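import Mathlib

set_option autoImplicit false
universe u
open Polynomial

namespace Groth.Agent.H4.A1Alg

/-- If `X ^ n ∣ g ^ N * a` for suitable `N` for every `n`, where `g = f * C (f.coeff 0)`,
then a power of `C (f.coeff 0)` kills `a`. -/
theorem exists_C_pow_mul_eq_zero {R : Type u} [CommRing R] (f a : R[X])
    (h : ∀ n : ℕ, ∃ N : ℕ, (X : R[X]) ^ n ∣ (f * C (f.coeff 0)) ^ N * a) :
    ∃ M : ℕ, C ((f.coeff 0) ^ M) * a = 0 := by
  obtain ⟨r, hr⟩ : ∃ r, r = f.coeff 0 := ⟨_, rfl⟩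
  obtain ⟨g, hg⟩ : ∃ g, g = f * C r := ⟨_, rfl⟩
  rw [← hr] at h ⊢
  rw [← hg] at h
  obtain ⟨n, hn⟩ : ∃ n, n = a.natDegree + 1 := ⟨_, rfl⟩
  obtain ⟨N, hN⟩ := h n
  have h1 : C r * C r ∈ Ideal.span {g} ⊔ Ideal.span {(X : R[X])} := by
    have e : C r * C r = g - X * (divX f * C r) := by
      have h0 := divX_mul_X_add f
      rw [← hr] at h0
      have h00 : g = (divX f * X + C r) * C r := by rw [h0, hg]
      rw [h00]
      ring
    rw [e]
    refine Ideal.sub_mem _ (Ideal.mem_sup_left (Ideal.subset_span rfl)) ?_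
    exact Ideal.mem_sup_right (Ideal.mul_mem_right _ _ (Ideal.subset_span rfl))
  have h2 : (C r * C r) ^ (N + n) ∈ Ideal.span {g} ^ N ⊔ Ideal.span {(X : R[X])} ^ n :=
    Ideal.sup_pow_add_le_pow_sup_pow (Ideal.pow_mem_pow h1 _)
  rw [Ideal.span_singleton_pow, Ideal.span_singleton_pow] at h2
  obtain ⟨u, hu, v, hv, huv⟩ := Submodule.mem_sup.mp h2
  obtain ⟨u', rfl⟩ := Ideal.mem_span_singleton'.mp hu
  obtain ⟨v', rfl⟩ := Ideal.mem_span_singleton'.mp hv
  have h3 : (X : R[X]) ^ n ∣ (C r * C r) ^ (N + n) * a := by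
    rw [← huv, add_mul]
    refine dvd_add ?_ ?_
    · rw [mul_assoc]
      exact Dvd.dvd.mul_left hN _
    · have e2 : v' * X ^ n * a = X ^ n * (v' * a) := by ring
      rw [e2]; exact Dvd.intro _ rfl
  refine ⟨2 * (N + n), ?_⟩
  have h4 : (C r * C r) ^ (N + n) = C (r ^ (2 * (N + n))) := by
    rw [← C_mul, ← C_pow, ← sq, ← pow_mul]
  rw [h4] at h3
  rw [X_pow_dvd_iff] at h3
  ext d
  rw [coeff_C_mul, coeff_zero]
  by_cases hd : d < n
  · have h5 := h3 d hd
    rwa [coeff_C_mul] at h5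
  · have h6 : a.natDegree < d := by omega
    rw [coeff_eq_zero_of_natDegree_lt h6, mul_zero]

/-- In the localization of `R[X]` away from `f * C (f.coeff 0)`, the intersection of the
ideals generated by the powers of `X` is zero. -/
theorem eq_zero_of_forall_mem_span_X_pow {R : Type u} [CommRing R] (f : R[X])
    {L : Type u} [CommRing L] [Algebra R[X] L] [IsLocalization.Away (f * C (f.coeff 0)) L]
    (b : L) (hb : ∀ n : ℕ, b ∈ Ideal.span {algebraMap R[X] L (X ^ n)}) : b = 0 := by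
  obtain ⟨g, hg⟩ : ∃ g, g = f * C (f.coeff 0) := ⟨_, rfl⟩
  have : IsLocalization.Away g L := by rw [hg]; infer_instance
  obtain ⟨a, s, rfl⟩ := IsLocalization.exists_mk'_eq (Submonoid.powers g) b
  have hunit : ∀ s : Submonoid.powers g, IsUnit (algebraMap R[X] L s) :=
    fun s => IsLocalization.map_units L s
  have ha : ∀ n : ℕ, algebraMap R[X] L a ∈ Ideal.span {algebraMap R[X] L (X ^ n)} := by
    intro n
    have h1 := Ideal.mul_mem_right (algebraMap R[X] L s) _ (hb n)
    rwa [IsLocalization.mk'_spec] at h1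
  have key : ∀ n : ℕ, ∃ N : ℕ, (X : R[X]) ^ n ∣ g ^ N * a := by
    intro n
    obtain ⟨c, hc⟩ := Ideal.mem_span_singleton'.mp (ha n)
    obtain ⟨c', s', rfl⟩ := IsLocalization.exists_mk'_eq (Submonoid.powers g) c
    have e1 : algebraMap R[X] L (c' * X ^ n) = algebraMap R[X] L (a * s') := by
      rw [map_mul, map_mul, ← hc, ← IsLocalization.mk'_spec L c' s']
      ring
    obtain ⟨t, ht⟩ := (IsLocalization.eq_iff_exists (Submonoid.powers g) L).mp e1
    obtain ⟨i, hi⟩ := t.2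
    obtain ⟨j, hj⟩ := s'.2
    have hi' : g ^ i = (t : R[X]) := hi
    have hj' : g ^ j = (s' : R[X]) := hj
    refine ⟨i + j, ?_⟩
    have e3 : g ^ (i + j) * a = X ^ n * ((t : R[X]) * c') := by
      rw [pow_add, hi', hj']
      calc (t : R[X]) * (s' : R[X]) * a = (t : R[X]) * (a * (s' : R[X])) := by ring
        _ = (t : R[X]) * (c' * X ^ n) := ht.symm
        _ = X ^ n * ((t : R[X]) * c') := by ring
    rw [e3]
    exact Dvd.intro _ rfl
  obtain ⟨M, hM⟩ := exists_C_pow_mul_eq_zero f a (by rw [← hg]; exact key)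
  have hCu : IsUnit (algebraMap R[X] L (C (f.coeff 0))) := by
    have hgu : IsUnit (algebraMap R[X] L g) := hunit ⟨g, Submonoid.mem_powers g⟩
    rw [hg, map_mul] at hgu
    exact isUnit_of_mul_isUnit_right hgu
  have h0 : algebraMap R[X] L a = 0 := by
    have h5 : algebraMap R[X] L (C ((f.coeff 0) ^ M)) * algebraMap R[X] L a = 0 := by
      rw [← map_mul, hM, map_zero]
    have hu2 : IsUnit (algebraMap R[X] L (C ((f.coeff 0) ^ M))) := by
      rw [C_pow, map_pow]
      exact hCu.pow M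
    exact (hu2.mul_right_eq_zero).mp h5
  have h7 : IsLocalization.mk' L a s * algebraMap R[X] L s = 0 := by
    rw [IsLocalization.mk'_spec, h0]
  exact ((hunit s).mul_left_eq_zero).mp h7

end Groth.Agent.H4.A1Alg
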