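import Mathlib
import Groth.Prelude.Def_Magnet3

set_option autoImplicit false
universe u
open CategoryTheory CategoryTheory.Limits MonoidalCategory CartesianMonoidalCategory MonObj AlgebraicGeometry Opposite
open Magnet

noncomputable section

namespace Groth.Agent.H4.A1Pts

/-- The submonoid of natural numbers inside `ℤ`. -/
abbrev NN : AddSubmonoid ℤ := AddSubmonoid.multiples (1 : ℤ)

/-- The monoid algebra `ℤ[ℕ]` at the prelude's spelling. -/
abbrev ZN : Type u := MonoidAlgebra (ULift.{u} ℤ) (Multiplicative ↥NN)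

/-- The generator of `ℕ`. -/
def gen : Multiplicative ↥NN := Multiplicative.ofAdd ⟨1, AddSubmonoid.mem_multiples 1⟩

/-- The coordinate function of the affine line, in the ring. -/
def x0 : ZN.{u} := MonoidAlgebra.single gen 1

/-- The base morphism. -/
abbrev tau (S : Scheme.{u}) : S ⟶ Spec (CommRingCat.of (ULift.{u} ℤ)) :=
  Limits.IsTerminal.from specULiftZIsTerminal S

/-- The coordinate function as a global section of `Spec ℤ[ℕ]`. -/
def x0' : Γ(Spec (CommRingCat.of ZN.{u}), ⊤) := (Scheme.ΓSpecIso (CommRingCat.of ZN.{u})).inv.hom x0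

variable (S : Scheme.{u})

/-- The affine line over `S` with its multiplicative monoid structure. -/
abbrev A1 : Over S := AMonS S ↥NN

/-- The projection `A¹_S ⟶ Spec ℤ[ℕ]`. -/
def prA : (A1 S).left ⟶ Spec (CommRingCat.of ZN.{u}) :=
  pullback.fst (AMon (ULift.{u} ℤ) ↥NN).hom (tau S)

/-- The coordinate function on `A¹_S`. -/
def xA : Γ((A1 S).left, ⊤) := (prA S).appTop.hom x0'

variable {S}

/-- The function attached to a point of the affine line. -/
def val {T : Over S} (m : T ⟶ A1 S) : Γ(T.left, ⊤) := m.left.appTop.hom (xA S)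

theorem val_comp {T T' : Over S} (t : T' ⟶ T) (m : T ⟶ A1 S) :
    val (t ≫ m) = t.left.appTop.hom (val m) := by
  unfold val
  rw [Over.comp_left, Scheme.Hom.comp_appTop]
  rfl

/-- Ring homomorphisms out of `ℤ[ℕ]` are determined by the image of the coordinate. -/
theorem ringHom_ext_x0 {B : Type u} [CommRing B] (φ ψ : ZN.{u} →+* B) (h : φ x0 = ψ x0) : φ = ψ := by
  apply MonoidAlgebra.ringHom_ext
  · intro b
    have e1 : (MonoidAlgebra.single (1 : Multiplicative ↥NN) b : ZN.{u}) =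
        ((b.down : ℤ) : ZN.{u}) := by
      have : b = ((b.down : ℤ) : ULift.{u} ℤ) := by
        apply ULift.ext; simp
      conv_lhs => rw [this]
      rw [MonoidAlgebra.intCast_def]
    rw [e1, map_intCast, map_intCast]
  · intro a
    obtain ⟨k, hk⟩ := (AddSubmonoid.mem_multiples_iff _ _).mp a.toAdd.2
    have e2 : (MonoidAlgebra.single a (1 : ULift.{u} ℤ) : ZN.{u}) = x0 ^ k := by
      unfold x0
      rw [MonoidAlgebra.single_pow, one_pow]
      congr 1
      apply Multiplicative.toAdd.injective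
      apply Subtype.ext
      simp [gen, ← hk]
    rw [e2, map_pow, map_pow, h]

theorem val_eq {T : Over S} (m : T ⟶ A1 S) :
    val m = ((Scheme.ΓSpecIso (CommRingCat.of ZN.{u})).inv ≫ (m.left ≫ prA S).appTop).hom x0 := by
  unfold val xA x0'
  rw [Scheme.Hom.comp_appTop]
  rfl

theorem val_injective {T : Over S} {m m' : T ⟶ A1 S} (h : val m = val m') : m = m' := by
  apply Over.OverMorphism.ext
  apply pullback.hom_ext
  · change m.left ≫ prA S = m'.left ≫ prA S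
    apply ext_of_isAffine
    have h1 : (Scheme.ΓSpecIso (CommRingCat.of ZN.{u})).inv ≫ (m.left ≫ prA S).appTop =
        (Scheme.ΓSpecIso (CommRingCat.of ZN.{u})).inv ≫ (m'.left ≫ prA S).appTop := by
      apply CommRingCat.hom_ext
      apply ringHom_ext_x0
      rw [← val_eq, ← val_eq, h]
    exact (cancel_epi _).mp h1
  · have h1 := Over.w m
    have h2 := Over.w m'
    exact h1.trans h2.symm

/-- The exponent of an element of `ℕ ⊆ ℤ`. -/
def natOf (n : ↥NN) : ℕ := n.1.toNat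

theorem natOf_spec (n : ↥NN) : ((natOf n : ℕ) : ℤ) = n.1 := by
  obtain ⟨k, hk⟩ := (AddSubmonoid.mem_multiples_iff _ _).mp n.2
  unfold natOf
  rw [← hk]
  simp

theorem natOf_add (a b : ↥NN) : natOf (a + b) = natOf a + natOf b := by
  have h1 := natOf_spec (a + b)
  have h2 := natOf_spec a
  have h3 := natOf_spec b
  have h : ((a + b : ↥NN) : ℤ) = a.1 + b.1 := rfl
  omega

theorem natOf_zero : natOf (0 : ↥NN) = 0 := by
  have h1 := natOf_spec 0
  have h : ((0 : ↥NN) : ℤ) = 0 := rfl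
  omega

theorem natOf_gen : natOf (Multiplicative.toAdd gen) = 1 := by
  have h1 := natOf_spec (Multiplicative.toAdd gen)
  have h : ((Multiplicative.toAdd gen : ↥NN) : ℤ) = 1 := rfl
  omega

/-- The monoid homomorphism `n ↦ s ^ n`. -/
def powHom {B : Type u} [CommRing B] (s : B) : Multiplicative ↥NN →* B where
  toFun n := s ^ natOf (Multiplicative.toAdd n)
  map_one' := by rw [toAdd_one, natOf_zero, pow_zero]
  map_mul' a b := by rw [toAdd_mul, natOf_add, pow_add]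

/-- The ring homomorphism `ℤ[ℕ] → B` sending the coordinate to `s`. -/
def evalHom {B : Type u} [CommRing B] (s : B) : ZN.{u} →+* B :=
  MonoidAlgebra.liftNCRingHom ((Int.castRingHom B).comp (ULift.ringEquiv : ULift.{u} ℤ ≃+* ℤ).toRingHom)
    (powHom s) (fun _ _ => Commute.all _ _)

theorem evalHom_x0 {B : Type u} [CommRing B] (s : B) : evalHom s x0 = s := by
  unfold evalHom x0
  rw [MonoidAlgebra.liftNCRingHom_single, map_one, _root_.one_mul]
  change s ^ natOf (Multiplicative.toAdd gen) = s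
  rw [natOf_gen, pow_one]

/-- The point of the affine line with a given coordinate. -/
def ptOf {T : Over S} (s : Γ(T.left, ⊤)) : T ⟶ A1 S :=
  Over.homMk (pullback.lift (T.left.toSpecΓ ≫ Spec.map (CommRingCat.ofHom (evalHom s))) T.hom
    (specULiftZIsTerminal.hom_ext _ _)) (pullback.lift_snd _ _ _)

theorem ptOf_left_prA {T : Over S} (s : Γ(T.left, ⊤)) :
    (ptOf s).left ≫ prA S = T.left.toSpecΓ ≫ Spec.map (CommRingCat.ofHom (evalHom s)) :=
  pullback.lift_fst _ _ _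

theorem val_ptOf {T : Over S} (s : Γ(T.left, ⊤)) : val (ptOf s) = s := by
  rw [val_eq, ptOf_left_prA, Scheme.Hom.comp_appTop, Scheme.toSpecΓ_appTop,
    Scheme.ΓSpecIso_naturality, Iso.inv_hom_id_assoc]
  exact evalHom_x0 s

theorem ptOf_val {T : Over S} (m : T ⟶ A1 S) : ptOf (val m) = m :=
  val_injective (val_ptOf _)

/-- The ring homomorphism attached to a morphism to an affine scheme. -/
def rh {Z : Scheme.{u}} {B : CommRingCat.{u}} (f : Z ⟶ Spec B) : B ⟶ Γ(Z, ⊤) :=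
  (Scheme.ΓSpecIso B).inv ≫ f.appTop

theorem rh_comp_SpecMap {Z : Scheme.{u}} {B B' : CommRingCat.{u}} (f : Z ⟶ Spec B) (φ : B' ⟶ B) :
    rh (f ≫ Spec.map φ) = φ ≫ rh f := by
  unfold rh
  rw [Scheme.Hom.comp_appTop, ← Category.assoc, ← Scheme.ΓSpecIso_inv_naturality, Category.assoc]

theorem rh_comp {Z Z' : Scheme.{u}} {B : CommRingCat.{u}} (g : Z' ⟶ Z) (f : Z ⟶ Spec B) :
    rh (g ≫ f) = rh f ≫ g.appTop := by
  unfold rh
  rw [Scheme.Hom.comp_appTop, Category.assoc]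

theorem val_eq_rh {T : Over S} (m : T ⟶ A1 S) : val m = (rh (m.left ≫ prA S)).hom x0 := val_eq m

theorem comul_x0 : Bialgebra.comulAlgHom (ULift.{u} ℤ) ZN.{u} x0 = x0 ⊗ₜ[ULift.{u} ℤ] x0 := by
  unfold x0
  simp [MonoidAlgebra.comul_single]

/-- The fibre square of `Spec ℤ[ℕ]` over `Spec ℤ`, in the spelling of `pullbackSpecIso`. -/
abbrev P0 : Scheme.{u} :=
  pullback (Spec.map (CommRingCat.ofHom (algebraMap (ULift.{u} ℤ) ZN.{u})))
    (Spec.map (CommRingCat.ofHom (algebraMap (ULift.{u} ℤ) ZN.{u})))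

variable (S) in
/-- The comparison morphism `(A¹ ⊗ A¹).left ⟶ (A₀ ⊗ A₀).left`. -/
def qq : (A1 S ⊗ A1 S).left ⟶ P0.{u} :=
  (Functor.LaxMonoidal.μ (Over.pullback (tau S)) (AMon (ULift.{u} ℤ) ↥NN)
    (AMon (ULift.{u} ℤ) ↥NN)).left ≫
    pullback.fst (AMon (ULift.{u} ℤ) ↥NN ⊗ AMon (ULift.{u} ℤ) ↥NN).hom (tau S)

theorem mu_left_prA : μ[A1 S].left ≫ prA S = qq S ≫
    (pullbackSpecIso (ULift.{u} ℤ) ZN.{u} ZN.{u}).hom ≫
      Spec.map (CommRingCat.ofHom (Bialgebra.comulAlgHom (ULift.{u} ℤ) ZN.{u}).toRingHom) := by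
  have h : ((Over.pullback (tau S)).map μ[AMon (ULift.{u} ℤ) ↥NN]).left ≫
      pullback.fst (AMon (ULift.{u} ℤ) ↥NN).hom (tau S) =
      pullback.fst (AMon (ULift.{u} ℤ) ↥NN ⊗ AMon (ULift.{u} ℤ) ↥NN).hom (tau S) ≫
        μ[AMon (ULift.{u} ℤ) ↥NN].left := by
    exact pullback.lift_fst _ _ _
  have h2 : μ[A1 S] = Functor.LaxMonoidal.μ (Over.pullback (tau S)) (AMon (ULift.{u} ℤ) ↥NN)
      (AMon (ULift.{u} ℤ) ↥NN) ≫ (Over.pullback (tau S)).map μ[AMon (ULift.{u} ℤ) ↥NN] :=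
    Functor.obj.μ_def _
  have h3 : μ[A1 S].left ≫ prA S = ((Functor.LaxMonoidal.μ (Over.pullback (tau S)) (AMon (ULift.{u} ℤ) ↥NN)
    (AMon (ULift.{u} ℤ) ↥NN)).left ≫
    pullback.fst (AMon (ULift.{u} ℤ) ↥NN ⊗ AMon (ULift.{u} ℤ) ↥NN).hom (tau S)) ≫
        μ[AMon (ULift.{u} ℤ) ↥NN].left := by
    rw [h2, Over.comp_left, Category.assoc, Category.assoc, ← h]
    rfl
  exact h3

theorem qq_fst : qq S ≫ pullback.fst _ _ = (fst (A1 S) (A1 S)).left ≫ prA S := by
  have h := Over.μ_pullback_left_fst_fst (f := tau S) (AMon (ULift.{u} ℤ) ↥NN) (AMon (ULift.{u} ℤ) ↥NN)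
  unfold qq
  rw [Category.assoc]
  exact h

theorem qq_snd : qq S ≫ pullback.snd _ _ = (snd (A1 S) (A1 S)).left ≫ prA S := by
  have h := Over.μ_pullback_left_fst_snd (f := tau S) (AMon (ULift.{u} ℤ) ↥NN) (AMon (ULift.{u} ℤ) ↥NN)
  unfold qq
  rw [Category.assoc]
  exact h

theorem val_mu : val (μ[A1 S]) = val (fst (A1 S) (A1 S)) * val (snd (A1 S) (A1 S)) := by
  rw [val_eq_rh, val_eq_rh, val_eq_rh, mu_left_prA, ← Category.assoc, rh_comp_SpecMap]
  obtain ⟨ρ, hρ⟩ : ∃ ρ, ρ = rh (qq S ≫ (pullbackSpecIso (ULift.{u} ℤ) ZN.{u} ZN.{u}).hom) := ⟨_, rfl⟩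
  rw [← hρ]
  have h1 : (CommRingCat.ofHom (Algebra.TensorProduct.includeLeftRingHom :
      ZN.{u} →+* TensorProduct (ULift.{u} ℤ) ZN.{u} ZN.{u})) ≫ ρ = rh ((fst (A1 S) (A1 S)).left ≫ prA S) := by
    rw [hρ, ← rh_comp_SpecMap, Category.assoc, pullbackSpecIso_hom_fst, qq_fst]
  have h2 : (CommRingCat.ofHom ((Algebra.TensorProduct.includeRight :
      ZN.{u} →ₐ[ULift.{u} ℤ] TensorProduct (ULift.{u} ℤ) ZN.{u} ZN.{u}).toRingHom)) ≫ ρ =
      rh ((snd (A1 S) (A1 S)).left ≫ prA S) := by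
    have h5 : (pullbackSpecIso (ULift.{u} ℤ) ZN.{u} ZN.{u}).hom ≫ Spec.map (CommRingCat.ofHom
        ((Algebra.TensorProduct.includeRight :
          ZN.{u} →ₐ[ULift.{u} ℤ] TensorProduct (ULift.{u} ℤ) ZN.{u} ZN.{u}).toRingHom)) =
        pullback.snd _ _ := pullbackSpecIso_hom_snd _ _ _
    rw [hρ, ← rh_comp_SpecMap, Category.assoc, h5, qq_snd]
  rw [← h1, ← h2]
  change ρ.hom (Bialgebra.comulAlgHom (ULift.{u} ℤ) ZN.{u} x0) = ρ.hom (x0 ⊗ₜ 1) * ρ.hom (1 ⊗ₜ x0)
  rw [comul_x0, ← map_mul, Algebra.TensorProduct.tmul_mul_tmul, _root_.mul_one, _root_.one_mul]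

theorem val_mul {T : Over S} (m m' : T ⟶ A1 S) : val (m * m') = val m * val m' := by
  rw [Hom.mul_def, val_comp, val_mu, map_mul, ← val_comp, ← val_comp, lift_fst, lift_snd]

theorem val_pow_succ {T : Over S} (m : T ⟶ A1 S) (n : ℕ) : val (m ^ (n + 1)) = val m ^ (n + 1) := by
  induction n with
  | zero => rw [zero_add, pow_one, pow_one]
  | succ k ih => rw [pow_succ, val_mul, ih, ← pow_succ]

/-- A point whose coordinate is nilpotent is nilpotent in the monoid of points. -/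
theorem isNilpotentPt {T : Over S} (m : T ⟶ A1 S) (n : ℕ) (h : val m ^ (n + 1) = 0) :
    ∀ m' : T ⟶ A1 S, m ^ (n + 1) * m' = m ^ (n + 1) := by
  intro m'
  apply val_injective
  rw [val_mul, val_pow_succ, h, zero_mul]

theorem rh_toSpecΓ_SpecMap {Z : Scheme.{u}} {B : CommRingCat.{u}} (φ : B ⟶ Γ(Z, ⊤)) :
    rh (Z.toSpecΓ ≫ Spec.map φ) = φ := by
  rw [rh_comp_SpecMap]
  unfold rh
  rw [Scheme.toSpecΓ_appTop, Iso.inv_hom_id, Category.comp_id]

/-! ### Points of the multiplicative group -/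

variable (S) in
/-- The multiplicative group over `S`. -/
abbrev Gm : Over S := AMonS S ℤ

variable (S) in
/-- The open immersion of the multiplicative group into the affine line. -/
abbrev jj : Gm S ⟶ A1 S := AMonS.map S NN.subtype

/-- The ring `ℤ[ℤ]`. -/
abbrev ZZ : Type u := MonoidAlgebra (ULift.{u} ℤ) (Multiplicative ℤ)

/-- The ring homomorphism `ℤ[ℤ] → B` attached to a unit. -/
def evalZ {B : Type u} [CommRing B] (v : Bˣ) : ZZ.{u} →+* B :=
  MonoidAlgebra.liftNCRingHom ((Int.castRingHom B).comp (ULift.ringEquiv : ULift.{u} ℤ ≃+* ℤ).toRingHom)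
    ((Units.coeHom B).comp (zpowersHom Bˣ v)) (fun _ _ => Commute.all _ _)

/-- The point of the multiplicative group attached to a unit. -/
def gmOf {T : Over S} (v : Γ(T.left, ⊤)ˣ) : T ⟶ Gm S :=
  Over.homMk (pullback.lift (T.left.toSpecΓ ≫ Spec.map (CommRingCat.ofHom (evalZ v))) T.hom
    (specULiftZIsTerminal.hom_ext _ _)) (pullback.lift_snd _ _ _)

variable (S) in
/-- The projection `𝔾_m ⟶ Spec ℤ[ℤ]`. -/
def prG : (Gm S).left ⟶ Spec (CommRingCat.of ZZ.{u}) :=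
  pullback.fst (AMon (ULift.{u} ℤ) ℤ).hom (tau S)

/-- The morphism `Spec ℤ[ℤ] ⟶ Spec ℤ[ℕ]`. -/
def jz : Spec (CommRingCat.of ZZ.{u}) ⟶ Spec (CommRingCat.of ZN.{u}) :=
  Spec.map (CommRingCat.ofHom
    (MonoidAlgebra.mapDomainBialgHom (ULift.{u} ℤ) (AddMonoidHom.toMultiplicative NN.subtype)).toAlgHom.toRingHom)

theorem jj_prA : (jj S).left ≫ prA S = prG S ≫ jz := by
  have h2 : (jj S).left ≫ pullback.fst (AMon (ULift.{u} ℤ) ↥NN).hom (tau S) =
      pullback.fst (AMon (ULift.{u} ℤ) ℤ).hom (tau S) ≫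
      (AMon.map (ULift.{u} ℤ) NN.subtype).left := pullback.lift_fst _ _ _
  exact h2

theorem gmOf_prG {T : Over S} (v : Γ(T.left, ⊤)ˣ) :
    (gmOf v).left ≫ prG S = T.left.toSpecΓ ≫ Spec.map (CommRingCat.ofHom (evalZ v)) :=
  pullback.lift_fst _ _ _

theorem val_gmOf_jj {T : Over S} (v : Γ(T.left, ⊤)ˣ) : val (gmOf v ≫ jj S) = (v : Γ(T.left, ⊤)) := by
  have h1 : (gmOf v ≫ jj S).left ≫ prA S = T.left.toSpecΓ ≫ Spec.map (CommRingCat.ofHom (evalZ v)) ≫ jz := by
    rw [Over.comp_left, Category.assoc, jj_prA, ← Category.assoc, gmOf_prG, Category.assoc]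
  rw [val_eq_rh, h1]
  unfold jz
  rw [← Spec.map_comp, rh_toSpecΓ_SpecMap]
  change evalZ v (MonoidAlgebra.mapDomainBialgHom (ULift.{u} ℤ) (AddMonoidHom.toMultiplicative NN.subtype) x0) = _
  unfold x0 evalZ
  simp [gen]

end Groth.Agent.H4.A1Pts
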