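import Mathlib
import Groth.Agent.H4.A1Pts

set_option autoImplicit false
universe u
open CategoryTheory CategoryTheory.Limits MonoidalCategory CartesianMonoidalCategory MonObj AlgebraicGeometry Opposite
open Magnet Polynomial
open Groth.Agent.H4.A1Pts

noncomputable section

namespace Groth.Agent.H4.A1Model

theorem rh_injective {Z : Scheme.{u}} {B : CommRingCat.{u}} {f g : Z ⟶ Spec B} (h : rh f = rh g) :
    f = g := by
  apply ext_of_isAffine
  unfold rh at h
  exact (cancel_epi _).mp h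

theorem toSpecΓ_SpecMap_rh {Z : Scheme.{u}} {B : CommRingCat.{u}} (f : Z ⟶ Spec B) :
    Z.toSpecΓ ≫ Spec.map (rh f) = f :=
  rh_injective (rh_toSpecΓ_SpecMap _)

theorem rh_SpecMap {B B' : CommRingCat.{u}} (φ : B ⟶ B') :
    rh (Spec.map φ) = φ ≫ (Scheme.ΓSpecIso B').inv := by
  unfold rh
  rw [Scheme.ΓSpecIso_inv_naturality]

theorem rh_id {B : CommRingCat.{u}} : rh (𝟙 (Spec B)) = (Scheme.ΓSpecIso B).inv := by
  unfold rh
  rw [Scheme.Hom.id_appTop, Category.comp_id]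

/-- The polynomial ring. -/
abbrev RX (R : CommRingCat.{u}) : CommRingCat.{u} := CommRingCat.of (Polynomial R)

/-- The inclusion of constants. -/
abbrev cC (R : CommRingCat.{u}) : R ⟶ RX R := CommRingCat.ofHom (C : R →+* (Polynomial R))

variable {S : Scheme.{u}} {R : CommRingCat.{u}} (hY : Spec R ⟶ S)

/-- The affine base. -/
abbrev YY : Over S := Over.mk hY

/-- The explicit model `Spec R[X]` of `A¹ × Y`. -/
def PP : Over S := Over.mk (Spec.map (cC R) ≫ hY)

/-- The coordinate as a global section. -/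
def sX : Γ((PP hY).left, ⊤) := (Scheme.ΓSpecIso (RX R)).inv.hom X

/-- The coordinate as a point of the affine line. -/
def mX : PP hY ⟶ A1 S := ptOf (sX hY)

/-- The projection to `Y`. -/
def yC : PP hY ⟶ YY hY := Over.homMk (Spec.map (cC R)) rfl

/-- The comparison morphism. -/
def ee : PP hY ⟶ A1 S ⊗ YY hY := lift (mX hY) (yC hY)

/-- The ring homomorphism `R → Γ(A¹ × Y)`. -/
def rhoY : R ⟶ Γ((A1 S ⊗ YY hY).left, ⊤) :=
  rh (show (A1 S ⊗ YY hY).left ⟶ Spec R from (snd (A1 S) (YY hY)).left)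

/-- The coordinate function on `A¹ × Y`. -/
def xP : Γ((A1 S ⊗ YY hY).left, ⊤) := val (fst (A1 S) (YY hY))

/-- The ring homomorphism `R[X] → Γ(A¹ × Y)`. -/
def phiInv : RX R ⟶ Γ((A1 S ⊗ YY hY).left, ⊤) :=
  CommRingCat.ofHom (Polynomial.eval₂RingHom (rhoY hY).hom (xP hY))

theorem cC_phiInv : cC R ≫ phiInv hY = rhoY hY := by
  apply CommRingCat.hom_ext
  apply RingHom.ext
  intro r
  change Polynomial.eval₂ (rhoY hY).hom (xP hY) (C r) = _
  rw [Polynomial.eval₂_C]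

theorem phiInv_X : (phiInv hY).hom X = xP hY := by
  change Polynomial.eval₂ (rhoY hY).hom (xP hY) X = _
  rw [Polynomial.eval₂_X]

/-- The inverse comparison morphism on underlying schemes. -/
def eeInvLeft : (A1 S ⊗ YY hY).left ⟶ Spec (RX R) :=
  (A1 S ⊗ YY hY).left.toSpecΓ ≫ Spec.map (phiInv hY)

theorem eeInvLeft_cC : eeInvLeft hY ≫ Spec.map (cC R) = (snd (A1 S) (YY hY)).left := by
  unfold eeInvLeft
  rw [Category.assoc, ← Spec.map_comp, cC_phiInv]
  exact toSpecΓ_SpecMap_rh _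

/-- The inverse comparison morphism. -/
def eeInv : A1 S ⊗ YY hY ⟶ PP hY :=
  Over.homMk (eeInvLeft hY) (by
    have h := Over.w (snd (A1 S) (YY hY))
    change eeInvLeft hY ≫ Spec.map (cC R) ≫ hY = _
    rw [← Category.assoc, eeInvLeft_cC]
    exact h)

theorem eeInv_yC : eeInv hY ≫ yC hY = snd (A1 S) (YY hY) := by
  apply Over.OverMorphism.ext
  exact eeInvLeft_cC hY

theorem val_mX : val (mX hY) = sX hY := val_ptOf _

theorem eeInv_mX : eeInv hY ≫ mX hY = fst (A1 S) (YY hY) := by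
  apply val_injective
  rw [val_comp, val_mX]
  change ((Scheme.ΓSpecIso (RX R)).inv ≫ (eeInvLeft hY).appTop).hom X = _
  have h : (Scheme.ΓSpecIso (RX R)).inv ≫ (eeInvLeft hY).appTop = phiInv hY :=
    rh_toSpecΓ_SpecMap _
  rw [h, phiInv_X]
  rfl

theorem eeInv_ee : eeInv hY ≫ ee hY = 𝟙 _ := by
  unfold ee
  rw [comp_lift, eeInv_mX, eeInv_yC, lift_fst_snd]

theorem ee_eeInv : ee hY ≫ eeInv hY = 𝟙 _ := by
  apply Over.OverMorphism.ext
  rw [Over.comp_left, Over.id_left]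
  change (ee hY).left ≫ eeInvLeft hY = 𝟙 (Spec (RX R))
  apply rh_injective
  unfold eeInvLeft
  rw [rh_comp, rh_toSpecΓ_SpecMap]
  erw [rh_id]
  apply CommRingCat.hom_ext
  apply Polynomial.ringHom_ext
  · intro r
    change (ee hY).left.appTop.hom ((cC R ≫ phiInv hY).hom r) = _
    rw [cC_phiInv]
    change ((rhoY hY) ≫ (ee hY).left.appTop).hom r = _
    have h1 : (rhoY hY) ≫ (ee hY).left.appTop = cC R ≫ (Scheme.ΓSpecIso (RX R)).inv := by
      unfold rhoY
      rw [← rh_comp, ← rh_SpecMap]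
      congr 1
      have h2 : ee hY ≫ snd (A1 S) (YY hY) = yC hY := lift_snd _ _
      exact congrArg Over.Hom.left h2
    rw [h1]
    rfl
  · change (ee hY).left.appTop.hom ((phiInv hY).hom X) = _
    rw [phiInv_X]
    unfold xP
    rw [← val_comp]
    have h2 : ee hY ≫ fst (A1 S) (YY hY) = mX hY := lift_fst _ _
    rw [h2, val_mX]
    rfl

/-- The comparison isomorphism `Spec R[X] ≅ A¹ × Y`. -/
def eeIso : PP hY ≅ A1 S ⊗ YY hY where
  hom := ee hY
  inv := eeInv hY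
  hom_inv_id := ee_eeInv hY
  inv_hom_id := eeInv_ee hY

/-- The ring-theoretic form of the hypothesis "agreement on all nilpotent points". -/
theorem hyp_ring {X' : Over S} (γ₁ γ₂ : A1 S ⊗ YY hY ⟶ X')
    (h : ∀ (T : Over S) (m : T ⟶ A1 S) (t : T ⟶ YY hY),
      (∃ n : ℕ, ∀ m' : T ⟶ A1 S, m ^ (n + 1) * m' = m ^ (n + 1)) →
        lift m t ≫ γ₁ = lift m t ≫ γ₂)
    (K : CommRingCat.{u}) (θ : RX R ⟶ K) (n : ℕ) (hθ : θ.hom X ^ (n + 1) = 0) :
    Spec.map θ ≫ (ee hY ≫ γ₁).left = Spec.map θ ≫ (ee hY ≫ γ₂).left := by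
  obtain ⟨T, hT⟩ : ∃ T : Over S, T = Over.mk (Spec.map θ ≫ (PP hY).hom) := ⟨_, rfl⟩
  subst hT
  obtain ⟨θS, hθS⟩ : ∃ θS : Over.mk (Spec.map θ ≫ (PP hY).hom) ⟶ PP hY,
      θS = Over.homMk (Spec.map θ) rfl := ⟨_, rfl⟩
  have hval : val (θS ≫ mX hY) ^ (n + 1) = 0 := by
    rw [val_comp, val_mX, hθS]
    change ((Spec.map θ).appTop.hom ((Scheme.ΓSpecIso (RX R)).inv.hom X)) ^ (n + 1) = 0
    have h1 : (Spec.map θ).appTop.hom ((Scheme.ΓSpecIso (RX R)).inv.hom X) =
        (Scheme.ΓSpecIso K).inv.hom (θ.hom X) := by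
      have h2 := Scheme.ΓSpecIso_inv_naturality θ
      exact (congrArg (fun t => t.hom X) h2).symm
    rw [h1, ← map_pow, hθ, map_zero]
  have h3 := h _ (θS ≫ mX hY) (θS ≫ yC hY) ⟨n, isNilpotentPt _ n hval⟩
  rw [← comp_lift] at h3
  have h4 : (θS ≫ ee hY ≫ γ₁).left = (θS ≫ ee hY ≫ γ₂).left := by
    rw [← Category.assoc, ← Category.assoc]
    exact congrArg Over.Hom.left h3
  have h5 : θS.left = Spec.map θ := by rw [hθS]; rfl
  have h6 : ∀ δ : PP hY ⟶ X', (θS ≫ δ).left = Spec.map θ ≫ δ.left := by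
    intro δ
    rw [Over.comp_left]
    exact congrArg (fun t => t ≫ δ.left) h5
  rw [h6, h6] at h4
  exact h4

end Groth.Agent.H4.A1Model
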