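import Mathlib
import Groth.Agent.H4.A1Pts
import Groth.Agent.H4.A1Model

set_option autoImplicit false
universe u v₁ u₁
open CategoryTheory CategoryTheory.Limits MonoidalCategory CartesianMonoidalCategory MonObj AlgebraicGeometry Opposite
open Magnet Polynomial
open Groth.Agent.H4.A1Pts Groth.Agent.H4.A1Model

noncomputable section

namespace Groth.Agent.H4.A1Cover

section Shear

variable {C : Type u₁} [Category.{v₁} C] [CartesianMonoidalCategory C] {G P : C} [GrpObj G]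

/-- The shear map `(g, p) ↦ (g, g • p)`. -/
def shear (a : MonAct G P) : G ⊗ P ⟶ G ⊗ P := lift (fst G P) a.act

/-- The inverse shear map `(g, p) ↦ (g, g⁻¹ • p)`. -/
def shearInv (a : MonAct G P) : G ⊗ P ⟶ G ⊗ P :=
  lift (fst G P) (lift (fst G P)⁻¹ (snd G P) ≫ a.act)

theorem shear_snd (a : MonAct G P) : shear a ≫ snd G P = a.act := lift_snd _ _

theorem act_eq (a : MonAct G P) : a.act = lift (fst G P) (snd G P) ≫ a.act := by
  rw [lift_fst_snd, Category.id_comp]

theorem shear_shearInv (a : MonAct G P) : shear a ≫ shearInv a = 𝟙 _ := by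
  unfold shear shearInv
  rw [comp_lift, lift_fst, ← Category.assoc, comp_lift, lift_snd, GrpObj.comp_inv, lift_fst]
  nth_rewrite 1 [act_eq a]
  rw [← a.lift_mul_act, inv_mul_cancel, a.lift_one_act, lift_fst_snd]

theorem shearInv_shear (a : MonAct G P) : shearInv a ≫ shear a = 𝟙 _ := by
  unfold shear shearInv
  rw [comp_lift, lift_fst, ← a.lift_mul_act, mul_inv_cancel, a.lift_one_act, lift_fst_snd]

instance (a : MonAct G P) : IsIso (shear a) :=
  ⟨shearInv a, shear_shearInv a, shearInv_shear a⟩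

end Shear

variable {S : Scheme.{u}}

instance : GrpObj (Gm S) := Red.grpObj_bc _ _

example : (inferInstance : GrpObj (Gm S)).toMonObj = (inferInstance : MonObj (Gm S)) := rfl

variable (S) in
/-- The action of the multiplicative group on the affine line. -/
abbrev rho : MonAct (Gm S) (A1 S) := subAct S ℤ NN

variable (S) in
/-- The action of the multiplicative group on `A¹ × Y` through the first factor. -/
abbrev rhoY (Y : Over S) : MonAct (Gm S) (A1 S ⊗ Y) := (rho S).prod (MonAct.trivial (Gm S) Y)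

theorem lift_rhoY_act {Y T : Over S} (g : T ⟶ Gm S) (b : T ⟶ A1 S) (t : T ⟶ Y) :
    lift g (lift b t) ≫ (rhoY S Y).act = lift ((g ≫ jj S) * b) t := by
  rw [MonAct.lift_prod_act, MonAct.lift_trivial_act]
  congr 1
  unfold rho subAct
  rw [MonAct.lift_restrict_act, MonAct.lift_regular_act]

instance flat_Gm_hom : Flat (Gm S).hom := by
  have h0 : Flat (AMon (ULift.{u} ℤ) ℤ).hom := by
    change Flat (Spec.map (CommRingCat.ofHom (algebraMap (ULift.{u} ℤ) ZZ.{u})))
    rw [HasRingHomProperty.Spec_iff (P := @Flat)]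
    rw [CommRingCat.hom_ofHom, RingHom.flat_algebraMap_iff]
    infer_instance
  change Flat (pullback.snd (AMon (ULift.{u} ℤ) ℤ).hom (tau S))
  infer_instance

instance lfp_Gm_hom : LocallyOfFinitePresentation (Gm S).hom := by
  have h0 : LocallyOfFinitePresentation (AMon (ULift.{u} ℤ) ℤ).hom := by
    change LocallyOfFinitePresentation (Spec.map (CommRingCat.ofHom (algebraMap (ULift.{u} ℤ) ZZ.{u})))
    rw [HasRingHomProperty.Spec_iff (P := @LocallyOfFinitePresentation)]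
    rw [CommRingCat.hom_ofHom, RingHom.finitePresentation_algebraMap]
    have : IsNoetherianRing (ULift.{u} ℤ) :=
      isNoetherianRing_of_ringEquiv ℤ (ULift.ringEquiv (R := ℤ)).symm
    have : Algebra.FiniteType (ULift.{u} ℤ) ZZ.{u} := MonoidAlgebra.finiteType_of_fg
    exact Algebra.FinitePresentation.of_finiteType.mp inferInstance
  change LocallyOfFinitePresentation (pullback.snd (AMon (ULift.{u} ℤ) ℤ).hom (tau S))
  infer_instance

theorem act_left_eq (Y : Over S) : (rhoY S Y).act.left =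
    (shear (rhoY S Y)).left ≫ pullback.snd (Gm S).hom (A1 S ⊗ Y).hom := by
  have h := congrArg Over.Hom.left (shear_snd (rhoY S Y))
  rw [Over.comp_left] at h
  exact h.symm

instance (Y : Over S) : IsIso (shear (rhoY S Y)).left :=
  inferInstanceAs (IsIso ((Over.forget S).map (shear (rhoY S Y))))

instance flat_act (Y : Over S) : Flat (rhoY S Y).act.left := by
  rw [act_left_eq]
  infer_instance

instance lfp_act (Y : Over S) : LocallyOfFinitePresentation (rhoY S Y).act.left := by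
  rw [act_left_eq]
  infer_instance

/-- The generic point lies in every nonempty open subset of `Spec K[X]`. -/
theorem generic_mem {K : Type u} [Field K] (V : TopologicalSpace.Opens (PrimeSpectrum K[X]))
    (x : PrimeSpectrum K[X]) (hx : x ∈ V) :
    (⟨⊥, Ideal.bot_prime⟩ : PrimeSpectrum K[X]) ∈ V := by
  have h : (⟨⊥, Ideal.bot_prime⟩ : PrimeSpectrum K[X]) ⤳ x :=
    (PrimeSpectrum.le_iff_specializes _ _).mp bot_le
  exact h.mem_open V.isOpen hx

theorem ΓSpecIso_inv_apply_SpecMap {B B' : CommRingCat.{u}} (φ : B ⟶ B') (b : B) :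
    (Spec.map φ).appTop.hom ((Scheme.ΓSpecIso B).inv.hom b) = (Scheme.ΓSpecIso B').inv.hom (φ.hom b) := by
  have h2 := Scheme.ΓSpecIso_inv_naturality φ
  exact (congrArg (fun t => t.hom b) h2).symm

section Orbit

variable {K : CommRingCat.{u}} (t : Spec K ⟶ S)

/-- `Spec K[X]` over `S`. -/
def TKX : Over S := Over.mk (Spec.map (cC K) ≫ t)

/-- The projection `Spec K[X] ⟶ Spec K`. -/
def iC : TKX t ⟶ Over.mk t := Over.homMk (Spec.map (cC K)) rfl

variable (K) in
/-- Evaluation at zero. -/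
def ev0 : RX K ⟶ K := CommRingCat.ofHom (Polynomial.evalRingHom (0 : K))

theorem cC_ev0 : cC K ≫ ev0 K = 𝟙 K := by
  apply CommRingCat.hom_ext
  apply RingHom.ext
  intro r
  change Polynomial.eval 0 (C r) = r
  rw [Polynomial.eval_C]

/-- The origin of `Spec K[X]`. -/
def orig : Over.mk t ⟶ TKX t := Over.homMk (Spec.map (ev0 K)) (by
  change Spec.map (ev0 K) ≫ Spec.map (cC K) ≫ t = t
  rw [← Category.assoc, ← Spec.map_comp, cC_ev0, Spec.map_id, Category.id_comp])

variable (K) in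
/-- The field of rational functions. -/
abbrev KF : CommRingCat.{u} := CommRingCat.of (FractionRing (Polynomial K))

variable (K) in
/-- The inclusion of the polynomial ring in the field of rational functions. -/
def toKF : RX K ⟶ KF K := CommRingCat.ofHom (algebraMap (Polynomial K) (FractionRing (Polynomial K)))

/-- `Spec K(X)` over `S`. -/
def TKF : Over S := Over.mk (Spec.map (toKF K) ≫ (TKX t).hom)

/-- The generic point of `Spec K[X]`. -/
def xi : TKF t ⟶ TKX t := Over.homMk (Spec.map (toKF K)) rfl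

/-- The coordinate of `Spec K[X]`. -/
def sXK : Γ((TKX t).left, ⊤) := (Scheme.ΓSpecIso (RX K)).inv.hom X

end Orbit

/-- Every field-valued point of `A¹ × Y` lies, after a field extension, in the `𝔾_m`-orbit of a point
of any open neighbourhood `W` of the zero section. -/
theorem orbit_aux {Y : Over S} (W : (A1 S ⊗ Y).left.Opens)
    (hZ : ∀ (K : Type u) [Field K] (t : Spec (CommRingCat.of K) ⟶ S) (z : Over.mk t ⟶ A1 S ⊗ Y),
      val (z ≫ fst _ _) = 0 → ∀ pt : Spec (CommRingCat.of K), z.left.base pt ∈ W)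
    (K : Type u) [Field K] (t : Spec (CommRingCat.of K) ⟶ S) (m : Over.mk t ⟶ A1 S)
    (y : Over.mk t ⟶ Y) :
    ∃ (T : Over S) (ξ : T ⟶ Over.mk t) (g : T ⟶ Gm S) (b : T ⟶ A1 S) (pt : T.left),
      (lift b (ξ ≫ y)).left.base pt ∈ W ∧ (g ≫ jj S) * b = ξ ≫ m := by
  -- the family `(X·m, y)`
  obtain ⟨σ, hσ⟩ : ∃ σ : Γ((TKX t).left, ⊤),
      σ = sXK t * (iC t).left.appTop.hom (val m) := ⟨_, rfl⟩
  obtain ⟨c2, hc2⟩ : ∃ c2 : TKX t ⟶ A1 S ⊗ Y, c2 = lift (ptOf σ) (iC t ≫ y) := ⟨_, rfl⟩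
  -- the origin
  have ho1 : val ((orig t ≫ c2) ≫ fst _ _) = 0 := by
    rw [Category.assoc, hc2, lift_fst, val_comp, val_ptOf, hσ, map_mul]
    have h0 : (orig t).left.appTop.hom (sXK t) = 0 := by
      change (Spec.map (ev0 (CommRingCat.of K))).appTop.hom
        ((Scheme.ΓSpecIso (RX (CommRingCat.of K))).inv.hom X) = 0
      rw [ΓSpecIso_inv_apply_SpecMap]
      change (Scheme.ΓSpecIso (CommRingCat.of K)).inv.hom (Polynomial.eval 0 X) = 0
      rw [Polynomial.eval_X, map_zero]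
    rw [h0, zero_mul]
  have hV0 : ∀ pt : Spec (CommRingCat.of K), (orig t ≫ c2).left.base pt ∈ W :=
    hZ K t (orig t ≫ c2) ho1
  -- the generic point
  have hgen : ∀ pt' : (TKF t).left, (xi t ≫ c2).left.base pt' ∈ W := by
    intro pt'
    have hV : (⟨⊥, Ideal.bot_prime⟩ : PrimeSpectrum K[X]) ∈
        (c2.left ⁻¹ᵁ W : (Spec (RX (CommRingCat.of K))).Opens) := by
      apply generic_mem _ ((orig t).left.base ⟨⊥, Ideal.bot_prime⟩)
      exact hV0 _
    have hpt : (xi t).left.base pt' = (⟨⊥, Ideal.bot_prime⟩ : PrimeSpectrum K[X]) := by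
      apply PrimeSpectrum.ext
      change Ideal.comap (algebraMap K[X] (FractionRing K[X])) pt'.asIdeal = ⊥
      have h1 : pt'.asIdeal = ⊥ := Ideal.eq_bot_of_prime _
      rw [h1, ← RingHom.ker_eq_comap_bot,
        (RingHom.injective_iff_ker_eq_bot _).mp (IsFractionRing.injective K[X] (FractionRing K[X]))]
    change c2.left.base ((xi t).left.base pt') ∈ W
    rw [hpt]
    exact hV
  -- the unit `X⁻¹`
  have hXne : algebraMap K[X] (FractionRing K[X]) X ≠ 0 := by
    rw [Ne, map_eq_zero_iff _ (IsFractionRing.injective K[X] (FractionRing K[X]))]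
    exact Polynomial.X_ne_zero
  obtain ⟨v, hv⟩ : ∃ v : Γ((TKF t).left, ⊤)ˣ, (v : Γ((TKF t).left, ⊤)) =
      (Scheme.ΓSpecIso (KF (CommRingCat.of K))).inv.hom (algebraMap K[X] (FractionRing K[X]) X)⁻¹ :=
    ⟨Units.map (Scheme.ΓSpecIso (KF (CommRingCat.of K))).inv.hom.toMonoidHom
      (Units.mk0 _ (inv_ne_zero hXne)), rfl⟩
  refine ⟨TKF t, xi t ≫ iC t, gmOf v, xi t ≫ ptOf σ, (⟨⊥, Ideal.bot_prime⟩ : PrimeSpectrum (FractionRing K[X])), ?_, ?_⟩
  · have h2 : lift (xi t ≫ ptOf σ) ((xi t ≫ iC t) ≫ y) = xi t ≫ c2 := by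
      rw [hc2, comp_lift, Category.assoc]
    rw [h2]
    exact hgen _
  · apply val_injective
    rw [val_mul, val_gmOf_jj, hv, val_comp, val_ptOf, hσ, map_mul, val_comp, Over.comp_left,
      Scheme.Hom.comp_appTop]
    have h3 : (xi t).left.appTop.hom (sXK t) =
        (Scheme.ΓSpecIso (KF (CommRingCat.of K))).inv.hom (algebraMap K[X] (FractionRing K[X]) X) := by
      change (Spec.map (toKF (CommRingCat.of K))).appTop.hom
        ((Scheme.ΓSpecIso (RX (CommRingCat.of K))).inv.hom X) = _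
      rw [ΓSpecIso_inv_apply_SpecMap]
      rfl
    rw [h3]
    have h4 : (Scheme.ΓSpecIso (KF (CommRingCat.of K))).inv.hom (algebraMap K[X] (FractionRing K[X]) X)⁻¹ *
        (Scheme.ΓSpecIso (KF (CommRingCat.of K))).inv.hom (algebraMap K[X] (FractionRing K[X]) X) = 1 := by
      rw [← map_mul, inv_mul_cancel₀ hXne, map_one]
    have key : ∀ (a b r : Γ((TKF t).left, ⊤)), a * b = 1 → a * (b * r) = r := by
      intro a b r h
      rw [← _root_.mul_assoc, h, _root_.one_mul]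
    exact key _ _ _ h4

theorem surjective_cover {Y : Over S} (W : (A1 S ⊗ Y).left.Opens)
    (hZ : ∀ (K : Type u) [Field K] (t : Spec (CommRingCat.of K) ⟶ S) (z : Over.mk t ⟶ A1 S ⊗ Y),
      val (z ≫ fst _ _) = 0 → ∀ pt : Spec (CommRingCat.of K), z.left.base pt ∈ W) :
    Surjective (((snd (Gm S) (A1 S ⊗ Y)).left ⁻¹ᵁ W).ι ≫ (rhoY S Y).act.left) := by
  refine ⟨fun p => ?_⟩
  obtain ⟨pt0, hpt0⟩ : ∃ pt0 : Spec (CommRingCat.of ((A1 S ⊗ Y).left.residueField p)) ⟶ (A1 S ⊗ Y).left,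
      pt0 = (A1 S ⊗ Y).left.fromSpecResidueField p := ⟨_, rfl⟩
  obtain ⟨pbar, hpbar⟩ : ∃ pbar : Over.mk (pt0 ≫ (A1 S ⊗ Y).hom) ⟶ A1 S ⊗ Y,
      pbar = Over.homMk pt0 rfl := ⟨_, rfl⟩
  obtain ⟨T, ξ, g, b, pt, h1, h2⟩ := orbit_aux W hZ ((A1 S ⊗ Y).left.residueField p)
    (pt0 ≫ (A1 S ⊗ Y).hom) (pbar ≫ fst _ _) (pbar ≫ snd _ _)
  obtain ⟨z, hz⟩ : ∃ z : T ⟶ Gm S ⊗ (A1 S ⊗ Y), z = lift g (lift b (ξ ≫ pbar ≫ snd _ _)) := ⟨_, rfl⟩
  have hq : z.left.base pt ∈ (snd (Gm S) (A1 S ⊗ Y)).left ⁻¹ᵁ W := by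
    change (z ≫ snd (Gm S) (A1 S ⊗ Y)).left.base pt ∈ W
    rw [hz, lift_snd]
    exact h1
  refine ⟨⟨z.left.base pt, hq⟩, ?_⟩
  change (z ≫ (rhoY S Y).act).left.base pt = p
  have h3 : z ≫ (rhoY S Y).act = ξ ≫ pbar := by
    rw [hz, lift_rhoY_act, h2, ← comp_lift, lift_comp_fst_snd]
  rw [h3]
  change pbar.left.base (ξ.left.base pt) = p
  have h4 : pbar.left = (A1 S ⊗ Y).left.fromSpecResidueField p := by rw [hpbar, ← hpt0]; rfl
  rw [h4]
  exact Scheme.fromSpecResidueField_apply _ _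

/-- Two equivariant morphisms `A¹ × Y ⟶ X'` which agree on an open neighbourhood of the zero
section are equal. -/
theorem eq_of_agree_near_zero {X' Y : Over S} (a : MonAct (Gm S) X')
    (γ₁ γ₂ : A1 S ⊗ Y ⟶ X')
    (hγ₁ : MonAct.IsEquivariant (rhoY S Y) a γ₁) (hγ₂ : MonAct.IsEquivariant (rhoY S Y) a γ₂)
    (W : (A1 S ⊗ Y).left.Opens) (hW : W.ι ≫ γ₁.left = W.ι ≫ γ₂.left)
    (hZ : ∀ (K : Type u) [Field K] (t : Spec (CommRingCat.of K) ⟶ S) (z : Over.mk t ⟶ A1 S ⊗ Y),
      val (z ≫ fst _ _) = 0 → ∀ pt : Spec (CommRingCat.of K), z.left.base pt ∈ W) :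
    γ₁ = γ₂ := by
  have hA : ((snd (Gm S) (A1 S ⊗ Y)).left ⁻¹ᵁ W).ι ≫ (Gm S ◁ γ₁).left =
      ((snd (Gm S) (A1 S ⊗ Y)).left ⁻¹ᵁ W).ι ≫ (Gm S ◁ γ₂).left := by
    apply pullback.hom_ext
    · rw [Category.assoc, Category.assoc, Over.whiskerLeft_left_fst, Over.whiskerLeft_left_fst]
    · rw [Category.assoc, Category.assoc, Over.whiskerLeft_left_snd, Over.whiskerLeft_left_snd]
      have h1 : ((snd (Gm S) (A1 S ⊗ Y)).left ⁻¹ᵁ W).ι ≫ pullback.snd (Gm S).hom (A1 S ⊗ Y).hom =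
          ((snd (Gm S) (A1 S ⊗ Y)).left ∣_ W) ≫ W.ι := by
        exact (morphismRestrict_ι _ _).symm
      rw [← Category.assoc, ← Category.assoc, h1, Category.assoc, Category.assoc, hW]
  have hB : (((snd (Gm S) (A1 S ⊗ Y)).left ⁻¹ᵁ W).ι ≫ (rhoY S Y).act.left) ≫ γ₁.left =
      (((snd (Gm S) (A1 S ⊗ Y)).left ⁻¹ᵁ W).ι ≫ (rhoY S Y).act.left) ≫ γ₂.left := by
    have e1 := congrArg Over.Hom.left hγ₁
    have e2 := congrArg Over.Hom.left hγ₂
    rw [Over.comp_left, Over.comp_left] at e1 e2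
    rw [Category.assoc, Category.assoc, e1, e2, ← Category.assoc, ← Category.assoc, hA]
  have : Surjective (((snd (Gm S) (A1 S ⊗ Y)).left ⁻¹ᵁ W).ι ≫ (rhoY S Y).act.left) :=
    surjective_cover W hZ
  have : Epi (((snd (Gm S) (A1 S ⊗ Y)).left ⁻¹ᵁ W).ι ≫ (rhoY S Y).act.left) := inferInstance
  apply Over.OverMorphism.ext
  exact (cancel_epi _).mp hB

end Groth.Agent.H4.A1Cover
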