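import Mathlib
import Groth.Agent.H4.A1Alg

set_option autoImplicit false
universe u
open CategoryTheory CategoryTheory.Limits AlgebraicGeometry Opposite
open Polynomial
open Groth.Agent.H4.A1Alg

noncomputable section

namespace Groth.Agent.H4.A1Local

/-- Two morphisms out of `Spec R[X]` which agree on all points with nilpotent coordinate agree on a
basic open neighbourhood of every point of the zero section. -/
theorem local_agree {R : Type u} [CommRing R] {X' : Scheme.{u}}
    (c₁ c₂ : Spec (CommRingCat.of R[X]) ⟶ X')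
    (H : ∀ (K : CommRingCat.{u}) (θ : CommRingCat.of R[X] ⟶ K) (n : ℕ),
      θ.hom X ^ (n + 1) = 0 → Spec.map θ ≫ c₁ = Spec.map θ ≫ c₂)
    (p : PrimeSpectrum R[X]) (hp : (X : R[X]) ∈ p.asIdeal) :
    ∃ g : R[X], g ∉ p.asIdeal ∧
      Spec.map (CommRingCat.ofHom (algebraMap R[X] (Localization.Away g))) ≫ c₁ =
        Spec.map (CommRingCat.ofHom (algebraMap R[X] (Localization.Away g))) ≫ c₂ := by
  -- step 1: the two images of `p` coincide
  have hpt : c₁.base p = c₂.base p := by
    have h0 := H (CommRingCat.of (R[X] ⧸ p.asIdeal)) (CommRingCat.ofHom (Ideal.Quotient.mk p.asIdeal)) 0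
      (by
        change (Ideal.Quotient.mk p.asIdeal X) ^ (0 + 1) = 0
        rw [zero_add, pow_one]
        exact Ideal.Quotient.eq_zero_iff_mem.mpr hp)
    obtain ⟨z, hz⟩ : ∃ z : Spec (CommRingCat.of (R[X] ⧸ p.asIdeal)),
        (Spec.map (CommRingCat.ofHom (Ideal.Quotient.mk p.asIdeal))).base z = p := by
      refine ⟨⟨⊥, Ideal.bot_prime⟩, ?_⟩
      apply PrimeSpectrum.ext
      change Ideal.comap (Ideal.Quotient.mk p.asIdeal) ⊥ = p.asIdeal
      rw [← RingHom.ker_eq_comap_bot, Ideal.mk_ker]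
    have h1 := congrArg (fun f => f.base z) h0
    simp only [Scheme.Hom.comp_base, TopCat.comp_app] at h1
    rw [hz] at h1
    exact h1
  -- step 2: an affine open neighbourhood of the common image
  obtain ⟨V, hV, hqV, -⟩ := exists_isAffineOpen_mem_and_subset (X := X') (x := c₁.base p)
    (U := ⊤) (by trivial)
  have hp1 : p ∈ c₁ ⁻¹ᵁ V := hqV
  have hp2 : p ∈ c₂ ⁻¹ᵁ V := by
    change c₂.base p ∈ V
    rw [← hpt]; exact hqV
  -- step 3: a basic open inside both preimages
  have hpU : p ∈ (c₁ ⁻¹ᵁ V ⊓ c₂ ⁻¹ᵁ V : (Spec (CommRingCat.of R[X])).Opens) := ⟨hp1, hp2⟩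
  obtain ⟨_, ⟨f, rfl⟩, hpf, hfU⟩ := (TopologicalSpace.Opens.isBasis_iff_nbhd.mp
    (PrimeSpectrum.isBasis_basic_opens (R := R[X]))) hpU
  have hfp : f ∉ p.asIdeal := hpf
  have hf0p : C (f.coeff 0) ∉ p.asIdeal := by
    intro h0
    apply hfp
    rw [← divX_mul_X_add f]
    exact Ideal.add_mem _ (Ideal.mul_mem_left _ _ hp) h0
  obtain ⟨g, hg⟩ : ∃ g, g = f * C (f.coeff 0) := ⟨_, rfl⟩
  have hgp : g ∉ p.asIdeal := by
    rw [hg]
    intro h0
    rcases p.2.mem_or_mem h0 with h1 | h1
    · exact hfp h1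
    · exact hf0p h1
  refine ⟨g, hgp, ?_⟩
  subst hg
  obtain ⟨jg, hjg⟩ : ∃ jg, jg = Spec.map (CommRingCat.ofHom
    (algebraMap R[X] (Localization.Away (f * C (f.coeff 0))))) := ⟨_, rfl⟩
  rw [← hjg]
  have hrange : Set.range jg.base =
      ((PrimeSpectrum.basicOpen (f * C (f.coeff 0)) : TopologicalSpace.Opens (PrimeSpectrum R[X])) :
        Set (PrimeSpectrum R[X])) := by
    rw [hjg]
    exact PrimeSpectrum.localization_away_comap_range (Localization.Away (f * C (f.coeff 0))) _
  have hle : (PrimeSpectrum.basicOpen (f * C (f.coeff 0)) : Set (PrimeSpectrum R[X])) ⊆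
      PrimeSpectrum.basicOpen f := by
    rw [PrimeSpectrum.basicOpen_mul]
    exact Set.inter_subset_left
  have hmem : ∀ z, jg.base z ∈ (c₁ ⁻¹ᵁ V ⊓ c₂ ⁻¹ᵁ V : (Spec (CommRingCat.of R[X])).Opens) := by
    intro z
    apply hfU
    apply hle
    rw [← hrange]
    exact Set.mem_range_self z
  have hr1 : Set.range (jg ≫ c₁).base ⊆ Set.range V.ι.base := by
    rw [Scheme.Opens.range_ι]
    rintro _ ⟨z, rfl⟩
    exact (hmem z).1
  have hr2 : Set.range (jg ≫ c₂).base ⊆ Set.range V.ι.base := by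
    rw [Scheme.Opens.range_ι]
    rintro _ ⟨z, rfl⟩
    exact (hmem z).2
  obtain ⟨l₁, hl₁⟩ : ∃ l₁ : Spec (CommRingCat.of (Localization.Away (f * C (f.coeff 0)))) ⟶ V.toScheme,
      l₁ ≫ V.ι = jg ≫ c₁ := ⟨IsOpenImmersion.lift V.ι _ hr1, IsOpenImmersion.lift_fac _ _ _⟩
  obtain ⟨l₂, hl₂⟩ : ∃ l₂ : Spec (CommRingCat.of (Localization.Away (f * C (f.coeff 0)))) ⟶ V.toScheme,
      l₂ ≫ V.ι = jg ≫ c₂ := ⟨IsOpenImmersion.lift V.ι _ hr2, IsOpenImmersion.lift_fac _ _ _⟩
  rw [← hl₁, ← hl₂]
  congr 1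
  haveI : IsAffine V.toScheme := hV
  apply ext_of_isAffine
  apply CommRingCat.hom_ext
  apply RingHom.ext
  intro c
  have key : (Scheme.ΓSpecIso (CommRingCat.of (Localization.Away (f * C (f.coeff 0))))).hom.hom
      (l₁.appTop.hom c) =
      (Scheme.ΓSpecIso (CommRingCat.of (Localization.Away (f * C (f.coeff 0))))).hom.hom
      (l₂.appTop.hom c) := by
    rw [← sub_eq_zero]
    apply eq_zero_of_forall_mem_span_X_pow f
    intro n
    cases n with
    | zero =>
      rw [pow_zero, map_one, Ideal.span_singleton_one]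
      trivial
    | succ k =>
      obtain ⟨I, hI⟩ : ∃ I : Ideal (Localization.Away (f * C (f.coeff 0))),
        I = Ideal.span {algebraMap R[X] (Localization.Away (f * C (f.coeff 0))) (X ^ (k + 1))} :=
        ⟨_, rfl⟩
      rw [← hI]
      have hθ : (CommRingCat.ofHom ((Ideal.Quotient.mk I).comp
          (algebraMap R[X] (Localization.Away (f * C (f.coeff 0)))))).hom X ^ (k + 1) = 0 := by
        change (Ideal.Quotient.mk I) (algebraMap R[X] _ X) ^ (k + 1) = 0
        rw [← map_pow, ← map_pow, Ideal.Quotient.eq_zero_iff_mem, hI]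
        exact Ideal.subset_span rfl
      have h3 := H _ _ k hθ
      rw [CommRingCat.ofHom_comp, Spec.map_comp, ← hjg, Category.assoc, Category.assoc, ← hl₁, ← hl₂,
        ← Category.assoc, ← Category.assoc, cancel_mono] at h3
      have h4 := congrArg (fun t => (Scheme.ΓSpecIso _).hom.hom (t.appTop.hom c)) h3
      simp only [Scheme.Hom.comp_appTop, CommRingCat.hom_comp, RingHom.comp_apply] at h4
      have hnat : ∀ z, (Scheme.ΓSpecIso (CommRingCat.of (Localization.Away (f * C (f.coeff 0)) ⧸ I))).hom.hom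
          ((Spec.map (CommRingCat.ofHom (Ideal.Quotient.mk I))).appTop.hom z) =
          Ideal.Quotient.mk I ((Scheme.ΓSpecIso (CommRingCat.of
            (Localization.Away (f * C (f.coeff 0))))).hom.hom z) := by
        intro z
        have h5 := Scheme.ΓSpecIso_naturality (CommRingCat.ofHom (Ideal.Quotient.mk I))
        exact congrArg (fun t => t.hom z) h5
      rw [hnat, hnat] at h4
      rw [← Ideal.Quotient.eq_zero_iff_mem, map_sub, h4, sub_self]
  exact (ConcreteCategory.bijective_of_isIso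
    (Scheme.ΓSpecIso (CommRingCat.of (Localization.Away (f * C (f.coeff 0))))).hom).1 key

end Groth.Agent.H4.A1Local
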