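import Mathlib
import Groth.Agent.H4.A1Local
import Groth.Agent.H4.A1Cover

set_option autoImplicit false
universe u
open CategoryTheory CategoryTheory.Limits MonoidalCategory CartesianMonoidalCategory MonObj AlgebraicGeometry Opposite
open Magnet Polynomial
open Groth.Agent.H4.A1Pts Groth.Agent.H4.A1Model Groth.Agent.H4.A1Local Groth.Agent.H4.A1Cover

noncomputable section

namespace Groth.Agent.H4.A1Main

/-- Two morphisms agreeing on every member of a family of opens agree on the union. -/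
theorem hom_ext_iSup {X Z : Scheme.{u}} {J : Type u} (U : J → X.Opens) (f g : X ⟶ Z)
    (h : ∀ i, (U i).ι ≫ f = (U i).ι ≫ g) : (⨆ i, U i).ι ≫ f = (⨆ i, U i).ι ≫ g := by
  apply (Scheme.Opens.iSupOpenCover U).hom_ext
  intro i
  have h1 : (Scheme.Opens.iSupOpenCover U).f i ≫ (⨆ i, U i).ι = (U i).ι :=
    X.homOfLE_ι (le_iSup U i)
  rw [← Category.assoc, ← Category.assoc, h1]
  exact h i

/-- Two morphisms agreeing locally on the source are equal. -/
theorem hom_ext_local {X Z : Scheme.{u}} (f g : X ⟶ Z)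
    (h : ∀ x : X, ∃ U : X.Opens, x ∈ U ∧ U.ι ≫ f = U.ι ≫ g) : f = g := by
  choose U hxU hU using h
  have key := hom_ext_iSup U f g hU
  have htop : (⨆ x, U x) = ⊤ := by
    rw [eq_top_iff]
    intro x _
    exact TopologicalSpace.Opens.mem_iSup.mpr ⟨x, hxU x⟩
  rw [htop] at key
  have h2 := congrArg (fun t => X.topIso.inv ≫ t) key
  simp only [← Category.assoc, Scheme.toIso_inv_ι, Category.id_comp] at h2
  exact h2

variable {S : Scheme.{u}}

/-- The comparison isomorphism on underlying schemes, with explicit source. -/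
def eeL {R : CommRingCat.{u}} (hY : Spec R ⟶ S) : Spec (RX R) ⟶ (A1 S ⊗ YY hY).left := (ee hY).left

instance isIso_eeL {R : CommRingCat.{u}} (hY : Spec R ⟶ S) : IsIso (eeL hY) :=
  inferInstanceAs (IsIso ((Over.forget S).map (eeIso hY).hom))

theorem eeL_comp {R : CommRingCat.{u}} (hY : Spec R ⟶ S) {X' : Over S} (δ : A1 S ⊗ YY hY ⟶ X') :
    eeL hY ≫ δ.left = (ee hY ≫ δ).left := rfl

/-- The affine case. -/
theorem affine_case {R : CommRingCat.{u}} (hY : Spec R ⟶ S) {X' : Over S}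
    (a : MonAct (Gm S) X') (γ₁ γ₂ : A1 S ⊗ YY hY ⟶ X')
    (hγ₁ : MonAct.IsEquivariant (Groth.Agent.H4.A1Cover.rhoY S (YY hY)) a γ₁)
    (hγ₂ : MonAct.IsEquivariant (Groth.Agent.H4.A1Cover.rhoY S (YY hY)) a γ₂)
    (h : ∀ (T : Over S) (m : T ⟶ A1 S) (t : T ⟶ YY hY),
      (∃ n : ℕ, ∀ m' : T ⟶ A1 S, m ^ (n + 1) * m' = m ^ (n + 1)) →
        lift m t ≫ γ₁ = lift m t ≫ γ₂) :
    γ₁ = γ₂ := by
  have H := hyp_ring hY γ₁ γ₂ h
  choose g hg1 hg2 using (fun (p : {p : PrimeSpectrum (Polynomial R) // (X : Polynomial R) ∈ p.asIdeal}) =>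
    local_agree (ee hY ≫ γ₁).left (ee hY ≫ γ₂).left H p.1 p.2)
  obtain ⟨f, hf⟩ : ∃ f : ∀ p : {p : PrimeSpectrum (Polynomial R) // (X : Polynomial R) ∈ p.asIdeal},
      Spec (CommRingCat.of (Localization.Away (g p))) ⟶ (A1 S ⊗ YY hY).left,
      ∀ p, f p = Spec.map (CommRingCat.ofHom (algebraMap (Polynomial R) (Localization.Away (g p)))) ≫
        eeL hY := ⟨_, fun _ => rfl⟩
  have hfo : ∀ p, IsOpenImmersion (f p) := by
    intro p
    rw [hf]
    infer_instance
  have hfγ : ∀ p, f p ≫ γ₁.left = f p ≫ γ₂.left := by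
    intro p
    rw [hf, Category.assoc, Category.assoc, eeL_comp, eeL_comp]
    exact hg2 p
  refine eq_of_agree_near_zero a γ₁ γ₂ hγ₁ hγ₂ (⨆ p, (f p).opensRange) ?_ ?_
  · apply hom_ext_iSup
    intro p
    rw [← Scheme.Hom.isoOpensRange_inv_comp (f p), Category.assoc, Category.assoc, hfγ p]
  · intro K _ t z hz pt
    obtain ⟨z', hz'⟩ : ∃ z' : Spec (CommRingCat.of K) ⟶ Spec (RX R), z' = (z ≫ eeInv hY).left :=
      ⟨_, rfl⟩
    have hzz : z.left = z' ≫ eeL hY := by
      rw [hz']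
      change _ = (z ≫ eeInv hY).left ≫ (ee hY).left
      rw [← Over.comp_left, Category.assoc, eeInv_ee, Category.comp_id]
    obtain ⟨φ, hφ⟩ : ∃ φ : RX R ⟶ CommRingCat.of K, Spec.map φ = z' :=
      ⟨Spec.preimage z', Spec.map_preimage z'⟩
    have hφX : φ.hom X = 0 := by
      have h1 : (z ≫ eeInv hY) ≫ mX hY = z ≫ fst _ _ := by rw [Category.assoc, eeInv_mX]
      have h2 : val ((z ≫ eeInv hY) ≫ mX hY) =
          (Scheme.ΓSpecIso (CommRingCat.of K)).inv.hom (φ.hom X) := by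
        rw [val_comp, val_mX, ← hz']
        change z'.appTop.hom ((Scheme.ΓSpecIso (RX R)).inv.hom X) = _
        rw [← hφ]
        exact ΓSpecIso_inv_apply_SpecMap φ X
      rw [h1, hz] at h2
      have h3 : (Scheme.ΓSpecIso (CommRingCat.of K)).inv.hom (φ.hom X) =
          (Scheme.ΓSpecIso (CommRingCat.of K)).inv.hom 0 := by rw [← h2, map_zero]
      exact (ConcreteCategory.bijective_of_isIso (Scheme.ΓSpecIso (CommRingCat.of K)).inv).1 h3
    have hXmem : (X : Polynomial R) ∈ (z'.base pt : PrimeSpectrum (Polynomial R)).asIdeal := by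
      rw [← hφ]
      change X ∈ Ideal.comap φ.hom pt.asIdeal
      rw [Ideal.mem_comap, hφX]
      exact zero_mem _
    obtain ⟨p', hp'⟩ : ∃ p' : {p : PrimeSpectrum (Polynomial R) // (X : Polynomial R) ∈ p.asIdeal},
        p'.1 = z'.base pt := ⟨⟨_, hXmem⟩, rfl⟩
    have hrange : z'.base pt ∈ Set.range (Spec.map (CommRingCat.ofHom
        (algebraMap (Polynomial R) (Localization.Away (g p'))))).base := by
      have h4 : Set.range (Spec.map (CommRingCat.ofHom
          (algebraMap (Polynomial R) (Localization.Away (g p'))))).base =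
          ((PrimeSpectrum.basicOpen (g p') : TopologicalSpace.Opens (PrimeSpectrum (Polynomial R))) :
            Set (PrimeSpectrum (Polynomial R))) :=
        PrimeSpectrum.localization_away_comap_range (Localization.Away (g p')) (g p')
      rw [h4, ← hp']
      exact hg1 p'
    obtain ⟨w, hw⟩ := hrange
    apply TopologicalSpace.Opens.mem_iSup.mpr
    refine ⟨p', w, ?_⟩
    rw [hf, hzz, Scheme.Hom.comp_base, Scheme.Hom.comp_base, TopCat.comp_app, TopCat.comp_app, hw]

/-- The main theorem: two `𝔾_m`-equivariant morphisms `A¹ × Y ⟶ X'` which agree on all points with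
nilpotent first coordinate are equal. -/
theorem main {X' Y : Over S} (a : MonAct (Gm S) X')
    (γ₁ γ₂ : (Magnet.attr a NN).obj (op Y))
    (h : ∀ (T : Over S) (m : T ⟶ A1 S) (t : T ⟶ Y),
      (∃ n : ℕ, ∀ m' : T ⟶ A1 S, m ^ (n + 1) * m' = m ^ (n + 1)) →
        lift m t ≫ γ₁.1 = lift m t ≫ γ₂.1) : γ₁ = γ₂ := by
  apply Subtype.ext
  apply Over.OverMorphism.ext
  apply hom_ext_local
  intro p
  obtain ⟨V, hV, hyV, -⟩ := exists_isAffineOpen_mem_and_subset (X := Y.left)
    (x := (snd (A1 S) Y).left.base p) (U := ⊤) (by trivial)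
  obtain ⟨hY, hhY⟩ : ∃ hY : Spec Γ(Y.left, V) ⟶ S, hY = hV.fromSpec ≫ Y.hom := ⟨_, rfl⟩
  obtain ⟨io, hio⟩ : ∃ io : YY hY ⟶ Y, io.left = hV.fromSpec := by
    subst hhY
    exact ⟨Over.homMk hV.fromSpec rfl, rfl⟩
  obtain ⟨w, hw⟩ : ∃ w : A1 S ⊗ YY hY ⟶ A1 S ⊗ Y, w = A1 S ◁ io := ⟨_, rfl⟩
  have hwo : IsOpenImmersion w.left := by
    rw [hw, Over.whiskerLeft_left]
    haveI : IsOpenImmersion io.left := by rw [hio]; infer_instance
    infer_instance
  have hpw : p ∈ w.left.opensRange := by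
    change p ∈ Set.range w.left.base
    rw [hw, Over.whiskerLeft_left, Scheme.Pullback.range_map]
    refine ⟨⟨_, rfl⟩, ?_⟩
    change (snd (A1 S) Y).left.base p ∈ Set.range io.left.base
    rw [hio, hV.range_fromSpec]
    exact hyV
  refine ⟨w.left.opensRange, hpw, ?_⟩
  have key : w ≫ γ₁.1 = w ≫ γ₂.1 := by
    have e1 := ((Magnet.attr a NN).map io.op γ₁).2
    have e2 := ((Magnet.attr a NN).map io.op γ₂).2
    refine affine_case hY a (w ≫ γ₁.1) (w ≫ γ₂.1) ?_ ?_ ?_
    · rw [hw]; exact e1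
    · rw [hw]; exact e2
    · intro T m t hm
      rw [hw, lift_whiskerLeft_assoc, lift_whiskerLeft_assoc]
      exact h T m (t ≫ io) hm
  have key2 := congrArg Over.Hom.left key
  rw [Over.comp_left, Over.comp_left] at key2
  rw [← Scheme.Hom.isoOpensRange_inv_comp w.left, Category.assoc, Category.assoc, key2]

end Groth.Agent.H4.A1Main
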