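import Mathlib
import Groth.Agent.Lib.Helper8.ExtScalarsBridge
set_option autoImplicit false
universe u
open CategoryTheory TensorProduct

namespace Groth.Agent.H4.ExtS

variable {A B : Type u} [CommRing A] [CommRing B] (φ : A →+* B)

/-- the `B`-linear identification `(extendScalars φ).obj M ≃ B ⊗[A] M` for the algebra structure
`φ.toAlgebra`. -/
noncomputable def extEquiv (M : ModuleCat.{u} A) :
    letI := φ.toAlgebra
    ((ModuleCat.extendScalars φ).obj M) ≃ₗ[B] B ⊗[A] M :=
  letI := φ.toAlgebra
  Groth.Agent.H8.ExtBridge.extEquiv (A := A) (B := B) M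

lemma finite_obj (M : ModuleCat.{u} A) [Module.Finite A M] :
    Module.Finite B ((ModuleCat.extendScalars φ).obj M) := by
  letI := φ.toAlgebra
  exact Module.Finite.equiv (extEquiv φ M).symm

lemma projective_obj (M : ModuleCat.{u} A) [Module.Projective A M] :
    Module.Projective B ((ModuleCat.extendScalars φ).obj M) := by
  letI := φ.toAlgebra
  exact Module.Projective.of_equiv (extEquiv φ M).symm

lemma free_obj (M : ModuleCat.{u} A) [Module.Free A M] :
    Module.Free B ((ModuleCat.extendScalars φ).obj M) := by
  letI := φ.toAlgebra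
  exact Module.Free.of_equiv (extEquiv φ M).symm

lemma flat_obj (M : ModuleCat.{u} A) [Module.Flat A M] :
    Module.Flat B ((ModuleCat.extendScalars φ).obj M) := by
  letI := φ.toAlgebra
  exact Module.Flat.of_linearEquiv (extEquiv φ M)

end Groth.Agent.H4.ExtS
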