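import Mathlib
import Groth.Agent.Lib.Helper2.CoprodCx1

set_option autoImplicit false

namespace Groth.Agent.H4.KProj

open CategoryTheory Limits CochainComplex HomologicalComplex

universe w v u

variable {C : Type u} [Category.{v} C] [Abelian C]

/-- A coproduct of K-projective complexes is K-projective. -/
lemma isKProjective_of_isColimit {J : Type w} [HasColimitsOfShape (Discrete J) C]
    {K : J → CochainComplex C ℤ} {c : Cofan K} (hc : IsColimit c)
    (h : ∀ j, (K j).IsKProjective) : c.pt.IsKProjective where
  nonempty_homotopy_zero {L} g hL :=
    Groth.Agent.H2.CoprodCx.nonempty_homotopy_zero hc g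
      (fun j => ⟨IsKProjective.homotopyZero _ hL⟩)

instance isKProjective_sigma {J : Type w} [HasColimitsOfShape (Discrete J) C]
    (K : J → CochainComplex C ℤ) [HasCoproduct K] [∀ j, (K j).IsKProjective] :
    (∐ K).IsKProjective :=
  isKProjective_of_isColimit (coproductIsCoproduct K) inferInstance

/-- The mapping cone of a morphism of K-projective complexes is K-projective. -/
instance isKProjective_mappingCone {K L : CochainComplex C ℤ} (f : K ⟶ L)
    [K.IsKProjective] [L.IsKProjective] : (mappingCone f).IsKProjective := by
  rw [isKProjective_iff_leftOrthogonal]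
  have hT := HomotopyCategory.mappingCone_triangleh_distinguished f
  exact (HomotopyCategory.subcategoryAcyclic C).leftOrthogonal.ext_of_isTriangulatedClosed₃ _ hT
    (IsKProjective.leftOrthogonal K) (IsKProjective.leftOrthogonal L)

end Groth.Agent.H4.KProj
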