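import Mathlib
import Groth.Prelude.Def_DerLim
import Groth.Agent.Lib.Helper2.Telescope1

set_option autoImplicit false

namespace Groth.Agent.H4.KProj

open CategoryTheory Limits Pretriangulated DerLim

universe v u

variable {D : Type u} [Category.{v} D] [Preadditive D] [HasZeroObject D] [HasShift D ℤ]
  [∀ n : ℤ, (shiftFunctor D n).Additive] [Pretriangulated D]

/-- Homotopy colimits of isomorphic sequential systems are isomorphic. -/
theorem exists_iso_of_isHocolim_of_iso {K K' : ℕ → D} {f : ∀ n, K n ⟶ K (n + 1)}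
    {f' : ∀ n, K' n ⟶ K' (n + 1)} [HasCoproduct K] [HasCoproduct K']
    (e : ∀ n, K n ≅ K' n) (he : ∀ n, f n ≫ (e (n + 1)).hom = (e n).hom ≫ f' n)
    {L L' : D} {i : ∀ n, K n ⟶ L} {i' : ∀ n, K' n ⟶ L'}
    (hL : IsHocolim K f L i) (hL' : IsHocolim K' f' L' i') :
    ∃ φ : L ≅ L', ∀ n, i n ≫ φ.hom = (e n).hom ≫ i' n := by
  obtain ⟨c, hT⟩ := hL
  obtain ⟨c', hT'⟩ := hL'
  let E : (∐ K) ⟶ ∐ K' := Limits.Sigma.map (fun n => (e n).hom)
  have hE : IsIso E := by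
    refine ⟨Limits.Sigma.map (fun n => (e n).inv), ?_, ?_⟩
    · apply Sigma.hom_ext
      intro n
      simp [E]
    · apply Sigma.hom_ext
      intro n
      simp [E]
  have comm : (𝟙 (∐ K) - shiftMap K f) ≫ E = E ≫ (𝟙 (∐ K') - shiftMap K' f') := by
    apply Sigma.hom_ext
    intro n
    rw [Preadditive.sub_comp, Preadditive.comp_sub, Preadditive.comp_sub, Preadditive.comp_sub,
      Category.id_comp, Category.comp_id]
    congr 1
    rw [← Category.assoc, Groth.Agent.H2.Telescope.ι_shiftMap, Category.assoc]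
    dsimp only [E]
    rw [Sigma.ι_map, ← Category.assoc, he, Category.assoc, ← Category.assoc (Sigma.ι K n),
      Sigma.ι_map, Category.assoc, Groth.Agent.H2.Telescope.ι_shiftMap]
  obtain ⟨φ', hφ₁', hφ₂'⟩ := complete_distinguished_triangle_morphism _ _ hT hT' E E comm
  obtain ⟨φ, hφ₁, hφ₂⟩ : ∃ φ : L ⟶ L', Sigma.desc i ≫ φ = E ≫ Sigma.desc i' ∧
      c ≫ E⟦(1 : ℤ)⟧' = φ ≫ c' := ⟨φ', hφ₁', hφ₂'⟩
  let Φ : Triangle.mk (𝟙 (∐ K) - shiftMap K f) (Sigma.desc i) c ⟶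
      Triangle.mk (𝟙 (∐ K') - shiftMap K' f') (Sigma.desc i') c' :=
    { hom₁ := E, hom₂ := E, hom₃ := φ, comm₁ := comm, comm₂ := hφ₁, comm₃ := hφ₂ }
  have hφ : IsIso φ := isIso₃_of_isIso₁₂ Φ hT hT' hE hE
  refine ⟨@asIso _ _ _ _ φ hφ, fun n => ?_⟩
  have := congrArg (fun m => Sigma.ι K n ≫ m) hφ₁
  rw [← Category.assoc, Sigma.ι_desc] at this
  rw [asIso_hom, this]
  dsimp only [E]
  rw [← Category.assoc, Sigma.ι_map, Category.assoc, Sigma.ι_desc]

end Groth.Agent.H4.KProj
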