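import Mathlib
set_option autoImplicit false
universe u
open CategoryTheory CategoryTheory.Limits

namespace Groth.Agent.H4.SubCx

variable {R : Type u} [CommRing R] (K : CochainComplex (ModuleCat.{u} R) ℤ)
  (S : ∀ i : ℤ, Submodule R (K.X i))
  (hS : ∀ (i j : ℤ) (x : K.X i), x ∈ S i → (K.d i j).hom x ∈ S j)

/-- the subcomplex given by a family of submodules stable under the differential. -/
noncomputable def sub : CochainComplex (ModuleCat.{u} R) ℤ where
  X i := ModuleCat.of R (S i)
  d i j := ModuleCat.ofHom ((K.d i j).hom.restrict (hS i j))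
  shape i j h := by
    ext x
    change (K.d i j).hom x.1 = 0
    rw [K.shape i j h]
    rfl
  d_comp_d' i j k _ _ := by
    ext x
    change (K.d j k).hom ((K.d i j).hom x.1) = 0
    rw [← ModuleCat.comp_apply, K.d_comp_d]
    rfl

/-- the inclusion of the subcomplex. -/
noncomputable def ι : sub K S hS ⟶ K where
  f i := ModuleCat.ofHom (S i).subtype
  comm' i j _ := by
    ext x
    rfl

/-- the quotient complex. -/
noncomputable def quot : CochainComplex (ModuleCat.{u} R) ℤ where
  X i := ModuleCat.of R (K.X i ⧸ S i)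
  d i j := ModuleCat.ofHom ((S i).mapQ (S j) (K.d i j).hom (fun x hx => hS i j x hx))
  shape i j h := by
    ext x
    change Submodule.Quotient.mk ((K.d i j).hom x) = 0
    rw [K.shape i j h]
    rfl
  d_comp_d' i j k _ _ := by
    ext x
    change Submodule.Quotient.mk ((K.d j k).hom ((K.d i j).hom x)) = 0
    rw [← ModuleCat.comp_apply, K.d_comp_d]
    rfl

/-- the projection to the quotient complex. -/
noncomputable def π : K ⟶ quot K S hS where
  f i := ModuleCat.ofHom (S i).mkQ
  comm' i j _ := by
    ext x
    rfl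

lemma ι_π : ι K S hS ≫ π K S hS = 0 := by
  ext i x
  change Submodule.Quotient.mk x.1 = 0
  rw [Submodule.Quotient.mk_eq_zero]
  exact x.2

/-- the short complex `sub ⟶ K ⟶ quot`. -/
noncomputable def sc : ShortComplex (CochainComplex (ModuleCat.{u} R) ℤ) :=
  ShortComplex.mk (ι K S hS) (π K S hS) (ι_π K S hS)

lemma shortExact : (sc K S hS).ShortExact := by
  apply HomologicalComplex.shortExact_of_degreewise_shortExact
  intro i
  refine ShortComplex.ShortExact.mk' ?_ ?_ ?_
  · rw [ShortComplex.moduleCat_exact_iff]
    intro x hx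
    have key : ∀ y : K.X i, (Submodule.Quotient.mk y : K.X i ⧸ S i) = 0 → y ∈ S i :=
      fun y hy => (Submodule.Quotient.mk_eq_zero _).mp hy
    exact ⟨⟨x, key x hx⟩, rfl⟩
  · rw [ModuleCat.mono_iff_injective]
    exact Subtype.val_injective
  · rw [ModuleCat.epi_iff_surjective]
    exact Submodule.Quotient.mk_surjective (S i)

end Groth.Agent.H4.SubCx
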