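import Mathlib
import Groth.Agent.H4.SubCx

set_option autoImplicit false

/-!
# The tower of canonical truncations of a complex of modules, and its colimit
-/

namespace Groth.Agent.H4.KProj

open CategoryTheory Limits

universe u

variable {R : Type u} [CommRing R] (K : CochainComplex (ModuleCat.{u} R) ℤ)

/-- the submodules defining the canonical truncation `τ_{≤ n} K`. -/
noncomputable def tS (n : ℤ) (i : ℤ) : Submodule R (K.X i) :=
  if i < n then ⊤ else if i = n then LinearMap.ker (K.d i (i + 1)).hom else ⊥

lemma tS_of_lt {n i : ℤ} (h : i < n) : tS K n i = ⊤ := by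
  simp [tS, h]

lemma tS_of_gt {n i : ℤ} (h : n < i) : tS K n i = ⊥ := by
  have h1 : ¬ i < n := by omega
  have h2 : ¬ i = n := by omega
  simp [tS, h1, h2]

lemma tS_self (n : ℤ) : tS K n n = LinearMap.ker (K.d n (n + 1)).hom := by
  simp [tS]

lemma tS_stable (n i j : ℤ) (x : K.X i) (hx : x ∈ tS K n i) : (K.d i j).hom x ∈ tS K n j := by
  by_cases hij : i + 1 = j
  · subst hij
    rcases lt_trichotomy i n with h | h | h
    · by_cases h' : i + 1 < n
      · rw [tS_of_lt K h']
        trivial
      · have : i + 1 = n := by omega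
        subst this
        rw [tS_self, LinearMap.mem_ker, ← ModuleCat.comp_apply, K.d_comp_d]
        rfl
    · subst h
      rw [tS_self, LinearMap.mem_ker] at hx
      rw [hx]
      exact Submodule.zero_mem _
    · rw [tS_of_gt K h, Submodule.mem_bot] at hx
      rw [hx, map_zero]
      exact Submodule.zero_mem _
  · rw [K.shape i j hij]
    exact Submodule.zero_mem _

lemma tS_mono {n m : ℤ} (h : n ≤ m) (i : ℤ) : tS K n i ≤ tS K m i := by
  rcases lt_trichotomy i n with h' | h' | h'
  · rw [tS_of_lt K h', tS_of_lt K (by omega : i < m)]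
  · subst h'
    rcases h.lt_or_eq with h'' | h''
    · rw [tS_of_lt K h'']
      exact le_top
    · subst h''
      exact le_rfl
  · rw [tS_of_gt K h']
    exact bot_le

/-- the canonical truncation `τ_{≤ n} K` as a subcomplex. -/
noncomputable def tr (n : ℤ) : CochainComplex (ModuleCat.{u} R) ℤ :=
  SubCx.sub K (tS K n) (tS_stable K n)

/-- the inclusion `τ_{≤ n} K ⟶ K`. -/
noncomputable def trι (n : ℤ) : tr K n ⟶ K := SubCx.ι K (tS K n) (tS_stable K n)

lemma isZero_tr_X {n i : ℤ} (h : n < i) : IsZero ((tr K n).X i) := by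
  have : Subsingleton ((tr K n).X i) := by
    change Subsingleton (tS K n i)
    rw [tS_of_gt K h]
    infer_instance
  exact ModuleCat.isZero_of_subsingleton _

/-- the transition maps. -/
noncomputable def trMap {n m : ℤ} (h : n ≤ m) : tr K n ⟶ tr K m where
  f i := ModuleCat.ofHom (Submodule.inclusion (tS_mono K h i))
  comm' i j _ := by
    ext x
    rfl

@[reassoc (attr := simp)]
lemma trMap_ι {n m : ℤ} (h : n ≤ m) : trMap K h ≫ trι K m = trι K n := by
  ext i x
  rfl

lemma trMap_refl (n : ℤ) : trMap K (le_refl n) = 𝟙 _ := by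
  ext i x
  rfl

lemma trMap_trans {n m l : ℤ} (h : n ≤ m) (h' : m ≤ l) :
    trMap K h ≫ trMap K h' = trMap K (h.trans h') := by
  ext i x
  rfl

/-- the tower of canonical truncations `τ_{≤ n} K`, `n : ℕ`. -/
noncomputable def tower : ℕ ⥤ CochainComplex (ModuleCat.{u} R) ℤ where
  obj n := tr K (n : ℤ)
  map {n m} f := trMap K (Int.ofNat_le.mpr (leOfHom f))
  map_id n := trMap_refl K _
  map_comp f g := (trMap_trans K _ _).symm

/-- the cocone of the tower with point `K`. -/
noncomputable def towerCocone : Cocone (tower K) where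
  pt := K
  ι := { app := fun n => trι K (n : ℤ)
         naturality := fun n m f => by
           dsimp [tower]
           rw [trMap_ι, Category.comp_id] }

lemma isIso_trι_f {n i : ℤ} (h : i < n) : IsIso ((trι K n).f i) := by
  rw [ConcreteCategory.isIso_iff_bijective]
  constructor
  · exact Subtype.val_injective
  · intro x
    exact ⟨⟨x, by rw [tS_of_lt K h]; trivial⟩, rfl⟩

/-- `K` is the colimit of its canonical truncations. -/
noncomputable def isColimitTowerCocone : IsColimit (towerCocone K) := by
  refine HomologicalComplex.isColimitOfEval _ _ (fun i => ?_)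
  let N : ℕ := (i + 1).toNat
  have hN : i < (N : ℤ) := by
    dsimp only [N]
    omega
  have hiso : ∀ m : ℕ, N ≤ m → IsIso (((HomologicalComplex.eval _ _ i).mapCocone
      (towerCocone K)).ι.app m) := by
    intro m hm
    exact isIso_trι_f K (by omega : i < (m : ℤ))
  have hF : (tower K ⋙ HomologicalComplex.eval _ _ i).IsEventuallyConstantFrom N := by
    intro m f
    have h1 := hiso N le_rfl
    have h2 := hiso m (leOfHom f)
    have h3 := ((HomologicalComplex.eval _ _ i).mapCocone (towerCocone K)).w f
    exact IsIso.of_isIso_fac_right h3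
  haveI := hiso N le_rfl
  exact hF.isColimitOfIsIso _

end Groth.Agent.H4.KProj
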