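import Mathlib
import Groth.Prelude.Def_DRing2
import Groth.Agent.Lib.Helper3.PerfAux
set_option autoImplicit false
universe u
open CategoryTheory CategoryTheory.Limits CategoryTheory.Pretriangulated

namespace Groth.Agent.H4.DRing1

attribute [local instance] HasDerivedCategory.standard

variable {R : Type u} [CommRing R]

open DRing

/-- a distinguished triangle whose first two vertices are represented by complexes, the first
K-projective, has its third vertex represented by a mapping cone. -/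
theorem exists_cone_iso (T : Triangle (Dual.D R)) (hT : T ∈ distinguishedTriangles)
    (E₁ E₂ : Cx R) [E₁.IsKProjective] (e₁ : toD E₁ ≅ T.obj₁) (e₂ : toD E₂ ≅ T.obj₂) :
    ∃ f : E₁ ⟶ E₂, Nonempty (toD (CochainComplex.mappingCone f) ≅ T.obj₃) := by
  obtain ⟨f, hf⟩ := Groth.Agent.H3.PerfAux.exists_map_of_isKProjective E₁ E₂
    (e₁.hom ≫ T.mor₁ ≫ e₂.inv)
  have hT' : DerivedCategory.Q.mapTriangle.obj (CochainComplex.mappingCone.triangle f) ∈
      distinguishedTriangles := by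
    rw [DerivedCategory.mem_distTriang_iff]
    exact ⟨_, _, f, ⟨Iso.refl _⟩⟩
  let iso := isoTriangleOfIso₁₂ _ _ hT' hT e₁ e₂ (by
    change DerivedCategory.Q.map f ≫ e₂.hom = e₁.hom ≫ T.mor₁
    rw [hf]; simp)
  exact ⟨f, ⟨Triangle.π₃.mapIso iso⟩⟩

lemma isKProjective_of_vanishesAbove_projective (E : Cx R) (b : ℤ) (hb : VanishesAbove E b)
    (hP : ∀ i, Module.Projective R (E.X i)) : E.IsKProjective := by
  haveI : E.IsStrictlyLE b := by
    rw [CochainComplex.isStrictlyLE_iff]; exact hb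
  haveI : ∀ n, Projective (E.X n) := fun n => by
    haveI := hP n
    exact ModuleCat.projective_of_categoryTheory_projective (E.X n)
  exact CochainComplex.isKProjective_of_projective E b

lemma isPerfect_of_iso {K K' : Dual.D R} (e : K ≅ K') (h : IsPerfect R K) : IsPerfect R K' := by
  obtain ⟨E, a, b, hz, hP, ⟨e'⟩⟩ := h
  exact ⟨E, a, b, hz, hP, ⟨e' ≪≫ e⟩⟩

lemma isPseudoCoherent'_of_iso {K K' : Dual.D R} (e : K ≅ K') (h : IsPseudoCoherent' R K) :
    IsPseudoCoherent' R K' := by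
  obtain ⟨E, b, hz, hP, ⟨e'⟩⟩ := h
  exact ⟨E, b, hz, hP, ⟨e' ≪≫ e⟩⟩

lemma isPerfect_shift (K : Dual.D R) (n : ℤ) (h : IsPerfect R K) : IsPerfect R (K⟦n⟧) := by
  obtain ⟨E, a, b, hz, hP, ⟨e⟩⟩ := h
  refine ⟨E⟦n⟧, a - n, b - n, ?_, ?_,
    ⟨(DerivedCategory.Q.commShiftIso n).app E ≪≫ (shiftFunctor _ n).mapIso e⟩⟩
  · intro i hi
    exact hz (i + n) (by omega)
  · intro i
    exact hP (i + n)

lemma isPseudoCoherent'_shift (K : Dual.D R) (n : ℤ) (h : IsPseudoCoherent' R K) :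
    IsPseudoCoherent' R (K⟦n⟧) := by
  obtain ⟨E, b, hz, hP, ⟨e⟩⟩ := h
  refine ⟨E⟦n⟧, b - n, ?_, ?_,
    ⟨(DerivedCategory.Q.commShiftIso n).app E ≪≫ (shiftFunctor _ n).mapIso e⟩⟩
  · intro i hi
    exact hz (i + n) (by omega)
  · intro i
    exact hP (i + n)

lemma isPerfect_of_shift (K : Dual.D R) (n : ℤ) (h : IsPerfect R (K⟦n⟧)) : IsPerfect R K :=
  isPerfect_of_iso ((shiftEquiv (Dual.D R) n).unitIso.app K).symm (isPerfect_shift _ (-n) h)

lemma isPseudoCoherent'_of_shift (K : Dual.D R) (n : ℤ) (h : IsPseudoCoherent' R (K⟦n⟧)) :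
    IsPseudoCoherent' R K :=
  isPseudoCoherent'_of_iso ((shiftEquiv (Dual.D R) n).unitIso.app K).symm
    (isPseudoCoherent'_shift _ (-n) h)

/-- cones of perfect complexes are perfect. -/
theorem isPerfect_obj₃ (T : Triangle (Dual.D R)) (hT : T ∈ distinguishedTriangles)
    (h₁ : IsPerfect R T.obj₁) (h₂ : IsPerfect R T.obj₂) : IsPerfect R T.obj₃ := by
  obtain ⟨E₁, a₁, b₁, hz₁, hP₁, ⟨e₁⟩⟩ := h₁
  obtain ⟨E₂, a₂, b₂, hz₂, hP₂, ⟨e₂⟩⟩ := h₂
  haveI : E₁.IsKProjective := isKProjective_of_vanishesAbove_projective E₁ b₁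
    (fun i hi => hz₁ i (Or.inr hi)) (fun i => (hP₁ i).2)
  obtain ⟨f, ⟨e₃⟩⟩ := exists_cone_iso T hT E₁ E₂ e₁ e₂
  refine ⟨CochainComplex.mappingCone f, min a₁ a₂ - 1, max b₁ b₂, ?_, ?_, ⟨e₃⟩⟩
  · intro i hi
    refine Groth.Agent.H3.PerfAux.mappingCone_X_isZero f i (hz₁ _ ?_) (hz₂ _ ?_)
    · rcases hi with hi | hi
      · left; have := min_le_left a₁ a₂; omega
      · right; have := le_max_left b₁ b₂; omega
    · rcases hi with hi | hi
      · left; have := min_le_right a₁ a₂; omega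
      · right; have := le_max_right b₁ b₂; omega
  · intro i
    have e : (CochainComplex.mappingCone f).X i ≅ E₁.X (i + 1) ⊞ E₂.X i :=
      HomologicalComplex.homotopyCofiber.XIsoBiprod f i (i + 1) rfl
    have e' := (e ≪≫ ModuleCat.biprodIsoProd _ _).toLinearEquiv
    haveI := (hP₁ (i + 1)).1
    haveI := (hP₁ (i + 1)).2
    haveI := (hP₂ i).1
    haveI := (hP₂ i).2
    exact ⟨Module.Finite.equiv e'.symm, Module.Projective.of_equiv e'.symm⟩

/-- cones of pseudo-coherent complexes are pseudo-coherent. -/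
theorem isPseudoCoherent'_obj₃ (T : Triangle (Dual.D R)) (hT : T ∈ distinguishedTriangles)
    (h₁ : IsPseudoCoherent' R T.obj₁) (h₂ : IsPseudoCoherent' R T.obj₂) :
    IsPseudoCoherent' R T.obj₃ := by
  obtain ⟨E₁, b₁, hz₁, hP₁, ⟨e₁⟩⟩ := h₁
  obtain ⟨E₂, b₂, hz₂, hP₂, ⟨e₂⟩⟩ := h₂
  haveI : E₁.IsKProjective := isKProjective_of_vanishesAbove_projective E₁ b₁ hz₁
    (fun i => by
      haveI := (hP₁ i).2
      infer_instance)
  obtain ⟨f, ⟨e₃⟩⟩ := exists_cone_iso T hT E₁ E₂ e₁ e₂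
  refine ⟨CochainComplex.mappingCone f, max b₁ b₂, ?_, ?_, ⟨e₃⟩⟩
  · intro i hi
    refine Groth.Agent.H3.PerfAux.mappingCone_X_isZero f i (hz₁ _ ?_) (hz₂ _ ?_)
    · have := le_max_left b₁ b₂; omega
    · have := le_max_right b₁ b₂; omega
  · intro i
    have e : (CochainComplex.mappingCone f).X i ≅ E₁.X (i + 1) ⊞ E₂.X i :=
      HomologicalComplex.homotopyCofiber.XIsoBiprod f i (i + 1) rfl
    have e' := (e ≪≫ ModuleCat.biprodIsoProd _ _).toLinearEquiv
    haveI := (hP₁ (i + 1)).1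
    haveI := (hP₁ (i + 1)).2
    haveI := (hP₂ i).1
    haveI := (hP₂ i).2
    exact ⟨Module.Finite.equiv e'.symm, Module.Free.of_equiv e'.symm⟩

theorem isPerfect_two_out_of_three (T : Triangle (Dual.D R)) (hT : T ∈ distinguishedTriangles) :
    (IsPerfect R T.obj₁ → IsPerfect R T.obj₂ → IsPerfect R T.obj₃) ∧
      (IsPerfect R T.obj₁ → IsPerfect R T.obj₃ → IsPerfect R T.obj₂) ∧
      (IsPerfect R T.obj₂ → IsPerfect R T.obj₃ → IsPerfect R T.obj₁) := by
  refine ⟨isPerfect_obj₃ T hT, ?_, ?_⟩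
  · intro h1 h3
    exact isPerfect_obj₃ T.invRotate (inv_rot_of_distTriang _ hT) (isPerfect_shift _ (-1) h3) h1
  · intro h2 h3
    exact isPerfect_of_shift _ 1 (isPerfect_obj₃ T.rotate (rot_of_distTriang _ hT) h2 h3)

theorem isPseudoCoherent'_two_out_of_three (T : Triangle (Dual.D R))
    (hT : T ∈ distinguishedTriangles) :
    (IsPseudoCoherent' R T.obj₁ → IsPseudoCoherent' R T.obj₂ → IsPseudoCoherent' R T.obj₃) ∧
      (IsPseudoCoherent' R T.obj₁ → IsPseudoCoherent' R T.obj₃ → IsPseudoCoherent' R T.obj₂) ∧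
      (IsPseudoCoherent' R T.obj₂ → IsPseudoCoherent' R T.obj₃ → IsPseudoCoherent' R T.obj₁) := by
  refine ⟨isPseudoCoherent'_obj₃ T hT, ?_, ?_⟩
  · intro h1 h3
    exact isPseudoCoherent'_obj₃ T.invRotate (inv_rot_of_distTriang _ hT)
      (isPseudoCoherent'_shift _ (-1) h3) h1
  · intro h2 h3
    exact isPseudoCoherent'_of_shift _ 1
      (isPseudoCoherent'_obj₃ T.rotate (rot_of_distTriang _ hT) h2 h3)

end Groth.Agent.H4.DRing1
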