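import Mathlib
import Groth.Agent.H4.DRing1
set_option autoImplicit false
universe u
open CategoryTheory CategoryTheory.Limits CategoryTheory.Pretriangulated

namespace Groth.Agent.H4.DRing1

attribute [local instance] HasDerivedCategory.standard

variable {R : Type u} [CommRing R]

open DRing DerivedCategory ZeroObject

lemma isPerfect_of_isZero (K : Dual.D R) (hK : IsZero K) : IsPerfect R K := by
  refine ⟨0, 0, 0, fun i _ => ?_, fun i => ?_, ⟨?_⟩⟩
  · exact (HomologicalComplex.eval _ _ i).map_isZero (isZero_zero _)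
  · have hz : IsZero ((0 : Cx R).X i) :=
      (HomologicalComplex.eval _ _ i).map_isZero (isZero_zero _)
    haveI := ModuleCat.subsingleton_of_isZero hz
    exact ⟨inferInstance, inferInstance⟩
  · exact (Q.map_isZero (isZero_zero _)).iso hK

/-- the homology of a single. -/
noncomputable def homologySingleIso (n : ℤ) (Y : ModuleCat.{u} R) :
    (homologyFunctor (ModuleCat.{u} R) n).obj ((singleFunctor (ModuleCat.{u} R) n).obj Y) ≅ Y :=
  (homologyFunctor _ n).mapIso ((singleFunctorIsoCompQ _ n).app Y) ≪≫
    (homologyFunctorFactors _ n).app _ ≪≫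
    HomologicalComplex.singleObjHomologySelfIso (ComplexShape.up ℤ) n Y

lemma isPerfect_single (n : ℤ) (Y : ModuleCat.{u} R)
    (h : IsPerfect R ((singleFunctor (ModuleCat.{u} R) 0).obj Y)) :
    IsPerfect R ((singleFunctor (ModuleCat.{u} R) n).obj Y) :=
  isPerfect_of_iso (((singleFunctors (ModuleCat.{u} R)).shiftIso (-n) n 0 (by simp)).app Y)
    (isPerfect_shift _ (-n) h)

lemma isPerfect_single_of_iso (n : ℤ) {Y Y' : ModuleCat.{u} R} (e : Y ≅ Y')
    (h : IsPerfect R ((singleFunctor (ModuleCat.{u} R) 0).obj Y)) :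
    IsPerfect R ((singleFunctor (ModuleCat.{u} R) n).obj Y') :=
  isPerfect_single n Y' (isPerfect_of_iso ((singleFunctor _ 0).mapIso e) h)

/-- a general form: in a distinguished triangle with `obj₁ ≤ c - 1` and `obj₃ ≥ c`, the first map
is an isomorphism on `H^i`, `i < c`. -/
lemma isIso_homology_mor₁ (T : Triangle (Dual.D R)) (hT : T ∈ distinguishedTriangles) (c : ℤ)
    [T.obj₃.IsGE c] (i : ℤ) (hi : i < c) :
    IsIso ((homologyFunctor (ModuleCat.{u} R) i).map T.mor₁) := by
  haveI : Mono ((homologyFunctor (ModuleCat.{u} R) i).map T.mor₁) := by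
    rw [HomologySequence.mono_homologyMap_mor₁_iff T hT (i - 1) i (by omega)]
    exact (isZero_of_isGE T.obj₃ c (i - 1) (by omega)).eq_of_src _ _
  haveI : Epi ((homologyFunctor (ModuleCat.{u} R) i).map T.mor₁) := by
    rw [HomologySequence.epi_homologyMap_mor₁_iff T hT i]
    exact (isZero_of_isGE T.obj₃ c i hi).eq_of_tgt _ _
  exact isIso_of_mono_of_epi _

lemma isIso_homology_mor₂ (T : Triangle (Dual.D R)) (hT : T ∈ distinguishedTriangles) (c : ℤ)
    [T.obj₁.IsLE (c - 1)] (i : ℤ) (hi : c ≤ i) :
    IsIso ((homologyFunctor (ModuleCat.{u} R) i).map T.mor₂) := by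
  haveI : Mono ((homologyFunctor (ModuleCat.{u} R) i).map T.mor₂) := by
    rw [HomologySequence.mono_homologyMap_mor₂_iff T hT i]
    exact (isZero_of_isLE T.obj₁ (c - 1) i (by omega)).eq_of_src _ _
  haveI : Epi ((homologyFunctor (ModuleCat.{u} R) i).map T.mor₂) := by
    rw [HomologySequence.epi_homologyMap_mor₂_iff T hT i (i + 1) rfl]
    exact (isZero_of_isLE T.obj₁ (c - 1) (i + 1) (by omega)).eq_of_tgt _ _
  exact isIso_of_mono_of_epi _

/-- perfectness from bounded perfect cohomology, by induction on the amplitude. -/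
theorem isPerfect_of_homology_aux (n : ℕ) : ∀ (K : Dual.D R) (a : ℤ),
    (∀ i : ℤ, i < a → IsZero ((homologyFunctor (ModuleCat.{u} R) i).obj K)) →
    (∀ i : ℤ, a + n ≤ i → IsZero ((homologyFunctor (ModuleCat.{u} R) i).obj K)) →
    (∀ i : ℤ, IsPerfect R ((singleFunctor (ModuleCat.{u} R) 0).obj
      ((homologyFunctor (ModuleCat.{u} R) i).obj K))) → IsPerfect R K := by
  induction n with
  | zero =>
    intro K a h1 h2 _
    apply isPerfect_of_isZero
    haveI : K.IsGE a := (isGE_iff K a).mpr h1
    haveI : K.IsLE (a - 1) := (isLE_iff K (a - 1)).mpr (fun i hi => h2 i (by simp; omega))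
    exact TStructure.t.isZero K (a - 1) a (by omega)
  | succ n ih =>
    intro K a h1 h2 h3
    set c : ℤ := a + n with hc
    let T := (TStructure.t.triangleLTGE c).obj K
    have hT : T ∈ distinguishedTriangles := TStructure.t.triangleLTGE_distinguished c K
    haveI : T.obj₁.IsLE (c - 1) := inferInstanceAs (TStructure.t.IsLE T.obj₁ (c - 1))
    haveI : T.obj₃.IsGE c := inferInstanceAs (TStructure.t.IsGE T.obj₃ c)
    -- the third vertex is a single
    have h3' : IsPerfect R T.obj₃ := by
      haveI : T.obj₃.IsLE c := by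
        rw [isLE_iff]
        intro i hi
        haveI := isIso_homology_mor₂ T hT c i (by omega)
        exact (h2 i (by push_cast; omega)).of_iso
          (asIso ((homologyFunctor (ModuleCat.{u} R) i).map T.mor₂)).symm
      obtain ⟨Y, ⟨e⟩⟩ := exists_iso_singleFunctor_obj_of_isGE_of_isLE T.obj₃ c
      haveI := isIso_homology_mor₂ T hT c c le_rfl
      have e2 : (homologyFunctor (ModuleCat.{u} R) c).obj T.obj₂ ≅
          (homologyFunctor (ModuleCat.{u} R) c).obj T.obj₃ :=
        asIso ((homologyFunctor (ModuleCat.{u} R) c).map T.mor₂)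
      have eY : (homologyFunctor (ModuleCat.{u} R) c).obj K ≅ Y :=
        e2 ≪≫ (homologyFunctor _ c).mapIso e ≪≫ homologySingleIso c Y
      exact isPerfect_of_iso e.symm (isPerfect_single_of_iso c eY (h3 c))
    -- the first vertex by induction
    have h1' : IsPerfect R T.obj₁ := by
      apply ih T.obj₁ a
      · intro i hi
        haveI := isIso_homology_mor₁ T hT c i (by omega)
        have e1 : (homologyFunctor (ModuleCat.{u} R) i).obj T.obj₁ ≅
            (homologyFunctor (ModuleCat.{u} R) i).obj T.obj₂ :=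
          asIso ((homologyFunctor (ModuleCat.{u} R) i).map T.mor₁)
        exact (h1 i hi).of_iso e1
      · intro i hi
        exact isZero_of_isLE T.obj₁ (c - 1) i (by omega)
      · intro i
        by_cases hi : i < c
        · haveI := isIso_homology_mor₁ T hT c i hi
          have e1 : (homologyFunctor (ModuleCat.{u} R) i).obj T.obj₁ ≅
              (homologyFunctor (ModuleCat.{u} R) i).obj T.obj₂ :=
            asIso ((homologyFunctor (ModuleCat.{u} R) i).map T.mor₁)
          exact isPerfect_of_iso ((singleFunctor _ 0).mapIso e1.symm) (h3 i)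
        · apply isPerfect_of_isZero
          exact (singleFunctor _ 0).map_isZero (isZero_of_isLE T.obj₁ (c - 1) i (by omega))
    exact (isPerfect_two_out_of_three T hT).2.1 h1' h3'

theorem isPerfect_of_bounded_perfect_homology (K : Dual.D R)
    (hb : ∃ a b : ℤ, ∀ i : ℤ, (i < a ∨ b < i) → Subsingleton (Dual.HD R K i))
    (hK : ∀ i : ℤ, DRing.IsPerfectModule R (Dual.HD R K i)) : DRing.IsPerfect R K := by
  obtain ⟨a, b, hab⟩ := hb
  refine isPerfect_of_homology_aux (b + 1 - a).toNat K a ?_ ?_ ?_
  · intro i hi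
    haveI := hab i (Or.inl hi)
    exact ModuleCat.isZero_of_subsingleton _
  · intro i hi
    haveI := hab i (Or.inr (by
      have := Int.self_le_toNat (b + 1 - a)
      omega))
    exact ModuleCat.isZero_of_subsingleton _
  · intro i
    exact hK i

end Groth.Agent.H4.DRing1
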