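import Mathlib
import Groth.Agent.H4.DRing2
import Groth.Agent.H4.SubCx
set_option autoImplicit false
universe u
open CategoryTheory CategoryTheory.Limits CategoryTheory.Pretriangulated

namespace Groth.Agent.H4.DRing1

attribute [local instance] HasDerivedCategory.standard

variable {R : Type u} [CommRing R]

open DRing DerivedCategory ZeroObject Groth.Agent.H4.SubCx

/-- brutal truncation: the family of submodules `⊤` in degrees `≥ n` and `⊥` below. -/
noncomputable def brutal (K : Cx R) (n : ℤ) (i : ℤ) : Submodule R (K.X i) :=
  if n ≤ i then ⊤ else ⊥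

lemma brutal_of_le (K : Cx R) {n i : ℤ} (h : n ≤ i) : brutal K n i = ⊤ := if_pos h
lemma brutal_of_lt (K : Cx R) {n i : ℤ} (h : i < n) : brutal K n i = ⊥ := if_neg (by omega)

lemma brutal_stable (K : Cx R) (n : ℤ) (i j : ℤ) (x : K.X i) (hx : x ∈ brutal K n i) :
    (K.d i j).hom x ∈ brutal K n j := by
  by_cases hrel : i + 1 = j
  · by_cases hn : n ≤ i
    · rw [brutal_of_le K (by omega : n ≤ j)]
      exact Submodule.mem_top
    · rw [brutal_of_lt K (by omega : i < n), Submodule.mem_bot] at hx
      rw [hx, map_zero]
      exact Submodule.zero_mem _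
  · rw [K.shape i j hrel]
    exact Submodule.zero_mem _

lemma isPerfectModule_of_linearEquiv {M M' : Type u} [AddCommGroup M] [Module R M]
    [AddCommGroup M'] [Module R M'] (e : M ≃ₗ[R] M') (h : IsPerfectModule R M) :
    IsPerfectModule R M' :=
  isPerfect_of_iso ((singleFunctor (ModuleCat.{u} R) 0).mapIso e.toModuleIso) h

lemma isPerfectModule_of_subsingleton (M : Type u) [AddCommGroup M] [Module R M]
    [Subsingleton M] : IsPerfectModule R M :=
  isPerfect_of_isZero _ ((singleFunctor (ModuleCat.{u} R) 0).map_isZero
    (ModuleCat.isZero_of_subsingleton _))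

/-- a complex concentrated in one degree with perfect term there is perfect. -/
lemma isPerfect_toD_of_concentrated (E : Cx R) (a : ℤ) (hE : ∀ i, i ≠ a → IsZero (E.X i))
    (h : IsPerfectModule R (E.X a)) : IsPerfect R (toD E) := by
  haveI : E.IsStrictlyGE a := by
    rw [CochainComplex.isStrictlyGE_iff]
    intro i hi
    exact hE i (by omega)
  haveI : E.IsStrictlyLE a := by
    rw [CochainComplex.isStrictlyLE_iff]
    intro i hi
    exact hE i (by omega)
  obtain ⟨M, ⟨e⟩⟩ := CochainComplex.exists_iso_single E a
  have eM : E.X a ≅ M := (HomologicalComplex.eval _ _ a).mapIso e ≪≫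
    HomologicalComplex.singleObjXSelf (ComplexShape.up ℤ) a M
  have h1 : IsPerfect R ((singleFunctor (ModuleCat.{u} R) a).obj M) :=
    isPerfect_single_of_iso a eM h
  exact isPerfect_of_iso ((singleFunctorIsoCompQ _ a).app M ≪≫ (Q.mapIso e).symm) h1

set_option maxHeartbeats 800000 in
theorem isPerfect_of_termwise_aux (n : ℕ) : ∀ (K : Cx R) (a : ℤ),
    (∀ i : ℤ, i < a ∨ a + n ≤ i → IsZero (K.X i)) →
    (∀ i : ℤ, IsPerfectModule R (K.X i)) → IsPerfect R (toD K) := by
  induction n with
  | zero =>
    intro K a hz _
    refine ⟨K, a, a, fun i hi => hz i (by rcases hi with hi | hi; exact Or.inl hi; right; simp; omega),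
      fun i => ?_, ⟨Iso.refl _⟩⟩
    haveI := ModuleCat.subsingleton_of_isZero (hz i (by
      by_cases h : i < a
      · exact Or.inl h
      · right; simp; omega))
    exact ⟨inferInstance, inferInstance⟩
  | succ n ih =>
    intro K a hz hP
    have hS := brutal_stable K (a + 1)
    have hT := triangleOfSES_distinguished (shortExact K (brutal K (a + 1)) hS)
    -- the subcomplex
    have h1 : IsPerfect R (toD (sub K (brutal K (a + 1)) hS)) := by
      apply ih _ (a + 1)
      · intro i hi
        by_cases hia : i < a + 1
        · have hb := brutal_of_lt K hia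
          haveI : Subsingleton (brutal K (a + 1) i) := by rw [hb]; infer_instance
          exact ModuleCat.isZero_of_subsingleton (ModuleCat.of R (brutal K (a + 1) i))
        · haveI := ModuleCat.subsingleton_of_isZero (hz i (Or.inr (by push_cast; omega)))
          haveI : Subsingleton (brutal K (a + 1) i) := inferInstance
          exact ModuleCat.isZero_of_subsingleton (ModuleCat.of R (brutal K (a + 1) i))
      · intro i
        by_cases hia : i < a + 1
        · have hb := brutal_of_lt K hia
          haveI : Subsingleton (brutal K (a + 1) i) := by rw [hb]; infer_instance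
          exact isPerfectModule_of_subsingleton (brutal K (a + 1) i)
        · have hb := brutal_of_le K (not_lt.mp hia)
          exact isPerfectModule_of_linearEquiv (LinearEquiv.ofTop _ hb).symm (hP i)
    -- the quotient complex
    have h3 : IsPerfect R (toD (quot K (brutal K (a + 1)) hS)) := by
      apply isPerfect_toD_of_concentrated _ a
      · intro i hi
        by_cases hia : i < a + 1
        · have hb := brutal_of_lt K hia
          haveI := ModuleCat.subsingleton_of_isZero (hz i (Or.inl (by omega)))
          haveI : Subsingleton (K.X i ⧸ brutal K (a + 1) i) := inferInstance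
          exact ModuleCat.isZero_of_subsingleton (ModuleCat.of R (K.X i ⧸ brutal K (a + 1) i))
        · have hb := brutal_of_le K (not_lt.mp hia)
          haveI : Subsingleton (K.X i ⧸ brutal K (a + 1) i) := by
            rw [Submodule.Quotient.subsingleton_iff]; exact hb
          exact ModuleCat.isZero_of_subsingleton (ModuleCat.of R (K.X i ⧸ brutal K (a + 1) i))
      · have hb := brutal_of_lt K (by omega : a < a + 1)
        exact isPerfectModule_of_linearEquiv (Submodule.quotEquivOfEqBot _ hb).symm (hP a)
    exact (isPerfect_two_out_of_three _ hT).2.1 h1 h3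

theorem isPerfect_of_bounded_termwise_perfectModule (K : DRing.Cx R)
    (a b : ℤ) (hab : DRing.VanishesOutside K a b) (hK : ∀ i : ℤ, DRing.IsPerfectModule R (K.X i)) :
    DRing.IsPerfect R (DRing.toD K) := by
  refine isPerfect_of_termwise_aux (b + 1 - a).toNat K a ?_ hK
  intro i hi
  apply hab i
  rcases hi with hi | hi
  · exact Or.inl hi
  · right
    have := Int.self_le_toNat (b + 1 - a)
    omega

end Groth.Agent.H4.DRing1
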