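import Mathlib
import Groth.Prelude.Def_DRing2
set_option autoImplicit false
universe u
open CategoryTheory CategoryTheory.Limits CategoryTheory.Pretriangulated

namespace Groth.Agent.H4.TwoTerm

attribute [local instance] HasDerivedCategory.standard

variable {R : Type u} [CommRing R]

open DRing DerivedCategory

/-- the cone of a morphism which is epi on `H^i` and mono on `H^{i+1}` has vanishing `H^i`. -/
lemma isZero_homology_obj₃ (T : Triangle (Dual.D R)) (hT : T ∈ distinguishedTriangles) (i j : ℤ)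
    (hij : i + 1 = j)
    (hepi : Epi ((homologyFunctor (ModuleCat.{u} R) i).map T.mor₁))
    (hmono : Mono ((homologyFunctor (ModuleCat.{u} R) j).map T.mor₁)) :
    IsZero ((homologyFunctor (ModuleCat.{u} R) i).obj T.obj₃) := by
  have h1 := (HomologySequence.epi_homologyMap_mor₁_iff T hT i).1 hepi
  have h2 := (HomologySequence.mono_homologyMap_mor₁_iff T hT i j hij).1 hmono
  have h3 := HomologySequence.exact₃ T hT i j hij
  rw [IsZero.iff_id_eq_zero]
  have := h3.mono_g h1
  dsimp only at this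
  rw [← cancel_mono (HomologySequence.δ T i j hij), h2, comp_zero, zero_comp]

lemma isGE_of_subsingleton (K : Dual.D R) (n : ℤ)
    (h : ∀ i : ℤ, i < n → Subsingleton (Dual.HD R K i)) : K.IsGE n := by
  rw [isGE_iff]
  intro i hi
  haveI := h i hi
  exact ModuleCat.isZero_of_subsingleton _

lemma isLE_of_subsingleton (K : Dual.D R) (n : ℤ)
    (h : ∀ i : ℤ, n < i → Subsingleton (Dual.HD R K i)) : K.IsLE n := by
  rw [isLE_iff]
  intro i hi
  haveI := h i hi
  exact ModuleCat.isZero_of_subsingleton _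

/-- The cone of `α : K → K'` (both in `D^{[-1,0]}`) with `H⁰(α)` iso and `H⁻¹(α)` epi is
in `D^{≤ -2}`. -/
lemma isLE_cone (T : Triangle (Dual.D R)) (hT : T ∈ distinguishedTriangles)
    (hK : ∀ i : ℤ, i ≠ -1 → i ≠ 0 → Subsingleton (Dual.HD R T.obj₁ i))
    (hK' : ∀ i : ℤ, i ≠ -1 → i ≠ 0 → Subsingleton (Dual.HD R T.obj₂ i))
    (h0 : IsIso ((homologyFunctor (ModuleCat.{u} R) 0).map T.mor₁))
    (h1 : Epi ((homologyFunctor (ModuleCat.{u} R) (-1)).map T.mor₁)) :
    T.obj₃.IsLE (-2) := by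
  rw [isLE_iff]
  intro i hi
  have hz : ∀ j : ℤ, 0 < j → IsZero ((homologyFunctor (ModuleCat.{u} R) j).obj T.obj₁) := by
    intro j hj
    haveI := hK j (by omega) (by omega)
    exact ModuleCat.isZero_of_subsingleton _
  have hz' : ∀ j : ℤ, 0 < j → IsZero ((homologyFunctor (ModuleCat.{u} R) j).obj T.obj₂) := by
    intro j hj
    haveI := hK' j (by omega) (by omega)
    exact ModuleCat.isZero_of_subsingleton _
  by_cases hi1 : i = -1
  · subst hi1
    exact isZero_homology_obj₃ T hT (-1) 0 (by simp) h1 inferInstance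
  by_cases hi0 : i = 0
  · subst hi0
    refine isZero_homology_obj₃ T hT 0 1 (by simp) inferInstance ?_
    exact ⟨fun _ _ _ => (hz 1 (by simp)).eq_of_tgt _ _⟩
  · refine isZero_homology_obj₃ T hT i (i + 1) rfl ?_ ?_
    · exact ⟨fun _ _ _ => (hz' i (by omega)).eq_of_src _ _⟩
    · exact ⟨fun _ _ _ => (hz (i + 1) (by omega)).eq_of_tgt _ _⟩

/-- morphisms out of such a cone to an object of `D^{≥ -1}` vanish; hence a morphism out of `K'`
killed by `α` is zero. -/
lemma eq_zero_of_comp_eq_zero {K K' : Dual.D R} (α : K ⟶ K')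
    (hK : ∀ i : ℤ, i ≠ -1 → i ≠ 0 → Subsingleton (Dual.HD R K i))
    (hK' : ∀ i : ℤ, i ≠ -1 → i ≠ 0 → Subsingleton (Dual.HD R K' i))
    (h0 : IsIso ((homologyFunctor (ModuleCat.{u} R) 0).map α))
    (h1 : Epi ((homologyFunctor (ModuleCat.{u} R) (-1)).map α))
    (Y : Dual.D R) [Y.IsGE (-1)] (f : K' ⟶ Y) (hf : α ≫ f = 0) : f = 0 := by
  obtain ⟨C, β, γ, hT⟩ := distinguished_cocone_triangle α
  haveI := isLE_cone _ hT hK hK' h0 h1
  obtain ⟨θ, hθ⟩ := Triangle.yoneda_exact₂ _ hT f hf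
  have : θ = 0 := TStructure.t.zero θ (-2) (-1) (by simp)
  rw [hθ, this]
  exact comp_zero

end Groth.Agent.H4.TwoTerm
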