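import Mathlib
import Groth.Agent.H4.TwoTerm
set_option autoImplicit false
universe u
open CategoryTheory CategoryTheory.Limits CategoryTheory.Pretriangulated

namespace Groth.Agent.H4.TwoTerm

attribute [local instance] HasDerivedCategory.standard

variable {R : Type u} [CommRing R]

open DRing DerivedCategory

/-- chain level: a chain map from a complex strictly `≤ n` to a complex strictly `≥ n` which is
zero on `H^n` is zero. -/
lemma chain_eq_zero_of_homologyMap {X Y : Cx R} (n : ℤ) [X.IsStrictlyLE n] [Y.IsStrictlyGE n]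
    (g : X ⟶ Y) (hg : HomologicalComplex.homologyMap g n = 0) : g = 0 := by
  ext i : 1
  by_cases h1 : n < i
  · exact (X.isZero_of_isStrictlyLE n i h1).eq_of_src _ _
  by_cases h2 : i < n
  · exact (Y.isZero_of_isStrictlyGE n i h2).eq_of_tgt _ _
  obtain rfl : i = n := by omega
  haveI : IsIso (X.iCycles i) := X.isIso_iCycles i (i + 1) (by simp)
    ((X.isZero_of_isStrictlyLE i (i + 1) (by omega)).eq_of_tgt _ _)
  haveI : IsIso (Y.homologyπ i) := Y.isIso_homologyπ (i - 1) i (by simp)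
    ((Y.isZero_of_isStrictlyGE i (i - 1) (by omega)).eq_of_src _ _)
  have h3 := HomologicalComplex.homologyπ_naturality g i
  rw [hg, comp_zero] at h3
  have h4 : HomologicalComplex.cyclesMap g i = 0 := by
    rw [← cancel_mono (Y.homologyπ i), ← h3, zero_comp]
  have h5 := HomologicalComplex.cyclesMap_i g i
  rw [h4, zero_comp] at h5
  apply (cancel_epi (X.iCycles i)).1
  rw [← h5, HomologicalComplex.zero_f, comp_zero]

/-- a morphism `X → Y` with `X ∈ D^{≤ n}`, `Y ∈ D^{≥ n}` inducing zero on `H^n` is zero. -/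
theorem hom_eq_zero_of_homology {X Y : Dual.D R} (n : ℤ) [X.IsLE n] [Y.IsGE n] (f : X ⟶ Y)
    (hf : (homologyFunctor (ModuleCat.{u} R) n).map f = 0) : f = 0 := by
  obtain ⟨X', hX', ⟨eX⟩⟩ := exists_iso_Q_obj_of_isLE X n
  obtain ⟨Y', hY', ⟨eY⟩⟩ := exists_iso_Q_obj_of_isGE Y n
  obtain ⟨X'', hX'', s, hs, g, fac⟩ := right_fac_of_isStrictlyLE (eX.inv ≫ f ≫ eY.hom) n
  have h1 : (homologyFunctor (ModuleCat.{u} R) n).map (Q.map g) = 0 := by
    have : Q.map g = Q.map s ≫ eX.inv ≫ f ≫ eY.hom := by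
      rw [fac, IsIso.hom_inv_id_assoc]
    rw [this]
    simp only [Functor.map_comp, hf, zero_comp, comp_zero]
  have h2 : HomologicalComplex.homologyMap g n = 0 := by
    have := homologyFunctorFactors_hom_naturality (C := ModuleCat.{u} R) g n
    rw [h1, zero_comp] at this
    apply (cancel_epi ((homologyFunctorFactors (ModuleCat.{u} R) n).hom.app X'')).1
    exact this.symm.trans comp_zero.symm
  have h3 := chain_eq_zero_of_homologyMap n g h2
  rw [h3, Functor.map_zero, comp_zero] at fac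
  have : f = eX.hom ≫ (eX.inv ≫ f ≫ eY.hom) ≫ eY.inv := by simp
  rw [this, fac, zero_comp, comp_zero]

/-- the truncation triangle `τ_{<c} K → K → τ_{≥c} K`, with explicit types. -/
lemma exists_truncation_triangle (K : Dual.D R) (c : ℤ) :
    ∃ (A B : Dual.D R) (m₁ : A ⟶ K) (m₂ : K ⟶ B) (m₃ : B ⟶ A⟦(1 : ℤ)⟧),
      Triangle.mk m₁ m₂ m₃ ∈ distinguishedTriangles ∧ A.IsLE (c - 1) ∧ B.IsGE c := by
  let T := (TStructure.t.triangleLTGE c).obj K
  have hT : T ∈ distinguishedTriangles := TStructure.t.triangleLTGE_distinguished c K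
  exact ⟨T.obj₁, T.obj₃, T.mor₁, T.mor₂, T.mor₃, hT,
    inferInstanceAs (TStructure.t.IsLE T.obj₁ (c - 1)), inferInstanceAs (TStructure.t.IsGE T.obj₃ c)⟩

end Groth.Agent.H4.TwoTerm
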