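import Mathlib
import Groth.Agent.H4.TwoTerm2
import Groth.Agent.H4.DRing2
set_option autoImplicit false
universe u
open CategoryTheory CategoryTheory.Limits CategoryTheory.Pretriangulated

namespace Groth.Agent.H4.TwoTerm

attribute [local instance] HasDerivedCategory.standard

variable {R : Type u} [CommRing R]

open DRing DerivedCategory
open CochainComplex (mappingCone)

/-- `F[0]` as a complex. -/
noncomputable abbrev sg (F : ModuleCat.{u} R) : Cx R :=
  (HomologicalComplex.single (ModuleCat.{u} R) (ComplexShape.up ℤ) 0).obj F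

/-- the chain map `F[0] → X` attached to `p : F → X⁰` when `X¹ = 0`. -/
noncomputable def fromSg (X : Cx R) (hX : VanishesOutside X (-1) 0) (F : ModuleCat.{u} R)
    (p : F ⟶ X.X 0) : sg F ⟶ X :=
  HomologicalComplex.mkHomFromSingle p (fun k hk => by
    simp only [ComplexShape.up_Rel] at hk
    exact (hX k (Or.inr (by omega))).eq_of_tgt _ _)

lemma fromSg_f (X : Cx R) (hX : VanishesOutside X (-1) 0) (F : ModuleCat.{u} R)
    (p : F ⟶ X.X 0) : (fromSg X hX F p).f 0 =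
      (HomologicalComplex.singleObjXSelf (ComplexShape.up ℤ) 0 F).hom ≫ p :=
  HomologicalComplex.mkHomFromSingle_f _ _

lemma cone_isZero (X : Cx R) (hX : VanishesOutside X (-1) 0) (F : ModuleCat.{u} R)
    (p : F ⟶ X.X 0) (i : ℤ) (hi : i ≠ -1) (hi0 : i ≠ 0) :
    IsZero ((mappingCone (fromSg X hX F p)).X i) := by
  apply Groth.Agent.H3.PerfAux.mappingCone_X_isZero
  · exact HomologicalComplex.isZero_single_obj_X _ _ _ _ (by omega)
  · exact hX i (by omega)

lemma cone_exactAt_zero (X : Cx R) (hX : VanishesOutside X (-1) 0) (F : ModuleCat.{u} R)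
    (p : F ⟶ X.X 0)
    (hp : ∀ b : X.X 0, ∃ (f : F) (a : X.X (-1)), p.hom f + (X.d (-1) 0).hom a = b) :
    (mappingCone (fromSg X hX F p)).ExactAt 0 := by
  set g := fromSg X hX F p with hg
  rw [HomologicalComplex.exactAt_iff' _ (-1) 0 1 (by simp) (by simp),
    ShortComplex.moduleCat_exact_iff]
  intro y _
  change (mappingCone g).X 0 at y
  obtain ⟨f, a, hfa⟩ := hp ((mappingCone.snd g).v 0 0 (add_zero 0) y)
  have hy : y = (mappingCone.inr g).f 0 ((mappingCone.snd g).v 0 0 (add_zero 0) y) := by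
    have h1 := congrArg (fun ψ => ψ.hom y) (mappingCone.id_X g 0 1 (by simp))
    have h2 : (mappingCone.fst g).1.v 0 1 (by simp) = 0 :=
      (HomologicalComplex.isZero_single_obj_X _ _ _ _ (by simp)).eq_of_tgt _ _
    rw [h2, zero_comp, zero_add] at h1
    exact h1.symm
  refine ⟨(mappingCone.inl g).v 0 (-1) (by simp)
      ((HomologicalComplex.singleObjXSelf (ComplexShape.up ℤ) 0 F).inv f) +
    (mappingCone.inr g).f (-1) a, ?_⟩
  change ((mappingCone g).d (-1) 0).hom _ = y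
  rw [map_add]
  have h3 := congrArg (fun ψ => ψ.hom ((HomologicalComplex.singleObjXSelf (ComplexShape.up ℤ) 0 F).inv f))
    (mappingCone.inl_v_d g 0 (-1) 1 (by simp) (by simp))
  have h4 := congrArg (fun ψ => ψ.hom a) (mappingCone.inr_f_d g (-1) 0)
  have h5 : (sg F).d 0 1 = 0 := HomologicalComplex.single_obj_d _ _ _ _ _
  rw [h5, zero_comp, sub_zero, hg, fromSg_f] at h3
  simp only [ModuleCat.hom_comp, LinearMap.comp_apply] at h3 h4
  rw [h3, h4, hy, ← hfa]
  have h6 : (HomologicalComplex.singleObjXSelf (ComplexShape.up ℤ) 0 F).hom.hom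
      ((HomologicalComplex.singleObjXSelf (ComplexShape.up ℤ) 0 F).inv.hom f) = f :=
    congrArg (fun ψ => ψ.hom f) (HomologicalComplex.singleObjXSelf (ComplexShape.up ℤ) 0 F).inv_hom_id
  erw [h6]
  exact (map_add ((mappingCone.inr g).f 0).hom _ _).symm

/-- a distinguished triangle whose first map is represented by a chain map has its third vertex
represented by the mapping cone. -/
lemma cone_iso_of_map (T : Triangle (Dual.D R)) (hT : T ∈ distinguishedTriangles)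
    (E₁ E₂ : Cx R) (e₁ : toD E₁ ≅ T.obj₁) (e₂ : toD E₂ ≅ T.obj₂) (f : E₁ ⟶ E₂)
    (hf : Q.map f ≫ e₂.hom = e₁.hom ≫ T.mor₁) :
    Nonempty (toD (mappingCone f) ≅ T.obj₃) := by
  have hT' : Q.mapTriangle.obj (mappingCone.triangle f) ∈ distinguishedTriangles := by
    rw [mem_distTriang_iff]
    exact ⟨_, _, f, ⟨Iso.refl _⟩⟩
  exact ⟨Triangle.π₃.mapIso (isoTriangleOfIso₁₂ _ _ hT' hT e₁ e₂ hf)⟩

/-- a distinguished triangle `A[0] → F[0] → K →` presents `K` as a two-term complex. -/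
lemma twoTerm_of_triangle (T : Triangle (Dual.D R)) (hT : T ∈ distinguishedTriangles)
    (A F : ModuleCat.{u} R) (e₁ : (singleFunctor (ModuleCat.{u} R) 0).obj A ≅ T.obj₁)
    (e₂ : (singleFunctor (ModuleCat.{u} R) 0).obj F ≅ T.obj₂) :
    ∃ δ : A ⟶ F, (singleFunctor (ModuleCat.{u} R) 0).map δ = e₁.hom ≫ T.mor₁ ≫ e₂.inv ∧
      Nonempty (toD (mappingCone ((HomologicalComplex.single (ModuleCat.{u} R)
        (ComplexShape.up ℤ) 0).map δ)) ≅ T.obj₃) := by
  let δ : A ⟶ F := (singleFunctor (ModuleCat.{u} R) 0).preimage (e₁.hom ≫ T.mor₁ ≫ e₂.inv)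
  have hδ : (singleFunctor (ModuleCat.{u} R) 0).map δ = e₁.hom ≫ T.mor₁ ≫ e₂.inv :=
    Functor.map_preimage _ _
  refine ⟨δ, hδ, ?_⟩
  obtain ⟨iA, iF, nat⟩ : ∃ (iA : (singleFunctor (ModuleCat.{u} R) 0).obj A ≅ toD (sg A))
      (iF : (singleFunctor (ModuleCat.{u} R) 0).obj F ≅ toD (sg F)),
      (singleFunctor (ModuleCat.{u} R) 0).map δ ≫ iF.hom = iA.hom ≫
        Q.map ((HomologicalComplex.single (ModuleCat.{u} R) (ComplexShape.up ℤ) 0).map δ) :=
    ⟨(singleFunctorIsoCompQ (ModuleCat.{u} R) 0).app A,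
      (singleFunctorIsoCompQ (ModuleCat.{u} R) 0).app F,
      (singleFunctorIsoCompQ (ModuleCat.{u} R) 0).hom.naturality δ⟩
  refine cone_iso_of_map T hT (sg A) (sg F) (iA.symm ≪≫ e₁) (iF.symm ≪≫ e₂) _ ?_
  rw [Iso.trans_hom, Iso.trans_hom, Iso.symm_hom, Iso.symm_hom, ← cancel_epi iA.hom,
    ← Category.assoc, ← nat, hδ]
  simp

set_option maxHeartbeats 800000 in
/-- two-term representative with prescribed top term. -/
theorem exists_twoTerm (X : Cx R) (hX : VanishesOutside X (-1) 0) (F : ModuleCat.{u} R)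
    (p : F ⟶ X.X 0)
    (hp : ∀ b : X.X 0, ∃ (f : F) (a : X.X (-1)), p.hom f + (X.d (-1) 0).hom a = b) :
    ∃ (A : ModuleCat.{u} R) (δ : A ⟶ F),
      Nonempty (toD (mappingCone ((HomologicalComplex.single (ModuleCat.{u} R)
        (ComplexShape.up ℤ) 0).map δ)) ≅ toD X) ∧
      ∃ u : (homologyFunctor (ModuleCat.{u} R) (-1)).obj (toD X) ⟶ A,
        ∀ a : A, δ.hom a = 0 → ∃ h, u.hom h = a := by
  set g := fromSg X hX F p with hg
  let C₀ := mappingCone g
  have hC0 : ∀ i : ℤ, i ≠ -1 → C₀.ExactAt i := by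
    intro i hi
    by_cases hi0 : i = 0
    · subst hi0
      exact cone_exactAt_zero X hX F p hp
    · exact HomologicalComplex.ExactAt.of_isZero (cone_isZero X hX F p i hi hi0)
  haveI : (Q.obj C₀).IsGE (-1) := by
    rw [isGE_Q_obj_iff, CochainComplex.isGE_iff]
    intro i hi
    exact hC0 i (by omega)
  haveI : (Q.obj C₀).IsLE (-1) := by
    rw [isLE_Q_obj_iff, CochainComplex.isLE_iff]
    intro i hi
    exact hC0 i (by omega)
  obtain ⟨A, ⟨eC⟩⟩ := exists_iso_singleFunctor_obj_of_isGE_of_isLE (Q.obj C₀) (-1)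
  let T₀ := Q.mapTriangle.obj (mappingCone.triangle g)
  have hT₀ : T₀ ∈ distinguishedTriangles := by
    rw [mem_distTriang_iff]
    exact ⟨_, _, g, ⟨Iso.refl _⟩⟩
  obtain ⟨T', hT', e₁, e₂, ⟨e₃⟩⟩ : ∃ (T' : Triangle (Dual.D R)) (_ : T' ∈ distinguishedTriangles)
      (_ : (singleFunctor (ModuleCat.{u} R) 0).obj A ≅ T'.obj₁)
      (_ : (singleFunctor (ModuleCat.{u} R) 0).obj F ≅ T'.obj₂), Nonempty (T'.obj₃ ≅ toD X) :=
    ⟨T₀.invRotate, inv_rot_of_distTriang _ hT₀,
      (((singleFunctors (ModuleCat.{u} R)).shiftIso (-1) 0 (-1) (by simp)).symm.app A) ≪≫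
        (shiftFunctor (Dual.D R) (-1 : ℤ)).mapIso eC.symm,
      (singleFunctorIsoCompQ (ModuleCat.{u} R) 0).app F, ⟨Iso.refl _⟩⟩
  obtain ⟨δ, hδ, ⟨e⟩⟩ := twoTerm_of_triangle T' hT' A F e₁ e₂
  refine ⟨A, δ, ⟨e ≪≫ e₃⟩, ?_⟩
  have hS := HomologySequence.exact₁ T' hT' (-1) 0 (by simp)
  rw [ShortComplex.moduleCat_exact_iff] at hS
  dsimp only at hS
  let σ := singleFunctorCompHomologyFunctorIso (ModuleCat.{u} R) 0
  let ι : (homologyFunctor (ModuleCat.{u} R) 0).obj T'.obj₁ ≅ A :=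
    (homologyFunctor (ModuleCat.{u} R) 0).mapIso e₁.symm ≪≫ σ.app A
  refine ⟨(homologyFunctor (ModuleCat.{u} R) (-1)).map e₃.inv ≫
    HomologySequence.δ T' (-1) 0 (by simp) ≫ ι.hom, ?_⟩
  intro a ha
  have h1 : T'.mor₁ = e₁.inv ≫ (singleFunctor (ModuleCat.{u} R) 0).map δ ≫ e₂.hom := by
    rw [hδ]; simp
  have h2 : (homologyFunctor (ModuleCat.{u} R) 0).map T'.mor₁ =
      ι.hom ≫ δ ≫ σ.inv.app F ≫ (homologyFunctor (ModuleCat.{u} R) 0).map e₂.hom := by
    have nat := σ.hom.naturality δ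
    dsimp only [Functor.comp_map, Functor.id_map] at nat
    rw [h1, Functor.map_comp, Functor.map_comp]
    simp only [ι, Iso.trans_hom, Functor.mapIso_hom, Iso.symm_hom, Iso.app_hom, Category.assoc]
    rw [← reassoc_of% nat, Iso.hom_inv_id_app_assoc]
  obtain ⟨h', hh'⟩ := hS (ι.inv.hom a) (by
    change ((homologyFunctor (ModuleCat.{u} R) 0).map T'.mor₁).hom (ι.inv.hom a) = 0
    rw [h2]
    simp only [ModuleCat.hom_comp, LinearMap.comp_apply]
    have : ι.hom.hom (ι.inv.hom a) = a := congrArg (fun ψ => ψ.hom a) ι.inv_hom_id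
    rw [this, ha, map_zero, map_zero])
  refine ⟨((homologyFunctor (ModuleCat.{u} R) (-1)).map e₃.hom).hom h', ?_⟩
  simp only [ModuleCat.hom_comp, LinearMap.comp_apply]
  have h3 : ((homologyFunctor (ModuleCat.{u} R) (-1)).map e₃.inv).hom
      (((homologyFunctor (ModuleCat.{u} R) (-1)).map e₃.hom).hom h') = h' := by
    have := congrArg (fun ψ => ψ.hom h') (((homologyFunctor (ModuleCat.{u} R) (-1)).mapIso e₃).hom_inv_id)
    exact this
  rw [h3, hh']
  exact congrArg (fun ψ => ψ.hom a) ι.inv_hom_id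

/-- the two-term complex `[A → F]` (degrees `-1, 0`) attached to `δ`. -/
noncomputable abbrev tt {A F : ModuleCat.{u} R} (δ : A ⟶ F) : Cx R :=
  mappingCone ((HomologicalComplex.single (ModuleCat.{u} R) (ComplexShape.up ℤ) 0).map δ)

lemma tt_vanishes {A F : ModuleCat.{u} R} (δ : A ⟶ F) : VanishesOutside (tt δ) (-1) 0 := by
  intro i hi
  apply Groth.Agent.H3.PerfAux.mappingCone_X_isZero
  · exact HomologicalComplex.isZero_single_obj_X _ _ _ _ (by omega)
  · exact HomologicalComplex.isZero_single_obj_X _ _ _ _ (by omega)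

/-- the degree `0` term of `[A → F]` is `F`. -/
noncomputable def ttX0 {A F : ModuleCat.{u} R} (δ : A ⟶ F) : (tt δ).X 0 ≃ₗ[R] F := by
  have e : (tt δ).X 0 ≅ (sg A).X (0 + 1) ⊞ (sg F).X 0 :=
    HomologicalComplex.homotopyCofiber.XIsoBiprod
      ((HomologicalComplex.single (ModuleCat.{u} R) (ComplexShape.up ℤ) 0).map δ) 0 (0 + 1) rfl
  haveI : Subsingleton ((sg A).X (0 + 1)) := ModuleCat.subsingleton_of_isZero
      (HomologicalComplex.isZero_single_obj_X (ComplexShape.up ℤ) 0 A (0 + 1) (by simp))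
  haveI : Unique ((sg A).X (0 + 1)) := ⟨⟨0⟩, fun _ => Subsingleton.elim _ _⟩
  exact (e ≪≫ ModuleCat.biprodIsoProd _ _).toLinearEquiv ≪≫ₗ LinearEquiv.uniqueProd ≪≫ₗ
    (HomologicalComplex.singleObjXSelf (ComplexShape.up ℤ) 0 F).toLinearEquiv

/-- the degree `-1` term of `[A → F]` is `A`. -/
noncomputable def ttXm1 {A F : ModuleCat.{u} R} (δ : A ⟶ F) : (tt δ).X (-1) ≃ₗ[R] A := by
  have e : (tt δ).X (-1) ≅ (sg A).X (-1 + 1) ⊞ (sg F).X (-1) :=
    HomologicalComplex.homotopyCofiber.XIsoBiprod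
      ((HomologicalComplex.single (ModuleCat.{u} R) (ComplexShape.up ℤ) 0).map δ) (-1) (-1 + 1) rfl
  haveI : Subsingleton ((sg F).X (-1)) := ModuleCat.subsingleton_of_isZero
      (HomologicalComplex.isZero_single_obj_X (ComplexShape.up ℤ) 0 F (-1) (by simp))
  haveI : Unique ((sg F).X (-1)) := ⟨⟨0⟩, fun _ => Subsingleton.elim _ _⟩
  exact (e ≪≫ ModuleCat.biprodIsoProd _ _).toLinearEquiv ≪≫ₗ LinearEquiv.prodUnique ≪≫ₗ
    ((sg A).XIsoOfEq (show (-1 : ℤ) + 1 = 0 by simp)).toLinearEquiv ≪≫ₗ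
    (HomologicalComplex.singleObjXSelf (ComplexShape.up ℤ) 0 A).toLinearEquiv

lemma exists_strict_rep (K : Dual.D R)
    (hK : ∀ i : ℤ, i ≠ -1 → i ≠ 0 → Subsingleton (Dual.HD R K i)) :
    ∃ X : Cx R, VanishesOutside X (-1) 0 ∧ Nonempty (K ≅ toD X) := by
  haveI : K.IsGE (-1) := isGE_of_subsingleton K (-1) (fun i hi => hK i (by omega) (by omega))
  haveI : K.IsLE 0 := isLE_of_subsingleton K 0 (fun i hi => hK i (by omega) (by omega))
  obtain ⟨X, hX1, hX2, ⟨e⟩⟩ := exists_iso_Q_obj_of_isGE_of_isLE K (-1) 0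
  refine ⟨X, ?_, ⟨e⟩⟩
  intro i hi
  rcases hi with hi | hi
  · exact X.isZero_of_isStrictlyGE (-1) i hi
  · exact X.isZero_of_isStrictlyLE 0 i hi

/-- an object with cohomology in degrees `-1, 0` is represented by a two-term complex with free
degree `0` term. -/
theorem exists_twoTerm_free (K : Dual.D R)
    (hK : ∀ i : ℤ, i ≠ -1 → i ≠ 0 → Subsingleton (Dual.HD R K i)) :
    ∃ (A F : ModuleCat.{u} R) (δ : A ⟶ F), Module.Free R F ∧ Nonempty (toD (tt δ) ≅ K) := by
  obtain ⟨X, hX, ⟨e⟩⟩ := exists_strict_rep K hK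
  let F : ModuleCat.{u} R := ModuleCat.of R (X.X 0 →₀ R)
  let p : F ⟶ X.X 0 := ModuleCat.ofHom (Finsupp.linearCombination R id)
  obtain ⟨A, δ, ⟨e'⟩, -⟩ := exists_twoTerm X hX F p (by
    intro b
    refine ⟨Finsupp.single b 1, 0, ?_⟩
    rw [map_zero, add_zero]
    change (Finsupp.linearCombination R id) (Finsupp.single b 1) = b
    rw [Finsupp.linearCombination_single, one_smul, id])
  exact ⟨A, F, δ, inferInstanceAs (Module.Free R (X.X 0 →₀ R)), ⟨e' ≪≫ e.symm⟩⟩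

end Groth.Agent.H4.TwoTerm
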