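import Mathlib
import Groth.Agent.H4.TwoTerm3
set_option autoImplicit false
universe u
open CategoryTheory CategoryTheory.Limits CategoryTheory.Pretriangulated

namespace Groth.Agent.H4.ProjAmp

attribute [local instance] HasDerivedCategory.standard

variable {R : Type u} [CommRing R]

open DRing DerivedCategory Groth.Agent.H4.TwoTerm Groth.Agent.H4.DRing1

/-- morphisms from a bounded above complex of projectives living in degrees `≥ a` to an object of
`D^{<a}` vanish. -/
theorem hom_eq_zero_of_projective (P : Cx R) (a b : ℤ) (hP : VanishesOutside P a b)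
    (hproj : ∀ i : ℤ, Module.Projective R (P.X i)) (K : Dual.D R)
    [K.IsLE (a - 1)] (φ : toD P ⟶ K) : φ = 0 := by
  obtain ⟨X, hX, ⟨e⟩⟩ := exists_iso_Q_obj_of_isLE K (a - 1)
  haveI : P.IsKProjective := isKProjective_of_vanishesAbove_projective P b
    (fun i hi => hP i (Or.inr hi)) hproj
  obtain ⟨f, hf⟩ := Groth.Agent.H3.PerfAux.exists_map_of_isKProjective P X (φ ≫ e.hom)
  have hf0 : f = 0 := by
    apply HomologicalComplex.hom_ext
    intro i
    by_cases hi : i < a
    · exact (hP i (Or.inl hi)).eq_of_src _ _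
    · exact (X.isZero_of_isStrictlyLE (a - 1) i (by omega)).eq_of_tgt _ _
  rw [hf0, Functor.map_zero] at hf
  have : φ = (φ ≫ e.hom) ≫ e.inv := by simp
  rw [this, ← hf, zero_comp]

end Groth.Agent.H4.ProjAmp
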