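import Mathlib
import Groth.Prelude.Def_DRing2
import Groth.Agent.H4.DRing1
import Groth.Agent.H4.TwoTerm
import Groth.Agent.H4.DRing3
import Groth.Agent.H4.ProjAmp
set_option autoImplicit false
universe u
open CategoryTheory CategoryTheory.Limits CategoryTheory.Pretriangulated

namespace Groth.Agent.H4.PC

section Four

variable {C : Type*} [Category C] [Abelian C]
  {A₁ A₂ A₃ A₄ B₁ B₂ B₃ B₄ : C}
  (f₁ : A₁ ⟶ A₂) (f₂ : A₂ ⟶ A₃) (f₃ : A₃ ⟶ A₄)
  (g₁ : B₁ ⟶ B₂) (g₂ : B₂ ⟶ B₃) (g₃ : B₃ ⟶ B₄)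
  (a : A₁ ⟶ B₁) (b : A₂ ⟶ B₂) (c : A₃ ⟶ B₃) (d : A₄ ⟶ B₄)
  (comm₁ : f₁ ≫ b = a ≫ g₁) (comm₂ : f₂ ≫ c = b ≫ g₂) (comm₃ : f₃ ≫ d = c ≫ g₃)

include comm₁ comm₂ comm₃ in
theorem four_epi (zA : f₂ ≫ f₃ = 0) (exA : (ShortComplex.mk f₂ f₃ zA).Exact)
    (zB : g₁ ≫ g₂ = 0) (exB : (ShortComplex.mk g₁ g₂ zB).Exact) (zB' : g₂ ≫ g₃ = 0)
    (ha : Epi a) (hc : Epi c) (hd : Mono d) : Epi b := by
  let φ : ComposableArrows.mk₃ f₁ f₂ f₃ ⟶ ComposableArrows.mk₃ g₁ g₂ g₃ :=
    ComposableArrows.homMk₃ a b c d comm₁ comm₂ comm₃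
  exact Abelian.epi_of_epi_of_epi_of_mono' φ exA.exact_toComposableArrows
    exB.exact_toComposableArrows zB' ha hc hd

include comm₁ comm₂ comm₃ in
theorem four_mono (zA : f₁ ≫ f₂ = 0) (zA' : f₂ ≫ f₃ = 0)
    (exA : (ShortComplex.mk f₂ f₃ zA').Exact)
    (zB : g₁ ≫ g₂ = 0) (exB : (ShortComplex.mk g₁ g₂ zB).Exact)
    (ha : Epi a) (hb : Mono b) (hd : Mono d) : Mono c := by
  let φ : ComposableArrows.mk₃ f₁ f₂ f₃ ⟶ ComposableArrows.mk₃ g₁ g₂ g₃ :=
    ComposableArrows.homMk₃ a b c d comm₁ comm₂ comm₃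
  exact Abelian.mono_of_epi_of_mono_of_mono' φ zA exA.exact_toComposableArrows
    exB.exact_toComposableArrows ha hb hd

end Four


attribute [local instance] HasDerivedCategory.standard

variable {R : Type u} [CommRing R]

open DRing DerivedCategory ZeroObject

section Tri

variable {T T' : Triangle (Dual.D R)} (hT : T ∈ distinguishedTriangles)
  (hT' : T' ∈ distinguishedTriangles) (Φ : T ⟶ T')

include hT hT' in
lemma epi_hom₃ (i j : ℤ) (hij : i + 1 = j)
    (h2 : Epi ((homologyFunctor (ModuleCat.{u} R) i).map Φ.hom₂))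
    (h1 : Epi ((homologyFunctor (ModuleCat.{u} R) j).map Φ.hom₁))
    (h2' : Mono ((homologyFunctor (ModuleCat.{u} R) j).map Φ.hom₂)) :
    Epi ((homologyFunctor (ModuleCat.{u} R) i).map Φ.hom₃) := by
  refine four_epi ((homologyFunctor (ModuleCat.{u} R) i).map T.mor₂)
    (HomologySequence.δ T i j hij) ((homologyFunctor (ModuleCat.{u} R) j).map T.mor₁)
    ((homologyFunctor (ModuleCat.{u} R) i).map T'.mor₂)
    (HomologySequence.δ T' i j hij) ((homologyFunctor (ModuleCat.{u} R) j).map T'.mor₁)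
    _ _ _ _ ?_ ?_ ?_ (HomologySequence.δ_comp T hT i j hij) (HomologySequence.exact₁ T hT i j hij)
    (HomologySequence.comp_δ T' hT' i j hij) (HomologySequence.exact₃ T' hT' i j hij)
    (HomologySequence.δ_comp T' hT' i j hij) h2 h1 h2'
  · rw [← Functor.map_comp, ← Functor.map_comp, Φ.comm₂]
  · exact ((homologyFunctor (ModuleCat.{u} R) 0).homologySequenceδ_naturality T T' Φ i j hij).symm
  · rw [← Functor.map_comp, ← Functor.map_comp, Φ.comm₁]

include hT hT' in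
lemma mono_hom₃ (i j : ℤ) (hij : i + 1 = j)
    (h1 : Epi ((homologyFunctor (ModuleCat.{u} R) i).map Φ.hom₁))
    (h2 : Mono ((homologyFunctor (ModuleCat.{u} R) i).map Φ.hom₂))
    (h1' : Mono ((homologyFunctor (ModuleCat.{u} R) j).map Φ.hom₁)) :
    Mono ((homologyFunctor (ModuleCat.{u} R) i).map Φ.hom₃) := by
  refine four_mono ((homologyFunctor (ModuleCat.{u} R) i).map T.mor₁)
    ((homologyFunctor (ModuleCat.{u} R) i).map T.mor₂) (HomologySequence.δ T i j hij)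
    ((homologyFunctor (ModuleCat.{u} R) i).map T'.mor₁)
    ((homologyFunctor (ModuleCat.{u} R) i).map T'.mor₂) (HomologySequence.δ T' i j hij)
    _ _ _ _ ?_ ?_ ?_ ?_ (HomologySequence.comp_δ T hT i j hij)
    (HomologySequence.exact₃ T hT i j hij) ?_ (HomologySequence.exact₂ T' hT' i) h1 h2 h1'
  · rw [← Functor.map_comp, ← Functor.map_comp, Φ.comm₁]
  · rw [← Functor.map_comp, ← Functor.map_comp, Φ.comm₂]
  · exact ((homologyFunctor (ModuleCat.{u} R) 0).homologySequenceδ_naturality T T' Φ i j hij).symm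
  · rw [← Functor.map_comp, comp_distTriang_mor_zero₁₂ _ hT, Functor.map_zero]
  · rw [← Functor.map_comp, comp_distTriang_mor_zero₁₂ _ hT', Functor.map_zero]

end Tri

/-- witness: iso on `H^i`, `i > m`, and epi on `H^m`. -/
def IsWit (m : ℤ) {X Y : Dual.D R} (α : X ⟶ Y) : Prop :=
  (∀ i : ℤ, m < i → IsIso ((homologyFunctor (ModuleCat.{u} R) i).map α)) ∧
    Epi ((homologyFunctor (ModuleCat.{u} R) m).map α)

lemma IsWit.comp {m : ℤ} {X Y Z : Dual.D R} {α : X ⟶ Y} {β : Y ⟶ Z} (hα : IsWit m α)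
    (hβ : IsWit m β) : IsWit m (α ≫ β) := by
  refine ⟨fun i hi => ?_, ?_⟩
  · haveI := hα.1 i hi
    haveI := hβ.1 i hi
    rw [Functor.map_comp]; infer_instance
  · haveI := hα.2
    haveI := hβ.2
    rw [Functor.map_comp]; infer_instance

lemma IsWit.of_isIso {m : ℤ} {X Y : Dual.D R} (α : X ⟶ Y) [IsIso α] : IsWit m α :=
  ⟨fun _ _ => inferInstance, inferInstance⟩

lemma IsWit.mono {m n : ℤ} (h : m ≤ n) {X Y : Dual.D R} {α : X ⟶ Y} (hα : IsWit m α) :
    IsWit n α := by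
  refine ⟨fun i hi => hα.1 i (by omega), ?_⟩
  rcases h.lt_or_eq with h | rfl
  · haveI := hα.1 n h; infer_instance
  · exact hα.2

lemma IsWit.mono_map {m : ℤ} {X Y : Dual.D R} {α : X ⟶ Y} (hα : IsWit m α) (i : ℤ) (hi : m < i) :
    Mono ((homologyFunctor (ModuleCat.{u} R) i).map α) := by
  haveI := hα.1 i hi; infer_instance

lemma IsWit.epi {m : ℤ} {X Y : Dual.D R} {α : X ⟶ Y} (hα : IsWit m α) (i : ℤ) (hi : m ≤ i) :
    Epi ((homologyFunctor (ModuleCat.{u} R) i).map α) := (hα.mono hi).2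

lemma isWit_iff_isLE (T : Triangle (Dual.D R)) (hT : T ∈ distinguishedTriangles) (m : ℤ) :
    IsWit m T.mor₁ ↔ T.obj₃.IsLE (m - 1) := by
  constructor
  · intro h
    rw [isLE_iff]
    intro i hi
    refine TwoTerm.isZero_homology_obj₃ T hT i (i + 1) rfl (h.epi i (by omega)) ?_
    haveI := h.1 (i + 1) (by omega)
    infer_instance
  · intro h
    refine ⟨fun i hi => ?_, ?_⟩
    · haveI : Mono ((homologyFunctor (ModuleCat.{u} R) i).map T.mor₁) := by
        rw [HomologySequence.mono_homologyMap_mor₁_iff T hT (i - 1) i (by omega)]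
        exact (isZero_of_isLE T.obj₃ (m - 1) (i - 1) (by omega)).eq_of_src _ _
      haveI : Epi ((homologyFunctor (ModuleCat.{u} R) i).map T.mor₁) := by
        rw [HomologySequence.epi_homologyMap_mor₁_iff T hT i]
        exact (isZero_of_isLE T.obj₃ (m - 1) i (by omega)).eq_of_tgt _ _
      exact isIso_of_mono_of_epi _
    · rw [HomologySequence.epi_homologyMap_mor₁_iff T hT m]
      exact (isZero_of_isLE T.obj₃ (m - 1) m (by omega)).eq_of_tgt _ _


/-- bounded complexes of finite free modules. -/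
def IsBFF (E : Cx R) : Prop := ∃ a b : ℤ, VanishesOutside E a b ∧ TermwiseFiniteFree E

lemma isPC_iff (m : ℤ) (K : Dual.D R) :
    IsPseudoCoherent R m K ↔ ∃ E : Cx R, IsBFF E ∧ ∃ α : toD E ⟶ K, IsWit m α := by
  constructor
  · rintro ⟨E, a, b, α, h1, h2, h3, h4⟩
    exact ⟨E, ⟨a, b, h1, h2⟩, α, h3, h4⟩
  · rintro ⟨E, ⟨a, b, h1, h2⟩, α, h3, h4⟩
    exact ⟨E, a, b, α, h1, h2, h3, h4⟩

lemma isPC_of_iso {m : ℤ} {K K' : Dual.D R} (e : K ≅ K') (h : IsPseudoCoherent R m K) :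
    IsPseudoCoherent R m K' := by
  rw [isPC_iff] at h ⊢
  obtain ⟨E, hE, α, hα⟩ := h
  exact ⟨E, hE, α ≫ e.hom, hα.comp (IsWit.of_isIso _)⟩

lemma isPC_mono {m n : ℤ} (hmn : m ≤ n) {K : Dual.D R} (h : IsPseudoCoherent R m K) :
    IsPseudoCoherent R n K := by
  rw [isPC_iff] at h ⊢
  obtain ⟨E, hE, α, hα⟩ := h
  exact ⟨E, hE, α, hα.mono hmn⟩

lemma isPC_toD (m : ℤ) (E : Cx R) (hE : IsBFF E) : IsPseudoCoherent R m (toD E) := by
  rw [isPC_iff]
  exact ⟨E, hE, 𝟙 _, IsWit.of_isIso _⟩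

lemma isBFF_zero : IsBFF (0 : Cx R) := by
  refine ⟨0, 0, fun i _ => ?_, fun i => ?_⟩
  · exact (HomologicalComplex.eval _ _ i).map_isZero (isZero_zero _)
  · have hz : IsZero ((0 : Cx R).X i) :=
      (HomologicalComplex.eval _ _ i).map_isZero (isZero_zero _)
    haveI := ModuleCat.subsingleton_of_isZero hz
    exact ⟨inferInstance, inferInstance⟩

/-- objects of `D^{≤ m-1}` are `m`-pseudo-coherent. -/
lemma isPC_of_isLE (m : ℤ) (K : Dual.D R) [K.IsLE (m - 1)] : IsPseudoCoherent R m K := by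
  rw [isPC_iff]
  refine ⟨0, isBFF_zero, 0, fun i hi => ?_, ?_⟩
  · have h1 : IsZero ((homologyFunctor (ModuleCat.{u} R) i).obj (toD (0 : Cx R))) :=
      (homologyFunctor (ModuleCat.{u} R) i).map_isZero (Q.map_isZero (isZero_zero _))
    have h2 := isZero_of_isLE K (m - 1) i (by omega)
    exact ⟨0, h1.eq_of_src _ _, h2.eq_of_src _ _⟩
  · have h2 := isZero_of_isLE K (m - 1) m (by omega)
    exact ⟨fun _ _ _ => h2.eq_of_src _ _⟩

lemma IsBFF.shift {E : Cx R} (hE : IsBFF E) (n : ℤ) : IsBFF (E⟦n⟧) := by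
  obtain ⟨a, b, h1, h2⟩ := hE
  exact ⟨a - n, b - n, fun i hi => h1 (i + n) (by omega), fun i => h2 (i + n)⟩

lemma IsWit.shift {m : ℤ} {X Y : Dual.D R} {α : X ⟶ Y} (hα : IsWit m α) (n : ℤ) :
    IsWit (m - n) (α⟦n⟧') := by
  have key : ∀ i : ℤ, Arrow.mk ((homologyFunctor (ModuleCat.{u} R) i).map (α⟦n⟧')) ≅
      Arrow.mk ((homologyFunctor (ModuleCat.{u} R) (i + n)).map α) := fun i =>
    Arrow.isoMk (((homologyFunctor (ModuleCat.{u} R) 0).shiftIso n i (i + n) (by omega)).app X)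
      (((homologyFunctor (ModuleCat.{u} R) 0).shiftIso n i (i + n) (by omega)).app Y)
      (((homologyFunctor (ModuleCat.{u} R) 0).shiftIso n i (i + n) (by omega)).hom.naturality α).symm
  refine ⟨fun i hi => ?_, ?_⟩
  · haveI := hα.1 (i + n) (by omega)
    exact ((MorphismProperty.isomorphisms _).arrow_mk_iso_iff (key i)).2 inferInstance
  · have h := hα.2
    have e : m - n + n = m := by omega
    have := ((MorphismProperty.epimorphisms _).arrow_mk_iso_iff (key (m - n))).2 (by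
      rw [MorphismProperty.epimorphisms.iff]
      convert h using 3)
    exact this

lemma isPC_shift {m : ℤ} {K : Dual.D R} (h : IsPseudoCoherent R m K) (n : ℤ) :
    IsPseudoCoherent R (m - n) (K⟦n⟧) := by
  rw [isPC_iff] at h ⊢
  obtain ⟨E, hE, α, hα⟩ := h
  refine ⟨E⟦n⟧, hE.shift n, ((Q.commShiftIso n).app E).hom ≫ α⟦n⟧', ?_⟩
  exact (IsWit.of_isIso _).comp (hα.shift n)

lemma isPC_of_shift {m : ℤ} {K : Dual.D R} (n : ℤ) (h : IsPseudoCoherent R (m - n) (K⟦n⟧)) :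
    IsPseudoCoherent R m K := by
  have := isPC_shift h (-n)
  rw [show m - n - -n = m by omega] at this
  exact isPC_of_iso ((shiftEquiv (Dual.D R) n).unitIso.app K).symm this


open Groth.Agent.H4.SubCx Groth.Agent.H4.DRing1

/-- brutal truncation `σ_{≥ n}` as a subcomplex. -/
noncomputable def sigmaGE (K : Cx R) (n : ℤ) : Cx R := sub K (brutal K n) (brutal_stable K n)

noncomputable def sigmaGEι (K : Cx R) (n : ℤ) : sigmaGE K n ⟶ K :=
  SubCx.ι K (brutal K n) (brutal_stable K n)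

lemma sigmaGE_isZero (K : Cx R) (n i : ℤ) (hi : i < n) : IsZero ((sigmaGE K n).X i) := by
  have hb := brutal_of_lt K hi
  haveI : Subsingleton (brutal K n i) := by rw [hb]; infer_instance
  exact ModuleCat.isZero_of_subsingleton (ModuleCat.of R (brutal K n i))

noncomputable def sigmaGEEquiv (K : Cx R) (n i : ℤ) (hi : n ≤ i) :
    (sigmaGE K n).X i ≃ₗ[R] K.X i :=
  LinearEquiv.ofTop _ (brutal_of_le K hi)

lemma sigmaGE_isZero' (K : Cx R) (n i : ℤ) (hi : IsZero (K.X i)) :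
    IsZero ((sigmaGE K n).X i) := by
  haveI := ModuleCat.subsingleton_of_isZero hi
  haveI : Subsingleton (brutal K n i) := inferInstance
  exact ModuleCat.isZero_of_subsingleton (ModuleCat.of R (brutal K n i))

lemma isWit_sigmaGEι (K : Cx R) (n : ℤ) : IsWit n (Q.map (sigmaGEι K n)) := by
  have hT := triangleOfSES_distinguished (shortExact K (brutal K n) (brutal_stable K n))
  refine (isWit_iff_isLE _ hT n).2 ?_
  haveI : (quot K (brutal K n) (brutal_stable K n)).IsStrictlyLE (n - 1) := by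
    rw [CochainComplex.isStrictlyLE_iff]
    intro i hi
    have hb := brutal_of_le K (by omega : n ≤ i)
    haveI : Subsingleton (K.X i ⧸ brutal K n i) := by
      rw [Submodule.Quotient.subsingleton_iff]; exact hb
    exact ModuleCat.isZero_of_subsingleton (ModuleCat.of R (K.X i ⧸ brutal K n i))
  change (Q.obj (quot K (brutal K n) (brutal_stable K n))).IsLE (n - 1)
  infer_instance

lemma IsBFF.sigmaGE {E : Cx R} (hE : IsBFF E) (n : ℤ) : IsBFF (sigmaGE E n) := by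
  obtain ⟨a, b, h1, h2⟩ := hE
  refine ⟨a, b, fun i hi => sigmaGE_isZero' E n i (h1 i hi), fun i => ?_⟩
  by_cases hi : n ≤ i
  · haveI := (h2 i).1
    haveI := (h2 i).2
    exact ⟨Module.Finite.equiv (sigmaGEEquiv E n i hi).symm,
      Module.Free.of_equiv (sigmaGEEquiv E n i hi).symm⟩
  · haveI := ModuleCat.subsingleton_of_isZero (sigmaGE_isZero E n i (by omega))
    exact ⟨inferInstance, inferInstance⟩

lemma IsBFF.cone {E₁ E₂ : Cx R} (h₁ : IsBFF E₁) (h₂ : IsBFF E₂) (f : E₁ ⟶ E₂) :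
    IsBFF (CochainComplex.mappingCone f) := by
  obtain ⟨a₁, b₁, hz₁, hP₁⟩ := h₁
  obtain ⟨a₂, b₂, hz₂, hP₂⟩ := h₂
  refine ⟨min a₁ a₂ - 1, max b₁ b₂, ?_, ?_⟩
  · intro i hi
    refine Groth.Agent.H3.PerfAux.mappingCone_X_isZero f i (hz₁ _ ?_) (hz₂ _ ?_)
    · rcases hi with hi | hi
      · left; have := min_le_left a₁ a₂; omega
      · right; have := le_max_left b₁ b₂; omega
    · rcases hi with hi | hi
      · left; have := min_le_right a₁ a₂; omega
      · right; have := le_max_right b₁ b₂; omega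
  · intro i
    have e : (CochainComplex.mappingCone f).X i ≅ E₁.X (i + 1) ⊞ E₂.X i :=
      HomologicalComplex.homotopyCofiber.XIsoBiprod f i (i + 1) rfl
    have e' := (e ≪≫ ModuleCat.biprodIsoProd _ _).toLinearEquiv
    haveI := (hP₁ (i + 1)).1
    haveI := (hP₁ (i + 1)).2
    haveI := (hP₂ i).1
    haveI := (hP₂ i).2
    exact ⟨Module.Finite.equiv e'.symm, Module.Free.of_equiv e'.symm⟩

lemma IsBFF.projective {E : Cx R} (hE : IsBFF E) (i : ℤ) : Module.Projective R (E.X i) := by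
  obtain ⟨a, b, h1, h2⟩ := hE
  haveI := (h2 i).2; infer_instance

lemma IsBFF.isKProjective {E : Cx R} (hE : IsBFF E) : E.IsKProjective := by
  obtain ⟨a, b, h1, h2⟩ := hE
  exact isKProjective_of_vanishesAbove_projective E b (fun i hi => h1 i (Or.inr hi))
    (fun i => by haveI := (h2 i).2; infer_instance)

/-- part (1) of two-out-of-three. -/
theorem isPC_obj₃ (T : Triangle (Dual.D R)) (hT : T ∈ distinguishedTriangles) (m : ℤ)
    (h₁ : IsPseudoCoherent R (m + 1) T.obj₁) (h₂ : IsPseudoCoherent R m T.obj₂) :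
    IsPseudoCoherent R m T.obj₃ := by
  rw [isPC_iff] at h₁ h₂ ⊢
  obtain ⟨P₀, hP₀, α₀, hα₀⟩ := h₁
  obtain ⟨E, hE, β, hβ⟩ := h₂
  -- truncate
  let P := sigmaGE P₀ (m + 1)
  have hP : IsBFF P := hP₀.sigmaGE (m + 1)
  let α : toD P ⟶ T.obj₁ := Q.map (sigmaGEι P₀ (m + 1)) ≫ α₀
  have hα : IsWit (m + 1) α := (isWit_sigmaGEι P₀ (m + 1)).comp hα₀
  haveI := hP.isKProjective
  -- cone of β
  obtain ⟨C, β', β'', hTβ⟩ := distinguished_cocone_triangle β
  haveI hC : C.IsLE (m - 1) := (isWit_iff_isLE _ hTβ m).1 hβ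
  haveI : C.IsLE (m + 1 - 1) := TStructure.t.isLE_of_le C (m - 1) (m + 1 - 1) (by omega)
  obtain ⟨a₀, b₀, hz₀, hf₀⟩ := hP₀
  have hPv : VanishesOutside P (m + 1) b₀ := by
    intro i hi
    rcases hi with hi | hi
    · exact sigmaGE_isZero P₀ (m + 1) i hi
    · exact sigmaGE_isZero' P₀ (m + 1) i (hz₀ i (Or.inr hi))
  have hzero : (α ≫ T.mor₁) ≫ β' = 0 :=
    ProjAmp.hom_eq_zero_of_projective P (m + 1) b₀ hPv
      (fun i => hP.projective i) C _
  obtain ⟨γ, hγ⟩ := Triangle.coyoneda_exact₂ _ hTβ (α ≫ T.mor₁) hzero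
  obtain ⟨g, hg⟩ := Groth.Agent.H3.PerfAux.exists_map_of_isKProjective P E γ
  have hTg : Q.mapTriangle.obj (CochainComplex.mappingCone.triangle g) ∈
      distinguishedTriangles := by
    rw [mem_distTriang_iff]
    exact ⟨_, _, g, ⟨Iso.refl _⟩⟩
  obtain ⟨c, hc₁, hc₂⟩ := complete_distinguished_triangle_morphism _ _ hTg hT α β (by
    change Q.map g ≫ β = α ≫ T.mor₁
    rw [hg]; exact hγ.symm)
  let Φ : Q.mapTriangle.obj (CochainComplex.mappingCone.triangle g) ⟶ T :=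
    { hom₁ := α, hom₂ := β, hom₃ := c
      comm₁ := by
        change Q.map g ≫ β = α ≫ T.mor₁
        rw [hg]; exact hγ.symm
      comm₂ := hc₁
      comm₃ := hc₂ }
  have hm : ∀ i : ℤ, m < i → Mono ((homologyFunctor (ModuleCat.{u} R) i).map Φ.hom₃) := fun i hi =>
    mono_hom₃ hTg hT Φ i (i + 1) rfl (hα.epi i (by omega)) (hβ.mono_map i hi)
      (hα.mono_map (i + 1) (by omega))
  have he : ∀ i : ℤ, m ≤ i → Epi ((homologyFunctor (ModuleCat.{u} R) i).map Φ.hom₃) := fun i hi =>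
    epi_hom₃ hTg hT Φ i (i + 1) rfl (hβ.epi i hi) (hα.epi (i + 1) (by omega))
      (hβ.mono_map (i + 1) (by omega))
  refine ⟨CochainComplex.mappingCone g, hP.cone hE g, Φ.hom₃, fun i hi => ?_, he m le_rfl⟩
  exact @isIso_of_mono_of_epi _ _ _ _ _ _ (hm i hi) (he i hi.le)


theorem isPC_obj₂ (T : Triangle (Dual.D R)) (hT : T ∈ distinguishedTriangles) (m : ℤ)
    (h₁ : IsPseudoCoherent R m T.obj₁) (h₃ : IsPseudoCoherent R m T.obj₃) :
    IsPseudoCoherent R m T.obj₂ := by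
  refine isPC_obj₃ T.invRotate (inv_rot_of_distTriang _ hT) m ?_ h₁
  have := isPC_shift h₃ (-1)
  rwa [show m - -1 = m + 1 by omega] at this

theorem isPC_obj₁ (T : Triangle (Dual.D R)) (hT : T ∈ distinguishedTriangles) (m : ℤ)
    (h₂ : IsPseudoCoherent R (m + 1) T.obj₂) (h₃ : IsPseudoCoherent R m T.obj₃) :
    IsPseudoCoherent R (m + 1) T.obj₁ := by
  have := isPC_obj₃ T.rotate (rot_of_distTriang _ hT) m h₂ h₃
  exact isPC_of_shift 1 (by rwa [show m + 1 - 1 = m by omega])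

end Groth.Agent.H4.PC
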