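import Mathlib
import Groth.Agent.H4.PC1
set_option autoImplicit false
universe u
open CategoryTheory CategoryTheory.Limits CategoryTheory.Pretriangulated

namespace Groth.Agent.H4.PC

attribute [local instance] HasDerivedCategory.standard

variable {R : Type u} [CommRing R]

open DRing DerivedCategory ZeroObject

/-- finite projective modules, as an object property. -/
def finProj : ObjectProperty (ModuleCat.{u} R) := fun M => Module.Finite R M ∧ Module.Projective R M

instance : (finProj (R := R)).IsClosedUnderIsomorphisms where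
  of_iso {X Y} e h := by
    haveI := h.1
    haveI := h.2
    exact ⟨Module.Finite.equiv e.toLinearEquiv, Module.Projective.of_equiv e.toLinearEquiv⟩

instance : (finProj (R := R)).ContainsZero where
  exists_zero := ⟨0, isZero_zero _, by
    haveI := ModuleCat.subsingleton_of_isZero (isZero_zero (ModuleCat.{u} R))
    exact ⟨inferInstance, inferInstance⟩⟩

lemma finProj_kernel (E F : ModuleCat.{u} R) (f : E ⟶ F) (hf : Epi f) (hE : finProj E)
    (hF : finProj F) : finProj (kernel f) := by
  haveI := hE.1
  haveI := hE.2
  haveI := hF.1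
  haveI := hF.2
  have hs : Function.Surjective f.hom := (ModuleCat.epi_iff_surjective f).1 hf
  obtain ⟨s, hs'⟩ := Module.projective_lifting_property f.hom LinearMap.id hs
  -- ker f is a direct summand of E
  have e : kernel f ≅ ModuleCat.of R (LinearMap.ker f.hom) := ModuleCat.kernelIsoKer f
  let p : E →ₗ[R] LinearMap.ker f.hom :=
    LinearMap.codRestrict _ (LinearMap.id - s ∘ₗ f.hom) (fun x => by
      rw [LinearMap.mem_ker, LinearMap.sub_apply, map_sub, LinearMap.comp_apply]
      have := LinearMap.congr_fun hs' (f.hom x)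
      simp only [LinearMap.comp_apply, LinearMap.id_apply] at this
      rw [this, LinearMap.id_apply, sub_self])
  have hp : p ∘ₗ (LinearMap.ker f.hom).subtype = LinearMap.id := by
    ext x
    have hx : f.hom x.1 = 0 := x.2
    simp [p, hx]
  have hpsurj : Function.Surjective p := fun x => ⟨x.1, LinearMap.congr_fun hp x⟩
  have h1 : Module.Finite R (LinearMap.ker f.hom) := Module.Finite.of_surjective p hpsurj
  have h2 : Module.Projective R (LinearMap.ker f.hom) :=
    Module.Projective.of_split (LinearMap.ker f.hom).subtype p hp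
  exact (finProj.prop_iff_of_iso e).2 ⟨h1, h2⟩


lemma IsBFF.finProj {E : Cx R} (hE : IsBFF E) (i : ℤ) : finProj (E.X i) := by
  obtain ⟨a, b, h1, h2⟩ := hE
  haveI := (h2 i).2
  exact ⟨(h2 i).1, inferInstance⟩

lemma finProj_cycles (E : Cx R) (hE : IsBFF E) (c : ℤ)
    (hc : ∀ i : ℤ, c < i → IsZero (E.homology i)) (i : ℤ) (hi : c ≤ i) : finProj (E.cycles i) := by
  obtain ⟨a, b, h1, h2⟩ := id hE
  exact Groth.Agent.H3.PerfAux.cycles_prop finProj finProj_kernel E b
    (fun j hj => h1 j (Or.inr hj)) i (fun j _ => hE.finProj j) c hc i le_rfl hi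

/-- homology of `toD E` vs homology of `E`. -/
noncomputable def homologyToDIso (E : Cx R) (i : ℤ) :
    (homologyFunctor (ModuleCat.{u} R) i).obj (toD E) ≅ E.homology i :=
  (homologyFunctorFactors (ModuleCat.{u} R) i).app E

lemma finite_of_epi {M N : ModuleCat.{u} R} (f : M ⟶ N) [Epi f] (hM : Module.Finite R M) :
    Module.Finite R N :=
  Module.Finite.of_surjective f.hom ((ModuleCat.epi_iff_surjective f).1 inferInstance)

theorem finite_homology (K : Dual.D R) (m : ℤ) (hK : IsPseudoCoherent R m K)
    (hz : ∀ i : ℤ, m < i → IsZero ((homologyFunctor (ModuleCat.{u} R) i).obj K)) :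
    Module.Finite R ((homologyFunctor (ModuleCat.{u} R) m).obj K) := by
  rw [isPC_iff] at hK
  obtain ⟨E, hE, α, hα⟩ := hK
  have hc : ∀ i : ℤ, m < i → IsZero (E.homology i) := fun i hi => by
    haveI := hα.1 i hi
    exact (hz i hi).of_iso ((homologyToDIso E i).symm ≪≫
      asIso ((homologyFunctor (ModuleCat.{u} R) i).map α))
  have h1 := (finProj_cycles E hE m hc m le_rfl).1
  have h2 : Module.Finite R (E.homology m) := finite_of_epi (E.homologyπ m) h1
  have h3 : Module.Finite R ((homologyFunctor (ModuleCat.{u} R) m).obj (toD E)) :=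
    finite_of_epi (homologyToDIso E m).inv h2
  haveI := hα.2
  exact finite_of_epi ((homologyFunctor (ModuleCat.{u} R) m).map α) h3

lemma fp_of_iso {M N : ModuleCat.{u} R} (e : M ≅ N) (hM : Module.FinitePresentation R M) :
    Module.FinitePresentation R N :=
  Module.FinitePresentation.of_equiv e.toLinearEquiv

theorem fp_homology (K : Dual.D R) (m : ℤ) (hK : IsPseudoCoherent R m K)
    (hz : ∀ i : ℤ, m + 1 < i → IsZero ((homologyFunctor (ModuleCat.{u} R) i).obj K)) :
    Module.FinitePresentation R ((homologyFunctor (ModuleCat.{u} R) (m + 1)).obj K) := by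
  rw [isPC_iff] at hK
  obtain ⟨E, hE, α, hα⟩ := hK
  have hc : ∀ i : ℤ, m + 1 < i → IsZero (E.homology i) := fun i hi => by
    haveI := hα.1 i (by omega)
    exact (hz i hi).of_iso ((homologyToDIso E i).symm ≪≫
      asIso ((homologyFunctor (ModuleCat.{u} R) i).map α))
  have h1 := finProj_cycles E hE (m + 1) hc (m + 1) le_rfl
  haveI := h1.1
  haveI := h1.2
  haveI : Module.FinitePresentation R (E.cycles (m + 1)) :=
    Module.finitePresentation_of_projective R _
  -- homology is the cokernel of `toCycles`
  have hex : (ShortComplex.mk (E.toCycles m (m + 1)) (E.homologyπ (m + 1)) (by simp)).Exact :=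
    ShortComplex.exact_of_g_is_cokernel _ (E.homologyIsCokernel m (m + 1) (by simp))
  rw [ShortComplex.moduleCat_exact_iff] at hex
  have hker : (LinearMap.ker (E.homologyπ (m + 1)).hom).FG := by
    have : LinearMap.ker (E.homologyπ (m + 1)).hom = LinearMap.range (E.toCycles m (m + 1)).hom := by
      ext x
      constructor
      · intro hx
        exact hex x hx
      · rintro ⟨y, rfl⟩
        rw [LinearMap.mem_ker, ← ModuleCat.comp_apply]
        simp
    rw [this, LinearMap.range_eq_map]
    haveI := (hE.finProj m).1
    exact Submodule.FG.map _ Module.Finite.fg_top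
  have h2 : Module.FinitePresentation R (E.homology (m + 1)) :=
    Module.finitePresentation_of_surjective (E.homologyπ (m + 1)).hom
      ((ModuleCat.epi_iff_surjective _).1 inferInstance) hker
  haveI := hα.1 (m + 1) (by omega)
  exact fp_of_iso ((homologyToDIso E (m + 1)).symm ≪≫
      asIso ((homologyFunctor (ModuleCat.{u} R) (m + 1)).map α)) h2

end Groth.Agent.H4.PC
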