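import Mathlib
import Groth.Agent.H4.PC2
set_option autoImplicit false
universe u
open CategoryTheory CategoryTheory.Limits CategoryTheory.Pretriangulated

namespace Groth.Agent.H4.PC

attribute [local instance] HasDerivedCategory.standard

variable {R : Type u} [CommRing R]

open DRing DerivedCategory ZeroObject

/-- single complexes -/
noncomputable abbrev sgl (N : ModuleCat.{u} R) (n : ℤ) : Cx R :=
  (HomologicalComplex.single (ModuleCat.{u} R) (ComplexShape.up ℤ) n).obj N

lemma isBFF_sgl (N : ModuleCat.{u} R) [Module.Finite R N] [Module.Free R N] (n : ℤ) :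
    IsBFF (sgl N n) := by
  refine ⟨n, n, fun i hi => ?_, fun i => ?_⟩
  · exact HomologicalComplex.isZero_single_obj_X _ _ _ _ (by omega)
  · by_cases hi : i = n
    · subst hi
      have e := (HomologicalComplex.singleObjXSelf (ComplexShape.up ℤ) i N).toLinearEquiv
      exact ⟨Module.Finite.equiv e.symm, Module.Free.of_equiv e.symm⟩
    · haveI := ModuleCat.subsingleton_of_isZero
        (HomologicalComplex.isZero_single_obj_X (ComplexShape.up ℤ) n N i hi)
      exact ⟨inferInstance, inferInstance⟩

lemma isPC_single_of_finite_free (m n : ℤ) (N : ModuleCat.{u} R) [Module.Finite R N]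
    [Module.Free R N] : IsPseudoCoherent R m ((singleFunctor (ModuleCat.{u} R) n).obj N) :=
  isPC_of_iso ((singleFunctorIsoCompQ (ModuleCat.{u} R) n).app N).symm
    (isPC_toD m _ (isBFF_sgl N n))

lemma isWit_single_map (n : ℤ) {M N : ModuleCat.{u} R} (p : M ⟶ N) [Epi p] :
    IsWit n ((singleFunctor (ModuleCat.{u} R) n).map p) := by
  refine ⟨fun i hi => ?_, ?_⟩
  · have h1 := isZero_of_isLE ((singleFunctor (ModuleCat.{u} R) n).obj M) n i hi
    have h2 := isZero_of_isLE ((singleFunctor (ModuleCat.{u} R) n).obj N) n i hi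
    exact ⟨0, h1.eq_of_src _ _, h2.eq_of_src _ _⟩
  · have h := (singleFunctorCompHomologyFunctorIso (ModuleCat.{u} R) n).hom.naturality p
    have h' : (homologyFunctor (ModuleCat.{u} R) n).map ((singleFunctor (ModuleCat.{u} R) n).map p) =
        (singleFunctorCompHomologyFunctorIso (ModuleCat.{u} R) n).hom.app M ≫ p ≫
          (singleFunctorCompHomologyFunctorIso (ModuleCat.{u} R) n).inv.app N := by
      rw [← Category.assoc, ← Functor.id_map p, ← h]
      simp
    rw [h']
    infer_instance

/-- a module which is a quotient of a finite free module is `0`-pseudo-coherent (in degree `n`: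
`n`-pseudo-coherent). -/
lemma isPC_single_of_finite (n : ℤ) (M : ModuleCat.{u} R) [Module.Finite R M] :
    IsPseudoCoherent R n ((singleFunctor (ModuleCat.{u} R) n).obj M) := by
  obtain ⟨k, p, hp⟩ := Module.Finite.exists_fin' R M
  let F : ModuleCat.{u} R := ModuleCat.of R (Fin k → R)
  let p' : F ⟶ M := ModuleCat.ofHom p
  haveI : Epi p' := (ModuleCat.epi_iff_surjective p').2 hp
  rw [isPC_iff]
  refine ⟨sgl F n, isBFF_sgl F n,
    ((singleFunctorIsoCompQ (ModuleCat.{u} R) n).app F).inv ≫
      (singleFunctor (ModuleCat.{u} R) n).map p', ?_⟩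
  exact (IsWit.of_isIso ((singleFunctorIsoCompQ (ModuleCat.{u} R) n).app F).inv).comp
    (isWit_single_map n p')


/-- the kernel short complex of a surjection of modules. -/
noncomputable def kerSC {M N : ModuleCat.{u} R} (p : M ⟶ N) : ShortComplex (ModuleCat.{u} R) :=
  ShortComplex.mk (ModuleCat.ofHom (LinearMap.ker p.hom).subtype) p (by
    ext x
    exact x.2)

lemma kerSC_shortExact {M N : ModuleCat.{u} R} (p : M ⟶ N) (hp : Function.Surjective p.hom) :
    (kerSC p).ShortExact := by
  refine ShortComplex.ShortExact.mk' ?_ ?_ ?_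
  · rw [ShortComplex.moduleCat_exact_iff]
    intro x hx
    exact ⟨⟨x, hx⟩, rfl⟩
  · rw [ModuleCat.mono_iff_injective]
    exact Subtype.val_injective
  · rw [ModuleCat.epi_iff_surjective]
    exact hp

lemma isPC_X₃_of_shortExact (S : ShortComplex (ModuleCat.{u} R)) (hS : S.ShortExact) (m : ℤ)
    (h₁ : IsPseudoCoherent R (m + 1) ((singleFunctor (ModuleCat.{u} R) 0).obj S.X₁))
    (h₂ : IsPseudoCoherent R m ((singleFunctor (ModuleCat.{u} R) 0).obj S.X₂)) :
    IsPseudoCoherent R m ((singleFunctor (ModuleCat.{u} R) 0).obj S.X₃) :=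
  isPC_obj₃ _ hS.singleTriangle_distinguished m h₁ h₂

lemma isPC_X₂_of_shortExact (S : ShortComplex (ModuleCat.{u} R)) (hS : S.ShortExact) (m : ℤ)
    (h₁ : IsPseudoCoherent R m ((singleFunctor (ModuleCat.{u} R) 0).obj S.X₁))
    (h₃ : IsPseudoCoherent R m ((singleFunctor (ModuleCat.{u} R) 0).obj S.X₃)) :
    IsPseudoCoherent R m ((singleFunctor (ModuleCat.{u} R) 0).obj S.X₂) :=
  isPC_obj₂ _ hS.singleTriangle_distinguished m h₁ h₃

lemma isPC_X₁_of_shortExact (S : ShortComplex (ModuleCat.{u} R)) (hS : S.ShortExact) (m : ℤ)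
    (h₂ : IsPseudoCoherent R (m + 1) ((singleFunctor (ModuleCat.{u} R) 0).obj S.X₂))
    (h₃ : IsPseudoCoherent R m ((singleFunctor (ModuleCat.{u} R) 0).obj S.X₃)) :
    IsPseudoCoherent R (m + 1) ((singleFunctor (ModuleCat.{u} R) 0).obj S.X₁) :=
  isPC_obj₁ _ hS.singleTriangle_distinguished m h₂ h₃

lemma isPC_single_of_fp (M : ModuleCat.{u} R) [Module.FinitePresentation R M] :
    IsPseudoCoherent R (-1) ((singleFunctor (ModuleCat.{u} R) 0).obj M) := by
  obtain ⟨k, p, hp⟩ := Module.Finite.exists_fin' R M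
  let F : ModuleCat.{u} R := ModuleCat.of R (Fin k → R)
  let p' : F ⟶ M := ModuleCat.ofHom p
  have hker : (LinearMap.ker p).FG := Module.FinitePresentation.fg_ker p hp
  haveI : Module.Finite R (kerSC p').X₁ := Module.Finite.iff_fg.2 hker
  exact isPC_X₃_of_shortExact (kerSC p') (kerSC_shortExact p' hp) (-1)
    (isPC_single_of_finite 0 _) (isPC_single_of_finite_free (-1) 0 F)

theorem isPCModule_zero_iff (M : Type u) [AddCommGroup M] [Module R M] :
    IsPseudoCoherentModule R 0 M ↔ Module.Finite R M := by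
  constructor
  · intro h
    have := finite_homology _ 0 h (fun i hi => isZero_of_isLE _ 0 i hi)
    haveI : Module.Finite R ((singleFunctor (ModuleCat.{u} R) 0 ⋙
      homologyFunctor (ModuleCat.{u} R) 0).obj (ModuleCat.of R M)) := this
    exact Module.Finite.equiv
      ((singleFunctorCompHomologyFunctorIso (ModuleCat.{u} R) 0).app (ModuleCat.of R M)).toLinearEquiv
  · intro h
    exact isPC_single_of_finite 0 (ModuleCat.of R M)

theorem isPCModule_negOne_iff (M : Type u) [AddCommGroup M] [Module R M] :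
    IsPseudoCoherentModule R (-1) M ↔ Module.FinitePresentation R M := by
  constructor
  · intro h
    have := fp_homology _ (-1) h (fun i hi => isZero_of_isLE _ 0 i (by omega))
    haveI : Module.FinitePresentation R ((singleFunctor (ModuleCat.{u} R) 0 ⋙
      homologyFunctor (ModuleCat.{u} R) 0).obj (ModuleCat.of R M)) := this
    exact Module.FinitePresentation.of_equiv
      ((singleFunctorCompHomologyFunctorIso (ModuleCat.{u} R) 0).app (ModuleCat.of R M)).toLinearEquiv
  · intro h
    exact isPC_single_of_fp (ModuleCat.of R M)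

end Groth.Agent.H4.PC
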