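import Mathlib
import Groth.Agent.H4.ProjAmp
set_option autoImplicit false
universe u
open CategoryTheory CategoryTheory.Limits CategoryTheory.Pretriangulated

namespace Groth.Agent.H4.ProjAmp

attribute [local instance] HasDerivedCategory.standard

variable {R : Type u} [CommRing R]

open DRing DerivedCategory Groth.Agent.H4.TwoTerm Groth.Agent.H4.DRing1

/-- `N[i]` as an honest complex: `N` placed in degree `n = -i`. -/
noncomputable abbrev sgl (N : ModuleCat.{u} R) (n : ℤ) : Cx R :=
  (HomologicalComplex.single (ModuleCat.{u} R) (ComplexShape.up ℤ) n).obj N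

/-- comparison of `(inD N)⟦i⟧` with `N` placed in degree `-i`. -/
noncomputable def shI (N : ModuleCat.{u} R) (i n : ℤ) (h : i + n = 0) :
    ((singleFunctor (ModuleCat.{u} R) 0).obj N)⟦i⟧ ≅ Q.obj (sgl N n) :=
  ((singleFunctors (ModuleCat.{u} R)).shiftIso i n 0 h).app N ≪≫
    (singleFunctorIsoCompQ (ModuleCat.{u} R) n).app N

/-- if `Hom(K, I[i]) = 0` for (injective) modules `I` then `H^{-i}(K) = 0`. -/
theorem isZero_homology_of_ext_vanishing (K : Dual.D R) (i n : ℤ) (h : i + n = 0)
    (hK : ∀ (N : Type u) [AddCommGroup N] [Module R N],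
      Subsingleton (K ⟶ (Dual.inD R N)⟦i⟧)) :
    IsZero ((homologyFunctor (ModuleCat.{u} R) n).obj K) := by
  let X := Q.objPreimage K
  let e : Q.obj X ≅ K := Q.objObjPreimageIso K
  let H := X.homology n
  let I := Injective.under H
  let j : H ⟶ I := Injective.ι H
  let ψ : X.opcycles n ⟶ I := Injective.factorThru j (X.homologyι n)
  have hψ : X.homologyι n ≫ ψ = j := Injective.comp_factorThru _ _
  let c : X ⟶ sgl I n := HomologicalComplex.mkHomToSingle (X.pOpcycles n ≫ ψ) (by
    intro k hk
    rw [← Category.assoc, X.d_pOpcycles, zero_comp])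
  have hc : c.f n = (X.pOpcycles n ≫ ψ) ≫
      (HomologicalComplex.singleObjXSelf (ComplexShape.up ℤ) n I).inv :=
    HomologicalComplex.mkHomToSingle_f _ _
  -- `Q.map c = 0`
  have h0 : Q.map c = 0 := by
    have h1 := (hK I).elim (e.inv ≫ Q.map c ≫ (shI I i n h).inv) 0
    have := congrArg (fun φ => e.hom ≫ φ ≫ (shI I i n h).hom) h1
    simp only [Category.assoc, Iso.inv_hom_id, Category.comp_id, Iso.hom_inv_id_assoc,
      zero_comp, comp_zero] at this
    exact this
  have h2 : HomologicalComplex.homologyMap c n = 0 := by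
    have := homologyFunctorFactors_hom_naturality (C := ModuleCat.{u} R) c n
    rw [h0, Functor.map_zero, zero_comp] at this
    apply (cancel_epi ((homologyFunctorFactors (ModuleCat.{u} R) n).hom.app X)).1
    exact this.symm.trans comp_zero.symm
  -- compute
  have h3 := HomologicalComplex.homologyι_naturality c n
  rw [h2, zero_comp] at h3
  have h4 := HomologicalComplex.p_opcyclesMap c n
  rw [hc] at h4
  have h5 : HomologicalComplex.opcyclesMap c n = ψ ≫
      (HomologicalComplex.singleObjXSelf (ComplexShape.up ℤ) n I).inv ≫ (sgl I n).pOpcycles n := by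
    rw [← cancel_epi (X.pOpcycles n), h4]
    simp only [Category.assoc]
  rw [h5, ← Category.assoc, hψ] at h3
  haveI : IsIso ((sgl I n).pOpcycles n) := (sgl I n).isIso_pOpcycles (n - 1) n (by simp)
    (HomologicalComplex.single_obj_d _ _ _ _ _)
  have hj : j = 0 := by
    have h6 : j ≫ ((HomologicalComplex.singleObjXSelf (ComplexShape.up ℤ) n I).inv ≫
        (sgl I n).pOpcycles n) = 0 := h3.symm
    exact (cancel_mono _).1 (h6.trans zero_comp.symm)
  have hH : IsZero H := IsZero.of_mono_eq_zero j hj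
  exact hH.of_iso ((homologyFunctor (ModuleCat.{u} R) n).mapIso e.symm ≪≫
    (homologyFunctorFactors (ModuleCat.{u} R) n).app X)

open CochainComplex (mappingCone)

/-- the chain map `F[-b] → X` attached to `p : F → X^b` when `X^{b+1} = 0`. -/
noncomputable def fromSgl (X : Cx R) (b : ℤ) (hX : ∀ i : ℤ, b < i → IsZero (X.X i))
    (F : ModuleCat.{u} R) (p : F ⟶ X.X b) : sgl F b ⟶ X :=
  HomologicalComplex.mkHomFromSingle p (fun k hk => by
    simp only [ComplexShape.up_Rel] at hk
    exact (hX k (by omega)).eq_of_tgt _ _)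

lemma fromSgl_f (X : Cx R) (b : ℤ) (hX : ∀ i : ℤ, b < i → IsZero (X.X i))
    (F : ModuleCat.{u} R) (p : F ⟶ X.X b) : (fromSgl X b hX F p).f b =
      (HomologicalComplex.singleObjXSelf (ComplexShape.up ℤ) b F).hom ≫ p :=
  HomologicalComplex.mkHomFromSingle_f _ _

lemma cone_fromSgl_isZero (X : Cx R) (b : ℤ) (hX : ∀ i : ℤ, b < i → IsZero (X.X i))
    (F : ModuleCat.{u} R) (p : F ⟶ X.X b) (i : ℤ) (hi : b < i) :
    IsZero ((mappingCone (fromSgl X b hX F p)).X i) := by
  apply Groth.Agent.H3.PerfAux.mappingCone_X_isZero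
  · exact HomologicalComplex.isZero_single_obj_X _ _ _ _ (by omega)
  · exact hX i hi

lemma cone_fromSgl_exactAt (X : Cx R) (b : ℤ) (hX : ∀ i : ℤ, b < i → IsZero (X.X i))
    (F : ModuleCat.{u} R) (p : F ⟶ X.X b) (hp : Function.Surjective p.hom) :
    (mappingCone (fromSgl X b hX F p)).ExactAt b := by
  set g := fromSgl X b hX F p with hg
  rw [HomologicalComplex.exactAt_iff' _ (b - 1) b (b + 1) (by simp) (by simp),
    ShortComplex.moduleCat_exact_iff]
  intro y _
  change (mappingCone g).X b at y
  obtain ⟨f, hf⟩ := hp ((mappingCone.snd g).v b b (add_zero b) y)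
  have hy : y = (mappingCone.inr g).f b ((mappingCone.snd g).v b b (add_zero b) y) := by
    have h1 := congrArg (fun ψ => ψ.hom y) (mappingCone.id_X g b (b + 1) rfl)
    have h2 : (mappingCone.fst g).1.v b (b + 1) rfl = 0 :=
      (HomologicalComplex.isZero_single_obj_X _ _ _ _ (by omega)).eq_of_tgt _ _
    rw [h2, zero_comp, zero_add] at h1
    exact h1.symm
  refine ⟨(mappingCone.inl g).v b (b - 1) (by omega)
      ((HomologicalComplex.singleObjXSelf (ComplexShape.up ℤ) b F).inv f), ?_⟩
  change ((mappingCone g).d (b - 1) b).hom _ = y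
  have h3 := congrArg (fun ψ => ψ.hom ((HomologicalComplex.singleObjXSelf (ComplexShape.up ℤ) b F).inv f))
    (mappingCone.inl_v_d g b (b - 1) (b + 1) (by omega) (by omega))
  have h5 : (sgl F b).d b (b + 1) = 0 := HomologicalComplex.single_obj_d _ _ _ _ _
  rw [h5, zero_comp, sub_zero, hg, fromSgl_f] at h3
  simp only [ModuleCat.hom_comp, LinearMap.comp_apply] at h3
  rw [h3, hy, ← hf]
  have h6 : (HomologicalComplex.singleObjXSelf (ComplexShape.up ℤ) b F).hom.hom
      ((HomologicalComplex.singleObjXSelf (ComplexShape.up ℤ) b F).inv.hom f) = f :=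
    congrArg (fun ψ => ψ.hom f) (HomologicalComplex.singleObjXSelf (ComplexShape.up ℤ) b F).inv_hom_id
  erw [h6]

/-- killing the top cohomology: for `K ∈ D^{≤ b}` there is a free module `F` and a distinguished
triangle `F[-b] → K → C →` with `C ∈ D^{≤ b-1}`. -/
theorem exists_triangle_kill_top (K : Dual.D R) (b : ℤ) [K.IsLE b] :
    ∃ (F : ModuleCat.{u} R) (_ : Module.Free R F) (T : Triangle (Dual.D R))
      (_ : T ∈ distinguishedTriangles) (_ : (singleFunctor (ModuleCat.{u} R) b).obj F ≅ T.obj₁)
      (_ : K ≅ T.obj₂), T.obj₃.IsLE (b - 1) := by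
  obtain ⟨X, hX, ⟨e⟩⟩ := exists_iso_Q_obj_of_isLE K b
  have hX' : ∀ i : ℤ, b < i → IsZero (X.X i) := fun i hi => X.isZero_of_isStrictlyLE b i hi
  let F : ModuleCat.{u} R := ModuleCat.of R (X.X b →₀ R)
  let p : F ⟶ X.X b := ModuleCat.ofHom (Finsupp.linearCombination R id)
  have hp : Function.Surjective p.hom := by
    intro y
    refine ⟨Finsupp.single y 1, ?_⟩
    change (Finsupp.linearCombination R id) (Finsupp.single y 1) = y
    rw [Finsupp.linearCombination_single, one_smul, id]
  let g := fromSgl X b hX' F p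
  refine ⟨F, inferInstanceAs (Module.Free R (X.X b →₀ R)),
    Q.mapTriangle.obj (mappingCone.triangle g), ?_,
    (singleFunctorIsoCompQ (ModuleCat.{u} R) b).app F, e, ?_⟩
  · rw [mem_distTriang_iff]
    exact ⟨_, _, g, ⟨Iso.refl _⟩⟩
  · change (Q.obj (mappingCone g)).IsLE (b - 1)
    rw [isLE_Q_obj_iff, CochainComplex.isLE_iff]
    intro i hi
    by_cases hib : i = b
    · subst hib
      exact cone_fromSgl_exactAt X i hX' F p hp
    · exact HomologicalComplex.ExactAt.of_isZero (cone_fromSgl_isZero X b hX' F p i (by omega))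

end Groth.Agent.H4.ProjAmp
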