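import Mathlib
import Groth.Agent.H4.PC3
import Groth.Agent.H4.ProjAmp2
import Groth.Agent.H4.TwoTerm2
set_option autoImplicit false
universe u
open CategoryTheory CategoryTheory.Limits CategoryTheory.Pretriangulated

namespace Groth.Agent.H4.PC

attribute [local instance] HasDerivedCategory.standard

variable {R : Type u} [CommRing R]

open DRing DerivedCategory ZeroObject
open CochainComplex (mappingCone)

/-- variant of `ProjAmp.cone_fromSgl_exactAt` : the cone of `F[-b] → X` is exact at `b` as soon as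
`F ⊕ X^{b-1} → X^b` is surjective. -/
lemma cone_fromSgl_exactAt' (X : Cx R) (b : ℤ) (hX : ∀ i : ℤ, b < i → IsZero (X.X i))
    (F : ModuleCat.{u} R) (p : F ⟶ X.X b)
    (hp : ∀ y : X.X b, ∃ (f : F) (x : X.X (b - 1)), y = p.hom f + (X.d (b - 1) b).hom x) :
    (mappingCone (ProjAmp.fromSgl X b hX F p)).ExactAt b := by
  set g := ProjAmp.fromSgl X b hX F p with hg
  rw [HomologicalComplex.exactAt_iff' _ (b - 1) b (b + 1) (by simp) (by simp),
    ShortComplex.moduleCat_exact_iff]
  intro y _
  change (mappingCone g).X b at y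
  obtain ⟨f, x, hf⟩ := hp ((mappingCone.snd g).v b b (add_zero b) y)
  have hy : y = (mappingCone.inr g).f b ((mappingCone.snd g).v b b (add_zero b) y) := by
    have h1 := congrArg (fun ψ => ψ.hom y) (mappingCone.id_X g b (b + 1) rfl)
    have h2 : (mappingCone.fst g).1.v b (b + 1) rfl = 0 :=
      (HomologicalComplex.isZero_single_obj_X _ _ _ _ (by omega)).eq_of_tgt _ _
    rw [h2, zero_comp, zero_add] at h1
    exact h1.symm
  refine ⟨(mappingCone.inl g).v b (b - 1) (by omega)
      ((HomologicalComplex.singleObjXSelf (ComplexShape.up ℤ) b F).inv f) +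
      (mappingCone.inr g).f (b - 1) x, ?_⟩
  change ((mappingCone g).d (b - 1) b).hom _ = y
  have h3 := congrArg (fun ψ => ψ.hom ((HomologicalComplex.singleObjXSelf (ComplexShape.up ℤ) b F).inv f))
    (mappingCone.inl_v_d g b (b - 1) (b + 1) (by omega) (by omega))
  have h5 : (ProjAmp.sgl F b).d b (b + 1) = 0 := HomologicalComplex.single_obj_d _ _ _ _ _
  rw [h5, zero_comp, sub_zero, hg, ProjAmp.fromSgl_f] at h3
  simp only [ModuleCat.hom_comp, LinearMap.comp_apply] at h3
  have h4 := congrArg (fun ψ => ψ.hom x) ((mappingCone.inr g).comm (b - 1) b)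
  simp only [ModuleCat.hom_comp, LinearMap.comp_apply] at h4
  have h6 : (HomologicalComplex.singleObjXSelf (ComplexShape.up ℤ) b F).hom.hom
      ((HomologicalComplex.singleObjXSelf (ComplexShape.up ℤ) b F).inv.hom f) = f :=
    congrArg (fun ψ => ψ.hom f) (HomologicalComplex.singleObjXSelf (ComplexShape.up ℤ) b F).inv_hom_id
  rw [map_add, h3]
  erw [h4, h6]
  rw [hy, hf, map_add]


/-- objects of `D^{≤ m}` with finitely generated `H^m` receive a witness from a finite free module
placed in degree `m`. -/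
theorem exists_wit_from_sgl (K : Dual.D R) (m : ℤ) [K.IsLE m]
    (hfin : Module.Finite R ((homologyFunctor (ModuleCat.{u} R) m).obj K)) :
    ∃ (k : ℕ) (ψ : toD (ProjAmp.sgl (ModuleCat.of R (Fin k → R)) m) ⟶ K), IsWit m ψ := by
  obtain ⟨X, hX, ⟨e⟩⟩ := exists_iso_Q_obj_of_isLE K m
  have hX' : ∀ i : ℤ, m < i → IsZero (X.X i) := fun i hi => X.isZero_of_isStrictlyLE m i hi
  have hd : X.d m (m + 1) = 0 := (hX' (m + 1) (by omega)).eq_of_tgt _ _
  -- `opcycles m` is finite
  have e1 : (homologyFunctor (ModuleCat.{u} R) m).obj K ≅ X.opcycles m :=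
    (homologyFunctor (ModuleCat.{u} R) m).mapIso e ≪≫ homologyToDIso X m ≪≫
      X.isoHomologyι m (m + 1) (by simp) hd
  haveI : Module.Finite R (X.opcycles m) := Module.Finite.equiv e1.toLinearEquiv
  obtain ⟨k, p₀, hp₀⟩ := Module.Finite.exists_fin' R (X.opcycles m)
  have hq : Function.Surjective (X.pOpcycles m).hom :=
    (ModuleCat.epi_iff_surjective _).1 inferInstance
  obtain ⟨p, hp⟩ := Module.projective_lifting_property (X.pOpcycles m).hom p₀ hq
  let F : ModuleCat.{u} R := ModuleCat.of R (Fin k → R)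
  let p' : F ⟶ X.X m := ModuleCat.ofHom p
  have hex : (ShortComplex.mk (X.d (m - 1) m) (X.pOpcycles m) (by simp)).Exact :=
    ShortComplex.exact_of_g_is_cokernel _ (X.opcyclesIsCokernel (m - 1) m (by simp))
  rw [ShortComplex.moduleCat_exact_iff] at hex
  have hsurj : ∀ y : X.X m, ∃ (f : F) (x : X.X (m - 1)),
      y = p'.hom f + (X.d (m - 1) m).hom x := by
    intro y
    obtain ⟨f, hf⟩ := hp₀ ((X.pOpcycles m).hom y)
    have h1 : (X.pOpcycles m).hom (y - p f) = 0 := by
      rw [map_sub, ← hf]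
      have := LinearMap.congr_fun hp f
      simp only [LinearMap.comp_apply] at this
      rw [this, sub_self]
    obtain ⟨x, hx⟩ := hex (y - p f) h1
    refine ⟨f, x, ?_⟩
    change y = p f + _
    rw [hx]; abel
  set g := ProjAmp.fromSgl X m hX' F p' with hg
  have hTg : Q.mapTriangle.obj (CochainComplex.mappingCone.triangle g) ∈
      distinguishedTriangles := by
    rw [mem_distTriang_iff]
    exact ⟨_, _, g, ⟨Iso.refl _⟩⟩
  have hw : IsWit m (Q.map g) := by
    refine (isWit_iff_isLE _ hTg m).2 ?_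
    change (Q.obj (mappingCone g)).IsLE (m - 1)
    rw [isLE_iff]
    intro i hi
    refine ((homologyToDIso (mappingCone g) i).symm).isZero_iff.1 ?_
    by_cases him : i = m
    · subst him
      exact (HomologicalComplex.exactAt_iff_isZero_homology _ _).1
        (cone_fromSgl_exactAt' X i hX' F p' hsurj)
    · have hz : IsZero ((mappingCone g).X i) := ProjAmp.cone_fromSgl_isZero X m hX' F p' i (by omega)
      exact (HomologicalComplex.exactAt_iff_isZero_homology _ _).1
        (ShortComplex.exact_of_isZero_X₂ _ hz)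
  exact ⟨k, Q.map g ≫ e.inv, hw.comp (IsWit.of_isIso e.inv)⟩

/-- objects of `D^{≤ m}` with finitely generated `H^m` are `m`-pseudo-coherent. -/
theorem isPC_of_isLE_of_finite (K : Dual.D R) (m : ℤ) [K.IsLE m]
    (hfin : Module.Finite R ((homologyFunctor (ModuleCat.{u} R) m).obj K)) :
    IsPseudoCoherent R m K := by
  obtain ⟨k, ψ, hψ⟩ := exists_wit_from_sgl K m hfin
  rw [isPC_iff]
  exact ⟨_, isBFF_sgl (ModuleCat.of R (Fin k → R)) m, ψ, hψ⟩


lemma isPC_single_iff (m n : ℤ) (N : ModuleCat.{u} R) :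
    IsPseudoCoherent R (m + n) ((singleFunctor (ModuleCat.{u} R) n).obj N) ↔
      IsPseudoCoherent R m ((singleFunctor (ModuleCat.{u} R) 0).obj N) := by
  have e : ((singleFunctor (ModuleCat.{u} R) 0).obj N)⟦-n⟧ ≅ (singleFunctor (ModuleCat.{u} R) n).obj N :=
    ((singleFunctors (ModuleCat.{u} R)).shiftIso (-n) n 0 (by simp)).app N
  constructor
  · intro h
    have h1 := isPC_of_iso e.symm h
    exact isPC_of_shift (-n) (by rwa [show m - -n = m + n by omega])
  · intro h
    have h1 := isPC_shift h (-n)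
    rw [show m - -n = m + n by omega] at h1
    exact isPC_of_iso e h1

lemma isPC_single_of_iso {m n : ℤ} {N N' : ModuleCat.{u} R} (e : N ≅ N')
    (h : IsPseudoCoherent R m ((singleFunctor (ModuleCat.{u} R) n).obj N)) :
    IsPseudoCoherent R m ((singleFunctor (ModuleCat.{u} R) n).obj N') :=
  isPC_of_iso ((singleFunctor (ModuleCat.{u} R) n).mapIso e) h

/-- objects concentrated in one degree. -/
lemma exists_iso_single (K : Dual.D R) (n : ℤ) [K.IsGE n] [K.IsLE n] :
    Nonempty (K ≅ (singleFunctor (ModuleCat.{u} R) n).obj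
      ((homologyFunctor (ModuleCat.{u} R) n).obj K)) := by
  obtain ⟨Y, ⟨e⟩⟩ := exists_iso_singleFunctor_obj_of_isGE_of_isLE K n
  have e' : (homologyFunctor (ModuleCat.{u} R) n).obj K ≅ Y :=
    (homologyFunctor (ModuleCat.{u} R) n).mapIso e ≪≫
      (singleFunctorCompHomologyFunctorIso (ModuleCat.{u} R) n).app Y
  exact ⟨e ≪≫ (singleFunctor (ModuleCat.{u} R) n).mapIso e'.symm⟩

theorem isPC_of_homology_vanishing_fp_finite (m : ℤ) (K : Dual.D R)
    (hvan : ∀ i : ℤ, m + 1 < i → IsZero ((homologyFunctor (ModuleCat.{u} R) i).obj K))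
    (hfp : Module.FinitePresentation R ((homologyFunctor (ModuleCat.{u} R) (m + 1)).obj K))
    (hfin : Module.Finite R ((homologyFunctor (ModuleCat.{u} R) m).obj K)) :
    IsPseudoCoherent R m K := by
  obtain ⟨A, B, m₁, m₂, m₃, hT, hA, hB⟩ := TwoTerm.exists_truncation_triangle K (m + 1)
  rw [show m + 1 - 1 = m by omega] at hA
  -- `A` is `m`-pseudo-coherent
  have hA' : IsPseudoCoherent R m A := by
    refine isPC_of_isLE_of_finite A m ?_
    haveI : (Triangle.mk m₁ m₂ m₃).obj₃.IsGE (m + 1) := hB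
    haveI : IsIso ((homologyFunctor (ModuleCat.{u} R) m).map m₁) :=
      DRing1.isIso_homology_mor₁ _ hT (m + 1) m (by omega)
    exact Module.Finite.equiv
      (asIso ((homologyFunctor (ModuleCat.{u} R) m).map m₁)).symm.toLinearEquiv
  -- `B` is concentrated in degree `m + 1`
  haveI : (Triangle.mk m₁ m₂ m₃).obj₁.IsLE (m + 1 - 1) := by
    rw [show m + 1 - 1 = m by omega]; exact hA
  have hiso : ∀ i : ℤ, m + 1 ≤ i → IsIso ((homologyFunctor (ModuleCat.{u} R) i).map m₂) :=
    fun i hi => DRing1.isIso_homology_mor₂ _ hT (m + 1) i hi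
  haveI : B.IsLE (m + 1) := by
    rw [isLE_iff]
    intro i hi
    haveI := hiso i (by omega)
    exact (hvan i hi).of_iso (asIso ((homologyFunctor (ModuleCat.{u} R) i).map m₂)).symm
  obtain ⟨eB⟩ := exists_iso_single B (m + 1)
  have hB' : IsPseudoCoherent R m B := by
    refine isPC_of_iso eB.symm ?_
    have h1 := (isPC_single_iff (-1) (m + 1) ((homologyFunctor (ModuleCat.{u} R) (m + 1)).obj B)).2 (by
      haveI := hiso (m + 1) le_rfl
      haveI : Module.FinitePresentation R ((homologyFunctor (ModuleCat.{u} R) (m + 1)).obj B) :=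
        Module.FinitePresentation.of_equiv
          (asIso ((homologyFunctor (ModuleCat.{u} R) (m + 1)).map m₂)).toLinearEquiv
      exact isPC_single_of_fp _)
    rwa [show -1 + (m + 1) = m by omega] at h1
  exact isPC_obj₂ _ hT m hA' hB'

end Groth.Agent.H4.PC
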