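import Mathlib
import Groth.Agent.H4.PC4
set_option autoImplicit false
universe u
open CategoryTheory CategoryTheory.Limits CategoryTheory.Pretriangulated

namespace Groth.Agent.H4.PC

attribute [local instance] HasDerivedCategory.standard

variable {R : Type u} [CommRing R]

open DRing DerivedCategory ZeroObject
open CochainComplex (mappingCone)
open CochainComplex.HomComplex

theorem homotopy_of_Q_map_eq_zero (M K : Cx R) [M.IsKProjective] (f : M ⟶ K)
    (hf : Q.map f = 0) : Nonempty (Homotopy f 0) := by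
  have h3 := quotientCompQhIso_hom_naturality f
  rw [hf, comp_zero] at h3
  have h4 : Qh.map ((HomotopyCategory.quotient _ _).map f) =
      Qh.map ((HomotopyCategory.quotient _ _).map (0 : M ⟶ K)) := by
    rw [Functor.map_zero, Functor.map_zero]
    exact (cancel_mono ((quotientCompQhIso (ModuleCat.{u} R)).hom.app K)).1 (h3.trans zero_comp.symm)
  exact ⟨HomotopyCategory.homotopyOfEq _ _
    ((CochainComplex.IsKProjective.Qh_map_bijective M _).1 h4)⟩

lemma mapTriangle_distinguished {K L : Cx R} (f : K ⟶ L) :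
    Q.mapTriangle.obj (mappingCone.triangle f) ∈ distinguishedTriangles := by
  rw [mem_distTriang_iff]
  exact ⟨_, _, f, ⟨Iso.refl _⟩⟩

set_option maxHeartbeats 800000 in
theorem exists_step_aux (X E S : Cx R) (a : E ⟶ X) (n : ℤ) (hSB : IsBFF S)
    (ψ₀ : toD S ⟶ (toD (mappingCone a))⟦(-1 : ℤ)⟧)
    (hψ₀ : IsWit n ψ₀) :
    ∃ (φ : S ⟶ E) (a' : mappingCone φ ⟶ X), mappingCone.inr φ ≫ a' = a ∧
      IsWit (n - 1) (Q.map a') := by
  have hTa := mapTriangle_distinguished a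
  have hT₂ := inv_rot_of_distTriang _ hTa
  haveI : S.IsKProjective := hSB.isKProjective
  let μ : (toD (mappingCone a))⟦(-1 : ℤ)⟧ ⟶ toD E :=
    (Q.mapTriangle.obj (mappingCone.triangle a)).invRotate.mor₁
  have hμ : μ ≫ Q.map a = 0 := comp_distTriang_mor_zero₁₂ _ hT₂
  obtain ⟨φ, hφ⟩ := Groth.Agent.H3.PerfAux.exists_map_of_isKProjective S E (ψ₀ ≫ μ)
  have hTφ := mapTriangle_distinguished φ
  have comm₁ : (Q.mapTriangle.obj (mappingCone.triangle φ)).mor₁ ≫ 𝟙 (toD E) =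
      ψ₀ ≫ (Q.mapTriangle.obj (mappingCone.triangle a)).invRotate.mor₁ :=
    (Category.comp_id _).trans hφ
  obtain ⟨α'', hα'₁, hα'₂⟩ := complete_distinguished_triangle_morphism _ _ hTφ hT₂ ψ₀
    (𝟙 (toD E)) comm₁
  let Φ : Q.mapTriangle.obj (mappingCone.triangle φ) ⟶
      (Q.mapTriangle.obj (mappingCone.triangle a)).invRotate :=
    { hom₁ := ψ₀, hom₂ := 𝟙 (toD E), hom₃ := α'', comm₁ := comm₁, comm₂ := hα'₁, comm₃ := hα'₂ }
  let α' : toD (mappingCone φ) ⟶ toD X := α''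
  have hα1 : Q.map (mappingCone.inr φ) ≫ α' = Q.map a := hα'₁.trans (Category.id_comp _)
  -- 6. witness
  have hm : ∀ i : ℤ, n - 1 < i → Mono ((homologyFunctor (ModuleCat.{u} R) i).map α') :=
    fun i hi => mono_hom₃ hTφ hT₂ Φ i (i + 1) rfl (hψ₀.epi i (by omega))
      (by change Mono ((homologyFunctor (ModuleCat.{u} R) i).map (𝟙 (toD E))); infer_instance)
      (hψ₀.mono_map (i + 1) (by omega))
  have he : ∀ i : ℤ, n - 1 ≤ i → Epi ((homologyFunctor (ModuleCat.{u} R) i).map α') :=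
    fun i hi => epi_hom₃ hTφ hT₂ Φ i (i + 1) rfl
      (by change Epi ((homologyFunctor (ModuleCat.{u} R) i).map (𝟙 (toD E))); infer_instance)
      (hψ₀.epi (i + 1) (by omega))
      (by change Mono ((homologyFunctor (ModuleCat.{u} R) (i + 1)).map (𝟙 (toD E))); infer_instance)
  have hwα' : IsWit (n - 1) α' :=
    ⟨fun i hi => @isIso_of_mono_of_epi _ _ _ _ _ _ (hm i hi) (he i hi.le), he (n - 1) le_rfl⟩
  -- 7. strictify
  have h0 : Q.map (φ ≫ a) = 0 := by
    rw [Functor.map_comp, hφ, Category.assoc, hμ, comp_zero]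
  obtain ⟨h⟩ := homotopy_of_Q_map_eq_zero S X (φ ≫ a) h0
  obtain ⟨z, hz⟩ := Cochain.equivHomotopy _ _ h
  have hz' : δ (-1) 0 z = Cochain.ofHom (φ ≫ a) := by
    rw [hz, Cochain.ofHom_zero, add_zero]
  let a₀ : mappingCone φ ⟶ X := mappingCone.desc φ z a hz'
  have ha₀ : mappingCone.inr φ ≫ a₀ = a := mappingCone.inr_desc φ z a hz'
  have hdiff : Q.map (mappingCone.inr φ) ≫ (α' - Q.map a₀) = 0 := by
    rw [Preadditive.comp_sub, hα1, ← Functor.map_comp, ha₀, sub_self]
  obtain ⟨ξ, hξ⟩ := Triangle.yoneda_exact₃ _ hTφ (α' - Q.map a₀) hdiff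
  haveI : (S⟦(1 : ℤ)⟧).IsKProjective := inferInstance
  obtain ⟨c, hc⟩ := Groth.Agent.H3.PerfAux.exists_map_of_isKProjective (S⟦(1 : ℤ)⟧) X
    ((Q.commShiftIso (1 : ℤ)).hom.app S ≫ ξ)
  let dl : mappingCone φ ⟶ S⟦(1 : ℤ)⟧ := (mappingCone.triangle φ).mor₃
  refine ⟨φ, a₀ + dl ≫ c, ?_, ?_⟩
  · rw [Preadditive.comp_add, ha₀]
    have : mappingCone.inr φ ≫ dl = 0 := mappingCone.inr_triangleδ φ
    rw [← Category.assoc, this, zero_comp, add_zero]
  · have ha' : Q.map (a₀ + dl ≫ c) = α' := by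
      rw [Functor.map_add, Functor.map_comp, hc]
      have : Q.map dl ≫ (Q.commShiftIso (1 : ℤ)).hom.app S ≫ ξ =
          α' - Q.map a₀ := by
        rw [hξ]
        exact (Category.assoc _ _ _).symm
      rw [this]
      abel
    rw [ha']; exact hwα'

set_option maxHeartbeats 800000 in
/-- the inductive step in the construction of a bounded above resolution by finite free modules. -/
theorem exists_step (X : Cx R) (hX : ∀ m : ℤ, IsPseudoCoherent R m (toD X)) (n b : ℤ)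
    (hnb : n ≤ b + 1) (E : Cx R) (hE : IsBFF E) (hlow : ∀ i : ℤ, i < n → IsZero (E.X i))
    (hup : ∀ i : ℤ, b < i → IsZero (E.X i)) (a : E ⟶ X) (ha : IsWit n (Q.map a)) :
    ∃ (E' : Cx R) (ι : E ⟶ E') (a' : E' ⟶ X), ι ≫ a' = a ∧ IsBFF E' ∧
      (∀ i : ℤ, i < n - 1 → IsZero (E'.X i)) ∧ (∀ i : ℤ, b < i → IsZero (E'.X i)) ∧
      (∀ i : ℤ, n ≤ i → IsIso (ι.f i)) ∧ IsWit (n - 1) (Q.map a') := by
  have hTa := mapTriangle_distinguished a
  haveI hC : (toD (mappingCone a)).IsLE (n - 1) := (isWit_iff_isLE _ hTa n).1 ha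
  have hCpc : IsPseudoCoherent R (n - 1) (toD (mappingCone a)) :=
    isPC_obj₃ _ hTa (n - 1) (isPC_toD _ E hE) (hX (n - 1))
  have hfin : Module.Finite R ((homologyFunctor (ModuleCat.{u} R) (n - 1)).obj (toD (mappingCone a))) :=
    finite_homology _ (n - 1) hCpc (fun i hi => isZero_of_isLE _ (n - 1) i hi)
  haveI : ((toD (mappingCone a))⟦(-1 : ℤ)⟧).IsLE n :=
    TStructure.t.isLE_shift (toD (mappingCone a)) (n - 1) (-1) n (by omega)
  have hfinY : Module.Finite R ((homologyFunctor (ModuleCat.{u} R) n).obj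
      ((toD (mappingCone a))⟦(-1 : ℤ)⟧)) := by
    haveI : Module.Finite R (((homologyFunctor (ModuleCat.{u} R) 0).shift (n - 1)).obj
      (toD (mappingCone a))) := hfin
    exact Module.Finite.equiv (((homologyFunctor (ModuleCat.{u} R) 0).shiftIso (-1) n (n - 1)
      (by omega)).app (toD (mappingCone a))).symm.toLinearEquiv
  obtain ⟨k, ψ₀, hψ₀⟩ := exists_wit_from_sgl _ n hfinY
  have hSB : IsBFF (ProjAmp.sgl (ModuleCat.of R (Fin k → R)) n) := isBFF_sgl _ n
  obtain ⟨φ, a', h1, h2⟩ := exists_step_aux X E _ a n hSB ψ₀ hψ₀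
  refine ⟨mappingCone φ, mappingCone.inr φ, a', h1, hSB.cone hE φ, ?_, ?_, ?_, h2⟩
  · intro i hi
    exact Groth.Agent.H3.PerfAux.mappingCone_X_isZero φ i
      (HomologicalComplex.isZero_single_obj_X _ _ _ _ (by omega)) (hlow i (by omega))
  · intro i hi
    exact Groth.Agent.H3.PerfAux.mappingCone_X_isZero φ i
      (HomologicalComplex.isZero_single_obj_X _ _ _ _ (by omega)) (hup i hi)
  · intro i hi
    refine ⟨(mappingCone.snd φ).v i i (add_zero i), by simp, ?_⟩
    have h1 := mappingCone.id_X φ i (i + 1) rfl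
    have h2 : (mappingCone.fst φ).1.v i (i + 1) rfl = 0 :=
      (HomologicalComplex.isZero_single_obj_X _ _ _ _ (by omega)).eq_of_tgt _ _
    rw [h2, zero_comp, zero_add] at h1
    exact h1

end Groth.Agent.H4.PC
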