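import Mathlib
import Groth.Agent.H4.PC5
set_option autoImplicit false
universe u
open CategoryTheory CategoryTheory.Limits CategoryTheory.Pretriangulated

namespace Groth.Agent.H4.PC

attribute [local instance] HasDerivedCategory.standard

variable {R : Type u} [CommRing R]

open DRing DerivedCategory ZeroObject
open CochainComplex (mappingCone)

/-- stage data in the construction of a resolution. -/
structure Stage (X : Cx R) (b : ℤ) where
  n : ℤ
  hn : n ≤ b + 1
  E : Cx R
  a : E ⟶ X
  bff : IsBFF E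
  low : ∀ i : ℤ, i < n → IsZero (E.X i)
  up : ∀ i : ℤ, b < i → IsZero (E.X i)
  wit : IsWit n (Q.map a)

variable {X : Cx R} {b : ℤ}

noncomputable def Stage.init (hb : ∀ i : ℤ, b < i → IsZero ((homologyFunctor (ModuleCat.{u} R) i).obj (toD X))) :
    Stage X b where
  n := b + 1
  hn := le_rfl
  E := 0
  a := 0
  bff := isBFF_zero
  low := fun i _ => (HomologicalComplex.eval _ _ i).map_isZero (isZero_zero _)
  up := fun i _ => (HomologicalComplex.eval _ _ i).map_isZero (isZero_zero _)
  wit := by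
    refine ⟨fun i hi => ?_, ?_⟩
    · have h1 : IsZero ((homologyFunctor (ModuleCat.{u} R) i).obj (toD (0 : Cx R))) :=
        (homologyFunctor (ModuleCat.{u} R) i).map_isZero (Q.map_isZero (isZero_zero _))
      exact ⟨0, h1.eq_of_src _ _, (hb i (by omega)).eq_of_src _ _⟩
    · exact ⟨fun _ _ _ => (hb (b + 1) (by omega)).eq_of_src _ _⟩

variable (hX : ∀ m : ℤ, IsPseudoCoherent R m (toD X))

noncomputable def Stage.next (s : Stage X b) : Stage X b where
  n := s.n - 1
  hn := by have := s.hn; omega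
  E := (exists_step X hX s.n b s.hn s.E s.bff s.low s.up s.a s.wit).choose
  a := (exists_step X hX s.n b s.hn s.E s.bff s.low s.up s.a s.wit).choose_spec.choose_spec.choose
  bff := (exists_step X hX s.n b s.hn s.E s.bff s.low s.up s.a s.wit).choose_spec.choose_spec.choose_spec.2.1
  low := (exists_step X hX s.n b s.hn s.E s.bff s.low s.up s.a s.wit).choose_spec.choose_spec.choose_spec.2.2.1
  up := (exists_step X hX s.n b s.hn s.E s.bff s.low s.up s.a s.wit).choose_spec.choose_spec.choose_spec.2.2.2.1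
  wit := (exists_step X hX s.n b s.hn s.E s.bff s.low s.up s.a s.wit).choose_spec.choose_spec.choose_spec.2.2.2.2.2

noncomputable def Stage.ι (s : Stage X b) : s.E ⟶ (s.next hX).E :=
  (exists_step X hX s.n b s.hn s.E s.bff s.low s.up s.a s.wit).choose_spec.choose

lemma Stage.ι_a (s : Stage X b) : s.ι hX ≫ (s.next hX).a = s.a :=
  (exists_step X hX s.n b s.hn s.E s.bff s.low s.up s.a s.wit).choose_spec.choose_spec.choose_spec.1

lemma Stage.isIso_ι (s : Stage X b) (i : ℤ) (hi : s.n ≤ i) : IsIso ((s.ι hX).f i) :=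
  (exists_step X hX s.n b s.hn s.E s.bff s.low s.up s.a s.wit).choose_spec.choose_spec.choose_spec.2.2.2.2.1 i hi

variable (hb : ∀ i : ℤ, b < i → IsZero ((homologyFunctor (ModuleCat.{u} R) i).obj (toD X)))

noncomputable def st : ℕ → Stage X b
  | 0 => Stage.init hb
  | k + 1 => (st k).next hX

lemma st_n (k : ℕ) : (st hX hb k).n = b + 1 - k := by
  induction k with
  | zero => simp [st, Stage.init]
  | succ k ih =>
    change (st hX hb k).n - 1 = _
    rw [ih]; push_cast; ring

/-- the sequence of complexes -/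
noncomputable def seqF : ℕ ⥤ Cx R :=
  Functor.ofSequence (X := fun k => (st hX hb k).E) (fun k => (st hX hb k).ι hX)

lemma seqF_map_succ (k : ℕ) :
    (seqF hX hb).map (homOfLE (Nat.le_add_right k 1)) = (st hX hb k).ι hX :=
  Functor.ofSequence_map_homOfLE_succ (X := fun k => (st hX hb k).E)
    (fun k => (st hX hb k).ι hX) k

lemma isIso_seqF_map (i : ℤ) (k₀ : ℕ) (hk₀ : b + 1 - k₀ ≤ i) (j : ℕ) (f : k₀ ⟶ j) :
    IsIso (((seqF hX hb).map f).f i) := by
  obtain ⟨d, rfl⟩ := Nat.exists_eq_add_of_le (leOfHom f)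
  obtain rfl := Subsingleton.elim f (homOfLE (by omega))
  induction d with
  | zero =>
    have : (homOfLE (by omega) : k₀ ⟶ k₀ + 0) = 𝟙 k₀ := Subsingleton.elim _ _
    rw [this, CategoryTheory.Functor.map_id]
    change IsIso (𝟙 _)
    infer_instance
  | succ d ih =>
    have h1 : (homOfLE (by omega) : k₀ ⟶ k₀ + (d + 1)) =
      (homOfLE (by omega) : k₀ ⟶ k₀ + d) ≫ (homOfLE (Nat.le_add_right (k₀ + d) 1)) :=
      Subsingleton.elim _ _
    rw [h1, Functor.map_comp, HomologicalComplex.comp_f]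
    haveI := ih
    haveI : IsIso (((seqF hX hb).map (homOfLE (Nat.le_add_right (k₀ + d) 1))).f i) := by
      rw [seqF_map_succ]
      refine Stage.isIso_ι hX _ i ?_
      rw [st_n]; push_cast; omega
    infer_instance


noncomputable def Einf : Cx R := colimit (seqF hX hb)

noncomputable def cinf (k : ℕ) : (st hX hb k).E ⟶ Einf hX hb := colimit.ι (seqF hX hb) k

noncomputable def coconeX : Cocone (seqF hX hb) where
  pt := X
  ι := NatTrans.ofSequence (F := seqF hX hb) (G := (Functor.const ℕ).obj X)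
    (fun k => (st hX hb k).a) (fun k => by
      rw [seqF_map_succ]
      exact (Stage.ι_a hX (st hX hb k)).trans (Category.comp_id _).symm)

noncomputable def ainf : Einf hX hb ⟶ X := colimit.desc (seqF hX hb) (coconeX hX hb)

lemma cinf_ainf (k : ℕ) : cinf hX hb k ≫ ainf hX hb = (st hX hb k).a :=
  colimit.ι_desc (coconeX hX hb) k

lemma isIso_cinf_f (i : ℤ) (k : ℕ) (hk : b + 1 - k ≤ i) : IsIso ((cinf hX hb k).f i) := by
  have h : (seqF hX hb ⋙ HomologicalComplex.eval _ _ i).IsEventuallyConstantFrom k :=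
    fun j f => isIso_seqF_map hX hb i k hk j f
  exact h.isIso_ι_of_isColimit
    (isColimitOfPreserves (HomologicalComplex.eval _ _ i) (colimit.isColimit (seqF hX hb)))

lemma Einf_isZero (i : ℤ) (hi : b < i) : IsZero ((Einf hX hb).X i) := by
  haveI := isIso_cinf_f hX hb i 0 (by push_cast; omega)
  exact ((st hX hb 0).up i hi).of_iso (asIso ((cinf hX hb 0).f i)).symm

lemma Einf_finiteFree (i : ℤ) :
    Module.Finite R ((Einf hX hb).X i) ∧ Module.Free R ((Einf hX hb).X i) := by
  set k := (b + 1 - i).toNat with hk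
  haveI := isIso_cinf_f hX hb i k (by have := Int.self_le_toNat (b + 1 - i); omega)
  have e := (asIso ((cinf hX hb k).f i)).toLinearEquiv
  obtain ⟨a', b', h1, h2⟩ := (st hX hb k).bff
  haveI := (h2 i).1
  haveI := (h2 i).2
  exact ⟨Module.Finite.equiv e, Module.Free.of_equiv e⟩

lemma isIso_homologyMap_of_isIso_f {K L : Cx R} (f : K ⟶ L) (i : ℤ)
    (h₀ : IsIso (f.f (i - 1))) (h₁ : IsIso (f.f i)) (h₂ : IsIso (f.f (i + 1))) :
    IsIso (HomologicalComplex.homologyMap f i) := by
  rw [← quasiIsoAt_iff_isIso_homologyMap,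
    quasiIsoAt_iff' _ (i - 1) i (i + 1) (by simp) (by simp)]
  let φ := (HomologicalComplex.shortComplexFunctor' (ModuleCat.{u} R) (ComplexShape.up ℤ)
    (i - 1) i (i + 1)).map f
  haveI : IsIso φ.τ₁ := h₀
  haveI : IsIso φ.τ₂ := h₁
  haveI : IsIso φ.τ₃ := h₂
  exact ShortComplex.quasiIso_of_epi_of_isIso_of_mono φ

lemma isIso_homologyMap_iff {K L : Cx R} (f : K ⟶ L) (i : ℤ) :
    IsIso (HomologicalComplex.homologyMap f i) ↔
      IsIso ((homologyFunctor (ModuleCat.{u} R) i).map (Q.map f)) :=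
  (NatIso.isIso_map_iff (homologyFunctorFactors (ModuleCat.{u} R) i) f).symm

lemma quasiIso_ainf : QuasiIso (ainf hX hb) := by
  rw [quasiIso_iff]
  intro i
  rw [quasiIsoAt_iff_isIso_homologyMap]
  set k := (b + 2 - i).toNat with hk
  have hk' : b + 2 - i ≤ k := Int.self_le_toNat _
  have h1 : IsIso (HomologicalComplex.homologyMap (cinf hX hb k) i) :=
    isIso_homologyMap_of_isIso_f _ i (isIso_cinf_f hX hb _ k (by omega))
      (isIso_cinf_f hX hb _ k (by omega)) (isIso_cinf_f hX hb _ k (by omega))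
  have h2 : IsIso (HomologicalComplex.homologyMap (st hX hb k).a i) := by
    rw [isIso_homologyMap_iff]
    refine (st hX hb k).wit.1 i ?_
    rw [st_n]; omega
  have h3 : HomologicalComplex.homologyMap (cinf hX hb k) i ≫
      HomologicalComplex.homologyMap (ainf hX hb) i =
      HomologicalComplex.homologyMap (st hX hb k).a i := by
    rw [← HomologicalComplex.homologyMap_comp, cinf_ainf]
  exact IsIso.of_isIso_fac_left h3


lemma isZero_homology_toD_of_isZero (E : Cx R) (i : ℤ) (h : IsZero (E.X i)) :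
    IsZero ((homologyFunctor (ModuleCat.{u} R) i).obj (toD E)) :=
  ((HomologicalComplex.exactAt_iff_isZero_homology _ _).1
    (ShortComplex.exact_of_isZero_X₂ _ h)).of_iso (homologyToDIso E i)

/-- an `m`-pseudo-coherent object has cohomology bounded above. -/
lemma exists_bound_of_isPC {m : ℤ} {K : Dual.D R} (h : IsPseudoCoherent R m K) :
    ∃ b : ℤ, ∀ i : ℤ, b < i → IsZero ((homologyFunctor (ModuleCat.{u} R) i).obj K) := by
  rw [isPC_iff] at h
  obtain ⟨E, ⟨a₀, b₀, h1, h2⟩, α, hα⟩ := h
  refine ⟨max b₀ m, fun i hi => ?_⟩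
  haveI := hα.1 i (by have := le_max_right b₀ m; omega)
  exact (isZero_homology_toD_of_isZero E i (h1 i (Or.inr (by
    have := le_max_left b₀ m; omega)))).of_iso
      (asIso ((homologyFunctor (ModuleCat.{u} R) i).map α)).symm

/-- **Stacks 064U, (1) ⇒ (2).** -/
theorem isPC'_of_forall_isPC (K : Dual.D R) (h : ∀ m : ℤ, IsPseudoCoherent R m K) :
    IsPseudoCoherent' R K := by
  let X := Q.objPreimage K
  let e : toD X ≅ K := Q.objObjPreimageIso K
  have hX : ∀ m : ℤ, IsPseudoCoherent R m (toD X) := fun m => isPC_of_iso e.symm (h m)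
  obtain ⟨b, hb⟩ := exists_bound_of_isPC (hX 0)
  haveI := quasiIso_ainf hX hb
  exact ⟨Einf hX hb, b, Einf_isZero hX hb, Einf_finiteFree hX hb,
    ⟨asIso (Q.map (ainf hX hb)) ≪≫ e⟩⟩

end Groth.Agent.H4.PC
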