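import Mathlib
import Groth.Agent.H4.PC6
set_option autoImplicit false
universe u
open CategoryTheory CategoryTheory.Limits CategoryTheory.Pretriangulated

/-!
# Bounded above free resolutions of bounded above objects of `D(R)`
-/

namespace Groth.Agent.H4.ResP

attribute [local instance] HasDerivedCategory.standard

variable {R : Type u} [CommRing R]

open DRing DerivedCategory ZeroObject Groth.Agent.H4.PC Groth.Agent.H4.DRing1
open CochainComplex (mappingCone)
open CochainComplex.HomComplex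

/-- bounded above by `b`, termwise free. -/
def IsBAF (b : ℤ) (E : Cx R) : Prop := (∀ i : ℤ, b < i → IsZero (E.X i)) ∧ ∀ i : ℤ, Module.Free R (E.X i)

lemma isBAF_zero (b : ℤ) : IsBAF b (0 : Cx R) := by
  have hz : ∀ i : ℤ, IsZero ((0 : Cx R).X i) :=
    fun i => (HomologicalComplex.eval _ _ i).map_isZero (isZero_zero _)
  refine ⟨fun i _ => hz i, fun i => ?_⟩
  haveI := ModuleCat.subsingleton_of_isZero (hz i)
  infer_instance

lemma IsBAF.isKProjective {b : ℤ} {E : Cx R} (hE : IsBAF b E) : E.IsKProjective :=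
  isKProjective_of_vanishesAbove_projective E b hE.1 (fun i => by haveI := hE.2 i; infer_instance)

lemma IsBAF.mono {b b' : ℤ} (hbb : b ≤ b') {E : Cx R} (hE : IsBAF b E) : IsBAF b' E :=
  ⟨fun i hi => hE.1 i (by omega), hE.2⟩

lemma IsBAF.cone {b : ℤ} {E₁ E₂ : Cx R} (h₁ : IsBAF (b + 1) E₁) (h₂ : IsBAF b E₂) (f : E₁ ⟶ E₂) :
    IsBAF b (mappingCone f) := by
  refine ⟨fun i hi => Groth.Agent.H3.PerfAux.mappingCone_X_isZero f i (h₁.1 _ (by omega)) (h₂.1 _ hi),
    fun i => ?_⟩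
  have e : (mappingCone f).X i ≅ E₁.X (i + 1) ⊞ E₂.X i :=
    HomologicalComplex.homotopyCofiber.XIsoBiprod f i (i + 1) rfl
  have e' := (e ≪≫ ModuleCat.biprodIsoProd _ _).toLinearEquiv
  haveI := h₁.2 (i + 1)
  haveI := h₂.2 i
  exact Module.Free.of_equiv e'.symm

lemma isBAF_sgl (F : ModuleCat.{u} R) [Module.Free R F] (n : ℤ) : IsBAF n (ProjAmp.sgl F n) := by
  refine ⟨fun i hi => HomologicalComplex.isZero_single_obj_X _ _ _ _ (by omega), fun i => ?_⟩
  by_cases h : i = n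
  · subst h
    exact Module.Free.of_equiv
      (HomologicalComplex.singleObjXSelf (ComplexShape.up ℤ) i F).toLinearEquiv.symm
  · haveI := ModuleCat.subsingleton_of_isZero
      (HomologicalComplex.isZero_single_obj_X (ComplexShape.up ℤ) n F i h)
    infer_instance

/-- objects of `D^{≤ m}` receive a witness from a free module placed in degree `m`. -/
theorem exists_wit_free (K : Dual.D R) (m : ℤ) [K.IsLE m] :
    ∃ (F : ModuleCat.{u} R) (_ : Module.Free R F) (ψ : toD (ProjAmp.sgl F m) ⟶ K), IsWit m ψ := by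
  obtain ⟨X, hX, ⟨e⟩⟩ := exists_iso_Q_obj_of_isLE K m
  have hX' : ∀ i : ℤ, m < i → IsZero (X.X i) := fun i hi => X.isZero_of_isStrictlyLE m i hi
  let F : ModuleCat.{u} R := ModuleCat.of R ((X.opcycles m) →₀ R)
  let p₀ : ((X.opcycles m) →₀ R) →ₗ[R] (X.opcycles m) := Finsupp.linearCombination R id
  have hp₀ : Function.Surjective p₀ := Finsupp.linearCombination_surjective _ Function.surjective_id
  have hq : Function.Surjective (X.pOpcycles m).hom :=
    (ModuleCat.epi_iff_surjective _).1 inferInstance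
  obtain ⟨p, hp⟩ := Module.projective_lifting_property (X.pOpcycles m).hom p₀ hq
  let p' : F ⟶ X.X m := ModuleCat.ofHom p
  have hex : (ShortComplex.mk (X.d (m - 1) m) (X.pOpcycles m) (by simp)).Exact :=
    ShortComplex.exact_of_g_is_cokernel _ (X.opcyclesIsCokernel (m - 1) m (by simp))
  rw [ShortComplex.moduleCat_exact_iff] at hex
  have hsurj : ∀ y : X.X m, ∃ (f : F) (x : X.X (m - 1)),
      y = p'.hom f + (X.d (m - 1) m).hom x := by
    intro y
    obtain ⟨f, hf⟩ := hp₀ ((X.pOpcycles m).hom y)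
    have h1 : (X.pOpcycles m).hom (y - p f) = 0 := by
      rw [map_sub, ← hf]
      have := LinearMap.congr_fun hp f
      simp only [LinearMap.comp_apply] at this
      rw [this, sub_self]
    obtain ⟨x, hx⟩ := hex (y - p f) h1
    refine ⟨f, x, ?_⟩
    change y = p f + _
    rw [hx]; abel
  set g := ProjAmp.fromSgl X m hX' F p' with hg
  have hTg : Q.mapTriangle.obj (CochainComplex.mappingCone.triangle g) ∈
      distinguishedTriangles := mapTriangle_distinguished g
  have hw : IsWit m (Q.map g) := by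
    refine (isWit_iff_isLE _ hTg m).2 ?_
    change (Q.obj (mappingCone g)).IsLE (m - 1)
    rw [isLE_iff]
    intro i hi
    refine ((homologyToDIso (mappingCone g) i).symm).isZero_iff.1 ?_
    by_cases him : i = m
    · subst him
      exact (HomologicalComplex.exactAt_iff_isZero_homology _ _).1
        (cone_fromSgl_exactAt' X i hX' F p' hsurj)
    · have hz : IsZero ((mappingCone g).X i) := ProjAmp.cone_fromSgl_isZero X m hX' F p' i (by omega)
      exact (HomologicalComplex.exactAt_iff_isZero_homology _ _).1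
        (ShortComplex.exact_of_isZero_X₂ _ hz)
  exact ⟨F, Module.Free.finsupp R R _, Q.map g ≫ e.inv, hw.comp (IsWit.of_isIso e.inv)⟩

set_option maxHeartbeats 800000 in
theorem exists_step_aux (X E S : Cx R) [S.IsKProjective] (a : E ⟶ X) (n : ℤ)
    (ψ₀ : toD S ⟶ (toD (mappingCone a))⟦(-1 : ℤ)⟧)
    (hψ₀ : IsWit n ψ₀) :
    ∃ (φ : S ⟶ E) (a' : mappingCone φ ⟶ X), mappingCone.inr φ ≫ a' = a ∧
      IsWit (n - 1) (Q.map a') := by
  have hTa := mapTriangle_distinguished a
  have hT₂ := inv_rot_of_distTriang _ hTa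
  let μ : (toD (mappingCone a))⟦(-1 : ℤ)⟧ ⟶ toD E :=
    (Q.mapTriangle.obj (mappingCone.triangle a)).invRotate.mor₁
  have hμ : μ ≫ Q.map a = 0 := comp_distTriang_mor_zero₁₂ _ hT₂
  obtain ⟨φ, hφ⟩ := Groth.Agent.H3.PerfAux.exists_map_of_isKProjective S E (ψ₀ ≫ μ)
  have hTφ := mapTriangle_distinguished φ
  have comm₁ : (Q.mapTriangle.obj (mappingCone.triangle φ)).mor₁ ≫ 𝟙 (toD E) =
      ψ₀ ≫ (Q.mapTriangle.obj (mappingCone.triangle a)).invRotate.mor₁ :=
    (Category.comp_id _).trans hφ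
  obtain ⟨α'', hα'₁, hα'₂⟩ := complete_distinguished_triangle_morphism _ _ hTφ hT₂ ψ₀
    (𝟙 (toD E)) comm₁
  let Φ : Q.mapTriangle.obj (mappingCone.triangle φ) ⟶
      (Q.mapTriangle.obj (mappingCone.triangle a)).invRotate :=
    { hom₁ := ψ₀, hom₂ := 𝟙 (toD E), hom₃ := α'', comm₁ := comm₁, comm₂ := hα'₁, comm₃ := hα'₂ }
  let α' : toD (mappingCone φ) ⟶ toD X := α''
  have hα1 : Q.map (mappingCone.inr φ) ≫ α' = Q.map a := hα'₁.trans (Category.id_comp _)
  have hm : ∀ i : ℤ, n - 1 < i → Mono ((homologyFunctor (ModuleCat.{u} R) i).map α') :=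
    fun i hi => mono_hom₃ hTφ hT₂ Φ i (i + 1) rfl (hψ₀.epi i (by omega))
      (by change Mono ((homologyFunctor (ModuleCat.{u} R) i).map (𝟙 (toD E))); infer_instance)
      (hψ₀.mono_map (i + 1) (by omega))
  have he : ∀ i : ℤ, n - 1 ≤ i → Epi ((homologyFunctor (ModuleCat.{u} R) i).map α') :=
    fun i hi => epi_hom₃ hTφ hT₂ Φ i (i + 1) rfl
      (by change Epi ((homologyFunctor (ModuleCat.{u} R) i).map (𝟙 (toD E))); infer_instance)
      (hψ₀.epi (i + 1) (by omega))
      (by change Mono ((homologyFunctor (ModuleCat.{u} R) (i + 1)).map (𝟙 (toD E))); infer_instance)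
  have hwα' : IsWit (n - 1) α' :=
    ⟨fun i hi => @isIso_of_mono_of_epi _ _ _ _ _ _ (hm i hi) (he i hi.le), he (n - 1) le_rfl⟩
  have h0 : Q.map (φ ≫ a) = 0 := by
    rw [Functor.map_comp, hφ, Category.assoc, hμ, comp_zero]
  obtain ⟨h⟩ := homotopy_of_Q_map_eq_zero S X (φ ≫ a) h0
  obtain ⟨z, hz⟩ := Cochain.equivHomotopy _ _ h
  have hz' : δ (-1) 0 z = Cochain.ofHom (φ ≫ a) := by
    rw [hz, Cochain.ofHom_zero, add_zero]
  let a₀ : mappingCone φ ⟶ X := mappingCone.desc φ z a hz'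
  have ha₀ : mappingCone.inr φ ≫ a₀ = a := mappingCone.inr_desc φ z a hz'
  have hdiff : Q.map (mappingCone.inr φ) ≫ (α' - Q.map a₀) = 0 := by
    rw [Preadditive.comp_sub, hα1, ← Functor.map_comp, ha₀, sub_self]
  obtain ⟨ξ, hξ⟩ := Triangle.yoneda_exact₃ _ hTφ (α' - Q.map a₀) hdiff
  haveI : (S⟦(1 : ℤ)⟧).IsKProjective := inferInstance
  obtain ⟨c, hc⟩ := Groth.Agent.H3.PerfAux.exists_map_of_isKProjective (S⟦(1 : ℤ)⟧) X
    ((Q.commShiftIso (1 : ℤ)).hom.app S ≫ ξ)
  let dl : mappingCone φ ⟶ S⟦(1 : ℤ)⟧ := (mappingCone.triangle φ).mor₃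
  refine ⟨φ, a₀ + dl ≫ c, ?_, ?_⟩
  · rw [Preadditive.comp_add, ha₀]
    have : mappingCone.inr φ ≫ dl = 0 := mappingCone.inr_triangleδ φ
    rw [← Category.assoc, this, zero_comp, add_zero]
  · have ha' : Q.map (a₀ + dl ≫ c) = α' := by
      rw [Functor.map_add, Functor.map_comp, hc]
      have : Q.map dl ≫ (Q.commShiftIso (1 : ℤ)).hom.app S ≫ ξ =
          α' - Q.map a₀ := by
        rw [hξ]
        exact (Category.assoc _ _ _).symm
      rw [this]
      abel
    rw [ha']; exact hwα'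

/-- the inductive step in the construction of a bounded above free resolution. -/
theorem exists_step (X : Cx R) (n b : ℤ)
    (hnb : n ≤ b + 1) (E : Cx R) (hE : IsBAF b E) (hlow : ∀ i : ℤ, i < n → IsZero (E.X i))
    (a : E ⟶ X) (ha : IsWit n (Q.map a)) :
    ∃ (E' : Cx R) (ι : E ⟶ E') (a' : E' ⟶ X), ι ≫ a' = a ∧ IsBAF b E' ∧
      (∀ i : ℤ, i < n - 1 → IsZero (E'.X i)) ∧
      (∀ i : ℤ, n ≤ i → IsIso (ι.f i)) ∧ IsWit (n - 1) (Q.map a') := by
  have hTa := mapTriangle_distinguished a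
  haveI hC : (toD (mappingCone a)).IsLE (n - 1) := (isWit_iff_isLE _ hTa n).1 ha
  haveI : ((toD (mappingCone a))⟦(-1 : ℤ)⟧).IsLE n :=
    TStructure.t.isLE_shift (toD (mappingCone a)) (n - 1) (-1) n (by omega)
  obtain ⟨F, hF, ψ₀, hψ₀⟩ := exists_wit_free ((toD (mappingCone a))⟦(-1 : ℤ)⟧) n
  have hSB : IsBAF n (ProjAmp.sgl F n) := isBAF_sgl F n
  haveI := hSB.isKProjective
  obtain ⟨φ, a', h1, h2⟩ := exists_step_aux X E _ a n ψ₀ hψ₀
  refine ⟨mappingCone φ, mappingCone.inr φ, a', h1, (hSB.mono hnb).cone hE φ, ?_, ?_, h2⟩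
  · intro i hi
    exact Groth.Agent.H3.PerfAux.mappingCone_X_isZero φ i
      (HomologicalComplex.isZero_single_obj_X _ _ _ _ (by omega)) (hlow i (by omega))
  · intro i hi
    refine ⟨(mappingCone.snd φ).v i i (add_zero i), by simp, ?_⟩
    have h1 := mappingCone.id_X φ i (i + 1) rfl
    have h2 : (mappingCone.fst φ).1.v i (i + 1) rfl = 0 :=
      (HomologicalComplex.isZero_single_obj_X _ _ _ _ (by omega)).eq_of_tgt _ _
    rw [h2, zero_comp, zero_add] at h1
    exact h1

end Groth.Agent.H4.ResP
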