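import Mathlib
import Groth.Agent.H4.ResP1
set_option autoImplicit false
universe u
open CategoryTheory CategoryTheory.Limits CategoryTheory.Pretriangulated

namespace Groth.Agent.H4.ResP

attribute [local instance] HasDerivedCategory.standard

variable {R : Type u} [CommRing R]

open DRing DerivedCategory ZeroObject Groth.Agent.H4.PC Groth.Agent.H4.DRing1
open CochainComplex (mappingCone)

/-- stage data in the construction of a resolution. -/
structure Stage (X : Cx R) (b : ℤ) where
  n : ℤ
  hn : n ≤ b + 1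
  E : Cx R
  a : E ⟶ X
  baf : IsBAF b E
  low : ∀ i : ℤ, i < n → IsZero (E.X i)
  wit : IsWit n (Q.map a)

variable {X : Cx R} {b : ℤ}

noncomputable def Stage.init (hb : ∀ i : ℤ, b < i → IsZero ((homologyFunctor (ModuleCat.{u} R) i).obj (toD X))) :
    Stage X b where
  n := b + 1
  hn := le_rfl
  E := 0
  a := 0
  baf := isBAF_zero b
  low := fun i _ => (HomologicalComplex.eval _ _ i).map_isZero (isZero_zero _)
  wit := by
    refine ⟨fun i hi => ?_, ?_⟩
    · have h1 : IsZero ((homologyFunctor (ModuleCat.{u} R) i).obj (toD (0 : Cx R))) :=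
        (homologyFunctor (ModuleCat.{u} R) i).map_isZero (Q.map_isZero (isZero_zero _))
      exact ⟨0, h1.eq_of_src _ _, (hb i (by omega)).eq_of_src _ _⟩
    · exact ⟨fun _ _ _ => (hb (b + 1) (by omega)).eq_of_src _ _⟩

noncomputable def Stage.next (s : Stage X b) : Stage X b where
  n := s.n - 1
  hn := by have := s.hn; omega
  E := (exists_step X s.n b s.hn s.E s.baf s.low s.a s.wit).choose
  a := (exists_step X s.n b s.hn s.E s.baf s.low s.a s.wit).choose_spec.choose_spec.choose
  baf := (exists_step X s.n b s.hn s.E s.baf s.low s.a s.wit).choose_spec.choose_spec.choose_spec.2.1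
  low := (exists_step X s.n b s.hn s.E s.baf s.low s.a s.wit).choose_spec.choose_spec.choose_spec.2.2.1
  wit := (exists_step X s.n b s.hn s.E s.baf s.low s.a s.wit).choose_spec.choose_spec.choose_spec.2.2.2.2

noncomputable def Stage.ι (s : Stage X b) : s.E ⟶ s.next.E :=
  (exists_step X s.n b s.hn s.E s.baf s.low s.a s.wit).choose_spec.choose

lemma Stage.ι_a (s : Stage X b) : s.ι ≫ s.next.a = s.a :=
  (exists_step X s.n b s.hn s.E s.baf s.low s.a s.wit).choose_spec.choose_spec.choose_spec.1

lemma Stage.isIso_ι (s : Stage X b) (i : ℤ) (hi : s.n ≤ i) : IsIso (s.ι.f i) :=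
  (exists_step X s.n b s.hn s.E s.baf s.low s.a s.wit).choose_spec.choose_spec.choose_spec.2.2.2.1 i hi

variable (hb : ∀ i : ℤ, b < i → IsZero ((homologyFunctor (ModuleCat.{u} R) i).obj (toD X)))

noncomputable def st : ℕ → Stage X b
  | 0 => Stage.init hb
  | k + 1 => (st k).next

lemma st_n (k : ℕ) : (st hb k).n = b + 1 - k := by
  induction k with
  | zero => simp [st, Stage.init]
  | succ k ih =>
    change (st hb k).n - 1 = _
    rw [ih]; push_cast; ring

/-- the sequence of complexes -/
noncomputable def seqF : ℕ ⥤ Cx R :=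
  Functor.ofSequence (X := fun k => (st hb k).E) (fun k => (st hb k).ι)

lemma seqF_map_succ (k : ℕ) :
    (seqF hb).map (homOfLE (Nat.le_add_right k 1)) = (st hb k).ι :=
  Functor.ofSequence_map_homOfLE_succ (X := fun k => (st hb k).E)
    (fun k => (st hb k).ι) k

lemma isIso_seqF_map (i : ℤ) (k₀ : ℕ) (hk₀ : b + 1 - k₀ ≤ i) (j : ℕ) (f : k₀ ⟶ j) :
    IsIso (((seqF hb).map f).f i) := by
  obtain ⟨d, rfl⟩ := Nat.exists_eq_add_of_le (leOfHom f)
  obtain rfl := Subsingleton.elim f (homOfLE (by omega))
  induction d with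
  | zero =>
    have : (homOfLE (by omega) : k₀ ⟶ k₀ + 0) = 𝟙 k₀ := Subsingleton.elim _ _
    rw [this, CategoryTheory.Functor.map_id]
    change IsIso (𝟙 _)
    infer_instance
  | succ d ih =>
    have h1 : (homOfLE (by omega) : k₀ ⟶ k₀ + (d + 1)) =
      (homOfLE (by omega) : k₀ ⟶ k₀ + d) ≫ (homOfLE (Nat.le_add_right (k₀ + d) 1)) :=
      Subsingleton.elim _ _
    rw [h1, Functor.map_comp, HomologicalComplex.comp_f]
    haveI := ih
    haveI : IsIso (((seqF hb).map (homOfLE (Nat.le_add_right (k₀ + d) 1))).f i) := by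
      rw [seqF_map_succ]
      refine Stage.isIso_ι _ i ?_
      rw [st_n]; push_cast; omega
    infer_instance

noncomputable def Einf : Cx R := colimit (seqF hb)

noncomputable def cinf (k : ℕ) : (st hb k).E ⟶ Einf hb := colimit.ι (seqF hb) k

noncomputable def coconeX : Cocone (seqF hb) where
  pt := X
  ι := NatTrans.ofSequence (F := seqF hb) (G := (Functor.const ℕ).obj X)
    (fun k => (st hb k).a) (fun k => by
      rw [seqF_map_succ]
      exact (Stage.ι_a (st hb k)).trans (Category.comp_id _).symm)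

noncomputable def ainf : Einf hb ⟶ X := colimit.desc (seqF hb) (coconeX hb)

lemma cinf_ainf (k : ℕ) : cinf hb k ≫ ainf hb = (st hb k).a :=
  colimit.ι_desc (coconeX hb) k

lemma isIso_cinf_f (i : ℤ) (k : ℕ) (hk : b + 1 - k ≤ i) : IsIso ((cinf hb k).f i) := by
  have h : (seqF hb ⋙ HomologicalComplex.eval _ _ i).IsEventuallyConstantFrom k :=
    fun j f => isIso_seqF_map hb i k hk j f
  exact h.isIso_ι_of_isColimit
    (isColimitOfPreserves (HomologicalComplex.eval _ _ i) (colimit.isColimit (seqF hb)))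

lemma Einf_isZero (i : ℤ) (hi : b < i) : IsZero ((Einf hb).X i) := by
  haveI := isIso_cinf_f hb i 0 (by push_cast; omega)
  exact ((st hb 0).baf.1 i hi).of_iso (asIso ((cinf hb 0).f i)).symm

lemma Einf_free (i : ℤ) : Module.Free R ((Einf hb).X i) := by
  set k := (b + 1 - i).toNat with hk
  haveI := isIso_cinf_f hb i k (by have := Int.self_le_toNat (b + 1 - i); omega)
  have e := (asIso ((cinf hb k).f i)).toLinearEquiv
  haveI := (st hb k).baf.2 i
  exact Module.Free.of_equiv e

lemma isBAF_Einf : IsBAF b (Einf hb) := ⟨Einf_isZero hb, Einf_free hb⟩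

lemma quasiIso_ainf : QuasiIso (ainf hb) := by
  rw [quasiIso_iff]
  intro i
  rw [quasiIsoAt_iff_isIso_homologyMap]
  set k := (b + 2 - i).toNat with hk
  have hk' : b + 2 - i ≤ k := Int.self_le_toNat _
  have h1 : IsIso (HomologicalComplex.homologyMap (cinf hb k) i) :=
    isIso_homologyMap_of_isIso_f _ i (isIso_cinf_f hb _ k (by omega))
      (isIso_cinf_f hb _ k (by omega)) (isIso_cinf_f hb _ k (by omega))
  have h2 : IsIso (HomologicalComplex.homologyMap (st hb k).a i) := by
    rw [isIso_homologyMap_iff]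
    refine (st hb k).wit.1 i ?_
    rw [st_n]; omega
  have h3 : HomologicalComplex.homologyMap (cinf hb k) i ≫
      HomologicalComplex.homologyMap (ainf hb) i =
      HomologicalComplex.homologyMap (st hb k).a i := by
    rw [← HomologicalComplex.homologyMap_comp, cinf_ainf]
  exact IsIso.of_isIso_fac_left h3

/-- every complex with cohomology bounded above by `b` admits a quasi-isomorphism from a complex of free
modules vanishing above `b`. -/
theorem exists_quasiIso_of_homology_bounded (X : Cx R) (b : ℤ)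
    (hb : ∀ i : ℤ, b < i → IsZero ((homologyFunctor (ModuleCat.{u} R) i).obj (toD X))) :
    ∃ (P : Cx R) (a : P ⟶ X), IsBAF b P ∧ QuasiIso a :=
  ⟨Einf hb, ainf hb, isBAF_Einf hb, quasiIso_ainf hb⟩

/-- every object of `D^{≤ b}(R)` is represented by a complex of free modules vanishing above `b`. -/
theorem exists_iso_of_isLE (K : Dual.D R) (b : ℤ) [K.IsLE b] :
    ∃ (P : Cx R), IsBAF b P ∧ Nonempty (toD P ≅ K) := by
  let X := Q.objPreimage K
  let e : toD X ≅ K := Q.objObjPreimageIso K
  have hb : ∀ i : ℤ, b < i → IsZero ((homologyFunctor (ModuleCat.{u} R) i).obj (toD X)) := by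
    intro i hi
    haveI : (toD X).IsLE b := TStructure.t.isLE_of_iso e.symm b
    exact isZero_of_isLE _ b i hi
  obtain ⟨P, a, hP, ha⟩ := exists_quasiIso_of_homology_bounded X b hb
  exact ⟨P, hP, ⟨asIso (Q.map a) ≪≫ e⟩⟩

end Groth.Agent.H4.ResP
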