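import Mathlib
import Groth.Agent.H4.KProj1
import Groth.Agent.H4.KProj2
import Groth.Agent.H4.KProj3
import Groth.Agent.H4.ResP2
import Groth.Agent.Lib.Helper2.Telescope3
import Groth.Agent.Lib.Helper2.DCoprod1
import Groth.Agent.Lib.Helper3.PerfAux

set_option autoImplicit false

/-!
# K-projective resolutions of unbounded complexes of modules (telescope construction)
-/

namespace Groth.Agent.H4.KProj

open CategoryTheory Limits Pretriangulated DerLim DerivedCategory
open CochainComplex (mappingCone)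

universe u

attribute [local instance] HasDerivedCategory.standard

variable {R : Type u} [CommRing R]

open DRing

lemma hasExactColimitsOfShape_nat : HasExactColimitsOfShape ℕ (ModuleCat.{u} R) := by
  have h1 : HasFilteredColimitsOfSize.{0, 0} (ModuleCat.{u} R) := ⟨fun J _ _ => inferInstance⟩
  have h2 : AB5OfSize.{0, 0} (ModuleCat.{u} R) := AB5OfSize_of_univLE.{0, 0, u, u} _
  infer_instance

instance hasCoproduct_Q (P : ℕ → Cx R) : HasCoproduct (fun n => Q.obj (P n)) :=
  ⟨⟨⟨_, Groth.Agent.H2.DCoprod.isColimitMapCofan (coproductIsCoproduct P)⟩⟩⟩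

instance preservesColimit_Q (P : ℕ → Cx R) :
    PreservesColimit (Discrete.functor P) (Q : Cx R ⥤ _) := by
  apply preservesColimit_of_preserves_colimit_cocone (coproductIsCoproduct P)
  exact (isColimitMapCoconeCofanMkEquiv _ _ _).symm
    (Groth.Agent.H2.DCoprod.isColimitMapCofan (coproductIsCoproduct P))

section Tel

variable (P : ℕ → Cx R) (g : ∀ n, P n ⟶ P (n + 1))

/-- the telescope of a sequence of complexes. -/
noncomputable def tel : Cx R := mappingCone (𝟙 (∐ P) - shiftMap P g)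

instance isKProjective_tel [∀ n, (P n).IsKProjective] : (tel P g).IsKProjective := by
  dsimp only [tel]
  infer_instance

/-- the maps to the telescope. -/
noncomputable def telι (n : ℕ) : P n ⟶ tel P g :=
  Sigma.ι P n ≫ mappingCone.inr _

theorem isHocolim_tel :
    IsHocolim (fun n => Q.obj (P n)) (fun n => Q.map (g n)) (Q.obj (tel P g))
      (fun n => Q.map (telι P g n)) := by
  show IsHocolim _ _ (Q.obj (mappingCone (𝟙 (∐ P) - shiftMap P g)))
    (fun n => Q.map (Sigma.ι P n ≫ mappingCone.inr (𝟙 (∐ P) - shiftMap P g)))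
  let φ : (∐ P) ⟶ ∐ P := 𝟙 (∐ P) - shiftMap P g
  have hT : Q.mapTriangle.obj (CochainComplex.mappingCone.triangle φ) ∈ distTriang _ := by
    rw [DerivedCategory.mem_distTriang_iff]
    exact ⟨_, _, φ, ⟨Iso.refl _⟩⟩
  let e : (∐ fun n => Q.obj (P n)) ≅ Q.obj (∐ P) := (PreservesCoproduct.iso Q P).symm
  have he : ∀ n, Sigma.ι (fun n => Q.obj (P n)) n ≫ e.hom = Q.map (Sigma.ι P n) := by
    intro n
    simp [e]
  have h1 : (𝟙 (∐ fun n => Q.obj (P n)) - shiftMap (fun n => Q.obj (P n))
      (fun n => Q.map (g n))) ≫ e.hom = e.hom ≫ Q.map φ := by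
    apply Sigma.hom_ext
    intro n
    dsimp only [φ]
    rw [Preadditive.sub_comp, Preadditive.comp_sub, Category.id_comp, ← Category.assoc,
      ← Category.assoc, Groth.Agent.H2.Telescope.ι_shiftMap, he, Category.assoc, he,
      ← Q.map_comp, ← Q.map_comp, ← Q.map_sub]
    congr 1
    rw [Preadditive.comp_sub, Category.comp_id, Groth.Agent.H2.Telescope.ι_shiftMap]
  have h2 : Sigma.desc (fun n => Q.map (Sigma.ι P n ≫ mappingCone.inr φ)) ≫ 𝟙 _ =
      e.hom ≫ Q.map (mappingCone.inr φ) := by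
    apply Sigma.hom_ext
    intro n
    rw [Category.comp_id, Sigma.ι_desc, ← Category.assoc, he, ← Q.map_comp]
  let δ : Q.obj (mappingCone φ) ⟶ (Q.obj (∐ P))⟦(1 : ℤ)⟧ :=
    (Q.mapTriangle.obj (CochainComplex.mappingCone.triangle φ)).mor₃
  have h3 : (δ ≫ e.inv⟦(1 : ℤ)⟧') ≫ e.hom⟦(1 : ℤ)⟧' = 𝟙 _ ≫ δ := by
    rw [Category.id_comp, Category.assoc, ← Functor.map_comp, e.inv_hom_id,
      CategoryTheory.Functor.map_id, Category.comp_id]
  refine ⟨δ ≫ e.inv⟦(1 : ℤ)⟧', ?_⟩
  refine isomorphic_distinguished _ hT _ ?_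
  exact Triangle.isoMk _ _ e e (Iso.refl _) h1 h2 h3

end Tel

/-- **Spaltenstein**: every complex of modules admits a K-projective resolution. -/
theorem exists_kproj (X : Cx R) : ∃ (T : Cx R) (a : T ⟶ X), T.IsKProjective ∧ QuasiIso a := by
  haveI := hasExactColimitsOfShape_nat (R := R)
  let L := tower X
  have hb : ∀ (n : ℕ) (i : ℤ), (n : ℤ) < i →
      IsZero ((homologyFunctor (ModuleCat.{u} R) i).obj (toD (L.obj n))) := fun n i hi =>
    Groth.Agent.H4.PC.isZero_homology_toD_of_isZero _ i (isZero_tr_X X hi)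
  have hex : ∀ n : ℕ, ∃ (P : Cx R) (a : P ⟶ L.obj n), ResP.IsBAF (n : ℤ) P ∧ QuasiIso a :=
    fun n => ResP.exists_quasiIso_of_homology_bounded (L.obj n) n (hb n)
  choose P a hP ha using hex
  haveI : ∀ n, (P n).IsKProjective := fun n => (hP n).isKProjective
  haveI : ∀ n, QuasiIso (a n) := ha
  have hg : ∀ n : ℕ, ∃ g : P n ⟶ P (n + 1), Q.map g =
      Q.map (a n) ≫ Q.map (L.map (homOfLE (Nat.le_succ n))) ≫ inv (Q.map (a (n + 1))) :=
    fun n => Groth.Agent.H3.PerfAux.exists_map_of_isKProjective _ _ _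
  choose g hg using hg
  have h1 := isHocolim_tel P g
  have h2 := Groth.Agent.H2.Telescope.isHocolim_of_colimit L
  obtain ⟨φ, -⟩ := exists_iso_of_isHocolim_of_iso (fun n => asIso (Q.map (a n)))
    (fun n => by
      dsimp only [asIso_hom]
      rw [hg n, Category.assoc, Category.assoc, IsIso.inv_hom_id, Category.comp_id]) h1 h2
  let ψ : colimit L ≅ X := (colimit.isColimit L).coconePointUniqueUpToIso (isColimitTowerCocone X)
  obtain ⟨b, hb'⟩ := Groth.Agent.H3.PerfAux.exists_map_of_isKProjective (tel P g) X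
    (φ.hom ≫ Q.map ψ.hom)
  refine ⟨tel P g, b, inferInstance, ?_⟩
  rw [← DerivedCategory.isIso_Q_map_iff_quasiIso, hb']
  infer_instance

/-- every object of `D(R)` is represented by a K-projective complex. -/
theorem exists_kproj_iso (K : Dual.D R) : ∃ T : Cx R, T.IsKProjective ∧ Nonempty (toD T ≅ K) := by
  obtain ⟨T, a, hT, ha⟩ := exists_kproj (Q.objPreimage K)
  exact ⟨T, hT, ⟨asIso (Q.map a) ≪≫ Q.objObjPreimageIso K⟩⟩

end Groth.Agent.H4.KProj
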