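import Mathlib
import Groth.Agent.Lib.Helper2.DCoprod1

/-!
# The counit of a left derived functor is invertible on "left-local" objects

`L : C ⥤ D` a localization functor for `W`, `F : C ⥤ H`, `(LF, ε)` a left derived functor.  If `P : C` is such
that `L.map : (P ⟶ Y) → (L.obj P ⟶ L.obj Y)` is bijective for every `Y`, and `H` has the relevant copowers,
then `ε.app P` is an isomorphism.
-/

namespace Groth.Agent.H4.LDer

open CategoryTheory Limits

universe v₁ v₂ v₃ u₁ u₂ u₃

section Abstract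

variable {C : Type u₁} {D : Type u₂} {H : Type u₃} [Category.{v₁} C] [Category.{v₂} D] [Category.{v₃} H]

/-- the copower functor `X ↦ ∐_{A ⟶ X} Z` -/
noncomputable def cop (A : D) (Z : H) [∀ X : D, HasCoproduct (fun (_ : A ⟶ X) => Z)] : D ⥤ H where
  obj X := ∐ (fun (_ : A ⟶ X) => Z)
  map {X X'} g := Sigma.desc (fun φ => Sigma.ι (fun (_ : A ⟶ X') => Z) (φ ≫ g))
  map_id X := by
    apply Sigma.hom_ext
    intro φ
    simp
  map_comp f g := by
    apply Sigma.hom_ext
    intro φ
    simp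

/-- the coprojections of the copower -/
noncomputable def copι (A : D) (Z : H) [∀ X : D, HasCoproduct (fun (_ : A ⟶ X) => Z)] {X : D} (φ : A ⟶ X) :
    Z ⟶ (cop A Z).obj X := Sigma.ι (fun (_ : A ⟶ X) => Z) φ

lemma cop_hom_ext (A : D) (Z : H) [∀ X : D, HasCoproduct (fun (_ : A ⟶ X) => Z)] {X : D} {T : H}
    {f g : (cop A Z).obj X ⟶ T} (h : ∀ φ : A ⟶ X, copι A Z φ ≫ f = copι A Z φ ≫ g) : f = g :=
  Sigma.hom_ext _ _ h

@[reassoc (attr := simp)]
lemma copι_map (A : D) (Z : H) [∀ X : D, HasCoproduct (fun (_ : A ⟶ X) => Z)] {X X' : D} (φ : A ⟶ X)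
    (g : X ⟶ X') : copι A Z φ ≫ (cop A Z).map g = copι A Z (φ ≫ g) := by
  simp [copι, cop]

/-- functoriality of the copower in `Z` -/
noncomputable def copMap (A : D) {Z Z' : H} (z : Z ⟶ Z')
    [∀ X : D, HasCoproduct (fun (_ : A ⟶ X) => Z)] [∀ X : D, HasCoproduct (fun (_ : A ⟶ X) => Z')] :
    cop A Z ⟶ cop A Z' where
  app X := Limits.Sigma.map (fun _ => z)
  naturality X X' g := by
    apply Sigma.hom_ext
    intro φ
    simp [cop]

@[reassoc (attr := simp)]
lemma copι_copMap (A : D) {Z Z' : H} (z : Z ⟶ Z')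
    [∀ X : D, HasCoproduct (fun (_ : A ⟶ X) => Z)] [∀ X : D, HasCoproduct (fun (_ : A ⟶ X) => Z')]
    {X : D} (φ : A ⟶ X) : copι A Z φ ≫ (copMap A z).app X = z ≫ copι A Z' φ :=
  Sigma.ι_map (f := fun (_ : A ⟶ X) => Z) (g := fun (_ : A ⟶ X) => Z') (fun _ => z) φ

/-- the evaluation `∐_{A ⟶ X} G A ⟶ G X` -/
noncomputable def copEv (A : D) (G : D ⥤ H)
    [∀ X : D, HasCoproduct (fun (_ : A ⟶ X) => G.obj A)] : cop A (G.obj A) ⟶ G where
  app X := Sigma.desc (fun φ => G.map φ)
  naturality X X' g := by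
    apply Sigma.hom_ext
    intro φ
    simp [cop]

@[reassoc (attr := simp)]
lemma copι_copEv (A : D) (G : D ⥤ H)
    [∀ X : D, HasCoproduct (fun (_ : A ⟶ X) => G.obj A)] {X : D} (φ : A ⟶ X) :
    copι A (G.obj A) φ ≫ (copEv A G).app X = G.map φ :=
  Sigma.ι_desc (f := fun (_ : A ⟶ X) => G.obj A) (fun φ => G.map φ) φ

variable {L : C ⥤ D} {F : C ⥤ H} {LF : D ⥤ H} (ε : L ⋙ LF ⟶ F) (W : MorphismProperty C)
  [L.IsLocalization W] [LF.IsLeftDerivedFunctor ε W]
  (P : C) (hP : ∀ Y : C, Function.Bijective (L.map : (P ⟶ Y) → (L.obj P ⟶ L.obj Y)))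

/-- preimage under `L.map` -/
noncomputable def pre {Y : C} (φ : L.obj P ⟶ L.obj Y) : P ⟶ Y := (Equiv.ofBijective _ (hP Y)).symm φ

lemma map_pre {Y : C} (φ : L.obj P ⟶ L.obj Y) : L.map (pre P hP φ) = φ :=
  (Equiv.ofBijective _ (hP Y)).apply_symm_apply φ

lemma pre_map {Y : C} (f : P ⟶ Y) : pre P hP (L.map f) = f :=
  (Equiv.ofBijective _ (hP Y)).symm_apply_apply f

lemma pre_comp {Y Y' : C} (φ : L.obj P ⟶ L.obj Y) (f : Y ⟶ Y') :
    pre P hP (φ ≫ L.map f) = pre P hP φ ≫ f := by
  apply (hP Y').1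
  rw [map_pre, L.map_comp, map_pre]

variable [∀ X : D, HasCoproduct (fun (_ : L.obj P ⟶ X) => F.obj P)]

/-- the natural transformation `L ⋙ cop (L P) (F P) ⟶ F` -/
noncomputable def beta : L ⋙ cop (L.obj P) (F.obj P) ⟶ F where
  app Y := Sigma.desc (fun φ => F.map (pre P hP φ))
  naturality Y Y' f := by
    apply Sigma.hom_ext
    intro φ
    simp [cop, pre_comp]

@[reassoc (attr := simp)]
lemma copι_beta {Y : C} (φ : L.obj P ⟶ L.obj Y) :
    copι (L.obj P) (F.obj P) φ ≫ (beta (L := L) (F := F) P hP).app Y = F.map (pre P hP φ) :=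
  Sigma.ι_desc (f := fun (_ : L.obj P ⟶ L.obj Y) => F.obj P) (fun φ => F.map (pre P hP φ)) φ

/-- the induced transformation to the derived functor -/
noncomputable def theta : cop (L.obj P) (F.obj P) ⟶ LF :=
  LF.leftDerivedLift ε W _ (beta (L := L) (F := F) P hP)

@[reassoc]
lemma theta_fac (Y : C) : (theta ε W P hP).app (L.obj Y) ≫ ε.app Y = (beta (L := L) (F := F) P hP).app Y :=
  LF.leftDerived_fac_app ε W _ _ Y

/-- the section of the counit -/
noncomputable def sec : F.obj P ⟶ LF.obj (L.obj P) :=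
  copι (L.obj P) (F.obj P) (𝟙 _) ≫ (theta ε W P hP).app (L.obj P)

lemma sec_comp : sec ε W P hP ≫ ε.app P = 𝟙 _ := by
  unfold sec
  rw [Category.assoc, theta_fac, copι_beta]
  have : pre P hP (𝟙 (L.obj P)) = 𝟙 P := by
    rw [← L.map_id, pre_map]
  rw [this, F.map_id]

variable [∀ X : D, HasCoproduct (fun (_ : L.obj P ⟶ X) => LF.obj (L.obj P))]

lemma copEv_eq :
    copEv (L.obj P) LF = copMap (L.obj P) (Z := LF.obj (L.obj P)) (ε.app P) ≫ theta ε W P hP := by
  apply LF.leftDerived_ext ε W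
  ext Y
  apply cop_hom_ext
  intro φ
  simp only [NatTrans.comp_app, Functor.whiskerLeft_app, Category.assoc, theta_fac]
  rw [copι_copEv_assoc, copι_copMap_assoc, copι_beta]
  have h := ε.naturality (pre P hP φ)
  simp only [Functor.comp_map, map_pre] at h
  exact h

lemma comp_sec : ε.app P ≫ sec ε W P hP = 𝟙 _ := by
  have h := congrArg (fun τ => copι (L.obj P) (LF.obj (L.obj P)) (𝟙 _) ≫
    NatTrans.app τ (L.obj P)) (copEv_eq ε W P hP)
  simp only [NatTrans.comp_app, copι_copEv, copι_copMap_assoc] at h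
  rw [LF.map_id] at h
  exact h.symm

include W hP in
theorem isIso_counit_app : IsIso (ε.app P) :=
  ⟨sec ε W P hP, comp_sec ε W P hP, sec_comp ε W P hP⟩

end Abstract

section Concrete

open DerivedCategory

universe u w

attribute [local instance] HasDerivedCategory.standard

lemma hasCoproduct_of_small {H : Type u₃} [Category.{v₃} H] [HasCoproducts.{u} H]
    {J : Type w} [Small.{u} J] (f : J → H) : HasCoproduct f := by
  haveI : HasColimitsOfShape (Discrete (Shrink.{u} J)) H := inferInstance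
  haveI : HasColimitsOfShape (Discrete J) H :=
    hasColimitsOfShape_of_equivalence (Discrete.equivalence (equivShrink.{u} J).symm)
  infer_instance

instance hasCoproducts_D (B : Type u) [Ring B] : HasCoproducts.{u} (DerivedCategory (ModuleCat.{u} B)) :=
  fun J => Groth.Agent.H2.DCoprod.hasColimitsOfShape_discrete (ModuleCat.{u} B) J

variable {A : Type u} [Ring A]

instance small_hom_of_isKProjective (E : CochainComplex (ModuleCat.{u} A) ℤ) [E.IsKProjective]
    (X : DerivedCategory (ModuleCat.{u} A)) :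
    Small.{u} (Qh.obj ((HomotopyCategory.quotient _ _).obj E) ⟶ X) := by
  let Y := Qh.objPreimage X
  let e : Qh.obj Y ≅ X := Qh.objObjPreimageIso X
  let f : ((HomotopyCategory.quotient _ _).obj E ⟶ Y) → (Qh.obj ((HomotopyCategory.quotient _ _).obj E) ⟶ X) :=
    fun g => Qh.map g ≫ e.hom
  have hf : Function.Surjective f := by
    intro φ
    obtain ⟨g, hg⟩ := (CochainComplex.IsKProjective.Qh_map_bijective E Y).2 (φ ≫ e.inv)
    exact ⟨g, by simp [f, hg]⟩
  exact small_of_surjective hf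

/-- The counit of a total left derived functor (w.r.t. quasi-isomorphisms) is an isomorphism on
K-projective complexes. -/
theorem isIso_counit_of_isKProjective {H : Type u₃} [Category.{v₃} H] [HasCoproducts.{u} H]
    (Fh : HomotopyCategory (ModuleCat.{u} A) (ComplexShape.up ℤ) ⥤ H)
    {LF : DerivedCategory (ModuleCat.{u} A) ⥤ H} (ε : Qh ⋙ LF ⟶ Fh)
    [LF.IsLeftDerivedFunctor ε (HomotopyCategory.quasiIso (ModuleCat.{u} A) (ComplexShape.up ℤ))]
    (E : CochainComplex (ModuleCat.{u} A) ℤ) [E.IsKProjective] :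
    IsIso (ε.app ((HomotopyCategory.quotient _ _).obj E)) := by
  haveI : ∀ X : DerivedCategory (ModuleCat.{u} A), HasCoproduct
      (fun (_ : Qh.obj ((HomotopyCategory.quotient _ _).obj E) ⟶ X) =>
        Fh.obj ((HomotopyCategory.quotient _ _).obj E)) := fun X => hasCoproduct_of_small.{_, _, u} _
  haveI : ∀ X : DerivedCategory (ModuleCat.{u} A), HasCoproduct
      (fun (_ : Qh.obj ((HomotopyCategory.quotient _ _).obj E) ⟶ X) =>
        LF.obj (Qh.obj ((HomotopyCategory.quotient _ _).obj E))) := fun X => hasCoproduct_of_small.{_, _, u} _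
  exact isIso_counit_app ε (HomotopyCategory.quasiIso (ModuleCat.{u} A) (ComplexShape.up ℤ))
    ((HomotopyCategory.quotient _ _).obj E)
    (fun Y => CochainComplex.IsKProjective.Qh_map_bijective E Y)

end Concrete

end Groth.Agent.H4.LDer
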