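import Mathlib
import Groth.Agent.H4.LDer1
set_option autoImplicit false
universe u
open CategoryTheory CategoryTheory.Limits

/-!
# Left derived functors of termwise-applied additive functors between module categories:
values on K-projective complexes
-/

namespace Groth.Agent.H4.LDer

attribute [local instance] HasDerivedCategory.standard

open DerivedCategory

variable {A B : Type u} [CommRing A] [CommRing B] (G : ModuleCat.{u} A ⥤ ModuleCat.{u} B) [G.Additive]

/-- the functor `K(A) ⥤ D(B)` induced by `G` -/
noncomputable abbrev Gh : HomotopyCategory (ModuleCat.{u} A) (ComplexShape.up ℤ) ⥤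
    DerivedCategory (ModuleCat.{u} B) :=
  G.mapHomotopyCategory (ComplexShape.up ℤ) ⋙ Qh

variable (A) in
/-- quasi-isomorphisms in the homotopy category -/
abbrev WA : MorphismProperty (HomotopyCategory (ModuleCat.{u} A) (ComplexShape.up ℤ)) :=
  HomotopyCategory.quasiIso (ModuleCat.{u} A) (ComplexShape.up ℤ)

variable [(Gh G).HasLeftDerivedFunctor (WA A)]

/-- the total left derived functor -/
noncomputable abbrev LG : DerivedCategory (ModuleCat.{u} A) ⥤ DerivedCategory (ModuleCat.{u} B) :=
  (Gh G).totalLeftDerived Qh (WA A)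

/-- its counit -/
noncomputable abbrev cou : Qh ⋙ LG G ⟶ Gh G := (Gh G).totalLeftDerivedCounit Qh (WA A)

/-- `G` applied termwise to complexes -/
noncomputable abbrev GC : CochainComplex (ModuleCat.{u} A) ℤ ⥤ CochainComplex (ModuleCat.{u} B) ℤ :=
  G.mapHomologicalComplex (ComplexShape.up ℤ)

/-- the comparison `LG (Q E) ⟶ Q (G E)`, natural in the complex `E`. -/
noncomputable def gam : Q ⋙ LG G ⟶ GC G ⋙ Q :=
  Functor.whiskerRight (quotientCompQhIso (ModuleCat.{u} A)).inv (LG G) ≫
    (Functor.associator _ _ _).hom ≫
    Functor.whiskerLeft (HomotopyCategory.quotient _ _) (cou G) ≫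
    (Functor.associator _ _ _).inv ≫
    Functor.whiskerRight (G.mapHomotopyCategoryFactors (ComplexShape.up ℤ)).hom Qh ≫
    (Functor.associator _ _ _).hom ≫
    Functor.whiskerLeft (GC G) (quotientCompQhIso (ModuleCat.{u} B)).hom

lemma gam_app (E : CochainComplex (ModuleCat.{u} A) ℤ) :
    (gam G).app E = (LG G).map ((quotientCompQhIso (ModuleCat.{u} A)).inv.app E) ≫
      (cou G).app ((HomotopyCategory.quotient _ _).obj E) ≫
      Qh.map ((G.mapHomotopyCategoryFactors (ComplexShape.up ℤ)).hom.app E) ≫
      (quotientCompQhIso (ModuleCat.{u} B)).hom.app ((GC G).obj E) := by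
  simp [gam]

instance isIso_gam_app (E : CochainComplex (ModuleCat.{u} A) ℤ) [E.IsKProjective] :
    IsIso ((gam G).app E) := by
  rw [gam_app]
  haveI : IsIso ((cou G).app ((HomotopyCategory.quotient _ _).obj E)) :=
    isIso_counit_of_isKProjective (Gh G) (cou G) E
  infer_instance

@[reassoc]
lemma gam_naturality {E E' : CochainComplex (ModuleCat.{u} A) ℤ} (f : E ⟶ E') :
    (LG G).map (Q.map f) ≫ (gam G).app E' = (gam G).app E ≫ Q.map ((GC G).map f) :=
  (gam G).naturality f

/-- the value of the derived functor on a K-projective complex. -/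
noncomputable def isoOfKProj (E : CochainComplex (ModuleCat.{u} A) ℤ) [E.IsKProjective] :
    (LG G).obj (Q.obj E) ≅ Q.obj ((GC G).obj E) := asIso ((gam G).app E)

/-- the value of the derived functor on an object represented by a K-projective complex. -/
noncomputable def isoOfIso (E : CochainComplex (ModuleCat.{u} A) ℤ) [E.IsKProjective]
    {K : DerivedCategory (ModuleCat.{u} A)} (e : Q.obj E ≅ K) :
    (LG G).obj K ≅ Q.obj ((GC G).obj E) := (LG G).mapIso e.symm ≪≫ isoOfKProj G E

end Groth.Agent.H4.LDer
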