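import Mathlib
import Groth.Agent.H4.KProj4
import Groth.Agent.H4.LDer2
import Groth.Prelude.Def_DDual2

set_option autoImplicit false

/-!
# Left derived functors on `D(R)` exist (via K-projective resolutions)
-/

namespace Groth.Agent.H4.KProj

open CategoryTheory Limits DerivedCategory

universe w v v' u u'

section General

variable {A : Type u} [Category.{v} A] [Abelian A] [HasDerivedCategory.{w} A]
variable {H : Type u'} [Category.{v'} H]
  (F : HomotopyCategory A (ComplexShape.up ℤ) ⥤ H)

/-- For a K-projective complex `P`, the identity is an initial object of the category of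
objects of `K(A)` under `P` in `D(A)`. -/
noncomputable def isInitialMkId (P : CochainComplex A ℤ) [P.IsKProjective] :
    IsInitial (StructuredArrow.mk
      (𝟙 (DerivedCategory.Qh.obj ((HomotopyCategory.quotient A (ComplexShape.up ℤ)).obj P))) :
      StructuredArrow
        (DerivedCategory.Qh.obj ((HomotopyCategory.quotient A (ComplexShape.up ℤ)).obj P))
        DerivedCategory.Qh) := by
  have hbij := fun K => CochainComplex.IsKProjective.Qh_map_bijective P K
  have hg : ∀ X : StructuredArrow
      (DerivedCategory.Qh.obj ((HomotopyCategory.quotient A (ComplexShape.up ℤ)).obj P))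
      DerivedCategory.Qh,
      ∃ g : (HomotopyCategory.quotient A (ComplexShape.up ℤ)).obj P ⟶ X.right,
        DerivedCategory.Qh.map g = X.hom := fun X => (hbij X.right).2 X.hom
  choose g hg using hg
  refine IsInitial.ofUniqueHom
    (fun X => StructuredArrow.homMk (g X) ?_) ?_
  · dsimp
    rw [hg, Category.id_comp]
  · intro X m
    apply StructuredArrow.hom_ext
    change m.right = g X
    apply (hbij X.right).1
    rw [hg]
    have := StructuredArrow.w m
    dsimp at this
    rw [Category.id_comp] at this
    exact this

lemma hasPointwiseAt_of_isKProjective (P : CochainComplex A ℤ) [P.IsKProjective] :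
    F.HasPointwiseLeftDerivedFunctorAt (HomotopyCategory.quasiIso A (ComplexShape.up ℤ))
      ((HomotopyCategory.quotient A (ComplexShape.up ℤ)).obj P) := by
  rw [F.hasPointwiseLeftDerivedFunctorAt_iff DerivedCategory.Qh
    (HomotopyCategory.quasiIso A (ComplexShape.up ℤ))]
  exact ⟨⟨_, limitOfDiagramInitial (isInitialMkId P) _⟩⟩

lemma hasPointwise
    (hK : ∀ K : CochainComplex A ℤ, ∃ (P : CochainComplex A ℤ) (f : P ⟶ K),
      P.IsKProjective ∧ QuasiIso f) :
    F.HasPointwiseLeftDerivedFunctor (HomotopyCategory.quasiIso A (ComplexShape.up ℤ)) := by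
  intro K'
  obtain ⟨K, rfl⟩ := HomotopyCategory.quotient_obj_surjective K'
  obtain ⟨P, f, hP, hf⟩ := hK K
  rw [← F.hasPointwiseLeftDerivedFunctorAt_iff_of_mem
    (HomotopyCategory.quasiIso A (ComplexShape.up ℤ))
    ((HomotopyCategory.quotient A (ComplexShape.up ℤ)).map f)
    ((HomotopyCategory.quotient_map_mem_quasiIso_iff f).2 hf)]
  exact hasPointwiseAt_of_isKProjective F P

end General

attribute [local instance] HasDerivedCategory.standard

variable {R : Type u} [CommRing R]

/-- every functor out of `K(R)` has a total left derived functor. -/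
theorem hasLeftDerivedFunctor {H : Type u'} [Category.{v'} H]
    (F : HomotopyCategory (ModuleCat.{u} R) (ComplexShape.up ℤ) ⥤ H) :
    F.HasLeftDerivedFunctor (HomotopyCategory.quasiIso (ModuleCat.{u} R) (ComplexShape.up ℤ)) := by
  haveI := hasPointwise F (fun K => exists_kproj K)
  infer_instance

/-- the derived tensor product with a module exists. -/
theorem hasLTensor (M : ModuleCat.{u} R) : DRing.HasLTensor R M := hasLeftDerivedFunctor _

/-- derived base change exists. -/
theorem hasLBaseChange {B : Type u} [CommRing B] (φ : R →+* B) : DRing.HasLBaseChange φ :=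
  hasLeftDerivedFunctor _

end Groth.Agent.H4.KProj
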