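import Mathlib
import Groth.Agent.Lib.Helper2.CAlgA
set_option autoImplicit false
universe u
open TensorProduct

/-!
# Tensoring bounded above exact complexes of flat modules (module-level lemmas)
-/

namespace Groth.Agent.H4.FlatAcyc

variable {R : Type u} [CommRing R]
variable {C₀ C₁ C₂ C₃ : Type u} [AddCommGroup C₀] [Module R C₀] [AddCommGroup C₁] [Module R C₁]
  [AddCommGroup C₂] [Module R C₂] [AddCommGroup C₃] [Module R C₃]

/-- `0 → range d₁ → C₂ → range d₂ → 0` with `C₂` and `range d₂` flat : `range d₁` is flat. -/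
lemma flat_range (d₁ : C₁ →ₗ[R] C₂) (d₂ : C₂ →ₗ[R] C₃) (h : Function.Exact d₁ d₂)
    [Module.Flat R C₂] [Module.Flat R (LinearMap.range d₂)] : Module.Flat R (LinearMap.range d₁) := by
  refine (Groth.Agent.H2.CAlgA.flat_of_ses (LinearMap.range d₁).subtype d₂.rangeRestrict
    (Submodule.subtype_injective _) ?_ d₂.surjective_rangeRestrict).2 inferInstance
  intro y
  constructor
  · intro hy
    have : d₂ y = 0 := congrArg Subtype.val hy
    obtain ⟨x, hx⟩ := (h y).1 this
    exact ⟨⟨y, ⟨x, hx⟩⟩, rfl⟩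
  · rintro ⟨⟨_, ⟨x, rfl⟩⟩, rfl⟩
    apply Subtype.ext
    exact (h _).2 ⟨x, rfl⟩

/-- the injectivity of `range d₁ ⊗ N → C₂ ⊗ N` when `range d₂` is flat. -/
lemma lTensor_subtype_injective (d₁ : C₁ →ₗ[R] C₂) (d₂ : C₂ →ₗ[R] C₃) (h : Function.Exact d₁ d₂)
    [Module.Flat R (LinearMap.range d₂)] (N : Type u) [AddCommGroup N] [Module R N] :
    Function.Injective ((LinearMap.range d₁).subtype.lTensor N) := by
  refine LinearMap.lTensor_injective_of_exact_of_flat d₂.rangeRestrict d₂.surjective_rangeRestrict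
    (LinearMap.range d₁).subtype (Submodule.subtype_injective _) ?_ N
  intro y
  constructor
  · intro hy
    have : d₂ y = 0 := congrArg Subtype.val hy
    obtain ⟨x, hx⟩ := (h y).1 this
    exact ⟨⟨y, ⟨x, hx⟩⟩, rfl⟩
  · rintro ⟨⟨_, ⟨x, rfl⟩⟩, rfl⟩
    apply Subtype.ext
    exact (h _).2 ⟨x, rfl⟩

/-- exactness of `C₀ ⊗ N → C₁ ⊗ N → C₂ ⊗ N`. -/
lemma lTensor_exact_of_flat_range (d₀ : C₀ →ₗ[R] C₁) (d₁ : C₁ →ₗ[R] C₂) (d₂ : C₂ →ₗ[R] C₃)
    (h₁ : Function.Exact d₀ d₁) (h₂ : Function.Exact d₁ d₂)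
    [Module.Flat R (LinearMap.range d₂)] (N : Type u) [AddCommGroup N] [Module R N] :
    Function.Exact (d₀.lTensor N) (d₁.lTensor N) := by
  have hinj := lTensor_subtype_injective d₁ d₂ h₂ N
  -- `d₁ = ι ∘ q`
  have hd₁ : d₁ = (LinearMap.range d₁).subtype ∘ₗ d₁.rangeRestrict := by
    ext x; rfl
  have hq : Function.Surjective d₁.rangeRestrict := d₁.surjective_rangeRestrict
  have hex : Function.Exact d₀ d₁.rangeRestrict := by
    intro y
    rw [← h₁ y]
    constructor
    · intro hy; exact congrArg Subtype.val hy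
    · intro hy; exact Subtype.ext hy
  have hex' := lTensor_exact N hex hq
  intro y
  constructor
  · intro hy
    rw [hd₁, LinearMap.lTensor_comp, LinearMap.comp_apply] at hy
    have : (d₁.rangeRestrict.lTensor N) y = 0 := hinj (by rw [hy, map_zero])
    exact (hex' y).1 this
  · rintro ⟨x, rfl⟩
    rw [← LinearMap.comp_apply, ← LinearMap.lTensor_comp, h₁.linearMap_comp_eq_zero,
      LinearMap.lTensor_zero, LinearMap.zero_apply]

end Groth.Agent.H4.FlatAcyc
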