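import Mathlib
import Groth.Agent.H4.FlatAcyc1
import Groth.Prelude.Def_DRing2
set_option autoImplicit false
universe u
open CategoryTheory CategoryTheory.Limits TensorProduct

/-!
# Tensoring bounded above complexes of flat modules which are exact in high degrees
-/

namespace Groth.Agent.H4.FlatAcyc

open DRing

variable {R : Type u} [CommRing R] (C : Cx R)

lemma exact_d_of_exactAt (i j k : ℤ) (hij : i + 1 = j) (hjk : j + 1 = k) (h : C.ExactAt j) :
    Function.Exact (C.d i j).hom (C.d j k).hom := by
  rw [HomologicalComplex.exactAt_iff' C i j k (by simp; omega) (by simp; omega)] at h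
  exact (ShortComplex.ShortExact.moduleCat_exact_iff_function_exact _).1 h

lemma exactAt_of_exact_d (i j k : ℤ) (hij : i + 1 = j) (hjk : j + 1 = k)
    (h : Function.Exact (C.d i j).hom (C.d j k).hom) : C.ExactAt j := by
  rw [HomologicalComplex.exactAt_iff' C i j k (by simp; omega) (by simp; omega)]
  exact (ShortComplex.ShortExact.moduleCat_exact_iff_function_exact _).2 h

variable (b m : ℤ) (hb : ∀ i : ℤ, b < i → IsZero (C.X i)) (hflat : ∀ i : ℤ, Module.Flat R (C.X i))
  (hex : ∀ i : ℤ, m ≤ i → C.ExactAt i)

include hb hflat hex in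
lemma flat_range_d (n : ℕ) : ∀ (i j : ℤ), i + 1 = j → m ≤ j → b < j + n →
    Module.Flat R (LinearMap.range (C.d i j).hom) := by
  induction n with
  | zero =>
    intro i j hij hj hbj
    haveI := ModuleCat.subsingleton_of_isZero (hb j (by simpa using hbj))
    infer_instance
  | succ n ih =>
    intro i j hij hj hbj
    haveI := hflat j
    haveI := ih j (j + 1) rfl (by omega) (by push_cast at hbj ⊢; omega)
    exact flat_range (C.d i j).hom (C.d j (j + 1)).hom
      (exact_d_of_exactAt C i j (j + 1) hij rfl (hex j hj))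

include hb hflat hex in
lemma flat_range_d' (i j : ℤ) (hij : i + 1 = j) (hj : m ≤ j) :
    Module.Flat R (LinearMap.range (C.d i j).hom) :=
  flat_range_d C b m hb hflat hex (b + 1 - j).toNat i j hij hj (by
    have := Int.self_le_toNat (b + 1 - j); omega)

include hb hflat hex in
lemma lTensor_exact_d (N : Type u) [AddCommGroup N] [Module R N] (i j k : ℤ) (hij : i + 1 = j)
    (hjk : j + 1 = k) (hj : m ≤ j) :
    Function.Exact ((C.d i j).hom.lTensor N) ((C.d j k).hom.lTensor N) := by
  haveI := flat_range_d' C b m hb hflat hex k (k + 1) rfl (by omega)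
  exact lTensor_exact_of_flat_range (C.d i j).hom (C.d j k).hom (C.d k (k + 1)).hom
    (exact_d_of_exactAt C i j k hij hjk (hex j hj))
    (exact_d_of_exactAt C j k (k + 1) hjk rfl (hex k (by omega))) N

omit C in
lemma comm_rTensor {M M' : Type u} [AddCommGroup M] [Module R M] [AddCommGroup M'] [Module R M']
    (f : M →ₗ[R] M') (N : Type u) [AddCommGroup N] [Module R N] (y : M ⊗[R] N) :
    (TensorProduct.comm R M' N) ((f.rTensor N) y) = (f.lTensor N) ((TensorProduct.comm R M N) y) := by
  induction y using TensorProduct.induction_on with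
  | zero => simp
  | tmul a c => simp
  | add x y hx hy => simp only [map_add, hx, hy]

include hb hflat hex in
lemma rTensor_exact_d (N : Type u) [AddCommGroup N] [Module R N] (i j k : ℤ) (hij : i + 1 = j)
    (hjk : j + 1 = k) (hj : m ≤ j) :
    Function.Exact ((C.d i j).hom.rTensor N) ((C.d j k).hom.rTensor N) := by
  have h := lTensor_exact_d C b m hb hflat hex N i j k hij hjk hj
  intro y
  have h1 := h ((TensorProduct.comm R _ _) y)
  rw [← comm_rTensor] at h1
  constructor
  · intro hy
    obtain ⟨x, hx⟩ := h1.1 (by rw [hy, map_zero])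
    refine ⟨(TensorProduct.comm R _ _).symm x, ?_⟩
    apply (TensorProduct.comm R _ _).injective
    rw [← hx, comm_rTensor, LinearEquiv.apply_symm_apply]
  · rintro ⟨x, rfl⟩
    rw [← LinearMap.comp_apply, ← LinearMap.rTensor_comp]
    have : (C.d j k).hom ∘ₗ (C.d i j).hom = 0 := by
      rw [← ModuleCat.hom_comp, C.d_comp_d]; rfl
    rw [this, LinearMap.rTensor_zero, LinearMap.zero_apply]

end Groth.Agent.H4.FlatAcyc
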