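import Mathlib
import Groth.Agent.H4.FlatAcyc2
set_option autoImplicit false
universe u
open CategoryTheory CategoryTheory.Limits TensorProduct MonoidalCategory

namespace Groth.Agent.H4.FlatAcyc

open DRing

variable {A B : Type u} [CommRing A] [CommRing B] (C : Cx A)
variable (b m : ℤ) (hb : ∀ i : ℤ, b < i → IsZero (C.X i)) (hflat : ∀ i : ℤ, Module.Flat A (C.X i))
  (hex : ∀ i : ℤ, m ≤ i → C.ExactAt i)

include hb hflat hex in
theorem exactAt_extendScalars (φ : A →+* B) (j : ℤ) (hj : m ≤ j) :
    (((ModuleCat.extendScalars φ).mapHomologicalComplex (ComplexShape.up ℤ)).obj C).ExactAt j := by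
  apply exactAt_of_exact_d _ (j - 1) j (j + 1) (by omega) rfl
  have h := lTensor_exact_d C b m hb hflat hex ((ModuleCat.restrictScalars φ).obj (ModuleCat.of B B))
    (j - 1) j (j + 1) (by omega) rfl hj
  exact h

include hb hflat hex in
theorem exactAt_tensorRight (M : ModuleCat.{u} A) (j : ℤ) (hj : m ≤ j) :
    (((tensorRight M).mapHomologicalComplex (ComplexShape.up ℤ)).obj C).ExactAt j := by
  apply exactAt_of_exact_d _ (j - 1) j (j + 1) (by omega) rfl
  have h := rTensor_exact_d C b m hb hflat hex M
    (j - 1) j (j + 1) (by omega) rfl hj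
  exact h

end Groth.Agent.H4.FlatAcyc
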