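import Mathlib
import Groth.Agent.H4.LDer2
import Groth.Agent.H4.ResP2
import Groth.Agent.H4.FlatAcyc3
import Groth.Agent.H4.ExtS
import Groth.Prelude.Def_DDual2
set_option autoImplicit false
universe u
open CategoryTheory CategoryTheory.Limits CategoryTheory.Pretriangulated MonoidalCategory

/-!
# Derived functors of "flat-exact" functors and witnesses of pseudo-coherence
-/

namespace Groth.Agent.H4.LDer

attribute [local instance] HasDerivedCategory.standard

open DerivedCategory DRing Groth.Agent.H4.PC Groth.Agent.H4.ResP Groth.Agent.H4.DRing1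
open CochainComplex (mappingCone)

variable {A B : Type u} [CommRing A] [CommRing B] (G : ModuleCat.{u} A ⥤ ModuleCat.{u} B) [G.Additive]

/-- `G` preserves exactness in high degrees of bounded above complexes of flat modules. -/
def FlatExact : Prop :=
  ∀ (C : Cx A) (b m : ℤ), (∀ i : ℤ, b < i → IsZero (C.X i)) → (∀ i : ℤ, Module.Flat A (C.X i)) →
    (∀ i : ℤ, m ≤ i → C.ExactAt i) → ∀ j : ℤ, m ≤ j → ((GC G).obj C).ExactAt j

lemma flatExact_extendScalars (φ : A →+* B) : FlatExact (ModuleCat.extendScalars φ) :=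
  fun C b m hb hflat hex j hj => FlatAcyc.exactAt_extendScalars C b m hb hflat hex φ j hj

lemma flatExact_tensorRight (M : ModuleCat.{u} A) : FlatExact (tensorRight M) :=
  fun C b m hb hflat hex j hj => FlatAcyc.exactAt_tensorRight C b m hb hflat hex M j hj

lemma exactAt_of_isLE (C : Cx A) (n : ℤ) [(toD C).IsLE n] (i : ℤ) (hi : n < i) : C.ExactAt i := by
  rw [HomologicalComplex.exactAt_iff_isZero_homology]
  exact (isZero_of_isLE (toD C) n i hi).of_iso (homologyToDIso C i).symm

lemma isLE_of_exactAt (C : Cx A) (n : ℤ) (h : ∀ i : ℤ, n < i → C.ExactAt i) : (toD C).IsLE n := by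
  rw [isLE_iff]
  intro i hi
  exact ((HomologicalComplex.exactAt_iff_isZero_homology _ _).1 (h i hi)).of_iso (homologyToDIso C i)

variable {G}

/-- witnesses between bounded above free complexes are preserved by flat-exact functors. -/
theorem isWit_GC (hG : FlatExact G) {E P : Cx A} {bE bP : ℤ} (hE : IsBAF bE E) (hP : IsBAF bP P)
    (a : E ⟶ P) (m : ℤ) (ha : IsWit m (Q.map a)) : IsWit m (Q.map ((GC G).map a)) := by
  have hTa := mapTriangle_distinguished a
  haveI hC : (toD (mappingCone a)).IsLE (m - 1) := (isWit_iff_isLE _ hTa m).1 ha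
  have hex : ∀ i : ℤ, m ≤ i → (mappingCone a).ExactAt i :=
    fun i hi => exactAt_of_isLE (mappingCone a) (m - 1) i (by omega)
  have hb : ∀ i : ℤ, max bE bP < i → IsZero ((mappingCone a).X i) := fun i hi =>
    Groth.Agent.H3.PerfAux.mappingCone_X_isZero a i
      (hE.1 _ (by have := le_max_left bE bP; omega)) (hP.1 _ (by have := le_max_right bE bP; omega))
  have hflat : ∀ i : ℤ, Module.Flat A ((mappingCone a).X i) := by
    intro i
    have e : (mappingCone a).X i ≅ E.X (i + 1) ⊞ P.X i :=
      HomologicalComplex.homotopyCofiber.XIsoBiprod a i (i + 1) rfl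
    have e' := (e ≪≫ ModuleCat.biprodIsoProd _ _).toLinearEquiv
    haveI := hE.2 (i + 1)
    haveI := hP.2 i
    exact Module.Flat.of_linearEquiv e'
  have h1 := hG (mappingCone a) (max bE bP) m hb hflat hex
  have h2 : ∀ i : ℤ, m - 1 < i → (mappingCone ((GC G).map a)).ExactAt i := by
    intro i hi
    have h3 := h1 i (by omega)
    rw [HomologicalComplex.exactAt_iff_isZero_homology] at h3 ⊢
    exact h3.of_iso ((HomologicalComplex.homologyFunctor _ _ i).mapIso
      (mappingCone.mapHomologicalComplexIso a G)).symm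
  have h4 : (toD (mappingCone ((GC G).map a))).IsLE (m - 1) := isLE_of_exactAt _ _ h2
  exact (isWit_iff_isLE _ (mapTriangle_distinguished ((GC G).map a)) m).2 h4

variable [(Gh G).HasLeftDerivedFunctor (WA A)]

/-- the image of a witness `toD E ⟶ K` (with `E` bounded above free, `K` bounded above) under the
derived functor of a flat-exact functor is again a witness. -/
theorem isWit_LG_map (hG : FlatExact G) {E : Cx A} {bE : ℤ} (hE : IsBAF bE E) (K : Dual.D A)
    (b : ℤ) [K.IsLE b] (α : toD E ⟶ K) (m : ℤ) (hα : IsWit m α) :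
    haveI := hE.isKProjective
    IsWit m ((isoOfKProj G E).inv ≫ (LG G).map α) := by
  haveI := hE.isKProjective
  obtain ⟨P, hP, ⟨e⟩⟩ := exists_iso_of_isLE K b
  haveI := hP.isKProjective
  obtain ⟨a, ha⟩ := Groth.Agent.H3.PerfAux.exists_map_of_isKProjective E P (α ≫ e.inv)
  have hwa : IsWit m (Q.map a) := by
    rw [ha]; exact hα.comp (IsWit.of_isIso e.inv)
  have h1 := isWit_GC hG hE hP a m hwa
  have hα' : α = Q.map a ≫ e.hom := by rw [ha]; simp
  have h2 : (isoOfKProj G E).inv ≫ (LG G).map α =
      Q.map ((GC G).map a) ≫ (isoOfKProj G P).inv ≫ (LG G).map e.hom := by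
    rw [hα', Functor.map_comp, ← Category.assoc, ← Category.assoc]
    congr 1
    rw [Iso.inv_comp_eq, ← Category.assoc, Iso.eq_comp_inv]
    exact gam_naturality G a
  rw [h2]
  exact h1.comp ((IsWit.of_isIso _).comp (IsWit.of_isIso _))

end Groth.Agent.H4.LDer
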