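import Mathlib
import Groth.Agent.H4.LDer3
set_option autoImplicit false
universe u
open CategoryTheory CategoryTheory.Limits CategoryTheory.Pretriangulated MonoidalCategory

/-!
# Bounded above complexes of flat modules compute derived functors of flat-exact functors
-/

namespace Groth.Agent.H4.LDer

attribute [local instance] HasDerivedCategory.standard

open DerivedCategory DRing Groth.Agent.H4.PC Groth.Agent.H4.ResP Groth.Agent.H4.DRing1
open CochainComplex (mappingCone)

variable {A B : Type u} [CommRing A] [CommRing B] {G : ModuleCat.{u} A ⥤ ModuleCat.{u} B} [G.Additive]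

theorem flat_prod {R : Type u} [CommRing R] (A B : Type u) [AddCommGroup A] [AddCommGroup B]
    [Module R A] [Module R B] [Module.Flat R A] [Module.Flat R B] : Module.Flat R (A × B) := by
  rw [Module.Flat.iff_rTensor_injectiveₛ]
  intro P _ _ N
  have hA := Module.Flat.rTensor_preserves_injective_linearMap (M := A) N.subtype
    N.injective_subtype
  have hB := Module.Flat.rTensor_preserves_injective_linearMap (M := B) N.subtype
    N.injective_subtype
  have hcomm : (TensorProduct.prodRight R R P A B).toLinearMap ∘ₗ (N.subtype.rTensor (A × B)) =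
      (LinearMap.prodMap (N.subtype.rTensor A) (N.subtype.rTensor B)) ∘ₗ
        (TensorProduct.prodRight R R N A B).toLinearMap := by
    apply TensorProduct.ext'
    intro n ab
    simp
  intro x y hxy
  have h1 := congrArg (TensorProduct.prodRight R R P A B) hxy
  have h2 : ∀ w, (TensorProduct.prodRight R R P A B) ((N.subtype.rTensor (A × B)) w) =
      (LinearMap.prodMap (N.subtype.rTensor A) (N.subtype.rTensor B))
        ((TensorProduct.prodRight R R N A B) w) := fun w => LinearMap.congr_fun hcomm w
  rw [h2, h2] at h1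
  have h3 : (TensorProduct.prodRight R R N A B) x = (TensorProduct.prodRight R R N A B) y := by
    apply Prod.ext
    · exact hA (congrArg Prod.fst h1)
    · exact hB (congrArg Prod.snd h1)
  exact (TensorProduct.prodRight R R N A B).injective h3

/-- bounded above by `b`, termwise flat. -/
def IsBAFlat (b : ℤ) (E : Cx A) : Prop := (∀ i : ℤ, b < i → IsZero (E.X i)) ∧ ∀ i : ℤ, Module.Flat A (E.X i)

lemma _root_.Groth.Agent.H4.ResP.IsBAF.isBAFlat {b : ℤ} {E : Cx A} (hE : IsBAF b E) : IsBAFlat b E :=
  ⟨hE.1, fun i => by haveI := hE.2 i; infer_instance⟩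

/-- witnesses between bounded above flat complexes are preserved by flat-exact functors. -/
theorem isWit_GC' (hG : FlatExact G) {E P : Cx A} {bE bP : ℤ} (hE : IsBAFlat bE E) (hP : IsBAFlat bP P)
    (a : E ⟶ P) (m : ℤ) (ha : IsWit m (Q.map a)) : IsWit m (Q.map ((GC G).map a)) := by
  have hTa := mapTriangle_distinguished a
  haveI hC : (toD (mappingCone a)).IsLE (m - 1) := (isWit_iff_isLE _ hTa m).1 ha
  have hex : ∀ i : ℤ, m ≤ i → (mappingCone a).ExactAt i :=
    fun i hi => exactAt_of_isLE (mappingCone a) (m - 1) i (by omega)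
  have hb : ∀ i : ℤ, max bE bP < i → IsZero ((mappingCone a).X i) := fun i hi =>
    Groth.Agent.H3.PerfAux.mappingCone_X_isZero a i
      (hE.1 _ (by have := le_max_left bE bP; omega)) (hP.1 _ (by have := le_max_right bE bP; omega))
  have hflat : ∀ i : ℤ, Module.Flat A ((mappingCone a).X i) := by
    intro i
    have e : (mappingCone a).X i ≅ E.X (i + 1) ⊞ P.X i :=
      HomologicalComplex.homotopyCofiber.XIsoBiprod a i (i + 1) rfl
    have e' := (e ≪≫ ModuleCat.biprodIsoProd _ _).toLinearEquiv
    haveI := hE.2 (i + 1)
    haveI := hP.2 i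
    haveI : Module.Flat A (ModuleCat.of A ((E.X (i + 1)) × (P.X i))) := flat_prod _ _
    exact Module.Flat.of_linearEquiv e'
  have h1 := hG (mappingCone a) (max bE bP) m hb hflat hex
  have h2 : ∀ i : ℤ, m - 1 < i → (mappingCone ((GC G).map a)).ExactAt i := by
    intro i hi
    have h3 := h1 i (by omega)
    rw [HomologicalComplex.exactAt_iff_isZero_homology] at h3 ⊢
    exact h3.of_iso ((HomologicalComplex.homologyFunctor _ _ i).mapIso
      (mappingCone.mapHomologicalComplexIso a G)).symm
  have h4 : (toD (mappingCone ((GC G).map a))).IsLE (m - 1) := isLE_of_exactAt _ _ h2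
  exact (isWit_iff_isLE _ (mapTriangle_distinguished ((GC G).map a)) m).2 h4

/-- quasi-isomorphisms between bounded above flat complexes are preserved by flat-exact functors. -/
theorem isIso_Q_map_GC (hG : FlatExact G) {E P : Cx A} {bE bP : ℤ} (hE : IsBAFlat bE E)
    (hP : IsBAFlat bP P) (a : E ⟶ P) [IsIso (Q.map a)] : IsIso (Q.map ((GC G).map a)) := by
  rw [DerivedCategory.isIso_iff]
  intro n
  exact (isWit_GC' hG hE hP a (n - 1) (IsWit.of_isIso _)).1 n (by omega)

variable [(Gh G).HasLeftDerivedFunctor (WA A)]

/-- the comparison map `LG (Q F) ⟶ Q (G F)` is an isomorphism for bounded above complexes of flat modules. -/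
theorem isIso_gam_of_flat (hG : FlatExact G) {F : Cx A} {b : ℤ} (hF : IsBAFlat b F) :
    IsIso ((gam G).app F) := by
  have hb : ∀ i : ℤ, b < i → IsZero ((homologyFunctor (ModuleCat.{u} A) i).obj (toD F)) :=
    fun i hi => isZero_homology_toD_of_isZero F i (hF.1 i hi)
  obtain ⟨P, p, hP, hp⟩ := exists_quasiIso_of_homology_bounded F b hb
  haveI := hP.isKProjective
  haveI : IsIso (Q.map p) := by rw [isIso_Q_map_iff_quasiIso]; exact hp
  haveI := isIso_Q_map_GC hG hP.isBAFlat hF p
  have h := gam_naturality G p
  have h2 : (gam G).app F = inv ((LG G).map (Q.map p)) ≫ (gam G).app P ≫ Q.map ((GC G).map p) := by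
    rw [IsIso.eq_inv_comp]; exact h
  rw [h2]
  infer_instance

/-- the value of the derived functor on an object represented by a bounded above flat complex. -/
noncomputable def isoOfFlat (hG : FlatExact G) {F : Cx A} {b : ℤ} (hF : IsBAFlat b F)
    {K : Dual.D A} (e : toD F ≅ K) : (LG G).obj K ≅ toD ((GC G).obj F) :=
  haveI := isIso_gam_of_flat hG hF
  (LG G).mapIso e.symm ≪≫ asIso ((gam G).app F)

end Groth.Agent.H4.LDer
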