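import Mathlib
import Groth.Agent.H4.LDer4
set_option autoImplicit false
universe u
open CategoryTheory CategoryTheory.Limits CategoryTheory.Pretriangulated MonoidalCategory

/-!
# Derived functors of exact functors; the unit `- ⊗^L R ≅ id`
-/

namespace Groth.Agent.H4.LDer

attribute [local instance] HasDerivedCategory.standard

open DerivedCategory DRing Groth.Agent.H4.PC Groth.Agent.H4.ResP Groth.Agent.H4.DRing1
open CochainComplex (mappingCone)

variable {A B : Type u} [CommRing A] [CommRing B] (G : ModuleCat.{u} A ⥤ ModuleCat.{u} B) [G.Additive]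

section Exact

variable [PreservesFiniteLimits G] [PreservesFiniteColimits G]

lemma isInvertedBy_Gh_of_exact : (WA A).IsInvertedBy (Gh G) := by
  rw [← MorphismProperty.IsInvertedBy.iff_of_iso _ G.mapDerivedCategoryFactorsh]
  exact MorphismProperty.IsInvertedBy.of_comp _ _ (Localization.inverts Qh (WA A)) _

variable [(Gh G).HasLeftDerivedFunctor (WA A)]

instance isIso_cou_of_exact : IsIso (cou G) :=
  Functor.isIso_of_isLeftDerivedFunctor_of_inverts (LG G) (cou G) (isInvertedBy_Gh_of_exact G)

instance isIso_gam_app_of_exact (X : Cx A) : IsIso ((gam G).app X) := by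
  rw [gam_app]
  infer_instance

/-- for an exact functor the derived functor is computed termwise on every complex. -/
noncomputable def isoOfExact (X : Cx A) : (LG G).obj (Q.obj X) ≅ Q.obj ((GC G).obj X) :=
  asIso ((gam G).app X)

end Exact

section Unit

variable (A)

instance : PreservesFiniteLimits (tensorRight (𝟙_ (ModuleCat.{u} A))) :=
  preservesFiniteLimits_of_natIso (rightUnitorNatIso (ModuleCat.{u} A)).symm

instance : PreservesFiniteColimits (tensorRight (𝟙_ (ModuleCat.{u} A))) :=
  preservesFiniteColimits_of_natIso (rightUnitorNatIso (ModuleCat.{u} A)).symm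

/-- termwise `- ⊗ R` is isomorphic to the identity on complexes. -/
noncomputable def GCUnitIso (X : Cx A) : (GC (tensorRight (𝟙_ (ModuleCat.{u} A)))).obj X ≅ X :=
  HomologicalComplex.Hom.isoOfComponents (fun i => ρ_ (X.X i)) (fun i j _ => by
    simp only [Functor.mapHomologicalComplex_obj_d]
    exact (MonoidalCategory.rightUnitor_naturality (X.d i j)).symm)

variable [(Gh (tensorRight (𝟙_ (ModuleCat.{u} A)))).HasLeftDerivedFunctor (WA A)]

/-- `K ⊗^L R ≅ K`. -/
noncomputable def LGUnitIso (K : Dual.D A) :
    (LG (tensorRight (𝟙_ (ModuleCat.{u} A)))).obj K ≅ K :=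
  (LG _).mapIso (Q.objObjPreimageIso K).symm ≪≫ isoOfExact _ _ ≪≫ Q.mapIso (GCUnitIso A _) ≪≫
    Q.objObjPreimageIso K

end Unit

end Groth.Agent.H4.LDer
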