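import Mathlib
import Groth.Agent.H4.LDer5
import Groth.Agent.H4.KProj5
import Groth.Agent.H4.ExtS

set_option autoImplicit false

/-!
# Flat base change: `LBaseChange` is computed termwise
-/

namespace Groth.Agent.H4.BC

universe u
open CategoryTheory CategoryTheory.Limits
attribute [local instance] HasDerivedCategory.standard
open DRing
open Groth.Agent.H4.LDer DerivedCategory

variable {A B : Type u} [CommRing A] [CommRing B]

lemma preservesFiniteLimits_extendScalars (φ : A →+* B) (hφ : φ.Flat) :
    PreservesFiniteLimits (ModuleCat.extendScalars.{u, u, u} φ) :=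
  ModuleCat.preservesFiniteLimits_extendScalars_of_flat hφ

/-- for a flat ring map, derived base change is computed termwise on every complex. -/
noncomputable def isoOfFlatMap (φ : A →+* B) (hφ : φ.Flat) [DRing.HasLBaseChange φ] (X : Cx A) :
    (DRing.LBaseChange φ).obj (toD X) ≅
      toD (((ModuleCat.extendScalars.{u, u, u} φ).mapHomologicalComplex (ComplexShape.up ℤ)).obj X) :=
  haveI := preservesFiniteLimits_extendScalars φ hφ
  isoOfExact (ModuleCat.extendScalars.{u, u, u} φ) X

variable [Algebra A B]

/-- `inD` commutes with a flat base change. -/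
lemma nonempty_iso_inD [Module.Flat A B] (M : Type u) [AddCommGroup M] [Module A M]
    [DRing.HasLBaseChange (algebraMap A B)] :
    Nonempty ((DRing.LBaseChange (algebraMap A B)).obj (Dual.inD A M) ≅
      Dual.inD B (TensorProduct A B M)) := by
  let G := ModuleCat.extendScalars.{u, u, u} (algebraMap A B)
  haveI : PreservesFiniteLimits G :=
    ModuleCat.preservesFiniteLimits_extendScalars_of_flat
      ((RingHom.flat_algebraMap_iff).2 inferInstance)
  let X : Cx A := (HomologicalComplex.single (ModuleCat.{u} A) (ComplexShape.up ℤ) 0).obj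
    (ModuleCat.of A M)
  have e1 : (LG G).obj (Q.obj X) ≅ Q.obj ((GC G).obj X) := isoOfExact G X
  have e2 : Dual.inD A M ≅ Q.obj X :=
    (DerivedCategory.singleFunctorIsoCompQ (ModuleCat.{u} A) 0).app (ModuleCat.of A M)
  have e3 : (GC G).obj X ≅ (HomologicalComplex.single (ModuleCat.{u} B) (ComplexShape.up ℤ) 0).obj
      (G.obj (ModuleCat.of A M)) :=
    (HomologicalComplex.singleMapHomologicalComplex G (ComplexShape.up ℤ) 0).app (ModuleCat.of A M)
  have e4 : G.obj (ModuleCat.of A M) ≅ ModuleCat.of B (TensorProduct A B M) :=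
    (Groth.Agent.H8.ExtBridge.extEquiv (A := A) (B := B) (ModuleCat.of A M)).toModuleIso
  have e5 : Dual.inD B (TensorProduct A B M) ≅ Q.obj
      ((HomologicalComplex.single (ModuleCat.{u} B) (ComplexShape.up ℤ) 0).obj
        (ModuleCat.of B (TensorProduct A B M))) :=
    (DerivedCategory.singleFunctorIsoCompQ (ModuleCat.{u} B) 0).app _
  exact ⟨(LG G).mapIso e2 ≪≫ e1 ≪≫ Q.mapIso e3 ≪≫
    Q.mapIso ((HomologicalComplex.single (ModuleCat.{u} B) (ComplexShape.up ℤ) 0).mapIso e4) ≪≫
    e5.symm⟩

end Groth.Agent.H4.BC
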