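import Mathlib

/-!
# Yoneda-exact functors on pretriangulated categories and a five lemma for natural transformations
-/

open CategoryTheory Category Limits Pretriangulated

namespace Groth.Agent.H4.EV1

variable {C D : Type*} [Category C] [Category D] [Preadditive C] [HasZeroObject C] [HasShift C ℤ]
  [∀ n : ℤ, (shiftFunctor C n).Additive] [Pretriangulated C] [Preadditive D]

/-- A pair of composable maps is *Yoneda-exact* if it is a complex and exact after applying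
`Hom(W, -)`, for all `W`. -/
def YEx₂ {X Y Z : D} (u : X ⟶ Y) (v : Y ⟶ Z) : Prop :=
  u ≫ v = 0 ∧ ∀ (W : D) (φ : W ⟶ Y), φ ≫ v = 0 → ∃ ψ : W ⟶ X, ψ ≫ u = φ

lemma YEx₂.of_iso {X Y Z X' Y' Z' : D} {u : X ⟶ Y} {v : Y ⟶ Z} {u' : X' ⟶ Y'} {v' : Y' ⟶ Z'}
    (a : X ≅ X') (b : Y ≅ Y') (c : Z ≅ Z') (h₁ : u ≫ b.hom = a.hom ≫ u')
    (h₂ : v ≫ c.hom = b.hom ≫ v') (h : YEx₂ u' v') : YEx₂ u v := by
  obtain ⟨h0, hex⟩ := h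
  have hu : u = a.hom ≫ u' ≫ b.inv := by
    rw [← assoc, ← h₁, assoc, Iso.hom_inv_id, comp_id]
  have hv : v = b.hom ≫ v' ≫ c.inv := by
    rw [← assoc, ← h₂, assoc, Iso.hom_inv_id, comp_id]
  refine ⟨?_, fun W φ hφ => ?_⟩
  · rw [hu, hv]
    simp only [assoc, Iso.inv_hom_id_assoc]
    rw [reassoc_of% h0]
    simp
  · obtain ⟨ψ, hψ⟩ := hex W (φ ≫ b.hom) (by
      rw [assoc, ← h₂, reassoc_of% hφ, zero_comp])
    refine ⟨ψ ≫ a.inv, ?_⟩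
    rw [hu, assoc, Iso.inv_hom_id_assoc, reassoc_of% hψ, Iso.hom_inv_id, comp_id]

lemma YEx₂.of_distTriang (T : Triangle C) (hT : T ∈ distTriang C) : YEx₂ T.mor₁ T.mor₂ := by
  refine ⟨comp_distTriang_mor_zero₁₂ T hT, fun W φ hφ => ?_⟩
  obtain ⟨ψ, hψ⟩ := Triangle.coyoneda_exact₂ T hT φ hφ
  exact ⟨ψ, hψ.symm⟩

/-- A functor `F` out of a pretriangulated category is *Yoneda-exact* if it sends the first two maps of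
every distinguished triangle to a sequence which is exact after applying `Hom(W, -)`, for all `W`. -/
def YExact (F : C ⥤ D) : Prop :=
  ∀ T ∈ distTriang C, YEx₂ (F.map T.mor₁) (F.map T.mor₂)

lemma YExact.of_iso_triangle (F : C ⥤ D) {T T' : Triangle C} (e : T ≅ T')
    (h : YEx₂ (F.map T'.mor₁) (F.map T'.mor₂)) : YEx₂ (F.map T.mor₁) (F.map T.mor₂) := by
  refine YEx₂.of_iso (F.mapIso (Triangle.π₁.mapIso e)) (F.mapIso (Triangle.π₂.mapIso e))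
    (F.mapIso (Triangle.π₃.mapIso e)) ?_ ?_ h
  · change F.map T.mor₁ ≫ F.map e.hom.hom₂ = F.map e.hom.hom₁ ≫ F.map T'.mor₁
    rw [← F.map_comp, ← F.map_comp, e.hom.comm₁]
  · change F.map T.mor₂ ≫ F.map e.hom.hom₃ = F.map e.hom.hom₂ ≫ F.map T'.mor₂
    rw [← F.map_comp, ← F.map_comp, e.hom.comm₂]

lemma YExact.of_iso {F G : C ⥤ D} (e : F ≅ G) (hF : YExact F) : YExact G := by
  intro T hT
  obtain ⟨h0, hex⟩ := hF T hT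
  refine ⟨?_, fun W φ hφ => ?_⟩
  · have h1 : G.map T.mor₁ = e.inv.app _ ≫ F.map T.mor₁ ≫ e.hom.app _ := by
      rw [e.hom.naturality, Iso.inv_hom_id_app_assoc]
    have h2 : G.map T.mor₂ = e.inv.app _ ≫ F.map T.mor₂ ≫ e.hom.app _ := by
      rw [e.hom.naturality, Iso.inv_hom_id_app_assoc]
    rw [h1, h2]
    simp only [assoc, Iso.hom_inv_id_app_assoc]
    rw [reassoc_of% h0]
    simp
  · obtain ⟨ψ, hψ⟩ := hex W (φ ≫ e.inv.app _) (by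
      rw [assoc, ← e.inv.naturality, reassoc_of% hφ, zero_comp])
    refine ⟨ψ ≫ e.hom.app _, ?_⟩
    rw [assoc, ← e.hom.naturality, reassoc_of% hψ, Iso.inv_hom_id_app, comp_id]

/-- postcomposition of a Yoneda-exact functor with a right adjoint is Yoneda-exact. -/
lemma YExact.comp_rightAdjoint {E : Type*} [Category E] [Preadditive E] {F : C ⥤ D} (hF : YExact F)
    {L : E ⥤ D} {R : D ⥤ E} (adj : L ⊣ R) [R.PreservesZeroMorphisms] : YExact (F ⋙ R) := by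
  intro T hT
  obtain ⟨h0, hex⟩ := hF T hT
  refine ⟨?_, fun W φ hφ => ?_⟩
  · dsimp
    rw [← R.map_comp, h0, R.map_zero]
  · dsimp at φ hφ ⊢
    obtain ⟨ψ, hψ⟩ := hex (L.obj W) ((adj.homEquiv _ _).symm φ) (by
      rw [← adj.homEquiv_naturality_right_symm, hφ]
      exact (adj.homEquiv _ _).injective (by simp [Adjunction.homEquiv_unit]))
    refine ⟨adj.homEquiv _ _ ψ, ?_⟩
    rw [← adj.homEquiv_naturality_right, hψ, Equiv.apply_symm_apply]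

/-- An abstract Yoneda-style five lemma in a preadditive category. -/
theorem yoneda_five {A₀ A₁ A₂ A₃ A₄ B₀ B₁ B₂ B₃ B₄ : D}
    (a₀ : A₀ ⟶ A₁) (a₁ : A₁ ⟶ A₂) (a₂ : A₂ ⟶ A₃) (a₃ : A₃ ⟶ A₄)
    (b₀ : B₀ ⟶ B₁) (b₁ : B₁ ⟶ B₂) (b₂ : B₂ ⟶ B₃) (b₃ : B₃ ⟶ B₄)
    (t₀ : A₀ ⟶ B₀) (t₁ : A₁ ⟶ B₁) (t₂ : A₂ ⟶ B₂) (t₃ : A₃ ⟶ B₃) (t₄ : A₄ ⟶ B₄)
    (c₀ : a₀ ≫ t₁ = t₀ ≫ b₀) (c₁ : a₁ ≫ t₂ = t₁ ≫ b₁) (c₂ : a₂ ≫ t₃ = t₂ ≫ b₂)
    (c₃ : a₃ ≫ t₄ = t₃ ≫ b₃)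
    (ha0 : a₀ ≫ a₁ = 0) (hb23 : b₂ ≫ b₃ = 0)
    (exA2 : ∀ (W : D) (φ : W ⟶ A₂), φ ≫ a₂ = 0 → ∃ ψ : W ⟶ A₁, ψ ≫ a₁ = φ)
    (exA3 : ∀ (W : D) (φ : W ⟶ A₃), φ ≫ a₃ = 0 → ∃ ψ : W ⟶ A₂, ψ ≫ a₂ = φ)
    (exB1 : ∀ (W : D) (φ : W ⟶ B₁), φ ≫ b₁ = 0 → ∃ ψ : W ⟶ B₀, ψ ≫ b₀ = φ)
    (exB2 : ∀ (W : D) (φ : W ⟶ B₂), φ ≫ b₂ = 0 → ∃ ψ : W ⟶ B₁, ψ ≫ b₁ = φ)
    (h₀ : IsIso t₀) (h₁ : IsIso t₁) (h₃ : IsIso t₃) (h₄ : IsIso t₄) : IsIso t₂ := by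
  -- injectivity
  have hinj : ∀ (W : D) (φ : W ⟶ A₂), φ ≫ t₂ = 0 → φ = 0 := by
    intro W φ hφ
    have e1 : (φ ≫ a₂) ≫ t₃ = 0 := by
      rw [assoc, c₂, reassoc_of% hφ, zero_comp]
    have e2 : φ ≫ a₂ = 0 := by
      rw [← cancel_mono t₃, e1, zero_comp]
    obtain ⟨ψ, hψ⟩ := exA2 W φ e2
    have e3 : (ψ ≫ t₁) ≫ b₁ = 0 := by
      rw [assoc, ← c₁, reassoc_of% hψ, hφ]
    obtain ⟨χ, hχ⟩ := exB1 W (ψ ≫ t₁) e3
    have e4 : (χ ≫ inv t₀) ≫ a₀ = ψ := by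
      rw [← cancel_mono t₁, assoc, c₀, assoc, IsIso.inv_hom_id_assoc, hχ]
    rw [← hψ, ← e4, assoc, ha0, comp_zero]
  haveI : Mono t₂ := by
    constructor
    intro W a b hab
    rw [← sub_eq_zero]
    apply hinj
    rw [Preadditive.sub_comp, hab, sub_self]
  -- surjectivity
  have hsurj : ∀ (W : D) (ξ : W ⟶ B₂), ∃ φ : W ⟶ A₂, φ ≫ t₂ = ξ := by
    intro W ξ
    let ζ := (ξ ≫ b₂) ≫ inv t₃
    have hζ : ζ ≫ t₃ = ξ ≫ b₂ := by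
      dsimp [ζ]; rw [assoc, assoc, IsIso.inv_hom_id, comp_id]
    have e1 : (ζ ≫ a₃) ≫ t₄ = 0 := by
      rw [assoc, c₃, reassoc_of% hζ, hb23, comp_zero]
    have e2 : ζ ≫ a₃ = 0 := by
      rw [← cancel_mono t₄, e1, zero_comp]
    obtain ⟨υ, hυ⟩ := exA3 W ζ e2
    have e3 : (ξ - υ ≫ t₂) ≫ b₂ = 0 := by
      rw [Preadditive.sub_comp, assoc, ← c₂, reassoc_of% hυ, hζ, sub_self]
    obtain ⟨ρ, hρ⟩ := exB2 W _ e3
    refine ⟨υ + (ρ ≫ inv t₁) ≫ a₁, ?_⟩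
    rw [Preadditive.add_comp, assoc, assoc, c₁, IsIso.inv_hom_id_assoc, hρ]
    abel
  obtain ⟨s, hs⟩ := hsurj _ (𝟙 _)
  haveI : IsSplitEpi t₂ := ⟨⟨s, hs⟩⟩
  exact isIso_of_mono_of_isSplitEpi _

/-- The five lemma for a natural transformation between Yoneda-exact functors. -/
theorem isIso_app_obj₂ {F G : C ⥤ D} (hF : YExact F) (hG : YExact G) (τ : F ⟶ G)
    (T : Triangle C) (hT : T ∈ distTriang C)
    (h₁ : IsIso (τ.app T.obj₁)) (h₃ : IsIso (τ.app T.obj₃))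
    (h₁' : IsIso (τ.app (T.obj₁⟦(1 : ℤ)⟧))) (h₃' : IsIso (τ.app (T.obj₃⟦(-1 : ℤ)⟧))) :
    IsIso (τ.app T.obj₂) := by
  have hTi := inv_rot_of_distTriang T hT
  have hTr := rot_of_distTriang T hT
  exact yoneda_five (F.map T.invRotate.mor₁) (F.map T.mor₁) (F.map T.mor₂) (F.map T.mor₃)
    (G.map T.invRotate.mor₁) (G.map T.mor₁) (G.map T.mor₂) (G.map T.mor₃)
    (τ.app (T.obj₃⟦(-1 : ℤ)⟧)) (τ.app T.obj₁) (τ.app T.obj₂) (τ.app T.obj₃)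
    (τ.app (T.obj₁⟦(1 : ℤ)⟧))
    (τ.naturality T.invRotate.mor₁) (τ.naturality _) (τ.naturality _) (τ.naturality _)
    (hF _ hTi).1 (hG _ hTr).1 (hF _ hT).2 (hF _ hTr).2 (hG _ hTi).2 (hG _ hT).2 h₃' h₁ h₃ h₁'

end Groth.Agent.H4.EV1
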