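import Mathlib
import Groth.Agent.H4.DRing3
set_option autoImplicit false
universe u
open CategoryTheory CategoryTheory.Limits CategoryTheory.Pretriangulated

namespace Groth.Agent.H4.DThick

attribute [local instance] HasDerivedCategory.standard

variable {R : Type u} [CommRing R]

open DRing DerivedCategory ZeroObject Groth.Agent.H4.SubCx Groth.Agent.H4.DRing1

/-- a class of objects of `D(R)` closed under isomorphisms, zero, shifts and extensions. -/
structure IsTriSub (Pr : Dual.D R → Prop) : Prop where
  iso : ∀ {K K' : Dual.D R}, (K ≅ K') → Pr K → Pr K'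
  zero : ∀ K : Dual.D R, IsZero K → Pr K
  shift : ∀ (K : Dual.D R) (n : ℤ), Pr K → Pr (K⟦n⟧)
  ext₂ : ∀ T : Triangle (Dual.D R), T ∈ distinguishedTriangles → Pr T.obj₁ → Pr T.obj₃ → Pr T.obj₂

variable {Pr : Dual.D R → Prop}

lemma IsTriSub.single (hPr : IsTriSub Pr) (n : ℤ) {Y Y' : ModuleCat.{u} R} (e : Y ≅ Y')
    (h : Pr ((singleFunctor (ModuleCat.{u} R) 0).obj Y)) :
    Pr ((singleFunctor (ModuleCat.{u} R) n).obj Y') :=
  hPr.iso (((singleFunctors (ModuleCat.{u} R)).shiftIso (-n) n 0 (by simp)).app Y')
    (hPr.shift _ (-n) (hPr.iso ((singleFunctor _ 0).mapIso e) h))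

theorem IsTriSub.of_homology_aux (hPr : IsTriSub Pr) (n : ℕ) : ∀ (K : Dual.D R) (a : ℤ),
    (∀ i : ℤ, i < a → IsZero ((homologyFunctor (ModuleCat.{u} R) i).obj K)) →
    (∀ i : ℤ, a + n ≤ i → IsZero ((homologyFunctor (ModuleCat.{u} R) i).obj K)) →
    (∀ i : ℤ, Pr ((singleFunctor (ModuleCat.{u} R) 0).obj
      ((homologyFunctor (ModuleCat.{u} R) i).obj K))) → Pr K := by
  induction n with
  | zero =>
    intro K a h1 h2 _
    apply hPr.zero
    haveI : K.IsGE a := (isGE_iff K a).mpr h1
    haveI : K.IsLE (a - 1) := (isLE_iff K (a - 1)).mpr (fun i hi => h2 i (by simp; omega))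
    exact TStructure.t.isZero K (a - 1) a (by omega)
  | succ n ih =>
    intro K a h1 h2 h3
    set c : ℤ := a + n with hc
    let T := (TStructure.t.triangleLTGE c).obj K
    have hT : T ∈ distinguishedTriangles := TStructure.t.triangleLTGE_distinguished c K
    haveI : T.obj₁.IsLE (c - 1) := inferInstanceAs (TStructure.t.IsLE T.obj₁ (c - 1))
    haveI : T.obj₃.IsGE c := inferInstanceAs (TStructure.t.IsGE T.obj₃ c)
    have h3' : Pr T.obj₃ := by
      haveI : T.obj₃.IsLE c := by
        rw [isLE_iff]
        intro i hi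
        haveI := isIso_homology_mor₂ T hT c i (by omega)
        exact (h2 i (by push_cast; omega)).of_iso
          (asIso ((homologyFunctor (ModuleCat.{u} R) i).map T.mor₂)).symm
      obtain ⟨Y, ⟨e⟩⟩ := exists_iso_singleFunctor_obj_of_isGE_of_isLE T.obj₃ c
      haveI := isIso_homology_mor₂ T hT c c le_rfl
      have e2 : (homologyFunctor (ModuleCat.{u} R) c).obj T.obj₂ ≅
          (homologyFunctor (ModuleCat.{u} R) c).obj T.obj₃ :=
        asIso ((homologyFunctor (ModuleCat.{u} R) c).map T.mor₂)
      have eY : (homologyFunctor (ModuleCat.{u} R) c).obj K ≅ Y :=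
        e2 ≪≫ (homologyFunctor _ c).mapIso e ≪≫ homologySingleIso c Y
      exact hPr.iso e.symm (hPr.single c eY (h3 c))
    have h1' : Pr T.obj₁ := by
      apply ih T.obj₁ a
      · intro i hi
        haveI := isIso_homology_mor₁ T hT c i (by omega)
        have e1 : (homologyFunctor (ModuleCat.{u} R) i).obj T.obj₁ ≅
            (homologyFunctor (ModuleCat.{u} R) i).obj T.obj₂ :=
          asIso ((homologyFunctor (ModuleCat.{u} R) i).map T.mor₁)
        exact (h1 i hi).of_iso e1
      · intro i hi
        exact isZero_of_isLE T.obj₁ (c - 1) i (by omega)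
      · intro i
        by_cases hi : i < c
        · haveI := isIso_homology_mor₁ T hT c i hi
          have e1 : (homologyFunctor (ModuleCat.{u} R) i).obj T.obj₁ ≅
              (homologyFunctor (ModuleCat.{u} R) i).obj T.obj₂ :=
            asIso ((homologyFunctor (ModuleCat.{u} R) i).map T.mor₁)
          exact hPr.iso ((singleFunctor _ 0).mapIso e1.symm) (h3 i)
        · apply hPr.zero
          exact (singleFunctor _ 0).map_isZero (isZero_of_isLE T.obj₁ (c - 1) i (by omega))
    exact hPr.ext₂ T hT h1' h3'

/-- an object with bounded cohomology, all of whose cohomology modules are in the class, is in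
the class. -/
theorem IsTriSub.of_bounded_homology (hPr : IsTriSub Pr) (K : Dual.D R)
    (hb : ∃ a b : ℤ, ∀ i : ℤ, (i < a ∨ b < i) → Subsingleton (Dual.HD R K i))
    (hK : ∀ i : ℤ, Pr (Dual.inD R (Dual.HD R K i))) : Pr K := by
  obtain ⟨a, b, hab⟩ := hb
  refine hPr.of_homology_aux (b + 1 - a).toNat K a ?_ ?_ ?_
  · intro i hi
    haveI := hab i (Or.inl hi)
    exact ModuleCat.isZero_of_subsingleton _
  · intro i hi
    haveI := hab i (Or.inr (by
      have := Int.self_le_toNat (b + 1 - a)
      omega))
    exact ModuleCat.isZero_of_subsingleton _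
  · intro i
    exact hK i

lemma IsTriSub.of_linearEquiv (hPr : IsTriSub Pr) {M M' : Type u} [AddCommGroup M] [Module R M]
    [AddCommGroup M'] [Module R M'] (e : M ≃ₗ[R] M') (h : Pr (Dual.inD R M)) :
    Pr (Dual.inD R M') :=
  hPr.iso ((singleFunctor (ModuleCat.{u} R) 0).mapIso e.toModuleIso) h

lemma IsTriSub.of_subsingleton (hPr : IsTriSub Pr) (M : Type u) [AddCommGroup M] [Module R M]
    [Subsingleton M] : Pr (Dual.inD R M) :=
  hPr.zero _ ((singleFunctor (ModuleCat.{u} R) 0).map_isZero
    (ModuleCat.isZero_of_subsingleton _))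

lemma IsTriSub.of_concentrated (hPr : IsTriSub Pr) (E : Cx R) (a : ℤ)
    (hE : ∀ i, i ≠ a → IsZero (E.X i)) (h : Pr (Dual.inD R (E.X a))) : Pr (toD E) := by
  haveI : E.IsStrictlyGE a := by
    rw [CochainComplex.isStrictlyGE_iff]
    intro i hi
    exact hE i (by omega)
  haveI : E.IsStrictlyLE a := by
    rw [CochainComplex.isStrictlyLE_iff]
    intro i hi
    exact hE i (by omega)
  obtain ⟨M, ⟨e⟩⟩ := CochainComplex.exists_iso_single E a
  have eM : E.X a ≅ M := (HomologicalComplex.eval _ _ a).mapIso e ≪≫
    HomologicalComplex.singleObjXSelf (ComplexShape.up ℤ) a M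
  have h1 : Pr ((singleFunctor (ModuleCat.{u} R) a).obj M) := hPr.single a eM h
  exact hPr.iso ((singleFunctorIsoCompQ _ a).app M ≪≫ (Q.mapIso e).symm) h1

set_option maxHeartbeats 800000 in
theorem IsTriSub.of_termwise_aux (hPr : IsTriSub Pr) (n : ℕ) : ∀ (K : Cx R) (a : ℤ),
    (∀ i : ℤ, i < a ∨ a + n ≤ i → IsZero (K.X i)) →
    (∀ i : ℤ, Pr (Dual.inD R (K.X i))) → Pr (toD K) := by
  induction n with
  | zero =>
    intro K a hz _
    apply hPr.zero
    haveI : K.IsStrictlyGE a := by
      rw [CochainComplex.isStrictlyGE_iff]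
      intro i hi
      exact hz i (Or.inl hi)
    haveI : K.IsStrictlyLE (a - 1) := by
      rw [CochainComplex.isStrictlyLE_iff]
      intro i hi
      exact hz i (Or.inr (by simp; omega))
    exact TStructure.t.isZero (toD K) (a - 1) a (by omega)
  | succ n ih =>
    intro K a hz hP
    have hS := brutal_stable K (a + 1)
    have hT := triangleOfSES_distinguished (shortExact K (brutal K (a + 1)) hS)
    have h1 : Pr (toD (sub K (brutal K (a + 1)) hS)) := by
      apply ih _ (a + 1)
      · intro i hi
        by_cases hia : i < a + 1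
        · have hb := brutal_of_lt K hia
          haveI : Subsingleton (brutal K (a + 1) i) := by rw [hb]; infer_instance
          exact ModuleCat.isZero_of_subsingleton (ModuleCat.of R (brutal K (a + 1) i))
        · haveI := ModuleCat.subsingleton_of_isZero (hz i (Or.inr (by push_cast; omega)))
          haveI : Subsingleton (brutal K (a + 1) i) := inferInstance
          exact ModuleCat.isZero_of_subsingleton (ModuleCat.of R (brutal K (a + 1) i))
      · intro i
        by_cases hia : i < a + 1
        · have hb := brutal_of_lt K hia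
          haveI : Subsingleton (brutal K (a + 1) i) := by rw [hb]; infer_instance
          exact hPr.of_subsingleton (brutal K (a + 1) i)
        · have hb := brutal_of_le K (not_lt.mp hia)
          exact hPr.of_linearEquiv (LinearEquiv.ofTop _ hb).symm (hP i)
    have h3 : Pr (toD (quot K (brutal K (a + 1)) hS)) := by
      apply hPr.of_concentrated _ a
      · intro i hi
        by_cases hia : i < a + 1
        · have hb := brutal_of_lt K hia
          haveI := ModuleCat.subsingleton_of_isZero (hz i (Or.inl (by omega)))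
          haveI : Subsingleton (K.X i ⧸ brutal K (a + 1) i) := inferInstance
          exact ModuleCat.isZero_of_subsingleton (ModuleCat.of R (K.X i ⧸ brutal K (a + 1) i))
        · have hb := brutal_of_le K (not_lt.mp hia)
          haveI : Subsingleton (K.X i ⧸ brutal K (a + 1) i) := by
            rw [Submodule.Quotient.subsingleton_iff]; exact hb
          exact ModuleCat.isZero_of_subsingleton (ModuleCat.of R (K.X i ⧸ brutal K (a + 1) i))
      · have hb := brutal_of_lt K (by omega : a < a + 1)
        exact hPr.of_linearEquiv (Submodule.quotEquivOfEqBot _ hb).symm (hP a)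
    exact hPr.ext₂ _ hT h1 h3

/-- a bounded complex all of whose terms are in the class is in the class. -/
theorem IsTriSub.of_bounded_termwise (hPr : IsTriSub Pr) (K : DRing.Cx R)
    (a b : ℤ) (hab : DRing.VanishesOutside K a b) (hK : ∀ i : ℤ, Pr (Dual.inD R (K.X i))) :
    Pr (DRing.toD K) := by
  refine hPr.of_termwise_aux (b + 1 - a).toNat K a ?_ hK
  intro i hi
  apply hab i
  rcases hi with hi | hi
  · exact Or.inl hi
  · right
    have := Int.self_le_toNat (b + 1 - a)
    omega

end Groth.Agent.H4.DThick
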