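import Mathlib
import Groth.Agent.H4.DThick
set_option autoImplicit false
universe u
open CategoryTheory CategoryTheory.Limits CategoryTheory.Pretriangulated

namespace Groth.Agent.H4.DThick

attribute [local instance] HasDerivedCategory.standard

variable {R : Type u} [CommRing R]

open DRing DerivedCategory ZeroObject Groth.Agent.H4.DRing1

lemma exists_map_of_isKInjective (K L : Cx R) [L.IsKInjective] (g : toD K ⟶ toD L) :
    ∃ f : K ⟶ L, Q.map f = g := by
  obtain ⟨h, hh⟩ := (CochainComplex.IsKInjective.Qh_map_bijective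
    ((HomotopyCategory.quotient _ _).obj K) L).surjective
    ((DerivedCategory.quotientCompQhIso _).hom.app K ≫ g ≫
      (DerivedCategory.quotientCompQhIso _).inv.app L)
  obtain ⟨f, rfl⟩ := (HomotopyCategory.quotient _ _).map_surjective h
  refine ⟨f, ?_⟩
  have := DerivedCategory.quotientCompQhIso_hom_naturality f
  rw [hh] at this
  simp only [Category.assoc, Iso.inv_hom_id_app, Category.comp_id] at this
  have h2 := (cancel_epi ((DerivedCategory.quotientCompQhIso _).hom.app K)).1 this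
  exact h2.symm

theorem exists_cone_iso' (T : Triangle (Dual.D R)) (hT : T ∈ distinguishedTriangles)
    (E₁ E₂ : Cx R) [E₂.IsKInjective] (e₁ : toD E₁ ≅ T.obj₁) (e₂ : toD E₂ ≅ T.obj₂) :
    ∃ f : E₁ ⟶ E₂, Nonempty (toD (CochainComplex.mappingCone f) ≅ T.obj₃) := by
  obtain ⟨f, hf⟩ := exists_map_of_isKInjective E₁ E₂ (e₁.hom ≫ T.mor₁ ≫ e₂.inv)
  have hT' : DerivedCategory.Q.mapTriangle.obj (CochainComplex.mappingCone.triangle f) ∈
      distinguishedTriangles := by
    rw [DerivedCategory.mem_distTriang_iff]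
    exact ⟨_, _, f, ⟨Iso.refl _⟩⟩
  let iso := isoTriangleOfIso₁₂ _ _ hT' hT e₁ e₂ (by
    change DerivedCategory.Q.map f ≫ e₂.hom = e₁.hom ≫ T.mor₁
    rw [hf]; simp)
  exact ⟨f, ⟨Triangle.π₃.mapIso iso⟩⟩

lemma isKInjective_of_vanishes_injective (E : Cx R) (a : ℤ) (ha : ∀ i, i < a → IsZero (E.X i))
    (hI : ∀ i, Module.Injective R (E.X i)) : E.IsKInjective := by
  haveI : E.IsStrictlyGE a := by
    rw [CochainComplex.isStrictlyGE_iff]; exact ha
  haveI : ∀ n, Injective (E.X n) := fun n => by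
    haveI := hI n
    exact Module.injective_object_of_injective_module R (E.X n)
  exact CochainComplex.isKInjective_of_injective E a

lemma hasFiniteInjDim_obj₃ (T : Triangle (Dual.D R)) (hT : T ∈ distinguishedTriangles)
    (h₁ : HasFiniteInjDim R T.obj₁) (h₂ : HasFiniteInjDim R T.obj₂) :
    HasFiniteInjDim R T.obj₃ := by
  obtain ⟨a₁, b₁, E₁, hz₁, hP₁, ⟨e₁⟩⟩ := h₁
  obtain ⟨a₂, b₂, E₂, hz₂, hP₂, ⟨e₂⟩⟩ := h₂
  haveI : E₂.IsKInjective := isKInjective_of_vanishes_injective E₂ a₂
    (fun i hi => hz₂ i (Or.inl hi)) hP₂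
  obtain ⟨f, ⟨e₃⟩⟩ := exists_cone_iso' T hT E₁ E₂ e₁ e₂
  refine ⟨min a₁ a₂ - 1, max b₁ b₂, CochainComplex.mappingCone f, ?_, ?_, ⟨e₃⟩⟩
  · intro i hi
    refine Groth.Agent.H3.PerfAux.mappingCone_X_isZero f i (hz₁ _ ?_) (hz₂ _ ?_)
    · rcases hi with hi | hi
      · left; have := min_le_left a₁ a₂; omega
      · right; have := le_max_left b₁ b₂; omega
    · rcases hi with hi | hi
      · left; have := min_le_right a₁ a₂; omega
      · right; have := le_max_right b₁ b₂; omega
  · intro i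
    have e : (CochainComplex.mappingCone f).X i ≅ E₁.X (i + 1) ⊞ E₂.X i :=
      HomologicalComplex.homotopyCofiber.XIsoBiprod f i (i + 1) rfl
    haveI : Injective (E₁.X (i + 1)) := by
      haveI := hP₁ (i + 1)
      exact Module.injective_object_of_injective_module R (E₁.X (i + 1))
    haveI : Injective (E₂.X i) := by
      haveI := hP₂ i
      exact Module.injective_object_of_injective_module R (E₂.X i)
    haveI : Injective ((CochainComplex.mappingCone f).X i) := Injective.of_iso e.symm inferInstance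
    exact Module.injective_module_of_injective_object R ((CochainComplex.mappingCone f).X i)

lemma hasFiniteInjDim_of_iso {K K' : Dual.D R} (e : K ≅ K') (h : HasFiniteInjDim R K) :
    HasFiniteInjDim R K' := by
  obtain ⟨a, b, E, hz, hP, ⟨e'⟩⟩ := h
  exact ⟨a, b, E, hz, hP, ⟨e' ≪≫ e⟩⟩

lemma hasFiniteInjDim_shift (K : Dual.D R) (n : ℤ) (h : HasFiniteInjDim R K) :
    HasFiniteInjDim R (K⟦n⟧) := by
  obtain ⟨a, b, E, hz, hP, ⟨e⟩⟩ := h
  refine ⟨a - n, b - n, E⟦n⟧, ?_, ?_,
    ⟨(DerivedCategory.Q.commShiftIso n).app E ≪≫ (shiftFunctor _ n).mapIso e⟩⟩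
  · intro i hi
    exact hz (i + n) (by omega)
  · intro i
    exact hP (i + n)

lemma hasFiniteInjDim_of_isZero (K : Dual.D R) (hK : IsZero K) : HasFiniteInjDim R K := by
  refine ⟨0, 0, 0, fun i _ => ?_, fun i => ?_, ⟨?_⟩⟩
  · exact (HomologicalComplex.eval _ _ i).map_isZero (isZero_zero _)
  · have hz : IsZero ((0 : Cx R).X i) :=
      (HomologicalComplex.eval _ _ i).map_isZero (isZero_zero _)
    haveI : Injective ((0 : Cx R).X i) := hz.injective
    exact Module.injective_module_of_injective_object R ((0 : Cx R).X i)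
  · exact (Q.map_isZero (isZero_zero _)).iso hK

theorem isTriSub_hasFiniteInjDim : IsTriSub (HasFiniteInjDim R) where
  iso := hasFiniteInjDim_of_iso
  zero := hasFiniteInjDim_of_isZero
  shift := hasFiniteInjDim_shift
  ext₂ := fun T hT h1 h3 =>
    hasFiniteInjDim_obj₃ T.invRotate (inv_rot_of_distTriang _ hT)
      (hasFiniteInjDim_shift _ (-1) h3) h1

theorem isTriSub_isPerfect : IsTriSub (IsPerfect R) where
  iso := isPerfect_of_iso
  zero := isPerfect_of_isZero
  shift := isPerfect_shift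
  ext₂ := fun T hT h1 h3 => (isPerfect_two_out_of_three T hT).2.1 h1 h3

end Groth.Agent.H4.DThick
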