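import Mathlib
import Groth.Prelude.Def_DRing2
import Groth.Agent.Lib.Helper3.PerfAux
set_option autoImplicit false
universe u
open CategoryTheory CategoryTheory.Limits

namespace Groth.Agent.H4.KHom

attribute [local instance] HasDerivedCategory.standard

variable {R : Type u} [CommRing R]

open DRing

lemma exact_elim (C : Cx R) (hC : C.Acyclic) (i j k : ℤ) (hij : i + 1 = j) (hjk : j + 1 = k)
    (x : C.X j) (hx : (C.d j k).hom x = 0) : ∃ y : C.X i, (C.d i j).hom y = x := by
  have h := hC j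
  rw [HomologicalComplex.exactAt_iff' C i j k (by simp; omega) (by simp; omega),
    ShortComplex.moduleCat_exact_iff] at h
  exact h x hx

theorem nullHomotopic (M C : Cx R) (hM : ∀ i : ℤ, 0 < i → IsZero (M.X i))
    (hM0 : Module.Projective R (M.X 0))
    (hC : C.Acyclic) (hC3 : ∀ i : ℤ, i ≤ -3 → IsZero (C.X i)) (t : M ⟶ C) :
    Nonempty (Homotopy t 0) := by
  classical
  -- step 0
  have hcomm : ∀ (i j : ℤ) (x : M.X i), (C.d i j).hom ((t.f i).hom x) = (t.f j).hom ((M.d i j).hom x) := by
    intro i j x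
    have := congrArg (fun ψ => ψ.hom x) (t.comm i j)
    exact this
  have hr0 : ∀ x : M.X 0, (t.f 0).hom x ∈ LinearMap.range (C.d (-1) 0).hom := by
    intro x
    apply exact_elim C hC (-1) 0 1 (by simp) (by simp)
    rw [hcomm]
    have : (M.d 0 1).hom x = 0 := by
      haveI := ModuleCat.subsingleton_of_isZero (hM 1 (by simp))
      exact Subsingleton.elim _ _
    rw [this, map_zero]
  obtain ⟨h0, hh0⟩ := Module.projective_lifting_property (LinearMap.rangeRestrict (C.d (-1) 0).hom)
    (LinearMap.codRestrict (LinearMap.range (C.d (-1) 0).hom) (t.f 0).hom hr0)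
    (LinearMap.surjective_rangeRestrict _)
  have hh0' : ∀ x : M.X 0, (C.d (-1) 0).hom (h0 x) = (t.f 0).hom x := by
    intro x
    have := congrArg Subtype.val (LinearMap.congr_fun hh0 x)
    simpa using this
  -- step 1
  have hinj : Function.Injective (C.d (-2) (-1)).hom := by
    rw [← LinearMap.ker_eq_bot, LinearMap.ker_eq_bot']
    intro z hz
    obtain ⟨w, hw⟩ := exact_elim C hC (-3) (-2) (-1) (by simp) (by simp) z hz
    haveI := ModuleCat.subsingleton_of_isZero (hC3 (-3) (by simp))
    rw [← hw, Subsingleton.elim w 0, map_zero]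
  let u : M.X (-1) →ₗ[R] C.X (-1) := (t.f (-1)).hom - h0 ∘ₗ (M.d (-1) 0).hom
  have hr1 : ∀ y : M.X (-1), u y ∈ LinearMap.range (C.d (-2) (-1)).hom := by
    intro y
    apply exact_elim C hC (-2) (-1) 0 (by simp) (by simp)
    simp only [u, LinearMap.sub_apply, LinearMap.comp_apply, map_sub, hh0', hcomm, sub_self]
  let h1 : M.X (-1) →ₗ[R] C.X (-2) :=
    (LinearEquiv.ofInjective (C.d (-2) (-1)).hom hinj).symm.toLinearMap ∘ₗ
      LinearMap.codRestrict _ u hr1
  have hh1 : ∀ y : M.X (-1), (C.d (-2) (-1)).hom (h1 y) = u y := by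
    intro y
    have := (LinearEquiv.ofInjective (C.d (-2) (-1)).hom hinj).apply_symm_apply
      (LinearMap.codRestrict _ u hr1 y)
    exact congrArg Subtype.val this
  have hC3' : ∀ i : ℤ, i ≤ -3 → ∀ {X : ModuleCat.{u} R} (f g : X ⟶ C.X i), f = g :=
    fun i hi X f g => (hC3 i hi).eq_of_tgt f g
  have hM' : ∀ i : ℤ, 0 < i → ∀ {X : ModuleCat.{u} R} (f g : M.X i ⟶ X), f = g :=
    fun i hi X f g => (hM i hi).eq_of_src f g
  refine ⟨{
    hom := fun i j =>
      if h : i = 0 ∧ j = -1 then
        (M.XIsoOfEq h.1).hom ≫ ModuleCat.ofHom h0 ≫ (C.XIsoOfEq h.2.symm).hom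
      else if h : i = -1 ∧ j = -2 then
        (M.XIsoOfEq h.1).hom ≫ ModuleCat.ofHom h1 ≫ (C.XIsoOfEq h.2.symm).hom
      else 0
    zero := ?_
    comm := ?_ }⟩
  · intro i j hij
    simp only [ComplexShape.up_Rel] at hij
    rw [dif_neg (by omega), dif_neg (by omega)]
  · intro i
    rw [dNext_eq _ (show (ComplexShape.up ℤ).Rel i (i + 1) by simp),
      prevD_eq _ (show (ComplexShape.up ℤ).Rel (i - 1) i by simp)]
    simp only [HomologicalComplex.zero_f, add_zero]
    by_cases hi0 : i = 0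
    · subst hi0
      rw [dif_neg (by omega), dif_neg (by omega), dif_pos (by omega)]
      ext x
      simp [HomologicalComplex.XIsoOfEq, hh0']
    by_cases hi1 : i = -1
    · subst hi1
      rw [dif_pos (by omega), dif_neg (by omega), dif_pos (by omega)]
      ext x
      simp [HomologicalComplex.XIsoOfEq, hh1, u]
    by_cases hi2 : i = -2
    · subst hi2
      rw [dif_neg (by omega), dif_pos (by omega), dif_neg (by omega), dif_neg (by omega)]
      ext x
      apply hinj
      have hdd : (M.d (-1) 0).hom ((M.d (-2) (-1)).hom x) = 0 := by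
        have := congrArg (fun ψ => ψ.hom x) (M.d_comp_d (-2) (-1) 0)
        exact this
      simp [HomologicalComplex.XIsoOfEq, hh1, u, hcomm, hdd]
    by_cases hi3 : i ≤ -3
    · exact hC3' i hi3 _ _
    · exact hM' i (by omega) _ _


open HomotopyCategory CategoryTheory.Pretriangulated

/-- the quotient functor to the homotopy category. -/
noncomputable abbrev Hq (R : Type u) [CommRing R] :=
  HomotopyCategory.quotient (ModuleCat.{u} R) (ComplexShape.up ℤ)

lemma hom_zero (M C : Cx R) (hM : ∀ i : ℤ, 0 < i → IsZero (M.X i))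
    (hM0 : Module.Projective R (M.X 0))
    (hC : C.Acyclic) (hC3 : ∀ i : ℤ, i ≤ -3 → IsZero (C.X i))
    (t : (Hq R).obj M ⟶ (Hq R).obj C) : t = 0 := by
  obtain ⟨t, rfl⟩ := (Hq R).map_surjective t
  obtain ⟨h⟩ := nullHomotopic M C hM hM0 hC hC3 t
  rw [HomotopyCategory.eq_of_homotopy _ _ h, Functor.map_zero]

lemma acyclic_mappingCone {K Y : Cx R} (s : K ⟶ Y) (hs : QuasiIso s) :
    (CochainComplex.mappingCone s).Acyclic := by
  rw [← quotient_obj_mem_subcategoryAcyclic_iff_acyclic]
  have h1 : (subcategoryAcyclic (ModuleCat.{u} R)).trW ((Hq R).map s) := by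
    rw [← quasiIso_eq_trW_subcategoryAcyclic, quotient_map_mem_quasiIso_iff]
    exact hs
  exact ((subcategoryAcyclic (ModuleCat.{u} R)).trW_iff_of_distinguished _
    (mappingCone_triangleh_distinguished s)).1 h1

lemma lift_of_quasiIso (M K Y : Cx R) (hM : ∀ i : ℤ, 0 < i → IsZero (M.X i))
    (hM0 : Module.Projective R (M.X 0)) (hK : ∀ i : ℤ, i ≤ -2 → IsZero (K.X i))
    (hY : ∀ i : ℤ, i ≤ -2 → IsZero (Y.X i)) (s : K ⟶ Y) (hs : QuasiIso s) :
    (∀ f : (Hq R).obj M ⟶ (Hq R).obj Y, ∃ g : (Hq R).obj M ⟶ (Hq R).obj K, f = g ≫ (Hq R).map s) ∧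
    (∀ g : (Hq R).obj M ⟶ (Hq R).obj K, g ≫ (Hq R).map s = 0 → g = 0) := by
  have hC := acyclic_mappingCone s hs
  have hC3 : ∀ i : ℤ, i ≤ -3 → IsZero ((CochainComplex.mappingCone s).X i) := fun i hi =>
    Groth.Agent.H3.PerfAux.mappingCone_X_isZero s i (hK _ (by omega)) (hY _ (by omega))
  have hT := mappingCone_triangleh_distinguished s
  constructor
  · intro f
    exact Triangle.coyoneda_exact₂ _ hT f (hom_zero M _ hM hM0 hC hC3 _)
  · intro g hg
    obtain ⟨t, ht⟩ := Triangle.coyoneda_exact₂ _ (inv_rot_of_distTriang _ hT) g hg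
    let e : ((Hq R).obj (CochainComplex.mappingCone s))⟦(-1 : ℤ)⟧ ≅
        (Hq R).obj ((CochainComplex.mappingCone s)⟦(-1 : ℤ)⟧) :=
      (((Hq R).commShiftIso (-1 : ℤ)).app (CochainComplex.mappingCone s)).symm
    have hC' : ((CochainComplex.mappingCone s)⟦(-1 : ℤ)⟧).Acyclic := by
      rw [← quotient_obj_mem_subcategoryAcyclic_iff_acyclic] at hC ⊢
      exact (subcategoryAcyclic (ModuleCat.{u} R)).prop_of_iso e
        ((subcategoryAcyclic (ModuleCat.{u} R)).le_shift (-1) _ hC)
    have ht0 : t = 0 := by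
      have : t ≫ e.hom = 0 := by
        apply hom_zero M _ hM hM0 hC'
        intro i hi
        exact hC3 (i + -1) (by omega)
      exact (cancel_mono e.hom).1 (this.trans zero_comp.symm)
    rw [ht, ht0]
    exact zero_comp


open DerivedCategory in
/-- `Hom_{K(R)}(M, K) → Hom_{D(R)}(M, K)` is bijective when `M` is concentrated in degrees `≤ 0`
with `M⁰` projective and `K` is concentrated in degrees `≥ -1`. -/
theorem bijective_Qh (M K : Cx R) (hM : ∀ i : ℤ, 0 < i → IsZero (M.X i))
    (hM0 : Module.Projective R (M.X 0)) (hK : ∀ i : ℤ, i ≤ -2 → IsZero (K.X i)) :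
    Function.Bijective (fun φ : (Hq R).obj M ⟶ (Hq R).obj K => DerivedCategory.Qh.map φ) := by
  haveI : K.IsStrictlyGE (-1) := by
    rw [CochainComplex.isStrictlyGE_iff]
    intro i hi
    exact hK i (by omega)
  constructor
  · intro g₁ g₂ h
    dsimp only at h
    have h0 : (Qh (C := ModuleCat.{u} R)).map (g₁ - g₂) = Qh.map 0 := by
      rw [Functor.map_sub, h, sub_self, Functor.map_zero]
    rw [MorphismProperty.map_eq_iff_postcomp Qh (HomotopyCategory.quasiIso _ _)] at h0
    obtain ⟨Z, s, hs, eq⟩ := h0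
    obtain ⟨Z, rfl⟩ := HomotopyCategory.quotient_obj_surjective Z
    obtain ⟨s, rfl⟩ := (Hq R).map_surjective s
    rw [quotient_map_mem_quasiIso_iff] at hs
    have e1 := CochainComplex.πTruncGE_naturality s (-1)
    have hq : QuasiIso (s ≫ CochainComplex.πTruncGE Z (-1)) := by
      rw [← e1]
      haveI : QuasiIso (CochainComplex.truncGEMap s (-1)) := by
        rw [CochainComplex.quasiIso_truncGEMap_iff]
        intro i _
        exact hs.quasiIsoAt i
      haveI := hs
      infer_instance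
    have hY : ∀ i : ℤ, i ≤ -2 → IsZero ((CochainComplex.truncGE Z (-1)).X i) := fun i hi =>
      CochainComplex.isZero_of_isStrictlyGE _ (-1) i (by omega)
    have := (lift_of_quasiIso M K _ hM hM0 hK hY _ hq).2 (g₁ - g₂) (by
      rw [Functor.map_comp, ← Category.assoc, eq, zero_comp, zero_comp])
    exact sub_eq_zero.1 this
  · intro φ
    obtain ⟨Y, hY, g, s, hs, fac⟩ := left_fac_of_isStrictlyGE
      ((quotientCompQhIso (ModuleCat.{u} R)).inv.app M ≫ φ ≫
        (quotientCompQhIso (ModuleCat.{u} R)).hom.app K) (-1)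
    rw [isIso_Q_map_iff_quasiIso] at hs
    have hY' : ∀ i : ℤ, i ≤ -2 → IsZero (Y.X i) := fun i hi =>
      CochainComplex.isZero_of_isStrictlyGE _ (-1) i (by omega)
    obtain ⟨g', hg'⟩ := (lift_of_quasiIso M K Y hM hM0 hK hY' s hs).1 ((Hq R).map g)
    refine ⟨g', ?_⟩
    haveI : IsIso (Q.map s) := by rw [isIso_Q_map_iff_quasiIso]; exact hs
    have h1 := congrArg (fun ψ => Qh.map ψ) hg'
    rw [Functor.map_comp] at h1
    have h2 := quotientCompQhIso_hom_naturality s
    have h3 := quotientCompQhIso_hom_naturality g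
    rw [← cancel_mono ((quotientCompQhIso (ModuleCat.{u} R)).hom.app K),
      ← cancel_epi ((quotientCompQhIso (ModuleCat.{u} R)).inv.app M), fac,
      ← cancel_mono (Q.map s)]
    simp only [Category.assoc, IsIso.inv_hom_id, Category.comp_id]
    rw [← h2, ← Category.assoc (Qh.map g'), ← h1, h3]
    simp

end Groth.Agent.H4.KHom
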