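import Mathlib
import Groth.Agent.H4.KHom
set_option autoImplicit false
universe u
open CategoryTheory CategoryTheory.Limits

namespace Groth.Agent.H4.KHom

attribute [local instance] HasDerivedCategory.standard

variable {R : Type u} [CommRing R]

open DRing DerivedCategory

theorem exists_Q_map_eq (M K : Cx R) (hM : ∀ i : ℤ, 0 < i → IsZero (M.X i))
    (hM0 : Module.Projective R (M.X 0)) (hK : ∀ i : ℤ, i ≤ -2 → IsZero (K.X i))
    (φ : Q.obj M ⟶ Q.obj K) : ∃ f : M ⟶ K, Q.map f = φ := by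
  obtain ⟨g, hg⟩ := (bijective_Qh M K hM hM0 hK).2
    ((quotientCompQhIso (ModuleCat.{u} R)).hom.app M ≫ φ ≫
      (quotientCompQhIso (ModuleCat.{u} R)).inv.app K)
  obtain ⟨f, rfl⟩ := (Hq R).map_surjective g
  refine ⟨f, ?_⟩
  dsimp only at hg
  have h3 := quotientCompQhIso_hom_naturality f
  rw [hg] at h3
  simp only [Category.assoc, Iso.inv_hom_id_app, Category.comp_id] at h3
  exact ((cancel_epi _).1 h3).symm

theorem homotopy_of_Q_map_eq_zero (M K : Cx R) (hM : ∀ i : ℤ, 0 < i → IsZero (M.X i))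
    (hM0 : Module.Projective R (M.X 0)) (hK : ∀ i : ℤ, i ≤ -2 → IsZero (K.X i))
    (f : M ⟶ K) (hf : Q.map f = 0) : Nonempty (Homotopy f 0) := by
  have h3 := quotientCompQhIso_hom_naturality f
  rw [hf, comp_zero] at h3
  have h4 : Qh.map ((Hq R).map f) = Qh.map ((Hq R).map (0 : M ⟶ K)) := by
    rw [Functor.map_zero, Functor.map_zero]
    exact (cancel_mono ((quotientCompQhIso (ModuleCat.{u} R)).hom.app K)).1 (h3.trans zero_comp.symm)
  exact ⟨HomotopyCategory.homotopyOfEq _ _ ((bijective_Qh M K hM hM0 hK).1 h4)⟩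

end Groth.Agent.H4.KHom
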