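import Mathlib
import Groth.Agent.H4.KHom2
set_option autoImplicit false
universe u
open CategoryTheory CategoryTheory.Limits

namespace Groth.Agent.H4.KHom

attribute [local instance] HasDerivedCategory.standard

variable {R : Type u} [CommRing R]

open DRing DerivedCategory

/-- `N[1]` as an honest complex. -/
noncomputable abbrev sh (N : ModuleCat.{u} R) : Cx R :=
  (HomologicalComplex.single (ModuleCat.{u} R) (ComplexShape.up ℤ) (-1)).obj N

/-- comparison of `N[1]` with `(inD N)⟦1⟧`. -/
noncomputable def shIso (N : ModuleCat.{u} R) :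
    ((singleFunctor (ModuleCat.{u} R) 0).obj N)⟦(1 : ℤ)⟧ ≅ Q.obj (sh N) :=
  ((singleFunctors (ModuleCat.{u} R)).shiftIso 1 (-1) 0 (by simp)).app N ≪≫
    (singleFunctorIsoCompQ (ModuleCat.{u} R) (-1)).app N

lemma sh_isZero (N : ModuleCat.{u} R) (i : ℤ) (hi : i ≠ -1) : Limits.IsZero ((sh N).X i) :=
  HomologicalComplex.isZero_single_obj_X _ _ _ _ hi

/-- a chain map to `N[1]` whose degree `-1` component factors through the differential is
null-homotopic. -/
lemma homotopy_to_sh (M : Cx R) (N : ModuleCat.{u} R) (y : M ⟶ sh N)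
    (g : M.X 0 ⟶ (sh N).X (-1)) (hy : y.f (-1) = M.d (-1) 0 ≫ g) : Nonempty (Homotopy y 0) := by
  classical
  refine ⟨{
    hom := fun i j => if hij : i = 0 ∧ j = -1 then
        (M.XIsoOfEq hij.1).hom ≫ g ≫ ((sh N).XIsoOfEq hij.2.symm).hom
      else 0
    zero := ?_
    comm := ?_ }⟩
  · intro i j hij
    simp only [ComplexShape.up_Rel] at hij
    rw [dif_neg (by omega)]
  · intro i
    by_cases hi : i = -1
    · subst hi
      rw [dNext_eq _ (show (ComplexShape.up ℤ).Rel (-1) 0 by simp),
        prevD_eq _ (show (ComplexShape.up ℤ).Rel (-2) (-1) by simp),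
        dif_pos (by omega), dif_neg (by omega)]
      simp [HomologicalComplex.XIsoOfEq, hy]
    · exact (sh_isZero _ i hi).eq_of_tgt _ _

/-- conversely, for `M` with projective top, a chain map to `N[1]` which vanishes in `D(R)` has
its degree `-1` component factoring through the differential. -/
lemma exists_factor_of_Q_map_eq_zero (M : Cx R) (hM : ∀ i : ℤ, 0 < i → IsZero (M.X i))
    (hM0 : Module.Projective R (M.X 0)) (N : ModuleCat.{u} R) (y : M ⟶ sh N)
    (hy : Q.map y = 0) : ∃ g : M.X 0 ⟶ (sh N).X (-1), y.f (-1) = M.d (-1) 0 ≫ g := by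
  obtain ⟨Ho⟩ := homotopy_of_Q_map_eq_zero M (sh N) hM hM0
    (fun i hi => sh_isZero N i (by omega)) _ hy
  have h3 := Ho.comm (-1)
  rw [dNext_eq _ (show (ComplexShape.up ℤ).Rel (-1) 0 by simp),
    prevD_eq _ (show (ComplexShape.up ℤ).Rel (-2) (-1) by simp)] at h3
  have hd : (sh N).d (-2) (-1) = 0 := HomologicalComplex.single_obj_d _ _ _ _ _
  rw [hd, Limits.comp_zero, add_zero, HomologicalComplex.zero_f, add_zero] at h3
  exact ⟨Ho.hom 0 (-1), h3⟩

/-- the tautological chain map `E → E⁻¹[1]` for `E` vanishing in degrees `< -1`. -/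
noncomputable def toSh (E : Cx R) (hE : ∀ i : ℤ, i < -1 → IsZero (E.X i)) : E ⟶ sh (E.X (-1)) :=
  HomologicalComplex.mkHomToSingle (𝟙 _) (by
    intro j hj
    simp only [ComplexShape.up_Rel] at hj
    exact (hE j (by omega)).eq_of_src _ _)

lemma toSh_f (E : Cx R) (hE : ∀ i : ℤ, i < -1 → IsZero (E.X i)) :
    (toSh E hE).f (-1) = (HomologicalComplex.singleObjXSelf (ComplexShape.up ℤ) (-1) (E.X (-1))).inv := by
  rw [toSh, HomologicalComplex.mkHomToSingle_f, Category.id_comp]

end Groth.Agent.H4.KHom
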