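import Mathlib
import Groth.Agent.H4.ProjAmp2
import Groth.Agent.S7077
set_option autoImplicit false
universe u
open CategoryTheory CategoryTheory.Limits CategoryTheory.Pretriangulated

namespace Groth.Agent.H4.ProjAmp

attribute [local instance] HasDerivedCategory.standard

variable {R : Type u} [CommRing R]

open DRing DerivedCategory Groth.Agent.H4.TwoTerm Groth.Agent.H4.DRing1

/-- base case in degree `0`. -/
lemma base0 (K : Dual.D R) [K.IsGE (-1)] [K.IsLE 0]
    (hK : ∀ (M : Type u) [AddCommGroup M] [Module R M], Subsingleton (K ⟶ (Dual.inD R M)⟦(1 : ℤ)⟧)) :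
    ∃ (Y : ModuleCat.{u} R) (_ : Module.Projective R Y),
      Nonempty (K ≅ (singleFunctor (ModuleCat.{u} R) 0).obj Y) := by
  have h := (Groth.Agent.S7077.result K (fun i h1 h0 => by
    by_cases hi : i < -1
    · exact ModuleCat.subsingleton_of_isZero (isZero_of_isGE K (-1) i hi)
    · exact ModuleCat.subsingleton_of_isZero (isZero_of_isLE K 0 i (by omega)))).2 hK
  obtain ⟨h1, h0⟩ := h
  haveI : K.IsGE 0 := by
    rw [isGE_iff]
    intro i hi
    by_cases hi' : i = -1
    · subst hi'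
      exact ModuleCat.isZero_of_subsingleton _
    · exact isZero_of_isGE K (-1) i (by omega)
  obtain ⟨Y, ⟨e⟩⟩ := exists_iso_singleFunctor_obj_of_isGE_of_isLE K 0
  have eY : (homologyFunctor (ModuleCat.{u} R) 0).obj K ≅ Y :=
    (homologyFunctor (ModuleCat.{u} R) 0).mapIso e ≪≫
      (singleFunctorCompHomologyFunctorIso (ModuleCat.{u} R) 0).app Y
  exact ⟨Y, Module.Projective.of_equiv eY.toLinearEquiv, ⟨e⟩⟩

/-- base case in degree `a`. -/
lemma baseA (a : ℤ) (K : Dual.D R) [K.IsGE (a - 1)] [K.IsLE a]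
    (hK : ∀ (M : Type u) [AddCommGroup M] [Module R M],
      Subsingleton (K ⟶ (Dual.inD R M)⟦(-a + 1 : ℤ)⟧)) :
    ∃ (Y : ModuleCat.{u} R) (_ : Module.Projective R Y),
      Nonempty (K ≅ (singleFunctor (ModuleCat.{u} R) a).obj Y) := by
  haveI : (K⟦a⟧).IsGE (-1) := TStructure.t.isGE_shift K (a - 1) a (-1) (by omega)
  haveI : (K⟦a⟧).IsLE 0 := TStructure.t.isLE_shift K a a 0 (by omega)
  obtain ⟨Y, hY, ⟨e⟩⟩ := base0 (K⟦a⟧) (by
    intro M _ _
    refine ⟨fun φ ψ => ?_⟩
    suffices H : ∀ φ : K⟦a⟧ ⟶ (Dual.inD R M)⟦(1 : ℤ)⟧, φ = 0 from (H φ).trans (H ψ).symm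
    intro φ
    apply (shiftFunctor (Dual.D R) (-a)).map_injective
    rw [Functor.map_zero]
    have h1 := (hK M).elim ((shiftFunctorCompIsoId (Dual.D R) a (-a) (by simp)).inv.app K ≫
      (shiftFunctor (Dual.D R) (-a)).map φ ≫
      (shiftFunctorAdd' (Dual.D R) 1 (-a) (-a + 1) (by omega)).inv.app (Dual.inD R M)) 0
    have := congrArg (fun ψ => (shiftFunctorCompIsoId (Dual.D R) a (-a) (by simp)).hom.app K ≫ ψ ≫
      (shiftFunctorAdd' (Dual.D R) 1 (-a) (-a + 1) (by omega)).hom.app (Dual.inD R M)) h1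
    simp only [Category.assoc, Iso.inv_hom_id_app, Category.comp_id, Iso.hom_inv_id_app_assoc,
      zero_comp, comp_zero] at this
    exact (Category.comp_id _).symm.trans this)
  refine ⟨Y, hY, ⟨?_⟩⟩
  exact (shiftFunctorCompIsoId (Dual.D R) a (-a) (by simp)).symm.app K ≪≫
    (shiftFunctor (Dual.D R) (-a)).mapIso e ≪≫
    ((singleFunctors (ModuleCat.{u} R)).shiftIso (-a) a 0 (by simp)).app Y

lemma projective_sgl_X (Y : ModuleCat.{u} R) [Module.Projective R Y] (a i : ℤ) :
    Module.Projective R ((sgl Y a).X i) := by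
  by_cases hi : i = a
  · subst hi
    exact Module.Projective.of_equiv
      (HomologicalComplex.singleObjXSelf (ComplexShape.up ℤ) i Y).toLinearEquiv.symm
  · haveI : Subsingleton ((sgl Y a).X i) :=
      ModuleCat.subsingleton_of_isZero (HomologicalComplex.isZero_single_obj_X _ _ _ _ hi)
    infer_instance

open ZeroObject in
/-- a zero object has projective amplitude in any interval. -/
lemma exists_rep_of_isZero (K : Dual.D R) (hK : IsZero K) (a b : ℤ) :
    ∃ P : Cx R, VanishesOutside P a b ∧ (∀ i : ℤ, Module.Projective R (P.X i)) ∧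
      Nonempty (toD P ≅ K) := by
  refine ⟨0, fun i _ => ?_, fun i => ?_, ⟨(Q.map_isZero (isZero_zero _)).iso hK⟩⟩
  · exact (HomologicalComplex.eval _ _ i).map_isZero (isZero_zero _)
  · haveI : Subsingleton ((0 : Cx R).X i) := ModuleCat.subsingleton_of_isZero
      ((HomologicalComplex.eval _ _ i).map_isZero (isZero_zero _))
    infer_instance

/-- if `b < a`, condition (4) forces `K = 0`. -/
lemma isZero_of_lt (a b : ℤ) (hab : b < a) (K : Dual.D R) [K.IsGE (a - 1)] [K.IsLE b]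
    (hK : ∀ (M : Type u) [AddCommGroup M] [Module R M],
      Subsingleton (K ⟶ (Dual.inD R M)⟦(-a + 1 : ℤ)⟧)) : IsZero K := by
  haveI : K.IsLE (a - 2) := by
    rw [isLE_iff]
    intro i hi
    by_cases hi' : i = a - 1
    · subst hi'
      exact isZero_homology_of_ext_vanishing K (-a + 1) (a - 1) (by omega) hK
    · exact isZero_of_isLE K b i (by omega)
  exact TStructure.t.isZero K (a - 2) (a - 1) (by omega)

open CochainComplex (mappingCone)

set_option maxHeartbeats 800000 in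
/-- (4) ⇒ (1) of the projective amplitude criterion, by induction on the length. -/
theorem exists_projective_rep (m : ℕ) : ∀ (a b : ℤ) (K : Dual.D R), b - a < m →
    K.IsGE (a - 1) → K.IsLE b →
    (∀ (M : Type u) [AddCommGroup M] [Module R M],
      Subsingleton (K ⟶ (Dual.inD R M)⟦(-a + 1 : ℤ)⟧)) →
    ∃ P : Cx R, VanishesOutside P a b ∧ (∀ i : ℤ, Module.Projective R (P.X i)) ∧
      Nonempty (toD P ≅ K) := by
  induction m with
  | zero =>
    intro a b K hab hGE hLE hK
    exact exists_rep_of_isZero K (isZero_of_lt a b (by simpa using hab) K hK) a b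
  | succ m ih =>
    intro a b K hab hGE hLE hK
    by_cases h1 : b < a
    · exact exists_rep_of_isZero K (isZero_of_lt a b h1 K hK) a b
    by_cases h2 : b = a
    · subst h2
      obtain ⟨Y, hY, ⟨e⟩⟩ := baseA b K hK
      refine ⟨sgl Y b, ?_, fun i => projective_sgl_X Y b i,
        ⟨(singleFunctorIsoCompQ (ModuleCat.{u} R) b).symm.app Y ≪≫ e.symm⟩⟩
      intro i hi
      exact HomologicalComplex.isZero_single_obj_X _ _ _ _ (by omega)
    -- inductive step: `a < b`
    have hab' : a < b := by omega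
    obtain ⟨F, hF, T, hT, e₁, e₂, hC⟩ := exists_triangle_kill_top K b
    haveI : T.obj₂.IsGE (a - 1) := TStructure.t.isGE_of_iso e₂ (a - 1)
    haveI : T.obj₁.IsGE b := TStructure.t.isGE_of_iso e₁ b
    haveI : T.obj₁.IsLE b := TStructure.t.isLE_of_iso e₁ b
    -- the cone satisfies (4) for `[a, b - 1]`
    have hCGE : T.obj₃.IsGE (a - 1) := by
      rw [isGE_iff]
      intro i hi
      refine isZero_homology_obj₃ T hT i (i + 1) rfl ?_ ?_
      · exact ⟨fun _ _ _ => (isZero_of_isGE T.obj₂ (a - 1) i hi).eq_of_src _ _⟩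
      · exact ⟨fun _ _ _ => (isZero_of_isGE T.obj₁ b (i + 1) (by omega)).eq_of_tgt _ _⟩
    have hCExt : ∀ (M : Type u) [AddCommGroup M] [Module R M],
        Subsingleton (T.obj₃ ⟶ (Dual.inD R M)⟦(-a + 1 : ℤ)⟧) := by
      intro M _ _
      refine ⟨fun φ ψ => ?_⟩
      suffices H : ∀ ξ : T.obj₃ ⟶ (Dual.inD R M)⟦(-a + 1 : ℤ)⟧, ξ = 0 from (H φ).trans (H ψ).symm
      intro ξ
      have h3 : T.mor₂ ≫ ξ = 0 := by
        have := (hK M).elim (e₂.hom ≫ T.mor₂ ≫ ξ) 0
        rw [← cancel_epi e₂.hom, this, comp_zero]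
      obtain ⟨θ, hθ⟩ := Triangle.yoneda_exact₃ T hT ξ h3
      -- `θ = 0`
      let P₁ : Cx R := sgl F (b - 1)
      let ι : toD P₁ ≅ T.obj₁⟦(1 : ℤ)⟧ :=
        (singleFunctorIsoCompQ (ModuleCat.{u} R) (b - 1)).symm.app F ≪≫
          (((singleFunctors (ModuleCat.{u} R)).shiftIso 1 (b - 1) b (by omega)).app F).symm ≪≫
          (shiftFunctor (Dual.D R) (1 : ℤ)).mapIso e₁
      haveI : ((Dual.inD R M)⟦(-a + 1 : ℤ)⟧).IsLE (a - 1) :=
        TStructure.t.isLE_shift (Dual.inD R M) 0 (-a + 1) (a - 1) (by omega)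
      haveI : ((Dual.inD R M)⟦(-a + 1 : ℤ)⟧).IsLE (b - 1 - 1) :=
        TStructure.t.isLE_of_le _ (a - 1) (b - 1 - 1) (by omega)
      haveI : Module.Projective R F := inferInstance
      have := hom_eq_zero_of_projective P₁ (b - 1) (b - 1)
        (fun i hi => HomologicalComplex.isZero_single_obj_X _ _ _ _ (by omega))
        (fun i => projective_sgl_X F (b - 1) i) _ (ι.hom ≫ θ)
      have hθ0 : θ = 0 := by
        rw [← cancel_epi ι.hom, this, comp_zero]
      rw [hθ, hθ0, comp_zero]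
    obtain ⟨P', hP', hproj', ⟨eC⟩⟩ := ih a (b - 1) T.obj₃ (by omega) hCGE hC hCExt
    -- reconstruct `K`
    haveI : P'.IsKProjective := isKProjective_of_vanishesAbove_projective P' (b - 1)
      (fun i hi => hP' i (Or.inr hi)) hproj'
    obtain ⟨f, ⟨e₃⟩⟩ := exists_cone_iso T.invRotate (inv_rot_of_distTriang _ hT)
      (P'⟦(-1 : ℤ)⟧) (sgl F b)
      ((Q.commShiftIso (-1 : ℤ)).app P' ≪≫ (shiftFunctor (Dual.D R) (-1 : ℤ)).mapIso eC)
      ((singleFunctorIsoCompQ (ModuleCat.{u} R) b).symm.app F ≪≫ e₁)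
    refine ⟨mappingCone f, ?_, ?_, ⟨e₃ ≪≫ e₂.symm⟩⟩
    · intro i hi
      refine Groth.Agent.H3.PerfAux.mappingCone_X_isZero f i ?_ ?_
      · exact hP' (i + 1 + -1) (by omega)
      · exact HomologicalComplex.isZero_single_obj_X _ _ _ _ (by omega)
    · intro i
      have e : (mappingCone f).X i ≅ (P'⟦(-1 : ℤ)⟧).X (i + 1) ⊞ (sgl F b).X i :=
        HomologicalComplex.homotopyCofiber.XIsoBiprod f i (i + 1) rfl
      have e' := (e ≪≫ ModuleCat.biprodIsoProd _ _).toLinearEquiv
      haveI : Module.Projective R ((P'⟦(-1 : ℤ)⟧).X (i + 1)) := hproj' (i + 1 + -1)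
      haveI := projective_sgl_X F b i
      exact Module.Projective.of_equiv e'.symm

/-- (1) ⇒ (2). -/
theorem ext_subsingleton_of_rep (P : Cx R) (a b : ℤ) (hP : VanishesOutside P a b)
    (hproj : ∀ i : ℤ, Module.Projective R (P.X i)) (K : Dual.D R) (ε : toD P ≅ K)
    (N : ModuleCat.{u} R) (i : ℤ) (hi : i < -b ∨ -a < i) :
    Subsingleton (K ⟶ ((singleFunctor (ModuleCat.{u} R) 0).obj N)⟦i⟧) := by
  refine ⟨fun φ ψ => ?_⟩
  suffices H : ∀ φ : K ⟶ ((singleFunctor (ModuleCat.{u} R) 0).obj N)⟦i⟧, φ = 0 from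
    (H φ).trans (H ψ).symm
  intro φ
  haveI : P.IsKProjective := isKProjective_of_vanishesAbove_projective P b
    (fun i hi => hP i (Or.inr hi)) hproj
  obtain ⟨f, hf⟩ := Groth.Agent.H3.PerfAux.exists_map_of_isKProjective P (sgl N (-i))
    (ε.hom ≫ φ ≫ (shI N i (-i) (by simp)).hom)
  have hf0 : f = 0 := by
    apply HomologicalComplex.hom_ext
    intro j
    by_cases hj : j = -i
    · subst hj
      exact (hP (-i) (by omega)).eq_of_src _ _
    · exact (HomologicalComplex.isZero_single_obj_X _ _ _ _ hj).eq_of_tgt _ _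
  rw [hf0, Functor.map_zero] at hf
  have : φ = ε.inv ≫ (ε.hom ≫ φ ≫ (shI N i (-i) (by simp)).hom) ≫ (shI N i (-i) (by simp)).inv := by
    simp only [Category.assoc, Iso.hom_inv_id, Category.comp_id, Iso.inv_hom_id_assoc]
  rw [this, ← hf, zero_comp, comp_zero]

end Groth.Agent.H4.ProjAmp
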