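import Mathlib
import Groth.Agent.H4.ProjAmp3
set_option autoImplicit false
universe u
open CategoryTheory CategoryTheory.Limits CategoryTheory.Pretriangulated

namespace Groth.Agent.H4.ProjAmp

attribute [local instance] HasDerivedCategory.standard

variable {R : Type u} [CommRing R]

open DRing DerivedCategory Groth.Agent.H4.TwoTerm Groth.Agent.H4.DRing1

/-- the canonical t-structure on `D(R)`. -/
noncomputable abbrev tR (R : Type u) [CommRing R] : Triangulated.TStructure (Dual.D R) :=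
  DerivedCategory.TStructure.t

/-- the third map of a distinguished triangle `A → K → B →` vanishes when `B` is a bounded above
complex of projectives in degrees `≥ c` and `A ∈ D^{≤ c}`. -/
lemma mor₃_eq_zero (T : Triangle (Dual.D R)) (P : Cx R) (c b : ℤ)
    (hP : VanishesOutside P c b) (hproj : ∀ i : ℤ, Module.Projective R (P.X i))
    (ε : toD P ≅ T.obj₃) [T.obj₁.IsLE c] : T.mor₃ = 0 := by
  haveI : (T.obj₁⟦(1 : ℤ)⟧).IsLE (c - 1) := TStructure.t.isLE_shift T.obj₁ c 1 (c - 1) (by omega)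
  have := hom_eq_zero_of_projective P c b hP hproj _ (ε.hom ≫ T.mor₃)
  rw [← cancel_epi ε.hom, this, comp_zero]

/-- `τ_{≥ a+1} K` has projective amplitude in `[a+1, b₀]` as soon as `Hom(τ_{≥ a+1} K, M[-a]) = 0`
for all modules `M`. -/
lemma exists_rep_truncGE (a b₀ : ℤ) (K : Dual.D R) [K.IsLE b₀]
    (hExt : ∀ (M : Type u) [AddCommGroup M] [Module R M],
      Subsingleton (((tR R).truncGE (a + 1)).obj K ⟶ (Dual.inD R M)⟦(-a : ℤ)⟧)) :
    ∃ (P : Cx R), VanishesOutside P (a + 1) b₀ ∧ (∀ i : ℤ, Module.Projective R (P.X i)) ∧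
      Nonempty (toD P ≅ ((tR R).truncGE (a + 1)).obj K) := by
  haveI : (((tR R).truncGE (a + 1)).obj K).IsGE (a + 1 - 1) :=
    (tR R).isGE_of_ge _ (a + 1 - 1) (a + 1) (by omega)
  haveI : (((tR R).truncGE (a + 1)).obj K).IsLE b₀ :=
    inferInstanceAs ((tR R).IsLE (((tR R).truncGE (a + 1)).obj K) b₀)
  refine exists_projective_rep (b₀ - (a + 1) + 1).toNat (a + 1) b₀ _ (by
      have := Int.self_le_toNat (b₀ - (a + 1) + 1)
      omega) inferInstance inferInstance ?_
  intro M _ _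
  have h : (-(a + 1) + 1 : ℤ) = -a := by ring
  rw [h]
  exact hExt M

lemma triangleLTGE_dist (n : ℤ) (K : Dual.D R) :
    Triangle.mk (((tR R).truncLTι n).app K) (((tR R).truncGEπ n).app K)
      (((tR R).truncGEδLT n).app K) ∈ distinguishedTriangles :=
  (tR R).triangleLTGE_distinguished n K

/-- a morphism `τ_{≥ a+1} K → Y` with `Y ∈ D^{≥ a}` vanishes as soon as its restriction to `K`
does. -/
lemma eq_zero_of_truncGEπ_comp (a : ℤ) (K Y : Dual.D R) [Y.IsGE a]
    (ξ : ((tR R).truncGE (a + 1)).obj K ⟶ Y) (h : ((tR R).truncGEπ (a + 1)).app K ≫ ξ = 0) :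
    ξ = 0 := by
  obtain ⟨θ, hθ⟩ : ∃ θ : (((tR R).truncLT (a + 1)).obj K)⟦(1 : ℤ)⟧ ⟶ Y,
      ξ = ((tR R).truncGEδLT (a + 1)).app K ≫ θ :=
    Triangle.yoneda_exact₃ _ (triangleLTGE_dist (a + 1) K) ξ h
  haveI : ((((tR R).truncLT (a + 1)).obj K)⟦(1 : ℤ)⟧).IsLE (a - 1) :=
    (tR R).isLE_shift (((tR R).truncLT (a + 1)).obj K) a 1 (a - 1) (by omega)
  have : θ = 0 := (tR R).zero θ (a - 1) a (by omega)
  rw [hθ, this]
  exact comp_zero

instance (M : Type u) [AddCommGroup M] [Module R M] (a : ℤ) :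
    ((Dual.inD R M)⟦(-a : ℤ)⟧).IsGE a :=
  (tR R).isGE_shift (Dual.inD R M) 0 (-a) a (by omega)

lemma isIso_homology_truncLTι (n i : ℤ) (hi : i < n) (K : Dual.D R) :
    IsIso ((homologyFunctor (ModuleCat.{u} R) i).map (((tR R).truncLTι n).app K)) := by
  haveI : (Triangle.mk (((tR R).truncLTι n).app K) (((tR R).truncGEπ n).app K)
      (((tR R).truncGEδLT n).app K)).obj₃.IsGE n :=
    inferInstanceAs ((tR R).IsGE (((tR R).truncGE n).obj K) n)
  exact isIso_homology_mor₁ _ (triangleLTGE_dist n K) n i hi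

/-- `τ_{<a} K → τ_{<a+1} K` is an isomorphism when `H^a(K) = 0`. -/
lemma isIso_natTransTruncLTOfLE (a : ℤ) (K : Dual.D R)
    (hK : IsZero ((homologyFunctor (ModuleCat.{u} R) a).obj K)) :
    IsIso (((tR R).natTransTruncLTOfLE a (a + 1) (by omega)).app K) := by
  rw [isIso_iff]
  intro i
  have hcomp := (tR R).natTransTruncLTOfLE_ι_app a (a + 1) (by omega) K
  have h1 := congrArg (fun φ => (homologyFunctor (ModuleCat.{u} R) i).map φ) hcomp
  simp only [Functor.map_comp] at h1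
  by_cases hi : i < a
  · -- both truncation maps are isomorphisms on `H^i`
    haveI : IsIso ((homologyFunctor (ModuleCat.{u} R) i).map (((tR R).truncLTι a).app K)) :=
      isIso_homology_truncLTι a i hi K
    haveI : IsIso ((homologyFunctor (ModuleCat.{u} R) i).map (((tR R).truncLTι (a + 1)).app K)) :=
      isIso_homology_truncLTι (a + 1) i (by omega) K
    exact IsIso.of_isIso_fac_right h1
  · -- source and target vanish
    have hs : IsZero ((homologyFunctor (ModuleCat.{u} R) i).obj (((tR R).truncLT a).obj K)) :=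
      isZero_of_isLE _ (a - 1) i (by omega)
    have ht : IsZero ((homologyFunctor (ModuleCat.{u} R) i).obj
        (((tR R).truncLT (a + 1)).obj K)) := by
      by_cases hia : i = a
      · subst hia
        haveI : IsIso ((homologyFunctor (ModuleCat.{u} R) i).map
            (((tR R).truncLTι (i + 1)).app K)) :=
          isIso_homology_truncLTι (i + 1) i (by omega) K
        exact hK.of_iso (asIso ((homologyFunctor (ModuleCat.{u} R) i).map
            (((tR R).truncLTι (i + 1)).app K)))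
      · exact isZero_of_isLE _ a i (by omega)
    exact ⟨⟨0, hs.eq_of_src _ _, ht.eq_of_src _ _⟩⟩

/-- splitting `K ≅ τ_{<a+1} K ⊕ τ_{≥a+1} K` when `τ_{≥a+1} K` is a bounded above complex of
projectives in degrees `≥ a+1`. -/
theorem split_LT_GE (a : ℤ) (K : Dual.D R) (P : Cx R) (b : ℤ)
    (hP : VanishesOutside P (a + 1) b) (hproj : ∀ i : ℤ, Module.Projective R (P.X i))
    (ε : toD P ≅ ((tR R).truncGE (a + 1)).obj K) :
    ∃ e : K ≅ ((tR R).truncLT (a + 1)).obj K ⊞ ((tR R).truncGE (a + 1)).obj K,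
      ((tR R).truncLTι (a + 1)).app K ≫ e.hom = biprod.inl ∧
        e.hom ≫ biprod.snd = ((tR R).truncGEπ (a + 1)).app K := by
  let T := Triangle.mk (((tR R).truncLTι (a + 1)).app K) (((tR R).truncGEπ (a + 1)).app K)
      (((tR R).truncGEδLT (a + 1)).app K)
  haveI : T.obj₁.IsLE (a + 1) :=
    (tR R).isLE_of_le (((tR R).truncLT (a + 1)).obj K) a (a + 1) (by omega)
  have h0 : T.mor₃ = 0 := mor₃_eq_zero T P (a + 1) b hP hproj ε
  obtain ⟨e, he1, he2⟩ := exists_iso_binaryBiproduct_of_distTriang T (triangleLTGE_dist (a + 1) K) h0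
  exact ⟨e, he1, he2.symm⟩

/-- splitting `K ≅ τ_{<a} K ⊕ τ_{≥a+1} K` when moreover `H^a(K) = 0`. -/
theorem split_LT_GE_succ (a : ℤ) (K : Dual.D R)
    (hK : IsZero ((homologyFunctor (ModuleCat.{u} R) a).obj K)) (P : Cx R) (b : ℤ)
    (hP : VanishesOutside P (a + 1) b) (hproj : ∀ i : ℤ, Module.Projective R (P.X i))
    (ε : toD P ≅ ((tR R).truncGE (a + 1)).obj K) :
    ∃ e : K ≅ ((tR R).truncLT a).obj K ⊞ ((tR R).truncGE (a + 1)).obj K,
      ((tR R).truncLTι a).app K ≫ e.hom = biprod.inl ∧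
        e.hom ≫ biprod.snd = ((tR R).truncGEπ (a + 1)).app K := by
  obtain ⟨u, hu, hcomp⟩ : ∃ u : ((tR R).truncLT a).obj K ⟶ ((tR R).truncLT (a + 1)).obj K,
      IsIso u ∧ u ≫ ((tR R).truncLTι (a + 1)).app K = ((tR R).truncLTι a).app K :=
    ⟨_, isIso_natTransTruncLTOfLE a K hK, (tR R).natTransTruncLTOfLE_ι_app a (a + 1) (by omega) K⟩
  haveI := hu
  let T := Triangle.mk (((tR R).truncLTι a).app K) (((tR R).truncGEπ (a + 1)).app K)
      (((tR R).truncGEδLT (a + 1)).app K ≫ (inv u)⟦(1 : ℤ)⟧')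
  have hT : T ∈ distinguishedTriangles := by
    refine isomorphic_distinguished _ (triangleLTGE_dist (a + 1) K) _
      (Triangle.isoMk _ _ (@asIso _ _ _ _ u hu) (Iso.refl _) (Iso.refl _) ?_ ?_ ?_)
    · change ((tR R).truncLTι a).app K ≫ 𝟙 _ = u ≫ ((tR R).truncLTι (a + 1)).app K
      rw [hcomp, Category.comp_id]
    · change ((tR R).truncGEπ (a + 1)).app K ≫ 𝟙 _ = 𝟙 _ ≫ ((tR R).truncGEπ (a + 1)).app K
      rw [Category.comp_id, Category.id_comp]
    · change (((tR R).truncGEδLT (a + 1)).app K ≫ (inv u)⟦(1 : ℤ)⟧') ≫ u⟦(1 : ℤ)⟧' =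
        𝟙 _ ≫ ((tR R).truncGEδLT (a + 1)).app K
      rw [Category.assoc, ← Functor.map_comp, IsIso.inv_hom_id, CategoryTheory.Functor.map_id]
      exact (Category.comp_id _).trans (Category.id_comp _).symm
  haveI : T.obj₁.IsLE (a + 1) :=
    (tR R).isLE_of_le (((tR R).truncLT a).obj K) (a - 1) (a + 1) (by omega)
  have h0 : T.mor₃ = 0 := mor₃_eq_zero T P (a + 1) b hP hproj ε
  obtain ⟨e, he1, he2⟩ := exists_iso_binaryBiproduct_of_distTriang T hT h0
  exact ⟨e, he1, he2.symm⟩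

end Groth.Agent.H4.ProjAmp
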