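import Mathlib
import Groth.Agent.H4.ProjAmp4
import Groth.Agent.H4.DInj
set_option autoImplicit false
universe u
open CategoryTheory CategoryTheory.Limits CategoryTheory.Pretriangulated

namespace Groth.Agent.H4.ProjAmp

attribute [local instance] HasDerivedCategory.standard

variable {R : Type u} [CommRing R]

open DRing DerivedCategory Groth.Agent.H4.TwoTerm Groth.Agent.H4.DRing1

/-- a chain map to `N[-n]` whose degree `n` component factors through the differential
`X^n → X^{n+1}` is null-homotopic. -/
lemma homotopy_to_sgl (X : Cx R) (N : ModuleCat.{u} R) (n : ℤ) (y : X ⟶ sgl N n)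
    (g : X.X (n + 1) ⟶ (sgl N n).X n) (hy : y.f n = X.d n (n + 1) ≫ g) :
    Nonempty (Homotopy y 0) := by
  classical
  refine ⟨{
    hom := fun i j => if hij : i = n + 1 ∧ j = n then
        (X.XIsoOfEq hij.1).hom ≫ g ≫ ((sgl N n).XIsoOfEq hij.2.symm).hom
      else 0
    zero := ?_
    comm := ?_ }⟩
  · intro i j hij
    simp only [ComplexShape.up_Rel] at hij
    rw [dif_neg (by omega)]
  · intro i
    by_cases hi : i = n
    · subst hi
      rw [dNext_eq _ (show (ComplexShape.up ℤ).Rel i (i + 1) by simp),
        prevD_eq _ (show (ComplexShape.up ℤ).Rel (i - 1) i by simp),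
        dif_pos ⟨rfl, rfl⟩, dif_neg (by omega)]
      simp [HomologicalComplex.XIsoOfEq, hy]
    · exact (HomologicalComplex.isZero_single_obj_X _ _ _ _ hi).eq_of_tgt _ _

/-- morphisms `Y → I[-a]` with `I` injective vanish when `H^a(Y) = 0`. -/
theorem hom_eq_zero_to_injective (Y : Dual.D R) (I : ModuleCat.{u} R) [Injective I] (a : ℤ)
    (hY : IsZero ((homologyFunctor (ModuleCat.{u} R) a).obj Y))
    (ψ : Y ⟶ ((singleFunctor (ModuleCat.{u} R) 0).obj I)⟦(-a : ℤ)⟧) : ψ = 0 := by
  let X := Q.objPreimage Y
  let e : Q.obj X ≅ Y := Q.objObjPreimageIso Y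
  haveI : Module.Injective R I := Module.injective_module_of_injective_object R I
  haveI : (sgl I a).IsKInjective := Groth.Agent.H4.DThick.isKInjective_of_vanishes_injective
    (sgl I a) a (fun i hi => HomologicalComplex.isZero_single_obj_X _ _ _ _ (by omega)) (by
      intro i
      haveI : Injective ((sgl I a).X i) := by
        by_cases hi : i = a
        · subst hi
          exact Injective.of_iso
            (HomologicalComplex.singleObjXSelf (ComplexShape.up ℤ) i I).symm inferInstance
        · exact (HomologicalComplex.isZero_single_obj_X _ _ _ _ hi).injective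
      exact Module.injective_module_of_injective_object R ((sgl I a).X i))
  obtain ⟨f, hf⟩ := Groth.Agent.H4.DThick.exists_map_of_isKInjective X (sgl I a)
    (e.hom ≫ ψ ≫ (shI I (-a) a (by simp)).hom)
  -- exactness of `X` at `a`
  have hX : X.ExactAt a := by
    rw [HomologicalComplex.exactAt_iff_isZero_homology]
    exact hY.of_iso (((homologyFunctorFactors (ModuleCat.{u} R) a).app X).symm ≪≫
      (homologyFunctor (ModuleCat.{u} R) a).mapIso e)
  rw [HomologicalComplex.exactAt_iff' X (a - 1) a (a + 1) (by simp) (by simp)] at hX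
  let σ := HomologicalComplex.singleObjXSelf (ComplexShape.up ℤ) a I
  have hk : X.d (a - 1) a ≫ (f.f a ≫ σ.hom) = 0 := by
    rw [← Category.assoc, ← f.comm (a - 1) a]
    have : (sgl I a).d (a - 1) a = 0 := HomologicalComplex.single_obj_d _ _ _ _ _
    rw [this, comp_zero, zero_comp]
  let h := hX.descToInjective (f.f a ≫ σ.hom) hk
  have hh : X.d a (a + 1) ≫ h = f.f a ≫ σ.hom := hX.comp_descToInjective _ hk
  obtain ⟨Ho⟩ := homotopy_to_sgl X I a f (h ≫ σ.inv) (by
    rw [← Category.assoc, hh, Category.assoc, Iso.hom_inv_id, Category.comp_id])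
  rw [DerivedCategory.Q_map_eq_of_homotopy _ Ho, Functor.map_zero] at hf
  have : ψ = e.inv ≫ (e.hom ≫ ψ ≫ (shI I (-a) a (by simp)).hom) ≫ (shI I (-a) a (by simp)).inv := by
    simp only [Category.assoc, Iso.hom_inv_id, Category.comp_id, Iso.inv_hom_id_assoc]
  rw [this, ← hf, zero_comp, comp_zero]

end Groth.Agent.H4.ProjAmp
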