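import Mathlib
import Groth.Agent.H4.ProjAmp5
set_option autoImplicit false
universe u
open CategoryTheory CategoryTheory.Limits CategoryTheory.Pretriangulated

namespace Groth.Agent.H4.InjAmp

attribute [local instance] HasDerivedCategory.standard

variable {R : Type u} [CommRing R]

open DRing DerivedCategory Groth.Agent.H4.TwoTerm Groth.Agent.H4.DRing1 Groth.Agent.H4.ProjAmp

/-- `Hom(A, B⟦n⟧) ≃ Hom(A⟦m⟧, B)` for `m + n = 0`. -/
noncomputable def homShiftEquiv {C : Type*} [Category C] [HasShift C ℤ] (A B : C) (m n : ℤ)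
    (h : m + n = 0) : (A⟦m⟧ ⟶ B) ≃ (A ⟶ B⟦n⟧) :=
  (shiftEquiv' C m n h).toAdjunction.homEquiv A B

/-- `N[-i]` in two ways. -/
noncomputable def sglIso (N : ModuleCat.{u} R) (i : ℤ) :
    Q.obj (sgl N i) ≅ ((singleFunctor (ModuleCat.{u} R) 0).obj N)⟦(-i : ℤ)⟧ :=
  (shI N (-i) i (by simp)).symm

/-- the Ext condition in terms of `N` placed in degree `i`. -/
lemma subsingleton_sgl_iff (N : ModuleCat.{u} R) (i : ℤ) (K : Dual.D R) :
    Subsingleton (Q.obj (sgl N i) ⟶ K) ↔
      Subsingleton ((singleFunctor (ModuleCat.{u} R) 0).obj N ⟶ K⟦i⟧) := by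
  have e : (Q.obj (sgl N i) ⟶ K) ≃ ((singleFunctor (ModuleCat.{u} R) 0).obj N ⟶ K⟦i⟧) :=
    ((sglIso N i).homCongr (Iso.refl K)).trans (homShiftEquiv _ K (-i) i (by simp))
  exact e.subsingleton_congr

/-- shifting `N` in degree `i` by `-1`. -/
noncomputable def sglShiftIso (N : ModuleCat.{u} R) (i j : ℤ) (h : i + 1 = j) :
    (Q.obj (sgl N i))⟦(-1 : ℤ)⟧ ≅ Q.obj (sgl N j) :=
  (shiftFunctor (Dual.D R) (-1 : ℤ)).mapIso ((singleFunctorIsoCompQ (ModuleCat.{u} R) i).symm.app N) ≪≫
    ((singleFunctors (ModuleCat.{u} R)).shiftIso (-1) j i (by omega)).app N ≪≫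
    (singleFunctorIsoCompQ (ModuleCat.{u} R) j).app N

lemma subsingleton_sgl_shift_one (N : ModuleCat.{u} R) (i j : ℤ) (h : i + 1 = j) (K : Dual.D R)
    (hK : Subsingleton (Q.obj (sgl N j) ⟶ K)) :
    Subsingleton (Q.obj (sgl N i) ⟶ K⟦(1 : ℤ)⟧) := by
  have e : (Q.obj (sgl N j) ⟶ K) ≃ (Q.obj (sgl N i) ⟶ K⟦(1 : ℤ)⟧) :=
    ((sglShiftIso N i j h).symm.homCongr (Iso.refl K)).trans (homShiftEquiv _ K (-1) 1 (by simp))
  exact e.symm.subsingleton

/-- if `Hom(P[-i], K) = 0` where `P` surjects onto every cyclic submodule (e.g. `P ≃ R`), then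
`H^i(K) = 0`. -/
theorem isZero_homology_of_hom_sgl (K : Dual.D R) (i : ℤ) (P : ModuleCat.{u} R) (e : P ≃ₗ[R] R)
    (hK : Subsingleton (Q.obj (sgl P i) ⟶ K)) :
    IsZero ((homologyFunctor (ModuleCat.{u} R) i).obj K) := by
  let X := Q.objPreimage K
  let ε : Q.obj X ≅ K := Q.objObjPreimageIso K
  suffices hH : IsZero (X.homology i) from
    hH.of_iso ((homologyFunctor (ModuleCat.{u} R) i).mapIso ε.symm ≪≫
      (homologyFunctorFactors (ModuleCat.{u} R) i).app X)
  -- every cycle is a boundary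
  have key : ∀ x : X.cycles i, (X.homologyπ i).hom x = 0 := by
    intro x
    let g : P ⟶ X.cycles i := ModuleCat.ofHom ((LinearMap.toSpanSingleton R _ x).comp e.toLinearMap)
    have hg : g.hom (e.symm 1) = x := by
      change (LinearMap.toSpanSingleton R _ x) (e (e.symm 1)) = x
      rw [LinearEquiv.apply_symm_apply, LinearMap.toSpanSingleton_apply, one_smul]
    let c : sgl P i ⟶ X := HomologicalComplex.mkHomFromSingle (g ≫ X.iCycles i) (by
      intro k hk
      rw [Category.assoc, X.iCycles_d, comp_zero])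
    have hc : c.f i = (HomologicalComplex.singleObjXSelf (ComplexShape.up ℤ) i P).hom ≫
        g ≫ X.iCycles i := HomologicalComplex.mkHomFromSingle_f _ _
    have h0 : Q.map c = 0 := by
      have h1 := hK.elim (Q.map c ≫ ε.hom) 0
      have := congrArg (fun φ => φ ≫ ε.inv) h1
      simp only [Category.assoc, Iso.hom_inv_id, Category.comp_id, zero_comp] at this
      exact this
    have h2 : HomologicalComplex.homologyMap c i = 0 := by
      have := homologyFunctorFactors_hom_naturality (C := ModuleCat.{u} R) c i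
      rw [h0, Functor.map_zero, zero_comp] at this
      apply (cancel_epi ((homologyFunctorFactors (ModuleCat.{u} R) i).hom.app (sgl P i))).1
      exact this.symm.trans comp_zero.symm
    have h3 := HomologicalComplex.homologyπ_naturality c i
    rw [h2, comp_zero] at h3
    have h4 := HomologicalComplex.cyclesMap_i c i
    rw [hc] at h4
    have h5 : HomologicalComplex.cyclesMap c i = (sgl P i).iCycles i ≫
        (HomologicalComplex.singleObjXSelf (ComplexShape.up ℤ) i P).hom ≫ g := by
      rw [← cancel_mono (X.iCycles i), h4]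
      simp only [Category.assoc]
    rw [h5] at h3
    haveI : IsIso ((sgl P i).iCycles i) := (sgl P i).isIso_iCycles i (i + 1) (by simp)
      (HomologicalComplex.single_obj_d _ _ _ _ _)
    have h6 : g ≫ X.homologyπ i = 0 := by
      have h7 : ((sgl P i).iCycles i ≫
        (HomologicalComplex.singleObjXSelf (ComplexShape.up ℤ) i P).hom) ≫ (g ≫ X.homologyπ i) = 0 := by
        simpa only [Category.assoc] using h3.symm
      exact (cancel_epi _).1 (h7.trans comp_zero.symm)
    have := congrArg (fun φ => φ.hom (e.symm 1)) h6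
    simp only [ModuleCat.hom_comp, LinearMap.comp_apply, ModuleCat.hom_zero,
      LinearMap.zero_apply] at this
    rw [hg] at this
    exact this
  haveI : Subsingleton (X.homology i) := by
    refine ⟨fun y z => ?_⟩
    suffices H : ∀ y : X.homology i, y = 0 from (H y).trans (H z).symm
    intro y
    obtain ⟨x, rfl⟩ := (ModuleCat.epi_iff_surjective (X.homologyπ i)).1 inferInstance y
    exact key x
  exact ModuleCat.isZero_of_subsingleton _

/-- Baer's criterion in `D(R)`: `Ext¹(R/I, J) = 0` for all ideals `I` implies `J` injective. -/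
theorem injective_of_ext_one (J : ModuleCat.{u} R)
    (hJ : ∀ I : Ideal R, Subsingleton (Dual.inD R (R ⧸ I) ⟶
      ((singleFunctor (ModuleCat.{u} R) 0).obj J)⟦(1 : ℤ)⟧)) :
    Module.Injective R J := by
  apply Module.Baer.injective
  intro I f
  let S : ShortComplex (ModuleCat.{u} R) :=
    ShortComplex.mk (ModuleCat.ofHom I.subtype) (ModuleCat.ofHom I.mkQ) (by
      ext x
      exact (Submodule.Quotient.mk_eq_zero I).2 x.2)
  have hS : S.ShortExact := ModuleCat.shortComplex_shortExact S
    (LinearMap.exact_subtype_mkQ I) I.injective_subtype (Submodule.mkQ_surjective I)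
  have hT := hS.singleTriangle_distinguished
  let φ : (singleFunctor (ModuleCat.{u} R) 0).obj (ModuleCat.of R I) ⟶
    (singleFunctor (ModuleCat.{u} R) 0).obj J := (singleFunctor (ModuleCat.{u} R) 0).map (ModuleCat.ofHom f)
  obtain ⟨g, hg⟩ := Triangle.yoneda_exact₃ hS.singleTriangle.rotate (rot_of_distTriang _ hT)
    (φ⟦(1 : ℤ)⟧') ((hJ I).elim _ _)
  obtain ⟨g', rfl⟩ := (shiftFunctor (Dual.D R) (1 : ℤ)).map_surjective g
  obtain ⟨h, rfl⟩ := (singleFunctor (ModuleCat.{u} R) 0).map_surjective g'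
  have h1 : φ = (singleFunctor (ModuleCat.{u} R) 0).map (S.f ≫ (-h)) := by
    apply (shiftFunctor (Dual.D R) (1 : ℤ)).map_injective
    refine hg.trans ?_
    simp [S]
    exact Preadditive.neg_comp _ _
  have h2 : ModuleCat.ofHom f = S.f ≫ (-h) := (singleFunctor (ModuleCat.{u} R) 0).map_injective h1
  refine ⟨(-h).hom, fun x hx => ?_⟩
  have := congrArg (fun ψ => ψ.hom ⟨x, hx⟩) h2
  exact this.symm

end Groth.Agent.H4.InjAmp
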