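import Mathlib
import Groth.Prelude.Def_DRing2
import Groth.Agent.H4.InjAmp
import Groth.Agent.H4.EV1
import Groth.Agent.H4.DRing3

/-!
# Approximation of pseudo-coherent complexes by perfect complexes: a criterion for a natural
transformation between way-out-left functors to be an isomorphism on pseudo-coherent objects
-/

set_option autoImplicit false
universe u
open CategoryTheory Category Limits Pretriangulated

namespace Groth.Agent.H4.AP1

attribute [local instance] HasDerivedCategory.standard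

open DRing DerivedCategory Groth.Agent.H4.EV1 Groth.Agent.H4.InjAmp Groth.Agent.H4.ProjAmp
  Groth.Agent.H4.TwoTerm Groth.Agent.H4.DRing1

variable {B : Type u} [CommRing B]

/-- the test object `B[-i]`. -/
noncomputable abbrev W (B : Type u) [CommRing B] (i : ℤ) : Dual.D B := Q.obj (sgl (ModuleCat.of B B) i)

instance (i : ℤ) : (sgl (ModuleCat.of B B) i).IsKProjective := by
  refine isKProjective_of_vanishesAbove_projective _ i (fun j hj => ?_) (fun j => ?_)
  · exact HomologicalComplex.isZero_single_obj_X _ _ _ _ (by omega)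
  · by_cases hj : j = i
    · subst hj
      exact Module.Projective.of_equiv
        ((HomologicalComplex.singleObjXSelf (ComplexShape.up ℤ) j
          (ModuleCat.of B B)).toLinearEquiv).symm
    · haveI := ModuleCat.subsingleton_of_isZero
        (HomologicalComplex.isZero_single_obj_X (ComplexShape.up ℤ) i (ModuleCat.of B B) j hj)
      infer_instance

/-- `Hom(B[-i], X) = 0` for `X ∈ D^{≤ m}` and `i > m`. -/
lemma hom_W_eq_zero_of_isLE (X : Dual.D B) (m i : ℤ) (hi : m < i) [X.IsLE m] (φ : W B i ⟶ X) :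
    φ = 0 := by
  obtain ⟨X', hX', ⟨e⟩⟩ := exists_iso_Q_obj_of_isLE X m
  obtain ⟨f, hf⟩ := Groth.Agent.H3.PerfAux.exists_map_of_isKProjective
    (sgl (ModuleCat.of B B) i) X' (φ ≫ e.hom)
  have hf0 : f = 0 := by
    apply HomologicalComplex.hom_ext
    intro j
    by_cases hj : j = i
    · subst hj
      exact (X'.isZero_of_isStrictlyLE m j hi).eq_of_tgt _ _
    · exact (HomologicalComplex.isZero_single_obj_X _ _ _ _ hj).eq_of_src _ _
  rw [hf0, Functor.map_zero] at hf
  rw [← cancel_mono e.hom, ← hf, zero_comp]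

/-- an object all of whose `Hom(B[-i], -)` vanish is zero. -/
lemma isZero_of_forall_hom_W (Z : Dual.D B) (h : ∀ i : ℤ, ∀ φ : W B i ⟶ Z, φ = 0) : IsZero Z := by
  have hH : ∀ i : ℤ, IsZero ((homologyFunctor (ModuleCat.{u} B) i).obj Z) := fun i =>
    isZero_homology_of_hom_sgl Z i (ModuleCat.of B B) (LinearEquiv.refl B B)
      ⟨fun φ ψ => (h i φ).trans (h i ψ).symm⟩
  haveI : Z.IsLE 0 := by
    rw [isLE_iff]
    exact fun i _ => hH i
  haveI : Z.IsGE 1 := by
    rw [isGE_iff]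
    exact fun i _ => hH i
  exact TStructure.t.isZero Z 0 1 (by omega)

section

lemma homShiftEquiv_naturality {C : Type*} [Category C] [HasShift C ℤ]
    (X Y Y' : C) (m n : ℤ) (h : m + n = 0) (φ : X⟦m⟧ ⟶ Y)
    (f : Y ⟶ Y') :
    homShiftEquiv X Y' m n h (φ ≫ f) = homShiftEquiv X Y m n h φ ≫ f⟦n⟧' :=
  Adjunction.homEquiv_naturality_right _ _ _

variable {C : Type*} [Category C] [Preadditive C] [HasShift C ℤ]
  [∀ n : ℤ, (shiftFunctor C n).Additive]

lemma homShiftEquiv_zero (X Y : C) (m n : ℤ) (h : m + n = 0) :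
    homShiftEquiv X Y m n h 0 = 0 := by
  have := homShiftEquiv_naturality X Y Y m n h 0 (0 : Y ⟶ Y)
  rw [comp_zero, Functor.map_zero, comp_zero] at this
  exact this

end

/-- a morphism inducing bijections on all `Hom(B[-i], -)` is an isomorphism. -/
theorem isIso_of_forall_hom_W_bijective {X Y : Dual.D B} (f : X ⟶ Y)
    (h : ∀ i : ℤ, Function.Bijective (fun φ : W B i ⟶ X => φ ≫ f)) : IsIso f := by
  obtain ⟨Z, g, δ, hT⟩ := distinguished_cocone_triangle f
  suffices hZ : IsZero Z from (Triangle.isZero₃_iff_isIso₁ _ hT).1 hZ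
  apply isZero_of_forall_hom_W
  intro i ζ
  -- `ζ ≫ δ = 0`
  have h1 : ζ ≫ δ = 0 := by
    let e := homShiftEquiv (W B i) X (-1) 1 (by simp)
    let e' := homShiftEquiv (W B i) Y (-1) 1 (by simp)
    have h2 : e.symm (ζ ≫ δ) ≫ f = 0 := by
      apply e'.injective
      rw [homShiftEquiv_naturality, homShiftEquiv_zero]
      change e (e.symm (ζ ≫ δ)) ≫ _ = 0
      rw [Equiv.apply_symm_apply, assoc]
      have : δ ≫ f⟦(1 : ℤ)⟧' = 0 := comp_distTriang_mor_zero₃₁ _ hT
      rw [this, comp_zero]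
    let c := sglShiftIso (ModuleCat.of B B) i (i + 1) rfl
    have h3 : (c.inv ≫ e.symm (ζ ≫ δ)) ≫ f = 0 ≫ f := by
      rw [assoc, h2, comp_zero, zero_comp]
    have h4 := (h (i + 1)).1 h3
    have h5 : e.symm (ζ ≫ δ) = 0 := by
      rw [← cancel_epi c.inv, h4, comp_zero]
    have h6 := congrArg e h5
    rw [Equiv.apply_symm_apply] at h6
    rw [h6]
    exact homShiftEquiv_zero _ _ _ _ _
  obtain ⟨y, hy⟩ := Triangle.coyoneda_exact₃ _ hT ζ h1
  obtain ⟨x, hx⟩ := (h i).2 y
  have hfg : f ≫ g = 0 := comp_distTriang_mor_zero₁₂ _ hT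
  have hy' : ζ = (x ≫ f) ≫ g := by
    have hx' : x ≫ f = y := hx
    rw [hx']
    exact hy
  rw [hy', assoc, hfg, comp_zero]

section approx

variable {A : Type u} [CommRing A]

open Groth.Agent.H4.SubCx

/-- a pseudo-coherent object is approximated by perfect objects: for every `q` there is a
distinguished triangle `P ⟶ K ⟶ C ⟶` with `P` perfect and `C ∈ D^{≤ q}`. -/
theorem exists_approx (K : Dual.D A) (hK : IsPseudoCoherent' A K) (q : ℤ) :
    ∃ (T : Triangle (Dual.D A)) (_ : T ∈ distTriang (Dual.D A)) (_ : T.obj₂ ≅ K),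
      IsPerfect A T.obj₁ ∧ T.obj₃.IsLE q := by
  obtain ⟨E, b, hb, hE, ⟨e⟩⟩ := hK
  have hS := brutal_stable E (q + 1)
  refine ⟨triangleOfSES (shortExact E (brutal E (q + 1)) hS),
    triangleOfSES_distinguished _, e, ?_, ?_⟩
  · refine ⟨sub E (brutal E (q + 1)) hS, q + 1, max b (q + 1), ?_, ?_, ⟨Iso.refl _⟩⟩
    · intro i hi
      rcases hi with hi | hi
      · have hbr := brutal_of_lt E hi
        haveI : Subsingleton (brutal E (q + 1) i) := by rw [hbr]; infer_instance
        exact ModuleCat.isZero_of_subsingleton (ModuleCat.of A (brutal E (q + 1) i))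
      · haveI := ModuleCat.subsingleton_of_isZero (hb i (lt_of_le_of_lt (le_max_left _ _) hi))
        haveI : Subsingleton (brutal E (q + 1) i) := inferInstance
        exact ModuleCat.isZero_of_subsingleton (ModuleCat.of A (brutal E (q + 1) i))
    · intro i
      by_cases hi : i < q + 1
      · have hbr := brutal_of_lt E hi
        haveI : Subsingleton (brutal E (q + 1) i) := by rw [hbr]; infer_instance
        exact ⟨inferInstanceAs (Module.Finite A (brutal E (q + 1) i)),
          inferInstanceAs (Module.Projective A (brutal E (q + 1) i))⟩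
      · have hbr := brutal_of_le E (not_lt.mp hi)
        haveI := (hE i).1
        haveI := (hE i).2
        let ε : E.X i ≃ₗ[A] brutal E (q + 1) i := (LinearEquiv.ofTop _ hbr).symm
        exact ⟨Module.Finite.equiv ε, Module.Projective.of_equiv ε⟩
  · change (Q.obj (quot E (brutal E (q + 1)) hS)).IsLE q
    rw [isLE_Q_obj_iff, CochainComplex.isLE_iff]
    intro i hi
    apply HomologicalComplex.ExactAt.of_isZero
    have hbr := brutal_of_le E (by omega : q + 1 ≤ i)
    haveI : Subsingleton (E.X i ⧸ brutal E (q + 1) i) := by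
      rw [Submodule.Quotient.subsingleton_iff]; exact hbr
    exact ModuleCat.isZero_of_subsingleton (ModuleCat.of A (E.X i ⧸ brutal E (q + 1) i))

/-- the main step of the way-out-left criterion, for an arbitrary test object `V` which has no
nonzero maps to `D^{≤ m}`, `m < i`. -/
lemma bijective_comp_app_of_approx {F₁ F₂ : Dual.D A ⥤ Dual.D B} (hF₁ : YExact F₁)
    (hF₂ : YExact F₂) (τ : F₁ ⟶ F₂) (c₁ c₂ : ℤ)
    (h₁ : ∀ (q : ℤ) (C : Dual.D A), C.IsLE q → (F₁.obj C).IsLE (q + c₁))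
    (h₂ : ∀ (q : ℤ) (C : Dual.D A), C.IsLE q → (F₂.obj C).IsLE (q + c₂))
    (hperf : ∀ P : Dual.D A, IsPerfect A P → IsIso (τ.app P))
    (K : Dual.D A) (hK : IsPseudoCoherent' A K) (i : ℤ) (V : Dual.D B)
    (hV : ∀ (X : Dual.D B) (m : ℤ), X.IsLE m → m < i → ∀ φ : V ⟶ X, φ = 0) :
    Function.Bijective (fun φ : V ⟶ F₁.obj K => φ ≫ τ.app K) := by
  obtain ⟨T, hT, e, hP, hC⟩ := exists_approx K hK (i - 2 - max c₁ c₂)
  haveI := hC
  haveI := hperf _ hP
  -- reduce to `T.obj₂`
  suffices hb : Function.Bijective (fun φ : V ⟶ F₁.obj T.obj₂ => φ ≫ τ.app T.obj₂) by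
    have heq : (fun φ : V ⟶ F₁.obj K => φ ≫ τ.app K) =
        (fun φ => φ ≫ F₂.map e.hom) ∘ ((fun φ : V ⟶ F₁.obj T.obj₂ => φ ≫ τ.app T.obj₂) ∘
          (fun φ => φ ≫ F₁.map e.inv)) := by
      funext φ
      simp only [Function.comp_apply]
      rw [assoc, assoc, ← τ.naturality, ← F₁.map_comp_assoc, e.inv_hom_id,
        CategoryTheory.Functor.map_id, id_comp]
    rw [heq]
    exact ((F₂.mapIso e).homToEquiv.bijective).comp
      (hb.comp ((F₁.mapIso e.symm).homToEquiv.bijective))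
  -- the key bijections
  have key : ∀ (F : Dual.D A ⥤ Dual.D B) (hF : YExact F) (c : ℤ)
      (hc : ∀ (q : ℤ) (C : Dual.D A), C.IsLE q → (F.obj C).IsLE (q + c)) (hci : c ≤ max c₁ c₂),
      Function.Bijective (fun φ : V ⟶ F.obj T.obj₁ => φ ≫ F.map T.mor₁) := by
    intro F hF c hc hci
    have hTi := inv_rot_of_distTriang T hT
    constructor
    · intro φ₁ φ₂ h12
      rw [← sub_eq_zero]
      have h0 : (φ₁ - φ₂) ≫ F.map T.mor₁ = 0 := by
        rw [Preadditive.sub_comp]
        exact sub_eq_zero.2 h12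
      obtain ⟨ψ, hψ⟩ := (hF _ hTi).2 _ (φ₁ - φ₂) h0
      haveI : (T.obj₃⟦(-1 : ℤ)⟧).IsLE (i - 1 - max c₁ c₂) :=
        TStructure.t.isLE_shift T.obj₃ (i - 2 - max c₁ c₂) (-1) (i - 1 - max c₁ c₂) (by ring)
      have := hV (F.obj (T.obj₃⟦(-1 : ℤ)⟧)) (i - 1 - max c₁ c₂ + c)
        (hc _ (T.obj₃⟦(-1 : ℤ)⟧) inferInstance) (by omega) ψ
      rw [← hψ, this]
      exact zero_comp
    · intro ξ
      have h0 := hV (F.obj T.obj₃) (i - 2 - max c₁ c₂ + c) (hc _ T.obj₃ inferInstance) (by omega)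
        (ξ ≫ F.map T.mor₂)
      obtain ⟨ψ, hψ⟩ := (hF _ hT).2 _ ξ h0
      exact ⟨ψ, hψ⟩
  have k₁ := key F₁ hF₁ c₁ h₁ (le_max_left _ _)
  have k₂ := key F₂ hF₂ c₂ h₂ (le_max_right _ _)
  have hsq : (fun φ : V ⟶ F₁.obj T.obj₂ => φ ≫ τ.app T.obj₂) ∘
      (fun φ : V ⟶ F₁.obj T.obj₁ => φ ≫ F₁.map T.mor₁) =
      (fun φ : V ⟶ F₂.obj T.obj₁ => φ ≫ F₂.map T.mor₁) ∘
        (fun φ : V ⟶ F₁.obj T.obj₁ => φ ≫ τ.app T.obj₁) := by
    funext φ
    simp only [Function.comp_apply]
    rw [assoc, assoc, τ.naturality]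
  have hcomp : Function.Bijective ((fun φ : V ⟶ F₁.obj T.obj₂ => φ ≫ τ.app T.obj₂) ∘
      (fun φ : V ⟶ F₁.obj T.obj₁ => φ ≫ F₁.map T.mor₁)) := by
    rw [hsq]
    exact k₂.comp (asIso (τ.app T.obj₁)).homToEquiv.bijective
  exact (Function.Bijective.of_comp_iff _ k₁).1 hcomp

/-- **Way-out-left criterion**: a natural transformation between Yoneda-exact functors
`D(A) ⥤ D(B)`, both way-out left, which is an isomorphism on perfect objects is an isomorphism on
pseudo-coherent objects. -/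
theorem isIso_app_of_isPseudoCoherent {F₁ F₂ : Dual.D A ⥤ Dual.D B} (hF₁ : YExact F₁)
    (hF₂ : YExact F₂) (τ : F₁ ⟶ F₂) (c₁ c₂ : ℤ)
    (h₁ : ∀ (q : ℤ) (C : Dual.D A), C.IsLE q → (F₁.obj C).IsLE (q + c₁))
    (h₂ : ∀ (q : ℤ) (C : Dual.D A), C.IsLE q → (F₂.obj C).IsLE (q + c₂))
    (hperf : ∀ P : Dual.D A, IsPerfect A P → IsIso (τ.app P))
    (K : Dual.D A) (hK : IsPseudoCoherent' A K) : IsIso (τ.app K) := by
  apply isIso_of_forall_hom_W_bijective
  intro i
  exact bijective_comp_app_of_approx hF₁ hF₂ τ c₁ c₂ h₁ h₂ hperf K hK i (W B i)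
    (fun X m hX hm φ => by
      haveI := hX
      exact hom_W_eq_zero_of_isLE X m i hm φ)

end approx

end Groth.Agent.H4.AP1
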