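import Mathlib
import Groth.Prelude.Def_DTen
import Groth.Prelude.Def_DTen2
import Groth.Prelude.Def_DTen3

/-!
# The curry map of the closed structure on `D(A)` is an isomorphism (S13888)
-/

open CategoryTheory Category Limits MonoidalCategory

universe u

namespace Groth.Agent.H4.CH1

attribute [local instance] HasDerivedCategory.standard

open DTen

variable {A : Type u} [CommRing A] [DTen.HasLTen A] [DTen.HasLTen₃ A] [DTen.IsSymMonoidal A]
  [DTen.HasRHom A]

/-- naturality of the associator in the first variable. -/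
lemma associator_naturality_left {a a' : Dual.D A} (t : a ⟶ a') (b c : Dual.D A) :
    (LTen₂ A).map (Prod.mkHom ((LTen₂ A).map (Prod.mkHom t (𝟙 b))) (𝟙 c)) ≫
        (associator a' b c).hom =
      (associator a b c).hom ≫ (LTen₂ A).map (Prod.mkHom t (𝟙 ((LTen₂ A).obj (b, c)))) := by
  have hL := (assocL A).naturality (X := (a, (b, c))) (Y := (a', (b, c)))
    (Prod.mkHom t (Prod.mkHom (𝟙 b) (𝟙 c)))
  have hR := (assocR A).naturality (X := (a, (b, c))) (Y := (a', (b, c)))
    (Prod.mkHom t (Prod.mkHom (𝟙 b) (𝟙 c)))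
  have e1 : (LTenL A).map (Prod.mkHom t (Prod.mkHom (𝟙 b) (𝟙 c)) : (a, (b, c)) ⟶ (a', (b, c))) =
      (LTen₂ A).map (Prod.mkHom ((LTen₂ A).map (Prod.mkHom t (𝟙 b))) (𝟙 c)) := rfl
  have e2 : (LTenR A).map (Prod.mkHom t (Prod.mkHom (𝟙 b) (𝟙 c)) : (a, (b, c)) ⟶ (a', (b, c))) =
      (LTen₂ A).map (Prod.mkHom t (𝟙 ((LTen₂ A).obj (b, c)))) := by
    change (LTen₂ A).map (Prod.mkHom t ((LTen₂ A).map (Prod.mkHom (𝟙 b) (𝟙 c)))) = _
    have : (Prod.mkHom (𝟙 b) (𝟙 c) : (b, c) ⟶ (b, c)) = 𝟙 _ := rfl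
    rw [this, CategoryTheory.Functor.map_id]
  rw [e1] at hL
  rw [e2] at hR
  haveI : IsIso ((assocR A).app (a', (b, c))) := inferInstance
  rw [← cancel_mono ((assocR A).app (a', (b, c))), assoc, assoc, associator_hom_assocR]
  refine hL.trans ?_
  have h3 := associator_hom_assocR a b c
  have h4 : (assocL A).app (a, (b, c)) ≫ (LTen₃ A).map (Prod.mkHom t (Prod.mkHom (𝟙 b) (𝟙 c))) =
      (DTen.associator a b c).hom ≫ ((assocR A).app (a, (b, c)) ≫
          (LTen₃ A).map (Prod.mkHom t (Prod.mkHom (𝟙 b) (𝟙 c)))) := by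
    rw [← h3]
    exact assoc _ _ _
  refine h4.trans ?_
  exact congrArg (fun z => (DTen.associator a b c).hom ≫ z) hR.symm

lemma tensorRightD_map {a a' : Dual.D A} (t : a ⟶ a') (X : Dual.D A) :
    (tensorRightD A X).map t = (LTen₂ A).map (Prod.mkHom t (𝟙 X)) := rfl

/-- the key formula -/
lemma comp_curryHom (K L M T' : Dual.D A)
    (t : T' ⟶ (RHomR A ((LTen₂ A).obj (K, L))).obj M) :
    t ≫ curryHom K L M =
      (rhomAdj A K).homEquiv _ _ ((rhomAdj A L).homEquiv _ _
        ((DTen.associator T' K L).hom ≫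
          ((rhomAdj A ((LTen₂ A).obj (K, L))).homEquiv _ _).symm t)) := by
  change t ≫ (rhomAdj A K).homEquiv _ _ ((rhomAdj A L).homEquiv _ _ (curryHomAux K L M)) = _
  rw [← Adjunction.homEquiv_naturality_left, ← Adjunction.homEquiv_naturality_left]
  congr 2
  rw [tensorRightD_map, tensorRightD_map, Adjunction.homEquiv_counit, tensorRightD_map]
  dsimp only [curryHomAux]
  rw [← assoc, associator_naturality_left, assoc]

/-- S13888 -/
theorem isIso_curryHom (K L M : Dual.D A) : IsIso (curryHom K L M) := by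
  rw [isIso_iff_yoneda_map_bijective]
  intro T'
  have h : (fun t : T' ⟶ (RHomR A ((LTen₂ A).obj (K, L))).obj M => t ≫ curryHom K L M) =
      (fun t => (rhomAdj A K).homEquiv _ _ ((rhomAdj A L).homEquiv _ _
        ((DTen.associator T' K L).hom ≫
          ((rhomAdj A ((LTen₂ A).obj (K, L))).homEquiv _ _).symm t))) :=
    funext (fun t => comp_curryHom K L M T' t)
  rw [h]
  refine ((rhomAdj A K).homEquiv _ _).bijective.comp
    (((rhomAdj A L).homEquiv _ _).bijective.comp (Function.Bijective.comp ?_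
      ((rhomAdj A ((LTen₂ A).obj (K, L))).homEquiv _ _).symm.bijective))
  exact ⟨fun x y hxy => (cancel_epi _).1 hxy, fun y =>
    ⟨(DTen.associator T' K L).inv ≫ y, by simp⟩⟩

end Groth.Agent.H4.CH1
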