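import Mathlib
import Groth.Agent.H4.DRing3

/-!
# Dévissage for perfect objects of `D(R)`
-/

set_option autoImplicit false
universe u
open CategoryTheory CategoryTheory.Limits CategoryTheory.Pretriangulated

namespace Groth.Agent.H4.EV2

attribute [local instance] HasDerivedCategory.standard

variable {R : Type u} [CommRing R]

open DRing DerivedCategory ZeroObject Groth.Agent.H4.SubCx Groth.Agent.H4.DRing1

/-- predicates on `D(R)` closed under isomorphisms, shifts, extensions and retracts. -/
structure ThickPred (P : Dual.D R → Prop) : Prop where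
  iso : ∀ {X Y : Dual.D R}, (X ≅ Y) → P X → P Y
  shift : ∀ (X : Dual.D R) (n : ℤ), P X → P (X⟦n⟧)
  ext₂ : ∀ T ∈ distTriang (Dual.D R), P T.obj₁ → P T.obj₃ → P T.obj₂
  retract : ∀ {X Y : Dual.D R} (i : X ⟶ Y) (p : Y ⟶ X), i ≫ p = 𝟙 X → P Y → P X

variable {P : Dual.D R → Prop} (h : ThickPred P)

include h

lemma ThickPred.of_isZero {X₀ : Dual.D R} (h0 : P X₀) (X : Dual.D R) (hX : IsZero X) : P X :=
  h.retract (0 : X ⟶ X₀) 0 (hX.eq_of_src _ _) h0

lemma ThickPred.single (n : ℤ) (Y : ModuleCat.{u} R)
    (hY : P ((singleFunctor (ModuleCat.{u} R) 0).obj Y)) :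
    P ((singleFunctor (ModuleCat.{u} R) n).obj Y) :=
  h.iso (((singleFunctors (ModuleCat.{u} R)).shiftIso (-n) n 0 (by simp)).app Y)
    (h.shift _ (-n) hY)

lemma ThickPred.of_linearEquiv {M M' : Type u} [AddCommGroup M] [Module R M]
    [AddCommGroup M'] [Module R M'] (e : M ≃ₗ[R] M') (hM : P (Dual.inD R M)) :
    P (Dual.inD R M') :=
  h.iso ((singleFunctor (ModuleCat.{u} R) 0).mapIso e.toModuleIso) hM

lemma ThickPred.of_shortExact (S : ShortComplex (ModuleCat.{u} R)) (hS : S.ShortExact)
    (h₁ : P ((singleFunctor (ModuleCat.{u} R) 0).obj S.X₁))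
    (h₃ : P ((singleFunctor (ModuleCat.{u} R) 0).obj S.X₃)) :
    P ((singleFunctor (ModuleCat.{u} R) 0).obj S.X₂) :=
  h.ext₂ _ hS.singleTriangle_distinguished h₁ h₃

lemma ThickPred.prod {M N : Type u} [AddCommGroup M] [Module R M]
    [AddCommGroup N] [Module R N] (hM : P (Dual.inD R M)) (hN : P (Dual.inD R N)) :
    P (Dual.inD R (M × N)) := by
  let S : ShortComplex (ModuleCat.{u} R) :=
    ShortComplex.mk (ModuleCat.ofHom (LinearMap.inl R M N)) (ModuleCat.ofHom (LinearMap.snd R M N))
      (by ext x; simp)
  have hS : S.ShortExact := by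
    refine ModuleCat.shortComplex_shortExact S ?_ LinearMap.inl_injective LinearMap.snd_surjective
    intro (x : M × N)
    constructor
    · intro (hx : x.2 = 0)
      exact ⟨x.1, Prod.ext rfl hx.symm⟩
    · rintro ⟨y, rfl⟩
      rfl
  exact h.of_shortExact S hS hM hN

lemma ThickPred.finFree (h1 : P (Dual.inD R R)) (m : ℕ) : P (Dual.inD R (Fin m → R)) := by
  induction m with
  | zero =>
    refine h.of_isZero h1 _ ?_
    exact (singleFunctor (ModuleCat.{u} R) 0).map_isZero (ModuleCat.isZero_of_subsingleton _)
  | succ m ih =>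
    exact h.of_linearEquiv (Fin.consLinearEquiv R (fun _ : Fin (m + 1) => R)) (h.prod h1 ih)

lemma ThickPred.finProj (h1 : P (Dual.inD R R)) (M : Type u) [AddCommGroup M] [Module R M]
    [Module.Finite R M] [Module.Projective R M] : P (Dual.inD R M) := by
  obtain ⟨n, f, g, -, -, hfg⟩ := Module.Finite.exists_comp_eq_id_of_projective R M
  refine h.retract ((singleFunctor (ModuleCat.{u} R) 0).map (ModuleCat.ofHom g))
    ((singleFunctor (ModuleCat.{u} R) 0).map (ModuleCat.ofHom f)) ?_ (h.finFree h1 n)
  rw [← Functor.map_comp, ← ModuleCat.ofHom_comp, hfg]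
  exact (singleFunctor (ModuleCat.{u} R) 0).map_id _

/-- a complex concentrated in one degree. -/
lemma ThickPred.toD_of_concentrated (E : Cx R) (a : ℤ) (hE : ∀ i, i ≠ a → IsZero (E.X i))
    (hEa : P (Dual.inD R (E.X a))) : P (toD E) := by
  haveI : E.IsStrictlyGE a := by
    rw [CochainComplex.isStrictlyGE_iff]
    intro i hi
    exact hE i (by omega)
  haveI : E.IsStrictlyLE a := by
    rw [CochainComplex.isStrictlyLE_iff]
    intro i hi
    exact hE i (by omega)
  obtain ⟨M, ⟨e⟩⟩ := CochainComplex.exists_iso_single E a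
  have eM : E.X a ≅ M := (HomologicalComplex.eval _ _ a).mapIso e ≪≫
    HomologicalComplex.singleObjXSelf (ComplexShape.up ℤ) a M
  have h1 : P ((singleFunctor (ModuleCat.{u} R) a).obj M) :=
    h.single a M (h.iso ((singleFunctor _ 0).mapIso eM) hEa)
  exact h.iso ((singleFunctorIsoCompQ _ a).app M ≪≫ (Q.mapIso e).symm) h1

set_option maxHeartbeats 800000 in
theorem ThickPred.of_termwise_aux (n : ℕ) : ∀ (K : Cx R) (a : ℤ),
    (∀ i : ℤ, i < a ∨ a + n ≤ i → IsZero (K.X i)) →
    (∀ i : ℤ, P (Dual.inD R (K.X i))) → P (toD K) := by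
  induction n with
  | zero =>
    intro K a hz hP
    refine h.of_isZero (hP 0) _ (Q.map_isZero ?_)
    rw [IsZero.iff_id_eq_zero]
    refine HomologicalComplex.hom_ext _ _ (fun i => ?_)
    refine (hz i ?_).eq_of_src _ _
    by_cases hi : i < a
    · exact Or.inl hi
    · right; simp; omega
  | succ n ih =>
    intro K a hz hP
    have hS := brutal_stable K (a + 1)
    have hT := triangleOfSES_distinguished (shortExact K (brutal K (a + 1)) hS)
    have hsub : ∀ (M : Type u) [AddCommGroup M] [Module R M] [Subsingleton M], P (Dual.inD R M) :=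
      fun M _ _ _ => h.of_isZero (hP 0) _
        ((singleFunctor (ModuleCat.{u} R) 0).map_isZero (ModuleCat.isZero_of_subsingleton _))
    -- the subcomplex
    have h1 : P (toD (sub K (brutal K (a + 1)) hS)) := by
      apply ih _ (a + 1)
      · intro i hi
        by_cases hia : i < a + 1
        · have hb := brutal_of_lt K hia
          haveI : Subsingleton (brutal K (a + 1) i) := by rw [hb]; infer_instance
          exact ModuleCat.isZero_of_subsingleton (ModuleCat.of R (brutal K (a + 1) i))
        · haveI := ModuleCat.subsingleton_of_isZero (hz i (Or.inr (by push_cast; omega)))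
          haveI : Subsingleton (brutal K (a + 1) i) := inferInstance
          exact ModuleCat.isZero_of_subsingleton (ModuleCat.of R (brutal K (a + 1) i))
      · intro i
        by_cases hia : i < a + 1
        · have hb := brutal_of_lt K hia
          haveI : Subsingleton (brutal K (a + 1) i) := by rw [hb]; infer_instance
          exact hsub (brutal K (a + 1) i)
        · have hb := brutal_of_le K (not_lt.mp hia)
          exact h.of_linearEquiv (LinearEquiv.ofTop _ hb).symm (hP i)
    -- the quotient complex
    have h3 : P (toD (quot K (brutal K (a + 1)) hS)) := by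
      apply h.toD_of_concentrated _ a
      · intro i hi
        by_cases hia : i < a + 1
        · have hb := brutal_of_lt K hia
          haveI := ModuleCat.subsingleton_of_isZero (hz i (Or.inl (by omega)))
          haveI : Subsingleton (K.X i ⧸ brutal K (a + 1) i) := inferInstance
          exact ModuleCat.isZero_of_subsingleton (ModuleCat.of R (K.X i ⧸ brutal K (a + 1) i))
        · have hb := brutal_of_le K (not_lt.mp hia)
          haveI : Subsingleton (K.X i ⧸ brutal K (a + 1) i) := by
            rw [Submodule.Quotient.subsingleton_iff]; exact hb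
          exact ModuleCat.isZero_of_subsingleton (ModuleCat.of R (K.X i ⧸ brutal K (a + 1) i))
      · have hb := brutal_of_lt K (by omega : a < a + 1)
        exact h.of_linearEquiv (Submodule.quotEquivOfEqBot _ hb).symm (hP a)
    exact h.ext₂ _ hT h1 h3

theorem ThickPred.of_bounded_termwise (K : Cx R) (a b : ℤ) (hab : VanishesOutside K a b)
    (hK : ∀ i : ℤ, P (Dual.inD R (K.X i))) : P (toD K) := by
  refine h.of_termwise_aux (b + 1 - a).toNat K a ?_ hK
  intro i hi
  apply hab i
  rcases hi with hi | hi
  · exact Or.inl hi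
  · right
    have := Int.self_le_toNat (b + 1 - a)
    omega

/-- **Dévissage**: a thick predicate which holds for `R[0]` holds for all perfect objects. -/
theorem ThickPred.of_isPerfect (h1 : P (Dual.inD R R)) {K : Dual.D R} (hK : IsPerfect R K) : P K := by
  obtain ⟨E, a, b, hab, hE, ⟨e⟩⟩ := hK
  refine h.iso e (h.of_bounded_termwise E a b hab (fun i => ?_))
  haveI := (hE i).1
  haveI := (hE i).2
  exact h.finProj h1 (E.X i)

end Groth.Agent.H4.EV2
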