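import Mathlib

/-!
# Pointwise left derived functors at "locally projective" objects
-/

open CategoryTheory Category Limits

universe v₁ v₂ v₃ u₁ u₂ u₃

namespace Groth.Agent.H4.LK1

variable {C : Type u₁} {D : Type u₂} {H : Type u₃}
  [Category.{v₁} C] [Category.{v₂} D] [Category.{v₃} H]
  (L : C ⥤ D) (F : C ⥤ H)

/-- `X₀` is "locally projective" for `(L, F)`: maps out of `L X₀` to objects `L X` lift, and the
lifts are unique up to `F`. -/
structure IsLocProj (X₀ : C) : Prop where
  surj : ∀ (X : C) (φ : L.obj X₀ ⟶ L.obj X), ∃ g : X₀ ⟶ X, L.map g = φ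
  uniq : ∀ (X : C) (g g' : X₀ ⟶ X), L.map g = L.map g' → F.map g = F.map g'

namespace IsLocProj

variable {L F} {X₀ : C} (h : IsLocProj L F X₀)

/-- a chosen lift -/
noncomputable def lift (A : StructuredArrow (L.obj X₀) L) : X₀ ⟶ A.right :=
  (h.surj A.right A.hom).choose

lemma map_lift (A : StructuredArrow (L.obj X₀) L) : L.map (h.lift A) = A.hom :=
  (h.surj A.right A.hom).choose_spec

/-- the limit cone -/
noncomputable def cone : Cone (StructuredArrow.proj (L.obj X₀) L ⋙ F) where
  pt := F.obj X₀
  π :=
    { app := fun A => F.map (h.lift A)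
      naturality := fun A B f => by
        have h1 : F.map (h.lift B) = F.map (h.lift A ≫ f.right) := by
          apply h.uniq
          rw [L.map_comp, h.map_lift, h.map_lift]
          exact (StructuredArrow.w f).symm
        have h2 : F.map (h.lift A ≫ f.right) = F.map (h.lift A) ≫ F.map f.right := F.map_comp _ _
        exact (id_comp _).trans (h1.trans h2) }

lemma cone_π_app_mk_id : h.cone.π.app (StructuredArrow.mk (𝟙 (L.obj X₀))) = 𝟙 _ := by
  change F.map _ = 𝟙 _
  rw [← F.map_id]
  apply h.uniq
  rw [h.map_lift, L.map_id]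
  rfl

/-- it is a limit cone -/
noncomputable def isLimitCone : IsLimit h.cone where
  lift s := s.π.app (StructuredArrow.mk (𝟙 (L.obj X₀)))
  fac s A := by
    have hA : L.map (h.lift A) = A.hom := h.map_lift A
    let f : StructuredArrow.mk (𝟙 (L.obj X₀)) ⟶ A :=
      StructuredArrow.homMk (h.lift A) (by simp [hA])
    have := s.π.naturality f
    dsimp at this
    rw [id_comp] at this
    exact this.symm
  uniq s m hm := by
    have := hm (StructuredArrow.mk (𝟙 (L.obj X₀)))
    rw [h.cone_π_app_mk_id] at this
    exact (comp_id m).symm.trans this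

include h in
lemma hasPointwiseRightKanExtensionAt : L.HasPointwiseRightKanExtensionAt F (L.obj X₀) :=
  ⟨⟨_, h.isLimitCone⟩⟩

include h in
/-- the counit of a pointwise right Kan extension is an isomorphism at `X₀`. -/
lemma isIso_app_of_isPointwise (E : L.RightExtension F)
    (hE : E.IsPointwiseRightKanExtensionAt (L.obj X₀)) : IsIso (E.hom.app X₀) := by
  have h1 : E.hom.app X₀ = (IsLimit.conePointUniqueUpToIso hE h.isLimitCone).hom := by
    have h2 := IsLimit.conePointUniqueUpToIso_hom_comp hE h.isLimitCone
      (StructuredArrow.mk (𝟙 (L.obj X₀)))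
    rw [h.cone_π_app_mk_id] at h2
    have h3 : (E.coneAt (L.obj X₀)).π.app (StructuredArrow.mk (𝟙 (L.obj X₀))) = E.hom.app X₀ := by
      change E.left.map (𝟙 _) ≫ E.hom.app X₀ = _
      rw [E.left.map_id, id_comp]
    exact h3.symm.trans (h2.symm.trans (comp_id _))
  rw [h1]
  exact Iso.isIso_hom _

end IsLocProj

section

variable {L F} (W : MorphismProperty C) [L.IsLocalization W]

include W in
lemma IsLocProj.hasPointwiseLeftDerivedFunctorAt {X₀ : C} (h : IsLocProj L F X₀) :
    F.HasPointwiseLeftDerivedFunctorAt W X₀ := by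
  rw [F.hasPointwiseLeftDerivedFunctorAt_iff L W]
  exact h.hasPointwiseRightKanExtensionAt

include L in
/-- existence of enough locally projective objects gives a pointwise left derived functor. -/
theorem hasPointwiseLeftDerivedFunctor_of_isLocProj
    (hres : ∀ X : C, ∃ (X₀ : C) (w : X₀ ⟶ X), W w ∧ IsLocProj L F X₀) :
    F.HasPointwiseLeftDerivedFunctor W := by
  intro X
  obtain ⟨X₀, w, hw, h⟩ := hres X
  rw [← F.hasPointwiseLeftDerivedFunctorAt_iff_of_mem W w hw]
  exact h.hasPointwiseLeftDerivedFunctorAt W

/-- the counit of a left derived functor is an isomorphism at locally projective objects. -/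
theorem IsLocProj.isIso_counit_app [F.HasPointwiseLeftDerivedFunctor W] {X₀ : C}
    (h : IsLocProj L F X₀) (LF : D ⥤ H) (α : L ⋙ LF ⟶ F) [LF.IsLeftDerivedFunctor α W] :
    IsIso (α.app X₀) :=
  h.isIso_app_of_isPointwise (Functor.RightExtension.mk LF α)
    (Functor.isPointwiseRightKanExtensionOfHasPointwiseLeftDerivedFunctor LF α W _)

/-- if the source of a `W`-map is locally projective and `F` sends it to an isomorphism,
the counit is an isomorphism at the target. -/
theorem IsLocProj.isIso_counit_app_of_isIso_map [F.HasPointwiseLeftDerivedFunctor W] {X₀ X : C}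
    (h : IsLocProj L F X₀) (w : X₀ ⟶ X) (hw : W w) (hF : IsIso (F.map w))
    (LF : D ⥤ H) (α : L ⋙ LF ⟶ F) [LF.IsLeftDerivedFunctor α W] :
    IsIso (α.app X) := by
  haveI := h.isIso_counit_app W LF α
  haveI : IsIso (L.map w) := Localization.inverts L W w hw
  haveI : IsIso (LF.map (L.map w)) := inferInstance
  have hnat := α.naturality w
  dsimp at hnat
  have : α.app X = inv (LF.map (L.map w)) ≫ α.app X₀ ≫ F.map w := by
    rw [← hnat, IsIso.inv_hom_id_assoc]
  rw [this]
  infer_instance

end

end Groth.Agent.H4.LK1
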