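import Mathlib
import Groth.Agent.H4.KProj5

set_option autoImplicit false

/-!
# Termwise free K-projective resolutions
-/

namespace Groth.Agent.H4.KProj

open CategoryTheory Limits Pretriangulated DerLim DerivedCategory
open CochainComplex (mappingCone)

universe u

attribute [local instance] HasDerivedCategory.standard

variable {R : Type u} [CommRing R]

open DRing

lemma free_of_iso {M N : ModuleCat.{u} R} (e : M ≅ N) [Module.Free R M] : Module.Free R N :=
  Module.Free.of_equiv e.toLinearEquiv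

lemma free_sigma_X (P : ℕ → Cx R) (hP : ∀ n i, Module.Free R ((P n).X i)) (i : ℤ) :
    Module.Free R ((∐ P).X i) := by
  let e1 : (∐ P).X i ≅ ∐ fun n => (P n).X i :=
    PreservesCoproduct.iso (HomologicalComplex.eval _ _ i) P
  let e2 := ModuleCat.coprodIsoDirectSum (fun n => (P n).X i)
  haveI : Module.Free R (ModuleCat.of R (DirectSum ℕ fun n => (P n).X i)) := by
    change Module.Free R (DirectSum ℕ fun n => (P n).X i)
    infer_instance
  exact free_of_iso (e1 ≪≫ e2).symm

lemma free_mappingCone_X {E₁ E₂ : Cx R} (f : E₁ ⟶ E₂) (h₁ : ∀ i, Module.Free R (E₁.X i))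
    (h₂ : ∀ i, Module.Free R (E₂.X i)) (i : ℤ) : Module.Free R ((mappingCone f).X i) := by
  have e : (mappingCone f).X i ≅ E₁.X (i + 1) ⊞ E₂.X i :=
    HomologicalComplex.homotopyCofiber.XIsoBiprod f i (i + 1) rfl
  have e' := (e ≪≫ ModuleCat.biprodIsoProd _ _).toLinearEquiv
  haveI := h₁ (i + 1)
  haveI := h₂ i
  exact Module.Free.of_equiv e'.symm

lemma free_tel_X (P : ℕ → Cx R) (g : ∀ n, P n ⟶ P (n + 1))
    (hP : ∀ n i, Module.Free R ((P n).X i)) (i : ℤ) : Module.Free R ((tel P g).X i) :=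
  free_mappingCone_X _ (free_sigma_X P hP) (free_sigma_X P hP) i

/-- every complex of modules admits a termwise free K-projective resolution. -/
theorem exists_kproj_free (X : Cx R) : ∃ (T : Cx R) (a : T ⟶ X), T.IsKProjective ∧
    (∀ i, Module.Free R (T.X i)) ∧ QuasiIso a := by
  haveI := hasExactColimitsOfShape_nat (R := R)
  let L := tower X
  have hb : ∀ (n : ℕ) (i : ℤ), (n : ℤ) < i →
      IsZero ((homologyFunctor (ModuleCat.{u} R) i).obj (toD (L.obj n))) := fun n i hi =>
    Groth.Agent.H4.PC.isZero_homology_toD_of_isZero _ i (isZero_tr_X X hi)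
  have hex : ∀ n : ℕ, ∃ (P : Cx R) (a : P ⟶ L.obj n), ResP.IsBAF (n : ℤ) P ∧ QuasiIso a :=
    fun n => ResP.exists_quasiIso_of_homology_bounded (L.obj n) n (hb n)
  choose P a hP ha using hex
  haveI : ∀ n, (P n).IsKProjective := fun n => (hP n).isKProjective
  haveI : ∀ n, QuasiIso (a n) := ha
  have hg : ∀ n : ℕ, ∃ g : P n ⟶ P (n + 1), Q.map g =
      Q.map (a n) ≫ Q.map (L.map (homOfLE (Nat.le_succ n))) ≫ inv (Q.map (a (n + 1))) :=
    fun n => Groth.Agent.H3.PerfAux.exists_map_of_isKProjective _ _ _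
  choose g hg using hg
  have h1 := isHocolim_tel P g
  have h2 := Groth.Agent.H2.Telescope.isHocolim_of_colimit L
  obtain ⟨φ, -⟩ := exists_iso_of_isHocolim_of_iso (fun n => asIso (Q.map (a n)))
    (fun n => by
      dsimp only [asIso_hom]
      rw [hg n, Category.assoc, Category.assoc, IsIso.inv_hom_id, Category.comp_id]) h1 h2
  let ψ : colimit L ≅ X := (colimit.isColimit L).coconePointUniqueUpToIso (isColimitTowerCocone X)
  obtain ⟨b, hb'⟩ := Groth.Agent.H3.PerfAux.exists_map_of_isKProjective (tel P g) X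
    (φ.hom ≫ Q.map ψ.hom)
  refine ⟨tel P g, b, inferInstance, free_tel_X P g (fun n => (hP n).2), ?_⟩
  rw [← DerivedCategory.isIso_Q_map_iff_quasiIso, hb']
  infer_instance

/-- every object of `D(R)` is represented by a termwise free K-projective complex. -/
theorem exists_kproj_free_iso (K : Dual.D R) : ∃ T : Cx R, T.IsKProjective ∧
    (∀ i, Module.Free R (T.X i)) ∧ Nonempty (toD T ≅ K) := by
  obtain ⟨T, a, hT, hf, ha⟩ := exists_kproj_free (Q.objPreimage K)
  exact ⟨T, hT, hf, ⟨asIso (Q.map a) ≪≫ Q.objObjPreimageIso K⟩⟩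

end Groth.Agent.H4.KProj
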