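import Mathlib
import Groth.Agent.H4.InjAmp
set_option autoImplicit false
universe u
open CategoryTheory CategoryTheory.Limits CategoryTheory.Pretriangulated

namespace Groth.Agent.H4.InjAmp

attribute [local instance] HasDerivedCategory.standard

variable {R : Type u} [CommRing R]

open DRing DerivedCategory Groth.Agent.H4.TwoTerm Groth.Agent.H4.DRing1 Groth.Agent.H4.ProjAmp

open CochainComplex (mappingCone)

/-- the chain map `X → I[-a]` attached to `j : X^a → I` when `X` vanishes below `a`. -/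
noncomputable def toSgl (X : Cx R) (a : ℤ) (hX : ∀ i : ℤ, i < a → IsZero (X.X i))
    (I : ModuleCat.{u} R) (j : X.X a ⟶ I) : X ⟶ sgl I a :=
  HomologicalComplex.mkHomToSingle j (fun k hk => by
    simp only [ComplexShape.up_Rel] at hk
    exact (hX k (by omega)).eq_of_src _ _)

lemma toSgl_f (X : Cx R) (a : ℤ) (hX : ∀ i : ℤ, i < a → IsZero (X.X i))
    (I : ModuleCat.{u} R) (j : X.X a ⟶ I) : (toSgl X a hX I j).f a =
      j ≫ (HomologicalComplex.singleObjXSelf (ComplexShape.up ℤ) a I).inv :=
  HomologicalComplex.mkHomToSingle_f _ _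

lemma cone_toSgl_isZero (X : Cx R) (a : ℤ) (hX : ∀ i : ℤ, i < a → IsZero (X.X i))
    (I : ModuleCat.{u} R) (j : X.X a ⟶ I) (i : ℤ) (hi : i < a - 1) :
    IsZero ((mappingCone (toSgl X a hX I j)).X i) := by
  apply Groth.Agent.H3.PerfAux.mappingCone_X_isZero
  · exact hX _ (by omega)
  · exact HomologicalComplex.isZero_single_obj_X _ _ _ _ (by omega)

lemma cone_toSgl_exactAt (X : Cx R) (a : ℤ) (hX : ∀ i : ℤ, i < a → IsZero (X.X i))
    (I : ModuleCat.{u} R) (j : X.X a ⟶ I) [Mono j] :
    (mappingCone (toSgl X a hX I j)).ExactAt (a - 1) := by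
  set g := toSgl X a hX I j with hg
  rw [HomologicalComplex.exactAt_iff' _ (a - 1 - 1) (a - 1) a (by simp) (by simp)]
  have hz : IsZero ((mappingCone g).X (a - 1 - 1)) := cone_toSgl_isZero X a hX I j _ (by omega)
  rw [ShortComplex.exact_iff_mono _ (hz.eq_of_src _ _)]
  change Mono ((mappingCone g).d (a - 1) a)
  apply Preadditive.mono_of_cancel_zero
  intro A t ht
  apply mappingCone.ext_to g (a - 1) a (by omega)
  · rw [zero_comp]
    have h1 := congrArg (fun ψ => t ≫ ψ) (mappingCone.d_snd_v g (a - 1) a (by omega))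
    simp only [← Category.assoc, ht, zero_comp, Preadditive.comp_add] at h1
    have h2 : (sgl I a).d (a - 1) a = 0 := HomologicalComplex.single_obj_d _ _ _ _ _
    rw [h2, comp_zero, add_zero, hg, toSgl_f] at h1
    haveI : Mono (j ≫ (HomologicalComplex.singleObjXSelf (ComplexShape.up ℤ) a I).inv) :=
      mono_comp _ _
    exact (cancel_mono _).1 (h1.symm.trans zero_comp.symm)
  · exact (HomologicalComplex.isZero_single_obj_X _ _ _ _ (by omega)).eq_of_tgt _ _

/-- killing the bottom cohomology: for `K ∈ D^{≥ a}` there is an injective module `I` and a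
distinguished triangle `K → I[-a] → C →` with `C ∈ D^{≥ a}`. -/
theorem exists_triangle_kill_bottom (K : Dual.D R) (a : ℤ) [K.IsGE a] :
    ∃ (I : ModuleCat.{u} R) (_ : Injective I) (T : Triangle (Dual.D R))
      (_ : T ∈ distinguishedTriangles) (_ : K ≅ T.obj₁)
      (_ : Q.obj (sgl I a) ≅ T.obj₂), T.obj₃.IsGE a := by
  obtain ⟨X, hX, ⟨e⟩⟩ := exists_iso_Q_obj_of_isGE K a
  have hX' : ∀ i : ℤ, i < a → IsZero (X.X i) := fun i hi => X.isZero_of_isStrictlyGE a i hi
  let I : ModuleCat.{u} R := Injective.under (X.X a)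
  let j : X.X a ⟶ I := Injective.ι (X.X a)
  let g := toSgl X a hX' I j
  refine ⟨I, inferInstance, Q.mapTriangle.obj (mappingCone.triangle g), ?_, e, Iso.refl _, ?_⟩
  · rw [mem_distTriang_iff]
    exact ⟨_, _, g, ⟨Iso.refl _⟩⟩
  · change (Q.obj (mappingCone g)).IsGE a
    rw [isGE_Q_obj_iff, CochainComplex.isGE_iff]
    intro i hi
    by_cases hia : i = a - 1
    · subst hia
      exact cone_toSgl_exactAt X a hX' I j
    · exact HomologicalComplex.ExactAt.of_isZero (cone_toSgl_isZero X a hX' I j i (by omega))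

end Groth.Agent.H4.InjAmp
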