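import Mathlib
import Groth.Agent.H4.InjAmp2
set_option autoImplicit false
universe u
open CategoryTheory CategoryTheory.Limits CategoryTheory.Pretriangulated

namespace Groth.Agent.H4.InjAmp

attribute [local instance] HasDerivedCategory.standard

variable {R : Type u} [CommRing R]

open DRing DerivedCategory Groth.Agent.H4.TwoTerm Groth.Agent.H4.DRing1 Groth.Agent.H4.ProjAmp

open CochainComplex (mappingCone)

/-- condition (3) in terms of `R/I` placed in degree `i`. -/
def P (a b : ℤ) (K : Dual.D R) : Prop :=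
  ∀ (I : Ideal R) (i : ℤ), (i < a ∨ b < i) →
    Subsingleton (Q.obj (sgl (ModuleCat.of R (R ⧸ I)) i) ⟶ K)

lemma P_of_iso (a b : ℤ) {K K' : Dual.D R} (e : K ≅ K') (h : P a b K) : P a b K' := by
  intro I i hi
  haveI := h I i hi
  exact ((Iso.refl _).homCongr e).symm.subsingleton

lemma isZero_homology_of_P (a b : ℤ) (K : Dual.D R) (h : P a b K) (i : ℤ) (hi : i < a ∨ b < i) :
    IsZero ((homologyFunctor (ModuleCat.{u} R) i).obj K) :=
  isZero_homology_of_hom_sgl K i (ModuleCat.of R (R ⧸ (⊥ : Ideal R)))
    (Submodule.quotEquivOfEqBot ⊥ rfl) (h ⊥ i hi)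

lemma isGE_of_P (a b : ℤ) (K : Dual.D R) (h : P a b K) : K.IsGE a := by
  rw [isGE_iff]
  intro i hi
  exact isZero_homology_of_P a b K h i (Or.inl hi)

lemma isLE_of_P (a b : ℤ) (K : Dual.D R) (h : P a b K) : K.IsLE b := by
  rw [isLE_iff]
  intro i hi
  exact isZero_homology_of_P a b K h i (Or.inr hi)

lemma injective_sgl_X (Y : ModuleCat.{u} R) [Injective Y] (a i : ℤ) :
    Module.Injective R ((sgl Y a).X i) := by
  haveI : Injective ((sgl Y a).X i) := by
    by_cases hi : i = a
    · subst hi
      exact Injective.of_iso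
        (HomologicalComplex.singleObjXSelf (ComplexShape.up ℤ) i Y).symm inferInstance
    · exact (HomologicalComplex.isZero_single_obj_X _ _ _ _ hi).injective
  exact Module.injective_module_of_injective_object R ((sgl Y a).X i)

instance isKInjective_sgl (Y : ModuleCat.{u} R) [Injective Y] (a : ℤ) : (sgl Y a).IsKInjective :=
  Groth.Agent.H4.DThick.isKInjective_of_vanishes_injective
    (sgl Y a) a (fun i hi => HomologicalComplex.isZero_single_obj_X _ _ _ _ (by omega))
    (fun i => injective_sgl_X Y a i)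

open ZeroObject in
/-- a zero object has injective amplitude in any interval. -/
lemma hasInjAmplitudeIn_of_isZero (K : Dual.D R) (hK : IsZero K) (a b : ℤ) :
    HasInjAmplitudeIn R a b K := by
  refine ⟨0, fun i _ => ?_, fun i => ?_, ⟨(Q.map_isZero (isZero_zero _)).iso hK⟩⟩
  · exact (HomologicalComplex.eval _ _ i).map_isZero (isZero_zero _)
  · have hz : IsZero ((0 : Cx R).X i) :=
      (HomologicalComplex.eval _ _ i).map_isZero (isZero_zero _)
    haveI : Injective ((0 : Cx R).X i) := hz.injective
    exact Module.injective_module_of_injective_object R ((0 : Cx R).X i)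

/-- chain maps between modules placed in different degrees vanish. -/
lemma sgl_hom_eq_zero (N M : ModuleCat.{u} R) (i a : ℤ) (h : i ≠ a) (t : sgl N i ⟶ sgl M a) :
    t = 0 := by
  apply HomologicalComplex.hom_ext
  intro k
  by_cases hk : k = i
  · subst hk
    exact (HomologicalComplex.isZero_single_obj_X _ _ _ _ h).eq_of_tgt _ _
  · exact (HomologicalComplex.isZero_single_obj_X _ _ _ _ hk).eq_of_src _ _

/-- base case: `K` concentrated in degree `a`. -/
lemma base (a : ℤ) (K : Dual.D R) (h : P a a K) : HasInjAmplitudeIn R a a K := by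
  haveI := isGE_of_P a a K h
  haveI := isLE_of_P a a K h
  obtain ⟨J, ⟨e⟩⟩ := exists_iso_singleFunctor_obj_of_isGE_of_isLE K a
  have hJ : Module.Injective R J := by
    apply injective_of_ext_one
    intro I
    have h1 := (subsingleton_sgl_iff (ModuleCat.of R (R ⧸ I)) (a + 1) K).1 (h I (a + 1) (by omega))
    let ι : K⟦(a + 1 : ℤ)⟧ ≅ ((singleFunctor (ModuleCat.{u} R) 0).obj J)⟦(1 : ℤ)⟧ :=
      (shiftFunctor (Dual.D R) (a + 1 : ℤ)).mapIso e ≪≫
        ((singleFunctors (ModuleCat.{u} R)).shiftIso (a + 1) (-1) a (by omega)).app J ≪≫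
        (((singleFunctors (ModuleCat.{u} R)).shiftIso 1 (-1) 0 (by omega)).app J).symm
    exact ((Iso.refl _).homCongr ι).symm.subsingleton
  haveI : Injective J := Module.injective_object_of_injective_module R J
  refine ⟨sgl J a, ?_, fun i => injective_sgl_X J a i,
    ⟨(singleFunctorIsoCompQ (ModuleCat.{u} R) a).symm.app J ≪≫ e.symm⟩⟩
  intro i hi
  exact HomologicalComplex.isZero_single_obj_X _ _ _ _ (by omega)

end Groth.Agent.H4.InjAmp
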