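import Mathlib
import Groth.Agent.H4.InjAmp3
set_option autoImplicit false
universe u
open CategoryTheory CategoryTheory.Limits CategoryTheory.Pretriangulated

namespace Groth.Agent.H4.InjAmp

attribute [local instance] HasDerivedCategory.standard

variable {R : Type u} [CommRing R]

open DRing DerivedCategory Groth.Agent.H4.TwoTerm Groth.Agent.H4.DRing1 Groth.Agent.H4.ProjAmp

open CochainComplex (mappingCone)

set_option maxHeartbeats 800000 in
/-- (3) ⇒ (1) of the injective amplitude criterion, by induction on the length. -/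
theorem exists_injective_rep (m : ℕ) : ∀ (a b : ℤ) (K : Dual.D R), b - a < m → P a b K →
    HasInjAmplitudeIn R a b K := by
  induction m with
  | zero =>
    intro a b K hab hK
    haveI := isGE_of_P a b K hK
    haveI := isLE_of_P a b K hK
    exact hasInjAmplitudeIn_of_isZero K (TStructure.t.isZero K b a (by omega)) a b
  | succ m ih =>
    intro a b K hab hK
    haveI := isGE_of_P a b K hK
    haveI := isLE_of_P a b K hK
    by_cases h1 : b < a
    · exact hasInjAmplitudeIn_of_isZero K (TStructure.t.isZero K b a h1) a b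
    by_cases h2 : b = a
    · subst h2
      exact base b K hK
    have hab' : a < b := by omega
    obtain ⟨I₀, hI₀, T, hT, e₁, e₂, hC⟩ := exists_triangle_kill_bottom K a
    have hK₁ : P a b T.obj₁ := P_of_iso a b e₁ hK
    -- the cone satisfies the condition for `[a, b - 1]`
    have hCP : P a (b - 1) T.obj₃ := by
      intro I i hi
      refine ⟨fun φ ψ => ?_⟩
      suffices H : ∀ ξ : Q.obj (sgl (ModuleCat.of R (R ⧸ I)) i) ⟶ T.obj₃, ξ = 0 from
        (H φ).trans (H ψ).symm
      intro ξ
      rcases hi with hi | hi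
      · haveI : (Q.obj (sgl (ModuleCat.of R (R ⧸ I)) i)).IsLE i :=
          TStructure.t.isLE_of_iso ((singleFunctorIsoCompQ (ModuleCat.{u} R) i).app _) i
        exact TStructure.t.zero ξ i a hi
      · have h3 : ξ ≫ T.mor₃ = 0 :=
          (subsingleton_sgl_shift_one _ i (i + 1) rfl T.obj₁ (hK₁ I (i + 1) (by omega))).elim _ _
        obtain ⟨θ, hθ⟩ := Triangle.coyoneda_exact₃ T hT ξ h3
        obtain ⟨t, ht⟩ := Groth.Agent.H4.DThick.exists_map_of_isKInjective _ (sgl I₀ a)
          (θ ≫ e₂.inv)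
        rw [sgl_hom_eq_zero _ _ i a (by omega) t, Functor.map_zero] at ht
        have hθ0 : θ = 0 := by
          rw [← cancel_mono e₂.inv, ← ht, zero_comp]
        rw [hθ, hθ0, zero_comp]
    obtain ⟨E', hE', hinj', ⟨eC⟩⟩ := ih a (b - 1) T.obj₃ (by omega) hCP
    -- reconstruct `K`
    haveI : (E'⟦(-1 : ℤ)⟧).IsKInjective :=
      Groth.Agent.H4.DThick.isKInjective_of_vanishes_injective (E'⟦(-1 : ℤ)⟧) (a + 1)
        (fun i hi => hE' (i + -1) (Or.inl (by omega))) (fun i => hinj' (i + -1))
    obtain ⟨f, ⟨e₃⟩⟩ := Groth.Agent.H4.DThick.exists_cone_iso' T.invRotate.invRotate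
      (inv_rot_of_distTriang _ (inv_rot_of_distTriang _ hT))
      (sgl I₀ (a + 1)) (E'⟦(-1 : ℤ)⟧)
      ((sglShiftIso I₀ a (a + 1) rfl).symm ≪≫ (shiftFunctor (Dual.D R) (-1 : ℤ)).mapIso e₂)
      ((Q.commShiftIso (-1 : ℤ)).app E' ≪≫ (shiftFunctor (Dual.D R) (-1 : ℤ)).mapIso eC)
    refine ⟨mappingCone f, ?_, ?_, ⟨e₃ ≪≫ e₁.symm⟩⟩
    · intro i hi
      refine Groth.Agent.H3.PerfAux.mappingCone_X_isZero f i ?_ ?_
      · exact HomologicalComplex.isZero_single_obj_X _ _ _ _ (by omega)
      · exact hE' (i + -1) (by omega)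
    · intro i
      have e : (mappingCone f).X i ≅ (sgl I₀ (a + 1)).X (i + 1) ⊞ (E'⟦(-1 : ℤ)⟧).X i :=
        HomologicalComplex.homotopyCofiber.XIsoBiprod f i (i + 1) rfl
      haveI : Injective ((sgl I₀ (a + 1)).X (i + 1)) := by
        haveI := injective_sgl_X I₀ (a + 1) (i + 1)
        exact Module.injective_object_of_injective_module R ((sgl I₀ (a + 1)).X (i + 1))
      haveI : Injective ((E'⟦(-1 : ℤ)⟧).X i) := by
        haveI : Module.Injective R ((E'⟦(-1 : ℤ)⟧).X i) := hinj' (i + -1)
        exact Module.injective_object_of_injective_module R ((E'⟦(-1 : ℤ)⟧).X i)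
      haveI : Injective ((mappingCone f).X i) := Injective.of_iso e.symm inferInstance
      exact Module.injective_module_of_injective_object R ((mappingCone f).X i)

/-- (1) ⇒ (2). -/
theorem ext_subsingleton_of_rep (E : Cx R) (a b : ℤ) (hE : VanishesOutside E a b)
    (hinj : TermwiseInjective E) (K : Dual.D R) (ε : toD E ≅ K)
    (N : ModuleCat.{u} R) (i : ℤ) (hi : i < a ∨ b < i) :
    Subsingleton ((singleFunctor (ModuleCat.{u} R) 0).obj N ⟶ K⟦i⟧) := by
  rw [← subsingleton_sgl_iff]
  refine ⟨fun φ ψ => ?_⟩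
  suffices H : ∀ φ : Q.obj (sgl N i) ⟶ K, φ = 0 from (H φ).trans (H ψ).symm
  intro φ
  haveI : E.IsKInjective := Groth.Agent.H4.DThick.isKInjective_of_vanishes_injective E a
    (fun i hi => hE i (Or.inl hi)) hinj
  obtain ⟨f, hf⟩ := Groth.Agent.H4.DThick.exists_map_of_isKInjective (sgl N i) E (φ ≫ ε.inv)
  have hf0 : f = 0 := by
    apply HomologicalComplex.hom_ext
    intro j
    by_cases hj : j = i
    · subst hj
      exact (hE j hi).eq_of_tgt _ _
    · exact (HomologicalComplex.isZero_single_obj_X _ _ _ _ hj).eq_of_src _ _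
  rw [hf0, Functor.map_zero] at hf
  rw [← cancel_mono ε.inv, ← hf, zero_comp]

end Groth.Agent.H4.InjAmp
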