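import Mathlib
import Groth.Agent.H4.InjAmp4
set_option autoImplicit false
universe u
open CategoryTheory CategoryTheory.Limits CategoryTheory.Pretriangulated

namespace Groth.Agent.H4.DComp

attribute [local instance] HasDerivedCategory.standard

variable {A : Type u} [CommRing A]

open DRing DerivedCategory Polynomial Groth.Agent.H4.ProjAmp Groth.Agent.H4.InjAmp

/-- the polynomial `fX - 1`. -/
noncomputable abbrev pol (f : A) : A[X] := C f * X - 1

/-- multiplication by `fX - 1` on `A[X]`. -/
noncomputable def dT (f : A) : A[X] →ₗ[A] A[X] := LinearMap.mulLeft A (pol f)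

lemma dT_apply (f : A) (q : A[X]) : dT f q = pol f * q := rfl

lemma dT_injective (f : A) : Function.Injective (dT f) := by
  rw [← LinearMap.ker_eq_bot, LinearMap.ker_eq_bot']
  intro q hq
  rw [dT_apply] at hq
  ext n
  rw [coeff_zero]
  induction n with
  | zero =>
    have := congrArg (fun p => p.coeff 0) hq
    simp [pol, sub_mul, mul_assoc] at this
    exact this
  | succ n ih =>
    have := congrArg (fun p => p.coeff (n + 1)) hq
    simp only [pol, sub_mul, mul_assoc, one_mul, coeff_sub, coeff_C_mul, coeff_X_mul, coeff_zero] at this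
    rw [ih, mul_zero, zero_sub, neg_eq_zero] at this
    exact this

/-- the projection `A[X] → A_f`, `X ↦ 1/f`. -/
noncomputable def πT (f : A) : A[X] →ₗ[A] Localization.Away f :=
  (Localization.awayEquivAdjoin f).symm.toLinearMap ∘ₗ (AdjoinRoot.mkₐ (pol f)).toLinearMap

lemma πT_surjective (f : A) : Function.Surjective (πT f) := by
  intro y
  obtain ⟨q, hq⟩ := AdjoinRoot.mk_surjective (g := pol f) (Localization.awayEquivAdjoin f y)
  refine ⟨q, ?_⟩
  change (Localization.awayEquivAdjoin f).symm (AdjoinRoot.mk (pol f) q) = y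
  rw [hq, AlgEquiv.symm_apply_apply]

lemma πT_eq_zero_iff (f : A) (q : A[X]) : πT f q = 0 ↔ q ∈ LinearMap.range (dT f) := by
  change (Localization.awayEquivAdjoin f).symm (AdjoinRoot.mk (pol f) q) = 0 ↔ _
  rw [map_eq_zero_iff _ (Localization.awayEquivAdjoin f).symm.injective, AdjoinRoot.mk_eq_zero]
  constructor
  · rintro ⟨r, rfl⟩
    exact ⟨r, rfl⟩
  · rintro ⟨r, rfl⟩
    exact ⟨r, rfl⟩

lemma exact_dT_πT (f : A) : Function.Exact (dT f) (πT f) := by
  intro q
  rw [πT_eq_zero_iff]
  rfl

/-- the short complex `0 → A[X] → A[X] → A_f → 0`. -/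
noncomputable def sc (f : A) : ShortComplex (ModuleCat.{u} A) :=
  ShortComplex.mk (ModuleCat.ofHom (dT f)) (ModuleCat.ofHom (πT f)) (by
    apply ModuleCat.hom_ext
    apply LinearMap.ext
    intro q
    exact (exact_dT_πT f).apply_apply_eq_zero q)

lemma sc_shortExact (f : A) : (sc f).ShortExact :=
  ModuleCat.shortComplex_shortExact (sc f) (exact_dT_πT f) (dT_injective f) (πT_surjective f)

/-- the object `A_f[0]`. -/
noncomputable abbrev Fo (f : A) : Dual.D A := Dual.inD A (Localization.Away f)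

/-- the free module `A[X]` in `ModuleCat`. -/
noncomputable abbrev PX (A : Type u) [CommRing A] : ModuleCat.{u} A := ModuleCat.of A A[X]

/-- morphisms from a projective module placed in degree `n` to an object of `D^{<n}` vanish. -/
lemma hom_single_projective_eq_zero (P : ModuleCat.{u} A) [Module.Projective A P] (n : ℤ)
    (K : Dual.D A) [K.IsLE (n - 1)] (φ : (singleFunctor (ModuleCat.{u} A) n).obj P ⟶ K) : φ = 0 := by
  have := hom_eq_zero_of_projective (sgl P n) n n
    (fun i hi => HomologicalComplex.isZero_single_obj_X _ _ _ _ (by omega))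
    (fun i => projective_sgl_X P n i) K
    ((singleFunctorIsoCompQ (ModuleCat.{u} A) n).inv.app P ≫ φ)
  exact (cancel_epi ((singleFunctorIsoCompQ (ModuleCat.{u} A) n).inv.app P)).1
    (this.trans comp_zero.symm)

/-- `Hom(A_f[0], K) = 0` for `K ∈ D^{≥ 1}`. -/
lemma hom_Fo_eq_zero_of_isGE (f : A) (K : Dual.D A) [K.IsGE 1] (φ : Fo f ⟶ K) : φ = 0 :=
  TStructure.t.zero φ 0 1 (by omega)

/-- `Hom(A_f[0], K) = 0` for `K ∈ D^{≤ -2}`. -/
lemma hom_Fo_eq_zero_of_isLE (f : A) (K : Dual.D A) [K.IsLE (-2)] (φ : Fo f ⟶ K) : φ = 0 := by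
  have hT := (sc_shortExact f).singleTriangle_distinguished
  haveI : K.IsLE (0 - 1) := TStructure.t.isLE_of_le K (-2) (0 - 1) (by omega)
  have h1 : (sc_shortExact f).singleTriangle.mor₂ ≫ φ = 0 :=
    hom_single_projective_eq_zero (PX A) 0 K _
  obtain ⟨g, hg⟩ := Triangle.yoneda_exact₃ _ hT φ h1
  haveI : K.IsLE (-1 - 1) := TStructure.t.isLE_of_le K (-2) (-1 - 1) (by omega)
  have h2 := hom_single_projective_eq_zero (PX A) (-1) K
    (((singleFunctors (ModuleCat.{u} A)).shiftIso 1 (-1) 0 (by omega)).inv.app (PX A) ≫ g)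
  have h3 : g = 0 :=
    (cancel_epi (((singleFunctors (ModuleCat.{u} A)).shiftIso 1 (-1) 0 (by omega)).inv.app
      (PX A))).1 (h2.trans comp_zero.symm)
  rw [hg, h3]
  exact Limits.comp_zero

end Groth.Agent.H4.DComp
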