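import Mathlib
import Groth.Agent.H4.DComp1
import Groth.Prelude.Def_DRing3
set_option autoImplicit false
universe u
open CategoryTheory CategoryTheory.Limits CategoryTheory.Pretriangulated

namespace Groth.Agent.H4.DComp

attribute [local instance] HasDerivedCategory.standard

variable {A : Type u} [CommRing A]

open DRing DerivedCategory Polynomial Groth.Agent.H4.ProjAmp Groth.Agent.H4.InjAmp

/-- the module-level criterion: `Hom(A_f[0], M[n]) = 0` for all `n` iff precomposition with the
telescope map `fX - 1` is bijective on `Hom(A[X], M)`. -/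
theorem subsingleton_hom_iff (f : A) (M : ModuleCat.{u} A) :
    (∀ n : ℤ, Subsingleton (Fo f ⟶ ((singleFunctor (ModuleCat.{u} A) 0).obj M)⟦n⟧)) ↔
      Function.Bijective (fun x : A[X] →ₗ[A] M => x ∘ₗ dT f) := by
  have hS := sc_shortExact f
  have hT := hS.singleTriangle_distinguished
  constructor
  · intro h
    constructor
    · -- injectivity from `n = 0`
      intro x y hxy
      have hxy' : (x - y) ∘ₗ dT f = 0 := by
        change x ∘ₗ dT f = y ∘ₗ dT f at hxy
        rw [LinearMap.sub_comp, hxy, sub_self]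
      haveI := hS.epi_g
      let k : (sc f).X₂ ⟶ M := ModuleCat.ofHom (x - y)
      have hk : (sc f).f ≫ k = 0 := by
        apply ModuleCat.hom_ext
        exact hxy'
      let φ := hS.exact.desc k hk
      have hφ : (sc f).g ≫ φ = k := hS.exact.g_desc k hk
      have h0 : φ = 0 := by
        apply (singleFunctor (ModuleCat.{u} A) 0).map_injective
        let e : ((singleFunctor (ModuleCat.{u} A) 0).obj M)⟦(0 : ℤ)⟧ ≅
          (singleFunctor (ModuleCat.{u} A) 0).obj M := (shiftFunctorZero (Dual.D A) ℤ).app _
        have := (h 0).elim ((singleFunctor (ModuleCat.{u} A) 0).map φ ≫ e.inv) 0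
        have h2 := congrArg (fun ψ => ψ ≫ e.hom) this
        simp only [Category.assoc, Iso.inv_hom_id, Limits.zero_comp, Category.comp_id] at h2
        rw [Functor.map_zero]
        exact h2
      rw [h0, Limits.comp_zero] at hφ
      have : x - y = 0 := by
        have := congrArg ModuleCat.Hom.hom hφ
        exact this.symm
      exact sub_eq_zero.1 this
    · -- surjectivity from `n = 1`
      intro y
      let φ : (singleFunctor (ModuleCat.{u} A) 0).obj (PX A) ⟶
        (singleFunctor (ModuleCat.{u} A) 0).obj M :=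
          (singleFunctor (ModuleCat.{u} A) 0).map (ModuleCat.ofHom y)
      obtain ⟨g, hg⟩ := Triangle.yoneda_exact₃ hS.singleTriangle.rotate (rot_of_distTriang _ hT)
        (φ⟦(1 : ℤ)⟧') ((h 1).elim _ _)
      obtain ⟨g', rfl⟩ := (shiftFunctor (Dual.D A) (1 : ℤ)).map_surjective g
      obtain ⟨h', rfl⟩ := (singleFunctor (ModuleCat.{u} A) 0).map_surjective g'
      have h1 : φ = (singleFunctor (ModuleCat.{u} A) 0).map ((sc f).f ≫ (-h')) := by
        apply (shiftFunctor (Dual.D A) (1 : ℤ)).map_injective
        refine hg.trans ?_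
        have e1 : hS.singleTriangle.rotate.mor₃ =
          -((singleFunctor (ModuleCat.{u} A) 0).map (sc f).f)⟦(1 : ℤ)⟧' := rfl
        rw [e1]
        have e2 : (singleFunctor (ModuleCat.{u} A) 0).map ((sc f).f ≫ (-h')) =
            -((singleFunctor (ModuleCat.{u} A) 0).map (sc f).f ≫
              (singleFunctor (ModuleCat.{u} A) 0).map h') := by
          rw [Functor.map_comp, Functor.map_neg, Preadditive.comp_neg]
        rw [e2]
        exact (Preadditive.neg_comp _ _).trans
          ((congrArg Neg.neg (Functor.map_comp _ _ _).symm).trans (Functor.map_neg _ ).symm)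
      have h2 : ModuleCat.ofHom y = (sc f).f ≫ (-h') :=
        (singleFunctor (ModuleCat.{u} A) 0).map_injective h1
      refine ⟨(-h').hom, ?_⟩
      have := congrArg ModuleCat.Hom.hom h2
      exact this.symm
  · rintro ⟨hinj, hsurj⟩ n
    refine ⟨fun φ ψ => ?_⟩
    suffices H : ∀ ξ : Fo f ⟶ ((singleFunctor (ModuleCat.{u} A) 0).obj M)⟦n⟧, ξ = 0 from
      (H φ).trans (H ψ).symm
    intro ξ
    by_cases hn0 : n < 0
    · haveI : (((singleFunctor (ModuleCat.{u} A) 0).obj M)⟦n⟧).IsGE (-n) :=
        TStructure.t.isGE_shift _ 0 n (-n) (by omega)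
      haveI : (((singleFunctor (ModuleCat.{u} A) 0).obj M)⟦n⟧).IsGE 1 :=
        TStructure.t.isGE_of_ge _ 1 (-n) (by omega)
      exact hom_Fo_eq_zero_of_isGE f _ ξ
    by_cases hn2 : 2 ≤ n
    · haveI : (((singleFunctor (ModuleCat.{u} A) 0).obj M)⟦n⟧).IsLE (-n) :=
        TStructure.t.isLE_shift _ 0 n (-n) (by omega)
      haveI : (((singleFunctor (ModuleCat.{u} A) 0).obj M)⟦n⟧).IsLE (-2) :=
        TStructure.t.isLE_of_le _ (-n) (-2) (by omega)
      exact hom_Fo_eq_zero_of_isLE f _ ξ
    by_cases hn : n = 0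
    · subst hn
      let e : ((singleFunctor (ModuleCat.{u} A) 0).obj M)⟦(0 : ℤ)⟧ ≅
        (singleFunctor (ModuleCat.{u} A) 0).obj M := (shiftFunctorZero (Dual.D A) ℤ).app _
      obtain ⟨ψ, hψ⟩ := (singleFunctor (ModuleCat.{u} A) 0).map_surjective (ξ ≫ e.hom)
      have h1 : ψ.hom ∘ₗ πT f = 0 := by
        apply hinj
        change (ψ.hom ∘ₗ πT f) ∘ₗ dT f = 0 ∘ₗ dT f
        rw [LinearMap.zero_comp, LinearMap.comp_assoc]
        have : πT f ∘ₗ dT f = 0 := by
          ext q
          exact (exact_dT_πT f).apply_apply_eq_zero _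
        rw [this, LinearMap.comp_zero]
      have h2 : ψ = 0 := by
        apply ModuleCat.hom_ext
        apply LinearMap.ext
        intro z
        obtain ⟨q, rfl⟩ := πT_surjective f z
        exact congrArg (fun l => l q) h1
      rw [h2, Functor.map_zero] at hψ
      have := congrArg (fun ψ => ψ ≫ e.inv) hψ
      simp only [Category.assoc, Iso.hom_inv_id, Limits.zero_comp, Category.comp_id] at this
      exact this.symm
    · have hn1 : n = 1 := by omega
      subst hn1
      haveI : (((singleFunctor (ModuleCat.{u} A) 0).obj M)⟦(1 : ℤ)⟧).IsLE (0 - 1) :=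
        TStructure.t.isLE_shift _ 0 1 (0 - 1) (by omega)
      have h1 : hS.singleTriangle.mor₂ ≫ ξ = 0 :=
        hom_single_projective_eq_zero (PX A) 0 _ _
      obtain ⟨g, hg⟩ := Triangle.yoneda_exact₃ _ hT ξ h1
      obtain ⟨g', rfl⟩ := (shiftFunctor (Dual.D A) (1 : ℤ)).map_surjective g
      obtain ⟨h', rfl⟩ := (singleFunctor (ModuleCat.{u} A) 0).map_surjective g'
      obtain ⟨y, hy⟩ := hsurj h'.hom
      have h2 : h' = (sc f).f ≫ ModuleCat.ofHom y := by
        apply ModuleCat.hom_ext
        exact hy.symm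
      have hcomp : ξ = hS.singleTriangle.mor₃ ≫ hS.singleTriangle.mor₁⟦(1 : ℤ)⟧' ≫
          ((singleFunctor (ModuleCat.{u} A) 0).map (ModuleCat.ofHom y))⟦(1 : ℤ)⟧' := by
        rw [hg, h2, ← Functor.map_comp]
        exact congrArg (fun z => hS.singleTriangle.mor₃ ≫ (shiftFunctor (Dual.D A) (1 : ℤ)).map z)
          (Functor.map_comp _ _ _)
      have := comp_distTriang_mor_zero₃₁ _ hT
      rw [hcomp, reassoc_of% this]
      exact Limits.zero_comp
      

/-- the operator `x ↦ (x_n - f x_{n+1})` on sequences. -/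
def Psi (f : A) (M : Type*) [AddCommGroup M] [Module A M] : (ℕ → M) →ₗ[A] (ℕ → M) where
  toFun x n := x n - f • x (n + 1)
  map_add' x y := by
    funext n
    simp only [Pi.add_apply, smul_add]
    abel
  map_smul' a x := by
    funext n
    simp only [Pi.smul_apply, RingHom.id_apply, smul_sub]
    rw [smul_comm]

@[simp] lemma Psi_apply (f : A) (M : Type*) [AddCommGroup M] [Module A M] (x : ℕ → M) (n : ℕ) :
    Psi f M x n = x n - f • x (n + 1) := rfl

/-- linear maps out of `A[X]` as sequences. -/
noncomputable def toSeq (M : Type*) [AddCommGroup M] [Module A M] (x : A[X] →ₗ[A] M) : ℕ → M :=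
  fun n => x (X ^ n)

lemma toSeq_bijective (M : Type*) [AddCommGroup M] [Module A M] :
    Function.Bijective (toSeq (A := A) M) := by
  constructor
  · intro x y hxy
    apply Polynomial.lhom_ext'
    intro n
    apply LinearMap.ext_ring
    have := congrFun hxy n
    simpa [toSeq, X_pow_eq_monomial] using this
  · intro u
    refine ⟨(Polynomial.basisMonomials A).constr A u, ?_⟩
    funext n
    have := (Polynomial.basisMonomials A).constr_basis A u n
    rw [Polynomial.coe_basisMonomials] at this
    simpa [toSeq, X_pow_eq_monomial] using this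

lemma toSeq_comp_dT (f : A) (M : Type*) [AddCommGroup M] [Module A M] (x : A[X] →ₗ[A] M) :
    toSeq M (x ∘ₗ dT f) = - Psi f M (toSeq M x) := by
  funext n
  simp only [toSeq, LinearMap.comp_apply, dT_apply, Pi.neg_apply, Psi_apply, neg_sub]
  have : pol f * X ^ n = f • X ^ (n + 1) - X ^ n := by
    simp only [pol, sub_mul, one_mul, pow_succ, Polynomial.smul_eq_C_mul]
    ring
  rw [this, map_sub, map_smul]

lemma bijective_comp_dT_iff (f : A) (M : Type*) [AddCommGroup M] [Module A M] :
    Function.Bijective (fun x : A[X] →ₗ[A] M => x ∘ₗ dT f) ↔ Function.Bijective (Psi f M) := by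
  have hneg : Function.Bijective (fun u : ℕ → M => -u) := (Equiv.neg (ℕ → M)).bijective
  have key : (toSeq M) ∘ (fun x : A[X] →ₗ[A] M => x ∘ₗ dT f) =
      ((fun u : ℕ → M => -u) ∘ (Psi f M)) ∘ toSeq M := by
    funext x
    exact toSeq_comp_dT f M x
  constructor
  · intro h
    have h1 : Function.Bijective (((fun u : ℕ → M => -u) ∘ (Psi f M)) ∘ toSeq (A := A) M) := by
      rw [← key]
      exact (toSeq_bijective (A := A) M).comp h
    have h2 := (Function.Bijective.of_comp_iff _ (toSeq_bijective (A := A) M)).1 h1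
    exact (Function.Bijective.of_comp_iff' hneg _).1 h2
  · intro h
    have h1 : Function.Bijective ((toSeq (A := A) M) ∘ (fun x : A[X] →ₗ[A] M => x ∘ₗ dT f)) := by
      rw [key]
      exact (hneg.comp h).comp (toSeq_bijective (A := A) M)
    exact (Function.Bijective.of_comp_iff' (toSeq_bijective (A := A) M) _).1 h1

/-- **module-level criterion for derived completeness.** -/
theorem isDerivedComplete_inD_iff (I : Ideal A) (M : Type u) [AddCommGroup M] [Module A M] :
    IsDerivedComplete I (Dual.inD A M) ↔ ∀ f ∈ I, Function.Bijective (Psi f M) := by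
  constructor
  · intro h f hf
    rw [← bijective_comp_dT_iff]
    exact (subsingleton_hom_iff f (ModuleCat.of A M)).1 (h f hf)
  · intro h f hf
    exact (subsingleton_hom_iff f (ModuleCat.of A M)).2 ((bijective_comp_dT_iff f M).2 (h f hf))

end Groth.Agent.H4.DComp
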