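import Mathlib
import Groth.Agent.H4.DComp2
set_option autoImplicit false
universe u

namespace Groth.Agent.H4.DComp

variable {A : Type u} [CommRing A]

section
variable (f : A) {M N L : Type*} [AddCommGroup M] [Module A M] [AddCommGroup N] [Module A N]
  [AddCommGroup L] [Module A L]

lemma Psi_comp (u : M →ₗ[A] N) (x : ℕ → M) :
    Psi f N (fun n => u (x n)) = fun n => u (Psi f M x n) := by
  funext n
  simp only [Psi_apply, map_sub, map_smul]

lemma Psi_injective_iff : Function.Injective (Psi f M) ↔ ∀ x : ℕ → M, Psi f M x = 0 → x = 0 :=
  injective_iff_map_eq_zero (Psi f M)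

/-- extension: `0 → M → N → L → 0` exact with `M`, `L` complete implies `N` complete. -/
theorem Psi_bijective_of_exact (i : M →ₗ[A] N) (p : N →ₗ[A] L) (hi : Function.Injective i)
    (hp : Function.Surjective p) (hex : Function.Exact i p)
    (hM : Function.Bijective (Psi f M)) (hL : Function.Bijective (Psi f L)) :
    Function.Bijective (Psi f N) := by
  constructor
  · rw [Psi_injective_iff]
    intro x hx
    have h1 : (fun n => p (x n)) = 0 := by
      apply (Psi_injective_iff f).1 hL.1
      rw [Psi_comp, hx]
      funext n
      simp
    have h2 : ∀ n, ∃ z, i z = x n := fun n => (hex (x n)).1 (congrFun h1 n)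
    choose z hz using h2
    have h3 : z = 0 := by
      apply (Psi_injective_iff f).1 hM.1
      funext n
      apply hi
      have := congrFun (Psi_comp f i z) n
      rw [← this]
      have h4 : (fun n => i (z n)) = x := funext hz
      rw [h4, hx]
      simp
    funext n
    rw [← hz n, h3]
    simp
  · intro y
    obtain ⟨wbar, hw⟩ := hL.2 (fun n => p (y n))
    have h1 : ∀ n, ∃ w, p w = wbar n := fun n => hp (wbar n)
    choose w hw' using h1
    have h2 : ∀ n, ∃ z, i z = y n - Psi f N w n := by
      intro n
      apply (hex _).1
      rw [map_sub]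
      have := congrFun (Psi_comp f p w) n
      rw [← this]
      have h3 : (fun n => p (w n)) = wbar := funext hw'
      rw [h3, hw, sub_self]
    choose z hz using h2
    obtain ⟨z', hz'⟩ := hM.2 z
    refine ⟨w + fun n => i (z' n), ?_⟩
    rw [map_add, Psi_comp, hz']
    funext n
    simp only [Pi.add_apply]
    rw [hz n]
    abel

/-- kernels of maps between complete modules are complete. -/
theorem Psi_bijective_ker (u : M →ₗ[A] N)
    (hM : Function.Bijective (Psi f M)) (hN : Function.Bijective (Psi f N)) :
    Function.Bijective (Psi f (LinearMap.ker u)) := by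
  constructor
  · rw [Psi_injective_iff]
    intro x hx
    have h1 : (fun n => ((x n : LinearMap.ker u) : M)) = 0 := by
      apply (Psi_injective_iff f).1 hM.1
      have := Psi_comp f (LinearMap.ker u).subtype x
      simp only [Submodule.subtype_apply] at this
      rw [this, hx]
      funext n
      simp
    funext n
    apply Subtype.ext
    exact congrFun h1 n
  · intro y
    obtain ⟨x, hx⟩ := hM.2 (fun n => ((y n : LinearMap.ker u) : M))
    have h1 : (fun n => u (x n)) = 0 := by
      apply (Psi_injective_iff f).1 hN.1
      rw [Psi_comp, hx]
      funext n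
      simp
    refine ⟨fun n => ⟨x n, congrFun h1 n⟩, ?_⟩
    funext n
    apply Subtype.ext
    have := congrFun hx n
    simpa using this

/-- cokernels of maps between complete modules are complete. -/
theorem Psi_bijective_coker (u : M →ₗ[A] N)
    (hM : Function.Bijective (Psi f M)) (hN : Function.Bijective (Psi f N)) :
    Function.Bijective (Psi f (N ⧸ LinearMap.range u)) := by
  set p := (LinearMap.range u).mkQ with hp
  have hps : Function.Surjective p := Submodule.mkQ_surjective _
  constructor
  · rw [Psi_injective_iff]
    intro xbar hx
    have h1 : ∀ n, ∃ x, p x = xbar n := fun n => hps (xbar n)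
    choose x hx' using h1
    have hxx : (fun n => p (x n)) = xbar := funext hx'
    have h2 : ∀ n, ∃ m, u m = Psi f N x n := by
      intro n
      have := congrFun (Psi_comp f p x) n
      rw [hxx, hx] at this
      have h3 : Psi f N x n ∈ LinearMap.range u := by
        rw [← Submodule.Quotient.mk_eq_zero]
        exact this.symm
      exact h3
    choose m hm using h2
    obtain ⟨m', hm'⟩ := hM.2 m
    have h4 : x = fun n => u (m' n) := by
      have : x - (fun n => u (m' n)) = 0 := by
        apply (Psi_injective_iff f).1 hN.1
        rw [map_sub, Psi_comp, hm']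
        funext n
        simp only [Pi.sub_apply, Pi.zero_apply]
        rw [hm n, sub_self]
      exact sub_eq_zero.1 this
    rw [← hxx, h4]
    funext n
    simp only [Pi.zero_apply]
    rw [hp, Submodule.mkQ_apply, Submodule.Quotient.mk_eq_zero]
    exact ⟨_, rfl⟩
  · intro ybar
    have h1 : ∀ n, ∃ y, p y = ybar n := fun n => hps (ybar n)
    choose y hy using h1
    obtain ⟨x, hx⟩ := hN.2 y
    refine ⟨fun n => p (x n), ?_⟩
    rw [Psi_comp, hx]
    exact funext hy

end

end Groth.Agent.H4.DComp
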