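import Mathlib
import Groth.Agent.H4.DComp3
set_option autoImplicit false
universe u

namespace Groth.Agent.H4.DComp

variable {A : Type u} [CommRing A]

section
variable {M : Type*} [AddCommGroup M] [Module A M]

/-- convergence of series with `k`-th term in `I^k M`. -/
def Conv (I : Ideal A) (M : Type*) [AddCommGroup M] [Module A M] : Prop :=
  ∀ d : ℕ → M, (∀ k, d k ∈ (I ^ k • ⊤ : Submodule A M)) →
    ∃ L : M, ∀ n, L - ∑ k ∈ Finset.range n, d k ∈ (I ^ n • ⊤ : Submodule A M)

lemma isPrecomplete_of_conv (I : Ideal A) (h : Conv I M) : IsPrecomplete I M := by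
  rw [isPrecomplete_iff]
  intro x hx
  obtain ⟨L, hL⟩ := h (fun k => x (k + 1) - x k) (fun k => by
    have := (hx (Nat.le_succ k)).symm
    rw [SModEq.sub_mem] at this
    exact this)
  refine ⟨L + x 0, fun n => ?_⟩
  have h1 : ∑ k ∈ Finset.range n, (x (k + 1) - x k) = x n - x 0 := Finset.sum_range_sub x n
  have h2 := hL n
  rw [h1] at h2
  rw [SModEq.sub_mem]
  have : x n - (L + x 0) = -(L - (x n - x 0)) := by abel
  rw [this]
  exact Submodule.neg_mem _ h2

lemma conv_of_isPrecomplete (I : Ideal A) [h : IsPrecomplete I M] : Conv I M := by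
  intro d hd
  have hc : ∀ {m n : ℕ}, m ≤ n → (∑ k ∈ Finset.range m, d k) ≡ (∑ k ∈ Finset.range n, d k)
      [SMOD (I ^ m • ⊤ : Submodule A M)] := by
    intro m n hmn
    induction n, hmn using Nat.le_induction with
    | base => exact SModEq.refl _
    | succ n hmn ih =>
      refine ih.trans ?_
      rw [SModEq.sub_mem, Finset.sum_range_succ, sub_add_cancel_left]
      exact Submodule.neg_mem _ (Submodule.smul_mono_left (Ideal.pow_le_pow_right hmn) (hd n))
  obtain ⟨L, hL⟩ := IsPrecomplete.prec h (fun {m n} hmn => hc hmn)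
  refine ⟨L, fun n => ?_⟩
  have := (hL n).symm
  rw [SModEq.sub_mem] at this
  exact this

/-- one-step decomposition of `I^{k+1} M` for `I = (f) + I'`. -/
lemma mul_pow_le (f : A) (I' : Ideal A) (k : ℕ) :
    I' * (Ideal.span {f} ⊔ I') ^ k ≤ Ideal.span {f} * (Ideal.span {f} ⊔ I') ^ k ⊔ I' ^ (k + 1) := by
  induction k with
  | zero => simp
  | succ k ih =>
    set I := Ideal.span {f} ⊔ I' with hI
    have h1 : I' * I ^ k ≤ I ^ (k + 1) := by
      rw [pow_succ']
      exact Ideal.mul_mono_left le_sup_right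
    calc I' * I ^ (k + 1) = I' * (I * I ^ k) := by rw [pow_succ']
      _ = Ideal.span {f} * (I' * I ^ k) ⊔ I' * (I' * I ^ k) := by
          conv_lhs => rw [hI, Ideal.sup_mul, Ideal.mul_sup, ← hI]
          rw [mul_left_comm I' (Ideal.span {f})]
      _ ≤ Ideal.span {f} * I ^ (k + 1) ⊔ I' * (Ideal.span {f} * I ^ k ⊔ I' ^ (k + 1)) :=
          sup_le_sup (Ideal.mul_mono_right h1) (Ideal.mul_mono_right ih)
      _ = Ideal.span {f} * I ^ (k + 1) ⊔ (Ideal.span {f} * (I' * I ^ k) ⊔ I' ^ (k + 2)) := by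
          rw [Ideal.mul_sup, ← mul_assoc, mul_comm I' (Ideal.span {f}), mul_assoc, ← pow_succ']
      _ ≤ Ideal.span {f} * I ^ (k + 1) ⊔ I' ^ (k + 1 + 1) := by
          apply sup_le le_sup_left
          apply sup_le
          · exact le_sup_of_le_left (Ideal.mul_mono_right h1)
          · exact le_sup_right

lemma pow_succ_le (f : A) (I' : Ideal A) (k : ℕ) :
    (Ideal.span {f} ⊔ I') ^ (k + 1) ≤ Ideal.span {f} * (Ideal.span {f} ⊔ I') ^ k ⊔ I' ^ (k + 1) := by
  set I := Ideal.span {f} ⊔ I' with hI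
  calc I ^ (k + 1) = I * I ^ k := pow_succ' _ _
    _ = Ideal.span {f} * I ^ k ⊔ I' * I ^ k := by rw [hI, Ideal.sup_mul]
    _ ≤ Ideal.span {f} * I ^ k ⊔ I' ^ (k + 1) := sup_le le_sup_left (mul_pow_le f I' k)

lemma exists_decomp (f : A) (I' : Ideal A) (k : ℕ) (d : M)
    (hd : d ∈ ((Ideal.span {f} ⊔ I') ^ (k + 1) • ⊤ : Submodule A M)) :
    ∃ d' e : M, d' ∈ ((Ideal.span {f} ⊔ I') ^ k • ⊤ : Submodule A M) ∧
      e ∈ (I' ^ (k + 1) • ⊤ : Submodule A M) ∧ d = f • d' + e := by
  have h1 := Submodule.smul_mono_left (N := (⊤ : Submodule A M)) (pow_succ_le f I' k) hd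
  rw [Submodule.sup_smul, Submodule.mul_smul, Submodule.ideal_span_singleton_smul] at h1
  obtain ⟨y, hy, e, he, rfl⟩ := Submodule.mem_sup.1 h1
  rw [Submodule.mem_smul_pointwise_iff_exists] at hy
  obtain ⟨d', hd', rfl⟩ := hy
  exact ⟨d', e, hd', he, rfl⟩

/-- one step: peel off a factor `f` from the tail of a series. -/
lemma exists_step (f : A) (I' : Ideal A) (hI' : Conv I' M) (d : ℕ → M)
    (hd : ∀ k, d k ∈ ((Ideal.span {f} ⊔ I') ^ k • ⊤ : Submodule A M)) :
    ∃ (d' : ℕ → M) (Ed : M), (∀ k, d' k ∈ ((Ideal.span {f} ⊔ I') ^ k • ⊤ : Submodule A M)) ∧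
      ∀ n, (Ed + f • ∑ k ∈ Finset.range n, d' k) - ∑ k ∈ Finset.range n, d (k + 1) ∈
        (I' ^ (n + 1) • ⊤ : Submodule A M) := by
  have h1 := fun k => exists_decomp f I' k (d (k + 1)) (hd (k + 1))
  choose d' e hd' he hde using h1
  let ehat : ℕ → M := fun k => Nat.casesOn k 0 e
  have hehat : ∀ k, ehat k ∈ (I' ^ k • ⊤ : Submodule A M) := by
    intro k
    cases k with
    | zero => exact Submodule.zero_mem _
    | succ k => exact he k
  obtain ⟨L, hL⟩ := hI' ehat hehat
  refine ⟨d', L, hd', fun n => ?_⟩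
  have h2 := hL (n + 1)
  rw [Finset.sum_range_succ'] at h2
  have h3 : ∑ k ∈ Finset.range n, d (k + 1) =
      f • ∑ k ∈ Finset.range n, d' k + ∑ k ∈ Finset.range n, e k := by
    rw [Finset.smul_sum, ← Finset.sum_add_distrib]
    exact Finset.sum_congr rfl (fun k _ => hde k)
  have h4 : (L + f • ∑ k ∈ Finset.range n, d' k) - ∑ k ∈ Finset.range n, d (k + 1) =
      L - (∑ k ∈ Finset.range n, ehat (k + 1) + ehat 0) := by
    rw [h3]
    change _ = L - (∑ k ∈ Finset.range n, e k + 0)
    abel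
  rw [h4]
  exact h2

/-- adding one generator along which the module is derived complete preserves convergence of
series. -/
theorem conv_sup (f : A) (I' : Ideal A) (hf : Function.Surjective (Psi f M)) (hI' : Conv I' M) :
    Conv (Ideal.span {f} ⊔ I') M := by
  set I := Ideal.span {f} ⊔ I' with hI
  have hfI : f ∈ I := Ideal.mem_sup_left (Ideal.subset_span rfl)
  intro d hd
  let Ser := {d : ℕ → M // ∀ k, d k ∈ (I ^ k • ⊤ : Submodule A M)}
  have hstep : ∀ s : Ser, ∃ (s' : Ser) (Ed : M), ∀ n,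
      (Ed + f • ∑ k ∈ Finset.range n, s'.1 k) - ∑ k ∈ Finset.range n, s.1 (k + 1) ∈
        (I' ^ (n + 1) • ⊤ : Submodule A M) := by
    intro s
    obtain ⟨d', Ed, h1, h2⟩ := exists_step f I' hI' s.1 s.2
    exact ⟨⟨d', h1⟩, Ed, h2⟩
  choose next Ev hnext using hstep
  let D : ℕ → Ser := fun i => next^[i] ⟨d, hd⟩
  have hD : ∀ i, D (i + 1) = next (D i) := fun i => Function.iterate_succ_apply' next i _
  obtain ⟨z, hz⟩ := hf (fun i => (D i).1 0 + Ev (D i))
  have hz' : ∀ i, z i = (D i).1 0 + Ev (D i) + f • z (i + 1) := by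
    intro i
    have := congrFun hz i
    simp only [Psi_apply] at this
    rw [← this]
    abel
  have claim : ∀ n i, z i - ∑ k ∈ Finset.range n, (D i).1 k ∈ (I ^ n • ⊤ : Submodule A M) := by
    intro n
    induction n with
    | zero =>
      intro i
      rw [pow_zero, Ideal.one_eq_top, Submodule.top_smul]
      trivial
    | succ n ih =>
      intro i
      rw [Finset.sum_range_succ', hz' i]
      have e1 := hnext (D i) n
      rw [← hD i] at e1
      have e1' : (Ev (D i) + f • ∑ k ∈ Finset.range n, (D (i + 1)).1 k) -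
          ∑ k ∈ Finset.range n, (D i).1 (k + 1) ∈ (I ^ (n + 1) • ⊤ : Submodule A M) :=
        Submodule.smul_mono_left (Ideal.pow_right_mono le_sup_right (n + 1)) e1
      have e2 : f • (z (i + 1) - ∑ k ∈ Finset.range n, (D (i + 1)).1 k) ∈
          (I ^ (n + 1) • ⊤ : Submodule A M) := by
        rw [pow_succ', Submodule.mul_smul]
        exact Submodule.smul_mem_smul hfI (ih (i + 1))
      have : (D i).1 0 + Ev (D i) + f • z (i + 1) -
          (∑ k ∈ Finset.range n, (D i).1 (k + 1) + (D i).1 0) =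
          ((Ev (D i) + f • ∑ k ∈ Finset.range n, (D (i + 1)).1 k) -
            ∑ k ∈ Finset.range n, (D i).1 (k + 1)) +
          f • (z (i + 1) - ∑ k ∈ Finset.range n, (D (i + 1)).1 k) := by
        rw [smul_sub]
        abel
      rw [this]
      exact Submodule.add_mem _ e1' e2
  exact ⟨z 0, fun n => claim n 0⟩

/-- a module derived complete along finitely many elements is precomplete for the ideal they
generate. -/
theorem isPrecomplete_span (s : Finset A) (h : ∀ f ∈ s, Function.Surjective (Psi f M)) :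
    IsPrecomplete (Ideal.span (s : Set A)) M := by
  classical
  apply isPrecomplete_of_conv
  induction s using Finset.induction_on with
  | empty =>
    rw [Finset.coe_empty, Ideal.span_empty]
    exact conv_of_isPrecomplete ⊥
  | insert f s hfs ih =>
    rw [Finset.coe_insert, Ideal.span_insert]
    exact conv_sup f _ (h f (Finset.mem_insert_self f s))
      (ih (fun g hg => h g (Finset.mem_insert_of_mem hg)))

end

end Groth.Agent.H4.DComp
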