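import Mathlib
import Groth.Agent.H4.DComp4
set_option autoImplicit false
universe u
open CategoryTheory CategoryTheory.Limits CategoryTheory.Pretriangulated

namespace Groth.Agent.H4.DComp

attribute [local instance] HasDerivedCategory.standard

variable {A : Type u} [CommRing A]

open DRing DerivedCategory Groth.Agent.H4.ProjAmp Groth.Agent.H4.InjAmp Groth.Agent.H4.DThick
  Groth.Agent.H4.DRing1

/-- left orthogonality to all shifts of `A_f[0]`. -/
def LO (f : A) (K : Dual.D A) : Prop := ∀ n : ℤ, Subsingleton ((Fo f)⟦n⟧ ⟶ K)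

lemma LO_iff (f : A) (K : Dual.D A) :
    LO f K ↔ ∀ n : ℤ, Subsingleton (Fo f ⟶ K⟦n⟧) := by
  constructor
  · intro h n
    haveI := h (-n)
    exact (homShiftEquiv (Fo f) K (-n) n (by simp)).symm.subsingleton
  · intro h n
    haveI := h (-n)
    exact (homShiftEquiv (Fo f) K n (-n) (by simp)).subsingleton

lemma isDerivedComplete_iff_LO (I : Ideal A) (K : Dual.D A) :
    IsDerivedComplete I K ↔ ∀ f ∈ I, LO f K := by
  constructor
  · intro h f hf
    rw [LO_iff]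
    exact h f hf
  · intro h f hf
    exact (LO_iff f K).1 (h f hf)

lemma LO.eq_zero {f : A} {K : Dual.D A} (h : LO f K) {n : ℤ} (φ : (Fo f)⟦n⟧ ⟶ K) : φ = 0 :=
  (h n).elim _ _

lemma LO_of_forall {f : A} {K : Dual.D A} (h : ∀ (n : ℤ) (φ : (Fo f)⟦n⟧ ⟶ K), φ = 0) : LO f K :=
  fun n => ⟨fun φ ψ => (h n φ).trans (h n ψ).symm⟩

theorem isTriSub_LO (f : A) : IsTriSub (LO f) where
  iso := by
    intro K K' e h n
    haveI := h n
    exact ((Iso.refl _).homCongr e).symm.subsingleton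
  zero := by
    intro K hK n
    exact ⟨fun φ ψ => hK.eq_of_tgt _ _⟩
  shift := by
    intro K m h n
    haveI := h (n + -m)
    have e : ((Fo f)⟦n⟧ ⟶ K⟦m⟧) ≃ ((Fo f)⟦n + -m⟧ ⟶ K) :=
      (homShiftEquiv ((Fo f)⟦n⟧) K (-m) m (by simp)).symm.trans
        (((shiftFunctorAdd' (Dual.D A) n (-m) (n + -m) rfl).app (Fo f)).symm.homCongr (Iso.refl K))
    exact e.subsingleton
  ext₂ := by
    intro T hT h1 h3
    apply LO_of_forall
    intro n φ
    obtain ⟨g, hg⟩ := Triangle.coyoneda_exact₂ T hT φ (h3.eq_zero _)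
    rw [hg, h1.eq_zero g, zero_comp]

theorem isTriSub_isDerivedComplete (I : Ideal A) : IsTriSub (IsDerivedComplete I) where
  iso := fun e h => (isDerivedComplete_iff_LO I _).2
    (fun f hf => (isTriSub_LO f).iso e ((isDerivedComplete_iff_LO I _).1 h f hf))
  zero := fun K hK => (isDerivedComplete_iff_LO I _).2 (fun f _ => (isTriSub_LO f).zero K hK)
  shift := fun K m h => (isDerivedComplete_iff_LO I _).2
    (fun f hf => (isTriSub_LO f).shift K m ((isDerivedComplete_iff_LO I _).1 h f hf))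
  ext₂ := fun T hT h1 h3 => (isDerivedComplete_iff_LO I _).2
    (fun f hf => (isTriSub_LO f).ext₂ T hT ((isDerivedComplete_iff_LO I _).1 h1 f hf)
      ((isDerivedComplete_iff_LO I _).1 h3 f hf))

/-- `Hom(A_f[n], K) = 0` for `K ∈ D^{≥ -n+1}`. -/
lemma hom_Fo_shift_eq_zero_of_isGE (f : A) (n a : ℤ) (ha : -n + 1 ≤ a) (K : Dual.D A) [K.IsGE a]
    (φ : (Fo f)⟦n⟧ ⟶ K) : φ = 0 := by
  haveI : (K⟦-n⟧).IsGE (a + n) := TStructure.t.isGE_shift K a (-n) (a + n) (by omega)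
  haveI : (K⟦-n⟧).IsGE 1 := TStructure.t.isGE_of_ge _ 1 (a + n) (by omega)
  apply (homShiftEquiv (Fo f) K n (-n) (by simp)).injective
  exact (hom_Fo_eq_zero_of_isGE f _ _).trans (hom_Fo_eq_zero_of_isGE f _ _).symm

/-- `Hom(A_f[n], K) = 0` for `K ∈ D^{≤ -n-2}`. -/
lemma hom_Fo_shift_eq_zero_of_isLE (f : A) (n b : ℤ) (hb : b ≤ -n - 2) (K : Dual.D A) [K.IsLE b]
    (φ : (Fo f)⟦n⟧ ⟶ K) : φ = 0 := by
  haveI : (K⟦-n⟧).IsLE (b + n) := TStructure.t.isLE_shift K b (-n) (b + n) (by omega)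
  haveI : (K⟦-n⟧).IsLE (-2) := TStructure.t.isLE_of_le _ (b + n) (-2) (by omega)
  apply (homShiftEquiv (Fo f) K n (-n) (by simp)).injective
  exact (hom_Fo_eq_zero_of_isLE f _ _).trans (hom_Fo_eq_zero_of_isLE f _ _).symm

end Groth.Agent.H4.DComp
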