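import Mathlib
import Groth.Agent.H4.DComp5
set_option autoImplicit false
universe u
open CategoryTheory CategoryTheory.Limits CategoryTheory.Pretriangulated

namespace Groth.Agent.H4.DComp

attribute [local instance] HasDerivedCategory.standard

variable {A : Type u} [CommRing A]

open DRing DerivedCategory Groth.Agent.H4.ProjAmp Groth.Agent.H4.InjAmp Groth.Agent.H4.DThick
  Groth.Agent.H4.DRing1

/-- the middle truncation `τ_{≤ c} τ_{≥ c} K`. -/
noncomputable abbrev mid (c : ℤ) (K : Dual.D A) : Dual.D A :=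
  ((tR A).truncLT (c + 1)).obj (((tR A).truncGE c).obj K)

instance (c : ℤ) (K : Dual.D A) : (mid c K).IsLE c :=
  (tR A).isLE_truncLT_obj _ (c + 1) c

instance (c : ℤ) (K : Dual.D A) : (mid c K).IsGE c := by
  rw [isGE_iff]
  intro i hi
  haveI := isIso_homology_truncLTι (c + 1) i (by omega) (((tR A).truncGE c).obj K)
  exact (isZero_of_isGE (((tR A).truncGE c).obj K) c i hi).of_iso
    (asIso ((homologyFunctor (ModuleCat.{u} A) i).map
      (((tR A).truncLTι (c + 1)).app (((tR A).truncGE c).obj K))))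

/-- `H^c(τ_{≤c}τ_{≥c} K) ≅ H^c(K)`. -/
noncomputable def midHomologyIso (c : ℤ) (K : Dual.D A) :
    (homologyFunctor (ModuleCat.{u} A) c).obj (mid c K) ≅
      (homologyFunctor (ModuleCat.{u} A) c).obj K := by
  haveI := isIso_homology_truncLTι (c + 1) c (by omega) (((tR A).truncGE c).obj K)
  haveI : (Triangle.mk (((tR A).truncLTι c).app K) (((tR A).truncGEπ c).app K)
      (((tR A).truncGEδLT c).app K)).obj₁.IsLE (c - 1) :=
    inferInstanceAs ((tR A).IsLE (((tR A).truncLT c).obj K) (c - 1))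
  haveI : IsIso ((homologyFunctor (ModuleCat.{u} A) c).map (((tR A).truncGEπ c).app K)) :=
    isIso_homology_mor₂ _ (triangleLTGE_dist c K) c c le_rfl
  exact asIso ((homologyFunctor (ModuleCat.{u} A) c).map
      (((tR A).truncLTι (c + 1)).app (((tR A).truncGE c).obj K))) ≪≫
    (asIso ((homologyFunctor (ModuleCat.{u} A) c).map (((tR A).truncGEπ c).app K))).symm

/-- `τ_{≤c}τ_{≥c} K ≅ H^c(K)[-c]`. -/
lemma nonempty_mid_iso (c : ℤ) (K : Dual.D A) :
    Nonempty (mid c K ≅ (singleFunctor (ModuleCat.{u} A) c).obj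
      ((homologyFunctor (ModuleCat.{u} A) c).obj K)) := by
  obtain ⟨Y, ⟨e⟩⟩ := exists_iso_singleFunctor_obj_of_isGE_of_isLE (mid c K) c
  have eY : (homologyFunctor (ModuleCat.{u} A) c).obj K ≅ Y :=
    (midHomologyIso c K).symm ≪≫ (homologyFunctor _ c).mapIso e ≪≫ homologySingleIso c Y
  exact ⟨e ≪≫ (singleFunctor (ModuleCat.{u} A) c).mapIso eY.symm⟩

/-- the key lifting argument: an object `G` with no maps to `D^{≤ c-2}` nor to `D^{≥ c+2}` and no
maps to `K` has no maps to `τ_{≤c}τ_{≥c} K`. -/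
theorem hom_mid_eq_zero (c : ℤ) (G K : Dual.D A)
    (h1 : ∀ (X : Dual.D A), X.IsLE (c - 2) → ∀ φ : G ⟶ X, φ = 0)
    (h2 : ∀ (X : Dual.D A), X.IsGE (c + 2) → ∀ φ : G ⟶ X, φ = 0)
    (h0 : ∀ φ : G ⟶ K, φ = 0) (φ : G ⟶ mid c K) : φ = 0 := by
  set Y := ((tR A).truncGE c).obj K with hY
  -- the composite to `Y` lifts to `K`, hence vanishes
  have hφι : φ ≫ ((tR A).truncLTι (c + 1)).app Y = 0 := by
    have hobs : (φ ≫ ((tR A).truncLTι (c + 1)).app Y) ≫ ((tR A).truncGEδLT c).app K = 0 := by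
      apply h1
      exact (tR A).isLE_shift (((tR A).truncLT c).obj K) (c - 1) 1 (c - 2) (by omega)
    obtain ⟨ψ, hψ⟩ : ∃ ψ : G ⟶ K, φ ≫ ((tR A).truncLTι (c + 1)).app Y =
        ψ ≫ ((tR A).truncGEπ c).app K :=
      Triangle.coyoneda_exact₃ _ (triangleLTGE_dist c K) _ hobs
    rw [hψ, h0 ψ, zero_comp]
  obtain ⟨g, hg⟩ := Triangle.coyoneda_exact₂ _
    (inv_rot_of_distTriang _ (triangleLTGE_dist (c + 1) Y)) φ hφι
  have hg0 : g = 0 := by
    apply h2
    exact (tR A).isGE_shift (((tR A).truncGE (c + 1)).obj Y) (c + 1) (-1) (c + 2) (by omega)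
  rw [hg, hg0]
  exact zero_comp

/-- the middle truncation of an object left orthogonal to `A_f` is again left orthogonal. -/
theorem LO_mid (f : A) (c : ℤ) (K : Dual.D A) (hK : LO f K) : LO f (mid c K) := by
  apply LO_of_forall
  intro n φ
  by_cases h1 : -n + 1 ≤ c
  · by_cases h2 : c ≤ -n - 2
    · omega
    · by_cases h3 : -n + 1 ≤ c - 1
      · exact hom_Fo_shift_eq_zero_of_isGE f n c (by omega) _ φ
      · by_cases h4 : n = -c
        · -- `n = -c`
          refine hom_mid_eq_zero c _ K ?_ ?_ (fun ψ => hK.eq_zero ψ) φ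
          · intro X hX ψ
            exact hom_Fo_shift_eq_zero_of_isLE f n (c - 2) (by omega) X ψ
          · intro X hX ψ
            exact hom_Fo_shift_eq_zero_of_isGE f n (c + 2) (by omega) X ψ
        · exact hom_Fo_shift_eq_zero_of_isGE f n c (by omega) _ φ
  · by_cases h2 : c ≤ -n - 2
    · exact hom_Fo_shift_eq_zero_of_isLE f n c h2 _ φ
    · -- `n = -c - 1`
      refine hom_mid_eq_zero c _ K ?_ ?_ (fun ψ => hK.eq_zero ψ) φ
      · intro X hX ψ
        exact hom_Fo_shift_eq_zero_of_isLE f n (c - 2) (by omega) X ψ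
      · intro X hX ψ
        exact hom_Fo_shift_eq_zero_of_isGE f n (c + 2) (by omega) X ψ

/-- (⇒) of S7050 for one element. -/
theorem LO_homology (f : A) (K : Dual.D A) (hK : LO f K) (c : ℤ) :
    LO f ((singleFunctor (ModuleCat.{u} A) 0).obj ((homologyFunctor (ModuleCat.{u} A) c).obj K)) := by
  obtain ⟨e⟩ := nonempty_mid_iso c K
  have h1 : LO f ((singleFunctor (ModuleCat.{u} A) c).obj
      ((homologyFunctor (ModuleCat.{u} A) c).obj K)) := (isTriSub_LO f).iso e (LO_mid f c K hK)
  exact (isTriSub_LO f).iso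
    (((singleFunctors (ModuleCat.{u} A)).shiftIso c 0 c (by omega)).app _)
    ((isTriSub_LO f).shift _ c h1)

/-- (⇐) of S7050 for one element. -/
theorem LO_of_homology (f : A) (K : Dual.D A)
    (hK : ∀ c : ℤ, LO f ((singleFunctor (ModuleCat.{u} A) 0).obj
      ((homologyFunctor (ModuleCat.{u} A) c).obj K))) : LO f K := by
  apply LO_of_forall
  intro n φ
  set a : ℤ := -n - 1 with ha
  set Y := ((tR A).truncGE a).obj K with hY
  set Z := ((tR A).truncLT (a + 2)).obj Y with hZ
  -- `Z` is left orthogonal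
  have hZLO : LO f Z := by
    haveI : Z.IsLE (a + 1) := (tR A).isLE_truncLT_obj Y (a + 2) (a + 1)
    have hiso : ∀ i : ℤ, i < a + 2 → IsIso ((homologyFunctor (ModuleCat.{u} A) i).map
        (((tR A).truncLTι (a + 2)).app Y)) := fun i hi => isIso_homology_truncLTι (a + 2) i hi Y
    apply (isTriSub_LO f).of_bounded_homology Z ⟨a, a + 1, ?_⟩
    · intro i
      by_cases hi : a ≤ i ∧ i ≤ a + 1
      · haveI := hiso i (by omega)
        haveI : (Triangle.mk (((tR A).truncLTι a).app K) (((tR A).truncGEπ a).app K)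
            (((tR A).truncGEδLT a).app K)).obj₁.IsLE (a - 1) :=
          inferInstanceAs ((tR A).IsLE (((tR A).truncLT a).obj K) (a - 1))
        haveI : IsIso ((homologyFunctor (ModuleCat.{u} A) i).map (((tR A).truncGEπ a).app K)) :=
          isIso_homology_mor₂ _ (triangleLTGE_dist a K) a i hi.1
        let e : (homologyFunctor (ModuleCat.{u} A) i).obj K ≅
            (homologyFunctor (ModuleCat.{u} A) i).obj Z :=
          asIso ((homologyFunctor (ModuleCat.{u} A) i).map (((tR A).truncGEπ a).app K)) ≪≫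
            (asIso ((homologyFunctor (ModuleCat.{u} A) i).map
              (((tR A).truncLTι (a + 2)).app Y))).symm
        exact (isTriSub_LO f).iso ((singleFunctor (ModuleCat.{u} A) 0).mapIso e) (hK i)
      · apply (isTriSub_LO f).zero
        apply (singleFunctor (ModuleCat.{u} A) 0).map_isZero
        by_cases hi' : i < a
        · haveI := hiso i (by omega)
          exact (isZero_of_isGE Y a i hi').of_iso
            (asIso ((homologyFunctor (ModuleCat.{u} A) i).map (((tR A).truncLTι (a + 2)).app Y)))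
        · exact isZero_of_isLE Z (a + 1) i (by omega)
    · intro i hi
      apply ModuleCat.subsingleton_of_isZero
      rcases hi with hi | hi
      · haveI := hiso i (by omega)
        exact (isZero_of_isGE Y a i hi).of_iso
          (asIso ((homologyFunctor (ModuleCat.{u} A) i).map (((tR A).truncLTι (a + 2)).app Y)))
      · exact isZero_of_isLE Z (a + 1) i hi
  -- maps to `Y` vanish
  have hY0 : ∀ ξ : (Fo f)⟦n⟧ ⟶ Y, ξ = 0 := by
    intro ξ
    have h1 : ξ ≫ ((tR A).truncGEπ (a + 2)).app Y = 0 :=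
      hom_Fo_shift_eq_zero_of_isGE f n (a + 2) (by omega) _ _
    obtain ⟨g, hg⟩ : ∃ g : (Fo f)⟦n⟧ ⟶ Z, ξ = g ≫ ((tR A).truncLTι (a + 2)).app Y :=
      Triangle.coyoneda_exact₂ _ (triangleLTGE_dist (a + 2) Y) ξ h1
    rw [hg, hZLO.eq_zero g, zero_comp]
  obtain ⟨g, hg⟩ : ∃ g : (Fo f)⟦n⟧ ⟶ ((tR A).truncLT a).obj K, φ = g ≫ ((tR A).truncLTι a).app K :=
    Triangle.coyoneda_exact₂ _ (triangleLTGE_dist a K) φ (hY0 _)
  have hg0 : g = 0 := hom_Fo_shift_eq_zero_of_isLE f n (a - 1) (by omega) _ g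
  rw [hg, hg0, zero_comp]

/-- **S7050**: derived completeness can be tested on cohomology modules. -/
theorem isDerivedComplete_iff_homology (I : Ideal A) (K : Dual.D A) :
    IsDerivedComplete I K ↔ ∀ i : ℤ, IsDerivedComplete I
      ((singleFunctor (ModuleCat.{u} A) 0).obj ((homologyFunctor (ModuleCat.{u} A) i).obj K)) := by
  simp only [isDerivedComplete_iff_LO]
  constructor
  · intro h i f hf
    exact LO_homology f K (h f hf) i
  · intro h f hf
    exact LO_of_homology f K (fun c => h c f hf)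

end Groth.Agent.H4.DComp
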