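import Mathlib
import Groth.Agent.H4.DComp6
set_option autoImplicit false
universe u

namespace Groth.Agent.H4.DComp

variable {A : Type u} [CommRing A]

section
variable {N : Type*} [AddCommGroup N] [Module A N]

/-- the twisted operator `x ↦ (x_k - g B x_{k+1})`. -/
def PsiB (g : A) (B : N →ₗ[A] N) : (ℕ → N) →ₗ[A] (ℕ → N) where
  toFun x k := x k - g • B (x (k + 1))
  map_add' x y := by
    funext k
    simp only [Pi.add_apply, map_add, smul_add]
    abel
  map_smul' a x := by
    funext k
    simp only [Pi.smul_apply, RingHom.id_apply, smul_sub, map_smul]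
    rw [smul_comm]

@[simp] lemma PsiB_apply (g : A) (B : N →ₗ[A] N) (x : ℕ → N) (k : ℕ) :
    PsiB g B x k = x k - g • B (x (k + 1)) := rfl

lemma Psi_shift (g : A) (x : ℕ → N) :
    Psi g N (fun k => x (k + 1)) = fun k => Psi g N x (k + 1) := rfl

/-- twisted completeness. -/
theorem PsiB_bijective (g : A) (B : N →ₗ[A] N) (h : Function.Bijective (Psi g N)) :
    Function.Bijective (PsiB g B) := by
  constructor
  · rw [injective_iff_map_eq_zero]
    intro x hx
    have hx' : ∀ k, x k = g • B (x (k + 1)) := by
      intro k
      have := congrFun hx k
      simp only [PsiB_apply, Pi.zero_apply] at this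
      exact sub_eq_zero.1 this
    funext k
    have h0 : (fun j => (B ^ j) (x (k + j))) = 0 := by
      apply (Psi_injective_iff g).1 h.1
      funext j
      simp only [Psi_apply, Pi.zero_apply]
      rw [pow_succ, Module.End.mul_apply, ← map_smul, ← add_assoc, ← hx' (k + j), sub_self]
    have := congrFun h0 0
    simpa using this
  · intro y
    have hw : ∀ k, ∃ w : ℕ → N, Psi g N w = fun j => (B ^ j) (y (k + j)) := fun k => h.2 _
    choose w hw using hw
    have key : ∀ k, (fun j => w k (j + 1)) = fun j => B (w (k + 1) j) := by
      intro k
      apply h.1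
      rw [Psi_shift, hw k, Psi_comp, hw (k + 1)]
      funext j
      simp only
      rw [pow_succ', Module.End.mul_apply, add_assoc, add_comm 1 j]
    refine ⟨fun k => w k 0, ?_⟩
    funext k
    simp only [PsiB_apply]
    have h1 := congrFun (hw k) 0
    simp only [Psi_apply, pow_zero, Module.End.one_apply, add_zero] at h1
    have h2 := congrFun (key k) 0
    simp only [zero_add] at h2
    rw [← h2]
    exact h1

/-- multiples. -/
theorem Psi_bijective_mul (a g : A) (h : Function.Bijective (Psi g N)) :
    Function.Bijective (Psi (a * g) N) := by
  have := PsiB_bijective g (a • LinearMap.id) h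
  convert this using 1
  funext x k
  simp [mul_smul, smul_comm g a]

/-- products of complete modules are complete. -/
theorem Psi_bijective_pi (g : A) (ι : Type*) (h : Function.Bijective (Psi g N)) :
    Function.Bijective (Psi g (ι → N)) := by
  constructor
  · rw [Psi_injective_iff]
    intro x hx
    funext k i
    have : (fun k => x k i) = 0 := by
      apply (Psi_injective_iff g).1 h.1
      funext k
      exact congrFun (congrFun hx k) i
    exact congrFun this k
  · intro y
    have hw : ∀ i, ∃ w : ℕ → N, Psi g N w = fun k => y k i := fun i => h.2 _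
    choose w hw using hw
    refine ⟨fun k i => w i k, ?_⟩
    funext k i
    exact congrFun (hw i) k

end

section
variable {M : Type*} [AddCommGroup M] [Module A M]

/-- the two-variable operator. -/
def Theta (f g : A) (c : ℕ → ℕ → M) : ℕ → ℕ → M :=
  fun j i => c j i - f • c j (i + 1) - g • c (j + 1) i

theorem Theta_bijective (f g : A) (hf : Function.Bijective (Psi f M))
    (hg : Function.Bijective (Psi g M)) : Function.Bijective (Theta (M := M) f g) := by
  let e := LinearEquiv.ofBijective (Psi f M) hf
  let B : (ℕ → M) →ₗ[A] (ℕ → M) := e.symm.toLinearMap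
  have h2 := PsiB_bijective g B (Psi_bijective_pi g ℕ hg)
  have h1 : Function.Bijective (fun c : ℕ → ℕ → M => fun j => Psi f M (c j)) := by
    constructor
    · intro c c' hcc
      funext j
      exact hf.1 (congrFun hcc j)
    · intro c
      choose w hw using fun j => hf.2 (c j)
      exact ⟨w, funext hw⟩
  have : Theta (M := M) f g = (fun c : ℕ → ℕ → M => fun j => Psi f M (c j)) ∘ (PsiB g B) := by
    funext c j i
    simp only [Theta, Function.comp_apply, PsiB_apply, map_sub, map_smul]
    have : Psi f M (B (c (j + 1))) = c (j + 1) := e.apply_symm_apply _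
    rw [this]
    simp only [Pi.sub_apply, Psi_apply, Pi.smul_apply]
  rw [this]
  exact h1.comp h2

/-- sums. -/
theorem Psi_bijective_add (f g : A) (hf : Function.Bijective (Psi f M))
    (hg : Function.Bijective (Psi g M)) : Function.Bijective (Psi (f + g) M) := by
  have hΘ := Theta_bijective f g hf hg
  constructor
  · rw [Psi_injective_iff]
    intro x hx
    have h0 : Theta f g (fun j i => x (i + j)) = Theta f g (0 : ℕ → ℕ → M) := by
      funext j i
      have := congrFun hx (i + j)
      simp only [Psi_apply, Pi.zero_apply, add_smul] at this
      simp only [Theta, Pi.zero_apply, smul_zero, sub_zero]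
      rw [← this, add_right_comm i 1 j, add_assoc i j 1]
      abel
    have := hΘ.1 h0
    funext i
    have h1 := congrFun (congrFun this 0) i
    simpa using h1
  · intro y
    obtain ⟨c, hc⟩ := hΘ.2 (fun j i => y (i + j))
    have hcomm : (fun j i => c j (i + 1)) = fun j i => c (j + 1) i := by
      apply hΘ.1
      funext j i
      have e1 := congrFun (congrFun hc j) (i + 1)
      have e2 := congrFun (congrFun hc (j + 1)) i
      simp only [Theta] at e1 e2 ⊢
      rw [e1, e2, add_right_comm i 1 j, add_assoc i j 1]
    have hcx : ∀ j i, c j i = c 0 (i + j) := by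
      intro j
      induction j with
      | zero => intro i; rfl
      | succ j ih =>
        intro i
        have := congrFun (congrFun hcomm j) i
        rw [← this, ih (i + 1), add_right_comm i 1 j, add_assoc i j 1]
    refine ⟨fun k => c 0 k, ?_⟩
    funext k
    have e1 := congrFun (congrFun hc 0) k
    simp only [Theta, add_zero] at e1
    simp only [Psi_apply, add_smul]
    rw [← e1, hcx 1 k]
    abel

end

end Groth.Agent.H4.DComp
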