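import Mathlib
import Groth.Agent.H4.DComp7
set_option autoImplicit false
universe u
open CategoryTheory CategoryTheory.Limits CategoryTheory.Pretriangulated

namespace Groth.Agent.H4.DComp

attribute [local instance] HasDerivedCategory.standard

variable {A : Type u} [CommRing A]

open DRing DerivedCategory Groth.Agent.H4.ProjAmp Groth.Agent.H4.InjAmp Groth.Agent.H4.DThick
  Groth.Agent.H4.DRing1

lemma away_pow (f : A) (m : ℕ) (hm : 0 < m) :
    IsLocalization.Away (f ^ m) (Localization.Away f) := by
  refine IsLocalization.Away.mk _ ?_ ?_ ?_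
  · rw [map_pow]
    exact IsLocalization.Away.algebraMap_pow_isUnit f m
  · intro s
    obtain ⟨n, a, hn⟩ := IsLocalization.Away.surj f s
    refine ⟨n, a * f ^ (m * n - n), ?_⟩
    have h1 : m * n = n + (m * n - n) := by
      have : n ≤ m * n := Nat.le_mul_of_pos_left n hm
      omega
    rw [map_pow, ← pow_mul, map_mul, map_pow]
    conv_lhs => rw [h1, pow_add, ← mul_assoc, hn]
  · intro a b hab
    obtain ⟨n, hn⟩ := IsLocalization.Away.exists_of_eq f hab
    refine ⟨n, ?_⟩
    have h1 : m * n = (m * n - n) + n := by
      have : n ≤ m * n := Nat.le_mul_of_pos_left n hm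
      omega
    rw [← pow_mul, h1, pow_add, mul_assoc, mul_assoc, hn]

/-- `A_f ≃ A_{f^m}` as `A`-modules. -/
noncomputable def awayPowEquiv (f : A) (m : ℕ) (hm : 0 < m) :
    Localization.Away (f ^ m) ≃ₗ[A] Localization.Away f :=
  haveI := away_pow f m hm
  (IsLocalization.algEquiv (Submonoid.powers (f ^ m)) (Localization.Away (f ^ m))
    (Localization.Away f)).toLinearEquiv

lemma LO_of_linearEquiv {f g : A} (e : Localization.Away f ≃ₗ[A] Localization.Away g)
    (K : Dual.D A) (h : LO g K) : LO f K := by
  intro n
  haveI := h n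
  let ε : Fo f ≅ Fo g := (singleFunctor (ModuleCat.{u} A) 0).mapIso e.toModuleIso
  exact (((shiftFunctor (Dual.D A) n).mapIso ε).homCongr (Iso.refl K)).subsingleton

lemma LO_single_iff (f : A) (M : ModuleCat.{u} A) :
    LO f ((singleFunctor (ModuleCat.{u} A) 0).obj M) ↔ Function.Bijective (Psi f M) := by
  rw [LO_iff, subsingleton_hom_iff, bijective_comp_dT_iff]

/-- `LO f K` in terms of the cohomology modules. -/
theorem LO_iff_homology (f : A) (K : Dual.D A) :
    LO f K ↔ ∀ c : ℤ, Function.Bijective
      (Psi f ((homologyFunctor (ModuleCat.{u} A) c).obj K)) := by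
  constructor
  · intro h c
    exact (LO_single_iff f _).1 (LO_homology f K h c)
  · intro h
    exact LO_of_homology f K (fun c => (LO_single_iff f _).2 (h c))

lemma Psi_zero_bijective (M : Type*) [AddCommGroup M] [Module A M] :
    Function.Bijective (Psi (0 : A) M) := by
  have : ⇑(Psi (0 : A) M) = id := by
    funext x k
    simp
  rw [this]
  exact Function.bijective_id

/-- the ideal of elements along which `K` is derived complete. -/
noncomputable def completeIdeal (K : Dual.D A) : Ideal A where
  carrier := {f | LO f K}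
  zero_mem' := (LO_iff_homology 0 K).2 (fun _ => Psi_zero_bijective _)
  add_mem' := by
    intro f g hf hg
    rw [Set.mem_ofPred_eq, LO_iff_homology] at hf hg ⊢
    exact fun c => Psi_bijective_add f g (hf c) (hg c)
  smul_mem' := by
    intro a f hf
    rw [Set.mem_ofPred_eq, LO_iff_homology] at hf ⊢
    exact fun c => Psi_bijective_mul a f (hf c)

lemma mem_completeIdeal (K : Dual.D A) (f : A) : f ∈ completeIdeal K ↔ LO f K := Iff.rfl

theorem completeIdeal_isRadical (K : Dual.D A) : (completeIdeal K).IsRadical := by
  intro f hf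
  obtain ⟨m, hm⟩ := hf
  rcases Nat.eq_zero_or_pos m with rfl | hpos
  · rw [pow_zero] at hm
    have := (completeIdeal K).mul_mem_left f hm
    rwa [mul_one] at this
  · exact LO_of_linearEquiv (awayPowEquiv f m hpos).symm K hm

theorem isDerivedComplete_iff_le (I : Ideal A) (K : Dual.D A) :
    IsDerivedComplete I K ↔ I ≤ completeIdeal K := by
  rw [isDerivedComplete_iff_LO]
  rfl

end Groth.Agent.H4.DComp
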