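import Mathlib
import Groth.Agent.H4.DComp8
set_option autoImplicit false
universe u
open CategoryTheory CategoryTheory.Limits CategoryTheory.Pretriangulated

namespace Groth.Agent.H4.DComp

attribute [local instance] HasDerivedCategory.standard

variable {A : Type u} [CommRing A]

open DRing DerivedCategory Groth.Agent.H4.ProjAmp Groth.Agent.H4.InjAmp Groth.Agent.H4.DThick
  Groth.Agent.H4.DRing1

lemma Psi_bijective_of_linearEquiv (f : A) {M N : Type*} [AddCommGroup M] [Module A M]
    [AddCommGroup N] [Module A N] (e : M ≃ₗ[A] N) (h : Function.Bijective (Psi f M)) :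
    Function.Bijective (Psi f N) := by
  have he : Function.Bijective (fun x : ℕ → M => fun n => e (x n)) := by
    constructor
    · intro x y hxy
      funext n
      exact e.injective (congrFun hxy n)
    · intro y
      exact ⟨fun n => e.symm (y n), by funext n; simp⟩
  have key : (Psi f N) ∘ (fun x : ℕ → M => fun n => e (x n)) =
      (fun x : ℕ → M => fun n => e (x n)) ∘ (Psi f M) := by
    funext x
    exact Psi_comp f e.toLinearMap x
  have h1 : Function.Bijective ((Psi f N) ∘ (fun x : ℕ → M => fun n => e (x n))) := by
    rw [key]
    exact he.comp h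
  exact (Function.Bijective.of_comp_iff _ he).1 h1

/-- the homology of a short complex of complete modules is complete. -/
lemma Psi_bijective_homology (f : A) (S : ShortComplex (ModuleCat.{u} A))
    (h₁ : Function.Bijective (Psi f S.X₁)) (h₂ : Function.Bijective (Psi f S.X₂))
    (h₃ : Function.Bijective (Psi f S.X₃)) : Function.Bijective (Psi f S.homology) := by
  have hk : Function.Bijective (Psi f (LinearMap.ker S.g.hom)) :=
    Psi_bijective_ker f S.g.hom h₂ h₃
  have hq := Psi_bijective_coker f S.moduleCatToCycles h₁ hk
  exact Psi_bijective_of_linearEquiv f S.moduleCatHomologyIso.symm.toLinearEquiv hq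

/-- a complex of complete modules is derived complete. -/
theorem LO_toD_of_termwise (f : A) (E : Cx A) (h : ∀ i : ℤ, Function.Bijective (Psi f (E.X i))) :
    LO f (toD E) := by
  rw [LO_iff_homology]
  intro c
  have h1 : Function.Bijective (Psi f (E.homology c)) :=
    Psi_bijective_homology f (E.sc c) (h _) (h _) (h _)
  exact Psi_bijective_of_linearEquiv f
    ((homologyFunctorFactors (ModuleCat.{u} A) c).app E).symm.toLinearEquiv h1

lemma Psi_bijective_of_finite_free (f : A) (M : Type*) [AddCommGroup M] [Module A M]
    [Module.Finite A M] [Module.Free A M] (h : Function.Bijective (Psi f A)) :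
    Function.Bijective (Psi f M) := by
  have e := (Module.Free.chooseBasis A M).equivFun
  exact Psi_bijective_of_linearEquiv f e.symm (Psi_bijective_pi f _ h)

end Groth.Agent.H4.DComp
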