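import Mathlib
import Groth.Agent.H4.DComp9
import Groth.Prelude.Def_DDual2
set_option autoImplicit false
universe u
open CategoryTheory CategoryTheory.Limits CategoryTheory.Pretriangulated

namespace Groth.Agent.H4.DComp

attribute [local instance] HasDerivedCategory.standard

variable {A B : Type u} [CommRing A] [CommRing B] (φ : A →+* B)

open DRing DerivedCategory Groth.Agent.H4.ProjAmp Groth.Agent.H4.InjAmp Groth.Agent.H4.DThick
  Groth.Agent.H4.DRing1

/-- cohomology commutes with restriction of scalars. -/
noncomputable def restrictHomologyIso (L : Dual.D B) (c : ℤ) :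
    (homologyFunctor (ModuleCat.{u} A) c).obj ((restrictD φ).obj L) ≅
      (ModuleCat.restrictScalars.{u} φ).obj ((homologyFunctor (ModuleCat.{u} B) c).obj L) := by
  let F := ModuleCat.restrictScalars.{u} φ
  let X := Q.objPreimage L
  let e : Q.obj X ≅ L := Q.objObjPreimageIso L
  let e1 : (restrictD φ).obj L ≅ Q.obj ((F.mapHomologicalComplex (ComplexShape.up ℤ)).obj X) :=
    (restrictD φ).mapIso e.symm ≪≫ F.mapDerivedCategoryFactors.app X
  let e2 : ((F.mapHomologicalComplex (ComplexShape.up ℤ)).obj X).homology c ≅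
      F.obj (X.homology c) := (X.sc c).mapHomologyIso F
  exact (homologyFunctor (ModuleCat.{u} A) c).mapIso e1 ≪≫
    (homologyFunctorFactors (ModuleCat.{u} A) c).app _ ≪≫ e2 ≪≫
    F.mapIso ((homologyFunctorFactors (ModuleCat.{u} B) c).app X).symm ≪≫
    F.mapIso ((homologyFunctor (ModuleCat.{u} B) c).mapIso e)

lemma Psi_restrictScalars (f : A) (M : ModuleCat.{u} B) :
    Function.Bijective (Psi f ((ModuleCat.restrictScalars.{u} φ).obj M)) ↔
      Function.Bijective (Psi (φ f) M) := by
  have : ⇑(Psi f ((ModuleCat.restrictScalars.{u} φ).obj M)) = ⇑(Psi (φ f) M) := by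
    funext x k
    rfl
  rw [this]
  exact Iff.rfl

theorem LO_restrictD_iff (f : A) (L : Dual.D B) :
    LO f ((restrictD φ).obj L) ↔ LO (φ f) L := by
  rw [LO_iff_homology, LO_iff_homology]
  constructor
  · intro h c
    rw [← Psi_restrictScalars]
    exact Psi_bijective_of_linearEquiv f (restrictHomologyIso φ L c).toLinearEquiv (h c)
  · intro h c
    exact Psi_bijective_of_linearEquiv f (restrictHomologyIso φ L c).symm.toLinearEquiv
      ((Psi_restrictScalars φ f _).2 (h c))

theorem isDerivedComplete_restrictD_iff (I : Ideal A) (L : Dual.D B) :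
    IsDerivedComplete (I.map φ) L ↔ IsDerivedComplete I ((restrictD φ).obj L) := by
  rw [isDerivedComplete_iff_le, isDerivedComplete_iff_le, Ideal.map_le_iff_le_comap]
  constructor
  · intro h f hf
    exact (LO_restrictD_iff φ f L).2 (h hf)
  · intro h f hf
    exact (LO_restrictD_iff φ f L).1 (h hf)

end Groth.Agent.H4.DComp
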