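import Mathlib
import Groth.Agent.H4.DComp10
set_option autoImplicit false
universe u

namespace Groth.Agent.H4.DComp

variable {A : Type u} [CommRing A]

/-- if `f` is surjective on a module on which `Psi f` is injective, the module vanishes. -/
lemma eq_zero_of_smul_surjective (f : A) {M : Type*} [AddCommGroup M]
    [Module A M] (hM : Function.Injective (Psi f M)) (hs : ∀ x : M, ∃ y : M, x = f • y)
    (x : M) : x = 0 := by
  choose g hg using hs
  let z : ℕ → M := fun n => Nat.rec x (fun _ y => g y) n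
  have hz : ∀ n, z n = f • z (n + 1) := fun n => hg (z n)
  have h0 : z = 0 := by
    apply (Psi_injective_iff f).1 hM
    funext n
    simp only [Psi_apply, Pi.zero_apply]
    rw [← hz n, sub_self]
  exact congrFun h0 0

lemma Psi_injective_submodule (f : A) {M : Type*} [AddCommGroup M] [Module A M]
    (N : Submodule A M) (hM : Function.Injective (Psi f M)) : Function.Injective (Psi f N) := by
  rw [Psi_injective_iff]
  intro x hx
  have h1 : (fun n => ((x n : N) : M)) = 0 := by
    apply (Psi_injective_iff f).1 hM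
    have := Psi_comp f N.subtype x
    simp only [Submodule.subtype_apply] at this
    rw [this, hx]
    funext n
    simp
  funext n
  apply Subtype.ext
  exact congrFun h1 n

section
variable (f : A) {M : Type*} [AddCommGroup M] [Module A M]

/-- `x ∈ f^K M`. -/
def Dv (K : ℕ) (x : M) : Prop := ∃ w : M, x = f ^ K • w

lemma Dv.mono {K K' : ℕ} (h : K' ≤ K) {x : M} (hx : Dv f K x) : Dv f K' x := by
  obtain ⟨w, rfl⟩ := hx
  exact ⟨f ^ (K - K') • w, by rw [smul_smul, ← pow_add, Nat.add_sub_cancel' h]⟩

lemma Dv.add {K : ℕ} {x y : M} (hx : Dv f K x) (hy : Dv f K y) : Dv f K (x + y) := by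
  obtain ⟨w, rfl⟩ := hx
  obtain ⟨w', rfl⟩ := hy
  exact ⟨w + w', by rw [smul_add]⟩

lemma Dv.sub {K : ℕ} {x y : M} (hx : Dv f K x) (hy : Dv f K y) : Dv f K (x - y) := by
  obtain ⟨w, rfl⟩ := hx
  obtain ⟨w', rfl⟩ := hy
  exact ⟨w - w', by rw [smul_sub]⟩

lemma Dv.smul {K : ℕ} {x : M} (a : A) (hx : Dv f K x) : Dv f K (a • x) := by
  obtain ⟨w, rfl⟩ := hx
  exact ⟨a • w, by rw [smul_comm]⟩

lemma Dv_zero (K : ℕ) : Dv f K (0 : M) := ⟨0, by simp⟩

/-- if `f^n M` consists of `f`-divisible elements then `f^n M = 0`. -/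
lemma eq_zero_of_divisible (hinj : Function.Injective (Psi f M)) (n : ℕ)
    (h : ∀ (m : M) (K : ℕ), Dv f K (f ^ n • m)) (m : M) : f ^ n • m = 0 := by
  let N : Submodule A M := LinearMap.range ((f ^ n) • (LinearMap.id : M →ₗ[A] M))
  have hN : ∀ x : N, x = 0 := by
    apply eq_zero_of_smul_surjective f (Psi_injective_submodule f N hinj)
    rintro ⟨x, m, rfl⟩
    obtain ⟨w, hw⟩ := h m (n + 1)
    refine ⟨⟨f ^ n • w, w, rfl⟩, ?_⟩
    apply Subtype.ext
    change f ^ n • m = f • f ^ n • w
    rw [hw, smul_smul, ← pow_succ']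
  have := hN ⟨f ^ n • m, m, rfl⟩
  exact congrArg Subtype.val this

end

section
variable (f : A) {M : Type*} [AddCommGroup M] [Module A M]

lemma mem_span_pow_smul_top_iff (n : ℕ) (x : M) :
    x ∈ ((Ideal.span {f}) ^ n • ⊤ : Submodule A M) ↔ Dv f n x := by
  rw [Ideal.span_singleton_pow, Submodule.ideal_span_singleton_smul,
    Submodule.mem_smul_pointwise_iff_exists]
  constructor
  · rintro ⟨w, -, hw⟩
    exact ⟨w, hw.symm⟩
  · rintro ⟨w, hw⟩
    exact ⟨w, trivial, hw.symm⟩

/-- Baire category argument: a torsion module which is precomplete along `f` has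
`f^n M` divisible for some `n`. -/
theorem exists_pow_divisible (hpre : IsPrecomplete (Ideal.span {f}) M)
    (ht : ∀ m : M, ∃ n : ℕ, f ^ n • m = 0) :
    ∃ n : ℕ, ∀ (m : M) (K : ℕ), Dv f K (f ^ n • m) := by
  by_contra H
  push Not at H
  -- one step of the construction
  have hstep : ∀ (i : ℕ) (p : M × ℕ), ∃ q : M × ℕ, Dv f p.2 (q.1 - p.1) ∧ p.2 < q.2 ∧
      ¬ Dv f q.2 (f ^ i • q.1) := by
    rintro i ⟨z, K⟩
    by_cases h : ∀ K₁, Dv f K₁ (f ^ i • z)
    · obtain ⟨m, K₁, hm⟩ := H (i + K)
      refine ⟨(z + f ^ K • m, max K₁ (K + 1)), ⟨m, by simp⟩, by simp, ?_⟩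
      intro hd
      apply hm
      have h1 : Dv f K₁ (f ^ i • (z + f ^ K • m)) := hd.mono f (le_max_left _ _)
      have h2 := h1.sub f (h K₁)
      rw [smul_add, add_sub_cancel_left, smul_smul, ← pow_add] at h2
      exact h2
    · push Not at h
      obtain ⟨K₁, hK₁⟩ := h
      refine ⟨(z, max K₁ (K + 1)), by simpa using Dv_zero f K, by simp, ?_⟩
      intro hd
      exact hK₁ (hd.mono f (le_max_left _ _))
  choose step hstep1 hstep2 hstep3 using hstep
  let st : ℕ → M × ℕ := fun i => Nat.rec (0, 0) (fun i p => step i p) i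
  have hst : ∀ i, st (i + 1) = step i (st i) := fun i => rfl
  have hK : ∀ i, (st i).2 < (st (i + 1)).2 := fun i => by rw [hst]; exact hstep2 i (st i)
  have hKmono : ∀ {m n : ℕ}, m ≤ n → (st m).2 ≤ (st n).2 := by
    intro m n hmn
    induction n, hmn using Nat.le_induction with
    | base => exact le_rfl
    | succ n _ ih => exact ih.trans (hK n).le
  have hKge : ∀ i, i ≤ (st i).2 := by
    intro i
    induction i with
    | zero => exact Nat.zero_le _
    | succ i ih => exact Nat.succ_le_of_lt (lt_of_le_of_lt ih (hK i))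
  have hdiff : ∀ {m n : ℕ}, m ≤ n → Dv f (st m).2 ((st n).1 - (st m).1) := by
    intro m n hmn
    induction n, hmn using Nat.le_induction with
    | base => simpa using Dv_zero f _
    | succ n hmn ih =>
      have h1 : Dv f (st m).2 ((st (n + 1)).1 - (st n).1) := by
        have := hstep1 n (st n)
        rw [← hst] at this
        exact this.mono f (hKmono hmn)
      have := ih.add f h1
      rwa [add_comm, sub_add_sub_cancel] at this
  -- the limit
  obtain ⟨L, hL⟩ := IsPrecomplete.prec hpre (f := fun i => (st i).1) (by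
    intro m n hmn
    rw [SModEq.sub_mem]
    have := (hdiff hmn).mono f (hKge m)
    rw [mem_span_pow_smul_top_iff]
    obtain ⟨w, hw⟩ := this
    exact ⟨-w, by rw [smul_neg, ← hw]; abel⟩)
  obtain ⟨N, hN⟩ := ht L
  -- contradiction at stage `N`
  set n := max (st (N + 1)).2 (N + 1) with hn
  have h1 : Dv f (st (N + 1)).2 ((st n).1 - L) := by
    have := hL n
    rw [SModEq.sub_mem, mem_span_pow_smul_top_iff] at this
    exact this.mono f (le_max_left _ _)
  have h2 : Dv f (st (N + 1)).2 ((st n).1 - (st (N + 1)).1) := hdiff (le_max_right _ _)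
  have h3 : Dv f (st (N + 1)).2 ((st (N + 1)).1 - L) := by
    have := h1.sub f h2
    rwa [sub_sub_sub_cancel_left] at this
  have h4 : Dv f (st (N + 1)).2 (f ^ N • (st (N + 1)).1) := by
    have := h3.smul f (f ^ N)
    rwa [smul_sub, hN, sub_zero] at this
  have := hstep3 N (st N)
  rw [← hst] at this
  exact this h4

/-- a torsion module which is derived complete along `f` is killed by a power of `f`. -/
theorem exists_pow_smul_eq_zero (hf : Function.Bijective (Psi f M))
    (ht : ∀ m : M, ∃ n : ℕ, f ^ n • m = 0) : ∃ n : ℕ, ∀ m : M, f ^ n • m = 0 := by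
  classical
  have hpre : IsPrecomplete (Ideal.span {f}) M := by
    have := isPrecomplete_span (M := M) ({f} : Finset A) (fun g hg => by
      rw [Finset.mem_singleton] at hg
      subst hg
      exact hf.2)
    simpa using this
  obtain ⟨n, hn⟩ := exists_pow_divisible f hpre ht
  exact ⟨n, fun m => eq_zero_of_divisible f hf.1 n hn m⟩

end

end Groth.Agent.H4.DComp
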