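import Mathlib
import Groth.Agent.H4.DComp9
set_option autoImplicit false
universe u
open CategoryTheory CategoryTheory.Limits CategoryTheory.Pretriangulated

namespace Groth.Agent.H4.DCompl1

attribute [local instance] HasDerivedCategory.standard

variable {A : Type u} [CommRing A]

open DRing DerivedCategory Groth.Agent.H4.ProjAmp Groth.Agent.H4.InjAmp Groth.Agent.H4.DThick
  Groth.Agent.H4.DRing1 Groth.Agent.H4.DComp

/-- `A[-c]`. -/
noncomputable abbrev G (A : Type u) [CommRing A] (c : ℤ) : Dual.D A :=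
  (singleFunctor (ModuleCat.{u} A) c).obj (ModuleCat.of A A)

lemma homG_eq_zero_of_isLE (c b : ℤ) (hb : b < c) (X : Dual.D A) (hX : X.IsLE b) (φ : G A c ⟶ X) :
    φ = 0 := by
  haveI : X.IsLE (c - 1) := (tR A).isLE_of_le X b (c - 1) (by omega)
  exact hom_single_projective_eq_zero (ModuleCat.of A A) c X φ

lemma homG_eq_zero_of_isGE (c a : ℤ) (ha : c < a) (X : Dual.D A) (hX : X.IsGE a) (φ : G A c ⟶ X) :
    φ = 0 :=
  (tR A).zero φ c a ha

lemma bij1 (c : ℤ) (K : Dual.D A) :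
    Function.Bijective (Linear.rightComp A (G A c) (((tR A).truncGEπ c).app K)) := by
  have hT := triangleLTGE_dist c K
  have h1 : (((tR A).truncLT c).obj K).IsLE (c - 1) :=
    inferInstanceAs ((tR A).IsLE (((tR A).truncLT c).obj K) (c - 1))
  constructor
  · rw [injective_iff_map_eq_zero]
    intro φ hφ
    change φ ≫ ((tR A).truncGEπ c).app K = 0 at hφ
    obtain ⟨g, hg⟩ := Triangle.coyoneda_exact₂ _ hT φ hφ
    rw [hg, homG_eq_zero_of_isLE c (c - 1) (by omega) _ h1 g]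
    exact zero_comp
  · intro ψ
    have h0 : ψ ≫ ((tR A).truncGEδLT c).app K = 0 := by
      apply homG_eq_zero_of_isLE c (c - 2) (by omega)
      exact (tR A).isLE_shift (((tR A).truncLT c).obj K) (c - 1) 1 (c - 2) (by omega)
    obtain ⟨φ, hφ⟩ := Triangle.coyoneda_exact₃ _ hT ψ h0
    exact ⟨φ, hφ.symm⟩

lemma bij2 (c : ℤ) (Y : Dual.D A) :
    Function.Bijective (Linear.rightComp A (G A c) (((tR A).truncLTι (c + 1)).app Y)) := by
  have hT := triangleLTGE_dist (c + 1) Y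
  constructor
  · rw [injective_iff_map_eq_zero]
    intro φ hφ
    change φ ≫ ((tR A).truncLTι (c + 1)).app Y = 0 at hφ
    obtain ⟨g, hg⟩ := Triangle.coyoneda_exact₂ _ (inv_rot_of_distTriang _ hT) φ hφ
    have hg0 : g = 0 := by
      apply homG_eq_zero_of_isGE c (c + 2) (by omega)
      exact (tR A).isGE_shift (((tR A).truncGE (c + 1)).obj Y) (c + 1) (-1) (c + 2) (by omega)
    rw [hg, hg0]
    exact zero_comp
  · intro ψ
    have h0 : ψ ≫ ((tR A).truncGEπ (c + 1)).app Y = 0 :=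
      (tR A).zero _ c (c + 1) (by omega)
    obtain ⟨φ, hφ⟩ := Triangle.coyoneda_exact₂ _ hT ψ h0
    exact ⟨φ, hφ.symm⟩

/-- `Hom(A[-c], K) ≃ H^c(K)`, linearly. -/
theorem nonempty_homG_equiv (c : ℤ) (K : Dual.D A) :
    Nonempty ((G A c ⟶ K) ≃ₗ[A] ((homologyFunctor (ModuleCat.{u} A) c).obj K)) := by
  obtain ⟨e⟩ := nonempty_mid_iso c K
  let H := (homologyFunctor (ModuleCat.{u} A) c).obj K
  let e1 := LinearEquiv.ofBijective _ (bij1 c K)
  let e2 := LinearEquiv.ofBijective _ (bij2 c (((tR A).truncGE c).obj K))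
  let e3 : (G A c ⟶ mid c K) ≃ₗ[A] (G A c ⟶ (singleFunctor (ModuleCat.{u} A) c).obj H) :=
    LinearEquiv.ofBijective (Linear.rightComp A (G A c) e.hom) (by
      constructor
      · intro x y hxy
        exact (cancel_mono e.hom).1 hxy
      · intro y
        exact ⟨y ≫ e.inv, by simp [Linear.rightComp]⟩)
  let e4 : (ModuleCat.of A A ⟶ H) ≃ₗ[A] (G A c ⟶ (singleFunctor (ModuleCat.{u} A) c).obj H) :=
    LinearEquiv.ofBijective (Functor.mapLinearMap A (singleFunctor (ModuleCat.{u} A) c))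
      ⟨(singleFunctor (ModuleCat.{u} A) c).map_injective,
        (singleFunctor (ModuleCat.{u} A) c).map_surjective⟩
  let e5 : (ModuleCat.of A A ⟶ H) ≃ₗ[A] (A →ₗ[A] H) := ModuleCat.homLinearEquiv
  let e6 : (A →ₗ[A] H) ≃ₗ[A] H := LinearMap.ringLmapEquivSelf A A H
  exact ⟨e1 ≪≫ₗ e2.symm ≪≫ₗ e3 ≪≫ₗ e4.symm ≪≫ₗ e5 ≪≫ₗ e6⟩

lemma subsingleton_homG_iff (c : ℤ) (K : Dual.D A) :
    Subsingleton (G A c ⟶ K) ↔ IsZero ((homologyFunctor (ModuleCat.{u} A) c).obj K) := by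
  obtain ⟨e⟩ := nonempty_homG_equiv c K
  rw [ModuleCat.isZero_iff_subsingleton]
  exact e.toEquiv.subsingleton_congr

lemma isZero_of_homG (K : Dual.D A) (h : ∀ c : ℤ, Subsingleton (G A c ⟶ K)) : IsZero K := by
  have h' : ∀ c : ℤ, IsZero ((homologyFunctor (ModuleCat.{u} A) c).obj K) :=
    fun c => (subsingleton_homG_iff c K).1 (h c)
  haveI : K.IsLE 0 := by
    rw [isLE_iff]
    exact fun i _ => h' i
  haveI : K.IsGE 1 := by
    rw [isGE_iff]
    exact fun i _ => h' i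
  exact (tR A).isZero K 0 1 (by omega)

lemma isLE_iff_homG (K : Dual.D A) (b : ℤ) :
    K.IsLE b ↔ ∀ c : ℤ, b < c → Subsingleton (G A c ⟶ K) := by
  rw [isLE_iff]
  exact forall_congr' fun c => imp_congr_right fun _ => (subsingleton_homG_iff c K).symm

lemma isGE_iff_homG (K : Dual.D A) (a : ℤ) :
    K.IsGE a ↔ ∀ c : ℤ, c < a → Subsingleton (G A c ⟶ K) := by
  rw [isGE_iff]
  exact forall_congr' fun c => imp_congr_right fun _ => (subsingleton_homG_iff c K).symm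

/-- the shift iso `A[-c][-1] ≅ A[-(c+1)]`. -/
noncomputable def GShiftIso (c c' : ℤ) (h : c + 1 = c') : (G A c)⟦(-1 : ℤ)⟧ ≅ G A c' :=
  ((singleFunctors (ModuleCat.{u} A)).shiftIso (-1) c' c (by omega)).app (ModuleCat.of A A)

/-- `Hom(A[-c], X[1]) → Hom(A[-(c+1)], X)`, naturally in `X`. -/
noncomputable def homGShift (c c' : ℤ) (h : c + 1 = c') (X : Dual.D A)
    (φ : G A c ⟶ X⟦(1 : ℤ)⟧) : (G A c' ⟶ X) :=
  (GShiftIso c c' h).inv ≫ φ⟦(-1 : ℤ)⟧' ≫
    (shiftFunctorCompIsoId (Dual.D A) (1 : ℤ) (-1) (by simp)).hom.app X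

lemma homGShift_injective (c c' : ℤ) (h : c + 1 = c') (X : Dual.D A) :
    Function.Injective (homGShift c c' h X) := by
  intro φ ψ hφψ
  simp only [homGShift] at hφψ
  rw [cancel_epi, cancel_mono] at hφψ
  exact (shiftFunctor (Dual.D A) (-1 : ℤ)).map_injective hφψ

lemma homGShift_comp (c c' : ℤ) (h : c + 1 = c') {X Y : Dual.D A} (g : X ⟶ Y)
    (φ : G A c ⟶ X⟦(1 : ℤ)⟧) :
    homGShift c c' h Y (φ ≫ g⟦(1 : ℤ)⟧') = homGShift c c' h X φ ≫ g := by
  simp only [homGShift, Functor.map_comp, Category.assoc]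
  congr 2
  exact (shiftFunctorCompIsoId (Dual.D A) (1 : ℤ) (-1) (by simp)).hom.naturality g

lemma homGShift_zero (c c' : ℤ) (h : c + 1 = c') (X : Dual.D A) :
    homGShift c c' h X 0 = 0 := by
  simp [homGShift]

/-- isomorphisms are detected by `Hom(A[-c], -)`. -/
theorem isIso_of_homG {X Y : Dual.D A} (g : X ⟶ Y)
    (h : ∀ c : ℤ, Function.Bijective (fun φ : G A c ⟶ X => φ ≫ g)) : IsIso g := by
  obtain ⟨Z, q, δ, hT⟩ := distinguished_cocone_triangle g
  refine (Triangle.isZero₃_iff_isIso₁ _ hT).1 ?_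
  change IsZero Z
  apply isZero_of_homG
  intro c
  suffices H : ∀ ψ : G A c ⟶ Z, ψ = 0 from ⟨fun a b => (H a).trans (H b).symm⟩
  intro ψ
  have h1 : ψ ≫ δ = 0 := by
    have h2 : (ψ ≫ δ) ≫ g⟦(1 : ℤ)⟧' = 0 := by
      rw [Category.assoc]
      have := comp_distTriang_mor_zero₃₁ _ hT
      change δ ≫ g⟦(1 : ℤ)⟧' = 0 at this
      rw [this, comp_zero]
    have h3 := homGShift_comp c (c + 1) rfl g (ψ ≫ δ)
    rw [h2, homGShift_zero] at h3
    have h4 : homGShift c (c + 1) rfl X (ψ ≫ δ) = 0 := by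
      apply (h (c + 1)).1
      change _ ≫ g = 0 ≫ g
      rw [← h3, zero_comp]
    apply homGShift_injective c (c + 1) rfl X
    rw [h4, homGShift_zero]
  obtain ⟨χ, hχ⟩ := Triangle.coyoneda_exact₃ _ hT ψ h1
  obtain ⟨χ', rfl⟩ := (h c).2 χ
  change ψ = (χ' ≫ g) ≫ q at hχ
  rw [hχ, Category.assoc]
  have := comp_distTriang_mor_zero₁₂ _ hT
  change g ≫ q = 0 at this
  rw [this, comp_zero]

/-- derived `f`-complete objects have `f`-complete `Hom(A[-c], -)`. -/
theorem Psi_bijective_homG (f : A) (K : Dual.D A) (h : LO f K) (c : ℤ) :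
    Function.Bijective (Psi f (G A c ⟶ K)) := by
  obtain ⟨e⟩ := nonempty_homG_equiv c K
  exact Psi_bijective_of_linearEquiv f e.symm ((LO_iff_homology f K).1 h c)

end Groth.Agent.H4.DCompl1
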