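import Groth.Agent.H4.ProdCx
set_option autoImplicit false

/-!
# Products in the derived category of an AB4* abelian category
-/

namespace Groth.Agent.H4.DProdU

open CategoryTheory Limits DerivedCategory Groth.Agent.H4

universe w w' v u
variable {A : Type u} [Category.{v} A] [Abelian A] [HasDerivedCategory.{w'} A]

/-- If `Q.map h = 0`, then `h` becomes null-homotopic after postcomposition with a
quasi-isomorphism. -/
lemma exists_quasiIso_comp_homotopy_zero {X Y : CochainComplex A ℤ} (h : X ⟶ Y)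
    (hh : Q.map h = 0) :
    ∃ (N : CochainComplex A ℤ) (t : Y ⟶ N), QuasiIso t ∧ Nonempty (Homotopy (h ≫ t) 0) := by
  have h1 : Qh.map ((HomotopyCategory.quotient A (ComplexShape.up ℤ)).map h) =
      Qh.map ((HomotopyCategory.quotient A (ComplexShape.up ℤ)).map 0) := by
    rw [← cancel_mono ((quotientCompQhIso A).hom.app Y), quotientCompQhIso_hom_naturality,
      quotientCompQhIso_hom_naturality, hh, Q.map_zero]
  rw [MorphismProperty.map_eq_iff_postcomp Qh
    (HomotopyCategory.quasiIso A (ComplexShape.up ℤ))] at h1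
  obtain ⟨Y', s, hs, fac⟩ := h1
  obtain ⟨N, rfl⟩ := HomotopyCategory.quotient_obj_surjective Y'
  obtain ⟨t, rfl⟩ := (HomotopyCategory.quotient _ _).map_surjective s
  rw [HomotopyCategory.quotient_map_mem_quasiIso_iff] at hs
  refine ⟨N, t, hs, ⟨?_⟩⟩
  rw [← Functor.map_comp, ← Functor.map_comp, zero_comp] at fac
  exact HomotopyCategory.homotopyOfEq _ _ fac

variable {J : Type w} [HasLimitsOfShape (Discrete J) A] [HasExactLimitsOfShape (Discrete J) A]
variable {K : J → CochainComplex A ℤ} {c : Fan K} (hc : IsLimit c)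

include hc in
/-- existence of a lift through `Q` of the product -/
lemma exists_lift {L : CochainComplex A ℤ} (f : ∀ j, Q.obj L ⟶ Q.obj (K j)) :
    ∃ φ : Q.obj L ⟶ Q.obj c.pt, ∀ j, φ ≫ Q.map (c.proj j) = f j := by
  have hfac := fun j => left_fac (f j)
  choose M g s hs hg using hfac
  have hs' : ∀ j, QuasiIso (s j) := fun j => (isIso_Q_map_iff_quasiIso _ (s j)).1 (hs j)
  let σ : c.pt ⟶ ∏ᶜ M := Pi.lift (fun j => c.proj j ≫ s j)
  have hσ : QuasiIso σ :=
    ProdCx.quasiIso_of_fans (cK := Fan.mk (∏ᶜ M) (Pi.π M)) hc (productIsProduct M) s σ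
      (fun j => Pi.lift_π _ j)
  have : IsIso (Q.map σ) := (isIso_Q_map_iff_quasiIso _ σ).2 hσ
  refine ⟨Q.map (Pi.lift g) ≫ inv (Q.map σ), fun j => ?_⟩
  have h1 : Q.map σ ≫ Q.map (Pi.π M j) = Q.map (c.proj j) ≫ Q.map (s j) := by
    rw [← Q.map_comp, ← Q.map_comp, Pi.lift_π]
  have h2 : inv (Q.map σ) ≫ Q.map (c.proj j) = Q.map (Pi.π M j) ≫ inv (Q.map (s j)) := by
    rw [← cancel_epi (Q.map σ), IsIso.hom_inv_id_assoc, ← Category.assoc, h1, Category.assoc,
      IsIso.hom_inv_id, Category.comp_id]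
  rw [Category.assoc, h2, ← Category.assoc, ← Q.map_comp, Pi.lift_π, hg j]

include hc in
/-- uniqueness of a lift through `Q` of the product -/
lemma eq_zero_of_comp_eq_zero {L : CochainComplex A ℤ} (ψ : Q.obj L ⟶ Q.obj c.pt)
    (hψ : ∀ j, ψ ≫ Q.map (c.proj j) = 0) : ψ = 0 := by
  obtain ⟨L', s, hs, g, rfl⟩ := right_fac ψ
  have hg : ∀ j, Q.map (g ≫ c.proj j) = 0 := by
    intro j
    have := hψ j
    rw [Category.assoc, ← Q.map_comp] at this
    rw [← cancel_epi (inv (Q.map s)), this, comp_zero]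
  have ht := fun j => exists_quasiIso_comp_homotopy_zero _ (hg j)
  choose N t ht hH using ht
  let τ : c.pt ⟶ ∏ᶜ N := Pi.lift (fun j => c.proj j ≫ t j)
  have hτ : QuasiIso τ :=
    ProdCx.quasiIso_of_fans (cK := Fan.mk (∏ᶜ N) (Pi.π N)) hc (productIsProduct N) t τ
      (fun j => Pi.lift_π _ j)
  have : IsIso (Q.map τ) := (isIso_Q_map_iff_quasiIso _ τ).2 hτ
  have hH' : Nonempty (Homotopy (g ≫ τ) 0) := by
    refine ProdCx.nonempty_homotopy_zero (c := Fan.mk (∏ᶜ N) (Pi.π N))
      (productIsProduct N) (g ≫ τ) (fun j => ?_)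
    obtain ⟨H⟩ := hH j
    have e : (g ≫ τ) ≫ (Fan.mk (∏ᶜ N) (Pi.π N)).proj j = (g ≫ c.proj j) ≫ t j := by
      change (g ≫ τ) ≫ Pi.π N j = _
      rw [Category.assoc, Pi.lift_π, Category.assoc]
    exact ⟨(Homotopy.ofEq e).trans H⟩
  have h0 : Q.map (g ≫ τ) = 0 := by
    rw [Q_map_eq_of_homotopy _ hH'.some, Q.map_zero]
  rw [Q.map_comp] at h0
  have h1 : Q.map g = 0 := by
    rw [← cancel_mono (Q.map τ), h0, zero_comp]
  rw [h1, comp_zero]

include hc in
lemma exists_lift' (T : DerivedCategory A) (f : ∀ j, T ⟶ Q.obj (K j)) :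
    ∃ φ : T ⟶ Q.obj c.pt, ∀ j, φ ≫ Q.map (c.proj j) = f j := by
  let e : Q.obj (Q.objPreimage T) ≅ T := Q.objObjPreimageIso T
  obtain ⟨φ, hφ⟩ := exists_lift hc (fun j => e.hom ≫ f j)
  refine ⟨e.inv ≫ φ, fun j => ?_⟩
  rw [Category.assoc, hφ, Iso.inv_hom_id_assoc]

include hc in
lemma hom_ext' {T : DerivedCategory A} {m m' : T ⟶ Q.obj c.pt}
    (h : ∀ j, m ≫ Q.map (c.proj j) = m' ≫ Q.map (c.proj j)) : m = m' := by
  let e : Q.obj (Q.objPreimage T) ≅ T := Q.objObjPreimageIso T
  have h0 : e.hom ≫ (m - m') = 0 := by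
    apply eq_zero_of_comp_eq_zero hc
    intro j
    rw [Category.assoc, Preadditive.sub_comp, h j, sub_self, comp_zero]
  have h1 : m - m' = 0 := by
    rw [← cancel_epi e.hom, h0, comp_zero]
  exact sub_eq_zero.1 h1

/-- `Q` sends product fans of complexes to product fans. -/
noncomputable def isLimitMapFan :
    IsLimit (Fan.mk (Q.obj c.pt) (fun j => Q.map (c.proj j))) :=
  Fan.IsLimit.mk _ (fun t => (exists_lift' hc t.pt (fun j => t.proj j)).choose)
    (fun t j => (exists_lift' hc t.pt (fun j => t.proj j)).choose_spec j)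
    (fun t m hm => hom_ext' hc (fun j => by
      rw [(exists_lift' hc t.pt (fun j => t.proj j)).choose_spec j]
      exact hm j))

variable (A J) in
/-- The derived category of an abelian category with exact products of shape `J` has
products of shape `J`. -/
theorem hasLimitsOfShape_discrete : HasLimitsOfShape (Discrete J) (DerivedCategory A) where
  has_limit F := by
    let K : J → CochainComplex A ℤ := fun j => Q.objPreimage (F.obj ⟨j⟩)
    have : HasLimit (Discrete.functor (fun j => Q.obj (K j))) :=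
      ⟨⟨⟨_, isLimitMapFan (productIsProduct K)⟩⟩⟩
    have e : F ≅ Discrete.functor (fun j => Q.obj (K j)) :=
      Discrete.natIso (fun ⟨j⟩ => (Q.objObjPreimageIso (F.obj ⟨j⟩)).symm)
    exact hasLimit_of_iso e.symm

end Groth.Agent.H4.DProdU
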