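import Mathlib
import Groth.Agent.H4.DCompl1
import Groth.Agent.H4.DProdU
set_option autoImplicit false
universe u
open CategoryTheory CategoryTheory.Limits CategoryTheory.Pretriangulated

namespace Groth.Agent.H4.DCompl2

attribute [local instance] HasDerivedCategory.standard

variable {A : Type u} [CommRing A]

open DRing DerivedCategory Groth.Agent.H4.DComp Groth.Agent.H4.DCompl1

instance : HasLimitsOfShape (Discrete ℕ) (Dual.D A) :=
  Groth.Agent.H4.DProdU.hasLimitsOfShape_discrete (ModuleCat.{u} A) ℕ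

/-- the countable power -/
noncomputable def P (K : Dual.D A) : Dual.D A := ∏ᶜ (fun _ : ℕ => K)

noncomputable def pr (K : Dual.D A) (n : ℕ) : P K ⟶ K := Pi.π (fun _ : ℕ => K) n

noncomputable def PsiD (f : A) (K : Dual.D A) : P K ⟶ P K :=
  Pi.lift (fun n => pr K n - f • pr K (n + 1))

@[reassoc (attr := simp)]
lemma PsiD_pr (f : A) (K : Dual.D A) (n : ℕ) :
    PsiD f K ≫ pr K n = pr K n - f • pr K (n + 1) :=
  Pi.lift_π _ _

/-- `Hom(Y, ∏ K) ≃ ∏ Hom(Y, K)`. -/
noncomputable def homPi (Y K : Dual.D A) : (Y ⟶ P K) ≃ₗ[A] (ℕ → (Y ⟶ K)) where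
  toFun φ n := φ ≫ pr K n
  map_add' φ ψ := by
    funext n
    simp
  map_smul' a φ := by
    funext n
    simp
  invFun x := Pi.lift x
  left_inv φ := by
    apply Pi.hom_ext
    intro n
    exact Pi.lift_π _ _
  right_inv x := by
    funext n
    exact Pi.lift_π _ _

@[simp] lemma homPi_apply (Y K : Dual.D A) (φ : Y ⟶ P K) (n : ℕ) : homPi Y K φ n = φ ≫ pr K n := rfl

lemma homPi_comp_PsiD (f : A) (Y K : Dual.D A) (φ : Y ⟶ P K) :
    homPi Y K (φ ≫ PsiD f K) = Psi f (Y ⟶ K) (homPi Y K φ) := by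
  funext n
  simp

lemma bijective_comp_PsiD_iff (f : A) (Y K : Dual.D A) :
    Function.Bijective (fun φ : Y ⟶ P K => φ ≫ PsiD f K) ↔
      Function.Bijective (Psi f (Y ⟶ K)) := by
  have key : (homPi Y K) ∘ (fun φ : Y ⟶ P K => φ ≫ PsiD f K) = (Psi f (Y ⟶ K)) ∘ (homPi Y K) := by
    funext φ
    exact homPi_comp_PsiD f Y K φ
  have hb : Function.Bijective (homPi Y K) := (homPi Y K).bijective
  constructor
  · intro h
    have h1 : Function.Bijective ((Psi f (Y ⟶ K)) ∘ (homPi Y K)) := by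
      rw [← key]
      exact hb.comp h
    exact (Function.Bijective.of_comp_iff _ hb).1 h1
  · intro h
    have h1 : Function.Bijective ((homPi Y K) ∘ (fun φ : Y ⟶ P K => φ ≫ PsiD f K)) := by
      rw [key]
      exact h.comp hb
    exact (Function.Bijective.of_comp_iff' hb _).1 h1

/-- for derived `f`-complete `K`, the map `Ψ` on `∏ K` is an isomorphism. -/
theorem isIso_PsiD (f : A) (K : Dual.D A) (h : LO f K) : IsIso (PsiD f K) := by
  apply isIso_of_homG
  intro c
  rw [bijective_comp_PsiD_iff]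
  exact Psi_bijective_homG f K h c

/-- objects on which `f` acts invertibly. -/
def FInv (f : A) (Y : Dual.D A) : Prop := IsIso (f • 𝟙 Y)

lemma FInv.shift {f : A} {Y : Dual.D A} (h : FInv f Y) (n : ℤ) : FInv f (Y⟦n⟧) := by
  have : f • 𝟙 (Y⟦n⟧) = (f • 𝟙 Y)⟦n⟧' := by
    rw [Functor.map_smul, CategoryTheory.Functor.map_id]
  unfold FInv
  rw [this]
  haveI : IsIso (f • 𝟙 Y) := h
  infer_instance

lemma FInv.of_iso {f : A} {Y Y' : Dual.D A} (e : Y ≅ Y') (h : FInv f Y) : FInv f Y' := by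
  haveI : IsIso (f • 𝟙 Y) := h
  have : f • 𝟙 Y' = e.inv ≫ (f • 𝟙 Y) ≫ e.hom := by
    simp
  unfold FInv
  rw [this]
  infer_instance

/-- the inverse of `f` on an object where `f` is invertible. -/
noncomputable def FInv.inv {f : A} {Y : Dual.D A} (h : FInv f Y) : Y ⟶ Y :=
  haveI : IsIso (f • 𝟙 Y) := h
  CategoryTheory.inv (f • 𝟙 Y)

lemma FInv.smul_inv_comp {f : A} {Y K : Dual.D A} (h : FInv f Y) (x : Y ⟶ K) :
    f • (h.inv ≫ x) = x := by
  haveI : IsIso (f • 𝟙 Y) := h
  have : f • (h.inv ≫ x) = ((f • 𝟙 Y) ≫ h.inv) ≫ x := by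
    simp
  rw [this]
  have h2 : (f • 𝟙 Y) ≫ h.inv = 𝟙 Y := IsIso.hom_inv_id _
  rw [h2, Category.id_comp]

lemma FInv.inv_comp_smul {f : A} {Y K : Dual.D A} (h : FInv f Y) (x : Y ⟶ K) :
    h.inv ≫ (f • x) = x := by
  rw [Linear.comp_smul, h.smul_inv_comp]

/-- **Key vanishing**: no maps from an object on which `f` is invertible to a derived
`f`-complete object. -/
theorem hom_eq_zero_of_FInv (f : A) (Y K : Dual.D A) (hY : FInv f Y) (hK : LO f K)
    (φ : Y ⟶ K) : φ = 0 := by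
  haveI := isIso_PsiD f K hK
  let x : ℕ → (Y ⟶ K) := fun n => Nat.rec φ (fun _ y => hY.inv ≫ y) n
  have hx0 : x 0 = φ := rfl
  have hxs : ∀ n, x (n + 1) = hY.inv ≫ x n := fun n => rfl
  have h1 : Psi f (Y ⟶ K) x = 0 := by
    funext n
    rw [Psi_apply, hxs, hY.smul_inv_comp, sub_self]
    rfl
  have h2 : (homPi Y K).symm x ≫ PsiD f K = 0 := by
    apply (homPi Y K).injective
    rw [homPi_comp_PsiD, LinearEquiv.apply_symm_apply, h1, map_zero]
  have h3 : (homPi Y K).symm x = 0 := by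
    rw [← cancel_mono (PsiD f K), h2, zero_comp]
  have h4 : x = 0 := by
    have := congrArg (homPi Y K) h3
    rwa [LinearEquiv.apply_symm_apply, map_zero] at this
  rw [← hx0, h4]
  rfl

/-- `LO g` is closed under countable powers. -/
lemma LO_P (g : A) (K : Dual.D A) (h : LO g K) : LO g (P K) := by
  intro n
  haveI := h n
  exact (homPi _ K).toEquiv.subsingleton

end Groth.Agent.H4.DCompl2
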