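import Mathlib
import Groth.Agent.H4.DCompl2
set_option autoImplicit false
universe u
open CategoryTheory CategoryTheory.Limits CategoryTheory.Pretriangulated

namespace Groth.Agent.H4.DCompl3

attribute [local instance] HasDerivedCategory.standard

variable {A : Type u} [CommRing A]

open DRing DerivedCategory Groth.Agent.H4.DComp Groth.Agent.H4.DCompl1 Groth.Agent.H4.DCompl2
  Groth.Agent.H4.DThick Groth.Agent.H4.ProjAmp

lemma FInv_Fo (f : A) : FInv f (Fo f) := by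
  have h1 : f • 𝟙 (Fo f) = (singleFunctor (ModuleCat.{u} A) 0).map
      (f • 𝟙 (ModuleCat.of A (Localization.Away f))) := by
    rw [Functor.map_smul, CategoryTheory.Functor.map_id]
  have h2 : IsIso (f • 𝟙 (ModuleCat.of A (Localization.Away f))) := by
    rw [ConcreteCategory.isIso_iff_bijective]
    have hu : IsUnit (algebraMap A (Localization.Away f) f) :=
      IsLocalization.Away.algebraMap_isUnit f
    obtain ⟨u, hu⟩ := hu
    have hx : ∀ x : Localization.Away f,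
        (f • 𝟙 (ModuleCat.of A (Localization.Away f))).hom x = (u : Localization.Away f) * x := by
      intro x
      rw [hu]
      simp [Algebra.smul_def]
    constructor
    · intro x y hxy
      have := hxy
      change (f • 𝟙 (ModuleCat.of A (Localization.Away f))).hom x =
        (f • 𝟙 (ModuleCat.of A (Localization.Away f))).hom y at this
      rw [hx, hx] at this
      exact u.isUnit.mul_right_injective this
    · intro y
      refine ⟨(↑u⁻¹ : Localization.Away f) * y, ?_⟩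
      change (f • 𝟙 (ModuleCat.of A (Localization.Away f))).hom _ = y
      rw [hx, ← mul_assoc, Units.mul_inv, one_mul]
  unfold FInv
  rw [h1]
  infer_instance

/-- the shift operator on `∏ K`. -/
noncomputable def Sh (K : Dual.D A) : P K ⟶ P K := Pi.lift (fun n => pr K (n + 1))

@[reassoc (attr := simp)]
lemma Sh_pr (K : Dual.D A) (n : ℕ) : Sh K ≫ pr K n = pr K (n + 1) := Pi.lift_π _ _

lemma hom_ext_P {Y K : Dual.D A} {a b : Y ⟶ P K} (h : ∀ n, a ≫ pr K n = b ≫ pr K n) : a = b :=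
  (homPi Y K).injective (funext h)

lemma PsiD_eq (f : A) (K : Dual.D A) : PsiD f K = 𝟙 _ - f • Sh K := by
  apply hom_ext_P
  intro n
  simp [Preadditive.sub_comp, Linear.smul_comp]

lemma Sh_comm (f : A) (K : Dual.D A) : PsiD f K ≫ Sh K = Sh K ≫ PsiD f K := by
  rw [PsiD_eq]
  simp [Preadditive.sub_comp, Preadditive.comp_sub]

/-- `f` acts invertibly on the fibre of `Ψ`. -/
theorem FInv_fiber (f : A) (K : Dual.D A) (T : Dual.D A) (i : T ⟶ P K) (h : P K ⟶ T⟦(1 : ℤ)⟧)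
    (hT : Triangle.mk i (PsiD f K) h ∈ distinguishedTriangles) : FInv f T := by
  obtain ⟨s, hs1, hs2⟩ : ∃ s : T ⟶ T, i ≫ Sh K = s ≫ i ∧ h ≫ s⟦(1 : ℤ)⟧' = Sh K ≫ h :=
    complete_distinguished_triangle_morphism₁ _ _ hT hT (Sh K) (Sh K) (Sh_comm f K)
  have hiΨ : i ≫ PsiD f K = 0 := comp_distTriang_mor_zero₁₂ _ hT
  have hΨh : PsiD f K ≫ h = 0 := comp_distTriang_mor_zero₂₃ _ hT
  let u : T ⟶ T := 𝟙 T - f • s
  have hu1 : u ≫ i = 0 := by
    have : u ≫ i = i ≫ PsiD f K := by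
      rw [PsiD_eq]
      simp only [u, Preadditive.sub_comp, Preadditive.comp_sub, Category.id_comp,
        Category.comp_id, Linear.smul_comp, Linear.comp_smul, hs1]
    rw [this, hiΨ]
  have hu2 : h ≫ u⟦(1 : ℤ)⟧' = 0 := by
    have : h ≫ u⟦(1 : ℤ)⟧' = PsiD f K ≫ h := by
      rw [PsiD_eq]
      simp only [u, Functor.map_sub, CategoryTheory.Functor.map_id, Functor.map_smul,
        Preadditive.sub_comp, Preadditive.comp_sub, Category.id_comp,
        Category.comp_id, Linear.smul_comp, Linear.comp_smul, hs2]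
    rw [this, hΨh]
  -- `u ≫ u = 0`
  have huu : u ≫ u = 0 := by
    apply (shiftFunctor (Dual.D A) (1 : ℤ)).map_injective
    rw [Functor.map_comp, Functor.map_zero]
    obtain ⟨w, hw⟩ : ∃ w : (P K)⟦(1 : ℤ)⟧ ⟶ T⟦(1 : ℤ)⟧, u⟦(1 : ℤ)⟧' = (-i⟦(1 : ℤ)⟧') ≫ w :=
      Triangle.yoneda_exact₃ _ (rot_of_distTriang _ hT) (u⟦(1 : ℤ)⟧') hu2
    have h3 : u⟦(1 : ℤ)⟧' ≫ i⟦(1 : ℤ)⟧' = 0 := by
      rw [← Functor.map_comp, hu1, Functor.map_zero]
    calc u⟦(1 : ℤ)⟧' ≫ u⟦(1 : ℤ)⟧' = u⟦(1 : ℤ)⟧' ≫ ((-i⟦(1 : ℤ)⟧') ≫ w) := by rw [← hw]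
      _ = -((u⟦(1 : ℤ)⟧' ≫ i⟦(1 : ℤ)⟧') ≫ w) := by
        rw [Preadditive.neg_comp, Preadditive.comp_neg, Category.assoc]
      _ = 0 := by rw [h3, zero_comp, neg_zero]
  -- hence `f • s ≫ (2 - f • s) = 1`
  have h4 : (f • 𝟙 T) ≫ (s ≫ (𝟙 T + u)) = 𝟙 T := by
    have h5 : (f • 𝟙 T) ≫ s = 𝟙 T - u := by
      simp [u, Linear.smul_comp]
    rw [← Category.assoc, h5, Preadditive.sub_comp, Preadditive.comp_add, Preadditive.comp_add,
      huu]
    simp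
  have h6 : (s ≫ (𝟙 T + u)) ≫ (f • 𝟙 T) = 𝟙 T := by
    calc (s ≫ (𝟙 T + u)) ≫ (f • 𝟙 T) = f • (s ≫ (𝟙 T + u)) := by
          rw [Linear.comp_smul, Category.comp_id]
      _ = (f • 𝟙 T) ≫ (s ≫ (𝟙 T + u)) := by rw [Linear.smul_comp, Category.id_comp]
      _ = 𝟙 T := h4
  exact ⟨⟨s ≫ (𝟙 T + u), h4, h6⟩⟩

/-- on objects where `f` is invertible, `Ψ ∘ -` is surjective. -/
lemma surj_PsiD_of_FInv (f : A) (K Y : Dual.D A) (hY : FInv f Y) (ξ : Y ⟶ P K) :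
    ∃ ξ' : Y ⟶ P K, ξ = ξ' ≫ PsiD f K := by
  let z : ℕ → (Y ⟶ K) := fun n => Nat.rec 0 (fun k zk => hY.inv ≫ (zk - ξ ≫ pr K k)) n
  have hzs : ∀ n, z (n + 1) = hY.inv ≫ (z n - ξ ≫ pr K n) := fun n => rfl
  refine ⟨(homPi Y K).symm z, ?_⟩
  apply (homPi Y K).injective
  rw [homPi_comp_PsiD, LinearEquiv.apply_symm_apply]
  funext n
  rw [Psi_apply, hzs, hY.smul_inv_comp, sub_sub_cancel]
  rfl

/-- a sequence in the kernel of `Ψ` starting at a given map. -/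
lemma exists_lift_of_FInv (f : A) (K Y : Dual.D A) (hY : FInv f Y) (ψ : Y ⟶ K) :
    ∃ l : Y ⟶ P K, l ≫ PsiD f K = 0 ∧ l ≫ pr K 0 = ψ := by
  let x : ℕ → (Y ⟶ K) := fun n => Nat.rec ψ (fun _ y => hY.inv ≫ y) n
  have hxs : ∀ n, x (n + 1) = hY.inv ≫ x n := fun n => rfl
  refine ⟨(homPi Y K).symm x, ?_, ?_⟩
  · apply (homPi Y K).injective
    rw [homPi_comp_PsiD, LinearEquiv.apply_symm_apply, map_zero]
    funext n
    rw [Psi_apply, hxs, hY.smul_inv_comp, sub_self]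
    rfl
  · have := congrFun ((homPi Y K).apply_symm_apply x) 0
    exact this

/-- for `Y` on which `f` is invertible, `Hom(Y, T) ≃ Hom(Y, K)` where `T` is the fibre of `Ψ`. -/
theorem bijective_fiber_pr (f : A) (K : Dual.D A) (T : Dual.D A) (i : T ⟶ P K)
    (h : P K ⟶ T⟦(1 : ℤ)⟧) (hT : Triangle.mk i (PsiD f K) h ∈ distinguishedTriangles)
    (Y : Dual.D A) (hY : FInv f Y) :
    Function.Bijective (fun φ : Y ⟶ T => φ ≫ i ≫ pr K 0) := by
  have hiΨ : i ≫ PsiD f K = 0 := comp_distTriang_mor_zero₁₂ _ hT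
  have hΨh : PsiD f K ≫ h = 0 := comp_distTriang_mor_zero₂₃ _ hT
  have key : ∀ φ : Y ⟶ T, φ ≫ i ≫ pr K 0 = 0 → φ = 0 := by
    intro φ hφ
    have hx : ∀ n, φ ≫ i ≫ pr K n = f • (φ ≫ i ≫ pr K (n + 1)) := by
      intro n
      have h0 : φ ≫ i ≫ PsiD f K ≫ pr K n = 0 := by
        rw [← Category.assoc i, hiΨ, zero_comp, comp_zero]
      rw [PsiD_pr, Preadditive.comp_sub, Preadditive.comp_sub, Linear.comp_smul,
        Linear.comp_smul, sub_eq_zero] at h0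
      exact h0
    have hx0 : ∀ n, φ ≫ i ≫ pr K n = 0 := by
      intro n
      induction n with
      | zero => exact hφ
      | succ n ih =>
        rw [← hY.inv_comp_smul (φ ≫ i ≫ pr K (n + 1)), ← hx n, ih, comp_zero]
    have h1 : φ ≫ i = 0 := by
      apply hom_ext_P
      intro n
      rw [Category.assoc, hx0 n, zero_comp]
    have h2 : φ⟦(1 : ℤ)⟧' ≫ (-i⟦(1 : ℤ)⟧') = 0 := by
      rw [Preadditive.comp_neg, ← Functor.map_comp, h1, Functor.map_zero, neg_zero]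
    obtain ⟨ξ, hξ⟩ : ∃ ξ : Y⟦(1 : ℤ)⟧ ⟶ P K, φ⟦(1 : ℤ)⟧' = ξ ≫ h :=
      Triangle.coyoneda_exact₃ _ (rot_of_distTriang _ hT) (φ⟦(1 : ℤ)⟧') h2
    obtain ⟨ξ', rfl⟩ := surj_PsiD_of_FInv f K _ (hY.shift 1) ξ
    rw [Category.assoc, hΨh, comp_zero] at hξ
    apply (shiftFunctor (Dual.D A) (1 : ℤ)).map_injective
    rw [hξ, Functor.map_zero]
  constructor
  · intro φ φ' hφ
    have : φ - φ' = 0 := by
      apply key
      rw [Preadditive.sub_comp]
      exact sub_eq_zero.2 hφ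
    exact sub_eq_zero.1 this
  · intro ψ
    obtain ⟨l, hl1, hl2⟩ := exists_lift_of_FInv f K Y hY ψ
    obtain ⟨φ, hφ⟩ : ∃ φ : Y ⟶ T, l = φ ≫ i := Triangle.coyoneda_exact₂ _ hT l hl1
    refine ⟨φ, ?_⟩
    change φ ≫ i ≫ pr K 0 = ψ
    rw [← Category.assoc, ← hφ, hl2]

lemma _root_.Groth.Agent.H4.DThick.IsTriSub.ext₁ {Pr : Dual.D A → Prop} (hPr : IsTriSub Pr)
    (T : Triangle (Dual.D A)) (hT : T ∈ distinguishedTriangles) (h2 : Pr T.obj₂)
    (h3 : Pr T.obj₃) : Pr T.obj₁ :=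
  hPr.ext₂ _ (inv_rot_of_distTriang _ hT) (hPr.shift _ (-1) h3) h2

lemma _root_.Groth.Agent.H4.DThick.IsTriSub.ext₃ {Pr : Dual.D A → Prop} (hPr : IsTriSub Pr)
    (T : Triangle (Dual.D A)) (hT : T ∈ distinguishedTriangles) (h1 : Pr T.obj₁)
    (h2 : Pr T.obj₂) : Pr T.obj₃ :=
  hPr.ext₂ _ (rot_of_distTriang _ hT) h2 (hPr.shift _ 1 h1)

lemma isLE_P (K : Dual.D A) (b : ℤ) (hK : K.IsLE b) : (P K).IsLE b := by
  rw [isLE_iff_homG] at hK ⊢
  intro c hc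
  haveI := hK c hc
  exact (homPi _ K).toEquiv.subsingleton

lemma isGE_P (K : Dual.D A) (a : ℤ) (hK : K.IsGE a) : (P K).IsGE a := by
  rw [isGE_iff_homG] at hK ⊢
  intro c hc
  haveI := hK c hc
  exact (homPi _ K).toEquiv.subsingleton

/-- **Derived completion along one element.** -/
theorem exists_completion_one (f : A) (K : Dual.D A) :
    ∃ (C : Dual.D A) (q : K ⟶ C), LO f C ∧ (∀ g : A, LO g K → LO g C) ∧
      (∀ C' : Dual.D A, LO f C' → Function.Bijective (fun ψ : C ⟶ C' => q ≫ ψ)) ∧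
      (∀ b : ℤ, K.IsLE b → C.IsLE b) ∧ (∀ a : ℤ, K.IsGE a → C.IsGE (a - 1)) := by
  obtain ⟨T, i, h, hT⟩ := distinguished_cocone_triangle₁ (PsiD f K)
  obtain ⟨C, q, d, hC⟩ := distinguished_cocone_triangle (i ≫ pr K 0)
  have hTinv : FInv f T := FInv_fiber f K T i h hT
  have hbij := bijective_fiber_pr f K T i h hT
  have htq : (i ≫ pr K 0) ≫ q = 0 := comp_distTriang_mor_zero₁₂ _ hC
  have hdt : d ≫ (i ≫ pr K 0)⟦(1 : ℤ)⟧' = 0 := comp_distTriang_mor_zero₃₁ _ hC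
  -- no maps from `f`-invertible objects to `C`
  have hYC : ∀ (Y : Dual.D A), FInv f Y → ∀ ψ : Y ⟶ C, ψ = 0 := by
    intro Y hY ψ
    have hθ : ψ ≫ d = 0 := by
      let e : (Y⟦(-1 : ℤ)⟧)⟦(1 : ℤ)⟧ ≅ Y :=
        (shiftFunctorCompIsoId (Dual.D A) (-1 : ℤ) 1 (by simp)).app Y
      obtain ⟨θ', hθ'⟩ := (shiftFunctor (Dual.D A) (1 : ℤ)).map_surjective (e.hom ≫ ψ ≫ d)
      have h1 : θ' ≫ i ≫ pr K 0 = 0 := by
        apply (shiftFunctor (Dual.D A) (1 : ℤ)).map_injective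
        rw [Functor.map_comp, hθ', Category.assoc, Category.assoc, hdt, comp_zero, comp_zero,
          Functor.map_zero]
      have h2 : θ' = 0 := by
        apply (hbij _ (hY.shift (-1))).1
        change θ' ≫ i ≫ pr K 0 = 0 ≫ i ≫ pr K 0
        rw [h1, zero_comp]
      rw [h2, Functor.map_zero] at hθ'
      rw [← cancel_epi e.hom, ← hθ', comp_zero]
    obtain ⟨χ, hχ⟩ : ∃ χ : Y ⟶ K, ψ = χ ≫ q := Triangle.coyoneda_exact₃ _ hC ψ hθ
    obtain ⟨φ, rfl⟩ := (hbij Y hY).2 χ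
    rw [hχ]
    change (φ ≫ i ≫ pr K 0) ≫ q = 0
    rw [Category.assoc, htq, comp_zero]
  refine ⟨C, q, ?_, ?_, ?_, ?_, ?_⟩
  · apply LO_of_forall
    intro n ψ
    exact hYC _ ((FInv_Fo f).shift n) ψ
  · intro g hg
    have hP : LO g (P K) := LO_P g K hg
    have hTg : LO g T := (isTriSub_LO g).ext₁ _ hT hP hP
    exact (isTriSub_LO g).ext₃ _ hC hTg hg
  · intro C' hC'
    constructor
    · intro ψ ψ' hψ
      have h1 : q ≫ (ψ - ψ') = 0 := by
        rw [Preadditive.comp_sub]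
        exact sub_eq_zero.2 hψ
      obtain ⟨w, hw⟩ : ∃ w : T⟦(1 : ℤ)⟧ ⟶ C', ψ - ψ' = d ≫ w :=
        Triangle.yoneda_exact₃ _ hC (ψ - ψ') h1
      rw [hom_eq_zero_of_FInv f _ C' (hTinv.shift 1) hC' w, comp_zero] at hw
      exact sub_eq_zero.1 hw
    · intro χ
      have h1 : (i ≫ pr K 0) ≫ χ = 0 := hom_eq_zero_of_FInv f _ C' hTinv hC' _
      obtain ⟨g, hg⟩ : ∃ g : C ⟶ C', χ = q ≫ g := Triangle.yoneda_exact₂ _ hC χ h1
      exact ⟨g, hg.symm⟩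
  · intro b hb
    have hP : (P K).IsLE b := isLE_P K b hb
    have hP1 : ((P K)⟦(-1 : ℤ)⟧).IsLE (b + 1) := (tR A).isLE_shift (P K) b (-1) (b + 1) (by omega)
    have hP' : (P K).IsLE (b + 1) := (tR A).isLE_of_le _ b (b + 1) (by omega)
    have hT1 : T.IsLE (b + 1) := (tR A).isLE₂ _ (inv_rot_of_distTriang _ hT) (b + 1) hP1 hP'
    have hT2 : (T⟦(1 : ℤ)⟧).IsLE b := (tR A).isLE_shift T (b + 1) 1 b (by omega)
    exact (tR A).isLE₂ _ (rot_of_distTriang _ hC) b hb hT2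
  · intro a ha
    have hP : (P K).IsGE a := isGE_P K a ha
    have hP1 : ((P K)⟦(-1 : ℤ)⟧).IsGE (a + 1) := (tR A).isGE_shift (P K) a (-1) (a + 1) (by omega)
    have hP1' : ((P K)⟦(-1 : ℤ)⟧).IsGE a := (tR A).isGE_of_ge _ a (a + 1) (by omega)
    have hT1 : T.IsGE a := (tR A).isGE₂ _ (inv_rot_of_distTriang _ hT) a hP1' hP
    have hT2 : (T⟦(1 : ℤ)⟧).IsGE (a - 1) := (tR A).isGE_shift T a 1 (a - 1) (by omega)
    have hK' : K.IsGE (a - 1) := (tR A).isGE_of_ge _ (a - 1) a (by omega)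
    exact (tR A).isGE₂ _ (rot_of_distTriang _ hC) (a - 1) hK' hT2

end Groth.Agent.H4.DCompl3
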