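import Mathlib
import Groth.Agent.H4.DCompl3
set_option autoImplicit false
universe u
open CategoryTheory CategoryTheory.Limits CategoryTheory.Pretriangulated

namespace Groth.Agent.H4.DCompl4

attribute [local instance] HasDerivedCategory.standard

variable {A : Type u} [CommRing A]

open DRing DerivedCategory Groth.Agent.H4.DComp Groth.Agent.H4.DCompl1 Groth.Agent.H4.DCompl2
  Groth.Agent.H4.DThick Groth.Agent.H4.ProjAmp Groth.Agent.H4.DCompl3

/-- **Derived completion along finitely many elements.** -/
theorem exists_completion_finset (s : Finset A) : ∀ (K : Dual.D A),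
    ∃ (C : Dual.D A) (q : K ⟶ C), (∀ f ∈ s, LO f C) ∧
      (∀ C' : Dual.D A, (∀ f ∈ s, LO f C') → Function.Bijective (fun ψ : C ⟶ C' => q ≫ ψ)) ∧
      (∀ b : ℤ, K.IsLE b → C.IsLE b) ∧ (∀ a : ℤ, K.IsGE a → C.IsGE (a - s.card)) := by
  classical
  induction s using Finset.induction_on with
  | empty =>
    intro K
    refine ⟨K, 𝟙 K, by simp, fun C' _ => ?_, fun b hb => hb, fun a ha => by simpa using ha⟩
    have : (fun ψ : K ⟶ C' => 𝟙 K ≫ ψ) = id := by
      funext ψ
      simp
    rw [this]
    exact Function.bijective_id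
  | insert f s hfs ih =>
    intro K
    obtain ⟨C₀, q₀, h1, h2, h3, h4⟩ := ih K
    obtain ⟨C, q₁, k1, k2, k3, k4, k5⟩ := exists_completion_one f C₀
    refine ⟨C, q₀ ≫ q₁, ?_, ?_, ?_, ?_⟩
    · intro g hg
      rcases Finset.mem_insert.1 hg with rfl | hg
      · exact k1
      · exact k2 g (h1 g hg)
    · intro C' hC'
      have hb1 := k3 C' (hC' f (Finset.mem_insert_self f s))
      have hb0 := h2 C' (fun g hg => hC' g (Finset.mem_insert_of_mem hg))
      have : (fun ψ : C ⟶ C' => (q₀ ≫ q₁) ≫ ψ) =
          (fun ψ : C₀ ⟶ C' => q₀ ≫ ψ) ∘ (fun ψ : C ⟶ C' => q₁ ≫ ψ) := by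
        funext ψ
        simp
      rw [this]
      exact hb0.comp hb1
    · intro b hb
      exact k4 b (h3 b hb)
    · intro a ha
      have := k5 _ (h4 a ha)
      rw [Finset.card_insert_of_notMem hfs]
      have e : a - ((s.card + 1 : ℕ) : ℤ) = a - s.card - 1 := by push_cast; ring
      rw [e]
      exact this

lemma isDerivedComplete_span_iff (s : Finset A) (K : Dual.D A) :
    IsDerivedComplete (Ideal.span (s : Set A)) K ↔ ∀ f ∈ s, LO f K := by
  rw [isDerivedComplete_iff_le, Ideal.span_le]
  rfl

/-- universal arrows to derived complete objects. -/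
theorem exists_completion (I : Ideal A) (hI : I.FG) (K : Dual.D A) :
    ∃ (C : Dual.D A) (q : K ⟶ C), IsDerivedComplete I C ∧
      (∀ C' : Dual.D A, IsDerivedComplete I C' → Function.Bijective (fun ψ : C ⟶ C' => q ≫ ψ)) := by
  obtain ⟨s, rfl⟩ := hI
  obtain ⟨C, q, h1, h2, -, -⟩ := exists_completion_finset s K
  exact ⟨C, q, (isDerivedComplete_span_iff s C).2 h1,
    fun C' hC' => h2 C' ((isDerivedComplete_span_iff s C').1 hC')⟩

theorem hasDerivedCompletion (I : Ideal A) (hI : I.FG) : HasDerivedCompletion I := by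
  haveI : ∀ K : Dual.D A, HasInitial (StructuredArrow K (ObjectProperty.ι (IsDerivedComplete I))) := by
    intro K
    obtain ⟨C, q, hC, huniv⟩ := exists_completion I hI K
    let Cc : (IsDerivedComplete I).FullSubcategory := ⟨C, hC⟩
    let q' : K ⟶ (ObjectProperty.ι (IsDerivedComplete I)).obj Cc := q
    let X₀ : StructuredArrow K (ObjectProperty.ι (IsDerivedComplete I)) := StructuredArrow.mk q'
    have hsurj : ∀ Y : StructuredArrow K (ObjectProperty.ι (IsDerivedComplete I)),
        ∃ g : C ⟶ Y.right.obj, q ≫ g = Y.hom :=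
      fun Y => (huniv Y.right.obj Y.right.property).2 Y.hom
    have hX₀ : IsInitial X₀ := by
      refine IsInitial.ofUniqueHom
        (fun Y => StructuredArrow.homMk (ObjectProperty.homMk (hsurj Y).choose)
          (hsurj Y).choose_spec) (fun Y m => ?_)
      apply StructuredArrow.ext
      apply ObjectProperty.hom_ext
      apply (huniv Y.right.obj Y.right.property).1
      have h1 : q ≫ m.right.hom = Y.hom := StructuredArrow.w m
      exact h1.trans (hsurj Y).choose_spec.symm
    exact hX₀.hasInitial
  exact isRightAdjointOfStructuredArrowInitials _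

end Groth.Agent.H4.DCompl4
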