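import Mathlib
import Groth.Agent.H4.DCompl4
import Groth.Agent.H4.DComp10
set_option autoImplicit false
universe u
open CategoryTheory CategoryTheory.Limits CategoryTheory.Pretriangulated

namespace Groth.Agent.H4.DCompl5

attribute [local instance] HasDerivedCategory.standard

variable {A : Type u} [CommRing A]

open DRing DerivedCategory Groth.Agent.H4.DComp Groth.Agent.H4.DCompl1 Groth.Agent.H4.DCompl2
  Groth.Agent.H4.DThick Groth.Agent.H4.ProjAmp Groth.Agent.H4.DCompl3 Groth.Agent.H4.DCompl4

/-- a complex on whose terms `f` acts bijectively gives an object on which `f` is invertible. -/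
lemma FInv_Q_of_termwise (f : A) (X : Cx A)
    (h : ∀ i : ℤ, Function.Bijective (fun x : X.X i => f • x)) : FInv f (Q.obj X) := by
  have h1 : f • 𝟙 (Q.obj X) = Q.map (f • 𝟙 X) := by
    rw [Functor.map_smul, CategoryTheory.Functor.map_id]
  haveI : ∀ i : ℤ, IsIso ((f • 𝟙 X : X ⟶ X).f i) := by
    intro i
    have : (f • 𝟙 X : X ⟶ X).f i = f • 𝟙 (X.X i) := by
      simp
    rw [this, ConcreteCategory.isIso_iff_bijective]
    exact h i
  haveI : IsIso (f • 𝟙 X : X ⟶ X) := HomologicalComplex.Hom.isIso_of_components _
  unfold FInv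
  rw [h1]
  infer_instance

lemma bijective_smul_restrictScalars {B : Type u} [CommRing B] (φ : A →+* B) (a : A)
    (ha : IsUnit (φ a)) (M : ModuleCat.{u} B) :
    Function.Bijective (fun x : (ModuleCat.restrictScalars.{u} φ).obj M => a • x) := by
  have h1 : (fun x : (ModuleCat.restrictScalars.{u} φ).obj M => a • x) =
      (fun x : M => (φ a) • x) := by
    funext x
    rfl
  rw [h1]
  obtain ⟨u, hu⟩ := ha
  rw [← hu]
  exact (MulAction.bijective u : Function.Bijective (fun x : M => u • x))

lemma FInv_restrictD (f : A) (E : Dual.D (Localization.Away f)) :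
    FInv f ((restrictD (algebraMap A (Localization.Away f))).obj E) := by
  let φ := algebraMap A (Localization.Away f)
  let F := ModuleCat.restrictScalars.{u} φ
  let X := Q.objPreimage E
  let e : Q.obj X ≅ E := Q.objObjPreimageIso E
  let e1 : (restrictD φ).obj E ≅ Q.obj ((F.mapHomologicalComplex (ComplexShape.up ℤ)).obj X) :=
    (restrictD φ).mapIso e.symm ≪≫ F.mapDerivedCategoryFactors.app X
  refine FInv.of_iso e1.symm (FInv_Q_of_termwise f _ ?_)
  intro i
  exact bijective_smul_restrictScalars φ f (IsLocalization.Away.algebraMap_isUnit f) (X.X i)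

/-- `A_f[m]` is restricted from `D(A_f)`. -/
noncomputable def FoShiftIso (f : A) (m : ℤ) :
    (restrictD (algebraMap A (Localization.Away f))).obj
      ((Dual.inD (Localization.Away f) (Localization.Away f))⟦m⟧) ≅ (Fo f)⟦m⟧ := by
  let φ := algebraMap A (Localization.Away f)
  let F := ModuleCat.restrictScalars.{u} φ
  let e0' : (F.obj (ModuleCat.of (Localization.Away f) (Localization.Away f))) ≃ₗ[A]
      (ModuleCat.of A (Localization.Away f)) :=
      { toFun := fun x => x
        invFun := fun x => x
        map_add' := fun _ _ => rfl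
        map_smul' := fun a x => by
          exact (Algebra.smul_def a (show Localization.Away f from x)).symm
        left_inv := fun _ => rfl
        right_inv := fun _ => rfl }
  let e0 : F.obj (ModuleCat.of (Localization.Away f) (Localization.Away f)) ≅
      ModuleCat.of A (Localization.Away f) := e0'.toModuleIso
  exact ((restrictD φ).commShiftIso m).app _ ≪≫
    (shiftFunctor (Dual.D A) m).mapIso ((F.mapDerivedCategorySingleFunctor 0).app _ ≪≫
      (singleFunctor (ModuleCat.{u} A) 0).mapIso e0)

theorem S7098 (f : A) (K : Dual.D A) :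
    (∀ n : ℤ, Subsingleton (Dual.inD A (Localization.Away f) ⟶ K⟦n⟧)) ↔
      ∀ E : Dual.D (Localization.Away f),
        Subsingleton ((DRing.restrictD (algebraMap A (Localization.Away f))).obj E ⟶ K) := by
  constructor
  · intro h E
    have hLO : LO f K := (LO_iff f K).2 h
    exact ⟨fun a b => (hom_eq_zero_of_FInv f _ K (FInv_restrictD f E) hLO a).trans
      (hom_eq_zero_of_FInv f _ K (FInv_restrictD f E) hLO b).symm⟩
  · intro h
    rw [← LO_iff f K]
    intro n
    haveI := h ((Dual.inD (Localization.Away f) (Localization.Away f))⟦n⟧)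
    exact ((FoShiftIso f n).homCongr (Iso.refl K)).symm.subsingleton

/-- maps from an `f`-invertible object into the completion are unique, so its completion is 0. -/
theorem isZero_derivedCompletion_of_FInv (I : Ideal A) [HasDerivedCompletion I] (Y : Dual.D A)
    (f : A) (hf : f ∈ I) (hY : FInv f Y) : IsZero ((derivedCompletion I).obj Y).obj := by
  let L := (derivedCompletion I).obj Y
  have hsub : Subsingleton (L ⟶ L) := by
    have hL : LO f L.obj := (isDerivedComplete_iff_LO I L.obj).1 L.property f hf
    haveI : Subsingleton (Y ⟶ (ObjectProperty.ι (IsDerivedComplete I)).obj L) :=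
      ⟨fun a b => (hom_eq_zero_of_FInv f Y L.obj hY hL a).trans
        (hom_eq_zero_of_FInv f Y L.obj hY hL b).symm⟩
    exact ((derivedCompletionAdj I).homEquiv Y L).subsingleton
  rw [IsZero.iff_id_eq_zero]
  have h1 : 𝟙 L = ObjectProperty.homMk (0 : L.obj ⟶ L.obj) := hsub.elim _ _
  have h2 := congrArg (fun m : L ⟶ L => m.hom) h1
  exact h2

theorem S7058 (I : Ideal A) (hI : I.FG)
    [DRing.HasDerivedCompletion I] (K : DRing.Cx A) (f : A) (hf : f ∈ I)
    (hK : ∀ i : ℤ, Function.Bijective (fun x : K.X i => f • x)) :
    Limits.IsZero ((DRing.derivedCompletion I).obj (DRing.toD K)).obj :=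
  isZero_derivedCompletion_of_FInv I _ f hf (FInv_Q_of_termwise f K hK)

end Groth.Agent.H4.DCompl5
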