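import Mathlib
import Groth.Agent.H4.DCompl5
set_option autoImplicit false
universe u
open CategoryTheory CategoryTheory.Limits CategoryTheory.Pretriangulated

namespace Groth.Agent.H4.DCompl6

attribute [local instance] HasDerivedCategory.standard

variable {A : Type u} [CommRing A]

open ZeroObject DRing DerivedCategory Groth.Agent.H4.DComp Groth.Agent.H4.DCompl1 Groth.Agent.H4.DCompl2
  Groth.Agent.H4.DThick Groth.Agent.H4.ProjAmp Groth.Agent.H4.DCompl3 Groth.Agent.H4.DCompl4

instance isTriangulated_isDerivedComplete (I : Ideal A) : (IsDerivedComplete I).IsTriangulated := by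
  have hTS := isTriSub_isDerivedComplete I
  haveI : (IsDerivedComplete I).IsClosedUnderIsomorphisms := ⟨fun e h => hTS.iso e h⟩
  haveI : (IsDerivedComplete I).ContainsZero := ⟨⟨0, isZero_zero _, hTS.zero _ (isZero_zero _)⟩⟩
  haveI : (IsDerivedComplete I).IsStableUnderShift ℤ :=
    ⟨fun n => ⟨fun X hX => hTS.shift X n hX⟩⟩
  haveI : (IsDerivedComplete I).IsTriangulatedClosed₂ :=
    ObjectProperty.IsTriangulatedClosed₂.mk' (fun T hT h1 h3 => hTS.ext₂ T hT h1 h3)
  exact {}

variable (I : Ideal A) [HasDerivedCompletion I]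

/-- the completion endofunctor of `D(A)`. -/
noncomputable abbrev Λ : Dual.D A ⥤ Dual.D A :=
  derivedCompletion I ⋙ ObjectProperty.ι (IsDerivedComplete I)

lemma unit_bijective (K C' : Dual.D A) (hC' : IsDerivedComplete I C') :
    Function.Bijective
      (fun ψ : ((derivedCompletion I).obj K).obj ⟶ C' => toDerivedCompletion I K ≫ ψ) := by
  let Y : DComp I := ⟨C', hC'⟩
  have h1 : Function.Bijective ((derivedCompletionAdj I).homEquiv K Y) :=
    ((derivedCompletionAdj I).homEquiv K Y).bijective
  have h2 : Function.Bijective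
      (fun m : (derivedCompletion I).obj K ⟶ Y => m.hom) := by
    constructor
    · intro m m' h
      exact ObjectProperty.hom_ext _ h
    · intro ψ
      exact ⟨ObjectProperty.homMk ψ, rfl⟩
  have key : (fun ψ : ((derivedCompletion I).obj K).obj ⟶ C' => toDerivedCompletion I K ≫ ψ) ∘
      (fun m : (derivedCompletion I).obj K ⟶ Y => m.hom) =
        (derivedCompletionAdj I).homEquiv K Y := by
    funext m
    rw [Adjunction.homEquiv_unit]
    rfl
  have h3 : Function.Bijective
      ((fun ψ : ((derivedCompletion I).obj K).obj ⟶ C' => toDerivedCompletion I K ≫ ψ) ∘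
      (fun m : (derivedCompletion I).obj K ⟶ Y => m.hom)) := by
    rw [key]
    exact h1
  exact (Function.Bijective.of_comp_iff _ h2).1 h3

/-- two universal arrows to complete objects are isomorphic. -/
lemma nonempty_iso_of_universal (K : Dual.D A) (C : Dual.D A) (q : K ⟶ C)
    (hC : IsDerivedComplete I C)
    (huniv : ∀ C' : Dual.D A, IsDerivedComplete I C' →
      Function.Bijective (fun ψ : C ⟶ C' => q ≫ ψ)) :
    Nonempty (((derivedCompletion I).obj K).obj ≅ C) := by
  let L := ((derivedCompletion I).obj K).obj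
  have hL : IsDerivedComplete I L := ((derivedCompletion I).obj K).property
  let η := toDerivedCompletion I K
  obtain ⟨u, hu⟩ := (unit_bijective I K C hC).2 q
  obtain ⟨v, hv⟩ := (huniv L hL).2 η
  change η ≫ u = q at hu
  change q ≫ v = η at hv
  refine ⟨⟨u, v, ?_, ?_⟩⟩
  · apply (unit_bijective I K L hL).1
    change η ≫ u ≫ v = η ≫ 𝟙 L
    rw [← Category.assoc, hu, hv, Category.comp_id]
  · apply (huniv C hC).1
    change q ≫ v ≫ u = q ≫ 𝟙 C
    rw [← Category.assoc, hv, hu, Category.comp_id]

lemma isLE_completion (s : Finset A) (hs : Ideal.span (s : Set A) = I) (K : Dual.D A) (b : ℤ)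
    (hK : K.IsLE b) : (((derivedCompletion I).obj K).obj).IsLE b := by
  obtain ⟨C, q, h1, h2, h3, -⟩ := exists_completion_finset s K
  subst hs
  obtain ⟨e⟩ := nonempty_iso_of_universal _ K C q ((isDerivedComplete_span_iff s C).2 h1)
    (fun C' hC' => h2 C' ((isDerivedComplete_span_iff s C').1 hC'))
  haveI := h3 b hK
  exact (tR A).isLE_of_iso e.symm b

lemma isGE_completion (s : Finset A) (hs : Ideal.span (s : Set A) = I) (K : Dual.D A) (a : ℤ)
    (hK : K.IsGE a) : (((derivedCompletion I).obj K).obj).IsGE (a - s.card) := by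
  obtain ⟨C, q, h1, h2, -, h4⟩ := exists_completion_finset s K
  subst hs
  obtain ⟨e⟩ := nonempty_iso_of_universal _ K C q ((isDerivedComplete_span_iff s C).2 h1)
    (fun C' hC' => h2 C' ((isDerivedComplete_span_iff s C').1 hC'))
  haveI := h4 a hK
  exact (tR A).isGE_of_iso e.symm _

/-- the completion functor is triangulated. -/
lemma exists_distinguished_completion (T : Triangle (Dual.D A))
    (hT : T ∈ distinguishedTriangles) :
    ∃ (δ : ((derivedCompletion I).obj T.obj₃).obj ⟶ (((derivedCompletion I).obj T.obj₁).obj)⟦(1 : ℤ)⟧),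
      Triangle.mk ((derivedCompletion I).map T.mor₁).hom ((derivedCompletion I).map T.mor₂).hom δ ∈
        distinguishedTriangles := by
  letI : (derivedCompletion I).CommShift ℤ := (derivedCompletionAdj I).leftAdjointCommShift ℤ
  haveI : (derivedCompletionAdj I).CommShift ℤ := (derivedCompletionAdj I).commShift_of_rightAdjoint ℤ
  haveI : (derivedCompletion I).IsTriangulated := (derivedCompletionAdj I).isTriangulated_leftAdjoint
  have h1 := (derivedCompletion I).map_distinguished T hT
  have h2 := (ObjectProperty.ι (IsDerivedComplete I)).map_distinguished _ h1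
  exact ⟨_, h2⟩

omit [HasDerivedCompletion I] in
lemma isZero_homology_obj₃ (T : Triangle (Dual.D A)) (hT : T ∈ distinguishedTriangles) (i : ℤ)
    (hepi : Epi ((homologyFunctor (ModuleCat.{u} A) i).map T.mor₁))
    (hmono : Mono ((homologyFunctor (ModuleCat.{u} A) (i + 1)).map T.mor₁)) :
    IsZero ((homologyFunctor (ModuleCat.{u} A) i).obj T.obj₃) := by
  have h1 := (HomologySequence.epi_homologyMap_mor₁_iff T hT i).1 hepi
  have h2 := (HomologySequence.mono_homologyMap_mor₁_iff T hT i (i + 1) rfl).1 hmono
  exact (HomologySequence.exact₃ T hT i (i + 1) rfl).isZero_X₂ h1 h2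

omit [HasDerivedCompletion I] in
lemma epi_mor₁_of_isZero (T : Triangle (Dual.D A)) (hT : T ∈ distinguishedTriangles) (i : ℤ)
    (h : IsZero ((homologyFunctor (ModuleCat.{u} A) i).obj T.obj₃)) :
    Epi ((homologyFunctor (ModuleCat.{u} A) i).map T.mor₁) := by
  rw [HomologySequence.epi_homologyMap_mor₁_iff T hT i]
  exact h.eq_of_tgt _ _

omit [HasDerivedCompletion I] in
lemma mono_mor₁_of_isZero (T : Triangle (Dual.D A)) (hT : T ∈ distinguishedTriangles) (i j : ℤ)
    (hij : i + 1 = j)
    (h : IsZero ((homologyFunctor (ModuleCat.{u} A) i).obj T.obj₃)) :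
    Mono ((homologyFunctor (ModuleCat.{u} A) j).map T.mor₁) := by
  rw [HomologySequence.mono_homologyMap_mor₁_iff T hT i j hij]
  exact h.eq_of_src _ _

theorem S7091 (hI : I.FG) {K L : Dual.D A} (φ : K ⟶ L)
    (hiso : ∀ i : ℤ, 1 ≤ i → IsIso ((DerivedCategory.homologyFunctor (ModuleCat.{u} A) i).map φ))
    (hepi : Epi ((DerivedCategory.homologyFunctor (ModuleCat.{u} A) 0).map φ)) :
    (∀ i : ℤ, 1 ≤ i → IsIso ((DerivedCategory.homologyFunctor (ModuleCat.{u} A) i).map
        ((DRing.derivedCompletion I).map φ).hom)) ∧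
      Epi ((DerivedCategory.homologyFunctor (ModuleCat.{u} A) 0).map
        ((DRing.derivedCompletion I).map φ).hom) := by
  obtain ⟨s, hs⟩ := hI
  obtain ⟨Z, g, h, hT⟩ := distinguished_cocone_triangle φ
  have hZ : Z.IsLE (-1) := by
    rw [isLE_iff]
    intro i hi
    refine isZero_homology_obj₃ _ hT i ?_ ?_
    · by_cases h0 : i = 0
      · subst h0
        exact hepi
      · haveI := hiso i (by omega)
        change Epi ((homologyFunctor (ModuleCat.{u} A) i).map φ)
        infer_instance
    · haveI := hiso (i + 1) (by omega)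
      change Mono ((homologyFunctor (ModuleCat.{u} A) (i + 1)).map φ)
      infer_instance
  obtain ⟨δ, hT'⟩ := exists_distinguished_completion I _ hT
  have hZ' : (((derivedCompletion I).obj Z).obj).IsLE (-1) := isLE_completion I s hs Z (-1) hZ
  have hzero : ∀ i : ℤ, 0 ≤ i →
      IsZero ((homologyFunctor (ModuleCat.{u} A) i).obj ((derivedCompletion I).obj Z).obj) :=
    fun i hi => isZero_of_isLE _ (-1) i (by omega)
  constructor
  · intro i hi
    haveI : Epi ((homologyFunctor (ModuleCat.{u} A) i).map ((derivedCompletion I).map φ).hom) :=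
      epi_mor₁_of_isZero _ hT' i (hzero i (by omega))
    haveI : Mono ((homologyFunctor (ModuleCat.{u} A) i).map ((derivedCompletion I).map φ).hom) :=
      mono_mor₁_of_isZero _ hT' (i - 1) i (by omega) (hzero (i - 1) (by omega))
    exact isIso_of_mono_of_epi
      ((homologyFunctor (ModuleCat.{u} A) i).map ((derivedCompletion I).map φ).hom)
  · exact epi_mor₁_of_isZero _ hT' 0 (hzero 0 le_rfl)

theorem S7092 (s : Finset A)
    (hs : Ideal.span (s : Set A) = I) {K L : Dual.D A} (φ : K ⟶ L)
    (hiso : ∀ i : ℤ, i ≤ -1 → IsIso ((DerivedCategory.homologyFunctor (ModuleCat.{u} A) i).map φ))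
    (hmono : Mono ((DerivedCategory.homologyFunctor (ModuleCat.{u} A) 0).map φ)) :
    (∀ i : ℤ, i ≤ -(s.card : ℤ) - 1 → IsIso ((DerivedCategory.homologyFunctor (ModuleCat.{u} A) i).map
        ((DRing.derivedCompletion I).map φ).hom)) ∧
      Mono ((DerivedCategory.homologyFunctor (ModuleCat.{u} A) (-(s.card : ℤ))).map
        ((DRing.derivedCompletion I).map φ).hom) := by
  obtain ⟨Z, g, h, hT⟩ := distinguished_cocone_triangle φ
  have hZ : Z.IsGE 0 := by
    rw [isGE_iff]
    intro i hi
    refine isZero_homology_obj₃ _ hT i ?_ ?_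
    · haveI := hiso i (by omega)
      change Epi ((homologyFunctor (ModuleCat.{u} A) i).map φ)
      infer_instance
    · by_cases h0 : i + 1 = 0
      · rw [h0]
        exact hmono
      · haveI := hiso (i + 1) (by omega)
        change Mono ((homologyFunctor (ModuleCat.{u} A) (i + 1)).map φ)
        infer_instance
  obtain ⟨δ, hT'⟩ := exists_distinguished_completion I _ hT
  have hZ' : (((derivedCompletion I).obj Z).obj).IsGE (0 - s.card) :=
    isGE_completion I s hs Z 0 hZ
  have hzero : ∀ i : ℤ, i < -(s.card : ℤ) →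
      IsZero ((homologyFunctor (ModuleCat.{u} A) i).obj ((derivedCompletion I).obj Z).obj) :=
    fun i hi => isZero_of_isGE _ (0 - s.card) i (by omega)
  constructor
  · intro i hi
    haveI : Epi ((homologyFunctor (ModuleCat.{u} A) i).map ((derivedCompletion I).map φ).hom) :=
      epi_mor₁_of_isZero _ hT' i (hzero i (by omega))
    haveI : Mono ((homologyFunctor (ModuleCat.{u} A) i).map ((derivedCompletion I).map φ).hom) :=
      mono_mor₁_of_isZero _ hT' (i - 1) i (by omega) (hzero (i - 1) (by omega))
    exact isIso_of_mono_of_epi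
      ((homologyFunctor (ModuleCat.{u} A) i).map ((derivedCompletion I).map φ).hom)
  · exact mono_mor₁_of_isZero _ hT' (-(s.card : ℤ) - 1) _ (by omega) (hzero _ (by omega))

end Groth.Agent.H4.DCompl6
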