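import Mathlib

set_option autoImplicit false
universe u
open CategoryTheory CategoryTheory.Limits

/-!
# Induction along the `I`-adic filtration of a module killed by a power of `I`
-/

namespace Groth.Agent.H4.NilInd

variable {R : Type u} [CommRing R]

/-- the short exact sequence `0 → IM → M → M/IM → 0`. -/
noncomputable def ses (I : Ideal R) (M : ModuleCat.{u} R) : ShortComplex (ModuleCat.{u} R) :=
  ShortComplex.mk (ModuleCat.ofHom (I • (⊤ : Submodule R M)).subtype)
    (ModuleCat.ofHom (I • (⊤ : Submodule R M)).mkQ) (by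
      ext x
      exact (Submodule.Quotient.mk_eq_zero _).2 x.2)

lemma ses_shortExact (I : Ideal R) (M : ModuleCat.{u} R) : (ses I M).ShortExact := by
  refine ShortComplex.ShortExact.mk' ?_ ?_ ?_
  · rw [ShortComplex.ShortExact.moduleCat_exact_iff_function_exact]
    intro x
    constructor
    · intro hx
      exact ⟨⟨x, (Submodule.Quotient.mk_eq_zero _).1 hx⟩, rfl⟩
    · rintro ⟨y, rfl⟩
      exact (Submodule.Quotient.mk_eq_zero _).2 y.2
  · rw [ModuleCat.mono_iff_injective]
    exact Subtype.val_injective
  · rw [ModuleCat.epi_iff_surjective]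
    exact Submodule.mkQ_surjective _

theorem induction_of_pow_smul_eq_bot (I : Ideal R) (P : ModuleCat.{u} R → Prop)
    (h_killed : ∀ M : ModuleCat.{u} R, (∀ a ∈ I, ∀ m : M, a • m = 0) → P M)
    (h_ses : ∀ S : ShortComplex (ModuleCat.{u} R), S.ShortExact → P S.X₁ → P S.X₃ → P S.X₂)
    (n : ℕ) : ∀ (M : ModuleCat.{u} R), I ^ n • (⊤ : Submodule R M) = ⊥ → P M := by
  induction n with
  | zero =>
    intro M hM
    refine h_killed M (fun a _ m => ?_)
    have h1 : (⊤ : Submodule R M) = ⊥ := by
      rw [← hM, pow_zero, Ideal.one_eq_top, Submodule.top_smul]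
    have h2 : m ∈ (⊥ : Submodule R M) := h1 ▸ Submodule.mem_top
    rw [(Submodule.mem_bot R).1 h2, smul_zero]
  | succ n ih =>
    intro M hM
    refine h_ses (ses I M) (ses_shortExact I M) (ih _ ?_) (h_killed _ ?_)
    · rw [eq_bot_iff]
      refine Submodule.smul_le.2 (fun a ha m _ => ?_)
      rw [Submodule.mem_bot]
      let m' : ↥(I • (⊤ : Submodule R M)) := m
      have h3 : a • (m' : M) ∈ I ^ (n + 1) • (⊤ : Submodule R M) := by
        rw [pow_succ, mul_smul]
        exact Submodule.smul_mem_smul ha m'.2
      rw [hM] at h3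
      exact Subtype.ext ((Submodule.mem_bot R).1 h3)
    · intro a ha m
      obtain ⟨m, rfl⟩ := Submodule.mkQ_surjective _ m
      change (I • (⊤ : Submodule R M)).mkQ (a • m) = 0
      rw [Submodule.mkQ_apply, Submodule.Quotient.mk_eq_zero]
      exact Submodule.smul_mem_smul ha Submodule.mem_top

/-- a module killed by the kernel of a surjective ring map is a restriction of scalars. -/
theorem exists_iso_restrictScalars_of_killed {R' : Type u} [CommRing R'] (φ : R' →+* R)
    (hφ : Function.Surjective φ) (M' : ModuleCat.{u} R')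
    (h : ∀ a ∈ RingHom.ker φ, ∀ m : M', a • m = 0) :
    ∃ N : ModuleCat.{u} R, Nonempty ((ModuleCat.restrictScalars.{u} φ).obj N ≅ M') := by
  letI : SMul R M' := ⟨fun r m => Function.surjInv hφ r • m⟩
  have hsmul : ∀ (c : R') (x : M'), φ c • x = c • x := by
    intro c x
    change Function.surjInv hφ (φ c) • x = c • x
    have h1 : Function.surjInv hφ (φ c) - c ∈ RingHom.ker φ := by
      rw [RingHom.mem_ker, map_sub, Function.surjInv_eq hφ, sub_self]
    have h2 := h _ h1 x
    rw [sub_smul, sub_eq_zero] at h2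
    exact h2
  letI : Module R M' := Function.Surjective.moduleLeft φ hφ hsmul
  let e : ((ModuleCat.restrictScalars.{u} φ).obj (ModuleCat.of R M')) ≃ₗ[R'] M' :=
    { toFun := fun m => m
      invFun := fun m => m
      map_add' := fun _ _ => rfl
      map_smul' := fun c x => hsmul c x
      left_inv := fun _ => rfl
      right_inv := fun _ => rfl }
  exact ⟨ModuleCat.of R M', ⟨e.toModuleIso⟩⟩

end Groth.Agent.H4.NilInd
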