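import Mathlib

set_option autoImplicit false

/-!
# An adjunction between additive functors induces an adjunction on homotopy categories
-/

namespace Groth.Agent.H4.KProj

open CategoryTheory Limits

universe v v' u u'

variable {V : Type u} [Category.{v} V] [Preadditive V] {W : Type u'} [Category.{v'} W]
  [Preadditive W] {G : V ⥤ W} {F : W ⥤ V} [G.Additive] [F.Additive] (adj : G ⊣ F)
  {ι : Type*} (c : ComplexShape ι)

/-- the unit of the adjunction on complexes. -/
@[simps]
def unitC : 𝟭 (HomologicalComplex V c) ⟶
    G.mapHomologicalComplex c ⋙ F.mapHomologicalComplex c where
  app K := { f := fun i => adj.unit.app (K.X i)
             comm' := fun i j _ => by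
               have := adj.unit.naturality (K.d i j)
               dsimp at this ⊢
               exact this.symm }
  naturality K L f := by
    ext i
    have := adj.unit.naturality (f.f i)
    dsimp at this ⊢
    exact this

/-- the counit of the adjunction on complexes. -/
@[simps]
def counitC : F.mapHomologicalComplex c ⋙ G.mapHomologicalComplex c ⟶
    𝟭 (HomologicalComplex W c) where
  app K := { f := fun i => adj.counit.app (K.X i)
             comm' := fun i j _ => by
               have := adj.counit.naturality (K.d i j)
               dsimp at this ⊢
               exact this.symm }
  naturality K L f := by
    ext i
    have := adj.counit.naturality (f.f i)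
    dsimp at this ⊢
    exact this

/-- the adjunction on complexes. -/
def adjC : G.mapHomologicalComplex c ⊣ F.mapHomologicalComplex c :=
  Adjunction.mkOfUnitCounit
    { unit := unitC adj c
      counit := counitC adj c
      left_triangle := by
        ext K i
        simp only [NatTrans.comp_app, Functor.whiskerRight_app, Functor.associator_hom_app,
          Functor.whiskerLeft_app, Category.id_comp, HomologicalComplex.comp_f,
          NatTrans.id_app', HomologicalComplex.id_f]
        exact adj.left_triangle_components (K.X i)
      right_triangle := by
        ext K i
        simp only [NatTrans.comp_app, Functor.whiskerRight_app, Functor.associator_inv_app,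
          Functor.whiskerLeft_app, Category.id_comp, HomologicalComplex.comp_f,
          NatTrans.id_app', HomologicalComplex.id_f]
        exact adj.right_triangle_components (K.X i) }

/-- the unit of the adjunction on homotopy categories. -/
def unitK : 𝟭 (HomotopyCategory V c) ⟶
    G.mapHomotopyCategory c ⋙ F.mapHomotopyCategory c :=
  Quotient.natTransLift _
    { app := fun K => (HomotopyCategory.quotient V c).map ((unitC adj c).app K)
      naturality := fun K L f => by
        have := (unitC adj c).naturality f
        dsimp only [Functor.comp_map, Functor.id_map, Functor.comp_obj, Functor.id_obj] at this
        exact ((HomotopyCategory.quotient V c).map_comp _ _).symm.trans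
          ((congrArg (HomotopyCategory.quotient V c).map this).trans
            ((HomotopyCategory.quotient V c).map_comp _ _)) }

/-- the counit of the adjunction on homotopy categories. -/
def counitK : F.mapHomotopyCategory c ⋙ G.mapHomotopyCategory c ⟶
    𝟭 (HomotopyCategory W c) :=
  Quotient.natTransLift _
    { app := fun K => (HomotopyCategory.quotient W c).map ((counitC adj c).app K)
      naturality := fun K L f => by
        have := (counitC adj c).naturality f
        dsimp only [Functor.comp_map, Functor.id_map, Functor.comp_obj, Functor.id_obj] at this
        exact ((HomotopyCategory.quotient W c).map_comp _ _).symm.trans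
          ((congrArg (HomotopyCategory.quotient W c).map this).trans
            ((HomotopyCategory.quotient W c).map_comp _ _)) }

lemma unitK_app (K : HomologicalComplex V c) :
    (unitK adj c).app ((HomotopyCategory.quotient V c).obj K) =
      (HomotopyCategory.quotient V c).map ((unitC adj c).app K) := rfl

lemma counitK_app (K : HomologicalComplex W c) :
    (counitK adj c).app ((HomotopyCategory.quotient W c).obj K) =
      (HomotopyCategory.quotient W c).map ((counitC adj c).app K) := rfl

/-- the adjunction on homotopy categories. -/
def adjK : G.mapHomotopyCategory c ⊣ F.mapHomotopyCategory c where
  unit := unitK adj c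
  counit := counitK adj c
  left_triangle_components X := by
    obtain ⟨K, rfl⟩ := HomotopyCategory.quotient_obj_surjective X
    have := (adjC adj c).left_triangle_components K
    exact ((HomotopyCategory.quotient W c).map_comp _ _).symm.trans
      ((congrArg (HomotopyCategory.quotient W c).map this).trans
        ((HomotopyCategory.quotient W c).map_id _))
  right_triangle_components X := by
    obtain ⟨K, rfl⟩ := HomotopyCategory.quotient_obj_surjective X
    have := (adjC adj c).right_triangle_components K
    exact ((HomotopyCategory.quotient V c).map_comp _ _).symm.trans
      ((congrArg (HomotopyCategory.quotient V c).map this).trans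
        ((HomotopyCategory.quotient V c).map_id _))

end Groth.Agent.H4.KProj
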