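import Mathlib
import Groth.Agent.H4.LDer5
set_option autoImplicit false
universe u
open CategoryTheory CategoryTheory.Limits CategoryTheory.Pretriangulated MonoidalCategory

/-!
# Derived functors and distinguished triangles of bounded above objects
-/

namespace Groth.Agent.H4.LDer

attribute [local instance] HasDerivedCategory.standard

open DerivedCategory DRing Groth.Agent.H4.PC Groth.Agent.H4.ResP Groth.Agent.H4.DRing1
open CochainComplex (mappingCone)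

variable {A B : Type u} [CommRing A] [CommRing B] (G : ModuleCat.{u} A ⥤ ModuleCat.{u} B) [G.Additive]
  [(Gh G).HasLeftDerivedFunctor (WA A)]

/-- the image under a derived functor of a distinguished triangle of bounded above objects has its vertices
isomorphic to those of a distinguished triangle. -/
theorem exists_distTriang_LG (T : Triangle (Dual.D A)) (hT : T ∈ distinguishedTriangles) (b : ℤ)
    [T.obj₁.IsLE b] [T.obj₂.IsLE b] :
    ∃ T' : Triangle (Dual.D B), T' ∈ distinguishedTriangles ∧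
      Nonempty (T'.obj₁ ≅ (LG G).obj T.obj₁) ∧ Nonempty (T'.obj₂ ≅ (LG G).obj T.obj₂) ∧
      Nonempty (T'.obj₃ ≅ (LG G).obj T.obj₃) := by
  obtain ⟨P₁, hP₁, ⟨e₁⟩⟩ := exists_iso_of_isLE T.obj₁ b
  obtain ⟨P₂, hP₂, ⟨e₂⟩⟩ := exists_iso_of_isLE T.obj₂ b
  haveI := hP₁.isKProjective
  haveI := hP₂.isKProjective
  obtain ⟨f, ⟨e₃⟩⟩ := exists_cone_iso T hT P₁ P₂ e₁ e₂
  have hC : IsBAF b (mappingCone f) := (hP₁.mono (by omega : b ≤ b + 1)).cone hP₂ f
  haveI := hC.isKProjective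
  refine ⟨Q.mapTriangle.obj (mappingCone.triangle ((GC G).map f)),
    mapTriangle_distinguished _, ⟨(isoOfIso G P₁ e₁).symm⟩, ⟨(isoOfIso G P₂ e₂).symm⟩, ⟨?_⟩⟩
  exact Q.mapIso (mappingCone.mapHomologicalComplexIso f G).symm ≪≫ (isoOfIso G _ e₃).symm

/-- vanishing of `H^i (LG -)` -/
def HV (K : Dual.D A) (i : ℤ) : Prop :=
  IsZero ((homologyFunctor (ModuleCat.{u} B) i).obj ((LG G).obj K))

variable {G}

theorem HV_obj₃ (T : Triangle (Dual.D A)) (hT : T ∈ distinguishedTriangles) (b : ℤ)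
    [T.obj₁.IsLE b] [T.obj₂.IsLE b] (i : ℤ) (h₂ : HV G T.obj₂ i) (h₁ : HV G T.obj₁ (i + 1)) :
    HV G T.obj₃ i := by
  obtain ⟨T', hT', ⟨e₁⟩, ⟨e₂⟩, ⟨e₃⟩⟩ := exists_distTriang_LG G T hT b
  have h₂' := h₂.of_iso ((homologyFunctor (ModuleCat.{u} B) i).mapIso e₂)
  have h₁' := h₁.of_iso ((homologyFunctor (ModuleCat.{u} B) (i + 1)).mapIso e₁)
  exact ((HomologySequence.exact₃ T' hT' i (i + 1) rfl).isZero_of_both_zeros
    (h₂'.eq_of_src _ _) (h₁'.eq_of_tgt _ _)).of_iso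
      ((homologyFunctor (ModuleCat.{u} B) i).mapIso e₃.symm)

theorem HV_obj₂ (T : Triangle (Dual.D A)) (hT : T ∈ distinguishedTriangles) (b : ℤ)
    [T.obj₁.IsLE b] [T.obj₂.IsLE b] (i : ℤ) (h₁ : HV G T.obj₁ i) (h₃ : HV G T.obj₃ i) :
    HV G T.obj₂ i := by
  obtain ⟨T', hT', ⟨e₁⟩, ⟨e₂⟩, ⟨e₃⟩⟩ := exists_distTriang_LG G T hT b
  have h₁' := h₁.of_iso ((homologyFunctor (ModuleCat.{u} B) i).mapIso e₁)
  have h₃' := h₃.of_iso ((homologyFunctor (ModuleCat.{u} B) i).mapIso e₃)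
  exact ((HomologySequence.exact₂ T' hT' i).isZero_of_both_zeros
    (h₁'.eq_of_src _ _) (h₃'.eq_of_tgt _ _)).of_iso
      ((homologyFunctor (ModuleCat.{u} B) i).mapIso e₂.symm)

theorem HV_obj₁ (T : Triangle (Dual.D A)) (hT : T ∈ distinguishedTriangles) (b : ℤ)
    [T.obj₁.IsLE b] [T.obj₂.IsLE b] (i : ℤ) (h₃ : HV G T.obj₃ (i - 1)) (h₂ : HV G T.obj₂ i) :
    HV G T.obj₁ i := by
  obtain ⟨T', hT', ⟨e₁⟩, ⟨e₂⟩, ⟨e₃⟩⟩ := exists_distTriang_LG G T hT b
  have h₂' := h₂.of_iso ((homologyFunctor (ModuleCat.{u} B) i).mapIso e₂)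
  have h₃' := h₃.of_iso ((homologyFunctor (ModuleCat.{u} B) (i - 1)).mapIso e₃)
  exact ((HomologySequence.exact₁ T' hT' (i - 1) i (by omega)).isZero_of_both_zeros
    (h₃'.eq_of_src _ _) (h₂'.eq_of_tgt _ _)).of_iso
      ((homologyFunctor (ModuleCat.{u} B) i).mapIso e₁.symm)

end Groth.Agent.H4.LDer
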