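import Mathlib
import Groth.Agent.H4.LDer7
import Groth.Agent.H4.KProj6

set_option autoImplicit false
universe u
open CategoryTheory CategoryTheory.Limits CategoryTheory.Pretriangulated MonoidalCategory

/-!
# Derived tensor products and short exact sequences of modules; K-projectivity and adjunctions
-/

namespace Groth.Agent.H4.BC

attribute [local instance] HasDerivedCategory.standard

open DerivedCategory DRing Groth.Agent.H4.LDer Groth.Agent.H4.PC

section KProjAdj

universe v v' u' u''

variable {V : Type u'} [Category.{v} V] [Abelian V] {W : Type u''} [Category.{v'} W] [Abelian W]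
  {F : V ⥤ W} {G : W ⥤ V} [F.Additive] [G.Additive]

/-- a left adjoint whose right adjoint preserves acyclic complexes preserves K-projective
complexes. -/
theorem isKProjective_map (adj : F ⊣ G) (hG : ∀ L : CochainComplex W ℤ, L.Acyclic →
      HomologicalComplex.Acyclic ((G.mapHomologicalComplex (ComplexShape.up ℤ)).obj L))
    (T : CochainComplex V ℤ) [T.IsKProjective] :
    CochainComplex.IsKProjective ((F.mapHomologicalComplex (ComplexShape.up ℤ)).obj T) := by
  rw [CochainComplex.isKProjective_iff_leftOrthogonal]
  intro Y f hY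
  obtain ⟨L, rfl⟩ := HomotopyCategory.quotient_obj_surjective Y
  rw [HomotopyCategory.quotient_obj_mem_subcategoryAcyclic_iff_acyclic] at hY
  let adjK' := Groth.Agent.H4.KProj.adjK adj (ComplexShape.up ℤ)
  let f' : (F.mapHomotopyCategory (ComplexShape.up ℤ)).obj
      ((HomotopyCategory.quotient V (ComplexShape.up ℤ)).obj T) ⟶
      (HomotopyCategory.quotient W (ComplexShape.up ℤ)).obj L := f
  have h0 : adjK'.homEquiv _ _ f' = 0 := by
    refine CochainComplex.IsKProjective.leftOrthogonal T _ ?_
    change HomotopyCategory.subcategoryAcyclic V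
      ((HomotopyCategory.quotient V (ComplexShape.up ℤ)).obj
        ((G.mapHomologicalComplex (ComplexShape.up ℤ)).obj L))
    rw [HomotopyCategory.quotient_obj_mem_subcategoryAcyclic_iff_acyclic]
    exact hG L hY
  have h1 : f' = 0 := by
    have := congrArg (adjK'.homEquiv _ _).symm h0
    rw [Equiv.symm_apply_apply] at this
    rw [this, Adjunction.homEquiv_counit, Functor.map_zero, zero_comp]
  exact h1

end KProjAdj

section Ext

variable {A B : Type u} [CommRing A] [CommRing B] (φ : A →+* B)

/-- extension of scalars preserves K-projective complexes. -/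
instance isKProjective_extendScalars (T : Cx A) [T.IsKProjective] :
    CochainComplex.IsKProjective
      (((ModuleCat.extendScalars.{u, u, u} φ).mapHomologicalComplex (ComplexShape.up ℤ)).obj T) :=
  isKProjective_map (ModuleCat.extendRestrictScalarsAdj.{u, u, u} φ)
    (fun L hL i => (hL i).map (ModuleCat.restrictScalars.{u} φ)) T

end Ext

section SES

variable {A : Type u} [CommRing A]

/-- the map `T ⊗ M₁ ⟶ T ⊗ M₂` of complexes induced by a map of modules. -/
noncomputable def tensMap (T : Cx A) {M₁ M₂ : ModuleCat.{u} A} (f : M₁ ⟶ M₂) :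
    (GC (tensorRight M₁)).obj T ⟶ (GC (tensorRight M₂)).obj T :=
  (NatTrans.mapHomologicalComplex ((tensoringRight (ModuleCat.{u} A)).map f)
    (ComplexShape.up ℤ)).app T

lemma tensMap_f (T : Cx A) {M₁ M₂ : ModuleCat.{u} A} (f : M₁ ⟶ M₂) (i : ℤ) :
    (tensMap T f).f i = T.X i ◁ f := rfl

/-- a short exact sequence of modules induces a short exact sequence of complexes after tensoring
with a termwise flat complex. -/
theorem shortExact_tens (T : Cx A) (hT : ∀ i, Module.Flat A (T.X i))
    (S : ShortComplex (ModuleCat.{u} A)) (hS : S.ShortExact) :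
    (ShortComplex.mk (tensMap T S.f) (tensMap T S.g) (by
      ext i : 1
      have h : T.X i ◁ S.f ≫ T.X i ◁ S.g = 0 := by
        rw [← MonoidalCategory.whiskerLeft_comp, S.zero, MonoidalPreadditive.whiskerLeft_zero]
      exact h)).ShortExact := by
  apply HomologicalComplex.shortExact_of_degreewise_shortExact
  intro i
  haveI := hT i
  have h1 : Function.Injective S.f.hom := (ModuleCat.mono_iff_injective _).1 hS.mono_f
  have h2 : Function.Surjective S.g.hom := (ModuleCat.epi_iff_surjective _).1 hS.epi_g
  have h3 : Function.Exact S.f.hom S.g.hom :=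
    (ShortComplex.ShortExact.moduleCat_exact_iff_function_exact _).1 hS.exact
  refine ShortComplex.ShortExact.mk' ?_ ?_ ?_
  · rw [ShortComplex.ShortExact.moduleCat_exact_iff_function_exact]
    exact Module.Flat.lTensor_exact (T.X i) h3
  · rw [ModuleCat.mono_iff_injective]
    exact Module.Flat.lTensor_preserves_injective_linearMap (M := T.X i) S.f.hom h1
  · rw [ModuleCat.epi_iff_surjective]
    exact LinearMap.lTensor_surjective (T.X i) h2

variable [∀ M : ModuleCat.{u} A, (Gh (tensorRight M)).HasLeftDerivedFunctor (WA A)]

/-- vanishing of `H^i(K ⊗^L M)` in the middle of a short exact sequence of modules. -/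
theorem HV_of_shortExact (K : Dual.D A) (S : ShortComplex (ModuleCat.{u} A)) (hS : S.ShortExact)
    (i : ℤ) (h₁ : HV (tensorRight S.X₁) K i) (h₃ : HV (tensorRight S.X₃) K i) :
    HV (tensorRight S.X₂) K i := by
  obtain ⟨T, hT, hf, ⟨e⟩⟩ := Groth.Agent.H4.KProj.exists_kproj_free_iso K
  have hfl : ∀ i, Module.Flat A (T.X i) := fun i => by haveI := hf i; infer_instance
  have hS' := shortExact_tens T hfl S hS
  have key : ∀ (M : ModuleCat.{u} A), HV (tensorRight M) K i ↔
      IsZero (((GC (tensorRight M)).obj T).homology i) := by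
    intro M
    have e1 := isoOfIso (tensorRight M) T e
    have e2 := (homologyFunctor (ModuleCat.{u} A) i).mapIso e1 ≪≫
      (homologyFunctorFactors (ModuleCat.{u} A) i).app _
    exact ⟨fun h => h.of_iso e2.symm, fun h => h.of_iso e2⟩
  rw [key] at h₁ h₃ ⊢
  exact (hS'.homology_exact₂ i).isZero_of_both_zeros (h₁.eq_of_src _ _) (h₃.eq_of_tgt _ _)

end SES

end Groth.Agent.H4.BC
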