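import Mathlib
import Groth.Agent.H4.BC2

set_option autoImplicit false
universe u
open CategoryTheory CategoryTheory.Limits MonoidalCategory TensorProduct

/-!
# The projection formula `(B ⊗_A X) ⊗_B N ≃ X ⊗_A N` and exactness
-/

namespace Groth.Agent.H4.ProjF

variable {A B : Type u} [CommRing A] [CommRing B] (φ : A →+* B)

section Mod

variable (X : ModuleCat.{u} A) (N : ModuleCat.{u} B)

/-- the carrier of `(B ⊗_A X) ⊗_B N`. -/
noncomputable abbrev L : ModuleCat.{u} B :=
  (tensorRight N).obj ((ModuleCat.extendScalars.{u, u, u} φ).obj X)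

/-- the carrier of `X ⊗_A N`. -/
noncomputable abbrev Rr : ModuleCat.{u} A :=
  (tensorRight ((ModuleCat.restrictScalars.{u} φ).obj N)).obj X

variable {N} in
/-- an element of `N` as an element of the restriction. -/
def rs (n : N) : (ModuleCat.restrictScalars.{u} φ).obj N := n

lemma rs_add (n n' : N) : rs φ (n + n') = rs φ n + rs φ n' := rfl
lemma rs_zero : rs φ (0 : N) = 0 := rfl
lemma smul_rs (a : A) (n : N) : a • rs φ n = rs φ (φ a • n) := rfl

/-- the element `x ⊗ n` of `X ⊗_A N`. -/
noncomputable def tm (x : X) (n : N) : Rr φ X N := x ⊗ₜ[A] rs φ n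

lemma tm_add (x : X) (n n' : N) : tm φ X N x (n + n') = tm φ X N x n + tm φ X N x n' :=
  TensorProduct.tmul_add _ _ _
lemma tm_zero (x : X) : tm φ X N x 0 = 0 := TensorProduct.tmul_zero _ _
lemma add_tm (x x' : X) (n : N) : tm φ X N (x + x') n = tm φ X N x n + tm φ X N x' n :=
  TensorProduct.add_tmul _ _ _
lemma zero_tm (n : N) : tm φ X N 0 n = 0 := TensorProduct.zero_tmul _ _
lemma smul_tm (a : A) (x : X) (n : N) : tm φ X N (a • x) n = tm φ X N x (φ a • n) :=
  TensorProduct.smul_tmul _ _ _

/-- `b ⊗ x ↦ (n ↦ x ⊗ b n)`. -/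
noncomputable def fwd₀ : ((ModuleCat.extendScalars.{u, u, u} φ).obj X) →+ N →+ (Rr φ X N) :=
  TensorProduct.liftAddHom (R := A)
    (M := (ModuleCat.restrictScalars.{u} φ).obj (ModuleCat.of B B)) (N := X)
    { toFun := fun b =>
        { toFun := fun x =>
            { toFun := fun n => tm φ X N x ((show B from b) • n)
              map_zero' := by rw [smul_zero, tm_zero]
              map_add' := fun n n' => by rw [smul_add, tm_add] }
          map_zero' := by
            ext n
            exact zero_tm φ X N _
          map_add' := fun x x' => by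
            ext n
            exact add_tm φ X N _ _ _ }
      map_zero' := by
        ext x n
        show tm φ X N x ((0 : B) • n) = 0
        rw [zero_smul, tm_zero]
      map_add' := fun b b' => by
        ext x n
        show tm φ X N x (((show B from b) + (show B from b')) • n) = _
        rw [add_smul, tm_add]
        rfl }
    (fun a b x => by
      ext n
      show tm φ X N x ((φ a * (show B from b)) • n) = tm φ X N (a • x) ((show B from b) • n)
      rw [mul_smul, smul_tm])

lemma fwd₀_tmul (b : B) (x : X) (n : N) :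
    fwd₀ φ X N (b ⊗ₜ[A] x) n = tm φ X N x (b • n) := rfl

/-- the pure tensor `b ⊗ x` of `B ⊗_A X`. -/
noncomputable def et (b : B) (x : X) : (ModuleCat.extendScalars.{u, u, u} φ).obj X := b ⊗ₜ[A] x

lemma smul_et (b b' : B) (x : X) : b • et φ X b' x = et φ X (b * b') x := rfl

lemma fwd₀_et (b : B) (x : X) (n : N) :
    fwd₀ φ X N (et φ X b x) n = tm φ X N x (b • n) := rfl

variable {X} in
lemma ext_induction {motive : (ModuleCat.extendScalars.{u, u, u} φ).obj X → Prop}
    (zero : motive 0) (tmul : ∀ (b : B) (x : X), motive (et φ X b x))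
    (add : ∀ e e', motive e → motive e' → motive (e + e')) (e) : motive e :=
  TensorProduct.induction_on e zero tmul add

/-- the forward map `(B ⊗_A X) ⊗_B N → X ⊗_A N`. -/
noncomputable def fwd : L φ X N →+ Rr φ X N :=
  TensorProduct.liftAddHom (R := B) (fwd₀ φ X N) (fun b e n => by
    induction e using ext_induction φ with
    | zero => rw [smul_zero, map_zero, AddMonoidHom.zero_apply, AddMonoidHom.zero_apply]
    | tmul b' x =>
      rw [smul_et, fwd₀_et, fwd₀_et, mul_comm, mul_smul]
    | add e e' he he' =>
      rw [smul_add, map_add, map_add, AddMonoidHom.add_apply, AddMonoidHom.add_apply, he, he'])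

/-- the pure tensor `e ⊗ n`. -/
noncomputable def lt (e : (ModuleCat.extendScalars.{u, u, u} φ).obj X) (n : N) : L φ X N :=
  e ⊗ₜ[B] n

lemma fwd_lt (b : B) (x : X) (n : N) :
    fwd φ X N (lt φ X N (et φ X b x) n) = tm φ X N x (b • n) := rfl

lemma lt_add (e : (ModuleCat.extendScalars.{u, u, u} φ).obj X) (n n' : N) :
    lt φ X N e (n + n') = lt φ X N e n + lt φ X N e n' := TensorProduct.tmul_add _ _ _
lemma lt_zero (e : (ModuleCat.extendScalars.{u, u, u} φ).obj X) : lt φ X N e 0 = 0 :=
  TensorProduct.tmul_zero _ _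
lemma add_lt (e e' : (ModuleCat.extendScalars.{u, u, u} φ).obj X) (n : N) :
    lt φ X N (e + e') n = lt φ X N e n + lt φ X N e' n := TensorProduct.add_tmul _ _ _
lemma zero_lt (n : N) : lt φ X N 0 n = 0 := TensorProduct.zero_tmul _ _
lemma smul_lt (b : B) (e : (ModuleCat.extendScalars.{u, u, u} φ).obj X) (n : N) :
    lt φ X N (b • e) n = lt φ X N e (b • n) := TensorProduct.smul_tmul _ _ _

lemma et_add (b : B) (x x' : X) : et φ X b (x + x') = et φ X b x + et φ X b x' :=
  TensorProduct.tmul_add _ _ _
lemma et_zero (b : B) : et φ X b 0 = 0 := TensorProduct.tmul_zero _ _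
lemma et_smul (a : A) (b : B) (x : X) : et φ X b (a • x) = et φ X (φ a * b) x :=
  (TensorProduct.smul_tmul (R := A)
    (M := (ModuleCat.restrictScalars.{u} φ).obj (ModuleCat.of B B)) (N := X) a b x).symm

/-- the backward map `X ⊗_A N → (B ⊗_A X) ⊗_B N`. -/
noncomputable def bwd : Rr φ X N →+ L φ X N :=
  TensorProduct.liftAddHom (R := A) (M := X) (N := (ModuleCat.restrictScalars.{u} φ).obj N)
    { toFun := fun x =>
        { toFun := fun n => lt φ X N (et φ X 1 x) (show N from n)
          map_zero' := lt_zero φ X N _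
          map_add' := fun n n' => lt_add φ X N _ _ _ }
      map_zero' := by
        ext n
        show lt φ X N (et φ X 1 0) _ = 0
        rw [et_zero, zero_lt]
      map_add' := fun x x' => by
        ext n
        show lt φ X N (et φ X 1 (x + x')) _ = _
        rw [et_add, add_lt]
        rfl }
    (fun a x n => by
      show lt φ X N (et φ X 1 (a • x)) (show N from n) = lt φ X N (et φ X 1 x) (φ a • (show N from n))
      rw [et_smul, mul_one, ← smul_lt, smul_et, mul_one])

lemma bwd_tm (x : X) (n : N) : bwd φ X N (tm φ X N x n) = lt φ X N (et φ X 1 x) n := rfl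

variable {X N} in
lemma L_induction {motive : L φ X N → Prop}
    (zero : motive 0) (tmul : ∀ (b : B) (x : X) (n : N), motive (lt φ X N (et φ X b x) n))
    (add : ∀ e e', motive e → motive e' → motive (e + e')) (e) : motive e := by
  refine TensorProduct.induction_on e zero (fun e n => ?_) add
  induction e using ext_induction φ with
  | zero => rw [TensorProduct.zero_tmul]; exact zero
  | tmul b x => exact tmul b x n
  | add e e' he he' => rw [TensorProduct.add_tmul]; exact add _ _ he he'

variable {X N} in
lemma R_induction {motive : Rr φ X N → Prop}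
    (zero : motive 0) (tmul : ∀ (x : X) (n : N), motive (tm φ X N x n))
    (add : ∀ e e', motive e → motive e' → motive (e + e')) (e) : motive e :=
  TensorProduct.induction_on e zero tmul add

lemma bwd_fwd (e : L φ X N) : bwd φ X N (fwd φ X N e) = e := by
  induction e using L_induction φ with
  | zero => rw [map_zero, map_zero]
  | tmul b x n =>
    rw [fwd_lt, bwd_tm, ← smul_lt, smul_et, mul_one]
  | add e e' he he' => rw [map_add, map_add, he, he']

lemma fwd_bwd (e : Rr φ X N) : fwd φ X N (bwd φ X N e) = e := by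
  induction e using R_induction φ with
  | zero => rw [map_zero, map_zero]
  | tmul x n => rw [bwd_tm, fwd_lt, one_smul]
  | add e e' he he' => rw [map_add, map_add, he, he']

/-- the projection formula as an additive equivalence. -/
noncomputable def equiv : L φ X N ≃+ Rr φ X N :=
  { fwd φ X N with
    invFun := bwd φ X N
    left_inv := bwd_fwd φ X N
    right_inv := fwd_bwd φ X N }

lemma equiv_lt (b : B) (x : X) (n : N) :
    equiv φ X N (lt φ X N (et φ X b x) n) = tm φ X N x (b • n) := rfl

variable {X} in
lemma fwd_nat {X' : ModuleCat.{u} A} (l : X ⟶ X') (e : L φ X N) :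
    fwd φ X' N (((tensorRight N).map ((ModuleCat.extendScalars.{u, u, u} φ).map l)).hom e) =
      ((tensorRight ((ModuleCat.restrictScalars.{u} φ).obj N)).map l).hom (fwd φ X N e) := by
  induction e using L_induction φ with
  | zero => rw [map_zero, map_zero, map_zero, map_zero]
  | tmul b x n => rfl
  | add e e' he he' => rw [map_add, map_add, map_add, map_add, he, he']

end Mod

section Cx

open Groth.Agent.H4.LDer Groth.Agent.H4.FlatAcyc DRing

variable (T : Cx A) (N : ModuleCat.{u} B)

/-- the projection formula preserves and reflects exactness. -/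
theorem exactAt_iff (i : ℤ) :
    ((GC (tensorRight N)).obj ((GC (ModuleCat.extendScalars.{u, u, u} φ)).obj T)).ExactAt i ↔
      ((GC (tensorRight ((ModuleCat.restrictScalars.{u} φ).obj N))).obj T).ExactAt i := by
  constructor
  · intro h
    apply exactAt_of_exact_d _ (i - 1) i (i + 1) (by omega) rfl
    have h' := exact_d_of_exactAt _ (i - 1) i (i + 1) (by omega) rfl h
    refine (Function.Exact.iff_of_ladder_addEquiv (equiv φ (T.X (i - 1)) N) (equiv φ (T.X i) N)
      (equiv φ (T.X (i + 1)) N)
      (f₁₂ := (((GC (tensorRight N)).obj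
        ((GC (ModuleCat.extendScalars.{u, u, u} φ)).obj T)).d (i - 1) i).hom.toAddMonoidHom)
      (f₂₃ := (((GC (tensorRight N)).obj
        ((GC (ModuleCat.extendScalars.{u, u, u} φ)).obj T)).d i (i + 1)).hom.toAddMonoidHom)
      (g₁₂ := (((GC (tensorRight ((ModuleCat.restrictScalars.{u} φ).obj N))).obj T).d
        (i - 1) i).hom.toAddMonoidHom)
      (g₂₃ := (((GC (tensorRight ((ModuleCat.restrictScalars.{u} φ).obj N))).obj T).d
        i (i + 1)).hom.toAddMonoidHom) ?_ ?_).2 h'
    · ext e
      exact (fwd_nat φ N (T.d (i - 1) i) e).symm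
    · ext e
      exact (fwd_nat φ N (T.d i (i + 1)) e).symm
  · intro h
    apply exactAt_of_exact_d _ (i - 1) i (i + 1) (by omega) rfl
    have h' := exact_d_of_exactAt _ (i - 1) i (i + 1) (by omega) rfl h
    refine (Function.Exact.iff_of_ladder_addEquiv (equiv φ (T.X (i - 1)) N) (equiv φ (T.X i) N)
      (equiv φ (T.X (i + 1)) N)
      (f₁₂ := (((GC (tensorRight N)).obj
        ((GC (ModuleCat.extendScalars.{u, u, u} φ)).obj T)).d (i - 1) i).hom.toAddMonoidHom)
      (f₂₃ := (((GC (tensorRight N)).obj
        ((GC (ModuleCat.extendScalars.{u, u, u} φ)).obj T)).d i (i + 1)).hom.toAddMonoidHom)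
      (g₁₂ := (((GC (tensorRight ((ModuleCat.restrictScalars.{u} φ).obj N))).obj T).d
        (i - 1) i).hom.toAddMonoidHom)
      (g₂₃ := (((GC (tensorRight ((ModuleCat.restrictScalars.{u} φ).obj N))).obj T).d
        i (i + 1)).hom.toAddMonoidHom) ?_ ?_).1 h'
    · ext e
      exact (fwd_nat φ N (T.d (i - 1) i) e).symm
    · ext e
      exact (fwd_nat φ N (T.d i (i + 1)) e).symm

end Cx

end Groth.Agent.H4.ProjF
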