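import Mathlib
set_option autoImplicit false
universe u
open TensorProduct

/-!
# Flatness of a cokernel from universal exactness one step to the left
-/

namespace Groth.Agent.H4.TorAmp

variable {R : Type u} [CommRing R]
variable {C₀ C₁ C₂ : Type u} [AddCommGroup C₀] [Module R C₀] [AddCommGroup C₁] [Module R C₁]
  [AddCommGroup C₂] [Module R C₂]

theorem flat_coker (d₀ : C₀ →ₗ[R] C₁) (d₁ : C₁ →ₗ[R] C₂) (hd : d₁ ∘ₗ d₀ = 0) [Module.Flat R C₂]
    (h : ∀ (M : Type u) [AddCommGroup M] [Module R M],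
      Function.Exact (d₀.rTensor M) (d₁.rTensor M)) :
    Module.Flat R (C₂ ⧸ LinearMap.range d₁) := by
  rw [Module.Flat.iff_lTensor_preserves_injective_linearMap]
  intro M' M _ _ _ _ i hi
  set q := (LinearMap.range d₁).mkQ with hq
  have hqs : Function.Surjective q := Submodule.mkQ_surjective _
  have hexq : Function.Exact d₁ q := by
    intro y
    rw [hq, Submodule.mkQ_apply, Submodule.Quotient.mk_eq_zero]
    rfl
  set π := (LinearMap.range i).mkQ with hπ
  have hπs : Function.Surjective π := Submodule.mkQ_surjective _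
  have hexπ : Function.Exact i π := by
    intro y
    rw [hπ, Submodule.mkQ_apply, Submodule.Quotient.mk_eq_zero]
    rfl
  have hπi : π ∘ₗ i = 0 := hexπ.linearMap_comp_eq_zero
  have hqd : q ∘ₗ d₁ = 0 := hexq.linearMap_comp_eq_zero
  rw [injective_iff_map_eq_zero]
  intro x hx
  obtain ⟨y, rfl⟩ := LinearMap.rTensor_surjective M' hqs x
  -- step 2
  have h2 : (q.rTensor M) ((i.lTensor C₂) y) = 0 := by
    rw [← LinearMap.comp_apply, LinearMap.rTensor_comp_lTensor, ← LinearMap.lTensor_comp_rTensor,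
      LinearMap.comp_apply, hx]
  -- step 3
  obtain ⟨z, hz⟩ := (rTensor_exact M hexq hqs _).1 h2
  -- step 4
  have h4 : (d₁.rTensor (M ⧸ LinearMap.range i)) ((π.lTensor C₁) z) = 0 := by
    rw [← LinearMap.comp_apply, LinearMap.rTensor_comp_lTensor, ← LinearMap.lTensor_comp_rTensor,
      LinearMap.comp_apply, hz, ← LinearMap.comp_apply, ← LinearMap.lTensor_comp, hπi,
      LinearMap.lTensor_zero, LinearMap.zero_apply]
  -- step 5
  obtain ⟨w'', hw''⟩ := (h (M ⧸ LinearMap.range i) _).1 h4
  obtain ⟨w, rfl⟩ := LinearMap.lTensor_surjective C₀ hπs w''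
  -- step 6
  have h6 : (π.lTensor C₁) (z - (d₀.rTensor M) w) = 0 := by
    rw [map_sub, ← hw'', ← LinearMap.comp_apply, ← LinearMap.comp_apply,
      LinearMap.rTensor_comp_lTensor, LinearMap.lTensor_comp_rTensor, sub_self]
  obtain ⟨z', hz'⟩ := (lTensor_exact C₁ hexπ hπs _).1 h6
  -- step 7
  have h7 : (i.lTensor C₂) ((d₁.rTensor M') z') = (i.lTensor C₂) y := by
    rw [← LinearMap.comp_apply, LinearMap.lTensor_comp_rTensor, ← LinearMap.rTensor_comp_lTensor,
      LinearMap.comp_apply, hz', map_sub, hz, ← LinearMap.comp_apply, ← LinearMap.rTensor_comp, hd,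
      LinearMap.rTensor_zero, LinearMap.zero_apply, sub_zero]
  have h8 : (d₁.rTensor M') z' = y :=
    Module.Flat.lTensor_preserves_injective_linearMap i hi h7
  rw [← h8, ← LinearMap.comp_apply, ← LinearMap.rTensor_comp, hqd, LinearMap.rTensor_zero,
    LinearMap.zero_apply]

end Groth.Agent.H4.TorAmp
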