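import Mathlib
import Groth.Agent.H4.TorAmp1
import Groth.Agent.H4.LDer5
set_option autoImplicit false
universe u
open CategoryTheory CategoryTheory.Limits MonoidalCategory

namespace Groth.Agent.H4.TorAmp

attribute [local instance] HasDerivedCategory.standard

open DerivedCategory DRing Groth.Agent.H4.PC Groth.Agent.H4.ResP Groth.Agent.H4.DRing1 Groth.Agent.H4.LDer

variable {R : Type u} [CommRing R]

/-- the opcycles of a complex of modules are the quotient by the image of the differential. -/
noncomputable def opcyclesIso (P : Cx R) (i j : ℤ) (hij : i + 1 = j) :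
    P.opcycles j ≅ ModuleCat.of R (P.X j ⧸ LinearMap.range (P.d i j).hom) :=
  IsColimit.coconePointUniqueUpToIso (P.opcyclesIsCokernel i j (by simp; omega))
    (ModuleCat.cokernelIsColimit (P.d i j))

/-- a complex `P` of flat modules, vanishing above `b`, exact in degrees `< a` universally (after tensoring
with any module) in degree `a - 1`, has tor amplitude in `[a, b]`. -/
theorem hasTorAmp_of_exactAt (P : Cx R) (a b : ℤ) (hP : IsBAFlat b P)
    (h1 : ∀ i : ℤ, i < a → P.ExactAt i)
    (h2 : ∀ (M : ModuleCat.{u} R), ((GC (tensorRight M)).obj P).ExactAt (a - 1)) :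
    HasTorAmplitudeIn R a b (toD P) := by
  haveI : P.IsGE a := by rw [CochainComplex.isGE_iff]; exact h1
  have hflat : Module.Flat R (P.opcycles a) := by
    haveI := hP.2 a
    haveI : Module.Flat R (P.X a ⧸ LinearMap.range (P.d (a - 1) a).hom) := by
      apply flat_coker (P.d (a - 2) (a - 1)).hom (P.d (a - 1) a).hom
      · rw [← ModuleCat.hom_comp, P.d_comp_d]; rfl
      · intro M _ _
        have := h2 (ModuleCat.of R M)
        exact FlatAcyc.exact_d_of_exactAt _ (a - 2) (a - 1) a (by omega) (by omega) this
    exact Module.Flat.of_linearEquiv (opcyclesIso P (a - 1) a (by omega)).toLinearEquiv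
  refine ⟨P.truncGE a, ?_, ?_, ⟨(asIso (Q.map (P.πTruncGE a))).symm⟩⟩
  · intro i hi
    rcases hi with hi | hi
    · exact (P.truncGE a).isZero_of_isStrictlyGE a i hi
    · by_cases hia : a < i
      · exact (hP.1 i hi).of_iso (P.truncGEXIso a i hia)
      · by_cases hia' : i < a
        · exact (P.truncGE a).isZero_of_isStrictlyGE a i hia'
        · obtain rfl : i = a := by omega
          refine IsZero.of_iso ?_ (P.truncGEXIsoOpcycles i)
          rw [IsZero.iff_id_eq_zero, ← cancel_epi (P.pOpcycles i)]
          exact (hP.1 i hi).eq_of_src _ _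
  · intro i
    by_cases hia : a < i
    · haveI := hP.2 i
      exact Module.Flat.of_linearEquiv (P.truncGEXIso a i hia).toLinearEquiv
    · by_cases hia' : i < a
      · haveI := ModuleCat.subsingleton_of_isZero ((P.truncGE a).isZero_of_isStrictlyGE a i hia')
        infer_instance
      · obtain rfl : i = a := by omega
        exact Module.Flat.of_linearEquiv (P.truncGEXIsoOpcycles i).toLinearEquiv

end Groth.Agent.H4.TorAmp
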