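import Mathlib
import Groth.Agent.H4.TorAmp2
import Groth.Agent.H4.LDer6
set_option autoImplicit false
universe u
open CategoryTheory CategoryTheory.Limits CategoryTheory.Pretriangulated MonoidalCategory

namespace Groth.Agent.H4.TorAmp

attribute [local instance] HasDerivedCategory.standard

open DerivedCategory DRing Groth.Agent.H4.PC Groth.Agent.H4.ResP Groth.Agent.H4.DRing1 Groth.Agent.H4.LDer

variable {R : Type u} [CommRing R]

lemma hasTorAmp_of_iso {a b : ℤ} {K K' : Dual.D R} (e : K ≅ K') (h : HasTorAmplitudeIn R a b K) :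
    HasTorAmplitudeIn R a b K' := by
  obtain ⟨E, h1, h2, ⟨e'⟩⟩ := h
  exact ⟨E, h1, h2, ⟨e' ≪≫ e⟩⟩

lemma hasTorAmp_mono {a b a' b' : ℤ} (ha : a' ≤ a) (hb : b ≤ b') {K : Dual.D R}
    (h : HasTorAmplitudeIn R a b K) : HasTorAmplitudeIn R a' b' K := by
  obtain ⟨E, h1, h2, ⟨e'⟩⟩ := h
  exact ⟨E, fun i hi => h1 i (by omega), h2, ⟨e'⟩⟩

lemma isLE_of_hasTorAmp {a b : ℤ} {K : Dual.D R} (h : HasTorAmplitudeIn R a b K) : K.IsLE b := by
  obtain ⟨E, h1, h2, ⟨e'⟩⟩ := h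
  rw [isLE_iff]
  intro i hi
  exact (isZero_homology_toD_of_isZero E i (h1 i (Or.inr hi))).of_iso
    ((homologyFunctor (ModuleCat.{u} R) i).mapIso e'.symm)

variable [∀ M : ModuleCat.{u} R, (Gh (tensorRight M)).HasLeftDerivedFunctor (WA R)]

/-- tor amplitude in `[a, b]` is equivalent to the vanishing of `H^i(K ⊗^L M)` for `i ∉ [a, b]`. -/
theorem hasTorAmp_iff (K : Dual.D R) (a b : ℤ) :
    HasTorAmplitudeIn R a b K ↔
      ∀ (M : ModuleCat.{u} R) (i : ℤ), (i < a ∨ b < i) → HV (tensorRight M) K i := by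
  constructor
  · rintro ⟨F, hz, hfl, ⟨e⟩⟩ M i hi
    have hF : IsBAFlat b F := ⟨fun i hi => hz i (Or.inr hi), hfl⟩
    have e' := isoOfFlat (flatExact_tensorRight M) hF e
    have h0 : Limits.IsZero (((GC (tensorRight M)).obj F).X i) := (tensorRight M).map_isZero (hz i hi)
    have h1 := isZero_homology_toD_of_isZero _ i h0
    exact h1.of_iso ((homologyFunctor (ModuleCat.{u} R) i).mapIso e')
  · intro h
    have hK : ∀ i : ℤ, (i < a ∨ b < i) → Limits.IsZero ((homologyFunctor (ModuleCat.{u} R) i).obj K) := by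
      intro i hi
      exact (h (𝟙_ (ModuleCat.{u} R)) i hi).of_iso
        ((homologyFunctor (ModuleCat.{u} R) i).mapIso (LGUnitIso R K).symm)
    haveI : K.IsLE b := by rw [isLE_iff]; exact fun i hi => hK i (Or.inr hi)
    obtain ⟨P, hP, ⟨e⟩⟩ := exists_iso_of_isLE K b
    haveI := hP.isKProjective
    have h1 : ∀ i : ℤ, i < a → P.ExactAt i := by
      intro i hi
      rw [HomologicalComplex.exactAt_iff_isZero_homology]
      exact ((hK i (Or.inl hi)).of_iso ((homologyFunctor (ModuleCat.{u} R) i).mapIso e)).of_iso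
        (homologyToDIso P i).symm
    have h2 : ∀ (M : ModuleCat.{u} R), ((GC (tensorRight M)).obj P).ExactAt (a - 1) := by
      intro M
      rw [HomologicalComplex.exactAt_iff_isZero_homology]
      exact ((h M (a - 1) (Or.inl (by omega))).of_iso ((homologyFunctor (ModuleCat.{u} R) (a - 1)).mapIso
        (isoOfIso (tensorRight M) P e).symm)).of_iso (homologyToDIso _ (a - 1)).symm
    exact hasTorAmp_of_iso e (hasTorAmp_of_exactAt P a b hP.isBAFlat h1 h2)

theorem hasTorAmp_obj₃ (T : Triangle (Dual.D R)) (hT : T ∈ distinguishedTriangles) (a b : ℤ)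
    (h₁ : HasTorAmplitudeIn R (a + 1) (b + 1) T.obj₁) (h₂ : HasTorAmplitudeIn R a b T.obj₂) :
    HasTorAmplitudeIn R a b T.obj₃ := by
  haveI : T.obj₁.IsLE (b + 1) := isLE_of_hasTorAmp h₁
  haveI : T.obj₂.IsLE (b + 1) := isLE_of_hasTorAmp (hasTorAmp_mono le_rfl (by omega) h₂)
  rw [hasTorAmp_iff] at h₁ h₂ ⊢
  intro M i hi
  exact HV_obj₃ T hT (b + 1) i (h₂ M i hi) (h₁ M (i + 1) (by omega))

theorem hasTorAmp_obj₂ (T : Triangle (Dual.D R)) (hT : T ∈ distinguishedTriangles) (a b : ℤ)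
    (h₁ : HasTorAmplitudeIn R a b T.obj₁) (h₃ : HasTorAmplitudeIn R a b T.obj₃) :
    HasTorAmplitudeIn R a b T.obj₂ := by
  haveI : T.obj₁.IsLE b := isLE_of_hasTorAmp h₁
  haveI : T.obj₃.IsLE b := isLE_of_hasTorAmp h₃
  haveI : T.obj₂.IsLE b := TStructure.t.isLE₂ T hT b inferInstance inferInstance
  rw [hasTorAmp_iff] at h₁ h₃ ⊢
  intro M i hi
  exact HV_obj₂ T hT b i (h₁ M i hi) (h₃ M i hi)

theorem hasTorAmp_obj₁ (T : Triangle (Dual.D R)) (hT : T ∈ distinguishedTriangles) (a b : ℤ)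
    (h₂ : HasTorAmplitudeIn R (a + 1) (b + 1) T.obj₂) (h₃ : HasTorAmplitudeIn R a b T.obj₃) :
    HasTorAmplitudeIn R (a + 1) (b + 1) T.obj₁ := by
  haveI : T.obj₂.IsLE (b + 1) := isLE_of_hasTorAmp h₂
  haveI : T.obj₃.IsLE b := isLE_of_hasTorAmp h₃
  haveI : T.obj₁.IsLE (b + 1) := by
    have hT' := inv_rot_of_distTriang _ hT
    have h1 : (T.invRotate.obj₁).IsLE (b + 1) := by
      change (T.obj₃⟦(-1 : ℤ)⟧).IsLE (b + 1)
      exact TStructure.t.isLE_shift T.obj₃ b (-1) (b + 1) (by omega)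
    have h3 : (T.invRotate.obj₃).IsLE (b + 1) := (inferInstance : T.obj₂.IsLE (b + 1))
    exact TStructure.t.isLE₂ T.invRotate hT' (b + 1) h1 h3
  rw [hasTorAmp_iff] at h₂ h₃ ⊢
  intro M i hi
  exact HV_obj₁ T hT (b + 1) i (h₃ M (i - 1) (by omega)) (h₂ M i hi)

end Groth.Agent.H4.TorAmp
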