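import Mathlib
import Groth.Agent.H4.ProjF
import Groth.Agent.H4.TorAmp3

set_option autoImplicit false
universe u
open CategoryTheory CategoryTheory.Limits MonoidalCategory

/-!
# Vanishing of `H^i(K ⊗^L M)` computed on a K-projective termwise flat representative
-/

namespace Groth.Agent.H4.TV

attribute [local instance] HasDerivedCategory.standard

open DerivedCategory DRing Groth.Agent.H4.LDer Groth.Agent.H4.PC Groth.Agent.H4.BC

variable {A : Type u} [CommRing A]

/-- exactness of `T ⊗ M` in degree `i`. -/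
def TV (T : Cx A) (M : ModuleCat.{u} A) (i : ℤ) : Prop :=
  ((GC (tensorRight M)).obj T).ExactAt i

lemma tensMap_id (T : Cx A) (M : ModuleCat.{u} A) : tensMap T (𝟙 M) = 𝟙 _ := by
  ext i : 1
  rw [tensMap_f]
  exact MonoidalCategory.whiskerLeft_id _ _

lemma tensMap_comp (T : Cx A) {M₁ M₂ M₃ : ModuleCat.{u} A} (f : M₁ ⟶ M₂) (g : M₂ ⟶ M₃) :
    tensMap T (f ≫ g) = tensMap T f ≫ tensMap T g := by
  ext i : 1
  rw [HomologicalComplex.comp_f, tensMap_f, tensMap_f, tensMap_f]
  exact MonoidalCategory.whiskerLeft_comp _ _ _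

/-- `T ⊗ M ≅ T ⊗ M'` for `M ≅ M'`. -/
noncomputable def tensIso (T : Cx A) {M M' : ModuleCat.{u} A} (e : M ≅ M') :
    (GC (tensorRight M)).obj T ≅ (GC (tensorRight M')).obj T where
  hom := tensMap T e.hom
  inv := tensMap T e.inv
  hom_inv_id := by rw [← tensMap_comp, e.hom_inv_id, tensMap_id]
  inv_hom_id := by rw [← tensMap_comp, e.inv_hom_id, tensMap_id]

lemma exactAt_of_iso {C C' : Cx A} (e : C ≅ C') (i : ℤ) (h : C.ExactAt i) : C'.ExactAt i := by
  rw [HomologicalComplex.exactAt_iff_isZero_homology] at h ⊢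
  exact h.of_iso ((HomologicalComplex.homologyFunctor _ _ i).mapIso e.symm)

lemma TV_of_iso (T : Cx A) {M M' : ModuleCat.{u} A} (e : M ≅ M') (i : ℤ) (h : TV T M i) :
    TV T M' i := exactAt_of_iso (tensIso T e) i h

theorem TV_of_shortExact (T : Cx A) (hT : ∀ i, Module.Flat A (T.X i))
    (S : ShortComplex (ModuleCat.{u} A)) (hS : S.ShortExact) (i : ℤ)
    (h₁ : TV T S.X₁ i) (h₃ : TV T S.X₃ i) : TV T S.X₂ i := by
  have hS' := shortExact_tens T hT S hS
  unfold TV at *
  rw [HomologicalComplex.exactAt_iff_isZero_homology] at h₁ h₃ ⊢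
  exact (hS'.homology_exact₂ i).isZero_of_both_zeros (h₁.eq_of_src _ _) (h₃.eq_of_tgt _ _)

theorem TV_restrict_iff {B : Type u} [CommRing B] (φ : A →+* B) (T : Cx A) (N : ModuleCat.{u} B)
    (i : ℤ) : TV ((GC (ModuleCat.extendScalars.{u, u, u} φ)).obj T) N i ↔
      TV T ((ModuleCat.restrictScalars.{u} φ).obj N) i :=
  Groth.Agent.H4.ProjF.exactAt_iff φ T N i

section

variable [∀ M : ModuleCat.{u} A, (Gh (tensorRight M)).HasLeftDerivedFunctor (WA A)]

theorem HV_iff_TV {K : Dual.D A} (T : Cx A) [T.IsKProjective] (e : toD T ≅ K)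
    (M : ModuleCat.{u} A) (i : ℤ) : HV (tensorRight M) K i ↔ TV T M i := by
  have e1 := isoOfIso (tensorRight M) T e
  have e2 := (homologyFunctor (ModuleCat.{u} A) i).mapIso e1 ≪≫
    (homologyFunctorFactors (ModuleCat.{u} A) i).app _
  unfold TV
  rw [HomologicalComplex.exactAt_iff_isZero_homology]
  exact ⟨fun h => h.of_iso e2.symm, fun h => h.of_iso e2⟩

end

end Groth.Agent.H4.TV
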