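import Mathlib
import Groth.Agent.H4.TV
import Groth.Agent.H4.NilInd
import Groth.Agent.H4.KProj8
import Groth.Agent.S6948

set_option autoImplicit false
universe u
open CategoryTheory CategoryTheory.Limits MonoidalCategory

/-!
# Derived base change along a surjection with nilpotent kernel detects vanishing of `H^i(K ⊗^L M)`
-/

namespace Groth.Agent.H4.Nilp

attribute [local instance] HasDerivedCategory.standard

open DerivedCategory DRing Groth.Agent.H4.LDer Groth.Agent.H4.PC Groth.Agent.H4.BC Groth.Agent.H4.TV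

variable {R' R : Type u} [CommRing R'] [CommRing R] (φ : R' →+* R)

/-- if `H^i((K' ⊗^L R) ⊗^L_R N) = 0` for all `R`-modules `N` then `H^i(K' ⊗^L_{R'} M') = 0` for all
`R'`-modules `M'`, when `R' → R` is surjective with nilpotent kernel. -/
theorem HV_of_HV_LBaseChange (hφ : Function.Surjective φ) (hnil : IsNilpotent (RingHom.ker φ))
    [DRing.HasLBaseChange φ]
    [∀ M : ModuleCat.{u} R', (Gh (tensorRight M)).HasLeftDerivedFunctor (WA R')]
    [∀ M : ModuleCat.{u} R, (Gh (tensorRight M)).HasLeftDerivedFunctor (WA R)]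
    (K' : Dual.D R') (i : ℤ)
    (h : ∀ N : ModuleCat.{u} R, HV (tensorRight N) ((DRing.LBaseChange φ).obj K') i)
    (M' : ModuleCat.{u} R') : HV (tensorRight M') K' i := by
  obtain ⟨T, hT, hf, ⟨e⟩⟩ := Groth.Agent.H4.KProj.exists_kproj_free_iso K'
  have hfl : ∀ i, Module.Flat R' (T.X i) := fun i => by haveI := hf i; infer_instance
  rw [HV_iff_TV T e]
  obtain ⟨n, hn⟩ := hnil
  refine Groth.Agent.H4.NilInd.induction_of_pow_smul_eq_bot (RingHom.ker φ) (fun M => TV T M i)
    ?_ ?_ n M' (by rw [hn]; exact Submodule.bot_smul _)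
  · intro M hM
    obtain ⟨N, ⟨eN⟩⟩ := Groth.Agent.H4.NilInd.exists_iso_restrictScalars_of_killed φ hφ M hM
    refine TV_of_iso T eN i ?_
    rw [← TV_restrict_iff]
    have e' : toD ((GC (ModuleCat.extendScalars.{u, u, u} φ)).obj T) ≅
        (DRing.LBaseChange φ).obj K' := (isoOfIso (ModuleCat.extendScalars.{u, u, u} φ) T e).symm
    exact (HV_iff_TV _ e' N i).1 (h N)
  · intro S hS h₁ h₃
    exact TV_of_shortExact T hfl S hS i h₁ h₃

end Groth.Agent.H4.Nilp
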