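import Mathlib
import Groth.Agent.H4.Nilp1
import Groth.Agent.H4.DCompl6
set_option autoImplicit false
universe u
open CategoryTheory CategoryTheory.Limits MonoidalCategory

namespace Groth.Agent.H4.DNak1

attribute [local instance] HasDerivedCategory.standard

open DerivedCategory DRing Groth.Agent.H4.LDer Groth.Agent.H4.PC Groth.Agent.H4.BC Groth.Agent.H4.TV

section KP

variable {C D : Type (u + 1)} [Category.{u} C] [Abelian C] [Category.{u} D] [Abelian D]

/-- a K-projective complex that is cohomologically `≤ b` is a homotopy retract of its canonical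
truncation; hence any additive functor applied termwise keeps it cohomologically `≤ b`. -/
theorem exactAt_map_of_isKProjective (X : CochainComplex C ℤ) [X.IsKProjective] (b : ℤ) [X.IsLE b]
    (R : C ⥤ D) [R.Additive] (i : ℤ) (hi : b < i) :
    ((R.mapHomologicalComplex (ComplexShape.up ℤ)).obj X).ExactAt i := by
  let Tr := X.truncLE b
  let ι : Tr ⟶ X := X.ιTruncLE b
  haveI : QuasiIso ι := inferInstance
  let q := HomotopyCategory.quotient C (ComplexShape.up ℤ)
  haveI : IsIso (Q.map ι) := by
    rw [isIso_Q_map_iff_quasiIso]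
    infer_instance
  haveI : IsIso (Qh.map (q.map ι)) := by
    have : Qh.map (q.map ι) = (quotientCompQhIso C).hom.app Tr ≫ Q.map ι ≫
        (quotientCompQhIso C).inv.app X := by
      rw [← quotientCompQhIso_hom_naturality_assoc]
      simp
      rfl
    rw [this]
    infer_instance
  obtain ⟨g, hg⟩ := (CochainComplex.IsKProjective.Qh_map_bijective X (q.obj Tr)).2
    (inv (Qh.map (q.map ι)))
  have hgk : g ≫ q.map ι = 𝟙 (q.obj X) := by
    apply (CochainComplex.IsKProjective.Qh_map_bijective X (q.obj X)).1
    rw [Functor.map_comp, hg, IsIso.inv_hom_id, CategoryTheory.Functor.map_id]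
  obtain ⟨s, rfl⟩ := q.map_surjective g
  rw [← Functor.map_comp, ← CategoryTheory.Functor.map_id] at hgk
  have H : Homotopy (s ≫ ι) (𝟙 X) := HomotopyCategory.homotopyOfEq _ _ hgk
  have H' := R.mapHomotopy H
  have h1 := H'.homologyMap_eq i
  rw [HomologicalComplex.exactAt_iff_isZero_homology, IsZero.iff_id_eq_zero]
  rw [← HomologicalComplex.homologyMap_id, ← (R.mapHomologicalComplex (ComplexShape.up ℤ)).map_id,
    ← h1, Functor.map_comp, HomologicalComplex.homologyMap_comp]
  have hz : IsZero (((R.mapHomologicalComplex (ComplexShape.up ℤ)).obj Tr).homology i) := by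
    have hz0 : IsZero (Tr.X i) := CochainComplex.isZero_of_isStrictlyLE Tr b i hi
    have hz1 : IsZero (((R.mapHomologicalComplex (ComplexShape.up ℤ)).obj Tr).X i) :=
      R.map_isZero hz0
    exact (HomologicalComplex.exactAt_iff_isZero_homology _ _).1
      (HomologicalComplex.ExactAt.of_isZero hz1)
  rw [hz.eq_of_tgt (HomologicalComplex.homologyMap ((R.mapHomologicalComplex _).map s) i) 0, zero_comp]

end KP

section F2

variable {A : Type u} [CommRing A]

/-- modules killed by an ideal. -/
def Killed (J : Ideal A) (N : ModuleCat.{u} A) : Prop := ∀ a ∈ J, ∀ x : N, a • x = 0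

/-- `A/I` as the restriction of the unit object of `A/I`-modules. -/
noncomputable def quotIso (I : Ideal A) :
    (ModuleCat.restrictScalars.{u} (Ideal.Quotient.mk I)).obj (𝟙_ (ModuleCat.{u} (A ⧸ I))) ≅
      ModuleCat.of A (A ⧸ I) := by
  let e' : ((ModuleCat.restrictScalars.{u} (Ideal.Quotient.mk I)).obj
      (𝟙_ (ModuleCat.{u} (A ⧸ I)))) ≃ₗ[A] (ModuleCat.of A (A ⧸ I)) :=
    { toFun := fun x => x
      invFun := fun x => x
      map_add' := fun _ _ => rfl
      map_smul' := fun a x => rfl
      left_inv := fun _ => rfl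
      right_inv := fun _ => rfl }
  exact e'.toModuleIso

/-- **Vanishing of `H^i(P ⊗ N)` above `b` for all modules killed by `I`, from the case `A/I`**
(for `P` K-projective). -/
theorem TV_of_killed (I : Ideal A) (P : Cx A) [P.IsKProjective] (b : ℤ)
    (h : ∀ i : ℤ, b < i → TV P (ModuleCat.of A (A ⧸ I)) i) (N : ModuleCat.{u} A)
    (hN : Killed I N) (i : ℤ) (hi : b < i) : TV P N i := by
  let φ : A →+* A ⧸ I := Ideal.Quotient.mk I
  have hφ : Function.Surjective φ := Ideal.Quotient.mk_surjective
  let PB := (GC (ModuleCat.extendScalars.{u, u, u} φ)).obj P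
  haveI : PB.IsKProjective := isKProjective_extendScalars φ P
  have h1 : ∀ j : ℤ, b < j → PB.ExactAt j := by
    intro j hj
    have h2 : TV PB (𝟙_ (ModuleCat.{u} (A ⧸ I))) j := by
      rw [TV_restrict_iff]
      exact TV_of_iso P (quotIso I).symm j (h j hj)
    exact exactAt_of_iso (GCUnitIso (A ⧸ I) PB) j h2
  haveI : PB.IsLE b := by
    rw [CochainComplex.isLE_iff]
    exact h1
  obtain ⟨N', ⟨eN⟩⟩ := Groth.Agent.H4.NilInd.exists_iso_restrictScalars_of_killed φ hφ N (by
    intro a ha x
    rw [Ideal.mk_ker] at ha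
    exact hN a ha x)
  have h3 : TV PB N' i := exactAt_map_of_isKProjective PB b (tensorRight N') i hi
  rw [TV_restrict_iff] at h3
  exact TV_of_iso P eN i h3

end F2

end Groth.Agent.H4.DNak1
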