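import Mathlib
import Groth.Agent.H4.DNak1
set_option autoImplicit false
universe u
open CategoryTheory CategoryTheory.Limits MonoidalCategory CategoryTheory.Pretriangulated

namespace Groth.Agent.H4.DNak2

attribute [local instance] HasDerivedCategory.standard

open DerivedCategory DRing Groth.Agent.H4.LDer Groth.Agent.H4.PC Groth.Agent.H4.BC Groth.Agent.H4.TV
  Groth.Agent.H4.DNak1

variable {A : Type u} [CommRing A]

/-- classes of objects closed under isomorphisms, `[1]` and extensions. -/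
structure IsExtCl (Pr : Dual.D A → Prop) : Prop where
  iso : ∀ {K K' : Dual.D A}, (K ≅ K') → Pr K → Pr K'
  shift1 : ∀ K : Dual.D A, Pr K → Pr (K⟦(1 : ℤ)⟧)
  ext₂ : ∀ T : Triangle (Dual.D A), T ∈ distinguishedTriangles → Pr T.obj₁ → Pr T.obj₃ → Pr T.obj₂

lemma isExtCl_isZero : IsExtCl (fun K : Dual.D A => IsZero K) where
  iso e h := h.of_iso e.symm
  shift1 K h := (shiftFunctor (Dual.D A) (1 : ℤ)).map_isZero h
  ext₂ T hT h1 h3 := by
    rw [IsZero.iff_id_eq_zero]
    obtain ⟨g, hg⟩ := Triangle.coyoneda_exact₂ T hT (𝟙 T.obj₂) (h3.eq_of_tgt _ _)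
    rw [hg, h1.eq_of_tgt g 0, zero_comp]

lemma isExtCl_isLE (b : ℤ) : IsExtCl (fun K : Dual.D A => K.IsLE b) where
  iso e h := by
    haveI := h
    exact TStructure.t.isLE_of_iso e b
  shift1 K h := by
    haveI := h
    haveI : (K⟦(1 : ℤ)⟧).IsLE (b - 1) := TStructure.t.isLE_shift K b 1 (b - 1) (by omega)
    exact TStructure.t.isLE_of_le _ (b - 1) b (by omega)
  ext₂ T hT h1 h3 := TStructure.t.isLE₂ T hT b h1 h3

/-- `K ⊗^L N` computed on the complex `P`. -/
noncomputable abbrev XN (P : Cx A) (N : ModuleCat.{u} A) : Dual.D A :=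
  Q.obj ((GC (tensorRight N)).obj P)

/-- the cone of multiplication by `f`. -/
noncomputable abbrev Kf (f : A) (E : Cx A) : Cx A := CochainComplex.mappingCone (f • 𝟙 E)

lemma tensMap_smul (P : Cx A) (N : ModuleCat.{u} A) (f : A) :
    tensMap P (f • 𝟙 N) = f • 𝟙 _ := by
  ext i : 1
  rw [tensMap_f]
  simp
  rfl

variable (P : Cx A) (hfl : ∀ i, Module.Flat A (P.X i))

include hfl in
/-- **Lemma A**: the cone of `f` on `P ⊗ N` is an extension of `P ⊗ N/fN` by `(P ⊗ N[f])[1]`. -/
theorem Pr_cone_of_ker_coker {Pr : Dual.D A → Prop} (hPr : IsExtCl Pr) (f : A) (N : ModuleCat.{u} A)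
    (hker : Pr (XN P (ModuleCat.of A (LinearMap.ker (f • (LinearMap.id : N →ₗ[A] N))))))
    (hcoker : Pr (XN P (ModuleCat.of A
      (N ⧸ LinearMap.range (f • (LinearMap.id : N →ₗ[A] N)))))) :
    Pr (Q.obj (Kf f ((GC (tensorRight N)).obj P))) := by
  let fN : N →ₗ[A] N := f • LinearMap.id
  let R := LinearMap.range fN
  let p : N →ₗ[A] R := fN.rangeRestrict
  have hp : Function.Surjective p := LinearMap.surjective_rangeRestrict fN
  -- first sequence
  let S1 : ShortComplex (ModuleCat.{u} A) := p.shortComplexKer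
  have hS1 : S1.ShortExact := LinearMap.shortExact_shortComplexKer hp
  -- second sequence
  let S2 : ShortComplex (ModuleCat.{u} A) :=
    ShortComplex.mk (ModuleCat.ofHom R.subtype) (ModuleCat.ofHom R.mkQ) (by
      ext x
      simp)
  have hS2 : S2.ShortExact := ModuleCat.shortComplex_shortExact S2
    (LinearMap.exact_subtype_mkQ R) R.injective_subtype R.mkQ_surjective
  have hT1 := DerivedCategory.triangleOfSES_distinguished (shortExact_tens P hfl S1 hS1)
  have hT2 := DerivedCategory.triangleOfSES_distinguished (shortExact_tens P hfl S2 hS2)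
  have hT3 := DerivedCategory.mappingCone_triangle_distinguished
    (f • 𝟙 ((GC (tensorRight N)).obj P))
  have hT1' := rot_of_distTriang _ hT1
  have comm : Q.map (tensMap P S1.g) ≫ Q.map (tensMap P S2.f) =
      Q.map (f • 𝟙 ((GC (tensorRight N)).obj P)) := by
    rw [← Q.map_comp, ← tensMap_comp, ← tensMap_smul]
    congr 2
  have hker' : Pr ((XN P S1.X₁)⟦(1 : ℤ)⟧) := by
    apply hPr.shift1
    have e : S1.X₁ ≅ ModuleCat.of A (LinearMap.ker fN) :=
      (LinearEquiv.ofEq _ _ (LinearMap.ker_rangeRestrict fN)).toModuleIso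
    exact hPr.iso (Q.mapIso (tensIso P e.symm)) hker
  have H := Triangulated.someOctahedron comm hT1' hT2 hT3
  exact hPr.ext₂ _ H.mem hker' hcoker

omit hfl in
/-- **Lemma C**: tensoring commutes with the cone of `f`. -/
lemma Pr_XN_Kf {Pr : Dual.D A → Prop} (hPr : IsExtCl Pr) (f : A) (N : ModuleCat.{u} A)
    (h : Pr (Q.obj (Kf f ((GC (tensorRight N)).obj P)))) : Pr (XN (Kf f P) N) := by
  have e := CochainComplex.mappingCone.mapHomologicalComplexIso (f • 𝟙 P) (tensorRight N)
  have h1 : (GC (tensorRight N)).map (f • 𝟙 P) = f • 𝟙 _ := by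
    ext i : 1
    simp
  rw [h1] at e
  exact hPr.iso (Q.mapIso e.symm) h

/-- the vanishing class: `Pr (P ⊗ N)` for all `N` killed by `J`. -/
def Z (Pr : Dual.D A → Prop) (P : Cx A) (J : Ideal A) : Prop :=
  ∀ N : ModuleCat.{u} A, Killed J N → Pr (XN P N)

include hfl in
theorem Z_step {Pr : Dual.D A → Prop} (hPr : IsExtCl Pr) (f : A) (J : Ideal A)
    (h : Z Pr P (J ⊔ Ideal.span {f})) : Z Pr (Kf f P) J := by
  intro N hN
  apply Pr_XN_Kf P hPr f N
  apply Pr_cone_of_ker_coker P hfl hPr f N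
  · apply h
    intro a ha x
    obtain ⟨j, hj, c, hc, rfl⟩ := Submodule.mem_sup.1 ha
    obtain ⟨d, rfl⟩ := Ideal.mem_span_singleton'.1 hc
    apply Subtype.ext
    have hx : f • (x : N) = 0 := x.2
    change (j + d * f) • (x : N) = 0
    rw [add_smul, hN j hj, mul_smul, hx, smul_zero, add_zero]
  · apply h
    intro a ha x
    obtain ⟨j, hj, c, hc, rfl⟩ := Submodule.mem_sup.1 ha
    obtain ⟨d, rfl⟩ := Ideal.mem_span_singleton'.1 hc
    obtain ⟨y, rfl⟩ := Submodule.mkQ_surjective _ x
    change Submodule.mkQ _ ((j + d * f) • y) = 0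
    rw [Submodule.mkQ_apply, Submodule.Quotient.mk_eq_zero, add_smul, hN j hj, zero_add, mul_smul]
    exact ⟨d • y, by simp⟩

/-- iterated cones. -/
noncomputable def KosL : List A → Cx A → Cx A
  | [], E => E
  | f :: fs, E => KosL fs (Kf f E)

omit hfl in
theorem Pr_KosL {Pr : Dual.D A → Prop} (hPr : IsExtCl Pr) : ∀ (fs : List A) (P : Cx A),
    (∀ i, Module.Free A (P.X i)) → Z Pr P (Ideal.span {x | x ∈ fs}) → Pr (Q.obj (KosL fs P)) := by
  intro fs
  induction fs with
  | nil =>
    intro P _ h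
    have h1 : Pr (XN P (𝟙_ (ModuleCat.{u} A))) := h _ (by
      intro a ha x
      have : a = 0 := by simpa using ha
      rw [this, zero_smul])
    exact hPr.iso (Q.mapIso (GCUnitIso A P)) h1
  | cons f fs ih =>
    intro P hfree h
    have hfl : ∀ i, Module.Flat A (P.X i) := fun i => by haveI := hfree i; infer_instance
    apply ih (Kf f P)
    · exact fun i => Groth.Agent.H4.KProj.free_mappingCone_X _ hfree hfree i
    · apply Z_step P hfl hPr f
      have : Ideal.span {x | x ∈ f :: fs} = Ideal.span {x | x ∈ fs} ⊔ Ideal.span {f} := by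
        rw [← Ideal.span_union]
        congr 1
        ext x
        simp
      rw [← this]
      exact h

end Groth.Agent.H4.DNak2
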