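import Mathlib
import Groth.Agent.H4.DNak2
import Groth.Agent.H4.DComp11
import Groth.Agent.H4.ResP2
set_option autoImplicit false
universe u
open CategoryTheory CategoryTheory.Limits MonoidalCategory CategoryTheory.Pretriangulated

namespace Groth.Agent.H4.DNak3

attribute [local instance] HasDerivedCategory.standard

open DerivedCategory DRing Groth.Agent.H4.LDer Groth.Agent.H4.PC Groth.Agent.H4.BC Groth.Agent.H4.TV
  Groth.Agent.H4.DNak1 Groth.Agent.H4.DNak2 Groth.Agent.H4.DComp Groth.Agent.H4.DCompl1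
  Groth.Agent.H4.DCompl2 Groth.Agent.H4.DThick Groth.Agent.H4.DCompl3

variable {A : Type u} [CommRing A]

/-- the distinguished triangle of the cone of `f`. -/
lemma exists_Kf_triangle (f : A) (E : Cx A) :
    ∃ (g : Q.obj E ⟶ Q.obj (Kf f E)) (h : Q.obj (Kf f E) ⟶ (Q.obj E)⟦(1 : ℤ)⟧),
      Triangle.mk (f • 𝟙 (Q.obj E)) g h ∈ distinguishedTriangles := by
  have hT := DerivedCategory.mappingCone_triangle_distinguished (f • 𝟙 E)
  have h1 : f • 𝟙 (Q.obj E) = Q.map (f • 𝟙 E) := by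
    rw [Functor.map_smul, CategoryTheory.Functor.map_id]
  rw [h1]
  exact ⟨_, _, hT⟩

theorem descend {Pr' : Dual.D A → Prop}
    (hstep : ∀ (f : A) (E : Cx A), LO f (Q.obj E) → Pr' (Q.obj (Kf f E)) → Pr' (Q.obj E)) :
    ∀ (fs : List A) (P : Cx A), (∀ f ∈ fs, LO f (Q.obj P)) → Pr' (Q.obj (KosL fs P)) →
      Pr' (Q.obj P) := by
  intro fs
  induction fs with
  | nil => exact fun P _ h => h
  | cons f fs ih =>
    intro P hLO h
    apply hstep f P (hLO f (List.mem_cons_self))
    apply ih (Kf f P) _ h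
    intro g hg
    obtain ⟨m2, m3, hT⟩ := exists_Kf_triangle f P
    have hP := hLO g (List.mem_cons_of_mem f hg)
    exact (isTriSub_LO g).ext₃ _ hT hP hP

lemma hstep_isZero (f : A) (E : Cx A) (hLO : LO f (Q.obj E)) (h : IsZero (Q.obj (Kf f E))) :
    IsZero (Q.obj E) := by
  obtain ⟨m2, m3, hT⟩ := exists_Kf_triangle f E
  have hiso : IsIso (f • 𝟙 (Q.obj E)) := (Triangle.isZero₃_iff_isIso₁ _ hT).1 h
  rw [IsZero.iff_id_eq_zero]
  exact hom_eq_zero_of_FInv f _ _ hiso hLO _

lemma hstep_isLE (b : ℤ) (f : A) (E : Cx A) (hLO : LO f (Q.obj E)) (h : (Q.obj (Kf f E)).IsLE b) :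
    (Q.obj E).IsLE b := by
  obtain ⟨m2, m3, hT⟩ := exists_Kf_triangle f E
  rw [isLE_iff_homG]
  intro c hc
  have hPsi := Psi_bijective_homG f (Q.obj E) hLO c
  have hsurj : ∀ x : G A c ⟶ Q.obj E, ∃ y : G A c ⟶ Q.obj E, x = f • y := by
    intro x
    have h0 : x ≫ m2 = 0 := homG_eq_zero_of_isLE c b hc _ h _
    obtain ⟨y, hy⟩ : ∃ y : G A c ⟶ Q.obj E, x = y ≫ (f • 𝟙 (Q.obj E)) :=
      Triangle.coyoneda_exact₂ _ hT x h0
    refine ⟨y, ?_⟩
    rw [hy, Linear.comp_smul, Category.comp_id]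
  exact ⟨fun x y => (eq_zero_of_smul_surjective f hPsi.1 hsurj x).trans
    (eq_zero_of_smul_surjective f hPsi.1 hsurj y).symm⟩

lemma isZero_Q_of_exactAt (C : Cx A) (h : ∀ i : ℤ, C.ExactAt i) : IsZero (Q.obj C) := by
  haveI : (toD C).IsLE 0 := Groth.Agent.H4.LDer.isLE_of_exactAt C 0 (fun i _ => h i)
  haveI : (toD C).IsGE 1 := by
    rw [isGE_iff]
    intro i _
    exact ((HomologicalComplex.exactAt_iff_isZero_homology _ _).1 (h i)).of_iso
      (homologyToDIso C i)
  exact TStructure.t.isZero (toD C) 0 1 (by omega)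

lemma LO_of_finset (s : Finset A) (K : Dual.D A)
    (hc : IsDerivedComplete (Ideal.span (s : Set A)) K) (P : Cx A) (e : toD P ≅ K) :
    ∀ f ∈ s.toList, LO f (Q.obj P) := by
  intro f hf
  have hf' : f ∈ Ideal.span (s : Set A) := Ideal.subset_span (by simpa using hf)
  exact (isTriSub_LO f).iso e.symm ((isDerivedComplete_iff_LO _ K).1 hc f hf')

lemma span_toList (s : Finset A) : Ideal.span {x | x ∈ s.toList} = Ideal.span (s : Set A) := by
  congr 1
  ext x
  simp

theorem S7055 (I : Ideal A) (hI : I.FG)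
    [DRing.HasLTensor A (ModuleCat.of A (A ⧸ I))]
    (K : Dual.D A) (hc : DRing.IsDerivedComplete I K)
    (h0 : Limits.IsZero ((DRing.LTensor A (ModuleCat.of A (A ⧸ I))).obj K)) : Limits.IsZero K := by
  haveI : ∀ M : ModuleCat.{u} A, (Gh (tensorRight M)).HasLeftDerivedFunctor (WA A) :=
    fun M => Groth.Agent.H4.KProj.hasLTensor M
  obtain ⟨s, rfl⟩ := hI
  obtain ⟨P, hP, hfree, ⟨e⟩⟩ := Groth.Agent.H4.KProj.exists_kproj_free_iso K
  have hTV : ∀ i : ℤ, TV P (ModuleCat.of A (A ⧸ Ideal.span (s : Set A))) i := by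
    intro i
    rw [← HV_iff_TV P e]
    exact (homologyFunctor (ModuleCat.{u} A) i).map_isZero h0
  have hZ : Z (fun K : Dual.D A => IsZero K) P (Ideal.span {x | x ∈ s.toList}) := by
    intro N hN
    rw [span_toList] at hN
    apply isZero_Q_of_exactAt
    intro i
    exact TV_of_killed _ P (i - 1) (fun j _ => hTV j) N hN i (by omega)
  have h1 := Pr_KosL isExtCl_isZero s.toList P hfree hZ
  have h2 := descend (Pr' := fun K : Dual.D A => IsZero K) hstep_isZero s.toList P
    (LO_of_finset s K hc P e) h1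
  exact h2.of_iso e.symm

theorem S7056 (I : Ideal A) (hI : I.FG) [DRing.HasLTensor A (ModuleCat.of A (A ⧸ I))]
    (K : Dual.D A) (hc : DRing.IsDerivedComplete I K) :
    (∀ i : ℤ, 0 < i → Subsingleton (Dual.HD A K i)) ↔
      ∀ i : ℤ, 0 < i → Subsingleton (Dual.HD A ((DRing.LTensor A (ModuleCat.of A (A ⧸ I))).obj K) i) := by
  haveI : ∀ M : ModuleCat.{u} A, (Gh (tensorRight M)).HasLeftDerivedFunctor (WA A) :=
    fun M => Groth.Agent.H4.KProj.hasLTensor M
  constructor
  · intro h i hi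
    haveI : K.IsLE 0 := by
      rw [isLE_iff]
      intro j hj
      haveI := h j hj
      exact ModuleCat.isZero_of_subsingleton _
    obtain ⟨E, hE, ⟨e⟩⟩ := Groth.Agent.H4.ResP.exists_iso_of_isLE K 0
    haveI := hE.isKProjective
    have h1 : TV E (ModuleCat.of A (A ⧸ I)) i := by
      apply HomologicalComplex.ExactAt.of_isZero
      exact (tensorRight _).map_isZero (hE.1 i hi)
    rw [← HV_iff_TV E e] at h1
    exact ModuleCat.subsingleton_of_isZero h1
  · intro h
    obtain ⟨s, rfl⟩ := hI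
    obtain ⟨P, hP, hfree, ⟨e⟩⟩ := Groth.Agent.H4.KProj.exists_kproj_free_iso K
    have hTV : ∀ i : ℤ, 0 < i → TV P (ModuleCat.of A (A ⧸ Ideal.span (s : Set A))) i := by
      intro i hi
      rw [← HV_iff_TV P e]
      haveI := h i hi
      exact ModuleCat.isZero_of_subsingleton _
    have hZ : Z (fun K : Dual.D A => K.IsLE 0) P (Ideal.span {x | x ∈ s.toList}) := by
      intro N hN
      rw [span_toList] at hN
      apply Groth.Agent.H4.LDer.isLE_of_exactAt
      intro i hi
      exact TV_of_killed _ P 0 hTV N hN i hi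
    have h1 := Pr_KosL (isExtCl_isLE 0) s.toList P hfree hZ
    have h2 := descend (Pr' := fun K : Dual.D A => K.IsLE 0) (hstep_isLE 0) s.toList P
      (LO_of_finset s K hc P e) h1
    haveI : K.IsLE 0 := by
      haveI := h2
      exact TStructure.t.isLE_of_iso e 0
    intro i hi
    exact ModuleCat.subsingleton_of_isZero (isZero_of_isLE K 0 i hi)

end Groth.Agent.H4.DNak3
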