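import Mathlib
import Groth.Prelude.Def_Koszul
import Groth.Prelude.Def_DRing2
import Groth.Prelude.Def_ega3

set_option autoImplicit false
universe u
open CategoryTheory CategoryTheory.Limits CochainComplex

namespace Groth.Agent.H4.KE3

section general
variable {C : Type*} [Category C] [Preadditive C] [HasBinaryBiproducts C]
variable {K L K' L' : CochainComplex C ℤ}

/-- an isomorphism of arrows induces an isomorphism of mapping cones. -/
noncomputable def coneIso (φ : K ⟶ L) (φ' : K' ⟶ L') (eK : K ≅ K') (eL : L ≅ L')
    (comm : φ ≫ eL.hom = eK.hom ≫ φ') : mappingCone φ ≅ mappingCone φ' where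
  hom := mappingCone.map φ φ' eK.hom eL.hom comm
  inv := mappingCone.map φ' φ eK.inv eL.inv (by
    rw [← cancel_mono eL.hom, Category.assoc, Category.assoc, eL.inv_hom_id, Category.comp_id,
      comm, ← Category.assoc, eK.inv_hom_id, Category.id_comp])
  hom_inv_id := by
    rw [← mappingCone.map_comp]
    simp only [Iso.hom_inv_id]
    exact mappingCone.map_id φ
  inv_hom_id := by
    rw [← mappingCone.map_comp]
    simp only [Iso.inv_hom_id]
    exact mappingCone.map_id φ'

end general

open DRing CohIII

variable {A : Type u} [CommRing A]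

lemma tensorCx_map_smul_id (K : Cx A) (M : ModuleCat.{u} A) (f : A) :
    ((MonoidalCategory.tensorRight M).mapHomologicalComplex (ComplexShape.up ℤ)).map (f • 𝟙 K) =
      f • 𝟙 (tensorCx K M) := by
  refine HomologicalComplex.hom_ext _ _ (fun n => ?_)
  change (MonoidalCategory.tensorRight M).map ((f • 𝟙 K).f n) = (f • 𝟙 (tensorCx K M)).f n
  rw [HomologicalComplex.smul_f_apply, HomologicalComplex.smul_f_apply, Functor.map_smul,
    HomologicalComplex.id_f, HomologicalComplex.id_f, CategoryTheory.Functor.map_id]
  rfl

/-- tensoring the cone of `f` on `K` with `M` is the cone of `f` on `K ⊗ M`. -/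
noncomputable def tensorCxConeIso (K : Cx A) (M : ModuleCat.{u} A) (f : A) :
    tensorCx (mappingCone (f • 𝟙 K)) M ≅ mappingCone (f • 𝟙 (tensorCx K M)) :=
  mappingCone.mapHomologicalComplexIso (f • 𝟙 K) (MonoidalCategory.tensorRight M) ≪≫
    coneIso _ _ (Iso.refl _) (Iso.refl _) (by
      exact (Category.comp_id _).trans ((tensorCx_map_smul_id K M f).trans (Category.id_comp _).symm))

/-- the bridge between the two Koszul complexes with coefficients. -/
noncomputable def bridge (M : ModuleCat.{u} A) : ∀ l : List A,
    tensorCx (Koszul.koszul A l) M ≅ koszulCx M l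
  | [] => (HomologicalComplex.singleMapHomologicalComplex (MonoidalCategory.tensorRight M)
        (ComplexShape.up ℤ) 0).app (ModuleCat.of A A) ≪≫
      (HomologicalComplex.single (ModuleCat.{u} A) (ComplexShape.up ℤ) 0).mapIso
        (MonoidalCategory.leftUnitor M)
  | f :: l => tensorCxConeIso (Koszul.koszul A l) M f ≪≫
      coneIso _ _ (bridge M l) (bridge M l) (by
        simp only [Linear.smul_comp, Linear.comp_smul, Category.id_comp, Category.comp_id])

end Groth.Agent.H4.KE3
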