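import Mathlib

open CategoryTheory Category Limits HomologicalComplex CochainComplex.HomComplex

namespace Groth.Agent.H4.TC1

variable {C₁ C₂ D : Type*} [Category C₁] [Category C₂] [Category D]
  [Preadditive C₁] [Preadditive C₂] [Preadditive D]
  (F : C₁ ⥤ C₂ ⥤ D) [F.Additive] [∀ X₁, (F.obj X₁).Additive]

section map₁

variable {K₁ L₁ M₁ : CochainComplex C₁ ℤ} (K₂ : CochainComplex C₂ ℤ)
  [CochainComplex.HasMapBifunctor K₁ K₂ F] [CochainComplex.HasMapBifunctor L₁ K₂ F]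
  [CochainComplex.HasMapBifunctor M₁ K₂ F]

/-- The cochain `z ⊗ K₂` induced by a cochain `z` on the first variable. -/
noncomputable def map₁ {m : ℤ} (z : Cochain K₁ L₁ m) :
    Cochain (CochainComplex.mapBifunctor K₁ K₂ F) (CochainComplex.mapBifunctor L₁ K₂ F) m :=
  Cochain.mk (fun n n' hnn' => mapBifunctorDesc (fun p q hpq =>
    (F.map (z.v p (p + m) rfl)).app (K₂.X q) ≫
      CochainComplex.ιMapBifunctor L₁ K₂ F (p + m) q n' (by
        change p + q = n at hpq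
        omega)))

@[reassoc]
lemma ι_map₁_v {m : ℤ} (z : Cochain K₁ L₁ m) (p q n : ℤ) (hpq : p + q = n) (p' n' : ℤ)
    (hp : p + m = p') (hn : n + m = n') :
    CochainComplex.ιMapBifunctor K₁ K₂ F p q n hpq ≫ (map₁ F K₂ z).v n n' hn =
      (F.map (z.v p p' hp)).app (K₂.X q) ≫
        CochainComplex.ιMapBifunctor L₁ K₂ F p' q n' (by omega) := by
  subst hp
  simp [map₁]

lemma map₁_ext {m : ℤ} {z z' : Cochain (CochainComplex.mapBifunctor K₁ K₂ F)
      (CochainComplex.mapBifunctor L₁ K₂ F) m}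
    (h : ∀ (p q n : ℤ) (hpq : p + q = n) (n' : ℤ) (hn : n + m = n'),
      CochainComplex.ιMapBifunctor K₁ K₂ F p q n hpq ≫ z.v n n' hn =
        CochainComplex.ιMapBifunctor K₁ K₂ F p q n hpq ≫ z'.v n n' hn) : z = z' := by
  ext n n' hn p q hpq
  exact h p q n hpq n' hn

@[simp]
lemma map₁_zero (m : ℤ) : map₁ F K₂ (0 : Cochain K₁ L₁ m) = 0 := by
  apply map₁_ext
  intro p q n hpq n' hn
  rw [ι_map₁_v F K₂ _ p q n hpq (p + m) n' rfl hn]
  simp

@[simp]
lemma map₁_add {m : ℤ} (z z' : Cochain K₁ L₁ m) :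
    map₁ F K₂ (z + z') = map₁ F K₂ z + map₁ F K₂ z' := by
  apply map₁_ext
  intro p q n hpq n' hn
  rw [ι_map₁_v F K₂ _ p q n hpq (p + m) n' rfl hn]
  simp only [Cochain.add_v, Preadditive.comp_add]
  rw [ι_map₁_v F K₂ _ p q n hpq (p + m) n' rfl hn, ι_map₁_v F K₂ _ p q n hpq (p + m) n' rfl hn]
  simp [Functor.map_add]

@[simp]
lemma map₁_neg {m : ℤ} (z : Cochain K₁ L₁ m) :
    map₁ F K₂ (-z) = -map₁ F K₂ z := by
  apply map₁_ext
  intro p q n hpq n' hn
  rw [ι_map₁_v F K₂ _ p q n hpq (p + m) n' rfl hn]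
  simp only [Cochain.neg_v, Preadditive.comp_neg]
  rw [ι_map₁_v F K₂ _ p q n hpq (p + m) n' rfl hn]
  simp [Functor.map_neg]

@[simp]
lemma map₁_units_smul {m : ℤ} (a : ℤˣ) (z : Cochain K₁ L₁ m) :
    map₁ F K₂ (a • z) = a • map₁ F K₂ z := by
  apply map₁_ext
  intro p q n hpq n' hn
  rw [ι_map₁_v F K₂ _ p q n hpq (p + m) n' rfl hn]
  simp only [Cochain.units_smul_v, Linear.comp_units_smul]
  rw [ι_map₁_v F K₂ _ p q n hpq (p + m) n' rfl hn]
  simp [Functor.map_units_smul]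

lemma map₁_ofHom (f : K₁ ⟶ L₁) :
    map₁ F K₂ (Cochain.ofHom f) = Cochain.ofHom (mapBifunctorMap f (𝟙 K₂) F (.up ℤ)) := by
  apply map₁_ext
  intro p q n hpq n' hn
  obtain rfl : n = n' := by omega
  rw [ι_map₁_v F K₂ _ p q n hpq p n (add_zero p) hn]
  simp

lemma map₁_comp {m m' m'' : ℤ} (z : Cochain K₁ L₁ m) (z' : Cochain L₁ M₁ m') (h : m + m' = m'') :
    map₁ F K₂ (z.comp z' h) = (map₁ F K₂ z).comp (map₁ F K₂ z') h := by
  apply map₁_ext
  intro p q n hpq n' hn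
  rw [ι_map₁_v F K₂ _ p q n hpq (p + m'') n' rfl hn]
  rw [Cochain.comp_v _ _ h n (n + m) n' rfl (by omega)]
  rw [ι_map₁_v_assoc F K₂ _ p q n hpq (p + m) (n + m) rfl rfl]
  rw [ι_map₁_v F K₂ _ (p + m) q (n + m) (by omega) (p + m'') n' (by omega) (by omega)]
  rw [Cochain.comp_v _ _ h p (p + m) (p + m'') rfl (by omega)]
  simp

lemma δ_map₁ {m : ℤ} (z : Cochain K₁ L₁ m) (m' : ℤ) :
    δ m m' (map₁ F K₂ z) = map₁ F K₂ (δ m m' z) := by
  by_cases hm : m + 1 = m'
  · apply map₁_ext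
    intro p q n hpq n' hn
    rw [ι_map₁_v F K₂ _ p q n hpq (p + m') n' rfl hn]
    rw [δ_v m m' hm _ n n' hn (n + m) (n + 1) (by omega) rfl]
    rw [δ_v m m' hm _ p (p + m') rfl (p + m) (p + 1) (by omega) rfl]
    simp only [Preadditive.comp_add, Linear.comp_units_smul]
    rw [ι_map₁_v_assoc F K₂ _ p q n hpq (p + m) (n + m) rfl rfl]
    rw [mapBifunctor.d_eq, mapBifunctor.d_eq]
    simp only [Preadditive.comp_add, Preadditive.add_comp, assoc, mapBifunctor.ι_D₁,
      mapBifunctor.ι_D₂, mapBifunctor.ι_D₁_assoc, mapBifunctor.ι_D₂_assoc]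
    rw [mapBifunctor.d₁_eq L₁ K₂ F (.up ℤ) (show (ComplexShape.up ℤ).Rel (p + m) (p + m') by
        simp; omega) q n' (by simp; omega),
      mapBifunctor.d₂_eq L₁ K₂ F (.up ℤ) (p + m) (show (ComplexShape.up ℤ).Rel q (q + 1) by
        simp) n' (by simp; omega),
      mapBifunctor.d₁_eq K₁ K₂ F (.up ℤ) (show (ComplexShape.up ℤ).Rel p (p + 1) by
        simp) q (n + 1) (by simp; omega),
      mapBifunctor.d₂_eq K₁ K₂ F (.up ℤ) p (show (ComplexShape.up ℤ).Rel q (q + 1) by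
        simp) (n + 1) (by simp; omega)]
    simp only [Linear.units_smul_comp, Linear.comp_units_smul, assoc]
    rw [ι_map₁_v F K₂ z (p + 1) q (n + 1) (by omega) (p + m') n' (by omega) (by omega),
      ι_map₁_v F K₂ z p (q + 1) (n + 1) (by omega) (p + m) n' (by omega) (by omega)]
    simp only [ComplexShape.ε₁_def, ComplexShape.ε₂_def,
      ComplexShape.ε_up_ℤ, one_smul]
    have nat := ((F.map (z.v p (p + m) rfl)).naturality (K₂.d q (q + 1)))
    rw [reassoc_of% nat]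
    subst hm
    simp only [Functor.map_add, Functor.map_comp, Functor.map_units_smul, NatTrans.app_add,
      NatTrans.comp_app, NatTrans.app_units_zsmul, Preadditive.add_comp, assoc,
      Linear.units_smul_comp, smul_add, smul_smul, Int.negOnePow_add, Int.negOnePow_one]
    have e : (m.negOnePow * -1 * p.negOnePow) = -(p.negOnePow * m.negOnePow) := by
      rw [mul_comm p.negOnePow]; simp
    rw [e, Units.neg_smul]
    abel
  · rw [δ_shape _ _ hm, δ_shape _ _ hm, map₁_zero]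

end map₁

section map₂

variable (K₁ : CochainComplex C₁ ℤ) {K₂ L₂ M₂ : CochainComplex C₂ ℤ}
  [CochainComplex.HasMapBifunctor K₁ K₂ F] [CochainComplex.HasMapBifunctor K₁ L₂ F]
  [CochainComplex.HasMapBifunctor K₁ M₂ F]

/-- The cochain `K₁ ⊗ z` induced by a cochain `z` on the second variable
(with the Koszul sign `(-1)^(p * m)`). -/
noncomputable def map₂ {m : ℤ} (z : Cochain K₂ L₂ m) :
    Cochain (CochainComplex.mapBifunctor K₁ K₂ F) (CochainComplex.mapBifunctor K₁ L₂ F) m :=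
  Cochain.mk (fun n n' hnn' => mapBifunctorDesc (fun p q hpq =>
    (p * m).negOnePow • (F.obj (K₁.X p)).map (z.v q (q + m) rfl) ≫
      CochainComplex.ιMapBifunctor K₁ L₂ F p (q + m) n' (by
        change p + q = n at hpq
        omega)))

@[reassoc]
lemma ι_map₂_v {m : ℤ} (z : Cochain K₂ L₂ m) (p q n : ℤ) (hpq : p + q = n) (q' n' : ℤ)
    (hq : q + m = q') (hn : n + m = n') :
    CochainComplex.ιMapBifunctor K₁ K₂ F p q n hpq ≫ (map₂ F K₁ z).v n n' hn =
      (p * m).negOnePow • (F.obj (K₁.X p)).map (z.v q q' hq) ≫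
        CochainComplex.ιMapBifunctor K₁ L₂ F p q' n' (by omega) := by
  subst hq
  simp [map₂]

lemma map₂_ext {m : ℤ} {z z' : Cochain (CochainComplex.mapBifunctor K₁ K₂ F)
      (CochainComplex.mapBifunctor K₁ L₂ F) m}
    (h : ∀ (p q n : ℤ) (hpq : p + q = n) (n' : ℤ) (hn : n + m = n'),
      CochainComplex.ιMapBifunctor K₁ K₂ F p q n hpq ≫ z.v n n' hn =
        CochainComplex.ιMapBifunctor K₁ K₂ F p q n hpq ≫ z'.v n n' hn) : z = z' := by
  ext n n' hn p q hpq
  exact h p q n hpq n' hn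

@[simp]
lemma map₂_zero (m : ℤ) : map₂ F K₁ (0 : Cochain K₂ L₂ m) = 0 := by
  apply map₂_ext
  intro p q n hpq n' hn
  rw [ι_map₂_v F K₁ _ p q n hpq (q + m) n' rfl hn]
  simp

@[simp]
lemma map₂_add {m : ℤ} (z z' : Cochain K₂ L₂ m) :
    map₂ F K₁ (z + z') = map₂ F K₁ z + map₂ F K₁ z' := by
  apply map₂_ext
  intro p q n hpq n' hn
  rw [ι_map₂_v F K₁ _ p q n hpq (q + m) n' rfl hn]
  simp only [Cochain.add_v, Preadditive.comp_add]
  rw [ι_map₂_v F K₁ _ p q n hpq (q + m) n' rfl hn, ι_map₂_v F K₁ _ p q n hpq (q + m) n' rfl hn]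
  simp [Functor.map_add]

@[simp]
lemma map₂_neg {m : ℤ} (z : Cochain K₂ L₂ m) :
    map₂ F K₁ (-z) = -map₂ F K₁ z := by
  apply map₂_ext
  intro p q n hpq n' hn
  rw [ι_map₂_v F K₁ _ p q n hpq (q + m) n' rfl hn]
  simp only [Cochain.neg_v, Preadditive.comp_neg]
  rw [ι_map₂_v F K₁ _ p q n hpq (q + m) n' rfl hn]
  simp [Functor.map_neg]

@[simp]
lemma map₂_units_smul {m : ℤ} (a : ℤˣ) (z : Cochain K₂ L₂ m) :
    map₂ F K₁ (a • z) = a • map₂ F K₁ z := by
  apply map₂_ext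
  intro p q n hpq n' hn
  rw [ι_map₂_v F K₁ _ p q n hpq (q + m) n' rfl hn]
  simp only [Cochain.units_smul_v, Linear.comp_units_smul]
  rw [ι_map₂_v F K₁ _ p q n hpq (q + m) n' rfl hn]
  simp [Functor.map_units_smul, smul_smul, mul_comm]

lemma map₂_ofHom (f : K₂ ⟶ L₂) :
    map₂ F K₁ (Cochain.ofHom f) = Cochain.ofHom (mapBifunctorMap (𝟙 K₁) f F (.up ℤ)) := by
  apply map₂_ext
  intro p q n hpq n' hn
  obtain rfl : n = n' := by omega
  rw [ι_map₂_v F K₁ _ p q n hpq q n (add_zero q) hn]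
  simp

lemma map₂_comp {m m' m'' : ℤ} (z : Cochain K₂ L₂ m) (z' : Cochain L₂ M₂ m') (h : m + m' = m'') :
    map₂ F K₁ (z.comp z' h) = (map₂ F K₁ z).comp (map₂ F K₁ z') h := by
  apply map₂_ext
  intro p q n hpq n' hn
  rw [ι_map₂_v F K₁ _ p q n hpq (q + m'') n' rfl hn]
  rw [Cochain.comp_v _ _ h n (n + m) n' rfl (by omega)]
  rw [ι_map₂_v_assoc F K₁ _ p q n hpq (q + m) (n + m) rfl rfl]
  simp only [Linear.units_smul_comp, assoc]
  rw [ι_map₂_v F K₁ _ p (q + m) (n + m) (by omega) (q + m'') n' (by omega) (by omega)]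
  rw [Cochain.comp_v _ _ h q (q + m) (q + m'') rfl (by omega)]
  subst h
  simp [smul_smul, mul_add, Int.negOnePow_add]

lemma δ_map₂ {m : ℤ} (z : Cochain K₂ L₂ m) (m' : ℤ) :
    δ m m' (map₂ F K₁ z) = map₂ F K₁ (δ m m' z) := by
  by_cases hm : m + 1 = m'
  · apply map₂_ext
    intro p q n hpq n' hn
    rw [ι_map₂_v F K₁ _ p q n hpq (q + m') n' rfl hn]
    rw [δ_v m m' hm _ n n' hn (n + m) (n + 1) (by omega) rfl]
    rw [δ_v m m' hm _ q (q + m') rfl (q + m) (q + 1) (by omega) rfl]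
    simp only [Preadditive.comp_add, Linear.comp_units_smul]
    rw [ι_map₂_v_assoc F K₁ _ p q n hpq (q + m) (n + m) rfl rfl]
    rw [mapBifunctor.d_eq, mapBifunctor.d_eq]
    simp only [Preadditive.comp_add, Preadditive.add_comp, mapBifunctor.ι_D₁,
      mapBifunctor.ι_D₂, mapBifunctor.ι_D₁_assoc, mapBifunctor.ι_D₂_assoc, Linear.units_smul_comp,
      assoc]
    rw [mapBifunctor.d₁_eq K₁ L₂ F (.up ℤ) (show (ComplexShape.up ℤ).Rel p (p + 1) by
        simp) (q + m) n' (by simp; omega),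
      mapBifunctor.d₂_eq K₁ L₂ F (.up ℤ) p (show (ComplexShape.up ℤ).Rel (q + m) (q + m') by
        simp; omega) n' (by simp; omega),
      mapBifunctor.d₁_eq K₁ K₂ F (.up ℤ) (show (ComplexShape.up ℤ).Rel p (p + 1) by
        simp) q (n + 1) (by simp; omega),
      mapBifunctor.d₂_eq K₁ K₂ F (.up ℤ) p (show (ComplexShape.up ℤ).Rel q (q + 1) by
        simp) (n + 1) (by simp; omega)]
    simp only [Linear.units_smul_comp, Linear.comp_units_smul, assoc]
    rw [ι_map₂_v F K₁ z (p + 1) q (n + 1) (by omega) (q + m) n' (by omega) (by omega),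
      ι_map₂_v F K₁ z p (q + 1) (n + 1) (by omega) (q + m') n' (by omega) (by omega)]
    simp only [ComplexShape.ε₁_def, ComplexShape.ε₂_def,
      ComplexShape.ε_up_ℤ, one_smul]
    have nat := (F.map (K₁.d p (p + 1))).naturality (z.v q (q + m) rfl)
    rw [reassoc_of% nat]
    subst hm
    simp only [Functor.map_add, Functor.map_comp, Functor.map_units_smul, Preadditive.add_comp,
      Preadditive.comp_add, assoc, Linear.units_smul_comp, Linear.comp_units_smul, smul_add,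
      smul_smul]
    have e1 : ((m + 1).negOnePow * ((p + 1) * m).negOnePow) = -(p * m).negOnePow := by
      rw [add_mul, one_mul, Int.negOnePow_add, Int.negOnePow_add, Int.negOnePow_one]
      rw [mul_comm (p * m).negOnePow, ← mul_assoc, mul_assoc m.negOnePow, mul_comm (-1 : ℤˣ),
        ← mul_assoc, ← Int.negOnePow_add, Int.negOnePow_even _ ⟨m, rfl⟩]
      simp
    have e2 : (p * m).negOnePow * p.negOnePow = (p * (m + 1)).negOnePow := by
      rw [mul_add, mul_one, Int.negOnePow_add]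
    have e3 : (m + 1).negOnePow * (p.negOnePow * (p * m).negOnePow) =
        (p * (m + 1)).negOnePow * (m + 1).negOnePow := by
      rw [mul_add p, mul_one, Int.negOnePow_add (p * m)]
      rw [mul_comm, mul_comm p.negOnePow]
    rw [e1, e2, e3, Units.neg_smul]
    abel
  · rw [δ_shape _ _ hm, δ_shape _ _ hm, map₂_zero]

end map₂

end Groth.Agent.H4.TC1
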