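import Mathlib
import Groth.Agent.H4.TC1

open CategoryTheory Category Limits HomologicalComplex CochainComplex.HomComplex CochainComplex

namespace Groth.Agent.H4.TC2

open Groth.Agent.H4.TC1

section recog

variable {C : Type*} [Category C] [Preadditive C] {K L : CochainComplex C ℤ} (φ : K ⟶ L)
  [HasHomotopyCofiber φ] (E : CochainComplex C ℤ)

/-- Data exhibiting a complex `E` as a mapping cone of `φ`. -/
structure ConeData where
  il : Cochain K E (-1)
  ir : L ⟶ E
  pf : Cochain E K 1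
  ps : Cochain E L 0
  il_pf : il.comp pf (neg_add_cancel 1) = Cochain.ofHom (𝟙 K)
  il_ps : il.comp ps (add_zero (-1)) = 0
  ir_pf : (Cochain.ofHom ir).comp pf (zero_add 1) = 0
  ir_ps : (Cochain.ofHom ir).comp ps (zero_add 0) = Cochain.ofHom (𝟙 L)
  id : pf.comp il (add_neg_cancel 1) + ps.comp (Cochain.ofHom ir) (add_zero 0) = Cochain.ofHom (𝟙 E)
  δ_il : δ (-1) 0 il = Cochain.ofHom (φ ≫ ir)
  δ_pf : δ 1 2 pf = 0
  δ_ps : δ 0 1 ps = -pf.comp (Cochain.ofHom φ) (add_zero 1)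

variable {φ E} (h : ConeData φ E)

/-- The map from `E` to the mapping cone. -/
noncomputable def ConeData.hom : E ⟶ mappingCone φ :=
  mappingCone.lift φ (Cocycle.mk h.pf 2 rfl h.δ_pf) h.ps (by simp [h.δ_ps])

/-- The map from the mapping cone to `E`. -/
noncomputable def ConeData.inv : mappingCone φ ⟶ E :=
  mappingCone.desc φ h.il h.ir h.δ_il

lemma ConeData.hom_inv_id : h.hom ≫ h.inv = 𝟙 E := by
  ext n
  dsimp [ConeData.hom, ConeData.inv]
  rw [mappingCone.lift_desc_f _ _ _ _ _ _ _ n (n + 1) rfl]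
  have := Cochain.congr_v h.id n n (add_zero n)
  rw [Cochain.add_v, Cochain.comp_v _ _ (add_neg_cancel 1) n (n + 1) n rfl (by omega),
    Cochain.comp_zero_cochain_v, Cochain.ofHom_v, Cochain.ofHom_v] at this
  simpa using this

lemma ConeData.inv_hom_id : h.inv ≫ h.hom = 𝟙 (mappingCone φ) := by
  ext n
  dsimp [ConeData.hom, ConeData.inv]
  rw [mappingCone.ext_from_iff φ (n + 1) n rfl]
  constructor
  · rw [mappingCone.inl_v_desc_f_assoc, mappingCone.ext_to_iff φ n (n + 1) rfl]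
    constructor
    · rw [assoc, mappingCone.lift_f_fst_v]
      have := Cochain.congr_v h.il_pf (n + 1) (n + 1) (add_zero _)
      rw [Cochain.comp_v _ _ (neg_add_cancel 1) (n + 1) n (n + 1) (by omega) rfl] at this
      simpa using this
    · rw [assoc, mappingCone.lift_f_snd_v]
      have := Cochain.congr_v h.il_ps (n + 1) n (by omega)
      rw [Cochain.comp_zero_cochain_v] at this
      simpa using this
  · rw [mappingCone.inr_f_desc_f_assoc, mappingCone.ext_to_iff φ n (n + 1) rfl]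
    constructor
    · rw [assoc, mappingCone.lift_f_fst_v]
      have := Cochain.congr_v h.ir_pf n (n + 1) rfl
      rw [Cochain.zero_cochain_comp_v] at this
      simpa using this
    · rw [assoc, mappingCone.lift_f_snd_v]
      have := Cochain.congr_v h.ir_ps n n (add_zero n)
      rw [Cochain.zero_cochain_comp_v] at this
      simpa using this

/-- A complex with cone data is isomorphic to the mapping cone. -/
@[simps]
noncomputable def ConeData.iso : E ≅ mappingCone φ where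
  hom := h.hom
  inv := h.inv
  hom_inv_id := h.hom_inv_id
  inv_hom_id := h.inv_hom_id

@[reassoc (attr := simp)]
lemma ConeData.inr_inv : mappingCone.inr φ ≫ h.inv = h.ir := by
  simp [ConeData.inv]

@[reassoc (attr := simp)]
lemma ConeData.ir_hom : h.ir ≫ h.hom = mappingCone.inr φ := by
  rw [← h.inr_inv, assoc, h.inv_hom_id, comp_id]

end recog

section cone₁

variable {C₁ C₂ D : Type*} [Category C₁] [Category C₂] [Category D]
  [Preadditive C₁] [Preadditive C₂] [Preadditive D]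
  (F : C₁ ⥤ C₂ ⥤ D) [F.Additive] [∀ X₁, (F.obj X₁).Additive]

lemma mapBifunctorMap_id (K₁ : CochainComplex C₁ ℤ) (K₂ : CochainComplex C₂ ℤ)
    [CochainComplex.HasMapBifunctor K₁ K₂ F] :
    mapBifunctorMap (𝟙 K₁) (𝟙 K₂) F (.up ℤ) = 𝟙 _ := by
  ext n p q hpq
  simp

variable {K₁ L₁ : CochainComplex C₁ ℤ} (φ : K₁ ⟶ L₁) [HasHomotopyCofiber φ]
  (K₂ : CochainComplex C₂ ℤ)
  [CochainComplex.HasMapBifunctor K₁ K₂ F] [CochainComplex.HasMapBifunctor L₁ K₂ F]
  [CochainComplex.HasMapBifunctor (mappingCone φ) K₂ F]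
  [HasHomotopyCofiber (mapBifunctorMap φ (𝟙 K₂) F (.up ℤ))]

/-- `mapBifunctor (mappingCone φ) K₂ F` is a mapping cone of `mapBifunctorMap φ (𝟙 K₂) F`. -/
noncomputable def coneData₁ : ConeData (mapBifunctorMap φ (𝟙 K₂) F (.up ℤ))
    (CochainComplex.mapBifunctor (mappingCone φ) K₂ F) where
  il := map₁ F K₂ (mappingCone.inl φ)
  ir := mapBifunctorMap (mappingCone.inr φ) (𝟙 K₂) F (.up ℤ)
  pf := map₁ F K₂ (mappingCone.fst φ).1
  ps := map₁ F K₂ (mappingCone.snd φ)
  il_pf := by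
    rw [← map₁_comp, mappingCone.inl_fst, map₁_ofHom, mapBifunctorMap_id]
  il_ps := by
    rw [← map₁_comp, mappingCone.inl_snd, map₁_zero]
  ir_pf := by
    rw [← map₁_ofHom, ← map₁_comp, mappingCone.inr_fst, map₁_zero]
  ir_ps := by
    rw [← map₁_ofHom, ← map₁_comp, mappingCone.inr_snd, map₁_ofHom, mapBifunctorMap_id]
  id := by
    rw [← map₁_ofHom, ← map₁_comp, ← map₁_comp, ← map₁_add, mappingCone.id, map₁_ofHom,
      mapBifunctorMap_id]
  δ_il := by
    rw [δ_map₁, mappingCone.δ_inl, Cochain.ofHom_comp, map₁_comp, map₁_ofHom, map₁_ofHom,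
      ← Cochain.ofHom_comp]
  δ_pf := by
    rw [δ_map₁, Cocycle.δ_eq_zero, map₁_zero]
  δ_ps := by
    rw [δ_map₁, mappingCone.δ_snd, map₁_neg, map₁_comp, map₁_ofHom]

/-- `mapBifunctor (mappingCone φ) K₂ F ≅ mappingCone (mapBifunctorMap φ (𝟙 K₂) F)`. -/
noncomputable def coneIso₁ : CochainComplex.mapBifunctor (mappingCone φ) K₂ F ≅
    mappingCone (mapBifunctorMap φ (𝟙 K₂) F (.up ℤ)) :=
  (coneData₁ F φ K₂).iso

@[reassoc (attr := simp)]
lemma inr_coneIso₁_hom : mapBifunctorMap (mappingCone.inr φ) (𝟙 K₂) F (.up ℤ) ≫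
    (coneIso₁ F φ K₂).hom = mappingCone.inr _ :=
  (coneData₁ F φ K₂).ir_hom

end cone₁

section cone₂

variable {C₁ C₂ D : Type*} [Category C₁] [Category C₂] [Category D]
  [Preadditive C₁] [Preadditive C₂] [Preadditive D]
  (F : C₁ ⥤ C₂ ⥤ D) [F.Additive] [∀ X₁, (F.obj X₁).Additive]

variable (K₁ : CochainComplex C₁ ℤ) {K₂ L₂ : CochainComplex C₂ ℤ} (φ : K₂ ⟶ L₂)
  [HasHomotopyCofiber φ]
  [CochainComplex.HasMapBifunctor K₁ K₂ F] [CochainComplex.HasMapBifunctor K₁ L₂ F]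
  [CochainComplex.HasMapBifunctor K₁ (mappingCone φ) F]
  [HasHomotopyCofiber (mapBifunctorMap (𝟙 K₁) φ F (.up ℤ))]

/-- `mapBifunctor K₁ (mappingCone φ) F` is a mapping cone of `mapBifunctorMap (𝟙 K₁) φ F`. -/
noncomputable def coneData₂ : ConeData (mapBifunctorMap (𝟙 K₁) φ F (.up ℤ))
    (CochainComplex.mapBifunctor K₁ (mappingCone φ) F) where
  il := map₂ F K₁ (mappingCone.inl φ)
  ir := mapBifunctorMap (𝟙 K₁) (mappingCone.inr φ) F (.up ℤ)
  pf := map₂ F K₁ (mappingCone.fst φ).1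
  ps := map₂ F K₁ (mappingCone.snd φ)
  il_pf := by
    rw [← map₂_comp, mappingCone.inl_fst, map₂_ofHom, mapBifunctorMap_id]
  il_ps := by
    rw [← map₂_comp, mappingCone.inl_snd, map₂_zero]
  ir_pf := by
    rw [← map₂_ofHom, ← map₂_comp, mappingCone.inr_fst, map₂_zero]
  ir_ps := by
    rw [← map₂_ofHom, ← map₂_comp, mappingCone.inr_snd, map₂_ofHom, mapBifunctorMap_id]
  id := by
    rw [← map₂_ofHom, ← map₂_comp, ← map₂_comp, ← map₂_add, mappingCone.id, map₂_ofHom,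
      mapBifunctorMap_id]
  δ_il := by
    rw [δ_map₂, mappingCone.δ_inl, Cochain.ofHom_comp, map₂_comp, map₂_ofHom, map₂_ofHom,
      ← Cochain.ofHom_comp]
  δ_pf := by
    rw [δ_map₂, Cocycle.δ_eq_zero, map₂_zero]
  δ_ps := by
    rw [δ_map₂, mappingCone.δ_snd, map₂_neg, map₂_comp, map₂_ofHom]

/-- `mapBifunctor K₁ (mappingCone φ) F ≅ mappingCone (mapBifunctorMap (𝟙 K₁) φ F)`. -/
noncomputable def coneIso₂ : CochainComplex.mapBifunctor K₁ (mappingCone φ) F ≅
    mappingCone (mapBifunctorMap (𝟙 K₁) φ F (.up ℤ)) :=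
  (coneData₂ F K₁ φ).iso

@[reassoc (attr := simp)]
lemma inr_coneIso₂_hom : mapBifunctorMap (𝟙 K₁) (mappingCone.inr φ) F (.up ℤ) ≫
    (coneIso₂ F K₁ φ).hom = mappingCone.inr _ :=
  (coneData₂ F K₁ φ).ir_hom

end cone₂

end Groth.Agent.H4.TC2
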