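import Mathlib
import Groth.Prelude.Def_DRing4
import Groth.Prelude.Def_Koszul
import Groth.Agent.H4.KE3
import Groth.Agent.H4.TC2

open CategoryTheory Category Limits HomologicalComplex CochainComplex.HomComplex CochainComplex
  MonoidalCategory

universe u

namespace Groth.Agent.H4.TC3

open Groth.Agent.H4.TC1 Groth.Agent.H4.TC2

variable {R : Type u} [CommRing R]

abbrev Cx (R : Type u) [CommRing R] := CochainComplex (ModuleCat.{u} R) ℤ

example (L K : Cx R) : (L ⊗ K) = CochainComplex.mapBifunctor L K (curriedTensor (ModuleCat.{u} R)) := rfl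

example {L₁ L₂ : Cx R} (f : L₁ ⟶ L₂) (K : Cx R) :
    f ▷ K = mapBifunctorMap f (𝟙 K) (curriedTensor (ModuleCat.{u} R)) (.up ℤ) := rfl

example {K₁ K₂ : Cx R} (L : Cx R) (f : K₁ ⟶ K₂) :
    L ◁ f = mapBifunctorMap (𝟙 L) f (curriedTensor (ModuleCat.{u} R)) (.up ℤ) := rfl

/-- `cone φ ⊗ K ≅ cone (φ ▷ K)` -/
noncomputable def coneTensorRight {L₁ L₂ : Cx R} (φ : L₁ ⟶ L₂) (K : Cx R) :
    (mappingCone φ) ⊗ K ≅ mappingCone (φ ▷ K) :=
  coneIso₁ (curriedTensor (ModuleCat.{u} R)) φ K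

/-- `L ⊗ cone φ ≅ cone (L ◁ φ)` -/
noncomputable def coneTensorLeft (L : Cx R) {K₁ K₂ : Cx R} (φ : K₁ ⟶ K₂) :
    L ⊗ (mappingCone φ) ≅ mappingCone (L ◁ φ) :=
  coneIso₂ (curriedTensor (ModuleCat.{u} R)) L φ


example : Koszul.koszul R [] = 𝟙_ (Cx R) := rfl

lemma smul_id_whiskerRight (a : R) (L K : Cx R) : (a • 𝟙 L) ▷ K = a • 𝟙 (L ⊗ K) := by
  refine HomologicalComplex.hom_ext _ _ (fun n => ?_)
  refine mapBifunctor.hom_ext (fun p q hpq => ?_)
  change ιMapBifunctor _ _ _ _ p q n hpq ≫ (mapBifunctorMap (a • 𝟙 L) (𝟙 K) _ _).f n = _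
  rw [ι_mapBifunctorMap]
  simp only [Linear.smul_comp, Linear.comp_smul, id_f, curriedTensor_obj_obj, curriedTensor_map_app,
    curriedTensor_obj_map, MonoidalLinear.smul_whiskerRight, smul_f_apply]
  simp
  exact (congrArg (a • ·) (Category.comp_id _)).symm


/-- `K(f) ⊗ K(g) ≅ K(f ++ g)`. -/
noncomputable def koszulTensorIso : ∀ (f g : List R),
    (Koszul.koszul R f ⊗ Koszul.koszul R g : Cx R) ≅ Koszul.koszul R (f ++ g)
  | [], g => λ_ (Koszul.koszul R g)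
  | a :: f, g =>
      coneTensorRight (a • 𝟙 (Koszul.koszul R f)) (Koszul.koszul R g) ≪≫
        Groth.Agent.H4.KE3.coneIso _ _ (koszulTensorIso f g) (koszulTensorIso f g) (by
          rw [smul_id_whiskerRight]
          simp)

end Groth.Agent.H4.TC3
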