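import Mathlib
import Groth.Prelude.Def_DRing4
import Groth.Agent.H4.TC3
import Groth.Agent.Lib.Helper2.RDer3

open CategoryTheory Category Limits HomologicalComplex CochainComplex.HomComplex CochainComplex
  MonoidalCategory

universe u

namespace Groth.Agent.H4.TC4

open Groth.Agent.H4.TC1 Groth.Agent.H4.TC2 Groth.Agent.H4.TC3

variable {R : Type u} [CommRing R]

/-- acyclic complexes -/
def Acyc (L : Cx R) : Prop := ∀ i : ℤ, IsZero (L.homology i)

/-- K-flat complexes (in the form of the statements). -/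
def KFlat (K : Cx R) : Prop := ∀ L : Cx R, Acyc L → Acyc (L ⊗ K)

lemma acyc_iff_exactAt (L : Cx R) : Acyc L ↔ ∀ i, L.ExactAt i := by
  simp only [Acyc, exactAt_iff_isZero_homology]

lemma Acyc.of_quasiIso {A B : Cx R} (f : A ⟶ B) [QuasiIso f] : Acyc A ↔ Acyc B := by
  constructor
  · intro h i
    exact (h i).of_iso (isoOfQuasiIsoAt f i).symm
  · intro h i
    exact (h i).of_iso (isoOfQuasiIsoAt f i)

lemma Acyc.of_iso {A B : Cx R} (e : A ≅ B) (h : Acyc A) : Acyc B :=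
  (Acyc.of_quasiIso e.hom).1 h

lemma acyc_cone_iff {A B : Cx R} (f : A ⟶ B) : Acyc (mappingCone f) ↔ QuasiIso f := by
  rw [acyc_iff_exactAt, Groth.Agent.H2.RDer.quasiIso_iff_mappingCone_exactAt]

lemma quasiIso_of_acyc {A B : Cx R} (f : A ⟶ B) (hA : Acyc A) (hB : Acyc B) : QuasiIso f := by
  rw [quasiIso_iff]
  intro i
  rw [quasiIsoAt_iff_isIso_homologyMap]
  exact ⟨0, (hA i).eq_of_src _ _, (hB i).eq_of_src _ _⟩

lemma Acyc.cone {A B : Cx R} (f : A ⟶ B) (hA : Acyc A) (hB : Acyc B) : Acyc (mappingCone f) :=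
  (acyc_cone_iff f).2 (quasiIso_of_acyc f hA hB)

lemma Acyc.of_cone_left {A B : Cx R} (f : A ⟶ B) (hA : Acyc A) (hC : Acyc (mappingCone f)) :
    Acyc B := by
  haveI := (acyc_cone_iff f).1 hC
  exact (Acyc.of_quasiIso f).1 hA

lemma Acyc.of_cone_right {A B : Cx R} (f : A ⟶ B) (hB : Acyc B) (hC : Acyc (mappingCone f)) :
    Acyc A := by
  haveI := (acyc_cone_iff f).1 hC
  exact (Acyc.of_quasiIso f).2 hB

lemma acyc_shift_iff (A : Cx R) (n : ℤ) : Acyc (A⟦n⟧) ↔ Acyc A := by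
  constructor
  · intro h i
    exact (h (i - n)).of_iso
      (((HomologicalComplex.homologyFunctor (ModuleCat.{u} R) (ComplexShape.up ℤ) 0).shiftIso n
        (i - n) i (by omega)).app A).symm
  · intro h i
    exact (h (n + i)).of_iso
      (((HomologicalComplex.homologyFunctor (ModuleCat.{u} R) (ComplexShape.up ℤ) 0).shiftIso n
        i (n + i) rfl).app A)

lemma Acyc.of_homotopyEquiv {A B : Cx R} (e : HomotopyEquiv A B) (h : Acyc A) : Acyc B :=
  fun i => (h i).of_iso (e.toHomologyIso i).symm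

/-- tensoring a homotopy equivalence on the left. -/
noncomputable def whiskerLeftHomotopyEquiv (L : Cx R) {A B : Cx R} (e : HomotopyEquiv A B) :
    HomotopyEquiv (L ⊗ A) (L ⊗ B) where
  hom := L ◁ e.hom
  inv := L ◁ e.inv
  homotopyHomInvId := (Homotopy.ofEq (MonoidalCategory.whiskerLeft_comp L e.hom e.inv).symm).trans
    ((mapBifunctorMapHomotopy₂ (𝟙 L) e.homotopyHomInvId (curriedTensor (ModuleCat.{u} R))
      (.up ℤ)).trans (Homotopy.ofEq (MonoidalCategory.whiskerLeft_id L A)))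
  homotopyInvHomId := (Homotopy.ofEq (MonoidalCategory.whiskerLeft_comp L e.inv e.hom).symm).trans
    ((mapBifunctorMapHomotopy₂ (𝟙 L) e.homotopyInvHomId (curriedTensor (ModuleCat.{u} R))
      (.up ℤ)).trans (Homotopy.ofEq (MonoidalCategory.whiskerLeft_id L B)))

lemma KFlat.of_homotopyEquiv {A B : Cx R} (e : HomotopyEquiv A B) (h : KFlat A) : KFlat B :=
  fun L hL => Acyc.of_homotopyEquiv (whiskerLeftHomotopyEquiv L e) (h L hL)

lemma KFlat.of_iso {A B : Cx R} (e : A ≅ B) (h : KFlat A) : KFlat B :=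
  fun L hL => Acyc.of_iso (whiskerLeftIso L e) (h L hL)

lemma KFlat.cone {A B : Cx R} (f : A ⟶ B) (hA : KFlat A) (hB : KFlat B) :
    KFlat (mappingCone f) :=
  fun L hL => Acyc.of_iso (coneTensorLeft L f).symm (Acyc.cone _ (hA L hL) (hB L hL))

lemma KFlat.of_cone_left {A B : Cx R} (f : A ⟶ B) (hA : KFlat A) (hC : KFlat (mappingCone f)) :
    KFlat B :=
  fun L hL => Acyc.of_cone_left (L ◁ f) (hA L hL) (Acyc.of_iso (coneTensorLeft L f) (hC L hL))

lemma KFlat.of_cone_right {A B : Cx R} (f : A ⟶ B) (hB : KFlat B) (hC : KFlat (mappingCone f)) :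
    KFlat A :=
  fun L hL => Acyc.of_cone_right (L ◁ f) (hB L hL) (Acyc.of_iso (coneTensorLeft L f) (hC L hL))

lemma kflat_shift_iff (A : Cx R) (n : ℤ) : KFlat (A⟦n⟧) ↔ KFlat A := by
  constructor
  · intro h L hL
    exact (acyc_shift_iff _ n).1 (Acyc.of_iso
      (CochainComplex.mapBifunctorShift₂Iso L A (curriedTensor (ModuleCat.{u} R)) n) (h L hL))
  · intro h L hL
    exact Acyc.of_iso
      (CochainComplex.mapBifunctorShift₂Iso L A (curriedTensor (ModuleCat.{u} R)) n).symm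
      ((acyc_shift_iff _ n).2 (h L hL))

/-- S6907, first part. -/
theorem quasiIso_whiskerRight {K : Cx R} (hK : KFlat K) {L₁ L₂ : Cx R} (f : L₁ ⟶ L₂)
    (hf : QuasiIso f) : QuasiIso (f ▷ K) := by
  rw [← acyc_cone_iff]
  exact Acyc.of_iso (coneTensorRight f K) (hK _ ((acyc_cone_iff f).2 hf))


theorem kflat_distTriang
    (T : Pretriangulated.Triangle (HomotopyCategory (ModuleCat.{u} R) (ComplexShape.up ℤ)))
    (hT : T ∈ Pretriangulated.distinguishedTriangles) :
    (KFlat T.obj₁.as → KFlat T.obj₂.as → KFlat T.obj₃.as) ∧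
    (KFlat T.obj₁.as → KFlat T.obj₃.as → KFlat T.obj₂.as) ∧
    (KFlat T.obj₂.as → KFlat T.obj₃.as → KFlat T.obj₁.as) := by
  obtain ⟨K, L, φ, ⟨e⟩⟩ := hT
  have e₁ : HomotopyEquiv T.obj₁.as K :=
    HomotopyCategory.homotopyEquivOfIso (Pretriangulated.Triangle.π₁.mapIso e)
  have e₂ : HomotopyEquiv T.obj₂.as L :=
    HomotopyCategory.homotopyEquivOfIso (Pretriangulated.Triangle.π₂.mapIso e)
  have e₃ : HomotopyEquiv T.obj₃.as (mappingCone φ) :=
    HomotopyCategory.homotopyEquivOfIso (Pretriangulated.Triangle.π₃.mapIso e)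
  refine ⟨fun h1 h2 => ?_, fun h1 h3 => ?_, fun h2 h3 => ?_⟩
  · exact KFlat.of_homotopyEquiv e₃.symm
      (KFlat.cone φ (KFlat.of_homotopyEquiv e₁ h1) (KFlat.of_homotopyEquiv e₂ h2))
  · exact KFlat.of_homotopyEquiv e₂.symm
      (KFlat.of_cone_left φ (KFlat.of_homotopyEquiv e₁ h1) (KFlat.of_homotopyEquiv e₃ h3))
  · exact KFlat.of_homotopyEquiv e₁.symm
      (KFlat.of_cone_right φ (KFlat.of_homotopyEquiv e₂ h2) (KFlat.of_homotopyEquiv e₃ h3))

end Groth.Agent.H4.TC4
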