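import Mathlib
import Groth.Prelude.Def_DRing4
import Groth.Agent.H4.TC4
import Groth.Agent.H4.DRing3

open CategoryTheory Category Limits HomologicalComplex CochainComplex.HomComplex CochainComplex
  MonoidalCategory

universe u

namespace Groth.Agent.H4.TC5

open Groth.Agent.H4.TC1 Groth.Agent.H4.TC2 Groth.Agent.H4.TC3 Groth.Agent.H4.TC4

section general

variable {C₁ C₂ D : Type*} [Category C₁] [Category C₂] [Category D]
  [Preadditive C₁] [Preadditive C₂] [Preadditive D]
  (F : C₁ ⥤ C₂ ⥤ D) [F.Additive] [∀ X₁, (F.obj X₁).Additive]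
  (K₁ : CochainComplex C₁ ℤ) (K₂ : CochainComplex C₂ ℤ) [CochainComplex.HasMapBifunctor K₁ K₂ F]

/-- If `K₂` is concentrated in degree `q₀`, the inclusion of the `(p, q₀)` summand is an iso. -/
lemma isIso_ι_of_concentrated₂ (q₀ : ℤ) (hK₂ : ∀ q, q ≠ q₀ → IsZero (K₂.X q)) (p n : ℤ)
    (h : p + q₀ = n) : IsIso (CochainComplex.ιMapBifunctor K₁ K₂ F p q₀ n h) := by
  refine ⟨mapBifunctorDesc (fun p' q' h' => if hq : q' = q₀ then
    eqToHom (by
      subst hq
      obtain rfl : p' = p := by
        change p' + q' = n at h'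
        omega
      rfl) else 0), ?_, ?_⟩
  · rw [ι_mapBifunctorDesc]
    simp
  · refine mapBifunctor.hom_ext (fun p' q' h' => ?_)
    rw [ι_mapBifunctorDesc_assoc]
    by_cases hq : q' = q₀
    · subst hq
      obtain rfl : p' = p := by
        change p' + q' = n at h'
        omega
      simp
    · rw [dif_neg hq, zero_comp]
      exact (((F.obj (K₁.X p')).map_isZero (hK₂ q' hq)).eq_of_src _ _)

/-- If `K₂` is concentrated in degree `q₀`, the differential on the `(p, q₀)` summand is
induced by the differential of `K₁`. -/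
lemma ι_d_of_concentrated₂ (q₀ : ℤ) (hK₂ : ∀ q, q ≠ q₀ → IsZero (K₂.X q)) (p n p' n' : ℤ)
    (h : p + q₀ = n) (hp : p + 1 = p') (hn : n + 1 = n') :
    CochainComplex.ιMapBifunctor K₁ K₂ F p q₀ n h ≫ (CochainComplex.mapBifunctor K₁ K₂ F).d n n' =
      (F.map (K₁.d p p')).app (K₂.X q₀) ≫
        CochainComplex.ιMapBifunctor K₁ K₂ F p' q₀ n' (by omega) := by
  subst hp hn
  rw [mapBifunctor.d_eq, Preadditive.comp_add, mapBifunctor.ι_D₁, mapBifunctor.ι_D₂]
  rw [mapBifunctor.d₁_eq K₁ K₂ F (.up ℤ) (show (ComplexShape.up ℤ).Rel p (p + 1) by simp) q₀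
      (n + 1) (by simp; omega),
    mapBifunctor.d₂_eq K₁ K₂ F (.up ℤ) p (show (ComplexShape.up ℤ).Rel q₀ (q₀ + 1) by simp)
      (n + 1) (by simp; omega)]
  have hz : K₂.d q₀ (q₀ + 1) = 0 := (hK₂ (q₀ + 1) (by omega)).eq_of_tgt _ _
  rw [hz]
  simp

end general

section modules

variable {R : Type u} [CommRing R]

/-- A complex concentrated in one degree with flat term there is K-flat. -/
theorem kflat_of_concentrated (K : Cx R) (q₀ : ℤ) (hK : ∀ q, q ≠ q₀ → IsZero (K.X q))
    (hflat : Module.Flat R (K.X q₀)) : KFlat K := by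
  intro L hL
  rw [acyc_iff_exactAt] at hL ⊢
  intro n
  rw [HomologicalComplex.exactAt_iff' _ (n - 1) n (n + 1) (by simp) (by simp)]
  have hLp := (HomologicalComplex.exactAt_iff' L (n - q₀ - 1) (n - q₀) (n - q₀ + 1) (by simp)
    (by simp)).1 (hL (n - q₀))
  have hex := Module.Flat.rTensor_shortComplex_exact (K.X q₀) _ hLp
  have h1 : n - q₀ - 1 + q₀ = n - 1 := by omega
  have h2 : n - q₀ + q₀ = n := by omega
  have h3 : n - q₀ + 1 + q₀ = n + 1 := by omega
  haveI i1 := isIso_ι_of_concentrated₂ (curriedTensor (ModuleCat.{u} R)) L K q₀ hK (n - q₀ - 1)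
    (n - 1) h1
  haveI i2 := isIso_ι_of_concentrated₂ (curriedTensor (ModuleCat.{u} R)) L K q₀ hK (n - q₀)
    n h2
  haveI i3 := isIso_ι_of_concentrated₂ (curriedTensor (ModuleCat.{u} R)) L K q₀ hK (n - q₀ + 1)
    (n + 1) h3
  refine ShortComplex.exact_of_iso ?_ hex
  refine ShortComplex.isoMk
    (@asIso _ _ _ _ _ i1) (@asIso _ _ _ _ _ i2) (@asIso _ _ _ _ _ i3) ?_ ?_
  · exact (ι_d_of_concentrated₂ (curriedTensor (ModuleCat.{u} R)) L K q₀ hK (n - q₀ - 1) (n - 1)
      (n - q₀) n (by omega) (by omega) (by omega))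
  · exact (ι_d_of_concentrated₂ (curriedTensor (ModuleCat.{u} R)) L K q₀ hK (n - q₀) n
      (n - q₀ + 1) (n + 1) (by omega) (by omega) (by omega))

/-- two-out-of-three for degreewise split short exact sequences (middle term). -/
theorem KFlat.of_degreewiseSplit₂ (S : ShortComplex (Cx R))
    (σ : ∀ n, (S.map (HomologicalComplex.eval _ _ n)).Splitting)
    (h₁ : KFlat S.X₁) (h₃ : KFlat S.X₃) : KFlat S.X₂ := by
  have hc : KFlat (mappingCone (homOfDegreewiseSplit S σ)) :=
    KFlat.cone _ h₃ ((kflat_shift_iff _ 1).2 h₁)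
  exact (kflat_shift_iff _ 1).1 (KFlat.of_iso (mappingConeHomOfDegreewiseSplitIso S σ) hc)

theorem KFlat.of_degreewiseSplit₁ (S : ShortComplex (Cx R))
    (σ : ∀ n, (S.map (HomologicalComplex.eval _ _ n)).Splitting)
    (h₂ : KFlat S.X₂) (h₃ : KFlat S.X₃) : KFlat S.X₁ := by
  have hc : KFlat (mappingCone (homOfDegreewiseSplit S σ)) :=
    KFlat.of_iso (mappingConeHomOfDegreewiseSplitIso S σ).symm ((kflat_shift_iff _ 1).2 h₂)
  exact (kflat_shift_iff _ 1).1 (KFlat.of_cone_left _ h₃ hc)

theorem KFlat.of_degreewiseSplit₃ (S : ShortComplex (Cx R))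
    (σ : ∀ n, (S.map (HomologicalComplex.eval _ _ n)).Splitting)
    (h₁ : KFlat S.X₁) (h₂ : KFlat S.X₂) : KFlat S.X₃ := by
  have hc : KFlat (mappingCone (homOfDegreewiseSplit S σ)) :=
    KFlat.of_iso (mappingConeHomOfDegreewiseSplitIso S σ).symm ((kflat_shift_iff _ 1).2 h₂)
  exact KFlat.of_cone_right _ ((kflat_shift_iff _ 1).2 h₁) hc

open Groth.Agent.H4.SubCx Groth.Agent.H4.DRing1

/-- the degreewise splitting of the brutal truncation sequence. -/
noncomputable def brutalSplitting (K : Cx R) (n i : ℤ) :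
    ((sc K (brutal K n) (brutal_stable K n)).map (HomologicalComplex.eval _ _ i)).Splitting := by
  by_cases h : n ≤ i
  · refine ShortComplex.Splitting.ofIsIsoOfIsZero _ ?_ ?_
    · have hb := brutal_of_le K h
      change IsIso (ModuleCat.ofHom (brutal K n i).subtype)
      rw [ConcreteCategory.isIso_iff_bijective]
      refine ⟨Subtype.val_injective, fun x => ⟨⟨x, by rw [hb]; exact Submodule.mem_top⟩, rfl⟩⟩
    · have hb := brutal_of_le K h
      change IsZero (ModuleCat.of R (K.X i ⧸ brutal K n i))
      haveI : Subsingleton (K.X i ⧸ brutal K n i) := by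
        rw [hb]
        exact Submodule.Quotient.subsingleton_iff.2 rfl
      exact ModuleCat.isZero_of_subsingleton _
  · refine ShortComplex.Splitting.ofIsZeroOfIsIso _ ?_ ?_
    · have hb := brutal_of_lt K (not_le.mp h)
      change IsZero (ModuleCat.of R (brutal K n i))
      haveI : Subsingleton (brutal K n i) := by rw [hb]; infer_instance
      exact ModuleCat.isZero_of_subsingleton _
    · have hb := brutal_of_lt K (not_le.mp h)
      change IsIso (ModuleCat.ofHom (brutal K n i).mkQ)
      rw [ConcreteCategory.isIso_iff_bijective]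
      refine ⟨?_, Submodule.Quotient.mk_surjective _⟩
      intro x y hxy
      have := (Submodule.Quotient.eq _).1 hxy
      rw [hb, Submodule.mem_bot, sub_eq_zero] at this
      exact this

/-- A complex with all terms zero is K-flat. -/
lemma kflat_of_isZero_X (K : Cx R) (hK : ∀ q, IsZero (K.X q)) : KFlat K := by
  intro L _ n
  have hz : IsZero ((L ⊗ K).X n) := by
    rw [IsZero.iff_id_eq_zero]
    refine mapBifunctor.hom_ext (fun p q hpq => ?_)
    exact (((curriedTensor (ModuleCat.{u} R)).obj (L.X p)).map_isZero (hK q)).eq_of_src _ _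
  exact ShortComplex.isZero_homology_of_isZero_X₂ _ hz

/-- bounded termwise flat complexes are K-flat (induction on the length). -/
theorem kflat_of_bounded_aux (n : ℕ) : ∀ (K : Cx R) (a : ℤ),
    (∀ i, i < a → IsZero (K.X i)) → (∀ i, a + n ≤ i → IsZero (K.X i)) →
    (∀ i, Module.Flat R (K.X i)) → KFlat K := by
  induction n with
  | zero =>
    intro K a h1 h2 _
    refine kflat_of_isZero_X K (fun q => ?_)
    by_cases hq : q < a
    · exact h1 q hq
    · exact h2 q (by simp; omega)
  | succ n ih =>
    intro K a h1 h2 hfl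
    have hS := brutal_stable K (a + 1)
    refine KFlat.of_degreewiseSplit₂ (sc K (brutal K (a + 1)) hS) (brutalSplitting K (a + 1)) ?_ ?_
    · refine ih (sub K (brutal K (a + 1)) hS) (a + 1) ?_ ?_ ?_
      · intro i hi
        have hb := brutal_of_lt K hi
        change IsZero (ModuleCat.of R (brutal K (a + 1) i))
        haveI : Subsingleton (brutal K (a + 1) i) := by rw [hb]; infer_instance
        exact ModuleCat.isZero_of_subsingleton _
      · intro i hi
        change IsZero (ModuleCat.of R (brutal K (a + 1) i))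
        haveI : Subsingleton (K.X i) := ModuleCat.subsingleton_of_isZero (h2 i (by push_cast; omega))
        haveI : Subsingleton (brutal K (a + 1) i) := inferInstance
        exact ModuleCat.isZero_of_subsingleton _
      · intro i
        change Module.Flat R (brutal K (a + 1) i)
        by_cases hi : a + 1 ≤ i
        · rw [brutal_of_le K hi]
          haveI := hfl i
          exact Module.Flat.of_linearEquiv (Submodule.topEquiv)
        · rw [brutal_of_lt K (not_le.mp hi)]
          infer_instance
    · refine kflat_of_concentrated _ a ?_ ?_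
      · intro q hq
        change IsZero (ModuleCat.of R (K.X q ⧸ brutal K (a + 1) q))
        by_cases hq' : q < a
        · haveI : Subsingleton (K.X q) := ModuleCat.subsingleton_of_isZero (h1 q hq')
          haveI : Subsingleton (K.X q ⧸ brutal K (a + 1) q) := inferInstance
          exact ModuleCat.isZero_of_subsingleton _
        · have hb := brutal_of_le K (show a + 1 ≤ q by omega)
          haveI : Subsingleton (K.X q ⧸ brutal K (a + 1) q) := by
            rw [hb]
            exact Submodule.Quotient.subsingleton_iff.2 rfl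
          exact ModuleCat.isZero_of_subsingleton _
      · change Module.Flat R (K.X a ⧸ brutal K (a + 1) a)
        rw [brutal_of_lt K (show a < a + 1 by omega)]
        haveI := hfl a
        exact Module.Flat.of_linearEquiv (Submodule.quotEquivOfEqBot (⊥ : Submodule R (K.X a)) rfl)

theorem kflat_of_bounded (K : Cx R) (a b : ℤ)
    (h1 : ∀ i, i < a → IsZero (K.X i)) (h2 : ∀ i, b < i → IsZero (K.X i))
    (hfl : ∀ i, Module.Flat R (K.X i)) : KFlat K := by
  refine kflat_of_bounded_aux (b + 1 - a).toNat K a h1 (fun i hi => h2 i ?_) hfl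
  have := Int.self_le_toNat (b + 1 - a)
  omega

end modules

end Groth.Agent.H4.TC5
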