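import Mathlib
import Groth.Prelude.Def_DRing4
import Groth.Agent.H4.TC5

open CategoryTheory Category Limits HomologicalComplex CochainComplex.HomComplex CochainComplex
  MonoidalCategory

universe u

namespace Groth.Agent.H4.TC6

open Groth.Agent.H4.TC1 Groth.Agent.H4.TC2 Groth.Agent.H4.TC3 Groth.Agent.H4.TC4
  Groth.Agent.H4.TC5 Groth.Agent.H4.SubCx Groth.Agent.H4.DRing1

variable {R : Type u} [CommRing R] (P : Cx R)

/-- the brutal truncation `σ_{≥ q₀} P` -/
noncomputable abbrev br (q₀ : ℤ) : Cx R := sub P (brutal P q₀) (brutal_stable P q₀)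

/-- the inclusion `σ_{≥ q₀} P ⟶ P` -/
noncomputable abbrev brι (q₀ : ℤ) : br P q₀ ⟶ P := Groth.Agent.H4.SubCx.ι P (brutal P q₀) (brutal_stable P q₀)

/-- the degreewise retraction of `brι`. -/
noncomputable def brRlin (q₀ m : ℤ) : P.X m →ₗ[R] brutal P q₀ m :=
  if h : q₀ ≤ m then
    LinearMap.codRestrict (brutal P q₀ m) LinearMap.id (fun x => by
      rw [brutal_of_le P h]; exact Submodule.mem_top)
  else 0

lemma brRlin_apply (q₀ m : ℤ) (h : q₀ ≤ m) (x : P.X m) : (brRlin P q₀ m x : P.X m) = x := by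
  rw [brRlin, dif_pos h]
  rfl

/-- the degreewise retraction of `brι`. -/
noncomputable def brR (q₀ m : ℤ) : P.X m ⟶ (br P q₀).X m := ModuleCat.ofHom (brRlin P q₀ m)

lemma brι_brR (q₀ m : ℤ) : (brι P q₀).f m ≫ brR P q₀ m = 𝟙 _ := by
  by_cases h : q₀ ≤ m
  · ext x
    apply Subtype.ext
    exact brRlin_apply P q₀ m h _
  · have hb := brutal_of_lt P (not_le.mp h)
    haveI : Subsingleton (brutal P q₀ m) := by rw [hb]; infer_instance
    have hz : IsZero ((br P q₀).X m) := ModuleCat.isZero_of_subsingleton (ModuleCat.of R _)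
    exact hz.eq_of_src _ _

lemma brR_brι (q₀ m : ℤ) (h : q₀ ≤ m) : brR P q₀ m ≫ (brι P q₀).f m = 𝟙 _ := by
  ext x
  exact brRlin_apply P q₀ m h x

lemma isZero_br_X_of_lt (q₀ m : ℤ) (h : m < q₀) : IsZero ((br P q₀).X m) := by
  have hb := brutal_of_lt P h
  haveI : Subsingleton (brutal P q₀ m) := by rw [hb]; infer_instance
  exact ModuleCat.isZero_of_subsingleton (ModuleCat.of R _)

lemma isZero_br_X_of_isZero (q₀ m : ℤ) (h : IsZero (P.X m)) : IsZero ((br P q₀).X m) := by
  haveI : Subsingleton (P.X m) := ModuleCat.subsingleton_of_isZero h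
  haveI : Subsingleton (brutal P q₀ m) := inferInstance
  exact ModuleCat.isZero_of_subsingleton (ModuleCat.of R _)

lemma flat_br_X (q₀ m : ℤ) (hfl : Module.Flat R (P.X m)) : Module.Flat R ((br P q₀).X m) := by
  change Module.Flat R (brutal P q₀ m)
  by_cases hi : q₀ ≤ m
  · rw [brutal_of_le P hi]
    exact Module.Flat.of_linearEquiv (Submodule.topEquiv)
  · rw [brutal_of_lt P (not_le.mp hi)]
    infer_instance

/-- the transition maps between brutal truncations. -/
noncomputable def brMap {q₀ q₁ : ℤ} (h : q₁ ≤ q₀) : br P q₀ ⟶ br P q₁ where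
  f m := ModuleCat.ofHom (Submodule.inclusion (by
    by_cases hm : q₀ ≤ m
    · rw [brutal_of_le P (show q₁ ≤ m by omega)]
      exact le_top
    · rw [brutal_of_lt P (not_le.mp hm)]
      exact bot_le))
  comm' i j _ := by
    ext x
    rfl

lemma brMap_ι {q₀ q₁ : ℤ} (h : q₁ ≤ q₀) : brMap P h ≫ brι P q₁ = brι P q₀ := by
  ext m x
  rw [HomologicalComplex.comp_f, ModuleCat.comp_apply]
  rfl

/-- the retraction cochain -/
noncomputable def brRc (q₀ : ℤ) : Cochain P (br P q₀) 0 := Cochain.ofHoms (brR P q₀)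

lemma brι_brRc (q₀ : ℤ) :
    (Cochain.ofHom (brι P q₀)).comp (brRc P q₀) (add_zero 0) = Cochain.ofHom (𝟙 _) := by
  ext m
  simp [brRc, brι_brR]

variable (L : Cx R)

lemma whiskerLeft_brι_f_comp (q₀ m : ℤ) : (L ◁ brι P q₀).f m ≫
    (map₂ (curriedTensor (ModuleCat.{u} R)) L (brRc P q₀)).v m m (add_zero m) = 𝟙 _ := by
  have h1 := congrArg (map₂ (curriedTensor (ModuleCat.{u} R)) L) (brι_brRc P q₀)
  rw [map₂_comp, map₂_ofHom, map₂_ofHom, mapBifunctorMap_id] at h1
  have h2 := Cochain.congr_v h1 m m (add_zero m)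
  rw [Cochain.zero_cochain_comp_v, Cochain.ofHom_v, Cochain.ofHom_v, HomologicalComplex.id_f] at h2
  exact h2

lemma injective_whiskerLeft_brι (q₀ m : ℤ) : Function.Injective ((L ◁ brι P q₀).f m) := by
  haveI : Mono ((L ◁ brι P q₀).f m) := mono_of_mono_fac (whiskerLeft_brι_f_comp P L q₀ m)
  exact (ModuleCat.mono_iff_injective _).1 this

lemma exists_mem_range (n : ℤ) (z : (L ⊗ P).X n) :
    ∃ q₀, z ∈ LinearMap.range ((L ◁ brι P q₀).f n).hom := by
  let U : ℤ → Submodule R ((L ⊗ P).X n) := fun q₀ => LinearMap.range ((L ◁ brι P q₀).f n).hom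
  have hmono : ∀ q₀ q₁ : ℤ, q₁ ≤ q₀ → U q₀ ≤ U q₁ := by
    rintro q₀ q₁ h _ ⟨y, rfl⟩
    refine ⟨(L ◁ brMap P h).f n y, ?_⟩
    rw [← ModuleCat.comp_apply, ← HomologicalComplex.comp_f, ← MonoidalCategory.whiskerLeft_comp,
      brMap_ι]
  have hdir : Directed (· ≤ ·) U := fun q₀ q₁ =>
    ⟨min q₀ q₁, hmono _ _ (min_le_left _ _), hmono _ _ (min_le_right _ _)⟩
  have htop : (⨆ q₀, U q₀) = ⊤ := by
    have hq : ModuleCat.ofHom (⨆ q₀, U q₀).mkQ = 0 := by
      refine mapBifunctor.hom_ext (fun p q hpq => ?_)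
      rw [comp_zero]
      have hfac : ιMapBifunctor L P (curriedTensor (ModuleCat.{u} R)) (.up ℤ) p q n hpq =
          (L.X p ◁ brR P q q) ≫ ιMapBifunctor L (br P q) (curriedTensor (ModuleCat.{u} R)) (.up ℤ)
            p q n hpq ≫ (L ◁ brι P q).f n := by
        have := ι_mapBifunctorMap (𝟙 L) (brι P q) (curriedTensor (ModuleCat.{u} R)) (.up ℤ) p q n hpq
        rw [show (L ◁ brι P q) = mapBifunctorMap (𝟙 L) (brι P q) (curriedTensor (ModuleCat.{u} R))
          (.up ℤ) from rfl, this]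
        rw [HomologicalComplex.id_f, CategoryTheory.Functor.map_id, NatTrans.id_app, id_comp,
          curriedTensor_obj_map, ← MonoidalCategory.whiskerLeft_comp_assoc, brR_brι P q q le_rfl,
          MonoidalCategory.whiskerLeft_id, id_comp]
      rw [hfac, assoc, assoc]
      ext x
      rw [ModuleCat.comp_apply, ModuleCat.comp_apply, ModuleCat.comp_apply]
      change Submodule.Quotient.mk _ = 0
      rw [Submodule.Quotient.mk_eq_zero]
      exact (le_iSup U q) ⟨_, rfl⟩
    have hk : LinearMap.ker (⨆ q₀, U q₀).mkQ = ⊤ := by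
      have := congrArg ModuleCat.Hom.hom hq
      rw [ModuleCat.hom_ofHom] at this
      rw [this]
      exact LinearMap.ker_zero
    rwa [Submodule.ker_mkQ] at hk
  have hz : z ∈ ⨆ q₀, U q₀ := htop ▸ Submodule.mem_top
  exact (Submodule.mem_iSup_of_directed U hdir).1 hz

/-- S6901: bounded above termwise flat complexes are K-flat. -/
theorem kflat_of_boundedAbove (b : ℤ) (hb : ∀ i, b < i → IsZero (P.X i))
    (hfl : ∀ i, Module.Flat R (P.X i)) : KFlat P := by
  intro L hL
  rw [acyc_iff_exactAt]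
  intro n
  rw [HomologicalComplex.exactAt_iff' _ (n - 1) n (n + 1) (by simp) (by simp),
    ShortComplex.moduleCat_exact_iff]
  intro z hz
  change ((L ⊗ P).d n (n + 1)) z = 0 at hz
  obtain ⟨q₀, z', rfl⟩ := exists_mem_range P L n z
  have hbr : KFlat (br P q₀) := kflat_of_bounded (br P q₀) q₀ b
    (fun i hi => isZero_br_X_of_lt P q₀ i hi) (fun i hi => isZero_br_X_of_isZero P q₀ i (hb i hi))
    (fun i => flat_br_X P q₀ i (hfl i))
  have hac := (acyc_iff_exactAt _).1 (hbr L hL) n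
  rw [HomologicalComplex.exactAt_iff' _ (n - 1) n (n + 1) (by simp) (by simp),
    ShortComplex.moduleCat_exact_iff] at hac
  have hz' : ((L ⊗ br P q₀).d n (n + 1)) z' = 0 := by
    apply injective_whiskerLeft_brι P L q₀ (n + 1)
    rw [map_zero, ← ModuleCat.comp_apply, ← (L ◁ brι P q₀).comm, ModuleCat.comp_apply]
    exact hz
  obtain ⟨(w' : (L ⊗ br P q₀).X (n - 1)), hw'⟩ := hac z' hz'
  change ((L ⊗ br P q₀).d (n - 1) n) w' = z' at hw'
  refine ⟨(L ◁ brι P q₀).f (n - 1) w', ?_⟩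
  change ((L ⊗ P).d (n - 1) n) _ = _
  have hc := ConcreteCategory.congr_hom ((L ◁ brι P q₀).comm (n - 1) n) w'
  rw [ModuleCat.comp_apply, ModuleCat.comp_apply] at hc
  exact hc.trans (congrArg ((L ◁ brι P q₀).f n) hw')

end Groth.Agent.H4.TC6
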