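import Mathlib
import Groth.Prelude.Def_DRing4
import Groth.Agent.H4.TC6
import Groth.Agent.H4.KProj4
import Groth.Agent.H4.DNak3

open CategoryTheory Category Limits HomologicalComplex CochainComplex.HomComplex CochainComplex
  MonoidalCategory

universe u w w'

namespace Groth.Agent.H4.TC7

open Groth.Agent.H4.TC1 Groth.Agent.H4.TC2 Groth.Agent.H4.TC3 Groth.Agent.H4.TC4
  Groth.Agent.H4.TC5

variable {R : Type u} [CommRing R]

section colim

variable {J : Type w} [Category.{w'} J] [HasColimitsOfShape J (ModuleCat.{u} R)]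
  (L : Cx R) (F : J ⥤ Cx R) (c : Cocone F) (hc : IsColimit c)

lemma ι_whiskerLeft_f {A B : Cx R} (f : A ⟶ B) (p q m : ℤ) (hpq : p + q = m) :
    ιMapBifunctor L A (curriedTensor (ModuleCat.{u} R)) (.up ℤ) p q m hpq ≫ (L ◁ f).f m =
      (L.X p ◁ f.f q) ≫ ιMapBifunctor L B (curriedTensor (ModuleCat.{u} R)) (.up ℤ) p q m hpq := by
  have h2 := ι_mapBifunctorMap (𝟙 L) f (curriedTensor (ModuleCat.{u} R)) (.up ℤ) p q m hpq
  rw [HomologicalComplex.id_f, CategoryTheory.Functor.map_id, NatTrans.id_app, id_comp] at h2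
  exact h2

/-- the colimit cocone `L^p ⊗ F(j)^q → L^p ⊗ c.pt^q`. -/
noncomputable def isColimitPQ (p q : ℤ) :
    IsColimit ((HomologicalComplex.eval _ _ q ⋙ tensorLeft (L.X p)).mapCocone c) :=
  isColimitOfPreserves _ hc

/-- auxiliary cocone -/
noncomputable def auxCocone (m : ℤ)
    (s : Cocone ((F ⋙ tensorLeft L) ⋙ HomologicalComplex.eval _ _ m)) (p q : ℤ)
    (hpq : p + q = m) : Cocone (F ⋙ HomologicalComplex.eval _ _ q ⋙ tensorLeft (L.X p)) where
  pt := s.pt
  ι :=
    { app := fun j => ιMapBifunctor L (F.obj j) (curriedTensor (ModuleCat.{u} R)) (.up ℤ)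
              p q m hpq ≫ s.ι.app j
      naturality := fun j j' f => by
        have h1 := s.ι.naturality f
        dsimp at h1 ⊢
        rw [comp_id] at h1 ⊢
        rw [← h1]
        exact ((reassoc_of% (ι_whiskerLeft_f L (F.map f) p q m hpq)) _).symm }

/-- auxiliary descent map -/
noncomputable def descAux (m : ℤ)
    (s : Cocone ((F ⋙ tensorLeft L) ⋙ HomologicalComplex.eval _ _ m)) :
    (L ⊗ c.pt).X m ⟶ s.pt :=
  mapBifunctorDesc (fun p q hpq => (isColimitPQ L F c hc p q).desc (auxCocone L F m s p q hpq))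

lemma ι_descAux (m : ℤ) (s : Cocone ((F ⋙ tensorLeft L) ⋙ HomologicalComplex.eval _ _ m))
    (p q : ℤ) (hpq : p + q = m) :
    ιMapBifunctor L c.pt (curriedTensor (ModuleCat.{u} R)) (.up ℤ) p q m hpq ≫
      descAux L F c hc m s = (isColimitPQ L F c hc p q).desc (auxCocone L F m s p q hpq) :=
  ι_mapBifunctorDesc _ _ _ _

lemma whisker_desc (m : ℤ) (s : Cocone ((F ⋙ tensorLeft L) ⋙ HomologicalComplex.eval _ _ m))
    (p q : ℤ) (hpq : p + q = m) (j : J) :
    (L.X p ◁ (c.ι.app j).f q) ≫ (isColimitPQ L F c hc p q).desc (auxCocone L F m s p q hpq) =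
      ιMapBifunctor L (F.obj j) (curriedTensor (ModuleCat.{u} R)) (.up ℤ) p q m hpq ≫ s.ι.app j :=
  (isColimitPQ L F c hc p q).fac (auxCocone L F m s p q hpq) j

include hc in
/-- `tensorLeft L` preserves colimits, degreewise statement. -/
noncomputable def isColimitTensorLeftEval (m : ℤ) :
    IsColimit ((HomologicalComplex.eval _ _ m).mapCocone ((tensorLeft L).mapCocone c)) where
  desc s := descAux L F c hc m s
  fac s j := by
    refine mapBifunctor.hom_ext (fun p q hpq => ?_)
    have h1 := (reassoc_of% (ι_whiskerLeft_f L (c.ι.app j) p q m hpq)) (descAux L F c hc m s)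
    have h2 := congrArg (fun t => (L.X p ◁ (c.ι.app j).f q) ≫ t) (ι_descAux L F c hc m s p q hpq)
    have h3 := whisker_desc L F c hc m s p q hpq j
    exact h1.trans (h2.trans h3)
  uniq s φ hφ := by
    refine mapBifunctor.hom_ext (fun p q hpq => ?_)
    refine Eq.trans ?_ (ι_descAux L F c hc m s p q hpq).symm
    refine (isColimitPQ L F c hc p q).hom_ext (fun j => ?_)
    refine Eq.trans ?_ (whisker_desc L F c hc m s p q hpq j).symm
    have h3 : (L ◁ c.ι.app j).f m ≫ φ = s.ι.app j := hφ j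
    rw [← h3]
    exact ((reassoc_of% (ι_whiskerLeft_f L (c.ι.app j) p q m hpq)) _).symm

include hc in
/-- `tensorLeft L` preserves colimits. -/
noncomputable def isColimitTensorLeft : IsColimit ((tensorLeft L).mapCocone c) :=
  isColimitOfEval _ _ (fun m => isColimitTensorLeftEval L F c hc m)

instance preservesColimitsOfShape_tensorLeft : PreservesColimitsOfShape J (tensorLeft L) where
  preservesColimit {F} := ⟨fun {c} hc => ⟨isColimitTensorLeft L F c hc⟩⟩

end colim

section coprod

attribute [local instance] HasDerivedCategory.standard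

open DerivedCategory

lemma acyc_iff_isZero_Q (X : Cx R) : Acyc X ↔ IsZero (Q.obj X) := by
  constructor
  · intro h
    exact Groth.Agent.H4.DNak3.isZero_Q_of_exactAt X ((acyc_iff_exactAt X).1 h)
  · intro h n
    exact ((homologyFunctor (ModuleCat.{u} R) n).map_isZero h).of_iso
      ((homologyFunctorFactors (ModuleCat.{u} R) n).app X).symm

lemma acyc_sigma (A : ℕ → Cx R) (h : ∀ n, Acyc (A n)) : Acyc (∐ A) := by
  rw [acyc_iff_isZero_Q]
  haveI := Groth.Agent.H4.KProj.preservesColimit_Q A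
  haveI := Groth.Agent.H4.KProj.hasCoproduct_Q A
  refine IsZero.of_iso ?_ (PreservesCoproduct.iso Q A)
  rw [IsZero.iff_id_eq_zero]
  refine Sigma.hom_ext _ _ (fun n => ?_)
  exact ((acyc_iff_isZero_Q (A n)).1 (h n)).eq_of_src _ _

lemma kflat_sigma (P : ℕ → Cx R) (h : ∀ n, KFlat (P n)) : KFlat (∐ P) := by
  intro L hL
  refine Acyc.of_iso (PreservesCoproduct.iso (tensorLeft L) P).symm ?_
  exact acyc_sigma _ (fun n => h n L hL)

end coprod

section filtered

variable {J : Type u} [SmallCategory J] [IsFiltered J] (F : J ⥤ Cx R) (c : Cocone F)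
  (hc : IsColimit c)

lemma hom_comm_apply {A B : Cx R} (f : A ⟶ B) (i j : ℤ) (x : A.X i) :
    B.d i j (f.f i x) = f.f j (A.d i j x) := by
  have h := ConcreteCategory.congr_hom (f.comm i j) x
  rw [ModuleCat.comp_apply, ModuleCat.comp_apply] at h
  exact h

include hc in
lemma acyc_of_isColimit_filtered (h : ∀ j, Acyc (F.obj j)) : Acyc c.pt := by
  rw [acyc_iff_exactAt]
  intro n
  rw [HomologicalComplex.exactAt_iff' _ (n - 1) n (n + 1) (by simp) (by simp),
    ShortComplex.moduleCat_exact_iff]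
  intro z hz
  change (c.pt.d n (n + 1)) z = 0 at hz
  have hcn : ∀ m : ℤ, IsColimit ((HomologicalComplex.eval _ _ m).mapCocone c) :=
    fun m => isColimitOfPreserves _ hc
  obtain ⟨j, (y : (F.obj j).X n), hy⟩ := Concrete.isColimit_exists_rep _ (hcn n) z
  change (c.ι.app j).f n y = z at hy
  have h0 : (c.ι.app j).f (n + 1) ((F.obj j).d n (n + 1) y) = (c.ι.app j).f (n + 1) 0 := by
    rw [map_zero]
    have hcomm := hom_comm_apply (c.ι.app j) n (n + 1) y
    rw [← hcomm, hy]
    exact hz
  obtain ⟨k, f, g, hfg⟩ := Concrete.isColimit_exists_of_rep_eq _ (hcn (n + 1)) _ _ h0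
  change (F.map f).f (n + 1) ((F.obj j).d n (n + 1) y) = (F.map g).f (n + 1) 0 at hfg
  rw [map_zero] at hfg
  have hk := (acyc_iff_exactAt _).1 (h k) n
  rw [HomologicalComplex.exactAt_iff' _ (n - 1) n (n + 1) (by simp) (by simp),
    ShortComplex.moduleCat_exact_iff] at hk
  have hyk : ((F.obj k).d n (n + 1)) ((F.map f).f n y) = 0 := by
    rw [hom_comm_apply (F.map f) n (n + 1) y]
    exact hfg
  obtain ⟨(w : (F.obj k).X (n - 1)), hw⟩ := hk ((F.map f).f n y) hyk
  change ((F.obj k).d (n - 1) n) w = (F.map f).f n y at hw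
  refine ⟨(c.ι.app k).f (n - 1) w, ?_⟩
  change (c.pt.d (n - 1) n) _ = z
  have hcomm := hom_comm_apply (c.ι.app k) (n - 1) n w
  refine hcomm.trans ?_
  rw [hw, ← hy]
  have hnat := c.w f
  rw [← hnat, HomologicalComplex.comp_f, ModuleCat.comp_apply]

include hc in
/-- S6903: a filtered colimit of K-flat complexes is K-flat. -/
theorem kflat_of_isColimit_filtered (h : ∀ j, KFlat (F.obj j)) : KFlat c.pt := by
  intro L hL
  exact acyc_of_isColimit_filtered (F ⋙ tensorLeft L) ((tensorLeft L).mapCocone c)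
    (isColimitOfPreserves _ hc) (fun j => h j L hL)

end filtered

end Groth.Agent.H4.TC7
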