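import Mathlib
import Groth.Prelude.Def_DRing4
import Groth.Agent.H4.TC7
import Groth.Agent.H4.KProj8

open CategoryTheory Category Limits HomologicalComplex CochainComplex.HomComplex CochainComplex
  MonoidalCategory ZeroObject

universe u

namespace Groth.Agent.H4.TC8

open Groth.Agent.H4.TC1 Groth.Agent.H4.TC2 Groth.Agent.H4.TC3 Groth.Agent.H4.TC4
  Groth.Agent.H4.TC5 Groth.Agent.H4.TC6 Groth.Agent.H4.TC7

variable {R : Type u} [CommRing R]

lemma kflat_zero : KFlat (0 : Cx R) :=
  kflat_of_isZero_X 0 (fun q => (HomologicalComplex.eval _ _ q).map_isZero (isZero_zero _))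

/-- contractible complexes are K-flat -/
lemma kflat_of_contractible (D : Cx R) (h : Homotopy (𝟙 D) 0) : KFlat D := by
  refine KFlat.of_homotopyEquiv (A := 0) ?_ kflat_zero
  exact
    { hom := 0
      inv := 0
      homotopyHomInvId := Homotopy.ofEq ((isZero_zero _).eq_of_src _ _)
      homotopyInvHomId := (Homotopy.ofEq (by simp)).trans h.symm }

/-- `T ⊞ D` is homotopy equivalent to `T` if `D` is contractible. -/
noncomputable def homotopyEquivBiprod (T D : Cx R) (h : Homotopy (𝟙 D) 0) :
    HomotopyEquiv T (T ⊞ D) where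
  hom := biprod.inl
  inv := biprod.fst
  homotopyHomInvId := Homotopy.ofEq biprod.inl_fst
  homotopyInvHomId := by
    have h0 : Homotopy ((biprod.snd : T ⊞ D ⟶ D) ≫ (biprod.inr : D ⟶ T ⊞ D)) 0 :=
      (Homotopy.ofEq (by simp)).trans (((h.compLeft (biprod.snd : T ⊞ D ⟶ D)).compRight
        (biprod.inr : D ⟶ T ⊞ D)).trans (Homotopy.ofEq (by simp)))
    exact (Homotopy.ofEq (by simp)).trans (((Homotopy.refl (biprod.fst ≫ biprod.inl)).add
      h0.symm).trans (Homotopy.ofEq biprod.total))

section cover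

variable (X : Cx R)

/-- free modules on the terms of `X` (shifted), with zero differential. -/
noncomputable def coverG : Cx R where
  X n := ModuleCat.of R (X.X (n + (-1)) →₀ R)
  d _ _ := 0
  shape _ _ _ := rfl
  d_comp_d' _ _ _ _ _ := by simp

/-- the canonical degreewise surjections (components) -/
noncomputable def coverαv (p q : ℤ) (hpq : p + (-1) = q) : (coverG X).X p ⟶ X.X q :=
  ModuleCat.ofHom (((X.XIsoOfEq hpq).hom.hom).comp (Finsupp.linearCombination R
    (id : X.X (p + (-1)) → X.X (p + (-1)))))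

lemma coverαv_surjective (p q : ℤ) (hpq : p + (-1) = q) :
    Function.Surjective (coverαv X p q hpq) := by
  intro x
  obtain ⟨y, rfl⟩ : ∃ y, (X.XIsoOfEq hpq).hom y = x :=
    ⟨(X.XIsoOfEq hpq).inv x, by
      rw [← ModuleCat.comp_apply, Iso.inv_hom_id]
      rfl⟩
  refine ⟨Finsupp.single y 1, ?_⟩
  change (X.XIsoOfEq hpq).hom.hom (Finsupp.linearCombination R id (Finsupp.single y 1)) = _
  simp

/-- the canonical degreewise surjections -/
noncomputable def coverα : Cochain (coverG X) X (-1) :=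
  Cochain.mk (fun p q hpq => coverαv X p q hpq)

lemma coverα_surjective (p q : ℤ) (hpq : p + (-1) = q) :
    Function.Surjective ((coverα X).v p q hpq) := by
  rw [coverα, Cochain.mk_v]
  exact coverαv_surjective X p q hpq

/-- the chain map `G → X` which is the coboundary of `coverα`. -/
noncomputable def coverβ : coverG X ⟶ X :=
  Cocycle.homOf (Cocycle.mk (δ (-1) 0 (coverα X)) 1 (zero_add 1) (δ_δ _ _ _ _))

/-- the contractible cover -/
noncomputable def coverπ : mappingCone (𝟙 (coverG X)) ⟶ X :=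
  mappingCone.desc (𝟙 (coverG X)) (coverα X) (coverβ X) (by simp [coverβ])

lemma coverπ_surjective (n : ℤ) : Function.Surjective ((coverπ X).f n) := by
  have h := mappingCone.inl_v_desc_f (𝟙 (coverG X)) (coverα X) (coverβ X)
    (by simp [coverβ]) (n + 1) n (by omega)
  intro x
  obtain ⟨y, hy⟩ := coverα_surjective X (n + 1) n (by omega) x
  refine ⟨(mappingCone.inl (𝟙 (coverG X))).v (n + 1) n (by omega) y, ?_⟩
  rw [← hy, ← h]
  rfl

lemma free_coverG_X (n : ℤ) : Module.Free R ((coverG X).X n) := by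
  change Module.Free R (X.X (n + (-1)) →₀ R)
  infer_instance

end cover

section resolution

open Groth.Agent.H4.KProj DerivedCategory
open DRing (toD)

attribute [local instance] HasDerivedCategory.standard

lemma kflat_of_isBAF {b : ℤ} {E : Cx R} (hE : Groth.Agent.H4.ResP.IsBAF b E) : KFlat E :=
  kflat_of_boundedAbove E b hE.1 (fun i => by haveI := hE.2 i; infer_instance)

lemma kflat_tel (P : ℕ → Cx R) (g : ∀ n, P n ⟶ P (n + 1)) (hP : ∀ n, KFlat (P n)) :
    KFlat (tel P g) :=
  KFlat.cone _ (kflat_sigma P hP) (kflat_sigma P hP)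

/-- every complex of modules admits a termwise free K-projective and K-flat resolution. -/
theorem exists_kproj_free_kflat (X : Cx R) : ∃ (T : Cx R) (a : T ⟶ X), T.IsKProjective ∧
    (∀ i, Module.Free R (T.X i)) ∧ KFlat T ∧ QuasiIso a := by
  haveI := hasExactColimitsOfShape_nat (R := R)
  let L := tower X
  have hb : ∀ (n : ℕ) (i : ℤ), (n : ℤ) < i →
      IsZero ((homologyFunctor (ModuleCat.{u} R) i).obj (toD (L.obj n))) := fun n i hi =>
    Groth.Agent.H4.PC.isZero_homology_toD_of_isZero _ i (isZero_tr_X X hi)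
  have hex : ∀ n : ℕ, ∃ (P : Cx R) (a : P ⟶ L.obj n), Groth.Agent.H4.ResP.IsBAF (n : ℤ) P ∧
      QuasiIso a :=
    fun n => Groth.Agent.H4.ResP.exists_quasiIso_of_homology_bounded (L.obj n) n (hb n)
  choose P a hP ha using hex
  haveI : ∀ n, (P n).IsKProjective := fun n => (hP n).isKProjective
  haveI : ∀ n, QuasiIso (a n) := ha
  have hg : ∀ n : ℕ, ∃ g : P n ⟶ P (n + 1), Q.map g =
      Q.map (a n) ≫ Q.map (L.map (homOfLE (Nat.le_succ n))) ≫ inv (Q.map (a (n + 1))) :=
    fun n => Groth.Agent.H3.PerfAux.exists_map_of_isKProjective _ _ _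
  choose g hg using hg
  have h1 := isHocolim_tel P g
  have h2 := Groth.Agent.H2.Telescope.isHocolim_of_colimit L
  obtain ⟨φ, -⟩ := exists_iso_of_isHocolim_of_iso (fun n => asIso (Q.map (a n)))
    (fun n => by
      dsimp only [asIso_hom]
      rw [hg n, Category.assoc, Category.assoc, IsIso.inv_hom_id, Category.comp_id]) h1 h2
  let ψ : colimit L ≅ X := (colimit.isColimit L).coconePointUniqueUpToIso (isColimitTowerCocone X)
  obtain ⟨b, hb'⟩ := Groth.Agent.H3.PerfAux.exists_map_of_isKProjective (tel P g) X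
    (φ.hom ≫ Q.map ψ.hom)
  refine ⟨tel P g, b, inferInstance, free_tel_X P g (fun n => (hP n).2),
    kflat_tel P g (fun n => kflat_of_isBAF (hP n)), ?_⟩
  rw [← DerivedCategory.isIso_Q_map_iff_quasiIso, hb']
  infer_instance

/-- S6905 -/
theorem exists_kflat_resolution (M : Cx R) : ∃ (K : Cx R) (f : K ⟶ M), KFlat K ∧
    (∀ i, Module.Flat R (K.X i)) ∧ QuasiIso f ∧ ∀ i : ℤ, Function.Surjective (f.f i) := by
  obtain ⟨T, a, -, hfree, hT, ha⟩ := exists_kproj_free_kflat M
  let D := mappingCone (𝟙 (coverG M))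
  have hD : Homotopy (𝟙 D) 0 := mappingCone.homotopyToZeroOfId _
  let e := homotopyEquivBiprod T D hD
  refine ⟨T ⊞ D, biprod.desc a (coverπ M), KFlat.of_homotopyEquiv e hT, ?_, ?_, ?_⟩
  · intro i
    haveI := hfree i
    haveI : Module.Free R (D.X i) :=
      free_mappingCone_X _ (free_coverG_X M) (free_coverG_X M) i
    have e' := ((HomologicalComplex.biprodXIso T D i) ≪≫
      ModuleCat.biprodIsoProd _ _).toLinearEquiv
    exact Module.Flat.of_linearEquiv e'
  · haveI : QuasiIso (biprod.inl : T ⟶ T ⊞ D) := by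
      change QuasiIso e.hom
      rw [quasiIso_iff]
      intro i
      rw [quasiIsoAt_iff_isIso_homologyMap]
      exact (e.toHomologyIso i).isIso_hom
    haveI : QuasiIso ((biprod.inl : T ⟶ T ⊞ D) ≫ biprod.desc a (coverπ M)) := by
      rw [biprod.inl_desc]
      exact ha
    exact quasiIso_of_comp_left (biprod.inl : T ⟶ T ⊞ D) _
  · intro i x
    obtain ⟨y, hy⟩ := coverπ_surjective M i x
    refine ⟨(biprod.inr : D ⟶ T ⊞ D).f i y, ?_⟩
    rw [← ModuleCat.comp_apply, ← HomologicalComplex.comp_f, biprod.inr_desc]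
    exact hy

end resolution

end Groth.Agent.H4.TC8
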