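import Mathlib
import Groth.Prelude.Def_DRing4
import Groth.Agent.H4.TC8

open CategoryTheory Category Limits HomologicalComplex CochainComplex.HomComplex CochainComplex
  MonoidalCategory ZeroObject Pretriangulated

universe u

namespace Groth.Agent.H4.TC9

open Groth.Agent.H4.TC1 Groth.Agent.H4.TC2 Groth.Agent.H4.TC3 Groth.Agent.H4.TC4
  Groth.Agent.H4.TC5 Groth.Agent.H4.TC6 Groth.Agent.H4.TC7 Groth.Agent.H4.TC8

variable {R : Type u} [CommRing R]

lemma flat_prod (M N : Type u) [AddCommGroup M] [Module R M] [AddCommGroup N] [Module R N]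
    [Module.Flat R M] [Module.Flat R N] : Module.Flat R (M × N) := by
  rw [Module.Flat.iff_lTensor_preserves_injective_linearMap]
  intro P Q _ _ _ _ f hf
  have key : (TensorProduct.prodLeft R R M N Q).toLinearMap ∘ₗ (f.lTensor (M × N)) =
      (LinearMap.prodMap (f.lTensor M) (f.lTensor N)) ∘ₗ
        (TensorProduct.prodLeft R R M N P).toLinearMap := by
    apply TensorProduct.ext'
    rintro ⟨m, n⟩ p
    simp
  have h2 : Function.Injective ((LinearMap.prodMap (f.lTensor M) (f.lTensor N)) ∘ₗ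
      (TensorProduct.prodLeft R R M N P).toLinearMap) := by
    rw [LinearMap.coe_comp]
    refine Function.Injective.comp ?_ (LinearEquiv.injective _)
    exact Function.Injective.prodMap (Module.Flat.lTensor_preserves_injective_linearMap _ hf)
      (Module.Flat.lTensor_preserves_injective_linearMap _ hf)
  rw [← key, LinearMap.coe_comp] at h2
  exact Function.Injective.of_comp h2

lemma flat_mappingCone_X {E₁ E₂ : Cx R} (f : E₁ ⟶ E₂) (h₁ : ∀ i, Module.Flat R (E₁.X i))
    (h₂ : ∀ i, Module.Flat R (E₂.X i)) (i : ℤ) : Module.Flat R ((mappingCone f).X i) := by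
  have e : (mappingCone f).X i ≅ E₁.X (i + 1) ⊞ E₂.X i :=
    HomologicalComplex.homotopyCofiber.XIsoBiprod f i (i + 1) rfl
  have e' : (mappingCone f).X i ≃ₗ[R] (E₁.X (i + 1) × E₂.X i) :=
    (e ≪≫ ModuleCat.biprodIsoProd _ _).toLinearEquiv
  haveI := h₁ (i + 1)
  haveI := h₂ i
  haveI := flat_prod (R := R) (E₁.X (i + 1)) (E₂.X i)
  exact Module.Flat.of_linearEquiv e'

/-- the image in the homotopy category of the cocone triangle is distinguished. -/
lemma mappingCocone_triangleh_distinguished {K L : Cx R} (a : K ⟶ L) :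
    (HomotopyCategory.quotient (ModuleCat.{u} R) (ComplexShape.up ℤ)).mapTriangle.obj
      (mappingCocone.triangle a) ∈ distTriang _ := by
  rw [rotate_distinguished_triangle]
  refine isomorphic_distinguished _ (HomotopyCategory.mappingCone_triangleh_distinguished a) _ ?_
  exact ((HomotopyCategory.quotient (ModuleCat.{u} R)
    (ComplexShape.up ℤ)).mapTriangleRotateIso.app _) ≪≫
    (HomotopyCategory.quotient (ModuleCat.{u} R) (ComplexShape.up ℤ)).mapTriangle.mapIso
      (mappingCocone.rotateTriangleIso a)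

/-- S6908, common core. -/
theorem exists_kflat_factorization (K L : Cx R) (a : K ⟶ L) (hK : KFlat K) :
    ∃ (N : Cx R) (b : K ⟶ N) (c : N ⟶ L), KFlat N ∧
      ((∀ i, Module.Flat R (K.X i)) → ∀ i, Module.Flat R (N.X i)) ∧ QuasiIso c ∧
      Nonempty (Homotopy a (b ≫ c)) := by
  obtain ⟨M, q, hM, hMfl, hq, -⟩ := exists_kflat_resolution (mappingCocone a)
  let ψ : M ⟶ K := q ≫ mappingCocone.fst a
  let Qh := HomotopyCategory.quotient (ModuleCat.{u} R) (ComplexShape.up ℤ)
  have hT₁ := HomotopyCategory.mappingCone_triangleh_distinguished ψ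
  have hT₂ := mappingCocone_triangleh_distinguished a
  have hWq : HomotopyCategory.quasiIso (ModuleCat.{u} R) (ComplexShape.up ℤ) (Qh.map q) := by
    rw [HomotopyCategory.quotient_map_mem_quasiIso_iff]
    exact (HomologicalComplex.mem_quasiIso_iff q).2 hq
  have hW1 : HomotopyCategory.quasiIso (ModuleCat.{u} R) (ComplexShape.up ℤ) (𝟙 (Qh.obj K)) :=
    MorphismProperty.id_mem _ _
  haveI : (HomotopyCategory.quasiIso (ModuleCat.{u} R)
      (ComplexShape.up ℤ)).IsCompatibleWithTriangulation := by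
    rw [HomotopyCategory.quasiIso_eq_trW_subcategoryAcyclic]
    infer_instance
  obtain ⟨cb, hcb, hc2, -⟩ :=
    MorphismProperty.compatible_with_triangulation _ _ hT₁ hT₂ (Qh.map q) (𝟙 (Qh.obj K)) hWq hW1
      (by
        change Qh.map ψ ≫ 𝟙 _ = Qh.map q ≫ Qh.map (mappingCocone.fst a)
        rw [comp_id, ← Functor.map_comp])
  obtain ⟨(c : mappingCone ψ ⟶ L), hc⟩ := Qh.map_surjective cb
  subst hc
  refine ⟨mappingCone ψ, mappingCone.inr ψ, c, KFlat.cone ψ hM hK,
    fun hKfl => flat_mappingCone_X ψ hMfl hKfl, ?_, ?_⟩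
  · have hcb0 : HomotopyCategory.quasiIso (ModuleCat.{u} R) (ComplexShape.up ℤ) (Qh.map c) := hcb
    have hcb' := (HomotopyCategory.quotient_map_mem_quasiIso_iff c).1 hcb0
    exact (HomologicalComplex.mem_quasiIso_iff c).1 hcb'
  · have hc2' : Qh.map (mappingCone.inr ψ) ≫ Qh.map c = 𝟙 _ ≫ Qh.map a := hc2
    rw [id_comp, ← Functor.map_comp] at hc2'
    exact ⟨(HomotopyCategory.homotopyOfEq _ _ hc2').symm⟩

end Groth.Agent.H4.TC9
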