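import Mathlib
import Groth.Prelude.Def_DRing4
import Groth.Agent.H4.TC9

open CategoryTheory Category Limits HomologicalComplex CochainComplex.HomComplex CochainComplex
  MonoidalCategory ZeroObject Pretriangulated

universe u

namespace Groth.Agent.H4.TC10

open Groth.Agent.H4.TC1 Groth.Agent.H4.TC2 Groth.Agent.H4.TC3 Groth.Agent.H4.TC4
  Groth.Agent.H4.TC5 Groth.Agent.H4.TC6 Groth.Agent.H4.TC7 Groth.Agent.H4.TC8 Groth.Agent.H4.TC9

section natTrans

variable {C₁ C₂ D : Type*} [Category C₁] [Category C₂] [Category D]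
  [Preadditive C₁] [Preadditive C₂] [Preadditive D]
  {F G H : C₁ ⥤ C₂ ⥤ D} [F.Additive] [∀ X₁, (F.obj X₁).Additive]
  [G.Additive] [∀ X₁, (G.obj X₁).Additive] [H.Additive] [∀ X₁, (H.obj X₁).Additive]
  (τ : F ⟶ G) (τ' : G ⟶ H)
  (K₁ : CochainComplex C₁ ℤ) (K₂ : CochainComplex C₂ ℤ)
  [CochainComplex.HasMapBifunctor K₁ K₂ F] [CochainComplex.HasMapBifunctor K₁ K₂ G]
  [CochainComplex.HasMapBifunctor K₁ K₂ H]

/-- the map on total complexes induced by a natural transformation of bifunctors. -/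
noncomputable def mapBifunctorNatTrans :
    CochainComplex.mapBifunctor K₁ K₂ F ⟶ CochainComplex.mapBifunctor K₁ K₂ G where
  f n := mapBifunctorDesc (fun p q hpq => (τ.app (K₁.X p)).app (K₂.X q) ≫
    ιMapBifunctor K₁ K₂ G (.up ℤ) p q n hpq)
  comm' n n' h := by
    obtain rfl : n + 1 = n' := h
    refine mapBifunctor.hom_ext (fun p q hpq => ?_)
    change p + q = n at hpq
    rw [ι_mapBifunctorDesc_assoc, assoc, mapBifunctor.d_eq, mapBifunctor.d_eq]
    simp only [Preadditive.comp_add, Preadditive.add_comp, assoc, mapBifunctor.ι_D₁,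
      mapBifunctor.ι_D₂, mapBifunctor.ι_D₁_assoc, mapBifunctor.ι_D₂_assoc]
    rw [mapBifunctor.d₁_eq K₁ K₂ G (.up ℤ) (show (ComplexShape.up ℤ).Rel p (p + 1) by simp) q
        (n + 1) (by simp; omega),
      mapBifunctor.d₂_eq K₁ K₂ G (.up ℤ) p (show (ComplexShape.up ℤ).Rel q (q + 1) by simp)
        (n + 1) (by simp; omega),
      mapBifunctor.d₁_eq K₁ K₂ F (.up ℤ) (show (ComplexShape.up ℤ).Rel p (p + 1) by simp) q
        (n + 1) (by simp; omega),
      mapBifunctor.d₂_eq K₁ K₂ F (.up ℤ) p (show (ComplexShape.up ℤ).Rel q (q + 1) by simp)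
        (n + 1) (by simp; omega)]
    simp only [Linear.units_smul_comp, Linear.comp_units_smul, assoc, ι_mapBifunctorDesc]
    have n1 := congrArg (fun t => t.app (K₂.X q)) (τ.naturality (K₁.d p (p + 1)))
    have n2 := (τ.app (K₁.X p)).naturality (K₂.d q (q + 1))
    dsimp at n1
    rw [reassoc_of% n1, reassoc_of% n2]

@[reassoc (attr := simp)]
lemma ι_mapBifunctorNatTrans (p q n : ℤ) (hpq : p + q = n) :
    ιMapBifunctor K₁ K₂ F (.up ℤ) p q n hpq ≫ (mapBifunctorNatTrans τ K₁ K₂).f n =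
      (τ.app (K₁.X p)).app (K₂.X q) ≫ ιMapBifunctor K₁ K₂ G (.up ℤ) p q n hpq := by
  simp [mapBifunctorNatTrans]

lemma mapBifunctorNatTrans_id : mapBifunctorNatTrans (𝟙 F) K₁ K₂ = 𝟙 _ := by
  refine HomologicalComplex.hom_ext _ _ (fun n => ?_)
  refine mapBifunctor.hom_ext (fun p q hpq => ?_)
  rw [ι_mapBifunctorNatTrans]
  simp

lemma mapBifunctorNatTrans_comp : mapBifunctorNatTrans (τ ≫ τ') K₁ K₂ =
    mapBifunctorNatTrans τ K₁ K₂ ≫ mapBifunctorNatTrans τ' K₁ K₂ := by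
  refine HomologicalComplex.hom_ext _ _ (fun n => ?_)
  refine mapBifunctor.hom_ext (fun p q hpq => ?_)
  rw [ι_mapBifunctorNatTrans, HomologicalComplex.comp_f, ι_mapBifunctorNatTrans_assoc,
    ι_mapBifunctorNatTrans]
  simp

/-- the iso on total complexes induced by a natural isomorphism of bifunctors. -/
noncomputable def mapBifunctorNatIso (e : F ≅ G) :
    CochainComplex.mapBifunctor K₁ K₂ F ≅ CochainComplex.mapBifunctor K₁ K₂ G where
  hom := mapBifunctorNatTrans e.hom K₁ K₂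
  inv := mapBifunctorNatTrans e.inv K₁ K₂
  hom_inv_id := by rw [← mapBifunctorNatTrans_comp, e.hom_inv_id, mapBifunctorNatTrans_id]
  inv_hom_id := by rw [← mapBifunctorNatTrans_comp, e.inv_hom_id, mapBifunctorNatTrans_id]

end natTrans

variable {R : Type u} [CommRing R]

/-- the braiding of the tensor product of complexes of modules. -/
noncomputable def braid (L K : Cx R) : L ⊗ K ≅ K ⊗ L :=
  (mapBifunctorFlipIso L K (curriedTensor (ModuleCat.{u} R)) (.up ℤ)).symm ≪≫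
    mapBifunctorNatIso K L (BraidedCategory.curriedBraidingNatIso (ModuleCat.{u} R)).symm

/-- a K-flat acyclic complex is "universally acyclic". -/
theorem acyc_tensor_of_kflat_acyc (C : Cx R) (hC : KFlat C) (hac : Acyc C) (L : Cx R) :
    Acyc (L ⊗ C) := by
  obtain ⟨F, q, hF, -, hq, -⟩ := exists_kflat_resolution L
  haveI := quasiIso_whiskerRight hC q hq
  rw [← Acyc.of_quasiIso (q ▷ C)]
  exact Acyc.of_iso (braid C F) (hF C hac)

/-- S6907 -/
theorem quasiIso_tensor_of_kflat :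
    (∀ (K : Cx R), KFlat K → ∀ (L₁ L₂ : Cx R) (f : L₁ ⟶ L₂), QuasiIso f → QuasiIso (f ▷ K)) ∧
    (∀ (P Q : Cx R) (α : P ⟶ Q), KFlat P → KFlat Q → QuasiIso α →
      ∀ L : Cx R, QuasiIso (L ◁ α)) := by
  refine ⟨fun K hK L₁ L₂ f hf => quasiIso_whiskerRight hK f hf, fun P Q α hP hQ hα L => ?_⟩
  rw [← acyc_cone_iff]
  refine Acyc.of_iso (coneTensorLeft L α) ?_
  exact acyc_tensor_of_kflat_acyc _ (KFlat.cone α hP hQ) ((acyc_cone_iff α).2 hα) L

end Groth.Agent.H4.TC10
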