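import Mathlib
import Groth.Prelude.Def_DRing4
import Groth.Prelude.Def_DTen
import Groth.Agent.H4.LK1
import Groth.Agent.H4.TC10

/-!
# Left derived functors along `Q : Cx ⥤ D` of homotopy invariant functors
-/

open CategoryTheory Category Limits DerivedCategory

universe w v v' u u'

namespace Groth.Agent.H4.LK2

open Groth.Agent.H4.LK1

section General

variable {A : Type u} [Category.{v} A] [Abelian A] [HasDerivedCategory.{w} A]
variable {H : Type u'} [Category.{v'} H]

/-- homotopy invariance of a functor on cochain complexes -/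
def HtpyInv (F : CochainComplex A ℤ ⥤ H) : Prop :=
  ∀ ⦃K L : CochainComplex A ℤ⦄ (f g : K ⟶ L), Homotopy f g → F.map f = F.map g

lemma htpyInv_comp_Q (G : CochainComplex A ℤ ⥤ CochainComplex A ℤ)
    (hG : ∀ ⦃K L : CochainComplex A ℤ⦄ (f g : K ⟶ L), Homotopy f g →
      Nonempty (Homotopy (G.map f) (G.map g))) :
    HtpyInv (G ⋙ (DerivedCategory.Q (C := A))) := by
  intro K L f g h
  obtain ⟨h'⟩ := hG f g h
  change DerivedCategory.Q.map (G.map f) = DerivedCategory.Q.map (G.map g)
  change DerivedCategory.Qh.map ((HomotopyCategory.quotient _ _).map _) =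
    DerivedCategory.Qh.map ((HomotopyCategory.quotient _ _).map _)
  rw [HomotopyCategory.eq_of_homotopy _ _ h']

lemma isLocProj_of_isKProjective (F : CochainComplex A ℤ ⥤ H) (hF : HtpyInv F)
    (P : CochainComplex A ℤ) [P.IsKProjective] :
    IsLocProj (DerivedCategory.Q (C := A)) F P where
  surj X φ := by
    obtain ⟨g', hg'⟩ := (CochainComplex.IsKProjective.Qh_map_bijective P
      ((HomotopyCategory.quotient A (ComplexShape.up ℤ)).obj X)).2 φ
    obtain ⟨g, rfl⟩ := (HomotopyCategory.quotient A (ComplexShape.up ℤ)).map_surjective g'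
    exact ⟨g, hg'⟩
  uniq X g g' h := by
    have h1 : (HomotopyCategory.quotient A (ComplexShape.up ℤ)).map g =
        (HomotopyCategory.quotient A (ComplexShape.up ℤ)).map g' :=
      (CochainComplex.IsKProjective.Qh_map_bijective P
        ((HomotopyCategory.quotient A (ComplexShape.up ℤ)).obj X)).1 h
    exact hF g g' (HomotopyCategory.homotopyOfEq _ _ h1)

end General

section Modules

attribute [local instance] HasDerivedCategory.standard

open Groth.Agent.H4.TC3 Groth.Agent.H4.TC4 Groth.Agent.H4.TC8 Groth.Agent.H4.TC10 MonoidalCategory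

variable {R : Type u} [CommRing R] {H : Type u'} [Category.{v'} H]

/-- quasi-isomorphisms of complexes of `R`-modules -/
abbrev qis (R : Type u) [CommRing R] : MorphismProperty (Cx R) :=
  HomologicalComplex.quasiIso (ModuleCat.{u} R) (ComplexShape.up ℤ)

/-- homotopy invariant functors on complexes of modules have pointwise left derived functors. -/
theorem hasPointwise (F : Cx R ⥤ H) (hF : HtpyInv F) :
    F.HasPointwiseLeftDerivedFunctor (qis R) := by
  refine hasPointwiseLeftDerivedFunctor_of_isLocProj (L := DerivedCategory.Q) (qis R) ?_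
  intro X
  obtain ⟨T, a, hT, -, -, ha⟩ := exists_kproj_free_kflat X
  haveI := hT
  exact ⟨T, a, ha, isLocProj_of_isKProjective F hF T⟩

theorem hasLeftDerivedFunctor (F : Cx R ⥤ H) (hF : HtpyInv F) :
    F.HasLeftDerivedFunctor (qis R) := by
  haveI := hasPointwise F hF
  infer_instance

/-- the counit is an isomorphism at K-projective complexes. -/
theorem isIso_counit_of_isKProjective (F : Cx R ⥤ H) (hF : HtpyInv F)
    (LF : DerivedCategory (ModuleCat.{u} R) ⥤ H) (α : DerivedCategory.Q ⋙ LF ⟶ F)
    [LF.IsLeftDerivedFunctor α (qis R)] (P : Cx R) [P.IsKProjective] : IsIso (α.app P) := by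
  haveI := hasPointwise F hF
  exact (isLocProj_of_isKProjective F hF P).isIso_counit_app (qis R) LF α

/-- the counit is an isomorphism at `X` if `F` inverts some K-projective resolution of `X`. -/
theorem isIso_counit_of_isIso_map (F : Cx R ⥤ H) (hF : HtpyInv F)
    (LF : DerivedCategory (ModuleCat.{u} R) ⥤ H) (α : DerivedCategory.Q ⋙ LF ⟶ F)
    [LF.IsLeftDerivedFunctor α (qis R)] {P X : Cx R} [P.IsKProjective] (a : P ⟶ X)
    (ha : QuasiIso a) (hFa : IsIso (F.map a)) : IsIso (α.app X) := by
  haveI := hasPointwise F hF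
  exact (isLocProj_of_isKProjective F hF P).isIso_counit_app_of_isIso_map (qis R) a ha hFa LF α

/-- `- ⊗ E` followed by `Q` is homotopy invariant. -/
lemma htpyInv_tensorCxQ (E : Cx R) : HtpyInv (DRing.tensorCxQ R E) := by
  refine htpyInv_comp_Q (tensorRight E) ?_
  intro K L f g h
  exact ⟨HomologicalComplex.mapBifunctorMapHomotopy₁ h (𝟙 E) (curriedTensor (ModuleCat.{u} R))
    (.up ℤ)⟩

/-- S-binder: the derived tensor product with a complex exists. -/
theorem hasLTensorCx (E : Cx R) : DRing.HasLTensorCx R E :=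
  hasLeftDerivedFunctor _ (htpyInv_tensorCxQ E)

variable (E : Cx R) [DRing.HasLTensorCx R E]

/-- the counit of `- ⊗^L E`. -/
noncomputable abbrev counit :
    DerivedCategory.Q ⋙ DRing.LTensorCx R E ⟶ DRing.tensorCxQ R E :=
  (DRing.tensorCxQ R E).totalLeftDerivedCounit DerivedCategory.Q (qis R)

theorem isIso_counit_app_of_isKProjective (P : Cx R) [P.IsKProjective] :
    IsIso ((counit E).app P) :=
  isIso_counit_of_isKProjective _ (htpyInv_tensorCxQ E) _ (counit E) P

/-- the counit is an isomorphism if `E` is K-flat. -/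
theorem isIso_counit_app_of_kflat_right (hE : KFlat E) (X : Cx R) :
    IsIso ((counit E).app X) := by
  obtain ⟨T, a, hT, -, -, ha⟩ := exists_kproj_free_kflat X
  haveI := hT
  refine isIso_counit_of_isIso_map _ (htpyInv_tensorCxQ E) _ (counit E) a ha ?_
  haveI := quasiIso_whiskerRight hE a ha
  change IsIso (DerivedCategory.Q.map (a ▷ E))
  infer_instance

/-- the counit is an isomorphism at K-flat complexes. -/
theorem isIso_counit_app_of_kflat_left (X : Cx R) (hX : KFlat X) :
    IsIso ((counit E).app X) := by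
  obtain ⟨T, a, hT, -, hTf, ha⟩ := exists_kproj_free_kflat X
  haveI := hT
  refine isIso_counit_of_isIso_map _ (htpyInv_tensorCxQ E) _ (counit E) a ha ?_
  have h1 : QuasiIso (E ◁ a) := quasiIso_tensor_of_kflat.2 T X a hTf hX ha E
  have h2 : a ▷ E = (DTen.braidCx T E).hom ≫ (E ◁ a) ≫ (DTen.braidCx X E).inv := by
    have := DTen.braidCx_naturality a (𝟙 E)
    rw [MonoidalCategory.tensorHom_id, MonoidalCategory.id_tensorHom] at this
    rw [← reassoc_of% this, Iso.hom_inv_id, comp_id]
  haveI : QuasiIso (a ▷ E) := by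
    rw [h2]
    infer_instance
  change IsIso (DerivedCategory.Q.map (a ▷ E))
  infer_instance

end Modules

end Groth.Agent.H4.LK2
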