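import Mathlib
import Groth.Prelude.Def_DRing4
import Groth.Prelude.Def_DTen
import Groth.Agent.H4.LK2

/-!
# Left derived functors along `Q × Q` and `Q × (Q × Q)` of homotopy invariant functors
-/

open CategoryTheory Category Limits DerivedCategory

universe w v v' u u'

namespace Groth.Agent.H4.LK3

open Groth.Agent.H4.LK1 Groth.Agent.H4.LK2

section General

variable {A : Type u} [Category.{v} A] [Abelian A] [HasDerivedCategory.{w} A]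

/-- `P` behaves like a K-projective complex with respect to `Q`. -/
structure IsQProj (P : CochainComplex A ℤ) : Prop where
  surj : ∀ (X : CochainComplex A ℤ) (φ : (DerivedCategory.Q (C := A)).obj P ⟶ DerivedCategory.Q.obj X),
    ∃ g : P ⟶ X, DerivedCategory.Q.map g = φ
  htpy : ∀ (X : CochainComplex A ℤ) (g g' : P ⟶ X),
    (DerivedCategory.Q (C := A)).map g = DerivedCategory.Q.map g' → Nonempty (Homotopy g g')

lemma isQProj_of_isKProjective (P : CochainComplex A ℤ) [P.IsKProjective] : IsQProj P where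
  surj X φ := by
    obtain ⟨g', hg'⟩ := (CochainComplex.IsKProjective.Qh_map_bijective P
      ((HomotopyCategory.quotient A (ComplexShape.up ℤ)).obj X)).2 φ
    obtain ⟨g, rfl⟩ := (HomotopyCategory.quotient A (ComplexShape.up ℤ)).map_surjective g'
    exact ⟨g, hg'⟩
  htpy X g g' h := by
    have h1 : (HomotopyCategory.quotient A (ComplexShape.up ℤ)).map g =
        (HomotopyCategory.quotient A (ComplexShape.up ℤ)).map g' :=
      (CochainComplex.IsKProjective.Qh_map_bijective P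
        ((HomotopyCategory.quotient A (ComplexShape.up ℤ)).obj X)).1 h
    exact ⟨HomotopyCategory.homotopyOfEq _ _ h1⟩

end General

section Pairs

variable {A₁ : Type u} [Category.{v} A₁] [Abelian A₁] [HasDerivedCategory.{w} A₁]
variable {A₂ : Type u} [Category.{v} A₂] [Abelian A₂] [HasDerivedCategory.{w} A₂]
variable {H : Type u'} [Category.{v'} H]

/-- homotopy invariance of a functor of two complexes -/
def HtpyInv₂ (F : CochainComplex A₁ ℤ × CochainComplex A₂ ℤ ⥤ H) : Prop :=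
  ∀ ⦃K K' : CochainComplex A₁ ℤ⦄ ⦃L L' : CochainComplex A₂ ℤ⦄ (f f' : K ⟶ K') (g g' : L ⟶ L'),
    Homotopy f f' → Homotopy g g' →
    F.map (Prod.mkHom f g : (K, L) ⟶ (K', L')) = F.map (Prod.mkHom f' g' : (K, L) ⟶ (K', L'))

lemma isLocProj₂ (F : CochainComplex A₁ ℤ × CochainComplex A₂ ℤ ⥤ H) (hF : HtpyInv₂ F)
    (P₁ : CochainComplex A₁ ℤ) (P₂ : CochainComplex A₂ ℤ) (h₁ : IsQProj P₁) (h₂ : IsQProj P₂) :
    IsLocProj ((DerivedCategory.Q (C := A₁)).prod (DerivedCategory.Q (C := A₂))) F (P₁, P₂) where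
  surj X φ := by
    obtain ⟨g₁, hg₁⟩ := h₁.surj X.1 φ.1
    obtain ⟨g₂, hg₂⟩ := h₂.surj X.2 φ.2
    exact ⟨(g₁, g₂), Prod.ext hg₁ hg₂⟩
  uniq X g g' h := by
    obtain ⟨e₁⟩ := h₁.htpy X.1 g.1 g'.1 (congrArg Prod.fst h)
    obtain ⟨e₂⟩ := h₂.htpy X.2 g.2 g'.2 (congrArg Prod.snd h)
    exact hF g.1 g'.1 g.2 g'.2 e₁ e₂

end Pairs

section Triples

variable {A₁ : Type u} [Category.{v} A₁] [Abelian A₁] [HasDerivedCategory.{w} A₁]
variable {A₂ : Type u} [Category.{v} A₂] [Abelian A₂] [HasDerivedCategory.{w} A₂]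
variable {A₃ : Type u} [Category.{v} A₃] [Abelian A₃] [HasDerivedCategory.{w} A₃]
variable {H : Type u'} [Category.{v'} H]

/-- homotopy invariance of a functor of three complexes -/
def HtpyInv₃ (F : CochainComplex A₁ ℤ × (CochainComplex A₂ ℤ × CochainComplex A₃ ℤ) ⥤ H) : Prop :=
  ∀ ⦃K K' : CochainComplex A₁ ℤ⦄ ⦃L L' : CochainComplex A₂ ℤ⦄ ⦃M M' : CochainComplex A₃ ℤ⦄
    (f f' : K ⟶ K') (g g' : L ⟶ L') (k k' : M ⟶ M'),
    Homotopy f f' → Homotopy g g' → Homotopy k k' →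
    F.map (Prod.mkHom f (Prod.mkHom g k) : (K, (L, M)) ⟶ (K', (L', M'))) =
      F.map (Prod.mkHom f' (Prod.mkHom g' k') : (K, (L, M)) ⟶ (K', (L', M')))

lemma isLocProj₃ (F : CochainComplex A₁ ℤ × (CochainComplex A₂ ℤ × CochainComplex A₃ ℤ) ⥤ H)
    (hF : HtpyInv₃ F)
    (P₁ : CochainComplex A₁ ℤ) (P₂ : CochainComplex A₂ ℤ) (P₃ : CochainComplex A₃ ℤ)
    (h₁ : IsQProj P₁) (h₂ : IsQProj P₂) (h₃ : IsQProj P₃) :
    IsLocProj ((DerivedCategory.Q (C := A₁)).prod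
      ((DerivedCategory.Q (C := A₂)).prod (DerivedCategory.Q (C := A₃)))) F (P₁, (P₂, P₃)) where
  surj X φ := by
    obtain ⟨g₁, hg₁⟩ := h₁.surj X.1 φ.1
    obtain ⟨g₂, hg₂⟩ := h₂.surj X.2.1 φ.2.1
    obtain ⟨g₃, hg₃⟩ := h₃.surj X.2.2 φ.2.2
    exact ⟨(g₁, (g₂, g₃)), Prod.ext hg₁ (Prod.ext hg₂ hg₃)⟩
  uniq X g g' h := by
    obtain ⟨e₁⟩ := h₁.htpy X.1 g.1 g'.1 (congrArg Prod.fst h)
    obtain ⟨e₂⟩ := h₂.htpy X.2.1 g.2.1 g'.2.1 (congrArg (fun t => t.2.1) h)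
    obtain ⟨e₃⟩ := h₃.htpy X.2.2 g.2.2 g'.2.2 (congrArg (fun t => t.2.2) h)
    exact hF g.1 g'.1 g.2.1 g'.2.1 g.2.2 g'.2.2 e₁ e₂ e₃

end Triples

section Modules

attribute [local instance] HasDerivedCategory.standard

open Groth.Agent.H4.TC3 Groth.Agent.H4.TC4 Groth.Agent.H4.TC8 Groth.Agent.H4.TC10 MonoidalCategory

variable {R₁ R₂ R₃ : Type u} [CommRing R₁] [CommRing R₂] [CommRing R₃]
  {H : Type u'} [Category.{v'} H]

/-- pairs of quasi-isomorphisms -/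
abbrev qis₂ (R₁ R₂ : Type u) [CommRing R₁] [CommRing R₂] : MorphismProperty (Cx R₁ × Cx R₂) :=
  (qis R₁).prod (qis R₂)

/-- triples of quasi-isomorphisms -/
abbrev qis₃ (R₁ R₂ R₃ : Type u) [CommRing R₁] [CommRing R₂] [CommRing R₃] :
    MorphismProperty (Cx R₁ × (Cx R₂ × Cx R₃)) :=
  (qis R₁).prod (qis₂ R₂ R₃)

/-- `Q × Q` -/
noncomputable abbrev QQ (R₁ R₂ : Type u) [CommRing R₁] [CommRing R₂] :
    Cx R₁ × Cx R₂ ⥤ DerivedCategory (ModuleCat.{u} R₁) × DerivedCategory (ModuleCat.{u} R₂) :=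
  DerivedCategory.Q.prod DerivedCategory.Q

/-- `Q × (Q × Q)` -/
noncomputable abbrev QQQ (R₁ R₂ R₃ : Type u) [CommRing R₁] [CommRing R₂] [CommRing R₃] :
    Cx R₁ × (Cx R₂ × Cx R₃) ⥤ DerivedCategory (ModuleCat.{u} R₁) ×
      (DerivedCategory (ModuleCat.{u} R₂) × DerivedCategory (ModuleCat.{u} R₃)) :=
  DerivedCategory.Q.prod (QQ R₂ R₃)

theorem hasPointwise₂ (F : Cx R₁ × Cx R₂ ⥤ H) (hF : HtpyInv₂ F) :
    F.HasPointwiseLeftDerivedFunctor (qis₂ R₁ R₂) := by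
  refine hasPointwiseLeftDerivedFunctor_of_isLocProj (L := QQ R₁ R₂) (qis₂ R₁ R₂) ?_
  rintro ⟨X₁, X₂⟩
  obtain ⟨T₁, a₁, hT₁, -, -, ha₁⟩ := exists_kproj_free_kflat X₁
  obtain ⟨T₂, a₂, hT₂, -, -, ha₂⟩ := exists_kproj_free_kflat X₂
  haveI := hT₁
  haveI := hT₂
  exact ⟨(T₁, T₂), (a₁, a₂), ⟨ha₁, ha₂⟩,
    isLocProj₂ F hF T₁ T₂ (isQProj_of_isKProjective T₁) (isQProj_of_isKProjective T₂)⟩

theorem hasLeftDerivedFunctor₂ (F : Cx R₁ × Cx R₂ ⥤ H) (hF : HtpyInv₂ F) :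
    F.HasLeftDerivedFunctor (qis₂ R₁ R₂) := by
  haveI := hasPointwise₂ F hF
  infer_instance

theorem isIso_counit₂_of_isKProjective (F : Cx R₁ × Cx R₂ ⥤ H) (hF : HtpyInv₂ F)
    (LF : DerivedCategory (ModuleCat.{u} R₁) × DerivedCategory (ModuleCat.{u} R₂) ⥤ H)
    (α : QQ R₁ R₂ ⋙ LF ⟶ F) [LF.IsLeftDerivedFunctor α (qis₂ R₁ R₂)]
    (P₁ : Cx R₁) (P₂ : Cx R₂) [P₁.IsKProjective] [P₂.IsKProjective] :
    IsIso (α.app (P₁, P₂)) := by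
  haveI := hasPointwise₂ F hF
  exact (isLocProj₂ F hF P₁ P₂ (isQProj_of_isKProjective P₁)
    (isQProj_of_isKProjective P₂)).isIso_counit_app (qis₂ R₁ R₂) LF α

theorem isIso_counit₂_of_isIso_map (F : Cx R₁ × Cx R₂ ⥤ H) (hF : HtpyInv₂ F)
    (LF : DerivedCategory (ModuleCat.{u} R₁) × DerivedCategory (ModuleCat.{u} R₂) ⥤ H)
    (α : QQ R₁ R₂ ⋙ LF ⟶ F) [LF.IsLeftDerivedFunctor α (qis₂ R₁ R₂)]
    {P₁ X₁ : Cx R₁} {P₂ X₂ : Cx R₂} [P₁.IsKProjective] [P₂.IsKProjective]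
    (a₁ : P₁ ⟶ X₁) (a₂ : P₂ ⟶ X₂) (ha₁ : QuasiIso a₁) (ha₂ : QuasiIso a₂)
    (hFa : IsIso (F.map (Prod.mkHom a₁ a₂ : (P₁, P₂) ⟶ (X₁, X₂)))) :
    IsIso (α.app (X₁, X₂)) := by
  haveI := hasPointwise₂ F hF
  exact (isLocProj₂ F hF P₁ P₂ (isQProj_of_isKProjective P₁)
    (isQProj_of_isKProjective P₂)).isIso_counit_app_of_isIso_map (qis₂ R₁ R₂)
      (Prod.mkHom a₁ a₂ : (P₁, P₂) ⟶ (X₁, X₂)) ⟨ha₁, ha₂⟩ hFa LF α

theorem hasPointwise₃ (F : Cx R₁ × (Cx R₂ × Cx R₃) ⥤ H) (hF : HtpyInv₃ F) :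
    F.HasPointwiseLeftDerivedFunctor (qis₃ R₁ R₂ R₃) := by
  refine hasPointwiseLeftDerivedFunctor_of_isLocProj (L := QQQ R₁ R₂ R₃) (qis₃ R₁ R₂ R₃) ?_
  rintro ⟨X₁, X₂, X₃⟩
  obtain ⟨T₁, a₁, hT₁, -, -, ha₁⟩ := exists_kproj_free_kflat X₁
  obtain ⟨T₂, a₂, hT₂, -, -, ha₂⟩ := exists_kproj_free_kflat X₂
  obtain ⟨T₃, a₃, hT₃, -, -, ha₃⟩ := exists_kproj_free_kflat X₃
  haveI := hT₁
  haveI := hT₂
  haveI := hT₃
  exact ⟨(T₁, (T₂, T₃)), (a₁, (a₂, a₃)), ⟨ha₁, ha₂, ha₃⟩,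
    isLocProj₃ F hF T₁ T₂ T₃ (isQProj_of_isKProjective T₁) (isQProj_of_isKProjective T₂)
      (isQProj_of_isKProjective T₃)⟩

theorem hasLeftDerivedFunctor₃ (F : Cx R₁ × (Cx R₂ × Cx R₃) ⥤ H) (hF : HtpyInv₃ F) :
    F.HasLeftDerivedFunctor (qis₃ R₁ R₂ R₃) := by
  haveI := hasPointwise₃ F hF
  infer_instance

theorem isIso_counit₃_of_isKProjective (F : Cx R₁ × (Cx R₂ × Cx R₃) ⥤ H) (hF : HtpyInv₃ F)
    (LF : DerivedCategory (ModuleCat.{u} R₁) ×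
      (DerivedCategory (ModuleCat.{u} R₂) × DerivedCategory (ModuleCat.{u} R₃)) ⥤ H)
    (α : QQQ R₁ R₂ R₃ ⋙ LF ⟶ F) [LF.IsLeftDerivedFunctor α (qis₃ R₁ R₂ R₃)]
    (P₁ : Cx R₁) (P₂ : Cx R₂) (P₃ : Cx R₃) [P₁.IsKProjective] [P₂.IsKProjective]
    [P₃.IsKProjective] :
    IsIso (α.app (P₁, (P₂, P₃))) := by
  haveI := hasPointwise₃ F hF
  exact (isLocProj₃ F hF P₁ P₂ P₃ (isQProj_of_isKProjective P₁)
    (isQProj_of_isKProjective P₂) (isQProj_of_isKProjective P₃)).isIso_counit_app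
      (qis₃ R₁ R₂ R₃) LF α

end Modules

end Groth.Agent.H4.LK3
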