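import Mathlib
import Groth.Prelude.Def_DRing4
import Groth.Prelude.Def_DTen
import Groth.Prelude.Def_DTen2
import Groth.Agent.H4.LK3

/-!
# Values of the derived tensor product `DTen.LTen₂`
-/

open CategoryTheory Category Limits DerivedCategory MonoidalCategory

universe u

namespace Groth.Agent.H4.LK4

open Groth.Agent.H4.LK1 Groth.Agent.H4.LK2 Groth.Agent.H4.LK3
open Groth.Agent.H4.TC3 Groth.Agent.H4.TC4 Groth.Agent.H4.TC8 Groth.Agent.H4.TC10

attribute [local instance] HasDerivedCategory.standard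

variable {A : Type u} [CommRing A]

/-- tensor products of homotopic maps are homotopic. -/
noncomputable def tensorHomotopy {K K' L L' : Cx A} {f f' : K ⟶ K'} {g g' : L ⟶ L'}
    (h₁ : Homotopy f f') (h₂ : Homotopy g g') :
    Homotopy (f ▷ L ≫ K' ◁ g) (f' ▷ L ≫ K' ◁ g') :=
  Homotopy.comp
    (HomologicalComplex.mapBifunctorMapHomotopy₁ h₁ (𝟙 L) (curriedTensor (ModuleCat.{u} A)) (.up ℤ))
    (HomologicalComplex.mapBifunctorMapHomotopy₂ (𝟙 K') h₂ (curriedTensor (ModuleCat.{u} A))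
      (.up ℤ))

lemma Q_map_eq_of_homotopy {K L : Cx A} {f g : K ⟶ L} (h : Homotopy f g) :
    (DerivedCategory.Q (C := ModuleCat.{u} A)).map f = DerivedCategory.Q.map g := by
  change DerivedCategory.Qh.map ((HomotopyCategory.quotient _ _).map _) =
    DerivedCategory.Qh.map ((HomotopyCategory.quotient _ _).map _)
  rw [HomotopyCategory.eq_of_homotopy _ _ h]

lemma htpyInv₂_tensor₂ : HtpyInv₂ (DTen.tensor₂ A) := by
  intro K K' L L' f f' g g' h₁ h₂
  exact Q_map_eq_of_homotopy (tensorHomotopy h₁ h₂)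

/-- the binder `HasLTen` holds. -/
theorem hasLTen : DTen.HasLTen A := hasLeftDerivedFunctor₂ _ htpyInv₂_tensor₂

variable [DTen.HasLTen A]

theorem isIso_ε_of_isKProjective (P₁ P₂ : Cx A) [P₁.IsKProjective] [P₂.IsKProjective] :
    IsIso ((DTen.ε A).app (P₁, P₂)) :=
  isIso_counit₂_of_isKProjective _ htpyInv₂_tensor₂ _ (DTen.ε A) P₁ P₂

omit [DTen.HasLTen A] in
/-- `K ⊗ -` preserves quasi-isomorphisms for K-flat `K`. -/
lemma quasiIso_whiskerLeft_of_kflat {K : Cx A} (hK : KFlat K) {L₁ L₂ : Cx A} (g : L₁ ⟶ L₂)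
    (hg : QuasiIso g) : QuasiIso (K ◁ g) := by
  have h1 : QuasiIso (g ▷ K) := quasiIso_whiskerRight hK g hg
  have h2 : K ◁ g = (DTen.braidCx K L₁).hom ≫ (g ▷ K) ≫ (DTen.braidCx K L₂).inv := by
    have := DTen.braidCx_naturality (𝟙 K) g
    rw [MonoidalCategory.tensorHom_id, MonoidalCategory.id_tensorHom] at this
    rw [← reassoc_of% this, Iso.hom_inv_id, comp_id]
  rw [h2]
  infer_instance

/-- the counit is an isomorphism as soon as one of the complexes is K-flat. -/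
theorem isIso_ε_of_kflat (K L : Cx A) (h : KFlat K ∨ KFlat L) :
    IsIso ((DTen.ε A).app (K, L)) := by
  obtain ⟨T₁, a₁, hT₁, -, hT₁f, ha₁⟩ := exists_kproj_free_kflat K
  obtain ⟨T₂, a₂, hT₂, -, hT₂f, ha₂⟩ := exists_kproj_free_kflat L
  haveI := hT₁
  haveI := hT₂
  refine isIso_counit₂_of_isIso_map _ htpyInv₂_tensor₂ _ (DTen.ε A) a₁ a₂ ha₁ ha₂ ?_
  change IsIso (DerivedCategory.Q.map (a₁ ▷ T₂ ≫ K ◁ a₂))
  rcases h with hK | hL
  · haveI : QuasiIso (a₁ ▷ T₂) := quasiIso_whiskerRight hT₂f a₁ ha₁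
    haveI : QuasiIso (K ◁ a₂) := quasiIso_whiskerLeft_of_kflat hK a₂ ha₂
    haveI : QuasiIso (a₁ ▷ T₂ ≫ K ◁ a₂) := inferInstance
    infer_instance
  · have e : a₁ ▷ T₂ ≫ K ◁ a₂ = T₁ ◁ a₂ ≫ a₁ ▷ L := (whisker_exchange a₁ a₂).symm
    rw [e]
    haveI : QuasiIso (T₁ ◁ a₂) := quasiIso_whiskerLeft_of_kflat hT₁f a₂ ha₂
    haveI : QuasiIso (a₁ ▷ L) := quasiIso_whiskerRight hL a₁ ha₁
    haveI : QuasiIso (T₁ ◁ a₂ ≫ a₁ ▷ L) := inferInstance
    infer_instance

/-- the binder `KFlatComputes` holds. -/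
theorem kflatComputes : DTen.KFlatComputes A where
  isIso_counit K L h := isIso_ε_of_kflat K L h

omit [DTen.HasLTen A] in
/-- every object of `D(A)` is represented by a K-projective, K-flat, termwise free complex. -/
theorem exists_kproj_kflat_iso (K : Dual.D A) : ∃ T : Cx A, T.IsKProjective ∧
    (∀ i, Module.Free A (T.X i)) ∧ KFlat T ∧ Nonempty (DerivedCategory.Q.obj T ≅ K) := by
  obtain ⟨T, a, hT, hf, hfl, ha⟩ := exists_kproj_free_kflat (DerivedCategory.Q.objPreimage K)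
  haveI := ha
  exact ⟨T, hT, hf, hfl, ⟨asIso (DerivedCategory.Q.map a) ≪≫ DerivedCategory.Q.objObjPreimageIso K⟩⟩

/-- S13576: the symmetry of the derived tensor product is an isomorphism. -/
theorem isIso_symm_app (K L : Dual.D A) : IsIso ((DTen.symm A).app (K, L)) := by
  obtain ⟨P₁, hP₁, -, -, ⟨e₁⟩⟩ := exists_kproj_kflat_iso K
  obtain ⟨P₂, hP₂, -, -, ⟨e₂⟩⟩ := exists_kproj_kflat_iso L
  haveI := hP₁
  haveI := hP₂
  let e : ((DerivedCategory.Q.obj P₁, DerivedCategory.Q.obj P₂) : Dual.D A × Dual.D A) ≅ (K, L) :=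
    Iso.prod e₁ e₂
  rw [← NatTrans.isIso_app_iff_of_iso (DTen.symm A) e]
  have hfac := DTen.symm_fac A P₁ P₂
  haveI := isIso_ε_of_isKProjective P₁ P₂
  haveI := isIso_ε_of_isKProjective P₂ P₁
  have : (DTen.symm A).app (DerivedCategory.Q.obj P₁, DerivedCategory.Q.obj P₂) =
      ((DTen.ε A).app (P₂, P₁) ≫ DerivedCategory.Q.map (DTen.braidCx P₂ P₁).hom) ≫
        inv ((DTen.ε A).app (P₁, P₂)) := by
    rw [← hfac, assoc, IsIso.hom_inv_id, comp_id]
  rw [this]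
  infer_instance

end Groth.Agent.H4.LK4
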