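import Mathlib
import Groth.Prelude.Def_DTen3
import Groth.Agent.H4.EV1
import Groth.Agent.H4.EV2
import Groth.Agent.H4.LK4
import Groth.Agent.H4.TC3
import Groth.Agent.H4.CH1

/-!
# Exactness of the derived tensor product; invertible objects give equivalences
-/

set_option autoImplicit false
universe u
open CategoryTheory Category Limits Pretriangulated MonoidalCategory

namespace Groth.Agent.H4.EV3

attribute [local instance] HasDerivedCategory.standard

open DTen DerivedCategory CochainComplex Groth.Agent.H4.EV1 Groth.Agent.H4.TC4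

variable {A : Type u} [CommRing A]

abbrev Cx (A : Type u) [CommRing A] := CochainComplex (ModuleCat.{u} A) ℤ

/-- A functor on `D(A)` induced by a functor on complexes which commutes with mapping cones is
Yoneda-exact. -/
theorem yexact_of_lift (F : Dual.D A ⥤ Dual.D A) (G : Cx A ⥤ Cx A)
    (e : (Q : Cx A ⥤ Dual.D A) ⋙ F ≅ G ⋙ Q)
    (hG : ∀ {X Y : Cx A} (f : X ⟶ Y), ∃ c : G.obj (mappingCone f) ≅ mappingCone (G.map f),
      G.map (mappingCone.inr f) ≫ c.hom = mappingCone.inr (G.map f)) : YExact F := by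
  intro T hT
  rw [DerivedCategory.mem_distTriang_iff] at hT
  obtain ⟨X, Y, f, ⟨iso⟩⟩ := hT
  refine YExact.of_iso_triangle F iso ?_
  obtain ⟨c, hc⟩ := hG f
  have hd : Q.mapTriangle.obj (CochainComplex.mappingCone.triangle (G.map f)) ∈
      distTriang (Dual.D A) := by
    rw [DerivedCategory.mem_distTriang_iff]
    exact ⟨_, _, G.map f, ⟨Iso.refl _⟩⟩
  have h := YEx₂.of_distTriang _ hd
  change YEx₂ (F.map (Q.map f)) (F.map (Q.map (mappingCone.inr f)))
  refine YEx₂.of_iso (e.app X) (e.app Y) (e.app (mappingCone f) ≪≫ Q.mapIso c) ?_ ?_ h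
  · exact e.hom.naturality f
  · have := e.hom.naturality (mappingCone.inr f)
    dsimp at this ⊢
    rw [reassoc_of% this, ← Q.map_comp, hc]
    rfl

variable [DTen.HasLTen A]

lemma isIso_εLeft (E : Cx A) (hE : KFlat E) : IsIso (εLeft A E) := by
  haveI : ∀ L, IsIso ((εLeft A E).app L) := fun L =>
    Groth.Agent.H4.LK4.isIso_ε_of_kflat E L (Or.inl hE)
  exact NatIso.isIso_of_isIso_app _

lemma isIso_εRight (E : Cx A) (hE : KFlat E) : IsIso (εRight A E) := by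
  haveI : ∀ L, IsIso ((εRight A E).app L) := fun L =>
    Groth.Agent.H4.LK4.isIso_ε_of_kflat L E (Or.inr hE)
  exact NatIso.isIso_of_isIso_app _

/-- `K ⊗^L -` is Yoneda-exact. -/
theorem yexact_LTen_obj (K : Dual.D A) : YExact ((LTen A).obj K) := by
  obtain ⟨E, -, -, hE, ⟨e⟩⟩ := Groth.Agent.H4.LK4.exists_kproj_kflat_iso K
  refine YExact.of_iso ((LTen A).mapIso e) ?_
  haveI := isIso_εLeft E hE
  refine yexact_of_lift _ (tensorLeft E) (asIso (εLeft A E)) (fun {X Y} f => ?_)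
  exact ⟨Groth.Agent.H4.TC3.coneTensorLeft E f,
    Groth.Agent.H4.TC2.inr_coneIso₂_hom (curriedTensor (ModuleCat.{u} A)) E f⟩

/-- `- ⊗^L K` is Yoneda-exact. -/
theorem yexact_tensorRightD (K : Dual.D A) : YExact (tensorRightD A K) := by
  obtain ⟨E, -, -, hE, ⟨e⟩⟩ := Groth.Agent.H4.LK4.exists_kproj_kflat_iso K
  refine YExact.of_iso ((LTen A).flip.mapIso e) ?_
  haveI := isIso_εRight E hE
  refine yexact_of_lift _ (tensorRight E) (asIso (εRight A E)) (fun {X Y} f => ?_)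
  exact ⟨Groth.Agent.H4.TC3.coneTensorRight f E,
    Groth.Agent.H4.TC2.inr_coneIso₁_hom (curriedTensor (ModuleCat.{u} A)) f E⟩


set_option quotPrecheck false in
/-- notation for the object part of `⊗^L` -/
local notation:max "tO(" a ", " b ")" => (LTen₂ _).obj (a, b)

set_option quotPrecheck false in
/-- notation for the map part of `⊗^L` -/
local notation:max "tM(" f ", " g ")" => (LTen₂ _).map (Prod.mkHom f g)

@[reassoc]
lemma tM_comp {a a' a'' b b' b'' : Dual.D A} (f : a ⟶ a') (f' : a' ⟶ a'') (g : b ⟶ b')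
    (g' : b' ⟶ b'') : tM(f, g) ≫ tM(f', g') = tM(f ≫ f', g ≫ g') := by
  rw [← Functor.map_comp]
  rfl

lemma tM_id (a b : Dual.D A) : tM(𝟙 a, 𝟙 b) = 𝟙 tO(a, b) :=
  (LTen₂ A).map_id (a, b)

section assoc

variable [DTen.HasLTen₃ A] [DTen.IsSymMonoidal A]

/-- naturality of the associator in all three variables. -/
lemma associator_naturality {a a' b b' c c' : Dual.D A} (f : a ⟶ a') (g : b ⟶ b') (h : c ⟶ c') :
    (LTen₂ A).map (Prod.mkHom ((LTen₂ A).map (Prod.mkHom f g)) h) ≫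
        (DTen.associator a' b' c').hom =
      (DTen.associator a b c).hom ≫
        (LTen₂ A).map (Prod.mkHom f ((LTen₂ A).map (Prod.mkHom g h))) := by
  have hL := (assocL A).naturality (X := (a, (b, c))) (Y := (a', (b', c')))
    (Prod.mkHom f (Prod.mkHom g h))
  have hR := (assocR A).naturality (X := (a, (b, c))) (Y := (a', (b', c')))
    (Prod.mkHom f (Prod.mkHom g h))
  have e1 : (LTenL A).map (Prod.mkHom f (Prod.mkHom g h) : (a, (b, c)) ⟶ (a', (b', c'))) =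
      (LTen₂ A).map (Prod.mkHom ((LTen₂ A).map (Prod.mkHom f g)) h) := rfl
  have e2 : (LTenR A).map (Prod.mkHom f (Prod.mkHom g h) : (a, (b, c)) ⟶ (a', (b', c'))) =
      (LTen₂ A).map (Prod.mkHom f ((LTen₂ A).map (Prod.mkHom g h))) := rfl
  rw [e1] at hL
  rw [e2] at hR
  haveI : IsIso ((assocR A).app (a', (b', c'))) := inferInstance
  rw [← cancel_mono ((assocR A).app (a', (b', c'))), assoc, assoc, associator_hom_assocR]
  refine hL.trans ?_
  have h3 := associator_hom_assocR a b c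
  have h4 : (assocL A).app (a, (b, c)) ≫ (LTen₃ A).map (Prod.mkHom f (Prod.mkHom g h)) =
      (DTen.associator a b c).hom ≫ ((assocR A).app (a, (b, c)) ≫
          (LTen₃ A).map (Prod.mkHom f (Prod.mkHom g h))) := by
    rw [← h3]
    exact assoc _ _ _
  refine h4.trans ?_
  exact congrArg (fun z => (DTen.associator a b c).hom ≫ z) hR.symm

lemma associator_inv_naturality {a a' b b' c c' : Dual.D A} (f : a ⟶ a') (g : b ⟶ b')
    (h : c ⟶ c') :
    (LTen₂ A).map (Prod.mkHom f ((LTen₂ A).map (Prod.mkHom g h))) ≫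
        (DTen.associator a' b' c').inv =
      (DTen.associator a b c).inv ≫
        (LTen₂ A).map (Prod.mkHom ((LTen₂ A).map (Prod.mkHom f g)) h) := by
  rw [Iso.comp_inv_eq, assoc, associator_naturality, Iso.inv_hom_id_assoc]

/-- `K' ⊗ (K ⊗ Y) ≅ Y`, naturally in `Y`, when `K' ⊗ K ≅ unit`. -/
noncomputable def leftCancelIso (K K' : Dual.D A) (e : tO(K', K) ≅ unit A) :
    (LTen A).obj K ⋙ (LTen A).obj K' ≅ 𝟭 (Dual.D A) :=
  NatIso.ofComponents (fun Y => (DTen.associator K' K Y).symm ≪≫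
    ((LTen A).flip.obj Y).mapIso e ≪≫ leftUnitor Y) (by
    intro Y Y' g
    have h1 := associator_inv_naturality (𝟙 K') (𝟙 K) g
    have h2 : tM(tM(𝟙 K', 𝟙 K), g) ≫ tM(e.hom, 𝟙 Y') = tM(e.hom, 𝟙 Y) ≫ tM(𝟙 (unit A), g) := by
      rw [tM_id, tM_comp, tM_comp, id_comp, comp_id, id_comp, comp_id]
    have h3 := (unitL A).naturality g
    change tM(𝟙 K', tM(𝟙 K, g)) ≫ (DTen.associator K' K Y').inv ≫ tM(e.hom, 𝟙 Y') ≫
      (unitL A).app Y' = ((DTen.associator K' K Y).inv ≫ tM(e.hom, 𝟙 Y) ≫ (unitL A).app Y) ≫ g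
    change tM(𝟙 (unit A), g) ≫ (unitL A).app Y' = (unitL A).app Y ≫ g at h3
    rw [reassoc_of% h1, reassoc_of% h2, h3]
    simp only [assoc])

/-- `(Y ⊗ K) ⊗ K' ≅ Y`, naturally in `Y`, when `K ⊗ K' ≅ unit`. -/
noncomputable def rightCancelIso (K K' : Dual.D A) (e : tO(K, K') ≅ unit A) :
    tensorRightD A K ⋙ tensorRightD A K' ≅ 𝟭 (Dual.D A) :=
  NatIso.ofComponents (fun Y => DTen.associator Y K K' ≪≫
    ((LTen A).obj Y).mapIso e ≪≫ rightUnitor Y) (by
    intro Y Y' g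
    have h1 := associator_naturality g (𝟙 K) (𝟙 K')
    have h2 : tM(g, tM(𝟙 K, 𝟙 K')) ≫ tM(𝟙 Y', e.hom) = tM(𝟙 Y, e.hom) ≫ tM(g, 𝟙 (unit A)) := by
      rw [tM_id, tM_comp, tM_comp, id_comp, comp_id, id_comp, comp_id]
    have h3 := (unitR A).naturality g
    change tM(tM(g, 𝟙 K), 𝟙 K') ≫ (DTen.associator Y' K K').hom ≫ tM(𝟙 Y', e.hom) ≫
      (unitR A).app Y' = ((DTen.associator Y K K').hom ≫ tM(𝟙 Y, e.hom) ≫ (unitR A).app Y) ≫ g
    change tM(g, 𝟙 (unit A)) ≫ (unitR A).app Y' = (unitR A).app Y ≫ g at h3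
    rw [reassoc_of% h1, reassoc_of% h2, h3]
    simp only [assoc])

/-- If `K ⊗ K' ≅ unit ≅ K' ⊗ K` then `K ⊗ -` is an equivalence. -/
theorem isEquivalence_LTen_obj (K K' : Dual.D A) (e₁ : tO(K, K') ≅ unit A) (e₂ : tO(K', K) ≅ unit A) :
    ((LTen A).obj K).IsEquivalence :=
  (CategoryTheory.Equivalence.mk ((LTen A).obj K) ((LTen A).obj K') (leftCancelIso K K' e₂).symm
    (leftCancelIso K' K e₁)).isEquivalence_functor

/-- If `K ⊗ K' ≅ unit ≅ K' ⊗ K` then `- ⊗ K` is an equivalence. -/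
theorem isEquivalence_tensorRightD (K K' : Dual.D A) (e₁ : tO(K, K') ≅ unit A)
    (e₂ : tO(K', K) ≅ unit A) : (tensorRightD A K).IsEquivalence :=
  (CategoryTheory.Equivalence.mk (tensorRightD A K) (tensorRightD A K') (rightCancelIso K K' e₁).symm
    (rightCancelIso K' K e₂)).isEquivalence_functor

end assoc

section unitShift

omit [DTen.HasLTen A] in
lemma kflat_unit : KFlat (𝟙_ (Cx A)) := fun L hL => Acyc.of_iso (ρ_ L).symm hL

/-- the complex `A[n]`. -/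
noncomputable abbrev S (A : Type u) [CommRing A] (n : ℤ) : Cx A := (𝟙_ (Cx A))⟦n⟧

omit [DTen.HasLTen A] in
lemma kflat_S (n : ℤ) : KFlat (S A n) := (kflat_shift_iff _ n).2 kflat_unit

/-- `A[n] ⊗ A[-n] ≅ A`. -/
noncomputable def SIso₁ (n : ℤ) : S A n ⊗ S A (-n) ≅ 𝟙_ (Cx A) :=
  CochainComplex.mapBifunctorShift₁Iso (𝟙_ (Cx A)) (S A (-n)) (curriedTensor (ModuleCat.{u} A)) n ≪≫
    (CategoryTheory.shiftFunctor (Cx A) n).mapIso (λ_ (S A (-n))) ≪≫
    (shiftEquiv (Cx A) n).counitIso.app (𝟙_ (Cx A))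

/-- `A[-n] ⊗ A[n] ≅ A`. -/
noncomputable def SIso₂ (n : ℤ) : S A (-n) ⊗ S A n ≅ 𝟙_ (Cx A) :=
  CochainComplex.mapBifunctorShift₁Iso (𝟙_ (Cx A)) (S A n) (curriedTensor (ModuleCat.{u} A)) (-n) ≪≫
    (CategoryTheory.shiftFunctor (Cx A) (-n)).mapIso (λ_ (S A n)) ≪≫
    ((shiftEquiv (Cx A) n).unitIso.app (𝟙_ (Cx A))).symm

/-- `unit[n] ≅ Q(A[n])` -/
noncomputable def unitShiftIso (n : ℤ) : (unit A)⟦n⟧ ≅ Q.obj (S A n) :=
  ((Q.commShiftIso n).app (𝟙_ (Cx A))).symm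

/-- `QK ⊗^L QL ≅ Q(K ⊗ L)` for `K` K-flat. -/
noncomputable def tOIso (K L : Cx A) (hK : KFlat K) : tO(Q.obj K, Q.obj L) ≅ Q.obj (K ⊗ L) :=
  haveI := Groth.Agent.H4.LK4.isIso_ε_of_kflat K L (Or.inl hK)
  asIso ((ε A).app (K, L))

/-- `unit[n] ⊗^L unit[-n] ≅ unit`. -/
noncomputable def unitShiftInv₁ (n : ℤ) : tO((unit A)⟦n⟧, (unit A)⟦-n⟧) ≅ unit A :=
  (LTen₂ A).mapIso (Iso.prod (unitShiftIso n) (unitShiftIso (-n))) ≪≫
    tOIso (S A n) (S A (-n)) (kflat_S n) ≪≫ Q.mapIso (SIso₁ n)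

/-- `unit[-n] ⊗^L unit[n] ≅ unit`. -/
noncomputable def unitShiftInv₂ (n : ℤ) : tO((unit A)⟦-n⟧, (unit A)⟦n⟧) ≅ unit A :=
  (LTen₂ A).mapIso (Iso.prod (unitShiftIso (-n)) (unitShiftIso n)) ≪≫
    tOIso (S A (-n)) (S A n) (kflat_S (-n)) ≪≫ Q.mapIso (SIso₂ n)

variable [DTen.HasLTen₃ A] [DTen.IsSymMonoidal A]

theorem isEquivalence_LTen_obj_unitShift (n : ℤ) : ((LTen A).obj ((unit A)⟦n⟧)).IsEquivalence :=
  isEquivalence_LTen_obj _ _ (unitShiftInv₁ n) (unitShiftInv₂ n)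

theorem isEquivalence_tensorRightD_unitShift (n : ℤ) :
    (tensorRightD A ((unit A)⟦n⟧)).IsEquivalence :=
  isEquivalence_tensorRightD _ _ (unitShiftInv₁ n) (unitShiftInv₂ n)

end unitShift

end Groth.Agent.H4.EV3
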