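import Mathlib
import Groth.Prelude.Def_DTen3
import Groth.Agent.H4.EV3

/-!
# `evalTen` is an isomorphism for perfect `K` (S13892)
-/

set_option autoImplicit false
universe u
open CategoryTheory Category Limits Pretriangulated MonoidalCategory

namespace Groth.Agent.H4.EV4

attribute [local instance] HasDerivedCategory.standard

open DTen DerivedCategory Groth.Agent.H4.EV1 Groth.Agent.H4.EV2 Groth.Agent.H4.EV3

variable {A : Type u} [CommRing A]

/-- A natural transformation between Yoneda-exact endofunctors of `D(A)` which is an isomorphism on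
all shifts of `A[0]` is an isomorphism on every perfect object. -/
theorem isIso_app_of_isPerfect {F G : Dual.D A ⥤ Dual.D A} (hF : YExact F) (hG : YExact G)
    (τ : F ⟶ G) (h1 : ∀ n : ℤ, IsIso (τ.app ((Dual.inD A A)⟦n⟧)))
    (K : Dual.D A) (hK : DRing.IsPerfect A K) : IsIso (τ.app K) := by
  let P : Dual.D A → Prop := fun X => ∀ n : ℤ, IsIso (τ.app (X⟦n⟧))
  have hP : ThickPred P :=
    { iso := fun {X Y} e hX n =>
        (NatTrans.isIso_app_iff_of_iso τ ((shiftFunctor (Dual.D A) n).mapIso e)).1 (hX n)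
      shift := fun X m hX n =>
        (NatTrans.isIso_app_iff_of_iso τ ((shiftFunctorAdd' (Dual.D A) m n _ rfl).app X)).1
          (hX (m + n))
      ext₂ := fun T hT hX hZ n => by
        have hTn := Triangle.shift_distinguished T hT n
        refine isIso_app_obj₂ hF hG τ _ hTn (hX n) (hZ n) ?_ ?_
        · exact (NatTrans.isIso_app_iff_of_iso τ
            ((shiftFunctorAdd' (Dual.D A) n 1 _ rfl).app T.obj₁)).1 (hX (n + 1))
        · exact (NatTrans.isIso_app_iff_of_iso τ
            ((shiftFunctorAdd' (Dual.D A) n (-1) _ rfl).app T.obj₃)).1 (hZ (n + -1))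
      retract := fun {X Y} i p hip hY n => by
        haveI := hY n
        refine ⟨G.map (i⟦n⟧') ≫ inv (τ.app (Y⟦n⟧)) ≫ F.map (p⟦n⟧'), ?_, ?_⟩
        · rw [← τ.naturality_assoc, IsIso.hom_inv_id_assoc, ← F.map_comp, ← Functor.map_comp, hip,
            CategoryTheory.Functor.map_id, CategoryTheory.Functor.map_id]
        · rw [assoc, assoc, τ.naturality, IsIso.inv_hom_id_assoc, ← G.map_comp,
            ← Functor.map_comp, hip, CategoryTheory.Functor.map_id,
            CategoryTheory.Functor.map_id] }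
  have := hP.of_isPerfect h1 hK 0
  exact (NatTrans.isIso_app_iff_of_iso τ ((shiftFunctorZero (Dual.D A) ℤ).app K)).1 this


variable [DTen.HasLTen A] [DTen.HasLTen₃ A] [DTen.IsSymMonoidal A] [DTen.HasRHom A]

set_option quotPrecheck false in
/-- notation for the object part of `⊗^L` -/
local notation:max "tO(" a ", " b ")" => (LTen₂ _).obj (a, b)

set_option quotPrecheck false in
/-- notation for the map part of `⊗^L` -/
local notation:max "tM(" f ", " g ")" => (LTen₂ _).map (Prod.mkHom f g)

lemma homEquiv_symm_evalTen (K L M : Dual.D A) :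
    ((rhomAdj A M).homEquiv _ _).symm (evalTen K L M) = evalTenAux K L M :=
  Equiv.symm_apply_apply _ _

/-- the formula for the adjunct of `φ ≫ evalTen`. -/
lemma homEquiv_symm_comp_evalTen (K L M W : Dual.D A) (φ : W ⟶ tO(K, (RHomR A M).obj L)) :
    ((rhomAdj A M).homEquiv _ _).symm (φ ≫ evalTen K L M) =
      tM(φ, 𝟙 M) ≫ (DTen.associator K ((RHomR A M).obj L) M).hom ≫ tM(𝟙 K, ev M L) := by
  rw [Adjunction.homEquiv_naturality_left_symm, homEquiv_symm_evalTen]
  rfl

/-- `evalTen` as a natural transformation in `K`. -/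
noncomputable def evalTenNat (L M : Dual.D A) :
    tensorRightD A ((RHomR A M).obj L) ⟶ tensorRightD A L ⋙ RHomR A M where
  app K := evalTen K L M
  naturality K K' f := by
    apply ((rhomAdj A M).homEquiv _ _).symm.injective
    change ((rhomAdj A M).homEquiv _ _).symm (tM(f, 𝟙 _) ≫ evalTen K' L M) =
      ((rhomAdj A M).homEquiv _ _).symm (evalTen K L M ≫ (RHomR A M).map tM(f, 𝟙 L))
    rw [homEquiv_symm_comp_evalTen, Adjunction.homEquiv_naturality_right_symm,
      homEquiv_symm_evalTen]
    dsimp only [evalTenAux]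
    have h1 := associator_naturality f (𝟙 ((RHomR A M).obj L)) (𝟙 M)
    rw [reassoc_of% h1, tM_id, tM_comp, assoc, tM_comp]
    simp

/-- if `K ⊗ -` is an equivalence then `evalTen K L M` is an isomorphism. -/
theorem isIso_evalTen_of_isEquivalence_left (K L M : Dual.D A)
    [((LTen A).obj K).IsEquivalence] : IsIso (evalTen K L M) := by
  -- key formula
  have key : ∀ (T' : Dual.D A) (ψ : T' ⟶ (RHomR A M).obj L),
      ((rhomAdj A M).homEquiv _ _).symm (((LTen A).obj K).map ψ ≫ evalTen K L M) =
        (DTen.associator K T' M).hom ≫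
          ((LTen A).obj K).map (((rhomAdj A M).homEquiv _ _).symm ψ) := by
    intro T' ψ
    rw [homEquiv_symm_comp_evalTen]
    have h1 := associator_naturality (𝟙 K) ψ (𝟙 M)
    change tM(tM(𝟙 K, ψ), 𝟙 M) ≫ _ ≫ _ = _ ≫ tM(𝟙 K, _)
    rw [reassoc_of% h1, tM_comp, id_comp, Adjunction.homEquiv_counit]
    rfl
  -- surjectivity
  have hsurj : ∀ (T' : Dual.D A) (ξ : ((LTen A).obj K).obj T' ⟶ (RHomR A M).obj tO(K, L)),
      ∃ φ : ((LTen A).obj K).obj T' ⟶ tO(K, (RHomR A M).obj L), φ ≫ evalTen K L M = ξ := by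
    intro T' ξ
    obtain ⟨g, hg⟩ := ((LTen A).obj K).map_surjective
      ((DTen.associator K T' M).inv ≫ ((rhomAdj A M).homEquiv _ _).symm ξ)
    refine ⟨((LTen A).obj K).map ((rhomAdj A M).homEquiv _ _ g), ?_⟩
    apply ((rhomAdj A M).homEquiv _ _).symm.injective
    rw [key, Equiv.symm_apply_apply, hg, Iso.hom_inv_id_assoc]
    rfl
  -- injectivity
  have hinj : ∀ (T' : Dual.D A) (φ₁ φ₂ : ((LTen A).obj K).obj T' ⟶ tO(K, (RHomR A M).obj L)),
      φ₁ ≫ evalTen K L M = φ₂ ≫ evalTen K L M → φ₁ = φ₂ := by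
    intro T' φ₁ φ₂ h
    obtain ⟨ψ₁, rfl⟩ := ((LTen A).obj K).map_surjective φ₁
    obtain ⟨ψ₂, rfl⟩ := ((LTen A).obj K).map_surjective φ₂
    have h' := congrArg ((rhomAdj A M).homEquiv _ _).symm h
    rw [key, key, cancel_epi] at h'
    have h'' := ((LTen A).obj K).map_injective h'
    rw [((rhomAdj A M).homEquiv _ _).symm.injective h'']
  haveI : Mono (evalTen K L M) := by
    constructor
    intro W a b hab
    let e := ((LTen A).obj K).objObjPreimageIso W
    have := hinj _ (e.hom ≫ a) (e.hom ≫ b) (by rw [assoc, assoc, hab])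
    exact (cancel_epi e.hom).1 this
  let e := ((LTen A).obj K).objObjPreimageIso ((RHomR A M).obj tO(K, L))
  obtain ⟨φ, hφ⟩ := hsurj _ e.hom
  haveI : IsSplitEpi (evalTen K L M) := ⟨⟨e.inv ≫ φ, by rw [assoc, hφ, Iso.inv_hom_id]⟩⟩
  exact isIso_of_mono_of_isSplitEpi _

/-- if `- ⊗ M` is an equivalence then `evalTen K L M` is an isomorphism. -/
theorem isIso_evalTen_of_isEquivalence_right (K L M : Dual.D A)
    [(tensorRightD A M).IsEquivalence] : IsIso (evalTen K L M) := by
  rw [isIso_iff_yoneda_map_bijective]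
  intro W
  have h : (fun φ : W ⟶ tO(K, (RHomR A M).obj L) => φ ≫ evalTen K L M) =
      (fun φ => (rhomAdj A M).homEquiv _ _ ((tensorRightD A M).map φ ≫
        ((DTen.associator K ((RHomR A M).obj L) M).hom ≫ tM(𝟙 K, ev M L)))) := by
    funext φ
    apply ((rhomAdj A M).homEquiv _ _).symm.injective
    rw [homEquiv_symm_comp_evalTen, Equiv.symm_apply_apply]
    rfl
  rw [h]
  haveI : IsIso (ev M L) := by
    haveI : IsIso (rhomAdj A M).counit := inferInstance
    infer_instance
  haveI : IsIso tM(𝟙 K, ev M L) :=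
    inferInstanceAs (IsIso (((LTen A).obj K).map (ev M L)))
  haveI : IsIso ((DTen.associator K ((RHomR A M).obj L) M).hom ≫ tM(𝟙 K, ev M L)) := inferInstance
  exact ((rhomAdj A M).homEquiv _ _).bijective.comp (Function.Bijective.comp
    (asIso ((DTen.associator K ((RHomR A M).obj L) M).hom ≫ tM(𝟙 K, ev M L))).homToEquiv.bijective
    ⟨(tensorRightD A M).map_injective, (tensorRightD A M).map_surjective⟩)

/-- **S13892**: `evalTen K L M` is an isomorphism for `K` perfect. -/
theorem isIso_evalTen_of_isPerfect_left (K L M : Dual.D A) (hK : DRing.IsPerfect A K) :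
    IsIso (evalTen K L M) := by
  refine isIso_app_of_isPerfect (yexact_tensorRightD _)
    ((yexact_tensorRightD L).comp_rightAdjoint (rhomAdj A M)) (evalTenNat L M) ?_ K hK
  intro n
  haveI := isEquivalence_LTen_obj_unitShift (A := A) n
  exact isIso_evalTen_of_isEquivalence_left ((unit A)⟦n⟧) L M

end Groth.Agent.H4.EV4
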