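import Mathlib
import Groth.Agent.H4.EV1

/-!
# Completable pairs of morphisms in a pretriangulated category
-/

open CategoryTheory Category Limits Pretriangulated Opposite

namespace Groth.Agent.H4.EV5

open Groth.Agent.H4.EV1

variable {C D : Type*} [Category C] [Category D] [Preadditive C] [HasZeroObject C] [HasShift C ℤ]
  [∀ n : ℤ, (shiftFunctor C n).Additive] [Pretriangulated C] [Preadditive D]

/-- A pair of composable maps is *completable* if it consists of the first two maps of a distinguished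
triangle. -/
def Cpl {X Y Z : C} (u : X ⟶ Y) (v : Y ⟶ Z) : Prop :=
  ∃ w : Z ⟶ X⟦(1 : ℤ)⟧, Triangle.mk u v w ∈ distTriang C

lemma Cpl.of_distTriang (T : Triangle C) (hT : T ∈ distTriang C) : Cpl T.mor₁ T.mor₂ :=
  ⟨T.mor₃, hT⟩

lemma Cpl.of_iso {X Y Z X' Y' Z' : C} {u : X ⟶ Y} {v : Y ⟶ Z} {u' : X' ⟶ Y'} {v' : Y' ⟶ Z'}
    (a : X ≅ X') (b : Y ≅ Y') (c : Z ≅ Z') (h₁ : u ≫ b.hom = a.hom ≫ u')
    (h₂ : v ≫ c.hom = b.hom ≫ v') (h : Cpl u' v') : Cpl u v := by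
  obtain ⟨w', hw'⟩ := h
  refine ⟨c.hom ≫ w' ≫ (a.inv)⟦(1 : ℤ)⟧', ?_⟩
  refine isomorphic_distinguished _ hw' _ (Triangle.isoMk _ _ a b c h₁ h₂ ?_)
  change (c.hom ≫ w' ≫ (a.inv)⟦(1 : ℤ)⟧') ≫ (a.hom)⟦(1 : ℤ)⟧' = c.hom ≫ w'
  rw [assoc, assoc, ← Functor.map_comp, Iso.inv_hom_id, CategoryTheory.Functor.map_id, comp_id]

lemma Cpl.yex₂ {X Y Z : C} {u : X ⟶ Y} {v : Y ⟶ Z} (h : Cpl u v) : YEx₂ u v := by
  obtain ⟨w, hw⟩ := h
  exact YEx₂.of_distTriang _ hw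

/-- contravariant Yoneda-exactness -/
def YExactOp (F : Cᵒᵖ ⥤ D) : Prop :=
  ∀ T ∈ distTriang C, YEx₂ (F.map T.mor₂.op) (F.map T.mor₁.op)

/-- The five lemma for a natural transformation between contravariant Yoneda-exact functors. -/
theorem isIso_app_obj₂_op {F G : Cᵒᵖ ⥤ D} (hF : YExactOp F) (hG : YExactOp G) (τ : F ⟶ G)
    (T : Triangle C) (hT : T ∈ distTriang C)
    (h₁ : IsIso (τ.app (op T.obj₁))) (h₃ : IsIso (τ.app (op T.obj₃)))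
    (h₁' : IsIso (τ.app (op (T.obj₁⟦(1 : ℤ)⟧)))) (h₃' : IsIso (τ.app (op (T.obj₃⟦(-1 : ℤ)⟧)))) :
    IsIso (τ.app (op T.obj₂)) := by
  have hTi := inv_rot_of_distTriang T hT
  have hTr := rot_of_distTriang T hT
  exact yoneda_five (F.map T.mor₃.op) (F.map T.mor₂.op) (F.map T.mor₁.op)
    (F.map T.invRotate.mor₁.op)
    (G.map T.mor₃.op) (G.map T.mor₂.op) (G.map T.mor₁.op) (G.map T.invRotate.mor₁.op)
    (τ.app (op (T.obj₁⟦(1 : ℤ)⟧))) (τ.app (op T.obj₃)) (τ.app (op T.obj₂)) (τ.app (op T.obj₁))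
    (τ.app (op (T.obj₃⟦(-1 : ℤ)⟧)))
    (τ.naturality _) (τ.naturality _) (τ.naturality _) (τ.naturality T.invRotate.mor₁.op)
    (hF _ hTr).1 (hG _ hTi).1 (hF _ hT).2 (hF _ hTi).2 (hG _ hTr).2 (hG _ hT).2 h₁' h₃ h₁ h₃'

end Groth.Agent.H4.EV5
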