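import Mathlib
import Groth.Prelude.Def_DRing4

/-!
# The tensor-hom adjunction for cochain complexes of modules
-/

set_option autoImplicit false
universe u
open CategoryTheory Category Limits MonoidalCategory HomologicalComplex CochainComplex
  CochainComplex.HomComplex

namespace Groth.Agent.H4.HC1

variable {A : Type u} [CommRing A]

abbrev Cx (A : Type u) [CommRing A] := CochainComplex (ModuleCat.{u} A) ℤ

/-- the differential of a tensor product on a summand. -/
lemma ι_tensor_d (T P : Cx A) (n p q : ℤ) (h : n + p = q) (q' : ℤ) (hq' : q + 1 = q') :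
    ιTensorObj T P n p q h ≫ (T ⊗ P).d q q' =
      (T.d n (n + 1) ▷ P.X p) ≫ ιTensorObj T P (n + 1) p q' (by omega) +
        n.negOnePow • ((T.X n ◁ P.d p (p + 1)) ≫ ιTensorObj T P n (p + 1) q' (by omega)) := by
  subst hq'
  change ιMapBifunctor T P (curriedTensor (ModuleCat.{u} A)) (.up ℤ) n p q h ≫
    (mapBifunctor T P (curriedTensor (ModuleCat.{u} A)) (.up ℤ)).d q (q + 1) = _
  rw [mapBifunctor.d_eq]
  simp only [Preadditive.comp_add, mapBifunctor.ι_D₁, mapBifunctor.ι_D₂]
  rw [mapBifunctor.d₁_eq T P (curriedTensor (ModuleCat.{u} A)) (.up ℤ)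
      (show (ComplexShape.up ℤ).Rel n (n + 1) by simp) p (q + 1) (by simp; omega),
    mapBifunctor.d₂_eq T P (curriedTensor (ModuleCat.{u} A)) (.up ℤ) n
      (show (ComplexShape.up ℤ).Rel p (p + 1) by simp) (q + 1) (by simp; omega)]
  simp

section curry

variable {T P Y : Cx A}

/-- the bilinear pairings attached to `φ : T ⊗ P ⟶ Y`. -/
noncomputable def pair (φ : T ⊗ P ⟶ Y) (n p q : ℤ) (h : n + p = q) :
    T.X n →ₗ[A] P.X p →ₗ[A] Y.X q :=
  TensorProduct.curry (ιTensorObj T P n p q h ≫ φ.f q).hom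

lemma pair_apply (φ : T ⊗ P ⟶ Y) (n p q : ℤ) (h : n + p = q) (t : T.X n) (x : P.X p) :
    pair φ n p q h t x = (ιTensorObj T P n p q h ≫ φ.f q).hom (t ⊗ₜ[A] x) := rfl

/-- a map out of the tensor product is determined by its pairings. -/
lemma hom_ext_pair {φ φ' : T ⊗ P ⟶ Y}
    (h : ∀ (n p q : ℤ) (hq : n + p = q), pair φ n p q hq = pair φ' n p q hq) : φ = φ' := by
  refine HomologicalComplex.hom_ext _ _ (fun q => ?_)
  refine mapBifunctor.hom_ext (fun n p hq => ?_)
  refine ModuleCat.hom_ext (TensorProduct.ext' (fun t x => ?_))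
  exact LinearMap.congr_fun (LinearMap.congr_fun (h n p q hq) t) x

/-- the chain map condition in terms of the pairings. -/
lemma pair_d (φ : T ⊗ P ⟶ Y) (n p q : ℤ) (h : n + p = q) (t : T.X n) (x : P.X p) :
    (Y.d q (q + 1)).hom (pair φ n p q h t x) =
      pair φ (n + 1) p (q + 1) (by omega) ((T.d n (n + 1)).hom t) x +
        n.negOnePow • pair φ n (p + 1) (q + 1) (by omega) t ((P.d p (p + 1)).hom x) := by
  have h1 := φ.comm q (q + 1)
  have h2 := ι_tensor_d T P n p q h (q + 1) rfl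
  have h3 : (ιTensorObj T P n p q h ≫ φ.f q) ≫ Y.d q (q + 1) =
      ((T.d n (n + 1) ▷ P.X p) ≫ ιTensorObj T P (n + 1) p (q + 1) (by omega) +
        n.negOnePow • ((T.X n ◁ P.d p (p + 1)) ≫ ιTensorObj T P n (p + 1) (q + 1) (by omega))) ≫
        φ.f (q + 1) := by
    rw [assoc, h1, ← assoc, h2]
  have h4 := congrArg (fun f => f.hom (t ⊗ₜ[A] x)) h3
  simp only [Preadditive.add_comp, Linear.units_smul_comp, assoc] at h4
  exact h4

/-- the cochain `x ↦ φ(t ⊗ x)`. -/
noncomputable def curryCochain (φ : T ⊗ P ⟶ Y) (n : ℤ) (t : T.X n) : Cochain P Y n :=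
  Cochain.mk (fun p q hpq => ModuleCat.ofHom (pair φ n p q (by omega) t))

lemma curryCochain_v (φ : T ⊗ P ⟶ Y) (n : ℤ) (t : T.X n) (p q : ℤ) (hpq : p + n = q) :
    (curryCochain φ n t).v p q hpq = ModuleCat.ofHom (pair φ n p q (by omega) t) := rfl

/-- `t ↦ (x ↦ φ(t ⊗ x))` as a linear map. -/
noncomputable def curryLin (φ : T ⊗ P ⟶ Y) (n : ℤ) : T.X n →ₗ[A] Cochain P Y n where
  toFun := curryCochain φ n
  map_add' t t' := by
    ext p q hpq
    rw [Cochain.add_v, curryCochain_v, curryCochain_v, curryCochain_v, map_add]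
    rfl
  map_smul' a t := by
    ext p q hpq
    rw [Cochain.smul_v, curryCochain_v, curryCochain_v, map_smul]
    rfl

/-- currying: from `φ : T ⊗ P ⟶ Y` to `T ⟶ Hom•(P, Y)`. -/
noncomputable def curryHom (φ : T ⊗ P ⟶ Y) : T ⟶ DRing.homCx P Y where
  f n := ModuleCat.ofHom (curryLin φ n)
  comm' n m hnm := by
    obtain rfl : n + 1 = m := hnm
    apply ModuleCat.hom_ext
    apply LinearMap.ext
    intro (t : T.X n)
    have goal : δ n (n + 1) (curryCochain φ n t) =
        curryCochain φ (n + 1) ((ConcreteCategory.hom (T.d n (n + 1))) t) := by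
      ext p q hpq x
      obtain ⟨q', rfl⟩ : ∃ q', q = q' + 1 := ⟨q - 1, by omega⟩
      rw [δ_v n (n + 1) rfl _ p (q' + 1) hpq q' (p + 1) (by omega) rfl, curryCochain_v,
        curryCochain_v, curryCochain_v]
      have h := pair_d φ n p q' (by omega) t x
      change (Y.d q' (q' + 1)).hom (pair φ n p q' _ t x) +
        ((n + 1).negOnePow • (P.d p (p + 1) ≫ ModuleCat.ofHom (pair φ n (p + 1) (q' + 1) _ t))).hom x =
          pair φ (n + 1) p (q' + 1) _ ((T.d n (n + 1)).hom t) x
      rw [h, Int.negOnePow_succ]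
      rcases Int.units_eq_one_or n.negOnePow with h1 | h1 <;> rw [h1] <;> simp
    exact goal

/-- the terms of the Hom complex are the cochains. -/
noncomputable def asCochain (P Y : Cx A) (n : ℤ) : ((DRing.homCx P Y).X n) →ₗ[A] Cochain P Y n := LinearMap.id

lemma asCochain_d (P Y : Cx A) (n m : ℤ) (z : (DRing.homCx P Y).X n) :
    asCochain P Y m (((DRing.homCx P Y).d n m).hom z) = δ n m (asCochain P Y n z) := rfl

lemma asCochain_curryLin (φ : T ⊗ P ⟶ Y) (n : ℤ) (t : T.X n) :
    asCochain P Y n ((curryHom φ).f n t) = curryCochain φ n t := rfl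

/-- the bilinear pairings attached to `ψ : T ⟶ Hom•(P, Y)`. -/
noncomputable def unpair (ψ : T ⟶ DRing.homCx P Y) (n p q : ℤ) (h : n + p = q) :
    T.X n →ₗ[A] P.X p →ₗ[A] Y.X q where
  toFun t := ((asCochain P Y n ((ψ.f n).hom t)).v p q (by omega)).hom
  map_add' t t' := by rw [map_add, map_add, Cochain.add_v]; rfl
  map_smul' a t := by rw [map_smul, map_smul, Cochain.smul_v]; rfl

lemma unpair_apply (ψ : T ⟶ DRing.homCx P Y) (n p q : ℤ) (h : n + p = q) (t : T.X n)
    (x : P.X p) :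
    unpair ψ n p q h t x = ((asCochain P Y n ((ψ.f n).hom t)).v p q (by omega)).hom x := rfl

lemma unpair_curryHom (φ : T ⊗ P ⟶ Y) (n p q : ℤ) (h : n + p = q) :
    unpair (curryHom φ) n p q h = pair φ n p q h := rfl

/-- a map to the Hom complex is determined by its pairings. -/
lemma hom_ext_unpair {ψ ψ' : T ⟶ DRing.homCx P Y}
    (h : ∀ (n p q : ℤ) (hq : n + p = q), unpair ψ n p q hq = unpair ψ' n p q hq) : ψ = ψ' := by
  refine HomologicalComplex.hom_ext _ _ (fun n => ?_)
  apply ModuleCat.hom_ext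
  apply LinearMap.ext
  intro (t : T.X n)
  have : asCochain P Y n ((ψ.f n).hom t) = asCochain P Y n ((ψ'.f n).hom t) := by
    ext p q hpq x
    exact LinearMap.congr_fun (LinearMap.congr_fun (h n p q (by omega)) t) x
  exact this

/-- the chain map condition in terms of the pairings. -/
lemma unpair_d (ψ : T ⟶ DRing.homCx P Y) (n p q : ℤ) (h : n + p = q) (t : T.X n) (x : P.X p) :
    (Y.d q (q + 1)).hom (unpair ψ n p q h t x) =
      unpair ψ (n + 1) p (q + 1) (by omega) ((T.d n (n + 1)).hom t) x +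
        n.negOnePow • unpair ψ n (p + 1) (q + 1) (by omega) t ((P.d p (p + 1)).hom x) := by
  have h1 := ψ.comm n (n + 1)
  have h2 : asCochain P Y (n + 1) ((ψ.f (n + 1)).hom ((T.d n (n + 1)).hom t)) =
      δ n (n + 1) (asCochain P Y n ((ψ.f n).hom t)) := by
    rw [← asCochain_d]
    exact congrArg (asCochain P Y (n + 1)) (congrArg (fun f => f.hom t) h1).symm
  rw [unpair_apply ψ (n + 1) p (q + 1), h2,
    δ_v n (n + 1) rfl _ p (q + 1) (by omega) q (p + 1) (by omega) rfl]
  change _ = ((Y.d q (q + 1)).hom (unpair ψ n p q h t x) +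
    ((n + 1).negOnePow • (P.d p (p + 1) ≫ ((asCochain P Y n ((ψ.f n).hom t)).v (p + 1) (q + 1)
      (by omega)))).hom x) +
    n.negOnePow • unpair ψ n (p + 1) (q + 1) (by omega) t ((P.d p (p + 1)).hom x)
  rw [Int.negOnePow_succ]
  rcases Int.units_eq_one_or n.negOnePow with h1 | h1 <;> rw [h1] <;> simp [unpair_apply]

/-- uncurrying: from `ψ : T ⟶ Hom•(P, Y)` to `T ⊗ P ⟶ Y`. -/
noncomputable def uncurryHom (ψ : T ⟶ DRing.homCx P Y) : T ⊗ P ⟶ Y where
  f q := mapBifunctorDesc (fun n p h => ModuleCat.ofHom (TensorProduct.lift (unpair ψ n p q h)))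
  comm' q q' hq := by
    obtain rfl : q + 1 = q' := hq
    refine mapBifunctor.hom_ext (fun n p h => ?_)
    change n + p = q at h
    have h2 := ι_tensor_d T P n p q h (q + 1) rfl
    change ιTensorObj T P n p q h ≫ _ ≫ _ = ιTensorObj T P n p q h ≫ (T ⊗ P).d q (q + 1) ≫ _
    rw [reassoc_of% h2]
    erw [ι_mapBifunctorDesc_assoc]
    simp only [Preadditive.add_comp, Linear.units_smul_comp, assoc]
    erw [ι_mapBifunctorDesc, ι_mapBifunctorDesc]
    apply ModuleCat.hom_ext
    apply TensorProduct.ext'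
    intro (t : T.X n) (x : P.X p)
    exact unpair_d ψ n p q h t x

lemma pair_uncurryHom (ψ : T ⟶ DRing.homCx P Y) (n p q : ℤ) (h : n + p = q) :
    pair (uncurryHom ψ) n p q h = unpair ψ n p q h := by
  apply LinearMap.ext
  intro t
  apply LinearMap.ext
  intro x
  rw [pair_apply]
  have : ιTensorObj T P n p q h ≫ (uncurryHom ψ).f q =
      ModuleCat.ofHom (TensorProduct.lift (unpair ψ n p q h)) := by
    dsimp only [uncurryHom]
    erw [ι_mapBifunctorDesc]
  rw [this]
  rfl

/-- the tensor-hom bijection for complexes. -/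
noncomputable def curryEquiv (T P Y : Cx A) : (T ⊗ P ⟶ Y) ≃ (T ⟶ DRing.homCx P Y) where
  toFun := curryHom
  invFun := uncurryHom
  left_inv φ := hom_ext_pair (fun n p q h => by rw [pair_uncurryHom, unpair_curryHom])
  right_inv ψ := hom_ext_unpair (fun n p q h => by rw [unpair_curryHom, pair_uncurryHom])

lemma pair_whiskerRight_comp {T' : Cx A} (g : T' ⟶ T) (φ : T ⊗ P ⟶ Y) (n p q : ℤ)
    (h : n + p = q) (t : T'.X n) (x : P.X p) :
    pair (g ▷ P ≫ φ) n p q h t x = pair φ n p q h ((g.f n).hom t) x := by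
  rw [pair_apply, pair_apply]
  have : ιTensorObj T' P n p q h ≫ (g ▷ P ≫ φ).f q =
      (g.f n ▷ P.X p) ≫ ιTensorObj T P n p q h ≫ φ.f q := by
    rw [HomologicalComplex.comp_f, ← assoc, ← assoc]
    congr 1
    change ιMapBifunctor T' P (curriedTensor (ModuleCat.{u} A)) (.up ℤ) n p q h ≫
      (mapBifunctorMap g (𝟙 P) (curriedTensor (ModuleCat.{u} A)) (.up ℤ)).f q = _
    rw [ι_mapBifunctorMap]
    simp
  rw [this]
  rfl

lemma pair_whiskerLeft_comp {P' : Cx A} (j : P' ⟶ P) (φ : T ⊗ P ⟶ Y) (n p q : ℤ)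
    (h : n + p = q) (t : T.X n) (x : P'.X p) :
    pair (T ◁ j ≫ φ) n p q h t x = pair φ n p q h t ((j.f p).hom x) := by
  rw [pair_apply, pair_apply]
  have : ιTensorObj T P' n p q h ≫ (T ◁ j ≫ φ).f q =
      (T.X n ◁ j.f p) ≫ ιTensorObj T P n p q h ≫ φ.f q := by
    rw [HomologicalComplex.comp_f, ← assoc, ← assoc]
    congr 1
    change ιMapBifunctor T P' (curriedTensor (ModuleCat.{u} A)) (.up ℤ) n p q h ≫
      (mapBifunctorMap (𝟙 T) j (curriedTensor (ModuleCat.{u} A)) (.up ℤ)).f q = _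
    rw [ι_mapBifunctorMap]
    simp
  rw [this]
  rfl

lemma pair_comp {Y' : Cx A} (φ : T ⊗ P ⟶ Y) (f : Y ⟶ Y') (n p q : ℤ)
    (h : n + p = q) (t : T.X n) (x : P.X p) :
    pair (φ ≫ f) n p q h t x = (f.f q).hom (pair φ n p q h t x) := by
  rw [pair_apply, pair_apply, HomologicalComplex.comp_f, ← assoc]
  rfl

lemma unpair_comp_left {T' : Cx A} (g : T' ⟶ T) (ψ : T ⟶ DRing.homCx P Y) (n p q : ℤ)
    (h : n + p = q) (t : T'.X n) (x : P.X p) :
    unpair (g ≫ ψ) n p q h t x = unpair ψ n p q h ((g.f n).hom t) x := rfl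

lemma unpair_comp_homCxMap {Y' : Cx A} (ψ : T ⟶ DRing.homCx P Y) (f : Y ⟶ Y') (n p q : ℤ)
    (h : n + p = q) (t : T.X n) (x : P.X p) :
    unpair (ψ ≫ DRing.homCxMap P f) n p q h t x = (f.f q).hom (unpair ψ n p q h t x) := by
  rw [unpair_apply, unpair_apply]
  change (((asCochain P Y n ((ψ.f n).hom t)).comp (Cochain.ofHom f) (add_zero n)).v p q
    (by omega)).hom x = _
  rw [Cochain.comp_zero_cochain_v, Cochain.ofHom_v]
  rfl

lemma curryHom_naturality_left {T' : Cx A} (g : T' ⟶ T) (φ : T ⊗ P ⟶ Y) :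
    curryHom (g ▷ P ≫ φ) = g ≫ curryHom φ := by
  refine hom_ext_unpair (fun n p q h => ?_)
  apply LinearMap.ext
  intro t
  apply LinearMap.ext
  intro x
  rw [unpair_curryHom, pair_whiskerRight_comp, unpair_comp_left, unpair_curryHom]

lemma curryHom_naturality_right {Y' : Cx A} (φ : T ⊗ P ⟶ Y) (f : Y ⟶ Y') :
    curryHom (φ ≫ f) = curryHom φ ≫ DRing.homCxMap P f := by
  refine hom_ext_unpair (fun n p q h => ?_)
  apply LinearMap.ext
  intro t
  apply LinearMap.ext
  intro x
  rw [unpair_curryHom, pair_comp, unpair_comp_homCxMap, unpair_curryHom]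

end curry

section pre

/-- precomposition with `j` as a linear map on cochains. -/
noncomputable def precompLin {P P' : Cx A} (j : P' ⟶ P) (Y : Cx A) (i : ℤ) :
    Cochain P Y i →ₗ[A] Cochain P' Y i where
  toFun z := (Cochain.ofHom j).comp z (zero_add i)
  map_add' z z' := by simp
  map_smul' a z := by simp

/-- Functoriality of `Hom•(-, Y)` in the first variable. -/
noncomputable def homCxPre {P P' : Cx A} (j : P' ⟶ P) (Y : Cx A) :
    DRing.homCx P Y ⟶ DRing.homCx P' Y where
  f i := ModuleCat.ofHom (precompLin j Y i)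
  comm' i k _ := by
    apply ModuleCat.hom_ext
    apply LinearMap.ext
    intro (z : Cochain P Y i)
    change δ i k ((Cochain.ofHom j).comp z (zero_add i)) = (Cochain.ofHom j).comp (δ i k z) (zero_add k)
    exact δ_ofHom_comp j z k

lemma homCxPre_id (P Y : Cx A) : homCxPre (𝟙 P) Y = 𝟙 _ := by
  refine HomologicalComplex.hom_ext _ _ fun i => ?_
  apply ModuleCat.hom_ext
  apply LinearMap.ext
  intro (z : Cochain P Y i)
  exact Cochain.id_comp z

lemma homCxPre_comp {P P' P'' : Cx A} (j : P' ⟶ P) (j' : P'' ⟶ P') (Y : Cx A) :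
    homCxPre (j' ≫ j) Y = homCxPre j Y ≫ homCxPre j' Y := by
  refine HomologicalComplex.hom_ext _ _ fun i => ?_
  apply ModuleCat.hom_ext
  apply LinearMap.ext
  intro (z : Cochain P Y i)
  change (Cochain.ofHom (j' ≫ j)).comp z (zero_add i) =
    (Cochain.ofHom j').comp ((Cochain.ofHom j).comp z (zero_add i)) (zero_add i)
  rw [Cochain.ofHom_comp]
  exact Cochain.comp_assoc_of_first_is_zero_cochain _ _ _ _

lemma homCxPre_homCxMap {P P' : Cx A} (j : P' ⟶ P) {Y Y' : Cx A} (f : Y ⟶ Y') :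
    homCxPre j Y ≫ DRing.homCxMap P' f = DRing.homCxMap P f ≫ homCxPre j Y' := by
  refine HomologicalComplex.hom_ext _ _ fun i => ?_
  apply ModuleCat.hom_ext
  apply LinearMap.ext
  intro (z : Cochain P Y i)
  change ((Cochain.ofHom j).comp z (zero_add i)).comp (Cochain.ofHom f) (add_zero i) =
    (Cochain.ofHom j).comp (z.comp (Cochain.ofHom f) (add_zero i)) (zero_add i)
  exact Cochain.comp_assoc_of_third_is_zero_cochain _ _ _ _

/-- `Hom•(-, Y)` sends isomorphisms to isomorphisms. -/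
noncomputable def homCxPreIso {P P' : Cx A} (e : P' ≅ P) (Y : Cx A) :
    DRing.homCx P Y ≅ DRing.homCx P' Y where
  hom := homCxPre e.hom Y
  inv := homCxPre e.inv Y
  hom_inv_id := by rw [← homCxPre_comp, e.inv_hom_id, homCxPre_id]
  inv_hom_id := by rw [← homCxPre_comp, e.hom_inv_id, homCxPre_id]

variable {T P Y : Cx A}

lemma unpair_comp_homCxPre {P' : Cx A} (ψ : T ⟶ DRing.homCx P Y) (j : P' ⟶ P) (n p q : ℤ)
    (h : n + p = q) (t : T.X n) (x : P'.X p) :
    unpair (ψ ≫ homCxPre j Y) n p q h t x = unpair ψ n p q h t ((j.f p).hom x) := by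
  rw [unpair_apply, unpair_apply]
  change (((Cochain.ofHom j).comp (asCochain P Y n ((ψ.f n).hom t)) (zero_add n)).v p q
    (by omega)).hom x = _
  rw [Cochain.zero_cochain_comp_v, Cochain.ofHom_v]
  rfl

lemma curryHom_whiskerLeft_comp {P' : Cx A} (j : P' ⟶ P) (φ : T ⊗ P ⟶ Y) :
    curryHom (T ◁ j ≫ φ) = curryHom φ ≫ homCxPre j Y := by
  refine hom_ext_unpair (fun n p q h => ?_)
  apply LinearMap.ext
  intro t
  apply LinearMap.ext
  intro x
  rw [unpair_curryHom, pair_whiskerLeft_comp, unpair_comp_homCxPre, unpair_curryHom]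

end pre

/-- the tensor-hom adjunction for cochain complexes of modules. -/
noncomputable def tensorHomAdj (P : Cx A) : tensorRight P ⊣ DRing.homCxFunctor P :=
  Adjunction.mkOfHomEquiv
    { homEquiv := fun T Y => curryEquiv T P Y
      homEquiv_naturality_left_symm := fun {T' T Y} g ψ => by
        apply (curryEquiv T' P Y).injective
        refine ((curryEquiv T' P Y).apply_symm_apply _).trans ?_
        exact ((curryHom_naturality_left g ((curryEquiv T P Y).symm ψ)).trans
          (congrArg (g ≫ ·) ((curryEquiv T P Y).apply_symm_apply ψ))).symm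
      homEquiv_naturality_right := fun {T Y Y'} φ f => curryHom_naturality_right φ f }

lemma tensorHomAdj_homEquiv (P T Y : Cx A) (φ : T ⊗ P ⟶ Y) :
    (tensorHomAdj P).homEquiv T Y φ = curryHom φ := by
  rw [tensorHomAdj, Adjunction.mkOfHomEquiv_homEquiv]
  rfl

/-- the complex-level evaluation map `Hom•(P, Y) ⊗ P ⟶ Y`. -/
noncomputable def evCx (P Y : Cx A) : DRing.homCx P Y ⊗ P ⟶ Y :=
  uncurryHom (𝟙 (DRing.homCx P Y))

lemma curryHom_evCx (P Y : Cx A) : curryHom (evCx P Y) = 𝟙 _ :=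
  (curryEquiv _ P Y).right_inv _

lemma tensorHomAdj_homEquiv_symm (P T Y : Cx A) (ψ : T ⟶ DRing.homCx P Y) :
    ((tensorHomAdj P).homEquiv T Y).symm ψ = uncurryHom ψ := by
  rw [tensorHomAdj, Adjunction.mkOfHomEquiv_homEquiv]
  rfl

lemma tensorHomAdj_counit (P Y : Cx A) : (tensorHomAdj P).counit.app Y = evCx P Y := by
  rw [← Adjunction.homEquiv_symm_id]
  exact tensorHomAdj_homEquiv_symm P _ Y (𝟙 _)

/-- dinaturality of the evaluation map in the first variable. -/
lemma evCx_dinatural {P P' : Cx A} (j : P' ⟶ P) (Y : Cx A) :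
    (homCxPre j Y ▷ P') ≫ evCx P' Y = (DRing.homCx P Y ◁ j) ≫ evCx P Y := by
  apply (curryEquiv _ _ _).injective
  change curryHom _ = curryHom _
  rw [curryHom_naturality_left, curryHom_whiskerLeft_comp, curryHom_evCx, curryHom_evCx,
    comp_id, id_comp]

end Groth.Agent.H4.HC1
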