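import Mathlib
import Groth.Prelude.Def_DRing4
import Groth.Agent.H4.HC1

/-!
# `Hom•(P, -)` preserves quasi-isomorphisms for `P` K-projective
-/

set_option autoImplicit false
universe u
open CategoryTheory Category Limits MonoidalCategory HomologicalComplex CochainComplex
  CochainComplex.HomComplex

namespace Groth.Agent.H4.HC2

open Groth.Agent.H4.HC1

variable {A : Type u} [CommRing A]

/-- An elementwise criterion for a map of short complexes of modules to be a quasi-isomorphism. -/
theorem ShortComplex.quasiIso_of_elementwise {S₁ S₂ : ShortComplex (ModuleCat.{u} A)} (φ : S₁ ⟶ S₂)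
    (hs : ∀ z₂ : S₂.X₂, S₂.g.hom z₂ = 0 → ∃ z₁ : S₁.X₂, S₁.g.hom z₁ = 0 ∧
      ∃ w₂ : S₂.X₁, φ.τ₂.hom z₁ - z₂ = S₂.f.hom w₂)
    (hi : ∀ z₁ : S₁.X₂, S₁.g.hom z₁ = 0 → (∃ w₂ : S₂.X₁, φ.τ₂.hom z₁ = S₂.f.hom w₂) →
      ∃ w₁ : S₁.X₁, z₁ = S₁.f.hom w₁) : ShortComplex.QuasiIso φ := by
  rw [ShortComplex.quasiIso_iff_isIso_leftHomologyMap' φ S₁.moduleCatLeftHomologyData
    S₂.moduleCatLeftHomologyData]
  set h₁ := S₁.moduleCatLeftHomologyData
  set h₂ := S₂.moduleCatLeftHomologyData
  rw [ConcreteCategory.isIso_iff_bijective]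
  have hπ := ShortComplex.leftHomologyπ_naturality' φ h₁ h₂
  have hc := ShortComplex.cyclesMap'_i φ h₁ h₂
  let cM : LinearMap.ker S₁.g.hom →ₗ[A] LinearMap.ker S₂.g.hom :=
    (ShortComplex.cyclesMap' φ h₁ h₂).hom
  let hM : (LinearMap.ker S₁.g.hom ⧸ LinearMap.range S₁.moduleCatToCycles) →ₗ[A]
      (LinearMap.ker S₂.g.hom ⧸ LinearMap.range S₂.moduleCatToCycles) :=
    (ShortComplex.leftHomologyMap' φ h₁ h₂).hom
  have hc' : ∀ z : LinearMap.ker S₁.g.hom, (cM z).1 = φ.τ₂.hom z.1 := by
    intro z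
    exact congrArg (fun f => f.hom z) hc
  have hπ' : ∀ z : LinearMap.ker S₁.g.hom,
      hM (Submodule.Quotient.mk z) = Submodule.Quotient.mk (cM z) := by
    intro z
    exact congrArg (fun f => f.hom z) hπ
  change Function.Bijective hM
  constructor
  · -- injective
    rw [← LinearMap.ker_eq_bot, LinearMap.ker_eq_bot']
    intro y hy
    obtain ⟨z, rfl⟩ := Submodule.Quotient.mk_surjective _ y
    rw [hπ', Submodule.Quotient.mk_eq_zero] at hy
    rw [Submodule.Quotient.mk_eq_zero]
    obtain ⟨w₂, hw₂⟩ := hy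
    have e : φ.τ₂.hom z.1 = S₂.f.hom w₂ := by
      rw [← hc']
      exact (congrArg Subtype.val hw₂).symm
    obtain ⟨w₁, hw₁⟩ := hi z.1 z.2 ⟨w₂, e⟩
    exact ⟨w₁, Subtype.ext hw₁.symm⟩
  · -- surjective
    intro y
    obtain ⟨z₂, rfl⟩ := Submodule.Quotient.mk_surjective _ y
    obtain ⟨z₁, hz₁, w₂, hw₂⟩ := hs z₂.1 z₂.2
    refine ⟨Submodule.Quotient.mk ⟨z₁, hz₁⟩, ?_⟩
    rw [hπ', ← sub_eq_zero, ← Submodule.Quotient.mk_sub, Submodule.Quotient.mk_eq_zero]
    refine ⟨w₂, Subtype.ext ?_⟩
    change S₂.f.hom w₂ = (cM ⟨z₁, hz₁⟩).1 - z₂.1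
    rw [hc', hw₂]


/-- An elementwise criterion for a map of complexes of modules to be a quasi-isomorphism. -/
theorem quasiIso_of_elementwise {C C' : Cx A} (φ : C ⟶ C')
    (hs : ∀ (n : ℤ) (z' : C'.X n), (C'.d n (n + 1)).hom z' = 0 →
      ∃ z : C.X n, (C.d n (n + 1)).hom z = 0 ∧
        ∃ w' : C'.X (n - 1), (φ.f n).hom z - z' = (C'.d (n - 1) n).hom w')
    (hi : ∀ (n : ℤ) (z : C.X n), (C.d n (n + 1)).hom z = 0 →
      (∃ w' : C'.X (n - 1), (φ.f n).hom z = (C'.d (n - 1) n).hom w') →
        ∃ w : C.X (n - 1), z = (C.d (n - 1) n).hom w) : QuasiIso φ := by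
  rw [quasiIso_iff]
  intro n
  rw [quasiIsoAt_iff' φ (n - 1) n (n + 1) (by simp) (by simp)]
  exact ShortComplex.quasiIso_of_elementwise _ (hs n) (hi n)

section kproj

variable (P : Cx A) [P.IsKProjective]

attribute [local instance] HasDerivedCategory.standard

/-- postcomposition with a quasi-isomorphism is bijective on homotopy classes of maps from a
K-projective complex. -/
lemma bijective_postcomp_quotient {Y Y' : Cx A} (g : Y ⟶ Y') [QuasiIso g] :
    Function.Bijective (fun x : (HomotopyCategory.quotient _ _).obj P ⟶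
      (HomotopyCategory.quotient _ _).obj Y => x ≫ (HomotopyCategory.quotient _ _).map g) := by
  haveI : IsIso (DerivedCategory.Qh.map ((HomotopyCategory.quotient _ _).map g)) := by
    have h := (DerivedCategory.quotientCompQhIso (ModuleCat.{u} A)).hom.naturality g
    dsimp at h
    have : DerivedCategory.Qh.map ((HomotopyCategory.quotient _ _).map g) =
        (DerivedCategory.quotientCompQhIso (ModuleCat.{u} A)).hom.app Y ≫
          DerivedCategory.Q.map g ≫
            (DerivedCategory.quotientCompQhIso (ModuleCat.{u} A)).inv.app Y' := by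
      rw [← assoc, ← h, assoc, Iso.hom_inv_id_app]
      exact (comp_id _).symm
    rw [this]
    infer_instance
  rw [← Function.Bijective.of_comp_iff'
    (CochainComplex.IsKProjective.Qh_map_bijective P ((HomotopyCategory.quotient _ _).obj Y'))]
  have : (DerivedCategory.Qh.map : ((HomotopyCategory.quotient _ _).obj P ⟶
      (HomotopyCategory.quotient _ _).obj Y') → _) ∘
      (fun x : (HomotopyCategory.quotient _ _).obj P ⟶
      (HomotopyCategory.quotient _ _).obj Y => x ≫ (HomotopyCategory.quotient _ _).map g) =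
      (fun y => y ≫ DerivedCategory.Qh.map ((HomotopyCategory.quotient _ _).map g)) ∘
        (DerivedCategory.Qh.map : ((HomotopyCategory.quotient _ _).obj P ⟶
          (HomotopyCategory.quotient _ _).obj Y) → _) := by
    funext x
    simp
  rw [this]
  exact (asIso (DerivedCategory.Qh.map
    ((HomotopyCategory.quotient _ _).map g))).homToEquiv.bijective.comp
    (CochainComplex.IsKProjective.Qh_map_bijective P _)

/-- `Hom•(P, -)` preserves quasi-isomorphisms when `P` is K-projective. -/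
theorem quasiIso_homCxMap {Y Y' : Cx A} (f : Y ⟶ Y') [QuasiIso f] :
    QuasiIso (DRing.homCxMap P f) := by
  refine quasiIso_of_elementwise _ ?_ ?_
  · intro n (z' : Cochain P Y' n) (hz' : δ n (n + 1) z' = 0)
    let c' : Cocycle P Y' n := Cocycle.mk z' (n + 1) rfl hz'
    obtain ⟨x, hx⟩ := (bijective_postcomp_quotient P (f⟦n⟧')).2
      ((HomotopyCategory.quotient _ _).map (Cocycle.equivHomShift.symm c'))
    obtain ⟨g, rfl⟩ := (HomotopyCategory.quotient _ _).map_surjective x
    let c : Cocycle P Y n := Cocycle.equivHomShift g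
    have h1 : CohomologyClass.toHom (CohomologyClass.mk (c.postcomp f - c')) = 0 := by
      rw [CohomologyClass.toHom_mk, map_sub, Cocycle.equivHomShift_symm_postcomp,
        AddEquiv.symm_apply_apply, Functor.map_sub, Functor.map_comp]
      exact sub_eq_zero.2 hx
    rw [CohomologyClass.toHom_mk_eq_zero_iff, mem_coboundaries_iff _ (n - 1) (by omega)] at h1
    obtain ⟨β, hβ⟩ := h1
    refine ⟨c.1, Cocycle.δ_eq_zero c (n + 1), β, ?_⟩
    exact hβ.symm
  · intro n (z : Cochain P Y n) (hz : δ n (n + 1) z = 0) ⟨w', hw'⟩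
    let c : Cocycle P Y n := Cocycle.mk z (n + 1) rfl hz
    have hw'' : (c.postcomp f : Cochain P Y' n) = δ (n - 1) n (w' : Cochain P Y' (n - 1)) := hw'
    have h1 : c.postcomp f ∈ coboundaries P Y' n := by
      rw [mem_coboundaries_iff _ (n - 1) (by omega)]
      exact ⟨w', hw''.symm⟩
    rw [← CohomologyClass.toHom_mk_eq_zero_iff, CohomologyClass.toHom_mk,
      Cocycle.equivHomShift_symm_postcomp, Functor.map_comp] at h1
    have h2 : (HomotopyCategory.quotient _ _).map (Cocycle.equivHomShift.symm c) = 0 := by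
      apply (bijective_postcomp_quotient P (f⟦n⟧')).1
      dsimp only
      rw [h1, zero_comp]
    rw [← CohomologyClass.toHom_mk, CohomologyClass.toHom_mk_eq_zero_iff,
      mem_coboundaries_iff _ (n - 1) (by omega)] at h2
    obtain ⟨β, hβ⟩ := h2
    exact ⟨β, hβ.symm⟩

end kproj

end Groth.Agent.H4.HC2
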