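import Mathlib
import Groth.Prelude.Def_DRing4
import Groth.Agent.H4.HC2
import Groth.Agent.H4.DRing1

/-!
# `RHom(P, -)` is computed by the Hom complex for `P` K-projective (S6996)
-/

set_option autoImplicit false
universe u
open CategoryTheory Category Limits MonoidalCategory HomologicalComplex CochainComplex

namespace Groth.Agent.H4.HC3

open Groth.Agent.H4.HC1 Groth.Agent.H4.HC2

attribute [local instance] HasDerivedCategory.standard

variable {A : Type u} [CommRing A]

/-- `Hom•(P, -)` followed by `Q` inverts quasi-isomorphisms for `P` K-projective. -/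
lemma isInvertedBy_homCxQ (P : Cx A) [P.IsKProjective] :
    (HomologicalComplex.quasiIso (ModuleCat.{u} A) (ComplexShape.up ℤ)).IsInvertedBy
      (DRing.homCxQ P) := by
  intro Y Y' f hf
  haveI : QuasiIso f := hf
  haveI := quasiIso_homCxMap P f
  change IsIso (DerivedCategory.Q.map (DRing.homCxMap P f))
  infer_instance

/-- for `P` K-projective, `RHom(P, QL) ≅ Q(Hom•(P, L))`. -/
theorem nonempty_RHomCx_iso (P : Cx A) [P.IsKProjective] [DRing.HasRHomCx P] (L : Cx A) :
    Nonempty ((DRing.RHomCx P).obj (DRing.toD L) ≅ DRing.toD (DRing.homCx P L)) := by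
  haveI := Functor.isIso_of_isRightDerivedFunctor_of_inverts (DRing.RHomCx P)
    ((DRing.homCxQ P).totalRightDerivedUnit DerivedCategory.Q
      (HomologicalComplex.quasiIso (ModuleCat.{u} A) (ComplexShape.up ℤ)))
    (isInvertedBy_homCxQ P)
  exact ⟨(asIso (((DRing.homCxQ P).totalRightDerivedUnit DerivedCategory.Q
      (HomologicalComplex.quasiIso (ModuleCat.{u} A) (ComplexShape.up ℤ))).app L)).symm⟩

/-- S6996 -/
theorem nonempty_RHomCx_iso_of_boundedAbove_projective (P : Cx A) (b : ℤ)
    (hb : DRing.VanishesAbove P b) (hP : ∀ i : ℤ, Module.Projective A (P.X i)) [DRing.HasRHomCx P]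
    (L : Cx A) :
    Nonempty ((DRing.RHomCx P).obj (DRing.toD L) ≅ DRing.toD (DRing.homCx P L)) := by
  haveI := Groth.Agent.H4.DRing1.isKProjective_of_vanishesAbove_projective P b hb hP
  exact nonempty_RHomCx_iso P L

end Groth.Agent.H4.HC3
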