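import Mathlib
import Groth.Prelude.Def_DTen3
import Groth.Agent.H4.HC3
import Groth.Agent.H4.EV3

/-!
# The Hom complex computes `RHom(QP, -)` on `D(A)` for `P` K-projective and K-flat
-/

set_option autoImplicit false
universe u
open CategoryTheory Category Limits MonoidalCategory HomologicalComplex CochainComplex

namespace Groth.Agent.H4.HC5


open DTen DerivedCategory Groth.Agent.H4.HC1 Groth.Agent.H4.HC2 Groth.Agent.H4.HC3
  Groth.Agent.H4.TC4 Groth.Agent.H4.EV3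

attribute [local instance] HasDerivedCategory.standard

variable {A : Type u} [CommRing A] [DTen.HasLTen A]

set_option quotPrecheck false in
/-- notation for the object part of `⊗^L` -/
local notation:max "tO(" a ", " b ")" => (LTen₂ _).obj (a, b)

set_option quotPrecheck false in
/-- notation for the map part of `⊗^L` -/
local notation:max "tM(" f ", " g ")" => (LTen₂ _).map (Prod.mkHom f g)

lemma tR_map {a a' : Dual.D A} (t : a ⟶ a') (X : Dual.D A) :
    (tensorRightD A X).map t = (LTen₂ A).map (Prod.mkHom t (𝟙 X)) := rfl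

/-- quasi-isomorphisms -/
abbrev W (A : Type u) [CommRing A] := HomologicalComplex.quasiIso (ModuleCat.{u} A) (ComplexShape.up ℤ)

section

variable (P : CochainComplex (ModuleCat.{u} A) ℤ) [P.IsKProjective]

/-- the functor on `D(A)` induced by `Hom•(P, -)`. -/
noncomputable def HP : Dual.D A ⥤ Dual.D A :=
  Localization.lift (DRing.homCxQ P) (isInvertedBy_homCxQ P) Q

/-- `HP` lifts `Hom•(P, -)`. -/
noncomputable def HPfac : Q ⋙ HP P ≅ DRing.homCxFunctor P ⋙ Q :=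
  Localization.fac _ _ _

/-- `HP (QY) ≅ Q(Hom•(P, Y))`. -/
noncomputable def γ (Y : CochainComplex (ModuleCat.{u} A) ℤ) : (HP P).obj (Q.obj Y) ≅ Q.obj (DRing.homCx P Y) := (HPfac P).app Y

variable (hP : KFlat P)

/-- the adjunction `- ⊗^L QP ⊣ HP` on `D(A)`. -/
noncomputable def adjD : tensorRightD A (Q.obj P) ⊣ HP P :=
  letI : CatCommSq (tensorRight P) Q Q (tensorRightD A (Q.obj P)) :=
    ⟨(haveI := isIso_εRight P hP; asIso (εRight A P)).symm⟩
  letI : CatCommSq (DRing.homCxFunctor P) Q Q (HP P) := ⟨(HPfac P).symm⟩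
  (tensorHomAdj P).localization Q (W A) Q (W A) _ _

lemma adjD_counit_app (Y : CochainComplex (ModuleCat.{u} A) ℤ) :
    (adjD P hP).counit.app (Q.obj Y) =
      tM((γ P Y).hom, 𝟙 (Q.obj P)) ≫ (ε A).app (DRing.homCx P Y, P) ≫ Q.map (evCx P Y) := by
  letI : CatCommSq (tensorRight P) Q Q (tensorRightD A (Q.obj P)) :=
    ⟨(haveI := isIso_εRight P hP; asIso (εRight A P)).symm⟩
  letI : CatCommSq (DRing.homCxFunctor P) Q Q (HP P) := ⟨(HPfac P).symm⟩
  have h := Adjunction.localization_counit_app (tensorHomAdj P) Q (W A) Q (W A)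
    (tensorRightD A (Q.obj P)) (HP P) Y
  rw [tensorHomAdj_counit] at h
  exact h

variable [HasRHom A]

/-- `RHom(QP, -) ≅ HP`. -/
noncomputable def uP : RHomR A (Q.obj P) ≅ HP P :=
  (rhomAdj A (Q.obj P)).rightAdjointUniq (adjD P hP)

/-- `RHom(QP, QY) ≅ Q(Hom•(P, Y))`. -/
noncomputable def rhomModel (Y : CochainComplex (ModuleCat.{u} A) ℤ) :
    (RHomR A (Q.obj P)).obj (Q.obj Y) ≅ Q.obj (DRing.homCx P Y) :=
  (uP P hP).app (Q.obj Y) ≪≫ γ P Y

lemma ev_eq (Y : CochainComplex (ModuleCat.{u} A) ℤ) :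
    ev (Q.obj P) (Q.obj Y) =
      tM((rhomModel P hP Y).hom, 𝟙 (Q.obj P)) ≫ (ε A).app (DRing.homCx P Y, P) ≫
        Q.map (evCx P Y) := by
  have h := Adjunction.rightAdjointUniq_hom_app_counit (rhomAdj A (Q.obj P)) (adjD P hP) (Q.obj Y)
  rw [adjD_counit_app] at h
  refine h.symm.trans ?_
  dsimp only [rhomModel, Iso.trans_hom, Iso.app_hom]
  rw [tR_map, tM_comp_assoc, comp_id]
  rfl

end

section nat

@[reassoc]
lemma ε_naturality_left {X X' : CochainComplex (ModuleCat.{u} A) ℤ} (a : X ⟶ X')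
    (Y : CochainComplex (ModuleCat.{u} A) ℤ) :
    tM(Q.map a, 𝟙 (Q.obj Y)) ≫ (ε A).app (X', Y) = (ε A).app (X, Y) ≫ Q.map (a ▷ Y) := by
  have e := (ε A).naturality (X := (X, Y)) (Y := (X', Y)) (Prod.mkHom a (𝟙 Y))
  dsimp at e ⊢
  simpa using e

@[reassoc]
lemma ε_naturality_right (X : CochainComplex (ModuleCat.{u} A) ℤ)
    {Y Y' : CochainComplex (ModuleCat.{u} A) ℤ} (b : Y ⟶ Y') :
    tM(𝟙 (Q.obj X), Q.map b) ≫ (ε A).app (X, Y') = (ε A).app (X, Y) ≫ Q.map (X ◁ b) := by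
  have e := (ε A).naturality (X := (X, Y)) (Y := (X, Y')) (Prod.mkHom (𝟙 X) b)
  dsimp at e ⊢
  simpa using e

variable [HasRHom A]
variable {P₁ P₂ : CochainComplex (ModuleCat.{u} A) ℤ} [P₁.IsKProjective] [P₂.IsKProjective]
  (h₁ : KFlat P₁) (h₂ : KFlat P₂) (j : P₁ ⟶ P₂) (Y : CochainComplex (ModuleCat.{u} A) ℤ)

/-- compatibility of the models with restriction along `j : P₁ ⟶ P₂`. -/
lemma RHomMap_rhomModel :
    RHomMap (Q.map j) (Q.obj Y) ≫ (rhomModel P₁ h₁ Y).hom =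
      (rhomModel P₂ h₂ Y).hom ≫ Q.map (homCxPre j Y) := by
  rw [← cancel_mono (rhomModel P₁ h₁ Y).inv, assoc, Iso.hom_inv_id, comp_id, assoc]
  apply ((rhomAdj A (Q.obj P₁)).homEquiv _ _).symm.injective
  rw [Adjunction.homEquiv_counit, Adjunction.homEquiv_counit, tR_map, tR_map]
  have h := RHom_map_ev (Q.map j) (Q.obj Y)
  refine h.trans ?_
  rw [ev_eq P₂ h₂ Y]
  change _ = _ ≫ ev (Q.obj P₁) (Q.obj Y)
  rw [ev_eq P₁ h₁ Y]
  rw [tM_comp_assoc, tM_comp_assoc, id_comp, comp_id, assoc, assoc, Iso.inv_hom_id, comp_id]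
  have k1 : tM((rhomModel P₂ h₂ Y).hom, Q.map j) =
      tM((rhomModel P₂ h₂ Y).hom, 𝟙 (Q.obj P₁)) ≫ tM(𝟙 _, Q.map j) := by
    rw [tM_comp, comp_id, id_comp]
  have k2 : tM((rhomModel P₂ h₂ Y).hom ≫ Q.map (homCxPre j Y), 𝟙 (Q.obj P₁) ≫ 𝟙 (Q.obj P₁)) =
      tM((rhomModel P₂ h₂ Y).hom, 𝟙 (Q.obj P₁)) ≫ tM(Q.map (homCxPre j Y), 𝟙 _) := by
    rw [tM_comp]
  rw [k1, k2, assoc, assoc, ε_naturality_left_assoc, ε_naturality_right_assoc, ← Q.map_comp,
    ← Q.map_comp, evCx_dinatural]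

end nat

end Groth.Agent.H4.HC5
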