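import Mathlib
import Groth.Prelude.Def_DTen3
import Groth.Agent.H4.HC5
import Groth.Agent.H4.EV5
import Groth.Agent.H4.KProj1

/-!
# Exactness of `RHom(-, L)` in the first variable
-/

set_option autoImplicit false
universe u
open CategoryTheory Category Limits MonoidalCategory HomologicalComplex CochainComplex Pretriangulated

namespace Groth.Agent.H4.HC6

open DTen DerivedCategory Groth.Agent.H4.HC1 Groth.Agent.H4.HC2 Groth.Agent.H4.HC3
  Groth.Agent.H4.TC4 Groth.Agent.H4.HC5 Groth.Agent.H4.EV5 HomComplex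

attribute [local instance] HasDerivedCategory.standard

variable {A : Type u} [CommRing A]

lemma homCxPre_zero (P P' Y : CochainComplex (ModuleCat.{u} A) ℤ) :
    homCxPre (0 : P' ⟶ P) Y = 0 := by
  refine HomologicalComplex.hom_ext _ _ fun i => ?_
  apply ModuleCat.hom_ext
  apply LinearMap.ext
  intro (z : Cochain P Y i)
  change (Cochain.ofHom (0 : P' ⟶ P)).comp z (zero_add i) = 0
  rw [Cochain.ofHom_zero, Cochain.zero_comp]

section ses

variable (S : ShortComplex (CochainComplex (ModuleCat.{u} A) ℤ))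
  (σ : ∀ n, (S.map (HomologicalComplex.eval _ _ n)).Splitting)
  (Y : CochainComplex (ModuleCat.{u} A) ℤ)

/-- the short complex `Hom•(X₃, Y) ⟶ Hom•(X₂, Y) ⟶ Hom•(X₁, Y)` -/
noncomputable def homSC : ShortComplex (CochainComplex (ModuleCat.{u} A) ℤ) :=
  ShortComplex.mk (homCxPre S.g Y) (homCxPre S.f Y) (by
    rw [← homCxPre_comp, S.zero, homCxPre_zero])

include σ in
lemma homSC_shortExact : (homSC S Y).ShortExact := by
  let ρ : Cochain S.X₂ S.X₁ 0 := Cochain.ofHoms (fun n => (σ n).r)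
  let τ : Cochain S.X₃ S.X₂ 0 := Cochain.ofHoms (fun n => (σ n).s)
  have h1 : (Cochain.ofHom S.f).comp ρ (add_zero 0) = Cochain.ofHom (𝟙 _) := by
    refine Cochain.ext₀ _ _ (fun p => ?_)
    simp only [Cochain.comp_zero_cochain_v, Cochain.ofHom_v, ρ]
    exact (σ p).f_r
  have h2 : τ.comp (Cochain.ofHom S.g) (add_zero 0) = Cochain.ofHom (𝟙 _) := by
    refine Cochain.ext₀ _ _ (fun p => ?_)
    simp only [Cochain.comp_zero_cochain_v, Cochain.ofHom_v, τ]
    exact (σ p).s_g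
  have h3 : ρ.comp (Cochain.ofHom S.f) (add_zero 0) + (Cochain.ofHom S.g).comp τ (add_zero 0) =
      Cochain.ofHom (𝟙 _) := by
    refine Cochain.ext₀ _ _ (fun p => ?_)
    simp only [Cochain.add_v, Cochain.comp_zero_cochain_v, Cochain.ofHom_v, ρ, τ]
    exact (σ p).id
  apply HomologicalComplex.shortExact_of_degreewise_shortExact
  intro i
  refine ShortComplex.ShortExact.mk' ?_ ?_ ?_
  · rw [ShortComplex.moduleCat_exact_iff]
    intro (z : Cochain S.X₂ Y i) hz
    have hz' : (Cochain.ofHom S.f).comp z (zero_add i) = 0 := hz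
    refine ⟨(τ.comp z (zero_add i) : Cochain S.X₃ Y i), ?_⟩
    change (Cochain.ofHom S.g).comp (τ.comp z (zero_add i)) (zero_add i) = z
    have := congrArg (fun c => c.comp z (zero_add i)) h3
    simp only [Cochain.add_comp, Cochain.id_comp] at this
    refine Eq.trans ?_ this
    rw [Cochain.comp_assoc_of_first_is_zero_cochain, hz', Cochain.comp_zero, zero_add,
      Cochain.comp_assoc_of_first_is_zero_cochain]
  · rw [ModuleCat.mono_iff_injective]
    intro (z : Cochain S.X₃ Y i) (z' : Cochain S.X₃ Y i) hz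
    have hz' : (Cochain.ofHom S.g).comp z (zero_add i) = (Cochain.ofHom S.g).comp z' (zero_add i) :=
      hz
    have := congrArg (fun c => τ.comp c (zero_add i)) hz'
    simp only [← Cochain.comp_assoc_of_first_is_zero_cochain, h2,
      Cochain.id_comp] at this
    exact this
  · rw [ModuleCat.epi_iff_surjective]
    intro (z : Cochain S.X₁ Y i)
    refine ⟨(ρ.comp z (zero_add i) : Cochain S.X₂ Y i), ?_⟩
    change (Cochain.ofHom S.f).comp (ρ.comp z (zero_add i)) (zero_add i) = z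
    rw [← Cochain.comp_assoc_of_first_is_zero_cochain, h1, Cochain.id_comp]

end ses

/-- for `f : P₁ ⟶ P₂`, the pair `Hom•(δ, Y)`, `Hom•(inr f, Y)` is completable in `D(A)`. -/
lemma cpl_homCxPre_cone {P₁ P₂ : CochainComplex (ModuleCat.{u} A) ℤ} (f : P₁ ⟶ P₂)
    (Y : CochainComplex (ModuleCat.{u} A) ℤ) :
    Cpl (Q.map (homCxPre (mappingCone.triangle f).mor₃ Y))
      (Q.map (homCxPre (mappingCone.inr f) Y)) := by
  have hS := homSC_shortExact (mappingCone.triangleRotateShortComplex f)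
    (mappingCone.triangleRotateShortComplexSplitting f) Y
  exact ⟨_, DerivedCategory.triangleOfSES_distinguished hS⟩

/-- a distinguished triangle whose first two vertices are represented by complexes, the first
K-projective, is isomorphic to the image of a standard triangle. -/
theorem exists_triangle_iso (T : Triangle (Dual.D A)) (hT : T ∈ distTriang (Dual.D A))
    (E₁ E₂ : CochainComplex (ModuleCat.{u} A) ℤ) [E₁.IsKProjective]
    (e₁ : Q.obj E₁ ≅ T.obj₁) (e₂ : Q.obj E₂ ≅ T.obj₂) :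
    ∃ f : E₁ ⟶ E₂, Nonempty (Q.mapTriangle.obj (CochainComplex.mappingCone.triangle f) ≅ T) := by
  obtain ⟨f, hf⟩ := Groth.Agent.H3.PerfAux.exists_map_of_isKProjective E₁ E₂
    (e₁.hom ≫ T.mor₁ ≫ e₂.inv)
  have hT' : DerivedCategory.Q.mapTriangle.obj (CochainComplex.mappingCone.triangle f) ∈
      distTriang (Dual.D A) := by
    rw [DerivedCategory.mem_distTriang_iff]
    exact ⟨_, _, f, ⟨Iso.refl _⟩⟩
  exact ⟨f, ⟨isoTriangleOfIso₁₂ _ _ hT' hT e₁ e₂ (by
    change DerivedCategory.Q.map f ≫ e₂.hom = e₁.hom ≫ T.mor₁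
    rw [hf]; simp)⟩⟩

lemma cpl_of_iso_triangle (F : Dual.D A ⥤ Dual.D A) {T T' : Triangle (Dual.D A)} (e : T ≅ T')
    (h : Cpl (F.map T'.mor₁) (F.map T'.mor₂)) : Cpl (F.map T.mor₁) (F.map T.mor₂) := by
  refine Cpl.of_iso (F.mapIso (Triangle.π₁.mapIso e)) (F.mapIso (Triangle.π₂.mapIso e))
    (F.mapIso (Triangle.π₃.mapIso e)) ?_ ?_ h
  · change F.map T.mor₁ ≫ F.map e.hom.hom₂ = F.map e.hom.hom₁ ≫ F.map T'.mor₁
    rw [← F.map_comp, ← F.map_comp, e.hom.comm₁]
  · change F.map T.mor₂ ≫ F.map e.hom.hom₃ = F.map e.hom.hom₂ ≫ F.map T'.mor₂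
    rw [← F.map_comp, ← F.map_comp, e.hom.comm₂]

/-- A functor on `D(A)` induced by a functor on complexes which commutes with mapping cones sends
the first two maps of a distinguished triangle to a completable pair. -/
theorem cpl_of_lift (F : Dual.D A ⥤ Dual.D A)
    (G : CochainComplex (ModuleCat.{u} A) ℤ ⥤ CochainComplex (ModuleCat.{u} A) ℤ)
    (e : (Q : CochainComplex (ModuleCat.{u} A) ℤ ⥤ Dual.D A) ⋙ F ≅ G ⋙ Q)
    (hG : ∀ {X Y : CochainComplex (ModuleCat.{u} A) ℤ} (f : X ⟶ Y),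
      ∃ c : G.obj (mappingCone f) ≅ mappingCone (G.map f),
      G.map (mappingCone.inr f) ≫ c.hom = mappingCone.inr (G.map f))
    (T : Triangle (Dual.D A)) (hT : T ∈ distTriang (Dual.D A)) :
    Cpl (F.map T.mor₁) (F.map T.mor₂) := by
  rw [DerivedCategory.mem_distTriang_iff] at hT
  obtain ⟨X, Y, f, ⟨iso⟩⟩ := hT
  refine cpl_of_iso_triangle F iso ?_
  obtain ⟨c, hc⟩ := hG f
  have hd : Q.mapTriangle.obj (CochainComplex.mappingCone.triangle (G.map f)) ∈
      distTriang (Dual.D A) := by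
    rw [DerivedCategory.mem_distTriang_iff]
    exact ⟨_, _, G.map f, ⟨Iso.refl _⟩⟩
  have h := Cpl.of_distTriang _ hd
  change Cpl (F.map (Q.map f)) (F.map (Q.map (mappingCone.inr f)))
  refine Cpl.of_iso (e.app X) (e.app Y) (e.app (mappingCone f) ≪≫ Q.mapIso c) ?_ ?_ h
  · exact e.hom.naturality f
  · have := e.hom.naturality (mappingCone.inr f)
    dsimp at this ⊢
    rw [reassoc_of% this, ← Q.map_comp, hc]
    rfl

lemma Cpl.of_natIso {F G : Dual.D A ⥤ Dual.D A} (e : F ≅ G) {X Y Z : Dual.D A} {u : X ⟶ Y}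
    {v : Y ⟶ Z} (h : Cpl (F.map u) (F.map v)) : Cpl (G.map u) (G.map v) :=
  Cpl.of_iso (e.symm.app X) (e.symm.app Y) (e.symm.app Z) (e.inv.naturality u)
    (e.inv.naturality v) h

section tensor

variable [HasLTen A]

/-- `K ⊗^L -` preserves completable pairs. -/
theorem cpl_LTen_obj (K : Dual.D A) (T : Triangle (Dual.D A)) (hT : T ∈ distTriang (Dual.D A)) :
    Cpl (((LTen A).obj K).map T.mor₁) (((LTen A).obj K).map T.mor₂) := by
  obtain ⟨E, -, -, hE, ⟨e⟩⟩ := Groth.Agent.H4.LK4.exists_kproj_kflat_iso K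
  refine Cpl.of_natIso ((LTen A).mapIso e) ?_
  haveI := Groth.Agent.H4.EV3.isIso_εLeft E hE
  refine cpl_of_lift _ (tensorLeft E) (asIso (εLeft A E)) (fun {X Y} f => ?_) T hT
  exact ⟨Groth.Agent.H4.TC3.coneTensorLeft E f,
    Groth.Agent.H4.TC2.inr_coneIso₂_hom (curriedTensor (ModuleCat.{u} A)) E f⟩

/-- `- ⊗^L K` preserves completable pairs. -/
theorem cpl_tensorRightD (K : Dual.D A) (T : Triangle (Dual.D A))
    (hT : T ∈ distTriang (Dual.D A)) :
    Cpl ((tensorRightD A K).map T.mor₁) ((tensorRightD A K).map T.mor₂) := by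
  obtain ⟨E, -, -, hE, ⟨e⟩⟩ := Groth.Agent.H4.LK4.exists_kproj_kflat_iso K
  refine Cpl.of_natIso ((LTen A).flip.mapIso e) ?_
  haveI := Groth.Agent.H4.EV3.isIso_εRight E hE
  refine cpl_of_lift _ (tensorRight E) (asIso (εRight A E)) (fun {X Y} f => ?_) T hT
  exact ⟨Groth.Agent.H4.TC3.coneTensorRight f E,
    Groth.Agent.H4.TC2.inr_coneIso₁_hom (curriedTensor (ModuleCat.{u} A)) f E⟩

set_option quotPrecheck false in
/-- notation for the map part of `⊗^L` -/
local notation:max "tM(" f ", " g ")" => (LTen₂ _).map (Prod.mkHom f g)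

lemma Cpl.tM_left (K : Dual.D A) {X Y Z : Dual.D A} {u : X ⟶ Y} {v : Y ⟶ Z} (h : Cpl u v) :
    Cpl tM(𝟙 K, u) tM(𝟙 K, v) := by
  obtain ⟨w, hw⟩ := h
  exact cpl_LTen_obj K _ hw

lemma Cpl.tM_right (K : Dual.D A) {X Y Z : Dual.D A} {u : X ⟶ Y} {v : Y ⟶ Z} (h : Cpl u v) :
    Cpl tM(u, 𝟙 K) tM(v, 𝟙 K) := by
  obtain ⟨w, hw⟩ := h
  exact cpl_tensorRightD K _ hw

end tensor

section rhom

variable [HasLTen A] [HasRHom A]

@[reassoc]
lemma RHomMap_comp {L L' L'' : Dual.D A} (g' : L'' ⟶ L') (g : L' ⟶ L) (M : Dual.D A) :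
    RHomMap (g' ≫ g) M = RHomMap g M ≫ RHomMap g' M := by
  change ((RHom A).map (g' ≫ g).op).app M = _
  rw [op_comp, Functor.map_comp, NatTrans.comp_app]
  rfl

lemma RHomMap_id (L M : Dual.D A) : RHomMap (𝟙 L) M = 𝟙 _ := by
  change ((RHom A).map (𝟙 L).op).app M = _
  rw [op_id, CategoryTheory.Functor.map_id, NatTrans.id_app]
  rfl

/-- `RHom(-, M)` sends isomorphisms to isomorphisms. -/
noncomputable def RHomIso {L L' : Dual.D A} (e : L' ≅ L) (M : Dual.D A) :
    (RHomR A L).obj M ≅ (RHomR A L').obj M where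
  hom := RHomMap e.hom M
  inv := RHomMap e.inv M
  hom_inv_id := by rw [← RHomMap_comp, e.inv_hom_id, RHomMap_id]
  inv_hom_id := by rw [← RHomMap_comp, e.hom_inv_id, RHomMap_id]

lemma RHomMap_naturality {L L' : Dual.D A} (g : L' ⟶ L) {M M' : Dual.D A} (m : M ⟶ M') :
    (RHomR A L).map m ≫ RHomMap g M' = RHomMap g M ≫ (RHomR A L').map m :=
  ((RHom A).map g.op).naturality m

/-- completability is invariant under isomorphisms, for `RHom(-, L)`. -/
lemma cpl_RHomMap_of_iso {X Y Z X' Y' Z' : Dual.D A} {u : X ⟶ Y} {v : Y ⟶ Z} {u' : X' ⟶ Y'}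
    {v' : Y' ⟶ Z'} (a : X ≅ X') (b : Y ≅ Y') (c : Z ≅ Z') (h₁ : u ≫ b.hom = a.hom ≫ u')
    (h₂ : v ≫ c.hom = b.hom ≫ v') {L L' : Dual.D A} (e : L' ≅ L)
    (h : Cpl (RHomMap v' L') (RHomMap u' L')) : Cpl (RHomMap v L) (RHomMap u L) := by
  refine Cpl.of_iso (RHomIso c.symm L ≪≫ (RHomR A Z').mapIso e.symm)
    (RHomIso b.symm L ≪≫ (RHomR A Y').mapIso e.symm)
    (RHomIso a.symm L ≪≫ (RHomR A X').mapIso e.symm) ?_ ?_ h
  · change RHomMap v L ≫ (RHomMap b.inv L ≫ (RHomR A Y').map e.inv) =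
      (RHomMap c.inv L ≫ (RHomR A Z').map e.inv) ≫ RHomMap v' L'
    rw [assoc, RHomMap_naturality, ← RHomMap_comp_assoc, ← RHomMap_comp_assoc]
    congr 2
    rw [← cancel_mono c.hom, assoc, assoc, Iso.inv_hom_id, comp_id, h₂, Iso.inv_hom_id_assoc]
  · change RHomMap u L ≫ (RHomMap a.inv L ≫ (RHomR A X').map e.inv) =
      (RHomMap b.inv L ≫ (RHomR A Y').map e.inv) ≫ RHomMap u' L'
    rw [assoc, RHomMap_naturality, ← RHomMap_comp_assoc, ← RHomMap_comp_assoc]
    congr 2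
    rw [← cancel_mono b.hom, assoc, assoc, Iso.inv_hom_id, comp_id, h₁, Iso.inv_hom_id_assoc]

/-- **`RHom(-, L)` is exact in the first variable**: it sends the last two maps of a distinguished
triangle to the first two maps of a distinguished triangle. -/
theorem cpl_RHomMap (T : Triangle (Dual.D A)) (hT : T ∈ distTriang (Dual.D A)) (L : Dual.D A) :
    Cpl (RHomMap T.mor₂ L) (RHomMap T.mor₁ L) := by
  obtain ⟨P₁, kp₁, -, kf₁, ⟨e₁⟩⟩ := Groth.Agent.H4.LK4.exists_kproj_kflat_iso T.invRotate.obj₁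
  obtain ⟨P₂, kp₂, -, kf₂, ⟨e₂⟩⟩ := Groth.Agent.H4.LK4.exists_kproj_kflat_iso T.invRotate.obj₂
  haveI := kp₁
  haveI := kp₂
  obtain ⟨f, ⟨iso⟩⟩ := exists_triangle_iso T.invRotate (inv_rot_of_distTriang _ hT) P₁ P₂ e₁ e₂
  let iso' : T ≅ (Q.mapTriangle.obj (mappingCone.triangle f)).rotate :=
    ((triangleRotation _).counitIso.app T).symm ≪≫ (rotate _).mapIso iso.symm
  let Y₀ := (Q : CochainComplex (ModuleCat.{u} A) ℤ ⥤ _).objPreimage L
  let eL : Q.obj Y₀ ≅ L := Q.objObjPreimageIso L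
  let a := Triangle.π₁.mapIso iso'
  let b := Triangle.π₂.mapIso iso'
  let c := Triangle.π₃.mapIso iso' ≪≫ ((Q.commShiftIso (1 : ℤ)).app P₁).symm
  have kfc : KFlat (mappingCone f) := KFlat.cone f kf₁ kf₂
  have kfs : KFlat (P₁⟦(1 : ℤ)⟧) := (kflat_shift_iff P₁ 1).2 kf₁
  refine cpl_RHomMap_of_iso a b c (u' := Q.map (mappingCone.inr f))
    (v' := Q.map (mappingCone.triangle f).mor₃) ?_ ?_ eL ?_
  · exact iso'.hom.comm₁
  · have h := iso'.hom.comm₂
    have h' : (Q.mapTriangle.obj (mappingCone.triangle f)).rotate.mor₂ =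
      Q.map (mappingCone.triangle f).mor₃ ≫ (Q.commShiftIso (1 : ℤ)).hom.app P₁ := rfl
    have h'' : (Q.commShiftIso (1 : ℤ)).hom.app P₁ ≫ ((Q.commShiftIso (1 : ℤ)).app P₁).inv =
      𝟙 _ := Iso.hom_inv_id_app _ _
    change T.mor₂ ≫ (iso'.hom.hom₃ ≫ ((Q.commShiftIso (1 : ℤ)).app P₁).inv) = iso'.hom.hom₂ ≫ _
    refine (assoc _ _ _).symm.trans ?_
    refine (congrArg (· ≫ ((Q.commShiftIso (1 : ℤ)).app P₁).inv) h).trans ?_
    refine (assoc _ _ _).trans ?_
    refine congrArg (iso'.hom.hom₂ ≫ ·) ?_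
    exact (assoc _ _ _).trans ((congrArg (Q.map (mappingCone.triangle f).mor₃ ≫ ·) h'').trans
      (comp_id _))
  · refine Cpl.of_iso (rhomModel (P₁⟦(1 : ℤ)⟧) kfs Y₀) (rhomModel (mappingCone f) kfc Y₀)
      (rhomModel P₂ kf₂ Y₀) ?_ ?_ (cpl_homCxPre_cone f Y₀)
    · exact RHomMap_rhomModel kfc kfs (mappingCone.triangle f).mor₃ Y₀
    · exact RHomMap_rhomModel kf₂ kfc (mappingCone.inr f) Y₀

end rhom

end Groth.Agent.H4.HC6
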