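import Mathlib
import Groth.Prelude.Def_DTen3
import Groth.Agent.H4.EV4
import Groth.Agent.H4.HC6

/-!
# `evalTen K L M` is an isomorphism for perfect `M` (S13891)
-/

set_option autoImplicit false
universe u
open CategoryTheory Category Limits Pretriangulated MonoidalCategory Opposite

namespace Groth.Agent.H4.EV6

attribute [local instance] HasDerivedCategory.standard

open DTen DerivedCategory Groth.Agent.H4.EV1 Groth.Agent.H4.EV2 Groth.Agent.H4.EV3
  Groth.Agent.H4.EV4 Groth.Agent.H4.EV5 Groth.Agent.H4.HC6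

variable {A : Type u} [CommRing A]

/-- A natural transformation between contravariant Yoneda-exact functors `D(A)ᵒᵖ ⥤ D(A)` which is an
isomorphism on all shifts of `A[0]` is an isomorphism on every perfect object. -/
theorem isIso_app_of_isPerfect_op {F G : (Dual.D A)ᵒᵖ ⥤ Dual.D A} (hF : YExactOp F)
    (hG : YExactOp G) (τ : F ⟶ G) (h1 : ∀ n : ℤ, IsIso (τ.app (op ((Dual.inD A A)⟦n⟧))))
    (K : Dual.D A) (hK : DRing.IsPerfect A K) : IsIso (τ.app (op K)) := by
  let P : Dual.D A → Prop := fun X => ∀ n : ℤ, IsIso (τ.app (op (X⟦n⟧)))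
  have hP : ThickPred P :=
    { iso := fun {X Y} e hX n =>
        (NatTrans.isIso_app_iff_of_iso τ ((shiftFunctor (Dual.D A) n).mapIso e).symm.op).1 (hX n)
      shift := fun X m hX n =>
        (NatTrans.isIso_app_iff_of_iso τ
          ((shiftFunctorAdd' (Dual.D A) m n _ rfl).app X).symm.op).1 (hX (m + n))
      ext₂ := fun T hT hX hZ n => by
        have hTn := Triangle.shift_distinguished T hT n
        refine isIso_app_obj₂_op hF hG τ _ hTn (hX n) (hZ n) ?_ ?_
        · exact (NatTrans.isIso_app_iff_of_iso τ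
            ((shiftFunctorAdd' (Dual.D A) n 1 _ rfl).app T.obj₁).symm.op).1 (hX (n + 1))
        · exact (NatTrans.isIso_app_iff_of_iso τ
            ((shiftFunctorAdd' (Dual.D A) n (-1) _ rfl).app T.obj₃).symm.op).1 (hZ (n + -1))
      retract := fun {X Y} i p hip hY n => by
        haveI := hY n
        refine ⟨G.map (p⟦n⟧').op ≫ inv (τ.app (op (Y⟦n⟧))) ≫ F.map (i⟦n⟧').op, ?_, ?_⟩
        · rw [← τ.naturality_assoc, IsIso.hom_inv_id_assoc, ← F.map_comp, ← op_comp,
            ← Functor.map_comp, hip, CategoryTheory.Functor.map_id, op_id,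
            CategoryTheory.Functor.map_id]
        · rw [assoc, assoc, τ.naturality, IsIso.inv_hom_id_assoc, ← G.map_comp, ← op_comp,
            ← Functor.map_comp, hip, CategoryTheory.Functor.map_id, op_id,
            CategoryTheory.Functor.map_id] }
  have := hP.of_isPerfect h1 hK 0
  exact (NatTrans.isIso_app_iff_of_iso τ ((shiftFunctorZero (Dual.D A) ℤ).app K).symm.op).1 this

variable [DTen.HasLTen A] [DTen.HasLTen₃ A] [DTen.IsSymMonoidal A] [DTen.HasRHom A]

set_option quotPrecheck false in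
/-- notation for the object part of `⊗^L` -/
local notation:max "tO(" a ", " b ")" => (LTen₂ _).obj (a, b)

set_option quotPrecheck false in
/-- notation for the map part of `⊗^L` -/
local notation:max "tM(" f ", " g ")" => (LTen₂ _).map (Prod.mkHom f g)

/-- naturality of `evalTen` in the variable `M`. -/
lemma evalTen_naturality_M (K L : Dual.D A) {M M' : Dual.D A} (g : M' ⟶ M) :
    tM(𝟙 K, RHomMap g L) ≫ evalTen K L M' = evalTen K L M ≫ RHomMap g tO(K, L) := by
  apply ((rhomAdj A M').homEquiv _ _).symm.injective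
  rw [homEquiv_symm_comp_evalTen, Adjunction.homEquiv_counit]
  have h1 := associator_naturality (𝟙 K) (RHomMap g L) (𝟙 M')
  have h2 := associator_naturality (𝟙 K) (𝟙 ((RHomR A M).obj L)) g
  have h3 := RHom_map_ev g L
  have h4 := RHom_map_ev g tO(K, L)
  have h5 := evalTen_fac K L M
  rw [reassoc_of% h1, tM_comp, id_comp, h3]
  change _ = tM(evalTen K L M ≫ RHomMap g tO(K, L), 𝟙 M') ≫ ev M' tO(K, L)
  have e1 : tM(evalTen K L M ≫ RHomMap g tO(K, L), 𝟙 M') =
      tM(evalTen K L M, 𝟙 M') ≫ tM(RHomMap g tO(K, L), 𝟙 M') := by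
    rw [tM_comp, comp_id]
  have e2 : tM(evalTen K L M, 𝟙 M') ≫ tM(𝟙 _, g) = tM(𝟙 _, g) ≫ tM(evalTen K L M, 𝟙 M) := by
    rw [tM_comp, tM_comp, id_comp, comp_id, id_comp, comp_id]
  rw [e1, assoc, h4, reassoc_of% e2, h5]
  dsimp only [evalTenAux]
  rw [tM_id] at h2
  rw [reassoc_of% h2, tM_comp, id_comp]

/-- `evalTen` as a natural transformation in `M`. -/
noncomputable def evalTenNatM (K L : Dual.D A) :
    (RHom A).flip.obj L ⋙ (LTen A).obj K ⟶ (RHom A).flip.obj tO(K, L) where
  app M := evalTen K L (unop M)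
  naturality _ _ m := evalTen_naturality_M K L m.unop

omit [HasLTen₃ A] [IsSymMonoidal A] in
lemma yexactOp_RHom_flip (L : Dual.D A) : YExactOp ((RHom A).flip.obj L) :=
  fun T hT => (cpl_RHomMap T hT L).yex₂

omit [HasLTen₃ A] [IsSymMonoidal A] in
lemma yexactOp_RHom_flip_comp_LTen (K L : Dual.D A) :
    YExactOp ((RHom A).flip.obj L ⋙ (LTen A).obj K) :=
  fun T hT => (Groth.Agent.H4.HC6.Cpl.tM_left K (cpl_RHomMap T hT L)).yex₂

/-- **S13891**: `evalTen K L M` is an isomorphism for `M` perfect. -/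
theorem isIso_evalTen_of_isPerfect_hom_source (K L M : Dual.D A) (hM : DRing.IsPerfect A M) :
    IsIso (evalTen K L M) := by
  refine isIso_app_of_isPerfect_op (yexactOp_RHom_flip_comp_LTen K L) (yexactOp_RHom_flip _)
    (evalTenNatM K L) ?_ M hM
  intro n
  haveI := isEquivalence_tensorRightD_unitShift (A := A) n
  exact isIso_evalTen_of_isEquivalence_right K L ((unit A)⟦n⟧)

end Groth.Agent.H4.EV6
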