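import Mathlib
import Groth.Prelude.Def_DTen3
import Groth.Agent.H4.EV6

/-!
# `evalHom K L M` is an isomorphism for perfect `K` (S13889)
-/

set_option autoImplicit false
universe u
open CategoryTheory Category Limits Pretriangulated MonoidalCategory Opposite

namespace Groth.Agent.H4.EV7

attribute [local instance] HasDerivedCategory.standard

open DTen DerivedCategory Groth.Agent.H4.EV1 Groth.Agent.H4.EV2 Groth.Agent.H4.EV3
  Groth.Agent.H4.EV4 Groth.Agent.H4.EV5 Groth.Agent.H4.HC6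

variable {A : Type u} [CommRing A]

variable [DTen.HasLTen A] [DTen.HasLTen₃ A] [DTen.IsSymMonoidal A] [DTen.HasRHom A]

set_option quotPrecheck false in
/-- notation for the object part of `⊗^L` -/
local notation:max "tO(" a ", " b ")" => (LTen₂ _).obj (a, b)

set_option quotPrecheck false in
/-- notation for the map part of `⊗^L` -/
local notation:max "tM(" f ", " g ")" => (LTen₂ _).map (Prod.mkHom f g)

omit [HasLTen₃ A] [IsSymMonoidal A] [HasRHom A] in
lemma symm_naturality {X X' Y Y' : Dual.D A} (f : X ⟶ X') (g : Y ⟶ Y') :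
    tM(g, f) ≫ (symm A).app (X', Y') = (symm A).app (X, Y) ≫ tM(f, g) :=
  (symm A).naturality (X := (X, Y)) (Y := (X', Y')) (Prod.mkHom f g)

lemma homEquiv_symm_evalHom (K L M : Dual.D A) :
    ((rhomAdj A ((RHomR A K).obj L)).homEquiv _ _).symm (evalHom K L M) = evalHomAux K L M :=
  Equiv.symm_apply_apply _ _

/-- the formula for the adjunct of `φ ≫ evalHom`. -/
lemma homEquiv_symm_comp_evalHom (K L M W : Dual.D A) (φ : W ⟶ tO((RHomR A L).obj M, K)) :
    ((rhomAdj A ((RHomR A K).obj L)).homEquiv _ _).symm (φ ≫ evalHom K L M) =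
      tM(φ, 𝟙 ((RHomR A K).obj L)) ≫ evalHomAux K L M := by
  rw [Adjunction.homEquiv_naturality_left_symm, homEquiv_symm_evalHom]
  rfl

/-- naturality of `evalHom` in the variable `K`. -/
lemma evalHom_naturality_K (L M : Dual.D A) {K K' : Dual.D A} (k : K ⟶ K') :
    tM(𝟙 ((RHomR A L).obj M), k) ≫ evalHom K' L M =
      evalHom K L M ≫ RHomMap (RHomMap k L) M := by
  apply ((rhomAdj A ((RHomR A K').obj L)).homEquiv _ _).symm.injective
  rw [homEquiv_symm_comp_evalHom, Adjunction.homEquiv_counit]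
  have h1 := associator_naturality (𝟙 ((RHomR A L).obj M)) k (𝟙 ((RHomR A K').obj L))
  have h2 := associator_naturality (𝟙 ((RHomR A L).obj M)) (𝟙 K) (RHomMap k L)
  have h3 := RHom_map_ev k L
  have h4 := RHom_map_ev (RHomMap k L) M
  have h5 := evalHom_fac K L M
  have s1 := symm_naturality (𝟙 ((RHomR A K').obj L)) k
  have s2 := symm_naturality (RHomMap k L) (𝟙 K)
  dsimp only [evalHomAux]
  rw [reassoc_of% h1, tM_comp_assoc, id_comp, reassoc_of% s1, ← h3]
  change _ = tM(evalHom K L M ≫ RHomMap (RHomMap k L) M, 𝟙 _) ≫ ev ((RHomR A K').obj L) M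
  have e1 : tM(evalHom K L M ≫ RHomMap (RHomMap k L) M, 𝟙 ((RHomR A K').obj L)) =
      tM(evalHom K L M, 𝟙 _) ≫ tM(RHomMap (RHomMap k L) M, 𝟙 _) := by
    rw [tM_comp, comp_id]
  have e2 : tM(evalHom K L M, 𝟙 ((RHomR A K').obj L)) ≫ tM(𝟙 _, RHomMap k L) =
      tM(𝟙 _, RHomMap k L) ≫ tM(evalHom K L M, 𝟙 _) := by
    rw [tM_comp, tM_comp, id_comp, comp_id, id_comp, comp_id]
  rw [e1, assoc, h4, reassoc_of% e2, h5]
  dsimp only [evalHomAux]
  rw [tM_id] at h2
  rw [reassoc_of% h2, tM_comp_assoc, id_comp, reassoc_of% s2]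

/-- `evalHom` as a natural transformation in `K`. -/
noncomputable def evalHomNat (L M : Dual.D A) :
    (LTen A).obj ((RHomR A L).obj M) ⟶
      ((RHom A).flip.obj L).rightOp ⋙ (RHom A).flip.obj M where
  app K := evalHom K L M
  naturality _ _ k := evalHom_naturality_K L M k

omit [HasLTen₃ A] [IsSymMonoidal A] in
lemma yexact_RHom_RHom (L M : Dual.D A) :
    YExact (((RHom A).flip.obj L).rightOp ⋙ (RHom A).flip.obj M) := by
  intro T hT
  obtain ⟨w, hw⟩ := cpl_RHomMap T hT L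
  exact (cpl_RHomMap _ hw M).yex₂

/-- if `- ⊗ K` is an equivalence then `evalHom K L M` is an isomorphism. -/
theorem isIso_evalHom_of_isEquivalence (K L M : Dual.D A)
    [(tensorRightD A K).IsEquivalence] : IsIso (evalHom K L M) := by
  haveI : IsIso (ev K L) := by
    haveI : IsIso (rhomAdj A K).counit := inferInstance
    infer_instance
  haveI : IsIso ((symm A).app ((RHomR A K).obj L, K)) := inferInstance
  let s : tO(K, (RHomR A K).obj L) ⟶ L := (symm A).app ((RHomR A K).obj L, K) ≫ ev K L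
  haveI : IsIso s := inferInstanceAs (IsIso (_ ≫ _))
  haveI hs : ∀ T' : Dual.D A, IsIso tM(𝟙 T', s) := fun T' =>
    inferInstanceAs (IsIso (((LTen A).obj T').map s))
  -- key formula
  have key : ∀ (T' : Dual.D A) (ψ : T' ⟶ (RHomR A L).obj M),
      ((rhomAdj A ((RHomR A K).obj L)).homEquiv _ _).symm
        ((tensorRightD A K).map ψ ≫ evalHom K L M) =
        ((DTen.associator T' K ((RHomR A K).obj L)).hom ≫ tM(𝟙 T', s)) ≫
          ((rhomAdj A L).homEquiv _ _).symm ψ := by
    intro T' ψ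
    rw [homEquiv_symm_comp_evalHom]
    have h1 := associator_naturality ψ (𝟙 K) (𝟙 ((RHomR A K).obj L))
    change tM(tM(ψ, 𝟙 K), 𝟙 _) ≫ _ = _
    dsimp only [evalHomAux]
    rw [reassoc_of% h1, tM_id, tM_comp_assoc, comp_id, id_comp, Adjunction.homEquiv_counit, assoc]
    have e : tM(ψ, s) = tM(𝟙 T', s) ≫ tM(ψ, 𝟙 L) := by rw [tM_comp, id_comp, comp_id]
    change _ ≫ tM(ψ, s) ≫ ev L M = _ ≫ tM(𝟙 T', s) ≫ tM(ψ, 𝟙 L) ≫ ev L M
    rw [e, assoc]
  -- surjectivity
  have hsurj : ∀ (T' : Dual.D A)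
      (ξ : (tensorRightD A K).obj T' ⟶ (RHomR A ((RHomR A K).obj L)).obj M),
      ∃ φ : (tensorRightD A K).obj T' ⟶ tO((RHomR A L).obj M, K), φ ≫ evalHom K L M = ξ := by
    intro T' ξ
    refine ⟨(tensorRightD A K).map ((rhomAdj A L).homEquiv _ _
      (inv ((DTen.associator T' K ((RHomR A K).obj L)).hom ≫ tM(𝟙 T', s)) ≫
        ((rhomAdj A ((RHomR A K).obj L)).homEquiv _ _).symm ξ)), ?_⟩
    apply ((rhomAdj A ((RHomR A K).obj L)).homEquiv _ _).symm.injective
    rw [key, Equiv.symm_apply_apply, IsIso.hom_inv_id_assoc]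
    rfl
  -- injectivity
  have hinj : ∀ (T' : Dual.D A)
      (φ₁ φ₂ : (tensorRightD A K).obj T' ⟶ tO((RHomR A L).obj M, K)),
      φ₁ ≫ evalHom K L M = φ₂ ≫ evalHom K L M → φ₁ = φ₂ := by
    intro T' φ₁ φ₂ h
    obtain ⟨ψ₁, rfl⟩ := (tensorRightD A K).map_surjective φ₁
    obtain ⟨ψ₂, rfl⟩ := (tensorRightD A K).map_surjective φ₂
    have h' := congrArg ((rhomAdj A ((RHomR A K).obj L)).homEquiv _ _).symm h
    rw [key, key, cancel_epi] at h'
    rw [((rhomAdj A L).homEquiv _ _).symm.injective h']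
  haveI : Mono (evalHom K L M) := by
    constructor
    intro W a b hab
    let e := (tensorRightD A K).objObjPreimageIso W
    have := hinj _ (e.hom ≫ a) (e.hom ≫ b) (by rw [assoc, assoc, hab])
    exact (cancel_epi e.hom).1 this
  let e := (tensorRightD A K).objObjPreimageIso ((RHomR A ((RHomR A K).obj L)).obj M)
  obtain ⟨φ, hφ⟩ := hsurj _ e.hom
  haveI : IsSplitEpi (evalHom K L M) := ⟨⟨e.inv ≫ φ, by rw [assoc, hφ, Iso.inv_hom_id]⟩⟩
  exact isIso_of_mono_of_isSplitEpi _

/-- **S13889**: `evalHom K L M` is an isomorphism for `K` perfect. -/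
theorem isIso_evalHom_of_isPerfect (K L M : Dual.D A) (hK : DRing.IsPerfect A K) :
    IsIso (evalHom K L M) := by
  refine isIso_app_of_isPerfect (yexact_LTen_obj _) (yexact_RHom_RHom L M) (evalHomNat L M) ?_ K hK
  intro n
  haveI := isEquivalence_tensorRightD_unitShift (A := A) n
  exact isIso_evalHom_of_isEquivalence ((unit A)⟦n⟧) L M

end Groth.Agent.H4.EV7
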