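import Mathlib
import Groth.Prelude.Def_DRing2
import Groth.Prelude.Def_DRing4
import Groth.Agent.H4.LK4
import Groth.Agent.Lib.Helper3.PerfAux

/-!
# Terms of the tensor product of complexes
-/

open CategoryTheory Category Limits MonoidalCategory DirectSum

universe u

namespace Groth.Agent.H4.TP1

variable {R : Type u} [CommRing R]

section DirectSumFinite

variable {ι : Type*} [DecidableEq ι] (M : ι → Type*) [∀ i, AddCommGroup (M i)] [∀ i, Module R (M i)]

/-- a direct sum with finitely many nonzero finite summands is finite -/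
lemma finite_directSum_of_support (S : Finset ι) (hS : ∀ i, i ∉ S → Subsingleton (M i))
    [∀ i, Module.Finite R (M i)] : Module.Finite R (⨁ i, M i) := by
  constructor
  have h1 : (⊤ : Submodule R (⨁ i, M i)) = ⨆ i ∈ S, LinearMap.range (DirectSum.lof R ι M i) := by
    apply le_antisymm
    · rw [← DFinsupp.iSup_range_lsingle (R := R) (M := M)]
      refine iSup_le (fun i => ?_)
      by_cases hi : i ∈ S
      · exact le_biSup (fun i => LinearMap.range (DirectSum.lof R ι M i)) hi
      · haveI := hS i hi
        rintro _ ⟨x, rfl⟩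
        rw [Subsingleton.elim x 0, map_zero]
        exact Submodule.zero_mem _
    · exact le_top
  rw [h1]
  refine Submodule.fg_biSup S _ (fun i _ => ?_)
  rw [LinearMap.range_eq_map]
  exact (Module.Finite.fg_top).map _

end DirectSumFinite

section Terms

open Groth.Agent.H4.TC4 DRing

variable (K L : Cx R) (n : ℤ)

/-- the index type of the summands of `(K ⊗ L).X n` -/
abbrev Idx (n : ℤ) : Type :=
  ((ComplexShape.π (ComplexShape.up ℤ) (ComplexShape.up ℤ) (ComplexShape.up ℤ)) ⁻¹' {n} : Set (ℤ × ℤ))

/-- the summands of `(K ⊗ L).X n` -/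
noncomputable abbrev summand (i : Idx n) : ModuleCat.{u} R := K.X i.1.1 ⊗ L.X i.1.2

open Classical in
/-- the terms of the tensor product as direct sums -/
noncomputable def tensorXIso : (K ⊗ L).X n ≅ ModuleCat.of R (⨁ i : Idx n, summand K L n i) :=
  ModuleCat.coprodIsoDirectSum (fun i : Idx n => summand K L n i)

lemma idx_eq (i : Idx n) : i.1.1 + i.1.2 = n := i.2

open Classical in
lemma free_tensor_X (hK : ∀ i, Module.Free R (K.X i)) (hL : ∀ i, Module.Free R (L.X i)) :
    Module.Free R ((K ⊗ L).X n) := by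
  haveI : ∀ i : Idx n, Module.Free R (summand K L n i) := fun i => by
    haveI := hK i.1.1
    haveI := hL i.1.2
    change Module.Free R (TensorProduct R (K.X i.1.1) (L.X i.1.2))
    infer_instance
  haveI : Module.Free R (ModuleCat.of R (⨁ i : Idx n, summand K L n i)) := by
    change Module.Free R (⨁ i : Idx n, summand K L n i)
    infer_instance
  exact Module.Free.of_equiv (tensorXIso K L n).symm.toLinearEquiv

open Classical in
lemma projective_tensor_X (hK : ∀ i, Module.Projective R (K.X i))
    (hL : ∀ i, Module.Projective R (L.X i)) :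
    Module.Projective R ((K ⊗ L).X n) := by
  haveI : ∀ i : Idx n, Module.Projective R (summand K L n i) := fun i => by
    haveI := hK i.1.1
    haveI := hL i.1.2
    change Module.Projective R (TensorProduct R (K.X i.1.1) (L.X i.1.2))
    infer_instance
  haveI : Module.Projective R (ModuleCat.of R (⨁ i : Idx n, summand K L n i)) := by
    change Module.Projective R (Π₀ i : Idx n, summand K L n i)
    infer_instance
  exact Module.Projective.of_equiv (tensorXIso K L n).symm.toLinearEquiv

open Classical in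
lemma finite_tensor_X (b b' : ℤ) (hb : ∀ i, b < i → IsZero (K.X i)) (hb' : ∀ i, b' < i → IsZero (L.X i))
    (hK : ∀ i, Module.Finite R (K.X i)) (hL : ∀ i, Module.Finite R (L.X i)) :
    Module.Finite R ((K ⊗ L).X n) := by
  haveI : ∀ i : Idx n, Module.Finite R (summand K L n i) := fun i => by
    haveI := hK i.1.1
    haveI := hL i.1.2
    change Module.Finite R (TensorProduct R (K.X i.1.1) (L.X i.1.2))
    infer_instance
  -- the finite support
  let f : ℤ → ℤ × ℤ := fun p => (p, n - p)
  let S0 : Finset (ℤ × ℤ) := (Finset.Icc (n - b') b).image f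
  let S : Finset (Idx n) := S0.subtype _
  haveI : Module.Finite R (⨁ i : Idx n, summand K L n i) := by
    refine finite_directSum_of_support (R := R) (fun i : Idx n => summand K L n i) S (fun i hi => ?_)
    have hi' : ¬ (i.1 ∈ S0) := fun h => hi (Finset.mem_subtype.2 h)
    have h1 : i.1.1 + i.1.2 = n := i.2
    have h2 : b < i.1.1 ∨ b' < i.1.2 := by
      by_contra hcon
      push Not at hcon
      apply hi'
      refine Finset.mem_image.2 ⟨i.1.1, Finset.mem_Icc.2 ⟨by omega, hcon.1⟩, ?_⟩
      ext
      · rfl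
      · change n - i.1.1 = i.1.2
        omega
    rcases h2 with h2 | h2
    · haveI : Subsingleton (K.X i.1.1) := ModuleCat.subsingleton_of_isZero (hb _ h2)
      change Subsingleton (TensorProduct R (K.X i.1.1) (L.X i.1.2))
      infer_instance
    · haveI : Subsingleton (L.X i.1.2) := ModuleCat.subsingleton_of_isZero (hb' _ h2)
      change Subsingleton (TensorProduct R (K.X i.1.1) (L.X i.1.2))
      infer_instance
  haveI : Module.Finite R (ModuleCat.of R (⨁ i : Idx n, summand K L n i)) := this
  exact Module.Finite.equiv (tensorXIso K L n).symm.toLinearEquiv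

lemma isZero_tensor_X_of_lt (a a' : ℤ) (ha : ∀ i, i < a → IsZero (K.X i))
    (ha' : ∀ i, i < a' → IsZero (L.X i)) (hn : n < a + a') : IsZero ((K ⊗ L).X n) := by
  classical
  haveI : ∀ i : Idx n, Subsingleton (summand K L n i) := fun i => by
    have h1 : i.1.1 + i.1.2 = n := i.2
    have h2 : i.1.1 < a ∨ i.1.2 < a' := by omega
    rcases h2 with h2 | h2
    · haveI : Subsingleton (K.X i.1.1) := ModuleCat.subsingleton_of_isZero (ha _ h2)
      change Subsingleton (TensorProduct R (K.X i.1.1) (L.X i.1.2))
      infer_instance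
    · haveI : Subsingleton (L.X i.1.2) := ModuleCat.subsingleton_of_isZero (ha' _ h2)
      change Subsingleton (TensorProduct R (K.X i.1.1) (L.X i.1.2))
      infer_instance
  haveI : Subsingleton (ModuleCat.of R (⨁ i : Idx n, summand K L n i)) := by
    change Subsingleton (Π₀ i : Idx n, summand K L n i)
    infer_instance
  exact (ModuleCat.isZero_of_subsingleton _).of_iso (tensorXIso K L n)

lemma isZero_tensor_X_of_gt (b b' : ℤ) (hb : ∀ i, b < i → IsZero (K.X i))
    (hb' : ∀ i, b' < i → IsZero (L.X i)) (hn : b + b' < n) : IsZero ((K ⊗ L).X n) := by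
  classical
  haveI : ∀ i : Idx n, Subsingleton (summand K L n i) := fun i => by
    have h1 : i.1.1 + i.1.2 = n := i.2
    have h2 : b < i.1.1 ∨ b' < i.1.2 := by omega
    rcases h2 with h2 | h2
    · haveI : Subsingleton (K.X i.1.1) := ModuleCat.subsingleton_of_isZero (hb _ h2)
      change Subsingleton (TensorProduct R (K.X i.1.1) (L.X i.1.2))
      infer_instance
    · haveI : Subsingleton (L.X i.1.2) := ModuleCat.subsingleton_of_isZero (hb' _ h2)
      change Subsingleton (TensorProduct R (K.X i.1.1) (L.X i.1.2))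
      infer_instance
  haveI : Subsingleton (ModuleCat.of R (⨁ i : Idx n, summand K L n i)) := by
    change Subsingleton (Π₀ i : Idx n, summand K L n i)
    infer_instance
  exact (ModuleCat.isZero_of_subsingleton _).of_iso (tensorXIso K L n)

end Terms

section Main

open Groth.Agent.H4.TC4 Groth.Agent.H4.TC5 Groth.Agent.H4.TC6
open Groth.Agent.H4.LK2 Groth.Agent.H4.LK4 DRing

attribute [local instance] HasDerivedCategory.standard

/-- common part: reduce `K ⊗^L L` to `P ⊗ P'` for a K-flat `P` and bounded above projective `P'`. -/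
theorem nonempty_iso_LTensorCx (L : Cx R) [HasLTensorCx R L] (K : Dual.D R) (P P' : Cx R)
    (hP : KFlat P) (b' : ℤ) (hb' : ∀ i, b' < i → IsZero (P'.X i))
    (hP' : ∀ i, Module.Projective R (P'.X i))
    (eP : toD P ≅ K) (eP' : toD P' ≅ toD L) :
    Nonempty (toD (P ⊗ P') ≅ (LTensorCx R L).obj K) := by
  haveI : P'.IsStrictlyLE b' := by
    rw [CochainComplex.isStrictlyLE_iff]
    exact fun i hi => hb' i hi
  haveI : ∀ n, Projective (P'.X n) := fun n => by
    have := hP' n
    exact (IsProjective.iff_projective (R := R) (P'.X n)).1 this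
  haveI : P'.IsKProjective := CochainComplex.isKProjective_of_projective P' b'
  obtain ⟨f, hf⟩ := Groth.Agent.H3.PerfAux.exists_map_of_isKProjective P' L eP'.hom
  have hfq : QuasiIso f := by
    rw [← DerivedCategory.isIso_Q_map_iff_quasiIso, hf]
    infer_instance
  haveI := isIso_counit_app_of_kflat_left L P hP
  haveI h2 : QuasiIso (P ◁ f) := quasiIso_whiskerLeft_of_kflat hP f hfq
  let e1 : toD (P ⊗ P') ≅ toD (P ⊗ L) := asIso (DerivedCategory.Q.map (P ◁ f))
  let e2 : (LTensorCx R L).obj (toD P) ≅ toD (P ⊗ L) := asIso ((counit L).app P)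
  exact ⟨e1 ≪≫ e2.symm ≪≫ (LTensorCx R L).mapIso eP⟩

/-- S6959 -/
theorem isPerfect_LTensorCx (K : Dual.D R) (hK : IsPerfect R K)
    (L : Cx R) (hL : IsPerfect R (toD L)) [HasLTensorCx R L] :
    IsPerfect R ((LTensorCx R L).obj K) := by
  obtain ⟨P, a, b, hPv, hPfp, ⟨eP⟩⟩ := hK
  obtain ⟨P', a', b', hP'v, hP'fp, ⟨eP'⟩⟩ := hL
  have hPflat : KFlat P := kflat_of_bounded P a b (fun i hi => hPv i (Or.inl hi))
    (fun i hi => hPv i (Or.inr hi)) (fun i => by
      haveI := (hPfp i).2
      infer_instance)
  obtain ⟨e⟩ := nonempty_iso_LTensorCx L K P P' hPflat b' (fun i hi => hP'v i (Or.inr hi))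
    (fun i => (hP'fp i).2) eP eP'
  refine ⟨P ⊗ P', a + a', b + b', ?_, ?_, ⟨e⟩⟩
  · rintro i (hi | hi)
    · exact isZero_tensor_X_of_lt P P' i a a' (fun i hi => hPv i (Or.inl hi))
        (fun i hi => hP'v i (Or.inl hi)) hi
    · exact isZero_tensor_X_of_gt P P' i b b' (fun i hi => hPv i (Or.inr hi))
        (fun i hi => hP'v i (Or.inr hi)) hi
  · intro i
    exact ⟨finite_tensor_X P P' i b b' (fun i hi => hPv i (Or.inr hi))
      (fun i hi => hP'v i (Or.inr hi)) (fun i => (hPfp i).1) (fun i => (hP'fp i).1),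
      projective_tensor_X P P' i (fun i => (hPfp i).2) (fun i => (hP'fp i).2)⟩

/-- S7037 -/
theorem isPseudoCoherent'_LTensorCx (K : Dual.D R) (hK : IsPseudoCoherent' R K)
    (L : Cx R) (hL : IsPseudoCoherent' R (toD L)) [HasLTensorCx R L] :
    IsPseudoCoherent' R ((LTensorCx R L).obj K) := by
  obtain ⟨P, b, hPv, hPfp, ⟨eP⟩⟩ := hK
  obtain ⟨P', b', hP'v, hP'fp, ⟨eP'⟩⟩ := hL
  have hPflat : KFlat P := kflat_of_boundedAbove (P := P) b hPv (fun i => by
      haveI := (hPfp i).2
      infer_instance)
  obtain ⟨e⟩ := nonempty_iso_LTensorCx L K P P' hPflat b' hP'v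
    (fun i => by
      haveI := (hP'fp i).2
      infer_instance) eP eP'
  refine ⟨P ⊗ P', b + b', ?_, ?_, ⟨e⟩⟩
  · intro i hi
    exact isZero_tensor_X_of_gt P P' i b b' hPv hP'v hi
  · intro i
    exact ⟨finite_tensor_X P P' i b b' hPv hP'v (fun i => (hPfp i).1) (fun i => (hP'fp i).1),
      free_tensor_X P P' i (fun i => (hPfp i).2) (fun i => (hP'fp i).2)⟩

end Main

end Groth.Agent.H4.TP1
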