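import Mathlib
import Groth.Prelude.Def_DTen3
import Groth.Agent.H4.AP1
import Groth.Agent.H4.EV7
import Groth.Agent.H4.TP1
import Groth.Agent.H4.ResP2
import Groth.Agent.H4.TC8
import Groth.Agent.H4.DInj

/-!
# Boundedness of `⊗^L` and `RHom`; S13890
-/

set_option autoImplicit false
universe u
open CategoryTheory Category Limits Pretriangulated MonoidalCategory

namespace Groth.Agent.H4.AP2

attribute [local instance] HasDerivedCategory.standard

open DRing DTen DerivedCategory Groth.Agent.H4.EV1 Groth.Agent.H4.AP1 Groth.Agent.H4.InjAmp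
  Groth.Agent.H4.ProjAmp Groth.Agent.H4.TwoTerm Groth.Agent.H4.DRing1 Groth.Agent.H4.TC4

variable {A : Type u} [CommRing A] [DTen.HasLTen A]

set_option quotPrecheck false in
/-- notation for the object part of `⊗^L` -/
local notation:max "tO(" a ", " b ")" => (LTen₂ _).obj (a, b)

set_option quotPrecheck false in
/-- notation for the map part of `⊗^L` -/
local notation:max "tM(" f ", " g ")" => (LTen₂ _).map (Prod.mkHom f g)

/-- `D^{≤ r} ⊗^L D^{≤ q} ⊆ D^{≤ r + q}`. -/
lemma isLE_tO (R C : Dual.D A) (r q : ℤ) [R.IsLE r] [C.IsLE q] : tO(R, C).IsLE (r + q) := by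
  obtain ⟨E₁, hE₁, ⟨e₁⟩⟩ := Groth.Agent.H4.ResP.exists_iso_of_isLE R r
  obtain ⟨E₂, hE₂, ⟨e₂⟩⟩ := Groth.Agent.H4.ResP.exists_iso_of_isLE C q
  have hk : KFlat E₁ := Groth.Agent.H4.TC8.kflat_of_isBAF hE₁
  haveI := Groth.Agent.H4.LK4.isIso_ε_of_kflat E₁ E₂ (Or.inl hk)
  let e : tO(R, C) ≅ Q.obj (E₁ ⊗ E₂) :=
    (LTen₂ A).mapIso (Iso.prod e₁.symm e₂.symm) ≪≫ asIso ((ε A).app (E₁, E₂))
  haveI : (Q.obj (E₁ ⊗ E₂)).IsLE (r + q) := by
    rw [isLE_Q_obj_iff, CochainComplex.isLE_iff]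
    intro i hi
    exact HomologicalComplex.ExactAt.of_isZero
      (Groth.Agent.H4.TP1.isZero_tensor_X_of_gt E₁ E₂ i r q hE₁.1 hE₂.1 hi)
  exact TStructure.t.isLE_of_iso e.symm (r + q)

omit [DTen.HasLTen A] in
lemma kflat_sgl (j : ℤ) : KFlat (sgl (ModuleCat.of A A) j) := by
  refine Groth.Agent.H4.TC6.kflat_of_boundedAbove _ j (fun k hk => ?_) (fun k => ?_)
  · exact HomologicalComplex.isZero_single_obj_X _ _ _ _ (by omega)
  · by_cases hk : k = j
    · subst hk
      exact Module.Flat.of_linearEquiv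
        ((HomologicalComplex.singleObjXSelf (ComplexShape.up ℤ) k
          (ModuleCat.of A A)).toLinearEquiv)
    · haveI := ModuleCat.subsingleton_of_isZero
        (HomologicalComplex.isZero_single_obj_X (ComplexShape.up ℤ) j (ModuleCat.of A A) k hk)
      infer_instance

/-- `A[-j] ⊗^L D^{≥ s} ⊆ D^{≥ j + s}`. -/
lemma isGE_tO_W (j : ℤ) (X : Dual.D A) (s : ℤ) [X.IsGE s] : tO(W A j, X).IsGE (j + s) := by
  obtain ⟨X', hX', ⟨e⟩⟩ := exists_iso_Q_obj_of_isGE X s
  haveI := Groth.Agent.H4.LK4.isIso_ε_of_kflat (sgl (ModuleCat.of A A) j) X' (Or.inl (kflat_sgl j))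
  let e' : tO(W A j, X) ≅ Q.obj (sgl (ModuleCat.of A A) j ⊗ X') :=
    (LTen₂ A).mapIso (Iso.prod (Iso.refl _) e) ≪≫ asIso ((ε A).app (sgl (ModuleCat.of A A) j, X'))
  haveI : (Q.obj (sgl (ModuleCat.of A A) j ⊗ X')).IsGE (j + s) := by
    rw [isGE_Q_obj_iff, CochainComplex.isGE_iff]
    intro i hi
    exact HomologicalComplex.ExactAt.of_isZero
      (Groth.Agent.H4.TP1.isZero_tensor_X_of_lt (sgl (ModuleCat.of A A) j) X' i j s
        (fun k hk => HomologicalComplex.isZero_single_obj_X _ _ _ _ (by omega))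
        (fun k hk => X'.isZero_of_isStrictlyGE s k hk) hi)
  exact TStructure.t.isGE_of_iso e'.symm (j + s)

instance (j : ℤ) : (W A j).IsLE j := by
  rw [isLE_Q_obj_iff, CochainComplex.isLE_iff]
  intro i hi
  exact HomologicalComplex.ExactAt.of_isZero
    (HomologicalComplex.isZero_single_obj_X _ _ _ _ (by omega))

omit [DTen.HasLTen A] in
/-- no nonzero maps from `D^{≥ t}` to an object of injective amplitude `≤ b < t`. -/
lemma hom_eq_zero_of_isGE_of_injAmp (Y M : Dual.D A) (t a b : ℤ) [Y.IsGE t]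
    (hM : HasInjAmplitudeIn A a b M) (h : b < t) (φ : Y ⟶ M) : φ = 0 := by
  obtain ⟨I, hI, hinj, ⟨e⟩⟩ := hM
  obtain ⟨Y', hY', ⟨ey⟩⟩ := exists_iso_Q_obj_of_isGE Y t
  haveI : I.IsKInjective := Groth.Agent.H4.DThick.isKInjective_of_vanishes_injective I a
    (fun i hi => hI i (Or.inl hi)) hinj
  obtain ⟨f, hf⟩ := Groth.Agent.H4.DThick.exists_map_of_isKInjective Y' I (ey.inv ≫ φ ≫ e.inv)
  have hf0 : f = 0 := by
    apply HomologicalComplex.hom_ext
    intro k
    by_cases hk : k < t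
    · exact (Y'.isZero_of_isStrictlyGE t k hk).eq_of_src _ _
    · exact (hI k (Or.inr (by omega))).eq_of_tgt _ _
  rw [hf0, Functor.map_zero] at hf
  have h1 : φ ≫ e.inv = 0 := by
    rw [← cancel_epi ey.inv, ← hf, comp_zero]
  rw [← cancel_mono e.inv, h1, zero_comp]

section rhom

variable [DTen.HasRHom A]

/-- `RHom(D^{≤ q}, D^{≥ n}) ⊆ D^{≥ n - q}`. -/
lemma isGE_RHom (C L : Dual.D A) (q n : ℤ) [C.IsLE q] [L.IsGE n] :
    ((RHomR A C).obj L).IsGE (n - q) := by
  rw [isGE_iff]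
  intro j hj
  refine isZero_homology_of_hom_sgl _ j (ModuleCat.of A A) (LinearEquiv.refl A A) ?_
  haveI := isLE_tO (W A j) C j q
  haveI : Subsingleton ((tensorRightD A C).obj (W A j) ⟶ L) :=
    ⟨fun f g => (TStructure.t.zero_of_isLE_of_isGE f (j + q) n (by omega) this inferInstance).trans
      (TStructure.t.zero_of_isLE_of_isGE g (j + q) n (by omega) this inferInstance).symm⟩
  exact ((rhomAdj A C).homEquiv (W A j) L).symm.subsingleton

/-- `RHom(D^{≥ s}, M) ∈ D^{≤ b - s}` for `M` of injective amplitude in `[a, b]`. -/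
lemma isLE_RHom_of_injAmp (X M : Dual.D A) (s a b : ℤ) [X.IsGE s]
    (hM : HasInjAmplitudeIn A a b M) : ((RHomR A X).obj M).IsLE (b - s) := by
  rw [isLE_iff]
  intro j hj
  refine isZero_homology_of_hom_sgl _ j (ModuleCat.of A A) (LinearEquiv.refl A A) ?_
  haveI : ((tensorRightD A X).obj (W A j)).IsGE (j + s) := isGE_tO_W j X s
  haveI : Subsingleton ((tensorRightD A X).obj (W A j) ⟶ M) :=
    ⟨fun f g => (hom_eq_zero_of_isGE_of_injAmp _ M (j + s) a b hM (by omega) f).trans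
      (hom_eq_zero_of_isGE_of_injAmp _ M (j + s) a b hM (by omega) g).symm⟩
  exact ((rhomAdj A X).homEquiv (W A j) M).symm.subsingleton

end rhom

section main

variable [DTen.HasLTen₃ A] [DTen.IsSymMonoidal A] [DTen.HasRHom A]

open Groth.Agent.H4.EV3 Groth.Agent.H4.EV7

/-- **S13890**: `evalHom K L M` is an isomorphism for `K` pseudo-coherent, `L ∈ D^+` and `M` of
finite injective dimension. -/
theorem isIso_evalHom_of_isPseudoCoherent (K L M : Dual.D A) (hK : IsPseudoCoherent' A K) (n : ℤ)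
    [L.IsGE n] (hM : HasFiniteInjDim A M) : IsIso (evalHom K L M) := by
  obtain ⟨a, b, hab⟩ := hM
  haveI : ((RHomR A L).obj M).IsLE (b - n) := isLE_RHom_of_injAmp L M n a b hab
  refine isIso_app_of_isPseudoCoherent (yexact_LTen_obj _) (yexact_RHom_RHom L M)
    (evalHomNat L M) (b - n) (b - n) ?_ ?_ ?_ K hK
  · intro q C hC
    haveI := hC
    have := isLE_tO ((RHomR A L).obj M) C (b - n) q
    rw [add_comm] at this
    exact this
  · intro q C hC
    haveI := hC
    haveI := isGE_RHom C L q n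
    have := isLE_RHom_of_injAmp ((RHomR A C).obj L) M (n - q) a b hab
    have e : b - (n - q) = q + (b - n) := by ring
    rw [e] at this
    exact this
  · intro P hP
    exact isIso_evalHom_of_isPerfect P L M hP

end main

end Groth.Agent.H4.AP2
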