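import Mathlib
import Groth.Agent.H4.DCompl6
import Groth.Agent.H4.EV5

/-!
# Functors compatible with derived completion
-/

set_option autoImplicit false
universe u
open CategoryTheory CategoryTheory.Limits CategoryTheory.Pretriangulated

namespace Groth.Agent.H4.CF1

attribute [local instance] HasDerivedCategory.standard

variable {A : Type u} [CommRing A]

open ZeroObject DRing DerivedCategory Groth.Agent.H4.DComp Groth.Agent.H4.DCompl1 Groth.Agent.H4.DCompl2
  Groth.Agent.H4.DThick Groth.Agent.H4.ProjAmp Groth.Agent.H4.DCompl3 Groth.Agent.H4.DCompl4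
  Groth.Agent.H4.DCompl6 Groth.Agent.H4.EV5

/-- a map whose fibre is `f`-invertible induces bijections on maps to derived `f`-complete objects -/
lemma bijective_comp_of_triangle (f : A) {T K C : Dual.D A} (t : T ⟶ K) (q : K ⟶ C)
    (d : C ⟶ T⟦(1 : ℤ)⟧) (hC : Triangle.mk t q d ∈ distTriang (Dual.D A)) (hTinv : FInv f T)
    (C' : Dual.D A) (hC' : LO f C') : Function.Bijective (fun ψ : C ⟶ C' => q ≫ ψ) := by
  constructor
  · intro ψ ψ' hψ
    have h1 : q ≫ (ψ - ψ') = 0 := by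
      rw [Preadditive.comp_sub]
      exact sub_eq_zero.2 hψ
    obtain ⟨w, hw⟩ : ∃ w : T⟦(1 : ℤ)⟧ ⟶ C', ψ - ψ' = d ≫ w :=
      Triangle.yoneda_exact₃ _ hC (ψ - ψ') h1
    rw [hom_eq_zero_of_FInv f _ C' (hTinv.shift 1) hC' w, comp_zero] at hw
    exact sub_eq_zero.1 hw
  · intro χ
    have h1 : t ≫ χ = 0 := hom_eq_zero_of_FInv f _ C' hTinv hC' _
    obtain ⟨g, hg⟩ : ∃ g : C ⟶ C', χ = q ≫ g := Triangle.yoneda_exact₂ _ hC χ h1
    exact ⟨g, hg.symm⟩

/-- **Derived completion along one element**, with the fibre exposed. -/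
theorem exists_completion_one_tri (f : A) (K : Dual.D A) :
    ∃ (C T : Dual.D A) (t : T ⟶ K) (q : K ⟶ C) (d : C ⟶ T⟦(1 : ℤ)⟧),
      Triangle.mk t q d ∈ distTriang (Dual.D A) ∧ FInv f T ∧
      LO f C ∧ (∀ g : A, LO g K → LO g C) ∧
      (∀ b : ℤ, K.IsLE b → C.IsLE b) ∧ (∀ a : ℤ, K.IsGE a → C.IsGE (a - 1)) := by
  obtain ⟨T, i, h, hT⟩ := distinguished_cocone_triangle₁ (PsiD f K)
  obtain ⟨C, q, d, hC⟩ := distinguished_cocone_triangle (i ≫ pr K 0)
  have hTinv : FInv f T := FInv_fiber f K T i h hT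
  have hbij := bijective_fiber_pr f K T i h hT
  have htq : (i ≫ pr K 0) ≫ q = 0 := comp_distTriang_mor_zero₁₂ _ hC
  have hdt : d ≫ (i ≫ pr K 0)⟦(1 : ℤ)⟧' = 0 := comp_distTriang_mor_zero₃₁ _ hC
  -- no maps from `f`-invertible objects to `C`
  have hYC : ∀ (Y : Dual.D A), FInv f Y → ∀ ψ : Y ⟶ C, ψ = 0 := by
    intro Y hY ψ
    have hθ : ψ ≫ d = 0 := by
      let e : (Y⟦(-1 : ℤ)⟧)⟦(1 : ℤ)⟧ ≅ Y :=
        (shiftFunctorCompIsoId (Dual.D A) (-1 : ℤ) 1 (by simp)).app Y
      obtain ⟨θ', hθ'⟩ := (shiftFunctor (Dual.D A) (1 : ℤ)).map_surjective (e.hom ≫ ψ ≫ d)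
      have h1 : θ' ≫ i ≫ pr K 0 = 0 := by
        apply (shiftFunctor (Dual.D A) (1 : ℤ)).map_injective
        rw [Functor.map_comp, hθ', Category.assoc, Category.assoc, hdt, comp_zero, comp_zero,
          Functor.map_zero]
      have h2 : θ' = 0 := by
        apply (hbij _ (hY.shift (-1))).1
        change θ' ≫ i ≫ pr K 0 = 0 ≫ i ≫ pr K 0
        rw [h1, zero_comp]
      rw [h2, Functor.map_zero] at hθ'
      rw [← cancel_epi e.hom, ← hθ', comp_zero]
    obtain ⟨χ, hχ⟩ : ∃ χ : Y ⟶ K, ψ = χ ≫ q := Triangle.coyoneda_exact₃ _ hC ψ hθ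
    obtain ⟨φ, rfl⟩ := (hbij Y hY).2 χ
    rw [hχ]
    change (φ ≫ i ≫ pr K 0) ≫ q = 0
    rw [Category.assoc, htq, comp_zero]
  refine ⟨C, T, i ≫ pr K 0, q, d, hC, hTinv, ?_, ?_, ?_, ?_⟩
  · apply LO_of_forall
    intro n ψ
    exact hYC _ ((FInv_Fo f).shift n) ψ
  · intro g hg
    have hP : LO g (P K) := LO_P g K hg
    have hTg : LO g T := (isTriSub_LO g).ext₁ _ hT hP hP
    exact (isTriSub_LO g).ext₃ _ hC hTg hg
  · intro b hb
    have hP : (P K).IsLE b := isLE_P K b hb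
    have hP1 : ((P K)⟦(-1 : ℤ)⟧).IsLE (b + 1) := (tR A).isLE_shift (P K) b (-1) (b + 1) (by omega)
    have hP' : (P K).IsLE (b + 1) := (tR A).isLE_of_le _ b (b + 1) (by omega)
    have hT1 : T.IsLE (b + 1) := (tR A).isLE₂ _ (inv_rot_of_distTriang _ hT) (b + 1) hP1 hP'
    have hT2 : (T⟦(1 : ℤ)⟧).IsLE b := (tR A).isLE_shift T (b + 1) 1 b (by omega)
    exact (tR A).isLE₂ _ (rot_of_distTriang _ hC) b hb hT2
  · intro a ha
    have hP : (P K).IsGE a := isGE_P K a ha
    have hP1 : ((P K)⟦(-1 : ℤ)⟧).IsGE (a + 1) := (tR A).isGE_shift (P K) a (-1) (a + 1) (by omega)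
    have hP1' : ((P K)⟦(-1 : ℤ)⟧).IsGE a := (tR A).isGE_of_ge _ a (a + 1) (by omega)
    have hT1 : T.IsGE a := (tR A).isGE₂ _ (inv_rot_of_distTriang _ hT) a hP1' hP
    have hT2 : (T⟦(1 : ℤ)⟧).IsGE (a - 1) := (tR A).isGE_shift T a 1 (a - 1) (by omega)
    have hK' : K.IsGE (a - 1) := (tR A).isGE_of_ge _ (a - 1) a (by omega)
    exact (tR A).isGE₂ _ (rot_of_distTriang _ hC) (a - 1) hK' hT2

/-- endofunctors of `D(A)` which are exact (on the first two maps of triangles) and `A`-linear -/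
structure Good (F : Dual.D A ⥤ Dual.D A) : Prop where
  cpl : ∀ T ∈ distTriang (Dual.D A), Cpl (F.map T.mor₁) (F.map T.mor₂)
  lin : ∀ (a : A) (X : Dual.D A), F.map (a • 𝟙 X) = a • 𝟙 (F.obj X)

lemma Good.fInv {F : Dual.D A ⥤ Dual.D A} (hF : Good F) {f : A} {T : Dual.D A} (h : FInv f T) :
    FInv f (F.obj T) := by
  change IsIso (f • 𝟙 (F.obj T))
  rw [← hF.lin]
  haveI : IsIso (f • 𝟙 T) := h
  infer_instance

lemma Good.of_iso {F G : Dual.D A ⥤ Dual.D A} (e : F ≅ G) (hF : Good F) : Good G where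
  cpl T hT := by
    obtain h := hF.cpl T hT
    exact Cpl.of_iso (e.symm.app _) (e.symm.app _) (e.symm.app _) (e.inv.naturality _)
      (e.inv.naturality _) h
  lin a X := by
    have h1 : G.map (a • 𝟙 X) = e.inv.app X ≫ F.map (a • 𝟙 X) ≫ e.hom.app X := by
      rw [e.hom.naturality, Iso.inv_hom_id_app_assoc]
    rw [h1, hF.lin, Linear.smul_comp, Linear.comp_smul, Category.id_comp, Iso.inv_hom_id_app]

lemma Good.bijective_of_triangle {F : Dual.D A ⥤ Dual.D A} (hF : Good F) (f : A)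
    {T K C : Dual.D A} (t : T ⟶ K) (q : K ⟶ C)
    (d : C ⟶ T⟦(1 : ℤ)⟧) (hC : Triangle.mk t q d ∈ distTriang (Dual.D A)) (hTinv : FInv f T)
    (C' : Dual.D A) (hC' : LO f C') :
    Function.Bijective (fun ψ : F.obj C ⟶ C' => F.map q ≫ ψ) := by
  obtain ⟨w, hw⟩ := hF.cpl _ hC
  exact bijective_comp_of_triangle f (F.map t) (F.map q) w hw (hF.fInv hTinv) C' hC'

/-- **Derived completion along finitely many elements**, with compatibility with good functors. -/
theorem exists_completion_finset_good (s : Finset A) : ∀ (K : Dual.D A),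
    ∃ (C : Dual.D A) (q : K ⟶ C), (∀ f ∈ s, LO f C) ∧
      (∀ (F : Dual.D A ⥤ Dual.D A), Good F → ∀ C' : Dual.D A, (∀ f ∈ s, LO f C') →
        Function.Bijective (fun ψ : F.obj C ⟶ C' => F.map q ≫ ψ)) := by
  classical
  induction s using Finset.induction_on with
  | empty =>
    intro K
    refine ⟨K, 𝟙 K, by simp, fun F _ C' _ => ?_⟩
    have : (fun ψ : F.obj K ⟶ C' => F.map (𝟙 K) ≫ ψ) = id := by
      funext ψ
      simp
    rw [this]
    exact Function.bijective_id
  | insert f s hfs ih =>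
    intro K
    obtain ⟨C₀, q₀, h1, h2⟩ := ih K
    obtain ⟨C, T, t, q₁, d, hC, hT, k1, k2, -, -⟩ := exists_completion_one_tri f C₀
    refine ⟨C, q₀ ≫ q₁, ?_, ?_⟩
    · intro g hg
      rcases Finset.mem_insert.1 hg with rfl | hg
      · exact k1
      · exact k2 g (h1 g hg)
    · intro F hF C' hC'
      have hb1 := hF.bijective_of_triangle f t q₁ d hC hT C' (hC' f (Finset.mem_insert_self f s))
      have hb0 := h2 F hF C' (fun g hg => hC' g (Finset.mem_insert_of_mem hg))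
      have : (fun ψ : F.obj C ⟶ C' => F.map (q₀ ≫ q₁) ≫ ψ) =
          (fun ψ : F.obj C₀ ⟶ C' => F.map q₀ ≫ ψ) ∘ (fun ψ : F.obj C ⟶ C' => F.map q₁ ≫ ψ) := by
        funext ψ
        simp
      rw [this]
      exact hb0.comp hb1

lemma good_id : Good (𝟭 (Dual.D A)) where
  cpl T hT := Cpl.of_distTriang T hT
  lin _ _ := rfl

variable (I : Ideal A) [HasDerivedCompletion I]

/-- **Good functors are compatible with derived completion**: `F(K) ⟶ F(K^∧)` induces bijections on
maps to derived complete objects. -/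
theorem Good.bijective_toDerivedCompletion {F : Dual.D A ⥤ Dual.D A} (hF : Good F) (hI : I.FG)
    (K E : Dual.D A) (hE : IsDerivedComplete I E) :
    Function.Bijective (fun φ : F.obj ((derivedCompletion I).obj K).obj ⟶ E =>
      F.map (toDerivedCompletion I K) ≫ φ) := by
  obtain ⟨s, hs⟩ := hI
  subst hs
  obtain ⟨C, q, h1, h2⟩ := exists_completion_finset_good s K
  have hC : IsDerivedComplete (Ideal.span (s : Set A)) C := (isDerivedComplete_span_iff s C).2 h1
  have huniv : ∀ C' : Dual.D A, IsDerivedComplete (Ideal.span (s : Set A)) C' →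
      Function.Bijective (fun ψ : C ⟶ C' => q ≫ ψ) := fun C' hC' =>
    h2 (𝟭 _) good_id C' ((isDerivedComplete_span_iff s C').1 hC')
  -- the comparison isomorphism
  let L := ((derivedCompletion (Ideal.span (s : Set A))).obj K).obj
  have hL : IsDerivedComplete (Ideal.span (s : Set A)) L :=
    ((derivedCompletion (Ideal.span (s : Set A))).obj K).property
  let η := toDerivedCompletion (Ideal.span (s : Set A)) K
  obtain ⟨u, hu⟩ := (unit_bijective _ K C hC).2 q
  obtain ⟨v, hv⟩ := (huniv L hL).2 η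
  change η ≫ u = q at hu
  change q ≫ v = η at hv
  have huv : u ≫ v = 𝟙 L := by
    apply (unit_bijective _ K L hL).1
    change η ≫ u ≫ v = η ≫ 𝟙 L
    rw [← Category.assoc, hu, hv, Category.comp_id]
  have hvu : v ≫ u = 𝟙 C := by
    apply (huniv C hC).1
    change q ≫ v ≫ u = q ≫ 𝟙 C
    rw [← Category.assoc, hv, hu, Category.comp_id]
  have hb := h2 F hF E ((isDerivedComplete_span_iff s E).1 hE)
  have key : (fun φ : F.obj L ⟶ E => F.map η ≫ φ) =
      (fun ψ : F.obj C ⟶ E => F.map q ≫ ψ) ∘ (fun φ : F.obj L ⟶ E => F.map v ≫ φ) := by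
    funext φ
    change F.map η ≫ φ = F.map q ≫ F.map v ≫ φ
    rw [← Category.assoc, ← F.map_comp, hv]
  change Function.Bijective (fun φ : F.obj L ⟶ E => F.map η ≫ φ)
  rw [key]
  refine hb.comp ?_
  constructor
  · intro φ φ' h
    have h' : F.map v ≫ φ = F.map v ≫ φ' := h
    have := congrArg (fun z => F.map u ≫ z) h'
    simp only [← Category.assoc, ← F.map_comp, huv] at this
    rw [CategoryTheory.Functor.map_id, Category.id_comp, Category.id_comp] at this
    exact this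
  · intro ψ
    refine ⟨F.map u ≫ ψ, ?_⟩
    change F.map v ≫ F.map u ≫ ψ = ψ
    rw [← Category.assoc, ← F.map_comp, hvu, CategoryTheory.Functor.map_id, Category.id_comp]

end Groth.Agent.H4.CF1
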