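import Mathlib

set_option autoImplicit false

open CategoryTheory Category Limits Pretriangulated

universe v u

namespace Groth.Agent.H4.KI1

/-! ### towers -/

/-- if the transition maps are surjective from `N` on, `1 - shift` is surjective. -/
lemma exists_sub_shift :
    ∀ (N : ℕ) (G : ℕ → Type v) [∀ n, AddCommGroup (G n)] (τ : ∀ n, G (n + 1) → G n)
      (_ : ∀ n, N ≤ n → Function.Surjective (τ n)) (g : ∀ n, G n),
      ∃ d : ∀ n, G n, ∀ n, d n - τ n (d (n + 1)) = g n := by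
  intro N
  induction N with
  | zero =>
    intro G _ τ h g
    have hstep : ∀ n (x : G n), ∃ y : G (n + 1), τ n y = x - g n := fun n x => h n (Nat.zero_le _) _
    choose nx hnx using hstep
    let d : ∀ n, G n := fun n => Nat.rec (motive := G) 0 (fun n x => nx n x) n
    refine ⟨d, fun n => ?_⟩
    have : d (n + 1) = nx n (d n) := rfl
    rw [this, hnx]
    abel
  | succ N ih =>
    intro G _ τ h g
    obtain ⟨d', hd'⟩ := ih (fun n => G (n + 1)) (fun n => τ (n + 1))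
      (fun n hn => h (n + 1) (by omega)) (fun n => g (n + 1))
    let d : ∀ n, G n := fun n => Nat.casesOn (motive := G) n (g 0 + τ 0 (d' 0)) (fun n => d' n)
    refine ⟨d, fun n => ?_⟩
    cases n with
    | zero =>
      change g 0 + τ 0 (d' 0) - τ 0 (d' 0) = g 0
      abel
    | succ n => exact hd' n

/-- compatible families extending a given element. -/
lemma exists_compatible :
    ∀ (N : ℕ) (G : ℕ → Type v) (τ : ∀ n, G (n + 1) → G n)
      (_ : ∀ n, N ≤ n → Function.Surjective (τ n)) (α : G N),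
      ∃ β : ∀ n, G n, β N = α ∧ ∀ n, β n = τ n (β (n + 1)) := by
  intro N
  induction N with
  | zero =>
    intro G τ h α
    have hstep : ∀ n (x : G n), ∃ y : G (n + 1), τ n y = x := fun n x => h n (Nat.zero_le _) _
    choose nx hnx using hstep
    let β : ∀ n, G n := fun n => Nat.rec (motive := G) α (fun n x => nx n x) n
    refine ⟨β, rfl, fun n => ?_⟩
    have : β (n + 1) = nx n (β n) := rfl
    rw [this, hnx]
  | succ N ih =>
    intro G τ h α
    obtain ⟨β', hβ', hc⟩ := ih (fun n => G (n + 1)) (fun n => τ (n + 1))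
      (fun n hn => h (n + 1) (by omega)) α
    let β : ∀ n, G n := fun n => Nat.casesOn (motive := G) n (τ 0 (β' 0)) (fun n => β' n)
    refine ⟨β, hβ', fun n => ?_⟩
    cases n with
    | zero => rfl
    | succ n => exact hc n

/-- a compatible family vanishing at `N` vanishes, if the transition maps are injective
from `N` on. -/
lemma eq_zero_of_compatible {G : ℕ → Type v} (τ : ∀ n, G (n + 1) → G n)
    [∀ n, Zero (G n)] (hτ : ∀ n, τ n 0 = 0) (N : ℕ)
    (h : ∀ n, N ≤ n → Function.Injective (τ n)) (β : ∀ n, G n)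
    (hc : ∀ n, β n = τ n (β (n + 1))) (hN : β N = 0) : ∀ n, β n = 0 := by
  have hup : ∀ n, N ≤ n → β n = 0 := by
    intro n hn
    induction n, hn using Nat.le_induction with
    | base => exact hN
    | succ n hn ih =>
      apply h n hn
      rw [← hc, ih, hτ]
  have hdown : ∀ k n, n + k = N → β n = 0 := by
    intro k
    induction k with
    | zero =>
      intro n hn
      exact hup n (by omega)
    | succ k ih =>
      intro n hn
      rw [hc, ih (n + 1) (by omega), hτ]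
  intro n
  by_cases hn : N ≤ n
  · exact hup n hn
  · exact hdown (N - n) n (by omega)

/-! ### the Milnor sequence -/

section Milnor

variable {C : Type u} [Category.{v} C] [Preadditive C] [HasZeroObject C] [HasShift C ℤ]
  [∀ n : ℤ, (shiftFunctor C n).Additive] [Pretriangulated C]

variable {Y : ℕ → C} (θ : ∀ n, Y (n + 1) ⟶ Y n) {P : C} (π : ∀ n, P ⟶ Y n)
  (hP : IsLimit (Fan.mk P π)) {L : C} (a : L ⟶ P) (b : P ⟶ P) (c : P ⟶ L⟦(1 : ℤ)⟧)
  (hT : Triangle.mk a b c ∈ distTriang C)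
  (hb : ∀ n, b ≫ π n = π n - π (n + 1) ≫ θ n)

include hP hT hb

/-- a compatible family of maps to the tower lifts to the homotopy limit. -/
lemma exists_lift_holim {Z : C} (q : ∀ n, Z ⟶ Y n) (hq : ∀ n, q (n + 1) ≫ θ n = q n) :
    ∃ γ : Z ⟶ L, ∀ n, γ ≫ a ≫ π n = q n := by
  let q' : Z ⟶ P := hP.lift (Fan.mk Z q)
  have hq' : ∀ n, q' ≫ π n = q n := fun n => hP.fac (Fan.mk Z q) ⟨n⟩
  have h0 : q' ≫ b = 0 := by
    refine hP.hom_ext (fun ⟨n⟩ => ?_)
    change (q' ≫ b) ≫ π n = 0 ≫ π n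
    rw [assoc, hb, Preadditive.comp_sub, hq', ← assoc, hq', hq, sub_self, zero_comp]
  obtain ⟨γ, hγ⟩ : ∃ γ : Z ⟶ L, q' = γ ≫ a := Triangle.coyoneda_exact₂ _ hT q' h0
  refine ⟨γ, fun n => ?_⟩
  rw [← assoc, ← hγ, hq']

/-- Milnor: `Hom(V, holim Y) → Hom(V, Y N)` is bijective when the tower `Hom(V, Y n)` is constant
from `N` on and the tower `Hom(V⟦1⟧, Y n)` has surjective transition maps from `N` on. -/
theorem bijective_comp_holim (V : C) (N : ℕ)
    (h1 : ∀ n, N ≤ n → Function.Bijective (fun φ : V ⟶ Y (n + 1) => φ ≫ θ n))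
    (h2 : ∀ n, N ≤ n → Function.Surjective (fun φ : V⟦(1 : ℤ)⟧ ⟶ Y (n + 1) => φ ≫ θ n)) :
    Function.Bijective (fun φ : V ⟶ L => φ ≫ a ≫ π N) := by
  constructor
  · -- injectivity
    intro φ₁ φ₂ h
    change φ₁ ≫ a ≫ π N = φ₂ ≫ a ≫ π N at h
    have hψ : (φ₁ - φ₂) ≫ a ≫ π N = 0 := by rw [Preadditive.sub_comp, h, sub_self]
    suffices hs : φ₁ - φ₂ = 0 from sub_eq_zero.1 hs
    set ψ := φ₁ - φ₂ with hψdef
    -- the components of `ψ ≫ a` vanish
    have hab : a ≫ b = 0 := comp_distTriang_mor_zero₁₂ _ hT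
    have hcomp : ∀ n, ψ ≫ a ≫ π n = (ψ ≫ a ≫ π (n + 1)) ≫ θ n := by
      intro n
      have : ψ ≫ (a ≫ b) ≫ π n = ψ ≫ 0 ≫ π n := by rw [hab]
      rw [assoc, hb, zero_comp, comp_zero, Preadditive.comp_sub, Preadditive.comp_sub,
        sub_eq_zero] at this
      rw [this, assoc, assoc]
    have hβ := eq_zero_of_compatible (G := fun n => (V ⟶ Y n)) (fun n φ => φ ≫ θ n)
      (fun n => zero_comp) N (fun n hn => (h1 n hn).1) (fun n => ψ ≫ a ≫ π n) hcomp hψ
    have hψa : ψ ≫ a = 0 := by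
      refine hP.hom_ext (fun ⟨n⟩ => ?_)
      change (ψ ≫ a) ≫ π n = 0 ≫ π n
      rw [assoc, hβ n, zero_comp]
    -- so `ψ⟦1⟧` factors through `c`
    have h3 : ψ⟦(1 : ℤ)⟧' ≫ (Triangle.mk a b c).mor₁⟦(1 : ℤ)⟧' = 0 := by
      change ψ⟦(1 : ℤ)⟧' ≫ a⟦(1 : ℤ)⟧' = 0
      rw [← Functor.map_comp, hψa, Functor.map_zero]
    obtain ⟨g, hg⟩ : ∃ g : V⟦(1 : ℤ)⟧ ⟶ P, ψ⟦(1 : ℤ)⟧' = g ≫ c :=
      Triangle.coyoneda_exact₁ _ hT (ψ⟦(1 : ℤ)⟧') h3
    -- `g` is in the image of `b`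
    obtain ⟨d, hd⟩ := exists_sub_shift N (fun n => (V⟦(1 : ℤ)⟧ ⟶ Y n)) (fun n φ => φ ≫ θ n)
      h2 (fun n => g ≫ π n)
    let d' : V⟦(1 : ℤ)⟧ ⟶ P := hP.lift (Fan.mk _ d)
    have hd' : ∀ n, d' ≫ π n = d n := fun n => hP.fac (Fan.mk _ d) ⟨n⟩
    have hgd : g = d' ≫ b := by
      refine hP.hom_ext (fun ⟨n⟩ => ?_)
      change g ≫ π n = (d' ≫ b) ≫ π n
      rw [assoc, hb, Preadditive.comp_sub, hd', ← assoc, hd', ← hd n]
    have hbc : b ≫ c = 0 := comp_distTriang_mor_zero₂₃ _ hT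
    have h4 : ψ⟦(1 : ℤ)⟧' = 0 := by rw [hg, hgd, assoc, hbc, comp_zero]
    exact (shiftFunctor C (1 : ℤ)).map_injective (h4.trans (Functor.map_zero _ _ _).symm)
  · -- surjectivity
    intro α
    obtain ⟨β, hβN, hβ⟩ := exists_compatible N (fun n => (V ⟶ Y n)) (fun n φ => φ ≫ θ n)
      (fun n hn => (h1 n hn).2) α
    obtain ⟨γ, hγ⟩ := exists_lift_holim θ π hP a b c hT hb β (fun n => (hβ n).symm)
    exact ⟨γ, (hγ N).trans hβN⟩

end Milnor

end Groth.Agent.H4.KI1
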