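import Mathlib
import Groth.Agent.H4.KI1
import Groth.Agent.H4.AP1
import Groth.Agent.H4.ProjAmp4
import Groth.Agent.Lib.Helper2.DProd1

set_option autoImplicit false

open CategoryTheory Category Limits Pretriangulated DerivedCategory CochainComplex

universe w v u

namespace Groth.Agent.H4.KI2

section General

variable {C : Type u} [Category.{v} C] [Abelian C]

/-- The mapping cone of a morphism of K-injective complexes is K-injective. -/
instance isKInjective_mappingCone {K L : CochainComplex C ℤ} (f : K ⟶ L)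
    [K.IsKInjective] [L.IsKInjective] : (mappingCone f).IsKInjective := by
  rw [isKInjective_iff_rightOrthogonal]
  have hT := HomotopyCategory.mappingCone_triangleh_distinguished f
  exact (HomotopyCategory.subcategoryAcyclic C).rightOrthogonal.ext_of_isTriangulatedClosed₃ _ hT
    (IsKInjective.rightOrthogonal K) (IsKInjective.rightOrthogonal L)

end General

attribute [local instance] HasDerivedCategory.standard

open Groth.Agent.H4.ProjAmp Groth.Agent.H4.AP1 Groth.Agent.H2.DProd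

variable {A : Type u} [CommRing A]

/-- objects left orthogonal to `D^{< i}`. -/
def LOrth (V : Dual.D A) (i : ℤ) : Prop :=
  ∀ (Z : Dual.D A) (m : ℤ), Z.IsLE m → m < i → ∀ φ : V ⟶ Z, φ = 0

lemma lOrth_W (i : ℤ) : LOrth (W A i) i := fun Z m hZ hm φ => by
  haveI := hZ
  exact hom_W_eq_zero_of_isLE Z m i hm φ

lemma LOrth.shift {V : Dual.D A} {i : ℤ} (hV : LOrth V i) : LOrth (V⟦(1 : ℤ)⟧) (i - 1) := by
  intro Z m hZ hm φ
  haveI := hZ
  haveI : (Z⟦(-1 : ℤ)⟧).IsLE (m + 1) := TStructure.t.isLE_shift Z m (-1) (m + 1) (by omega)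
  have h0 := hV (Z⟦(-1 : ℤ)⟧) (m + 1) inferInstance (by omega)
    ((shiftFunctorCompIsoId (Dual.D A) (1 : ℤ) (-1) (by omega)).inv.app V ≫ φ⟦(-1 : ℤ)⟧')
  have h1 : φ⟦(-1 : ℤ)⟧' = 0 := by
    rw [← cancel_epi ((shiftFunctorCompIsoId (Dual.D A) (1 : ℤ) (-1) (by omega)).inv.app V), h0,
      comp_zero]
  exact (CategoryTheory.shiftFunctor (Dual.D A) (-1 : ℤ)).map_injective (h1.trans (Functor.map_zero _ _ _).symm)

/-- `Hom(V, X) → Hom(V, τ^{≥ a} X)` is bijective for `V` left orthogonal to `D^{< i}`, `a ≤ i`. -/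
lemma bijective_comp_truncGEπ (V X : Dual.D A) (i a : ℤ) (ha : a ≤ i) (hV : LOrth V i) :
    Function.Bijective (fun φ : V ⟶ X => φ ≫ ((tR A).truncGEπ a).app X) := by
  have hT := triangleLTGE_dist a X
  constructor
  · intro φ₁ φ₂ h
    change φ₁ ≫ ((tR A).truncGEπ a).app X = φ₂ ≫ ((tR A).truncGEπ a).app X at h
    have h0 : (φ₁ - φ₂) ≫ ((tR A).truncGEπ a).app X = 0 := by
      rw [Preadditive.sub_comp, h, sub_self]
    obtain ⟨g, hg⟩ : ∃ g : V ⟶ ((tR A).truncLT a).obj X,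
        φ₁ - φ₂ = g ≫ ((tR A).truncLTι a).app X := Triangle.coyoneda_exact₂ _ hT _ h0
    have hg0 : g = 0 := hV _ (a - 1) inferInstance (by omega) g
    rw [hg0, zero_comp] at hg
    exact sub_eq_zero.1 hg
  · intro α
    haveI : ((((tR A).truncLT a).obj X)⟦(1 : ℤ)⟧).IsLE (a - 1 - 1) :=
      TStructure.t.isLE_shift _ (a - 1) 1 (a - 1 - 1) (by omega)
    have h0 : α ≫ ((tR A).truncGEδLT a).app X = 0 :=
      hV ((((tR A).truncLT a).obj X)⟦(1 : ℤ)⟧) (a - 1 - 1) inferInstance (by omega) _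
    obtain ⟨g, hg⟩ : ∃ g : V ⟶ X, α = g ≫ ((tR A).truncGEπ a).app X :=
      Triangle.coyoneda_exact₃ _ hT α h0
    exact ⟨g, hg.symm⟩

/-- bijectivity transported along a post-composition with an isomorphism. -/
lemma bijective_comp_iso {V X Y Y' : Dual.D A} (f : X ⟶ Y) (e : Y ≅ Y')
    (h : Function.Bijective (fun φ : V ⟶ X => φ ≫ f)) :
    Function.Bijective (fun φ : V ⟶ X => φ ≫ f ≫ e.hom) := by
  have : (fun φ : V ⟶ X => φ ≫ f ≫ e.hom) = (fun ψ : V ⟶ Y => ψ ≫ e.hom) ∘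
      (fun φ : V ⟶ X => φ ≫ f) := by
    funext φ
    simp
  rw [this]
  exact (e.homToEquiv (Z := V)).bijective.comp h

/-- if `q' ≫ θ = q` and `q`, `q'` induce bijections on `Hom(V, -)`, so does `θ`. -/
lemma bijective_of_comp_eq {V X Y Y' : Dual.D A} (q' : X ⟶ Y') (θ : Y' ⟶ Y) (q : X ⟶ Y)
    (h : q' ≫ θ = q) (hq' : Function.Bijective (fun φ : V ⟶ X => φ ≫ q'))
    (hq : Function.Bijective (fun φ : V ⟶ X => φ ≫ q)) :
    Function.Bijective (fun φ : V ⟶ Y' => φ ≫ θ) := by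
  have : (fun φ : V ⟶ X => φ ≫ q) = (fun ψ : V ⟶ Y' => ψ ≫ θ) ∘ (fun φ : V ⟶ X => φ ≫ q') := by
    funext φ
    simp [h]
  rw [this] at hq
  exact (Function.Bijective.of_comp_iff _ hq').1 hq

/-- every object of `D(A)` is represented by a K-injective complex. -/
theorem exists_kinj_iso (X : Dual.D A) :
    ∃ (I : CochainComplex (ModuleCat.{u} A) ℤ), I.IsKInjective ∧ Nonempty (X ≅ Q.obj I) := by
  -- the truncation tower
  let Yt : ℕ → Dual.D A := fun n => ((tR A).truncGE (-(n : ℤ))).obj X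
  have hres : ∀ n, ∃ (I : CochainComplex (ModuleCat.{u} A) ℤ), I.IsKInjective ∧
      Nonempty (Q.obj I ≅ Yt n) := fun n => exists_kInjective_iso (Yt n) (-(n : ℤ))
  choose I hI e using hres
  haveI := hI
  let e' : ∀ n, Q.obj (I n) ≅ Yt n := fun n => (e n).some
  let θt : ∀ n, Yt (n + 1) ⟶ Yt n := fun n =>
    ((tR A).natTransTruncGEOfLE (-((n + 1 : ℕ) : ℤ)) (-(n : ℤ)) (by push_cast; omega)).app X
  let qt : ∀ n, X ⟶ Yt n := fun n => ((tR A).truncGEπ (-(n : ℤ))).app X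
  have hqt : ∀ n, qt (n + 1) ≫ θt n = qt n := fun n =>
    (tR A).π_natTransTruncGEOfLE_app _ _ _ X
  -- transported tower
  let Y : ℕ → Dual.D A := fun n => Q.obj (I n)
  let θ : ∀ n, Y (n + 1) ⟶ Y n := fun n => (e' (n + 1)).hom ≫ θt n ≫ (e' n).inv
  let q : ∀ n, X ⟶ Y n := fun n => qt n ≫ (e' n).inv
  have hq : ∀ n, q (n + 1) ≫ θ n = q n := fun n => by
    change (qt (n + 1) ≫ (e' (n + 1)).inv) ≫ (e' (n + 1)).hom ≫ θt n ≫ (e' n).inv = _
    rw [assoc, Iso.inv_hom_id_assoc, ← assoc, hqt]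
  -- the product
  haveI : (∏ᶜ I).IsKInjective := Groth.Agent.H2.KInjProd.isKInjective_pi I inferInstance
  let P : Dual.D A := Q.obj (∏ᶜ I)
  let π : ∀ n, P ⟶ Y n := fun n => Q.map (Pi.π I n)
  have hP : IsLimit (Fan.mk P π) := isLimitFan I
  let s : P ⟶ P := hP.lift (Fan.mk P (fun n => π (n + 1) ≫ θ n))
  have hs : ∀ n, s ≫ π n = π (n + 1) ≫ θ n := fun n =>
    hP.fac (Fan.mk P (fun n => π (n + 1) ≫ θ n)) ⟨n⟩
  obtain ⟨ψ, hψ⟩ := exists_Q_map_eq (𝟙 P - s)
  have hb : ∀ n, Q.map ψ ≫ π n = π n - π (n + 1) ≫ θ n := fun n => by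
    rw [hψ, Preadditive.sub_comp, id_comp, hs]
  -- the triangle
  have hT₀ : Q.mapTriangle.obj (mappingCone.triangle ψ) ∈ distTriang (Dual.D A) :=
    (mem_distTriang_iff _).2 ⟨_, _, ψ, ⟨Iso.refl _⟩⟩
  have hT := inv_rot_of_distTriang _ hT₀
  let T := (Q.mapTriangle.obj (mappingCone.triangle ψ)).invRotate
  have hT' : Triangle.mk T.mor₁ (Q.map ψ) T.mor₃ ∈ distTriang (Dual.D A) := hT
  obtain ⟨γ, hγ⟩ := Groth.Agent.H4.KI1.exists_lift_holim θ π hP T.mor₁ (Q.map ψ) T.mor₃ hT' hb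
    q hq
  -- `γ` is an isomorphism
  have hγiso : IsIso γ := by
    apply isIso_of_forall_hom_W_bijective
    intro i
    let N : ℕ := (1 - i).toNat
    have hN : ∀ n : ℕ, N ≤ n → -(n : ℤ) ≤ i - 1 := by
      intro n hn
      have := Int.self_le_toNat (1 - i)
      have : ((1 - i).toNat : ℤ) ≤ n := by exact_mod_cast hn
      omega
    have hV := lOrth_W (A := A) i
    have hV' := hV.shift
    have hbq : ∀ n, N ≤ n → Function.Bijective (fun φ : W A i ⟶ X => φ ≫ q n) := fun n hn =>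
      bijective_comp_iso _ (e' n).symm
        (bijective_comp_truncGEπ (W A i) X i (-(n : ℤ)) (by have := hN n hn; omega) hV)
    have hbq' : ∀ n, N ≤ n →
        Function.Bijective (fun φ : (W A i)⟦(1 : ℤ)⟧ ⟶ X => φ ≫ q n) := fun n hn =>
      bijective_comp_iso _ (e' n).symm
        (bijective_comp_truncGEπ ((W A i)⟦(1 : ℤ)⟧) X (i - 1) (-(n : ℤ)) (hN n hn) hV')
    have h1 : ∀ n, N ≤ n → Function.Bijective (fun φ : W A i ⟶ Y (n + 1) => φ ≫ θ n) :=
      fun n hn => bijective_of_comp_eq (q (n + 1)) (θ n) (q n) (hq n)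
        (hbq (n + 1) (by omega)) (hbq n hn)
    have h2 : ∀ n, N ≤ n →
        Function.Surjective (fun φ : (W A i)⟦(1 : ℤ)⟧ ⟶ Y (n + 1) => φ ≫ θ n) :=
      fun n hn => (bijective_of_comp_eq (q (n + 1)) (θ n) (q n) (hq n)
        (hbq' (n + 1) (by omega)) (hbq' n hn)).2
    have hM := Groth.Agent.H4.KI1.bijective_comp_holim θ π hP T.mor₁ (Q.map ψ) T.mor₃ hT' hb
      (W A i) N h1 h2
    have hcomp : (fun φ : W A i ⟶ X => φ ≫ q N) =
        (fun φ : W A i ⟶ T.obj₁ => φ ≫ T.mor₁ ≫ π N) ∘ (fun φ : W A i ⟶ X => φ ≫ γ) := by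
      funext φ
      change φ ≫ q N = (φ ≫ γ) ≫ T.mor₁ ≫ π N
      exact (congrArg (fun x => φ ≫ x) (hγ N).symm).trans (assoc _ _ _).symm
    have h3 := hbq N le_rfl
    rw [hcomp] at h3
    exact (Function.Bijective.of_comp_iff' hM _).1 h3
  refine ⟨(mappingCone ψ)⟦(-1 : ℤ)⟧, inferInstance, ⟨asIso γ ≪≫ ?_⟩⟩
  exact ((Q.commShiftIso (-1 : ℤ)).app (mappingCone ψ)).symm

/-- K-injective resolutions exist for unbounded complexes of modules. -/
theorem exists_kinj (X : CochainComplex (ModuleCat.{u} A) ℤ) :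
    ∃ (I : CochainComplex (ModuleCat.{u} A) ℤ) (f : X ⟶ I), I.IsKInjective ∧ QuasiIso f := by
  obtain ⟨I, hI, ⟨e⟩⟩ := exists_kinj_iso (Q.obj X)
  haveI := hI
  obtain ⟨f, hf⟩ := exists_Q_map_eq e.hom
  refine ⟨I, f, hI, ?_⟩
  rw [← isIso_Q_map_iff_quasiIso, hf]
  infer_instance

end Groth.Agent.H4.KI2
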