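import Mathlib

/-!
# Pointwise right derived functors at "locally injective" objects
-/

open CategoryTheory Category Limits

universe v₁ v₂ v₃ u₁ u₂ u₃

namespace Groth.Agent.H4.KI3

variable {C : Type u₁} {D : Type u₂} {H : Type u₃}
  [Category.{v₁} C] [Category.{v₂} D] [Category.{v₃} H]
  (L : C ⥤ D) (F : C ⥤ H)

/-- `X₀` is "locally injective" for `(L, F)`: maps to `L X₀` from objects `L X` lift, and the
lifts are unique up to `F`. -/
structure IsLocInj (X₀ : C) : Prop where
  surj : ∀ (X : C) (φ : L.obj X ⟶ L.obj X₀), ∃ g : X ⟶ X₀, L.map g = φ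
  uniq : ∀ (X : C) (g g' : X ⟶ X₀), L.map g = L.map g' → F.map g = F.map g'

namespace IsLocInj

variable {L F} {X₀ : C} (h : IsLocInj L F X₀)

/-- a chosen lift -/
noncomputable def lift (A : CostructuredArrow L (L.obj X₀)) : A.left ⟶ X₀ :=
  (h.surj A.left A.hom).choose

lemma map_lift (A : CostructuredArrow L (L.obj X₀)) : L.map (h.lift A) = A.hom :=
  (h.surj A.left A.hom).choose_spec

/-- the colimit cocone -/
noncomputable def cocone : Cocone (CostructuredArrow.proj L (L.obj X₀) ⋙ F) where
  pt := F.obj X₀
  ι :=
    { app := fun A => F.map (h.lift A)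
      naturality := fun A B f => by
        have h1 : F.map (h.lift A) = F.map (f.left ≫ h.lift B) := by
          apply h.uniq
          rw [L.map_comp, h.map_lift, h.map_lift]
          exact (CostructuredArrow.w f).symm
        have h2 : F.map (f.left ≫ h.lift B) = F.map f.left ≫ F.map (h.lift B) := F.map_comp _ _
        exact (h2.symm.trans h1.symm).trans (comp_id _).symm }

lemma cocone_ι_app_mk_id : h.cocone.ι.app (CostructuredArrow.mk (𝟙 (L.obj X₀))) = 𝟙 _ := by
  change F.map _ = 𝟙 _
  rw [← F.map_id]
  apply h.uniq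
  exact (h.map_lift _).trans (L.map_id _).symm

/-- it is a colimit cocone -/
noncomputable def isColimitCocone : IsColimit h.cocone where
  desc s := s.ι.app (CostructuredArrow.mk (𝟙 (L.obj X₀)))
  fac s A := by
    have hA : L.map (h.lift A) = A.hom := h.map_lift A
    let f : A ⟶ CostructuredArrow.mk (𝟙 (L.obj X₀)) :=
      CostructuredArrow.homMk (h.lift A) (by simp [hA])
    have := s.ι.naturality f
    dsimp at this
    rw [comp_id] at this
    exact this
  uniq s m hm := by
    have := hm (CostructuredArrow.mk (𝟙 (L.obj X₀)))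
    rw [h.cocone_ι_app_mk_id] at this
    exact (id_comp m).symm.trans this

include h in
lemma hasPointwiseLeftKanExtensionAt : L.HasPointwiseLeftKanExtensionAt F (L.obj X₀) :=
  ⟨⟨_, h.isColimitCocone⟩⟩

include h in
/-- the unit of a pointwise left Kan extension is an isomorphism at `X₀`. -/
lemma isIso_app_of_isPointwise (E : L.LeftExtension F)
    (hE : E.IsPointwiseLeftKanExtensionAt (L.obj X₀)) : IsIso (E.hom.app X₀) := by
  have h1 : E.hom.app X₀ = (IsColimit.coconePointUniqueUpToIso h.isColimitCocone hE).hom := by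
    have h2 := IsColimit.comp_coconePointUniqueUpToIso_hom h.isColimitCocone hE
      (CostructuredArrow.mk (𝟙 (L.obj X₀)))
    rw [h.cocone_ι_app_mk_id] at h2
    have h3 : (E.coconeAt (L.obj X₀)).ι.app (CostructuredArrow.mk (𝟙 (L.obj X₀))) =
        E.hom.app X₀ := by
      change E.hom.app X₀ ≫ E.right.map (𝟙 _) = _
      rw [E.right.map_id]
      exact comp_id _
    exact h3.symm.trans (h2.symm.trans (id_comp _))
  rw [h1]
  exact Iso.isIso_hom _

end IsLocInj

section

variable {L F} (W : MorphismProperty C) [L.IsLocalization W]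

include W in
lemma IsLocInj.hasPointwiseRightDerivedFunctorAt {X₀ : C} (h : IsLocInj L F X₀) :
    F.HasPointwiseRightDerivedFunctorAt W X₀ := by
  rw [F.hasPointwiseRightDerivedFunctorAt_iff L W]
  exact h.hasPointwiseLeftKanExtensionAt

include L in
/-- existence of enough locally injective objects gives a pointwise right derived functor. -/
theorem hasPointwiseRightDerivedFunctor_of_isLocInj
    (hres : ∀ X : C, ∃ (X₀ : C) (w : X ⟶ X₀), W w ∧ IsLocInj L F X₀) :
    F.HasPointwiseRightDerivedFunctor W := by
  intro X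
  obtain ⟨X₀, w, hw, h⟩ := hres X
  rw [F.hasPointwiseRightDerivedFunctorAt_iff_of_mem W w hw]
  exact h.hasPointwiseRightDerivedFunctorAt W

/-- the unit of a right derived functor is an isomorphism at locally injective objects. -/
theorem IsLocInj.isIso_unit_app [F.HasPointwiseRightDerivedFunctor W] {X₀ : C}
    (h : IsLocInj L F X₀) (RF : D ⥤ H) (α : F ⟶ L ⋙ RF) [RF.IsRightDerivedFunctor α W] :
    IsIso (α.app X₀) :=
  h.isIso_app_of_isPointwise (Functor.LeftExtension.mk RF α)
    (Functor.isPointwiseLeftKanExtensionOfHasPointwiseRightDerivedFunctor RF α W _)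

/-- if the target of a `W`-map is locally injective and `F` sends it to an isomorphism,
the unit is an isomorphism at the source. -/
theorem IsLocInj.isIso_unit_app_of_isIso_map [F.HasPointwiseRightDerivedFunctor W] {X₀ X : C}
    (h : IsLocInj L F X₀) (w : X ⟶ X₀) (hw : W w) (hF : IsIso (F.map w))
    (RF : D ⥤ H) (α : F ⟶ L ⋙ RF) [RF.IsRightDerivedFunctor α W] :
    IsIso (α.app X) := by
  haveI := h.isIso_unit_app W RF α
  haveI : IsIso (L.map w) := Localization.inverts L W w hw
  haveI : IsIso (RF.map (L.map w)) := inferInstance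
  have hnat := α.naturality w
  dsimp at hnat
  have : α.app X = F.map w ≫ α.app X₀ ≫ inv (RF.map (L.map w)) := by
    rw [← assoc, hnat, assoc, IsIso.hom_inv_id, comp_id]
  rw [this]
  infer_instance

end

end Groth.Agent.H4.KI3
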