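import Mathlib
import Groth.Prelude.Def_DRing4
import Groth.Agent.H4.HC1
import Groth.Agent.H4.LK2
import Groth.Agent.H4.KI2
import Groth.Agent.H4.KI3

set_option autoImplicit false

open CategoryTheory Category Limits DerivedCategory CochainComplex CochainComplex.HomComplex

universe v' u u'

namespace Groth.Agent.H4.KI4

open Groth.Agent.H4.LK2 Groth.Agent.H4.KI3

attribute [local instance] HasDerivedCategory.standard

variable {A : Type u} [CommRing A]

abbrev Cx' (A : Type u) [CommRing A] := CochainComplex (ModuleCat.{u} A) ℤ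

/-- post-composition with a cochain of degree `-1`, as a linear map. -/
noncomputable def postcompCochainLin (K : Cx' A) {L L' : Cx' A} (h : Cochain L L' (-1)) (p q : ℤ)
    (hpq : p + (-1) = q) : Cochain K L p →ₗ[A] Cochain K L' q where
  toFun z := z.comp h hpq
  map_add' z z' := by simp
  map_smul' a z := by simp

/-- the homotopy cochain on Hom complexes -/
noncomputable def homCxHtpyCochain (K : Cx' A) {L L' : Cx' A} (h : Cochain L L' (-1)) :
    Cochain (DRing.homCx K L) (DRing.homCx K L') (-1) :=
  Cochain.mk (fun p q hpq => ModuleCat.ofHom (postcompCochainLin K h p q hpq))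

/-- `Hom•(K, -)` preserves homotopies. -/
noncomputable def homCxMapHomotopy (K : Cx' A) {L L' : Cx' A} (f g : L ⟶ L') (H : Homotopy f g) :
    Homotopy (DRing.homCxMap K f) (DRing.homCxMap K g) := by
  obtain ⟨h, hh⟩ := Cochain.equivHomotopy f g H
  refine (Cochain.equivHomotopy _ _).symm ⟨homCxHtpyCochain K h, ?_⟩
  ext p
  rename_i z'
  obtain ⟨z, rfl⟩ : ∃ z : Cochain K L p, z = z' := ⟨z', rfl⟩
  rw [Cochain.add_v, Cochain.ofHom_v, Cochain.ofHom_v,
    δ_v (-1) 0 (by omega) _ p p (add_zero p) (p - 1) (p + 1) rfl rfl]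
  simp only [Int.negOnePow_zero, one_smul]
  change z.comp (Cochain.ofHom f) (add_zero p) =
    δ (p - 1) p (z.comp h (by omega)) + (δ p (p + 1) z).comp h (by omega) +
      z.comp (Cochain.ofHom g) (add_zero p)
  rw [hh, Cochain.comp_add,
    δ_comp z h (show p + (-1) = p - 1 by omega) (p + 1) 0 p (by omega) rfl (by omega)]
  simp only [Int.negOnePow_neg, Int.negOnePow_one, Units.neg_smul, one_smul]
  abel

lemma htpyInv_homCxQ (K : Cx' A) : HtpyInv (DRing.homCxQ K) :=
  htpyInv_comp_Q (DRing.homCxFunctor K) (fun _ _ f g h => ⟨homCxMapHomotopy K f g h⟩)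

section General

variable {C : Type*} [Category C] [Abelian C] [HasDerivedCategory C]
variable {H : Type u'} [Category.{v'} H]

lemma isLocInj_of_isKInjective (F : CochainComplex C ℤ ⥤ H) (hF : HtpyInv F)
    (I : CochainComplex C ℤ) [I.IsKInjective] :
    IsLocInj (DerivedCategory.Q (C := C)) F I where
  surj X φ := Groth.Agent.H2.DProd.exists_Q_map_eq φ
  uniq X g g' h := by
    have h0 : DerivedCategory.Q.map (g - g') = 0 := by
      rw [Functor.map_sub, h, sub_self]
    obtain ⟨h1⟩ := Groth.Agent.H2.DProd.nonempty_homotopy_zero_of_Q_map_eq_zero (g - g') h0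
    have h2 : Homotopy g g' := by
      have := (h1.add (Homotopy.refl g')).trans (Homotopy.ofEq (zero_add g'))
      exact (Homotopy.ofEq (by abel)).trans this
    exact hF g g' h2

end General

section Modules

variable {H : Type u'} [Category.{v'} H]

/-- homotopy invariant functors on complexes of modules have pointwise right derived functors. -/
theorem hasPointwiseR (F : Cx' A ⥤ H) (hF : HtpyInv F) :
    F.HasPointwiseRightDerivedFunctor (qis A) := by
  refine hasPointwiseRightDerivedFunctor_of_isLocInj (L := DerivedCategory.Q) (qis A) ?_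
  intro X
  obtain ⟨I, f, hI, hf⟩ := Groth.Agent.H4.KI2.exists_kinj X
  haveI := hI
  exact ⟨I, f, hf, isLocInj_of_isKInjective F hF I⟩

theorem hasRightDerivedFunctor (F : Cx' A ⥤ H) (hF : HtpyInv F) :
    F.HasRightDerivedFunctor (qis A) := by
  haveI := hasPointwiseR F hF
  infer_instance

/-- the unit is an isomorphism at K-injective complexes. -/
theorem isIso_unit_of_isKInjective (F : Cx' A ⥤ H) (hF : HtpyInv F)
    (RF : DerivedCategory (ModuleCat.{u} A) ⥤ H) (α : F ⟶ DerivedCategory.Q ⋙ RF)
    [RF.IsRightDerivedFunctor α (qis A)] (I : Cx' A) [I.IsKInjective] : IsIso (α.app I) := by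
  haveI := hasPointwiseR F hF
  exact (isLocInj_of_isKInjective F hF I).isIso_unit_app (qis A) RF α

/-- the unit is an isomorphism at `X` if `F` inverts some K-injective resolution of `X`. -/
theorem isIso_unit_of_isIso_map (F : Cx' A ⥤ H) (hF : HtpyInv F)
    (RF : DerivedCategory (ModuleCat.{u} A) ⥤ H) (α : F ⟶ DerivedCategory.Q ⋙ RF)
    [RF.IsRightDerivedFunctor α (qis A)] {I X : Cx' A} [I.IsKInjective] (a : X ⟶ I)
    (ha : QuasiIso a) (hFa : IsIso (F.map a)) : IsIso (α.app X) := by
  haveI := hasPointwiseR F hF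
  exact (isLocInj_of_isKInjective F hF I).isIso_unit_app_of_isIso_map (qis A) a ha hFa RF α

/-- S-binder: `RHom(K, -)` exists for every complex `K`. -/
theorem hasRHomCx (K : Cx' A) : DRing.HasRHomCx K :=
  hasRightDerivedFunctor _ (htpyInv_homCxQ K)

variable (K : Cx' A) [DRing.HasRHomCx K]

/-- the unit of `RHom(K, -)`. -/
noncomputable abbrev unitR : DRing.homCxQ K ⟶ DerivedCategory.Q ⋙ DRing.RHomCx K :=
  (DRing.homCxQ K).totalRightDerivedUnit DerivedCategory.Q (qis A)

theorem isIso_unitR_app_of_isKInjective (I : Cx' A) [I.IsKInjective] :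
    IsIso ((unitR K).app I) :=
  isIso_unit_of_isKInjective _ (htpyInv_homCxQ K) _ (unitR K) I

/-- `RHom(K, I) = Hom•(K, I)` for `I` K-injective. -/
noncomputable def rhomCxIso (I : Cx' A) [I.IsKInjective] :
    DerivedCategory.Q.obj (DRing.homCx K I) ≅ (DRing.RHomCx K).obj (DerivedCategory.Q.obj I) :=
  @asIso _ _ _ _ ((unitR K).app I) (isIso_unitR_app_of_isKInjective K I)

end Modules

end Groth.Agent.H4.KI4
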