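import Mathlib
import Groth.Prelude.Def_DRing4
import Groth.Agent.H4.HC2
import Groth.Agent.H4.KI4

set_option autoImplicit false
universe u
open CategoryTheory Category Limits MonoidalCategory HomologicalComplex CochainComplex
  CochainComplex.HomComplex

namespace Groth.Agent.H4.KI5

open Groth.Agent.H4.HC1 Groth.Agent.H4.HC2

variable {A : Type u} [CommRing A]

attribute [local instance] HasDerivedCategory.standard

section kinj

variable (J : Cx A) [J.IsKInjective]

/-- precomposition with a quasi-isomorphism is bijective on homotopy classes of maps to a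
K-injective complex. -/
lemma bijective_precomp_quotient {E E' : Cx A} (u : E' ⟶ E) [QuasiIso u] :
    Function.Bijective (fun x : (HomotopyCategory.quotient _ _).obj E ⟶
      (HomotopyCategory.quotient _ _).obj J => (HomotopyCategory.quotient _ _).map u ≫ x) := by
  haveI : IsIso (DerivedCategory.Qh.map ((HomotopyCategory.quotient _ _).map u)) := by
    have h := (DerivedCategory.quotientCompQhIso (ModuleCat.{u} A)).hom.naturality u
    dsimp at h
    have : DerivedCategory.Qh.map ((HomotopyCategory.quotient _ _).map u) =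
        (DerivedCategory.quotientCompQhIso (ModuleCat.{u} A)).hom.app E' ≫
          DerivedCategory.Q.map u ≫
            (DerivedCategory.quotientCompQhIso (ModuleCat.{u} A)).inv.app E := by
      rw [← assoc, ← h, assoc, Iso.hom_inv_id_app]
      exact (comp_id _).symm
    rw [this]
    infer_instance
  rw [← Function.Bijective.of_comp_iff'
    (CochainComplex.IsKInjective.Qh_map_bijective ((HomotopyCategory.quotient _ _).obj E') J)]
  have : (DerivedCategory.Qh.map : ((HomotopyCategory.quotient _ _).obj E' ⟶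
      (HomotopyCategory.quotient _ _).obj J) → _) ∘
      (fun x : (HomotopyCategory.quotient _ _).obj E ⟶
      (HomotopyCategory.quotient _ _).obj J => (HomotopyCategory.quotient _ _).map u ≫ x) =
      (fun y => DerivedCategory.Qh.map ((HomotopyCategory.quotient _ _).map u) ≫ y) ∘
        (DerivedCategory.Qh.map : ((HomotopyCategory.quotient _ _).obj E ⟶
          (HomotopyCategory.quotient _ _).obj J) → _) := by
    funext x
    simp
  rw [this]
  exact (asIso (DerivedCategory.Qh.map
    ((HomotopyCategory.quotient _ _).map u))).symm.homFromEquiv.bijective.comp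
    (CochainComplex.IsKInjective.Qh_map_bijective ((HomotopyCategory.quotient _ _).obj E) J)

/-- `Hom•(-, J)` sends quasi-isomorphisms to quasi-isomorphisms when `J` is K-injective. -/
theorem quasiIso_homCxPre {E E' : Cx A} (u : E' ⟶ E) [QuasiIso u] :
    QuasiIso (homCxPre u J) := by
  refine quasiIso_of_elementwise _ ?_ ?_
  · intro n (z' : Cochain E' J n) (hz' : δ n (n + 1) z' = 0)
    let c' : Cocycle E' J n := Cocycle.mk z' (n + 1) rfl hz'
    obtain ⟨x, hx⟩ := (bijective_precomp_quotient (J⟦n⟧) u).2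
      ((HomotopyCategory.quotient _ _).map (Cocycle.equivHomShift.symm c'))
    obtain ⟨g, rfl⟩ := (HomotopyCategory.quotient _ _).map_surjective x
    let c : Cocycle E J n := Cocycle.equivHomShift g
    have h1 : CohomologyClass.toHom (CohomologyClass.mk (c.precomp u - c')) = 0 := by
      rw [CohomologyClass.toHom_mk, map_sub, Cocycle.equivHomShift_symm_precomp,
        AddEquiv.symm_apply_apply, Functor.map_sub, Functor.map_comp]
      exact sub_eq_zero.2 hx
    rw [CohomologyClass.toHom_mk_eq_zero_iff, mem_coboundaries_iff _ (n - 1) (by omega)] at h1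
    obtain ⟨β, hβ⟩ := h1
    refine ⟨c.1, Cocycle.δ_eq_zero c (n + 1), β, ?_⟩
    exact hβ.symm
  · intro n (z : Cochain E J n) (hz : δ n (n + 1) z = 0) ⟨w', hw'⟩
    let c : Cocycle E J n := Cocycle.mk z (n + 1) rfl hz
    have hw'' : (c.precomp u : Cochain E' J n) = δ (n - 1) n (w' : Cochain E' J (n - 1)) := hw'
    have h1 : c.precomp u ∈ coboundaries E' J n := by
      rw [mem_coboundaries_iff _ (n - 1) (by omega)]
      exact ⟨w', hw''.symm⟩
    rw [← CohomologyClass.toHom_mk_eq_zero_iff, CohomologyClass.toHom_mk,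
      Cocycle.equivHomShift_symm_precomp, Functor.map_comp] at h1
    have h2 : (HomotopyCategory.quotient _ _).map (Cocycle.equivHomShift.symm c) = 0 := by
      apply (bijective_precomp_quotient (J⟦n⟧) u).1
      dsimp only
      rw [h1, comp_zero]
    rw [← CohomologyClass.toHom_mk, CohomologyClass.toHom_mk_eq_zero_iff,
      mem_coboundaries_iff _ (n - 1) (by omega)] at h2
    obtain ⟨β, hβ⟩ := h2
    exact ⟨β, hβ.symm⟩

end kinj

open Groth.Agent.H4.KI4 Groth.Agent.H4.LK2 DerivedCategory

/-- precomposition as a natural transformation `Hom•(E, -) ⟶ Hom•(E', -)` (after `Q`). -/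
noncomputable def preNat {E E' : Cx A} (u : E' ⟶ E) : DRing.homCxQ E ⟶ DRing.homCxQ E' where
  app Y := Q.map (homCxPre u Y)
  naturality Y Y' f := by
    change Q.map (DRing.homCxMap E f) ≫ Q.map (homCxPre u Y') =
      Q.map (homCxPre u Y) ≫ Q.map (DRing.homCxMap E' f)
    rw [← Q.map_comp, ← Q.map_comp, homCxPre_homCxMap]

lemma isIso_of_fac {C : Type*} [Category C] {X Y Z W : C} (a : X ⟶ Y) (g : Y ⟶ W) (b : X ⟶ Z)
    (c : Z ⟶ W) (h : a ≫ g = b ≫ c) [IsIso a] [IsIso b] [IsIso c] : IsIso g :=
  IsIso.of_isIso_fac_left h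

section

variable {E E' : Cx A} (u : E' ⟶ E) [DRing.HasRHomCx E] [DRing.HasRHomCx E']

/-- `RHom(E, -) ⟶ RHom(E', -)` induced by `u : E' ⟶ E`. -/
noncomputable def RHomCxPre : DRing.RHomCx E ⟶ DRing.RHomCx E' :=
  Functor.rightDerivedNatTrans (DRing.RHomCx E) (DRing.RHomCx E') (unitR E) (unitR E') (qis A)
    (preNat u)

lemma RHomCxPre_fac (Y : Cx A) :
    (unitR E).app Y ≫ (RHomCxPre u).app (Q.obj Y) = Q.map (homCxPre u Y) ≫ (unitR E').app Y :=
  Functor.rightDerivedNatTrans_app _ _ _ _ _ _ _

/-- a quasi-isomorphism `E' ⟶ E` induces an isomorphism `RHom(E, -) ≅ RHom(E', -)`. -/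
theorem isIso_RHomCxPre [QuasiIso u] : IsIso (RHomCxPre u) := by
  rw [NatTrans.isIso_iff_isIso_app]
  intro X
  obtain ⟨I, hI, ⟨e⟩⟩ := Groth.Agent.H4.KI2.exists_kinj_iso X
  haveI := hI
  rw [NatTrans.isIso_app_iff_of_iso (RHomCxPre u) e]
  have h1 := isIso_unitR_app_of_isKInjective E I
  have h2 := isIso_unitR_app_of_isKInjective E' I
  haveI : QuasiIso (homCxPre u I) := quasiIso_homCxPre I u
  have h3 : IsIso (Q.map (homCxPre u I)) := inferInstance
  exact @isIso_of_fac _ _ _ _ _ _ _ _ _ _ (RHomCxPre_fac u I) h1 h3 h2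

/-- the isomorphism `RHom(E, -) ≅ RHom(E', -)` for a quasi-isomorphism `E' ⟶ E`. -/
noncomputable def RHomCxPreIso [QuasiIso u] : DRing.RHomCx E ≅ DRing.RHomCx E' :=
  haveI := isIso_RHomCxPre u
  asIso (RHomCxPre u)

end

end Groth.Agent.H4.KI5
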