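import Mathlib
import Groth.Prelude.Def_DTen3
import Groth.Agent.H4.HC5
import Groth.Agent.H4.LK4
import Groth.Agent.H4.KI5

set_option autoImplicit false
universe u
open CategoryTheory Category Limits MonoidalCategory HomologicalComplex CochainComplex

namespace Groth.Agent.H4.KI6

open DTen DerivedCategory Groth.Agent.H4.HC1 Groth.Agent.H4.HC2 Groth.Agent.H4.HC3
  Groth.Agent.H4.HC5 Groth.Agent.H4.TC4 Groth.Agent.H4.TC8 Groth.Agent.H4.KI4 Groth.Agent.H4.KI5
  Groth.Agent.H4.LK2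

attribute [local instance] HasDerivedCategory.standard

variable {A : Type u} [CommRing A]

/-- `RHom(P, -) ≅ HP` for `P` K-projective. -/
noncomputable def RHomCxIsoHP (P : Cx A) [P.IsKProjective] [DRing.HasRHomCx P] :
    DRing.RHomCx P ≅ HP P :=
  haveI : (HP P).IsRightDerivedFunctor (HPfac P).inv (DTen.qis A) :=
    Functor.isRightDerivedFunctor_of_inverts (DTen.qis A) (HP P) (HPfac P)
  Functor.rightDerivedUnique (DRing.RHomCx P) (HP P) (unitR P) (HPfac P).inv (DTen.qis A)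

section

variable [DTen.HasLTen A]

/-- `D(A)` is closed: `- ⊗^L L` has a right adjoint for every `L`. -/
theorem hasRHom : DTen.HasRHom A where
  isLeftAdjoint L := by
    obtain ⟨P, hP, -, hfl, ⟨e⟩⟩ := Groth.Agent.H4.LK4.exists_kproj_kflat_iso L
    haveI := hP
    have adj : tensorRightD A L ⊣ HP P :=
      (adjD P hfl).ofNatIsoLeft ((LTen A).flip.mapIso e)
    exact adj.isLeftAdjoint

/-- the adjunction `- ⊗^L QE ⊣ RHom(E, -)` on `D(A)`, for any complex `E`. -/
theorem nonempty_rhomCxAdj (E : Cx A) [DRing.HasRHomCx E] :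
    Nonempty (tensorRightD A (Q.obj E) ⊣ DRing.RHomCx E) := by
  obtain ⟨P, a, hP, -, hfl, ha⟩ := exists_kproj_free_kflat E
  haveI := hP
  haveI := ha
  haveI : DRing.HasRHomCx P := hasRHomCx P
  have adj : tensorRightD A (Q.obj E) ⊣ HP P :=
    (adjD P hfl).ofNatIsoLeft ((LTen A).flip.mapIso (asIso (Q.map a)))
  exact ⟨adj.ofNatIsoRight ((RHomCxPreIso a ≪≫ RHomCxIsoHP P).symm)⟩

/-- a chosen adjunction `- ⊗^L QE ⊣ RHom(E, -)`. -/
noncomputable def rhomCxAdj (E : Cx A) [DRing.HasRHomCx E] :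
    tensorRightD A (Q.obj E) ⊣ DRing.RHomCx E := (nonempty_rhomCxAdj E).some

/-- `RHom(E, -)` (derived functor of the Hom complex) agrees with the internal Hom of `D(A)`. -/
noncomputable def rhomCxIsoRHomR [DTen.HasRHom A] (E : Cx A) [DRing.HasRHomCx E] :
    DRing.RHomCx E ≅ RHomR A (Q.obj E) :=
  (rhomCxAdj E).rightAdjointUniq (rhomAdj A (Q.obj E))

end

end Groth.Agent.H4.KI6
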