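import Mathlib
import Groth.Prelude.Def_DRing4
import Groth.Prelude.Def_DTen
import Groth.Prelude.Def_DTen2
import Groth.Agent.H4.LK4

/-!
# Associativity of the derived tensor product
-/

open CategoryTheory Category Limits DerivedCategory MonoidalCategory

universe u

namespace Groth.Agent.H4.LK5

open Groth.Agent.H4.LK1 Groth.Agent.H4.LK2 Groth.Agent.H4.LK3 Groth.Agent.H4.LK4
open Groth.Agent.H4.TC3 Groth.Agent.H4.TC4 Groth.Agent.H4.TC8 Groth.Agent.H4.TC10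

attribute [local instance] HasDerivedCategory.standard

variable {A : Type u} [CommRing A]

lemma htpyInv₃_tensor₃ : HtpyInv₃ (DTen.tensor₃ A) := by
  intro K K' L L' M M' f f' g g' k k' h₁ h₂ h₃
  exact Q_map_eq_of_homotopy (tensorHomotopy h₁ (tensorHomotopy h₂ h₃))

/-- the binder `HasLTen₃` holds. -/
theorem hasLTen₃ : DTen.HasLTen₃ A := hasLeftDerivedFunctor₃ _ htpyInv₃_tensor₃

theorem isIso_ε₃_of_isKProjective [DTen.HasLTen₃ A] (P₁ P₂ P₃ : Cx A) [P₁.IsKProjective]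
    [P₂.IsKProjective] [P₃.IsKProjective] :
    IsIso ((DTen.ε₃ A).app (P₁, (P₂, P₃))) :=
  isIso_counit₃_of_isKProjective _ htpyInv₃_tensor₃ _ (DTen.ε₃ A) P₁ P₂ P₃

variable [DTen.HasLTen A] [DTen.HasLTen₃ A]

/-- S13577 -/
theorem isIso_assoc (a b c : Dual.D A) :
    IsIso ((DTen.assocL A).app (a, (b, c))) ∧ IsIso ((DTen.assocR A).app (a, (b, c))) := by
  obtain ⟨P₁, hP₁, -, hf₁, ⟨e₁⟩⟩ := exists_kproj_kflat_iso a
  obtain ⟨P₂, hP₂, -, hf₂, ⟨e₂⟩⟩ := exists_kproj_kflat_iso b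
  obtain ⟨P₃, hP₃, -, hf₃, ⟨e₃⟩⟩ := exists_kproj_kflat_iso c
  haveI := hP₁
  haveI := hP₂
  haveI := hP₃
  let e : ((DerivedCategory.Q.obj P₁, (DerivedCategory.Q.obj P₂, DerivedCategory.Q.obj P₃)) :
      Dual.D A × (Dual.D A × Dual.D A)) ≅ (a, (b, c)) :=
    Iso.prod e₁ (Iso.prod e₂ e₃)
  rw [← NatTrans.isIso_app_iff_of_iso (DTen.assocL A) e,
    ← NatTrans.isIso_app_iff_of_iso (DTen.assocR A) e]
  haveI := isIso_ε₃_of_isKProjective P₁ P₂ P₃
  constructor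
  · have hfac := DTen.assocL_fac A (P₁, (P₂, P₃))
    haveI h1 : IsIso ((DTen.ε A).app (P₁, P₂)) := isIso_ε_of_isKProjective P₁ P₂
    haveI h2 : IsIso ((DTen.ε A).app (P₁ ⊗ P₂, P₃)) := isIso_ε_of_kflat _ _ (Or.inr hf₃)
    haveI : IsIso ((DTen.βL A).app (P₁, (P₂, P₃))) := by
      dsimp [DTen.βL]
      haveI i0 : IsIso (Prod.mkHom ((DTen.ε A).app (P₁, P₂)) (𝟙 (DerivedCategory.Q.obj P₃))) := by
        rw [isIso_prod_iff]
        exact ⟨h1, inferInstance⟩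
      haveI i1 := Functor.map_isIso (DTen.LTen₂ A)
        (Prod.mkHom ((DTen.ε A).app (P₁, P₂)) (𝟙 (DerivedCategory.Q.obj P₃)))
      haveI i3 : IsIso (DerivedCategory.Q.map (α_ P₁ P₂ P₃).hom) := inferInstance
      exact IsIso.comp_isIso' i1 (IsIso.comp_isIso' h2 i3)
    have : (DTen.assocL A).app ((DTen.QQQ A).obj (P₁, (P₂, P₃))) =
        (DTen.βL A).app (P₁, (P₂, P₃)) ≫ inv ((DTen.ε₃ A).app (P₁, (P₂, P₃))) := by
      rw [← hfac, assoc, IsIso.hom_inv_id, comp_id]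
    change IsIso ((DTen.assocL A).app ((DTen.QQQ A).obj (P₁, (P₂, P₃))))
    rw [this]
    infer_instance
  · have hfac := DTen.assocR_fac A (P₁, (P₂, P₃))
    haveI h1 : IsIso ((DTen.ε A).app (P₂, P₃)) := isIso_ε_of_isKProjective P₂ P₃
    haveI h2 : IsIso ((DTen.ε A).app (P₁, P₂ ⊗ P₃)) := isIso_ε_of_kflat _ _ (Or.inl hf₁)
    haveI : IsIso ((DTen.βR A).app (P₁, (P₂, P₃))) := by
      dsimp [DTen.βR]
      haveI : IsIso (Prod.mkHom (𝟙 (DerivedCategory.Q.obj P₁)) ((DTen.ε A).app (P₂, P₃))) := by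
        rw [isIso_prod_iff]
        exact ⟨inferInstance, h1⟩
      infer_instance
    have : (DTen.assocR A).app ((DTen.QQQ A).obj (P₁, (P₂, P₃))) =
        (DTen.βR A).app (P₁, (P₂, P₃)) ≫ inv ((DTen.ε₃ A).app (P₁, (P₂, P₃))) := by
      rw [← hfac, assoc, IsIso.hom_inv_id, comp_id]
    change IsIso ((DTen.assocR A).app ((DTen.QQQ A).obj (P₁, (P₂, P₃))))
    rw [this]
    infer_instance

end Groth.Agent.H4.LK5
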