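import Mathlib
import Groth.Prelude.Def_DTen3
import Groth.Agent.H4.LK5
import Groth.Agent.H4.EV3
import Groth.Agent.H4.KI6

set_option autoImplicit false
universe u
open CategoryTheory Category Limits MonoidalCategory HomologicalComplex CochainComplex

namespace Groth.Agent.H4.KI7

open DTen DerivedCategory Groth.Agent.H4.TC4 Groth.Agent.H4.EV3

attribute [local instance] HasDerivedCategory.standard

variable {A : Type u} [CommRing A] [DTen.HasLTen A] [DTen.HasLTen₃ A]

omit [DTen.HasLTen₃ A] in
lemma isIso_unitR_app (K : Dual.D A) : IsIso ((unitR A).app K) := by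
  rw [NatTrans.isIso_app_iff_of_iso (unitR A) (Q.objObjPreimageIso K).symm]
  rw [unitR_app]
  haveI := Groth.Agent.H4.LK4.isIso_ε_of_kflat (Q.objPreimage K) (𝟙_ (Cx A)) (Or.inr kflat_unit)
  infer_instance

omit [DTen.HasLTen₃ A] in
lemma isIso_unitL_app (K : Dual.D A) : IsIso ((unitL A).app K) := by
  rw [NatTrans.isIso_app_iff_of_iso (unitL A) (Q.objObjPreimageIso K).symm]
  rw [unitL_app]
  haveI := Groth.Agent.H4.LK4.isIso_ε_of_kflat (𝟙_ (Cx A)) (Q.objPreimage K) (Or.inl kflat_unit)
  infer_instance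

/-- `D(A)` with `⊗^L` is symmetric monoidal (in the sense of the binder). -/
theorem isSymMonoidal : DTen.IsSymMonoidal A where
  isIso_symm := by
    rw [NatTrans.isIso_iff_isIso_app]
    rintro ⟨K, L⟩
    exact Groth.Agent.H4.LK4.isIso_symm_app K L
  isIso_unitL := by
    rw [NatTrans.isIso_iff_isIso_app]
    exact isIso_unitL_app
  isIso_unitR := by
    rw [NatTrans.isIso_iff_isIso_app]
    exact isIso_unitR_app
  isIso_assocL := by
    rw [NatTrans.isIso_iff_isIso_app]
    rintro ⟨a, b, c⟩
    exact (Groth.Agent.H4.LK5.isIso_assoc a b c).1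
  isIso_assocR := by
    rw [NatTrans.isIso_iff_isIso_app]
    rintro ⟨a, b, c⟩
    exact (Groth.Agent.H4.LK5.isIso_assoc a b c).2

end Groth.Agent.H4.KI7
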