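import Mathlib
import Groth.Prelude.Def_DTen3
import Groth.Agent.H4.EV7
import Groth.Agent.H4.HC6
import Groth.Agent.H4.KI7

set_option autoImplicit false
universe u
open CategoryTheory Category Limits MonoidalCategory HomologicalComplex CochainComplex

namespace Groth.Agent.H4.KI8

open DTen DerivedCategory Groth.Agent.H4.TC4 Groth.Agent.H4.EV3 Groth.Agent.H4.HC6

attribute [local instance] HasDerivedCategory.standard
attribute [local instance] Groth.Agent.H4.LK4.hasLTen Groth.Agent.H4.LK5.hasLTen₃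
  Groth.Agent.H4.KI7.isSymMonoidal Groth.Agent.H4.KI6.hasRHom

variable {A : Type u} [CommRing A]

set_option quotPrecheck false in
/-- notation for the object part of `⊗^L` -/
local notation:max "tO(" a ", " b ")" => (LTen₂ _).obj (a, b)

set_option quotPrecheck false in
/-- notation for the map part of `⊗^L` -/
local notation:max "tM(" f ", " g ")" => (LTen₂ _).map (Prod.mkHom f g)

/-- `A[0]` as `inD` and as the unit of `D(A)`. -/
noncomputable def inDUnitIso : Dual.inD A A ≅ DTen.unit A :=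
  (singleFunctorIsoCompQ (ModuleCat.{u} A) 0).app (ModuleCat.of A A)

/-- `- ⊗^L A[0] ≅ 𝟭`. -/
noncomputable def tensorRightDUnitIso : tensorRightD A (DTen.unit A) ≅ 𝟭 (Dual.D A) :=
  asIso (DTen.unitR A)

/-- `RHom(A[0], -) ≅ 𝟭`. -/
noncomputable def RHomRUnitIso : RHomR A (DTen.unit A) ≅ 𝟭 (Dual.D A) :=
  (rhomAdj A (DTen.unit A)).rightAdjointUniq
    (Adjunction.id.ofNatIsoLeft (tensorRightDUnitIso (A := A)).symm)

/-- **Biduality** for perfect objects: `K ≅ RHom(RHom(K, A), A)`. -/
theorem nonempty_bidual_iso (K : Dual.D A) (hK : DRing.IsPerfect A K) :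
    Nonempty (K ≅ (RHomR A ((RHomR A K).obj (DTen.unit A))).obj (DTen.unit A)) := by
  haveI := Groth.Agent.H4.EV7.isIso_evalHom_of_isPerfect K (DTen.unit A) (DTen.unit A) hK
  let e1 : tO(DTen.unit A, K) ≅ K := DTen.leftUnitor K
  let e2 : (RHomR A (DTen.unit A)).obj (DTen.unit A) ≅ DTen.unit A :=
    (RHomRUnitIso (A := A)).app (DTen.unit A)
  let e3 : tO((RHomR A (DTen.unit A)).obj (DTen.unit A), K) ≅ tO(DTen.unit A, K) :=
    ((LTen A).flip.obj K).mapIso e2
  exact ⟨e1.symm ≪≫ e3.symm ≪≫ asIso (evalHom K (DTen.unit A) (DTen.unit A))⟩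

end Groth.Agent.H4.KI8
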