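import Mathlib
import Groth.Prelude.Def_DTen3
import Groth.Agent.H4.CF1
import Groth.Agent.H4.HC6
import Groth.Agent.H4.KI8

/-!
# `RHom(K, -)` is exact and linear
-/

set_option autoImplicit false
universe u
open CategoryTheory Category Limits MonoidalCategory HomologicalComplex CochainComplex Pretriangulated

namespace Groth.Agent.H4.CF2

open DTen DerivedCategory Groth.Agent.H4.HC1 Groth.Agent.H4.HC2 Groth.Agent.H4.HC3
  Groth.Agent.H4.TC4 Groth.Agent.H4.HC5 Groth.Agent.H4.EV5 HomComplex Groth.Agent.H4.CF1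

attribute [local instance] HasDerivedCategory.standard

variable {A : Type u} [CommRing A]

lemma homCxMap_smul_id (P X : CochainComplex (ModuleCat.{u} A) ℤ) (a : A) :
    DRing.homCxMap P (a • 𝟙 X) = a • 𝟙 (DRing.homCx P X) := by
  refine HomologicalComplex.hom_ext _ _ fun i => ?_
  apply ModuleCat.hom_ext
  apply LinearMap.ext
  intro (z : Cochain P X i)
  change z.comp (Cochain.ofHom (a • 𝟙 X)) (add_zero i) = a • z
  have h : Cochain.ofHom (a • 𝟙 X) = a • Cochain.ofHom (𝟙 X) := by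
    refine Cochain.ext₀ _ _ (fun p => ?_)
    simp
  rw [h, Cochain.comp_smul, Cochain.comp_id]

lemma homCxMap_zero (P X Y : CochainComplex (ModuleCat.{u} A) ℤ) :
    DRing.homCxMap P (0 : X ⟶ Y) = 0 := by
  refine HomologicalComplex.hom_ext _ _ fun i => ?_
  apply ModuleCat.hom_ext
  apply LinearMap.ext
  intro (z : Cochain P X i)
  change z.comp (Cochain.ofHom (0 : X ⟶ Y)) (add_zero i) = 0
  rw [Cochain.ofHom_zero, Cochain.comp_zero]

section ses

variable (P : CochainComplex (ModuleCat.{u} A) ℤ)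
  (S : ShortComplex (CochainComplex (ModuleCat.{u} A) ℤ))
  (σ : ∀ n, (S.map (HomologicalComplex.eval _ _ n)).Splitting)

/-- the short complex `Hom•(P, X₁) ⟶ Hom•(P, X₂) ⟶ Hom•(P, X₃)` -/
noncomputable def homSC' : ShortComplex (CochainComplex (ModuleCat.{u} A) ℤ) :=
  ShortComplex.mk (DRing.homCxMap P S.f) (DRing.homCxMap P S.g) (by
    have h := (DRing.homCxFunctor P).map_comp S.f S.g
    rw [S.zero] at h
    exact h.symm.trans (homCxMap_zero P _ _))

include σ in
lemma homSC'_shortExact : (homSC' P S).ShortExact := by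
  let ρ : Cochain S.X₂ S.X₁ 0 := Cochain.ofHoms (fun n => (σ n).r)
  let τ : Cochain S.X₃ S.X₂ 0 := Cochain.ofHoms (fun n => (σ n).s)
  have h1 : (Cochain.ofHom S.f).comp ρ (add_zero 0) = Cochain.ofHom (𝟙 _) := by
    refine Cochain.ext₀ _ _ (fun p => ?_)
    simp only [Cochain.comp_zero_cochain_v, Cochain.ofHom_v, ρ]
    exact (σ p).f_r
  have h2 : τ.comp (Cochain.ofHom S.g) (add_zero 0) = Cochain.ofHom (𝟙 _) := by
    refine Cochain.ext₀ _ _ (fun p => ?_)
    simp only [Cochain.comp_zero_cochain_v, Cochain.ofHom_v, τ]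
    exact (σ p).s_g
  have h3 : ρ.comp (Cochain.ofHom S.f) (add_zero 0) + (Cochain.ofHom S.g).comp τ (add_zero 0) =
      Cochain.ofHom (𝟙 _) := by
    refine Cochain.ext₀ _ _ (fun p => ?_)
    simp only [Cochain.add_v, Cochain.comp_zero_cochain_v, Cochain.ofHom_v, ρ, τ]
    exact (σ p).id
  apply HomologicalComplex.shortExact_of_degreewise_shortExact
  intro i
  refine ShortComplex.ShortExact.mk' ?_ ?_ ?_
  · rw [ShortComplex.moduleCat_exact_iff]
    intro (z : Cochain P S.X₂ i) hz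
    have hz' : z.comp (Cochain.ofHom S.g) (add_zero i) = 0 := hz
    refine ⟨(z.comp ρ (add_zero i) : Cochain P S.X₁ i), ?_⟩
    change (z.comp ρ (add_zero i)).comp (Cochain.ofHom S.f) (add_zero i) = z
    have := congrArg (fun c => z.comp c (add_zero i)) h3
    simp only [Cochain.comp_add, Cochain.comp_id] at this
    refine Eq.trans ?_ this
    rw [← Cochain.comp_assoc_of_third_is_zero_cochain z (Cochain.ofHom S.g) τ, hz',
      Cochain.zero_comp, add_zero, Cochain.comp_assoc_of_third_is_zero_cochain]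
  · rw [ModuleCat.mono_iff_injective]
    intro (z : Cochain P S.X₁ i) (z' : Cochain P S.X₁ i) hz
    have hz' : z.comp (Cochain.ofHom S.f) (add_zero i) = z'.comp (Cochain.ofHom S.f) (add_zero i) :=
      hz
    have := congrArg (fun c => c.comp ρ (add_zero i)) hz'
    simp only [Cochain.comp_assoc_of_third_is_zero_cochain, h1, Cochain.comp_id] at this
    exact this
  · rw [ModuleCat.epi_iff_surjective]
    intro (z : Cochain P S.X₃ i)
    refine ⟨(z.comp τ (add_zero i) : Cochain P S.X₂ i), ?_⟩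
    change (z.comp τ (add_zero i)).comp (Cochain.ofHom S.g) (add_zero i) = z
    rw [Cochain.comp_assoc_of_third_is_zero_cochain, h2, Cochain.comp_id]

end ses

/-- for `f : X ⟶ Y`, the pair `Hom•(P, inr f)`, `Hom•(P, δ)` is completable in `D(A)`. -/
lemma cpl_homCxMap_cone (P : CochainComplex (ModuleCat.{u} A) ℤ)
    {X Y : CochainComplex (ModuleCat.{u} A) ℤ} (f : X ⟶ Y) :
    Cpl (Q.map (DRing.homCxMap P (mappingCone.inr f)))
      (Q.map (DRing.homCxMap P (mappingCone.triangle f).mor₃)) := by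
  have hS := homSC'_shortExact P (mappingCone.triangleRotateShortComplex f)
    (mappingCone.triangleRotateShortComplexSplitting f)
  exact ⟨_, DerivedCategory.triangleOfSES_distinguished hS⟩

/-- A functor on `D(A)` induced by a functor on complexes which sends the rotated standard
triangles to completable pairs is exact. -/
theorem cpl_of_lift_rot (F : Dual.D A ⥤ Dual.D A)
    (G : CochainComplex (ModuleCat.{u} A) ℤ ⥤ CochainComplex (ModuleCat.{u} A) ℤ)
    (e : (Q : CochainComplex (ModuleCat.{u} A) ℤ ⥤ Dual.D A) ⋙ F ≅ G ⋙ Q)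
    (hG : ∀ {X Y : CochainComplex (ModuleCat.{u} A) ℤ} (f : X ⟶ Y),
      Cpl (Q.map (G.map (mappingCone.inr f))) (Q.map (G.map (mappingCone.triangle f).mor₃)))
    (T : Triangle (Dual.D A)) (hT : T ∈ distTriang (Dual.D A)) :
    Cpl (F.map T.mor₁) (F.map T.mor₂) := by
  have hT' := inv_rot_of_distTriang _ hT
  rw [DerivedCategory.mem_distTriang_iff] at hT'
  obtain ⟨X, Y, f, ⟨iso⟩⟩ := hT'
  let iso' : T ≅ (Q.mapTriangle.obj (mappingCone.triangle f)).rotate :=
    ((triangleRotation _).counitIso.app T).symm ≪≫ (rotate _).mapIso iso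
  let a : T.obj₁ ≅ Q.obj Y := Triangle.π₁.mapIso iso'
  let b : T.obj₂ ≅ Q.obj (mappingCone f) := Triangle.π₂.mapIso iso'
  let c : T.obj₃ ≅ Q.obj (X⟦(1 : ℤ)⟧) :=
    Triangle.π₃.mapIso iso' ≪≫ ((Q.commShiftIso (1 : ℤ)).app X).symm
  have h₁ : T.mor₁ ≫ b.hom = a.hom ≫ Q.map (mappingCone.inr f) := iso'.hom.comm₁
  have h₂ : T.mor₂ ≫ c.hom = b.hom ≫ Q.map (mappingCone.triangle f).mor₃ := by
    have h := iso'.hom.comm₂
    have h' : (Q.mapTriangle.obj (mappingCone.triangle f)).rotate.mor₂ =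
      Q.map (mappingCone.triangle f).mor₃ ≫ (Q.commShiftIso (1 : ℤ)).hom.app X := rfl
    have h'' : (Q.commShiftIso (1 : ℤ)).hom.app X ≫ ((Q.commShiftIso (1 : ℤ)).app X).inv =
      𝟙 _ := Iso.hom_inv_id_app _ _
    change T.mor₂ ≫ (iso'.hom.hom₃ ≫ ((Q.commShiftIso (1 : ℤ)).app X).inv) = iso'.hom.hom₂ ≫ _
    refine (assoc _ _ _).symm.trans ?_
    refine (congrArg (· ≫ ((Q.commShiftIso (1 : ℤ)).app X).inv) h).trans ?_
    refine (assoc _ _ _).trans ?_
    refine congrArg (iso'.hom.hom₂ ≫ ·) ?_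
    exact (assoc _ _ _).trans ((congrArg (Q.map (mappingCone.triangle f).mor₃ ≫ ·) h'').trans
      (comp_id _))
  refine Cpl.of_iso (F.mapIso a ≪≫ e.app Y) (F.mapIso b ≪≫ e.app (mappingCone f))
    (F.mapIso c ≪≫ e.app (X⟦(1 : ℤ)⟧)) ?_ ?_ (hG f)
  · have h₁' : F.map T.mor₁ ≫ F.map b.hom = F.map a.hom ≫ F.map (Q.map (mappingCone.inr f)) := by
      rw [← F.map_comp, h₁, F.map_comp]
    have n₁ : F.map (Q.map (mappingCone.inr f)) ≫ e.hom.app (mappingCone f) =
        e.hom.app Y ≫ Q.map (G.map (mappingCone.inr f)) := e.hom.naturality (mappingCone.inr f)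
    change F.map T.mor₁ ≫ (F.map b.hom ≫ e.hom.app _) = (F.map a.hom ≫ e.hom.app _) ≫ _
    exact (assoc _ _ _).symm.trans ((congrArg (· ≫ e.hom.app _) h₁').trans ((assoc _ _ _).trans
      ((congrArg (F.map a.hom ≫ ·) n₁).trans (assoc _ _ _).symm)))
  · have h₂' : F.map T.mor₂ ≫ F.map c.hom =
        F.map b.hom ≫ F.map (Q.map (mappingCone.triangle f).mor₃) :=
      (F.map_comp _ _).symm.trans ((congrArg F.map h₂).trans (F.map_comp _ _))
    have n₂ : F.map (Q.map (mappingCone.triangle f).mor₃) ≫ e.hom.app (X⟦(1 : ℤ)⟧) =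
        e.hom.app (mappingCone f) ≫ Q.map (G.map (mappingCone.triangle f).mor₃) :=
      e.hom.naturality (mappingCone.triangle f).mor₃
    change F.map T.mor₂ ≫ (F.map c.hom ≫ e.hom.app _) = (F.map b.hom ≫ e.hom.app _) ≫ _
    exact (assoc _ _ _).symm.trans ((congrArg (· ≫ e.hom.app _) h₂').trans ((assoc _ _ _).trans
      ((congrArg (F.map b.hom ≫ ·) n₂).trans (assoc _ _ _).symm)))

/-- linearity of a functor on `D(A)` induced by a linear functor on complexes. -/
theorem lin_of_lift (F : Dual.D A ⥤ Dual.D A)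
    (G : CochainComplex (ModuleCat.{u} A) ℤ ⥤ CochainComplex (ModuleCat.{u} A) ℤ)
    (e : (Q : CochainComplex (ModuleCat.{u} A) ℤ ⥤ Dual.D A) ⋙ F ≅ G ⋙ Q)
    (hG : ∀ (a : A) (X : CochainComplex (ModuleCat.{u} A) ℤ), G.map (a • 𝟙 X) = a • 𝟙 (G.obj X))
    (a : A) (X : Dual.D A) : F.map (a • 𝟙 X) = a • 𝟙 (F.obj X) := by
  let X₀ := (Q : CochainComplex (ModuleCat.{u} A) ℤ ⥤ _).objPreimage X
  let i : Q.obj X₀ ≅ X := Q.objObjPreimageIso X
  have h1 : a • 𝟙 X = i.inv ≫ Q.map (a • 𝟙 X₀) ≫ i.hom := by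
    rw [Functor.map_smul, CategoryTheory.Functor.map_id, Linear.smul_comp, Linear.comp_smul,
      id_comp, Iso.inv_hom_id]
  have h2 : F.map (Q.map (a • 𝟙 X₀)) = a • 𝟙 _ := by
    have n : F.map (Q.map (a • 𝟙 X₀)) ≫ e.hom.app X₀ =
        e.hom.app X₀ ≫ Q.map (G.map (a • 𝟙 X₀)) := e.hom.naturality _
    have hQ : ∀ Z : CochainComplex (ModuleCat.{u} A) ℤ,
        (Q : CochainComplex (ModuleCat.{u} A) ℤ ⥤ Dual.D A).map (a • 𝟙 Z) = a • 𝟙 (Q.obj Z) :=
      fun Z => by rw [Functor.map_smul, CategoryTheory.Functor.map_id]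
    have n' : e.hom.app X₀ ≫ Q.map (G.map (a • 𝟙 X₀)) = a • e.hom.app X₀ := by
      rw [hG, hQ, Linear.comp_smul]
      congr 1
      exact comp_id _
    rw [← cancel_mono (e.hom.app X₀), n, n', Linear.smul_comp]
    congr 1
    exact (id_comp _).symm
  rw [h1, F.map_comp, F.map_comp, h2, Linear.smul_comp, Linear.comp_smul, id_comp,
    ← F.map_comp, Iso.inv_hom_id, CategoryTheory.Functor.map_id]

/-- `HP` is good -/
theorem good_HP (P : CochainComplex (ModuleCat.{u} A) ℤ) [P.IsKProjective] : Good (HP P) where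
  cpl T hT := cpl_of_lift_rot (HP P) (DRing.homCxFunctor P) (HPfac P)
    (fun f => cpl_homCxMap_cone P f) T hT
  lin a X := lin_of_lift (HP P) (DRing.homCxFunctor P) (HPfac P)
    (fun a X => homCxMap_smul_id P X a) a X

/-- **`RHom(K, -)` is exact and linear.** -/
theorem good_RHomCx (K : CochainComplex (ModuleCat.{u} A) ℤ) [DRing.HasRHomCx K] :
    Good (DRing.RHomCx K) := by
  obtain ⟨P, a, hP, -, -, ha⟩ := Groth.Agent.H4.TC8.exists_kproj_free_kflat K
  haveI := hP
  haveI := ha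
  haveI : DRing.HasRHomCx P := Groth.Agent.H4.KI4.hasRHomCx P
  exact Good.of_iso ((Groth.Agent.H4.KI5.RHomCxPreIso a).trans
    (Groth.Agent.H4.KI6.RHomCxIsoHP P)).symm (good_HP P)

end Groth.Agent.H4.CF2
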