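import Mathlib
import Groth.Prelude.Def_DTen3
import Groth.Agent.H4.CF2

/-!
# `RHom(K, -)` and derived completion (S7101)
-/

set_option autoImplicit false
universe u
open CategoryTheory Category Limits MonoidalCategory HomologicalComplex CochainComplex Pretriangulated

namespace Groth.Agent.H4.CF3

open DRing DTen DerivedCategory Groth.Agent.H4.CF1 Groth.Agent.H4.CF2 Groth.Agent.H4.DComp
  Groth.Agent.H4.DCompl2 Groth.Agent.H4.DCompl3

attribute [local instance] HasDerivedCategory.standard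
attribute [local instance] Groth.Agent.H4.LK4.hasLTen Groth.Agent.H4.LK5.hasLTen₃
  Groth.Agent.H4.KI7.isSymMonoidal Groth.Agent.H4.KI6.hasRHom

variable {A : Type u} [CommRing A]

/-- a left adjoint of a linear functor is linear -/
lemma lin_leftAdjoint {F G : Dual.D A ⥤ Dual.D A} (adj : F ⊣ G)
    (hG : ∀ (a : A) (Y : Dual.D A), G.map (a • 𝟙 Y) = a • 𝟙 (G.obj Y)) (a : A) (X : Dual.D A) :
    F.map (a • 𝟙 X) = a • 𝟙 (F.obj X) := by
  apply (adj.homEquiv _ _).injective
  rw [Adjunction.homEquiv_unit, Adjunction.homEquiv_unit, hG]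
  have h := adj.unit.naturality (a • 𝟙 X)
  dsimp at h
  rw [← h, Linear.smul_comp, Linear.comp_smul, id_comp]
  congr 1
  exact (comp_id _).symm

/-- `- ⊗^L L` is linear -/
lemma tensorRightD_lin (L : Dual.D A) (a : A) (X : Dual.D A) :
    (tensorRightD A L).map (a • 𝟙 X) = a • 𝟙 ((tensorRightD A L).obj X) := by
  let K := (Q : CochainComplex (ModuleCat.{u} A) ℤ ⥤ _).objPreimage L
  let i : Q.obj K ≅ L := Q.objObjPreimageIso L
  haveI : DRing.HasRHomCx K := Groth.Agent.H4.KI4.hasRHomCx K
  have adj : tensorRightD A L ⊣ DRing.RHomCx K :=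
    (Groth.Agent.H4.KI6.rhomCxAdj K).ofNatIsoLeft ((LTen A).flip.mapIso i)
  exact lin_leftAdjoint adj (good_RHomCx K).lin a X

lemma FInv_tensorRightD (L : Dual.D A) {f : A} {Y : Dual.D A} (h : FInv f Y) :
    FInv f ((tensorRightD A L).obj Y) := by
  change IsIso (f • 𝟙 _)
  rw [← tensorRightD_lin]
  haveI : IsIso (f • 𝟙 Y) := h
  infer_instance

/-- a right adjoint of `- ⊗^L L` preserves derived complete objects -/
theorem isDerivedComplete_of_adj (L : Dual.D A) {G : Dual.D A ⥤ Dual.D A}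
    (adj : tensorRightD A L ⊣ G) (I : Ideal A) (E : Dual.D A) (hE : IsDerivedComplete I E) :
    IsDerivedComplete I (G.obj E) := by
  rw [isDerivedComplete_iff_LO] at hE ⊢
  intro f hf
  apply LO_of_forall
  intro n φ
  apply (adj.homEquiv _ _).symm.injective
  rw [hom_eq_zero_of_FInv f _ E (FInv_tensorRightD L ((FInv_Fo f).shift n)) (hE f hf)
    ((adj.homEquiv _ _).symm φ)]
  exact (hom_eq_zero_of_FInv f _ E (FInv_tensorRightD L ((FInv_Fo f).shift n)) (hE f hf) _).symm

theorem isDerivedComplete_RHomCx (K : CochainComplex (ModuleCat.{u} A) ℤ) [DRing.HasRHomCx K]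
    (I : Ideal A) (E : Dual.D A) (hE : IsDerivedComplete I E) :
    IsDerivedComplete I ((DRing.RHomCx K).obj E) :=
  isDerivedComplete_of_adj (Q.obj K) (Groth.Agent.H4.KI6.rhomCxAdj K) I E hE

theorem S7101 (I : Ideal A) (hI : I.FG) [DRing.HasDerivedCompletion I]
    (K : DRing.Cx A) [DRing.HasRHomCx K] (L : Dual.D A) :
    DRing.IsDerivedComplete I ((DRing.RHomCx K).obj ((DRing.derivedCompletion I).obj L).obj) ∧
      ∀ E : Dual.D A, DRing.IsDerivedComplete I E →
        Function.Bijective (fun φ : (DRing.RHomCx K).obj ((DRing.derivedCompletion I).obj L).obj ⟶ E =>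
          (DRing.RHomCx K).map (DRing.toDerivedCompletion I L) ≫ φ) :=
  ⟨isDerivedComplete_RHomCx K I _ ((DRing.derivedCompletion I).obj L).property,
    fun E hE => (good_RHomCx K).bijective_toDerivedCompletion I hI L E hE⟩

end Groth.Agent.H4.CF3
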