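import Mathlib
import Groth.Prelude.Def_DTen3
import Groth.Agent.H4.CF3
import Groth.Agent.H4.AP2
import Groth.Agent.H4.PC1

/-!
# Derived completion and `- ⊗^L L` for `L` pseudo-coherent
-/

set_option autoImplicit false
universe u
open CategoryTheory Category Limits MonoidalCategory HomologicalComplex CochainComplex Pretriangulated

namespace Groth.Agent.H4.CF4

open DRing DTen DerivedCategory Groth.Agent.H4.CF1 Groth.Agent.H4.CF2 Groth.Agent.H4.CF3
  Groth.Agent.H4.DComp Groth.Agent.H4.DCompl2 Groth.Agent.H4.DCompl3 Groth.Agent.H4.EV2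
  Groth.Agent.H4.EV3 Groth.Agent.H4.EV5 Groth.Agent.H4.HC6 Groth.Agent.H4.DThick
  Groth.Agent.H4.TC4

attribute [local instance] HasDerivedCategory.standard
attribute [local instance] Groth.Agent.H4.LK4.hasLTen Groth.Agent.H4.LK5.hasLTen₃
  Groth.Agent.H4.KI7.isSymMonoidal Groth.Agent.H4.KI6.hasRHom

variable {A : Type u} [CommRing A]

set_option quotPrecheck false in
/-- notation for the object part of `⊗^L` -/
local notation:max "tO(" a ", " b ")" => (LTen₂ _).obj (a, b)

set_option quotPrecheck false in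
/-- notation for the map part of `⊗^L` -/
local notation:max "tM(" f ", " g ")" => (LTen₂ _).map (Prod.mkHom f g)

/-- `- ⊗^L L` is good -/
theorem good_tensorRightD (L : Dual.D A) : Good (tensorRightD A L) where
  cpl T hT := cpl_tensorRightD L T hT
  lin a X := tensorRightD_lin L a X

lemma isDerivedComplete_of_retract (I : Ideal A) {X Y : Dual.D A} (i : X ⟶ Y) (p : Y ⟶ X)
    (hip : i ≫ p = 𝟙 X) (hY : IsDerivedComplete I Y) : IsDerivedComplete I X := by
  rw [isDerivedComplete_iff_LO] at hY ⊢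
  intro f hf
  apply LO_of_forall
  intro n φ
  have h : φ = (φ ≫ i) ≫ p := by rw [assoc, hip, comp_id]
  rw [h, (hY f hf).eq_zero (φ ≫ i), zero_comp]

/-- `C ⊗^L A[n] ≅ C[n]` -/
theorem nonempty_tO_unitShift_iso (C : Dual.D A) (n : ℤ) :
    Nonempty (tO(C, (Dual.inD A A)⟦n⟧) ≅ C⟦n⟧) := by
  let X := (Q : CochainComplex (ModuleCat.{u} A) ℤ ⥤ _).objPreimage C
  let i : Q.obj X ≅ C := Q.objObjPreimageIso C
  let e1 : (Dual.inD A A)⟦n⟧ ≅ Q.obj (S A n) :=
    (CategoryTheory.shiftFunctor (Dual.D A) n).mapIso (Groth.Agent.H4.KI8.inDUnitIso (A := A)) ≪≫ unitShiftIso n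
  haveI := Groth.Agent.H4.LK4.isIso_ε_of_kflat X (S A n) (Or.inr (kflat_S n))
  let e2 : tO(Q.obj X, Q.obj (S A n)) ≅ Q.obj (X ⊗ S A n) := asIso ((ε A).app (X, S A n))
  let e3 : X ⊗ S A n ≅ X⟦n⟧ :=
    CochainComplex.mapBifunctorShift₂Iso X (𝟙_ (CochainComplex (ModuleCat.{u} A) ℤ)) (curriedTensor (ModuleCat.{u} A)) n ≪≫
      (CategoryTheory.shiftFunctor (CochainComplex (ModuleCat.{u} A) ℤ) n).mapIso (ρ_ X)
  exact ⟨(LTen₂ A).mapIso (Iso.prod i.symm e1) ≪≫ e2 ≪≫ Q.mapIso e3 ≪≫
    (Q.commShiftIso n).app X ≪≫ (CategoryTheory.shiftFunctor (Dual.D A) n).mapIso i⟩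

/-- `C ⊗^L E` is derived complete for `C` derived complete and `E` perfect. -/
theorem isDerivedComplete_tO_of_isPerfect (I : Ideal A) (C : Dual.D A)
    (hC : IsDerivedComplete I C) (E : Dual.D A) (hE : IsPerfect A E) :
    IsDerivedComplete I tO(C, E) := by
  have hTS := isTriSub_isDerivedComplete I
  let P : Dual.D A → Prop := fun X => ∀ n : ℤ, IsDerivedComplete I tO(C, X⟦n⟧)
  have hP : ThickPred P :=
    { iso := fun {X Y} e hX n =>
        hTS.iso (((LTen A).obj C).mapIso ((CategoryTheory.shiftFunctor (Dual.D A) n).mapIso e)) (hX n)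
      shift := fun X m hX n =>
        hTS.iso (((LTen A).obj C).mapIso ((CategoryTheory.shiftFunctorAdd' (Dual.D A) m n _ rfl).app X))
          (hX (m + n))
      ext₂ := fun T hT hX hZ n => by
        have hTn := Triangle.shift_distinguished T hT n
        obtain ⟨w, hw⟩ := cpl_LTen_obj C _ hTn
        exact hTS.ext₂ _ hw (hX n) (hZ n)
      retract := fun {X Y} i p hip hY n => by
        refine isDerivedComplete_of_retract I (((LTen A).obj C).map (i⟦n⟧'))
          (((LTen A).obj C).map (p⟦n⟧')) ?_ (hY n)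
        rw [← Functor.map_comp, ← Functor.map_comp, hip, CategoryTheory.Functor.map_id,
          CategoryTheory.Functor.map_id]
        rfl }
  have h1 : P (Dual.inD A A) := fun n => by
    obtain ⟨e⟩ := nonempty_tO_unitShift_iso C n
    exact hTS.iso e.symm (hTS.shift C n hC)
  have := hP.of_isPerfect h1 hE 0
  exact hTS.iso (((LTen A).obj C).mapIso ((CategoryTheory.shiftFunctorZero (Dual.D A) ℤ).app E)) this

/-- `C ⊗^L L` is derived complete for `C` bounded above, derived complete, and `L` pseudo-coherent. -/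
theorem isDerivedComplete_tO_of_isPC (I : Ideal A) (C : Dual.D A) (b : ℤ) [C.IsLE b]
    (hC : IsDerivedComplete I C) (L : Dual.D A) (hL : ∀ m : ℤ, IsPseudoCoherent A m L) :
    IsDerivedComplete I tO(C, L) := by
  rw [isDerivedComplete_iff_LO]
  intro f hf
  apply LO_of_forall
  intro n φ
  obtain ⟨E, ⟨a', b', hE1, hE2⟩, α, hα⟩ := (Groth.Agent.H4.PC.isPC_iff (-n - 1 - b) L).1 (hL _)
  obtain ⟨Z, β, γ, hT⟩ := distinguished_cocone_triangle α
  haveI hZ : Z.IsLE (-n - 1 - b - 1) := (Groth.Agent.H4.PC.isWit_iff_isLE _ hT _).1 hα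
  obtain ⟨w, hw⟩ := cpl_LTen_obj C _ hT
  haveI : tO(C, Z).IsLE (b + (-n - 1 - b - 1)) := Groth.Agent.H4.AP2.isLE_tO C Z b (-n - 1 - b - 1)
  have h0 : φ ≫ ((LTen A).obj C).map β = 0 :=
    hom_Fo_shift_eq_zero_of_isLE f n (b + (-n - 1 - b - 1)) (by omega) tO(C, Z) _
  obtain ⟨ψ, hψ⟩ : ∃ ψ : (Fo f)⟦n⟧ ⟶ tO(C, toD E), φ = ψ ≫ ((LTen A).obj C).map α :=
    Triangle.coyoneda_exact₂ _ hw φ h0
  have hperf : IsPerfect A (toD E) :=
    ⟨E, a', b', hE1, fun i => ⟨(hE2 i).1, haveI := (hE2 i).2; inferInstance⟩, ⟨Iso.refl _⟩⟩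
  have hc := isDerivedComplete_tO_of_isPerfect I C hC (toD E) hperf
  rw [hψ, ((isDerivedComplete_iff_LO I _).1 hc f hf).eq_zero ψ, zero_comp]

/-- **Derived completion commutes with `- ⊗^L L`** for `L` pseudo-coherent, on bounded above
objects. -/
theorem completion_tensorRightD (I : Ideal A) (hI : I.FG) [DRing.HasDerivedCompletion I]
    (L : Dual.D A) (hL : ∀ m : ℤ, IsPseudoCoherent A m L) (K : Dual.D A) (b : ℤ) [K.IsLE b] :
    DRing.IsDerivedComplete I ((tensorRightD A L).obj ((DRing.derivedCompletion I).obj K).obj) ∧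
      ∀ E : Dual.D A, DRing.IsDerivedComplete I E →
        Function.Bijective (fun φ : (tensorRightD A L).obj ((DRing.derivedCompletion I).obj K).obj ⟶ E =>
          (tensorRightD A L).map (DRing.toDerivedCompletion I K) ≫ φ) := by
  refine ⟨?_, fun E hE => (good_tensorRightD L).bijective_toDerivedCompletion I hI K E hE⟩
  obtain ⟨s, hs⟩ := hI
  haveI : (((DRing.derivedCompletion I).obj K).obj).IsLE b :=
    Groth.Agent.H4.DCompl6.isLE_completion I s hs K b inferInstance
  exact isDerivedComplete_tO_of_isPC I _ b ((DRing.derivedCompletion I).obj K).property L hL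

end Groth.Agent.H4.CF4
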