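import Mathlib
import Groth.Prelude.Def_DRing2
import Groth.Agent.H4.AP2
import Groth.Agent.H4.DCompl1
import Groth.Agent.H4.EV2
import Groth.Agent.H4.DRing2
import Groth.Agent.H4.PC6

/-!
# Finiteness of `Hom(K, L)` for `K`, `L` with finite cohomology, `L` of finite injective dimension
-/

set_option autoImplicit false
universe u
open CategoryTheory Category Limits Pretriangulated

namespace Groth.Agent.H4.DZ1

attribute [local instance] HasDerivedCategory.standard

open DRing DerivedCategory Groth.Agent.H4.DThick Groth.Agent.H4.EV2 Groth.Agent.H4.DRing1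
  Groth.Agent.H4.ProjAmp Groth.Agent.H4.DCompl1

variable {A : Type u} [CommRing A]

section alg

variable [IsNoetherianRing A]

/-- the middle term of an exact sequence with finite outer terms is finite -/
lemma finite_of_exact {X Y Z : Type*} [AddCommGroup X] [AddCommGroup Y] [AddCommGroup Z]
    [Module A X] [Module A Y] [Module A Z] (f : X →ₗ[A] Y) (g : Y →ₗ[A] Z)
    (hex : ∀ y, g y = 0 → ∃ x, f x = y) [Module.Finite A X] [Module.Finite A Z] :
    Module.Finite A Y := by
  haveI : IsNoetherian A Z := isNoetherian_of_isNoetherianRing_of_finite A Z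
  haveI : IsNoetherian A X := isNoetherian_of_isNoetherianRing_of_finite A X
  constructor
  refine Submodule.fg_of_fg_map_of_fg_inf_ker g (IsNoetherian.noetherian _) ?_
  rw [top_inf_eq]
  have h : LinearMap.ker g = Submodule.map f (Submodule.comap f (LinearMap.ker g)) := by
    rw [Submodule.map_comap_eq_of_le]
    intro y hy
    obtain ⟨x, rfl⟩ := hex y hy
    exact ⟨x, rfl⟩
  rw [h]
  exact (IsNoetherian.noetherian _).map f

end alg

section tri

variable [IsNoetherianRing A]

lemma finite_hom_of_triangle (T : Triangle (Dual.D A)) (hT : T ∈ distTriang (Dual.D A))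
    (W : Dual.D A) (h1 : Module.Finite A (T.obj₁ ⟶ W)) (h3 : Module.Finite A (T.obj₃ ⟶ W)) :
    Module.Finite A (T.obj₂ ⟶ W) := by
  refine finite_of_exact (Linear.leftComp A W T.mor₂) (Linear.leftComp A W T.mor₁) ?_
  intro y hy
  obtain ⟨x, hx⟩ := Triangle.yoneda_exact₂ T hT y hy
  exact ⟨x, hx.symm⟩

omit [IsNoetherianRing A] in
lemma finite_hom_of_iso {X Y : Dual.D A} (e : X ≅ Y) (W : Dual.D A)
    (h : Module.Finite A (X ⟶ W)) : Module.Finite A (Y ⟶ W) := by
  refine Module.Finite.of_surjective (Linear.leftComp A W e.inv) ?_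
  intro ψ
  exact ⟨e.hom ≫ ψ, by simp [Linear.leftComp]⟩

omit [IsNoetherianRing A] in
lemma finite_hom_of_iso_right {X W W' : Dual.D A} (e : W ≅ W')
    (h : Module.Finite A (X ⟶ W)) : Module.Finite A (X ⟶ W') := by
  refine Module.Finite.of_surjective (Linear.rightComp A X e.hom) ?_
  intro ψ
  exact ⟨ψ ≫ e.inv, by simp [Linear.rightComp]⟩

omit [IsNoetherianRing A] in
lemma finite_hom_of_isZero {X : Dual.D A} (hX : IsZero X) (W : Dual.D A) :
    Module.Finite A (X ⟶ W) := by
  haveI : Subsingleton (X ⟶ W) := ⟨fun f g => hX.eq_of_src f g⟩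
  infer_instance

/-- the predicate: all `Hom(K[n], L)` are finite modules -/
def FH (L K : Dual.D A) : Prop := ∀ n : ℤ, Module.Finite A (K⟦n⟧ ⟶ L)

lemma FH.iso {L K K' : Dual.D A} (e : K ≅ K') (h : FH L K) : FH L K' := fun n =>
  finite_hom_of_iso ((shiftFunctor (Dual.D A) n).mapIso e) L (h n)

lemma FH.shift {L K : Dual.D A} (h : FH L K) (m : ℤ) : FH L (K⟦m⟧) := fun n =>
  finite_hom_of_iso ((shiftFunctorAdd' (Dual.D A) m n _ rfl).app K) L (h (m + n))

lemma FH.ext₂ {L : Dual.D A} (T : Triangle (Dual.D A)) (hT : T ∈ distTriang (Dual.D A))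
    (h1 : FH L T.obj₁) (h3 : FH L T.obj₃) : FH L T.obj₂ := fun n =>
  finite_hom_of_triangle _ (Triangle.shift_distinguished T hT n) L (h1 n) (h3 n)

omit [IsNoetherianRing A] in
lemma FH.retract {L X Y : Dual.D A} (i : X ⟶ Y) (p : Y ⟶ X) (hip : i ≫ p = 𝟙 X) (h : FH L Y) :
    FH L X := fun n => by
  haveI := h n
  refine Module.Finite.of_surjective (Linear.leftComp A L (i⟦n⟧')) ?_
  intro ψ
  refine ⟨p⟦n⟧' ≫ ψ, ?_⟩
  change i⟦n⟧' ≫ p⟦n⟧' ≫ ψ = ψ
  rw [← assoc, ← Functor.map_comp, hip, CategoryTheory.Functor.map_id, id_comp]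

lemma thickPred_FH (L : Dual.D A) : ThickPred (FH L) where
  iso e h := h.iso e
  shift _ m h := h.shift m
  ext₂ T hT h1 h3 := FH.ext₂ T hT h1 h3
  retract i p hip h := FH.retract i p hip h

lemma isTriSub_FH (L : Dual.D A) : IsTriSub (FH L) where
  iso e h := h.iso e
  zero K hK := fun n => finite_hom_of_isZero ((shiftFunctor (Dual.D A) n).map_isZero hK) L
  shift _ m h := h.shift m
  ext₂ T hT h1 h3 := FH.ext₂ T hT h1 h3

/-- `L` has finite cohomology -/
lemma FH_unit (L : Dual.D A) (hL : ∀ i : ℤ, Module.Finite A (Dual.HD A L i)) :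
    FH L (Dual.inD A A) := fun n => by
  obtain ⟨e⟩ := nonempty_homG_equiv (-n) L
  haveI := hL (-n)
  haveI : Module.Finite A (G A (-n) ⟶ L) := Module.Finite.equiv e.symm
  exact finite_hom_of_iso
    (((singleFunctors (ModuleCat.{u} A)).shiftIso n (-n) 0 (by simp)).app (ModuleCat.of A A)).symm L
    inferInstance

/-- the module case, by dimension shifting -/
theorem FH_module_aux (L : Dual.D A) (hL : ∀ i : ℤ, Module.Finite A (Dual.HD A L i)) (a : ℤ)
    [L.IsGE a] : ∀ (k : ℕ) (n : ℤ), -a + 1 - k ≤ n → ∀ (M : Type u) [AddCommGroup M] [Module A M]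
      [Module.Finite A M], Module.Finite A ((Dual.inD A M)⟦n⟧ ⟶ L) := by
  intro k
  induction k with
  | zero =>
    intro n hn M _ _ _
    haveI : Subsingleton ((Dual.inD A M)⟦n⟧ ⟶ L) := by
      haveI : ((Dual.inD A M)⟦n⟧).IsLE (-n) := (tR A).isLE_shift (Dual.inD A M) 0 n (-n) (by omega)
      exact ⟨fun f g => ((tR A).zero f (-n) a (by omega)).trans
        ((tR A).zero g (-n) a (by omega)).symm⟩
    infer_instance
  | succ k ih =>
    intro n hn M _ _ _
    obtain ⟨r, p, hp⟩ := Module.Finite.exists_fin' A M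
    let F : ModuleCat.{u} A := ModuleCat.of A (Fin r → A)
    let p' : F ⟶ ModuleCat.of A M := ModuleCat.ofHom p
    let S := Groth.Agent.H4.PC.kerSC p'
    have hS : S.ShortExact := Groth.Agent.H4.PC.kerSC_shortExact p' hp
    have hT := hS.singleTriangle_distinguished
    have hT' := Triangle.shift_distinguished _ (rot_of_distTriang _ hT) n
    refine finite_hom_of_triangle _ hT' L ?_ ?_
    · exact (thickPred_FH L).finFree (FH_unit L hL) r n
    · haveI : Module.Finite A (LinearMap.ker p) := inferInstance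
      have h1 := ih (1 + n) (by push_cast at hn ⊢; omega) (LinearMap.ker p)
      exact finite_hom_of_iso ((shiftFunctorAdd' (Dual.D A) 1 n _ rfl).app
        (Dual.inD A (LinearMap.ker p))) L h1

theorem FH_module (L : Dual.D A) (hL : ∀ i : ℤ, Module.Finite A (Dual.HD A L i)) (a : ℤ)
    [L.IsGE a] (M : Type u) [AddCommGroup M] [Module A M] [Module.Finite A M] :
    FH L (Dual.inD A M) := fun n =>
  FH_module_aux L hL a (-a + 1 - n).toNat n (by
    have := Int.self_le_toNat (-a + 1 - n)
    omega) M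

/-- **S1746, unshifted form.** -/
theorem finite_hom (K L : Dual.D A) (hK : ∀ i : ℤ, Module.Finite A (Dual.HD A K i))
    (hL : ∀ i : ℤ, Module.Finite A (Dual.HD A L i)) (hLi : HasFiniteInjDim A L) :
    Module.Finite A (K ⟶ L) := by
  obtain ⟨a, b, hab⟩ := hLi
  obtain ⟨E, hE, hEi, ⟨e⟩⟩ := id hab
  haveI : L.IsGE a := by
    haveI : (toD E).IsGE a := by
      rw [isGE_iff]
      intro i hi
      exact Groth.Agent.H4.PC.isZero_homology_toD_of_isZero E i (hE i (Or.inl hi))
    exact (tR A).isGE_of_iso e a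
  -- truncate above
  let T := ((tR A).triangleLTGE (b + 1)).obj K
  have hT : T ∈ distinguishedTriangles := (tR A).triangleLTGE_distinguished (b + 1) K
  haveI : T.obj₁.IsLE (b + 1 - 1) := inferInstanceAs ((tR A).IsLE T.obj₁ (b + 1 - 1))
  haveI : T.obj₃.IsGE (b + 1) := inferInstanceAs ((tR A).IsGE T.obj₃ (b + 1))
  refine finite_hom_of_triangle T hT L ?_ ?_
  swap
  · haveI : Subsingleton (T.obj₃ ⟶ L) :=
      ⟨fun f g => (Groth.Agent.H4.AP2.hom_eq_zero_of_isGE_of_injAmp _ L (b + 1) a b hab (by omega) f).trans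
        (Groth.Agent.H4.AP2.hom_eq_zero_of_isGE_of_injAmp _ L (b + 1) a b hab (by omega) g).symm⟩
    infer_instance
  -- truncate below
  let K₁ := T.obj₁
  have hK₁ : ∀ i : ℤ, Module.Finite A (Dual.HD A K₁ i) := by
    intro i
    by_cases hi : i < b + 1
    · haveI := isIso_homology_mor₁ T hT (b + 1) i hi
      haveI : Module.Finite A ((homologyFunctor (ModuleCat.{u} A) i).obj T.obj₂) := hK i
      exact Module.Finite.equiv
        (asIso ((homologyFunctor (ModuleCat.{u} A) i).map T.mor₁)).symm.toLinearEquiv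
    · haveI : Subsingleton (Dual.HD A K₁ i) :=
        ModuleCat.subsingleton_of_isZero (isZero_of_isLE K₁ (b + 1 - 1) i (by omega))
      infer_instance
  let T' := ((tR A).triangleLTGE a).obj K₁
  have hT' : T' ∈ distinguishedTriangles := (tR A).triangleLTGE_distinguished a K₁
  haveI : T'.obj₁.IsLE (a - 1) := inferInstanceAs ((tR A).IsLE T'.obj₁ (a - 1))
  haveI : T'.obj₃.IsGE a := inferInstanceAs ((tR A).IsGE T'.obj₃ a)
  refine finite_hom_of_triangle T' hT' L ?_ ?_
  · haveI : Subsingleton (T'.obj₁ ⟶ L) :=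
      ⟨fun f g => ((tR A).zero f (a - 1) a (by omega)).trans ((tR A).zero g (a - 1) a (by omega)).symm⟩
    infer_instance
  -- the bounded case
  let K₂ := T'.obj₃
  have hK₂ : ∀ i : ℤ, Module.Finite A (Dual.HD A K₂ i) := by
    intro i
    by_cases hi : a ≤ i
    · haveI := isIso_homology_mor₂ T' hT' a i hi
      haveI : Module.Finite A ((homologyFunctor (ModuleCat.{u} A) i).obj T'.obj₂) := hK₁ i
      exact Module.Finite.equiv
        (asIso ((homologyFunctor (ModuleCat.{u} A) i).map T'.mor₂)).toLinearEquiv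
    · haveI : Subsingleton (Dual.HD A K₂ i) :=
        ModuleCat.subsingleton_of_isZero (isZero_of_isGE K₂ a i (by omega))
      infer_instance
  haveI : K₂.IsLE b := by
    rw [isLE_iff]
    intro i hi
    by_cases hia : a ≤ i
    · haveI := isIso_homology_mor₂ T' hT' a i hia
      exact (isZero_of_isLE K₁ (b + 1 - 1) i (by omega)).of_iso
        (asIso ((homologyFunctor (ModuleCat.{u} A) i).map T'.mor₂)).symm
    · exact isZero_of_isGE K₂ a i (by omega)
  have hFH : FH L K₂ := by
    refine (isTriSub_FH L).of_bounded_homology K₂ ⟨a, b, fun i hi => ?_⟩ (fun i => ?_)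
    · rcases hi with hi | hi
      · exact ModuleCat.subsingleton_of_isZero (isZero_of_isGE K₂ a i hi)
      · exact ModuleCat.subsingleton_of_isZero (isZero_of_isLE K₂ b i hi)
    · haveI := hK₂ i
      exact FH_module L hL a (Dual.HD A K₂ i)
  exact finite_hom_of_iso ((shiftFunctorZero (Dual.D A) ℤ).app K₂) L (hFH 0)

omit [IsNoetherianRing A] in
lemma finite_HD_shift (L : Dual.D A) (hL : ∀ i : ℤ, Module.Finite A (Dual.HD A L i)) (n : ℤ)
    (i : ℤ) : Module.Finite A (Dual.HD A (L⟦n⟧) i) := by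
  haveI : Module.Finite A (((homologyFunctor (ModuleCat.{u} A) 0).shift (n + i)).obj L) :=
    hL (n + i)
  exact Module.Finite.equiv (((homologyFunctor (ModuleCat.{u} A) 0).shiftIso n i (n + i)
    rfl).app L).symm.toLinearEquiv

theorem S1746 (K L : Dual.D A) (hK : ∀ i : ℤ, Module.Finite A (Dual.HD A K i))
    (hL : ∀ i : ℤ, Module.Finite A (Dual.HD A L i)) (hLi : DRing.HasFiniteInjDim A L) (i : ℤ) :
    Module.Finite A (K ⟶ L⟦i⟧) :=
  finite_hom K (L⟦i⟧) hK (finite_HD_shift L hL i) (hasFiniteInjDim_shift L i hLi)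

end tri

end Groth.Agent.H4.DZ1
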