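import Mathlib
import Groth.Prelude.Def_DTen3
import Groth.Agent.H4.CF4
import Groth.Agent.H4.DZ1

/-!
# `H^i(RHom(X, Y)) ≃ₗ Hom(X, Y[i])`
-/

set_option autoImplicit false
universe u
open CategoryTheory Category Limits Pretriangulated

namespace Groth.Agent.H4.DZ2

attribute [local instance] HasDerivedCategory.standard
attribute [local instance] Groth.Agent.H4.LK4.hasLTen Groth.Agent.H4.LK5.hasLTen₃
  Groth.Agent.H4.KI7.isSymMonoidal Groth.Agent.H4.KI6.hasRHom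

open DRing DTen DerivedCategory Groth.Agent.H4.DThick Groth.Agent.H4.DCompl1 Groth.Agent.H4.CF1
  Groth.Agent.H4.InjAmp

variable {A : Type u} [CommRing A]

set_option quotPrecheck false in
/-- notation for the object part of `⊗^L` -/
local notation:max "tO(" a ", " b ")" => (LTen₂ _).obj (a, b)

/-- precomposition with an isomorphism, as a linear equivalence -/
noncomputable def isoHomLinEquiv {X X' : Dual.D A} (e : X ≅ X') (Y : Dual.D A) :
    (X ⟶ Y) ≃ₗ[A] (X' ⟶ Y) :=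
  LinearEquiv.ofBijective (Linear.leftComp A Y e.inv) (by
    constructor
    · intro f g h
      have h' : e.inv ≫ f = e.inv ≫ g := h
      exact (cancel_epi e.inv).1 h'
    · intro g
      exact ⟨e.hom ≫ g, by simp [Linear.leftComp]⟩)

/-- postcomposition with an isomorphism, as a linear equivalence -/
noncomputable def homIsoLinEquiv (X : Dual.D A) {Y Y' : Dual.D A} (e : Y ≅ Y') :
    (X ⟶ Y) ≃ₗ[A] (X ⟶ Y') :=
  LinearEquiv.ofBijective (Linear.rightComp A X e.hom) (by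
    constructor
    · intro f g h
      have h' : f ≫ e.hom = g ≫ e.hom := h
      exact (cancel_mono e.hom).1 h'
    · intro g
      exact ⟨g ≫ e.inv, by simp [Linear.rightComp]⟩)

/-- the hom equivalence of an adjunction whose right adjoint is additive and linear, as a linear
equivalence -/
noncomputable def homLinEquiv {L R : Dual.D A ⥤ Dual.D A} (adj : L ⊣ R) [R.Additive]
    (hlin : ∀ (a : A) (Y : Dual.D A), R.map (a • 𝟙 Y) = a • 𝟙 (R.obj Y)) (X Y : Dual.D A) :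
    (L.obj X ⟶ Y) ≃ₗ[A] (X ⟶ R.obj Y) where
  toFun := adj.homEquiv X Y
  invFun := (adj.homEquiv X Y).symm
  left_inv := (adj.homEquiv X Y).left_inv
  right_inv := (adj.homEquiv X Y).right_inv
  map_add' f g := by
    rw [Adjunction.homEquiv_unit, Adjunction.homEquiv_unit, Adjunction.homEquiv_unit,
      R.map_add, Preadditive.comp_add]
  map_smul' a f := by
    rw [Adjunction.homEquiv_unit, Adjunction.homEquiv_unit, RingHom.id_apply]
    have h : a • f = f ≫ (a • 𝟙 Y) := by rw [Linear.comp_smul, comp_id]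
    rw [h, R.map_comp, hlin, Linear.comp_smul, Linear.comp_smul, comp_id]

/-- `RHom(X, -)` is additive -/
instance additive_RHomR (X : Dual.D A) : (RHomR A X).Additive :=
  haveI : (RHomR A X).IsRightAdjoint := ⟨_, ⟨rhomAdj A X⟩⟩
  Functor.additive_of_preserves_binary_products _

/-- `RHom(X, -)` is good -/
theorem good_RHomR (X : Dual.D A) : Good (RHomR A X) := by
  let K := (Q : CochainComplex (ModuleCat.{u} A) ℤ ⥤ _).objPreimage X
  let i : Q.obj K ≅ X := Q.objObjPreimageIso X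
  haveI : DRing.HasRHomCx K := Groth.Agent.H4.KI4.hasRHomCx K
  exact Good.of_iso (Groth.Agent.H4.KI6.rhomCxIsoRHomR K ≪≫ ((RHom A).mapIso i.symm.op))
    (Groth.Agent.H4.CF2.good_RHomCx K)

/-- the shift adjunction on Hom groups, as a linear equivalence -/
noncomputable def shiftHomLinEquiv (X Y : Dual.D A) (m n : ℤ) (h : m + n = 0) :
    (X⟦m⟧ ⟶ Y) ≃ₗ[A] (X ⟶ Y⟦n⟧) :=
  haveI : (shiftEquiv' (Dual.D A) m n h).inverse.Additive :=
    inferInstanceAs ((shiftFunctor (Dual.D A) n).Additive)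
  homLinEquiv (shiftEquiv' (Dual.D A) m n h).toAdjunction
    (fun a Y => by
      change (shiftFunctor (Dual.D A) n).map (a • 𝟙 Y) = _
      rw [Functor.map_smul, CategoryTheory.Functor.map_id]
      rfl) X Y

/-- `A[n] ⊗^L X ≅ X[n]` -/
theorem nonempty_tO_unitShift_left_iso (X : Dual.D A) (n : ℤ) :
    Nonempty (tO((Dual.inD A A)⟦n⟧, X) ≅ X⟦n⟧) := by
  haveI := Groth.Agent.H4.LK4.isIso_symm_app X ((Dual.inD A A)⟦n⟧)
  obtain ⟨e⟩ := Groth.Agent.H4.CF4.nonempty_tO_unitShift_iso X n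
  exact ⟨asIso ((DTen.symm A).app (X, (Dual.inD A A)⟦n⟧)) ≪≫ e⟩

/-- **`H^i(RHom(X, Y)) ≃ₗ Hom(X, Y[i])`.** -/
theorem nonempty_extLinEquiv (X Y : Dual.D A) (i : ℤ) :
    Nonempty (Dual.HD A ((RHomR A X).obj Y) i ≃ₗ[A] (X ⟶ Y⟦i⟧)) := by
  obtain ⟨e1⟩ := nonempty_homG_equiv i ((RHomR A X).obj Y)
  let e2 : (G A i ⟶ (RHomR A X).obj Y) ≃ₗ[A] ((Dual.inD A A)⟦-i⟧ ⟶ (RHomR A X).obj Y) :=
    isoHomLinEquiv (((singleFunctors (ModuleCat.{u} A)).shiftIso (-i) i 0 (by simp)).app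
      (ModuleCat.of A A)).symm _
  let e3 : ((tensorRightD A X).obj ((Dual.inD A A)⟦-i⟧) ⟶ Y) ≃ₗ[A]
      ((Dual.inD A A)⟦-i⟧ ⟶ (RHomR A X).obj Y) :=
    homLinEquiv (rhomAdj A X) (good_RHomR X).lin _ _
  obtain ⟨e4'⟩ := nonempty_tO_unitShift_left_iso X (-i)
  let e4 : ((tensorRightD A X).obj ((Dual.inD A A)⟦-i⟧) ⟶ Y) ≃ₗ[A] (X⟦-i⟧ ⟶ Y) :=
    isoHomLinEquiv e4' Y
  let e5 : (X⟦-i⟧ ⟶ Y) ≃ₗ[A] (X ⟶ Y⟦i⟧) := shiftHomLinEquiv X Y (-i) i (by simp)
  exact ⟨e1.symm ≪≫ₗ e2 ≪≫ₗ e3.symm ≪≫ₗ e4 ≪≫ₗ e5⟩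

end Groth.Agent.H4.DZ2
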