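import Mathlib
import Groth.Agent.H4.PC6
set_option autoImplicit false
universe u
open CategoryTheory CategoryTheory.Limits CategoryTheory.Pretriangulated

namespace Groth.Agent.H4.PC

attribute [local instance] HasDerivedCategory.standard

variable {R : Type u} [CommRing R]

open DRing DerivedCategory ZeroObject Groth.Agent.H4.SubCx Groth.Agent.H4.DRing1

lemma isPC_of_isWit {m : ℤ} {X Y : Dual.D R} (α : X ⟶ Y) (hα : IsWit m α)
    (hX : IsPseudoCoherent R m X) : IsPseudoCoherent R m Y := by
  rw [isPC_iff] at hX ⊢
  obtain ⟨E, hE, β, hβ⟩ := hX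
  exact ⟨E, hE, β ≫ α, hβ.comp hα⟩

/-- brutal truncation of a bounded above complex of finite free modules. -/
lemma isBFF_sigmaGE_of_vanishesAbove (E : Cx R) (b : ℤ) (hb : VanishesAbove E b)
    (hE : TermwiseFiniteFree E) (n : ℤ) : IsBFF (sigmaGE E n) := by
  refine ⟨n, b, fun i hi => ?_, fun i => ?_⟩
  · rcases hi with hi | hi
    · exact sigmaGE_isZero E n i hi
    · exact sigmaGE_isZero' E n i (hb i hi)
  · by_cases hi : n ≤ i
    · haveI := (hE i).1
      haveI := (hE i).2
      exact ⟨Module.Finite.equiv (sigmaGEEquiv E n i hi).symm,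
        Module.Free.of_equiv (sigmaGEEquiv E n i hi).symm⟩
    · haveI := ModuleCat.subsingleton_of_isZero (sigmaGE_isZero E n i (by omega))
      exact ⟨inferInstance, inferInstance⟩

/-- **Stacks 064U, (2) ⇒ (1).** -/
theorem isPC_of_isPC' (K : Dual.D R) (h : IsPseudoCoherent' R K) (m : ℤ) :
    IsPseudoCoherent R m K := by
  obtain ⟨E, b, hb, hE, ⟨e⟩⟩ := h
  rw [isPC_iff]
  exact ⟨sigmaGE E m, isBFF_sigmaGE_of_vanishesAbove E b hb hE m,
    Q.map (sigmaGEι E m) ≫ e.hom, (isWit_sigmaGEι E m).comp (IsWit.of_isIso e.hom)⟩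

/-- finite projective modules are `j`-pseudo-coherent for all `j`. -/
lemma isPC_single_of_finProj_aux (k : ℕ) : ∀ (P : ModuleCat.{u} R), finProj P →
    IsPseudoCoherent R (-(k : ℤ)) ((singleFunctor (ModuleCat.{u} R) 0).obj P) := by
  induction k with
  | zero =>
    intro P hP
    haveI := hP.1
    simpa using isPC_single_of_finite 0 P
  | succ k ih =>
    intro P hP
    haveI := hP.1
    haveI := hP.2
    obtain ⟨r, p, hp⟩ := Module.Finite.exists_fin' R P
    let F : ModuleCat.{u} R := ModuleCat.of R (Fin r → R)
    let p' : F ⟶ P := ModuleCat.ofHom p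
    haveI : Epi p' := (ModuleCat.epi_iff_surjective p').2 hp
    have hF : finProj F := ⟨inferInstance, inferInstance⟩
    have hker : finProj (kerSC p').X₁ :=
      (finProj.prop_iff_of_iso (ModuleCat.kernelIsoKer p')).1 (finProj_kernel F P p' inferInstance hF hP)
    have h1 := ih _ hker
    have h2 : IsPseudoCoherent R (-((k + 1 : ℕ) : ℤ)) ((singleFunctor (ModuleCat.{u} R) 0).obj F) :=
      isPC_single_of_finite_free _ 0 F
    refine isPC_X₃_of_shortExact (kerSC p') (kerSC_shortExact p' hp) _ ?_ h2
    rw [show -((k + 1 : ℕ) : ℤ) + 1 = -(k : ℤ) by push_cast; ring]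
    exact h1

lemma isPC_single_of_finProj (j n : ℤ) (P : ModuleCat.{u} R) (hP : finProj P) :
    IsPseudoCoherent R j ((singleFunctor (ModuleCat.{u} R) n).obj P) := by
  have h0 : ∀ j : ℤ, IsPseudoCoherent R j ((singleFunctor (ModuleCat.{u} R) 0).obj P) := by
    intro j
    refine isPC_mono (m := -((-j).toNat : ℤ)) ?_ (isPC_single_of_finProj_aux _ P hP)
    have := Int.self_le_toNat (-j)
    omega
  have := (isPC_single_iff (j - n) n P).2 (h0 _)
  rwa [show j - n + n = j by omega] at this

lemma isPC_toD_of_concentrated (m : ℤ) (E : Cx R) (a : ℤ) (hE : ∀ i, i ≠ a → IsZero (E.X i))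
    (h : IsPseudoCoherent R (m - a) ((singleFunctor (ModuleCat.{u} R) 0).obj (E.X a))) :
    IsPseudoCoherent R m (toD E) := by
  haveI : E.IsStrictlyGE a := by
    rw [CochainComplex.isStrictlyGE_iff]
    intro i hi
    exact hE i (by omega)
  haveI : E.IsStrictlyLE a := by
    rw [CochainComplex.isStrictlyLE_iff]
    intro i hi
    exact hE i (by omega)
  obtain ⟨M, ⟨e⟩⟩ := CochainComplex.exists_iso_single E a
  have eM : E.X a ≅ M := (HomologicalComplex.eval _ _ a).mapIso e ≪≫
    HomologicalComplex.singleObjXSelf (ComplexShape.up ℤ) a M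
  have h1 : IsPseudoCoherent R m ((singleFunctor (ModuleCat.{u} R) a).obj M) := by
    have := (isPC_single_iff (m - a) a M).2 (isPC_single_of_iso eM h)
    rwa [show m - a + a = m by omega] at this
  exact isPC_of_iso ((singleFunctorIsoCompQ _ a).app M ≪≫ (Q.mapIso e).symm) h1

lemma isPC_single_of_subsingleton (j n : ℤ) (P : ModuleCat.{u} R) [Subsingleton P] :
    IsPseudoCoherent R j ((singleFunctor (ModuleCat.{u} R) n).obj P) :=
  isPC_single_of_finite_free j n P

set_option maxHeartbeats 800000 in
theorem isPC_of_termwise_aux (n : ℕ) : ∀ (K : Cx R) (a : ℤ) (m : ℤ),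
    (∀ i : ℤ, i < a ∨ a + n ≤ i → IsZero (K.X i)) →
    (∀ i : ℤ, IsPseudoCoherent R (m - i) ((singleFunctor (ModuleCat.{u} R) 0).obj (K.X i))) →
    IsPseudoCoherent R m (toD K) := by
  induction n with
  | zero =>
    intro K a m hz _
    refine isPC_toD m K ⟨a, a, fun i hi => hz i (by
      rcases hi with hi | hi
      · exact Or.inl hi
      · right; simp; omega), fun i => ?_⟩
    haveI := ModuleCat.subsingleton_of_isZero (hz i (by
      by_cases h : i < a
      · exact Or.inl h
      · right; simp; omega))
    exact ⟨inferInstance, inferInstance⟩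
  | succ n ih =>
    intro K a m hz hP
    have hS := brutal_stable K (a + 1)
    have hT := triangleOfSES_distinguished (shortExact K (brutal K (a + 1)) hS)
    have h1 : IsPseudoCoherent R m (toD (sub K (brutal K (a + 1)) hS)) := by
      apply ih _ (a + 1) m
      · intro i hi
        by_cases hia : i < a + 1
        · have hb := brutal_of_lt K hia
          haveI : Subsingleton (brutal K (a + 1) i) := by rw [hb]; infer_instance
          exact ModuleCat.isZero_of_subsingleton (ModuleCat.of R (brutal K (a + 1) i))
        · haveI := ModuleCat.subsingleton_of_isZero (hz i (Or.inr (by push_cast; omega)))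
          haveI : Subsingleton (brutal K (a + 1) i) := inferInstance
          exact ModuleCat.isZero_of_subsingleton (ModuleCat.of R (brutal K (a + 1) i))
      · intro i
        by_cases hia : i < a + 1
        · have hb := brutal_of_lt K hia
          haveI : Subsingleton (brutal K (a + 1) i) := by rw [hb]; infer_instance
          exact isPC_single_of_subsingleton _ 0 (ModuleCat.of R (brutal K (a + 1) i))
        · have hb := brutal_of_le K (not_lt.mp hia)
          exact isPC_single_of_iso (LinearEquiv.ofTop _ hb).symm.toModuleIso (hP i)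
    have h3 : IsPseudoCoherent R m (toD (quot K (brutal K (a + 1)) hS)) := by
      apply isPC_toD_of_concentrated m _ a
      · intro i hi
        by_cases hia : i < a + 1
        · have hb := brutal_of_lt K hia
          haveI := ModuleCat.subsingleton_of_isZero (hz i (Or.inl (by omega)))
          haveI : Subsingleton (K.X i ⧸ brutal K (a + 1) i) := inferInstance
          exact ModuleCat.isZero_of_subsingleton (ModuleCat.of R (K.X i ⧸ brutal K (a + 1) i))
        · have hb := brutal_of_le K (not_lt.mp hia)
          haveI : Subsingleton (K.X i ⧸ brutal K (a + 1) i) := by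
            rw [Submodule.Quotient.subsingleton_iff]; exact hb
          exact ModuleCat.isZero_of_subsingleton (ModuleCat.of R (K.X i ⧸ brutal K (a + 1) i))
      · have hb := brutal_of_lt K (by omega : a < a + 1)
        exact isPC_single_of_iso (Submodule.quotEquivOfEqBot _ hb).symm.toModuleIso (hP a)
    exact isPC_obj₂ _ hT m h1 h3

/-- **S6938 (1)** -/
theorem isPC_of_termwise (m : ℤ) (K : Cx R) (b : ℤ) (hb : VanishesAbove K b)
    (h : ∀ i : ℤ, IsPseudoCoherent R (m - i) ((singleFunctor (ModuleCat.{u} R) 0).obj (K.X i))) :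
    IsPseudoCoherent R m (toD K) := by
  refine isPC_of_isWit _ (isWit_sigmaGEι K m) ?_
  refine isPC_of_termwise_aux (b + 1 - m).toNat (sigmaGE K m) m m ?_ ?_
  · intro i hi
    rcases hi with hi | hi
    · exact sigmaGE_isZero K m i hi
    · refine sigmaGE_isZero' K m i (hb i ?_)
      have := Int.self_le_toNat (b + 1 - m)
      omega
  · intro i
    by_cases hi : m ≤ i
    · exact isPC_single_of_iso (sigmaGEEquiv K m i hi).symm.toModuleIso (h i)
    · haveI := ModuleCat.subsingleton_of_isZero (sigmaGE_isZero K m i (by omega))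
      exact isPC_single_of_subsingleton _ 0 _

end Groth.Agent.H4.PC
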