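import Mathlib
import Groth.Agent.H4.PC7
set_option autoImplicit false
universe u
open CategoryTheory CategoryTheory.Limits CategoryTheory.Pretriangulated

namespace Groth.Agent.H4.PC

attribute [local instance] HasDerivedCategory.standard

variable {R : Type u} [CommRing R]

open DRing DerivedCategory ZeroObject

lemma isLE_of_retract {K X : Dual.D R} (i : K ⟶ X) (p : X ⟶ K) (hip : i ≫ p = 𝟙 K) (b : ℤ)
    [X.IsLE b] : K.IsLE b := by
  rw [isLE_iff]
  intro j hj
  rw [IsZero.iff_id_eq_zero, ← CategoryTheory.Functor.map_id, ← hip, Functor.map_comp]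
  have : (homologyFunctor (ModuleCat.{u} R) j).map i = 0 :=
    (isZero_of_isLE X b j hj).eq_of_tgt _ _
  rw [this, zero_comp]

lemma isLE_of_forall_isZero (K : Dual.D R) (b : ℤ)
    (h : ∀ i : ℤ, b < i → IsZero ((homologyFunctor (ModuleCat.{u} R) i).obj K)) : K.IsLE b := by
  rw [isLE_iff]; exact h

theorem isPC_biprod_aux (d : ℕ) : ∀ (m : ℤ) (K L : Dual.D R) [HasBinaryBiproduct K L] (b : ℤ),
    b < m + d → K.IsLE b → L.IsLE b → (∀ m' : ℤ, m ≤ m' → IsPseudoCoherent R m' (K ⊞ L)) →
    IsPseudoCoherent R m K ∧ IsPseudoCoherent R m L := by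
  induction d with
  | zero =>
    intro m K L _ b hb hK hL _
    haveI : K.IsLE (m - 1) := TStructure.t.isLE_of_le K b (m - 1) (by push_cast at hb; omega)
    haveI : L.IsLE (m - 1) := TStructure.t.isLE_of_le L b (m - 1) (by push_cast at hb; omega)
    exact ⟨isPC_of_isLE m K, isPC_of_isLE m L⟩
  | succ d ih =>
    intro m K L _ b hb hK hL h
    obtain ⟨h1, h2⟩ := ih (m + 1) K L b (by push_cast at hb ⊢; omega) hK hL
      (fun m' hm' => h m' (by omega))
    constructor
    · haveI : HasBinaryBiproduct L K := inferInstance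
      have h3 : IsPseudoCoherent R m (L ⊞ K) := isPC_of_iso (biprod.braiding K L) (h m le_rfl)
      exact isPC_obj₃ _ (binaryBiproductTriangle_distinguished L K) m h2 h3
    · exact isPC_obj₃ _ (binaryBiproductTriangle_distinguished K L) m h1 (h m le_rfl)

theorem isPC_of_biprod (m : ℤ) (K L : Dual.D R) [HasBinaryBiproduct K L]
    (h : IsPseudoCoherent R m (K ⊞ L)) : IsPseudoCoherent R m K ∧ IsPseudoCoherent R m L := by
  obtain ⟨b, hb⟩ := exists_bound_of_isPC h
  haveI : (K ⊞ L).IsLE b := isLE_of_forall_isZero _ b hb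
  have hK : K.IsLE b := isLE_of_retract (biprod.inl : K ⟶ K ⊞ L) biprod.fst biprod.inl_fst b
  have hL : L.IsLE b := isLE_of_retract (biprod.inr : L ⟶ K ⊞ L) biprod.snd biprod.inr_snd b
  exact isPC_biprod_aux (b + 1 - m).toNat m K L b (by
    have := Int.self_le_toNat (b + 1 - m); omega) hK hL (fun m' hm' => isPC_mono hm' h)

theorem isPC'_of_biprod (K L : Dual.D R) [HasBinaryBiproduct K L]
    (h : IsPseudoCoherent' R (K ⊞ L)) : IsPseudoCoherent' R K ∧ IsPseudoCoherent' R L :=
  ⟨isPC'_of_forall_isPC K (fun m => (isPC_of_biprod m K L (isPC_of_isPC' _ h m)).1),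
    isPC'_of_forall_isPC L (fun m => (isPC_of_biprod m K L (isPC_of_isPC' _ h m)).2)⟩


set_option maxHeartbeats 800000 in
theorem isPC_of_homology_aux (d : ℕ) : ∀ (m b : ℤ) (K : Dual.D R), b < m + d → K.IsLE b →
    (∀ i : ℤ, IsPseudoCoherent R (m - i) ((singleFunctor (ModuleCat.{u} R) 0).obj
      ((homologyFunctor (ModuleCat.{u} R) i).obj K))) → IsPseudoCoherent R m K := by
  induction d with
  | zero =>
    intro m b K hb hK _
    haveI : K.IsLE (m - 1) := TStructure.t.isLE_of_le K b (m - 1) (by push_cast at hb; omega)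
    exact isPC_of_isLE m K
  | succ d ih =>
    intro m b K hb hK h
    obtain ⟨A, B, m₁, m₂, m₃, hT, hA, hB⟩ := TwoTerm.exists_truncation_triangle K b
    haveI : (Triangle.mk m₁ m₂ m₃).obj₃.IsGE b := hB
    haveI : (Triangle.mk m₁ m₂ m₃).obj₁.IsLE (b - 1) := hA
    have hiso₂ : ∀ i : ℤ, b ≤ i → IsIso ((homologyFunctor (ModuleCat.{u} R) i).map m₂) :=
      fun i hi => DRing1.isIso_homology_mor₂ _ hT b i hi
    have hiso₁ : ∀ i : ℤ, i < b → IsIso ((homologyFunctor (ModuleCat.{u} R) i).map m₁) :=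
      fun i hi => DRing1.isIso_homology_mor₁ _ hT b i hi
    haveI : B.IsLE b := by
      rw [isLE_iff]
      intro i hi
      haveI := hiso₂ i (by omega)
      exact (isZero_of_isLE K b i hi).of_iso
        (asIso ((homologyFunctor (ModuleCat.{u} R) i).map m₂)).symm
    obtain ⟨eB⟩ := exists_iso_single B b
    have hB' : IsPseudoCoherent R m B := by
      refine isPC_of_iso eB.symm ?_
      haveI := hiso₂ b le_rfl
      have h1 := (isPC_single_iff (m - b) b ((homologyFunctor (ModuleCat.{u} R) b).obj B)).2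
        (isPC_single_of_iso (asIso ((homologyFunctor (ModuleCat.{u} R) b).map m₂)) (h b))
      rwa [show m - b + b = m by omega] at h1
    have hA' : IsPseudoCoherent R m A := by
      refine ih m (b - 1) A (by push_cast at hb ⊢; omega) hA (fun i => ?_)
      by_cases hi : i < b
      · haveI := hiso₁ i hi
        exact isPC_single_of_iso (asIso ((homologyFunctor (ModuleCat.{u} R) i).map m₁)).symm (h i)
      · haveI := ModuleCat.subsingleton_of_isZero (isZero_of_isLE A (b - 1) i (by omega))
        exact isPC_single_of_subsingleton _ 0 _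
    exact isPC_obj₂ _ hT m hA' hB'

/-- **S6939 (1)** -/
theorem isPC_of_homology (m : ℤ) (K : Dual.D R)
    (hb : ∃ b : ℤ, ∀ i : ℤ, b < i → IsZero ((homologyFunctor (ModuleCat.{u} R) i).obj K))
    (h : ∀ i : ℤ, IsPseudoCoherent R (m - i) ((singleFunctor (ModuleCat.{u} R) 0).obj
      ((homologyFunctor (ModuleCat.{u} R) i).obj K))) : IsPseudoCoherent R m K := by
  obtain ⟨b, hb⟩ := hb
  exact isPC_of_homology_aux (b + 1 - m).toNat m b K (by
    have := Int.self_le_toNat (b + 1 - m); omega) (isLE_of_forall_isZero K b hb) h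

end Groth.Agent.H4.PC
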