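import Mathlib
import Groth.Agent.H4.PC8
set_option autoImplicit false
universe u
open CategoryTheory CategoryTheory.Limits CategoryTheory.Pretriangulated

namespace Groth.Agent.H4.PC

attribute [local instance] HasDerivedCategory.standard

variable {R : Type u} [CommRing R]

open DRing DerivedCategory ZeroObject

/-- a class of modules closed under kernels of surjections from finite free modules, all of whose
members are finite, consists of pseudo-coherent modules. -/
theorem isPC_single_of_class_aux (P : ModuleCat.{u} R → Prop)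
    (hfin : ∀ N, P N → Module.Finite R N)
    (hker : ∀ (N : ModuleCat.{u} R) (r : ℕ) (p : (Fin r → R) →ₗ[R] N), P N →
      Function.Surjective p → P (ModuleCat.of R (LinearMap.ker p)))
    (k : ℕ) : ∀ N : ModuleCat.{u} R, P N →
    IsPseudoCoherent R (-(k : ℤ)) ((singleFunctor (ModuleCat.{u} R) 0).obj N) := by
  induction k with
  | zero =>
    intro N hN
    haveI := hfin N hN
    simpa using isPC_single_of_finite 0 N
  | succ k ih =>
    intro N hN
    haveI := hfin N hN
    obtain ⟨r, p, hp⟩ := Module.Finite.exists_fin' R N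
    let F : ModuleCat.{u} R := ModuleCat.of R (Fin r → R)
    let p' : F ⟶ N := ModuleCat.ofHom p
    have h1 := ih _ (hker N r p hN hp)
    have h2 : IsPseudoCoherent R (-((k + 1 : ℕ) : ℤ)) ((singleFunctor (ModuleCat.{u} R) 0).obj F) :=
      isPC_single_of_finite_free _ 0 F
    refine isPC_X₃_of_shortExact (kerSC p') (kerSC_shortExact p' hp) _ ?_ h2
    rw [show -((k + 1 : ℕ) : ℤ) + 1 = -(k : ℤ) by push_cast; ring]
    exact h1

theorem isPC_single_of_class (P : ModuleCat.{u} R → Prop)
    (hfin : ∀ N, P N → Module.Finite R N)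
    (hker : ∀ (N : ModuleCat.{u} R) (r : ℕ) (p : (Fin r → R) →ₗ[R] N), P N →
      Function.Surjective p → P (ModuleCat.of R (LinearMap.ker p)))
    (N : ModuleCat.{u} R) (hN : P N) (j : ℤ) :
    IsPseudoCoherent R j ((singleFunctor (ModuleCat.{u} R) 0).obj N) := by
  refine isPC_mono (m := -((-j).toNat : ℤ)) ?_ (isPC_single_of_class_aux P hfin hker _ N hN)
  have := Int.self_le_toNat (-j)
  omega

/-- any module is `j`-pseudo-coherent for `j ≥ 1`. -/
lemma isPC_single0_of_pos (N : ModuleCat.{u} R) (j : ℤ) (hj : 0 < j) :
    IsPseudoCoherent R j ((singleFunctor (ModuleCat.{u} R) 0).obj N) := by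
  haveI : ((singleFunctor (ModuleCat.{u} R) 0).obj N).IsLE (j - 1) :=
    TStructure.t.isLE_of_le _ 0 (j - 1) (by omega)
  exact isPC_of_isLE j _

theorem isPC_single_of_finite_of_noetherian [IsNoetherianRing R] (N : ModuleCat.{u} R)
    [Module.Finite R N] (j : ℤ) :
    IsPseudoCoherent R j ((singleFunctor (ModuleCat.{u} R) 0).obj N) := by
  refine isPC_single_of_class (fun N => Module.Finite R N) (fun _ h => h) ?_ N inferInstance j
  intro N r p hN hp
  change Module.Finite R (LinearMap.ker p)
  infer_instance

/-- homology of a bounded complex of finite free modules over a noetherian ring is finite. -/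
lemma finite_homology_of_isBFF [IsNoetherianRing R] (E : Cx R) (hE : IsBFF E) (i : ℤ) :
    Module.Finite R (E.homology i) := by
  haveI := (hE.finProj i).1
  haveI : IsNoetherian R (E.X i) := isNoetherian_of_isNoetherianRing_of_finite R _
  have hmono : Function.Injective (E.iCycles i).hom :=
    (ModuleCat.mono_iff_injective _).1 inferInstance
  haveI : Module.Finite R (E.cycles i) := Module.Finite.of_injective (E.iCycles i).hom hmono
  exact finite_of_epi (E.homologyπ i) inferInstance

theorem isPC_iff_of_noetherian [IsNoetherianRing R] (m : ℤ) (K : Dual.D R) :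
    IsPseudoCoherent R m K ↔
      (∃ b : ℤ, ∀ i : ℤ, b < i → IsZero ((homologyFunctor (ModuleCat.{u} R) i).obj K)) ∧
        ∀ i : ℤ, m ≤ i → Module.Finite R ((homologyFunctor (ModuleCat.{u} R) i).obj K) := by
  constructor
  · intro h
    refine ⟨exists_bound_of_isPC h, fun i hi => ?_⟩
    rw [isPC_iff] at h
    obtain ⟨E, hE, α, hα⟩ := h
    have h1 : Module.Finite R ((homologyFunctor (ModuleCat.{u} R) i).obj (toD E)) :=
      finite_of_epi (homologyToDIso E i).inv (finite_homology_of_isBFF E hE i)
    haveI := hα.epi i hi
    exact finite_of_epi ((homologyFunctor (ModuleCat.{u} R) i).map α) h1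
  · rintro ⟨hb, hfin⟩
    refine isPC_of_homology m K hb (fun i => ?_)
    by_cases hi : m ≤ i
    · haveI := hfin i hi
      exact isPC_single_of_finite_of_noetherian _ _
    · exact isPC_single0_of_pos _ _ (by omega)

theorem isPC'_module_iff_of_noetherian [IsNoetherianRing R] (M : Type u) [AddCommGroup M]
    [Module R M] : IsPseudoCoherentModule' R M ↔ Module.Finite R M := by
  constructor
  · intro h
    exact (isPCModule_zero_iff M).1 (isPC_of_isPC' _ h 0)
  · intro h
    exact isPC'_of_forall_isPC _ (fun j => isPC_single_of_finite_of_noetherian (ModuleCat.of R M) j)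

end Groth.Agent.H4.PC
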