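import Mathlib
import Groth.Prelude.Def_DTen3
import Groth.Agent.H4.DZ2
import Groth.Agent.H4.InjAmp4
import Groth.Agent.H4.PC9

/-!
# Dualizing complexes: biduality
-/

set_option autoImplicit false
universe u
open CategoryTheory Category Limits Pretriangulated

namespace Groth.Agent.H4.DZ3

attribute [local instance] HasDerivedCategory.standard
attribute [local instance] Groth.Agent.H4.LK4.hasLTen Groth.Agent.H4.LK5.hasLTen₃
  Groth.Agent.H4.KI7.isSymMonoidal Groth.Agent.H4.KI6.hasRHom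

open DRing DTen DerivedCategory Groth.Agent.H4.DThick Groth.Agent.H4.DCompl1 Groth.Agent.H4.CF1
  Groth.Agent.H4.InjAmp Groth.Agent.H4.DZ1 Groth.Agent.H4.DZ2 Groth.Agent.H4.EV5
  Groth.Agent.H4.HC6 Groth.Agent.H4.ProjAmp Groth.Agent.H4.DRing1

variable {A : Type u} [CommRing A]

set_option quotPrecheck false in
/-- notation for the object part of `⊗^L` -/
local notation:max "tO(" a ", " b ")" => (LTen₂ _).obj (a, b)

/-- a dualizing complex has finite injective amplitude -/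
theorem exists_injAmp_of_isDualizing (ω : Dual.D A) (hω : Dual.IsDualizing A ω) :
    ∃ a b : ℤ, HasInjAmplitudeIn A a b ω := by
  obtain ⟨a, b, hab⟩ := hω.finite_injective_dimension
  refine ⟨a, b, Groth.Agent.H4.InjAmp.exists_injective_rep ((b - a).toNat + 1) a b ω ?_ ?_⟩
  · have := Int.self_le_toNat (b - a)
    push_cast
    omega
  · intro I i hi
    rw [subsingleton_sgl_iff]
    exact hab (A ⧸ I) i hi

/-- a general way-out lemma -/
theorem isIso_app_of_wayOut {F G : Dual.D A ⥤ Dual.D A} (τ : F ⟶ G)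
    (hF : ∀ T ∈ distTriang (Dual.D A), Cpl (F.map T.mor₁) (F.map T.mor₂))
    (hG : ∀ T ∈ distTriang (Dual.D A), Cpl (G.map T.mor₁) (G.map T.mor₂))
    (c : ℤ) (hFc : ∀ (s : ℤ) (X : Dual.D A), X.IsGE s → (F.obj X).IsGE (s - c))
    (hGc : ∀ (s : ℤ) (X : Dual.D A), X.IsGE s → (G.obj X).IsGE (s - c))
    (K : Dual.D A) (h : ∀ n : ℤ, IsIso (τ.app (((tR A).truncLT n).obj K))) : IsIso (τ.app K) := by
  rw [DerivedCategory.isIso_iff]
  intro i
  let n : ℤ := i + c + 1
  let T := ((tR A).triangleLTGE n).obj K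
  have hT : T ∈ distinguishedTriangles := (tR A).triangleLTGE_distinguished n K
  haveI : T.obj₃.IsGE n := inferInstanceAs ((tR A).IsGE T.obj₃ n)
  obtain ⟨wF, hwF⟩ := hF T hT
  obtain ⟨wG, hwG⟩ := hG T hT
  haveI : (Triangle.mk (F.map T.mor₁) (F.map T.mor₂) wF).obj₃.IsGE (i + 1) := by
    have := hFc n T.obj₃ inferInstance
    have e : n - c = i + 1 := by simp only [n]; ring
    rw [e] at this
    exact this
  haveI : (Triangle.mk (G.map T.mor₁) (G.map T.mor₂) wG).obj₃.IsGE (i + 1) := by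
    have := hGc n T.obj₃ inferInstance
    have e : n - c = i + 1 := by simp only [n]; ring
    rw [e] at this
    exact this
  have h1 : IsIso ((homologyFunctor (ModuleCat.{u} A) i).map (F.map T.mor₁)) :=
    isIso_homology_mor₁ _ hwF (i + 1) i (by omega)
  have h2 : IsIso ((homologyFunctor (ModuleCat.{u} A) i).map (G.map T.mor₁)) :=
    isIso_homology_mor₁ _ hwG (i + 1) i (by omega)
  have h3 : IsIso ((homologyFunctor (ModuleCat.{u} A) i).map (τ.app T.obj₁)) := by
    haveI : IsIso (τ.app T.obj₁) := h n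
    infer_instance
  have hnat : (homologyFunctor (ModuleCat.{u} A) i).map (F.map T.mor₁) ≫
      (homologyFunctor (ModuleCat.{u} A) i).map (τ.app K) =
      (homologyFunctor (ModuleCat.{u} A) i).map (τ.app T.obj₁) ≫
        (homologyFunctor (ModuleCat.{u} A) i).map (G.map T.mor₁) := by
    have hn : F.map T.mor₁ ≫ τ.app K = τ.app T.obj₁ ≫ G.map T.mor₁ := τ.naturality T.mor₁
    exact ((homologyFunctor (ModuleCat.{u} A) i).map_comp _ _).symm.trans
      ((congrArg (homologyFunctor (ModuleCat.{u} A) i).map hn).trans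
        ((homologyFunctor (ModuleCat.{u} A) i).map_comp _ _))
  have h4 : IsIso ((homologyFunctor (ModuleCat.{u} A) i).map (F.map T.mor₁) ≫
      (homologyFunctor (ModuleCat.{u} A) i).map (τ.app K)) := by
    rw [hnat]
    exact @IsIso.comp_isIso _ _ _ _ _ _ _ h3 h2
  exact @IsIso.of_isIso_comp_left _ _ _ _ _
    ((homologyFunctor (ModuleCat.{u} A) i).map (F.map T.mor₁)) _ h1 h4

/-- `ω` dualizing ⇒ `RHom(ω, ω) ≅ A[0]`. -/
theorem nonempty_RHomR_self_iso (ω : Dual.D A) (hω : Dual.IsDualizing A ω) :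
    Nonempty ((RHomR A ω).obj ω ≅ DTen.unit A) := by
  have hz : ∀ i : ℤ, i ≠ 0 →
      IsZero ((homologyFunctor (ModuleCat.{u} A) i).obj ((RHomR A ω).obj ω)) := by
    intro i hi
    obtain ⟨e⟩ := nonempty_extLinEquiv ω ω i
    haveI := hω.ext_self_subsingleton i hi
    haveI : Subsingleton ((homologyFunctor (ModuleCat.{u} A) i).obj ((RHomR A ω).obj ω)) :=
      e.toEquiv.subsingleton
    exact ModuleCat.isZero_of_subsingleton _
  haveI : ((RHomR A ω).obj ω).IsGE 0 := by
    rw [isGE_iff]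
    intro i hi
    exact hz i (by omega)
  haveI : ((RHomR A ω).obj ω).IsLE 0 := by
    rw [isLE_iff]
    intro i hi
    exact hz i (by omega)
  obtain ⟨e0⟩ := Groth.Agent.H4.PC.exists_iso_single ((RHomR A ω).obj ω) 0
  obtain ⟨e1⟩ := nonempty_extLinEquiv ω ω 0
  let e2 : (ω ⟶ ω⟦(0 : ℤ)⟧) ≃ₗ[A] (ω ⟶ ω) :=
    homIsoLinEquiv ω ((CategoryTheory.shiftFunctorZero (Dual.D A) ℤ).app ω)
  let e3 : A ≃ₗ[A] (ω ⟶ ω) :=
    LinearEquiv.ofBijective (LinearMap.toSpanSingleton A (ω ⟶ ω) (𝟙 ω)) hω.toEnd_bijective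
  let e4 : (homologyFunctor (ModuleCat.{u} A) 0).obj ((RHomR A ω).obj ω) ≅ ModuleCat.of A A :=
    ((e1.trans e2).trans e3.symm).toModuleIso
  exact ⟨e0 ≪≫ (singleFunctor (ModuleCat.{u} A) 0).mapIso e4 ≪≫ Groth.Agent.H4.KI8.inDUnitIso⟩

/-- a dualizing complex is bounded below -/
theorem isGE_of_injAmp (ω : Dual.D A) (a b : ℤ) (h : HasInjAmplitudeIn A a b ω) : ω.IsGE a := by
  obtain ⟨E, hE, -, ⟨e⟩⟩ := h
  haveI : (Q.obj E).IsGE a := by
    rw [isGE_Q_obj_iff, CochainComplex.isGE_iff]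
    intro i hi
    exact HomologicalComplex.ExactAt.of_isZero (hE i (Or.inl hi))
  exact TStructure.t.isGE_of_iso e a

/-- the biduality map is an isomorphism on objects with finite cohomology -/
theorem isIso_evalHom_of_finite [IsNoetherianRing A] (ω : Dual.D A) (hω : Dual.IsDualizing A ω)
    (K : Dual.D A) (hK : ∀ i : ℤ, Module.Finite A (Dual.HD A K i)) :
    IsIso (evalHom K ω ω) := by
  obtain ⟨a, b, hab⟩ := exists_injAmp_of_isDualizing ω hω
  obtain ⟨eR⟩ := nonempty_RHomR_self_iso ω hω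
  haveI := isGE_of_injAmp ω a b hab
  let c : ℤ := max (b - a) 0
  have hcab : b - a ≤ c := le_max_left _ _
  have hc0 : 0 ≤ c := le_max_right _ _
  refine isIso_app_of_wayOut (Groth.Agent.H4.EV7.evalHomNat ω ω)
    (fun T hT => cpl_LTen_obj _ T hT) ?_ c ?_ ?_ K ?_
  · intro T hT
    obtain ⟨w, hw⟩ := cpl_RHomMap T hT ω
    exact cpl_RHomMap _ hw ω
  · intro s X hX
    haveI := hX
    haveI := Groth.Agent.H4.KI7.isIso_unitL_app X
    let e : ((LTen A).obj ((RHomR A ω).obj ω)).obj X ≅ X :=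
      ((LTen A).mapIso eR).app X ≪≫ asIso ((unitL A).app X)
    haveI : X.IsGE (s - c) := TStructure.t.isGE_of_ge X (s - c) s (by omega)
    exact TStructure.t.isGE_of_iso e.symm (s - c)
  · intro s X hX
    haveI := hX
    haveI : ((RHomR A X).obj ω).IsLE (b - s) := Groth.Agent.H4.AP2.isLE_RHom_of_injAmp X ω s a b hab
    haveI := Groth.Agent.H4.AP2.isGE_RHom ((RHomR A X).obj ω) ω (b - s) a
    exact TStructure.t.isGE_of_ge
      ((RHomR A ((RHomR A X).obj ω)).obj ω) (s - c) (a - (b - s)) (by omega)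
  · intro n
    let T := ((tR A).triangleLTGE n).obj K
    have hT : T ∈ distinguishedTriangles := (tR A).triangleLTGE_distinguished n K
    haveI : T.obj₃.IsGE n := inferInstanceAs ((tR A).IsGE T.obj₃ n)
    haveI : T.obj₁.IsLE (n - 1) := inferInstanceAs ((tR A).IsLE (((tR A).truncLT n).obj K) (n - 1))
    have hfin : ∀ i : ℤ, Module.Finite A ((homologyFunctor (ModuleCat.{u} A) i).obj T.obj₁) := by
      intro i
      by_cases hi : i < n
      · haveI := isIso_homology_mor₁ T hT n i hi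
        have e1 : (homologyFunctor (ModuleCat.{u} A) i).obj T.obj₁ ≅
            (homologyFunctor (ModuleCat.{u} A) i).obj T.obj₂ :=
          asIso ((homologyFunctor (ModuleCat.{u} A) i).map T.mor₁)
        haveI : Module.Finite A ((homologyFunctor (ModuleCat.{u} A) i).obj T.obj₂) := hK i
        exact Module.Finite.equiv e1.symm.toLinearEquiv
      · haveI := ModuleCat.subsingleton_of_isZero (isZero_of_isLE T.obj₁ (n - 1) i (by omega))
        infer_instance
    have hpc : IsPseudoCoherent' A T.obj₁ := by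
      refine Groth.Agent.H4.PC.isPC'_of_forall_isPC _ (fun m => ?_)
      rw [Groth.Agent.H4.PC.isPC_iff_of_noetherian]
      exact ⟨⟨n - 1, fun i hi => isZero_of_isLE T.obj₁ (n - 1) i hi⟩, fun i _ => hfin i⟩
    exact Groth.Agent.H4.AP2.isIso_evalHom_of_isPseudoCoherent T.obj₁ ω ω hpc a ⟨a, b, hab⟩

/-- biduality iso `RHom(RHom(K, ω), ω) ≅ K` -/
theorem nonempty_bidual_iso [IsNoetherianRing A] (ω : Dual.D A) (hω : Dual.IsDualizing A ω)
    (K : Dual.D A) (hK : ∀ i : ℤ, Module.Finite A (Dual.HD A K i)) :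
    Nonempty ((RHomR A ((RHomR A K).obj ω)).obj ω ≅ K) := by
  haveI := isIso_evalHom_of_finite ω hω K hK
  obtain ⟨eR⟩ := nonempty_RHomR_self_iso ω hω
  haveI := Groth.Agent.H4.KI7.isIso_unitL_app K
  exact ⟨(asIso (evalHom K ω ω)).symm ≪≫ ((LTen A).mapIso eR).app K ≪≫ asIso ((unitL A).app K)⟩

/-- finiteness of the cohomology of the dual -/
theorem finite_HD_RHomR [IsNoetherianRing A] (ω : Dual.D A) (hω : Dual.IsDualizing A ω)
    (K : Dual.D A) (hK : ∀ i : ℤ, Module.Finite A (Dual.HD A K i)) (i : ℤ) :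
    Module.Finite A (Dual.HD A ((RHomR A K).obj ω) i) := by
  obtain ⟨a, b, hab⟩ := exists_injAmp_of_isDualizing ω hω
  obtain ⟨e⟩ := nonempty_extLinEquiv K ω i
  haveI := S1746 K ω hK hω.finite_cohomology ⟨a, b, hab⟩ i
  exact Module.Finite.equiv e.symm

theorem S1819 (A : Type u) [CommRing A] [IsNoetherianRing A] (ω : Dual.D A)
    (hω : Dual.IsDualizing A ω) (K : DRing.Cx A) [DRing.HasRHomCx K]
    (hK : ∀ i : ℤ, Module.Finite A (Dual.HD A (DRing.toD K) i)) :
    (∀ i : ℤ, Module.Finite A (Dual.HD A ((DRing.RHomCx K).obj ω) i)) ∧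
      ∀ (E : DRing.Cx A) [DRing.HasRHomCx E], Nonempty (DRing.toD E ≅ (DRing.RHomCx K).obj ω) →
        Nonempty ((DRing.RHomCx E).obj ω ≅ DRing.toD K) := by
  let e0 : (DRing.RHomCx K).obj ω ≅ (RHomR A (Q.obj K)).obj ω :=
    (Groth.Agent.H4.KI6.rhomCxIsoRHomR K).app ω
  constructor
  · intro i
    haveI := finite_HD_RHomR ω hω (Q.obj K) hK i
    exact Module.Finite.equiv
      ((homologyFunctor (ModuleCat.{u} A) i).mapIso e0).symm.toLinearEquiv
  · intro E _ ⟨e⟩
    obtain ⟨e2⟩ := nonempty_bidual_iso ω hω (Q.obj K) hK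
    exact ⟨(Groth.Agent.H4.KI6.rhomCxIsoRHomR E).app ω ≪≫ RHomIso (e ≪≫ e0).symm ω ≪≫ e2⟩

end Groth.Agent.H4.DZ3
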