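import Mathlib
import Groth.Prelude.Def_DTen3
import Groth.Agent.H4.DZ3
import Groth.Agent.H4.HC2

/-!
# `Ext(κ, ω)` for a dualizing complex: S0364
-/

set_option autoImplicit false
universe u
open CategoryTheory Category Limits Pretriangulated

namespace Groth.Agent.H4.DZ4

attribute [local instance] HasDerivedCategory.standard
attribute [local instance] Groth.Agent.H4.LK4.hasLTen Groth.Agent.H4.LK5.hasLTen₃
  Groth.Agent.H4.KI7.isSymMonoidal Groth.Agent.H4.KI6.hasRHom

open DRing DTen DerivedCategory Groth.Agent.H4.DThick Groth.Agent.H4.DCompl1 Groth.Agent.H4.CF1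
  Groth.Agent.H4.InjAmp Groth.Agent.H4.DZ1 Groth.Agent.H4.DZ2 Groth.Agent.H4.DZ3 Groth.Agent.H4.EV5
  Groth.Agent.H4.HC6 Groth.Agent.H4.ProjAmp Groth.Agent.H4.DRing1

variable {A : Type u} [CommRing A]

section alg

/-- a module killed by a maximal ideal is semisimple -/
lemma isSemisimpleModule_of_killed (m : Ideal A) [hm : m.IsMaximal] (V : Type*) [AddCommGroup V]
    [Module A V] (h : ∀ a ∈ m, ∀ v : V, a • v = 0) : IsSemisimpleModule A V := by
  apply IsSemisimpleModule.of_sSup_simples_eq_top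
  rw [eq_top_iff]
  intro x _
  by_cases hx : x = 0
  · rw [hx]; exact Submodule.zero_mem _
  have hker : LinearMap.ker (LinearMap.toSpanSingleton A V x) = m := by
    symm
    apply hm.eq_of_le
    · intro htop
      have : (1 : A) ∈ LinearMap.ker (LinearMap.toSpanSingleton A V x) := by
        rw [htop]; trivial
      rw [LinearMap.mem_ker, LinearMap.toSpanSingleton_apply, one_smul] at this
      exact hx this
    · intro a ha
      rw [LinearMap.mem_ker, LinearMap.toSpanSingleton_apply]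
      exact h a ha x
  have hs : IsSimpleModule A (Submodule.span A {x}) := by
    rw [isSimpleModule_iff_quot_maximal]
    refine ⟨m, hm, ⟨?_⟩⟩
    have e1 := (LinearMap.toSpanSingleton A V x).quotKerEquivRange
    rw [LinearMap.range_toSpanSingleton] at e1
    exact e1.symm.trans (Submodule.quotEquivOfEq _ _ hker)
  exact (le_sSup (a := Submodule.span A {x}) hs) (Submodule.mem_span_singleton_self x)

/-- a nonzero module killed by a maximal ideal `m` retracts onto `A ⧸ m` -/
lemma exists_retract_of_killed (m : Ideal A) [hm : m.IsMaximal] (V : Type*) [AddCommGroup V]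
    [Module A V] (h : ∀ a ∈ m, ∀ v : V, a • v = 0) [Nontrivial V] :
    ∃ (i : (A ⧸ m) →ₗ[A] V) (p : V →ₗ[A] (A ⧸ m)), p ∘ₗ i = LinearMap.id := by
  obtain ⟨x, hx⟩ := exists_ne (0 : V)
  haveI := isSemisimpleModule_of_killed m V h
  haveI : IsSimpleModule A (A ⧸ m) := by
    rw [isSimpleModule_iff_isCoatom]
    exact Ideal.isMaximal_def.1 hm
  let i : (A ⧸ m) →ₗ[A] V := Submodule.liftQ m (LinearMap.toSpanSingleton A V x) (by
    intro a ha
    rw [LinearMap.mem_ker, LinearMap.toSpanSingleton_apply]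
    exact h a ha x)
  have hi : i ≠ 0 := by
    intro h0
    have : i (Submodule.Quotient.mk 1) = x := by
      change Submodule.liftQ m (LinearMap.toSpanSingleton A V x) _ (Submodule.Quotient.mk 1) = x
      rw [Submodule.liftQ_apply, LinearMap.toSpanSingleton_apply, one_smul]
    rw [h0] at this
    exact hx this.symm
  obtain ⟨p, hp⟩ := IsSemisimpleModule.extension_property i (LinearMap.injective_of_ne_zero hi)
    LinearMap.id
  exact ⟨i, p, hp⟩

end alg

section split

/-- a complex of semisimple modules is quasi-isomorphic to a complex with zero differentials,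
included termwise -/
theorem exists_zeroDiff_quasiIso (C : CochainComplex (ModuleCat.{u} A) ℤ)
    (hC : ∀ j, IsSemisimpleModule A (C.X j)) :
    ∃ (H : CochainComplex (ModuleCat.{u} A) ℤ) (f : H ⟶ C), (∀ i j, H.d i j = 0) ∧ QuasiIso f ∧
      ∀ j, Function.Injective (f.f j).hom := by
  have key : ∀ j : ℤ, ∃ Hs : Submodule A (C.X j),
      Hs ≤ LinearMap.ker (C.d j (j + 1)).hom ∧
      Hs ⊓ LinearMap.range (C.d (j - 1) j).hom = ⊥ ∧
      Hs ⊔ LinearMap.range (C.d (j - 1) j).hom = LinearMap.ker (C.d j (j + 1)).hom := by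
    intro j
    haveI := hC j
    have hBZ : LinearMap.range (C.d (j - 1) j).hom ≤ LinearMap.ker (C.d j (j + 1)).hom := by
      rintro _ ⟨w, rfl⟩
      rw [LinearMap.mem_ker]
      have := C.d_comp_d (j - 1) j (j + 1)
      exact congrArg (fun φ => φ.hom w) this
    obtain ⟨W, hW⟩ := exists_isCompl (LinearMap.range (C.d (j - 1) j).hom)
    refine ⟨W ⊓ LinearMap.ker (C.d j (j + 1)).hom, inf_le_right, ?_, ?_⟩
    · rw [eq_bot_iff]
      intro x hx
      have h1 : x ∈ LinearMap.range (C.d (j - 1) j).hom ⊓ W := ⟨hx.2, hx.1.1⟩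
      rw [hW.inf_eq_bot] at h1
      exact h1
    · rw [sup_comm, ← sup_inf_assoc_of_le W hBZ, hW.sup_eq_top, top_inf_eq]
  choose Hs h1 h2 h3 using key
  let H : CochainComplex (ModuleCat.{u} A) ℤ :=
    { X := fun j => ModuleCat.of A (Hs j)
      d := fun _ _ => 0
      shape := fun _ _ _ => rfl
      d_comp_d' := fun _ _ _ _ _ => by simp }
  let f : H ⟶ C :=
    { f := fun j => ModuleCat.ofHom (Hs j).subtype
      comm' := fun i j hij => by
        have hij' : i + 1 = j := hij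
        subst hij'
        change _ = 0 ≫ _
        rw [zero_comp]
        apply ModuleCat.hom_ext
        apply LinearMap.ext
        intro (x : Hs i)
        exact h1 i x.2 }
  refine ⟨H, f, fun _ _ => rfl, ?_, fun j => Subtype.val_injective⟩
  refine Groth.Agent.H4.HC2.quasiIso_of_elementwise f ?_ ?_
  · intro n z' hz'
    have hz : z' ∈ Hs n ⊔ LinearMap.range (C.d (n - 1) n).hom := by
      rw [h3 n]; exact hz'
    obtain ⟨h, hh, b, ⟨w, rfl⟩, rfl⟩ := Submodule.mem_sup.1 hz
    refine ⟨(⟨h, hh⟩ : Hs n), rfl, -w, ?_⟩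
    change h - (h + _) = _
    rw [map_neg]
    abel
  · intro n (z : Hs n) _ ⟨w', hw'⟩
    refine ⟨0, ?_⟩
    rw [map_zero]
    have hz : (z : C.X n) ∈ Hs n ⊓ LinearMap.range (C.d (n - 1) n).hom := ⟨z.2, ⟨w', hw'.symm⟩⟩
    rw [h2 n] at hz
    exact Subtype.ext hz

end split

section retract

/-- a term of a zero-differential complex is a retract of the complex -/
lemma exists_retract_single (H : CochainComplex (ModuleCat.{u} A) ℤ) (hH : ∀ i j, H.d i j = 0)
    (n : ℤ) (κ : ModuleCat.{u} A) (i : κ ⟶ H.X n) (p : H.X n ⟶ κ) (hip : i ≫ p = 𝟙 κ) :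
    ∃ (s : (HomologicalComplex.single (ModuleCat.{u} A) (ComplexShape.up ℤ) n).obj κ ⟶ H)
      (r : H ⟶ (HomologicalComplex.single (ModuleCat.{u} A) (ComplexShape.up ℤ) n).obj κ),
      s ≫ r = 𝟙 _ := by
  refine ⟨HomologicalComplex.mkHomFromSingle i (fun k _ => by rw [hH, comp_zero]),
    HomologicalComplex.mkHomToSingle p (fun k _ => by rw [hH, zero_comp]), ?_⟩
  apply HomologicalComplex.from_single_hom_ext
  rw [HomologicalComplex.comp_f, HomologicalComplex.mkHomFromSingle_f,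
    HomologicalComplex.mkHomToSingle_f, assoc, reassoc_of% hip, HomologicalComplex.id_f,
    Iso.hom_inv_id]

/-- the Hom complex out of a complex killed by `a` is killed by `a` -/
lemma smul_cochain_eq_zero' (K L : CochainComplex (ModuleCat.{u} A) ℤ) (a : A)
    (hK : ∀ p (x : K.X p), a • x = 0) (j : ℤ) (z : CochainComplex.HomComplex.Cochain K L j) :
    a • z = 0 := by
  apply CochainComplex.HomComplex.Cochain.ext
  intro p q hpq
  rw [CochainComplex.HomComplex.Cochain.smul_v, CochainComplex.HomComplex.Cochain.zero_v]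
  apply ModuleCat.hom_ext
  apply LinearMap.ext
  intro x
  change a • (z.v p q hpq).hom x = 0
  rw [← map_smul, hK, map_zero]

lemma smul_cochain_eq_zero (K L : CochainComplex (ModuleCat.{u} A) ℤ) (a : A)
    (hK : ∀ p (x : K.X p), a • x = 0) (j : ℤ) (z : (homCx K L).X j) : a • z = 0 :=
  smul_cochain_eq_zero' K L a hK j z

end retract

section main

/-- the cohomology of a module placed in degree zero -/
lemma nonempty_HD_inD_zero (M : Type u) [AddCommGroup M] [Module A M] :
    Nonempty (Dual.HD A (Dual.inD A M) 0 ≃ₗ[A] M) :=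
  ⟨((singleFunctorCompHomologyFunctorIso (ModuleCat.{u} A) 0).app
    (ModuleCat.of A M)).toLinearEquiv⟩

lemma subsingleton_HD_inD (M : Type u) [AddCommGroup M] [Module A M] (i : ℤ) (hi : i ≠ 0) :
    Subsingleton (Dual.HD A (Dual.inD A M) i) := by
  apply ModuleCat.subsingleton_of_isZero
  rcases lt_or_gt_of_ne hi with h | h
  · exact isZero_of_isGE (Dual.inD A M) 0 i h
  · exact isZero_of_isLE (Dual.inD A M) 0 i h

lemma finite_HD_inD (M : Type u) [AddCommGroup M] [Module A M] [Module.Finite A M] (i : ℤ) :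
    Module.Finite A (Dual.HD A (Dual.inD A M) i) := by
  by_cases hi : i = 0
  · subst hi
    obtain ⟨e⟩ := nonempty_HD_inD_zero (A := A) M
    exact Module.Finite.equiv e.symm
  · haveI := subsingleton_HD_inD (A := A) M i hi
    infer_instance

/-- an object all of whose cohomology vanishes is zero -/
lemma isZero_of_forall_subsingleton_HD (X : Dual.D A)
    (h : ∀ i : ℤ, Subsingleton (Dual.HD A X i)) : IsZero X := by
  haveI : X.IsGE 1 := by
    rw [isGE_iff]
    intro i _
    haveI := h i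
    exact ModuleCat.isZero_of_subsingleton _
  haveI : X.IsLE 0 := by
    rw [isLE_iff]
    intro i _
    haveI := h i
    exact ModuleCat.isZero_of_subsingleton _
  exact TStructure.t.isZero X 0 1 (by omega)

variable [IsNoetherianRing A]

/-- maps from the dual of `K` to shifts of `ω` compute the cohomology of `K` -/
theorem nonempty_hom_dual_equiv (ω : Dual.D A) (hω : Dual.IsDualizing A ω) (K : Dual.D A)
    (hK : ∀ i : ℤ, Module.Finite A (Dual.HD A K i)) (j : ℤ) :
    Nonempty (((RHomR A K).obj ω ⟶ ω⟦j⟧) ≃ₗ[A] Dual.HD A K j) := by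
  obtain ⟨e1⟩ := nonempty_extLinEquiv ((RHomR A K).obj ω) ω j
  obtain ⟨e2⟩ := Groth.Agent.H4.DZ3.nonempty_bidual_iso ω hω K hK
  exact ⟨e1.symm.trans ((homologyFunctor (ModuleCat.{u} A) j).mapIso e2).toLinearEquiv⟩

/-- `RHom(M[0], ω)` is computed by the Hom complex into a bounded complex of injectives -/
theorem exists_homCx_iso (ω : Dual.D A) (hω : Dual.IsDualizing A ω) (M : ModuleCat.{u} A) :
    ∃ (I : CochainComplex (ModuleCat.{u} A) ℤ),
      Nonempty ((RHomR A ((singleFunctor (ModuleCat.{u} A) 0).obj M)).obj ω ≅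
        Q.obj (homCx ((HomologicalComplex.single (ModuleCat.{u} A)
          (ComplexShape.up ℤ) 0).obj M) I)) := by
  obtain ⟨a, b, I, hI, hinj, ⟨e⟩⟩ := exists_injAmp_of_isDualizing ω hω
  haveI : I.IsKInjective := isKInjective_of_vanishes_injective I a
    (fun i hi => hI i (Or.inl hi)) hinj
  let S := (HomologicalComplex.single (ModuleCat.{u} A) (ComplexShape.up ℤ) 0).obj M
  haveI : DRing.HasRHomCx S := Groth.Agent.H4.KI4.hasRHomCx S
  let iso1 : (singleFunctor (ModuleCat.{u} A) 0).obj M ≅ Q.obj S :=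
    (singleFunctorIsoCompQ (ModuleCat.{u} A) 0).app M
  exact ⟨I, ⟨RHomIso iso1.symm ω ≪≫ (Groth.Agent.H4.KI6.rhomCxIsoRHomR S).symm.app ω ≪≫
    (DRing.RHomCx S).mapIso e.symm ≪≫ (Groth.Agent.H4.KI4.rhomCxIso S I).symm⟩⟩

set_option maxHeartbeats 800000 in
theorem S0364 (A : Type u) [CommRing A] [IsNoetherianRing A] (ω : Dual.D A)
    (hω : Dual.IsDualizing A ω) (m : Ideal A) [hm : m.IsMaximal] :
    ∃ n : ℤ, (∀ i : ℤ, i ≠ n → Subsingleton (Dual.inD A (A ⧸ m) ⟶ ω⟦i⟧)) ∧
      Nonempty ((Dual.inD A (A ⧸ m) ⟶ ω⟦n⟧) ≃ₗ[A] (A ⧸ m)) := by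
  let κ : ModuleCat.{u} A := ModuleCat.of A (A ⧸ m)
  let k0 : Dual.D A := Dual.inD A (A ⧸ m)
  have hk0fin : ∀ i : ℤ, Module.Finite A (Dual.HD A k0 i) := fun i => finite_HD_inD (A ⧸ m) i
  let R : Dual.D A := (RHomR A k0).obj ω
  haveI : Nontrivial (A ⧸ m) := Ideal.Quotient.nontrivial_iff.2 hm.ne_top
  -- maps from `R` to shifts of `ω`
  have hR0 : Nonempty ((R ⟶ ω⟦(0 : ℤ)⟧) ≃ₗ[A] (A ⧸ m)) := by
    obtain ⟨e1⟩ := nonempty_hom_dual_equiv ω hω k0 hk0fin 0
    obtain ⟨e2⟩ := nonempty_HD_inD_zero (A := A) (A ⧸ m)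
    exact ⟨e1.trans e2⟩
  have hRj : ∀ j : ℤ, j ≠ 0 → Subsingleton (R ⟶ ω⟦j⟧) := by
    intro j hj
    obtain ⟨e1⟩ := nonempty_hom_dual_equiv ω hω k0 hk0fin j
    haveI := subsingleton_HD_inD (A := A) (A ⧸ m) j hj
    exact e1.toEquiv.subsingleton
  -- `R` is not zero, hence has a nonzero cohomology
  have hex : ∃ n : ℤ, Nontrivial (k0 ⟶ ω⟦n⟧) := by
    by_contra hcon
    rw [not_exists] at hcon
    have hz : IsZero R := by
      apply isZero_of_forall_subsingleton_HD
      intro i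
      obtain ⟨e⟩ := nonempty_extLinEquiv k0 ω i
      haveI : Subsingleton (k0 ⟶ ω⟦i⟧) := not_nontrivial_iff_subsingleton.1 (hcon i)
      exact e.toEquiv.subsingleton
    obtain ⟨e0⟩ := hR0
    haveI : Subsingleton (R ⟶ ω⟦(0 : ℤ)⟧) := ⟨fun f g => hz.eq_of_src f g⟩
    exact not_subsingleton (A ⧸ m) e0.symm.toEquiv.subsingleton
  obtain ⟨n, hn⟩ := hex
  -- the Hom complex
  obtain ⟨I, ⟨eRC⟩⟩ := exists_homCx_iso ω hω κ
  let S := (HomologicalComplex.single (ModuleCat.{u} A) (ComplexShape.up ℤ) 0).obj κ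
  have hS : ∀ a ∈ m, ∀ p (x : S.X p), a • x = 0 := by
    intro a ha p x
    by_cases hp : p = 0
    · subst hp
      let e := (HomologicalComplex.singleObjXSelf (ComplexShape.up ℤ) (0 : ℤ) κ).toLinearEquiv
      apply e.injective
      rw [map_smul, map_zero]
      obtain ⟨y, hy⟩ := Ideal.Quotient.mk_surjective (e x)
      rw [← hy]
      change a • (Ideal.Quotient.mk m y) = 0
      rw [Algebra.smul_def, Ideal.Quotient.algebraMap_eq, ← map_mul,
        Ideal.Quotient.eq_zero_iff_mem]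
      exact m.mul_mem_right _ ha
    · haveI := ModuleCat.subsingleton_of_isZero
        (HomologicalComplex.isZero_single_obj_X (ComplexShape.up ℤ) (0 : ℤ) κ p hp)
      exact Subsingleton.elim _ _
  have hC : ∀ a ∈ m, ∀ j (z : (homCx S I).X j), a • z = 0 := fun a ha j z =>
    smul_cochain_eq_zero S I a (hS a ha) j z
  obtain ⟨H, f, hH, hf, hfinj⟩ := exists_zeroDiff_quasiIso (homCx S I)
    (fun j => isSemisimpleModule_of_killed m _ (fun a ha v => hC a ha j v))
  haveI := hf
  let eRH : R ≅ Q.obj H := eRC ≪≫ (asIso (Q.map f)).symm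
  have hHk : ∀ a ∈ m, ∀ v : H.X n, a • v = 0 := by
    intro a ha v
    apply hfinj n
    rw [map_smul, map_zero]
    exact hC a ha n _
  -- `H.X n` is not zero
  haveI : Nontrivial (H.X n) := by
    by_contra hcon
    haveI : Subsingleton (H.X n) := not_nontrivial_iff_subsingleton.1 hcon
    have h1 : IsZero ((homologyFunctor (ModuleCat.{u} A) n).obj (Q.obj H)) :=
      (HomologicalComplex.ExactAt.of_isZero
        (ModuleCat.isZero_of_subsingleton _)).isZero_homology.of_iso
          ((homologyFunctorFactors (ModuleCat.{u} A) n).app H)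
    have h2 : IsZero ((homologyFunctor (ModuleCat.{u} A) n).obj R) :=
      h1.of_iso ((homologyFunctor (ModuleCat.{u} A) n).mapIso eRH)
    obtain ⟨e⟩ := nonempty_extLinEquiv k0 ω n
    haveI := ModuleCat.subsingleton_of_isZero h2
    exact not_subsingleton (k0 ⟶ ω⟦n⟧) e.symm.toEquiv.subsingleton
  obtain ⟨i, p, hip⟩ := exists_retract_of_killed m (H.X n) hHk
  obtain ⟨s, r, hsr⟩ := exists_retract_single H hH n κ (ModuleCat.ofHom i) (ModuleCat.ofHom p)
    (by rw [← ModuleCat.ofHom_comp, hip]; rfl)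
  let Tc : Dual.D A := Q.obj ((HomologicalComplex.single (ModuleCat.{u} A)
    (ComplexShape.up ℤ) n).obj κ)
  let s' : Tc ⟶ R := Q.map s ≫ eRH.inv
  let r' : R ⟶ Tc := eRH.hom ≫ Q.map r
  have hsr' : s' ≫ r' = 𝟙 Tc := by
    simp only [s', r', assoc, Iso.inv_hom_id_assoc]
    rw [← Q.map_comp, hsr, CategoryTheory.Functor.map_id]
  let eT : Tc ≅ k0⟦-n⟧ := ((singleFunctorIsoCompQ (ModuleCat.{u} A) n).app κ).symm ≪≫
    (((singleFunctors (ModuleCat.{u} A)).shiftIso (-n) n 0 (by simp)).app κ).symm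
  have eTj : ∀ j : ℤ, Nonempty ((Tc ⟶ ω⟦j⟧) ≃ₗ[A] (k0 ⟶ ω⟦j + n⟧)) := fun j =>
    ⟨((isoHomLinEquiv eT (ω⟦j⟧)).trans (shiftHomLinEquiv k0 (ω⟦j⟧) (-n) n (by simp))).trans
      (homIsoLinEquiv k0 ((CategoryTheory.shiftFunctorAdd' (Dual.D A) j n (j + n) rfl).app ω).symm)⟩
  have hinjr : ∀ j : ℤ, Function.Injective (Linear.leftComp A (ω⟦j⟧) r') := by
    intro j φ ψ h
    have h' : r' ≫ φ = r' ≫ ψ := h
    have := congrArg (fun x => s' ≫ x) h'
    simpa [reassoc_of% hsr'] using this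
  refine ⟨n, ?_, ?_⟩
  · intro i hi
    obtain ⟨e⟩ := eTj (i - n)
    haveI := hRj (i - n) (by omega)
    haveI : Subsingleton (Tc ⟶ ω⟦i - n⟧) := (hinjr (i - n)).subsingleton
    have h1 : Subsingleton (k0 ⟶ ω⟦i - n + n⟧) := e.symm.toEquiv.subsingleton
    rwa [sub_add_cancel] at h1
  · obtain ⟨e⟩ := eTj 0
    obtain ⟨e0⟩ := hR0
    haveI : IsSimpleModule A (A ⧸ m) := by
      rw [isSimpleModule_iff_isCoatom]
      exact Ideal.isMaximal_def.1 hm
    let g : (k0 ⟶ ω⟦(0 : ℤ) + n⟧) →ₗ[A] (A ⧸ m) :=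
      e0.toLinearMap ∘ₗ (Linear.leftComp A (ω⟦(0 : ℤ)⟧) r') ∘ₗ e.symm.toLinearMap
    have hg : Function.Injective g :=
      e0.injective.comp ((hinjr 0).comp e.symm.injective)
    have hn' : Nontrivial (k0 ⟶ ω⟦(0 : ℤ) + n⟧) := by rwa [zero_add]
    have hg0 : g ≠ 0 := by
      intro h0
      obtain ⟨x, y, hxy⟩ := hn'
      apply hxy
      apply hg
      rw [h0]; rfl
    have hgs : Function.Surjective g := LinearMap.surjective_of_ne_zero hg0
    have e' : (k0 ⟶ ω⟦(0 : ℤ) + n⟧) ≃ₗ[A] (A ⧸ m) := LinearEquiv.ofBijective g ⟨hg, hgs⟩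
    rw [zero_add] at e'
    exact ⟨e'⟩

end main

end Groth.Agent.H4.DZ4
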