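import Mathlib
import Groth.Prelude.Def_DTen3
import Groth.Agent.H4.DZ4

/-!
# Uniqueness of dualizing complexes over a local ring: S1747
-/

set_option autoImplicit false
universe u
open CategoryTheory Category Limits Pretriangulated

namespace Groth.Agent.H4.DZ5

attribute [local instance] HasDerivedCategory.standard
attribute [local instance] Groth.Agent.H4.LK4.hasLTen Groth.Agent.H4.LK5.hasLTen₃
  Groth.Agent.H4.KI7.isSymMonoidal Groth.Agent.H4.KI6.hasRHom

open DRing DTen DerivedCategory Groth.Agent.H4.DThick Groth.Agent.H4.DCompl1 Groth.Agent.H4.CF1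
  Groth.Agent.H4.InjAmp Groth.Agent.H4.DZ1 Groth.Agent.H4.DZ2 Groth.Agent.H4.DZ3 Groth.Agent.H4.DZ4
  Groth.Agent.H4.EV5 Groth.Agent.H4.HC6 Groth.Agent.H4.ProjAmp Groth.Agent.H4.DRing1
  Groth.Agent.H4.DComp

variable {A : Type u} [CommRing A]

set_option quotPrecheck false in
/-- notation for the object part of `⊗^L` -/
local notation:max "tO(" a ", " b ")" => (LTen₂ _).obj (a, b)

section theta

/-- maps between single-degree objects are detected on homology -/
theorem bijective_homology_map_single (t : ℤ) (M N : ModuleCat.{u} A) :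
    Function.Bijective (fun f : ((singleFunctor (ModuleCat.{u} A) t).obj M : Dual.D A) ⟶
      ((singleFunctor (ModuleCat.{u} A) t).obj N : Dual.D A) =>
        (homologyFunctor (ModuleCat.{u} A) t).map f) := by
  let iso : singleFunctor (ModuleCat.{u} A) t ⋙ homologyFunctor (ModuleCat.{u} A) t ≅ 𝟭 _ :=
    singleFunctorCompHomologyFunctorIso (ModuleCat.{u} A) t
  have key : ∀ g : M ⟶ N, (homologyFunctor (ModuleCat.{u} A) t).map
      ((singleFunctor (ModuleCat.{u} A) t).map g) = iso.hom.app M ≫ g ≫ iso.inv.app N := by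
    intro g
    exact (NatIso.naturality_2 iso g).symm
  constructor
  · intro f₁ f₂ h
    obtain ⟨g₁, hg₁⟩ := (singleFunctor (ModuleCat.{u} A) t).map_surjective f₁
    obtain ⟨g₂, hg₂⟩ := (singleFunctor (ModuleCat.{u} A) t).map_surjective f₂
    have h0 : (homologyFunctor (ModuleCat.{u} A) t).map f₁ =
      (homologyFunctor (ModuleCat.{u} A) t).map f₂ := h
    have h' : iso.hom.app M ≫ g₁ ≫ iso.inv.app N = iso.hom.app M ≫ g₂ ≫ iso.inv.app N := by
      rw [← key, ← key, hg₁, hg₂]; exact h0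
    have h'' : g₁ = g₂ := by
      have := congrArg (fun x => iso.inv.app M ≫ x ≫ iso.hom.app N) h'
      simpa using this
    rw [← hg₁, ← hg₂, h'']
  · intro h
    let g : M ⟶ N := iso.inv.app M ≫ h ≫ iso.hom.app N
    refine ⟨(singleFunctor (ModuleCat.{u} A) t).map g, ?_⟩
    change (homologyFunctor (ModuleCat.{u} A) t).map _ = h
    rw [key]
    simp [g]

/-- maps from `D^{≤ t}` to `D^{[t,t]}` are detected on `H^t` -/
theorem bijective_homology_map (t : ℤ) (L S : Dual.D A) [L.IsLE t] [S.IsGE t] [S.IsLE t] :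
    Function.Bijective (fun f : L ⟶ S => (homologyFunctor (ModuleCat.{u} A) t).map f) := by
  -- first the case where `L` is also in `D^{≥ t}`
  have h1 : ∀ (L' : Dual.D A) [L'.IsLE t] [L'.IsGE t],
      Function.Bijective (fun f : L' ⟶ S => (homologyFunctor (ModuleCat.{u} A) t).map f) := by
    intro L' _ _
    obtain ⟨M, ⟨eL⟩⟩ := exists_iso_singleFunctor_obj_of_isGE_of_isLE L' t
    obtain ⟨N, ⟨eS⟩⟩ := exists_iso_singleFunctor_obj_of_isGE_of_isLE S t
    have hb := bijective_homology_map_single t M N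
    constructor
    · intro f₁ f₂ h
      have h' : eL.inv ≫ f₁ ≫ eS.hom = eL.inv ≫ f₂ ≫ eS.hom := by
        apply hb.1
        change (homologyFunctor (ModuleCat.{u} A) t).map _ =
          (homologyFunctor (ModuleCat.{u} A) t).map _
        simp only [Functor.map_comp]
        have h2 : (homologyFunctor (ModuleCat.{u} A) t).map f₁ =
          (homologyFunctor (ModuleCat.{u} A) t).map f₂ := h
        rw [h2]
      rw [cancel_epi, cancel_mono] at h'
      exact h'
    · intro h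
      obtain ⟨f, hf⟩ := hb.2 ((homologyFunctor (ModuleCat.{u} A) t).map eL.inv ≫ h ≫
        (homologyFunctor (ModuleCat.{u} A) t).map eS.hom)
      refine ⟨eL.hom ≫ f ≫ eS.inv, ?_⟩
      change (homologyFunctor (ModuleCat.{u} A) t).map _ = h
      have hf' : (homologyFunctor (ModuleCat.{u} A) t).map f = _ := hf
      simp only [Functor.map_comp, hf', assoc]
      rw [← Functor.map_comp_assoc, Iso.hom_inv_id, CategoryTheory.Functor.map_id, id_comp,
        ← Functor.map_comp, Iso.hom_inv_id, CategoryTheory.Functor.map_id, comp_id]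
  let π := ((tR A).truncGEπ t).app L
  let τ := ((tR A).truncGE t).obj L
  haveI : τ.IsGE t := inferInstanceAs ((tR A).IsGE (((tR A).truncGE t).obj L) t)
  haveI : τ.IsLE t := inferInstanceAs ((tR A).IsLE (((tR A).truncGE t).obj L) t)
  haveI : (Triangle.mk (((tR A).truncLTι t).app L) (((tR A).truncGEπ t).app L)
      (((tR A).truncGEδLT t).app L)).obj₁.IsLE (t - 1) :=
    inferInstanceAs ((tR A).IsLE (((tR A).truncLT t).obj L) (t - 1))
  haveI hπ : IsIso ((homologyFunctor (ModuleCat.{u} A) t).map π) :=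
    isIso_homology_mor₂ _ (triangleLTGE_dist t L) t t le_rfl
  have hτ := h1 τ
  constructor
  · intro f₁ f₂ h
    have h0 : (homologyFunctor (ModuleCat.{u} A) t).map f₁ =
      (homologyFunctor (ModuleCat.{u} A) t).map f₂ := h
    haveI : (tR A).IsGE S t := inferInstanceAs (S.IsGE t)
    have e₁ : π ≫ (tR A).descTruncGE f₁ t = f₁ := (tR A).π_descTruncGE f₁ t
    have e₂ : π ≫ (tR A).descTruncGE f₂ t = f₂ := (tR A).π_descTruncGE f₂ t
    have h' : (tR A).descTruncGE f₁ t = (tR A).descTruncGE f₂ t := by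
      apply hτ.1
      change (homologyFunctor (ModuleCat.{u} A) t).map _ =
        (homologyFunctor (ModuleCat.{u} A) t).map _
      rw [← cancel_epi ((homologyFunctor (ModuleCat.{u} A) t).map π), ← Functor.map_comp,
        ← Functor.map_comp, e₁, e₂, h0]
    rw [← e₁, ← e₂, h']
  · intro h
    obtain ⟨f', hf'⟩ := hτ.2 (inv ((homologyFunctor (ModuleCat.{u} A) t).map π) ≫ h)
    refine ⟨π ≫ f', ?_⟩
    change (homologyFunctor (ModuleCat.{u} A) t).map _ = h
    have hf'' : (homologyFunctor (ModuleCat.{u} A) t).map f' = _ := hf'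
    rw [Functor.map_comp, hf'', IsIso.hom_inv_id_assoc]

end theta

section ev

/-- the canonical generator of `H^c(A[-c])` -/
noncomputable def gam (A : Type u) [CommRing A] (c : ℤ) :
    (homologyFunctor (ModuleCat.{u} A) c).obj (G A c) :=
  ((singleFunctorCompHomologyFunctorIso (ModuleCat.{u} A) c).inv.app (ModuleCat.of A A)).hom
    (1 : A)

/-- every class in `H^c(K)` is the image of the generator under a map `A[-c] ⟶ K` -/
theorem exists_homG_of_homology (c : ℤ) (K : Dual.D A)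
    (x : (homologyFunctor (ModuleCat.{u} A) c).obj K) :
    ∃ φ : G A c ⟶ K, ((homologyFunctor (ModuleCat.{u} A) c).map φ).hom (gam A c) = x := by
  let iso : singleFunctor (ModuleCat.{u} A) c ⋙ homologyFunctor (ModuleCat.{u} A) c ≅ 𝟭 _ :=
    singleFunctorCompHomologyFunctorIso (ModuleCat.{u} A) c
  let Y := ((tR A).truncGE c).obj K
  let π : K ⟶ Y := ((tR A).truncGEπ c).app K
  let ι : mid c K ⟶ Y := ((tR A).truncLTι (c + 1)).app Y
  haveI : (Triangle.mk (((tR A).truncLTι c).app K) (((tR A).truncGEπ c).app K)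
      (((tR A).truncGEδLT c).app K)).obj₁.IsLE (c - 1) :=
    inferInstanceAs ((tR A).IsLE (((tR A).truncLT c).obj K) (c - 1))
  haveI hπ : IsIso ((homologyFunctor (ModuleCat.{u} A) c).map π) :=
    isIso_homology_mor₂ _ (triangleLTGE_dist c K) c c le_rfl
  haveI hι : IsIso ((homologyFunctor (ModuleCat.{u} A) c).map ι) :=
    isIso_homology_truncLTι (c + 1) c (by omega) Y
  let y : (homologyFunctor (ModuleCat.{u} A) c).obj (mid c K) :=
    (inv ((homologyFunctor (ModuleCat.{u} A) c).map ι)).hom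
      (((homologyFunctor (ModuleCat.{u} A) c).map π).hom x)
  let h : (homologyFunctor (ModuleCat.{u} A) c).obj (G A c) ⟶
      (homologyFunctor (ModuleCat.{u} A) c).obj (mid c K) :=
    iso.hom.app (ModuleCat.of A A) ≫ ModuleCat.ofHom (LinearMap.toSpanSingleton A _ y)
  have hh : h.hom (gam A c) = y := by
    change (LinearMap.toSpanSingleton A _ y) ((iso.hom.app (ModuleCat.of A A)).hom
      ((iso.inv.app (ModuleCat.of A A)).hom (1 : A))) = y
    have : (iso.hom.app (ModuleCat.of A A)).hom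
      ((iso.inv.app (ModuleCat.of A A)).hom (1 : A)) = (1 : A) := by
      have h1 := iso.inv_hom_id_app (ModuleCat.of A A)
      exact congrArg (fun f => f.hom (1 : A)) h1
    rw [this, LinearMap.toSpanSingleton_apply, one_smul]
  obtain ⟨ψ₁, hψ₁⟩ := (bijective_homology_map c (G A c) (mid c K)).2 h
  have hψ₁' : (homologyFunctor (ModuleCat.{u} A) c).map ψ₁ = h := hψ₁
  obtain ⟨φ, hφ⟩ := (bij1 c K).2 (ψ₁ ≫ ι)
  have hφ' : φ ≫ π = ψ₁ ≫ ι := hφ
  refine ⟨φ, ?_⟩
  have hinj : Function.Injective ((homologyFunctor (ModuleCat.{u} A) c).map π).hom :=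
    ((ConcreteCategory.isIso_iff_bijective _).1 hπ).1
  apply hinj
  have e1 : ((homologyFunctor (ModuleCat.{u} A) c).map π).hom
      (((homologyFunctor (ModuleCat.{u} A) c).map φ).hom (gam A c)) =
      ((homologyFunctor (ModuleCat.{u} A) c).map (φ ≫ π)).hom (gam A c) := by
    rw [Functor.map_comp]; rfl
  rw [e1, hφ', Functor.map_comp, hψ₁']
  change ((homologyFunctor (ModuleCat.{u} A) c).map ι).hom (h.hom (gam A c)) = _
  rw [hh]
  change ((inv ((homologyFunctor (ModuleCat.{u} A) c).map ι)) ≫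
    (homologyFunctor (ModuleCat.{u} A) c).map ι).hom _ = _
  rw [IsIso.inv_hom_id]
  rfl

end ev

section nak

variable [IsLocalRing A]

/-- the residue field as a module -/
noncomputable abbrev kap (A : Type u) [CommRing A] [IsLocalRing A] : ModuleCat.{u} A :=
  ModuleCat.of A (A ⧸ IsLocalRing.maximalIdeal A)

/-- `κ[-t]` -/
noncomputable abbrev Sk (A : Type u) [CommRing A] [IsLocalRing A] (t : ℤ) : Dual.D A :=
  (singleFunctor (ModuleCat.{u} A) t).obj (kap A)

/-- a nonzero finite module over a local ring has a nonzero map to the residue field -/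
lemma exists_ne_zero_to_residue (M : Type u) [AddCommGroup M] [Module A M] [Module.Finite A M]
    [Nontrivial M] : ∃ g : M →ₗ[A] (A ⧸ IsLocalRing.maximalIdeal A), g ≠ 0 := by
  let m := IsLocalRing.maximalIdeal A
  have hne : m • (⊤ : Submodule A M) ≠ ⊤ := by
    intro h
    have h1 : (⊤ : Submodule A M) = ⊥ :=
      Submodule.eq_bot_of_le_smul_of_le_jacobson_bot m ⊤ Module.Finite.fg_top (by rw [h])
        (by rw [IsLocalRing.jacobson_eq_maximalIdeal ⊥ bot_ne_top])
    exact top_ne_bot h1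
  haveI : Nontrivial (M ⧸ m • (⊤ : Submodule A M)) := Submodule.Quotient.nontrivial_iff.2 hne
  have hk : ∀ a ∈ m, ∀ v : M ⧸ m • (⊤ : Submodule A M), a • v = 0 := by
    intro a ha v
    obtain ⟨x, rfl⟩ := Submodule.Quotient.mk_surjective _ v
    rw [← Submodule.Quotient.mk_smul, Submodule.Quotient.mk_eq_zero]
    exact Submodule.smul_mem_smul ha Submodule.mem_top
  obtain ⟨i, p, hip⟩ := exists_retract_of_killed m _ hk
  refine ⟨p ∘ₗ (m • (⊤ : Submodule A M)).mkQ, ?_⟩
  intro h0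
  have h1 : p (i 1) = 1 := by
    have := congrArg (fun f => f (1 : A ⧸ m)) hip
    simpa using this
  obtain ⟨x, hx⟩ := Submodule.Quotient.mk_surjective _ (i 1)
  have h2 : (p ∘ₗ (m • (⊤ : Submodule A M)).mkQ) x = 1 := by
    rw [LinearMap.comp_apply, Submodule.mkQ_apply, hx, h1]
  rw [h0] at h2
  haveI : Nontrivial (A ⧸ m) := Ideal.Quotient.nontrivial_iff.2 (IsLocalRing.maximalIdeal.isMaximal A).ne_top
  exact zero_ne_one h2

/-- an object of `D^{≤ t}` with nonzero finite `H^t` has a nonzero map to `κ[-t]` -/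
theorem exists_ne_zero_hom_Sk (t : ℤ) (L : Dual.D A) [L.IsLE t]
    [Module.Finite A ((homologyFunctor (ModuleCat.{u} A) t).obj L)]
    [Nontrivial ((homologyFunctor (ModuleCat.{u} A) t).obj L)] :
    ∃ f : L ⟶ Sk A t, f ≠ 0 := by
  let iso : singleFunctor (ModuleCat.{u} A) t ⋙ homologyFunctor (ModuleCat.{u} A) t ≅ 𝟭 _ :=
    singleFunctorCompHomologyFunctorIso (ModuleCat.{u} A) t
  obtain ⟨g, hg⟩ := exists_ne_zero_to_residue (A := A)
    ((homologyFunctor (ModuleCat.{u} A) t).obj L)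
  let h : (homologyFunctor (ModuleCat.{u} A) t).obj L ⟶
      (homologyFunctor (ModuleCat.{u} A) t).obj (Sk A t) :=
    ModuleCat.ofHom g ≫ iso.inv.app (kap A)
  obtain ⟨f, hf⟩ := (bijective_homology_map t L (Sk A t)).2 h
  have hf' : (homologyFunctor (ModuleCat.{u} A) t).map f = h := hf
  refine ⟨f, ?_⟩
  intro h0
  rw [h0, Functor.map_zero] at hf'
  apply hg
  have h2 : ModuleCat.ofHom g = h ≫ iso.hom.app (kap A) := by
    simp [h]
  have h3 : ModuleCat.ofHom g = 0 := by rw [h2, ← hf', zero_comp]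
  exact congrArg ModuleCat.Hom.hom h3

/-- the top degree of a nonzero bounded above object -/
lemma exists_top_degree (L : Dual.D A) (b : ℤ)
    (hb : ∀ i : ℤ, b < i → IsZero ((homologyFunctor (ModuleCat.{u} A) i).obj L))
    (hL : ¬ IsZero L) :
    ∃ t : ℤ, L.IsLE t ∧ Nontrivial ((homologyFunctor (ModuleCat.{u} A) t).obj L) := by
  have hex : ∃ i : ℤ, Nontrivial ((homologyFunctor (ModuleCat.{u} A) i).obj L) := by
    by_contra hcon
    rw [not_exists] at hcon
    exact hL (isZero_of_forall_subsingleton_HD L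
      (fun i => not_nontrivial_iff_subsingleton.1 (hcon i)))
  obtain ⟨t, ht, hmax⟩ := Int.exists_greatest_of_bdd (P := fun i =>
    Nontrivial ((homologyFunctor (ModuleCat.{u} A) i).obj L)) ⟨b, fun z hz => by
      by_contra hzb
      haveI := ModuleCat.subsingleton_of_isZero (hb z (by omega))
      exact not_subsingleton _ ‹_›⟩ hex
  refine ⟨t, ?_, ht⟩
  rw [isLE_iff]
  intro i hi
  have : ¬ Nontrivial ((homologyFunctor (ModuleCat.{u} A) i).obj L) := fun h => by
    have := hmax i h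
    omega
  haveI := not_nontrivial_iff_subsingleton.1 this
  exact ModuleCat.isZero_of_subsingleton _

variable [IsNoetherianRing A]

/-- Nakayama's lemma for bounded above complexes with finite cohomology -/
theorem isZero_of_hom_Sk_eq_zero (K : Dual.D A) (hK : ∀ m : ℤ, IsPseudoCoherent A m K)
    (h : ∀ (s : ℤ) (g : K ⟶ Sk A s), g = 0) : IsZero K := by
  by_contra hcon
  obtain ⟨⟨b, hb⟩, -⟩ := (Groth.Agent.H4.PC.isPC_iff_of_noetherian 0 K).1 (hK 0)
  obtain ⟨t, ht, hnt⟩ := exists_top_degree K b hb hcon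
  haveI := ht
  haveI : Module.Finite A ((homologyFunctor (ModuleCat.{u} A) t).obj K) :=
    ((Groth.Agent.H4.PC.isPC_iff_of_noetherian t K).1 (hK t)).2 t le_rfl
  obtain ⟨f, hf⟩ := exists_ne_zero_hom_Sk t K
  exact hf (h t f)

/-- bounded above objects with finite cohomology are pseudo-coherent -/
lemma isPC_of_finite (L : Dual.D A) (hfin : ∀ i : ℤ, Module.Finite A (Dual.HD A L i)) (b : ℤ)
    (hb : ∀ i : ℤ, b < i → Subsingleton (Dual.HD A L i)) (m : ℤ) : IsPseudoCoherent A m L := by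
  rw [Groth.Agent.H4.PC.isPC_iff_of_noetherian]
  refine ⟨⟨b, fun i hi => ?_⟩, fun i _ => hfin i⟩
  haveI := hb i hi
  exact ModuleCat.isZero_of_subsingleton _

lemma isPC_G (t m : ℤ) : IsPseudoCoherent A m (G A t) := by
  refine isPC_of_finite (G A t) (fun i => ?_) t (fun i hi => ?_) m
  · by_cases hi : i = t
    · subst hi
      haveI : Module.Finite A ((𝟭 (ModuleCat.{u} A)).obj (ModuleCat.of A A)) :=
        inferInstanceAs (Module.Finite A A)
      exact Module.Finite.equiv ((singleFunctorCompHomologyFunctorIso (ModuleCat.{u} A) i).app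
        (ModuleCat.of A A)).toLinearEquiv.symm
    · haveI : Subsingleton (Dual.HD A (G A t) i) := by
        apply ModuleCat.subsingleton_of_isZero
        rcases lt_or_gt_of_ne hi with h | h
        · exact isZero_of_isGE (G A t) t i h
        · exact isZero_of_isLE (G A t) t i h
      infer_instance
  · exact ModuleCat.subsingleton_of_isZero (isZero_of_isLE (G A t) t i hi)

/-- the key Nakayama-type statement: an object of `D^-_coh` whose maps to the shifts of the
residue field look like those of `A[-t₀]` is isomorphic to `A[-t₀]`. -/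
theorem nonempty_iso_G_of_hom_residue (L : Dual.D A)
    (hfin : ∀ i : ℤ, Module.Finite A (Dual.HD A L i)) (b : ℤ)
    (hb : ∀ i : ℤ, b < i → Subsingleton (Dual.HD A L i)) (t₀ : ℤ)
    (h0 : ∀ t : ℤ, t ≠ t₀ → Subsingleton (L ⟶ Sk A t))
    (h1 : Nonempty ((L ⟶ Sk A t₀) ≃ₗ[A] (A ⧸ IsLocalRing.maximalIdeal A))) :
    Nonempty (G A t₀ ≅ L) := by
  obtain ⟨e1⟩ := h1
  let m := IsLocalRing.maximalIdeal A
  haveI : Nontrivial (A ⧸ m) :=
    Ideal.Quotient.nontrivial_iff.2 (IsLocalRing.maximalIdeal.isMaximal A).ne_top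
  haveI hsimple : IsSimpleModule A (A ⧸ m) := by
    rw [isSimpleModule_iff_isCoatom]
    exact Ideal.isMaximal_def.1 (IsLocalRing.maximalIdeal.isMaximal A)
  have hLpc : ∀ m : ℤ, IsPseudoCoherent A m L := isPC_of_finite L hfin b hb
  -- `L` is not zero
  have hL : ¬ IsZero L := by
    intro hz
    haveI : Subsingleton (L ⟶ Sk A t₀) := ⟨fun f g => hz.eq_of_src f g⟩
    exact not_subsingleton (A ⧸ m) e1.symm.toEquiv.subsingleton
  obtain ⟨t, ht, hnt⟩ := exists_top_degree L b
    (fun i hi => by haveI := hb i hi; exact ModuleCat.isZero_of_subsingleton _) hL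
  haveI := ht
  haveI : Module.Finite A ((homologyFunctor (ModuleCat.{u} A) t).obj L) := hfin t
  obtain ⟨f, hf⟩ := exists_ne_zero_hom_Sk t L
  obtain rfl : t = t₀ := by
    by_contra hne
    haveI := h0 t hne
    exact hf (Subsingleton.elim _ _)
  -- the map `φ`
  have hHf : (homologyFunctor (ModuleCat.{u} A) t).map f ≠ 0 := by
    intro h
    apply hf
    apply (bijective_homology_map t L (Sk A t)).1
    change (homologyFunctor (ModuleCat.{u} A) t).map f = (homologyFunctor (ModuleCat.{u} A) t).map 0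
    rw [h, Functor.map_zero]
  obtain ⟨ξ, hξ⟩ : ∃ ξ, ((homologyFunctor (ModuleCat.{u} A) t).map f).hom ξ ≠ 0 := by
    by_contra hcon
    rw [not_exists] at hcon
    apply hHf
    apply ModuleCat.hom_ext
    apply LinearMap.ext
    intro x
    exact not_not.1 (hcon x)
  obtain ⟨φ, hφ⟩ := exists_homG_of_homology t L ξ
  have hφf : φ ≫ f ≠ 0 := by
    intro h
    apply hξ
    rw [← hφ]
    change ((homologyFunctor (ModuleCat.{u} A) t).map φ ≫
      (homologyFunctor (ModuleCat.{u} A) t).map f).hom (gam A t) = 0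
    rw [← Functor.map_comp, h, Functor.map_zero]
    rfl
  -- `φ^*` is bijective on `Hom(-, κ[-t])`
  haveI : IsSimpleModule A (L ⟶ Sk A t) := IsSimpleModule.congr e1
  obtain ⟨e2⟩ := nonempty_homG_equiv t (Sk A t)
  let e3 : (G A t ⟶ Sk A t) ≃ₗ[A] (A ⧸ m) :=
    e2.trans ((singleFunctorCompHomologyFunctorIso (ModuleCat.{u} A) t).app (kap A)).toLinearEquiv
  haveI : IsSimpleModule A (G A t ⟶ Sk A t) := IsSimpleModule.congr e3
  have hne : Linear.leftComp A (Sk A t) φ ≠ 0 := by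
    intro h
    apply hφf
    have := congrArg (fun l => l f) h
    exact this
  have hinj : Function.Injective (Linear.leftComp A (Sk A t) φ) :=
    LinearMap.injective_of_ne_zero hne
  have hsurj : Function.Surjective (Linear.leftComp A (Sk A t) φ) :=
    LinearMap.surjective_of_ne_zero hne
  -- the cone
  obtain ⟨C, u, v, hT⟩ := distinguished_cocone_triangle φ
  have hGle : ((G A t)⟦(1 : ℤ)⟧).IsLE (t - 1) :=
    (tR A).isLE_shift (G A t) t 1 (t - 1) (by omega)
  have hCz : ∀ (s : ℤ) (g : C ⟶ Sk A s), g = 0 := by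
    intro s g
    by_cases hs : s = t
    · subst hs
      have h2 : u ≫ g = 0 := by
        apply hinj
        change φ ≫ u ≫ g = φ ≫ 0
        have h3 := comp_distTriang_mor_zero₁₂ _ hT
        change φ ≫ u = 0 at h3
        rw [← assoc, h3, zero_comp, comp_zero]
      obtain ⟨g', hg'⟩ := Triangle.yoneda_exact₃ _ hT g h2
      change (G A s)⟦(1 : ℤ)⟧ ⟶ Sk A s at g'
      haveI := hGle
      have : g' = 0 := (tR A).zero g' (s - 1) s (by omega)
      rw [hg', this]
      exact comp_zero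
    · have h2 : u ≫ g = 0 := by
        haveI := h0 s hs
        exact Subsingleton.elim _ _
      obtain ⟨g', hg'⟩ := Triangle.yoneda_exact₃ _ hT g h2
      change (G A t)⟦(1 : ℤ)⟧ ⟶ Sk A s at g'
      by_cases hs1 : s = t - 1
      · -- the interesting case
        let e : Sk A s ≅ (Sk A t)⟦(1 : ℤ)⟧ :=
          (((singleFunctors (ModuleCat.{u} A)).shiftIso 1 s t (by omega)).app (kap A)).symm
        obtain ⟨ψ, hψ⟩ := (shiftFunctor (Dual.D A) (1 : ℤ)).map_surjective (g' ≫ e.hom)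
        obtain ⟨f', hf'⟩ := hsurj ψ
        have hf'' : φ ≫ f' = ψ := hf'
        have h3 : v ≫ g' ≫ e.hom = 0 := by
          rw [← hψ, ← hf'', Functor.map_comp, ← assoc]
          have := comp_distTriang_mor_zero₃₁ _ hT
          change v ≫ φ⟦(1 : ℤ)⟧' = 0 at this
          rw [this, zero_comp]
        have h4 : v ≫ g' = 0 := by
          rw [← cancel_mono e.hom, assoc, h3, zero_comp]
        rw [hg']
        exact h4
      · have : g' = 0 := by
          rcases lt_or_gt_of_ne hs1 with h | h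
          · -- `s < t - 1`
            let e : (G A t)⟦(1 : ℤ)⟧ ≅ G A (t - 1) :=
              ((singleFunctors (ModuleCat.{u} A)).shiftIso 1 (t - 1) t (by omega)).app
                (ModuleCat.of A A)
            have h5 : e.inv ≫ g' = 0 :=
              homG_eq_zero_of_isLE (t - 1) s h (Sk A s) inferInstance _
            rw [← cancel_epi e.inv, h5, comp_zero]
          · haveI := hGle
            exact (tR A).zero g' (t - 1) s (by omega)
        rw [hg', this]
        exact comp_zero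
  -- `C` is pseudo-coherent, hence zero
  have hCpc : ∀ m : ℤ, IsPseudoCoherent A m C := fun m =>
    Groth.Agent.H4.PC.isPC_obj₃ _ hT m (isPC_G t (m + 1)) (hLpc m)
  have hC0 : IsZero C := isZero_of_hom_Sk_eq_zero C hCpc hCz
  haveI : IsIso φ := (Triangle.isZero₃_iff_isIso₁ _ hT).1 hC0
  exact ⟨asIso φ⟩

end nak

section uniq

variable [IsLocalRing A] [IsNoetherianRing A]

omit [IsLocalRing A] [IsNoetherianRing A] in
theorem isLE_of_injAmp (ω : Dual.D A) (a b : ℤ) (h : HasInjAmplitudeIn A a b ω) : ω.IsLE b := by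
  obtain ⟨E, hE, -, ⟨e⟩⟩ := h
  haveI : (Q.obj E).IsLE b := by
    rw [isLE_Q_obj_iff, CochainComplex.isLE_iff]
    intro i hi
    exact HomologicalComplex.ExactAt.of_isZero (hE i (Or.inr hi))
  exact TStructure.t.isLE_of_iso e b

omit [IsNoetherianRing A] in
/-- maps from `κ[-t]` to shifts of `ω` -/
lemma nonempty_hom_Sk_equiv (ω : Dual.D A) (t j : ℤ) :
    Nonempty ((Sk A t ⟶ ω⟦j⟧) ≃ₗ[A] (Sk A 0 ⟶ ω⟦j + t⟧)) := by
  let eT : Sk A t ≅ (Sk A 0)⟦-t⟧ :=
    (((singleFunctors (ModuleCat.{u} A)).shiftIso (-t) t 0 (by simp)).app (kap A)).symm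
  exact ⟨((isoHomLinEquiv eT (ω⟦j⟧)).trans (shiftHomLinEquiv (Sk A 0) (ω⟦j⟧) (-t) t (by simp))).trans
    (homIsoLinEquiv (Sk A 0)
      ((CategoryTheory.shiftFunctorAdd' (Dual.D A) j t (j + t) rfl).app ω).symm)⟩

/-- the data provided by S0364 -/
structure ExtData (ω : Dual.D A) (n : ℤ) : Prop where
  van : ∀ i : ℤ, i ≠ n → Subsingleton (Sk A 0 ⟶ ω⟦i⟧)
  top : ∀ i : ℤ, i = n → Nonempty ((Sk A 0 ⟶ ω⟦i⟧) ≃ₗ[A] (A ⧸ IsLocalRing.maximalIdeal A))

lemma exists_extData (ω : Dual.D A) (hω : Dual.IsDualizing A ω) : ∃ n : ℤ, ExtData ω n := by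
  obtain ⟨n, h1, h2⟩ := Groth.Agent.H4.DZ4.S0364 A ω hω (IsLocalRing.maximalIdeal A)
  exact ⟨n, h1, fun i hi => by subst hi; exact h2⟩

/-- the dual of `κ[-t]` is `κ[-(n - t)]` -/
lemma nonempty_dual_Sk_iso (ω : Dual.D A) (n : ℤ) (hn : ExtData ω n) (t : ℤ) :
    Nonempty ((RHomR A (Sk A t)).obj ω ≅ Sk A (n - t)) := by
  have hz : ∀ j : ℤ, j ≠ n - t →
      IsZero ((homologyFunctor (ModuleCat.{u} A) j).obj ((RHomR A (Sk A t)).obj ω)) := by
    intro j hj
    obtain ⟨e1⟩ := nonempty_extLinEquiv (Sk A t) ω j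
    obtain ⟨e2⟩ := nonempty_hom_Sk_equiv ω t j
    haveI := hn.van (j + t) (by omega)
    haveI : Subsingleton ((homologyFunctor (ModuleCat.{u} A) j).obj ((RHomR A (Sk A t)).obj ω)) :=
      (e1.trans e2).toEquiv.subsingleton
    exact ModuleCat.isZero_of_subsingleton _
  haveI : ((RHomR A (Sk A t)).obj ω).IsGE (n - t) := by
    rw [isGE_iff]
    intro i hi
    exact hz i (by omega)
  haveI : ((RHomR A (Sk A t)).obj ω).IsLE (n - t) := by
    rw [isLE_iff]
    intro i hi
    exact hz i (by omega)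
  obtain ⟨e0⟩ := Groth.Agent.H4.PC.exists_iso_single ((RHomR A (Sk A t)).obj ω) (n - t)
  obtain ⟨e1⟩ := nonempty_extLinEquiv (Sk A t) ω (n - t)
  obtain ⟨e2⟩ := nonempty_hom_Sk_equiv ω t (n - t)
  obtain ⟨e3⟩ := hn.top (n - t + t) (by omega)
  exact ⟨e0 ≪≫ (singleFunctor (ModuleCat.{u} A) (n - t)).mapIso
    ((e1.trans e2).trans e3).toModuleIso⟩

omit [IsNoetherianRing A] in
lemma finite_HD_Sk (t i : ℤ) : Module.Finite A (Dual.HD A (Sk A t) i) := by
  by_cases hi : i = t
  · subst hi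
    haveI : Module.Finite A ((𝟭 (ModuleCat.{u} A)).obj (kap A)) :=
      inferInstanceAs (Module.Finite A (A ⧸ IsLocalRing.maximalIdeal A))
    exact Module.Finite.equiv ((singleFunctorCompHomologyFunctorIso (ModuleCat.{u} A) i).app
      (kap A)).toLinearEquiv.symm
  · haveI : Subsingleton (Dual.HD A (Sk A t) i) := by
      apply ModuleCat.subsingleton_of_isZero
      rcases lt_or_gt_of_ne hi with h | h
      · exact isZero_of_isGE (Sk A t) t i h
      · exact isZero_of_isLE (Sk A t) t i h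
    infer_instance

/-- maps from `RHom(ω, ω')` to `κ[-t]` -/
theorem nonempty_hom_RHom_Sk_equiv (ω ω' : Dual.D A) (hω : Dual.IsDualizing A ω)
    (hω' : Dual.IsDualizing A ω') (n' : ℤ) (hn' : ExtData ω' n') (t : ℤ) :
    Nonempty (((RHomR A ω).obj ω' ⟶ Sk A t) ≃ₗ[A] (Sk A 0 ⟶ ω⟦(0 : ℤ) + (n' - t)⟧)) := by
  let L := (RHomR A ω).obj ω'
  let X := (RHomR A (Sk A t)).obj ω'
  obtain ⟨bid⟩ := Groth.Agent.H4.DZ3.nonempty_bidual_iso ω' hω' (Sk A t) (finite_HD_Sk t)
  obtain ⟨bidω⟩ := Groth.Agent.H4.DZ3.nonempty_bidual_iso ω' hω' ω hω.finite_cohomology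
  obtain ⟨eX⟩ := nonempty_dual_Sk_iso ω' n' hn' t
  obtain ⟨eg⟩ := nonempty_hom_Sk_equiv ω (n' - t) 0
  let ea : (L ⟶ Sk A t) ≃ₗ[A] (L ⟶ (RHomR A X).obj ω') := homIsoLinEquiv L bid.symm
  let eb : ((tensorRightD A X).obj L ⟶ ω') ≃ₗ[A] (L ⟶ (RHomR A X).obj ω') :=
    homLinEquiv (rhomAdj A X) (good_RHomR X).lin L ω'
  haveI := Groth.Agent.H4.LK4.isIso_symm_app X L
  let σ : (tensorRightD A X).obj L ≅ (tensorRightD A L).obj X :=
    asIso ((DTen.symm A).app (X, L))
  let ec : ((tensorRightD A X).obj L ⟶ ω') ≃ₗ[A] ((tensorRightD A L).obj X ⟶ ω') :=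
    isoHomLinEquiv σ ω'
  let ed : ((tensorRightD A L).obj X ⟶ ω') ≃ₗ[A] (X ⟶ (RHomR A L).obj ω') :=
    homLinEquiv (rhomAdj A L) (good_RHomR L).lin X ω'
  let ee : (X ⟶ (RHomR A L).obj ω') ≃ₗ[A] (X ⟶ ω) := homIsoLinEquiv X bidω
  let ef : (X ⟶ ω) ≃ₗ[A] (Sk A (n' - t) ⟶ ω) := isoHomLinEquiv eX ω
  let eh : (Sk A (n' - t) ⟶ ω) ≃ₗ[A] (Sk A (n' - t) ⟶ ω⟦(0 : ℤ)⟧) :=
    homIsoLinEquiv _ ((CategoryTheory.shiftFunctorZero (Dual.D A) ℤ).app ω).symm
  exact ⟨((((((ea.trans eb.symm).trans ec).trans ed).trans ee).trans ef).trans eh).trans eg⟩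

/-- `RHom(ω, ω') ≅ A[-(n' - n)]` -/
theorem nonempty_RHom_dualizing_iso (ω ω' : Dual.D A) (hω : Dual.IsDualizing A ω)
    (hω' : Dual.IsDualizing A ω') (n n' : ℤ) (hn : ExtData ω n) (hn' : ExtData ω' n') :
    Nonempty (G A (n' - n) ≅ (RHomR A ω).obj ω') := by
  obtain ⟨a, b, hab⟩ := exists_injAmp_of_isDualizing ω hω
  obtain ⟨a', b', hab'⟩ := exists_injAmp_of_isDualizing ω' hω'
  haveI := isGE_of_injAmp ω a b hab
  haveI : ((RHomR A ω).obj ω').IsLE (b' - a) :=
    Groth.Agent.H4.AP2.isLE_RHom_of_injAmp ω ω' a a' b' hab'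
  refine nonempty_iso_G_of_hom_residue ((RHomR A ω).obj ω')
    (fun i => finite_HD_RHomR ω' hω' ω hω.finite_cohomology i) (b' - a)
    (fun i hi => ModuleCat.subsingleton_of_isZero
      (isZero_of_isLE ((RHomR A ω).obj ω') (b' - a) i hi)) (n' - n) ?_ ?_
  · intro t ht
    obtain ⟨e⟩ := nonempty_hom_RHom_Sk_equiv ω ω' hω hω' n' hn' t
    haveI := hn.van (0 + (n' - t)) (by omega)
    exact e.toEquiv.subsingleton
  · obtain ⟨e⟩ := nonempty_hom_RHom_Sk_equiv ω ω' hω hω' n' hn' (n' - n)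
    obtain ⟨e'⟩ := hn.top (0 + (n' - (n' - n))) (by omega)
    exact ⟨e.trans e'⟩

theorem S1747 (A : Type u) [CommRing A] [IsLocalRing A] [IsNoetherianRing A] (ω ω' : Dual.D A)
    (hω : Dual.IsDualizing A ω) (hω' : Dual.IsDualizing A ω') :
    ∃ n : ℤ, Nonempty (ω' ≅ ω⟦n⟧) := by
  obtain ⟨n, hn⟩ := exists_extData ω hω
  obtain ⟨n', hn'⟩ := exists_extData ω' hω'
  obtain ⟨eL⟩ := nonempty_RHom_dualizing_iso ω ω' hω hω' n n' hn hn'
  obtain ⟨a, b, hab⟩ := exists_injAmp_of_isDualizing ω hω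
  obtain ⟨a', b', hab'⟩ := exists_injAmp_of_isDualizing ω' hω'
  haveI := isGE_of_injAmp ω a b hab
  haveI := isLE_of_injAmp ω a b hab
  have hpc : IsPseudoCoherent' A ω :=
    Groth.Agent.H4.PC.isPC'_of_forall_isPC ω (isPC_of_finite ω hω.finite_cohomology b
      (fun i hi => ModuleCat.subsingleton_of_isZero (isZero_of_isLE ω b i hi)))
  haveI := Groth.Agent.H4.AP2.isIso_evalHom_of_isPseudoCoherent ω ω ω' hpc a ⟨a', b', hab'⟩
  obtain ⟨eR⟩ := nonempty_RHomR_self_iso ω hω
  let e1 : tO((RHomR A ω).obj ω', ω) ≅ ω' :=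
    asIso (evalHom ω ω ω') ≪≫ RHomIso eR.symm ω' ≪≫ Groth.Agent.H4.KI8.RHomRUnitIso.app ω'
  let e2 : G A (n' - n) ≅ (Dual.inD A A)⟦-(n' - n)⟧ :=
    (((singleFunctors (ModuleCat.{u} A)).shiftIso (-(n' - n)) (n' - n) 0 (by simp)).app
      (ModuleCat.of A A)).symm
  obtain ⟨e3⟩ := nonempty_tO_unitShift_left_iso ω (-(n' - n))
  exact ⟨-(n' - n), ⟨e1.symm ≪≫ ((LTen A).mapIso (eL.symm ≪≫ e2)).app ω ≪≫ e3⟩⟩

end uniq

end Groth.Agent.H4.DZ5
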