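import Mathlib
import Groth.Agent.H4.DNak2

set_option autoImplicit false
universe u
open CategoryTheory CategoryTheory.Limits

namespace Groth.Agent.H4.TorAR2

attribute [local instance] HasDerivedCategory.standard
open DerivedCategory DRing Pretriangulated Groth.Agent.H4.DNak2

variable {A : Type u} [CommRing A]

/-- in a distinguished triangle, the annihilators of the first two vertices multiply into the
annihilator of the third. -/
lemma smul_obj₃ (T : Triangle (Dual.D A)) (hT : T ∈ distinguishedTriangles) (g g' : A)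
    (hg : g • 𝟙 T.obj₁ = 0) (hg' : g' • 𝟙 T.obj₂ = 0) : (g' * g) • 𝟙 T.obj₃ = 0 := by
  have h1 : (g • 𝟙 T.obj₃) ≫ T.mor₃ = 0 := by
    have h2 : g • 𝟙 (T.obj₁⟦(1 : ℤ)⟧) = 0 := by
      have := congrArg (fun t => (shiftFunctor (Dual.D A) (1 : ℤ)).map t) hg
      simpa [Functor.map_smul] using this
    rw [Linear.smul_comp, Category.id_comp, ← Category.comp_id T.mor₃, ← Linear.comp_smul, h2,
      comp_zero]
  obtain ⟨v, hv⟩ := Triangle.coyoneda_exact₃ T hT (g • 𝟙 T.obj₃) h1
  calc (g' * g) • 𝟙 T.obj₃ = g' • (v ≫ T.mor₂) := by rw [mul_smul, hv]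
    _ = v ≫ (g' • 𝟙 T.obj₂) ≫ T.mor₂ := by
        rw [Linear.smul_comp, Category.id_comp, Linear.comp_smul]
    _ = 0 := by rw [hg', zero_comp, comp_zero]

lemma smul_sq_obj₃ (T : Triangle (Dual.D A)) (hT : T ∈ distinguishedTriangles) (f : A)
    (h2 : f • T.mor₂ = 0) (h3 : f • T.mor₃ = 0) : (f * f) • 𝟙 T.obj₃ = 0 := by
  have h1 : T.mor₂ ≫ (f • 𝟙 T.obj₃) = 0 := by
    rw [Linear.comp_smul, Category.comp_id, h2]
  obtain ⟨w, hw⟩ := Triangle.yoneda_exact₃ T hT (f • 𝟙 T.obj₃) h1
  rw [mul_smul, hw, ← Linear.smul_comp, h3, zero_comp]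


/-- iterated cones of multiplication maps. -/
noncomputable def Kos : List A → Cx A → Cx A
  | [], E => E
  | f :: fs, E => Kf f (Kos fs E)

/-- the canonical map into the iterated cone. -/
noncomputable def kosι : ∀ (fs : List A) (E : Cx A), E ⟶ Kos fs E
  | [], E => 𝟙 E
  | f :: fs, E => kosι fs E ≫ CochainComplex.mappingCone.inr (f • 𝟙 (Kos fs E))

/-- the distinguished triangle of the cone of `f`. -/
noncomputable abbrev triKf (f : A) (E : Cx A) : Triangle (Dual.D A) :=
  Q.mapTriangle.obj (CochainComplex.mappingCone.triangle (f • 𝟙 E))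

lemma triKf_dist (f : A) (E : Cx A) : triKf f E ∈ distinguishedTriangles :=
  DerivedCategory.mappingCone_triangle_distinguished _

lemma triKf_mor₁ (f : A) (E : Cx A) : (triKf f E).mor₁ = f • 𝟙 (Q.obj E) := by
  change Q.map (f • 𝟙 E) = _
  rw [Functor.map_smul, CategoryTheory.Functor.map_id]

lemma smul_sq_Kf (f : A) (E : Cx A) : (f * f) • 𝟙 (Q.obj (Kf f E)) = 0 := by
  let ι : Q.obj E ⟶ Q.obj (Kf f E) := (triKf f E).mor₂
  let δ : Q.obj (Kf f E) ⟶ (Q.obj E)⟦(1 : ℤ)⟧ := (triKf f E).mor₃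
  refine smul_sq_obj₃ (triKf f E) (triKf_dist f E) f ?_ ?_
  · have h := comp_distTriang_mor_zero₁₂ _ (triKf_dist f E)
    rw [triKf_mor₁] at h
    have h' : (f • 𝟙 (Q.obj E)) ≫ ι = 0 := h
    rw [Linear.smul_comp, Category.id_comp] at h'
    exact h'
  · have h := comp_distTriang_mor_zero₃₁ _ (triKf_dist f E)
    rw [triKf_mor₁] at h
    have h' : δ ≫ (f • 𝟙 (Q.obj E))⟦(1 : ℤ)⟧' = 0 := h
    rw [Functor.map_smul, CategoryTheory.Functor.map_id, Linear.comp_smul, Category.comp_id] at h'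
    exact h'

lemma smul_Kf_of_smul (f g : A) (E : Cx A) (m : ℕ) (h : g ^ m • 𝟙 (Q.obj E) = 0) :
    g ^ (m + m) • 𝟙 (Q.obj (Kf f E)) = 0 := by
  rw [pow_add]
  exact smul_obj₃ (triKf f E) (triKf_dist f E) _ _ h h

lemma Kos_torsion : ∀ (fs : List A) (E : Cx A), ∀ g ∈ fs, ∃ m : ℕ, g ^ m • 𝟙 (Q.obj (Kos fs E)) = 0
  | [], E => fun g hg => by simp at hg
  | f :: fs, E => fun g hg => by
      rcases List.mem_cons.1 hg with rfl | hg
      · exact ⟨2, by rw [pow_two]; exact smul_sq_Kf g _⟩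
      · obtain ⟨m, hm⟩ := Kos_torsion fs E g hg
        exact ⟨m + m, smul_Kf_of_smul f g _ m hm⟩

lemma isLE_Kf (f : A) (E : Cx A) (b : ℤ) [(Q.obj E).IsLE b] : (Q.obj (Kf f E)).IsLE b := by
  have hT := rot_of_distTriang _ (triKf_dist f E)
  have h1 : TStructure.t.IsLE (triKf f E).rotate.obj₁ b := inferInstanceAs ((Q.obj E).IsLE b)
  have h3' : TStructure.t.IsLE (triKf f E).rotate.obj₃ (b - 1) :=
    TStructure.t.isLE_shift (Q.obj E) b 1 (b - 1) (by omega)
  have h3 : TStructure.t.IsLE (triKf f E).rotate.obj₃ b :=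
    TStructure.t.isLE_of_le _ (b - 1) b (by omega)
  exact TStructure.t.isLE₂ _ hT b h1 h3

lemma isGE_Kf (f : A) (E : Cx A) (a : ℤ) [(Q.obj E).IsGE a] : (Q.obj (Kf f E)).IsGE (a - 1) := by
  have hT := rot_of_distTriang _ (triKf_dist f E)
  have h1' : TStructure.t.IsGE (triKf f E).rotate.obj₁ a := inferInstanceAs ((Q.obj E).IsGE a)
  have h1 : TStructure.t.IsGE (triKf f E).rotate.obj₁ (a - 1) :=
    TStructure.t.isGE_of_ge _ (a - 1) a (by omega)
  have h3 : TStructure.t.IsGE (triKf f E).rotate.obj₃ (a - 1) :=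
    TStructure.t.isGE_shift (Q.obj E) a 1 (a - 1) (by omega)
  exact TStructure.t.isGE₂ _ hT (a - 1) h1 h3

lemma isLE_Kos : ∀ (fs : List A) (E : Cx A) (b : ℤ) [(Q.obj E).IsLE b], (Q.obj (Kos fs E)).IsLE b
  | [], E, b, h => h
  | f :: fs, E, b, h => by
      haveI := isLE_Kos fs E b
      exact isLE_Kf f _ b

lemma isGE_Kos : ∀ (fs : List A) (E : Cx A) (a : ℤ) [(Q.obj E).IsGE a],
    (Q.obj (Kos fs E)).IsGE (a - fs.length)
  | [], E, a, h => by
      change (Q.obj E).IsGE (a - (([] : List A).length : ℤ))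
      simpa using h
  | f :: fs, E, a, h => by
      haveI := isGE_Kos fs E a
      have := isGE_Kf f (Kos fs E) (a - fs.length)
      have e : a - (fs.length : ℤ) - 1 = a - ((f :: fs).length : ℤ) := by
        simp only [List.length_cons]; push_cast; ring
      rw [e] at this
      exact this


lemma homologyMap_smul'' {K L : Cx A} (r : A) (φ : K ⟶ L) (n : ℤ) :
    HomologicalComplex.homologyMap (r • φ) n = r • HomologicalComplex.homologyMap φ n := by
  have h : (HomologicalComplex.shortComplexFunctor (ModuleCat.{u} A) (ComplexShape.up ℤ) n).map (r • φ) =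
      r • (HomologicalComplex.shortComplexFunctor (ModuleCat.{u} A) (ComplexShape.up ℤ) n).map φ := by
    ext <;> rfl
  show ShortComplex.homologyMap _ = r • ShortComplex.homologyMap _
  rw [h, ShortComplex.homologyMap_smul]
  rfl

/-- an element killing the identity of `Q.obj E` kills its cohomology. -/
lemma smul_homology_eq_zero (E : Cx A) (g : A) (h : g • 𝟙 (Q.obj E) = 0) (q : ℤ)
    (y : (homologyFunctor (ModuleCat.{u} A) q).obj (Q.obj E)) : g • y = 0 := by
  have h1 : (homologyFunctor (ModuleCat.{u} A) q).map (g • 𝟙 (Q.obj E)) = 0 := by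
    rw [h, Functor.map_zero]
  have h2 : g • 𝟙 (Q.obj E) = Q.map (g • 𝟙 E) := by
    rw [Functor.map_smul, CategoryTheory.Functor.map_id]
  have h3 := (homologyFunctorFactors (ModuleCat.{u} A) q).hom.naturality (g • 𝟙 E)
  simp only [Functor.comp_map] at h3
  rw [h2] at h1
  rw [h1, zero_comp] at h3
  have h4 : HomologicalComplex.homologyMap (g • 𝟙 E) q = g • 𝟙 _ := by
    rw [homologyMap_smul'', HomologicalComplex.homologyMap_id]
  let α : (homologyFunctor (ModuleCat.{u} A) q).obj (Q.obj E) ⟶ E.homology q :=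
    (homologyFunctorFactors (ModuleCat.{u} A) q).hom.app E
  have h5 : α ≫ (g • 𝟙 (E.homology q)) = 0 := by
    rw [← h4]; exact h3.symm
  rw [Linear.comp_smul, Category.comp_id] at h5
  have h6 := congrArg (fun t => (ModuleCat.Hom.hom t) y) h5
  simp only [ModuleCat.hom_smul, LinearMap.smul_apply, ModuleCat.hom_zero, LinearMap.zero_apply] at h6
  haveI : IsIso α := inferInstanceAs (IsIso ((homologyFunctorFactors (ModuleCat.{u} A) q).hom.app E))
  have h7 : Function.Injective α.hom := (ModuleCat.mono_iff_injective _).1 inferInstance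
  apply h7
  rw [map_smul, map_zero]
  exact h6


theorem Kos_homology_torsion (fs : List A) (E : Cx A) (I : Ideal A)
    (hI : I ≤ Ideal.span {x | x ∈ fs}) (q : ℤ) :
    ∃ m : ℕ, ∀ x ∈ I ^ m, ∀ y : (homologyFunctor (ModuleCat.{u} A) q).obj (Q.obj (Kos fs E)),
      x • y = 0 := by
  let H := (homologyFunctor (ModuleCat.{u} A) q).obj (Q.obj (Kos fs E))
  let J : Ideal A := Ideal.span {x | x ∈ fs}
  have h1 : J ≤ (Module.annihilator A H).radical := by
    refine Ideal.span_le.2 (fun g hg => ?_)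
    obtain ⟨m, hm⟩ := Kos_torsion fs E g hg
    refine ⟨m, ?_⟩
    rw [Module.mem_annihilator]
    intro y
    exact smul_homology_eq_zero (Kos fs E) (g ^ m) hm q y
  have h2 : J.FG := by
    classical
    refine ⟨fs.toFinset, ?_⟩
    congr 1
    ext x
    simp
  obtain ⟨m, hm⟩ := Ideal.exists_pow_le_of_le_radical_of_fg h1 h2
  refine ⟨m, fun x hx y => ?_⟩
  have : x ∈ Module.annihilator A H := hm (Ideal.pow_right_mono hI m hx)
  exact Module.mem_annihilator.1 this y

end Groth.Agent.H4.TorAR2
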