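import Mathlib
import Groth.Agent.H4.DZ5
import Groth.Agent.H4.AP1
import Groth.Agent.H4.EV2
import Groth.Agent.H4.TorAR2

set_option autoImplicit false
universe u
open CategoryTheory Category Limits Pretriangulated TensorProduct

namespace Groth.Agent.H4.FB1

attribute [local instance] HasDerivedCategory.standard

open DRing DerivedCategory Groth.Agent.H4.DCompl1 Groth.Agent.H4.DZ5 Groth.Agent.H4.ProjAmp Groth.Agent.H4.DRing1 Groth.Agent.H4.DComp

variable {A : Type u} [CommRing A] {B : Type u} [CommRing B] [Algebra A B]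

section abstract

variable {K K' : Dual.D A} (γ : B →ₗ[A] (K ⟶ K'))

/-- the comparison map `B ⊗ Hom(M, K) → Hom(M, K')`, `b ⊗ f ↦ f ≫ γ b`. -/
noncomputable def Psi (M : Dual.D A) : B ⊗[A] (M ⟶ K) →ₗ[A] (M ⟶ K') :=
  TensorProduct.lift (LinearMap.mk₂ A (fun (b : B) (f : M ⟶ K) => f ≫ γ b)
    (fun b b' f => by simp [map_add])
    (fun a b f => by simp [map_smul])
    (fun b f f' => by simp)
    (fun a b f => by simp))

@[simp]
lemma Psi_tmul (M : Dual.D A) (b : B) (f : M ⟶ K) : Psi γ M (b ⊗ₜ f) = f ≫ γ b := by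
  simp [Psi]

lemma Psi_naturality {M M' : Dual.D A} (g : M' ⟶ M) (t : B ⊗[A] (M ⟶ K)) :
    Psi γ M' ((Linear.leftComp A K g).lTensor B t) = g ≫ Psi γ M t := by
  induction t using TensorProduct.induction_on with
  | zero => simp
  | tmul b f => simp
  | add x y hx hy => simp only [map_add, hx, hy, Preadditive.comp_add]

lemma Psi_naturality' {M M' : Dual.D A} (g : M' ⟶ M) :
    (Psi γ M').comp ((Linear.leftComp A K g).lTensor B) =
      (Linear.leftComp A K' g).comp (Psi γ M) := by
  refine LinearMap.ext fun t => ?_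
  exact Psi_naturality γ g t

/-- bijectivity passes to retracts. -/
lemma bijective_Psi_of_retract {X Y : Dual.D A} (i : X ⟶ Y) (p : Y ⟶ X) (hip : i ≫ p = 𝟙 X)
    (hY : Function.Bijective (Psi γ Y)) : Function.Bijective (Psi γ X) := by
  have hcomp : ∀ t : B ⊗[A] (X ⟶ K),
      (Linear.leftComp A K i).lTensor B ((Linear.leftComp A K p).lTensor B t) = t := by
    intro t
    rw [← LinearMap.comp_apply, ← LinearMap.lTensor_comp]
    have : (Linear.leftComp A K i).comp (Linear.leftComp A K p) = LinearMap.id := by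
      ext f
      simp [← assoc, hip]
    rw [this, LinearMap.lTensor_id]
    rfl
  constructor
  · intro t t' h
    have h1 : Psi γ Y ((Linear.leftComp A K p).lTensor B t) =
        Psi γ Y ((Linear.leftComp A K p).lTensor B t') := by
      rw [Psi_naturality, Psi_naturality, h]
    have h2 := hY.1 h1
    rw [← hcomp t, ← hcomp t', h2]
  · intro h
    obtain ⟨s, hs⟩ := hY.2 (p ≫ h)
    refine ⟨(Linear.leftComp A K i).lTensor B s, ?_⟩
    rw [Psi_naturality, hs, ← assoc, hip, id_comp]

lemma bijective_Psi_of_iso {X Y : Dual.D A} (e : X ≅ Y)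
    (hY : Function.Bijective (Psi γ Y)) : Function.Bijective (Psi γ X) :=
  bijective_Psi_of_retract γ e.hom e.inv e.hom_inv_id hY

/-- exactness of the contravariant Yoneda sequence, in linear-map form. -/
lemma exact_leftComp (Z : Dual.D A) (T : Triangle (Dual.D A)) (hT : T ∈ distTriang (Dual.D A)) :
    Function.Exact (Linear.leftComp A Z T.mor₂) (Linear.leftComp A Z T.mor₁) := by
  intro f
  constructor
  · intro h
    obtain ⟨g, hg⟩ := Triangle.yoneda_exact₂ T hT f h
    exact ⟨g, hg.symm⟩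
  · rintro ⟨g, rfl⟩
    change T.mor₁ ≫ T.mor₂ ≫ g = 0
    rw [← assoc, comp_distTriang_mor_zero₁₂ _ hT, zero_comp]

variable [Module.Flat A B]

/-- the five lemma step. -/
theorem bijective_Psi_of_triangle (T : Triangle (Dual.D A)) (hT : T ∈ distTriang (Dual.D A))
    (h1 : Function.Bijective (Psi γ T.obj₁)) (h3 : Function.Bijective (Psi γ T.obj₃))
    (h1' : Function.Surjective (Psi γ (T.obj₁⟦(1 : ℤ)⟧)))
    (h3' : Function.Injective (Psi γ (T.obj₃⟦(-1 : ℤ)⟧))) :
    Function.Bijective (Psi γ T.obj₂) := by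
  have hTr := rot_of_distTriang T hT
  have hTi := inv_rot_of_distTriang T hT
  have e1 := exact_leftComp (A := A) K T.rotate hTr
  have e2 := exact_leftComp (A := A) K T hT
  have e3 := exact_leftComp (A := A) K T.invRotate hTi
  have e1' := exact_leftComp (A := A) K' T.rotate hTr
  have e2' := exact_leftComp (A := A) K' T hT
  have e3' := exact_leftComp (A := A) K' T.invRotate hTi
  exact LinearMap.bijective_of_surjective_of_bijective_of_bijective_of_injective
    ((Linear.leftComp A K T.rotate.mor₂).lTensor B) ((Linear.leftComp A K T.rotate.mor₁).lTensor B)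
    ((Linear.leftComp A K T.mor₁).lTensor B) ((Linear.leftComp A K T.invRotate.mor₁).lTensor B)
    (Linear.leftComp A K' T.rotate.mor₂) (Linear.leftComp A K' T.rotate.mor₁)
    (Linear.leftComp A K' T.mor₁) (Linear.leftComp A K' T.invRotate.mor₁)
    (Psi γ (T.obj₁⟦(1 : ℤ)⟧)) (Psi γ T.obj₃) (Psi γ T.obj₂) (Psi γ T.obj₁)
    (Psi γ (T.obj₃⟦(-1 : ℤ)⟧))
    (Psi_naturality' γ _).symm (Psi_naturality' γ _).symm (Psi_naturality' γ _).symm
    (Psi_naturality' γ _).symm
    (Module.Flat.lTensor_exact B e1) (Module.Flat.lTensor_exact B e2)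
    (Module.Flat.lTensor_exact B e3) e1' e2' e3' h1' h3 h1 h3'

omit [Algebra A B] in
lemma homology_map_smul_id_apply (c : ℤ) (a : A) (L : Dual.D A)
    (x : (homologyFunctor (ModuleCat.{u} A) c).obj L) :
    ((homologyFunctor (ModuleCat.{u} A) c).map (a • 𝟙 L)).hom x = a • x := by
  obtain ⟨E, ⟨e⟩⟩ : ∃ E : Cx A, Nonempty (L ≅ Q.obj E) :=
    ⟨Q.objPreimage L, ⟨(Q.objObjPreimageIso L).symm⟩⟩
  have h1 : a • 𝟙 L = e.hom ≫ Q.map (a • 𝟙 E) ≫ e.inv := by
    rw [Functor.map_smul, CategoryTheory.Functor.map_id, Linear.smul_comp, Linear.comp_smul,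
      id_comp, e.hom_inv_id]
  have h3 := (homologyFunctorFactors (ModuleCat.{u} A) c).hom.naturality (a • 𝟙 E)
  simp only [Functor.comp_map] at h3
  have h4 : HomologicalComplex.homologyMap (a • 𝟙 E) c = a • 𝟙 (E.homology c) := by
    rw [Groth.Agent.H4.TorAR2.homologyMap_smul'', HomologicalComplex.homologyMap_id]
  let α : (homologyFunctor (ModuleCat.{u} A) c).obj (Q.obj E) ⟶ E.homology c :=
    (homologyFunctorFactors (ModuleCat.{u} A) c).hom.app E
  haveI : IsIso α := inferInstanceAs (IsIso ((homologyFunctorFactors (ModuleCat.{u} A) c).hom.app E))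
  have hα : Function.Injective α.hom := (ModuleCat.mono_iff_injective _).1 inferInstance
  have h5 : ∀ y : (homologyFunctor (ModuleCat.{u} A) c).obj (Q.obj E),
      ((homologyFunctor (ModuleCat.{u} A) c).map (Q.map (a • 𝟙 E))).hom y = a • y := by
    intro y
    apply hα
    have h6 := congrArg (fun t => (ModuleCat.Hom.hom t) y) h3
    simp only [ModuleCat.hom_comp, LinearMap.comp_apply] at h6
    refine h6.trans ?_
    change (HomologicalComplex.homologyMap (a • 𝟙 E) c).hom (α.hom y) = _
    rw [h4, map_smul]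
    rfl
  rw [h1, Functor.map_comp, Functor.map_comp]
  change ((homologyFunctor (ModuleCat.{u} A) c).map e.inv).hom
    (((homologyFunctor (ModuleCat.{u} A) c).map (Q.map (a • 𝟙 E))).hom
      (((homologyFunctor (ModuleCat.{u} A) c).map e.hom).hom x)) = a • x
  rw [h5, map_smul]
  congr 1
  change (((homologyFunctor (ModuleCat.{u} A) c).map e.hom) ≫
    ((homologyFunctor (ModuleCat.{u} A) c).map e.inv)).hom x = x
  rw [← Functor.map_comp, e.hom_inv_id, CategoryTheory.Functor.map_id]
  rfl

omit [Algebra A B] in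
lemma homology_map_smul_apply (c : ℤ) (a : A) {L L' : Dual.D A} (φ : L ⟶ L')
    (x : (homologyFunctor (ModuleCat.{u} A) c).obj L) :
    ((homologyFunctor (ModuleCat.{u} A) c).map (a • φ)).hom x =
      a • ((homologyFunctor (ModuleCat.{u} A) c).map φ).hom x := by
  have : a • φ = φ ≫ (a • 𝟙 L') := by rw [Linear.comp_smul, comp_id]
  rw [this, Functor.map_comp]
  change ((homologyFunctor (ModuleCat.{u} A) c).map (a • 𝟙 L')).hom
    (((homologyFunctor (ModuleCat.{u} A) c).map φ).hom x) = _
  rw [homology_map_smul_id_apply]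

/-- evaluation at the generator: `Hom(A[-c], K) → H^c(K)`. -/
noncomputable def ev (c : ℤ) (K : Dual.D A) :
    (G A c ⟶ K) →ₗ[A] ((homologyFunctor (ModuleCat.{u} A) c).obj K) where
  toFun φ := ((homologyFunctor (ModuleCat.{u} A) c).map φ).hom (gam A c)
  map_add' φ ψ := by
    rw [Functor.map_add]
    rfl
  map_smul' a φ := homology_map_smul_apply c a φ (gam A c)

lemma ev_apply (c : ℤ) (K : Dual.D A) (φ : G A c ⟶ K) :
    ev c K φ = ((homologyFunctor (ModuleCat.{u} A) c).map φ).hom (gam A c) := rfl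

omit [Algebra A B] in
lemma homology_map_comp_apply (c : ℤ) {L L' L'' : Dual.D A} (φ : L ⟶ L') (ψ : L' ⟶ L'')
    (x : (homologyFunctor (ModuleCat.{u} A) c).obj L) :
    ((homologyFunctor (ModuleCat.{u} A) c).map (φ ≫ ψ)).hom x =
      ((homologyFunctor (ModuleCat.{u} A) c).map ψ).hom
        (((homologyFunctor (ModuleCat.{u} A) c).map φ).hom x) := by
  rw [Functor.map_comp]
  rfl

omit [Algebra A B] in
/-- `gam` generates `H^c(A[-c])`. -/
lemma exists_smul_gam (c : ℤ) (y : (homologyFunctor (ModuleCat.{u} A) c).obj (G A c)) :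
    ∃ a : A, y = a • gam A c := by
  let iso : singleFunctor (ModuleCat.{u} A) c ⋙ homologyFunctor (ModuleCat.{u} A) c ≅ 𝟭 _ :=
    singleFunctorCompHomologyFunctorIso (ModuleCat.{u} A) c
  refine ⟨(iso.hom.app (ModuleCat.of A A)).hom y, ?_⟩
  have h1 : (iso.inv.app (ModuleCat.of A A)).hom ((iso.hom.app (ModuleCat.of A A)).hom y) = y := by
    have h1 := iso.hom_inv_id_app (ModuleCat.of A A)
    exact congrArg (fun f => f.hom y) h1
  have h2 : gam A c = (iso.inv.app (ModuleCat.of A A)).hom (1 : A) := rfl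
  rw [h2, ← map_smul, ← h1]
  congr 1
  change _ = _ • (1 : A)
  rw [smul_eq_mul, mul_one, h1]

omit [Algebra A B] in
theorem ev_bijective (c : ℤ) (K : Dual.D A) : Function.Bijective (ev c K) := by
  refine ⟨?_, fun x => exists_homG_of_homology c K x⟩
  rw [injective_iff_map_eq_zero]
  intro φ hφ
  rw [ev_apply] at hφ
  let Y := ((tR A).truncGE c).obj K
  let π : K ⟶ Y := ((tR A).truncGEπ c).app K
  let ι : mid c K ⟶ Y := ((tR A).truncLTι (c + 1)).app Y
  haveI hι : IsIso ((homologyFunctor (ModuleCat.{u} A) c).map ι) :=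
    isIso_homology_truncLTι (c + 1) c (by omega) Y
  obtain ⟨ψ₁, hψ₁⟩ := (bij2 c Y).2 (φ ≫ π)
  have hψ₁' : ψ₁ ≫ ι = φ ≫ π := hψ₁
  have h0 : (homologyFunctor (ModuleCat.{u} A) c).map ψ₁ = 0 := by
    refine ModuleCat.hom_ext (LinearMap.ext fun y => ?_)
    obtain ⟨a, rfl⟩ := exists_smul_gam c y
    rw [map_smul]
    have hinj : Function.Injective ((homologyFunctor (ModuleCat.{u} A) c).map ι).hom :=
      ((ConcreteCategory.isIso_iff_bijective _).1 hι).1
    have : ((homologyFunctor (ModuleCat.{u} A) c).map ψ₁).hom (gam A c) = 0 := by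
      apply hinj
      rw [← homology_map_comp_apply, hψ₁', homology_map_comp_apply, hφ, map_zero, map_zero]
    rw [this, smul_zero]
    rfl
  have hψ0 : ψ₁ = 0 := by
    apply (bijective_homology_map c (G A c) (mid c K)).1
    change (homologyFunctor (ModuleCat.{u} A) c).map ψ₁ = (homologyFunctor (ModuleCat.{u} A) c).map 0
    rw [h0, Functor.map_zero]
  have hπ0 : φ ≫ π = 0 := by rw [← hψ₁', hψ0, zero_comp]
  apply (bij1 c K).1
  change φ ≫ π = 0 ≫ π
  rw [hπ0, zero_comp]

/-- the comparison map on cohomology `B ⊗ H^c(K) → H^c(K')`. -/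
noncomputable def Theta (c : ℤ) : B ⊗[A] ((homologyFunctor (ModuleCat.{u} A) c).obj K) →ₗ[A]
    ((homologyFunctor (ModuleCat.{u} A) c).obj K') :=
  TensorProduct.lift (LinearMap.mk₂ A
    (fun (b : B) (x : (homologyFunctor (ModuleCat.{u} A) c).obj K) =>
      ((homologyFunctor (ModuleCat.{u} A) c).map (γ b)).hom x)
    (fun b b' x => by rw [map_add, Functor.map_add]; rfl)
    (fun a b x => by rw [map_smul, homology_map_smul_apply])
    (fun b x x' => by rw [map_add])
    (fun a b x => by rw [map_smul]))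

@[simp]
lemma Theta_tmul (c : ℤ) (b : B) (x : (homologyFunctor (ModuleCat.{u} A) c).obj K) :
    Theta γ c (b ⊗ₜ x) = ((homologyFunctor (ModuleCat.{u} A) c).map (γ b)).hom x := by
  simp [Theta]

lemma ev_Psi (c : ℤ) :
    (ev c K').comp (Psi γ (G A c)) = (Theta γ c).comp ((ev c K).lTensor B) := by
  refine TensorProduct.ext' fun b f => ?_
  simp only [LinearMap.comp_apply, Psi_tmul, LinearMap.lTensor_tmul, Theta_tmul, ev_apply]
  rw [homology_map_comp_apply]

theorem bijective_Psi_G (c : ℤ) (hc : Function.Bijective (Theta γ c)) :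
    Function.Bijective (Psi γ (G A c)) := by
  have h1 : Function.Bijective ((ev c K').comp (Psi γ (G A c))) := by
    rw [ev_Psi]
    have h2 : Function.Bijective ((ev c K).lTensor B) :=
      (LinearEquiv.lTensor B (LinearEquiv.ofBijective (ev c K) (ev_bijective c K))).bijective
    exact hc.comp h2
  have h3 : ⇑((ev c K').comp (Psi γ (G A c))) = ⇑(ev c K') ∘ ⇑(Psi γ (G A c)) := rfl
  rw [h3] at h1
  exact (Function.Bijective.of_comp_iff' (ev_bijective c K') _).1 h1

/-- the predicate for the dévissage. -/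
def PP (M : Dual.D A) : Prop := ∀ n : ℤ, Function.Bijective (Psi γ (M⟦n⟧))

theorem thickPred_PP : Groth.Agent.H4.EV2.ThickPred (PP γ) where
  iso := fun {X Y} e hX n =>
    bijective_Psi_of_iso γ ((shiftFunctor (Dual.D A) n).mapIso e.symm) (hX n)
  shift := fun X n hX m =>
    bijective_Psi_of_iso γ ((shiftFunctorAdd' (Dual.D A) n m (n + m) rfl).app X).symm (hX (n + m))
  ext₂ := fun T hT h1 h3 n => by
    have hTn := Triangle.shift_distinguished T hT n
    refine bijective_Psi_of_triangle γ _ hTn (h1 n) (h3 n) ?_ ?_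
    · exact (bijective_Psi_of_iso γ
        ((shiftFunctorAdd' (Dual.D A) n 1 (n + 1) rfl).app T.obj₁).symm (h1 (n + 1))).2
    · exact (bijective_Psi_of_iso γ
        ((shiftFunctorAdd' (Dual.D A) n (-1) (n + -1) rfl).app T.obj₃).symm (h3 (n + -1))).1
  retract := fun {X Y} i p hip hY n =>
    bijective_Psi_of_retract γ (i⟦n⟧') (p⟦n⟧') (by
      rw [← Functor.map_comp, hip, CategoryTheory.Functor.map_id]) (hY n)

theorem PP_unit (hbase : ∀ c : ℤ, Function.Bijective (Theta γ c)) : PP γ (Dual.inD A A) := by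
  intro n
  refine bijective_Psi_of_iso γ
    (((singleFunctors (ModuleCat.{u} A)).shiftIso n (-n) 0 (by omega)).app (ModuleCat.of A A)) ?_
  exact bijective_Psi_G γ (-n) (hbase (-n))

theorem bijective_Psi_of_isPerfect (hbase : ∀ c : ℤ, Function.Bijective (Theta γ c))
    (M : Dual.D A) (hM : IsPerfect A M) : Function.Bijective (Psi γ M) := by
  have h := (thickPred_PP γ).of_isPerfect (PP_unit γ hbase) hM 0
  exact bijective_Psi_of_iso γ ((shiftFunctorZero (Dual.D A) ℤ).app M).symm h

theorem PP_of_isPerfect (hbase : ∀ c : ℤ, Function.Bijective (Theta γ c))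
    (M : Dual.D A) (hM : IsPerfect A M) : PP γ M :=
  (thickPred_PP γ).of_isPerfect (PP_unit γ hbase) hM

/-- **Flat base change for `Hom`** (abstract form). -/
theorem bijective_Psi_of_isPseudoCoherent (hbase : ∀ c : ℤ, Function.Bijective (Theta γ c))
    (a : ℤ) [K.IsGE a] [K'.IsGE a] (M : Dual.D A) (hM : IsPseudoCoherent' A M) :
    Function.Bijective (Psi γ M) := by
  obtain ⟨T, hT, e, hP, hC⟩ := Groth.Agent.H4.AP1.exists_approx M hM (a - 3)
  haveI := hC
  refine bijective_Psi_of_iso γ e.symm ?_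
  have hPP := PP_of_isPerfect γ hbase _ hP
  have hz : ∀ (C : Dual.D A) (q : ℤ), C.IsLE q → q < a → Function.Bijective (Psi γ C) := by
    intro C q hCq hq
    haveI := hCq
    haveI : Subsingleton (C ⟶ K) :=
      ⟨fun f g => (DerivedCategory.TStructure.t.zero_of_isLE_of_isGE f q a hq inferInstance
        inferInstance).trans (DerivedCategory.TStructure.t.zero_of_isLE_of_isGE g q a hq
        inferInstance inferInstance).symm⟩
    haveI : Subsingleton (C ⟶ K') :=
      ⟨fun f g => (DerivedCategory.TStructure.t.zero_of_isLE_of_isGE f q a hq inferInstance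
        inferInstance).trans (DerivedCategory.TStructure.t.zero_of_isLE_of_isGE g q a hq
        inferInstance inferInstance).symm⟩
    haveI : Subsingleton (B ⊗[A] (C ⟶ K)) := inferInstance
    exact ⟨fun x y _ => Subsingleton.elim _ _, fun y => ⟨0, Subsingleton.elim _ _⟩⟩
  have h1 : Function.Bijective (Psi γ T.obj₁) :=
    bijective_Psi_of_iso γ ((shiftFunctorZero (Dual.D A) ℤ).app T.obj₁).symm (hPP 0)
  have h3 : Function.Bijective (Psi γ T.obj₃) := hz _ (a - 3) inferInstance (by omega)
  have h3' : Function.Bijective (Psi γ (T.obj₃⟦(-1 : ℤ)⟧)) := by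
    refine hz _ (a - 2) ?_ (by omega)
    exact DerivedCategory.TStructure.t.isLE_shift T.obj₃ (a - 3) (-1) (a - 2) (by ring)
  exact bijective_Psi_of_triangle γ T hT h1 h3 (hPP 1).2 h3'.1

end abstract

end Groth.Agent.H4.FB1
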