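import Mathlib
import Groth.Agent.H4.FB1
import Groth.Agent.H4.KProj6
import Groth.Agent.H4.BC1

set_option autoImplicit false
universe u
open CategoryTheory Category Limits Pretriangulated TensorProduct

namespace Groth.Agent.H4.FB2

attribute [local instance] HasDerivedCategory.standard

open DRing DerivedCategory Groth.Agent.H4.DCompl1 Groth.Agent.H4.DZ5 Groth.Agent.H4.FB1

variable {A : Type u} [CommRing A] {B : Type u} [CommRing B] [Algebra A B] [Module.Flat A B]

variable (A B) in
instance preservesFiniteLimits_ext :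
    PreservesFiniteLimits (ModuleCat.extendScalars.{u, u, u} (algebraMap A B)) :=
  ModuleCat.preservesFiniteLimits_extendScalars_of_flat
    ((RingHom.flat_algebraMap_iff).2 inferInstance)

variable (A B) in
/-- extension of scalars along a flat map, on derived categories. -/
noncomputable def E : Dual.D A ⥤ Dual.D B :=
  (ModuleCat.extendScalars.{u, u, u} (algebraMap A B)).mapDerivedCategory

variable (A B) in
/-- restriction of scalars. -/
noncomputable abbrev Res : Dual.D B ⥤ Dual.D A := DRing.restrictD (algebraMap A B)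

noncomputable instance : CatCommSq
    ((ModuleCat.extendScalars.{u, u, u} (algebraMap A B)).mapHomologicalComplex (ComplexShape.up ℤ))
    (Q : Cx A ⥤ Dual.D A) (Q : Cx B ⥤ Dual.D B) (E A B) :=
  ⟨((ModuleCat.extendScalars.{u, u, u} (algebraMap A B)).mapDerivedCategoryFactors).symm⟩

noncomputable instance : CatCommSq
    ((ModuleCat.restrictScalars.{u} (algebraMap A B)).mapHomologicalComplex (ComplexShape.up ℤ))
    (Q : Cx B ⥤ Dual.D B) (Q : Cx A ⥤ Dual.D A) (Res A B) :=
  ⟨((ModuleCat.restrictScalars.{u} (algebraMap A B)).mapDerivedCategoryFactors).symm⟩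

variable (A B) in
/-- the adjunction `E ⊣ Res`. -/
noncomputable def adjE : E A B ⊣ Res A B :=
  (Groth.Agent.H4.KProj.adjC (ModuleCat.extendRestrictScalarsAdj.{u, u, u} (algebraMap A B))
    (ComplexShape.up ℤ)).localization Q
    (HomologicalComplex.quasiIso (ModuleCat.{u} A) (ComplexShape.up ℤ)) Q
    (HomologicalComplex.quasiIso (ModuleCat.{u} B) (ComplexShape.up ℤ)) (E A B) (Res A B)

/-- notation -/
noncomputable abbrev extC (A B : Type u) [CommRing A] [CommRing B] [Algebra A B] : Cx A ⥤ Cx B :=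
  (ModuleCat.extendScalars.{u, u, u} (algebraMap A B)).mapHomologicalComplex (ComplexShape.up ℤ)

/-- notation -/
noncomputable abbrev resC (A B : Type u) [CommRing A] [CommRing B] [Algebra A B] : Cx B ⥤ Cx A :=
  (ModuleCat.restrictScalars.{u} (algebraMap A B)).mapHomologicalComplex (ComplexShape.up ℤ)

/-- the functor `M ↦ B ⊗ M` on `A`-modules. -/
noncomputable abbrev TT (A B : Type u) [CommRing A] [CommRing B] [Algebra A B] :
    ModuleCat.{u} A ⥤ ModuleCat.{u} A :=
  ModuleCat.extendScalars.{u, u, u} (algebraMap A B) ⋙ ModuleCat.restrictScalars.{u} (algebraMap A B)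

omit [Module.Flat A B] in
lemma ext_map_smul_comm (b : B) {M N : ModuleCat.{u} A} (f : M ⟶ N) :
    (ModuleCat.extendScalars.{u, u, u} (algebraMap A B)).map f ≫ (b • 𝟙 _) =
      (b • 𝟙 _) ≫ (ModuleCat.extendScalars.{u, u, u} (algebraMap A B)).map f := by
  rw [Linear.comp_smul, Linear.smul_comp, comp_id, id_comp]

/-- the natural transformation `m ↦ b ⊗ m`. -/
noncomputable def tauB (b : B) : 𝟭 (ModuleCat.{u} A) ⟶ TT A B where
  app M := (ModuleCat.extendRestrictScalarsAdj.{u, u, u} (algebraMap A B)).unit.app M ≫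
    (ModuleCat.restrictScalars.{u} (algebraMap A B)).map
      (b • 𝟙 ((ModuleCat.extendScalars.{u, u, u} (algebraMap A B)).obj M))
  naturality M N f := by
    have h := (ModuleCat.extendRestrictScalarsAdj.{u, u, u} (algebraMap A B)).unit.naturality f
    simp only [Functor.id_obj, Functor.id_map, Functor.comp_obj, Functor.comp_map] at h ⊢
    rw [← assoc, h, assoc, assoc, ← Functor.map_comp, ← Functor.map_comp, ext_map_smul_comm]

/-- the chain map `x ↦ b ⊗ x`. -/
noncomputable def mB (b : B) (X : Cx A) : X ⟶ (resC A B).obj ((extC A B).obj X) :=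
  (Groth.Agent.H4.KProj.unitC (ModuleCat.extendRestrictScalarsAdj.{u, u, u} (algebraMap A B))
    (ComplexShape.up ℤ)).app X ≫ (resC A B).map (b • 𝟙 ((extC A B).obj X))

omit [Module.Flat A B] in
lemma mB_f (b : B) (X : Cx A) (i : ℤ) : (mB b X).f i = (tauB b).app (X.X i) := rfl

instance : PreservesFiniteLimits (TT A B) := by
  dsimp only [TT]; infer_instance

instance : PreservesFiniteColimits (TT A B) := by
  dsimp only [TT]; infer_instance

lemma homologyMap_mB (b : B) (X : Cx A) (c : ℤ) :
    HomologicalComplex.homologyMap (mB b X) c =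
      ((X.sc c).mapHomologyIso (𝟭 (ModuleCat.{u} A))).hom ≫ (tauB b).app (X.sc c).homology ≫
        ((X.sc c).mapHomologyIso (TT A B)).inv :=
  ShortComplex.homologyMap_mapNatTrans (X.sc c) (tauB b)

open Groth.Agent.H8.ExtBridge ChangeOfRings in
omit [Module.Flat A B] in
lemma tauB_app_apply (b : B) (M : ModuleCat.{u} A) (y : M) :
    ((tauB b).app M).hom y = fromTensor (B := B) M (b ⊗ₜ[A] y) := by
  rw [fromTensor_tmul]
  have h1 : ((tauB b).app M).hom y =
      (b • 𝟙 ((ModuleCat.extendScalars.{u, u, u} (algebraMap A B)).obj M)).hom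
        (((ModuleCat.extendRestrictScalarsAdj.{u, u, u} (algebraMap A B)).unit.app M).hom y) := rfl
  rw [h1, ModuleCat.hom_smul]
  erw [LinearMap.smul_apply, ModuleCat.hom_id, LinearMap.id_apply,
    ModuleCat.extendRestrictScalarsAdj_unit_app_apply, ModuleCat.ExtendScalars.smul_tmul, mul_one]

open Groth.Agent.H8.ExtBridge in
omit [Module.Flat A B] in
lemma fromTensor_bijective (M : ModuleCat.{u} A) :
    Function.Bijective (fromTensor (B := B) M) :=
  ⟨fun x y h => by rw [← toTensor_fromTensor M x, ← toTensor_fromTensor M y, h],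
    fun z => ⟨toTensor M z, fromTensor_toTensor M z⟩⟩

/-- the linear family of chain maps `b ↦ (x ↦ b ⊗ x)`. -/
noncomputable def mBlin (X : Cx A) : B →ₗ[A] (X ⟶ (resC A B).obj ((extC A B).obj X)) where
  toFun b := mB b X
  map_add' b b' := by
    simp only [mB, add_smul, Functor.map_add, Preadditive.comp_add]
  map_smul' a b := by
    simp only [mB, RingHom.id_apply]
    rw [Algebra.smul_def, mul_smul]
    have : (resC A B).map (algebraMap A B a • b • 𝟙 ((extC A B).obj X)) =
        a • (resC A B).map (b • 𝟙 ((extC A B).obj X)) := by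
      ext i x
      rfl
    rw [this, Linear.comp_smul]

/-- `γ₁`. -/
noncomputable def gammaQ (X : Cx A) :
    B →ₗ[A] ((Q.obj X : Dual.D A) ⟶ (Q.obj ((resC A B).obj ((extC A B).obj X)) : Dual.D A)) :=
  (Functor.mapLinearMap A (Q : Cx A ⥤ Dual.D A)).comp (mBlin X)

lemma gammaQ_apply (X : Cx A) (b : B) : gammaQ X b = Q.map (mB b X) := rfl

open Groth.Agent.H8.ExtBridge Groth.Agent.H4.FB1 in
theorem bijective_Theta_gammaQ (X : Cx A) (c : ℤ) :
    Function.Bijective (Theta (gammaQ (B := B) X) c) := by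
  let Y := (resC A B).obj ((extC A B).obj X)
  let αX : (homologyFunctor (ModuleCat.{u} A) c).obj (Q.obj X) ≅ X.homology c :=
    (homologyFunctorFactors (ModuleCat.{u} A) c).app X
  let αY : (homologyFunctor (ModuleCat.{u} A) c).obj (Q.obj Y) ≅ Y.homology c :=
    (homologyFunctorFactors (ModuleCat.{u} A) c).app Y
  let i₁ := (X.sc c).mapHomologyIso (𝟭 (ModuleCat.{u} A))
  let i₂ := (X.sc c).mapHomologyIso (TT A B)
  let H : ModuleCat.{u} A := (X.sc c).homology
  let l₁ : ((homologyFunctor (ModuleCat.{u} A) c).obj (Q.obj X)) ≃ₗ[A] H :=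
    (αX ≪≫ i₁).toLinearEquiv
  have hnat : ∀ b : B, (homologyFunctor (ModuleCat.{u} A) c).map (Q.map (mB b X)) ≫ αY.hom =
      αX.hom ≫ HomologicalComplex.homologyMap (mB b X) c := fun b =>
    (homologyFunctorFactors (ModuleCat.{u} A) c).hom.naturality (mB b X)
  let κ : B ⊗[A] H →+ ((TT A B).obj H) := fromTensor (B := B) H
  have hκ : ∀ (b : B) (y : H), κ (b ⊗ₜ[A] y) = ((tauB b).app H).hom y :=
    fun b y => (tauB_app_apply b H y).symm
  let j₂ : (TT A B).obj H ≅ Y.homology c := i₂.symm
  let β : (TT A B).obj H ≅ (homologyFunctor (ModuleCat.{u} A) c).obj (Q.obj Y) := j₂ ≪≫ αY.symm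
  have key : ∀ t, Theta (gammaQ (B := B) X) c t =
      β.hom.hom (κ ((l₁.toLinearMap.lTensor B) t)) := by
    intro t
    induction t using TensorProduct.induction_on with
    | zero => simp only [map_zero]
    | tmul b x =>
      rw [Theta_tmul, gammaQ_apply, LinearMap.lTensor_tmul, hκ]
      have h1 := congrArg (fun f => f.hom x) (hnat b)
      simp only [ModuleCat.hom_comp, LinearMap.comp_apply] at h1
      have h2 : ((homologyFunctor (ModuleCat.{u} A) c).map (Q.map (mB b X))).hom x =
          αY.inv.hom (αY.hom.hom (((homologyFunctor (ModuleCat.{u} A) c).map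
            (Q.map (mB b X))).hom x)) := by
        have := congrArg (fun f => f.hom (((homologyFunctor (ModuleCat.{u} A) c).map
            (Q.map (mB b X))).hom x)) αY.hom_inv_id
        exact this.symm
      rw [h2, h1, homologyMap_mB]
      rfl
    | add x y hx hy => simp only [map_add, hx, hy]
  have hf : ⇑(Theta (gammaQ (B := B) X) c) = ⇑β.hom.hom ∘ ⇑κ ∘
      ⇑(l₁.toLinearMap.lTensor B) := funext key
  rw [hf]
  refine Function.Bijective.comp ?_ (Function.Bijective.comp ?_ ?_)
  · exact (ConcreteCategory.isIso_iff_bijective _).1 inferInstance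
  · exact fromTensor_bijective H
  · exact (LinearEquiv.lTensor B l₁).bijective

/-- the unit on complexes -/
noncomputable def uX (X : Cx A) : X ⟶ (resC A B).obj ((extC A B).obj X) :=
  (Groth.Agent.H4.KProj.unitC
    (ModuleCat.extendRestrictScalarsAdj.{u, u, u} (algebraMap A B)) (ComplexShape.up ℤ)).app X

/-- `Q ∘ res ≅ Res ∘ Q` -/
noncomputable def rIso (Z : Cx B) :
    (Q.obj ((resC A B).obj Z) : Dual.D A) ≅ (Res A B).obj (Q.obj Z) :=
  (((ModuleCat.restrictScalars.{u} (algebraMap A B)).mapDerivedCategoryFactors).app Z).symm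

/-- `Q ∘ ext ≅ E ∘ Q` -/
noncomputable def eIso (X : Cx A) :
    (Q.obj ((extC A B).obj X) : Dual.D B) ≅ (E A B).obj (Q.obj X) :=
  (((ModuleCat.extendScalars.{u, u, u} (algebraMap A B)).mapDerivedCategoryFactors).app X).symm

omit [Module.Flat A B] in
lemma rIso_naturality {Z Z' : Cx B} (g : Z ⟶ Z') :
    Q.map ((resC A B).map g) ≫ (rIso Z').hom = (rIso Z).hom ≫ (Res A B).map (Q.map g) :=
  ((ModuleCat.restrictScalars.{u} (algebraMap A B)).mapDerivedCategoryFactors).inv.naturality g

lemma adjE_unit_app (X : Cx A) :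
    (adjE A B).unit.app (Q.obj X) =
      Q.map (uX X) ≫ (rIso ((extC A B).obj X)).hom ≫ (Res A B).map (eIso X).hom := by
  rw [adjE, Adjunction.localization_unit_app]
  rfl

omit [Module.Flat A B] in
lemma resC_map_smul (a : A) (Z : Cx B) :
    (resC A B).map (algebraMap A B a • 𝟙 Z) = a • 𝟙 ((resC A B).obj Z) := by
  ext i x
  rfl

omit [Module.Flat A B] in
lemma Res_map_smul_id (a : A) (Y : Dual.D B) :
    (Res A B).map (algebraMap A B a • 𝟙 Y) = a • 𝟙 ((Res A B).obj Y) := by
  obtain ⟨Z, ⟨e⟩⟩ : ∃ Z : Cx B, Nonempty (Y ≅ Q.obj Z) :=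
    ⟨Q.objPreimage Y, ⟨(Q.objObjPreimageIso Y).symm⟩⟩
  have h1 : algebraMap A B a • 𝟙 Y = e.hom ≫ Q.map (algebraMap A B a • 𝟙 Z) ≫ e.inv := by
    rw [Functor.map_smul, CategoryTheory.Functor.map_id, Linear.smul_comp, Linear.comp_smul,
      id_comp, e.hom_inv_id]
  have h2 := ((ModuleCat.restrictScalars.{u} (algebraMap A B)).mapDerivedCategoryFactors).hom.naturality
    (algebraMap A B a • 𝟙 Z)
  simp only [Functor.comp_map] at h2
  have h3 : (Res A B).map (Q.map (algebraMap A B a • 𝟙 Z)) = a • 𝟙 _ := by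
    rw [← cancel_mono (((ModuleCat.restrictScalars.{u} (algebraMap A B)).mapDerivedCategoryFactors).hom.app Z),
      h2, resC_map_smul, Functor.map_smul, CategoryTheory.Functor.map_id, Linear.comp_smul,
      Linear.smul_comp]
    erw [comp_id, id_comp]
  rw [h1, Functor.map_comp, Functor.map_comp, h3, Linear.smul_comp, Linear.comp_smul, id_comp,
    ← Functor.map_comp, e.hom_inv_id, CategoryTheory.Functor.map_id]

omit [Module.Flat A B] in
lemma Res_map_smul (a : A) {Y Y' : Dual.D B} (g : Y ⟶ Y') :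
    (Res A B).map (algebraMap A B a • g) = a • (Res A B).map g := by
  have : algebraMap A B a • g = g ≫ (algebraMap A B a • 𝟙 Y') := by rw [Linear.comp_smul, comp_id]
  rw [this, Functor.map_comp, Res_map_smul_id, Linear.comp_smul, comp_id]

/-- the `B`-action on `Res (E K)` composed with the unit. -/
noncomputable def gammaE (K : Dual.D A) : B →ₗ[A] (K ⟶ (Res A B).obj ((E A B).obj K)) where
  toFun b := (adjE A B).unit.app K ≫ (Res A B).map (b • 𝟙 ((E A B).obj K))
  map_add' b b' := by
    rw [add_smul, Functor.map_add, Preadditive.comp_add]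
  map_smul' a b := by
    rw [RingHom.id_apply, Algebra.smul_def, mul_smul, Res_map_smul, Linear.comp_smul]

lemma gammaE_apply (K : Dual.D A) (b : B) :
    gammaE K b = (adjE A B).unit.app K ≫ (Res A B).map (b • 𝟙 ((E A B).obj K)) := rfl

section thetaIso

/-- transport of bijectivity of `Theta` along isomorphisms. -/
lemma bijective_Theta_of_iso {K K' K₁ K₁' : Dual.D A} (γ : B →ₗ[A] (K ⟶ K'))
    (γ₁ : B →ₗ[A] (K₁ ⟶ K₁')) (e : K ≅ K₁) (e' : K' ≅ K₁')
    (h : ∀ b, γ b ≫ e'.hom = e.hom ≫ γ₁ b) (c : ℤ)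
    (h₁ : Function.Bijective (Theta γ₁ c)) : Function.Bijective (Theta γ c) := by
  let l := ((homologyFunctor (ModuleCat.{u} A) c).mapIso e).toLinearEquiv
  let l' := ((homologyFunctor (ModuleCat.{u} A) c).mapIso e').toLinearEquiv
  have key : ∀ t, l' (Theta γ c t) = Theta γ₁ c ((l.toLinearMap.lTensor B) t) := by
    intro t
    induction t using TensorProduct.induction_on with
    | zero => simp only [map_zero]
    | tmul b x =>
      rw [Theta_tmul, LinearMap.lTensor_tmul, Theta_tmul]
      change ((homologyFunctor (ModuleCat.{u} A) c).map e'.hom).hom _ =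
        ((homologyFunctor (ModuleCat.{u} A) c).map (γ₁ b)).hom
          (((homologyFunctor (ModuleCat.{u} A) c).map e.hom).hom x)
      rw [← homology_map_comp_apply, ← homology_map_comp_apply, h]
    | add x y hx hy => simp only [map_add, hx, hy]
  have hf : ⇑l' ∘ ⇑(Theta γ c) = ⇑(Theta γ₁ c) ∘ ⇑(l.toLinearMap.lTensor B) := funext key
  have hb : Function.Bijective (⇑l' ∘ ⇑(Theta γ c)) := by
    rw [hf]
    exact h₁.comp (LinearEquiv.lTensor B l).bijective
  exact (Function.Bijective.of_comp_iff' l'.bijective _).1 hb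

end thetaIso

/-- `gammaE` is natural. -/
lemma gammaE_naturality {K K₁ : Dual.D A} (f : K ⟶ K₁) (b : B) :
    gammaE K b ≫ (Res A B).map ((E A B).map f) = f ≫ gammaE K₁ b := by
  have hc : (b • 𝟙 ((E A B).obj K)) ≫ (E A B).map f = (E A B).map f ≫ (b • 𝟙 ((E A B).obj K₁)) := by
    rw [Linear.smul_comp, Linear.comp_smul, id_comp, comp_id]
  have hu : f ≫ (adjE A B).unit.app K₁ = (adjE A B).unit.app K ≫ (Res A B).map ((E A B).map f) :=
    (adjE A B).unit.naturality f
  rw [gammaE_apply, gammaE_apply, assoc, ← Functor.map_comp, hc, Functor.map_comp, ← assoc, ← hu,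
    assoc]

/-- the comparison isomorphism `Q (B ⊗ X) ≅ Res (E (Q X))`. -/
noncomputable def sIso (X : Cx A) :
    (Q.obj ((resC A B).obj ((extC A B).obj X)) : Dual.D A) ≅ (Res A B).obj ((E A B).obj (Q.obj X)) :=
  rIso ((extC A B).obj X) ≪≫ (Res A B).mapIso (eIso X)

lemma gammaE_Q (X : Cx A) (b : B) :
    gammaE (B := B) (Q.obj X) b = gammaQ X b ≫ (sIso X).hom := by
  have h1 : (eIso X).hom ≫ (b • 𝟙 ((E A B).obj (Q.obj X))) =
      Q.map (b • 𝟙 ((extC A B).obj X)) ≫ (eIso X).hom := by
    rw [Linear.comp_smul, comp_id, Functor.map_smul, CategoryTheory.Functor.map_id,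
      Linear.smul_comp, id_comp]
  have h2 := rIso_naturality (A := A) (b • 𝟙 ((extC A B).obj X))
  have h3 : mB b X = uX X ≫ (resC A B).map (b • 𝟙 ((extC A B).obj X)) := rfl
  rw [gammaE_apply, adjE_unit_app, gammaQ_apply, h3]
  dsimp only [sIso, Iso.trans_hom, Functor.mapIso_hom]
  rw [assoc, assoc, ← Functor.map_comp, h1, Functor.map_comp, ← assoc (rIso _).hom, ← h2,
    Functor.map_comp, assoc, assoc]

theorem bijective_Theta_gammaE (K : Dual.D A) (c : ℤ) :
    Function.Bijective (Theta (gammaE (B := B) K) c) := by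
  let X := Q.objPreimage K
  let e : K ≅ Q.obj X := (Q.objObjPreimageIso K).symm
  refine bijective_Theta_of_iso (gammaE K) (gammaQ X) e
    ((Res A B).mapIso ((E A B).mapIso e) ≪≫ (sIso X).symm) ?_ c (bijective_Theta_gammaQ X c)
  intro b
  dsimp only [Iso.trans_hom, Functor.mapIso_hom, Iso.symm_hom]
  rw [← assoc, gammaE_naturality, assoc, gammaE_Q, assoc, Iso.hom_inv_id, comp_id]

/-- cohomology of `Res (E K)` vanishes where that of `K` does. -/
lemma isZero_homology_Res_E (K : Dual.D A) (c : ℤ)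
    (h : IsZero ((homologyFunctor (ModuleCat.{u} A) c).obj K)) :
    IsZero ((homologyFunctor (ModuleCat.{u} A) c).obj ((Res A B).obj ((E A B).obj K))) := by
  haveI := ModuleCat.subsingleton_of_isZero h
  have hb := bijective_Theta_gammaE (B := B) K c
  haveI : Subsingleton ((homologyFunctor (ModuleCat.{u} A) c).obj ((Res A B).obj ((E A B).obj K))) :=
    ⟨fun x y => by
      obtain ⟨x', rfl⟩ := hb.2 x
      obtain ⟨y', rfl⟩ := hb.2 y
      rw [Subsingleton.elim x' y']⟩
  exact ModuleCat.isZero_of_subsingleton _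

instance isGE_Res_E (K : Dual.D A) (a : ℤ) [K.IsGE a] : ((Res A B).obj ((E A B).obj K)).IsGE a := by
  rw [isGE_iff]
  intro i hi
  exact isZero_homology_Res_E K i ((isGE_iff K a).1 inferInstance i hi)

/-- **Flat base change for `Hom`**. -/
theorem bijective_Psi_gammaE (K : Dual.D A) (a : ℤ) [K.IsGE a] (M : Dual.D A)
    (hM : IsPseudoCoherent' A M) : Function.Bijective (Psi (gammaE (B := B) K) M) :=
  bijective_Psi_of_isPseudoCoherent (gammaE K) (fun c => bijective_Theta_gammaE K c) a M hM

lemma homEquiv_apply {M K : Dual.D A} (g : (E A B).obj M ⟶ (E A B).obj K) :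
    (adjE A B).homEquiv M ((E A B).obj K) g = (adjE A B).unit.app M ≫ (Res A B).map g :=
  Adjunction.homEquiv_unit _ _ _ _

/-- vanishing of `Hom` is preserved by flat base change. -/
theorem subsingleton_hom_E (K : Dual.D A) (a : ℤ) [K.IsGE a] (M : Dual.D A)
    (hM : IsPseudoCoherent' A M) (h : Subsingleton (M ⟶ K)) :
    Subsingleton ((E A B).obj M ⟶ (E A B).obj K) := by
  have hb := bijective_Psi_gammaE (B := B) K a M hM
  haveI : Subsingleton (M ⟶ (Res A B).obj ((E A B).obj K)) :=
    ⟨fun x y => by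
      obtain ⟨x', rfl⟩ := hb.2 x
      obtain ⟨y', rfl⟩ := hb.2 y
      rw [Subsingleton.elim x' y']⟩
  exact ((adjE A B).homEquiv M ((E A B).obj K)).subsingleton

/-- vanishing of `Hom` descends along a faithfully flat base change. -/
theorem subsingleton_hom_of_E [Module.FaithfullyFlat A B] (K : Dual.D A) (a : ℤ) [K.IsGE a]
    (M : Dual.D A) (hM : IsPseudoCoherent' A M)
    (h : Subsingleton ((E A B).obj M ⟶ (E A B).obj K)) : Subsingleton (M ⟶ K) := by
  have hb := bijective_Psi_gammaE (B := B) K a M hM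
  haveI : Subsingleton (M ⟶ (Res A B).obj ((E A B).obj K)) :=
    ((adjE A B).homEquiv M ((E A B).obj K)).symm.subsingleton
  haveI : Subsingleton (B ⊗[A] (M ⟶ K)) := hb.1.subsingleton
  exact Module.FaithfullyFlat.lTensor_reflects_triviality A B (M ⟶ K)

/-- the map `b ↦ b ⊗ 𝟙`. -/
noncomputable def iotaEnd (K : Dual.D A) : B →ₗ[A] B ⊗[A] (K ⟶ K) :=
  (TensorProduct.mk A B (K ⟶ K)).flip (𝟙 K)

lemma iotaEnd_apply (K : Dual.D A) (b : B) : iotaEnd K b = b ⊗ₜ[A] (𝟙 K) := rfl

/-- `a ↦ a • 𝟙` as a linear map. -/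
noncomputable def toEndLin (K : Dual.D A) : A →ₗ[A] (K ⟶ K) :=
  LinearMap.toSpanSingleton A (K ⟶ K) (𝟙 K)

lemma toEndLin_apply (K : Dual.D A) (a : A) : toEndLin K a = a • 𝟙 K := rfl

omit [Module.Flat A B] in
lemma iotaEnd_eq (K : Dual.D A) :
    iotaEnd (B := B) K = ((toEndLin K).lTensor B).comp (TensorProduct.rid A B).symm.toLinearMap := by
  ext b
  simp [iotaEnd, toEndLin]

lemma smul_id_E_eq (K : Dual.D A) (b : B) :
    b • 𝟙 ((E A B).obj K) =
      ((adjE A B).homEquiv K ((E A B).obj K)).symm (Psi (gammaE K) K (iotaEnd K b)) := by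
  rw [Equiv.eq_symm_apply, homEquiv_apply, iotaEnd_apply, Psi_tmul, id_comp, gammaE_apply]

/-- `B → End(E K)` is bijective if `A → End(K)` is. -/
theorem bijective_toEnd_E (K : Dual.D A) (a : ℤ) [K.IsGE a] (hK : IsPseudoCoherent' A K)
    (h : Function.Bijective (fun x : A => x • 𝟙 K)) :
    Function.Bijective (fun b : B => b • 𝟙 ((E A B).obj K)) := by
  have hb := bijective_Psi_gammaE (B := B) K a K hK
  have h1 : Function.Bijective (iotaEnd (B := B) K) := by
    rw [iotaEnd_eq]
    have h2 : Function.Bijective ((toEndLin K).lTensor B) :=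
      (LinearEquiv.lTensor B (LinearEquiv.ofBijective (toEndLin K) h)).bijective
    exact h2.comp (TensorProduct.rid A B).symm.bijective
  have hf : (fun b : B => b • 𝟙 ((E A B).obj K)) =
      ⇑((adjE A B).homEquiv K ((E A B).obj K)).symm ∘ ⇑(Psi (gammaE K) K) ∘ ⇑(iotaEnd K) :=
    funext fun b => smul_id_E_eq K b
  rw [hf]
  exact (Equiv.bijective _).comp (hb.comp h1)

/-- `A → End(K)` is bijective if `B → End(E K)` is, for `B` faithfully flat. -/
theorem bijective_toEnd_of_E [Module.FaithfullyFlat A B] (K : Dual.D A) (a : ℤ) [K.IsGE a]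
    (hK : IsPseudoCoherent' A K)
    (h : Function.Bijective (fun b : B => b • 𝟙 ((E A B).obj K))) :
    Function.Bijective (fun x : A => x • 𝟙 K) := by
  have hb := bijective_Psi_gammaE (B := B) K a K hK
  have hf : (fun b : B => b • 𝟙 ((E A B).obj K)) =
      ⇑((adjE A B).homEquiv K ((E A B).obj K)).symm ∘ ⇑(Psi (gammaE K) K) ∘ ⇑(iotaEnd K) :=
    funext fun b => smul_id_E_eq K b
  rw [hf] at h
  have h1 : Function.Bijective (⇑(Psi (gammaE (B := B) K) K) ∘ ⇑(iotaEnd K)) :=
    (Function.Bijective.of_comp_iff' (Equiv.bijective _) _).1 h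
  have h2 : Function.Bijective (iotaEnd (B := B) K) :=
    (Function.Bijective.of_comp_iff' hb _).1 h1
  rw [iotaEnd_eq] at h2
  have h3 : Function.Bijective ((toEndLin K).lTensor B) :=
    (Function.Bijective.of_comp_iff _ (TensorProduct.rid A B).symm.bijective).1 h2
  exact ⟨(Module.FaithfullyFlat.lTensor_injective_iff_injective A B _).1 h3.1,
    (Module.FaithfullyFlat.lTensor_surjective_iff_surjective A B _).1 h3.2⟩

noncomputable instance : (E A B).CommShift ℤ :=
  inferInstanceAs ((ModuleCat.extendScalars.{u, u, u} (algebraMap A B)).mapDerivedCategory.CommShift ℤ)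

/-- `E` commutes with shifts. -/
noncomputable def EShiftIso (K : Dual.D A) (i : ℤ) :
    (E A B).obj (K⟦i⟧) ≅ ((E A B).obj K)⟦i⟧ :=
  ((E A B).commShiftIso i).app K

/-- `E` on single modules. -/
noncomputable def ESingleIso (M : ModuleCat.{u} A) (n : ℤ) :
    (E A B).obj ((singleFunctor (ModuleCat.{u} A) n).obj M) ≅
      (singleFunctor (ModuleCat.{u} B) n).obj
        ((ModuleCat.extendScalars.{u, u, u} (algebraMap A B)).obj M) :=
  ((ModuleCat.extendScalars.{u, u, u} (algebraMap A B)).mapDerivedCategorySingleFunctor n).app M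

/-- derived base change agrees objectwise with `E` for a flat map. -/
noncomputable def LBCIso [DRing.HasLBaseChange (algebraMap A B)] (K : Dual.D A) :
    (DRing.LBaseChange (algebraMap A B)).obj K ≅ (E A B).obj K :=
  (DRing.LBaseChange (algebraMap A B)).mapIso (Q.objObjPreimageIso K).symm ≪≫
    Groth.Agent.H4.BC.isoOfFlatMap (algebraMap A B) ((RingHom.flat_algebraMap_iff).2 inferInstance)
      (Q.objPreimage K) ≪≫ eIso (Q.objPreimage K) ≪≫ (E A B).mapIso (Q.objObjPreimageIso K)

/-- cohomology of `E K`. -/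
noncomputable def homologyEIso (K : Dual.D A) (c : ℤ) :
    (homologyFunctor (ModuleCat.{u} B) c).obj ((E A B).obj K) ≅
      (ModuleCat.extendScalars.{u, u, u} (algebraMap A B)).obj
        ((homologyFunctor (ModuleCat.{u} A) c).obj K) :=
  (homologyFunctor (ModuleCat.{u} B) c).mapIso
      ((E A B).mapIso (Q.objObjPreimageIso K).symm ≪≫ (eIso (Q.objPreimage K)).symm) ≪≫
    (homologyFunctorFactors (ModuleCat.{u} B) c).app ((extC A B).obj (Q.objPreimage K)) ≪≫
    ((Q.objPreimage K).sc c).mapHomologyIso (ModuleCat.extendScalars.{u, u, u} (algebraMap A B)) ≪≫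
    (ModuleCat.extendScalars.{u, u, u} (algebraMap A B)).mapIso
      (((homologyFunctorFactors (ModuleCat.{u} A) c).app (Q.objPreimage K)).symm ≪≫
        (homologyFunctor (ModuleCat.{u} A) c).mapIso (Q.objObjPreimageIso K))

end Groth.Agent.H4.FB2
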