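import Mathlib
import Groth.Agent.H4.FB2

set_option autoImplicit false
universe u v
open CategoryTheory Category Limits Pretriangulated TensorProduct

namespace Groth.Agent.H4.AC1

variable {A : Type u} [CommRing A]

/-- a module killed by `I^n` is `I`-adically complete -/
lemma isAdicComplete_of_pow_smul (I : Ideal A) (X : Type v) [AddCommGroup X] [Module A X] (n : ℕ)
    (h : ∀ a ∈ I ^ n, ∀ x : X, a • x = 0) : IsAdicComplete I X := by
  have hbot : (I ^ n • (⊤ : Submodule A X)) = ⊥ := by
    rw [eq_bot_iff]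
    refine Submodule.smul_le.2 (fun a ha x _ => ?_)
    rw [h a ha x]
    exact Submodule.zero_mem _
  haveI : IsHausdorff I X := ⟨fun x hx => by
    have h1 := hx n
    rw [SModEq.sub_mem, sub_zero, hbot] at h1
    exact (Submodule.mem_bot A).1 h1⟩
  haveI : IsPrecomplete I X := ⟨fun f hf => by
    refine ⟨f n, fun m => ?_⟩
    rcases le_total m n with hmn | hnm
    · exact hf hmn
    · have h1 := hf hnm
      rw [SModEq.sub_mem, hbot] at h1
      have h2 : f n = f m := sub_eq_zero.1 ((Submodule.mem_bot A).1 h1)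
      rw [h2]⟩
  exact {}

lemma exists_small_model [IsNoetherianRing A] (N : Type v) [AddCommGroup N] [Module A N]
    [Module.Finite A N] :
    ∃ (N' : Type u) (_ : AddCommGroup N') (_ : Module A N') (_ : Module.Finite A N'),
      Nonempty (N' ≃ₗ[A] N) := by
  obtain ⟨n, π, hπ⟩ := Module.Finite.exists_fin' A N
  exact ⟨(Fin n → A) ⧸ LinearMap.ker π, inferInstance, inferInstance, inferInstance,
    ⟨π.quotKerEquivOfSurjective hπ⟩⟩

/-- `x ↦ 1 ⊗ x` is bijective on finite modules killed by a power of `I`. -/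
lemma bijective_one_tmul [IsNoetherianRing A] (I : Ideal A) (X : Type v) [AddCommGroup X]
    [Module A X] [Module.Finite A X] (n : ℕ) (h : ∀ a ∈ I ^ n, ∀ x : X, a • x = 0) :
    Function.Bijective (fun x : X => (1 : AdicCompletion I A) ⊗ₜ[A] x) := by
  obtain ⟨X', _, _, _, ⟨e0⟩⟩ := exists_small_model (A := A) X
  have h' : ∀ a ∈ I ^ n, ∀ x : X', a • x = 0 := fun a ha x => by
    apply e0.injective
    rw [map_smul, h a ha, map_zero]
  haveI := isAdicComplete_of_pow_smul I X' n h'
  have h1 : Function.Bijective (AdicCompletion.ofTensorProduct I X') :=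
    AdicCompletion.ofTensorProduct_bijective_of_finite_of_isNoetherian I X'
  have h2 : Function.Bijective (AdicCompletion.of I X') := AdicCompletion.of_bijective I X'
  have h3 : (AdicCompletion.ofTensorProduct I X') ∘ (fun x : X' => (1 : AdicCompletion I A) ⊗ₜ[A] x) =
      AdicCompletion.of I X' := by
    funext x
    simp [AdicCompletion.ofTensorProduct_tmul]
  have h4 : Function.Bijective (fun x : X' => (1 : AdicCompletion I A) ⊗ₜ[A] x) := by
    rw [← h3] at h2
    exact (Function.Bijective.of_comp_iff' h1 _).1 h2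
  let t : AdicCompletion I A ⊗[A] X' ≃ₗ[A] AdicCompletion I A ⊗[A] X :=
    TensorProduct.congr (LinearEquiv.refl A _) e0
  have h5 : (fun x : X => (1 : AdicCompletion I A) ⊗ₜ[A] x) =
      t ∘ (fun x : X' => (1 : AdicCompletion I A) ⊗ₜ[A] x) ∘ e0.symm := by
    funext x
    simp [t]
  rw [h5]
  exact t.bijective.comp (h4.comp e0.symm.bijective)

end Groth.Agent.H4.AC1
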