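import Mathlib
import Groth.Prelude.Def_DTen3
import Groth.Agent.H4.DZ5

/-!
# `Ext^i(M, ω) = 0` for `i > 0` and `ω` a normalized dualizing complex: S19132
-/

set_option autoImplicit false
universe u
open CategoryTheory Category Limits Pretriangulated

namespace Groth.Agent.H4.DZ6

attribute [local instance] HasDerivedCategory.standard
attribute [local instance] Groth.Agent.H4.LK4.hasLTen Groth.Agent.H4.LK5.hasLTen₃
  Groth.Agent.H4.KI7.isSymMonoidal Groth.Agent.H4.KI6.hasRHom

open DRing DTen DerivedCategory Groth.Agent.H4.DThick Groth.Agent.H4.DCompl1 Groth.Agent.H4.CF1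
  Groth.Agent.H4.InjAmp Groth.Agent.H4.DZ1 Groth.Agent.H4.DZ2 Groth.Agent.H4.DZ3 Groth.Agent.H4.DZ4
  Groth.Agent.H4.DZ5
  Groth.Agent.H4.EV5 Groth.Agent.H4.HC6 Groth.Agent.H4.ProjAmp Groth.Agent.H4.DRing1
  Groth.Agent.H4.DComp

variable {A : Type u} [CommRing A]

section ses

/-- vanishing of `Hom(-, Y)` is stable under extensions of modules -/
lemma subsingleton_hom_of_exact (Y : Dual.D A) (N₁ N₂ N₃ : Type u) [AddCommGroup N₁] [Module A N₁]
    [AddCommGroup N₂] [Module A N₂] [AddCommGroup N₃] [Module A N₃]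
    (f : N₁ →ₗ[A] N₂) (g : N₂ →ₗ[A] N₃) (hf : Function.Injective f) (hg : Function.Surjective g)
    (hfg : Function.Exact f g) (h1 : Subsingleton (Dual.inD A N₁ ⟶ Y))
    (h3 : Subsingleton (Dual.inD A N₃ ⟶ Y)) : Subsingleton (Dual.inD A N₂ ⟶ Y) := by
  let S : ShortComplex (ModuleCat.{u} A) :=
    ShortComplex.mk (ModuleCat.ofHom f) (ModuleCat.ofHom g) (by
      ext x
      exact hfg.apply_apply_eq_zero x)
  have hS : S.ShortExact := ModuleCat.shortComplex_shortExact S hfg hf hg
  have hT := hS.singleTriangle_distinguished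
  refine ⟨fun a b => ?_⟩
  have key : ∀ a : Dual.inD A N₂ ⟶ Y, a = 0 := by
    intro a
    have ha : (singleFunctor (ModuleCat.{u} A) 0).map S.f ≫ a = 0 :=
      @Subsingleton.elim _ h1 _ _
    obtain ⟨c, hc⟩ := Triangle.yoneda_exact₂ _ hT a ha
    have hc0 : c = 0 := @Subsingleton.elim _ h3 _ _
    rw [hc, hc0]
    exact comp_zero
  rw [key a, key b]

/-- the multiplication sequence: every map `M[0] ⟶ Y` is divisible by `x` as soon as
`Hom(M/xM[0], Y[1]) = 0` and `x` is a nonzerodivisor on `M` -/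
lemma exists_smul_of_subsingleton (Y : Dual.D A) (M : Type u) [AddCommGroup M] [Module A M] (x : A)
    (hx : Function.Injective (LinearMap.lsmul A M x))
    (h : Subsingleton (Dual.inD A (M ⧸ LinearMap.range (LinearMap.lsmul A M x)) ⟶ Y⟦(1 : ℤ)⟧))
    (φ : Dual.inD A M ⟶ Y) : ∃ ψ : Dual.inD A M ⟶ Y, φ = x • ψ := by
  let μ := LinearMap.lsmul A M x
  let S : ShortComplex (ModuleCat.{u} A) :=
    ShortComplex.mk (ModuleCat.ofHom μ) (ModuleCat.ofHom (LinearMap.range μ).mkQ) (by
      ext y
      change (LinearMap.range μ).mkQ (μ y) = 0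
      rw [Submodule.mkQ_apply, Submodule.Quotient.mk_eq_zero]
      exact ⟨y, rfl⟩)
  have hS : S.ShortExact := ModuleCat.shortComplex_shortExact S
    (LinearMap.exact_map_mkQ_range μ) hx (Submodule.mkQ_surjective _)
  have hT := inv_rot_of_distTriang _ hS.singleTriangle_distinguished
  have h0 : ∀ a : (Dual.inD A (M ⧸ LinearMap.range μ))⟦(-1 : ℤ)⟧ ⟶ Y, a = 0 := by
    intro a
    let e := shiftHomLinEquiv (Dual.inD A (M ⧸ LinearMap.range μ)) Y (-1) 1 (by simp)
    apply e.injective
    rw [map_zero]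
    exact Subsingleton.elim _ _
  obtain ⟨ψ, hψ⟩ := Triangle.yoneda_exact₂ _ hT φ (h0 _)
  change Dual.inD A M ⟶ Y at ψ
  refine ⟨ψ, ?_⟩
  rw [hψ]
  change (singleFunctor (ModuleCat.{u} A) 0).map (ModuleCat.ofHom μ) ≫ ψ = x • ψ
  have hμ : ModuleCat.ofHom μ = x • 𝟙 (ModuleCat.of A M) := by
    ext y
    rfl
  rw [hμ, Functor.map_smul, CategoryTheory.Functor.map_id, Linear.smul_comp, id_comp]

end ses

section mod

variable [IsLocalRing A] [IsNoetherianRing A]

omit [IsLocalRing A] [IsNoetherianRing A] in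
lemma subsingleton_hom_of_linearEquiv (Y : Dual.D A) {N N' : Type u} [AddCommGroup N] [Module A N]
    [AddCommGroup N'] [Module A N'] (e : N ≃ₗ[A] N') (h : Subsingleton (Dual.inD A N' ⟶ Y)) :
    Subsingleton (Dual.inD A N ⟶ Y) := by
  let i : Dual.inD A N ≅ Dual.inD A N' :=
    (singleFunctor (ModuleCat.{u} A) 0).mapIso e.toModuleIso
  exact (isoHomLinEquiv i Y).toEquiv.subsingleton

/-- the inductive step: `Ext^{i+1}(-, ω) = 0` on finite modules and `Ext^i(κ, ω) = 0` imply
`Ext^i(-, ω) = 0` on finite modules -/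
theorem subsingleton_ext_step (ω : Dual.D A) (hω : Dual.IsDualizing A ω) (i : ℤ)
    (hi : Subsingleton (Dual.inD A (IsLocalRing.ResidueField A) ⟶ ω⟦i⟧))
    (hP : ∀ (M : Type u) [AddCommGroup M] [Module A M] [Module.Finite A M],
      Subsingleton (Dual.inD A M ⟶ ω⟦i + 1⟧))
    (M : Type u) [AddCommGroup M] [Module A M] [hM : Module.Finite A M] :
    Subsingleton (Dual.inD A M ⟶ ω⟦i⟧) := by
  obtain ⟨a, b, hab⟩ := exists_injAmp_of_isDualizing ω hω
  induction hM using IsNoetherianRing.induction_on_isQuotientEquivQuotientPrime A with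
  | subsingleton N =>
    have hz : IsZero (Dual.inD A N) :=
      (singleFunctor (ModuleCat.{u} A) 0).map_isZero (ModuleCat.isZero_of_subsingleton _)
    exact ⟨fun f g => hz.eq_of_src f g⟩
  | quotient N p e =>
    refine subsingleton_hom_of_linearEquiv _ e ?_
    by_cases hp : p.asIdeal = IsLocalRing.maximalIdeal A
    · exact subsingleton_hom_of_linearEquiv _ (Submodule.quotEquivOfEq _ _ hp) hi
    · -- choose `x ∈ m ∖ p`
      have hlt : p.asIdeal < IsLocalRing.maximalIdeal A :=
        lt_of_le_of_ne (IsLocalRing.le_maximalIdeal p.isPrime.ne_top) hp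
      obtain ⟨x, hxm, hxp⟩ := Set.exists_of_ssubset hlt
      haveI := p.isPrime
      have hinj : Function.Injective (LinearMap.lsmul A (A ⧸ p.asIdeal) x) := by
        rw [injective_iff_map_eq_zero]
        intro y hy
        have h1 : (Ideal.Quotient.mk p.asIdeal x) * y = 0 := by
          rw [← hy]; rfl
        rcases mul_eq_zero.1 h1 with h2 | h2
        · exact absurd (Ideal.Quotient.eq_zero_iff_mem.1 h2) hxp
        · exact h2
      have hQ : Subsingleton (Dual.inD A ((A ⧸ p.asIdeal) ⧸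
          LinearMap.range (LinearMap.lsmul A (A ⧸ p.asIdeal) x)) ⟶ (ω⟦i⟧)⟦(1 : ℤ)⟧) := by
        haveI := hP ((A ⧸ p.asIdeal) ⧸ LinearMap.range (LinearMap.lsmul A (A ⧸ p.asIdeal) x))
        exact (homIsoLinEquiv _
          ((CategoryTheory.shiftFunctorAdd' (Dual.D A) i 1 (i + 1) rfl).app ω)).symm.toEquiv.subsingleton
      have hdiv := exists_smul_of_subsingleton (ω⟦i⟧) (A ⧸ p.asIdeal) x hinj hQ
      haveI : Module.Finite A (Dual.inD A (A ⧸ p.asIdeal) ⟶ ω⟦i⟧) :=
        S1746 (Dual.inD A (A ⧸ p.asIdeal)) ω (fun j => finite_HD_inD (A ⧸ p.asIdeal) j)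
          hω.finite_cohomology ⟨a, b, hab⟩ i
      have htop : (⊤ : Submodule A (Dual.inD A (A ⧸ p.asIdeal) ⟶ ω⟦i⟧)) = ⊥ := by
        refine Submodule.eq_bot_of_le_smul_of_le_jacobson_bot (IsLocalRing.maximalIdeal A) ⊤
          Module.Finite.fg_top ?_ (by rw [IsLocalRing.jacobson_eq_maximalIdeal ⊥ bot_ne_top])
        intro φ _
        obtain ⟨ψ, rfl⟩ := hdiv φ
        exact Submodule.smul_mem_smul hxm Submodule.mem_top
      refine ⟨fun f g => ?_⟩
      have hf : f ∈ (⊤ : Submodule A (Dual.inD A (A ⧸ p.asIdeal) ⟶ ω⟦i⟧)) := Submodule.mem_top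
      have hg : g ∈ (⊤ : Submodule A (Dual.inD A (A ⧸ p.asIdeal) ⟶ ω⟦i⟧)) := Submodule.mem_top
      rw [htop, Submodule.mem_bot] at hf hg
      rw [hf, hg]
  | exact N₁ N₂ N₃ f g hf hg hfg h1 h3 =>
    exact subsingleton_hom_of_exact _ N₁ N₂ N₃ f g hf hg hfg h1 h3

/-- `Ext^i(M, ω) = 0` for `i > 0`, `M` finite and `ω` normalized -/
theorem subsingleton_ext_of_pos (ω : Dual.D A) (hω : Dual.IsDualizing A ω)
    (hn : Dual.IsNormalized A ω) (i : ℤ) (hi : 0 < i)
    (M : Type u) [AddCommGroup M] [Module A M] [Module.Finite A M] :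
    Subsingleton (Dual.inD A M ⟶ ω⟦i⟧) := by
  obtain ⟨a, b, hab⟩ := hω.finite_injective_dimension
  have key : ∀ (k : ℕ) (i : ℤ), 0 < i → b < i + k →
      ∀ (M : Type u) [AddCommGroup M] [Module A M] [Module.Finite A M],
        Subsingleton (Dual.inD A M ⟶ ω⟦i⟧) := by
    intro k
    induction k with
    | zero =>
      intro i _ hb M _ _ _
      exact hab M i (Or.inr (by simpa using hb))
    | succ k ih =>
      intro i hi hb M _ _ _
      exact subsingleton_ext_step ω hω i (hn i (by omega))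
        (fun M' _ _ _ => ih (i + 1) (by omega) (by push_cast at hb; omega) M') M
  exact key (b - i + 1).toNat i hi (by
    have := Int.self_le_toNat (b - i + 1)
    omega) M

end mod

section dev

/-- dévissage: a bounded object has no maps to `Y` as soon as its shifted cohomology modules have
none -/
theorem subsingleton_hom_of_homology (Y : Dual.D A) (c : ℤ) : ∀ (d : ℕ) (N : Dual.D A),
    N.IsGE c → N.IsLE (c + d - 1) →
    (∀ j : ℤ, Subsingleton ((singleFunctor (ModuleCat.{u} A) j).obj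
      ((homologyFunctor (ModuleCat.{u} A) j).obj N) ⟶ Y)) → Subsingleton (N ⟶ Y) := by
  intro d
  induction d with
  | zero =>
    intro N hge hle _
    haveI := hge
    haveI : N.IsLE (c - 1) := by simpa using hle
    have hz : IsZero N := (tR A).isZero N (c - 1) c (by omega)
    exact ⟨fun f g => hz.eq_of_src f g⟩
  | succ d ih =>
    intro N hge hle h
    haveI := hge
    haveI : N.IsLE (c + d) := by
      have e : c + ((d + 1 : ℕ) : ℤ) - 1 = c + d := by push_cast; ring
      rwa [e] at hle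
    let n : ℤ := c + d
    let T := ((tR A).triangleLTGE n).obj N
    have hT : T ∈ distinguishedTriangles := (tR A).triangleLTGE_distinguished n N
    haveI : T.obj₃.IsGE n := inferInstanceAs ((tR A).IsGE (((tR A).truncGE n).obj N) n)
    haveI : T.obj₃.IsLE n := inferInstanceAs ((tR A).IsLE (((tR A).truncGE n).obj N) n)
    haveI h1le : T.obj₁.IsLE (n - 1) :=
      inferInstanceAs ((tR A).IsLE (((tR A).truncLT n).obj N) (n - 1))
    haveI h1ge : T.obj₁.IsGE c := inferInstanceAs ((tR A).IsGE (((tR A).truncLT n).obj N) c)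
    -- the first vertex
    have h1 : Subsingleton (T.obj₁ ⟶ Y) := by
      refine ih T.obj₁ h1ge (by simpa [n] using h1le) (fun j => ?_)
      by_cases hj : j < n
      · have hiso : IsIso ((homologyFunctor (ModuleCat.{u} A) j).map T.mor₁) :=
          isIso_homology_mor₁ T hT n j hj
        let e1 : (homologyFunctor (ModuleCat.{u} A) j).obj T.obj₁ ≅
            (homologyFunctor (ModuleCat.{u} A) j).obj N :=
          @asIso _ _ _ _ ((homologyFunctor (ModuleCat.{u} A) j).map T.mor₁) hiso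
        haveI := h j
        exact (isoHomLinEquiv ((singleFunctor (ModuleCat.{u} A) j).mapIso e1) Y).toEquiv.subsingleton
      · have hz : IsZero ((singleFunctor (ModuleCat.{u} A) j).obj
            ((homologyFunctor (ModuleCat.{u} A) j).obj T.obj₁)) :=
          (singleFunctor (ModuleCat.{u} A) j).map_isZero
            (isZero_of_isLE T.obj₁ (n - 1) j (by omega))
        exact ⟨fun f g => hz.eq_of_src f g⟩
    -- the third vertex
    have h3 : Subsingleton (T.obj₃ ⟶ Y) := by
      obtain ⟨e⟩ := Groth.Agent.H4.PC.exists_iso_single T.obj₃ n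
      have hiso : IsIso ((homologyFunctor (ModuleCat.{u} A) n).map T.mor₂) :=
        isIso_homology_mor₂ T hT n n le_rfl
      let e2 : (homologyFunctor (ModuleCat.{u} A) n).obj N ≅
          (homologyFunctor (ModuleCat.{u} A) n).obj T.obj₃ :=
        @asIso _ _ _ _ ((homologyFunctor (ModuleCat.{u} A) n).map T.mor₂) hiso
      haveI := h n
      exact (isoHomLinEquiv (e ≪≫ (singleFunctor (ModuleCat.{u} A) n).mapIso e2.symm)
        Y).toEquiv.subsingleton
    refine ⟨fun a b => ?_⟩
    have key : ∀ a : N ⟶ Y, a = 0 := by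
      intro a
      have ha : T.mor₁ ≫ a = 0 := @Subsingleton.elim _ h1 _ _
      obtain ⟨g, hg⟩ := Triangle.yoneda_exact₂ _ hT a ha
      have hg0 : g = 0 := @Subsingleton.elim _ h3 _ _
      rw [hg, hg0]
      exact comp_zero
    rw [key a, key b]

end dev

section final

variable [IsLocalRing A] [IsNoetherianRing A]

theorem S19132 (A : Type u) [CommRing A] [IsLocalRing A] [IsNoetherianRing A]
    (ω : Dual.D A) (hω : Dual.IsDualizing A ω) (hn : Dual.IsNormalized A ω)
    (N : Dual.D A) (hfin : ∀ i : ℤ, Module.Finite A (Dual.HD A N i))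
    (b : ℤ) (hb : ∀ i : ℤ, b < i → Subsingleton (Dual.HD A N i))
    (hge : ∀ i : ℤ, i < 0 → Subsingleton (Dual.HD A N i))
    (i : ℤ) (hi : 0 < i) :
    Subsingleton (N ⟶ ω⟦i⟧) := by
  have hNge : N.IsGE 0 := by
    rw [isGE_iff]
    intro j hj
    haveI := hge j hj
    exact ModuleCat.isZero_of_subsingleton _
  have hNle : N.IsLE (0 + ((b + 1).toNat : ℤ) - 1) := by
    rw [isLE_iff]
    intro j hj
    have := Int.self_le_toNat (b + 1)
    haveI := hb j (by omega)
    exact ModuleCat.isZero_of_subsingleton _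
  refine subsingleton_hom_of_homology (ω⟦i⟧) 0 (b + 1).toNat N hNge hNle (fun j => ?_)
  by_cases hj : j < 0
  · haveI := hge j hj
    have hz : IsZero ((singleFunctor (ModuleCat.{u} A) j).obj
        ((homologyFunctor (ModuleCat.{u} A) j).obj N)) :=
      (singleFunctor (ModuleCat.{u} A) j).map_isZero (ModuleCat.isZero_of_subsingleton _)
    exact ⟨fun f g => hz.eq_of_src f g⟩
  · -- `H^j(N)[-j] ⟶ ω[i]` is `H^j(N) ⟶ ω[i + j]`
    let M := (homologyFunctor (ModuleCat.{u} A) j).obj N
    haveI : Module.Finite A M := hfin j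
    let eT : (singleFunctor (ModuleCat.{u} A) j).obj M ≅
        ((singleFunctor (ModuleCat.{u} A) 0).obj M)⟦-j⟧ :=
      (((singleFunctors (ModuleCat.{u} A)).shiftIso (-j) j 0 (by simp)).app M).symm
    let e := ((isoHomLinEquiv eT (ω⟦i⟧)).trans
      (shiftHomLinEquiv ((singleFunctor (ModuleCat.{u} A) 0).obj M) (ω⟦i⟧) (-j) j (by simp))).trans
      (homIsoLinEquiv ((singleFunctor (ModuleCat.{u} A) 0).obj M)
        ((CategoryTheory.shiftFunctorAdd' (Dual.D A) i j (i + j) rfl).app ω).symm)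
    haveI : Subsingleton ((singleFunctor (ModuleCat.{u} A) 0).obj M ⟶ ω⟦i + j⟧) :=
      subsingleton_ext_of_pos ω hω hn (i + j) (by omega) M
    exact e.toEquiv.subsingleton

end final

end Groth.Agent.H4.DZ6
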