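import Mathlib
import Groth.Agent.H4.LDer7
import Groth.Agent.H4.PC8
import Groth.Agent.H4.ExtS

set_option autoImplicit false
universe u
open CategoryTheory CategoryTheory.Limits CategoryTheory.Pretriangulated MonoidalCategory

namespace Groth.Agent.H4.PCDesc

attribute [local instance] HasDerivedCategory.standard

open DerivedCategory DRing Groth.Agent.H4.LDer Groth.Agent.H4.PC Groth.Agent.H4.ResP
  Groth.Agent.H4.DRing1

variable {A B : Type u} [CommRing A] [CommRing B]


lemma epi_extendScalars_map (φ : A →+* B) {M N : ModuleCat.{u} A} (f : M ⟶ N) [Epi f] :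
    Epi ((ModuleCat.extendScalars.{u, u, u} φ).map f) := by
  haveI := Functor.preservesEpimorphisms_of_adjunction (ModuleCat.extendRestrictScalarsAdj.{u} φ)
  infer_instance

/-- for `E` vanishing above `b`, finiteness of `H^b(B ⊗ E)` implies that of `B ⊗ H^b(E)` -/
lemma finite_ext_homology_top (φ : A →+* B) (E : Cx A) (b : ℤ) (hE : ∀ i, b < i → IsZero (E.X i))
    (h : Module.Finite B (((GC (ModuleCat.extendScalars.{u, u, u} φ)).obj E).homology b)) :
    Module.Finite B ((ModuleCat.extendScalars.{u, u, u} φ).obj (E.homology b)) := by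
  set G := ModuleCat.extendScalars.{u, u, u} φ with hG
  set E' := (GC G).obj E with hE'
  have hd : E.d b (b + 1) = 0 := (hE (b + 1) (by omega)).eq_of_tgt _ _
  have hd' : E'.d b (b + 1) = 0 := (G.map_isZero (hE (b + 1) (by omega))).eq_of_tgt _ _
  have e1 : E.homology b ≅ E.opcycles b := E.isoHomologyι b (b + 1) (by simp) hd
  have e2 : E'.homology b ≅ E'.opcycles b := E'.isoHomologyι b (b + 1) (by simp) hd'
  let k : E'.opcycles b ⟶ G.obj (E.opcycles b) :=
    E'.descOpcycles (G.map (E.pOpcycles b)) (b - 1) (by simp) (by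
      change G.map (E.d (b - 1) b) ≫ G.map (E.pOpcycles b) = 0
      rw [← G.map_comp, E.d_pOpcycles, G.map_zero])
  have hk : E'.pOpcycles b ≫ k = G.map (E.pOpcycles b) := E'.p_descOpcycles _ _ _ _
  haveI : Epi (E'.pOpcycles b ≫ k) := by rw [hk]; exact epi_extendScalars_map φ _
  haveI : Epi k := epi_of_epi (E'.pOpcycles b) k
  have h1 : Module.Finite B (E'.opcycles b) := finite_of_epi e2.hom h
  have h2 : Module.Finite B (G.obj (E.opcycles b)) := finite_of_epi k h1
  exact finite_of_epi (G.map e1.inv) h2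

section
variable (G : ModuleCat.{u} A ⥤ ModuleCat.{u} B) [G.Additive]
  [(Gh G).HasLeftDerivedFunctor (WA A)]

/-- left derived functors are right t-exact. -/
theorem isLE_LG (K : Dual.D A) (b : ℤ) [K.IsLE b] : ((LG G).obj K).IsLE b := by
  obtain ⟨P, hP, ⟨e⟩⟩ := exists_iso_of_isLE K b
  haveI := hP.isKProjective
  have e1 := isoOfIso G P e
  haveI : (toD ((GC G).obj P)).IsLE b := by
    refine isLE_of_exactAt _ b (fun i hi => ?_)
    refine ShortComplex.exact_of_isZero_X₂ _ ?_
    exact G.map_isZero (hP.1 i hi)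
  exact TStructure.t.isLE_of_iso e1.symm b

end

lemma IsBFF.isBAF {E : Cx A} (hE : IsBFF E) : ∃ b, IsBAF b E := by
  obtain ⟨a, b, h1, h2⟩ := hE
  exact ⟨b, fun i hi => h1 i (Or.inr hi), fun i => (h2 i).2⟩

lemma IsBFF.extendScalars (φ : A →+* B) {E : Cx A} (hE : IsBFF E) :
    IsBFF ((GC (ModuleCat.extendScalars.{u, u, u} φ)).obj E) := by
  obtain ⟨a, b, h1, h2⟩ := hE
  refine ⟨a, b, fun i hi => (ModuleCat.extendScalars.{u, u, u} φ).map_isZero (h1 i hi), fun i => ?_⟩
  haveI := (h2 i).1
  haveI := (h2 i).2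
  exact ⟨Groth.Agent.H4.ExtS.finite_obj φ (E.X i), Groth.Agent.H4.ExtS.free_obj φ (E.X i)⟩

section
variable (φ : A →+* B) [DRing.HasLBaseChange φ]

/-- derived base change preserves `m`-pseudo-coherence. -/
theorem isPC_LBaseChange (m : ℤ) (K : Dual.D A) (h : IsPseudoCoherent A m K) :
    IsPseudoCoherent B m ((DRing.LBaseChange φ).obj K) := by
  obtain ⟨b, hb⟩ := exists_bound_of_isPC h
  haveI : K.IsLE b := isLE_of_forall_isZero K b hb
  rw [isPC_iff] at h ⊢
  obtain ⟨E, hE, α, hα⟩ := h
  obtain ⟨bE, hE'⟩ := IsBFF.isBAF hE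
  exact ⟨_, IsBFF.extendScalars φ hE, _,
    isWit_LG_map (G := ModuleCat.extendScalars.{u, u, u} φ) (flatExact_extendScalars φ) hE' K b α m hα⟩

end

section
variable (φ : A →+* B) [DRing.HasLBaseChange φ]

theorem isPC_of_isPC_LBaseChange_aux
    (D2 : ∀ M : ModuleCat.{u} A, Module.Finite B ((ModuleCat.extendScalars.{u, u, u} φ).obj M) →
      Module.Finite A M) (m : ℤ) (d : ℕ) : ∀ (b : ℤ) (K : Dual.D A), b < m + d → K.IsLE b →
      IsPseudoCoherent B m ((DRing.LBaseChange φ).obj K) → IsPseudoCoherent A m K := by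
  induction d with
  | zero =>
    intro b K hb hK _
    haveI : K.IsLE (m - 1) := TStructure.t.isLE_of_le K b (m - 1) (by push_cast at hb; omega)
    exact isPC_of_isLE m K
  | succ d ih =>
    intro b K hb hK h
    by_cases hbm : b < m
    · haveI : K.IsLE (m - 1) := TStructure.t.isLE_of_le K b (m - 1) (by omega)
      exact isPC_of_isLE m K
    have hmb : m ≤ b := by omega
    set G := ModuleCat.extendScalars.{u, u, u} φ with hG
    haveI : ((DRing.LBaseChange φ).obj K).IsLE b := isLE_LG G K b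
    -- `H^b(K)` is finite
    have hfin : Module.Finite A ((homologyFunctor (ModuleCat.{u} A) b).obj K) := by
      have h1 : Module.Finite B ((homologyFunctor (ModuleCat.{u} B) b).obj
          ((DRing.LBaseChange φ).obj K)) :=
        finite_homology _ b (isPC_mono hmb h) (fun i hi => isZero_of_isLE _ b i hi)
      obtain ⟨P, hP, ⟨e⟩⟩ := exists_iso_of_isLE K b
      haveI := hP.isKProjective
      have e1 := isoOfIso G P e
      have h2 : Module.Finite B (((GC G).obj P).homology b) :=
        finite_of_epi ((homologyFunctor (ModuleCat.{u} B) b).map e1.hom ≫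
          (homologyToDIso _ b).hom) h1
      have h3 := finite_ext_homology_top φ P b hP.1 h2
      have e2 : P.homology b ≅ (homologyFunctor (ModuleCat.{u} A) b).obj K :=
        (homologyToDIso P b).symm ≪≫ (homologyFunctor (ModuleCat.{u} A) b).mapIso e
      exact D2 _ (finite_of_epi (G.map e2.hom) h3)
    obtain ⟨k, ψ, hψ⟩ := exists_wit_from_sgl K b hfin
    obtain ⟨C, g, hh, hT⟩ := distinguished_cocone_triangle ψ
    have hC : C.IsLE (b - 1) := (isWit_iff_isLE _ hT b).1 hψ
    obtain ⟨T', hT', ⟨e₁⟩, ⟨e₂⟩, ⟨e₃⟩⟩ := exists_distTriang_LG' G _ hT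
    have hsgl : ∀ j : ℤ, IsPseudoCoherent A j (toD (Groth.Agent.H4.ProjAmp.sgl (ModuleCat.of A (Fin k → A)) b)) :=
      fun j => isPC_toD j _ (isBFF_sgl _ b)
    have h₁ : IsPseudoCoherent B (m + 1) T'.obj₁ :=
      isPC_of_iso e₁.symm (isPC_LBaseChange φ (m + 1) _ (hsgl _))
    have h₂ : IsPseudoCoherent B m T'.obj₂ := isPC_of_iso e₂.symm h
    have h₃ : IsPseudoCoherent B m ((DRing.LBaseChange φ).obj C) :=
      isPC_of_iso e₃ (isPC_obj₃ T' hT' m h₁ h₂)
    have hC' : IsPseudoCoherent A m C := ih (b - 1) C (by push_cast at hb; omega) hC h₃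
    exact isPC_obj₂ _ hT m (hsgl m) hC'

/-- **Descent of pseudo-coherence.** If derived base change along `φ` detects boundedness above and
extension of scalars detects finiteness of modules, then it detects `m`-pseudo-coherence. -/
theorem isPC_of_isPC_LBaseChange
    (D1 : ∀ (K : Dual.D A) (b : ℤ), ((DRing.LBaseChange φ).obj K).IsLE b → K.IsLE b)
    (D2 : ∀ M : ModuleCat.{u} A, Module.Finite B ((ModuleCat.extendScalars.{u, u, u} φ).obj M) →
      Module.Finite A M) (m : ℤ) (K : Dual.D A)
    (h : IsPseudoCoherent B m ((DRing.LBaseChange φ).obj K)) : IsPseudoCoherent A m K := by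
  obtain ⟨b, hb⟩ := exists_bound_of_isPC h
  have hK : K.IsLE b := D1 K b (isLE_of_forall_isZero _ b hb)
  exact isPC_of_isPC_LBaseChange_aux φ D2 m (b + 1 - m).toNat b K (by
    have := Int.self_le_toNat (b + 1 - m); omega) hK h

end

end Groth.Agent.H4.PCDesc
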