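import Mathlib
import Groth.Agent.H4.PCDesc1
import Groth.Agent.H4.ProjF

set_option autoImplicit false
universe u
open CategoryTheory CategoryTheory.Limits MonoidalCategory

namespace Groth.Agent.H4.PCDesc

attribute [local instance] HasDerivedCategory.standard

open DerivedCategory DRing Groth.Agent.H4.LDer Groth.Agent.H4.PC Groth.Agent.H4.BC
  Groth.Agent.H4.ProjF

variable {A B : Type u} [CommRing A] [CommRing B] (φ : A →+* B)

/-- the elements `1 ⊗ m`. -/
def oneT (M : ModuleCat.{u} A) : Set ((ModuleCat.extendScalars.{u, u, u} φ).obj M) :=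
  Set.range (fun m : M => et φ M 1 m)

lemma span_oneT (M : ModuleCat.{u} A) : Submodule.span B (oneT φ M) = ⊤ := by
  rw [eq_top_iff]
  intro z _
  induction z using ext_induction φ with
  | zero => exact Submodule.zero_mem _
  | tmul s m =>
    have h1 : et φ M s m = s • et φ M 1 m := by rw [smul_et, mul_one]
    rw [h1]
    exact Submodule.smul_mem _ s (Submodule.subset_span ⟨m, rfl⟩)
  | add x y hx hy => exact Submodule.add_mem _ (hx trivial) (hy trivial)

lemma map_et {M M' : ModuleCat.{u} A} (g : M ⟶ M') (s : B) (m : M) :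
    (ModuleCat.extendScalars.{u, u, u} φ).map g (et φ M s m) = et φ M' s (g m) := rfl

theorem exists_map_epi_extendScalars (M : ModuleCat.{u} A)
    (h : Module.Finite B ((ModuleCat.extendScalars.{u, u, u} φ).obj M)) :
    ∃ (F : ModuleCat.{u} A), Module.Finite A F ∧ Module.Free A F ∧
      ∃ f : F ⟶ M, Epi ((ModuleCat.extendScalars.{u, u, u} φ).map f) := by
  have hS := span_oneT φ M
  have hfg : (Submodule.span B (oneT φ M)).FG := hS ▸ h.fg_top
  obtain ⟨s', hs'S, hs'⟩ := (Submodule.fg_span_iff_fg_span_finset_subset _).1 hfg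
  choose m hm using fun x : s' => hs'S x.2
  let f₀ : (s' → A) →ₗ[A] M := (Pi.basisFun A s').constr A m
  refine ⟨ModuleCat.of A (s' → A), inferInstance, inferInstance, ModuleCat.ofHom f₀, ?_⟩
  rw [ModuleCat.epi_iff_surjective, ← LinearMap.range_eq_top, eq_top_iff, ← hS, hs',
    Submodule.span_le]
  intro x hx
  refine ⟨et φ (ModuleCat.of A (s' → A)) 1 (Pi.basisFun A s' ⟨x, hx⟩), ?_⟩
  rw [map_et]
  have h1 : (ModuleCat.ofHom f₀) (Pi.basisFun A s' ⟨x, hx⟩) = m ⟨x, hx⟩ := by
    change f₀ _ = _
    exact Module.Basis.constr_basis _ _ _ _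
  rw [h1]
  exact hm ⟨x, hx⟩

/-- if extension of scalars reflects zero objects, it detects finiteness. -/
theorem finite_of_finite_extendScalars
    (hz : ∀ Q : ModuleCat.{u} A, IsZero ((ModuleCat.extendScalars.{u, u, u} φ).obj Q) → IsZero Q)
    (M : ModuleCat.{u} A) (h : Module.Finite B ((ModuleCat.extendScalars.{u, u, u} φ).obj M)) :
    Module.Finite A M := by
  obtain ⟨F, hF, _, f, hf⟩ := exists_map_epi_extendScalars φ M h
  set G := ModuleCat.extendScalars.{u, u, u} φ with hG
  haveI : Epi (G.map (cokernel.π f)) := epi_extendScalars_map φ _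
  have h0 : G.map (cokernel.π f) = 0 := by
    rw [← cancel_epi (G.map f), ← G.map_comp, cokernel.condition, G.map_zero, comp_zero]
  have hQ : IsZero (cokernel f) := hz _ (by
    rw [IsZero.iff_id_eq_zero, ← cancel_epi (G.map (cokernel.π f)), h0, zero_comp, comp_zero])
  haveI : Epi f := Preadditive.epi_of_isZero_cokernel f hQ
  exact finite_of_epi f hF

end Groth.Agent.H4.PCDesc
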