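import Mathlib
import Groth.Agent.H4.FB2
import Groth.Agent.H4.DZ6
import Groth.Agent.H4.PCDesc2

set_option autoImplicit false
universe u
open CategoryTheory Category Limits Pretriangulated TensorProduct

namespace Groth.Agent.H4.FB3

attribute [local instance] HasDerivedCategory.standard

open DRing DerivedCategory Groth.Agent.H4.DCompl1 Groth.Agent.H4.DZ5 Groth.Agent.H4.FB1
  Groth.Agent.H4.FB2 Groth.Agent.H4.InjAmp Groth.Agent.H4.DZ3

section basic

variable {A : Type u} [CommRing A]

/-- being dualizing is invariant under isomorphism. -/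
theorem isDualizing_of_iso {ω ω' : Dual.D A} (e : ω ≅ ω') (h : Dual.IsDualizing A ω) :
    Dual.IsDualizing A ω' where
  isNoetherianRing := h.isNoetherianRing
  finite_injective_dimension := by
    obtain ⟨a, b, hab⟩ := h.finite_injective_dimension
    refine ⟨a, b, fun M _ _ i hi => ?_⟩
    haveI := hab M i hi
    exact ((Iso.refl _).homCongr ((shiftFunctor (Dual.D A) i).mapIso e)).symm.subsingleton
  finite_cohomology := fun i => by
    haveI := h.finite_cohomology i
    exact Module.Finite.equiv
      ((homologyFunctor (ModuleCat.{u} A) i).mapIso e).toLinearEquiv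
  toEnd_bijective := by
    have h1 := h.toEnd_bijective
    have hf : (fun a : A => a • 𝟙 ω') = ⇑(e.homCongr e) ∘ (fun a : A => a • 𝟙 ω) := by
      funext a
      simp [Iso.homCongr]
    rw [hf]
    exact (Equiv.bijective _).comp h1
  ext_self_subsingleton := fun i hi => by
    haveI := h.ext_self_subsingleton i hi
    exact (e.homCongr ((shiftFunctor (Dual.D A) i).mapIso e)).symm.subsingleton

/-- bounded above objects with finite cohomology over a Noetherian ring are pseudo-coherent. -/
lemma isPC'_of_finite [IsNoetherianRing A] (L : Dual.D A)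
    (hfin : ∀ i : ℤ, Module.Finite A (Dual.HD A L i)) (b : ℤ) [L.IsLE b] :
    IsPseudoCoherent' A L := by
  refine Groth.Agent.H4.PC.isPC'_of_forall_isPC L (fun m => ?_)
  rw [Groth.Agent.H4.PC.isPC_iff_of_noetherian]
  exact ⟨⟨b, fun i hi => isZero_of_isLE L b i hi⟩, fun i _ => hfin i⟩

lemma isPC'_inD [IsNoetherianRing A] (M : Type u) [AddCommGroup M] [Module A M] [Module.Finite A M] :
    IsPseudoCoherent' A (Dual.inD A M) := by
  haveI : (Dual.inD A M).IsLE 0 := inferInstance
  refine isPC'_of_finite (Dual.inD A M) (fun i => ?_) 0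
  by_cases hi : i = 0
  · subst hi
    haveI : Module.Finite A ((𝟭 (ModuleCat.{u} A)).obj (ModuleCat.of A M)) :=
      inferInstanceAs (Module.Finite A M)
    exact Module.Finite.equiv ((singleFunctorCompHomologyFunctorIso (ModuleCat.{u} A) 0).app
      (ModuleCat.of A M)).toLinearEquiv.symm
  · haveI : Subsingleton (Dual.HD A (Dual.inD A M) i) := by
      apply ModuleCat.subsingleton_of_isZero
      rcases lt_or_gt_of_ne hi with h | h
      · exact isZero_of_isGE (Dual.inD A M) 0 i h
      · exact isZero_of_isLE (Dual.inD A M) 0 i h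
    infer_instance

end basic

section crit

variable {A : Type u} [CommRing A] {B : Type u} [CommRing B] [Algebra A B] [Module.Flat A B]

/-- bounds and pseudo-coherence of a dualizing complex. -/
lemma exists_bounds_of_isDualizing (ω : Dual.D A) (hω : Dual.IsDualizing A ω) :
    ∃ a b : ℤ, ω.IsGE a ∧ ω.IsLE b ∧ IsPseudoCoherent' A ω := by
  haveI := hω.isNoetherianRing
  obtain ⟨a, b, hab⟩ := exists_injAmp_of_isDualizing ω hω
  haveI := isGE_of_injAmp ω a b hab
  haveI : ω.IsLE b := by
    obtain ⟨E, hE, -, ⟨e⟩⟩ := hab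
    haveI : (Q.obj E).IsLE b := by
      rw [isLE_Q_obj_iff, CochainComplex.isLE_iff]
      intro i hi
      exact HomologicalComplex.ExactAt.of_isZero (hE i (Or.inr hi))
    exact TStructure.t.isLE_of_iso e b
  exact ⟨a, b, inferInstance, inferInstance, isPC'_of_finite ω hω.finite_cohomology b⟩

/-- finiteness of the cohomology of `E K`. -/
lemma finite_HD_E (K : Dual.D A) (i : ℤ) [Module.Finite A (Dual.HD A K i)] :
    Module.Finite B (Dual.HD B ((E A B).obj K) i) := by
  haveI : Module.Finite B ((ModuleCat.extendScalars.{u, u, u} (algebraMap A B)).obj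
      ((homologyFunctor (ModuleCat.{u} A) i).obj K)) :=
    Groth.Agent.H4.ExtS.finite_obj (algebraMap A B) ((homologyFunctor (ModuleCat.{u} A) i).obj K)
  exact Module.Finite.equiv (homologyEIso K i).toLinearEquiv.symm

/-- **Criterion**: the flat base change of a dualizing complex is dualizing as soon as it has
finite injective dimension with respect to cyclic modules. -/
theorem isDualizing_E_of_cyclic [IsNoetherianRing B] (ω : Dual.D A) (hω : Dual.IsDualizing A ω)
    (a' b' : ℤ) (hcyc : ∀ (J : Ideal B) (i : ℤ), (i < a' ∨ b' < i) →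
      Subsingleton (Dual.inD B (B ⧸ J) ⟶ ((E A B).obj ω)⟦i⟧)) :
    Dual.IsDualizing B ((E A B).obj ω) := by
  obtain ⟨a, b, ha, hb, hpc⟩ := exists_bounds_of_isDualizing ω hω
  haveI := ha
  haveI := hb
  refine ⟨inferInstance, ?_, ?_, ?_, ?_⟩
  · have hP : Groth.Agent.H4.InjAmp.P a' b' ((E A B).obj ω) := by
      intro I i hi
      rw [subsingleton_sgl_iff]
      exact hcyc I i hi
    obtain ⟨E', hE', hinj, ⟨ε⟩⟩ := Groth.Agent.H4.InjAmp.exists_injective_rep
      ((b' - a').toNat + 1) a' b' ((E A B).obj ω) (by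
        have := Int.self_le_toNat (b' - a')
        push_cast
        omega) hP
    refine ⟨a', b', fun M _ _ i hi => ?_⟩
    exact ext_subsingleton_of_rep E' a' b' hE' hinj ((E A B).obj ω) ε (ModuleCat.of B M) i hi
  · intro i
    haveI := hω.finite_cohomology i
    exact finite_HD_E ω i
  · exact bijective_toEnd_E ω a hpc hω.toEnd_bijective
  · intro i hi
    haveI := hω.ext_self_subsingleton i hi
    haveI : (ω⟦i⟧).IsGE (a - i) := TStructure.t.isGE_shift ω a i (a - i) (by ring)
    have h1 := subsingleton_hom_E (B := B) (ω⟦i⟧) (a - i) ω hpc inferInstance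
    exact ((Iso.refl _).homCongr (EShiftIso ω i)).symm.subsingleton

/-- `E (A/I) ≅ B/IB`. -/
noncomputable def EQuotIso (I : Ideal A) :
    (E A B).obj (Dual.inD A (A ⧸ I)) ≅ Dual.inD B (B ⧸ I.map (algebraMap A B)) :=
  ESingleIso (ModuleCat.of A (A ⧸ I)) 0 ≪≫
    (singleFunctor (ModuleCat.{u} B) 0).mapIso
      ((Groth.Agent.H8.ExtBridge.extEquiv (A := A) (B := B) (ModuleCat.of A (A ⧸ I))).trans
        (Algebra.TensorProduct.quotIdealMapEquivTensorQuot B I).toLinearEquiv.symm).toModuleIso

/-- vanishing of `Ext^i(A/I, ω)` passes to `Ext^i(B/IB, E ω)`. -/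
theorem subsingleton_quot_E [IsNoetherianRing A] (K : Dual.D A) (a : ℤ) [K.IsGE a] (I : Ideal A)
    (i : ℤ) (h : Subsingleton (Dual.inD A (A ⧸ I) ⟶ K⟦i⟧)) :
    Subsingleton (Dual.inD B (B ⧸ I.map (algebraMap A B)) ⟶ ((E A B).obj K)⟦i⟧) := by
  haveI : (K⟦i⟧).IsGE (a - i) := TStructure.t.isGE_shift K a i (a - i) (by ring)
  have h1 := subsingleton_hom_E (B := B) (K⟦i⟧) (a - i) (Dual.inD A (A ⧸ I))
    (isPC'_inD (A ⧸ I)) h
  exact ((EQuotIso I).homCongr (EShiftIso K i)).symm.subsingleton

end crit

section loc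

variable (A : Type u) [CommRing A] [IsNoetherianRing A] (S : Submonoid A)

theorem isDualizing_E_localization (ω : Dual.D A) (hω : Dual.IsDualizing A ω) :
    Dual.IsDualizing (Localization S) ((E A (Localization S)).obj ω) := by
  haveI : IsNoetherianRing (Localization S) :=
    IsLocalization.isNoetherianRing S (Localization S) inferInstance
  obtain ⟨a₀, b₀, ha₀, -, -⟩ := exists_bounds_of_isDualizing ω hω
  haveI := ha₀
  obtain ⟨a, b, hab⟩ := hω.finite_injective_dimension
  refine isDualizing_E_of_cyclic ω hω a b (fun J i hi => ?_)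
  obtain ⟨I, rfl⟩ : ∃ I : Ideal A, J = I.map (algebraMap A (Localization S)) :=
    ⟨_, (IsLocalization.map_under S (Localization S) J).symm⟩
  exact subsingleton_quot_E ω a₀ I i (hab (A ⧸ I) i hi)

theorem S1775 [DRing.HasLBaseChange (algebraMap A (Localization S))] (ω : Dual.D A)
    (hω : Dual.IsDualizing A ω) :
    Dual.IsDualizing (Localization S)
      ((DRing.LBaseChange (algebraMap A (Localization S))).obj ω) :=
  isDualizing_of_iso (LBCIso ω).symm (isDualizing_E_localization A S ω hω)

end loc

end Groth.Agent.H4.FB3
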