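import Mathlib
import Groth.Prelude.Def_DualLC

set_option autoImplicit false
universe u w
open CategoryTheory Category Limits Opposite

namespace Groth.Agent.H4.LD3

section Colim

variable {R : Type u} [CommRing R]

noncomputable instance forgetPreservesNat (F : ℕᵒᵖᵒᵖ ⥤ ModuleCat.{w} R) :
    PreservesColimit F (forget (ModuleCat.{w} R)) := by
  have h1 : PreservesFilteredColimitsOfSize.{0, 0} (forget AddCommGrpCat.{w}) :=
    preservesSmallestFilteredColimits_of_preservesFilteredColimits.{w, w} _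
  have h2 : PreservesColimit F (forget₂ (ModuleCat.{w} R) AddCommGrpCat.{w}) := inferInstance
  have h3 : PreservesColimit (F ⋙ forget₂ (ModuleCat.{w} R) AddCommGrpCat.{w})
      (forget AddCommGrpCat.{w}) := inferInstance
  have : PreservesColimit F (forget₂ (ModuleCat.{w} R) AddCommGrpCat.{w} ⋙
      forget AddCommGrpCat.{w}) := inferInstance
  exact this

variable (F : ℕᵒᵖᵒᵖ ⥤ ModuleCat.{w} R)

/-- The canonical map from the `n`-th stage. -/
noncomputable def cι (n : ℕ) : F.obj (op (op n)) →ₗ[R] (colimit F : ModuleCat.{w} R) :=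
  (colimit.ι F (op (op n))).hom

/-- The transition maps. -/
noncomputable def ctr {n m : ℕ} (h : n ≤ m) : F.obj (op (op n)) →ₗ[R] F.obj (op (op m)) :=
  (F.map (homOfLE h).op.op).hom

variable {F}

theorem cι_surj (x : (colimit F : ModuleCat.{w} R)) : ∃ n y, cι F n y = x := by
  obtain ⟨j, y, hy⟩ := Concrete.isColimit_exists_rep F (colimit.isColimit F) x
  exact ⟨j.unop.unop, y, hy⟩

theorem cι_eq_iff {n m : ℕ} (x : F.obj (op (op n))) (y : F.obj (op (op m))) :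
    cι F n x = cι F m y ↔ ∃ (k : ℕ) (hn : n ≤ k) (hm : m ≤ k), ctr F hn x = ctr F hm y := by
  have := Concrete.isColimit_rep_eq_iff_exists F (colimit.isColimit F)
    (i := op (op n)) (j := op (op m)) x y
  refine this.trans ?_
  constructor
  · rintro ⟨k, a, b, hab⟩
    exact ⟨k.unop.unop, a.unop.unop.le, b.unop.unop.le, hab⟩
  · rintro ⟨k, hn, hm, h⟩
    exact ⟨op (op k), (homOfLE hn).op.op, (homOfLE hm).op.op, h⟩

theorem cι_ctr {n m : ℕ} (h : n ≤ m) (x : F.obj (op (op n))) :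
    cι F m (ctr F h x) = cι F n x := by
  have h1 := colimit.w F (homOfLE h).op.op
  have h2 := congrArg (fun φ => φ.hom x) h1
  exact h2

theorem cι_eq_zero_iff {n : ℕ} (x : F.obj (op (op n))) :
    cι F n x = 0 ↔ ∃ (k : ℕ) (hn : n ≤ k), ctr F hn x = 0 := by
  rw [← (cι F n).map_zero, cι_eq_iff]
  constructor
  · rintro ⟨k, hn, hm, h⟩
    exact ⟨k, hn, by rw [h, map_zero]⟩
  · rintro ⟨k, hn, h⟩
    exact ⟨k, hn, hn, by rw [h, map_zero]⟩

/-- two stages can be brought to a common stage -/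
theorem cι_exists_common (x y : (colimit F : ModuleCat.{w} R)) :
    ∃ (n : ℕ) (x' y' : F.obj (op (op n))), cι F n x' = x ∧ cι F n y' = y := by
  obtain ⟨n, x', rfl⟩ := cι_surj x
  obtain ⟨m, y', rfl⟩ := cι_surj y
  exact ⟨max n m, ctr F (le_max_left n m) x', ctr F (le_max_right n m) y',
    cι_ctr _ _, cι_ctr _ _⟩

/-- Descend a compatible family of linear maps to the colimit. -/
theorem exists_clift {B : Type w} [AddCommGroup B] [Module R B]
    (φ : ∀ n : ℕ, F.obj (op (op n)) →ₗ[R] B)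
    (hφ : ∀ (n m : ℕ) (h : n ≤ m) (x : F.obj (op (op n))), φ m (ctr F h x) = φ n x) :
    ∃ Φ : (colimit F : ModuleCat.{w} R) →ₗ[R] B, ∀ n x, Φ (cι F n x) = φ n x := by
  let c : Cocone F :=
    { pt := ModuleCat.of R B
      ι :=
        { app := fun j => ModuleCat.ofHom (φ j.unop.unop)
          naturality := by
            intro j j' f
            ext x
            simp only [Functor.const_obj_obj, Functor.const_obj_map, Category.comp_id]
            exact hφ j.unop.unop j'.unop.unop f.unop.unop.le x } }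
  refine ⟨(colimit.desc F c).hom, fun n x => ?_⟩
  have h := colimit.ι_desc c (op (op n))
  have h2 := congrArg (fun ψ => ψ.hom x) h
  exact h2

end Colim

section HDI

attribute [local instance] HasDerivedCategory.standard

open Pretriangulated

variable {A : Type u} [CommRing A] (I : Ideal A)

/-- `A/I^n` in `D(A)` -/
noncomputable abbrev qD : ℕᵒᵖ ⥤ Dual.D A :=
  localCohomology.ringModIdeals (localCohomology.idealPowersDiagram I) ⋙
    DerivedCategory.singleFunctor (ModuleCat.{u} A) 0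

/-- the diagram whose colimit is `HDI` -/
noncomputable def hdiDiag : Dual.D A ⥤ (ℕᵒᵖᵒᵖ ⥤ ModuleCat.{u + 1} A) :=
  linearYoneda A (Dual.D A) ⋙ (Functor.whiskeringLeft _ _ _).obj (qD I).op

/-- `K ↦ colim_n Hom(A/I^n, K)` -/
noncomputable def hdi : Dual.D A ⥤ ModuleCat.{u + 1} A := hdiDiag I ⋙ colim

lemma HDI_eq (K : Dual.D A) (i : ℤ) : Dual2.HDI A I K i = (hdi I).obj (K⟦i⟧) := rfl

/-- the object `A/I^n` of `D(A)` -/
noncomputable abbrev qObj (n : ℕ) : Dual.D A := (qD I).obj (op n)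

/-- the projection `A/I^m ⟶ A/I^n` in `D(A)` for `n ≤ m` -/
noncomputable abbrev qπ {n m : ℕ} (h : n ≤ m) : qObj I m ⟶ qObj I n := (qD I).map (homOfLE h).op

/-- the canonical map `Hom(A/I^n, X) → hdi X` -/
noncomputable def hι (n : ℕ) (X : Dual.D A) : (qObj I n ⟶ X) →ₗ[A] (hdi I).obj X :=
  cι ((hdiDiag I).obj X) n

variable {I}

lemma hι_surj {X : Dual.D A} (ξ : (hdi I).obj X) : ∃ n x, hι I n X x = ξ :=
  cι_surj (F := (hdiDiag I).obj X) ξ

lemma hι_qπ {X : Dual.D A} {n m : ℕ} (h : n ≤ m) (x : qObj I n ⟶ X) :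
    hι I m X (qπ I h ≫ x) = hι I n X x :=
  cι_ctr (F := (hdiDiag I).obj X) h x

lemma hι_eq_zero_iff {X : Dual.D A} {n : ℕ} (x : qObj I n ⟶ X) :
    hι I n X x = 0 ↔ ∃ (k : ℕ) (hn : n ≤ k), qπ I hn ≫ x = 0 :=
  cι_eq_zero_iff (F := (hdiDiag I).obj X) x

lemma hι_eq_iff {X : Dual.D A} {n m : ℕ} (x : qObj I n ⟶ X) (y : qObj I m ⟶ X) :
    hι I n X x = hι I m X y ↔ ∃ (k : ℕ) (hn : n ≤ k) (hm : m ≤ k), qπ I hn ≫ x = qπ I hm ≫ y :=
  cι_eq_iff (F := (hdiDiag I).obj X) x y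

lemma hι_exists_common {X : Dual.D A} (ξ ζ : (hdi I).obj X) :
    ∃ (n : ℕ) (x y : qObj I n ⟶ X), hι I n X x = ξ ∧ hι I n X y = ζ :=
  cι_exists_common (F := (hdiDiag I).obj X) ξ ζ

lemma hdi_map_hι {X Y : Dual.D A} (f : X ⟶ Y) (n : ℕ) (x : qObj I n ⟶ X) :
    ((hdi I).map f).hom (hι I n X x) = hι I n Y (x ≫ f) := by
  have h := colimit.ι_map ((hdiDiag I).map f) (op (op n))
  have h2 := congrArg (fun ψ => ψ.hom x) h
  exact h2

/-- Descend a compatible family of linear maps to `hdi X`. -/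
theorem exists_hlift {X : Dual.D A} {B : Type (u + 1)} [AddCommGroup B] [Module A B]
    (φ : ∀ n : ℕ, (qObj I n ⟶ X) →ₗ[A] B)
    (hφ : ∀ (n m : ℕ) (h : n ≤ m) (x : qObj I n ⟶ X), φ m (qπ I h ≫ x) = φ n x) :
    ∃ Φ : (hdi I).obj X →ₗ[A] B, ∀ n x, Φ (hι I n X x) = φ n x :=
  exists_clift (F := (hdiDiag I).obj X) φ hφ

instance : (hdi I).PreservesZeroMorphisms where
  map_zero X Y := by
    ext ξ
    obtain ⟨n, x, rfl⟩ := hι_surj ξ
    rw [hdi_map_hι, comp_zero, map_zero]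
    rfl

lemma hdi_exact (T : Triangle (Dual.D A)) (hT : T ∈ distTriang (Dual.D A))
    (ξ : (hdi I).obj T.obj₂) (hξ : ((hdi I).map T.mor₂).hom ξ = 0) :
    ∃ ζ : (hdi I).obj T.obj₁, ((hdi I).map T.mor₁).hom ζ = ξ := by
  obtain ⟨n, y, rfl⟩ := hι_surj ξ
  rw [hdi_map_hι, hι_eq_zero_iff] at hξ
  obtain ⟨k, hk, h0⟩ := hξ
  rw [← assoc] at h0
  obtain ⟨x, hx⟩ := Triangle.coyoneda_exact₂ T hT _ h0
  refine ⟨hι I k T.obj₁ x, ?_⟩
  rw [hdi_map_hι, ← hx, hι_qπ]

instance : (hdi I).IsHomological where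
  exact T hT := by
    rw [ShortComplex.moduleCat_exact_iff]
    intro ξ hξ
    exact hdi_exact T hT ξ hξ

end HDI

section Normalized

attribute [local instance] HasDerivedCategory.standard

open DerivedCategory

variable {A : Type u} [CommRing A]

/-- `inD` of a linear map -/
noncomputable abbrev inDMap {N N' : Type u} [AddCommGroup N] [Module A N] [AddCommGroup N']
    [Module A N'] (f : N →ₗ[A] N') : Dual.inD A N ⟶ Dual.inD A N' :=
  (singleFunctor (ModuleCat.{u} A) 0).map (ModuleCat.ofHom f)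

lemma inDMap_comp {N N' N'' : Type u} [AddCommGroup N] [Module A N] [AddCommGroup N']
    [Module A N'] [AddCommGroup N''] [Module A N''] (f : N →ₗ[A] N') (g : N' →ₗ[A] N'') :
    inDMap (g ∘ₗ f) = inDMap f ≫ inDMap g := by
  unfold inDMap
  rw [← Functor.map_comp]
  rfl

lemma inDMap_zero {N N' : Type u} [AddCommGroup N] [Module A N] [AddCommGroup N']
    [Module A N'] : inDMap (0 : N →ₗ[A] N') = 0 := by
  unfold inDMap
  have : ModuleCat.ofHom (0 : N →ₗ[A] N') = 0 := rfl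
  rw [this, Functor.map_zero]

lemma inDMap_id {N : Type u} [AddCommGroup N] [Module A N] :
    inDMap (LinearMap.id : N →ₗ[A] N) = 𝟙 _ := by
  unfold inDMap
  have : ModuleCat.ofHom (LinearMap.id : N →ₗ[A] N) = 𝟙 _ := rfl
  rw [this, CategoryTheory.Functor.map_id]

lemma inDMap_smul_id_comp {N : Type u} [AddCommGroup N] [Module A N] (a : A) {Y : Dual.D A}
    (φ : Dual.inD A N ⟶ Y) : inDMap (a • (LinearMap.id : N →ₗ[A] N)) ≫ φ = a • φ := by
  unfold inDMap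
  have : ModuleCat.ofHom (a • (LinearMap.id : N →ₗ[A] N)) = a • 𝟙 (ModuleCat.of A N) := rfl
  rw [this, Functor.map_smul, CategoryTheory.Functor.map_id, Linear.smul_comp, id_comp]

variable (I : Ideal A)

/-- the projection `A/I^k → A/I^n` -/
noncomputable def qProj {n k : ℕ} (h : n ≤ k) : (A ⧸ I ^ k) →ₗ[A] (A ⧸ I ^ n) :=
  Submodule.mapQ (I ^ k) (I ^ n) LinearMap.id (Ideal.pow_le_pow_right h)

lemma qProj_surjective {n k : ℕ} (h : n ≤ k) : Function.Surjective (qProj I h) := by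
  intro y
  obtain ⟨a, rfl⟩ := Submodule.Quotient.mk_surjective _ y
  exact ⟨Submodule.Quotient.mk a, rfl⟩

lemma qProj_mk {n k : ℕ} (h : n ≤ k) (a : A) :
    qProj I h (Submodule.Quotient.mk a) = Submodule.Quotient.mk a := rfl

/-- the canonical map `Hom(A/I^n, X) → hdi X`, with normalized source -/
noncomputable def hj (n : ℕ) (X : Dual.D A) : (Dual.inD A (A ⧸ I ^ n) ⟶ X) →ₗ[A] (hdi I).obj X :=
  hι I n X

variable {I}

lemma hj_surj {X : Dual.D A} (ξ : (hdi I).obj X) : ∃ n x, hj I n X x = ξ := hι_surj ξ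

lemma hj_qProj {X : Dual.D A} {n m : ℕ} (h : n ≤ m) (x : Dual.inD A (A ⧸ I ^ n) ⟶ X) :
    hj I m X (inDMap (qProj I h) ≫ x) = hj I n X x := hι_qπ h x

lemma hj_eq_zero_iff {X : Dual.D A} {n : ℕ} (x : Dual.inD A (A ⧸ I ^ n) ⟶ X) :
    hj I n X x = 0 ↔ ∃ (k : ℕ) (hn : n ≤ k), inDMap (qProj I hn) ≫ x = 0 := hι_eq_zero_iff x

lemma hj_eq_iff {X : Dual.D A} {n m : ℕ} (x : Dual.inD A (A ⧸ I ^ n) ⟶ X)
    (y : Dual.inD A (A ⧸ I ^ m) ⟶ X) :
    hj I n X x = hj I m X y ↔ ∃ (k : ℕ) (hn : n ≤ k) (hm : m ≤ k),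
      inDMap (qProj I hn) ≫ x = inDMap (qProj I hm) ≫ y := hι_eq_iff x y

lemma hj_exists_common {X : Dual.D A} (ξ ζ : (hdi I).obj X) :
    ∃ (n : ℕ) (x y : Dual.inD A (A ⧸ I ^ n) ⟶ X), hj I n X x = ξ ∧ hj I n X y = ζ :=
  hι_exists_common ξ ζ

lemma hdi_map_hj {X Y : Dual.D A} (f : X ⟶ Y) (n : ℕ) (x : Dual.inD A (A ⧸ I ^ n) ⟶ X) :
    ((hdi I).map f).hom (hj I n X x) = hj I n Y (x ≫ f) := hdi_map_hι f n x

theorem exists_hjlift {X : Dual.D A} {B : Type (u + 1)} [AddCommGroup B] [Module A B]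
    (φ : ∀ n : ℕ, (Dual.inD A (A ⧸ I ^ n) ⟶ X) →ₗ[A] B)
    (hφ : ∀ (n m : ℕ) (h : n ≤ m) (x : Dual.inD A (A ⧸ I ^ n) ⟶ X),
      φ m (inDMap (qProj I h) ≫ x) = φ n x) :
    ∃ Φ : (hdi I).obj X →ₗ[A] B, ∀ n x, Φ (hj I n X x) = φ n x :=
  exists_hlift φ hφ

lemma smul_hom_quot_eq_zero {Y : Dual.D A} (n : ℕ) (a : A) (ha : a ∈ I ^ n)
    (φ : Dual.inD A (A ⧸ I ^ n) ⟶ Y) : a • φ = 0 := by
  have h0 : a • (LinearMap.id : (A ⧸ I ^ n) →ₗ[A] (A ⧸ I ^ n)) = 0 := by
    apply LinearMap.ext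
    intro x
    change a • x = 0
    obtain ⟨y, rfl⟩ := Ideal.Quotient.mk_surjective x
    change (Ideal.Quotient.mk _ (a * y)) = 0
    rw [Ideal.Quotient.eq_zero_iff_mem]
    exact Ideal.mul_mem_right _ _ ha
  rw [← inDMap_smul_id_comp, h0, inDMap_zero, zero_comp]

/-- `hdi X` is `I`-power torsion -/
lemma smul_hj_eq_zero {Y : Dual.D A} (n : ℕ) (a : A) (ha : a ∈ I ^ n)
    (φ : Dual.inD A (A ⧸ I ^ n) ⟶ Y) : a • hj I n Y φ = 0 := by
  rw [← map_smul, smul_hom_quot_eq_zero n a ha, map_zero]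

end Normalized

end Groth.Agent.H4.LD3
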