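import Mathlib
import Groth.Agent.H4.AC1
import Groth.Agent.H4.FB3
import Groth.Agent.H4.DZ1
import Groth.Agent.H4.DZ2
import Groth.Agent.H4.LD3

set_option autoImplicit false
universe u v
open CategoryTheory Category Limits Pretriangulated TensorProduct

namespace Groth.Agent.H4.AC2

attribute [local instance] HasDerivedCategory.standard

open DRing DerivedCategory Groth.Agent.H4.FB1 Groth.Agent.H4.FB2 Groth.Agent.H4.AC1

variable {A : Type u} [CommRing A] [IsNoetherianRing A] (I : Ideal A)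

/-- notation: the `I`-adic completion of `A` -/
abbrev Bh : Type u := AdicCompletion I A

lemma smul_hom_shift_quot_eq_zero {Y : Dual.D A} (n : ℕ) (m : ℤ) (a : A) (ha : a ∈ I ^ n)
    (φ : (Dual.inD A (A ⧸ I ^ n))⟦m⟧ ⟶ Y) : a • φ = 0 := by
  let e := Groth.Agent.H4.DZ2.shiftHomLinEquiv (Dual.inD A (A ⧸ I ^ n)) Y m (-m) (by omega)
  apply e.injective
  rw [map_smul, map_zero]
  exact Groth.Agent.H4.LD3.smul_hom_quot_eq_zero n a ha _

/-- **Key flat base change step.** -/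
theorem bijective_comp_gamma (K : Dual.D A) (a : ℤ) [K.IsGE a]
    (hK : ∀ i : ℤ, Module.Finite A (Dual.HD A K i)) (n : ℕ) (m : ℤ) :
    Function.Bijective (fun f : (Dual.inD A (A ⧸ I ^ n))⟦m⟧ ⟶ K =>
      f ≫ gammaE (B := Bh I) K 1) := by
  have hP : IsPseudoCoherent' A ((Dual.inD A (A ⧸ I ^ n))⟦m⟧) :=
    Groth.Agent.H4.DRing1.isPseudoCoherent'_shift _ m (Groth.Agent.H4.FB3.isPC'_inD (A ⧸ I ^ n))
  have h1 := bijective_Psi_gammaE (B := Bh I) K a _ hP
  haveI : Module.Finite A ((Dual.inD A (A ⧸ I ^ n))⟦m⟧ ⟶ K) :=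
    Groth.Agent.H4.DZ1.FH_module K hK a (A ⧸ I ^ n) m
  have h2 := bijective_one_tmul I ((Dual.inD A (A ⧸ I ^ n))⟦m⟧ ⟶ K) n
    (fun a ha x => smul_hom_shift_quot_eq_zero I n m a ha x)
  have h3 : (fun f : (Dual.inD A (A ⧸ I ^ n))⟦m⟧ ⟶ K => f ≫ gammaE (B := Bh I) K 1) =
      (Psi (gammaE (B := Bh I) K) _) ∘ (fun x => (1 : Bh I) ⊗ₜ[A] x) := by
    funext f
    simp [Psi_tmul]
  rw [h3]
  exact h1.comp h2

end Groth.Agent.H4.AC2
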