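import Mathlib
import Groth.Prelude.Def_DRing3
import Groth.Agent.H4.KI2
import Groth.Agent.H4.TC7
import Groth.Agent.Lib.Helper2.KInjDer

set_option autoImplicit false
universe u
open CategoryTheory Category Limits HomologicalComplex CochainComplex

namespace Groth.Agent.H4.RG1

open DerivedCategory DRing Groth.Agent.H4.TC4

attribute [local instance] HasDerivedCategory.standard

variable {A : Type u} [CommRing A]

/-- a complex of `f`-power torsion modules on which `f` acts by a quasi-isomorphism is acyclic. -/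
lemma acyc_of_torsion_of_quasiIso (T : CochainComplex (ModuleCat.{u} A) ℤ) (f : A)
    (hT : ∀ (n : ℤ) (t : T.X n), ∃ m : ℕ, f ^ m • t = 0)
    (hq : QuasiIso (f • 𝟙 T)) : Acyc T := by
  intro n
  -- `f` acts injectively on homology
  have hiso : IsIso (homologyMap (f • 𝟙 T) n) := by
    have := hq.quasiIsoAt n
    rwa [quasiIsoAt_iff_isIso_homologyMap] at this
  have hmap : ∀ x : T.homology n, (homologyMap (f • 𝟙 T) n).hom x = f • x := by
    intro x
    obtain ⟨z, rfl⟩ := (ModuleCat.epi_iff_surjective (T.homologyπ n)).1 inferInstance x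
    have h1 : (T.homologyπ n ≫ homologyMap (f • 𝟙 T) n).hom z =
        (cyclesMap (f • 𝟙 T) n ≫ T.homologyπ n).hom z := by
      rw [homologyπ_naturality]
    have h2 : (cyclesMap (f • 𝟙 T) n).hom z = f • z := by
      apply (ModuleCat.mono_iff_injective (T.iCycles n)).1 inferInstance
      have h3 : (cyclesMap (f • 𝟙 T) n ≫ T.iCycles n).hom z =
          (T.iCycles n ≫ (f • 𝟙 T : T ⟶ T).f n).hom z := by
        rw [cyclesMap_i]
      rw [ModuleCat.hom_comp, LinearMap.comp_apply] at h3
      rw [h3, map_smul]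
      simp
    rw [ModuleCat.hom_comp, LinearMap.comp_apply, ModuleCat.hom_comp, LinearMap.comp_apply,
      h2, map_smul] at h1
    exact h1
  have hinj : ∀ x : T.homology n, f • x = 0 → x = 0 := by
    intro x hx
    have hb := (ConcreteCategory.isIso_iff_bijective (homologyMap (f • 𝟙 T) n)).1 hiso
    apply hb.1
    change (homologyMap (f • 𝟙 T) n).hom x = (homologyMap (f • 𝟙 T) n).hom 0
    rw [hmap, hx, map_zero]
  have hinj' : ∀ (m : ℕ) (x : T.homology n), f ^ m • x = 0 → x = 0 := by
    intro m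
    induction m with
    | zero => intro x hx; simpa using hx
    | succ m ih =>
      intro x hx
      apply ih
      apply hinj
      rw [smul_smul, ← pow_succ']
      exact hx
  suffices h0 : ∀ x : T.homology n, x = 0 by
    haveI : Subsingleton (T.homology n) := ⟨fun x y => by rw [h0 x, h0 y]⟩
    exact ModuleCat.isZero_of_subsingleton _
  intro x
  obtain ⟨z, rfl⟩ := (ModuleCat.epi_iff_surjective (T.homologyπ n)).1 inferInstance x
  obtain ⟨m, hm⟩ := hT n ((T.iCycles n).hom z)
  apply hinj' m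
  rw [← map_smul]
  have : f ^ m • z = 0 := by
    apply (ModuleCat.mono_iff_injective (T.iCycles n)).1 inferInstance
    rw [map_smul, hm, map_zero]
  rw [this, map_zero]

/-- an endomorphism of a K-injective complex which is an isomorphism in `D(A)` is an isomorphism
in `K(A)`. -/
lemma isIso_quotient_map_of_isKInjective (J : CochainComplex (ModuleCat.{u} A) ℤ) [J.IsKInjective]
    (g : J ⟶ J) (hg : IsIso (Q.map g)) :
    IsIso ((HomotopyCategory.quotient (ModuleCat.{u} A) (ComplexShape.up ℤ)).map g) := by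
  set G := (HomotopyCategory.quotient (ModuleCat.{u} A) (ComplexShape.up ℤ)).map g with hG
  have hbij := CochainComplex.IsKInjective.Qh_map_bijective
    ((HomotopyCategory.quotient (ModuleCat.{u} A) (ComplexShape.up ℤ)).obj J) J
  haveI : IsIso (Qh.map G) := by
    have h := (quotientCompQhIso (ModuleCat.{u} A)).hom.naturality g
    dsimp at h
    have : Qh.map G = (quotientCompQhIso (ModuleCat.{u} A)).hom.app J ≫ Q.map g ≫
        (quotientCompQhIso (ModuleCat.{u} A)).inv.app J := by
      rw [← assoc, ← h, assoc, Iso.hom_inv_id_app]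
      exact (comp_id _).symm
    rw [this]
    infer_instance
  obtain ⟨H, hH⟩ := hbij.2 (inv (Qh.map G))
  refine ⟨⟨H, ?_, ?_⟩⟩
  · apply hbij.1
    rw [Functor.map_comp, hH, IsIso.hom_inv_id, CategoryTheory.Functor.map_id]
  · apply hbij.1
    rw [Functor.map_comp, hH, IsIso.inv_hom_id, CategoryTheory.Functor.map_id]

/-- the comparison `quotient ⋙ gammaIKh ≅ Γ_I ⋙ Q`. -/
noncomputable def gammaIKhFac (I : Ideal A) :
    HomotopyCategory.quotient (ModuleCat.{u} A) (ComplexShape.up ℤ) ⋙ gammaIKh I ≅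
      (gammaI I).mapHomologicalComplex (ComplexShape.up ℤ) ⋙ Q :=
  (Functor.associator _ _ _).symm ≪≫
    Functor.isoWhiskerRight ((gammaI I).mapHomotopyCategoryFactors (ComplexShape.up ℤ)) Qh ≪≫
    Functor.associator _ _ _ ≪≫
    Functor.isoWhiskerLeft _ (quotientCompQhIso (ModuleCat.{u} A))

/-- S8933 -/
theorem S8933 (I : Ideal A) [DRing.HasRgammaI I]
    (K : CochainComplex (ModuleCat.{u} A) ℤ) (f : A) (hf : f ∈ I)
    (hK : ∀ n : ℤ, Function.Bijective (fun x : K.X n => f • x)) :
    IsZero ((DRing.RgammaI I).obj (DerivedCategory.Q.obj K)) := by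
  obtain ⟨J, q, hJ, hq⟩ := Groth.Agent.H4.KI2.exists_kinj K
  haveI := hJ
  haveI := hq
  -- `f` is invertible on `K`
  haveI : ∀ i : ℤ, IsIso ((f • 𝟙 K : K ⟶ K).f i) := by
    intro i
    have : (f • 𝟙 K : K ⟶ K).f i = f • 𝟙 (K.X i) := by simp
    rw [this, ConcreteCategory.isIso_iff_bijective]
    exact hK i
  haveI : IsIso (f • 𝟙 K : K ⟶ K) := HomologicalComplex.Hom.isIso_of_components _
  -- hence on `J` in `D(A)`
  have hFJ : IsIso (Q.map (f • 𝟙 J)) := by
    have hnat : (f • 𝟙 K) ≫ q = q ≫ (f • 𝟙 J) := by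
      rw [Linear.smul_comp, Linear.comp_smul, id_comp, comp_id]
    have h2 : Q.map (f • 𝟙 J) = inv (Q.map q) ≫ Q.map (f • 𝟙 K) ≫ Q.map q := by
      rw [← Q.map_comp, hnat, Q.map_comp, IsIso.inv_hom_id_assoc]
    rw [h2]
    infer_instance
  haveI := isIso_quotient_map_of_isKInjective J (f • 𝟙 J) hFJ
  -- apply `Γ_I`
  let T := ((gammaI I).mapHomologicalComplex (ComplexShape.up ℤ)).obj J
  have h3 : IsIso (((gammaI I).mapHomologicalComplex (ComplexShape.up ℤ) ⋙ Q).map (f • 𝟙 J)) := by
    rw [← NatIso.isIso_map_iff (gammaIKhFac I) (f • 𝟙 J)]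
    dsimp only [Functor.comp_map]
    infer_instance
  have h4 : ((gammaI I).mapHomologicalComplex (ComplexShape.up ℤ)).map (f • 𝟙 J) = f • 𝟙 T := by
    apply HomologicalComplex.hom_ext
    intro n
    apply ModuleCat.hom_ext
    apply LinearMap.ext
    intro x
    rfl
  have hqi : QuasiIso (f • 𝟙 T) := by
    rw [← h4, ← isIso_Q_map_iff_quasiIso]
    exact h3
  have hT : ∀ (n : ℤ) (t : T.X n), ∃ m : ℕ, f ^ m • t = 0 := by
    intro n t
    obtain ⟨m, hm⟩ := t.2
    refine ⟨m, Subtype.ext ?_⟩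
    exact hm (f ^ m) (Ideal.pow_mem_pow hf m)
  have hz : IsZero (Q.obj T) :=
    (Groth.Agent.H4.TC7.acyc_iff_isZero_Q T).1 (acyc_of_torsion_of_quasiIso T f hT hqi)
  -- the unit is an isomorphism at `J`
  haveI hunit := Groth.Agent.H2.KInjDer.isIso_unit_of_isKInjective (gammaIKh I)
    (fun X => Groth.Agent.H4.KI2.exists_kinj X) J hJ
  have e1 : (DRing.RgammaI I).obj (Q.obj K) ≅ (DRing.RgammaI I).obj (Q.obj J) :=
    (DRing.RgammaI I).mapIso (asIso (Q.map q))
  have e2 : (DRing.RgammaI I).obj (Q.obj J) ≅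
      (DRing.RgammaI I).obj (Qh.obj ((HomotopyCategory.quotient _ _).obj J)) :=
    (DRing.RgammaI I).mapIso ((quotientCompQhIso (ModuleCat.{u} A)).symm.app J)
  have e3 : (gammaIKh I).obj ((HomotopyCategory.quotient _ _).obj J) ≅
      (DRing.RgammaI I).obj (Qh.obj ((HomotopyCategory.quotient _ _).obj J)) :=
    asIso (((gammaIKh I).totalRightDerivedUnit DerivedCategory.Qh
      (HomotopyCategory.quasiIso (ModuleCat.{u} A) (ComplexShape.up ℤ))).app
        ((HomotopyCategory.quotient _ _).obj J))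
  have e4 : (gammaIKh I).obj ((HomotopyCategory.quotient _ _).obj J) ≅ Q.obj T :=
    (gammaIKhFac I).app J
  exact hz.of_iso (e1 ≪≫ e2 ≪≫ e3.symm ≪≫ e4)

end Groth.Agent.H4.RG1
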