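import Mathlib
import Groth.Prelude.Def_DualLC
import Groth.Agent.H4.LD3
import Groth.Prelude.Def_DRing3
import Groth.Agent.Lib.Helper2.DProd1
import Groth.Agent.Lib.Helper6.HomologyElts

set_option autoImplicit false
universe u
open CategoryTheory Category Limits Pretriangulated Opposite ZeroObject

namespace Groth.Agent.H4.RG2

attribute [local instance] HasDerivedCategory.standard

open DerivedCategory Groth.Agent.H4.LD3 DRing CochainComplex HomComplex

variable {A : Type u} [CommRing A] (I : Ideal A)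

/-- the complex with `N` in degree `0` -/
noncomputable abbrev Sg (A : Type u) [CommRing A] (N : Type u) [AddCommGroup N] [Module A N] :
    CochainComplex (ModuleCat.{u} A) ℤ :=
  (HomologicalComplex.single (ModuleCat.{u} A) (ComplexShape.up ℤ) 0).obj (ModuleCat.of A N)

/-- the linear map `A/I^n → M`, `1 ↦ z` -/
noncomputable def ofTors {M : Type u} [AddCommGroup M] [Module A M] (n : ℕ) (z : M)
    (hz : ∀ a ∈ I ^ n, a • z = 0) : (A ⧸ I ^ n) →ₗ[A] M :=
  Submodule.liftQ (I ^ n) (LinearMap.toSpanSingleton A M z) (by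
    intro a ha
    rw [LinearMap.mem_ker, LinearMap.toSpanSingleton_apply]
    exact hz a ha)

lemma ofTors_mk {M : Type u} [AddCommGroup M] [Module A M] (n : ℕ) (z : M)
    (hz : ∀ a ∈ I ^ n, a • z = 0) (a : A) :
    ofTors I n z hz (Submodule.Quotient.mk a) = a • z := rfl

lemma ofTors_one {M : Type u} [AddCommGroup M] [Module A M] (n : ℕ) (z : M)
    (hz : ∀ a ∈ I ^ n, a • z = 0) :
    ofTors I n z hz (1 : A ⧸ I ^ n) = z := by
  have : (1 : A ⧸ I ^ n) = Submodule.Quotient.mk (1 : A) := rfl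
  rw [this, ofTors_mk, one_smul]

lemma ofTors_ext {M : Type u} [AddCommGroup M] [Module A M] (n : ℕ)
    {f g : (A ⧸ I ^ n) →ₗ[A] M} (h : f 1 = g 1) : f = g := by
  apply LinearMap.ext
  intro x
  obtain ⟨a, rfl⟩ := Submodule.Quotient.mk_surjective _ x
  have : (Submodule.Quotient.mk a : A ⧸ I ^ n) = a • (1 : A ⧸ I ^ n) := by
    change _ = Submodule.Quotient.mk (a • (1 : A))
    rw [smul_eq_mul, mul_one]
  rw [this, map_smul, map_smul, h]

variable (L : CochainComplex (ModuleCat.{u} A) ℤ)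

/-- cycles of degree `0` killed by `I^n` -/
def Zn (n : ℕ) : Submodule A (L.X 0) where
  carrier := {z | L.d 0 1 z = 0 ∧ ∀ a ∈ I ^ n, a • z = 0}
  zero_mem' := ⟨map_zero _, fun a _ => smul_zero a⟩
  add_mem' := by
    rintro z z' ⟨h1, h2⟩ ⟨h1', h2'⟩
    exact ⟨by rw [map_add, h1, h1', add_zero], fun a ha => by rw [smul_add, h2 a ha, h2' a ha, add_zero]⟩
  smul_mem' := by
    rintro c z ⟨h1, h2⟩
    exact ⟨by rw [map_smul, h1, smul_zero], fun a ha => by rw [smul_comm, h2 a ha, smul_zero]⟩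

variable {I L}

/-- the chain map `A/I^n[0] → L` attached to a cycle -/
noncomputable def gz {n : ℕ} (z : Zn I L n) : Sg A (A ⧸ I ^ n) ⟶ L :=
  HomologicalComplex.mkHomFromSingle (ModuleCat.ofHom (ofTors I n z.1 z.2.2)) (by
    intro k hk
    obtain rfl : k = 1 := by
      have : (0 : ℤ) + 1 = k := hk
      omega
    apply ModuleCat.hom_ext
    apply ofTors_ext I n
    change L.d 0 1 (ofTors I n z.1 z.2.2 1) = 0
    rw [ofTors_one]
    exact z.2.1)

lemma gz_f {n : ℕ} (z : Zn I L n) :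
    (gz z).f 0 = (HomologicalComplex.singleObjXSelf (ComplexShape.up ℤ) 0 _).hom ≫
      ModuleCat.ofHom (ofTors I n z.1 z.2.2) :=
  HomologicalComplex.mkHomFromSingle_f _ _

/-- the generator of `(A/I^n)[0]` in degree `0` -/
noncomputable def gen (n : ℕ) : (Sg A (A ⧸ I ^ n)).X 0 :=
  (HomologicalComplex.singleObjXSelf (ComplexShape.up ℤ) 0 (ModuleCat.of A (A ⧸ I ^ n))).inv
    (1 : A ⧸ I ^ n)

lemma gz_f_gen {n : ℕ} (z : Zn I L n) : (gz z).f 0 (gen (I := I) n) = z.1 := by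
  rw [gz_f]
  change ofTors I n z.1 z.2.2 ((HomologicalComplex.singleObjXSelf (ComplexShape.up ℤ) 0
    (ModuleCat.of A (A ⧸ I ^ n))).hom
    ((HomologicalComplex.singleObjXSelf (ComplexShape.up ℤ) 0
      (ModuleCat.of A (A ⧸ I ^ n))).inv (1 : A ⧸ I ^ n))) = z.1
  rw [← ModuleCat.comp_apply, Iso.inv_hom_id, ModuleCat.id_apply, ofTors_one]

lemma hom_ext_gen {n : ℕ} {M : ModuleCat.{u} A} {f g : (Sg A (A ⧸ I ^ n)).X 0 ⟶ M}
    (h : f (gen (I := I) n) = g (gen (I := I) n)) : f = g := by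
  rw [← cancel_epi (HomologicalComplex.singleObjXSelf (ComplexShape.up ℤ) 0
    (ModuleCat.of A (A ⧸ I ^ n))).inv]
  apply ModuleCat.hom_ext
  apply ofTors_ext I n
  exact h

lemma smul_gen {n : ℕ} (a : A) (ha : a ∈ I ^ n) : a • gen (I := I) n = 0 := by
  unfold gen
  rw [← map_smul]
  have : a • (1 : A ⧸ I ^ n) = 0 := by
    change Submodule.Quotient.mk (a • (1 : A)) = 0
    rw [Submodule.Quotient.mk_eq_zero, smul_eq_mul, mul_one]
    exact ha
  rw [this, map_zero]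

/-- chain maps out of `(A/I^n)[0]` are determined by the image of the generator -/
lemma chain_ext {n : ℕ} {f g : Sg A (A ⧸ I ^ n) ⟶ L} (h : f.f 0 (gen (I := I) n) = g.f 0 (gen (I := I) n)) :
    f = g :=
  HomologicalComplex.from_single_hom_ext (hom_ext_gen h)

/-- `N[0]` as the image of a complex -/
noncomputable def jS (N : Type u) [AddCommGroup N] [Module A N] :
    Dual.inD A N ≅ Q.obj (Sg A N) :=
  (singleFunctorIsoCompQ (ModuleCat.{u} A) 0).app (ModuleCat.of A N)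

lemma gz_add {n : ℕ} (z z' : Zn I L n) : gz (z + z') = gz z + gz z' := by
  apply chain_ext
  rw [HomologicalComplex.add_f_apply]
  change _ = (gz z).f 0 (gen (I := I) n) + (gz z').f 0 (gen (I := I) n)
  rw [gz_f_gen, gz_f_gen, gz_f_gen]
  rfl

lemma gz_smul {n : ℕ} (a : A) (z : Zn I L n) : gz (a • z) = a • gz z := by
  apply chain_ext
  rw [HomologicalComplex.smul_f_apply]
  change _ = a • (gz z).f 0 (gen (I := I) n)
  rw [gz_f_gen, gz_f_gen]
  rfl

/-- the map `Z_n → Hom_{D(A)}(A/I^n, L)` -/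
noncomputable def psiN (n : ℕ) : Zn I L n →ₗ[A] (Dual.inD A (A ⧸ I ^ n) ⟶ Q.obj L) where
  toFun z := (jS (A ⧸ I ^ n)).hom ≫ Q.map (gz z)
  map_add' z z' := by
    rw [gz_add, Functor.map_add, Preadditive.comp_add]
  map_smul' a z := by
    rw [gz_smul, Functor.map_smul, Linear.comp_smul]
    rfl

lemma psiN_apply (n : ℕ) (z : Zn I L n) :
    psiN n z = (jS (A ⧸ I ^ n)).hom ≫ Q.map (gz z) := rfl

/-- the cycle attached to a chain map -/
noncomputable def zOf {n : ℕ} (g : Sg A (A ⧸ I ^ n) ⟶ L) : Zn I L n :=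
  ⟨g.f 0 (gen (I := I) n), by
    constructor
    · rw [← ModuleCat.comp_apply, g.comm]
      rw [HomologicalComplex.single_obj_d, zero_comp]
      rfl
    · intro a ha
      rw [← map_smul, smul_gen a ha, map_zero]⟩

lemma gz_zOf {n : ℕ} (g : Sg A (A ⧸ I ^ n) ⟶ L) : gz (zOf g) = g := by
  apply chain_ext
  rw [gz_f_gen]
  rfl

lemma psiN_surjective [L.IsKInjective] (n : ℕ) : Function.Surjective (psiN (I := I) (L := L) n) := by
  intro x
  obtain ⟨g, hg⟩ := Groth.Agent.H2.DProd.exists_Q_map_eq ((jS (A ⧸ I ^ n)).inv ≫ x)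
  refine ⟨zOf g, ?_⟩
  rw [psiN_apply, gz_zOf, hg, Iso.hom_inv_id_assoc]

lemma ofHom_gz_eq_single {n : ℕ} (g : Sg A (A ⧸ I ^ n) ⟶ L) :
    Cochain.ofHom g = Cochain.single (g.f 0) 0 := by
  apply Cochain.ext₀
  intro p
  by_cases hp : p = 0
  · subst hp
    rw [Cochain.ofHom_v, Cochain.single_v]
  · exact (HomologicalComplex.isZero_single_obj_X (ComplexShape.up ℤ) 0
      (ModuleCat.of A (A ⧸ I ^ n)) p hp).eq_of_src _ _

lemma psiN_eq_zero_of_boundary {n : ℕ} (z : Zn I L n) (w : L.X (-1))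
    (hw : ∀ a ∈ I ^ n, a • w = 0) (hd : L.d (-1) 0 w = z.1) : psiN n z = 0 := by
  let hmap : (Sg A (A ⧸ I ^ n)).X 0 ⟶ L.X (-1) :=
    (HomologicalComplex.singleObjXSelf (ComplexShape.up ℤ) 0 _).hom ≫
      ModuleCat.ofHom (ofTors I n w hw)
  have hcomp : hmap ≫ L.d (-1) 0 = (gz z).f 0 := by
    apply hom_ext_gen
    rw [gz_f_gen]
    change L.d (-1) 0 (ofTors I n w hw ((HomologicalComplex.singleObjXSelf (ComplexShape.up ℤ) 0
      (ModuleCat.of A (A ⧸ I ^ n))).hom (gen (I := I) n))) = z.1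
    unfold gen
    rw [← ModuleCat.comp_apply, Iso.inv_hom_id, ModuleCat.id_apply, ofTors_one, hd]
  have H : Homotopy (gz z) 0 := by
    refine (Cochain.equivHomotopy _ _).symm ⟨Cochain.single hmap (-1), ?_⟩
    rw [Cochain.ofHom_zero, add_zero, ofHom_gz_eq_single,
      Cochain.δ_single hmap (-1) 0 (by omega) (-1) 0 (by omega) (by omega), hcomp,
      HomologicalComplex.single_obj_d, zero_comp, Cochain.single_zero, smul_zero, add_zero]
  rw [psiN_apply, DerivedCategory.Q_map_eq_of_homotopy _ H, Q.map_zero, comp_zero]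

lemma exists_boundary_of_psiN_eq_zero [L.IsKInjective] {n : ℕ} (z : Zn I L n)
    (h : psiN n z = 0) : ∃ w : L.X (-1), (∀ a ∈ I ^ n, a • w = 0) ∧ L.d (-1) 0 w = z.1 := by
  have h0 : Q.map (gz z) = 0 := by
    rw [psiN_apply] at h
    rw [← cancel_epi (jS (A ⧸ I ^ n)).hom, h, comp_zero]
  obtain ⟨H⟩ := Groth.Agent.H2.DProd.nonempty_homotopy_zero_of_Q_map_eq_zero (gz z) h0
  refine ⟨H.hom 0 (-1) (gen (I := I) n), ?_, ?_⟩
  · intro a ha
    rw [← map_smul, smul_gen a ha, map_zero]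
  · have hc := H.comm 0
    rw [dNext_eq H.hom (show (ComplexShape.up ℤ).Rel 0 1 by simp),
      prevD_eq H.hom (show (ComplexShape.up ℤ).Rel (-1) 0 by simp),
      HomologicalComplex.single_obj_d, zero_comp, zero_add, HomologicalComplex.zero_f,
      add_zero] at hc
    rw [← gz_f_gen z, hc]
    rfl

/-- inclusion `Z_n ⊆ Z_m` -/
def ZnIncl {n m : ℕ} (h : n ≤ m) : Zn I L n →ₗ[A] Zn I L m where
  toFun z := ⟨z.1, z.2.1, fun a ha => z.2.2 a (Ideal.pow_le_pow_right h ha)⟩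
  map_add' _ _ := rfl
  map_smul' _ _ := rfl

lemma single_map_gen {n m : ℕ} (h : n ≤ m) :
    ((HomologicalComplex.single (ModuleCat.{u} A) (ComplexShape.up ℤ) 0).map
      (ModuleCat.ofHom (qProj I h))).f 0 (gen (I := I) m) = gen (I := I) n := by
  rw [HomologicalComplex.single_map_f_self]
  unfold gen
  change (HomologicalComplex.singleObjXSelf (ComplexShape.up ℤ) 0 (ModuleCat.of A (A ⧸ I ^ n))).inv
    (qProj I h ((HomologicalComplex.singleObjXSelf (ComplexShape.up ℤ) 0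
      (ModuleCat.of A (A ⧸ I ^ m))).hom ((HomologicalComplex.singleObjXSelf (ComplexShape.up ℤ) 0
      (ModuleCat.of A (A ⧸ I ^ m))).inv (1 : A ⧸ I ^ m)))) = _
  rw [← ModuleCat.comp_apply, Iso.inv_hom_id, ModuleCat.id_apply]
  rfl

lemma gz_ZnIncl {n m : ℕ} (h : n ≤ m) (z : Zn I L n) :
    gz (ZnIncl h z) = (HomologicalComplex.single (ModuleCat.{u} A) (ComplexShape.up ℤ) 0).map
      (ModuleCat.ofHom (qProj I h)) ≫ gz z := by
  apply chain_ext
  rw [gz_f_gen, HomologicalComplex.comp_f, ModuleCat.comp_apply, single_map_gen, gz_f_gen]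
  rfl

lemma psiN_ZnIncl {n m : ℕ} (h : n ≤ m) (z : Zn I L n) :
    psiN m (ZnIncl h z) = inDMap (qProj I h) ≫ psiN n z := by
  rw [psiN_apply, psiN_apply, gz_ZnIncl, Functor.map_comp]
  rw [← assoc, ← assoc]
  congr 1

variable (I L)

/-- the complex `Γ_I(L)` -/
noncomputable abbrev GamL : CochainComplex (ModuleCat.{u} A) ℤ :=
  ((gammaI I).mapHomologicalComplex (ComplexShape.up ℤ)).obj L

variable {I L}

/-- an element of `Z_n` as an element of `Γ_I(L)^0` -/
def toGam {n : ℕ} (z : Zn I L n) : (GamL I L).X 0 := ⟨z.1, n, z.2.2⟩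

lemma d_toGam {n : ℕ} (z : Zn I L n) : (GamL I L).d 0 1 (toGam z) = 0 :=
  Subtype.ext z.2.1

/-- the class of a cycle -/
noncomputable def clsN (n : ℕ) : Zn I L n →ₗ[A] (GamL I L).homology 0 where
  toFun z := Groth.Agent.H6.HE.classOf (GamL I L) 0 1 (by simp) (toGam z) (d_toGam z)
  map_add' z z' := by
    rw [← Groth.Agent.H6.HE.classOf_add]
    rfl
  map_smul' a z := by
    rw [RingHom.id_apply, ← Groth.Agent.H6.HE.classOf_smul]
    rfl

lemma clsN_ZnIncl {n m : ℕ} (h : n ≤ m) (z : Zn I L n) : clsN m (ZnIncl h z) = clsN n z := rfl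

lemma clsN_eq_zero_iff {n : ℕ} (z : Zn I L n) :
    clsN n z = 0 ↔ ∃ (w : L.X (-1)) (k : ℕ), (∀ a ∈ I ^ k, a • w = 0) ∧ L.d (-1) 0 w = z.1 := by
  change Groth.Agent.H6.HE.classOf (GamL I L) 0 1 (by simp) (toGam z) (d_toGam z) = 0 ↔ _
  rw [Groth.Agent.H6.HE.classOf_eq_zero_iff (GamL I L) (-1) 0 1 (by simp) (by simp)]
  constructor
  · rintro ⟨b, hb⟩
    obtain ⟨k, hk⟩ := b.2
    exact ⟨b.1, k, hk, congrArg Subtype.val hb⟩
  · rintro ⟨w, k, hk, hw⟩
    exact ⟨⟨w, k, hk⟩, Subtype.ext hw⟩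

section Main

variable [L.IsKInjective]

lemma ker_psiN_le (n : ℕ) : LinearMap.ker (psiN (I := I) (L := L) n) ≤ LinearMap.ker (clsN n) := by
  intro z hz
  rw [LinearMap.mem_ker] at hz ⊢
  obtain ⟨w, hw, hd⟩ := exists_boundary_of_psiN_eq_zero z hz
  exact (clsN_eq_zero_iff z).2 ⟨w, n, hw, hd⟩

/-- the map `Hom_{D(A)}(A/I^n, L) → H^0(Γ_I L)` -/
noncomputable def phiN (n : ℕ) : (Dual.inD A (A ⧸ I ^ n) ⟶ Q.obj L) →ₗ[A]
    ULift.{u + 1} ((GamL I L).homology 0) :=
  (ULift.moduleEquiv (R := A) (M := (GamL I L).homology 0)).symm.toLinearMap ∘ₗ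
    ((LinearMap.ker (psiN (I := I) (L := L) n)).liftQ (clsN n) (ker_psiN_le n)) ∘ₗ
    ((psiN (I := I) (L := L) n).quotKerEquivOfSurjective (psiN_surjective n)).symm.toLinearMap

lemma phiN_psiN (n : ℕ) (z : Zn I L n) : (phiN n (psiN n z)).down = clsN n z := by
  change ((LinearMap.ker (psiN (I := I) (L := L) n)).liftQ (clsN n) (ker_psiN_le n))
    (((psiN (I := I) (L := L) n).quotKerEquivOfSurjective (psiN_surjective n)).symm (psiN n z)) = _
  have : ((psiN (I := I) (L := L) n).quotKerEquivOfSurjective (psiN_surjective n)).symm (psiN n z) =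
      Submodule.Quotient.mk z := by
    apply ((psiN (I := I) (L := L) n).quotKerEquivOfSurjective (psiN_surjective n)).injective
    rw [LinearEquiv.apply_symm_apply]
    rfl
  rw [this]
  rfl

variable (I L)

theorem exists_Phi : ∃ Φ : (hdi I).obj (Q.obj L) →ₗ[A] ULift.{u + 1} ((GamL I L).homology 0),
    ∀ n (z : Zn I L n), (Φ (hj I n _ (psiN n z))).down = clsN n z := by
  obtain ⟨Φ, hΦ⟩ := exists_hjlift (I := I) (X := Q.obj L) (phiN (I := I) (L := L)) (by
    intro n m h x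
    obtain ⟨z, rfl⟩ := psiN_surjective (I := I) (L := L) n x
    apply ULift.ext
    rw [← psiN_ZnIncl, phiN_psiN, phiN_psiN, clsN_ZnIncl])
  exact ⟨Φ, fun n z => by rw [hΦ, phiN_psiN]⟩

/-- **`H^0(Γ_I L) = colim_n Hom(A/I^n, L)` for `L` K-injective.** -/
theorem nonempty_homology_equiv_hdi :
    Nonempty ((GamL I L).homology 0 ≃ₗ[A] (hdi I).obj (Q.obj L)) := by
  obtain ⟨Φ, hΦ⟩ := exists_Phi I L
  have hinj : Function.Injective Φ := by
    rw [← LinearMap.ker_eq_bot, LinearMap.ker_eq_bot']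
    intro ξ hξ
    obtain ⟨n, x, rfl⟩ := hj_surj ξ
    obtain ⟨z, rfl⟩ := psiN_surjective (I := I) (L := L) n x
    have h0 : clsN n z = 0 := by
      rw [← hΦ, hξ]
      rfl
    obtain ⟨w, k, hk, hw⟩ := (clsN_eq_zero_iff z).1 h0
    rw [hj_eq_zero_iff]
    refine ⟨max n k, le_max_left _ _, ?_⟩
    rw [← psiN_ZnIncl]
    exact psiN_eq_zero_of_boundary _ w
      (fun a ha => hk a (Ideal.pow_le_pow_right (le_max_right n k) ha)) hw
  have hsurj : Function.Surjective Φ := by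
    intro ζ
    obtain ⟨zt, hzt, hcl⟩ := Groth.Agent.H6.HE.classOf_surjective (GamL I L) 0 1 (by simp) ζ.down
    obtain ⟨n, hn⟩ := zt.2
    let z : Zn I L n := ⟨zt.1, congrArg Subtype.val hzt, hn⟩
    refine ⟨hj I n _ (psiN n z), ?_⟩
    apply ULift.ext
    rw [hΦ, ← hcl]
    rfl
  exact ⟨((LinearEquiv.ofBijective Φ ⟨hinj, hsurj⟩).trans ULift.moduleEquiv).symm⟩

end Main

end Groth.Agent.H4.RG2
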