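import Mathlib
import Groth.Prelude.Def_DualLC
import Groth.Agent.H4.RG1
import Groth.Agent.H4.RG2

set_option autoImplicit false
universe u
open CategoryTheory Category Limits Pretriangulated Opposite ZeroObject

namespace Groth.Agent.H4.RG3

attribute [local instance] HasDerivedCategory.standard

open DerivedCategory Groth.Agent.H4.LD3 DRing Groth.Agent.H4.RG1 Groth.Agent.H4.RG2

variable {A : Type u} [CommRing A] (I : Ideal A)

/-- `RΓ_I(J) = Γ_I(J)` for `J` K-injective. -/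
noncomputable def rgammaIsoOfKInj [DRing.HasRgammaI I] (J : CochainComplex (ModuleCat.{u} A) ℤ)
    [hJ : J.IsKInjective] : (DRing.RgammaI I).obj (Q.obj J) ≅ Q.obj (GamL I J) :=
  haveI hunit := Groth.Agent.H2.KInjDer.isIso_unit_of_isKInjective (gammaIKh I)
    (fun X => Groth.Agent.H4.KI2.exists_kinj X) J hJ
  (DRing.RgammaI I).mapIso ((quotientCompQhIso (ModuleCat.{u} A)).symm.app J) ≪≫
    (asIso (((gammaIKh I).totalRightDerivedUnit DerivedCategory.Qh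
      (HomotopyCategory.quasiIso (ModuleCat.{u} A) (ComplexShape.up ℤ))).app
        ((HomotopyCategory.quotient _ _).obj J))).symm ≪≫ (gammaIKhFac I).app J

/-- **S1812** -/
theorem S1812 [DRing.HasRgammaI I] (K : Dual.D A) (q : ℤ) :
    Nonempty (Dual.HD A ((DRing.RgammaI I).obj K) q ≃ₗ[A] Dual2.HDI A I K q) := by
  obtain ⟨J, hJ, ⟨e⟩⟩ := Groth.Agent.H4.KI2.exists_kinj_iso K
  haveI := hJ
  -- left side
  let e1 : (DRing.RgammaI I).obj K ≅ Q.obj (GamL I J) :=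
    (DRing.RgammaI I).mapIso e ≪≫ rgammaIsoOfKInj I J
  let e2 : (homologyFunctor (ModuleCat.{u} A) q).obj (Q.obj (GamL I J)) ≅
      (GamL I J).homology q :=
    (homologyFunctorFactors (ModuleCat.{u} A) q).app (GamL I J)
  let e3 : ((GamL I J)⟦q⟧).homology 0 ≅ (GamL I J).homology q :=
    ((HomologicalComplex.homologyFunctor (ModuleCat.{u} A) (ComplexShape.up ℤ) 0).shiftIso q 0 q
      (by simp)).app (GamL I J)
  let e4 : GamL I (J⟦q⟧) ≅ (GamL I J)⟦q⟧ :=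
    ((gammaI I).mapCochainComplexShiftIso q).app J
  let e5 : (GamL I (J⟦q⟧)).homology 0 ≅ ((GamL I J)⟦q⟧).homology 0 :=
    (HomologicalComplex.homologyFunctor (ModuleCat.{u} A) (ComplexShape.up ℤ) 0).mapIso e4
  obtain ⟨e6⟩ := nonempty_homology_equiv_hdi I (J⟦q⟧)
  let e7 : Q.obj (J⟦q⟧) ≅ K⟦q⟧ :=
    (Q.commShiftIso q).app J ≪≫ (shiftFunctor (Dual.D A) q).mapIso e.symm
  let e8 : (hdi I).obj (Q.obj (J⟦q⟧)) ≅ (hdi I).obj (K⟦q⟧) := (hdi I).mapIso e7
  exact ⟨((homologyFunctor (ModuleCat.{u} A) q).mapIso e1 ≪≫ e2 ≪≫ e3.symm ≪≫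
    e5.symm).toLinearEquiv ≪≫ₗ e6 ≪≫ₗ e8.toLinearEquiv⟩

end Groth.Agent.H4.RG3
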