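import Mathlib
import Groth.Prelude.Def_DRing3
import Groth.Agent.Lib.Helper6.LCTorsion

set_option autoImplicit false
universe u
open CategoryTheory Category Limits

namespace Groth.Agent.H4.RG5

open DRing

variable {A : Type u} [CommRing A]

/-- over a Noetherian ring, an injective module is `f`-divisible modulo `f`-power torsion. -/
lemma exists_div_mod_torsion [IsNoetherianRing A] (E : Type u) [AddCommGroup E] [Module A E]
    [Module.Injective A E] (f : A) (k : ℕ) (x : E) :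
    ∃ (y : E) (m : ℕ), f ^ m • (x - f ^ k • y) = 0 := by
  let c : ℕ →o Ideal A := ⟨fun n => LinearMap.ker (LinearMap.toSpanSingleton A A (f ^ n)), by
    intro n m hnm a ha
    rw [LinearMap.mem_ker, LinearMap.toSpanSingleton_apply, smul_eq_mul] at ha ⊢
    obtain ⟨j, rfl⟩ := Nat.exists_eq_add_of_le hnm
    rw [pow_add, ← mul_assoc, ha, zero_mul]⟩
  obtain ⟨N, hN⟩ := (monotone_stabilizes_iff_noetherian (R := A) (M := A)).2 inferInstance c
  let μ : A →ₗ[A] A := LinearMap.toSpanSingleton A A (f ^ (k + N))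
  let ν : A →ₗ[A] E := LinearMap.toSpanSingleton A E (f ^ N • x)
  have hle : LinearMap.ker μ ≤ LinearMap.ker ν := by
    intro a ha
    have h1 : a ∈ c (k + N) := ha
    rw [← hN (k + N) (Nat.le_add_left _ _)] at h1
    have h2 : a * f ^ N = 0 := by
      have := h1
      change a ∈ LinearMap.ker (LinearMap.toSpanSingleton A A (f ^ N)) at this
      rwa [LinearMap.mem_ker, LinearMap.toSpanSingleton_apply, smul_eq_mul] at this
    rw [LinearMap.mem_ker, LinearMap.toSpanSingleton_apply, smul_smul, h2, zero_smul]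
  let ι : (A ⧸ LinearMap.ker μ) →ₗ[A] A := (LinearMap.ker μ).liftQ μ le_rfl
  have hι : Function.Injective ι := by
    rw [← LinearMap.ker_eq_bot]
    exact Submodule.ker_liftQ_eq_bot _ _ _ le_rfl
  let g : (A ⧸ LinearMap.ker μ) →ₗ[A] E := (LinearMap.ker μ).liftQ ν hle
  obtain ⟨h, hh⟩ := Module.Injective.extension_property A E _ _ ι hι g
  refine ⟨h 1, N, ?_⟩
  have h1 : f ^ (k + N) • h 1 = f ^ N • x := by
    have h2 := LinearMap.congr_fun hh ((LinearMap.ker μ).mkQ 1)
    rw [LinearMap.comp_apply] at h2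
    have h3 : ι ((LinearMap.ker μ).mkQ 1) = f ^ (k + N) := by
      change μ 1 = _
      rw [LinearMap.toSpanSingleton_apply, one_smul]
    have h4 : g ((LinearMap.ker μ).mkQ 1) = f ^ N • x := by
      change ν 1 = _
      rw [LinearMap.toSpanSingleton_apply, one_smul]
    rw [h3, h4] at h2
    rw [← h2, ← map_smul, smul_eq_mul, mul_one]
  rw [smul_sub, smul_smul, ← pow_add, Nat.add_comm N k, h1, sub_self]

lemma mem_torsionSub_bot {M : Type u} [AddCommGroup M] [Module A M] (x : M) :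
    x ∈ torsionSub (⊥ : Ideal A) M := by
  refine ⟨1, fun a ha => ?_⟩
  rw [pow_one] at ha
  rw [(Submodule.mem_bot A).1 ha, zero_smul]

lemma mem_torsionSub_sup {M : Type u} [AddCommGroup M] [Module A M] (I' : Ideal A) (f : A) (x : M) :
    x ∈ torsionSub (I' ⊔ Ideal.span {f}) M ↔ x ∈ torsionSub I' M ∧ ∃ m : ℕ, f ^ m • x = 0 := by
  constructor
  · rintro ⟨n, hn⟩
    refine ⟨⟨n, fun a ha => hn a (Ideal.pow_right_mono le_sup_left n ha)⟩, n, hn _ ?_⟩
    exact Ideal.pow_mem_pow (le_sup_right (a := I') (Ideal.mem_span_singleton_self f)) n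
  · rintro ⟨⟨n, hn⟩, m, hm⟩
    refine ⟨n + m, fun a ha => ?_⟩
    have h1 := Ideal.sup_pow_add_le_pow_sup_pow (I := I') (J := Ideal.span {f}) (n := n) (m := m) ha
    rw [Ideal.span_singleton_pow] at h1
    obtain ⟨b, hb, c, hc, rfl⟩ := Submodule.mem_sup.1 h1
    obtain ⟨r, rfl⟩ := Ideal.mem_span_singleton'.1 hc
    rw [add_smul, hn b hb, zero_add, mul_smul, hm, smul_zero]

lemma torsionSub_mono {M : Type u} [AddCommGroup M] [Module A M] {I J : Ideal A} (h : I ≤ J) :
    torsionSub J M ≤ torsionSub I M := by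
  rintro x ⟨n, hn⟩
  exact ⟨n, fun a ha => hn a (Ideal.pow_right_mono h n ha)⟩

variable (T : CochainComplex (ModuleCat.{u} A) ℤ)

lemma dd (o p q : ℤ) (x : T.X o) : T.d p q (T.d o p x) = 0 := by
  rw [← ModuleCat.comp_apply, T.d_comp_d]
  rfl

/-- boundaries in `Γ_I T^q` are boundaries of elements of `Γ_I T^p`. -/
def Hinj (I : Ideal A) (p q : ℤ) : Prop :=
  ∀ z : T.X q, z ∈ torsionSub I (T.X q) → (∃ w : T.X p, T.d p q w = z) →
    ∃ w' : T.X p, w' ∈ torsionSub I (T.X p) ∧ T.d p q w' = z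

/-- the cohomology of `T` at `q` is `f`-power torsion. -/
def HtorsElt (f : A) (p q r : ℤ) : Prop :=
  ∀ z : T.X q, T.d q r z = 0 → ∃ (k : ℕ) (w : T.X p), T.d p q w = f ^ k • z

/-- every cycle is cohomologous to an element of `Γ_I T^q`. -/
def Hsurj (I : Ideal A) (p q r : ℤ) : Prop :=
  ∀ z : T.X q, T.d q r z = 0 → ∃ w : T.X p, z - T.d p q w ∈ torsionSub I (T.X q)

lemma hinj_bot (p q : ℤ) : Hinj T ⊥ p q := fun z _ ⟨w, hw⟩ => ⟨w, mem_torsionSub_bot w, hw⟩

lemma hsurj_bot (p q r : ℤ) : Hsurj T ⊥ p q r := fun z _ => ⟨0, mem_torsionSub_bot _⟩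

lemma hinj_step [IsNoetherianRing A] (I' : Ideal A) (f : A) (o p q : ℤ)
    [Module.Injective A (T.X o)]
    (h1 : Hinj T I' p q) (h2 : Hinj T I' o p) (h3 : HtorsElt T f o p q) :
    Hinj T (I' ⊔ Ideal.span {f}) p q := by
  rintro z hz ⟨w, hw⟩
  rw [mem_torsionSub_sup] at hz
  obtain ⟨hz1, k, hk⟩ := hz
  obtain ⟨w1, hw1, hw1z⟩ := h1 z hz1 ⟨w, hw⟩
  have hc : T.d p q (f ^ k • w1) = 0 := by rw [map_smul, hw1z, hk]
  obtain ⟨k', v, hv⟩ := h3 (f ^ k • w1) hc
  have hmem : f ^ k' • f ^ k • w1 ∈ torsionSub I' (T.X p) :=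
    Submodule.smul_mem _ _ (Submodule.smul_mem _ _ hw1)
  obtain ⟨v1, hv1, hv1z⟩ := h2 _ hmem ⟨v, hv⟩
  haveI := Groth.Agent.H6.LC.torsionSub_injective I' (T.X o)
  obtain ⟨y, m, hy⟩ := exists_div_mod_torsion (torsionSub I' (T.X o)) f (k' + k) ⟨v1, hv1⟩
  have hy' : f ^ m • (v1 - f ^ (k' + k) • (y : T.X o)) = 0 := congrArg Subtype.val hy
  refine ⟨w1 - T.d o p y.1, ?_, ?_⟩
  · rw [mem_torsionSub_sup]
    refine ⟨Submodule.sub_mem _ hw1 (map_mem_torsionSub I' (T.d o p).hom y.2), m + (k' + k), ?_⟩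
    have h4 : f ^ (k' + k) • (w1 - T.d o p y.1) = T.d o p (v1 - f ^ (k' + k) • (y : T.X o)) := by
      rw [map_sub, map_smul, hv1z, smul_sub, pow_add, mul_smul]
    rw [pow_add, mul_smul, h4, ← map_smul, hy', map_zero]
  · rw [map_sub, hw1z, dd, sub_zero]

lemma hsurj_step [IsNoetherianRing A] (I' : Ideal A) (f : A) (p q r : ℤ)
    [Module.Injective A (T.X p)]
    (h1 : Hsurj T I' p q r) (h2 : Hinj T I' p q) (h3 : HtorsElt T f p q r) :
    Hsurj T (I' ⊔ Ideal.span {f}) p q r := by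
  intro z hz
  obtain ⟨w0, hw0⟩ := h1 z hz
  set z1 := z - T.d p q w0 with hz1
  have hz1c : T.d q r z1 = 0 := by rw [hz1, map_sub, hz, dd, sub_zero]
  obtain ⟨k, w, hw⟩ := h3 z1 hz1c
  have hmem : f ^ k • z1 ∈ torsionSub I' (T.X q) := Submodule.smul_mem _ _ hw0
  obtain ⟨w1, hw1, hw1z⟩ := h2 _ hmem ⟨w, hw⟩
  haveI := Groth.Agent.H6.LC.torsionSub_injective I' (T.X p)
  obtain ⟨y, m, hy⟩ := exists_div_mod_torsion (torsionSub I' (T.X p)) f k ⟨w1, hw1⟩
  have hy' : f ^ m • (w1 - f ^ k • (y : T.X p)) = 0 := congrArg Subtype.val hy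
  refine ⟨w0 + y.1, ?_⟩
  have h5 : z - T.d p q (w0 + y.1) = z1 - T.d p q y.1 := by
    rw [hz1, map_add]
    abel
  rw [h5, mem_torsionSub_sup]
  refine ⟨Submodule.sub_mem _ hw0 (map_mem_torsionSub I' (T.d p q).hom y.2), m + k, ?_⟩
  have h4 : f ^ k • (z1 - T.d p q y.1) = T.d p q (w1 - f ^ k • (y : T.X p)) := by
    rw [map_sub, map_smul, hw1z, smul_sub]
  rw [pow_add, mul_smul, h4, ← map_smul, hy', map_zero]

theorem hinj_finset [IsNoetherianRing A] (hT : ∀ n, Module.Injective A (T.X n)) (s : Finset A) :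
    ∀ q : ℤ, (∀ f ∈ s, ∀ o p r : ℤ, o + 1 = p → p + 1 = r → q - s.card ≤ p → p < q →
      HtorsElt T f o p r) → ∀ p, p + 1 = q → Hinj T (Ideal.span (s : Set A)) p q := by
  classical
  induction s using Finset.induction_on with
  | empty =>
    intro q _ p _
    rw [Finset.coe_empty, Ideal.span_empty]
    exact hinj_bot T p q
  | insert f s hf ih =>
    intro q h p hpq
    rw [Finset.card_insert_of_notMem hf] at h
    rw [Finset.coe_insert, Ideal.span_insert, sup_comm]
    haveI := hT (p - 1)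
    refine hinj_step T _ f (p - 1) p q ?_ ?_ ?_
    · exact ih q (fun g hg o p' r h1 h2 h3 h4 =>
        h g (Finset.mem_insert_of_mem hg) o p' r h1 h2 (by push_cast at h3 ⊢; omega) h4) p hpq
    · exact ih p (fun g hg o p' r h1 h2 h3 h4 =>
        h g (Finset.mem_insert_of_mem hg) o p' r h1 h2 (by push_cast at h3 ⊢; omega) (by omega))
        (p - 1) (by omega)
    · exact h f (Finset.mem_insert_self f s) (p - 1) p q (by omega) hpq
        (by push_cast; omega) (by omega)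

theorem hsurj_finset [IsNoetherianRing A] (hT : ∀ n, Module.Injective A (T.X n)) (s : Finset A) :
    ∀ q : ℤ, (∀ f ∈ s, ∀ o p r : ℤ, o + 1 = p → p + 1 = r → q - s.card ≤ p → p ≤ q →
      HtorsElt T f o p r) → ∀ p r, p + 1 = q → q + 1 = r →
        Hsurj T (Ideal.span (s : Set A)) p q r := by
  classical
  induction s using Finset.induction_on with
  | empty =>
    intro q _ p r _ _
    rw [Finset.coe_empty, Ideal.span_empty]
    exact hsurj_bot T p q r
  | insert f s hf ih =>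
    intro q h p r hpq hqr
    rw [Finset.card_insert_of_notMem hf] at h
    rw [Finset.coe_insert, Ideal.span_insert, sup_comm]
    haveI := hT p
    refine hsurj_step T _ f p q r ?_ ?_ ?_
    · exact ih q (fun g hg o p' r h1 h2 h3 h4 =>
        h g (Finset.mem_insert_of_mem hg) o p' r h1 h2 (by push_cast at h3 ⊢; omega) h4) p r hpq hqr
    · exact hinj_finset T hT s q (fun g hg o p' r h1 h2 h3 h4 =>
        h g (Finset.mem_insert_of_mem hg) o p' r h1 h2 (by push_cast at h3 ⊢; omega) (by omega))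
        p hpq
    · exact h f (Finset.mem_insert_self f s) p q r hpq hqr
        (by push_cast; omega) le_rfl

end Groth.Agent.H4.RG5
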