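import Mathlib
import Groth.Prelude.Def_DualLC
import Groth.Agent.H4.RG5
import Groth.Agent.H4.RG2
import Groth.Agent.Lib.Helper6.HomologyElts

set_option autoImplicit false
universe u
open CategoryTheory Category Limits

namespace Groth.Agent.H4.RG6

open DRing Groth.Agent.H4.RG5 Groth.Agent.H4.RG2 Groth.Agent.H6

variable {A : Type u} [CommRing A]

lemma exactAt_elt (T : CochainComplex (ModuleCat.{u} A) ℤ) (p q r : ℤ) (hpq : p + 1 = q)
    (hqr : q + 1 = r) :
    T.ExactAt q ↔ ∀ z : T.X q, T.d q r z = 0 → ∃ w : T.X p, T.d p q w = z := by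
  rw [HomologicalComplex.exactAt_iff' T p q r (by simp; omega) (by simp; omega),
    ShortComplex.moduleCat_exact_iff]
  rfl

lemma htorsElt_of_exactAt (T : CochainComplex (ModuleCat.{u} A) ℤ) (f : A) (o p r : ℤ)
    (hop : o + 1 = p) (hpr : p + 1 = r) (h : T.ExactAt p) : HtorsElt T f o p r := by
  intro z hz
  obtain ⟨w, hw⟩ := (exactAt_elt T o p r hop hpr).1 h z hz
  exact ⟨0, w, by rw [hw, pow_zero, one_smul]⟩

/-- `Γ_I` has finite cohomological dimension on complexes of injectives. -/
theorem exactAt_GamL_finset [IsNoetherianRing A] (T : CochainComplex (ModuleCat.{u} A) ℤ)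
    (hT : ∀ n, Module.Injective A (T.X n)) (s : Finset A) (q : ℤ)
    (h : ∀ j, q - s.card ≤ j → j ≤ q → T.ExactAt j) :
    (GamL (Ideal.span (s : Set A)) T).ExactAt q := by
  rw [exactAt_elt _ (q - 1) q (q + 1) (by omega) rfl]
  rintro ⟨z, hz⟩ hdz
  have hdz' : T.d q (q + 1) z = 0 := congrArg Subtype.val hdz
  obtain ⟨w, hw⟩ := (exactAt_elt T (q - 1) q (q + 1) (by omega) rfl).1 (h q (by omega) le_rfl) z hdz'
  have hinj := hinj_finset T hT s q (fun f _ o p r hop hpr h1 h2 =>
    htorsElt_of_exactAt T f o p r hop hpr (h p h1 h2.le)) (q - 1) (by omega)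
  obtain ⟨w', hw', hw'z⟩ := hinj z hz ⟨w, hw⟩
  exact ⟨⟨w', hw'⟩, Subtype.ext hw'z⟩

theorem acyclic_GamL [IsNoetherianRing A] (T : CochainComplex (ModuleCat.{u} A) ℤ)
    (hT : ∀ n, Module.Injective A (T.X n)) (I : Ideal A) (h : T.Acyclic) :
    (GamL I T).Acyclic := by
  obtain ⟨s, rfl⟩ := (IsNoetherian.noetherian I : I.FG)
  intro q
  exact exactAt_GamL_finset T hT s q (fun j _ _ => h j)

open HomotopyCategory CategoryTheory.Pretriangulated in
lemma acyclic_mappingCone_iff {K Y : CochainComplex (ModuleCat.{u} A) ℤ} (s : K ⟶ Y) :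
    (CochainComplex.mappingCone s).Acyclic ↔ QuasiIso s := by
  rw [← quotient_obj_mem_subcategoryAcyclic_iff_acyclic,
    ← HomologicalComplex.mem_quasiIso_iff,
    ← quotient_map_mem_quasiIso_iff, quasiIso_eq_trW_subcategoryAcyclic]
  exact ((subcategoryAcyclic (ModuleCat.{u} A)).trW_iff_of_distinguished _
    (mappingCone_triangleh_distinguished s)).symm

lemma injective_mappingCone {K Y : CochainComplex (ModuleCat.{u} A) ℤ} (s : K ⟶ Y)
    (hK : ∀ n, Injective (K.X n)) (hY : ∀ n, Injective (Y.X n)) (n : ℤ) :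
    Injective ((CochainComplex.mappingCone s).X n) := by
  haveI := hK (n + 1)
  haveI := hY n
  exact Injective.of_iso (HomologicalComplex.homotopyCofiber.XIsoBiprod s n (n + 1) rfl).symm
    inferInstance

lemma moduleInjective_of_injective (M : ModuleCat.{u} A) [h : Injective M] :
    Module.Injective A M :=
  Module.injective_module_of_injective_object A M

lemma injective_of_moduleInjective (M : ModuleCat.{u} A) [h : Module.Injective A M] :
    Injective M :=
  Module.injective_object_of_injective_module A M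

/-- `Γ_I` preserves quasi-isomorphisms between complexes of injectives. -/
theorem quasiIso_map_GamL [IsNoetherianRing A] (I : Ideal A)
    {K Y : CochainComplex (ModuleCat.{u} A) ℤ} (s : K ⟶ Y)
    (hK : ∀ n, Injective (K.X n)) (hY : ∀ n, Injective (Y.X n)) (hs : QuasiIso s) :
    QuasiIso (((gammaI I).mapHomologicalComplex (ComplexShape.up ℤ)).map s) := by
  rw [← acyclic_mappingCone_iff]
  have h1 : (CochainComplex.mappingCone s).Acyclic := (acyclic_mappingCone_iff s).2 hs
  have h2 := acyclic_GamL (CochainComplex.mappingCone s) (fun n =>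
    haveI := injective_mappingCone s hK hY n
    moduleInjective_of_injective _) I h1
  intro n
  exact (h2 n).of_iso (CochainComplex.mappingCone.mapHomologicalComplexIso s (gammaI I))

lemma injective_GamL [IsNoetherianRing A] (I : Ideal A) (T : CochainComplex (ModuleCat.{u} A) ℤ)
    (hT : ∀ n, Injective (T.X n)) (n : ℤ) : Injective ((GamL I T).X n) := by
  haveI := hT n
  haveI : Module.Injective A (T.X n) := moduleInjective_of_injective _
  haveI := Groth.Agent.H6.LC.torsionSub_injective I (T.X n)
  exact Module.injective_object_of_injective_module A (torsionSub I (T.X n))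

end Groth.Agent.H4.RG6
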