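import Mathlib
import Groth.Agent.H4.KI2
import Groth.Agent.H4.RG6

set_option autoImplicit false

open CategoryTheory Category Limits Pretriangulated DerivedCategory CochainComplex

universe w v u

namespace Groth.Agent.H4.RG7

attribute [local instance] HasDerivedCategory.standard

open Groth.Agent.H4.ProjAmp Groth.Agent.H4.AP1 Groth.Agent.H2.DProd Groth.Agent.H4.KI2
  Groth.Agent.H4.RG6

variable {A : Type u} [CommRing A]

/-- bounded below objects are represented by bounded below complexes of injectives. -/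
lemma exists_kInjective_iso' (X : Dual.D A) (a : ℤ) [X.IsGE a] :
    ∃ (I : CochainComplex (ModuleCat.{u} A) ℤ), I.IsKInjective ∧ (∀ n, Injective (I.X n)) ∧
      Nonempty (Q.obj I ≅ X) := by
  obtain ⟨M, hM, ⟨e⟩⟩ := X.exists_iso_Q_obj_of_isGE a
  obtain ⟨Z, hZ⟩ := HasZeroObject.zero (C := ModuleCat.{u} A)
  have hZinj : Injective Z := ⟨fun {X Y} g f _ => ⟨0, hZ.eq_of_tgt _ _⟩⟩
  obtain ⟨L, α, hL, hLI, -, hα⟩ := Groth.Agent.H2.Resol.exists_resolution
    (fun Y : ModuleCat.{u} A => Injective Y)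
    (fun Y => ⟨Injective.under Y, Injective.ι Y, inferInstance, inferInstance⟩) M a
    ⟨Z, hZ, hZinj⟩
  have : ∀ n, Injective (L.X n) := hLI
  have : IsIso (Q.map α) := (isIso_Q_map_iff_quasiIso _ α).2 hα
  exact ⟨L, isKInjective_of_injective L a, hLI, ⟨(asIso (Q.map α)).symm ≪≫ e.symm⟩⟩

lemma injective_pi_X (I : ℕ → CochainComplex (ModuleCat.{u} A) ℤ)
    (hI : ∀ n k, Injective ((I n).X k)) (k : ℤ) : Injective ((∏ᶜ I).X k) := by
  haveI : ∀ n, Injective ((HomologicalComplex.eval (ModuleCat.{u} A) (ComplexShape.up ℤ) k).obj (I n)) :=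
    fun n => hI n k
  exact Injective.of_iso
    (PreservesProduct.iso (HomologicalComplex.eval (ModuleCat.{u} A) (ComplexShape.up ℤ) k) I).symm
    inferInstance

/-- every object of `D(A)` is represented by a K-injective complex of injectives. -/
theorem exists_kinj_inj_iso (X : Dual.D A) :
    ∃ (I : CochainComplex (ModuleCat.{u} A) ℤ), I.IsKInjective ∧ (∀ n, Injective (I.X n)) ∧
      Nonempty (X ≅ Q.obj I) := by
  -- the truncation tower
  let Yt : ℕ → Dual.D A := fun n => ((tR A).truncGE (-(n : ℤ))).obj X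
  have hres : ∀ n, ∃ (I : CochainComplex (ModuleCat.{u} A) ℤ), I.IsKInjective ∧
      (∀ k, Injective (I.X k)) ∧
      Nonempty (Q.obj I ≅ Yt n) := fun n => exists_kInjective_iso' (Yt n) (-(n : ℤ))
  choose I hI hIinj e using hres
  haveI := hI
  let e' : ∀ n, Q.obj (I n) ≅ Yt n := fun n => (e n).some
  let θt : ∀ n, Yt (n + 1) ⟶ Yt n := fun n =>
    ((tR A).natTransTruncGEOfLE (-((n + 1 : ℕ) : ℤ)) (-(n : ℤ)) (by push_cast; omega)).app X
  let qt : ∀ n, X ⟶ Yt n := fun n => ((tR A).truncGEπ (-(n : ℤ))).app X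
  have hqt : ∀ n, qt (n + 1) ≫ θt n = qt n := fun n =>
    (tR A).π_natTransTruncGEOfLE_app _ _ _ X
  -- transported tower
  let Y : ℕ → Dual.D A := fun n => Q.obj (I n)
  let θ : ∀ n, Y (n + 1) ⟶ Y n := fun n => (e' (n + 1)).hom ≫ θt n ≫ (e' n).inv
  let q : ∀ n, X ⟶ Y n := fun n => qt n ≫ (e' n).inv
  have hq : ∀ n, q (n + 1) ≫ θ n = q n := fun n => by
    change (qt (n + 1) ≫ (e' (n + 1)).inv) ≫ (e' (n + 1)).hom ≫ θt n ≫ (e' n).inv = _
    rw [assoc, Iso.inv_hom_id_assoc, ← assoc, hqt]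
  -- the product
  haveI : (∏ᶜ I).IsKInjective := Groth.Agent.H2.KInjProd.isKInjective_pi I inferInstance
  let P : Dual.D A := Q.obj (∏ᶜ I)
  let π : ∀ n, P ⟶ Y n := fun n => Q.map (Pi.π I n)
  have hP : IsLimit (Fan.mk P π) := isLimitFan I
  let s : P ⟶ P := hP.lift (Fan.mk P (fun n => π (n + 1) ≫ θ n))
  have hs : ∀ n, s ≫ π n = π (n + 1) ≫ θ n := fun n =>
    hP.fac (Fan.mk P (fun n => π (n + 1) ≫ θ n)) ⟨n⟩
  obtain ⟨ψ, hψ⟩ := exists_Q_map_eq (𝟙 P - s)
  have hb : ∀ n, Q.map ψ ≫ π n = π n - π (n + 1) ≫ θ n := fun n => by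
    rw [hψ, Preadditive.sub_comp, id_comp, hs]
  -- the triangle
  have hT₀ : Q.mapTriangle.obj (mappingCone.triangle ψ) ∈ distTriang (Dual.D A) :=
    (mem_distTriang_iff _).2 ⟨_, _, ψ, ⟨Iso.refl _⟩⟩
  have hT := inv_rot_of_distTriang _ hT₀
  let T := (Q.mapTriangle.obj (mappingCone.triangle ψ)).invRotate
  have hT' : Triangle.mk T.mor₁ (Q.map ψ) T.mor₃ ∈ distTriang (Dual.D A) := hT
  obtain ⟨γ, hγ⟩ := Groth.Agent.H4.KI1.exists_lift_holim θ π hP T.mor₁ (Q.map ψ) T.mor₃ hT' hb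
    q hq
  -- `γ` is an isomorphism
  have hγiso : IsIso γ := by
    apply isIso_of_forall_hom_W_bijective
    intro i
    let N : ℕ := (1 - i).toNat
    have hN : ∀ n : ℕ, N ≤ n → -(n : ℤ) ≤ i - 1 := by
      intro n hn
      have := Int.self_le_toNat (1 - i)
      have : ((1 - i).toNat : ℤ) ≤ n := by exact_mod_cast hn
      omega
    have hV := lOrth_W (A := A) i
    have hV' := hV.shift
    have hbq : ∀ n, N ≤ n → Function.Bijective (fun φ : W A i ⟶ X => φ ≫ q n) := fun n hn =>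
      bijective_comp_iso _ (e' n).symm
        (bijective_comp_truncGEπ (W A i) X i (-(n : ℤ)) (by have := hN n hn; omega) hV)
    have hbq' : ∀ n, N ≤ n →
        Function.Bijective (fun φ : (W A i)⟦(1 : ℤ)⟧ ⟶ X => φ ≫ q n) := fun n hn =>
      bijective_comp_iso _ (e' n).symm
        (bijective_comp_truncGEπ ((W A i)⟦(1 : ℤ)⟧) X (i - 1) (-(n : ℤ)) (hN n hn) hV')
    have h1 : ∀ n, N ≤ n → Function.Bijective (fun φ : W A i ⟶ Y (n + 1) => φ ≫ θ n) :=
      fun n hn => bijective_of_comp_eq (q (n + 1)) (θ n) (q n) (hq n)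
        (hbq (n + 1) (by omega)) (hbq n hn)
    have h2 : ∀ n, N ≤ n →
        Function.Surjective (fun φ : (W A i)⟦(1 : ℤ)⟧ ⟶ Y (n + 1) => φ ≫ θ n) :=
      fun n hn => (bijective_of_comp_eq (q (n + 1)) (θ n) (q n) (hq n)
        (hbq' (n + 1) (by omega)) (hbq' n hn)).2
    have hM := Groth.Agent.H4.KI1.bijective_comp_holim θ π hP T.mor₁ (Q.map ψ) T.mor₃ hT' hb
      (W A i) N h1 h2
    have hcomp : (fun φ : W A i ⟶ X => φ ≫ q N) =
        (fun φ : W A i ⟶ T.obj₁ => φ ≫ T.mor₁ ≫ π N) ∘ (fun φ : W A i ⟶ X => φ ≫ γ) := by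
      funext φ
      change φ ≫ q N = (φ ≫ γ) ≫ T.mor₁ ≫ π N
      exact (congrArg (fun x => φ ≫ x) (hγ N).symm).trans (assoc _ _ _).symm
    have h3 := hbq N le_rfl
    rw [hcomp] at h3
    exact (Function.Bijective.of_comp_iff' hM _).1 h3
  refine ⟨(mappingCone ψ)⟦(-1 : ℤ)⟧, inferInstance, ?_, ⟨asIso γ ≪≫ ?_⟩⟩
  · intro n
    exact injective_mappingCone ψ (injective_pi_X I hIinj) (injective_pi_X I hIinj) (n + -1)
  · exact ((Q.commShiftIso (-1 : ℤ)).app (mappingCone ψ)).symm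

/-- K-injective resolutions by complexes of injectives. -/
theorem exists_kinj_inj (X : CochainComplex (ModuleCat.{u} A) ℤ) :
    ∃ (I : CochainComplex (ModuleCat.{u} A) ℤ) (f : X ⟶ I), I.IsKInjective ∧
      (∀ n, Injective (I.X n)) ∧ QuasiIso f := by
  obtain ⟨I, hI, hIinj, ⟨e⟩⟩ := exists_kinj_inj_iso (Q.obj X)
  haveI := hI
  obtain ⟨f, hf⟩ := exists_Q_map_eq e.hom
  refine ⟨I, f, hI, hIinj, ?_⟩
  rw [← isIso_Q_map_iff_quasiIso, hf]
  infer_instance

end Groth.Agent.H4.RG7
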