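import Mathlib
import Groth.Prelude.Def_DualLC
import Groth.Agent.H4.RG3
import Groth.Agent.H4.RG7

set_option autoImplicit false
universe u
open CategoryTheory Category Limits Pretriangulated Opposite ZeroObject

namespace Groth.Agent.H4.RG8

attribute [local instance] HasDerivedCategory.standard

open DerivedCategory DRing Groth.Agent.H4.RG1 Groth.Agent.H4.RG2 Groth.Agent.H4.RG5
  Groth.Agent.H4.RG6 Groth.Agent.H4.RG7

variable {A : Type u} [CommRing A] (I : Ideal A)

/-- the unit `Q(Γ_I T) ⟶ RΓ_I(T)` is an isomorphism for complexes of injectives. -/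
theorem isIso_unit_of_injective [IsNoetherianRing A] [DRing.HasRgammaI I]
    (T : CochainComplex (ModuleCat.{u} A) ℤ) (hT : ∀ n, Injective (T.X n)) :
    IsIso (((gammaIKh I).totalRightDerivedUnit DerivedCategory.Qh
      (HomotopyCategory.quasiIso (ModuleCat.{u} A) (ComplexShape.up ℤ))).app
        ((HomotopyCategory.quotient _ _).obj T)) := by
  obtain ⟨J, φ, hJ, hJinj, hφ⟩ := exists_kinj_inj T
  set η := (gammaIKh I).totalRightDerivedUnit DerivedCategory.Qh
      (HomotopyCategory.quasiIso (ModuleCat.{u} A) (ComplexShape.up ℤ)) with hη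
  have hnat := η.naturality ((HomotopyCategory.quotient (ModuleCat.{u} A) (ComplexShape.up ℤ)).map φ)
  haveI h1 : IsIso (η.app ((HomotopyCategory.quotient _ _).obj J)) :=
    Groth.Agent.H2.KInjDer.isIso_unit_of_isKInjective (gammaIKh I)
      (fun X => Groth.Agent.H4.KI2.exists_kinj X) J hJ
  haveI h2 : IsIso ((gammaIKh I).map
      ((HomotopyCategory.quotient (ModuleCat.{u} A) (ComplexShape.up ℤ)).map φ)) := by
    have h := (NatIso.isIso_map_iff (gammaIKhFac I) φ).2 (by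
      dsimp only [Functor.comp_map]
      haveI := quasiIso_map_GamL I φ hT hJinj hφ
      rw [isIso_Q_map_iff_quasiIso]
      infer_instance)
    exact h
  haveI h3 : IsIso (Qh.map
      ((HomotopyCategory.quotient (ModuleCat.{u} A) (ComplexShape.up ℤ)).map φ)) := by
    have h := (NatIso.isIso_map_iff (quotientCompQhIso (ModuleCat.{u} A)) φ).2 (by
      rw [isIso_Q_map_iff_quasiIso]
      exact hφ)
    exact h
  haveI h4 : IsIso ((Qh ⋙ DRing.RgammaI I).map
      ((HomotopyCategory.quotient (ModuleCat.{u} A) (ComplexShape.up ℤ)).map φ)) := by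
    dsimp only [Functor.comp_map]
    infer_instance
  have h5 : η.app ((HomotopyCategory.quotient _ _).obj T) =
      ((gammaIKh I).map
        ((HomotopyCategory.quotient (ModuleCat.{u} A) (ComplexShape.up ℤ)).map φ) ≫
        η.app ((HomotopyCategory.quotient _ _).obj J)) ≫
      inv ((Qh ⋙ DRing.RgammaI I).map
        ((HomotopyCategory.quotient (ModuleCat.{u} A) (ComplexShape.up ℤ)).map φ)) := by
    rw [hnat, assoc, IsIso.hom_inv_id, comp_id]
  rw [h5]
  infer_instance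

/-- `RΓ_I(T) = Γ_I(T)` for `T` a complex of injectives (Noetherian case). -/
noncomputable def rgammaIsoOfInj [IsNoetherianRing A] [DRing.HasRgammaI I]
    (T : CochainComplex (ModuleCat.{u} A) ℤ)
    (hT : ∀ n, Injective (T.X n)) : (DRing.RgammaI I).obj (Q.obj T) ≅ Q.obj (GamL I T) :=
  haveI hunit := isIso_unit_of_injective I T hT
  (DRing.RgammaI I).mapIso ((quotientCompQhIso (ModuleCat.{u} A)).symm.app T) ≪≫
    (asIso (((gammaIKh I).totalRightDerivedUnit DerivedCategory.Qh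
      (HomotopyCategory.quasiIso (ModuleCat.{u} A) (ComplexShape.up ℤ))).app
        ((HomotopyCategory.quotient _ _).obj T))).symm ≪≫ (gammaIKhFac I).app T

lemma mem_torsionSub_sup' {M : Type u} [AddCommGroup M] [Module A M] (I J : Ideal A) (x : M) :
    x ∈ torsionSub (I ⊔ J) M ↔ x ∈ torsionSub I M ∧ x ∈ torsionSub J M := by
  constructor
  · intro h
    exact ⟨torsionSub_mono le_sup_left h, torsionSub_mono le_sup_right h⟩
  · rintro ⟨⟨n, hn⟩, m, hm⟩
    refine ⟨n + m, fun a ha => ?_⟩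
    have h1 := Ideal.sup_pow_add_le_pow_sup_pow (I := I) (J := J) (n := n) (m := m) ha
    obtain ⟨b, hb, c, hc, rfl⟩ := Submodule.mem_sup.1 h1
    rw [add_smul, hn b hb, hm c hc, add_zero]

/-- `Γ_J(Γ_I M) = Γ_{I+J} M`. -/
def torsionTorsionEquiv (I J : Ideal A) (M : Type u) [AddCommGroup M] [Module A M] :
    torsionSub J (torsionSub I M) ≃ₗ[A] torsionSub (I ⊔ J) M where
  toFun x := ⟨x.1.1, (mem_torsionSub_sup' I J _).2 ⟨x.1.2, by
    obtain ⟨n, hn⟩ := x.2
    exact ⟨n, fun a ha => congrArg Subtype.val (hn a ha)⟩⟩⟩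
  map_add' _ _ := rfl
  map_smul' _ _ := rfl
  invFun x := ⟨⟨x.1, ((mem_torsionSub_sup' I J _).1 x.2).1⟩, by
    obtain ⟨n, hn⟩ := ((mem_torsionSub_sup' I J _).1 x.2).2
    exact ⟨n, fun a ha => Subtype.ext (hn a ha)⟩⟩
  left_inv _ := rfl
  right_inv _ := rfl

/-- `Γ_J(Γ_I T) = Γ_{I+J} T` for complexes. -/
noncomputable def gamGamIso (I J : Ideal A) (T : CochainComplex (ModuleCat.{u} A) ℤ) :
    GamL J (GamL I T) ≅ GamL (I ⊔ J) T :=
  HomologicalComplex.Hom.isoOfComponents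
    (fun n => (torsionTorsionEquiv I J (T.X n)).toModuleIso) (by
      intro i j _
      rfl)

/-- **S1816** -/
theorem S1816 [IsNoetherianRing A] (I J : Ideal A) [DRing.HasRgammaI I] [DRing.HasRgammaI J]
    [DRing.HasRgammaI (I ⊔ J)] (K : Dual.D A) :
    Nonempty ((DRing.RgammaI J).obj ((DRing.RgammaI I).obj K) ≅ (DRing.RgammaI (I ⊔ J)).obj K) := by
  obtain ⟨L, hL, hLinj, ⟨e⟩⟩ := exists_kinj_inj_iso K
  haveI := hL
  let e1 : (DRing.RgammaI I).obj K ≅ Q.obj (GamL I L) :=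
    (DRing.RgammaI I).mapIso e ≪≫ rgammaIsoOfInj I L hLinj
  let e2 : (DRing.RgammaI J).obj (Q.obj (GamL I L)) ≅ Q.obj (GamL J (GamL I L)) :=
    rgammaIsoOfInj J (GamL I L) (injective_GamL I L hLinj)
  let e3 : Q.obj (GamL J (GamL I L)) ≅ Q.obj (GamL (I ⊔ J) L) := Q.mapIso (gamGamIso I J L)
  let e4 : (DRing.RgammaI (I ⊔ J)).obj K ≅ Q.obj (GamL (I ⊔ J) L) :=
    (DRing.RgammaI (I ⊔ J)).mapIso e ≪≫ rgammaIsoOfInj (I ⊔ J) L hLinj
  exact ⟨(DRing.RgammaI J).mapIso e1 ≪≫ e2 ≪≫ e3 ≪≫ e4.symm⟩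

end Groth.Agent.H4.RG8
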