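import Mathlib
import Groth.Prelude.Def_DualLC
import Groth.Agent.H4.RG8

set_option autoImplicit false
universe u
open CategoryTheory Category Limits Pretriangulated Opposite ZeroObject

namespace Groth.Agent.H4.RG10

attribute [local instance] HasDerivedCategory.standard

open DerivedCategory DRing Groth.Agent.H4.RG1 Groth.Agent.H4.RG2 Groth.Agent.H4.RG5
  Groth.Agent.H4.RG6 Groth.Agent.H4.RG7 Groth.Agent.H4.RG8 Groth.Agent.H6

variable {A : Type u} [CommRing A]

/-- elementwise criterion for a quasi-isomorphism in a given degree. -/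
lemma quasiIsoAt_of_elt {K K' : CochainComplex (ModuleCat.{u} A) ℤ} (φ : K ⟶ K') (p q r : ℤ)
    (hpq : p + 1 = q) (hqr : q + 1 = r)
    (hinj : ∀ z : K.X q, K.d q r z = 0 → (∃ w' : K'.X p, K'.d p q w' = φ.f q z) →
      ∃ w : K.X p, K.d p q w = z)
    (hsurj : ∀ z' : K'.X q, K'.d q r z' = 0 →
      ∃ z : K.X q, K.d q r z = 0 ∧ ∃ w' : K'.X p, z' = φ.f q z + K'.d p q w') :
    QuasiIsoAt φ q := by
  have hp : (ComplexShape.up ℤ).prev q = p := by simp; omega
  have hr : (ComplexShape.up ℤ).next q = r := by simp; omega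
  rw [quasiIsoAt_iff_isIso_homologyMap, ConcreteCategory.isIso_iff_bijective]
  constructor
  · rw [injective_iff_map_eq_zero]
    intro x hx
    obtain ⟨z, hz, rfl⟩ := HE.classOf_surjective K q r hr x
    rw [HE.homologyMap_classOf, HE.classOf_eq_zero_iff K' p q r hp hr] at hx
    rw [HE.classOf_eq_zero_iff K p q r hp hr]
    exact hinj z hz hx
  · intro y
    obtain ⟨z', hz', rfl⟩ := HE.classOf_surjective K' q r hr y
    obtain ⟨z, hz, w', hw'⟩ := hsurj z' hz'
    refine ⟨HE.classOf K q r hr z hz, ?_⟩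
    rw [HE.homologyMap_classOf]
    subst hw'
    have hz2 : K'.d q r (φ.f q z) = 0 := by
      rw [← ModuleCat.comp_apply, φ.comm, ModuleCat.comp_apply, hz, map_zero]
    have hz3 : K'.d q r (K'.d p q w') = 0 := dd K' p q r w'
    rw [HE.classOf_add K' q r hr _ _ hz2 hz3]
    have : HE.classOf K' q r hr (K'.d p q w') hz3 = 0 := by
      rw [HE.classOf_eq_zero_iff K' p q r hp hr]
      exact ⟨w', rfl⟩
    rw [this, add_zero]

/-- the inclusion `Γ_I T ⟶ T`. -/
noncomputable def gamIncl (I : Ideal A) (T : CochainComplex (ModuleCat.{u} A) ℤ) : GamL I T ⟶ T :=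
  (NatTrans.mapHomologicalComplex (gammaIι I) (ComplexShape.up ℤ)).app T ≫
    (Functor.mapHomologicalComplexIdIso (ModuleCat.{u} A) (ComplexShape.up ℤ)).hom.app T

lemma gamIncl_f_apply (I : Ideal A) (T : CochainComplex (ModuleCat.{u} A) ℤ) (n : ℤ)
    (x : (GamL I T).X n) : (gamIncl I T).f n x = x.1 := rfl

lemma GamL_d_apply (I : Ideal A) (T : CochainComplex (ModuleCat.{u} A) ℤ) (p q : ℤ)
    (x : (GamL I T).X p) : ((GamL I T).d p q x).1 = T.d p q x.1 := rfl

/-- `Γ_I T ⟶ T` is a quasi-isomorphism when `T` is a complex of injectives with `I`-power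
torsion cohomology. -/
theorem quasiIso_gamIncl [IsNoetherianRing A] (I : Ideal A)
    (T : CochainComplex (ModuleCat.{u} A) ℤ) (hT : ∀ n, Module.Injective A (T.X n))
    (htors : ∀ f ∈ I, ∀ o p r : ℤ, o + 1 = p → p + 1 = r → HtorsElt T f o p r) :
    QuasiIso (gamIncl I T) := by
  obtain ⟨s, rfl⟩ := (IsNoetherian.noetherian I : I.FG)
  have hs : ∀ f ∈ s, f ∈ Ideal.span (s : Set A) := fun f hf => Ideal.subset_span hf
  rw [quasiIso_iff]
  intro q
  have hinj := hinj_finset T hT s q (fun f hf o p r h1 h2 _ _ => htors f (hs f hf) o p r h1 h2)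
    (q - 1) (by omega)
  have hsurj := hsurj_finset T hT s q (fun f hf o p r h1 h2 _ _ => htors f (hs f hf) o p r h1 h2)
    (q - 1) (q + 1) (by omega) rfl
  refine quasiIsoAt_of_elt _ (q - 1) q (q + 1) (by omega) rfl ?_ ?_
  · rintro ⟨z, hz⟩ _ ⟨w', hw'⟩
    obtain ⟨w, hw, hwz⟩ := hinj z hz ⟨w', hw'⟩
    exact ⟨⟨w, hw⟩, Subtype.ext hwz⟩
  · intro z' hz'
    obtain ⟨w, hw⟩ := hsurj z' hz'
    refine ⟨⟨z' - T.d (q - 1) q w, hw⟩, Subtype.ext ?_, w, ?_⟩
    · change T.d q (q + 1) (z' - T.d (q - 1) q w) = 0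
      rw [map_sub, hz', dd, sub_zero]
    · change z' = (z' - T.d (q - 1) q w) + T.d (q - 1) q w
      abel

lemma gammaIτ_app (I : Ideal A) (T : CochainComplex (ModuleCat.{u} A) ℤ) :
    (gammaIτ I).app ((HomotopyCategory.quotient _ _).obj T) =
      Qh.map (((gammaI I).mapHomotopyCategoryFactors (ComplexShape.up ℤ)).hom.app T) ≫
        Qh.map ((HomotopyCategory.quotient _ _).map (gamIncl I T)) := by
  have h1 : (gammaIτ I).app ((HomotopyCategory.quotient _ _).obj T) = (gammaIτ0 I).app T :=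
    Quotient.natTransLift_app _ _ _ _ _
  rw [h1]
  dsimp only [gammaIτ0, gamIncl]
  simp only [NatTrans.comp_app, Functor.associator_inv_app, Functor.associator_hom_app,
    Functor.whiskerRight_app, Functor.leftUnitor_hom_app, Functor.comp_map, id_comp,
    Functor.map_comp]
  erw [comp_id]

/-- the defining property of `ε : RΓ_I ⟶ 𝟭`. -/
lemma unit_comp_eps (I : Ideal A) [DRing.HasRgammaI I] (T : CochainComplex (ModuleCat.{u} A) ℤ) :
    ((gammaIKh I).totalRightDerivedUnit DerivedCategory.Qh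
      (HomotopyCategory.quasiIso (ModuleCat.{u} A) (ComplexShape.up ℤ))).app
        ((HomotopyCategory.quotient _ _).obj T) ≫
      (DRing.RgammaIε I).app (Qh.obj ((HomotopyCategory.quotient _ _).obj T)) =
    Qh.map (((gammaI I).mapHomotopyCategoryFactors (ComplexShape.up ℤ)).hom.app T) ≫
        Qh.map ((HomotopyCategory.quotient _ _).map (gamIncl I T)) := by
  rw [← gammaIτ_app]
  have h := Functor.rightDerived_fac_app (DRing.RgammaI I)
    ((gammaIKh I).totalRightDerivedUnit DerivedCategory.Qh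
      (HomotopyCategory.quasiIso (ModuleCat.{u} A) (ComplexShape.up ℤ)))
    (HomotopyCategory.quasiIso (ModuleCat.{u} A) (ComplexShape.up ℤ)) (𝟭 (Dual.D A))
    (gammaIτ I ≫ (Functor.rightUnitor _).inv) ((HomotopyCategory.quotient _ _).obj T)
  rw [NatTrans.comp_app, Functor.rightUnitor_inv_app, comp_id] at h
  exact h

/-- torsion cohomology, elementwise. -/
lemma htorsElt_of_isPowerTorsion (I : Ideal A) (K : Dual.D A)
    (L : CochainComplex (ModuleCat.{u} A) ℤ) (e : K ≅ Q.obj L)
    (hK : ∀ i : ℤ, LocCoh.IsPowerTorsion I (Dual.HD A K i)) (f : A) (hf : f ∈ I) (o p r : ℤ)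
    (hop : o + 1 = p) (hpr : p + 1 = r) : HtorsElt L f o p r := by
  intro z hz
  have hp : (ComplexShape.up ℤ).prev p = o := by simp; omega
  have hr : (ComplexShape.up ℤ).next p = r := by simp; omega
  let ε : Dual.HD A K p ≃ₗ[A] L.homology p :=
    ((homologyFunctor (ModuleCat.{u} A) p).mapIso e ≪≫
      (homologyFunctorFactors (ModuleCat.{u} A) p).app L).toLinearEquiv
  obtain ⟨n, hn⟩ := hK p (ε.symm (HE.classOf L p r hr z hz))
  have h1 : f ^ n • HE.classOf L p r hr z hz = 0 := by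
    have h2 := hn (f ^ n) (Ideal.pow_mem_pow hf n)
    rw [← map_smul] at h2
    exact ε.symm.injective (h2.trans (map_zero _).symm)
  rw [← HE.classOf_smul, HE.classOf_eq_zero_iff L o p r hp hr] at h1
  obtain ⟨w, hw⟩ := h1
  exact ⟨n, w, hw⟩

/-- **S1813** -/
theorem S1813 [IsNoetherianRing A] (I : Ideal A) [DRing.HasRgammaI I] (K : Dual.D A)
    (hK : ∀ i : ℤ, LocCoh.IsPowerTorsion I (Dual.HD A K i)) :
    IsIso ((DRing.RgammaIε I).app K) := by
  obtain ⟨L, hL, hLinj, ⟨e⟩⟩ := exists_kinj_inj_iso K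
  haveI := hL
  have hLinj' : ∀ n, Module.Injective A (L.X n) := fun n =>
    haveI := hLinj n
    moduleInjective_of_injective _
  haveI hqis : QuasiIso (gamIncl I L) := quasiIso_gamIncl I L hLinj'
    (fun f hf o p r h1 h2 => htorsElt_of_isPowerTorsion I K L e hK f hf o p r h1 h2)
  set X := Qh.obj ((HomotopyCategory.quotient (ModuleCat.{u} A) (ComplexShape.up ℤ)).obj L)
    with hX
  let e' : K ≅ X := e ≪≫ ((quotientCompQhIso (ModuleCat.{u} A)).app L).symm
  -- `ε` at `X`
  haveI h1 := isIso_unit_of_injective I L hLinj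
  haveI h2 : IsIso (Qh.map ((HomotopyCategory.quotient (ModuleCat.{u} A)
      (ComplexShape.up ℤ)).map (gamIncl I L))) := by
    have h := (NatIso.isIso_map_iff (quotientCompQhIso (ModuleCat.{u} A)) (gamIncl I L)).2 (by
      rw [isIso_Q_map_iff_quasiIso]
      exact hqis)
    exact h
  have h3 := unit_comp_eps I L
  haveI h4 : IsIso (((gammaIKh I).totalRightDerivedUnit DerivedCategory.Qh
      (HomotopyCategory.quasiIso (ModuleCat.{u} A) (ComplexShape.up ℤ))).app
        ((HomotopyCategory.quotient _ _).obj L) ≫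
      (DRing.RgammaIε I).app X) := by
    rw [h3]
    infer_instance
  haveI h5 : IsIso ((DRing.RgammaIε I).app X) := IsIso.of_isIso_comp_left
    (((gammaIKh I).totalRightDerivedUnit DerivedCategory.Qh
      (HomotopyCategory.quasiIso (ModuleCat.{u} A) (ComplexShape.up ℤ))).app
        ((HomotopyCategory.quotient _ _).obj L)) _
  have h6 : (DRing.RgammaIε I).app K =
      (DRing.RgammaI I).map e'.hom ≫ (DRing.RgammaIε I).app X ≫ e'.inv := by
    have := (DRing.RgammaIε I).naturality e'.hom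
    dsimp only [Functor.id_obj, Functor.id_map] at this
    rw [← assoc, this, assoc, Iso.hom_inv_id, comp_id]
  rw [h6]
  infer_instance

end Groth.Agent.H4.RG10
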