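import Mathlib
import Groth.Prelude.Def_DualLC
import Groth.Agent.H4.RG10

set_option autoImplicit false
universe u
open CategoryTheory Category Limits Pretriangulated Opposite ZeroObject

namespace Groth.Agent.H4.RG11

attribute [local instance] HasDerivedCategory.standard

open DerivedCategory DRing Groth.Agent.H4.RG1 Groth.Agent.H4.RG2 Groth.Agent.H4.RG5
  Groth.Agent.H4.RG6 Groth.Agent.H4.RG7 Groth.Agent.H4.RG8 Groth.Agent.H4.RG10 Groth.Agent.H6

variable {A : Type u} [CommRing A]

/-- the cohomology of `Γ_I T` is `I`-power torsion. -/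
lemma isPowerTorsion_homology_GamL (I : Ideal A) (T : CochainComplex (ModuleCat.{u} A) ℤ)
    (q : ℤ) : LocCoh.IsPowerTorsion I ((GamL I T).homology q) := by
  intro x
  have hr : (ComplexShape.up ℤ).next q = q + 1 := by simp
  have hp : (ComplexShape.up ℤ).prev q = q - 1 := by simp
  obtain ⟨z, hz, rfl⟩ := HE.classOf_surjective (GamL I T) q (q + 1) hr x
  obtain ⟨n, hn⟩ := z.2
  refine ⟨n, fun a ha => ?_⟩
  rw [← HE.classOf_smul, HE.classOf_eq_zero_iff (GamL I T) (q - 1) q (q + 1) hp hr]
  refine ⟨0, ?_⟩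
  rw [map_zero]
  exact (Subtype.ext (hn a ha)).symm

/-- `RΓ_I K` has `I`-power torsion cohomology. -/
theorem isPowerTorsion_HD_Rgamma [IsNoetherianRing A] (I : Ideal A) [DRing.HasRgammaI I]
    (K : Dual.D A) (i : ℤ) :
    LocCoh.IsPowerTorsion I (Dual.HD A ((DRing.RgammaI I).obj K) i) := by
  obtain ⟨L, hL, hLinj, ⟨e⟩⟩ := exists_kinj_inj_iso K
  haveI := hL
  let e1 : (DRing.RgammaI I).obj K ≅ Q.obj (GamL I L) :=
    (DRing.RgammaI I).mapIso e ≪≫ rgammaIsoOfInj I L hLinj
  let ε : Dual.HD A ((DRing.RgammaI I).obj K) i ≃ₗ[A] (GamL I L).homology i :=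
    ((homologyFunctor (ModuleCat.{u} A) i).mapIso e1 ≪≫
      (homologyFunctorFactors (ModuleCat.{u} A) i).app (GamL I L)).toLinearEquiv
  intro x
  obtain ⟨n, hn⟩ := isPowerTorsion_homology_GamL I L i (ε x)
  refine ⟨n, fun a ha => ?_⟩
  apply ε.injective
  rw [map_smul, hn a ha, map_zero]

/-- `Γ_I(Γ_I T ⟶ T)` is an isomorphism. -/
lemma isIso_map_gamIncl (I : Ideal A) (T : CochainComplex (ModuleCat.{u} A) ℤ) :
    IsIso (((gammaI I).mapHomologicalComplex (ComplexShape.up ℤ)).map (gamIncl I T)) := by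
  haveI : ∀ n, IsIso ((((gammaI I).mapHomologicalComplex (ComplexShape.up ℤ)).map
      (gamIncl I T)).f n) := by
    intro n
    rw [ConcreteCategory.isIso_iff_bijective]
    constructor
    · intro x y hxy
      have h1 : x.1 = y.1 := hxy
      exact Subtype.ext h1
    · intro y
      obtain ⟨m, hm⟩ := y.2
      exact ⟨⟨y, m, fun a ha => Subtype.ext (hm a ha)⟩, rfl⟩
  exact HomologicalComplex.Hom.isIso_of_components _

/-- `RΓ_I(ε)` is an isomorphism. -/
theorem isIso_map_eps [IsNoetherianRing A] (I : Ideal A) [DRing.HasRgammaI I] (Y : Dual.D A) :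
    IsIso ((DRing.RgammaI I).map ((DRing.RgammaIε I).app Y)) := by
  obtain ⟨L, hL, hLinj, ⟨e⟩⟩ := exists_kinj_inj_iso Y
  haveI := hL
  set X := Qh.obj ((HomotopyCategory.quotient (ModuleCat.{u} A) (ComplexShape.up ℤ)).obj L)
    with hX
  let e' : Y ≅ X := e ≪≫ ((quotientCompQhIso (ModuleCat.{u} A)).app L).symm
  set η := (gammaIKh I).totalRightDerivedUnit DerivedCategory.Qh
      (HomotopyCategory.quasiIso (ModuleCat.{u} A) (ComplexShape.up ℤ)) with hη
  haveI h1 : IsIso (η.app ((HomotopyCategory.quotient _ _).obj L)) :=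
    isIso_unit_of_injective I L hLinj
  haveI h1' : IsIso (η.app ((HomotopyCategory.quotient _ _).obj (GamL I L))) :=
    isIso_unit_of_injective I (GamL I L) (injective_GamL I L hLinj)
  -- `RΓ_I [i_L]` is an isomorphism
  haveI h2 : IsIso ((gammaIKh I).map
      ((HomotopyCategory.quotient (ModuleCat.{u} A) (ComplexShape.up ℤ)).map (gamIncl I L))) := by
    have h := (NatIso.isIso_map_iff (gammaIKhFac I) (gamIncl I L)).2 (by
      dsimp only [Functor.comp_map]
      haveI := isIso_map_gamIncl I L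
      infer_instance)
    exact h
  have hnat := η.naturality
    ((HomotopyCategory.quotient (ModuleCat.{u} A) (ComplexShape.up ℤ)).map (gamIncl I L))
  haveI h3 : IsIso ((DRing.RgammaI I).map (Qh.map
      ((HomotopyCategory.quotient (ModuleCat.{u} A) (ComplexShape.up ℤ)).map (gamIncl I L)))) := by
    have h4 : (DRing.RgammaI I).map (Qh.map
      ((HomotopyCategory.quotient (ModuleCat.{u} A) (ComplexShape.up ℤ)).map (gamIncl I L))) =
        inv (η.app ((HomotopyCategory.quotient _ _).obj (GamL I L))) ≫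
        (gammaIKh I).map
          ((HomotopyCategory.quotient (ModuleCat.{u} A) (ComplexShape.up ℤ)).map (gamIncl I L)) ≫
        η.app ((HomotopyCategory.quotient _ _).obj L) := by
      rw [hnat, IsIso.inv_hom_id_assoc]
      rfl
    rw [h4]
    infer_instance
  -- `ε` at `X`
  have h5 : (DRing.RgammaIε I).app X =
      inv (η.app ((HomotopyCategory.quotient _ _).obj L)) ≫
      Qh.map (((gammaI I).mapHomotopyCategoryFactors (ComplexShape.up ℤ)).hom.app L) ≫
        Qh.map ((HomotopyCategory.quotient _ _).map (gamIncl I L)) := by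
    rw [← unit_comp_eps I L, IsIso.inv_hom_id_assoc]
  haveI h6 : IsIso ((DRing.RgammaI I).map ((DRing.RgammaIε I).app X)) := by
    rw [h5, Functor.map_comp, Functor.map_comp]
    infer_instance
  have h7 : (DRing.RgammaIε I).app Y =
      (DRing.RgammaI I).map e'.hom ≫ (DRing.RgammaIε I).app X ≫ e'.inv := by
    have := (DRing.RgammaIε I).naturality e'.hom
    dsimp only [Functor.id_obj, Functor.id_map] at this
    rw [← assoc, this, assoc, Iso.hom_inv_id, comp_id]
  rw [h7, Functor.map_comp, Functor.map_comp]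
  infer_instance

/-- **S1817** -/
theorem S1817 [IsNoetherianRing A] (I : Ideal A) [DRing.HasRgammaI I] :
    ∃ h : ∀ K : Dual.D A, (fun L : Dual.D A => ∀ i : ℤ, LocCoh.IsPowerTorsion I (Dual.HD A L i))
        ((DRing.RgammaI I).obj K),
      Nonempty (ObjectProperty.ι (fun L : Dual.D A =>
          ∀ i : ℤ, LocCoh.IsPowerTorsion I (Dual.HD A L i)) ⊣
        ObjectProperty.lift (fun L : Dual.D A => ∀ i : ℤ, LocCoh.IsPowerTorsion I (Dual.HD A L i))
          (DRing.RgammaI I) h) := by
  refine ⟨fun K i => isPowerTorsion_HD_Rgamma I K i, ⟨?_⟩⟩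
  set P : ObjectProperty (Dual.D A) :=
    (fun L : Dual.D A => ∀ i : ℤ, LocCoh.IsPowerTorsion I (Dual.HD A L i)) with hP
  have hεX : ∀ X : P.FullSubcategory, IsIso ((DRing.RgammaIε I).app X.obj) :=
    fun X => Groth.Agent.H4.RG10.S1813 I X.obj X.property
  have hRε : ∀ Y : Dual.D A, IsIso ((DRing.RgammaI I).map ((DRing.RgammaIε I).app Y)) :=
    fun Y => isIso_map_eps I Y
  have hεR : ∀ Y : Dual.D A, IsIso ((DRing.RgammaIε I).app ((DRing.RgammaI I).obj Y)) :=
    fun Y => Groth.Agent.H4.RG10.S1813 I _ (fun i => isPowerTorsion_HD_Rgamma I Y i)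
  have hnat : ∀ {X Y : Dual.D A} (φ : X ⟶ Y),
      (DRing.RgammaI I).map φ ≫ (DRing.RgammaIε I).app Y = (DRing.RgammaIε I).app X ≫ φ :=
    fun φ => (DRing.RgammaIε I).naturality φ
  -- injectivity of `ψ ↦ ψ ≫ ε`
  have hinj : ∀ (X : P.FullSubcategory) (Y : Dual.D A) (ψ₁ ψ₂ : X.obj ⟶ (DRing.RgammaI I).obj Y),
      ψ₁ ≫ (DRing.RgammaIε I).app Y = ψ₂ ≫ (DRing.RgammaIε I).app Y → ψ₁ = ψ₂ := by
    intro X Y ψ₁ ψ₂ h
    haveI := hεX X
    haveI := hRε Y
    haveI := hεR Y
    have h1 : (DRing.RgammaI I).map ψ₁ = (DRing.RgammaI I).map ψ₂ := by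
      rw [← cancel_mono ((DRing.RgammaI I).map ((DRing.RgammaIε I).app Y)), ← Functor.map_comp,
        ← Functor.map_comp, h]
    have h2 := hnat ψ₁
    have h3 := hnat ψ₂
    rw [h1] at h2
    rw [← cancel_epi ((DRing.RgammaIε I).app X.obj), ← h2, ← h3]
  exact Adjunction.mkOfHomEquiv
    { homEquiv := fun X Y =>
        { toFun := fun φ =>
            haveI := hεX X
            ObjectProperty.homMk (inv ((DRing.RgammaIε I).app X.obj) ≫ (DRing.RgammaI I).map φ)
          invFun := fun ψ => ψ.hom ≫ (DRing.RgammaIε I).app Y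
          left_inv := fun φ => by
            haveI := hεX X
            change (inv ((DRing.RgammaIε I).app X.obj) ≫ (DRing.RgammaI I).map φ) ≫
              (DRing.RgammaIε I).app Y = φ
            rw [assoc, hnat, IsIso.inv_hom_id_assoc]
          right_inv := fun ψ => by
            haveI := hεX X
            apply ObjectProperty.hom_ext
            apply hinj X Y
            change (inv ((DRing.RgammaIε I).app X.obj) ≫
              (DRing.RgammaI I).map (ψ.hom ≫ (DRing.RgammaIε I).app Y)) ≫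
              (DRing.RgammaIε I).app Y = ψ.hom ≫ (DRing.RgammaIε I).app Y
            rw [assoc, IsIso.inv_comp_eq]
            exact hnat (ψ.hom ≫ (DRing.RgammaIε I).app Y) }
      homEquiv_naturality_left_symm := fun f g => by
        change (f ≫ g).hom ≫ _ = f.hom ≫ g.hom ≫ _
        rw [ObjectProperty.FullSubcategory.comp_hom, assoc]
      homEquiv_naturality_right := fun f g => by
        apply ObjectProperty.hom_ext
        change _ ≫ (DRing.RgammaI I).map (f ≫ g) = (_ ≫ (DRing.RgammaI I).map f) ≫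
          (DRing.RgammaI I).map g
        rw [Functor.map_comp, assoc] }

end Groth.Agent.H4.RG11
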