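import Mathlib
import Groth.Prelude.Def_DualLC
import Groth.Agent.H4.RG11

set_option autoImplicit false
universe u
open CategoryTheory Category Limits Pretriangulated Opposite ZeroObject

namespace Groth.Agent.H4.GM1

attribute [local instance] HasDerivedCategory.standard

open DerivedCategory DRing Groth.Agent.H4.RG1 Groth.Agent.H4.RG2 Groth.Agent.H4.RG5
  Groth.Agent.H4.RG6 Groth.Agent.H4.RG7 Groth.Agent.H4.RG8

variable {A : Type u} [CommRing A] (I : Ideal A)

lemma exists_Q_map_eq (L₁ L₂ : CochainComplex (ModuleCat.{u} A) ℤ) [L₂.IsKInjective]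
    (ψ : Q.obj L₁ ⟶ Q.obj L₂) : ∃ φ : L₁ ⟶ L₂, Q.map φ = ψ := by
  obtain ⟨g, hg⟩ := (CochainComplex.IsKInjective.Qh_map_bijective
    ((HomotopyCategory.quotient _ _).obj L₁) L₂).surjective
      ((quotientCompQhIso (ModuleCat.{u} A)).hom.app L₁ ≫ ψ ≫
        (quotientCompQhIso (ModuleCat.{u} A)).inv.app L₂)
  obtain ⟨φ, rfl⟩ := (HomotopyCategory.quotient _ _).map_surjective g
  refine ⟨φ, ?_⟩
  have hnat := (quotientCompQhIso (ModuleCat.{u} A)).hom.naturality φ
  dsimp only [Functor.comp_map] at hnat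
  rw [← cancel_epi ((quotientCompQhIso (ModuleCat.{u} A)).hom.app L₁), ← hnat, hg]
  simp

/-- `RΓ_I(Q φ)` is an isomorphism iff `Γ_I φ` is a quasi-isomorphism (complexes of injectives). -/
lemma isIso_map_Q_iff [IsNoetherianRing A] [DRing.HasRgammaI I]
    {L₁ L₂ : CochainComplex (ModuleCat.{u} A) ℤ} (h₁ : ∀ n, Injective (L₁.X n))
    (h₂ : ∀ n, Injective (L₂.X n)) (φ : L₁ ⟶ L₂) :
    IsIso ((DRing.RgammaI I).map (Q.map φ)) ↔
      QuasiIso (((gammaI I).mapHomologicalComplex (ComplexShape.up ℤ)).map φ) := by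
  set η := (gammaIKh I).totalRightDerivedUnit DerivedCategory.Qh
      (HomotopyCategory.quasiIso (ModuleCat.{u} A) (ComplexShape.up ℤ)) with hη
  haveI i1 : IsIso (η.app ((HomotopyCategory.quotient _ _).obj L₁)) :=
    isIso_unit_of_injective I L₁ h₁
  haveI i2 : IsIso (η.app ((HomotopyCategory.quotient _ _).obj L₂)) :=
    isIso_unit_of_injective I L₂ h₂
  have hnat := η.naturality
    ((HomotopyCategory.quotient (ModuleCat.{u} A) (ComplexShape.up ℤ)).map φ)
  rw [← isIso_Q_map_iff_quasiIso]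
  have e1 : IsIso ((DRing.RgammaI I).map (Q.map φ)) ↔
      IsIso ((DRing.RgammaI I).map (Qh.map
        ((HomotopyCategory.quotient (ModuleCat.{u} A) (ComplexShape.up ℤ)).map φ))) := by
    have := NatIso.isIso_map_iff
      (Functor.isoWhiskerRight (quotientCompQhIso (ModuleCat.{u} A)) (DRing.RgammaI I)) φ
    exact this.symm
  have e2 : IsIso (Q.map (((gammaI I).mapHomologicalComplex (ComplexShape.up ℤ)).map φ)) ↔
      IsIso ((gammaIKh I).map
        ((HomotopyCategory.quotient (ModuleCat.{u} A) (ComplexShape.up ℤ)).map φ)) :=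
    (NatIso.isIso_map_iff (gammaIKhFac I) φ).symm
  rw [e1, e2]
  constructor
  · intro h
    have h4 : (gammaIKh I).map
        ((HomotopyCategory.quotient (ModuleCat.{u} A) (ComplexShape.up ℤ)).map φ) =
        η.app ((HomotopyCategory.quotient _ _).obj L₁) ≫
        (DRing.RgammaI I).map (Qh.map
          ((HomotopyCategory.quotient (ModuleCat.{u} A) (ComplexShape.up ℤ)).map φ)) ≫
        inv (η.app ((HomotopyCategory.quotient _ _).obj L₂)) := by
      rw [← assoc, IsIso.eq_comp_inv]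
      exact hnat
    rw [h4]
    infer_instance
  · intro h
    have h4 : (DRing.RgammaI I).map (Qh.map
      ((HomotopyCategory.quotient (ModuleCat.{u} A) (ComplexShape.up ℤ)).map φ)) =
        inv (η.app ((HomotopyCategory.quotient _ _).obj L₁)) ≫
        (gammaIKh I).map
          ((HomotopyCategory.quotient (ModuleCat.{u} A) (ComplexShape.up ℤ)).map φ) ≫
        η.app ((HomotopyCategory.quotient _ _).obj L₂) := by
      rw [hnat, IsIso.inv_hom_id_assoc]
      rfl
    rw [h4]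
    infer_instance


lemma acyclic_iff_isZero_Q (X : CochainComplex (ModuleCat.{u} A) ℤ) :
    X.Acyclic ↔ IsZero (Q.obj X) := by
  rw [← Groth.Agent.H4.TC7.acyc_iff_isZero_Q, Groth.Agent.H4.TC4.acyc_iff_exactAt]
  rfl

/-- **Lemma A**: `RΓ_I` is "weakly triangulated". -/
theorem isIso_map_mor₁_iff [IsNoetherianRing A] [DRing.HasRgammaI I] (T : Triangle (Dual.D A))
    (hT : T ∈ distTriang (Dual.D A)) :
    IsIso ((DRing.RgammaI I).map T.mor₁) ↔ IsZero ((DRing.RgammaI I).obj T.obj₃) := by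
  obtain ⟨L₁, hL₁, h₁, ⟨e₁⟩⟩ := exists_kinj_inj_iso T.obj₁
  obtain ⟨L₂, hL₂, h₂, ⟨e₂⟩⟩ := exists_kinj_inj_iso T.obj₂
  haveI := hL₂
  obtain ⟨φ, hφ⟩ := exists_Q_map_eq L₁ L₂ (e₁.inv ≫ T.mor₁ ≫ e₂.hom)
  have hT' := mappingCone_triangle_distinguished φ
  have hcomm : T.mor₁ ≫ e₂.hom = e₁.hom ≫ Q.map φ := by
    rw [hφ, Iso.hom_inv_id_assoc]
  let eT : T ≅ Q.mapTriangle.obj (CochainComplex.mappingCone.triangle φ) :=
    isoTriangleOfIso₁₂ _ _ hT hT' e₁ e₂ hcomm
  let e₃ : T.obj₃ ≅ Q.obj (CochainComplex.mappingCone φ) := Triangle.π₃.mapIso eT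
  have hcone : ∀ n, Injective ((CochainComplex.mappingCone φ).X n) :=
    injective_mappingCone φ h₁ h₂
  have s1 : IsIso ((DRing.RgammaI I).map T.mor₁) ↔ IsIso ((DRing.RgammaI I).map (Q.map φ)) := by
    have hm : T.mor₁ = e₁.hom ≫ Q.map φ ≫ e₂.inv := by
      rw [← assoc, ← hcomm, assoc, Iso.hom_inv_id, comp_id]
    have hm' : Q.map φ = e₁.inv ≫ T.mor₁ ≫ e₂.hom := hφ
    constructor
    · intro h
      rw [hm', Functor.map_comp, Functor.map_comp]
      infer_instance
    · intro h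
      rw [hm, Functor.map_comp, Functor.map_comp]
      infer_instance
  rw [s1, isIso_map_Q_iff I h₁ h₂ φ, ← acyclic_mappingCone_iff]
  have s2 : (CochainComplex.mappingCone
      (((gammaI I).mapHomologicalComplex (ComplexShape.up ℤ)).map φ)).Acyclic ↔
      (GamL I (CochainComplex.mappingCone φ)).Acyclic := by
    have e := CochainComplex.mappingCone.mapHomologicalComplexIso φ (gammaI I)
    rw [acyclic_iff_isZero_Q, acyclic_iff_isZero_Q]
    exact ⟨fun h => h.of_iso (Q.mapIso e), fun h => h.of_iso (Q.mapIso e.symm)⟩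
  rw [s2, acyclic_iff_isZero_Q]
  have e5 : (DRing.RgammaI I).obj T.obj₃ ≅ Q.obj (GamL I (CochainComplex.mappingCone φ)) :=
    (DRing.RgammaI I).mapIso e₃ ≪≫ rgammaIsoOfInj I _ hcone
  exact ⟨fun h => h.of_iso e5, fun h => h.of_iso e5.symm⟩

end Groth.Agent.H4.GM1
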