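import Mathlib
import Groth.Prelude.Def_DualLC
import Groth.Agent.H4.GM1
import Groth.Agent.H4.DCompl6

set_option autoImplicit false
universe u
open CategoryTheory Category Limits Pretriangulated Opposite ZeroObject

namespace Groth.Agent.H4.GM2

attribute [local instance] HasDerivedCategory.standard

open DerivedCategory DRing Groth.Agent.H4.RG1 Groth.Agent.H4.RG2 Groth.Agent.H4.RG5
  Groth.Agent.H4.RG6 Groth.Agent.H4.RG7 Groth.Agent.H4.RG8 Groth.Agent.H4.RG10 Groth.Agent.H4.GM1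
  Groth.Agent.H4.DCompl2

variable {A : Type u} [CommRing A]

lemma mem_torsionSub_span_singleton (f : A) {M : Type u} [AddCommGroup M] [Module A M] (x : M) :
    x ∈ torsionSub (Ideal.span {f}) M ↔ ∃ n : ℕ, f ^ n • x = 0 := by
  constructor
  · rintro ⟨n, hn⟩
    exact ⟨n, hn _ (Ideal.pow_mem_pow (Ideal.mem_span_singleton_self f) n)⟩
  · rintro ⟨n, hn⟩
    refine ⟨n, fun a ha => ?_⟩
    rw [Ideal.span_singleton_pow, Ideal.mem_span_singleton'] at ha
    obtain ⟨b, rfl⟩ := ha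
    rw [mul_smul, hn, smul_zero]

lemma smul_mem_torsionSub_iff (f : A) {M : Type u} [AddCommGroup M] [Module A M] (x : M) :
    f • x ∈ torsionSub (Ideal.span {f}) M ↔ x ∈ torsionSub (Ideal.span {f}) M := by
  rw [mem_torsionSub_span_singleton, mem_torsionSub_span_singleton]
  constructor
  · rintro ⟨n, hn⟩
    exact ⟨n + 1, by rw [pow_succ, mul_smul, hn]⟩
  · rintro ⟨n, hn⟩
    exact ⟨n, by rw [smul_comm, hn, smul_zero]⟩

/-- if `Γ_f(L)` is acyclic and `L` is a complex of injectives then `f` is a quasi-isomorphism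
on `L`. -/
theorem quasiIso_smul_of_acyclic [IsNoetherianRing A] (f : A)
    (L : CochainComplex (ModuleCat.{u} A) ℤ) (hL : ∀ n, Module.Injective A (L.X n))
    (hac : (GamL (Ideal.span {f}) L).Acyclic) : QuasiIso (f • 𝟙 L) := by
  have hf : ∀ (q : ℤ) (z : L.X q), (f • 𝟙 L : L ⟶ L).f q z = f • z := fun q z => by simp
  have hex : ∀ (p q r : ℤ), p + 1 = q → q + 1 = r → ∀ u : L.X q,
      u ∈ torsionSub (Ideal.span {f}) (L.X q) → L.d q r u = 0 →
      ∃ w : L.X p, w ∈ torsionSub (Ideal.span {f}) (L.X p) ∧ L.d p q w = u := by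
    intro p q r hpq hqr u hu hdu
    have h := (exactAt_elt (GamL (Ideal.span {f}) L) p q r hpq hqr).1 (hac q) ⟨u, hu⟩
      (Subtype.ext hdu)
    obtain ⟨w, hw⟩ := h
    exact ⟨w.1, w.2, congrArg Subtype.val hw⟩
  refine ⟨fun q => ?_⟩
  refine quasiIsoAt_of_elt (f • 𝟙 L) (q - 1) q (q + 1) (by omega) rfl ?_ ?_
  · intro z hz ⟨w', hw'⟩
    rw [hf] at hw'
    haveI := hL (q - 1)
    obtain ⟨y, m, hy⟩ := exists_div_mod_torsion (L.X (q - 1)) f 1 w'
    rw [pow_one] at hy
    have ht : w' - f • y ∈ torsionSub (Ideal.span {f}) (L.X (q - 1)) :=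
      (mem_torsionSub_span_singleton f _).2 ⟨m, hy⟩
    have hdt : L.d (q - 1) q (w' - f • y) = f • (z - L.d (q - 1) q y) := by
      rw [map_sub, map_smul, hw', smul_sub]
    have hu : z - L.d (q - 1) q y ∈ torsionSub (Ideal.span {f}) (L.X q) := by
      rw [← smul_mem_torsionSub_iff, ← hdt]
      exact map_mem_torsionSub _ (L.d (q - 1) q).hom ht
    have hdu : L.d q (q + 1) (z - L.d (q - 1) q y) = 0 := by
      rw [map_sub, hz, dd, sub_zero]
    obtain ⟨w₀, -, hw₀⟩ := hex (q - 1) q (q + 1) (by omega) rfl _ hu hdu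
    exact ⟨y + w₀, by rw [map_add, hw₀]; abel⟩
  · intro z' hz'
    haveI := hL q
    obtain ⟨y, m, hy⟩ := exists_div_mod_torsion (L.X q) f 1 z'
    rw [pow_one] at hy
    have ht : z' - f • y ∈ torsionSub (Ideal.span {f}) (L.X q) :=
      (mem_torsionSub_span_singleton f _).2 ⟨m, hy⟩
    have hdt : L.d q (q + 1) (z' - f • y) = - (f • L.d q (q + 1) y) := by
      rw [map_sub, map_smul, hz', zero_sub]
    have hdy : L.d q (q + 1) y ∈ torsionSub (Ideal.span {f}) (L.X (q + 1)) := by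
      rw [← smul_mem_torsionSub_iff, ← neg_neg (f • _), ← hdt]
      exact Submodule.neg_mem _ (map_mem_torsionSub _ (L.d q (q + 1)).hom ht)
    obtain ⟨t₁, ht₁, hdt₁⟩ := hex q (q + 1) (q + 1 + 1) rfl rfl _ hdy (dd L _ _ _ y)
    have hv : (z' - f • y) + f • t₁ ∈ torsionSub (Ideal.span {f}) (L.X q) :=
      Submodule.add_mem _ ht (Submodule.smul_mem _ _ ht₁)
    have hdv : L.d q (q + 1) ((z' - f • y) + f • t₁) = 0 := by
      rw [map_add, hdt, map_smul, hdt₁]
      abel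
    obtain ⟨t₂, -, hdt₂⟩ := hex (q - 1) q (q + 1) (by omega) rfl _ hv hdv
    refine ⟨y - t₁, by rw [map_sub, hdt₁, sub_self], t₂, ?_⟩
    rw [hf, hdt₂, smul_sub]
    abel

end Groth.Agent.H4.GM2
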