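import Mathlib
import Groth.Agent.H4.KI2
import Groth.Agent.H4.KProj6
import Groth.Prelude.Def_DDual2

set_option autoImplicit false

/-!
# Right derived functors on `D(R)` are absolute; a right adjoint of `restrictD`
-/

namespace Groth.Agent.H4.RAdj

open CategoryTheory Category Limits DerivedCategory

universe w v v' v'' u u' u''

section Term

variable {J : Type u} [Category.{v} J] {C : Type u'} [Category.{v'} C]
  {D : Type u''} [Category.{v''} D]

/-- any functor preserves colimits of diagrams whose shape has a terminal object. -/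
lemma preservesColimit_of_isTerminal {X : J} (hX : IsTerminal X) (K : J ⥤ C) (G : C ⥤ D) :
    PreservesColimit K G := by
  apply preservesColimit_of_preserves_colimit_cocone (colimitOfDiagramTerminal hX K)
  exact IsColimit.ofIsoColimit (colimitOfDiagramTerminal hX (K ⋙ G))
    (Cocone.ext (Iso.refl _) (fun j => by simp [coconeOfDiagramTerminal]))

end Term

section General

variable {A : Type u} [Category.{v} A] [Abelian A] [HasDerivedCategory.{w} A]

/-- For a K-injective complex `I` and an isomorphism `Qh I ≅ Y`, this is a terminal object of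
the category of objects of `K(A)` over `Y`. -/
noncomputable def isTerminalMk (I : CochainComplex A ℤ) [I.IsKInjective]
    {Y : DerivedCategory A}
    (e : DerivedCategory.Qh.obj ((HomotopyCategory.quotient A (ComplexShape.up ℤ)).obj I) ≅ Y) :
    IsTerminal (CostructuredArrow.mk e.hom : CostructuredArrow DerivedCategory.Qh Y) := by
  have hbij := fun K => CochainComplex.IsKInjective.Qh_map_bijective (C := A) K I
  have hg : ∀ X : CostructuredArrow DerivedCategory.Qh Y,
      ∃ g : X.left ⟶ (HomotopyCategory.quotient A (ComplexShape.up ℤ)).obj I,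
        DerivedCategory.Qh.map g = X.hom ≫ e.inv := fun X => (hbij X.left).2 _
  choose g hg using hg
  refine IsTerminal.ofUniqueHom
    (fun X => CostructuredArrow.homMk (g X) ?_) ?_
  · dsimp
    rw [hg, assoc, Iso.inv_hom_id, comp_id]
  · intro X m
    apply CostructuredArrow.hom_ext
    change m.left = g X
    apply (hbij X.left).1
    rw [hg]
    have := CostructuredArrow.w m
    dsimp at this
    rw [← this, assoc, Iso.hom_inv_id, comp_id]

variable {H : Type u'} [Category.{v'} H]
  (F : HomotopyCategory A (ComplexShape.up ℤ) ⥤ H)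

lemma hasPointwiseAt_of_isKInjective (I : CochainComplex A ℤ) [I.IsKInjective] :
    F.HasPointwiseRightDerivedFunctorAt (HomotopyCategory.quasiIso A (ComplexShape.up ℤ))
      ((HomotopyCategory.quotient A (ComplexShape.up ℤ)).obj I) := by
  rw [F.hasPointwiseRightDerivedFunctorAt_iff DerivedCategory.Qh
    (HomotopyCategory.quasiIso A (ComplexShape.up ℤ))]
  exact ⟨⟨_, colimitOfDiagramTerminal (isTerminalMk I (Iso.refl _)) _⟩⟩

lemma hasPointwise
    (hK : ∀ K : CochainComplex A ℤ, ∃ (I : CochainComplex A ℤ) (f : K ⟶ I),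
      I.IsKInjective ∧ QuasiIso f) :
    F.HasPointwiseRightDerivedFunctor (HomotopyCategory.quasiIso A (ComplexShape.up ℤ)) := by
  intro K'
  obtain ⟨K, rfl⟩ := HomotopyCategory.quotient_obj_surjective K'
  obtain ⟨I, f, hI, hf⟩ := hK K
  rw [F.hasPointwiseRightDerivedFunctorAt_iff_of_mem
    (HomotopyCategory.quasiIso A (ComplexShape.up ℤ))
    ((HomotopyCategory.quotient A (ComplexShape.up ℤ)).map f)
    ((HomotopyCategory.quotient_map_mem_quasiIso_iff f).2 hf)]
  exact hasPointwiseAt_of_isKInjective F I

end General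

attribute [local instance] HasDerivedCategory.standard

variable {R : Type u} [CommRing R]

lemma exists_isTerminal (Y : DerivedCategory (ModuleCat.{u} R)) :
    ∃ X : CostructuredArrow (DerivedCategory.Qh (C := ModuleCat.{u} R)) Y,
      Nonempty (IsTerminal X) := by
  obtain ⟨I, hI, ⟨e⟩⟩ := Groth.Agent.H4.KI2.exists_kinj_iso Y
  haveI := hI
  exact ⟨_, ⟨isTerminalMk I (((quotientCompQhIso (ModuleCat.{u} R)).app I) ≪≫ e.symm)⟩⟩

variable {H : Type u'} [Category.{v'} H] {H' : Type u''} [Category.{v''} H']
  (F : HomotopyCategory (ModuleCat.{u} R) (ComplexShape.up ℤ) ⥤ H)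

/-- every functor out of `K(R)` has a total right derived functor. -/
theorem hasRightDerivedFunctor :
    F.HasRightDerivedFunctor (HomotopyCategory.quasiIso (ModuleCat.{u} R) (ComplexShape.up ℤ)) := by
  haveI := hasPointwise F (fun K => Groth.Agent.H4.KI2.exists_kinj K)
  infer_instance

/-- Right derived functors on `D(R)` are absolute: they are preserved by any functor. -/
theorem isRightDerivedFunctor_comp (RF : DerivedCategory (ModuleCat.{u} R) ⥤ H)
    (α : F ⟶ DerivedCategory.Qh ⋙ RF)
    [RF.IsRightDerivedFunctor α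
      (HomotopyCategory.quasiIso (ModuleCat.{u} R) (ComplexShape.up ℤ))]
    (G : H ⥤ H') :
    (RF ⋙ G).IsRightDerivedFunctor (Functor.whiskerRight α G ≫ (Functor.associator _ _ _).hom)
      (HomotopyCategory.quasiIso (ModuleCat.{u} R) (ComplexShape.up ℤ)) := by
  haveI := hasPointwise F (fun K => Groth.Agent.H4.KI2.exists_kinj K)
  have hE₀ : (Functor.LeftExtension.mk RF α).IsPointwiseLeftKanExtension :=
    Functor.isPointwiseLeftKanExtensionOfHasPointwiseRightDerivedFunctor RF α
      (HomotopyCategory.quasiIso (ModuleCat.{u} R) (ComplexShape.up ℤ))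
  haveI : G.PreservesPointwiseLeftKanExtension F DerivedCategory.Qh := by
    intro Y
    obtain ⟨X, ⟨hX⟩⟩ := exists_isTerminal Y
    haveI := preservesColimit_of_isTerminal hX (CostructuredArrow.proj DerivedCategory.Qh Y ⋙ F) G
    infer_instance
  have hE₁ := hE₀.postcompose G
  have hE₂ := (Functor.LeftExtension.isPointwiseLeftKanExtensionEquivOfIso
    (Functor.LeftExtension.postcompose₂ObjMkIso G α)) hE₁
  exact ⟨hE₂.isLeftKanExtension⟩

section Adj

variable {B : Type u} [CommRing B] (φ : R →+* B)

attribute [local instance] preservesBinaryBiproducts_of_preservesBinaryProducts in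
/-- Coextension of scalars is additive (it is a right adjoint). -/
instance additive_coextendScalars : (ModuleCat.coextendScalars.{u, u, u} φ).Additive :=
  Functor.additive_of_preservesBinaryBiproducts _

/-- The functor `K(R) ⥤ D(B)` induced termwise by coextension of scalars, followed by
localization. -/
noncomputable abbrev coextKh :
    HomotopyCategory (ModuleCat.{u} R) (ComplexShape.up ℤ) ⥤ Dual.D B :=
  (ModuleCat.coextendScalars.{u, u, u} φ).mapHomotopyCategory (ComplexShape.up ℤ) ⋙
    DerivedCategory.Qh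

instance : (coextKh φ).HasRightDerivedFunctor
    (HomotopyCategory.quasiIso (ModuleCat.{u} R) (ComplexShape.up ℤ)) :=
  hasRightDerivedFunctor _

/-- `RHom_R(B, -) : D(R) ⥤ D(B)`. -/
noncomputable def R₀ : Dual.D R ⥤ Dual.D B :=
  (coextKh φ).totalRightDerived DerivedCategory.Qh
    (HomotopyCategory.quasiIso (ModuleCat.{u} R) (ComplexShape.up ℤ))

/-- restriction of scalars is left adjoint to `RHom_R(B, -)`. -/
noncomputable def adjR₀ : DRing.restrictD φ ⊣ R₀ φ := by
  let W₁ := HomotopyCategory.quasiIso (ModuleCat.{u} B) (ComplexShape.up ℤ)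
  let W₂ := HomotopyCategory.quasiIso (ModuleCat.{u} R) (ComplexShape.up ℤ)
  let adj := Groth.Agent.H4.KProj.adjK (ModuleCat.restrictCoextendScalarsAdj.{u, u, u} φ)
    (ComplexShape.up ℤ)
  let β : (ModuleCat.coextendScalars.{u, u, u} φ).mapHomotopyCategory (ComplexShape.up ℤ) ⋙
      DerivedCategory.Qh ⟶ DerivedCategory.Qh ⋙ R₀ φ :=
    (coextKh φ).totalRightDerivedUnit DerivedCategory.Qh W₂
  let e : DerivedCategory.Qh ⋙ DRing.restrictD φ ≅
      (ModuleCat.restrictScalars.{u} φ).mapHomotopyCategory (ComplexShape.up ℤ) ⋙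
        DerivedCategory.Qh :=
    (ModuleCat.restrictScalars.{u} φ).mapDerivedCategoryFactorsh
  haveI : (R₀ φ).IsRightDerivedFunctor β W₂ := by
    dsimp only [β, R₀]
    infer_instance
  haveI : (DRing.restrictD φ).IsLeftDerivedFunctor e.hom W₁ :=
    Functor.isLeftDerivedFunctor_of_inverts W₁ _ e
  haveI : (R₀ φ ⋙ DRing.restrictD φ).IsRightDerivedFunctor
      (Functor.whiskerRight β (DRing.restrictD φ) ≫ (Functor.associator _ _ _).hom) W₂ :=
    isRightDerivedFunctor_comp _ _ β _
  let e' : DerivedCategory.Qh ⋙ (DRing.restrictD φ ⋙ R₀ φ) ≅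
      ((ModuleCat.restrictScalars.{u} φ).mapHomotopyCategory (ComplexShape.up ℤ) ⋙
        DerivedCategory.Qh) ⋙ R₀ φ :=
    (Functor.associator _ _ _).symm ≪≫ Functor.isoWhiskerRight e (R₀ φ)
  haveI : (DRing.restrictD φ ⋙ R₀ φ).IsLeftDerivedFunctor
      ((Functor.associator _ _ _).inv ≫ Functor.whiskerRight e.hom (R₀ φ)) W₁ :=
    Functor.isLeftDerivedFunctor_of_inverts W₁ _ e'
  exact adj.derived W₁ W₂ e.hom β

end Adj

end Groth.Agent.H4.RAdj
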