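import Mathlib
import Groth.Prelude.Def_DualLC
import Groth.Agent.H4.GM2
import Groth.Agent.H4.RAdj

set_option autoImplicit false
universe u
open CategoryTheory Category Limits Pretriangulated Opposite ZeroObject

namespace Groth.Agent.H4.GM3

attribute [local instance] HasDerivedCategory.standard

open DerivedCategory DRing Groth.Agent.H4.RG1 Groth.Agent.H4.RG2 Groth.Agent.H4.RG5
  Groth.Agent.H4.RG6 Groth.Agent.H4.RG7 Groth.Agent.H4.RG8 Groth.Agent.H4.RG10 Groth.Agent.H4.GM1
  Groth.Agent.H4.DCompl2 Groth.Agent.H4.GM2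

variable {A : Type u} [CommRing A]

/-- `RΓ_I` always exists. -/
theorem hasRgammaI (I : Ideal A) : DRing.HasRgammaI I :=
  Groth.Agent.H4.RAdj.hasRightDerivedFunctor _

attribute [local instance] hasRgammaI

lemma FInv_Q_iff (f : A) (L : CochainComplex (ModuleCat.{u} A) ℤ) :
    FInv f (Q.obj L) ↔ QuasiIso (f • 𝟙 L) := by
  have h1 : f • 𝟙 (Q.obj L) = Q.map (f • 𝟙 L) := by
    rw [Functor.map_smul, CategoryTheory.Functor.map_id]
  unfold FInv
  rw [h1, isIso_Q_map_iff_quasiIso]

theorem isZero_rgamma_singleton_iff [IsNoetherianRing A] (f : A) (C : Dual.D A) :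
    IsZero ((DRing.RgammaI (Ideal.span {f})).obj C) ↔ FInv f C := by
  obtain ⟨L, hL, hLinj, ⟨e⟩⟩ := exists_kinj_inj_iso C
  set I : Ideal A := Ideal.span {f} with hI
  have e5 : (DRing.RgammaI I).obj C ≅ Q.obj (GamL I L) :=
    (DRing.RgammaI I).mapIso e ≪≫ rgammaIsoOfInj I L hLinj
  have s1 : IsZero ((DRing.RgammaI I).obj C) ↔ (GamL I L).Acyclic := by
    rw [acyclic_iff_isZero_Q]
    exact ⟨fun h => h.of_iso e5.symm, fun h => h.of_iso e5⟩
  have s2 : FInv f C ↔ QuasiIso (f • 𝟙 L) := by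
    rw [← FInv_Q_iff]
    exact ⟨fun h => h.of_iso e, fun h => h.of_iso e.symm⟩
  rw [s1, s2]
  constructor
  · intro h
    exact quasiIso_smul_of_acyclic f L (fun n => haveI := hLinj n; moduleInjective_of_injective _) h
  · intro h
    have h2 := quasiIso_map_GamL I (f • 𝟙 L) hLinj hLinj h
    have h3 : ((gammaI I).mapHomologicalComplex (ComplexShape.up ℤ)).map (f • 𝟙 L) =
        f • 𝟙 (GamL I L) := by
      ext n x
      simp
      rfl
    rw [h3] at h2
    have h4 := acyc_of_torsion_of_quasiIso (GamL I L) f (fun n t => by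
      obtain ⟨m, hm⟩ := (mem_torsionSub_span_singleton f t.1).1 t.2
      exact ⟨m, Subtype.ext hm⟩) h2
    exact (Groth.Agent.H4.TC4.acyc_iff_exactAt _).1 h4


section Tors

variable [IsNoetherianRing A] (I : Ideal A)

lemma isZero_rgamma_zero : IsZero ((DRing.RgammaI I).obj (0 : Dual.D A)) := by
  have h := (isIso_map_mor₁_iff I _ (contractible_distinguished (0 : Dual.D A))).1 (by
    change IsIso ((DRing.RgammaI I).map (𝟙 (0 : Dual.D A)))
    rw [CategoryTheory.Functor.map_id]
    infer_instance)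
  exact h

lemma isZero_rgamma_of_isZero {Z : Dual.D A} (hZ : IsZero Z) :
    IsZero ((DRing.RgammaI I).obj Z) :=
  (isZero_rgamma_zero I).of_iso ((DRing.RgammaI I).mapIso (hZ.isoZero))

lemma rgamma_congr {I I' : Ideal A} (h : I = I') (K : Dual.D A) :
    Nonempty ((DRing.RgammaI I).obj K ≅ (DRing.RgammaI I').obj K) := by
  subst h
  exact ⟨Iso.refl _⟩

/-- 2-out-of-3, first object. -/
lemma isZero_rgamma_obj₁ (T : Triangle (Dual.D A)) (hT : T ∈ distTriang (Dual.D A))
    (h2 : IsZero ((DRing.RgammaI I).obj T.obj₂)) (h3 : IsZero ((DRing.RgammaI I).obj T.obj₃)) :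
    IsZero ((DRing.RgammaI I).obj T.obj₁) := by
  haveI := (isIso_map_mor₁_iff I T hT).2 h3
  exact h2.of_iso (asIso ((DRing.RgammaI I).map T.mor₁))

end Tors

end Groth.Agent.H4.GM3
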