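import Mathlib
import Groth.Prelude.Def_DualLC
import Groth.Agent.H4.GM3
import Groth.Agent.H4.DCompl6

set_option autoImplicit false
universe u
open CategoryTheory Category Limits Pretriangulated Opposite ZeroObject

namespace Groth.Agent.H4.GM4

attribute [local instance] HasDerivedCategory.standard

open DRing DerivedCategory Groth.Agent.H4.DComp Groth.Agent.H4.DCompl1 Groth.Agent.H4.DCompl2
  Groth.Agent.H4.DThick Groth.Agent.H4.ProjAmp Groth.Agent.H4.DCompl3 Groth.Agent.H4.DCompl4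
  Groth.Agent.H4.GM3

variable {A : Type u} [CommRing A]

/-- **Derived completion along one element**, remembering the fibre. -/
theorem exists_completion_one' (f : A) (K : Dual.D A) :
    ∃ (C : Dual.D A) (q : K ⟶ C) (T : Dual.D A) (a : T ⟶ K) (d : C ⟶ T⟦(1 : ℤ)⟧),
      FInv f T ∧ Triangle.mk a q d ∈ distTriang (Dual.D A) ∧
      LO f C ∧ (∀ g : A, LO g K → LO g C) ∧
      (∀ C' : Dual.D A, LO f C' → Function.Bijective (fun ψ : C ⟶ C' => q ≫ ψ)) := by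
  obtain ⟨T, i, h, hT⟩ := distinguished_cocone_triangle₁ (PsiD f K)
  obtain ⟨C, q, d, hC⟩ := distinguished_cocone_triangle (i ≫ pr K 0)
  have hTinv : FInv f T := FInv_fiber f K T i h hT
  have hbij := bijective_fiber_pr f K T i h hT
  have htq : (i ≫ pr K 0) ≫ q = 0 := comp_distTriang_mor_zero₁₂ _ hC
  have hdt : d ≫ (i ≫ pr K 0)⟦(1 : ℤ)⟧' = 0 := comp_distTriang_mor_zero₃₁ _ hC
  -- no maps from `f`-invertible objects to `C`
  have hYC : ∀ (Y : Dual.D A), FInv f Y → ∀ ψ : Y ⟶ C, ψ = 0 := by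
    intro Y hY ψ
    have hθ : ψ ≫ d = 0 := by
      let e : (Y⟦(-1 : ℤ)⟧)⟦(1 : ℤ)⟧ ≅ Y :=
        (shiftFunctorCompIsoId (Dual.D A) (-1 : ℤ) 1 (by simp)).app Y
      obtain ⟨θ', hθ'⟩ := (shiftFunctor (Dual.D A) (1 : ℤ)).map_surjective (e.hom ≫ ψ ≫ d)
      have h1 : θ' ≫ i ≫ pr K 0 = 0 := by
        apply (shiftFunctor (Dual.D A) (1 : ℤ)).map_injective
        rw [Functor.map_comp, hθ', Category.assoc, Category.assoc, hdt, comp_zero, comp_zero,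
          Functor.map_zero]
      have h2 : θ' = 0 := by
        apply (hbij _ (hY.shift (-1))).1
        change θ' ≫ i ≫ pr K 0 = 0 ≫ i ≫ pr K 0
        rw [h1, zero_comp]
      rw [h2, Functor.map_zero] at hθ'
      rw [← cancel_epi e.hom, ← hθ', comp_zero]
    obtain ⟨χ, hχ⟩ : ∃ χ : Y ⟶ K, ψ = χ ≫ q := Triangle.coyoneda_exact₃ _ hC ψ hθ
    obtain ⟨φ, rfl⟩ := (hbij Y hY).2 χ
    rw [hχ]
    change (φ ≫ i ≫ pr K 0) ≫ q = 0
    rw [Category.assoc, htq, comp_zero]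
  refine ⟨C, q, T, i ≫ pr K 0, d, hTinv, hC, ?_, ?_, ?_⟩
  · apply LO_of_forall
    intro n ψ
    exact hYC _ ((FInv_Fo f).shift n) ψ
  · intro g hg
    have hP : LO g (P K) := LO_P g K hg
    have hTg : LO g T := (isTriSub_LO g).ext₁ _ hT hP hP
    exact (isTriSub_LO g).ext₃ _ hC hTg hg
  · intro C' hC'
    constructor
    · intro ψ ψ' hψ
      have h1 : q ≫ (ψ - ψ') = 0 := by
        rw [Preadditive.comp_sub]
        exact sub_eq_zero.2 hψ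
      obtain ⟨w, hw⟩ : ∃ w : T⟦(1 : ℤ)⟧ ⟶ C', ψ - ψ' = d ≫ w :=
        Triangle.yoneda_exact₃ _ hC (ψ - ψ') h1
      rw [hom_eq_zero_of_FInv f _ C' (hTinv.shift 1) hC' w, comp_zero] at hw
      exact sub_eq_zero.1 hw
    · intro χ
      have h1 : (i ≫ pr K 0) ≫ χ = 0 := hom_eq_zero_of_FInv f _ C' hTinv hC' _
      obtain ⟨g, hg⟩ : ∃ g : C ⟶ C', χ = q ≫ g := Triangle.yoneda_exact₂ _ hC χ h1
      exact ⟨g, hg.symm⟩

/-- left orthogonal to derived complete objects -/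
def LOrth (I : Ideal A) (C : Dual.D A) : Prop :=
  ∀ C' : Dual.D A, IsDerivedComplete I C' → ∀ φ : C ⟶ C', φ = 0

lemma LOrth.mono {I I' : Ideal A} (h : I' ≤ I) {C : Dual.D A} (hC : LOrth I' C) : LOrth I C :=
  fun C' hC' φ => hC C' (fun f hf n => hC' f (h hf) n) φ

lemma LOrth.of_triangle {I : Ideal A} (T : Triangle (Dual.D A)) (hT : T ∈ distTriang (Dual.D A))
    (h1 : LOrth I T.obj₁) (h3 : LOrth I T.obj₃) : LOrth I T.obj₂ := by
  intro C' hC' φ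
  have h : T.mor₁ ≫ φ = 0 := h1 _ hC' _
  obtain ⟨ψ, hψ⟩ := Triangle.yoneda_exact₂ T hT φ h
  rw [hψ, h3 _ hC' ψ, comp_zero]

lemma LOrth.of_isZero {I : Ideal A} {C : Dual.D A} (h : IsZero C) : LOrth I C :=
  fun _ _ φ => h.eq_of_src φ 0

/-- the cone of a universal arrow to complete objects is left orthogonal to them. -/
lemma lorth_cone (I : Ideal A) {K C₀ M : Dual.D A} (q : K ⟶ C₀) (b : C₀ ⟶ M)
    (c : M ⟶ K⟦(1 : ℤ)⟧) (hT : Triangle.mk q b c ∈ distTriang (Dual.D A))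
    (huniv : ∀ C' : Dual.D A, IsDerivedComplete I C' →
      Function.Bijective (fun ψ : C₀ ⟶ C' => q ≫ ψ)) : LOrth I M := by
  intro C' hC' φ
  have h0 : q ≫ b = 0 := comp_distTriang_mor_zero₁₂ _ hT
  have h1 : b ≫ φ = 0 := by
    apply (huniv C' hC').1
    change q ≫ b ≫ φ = q ≫ 0
    rw [← assoc, h0, zero_comp, comp_zero]
  obtain ⟨χ, hχ⟩ : ∃ χ : K⟦(1 : ℤ)⟧ ⟶ C', φ = c ≫ χ := Triangle.yoneda_exact₃ _ hT φ h1
  have hC'' : IsDerivedComplete I (C'⟦(-1 : ℤ)⟧) := (isTriSub_isDerivedComplete I).shift _ _ hC'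
  let e : (C'⟦(-1 : ℤ)⟧)⟦(1 : ℤ)⟧ ≅ C' :=
    (shiftFunctorCompIsoId (Dual.D A) (-1 : ℤ) 1 (by simp)).app C'
  obtain ⟨χ', hχ'⟩ := (shiftFunctor (Dual.D A) (1 : ℤ)).map_surjective (χ ≫ e.inv)
  obtain ⟨ψ', hψ'⟩ := (huniv _ hC'').2 χ'
  change q ≫ ψ' = χ' at hψ'
  have h2 : χ = q⟦(1 : ℤ)⟧' ≫ ψ'⟦(1 : ℤ)⟧' ≫ e.hom := by
    rw [← assoc, ← Functor.map_comp, hψ', hχ', assoc, Iso.inv_hom_id, comp_id]
  have h3 : c ≫ q⟦(1 : ℤ)⟧' = 0 := comp_distTriang_mor_zero₃₁ _ hT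
  rw [hχ, h2, ← assoc, h3, zero_comp]

end Groth.Agent.H4.GM4
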