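import Mathlib
import Groth.Prelude.Def_DualLC
import Groth.Agent.H4.GM4

set_option autoImplicit false
universe u
open CategoryTheory Category Limits Pretriangulated Opposite ZeroObject

namespace Groth.Agent.H4.GM5

attribute [local instance] HasDerivedCategory.standard

open DRing DerivedCategory Groth.Agent.H4.DComp Groth.Agent.H4.DCompl1 Groth.Agent.H4.DCompl2
  Groth.Agent.H4.DThick Groth.Agent.H4.ProjAmp Groth.Agent.H4.DCompl3 Groth.Agent.H4.DCompl4
  Groth.Agent.H4.GM3 Groth.Agent.H4.GM4 Groth.Agent.H4.GM1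

variable {A : Type u} [CommRing A]

attribute [local instance] hasRgammaI

lemma isZero_of_FInv_zero {C : Dual.D A} (h : FInv (0 : A) C) : IsZero C := by
  unfold FInv at h
  rw [zero_smul] at h
  rw [IsZero.iff_id_eq_zero]
  have := IsIso.hom_inv_id (f := (0 : C ⟶ C))
  rw [zero_comp] at this
  exact this.symm

/-- `LOrth (f)` objects are `f`-invertible (given completeness along the rest). -/
lemma FInv_of_lorth [DecidableEq A] (f : A) (s : Finset A) (C₀ : Dual.D A) (h1 : ∀ g ∈ s, LO g C₀)
    (hl : LOrth (Ideal.span ((insert f s : Finset A) : Set A)) C₀) : FInv f C₀ := by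
  obtain ⟨C₁, q₁, T, a, d, hTinv, hdist, k1, k2, k3⟩ := exists_completion_one' f C₀
  have hC₁ : IsDerivedComplete (Ideal.span ((insert f s : Finset A) : Set A)) C₁ := by
    rw [isDerivedComplete_span_iff]
    intro g hg
    rcases Finset.mem_insert.1 hg with rfl | hg
    · exact k1
    · exact k2 g (h1 g hg)
  have hq : q₁ = 0 := hl C₁ hC₁ q₁
  have hid : 𝟙 C₁ = 0 := by
    apply (k3 C₁ k1).1
    change q₁ ≫ 𝟙 C₁ = q₁ ≫ 0
    rw [hq, zero_comp, zero_comp]
  have hz : IsZero C₁ := (IsZero.iff_id_eq_zero _).2 hid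
  haveI : IsIso a := (Triangle.isZero₃_iff_isIso₁ _ hdist).1 hz
  exact hTinv.of_iso (asIso a)

theorem isZero_rgamma_iff_lorth [IsNoetherianRing A] (s : Finset A) :
    ∀ C : Dual.D A, IsZero ((DRing.RgammaI (Ideal.span (s : Set A))).obj C) ↔
      LOrth (Ideal.span (s : Set A)) C := by
  classical
  induction s using Finset.induction_on with
  | empty =>
    intro C
    have hI : Ideal.span ((∅ : Finset A) : Set A) = Ideal.span {(0 : A)} := by simp
    constructor
    · intro h
      obtain ⟨e⟩ := rgamma_congr hI C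
      have h1 : FInv (0 : A) C := (isZero_rgamma_singleton_iff 0 C).1 (h.of_iso e.symm)
      exact LOrth.of_isZero (isZero_of_FInv_zero h1)
    · intro h
      have hC : IsDerivedComplete (Ideal.span ((∅ : Finset A) : Set A)) C := by
        rw [isDerivedComplete_span_iff]
        intro f hf
        simp at hf
      have : IsZero C := (IsZero.iff_id_eq_zero _).2 (h C hC (𝟙 C))
      exact isZero_rgamma_of_isZero _ this
  | insert f s hfs ih =>
    intro C
    set I' : Ideal A := Ideal.span (s : Set A) with hI'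
    set J : Ideal A := Ideal.span {f} with hJ
    set I : Ideal A := Ideal.span ((insert f s : Finset A) : Set A) with hI
    have hIJ : I' ⊔ J = I := by
      rw [hI, hI', hJ, Finset.coe_insert, Ideal.span_insert, sup_comm]
    have hJI : J ⊔ I' = I := by rw [sup_comm, hIJ]
    have hI'le : I' ≤ I := hIJ ▸ le_sup_left
    have hfI : f ∈ I := hI ▸ Ideal.subset_span (by simp)
    constructor
    · intro h
      -- `D = RΓ_{I'} C`
      obtain ⟨E, b, c, hT⟩ := distinguished_cocone_triangle ((DRing.RgammaIε I').app C)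
      have hE : IsZero ((DRing.RgammaI I').obj E) :=
        (isIso_map_mor₁_iff I' _ hT).1 (Groth.Agent.H4.RG11.isIso_map_eps I' C)
      have hE' : LOrth I E := ((ih E).1 hE).mono hI'le
      obtain ⟨e1⟩ := Groth.Agent.H4.RG8.S1816 I' J C
      obtain ⟨e2⟩ := rgamma_congr hIJ C
      have hD : FInv f ((DRing.RgammaI I').obj C) :=
        (isZero_rgamma_singleton_iff f _).1 (h.of_iso (e1 ≪≫ e2))
      have hD' : LOrth I ((DRing.RgammaI I').obj C) := by
        intro C' hC' φ
        exact hom_eq_zero_of_FInv f _ C' hD ((isDerivedComplete_iff_LO I C').1 hC' f hfI) φ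
      exact LOrth.of_triangle _ hT hD' hE'
    · intro h
      obtain ⟨C₀, q, h1, h2, -, -⟩ := exists_completion_finset s C
      obtain ⟨M, b, c, hT⟩ := distinguished_cocone_triangle q
      have hM : LOrth I' M := lorth_cone I' q b c hT (fun C' hC' =>
        h2 C' ((isDerivedComplete_span_iff s C').1 hC'))
      have hM1 : IsZero ((DRing.RgammaI I').obj M) := (ih M).2 hM
      have hM2 : IsZero ((DRing.RgammaI I).obj M) := by
        obtain ⟨e1⟩ := Groth.Agent.H4.RG8.S1816 I' J M
        obtain ⟨e2⟩ := rgamma_congr hIJ M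
        exact (isZero_rgamma_of_isZero J hM1).of_iso (e1 ≪≫ e2).symm
      have hC₀ : LOrth I C₀ := LOrth.of_triangle _ hT h (hM.mono hI'le)
      have hC₀f : FInv f C₀ := FInv_of_lorth f s C₀ h1 hC₀
      have hC₀1 : IsZero ((DRing.RgammaI J).obj C₀) := (isZero_rgamma_singleton_iff f C₀).2 hC₀f
      have hC₀2 : IsZero ((DRing.RgammaI I).obj C₀) := by
        obtain ⟨e1⟩ := Groth.Agent.H4.RG8.S1816 J I' C₀
        obtain ⟨e2⟩ := rgamma_congr hJI C₀
        exact (isZero_rgamma_of_isZero I' hC₀1).of_iso (e1 ≪≫ e2).symm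
      exact isZero_rgamma_obj₁ I _ hT hC₀2 hM2


open Groth.Agent.H4.DCompl6 in
/-- **S1814** Greenlees–May. -/
theorem S1814 [IsNoetherianRing A] (I : Ideal A) [DRing.HasRgammaI I]
    [DRing.HasDerivedCompletion I] (K : Dual.D A) :
    Nonempty ((DRing.RgammaI I).obj ((DRing.derivedCompletion I).obj K).obj ≅
      (DRing.RgammaI I).obj K) ∧
    Nonempty ((DRing.derivedCompletion I).obj ((DRing.RgammaI I).obj K) ≅
      (DRing.derivedCompletion I).obj K) := by
  obtain ⟨s, hs⟩ := (IsNoetherian.noetherian I : I.FG)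
  subst hs
  set I : Ideal A := Ideal.span (s : Set A) with hI
  constructor
  · obtain ⟨M, b, c, hT⟩ := distinguished_cocone_triangle (toDerivedCompletion I K)
    have hM : LOrth I M := lorth_cone I _ b c hT (fun C' hC' => unit_bijective I K C' hC')
    have hM1 : IsZero ((DRing.RgammaI I).obj M) := (isZero_rgamma_iff_lorth s M).2 hM
    haveI : IsIso ((DRing.RgammaI I).map (toDerivedCompletion I K)) :=
      (isIso_map_mor₁_iff I _ hT).2 hM1
    exact ⟨(asIso ((DRing.RgammaI I).map (toDerivedCompletion I K))).symm⟩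
  · obtain ⟨E, b, c, hT⟩ := distinguished_cocone_triangle ((DRing.RgammaIε I).app K)
    have hE : IsZero ((DRing.RgammaI I).obj E) :=
      (isIso_map_mor₁_iff I _ hT).1 (Groth.Agent.H4.RG11.isIso_map_eps I K)
    have hE' : LOrth I E := (isZero_rgamma_iff_lorth s E).1 hE
    have hEz : IsZero ((derivedCompletion I).obj E).obj := by
      have hη : toDerivedCompletion I E = 0 := hE' _ ((derivedCompletion I).obj E).property _
      rw [IsZero.iff_id_eq_zero]
      apply (unit_bijective I E _ ((derivedCompletion I).obj E).property).1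
      change toDerivedCompletion I E ≫ 𝟙 _ = toDerivedCompletion I E ≫ 0
      rw [hη, zero_comp, zero_comp]
    obtain ⟨δ, hT'⟩ := exists_distinguished_completion I _ hT
    haveI h1 : IsIso ((derivedCompletion I).map ((DRing.RgammaIε I).app K)).hom :=
      (Triangle.isZero₃_iff_isIso₁ _ hT').1 hEz
    haveI h2 : IsIso ((ObjectProperty.ι (IsDerivedComplete I)).map
        ((derivedCompletion I).map ((DRing.RgammaIε I).app K))) := h1
    haveI : IsIso ((derivedCompletion I).map ((DRing.RgammaIε I).app K)) :=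
      isIso_of_fully_faithful (ObjectProperty.ι (IsDerivedComplete I)) _
    exact ⟨asIso ((derivedCompletion I).map ((DRing.RgammaIε I).app K))⟩

end Groth.Agent.H4.GM5
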