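import Mathlib
import Groth.Prelude.Def_DualLC
import Groth.Agent.H4.GM5
import Groth.Agent.H4.DZ2

set_option autoImplicit false
universe u
open CategoryTheory Category Limits Pretriangulated Opposite ZeroObject

namespace Groth.Agent.H4.GM6

attribute [local instance] HasDerivedCategory.standard

open DRing DerivedCategory Groth.Agent.H4.DComp Groth.Agent.H4.DCompl1 Groth.Agent.H4.DCompl2
  Groth.Agent.H4.DThick Groth.Agent.H4.ProjAmp Groth.Agent.H4.DCompl3 Groth.Agent.H4.DCompl4
  Groth.Agent.H4.GM3 Groth.Agent.H4.GM4 Groth.Agent.H4.GM1 Groth.Agent.H4.GM5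

variable {A : Type u} [CommRing A]

attribute [local instance] hasRgammaI

/-- 2-out-of-3, middle object. -/
lemma isZero_rgamma_obj₂ [IsNoetherianRing A] (I : Ideal A) (T : Triangle (Dual.D A))
    (hT : T ∈ distTriang (Dual.D A))
    (h1 : IsZero ((DRing.RgammaI I).obj T.obj₁)) (h3 : IsZero ((DRing.RgammaI I).obj T.obj₃)) :
    IsZero ((DRing.RgammaI I).obj T.obj₂) := by
  haveI := (isIso_map_mor₁_iff I T hT).2 h3
  exact h1.of_iso (asIso ((DRing.RgammaI I).map T.mor₁)).symm

/-- **Induction principle**: the objects with `RΓ_I = 0` are generated by the `f`-invertible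
objects, `f` running through generators of `I`. -/
theorem tors_induction [IsNoetherianRing A] (Pr : Dual.D A → Prop)
    (hzero : ∀ Z : Dual.D A, IsZero Z → Pr Z)
    (hext : ∀ T : Triangle (Dual.D A), T ∈ distTriang (Dual.D A) → Pr T.obj₁ → Pr T.obj₃ →
      Pr T.obj₂) (s : Finset A) :
    (∀ f ∈ s, ∀ X : Dual.D A, FInv f X → Pr X) →
      ∀ C : Dual.D A, IsZero ((DRing.RgammaI (Ideal.span (s : Set A))).obj C) → Pr C := by
  classical
  induction s using Finset.induction_on with
  | empty =>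
    intro _ C h
    have hI : Ideal.span ((∅ : Finset A) : Set A) = Ideal.span {(0 : A)} := by simp
    obtain ⟨e⟩ := rgamma_congr hI C
    have h1 : FInv (0 : A) C := (isZero_rgamma_singleton_iff 0 C).1 (h.of_iso e.symm)
    exact hzero C (isZero_of_FInv_zero h1)
  | insert f s hfs ih =>
    intro hinv C h
    set I' : Ideal A := Ideal.span (s : Set A) with hI'
    set J : Ideal A := Ideal.span {f} with hJ
    set I : Ideal A := Ideal.span ((insert f s : Finset A) : Set A) with hI
    have hIJ : I' ⊔ J = I := by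
      rw [hI, hI', hJ, Finset.coe_insert, Ideal.span_insert, sup_comm]
    obtain ⟨E, b, c, hT⟩ := distinguished_cocone_triangle ((DRing.RgammaIε I').app C)
    have hE : IsZero ((DRing.RgammaI I').obj E) :=
      (isIso_map_mor₁_iff I' _ hT).1 (Groth.Agent.H4.RG11.isIso_map_eps I' C)
    have hE' : Pr E := ih (fun g hg X hX => hinv g (Finset.mem_insert_of_mem hg) X hX) E hE
    obtain ⟨e1⟩ := Groth.Agent.H4.RG8.S1816 I' J C
    obtain ⟨e2⟩ := rgamma_congr hIJ C
    have hD : FInv f ((DRing.RgammaI I').obj C) :=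
      (isZero_rgamma_singleton_iff f _).1 (h.of_iso (e1 ≪≫ e2))
    have hD' : Pr ((DRing.RgammaI I').obj C) := hinv f (Finset.mem_insert_self f s) _ hD
    exact hext _ hT hD' hE'

/-- `f`-invertible objects have no `I`-local cohomology, for `f ∈ I`. -/
theorem isZero_rgamma_of_FInv [IsNoetherianRing A] (I : Ideal A) (f : A) (hf : f ∈ I)
    (Z : Dual.D A) (hZ : FInv f Z) : IsZero ((DRing.RgammaI I).obj Z) := by
  have h1 : IsZero ((DRing.RgammaI (Ideal.span {f})).obj Z) :=
    (isZero_rgamma_singleton_iff f Z).2 hZ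
  obtain ⟨e1⟩ := Groth.Agent.H4.RG8.S1816 (Ideal.span {f}) I Z
  have hI : Ideal.span {f} ⊔ I = I := by
    rw [sup_eq_right, Ideal.span_le]
    intro x hx
    rw [Set.mem_singleton_iff.1 hx]
    exact hf
  obtain ⟨e2⟩ := rgamma_congr hI Z
  exact (isZero_rgamma_of_isZero I h1).of_iso (e1 ≪≫ e2).symm

/-- no maps from torsion objects to objects without local cohomology. -/
theorem hom_eq_zero_of_torsion [IsNoetherianRing A] (I : Ideal A) (T Y : Dual.D A)
    (hT : IsIso ((DRing.RgammaIε I).app T)) (hY : IsZero ((DRing.RgammaI I).obj Y))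
    (φ : T ⟶ Y) : φ = 0 := by
  have hnat := (DRing.RgammaIε I).naturality φ
  dsimp only [Functor.id_obj, Functor.id_map] at hnat
  have h0 : (DRing.RgammaI I).map φ = 0 := hY.eq_of_tgt _ _
  rw [h0, zero_comp] at hnat
  haveI := hT
  rw [← cancel_epi ((DRing.RgammaIε I).app T), ← hnat, comp_zero]

lemma LOrth.shift {I : Ideal A} {C : Dual.D A} (h : LOrth I C) (n : ℤ) : LOrth I (C⟦n⟧) := by
  intro C' hC' φ
  have h1 := h (C'⟦-n⟧) ((isTriSub_isDerivedComplete I).shift _ _ hC')
    (Groth.Agent.H4.DZ2.shiftHomLinEquiv C C' n (-n) (by omega) φ)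
  exact (Groth.Agent.H4.DZ2.shiftHomLinEquiv C C' n (-n) (by omega)).injective
    (h1.trans (map_zero _).symm)

theorem isZero_rgamma_shift [IsNoetherianRing A] (I : Ideal A) (C : Dual.D A) (n : ℤ)
    (h : IsZero ((DRing.RgammaI I).obj C)) : IsZero ((DRing.RgammaI I).obj (C⟦n⟧)) := by
  obtain ⟨s, hs⟩ := (IsNoetherian.noetherian I : I.FG)
  subst hs
  exact (isZero_rgamma_iff_lorth s _).2 (LOrth.shift ((isZero_rgamma_iff_lorth s C).1 h) n)

end Groth.Agent.H4.GM6
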