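import Mathlib
import Groth.Agent.H4.AC2
import Groth.Agent.H4.RG3
import Groth.Agent.H4.DZ4
import Groth.Agent.H4.GM5
import Groth.Agent.H4.GM6

set_option autoImplicit false
universe u v
open CategoryTheory Category Limits Pretriangulated TensorProduct

namespace Groth.Agent.H4.AC3

attribute [local instance] HasDerivedCategory.standard
attribute [local instance] Groth.Agent.H4.GM3.hasRgammaI

open DRing DerivedCategory Groth.Agent.H4.FB1 Groth.Agent.H4.FB2 Groth.Agent.H4.AC1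
  Groth.Agent.H4.AC2 Groth.Agent.H4.LD3 Groth.Agent.H4.GM4

variable {A : Type u} [CommRing A] [IsNoetherianRing A] (I : Ideal A)

section cone

variable (K : Dual.D A) (a : ℤ) (hKa : K.IsGE a) (hK : ∀ i : ℤ, Module.Finite A (Dual.HD A K i))
  {M : Dual.D A} (b : (Res A (Bh I)).obj ((E A (Bh I)).obj K) ⟶ M) (c : M ⟶ K⟦(1 : ℤ)⟧)
  (hT : Triangle.mk (gammaE (B := Bh I) K 1) b c ∈ distTriang (Dual.D A))

include hKa hK hT in
lemma hom_shift_quot_cone_eq_zero (n : ℕ) (m : ℤ) (y : (Dual.inD A (A ⧸ I ^ n))⟦m⟧ ⟶ M) :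
    y = 0 := by
  haveI := hKa
  set q := gammaE (B := Bh I) K 1 with hq
  -- step 1 : `y ≫ c = 0`
  have h0 : (y ≫ c) ≫ q⟦(1 : ℤ)⟧' = 0 := by
    have h31 : c ≫ q⟦(1 : ℤ)⟧' = 0 := comp_distTriang_mor_zero₃₁ _ hT
    rw [assoc, h31, comp_zero]
  have h1 : y ≫ c = 0 := by
    set φ := y ≫ c with hφ
    let σ := shiftFunctorCompIsoId (Dual.D A) (1 : ℤ) (-1) (by omega)
    have hnat : (q⟦(1 : ℤ)⟧')⟦(-1 : ℤ)⟧' ≫ σ.hom.app _ = σ.hom.app K ≫ q := σ.hom.naturality q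
    have h2 : φ⟦(-1 : ℤ)⟧' ≫ (q⟦(1 : ℤ)⟧')⟦(-1 : ℤ)⟧' = 0 := by
      rw [← Functor.map_comp, h0, Functor.map_zero]
    let ι := (shiftFunctorAdd' (Dual.D A) m (-1) (m - 1) (by omega)).app (Dual.inD A (A ⧸ I ^ n))
    have h3 : (ι.hom ≫ φ⟦(-1 : ℤ)⟧' ≫ σ.hom.app K) ≫ q = 0 := by
      rw [assoc, assoc, ← hnat, ← assoc (φ⟦(-1 : ℤ)⟧'), h2, zero_comp, comp_zero]
    have h4 : ι.hom ≫ φ⟦(-1 : ℤ)⟧' ≫ σ.hom.app K = 0 := by
      apply (bijective_comp_gamma I K a hK n (m - 1)).1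
      change _ ≫ q = 0 ≫ q
      rw [h3, zero_comp]
    have h5 : φ⟦(-1 : ℤ)⟧' = 0 := by
      have h6 := (cancel_epi ι.hom).1 (h4.trans comp_zero.symm)
      exact (cancel_mono (σ.hom.app K)).1 (h6.trans zero_comp.symm)
    apply (shiftFunctor (Dual.D A) (-1 : ℤ)).map_injective
    rw [h5, Functor.map_zero]
  -- step 2
  obtain ⟨z, hz⟩ := Triangle.coyoneda_exact₃ _ hT y h1
  change (Dual.inD A (A ⧸ I ^ n))⟦m⟧ ⟶ (Res A (Bh I)).obj ((E A (Bh I)).obj K) at z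
  change y = z ≫ b at hz
  obtain ⟨w, hw⟩ := (bijective_comp_gamma I K a hK n m).2 z
  change w ≫ q = z at hw
  have h12 : q ≫ b = 0 := comp_distTriang_mor_zero₁₂ _ hT
  rw [hz, ← hw, assoc, h12, comp_zero]

include hKa hK hT in
lemma subsingleton_HDI_cone (j : ℤ) : Subsingleton (Dual2.HDI A I M j) := by
  refine ⟨fun ξ ζ => ?_⟩
  have hz : ∀ ξ : (hdi I).obj (M⟦j⟧), ξ = 0 := by
    intro ξ
    obtain ⟨n, x, rfl⟩ := hj_surj ξ
    let e := Groth.Agent.H4.DZ2.shiftHomLinEquiv (Dual.inD A (A ⧸ I ^ n)) M (-j) j (by omega)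
    have h1 : e.symm x = 0 := hom_shift_quot_cone_eq_zero I K a hKa hK b c hT n (-j) _
    have h2 : x = 0 := by
      rw [← e.apply_symm_apply x, h1, map_zero]
    rw [h2, map_zero]
  exact (hz ξ).trans (hz ζ).symm

include hKa hK hT in
theorem isZero_rgamma_cone : IsZero ((DRing.RgammaI I).obj M) := by
  apply Groth.Agent.H4.DZ4.isZero_of_forall_subsingleton_HD
  intro j
  obtain ⟨e⟩ := Groth.Agent.H4.RG3.S1812 I M j
  haveI := subsingleton_HDI_cone I K a hKa hK b c hT j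
  exact e.toEquiv.subsingleton

include hKa hK hT in
theorem lorth_cone_gamma : LOrth I M := by
  obtain ⟨s, hs⟩ := (IsNoetherian.noetherian I : I.FG)
  subst hs
  exact (Groth.Agent.H4.GM5.isZero_rgamma_iff_lorth s M).1 (isZero_rgamma_cone _ K a hKa hK b c hT)

end cone

end Groth.Agent.H4.AC3
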