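import Mathlib
import Groth.Agent.H4.AC3
import Groth.Agent.H4.DCompl6
import Groth.Agent.S7048
import Groth.Agent.S7050

set_option autoImplicit false
universe u v
open CategoryTheory Category Limits Pretriangulated TensorProduct

namespace Groth.Agent.H4.AC4

attribute [local instance] HasDerivedCategory.standard

open DRing DerivedCategory Groth.Agent.H4.FB1 Groth.Agent.H4.FB2 Groth.Agent.H4.AC1
  Groth.Agent.H4.AC2 Groth.Agent.H4.AC3 Groth.Agent.H4.GM4 Groth.Agent.H4.DCompl6
  Groth.Agent.H4.DCompl2 Groth.Agent.H4.ProjAmp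

variable {A : Type u} [CommRing A] [IsNoetherianRing A] (I : Ideal A)

/-- `H^i(K ⊗ Â) ≅ H^i(K)^` -/
noncomputable def hdResE (K : Dual.D A) (hK : ∀ i : ℤ, Module.Finite A (Dual.HD A K i)) (i : ℤ) :
    Dual.HD A ((Res A (Bh I)).obj ((E A (Bh I)).obj K)) i ≃ₗ[A] AdicCompletion I (Dual.HD A K i) :=
  haveI := hK i
  (LinearEquiv.ofBijective (Theta (gammaE (B := Bh I) K) i) (bijective_Theta_gammaE K i)).symm ≪≫ₗ
    (AdicCompletion.ofTensorProductEquivOfFiniteNoetherian I (Dual.HD A K i)).restrictScalars A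

lemma hdResE_apply (K : Dual.D A) (hK : ∀ i : ℤ, Module.Finite A (Dual.HD A K i)) (i : ℤ)
    (x : Dual.HD A K i) :
    hdResE I K hK i (((homologyFunctor (ModuleCat.{u} A) i).map (gammaE (B := Bh I) K 1)).hom x) =
      AdicCompletion.of I _ x := by
  haveI := hK i
  have h1 : ((homologyFunctor (ModuleCat.{u} A) i).map (gammaE (B := Bh I) K 1)).hom x =
      Theta (gammaE (B := Bh I) K) i ((1 : Bh I) ⊗ₜ[A] x) := (Theta_tmul _ i 1 x).symm
  have h2 : (LinearEquiv.ofBijective (Theta (gammaE (B := Bh I) K) i)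
      (bijective_Theta_gammaE K i)).symm
      (((homologyFunctor (ModuleCat.{u} A) i).map (gammaE (B := Bh I) K 1)).hom x) =
      (1 : Bh I) ⊗ₜ[A] x := by
    rw [LinearEquiv.symm_apply_eq, h1]
    rfl
  unfold hdResE
  rw [LinearEquiv.trans_apply, h2]
  change AdicCompletion.ofTensorProduct I _ ((1 : Bh I) ⊗ₜ[A] x) = _
  rw [AdicCompletion.ofTensorProduct_tmul, one_smul]

theorem isDerivedComplete_Res_E (K : Dual.D A) (hK : ∀ i : ℤ, Module.Finite A (Dual.HD A K i)) :
    IsDerivedComplete I ((Res A (Bh I)).obj ((E A (Bh I)).obj K)) := by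
  rw [Groth.Agent.S7050.result]
  intro i
  haveI : IsAdicComplete I (AdicCompletion I (Dual.HD A K i)) :=
    AdicCompletion.isAdicComplete (IsNoetherian.noetherian I)
  have h1 := Groth.Agent.S7048.result I (AdicCompletion I (Dual.HD A K i))
  let e : Dual.inD A (AdicCompletion I (Dual.HD A K i)) ≅
      Dual.inD A (Dual.HD A ((Res A (Bh I)).obj ((E A (Bh I)).obj K)) i) :=
    (DerivedCategory.singleFunctor (ModuleCat.{u} A) 0).mapIso (hdResE I K hK i).symm.toModuleIso
  exact (Groth.Agent.H4.DComp.isTriSub_isDerivedComplete I).iso e h1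

/-- a map whose cone is left orthogonal to complete objects is a universal arrow. -/
lemma bijective_comp_of_lorth {K C M : Dual.D A} (q : K ⟶ C) (b : C ⟶ M) (c : M ⟶ K⟦(1 : ℤ)⟧)
    (hT : Triangle.mk q b c ∈ distTriang (Dual.D A)) (hM : LOrth I M)
    (C' : Dual.D A) (hC' : IsDerivedComplete I C') :
    Function.Bijective (fun ψ : C ⟶ C' => q ≫ ψ) := by
  constructor
  · intro ψ ψ' h
    change q ≫ ψ = q ≫ ψ' at h
    have h1 : q ≫ (ψ - ψ') = 0 := by rw [Preadditive.comp_sub, h, sub_self]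
    obtain ⟨g, hg⟩ := Triangle.yoneda_exact₂ _ hT (ψ - ψ') h1
    change ψ - ψ' = b ≫ g at hg
    rw [hM C' hC' g, comp_zero] at hg
    exact sub_eq_zero.1 hg
  · intro φ
    have hT' := inv_rot_of_distTriang _ hT
    have h1 : (Triangle.mk q b c).invRotate.mor₁ ≫ φ = 0 :=
      (Groth.Agent.H4.GM6.LOrth.shift hM (-1)) C' hC' _
    obtain ⟨ψ, hψ⟩ := Triangle.yoneda_exact₂ _ hT' φ h1
    exact ⟨ψ, hψ.symm⟩

variable [HasDerivedCompletion I]

/-- the derived completion of a bounded below complex with finite cohomology is `K ⊗ Â`. -/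
theorem exists_completion_iso_gamma (K : Dual.D A) (a : ℤ) (hKa : K.IsGE a)
    (hK : ∀ i : ℤ, Module.Finite A (Dual.HD A K i)) :
    ∃ ε : ((derivedCompletion I).obj K).obj ≅ (Res A (Bh I)).obj ((E A (Bh I)).obj K),
      toDerivedCompletion I K ≫ ε.hom = gammaE (B := Bh I) K 1 := by
  obtain ⟨M, b, c, hT⟩ := distinguished_cocone_triangle (gammaE (B := Bh I) K 1)
  have hM : LOrth I M := lorth_cone_gamma I K a hKa hK b c hT
  have hC : IsDerivedComplete I ((Res A (Bh I)).obj ((E A (Bh I)).obj K)) :=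
    isDerivedComplete_Res_E I K hK
  have huniv := fun C' hC' => bijective_comp_of_lorth I (gammaE (B := Bh I) K 1) b c hT hM C' hC'
  have hL : IsDerivedComplete I ((derivedCompletion I).obj K).obj :=
    ((derivedCompletion I).obj K).property
  obtain ⟨u, hu⟩ := (unit_bijective I K _ hC).2 (gammaE (B := Bh I) K 1)
  obtain ⟨v, hv⟩ := (huniv _ hL).2 (toDerivedCompletion I K)
  change toDerivedCompletion I K ≫ u = gammaE (B := Bh I) K 1 at hu
  change gammaE (B := Bh I) K 1 ≫ v = toDerivedCompletion I K at hv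
  refine ⟨⟨u, v, ?_, ?_⟩, hu⟩
  · apply (unit_bijective I K _ hL).1
    change toDerivedCompletion I K ≫ u ≫ v = toDerivedCompletion I K ≫ 𝟙 _
    rw [← Category.assoc, hu, hv, Category.comp_id]
  · apply (huniv _ hC).1
    change gammaE (B := Bh I) K 1 ≫ v ≫ u = gammaE (B := Bh I) K 1 ≫ 𝟙 _
    rw [← Category.assoc, hv, hu, Category.comp_id]

/-- **S7060**, bounded below case. -/
theorem S7060_bddBelow (K : Dual.D A) (a : ℤ) (hKa : K.IsGE a)
    (hK : ∀ i : ℤ, Module.Finite A (Dual.HD A K i)) (n : ℤ) :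
    ∃ e : Dual.HD A ((DRing.derivedCompletion I).obj K).obj n ≃ₗ[A]
        AdicCompletion I (Dual.HD A K n),
      ∀ x : Dual.HD A K n,
        e (((DerivedCategory.homologyFunctor (ModuleCat.{u} A) n).map
          (DRing.toDerivedCompletion I K)).hom x) = AdicCompletion.of I (Dual.HD A K n) x := by
  obtain ⟨ε, hε⟩ := exists_completion_iso_gamma I K a hKa hK
  refine ⟨((homologyFunctor (ModuleCat.{u} A) n).mapIso ε).toLinearEquiv ≪≫ₗ hdResE I K hK n, ?_⟩
  intro x
  rw [LinearEquiv.trans_apply]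
  have h1 : ((homologyFunctor (ModuleCat.{u} A) n).mapIso ε).toLinearEquiv
      (((homologyFunctor (ModuleCat.{u} A) n).map (toDerivedCompletion I K)).hom x) =
      ((homologyFunctor (ModuleCat.{u} A) n).map (gammaE (B := Bh I) K 1)).hom x := by
    rw [← hε, Functor.map_comp]
    rfl
  rw [h1]
  exact hdResE_apply I K hK n x

omit [IsNoetherianRing A] [HasDerivedCompletion I] in
lemma isIso_homology_mor₂ (T : Triangle (Dual.D A)) (hT : T ∈ distTriang (Dual.D A)) (i : ℤ)
    (h1 : IsZero ((homologyFunctor (ModuleCat.{u} A) i).obj T.obj₁))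
    (h2 : IsZero ((homologyFunctor (ModuleCat.{u} A) (i + 1)).obj T.obj₁)) :
    IsIso ((homologyFunctor (ModuleCat.{u} A) i).map T.mor₂) := by
  haveI : Mono ((homologyFunctor (ModuleCat.{u} A) i).map T.mor₂) := by
    rw [HomologySequence.mono_homologyMap_mor₂_iff T hT i]
    exact h1.eq_of_src _ _
  haveI : Epi ((homologyFunctor (ModuleCat.{u} A) i).map T.mor₂) := by
    rw [HomologySequence.epi_homologyMap_mor₂_iff T hT i (i + 1) rfl]
    exact h2.eq_of_tgt _ _
  exact isIso_of_mono_of_epi _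

/-- reduction to the bounded below case along a truncation triangle -/
theorem S7060_aux (K : Dual.D A) (hK : ∀ i : ℤ, Module.Finite A (Dual.HD A K i)) (n : ℤ)
    {K₀ K₁ : Dual.D A} (u : K₀ ⟶ K) (p : K ⟶ K₁) (w : K₁ ⟶ K₀⟦(1 : ℤ)⟧)
    (hT : Triangle.mk u p w ∈ distTriang (Dual.D A)) (h1 : K₀.IsLE (n - 1)) (h3 : K₁.IsGE n) :
    ∃ e : Dual.HD A ((DRing.derivedCompletion I).obj K).obj n ≃ₗ[A]
        AdicCompletion I (Dual.HD A K n),
      ∀ x : Dual.HD A K n,
        e (((DerivedCategory.homologyFunctor (ModuleCat.{u} A) n).map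
          (DRing.toDerivedCompletion I K)).hom x) = AdicCompletion.of I (Dual.HD A K n) x := by
  obtain ⟨s, hs⟩ := (IsNoetherian.noetherian I : I.FG)
  -- cohomology of the truncation
  have hiso : ∀ i : ℤ, n ≤ i → IsIso ((homologyFunctor (ModuleCat.{u} A) i).map p) :=
    fun i hi => isIso_homology_mor₂ _ hT i (isZero_of_isLE K₀ (n - 1) i (by omega))
      (isZero_of_isLE K₀ (n - 1) (i + 1) (by omega))
  have hfin : ∀ i : ℤ, Module.Finite A (Dual.HD A K₁ i) := by
    intro i
    by_cases hi : n ≤ i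
    · haveI := hiso i hi
      haveI : Module.Finite A ((homologyFunctor (ModuleCat.{u} A) i).obj K) := hK i
      exact Module.Finite.equiv
        (asIso ((homologyFunctor (ModuleCat.{u} A) i).map p)).toLinearEquiv
    · haveI := ModuleCat.subsingleton_of_isZero (isZero_of_isGE K₁ n i (by omega))
      infer_instance
  -- the completed triangle
  obtain ⟨δ, hΛ⟩ := exists_distinguished_completion I _ hT
  haveI hΛ1 : (((derivedCompletion I).obj K₀).obj).IsLE (n - 1) :=
    isLE_completion I s hs K₀ (n - 1) h1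
  haveI hα : IsIso ((homologyFunctor (ModuleCat.{u} A) n).map
      ((derivedCompletion I).map p).hom) :=
    isIso_homology_mor₂ _ hΛ n
      (isZero_of_isLE ((derivedCompletion I).obj K₀).obj (n - 1) n (by omega))
      (isZero_of_isLE ((derivedCompletion I).obj K₀).obj (n - 1) (n + 1) (by omega))
  haveI hβ := hiso n le_rfl
  let α : Dual.HD A ((derivedCompletion I).obj K).obj n ≃ₗ[A]
      Dual.HD A ((derivedCompletion I).obj K₁).obj n :=
    (asIso ((homologyFunctor (ModuleCat.{u} A) n).map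
      ((derivedCompletion I).map p).hom)).toLinearEquiv
  let β : Dual.HD A K n ≃ₗ[A] Dual.HD A K₁ n :=
    (asIso ((homologyFunctor (ModuleCat.{u} A) n).map p)).toLinearEquiv
  obtain ⟨e₁, he₁⟩ := S7060_bddBelow I K₁ n h3 hfin n
  refine ⟨α ≪≫ₗ e₁ ≪≫ₗ (AdicCompletion.congr I β.symm).restrictScalars A, ?_⟩
  intro x
  have hnat : toDerivedCompletion I K ≫ ((derivedCompletion I).map p).hom =
      p ≫ toDerivedCompletion I K₁ :=
    ((derivedCompletionAdj I).unit.naturality p).symm
  have h4 : α (((homologyFunctor (ModuleCat.{u} A) n).map (toDerivedCompletion I K)).hom x) =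
      ((homologyFunctor (ModuleCat.{u} A) n).map (toDerivedCompletion I K₁)).hom (β x) := by
    have hc := congrArg (fun f => ((homologyFunctor (ModuleCat.{u} A) n).map f).hom x) hnat
    simp only [Functor.map_comp, ModuleCat.hom_comp, LinearMap.comp_apply] at hc
    exact hc
  simp only [LinearEquiv.trans_apply]
  rw [h4, he₁]
  change AdicCompletion.map I β.symm.toLinearMap (AdicCompletion.of I _ (β x)) = _
  rw [AdicCompletion.map_of]
  simp

/-- **S7060** -/
theorem S7060 (K : Dual.D A) (hK : ∀ i : ℤ, Module.Finite A (Dual.HD A K i)) (n : ℤ) :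
    ∃ e : Dual.HD A ((DRing.derivedCompletion I).obj K).obj n ≃ₗ[A]
        AdicCompletion I (Dual.HD A K n),
      ∀ x : Dual.HD A K n,
        e (((DerivedCategory.homologyFunctor (ModuleCat.{u} A) n).map
          (DRing.toDerivedCompletion I K)).hom x) = AdicCompletion.of I (Dual.HD A K n) x := by
  let T := ((tR A).triangleLTGE n).obj K
  have hT : T ∈ distTriang (Dual.D A) := (tR A).triangleLTGE_distinguished n K
  have h3 : T.obj₃.IsGE n := inferInstanceAs ((tR A).IsGE T.obj₃ n)
  have h1 : T.obj₁.IsLE (n - 1) :=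
    inferInstanceAs ((tR A).IsLE (((tR A).truncLT n).obj K) (n - 1))
  exact S7060_aux I K hK n T.mor₁ T.mor₂ T.mor₃ hT h1 h3

end Groth.Agent.H4.AC4
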