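import Mathlib

/-!
# Exactness of adic completion under an Artin–Rees type hypothesis
(the proofs of `AdicCompletion.map_injective` and `AdicCompletion.map_exact` with the Artin–Rees
input isolated as a hypothesis)
-/

set_option autoImplicit false
universe u

open LinearMap

namespace Groth.Agent.H4.ACF1

open AdicCompletion

variable {R : Type u} [CommRing R] {I : Ideal R}
variable {M : Type u} [AddCommGroup M] [Module R M]
variable {N : Type u} [AddCommGroup N] [Module R N]
variable {P : Type u} [AddCommGroup P] [Module R P]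

variable (I) in
theorem map_injective' {f : M →ₗ[R] N} (hf : Function.Injective f) (k : ℕ)
    (hAR : ∀ n, (I ^ (k + n) • ⊤ ⊓ LinearMap.range f : Submodule R N) ≤
      Submodule.map f (I ^ n • ⊤)) :
    Function.Injective (map I f) := by
  rw [← LinearMap.ker_eq_bot, LinearMap.ker_eq_bot']
  intro x
  apply AdicCompletion.induction_on I M x (fun a ↦ ?_)
  intro hx
  refine AdicCompletion.mk_zero_of _ _ _ ⟨42, fun n _ ↦ ⟨k + n, by lia, n, by lia, ?_⟩⟩
  rw [← Submodule.comap_map_eq_of_injective hf (I ^ n • ⊤ : Submodule R M)]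
  apply hAR n
  exact ⟨by simpa using congrArg (fun x ↦ x.val (k + n)) hx, ⟨a (k + n), rfl⟩⟩

section

variable {f : M →ₗ[R] N} {g : N →ₗ[R] P} (hf : Function.Injective f)
  (hfg : Function.Exact f g) (hg : Function.Surjective g)

section

variable {k : ℕ}
  (hAR : ∀ n, (I ^ (k + n) • ⊤ ⊓ LinearMap.range f : Submodule R N) ≤
      Submodule.map f (I ^ n • ⊤))
  (x : AdicCauchySequence I N) (hker : ∀ (n : ℕ), g (x n) ∈ (I ^ n • ⊤ : Submodule R P))

include hf hAR in
lemma delta_exists {n : ℕ} {d : N}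
    (hdmem : d ∈ (I ^ (k + n + 1) • ⊤ : Submodule R N)) {y yₙ : M}
    (hd : f y = x (k + n + 1) - d) (hyₙ : f yₙ - x (k + n) ∈ (I ^ (k + n) • ⊤ : Submodule R N)) :
    ∃ d' : M, d' ∈ (I ^ n • ⊤ : Submodule R M) ∧
      f (yₙ + d') - x (k + n + 1) ∈ (I ^ (k + n + 1) • ⊤ : Submodule R N) := by
  have h : f (y - yₙ) ∈ (I ^ (k + n) • ⊤ : Submodule R N) := by
    simp only [map_sub, hd]
    convert_to x (k + n + 1) - x (k + n) - d - (f yₙ - x (k + n)) ∈ I ^ (k + n) • ⊤
    · abel
    · refine Submodule.sub_mem _ (Submodule.sub_mem _ ?_ ?_) hyₙ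
      · rw [← Submodule.Quotient.eq]
        exact AdicCauchySequence.mk_eq_mk (by lia) _
      · exact (Submodule.smul_mono_left (Ideal.pow_le_pow_right (by lia))) hdmem
  have hyyₙ : y - yₙ ∈ (I ^ n • ⊤ : Submodule R M) := by
    rw [← Submodule.comap_map_eq_of_injective hf (I ^ n • ⊤ : Submodule R M)]
    apply hAR n
    exact ⟨h, ⟨y - yₙ, rfl⟩⟩
  refine ⟨y - yₙ, hyyₙ, ?_⟩
  have : f (yₙ + (y - yₙ)) - x (k + n + 1) = - d := by
    rw [add_sub_cancel, hd]; abel
  rw [this]
  exact Submodule.neg_mem _ hdmem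

include hfg hg hker in
lemma step_exists (n : ℕ) : ∃ (d : N) (y : M),
    d ∈ (I ^ (k + n) • ⊤ : Submodule R N) ∧ f y = x (k + n) - d := by
  have h1 : g (x (k + n)) ∈ Submodule.map g (I ^ (k + n) • ⊤ : Submodule R N) := by
    rw [Submodule.map_smul'', Submodule.map_top, range_eq_top.mpr hg]
    exact hker (k + n)
  obtain ⟨d, hdmem, hd⟩ := h1
  obtain ⟨y, hdy⟩ := (hfg (x (k + n) - d)).mp (by simp [hd])
  exact ⟨d, y, hdmem, hdy⟩

include hf hfg hg hAR hker in
/-- the inductive construction of approximate preimages. -/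
lemma exists_seq : ∃ a : ℕ → M, (∀ n, f (a n) - x (k + n) ∈ (I ^ (k + n) • ⊤ : Submodule R N)) ∧
    ∀ n, a (n + 1) - a n ∈ (I ^ n • ⊤ : Submodule R M) := by
  have h0 : ∃ y : M, f y - x (k + 0) ∈ (I ^ (k + 0) • ⊤ : Submodule R N) := by
    obtain ⟨d, y, hdmem, hdy⟩ := step_exists hfg hg x hker 0
    refine ⟨y, ?_⟩
    rw [hdy]
    have : x (k + 0) - d - x (k + 0) = - d := by abel
    rw [this]
    exact Submodule.neg_mem _ hdmem
  have hstep : ∀ (n : ℕ) (yₙ : M), f yₙ - x (k + n) ∈ (I ^ (k + n) • ⊤ : Submodule R N) →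
      ∃ d' : M, d' ∈ (I ^ n • ⊤ : Submodule R M) ∧
        f (yₙ + d') - x (k + (n + 1)) ∈ (I ^ (k + (n + 1)) • ⊤ : Submodule R N) := by
    intro n yₙ hyₙ
    obtain ⟨d, y, hdmem, hdy⟩ := step_exists hfg hg x hker (n + 1)
    exact delta_exists hf hAR x hdmem hdy hyₙ
  choose y0 hy0 using h0
  choose D hD1 hD2 using hstep
  -- dependent recursion
  let b : (n : ℕ) → { y : M // f y - x (k + n) ∈ (I ^ (k + n) • ⊤ : Submodule R N) } :=
    fun n => Nat.rec ⟨y0, hy0⟩ (fun n p => ⟨p.1 + D n p.1 p.2, hD2 n p.1 p.2⟩) n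
  refine ⟨fun n => (b n).1, fun n => (b n).2, fun n => ?_⟩
  change (b n).1 + D n (b n).1 (b n).2 - (b n).1 ∈ _
  rw [add_sub_cancel_left]
  exact hD1 n _ _

end

include hf hfg hg in
/-- adic completion is exact on a short exact sequence whose sub has an Artin–Rees bound. -/
theorem map_exact' (k : ℕ)
    (hAR : ∀ n, (I ^ (k + n) • ⊤ ⊓ LinearMap.range f : Submodule R N) ≤
      Submodule.map f (I ^ n • ⊤)) :
    Function.Exact (map I f) (map I g) := by
  refine LinearMap.exact_of_comp_eq_zero_of_ker_le_range ?_ (fun y ↦ ?_)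
  · rw [AdicCompletion.map_comp, hfg.linearMap_comp_eq_zero, AdicCompletion.map_zero]
  · apply AdicCompletion.induction_on I N y (fun b ↦ ?_)
    intro hz
    have hb (n : ℕ) : g (b n) ∈ (I ^ n • ⊤ : Submodule R P) := by
      simpa using congrArg (fun x ↦ x.val n) hz
    obtain ⟨a, ha1, ha2⟩ := exists_seq hf hfg hg hAR b hb
    refine ⟨AdicCompletion.mk I M (AdicCauchySequence.mk I M (fun n ↦ a n) ?_), ?_⟩
    · refine fun n ↦ SModEq.symm ?_
      rw [SModEq.sub_mem]
      exact ha2 n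
    · ext n
      suffices h : Submodule.Quotient.mk (p := (I ^ n • ⊤ : Submodule R N)) (f (a n)) =
            Submodule.Quotient.mk (p := (I ^ n • ⊤ : Submodule R N)) (b (k + n)) by
        simp [h, AdicCauchySequence.mk_eq_mk (show n ≤ k + n by lia)]
      rw [Submodule.Quotient.eq]
      have hle : (I ^ (k + n) • ⊤ : Submodule R N) ≤ (I ^ n • ⊤ : Submodule R N) :=
        Submodule.smul_mono_left (Ideal.pow_le_pow_right (by lia))
      exact hle (ha1 n)

end

end Groth.Agent.H4.ACF1
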