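import Mathlib
import Groth.Agent.H4.ACF1

/-!
# Artin–Rees for submodules tensored with a flat module
-/

set_option autoImplicit false
universe u

open TensorProduct

namespace Groth.Agent.H4.ACF2

variable {A : Type u} [CommRing A] (I : Ideal A) (N : Type u) [AddCommGroup N] [Module A N]
variable {F : Type u} [AddCommGroup F] [Module A F]

lemma smul_top_le_range_rTensor (J : Ideal A) :
    (J • (⊤ : Submodule A (F ⊗[A] N))) ≤
      LinearMap.range ((J • (⊤ : Submodule A F)).subtype.rTensor N) := by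
  rw [Submodule.smul_le]
  intro a ha z _
  induction z using TensorProduct.induction_on with
  | zero => rw [smul_zero]; exact Submodule.zero_mem _
  | tmul x n =>
    refine ⟨(⟨a • x, Submodule.smul_mem_smul ha Submodule.mem_top⟩ :
      ↥(J • (⊤ : Submodule A F))) ⊗ₜ n, ?_⟩
    rw [LinearMap.rTensor_tmul, TensorProduct.smul_tmul']
    rfl
  | add z w hz hw =>
    rw [smul_add]
    exact Submodule.add_mem _ (hz Submodule.mem_top) (hw Submodule.mem_top)

lemma range_rTensor_le_smul_top (J : Ideal A) :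
    LinearMap.range ((J • (⊤ : Submodule A F)).subtype.rTensor N) ≤
      J • (⊤ : Submodule A (F ⊗[A] N)) := by
  rintro _ ⟨w, rfl⟩
  induction w using TensorProduct.induction_on with
  | zero => rw [map_zero]; exact Submodule.zero_mem _
  | tmul u n =>
    rw [LinearMap.rTensor_tmul]
    obtain ⟨u, hu⟩ := u
    change (u ⊗ₜ[A] n) ∈ _
    refine Submodule.smul_induction_on (p := fun u => u ⊗ₜ[A] n ∈
      J • (⊤ : Submodule A (F ⊗[A] N))) hu ?_ ?_
    · intro a ha x _
      rw [← TensorProduct.smul_tmul']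
      exact Submodule.smul_mem_smul ha Submodule.mem_top
    · intro x y hx hy
      rw [TensorProduct.add_tmul]
      exact Submodule.add_mem _ hx hy
  | add z w hz hw => rw [map_add]; exact Submodule.add_mem _ hz hw

lemma range_inf_le [Module.Flat A N] (U V : Submodule A F) :
    LinearMap.range (U.subtype.rTensor N) ⊓ LinearMap.range (V.subtype.rTensor N) ≤
      LinearMap.range ((U ⊓ V).subtype.rTensor N) := by
  rintro y ⟨⟨u, hu⟩, ⟨v, hv⟩⟩
  have h1 : (V.mkQ.rTensor N) y = 0 := by
    rw [← hv, ← LinearMap.rTensor_comp_apply]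
    have : V.mkQ ∘ₗ V.subtype = 0 := by ext x; simp
    rw [this, LinearMap.rTensor_zero]
    rfl
  let incl : ↥(U ⊓ V) →ₗ[A] ↥U := Submodule.inclusion inf_le_left
  have hex : Function.Exact incl (V.mkQ ∘ₗ U.subtype) := by
    intro x
    constructor
    · intro hx
      have hxV : (x : F) ∈ V := by
        have : V.mkQ (x : F) = 0 := hx
        simpa using this
      exact ⟨⟨x, ⟨x.2, hxV⟩⟩, rfl⟩
    · rintro ⟨w, rfl⟩
      change V.mkQ (w : F) = 0
      rw [Submodule.mkQ_apply, Submodule.Quotient.mk_eq_zero]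
      exact w.2.2
  have hex' := Module.Flat.rTensor_exact N hex
  have h2 : ((V.mkQ ∘ₗ U.subtype).rTensor N) u = 0 := by
    rw [LinearMap.rTensor_comp_apply, hu, h1]
  obtain ⟨w, hw⟩ := (hex' u).1 h2
  refine ⟨w, ?_⟩
  have h3 : (U ⊓ V).subtype = U.subtype ∘ₗ incl := rfl
  rw [h3, LinearMap.rTensor_comp_apply, hw, hu]

theorem AR_tensor [IsNoetherianRing A] [Module.Flat A N] [Module.Finite A F]
    (K : Submodule A F) :
    ∃ k : ℕ, ∀ n, (I ^ (k + n) • ⊤ ⊓ LinearMap.range (K.subtype.rTensor N) :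
        Submodule A (F ⊗[A] N)) ≤
      Submodule.map (K.subtype.rTensor N) (I ^ n • ⊤) := by
  obtain ⟨k, hk⟩ := Ideal.exists_pow_inf_eq_pow_smul I K
  refine ⟨k, fun n => ?_⟩
  intro y hy
  have h1 : y ∈ LinearMap.range ((I ^ (k + n) • (⊤ : Submodule A F)).subtype.rTensor N) :=
    smul_top_le_range_rTensor N _ hy.1
  have h2 := range_inf_le N _ K ⟨h1, hy.2⟩
  have h3 : (I ^ (k + n) • ⊤ ⊓ K : Submodule A F) ≤ Submodule.map K.subtype (I ^ n • ⊤) := by
    rw [hk (k + n) (by omega), Nat.add_sub_cancel_left, Submodule.map_smul'', Submodule.map_top,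
      Submodule.range_subtype]
    exact Submodule.smul_mono le_rfl inf_le_right
  obtain ⟨w, rfl⟩ := h2
  let j : ↥(I ^ (k + n) • ⊤ ⊓ K : Submodule A F) →ₗ[A] ↥(I ^ n • (⊤ : Submodule A K)) :=
    LinearMap.codRestrict (I ^ n • (⊤ : Submodule A K)) (Submodule.inclusion inf_le_right)
      (fun x => by
        obtain ⟨z, hz, hzx⟩ := h3 x.2
        have : z = Submodule.inclusion inf_le_right x := Subtype.ext hzx
        rw [← this]
        exact hz)
  have h4 : (I ^ (k + n) • ⊤ ⊓ K : Submodule A F).subtype =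
      K.subtype ∘ₗ (I ^ n • (⊤ : Submodule A K)).subtype ∘ₗ j := rfl
  rw [h4, LinearMap.rTensor_comp_apply, LinearMap.rTensor_comp_apply]
  exact ⟨_, range_rTensor_le_smul_top N _ ⟨_, rfl⟩, rfl⟩

end Groth.Agent.H4.ACF2
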