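import Mathlib
import Groth.Agent.H4.ACF2

/-!
# Completion of `M ⊗ N` for `M` finite and `N` flat over a Noetherian ring
-/

set_option autoImplicit false
universe u

open TensorProduct

namespace Groth.Agent.H4.ACF3

open AdicCompletion Groth.Agent.H4.ACF1 Groth.Agent.H4.ACF2

variable {A : Type u} [CommRing A] (I : Ideal A) (N : Type u) [AddCommGroup N] [Module A N]

section maps

variable {X Y : Type u} [AddCommGroup X] [Module A X] [AddCommGroup Y] [Module A Y]

lemma map_add' (f g : X →ₗ[A] Y) : map I (f + g) = map I f + map I g := by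
  ext
  simp

lemma map_smul' (a : A) (f : X →ₗ[A] Y) (u : AdicCompletion I X) :
    map I (a • f) u = a • map I f u := by
  induction u using AdicCompletion.induction_on with
  | _ b =>
    ext n
    rw [AdicCompletion.val_smul_apply]
    simp

lemma rTensor_sum' {ι : Type} (s : Finset ι) (g : ι → (X →ₗ[A] Y)) (Q : Type u) [AddCommGroup Q]
    [Module A Q] : (∑ j ∈ s, g j).rTensor Q = ∑ j ∈ s, (g j).rTensor Q := by
  classical
  induction s using Finset.induction_on with
  | empty => simp
  | insert a s ha ih => rw [Finset.sum_insert ha, Finset.sum_insert ha, LinearMap.rTensor_add, ih]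

end maps

variable {M M' M'' : Type u} [AddCommGroup M] [Module A M] [AddCommGroup M'] [Module A M']
  [AddCommGroup M''] [Module A M'']

/-- the functor `M ↦ (M ⊗ N)^` on maps. -/
noncomputable def T (g : M →ₗ[A] M') :
    AdicCompletion I (M ⊗[A] N) →ₗ[A] AdicCompletion I (M' ⊗[A] N) :=
  (map I (g.rTensor N)).restrictScalars A

lemma T_apply (g : M →ₗ[A] M') (y : AdicCompletion I (M ⊗[A] N)) :
    T I N g y = map I (g.rTensor N) y := rfl

lemma T_id (y : AdicCompletion I (M ⊗[A] N)) : T I N (LinearMap.id : M →ₗ[A] M) y = y := by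
  rw [T_apply, LinearMap.rTensor_id, AdicCompletion.map_id]
  rfl

lemma T_comp (g : M →ₗ[A] M') (g' : M' →ₗ[A] M'') (y : AdicCompletion I (M ⊗[A] N)) :
    T I N (g' ∘ₗ g) y = T I N g' (T I N g y) := by
  rw [T_apply, T_apply, T_apply, LinearMap.rTensor_comp, AdicCompletion.map_comp_apply]

lemma T_zero (y : AdicCompletion I (M ⊗[A] N)) : T I N (0 : M →ₗ[A] M') y = 0 := by
  rw [T_apply, LinearMap.rTensor_zero, AdicCompletion.map_zero]
  rfl

lemma T_add (g g' : M →ₗ[A] M') (y : AdicCompletion I (M ⊗[A] N)) :
    T I N (g + g') y = T I N g y + T I N g' y := by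
  rw [T_apply, T_apply, T_apply, LinearMap.rTensor_add, map_add']
  rfl

lemma T_sum {ι : Type} (s : Finset ι) (g : ι → (M →ₗ[A] M')) (y : AdicCompletion I (M ⊗[A] N)) :
    T I N (∑ j ∈ s, g j) y = ∑ j ∈ s, T I N (g j) y := by
  classical
  induction s using Finset.induction_on with
  | empty => simp [T_zero]
  | insert a s ha ih => rw [Finset.sum_insert ha, Finset.sum_insert ha, T_add, ih]

variable (M) in
/-- the comparison map `M ⊗ N^ → (M ⊗ N)^`. -/
noncomputable def c : M ⊗[A] AdicCompletion I N →ₗ[A] AdicCompletion I (M ⊗[A] N) :=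
  TensorProduct.lift (LinearMap.mk₂ A (fun m u => map I (TensorProduct.mk A M N m) u)
    (fun m m' u => by rw [map_add, map_add']; rfl)
    (fun a m u => by rw [map_smul, map_smul'])
    (fun m u u' => map_add _ _ _)
    (fun a m u => LinearMap.map_smul_of_tower _ a u))

lemma c_tmul (m : M) (u : AdicCompletion I N) :
    c I N M (m ⊗ₜ u) = map I (TensorProduct.mk A M N m) u := by
  simp [c]

lemma c_natural (g : M →ₗ[A] M') (z : M ⊗[A] AdicCompletion I N) :
    T I N g (c I N M z) = c I N M' (g.rTensor _ z) := by
  induction z using TensorProduct.induction_on with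
  | zero => simp
  | tmul m u =>
    rw [c_tmul, LinearMap.rTensor_tmul, c_tmul, T_apply, AdicCompletion.map_comp_apply]
    congr 2
  | add z w hz hw => simp only [map_add, hz, hw]

/-- the case `M = A`. -/
lemma c_self_eq (z : A ⊗[A] AdicCompletion I N) :
    c I N A z = map I (TensorProduct.lid A N).symm.toLinearMap (TensorProduct.lid A _ z) := by
  induction z using TensorProduct.induction_on with
  | zero => simp
  | tmul a u =>
    rw [c_tmul, TensorProduct.lid_tmul, LinearMap.map_smul_of_tower, ← map_smul']
    congr 2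
    ext n
    simp only [LinearMap.smul_apply, LinearEquiv.coe_coe, TensorProduct.lid_symm_apply,
      TensorProduct.mk_apply]
    rw [TensorProduct.smul_tmul', smul_eq_mul, mul_one]
  | add z w hz hw => simp only [map_add, hz, hw]

lemma c_self_bijective : Function.Bijective (c I N A) := by
  have h : ⇑(c I N A) = ⇑(AdicCompletion.congr I (TensorProduct.lid A N).symm) ∘
      ⇑(TensorProduct.lid A (AdicCompletion I N)) := by
    funext z
    exact c_self_eq I N z
  rw [h]
  exact (AdicCompletion.congr I (TensorProduct.lid A N).symm).bijective.comp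
    (TensorProduct.lid A (AdicCompletion I N)).bijective

/-- the case of a finite free module. -/
lemma c_pi_bijective (r : ℕ) : Function.Bijective (c I N (Fin r → A)) := by
  classical
  let ι : Fin r → (A →ₗ[A] (Fin r → A)) := fun j => LinearMap.single A (fun _ => A) j
  let π : Fin r → ((Fin r → A) →ₗ[A] A) := fun j => LinearMap.proj j
  have hid : ∑ j, ι j ∘ₗ π j = (LinearMap.id : (Fin r → A) →ₗ[A] (Fin r → A)) := by
    ext x i
    simp [ι, π, Finset.sum_apply, Pi.single_apply]
  constructor
  · rw [injective_iff_map_eq_zero]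
    intro z hz
    have h1 : ∀ j, (π j).rTensor (AdicCompletion I N) z = 0 := by
      intro j
      apply (c_self_bijective I N).1
      rw [← c_natural, hz, _root_.map_zero, _root_.map_zero]
    have h2 : z = (∑ j, ι j ∘ₗ π j).rTensor (AdicCompletion I N) z := by
      rw [hid, LinearMap.rTensor_id]; rfl
    rw [h2, rTensor_sum', LinearMap.sum_apply]
    apply Finset.sum_eq_zero
    intro j _
    rw [LinearMap.rTensor_comp_apply, h1 j, _root_.map_zero]
  · intro y
    have h2 : y = T I N (∑ j, ι j ∘ₗ π j) y := by rw [hid, T_id]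
    choose x hx using fun j => (c_self_bijective I N).2 (T I N (π j) y)
    refine ⟨∑ j, (ι j).rTensor (AdicCompletion I N) (x j), ?_⟩
    rw [map_sum, h2, T_sum]
    apply Finset.sum_congr rfl
    intro j _
    rw [← c_natural, hx j, T_comp]

lemma T_surjective (p : M' →ₗ[A] M) (hp : Function.Surjective p) :
    Function.Surjective (T I N p) :=
  AdicCompletion.map_surjective I (LinearMap.rTensor_surjective N hp)

lemma c_surjective [Module.Finite A M] : Function.Surjective (c I N M) := by
  obtain ⟨r, p, hp⟩ := Module.Finite.exists_fin' A M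
  intro y
  obtain ⟨y', rfl⟩ := T_surjective I N p hp y
  obtain ⟨x, rfl⟩ := (c_pi_bijective I N r).2 y'
  exact ⟨p.rTensor _ x, (c_natural I N p x).symm⟩

variable [IsNoetherianRing A] [Module.Flat A N]

/-- exactness of `T` on the sequence `K → F → M`. -/
lemma T_exact [Module.Finite A M'] (p : M' →ₗ[A] M) (hp : Function.Surjective p) :
    Function.Injective (T I N (LinearMap.ker p).subtype) ∧
      Function.Exact (T I N (LinearMap.ker p).subtype) (T I N p) := by
  obtain ⟨k, hk⟩ := AR_tensor I N (LinearMap.ker p)
  have hinj : Function.Injective ((LinearMap.ker p).subtype.rTensor N) :=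
    Module.Flat.rTensor_preserves_injective_linearMap _ (Submodule.injective_subtype _)
  have hex : Function.Exact ((LinearMap.ker p).subtype.rTensor N) (p.rTensor N) :=
    rTensor_exact N (LinearMap.exact_subtype_ker_map p) hp
  have hsurj : Function.Surjective (p.rTensor N) := LinearMap.rTensor_surjective N hp
  exact ⟨map_injective' I hinj k hk, map_exact' hinj hex hsurj k hk⟩

/-- **(F2)** -/
theorem c_bijective [Module.Finite A M] : Function.Bijective (c I N M) := by
  refine ⟨?_, c_surjective I N⟩
  obtain ⟨r, p, hp⟩ := Module.Finite.exists_fin' A M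
  obtain ⟨-, hex⟩ := T_exact I N p hp
  rw [injective_iff_map_eq_zero]
  intro z hz
  obtain ⟨x, rfl⟩ := LinearMap.rTensor_surjective (AdicCompletion I N) hp z
  have h1 : T I N p (c I N _ x) = 0 := by rw [c_natural, hz]
  obtain ⟨w, hw⟩ := (hex _).1 h1
  haveI : Module.Finite A (LinearMap.ker p) := Module.Finite.of_injective (LinearMap.ker p).subtype
    (Submodule.injective_subtype _)
  obtain ⟨v, rfl⟩ := c_surjective I N (M := LinearMap.ker p) w
  rw [c_natural] at hw
  have h2 := (c_pi_bijective I N r).1 hw
  rw [← h2, ← LinearMap.rTensor_comp_apply]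
  have : p ∘ₗ (LinearMap.ker p).subtype = 0 := by
    ext x
    exact x.2
  rw [this, LinearMap.rTensor_zero]
  rfl

/-- **(F1)** the completion of a flat module over a Noetherian ring is flat. -/
theorem flat_completion : Module.Flat A (AdicCompletion I N) := by
  rw [Module.Flat.iff_rTensor_injective']
  intro J
  have h1 : Function.Injective (T I N J.subtype) := by
    have := (T_exact I N (M' := A) (M := A ⧸ J) (Submodule.mkQ J) (Submodule.mkQ_surjective J)).1
    rw [Submodule.ker_mkQ] at this
    exact this
  have h2 : Function.Injective (⇑(T I N J.subtype) ∘ ⇑(c I N J)) :=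
    h1.comp (c_bijective I N).1
  have h3 : ⇑(T I N J.subtype) ∘ ⇑(c I N J) = ⇑(c I N A) ∘ ⇑(J.subtype.rTensor (AdicCompletion I N)) := by
    funext z
    exact c_natural I N J.subtype z
  rw [h3] at h2
  exact Function.Injective.of_comp h2

end Groth.Agent.H4.ACF3
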