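import Mathlib
import Groth.Agent.H4.ACF3

/-!
# `N ⊗ N' → N^ ⊗ N'` is bijective for `N'` killed by `I`
-/

set_option autoImplicit false
universe u

open TensorProduct

namespace Groth.Agent.H4.ACF4

open AdicCompletion Groth.Agent.H4.ACF3

variable {A : Type u} [CommRing A] (I : Ideal A) (N : Type u) [AddCommGroup N] [Module A N]

lemma c_of {M : Type u} [AddCommGroup M] [Module A M] (m : M) (n : N) :
    c I N M (m ⊗ₜ AdicCompletion.of I N n) = AdicCompletion.of I (M ⊗[A] N) (m ⊗ₜ n) := by
  rw [c_tmul]
  rfl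

variable (N' : Type u) [AddCommGroup N'] [Module A N'] (hN' : ∀ a ∈ I, ∀ x : N', a • x = 0)

include hN' in
lemma mkQ_rTensor_bijective (X : Type u) [AddCommGroup X] [Module A X] :
    Function.Bijective ((I • (⊤ : Submodule A X)).mkQ.rTensor N') := by
  refine ⟨?_, LinearMap.rTensor_surjective N' (Submodule.mkQ_surjective _)⟩
  have hex : Function.Exact ((I • (⊤ : Submodule A X)).subtype.rTensor N')
      ((I • (⊤ : Submodule A X)).mkQ.rTensor N') :=
    rTensor_exact N' (LinearMap.exact_subtype_mkQ _) (Submodule.mkQ_surjective _)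
  have hz : ∀ w, (I • (⊤ : Submodule A X)).subtype.rTensor N' w = 0 := by
    intro w
    induction w using TensorProduct.induction_on with
    | zero => rw [_root_.map_zero]
    | tmul u n =>
      rw [LinearMap.rTensor_tmul]
      obtain ⟨u, hu⟩ := u
      change (u ⊗ₜ[A] n) = 0
      refine Submodule.smul_induction_on (p := fun u => u ⊗ₜ[A] n = 0) hu ?_ ?_
      · intro a ha x _
        rw [TensorProduct.smul_tmul, hN' a ha, TensorProduct.tmul_zero]
      · intro x y hx hy
        rw [TensorProduct.add_tmul, hx, hy, add_zero]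
    | add z w hz hw => rw [map_add, hz, hw, add_zero]
  rw [injective_iff_map_eq_zero]
  intro z hz0
  obtain ⟨w, rfl⟩ := (hex z).1 hz0
  exact hz w

/-- the map `N/IN → N^/IN^`. -/
noncomputable def phibar : (N ⧸ (I • (⊤ : Submodule A N))) →ₗ[A]
    (AdicCompletion I N ⧸ (I • (⊤ : Submodule A (AdicCompletion I N)))) :=
  Submodule.mapQ _ _ (AdicCompletion.of I N) (by
    rw [Submodule.smul_le]
    intro a ha x _
    rw [Submodule.mem_comap, map_smul]
    exact Submodule.smul_mem_smul ha Submodule.mem_top)

lemma phibar_bijective (hI : I.FG) : Function.Bijective (phibar I N) := by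
  have hker : (I • (⊤ : Submodule A (AdicCompletion I N))) =
      LinearMap.ker (AdicCompletion.eval I N 1) := by
    have h0 : (I • (⊤ : Submodule A (AdicCompletion I N))) = I ^ 1 • ⊤ := by rw [pow_one]
    exact h0.trans (AdicCompletion.pow_smul_top_eq_ker_eval (I := I) (M := N) (n := 1) hI)
  constructor
  · rw [injective_iff_map_eq_zero]
    intro y hy
    obtain ⟨x, rfl⟩ := Submodule.mkQ_surjective _ y
    have h1 : AdicCompletion.of I N x ∈ (I • (⊤ : Submodule A (AdicCompletion I N))) := by
      have : (Submodule.mkQ _) (AdicCompletion.of I N x) = 0 := hy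
      rwa [Submodule.mkQ_apply, Submodule.Quotient.mk_eq_zero] at this
    rw [hker, LinearMap.mem_ker, AdicCompletion.eval_of, Submodule.mkQ_apply,
      Submodule.Quotient.mk_eq_zero, pow_one] at h1
    rw [Submodule.mkQ_apply, Submodule.Quotient.mk_eq_zero]
    exact h1
  · intro y
    obtain ⟨u, rfl⟩ := Submodule.mkQ_surjective _ y
    obtain ⟨x, hx⟩ := Submodule.mkQ_surjective _ (AdicCompletion.eval I N 1 u)
    refine ⟨Submodule.mkQ _ x, ?_⟩
    change Submodule.mkQ _ (AdicCompletion.of I N x) = Submodule.mkQ _ u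
    rw [Submodule.mkQ_apply, Submodule.mkQ_apply, Submodule.Quotient.eq, hker, LinearMap.mem_ker,
      map_sub, AdicCompletion.eval_of, hx, sub_self]

include hN' in
/-- **(F3)** -/
theorem of_rTensor_bijective (hI : I.FG) :
    Function.Bijective ((AdicCompletion.of I N).rTensor N') := by
  have hq1 := mkQ_rTensor_bijective I N' hN' N
  have hq2 := mkQ_rTensor_bijective I N' hN' (AdicCompletion I N)
  have hφ := phibar_bijective I N hI
  have hφ' : Function.Bijective ((phibar I N).rTensor N') :=
    (LinearEquiv.rTensor N' (LinearEquiv.ofBijective (phibar I N) hφ)).bijective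
  have hsq : ∀ z, (I • (⊤ : Submodule A (AdicCompletion I N))).mkQ.rTensor N'
      ((AdicCompletion.of I N).rTensor N' z) =
      (phibar I N).rTensor N' ((I • (⊤ : Submodule A N)).mkQ.rTensor N' z) := by
    intro z
    rw [← LinearMap.rTensor_comp_apply, ← LinearMap.rTensor_comp_apply]
    rfl
  constructor
  · rw [injective_iff_map_eq_zero]
    intro z hz
    have h1 := hsq z
    rw [hz, _root_.map_zero] at h1
    have h2 : (I • (⊤ : Submodule A N)).mkQ.rTensor N' z = 0 :=
      hφ'.1 (h1.symm.trans (_root_.map_zero _).symm)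
    exact hq1.1 (h2.trans (_root_.map_zero _).symm)
  · intro y
    obtain ⟨w, hw⟩ := hφ'.2 ((I • (⊤ : Submodule A (AdicCompletion I N))).mkQ.rTensor N' y)
    obtain ⟨z, rfl⟩ := hq1.2 w
    refine ⟨z, hq2.1 ?_⟩
    rw [hsq, hw]

end Groth.Agent.H4.ACF4
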