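import Mathlib
import Groth.Agent.H4.KProj5
import Groth.Agent.H4.KProj6

set_option autoImplicit false

/-!
# Left derived functors on `D(R)` are absolute; the adjunction `LBaseChange ⊣ restrictD`
-/

namespace Groth.Agent.H4.KProj

open CategoryTheory Limits DerivedCategory

universe w v v' v'' u u' u''

section Init

variable {J : Type u} [Category.{v} J] {C : Type u'} [Category.{v'} C]
  {D : Type u''} [Category.{v''} D]

/-- any functor preserves limits of diagrams whose shape has an initial object. -/
lemma preservesLimit_of_isInitial {X : J} (hX : IsInitial X) (K : J ⥤ C) (G : C ⥤ D) :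
    PreservesLimit K G := by
  apply preservesLimit_of_preserves_limit_cone (limitOfDiagramInitial hX K)
  exact IsLimit.ofIsoLimit (limitOfDiagramInitial hX (K ⋙ G))
    (Cone.ext (Iso.refl _) (fun j => by simp [coneOfDiagramInitial]))

end Init

section General

variable {A : Type u} [Category.{v} A] [Abelian A] [HasDerivedCategory.{w} A]

/-- For a K-projective complex `P` and an isomorphism `Y ≅ Qh P`, this is an initial object of
the category of objects of `K(A)` under `Y`. -/
noncomputable def isInitialMk (P : CochainComplex A ℤ) [P.IsKProjective]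
    {Y : DerivedCategory A}
    (e : Y ≅ DerivedCategory.Qh.obj ((HomotopyCategory.quotient A (ComplexShape.up ℤ)).obj P)) :
    IsInitial (StructuredArrow.mk e.hom : StructuredArrow Y DerivedCategory.Qh) := by
  have hbij := fun K => CochainComplex.IsKProjective.Qh_map_bijective P K
  have hg : ∀ X : StructuredArrow Y DerivedCategory.Qh,
      ∃ g : (HomotopyCategory.quotient A (ComplexShape.up ℤ)).obj P ⟶ X.right,
        DerivedCategory.Qh.map g = e.inv ≫ X.hom := fun X => (hbij X.right).2 _
  choose g hg using hg
  refine IsInitial.ofUniqueHom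
    (fun X => StructuredArrow.homMk (g X) ?_) ?_
  · dsimp
    rw [hg, Iso.hom_inv_id_assoc]
  · intro X m
    apply StructuredArrow.hom_ext
    change m.right = g X
    apply (hbij X.right).1
    rw [hg]
    have := StructuredArrow.w m
    dsimp at this
    rw [← this, Iso.inv_hom_id_assoc]

end General

attribute [local instance] HasDerivedCategory.standard

variable {R : Type u} [CommRing R]

lemma exists_isInitial (Y : DerivedCategory (ModuleCat.{u} R)) :
    ∃ X : StructuredArrow Y (DerivedCategory.Qh (C := ModuleCat.{u} R)), Nonempty (IsInitial X) := by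
  obtain ⟨T, hT, ⟨e⟩⟩ := exists_kproj_iso Y
  exact ⟨_, ⟨isInitialMk T (e.symm ≪≫ ((quotientCompQhIso (ModuleCat.{u} R)).app T).symm)⟩⟩

variable {H : Type u'} [Category.{v'} H] {H' : Type u''} [Category.{v''} H']
  (F : HomotopyCategory (ModuleCat.{u} R) (ComplexShape.up ℤ) ⥤ H)

/-- Left derived functors on `D(R)` are absolute: they are preserved by any functor. -/
theorem isLeftDerivedFunctor_comp (LF : DerivedCategory (ModuleCat.{u} R) ⥤ H)
    (α : DerivedCategory.Qh ⋙ LF ⟶ F)
    [LF.IsLeftDerivedFunctor α
      (HomotopyCategory.quasiIso (ModuleCat.{u} R) (ComplexShape.up ℤ))]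
    (G : H ⥤ H') :
    (LF ⋙ G).IsLeftDerivedFunctor ((Functor.associator _ _ _).inv ≫ Functor.whiskerRight α G)
      (HomotopyCategory.quasiIso (ModuleCat.{u} R) (ComplexShape.up ℤ)) := by
  haveI := hasPointwise F (fun K => exists_kproj K)
  have hE₀ : (Functor.RightExtension.mk LF α).IsPointwiseRightKanExtension :=
    Functor.isPointwiseRightKanExtensionOfHasPointwiseLeftDerivedFunctor LF α
      (HomotopyCategory.quasiIso (ModuleCat.{u} R) (ComplexShape.up ℤ))
  haveI : G.PreservesPointwiseRightKanExtension F DerivedCategory.Qh := by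
    intro Y
    obtain ⟨X, ⟨hX⟩⟩ := exists_isInitial Y
    haveI := preservesLimit_of_isInitial hX (StructuredArrow.proj Y DerivedCategory.Qh ⋙ F) G
    infer_instance
  have hE₁ := hE₀.postcompose G
  have hE₂ := (Functor.RightExtension.isPointwiseRightKanExtensionEquivOfIso
    (Functor.RightExtension.postcompose₂ObjMkIso G α)) hE₁
  exact ⟨hE₂.isRightKanExtension⟩


section Adj

variable {B : Type u} [CommRing B] (φ : R →+* B) [DRing.HasLBaseChange φ]

/-- derived base change is left adjoint to restriction of scalars. -/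
noncomputable def adjLBaseChange : DRing.LBaseChange φ ⊣ DRing.restrictD φ := by
  let W₁ := HomotopyCategory.quasiIso (ModuleCat.{u} R) (ComplexShape.up ℤ)
  let W₂ := HomotopyCategory.quasiIso (ModuleCat.{u} B) (ComplexShape.up ℤ)
  let adj := adjK (ModuleCat.extendRestrictScalarsAdj.{u, u, u} φ) (ComplexShape.up ℤ)
  let α : DerivedCategory.Qh ⋙ DRing.LBaseChange φ ⟶
      (ModuleCat.extendScalars.{u, u, u} φ).mapHomotopyCategory (ComplexShape.up ℤ) ⋙
        DerivedCategory.Qh :=
    (DRing.baseChangeKh φ).totalLeftDerivedCounit DerivedCategory.Qh W₁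
  let e : DerivedCategory.Qh ⋙ DRing.restrictD φ ≅
      (ModuleCat.restrictScalars.{u} φ).mapHomotopyCategory (ComplexShape.up ℤ) ⋙
        DerivedCategory.Qh :=
    (ModuleCat.restrictScalars.{u} φ).mapDerivedCategoryFactorsh
  haveI : (DRing.LBaseChange φ).IsLeftDerivedFunctor α W₁ := by
    dsimp only [α]
    infer_instance
  haveI : (DRing.restrictD φ).IsRightDerivedFunctor e.inv W₂ :=
    Functor.isRightDerivedFunctor_of_inverts W₂ _ e
  haveI : (DRing.LBaseChange φ ⋙ DRing.restrictD φ).IsLeftDerivedFunctor
      ((Functor.associator _ _ _).inv ≫ Functor.whiskerRight α (DRing.restrictD φ)) W₁ :=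
    isLeftDerivedFunctor_comp _ _ α _
  let e' : DerivedCategory.Qh ⋙ (DRing.restrictD φ ⋙ DRing.LBaseChange φ) ≅
      ((ModuleCat.restrictScalars.{u} φ).mapHomotopyCategory (ComplexShape.up ℤ) ⋙
        DerivedCategory.Qh) ⋙ DRing.LBaseChange φ :=
    (Functor.associator _ _ _).symm ≪≫ Functor.isoWhiskerRight e (DRing.LBaseChange φ)
  haveI : (DRing.restrictD φ ⋙ DRing.LBaseChange φ).IsRightDerivedFunctor
      (Functor.whiskerRight e.inv (DRing.LBaseChange φ) ≫ (Functor.associator _ _ _).hom) W₂ :=
    Functor.isRightDerivedFunctor_of_inverts W₂ _ e'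
  exact adj.derived W₁ W₂ α e.inv

end Adj

end Groth.Agent.H4.KProj
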