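import Mathlib
import Groth.Agent.H4.DNak3
import Groth.Agent.H4.TC9
import Groth.Agent.Lib.Helper2.Telescope3
set_option autoImplicit false
universe u
open CategoryTheory CategoryTheory.Limits MonoidalCategory CategoryTheory.Pretriangulated

namespace Groth.Agent.H4.LCT1

attribute [local instance] HasDerivedCategory.standard

open DerivedCategory DRing Groth.Agent.H4.LDer Groth.Agent.H4.PC Groth.Agent.H4.BC Groth.Agent.H4.TV
  Groth.Agent.H4.DNak1 Groth.Agent.H4.DNak2 Groth.Agent.H4.DNak3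

variable {A : Type u} [CommRing A]

/-- `Hom(Mo, X[j]) = 0` for all `j`. -/
def Orth (Mo X : Dual.D A) : Prop := ∀ (j : ℤ) (ψ : Mo ⟶ X⟦j⟧), ψ = 0

lemma Orth.of_iso {Mo X X' : Dual.D A} (h : Orth Mo X) (e : X ≅ X') : Orth Mo X' := by
  intro j ψ
  have h1 := h j (ψ ≫ ((shiftFunctor (Dual.D A) j).mapIso e).inv)
  rw [← cancel_mono ((shiftFunctor (Dual.D A) j).mapIso e).inv, h1, zero_comp]

lemma Orth.of_iso_left {Mo Mo' X : Dual.D A} (h : Orth Mo X) (e : Mo ≅ Mo') : Orth Mo' X := by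
  intro j ψ
  have h1 := h j (e.hom ≫ ψ)
  rw [← cancel_epi e.hom, h1, comp_zero]

lemma Orth.shift {Mo X : Dual.D A} (h : Orth Mo X) (a : ℤ) : Orth Mo (X⟦a⟧) := by
  intro j ψ
  have h1 := h (a + j) (ψ ≫ (shiftFunctorAdd' (Dual.D A) a j (a + j) rfl).inv.app X)
  rw [← cancel_mono ((shiftFunctorAdd' (Dual.D A) a j (a + j) rfl).inv.app X), h1, zero_comp]

lemma Orth.of_isZero {Mo X : Dual.D A} (h : IsZero X) : Orth Mo X :=
  fun j _ => ((shiftFunctor (Dual.D A) j).map_isZero h).eq_of_tgt _ _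

lemma orth_step {Mo X K : Dual.D A} (f : A) (n : ℕ) (hn : (f ^ n) • 𝟙 Mo = 0)
    (g : X ⟶ K) (h : K ⟶ X⟦(1 : ℤ)⟧)
    (hT : Triangle.mk (f • 𝟙 X) g h ∈ distinguishedTriangles) (hK : Orth Mo K) : Orth Mo X := by
  intro j ψ
  have hinj : ∀ ψ' : Mo ⟶ X⟦j⟧, f • ψ' = 0 → ψ' = 0 := by
    intro ψ' h0
    have hex := (preadditiveCoyoneda.obj (Opposite.op Mo)).homologySequence_exact₁ _ hT (j - 1) j
      (by omega)
    rw [ShortComplex.ab_exact_iff] at hex
    obtain ⟨φ, hφ⟩ := hex ψ' (by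
      change ψ' ≫ (f • 𝟙 X)⟦j⟧' = 0
      rw [Functor.map_smul, CategoryTheory.Functor.map_id, Linear.comp_smul, Category.comp_id]
      exact h0)
    have h1 : φ = 0 := hK (j - 1) φ
    rw [← hφ, h1]
    exact map_zero _
  have hpow : ∀ (m : ℕ) (ψ' : Mo ⟶ X⟦j⟧), (f ^ m) • ψ' = 0 → ψ' = 0 := by
    intro m
    induction m with
    | zero =>
      intro ψ' h0
      simpa using h0
    | succ m ih =>
      intro ψ' h0
      apply ih
      apply hinj
      rw [smul_smul, ← pow_succ']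
      exact h0
  apply hpow n
  have h2 : (f ^ n) • ψ = ((f ^ n) • 𝟙 Mo) ≫ ψ := by rw [Linear.smul_comp, Category.id_comp]
  rw [h2, hn, zero_comp]

lemma bijective_of_orth {Mo : Dual.D A} (T : Triangle (Dual.D A)) (hT : T ∈ distinguishedTriangles)
    (hO : Orth Mo T.obj₃) (i : ℤ) :
    Function.Bijective (fun ψ : Mo ⟶ T.obj₁⟦i⟧ => ψ ≫ T.mor₁⟦i⟧') := by
  constructor
  · intro ψ ψ' h
    dsimp only at h
    have h0 : (ψ - ψ') ≫ T.mor₁⟦i⟧' = 0 := by rw [Preadditive.sub_comp, h, sub_self]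
    have hex := (preadditiveCoyoneda.obj (Opposite.op Mo)).homologySequence_exact₁ T hT (i - 1) i
      (by omega)
    rw [ShortComplex.ab_exact_iff] at hex
    obtain ⟨φ, hφ⟩ := hex (ψ - ψ') h0
    have h1 : φ = 0 := hO (i - 1) φ
    rw [h1, map_zero] at hφ
    exact sub_eq_zero.1 hφ.symm
  · intro ψ₂
    have hex := (preadditiveCoyoneda.obj (Opposite.op Mo)).homologySequence_exact₂ T hT i
    rw [ShortComplex.ab_exact_iff] at hex
    obtain ⟨φ, hφ⟩ := hex ψ₂ (hO i _)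
    exact ⟨φ, hφ⟩

/-- iterated cones of `f ∈ fs` on `X` vanish. -/
def Kz : List A → Dual.D A → Prop
  | [], X => IsZero X
  | f :: fs, X => ∀ (K : Dual.D A) (g : X ⟶ K) (h : K ⟶ X⟦(1 : ℤ)⟧),
      Triangle.mk (f • 𝟙 X) g h ∈ distinguishedTriangles → Kz fs K

lemma Kz_nil (X : Dual.D A) : Kz [] X ↔ IsZero X := Iff.rfl

lemma Kz_cons (f : A) (fs : List A) (X : Dual.D A) : Kz (f :: fs) X ↔
    ∀ (K : Dual.D A) (g : X ⟶ K) (h : K ⟶ X⟦(1 : ℤ)⟧),
      Triangle.mk (f • 𝟙 X) g h ∈ distinguishedTriangles → Kz fs K := Iff.rfl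

lemma Kz_iso (fs : List A) {X X' : Dual.D A} (e : X ≅ X') (h : Kz fs X) : Kz fs X' := by
  cases fs with
  | nil => exact IsZero.of_iso h e.symm
  | cons f fs =>
    rw [Kz_cons] at h ⊢
    intro K' g' h' hT'
    apply h K' (e.hom ≫ g') (h' ≫ (shiftFunctor (Dual.D A) (1 : ℤ)).map e.inv)
    refine isomorphic_distinguished _ hT' _ ?_
    refine Triangle.isoMk _ _ e e (Iso.refl _) ?_ ?_ ?_
    · show (f • 𝟙 X) ≫ e.hom = e.hom ≫ (f • 𝟙 X')
      rw [Linear.smul_comp, Linear.comp_smul, Category.id_comp, Category.comp_id]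
    · show (e.hom ≫ g') ≫ 𝟙 K' = e.hom ≫ g'
      rw [Category.comp_id]
    · show (h' ≫ (shiftFunctor (Dual.D A) (1 : ℤ)).map e.inv) ≫
        (shiftFunctor (Dual.D A) (1 : ℤ)).map e.hom = 𝟙 K' ≫ h'
      rw [Category.id_comp, Category.assoc, ← Functor.map_comp, e.inv_hom_id,
        CategoryTheory.Functor.map_id, Category.comp_id]

theorem orth_of_Kz (Mo : Dual.D A) : ∀ (fs : List A) (X : Dual.D A),
    (∀ f ∈ fs, ∃ n : ℕ, (f ^ n) • 𝟙 Mo = 0) → Kz fs X → Orth Mo X := by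
  intro fs
  induction fs with
  | nil =>
    intro X _ h
    exact Orth.of_isZero h
  | cons f fs ih =>
    intro X hnil h
    rw [Kz_cons] at h
    obtain ⟨K, g, hh, hT⟩ := distinguished_cocone_triangle (f • 𝟙 X)
    obtain ⟨n, hn⟩ := hnil f List.mem_cons_self
    exact orth_step f n hn g hh hT
      (ih K (fun f' hf' => hnil f' (List.mem_cons_of_mem _ hf')) (h K g hh hT))

theorem Kz_XN : ∀ (fs : List A) (P : Cx A), (∀ i, Module.Flat A (P.X i)) →
    Z (fun K => IsZero K) P (Ideal.span {x | x ∈ fs}) → ∀ N : ModuleCat.{u} A,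
      Kz fs (XN P N) := by
  intro fs
  induction fs with
  | nil =>
    intro P _ h N
    exact h N (fun a ha x => by
      have : a = 0 := by simpa using ha
      rw [this, zero_smul])
  | cons f fs ih =>
    intro P hfl h N
    rw [Kz_cons]
    intro K g hh hT
    have hZ : Z (fun K => IsZero K) (Kf f P) (Ideal.span {x | x ∈ fs}) := by
      apply Z_step P hfl isExtCl_isZero f
      have : Ideal.span {x | x ∈ f :: fs} = Ideal.span {x | x ∈ fs} ⊔ Ideal.span {f} := by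
        rw [← Ideal.span_union]
        congr 1
        ext x
        simp
      rw [← this]
      exact h
    have hfl' : ∀ i, Module.Flat A ((Kf f P).X i) :=
      fun i => Groth.Agent.H4.TC9.flat_mappingCone_X _ hfl hfl i
    have ih' := ih (Kf f P) hfl' hZ N
    have e := CochainComplex.mappingCone.mapHomologicalComplexIso (f • 𝟙 P) (tensorRight N)
    have h1 : (GC (tensorRight N)).map (f • 𝟙 P) = f • 𝟙 _ := by
      ext i : 1
      simp
    rw [h1] at e
    obtain ⟨g', h', hT'⟩ := exists_Kf_triangle f ((GC (tensorRight N)).obj P)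
    let τ := isoTriangleOfIso₁₂ _ _ hT' hT (Iso.refl _) (Iso.refl _)
      ((Category.comp_id _).trans (Category.id_comp _).symm)
    exact Kz_iso fs (Q.mapIso e ≪≫ Triangle.π₃.mapIso τ) ih'

lemma orth_of_isHocolim {X : Dual.D A} (K : ℕ → Dual.D A) (f : ∀ n, K n ⟶ K (n + 1))
    [HasCoproduct K] (Lo : Dual.D A) (i : ∀ n, K n ⟶ Lo)
    (h : DerLim.IsHocolim K f Lo i) (hK : ∀ n, Orth (K n) X) : Orth Lo X := by
  obtain ⟨c, hc⟩ := h
  intro j ψ
  have h1 : Sigma.desc i ≫ ψ = 0 := by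
    apply Sigma.hom_ext
    intro n
    rw [← Category.assoc, Sigma.ι_desc, comp_zero]
    exact hK n j _
  obtain ⟨ψ', hψ'⟩ := Triangle.yoneda_exact₃ _ hc ψ h1
  have h2 : ψ' = 0 := by
    apply (shiftFunctor (Dual.D A) (-1 : ℤ)).map_injective
    rw [Functor.map_zero]
    have h3 : (shiftFunctorCompIsoId (Dual.D A) (1 : ℤ) (-1) (by norm_num)).inv.app (∐ K) ≫
        (shiftFunctor (Dual.D A) (-1 : ℤ)).map ψ' = 0 := by
      apply Sigma.hom_ext
      intro n
      exact (((hK n).shift j) (-1) _).trans comp_zero.symm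
    exact (cancel_epi
      ((shiftFunctorCompIsoId (Dual.D A) (1 : ℤ) (-1) (by norm_num)).inv.app (∐ K))).1
      (h3.trans comp_zero.symm)
  rw [hψ', h2]
  exact comp_zero

end Groth.Agent.H4.LCT1
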