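import Mathlib
import Groth.Prelude.Def_Wider
set_option autoImplicit false
universe u
open CategoryTheory CategoryTheory.Limits
open scoped TensorProduct

namespace Groth.Agent.H4.LCT2

section ModuleLevel

variable {A B : Type u} [CommRing A] [CommRing B] [Algebra A B] (I : Ideal A)
  (hs : Function.Surjective ((Ideal.Quotient.mk (I.map (algebraMap A B))).comp (algebraMap A B)))
  (hk : RingHom.ker ((Ideal.Quotient.mk (I.map (algebraMap A B))).comp (algebraMap A B)) = I)

include hs in
lemma exists_sec (b : B) : ∃ a : A, b - algebraMap A B a ∈ I.map (algebraMap A B) := by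
  obtain ⟨a, ha⟩ := hs (Ideal.Quotient.mk _ b)
  refine ⟨a, ?_⟩
  rw [← Ideal.Quotient.eq]
  exact ha.symm

include hk in
lemma mem_of_algebraMap_mem (a : A) (ha : algebraMap A B a ∈ I.map (algebraMap A B)) : a ∈ I := by
  have h1 : a ∈ RingHom.ker
      ((Ideal.Quotient.mk (I.map (algebraMap A B))).comp (algebraMap A B)) := by
    rw [RingHom.mem_ker, RingHom.comp_apply, Ideal.Quotient.eq_zero_iff_mem]
    exact ha
  rwa [hk] at h1

/-- a chosen lift of `b` modulo `IB`. -/
noncomputable def sec (b : B) : A := (exists_sec I hs b).choose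

lemma sec_spec (b : B) : b - algebraMap A B (sec I hs b) ∈ I.map (algebraMap A B) :=
  (exists_sec I hs b).choose_spec

variable (T : Type u) [AddCommGroup T] [Module A T] (hT : ∀ a ∈ I, ∀ t : T, a • t = 0)

include hT in
lemma tmul_eq_zero_of_mem_map (c : B) (hc : c ∈ I.map (algebraMap A B)) (t : T) :
    c ⊗ₜ[A] t = 0 := by
  refine Submodule.span_induction (p := fun c _ => c ⊗ₜ[A] t = 0) ?_ ?_ ?_ ?_ hc
  · rintro c ⟨a, ha, rfl⟩
    rw [Algebra.algebraMap_eq_smul_one, TensorProduct.smul_tmul, hT a ha, TensorProduct.tmul_zero]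
  · exact TensorProduct.zero_tmul _ _
  · intro x y _ _ hx hy
    rw [TensorProduct.add_tmul, hx, hy, add_zero]
  · intro b x _ hx
    rw [← TensorProduct.smul_tmul', hx, smul_zero]

include hk hT in
lemma smul_eq_of_sub_mem (a a' : A)
    (h : algebraMap A B a - algebraMap A B a' ∈ I.map (algebraMap A B)) (t : T) :
    a • t = a' • t := by
  have h1 : a - a' ∈ I := mem_of_algebraMap_mem I hk _ (by rw [map_sub]; exact h)
  have h2 := hT _ h1 t
  rw [sub_smul, sub_eq_zero] at h2
  exact h2

/-- the retraction `B ⊗ T → T`. -/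
noncomputable def retr : B ⊗[A] T →ₗ[A] T :=
  TensorProduct.lift (LinearMap.mk₂ A (fun b t => sec I hs b • t)
    (fun b b' t => by
      rw [← add_smul]
      apply smul_eq_of_sub_mem I hk T hT
      have h1 := sec_spec I hs (b + b')
      have h2 := sec_spec I hs b
      have h3 := sec_spec I hs b'
      have h4 : algebraMap A B (sec I hs (b + b')) - algebraMap A B (sec I hs b + sec I hs b') =
          (b - algebraMap A B (sec I hs b)) + (b' - algebraMap A B (sec I hs b')) -
            ((b + b') - algebraMap A B (sec I hs (b + b'))) := by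
        rw [map_add]
        ring
      rw [h4]
      exact Ideal.sub_mem _ (Ideal.add_mem _ h2 h3) h1)
    (fun c b t => by
      rw [← mul_smul]
      apply smul_eq_of_sub_mem I hk T hT
      have h1 := sec_spec I hs (c • b)
      have h2 := sec_spec I hs b
      have h4 : algebraMap A B (sec I hs (c • b)) - algebraMap A B (c * sec I hs b) =
          algebraMap A B c * (b - algebraMap A B (sec I hs b)) -
            (c • b - algebraMap A B (sec I hs (c • b))) := by
        rw [map_mul, Algebra.smul_def]
        ring
      rw [h4]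
      exact Ideal.sub_mem _ (Ideal.mul_mem_left _ _ h2) h1)
    (fun b t t' => smul_add _ _ _)
    (fun c b t => smul_comm _ _ _))

lemma retr_tmul (b : B) (t : T) : retr I hs hk T hT (b ⊗ₜ t) = sec I hs b • t := by
  simp [retr]

include hs hk hT in
theorem bijective_one_tmul : Function.Bijective (fun t : T => (1 : B) ⊗ₜ[A] t) := by
  constructor
  · intro t t' h
    have h1 := congrArg (retr I hs hk T hT) h
    simp only [retr_tmul] at h1
    have h2 : ∀ x : T, sec I hs (1 : B) • x = x := fun x => by
      have h3 := smul_eq_of_sub_mem I hk T hT (sec I hs 1) 1 (by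
        rw [map_one, ← neg_sub]
        exact (Ideal.neg_mem_iff _).2 (sec_spec I hs (1 : B))) x
      rw [h3, one_smul]
    rwa [h2, h2] at h1
  · intro x
    induction x using TensorProduct.induction_on with
    | zero => exact ⟨0, TensorProduct.tmul_zero _ _⟩
    | tmul b t =>
      refine ⟨sec I hs b • t, ?_⟩
      have h1 := tmul_eq_zero_of_mem_map I T hT _ (sec_spec I hs b) t
      rw [TensorProduct.sub_tmul, sub_eq_zero] at h1
      show (1 : B) ⊗ₜ[A] (sec I hs b • t) = b ⊗ₜ t
      rw [h1, ← TensorProduct.smul_tmul, Algebra.algebraMap_eq_smul_one]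
    | add x y hx hy =>
      obtain ⟨t, rfl⟩ := hx
      obtain ⟨t', rfl⟩ := hy
      exact ⟨t + t', TensorProduct.tmul_add _ _ _⟩

include hs hk hT in
theorem bijective_rTensor : Function.Bijective ((Algebra.linearMap A B).rTensor T) := by
  have hμ := bijective_one_tmul I hs hk T hT
  have heq : ⇑((Algebra.linearMap A B).rTensor T) =
      (fun t : T => (1 : B) ⊗ₜ[A] t) ∘ (TensorProduct.lid A T) := by
    ext x
    induction x using TensorProduct.induction_on with
    | zero => simp
    | tmul a t =>
      simp only [LinearMap.rTensor_tmul, Algebra.linearMap_apply, Function.comp_apply,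
        TensorProduct.lid_tmul]
      rw [Algebra.algebraMap_eq_smul_one, TensorProduct.smul_tmul]
    | add x y hx hy =>
      simp only [map_add, Function.comp_apply] at hx hy ⊢
      rw [hx, hy, TensorProduct.tmul_add]
  rw [heq]
  exact hμ.comp (TensorProduct.lid A T).bijective

end ModuleLevel

section Torsion

variable {A : Type u} [CommRing A] (I : Ideal A) (M : Type u) [AddCommGroup M] [Module A M]

/-- the `I^n`-torsion submodule. -/
abbrev S (n : ℕ) : Submodule A M := Submodule.torsionBySet A M ((I ^ n : Ideal A) : Set A)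

lemma S_mono {m n : ℕ} (h : m ≤ n) : S I M m ≤ S I M n :=
  Submodule.torsionBySet_le_torsionBySet_of_subset
    (SetLike.coe_subset_coe.2 (Ideal.pow_le_pow_right h))

/-- the tower of torsion submodules. -/
noncomputable def Lmod : ℕ ⥤ ModuleCat.{u} A where
  obj n := ModuleCat.of A (S I M n)
  map {m n} h := ModuleCat.ofHom (Submodule.inclusion (S_mono I M (leOfHom h)))
  map_id n := by
    refine ModuleCat.hom_ext (LinearMap.ext fun x => ?_)
    rfl
  map_comp h1 h2 := by
    refine ModuleCat.hom_ext (LinearMap.ext fun x => ?_)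
    rfl

/-- the cocone with point `M`. -/
noncomputable def Lcocone : Cocone (Lmod I M) where
  pt := ModuleCat.of A M
  ι :=
    { app := fun n => ModuleCat.ofHom (S I M n).subtype
      naturality := fun m n h => by
        refine ModuleCat.hom_ext (LinearMap.ext fun x => ?_)
        rfl }

/-- a power torsion module is the colimit of its torsion submodules. -/
noncomputable def LisColimit (hM : LocCoh.IsPowerTorsion I M) : IsColimit (Lcocone I M) := by
  haveI : PreservesFilteredColimitsOfSize.{0, 0} (forget (ModuleCat.{u} A)) :=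
    preservesFilteredColimitsOfSize_shrink.{0, u, 0, u} _
  haveI : PreservesColimitsOfShape ℕ (forget (ModuleCat.{u} A)) :=
    PreservesFilteredColimitsOfSize.preserves_filtered_colimits ℕ
  haveI : ReflectsColimitsOfShape ℕ (forget (ModuleCat.{u} A)) :=
    reflectsColimitsOfShape_of_reflectsIsomorphisms
  refine isColimitOfReflects (forget (ModuleCat.{u} A)) ?_
  refine Types.FilteredColimit.isColimitOf' _ _ ?_ ?_
  · intro (x : M)
    obtain ⟨n, hn⟩ := hM x
    exact ⟨n, ⟨x, (Submodule.mem_torsionBySet_iff _ _).2 (fun a => hn a.1 a.2)⟩, rfl⟩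
  · intro n (x : S I M n) (y : S I M n) (hxy : (x : M) = y)
    exact ⟨n, 𝟙 n, by rw [Subtype.ext hxy]⟩

lemma nil_S (n : ℕ) (f : A) (hf : f ∈ I) :
    (f ^ n) • 𝟙 (ModuleCat.of A (S I M n)) = 0 := by
  refine ModuleCat.hom_ext (LinearMap.ext fun x => ?_)
  apply Subtype.ext
  exact (Submodule.mem_torsionBySet_iff _ _).1 x.2 ⟨f ^ n, Ideal.pow_mem_pow hf n⟩

end Torsion

end Groth.Agent.H4.LCT2
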