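import Mathlib
import Groth.Agent.H4.PCDesc2
import Groth.Agent.H4.LDer7

/-!
# `R ⊗^L_{R[X]} K ≅ K ⊕ K[1]` for `K` in `D(R)` (evaluation at zero)
-/
set_option autoImplicit false
universe u
open CategoryTheory CategoryTheory.Limits MonoidalCategory Polynomial

namespace Groth.Agent.H4.PolyEv

open Groth.Agent.H4.ProjF Groth.Agent.H4.PCDesc

variable (R : Type u) [CommRing R]

/-- the structure map `R → R[X]`. -/
noncomputable abbrev Cm : R →+* R[X] := Polynomial.C
/-- evaluation at zero. -/
noncomputable abbrev ev : R[X] →+* R := Polynomial.evalRingHom (0 : R)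

lemma ev_comp_Cm : (ev R).comp (Cm R) = RingHom.id R := by
  ext r
  simp

/-- the identification `M = res_C (res_ev M)`. -/
noncomputable def eta : 𝟭 (ModuleCat.{u} R) ≅
    ModuleCat.restrictScalars.{u} (ev R) ⋙ ModuleCat.restrictScalars.{u} (Cm R) :=
  (ModuleCat.restrictScalarsId' ((ev R).comp (Cm R)) (ev_comp_Cm R)).symm ≪≫
    ModuleCat.restrictScalarsComp' (Cm R) (ev R) _ rfl

/-- the augmentation `R[X] ⊗_R M → M`. -/
noncomputable def eps : ModuleCat.extendScalars.{u, u, u} (Cm R) ⟶
    ModuleCat.restrictScalars.{u} (ev R) where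
  app M := (ModuleCat.extendScalars.{u, u, u} (Cm R)).map ((eta R).hom.app M) ≫
    (ModuleCat.extendRestrictScalarsAdj (Cm R)).counit.app
      ((ModuleCat.restrictScalars.{u} (ev R)).obj M)
  naturality M N f := by
    have h1 := (eta R).hom.naturality f
    have h2 := (ModuleCat.extendRestrictScalarsAdj (Cm R)).counit.naturality
      ((ModuleCat.restrictScalars.{u} (ev R)).map f)
    simp only [Functor.id_map, Functor.comp_map, Functor.id_obj, Functor.comp_obj] at h1 h2
    rw [← Category.assoc, ← Functor.map_comp, h1, Functor.map_comp, Category.assoc, h2,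
      Category.assoc]

lemma eps_et (M : ModuleCat.{u} R) (s : R[X]) (m : M) :
    (eps R).app M (et (Cm R) M s m) = ((ev R s) • m : M) := by
  rfl

lemma eps_et' (M : ModuleCat.{u} R) (s : R[X]) (m : M) :
    (eps R).app M (et (Cm R) M s m) = ((s.coeff 0) • m : M) := by
  rw [eps_et]
  congr 1
  simp [Polynomial.coeff_zero_eq_eval_zero]

/-- the additive map `s ⊗ m ↦ divX s ⊗ m`. -/
noncomputable def Dm (M : ModuleCat.{u} R) :
    ((ModuleCat.extendScalars.{u, u, u} (Cm R)).obj M) →+
      ((ModuleCat.extendScalars.{u, u, u} (Cm R)).obj M) :=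
  TensorProduct.liftAddHom (R := R)
    (M := (ModuleCat.restrictScalars.{u} (Cm R)).obj (ModuleCat.of R[X] R[X])) (N := M)
    { toFun := fun s =>
        { toFun := fun m => et (Cm R) M (divX (show R[X] from s)) m
          map_zero' := et_zero _ _ _
          map_add' := fun m m' => et_add _ _ _ _ _ }
      map_zero' := by
        ext m
        show et (Cm R) M (divX (0 : R[X])) m = 0
        rw [divX_zero]
        exact TensorProduct.zero_tmul _ _
      map_add' := fun s s' => by
        ext m
        show et (Cm R) M (divX ((show R[X] from s) + (show R[X] from s'))) m = _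
        rw [divX_add]
        exact TensorProduct.add_tmul _ _ _ }
    (fun r s m => by
      show et (Cm R) M (divX (Polynomial.C r * (show R[X] from s))) m =
        et (Cm R) M (divX (show R[X] from s)) (r • m)
      rw [divX_C_mul, et_smul])

lemma Dm_et (M : ModuleCat.{u} R) (s : R[X]) (m : M) :
    Dm R M (et (Cm R) M s m) = et (Cm R) M (divX s) m := rfl

lemma et_add_left (M : ModuleCat.{u} R) (s s' : R[X]) (m : M) :
    et (Cm R) M (s + s') m = et (Cm R) M s m + et (Cm R) M s' m :=
  TensorProduct.add_tmul _ _ _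

lemma divX_X_mul (p : R[X]) : divX (X * p) = p := by
  ext n
  rw [coeff_divX, coeff_X_mul]

lemma Dm_smul (M : ModuleCat.{u} R) (t : (ModuleCat.extendScalars.{u, u, u} (Cm R)).obj M) :
    Dm R M ((X : R[X]) • t) = t := by
  induction t using ext_induction (Cm R) with
  | zero => rw [smul_zero, map_zero]
  | tmul s m => rw [smul_et, Dm_et, divX_X_mul]
  | add e e' he he' => rw [smul_add, map_add, he, he']

/-- `m ↦ 1 ⊗ m`. -/
noncomputable def io (M : ModuleCat.{u} R) (m : (ModuleCat.restrictScalars.{u} (ev R)).obj M) :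
    (ModuleCat.extendScalars.{u, u, u} (Cm R)).obj M := et (Cm R) M 1 (show M from m)

lemma io_zero (M : ModuleCat.{u} R) : io R M 0 = 0 := et_zero _ _ _
lemma io_add (M : ModuleCat.{u} R) (m m' : (ModuleCat.restrictScalars.{u} (ev R)).obj M) :
    io R M (m + m') = io R M m + io R M m' := et_add _ _ _ _ _

lemma io_eps_et (M : ModuleCat.{u} R) (s : R[X]) (m : M) :
    io R M ((eps R).app M (et (Cm R) M s m)) = et (Cm R) M (Polynomial.C (s.coeff 0)) m := by
  rw [eps_et']
  show et (Cm R) M 1 ((s.coeff 0) • m) = _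
  rw [et_smul, mul_one]

lemma eps_io (M : ModuleCat.{u} R) (m : (ModuleCat.restrictScalars.{u} (ev R)).obj M) :
    (eps R).app M (io R M m) = m := by
  show (eps R).app M (et (Cm R) M 1 (show M from m)) = m
  rw [eps_et]
  show ((ev R) 1 • (show M from m) : M) = (show M from m)
  rw [map_one, one_smul]

lemma eps_smul_X (M : ModuleCat.{u} R) (t : (ModuleCat.extendScalars.{u, u, u} (Cm R)).obj M) :
    (eps R).app M ((X : R[X]) • t) = 0 := by
  induction t using ext_induction (Cm R) with
  | zero => rw [smul_zero, map_zero]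
  | tmul s m =>
    rw [smul_et, eps_et]
    have : (ev R) (X * s) = 0 := by simp
    rw [this, zero_smul]
    rfl
  | add e e' he he' => rw [smul_add, map_add, he, he', add_zero]

lemma decomp (M : ModuleCat.{u} R) (t : (ModuleCat.extendScalars.{u, u, u} (Cm R)).obj M) :
    t = (X : R[X]) • Dm R M t + io R M ((eps R).app M t) := by
  induction t using ext_induction (Cm R) with
  | zero => rw [map_zero, map_zero, smul_zero, io_zero, add_zero]
  | tmul s m =>
    rw [Dm_et, smul_et, io_eps_et, ← et_add_left, X_mul_divX_add]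
  | add e e' he he' =>
    rw [map_add, map_add, smul_add, io_add]
    nth_rw 1 [he, he']
    abel

/-- multiplication by `X`. -/
noncomputable def mu (M : ModuleCat.{u} R) :
    (ModuleCat.extendScalars.{u, u, u} (Cm R)).obj M ⟶
      (ModuleCat.extendScalars.{u, u, u} (Cm R)).obj M := (X : R[X]) • 𝟙 _

lemma mu_apply (M : ModuleCat.{u} R) (t : (ModuleCat.extendScalars.{u, u, u} (Cm R)).obj M) :
    mu R M t = (X : R[X]) • t := rfl

lemma mu_eps (M : ModuleCat.{u} R) : mu R M ≫ (eps R).app M = 0 := by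
  refine ModuleCat.hom_ext (LinearMap.ext fun t => ?_)
  exact eps_smul_X R M t

lemma shortExact_mod (M : ModuleCat.{u} R) :
    (ShortComplex.mk (mu R M) ((eps R).app M) (mu_eps R M)).ShortExact := by
  refine ShortComplex.ShortExact.mk' ?_ ?_ ?_
  · rw [ShortComplex.moduleCat_exact_iff]
    intro t ht
    refine ⟨Dm R M t, ?_⟩
    have h := decomp R M t
    change (eps R).app M t = 0 at ht
    rw [ht, io_zero, add_zero] at h
    exact h.symm
  · rw [ModuleCat.mono_iff_injective]
    intro t t' h
    change mu R M t = mu R M t' at h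
    rw [mu_apply, mu_apply] at h
    have := congrArg (Dm R M) h
    rwa [Dm_smul, Dm_smul] at this
  · rw [ModuleCat.epi_iff_surjective]
    intro m
    exact ⟨io R M m, eps_io R M m⟩

attribute [local instance] HasDerivedCategory.standard
open DerivedCategory DRing Groth.Agent.H4.LDer Groth.Agent.H4.PC Groth.Agent.H4.BC
open CochainComplex (mappingCone)

variable (Y : Cx R)

/-- `R[X] ⊗_R Y`. -/
noncomputable abbrev EE : Cx R[X] := (GC (ModuleCat.extendScalars.{u, u, u} (Cm R))).obj Y

/-- multiplication by `X` on `R[X] ⊗_R Y`. -/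
noncomputable def muC : EE R Y ⟶ EE R Y := (X : R[X]) • 𝟙 _

/-- the augmentation. -/
noncomputable def epsC : EE R Y ⟶ (GC (ModuleCat.restrictScalars.{u} (ev R))).obj Y :=
  (NatTrans.mapHomologicalComplex (eps R) (ComplexShape.up ℤ)).app Y

lemma muC_epsC : muC R Y ≫ epsC R Y = 0 := by
  ext i : 1
  exact mu_eps R (Y.X i)

lemma shortExact_cx : (ShortComplex.mk (muC R Y) (epsC R Y) (muC_epsC R Y)).ShortExact := by
  apply HomologicalComplex.shortExact_of_degreewise_shortExact
  intro i
  exact shortExact_mod R (Y.X i)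

lemma extendScalars_map_smul {A B : Type u} [CommRing A] [CommRing B] (f : A →+* B)
    {M N : ModuleCat.{u} A} (g : M ⟶ N) (a : A) :
    (ModuleCat.extendScalars.{u, u, u} f).map (a • g) =
      f a • (ModuleCat.extendScalars.{u, u, u} f).map g := by
  refine ModuleCat.hom_ext (LinearMap.ext fun t => ?_)
  induction t using ext_induction f with
  | zero => rw [map_zero, map_zero]
  | tmul b m =>
    rw [map_et]
    change et f N b (a • g m) = f a • (ModuleCat.extendScalars.{u, u, u} f).map g (et f M b m)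
    rw [map_et, smul_et, et_smul]
  | add e e' he he' => rw [map_add, map_add, he, he']

lemma map_muC : (GC (ModuleCat.extendScalars.{u, u, u} (ev R))).map (muC R Y) = 0 := by
  ext i : 1
  change (ModuleCat.extendScalars.{u, u, u} (ev R)).map ((X : R[X]) • 𝟙 _) = 0
  rw [extendScalars_map_smul]
  have : (ev R) X = 0 := by simp
  rw [this, zero_smul]

open CategoryTheory.Pretriangulated

lemma nonempty_cone_zero (Z : Cx R) (f : Z ⟶ Z) (hf : f = 0) :
    ∃ (_ : HasBinaryBiproduct (toD Z) ((toD Z)⟦(1 : ℤ)⟧)),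
      Nonempty (toD (mappingCone f) ≅ toD Z ⊞ (toD Z)⟦(1 : ℤ)⟧) := by
  have hT := mapTriangle_distinguished f
  have hT' := rot_of_distTriang _ hT
  have hz : (Q.mapTriangle.obj (mappingCone.triangle f)).rotate.mor₃ = 0 := by
    subst hf
    change -(shiftFunctor (DerivedCategory (ModuleCat R)) (1 : ℤ)).map (Q.map 0) = 0
    rw [Functor.map_zero, Functor.map_zero, neg_zero]
  obtain ⟨e, -, -⟩ := exists_iso_binaryBiproduct_of_distTriang _ hT' hz
  exact ⟨inferInstance, ⟨e⟩⟩

/-- `R ⊗_{R[X]} (R[X] ⊗_R M) ≅ M`. -/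
noncomputable def alpha : ModuleCat.extendScalars.{u, u, u} (Cm R) ⋙
    ModuleCat.extendScalars.{u, u, u} (ev R) ≅ 𝟭 (ModuleCat.{u} R) :=
  (ModuleCat.extendScalarsComp (Cm R) (ev R)).symm ≪≫
    eqToIso (congrArg (fun f => ModuleCat.extendScalars.{u, u, u} f) (ev_comp_Cm R)) ≪≫
    ModuleCat.extendScalarsId R

/-- `R ⊗_{R[X]} (R[X] ⊗_R Y) ≅ Y`. -/
noncomputable def alphaC : (GC (ModuleCat.extendScalars.{u, u, u} (ev R))).obj (EE R Y) ≅ Y :=
  HomologicalComplex.Hom.isoOfComponents (fun i => (alpha R).app (Y.X i))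
    (fun i j _ => by
      have := (alpha R).hom.naturality (Y.d i j)
      exact this.symm)

theorem main0 [DRing.HasLBaseChange (ev R)] [Y.IsKProjective] :
    ∃ (_ : HasBinaryBiproduct (toD Y) ((toD Y)⟦(1 : ℤ)⟧)),
    Nonempty ((DRing.LBaseChange (ev R)).obj ((DRing.restrictD (ev R)).obj (toD Y)) ≅
      toD Y ⊞ (toD Y)⟦(1 : ℤ)⟧) := by
  have hS := shortExact_cx R Y
  haveI := CochainComplex.mappingCone.quasiIso_descShortComplex hS
  let e1 : toD (mappingCone (muC R Y)) ≅
      toD ((GC (ModuleCat.restrictScalars.{u} (ev R))).obj Y) :=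
    asIso (Q.map (CochainComplex.mappingCone.descShortComplex
      (ShortComplex.mk (muC R Y) (epsC R Y) (muC_epsC R Y))))
  let e2 : (DRing.restrictD (ev R)).obj (toD Y) ≅
      toD ((GC (ModuleCat.restrictScalars.{u} (ev R))).obj Y) :=
    ((ModuleCat.restrictScalars.{u} (ev R)).mapDerivedCategoryFactors).app Y
  let e3 := isoOfKProj (ModuleCat.extendScalars.{u, u, u} (ev R)) (mappingCone (muC R Y))
  let e4 := Q.mapIso (mappingCone.mapHomologicalComplexIso (muC R Y)
    (ModuleCat.extendScalars.{u, u, u} (ev R)))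
  obtain ⟨hb, ⟨e5⟩⟩ := nonempty_cone_zero R _ _ (map_muC R Y)
  let e6 : toD ((GC (ModuleCat.extendScalars.{u, u, u} (ev R))).obj (EE R Y)) ≅ toD Y :=
    Q.mapIso (alphaC R Y)
  refine ⟨inferInstance, ⟨(DRing.LBaseChange (ev R)).mapIso (e2 ≪≫ e1.symm) ≪≫ e3 ≪≫ e4 ≪≫ e5 ≪≫
    biprod.mapIso e6 ((shiftFunctor _ (1 : ℤ)).mapIso e6)⟩⟩

end Groth.Agent.H4.PolyEv
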