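import Mathlib
import Groth.Agent.H4.PC8

set_option autoImplicit false
universe u
open CategoryTheory CategoryTheory.Limits CategoryTheory.Pretriangulated

/-!
# Descent of pseudo-coherence: abstract mechanism for a family of "triangulated" object maps
-/

namespace Groth.Agent.H4.PCDesc

attribute [local instance] HasDerivedCategory.standard

open DerivedCategory DRing Groth.Agent.H4.PC Groth.Agent.H4.DRing1

variable {A : Type u} [CommRing A] {ι : Type*} {B : ι → Type u} [∀ i, CommRing (B i)]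
  (Φ : ∀ i, Dual.D A → Dual.D (B i))

/-- the hypotheses on a family of object maps `D(A) → D(B i)` under which pseudo-coherence can be
detected after applying the family. -/
structure Detects : Prop where
  /-- distinguished triangles go to distinguished triangles, up to isomorphism of vertices -/
  tri : ∀ (i : ι) (T : Triangle (Dual.D A)), T ∈ distinguishedTriangles →
    ∃ T' : Triangle (Dual.D (B i)), T' ∈ distinguishedTriangles ∧
      Nonempty (T'.obj₁ ≅ Φ i T.obj₁) ∧ Nonempty (T'.obj₂ ≅ Φ i T.obj₂) ∧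
      Nonempty (T'.obj₃ ≅ Φ i T.obj₃)
  /-- finite free modules go to pseudo-coherent objects -/
  sgl : ∀ (i : ι) (k : ℕ) (b j : ℤ),
    IsPseudoCoherent (B i) j (Φ i (toD (Groth.Agent.H4.ProjAmp.sgl (ModuleCat.of A (Fin k → A)) b)))
  /-- right t-exactness -/
  isLE : ∀ (i : ι) (K : Dual.D A) (b : ℤ), K.IsLE b → (Φ i K).IsLE b
  /-- boundedness above is detected -/
  bdd : ∀ K : Dual.D A, (∀ i, ∃ b : ℤ, (Φ i K).IsLE b) → ∃ b : ℤ, K.IsLE b
  /-- finiteness of the top cohomology is detected -/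
  fin : ∀ (K : Dual.D A) (b : ℤ), K.IsLE b →
    (∀ i, Module.Finite (B i) ((homologyFunctor (ModuleCat.{u} (B i)) b).obj (Φ i K))) →
    Module.Finite A ((homologyFunctor (ModuleCat.{u} A) b).obj K)

variable {Φ}

theorem Detects.isPC_aux (hΦ : Detects Φ) (m : ℤ) (d : ℕ) : ∀ (b : ℤ) (K : Dual.D A), b < m + d →
    K.IsLE b → (∀ i, IsPseudoCoherent (B i) m (Φ i K)) → IsPseudoCoherent A m K := by
  induction d with
  | zero =>
    intro b K hb hK _
    haveI : K.IsLE (m - 1) := TStructure.t.isLE_of_le K b (m - 1) (by push_cast at hb; omega)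
    exact isPC_of_isLE m K
  | succ d ih =>
    intro b K hb hK h
    by_cases hbm : b < m
    · haveI : K.IsLE (m - 1) := TStructure.t.isLE_of_le K b (m - 1) (by omega)
      exact isPC_of_isLE m K
    have hmb : m ≤ b := by omega
    have hfin : Module.Finite A ((homologyFunctor (ModuleCat.{u} A) b).obj K) := by
      refine hΦ.fin K b hK (fun i => ?_)
      haveI := hΦ.isLE i K b hK
      exact finite_homology _ b (isPC_mono hmb (h i)) (fun j hj => isZero_of_isLE _ b j hj)
    obtain ⟨k, ψ, hψ⟩ := exists_wit_from_sgl K b hfin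
    obtain ⟨C, g, hh, hT⟩ := distinguished_cocone_triangle ψ
    have hC : C.IsLE (b - 1) := (isWit_iff_isLE _ hT b).1 hψ
    have hsgl : ∀ j : ℤ, IsPseudoCoherent A j
        (toD (Groth.Agent.H4.ProjAmp.sgl (ModuleCat.of A (Fin k → A)) b)) :=
      fun j => isPC_toD j _ (isBFF_sgl _ b)
    have hC' : IsPseudoCoherent A m C := by
      refine ih (b - 1) C (by push_cast at hb; omega) hC (fun i => ?_)
      obtain ⟨T', hT', ⟨e₁⟩, ⟨e₂⟩, ⟨e₃⟩⟩ := hΦ.tri i _ hT
      have h₁ : IsPseudoCoherent (B i) (m + 1) T'.obj₁ := isPC_of_iso e₁.symm (hΦ.sgl i k b (m + 1))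
      have h₂ : IsPseudoCoherent (B i) m T'.obj₂ := isPC_of_iso e₂.symm (h i)
      exact isPC_of_iso e₃ (isPC_obj₃ T' hT' m h₁ h₂)
    exact isPC_obj₂ _ hT m (hsgl m) hC'

/-- **Descent of pseudo-coherence**, abstract form. -/
theorem Detects.isPC (hΦ : Detects Φ) (m : ℤ) (K : Dual.D A)
    (h : ∀ i, IsPseudoCoherent (B i) m (Φ i K)) : IsPseudoCoherent A m K := by
  obtain ⟨b, hK⟩ := hΦ.bdd K (fun i => by
    obtain ⟨b, hb⟩ := exists_bound_of_isPC (h i)
    exact ⟨b, isLE_of_forall_isZero _ b hb⟩)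
  exact hΦ.isPC_aux m (b + 1 - m).toNat b K (by
    have := Int.self_le_toNat (b + 1 - m); omega) hK h

theorem Detects.isPC' (hΦ : Detects Φ) (K : Dual.D A)
    (h : ∀ i, IsPseudoCoherent' (B i) (Φ i K)) : IsPseudoCoherent' A K :=
  isPC'_of_forall_isPC K (fun m => hΦ.isPC m K (fun i => isPC_of_isPC' _ (h i) m))

end Groth.Agent.H4.PCDesc
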