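import Mathlib
import Groth.Agent.H4.PCDesc3
import Groth.Agent.H4.DComp10

set_option autoImplicit false
universe u
open CategoryTheory CategoryTheory.Limits CategoryTheory.Pretriangulated

namespace Groth.Agent.H4.RestrPC

attribute [local instance] HasDerivedCategory.standard

open DerivedCategory DRing Groth.Agent.H4.PC Groth.Agent.H4.DRing1 Groth.Agent.H4.PCDesc

variable {A B : Type u} [CommRing A] [CommRing B] (φ : A →+* B)

lemma finite_of_finite_restrictScalars (M : ModuleCat.{u} B)
    (h : Module.Finite A ((ModuleCat.restrictScalars.{u} φ).obj M)) : Module.Finite B M := by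
  obtain ⟨s, hs⟩ := h.fg_top
  refine ⟨⟨s, ?_⟩⟩
  rw [eq_top_iff]
  rintro x -
  have hx : (x : (ModuleCat.restrictScalars.{u} φ).obj M) ∈
      Submodule.span A (s : Set ((ModuleCat.restrictScalars.{u} φ).obj M)) := by rw [hs]; trivial
  induction hx using Submodule.span_induction with
  | mem y hy => exact Submodule.subset_span hy
  | zero => exact Submodule.zero_mem _
  | add y z _ _ hy hz => exact Submodule.add_mem _ hy hz
  | smul a y _ hy => exact Submodule.smul_mem _ (φ a) hy

lemma isZero_restrictScalars_iff (M : ModuleCat.{u} B) :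
    IsZero ((ModuleCat.restrictScalars.{u} φ).obj M) ↔ IsZero M := by
  constructor
  · intro h
    haveI : Subsingleton M :=
      ModuleCat.subsingleton_of_isZero (M := (ModuleCat.restrictScalars.{u} φ).obj M) h
    exact ModuleCat.isZero_of_subsingleton M
  · intro h
    exact (ModuleCat.restrictScalars.{u} φ).map_isZero h

lemma isLE_restrictD_iff (K : Dual.D B) (b : ℤ) :
    ((restrictD φ).obj K).IsLE b ↔ K.IsLE b := by
  rw [isLE_iff, isLE_iff]
  refine forall_congr' (fun i => imp_congr_right (fun _ => ?_))
  rw [← isZero_restrictScalars_iff φ]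
  exact (Groth.Agent.H4.DComp.restrictHomologyIso φ K i).isZero_iff

section Alg

/-- `b ↦ (b, 0, …, 0)`. -/
def inc (B : Type u) [CommRing B] (n : ℕ) : B →ₗ[B] (Fin (n + 1) → B) where
  toFun := fun b i => if i = 0 then b else 0
  map_add' := fun x y => by funext i; by_cases h : i = 0 <;> simp [h]
  map_smul' := fun c x => by funext i; by_cases h : i = 0 <;> simp [h]

/-- forget the first coordinate. -/
def tl (B : Type u) [CommRing B] (n : ℕ) : (Fin (n + 1) → B) →ₗ[B] (Fin n → B) where
  toFun := fun v j => v j.succ
  map_add' := fun _ _ => rfl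
  map_smul' := fun _ _ => rfl

/-- the short exact sequence `0 → B → B^{n+1} → B^n → 0`. -/
noncomputable def freeSC (B : Type u) [CommRing B] (n : ℕ) : ShortComplex (ModuleCat.{u} B) :=
  ShortComplex.mk (X₁ := ModuleCat.of B B) (X₂ := ModuleCat.of B (Fin (n + 1) → B))
    (X₃ := ModuleCat.of B (Fin n → B))
    (ModuleCat.ofHom (inc B n)) (ModuleCat.ofHom (tl B n)) (by
      rw [← ModuleCat.ofHom_comp]
      have : tl B n ∘ₗ inc B n = 0 := by
        ext x
        simp [tl, inc, Fin.succ_ne_zero]
      rw [this]
      rfl)

lemma freeSC_shortExact (n : ℕ) : (freeSC B n).ShortExact := by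
  refine ShortComplex.ShortExact.mk' ?_ ?_ ?_
  · rw [ShortComplex.ShortExact.moduleCat_exact_iff_function_exact]
    intro v
    change tl B n v = 0 ↔ v ∈ Set.range (inc B n)
    constructor
    · intro hv
      refine ⟨v 0, ?_⟩
      funext i
      refine Fin.cases ?_ (fun j => ?_) i
      · simp [inc]
      · have := congrFun hv j
        simp only [tl, LinearMap.coe_mk, AddHom.coe_mk, Pi.zero_apply] at this
        simp [inc, Fin.succ_ne_zero, this]
    · rintro ⟨b, rfl⟩
      funext j
      simp [tl, inc, Fin.succ_ne_zero]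
  · rw [ModuleCat.mono_iff_injective]
    intro x y hxy
    have := congrFun hxy 0
    change inc B n x 0 = inc B n y 0 at this
    simp only [inc, LinearMap.coe_mk, AddHom.coe_mk] at this
    exact this
  · rw [ModuleCat.epi_iff_surjective]
    intro w
    refine ⟨(Fin.cons 0 w : Fin (n + 1) → B), ?_⟩
    change tl B n _ = w
    funext j
    simp only [tl, LinearMap.coe_mk, AddHom.coe_mk]
    exact Fin.cons_succ _ _ _

variable [Algebra A B]

noncomputable def linE : @LinearEquiv A A _ _ (RingHom.id A) (RingHom.id A) _ _ B B _ _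
    Algebra.toModule (Module.compHom B (algebraMap A B)) :=
  @LinearEquiv.mk A A _ _ (RingHom.id A) (RingHom.id A) _ _ B B _ _
    Algebra.toModule (Module.compHom B (algebraMap A B))
    (@LinearMap.mk A A _ _ (RingHom.id A) B B _ _ Algebra.toModule (Module.compHom B (algebraMap A B))
      ⟨fun b => b, fun _ _ => rfl⟩ (fun a b => Algebra.smul_def a b))
    (fun b => b) (fun _ => rfl) (fun _ => rfl)

/-- `B` as an `A`-module is the restriction of scalars of `B`. -/
noncomputable def ofIsoRestrict : ModuleCat.of A B ≅
    (ModuleCat.restrictScalars.{u} (algebraMap A B)).obj (ModuleCat.of B B) :=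
  @LinearEquiv.toModuleIso A _ B B _ _ Algebra.toModule (Module.compHom B (algebraMap A B)) linE

/-- restrictions of finite free `B`-modules are pseudo-coherent over `A` when `B` is. -/
theorem isPC_single_restrict_pi (hB : DRing.IsPseudoCoherentModule' A B) (n : ℕ) : ∀ j : ℤ,
    IsPseudoCoherent A j ((singleFunctor (ModuleCat.{u} A) 0).obj
      ((ModuleCat.restrictScalars.{u} (algebraMap A B)).obj (ModuleCat.of B (Fin n → B)))) := by
  induction n with
  | zero =>
    intro j
    haveI : Subsingleton ((ModuleCat.restrictScalars.{u} (algebraMap A B)).obj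
        (ModuleCat.of B (Fin 0 → B))) := (inferInstance : Subsingleton (Fin 0 → B))
    exact isPC_single_of_subsingleton j 0 _
  | succ n ih =>
    intro j
    have hS := (freeSC_shortExact (B := B) n).map_of_exact
      (ModuleCat.restrictScalars.{u} (algebraMap A B))
    refine isPC_X₂_of_shortExact _ hS j ?_ (ih j)
    exact isPC_single_of_iso ofIsoRestrict (isPC_of_isPC' _ hB j)

end Alg

section Alg2

variable [Algebra A B]

/-- restriction of scalars commutes with `toD`. -/
noncomputable def restrictToDIso (X : Cx B) : (restrictD (algebraMap A B)).obj (toD X) ≅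
    toD (((ModuleCat.restrictScalars.{u} (algebraMap A B)).mapHomologicalComplex
      (ComplexShape.up ℤ)).obj X) :=
  (ModuleCat.restrictScalars.{u} (algebraMap A B)).mapDerivedCategoryFactors.app X

theorem detects_restrictD (hB : DRing.IsPseudoCoherentModule' A B) :
    Detects (A := B) (B := fun _ : PUnit.{1} => A)
      (fun _ => (restrictD (algebraMap A B)).obj) where
  tri := fun _ T hT => ⟨(restrictD (algebraMap A B)).mapTriangle.obj T,
    (restrictD (algebraMap A B)).map_distinguished T hT, ⟨Iso.refl _⟩, ⟨Iso.refl _⟩, ⟨Iso.refl _⟩⟩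
  sgl := fun _ k b j => by
    refine isPC_of_iso (restrictToDIso _).symm ?_
    refine isPC_toD_of_concentrated j _ b (fun i hi => ?_) ?_
    · exact (ModuleCat.restrictScalars.{u} (algebraMap A B)).map_isZero
        (HomologicalComplex.isZero_single_obj_X _ _ _ _ hi)
    · refine isPC_single_of_iso ((ModuleCat.restrictScalars.{u} (algebraMap A B)).mapIso
        (HomologicalComplex.singleObjXSelf (ComplexShape.up ℤ) b
          (ModuleCat.of B (Fin k → B))).symm) (isPC_single_restrict_pi hB k _)
  isLE := fun _ K b hK => (isLE_restrictD_iff _ K b).2 hK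
  bdd := fun K h => by
    obtain ⟨b, hb⟩ := h PUnit.unit
    exact ⟨b, (isLE_restrictD_iff _ K b).1 hb⟩
  fin := fun K b _ h => by
    refine finite_of_finite_restrictScalars (algebraMap A B) _ ?_
    haveI := h PUnit.unit
    exact Module.Finite.equiv
      (Groth.Agent.H4.DComp.restrictHomologyIso (algebraMap A B) K b).toLinearEquiv

end Alg2

section Alg3

variable [Algebra A B]

/-- restriction of scalars along a pseudo-coherent algebra preserves `m`-pseudo-coherence. -/
theorem isPC_restrictD (hB : DRing.IsPseudoCoherentModule' A B) (m : ℤ) (K : Dual.D B)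
    (h : IsPseudoCoherent B m K) :
    IsPseudoCoherent A m ((restrictD (algebraMap A B)).obj K) := by
  rw [isPC_iff] at h
  obtain ⟨E, hE, α, hα⟩ := h
  obtain ⟨C, g, hh, hT⟩ := distinguished_cocone_triangle α
  have hC : C.IsLE (m - 1) := (isWit_iff_isLE _ hT m).1 hα
  have hT' := (restrictD (algebraMap A B)).map_distinguished _ hT
  refine isPC_obj₂ _ hT' m ?_ ?_
  · refine isPC_of_iso (restrictToDIso E).symm ?_
    obtain ⟨a, b, h1, h2⟩ := hE
    refine isPC_of_termwise m _ b (fun i hi =>
      (ModuleCat.restrictScalars.{u} (algebraMap A B)).map_isZero (h1 i (Or.inr hi))) (fun i => ?_)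
    haveI := (h2 i).1
    haveI := (h2 i).2
    let bs := Module.Free.chooseBasis B (E.X i)
    let e : E.X i ≃ₗ[B] (Fin (Fintype.card (Module.Free.ChooseBasisIndex B (E.X i))) → B) :=
      (bs.reindex (Fintype.equivFin _)).equivFun
    exact isPC_single_of_iso ((ModuleCat.restrictScalars.{u} (algebraMap A B)).mapIso
      e.toModuleIso.symm) (isPC_single_restrict_pi hB _ _)
  · haveI : ((restrictD (algebraMap A B)).obj C).IsLE (m - 1) :=
      (isLE_restrictD_iff _ C (m - 1)).2 hC
    exact isPC_of_isLE m ((restrictD (algebraMap A B)).obj C)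

end Alg3

end Groth.Agent.H4.RestrPC
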