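import Mathlib
import Groth.Agent.H4.RestrPC
import Groth.Agent.H4.PolyEv

/-!
# Pseudo-coherent ring maps: restriction of scalars preserves and detects pseudo-coherence
-/

set_option autoImplicit false
universe u
open CategoryTheory CategoryTheory.Limits MonoidalCategory

namespace Groth.Agent.H4.PCHom

attribute [local instance] HasDerivedCategory.standard
open DerivedCategory DRing Groth.Agent.H4.LDer Groth.Agent.H4.PC Groth.Agent.H4.BC
  Groth.Agent.H4.RestrPC Groth.Agent.H4.PCDesc

variable {A B C : Type u} [CommRing A] [CommRing B] [CommRing C]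

/-- a ring map making the target a pseudo-coherent module over the source. -/
def IsPCHom (f : A →+* B) : Prop :=
  ∀ m : ℤ, IsPseudoCoherent A m ((singleFunctor (ModuleCat.{u} A) 0).obj
    ((ModuleCat.restrictScalars.{u} f).obj (ModuleCat.of B B)))

lemma IsPCHom.isPCModule' {f : A →+* B} (hf : IsPCHom f) :
    letI := f.toAlgebra
    DRing.IsPseudoCoherentModule' A B := by
  letI := f.toAlgebra
  exact isPC'_of_forall_isPC _ (fun m => isPC_single_of_iso ofIsoRestrict.symm (hf m))

/-- restriction along a pseudo-coherent ring map preserves and detects `m`-pseudo-coherence. -/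
theorem IsPCHom.isPC_iff {f : A →+* B} (hf : IsPCHom f) (m : ℤ) (K : Dual.D B) :
    IsPseudoCoherent A m ((restrictD f).obj K) ↔ IsPseudoCoherent B m K := by
  letI := f.toAlgebra
  have hB := hf.isPCModule'
  constructor
  · intro h
    exact (detects_restrictD hB).isPC m K (fun _ => h)
  · intro h
    exact isPC_restrictD hB m K h

/-- restriction of scalars along a composite. -/
noncomputable def restrictCompCx (f : A →+* B) (g : B →+* C) (X : Cx C) :
    (GC (ModuleCat.restrictScalars.{u} (g.comp f))).obj X ≅
      (GC (ModuleCat.restrictScalars.{u} f)).obj ((GC (ModuleCat.restrictScalars.{u} g)).obj X) :=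
  HomologicalComplex.Hom.isoOfComponents
    (fun i => (ModuleCat.restrictScalarsComp'.{u} f g _ rfl).app (X.X i))
    (fun i j _ => by
      have := (ModuleCat.restrictScalarsComp'.{u} f g _ rfl).hom.naturality (X.d i j)
      exact this.symm)

/-- restriction of scalars along a composite, on derived categories. -/
noncomputable def restrictDComp (f : A →+* B) (g : B →+* C) (K : Dual.D C) :
    (restrictD (g.comp f)).obj K ≅ (restrictD f).obj ((restrictD g).obj K) :=
  (restrictD (g.comp f)).mapIso (Q.objObjPreimageIso K).symm ≪≫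
    (ModuleCat.restrictScalars.{u} (g.comp f)).mapDerivedCategoryFactors.app (Q.objPreimage K) ≪≫
    Q.mapIso (restrictCompCx f g (Q.objPreimage K)) ≪≫
    ((ModuleCat.restrictScalars.{u} f).mapDerivedCategoryFactors.app _).symm ≪≫
    (restrictD f).mapIso
      (((ModuleCat.restrictScalars.{u} g).mapDerivedCategoryFactors.app (Q.objPreimage K)).symm ≪≫
        (restrictD g).mapIso (Q.objObjPreimageIso K))

/-- restriction of scalars of a module placed in degree `0`. -/
noncomputable def restrictDSingle (f : A →+* B) (M : ModuleCat.{u} B) :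
    (restrictD f).obj ((singleFunctor (ModuleCat.{u} B) 0).obj M) ≅
      (singleFunctor (ModuleCat.{u} A) 0).obj ((ModuleCat.restrictScalars.{u} f).obj M) :=
  (restrictD f).mapIso ((singleFunctorIsoCompQ (ModuleCat.{u} B) 0).app M) ≪≫
    (ModuleCat.restrictScalars.{u} f).mapDerivedCategoryFactors.app _ ≪≫
    Q.mapIso ((HomologicalComplex.singleMapHomologicalComplex (ModuleCat.restrictScalars.{u} f)
      (ComplexShape.up ℤ) 0).app M) ≪≫
    ((singleFunctorIsoCompQ (ModuleCat.{u} A) 0).app _).symm

lemma IsPCHom.comp {f : A →+* B} {g : B →+* C} (hf : IsPCHom f) (hg : IsPCHom g) :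
    IsPCHom (g.comp f) := by
  intro m
  have h1 := (hf.isPC_iff m _).2 (hg m)
  have h2 := isPC_of_iso (restrictDSingle f _) h1
  exact isPC_single_of_iso
    ((ModuleCat.restrictScalarsComp'.{u} f g _ rfl).app (ModuleCat.of C C)).symm h2

lemma isPCHom_of_ringEquiv (e : A ≃+* B) : IsPCHom e.toRingHom := by
  intro m
  exact isPC_single_of_iso (ModuleCat.restrictScalarsIsoOfEquiv e).symm
    (isPC_single_of_finite_free m 0 (ModuleCat.of A A))

lemma isPCHom_of_eq {f g : A →+* B} (h : f = g) (hf : IsPCHom f) : IsPCHom g := h ▸ hf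

open Polynomial in
lemma isPCHom_evalRingHom_zero (R : Type u) [CommRing R] :
    IsPCHom (Polynomial.evalRingHom (0 : R)) := by
  intro m
  have hS := Groth.Agent.H4.PolyEv.shortExact_mod R (ModuleCat.of R R)
  haveI := Groth.Agent.H4.ExtS.finite_obj (Groth.Agent.H4.PolyEv.Cm R) (ModuleCat.of R R)
  haveI := Groth.Agent.H4.ExtS.free_obj (Groth.Agent.H4.PolyEv.Cm R) (ModuleCat.of R R)
  exact isPC_X₃_of_shortExact _ hS m (isPC_single_of_finite_free _ 0 _)
    (isPC_single_of_finite_free _ 0 _)

open Polynomial in
lemma isPCHom_evalRingHom (R : Type u) [CommRing R] (s : R) :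
    IsPCHom (Polynomial.evalRingHom s) := by
  have h1 := isPCHom_of_ringEquiv (Polynomial.algEquivAevalXAddC s).toRingEquiv
  have h2 := h1.comp (isPCHom_evalRingHom_zero R)
  refine isPCHom_of_eq ?_ h2
  ext r
  · simp
  · simp

lemma isPCHom_eval (S : Type u) [CommRing S] : ∀ (k : ℕ) (s : Fin k → S),
    IsPCHom (MvPolynomial.eval s : MvPolynomial (Fin k) S →+* S) := by
  intro k
  induction k with
  | zero =>
    intro s
    refine isPCHom_of_eq ?_ (isPCHom_of_ringEquiv (MvPolynomial.isEmptyRingEquiv S (Fin 0)))
    refine MvPolynomial.ringHom_ext (fun a => ?_) (fun i => i.elim0)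
    simp [MvPolynomial.isEmptyRingEquiv]
    exact MvPolynomial.coeff_zero_C a
  | succ k ih =>
    intro s
    have h1 := isPCHom_of_ringEquiv (MvPolynomial.finSuccEquiv S k).toRingEquiv
    have h2 := isPCHom_evalRingHom (MvPolynomial (Fin k) S) (MvPolynomial.C (s 0))
    have h3 := ih (Fin.tail s)
    refine isPCHom_of_eq ?_ ((h1.comp h2).comp h3)
    refine MvPolynomial.ringHom_ext (fun a => ?_) (fun i => ?_)
    · simp [MvPolynomial.finSuccEquiv_apply]
    · refine Fin.cases ?_ (fun j => ?_) i
      · simp [MvPolynomial.finSuccEquiv_X_zero]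
      · simp [MvPolynomial.finSuccEquiv_X_succ, Fin.tail]

end Groth.Agent.H4.PCHom
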