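import Mathlib
import Groth.Agent.H4.LCT1
import Groth.Agent.H4.LCT2
import Groth.Agent.H4.KProj7
import Groth.Agent.H4.KProj4
import Groth.Agent.H4.BC1
import Groth.Agent.H4.PCHom
set_option autoImplicit false
universe u
open CategoryTheory CategoryTheory.Limits MonoidalCategory CategoryTheory.Pretriangulated
open scoped TensorProduct

namespace Groth.Agent.H4.LCT3

attribute [local instance] HasDerivedCategory.standard

open DerivedCategory DRing Groth.Agent.H4.LDer Groth.Agent.H4.PC Groth.Agent.H4.BC Groth.Agent.H4.TV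
  Groth.Agent.H4.DNak1 Groth.Agent.H4.DNak2 Groth.Agent.H4.DNak3 Groth.Agent.H4.LCT1
  Groth.Agent.H4.LCT2

section Gen

variable {C : Type*} [Category C] [Preadditive C]

/-- postcomposition with an isomorphism. -/
def postAdd {X Y Y' : C} (e : Y ≅ Y') : (X ⟶ Y) ≃+ (X ⟶ Y') where
  toFun f := f ≫ e.hom
  invFun g := g ≫ e.inv
  left_inv f := by simp
  right_inv g := by simp
  map_add' f g := Preadditive.add_comp _ _ _ _ _ _

/-- precomposition with an isomorphism. -/
def preAdd {X X' Y : C} (e : X ≅ X') : (X ⟶ Y) ≃+ (X' ⟶ Y) where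
  toFun f := e.inv ≫ f
  invFun g := e.hom ≫ g
  left_inv f := by simp
  right_inv g := by simp
  map_add' f g := Preadditive.comp_add _ _ _ _ _ _

end Gen

variable {A : Type u} [CommRing A]

lemma flat_single_X (Y : ModuleCat.{u} A) [Module.Flat A Y] (i : ℤ) :
    Module.Flat A
      (((HomologicalComplex.single (ModuleCat.{u} A) (ComplexShape.up ℤ) 0).obj Y).X i) := by
  by_cases h : i = 0
  · subst h
    exact Module.Flat.of_linearEquiv
      (HomologicalComplex.singleObjXSelf (ComplexShape.up ℤ) 0 Y).toLinearEquiv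
  · haveI : Subsingleton
        (((HomologicalComplex.single (ModuleCat.{u} A) (ComplexShape.up ℤ) 0).obj Y).X i) :=
      ModuleCat.subsingleton_of_isZero (HomologicalComplex.isZero_single_obj_X _ _ _ _ h)
    infer_instance

section Tors

variable (I : Ideal A) (M : Type u) [AddCommGroup M] [Module A M]

lemma nil_inD (n : ℕ) (f : A) (hf : f ∈ I) : (f ^ n) • 𝟙 (Dual.inD A (S I M n)) = 0 := by
  have h1 : (f ^ n) • 𝟙 (Dual.inD A (S I M n)) =
      (DerivedCategory.singleFunctor (ModuleCat.{u} A) 0).map
        ((f ^ n) • 𝟙 (ModuleCat.of A (S I M n))) := by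
    rw [Functor.map_smul, CategoryTheory.Functor.map_id]
  rw [h1, nil_S I M n f hf, Functor.map_zero]

theorem orth_inD_of_powerTorsion (hM : LocCoh.IsPowerTorsion I M) (X : Dual.D A)
    (h : ∀ n, Orth (Dual.inD A (S I M n)) X) : Orth (Dual.inD A M) X := by
  haveI := Groth.Agent.H4.KProj.hasExactColimitsOfShape_nat (R := A)
  let sg := HomologicalComplex.single (ModuleCat.{u} A) (ComplexShape.up ℤ) 0
  let L : ℕ ⥤ Cx A := Lmod I M ⋙ sg
  have hhc := Groth.Agent.H2.Telescope.isHocolim_of_colimit L
  have h1 : Orth (Q.obj (colimit L)) X := by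
    refine orth_of_isHocolim _ _ _ _ hhc (fun n => ?_)
    exact (h n).of_iso_left
      ((singleFunctorIsoCompQ (ModuleCat.{u} A) 0).app (ModuleCat.of A (S I M n)))
  let ψ : colimit L ≅ sg.obj (ModuleCat.of A M) :=
    (colimit.isColimit L).coconePointUniqueUpToIso (isColimitOfPreserves sg (LisColimit I M hM))
  exact (h1.of_iso_left (Q.mapIso ψ)).of_iso_left
    ((singleFunctorIsoCompQ (ModuleCat.{u} A) 0).app (ModuleCat.of A M)).symm

end Tors

section Res

variable {B : Type u} [CommRing B] [Algebra A B]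

/-- `B ⊗ N` restricted to `A` is the tensor product of `A`-modules. -/
noncomputable def resIso (N : Type u) [AddCommGroup N] [Module A N] :
    (ModuleCat.restrictScalars.{u} (algebraMap A B)).obj (ModuleCat.of B (B ⊗[A] N)) ≅
      (ModuleCat.of A B) ⊗ (ModuleCat.of A N) :=
  let X : ModuleCat.{u} A :=
    (ModuleCat.restrictScalars.{u} (algebraMap A B)).obj (ModuleCat.of B (B ⊗[A] N))
  let Y : ModuleCat.{u} A := (ModuleCat.of A B) ⊗ (ModuleCat.of A N)
  let e : X ≃ₗ[A] Y :=
    { toFun := fun x => x
      invFun := fun x => x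
      map_add' := fun _ _ => rfl
      map_smul' := fun a x => by
        change (algebraMap A B a) • (show B ⊗[A] N from x) = a • (show B ⊗[A] N from x)
        exact algebraMap_smul B a _
      left_inv := fun _ => rfl
      right_inv := fun _ => rfl }
  e.toModuleIso

end Res

end Groth.Agent.H4.LCT3
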