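import Mathlib
import Groth.Agent.H4.ACF4
import Groth.Agent.H4.LCT3
import Groth.Agent.H4.DCompl6
import Groth.Agent.S7048
set_option autoImplicit false
universe u
open CategoryTheory CategoryTheory.Limits MonoidalCategory CategoryTheory.Pretriangulated
open scoped TensorProduct

namespace Groth.Agent.H4.ACF5

attribute [local instance] HasDerivedCategory.standard

open DerivedCategory DRing Groth.Agent.H4.LDer Groth.Agent.H4.PC Groth.Agent.H4.BC Groth.Agent.H4.TV
  Groth.Agent.H4.DNak1 Groth.Agent.H4.DNak2 Groth.Agent.H4.DNak3 Groth.Agent.H4.LCT1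
  Groth.Agent.H4.LCT3 Groth.Agent.H4.DComp Groth.Agent.H4.DCompl1 Groth.Agent.H4.DCompl2
  Groth.Agent.H4.DCompl4 Groth.Agent.H4.DCompl6

variable {A : Type u} [CommRing A]

lemma Psi_bijective_hom (f : A) (Y K : Dual.D A) (h : LO f K) :
    Function.Bijective (Psi f (Y ⟶ K)) := by
  rw [← bijective_comp_PsiD_iff]
  haveI := isIso_PsiD f K h
  constructor
  · intro a b hab
    exact (cancel_mono (PsiD f K)).1 hab
  · intro b
    exact ⟨b ≫ inv (PsiD f K), by simp⟩

/-- objects killed by iterated cones of `fs` are left orthogonal to derived complete objects. -/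
theorem orthL_of_Kz : ∀ (fs : List A) (Y : Dual.D A), Kz fs Y →
    ∀ E : Dual.D A, (∀ f ∈ fs, LO f E) → ∀ ψ : Y ⟶ E, ψ = 0 := by
  intro fs
  induction fs with
  | nil =>
    intro Y h E _ ψ
    exact h.eq_of_src _ _
  | cons f fs ih =>
    intro Y hK E hLO ψ
    rw [Kz_cons] at hK
    obtain ⟨K, g, hh, hT⟩ := distinguished_cocone_triangle (f • 𝟙 Y)
    have hKz : Kz fs K := hK K g hh hT
    have key : ∀ E' : Dual.D A, (∀ f' ∈ f :: fs, LO f' E') →
        ∀ x : Y⟦(1 : ℤ)⟧ ⟶ E', x = 0 := by
      intro E' hLO' x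
      have hPsi := Psi_bijective_hom f (Y⟦(1 : ℤ)⟧) E' (hLO' f List.mem_cons_self)
      apply eq_zero_of_smul_surjective f hPsi.1 _ x
      intro x'
      have hT2 := rot_of_distTriang _ (rot_of_distTriang _ hT)
      have h0 : hh ≫ x' = 0 :=
        ih K hKz E' (fun f' hf' => hLO' f' (List.mem_cons_of_mem _ hf')) _
      obtain ⟨(y : Y⟦(1 : ℤ)⟧ ⟶ E'), hy⟩ := Triangle.yoneda_exact₂ _ hT2 x' h0
      refine ⟨-y, ?_⟩
      rw [hy]
      change (-(f • 𝟙 Y)⟦(1 : ℤ)⟧') ≫ y = f • (-y)
      rw [Functor.map_smul, CategoryTheory.Functor.map_id, Preadditive.neg_comp, Linear.smul_comp,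
        Category.id_comp, smul_neg]
    have h1 : ψ⟦(1 : ℤ)⟧' = 0 :=
      key (E⟦(1 : ℤ)⟧) (fun f' hf' => (isTriSub_LO f').shift E 1 (hLO f' hf')) _
    apply (shiftFunctor (Dual.D A) (1 : ℤ)).map_injective
    rw [h1, Functor.map_zero]

theorem trW_single_map [IsNoetherianRing A] (I : Ideal A) (s : Finset A)
    (hs : Ideal.span (s : Set A) = I)
    (M N : Type u) [AddCommGroup M] [Module A M] [AddCommGroup N] [Module A N] [Module.Flat A N] :
    (IsDerivedComplete I).leftOrthogonal.trW
      ((DerivedCategory.singleFunctor (ModuleCat.{u} A) 0).map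
        ((ModuleCat.ofHom (AdicCompletion.of I N)) ▷ (ModuleCat.of A M))) := by
  classical
  let fs := s.toList
  have hspan : Ideal.span {x | x ∈ fs} = I := (span_toList s).trans hs
  have hI : I.FG := ⟨s, hs⟩
  let M' : ModuleCat.{u} A := ModuleCat.of A M
  let H := tensorRight M'
  let sg := HomologicalComplex.single (ModuleCat.{u} A) (ComplexShape.up ℤ) 0
  let ιm : ModuleCat.of A N ⟶ ModuleCat.of A (AdicCompletion I N) :=
    ModuleCat.ofHom (AdicCompletion.of I N)
  let D : Cx A := CochainComplex.mappingCone (sg.map ιm)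
  haveI : Module.Flat A (AdicCompletion I N) := Groth.Agent.H4.ACF3.flat_completion I N
  have hflD : ∀ j, Module.Flat A (D.X j) := fun j =>
    Groth.Agent.H4.TC9.flat_mappingCone_X (sg.map ιm)
      (fun j => flat_single_X (ModuleCat.of A N) j)
      (fun j => flat_single_X (ModuleCat.of A (AdicCompletion I N)) j) j
  have hZ : Z (fun K => IsZero K) D (Ideal.span {x | x ∈ fs}) := by
    intro T hT
    rw [hspan] at hT
    have hbij : Function.Bijective ((AdicCompletion.of I N).rTensor T) :=
      Groth.Agent.H4.ACF4.of_rTensor_bijective I N T hT hI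
    haveI h1 : IsIso (ιm ▷ T) := (ConcreteCategory.isIso_iff_bijective _).2 hbij
    haveI h2 : IsIso ((tensorRight T ⋙ sg).map ιm) := by
      rw [Functor.comp_map]
      haveI : IsIso ((tensorRight T).map ιm) := h1
      infer_instance
    haveI h3 : IsIso ((GC (tensorRight T)).map (sg.map ιm)) :=
      (NatIso.isIso_map_iff (HomologicalComplex.singleMapHomologicalComplex (tensorRight T)
        (ComplexShape.up ℤ) 0) ιm).2 h2
    have e := CochainComplex.mappingCone.mapHomologicalComplexIso (sg.map ιm) (tensorRight T)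
    refine IsZero.of_iso ?_ (Q.mapIso e)
    refine (Triangle.isZero₃_iff_isIso₁ _
      (DerivedCategory.mappingCone_triangle_distinguished _)).2 ?_
    exact (Q.mapIso (asIso ((GC (tensorRight T)).map (sg.map ιm)))).isIso_hom
  have hKz := Kz_XN fs D hflD hZ M'
  let u := (GC H).map (sg.map ιm)
  have hT := DerivedCategory.mappingCone_triangle_distinguished u
  have e3 : XN D M' ≅ Q.obj (CochainComplex.mappingCone u) :=
    Q.mapIso (CochainComplex.mappingCone.mapHomologicalComplexIso (sg.map ιm) H)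
  have hW : (IsDerivedComplete I).leftOrthogonal (Q.obj (CochainComplex.mappingCone u)) := by
    intro E ψ hE
    have hLO : ∀ f ∈ fs, LO f E := by
      intro f hf
      exact (isDerivedComplete_iff_LO I E).1 hE f (by rw [← hspan]; exact Ideal.subset_span hf)
    exact orthL_of_Kz fs _ (Kz_iso fs e3 hKz) E hLO ψ
  have h1 : (IsDerivedComplete I).leftOrthogonal.trW (Q.map u) :=
    ObjectProperty.trW.mk _ hT hW
  let σ := HomologicalComplex.singleMapHomologicalComplex H (ComplexShape.up ℤ) 0
  let τ := singleFunctorIsoCompQ (ModuleCat.{u} A) 0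
  let e₁ : Q.obj ((GC H).obj (sg.obj (ModuleCat.of A N))) ≅
      (DerivedCategory.singleFunctor (ModuleCat.{u} A) 0).obj (H.obj (ModuleCat.of A N)) :=
    Q.mapIso (σ.app (ModuleCat.of A N)) ≪≫ (τ.app _).symm
  let e₂ : Q.obj ((GC H).obj (sg.obj (ModuleCat.of A (AdicCompletion I N)))) ≅
      (DerivedCategory.singleFunctor (ModuleCat.{u} A) 0).obj
        (H.obj (ModuleCat.of A (AdicCompletion I N))) :=
    Q.mapIso (σ.app (ModuleCat.of A (AdicCompletion I N))) ≪≫ (τ.app _).symm
  refine ((IsDerivedComplete I).leftOrthogonal.trW.arrow_mk_iso_iff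
    (Arrow.isoMk e₁ e₂ ?_)).1 h1
  change e₁.hom ≫ (DerivedCategory.singleFunctor (ModuleCat.{u} A) 0).map (H.map ιm) =
    Q.map u ≫ e₂.hom
  have n1 := σ.hom.naturality ιm
  have n2 := τ.inv.naturality (H.map ιm)
  have n2' : τ.inv.app (H.obj (ModuleCat.of A N)) ≫
      (DerivedCategory.singleFunctor (ModuleCat.{u} A) 0).map (H.map ιm) =
      Q.map (sg.map (H.map ιm)) ≫ τ.inv.app (H.obj (ModuleCat.of A (AdicCompletion I N))) := n2.symm
  have n1' : Q.map (σ.hom.app (ModuleCat.of A N)) ≫ Q.map (sg.map (H.map ιm)) =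
      Q.map u ≫ Q.map (σ.hom.app (ModuleCat.of A (AdicCompletion I N))) := by
    rw [← Q.map_comp, ← Q.map_comp]
    exact congrArg Q.map n1.symm
  change (Q.map (σ.hom.app (ModuleCat.of A N)) ≫ τ.inv.app (H.obj (ModuleCat.of A N))) ≫
      (DerivedCategory.singleFunctor (ModuleCat.{u} A) 0).map (H.map ιm) =
    Q.map u ≫ (Q.map (σ.hom.app (ModuleCat.of A (AdicCompletion I N))) ≫
      τ.inv.app (H.obj (ModuleCat.of A (AdicCompletion I N))))
  calc (Q.map (σ.hom.app (ModuleCat.of A N)) ≫ τ.inv.app (H.obj (ModuleCat.of A N))) ≫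
      (DerivedCategory.singleFunctor (ModuleCat.{u} A) 0).map (H.map ιm)
      = Q.map (σ.hom.app (ModuleCat.of A N)) ≫ (τ.inv.app (H.obj (ModuleCat.of A N)) ≫
          (DerivedCategory.singleFunctor (ModuleCat.{u} A) 0).map (H.map ιm)) :=
        Category.assoc _ _ _
    _ = Q.map (σ.hom.app (ModuleCat.of A N)) ≫ (Q.map (sg.map (H.map ιm)) ≫
          τ.inv.app (H.obj (ModuleCat.of A (AdicCompletion I N)))) :=
        congrArg (fun z => Q.map (σ.hom.app (ModuleCat.of A N)) ≫ z) n2'
    _ = (Q.map (σ.hom.app (ModuleCat.of A N)) ≫ Q.map (sg.map (H.map ιm))) ≫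
          τ.inv.app (H.obj (ModuleCat.of A (AdicCompletion I N))) :=
        (Category.assoc _ _ _).symm
    _ = (Q.map u ≫ Q.map (σ.hom.app (ModuleCat.of A (AdicCompletion I N)))) ≫
          τ.inv.app (H.obj (ModuleCat.of A (AdicCompletion I N))) :=
        congrArg (fun z => z ≫ τ.inv.app (H.obj (ModuleCat.of A (AdicCompletion I N)))) n1'
    _ = _ := Category.assoc _ _ _

/-- two universal arrows to complete objects are isomorphic, compatibly with the arrows. -/
lemma exists_iso_of_universal (I : Ideal A) [HasDerivedCompletion I] (K : Dual.D A) (C : Dual.D A)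
    (q : K ⟶ C) (hC : IsDerivedComplete I C)
    (huniv : ∀ C' : Dual.D A, IsDerivedComplete I C' →
      Function.Bijective (fun ψ : C ⟶ C' => q ≫ ψ)) :
    ∃ e : ((derivedCompletion I).obj K).obj ≅ C, toDerivedCompletion I K ≫ e.hom = q := by
  let L := ((derivedCompletion I).obj K).obj
  have hL : IsDerivedComplete I L := ((derivedCompletion I).obj K).property
  let η := toDerivedCompletion I K
  obtain ⟨u, hu⟩ := (unit_bijective I K C hC).2 q
  obtain ⟨v, hv⟩ := (huniv L hL).2 η
  change η ≫ u = q at hu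
  change q ≫ v = η at hv
  refine ⟨⟨u, v, ?_, ?_⟩, hu⟩
  · apply (unit_bijective I K L hL).1
    change η ≫ u ≫ v = η ≫ 𝟙 L
    rw [← Category.assoc, hu, hv, Category.comp_id]
  · apply (huniv C hC).1
    change q ≫ v ≫ u = q ≫ 𝟙 C
    rw [← Category.assoc, hv, hu, Category.comp_id]

section Main

variable [IsNoetherianRing A] (I : Ideal A) (M N : Type u) [AddCommGroup M] [Module A M]
  [Module.Finite A M] [AddCommGroup N] [Module A N] [Module.Flat A N]

/-- `N^ ⊗ M ≃ (M ⊗ N)^`. -/
noncomputable def θ : (AdicCompletion I N ⊗[A] M) ≃ₗ[A] AdicCompletion I (M ⊗[A] N) :=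
  (TensorProduct.comm A (AdicCompletion I N) M).trans
    (LinearEquiv.ofBijective (Groth.Agent.H4.ACF3.c I N M) (Groth.Agent.H4.ACF3.c_bijective I N))

lemma θ_comp : (θ I M N).toLinearMap ∘ₗ (AdicCompletion.of I N).rTensor M =
    (AdicCompletion.of I (M ⊗[A] N)) ∘ₗ (TensorProduct.comm A N M).toLinearMap := by
  apply TensorProduct.ext'
  intro n m
  change Groth.Agent.H4.ACF3.c I N M (m ⊗ₜ AdicCompletion.of I N n) =
    AdicCompletion.of I (M ⊗[A] N) (m ⊗ₜ n)
  exact Groth.Agent.H4.ACF4.c_of I N m n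

theorem trW_q : (IsDerivedComplete I).leftOrthogonal.trW
    ((DerivedCategory.singleFunctor (ModuleCat.{u} A) 0).map
      (ModuleCat.ofHom (AdicCompletion.of I (M ⊗[A] N)))) := by
  obtain ⟨s, hs⟩ : I.FG := IsNoetherian.noetherian I
  have h1 := trW_single_map I s hs M N
  let α : (ModuleCat.of A N) ⊗ (ModuleCat.of A M) ≅ ModuleCat.of A (M ⊗[A] N) :=
    (TensorProduct.comm A N M).toModuleIso
  let β : (ModuleCat.of A (AdicCompletion I N)) ⊗ (ModuleCat.of A M) ≅
      ModuleCat.of A (AdicCompletion I (M ⊗[A] N)) := (θ I M N).toModuleIso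
  have hsq : α.hom ≫ ModuleCat.ofHom (AdicCompletion.of I (M ⊗[A] N)) =
      (ModuleCat.ofHom (AdicCompletion.of I N) ▷ ModuleCat.of A M) ≫ β.hom := by
    apply ModuleCat.hom_ext
    exact (θ_comp I M N).symm
  refine ((IsDerivedComplete I).leftOrthogonal.trW.arrow_mk_iso_iff
    (Arrow.isoMk ((DerivedCategory.singleFunctor (ModuleCat.{u} A) 0).mapIso α)
      ((DerivedCategory.singleFunctor (ModuleCat.{u} A) 0).mapIso β) ?_)).1 h1
  change (DerivedCategory.singleFunctor (ModuleCat.{u} A) 0).map α.hom ≫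
      (DerivedCategory.singleFunctor (ModuleCat.{u} A) 0).map _ =
    (DerivedCategory.singleFunctor (ModuleCat.{u} A) 0).map _ ≫
      (DerivedCategory.singleFunctor (ModuleCat.{u} A) 0).map β.hom
  rw [← Functor.map_comp, ← Functor.map_comp, hsq]

theorem main [HasDerivedCompletion I] :
    (∀ i : ℤ, i ≠ 0 → Subsingleton (Dual.HD A ((DRing.derivedCompletion I).obj (Dual.inD A (M ⊗[A] N))).obj i)) ∧
      ∃ e : Dual.HD A ((DRing.derivedCompletion I).obj (Dual.inD A (M ⊗[A] N))).obj 0 ≃ₗ[A]
          AdicCompletion I (M ⊗[A] N),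
        ∀ x : M ⊗[A] N,
          e ((((DerivedCategory.singleFunctorCompHomologyFunctorIso (ModuleCat.{u} A) 0).inv.app
                (ModuleCat.of A (M ⊗[A] N))) ≫
              (DerivedCategory.homologyFunctor (ModuleCat.{u} A) 0).map
                (DRing.toDerivedCompletion I (Dual.inD A (M ⊗[A] N)))).hom x) =
            AdicCompletion.of I (M ⊗[A] N) x := by
  have hI : I.FG := IsNoetherian.noetherian I
  let K : Dual.D A := Dual.inD A (M ⊗[A] N)
  let C : Dual.D A := Dual.inD A (AdicCompletion I (M ⊗[A] N))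
  let q : K ⟶ C := (DerivedCategory.singleFunctor (ModuleCat.{u} A) 0).map
      (ModuleCat.ofHom (AdicCompletion.of I (M ⊗[A] N)))
  have hq : (IsDerivedComplete I).leftOrthogonal.trW q := trW_q I M N
  have hC : IsDerivedComplete I C := by
    haveI := AdicCompletion.isAdicComplete (I := I) (M := M ⊗[A] N) hI
    exact Groth.Agent.S7048.result I (AdicCompletion I (M ⊗[A] N))
  have huniv : ∀ C' : Dual.D A, IsDerivedComplete I C' →
      Function.Bijective (fun ψ : C ⟶ C' => q ≫ ψ) := by
    intro C' hC'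
    have hloc : (IsDerivedComplete I).leftOrthogonal.trW.isLocal C' := by
      rw [ObjectProperty.isLocal_trW]
      intro X f hX
      exact hX f hC'
    exact hloc q hq
  obtain ⟨e0, he0⟩ := exists_iso_of_universal I K C q hC huniv
  let L : Dual.D A := ((derivedCompletion I).obj K).obj
  refine ⟨?_, ?_⟩
  · intro i hi
    have hz : IsZero ((DerivedCategory.homologyFunctor (ModuleCat.{u} A) i).obj C) := by
      rcases lt_or_gt_of_ne hi with h | h
      · exact isZero_of_isGE C 0 i h
      · exact isZero_of_isLE C 0 i h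
    have hz' : IsZero ((DerivedCategory.homologyFunctor (ModuleCat.{u} A) i).obj L) :=
      hz.of_iso ((DerivedCategory.homologyFunctor (ModuleCat.{u} A) i).mapIso e0)
    exact ModuleCat.subsingleton_of_isZero hz'
  · let ι := DerivedCategory.singleFunctorCompHomologyFunctorIso (ModuleCat.{u} A) 0
    let E : (DerivedCategory.homologyFunctor (ModuleCat.{u} A) 0).obj L ≅
        ModuleCat.of A (AdicCompletion I (M ⊗[A] N)) :=
      (DerivedCategory.homologyFunctor (ModuleCat.{u} A) 0).mapIso e0 ≪≫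
        ι.app (ModuleCat.of A (AdicCompletion I (M ⊗[A] N)))
    refine ⟨E.toLinearEquiv, ?_⟩
    intro x
    have key : (ι.inv.app (ModuleCat.of A (M ⊗[A] N)) ≫
        (DerivedCategory.homologyFunctor (ModuleCat.{u} A) 0).map (toDerivedCompletion I K)) ≫
          E.hom = ModuleCat.ofHom (AdicCompletion.of I (M ⊗[A] N)) := by
      have n1 := ι.hom.naturality (ModuleCat.ofHom (AdicCompletion.of I (M ⊗[A] N)))
      change (ι.inv.app (ModuleCat.of A (M ⊗[A] N)) ≫
        (DerivedCategory.homologyFunctor (ModuleCat.{u} A) 0).map (toDerivedCompletion I K)) ≫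
          ((DerivedCategory.homologyFunctor (ModuleCat.{u} A) 0).map e0.hom ≫
            ι.hom.app (ModuleCat.of A (AdicCompletion I (M ⊗[A] N)))) = _
      rw [Category.assoc, ← Category.assoc ((DerivedCategory.homologyFunctor (ModuleCat.{u} A) 0).map
        (toDerivedCompletion I K)), ← Functor.map_comp, he0]
      change ι.inv.app (ModuleCat.of A (M ⊗[A] N)) ≫
        ((DerivedCategory.singleFunctor (ModuleCat.{u} A) 0 ⋙
          DerivedCategory.homologyFunctor (ModuleCat.{u} A) 0).map
            (ModuleCat.ofHom (AdicCompletion.of I (M ⊗[A] N))) ≫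
          ι.hom.app (ModuleCat.of A (AdicCompletion I (M ⊗[A] N)))) = _
      rw [n1, ← Category.assoc, Iso.inv_hom_id_app, Category.id_comp]
      rfl
    exact congrArg (fun f => f.hom x) key
  
end Main

end Groth.Agent.H4.ACF5
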