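import Mathlib
import Groth.Prelude
import Groth.Agent.Lib.Helper6.HomologyElts
import Groth.Agent.H4.GM1

/-!
# Artin–Rees for bounded complexes with torsion cohomology

For a bounded complex `C` of finite modules over a Noetherian ring concentrated in degrees `[-N, 0]`,
all of whose cohomology modules are killed by `I`, and a chain map `φ : M[0] ⟶ C`, the composite
`(I^n M)[0] ⟶ M[0] ⟶ C` vanishes in `D(A)` for some `n > 0`: it factors through an acyclic
subcomplex of `C`.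
-/

set_option autoImplicit false
universe u
open CategoryTheory Category Limits HomologicalComplex
attribute [local instance] HasDerivedCategory.standard

namespace Groth.Agent.H4.ARK1

variable {A : Type u} [CommRing A]

lemma exists_d_eq_smul (C : CochainComplex (ModuleCat.{u} A) ℤ) (I : Ideal A)
    (htor : ∀ (i : ℤ) (a : A), a ∈ I → ∀ y : C.homology i, a • y = 0)
    (i : ℤ) (z : C.X (i + 1)) (hz : C.d (i + 1) (i + 1 + 1) z = 0) (a : A) (ha : a ∈ I) :
    ∃ y : C.X i, C.d i (i + 1) y = a • z := by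
  have h1 := Groth.Agent.H6.HE.classOf_smul C (i + 1) (i + 1 + 1) (by simp) a z hz
  rw [htor (i + 1) a ha] at h1
  exact (Groth.Agent.H6.HE.classOf_eq_zero_iff C i (i + 1) (i + 1 + 1) (by simp) (by simp)
    (a • z) _).mp h1

lemma exists_K_deg [IsNoetherianRing A] (C : CochainComplex (ModuleCat.{u} A) ℤ) (I : Ideal A)
    (htor : ∀ (i : ℤ) (a : A), a ∈ I → ∀ y : C.homology i, a • y = 0)
    (i : ℤ) [Module.Finite A (C.X (i + 1))] :
    ∃ K : ℕ, ∀ (m : ℕ) (z : C.X (i + 1)),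
      z ∈ (I ^ (m + K) • ⊤ : Submodule A (C.X (i + 1))) →
      C.d (i + 1) (i + 1 + 1) z = 0 →
      ∃ y ∈ (I ^ m • ⊤ : Submodule A (C.X i)), C.d i (i + 1) y = z := by
  set N : Submodule A (C.X (i + 1)) := LinearMap.ker (C.d (i + 1) (i + 1 + 1)).hom with hN
  obtain ⟨k, hk⟩ := Ideal.exists_pow_inf_eq_pow_smul I N
  refine ⟨k + 1, fun m z hz hdz => ?_⟩
  have h1 : z ∈ I ^ (m + 1 + k) • (⊤ : Submodule A (C.X (i + 1))) ⊓ N :=
    ⟨by rwa [show m + 1 + k = m + (k + 1) by ring], hdz⟩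
  rw [hk (m + 1 + k) (by omega)] at h1
  have h2 : m + 1 + k - k = m + 1 := by omega
  rw [h2] at h1
  have h3 : I ^ (m + 1) • (I ^ k • (⊤ : Submodule A (C.X (i + 1))) ⊓ N) ≤
      Submodule.map (C.d i (i + 1)).hom (I ^ m • (⊤ : Submodule A (C.X i))) := by
    rw [Submodule.map_smul'', pow_succ, Submodule.mul_smul]
    refine Submodule.smul_mono le_rfl ?_
    rw [Submodule.smul_le]
    intro a ha n hn
    obtain ⟨y, hy⟩ := exists_d_eq_smul C I htor i n hn.2 a ha
    exact ⟨y, trivial, hy⟩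
  obtain ⟨y, hy, hyz⟩ := h3 h1
  exact ⟨y, hy, hyz⟩

lemma exists_K [IsNoetherianRing A] (C : CochainComplex (ModuleCat.{u} A) ℤ) (I : Ideal A)
    (htor : ∀ (i : ℤ) (a : A), a ∈ I → ∀ y : C.homology i, a • y = 0)
    [∀ i, Module.Finite A (C.X i)]
    (hpos : ∀ i : ℤ, 0 < i → IsZero (C.X i)) (N : ℕ)
    (hneg : ∀ i : ℤ, i < -(N : ℤ) → IsZero (C.X i)) :
    ∃ K : ℕ, ∀ (i : ℤ) (m : ℕ) (z : C.X (i + 1)),
      z ∈ (I ^ (m + K) • ⊤ : Submodule A (C.X (i + 1))) →
      C.d (i + 1) (i + 1 + 1) z = 0 →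
      ∃ y ∈ (I ^ m • ⊤ : Submodule A (C.X i)), C.d i (i + 1) y = z := by
  choose Kf hKf using fun i : ℤ => exists_K_deg C I htor i
  refine ⟨∑ j ∈ Finset.range (N + 1), Kf (-(j : ℤ) - 1), fun i m z hz hdz => ?_⟩
  by_cases hi : 0 < i + 1 ∨ i + 1 < -(N : ℤ)
  · have hz0 : IsZero (C.X (i + 1)) := by
      rcases hi with hi | hi
      · exact hpos _ hi
      · exact hneg _ hi
    haveI := ModuleCat.subsingleton_of_isZero hz0
    refine ⟨0, Submodule.zero_mem _, ?_⟩
    rw [map_zero]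
    exact Subsingleton.elim _ _
  · push Not at hi
    obtain ⟨hi1, hi2⟩ := hi
    set j : ℕ := (-(i + 1)).toNat with hj
    have hij : i = -(j : ℤ) - 1 := by omega
    have hjN : j ∈ Finset.range (N + 1) := Finset.mem_range.mpr (by omega)
    have hle : Kf i ≤ ∑ j ∈ Finset.range (N + 1), Kf (-(j : ℤ) - 1) := by
      have := Finset.single_le_sum (f := fun j : ℕ => Kf (-(j : ℤ) - 1))
        (fun _ _ => Nat.zero_le _) hjN
      rwa [← hij] at this
    set K := ∑ j ∈ Finset.range (N + 1), Kf (-(j : ℤ) - 1) with hKdef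
    have hz' : z ∈ (I ^ ((m + K - Kf i) + Kf i) • ⊤ : Submodule A (C.X (i + 1))) := by
      rwa [show m + K - Kf i + Kf i = m + K by omega]
    obtain ⟨y, hy, hyz⟩ := hKf i (m + K - Kf i) z hz' hdz
    refine ⟨y, ?_, hyz⟩
    exact Submodule.smul_mono_left (Ideal.pow_le_pow_right (by omega)) hy

section sub

variable (C : CochainComplex (ModuleCat.{u} A) ℤ) (I : Ideal A) (a : ℤ → ℕ)

/-- the terms of the subcomplex -/
def S (i : ℤ) : Submodule A (C.X i) :=
  (I ^ (a i) • ⊤) ⊓ Submodule.comap (C.d i (i + 1)).hom (I ^ (a (i + 1)) • ⊤)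

lemma dd_apply (i : ℤ) (x : C.X i) : (C.d (i + 1) (i + 1 + 1)).hom ((C.d i (i + 1)).hom x) = 0 := by
  rw [← LinearMap.comp_apply, ← ModuleCat.hom_comp, C.d_comp_d]
  rfl

lemma d_mem (i : ℤ) (x : C.X i) (hx : x ∈ S C I a i) : (C.d i (i + 1)).hom x ∈ S C I a (i + 1) := by
  refine ⟨hx.2, Submodule.mem_comap.mpr ?_⟩
  rw [dd_apply]
  exact Submodule.zero_mem _

/-- the subcomplex -/
noncomputable def R : CochainComplex (ModuleCat.{u} A) ℤ :=
  CochainComplex.of (fun i => ModuleCat.of A (S C I a i))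
    (fun i => ModuleCat.ofHom ((C.d i (i + 1)).hom.restrict (d_mem C I a i)))
    (fun i => by
      ext x
      exact dd_apply C i x.1)

lemma R_d (i : ℤ) : (R C I a).d i (i + 1) =
    ModuleCat.ofHom ((C.d i (i + 1)).hom.restrict (d_mem C I a i)) := by
  unfold R
  apply CochainComplex.of_d

/-- the inclusion of the subcomplex -/
noncomputable def jR : R C I a ⟶ C where
  f i := ModuleCat.ofHom (S C I a i).subtype
  comm' i k hik := by
    obtain rfl : i + 1 = k := hik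
    rw [R_d]
    rfl

lemma R_exactAt (K N : ℕ)
    (hK : ∀ (i : ℤ) (m : ℕ) (z : C.X (i + 1)),
      z ∈ (I ^ (m + K) • ⊤ : Submodule A (C.X (i + 1))) →
      C.d (i + 1) (i + 1 + 1) z = 0 →
      ∃ y ∈ (I ^ m • ⊤ : Submodule A (C.X i)), C.d i (i + 1) y = z)
    (hpos : ∀ i : ℤ, 0 < i → IsZero (C.X i))
    (hneg : ∀ i : ℤ, i < -(N : ℤ) → IsZero (C.X i))
    (ha : ∀ i : ℤ, -(N : ℤ) ≤ i + 1 → i + 1 ≤ 0 → a (i + 1) = a i + K) (i : ℤ) :
    (R C I a).ExactAt (i + 1) := by
  rw [HomologicalComplex.exactAt_iff' _ i (i + 1) (i + 1 + 1) (by simp) (by simp),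
    ShortComplex.moduleCat_exact_iff]
  intro (x : S C I a (i + 1)) hx
  have hx0 : (C.d (i + 1) (i + 1 + 1)).hom x.1 = 0 := by
    have h1 : ((R C I a).d (i + 1) (i + 1 + 1)).hom x = 0 := hx
    rw [R_d] at h1
    exact congrArg Subtype.val h1
  by_cases hi : 0 < i + 1 ∨ i + 1 < -(N : ℤ)
  · have hz0 : IsZero (C.X (i + 1)) := by
      rcases hi with hi | hi
      · exact hpos _ hi
      · exact hneg _ hi
    haveI := ModuleCat.subsingleton_of_isZero hz0
    refine ⟨(0 : S C I a i), ?_⟩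
    apply Subtype.ext
    exact Subsingleton.elim _ _
  · push Not at hi
    obtain ⟨hi1, hi2⟩ := hi
    have hx1 : x.1 ∈ (I ^ (a i + K) • ⊤ : Submodule A (C.X (i + 1))) := by
      rw [← ha i hi2 hi1]
      exact x.2.1
    obtain ⟨y, hy, hyx⟩ := hK i (a i) x.1 hx1 hx0
    have hyS : y ∈ S C I a i := by
      refine ⟨hy, Submodule.mem_comap.mpr ?_⟩
      have : (C.d i (i + 1)).hom y = x.1 := hyx
      rw [this]
      exact x.2.1
    refine ⟨(⟨y, hyS⟩ : S C I a i), ?_⟩
    change ((R C I a).d i (i + 1)).hom (⟨y, hyS⟩ : S C I a i) = x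
    rw [R_d]
    apply Subtype.ext
    exact hyx

end sub

/-- **Artin–Rees vanishing**. -/
theorem AR [IsNoetherianRing A] (I : Ideal A) (C : CochainComplex (ModuleCat.{u} A) ℤ)
    [∀ i, Module.Finite A (C.X i)]
    (hpos : ∀ i : ℤ, 0 < i → IsZero (C.X i)) (N : ℕ)
    (hneg : ∀ i : ℤ, i < -(N : ℤ) → IsZero (C.X i))
    (htor : ∀ (i : ℤ) (a : A), a ∈ I → ∀ y : C.homology i, a • y = 0)
    (M : Type u) [AddCommGroup M] [Module A M]
    (φ : (HomologicalComplex.single (ModuleCat.{u} A) (ComplexShape.up ℤ) 0).obj (ModuleCat.of A M) ⟶ C) :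
    ∃ n : ℕ, 0 < n ∧
      DerivedCategory.Q.map ((HomologicalComplex.single (ModuleCat.{u} A) (ComplexShape.up ℤ) 0).map
        (ModuleCat.ofHom (I ^ n • (⊤ : Submodule A M)).subtype) ≫ φ) = 0 := by
  obtain ⟨K, hK⟩ := exists_K C I htor hpos N hneg
  let t : ℤ → ℕ := fun i => (i + N + 1).toNat
  let a : ℤ → ℕ := fun i => K * t i + 1
  have ha : ∀ i : ℤ, -(N : ℤ) ≤ i + 1 → i + 1 ≤ 0 → a (i + 1) = a i + K := by
    intro i h1 h2
    have ht : t (i + 1) = t i + 1 := by
      change (i + 1 + N + 1).toNat = (i + N + 1).toNat + 1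
      omega
    change K * t (i + 1) + 1 = K * t i + 1 + K
    rw [ht]
    ring
  refine ⟨a 0, Nat.succ_pos _, ?_⟩
  -- the acyclic subcomplex
  have hacyc : (R C I a).Acyclic := by
    intro k
    have := R_exactAt C I a K N hK hpos hneg ha (k - 1)
    rwa [sub_add_cancel] at this
  have hzero : IsZero (DerivedCategory.Q.obj (R C I a)) :=
    (Groth.Agent.H4.GM1.acyclic_iff_isZero_Q _).mp hacyc
  -- the degree zero map
  let φ0 : M →ₗ[A] C.X 0 :=
    ((HomologicalComplex.singleObjXSelf (ComplexShape.up ℤ) 0 (ModuleCat.of A M)).inv ≫ φ.f 0).hom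
  haveI hsub1 : Subsingleton (C.X (0 + 1)) := ModuleCat.subsingleton_of_isZero (hpos (0 + 1) (by norm_num))
  have hmem : ∀ m : (I ^ a 0 • (⊤ : Submodule A M) : Submodule A M), φ0 m.1 ∈ S C I a 0 := by
    intro m
    refine ⟨?_, ?_⟩
    · have h1 : Submodule.map φ0 (I ^ a 0 • (⊤ : Submodule A M)) ≤ I ^ a 0 • (⊤ : Submodule A (C.X 0)) := by
        rw [Submodule.map_smul'']
        exact Submodule.smul_mono le_rfl le_top
      exact h1 ⟨m.1, m.2, rfl⟩
    · refine Submodule.mem_comap.mpr ?_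
      rw [Subsingleton.elim ((C.d 0 (0 + 1)).hom (φ0 m.1)) 0]
      exact Submodule.zero_mem _
  let ψ0 : (I ^ a 0 • (⊤ : Submodule A M) : Submodule A M) →ₗ[A] S C I a 0 :=
    LinearMap.codRestrict (S C I a 0) (φ0.comp (I ^ a 0 • (⊤ : Submodule A M)).subtype) hmem
  let ψ : (HomologicalComplex.single (ModuleCat.{u} A) (ComplexShape.up ℤ) 0).obj
      (ModuleCat.of A (I ^ a 0 • (⊤ : Submodule A M) : Submodule A M)) ⟶ R C I a :=
    HomologicalComplex.mkHomFromSingle (ModuleCat.ofHom ψ0) (by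
      intro k hk
      obtain rfl : 0 + 1 = k := hk
      rw [R_d]
      ext m
      apply Subtype.ext
      exact Subsingleton.elim _ _)
  have hfac : (HomologicalComplex.single (ModuleCat.{u} A) (ComplexShape.up ℤ) 0).map
      (ModuleCat.ofHom (I ^ a 0 • (⊤ : Submodule A M)).subtype) ≫ φ = ψ ≫ jR C I a := by
    apply HomologicalComplex.from_single_hom_ext
    rw [HomologicalComplex.comp_f, HomologicalComplex.comp_f, HomologicalComplex.single_map_f_self,
      HomologicalComplex.mkHomFromSingle_f]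
    simp only [assoc]
    congr 1
  rw [hfac, Functor.map_comp, hzero.eq_of_tgt (DerivedCategory.Q.map ψ) 0, zero_comp]

end Groth.Agent.H4.ARK1
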