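import Mathlib

set_option autoImplicit false
universe u v w

namespace Groth.Agent.H4.KE1

section general
variable {A : Type u} [Ring A]
variable {P : Type*} {Q : Type*} {R' : Type*} [AddCommGroup P] [Module A P] [AddCommGroup Q] [Module A Q]
  [AddCommGroup R'] [Module A R']

/-- rank–nullity for length along an exact pair -/
lemma length_eq_range_add_range (a : P →ₗ[A] Q) (b : Q →ₗ[A] R') (h : Function.Exact a b) :
    Module.length A Q = Module.length A (LinearMap.range a) + Module.length A (LinearMap.range b) := by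
  refine Module.length_eq_add_of_exact (LinearMap.range a).subtype b.rangeRestrict
    (Submodule.subtype_injective _) (LinearMap.surjective_rangeRestrict b) ?_
  intro y
  constructor
  · intro hy
    have hy' : b y = 0 := congrArg Subtype.val hy
    obtain ⟨x, rfl⟩ := (h y).1 hy'
    exact ⟨⟨a x, ⟨x, rfl⟩⟩, rfl⟩
  · rintro ⟨⟨_, ⟨x, rfl⟩⟩, rfl⟩
    ext
    exact h.apply_apply_eq_zero x

lemma length_range_of_injective (i : P →ₗ[A] Q) (hi : Function.Injective i) :
    Module.length A (LinearMap.range i) = Module.length A P :=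
  (LinearEquiv.ofInjective i hi).length_eq.symm

lemma length_range_of_surjective (d : P →ₗ[A] Q) (hd : Function.Surjective d) :
    Module.length A (LinearMap.range d) = Module.length A Q := by
  rw [LinearMap.range_eq_top.2 hd]
  exact Module.length_top

variable {N : Type*} [AddCommGroup N] [Module A N] {N' : Type*} [AddCommGroup N'] [Module A N']

/-- length of the cokernel of an endomorphism -/
noncomputable def cL (φ : N →ₗ[A] N) : ℕ∞ := Module.length A (N ⧸ LinearMap.range φ)
/-- length of the kernel of an endomorphism -/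
noncomputable def kL (φ : N →ₗ[A] N) : ℕ∞ := Module.length A (LinearMap.ker φ)

lemma cL_congr (e : N ≃ₗ[A] N') (φ : N →ₗ[A] N) (φ' : N' →ₗ[A] N')
    (h : ∀ x, e (φ x) = φ' (e x)) : cL φ = cL φ' := by
  unfold cL
  refine (Submodule.Quotient.equiv (LinearMap.range φ) (LinearMap.range φ') e ?_).length_eq
  ext y
  constructor
  · rintro ⟨_, ⟨x, rfl⟩, rfl⟩
    exact ⟨e x, (h x).symm⟩
  · rintro ⟨x, rfl⟩
    refine ⟨φ (e.symm x), ⟨_, rfl⟩, ?_⟩
    exact (h _).trans (by rw [e.apply_symm_apply])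

lemma kL_congr (e : N ≃ₗ[A] N') (φ : N →ₗ[A] N) (φ' : N' →ₗ[A] N')
    (h : ∀ x, e (φ x) = φ' (e x)) : kL φ = kL φ' := by
  unfold kL
  refine (LinearEquiv.ofSubmodules e (LinearMap.ker φ) (LinearMap.ker φ') ?_).length_eq
  ext y
  constructor
  · rintro ⟨x, hx, rfl⟩
    rw [LinearMap.mem_ker]
    exact (h x).symm.trans (by rw [LinearMap.mem_ker.1 hx, map_zero])
  · intro hy
    refine ⟨e.symm y, ?_, e.apply_symm_apply y⟩
    rw [SetLike.mem_coe, LinearMap.mem_ker]
    apply e.injective
    rw [map_zero]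
    exact (h _).trans (by rw [e.apply_symm_apply]; exact hy)

lemma cL_eq_zero_of_subsingleton [Subsingleton N] (φ : N →ₗ[A] N) : cL φ = 0 := by
  unfold cL
  exact Module.length_eq_zero_iff.2 inferInstance

lemma kL_eq_zero_of_subsingleton [Subsingleton N] (φ : N →ₗ[A] N) : kL φ = 0 := by
  unfold kL
  exact Module.length_eq_zero_iff.2 inferInstance

/-- the four-term exact sequence `N →μ N →g Z →δ N' →μ' N'` computes the length of `Z`. -/
theorem length_mid {Z : Type*} [AddCommGroup Z] [Module A Z] (μ : N →ₗ[A] N) (g : N →ₗ[A] Z)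
    (δ : Z →ₗ[A] N') (μ' : N' →ₗ[A] N') (h1 : Function.Exact μ g) (h2 : Function.Exact g δ)
    (h3 : Function.Exact δ μ') : Module.length A Z = cL μ + kL μ' := by
  rw [length_eq_range_add_range g δ h2]
  congr 1
  · unfold cL
    rw [← (LinearMap.exact_iff.1 h1)]
    exact (LinearMap.quotKerEquivRange g).length_eq.symm
  · unfold kL
    rw [(LinearMap.exact_iff.1 h3)]

/-- ker–coker lemma for a composition of endomorphisms, in terms of lengths. -/
theorem cL_comp_add (φ ψ : N →ₗ[A] N) :
    cL (φ ∘ₗ ψ) + kL φ + kL ψ = cL φ + cL ψ + kL (φ ∘ₗ ψ) := by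
  have hle0 : LinearMap.ker ψ ≤ LinearMap.ker (φ ∘ₗ ψ) := by
    intro x hx
    rw [LinearMap.mem_ker] at hx ⊢
    rw [LinearMap.comp_apply, hx, map_zero]
  let i₀ : LinearMap.ker ψ →ₗ[A] LinearMap.ker (φ ∘ₗ ψ) := Submodule.inclusion hle0
  let a : LinearMap.ker (φ ∘ₗ ψ) →ₗ[A] LinearMap.ker φ :=
    ψ.restrict (p := LinearMap.ker (φ ∘ₗ ψ)) (q := LinearMap.ker φ) (fun x hx => by
      rw [LinearMap.mem_ker] at hx ⊢
      exact hx)
  let b : LinearMap.ker φ →ₗ[A] N ⧸ LinearMap.range ψ :=
    (LinearMap.range ψ).mkQ ∘ₗ (LinearMap.ker φ).subtype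
  have hc : LinearMap.range ψ ≤ (LinearMap.range (φ ∘ₗ ψ)).comap φ := by
    rintro _ ⟨z, rfl⟩
    exact ⟨z, rfl⟩
  let c : (N ⧸ LinearMap.range ψ) →ₗ[A] N ⧸ LinearMap.range (φ ∘ₗ ψ) :=
    Submodule.mapQ _ _ φ hc
  have hd : LinearMap.range (φ ∘ₗ ψ) ≤ LinearMap.range φ := by
    rintro _ ⟨z, rfl⟩
    exact ⟨ψ z, rfl⟩
  let d : (N ⧸ LinearMap.range (φ ∘ₗ ψ)) →ₗ[A] N ⧸ LinearMap.range φ := Submodule.factor hd
  have hi₀ : Function.Injective i₀ := Submodule.inclusion_injective hle0
  have hd_surj : Function.Surjective d := Submodule.factor_surjective hd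
  have ex1 : Function.Exact i₀ a := by
    intro x
    constructor
    · intro hx
      have hx' : ψ x.1 = 0 := congrArg Subtype.val hx
      exact ⟨⟨x.1, hx'⟩, Subtype.ext rfl⟩
    · rintro ⟨y, rfl⟩
      apply Subtype.ext
      exact y.2
  have ex2 : Function.Exact a b := by
    intro y
    constructor
    · intro hy
      have hy' : y.1 ∈ LinearMap.range ψ := (Submodule.Quotient.mk_eq_zero _).1 hy
      obtain ⟨z, hz⟩ := hy'
      refine ⟨⟨z, ?_⟩, Subtype.ext hz⟩
      rw [LinearMap.mem_ker, LinearMap.comp_apply, hz]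
      exact y.2
    · rintro ⟨x, rfl⟩
      exact (Submodule.Quotient.mk_eq_zero _).2 ⟨x.1, rfl⟩
  have ex3 : Function.Exact b c := by
    intro q
    obtain ⟨n, rfl⟩ := Submodule.mkQ_surjective _ q
    constructor
    · intro hq
      have hq' : φ n ∈ LinearMap.range (φ ∘ₗ ψ) := (Submodule.Quotient.mk_eq_zero _).1 hq
      obtain ⟨z, hz⟩ := hq'
      refine ⟨⟨n - ψ z, ?_⟩, ?_⟩
      · rw [LinearMap.mem_ker, map_sub, ← hz, LinearMap.comp_apply, sub_self]
      · change (LinearMap.range ψ).mkQ (n - ψ z) = (LinearMap.range ψ).mkQ n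
        rw [map_sub, sub_eq_self]
        exact (Submodule.Quotient.mk_eq_zero _).2 ⟨z, rfl⟩
    · rintro ⟨y, hy⟩
      rw [← hy]
      change (LinearMap.range (φ ∘ₗ ψ)).mkQ (φ y.1) = 0
      rw [LinearMap.mem_ker.1 y.2, map_zero]
  have ex4 : Function.Exact c d := by
    intro q
    obtain ⟨n, rfl⟩ := Submodule.mkQ_surjective _ q
    constructor
    · intro hq
      have hq' : n ∈ LinearMap.range φ := (Submodule.Quotient.mk_eq_zero _).1 hq
      obtain ⟨z, rfl⟩ := hq'
      exact ⟨(LinearMap.range ψ).mkQ z, rfl⟩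
    · rintro ⟨q', hq'⟩
      obtain ⟨z, rfl⟩ := Submodule.mkQ_surjective _ q'
      rw [← hq']
      exact (Submodule.Quotient.mk_eq_zero _).2 ⟨z, rfl⟩
  have E1 : kL (φ ∘ₗ ψ) = kL ψ + Module.length A (LinearMap.range a) := by
    unfold kL
    rw [length_eq_range_add_range i₀ a ex1, length_range_of_injective i₀ hi₀]
  have E2 : kL φ = Module.length A (LinearMap.range a) + Module.length A (LinearMap.range b) :=
    length_eq_range_add_range a b ex2
  have E3 : cL ψ = Module.length A (LinearMap.range b) + Module.length A (LinearMap.range c) :=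
    length_eq_range_add_range b c ex3
  have E4 : cL (φ ∘ₗ ψ) = Module.length A (LinearMap.range c) + cL φ := by
    unfold cL
    rw [length_eq_range_add_range c d ex4, length_range_of_surjective d hd_surj]
  rw [E1, E2, E3, E4]
  ring

end general

end Groth.Agent.H4.KE1
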