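import Mathlib
import Groth.Agent.H4.KE1
import Groth.Agent.H4.TorAR2

set_option autoImplicit false
universe u
open CategoryTheory CategoryTheory.Limits

namespace Groth.Agent.H4.KE2

attribute [local instance] HasDerivedCategory.standard
open DRing Groth.Agent.H4.DNak2 Groth.Agent.H4.TorAR2 Groth.Agent.H4.KE1

variable {A : Type u} [CommRing A]

lemma homologyMap_smul_id (E : Cx A) (f : A) (n : ℤ) :
    (HomologicalComplex.homologyMap (f • 𝟙 E) n).hom = f • LinearMap.id := by
  rw [homologyMap_smul'', HomologicalComplex.homologyMap_id]
  rfl

/-- the length of the cohomology of the cone of multiplication by `f`. -/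
theorem length_homology_Kf (E : Cx A) (f : A) (n : ℤ) :
    Module.length A ((Kf f E).homology n) =
      cL (f • LinearMap.id : E.homology n →ₗ[A] E.homology n) +
      kL (f • LinearMap.id : E.homology (n + 1) →ₗ[A] E.homology (n + 1)) := by
  let T := CochainComplex.mappingCone.triangle (f • 𝟙 E)
  have hT : DerivedCategory.Q.mapTriangle.obj T ∈ distTriang _ :=
    DerivedCategory.mappingCone_triangle_distinguished _
  have e2 := CochainComplex.homologyMap_exact₂_of_distTriang T hT n
  have e3 := CochainComplex.homologyMap_exact₃_of_distTriang T hT n (n + 1) rfl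
  have e1 := CochainComplex.homologyMap_exact₁_of_distTriang T hT n (n + 1) rfl
  rw [ShortComplex.ShortExact.moduleCat_exact_iff_function_exact] at e1 e2 e3
  have h := length_mid (A := A) (HomologicalComplex.homologyMap T.mor₁ n).hom
    (HomologicalComplex.homologyMap T.mor₂ n).hom
    (CochainComplex.homologyδOfTriangle T n (n + 1) rfl).hom
    (HomologicalComplex.homologyMap T.mor₁ (n + 1)).hom e2 e3 e1
  have h1 : (HomologicalComplex.homologyMap T.mor₁ n).hom = f • LinearMap.id :=
    homologyMap_smul_id E f n
  have h2 : (HomologicalComplex.homologyMap T.mor₁ (n + 1)).hom = f • LinearMap.id :=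
    homologyMap_smul_id E f (n + 1)
  rw [h1, h2] at h
  exact h

end Groth.Agent.H4.KE2
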