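import Mathlib
import Groth.Agent.H4.KE2
import Groth.Agent.H4.KE3
import Groth.Agent.Lib.Helper2.Kos5
import Groth.Agent.Lib.Helper6.SemiLocalDim

set_option autoImplicit false
universe u
open CategoryTheory CategoryTheory.Limits CochainComplex

namespace Groth.Agent.H4.KE4

attribute [local instance] HasDerivedCategory.standard
open DRing CohIII Groth.Agent.H4.DNak2 Groth.Agent.H4.TorAR2 Groth.Agent.H4.KE1 Groth.Agent.H4.KE2
  Groth.Agent.H2.Kos

variable {A : Type u} [CommRing A]

/-- finite length is inherited along inclusions of supports. -/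
theorem isFiniteLength_of_support_subset [IsNoetherianRing A] {N P : Type u}
    [AddCommGroup N] [Module A N] [AddCommGroup P] [Module A P] [Module.Finite A N]
    [Module.Finite A P] (h : Module.support A N ⊆ Module.support A P)
    (hP : IsFiniteLength A P) : IsFiniteLength A N := by
  rw [Groth.Agent.H6.SLD.isFiniteLength_iff_supportDim_le_zero] at hP ⊢
  refine le_trans ?_ hP
  exact Order.krullDim_le_of_strictMono (fun a => ⟨a.1, h a.2⟩) (fun _ _ lt => lt)

/-- a finite module killed by `I` and by the annihilator of `M` has finite length as soon as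
`M / I M` has. -/
theorem isFiniteLength_of_killed [IsNoetherianRing A] {N M : Type u}
    [AddCommGroup N] [Module A N] [AddCommGroup M] [Module A M] [Module.Finite A N]
    [Module.Finite A M] (I : Ideal A) (hI : ∀ a ∈ I, ∀ y : N, a • y = 0)
    (hM : ∀ a ∈ Module.annihilator A M, ∀ y : N, a • y = 0)
    (hfl : IsFiniteLength A (M ⧸ (I • ⊤ : Submodule A M))) : IsFiniteLength A N := by
  refine isFiniteLength_of_support_subset ?_ hfl
  rw [Module.support_quotient]
  intro p hp
  have hle := Module.annihilator_le_of_mem_support hp
  refine ⟨?_, ?_⟩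
  · rw [Module.mem_support_iff_of_finite]
    intro a ha
    exact hle (Module.mem_annihilator.2 (hM a ha))
  · rw [PrimeSpectrum.mem_zeroLocus]
    intro a ha
    exact hle (Module.mem_annihilator.2 (hI a ha))

lemma smul_homology_eq_zero_of_homotopy (E : Cx A) (a : A) (h : Nonempty (Homotopy (a • 𝟙 E) 0))
    (n : ℤ) (y : E.homology n) : a • y = 0 := by
  obtain ⟨h⟩ := h
  have h1 := homologyMap_smul_id E a n
  rw [h.homologyMap_eq n, HomologicalComplex.homologyMap_zero] at h1
  have := congrArg (fun t => t y) h1
  simp only [ModuleCat.hom_zero, LinearMap.zero_apply, LinearMap.smul_apply,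
    LinearMap.id_apply] at this
  exact this.symm

lemma smul_homology_eq_zero_of_eq_zero (E : Cx A) (a : A) (h : a • 𝟙 E = 0)
    (n : ℤ) (y : E.homology n) : a • y = 0 :=
  smul_homology_eq_zero_of_homotopy E a ⟨Homotopy.ofEq h⟩ n y

lemma smul_id_koszulCx_eq_zero (M : ModuleCat.{u} A) (l : List A) (a : A) (ha : a • 𝟙 M = 0) :
    a • 𝟙 (koszulCx M l) = 0 := by
  rw [← kmap_smul_id, ha, kmap_zero]

/-- finiteness of the cohomology of the cone of `f`. -/
lemma finite_homology_Kf [IsNoetherianRing A] (E : Cx A) (f : A)
    (hE : ∀ n, Module.Finite A (E.homology n)) (n : ℤ) : Module.Finite A ((Kf f E).homology n) := by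
  let T := CochainComplex.mappingCone.triangle (f • 𝟙 E)
  have hT : DerivedCategory.Q.mapTriangle.obj T ∈ distTriang _ :=
    DerivedCategory.mappingCone_triangle_distinguished _
  have e3 := CochainComplex.homologyMap_exact₃_of_distTriang T hT n (n + 1) rfl
  rw [ShortComplex.moduleCat_exact_iff_range_eq_ker] at e3
  haveI := hE n
  haveI := hE (n + 1)
  haveI : IsNoetherian A (E.homology n) := isNoetherian_of_isNoetherianRing_of_finite A _
  haveI : IsNoetherian A (E.homology (n + 1)) := isNoetherian_of_isNoetherianRing_of_finite A _
  haveI : IsNoetherian A (T.obj₂.homology n) :=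
    (inferInstance : IsNoetherian A (E.homology n))
  haveI : IsNoetherian A (T.obj₁.homology (n + 1)) :=
    (inferInstance : IsNoetherian A (E.homology (n + 1)))
  haveI : IsNoetherian A ((Kf f E).homology n) :=
    isNoetherian_of_range_eq_ker (HomologicalComplex.homologyMap T.mor₂ n).hom
      (CochainComplex.homologyδOfTriangle T n (n + 1) rfl).hom e3
  infer_instance

lemma finite_homology_koszulCx [IsNoetherianRing A] (M : Type u) [AddCommGroup M] [Module A M]
    [Module.Finite A M] (l : List A) :
    ∀ n : ℤ, Module.Finite A ((koszulCx (ModuleCat.of A M) l).homology n) := by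
  induction l with
  | nil =>
    intro n
    by_cases hn : n = 0
    · subst hn
      exact Module.Finite.equiv
        ((HomologicalComplex.singleObjHomologySelfIso (ComplexShape.up ℤ) 0
          (ModuleCat.of A M)).toLinearEquiv).symm
    · have hz : IsZero ((koszulCx (ModuleCat.of A M) []).homology n) := by
        apply HomologicalComplex.ExactAt.isZero_homology
        apply HomologicalComplex.ExactAt.of_isZero
        exact HomologicalComplex.isZero_single_obj_X (ComplexShape.up ℤ) 0 _ n hn
      haveI : Subsingleton ((koszulCx (ModuleCat.of A M) []).homology n) :=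
        ModuleCat.subsingleton_of_isZero hz
      infer_instance
  | cons f l ih => exact finite_homology_Kf _ f ih

/-- Koszul cohomology has finite length as soon as `M / I M` has, `I ⊆ (l)`. -/
theorem isFiniteLength_homology_koszulCx [IsNoetherianRing A] (M : Type u) [AddCommGroup M]
    [Module A M] [Module.Finite A M] (l : List A) (I : Ideal A)
    (hI : I ≤ Ideal.span {a | a ∈ l})
    (hfl : IsFiniteLength A (M ⧸ (I • ⊤ : Submodule A M))) (n : ℤ) :
    IsFiniteLength A ((koszulCx (ModuleCat.of A M) l).homology n) := by
  haveI := finite_homology_koszulCx M l n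
  refine isFiniteLength_of_killed (M := M) I ?_ ?_ hfl
  · intro a ha y
    exact smul_homology_eq_zero_of_homotopy _ a
      (nonempty_homotopy_of_mem_ideal (ModuleCat.of A M) l a (hI ha)) n y
  · intro a ha y
    refine smul_homology_eq_zero_of_eq_zero _ a (smul_id_koszulCx_eq_zero _ l a ?_) n y
    ext m
    exact Module.mem_annihilator.1 ha m

end Groth.Agent.H4.KE4
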