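import Mathlib
import Groth.Prelude.Def_LCI2
import Groth.Prelude.Def_CAlgX
set_option autoImplicit false
universe u
open CategoryTheory CochainComplex HomComplex

namespace Groth.Agent.H4.KosLow

variable {A : Type u} [CommRing A]

/-- the module of trivial (Koszul) relations. -/
def triv {c : ℕ} (g : Fin c → A) : Submodule A (Fin c → A) :=
  Submodule.span A {v : Fin c → A | ∃ i j : Fin c, v = Pi.single i (g j) - Pi.single j (g i)}

/-- low degree description of a Koszul-like complex. -/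
def LowData (K : CochainComplex (ModuleCat.{u} A) ℤ) (c : ℕ) (g : Fin c → A) : Prop :=
  (∀ n : ℤ, 0 < n → Limits.IsZero (K.X n)) ∧
  ∃ (s : (Fin c → A) →ₗ[A] (K.X (-1))) (r : (K.X (-1)) →ₗ[A] (Fin c → A))
    (υ : A →ₗ[A] (K.X 0)) (ρ : (K.X 0) →ₗ[A] A),
    (∀ a, r (s a) = a) ∧ (∀ z, s (r z) = z) ∧ (∀ a, ρ (υ a) = a) ∧ (∀ x, υ (ρ x) = x) ∧
    (∀ a, (K.d (-1) 0).hom (s a) = υ (∑ i, a i * g i)) ∧
    (∀ q, r ((K.d (-2) (-1)).hom q) ∈ triv g)

lemma lowData_single (g : Fin 0 → A) :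
    LowData ((CochainComplex.singleFunctor (ModuleCat.{u} A) 0).obj (ModuleCat.of A A)) 0 g := by
  have hz : Limits.IsZero (((CochainComplex.singleFunctor (ModuleCat.{u} A) 0).obj
      (ModuleCat.of A A)).X (-1)) :=
    HomologicalComplex.isZero_single_obj_X (ComplexShape.up ℤ) 0 (ModuleCat.of A A) (-1) (by decide)
  haveI := ModuleCat.subsingleton_of_isZero hz
  refine ⟨fun n hn => HomologicalComplex.isZero_single_obj_X (ComplexShape.up ℤ) 0
    (ModuleCat.of A A) n (ne_of_gt hn), 0, 0,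
    (HomologicalComplex.singleObjXSelf (ComplexShape.up ℤ) 0 (ModuleCat.of A A)).inv.hom,
    (HomologicalComplex.singleObjXSelf (ComplexShape.up ℤ) 0 (ModuleCat.of A A)).hom.hom,
    ?_, ?_, ?_, ?_, ?_, ?_⟩
  · intro a; exact Subsingleton.elim _ _
  · intro z; exact Subsingleton.elim _ _
  · intro a
    exact congrArg (fun φ => φ.hom a)
      (HomologicalComplex.singleObjXSelf (ComplexShape.up ℤ) 0 (ModuleCat.of A A)).inv_hom_id
  · intro x
    exact congrArg (fun φ => φ.hom x)
      (HomologicalComplex.singleObjXSelf (ComplexShape.up ℤ) 0 (ModuleCat.of A A)).hom_inv_id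
  · intro a
    simp
  · intro q
    have : (0 : (Fin 0 → A)) ∈ triv g := Submodule.zero_mem _
    convert this

lemma smul_id_f_apply (K : CochainComplex (ModuleCat.{u} A) ℤ) (f : A) (n : ℤ) (x : K.X n) :
    ((f • 𝟙 K : K ⟶ K).f n).hom x = f • x := by
  rw [HomologicalComplex.smul_f_apply, HomologicalComplex.id_f]
  rfl

lemma cons_mem_triv {c : ℕ} (g : Fin c → A) (f : A) (t : Fin c → A) (ht : t ∈ triv g) :
    (Fin.cons 0 t : Fin (c + 1) → A) ∈ triv (Fin.cons f g : Fin (c + 1) → A) := by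
  let L : (Fin c → A) →ₗ[A] (Fin (c + 1) → A) :=
    { toFun := fun t => Fin.cons 0 t
      map_add' := fun t t' => by
        funext i
        refine Fin.cases ?_ (fun j => ?_) i
        · simp
        · simp
      map_smul' := fun a t => by
        funext i
        refine Fin.cases ?_ (fun j => ?_) i
        · simp
        · simp }
  change L t ∈ triv (Fin.cons f g : Fin (c + 1) → A)
  have : triv g ≤ (triv (Fin.cons f g : Fin (c + 1) → A)).comap L := by
    apply Submodule.span_le.mpr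
    rintro v ⟨i, j, rfl⟩
    change L _ ∈ triv (Fin.cons f g : Fin (c + 1) → A)
    apply Submodule.subset_span
    refine ⟨i.succ, j.succ, ?_⟩
    funext k
    refine Fin.cases ?_ (fun k' => ?_) k
    · simp [L]
    · simp only [L, LinearMap.coe_mk, AddHom.coe_mk, Fin.cons_succ, Pi.sub_apply]
      by_cases h1 : k' = i <;> by_cases h2 : k' = j <;> simp [Pi.single_apply, h1, h2]
  exact this ht

lemma cons_neg_sum_mem_triv {c : ℕ} (g : Fin c → A) (f : A) (a : Fin c → A) :
    (Fin.cons (-(∑ i, a i * g i)) (f • a) : Fin (c + 1) → A) ∈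
      triv (Fin.cons f g : Fin (c + 1) → A) := by
  have h : (Fin.cons (-(∑ i, a i * g i)) (f • a) : Fin (c + 1) → A) =
      ∑ i, a i • (Pi.single i.succ ((Fin.cons f g : Fin (c + 1) → A) 0) -
        Pi.single 0 ((Fin.cons f g : Fin (c + 1) → A) i.succ)) := by
    funext k
    refine Fin.cases ?_ (fun k' => ?_) k
    · simp [Finset.sum_apply, Pi.single_apply, Fin.succ_ne_zero]
    · simp only [Fin.cons_succ, Pi.smul_apply, smul_eq_mul, Fin.cons_zero, Finset.sum_apply,
        Pi.sub_apply]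
      rw [Finset.sum_eq_single k']
      · simp [Pi.single_apply, Fin.succ_ne_zero, mul_comm]
      · intro b _ hb
        simp [Pi.single_apply, Fin.succ_ne_zero, Ne.symm hb]
      · intro hk; exact absurd (Finset.mem_univ _) hk
  rw [h]
  apply Submodule.sum_mem
  intro i _
  apply Submodule.smul_mem
  apply Submodule.subset_span
  exact ⟨i.succ, 0, rfl⟩

set_option maxHeartbeats 1600000 in
lemma lowData_cone (K : CochainComplex (ModuleCat.{u} A) ℤ) (c : ℕ) (g : Fin c → A) (f : A)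
    (h : LowData K c g) :
    LowData (mappingCone (f • 𝟙 K : K ⟶ K)) (c + 1) (Fin.cons f g) := by
  obtain ⟨hK, s, r, υ, ρ, h1, h2, h3, h3', h4, h6⟩ := h
  haveI := ModuleCat.subsingleton_of_isZero (hK 1 (by norm_num))
  have h5 : ∀ a, (K.d 0 1).hom (υ a) = 0 := fun a => Subsingleton.elim _ _
  set φ : K ⟶ K := f • 𝟙 K with hφ
  let inl0 : K.X 0 →ₗ[A] (mappingCone φ).X (-1) :=
    ((mappingCone.inl φ).v 0 (-1) (by norm_num)).hom
  let inr1 : K.X (-1) →ₗ[A] (mappingCone φ).X (-1) := ((mappingCone.inr φ).f (-1)).hom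
  let inr0 : K.X 0 →ₗ[A] (mappingCone φ).X 0 := ((mappingCone.inr φ).f 0).hom
  let fst1 : (mappingCone φ).X (-1) →ₗ[A] K.X 0 :=
    ((mappingCone.fst φ).1.v (-1) 0 (by norm_num)).hom
  let snd1 : (mappingCone φ).X (-1) →ₗ[A] K.X (-1) :=
    ((mappingCone.snd φ).v (-1) (-1) (by norm_num)).hom
  let snd0 : (mappingCone φ).X 0 →ₗ[A] K.X 0 := ((mappingCone.snd φ).v 0 0 (by norm_num)).hom
  let fst2 : (mappingCone φ).X (-2) →ₗ[A] K.X (-1) :=
    ((mappingCone.fst φ).1.v (-2) (-1) (by norm_num)).hom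
  let snd2 : (mappingCone φ).X (-2) →ₗ[A] K.X (-2) :=
    ((mappingCone.snd φ).v (-2) (-2) (by norm_num)).hom
  have ea : ∀ x, fst1 (inl0 x) = x := fun x =>
    congrArg (fun ψ => ψ.hom x) (mappingCone.inl_v_fst_v φ 0 (-1) (by norm_num))
  have eb : ∀ x, snd1 (inl0 x) = 0 := fun x =>
    congrArg (fun ψ => ψ.hom x) (mappingCone.inl_v_snd_v φ 0 (-1) (by norm_num))
  have ec : ∀ y, fst1 (inr1 y) = 0 := fun y =>
    congrArg (fun ψ => ψ.hom y) (mappingCone.inr_f_fst_v φ (-1) 0 (by norm_num))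
  have ed : ∀ y, snd1 (inr1 y) = y := fun y =>
    congrArg (fun ψ => ψ.hom y) (mappingCone.inr_f_snd_v φ (-1))
  have ed0 : ∀ y, snd0 (inr0 y) = y := fun y =>
    congrArg (fun ψ => ψ.hom y) (mappingCone.inr_f_snd_v φ 0)
  have ee : ∀ z, inl0 (fst1 z) + inr1 (snd1 z) = z := fun z =>
    congrArg (fun ψ => ψ.hom z) (mappingCone.id_X φ (-1) 0 (by norm_num))
  have ef : ∀ x, ((mappingCone φ).d (-1) 0).hom (inl0 x) =
      inr0 ((φ.f 0).hom x) - ((mappingCone.inl φ).v 1 0 (by norm_num)).hom ((K.d 0 1).hom x) :=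
    fun x => congrArg (fun ψ => ψ.hom x)
      (mappingCone.inl_v_d φ 0 (-1) 1 (by norm_num) (by norm_num))
  have eg : ∀ y, ((mappingCone φ).d (-1) 0).hom (inr1 y) = inr0 ((K.d (-1) 0).hom y) := fun y =>
    congrArg (fun ψ => ψ.hom y) (mappingCone.inr_f_d φ (-1) 0)
  have eh : ∀ y, ((mappingCone φ).d 0 1).hom (inr0 y) =
      ((mappingCone.inr φ).f 1).hom ((K.d 0 1).hom y) := fun y =>
    congrArg (fun ψ => ψ.hom y) (mappingCone.inr_f_d φ 0 1)
  have ei : ∀ q, fst1 (((mappingCone φ).d (-2) (-1)).hom q) = -((K.d (-1) 0).hom (fst2 q)) :=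
    fun q => congrArg (fun ψ => ψ.hom q)
      (mappingCone.d_fst_v φ (-2) (-1) 0 (by norm_num) (by norm_num))
  have ej : ∀ q, snd1 (((mappingCone φ).d (-2) (-1)).hom q) =
      (φ.f (-1)).hom (fst2 q) + (K.d (-2) (-1)).hom (snd2 q) :=
    fun q => congrArg (fun ψ => ψ.hom q) (mappingCone.d_snd_v φ (-2) (-1) (by norm_num))
  let s' : (Fin (c + 1) → A) →ₗ[A] (mappingCone φ).X (-1) :=
    inl0 ∘ₗ υ ∘ₗ LinearMap.proj 0 + inr1 ∘ₗ s ∘ₗ LinearMap.funLeft A A Fin.succ
  let r' : (mappingCone φ).X (-1) →ₗ[A] (Fin (c + 1) → A) :=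
    LinearMap.pi (Fin.cons (ρ ∘ₗ fst1) (fun i => LinearMap.proj i ∘ₗ r ∘ₗ snd1))
  have hs' : ∀ a, s' a = inl0 (υ (a 0)) + inr1 (s (fun i => a i.succ)) := fun a => rfl
  have hr' : ∀ z, r' z = Fin.cons (ρ (fst1 z)) (r (snd1 z)) := by
    intro z
    funext i
    refine Fin.cases ?_ (fun j => ?_) i
    · rfl
    · rfl
  have ee0 : ∀ z, inr0 (snd0 z) = z := by
    intro z
    have h := congrArg (fun ψ => ψ.hom z) (mappingCone.id_X φ 0 1 (by norm_num))
    simp only [ModuleCat.hom_add, ModuleCat.hom_comp, LinearMap.add_apply,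
      LinearMap.comp_apply, ModuleCat.hom_id, LinearMap.id_apply] at h
    have h0 : ((mappingCone.fst φ).1.v 0 1 (by norm_num)).hom z = 0 := Subsingleton.elim _ _
    rw [h0, map_zero, zero_add] at h
    exact h
  refine ⟨?_, s', r', inr0 ∘ₗ υ, ρ ∘ₗ snd0, ?_, ?_, ?_, ?_, ?_, ?_⟩
  · intro n hn
    rw [mappingCone.isZero_X_iff]
    exact ⟨hK _ (by omega), hK _ hn⟩
  · intro a
    have e1 : fst1 (s' a) = υ (a 0) := by rw [hs', map_add, ea, ec, add_zero]
    have e2 : snd1 (s' a) = s (fun i => a i.succ) := by rw [hs', map_add, eb, ed, zero_add]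
    rw [hr', e1, e2, h3, h1]
    funext i
    refine Fin.cases ?_ (fun j => ?_) i
    · rfl
    · rfl
  · intro z
    rw [hs', hr']
    simp only [Fin.cons_zero, Fin.cons_succ]
    rw [h2, h3']
    exact ee z
  · intro a
    simp only [LinearMap.comp_apply]
    rw [ed0, h3]
  · intro x
    simp only [LinearMap.comp_apply]
    rw [h3', ee0]
  · intro a
    rw [hs', map_add, ef, eg, h5, map_zero, sub_zero, h4, smul_id_f_apply]
    have e3 : (∑ i, a i * (Fin.cons f g : Fin (c + 1) → A) i) =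
        f • a 0 + ∑ i : Fin c, a i.succ * g i := by
      rw [Fin.sum_univ_succ]
      simp [mul_comm]
    rw [e3]
    simp only [LinearMap.comp_apply, map_add, map_smul]
  · intro q
    rw [hr', ei, ej, smul_id_f_apply, map_neg, map_add, map_smul]
    obtain ⟨a, ha⟩ : ∃ a, s a = fst2 q := ⟨r (fst2 q), h2 _⟩
    rw [← ha, h4, h3, h1]
    have e1 : (Fin.cons (-(∑ i, a i * g i)) (f • a + r ((K.d (-2) (-1)).hom (snd2 q))) :
        Fin (c + 1) → A) =
        Fin.cons (-(∑ i, a i * g i)) (f • a) + Fin.cons 0 (r ((K.d (-2) (-1)).hom (snd2 q))) := by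
      funext i
      refine Fin.cases ?_ (fun j => ?_) i
      · simp
      · simp
    rw [e1]
    exact Submodule.add_mem _ (cons_neg_sum_mem_triv g f a) (cons_mem_triv g f _ (h6 _))

theorem lowData_koszul (l : List A) : LowData (Koszul.koszul A l) l.length l.get := by
  induction l with
  | nil => exact lowData_single _
  | cons f l ih =>
    have h := lowData_cone _ _ _ f ih
    have hget : (f :: l).get = (Fin.cons f l.get : Fin (l.length + 1) → A) := by
      funext i
      refine Fin.cases rfl (fun j => rfl) i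
    change LowData (mappingCone (f • 𝟙 (Koszul.koszul A l) : Koszul.koszul A l ⟶ Koszul.koszul A l))
      (l.length + 1) (f :: l).get
    rw [hget]
    exact h

/-- vanishing of the first Koszul homology gives `H_1`-regularity. -/
theorem isH1Regular_of_isZero_homology (l : List A)
    (h : Limits.IsZero ((Koszul.koszul A l).homology (-1))) : CAlgX.IsH1Regular l.get := by
  obtain ⟨hK, s, r, υ, ρ, h1, h2, h3, h3', h4, h6⟩ := lowData_koszul l
  intro a ha
  have hex : (Koszul.koszul A l).ExactAt (-1) :=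
    (HomologicalComplex.exactAt_iff_isZero_homology _ _).mpr h
  rw [HomologicalComplex.exactAt_iff' _ (-2) (-1) 0 (by simp) (by simp),
    ShortComplex.moduleCat_exact_iff] at hex
  obtain ⟨q, hq⟩ := hex (s a) (by
    change ((Koszul.koszul A l).d (-1) 0).hom (s a) = 0
    rw [h4, ha, map_zero])
  have hq' : ((Koszul.koszul A l).d (-2) (-1)).hom q = s a := hq
  have h7 := h6 q
  rw [hq', h1] at h7
  exact h7

theorem isH1Regular_of_isKoszulRegularSeq (l : List A) (h : LCI.IsKoszulRegularSeq A l) :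
    CAlgX.IsH1Regular l.get :=
  isH1Regular_of_isZero_homology l (h (-1) (by decide))

end Groth.Agent.H4.KosLow
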