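import Mathlib
import Groth.Prelude.Def_DTen3
import Groth.Agent.H4.TP1

/-!
# Tensor product of complexes concentrated in degree 0
-/

set_option autoImplicit false
universe u
open CategoryTheory Category Limits MonoidalCategory DirectSum

namespace Groth.Agent.H4.SG1

open Groth.Agent.H4.TP1 Groth.Agent.H4.TC4 DRing

variable {R : Type u} [CommRing R]

/-- a module as a complex in degree 0 -/
noncomputable abbrev sg0 (M : ModuleCat.{u} R) : CochainComplex (ModuleCat.{u} R) ℤ :=
  (HomologicalComplex.single (ModuleCat.{u} R) (ComplexShape.up ℤ) 0).obj M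

section DS

variable {ι : Type*} [DecidableEq ι] (M : ι → Type*) [∀ i, AddCommGroup (M i)] [∀ i, Module R (M i)]

/-- a direct sum with a single nonzero summand -/
noncomputable def directSumEquivOfSubsingleton (i₀ : ι) (h : ∀ i, i ≠ i₀ → Subsingleton (M i)) :
    (⨁ i, M i) ≃ₗ[R] M i₀ :=
  LinearEquiv.ofLinear (DirectSum.component R ι M i₀) (DirectSum.lof R ι M i₀)
    (by
      ext x
      simp)
    (by
      apply DirectSum.linearMap_ext
      intro i
      ext x
      by_cases hi : i = i₀
      · subst hi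
        simp
      · haveI := h i hi
        rw [Subsingleton.elim x 0]
        simp)

end DS

variable (M N : ModuleCat.{u} R)

lemma isZero_sg0_tensor_X (n : ℤ) (hn : n ≠ 0) : IsZero ((sg0 M ⊗ sg0 N).X n) := by
  rcases lt_or_gt_of_ne hn with h | h
  · exact isZero_tensor_X_of_lt (sg0 M) (sg0 N) n 0 0
      (fun k hk => HomologicalComplex.isZero_single_obj_X _ _ _ _ (by omega))
      (fun k hk => HomologicalComplex.isZero_single_obj_X _ _ _ _ (by omega)) (by omega)
  · exact isZero_tensor_X_of_gt (sg0 M) (sg0 N) n 0 0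
      (fun k hk => HomologicalComplex.isZero_single_obj_X _ _ _ _ (by omega))
      (fun k hk => HomologicalComplex.isZero_single_obj_X _ _ _ _ (by omega)) (by omega)

/-- the index `(0, 0)` -/
def i00 : Idx 0 := ⟨(0, 0), by simp [ComplexShape.π]⟩

open Classical in
/-- the degree `0` term of `M[0] ⊗ N[0]` -/
noncomputable def sg0TensorX0 : (sg0 M ⊗ sg0 N).X 0 ≅ M ⊗ N := by
  refine tensorXIso (sg0 M) (sg0 N) 0 ≪≫ LinearEquiv.toModuleIso
    (directSumEquivOfSubsingleton (R := R) (fun i : Idx 0 => summand (sg0 M) (sg0 N) 0 i) i00 ?_) ≪≫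
    ?_
  · intro i hi
    have h1 : i.1.1 + i.1.2 = 0 := i.2
    have h2 : i.1.1 ≠ 0 ∨ i.1.2 ≠ 0 := by
      by_contra hcon
      push Not at hcon
      apply hi
      apply Subtype.ext
      exact Prod.ext hcon.1 hcon.2
    rcases h2 with h2 | h2
    · haveI : Subsingleton ((sg0 M).X i.1.1) := ModuleCat.subsingleton_of_isZero
        (HomologicalComplex.isZero_single_obj_X _ _ _ _ h2)
      change Subsingleton (TensorProduct R ((sg0 M).X i.1.1) ((sg0 N).X i.1.2))
      infer_instance
    · haveI : Subsingleton ((sg0 N).X i.1.2) := ModuleCat.subsingleton_of_isZero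
        (HomologicalComplex.isZero_single_obj_X _ _ _ _ h2)
      change Subsingleton (TensorProduct R ((sg0 M).X i.1.1) ((sg0 N).X i.1.2))
      infer_instance
  · exact MonoidalCategory.tensorIso
      (HomologicalComplex.singleObjXSelf (ComplexShape.up ℤ) 0 M)
      (HomologicalComplex.singleObjXSelf (ComplexShape.up ℤ) 0 N)

/-- `M[0] ⊗ N[0] ≅ (M ⊗ N)[0]`. -/
theorem nonempty_sg0_tensor_iso : Nonempty (sg0 M ⊗ sg0 N ≅ sg0 (M ⊗ N)) := by
  haveI : (sg0 M ⊗ sg0 N).IsStrictlyGE 0 := by
    rw [CochainComplex.isStrictlyGE_iff]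
    intro i hi
    exact isZero_sg0_tensor_X M N i (by omega)
  haveI : (sg0 M ⊗ sg0 N).IsStrictlyLE 0 := by
    rw [CochainComplex.isStrictlyLE_iff]
    intro i hi
    exact isZero_sg0_tensor_X M N i (by omega)
  obtain ⟨M', ⟨e⟩⟩ := CochainComplex.exists_iso_single (sg0 M ⊗ sg0 N) 0
  let e1 : M' ≅ M ⊗ N :=
    (HomologicalComplex.singleObjXSelf (ComplexShape.up ℤ) 0 M').symm ≪≫
      ((HomologicalComplex.eval _ _ 0).mapIso e).symm ≪≫ sg0TensorX0 M N
  exact ⟨e ≪≫ (HomologicalComplex.single (ModuleCat.{u} R) (ComplexShape.up ℤ) 0).mapIso e1⟩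

section Loc

variable {A : Type u} [CommRing A]

/-- `A_f ⊗_A A_g ≃ A_{fg}` -/
noncomputable def locTensorEquiv (f g : A) :
    TensorProduct A (Localization.Away f) (Localization.Away g) ≃ₗ[A] Localization.Away (f * g) := by
  let S := Localization.Away f
  let e1 : TensorProduct A S (Localization.Away g) ≃ₐ[S] Localization.Away (algebraMap A S g) :=
    IsLocalization.Away.tensorEquiv (R := A) S (r := g) (A := Localization.Away g)
  haveI : IsLocalization.Away (f * g) (Localization.Away (algebraMap A S g)) :=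
    IsLocalization.Away.mul' S (Localization.Away (algebraMap A S g)) f g
  let e2 : Localization.Away (algebraMap A S g) ≃ₐ[A] Localization.Away (f * g) :=
    IsLocalization.algEquiv (Submonoid.powers (f * g)) _ _
  exact (e1.restrictScalars A).toLinearEquiv ≪≫ₗ e2.toLinearEquiv


end Loc

end Groth.Agent.H4.SG1
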