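import Mathlib
import Groth.Prelude.Def_DTen3
import Groth.Agent.H4.SG1
import Groth.Agent.H4.HC1

/-!
# `X ⊗ M[0]` is the termwise tensor product
-/

set_option autoImplicit false
universe u
open CategoryTheory Category Limits MonoidalCategory HomologicalComplex DirectSum

namespace Groth.Agent.H4.SG3

open Groth.Agent.H4.TP1 Groth.Agent.H4.TC4 DRing Groth.Agent.H4.SG1 Groth.Agent.H4.HC1

variable {R : Type u} [CommRing R] (M : ModuleCat.{u} R)

/-- termwise tensor product with `M` -/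
noncomputable abbrev GCt : CochainComplex (ModuleCat.{u} R) ℤ ⥤ CochainComplex (ModuleCat.{u} R) ℤ :=
  (tensorRight M).mapHomologicalComplex (ComplexShape.up ℤ)

variable (X : CochainComplex (ModuleCat.{u} R) ℤ)

/-- the components of the comparison map -/
noncomputable def compF (n : ℤ) : X.X n ⊗ M ⟶ (X ⊗ sg0 M).X n :=
  (X.X n ◁ (singleObjXSelf (ComplexShape.up ℤ) 0 M).inv) ≫
    ιTensorObj X (sg0 M) n 0 n (add_zero n)

lemma compF_comm (n n' : ℤ) (h : n + 1 = n') :
    compF M X n ≫ (X ⊗ sg0 M).d n n' = (X.d n n' ▷ M) ≫ compF M X n' := by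
  subst h
  dsimp only [compF]
  rw [assoc, ι_tensor_d X (sg0 M) n 0 n (add_zero n) (n + 1) rfl]
  have h0 : (sg0 M).d 0 (0 + 1) = 0 := by simp
  rw [h0, MonoidalPreadditive.whiskerLeft_zero, zero_comp, smul_zero, add_zero, ← assoc, ← assoc,
    whisker_exchange]

/-- the comparison map `X ⊗_tw M ⟶ X ⊗ M[0]` -/
noncomputable def comp : (GCt M).obj X ⟶ X ⊗ sg0 M where
  f n := compF M X n
  comm' n n' h := by
    exact compF_comm M X n n' h

lemma dsEquiv_lof {ι : Type*} [DecidableEq ι] (N : ι → Type*) [∀ i, AddCommGroup (N i)]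
    [∀ i, Module R (N i)] (i₀ : ι) (h : ∀ i, i ≠ i₀ → Subsingleton (N i)) (x : N i₀) :
    directSumEquivOfSubsingleton (R := R) N i₀ h (DirectSum.lof R ι N i₀ x) = x := by
  change DirectSum.component R ι N i₀ (DirectSum.lof R ι N i₀ x) = x
  simp

/-- the index `(n, 0)` -/
def in0 (n : ℤ) : Idx n := ⟨(n, 0), by simp [ComplexShape.π]⟩

open Classical in
lemma ι_tensorXIso_hom (K L : CochainComplex (ModuleCat.{u} R) ℤ) (n : ℤ) (i : Idx n) :
    ιTensorObj K L i.1.1 i.1.2 n i.2 ≫ (tensorXIso K L n).hom =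
      ModuleCat.ofHom (DirectSum.lof R (Idx n) (fun i : Idx n => summand K L n i) i) :=
  ModuleCat.ι_coprodIsoDirectSum_hom (fun i : Idx n => summand K L n i) i

open Classical in
lemma isIso_compF (n : ℤ) : IsIso (compF M X n) := by
  have hsub : ∀ i : Idx n, i ≠ in0 n → Subsingleton (summand X (sg0 M) n i) := by
    intro i hi
    have h1 : i.1.1 + i.1.2 = n := i.2
    have h2 : i.1.2 ≠ 0 := by
      intro hcon
      apply hi
      apply Subtype.ext
      exact Prod.ext (by change i.1.1 = n; omega) hcon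
    haveI : Subsingleton ((sg0 M).X i.1.2) := ModuleCat.subsingleton_of_isZero
      (HomologicalComplex.isZero_single_obj_X _ _ _ _ h2)
    change Subsingleton (TensorProduct R (X.X i.1.1) ((sg0 M).X i.1.2))
    infer_instance
  let e := directSumEquivOfSubsingleton (R := R) (fun i : Idx n => summand X (sg0 M) n i)
    (in0 n) hsub
  let ψ := tensorXIso X (sg0 M) n ≪≫ LinearEquiv.toModuleIso e
  have h1 : IsIso (ιTensorObj X (sg0 M) (in0 n).1.1 (in0 n).1.2 n (in0 n).2 ≫ ψ.hom) := by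
    have h2 : ιTensorObj X (sg0 M) (in0 n).1.1 (in0 n).1.2 n (in0 n).2 ≫ ψ.hom =
        ModuleCat.ofHom (DirectSum.lof R (Idx n) (fun i : Idx n => summand X (sg0 M) n i) (in0 n)) ≫
          (LinearEquiv.toModuleIso e).hom := by
      dsimp only [ψ, Iso.trans_hom]
      rw [← assoc, ι_tensorXIso_hom]
    rw [h2, ConcreteCategory.isIso_iff_bijective]
    have h3 : ∀ x, (ModuleCat.ofHom (DirectSum.lof R (Idx n)
        (fun i : Idx n => summand X (sg0 M) n i) (in0 n)) ≫
          (LinearEquiv.toModuleIso e).hom) x = x := by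
      intro x
      exact dsEquiv_lof (R := R) (fun i : Idx n => summand X (sg0 M) n i) (in0 n) hsub x
    exact ⟨fun x y hxy => by rw [← h3 x, ← h3 y]; exact hxy, fun y => ⟨y, h3 y⟩⟩
  have h4 : compF M X n ≫ ψ.hom = (X.X n ◁ (singleObjXSelf (ComplexShape.up ℤ) 0 M).inv) ≫
      (ιTensorObj X (sg0 M) (in0 n).1.1 (in0 n).1.2 n (in0 n).2 ≫ ψ.hom) := by
    dsimp only [compF]
    rw [assoc]
    rfl
  haveI : IsIso (compF M X n ≫ ψ.hom) := by
    rw [h4]
    haveI : IsIso (X.X n ◁ (singleObjXSelf (ComplexShape.up ℤ) 0 M).inv) :=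
      inferInstanceAs (IsIso ((tensorLeft (X.X n)).map (singleObjXSelf (ComplexShape.up ℤ) 0 M).inv))
    exact @IsIso.comp_isIso _ _ _ _ _ _ _ this h1
  exact IsIso.of_isIso_comp_right (compF M X n) ψ.hom

instance : IsIso (comp M X) := by
  haveI : ∀ n, IsIso ((comp M X).f n) := fun n => isIso_compF M X n
  exact HomologicalComplex.Hom.isIso_of_components _

lemma comp_naturality {X Y : CochainComplex (ModuleCat.{u} R) ℤ} (f : X ⟶ Y) :
    (GCt M).map f ≫ comp M Y = comp M X ≫ (f ▷ sg0 M) := by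
  refine HomologicalComplex.hom_ext _ _ fun n => ?_
  change (f.f n ▷ M) ≫ compF M Y n = compF M X n ≫ (f ▷ sg0 M).f n
  dsimp only [compF]
  have h : ιTensorObj X (sg0 M) n 0 n (add_zero n) ≫ (f ▷ sg0 M).f n =
      (f.f n ▷ (sg0 M).X 0) ≫ ιTensorObj Y (sg0 M) n 0 n (add_zero n) := by
    change ιMapBifunctor X (sg0 M) (curriedTensor (ModuleCat.{u} R)) (.up ℤ) n 0 n (add_zero n) ≫
      (mapBifunctorMap f (𝟙 (sg0 M)) (curriedTensor (ModuleCat.{u} R)) (.up ℤ)).f n = _
    rw [ι_mapBifunctorMap]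
    simp
  rw [assoc, h, ← assoc, ← assoc, whisker_exchange]

/-- **`- ⊗ M[0]` is the termwise tensor product with `M`.** -/
noncomputable def GCtIso : GCt M ≅ tensorRight (sg0 M) :=
  NatIso.ofComponents (fun X => asIso (comp M X)) (fun f => comp_naturality M f)

end Groth.Agent.H4.SG3
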