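import Mathlib

set_option autoImplicit false
universe u

namespace Groth.Agent.H4.KE5a

/-- the sign `(-1)^n` as an integer. -/
def sgn (n : ℤ) : ℤ := ((n.negOnePow : ℤˣ) : ℤ)

lemma sgn_succ (n : ℤ) : sgn (n + 1) = - sgn n := by
  unfold sgn
  rw [Int.negOnePow_succ, Units.val_neg]

lemma finite_support_of_bdd (F : ℤ → ℤ) (a b : ℤ) (h : ∀ n, n < a ∨ b < n → F n = 0) :
    (Function.support F).Finite := by
  refine (Set.finite_Icc a b).subset (fun n hn => ?_)
  rw [Function.mem_support] at hn
  by_contra hcon
  rw [Set.mem_Icc, not_and_or, not_le, not_le] at hcon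
  exact hn (h n hcon)

lemma finite_support_sgn_mul (F : ℤ → ℤ) (h : (Function.support F).Finite) :
    (Function.support fun n => sgn n * F n).Finite := by
  refine h.subset (fun n hn => ?_)
  rw [Function.mem_support] at hn ⊢
  intro h0
  exact hn (by rw [h0, mul_zero])

lemma finite_support_shift (F : ℤ → ℤ) (h : (Function.support F).Finite) :
    (Function.support fun n => F (n + 1)).Finite := by
  have : (Function.support fun n => F (n + 1)) = (Equiv.addRight (1 : ℤ)) ⁻¹' Function.support F := by
    ext n
    simp
  rw [this]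
  exact h.preimage (Equiv.injective _).injOn

/-- the alternating sum of `c n + k (n+1)` is the alternating sum of `c n - k n`. -/
lemma chi_shift (c k : ℤ → ℤ) (hc : (Function.support c).Finite) (hk : (Function.support k).Finite) :
    ∑ᶠ n : ℤ, sgn n * (c n + k (n + 1)) = (∑ᶠ n : ℤ, sgn n * c n) - ∑ᶠ n : ℤ, sgn n * k n := by
  have h1 : ∀ n : ℤ, sgn n * (c n + k (n + 1)) = sgn n * c n - sgn (n + 1) * k (n + 1) := by
    intro n
    rw [sgn_succ]
    ring
  rw [finsum_congr h1]
  have hsk := finite_support_sgn_mul k hk
  rw [finsum_sub_distrib (finite_support_sgn_mul c hc)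
    (finite_support_shift (fun n => sgn n * k n) hsk)]
  congr 1
  exact finsum_comp_equiv (Equiv.addRight (1 : ℤ)) (f := fun n => sgn n * k n)

/-- abstract multiplicativity of the Euler characteristic. -/
lemma euler_identity (cxy cx cy kxy kx ky : ℤ → ℤ)
    (h1 : (Function.support cxy).Finite) (h2 : (Function.support cx).Finite)
    (h3 : (Function.support cy).Finite) (h4 : (Function.support kxy).Finite)
    (h5 : (Function.support kx).Finite) (h6 : (Function.support ky).Finite)
    (hB : ∀ n, cxy n + kx n + ky n = cx n + cy n + kxy n) :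
    ∑ᶠ n : ℤ, sgn n * (cxy n + kxy (n + 1)) =
      (∑ᶠ n : ℤ, sgn n * (cx n + kx (n + 1))) + ∑ᶠ n : ℤ, sgn n * (cy n + ky (n + 1)) := by
  rw [chi_shift cxy kxy h1 h4, chi_shift cx kx h2 h5, chi_shift cy ky h3 h6]
  rw [← finsum_sub_distrib (finite_support_sgn_mul _ h1) (finite_support_sgn_mul _ h4),
    ← finsum_sub_distrib (finite_support_sgn_mul _ h2) (finite_support_sgn_mul _ h5),
    ← finsum_sub_distrib (finite_support_sgn_mul _ h3) (finite_support_sgn_mul _ h6)]
  have hA : (Function.support fun n => sgn n * cx n - sgn n * kx n).Finite := by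
    refine (h2.union h5).subset (fun n hn => ?_)
    rw [Function.mem_support] at hn
    by_contra hcon
    rw [Set.mem_union, not_or, Function.mem_support, Function.mem_support, not_not, not_not] at hcon
    exact hn (by rw [hcon.1, hcon.2]; ring)
  have hA' : (Function.support fun n => sgn n * cy n - sgn n * ky n).Finite := by
    refine (h3.union h6).subset (fun n hn => ?_)
    rw [Function.mem_support] at hn
    by_contra hcon
    rw [Set.mem_union, not_or, Function.mem_support, Function.mem_support, not_not, not_not] at hcon
    exact hn (by rw [hcon.1, hcon.2]; ring)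
  rw [← finsum_add_distrib hA hA']
  refine finsum_congr (fun n => ?_)
  have := hB n
  linear_combination (sgn n) * this

end Groth.Agent.H4.KE5a
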