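import Mathlib
import Groth.Agent.H4.KE4
import Groth.Agent.H4.KE5a

set_option autoImplicit false
universe u
open CategoryTheory CategoryTheory.Limits CochainComplex

namespace Groth.Agent.H4.KE5b

attribute [local instance] HasDerivedCategory.standard
open DRing CohIII Groth.Agent.H4.DNak2 Groth.Agent.H4.TorAR2 Groth.Agent.H4.KE1 Groth.Agent.H4.KE2
  Groth.Agent.H4.KE5a

section mod
variable {A : Type u} [Ring A] {N : Type*} [AddCommGroup N] [Module A N]

theorem kL_comp_le (φ ψ : N →ₗ[A] N) : kL (φ ∘ₗ ψ) ≤ kL ψ + kL φ := by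
  have hle0 : LinearMap.ker ψ ≤ LinearMap.ker (φ ∘ₗ ψ) := by
    intro x hx
    rw [LinearMap.mem_ker] at hx ⊢
    rw [LinearMap.comp_apply, hx, map_zero]
  let i₀ : LinearMap.ker ψ →ₗ[A] LinearMap.ker (φ ∘ₗ ψ) := Submodule.inclusion hle0
  let a : LinearMap.ker (φ ∘ₗ ψ) →ₗ[A] LinearMap.ker φ :=
    ψ.restrict (p := LinearMap.ker (φ ∘ₗ ψ)) (q := LinearMap.ker φ) (fun x hx => by
      rw [LinearMap.mem_ker] at hx ⊢
      exact hx)
  have hi₀ : Function.Injective i₀ := Submodule.inclusion_injective hle0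
  have ex1 : Function.Exact i₀ a := by
    intro x
    constructor
    · intro hx
      have hx' : ψ x.1 = 0 := congrArg Subtype.val hx
      exact ⟨⟨x.1, hx'⟩, Subtype.ext rfl⟩
    · rintro ⟨y, rfl⟩
      apply Subtype.ext
      exact y.2
  unfold kL
  rw [length_eq_range_add_range i₀ a ex1, length_range_of_injective i₀ hi₀]
  exact add_le_add le_rfl (Module.length_le_of_injective (LinearMap.range a).subtype
    (Submodule.subtype_injective _))

end mod

variable {A : Type u} [CommRing A]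

lemma length_homology_Kf' (E : Cx A) (f : A) (n m : ℤ) (h : n + 1 = m) :
    Module.length A ((Kf f E).homology n) =
      cL (f • LinearMap.id : E.homology n →ₗ[A] E.homology n) +
      kL (f • LinearMap.id : E.homology m →ₗ[A] E.homology m) := by
  subst h
  exact length_homology_Kf E f n

noncomputable def cZ (E : Cx A) (f : A) (n : ℤ) : ℤ :=
  ((cL (f • LinearMap.id : E.homology n →ₗ[A] E.homology n)).toNat : ℤ)

noncomputable def kZ (E : Cx A) (f : A) (n : ℤ) : ℤ :=
  ((kL (f • LinearMap.id : E.homology n →ₗ[A] E.homology n)).toNat : ℤ)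

noncomputable def lenZ (E : Cx A) (n : ℤ) : ℤ :=
  ((Module.length A (E.homology n)).toNat : ℤ)

/-- the Euler characteristic of a complex (meaningful when the cohomology is bounded of finite
length). -/
noncomputable def chi (E : Cx A) : ℤ := ∑ᶠ n : ℤ, sgn n * lenZ E n

lemma cZ_eq_zero (E : Cx A) (f : A) (n : ℤ) (h : Subsingleton (E.homology n)) : cZ E f n = 0 := by
  unfold cZ
  rw [cL_eq_zero_of_subsingleton]
  rfl

lemma kZ_eq_zero (E : Cx A) (f : A) (n : ℤ) (h : Subsingleton (E.homology n)) : kZ E f n = 0 := by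
  unfold kZ
  rw [kL_eq_zero_of_subsingleton]
  rfl

lemma cL_kL_ne_top (E : Cx A) (f : A) (hf : ∀ n, IsFiniteLength A ((Kf f E).homology n)) (n : ℤ) :
    cL (f • LinearMap.id : E.homology n →ₗ[A] E.homology n) ≠ ⊤ ∧
    kL (f • LinearMap.id : E.homology n →ₗ[A] E.homology n) ≠ ⊤ := by
  have h1 := length_homology_Kf' E f n (n + 1) rfl
  have h2 := length_homology_Kf' E f (n - 1) n (sub_add_cancel n 1)
  have f1 := (Module.length_ne_top_iff).2 (hf n)
  have f2 := (Module.length_ne_top_iff).2 (hf (n - 1))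
  rw [h1] at f1
  rw [h2] at f2
  exact ⟨(WithTop.add_ne_top.1 f1).1, (WithTop.add_ne_top.1 f2).2⟩

lemma lenZ_Kf (E : Cx A) (f : A) (n : ℤ)
    (hc : cL (f • LinearMap.id : E.homology n →ₗ[A] E.homology n) ≠ ⊤)
    (hk : kL (f • LinearMap.id : E.homology (n + 1) →ₗ[A] E.homology (n + 1)) ≠ ⊤) :
    lenZ (Kf f E) n = cZ E f n + kZ E f (n + 1) := by
  unfold lenZ cZ kZ
  rw [length_homology_Kf E f n, ENat.toNat_add hc hk]
  push_cast
  rfl

lemma toNat_identity (a b c d e f : ℕ∞) (ha : a ≠ ⊤) (hb : b ≠ ⊤) (hc : c ≠ ⊤) (hd : d ≠ ⊤)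
    (he : e ≠ ⊤) (hf : f ≠ ⊤) (h : a + b + c = d + e + f) :
    (a.toNat : ℤ) + b.toNat + c.toNat = d.toNat + e.toNat + f.toNat := by
  lift a to ℕ using ha
  lift b to ℕ using hb
  lift c to ℕ using hc
  lift d to ℕ using hd
  lift e to ℕ using he
  lift f to ℕ using hf
  simp only [ENat.toNat_coe]
  exact_mod_cast h

lemma mul_smul_id {N : Type*} [AddCommGroup N] [Module A N] (x y : A) :
    ((x * y) • LinearMap.id : N →ₗ[A] N) = (x • LinearMap.id) ∘ₗ (y • LinearMap.id) := by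
  ext n
  simp [mul_smul]

/-- multiplicativity of the Euler characteristic of the cone of a scalar. -/
theorem euler_mul (E : Cx A) (x y : A) (a b : ℤ)
    (hb : ∀ n, n < a ∨ b < n → Subsingleton (E.homology n))
    (hx : ∀ n, IsFiniteLength A ((Kf x E).homology n))
    (hy : ∀ n, IsFiniteLength A ((Kf y E).homology n)) :
    chi (Kf (x * y) E) = chi (Kf x E) + chi (Kf y E) := by
  have fx := cL_kL_ne_top E x hx
  have fy := cL_kL_ne_top E y hy
  have hB : ∀ n, cL ((x * y) • LinearMap.id : E.homology n →ₗ[A] E.homology n) +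
      kL (x • LinearMap.id : E.homology n →ₗ[A] E.homology n) +
      kL (y • LinearMap.id : E.homology n →ₗ[A] E.homology n) =
      cL (x • LinearMap.id : E.homology n →ₗ[A] E.homology n) +
      cL (y • LinearMap.id : E.homology n →ₗ[A] E.homology n) +
      kL ((x * y) • LinearMap.id : E.homology n →ₗ[A] E.homology n) := by
    intro n
    rw [mul_smul_id]
    exact cL_comp_add _ _
  have fk : ∀ n, kL ((x * y) • LinearMap.id : E.homology n →ₗ[A] E.homology n) ≠ ⊤ := by
    intro n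
    rw [mul_smul_id]
    refine ne_top_of_le_ne_top ?_ (kL_comp_le _ _)
    exact WithTop.add_ne_top.2 ⟨(fy n).2, (fx n).2⟩
  have fc : ∀ n, cL ((x * y) • LinearMap.id : E.homology n →ₗ[A] E.homology n) ≠ ⊤ := by
    intro n
    have h1 : cL (x • LinearMap.id : E.homology n →ₗ[A] E.homology n) +
      cL (y • LinearMap.id : E.homology n →ₗ[A] E.homology n) +
      kL ((x * y) • LinearMap.id : E.homology n →ₗ[A] E.homology n) ≠ ⊤ :=
      WithTop.add_ne_top.2 ⟨WithTop.add_ne_top.2 ⟨(fx n).1, (fy n).1⟩, fk n⟩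
    rw [← hB n] at h1
    exact (WithTop.add_ne_top.1 (WithTop.add_ne_top.1 h1).1).1
  have hBZ : ∀ n, cZ E (x * y) n + kZ E x n + kZ E y n = cZ E x n + cZ E y n + kZ E (x * y) n := by
    intro n
    unfold cZ kZ
    exact toNat_identity _ _ _ _ _ _ (fc n) (fx n).2 (fy n).2 (fx n).1 (fy n).1 (fk n) (hB n)
  have hsupp : ∀ (F : ℤ → ℤ), (∀ n, Subsingleton (E.homology n) → F n = 0) →
      (Function.support F).Finite := fun F hF =>
    finite_support_of_bdd F a b (fun n hn => hF n (hb n hn))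
  unfold chi
  have e1 : (∑ᶠ n : ℤ, sgn n * lenZ (Kf (x * y) E) n) =
      ∑ᶠ n : ℤ, sgn n * (cZ E (x * y) n + kZ E (x * y) (n + 1)) :=
    finsum_congr (fun n => by rw [lenZ_Kf E (x * y) n (fc n) (fk (n + 1))])
  have e2 : (∑ᶠ n : ℤ, sgn n * lenZ (Kf x E) n) =
      ∑ᶠ n : ℤ, sgn n * (cZ E x n + kZ E x (n + 1)) :=
    finsum_congr (fun n => by rw [lenZ_Kf E x n (fx n).1 (fx (n + 1)).2])
  have e3 : (∑ᶠ n : ℤ, sgn n * lenZ (Kf y E) n) =
      ∑ᶠ n : ℤ, sgn n * (cZ E y n + kZ E y (n + 1)) :=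
    finsum_congr (fun n => by rw [lenZ_Kf E y n (fy n).1 (fy (n + 1)).2])
  rw [e1, e2, e3]
  exact euler_identity (cZ E (x * y)) (cZ E x) (cZ E y) (kZ E (x * y)) (kZ E x) (kZ E y)
    (hsupp _ (cZ_eq_zero E _)) (hsupp _ (cZ_eq_zero E _)) (hsupp _ (cZ_eq_zero E _))
    (hsupp _ (kZ_eq_zero E _)) (hsupp _ (kZ_eq_zero E _)) (hsupp _ (kZ_eq_zero E _)) hBZ

end Groth.Agent.H4.KE5b
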