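import Mathlib
import Groth.Agent.H4.KE5b

set_option autoImplicit false
universe u
open CategoryTheory CategoryTheory.Limits CochainComplex

namespace Groth.Agent.H4.KE6

attribute [local instance] HasDerivedCategory.standard
open DRing CohIII Groth.Agent.H4.DNak2 Groth.Agent.H4.TorAR2 Groth.Agent.H4.KE1 Groth.Agent.H4.KE2
  Groth.Agent.H4.KE3 Groth.Agent.H4.KE4 Groth.Agent.H4.KE5a Groth.Agent.H4.KE5b Groth.Agent.H2.Kos

variable {A : Type u} [CommRing A]

/-- the Euler characteristic sum of the statement is `chi` of the Koszul complex with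
coefficients. -/
lemma chi_bridge (M : ModuleCat.{u} A) (s : List A) :
    (∑ᶠ i : ℤ, ((i.negOnePow : ℤˣ) : ℤ) *
      ((Module.length A ((tensorCx (Koszul.koszul A s) M).homology i)).toNat : ℤ)) =
      chi (koszulCx M s) := by
  unfold chi
  refine finsum_congr (fun i => ?_)
  unfold lenZ sgn
  have e : (tensorCx (Koszul.koszul A s) M).homology i ≅ (koszulCx M s).homology i :=
    (HomologicalComplex.homologyFunctor _ _ i).mapIso (bridge M s)
  rw [e.toLinearEquiv.length_eq]

lemma subsingleton_homology_koszulCx (M : ModuleCat.{u} A) (l : List A) (n : ℤ)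
    (hn : n < -(l.length : ℤ) ∨ 0 < n) : Subsingleton ((koszulCx M l).homology n) := by
  apply ModuleCat.subsingleton_of_isZero
  apply HomologicalComplex.ExactAt.isZero_homology
  apply HomologicalComplex.ExactAt.of_isZero
  rcases hn with hn | hn
  · exact isZero_X_of_lt M l n hn
  · exact isZero_X_of_pos M l n hn

/-- `χ(xy, l; M) = χ(x, l; M) + χ(y, l; M)`. -/
theorem chi_koszulCx_mul [IsNoetherianRing A] (x y : A) (l : List A) (M : Type u) [AddCommGroup M]
    [Module A M] [Module.Finite A M]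
    (hx : IsFiniteLength A (M ⧸ (Ideal.span ({x} ∪ {a : A | a ∈ l}) • (⊤ : Submodule A M))))
    (hy : IsFiniteLength A (M ⧸ (Ideal.span ({y} ∪ {a : A | a ∈ l}) • (⊤ : Submodule A M)))) :
    chi (koszulCx (ModuleCat.of A M) ((x * y) :: l)) =
      chi (koszulCx (ModuleCat.of A M) (x :: l)) + chi (koszulCx (ModuleCat.of A M) (y :: l)) := by
  have hset : ∀ z : A, Ideal.span ({z} ∪ {a : A | a ∈ l}) ≤ Ideal.span {a | a ∈ z :: l} := by
    intro z
    refine Ideal.span_mono (fun a ha => ?_)
    rcases ha with ha | ha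
    · rw [Set.mem_singleton_iff] at ha
      subst ha
      exact List.mem_cons_self
    · exact List.mem_cons_of_mem _ ha
  exact euler_mul (koszulCx (ModuleCat.of A M) l) x y (-(l.length : ℤ)) 0
    (fun n hn => subsingleton_homology_koszulCx _ l n hn)
    (fun n => isFiniteLength_homology_koszulCx M (x :: l) _ (hset x) hx n)
    (fun n => isFiniteLength_homology_koszulCx M (y :: l) _ (hset y) hy n)

theorem S8151 (A : Type u) [CommRing A] [IsNoetherianRing A] [IsLocalRing A]
    (x y : A) (l : List A) (M : Type u) [AddCommGroup M] [Module A M] [Module.Finite A M]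
    (hx : IsFiniteLength A (M ⧸ (Ideal.span ({x} ∪ {a : A | a ∈ l}) • (⊤ : Submodule A M))))
    (hy : IsFiniteLength A (M ⧸ (Ideal.span ({y} ∪ {a : A | a ∈ l}) • (⊤ : Submodule A M)))) :
    (∑ᶠ i : ℤ, ((i.negOnePow : ℤˣ) : ℤ) * ((Module.length A ((DRing.tensorCx (Koszul.koszul A ((x * y) :: l)) (ModuleCat.of A M)).homology i)).toNat : ℤ)) =
      (∑ᶠ i : ℤ, ((i.negOnePow : ℤˣ) : ℤ) * ((Module.length A ((DRing.tensorCx (Koszul.koszul A (x :: l)) (ModuleCat.of A M)).homology i)).toNat : ℤ)) +
      (∑ᶠ i : ℤ, ((i.negOnePow : ℤˣ) : ℤ) * ((Module.length A ((DRing.tensorCx (Koszul.koszul A (y :: l)) (ModuleCat.of A M)).homology i)).toNat : ℤ)) := by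
  rw [chi_bridge, chi_bridge, chi_bridge]
  exact chi_koszulCx_mul x y l M hx hy

end Groth.Agent.H4.KE6
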