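import Mathlib
import Groth.Agent.Lib.Helper2.Kos1

set_option autoImplicit false
open CategoryTheory CategoryTheory.Limits CochainComplex HomologicalComplex
  CochainComplex.HomComplex

namespace Groth.Agent.H4.KE7

section
variable {C : Type*} [Category C] [Preadditive C] [HasBinaryBiproducts C]
variable {K₁ L₁ K₂ L₂ : CochainComplex C ℤ} (φ₁ : K₁ ⟶ L₁) (φ₂ : K₂ ⟶ L₂) (a : K₁ ⟶ K₂)
  (b : L₁ ⟶ L₂) (comm : φ₁ ≫ b = a ≫ φ₂)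

open mappingCone Groth.Agent.H2.Kos

/-- the cone of the map of cones induced by a commutative square. -/
noncomputable abbrev CC : CochainComplex C ℤ := mappingCone (mappingCone.map φ₁ φ₂ a b comm)

noncomputable def q₁ (n : ℤ) : (CC φ₁ φ₂ a b comm).X n ⟶ K₁.X (n + 1 + 1) :=
  (fst (mappingCone.map φ₁ φ₂ a b comm)).1.v n (n + 1) rfl ≫ (fst φ₁).1.v (n + 1) (n + 1 + 1) rfl

noncomputable def q₂ (n : ℤ) : (CC φ₁ φ₂ a b comm).X n ⟶ L₁.X (n + 1) :=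
  (fst (mappingCone.map φ₁ φ₂ a b comm)).1.v n (n + 1) rfl ≫ (snd φ₁).v (n + 1) (n + 1) (add_zero _)

noncomputable def q₃ (n : ℤ) : (CC φ₁ φ₂ a b comm).X n ⟶ K₂.X (n + 1) :=
  (snd (mappingCone.map φ₁ φ₂ a b comm)).v n n (add_zero _) ≫ (fst φ₂).1.v n (n + 1) rfl

noncomputable def q₄ (n : ℤ) : (CC φ₁ φ₂ a b comm).X n ⟶ L₂.X n :=
  (snd (mappingCone.map φ₁ φ₂ a b comm)).v n n (add_zero _) ≫ (snd φ₂).v n n (add_zero _)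

noncomputable def j₁ (n : ℤ) : K₁.X (n + 1 + 1) ⟶ (CC φ₁ φ₂ a b comm).X n :=
  (inl φ₁).v (n + 1 + 1) (n + 1) (by omega) ≫
    (inl (mappingCone.map φ₁ φ₂ a b comm)).v (n + 1) n (by omega)

noncomputable def j₂ (n : ℤ) : L₁.X (n + 1) ⟶ (CC φ₁ φ₂ a b comm).X n :=
  (inr φ₁).f (n + 1) ≫ (inl (mappingCone.map φ₁ φ₂ a b comm)).v (n + 1) n (by omega)

noncomputable def j₃ (n : ℤ) : K₂.X (n + 1) ⟶ (CC φ₁ φ₂ a b comm).X n :=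
  (inl φ₂).v (n + 1) n (by omega) ≫ (inr (mappingCone.map φ₁ φ₂ a b comm)).f n

noncomputable def j₄ (n : ℤ) : L₂.X n ⟶ (CC φ₁ φ₂ a b comm).X n :=
  (inr φ₂).f n ≫ (inr (mappingCone.map φ₁ φ₂ a b comm)).f n

lemma ext_CC {W : C} (n : ℤ) (f g : W ⟶ (CC φ₁ φ₂ a b comm).X n)
    (h₁ : f ≫ q₁ φ₁ φ₂ a b comm n = g ≫ q₁ φ₁ φ₂ a b comm n)
    (h₂ : f ≫ q₂ φ₁ φ₂ a b comm n = g ≫ q₂ φ₁ φ₂ a b comm n)
    (h₃ : f ≫ q₃ φ₁ φ₂ a b comm n = g ≫ q₃ φ₁ φ₂ a b comm n)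
    (h₄ : f ≫ q₄ φ₁ φ₂ a b comm n = g ≫ q₄ φ₁ φ₂ a b comm n) : f = g := by
  rw [mappingCone.ext_to_iff _ n (n + 1) rfl]
  constructor
  · rw [mappingCone.ext_to_iff _ (n + 1) (n + 1 + 1) rfl]
    constructor
    · simpa only [Category.assoc, q₁] using h₁
    · simpa only [Category.assoc, q₂] using h₂
  · rw [mappingCone.ext_to_iff _ n (n + 1) rfl]
    constructor
    · simpa only [Category.assoc, q₃] using h₃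
    · simpa only [Category.assoc, q₄] using h₄

@[reassoc (attr := simp)] lemma j₁_q₁ (n : ℤ) : j₁ φ₁ φ₂ a b comm n ≫ q₁ φ₁ φ₂ a b comm n = 𝟙 _ := by
  simp [j₁, q₁]
@[reassoc (attr := simp)] lemma j₁_q₂ (n : ℤ) : j₁ φ₁ φ₂ a b comm n ≫ q₂ φ₁ φ₂ a b comm n = 0 := by
  simp [j₁, q₂]
@[reassoc (attr := simp)] lemma j₁_q₃ (n : ℤ) : j₁ φ₁ φ₂ a b comm n ≫ q₃ φ₁ φ₂ a b comm n = 0 := by
  simp [j₁, q₃]
@[reassoc (attr := simp)] lemma j₁_q₄ (n : ℤ) : j₁ φ₁ φ₂ a b comm n ≫ q₄ φ₁ φ₂ a b comm n = 0 := by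
  simp [j₁, q₄]
@[reassoc (attr := simp)] lemma j₂_q₁ (n : ℤ) : j₂ φ₁ φ₂ a b comm n ≫ q₁ φ₁ φ₂ a b comm n = 0 := by
  simp [j₂, q₁]
@[reassoc (attr := simp)] lemma j₂_q₂ (n : ℤ) : j₂ φ₁ φ₂ a b comm n ≫ q₂ φ₁ φ₂ a b comm n = 𝟙 _ := by
  simp [j₂, q₂]
@[reassoc (attr := simp)] lemma j₂_q₃ (n : ℤ) : j₂ φ₁ φ₂ a b comm n ≫ q₃ φ₁ φ₂ a b comm n = 0 := by
  simp [j₂, q₃]
@[reassoc (attr := simp)] lemma j₂_q₄ (n : ℤ) : j₂ φ₁ φ₂ a b comm n ≫ q₄ φ₁ φ₂ a b comm n = 0 := by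
  simp [j₂, q₄]
@[reassoc (attr := simp)] lemma j₃_q₁ (n : ℤ) : j₃ φ₁ φ₂ a b comm n ≫ q₁ φ₁ φ₂ a b comm n = 0 := by
  simp [j₃, q₁]
@[reassoc (attr := simp)] lemma j₃_q₂ (n : ℤ) : j₃ φ₁ φ₂ a b comm n ≫ q₂ φ₁ φ₂ a b comm n = 0 := by
  simp [j₃, q₂]
@[reassoc (attr := simp)] lemma j₃_q₃ (n : ℤ) : j₃ φ₁ φ₂ a b comm n ≫ q₃ φ₁ φ₂ a b comm n = 𝟙 _ := by
  simp [j₃, q₃]
@[reassoc (attr := simp)] lemma j₃_q₄ (n : ℤ) : j₃ φ₁ φ₂ a b comm n ≫ q₄ φ₁ φ₂ a b comm n = 0 := by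
  simp [j₃, q₄]
@[reassoc (attr := simp)] lemma j₄_q₁ (n : ℤ) : j₄ φ₁ φ₂ a b comm n ≫ q₁ φ₁ φ₂ a b comm n = 0 := by
  simp [j₄, q₁]
@[reassoc (attr := simp)] lemma j₄_q₂ (n : ℤ) : j₄ φ₁ φ₂ a b comm n ≫ q₂ φ₁ φ₂ a b comm n = 0 := by
  simp [j₄, q₂]
@[reassoc (attr := simp)] lemma j₄_q₃ (n : ℤ) : j₄ φ₁ φ₂ a b comm n ≫ q₃ φ₁ φ₂ a b comm n = 0 := by
  simp [j₄, q₃]
@[reassoc (attr := simp)] lemma j₄_q₄ (n : ℤ) : j₄ φ₁ φ₂ a b comm n ≫ q₄ φ₁ φ₂ a b comm n = 𝟙 _ := by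
  simp [j₄, q₄]

@[reassoc] lemma d_q₁ (n : ℤ) : (CC φ₁ φ₂ a b comm).d n (n + 1) ≫ q₁ φ₁ φ₂ a b comm (n + 1) =
    q₁ φ₁ φ₂ a b comm n ≫ K₁.d (n + 1 + 1) (n + 1 + 1 + 1) := by
  unfold q₁
  rw [mappingCone.d_fst_v_assoc _ n (n + 1) (n + 1 + 1) rfl rfl]
  simp only [Preadditive.neg_comp, Category.assoc]
  rw [mappingCone.d_fst_v _ (n + 1) (n + 1 + 1) (n + 1 + 1 + 1) rfl rfl]
  simp

@[reassoc] lemma d_q₂ (n : ℤ) : (CC φ₁ φ₂ a b comm).d n (n + 1) ≫ q₂ φ₁ φ₂ a b comm (n + 1) =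
    -q₁ φ₁ φ₂ a b comm n ≫ φ₁.f (n + 1 + 1) - q₂ φ₁ φ₂ a b comm n ≫ L₁.d (n + 1) (n + 1 + 1) := by
  unfold q₁ q₂
  rw [mappingCone.d_fst_v_assoc _ n (n + 1) (n + 1 + 1) rfl rfl]
  simp only [Preadditive.neg_comp, Category.assoc]
  rw [mappingCone.d_snd_v _ (n + 1) (n + 1 + 1) rfl]
  simp only [Preadditive.comp_add, Category.assoc]
  abel

@[reassoc] lemma d_q₃ (n : ℤ) : (CC φ₁ φ₂ a b comm).d n (n + 1) ≫ q₃ φ₁ φ₂ a b comm (n + 1) =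
    q₁ φ₁ φ₂ a b comm n ≫ a.f (n + 1 + 1) - q₃ φ₁ φ₂ a b comm n ≫ K₂.d (n + 1) (n + 1 + 1) := by
  unfold q₁ q₃
  rw [mappingCone.d_snd_v_assoc _ n (n + 1) rfl]
  simp only [Preadditive.add_comp, Category.assoc]
  rw [map_f_fst_v φ₁ φ₂ a b comm (n + 1) (n + 1 + 1) rfl,
    mappingCone.d_fst_v _ n (n + 1) (n + 1 + 1) rfl rfl]
  simp only [Preadditive.comp_neg]
  abel

@[reassoc] lemma d_q₄ (n : ℤ) : (CC φ₁ φ₂ a b comm).d n (n + 1) ≫ q₄ φ₁ φ₂ a b comm (n + 1) =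
    q₂ φ₁ φ₂ a b comm n ≫ b.f (n + 1) + q₃ φ₁ φ₂ a b comm n ≫ φ₂.f (n + 1) +
      q₄ φ₁ φ₂ a b comm n ≫ L₂.d n (n + 1) := by
  unfold q₂ q₃ q₄
  rw [mappingCone.d_snd_v_assoc _ n (n + 1) rfl]
  simp only [Preadditive.add_comp, Category.assoc]
  rw [map_f_snd_v φ₁ φ₂ a b comm (n + 1), mappingCone.d_snd_v _ n (n + 1) rfl]
  simp only [Preadditive.comp_add, Category.assoc]
  abel

/-- the swap morphism, degreewise. -/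
noncomputable def swapX (n : ℤ) :
    (CC φ₁ φ₂ a b comm).X n ⟶ (CC a b φ₁ φ₂ comm.symm).X n :=
  -q₁ φ₁ φ₂ a b comm n ≫ j₁ a b φ₁ φ₂ comm.symm n + q₂ φ₁ φ₂ a b comm n ≫ j₃ a b φ₁ φ₂ comm.symm n +
    q₃ φ₁ φ₂ a b comm n ≫ j₂ a b φ₁ φ₂ comm.symm n + q₄ φ₁ φ₂ a b comm n ≫ j₄ a b φ₁ φ₂ comm.symm n

@[reassoc (attr := simp)] lemma swapX_q₁ (n : ℤ) :
    swapX φ₁ φ₂ a b comm n ≫ q₁ a b φ₁ φ₂ comm.symm n = -q₁ φ₁ φ₂ a b comm n := by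
  simp [swapX]
@[reassoc (attr := simp)] lemma swapX_q₂ (n : ℤ) :
    swapX φ₁ φ₂ a b comm n ≫ q₂ a b φ₁ φ₂ comm.symm n = q₃ φ₁ φ₂ a b comm n := by
  simp [swapX]
@[reassoc (attr := simp)] lemma swapX_q₃ (n : ℤ) :
    swapX φ₁ φ₂ a b comm n ≫ q₃ a b φ₁ φ₂ comm.symm n = q₂ φ₁ φ₂ a b comm n := by
  simp [swapX]
@[reassoc (attr := simp)] lemma swapX_q₄ (n : ℤ) :
    swapX φ₁ φ₂ a b comm n ≫ q₄ a b φ₁ φ₂ comm.symm n = q₄ φ₁ φ₂ a b comm n := by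
  simp [swapX]

/-- the swap morphism `cone (cone φ₁ → cone φ₂) ⟶ cone (cone a → cone b)`. -/
noncomputable def swap : CC φ₁ φ₂ a b comm ⟶ CC a b φ₁ φ₂ comm.symm where
  f := swapX φ₁ φ₂ a b comm
  comm' := by
    intro i j hij
    have hij' : i + 1 = j := hij
    subst hij'
    apply ext_CC a b φ₁ φ₂ comm.symm (i + 1)
    · simp only [Category.assoc, d_q₁, swapX_q₁, swapX_q₁_assoc, Preadditive.neg_comp,
        Preadditive.comp_neg]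
    · simp only [Category.assoc, d_q₂, d_q₃, swapX_q₂, Preadditive.comp_sub, Preadditive.comp_neg,
        swapX_q₁_assoc, swapX_q₂_assoc, Preadditive.neg_comp, neg_neg]
    · simp only [Category.assoc, d_q₂, d_q₃, swapX_q₃, Preadditive.comp_sub, Preadditive.comp_neg,
        swapX_q₁_assoc, swapX_q₃_assoc, Preadditive.neg_comp]
    · simp only [Category.assoc, d_q₄, swapX_q₄, Preadditive.comp_add, swapX_q₂_assoc,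
        swapX_q₃_assoc, swapX_q₄_assoc]
      abel

lemma swap_swap : swap φ₁ φ₂ a b comm ≫ swap a b φ₁ φ₂ comm.symm = 𝟙 _ := by
  ext n
  apply ext_CC φ₁ φ₂ a b comm n
  · simp [swap]
  · simp [swap]
  · simp [swap]
  · simp [swap]

/-- the cone of a morphism of cones is symmetric in the two directions of the square. -/
noncomputable def swapIso : CC φ₁ φ₂ a b comm ≅ CC a b φ₁ φ₂ comm.symm where
  hom := swap φ₁ φ₂ a b comm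
  inv := swap a b φ₁ φ₂ comm.symm
  hom_inv_id := swap_swap φ₁ φ₂ a b comm
  inv_hom_id := swap_swap a b φ₁ φ₂ comm.symm

end

end Groth.Agent.H4.KE7
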