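import Mathlib
import Groth.Agent.H4.KE6
import Groth.Agent.H4.KE7
import Groth.Agent.Lib.Helper2.Kos3

set_option autoImplicit false
universe u
open CategoryTheory CategoryTheory.Limits CochainComplex

namespace Groth.Agent.H4.KE8

attribute [local instance] HasDerivedCategory.standard
open DRing CohIII Groth.Agent.H4.DNak2 Groth.Agent.H4.TorAR2 Groth.Agent.H4.KE1 Groth.Agent.H4.KE2
  Groth.Agent.H4.KE3 Groth.Agent.H4.KE4 Groth.Agent.H4.KE5a Groth.Agent.H4.KE5b Groth.Agent.H4.KE6
  Groth.Agent.H4.KE7 Groth.Agent.H2.Kos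

variable {A : Type u} [CommRing A]

lemma comm_fg (E : Cx A) (f g : A) : (f • 𝟙 E) ≫ (g • 𝟙 E) = (g • 𝟙 E) ≫ (f • 𝟙 E) := by
  simp only [Linear.smul_comp, Linear.comp_smul, Category.id_comp]
  exact smul_comm g f (𝟙 E)

/-- the cones of two scalars commute. -/
noncomputable def swapKf (E : Cx A) (f g : A) : Kf g (Kf f E) ≅ Kf f (Kf g E) :=
  coneIso (g • 𝟙 (Kf f E))
      (mappingCone.map (f • 𝟙 E) (f • 𝟙 E) (g • 𝟙 E) (g • 𝟙 E) (comm_fg E f g))
      (Iso.refl _) (Iso.refl _) (by
        rw [map_smul_id (f • 𝟙 E) g (comm_fg E f g)]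
        simp) ≪≫
    swapIso (f • 𝟙 E) (f • 𝟙 E) (g • 𝟙 E) (g • 𝟙 E) (comm_fg E f g) ≪≫
    coneIso (mappingCone.map (g • 𝟙 E) (g • 𝟙 E) (f • 𝟙 E) (f • 𝟙 E) (comm_fg E f g).symm)
      (f • 𝟙 (Kf g E)) (Iso.refl _) (Iso.refl _) (by
        rw [map_smul_id (g • 𝟙 E) f (comm_fg E f g).symm]
        simp)

/-- moving an element of the sequence to the front. -/
noncomputable def koszulCxPerm (M : ModuleCat.{u} A) (f : A) (l₂ : List A) :
    ∀ l₁ : List A, koszulCx M (l₁ ++ f :: l₂) ≅ koszulCx M (f :: (l₁ ++ l₂))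
  | [] => Iso.refl _
  | a :: l₁ =>
      coneIso (a • 𝟙 (koszulCx M (l₁ ++ f :: l₂))) (a • 𝟙 (koszulCx M (f :: (l₁ ++ l₂))))
        (koszulCxPerm M f l₂ l₁) (koszulCxPerm M f l₂ l₁) (by simp) ≪≫
      swapKf (koszulCx M (l₁ ++ l₂)) f a

lemma lenZ_congr {E E' : Cx A} (e : E ≅ E') (n : ℤ) : lenZ E n = lenZ E' n := by
  unfold lenZ
  have e' : E.homology n ≅ E'.homology n := (HomologicalComplex.homologyFunctor _ _ n).mapIso e
  rw [e'.toLinearEquiv.length_eq]

lemma chi_congr {E E' : Cx A} (e : E ≅ E') : chi E = chi E' := by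
  unfold chi
  exact finsum_congr (fun n => by rw [lenZ_congr e n])

lemma isFiniteLength_congr {E E' : Cx A} (e : E ≅ E') (n : ℤ)
    (h : IsFiniteLength A (E.homology n)) : IsFiniteLength A (E'.homology n) := by
  have e' : E.homology n ≅ E'.homology n := (HomologicalComplex.homologyFunctor _ _ n).mapIso e
  exact e'.toLinearEquiv.isFiniteLength h

/-- finiteness of the cohomology of the cone of a product. -/
lemma isFiniteLength_Kf_mul (E : Cx A) (x y : A)
    (hx : ∀ n, IsFiniteLength A ((Kf x E).homology n))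
    (hy : ∀ n, IsFiniteLength A ((Kf y E).homology n)) (n : ℤ) :
    IsFiniteLength A ((Kf (x * y) E).homology n) := by
  have fx := cL_kL_ne_top E x hx
  have fy := cL_kL_ne_top E y hy
  have hB : ∀ n, cL ((x * y) • LinearMap.id : E.homology n →ₗ[A] E.homology n) +
      kL (x • LinearMap.id : E.homology n →ₗ[A] E.homology n) +
      kL (y • LinearMap.id : E.homology n →ₗ[A] E.homology n) =
      cL (x • LinearMap.id : E.homology n →ₗ[A] E.homology n) +
      cL (y • LinearMap.id : E.homology n →ₗ[A] E.homology n) +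
      kL ((x * y) • LinearMap.id : E.homology n →ₗ[A] E.homology n) := by
    intro n
    rw [mul_smul_id]
    exact cL_comp_add _ _
  have fk : ∀ n, kL ((x * y) • LinearMap.id : E.homology n →ₗ[A] E.homology n) ≠ ⊤ := by
    intro n
    rw [mul_smul_id]
    refine ne_top_of_le_ne_top ?_ (kL_comp_le _ _)
    exact WithTop.add_ne_top.2 ⟨(fy n).2, (fx n).2⟩
  have fc : ∀ n, cL ((x * y) • LinearMap.id : E.homology n →ₗ[A] E.homology n) ≠ ⊤ := by
    intro n
    have h1 : cL (x • LinearMap.id : E.homology n →ₗ[A] E.homology n) +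
      cL (y • LinearMap.id : E.homology n →ₗ[A] E.homology n) +
      kL ((x * y) • LinearMap.id : E.homology n →ₗ[A] E.homology n) ≠ ⊤ :=
      WithTop.add_ne_top.2 ⟨WithTop.add_ne_top.2 ⟨(fx n).1, (fy n).1⟩, fk n⟩
    rw [← hB n] at h1
    exact (WithTop.add_ne_top.1 (WithTop.add_ne_top.1 h1).1).1
  rw [← Module.length_ne_top_iff, length_homology_Kf E (x * y) n]
  exact WithTop.add_ne_top.2 ⟨fc n, fk (n + 1)⟩

lemma subsingleton_homology_Kf_one (E : Cx A) (n : ℤ) : Subsingleton ((Kf (1 : A) E).homology n) := by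
  rw [← Module.length_eq_zero_iff (R := A), length_homology_Kf E 1 n]
  have h1 : ∀ m, ((1 : A) • LinearMap.id : E.homology m →ₗ[A] E.homology m) = LinearMap.id := by
    intro m
    rw [one_smul]
  rw [h1, h1]
  unfold cL kL
  rw [LinearMap.range_id, LinearMap.ker_id]
  rw [Module.length_eq_zero_iff.2 inferInstance, Module.length_eq_zero_iff.2 inferInstance]
  rfl

lemma chi_Kf_one (E : Cx A) : chi (Kf (1 : A) E) = 0 := by
  unfold chi
  rw [finsum_congr (g := fun _ => (0 : ℤ))]
  · exact finsum_zero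
  · intro n
    unfold lenZ
    haveI := subsingleton_homology_Kf_one E n
    rw [Module.length_eq_zero_iff.2 inferInstance]
    simp

lemma isFiniteLength_Kf_pow (E : Cx A) (x : A)
    (hx : ∀ n, IsFiniteLength A ((Kf x E).homology n)) (m : ℕ) (n : ℤ) :
    IsFiniteLength A ((Kf (x ^ m) E).homology n) := by
  induction m generalizing n with
  | zero =>
    rw [pow_zero]
    haveI := subsingleton_homology_Kf_one E n
    exact IsFiniteLength.of_subsingleton
  | succ m ih =>
    rw [pow_succ]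
    exact isFiniteLength_Kf_mul E (x ^ m) x ih hx n

/-- `χ(cone of x^m) = m χ(cone of x)`. -/
theorem chi_Kf_pow (E : Cx A) (x : A) (a b : ℤ)
    (hb : ∀ n, n < a ∨ b < n → Subsingleton (E.homology n))
    (hx : ∀ n, IsFiniteLength A ((Kf x E).homology n)) (m : ℕ) :
    chi (Kf (x ^ m) E) = (m : ℤ) * chi (Kf x E) := by
  induction m with
  | zero =>
    rw [pow_zero, chi_Kf_one]
    simp
  | succ m ih =>
    rw [pow_succ, euler_mul E (x ^ m) x a b hb (isFiniteLength_Kf_pow E x hx m) hx, ih]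
    push_cast
    ring

end Groth.Agent.H4.KE8
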