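import Mathlib
import Groth.Agent.H4.KE8

set_option autoImplicit false
universe u
open CategoryTheory CategoryTheory.Limits CochainComplex

namespace Groth.Agent.H4.KE9

attribute [local instance] HasDerivedCategory.standard
open DRing CohIII Groth.Agent.H4.DNak2 Groth.Agent.H4.TorAR2 Groth.Agent.H4.KE1 Groth.Agent.H4.KE2
  Groth.Agent.H4.KE3 Groth.Agent.H4.KE4 Groth.Agent.H4.KE5a Groth.Agent.H4.KE5b Groth.Agent.H4.KE6
  Groth.Agent.H4.KE7 Groth.Agent.H4.KE8 Groth.Agent.H2.Kos

variable {A : Type u} [CommRing A]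

theorem isFiniteLength_of_killed_radical [IsNoetherianRing A] {N M : Type u}
    [AddCommGroup N] [Module A N] [AddCommGroup M] [Module A M] [Module.Finite A N]
    [Module.Finite A M] (I : Ideal A) (hI : I ≤ (Module.annihilator A N).radical)
    (hM : Module.annihilator A M ≤ Module.annihilator A N)
    (hfl : IsFiniteLength A (M ⧸ (I • ⊤ : Submodule A M))) : IsFiniteLength A N := by
  refine isFiniteLength_of_support_subset ?_ hfl
  rw [Module.support_quotient]
  intro p hp
  have hle := Module.annihilator_le_of_mem_support hp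
  refine ⟨?_, ?_⟩
  · rw [Module.mem_support_iff_of_finite]
    exact hM.trans hle
  · rw [PrimeSpectrum.mem_zeroLocus]
    exact hI.trans ((Ideal.IsPrime.radical_le_iff p.2).2 hle)

/-- Koszul cohomology has finite length as soon as `M / I M` has, `I ⊆ rad (l)`. -/
theorem isFiniteLength_homology_koszulCx_radical [IsNoetherianRing A] (M : Type u) [AddCommGroup M]
    [Module A M] [Module.Finite A M] (l : List A) (I : Ideal A)
    (hI : I ≤ (Ideal.span {a | a ∈ l}).radical)
    (hfl : IsFiniteLength A (M ⧸ (I • ⊤ : Submodule A M))) (n : ℤ) :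
    IsFiniteLength A ((koszulCx (ModuleCat.of A M) l).homology n) := by
  haveI := finite_homology_koszulCx M l n
  refine isFiniteLength_of_killed_radical (M := M) I (hI.trans (Ideal.radical_mono ?_)) ?_ hfl
  · intro a ha
    rw [Module.mem_annihilator]
    intro y
    exact smul_homology_eq_zero_of_homotopy _ a
      (nonempty_homotopy_of_mem_ideal (ModuleCat.of A M) l a ha) n y
  · intro a ha
    rw [Module.mem_annihilator]
    intro y
    refine smul_homology_eq_zero_of_eq_zero _ a (smul_id_koszulCx_eq_zero _ l a ?_) n y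
    ext m
    exact Module.mem_annihilator.1 ha m

/-- the underlying elements. -/
def baseL (lp : List (A × ℕ)) : List A := lp.map Prod.fst
/-- the powers. -/
def powL (lp : List (A × ℕ)) : List A := lp.map (fun p => p.1 ^ p.2)
/-- the product of the exponents. -/
def expProd (lp : List (A × ℕ)) : ℤ := (lp.map (fun p => (p.2 : ℤ))).prod

lemma span_le_of_forall (s t : List A) (h : ∀ a ∈ s, a ∈ Ideal.span {a | a ∈ t}) :
    Ideal.span {a | a ∈ s} ≤ Ideal.span {a | a ∈ t} :=
  Ideal.span_le.2 (fun a ha => h a ha)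

theorem chi_pow [IsNoetherianRing A] (M : Type u) [AddCommGroup M] [Module A M]
    [Module.Finite A M] (I : Ideal A)
    (hfl : IsFiniteLength A (M ⧸ (I • ⊤ : Submodule A M))) :
    ∀ (lp : List (A × ℕ)) (l₁ : List A),
      I ≤ (Ideal.span {a | a ∈ l₁ ++ powL lp}).radical →
      chi (koszulCx (ModuleCat.of A M) (l₁ ++ powL lp)) =
        expProd lp * chi (koszulCx (ModuleCat.of A M) (l₁ ++ baseL lp)) := by
  intro lp
  induction lp with
  | nil =>
    intro l₁ _
    simp [powL, baseL, expProd]
  | cons p lp ih =>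
    intro l₁ hI
    obtain ⟨y, m⟩ := p
    have hpow : powL ((y, m) :: lp) = y ^ m :: powL lp := rfl
    have hbase : baseL ((y, m) :: lp) = y :: baseL lp := rfl
    have hexp : expProd ((y, m) :: lp) = (m : ℤ) * expProd lp := by
      simp [expProd]
    rw [hpow, hbase, hexp]
    rw [chi_congr (koszulCxPerm (ModuleCat.of A M) (y ^ m) (powL lp) l₁)]
    change chi (Kf (y ^ m) (koszulCx (ModuleCat.of A M) (l₁ ++ powL lp))) = _
    rcases Nat.eq_zero_or_pos m with hm | hm
    · subst hm
      rw [pow_zero, chi_Kf_one]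
      simp
    · have hI₁ : I ≤ (Ideal.span {a | a ∈ y :: (l₁ ++ powL lp)}).radical := by
        refine hI.trans (Ideal.radical_mono (span_le_of_forall _ _ (fun a ha => ?_)))
        rcases List.mem_append.1 ha with ha | ha
        · exact Ideal.subset_span (List.mem_cons_of_mem _ (List.mem_append_left _ ha))
        · rcases List.mem_cons.1 ha with rfl | ha
          · exact Ideal.pow_mem_of_mem _ (Ideal.subset_span
              (show y ∈ {a | a ∈ y :: (l₁ ++ powL lp)} from List.mem_cons_self)) m hm
          · exact Ideal.subset_span (List.mem_cons_of_mem _ (List.mem_append_right _ ha))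
      have hI₂ : I ≤ (Ideal.span {a | a ∈ (l₁ ++ [y]) ++ powL lp}).radical := by
        refine hI₁.trans (Ideal.radical_mono (span_le_of_forall _ _ (fun a ha => ?_)))
        refine Ideal.subset_span ?_
        simp only [Set.mem_ofPred_eq, List.mem_append, List.mem_cons, List.not_mem_nil,
          or_false] at ha ⊢
        tauto
      rw [chi_Kf_pow (koszulCx (ModuleCat.of A M) (l₁ ++ powL lp)) y
        (-((l₁ ++ powL lp).length : ℤ)) 0
        (fun n hn => subsingleton_homology_koszulCx _ _ n hn)
        (fun n => isFiniteLength_homology_koszulCx_radical M (y :: (l₁ ++ powL lp)) I hI₁ hfl n) m]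
      change _ * chi (koszulCx (ModuleCat.of A M) (y :: (l₁ ++ powL lp))) = _
      rw [← chi_congr (koszulCxPerm (ModuleCat.of A M) y (powL lp) l₁)]
      have e1 : l₁ ++ y :: powL lp = (l₁ ++ [y]) ++ powL lp := by simp
      have e2 : l₁ ++ y :: baseL lp = (l₁ ++ [y]) ++ baseL lp := by simp
      rw [e1, e2, ih (l₁ ++ [y]) hI₂]
      ring

theorem S8152 (A : Type u) [CommRing A] [IsNoetherianRing A] [IsLocalRing A]
    (k : ℕ) (x : Fin k → A) (m : Fin k → ℕ) (M : Type u) [AddCommGroup M] [Module A M] [Module.Finite A M]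
    (hfl : IsFiniteLength A (M ⧸ (Ideal.span (Set.range x) • (⊤ : Submodule A M)))) :
    (∑ᶠ i : ℤ, ((i.negOnePow : ℤˣ) : ℤ) * ((Module.length A ((DRing.tensorCx (Koszul.koszul A (List.ofFn fun j => x j ^ m j)) (ModuleCat.of A M)).homology i)).toNat : ℤ)) =
      (∏ j, (m j : ℤ)) * (∑ᶠ i : ℤ, ((i.negOnePow : ℤˣ) : ℤ) * ((Module.length A ((DRing.tensorCx (Koszul.koszul A (List.ofFn x)) (ModuleCat.of A M)).homology i)).toNat : ℤ)) := by
  rw [chi_bridge, chi_bridge]
  let lp : List (A × ℕ) := List.ofFn (fun j => (x j, m j))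
  have h1 : powL lp = List.ofFn (fun j => x j ^ m j) := by
    simp only [powL, lp, List.map_ofFn]
    rfl
  have h2 : baseL lp = List.ofFn x := by
    simp only [baseL, lp, List.map_ofFn]
    rfl
  have h3 : expProd lp = ∏ j, (m j : ℤ) := by
    simp only [expProd, lp, List.map_ofFn, List.prod_ofFn]
    rfl
  have hI : Ideal.span (Set.range x) ≤ (Ideal.span {a | a ∈ [] ++ powL lp}).radical := by
    refine Ideal.span_le.2 ?_
    rintro _ ⟨j, rfl⟩
    refine ⟨m j, Ideal.subset_span ?_⟩
    rw [List.nil_append, h1]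
    exact (List.mem_ofFn).2 ⟨j, rfl⟩
  have := chi_pow M (Ideal.span (Set.range x)) hfl lp [] hI
  rw [List.nil_append, List.nil_append, h1, h2, h3] at this
  exact this

end Groth.Agent.H4.KE9
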