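import Mathlib
set_option autoImplicit false
universe u
open TensorProduct

/-!
# Three-term sequences of finite free modules over a local ring which are exact modulo the maximal ideal
-/

namespace Groth.Agent.H4.LocalPerf

variable {R : Type u} [CommRing R] [IsLocalRing R]
variable {F₀ F₁ F₂ : Type u} [AddCommGroup F₀] [Module R F₀] [AddCommGroup F₁] [Module R F₁]
  [AddCommGroup F₂] [Module R F₂]

open IsLocalRing

/-- the induced map `coker f → F₂` -/
noncomputable def gbar (f : F₀ →ₗ[R] F₁) (g : F₁ →ₗ[R] F₂) (hgf : g ∘ₗ f = 0) :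
    (F₁ ⧸ LinearMap.range f) →ₗ[R] F₂ :=
  (LinearMap.range f).liftQ g (by
    rintro _ ⟨x, rfl⟩
    exact LinearMap.congr_fun hgf x)

lemma gbar_comp_mkQ (f : F₀ →ₗ[R] F₁) (g : F₁ →ₗ[R] F₂) (hgf : g ∘ₗ f = 0) :
    gbar f g hgf ∘ₗ (LinearMap.range f).mkQ = g :=
  (LinearMap.range f).liftQ_mkQ g _

lemma range_gbar (f : F₀ →ₗ[R] F₁) (g : F₁ →ₗ[R] F₂) (hgf : g ∘ₗ f = 0) :
    LinearMap.range (gbar f g hgf) = LinearMap.range g :=
  Submodule.range_liftQ _ _ _

lemma gbar_lTensor_injective (f : F₀ →ₗ[R] F₁) (g : F₁ →ₗ[R] F₂) (hgf : g ∘ₗ f = 0)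
    (N : Type u) [AddCommGroup N] [Module R N]
    (h : Function.Exact (f.lTensor N) (g.lTensor N)) :
    Function.Injective ((gbar f g hgf).lTensor N) := by
  rw [injective_iff_map_eq_zero]
  intro x hx
  obtain ⟨y, rfl⟩ := LinearMap.lTensor_surjective N (Submodule.mkQ_surjective (LinearMap.range f)) x
  rw [← LinearMap.comp_apply, ← LinearMap.lTensor_comp, gbar_comp_mkQ] at hx
  obtain ⟨z, rfl⟩ := (h y).1 hx
  rw [← LinearMap.comp_apply, ← LinearMap.lTensor_comp]
  have : (LinearMap.range f).mkQ ∘ₗ f = 0 := LinearMap.range_mkQ_comp f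
  rw [this, LinearMap.lTensor_zero, LinearMap.zero_apply]

variable [Module.Finite R F₁] [Module.Finite R F₂] [Module.Free R F₂]

theorem exact_and_free_coker (f : F₀ →ₗ[R] F₁) (g : F₁ →ₗ[R] F₂) (hgf : g ∘ₗ f = 0)
    (h : Function.Exact (f.lTensor (ResidueField R)) (g.lTensor (ResidueField R))) :
    Function.Exact f g ∧ Module.Free R (F₂ ⧸ LinearMap.range g) := by
  have hinj := gbar_lTensor_injective f g hgf (ResidueField R) h
  obtain ⟨l', hl'⟩ :=
    (IsLocalRing.split_injective_iff_lTensor_residueField_injective (gbar f g hgf)).2 hinj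
  have hi : Function.Injective (gbar f g hgf) :=
    Function.HasLeftInverse.injective ⟨l', LinearMap.congr_fun hl'⟩
  constructor
  · intro y
    constructor
    · intro hy
      have h1 : gbar f g hgf ((LinearMap.range f).mkQ y) = 0 := by
        rw [← LinearMap.comp_apply, gbar_comp_mkQ]; exact hy
      have h2 := hi (h1.trans (map_zero _).symm)
      exact (Submodule.Quotient.mk_eq_zero _).1 h2
    · rintro ⟨x, rfl⟩
      exact LinearMap.congr_fun hgf x
  · have := Module.free_of_lTensor_residueField_injective (gbar f g hgf)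
      (LinearMap.range (gbar f g hgf)).mkQ (Submodule.mkQ_surjective _)
      (gbar f g hgf).exact_map_mkQ_range hinj
    rw [range_gbar] at this
    exact this

/-- variant with an arbitrary model of the residue field. -/
theorem exact_and_free_coker' (f : F₀ →ₗ[R] F₁) (g : F₁ →ₗ[R] F₂) (hgf : g ∘ₗ f = 0)
    (N : Type u) [AddCommGroup N] [Module R N] (e : N ≃ₗ[R] ResidueField R)
    (h : Function.Exact (f.lTensor N) (g.lTensor N)) :
    Function.Exact f g ∧ Module.Free R (F₂ ⧸ LinearMap.range g) := by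
  apply exact_and_free_coker f g hgf
  have hc : ∀ {M M' : Type u} [AddCommGroup M] [Module R M] [AddCommGroup M'] [Module R M']
      (φ : M →ₗ[R] M') (x : N ⊗[R] M),
      (φ.lTensor (ResidueField R)) ((e.toLinearMap.rTensor M) x) =
        (e.toLinearMap.rTensor M') ((φ.lTensor N) x) := by
    intro M M' _ _ _ _ φ x
    rw [← LinearMap.comp_apply, ← LinearMap.comp_apply, LinearMap.lTensor_comp_rTensor,
      LinearMap.rTensor_comp_lTensor]
  have hes : ∀ (M : Type u) [AddCommGroup M] [Module R M],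
      Function.Bijective (e.toLinearMap.rTensor M) := fun M _ _ =>
    (LinearEquiv.rTensor M e).bijective
  intro y
  obtain ⟨y', rfl⟩ := (hes F₁).2 y
  rw [hc]
  constructor
  · intro hy
    have : (g.lTensor N) y' = 0 := (hes F₂).1 (hy.trans (map_zero _).symm)
    obtain ⟨z, rfl⟩ := (h y').1 this
    exact ⟨(e.toLinearMap.rTensor F₀) z, hc f z⟩
  · rintro ⟨z, hz⟩
    obtain ⟨z', rfl⟩ := (hes F₀).2 z
    rw [hc] at hz
    have := (hes F₁).1 hz
    rw [← this, (h _).2 ⟨z', rfl⟩, map_zero]

end Groth.Agent.H4.LocalPerf
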