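import Mathlib
import Groth.Agent.H4.TorAmp3
import Groth.Agent.H4.PC8
set_option autoImplicit false
universe u
open CategoryTheory CategoryTheory.Limits CategoryTheory.Pretriangulated MonoidalCategory

namespace Groth.Agent.H4.TorAmp

attribute [local instance] HasDerivedCategory.standard

open DerivedCategory DRing Groth.Agent.H4.PC Groth.Agent.H4.ResP Groth.Agent.H4.DRing1 Groth.Agent.H4.LDer
  Groth.Agent.H4.SubCx ZeroObject

variable {R : Type u} [CommRing R]

/-- a complex whose terms are all zero has any tor amplitude. -/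
lemma hasTorAmp_toD_of_isZero (E : Cx R) (hE : ∀ i : ℤ, IsZero (E.X i)) (a b : ℤ) :
    HasTorAmplitudeIn R a b (toD E) :=
  ⟨E, fun i _ => hE i, fun i => by
    haveI := ModuleCat.subsingleton_of_isZero (hE i); infer_instance, ⟨Iso.refl _⟩⟩

lemma hasTorAmp_of_isZero (K : Dual.D R) (hK : IsZero K) (a b : ℤ) : HasTorAmplitudeIn R a b K :=
  hasTorAmp_of_iso ((Q.map_isZero (isZero_zero (Cx R))).iso hK)
    (hasTorAmp_toD_of_isZero (0 : Cx R)
      (fun i => (HomologicalComplex.eval _ _ i).map_isZero (isZero_zero _)) a b)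

/-- shifting. -/
lemma hasTorAmp_shift {a b : ℤ} {K : Dual.D R} (h : HasTorAmplitudeIn R a b K) (n a' b' : ℤ)
    (ha : a' + n = a) (hb : b' + n = b) : HasTorAmplitudeIn R a' b' (K⟦n⟧) := by
  obtain ⟨E, h1, h2, ⟨e⟩⟩ := h
  refine ⟨E⟦n⟧, fun i hi => h1 (i + n) (by omega), fun i => h2 (i + n),
    ⟨(Q.commShiftIso n).app E ≪≫ (shiftFunctor (Dual.D R) n).mapIso e⟩⟩

/-- a module placed in degree `n`. -/
lemma hasTorAmp_single {a b : ℤ} {N : ModuleCat.{u} R}
    (h : HasTorAmplitudeIn R a b ((singleFunctor (ModuleCat.{u} R) 0).obj N)) (n a' b' : ℤ)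
    (ha : a' = a + n) (hb : b' = b + n) :
    HasTorAmplitudeIn R a' b' ((singleFunctor (ModuleCat.{u} R) n).obj N) :=
  hasTorAmp_of_iso (((singleFunctors (ModuleCat.{u} R)).shiftIso (-n) n 0 (by omega)).app N)
    (hasTorAmp_shift h (-n) a' b' (by omega) (by omega))

lemma hasTorAmp_single_of_iso {a b n : ℤ} {N N' : ModuleCat.{u} R} (e : N ≅ N')
    (h : HasTorAmplitudeIn R a b ((singleFunctor (ModuleCat.{u} R) n).obj N)) :
    HasTorAmplitudeIn R a b ((singleFunctor (ModuleCat.{u} R) n).obj N') :=
  hasTorAmp_of_iso ((singleFunctor (ModuleCat.{u} R) n).mapIso e) h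

lemma hasTorAmp_single_of_subsingleton (a b n : ℤ) (N : ModuleCat.{u} R) [Subsingleton N] :
    HasTorAmplitudeIn R a b ((singleFunctor (ModuleCat.{u} R) n).obj N) :=
  hasTorAmp_of_isZero _ ((singleFunctor (ModuleCat.{u} R) n).map_isZero
    (ModuleCat.isZero_of_subsingleton N)) a b

lemma hasTorAmp_toD_of_concentrated (a b : ℤ) (E : Cx R) (c : ℤ) (hE : ∀ i, i ≠ c → IsZero (E.X i))
    (h : HasTorAmplitudeIn R (a - c) (b - c) ((singleFunctor (ModuleCat.{u} R) 0).obj (E.X c))) :
    HasTorAmplitudeIn R a b (toD E) := by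
  haveI : E.IsStrictlyGE c := by
    rw [CochainComplex.isStrictlyGE_iff]
    intro i hi
    exact hE i (by omega)
  haveI : E.IsStrictlyLE c := by
    rw [CochainComplex.isStrictlyLE_iff]
    intro i hi
    exact hE i (by omega)
  obtain ⟨M, ⟨e⟩⟩ := CochainComplex.exists_iso_single E c
  have eM : E.X c ≅ M := (HomologicalComplex.eval _ _ c).mapIso e ≪≫
    HomologicalComplex.singleObjXSelf (ComplexShape.up ℤ) c M
  have h1 : HasTorAmplitudeIn R a b ((singleFunctor (ModuleCat.{u} R) c).obj M) :=
    hasTorAmp_single (hasTorAmp_single_of_iso eM h) c a b (by omega) (by omega)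
  exact hasTorAmp_of_iso ((singleFunctorIsoCompQ _ c).app M ≪≫ (Q.mapIso e).symm) h1

variable [∀ M : ModuleCat.{u} R, (Gh (tensorRight M)).HasLeftDerivedFunctor (WA R)]

set_option maxHeartbeats 800000 in
theorem hasTorAmp_of_termwise_aux (n : ℕ) : ∀ (K : Cx R) (c : ℤ) (a b : ℤ),
    (∀ i : ℤ, i < c ∨ c + n ≤ i → IsZero (K.X i)) →
    (∀ i : ℤ, HasTorAmplitudeIn R (a - i) (b - i) ((singleFunctor (ModuleCat.{u} R) 0).obj (K.X i))) →
    HasTorAmplitudeIn R a b (toD K) := by
  induction n with
  | zero =>
    intro K c a b hz _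
    exact hasTorAmp_toD_of_isZero K (fun i => hz i (by
      by_cases h : i < c
      · exact Or.inl h
      · right; simp; omega)) a b
  | succ n ih =>
    intro K c a b hz hP
    have hS := brutal_stable K (c + 1)
    have hT := triangleOfSES_distinguished (shortExact K (brutal K (c + 1)) hS)
    have h1 : HasTorAmplitudeIn R a b (toD (sub K (brutal K (c + 1)) hS)) := by
      apply ih _ (c + 1) a b
      · intro i hi
        by_cases hia : i < c + 1
        · have hb := brutal_of_lt K hia
          haveI : Subsingleton (brutal K (c + 1) i) := by rw [hb]; infer_instance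
          exact ModuleCat.isZero_of_subsingleton (ModuleCat.of R (brutal K (c + 1) i))
        · haveI := ModuleCat.subsingleton_of_isZero (hz i (Or.inr (by push_cast; omega)))
          haveI : Subsingleton (brutal K (c + 1) i) := inferInstance
          exact ModuleCat.isZero_of_subsingleton (ModuleCat.of R (brutal K (c + 1) i))
      · intro i
        by_cases hia : i < c + 1
        · have hb := brutal_of_lt K hia
          haveI : Subsingleton (brutal K (c + 1) i) := by rw [hb]; infer_instance
          exact hasTorAmp_single_of_subsingleton _ _ 0 (ModuleCat.of R (brutal K (c + 1) i))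
        · have hb := brutal_of_le K (not_lt.mp hia)
          exact hasTorAmp_single_of_iso (LinearEquiv.ofTop _ hb).symm.toModuleIso (hP i)
    have h3 : HasTorAmplitudeIn R a b (toD (quot K (brutal K (c + 1)) hS)) := by
      apply hasTorAmp_toD_of_concentrated a b _ c
      · intro i hi
        by_cases hia : i < c + 1
        · have hb := brutal_of_lt K hia
          haveI := ModuleCat.subsingleton_of_isZero (hz i (Or.inl (by omega)))
          haveI : Subsingleton (K.X i ⧸ brutal K (c + 1) i) := inferInstance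
          exact ModuleCat.isZero_of_subsingleton (ModuleCat.of R (K.X i ⧸ brutal K (c + 1) i))
        · have hb := brutal_of_le K (not_lt.mp hia)
          haveI : Subsingleton (K.X i ⧸ brutal K (c + 1) i) := by
            rw [Submodule.Quotient.subsingleton_iff]; exact hb
          exact ModuleCat.isZero_of_subsingleton (ModuleCat.of R (K.X i ⧸ brutal K (c + 1) i))
      · have hb := brutal_of_lt K (by omega : c < c + 1)
        exact hasTorAmp_single_of_iso (Submodule.quotEquivOfEqBot _ hb).symm.toModuleIso (hP c)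
    exact hasTorAmp_obj₂ _ hT a b h1 h3

/-- a bounded complex whose terms `K^i[0]` have tor amplitude in `[a - i, b - i]` has tor amplitude in
`[a, b]`. -/
theorem hasTorAmp_of_termwise (a b : ℤ) (K : Cx R) (c d : ℤ) (hcd : VanishesOutside K c d)
    (h : ∀ i : ℤ, HasTorAmplitudeIn R (a - i) (b - i) ((singleFunctor (ModuleCat.{u} R) 0).obj (K.X i))) :
    HasTorAmplitudeIn R a b (toD K) :=
  hasTorAmp_of_termwise_aux (d + 1 - c).toNat K c a b (fun i hi => hcd i (by
    have := Int.self_le_toNat (d + 1 - c); omega)) h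

set_option maxHeartbeats 800000 in
theorem hasTorAmp_of_homology_aux (n : ℕ) : ∀ (a b c d : ℤ) (K : Dual.D R), d < c + n → K.IsGE c →
    K.IsLE d →
    (∀ i : ℤ, HasTorAmplitudeIn R (a - i) (b - i) ((singleFunctor (ModuleCat.{u} R) 0).obj
      ((homologyFunctor (ModuleCat.{u} R) i).obj K))) → HasTorAmplitudeIn R a b K := by
  induction n with
  | zero =>
    intro a b c d K hd hc hd' _
    exact hasTorAmp_of_isZero K (TStructure.t.isZero K d c (by push_cast at hd; omega)) a b
  | succ n ih =>
    intro a b c d K hd hKc hKd h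
    obtain ⟨A, B, m₁, m₂, m₃, hT, hA, hB⟩ := TwoTerm.exists_truncation_triangle K d
    haveI : (Triangle.mk m₁ m₂ m₃).obj₃.IsGE d := hB
    haveI : (Triangle.mk m₁ m₂ m₃).obj₁.IsLE (d - 1) := hA
    have hiso₂ : ∀ i : ℤ, d ≤ i → IsIso ((homologyFunctor (ModuleCat.{u} R) i).map m₂) :=
      fun i hi => DRing1.isIso_homology_mor₂ _ hT d i hi
    have hiso₁ : ∀ i : ℤ, i < d → IsIso ((homologyFunctor (ModuleCat.{u} R) i).map m₁) :=
      fun i hi => DRing1.isIso_homology_mor₁ _ hT d i hi
    haveI : B.IsLE d := by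
      rw [isLE_iff]
      intro i hi
      haveI := hiso₂ i (by omega)
      exact (isZero_of_isLE K d i hi).of_iso
        (asIso ((homologyFunctor (ModuleCat.{u} R) i).map m₂)).symm
    obtain ⟨eB⟩ := exists_iso_single B d
    have hB' : HasTorAmplitudeIn R a b B := by
      refine hasTorAmp_of_iso eB.symm ?_
      haveI := hiso₂ d le_rfl
      exact hasTorAmp_single (hasTorAmp_single_of_iso
        (asIso ((homologyFunctor (ModuleCat.{u} R) d).map m₂)) (h d)) d a b (by omega) (by omega)
    have hAc : A.IsGE c := by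
      rw [isGE_iff]
      intro i hi
      by_cases hid : i < d
      · haveI := hiso₁ i hid
        exact (isZero_of_isGE K c i hi).of_iso (asIso ((homologyFunctor (ModuleCat.{u} R) i).map m₁))
      · exact isZero_of_isLE A (d - 1) i (by omega)
    have hA' : HasTorAmplitudeIn R a b A := by
      refine ih a b c (d - 1) A (by push_cast at hd ⊢; omega) hAc hA (fun i => ?_)
      by_cases hi : i < d
      · haveI := hiso₁ i hi
        exact hasTorAmp_single_of_iso (asIso ((homologyFunctor (ModuleCat.{u} R) i).map m₁)).symm (h i)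
      · haveI := ModuleCat.subsingleton_of_isZero (isZero_of_isLE A (d - 1) i (by omega))
        exact hasTorAmp_single_of_subsingleton _ _ 0 _
    exact hasTorAmp_obj₂ _ hT a b hA' hB'

/-- an object with bounded cohomology whose cohomology modules `H^i(K)[0]` have tor amplitude in
`[a - i, b - i]` has tor amplitude in `[a, b]`. -/
theorem hasTorAmp_of_homology (a b : ℤ) (K : Dual.D R) (c d : ℤ)
    (hcd : ∀ i : ℤ, (i < c ∨ d < i) → IsZero ((homologyFunctor (ModuleCat.{u} R) i).obj K))
    (h : ∀ i : ℤ, HasTorAmplitudeIn R (a - i) (b - i) ((singleFunctor (ModuleCat.{u} R) 0).obj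
      ((homologyFunctor (ModuleCat.{u} R) i).obj K))) : HasTorAmplitudeIn R a b K := by
  have hc : K.IsGE c := by rw [isGE_iff]; exact fun i hi => hcd i (Or.inl hi)
  have hd : K.IsLE d := by rw [isLE_iff]; exact fun i hi => hcd i (Or.inr hi)
  exact hasTorAmp_of_homology_aux (d + 1 - c).toNat a b c d K (by
    have := Int.self_le_toNat (d + 1 - c); omega) hc hd h

end Groth.Agent.H4.TorAmp
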