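import Mathlib
import Groth.Agent.H4.LocalPerf1
import Groth.Agent.H4.TorAmp4
set_option autoImplicit false
universe u
open CategoryTheory CategoryTheory.Limits MonoidalCategory

namespace Groth.Agent.H4.LocalPerf

attribute [local instance] HasDerivedCategory.standard

open DerivedCategory DRing Groth.Agent.H4.PC Groth.Agent.H4.ResP Groth.Agent.H4.DRing1 Groth.Agent.H4.LDer
  Groth.Agent.H4.TorAmp

variable {R : Type u} [CommRing R]

/-- a bounded above complex of finite projective modules, exact in degrees `< a`, with projective
cokernel of `d^{a-1}`, is perfect with tor amplitude in `[a, b]`. -/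
theorem isPerfect_of_exactAt (P : Cx R) (a b : ℤ) (hb : ∀ i : ℤ, b < i → IsZero (P.X i))
    (hfp : ∀ i : ℤ, Module.Finite R (P.X i) ∧ Module.Projective R (P.X i))
    (h1 : ∀ i : ℤ, i < a → P.ExactAt i)
    (h2 : Module.Projective R (P.X a ⧸ LinearMap.range (P.d (a - 1) a).hom)) :
    IsPerfect R (toD P) ∧ HasTorAmplitudeIn R a b (toD P) := by
  haveI : P.IsGE a := by rw [CochainComplex.isGE_iff]; exact h1
  have hop : Module.Finite R (P.opcycles a) ∧ Module.Projective R (P.opcycles a) := by
    haveI := (hfp a).1
    have e := (opcyclesIso P (a - 1) a (by omega)).toLinearEquiv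
    exact ⟨Module.Finite.equiv e.symm, Module.Projective.of_equiv e.symm⟩
  have hz : VanishesOutside (P.truncGE a) a b := by
    intro i hi
    rcases hi with hi | hi
    · exact (P.truncGE a).isZero_of_isStrictlyGE a i hi
    · by_cases hia : a < i
      · exact (hb i hi).of_iso (P.truncGEXIso a i hia)
      · by_cases hia' : i < a
        · exact (P.truncGE a).isZero_of_isStrictlyGE a i hia'
        · obtain rfl : i = a := by omega
          refine IsZero.of_iso ?_ (P.truncGEXIsoOpcycles i)
          rw [IsZero.iff_id_eq_zero, ← cancel_epi (P.pOpcycles i)]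
          exact (hb i hi).eq_of_src _ _
  have hfp' : TermwiseFiniteProjective (P.truncGE a) := by
    intro i
    by_cases hia : a < i
    · haveI := (hfp i).1
      haveI := (hfp i).2
      have e := (P.truncGEXIso a i hia).toLinearEquiv
      exact ⟨Module.Finite.equiv e.symm, Module.Projective.of_equiv e.symm⟩
    · by_cases hia' : i < a
      · haveI := ModuleCat.subsingleton_of_isZero ((P.truncGE a).isZero_of_isStrictlyGE a i hia')
        exact ⟨inferInstance, inferInstance⟩
      · obtain rfl : i = a := by omega
        haveI := hop.1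
        haveI := hop.2
        have e := (P.truncGEXIsoOpcycles i).toLinearEquiv
        exact ⟨Module.Finite.equiv e.symm, Module.Projective.of_equiv e.symm⟩
  exact ⟨⟨P.truncGE a, a, b, hz, hfp', ⟨(asIso (Q.map (P.πTruncGE a))).symm⟩⟩,
    ⟨P.truncGE a, hz, fun i => by haveI := (hfp' i).2; infer_instance,
      ⟨(asIso (Q.map (P.πTruncGE a))).symm⟩⟩⟩

end Groth.Agent.H4.LocalPerf
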