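import Mathlib
import Groth.Agent.H4.KProj5
import Groth.Agent.H4.TorAmp3
import Groth.Agent.H4.TorAmp1
import Groth.Agent.H4.LocalPerf2
import Groth.Agent.H4.PC8

set_option autoImplicit false

/-!
# Perfect = pseudo-coherent + finite tor dimension
-/

namespace Groth.Agent.H4.Perf

universe u
open CategoryTheory CategoryTheory.Limits
attribute [local instance] HasDerivedCategory.standard
open DRing
open Groth.Agent.H4.LDer DerivedCategory Groth.Agent.H4.TorAmp Groth.Agent.H4.FlatAcyc
open Groth.Agent.H4.PC Groth.Agent.H4.DRing1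
open MonoidalCategory

variable {R : Type u} [CommRing R]

/-- a bounded above termwise flat complex with tor amplitude in `[a, c]` has flat cokernel of
`d^{a-1}`. -/
theorem flat_coker_of_hasTorAmp (K : DRing.Cx R) (b : ℤ)
    (hb : DRing.VanishesAbove K b) (hflat : DRing.TermwiseFlat K) (a c : ℤ)
    (hamp : DRing.HasTorAmplitudeIn R a c (DRing.toD K)) :
    Module.Flat R ((K.X a) ⧸ LinearMap.range (K.d (a - 1) a).hom) := by
  haveI : ∀ M : ModuleCat.{u} R, (Gh (tensorRight M)).HasLeftDerivedFunctor (WA R) :=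
    fun M => Groth.Agent.H4.KProj.hasLeftDerivedFunctor _
  rw [hasTorAmp_iff] at hamp
  have hK : IsBAFlat b K := ⟨hb, hflat⟩
  haveI := hflat a
  refine flat_coker (K.d (a - 2) (a - 1)).hom (K.d (a - 1) a).hom ?_ ?_
  · rw [← ModuleCat.hom_comp, K.d_comp_d]
    rfl
  · intro M _ _
    have h1 := hamp (ModuleCat.of R M) (a - 1) (Or.inl (by omega))
    have e := isoOfFlat (flatExact_tensorRight (ModuleCat.of R M)) hK (Iso.refl (toD K))
    have h2 : IsZero ((homologyFunctor (ModuleCat.{u} R) (a - 1)).obj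
        (toD ((GC (tensorRight (ModuleCat.of R M))).obj K))) :=
      h1.of_iso ((homologyFunctor (ModuleCat.{u} R) (a - 1)).mapIso e.symm)
    have h3 : ((GC (tensorRight (ModuleCat.of R M))).obj K).ExactAt (a - 1) := by
      rw [HomologicalComplex.exactAt_iff_isZero_homology]
      exact h2.of_iso ((homologyFunctorFactors (ModuleCat.{u} R) (a - 1)).app _).symm
    exact exact_d_of_exactAt _ (a - 2) (a - 1) a (by omega) (by omega) h3

theorem isPC'_of_isPerfect {K : Dual.D R} (h : IsPerfect R K) : IsPseudoCoherent' R K := by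
  obtain ⟨E, a, b, hz, hP, ⟨e⟩⟩ := h
  refine isPC'_of_forall_isPC K (fun m => isPC_of_iso e ?_)
  exact isPC_of_termwise m E b (fun i hi => hz i (Or.inr hi))
    (fun i => isPC_single_of_finProj _ 0 _ (hP i))

theorem hasTorAmp_of_isPerfect {K : Dual.D R} (h : IsPerfect R K) :
    ∃ a b : ℤ, HasTorAmplitudeIn R a b K := by
  obtain ⟨E, a, b, hz, hP, ⟨e⟩⟩ := h
  exact ⟨a, b, E, hz, fun i => by haveI := (hP i).2; infer_instance, ⟨e⟩⟩

lemma isZero_homology_of_hasTorAmp {K : Dual.D R} {a b : ℤ} (h : HasTorAmplitudeIn R a b K)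
    (i : ℤ) (hi : i < a ∨ b < i) : IsZero ((homologyFunctor (ModuleCat.{u} R) i).obj K) := by
  obtain ⟨E, hz, -, ⟨e⟩⟩ := h
  exact (isZero_homology_toD_of_isZero E i (hz i hi)).of_iso
    ((homologyFunctor (ModuleCat.{u} R) i).mapIso e.symm)

theorem isPerfect_of_isPC'_of_hasTorAmp {K : Dual.D R} (h : IsPseudoCoherent' R K) {a b : ℤ}
    (ht : HasTorAmplitudeIn R a b K) : IsPerfect R K := by
  obtain ⟨P, c, hc, hP, ⟨e⟩⟩ := h
  have ht' : HasTorAmplitudeIn R a b (toD P) := hasTorAmp_of_iso e.symm ht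
  have hfl : TermwiseFlat P := fun i => by haveI := (hP i).2; infer_instance
  haveI := flat_coker_of_hasTorAmp P c hc hfl a b ht'
  have hfp : Module.FinitePresentation R (P.X a ⧸ LinearMap.range (P.d (a - 1) a).hom) := by
    haveI := (hP a).1
    haveI := (hP a).2
    haveI := (hP (a - 1)).1
    haveI : Module.FinitePresentation R (P.X a) := Module.finitePresentation_of_projective R _
    refine Module.finitePresentation_of_surjective _ (Submodule.mkQ_surjective _) ?_
    rw [Submodule.ker_mkQ, LinearMap.range_eq_map]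
    exact Module.Finite.fg_top.map _
  haveI : Module.Projective R (P.X a ⧸ LinearMap.range (P.d (a - 1) a).hom) :=
    Module.Flat.projective_of_finitePresentation
  have hex : ∀ i : ℤ, i < a → P.ExactAt i := by
    intro i hi
    rw [HomologicalComplex.exactAt_iff_isZero_homology]
    exact (isZero_homology_of_hasTorAmp ht' i (Or.inl hi)).of_iso
      ((homologyFunctorFactors (ModuleCat.{u} R) i).app _).symm
  exact isPerfect_of_iso e (Groth.Agent.H4.LocalPerf.isPerfect_of_exactAt P a c hc
    (fun i => ⟨(hP i).1, by haveI := (hP i).2; infer_instance⟩) hex inferInstance).1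

theorem isPerfect_iff (K : Dual.D R) :
    IsPerfect R K ↔ IsPseudoCoherent' R K ∧ HasFiniteTorDimCx R K :=
  ⟨fun h => ⟨isPC'_of_isPerfect h, hasTorAmp_of_isPerfect h⟩,
    fun ⟨h1, a, b, h2⟩ => isPerfect_of_isPC'_of_hasTorAmp h1 h2⟩

end Groth.Agent.H4.Perf
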