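import Mathlib
import Groth.Agent.H4.KosLow
import Groth.Agent.H4.DRing2
import Groth.Agent.H4.Perf1

set_option autoImplicit false
universe u
attribute [local instance] HasDerivedCategory.standard
open CategoryTheory CategoryTheory.Limits DerivedCategory DRing CochainComplex Groth.Agent.H4.DRing1 Groth.Agent.H4.PC Groth.Agent.H4.KosLow

namespace Groth.Agent.H4.KosPerf

variable {S : Type u} [CommRing S]

theorem isPerfect_single_self : IsPerfect S (toD ((CochainComplex.singleFunctor (ModuleCat.{u} S) 0).obj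
    (ModuleCat.of S S))) := by
  refine ⟨_, 0, 0, fun i hi => ?_, fun i => ?_, ⟨Iso.refl _⟩⟩
  · exact HomologicalComplex.isZero_single_obj_X (ComplexShape.up ℤ) 0 (ModuleCat.of S S) i
      (by omega)
  · by_cases hi : i = 0
    · subst hi
      have e := (HomologicalComplex.singleObjXSelf (ComplexShape.up ℤ) 0 (ModuleCat.of S S))
      exact ⟨Module.Finite.equiv e.toLinearEquiv.symm,
        Module.Projective.of_equiv e.toLinearEquiv.symm⟩
    · have hz : IsZero (((CochainComplex.singleFunctor (ModuleCat.{u} S) 0).obj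
          (ModuleCat.of S S)).X i) :=
        HomologicalComplex.isZero_single_obj_X (ComplexShape.up ℤ) 0 (ModuleCat.of S S) i hi
      haveI := ModuleCat.subsingleton_of_isZero hz
      exact ⟨inferInstance, inferInstance⟩

theorem isPerfect_koszul (l : List S) : IsPerfect S (toD (Koszul.koszul S l)) := by
  induction l with
  | nil => exact isPerfect_single_self
  | cons f l ih =>
    have hT := DerivedCategory.mappingCone_triangle_distinguished
      (f • 𝟙 (Koszul.koszul S l) : Koszul.koszul S l ⟶ Koszul.koszul S l)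
    exact (isPerfect_two_out_of_three _ hT).1 ih ih


lemma nonempty_opcycles_iso (F : Cx S) (a : ℤ) :
    Nonempty (F.opcycles a ≅ ModuleCat.of S ((F.X a) ⧸ LinearMap.range (F.d (a - 1) a).hom)) := by
  have c1 := F.opcyclesIsCokernel (a - 1) a (by simp)
  exact ⟨IsColimit.coconePointUniqueUpToIso c1 (ModuleCat.cokernelIsColimit (F.d (a - 1) a))⟩

/-- `H^0` of the Koszul complex is the quotient by the ideal generated by the sequence. -/
theorem nonempty_koszul_homology_zero_iso (l : List S) :
    Nonempty ((Koszul.koszul S l).homology 0 ≅ ModuleCat.of S (S ⧸ Ideal.span {x | x ∈ l})) := by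
  set K := Koszul.koszul S l with hKdef
  obtain ⟨hK, s, r, υ, ρ, h1, h2, h3, h3', h4, h6⟩ := lowData_koszul l
  have hd : K.d 0 (0 + 1) = 0 := (hK 1 (by omega)).eq_of_tgt _ _
  have e1 : K.homology 0 ≅ K.opcycles 0 := K.isoHomologyι 0 (0 + 1) (by simp) hd
  obtain ⟨e2⟩ := nonempty_opcycles_iso K 0
  let eρ : K.X 0 ≃ₗ[S] S := LinearEquiv.ofLinearMap ρ υ (LinearMap.ext h3) (LinearMap.ext h3')
  have hmap : (LinearMap.range (K.d (0 - 1) 0).hom).map (eρ : K.X 0 →ₗ[S] S) =
      (Ideal.span {x | x ∈ l} : Submodule S S) := by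
    apply le_antisymm
    · rintro _ ⟨_, ⟨z, rfl⟩, rfl⟩
      have hz : z = s (r z) := (h2 z).symm
      have hd' : (K.d (0 - 1) 0).hom z = υ (∑ i, r z i * l.get i) := by
        conv_lhs => rw [hz]
        exact h4 (r z)
      change ρ ((K.d (0 - 1) 0).hom z) ∈ _
      rw [hd', h3]
      refine Submodule.sum_mem _ (fun i _ => ?_)
      exact Ideal.mul_mem_left _ _ (Ideal.subset_span (List.get_mem l i))
    · change Ideal.span {x | x ∈ l} ≤ _
      rw [Ideal.span_le]
      intro x hx
      obtain ⟨i, rfl⟩ := List.mem_iff_get.1 hx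
      refine ⟨(K.d (0 - 1) 0).hom (s (Pi.single i 1)), ⟨_, rfl⟩, ?_⟩
      change ρ ((K.d (-1) 0).hom (s (Pi.single i 1))) = l.get i
      rw [h4, h3]
      classical
      rw [Finset.sum_eq_single i]
      · simp
      · intro j _ hj; simp [hj]
      · intro hi; exact absurd (Finset.mem_univ i) hi
  exact ⟨e1 ≪≫ e2 ≪≫ (Submodule.Quotient.equiv _ _ eρ hmap).toModuleIso⟩

/-- For a Koszul-regular sequence the Koszul complex resolves the quotient. -/
theorem nonempty_koszul_iso (l : List S) (h : LCI.IsKoszulRegularSeq S l) :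
    Nonempty (toD (Koszul.koszul S l) ≅ Dual.inD S (S ⧸ Ideal.span {x | x ∈ l})) := by
  set K := Koszul.koszul S l with hKdef
  set K' := toD K with hK'
  have hK'z : ∀ i : ℤ, i ≠ 0 → IsZero ((homologyFunctor (ModuleCat.{u} S) i).obj K') := fun i hi =>
    (h i hi).of_iso (homologyToDIso K i)
  haveI : K'.IsLE 0 := by
    rw [DerivedCategory.isLE_iff]; intro i hi; exact hK'z i (by omega)
  haveI : K'.IsGE 0 := by
    rw [DerivedCategory.isGE_iff]; intro i hi; exact hK'z i (by omega)
  obtain ⟨Y, ⟨eY⟩⟩ := exists_iso_singleFunctor_obj_of_isGE_of_isLE K' 0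
  have i1 : (homologyFunctor (ModuleCat.{u} S) 0).obj K' ≅ Y :=
    (homologyFunctor (ModuleCat.{u} S) 0).mapIso eY ≪≫
      (singleFunctorCompHomologyFunctorIso (ModuleCat.{u} S) 0).app Y
  obtain ⟨i2⟩ := nonempty_koszul_homology_zero_iso l
  exact ⟨eY ≪≫ (DerivedCategory.singleFunctor (ModuleCat.{u} S) 0).mapIso
    (i1.symm ≪≫ homologyToDIso K 0 ≪≫ i2)⟩

theorem isPerfectModule_quotient_of_isKoszulRegularSeq (l : List S)
    (h : LCI.IsKoszulRegularSeq S l) :
    DRing.IsPerfectModule S (S ⧸ Ideal.span {x | x ∈ l}) := by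
  obtain ⟨e⟩ := nonempty_koszul_iso l h
  exact isPerfect_of_iso e (isPerfect_koszul l)

end Groth.Agent.H4.KosPerf
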