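import Mathlib
import Groth.Prelude.Def_DTen3
import Groth.Agent.H4.CF4
import Groth.Agent.H4.LK2
import Groth.Agent.H4.TC6
import Groth.Agent.H4.PC7

/-!
# S7103: derived completion commutes with `- ⊗^L F`, `F` bounded above finite free
-/

set_option autoImplicit false
universe u
open CategoryTheory Category Limits MonoidalCategory HomologicalComplex CochainComplex Pretriangulated

namespace Groth.Agent.H4.CF5

open DRing DTen DerivedCategory Groth.Agent.H4.CF1 Groth.Agent.H4.CF4 Groth.Agent.H4.TC4

attribute [local instance] HasDerivedCategory.standard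
attribute [local instance] Groth.Agent.H4.LK4.hasLTen Groth.Agent.H4.LK5.hasLTen₃
  Groth.Agent.H4.KI7.isSymMonoidal Groth.Agent.H4.KI6.hasRHom

variable {A : Type u} [CommRing A]

/-- `- ⊗^L F` (derived in one variable) agrees with `- ⊗^L QF` for `F` K-flat. -/
noncomputable def LTensorCxIso (F : DRing.Cx A) (hF : KFlat F) [DRing.HasLTensorCx A F] :
    DRing.LTensorCx A F ≅ tensorRightD A (Q.obj F) := by
  haveI : IsIso (Groth.Agent.H4.LK2.counit F) := by
    rw [NatTrans.isIso_iff_isIso_app]
    intro X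
    exact Groth.Agent.H4.LK2.isIso_counit_app_of_kflat_right F hF X
  haveI : IsIso (εRight A F) := Groth.Agent.H4.EV3.isIso_εRight F hF
  exact Localization.liftNatIso Q (HomologicalComplex.quasiIso (ModuleCat.{u} A) (ComplexShape.up ℤ))
    (Q ⋙ DRing.LTensorCx A F) (Q ⋙ tensorRightD A (Q.obj F)) _ _
    (asIso (Groth.Agent.H4.LK2.counit F) ≪≫ (asIso (εRight A F)).symm)

/-- transport of "commutes with derived completion" along a natural isomorphism -/
theorem completion_of_iso {F G : Dual.D A ⥤ Dual.D A} (e : F ≅ G) (I : Ideal A)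
    [DRing.HasDerivedCompletion I] (K : Dual.D A)
    (h : DRing.IsDerivedComplete I (F.obj ((DRing.derivedCompletion I).obj K).obj) ∧
      ∀ E : Dual.D A, DRing.IsDerivedComplete I E →
        Function.Bijective (fun φ : F.obj ((DRing.derivedCompletion I).obj K).obj ⟶ E =>
          F.map (DRing.toDerivedCompletion I K) ≫ φ)) :
    DRing.IsDerivedComplete I (G.obj ((DRing.derivedCompletion I).obj K).obj) ∧
      ∀ E : Dual.D A, DRing.IsDerivedComplete I E →
        Function.Bijective (fun φ : G.obj ((DRing.derivedCompletion I).obj K).obj ⟶ E =>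
          G.map (DRing.toDerivedCompletion I K) ≫ φ) := by
  refine ⟨(Groth.Agent.H4.DComp.isTriSub_isDerivedComplete I).iso (e.app _) h.1, fun E hE => ?_⟩
  have hb := h.2 E hE
  have key : (fun φ : G.obj ((DRing.derivedCompletion I).obj K).obj ⟶ E =>
      G.map (DRing.toDerivedCompletion I K) ≫ φ) =
      (fun ψ : F.obj K ⟶ E => e.inv.app K ≫ ψ) ∘
        (fun φ : F.obj ((DRing.derivedCompletion I).obj K).obj ⟶ E =>
          F.map (DRing.toDerivedCompletion I K) ≫ φ) ∘
        (fun φ : G.obj ((DRing.derivedCompletion I).obj K).obj ⟶ E => e.hom.app _ ≫ φ) := by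
    funext φ
    change _ = e.inv.app K ≫ F.map (DRing.toDerivedCompletion I K) ≫ e.hom.app _ ≫ φ
    rw [← assoc (F.map _), e.hom.naturality, assoc, Iso.inv_hom_id_app_assoc]
  rw [key]
  refine Function.Bijective.comp ?_ (hb.comp ?_)
  · exact ((e.app K).symm.homFromEquiv (Z := E)).symm.bijective |> fun _ => by
      constructor
      · intro ψ ψ' hψ
        have : e.inv.app K ≫ ψ = e.inv.app K ≫ ψ' := hψ
        exact (cancel_epi _).1 this
      · intro ψ
        exact ⟨e.hom.app K ≫ ψ, by simp⟩
  · constructor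
    · intro ψ ψ' hψ
      have : e.hom.app _ ≫ ψ = e.hom.app _ ≫ ψ' := hψ
      exact (cancel_epi _).1 this
    · intro ψ
      exact ⟨e.inv.app _ ≫ ψ, by simp⟩

theorem S7103 [IsNoetherianRing A] (I : Ideal A)
    [DRing.HasDerivedCompletion I] (F : DRing.Cx A) (c : ℤ) (hFc : DRing.VanishesAbove F c)
    (hFf : DRing.TermwiseFiniteFree F) [DRing.HasLTensorCx A F]
    (K : Dual.D A) (b : ℤ) (hK : ∀ i : ℤ, b < i → Subsingleton (Dual.HD A K i)) :
    DRing.IsDerivedComplete I ((DRing.LTensorCx A F).obj ((DRing.derivedCompletion I).obj K).obj) ∧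
      ∀ E : Dual.D A, DRing.IsDerivedComplete I E →
        Function.Bijective (fun φ : (DRing.LTensorCx A F).obj ((DRing.derivedCompletion I).obj K).obj ⟶ E =>
          (DRing.LTensorCx A F).map (DRing.toDerivedCompletion I K) ≫ φ) := by
  have hFk : KFlat F := Groth.Agent.H4.TC6.kflat_of_boundedAbove F c hFc
    (fun i => by haveI := (hFf i).2; infer_instance)
  have hI : I.FG := IsNoetherian.noetherian I
  haveI : K.IsLE b := by
    rw [DerivedCategory.isLE_iff]
    intro i hi
    haveI := hK i hi
    exact ModuleCat.isZero_of_subsingleton _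
  have hL : ∀ m : ℤ, IsPseudoCoherent A m (Q.obj F) := fun m =>
    Groth.Agent.H4.PC.isPC_of_isPC' (Q.obj F) ⟨F, c, hFc, hFf, ⟨Iso.refl _⟩⟩ m
  exact completion_of_iso (LTensorCxIso F hFk).symm I K
    (completion_tensorRightD I hI (Q.obj F) hL K b)

end Groth.Agent.H4.CF5
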