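import Mathlib
import Groth.Prelude.Def_DTen3
import Groth.Prelude.Def_DDual2
import Groth.Agent.H4.CF5
import Groth.Agent.H4.SG3
import Groth.Agent.H4.LDer2
import Groth.Agent.H4.PC9

/-!
# S7095: derived completion commutes with `- ⊗^L M`, `M` a finite module over a Noetherian ring
-/

set_option autoImplicit false
universe u
open CategoryTheory Category Limits MonoidalCategory HomologicalComplex CochainComplex Pretriangulated

namespace Groth.Agent.H4.CF6

open DRing DTen DerivedCategory Groth.Agent.H4.CF1 Groth.Agent.H4.CF4 Groth.Agent.H4.CF5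
  Groth.Agent.H4.TC4 Groth.Agent.H4.SG1 Groth.Agent.H4.SG3 Groth.Agent.H4.LDer

attribute [local instance] HasDerivedCategory.standard
attribute [local instance] Groth.Agent.H4.LK4.hasLTen Groth.Agent.H4.LK5.hasLTen₃
  Groth.Agent.H4.KI7.isSymMonoidal Groth.Agent.H4.KI6.hasRHom

variable {A : Type u} [CommRing A]

/-- the comparison `- ⊗^L QF ⟶ LTensorCx F` is an isomorphism, for every complex `F`. -/
theorem isIso_toLTensorCx (F : DRing.Cx A) [DRing.HasLTensorCx A F] : IsIso (toLTensorCx A F) := by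
  rw [NatTrans.isIso_iff_isIso_app]
  intro X
  obtain ⟨P, hP, -, hfl, ⟨e⟩⟩ := Groth.Agent.H4.LK4.exists_kproj_kflat_iso X
  haveI := hP
  rw [← NatTrans.isIso_app_iff_of_iso (toLTensorCx A F) e]
  have h1 := toLTensorCx_fac A F P
  haveI : IsIso ((ε A).app (P, F)) := Groth.Agent.H4.LK4.isIso_ε_of_kflat P F (Or.inl hfl)
  haveI h2 : IsIso (((DRing.tensorCxQ A F).totalLeftDerivedCounit DerivedCategory.Q (qis A)).app P) :=
    Groth.Agent.H4.LK2.isIso_counit_app_of_isKProjective F P
  haveI : IsIso ((toLTensorCx A F).app (Q.obj P) ≫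
      ((DRing.tensorCxQ A F).totalLeftDerivedCounit DerivedCategory.Q (qis A)).app P) := by
    rw [h1]
    infer_instance
  exact IsIso.of_isIso_comp_right _
    (((DRing.tensorCxQ A F).totalLeftDerivedCounit DerivedCategory.Q (qis A)).app P)

/-- `- ⊗^L F` (derived in one variable) agrees with `- ⊗^L QF`. -/
noncomputable def LTensorCxIso' (F : DRing.Cx A) [DRing.HasLTensorCx A F] :
    DRing.LTensorCx A F ≅ tensorRightD A (Q.obj F) :=
  haveI := isIso_toLTensorCx F
  (asIso (toLTensorCx A F)).symm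

section

variable (M : ModuleCat.{u} A) [DRing.HasLTensor A M]

/-- the comparison data -/
noncomputable def betaM : Q ⋙ DRing.LTensor A M ⟶ DRing.tensorCxQ A (sg0 M) :=
  gam (tensorRight M) ≫ Functor.whiskerRight (GCtIso M).hom Q

/-- the comparison `LTensor M ⟶ LTensorCx M[0]` -/
noncomputable def thetaM [DRing.HasLTensorCx A (sg0 M)] :
    DRing.LTensor A M ⟶ DRing.LTensorCx A (sg0 M) :=
  (DRing.LTensorCx A (sg0 M)).leftDerivedLift
    ((DRing.tensorCxQ A (sg0 M)).totalLeftDerivedCounit DerivedCategory.Q (qis A))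
    (qis A) (DRing.LTensor A M) (betaM M)

lemma thetaM_fac [DRing.HasLTensorCx A (sg0 M)] (K : DRing.Cx A) :
    (thetaM M).app (Q.obj K) ≫
      ((DRing.tensorCxQ A (sg0 M)).totalLeftDerivedCounit DerivedCategory.Q (qis A)).app K =
      (betaM M).app K :=
  (DRing.LTensorCx A (sg0 M)).leftDerived_fac_app _ (qis A) _ (betaM M) K

theorem isIso_thetaM [DRing.HasLTensorCx A (sg0 M)] : IsIso (thetaM M) := by
  rw [NatTrans.isIso_iff_isIso_app]
  intro X
  obtain ⟨P, hP, -, hfl, ⟨e⟩⟩ := Groth.Agent.H4.LK4.exists_kproj_kflat_iso X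
  haveI := hP
  rw [← NatTrans.isIso_app_iff_of_iso (thetaM M) e]
  have h1 := thetaM_fac M P
  haveI h2 : IsIso (((DRing.tensorCxQ A (sg0 M)).totalLeftDerivedCounit DerivedCategory.Q
      (qis A)).app P) :=
    Groth.Agent.H4.LK2.isIso_counit_app_of_isKProjective (sg0 M) P
  haveI : IsIso ((betaM M).app P) := by
    change IsIso ((gam (tensorRight M)).app P ≫ Q.map ((GCtIso M).hom.app P))
    have k1 : IsIso ((gam (tensorRight M)).app P) := isIso_gam_app (tensorRight M) P
    have k2 : IsIso (Q.map ((GCtIso M).hom.app P)) := inferInstance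
    exact @IsIso.comp_isIso _ _ _ _ _ _ _ k1 k2
  haveI : IsIso ((thetaM M).app (Q.obj P) ≫
      ((DRing.tensorCxQ A (sg0 M)).totalLeftDerivedCounit DerivedCategory.Q (qis A)).app P) := by
    rw [h1]
    infer_instance
  exact IsIso.of_isIso_comp_right _
    (((DRing.tensorCxQ A (sg0 M)).totalLeftDerivedCounit DerivedCategory.Q (qis A)).app P)

/-- **`- ⊗^L M` (derived termwise tensor product) agrees with `- ⊗^L Q(M[0])`.** -/
noncomputable def LTensorIso : DRing.LTensor A M ≅ tensorRightD A (Q.obj (sg0 M)) :=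
  haveI : DRing.HasLTensorCx A (sg0 M) := Groth.Agent.H4.LK2.hasLTensorCx (sg0 M)
  haveI := isIso_thetaM M
  asIso (thetaM M) ≪≫ LTensorCxIso' (sg0 M)

end

theorem S7095 [IsNoetherianRing A] (I : Ideal A)
    [DRing.HasDerivedCompletion I] (M : Type u) [AddCommGroup M] [Module A M] [Module.Finite A M]
    [DRing.HasLTensor A (ModuleCat.of A M)] (K : Dual.D A) (b : ℤ)
    (hK : ∀ i : ℤ, b < i → Subsingleton (Dual.HD A K i)) :
    DRing.IsDerivedComplete I ((DRing.LTensor A (ModuleCat.of A M)).obj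
        ((DRing.derivedCompletion I).obj K).obj) ∧
      ∀ E : Dual.D A, DRing.IsDerivedComplete I E →
        Function.Bijective (fun φ : (DRing.LTensor A (ModuleCat.of A M)).obj
            ((DRing.derivedCompletion I).obj K).obj ⟶ E =>
          (DRing.LTensor A (ModuleCat.of A M)).map (DRing.toDerivedCompletion I K) ≫ φ) := by
  have hI : I.FG := IsNoetherian.noetherian I
  haveI : K.IsLE b := by
    rw [DerivedCategory.isLE_iff]
    intro i hi
    haveI := hK i hi
    exact ModuleCat.isZero_of_subsingleton _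
  haveI : Module.Finite A (ModuleCat.of A M) := inferInstanceAs (Module.Finite A M)
  have hL : ∀ m : ℤ, IsPseudoCoherent A m (Q.obj (sg0 (ModuleCat.of A M))) := fun m =>
    Groth.Agent.H4.PC.isPC_of_iso
      ((singleFunctorIsoCompQ (ModuleCat.{u} A) 0).app (ModuleCat.of A M))
      (Groth.Agent.H4.PC.isPC_single_of_finite_of_noetherian (ModuleCat.of A M) m)
  exact completion_of_iso (LTensorIso (ModuleCat.of A M)).symm I K
    (completion_tensorRightD I hI (Q.obj (sg0 (ModuleCat.of A M))) hL K b)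

end Groth.Agent.H4.CF6
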