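import Mathlib
import Groth.Agent.H4.FB3

set_option autoImplicit false
universe u
open CategoryTheory Category Limits Pretriangulated TensorProduct

namespace Groth.Agent.H4.FB4

attribute [local instance] HasDerivedCategory.standard

open DRing DerivedCategory Groth.Agent.H4.DCompl1 Groth.Agent.H4.DZ5 Groth.Agent.H4.FB1
  Groth.Agent.H4.FB2 Groth.Agent.H4.FB3 Groth.Agent.H4.InjAmp Groth.Agent.H4.DZ3

section ff

variable {A : Type u} [CommRing A] {B : Type u} [CommRing B] [Algebra A B]
  [Module.FaithfullyFlat A B]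

/-- extension of scalars along a faithfully flat map reflects zero objects. -/
lemma isZero_of_isZero_ext (M : ModuleCat.{u} A)
    (h : IsZero ((ModuleCat.extendScalars.{u, u, u} (algebraMap A B)).obj M)) : IsZero M := by
  haveI := ModuleCat.subsingleton_of_isZero h
  haveI : Subsingleton (B ⊗[A] M) :=
    (Groth.Agent.H8.ExtBridge.extEquiv (A := A) (B := B) M).symm.toEquiv.subsingleton
  haveI : Subsingleton M := Module.FaithfullyFlat.lTensor_reflects_triviality A B M
  exact ModuleCat.isZero_of_subsingleton M

lemma isZero_homology_of_E (K : Dual.D A) (i : ℤ)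
    (h : IsZero ((homologyFunctor (ModuleCat.{u} B) i).obj ((E A B).obj K))) :
    IsZero ((homologyFunctor (ModuleCat.{u} A) i).obj K) :=
  isZero_of_isZero_ext _ (h.of_iso (homologyEIso K i).symm)

lemma finite_HD_of_E (K : Dual.D A) (i : ℤ)
    (h : Module.Finite B (Dual.HD B ((E A B).obj K) i)) : Module.Finite A (Dual.HD A K i) := by
  refine Groth.Agent.H4.PCDesc.finite_of_finite_extendScalars (algebraMap A B)
    (fun Q hQ => isZero_of_isZero_ext Q hQ) _ ?_
  exact Module.Finite.equiv (homologyEIso K i).toLinearEquiv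

/-- **Faithfully flat descent of dualizing complexes.** -/
theorem isDualizing_of_E [IsNoetherianRing A] (K : Dual.D A)
    (hK : Dual.IsDualizing B ((E A B).obj K)) : Dual.IsDualizing A K := by
  obtain ⟨a, b, ha, hb, -⟩ := exists_bounds_of_isDualizing _ hK
  haveI : K.IsGE a := by
    rw [isGE_iff]
    intro i hi
    exact isZero_homology_of_E K i (isZero_of_isGE ((E A B).obj K) a i hi)
  haveI : K.IsLE b := by
    rw [isLE_iff]
    intro i hi
    exact isZero_homology_of_E K i (isZero_of_isLE ((E A B).obj K) b i hi)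
  have hfin : ∀ i : ℤ, Module.Finite A (Dual.HD A K i) :=
    fun i => finite_HD_of_E K i (hK.finite_cohomology i)
  have hpc : IsPseudoCoherent' A K := isPC'_of_finite K hfin b
  obtain ⟨a', b', hab'⟩ := hK.finite_injective_dimension
  refine ⟨inferInstance, ?_, hfin, ?_, ?_⟩
  · have hP : Groth.Agent.H4.InjAmp.P a' b' K := by
      intro I i hi
      rw [subsingleton_sgl_iff]
      haveI : (K⟦i⟧).IsGE (a - i) := TStructure.t.isGE_shift K a i (a - i) (by ring)
      refine subsingleton_hom_of_E (B := B) (K⟦i⟧) (a - i) _ (isPC'_inD (A ⧸ I)) ?_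
      haveI := hab' (B ⧸ I.map (algebraMap A B)) i hi
      exact ((EQuotIso I).homCongr (EShiftIso K i)).subsingleton
    obtain ⟨E', hE', hinj, ⟨ε⟩⟩ := Groth.Agent.H4.InjAmp.exists_injective_rep
      ((b' - a').toNat + 1) a' b' K (by
        have := Int.self_le_toNat (b' - a')
        push_cast
        omega) hP
    refine ⟨a', b', fun M _ _ i hi => ?_⟩
    exact ext_subsingleton_of_rep E' a' b' hE' hinj K ε (ModuleCat.of A M) i hi
  · exact bijective_toEnd_of_E K a hpc hK.toEnd_bijective
  · intro i hi
    haveI : (K⟦i⟧).IsGE (a - i) := TStructure.t.isGE_shift K a i (a - i) (by ring)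
    refine subsingleton_hom_of_E (B := B) (K⟦i⟧) (a - i) K hpc ?_
    haveI := hK.ext_self_subsingleton i hi
    exact ((Iso.refl _).homCongr (EShiftIso K i)).subsingleton

theorem S1780 [IsNoetherianRing A] [DRing.HasLBaseChange (algebraMap A B)] (K : Dual.D A)
    (hK : Dual.IsDualizing B ((DRing.LBaseChange (algebraMap A B)).obj K)) :
    Dual.IsDualizing A K :=
  isDualizing_of_E K (isDualizing_of_iso (LBCIso K) hK)

end ff

end Groth.Agent.H4.FB4
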