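import Mathlib
import Groth.Agent.H4.PCDesc2
import Groth.Agent.H4.PCDesc3
import Groth.Agent.H4.BC1
import Groth.Agent.H4.TV
import Groth.Agent.H4.TorAmp3

set_option autoImplicit false
universe u
open CategoryTheory CategoryTheory.Limits CategoryTheory.Pretriangulated MonoidalCategory

namespace Groth.Agent.H4.FlatFam

attribute [local instance] HasDerivedCategory.standard

open DerivedCategory DRing Groth.Agent.H4.LDer Groth.Agent.H4.PC Groth.Agent.H4.BC Groth.Agent.H4.TV
  Groth.Agent.H4.PCDesc Groth.Agent.H4.DRing1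

variable {A : Type u} [CommRing A] {ι : Type*} {B : ι → Type u} [∀ i, CommRing (B i)]
  (φ : ∀ i, A →+* B i)

/-- a jointly faithfully flat family of ring maps. -/
structure JFF : Prop where
  flat : ∀ i, (φ i).Flat
  refl : ∀ Q : ModuleCat.{u} A,
    (∀ i, IsZero ((ModuleCat.extendScalars.{u, u, u} (φ i)).obj Q)) → IsZero Q

variable {φ}

lemma JFF.exactAt (h : JFF φ) (X : Cx A) (j : ℤ)
    (hX : ∀ i, ((GC (ModuleCat.extendScalars.{u, u, u} (φ i))).obj X).ExactAt j) : X.ExactAt j := by
  rw [HomologicalComplex.exactAt_iff_isZero_homology]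
  refine h.refl _ (fun i => ?_)
  haveI := preservesFiniteLimits_extendScalars (φ i) (h.flat i)
  have hi := hX i
  rw [HomologicalComplex.exactAt_iff_isZero_homology] at hi
  exact hi.of_iso ((X.sc j).mapHomologyIso (ModuleCat.extendScalars.{u, u, u} (φ i))).symm

section Fin

variable {ι : Type} [Finite ι] {B : ι → Type u} [∀ i, CommRing (B i)] {φ : ∀ i, A →+* B i}

theorem exists_map_epi_family (M : ModuleCat.{u} A)
    (h : ∀ i, Module.Finite (B i) ((ModuleCat.extendScalars.{u, u, u} (φ i)).obj M)) :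
    ∃ (F : ModuleCat.{u} A), Module.Finite A F ∧ Module.Free A F ∧
      ∃ f : F ⟶ M, ∀ i, Epi ((ModuleCat.extendScalars.{u, u, u} (φ i)).map f) := by
  classical
  haveI := Fintype.ofFinite ι
  choose F hF1 hF2 f hf using fun i => exists_map_epi_extendScalars (φ i) M (h i)
  haveI := hF1
  haveI := hF2
  let g : (∀ i, F i) →ₗ[A] M := ∑ i, (f i).hom ∘ₗ LinearMap.proj i
  refine ⟨ModuleCat.of A (∀ i, F i), inferInstance, inferInstance, ModuleCat.ofHom g, fun i => ?_⟩
  let inc : F i ⟶ ModuleCat.of A (∀ i, F i) := ModuleCat.ofHom (LinearMap.single A (fun i => F i) i)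
  have hinc : inc ≫ ModuleCat.ofHom g = f i := by
    ext x
    change g (LinearMap.single A (fun i => F i) i x) = f i x
    simp only [g, LinearMap.sum_apply, LinearMap.comp_apply, LinearMap.proj_apply,
      LinearMap.single_apply]
    rw [Finset.sum_eq_single i]
    · simp
    · intro j _ hj
      simp [Pi.single_eq_of_ne hj]
    · intro hi
      exact absurd (Finset.mem_univ i) hi
  haveI := hf i
  haveI : Epi ((ModuleCat.extendScalars.{u, u, u} (φ i)).map inc ≫
      (ModuleCat.extendScalars.{u, u, u} (φ i)).map (ModuleCat.ofHom g)) := by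
    rw [← Functor.map_comp, hinc]; infer_instance
  exact epi_of_epi ((ModuleCat.extendScalars.{u, u, u} (φ i)).map inc) _

theorem JFF.finite (hφ : JFF φ) (M : ModuleCat.{u} A)
    (h : ∀ i, Module.Finite (B i) ((ModuleCat.extendScalars.{u, u, u} (φ i)).obj M)) :
    Module.Finite A M := by
  obtain ⟨F, hF, _, f, hf⟩ := exists_map_epi_family M h
  have hQ : IsZero (cokernel f) := hφ.refl _ (fun i => by
    set G := ModuleCat.extendScalars.{u, u, u} (φ i) with hG
    haveI : Epi (G.map (cokernel.π f)) := epi_extendScalars_map (φ i) _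
    haveI := hf i
    have h0 : G.map (cokernel.π f) = 0 := by
      rw [← cancel_epi (G.map f), ← G.map_comp, cokernel.condition, G.map_zero, comp_zero]
    rw [IsZero.iff_id_eq_zero, ← cancel_epi (G.map (cokernel.π f)), h0, zero_comp, comp_zero])
  haveI : Epi f := Preadditive.epi_of_isZero_cokernel f hQ
  exact finite_of_epi f hF

end Fin

section Top

variable {B' : Type u} [CommRing B'] (ψ : A →+* B') [DRing.HasLBaseChange ψ]

/-- top-degree base change: finiteness of `H^b(K ⊗^L B)` implies that of `B ⊗ H^b(K)`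
for `K ∈ D^{≤ b}`. -/
lemma finite_ext_top (K : Dual.D A) (b : ℤ) (hK : K.IsLE b)
    (h1 : Module.Finite B' ((homologyFunctor (ModuleCat.{u} B') b).obj
      ((DRing.LBaseChange ψ).obj K))) :
    Module.Finite B' ((ModuleCat.extendScalars.{u, u, u} ψ).obj
      ((homologyFunctor (ModuleCat.{u} A) b).obj K)) := by
  set G := ModuleCat.extendScalars.{u, u, u} ψ with hG
  obtain ⟨P, hP, ⟨e⟩⟩ := Groth.Agent.H4.ResP.exists_iso_of_isLE K b
  haveI := hP.isKProjective
  have e1 := isoOfIso G P e
  have h2 : Module.Finite B' (((GC G).obj P).homology b) :=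
    finite_of_epi ((homologyFunctor (ModuleCat.{u} B') b).map e1.hom ≫
      (homologyToDIso _ b).hom) h1
  have h3 := finite_ext_homology_top ψ P b hP.1 h2
  have e2 : P.homology b ≅ (homologyFunctor (ModuleCat.{u} A) b).obj K :=
    (homologyToDIso P b).symm ≪≫ (homologyFunctor (ModuleCat.{u} A) b).mapIso e
  exact finite_of_epi (G.map e2.hom) h3

end Top

section Det

variable {ι : Type} [Finite ι] {B : ι → Type u} [∀ i, CommRing (B i)] {φ : ∀ i, A →+* B i}
  [∀ i, DRing.HasLBaseChange (φ i)]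

omit [Finite ι] in
lemma JFF.isLE (hφ : JFF φ) (K : Dual.D A) (b : ℤ)
    (h : ∀ i, ((DRing.LBaseChange (φ i)).obj K).IsLE b) : K.IsLE b := by
  let X := Q.objPreimage K
  let e : toD X ≅ K := Q.objObjPreimageIso K
  haveI : (toD X).IsLE b := by
    refine isLE_of_exactAt X b (fun j hj => hφ.exactAt X j (fun i => ?_))
    haveI : ((DRing.LBaseChange (φ i)).obj (toD X)).IsLE b :=
      TStructure.t.isLE_of_iso ((DRing.LBaseChange (φ i)).mapIso e.symm) b
    haveI : (toD ((GC (ModuleCat.extendScalars.{u, u, u} (φ i))).obj X)).IsLE b :=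
      TStructure.t.isLE_of_iso (isoOfFlatMap (φ i) (hφ.flat i) X) b
    exact exactAt_of_isLE _ b j hj
  exact TStructure.t.isLE_of_iso e b

theorem JFF.detects (hφ : JFF φ) : Detects (fun i => (DRing.LBaseChange (φ i)).obj) where
  tri := fun i T hT => exists_distTriang_LG' (ModuleCat.extendScalars.{u, u, u} (φ i)) T hT
  sgl := fun i k b j => isPC_LBaseChange (φ i) j _ (isPC_toD j _ (isBFF_sgl _ b))
  isLE := fun i K b hK => by
    haveI := hK
    exact isLE_LG (ModuleCat.extendScalars.{u, u, u} (φ i)) K b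
  bdd := fun K h => by
    choose b hb using h
    obtain ⟨M, hM⟩ := (Set.finite_range b).bddAbove
    refine ⟨M, hφ.isLE K M (fun i => ?_)⟩
    haveI := hb i
    exact TStructure.t.isLE_of_le _ (b i) M (hM ⟨i, rfl⟩)
  fin := fun K b hK h => hφ.finite _ (fun i => finite_ext_top (φ i) K b hK (h i))

end Det

section Mon

variable {B' : Type u} [CommRing B'] (ψ : A →+* B')

open Functor.LaxMonoidal Functor.OplaxMonoidal in
/-- `B ⊗ (T ⊗ M) ≅ (B ⊗ T) ⊗_B (B ⊗ M)` for complexes `T`. -/
noncomputable def extTensIso (T : Cx A) (M : ModuleCat.{u} A) :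
    (GC (ModuleCat.extendScalars.{u, u, u} ψ)).obj ((GC (tensorRight M)).obj T) ≅
      (GC (tensorRight ((ModuleCat.extendScalars.{u, u, u} ψ).obj M))).obj
        ((GC (ModuleCat.extendScalars.{u, u, u} ψ)).obj T) :=
  HomologicalComplex.Hom.isoOfComponents
    (fun n => (Functor.Monoidal.μIso (ModuleCat.extendScalars.{u, u, u} ψ) (T.X n) M).symm)
    (fun n m _ => by
      simp only [Functor.mapHomologicalComplex_obj_d, Iso.symm_hom, Functor.Monoidal.μIso_inv]
      change δ _ _ _ ≫ ((ModuleCat.extendScalars.{u, u, u} ψ).map (T.d n m) ▷ _) =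
        (ModuleCat.extendScalars.{u, u, u} ψ).map (T.d n m ▷ M) ≫ δ _ _ _
      exact δ_natural_left (ModuleCat.extendScalars.{u, u, u} ψ) (T.d n m) M)

end Mon

section TorAmp

variable {ι : Type} {B : ι → Type u} [∀ i, CommRing (B i)] {φ : ∀ i, A →+* B i}
  [∀ i, DRing.HasLBaseChange (φ i)]

/-- **Descent of tor amplitude** along a jointly faithfully flat family. -/
theorem JFF.hasTorAmp (hφ : JFF φ) (K : Dual.D A) (a b : ℤ)
    (h : ∀ i, HasTorAmplitudeIn (B i) a b ((DRing.LBaseChange (φ i)).obj K)) :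
    HasTorAmplitudeIn A a b K := by
  haveI : ∀ M : ModuleCat.{u} A, (Gh (tensorRight M)).HasLeftDerivedFunctor (WA A) :=
    fun M => Groth.Agent.H4.KProj.hasLeftDerivedFunctor _
  haveI : ∀ i, ∀ M : ModuleCat.{u} (B i), (Gh (tensorRight M)).HasLeftDerivedFunctor (WA (B i)) :=
    fun i M => Groth.Agent.H4.KProj.hasLeftDerivedFunctor _
  rw [Groth.Agent.H4.TorAmp.hasTorAmp_iff]
  intro M j hj
  obtain ⟨T, hT, hf, ⟨e⟩⟩ := Groth.Agent.H4.KProj.exists_kproj_free_iso K
  rw [HV_iff_TV T e]
  refine hφ.exactAt _ j (fun i => ?_)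
  refine exactAt_of_iso (extTensIso (φ i) T M).symm j ?_
  have e' : toD ((GC (ModuleCat.extendScalars.{u, u, u} (φ i))).obj T) ≅
      (DRing.LBaseChange (φ i)).obj K := (isoOfIso (ModuleCat.extendScalars.{u, u, u} (φ i)) T e).symm
  have h1 := (Groth.Agent.H4.TorAmp.hasTorAmp_iff _ a b).1 (h i)
    ((ModuleCat.extendScalars.{u, u, u} (φ i)).obj M) j hj
  exact (HV_iff_TV _ e' _ j).1 h1

end TorAmp

end Groth.Agent.H4.FlatFam
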