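import Mathlib
import Groth.Agent.H4.FlatFam

set_option autoImplicit false
universe u
open CategoryTheory CategoryTheory.Limits CategoryTheory.Pretriangulated MonoidalCategory TensorProduct

namespace Groth.Agent.H4.FlatFam

attribute [local instance] HasDerivedCategory.standard

open DerivedCategory DRing Groth.Agent.H4.LDer Groth.Agent.H4.PC Groth.Agent.H4.BC
  Groth.Agent.H4.PCDesc Groth.Agent.H4.FlatFam

variable {R : Type u} [CommRing R]

/-- a faithfully flat algebra gives a (one-element) jointly faithfully flat family. -/
theorem jff_of_faithfullyFlat (R' : Type u) [CommRing R'] [Algebra R R'] [Module.FaithfullyFlat R R'] :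
    JFF (B := fun _ : PUnit.{1} => R') (fun _ => algebraMap R R') where
  flat := fun _ => (RingHom.flat_algebraMap_iff).2 inferInstance
  refl := fun Q h => by
    have h1 := h PUnit.unit
    haveI : Subsingleton (R' ⊗[R] Q) :=
      (Groth.Agent.H8.ExtBridge.extEquiv (A := R) (B := R') Q).symm.toEquiv.subsingleton_congr.2
        (ModuleCat.subsingleton_of_isZero h1)
    haveI : Subsingleton Q := Module.FaithfullyFlat.lTensor_reflects_triviality R R' Q
    exact ModuleCat.isZero_of_subsingleton Q

/-- localizations at elements generating the unit ideal form a jointly faithfully flat family. -/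
theorem jff_of_span_eq_top {r : ℕ} (f : Fin r → R) (hf : Ideal.span (Set.range f) = ⊤) :
    JFF (B := fun i => Localization.Away (f i)) (fun i => algebraMap R (Localization.Away (f i))) where
  flat := fun i => (RingHom.flat_algebraMap_iff).2 (IsLocalization.flat _ (Submonoid.powers (f i)))
  refl := fun Q h => by
    haveI : Subsingleton Q := by
      refine ⟨fun x y => ?_⟩
      suffices h0 : ∀ x : Q, x = 0 by rw [h0 x, h0 y]
      intro x
      refine Module.eq_zero_of_isLocalized_span (Set.range f) hf
        (fun s => Localization.Away s.1 ⊗[R] Q)
        (fun s => TensorProduct.mk R (Localization.Away s.1) Q 1) x ?_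
      rintro ⟨_, i, rfl⟩
      haveI : Subsingleton (Localization.Away (f i) ⊗[R] Q) :=
        (Groth.Agent.H8.ExtBridge.extEquiv (A := R) (B := Localization.Away (f i))
          Q).symm.toEquiv.subsingleton_congr.2 (ModuleCat.subsingleton_of_isZero (h i))
      exact Subsingleton.elim _ _
    exact ModuleCat.isZero_of_subsingleton Q

end Groth.Agent.H4.FlatFam
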