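import Mathlib
import Groth.Agent.H4.FB4
import Groth.Agent.H4.FlatFam2

set_option autoImplicit false
universe u v w
open CategoryTheory Category Limits Pretriangulated TensorProduct

namespace Groth.Agent.H4.FB5

attribute [local instance] HasDerivedCategory.standard

open DRing DerivedCategory Groth.Agent.H4.DCompl1 Groth.Agent.H4.DZ5 Groth.Agent.H4.FB1
  Groth.Agent.H4.FB2 Groth.Agent.H4.FB3 Groth.Agent.H4.FB4 Groth.Agent.H4.InjAmp Groth.Agent.H4.DZ3

section fam

variable {A : Type u} [CommRing A] {ι : Type*} (B : ι → Type u) [∀ j, CommRing (B j)]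
  [∀ j, Algebra A (B j)]

/-- the family `Spec (B j) → Spec A` hits every closed point. -/
def Covers : Prop := ∀ m : Ideal A, m.IsMaximal → ∃ j, m.map (algebraMap A (B j)) ≠ ⊤

variable {B} [∀ j, Module.Flat A (B j)]

/-- joint faithfulness of a covering flat family, in any universe. -/
theorem subsingleton_of_covers (hcov : Covers (A := A) B) (M : Type v) [AddCommGroup M] [Module A M]
    (h : ∀ j, Subsingleton (B j ⊗[A] M)) : Subsingleton M := by
  by_contra hM
  rw [not_subsingleton_iff_nontrivial] at hM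
  obtain ⟨x, hx⟩ := exists_ne (0 : M)
  let g : A →ₗ[A] M := LinearMap.toSpanSingleton A M x
  let I : Ideal A := LinearMap.ker g
  have hI : I ≠ ⊤ := by
    intro hI
    apply hx
    have : (1 : A) ∈ I := hI ▸ Submodule.mem_top
    have h1 : g 1 = 0 := this
    simpa [g] using h1
  obtain ⟨m, hm, hIm⟩ := Ideal.exists_le_maximal I hI
  obtain ⟨j, hj⟩ := hcov m hm
  apply hj
  rw [eq_top_iff]
  refine le_trans ?_ (Ideal.map_mono hIm)
  -- `B j ⊗ A/I` is zero
  let gq : (A ⧸ I) →ₗ[A] M := Submodule.liftQ I g le_rfl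
  have hgq : Function.Injective gq := by
    rw [← LinearMap.ker_eq_bot]
    exact Submodule.ker_liftQ_eq_bot _ _ _ le_rfl
  have h2 : Function.Injective (gq.lTensor (B j)) :=
    Module.Flat.lTensor_preserves_injective_linearMap gq hgq
  haveI := h j
  haveI : Subsingleton (B j ⊗[A] (A ⧸ I)) := h2.subsingleton
  haveI : Subsingleton (B j ⧸ I.map (algebraMap A (B j))) :=
    (Algebra.TensorProduct.quotIdealMapEquivTensorQuot (B j) I).toEquiv.subsingleton
  exact (Ideal.Quotient.subsingleton_iff.1 inferInstance).ge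

/-- local-global principle for bijectivity along a covering flat family. -/
theorem bijective_of_covers (hcov : Covers (A := A) B) {M : Type v} {N : Type w}
    [AddCommGroup M] [Module A M] [AddCommGroup N] [Module A N] (f : M →ₗ[A] N)
    (h : ∀ j, Function.Bijective (f.lTensor (B j))) : Function.Bijective f := by
  constructor
  · rw [← LinearMap.ker_eq_bot, ← Submodule.subsingleton_iff_eq_bot]
    refine subsingleton_of_covers hcov _ (fun j => ?_)
    have h1 : Function.Injective ((LinearMap.ker f).subtype.lTensor (B j)) :=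
      Module.Flat.lTensor_preserves_injective_linearMap _ (Submodule.injective_subtype _)
    refine ⟨fun x y => h1 ((h j).1 ?_)⟩
    have hz : ∀ z, f.lTensor (B j) ((LinearMap.ker f).subtype.lTensor (B j) z) = 0 := by
      intro z
      rw [← LinearMap.comp_apply, ← LinearMap.lTensor_comp]
      have : f ∘ₗ (LinearMap.ker f).subtype = 0 := by
        ext ⟨z, hz⟩
        exact hz
      rw [this, LinearMap.lTensor_zero, LinearMap.zero_apply]
    rw [hz, hz]
  · rw [← LinearMap.range_eq_top, ← Submodule.Quotient.subsingleton_iff]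
    refine subsingleton_of_covers hcov _ (fun j => ?_)
    have h1 : Function.Surjective ((LinearMap.range f).mkQ.lTensor (B j)) :=
      LinearMap.lTensor_surjective _ (Submodule.mkQ_surjective _)
    have hz : ∀ z, (LinearMap.range f).mkQ.lTensor (B j) (f.lTensor (B j) z) = 0 := by
      intro z
      rw [← LinearMap.comp_apply, ← LinearMap.lTensor_comp]
      have : (LinearMap.range f).mkQ ∘ₗ f = 0 := by
        ext z
        simp
      rw [this, LinearMap.lTensor_zero, LinearMap.zero_apply]
    refine ⟨fun x y => ?_⟩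
    obtain ⟨x', rfl⟩ := h1 x
    obtain ⟨y', rfl⟩ := h1 y
    obtain ⟨x'', rfl⟩ := (h j).2 x'
    obtain ⟨y'', rfl⟩ := (h j).2 y'
    rw [hz, hz]

/-- vanishing of `Hom` descends along a covering flat family. -/
theorem subsingleton_hom_of_covers (hcov : Covers (A := A) B) (K : Dual.D A) (a : ℤ) [K.IsGE a]
    (M : Dual.D A) (hM : IsPseudoCoherent' A M)
    (h : ∀ j, Subsingleton ((E A (B j)).obj M ⟶ (E A (B j)).obj K)) : Subsingleton (M ⟶ K) := by
  refine subsingleton_of_covers hcov _ (fun j => ?_)
  have hb := bijective_Psi_gammaE (B := B j) K a M hM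
  haveI := h j
  haveI : Subsingleton (M ⟶ (Res A (B j)).obj ((E A (B j)).obj K)) :=
    ((adjE A (B j)).homEquiv M ((E A (B j)).obj K)).symm.subsingleton
  exact hb.1.subsingleton

/-- bijectivity of `A → End(K)` descends along a covering flat family. -/
theorem bijective_toEnd_of_covers (hcov : Covers (A := A) B) (K : Dual.D A) (a : ℤ) [K.IsGE a]
    (hK : IsPseudoCoherent' A K)
    (h : ∀ j, Function.Bijective (fun b : B j => b • 𝟙 ((E A (B j)).obj K))) :
    Function.Bijective (fun x : A => x • 𝟙 K) := by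
  refine bijective_of_covers hcov (toEndLin K) (fun j => ?_)
  have hb := bijective_Psi_gammaE (B := B j) K a K hK
  have hf : (fun b : B j => b • 𝟙 ((E A (B j)).obj K)) =
      ⇑((adjE A (B j)).homEquiv K ((E A (B j)).obj K)).symm ∘ ⇑(Psi (gammaE K) K) ∘ ⇑(iotaEnd K) :=
    funext fun b => smul_id_E_eq K b
  have hj := h j
  rw [hf] at hj
  have h1 : Function.Bijective (⇑(Psi (gammaE (B := B j) K) K) ∘ ⇑(iotaEnd K)) :=
    (Function.Bijective.of_comp_iff' (Equiv.bijective _) _).1 hj
  have h2 : Function.Bijective (iotaEnd (B := B j) K) :=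
    (Function.Bijective.of_comp_iff' hb _).1 h1
  rw [iotaEnd_eq] at h2
  exact (Function.Bijective.of_comp_iff _ (TensorProduct.rid A (B j)).symm.bijective).1 h2

/-- **Local-to-global for dualizing complexes**: an object of `D^b_coh(A)` of finite injective
dimension which becomes dualizing over a covering flat family is dualizing. -/
theorem isDualizing_of_covers [IsNoetherianRing A] (hcov : Covers (A := A) B) (K : Dual.D A)
    (a b : ℤ) [K.IsGE a] [K.IsLE b] (hfin : ∀ i : ℤ, Module.Finite A (Dual.HD A K i))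
    (hinj : ∃ a b : ℤ, ∀ (M : Type u) [AddCommGroup M] [Module A M] (i : ℤ),
      (i < a ∨ b < i) → Subsingleton (Dual.inD A M ⟶ K⟦i⟧))
    (hloc : ∀ j, Dual.IsDualizing (B j) ((E A (B j)).obj K)) : Dual.IsDualizing A K := by
  have hpc : IsPseudoCoherent' A K := isPC'_of_finite K hfin b
  refine ⟨inferInstance, hinj, hfin, ?_, ?_⟩
  · exact bijective_toEnd_of_covers hcov K a hpc (fun j => (hloc j).toEnd_bijective)
  · intro i hi
    haveI : (K⟦i⟧).IsGE (a - i) := TStructure.t.isGE_shift K a i (a - i) (by ring)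
    refine subsingleton_hom_of_covers hcov (K⟦i⟧) (a - i) K hpc (fun j => ?_)
    haveI := (hloc j).ext_self_subsingleton i hi
    exact ((Iso.refl _).homCongr (EShiftIso K i)).subsingleton

end fam

section apps

variable (A : Type u) [CommRing A] [IsNoetherianRing A]

instance flat_atPrime (p : Ideal A) [p.IsPrime] : Module.Flat A (Localization.AtPrime p) :=
  IsLocalization.flat _ p.primeCompl

lemma covers_maximal :
    Covers (A := A) (fun m : MaximalSpectrum A => Localization.AtPrime m.asIdeal) := by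
  intro m hm
  refine ⟨⟨m, hm⟩, ?_⟩
  change Ideal.map (algebraMap A (Localization.AtPrime m)) m ≠ ⊤
  rw [Localization.AtPrime.map_eq_maximalIdeal]
  exact (IsLocalRing.maximalIdeal.isMaximal _).ne_top

lemma covers_prime :
    Covers (A := A) (fun p : PrimeSpectrum A => Localization.AtPrime p.asIdeal) := by
  intro m hm
  refine ⟨⟨m, hm.isPrime⟩, ?_⟩
  change Ideal.map (algebraMap A (Localization.AtPrime m)) m ≠ ⊤
  rw [Localization.AtPrime.map_eq_maximalIdeal]
  exact (IsLocalRing.maximalIdeal.isMaximal _).ne_top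

variable {A}

lemma isGE_isLE_of_bdd (K : Dual.D A) (a b : ℤ)
    (h : ∀ i : ℤ, (i < a ∨ b < i) → Subsingleton (Dual.HD A K i)) : K.IsGE a ∧ K.IsLE b := by
  constructor
  · rw [isGE_iff]
    intro i hi
    haveI := h i (Or.inl hi)
    exact ModuleCat.isZero_of_subsingleton _
  · rw [isLE_iff]
    intro i hi
    haveI := h i (Or.inr hi)
    exact ModuleCat.isZero_of_subsingleton _

theorem S7867 (K : Dual.D A)
    (hbdd : ∃ a b : ℤ, ∀ i : ℤ, (i < a ∨ b < i) → Subsingleton (Dual.HD A K i))
    (hfin : ∀ i : ℤ, Module.Finite A (Dual.HD A K i))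
    (hinj : ∃ a b : ℤ, ∀ (M : Type u) [AddCommGroup M] [Module A M] (i : ℤ),
      (i < a ∨ b < i) → Subsingleton (Dual.inD A M ⟶ K⟦i⟧))
    (hL : ∀ (m : Ideal A) [m.IsMaximal],
      DRing.HasLBaseChange (algebraMap A (Localization.AtPrime m)))
    (hloc : ∀ (m : Ideal A) [m.IsMaximal],
      Dual.IsDualizing (Localization.AtPrime m)
        ((@DRing.LBaseChange _ _ _ _ (algebraMap A (Localization.AtPrime m)) (hL m)).obj K)) :
    Dual.IsDualizing A K := by
  obtain ⟨a, b, hab⟩ := hbdd
  obtain ⟨h1, h2⟩ := isGE_isLE_of_bdd K a b hab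
  haveI := h1
  haveI := h2
  refine isDualizing_of_covers (covers_maximal A) K a b hfin hinj (fun m => ?_)
  haveI := m.isMaximal
  haveI := hL m.asIdeal
  exact isDualizing_of_iso (LBCIso K) (hloc m.asIdeal)

theorem S11360 (R : Dual.D A) (hfin : ∀ i : ℤ, Module.Finite A (Dual.HD A R i))
    (hfid : DRing.HasFiniteInjDim A R)
    [∀ p : PrimeSpectrum A, DRing.HasLBaseChange (algebraMap A (Localization.AtPrime p.asIdeal))]
    (h : ∀ p : PrimeSpectrum A, Dual.IsDualizing (Localization.AtPrime p.asIdeal)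
      ((DRing.LBaseChange (algebraMap A (Localization.AtPrime p.asIdeal))).obj R)) :
    Dual.IsDualizing A R := by
  obtain ⟨a, b, hab⟩ := hfid
  haveI := isGE_of_injAmp R a b hab
  haveI : R.IsLE b := by
    obtain ⟨E, hE, -, ⟨e⟩⟩ := hab
    haveI : (Q.obj E).IsLE b := by
      rw [isLE_Q_obj_iff, CochainComplex.isLE_iff]
      intro i hi
      exact HomologicalComplex.ExactAt.of_isZero (hE i (Or.inr hi))
    exact TStructure.t.isLE_of_iso e b
  have hinj : ∃ a b : ℤ, ∀ (M : Type u) [AddCommGroup M] [Module A M] (i : ℤ),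
      (i < a ∨ b < i) → Subsingleton (Dual.inD A M ⟶ R⟦i⟧) := by
    obtain ⟨E', hE', hinj, ⟨ε⟩⟩ := hab
    exact ⟨a, b, fun M _ _ i hi =>
      ext_subsingleton_of_rep E' a b hE' hinj R ε (ModuleCat.of A M) i hi⟩
  exact isDualizing_of_covers (covers_prime A) R a b hfin hinj
    (fun p => isDualizing_of_iso (LBCIso R) (h p))

end apps

end Groth.Agent.H4.FB5
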