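import Mathlib
import Groth.Agent.H4.FB2
import Groth.Agent.H4.DZ1
import Groth.Agent.H4.DZ2
import Groth.Agent.H4.FB5

set_option autoImplicit false
universe u
open CategoryTheory Category Limits Pretriangulated TensorProduct

namespace Groth.Agent.H4.US1

attribute [local instance] HasDerivedCategory.standard

open DRing DerivedCategory Groth.Agent.H4.DCompl1 Groth.Agent.H4.DZ5 Groth.Agent.H4.FB1
  Groth.Agent.H4.FB2

variable {A : Type u} [CommRing A] {B : Type u} [CommRing B] [Algebra A B]
  (R : Dual.D A ⥤ Dual.D B) (adj : Res A B ⊣ R)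

/-- a `B`-module which is additively equivalent, semilinearly over `A`, to a finite `A`-module is
finite. -/
theorem finite_of_semilinear_addEquiv {M : Type*} [AddCommGroup M] [Module B M]
    {N : Type*} [AddCommGroup N] [Module A N] [Module.Finite A N]
    (e : M ≃+ N) (he : ∀ (a : A) (m : M), e (algebraMap A B a • m) = a • e m) :
    Module.Finite B M := by
  classical
  obtain ⟨S, hS⟩ := (Module.finite_def (R := A) (M := N)).1 inferInstance
  refine ⟨⟨S.image e.symm, ?_⟩⟩
  rw [eq_top_iff]
  intro m _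
  have hm : e m ∈ Submodule.span A (S : Set N) := by rw [hS]; trivial
  have key : ∀ n ∈ Submodule.span A (S : Set N),
      e.symm n ∈ Submodule.span B ((S.image e.symm : Finset M) : Set M) := by
    intro n hn
    induction hn using Submodule.span_induction with
    | mem x hx =>
      apply Submodule.subset_span
      rw [Finset.coe_image]
      exact ⟨x, hx, rfl⟩
    | zero => rw [map_zero]; exact Submodule.zero_mem _
    | add x y _ _ hx hy => rw [map_add]; exact Submodule.add_mem _ hx hy
    | smul a x _ hx =>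
      have : e.symm (a • x) = algebraMap A B a • e.symm x := by
        apply e.injective
        rw [he, e.apply_symm_apply, e.apply_symm_apply]
      rw [this]
      exact Submodule.smul_mem _ _ hx
  have := key _ hm
  rwa [e.symm_apply_apply] at this

include adj in
/-- the adjunction bijection, additive. -/
noncomputable def homAddEquiv (Y : Dual.D B) (K : Dual.D A) :
    (Y ⟶ R.obj K) ≃+ ((Res A B).obj Y ⟶ K) where
  toFun := (adj.homEquiv Y K).symm
  invFun := adj.homEquiv Y K
  left_inv := (adj.homEquiv Y K).apply_symm_apply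
  right_inv := (adj.homEquiv Y K).symm_apply_apply
  map_add' f g := by
    simp only [Adjunction.homEquiv_counit, Functor.map_add, Preadditive.add_comp]

lemma homAddEquiv_apply (Y : Dual.D B) (K : Dual.D A) (f : Y ⟶ R.obj K) :
    homAddEquiv R adj Y K f = (Res A B).map f ≫ adj.counit.app K :=
  Adjunction.homEquiv_counit _ _ _ _

lemma homAddEquiv_smul (Y : Dual.D B) (K : Dual.D A) (a : A) (f : Y ⟶ R.obj K) :
    homAddEquiv R adj Y K (algebraMap A B a • f) = a • homAddEquiv R adj Y K f := by
  rw [homAddEquiv_apply, homAddEquiv_apply, Res_map_smul, Linear.smul_comp]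

/-- naturality in the first variable. -/
lemma homAddEquiv_naturality {Y Y' : Dual.D B} (g : Y' ⟶ Y) (K : Dual.D A) (f : Y ⟶ R.obj K) :
    homAddEquiv R adj Y' K (g ≫ f) = (Res A B).map g ≫ homAddEquiv R adj Y K f := by
  rw [homAddEquiv_apply, homAddEquiv_apply, Functor.map_comp, assoc]

/-- naturality in the second variable. -/
lemma homAddEquiv_naturality_right (Y : Dual.D B) {K K' : Dual.D A} (k : K ⟶ K')
    (f : Y ⟶ R.obj K) :
    homAddEquiv R adj Y K' (f ≫ R.map k) = homAddEquiv R adj Y K f ≫ k := by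
  rw [homAddEquiv_apply, homAddEquiv_apply, Functor.map_comp, assoc, assoc]
  congr 1
  exact adj.counit.naturality k

/-- restriction of scalars of a module in degree `n`. -/
noncomputable def resSingleIso (N : ModuleCat.{u} B) (n : ℤ) :
    (Res A B).obj ((singleFunctor (ModuleCat.{u} B) n).obj N) ≅
      (singleFunctor (ModuleCat.{u} A) n).obj
        ((ModuleCat.restrictScalars.{u} (algebraMap A B)).obj N) :=
  ((ModuleCat.restrictScalars.{u} (algebraMap A B)).mapDerivedCategorySingleFunctor n).app N

variable (A B) in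
/-- `B` as a `B`-module restricted to `A` is `B` as an `A`-module. -/
noncomputable def resSelfIso :
    (ModuleCat.restrictScalars.{u} (algebraMap A B)).obj (ModuleCat.of B B) ≅ ModuleCat.of A B :=
  LinearEquiv.toModuleIso
    (show ((ModuleCat.restrictScalars.{u} (algebraMap A B)).obj (ModuleCat.of B B)) ≃ₗ[A]
        (ModuleCat.of A B) from
      { toFun := fun x => x
        invFun := fun x => x
        left_inv := fun _ => rfl
        right_inv := fun _ => rfl
        map_add' := fun _ _ => rfl
        map_smul' := fun a x => (Algebra.smul_def a (show B from x)).symm })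

variable (A B) in
/-- `Res (B[-i]) ≅ (B_A)[-i]`. -/
noncomputable def resGIso (i : ℤ) : (Res A B).obj (G B i) ≅ (Dual.inD A B)⟦-i⟧ :=
  resSingleIso (ModuleCat.of B B) i ≪≫
    (singleFunctor (ModuleCat.{u} A) i).mapIso (resSelfIso A B) ≪≫
    (((singleFunctors (ModuleCat.{u} A)).shiftIso (-i) i 0 (by simp)).app (ModuleCat.of A B)).symm

/-- `Res (N[0][-i]) ≅ (N_A)[0][-i]`. -/
noncomputable def resShiftIso (N : ModuleCat.{u} B) (i : ℤ) :
    (Res A B).obj (((singleFunctor (ModuleCat.{u} B) 0).obj N)⟦-i⟧) ≅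
      ((singleFunctor (ModuleCat.{u} A) 0).obj
        ((ModuleCat.restrictScalars.{u} (algebraMap A B)).obj N))⟦-i⟧ :=
  (Res A B).mapIso (((singleFunctors (ModuleCat.{u} B)).shiftIso (-i) i 0 (by simp)).app N) ≪≫
    resSingleIso N i ≪≫
    (((singleFunctors (ModuleCat.{u} A)).shiftIso (-i) i 0 (by simp)).app
      ((ModuleCat.restrictScalars.{u} (algebraMap A B)).obj N)).symm

include adj in
/-- `Ext^i_B(N, R K) ≃ Ext^i_A(N_A, K)`, additively. -/
noncomputable def extAddEquiv (N : ModuleCat.{u} B) (K : Dual.D A) (i : ℤ) :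
    (((singleFunctor (ModuleCat.{u} B) 0).obj N : Dual.D B) ⟶ (R.obj K)⟦i⟧) ≃+
      (((singleFunctor (ModuleCat.{u} A) 0).obj
        ((ModuleCat.restrictScalars.{u} (algebraMap A B)).obj N) : Dual.D A) ⟶ K⟦i⟧) :=
  (Groth.Agent.H4.DZ2.shiftHomLinEquiv (A := B) ((singleFunctor (ModuleCat.{u} B) 0).obj N)
      (R.obj K) (-i) i (by simp)).symm.toAddEquiv.trans
    ((homAddEquiv R adj _ K).trans
      ((Groth.Agent.H4.DZ2.isoHomLinEquiv (resShiftIso N i) K).toAddEquiv.trans
        (Groth.Agent.H4.DZ2.shiftHomLinEquiv (A := A) _ K (-i) i (by simp)).toAddEquiv))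

lemma extAddEquiv_smul (N : ModuleCat.{u} B) (K : Dual.D A) (i : ℤ) (a : A)
    (f : ((singleFunctor (ModuleCat.{u} B) 0).obj N : Dual.D B) ⟶ (R.obj K)⟦i⟧) :
    extAddEquiv R adj N K i (algebraMap A B a • f) = a • extAddEquiv R adj N K i f := by
  change (Groth.Agent.H4.DZ2.shiftHomLinEquiv (A := A) _ K (-i) i (by simp))
      ((Groth.Agent.H4.DZ2.isoHomLinEquiv (resShiftIso N i) K)
        (homAddEquiv R adj _ K
          ((Groth.Agent.H4.DZ2.shiftHomLinEquiv (A := B) _ (R.obj K) (-i) i (by simp)).symm
            (algebraMap A B a • f)))) =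
    a • (Groth.Agent.H4.DZ2.shiftHomLinEquiv (A := A) _ K (-i) i (by simp))
      ((Groth.Agent.H4.DZ2.isoHomLinEquiv (resShiftIso N i) K)
        (homAddEquiv R adj _ K
          ((Groth.Agent.H4.DZ2.shiftHomLinEquiv (A := B) _ (R.obj K) (-i) i (by simp)).symm f)))
  rw [LinearEquiv.map_smul, homAddEquiv_smul, LinearEquiv.map_smul, LinearEquiv.map_smul]

include adj in
/-- **S1774.** -/
theorem S1774 [IsNoetherianRing A] [Module.Finite A B] (K : Dual.D A) (a : ℤ)
    (hKa : ∀ i : ℤ, i < a → Subsingleton (Dual.HD A K i))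
    (hK : ∀ i : ℤ, Module.Finite A (Dual.HD A K i)) (i : ℤ) :
    Module.Finite B (Dual.HD B (R.obj K) i) := by
  haveI : K.IsGE a := by
    rw [isGE_iff]
    intro j hj
    haveI := hKa j hj
    exact ModuleCat.isZero_of_subsingleton _
  have h1 : Module.Finite A ((Dual.inD A B)⟦-i⟧ ⟶ K) :=
    Groth.Agent.H4.DZ1.FH_module K hK a B (-i)
  have h2 : Module.Finite A ((Res A B).obj (G B i) ⟶ K) :=
    Groth.Agent.H4.DZ1.finite_hom_of_iso (resGIso A B i).symm K h1
  haveI : Module.Finite B (G B i ⟶ R.obj K) :=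
    finite_of_semilinear_addEquiv (homAddEquiv R adj (G B i) K)
      (fun a f => homAddEquiv_smul R adj (G B i) K a f)
  exact Module.Finite.of_surjective (ev i (R.obj K)) (ev_bijective i (R.obj K)).2

end Groth.Agent.H4.US1
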