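import Mathlib
import Groth.Agent.H4.US1
import Groth.Agent.H4.CF6
import Groth.Agent.H4.KProj7
import Groth.Agent.Lib.Helper8.ExtScalarsBridge

set_option autoImplicit false
universe u
open CategoryTheory Category Limits Pretriangulated TensorProduct MonoidalCategory

namespace Groth.Agent.H4.US2

attribute [local instance] HasDerivedCategory.standard
attribute [local instance] Groth.Agent.H4.LK4.hasLTen Groth.Agent.H4.LK5.hasLTen₃
  Groth.Agent.H4.KI7.isSymMonoidal Groth.Agent.H4.KI6.hasRHom

open DRing DTen DerivedCategory Groth.Agent.H4.FB2 Groth.Agent.H4.US1 Groth.Agent.H8.ExtBridge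
  Groth.Agent.H4.SG1 Groth.Agent.H4.SG3 Groth.Agent.H4.LDer

variable {A : Type u} [CommRing A] {B : Type u} [CommRing B] [Algebra A B]

variable (A B) in
/-- `B` as an `A`-module. -/
noncomputable abbrev BA : ModuleCat.{u} A := ModuleCat.of A B

/-- multiplication by `b` on `B_A`. -/
noncomputable def muB (b : B) : BA A B ⟶ BA A B :=
  ModuleCat.ofHom (LinearMap.mulLeft A b)

lemma muB_apply (b x : B) : (muB (A := A) b).hom x = b * x := rfl

/-- the `A`-linear equivalence `(B ⊗_A M)|_A ≃ M ⊗_A B`. -/
noncomputable def twEquiv (M : ModuleCat.{u} A) :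
    ((ModuleCat.restrictScalars.{u} (algebraMap A B)).obj
      ((ModuleCat.extendScalars.{u, u, u} (algebraMap A B)).obj M)) ≃ₗ[A] (M ⊗[A] B) where
  toFun z := TensorProduct.comm A B M (extEquiv (B := B) M z)
  invFun w := (extEquiv (B := B) M).symm ((TensorProduct.comm A B M).symm w)
  left_inv z := by
    change (extEquiv (B := B) M).symm ((TensorProduct.comm A B M).symm
      (TensorProduct.comm A B M (extEquiv (B := B) M z))) = z
    rw [LinearEquiv.symm_apply_apply]
    exact (extEquiv (B := B) M).symm_apply_apply _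
  right_inv w := by
    change TensorProduct.comm A B M (extEquiv (B := B) M ((extEquiv (B := B) M).symm
      ((TensorProduct.comm A B M).symm w))) = w
    rw [LinearEquiv.apply_symm_apply, LinearEquiv.apply_symm_apply]
  map_add' z z' := by
    change TensorProduct.comm A B M (extEquiv (B := B) M ((show (ModuleCat.extendScalars.{u, u, u}
      (algebraMap A B)).obj M from z) + (show (ModuleCat.extendScalars.{u, u, u}
      (algebraMap A B)).obj M from z'))) = _
    rw [map_add, map_add]
  map_smul' a z := by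
    change TensorProduct.comm A B M (extEquiv (B := B) M (algebraMap A B a •
      (show (ModuleCat.extendScalars.{u, u, u} (algebraMap A B)).obj M from z))) = _
    rw [LinearEquiv.map_smul, algebraMap_smul, LinearEquiv.map_smul]
    rfl

open ChangeOfRings in
lemma twEquiv_tmul (M : ModuleCat.{u} A) (s : B) (m : M) :
    twEquiv (B := B) M (s ⊗ₜ[A, algebraMap A B] m) = m ⊗ₜ[A] s := rfl

lemma twEquiv_add (M : ModuleCat.{u} A)
    (z z' : (ModuleCat.extendScalars.{u, u, u} (algebraMap A B)).obj M) :
    twEquiv (B := B) M (z + z') = twEquiv (B := B) M z + twEquiv (B := B) M z' :=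
  (twEquiv (B := B) M).map_add z z'

lemma twEquiv_zero (M : ModuleCat.{u} A) :
    twEquiv (B := B) M (0 : (ModuleCat.extendScalars.{u, u, u} (algebraMap A B)).obj M) = 0 :=
  (twEquiv (B := B) M).map_zero

variable (A B) in
/-- `(B ⊗_A -)|_A ≅ - ⊗_A B` as functors on `A`-modules. -/
noncomputable def tw : ModuleCat.extendScalars.{u, u, u} (algebraMap A B) ⋙
    ModuleCat.restrictScalars.{u} (algebraMap A B) ≅ tensorRight (BA A B) :=
  NatIso.ofComponents (fun M => (twEquiv (B := B) M).toModuleIso) (fun {M N} f => by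
    refine ModuleCat.hom_ext (LinearMap.ext ?_)
    intro (z : (ModuleCat.extendScalars.{u, u, u} (algebraMap A B)).obj M)
    change twEquiv (B := B) N ((ModuleCat.extendScalars.{u, u, u} (algebraMap A B)).map f z) =
      (f ▷ BA A B).hom (twEquiv (B := B) M z)
    induction z using ext_induction with
    | zero => rw [map_zero, twEquiv_zero, twEquiv_zero, map_zero]
    | tmul s m => rfl
    | add x y hx hy => rw [map_add, twEquiv_add, twEquiv_add, hx, hy, map_add])

lemma tw_hom_app_apply (M : ModuleCat.{u} A)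
    (z : (ModuleCat.extendScalars.{u, u, u} (algebraMap A B)).obj M) :
    ((tw A B).hom.app M).hom z = twEquiv (B := B) M z := rfl

/-- `B`-equivariance of `tw`. -/
lemma tw_equivariant (b : B) (M : ModuleCat.{u} A) :
    (ModuleCat.restrictScalars.{u} (algebraMap A B)).map
        (b • 𝟙 ((ModuleCat.extendScalars.{u, u, u} (algebraMap A B)).obj M)) ≫ (tw A B).hom.app M =
      (tw A B).hom.app M ≫ (M ◁ muB b) := by
  refine ModuleCat.hom_ext (LinearMap.ext ?_)
  intro (z : (ModuleCat.extendScalars.{u, u, u} (algebraMap A B)).obj M)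
  change twEquiv (B := B) M (b • z) = (M ◁ muB (A := A) b).hom (twEquiv (B := B) M z)
  induction z using ext_induction with
  | zero => rw [smul_zero, twEquiv_zero, map_zero]
  | tmul s m => rfl
  | add x y hx hy => rw [smul_add, twEquiv_add, twEquiv_add, hx, hy, map_add]

section complexes

/-- naturality of `SG3.comp` in the module. -/
lemma comp_naturality_M {M M' : ModuleCat.{u} A} (g : M ⟶ M')
    (X : CochainComplex (ModuleCat.{u} A) ℤ) :
    comp M X ≫ (X ◁ (HomologicalComplex.single (ModuleCat.{u} A) (ComplexShape.up ℤ) 0).map g) =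
      (NatTrans.mapHomologicalComplex ((curriedTensor (ModuleCat.{u} A)).flip.map g)
        (ComplexShape.up ℤ)).app X ≫ comp M' X := by
  refine HomologicalComplex.hom_ext _ _ fun n => ?_
  change compF M X n ≫ (X ◁ (HomologicalComplex.single (ModuleCat.{u} A)
    (ComplexShape.up ℤ) 0).map g).f n = (X.X n ◁ g) ≫ compF M' X n
  dsimp only [compF]
  have h : HomologicalComplex.ιTensorObj X (sg0 M) n 0 n (add_zero n) ≫
      (X ◁ (HomologicalComplex.single (ModuleCat.{u} A) (ComplexShape.up ℤ) 0).map g).f n =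
      (X.X n ◁ ((HomologicalComplex.single (ModuleCat.{u} A) (ComplexShape.up ℤ) 0).map g).f 0) ≫
        HomologicalComplex.ιTensorObj X (sg0 M') n 0 n (add_zero n) := by
    change HomologicalComplex.ιMapBifunctor X (sg0 M) (curriedTensor (ModuleCat.{u} A)) (.up ℤ)
      n 0 n (add_zero n) ≫
      (HomologicalComplex.mapBifunctorMap (𝟙 X) ((HomologicalComplex.single (ModuleCat.{u} A)
        (ComplexShape.up ℤ) 0).map g) (curriedTensor (ModuleCat.{u} A)) (.up ℤ)).f n = _
    rw [HomologicalComplex.ι_mapBifunctorMap]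
    simp
  rw [assoc, h, ← assoc, ← assoc]
  congr 1
  rw [← MonoidalCategory.whiskerLeft_comp, ← MonoidalCategory.whiskerLeft_comp]
  congr 1

variable (A B) in
/-- termwise version of `tw`. -/
noncomputable def twC (P : Cx A) :
    (resC A B).obj ((extC A B).obj P) ≅ (GCt (BA A B)).obj P :=
  HomologicalComplex.Hom.isoOfComponents (fun n => (tw A B).app (P.X n))
    (fun i j _ => ((tw A B).hom.naturality (P.d i j)).symm)

lemma twC_naturality {P P' : Cx A} (f : P ⟶ P') :
    (resC A B).map ((extC A B).map f) ≫ (twC A B P').hom =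
      (twC A B P).hom ≫ (GCt (BA A B)).map f := by
  refine HomologicalComplex.hom_ext _ _ fun n => ?_
  exact (tw A B).hom.naturality (f.f n)

lemma twC_equivariant (b : B) (P : Cx A) :
    (resC A B).map (b • 𝟙 ((extC A B).obj P)) ≫ (twC A B P).hom =
      (twC A B P).hom ≫ (NatTrans.mapHomologicalComplex
        ((curriedTensor (ModuleCat.{u} A)).flip.map (muB (A := A) b)) (ComplexShape.up ℤ)).app P := by
  refine HomologicalComplex.hom_ext _ _ fun n => ?_
  exact tw_equivariant b (P.X n)

variable (A B) in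
/-- `resC (extC P) ≅ P ⊗ B_A[0]`. -/
noncomputable def cIso (P : Cx A) :
    (resC A B).obj ((extC A B).obj P) ≅ P ⊗ sg0 (BA A B) :=
  twC A B P ≪≫ asIso (comp (BA A B) P)

lemma cIso_naturality {P P' : Cx A} (f : P ⟶ P') :
    (resC A B).map ((extC A B).map f) ≫ (cIso A B P').hom =
      (cIso A B P).hom ≫ (f ▷ sg0 (BA A B)) := by
  dsimp only [cIso, Iso.trans_hom, asIso_hom]
  rw [← assoc, twC_naturality, assoc, comp_naturality, assoc]

lemma cIso_equivariant (b : B) (P : Cx A) :
    (resC A B).map (b • 𝟙 ((extC A B).obj P)) ≫ (cIso A B P).hom =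
      (cIso A B P).hom ≫ (P ◁ (HomologicalComplex.single (ModuleCat.{u} A)
        (ComplexShape.up ℤ) 0).map (muB (A := A) b)) := by
  dsimp only [cIso, Iso.trans_hom, asIso_hom]
  rw [← assoc, twC_equivariant, assoc, assoc, comp_naturality_M]

end complexes

section derived

attribute [local instance] Groth.Agent.H4.KProj.hasLBaseChange

variable (A B) in
/-- derived base change. -/
noncomputable abbrev LE : Dual.D A ⥤ Dual.D B := DRing.LBaseChange (algebraMap A B)

variable (A B) in
/-- the adjunction `LE ⊣ Res`. -/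
noncomputable abbrev adjLE : LE A B ⊣ Res A B := Groth.Agent.H4.KProj.adjLBaseChange (algebraMap A B)

variable (A B) in
/-- the comparison `LE (Q Z) ⟶ Q (extC Z)`. -/
noncomputable abbrev gamE : Q ⋙ LE A B ⟶ extC A B ⋙ Q :=
  gam (ModuleCat.extendScalars.{u, u, u} (algebraMap A B))

variable (A B) in
/-- `Res (Q Z) ≅ Q (resC Z)`. -/
noncomputable abbrev resFac : Q ⋙ Res A B ≅ resC A B ⋙ Q :=
  (ModuleCat.restrictScalars.{u} (algebraMap A B)).mapDerivedCategoryFactors

variable (A B) in
/-- the comparison data for the projection formula. -/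
noncomputable def betaPF : Q ⋙ (LE A B ⋙ Res A B) ⟶ DRing.tensorCxQ A (sg0 (BA A B)) where
  app Z := (Res A B).map ((gamE A B).app Z) ≫ (resFac A B).hom.app ((extC A B).obj Z) ≫
    Q.map (cIso A B Z).hom
  naturality Z Z' f := by
    have h1 := (gamE A B).naturality f
    have h2 := (resFac A B).hom.naturality ((extC A B).map f)
    have h3 := cIso_naturality (B := B) f
    dsimp only [Functor.comp_obj, Functor.comp_map] at h1 h2 ⊢
    rw [← assoc, ← Functor.map_comp, h1, Functor.map_comp, assoc,
      ← assoc ((Res A B).map (Q.map ((extC A B).map f))),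
      h2, assoc, ← Functor.map_comp, h3, Functor.map_comp, assoc, assoc]
    rfl

attribute [local instance] Groth.Agent.H4.LK2.hasLTensorCx

variable (A B) in
/-- the projection formula map, to the one-variable derived tensor product. -/
noncomputable def piPF : LE A B ⋙ Res A B ⟶ DRing.LTensorCx A (sg0 (BA A B)) :=
  (DRing.LTensorCx A (sg0 (BA A B))).leftDerivedLift
    ((DRing.tensorCxQ A (sg0 (BA A B))).totalLeftDerivedCounit DerivedCategory.Q (qis A))
    (qis A) (LE A B ⋙ Res A B) (betaPF A B)

lemma piPF_fac (Z : Cx A) :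
    (piPF A B).app (Q.obj Z) ≫
      ((DRing.tensorCxQ A (sg0 (BA A B))).totalLeftDerivedCounit DerivedCategory.Q (qis A)).app Z =
      (betaPF A B).app Z :=
  (DRing.LTensorCx A (sg0 (BA A B))).leftDerived_fac_app _ (qis A) _ (betaPF A B) Z

lemma isIso_betaPF_app (P : Cx A) [P.IsKProjective] : IsIso ((betaPF A B).app P) := by
  change IsIso ((Res A B).map ((gamE A B).app P) ≫ (resFac A B).hom.app ((extC A B).obj P) ≫
    Q.map (cIso A B P).hom)
  have k1 : IsIso ((gamE A B).app P) :=
    isIso_gam_app (ModuleCat.extendScalars.{u, u, u} (algebraMap A B)) P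
  have k2 : IsIso ((Res A B).map ((gamE A B).app P)) := inferInstance
  have k3 : IsIso (Q.map (cIso A B P).hom) := inferInstance
  have k4 : IsIso ((resFac A B).hom.app ((extC A B).obj P)) := inferInstance
  exact @IsIso.comp_isIso _ _ _ _ _ _ _ k2 (@IsIso.comp_isIso _ _ _ _ _ _ _ k4 k3)

theorem isIso_piPF : IsIso (piPF A B) := by
  rw [NatTrans.isIso_iff_isIso_app]
  intro X
  obtain ⟨P, hP, -, hfl, ⟨e⟩⟩ := Groth.Agent.H4.LK4.exists_kproj_kflat_iso X
  haveI := hP
  rw [← NatTrans.isIso_app_iff_of_iso (piPF A B) e]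
  have h1 := piPF_fac (B := B) P
  haveI h2 : IsIso (((DRing.tensorCxQ A (sg0 (BA A B))).totalLeftDerivedCounit DerivedCategory.Q
      (qis A)).app P) :=
    Groth.Agent.H4.LK2.isIso_counit_app_of_isKProjective (sg0 (BA A B)) P
  haveI : IsIso ((betaPF A B).app P) := isIso_betaPF_app P
  haveI : IsIso ((piPF A B).app (Q.obj P) ≫
      ((DRing.tensorCxQ A (sg0 (BA A B))).totalLeftDerivedCounit DerivedCategory.Q (qis A)).app P) := by
    rw [h1]
    infer_instance
  exact IsIso.of_isIso_comp_right _
    (((DRing.tensorCxQ A (sg0 (BA A B))).totalLeftDerivedCounit DerivedCategory.Q (qis A)).app P)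

variable (A B) in
/-- `B_A[0]` in `D(A)`. -/
noncomputable abbrev NB : Dual.D A := Q.obj (sg0 (BA A B))

variable (A B) in
/-- **The projection formula**: `(K ⊗^L_A B)|_A ≅ K ⊗^L_A B_A`. -/
noncomputable def PF : LE A B ⋙ Res A B ≅ tensorRightD A (NB A B) :=
  haveI := isIso_piPF (A := A) (B := B)
  asIso (piPF A B) ≪≫ Groth.Agent.H4.CF6.LTensorCxIso' (sg0 (BA A B))

lemma PF_fac (Z : Cx A) :
    (PF A B).hom.app (Q.obj Z) ≫ (ε A).app (Z, sg0 (BA A B)) = (betaPF A B).app Z := by
  haveI := Groth.Agent.H4.CF6.isIso_toLTensorCx (sg0 (BA A B))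
  have h1 := toLTensorCx_fac A (sg0 (BA A B)) Z
  have h2 := piPF_fac (B := B) Z
  have h3 : (PF A B).hom.app (Q.obj Z) =
      (piPF A B).app (Q.obj Z) ≫ inv ((toLTensorCx A (sg0 (BA A B))).app (Q.obj Z)) := by
    dsimp only [PF, Groth.Agent.H4.CF6.LTensorCxIso', Iso.trans_hom, Iso.symm_hom, asIso_hom,
      asIso_inv, NatTrans.comp_app]
    rw [NatIso.isIso_inv_app]
  rw [h3, ← h1, assoc, IsIso.inv_hom_id_assoc, h2]

/-- multiplication by `b` on `B_A[0]` in `D(A)`. -/
noncomputable def muN (b : B) : NB A B ⟶ NB A B :=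
  Q.map ((HomologicalComplex.single (ModuleCat.{u} A) (ComplexShape.up ℤ) 0).map (muB (A := A) b))

lemma eq_app_of_iso {C D : Type*} [Category C] [Category D] {F G : C ⥤ D} (α β : F ⟶ G)
    {X Y : C} (e : X ≅ Y) (h : α.app X = β.app X) : α.app Y = β.app Y := by
  have h1 : α.app Y = F.map e.inv ≫ α.app X ≫ G.map e.hom := by
    rw [← assoc, α.naturality, assoc, ← G.map_comp, e.inv_hom_id, G.map_id, comp_id]
  have h2 : β.app Y = F.map e.inv ≫ β.app X ≫ G.map e.hom := by
    rw [← assoc, β.naturality, assoc, ← G.map_comp, e.inv_hom_id, G.map_id, comp_id]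
  rw [h1, h2, h]

variable (A B) in
/-- the `B`-action on `(K ⊗^L B)|_A`, as a natural transformation. -/
noncomputable def sigmaB (b : B) : LE A B ⋙ Res A B ⟶ LE A B ⋙ Res A B where
  app K := (Res A B).map (b • 𝟙 ((LE A B).obj K))
  naturality K K' f := by
    dsimp only [Functor.comp_obj, Functor.comp_map]
    rw [← Functor.map_comp, ← Functor.map_comp, Linear.comp_smul, Linear.smul_comp, comp_id,
      id_comp]

lemma betaPF_equivariant (b : B) (P : Cx A) :
    (sigmaB A B b).app (Q.obj P) ≫ (betaPF A B).app P =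
      (betaPF A B).app P ≫ Q.map (P ◁ (HomologicalComplex.single (ModuleCat.{u} A)
        (ComplexShape.up ℤ) 0).map (muB (A := A) b)) := by
  change (Res A B).map (b • 𝟙 ((LE A B).obj (Q.obj P))) ≫
    ((Res A B).map ((gamE A B).app P) ≫ (resFac A B).hom.app ((extC A B).obj P) ≫
      Q.map (cIso A B P).hom) =
    ((Res A B).map ((gamE A B).app P) ≫ (resFac A B).hom.app ((extC A B).obj P) ≫
      Q.map (cIso A B P).hom) ≫ _
  have h1 : (b • 𝟙 ((LE A B).obj (Q.obj P))) ≫ (gamE A B).app P =
      (gamE A B).app P ≫ Q.map (b • 𝟙 ((extC A B).obj P)) := by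
    rw [Functor.map_smul, CategoryTheory.Functor.map_id, Linear.comp_smul, Linear.smul_comp]
    erw [comp_id, id_comp]
  have h2 := (resFac A B).hom.naturality (b • 𝟙 ((extC A B).obj P))
  dsimp only [Functor.comp_obj, Functor.comp_map] at h2
  rw [← assoc, ← Functor.map_comp, h1, Functor.map_comp, assoc,
    ← assoc ((Res A B).map (Q.map _)), h2, assoc, ← Functor.map_comp, cIso_equivariant,
    Functor.map_comp, assoc, assoc]

/-- **`B`-equivariance of the projection formula.** -/
theorem PF_equivariant (b : B) (K : Dual.D A) :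
    (Res A B).map (b • 𝟙 ((LE A B).obj K)) ≫ (PF A B).hom.app K =
      (PF A B).hom.app K ≫ ((LTen A).obj K).map (muN b) := by
  have key : sigmaB A B b ≫ (PF A B).hom = (PF A B).hom ≫ (LTen A).flip.map (muN b) := by
    ext K
    obtain ⟨P, hP, -, hfl, ⟨e⟩⟩ := Groth.Agent.H4.LK4.exists_kproj_kflat_iso K
    refine eq_app_of_iso _ _ e ?_
    haveI : IsIso ((ε A).app (P, sg0 (BA A B))) :=
      Groth.Agent.H4.LK4.isIso_ε_of_kflat P (sg0 (BA A B)) (Or.inl hfl)
    rw [← cancel_mono ((ε A).app (P, sg0 (BA A B)))]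
    have h1 := (ε A).naturality (X := (P, sg0 (BA A B))) (Y := (P, sg0 (BA A B)))
      (Prod.mkHom (𝟙 P) ((HomologicalComplex.single (ModuleCat.{u} A)
        (ComplexShape.up ℤ) 0).map (muB (A := A) b)))
    have h2 : (tensor₂ A).map (X := (P, sg0 (BA A B))) (Y := (P, sg0 (BA A B)))
        (Prod.mkHom (𝟙 P) ((HomologicalComplex.single (ModuleCat.{u} A)
          (ComplexShape.up ℤ) 0).map (muB (A := A) b))) =
        Q.map (P ◁ (HomologicalComplex.single (ModuleCat.{u} A)
          (ComplexShape.up ℤ) 0).map (muB (A := A) b)) := by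
      change Q.map ((𝟙 P) ▷ _ ≫ P ◁ _) = _
      rw [MonoidalCategory.id_whiskerRight, id_comp]
    have h3 : (QQ A ⋙ LTen₂ A).map (X := (P, sg0 (BA A B))) (Y := (P, sg0 (BA A B)))
        (Prod.mkHom (𝟙 P) ((HomologicalComplex.single (ModuleCat.{u} A)
          (ComplexShape.up ℤ) 0).map (muB (A := A) b))) =
        ((LTen A).flip.map (muN (A := A) b)).app (Q.obj P) := by
      change (LTen₂ A).map (Prod.mkHom (Q.map (𝟙 P)) _) = (LTen₂ A).map (Prod.mkHom (𝟙 _) _)
      rw [CategoryTheory.Functor.map_id]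
      rfl
    rw [NatTrans.comp_app, NatTrans.comp_app, assoc, assoc, ← h3, h1, h2, PF_fac,
      ← assoc, PF_fac, betaPF_equivariant]
  have := congrArg (fun t => t.app K) key
  simpa only [NatTrans.comp_app, sigmaB, Functor.flip_map_app] using this

end derived

end Groth.Agent.H4.US2
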