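import Mathlib
import Groth.Agent.H4.US2

set_option autoImplicit false
universe u
open CategoryTheory Category Limits Pretriangulated TensorProduct MonoidalCategory

namespace Groth.Agent.H4.US3

attribute [local instance] HasDerivedCategory.standard
attribute [local instance] Groth.Agent.H4.LK4.hasLTen Groth.Agent.H4.LK5.hasLTen₃
  Groth.Agent.H4.KI7.isSymMonoidal Groth.Agent.H4.KI6.hasRHom
attribute [local instance] Groth.Agent.H4.KProj.hasLBaseChange

open DRing DTen DerivedCategory Groth.Agent.H4.FB2 Groth.Agent.H4.US1 Groth.Agent.H4.US2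

variable {A : Type u} [CommRing A] {B : Type u} [CommRing B] [Algebra A B]
  (R : Dual.D A ⥤ Dual.D B) (adj : Res A B ⊣ R)

/-- the composite adjunction `(- ⊗^L B)|_A ⊣ R(-)|_A`. -/
noncomputable abbrev adj₁ : LE A B ⋙ Res A B ⊣ R ⋙ Res A B := (adjLE A B).comp adj

/-- the `B`-action on `R(K)|_A`, as a natural transformation. -/
noncomputable def betaB (b : B) : R ⋙ Res A B ⟶ R ⋙ Res A B where
  app K := (Res A B).map (b • 𝟙 (R.obj K))
  naturality K K' f := by
    dsimp only [Functor.comp_obj, Functor.comp_map]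
    rw [← Functor.map_comp, ← Functor.map_comp, Linear.comp_smul, Linear.smul_comp, comp_id,
      id_comp]

/-- the `B`-action on `R(-)|_A` is conjugate to the `B`-action on `(- ⊗^L B)|_A`. -/
lemma conjugate_sigmaB (b : B) :
    conjugateEquiv (adj₁ R adj) (adj₁ R adj) (sigmaB A B b) = betaB R b := by
  ext K
  apply ((adj₁ R adj).homEquiv _ _).symm.injective
  rw [Adjunction.homEquiv_counit, Adjunction.homEquiv_counit, conjugateEquiv_counit]
  have hc : (adj₁ R adj).counit.app K =
      (Res A B).map ((adjLE A B).counit.app (R.obj K)) ≫ adj.counit.app K :=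
    Adjunction.comp_counit_app _ _ _
  rw [hc]
  dsimp only [sigmaB, betaB, Functor.comp_obj, Functor.comp_map]
  rw [← assoc, ← assoc, ← Functor.map_comp, ← Functor.map_comp]
  congr 2
  have h := (adjLE A B).counit.naturality (b • 𝟙 (R.obj K))
  dsimp only [Functor.comp_obj, Functor.comp_map, Functor.id_obj, Functor.id_map] at h
  rw [h, Linear.comp_smul, Linear.smul_comp, comp_id, id_comp]

/-- **`R(K)|_A ≅ RHom_A(B, K)`.** -/
noncomputable def rho : R ⋙ Res A B ≅ RHomR A (NB A B) :=
  conjugateIsoEquiv (adj₁ R adj) (rhomAdj A (NB A B)) (PF A B).symm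

lemma rho_hom : (rho R adj).hom =
    conjugateEquiv (adj₁ R adj) (rhomAdj A (NB A B)) (PF A B).inv := rfl

/-- **`B`-equivariance of `R(K)|_A ≅ RHom_A(B, K)`.** -/
theorem rho_equivariant (b : B) (K : Dual.D A) :
    (Res A B).map (b • 𝟙 (R.obj K)) ≫ (rho R adj).hom.app K =
      (rho R adj).hom.app K ≫ RHomMap (muN (A := A) b) K := by
  have h1 : sigmaB A B b ≫ (PF A B).hom = (PF A B).hom ≫ (LTen A).flip.map (muN (A := A) b) := by
    ext K
    simpa only [NatTrans.comp_app, sigmaB, Functor.flip_map_app] using PF_equivariant b K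
  have h2 : (PF A B).inv ≫ sigmaB A B b = (LTen A).flip.map (muN (A := A) b) ≫ (PF A B).inv := by
    rw [Iso.inv_comp_eq, ← assoc, ← h1, assoc, Iso.hom_inv_id, comp_id]
  have h3 : betaB R b ≫ (rho R adj).hom = (rho R adj).hom ≫ (RHom A).map (muN (A := A) b).op := by
    rw [rho_hom, ← conjugate_sigmaB R adj b, conjugateEquiv_comp, h2]
    change _ = conjugateEquiv _ _ _ ≫ conjugateEquiv _ _ _
    rw [conjugateEquiv_comp]
    rfl
  exact congrArg (fun t => t.app K) h3

end Groth.Agent.H4.US3
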