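import Mathlib
import Groth.Agent.H4.US3
import Groth.Agent.H4.DZ4
import Groth.Agent.H4.EV7
import Groth.Agent.H4.KI8

set_option autoImplicit false
universe u
open CategoryTheory Category Limits Pretriangulated TensorProduct MonoidalCategory

namespace Groth.Agent.H4.US4

attribute [local instance] HasDerivedCategory.standard
attribute [local instance] Groth.Agent.H4.LK4.hasLTen Groth.Agent.H4.LK5.hasLTen₃
  Groth.Agent.H4.KI7.isSymMonoidal Groth.Agent.H4.KI6.hasRHom
attribute [local instance] Groth.Agent.H4.KProj.hasLBaseChange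

open DRing DTen DerivedCategory Groth.Agent.H4.FB2 Groth.Agent.H4.US1 Groth.Agent.H4.US2
  Groth.Agent.H4.US3 Groth.Agent.H4.HC6

set_option quotPrecheck false in
/-- notation for the object part of `⊗^L` -/
local notation:max "tO(" a ", " b ")" => (LTen₂ _).obj (a, b)

set_option quotPrecheck false in
/-- notation for the map part of `⊗^L` -/
local notation:max "tM(" a ", " b ")" => (LTen₂ _).map (Prod.mkHom a b)

section FF

variable {A : Type u} [CommRing A] [IsNoetherianRing A] (ω : Dual.D A) (hω : Dual.IsDualizing A ω)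

/-- the double dual of a morphism. -/
noncomputable abbrev DD {K K' : Dual.D A} (k : K ⟶ K') :
    (RHomR A ((RHomR A K).obj ω)).obj ω ⟶ (RHomR A ((RHomR A K').obj ω)).obj ω :=
  RHomMap (RHomMap k ω) ω

include hω in
/-- the biduality isomorphism, natural in `K`. -/
theorem exists_eta : ∃ η : ∀ K : Dual.D A, K ⟶ (RHomR A ((RHomR A K).obj ω)).obj ω,
    (∀ {K K' : Dual.D A} (k : K ⟶ K'), k ≫ η K' = η K ≫ DD ω k) ∧
    ∀ K : Dual.D A, (∀ i : ℤ, Module.Finite A (Dual.HD A K i)) → IsIso (η K) := by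
  obtain ⟨eR⟩ := Groth.Agent.H4.DZ3.nonempty_RHomR_self_iso ω hω
  let w : ∀ K : Dual.D A, tO((RHomR A ω).obj ω, K) ≅ K := fun K =>
    haveI := Groth.Agent.H4.KI7.isIso_unitL_app K
    ((LTen A).mapIso eR).app K ≪≫ asIso ((unitL A).app K)
  have hw : ∀ {K K' : Dual.D A} (k : K ⟶ K'),
      tM(𝟙 ((RHomR A ω).obj ω), k) ≫ (w K').hom = (w K).hom ≫ k := by
    intro K K' k
    dsimp only [w, Iso.trans_hom, asIso_hom, Iso.app_hom, Functor.mapIso_hom]
    have h1 := (unitL A).naturality k
    have h2 := ((LTen A).map eR.hom).naturality k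
    dsimp only [Functor.id_obj, Functor.id_map] at h1
    rw [assoc, ← h1, ← assoc, ← assoc]
    congr 1
  refine ⟨fun K => (w K).inv ≫ evalHom K ω ω, ?_, ?_⟩
  · intro K K' k
    have h := Groth.Agent.H4.EV7.evalHom_naturality_K ω ω k
    rw [assoc, ← h, ← assoc, ← assoc]
    congr 1
    rw [Iso.comp_inv_eq, assoc, hw, Iso.inv_hom_id_assoc]
  · intro K hK
    haveI := Groth.Agent.H4.DZ3.isIso_evalHom_of_finite ω hω K hK
    infer_instance

include hω in
/-- **duality is fully faithful on objects with finite cohomology.** -/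
theorem bijective_RHomMap (X Y : Dual.D A) (hX : ∀ i : ℤ, Module.Finite A (Dual.HD A X i))
    (hY : ∀ i : ℤ, Module.Finite A (Dual.HD A Y i)) :
    Function.Bijective (fun g : X ⟶ Y => RHomMap g ω) := by
  obtain ⟨η, hnat, hiso⟩ := exists_eta ω hω
  have inj : ∀ (X Y : Dual.D A), (∀ i : ℤ, Module.Finite A (Dual.HD A Y i)) →
      Function.Injective (fun g : X ⟶ Y => RHomMap g ω) := by
    intro X Y hY g g' h
    haveI := hiso Y hY
    have h1 : g ≫ η Y = g' ≫ η Y := by
      rw [hnat g, hnat g']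
      change _ ≫ RHomMap (RHomMap g ω) ω = _ ≫ RHomMap (RHomMap g' ω) ω
      have : RHomMap g ω = RHomMap g' ω := h
      rw [this]
    exact (cancel_mono (η Y)).1 h1
  refine ⟨inj X Y hY, ?_⟩
  intro h
  haveI := hiso X hX
  haveI := hiso Y hY
  let g : X ⟶ Y := η X ≫ RHomMap h ω ≫ inv (η Y)
  refine ⟨g, ?_⟩
  have hDX := Groth.Agent.H4.DZ3.finite_HD_RHomR ω hω X hX
  apply inj _ _ hDX
  change RHomMap (RHomMap g ω) ω = RHomMap h ω
  have h2 : g ≫ η Y = η X ≫ RHomMap h ω := by
    simp only [g, assoc, IsIso.inv_hom_id, comp_id]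
  have h3 := hnat g
  rw [h2] at h3
  exact ((cancel_epi (η X)).1 h3).symm

end FF

section trick

/-- if `End(X)` is free of rank one over `B` then `B → End(X)` is bijective. -/
theorem bijective_toEnd_of_free {B : Type*} [CommRing B] {C : Type*} [Category C] [Preadditive C]
    [Linear B C] (X : C) (u : X ⟶ X) (hu : Function.Bijective (fun b : B => b • u)) :
    Function.Bijective (fun b : B => b • 𝟙 X) := by
  obtain ⟨c, hc⟩ := hu.2 (𝟙 X)
  obtain ⟨d, hd⟩ := hu.2 (u ≫ u)
  have hc' : c • u = 𝟙 X := hc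
  have hd' : d • u = u ≫ u := hd
  have hcd : c * d = 1 := by
    apply hu.1
    change (c * d) • u = (1 : B) • u
    rw [one_smul, mul_smul, hd', ← Linear.smul_comp, hc', id_comp]
  have h1 : (fun b : B => b • 𝟙 X) = (fun b : B => b • u) ∘ (fun b : B => b * c) := by
    funext b
    change b • 𝟙 X = (b * c) • u
    rw [mul_smul, hc']
  rw [h1]
  refine hu.comp ?_
  exact (Units.mkOfMulEqOne c d hcd).mulRight_bijective

end trick

section main

variable {A : Type u} [CommRing A] {B : Type u} [CommRing B] [Algebra A B]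
  (R : Dual.D A ⥤ Dual.D B) (adj : Res A B ⊣ R)

variable (A B) in
/-- `B_A` in degree zero, as `inD`, is `NB`. -/
noncomputable abbrev jB : Dual.inD A B ≅ NB A B :=
  (singleFunctorIsoCompQ (ModuleCat.{u} A) 0).app (BA A B)

variable (A) in
/-- `A` in degree zero is the unit. -/
noncomputable abbrev jU : Dual.inD A A ≅ DTen.unit A :=
  (singleFunctorIsoCompQ (ModuleCat.{u} A) 0).app (ModuleCat.of A A)

/-- the map `A → B`, `1 ↦ b`. -/
noncomputable def spB (b : B) : ModuleCat.of A A ⟶ BA A B :=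
  ModuleCat.ofHom (LinearMap.toSpanSingleton A B b)

lemma spB_mul (b b' : B) : spB (A := A) (b * b') = spB (A := A) b' ≫ muB (A := A) b := by
  refine ModuleCat.hom_ext (LinearMap.ext fun a => ?_)
  change a • (b * b') = b * (a • b')
  rw [mul_smul_comm]

lemma bijective_spB : Function.Bijective (fun b : B => spB (A := A) b) := by
  constructor
  · intro b b' h
    have := congrArg (fun f => f.hom (1 : A)) h
    simpa [spB] using this
  · intro f
    refine ⟨f.hom (1 : A), ?_⟩
    refine ModuleCat.hom_ext (LinearMap.ext fun a => ?_)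
    change a • f.hom (1 : A) = f.hom a
    rw [← map_smul, smul_eq_mul, mul_one]

/-- `B → Hom(A[0], B_A[0])`. -/
noncomputable def psi5 (b : B) : DTen.unit A ⟶ NB A B :=
  (jU A).inv ≫ (singleFunctor (ModuleCat.{u} A) 0).map (spB (A := A) b) ≫ (jB A B).hom

lemma bijective_psi5 : Function.Bijective (fun b : B => psi5 (A := A) b) := by
  have h1 : Function.Bijective (fun f : ModuleCat.of A A ⟶ BA A B =>
      (singleFunctor (ModuleCat.{u} A) 0).map f) :=
    ⟨fun f g h => (singleFunctor (ModuleCat.{u} A) 0).map_injective h,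
      fun g => (singleFunctor (ModuleCat.{u} A) 0).map_surjective g⟩
  have h2 : Function.Bijective (fun g : Dual.inD A A ⟶ Dual.inD A B =>
      (jU A).inv ≫ g ≫ (jB A B).hom) := by
    constructor
    · intro g g' h
      have h' : (jU A).inv ≫ g ≫ (jB A B).hom = (jU A).inv ≫ g' ≫ (jB A B).hom := h
      rwa [cancel_epi, cancel_mono] at h'
    · intro k
      refine ⟨(jU A).hom ≫ k ≫ (jB A B).inv, ?_⟩
      change (jU A).inv ≫ ((jU A).hom ≫ k ≫ (jB A B).inv) ≫ (jB A B).hom = k
      rw [assoc, assoc, Iso.inv_hom_id, comp_id, Iso.inv_hom_id_assoc]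
  exact h2.comp (h1.comp bijective_spB)

lemma psi5_mul (b b' : B) : psi5 (A := A) (b * b') = psi5 (A := A) b' ≫ muN (A := A) b := by
  dsimp only [psi5, muN]
  have h := (singleFunctorIsoCompQ (ModuleCat.{u} A) 0).hom.naturality (muB (A := A) b)
  dsimp only [Functor.comp_map] at h
  have h' : (singleFunctor (ModuleCat.{u} A) 0).map (muB (A := A) b) ≫ (jB A B).hom =
      (jB A B).hom ≫ Q.map ((HomologicalComplex.single (ModuleCat.{u} A)
        (ComplexShape.up ℤ) 0).map (muB (A := A) b)) := h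
  rw [assoc, assoc, ← h', spB_mul, Functor.map_comp, assoc]

lemma finite_HD_of_iso {X Y : Dual.D A} (e : X ≅ Y)
    (h : ∀ i : ℤ, Module.Finite A (Dual.HD A X i)) (i : ℤ) : Module.Finite A (Dual.HD A Y i) :=
  haveI := h i
  Module.Finite.equiv ((homologyFunctor (ModuleCat.{u} A) i).mapIso e).toLinearEquiv

include adj in
/-- **`B → End(R ω)` is bijective.** -/
theorem bijective_toEnd [IsNoetherianRing A] [Module.Finite A B] (ω : Dual.D A)
    (hω : Dual.IsDualizing A ω) :
    Function.Bijective (fun b : B => b • 𝟙 (R.obj ω)) := by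
  have hU : ∀ i : ℤ, Module.Finite A (Dual.HD A (DTen.unit A) i) :=
    finite_HD_of_iso (jU A) (fun i => Groth.Agent.H4.DZ4.finite_HD_inD A i)
  have hN : ∀ i : ℤ, Module.Finite A (Dual.HD A (NB A B) i) :=
    finite_HD_of_iso (jB A B) (fun i => Groth.Agent.H4.DZ4.finite_HD_inD B i)
  let uω : (RHomR A (DTen.unit A)).obj ω ≅ ω := (Groth.Agent.H4.KI8.RHomRUnitIso (A := A)).app ω
  let ρ := (rho R adj).app ω
  -- the chain of bijections
  let Φ : B → (R.obj ω ⟶ R.obj ω) := fun b =>
    (homAddEquiv R adj (R.obj ω) ω).symm (ρ.hom ≫ RHomMap (psi5 (A := A) b) ω ≫ uω.hom)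
  have hΦ : Function.Bijective Φ := by
    have b4 := bijective_RHomMap ω hω (DTen.unit A) (NB A B) hU hN
    have b3 : Function.Bijective (fun h : (RHomR A (NB A B)).obj ω ⟶
        (RHomR A (DTen.unit A)).obj ω => ρ.hom ≫ h ≫ uω.hom) := by
      constructor
      · intro h h' e
        have e' : ρ.hom ≫ h ≫ uω.hom = ρ.hom ≫ h' ≫ uω.hom := e
        rwa [cancel_epi, cancel_mono] at e'
      · intro k
        refine ⟨ρ.inv ≫ k ≫ uω.inv, ?_⟩
        change ρ.hom ≫ (ρ.inv ≫ k ≫ uω.inv) ≫ uω.hom = k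
        rw [assoc, assoc, Iso.inv_hom_id, comp_id, Iso.hom_inv_id_assoc]
    exact (homAddEquiv R adj (R.obj ω) ω).symm.bijective.comp
      (b3.comp (b4.comp bijective_psi5))
  have hmul : ∀ b b' : B, Φ (b * b') = b • Φ b' := by
    intro b b'
    apply (homAddEquiv R adj (R.obj ω) ω).injective
    have h1 : b • Φ b' = (b • 𝟙 (R.obj ω)) ≫ Φ b' := by rw [Linear.smul_comp, id_comp]
    rw [h1, homAddEquiv_naturality]
    dsimp only [Φ]
    rw [AddEquiv.apply_symm_apply, AddEquiv.apply_symm_apply, psi5_mul, RHomMap_comp, assoc]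
    have h2 : (Res A B).map (b • 𝟙 (R.obj ω)) ≫ ρ.hom = ρ.hom ≫ RHomMap (muN (A := A) b) ω :=
      rho_equivariant R adj b ω
    rw [← assoc, ← h2, assoc]
  refine bijective_toEnd_of_free (R.obj ω) (Φ 1) ?_
  have : (fun b : B => b • Φ 1) = Φ := by
    funext b
    rw [← hmul, mul_one]
  rw [this]
  exact hΦ

include adj in
/-- `Hom_B(Y, R(K)[n]) ≃ Hom_A(Y|_A, K[n])`. -/
noncomputable def shiftExtAddEquiv (Y : Dual.D B) (K : Dual.D A) (n : ℤ) :
    (Y ⟶ (R.obj K)⟦n⟧) ≃+ ((Res A B).obj Y ⟶ K⟦n⟧) :=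
  (Groth.Agent.H4.DZ2.shiftHomLinEquiv (A := B) Y (R.obj K) (-n) n (by simp)).symm.toAddEquiv.trans
    ((homAddEquiv R adj (Y⟦-n⟧) K).trans
      ((Groth.Agent.H4.DZ2.isoHomLinEquiv (((Res A B).commShiftIso (-n)).app Y) K).toAddEquiv.trans
        (Groth.Agent.H4.DZ2.shiftHomLinEquiv (A := A) ((Res A B).obj Y) K (-n) n
          (by simp)).toAddEquiv))

include adj in
/-- **`R ω` has no self-maps of nonzero degree.** -/
theorem subsingleton_ext_self [IsNoetherianRing A] [Module.Finite A B] (ω : Dual.D A)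
    (hω : Dual.IsDualizing A ω) (n : ℤ) (hn : n ≠ 0) :
    Subsingleton (R.obj ω ⟶ (R.obj ω)⟦n⟧) := by
  have hN : ∀ i : ℤ, Module.Finite A (Dual.HD A (NB A B) i) :=
    finite_HD_of_iso (jB A B) (fun i => Groth.Agent.H4.DZ4.finite_HD_inD B i)
  obtain ⟨e⟩ := Groth.Agent.H4.DZ4.nonempty_hom_dual_equiv ω hω (NB A B) hN n
  let ρ := (rho R adj).app ω
  haveI : Subsingleton (Dual.HD A (NB A B) n) := by
    haveI := Groth.Agent.H4.DZ4.subsingleton_HD_inD (A := A) B n hn
    exact ((homologyFunctor (ModuleCat.{u} A) n).mapIso (jB A B)).toLinearEquiv.symm.subsingleton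
  haveI : Subsingleton ((RHomR A (NB A B)).obj ω ⟶ ω⟦n⟧) := e.subsingleton
  haveI : Subsingleton ((Res A B).obj (R.obj ω) ⟶ ω⟦n⟧) :=
    (Groth.Agent.H4.DZ2.isoHomLinEquiv ρ (ω⟦n⟧)).subsingleton
  exact (shiftExtAddEquiv R adj (R.obj ω) ω n).subsingleton

include adj in
/-- **S1772.** -/
theorem S1772 [IsNoetherianRing A] [IsNoetherianRing B] [Module.Finite A B] (ω : Dual.D A)
    (hω : Dual.IsDualizing A ω) : Dual.IsDualizing B (R.obj ω) where
  isNoetherianRing := inferInstance
  finite_injective_dimension := by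
    obtain ⟨a, b, hab⟩ := hω.finite_injective_dimension
    refine ⟨a, b, fun M _ _ i hi => ?_⟩
    haveI := hab ((ModuleCat.restrictScalars.{u} (algebraMap A B)).obj (ModuleCat.of B M)) i hi
    exact (extAddEquiv R adj (ModuleCat.of B M) ω i).subsingleton
  finite_cohomology := by
    obtain ⟨a, b, hab⟩ := Groth.Agent.H4.DZ3.exists_injAmp_of_isDualizing ω hω
    haveI := Groth.Agent.H4.DZ3.isGE_of_injAmp ω a b hab
    intro i
    refine Groth.Agent.H4.US1.S1774 R adj ω a (fun j hj => ?_) hω.finite_cohomology i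
    exact ModuleCat.subsingleton_of_isZero (isZero_of_isGE ω a j hj)
  toEnd_bijective := bijective_toEnd R adj ω hω
  ext_self_subsingleton := fun i hi => subsingleton_ext_self R adj ω hω i hi

end main

end Groth.Agent.H4.US4
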