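import Mathlib
import Groth.Agent.H4.US4
import Groth.Agent.H4.CF3

set_option autoImplicit false
universe u
open CategoryTheory Category Limits Pretriangulated TensorProduct MonoidalCategory

namespace Groth.Agent.H4.US6

attribute [local instance] HasDerivedCategory.standard
attribute [local instance] Groth.Agent.H4.LK4.hasLTen Groth.Agent.H4.LK5.hasLTen₃
  Groth.Agent.H4.KI7.isSymMonoidal Groth.Agent.H4.KI6.hasRHom
attribute [local instance] Groth.Agent.H4.KProj.hasLBaseChange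

open DRing DTen DerivedCategory Groth.Agent.H4.FB2 Groth.Agent.H4.US1 Groth.Agent.H4.US2
  Groth.Agent.H4.US3 Groth.Agent.H4.US4 Groth.Agent.H4.HC6 Groth.Agent.H4.EV5

set_option quotPrecheck false in
/-- notation for the object part of `⊗^L` -/
local notation:max "tO(" a ", " b ")" => (LTen₂ _).obj (a, b)

set_option quotPrecheck false in
/-- notation for the map part of `⊗^L` -/
local notation:max "tM(" a ", " b ")" => (LTen₂ _).map (Prod.mkHom a b)

section lin

variable {A : Type u} [CommRing A]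

/-- `X ⊗^L -` is linear. -/
lemma LTen_lin_right (X Y : Dual.D A) (a : A) :
    tM(𝟙 X, a • 𝟙 Y) = a • 𝟙 tO(X, Y) := by
  haveI := Groth.Agent.H4.LK4.isIso_symm_app X Y
  have h := Groth.Agent.H4.EV7.symm_naturality (𝟙 X) (a • 𝟙 Y)
  have h1 : tM(a • 𝟙 Y, 𝟙 X) = a • 𝟙 tO(Y, X) :=
    Groth.Agent.H4.CF3.tensorRightD_lin X a Y
  rw [h1, Linear.smul_comp, id_comp] at h
  rw [← cancel_epi ((DTen.symm A).app (X, Y)), ← h, Linear.comp_smul, comp_id]

/-- `RHom(-, M)` is linear on multiples of the identity. -/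
lemma RHomMap_smul_id (L M : Dual.D A) (a : A) :
    RHomMap (a • 𝟙 L) M = a • 𝟙 ((RHomR A L).obj M) := by
  apply ((rhomAdj A L).homEquiv _ _).symm.injective
  rw [Adjunction.homEquiv_counit, Adjunction.homEquiv_counit]
  have h := RHom_map_ev (a • 𝟙 L) M
  have h2 : (tensorRightD A L).map (a • 𝟙 ((RHomR A L).obj M)) = a • 𝟙 _ :=
    Groth.Agent.H4.CF3.tensorRightD_lin L a _
  have h3 := LTen_lin_right ((RHomR A L).obj M) L a
  rw [h3] at h
  rw [h2]
  exact h

end lin

section main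

variable {A : Type u} [CommRing A] (f : A)
  (R : Dual.D A ⥤ Dual.D (A ⧸ Ideal.span {f}))
  (adj : Res A (A ⧸ Ideal.span {f}) ⊣ R)

include adj in
/-- **S8941**: the triangle `R(ω)|_A → ω → ω →` for `B = A/(f)`, `f` a nonzerodivisor. -/
theorem S8941 (hf' : f ∈ nonZeroDivisors A) (ω : Dual.D A) :
    ∃ (u : (Res A (A ⧸ Ideal.span {f})).obj (R.obj ω) ⟶ ω)
      (w : ω ⟶ ((Res A (A ⧸ Ideal.span {f})).obj (R.obj ω))⟦(1 : ℤ)⟧),
      Triangle.mk u (f • 𝟙 ω) w ∈ distinguishedTriangles := by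
  let B := A ⧸ Ideal.span {f}
  -- the short exact sequence
  let f₁ : ModuleCat.of A A ⟶ ModuleCat.of A A := f • 𝟙 _
  let g₁ : ModuleCat.of A A ⟶ BA A B := ModuleCat.ofHom (Algebra.linearMap A B)
  let S : ShortComplex (ModuleCat.{u} A) := ShortComplex.mk f₁ g₁ (by
    refine ModuleCat.hom_ext (LinearMap.ext fun x => ?_)
    change algebraMap A B (f • x) = 0
    rw [Ideal.Quotient.algebraMap_eq, Ideal.Quotient.eq_zero_iff_mem, smul_eq_mul]
    exact Ideal.mul_mem_right _ _ (Ideal.subset_span rfl))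
  have hS : S.ShortExact := by
    refine ModuleCat.shortComplex_shortExact S ?_ ?_ ?_
    · intro x
      constructor
      · intro hx
        have hx' : algebraMap A B x = 0 := hx
        rw [Ideal.Quotient.algebraMap_eq, Ideal.Quotient.eq_zero_iff_mem,
          Ideal.mem_span_singleton'] at hx'
        obtain ⟨a, ha⟩ := hx'
        refine ⟨a, ?_⟩
        change f • a = x
        rw [smul_eq_mul, mul_comm, ha]
      · rintro ⟨a, rfl⟩
        change algebraMap A B (f • a) = 0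
        rw [Ideal.Quotient.algebraMap_eq, Ideal.Quotient.eq_zero_iff_mem, smul_eq_mul]
        exact Ideal.mul_mem_right _ _ (Ideal.subset_span rfl)
    · intro x y hxy
      have h : f • x = f • y := hxy
      rw [smul_eq_mul, smul_eq_mul] at h
      have h2 : f * (x - y) = 0 := by rw [mul_sub, h, sub_self]
      exact sub_eq_zero.1 ((mul_left_mem_nonZeroDivisors_eq_zero_iff hf').1 h2)
    · exact Ideal.Quotient.mk_surjective
  have hT := hS.singleTriangle_distinguished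
  have hT' : Triangle.mk ((singleFunctor (ModuleCat.{u} A) 0).map f₁)
      ((singleFunctor (ModuleCat.{u} A) 0).map g₁) hS.singleδ ∈ distTriang (Dual.D A) := hT
  obtain ⟨w', hw'⟩ := cpl_RHomMap _ hT' ω
  change ((RHomR A (Dual.inD A A)).obj ω ⟶ ((RHomR A (Dual.inD A B)).obj ω)⟦(1 : ℤ)⟧) at w'
  change Triangle.mk (RHomMap ((singleFunctor (ModuleCat.{u} A) 0).map g₁) ω)
    (RHomMap ((singleFunctor (ModuleCat.{u} A) 0).map f₁) ω) w' ∈ distTriang (Dual.D A) at hw'
  -- identifications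
  let e₁ : (Res A B).obj (R.obj ω) ≅ (RHomR A (Dual.inD A B)).obj ω :=
    (rho R adj).app ω ≪≫ RHomIso (jB A B) ω
  let e₂ : (RHomR A (Dual.inD A A)).obj ω ≅ ω :=
    RHomIso (jU A).symm ω ≪≫ (Groth.Agent.H4.KI8.RHomRUnitIso (A := A)).app ω
  have hmid : RHomMap ((singleFunctor (ModuleCat.{u} A) 0).map f₁) ω = f • 𝟙 _ := by
    have : (singleFunctor (ModuleCat.{u} A) 0).map f₁ = f • 𝟙 _ := by
      dsimp only [f₁]
      rw [Functor.map_smul, CategoryTheory.Functor.map_id]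
    rw [this, RHomMap_smul_id]
  refine ⟨e₁.hom ≫ RHomMap ((singleFunctor (ModuleCat.{u} A) 0).map g₁) ω ≫ e₂.hom,
    e₂.inv ≫ w' ≫ e₁.inv⟦(1 : ℤ)⟧', ?_⟩
  refine isomorphic_distinguished _ hw' _ (Triangle.isoMk _ _ e₁ e₂.symm e₂.symm ?_ ?_ ?_)
  · change (e₁.hom ≫ RHomMap ((singleFunctor (ModuleCat.{u} A) 0).map g₁) ω ≫ e₂.hom) ≫ e₂.inv =
      e₁.hom ≫ RHomMap ((singleFunctor (ModuleCat.{u} A) 0).map g₁) ω
    rw [assoc, assoc, Iso.hom_inv_id, comp_id]
  · change (f • 𝟙 ω) ≫ e₂.inv = e₂.inv ≫ RHomMap ((singleFunctor (ModuleCat.{u} A) 0).map f₁) ω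
    rw [hmid, Linear.smul_comp, Linear.comp_smul, id_comp, comp_id]
  · change (e₂.inv ≫ w' ≫ e₁.inv⟦(1 : ℤ)⟧') ≫ e₁.hom⟦(1 : ℤ)⟧' = e₂.inv ≫ w'
    rw [assoc, assoc, ← Functor.map_comp, Iso.inv_hom_id, CategoryTheory.Functor.map_id, comp_id]

end main

end Groth.Agent.H4.US6
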