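import Mathlib
import Groth.Agent.H4.US6
import Groth.Agent.H4.KosPerf
import Groth.Prelude.Def_Koszul

set_option autoImplicit false
universe u
open CategoryTheory Category Limits Pretriangulated

namespace Groth.Agent.H4.KS1

attribute [local instance] HasDerivedCategory.standard
attribute [local instance] Groth.Agent.H4.LK4.hasLTen Groth.Agent.H4.LK5.hasLTen₃
  Groth.Agent.H4.KI7.isSymMonoidal Groth.Agent.H4.KI6.hasRHom

open DRing DTen DerivedCategory Groth.Agent.H4.HC6 Groth.Agent.H4.US6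

variable {T : Type u} [CommRing T]

/-- cones of `a • 𝟙` are compatible with shifts. -/
lemma nonempty_iso_cone_shift (a : T) {X Z : Dual.D T} (v : X ⟶ Z) (w : Z ⟶ X⟦(1 : ℤ)⟧)
    (h : Triangle.mk (a • 𝟙 X) v w ∈ distTriang (Dual.D T)) (n : ℤ)
    {Y Z' : Dual.D T} (v' : Y ⟶ Z') (w' : Z' ⟶ Y⟦(1 : ℤ)⟧)
    (h' : Triangle.mk (a • 𝟙 Y) v' w' ∈ distTriang (Dual.D T)) (e : Y ≅ X⟦n⟧) :
    Nonempty (Z' ≅ Z⟦n⟧) := by
  have hS := Triangle.shift_distinguished _ h n
  have hmap : (shiftFunctor (Dual.D T) n).map (a • 𝟙 X) = a • 𝟙 (X⟦n⟧) := by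
    rw [Functor.map_smul, CategoryTheory.Functor.map_id]
  refine ⟨Triangle.π₃.mapIso (isoTriangleOfIso₁₂ _ _ h' hS e (n.negOnePow • e) ?_)⟩
  change (a • 𝟙 Y) ≫ (n.negOnePow • e).hom = e.hom ≫ (n.negOnePow • (shiftFunctor (Dual.D T) n).map (a • 𝟙 X))
  rw [hmap, Preadditive.smul_iso_hom, Linear.comp_units_smul, Linear.comp_units_smul,
    Linear.smul_comp, Linear.comp_smul, id_comp, comp_id]

/-- the Koszul complex in `D(T)`. -/
noncomputable abbrev kos (l : List T) : Dual.D T := Q.obj (Koszul.koszul T l)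

lemma kos_triangle (f : T) (l : List T) :
    ∃ (v : kos l ⟶ kos (f :: l)) (w : kos (f :: l) ⟶ (kos l)⟦(1 : ℤ)⟧),
      Triangle.mk (f • 𝟙 (kos l)) v w ∈ distTriang (Dual.D T) := by
  have h := DerivedCategory.mappingCone_triangle_distinguished
    (f • 𝟙 (Koszul.koszul T l) : Koszul.koszul T l ⟶ Koszul.koszul T l)
  have hm : Q.map (f • 𝟙 (Koszul.koszul T l)) = f • 𝟙 (kos l) := by
    rw [Functor.map_smul, CategoryTheory.Functor.map_id]
  refine ⟨(Q.mapTriangle.obj (CochainComplex.mappingCone.triangle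
      (f • 𝟙 (Koszul.koszul T l)))).mor₂,
    (Q.mapTriangle.obj (CochainComplex.mappingCone.triangle (f • 𝟙 (Koszul.koszul T l)))).mor₃, ?_⟩
  rw [← hm]
  exact h

/-- `kos [] ≅ T[0]`. -/
noncomputable def kosNilIso : kos ([] : List T) ≅ Dual.inD T T :=
  ((singleFunctorIsoCompQ (ModuleCat.{u} T) 0).app (ModuleCat.of T T)).symm

/-- **self-duality of the Koszul complex**: `RHom(K(l), T) ≅ K(l)[-c]`. -/
theorem koszul_selfDual : ∀ l : List T,
    Nonempty ((RHomR T (kos l)).obj (Dual.inD T T) ≅ (kos l)⟦(-(l.length : ℤ))⟧)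
  | [] => by
    let e₁ : (RHomR T (kos ([] : List T))).obj (Dual.inD T T) ≅
        (RHomR T (DTen.unit T)).obj (Dual.inD T T) :=
      RHomIso ((Groth.Agent.H4.US4.jU T).symm ≪≫ kosNilIso.symm) (Dual.inD T T)
    exact ⟨e₁ ≪≫ (Groth.Agent.H4.KI8.RHomRUnitIso (A := T)).app (Dual.inD T T) ≪≫
      kosNilIso.symm ≪≫ ((shiftFunctorZero' (Dual.D T) (-(([] : List T).length : ℤ))
        (by simp)).app _).symm⟩
  | f :: l => by
    obtain ⟨e⟩ := koszul_selfDual l
    obtain ⟨v, w, hT⟩ := kos_triangle f l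
    obtain ⟨w', hw'⟩ := cpl_RHomMap _ hT (Dual.inD T T)
    change Triangle.mk (RHomMap v (Dual.inD T T)) (RHomMap (f • 𝟙 (kos l)) (Dual.inD T T)) w' ∈
      distTriang (Dual.D T) at hw'
    rw [RHomMap_smul_id] at hw'
    have hrot := rot_of_distTriang _ hw'
    -- the triangle `X →f X → X'[1] →`
    obtain ⟨e'⟩ := nonempty_iso_cone_shift f v w hT (-(l.length : ℤ)) _ _ hrot e
    -- e' : X'[1] ≅ kos (f :: l)[-c]
    have hlen : (-(l.length : ℤ)) + (-1) = -(((f :: l).length : ℕ) : ℤ) := by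
      rw [List.length_cons]; push_cast; ring
    exact ⟨((shiftEquiv (Dual.D T) (1 : ℤ)).unitIso.app _) ≪≫
      (shiftFunctor (Dual.D T) (-1 : ℤ)).mapIso e' ≪≫
      ((shiftFunctorAdd' (Dual.D T) (-(l.length : ℤ)) (-1) _ hlen).app _).symm⟩

end Groth.Agent.H4.KS1
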