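import Mathlib
import Groth.Agent.H4.KS1
import Groth.Agent.H4.FB2
import Groth.Prelude.Def_LCI2

set_option autoImplicit false
universe u
open CategoryTheory Category Limits Pretriangulated

namespace Groth.Agent.H4.KosBC

attribute [local instance] HasDerivedCategory.standard

open DRing DerivedCategory Groth.Agent.H4.FB2 Groth.Agent.H4.KS1

variable {A B : Type u} [CommRing A] [CommRing B] [Algebra A B] [Module.Flat A B]

/-- `E` is semilinear -/
lemma E_map_smul_id (a : A) (K : Dual.D A) :
    (E A B).map (a • 𝟙 K) = algebraMap A B a • 𝟙 ((E A B).obj K) := by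
  apply ((adjE A B).homEquiv _ _).injective
  rw [Adjunction.homEquiv_unit, Adjunction.homEquiv_unit, Res_map_smul_id]
  have h := (adjE A B).unit.naturality (a • 𝟙 K)
  dsimp only [Functor.id_obj, Functor.id_map, Functor.comp_obj, Functor.comp_map] at h
  rw [← h, Linear.smul_comp, Linear.comp_smul, id_comp]
  erw [comp_id]

noncomputable instance : (E A B).IsTriangulated :=
  inferInstanceAs
    ((ModuleCat.extendScalars.{u, u, u} (algebraMap A B)).mapDerivedCategory.IsTriangulated)

/-- `E (A[0]) ≅ B[0]`. -/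
noncomputable def EUnitIso' : (E A B).obj (Dual.inD A A) ≅ Dual.inD B B :=
  ESingleIso (ModuleCat.of A A) 0 ≪≫
    (singleFunctor (ModuleCat.{u} B) 0).mapIso
      ((Groth.Agent.H8.ExtBridge.extEquiv (A := A) (B := B) (ModuleCat.of A A)).trans
        (TensorProduct.AlgebraTensorModule.rid A B B)).toModuleIso

/-- **flat base change of the Koszul complex** -/
theorem nonempty_E_kos_iso : ∀ l : List A,
    Nonempty ((E A B).obj (kos l) ≅ kos (l.map (algebraMap A B)))
  | [] => ⟨(E A B).mapIso kosNilIso ≪≫ EUnitIso' ≪≫ kosNilIso.symm⟩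
  | f :: l => by
    obtain ⟨e⟩ := nonempty_E_kos_iso l
    obtain ⟨v, w, hT⟩ := kos_triangle f l
    obtain ⟨v', w', hT'⟩ := kos_triangle (algebraMap A B f) (l.map (algebraMap A B))
    have hE := (E A B).map_distinguished _ hT
    refine ⟨Triangle.π₃.mapIso (isoTriangleOfIso₁₂ _ _ hE hT' e e ?_)⟩
    change (E A B).map (f • 𝟙 (kos l)) ≫ e.hom = e.hom ≫ (algebraMap A B f • 𝟙 _)
    rw [E_map_smul_id, Linear.smul_comp, Linear.comp_smul, id_comp, comp_id]

/-- **Koszul-regularity is preserved by flat base change** -/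
theorem isKoszulRegularSeq_map (l : List A) (hl : LCI.IsKoszulRegularSeq A l) :
    LCI.IsKoszulRegularSeq B (l.map (algebraMap A B)) := by
  intro i hi
  obtain ⟨e⟩ := nonempty_E_kos_iso (B := B) l
  have h1 : IsZero ((homologyFunctor (ModuleCat.{u} A) i).obj (kos l)) :=
    (hl i hi).of_iso ((homologyFunctorFactors (ModuleCat.{u} A) i).app (Koszul.koszul A l))
  have h2 : IsZero ((homologyFunctor (ModuleCat.{u} B) i).obj ((E A B).obj (kos l))) :=
    ((ModuleCat.extendScalars.{u, u, u} (algebraMap A B)).map_isZero h1).of_iso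
      (homologyEIso (kos l) i)
  have h3 := h2.of_iso ((homologyFunctor (ModuleCat.{u} B) i).mapIso e.symm)
  exact h3.of_iso ((homologyFunctorFactors (ModuleCat.{u} B) i).app
    (Koszul.koszul B (l.map (algebraMap A B)))).symm

end Groth.Agent.H4.KosBC
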