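import Mathlib
import Groth.Prelude
import Groth.Agent.H4.KosLow
import Groth.Agent.H4.KE4
import Groth.Agent.H4.SG3
import Groth.Agent.Lib.Helper1.TorKos2
import Groth.Agent.Lib.Helper2.Kos4
import Groth.Agent.Lib.Helper2.Kos5
import Groth.Agent.Lib.Helper8.RGCI.KosLoc

/-!
# Facts on the Koszul complex used for the Artin–Rees factorisation
-/

set_option autoImplicit false
universe u
open CategoryTheory Category Limits HomologicalComplex MonoidalCategory CochainComplex
attribute [local instance] HasDerivedCategory.standard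

namespace Groth.Agent.H4.ARK2

open Groth.Agent.H4.SG3 Groth.Agent.H4.SG1

variable {A : Type u} [CommRing A]

lemma finite_biprod (X Y : ModuleCat.{u} A) [Module.Finite A X] [Module.Finite A Y] :
    Module.Finite A ↑(X ⊞ Y) :=
  Module.Finite.equiv (ModuleCat.biprodIsoProd X Y).toLinearEquiv.symm

lemma finite_koszul_X (l : List A) : ∀ n : ℤ, Module.Finite A ((Koszul.koszul A l).X n) := by
  induction l with
  | nil =>
    intro n
    by_cases hn : n = 0
    · subst hn
      exact Module.Finite.equiv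
        (HomologicalComplex.singleObjXSelf (ComplexShape.up ℤ) 0 (ModuleCat.of A A)).toLinearEquiv.symm
    · have hz : IsZero ((Koszul.koszul A []).X n) :=
        HomologicalComplex.isZero_single_obj_X (ComplexShape.up ℤ) 0 _ n hn
      haveI : Subsingleton ((Koszul.koszul A []).X n) := ModuleCat.subsingleton_of_isZero hz
      infer_instance
  | cons f l ih =>
    intro n
    have e : (mappingCone (f • 𝟙 (Koszul.koszul A l))).X n ≅ _ :=
      HomologicalComplex.homotopyCofiber.XIsoBiprod (f • 𝟙 (Koszul.koszul A l)) n (n + 1) rfl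
    haveI := ih (n + 1)
    haveI := ih n
    haveI := finite_biprod ((Koszul.koszul A l).X (n + 1)) ((Koszul.koszul A l).X n)
    exact Module.Finite.equiv e.toLinearEquiv.symm

lemma isZero_koszul_X_of_pos (l : List A) (n : ℤ) (hn : 0 < n) : IsZero ((Koszul.koszul A l).X n) :=
  (Groth.Agent.H4.KosLow.lowData_koszul l).1 n hn

lemma isZero_koszul_X_of_lt (l : List A) (n : ℤ) (hn : n < -(l.length : ℤ)) :
    IsZero ((Koszul.koszul A l).X n) := by
  rw [Groth.Agent.Lib.Helper1.TorKos.koszul_eq]
  exact Groth.Agent.H2.Kos.isZero_X_of_lt _ l n hn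

lemma nonempty_homotopy_koszul (l : List A) (a : A) (ha : a ∈ Ideal.span {x | x ∈ l}) :
    Nonempty (Homotopy (a • 𝟙 (Koszul.koszul A l)) 0) :=
  Groth.Agent.H2.Kos.nonempty_homotopy_of_mem_span (Koszul.koszul A l) {x | x ∈ l}
    (fun x hx => Groth.Agent.H8.RGCI.nonempty_homotopy_koszul_of_mem l x hx) a ha

/-- termwise tensor of the Koszul complex: cohomology is killed by the ideal. -/
lemma smul_homology_GCt (M : ModuleCat.{u} A) (l : List A) (a : A)
    (ha : a ∈ Ideal.span {x | x ∈ l}) (i : ℤ)
    (y : ((GCt M).obj (Koszul.koszul A l)).homology i) : a • y = 0 := by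
  obtain ⟨h⟩ := nonempty_homotopy_koszul l a ha
  have e1 : (GCt M).map (a • 𝟙 (Koszul.koszul A l)) = a • 𝟙 ((GCt M).obj (Koszul.koszul A l)) := by
    ext n : 1
    change ((a • 𝟙 (Koszul.koszul A l) : Koszul.koszul A l ⟶ Koszul.koszul A l).f n) ▷ M = _
    rw [HomologicalComplex.smul_f_apply, HomologicalComplex.id_f, HomologicalComplex.smul_f_apply,
      HomologicalComplex.id_f, MonoidalLinear.smul_whiskerRight, id_whiskerRight]
    rfl
  have e2 : (GCt M).map (0 : Koszul.koszul A l ⟶ Koszul.koszul A l) = 0 := Functor.map_zero _ _ _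
  refine Groth.Agent.H4.KE4.smul_homology_eq_zero_of_homotopy _ a ?_ i y
  exact ⟨(Homotopy.ofEq e1.symm).trans
    ((Functor.mapHomotopy (tensorRight M) h).trans (Homotopy.ofEq e2))⟩

lemma isZero_GCt_X (M : ModuleCat.{u} A) (K : CochainComplex (ModuleCat.{u} A) ℤ) (n : ℤ)
    (h : IsZero (K.X n)) : IsZero (((GCt M).obj K).X n) :=
  (tensorRight M).map_isZero h

lemma finite_GCt_X (M : Type u) [AddCommGroup M] [Module A M] [Module.Finite A M]
    (K : CochainComplex (ModuleCat.{u} A) ℤ) (n : ℤ) [Module.Finite A (K.X n)] :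
    Module.Finite A ↑(((GCt (ModuleCat.of A M)).obj K).X n) := by
  change Module.Finite A (TensorProduct A (K.X n) M)
  infer_instance

/-- The unit map and the augmentation of the Koszul complex. -/
theorem exists_unit_aug (l : List A) :
    ∃ (ι : sg0 (ModuleCat.of A A) ⟶ Koszul.koszul A l)
      (ε : Koszul.koszul A l ⟶ sg0 (ModuleCat.of A (A ⧸ Ideal.span {x | x ∈ l}))),
      ι ≫ ε = (HomologicalComplex.single (ModuleCat.{u} A) (ComplexShape.up ℤ) 0).map
        (ModuleCat.ofHom (Submodule.mkQ (Ideal.span {x | x ∈ l}))) := by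
  set K := Koszul.koszul A l with hKdef
  obtain ⟨hK, s, r, υ, ρ, h1, h2, h3, h3', h4, h6⟩ := Groth.Agent.H4.KosLow.lowData_koszul l
  let ι : sg0 (ModuleCat.of A A) ⟶ K :=
    HomologicalComplex.mkHomFromSingle (ModuleCat.ofHom υ) (by
      intro k hk
      obtain rfl : 0 + 1 = k := hk
      exact (hK (0 + 1) (by norm_num)).eq_of_tgt _ _)
  let ε : K ⟶ sg0 (ModuleCat.of A (A ⧸ Ideal.span {x | x ∈ l})) :=
    HomologicalComplex.mkHomToSingle
      (ModuleCat.ofHom ((Submodule.mkQ (Ideal.span {x | x ∈ l})).comp ρ)) (by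
      intro i hi
      obtain rfl : i = -1 := by
        have : i + 1 = 0 := hi
        omega
      ext z
      change Submodule.mkQ (Ideal.span {x | x ∈ l}) (ρ ((K.d (-1) 0).hom z)) = 0
      have hz : z = s (r z) := (h2 z).symm
      have hd' : (K.d (-1) 0).hom z = υ (∑ i, r z i * l.get i) := by
        conv_lhs => rw [hz]
        exact h4 (r z)
      rw [hd', h3, Submodule.mkQ_apply, Submodule.Quotient.mk_eq_zero]
      refine Submodule.sum_mem _ (fun i _ => ?_)
      exact Ideal.mul_mem_left _ _ (Ideal.subset_span (List.get_mem l i)))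
  refine ⟨ι, ε, ?_⟩
  apply HomologicalComplex.from_single_hom_ext
  rw [HomologicalComplex.comp_f, HomologicalComplex.single_map_f_self,
    HomologicalComplex.mkHomFromSingle_f, HomologicalComplex.mkHomToSingle_f]
  simp only [assoc]
  congr 1
  rw [← assoc]
  congr 1
  apply ModuleCat.hom_ext
  apply LinearMap.ext
  intro x
  change Submodule.mkQ _ (ρ (υ x)) = Submodule.mkQ _ x
  rw [h3]

end Groth.Agent.H4.ARK2
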