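import Mathlib
import Groth.Prelude
import Groth.Agent.Lib.Helper1.TorKos2
import Groth.Agent.Lib.Helper3.PerfAux
import Groth.Agent.H4.KE3
import Groth.Agent.H4.KosLow
import Groth.Agent.H4.KosPerf
import Groth.Agent.H4.TC3
import Groth.Agent.H4.TC4
import Groth.Agent.H4.TC6

set_option autoImplicit false
universe u
attribute [local instance] HasDerivedCategory.standard
open CategoryTheory Category Limits HomologicalComplex CochainComplex.HomComplex CochainComplex
  MonoidalCategory

namespace Groth.Agent.H4.TorKosz2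

open CohIII Groth.Agent.Lib.Helper1.TorKos Groth.Agent.H4.KosLow Groth.Agent.H4.TC1
  Groth.Agent.H4.TC2 Groth.Agent.H4.TC3 Groth.Agent.H4.TC4

variable {A : Type u} [CommRing A]

lemma isKProjective_koszul (l : List A) : (Koszul.koszul A l).IsKProjective := by
  haveI : (Koszul.koszul A l).IsStrictlyLE 0 := by
    rw [CochainComplex.isStrictlyLE_iff]
    intro i hi
    exact (lowData_koszul l).1 i hi
  haveI : ∀ n, Projective ((Koszul.koszul A l).X n) := fun n => by
    rw [koszul_eq]
    exact projective_koszulCx_X l n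
  exact CochainComplex.isKProjective_of_projective _ 0

lemma kflat_koszul (h : List A) : KFlat (Koszul.koszul A h) := by
  refine Groth.Agent.H4.TC6.kflat_of_boundedAbove _ 0 (fun i hi => (lowData_koszul h).1 i hi)
    (fun i => ?_)
  have hp : Projective ((Koszul.koszul A h).X i) := by
    rw [koszul_eq]
    exact projective_koszulCx_X h i
  haveI : Module.Projective A ((Koszul.koszul A h).X i) :=
    (IsProjective.iff_projective (R := A) (P := (Koszul.koszul A h).X i)).mpr hp
  infer_instance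

/-- the augmentation of the Koszul complex of a Koszul-regular sequence. -/
lemma exists_quasiIso_aug (l : List A) (hl : LCI.IsKoszulRegularSeq A l) :
    ∃ ε : Koszul.koszul A l ⟶ (HomologicalComplex.single (ModuleCat.{u} A) (ComplexShape.up ℤ) 0).obj
      (ModuleCat.of A (A ⧸ Ideal.span {x | x ∈ l})), QuasiIso ε := by
  obtain ⟨e⟩ := Groth.Agent.H4.KosPerf.nonempty_koszul_iso l hl
  haveI := isKProjective_koszul l
  let j := (DerivedCategory.singleFunctorIsoCompQ (ModuleCat.{u} A) 0).app
    (ModuleCat.of A (A ⧸ Ideal.span {x | x ∈ l}))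
  obtain ⟨ε, hε⟩ := Groth.Agent.H3.PerfAux.exists_map_of_isKProjective (Koszul.koszul A l)
    ((HomologicalComplex.single (ModuleCat.{u} A) (ComplexShape.up ℤ) 0).obj
      (ModuleCat.of A (A ⧸ Ideal.span {x | x ∈ l}))) (e.hom ≫ j.hom)
  refine ⟨ε, ?_⟩
  rw [← DerivedCategory.isIso_Q_map_iff_quasiIso, hε]
  infer_instance

lemma smul_id_whiskerLeft (a : A) (L K : Cx A) : L ◁ (a • 𝟙 K) = a • 𝟙 (L ⊗ K) := by
  refine HomologicalComplex.hom_ext _ _ (fun n => ?_)
  refine mapBifunctor.hom_ext (fun p q hpq => ?_)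
  change ιMapBifunctor _ _ _ _ p q n hpq ≫ (mapBifunctorMap (𝟙 L) (a • 𝟙 K) _ _).f n = _
  rw [ι_mapBifunctorMap]
  simp only [Linear.smul_comp, Linear.comp_smul, id_f, curriedTensor_obj_obj, curriedTensor_map_app,
    curriedTensor_obj_map, MonoidalLinear.whiskerLeft_smul, smul_f_apply]
  simp
  exact (congrArg (a • ·) (Category.comp_id _)).symm

/-- `M[0] ⊗ K(h) ≅ K(h; M)`. -/
noncomputable def singleTensorKoszul (M : ModuleCat.{u} A) : ∀ h : List A,
    (((HomologicalComplex.single (ModuleCat.{u} A) (ComplexShape.up ℤ) 0).obj M : Cx A) ⊗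
      Koszul.koszul A h : Cx A) ≅ koszulCx M h
  | [] => ρ_ _
  | a :: h =>
      coneTensorLeft _ (a • 𝟙 (Koszul.koszul A h)) ≪≫
        Groth.Agent.H4.KE3.coneIso _ _ (singleTensorKoszul M h) (singleTensorKoszul M h) (by
          rw [smul_id_whiskerLeft]
          simp)

theorem isZero_homology_koszulCx_quot (l h : List A) (hl : LCI.IsKoszulRegularSeq A l)
    (hlh : LCI.IsKoszulRegularSeq A (l ++ h)) (k : ℤ) (hk : k ≠ 0) :
    IsZero ((koszulCx (ModuleCat.of A (A ⧸ Ideal.span {x | x ∈ l})) h).homology k) := by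
  obtain ⟨ε, hε⟩ := exists_quasiIso_aug l hl
  haveI hq : QuasiIso (ε ▷ Koszul.koszul A h) := quasiIso_whiskerRight (kflat_koszul h) ε hε
  let e1 := isoOfQuasiIsoAt (ε ▷ Koszul.koszul A h) k
  let e2 := (HomologicalComplex.homologyFunctor _ _ k).mapIso (koszulTensorIso l h)
  let e3 := (HomologicalComplex.homologyFunctor _ _ k).mapIso
    (singleTensorKoszul (ModuleCat.of A (A ⧸ Ideal.span {x | x ∈ l})) h)
  exact (hlh k hk).of_iso (e3.symm ≪≫ e1.symm ≪≫ e2)

end Groth.Agent.H4.TorKosz2
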