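import Mathlib
import Groth.Prelude
import Groth.Agent.H4.ARK1
import Groth.Agent.H4.ARK2
import Groth.Agent.H4.HC6
import Groth.Agent.H4.KI7
import Groth.Agent.H4.LK4
import Groth.Agent.H4.TorKosz2

/-!
# `I^n M ⟶ M` factors through `I ⊗^L M ⟶ M`
-/

set_option autoImplicit false
universe u
open CategoryTheory Category Limits HomologicalComplex MonoidalCategory CochainComplex Pretriangulated
attribute [local instance] HasDerivedCategory.standard

namespace Groth.Agent.H4.ARK3

open DTen DerivedCategory Groth.Agent.H4.SG3 Groth.Agent.H4.SG1 Groth.Agent.H4.ARK1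
  Groth.Agent.H4.ARK2 Groth.Agent.H4.EV5

variable {A : Type u} [CommRing A]

theorem main [IsNoetherianRing A] [DTen.HasLTen A] (I : Ideal A) (M : Type u) [AddCommGroup M]
    [Module A M] [Module.Finite A M] :
    ∃ (n : ℕ) (_ : 0 < n)
      (g : DerivedCategory.Q.obj ((HomologicalComplex.single (ModuleCat.{u} A) (ComplexShape.up ℤ) 0).obj
              (ModuleCat.of A ↥(I ^ n • (⊤ : Submodule A M)))) ⟶
            (DTen.LTen₂ A).obj (DerivedCategory.Q.obj ((HomologicalComplex.single (ModuleCat.{u} A) (ComplexShape.up ℤ) 0).obj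
              (ModuleCat.of A ↥I)),
              DerivedCategory.Q.obj ((HomologicalComplex.single (ModuleCat.{u} A) (ComplexShape.up ℤ) 0).obj
              (ModuleCat.of A M)))),
      g ≫ (DTen.LTen₂ A).map (Prod.mkHom
              (DerivedCategory.Q.map ((HomologicalComplex.single (ModuleCat.{u} A) (ComplexShape.up ℤ) 0).map
                (ModuleCat.ofHom I.subtype)))
              (𝟙 _)) ≫
          (DTen.unitL A).app (DerivedCategory.Q.obj ((HomologicalComplex.single (ModuleCat.{u} A) (ComplexShape.up ℤ) 0).obj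
              (ModuleCat.of A M))) =
        DerivedCategory.Q.map ((HomologicalComplex.single (ModuleCat.{u} A) (ComplexShape.up ℤ) 0).map
          (ModuleCat.ofHom (I ^ n • (⊤ : Submodule A M)).subtype)) := by
  classical
  obtain ⟨l, rfl⟩ : ∃ l : List A, Ideal.span {x | x ∈ l} = I := by
    obtain ⟨s, hs⟩ := (isNoetherian_def.mp (inferInstance : IsNoetherian A A)) I
    refine ⟨s.toList, ?_⟩
    rw [← hs]
    congr 1
    ext x
    simp
  set J : Ideal A := Ideal.span {x | x ∈ l} with hJ
  let M' : ModuleCat.{u} A := ModuleCat.of A M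
  let sgM : CochainComplex (ModuleCat.{u} A) ℤ := sg0 M'
  let K : CochainComplex (ModuleCat.{u} A) ℤ := Koszul.koszul A l
  obtain ⟨ι, aug, hιaug⟩ := exists_unit_aug l
  let C' : CochainComplex (ModuleCat.{u} A) ℤ := (GCt M').obj K
  let θ : C' ≅ K ⊗ sgM := (GCtIso M').app K
  haveI : ∀ i, Module.Finite A (C'.X i) := fun i => by
    haveI := finite_koszul_X l i
    exact finite_GCt_X M K i
  have hpos : ∀ i : ℤ, 0 < i → IsZero (C'.X i) := fun i hi =>
    isZero_GCt_X M' K i (isZero_koszul_X_of_pos l i hi)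
  have hneg : ∀ i : ℤ, i < -(l.length : ℤ) → IsZero (C'.X i) := fun i hi =>
    isZero_GCt_X M' K i (isZero_koszul_X_of_lt l i hi)
  have htor : ∀ (i : ℤ) (a : A), a ∈ J → ∀ y : C'.homology i, a • y = 0 :=
    fun i a ha y => smul_homology_GCt M' l a ha i y
  let ι' : 𝟙_ (CochainComplex (ModuleCat.{u} A) ℤ) ⟶ K := ι
  let φ : sgM ⟶ K ⊗ sgM := (λ_ sgM).inv ≫ (ι' ▷ sgM)
  obtain ⟨n, hn, hzero⟩ := AR J C' hpos l.length hneg htor M (φ ≫ θ.inv)
  have hzero' : Q.map ((HomologicalComplex.single (ModuleCat.{u} A) (ComplexShape.up ℤ) 0).map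
      (ModuleCat.ofHom (J ^ n • (⊤ : Submodule A M)).subtype) ≫ φ) = 0 := by
    have := congrArg (fun t => t ≫ Q.map θ.hom) hzero
    simp only [zero_comp, ← Functor.map_comp, assoc, Iso.inv_hom_id, comp_id] at this
    exact this
  refine ⟨n, hn, ?_⟩
  set L : Dual.D A := Q.obj sgM with hL
  haveI := Groth.Agent.H4.KI7.isIso_unitL_app L
  let incl : Q.obj ((HomologicalComplex.single (ModuleCat.{u} A) (ComplexShape.up ℤ) 0).obj
      (ModuleCat.of A ↥(J ^ n • (⊤ : Submodule A M)))) ⟶ L :=
    Q.map ((HomologicalComplex.single (ModuleCat.{u} A) (ComplexShape.up ℤ) 0).map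
      (ModuleCat.ofHom (J ^ n • (⊤ : Submodule A M)).subtype))
  let x : Q.obj ((HomologicalComplex.single (ModuleCat.{u} A) (ComplexShape.up ℤ) 0).obj
      (ModuleCat.of A ↥(J ^ n • (⊤ : Submodule A M)))) ⟶ (tensorRightD A L).obj (unit A) :=
    incl ≫ inv ((unitL A).app L)
  -- the short exact sequence
  let S : ShortComplex (ModuleCat.{u} A) :=
    ShortComplex.mk (ModuleCat.ofHom J.subtype) (ModuleCat.ofHom (Submodule.mkQ J)) (by
      ext x
      exact (Submodule.Quotient.mk_eq_zero J).mpr x.2)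
  have hS : S.ShortExact := by
    haveI : Mono S.f := (ModuleCat.mono_iff_injective _).mpr Subtype.val_injective
    haveI : Epi S.g := (ModuleCat.epi_iff_surjective _).mpr (Submodule.mkQ_surjective _)
    refine { exact := ?_ }
    rw [ShortComplex.moduleCat_exact_iff]
    intro (y : A) hy
    have : y ∈ J := (Submodule.Quotient.mk_eq_zero J).mp hy
    exact ⟨⟨y, this⟩, rfl⟩
  obtain ⟨w, hw⟩ := Groth.Agent.H4.HC6.cpl_tensorRightD L hS.singleTriangle
    hS.singleTriangle_distinguished
  -- K-flatness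
  haveI hεK : IsIso ((ε A).app (K, sgM)) :=
    Groth.Agent.H4.LK4.isIso_ε_of_kflat K sgM (Or.inl (Groth.Agent.H4.TorKosz2.kflat_koszul l))
  have hε : (ε A).app (𝟙_ (CochainComplex (ModuleCat.{u} A) ℤ), sgM) =
      (unitL A).app L ≫ Q.map (λ_ sgM).inv := by
    rw [unitL_app, assoc, ← CategoryTheory.Functor.map_comp, Iso.hom_inv_id,
      CategoryTheory.Functor.map_id]
    exact (comp_id _).symm
  have hxι : x ≫ (tensorRightD A L).map (Q.map ι') = 0 := by
    rw [← cancel_mono ((ε A).app (K, sgM)), zero_comp]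
    have e := (ε A).naturality (Prod.mkHom ι' (𝟙 sgM))
    dsimp at e
    simp only [MonoidalCategory.whiskerLeft_id, Category.comp_id] at e
    have e' : (tensorRightD A L).map (Q.map ι') ≫ (ε A).app (K, sgM) =
        (ε A).app (𝟙_ (CochainComplex (ModuleCat.{u} A) ℤ), sgM) ≫ Q.map (ι' ▷ sgM) := by
      rw [← e]
      congr 1
      change (LTen₂ A).map (Prod.mkHom (Q.map ι') (𝟙 L)) = _
      rw [show 𝟙 L = Q.map (𝟙 sgM) from (Q.map_id sgM).symm]
    rw [assoc, e', hε]
    change (incl ≫ inv ((unitL A).app L)) ≫ _ = 0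
    simp only [assoc, IsIso.inv_hom_id_assoc]
    rw [← CategoryTheory.Functor.map_comp, ← CategoryTheory.Functor.map_comp]
    exact hzero'
  have hx : x ≫ (tensorRightD A L).map hS.singleTriangle.mor₂ = 0 := by
    have h1 : hS.singleTriangle.mor₂ = Q.map ι' ≫ Q.map aug := by
      rw [← Functor.map_comp]
      change Q.map ((HomologicalComplex.single (ModuleCat.{u} A) (ComplexShape.up ℤ) 0).map
        (ModuleCat.ofHom (Submodule.mkQ J))) = _
      rw [← hιaug]
    have h2 : (tensorRightD A L).map hS.singleTriangle.mor₂ =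
        (tensorRightD A L).map (Q.map ι') ≫ (tensorRightD A L).map (Q.map aug) := by
      rw [← CategoryTheory.Functor.map_comp]
      exact congrArg (tensorRightD A L).map h1
    calc x ≫ (tensorRightD A L).map hS.singleTriangle.mor₂
        = x ≫ ((tensorRightD A L).map (Q.map ι') ≫ (tensorRightD A L).map (Q.map aug)) :=
          congrArg (x ≫ ·) h2
      _ = (x ≫ (tensorRightD A L).map (Q.map ι')) ≫ (tensorRightD A L).map (Q.map aug) :=
          (assoc _ _ _).symm
      _ = 0 := by rw [hxι, zero_comp]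
  obtain ⟨g, hg⟩ := Triangle.coyoneda_exact₂ _ hw x hx
  refine ⟨g, ?_⟩
  have h1 : g ≫ (DTen.LTen₂ A).map (Prod.mkHom
      (DerivedCategory.Q.map ((HomologicalComplex.single (ModuleCat.{u} A) (ComplexShape.up ℤ) 0).map
        (ModuleCat.ofHom J.subtype))) (𝟙 L)) = x := hg.symm
  rw [← assoc]
  erw [h1]
  change (incl ≫ inv ((unitL A).app L)) ≫ (unitL A).app L = incl
  rw [assoc, IsIso.inv_hom_id, comp_id]

end Groth.Agent.H4.ARK3
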