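import Mathlib
import Groth.Prelude
import Groth.Agent.H4.ARK1

/-!
# Artin–Rees acyclic subcomplexes, general bounds; quotients by acyclic subcomplexes
-/

set_option autoImplicit false
universe u
open CategoryTheory Category Limits HomologicalComplex
attribute [local instance] HasDerivedCategory.standard

namespace Groth.Agent.H4.ARP1

open Groth.Agent.H4.ARK1

variable {A : Type u} [CommRing A]

lemma exists_K' [IsNoetherianRing A] (C : CochainComplex (ModuleCat.{u} A) ℤ) (I : Ideal A)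
    (htor : ∀ (i : ℤ) (a : A), a ∈ I → ∀ y : C.homology i, a • y = 0)
    [∀ i, Module.Finite A (C.X i)] (lo hi : ℤ)
    (hz : ∀ i : ℤ, (i < lo ∨ hi < i) → IsZero (C.X i)) :
    ∃ K : ℕ, ∀ (i : ℤ) (m : ℕ) (z : C.X (i + 1)),
      z ∈ (I ^ (m + K) • ⊤ : Submodule A (C.X (i + 1))) →
      C.d (i + 1) (i + 1 + 1) z = 0 →
      ∃ y ∈ (I ^ m • ⊤ : Submodule A (C.X i)), C.d i (i + 1) y = z := by
  choose Kf hKf using fun i : ℤ => exists_K_deg C I htor i
  refine ⟨∑ j ∈ Finset.range ((hi - lo).toNat + 1), Kf (lo + (j : ℤ) - 1), fun i m z hz' hdz => ?_⟩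
  by_cases hi' : i + 1 < lo ∨ hi < i + 1
  · have hz0 : IsZero (C.X (i + 1)) := hz _ hi'
    have := ModuleCat.subsingleton_of_isZero hz0
    refine ⟨0, Submodule.zero_mem _, ?_⟩
    rw [map_zero]
    exact Subsingleton.elim _ _
  · push Not at hi'
    obtain ⟨hi1, hi2⟩ := hi'
    set j : ℕ := (i + 1 - lo).toNat with hj
    have hij : i = lo + (j : ℤ) - 1 := by omega
    have hjN : j ∈ Finset.range ((hi - lo).toNat + 1) := Finset.mem_range.mpr (by omega)
    have hle : Kf i ≤ ∑ j ∈ Finset.range ((hi - lo).toNat + 1), Kf (lo + (j : ℤ) - 1) := by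
      have := Finset.single_le_sum (f := fun j : ℕ => Kf (lo + (j : ℤ) - 1))
        (fun _ _ => Nat.zero_le _) hjN
      rwa [← hij] at this
    set K := ∑ j ∈ Finset.range ((hi - lo).toNat + 1), Kf (lo + (j : ℤ) - 1) with hKdef
    have hz'' : z ∈ (I ^ ((m + K - Kf i) + Kf i) • ⊤ : Submodule A (C.X (i + 1))) := by
      rwa [show m + K - Kf i + Kf i = m + K by omega]
    obtain ⟨y, hy, hyz⟩ := hKf i (m + K - Kf i) z hz'' hdz
    refine ⟨y, ?_, hyz⟩
    exact Submodule.smul_mono_left (Ideal.pow_le_pow_right (by omega)) hy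

section sub

variable (C : CochainComplex (ModuleCat.{u} A) ℤ) (I : Ideal A) (a : ℤ → ℕ)

lemma R_exactAt' (K : ℕ) (lo hi : ℤ)
    (hK : ∀ (i : ℤ) (m : ℕ) (z : C.X (i + 1)),
      z ∈ (I ^ (m + K) • ⊤ : Submodule A (C.X (i + 1))) →
      C.d (i + 1) (i + 1 + 1) z = 0 →
      ∃ y ∈ (I ^ m • ⊤ : Submodule A (C.X i)), C.d i (i + 1) y = z)
    (hz : ∀ i : ℤ, (i < lo ∨ hi < i) → IsZero (C.X i))
    (ha : ∀ i : ℤ, lo ≤ i + 1 → i + 1 ≤ hi → a (i + 1) = a i + K) (i : ℤ) :
    (R C I a).ExactAt (i + 1) := by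
  rw [HomologicalComplex.exactAt_iff' _ i (i + 1) (i + 1 + 1) (by simp) (by simp),
    ShortComplex.moduleCat_exact_iff]
  intro (x : S C I a (i + 1)) hx
  have hx0 : (C.d (i + 1) (i + 1 + 1)).hom x.1 = 0 := by
    have h1 : ((R C I a).d (i + 1) (i + 1 + 1)).hom x = 0 := hx
    rw [R_d] at h1
    exact congrArg Subtype.val h1
  by_cases hi' : i + 1 < lo ∨ hi < i + 1
  · have hz0 : IsZero (C.X (i + 1)) := hz _ hi'
    have := ModuleCat.subsingleton_of_isZero hz0
    refine ⟨(0 : S C I a i), ?_⟩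
    apply Subtype.ext
    exact Subsingleton.elim _ _
  · push Not at hi'
    obtain ⟨hi1, hi2⟩ := hi'
    have hx1 : x.1 ∈ (I ^ (a i + K) • ⊤ : Submodule A (C.X (i + 1))) := by
      rw [← ha i hi1 hi2]
      exact x.2.1
    obtain ⟨y, hy, hyx⟩ := hK i (a i) x.1 hx1 hx0
    have hyS : y ∈ S C I a i := by
      refine ⟨hy, Submodule.mem_comap.mpr ?_⟩
      have : (C.d i (i + 1)).hom y = x.1 := hyx
      rw [this]
      exact x.2.1
    refine ⟨(⟨y, hyS⟩ : S C I a i), ?_⟩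
    change ((R C I a).d i (i + 1)).hom (⟨y, hyS⟩ : S C I a i) = x
    rw [R_d]
    apply Subtype.ext
    exact hyx

lemma R_acyclic (K : ℕ) (lo hi : ℤ)
    (hK : ∀ (i : ℤ) (m : ℕ) (z : C.X (i + 1)),
      z ∈ (I ^ (m + K) • ⊤ : Submodule A (C.X (i + 1))) →
      C.d (i + 1) (i + 1 + 1) z = 0 →
      ∃ y ∈ (I ^ m • ⊤ : Submodule A (C.X i)), C.d i (i + 1) y = z)
    (hz : ∀ i : ℤ, (i < lo ∨ hi < i) → IsZero (C.X i))
    (ha : ∀ i : ℤ, lo ≤ i + 1 → i + 1 ≤ hi → a (i + 1) = a i + K) :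
    (R C I a).Acyclic := by
  intro k
  have := R_exactAt' C I a K lo hi hK hz ha (k - 1)
  rwa [sub_add_cancel] at this

instance mono_jR : Mono (jR C I a) := by
  have h : ∀ i, Mono ((jR C I a).f i) := fun i =>
    (ModuleCat.mono_iff_injective _).mpr Subtype.val_injective
  exact HomologicalComplex.mono_of_mono_f (jR C I a) h

/-- the quotient map by an acyclic subcomplex is inverted by `Q`. -/
lemma isIso_Q_map_cokernel_π (h : (R C I a).Acyclic) :
    IsIso (DerivedCategory.Q.map (cokernel.π (jR C I a))) := by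
  let Sc : ShortComplex (CochainComplex (ModuleCat.{u} A) ℤ) :=
    ShortComplex.mk (jR C I a) (cokernel.π (jR C I a)) (cokernel.condition _)
  have hS : Sc.ShortExact := { exact := ShortComplex.exact_cokernel (jR C I a) }
  have hT := DerivedCategory.triangleOfSES_distinguished hS
  have hzero : IsZero (DerivedCategory.Q.obj (R C I a)) :=
    (Groth.Agent.H4.GM1.acyclic_iff_isZero_Q _).mp h
  exact (Pretriangulated.Triangle.isZero₁_iff_isIso₂ _ hT).mp hzero

/-- membership: elements of the subcomplex lie in `I ^ a i • ⊤`. -/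
lemma jR_mem (i : ℤ) (x : (R C I a).X i) :
    ((jR C I a).f i).hom x ∈ (I ^ (a i) • ⊤ : Submodule A (C.X i)) := by
  have hx : ((jR C I a).f i).hom x ∈ S C I a i := (x : S C I a i).2
  exact hx.1

/-- elements of `I^e • ⊤` with differential in `I^e • ⊤` lie in the subcomplex when `a ≤ e`. -/
lemma exists_jR_eq (i : ℤ) (e : ℕ) (h1 : a i ≤ e) (h2 : a (i + 1) ≤ e) (z : C.X i)
    (hz1 : z ∈ (I ^ e • ⊤ : Submodule A (C.X i)))
    (hz2 : (C.d i (i + 1)).hom z ∈ (I ^ e • ⊤ : Submodule A (C.X (i + 1)))) :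
    ∃ x : (R C I a).X i, ((jR C I a).f i).hom x = z := by
  have hzS : z ∈ S C I a i :=
    ⟨Submodule.smul_mono_left (Ideal.pow_le_pow_right h1) hz1,
      Submodule.mem_comap.mpr (Submodule.smul_mono_left (Ideal.pow_le_pow_right h2) hz2)⟩
  exact ⟨(⟨z, hzS⟩ : S C I a i), rfl⟩

end sub

end Groth.Agent.H4.ARP1
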