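import Mathlib
import Groth.Prelude
import Groth.Agent.H4.ARK2
import Groth.Agent.H4.TorKosz2
import Groth.Agent.H4.HC1

/-!
# Koszul complexes with coefficients in a complex; `tensorLeft K` is a left adjoint
-/

set_option autoImplicit false
universe u
open CategoryTheory Category Limits HomologicalComplex MonoidalCategory CochainComplex
attribute [local instance] HasDerivedCategory.standard

namespace Groth.Agent.H4.ARP2

open Groth.Agent.H4.TC3 Groth.Agent.H4.TorKosz2 Groth.Agent.H4.ARK2

variable {A : Type u} [CommRing A]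

/-- the Koszul complex with coefficients in a complex -/
noncomputable def KK (K : CochainComplex (ModuleCat.{u} A) ℤ) :
    List A → CochainComplex (ModuleCat.{u} A) ℤ
  | [] => K
  | f :: l => mappingCone (f • 𝟙 (KK K l))

lemma finite_KK_X (K : CochainComplex (ModuleCat.{u} A) ℤ) [∀ i, Module.Finite A (K.X i)]
    (l : List A) : ∀ n : ℤ, Module.Finite A ((KK K l).X n) := by
  induction l with
  | nil => intro n; exact inferInstanceAs (Module.Finite A (K.X n))
  | cons f l ih =>
    intro n
    have e : (mappingCone (f • 𝟙 (KK K l))).X n ≅ _ :=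
      HomologicalComplex.homotopyCofiber.XIsoBiprod (f • 𝟙 (KK K l)) n (n + 1) rfl
    haveI := ih (n + 1)
    haveI := ih n
    haveI := finite_biprod ((KK K l).X (n + 1)) ((KK K l).X n)
    exact Module.Finite.equiv e.toLinearEquiv.symm

lemma isZero_KK_X (K : CochainComplex (ModuleCat.{u} A) ℤ) (lo hi : ℤ)
    (hz : ∀ i : ℤ, (i < lo ∨ hi < i) → IsZero (K.X i)) (l : List A) :
    ∀ i : ℤ, (i < lo - (l.length : ℤ) ∨ hi < i) → IsZero ((KK K l).X i) := by
  induction l with
  | nil =>
    intro i hi'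
    exact hz i (by simpa using hi')
  | cons f l ih =>
    intro i hi'
    change IsZero ((mappingCone (f • 𝟙 (KK K l))).X i)
    rw [mappingCone.isZero_X_iff]
    simp only [List.length_cons, Nat.cast_add, Nat.cast_one] at hi'
    exact ⟨ih (i + 1) (by omega), ih i (by omega)⟩

lemma nonempty_homotopy_KK_of_mem (K : CochainComplex (ModuleCat.{u} A) ℤ) (xs : List A) (x : A)
    (hx : x ∈ xs) : Nonempty (Homotopy (x • 𝟙 (KK K xs)) 0) := by
  induction xs with
  | nil => simp at hx
  | cons f fs ih =>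
    rcases List.mem_cons.mp hx with rfl | hx'
    · exact ⟨Groth.Agent.H2.Kos.homotopyHead (KK K fs) x⟩
    · obtain ⟨h⟩ := ih hx'
      exact ⟨Groth.Agent.H2.Kos.homotopyTail (KK K fs) f x h⟩

lemma smul_homology_KK (K : CochainComplex (ModuleCat.{u} A) ℤ) (l : List A) (a : A)
    (ha : a ∈ Ideal.span {x | x ∈ l}) (i : ℤ) (y : (KK K l).homology i) : a • y = 0 :=
  Groth.Agent.H4.KE4.smul_homology_eq_zero_of_homotopy _ a
    (Groth.Agent.H2.Kos.nonempty_homotopy_of_mem_span (KK K l) {x | x ∈ l}
      (fun x hx => nonempty_homotopy_KK_of_mem K l x hx) a ha) i y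

lemma smul_homology_koszul (l : List A) (a : A)
    (ha : a ∈ Ideal.span {x | x ∈ l}) (i : ℤ) (y : (Koszul.koszul A l).homology i) : a • y = 0 :=
  Groth.Agent.H4.KE4.smul_homology_eq_zero_of_homotopy _ a (nonempty_homotopy_koszul l a ha) i y

/-- `K ⊗ K(h) ≅ K(h; K)`. -/
noncomputable def tensorKoszulIso (K : CochainComplex (ModuleCat.{u} A) ℤ) : ∀ h : List A,
    (K ⊗ Koszul.koszul A h : CochainComplex (ModuleCat.{u} A) ℤ) ≅ KK K h
  | [] => ρ_ _
  | a :: h =>
      coneTensorLeft _ (a • 𝟙 (Koszul.koszul A h)) ≪≫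
        Groth.Agent.H4.KE3.coneIso _ _ (tensorKoszulIso K h) (tensorKoszulIso K h) (by
          rw [smul_id_whiskerLeft]
          simp)

/-- `tensorLeft K ≅ tensorRight K` via the braiding of complexes. -/
noncomputable def tensorLeftIso (K : CochainComplex (ModuleCat.{u} A) ℤ) :
    tensorLeft K ≅ tensorRight K :=
  NatIso.ofComponents (fun Y => DTen.braidCx K Y) (fun {Y Y'} g => by
    have h := DTen.braidCx_naturality (𝟙 K) g
    rw [MonoidalCategory.id_tensorHom, MonoidalCategory.tensorHom_id] at h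
    exact h)

/-- `tensorLeft K` is a left adjoint. -/
lemma isLeftAdjoint_tensorLeft (K : CochainComplex (ModuleCat.{u} A) ℤ) :
    (tensorLeft K).IsLeftAdjoint :=
  ⟨_, ⟨(Groth.Agent.H4.HC1.tensorHomAdj K).ofNatIsoLeft (tensorLeftIso K).symm⟩⟩

end Groth.Agent.H4.ARP2
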