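import Mathlib
import Groth.Prelude
import Groth.Agent.H4.ARP1
import Groth.Agent.H4.ARP2

/-!
# Chain-level lemmas on the Artin–Rees subcomplexes: killing, lifting, tensoring
-/

set_option autoImplicit false
universe u
open CategoryTheory Category Limits HomologicalComplex MonoidalCategory CochainComplex
attribute [local instance] HasDerivedCategory.standard

namespace Groth.Agent.H4.ARP3

open Groth.Agent.H4.TC3 Groth.Agent.H4.TorKosz2 Groth.Agent.H4.ARK1 Groth.Agent.H4.ARP1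
  Groth.Agent.H4.SG1

variable {A : Type u} [CommRing A]

/-- a complex killed by an ideal -/
def Killed (J : Ideal A) (W : CochainComplex (ModuleCat.{u} A) ℤ) : Prop := ∀ a ∈ J, a • 𝟙 W = 0

lemma killed_apply {J : Ideal A} {W : CochainComplex (ModuleCat.{u} A) ℤ} (h : Killed J W)
    (a : A) (ha : a ∈ J) (i : ℤ) (w : W.X i) : a • w = 0 := by
  have h1 : ((a • 𝟙 W : W ⟶ W).f i).hom w = a • w := by
    rw [HomologicalComplex.smul_f_apply, HomologicalComplex.id_f]
    rfl
  rw [← h1, h a ha]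
  rfl

lemma killed_single (J : Ideal A) (M : ModuleCat.{u} A) (h : ∀ a ∈ J, ∀ x : M, a • x = 0) :
    Killed J (sg0 M) := by
  intro a ha
  apply HomologicalComplex.from_single_hom_ext
  apply ModuleCat.hom_ext
  apply LinearMap.ext
  intro x
  change a • x = 0
  have e := (HomologicalComplex.singleObjXSelf (ComplexShape.up ℤ) 0 M).toLinearEquiv
  have h1 : e (a • x) = 0 := by rw [map_smul, h a ha]
  exact e.injective (h1.trans (map_zero e).symm)

lemma killed_whiskerLeft (J : Ideal A) (K W : CochainComplex (ModuleCat.{u} A) ℤ)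
    (h : Killed J W) : Killed J (K ⊗ W) := by
  intro a ha
  rw [← smul_id_whiskerLeft, h a ha, ← zero_smul A (𝟙 W), smul_id_whiskerLeft, zero_smul]

section sub

variable (C : CochainComplex (ModuleCat.{u} A) ℤ) (J : Ideal A) (a : ℤ → ℕ)

lemma jR_comp_eq_zero (ha : ∀ i, 1 ≤ a i) (W : CochainComplex (ModuleCat.{u} A) ℤ)
    (hW : Killed J W) (g : C ⟶ W) : jR C J a ≫ g = 0 := by
  refine HomologicalComplex.hom_ext _ _ (fun i => ?_)
  apply ModuleCat.hom_ext
  apply LinearMap.ext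
  intro r
  change (g.f i).hom (((jR C J a).f i).hom r) = 0
  have hr := jR_mem C J a i r
  refine Submodule.smul_induction_on hr (fun c hc x _ => ?_) (fun x y hx hy => ?_)
  · rw [map_smul]
    exact killed_apply hW c (Ideal.pow_le_self (by have := ha i; omega) hc) i _
  · rw [map_add, hx, hy, add_zero]

lemma cokernel_condition_apply (i : ℤ) (x : (R C J a).X i) :
    ((cokernel.π (jR C J a)).f i).hom (((jR C J a).f i).hom x) = 0 := by
  have := congrArg (fun f : R C J a ⟶ cokernel (jR C J a) => (f.f i).hom x)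
    (cokernel.condition (jR C J a))
  exact this

/-- lifting a map from a module in degree `0` to the quotient of the subcomplex -/
lemma exists_y (M : Type u) [AddCommGroup M] [Module A M] (N : Submodule A M)
    (φ : sg0 (ModuleCat.of A M) ⟶ C) (e : ℕ) (h1 : a 0 ≤ e) (h2 : a (0 + 1) ≤ e)
    (hN : N ≤ (J ^ e • ⊤ : Submodule A M)) (hC1 : IsZero (C.X (0 + 1))) :
    ∃ y : sg0 (ModuleCat.of A (M ⧸ N)) ⟶ cokernel (jR C J a),
      (HomologicalComplex.single (ModuleCat.{u} A) (ComplexShape.up ℤ) 0).map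
        (ModuleCat.ofHom N.mkQ) ≫ y = φ ≫ cokernel.π (jR C J a) := by
  have hsub : Subsingleton (C.X (0 + 1)) := ModuleCat.subsingleton_of_isZero hC1
  let φ0 : M →ₗ[A] C.X 0 :=
    ((HomologicalComplex.singleObjXSelf (ComplexShape.up ℤ) 0 (ModuleCat.of A M)).inv ≫ φ.f 0).hom
  let g0 : M →ₗ[A] (cokernel (jR C J a)).X 0 :=
    ((HomologicalComplex.singleObjXSelf (ComplexShape.up ℤ) 0 (ModuleCat.of A M)).inv ≫
      (φ ≫ cokernel.π (jR C J a)).f 0).hom
  have hg0 : ∀ x, g0 x = ((cokernel.π (jR C J a)).f 0).hom (φ0 x) := fun x => rfl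
  have hker : N ≤ LinearMap.ker g0 := by
    intro x hx
    have hx1 : φ0 x ∈ (J ^ e • ⊤ : Submodule A (C.X 0)) := by
      have h3 : Submodule.map φ0 (J ^ e • (⊤ : Submodule A M)) ≤ J ^ e • (⊤ : Submodule A (C.X 0)) := by
        rw [Submodule.map_smul'']
        exact Submodule.smul_mono le_rfl le_top
      exact h3 ⟨x, hN hx, rfl⟩
    have hx2 : (C.d 0 (0 + 1)).hom (φ0 x) ∈ (J ^ e • ⊤ : Submodule A (C.X (0 + 1))) := by
      rw [Subsingleton.elim ((C.d 0 (0 + 1)).hom (φ0 x)) 0]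
      exact Submodule.zero_mem _
    obtain ⟨r, hr⟩ := exists_jR_eq C J a 0 e h1 h2 (φ0 x) hx1 hx2
    rw [LinearMap.mem_ker, hg0, ← hr]
    exact cokernel_condition_apply C J a 0 r
  let ybar : (M ⧸ N) →ₗ[A] (cokernel (jR C J a)).X 0 := N.liftQ g0 hker
  have hyb : ModuleCat.ofHom N.mkQ ≫ ModuleCat.ofHom ybar = ModuleCat.ofHom g0 := by
    change ModuleCat.ofHom ((N.liftQ g0 hker).comp N.mkQ) = _
    rw [N.liftQ_mkQ g0 hker]
  haveI : Epi (ModuleCat.ofHom N.mkQ) := (ModuleCat.epi_iff_surjective _).mpr N.mkQ_surjective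
  let y : sg0 (ModuleCat.of A (M ⧸ N)) ⟶ cokernel (jR C J a) :=
    HomologicalComplex.mkHomFromSingle (ModuleCat.ofHom ybar) (by
      intro k hk
      rw [← cancel_epi (ModuleCat.ofHom N.mkQ), ← assoc, hyb, comp_zero]
      change ((HomologicalComplex.singleObjXSelf (ComplexShape.up ℤ) 0 (ModuleCat.of A M)).inv ≫
        (φ ≫ cokernel.π (jR C J a)).f 0) ≫ _ = 0
      rw [assoc, HomologicalComplex.Hom.comm, HomologicalComplex.single_obj_d, zero_comp, comp_zero])
  refine ⟨y, ?_⟩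
  apply HomologicalComplex.from_single_hom_ext
  rw [HomologicalComplex.comp_f, HomologicalComplex.single_map_f_self,
    HomologicalComplex.mkHomFromSingle_f]
  simp only [assoc, Iso.inv_hom_id_assoc]
  rw [hyb]
  change _ ≫ (HomologicalComplex.singleObjXSelf (ComplexShape.up ℤ) 0 (ModuleCat.of A M)).inv ≫
    (φ ≫ cokernel.π (jR C J a)).f 0 = _
  rw [Iso.hom_inv_id_assoc]

end sub

/-- tensoring the inclusion of the subcomplex: the image lies in `J^E`. -/
lemma whisker_jR_mem (K C V : CochainComplex (ModuleCat.{u} A) ℤ) (J : Ideal A) (a : ℤ → ℕ)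
    (E : ℕ) (hE : ∀ q, E ≤ a q) (θ : K ⊗ C ⟶ V) (i : ℤ) (u : (K ⊗ R C J a).X i) :
    (((K ◁ jR C J a) ≫ θ).f i).hom u ∈ (J ^ E • ⊤ : Submodule A (V.X i)) := by
  set T : Submodule A (V.X i) := J ^ E • ⊤ with hT
  have key : ((K ◁ jR C J a) ≫ θ).f i ≫ ModuleCat.ofHom T.mkQ = 0 := by
    apply HomologicalComplex.mapBifunctor.hom_ext
    intro p q hpq
    rw [comp_zero, HomologicalComplex.comp_f, assoc]
    have h : ιTensorObj K (R C J a) p q i hpq ≫ (K ◁ jR C J a).f i =
        (K.X p ◁ (jR C J a).f q) ≫ ιTensorObj K C p q i hpq := by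
      change ιMapBifunctor K (R C J a) (curriedTensor (ModuleCat.{u} A)) (.up ℤ) p q i hpq ≫
        (mapBifunctorMap (𝟙 K) (jR C J a) (curriedTensor (ModuleCat.{u} A)) (.up ℤ)).f i = _
      rw [ι_mapBifunctorMap]
      simp
    change ιTensorObj K (R C J a) p q i hpq ≫ (K ◁ jR C J a).f i ≫ θ.f i ≫ ModuleCat.ofHom T.mkQ = 0
    rw [reassoc_of% h]
    apply ModuleCat.MonoidalCategory.tensor_ext
    intro k r
    rw [ModuleCat.hom_comp, LinearMap.comp_apply, ModuleCat.MonoidalCategory.whiskerLeft_apply]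
    let Λ : C.X q →ₗ[A] V.X i :=
      (ιTensorObj K C p q i hpq ≫ θ.f i).hom.comp (TensorProduct.mk A (K.X p) (C.X q) k)
    have hΛ : Λ (((jR C J a).f q).hom r) ∈ T := by
      have h3 : Submodule.map Λ (J ^ E • (⊤ : Submodule A (C.X q))) ≤ T := by
        rw [Submodule.map_smul'']
        exact Submodule.smul_mono le_rfl le_top
      exact h3 ⟨_, Submodule.smul_mono_left (Ideal.pow_le_pow_right (hE q)) (jR_mem C J a q r), rfl⟩
    have : (ιTensorObj K C p q i hpq ≫ θ.f i ≫ ModuleCat.ofHom T.mkQ).hom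
        (k ⊗ₜ[A] ((jR C J a).f q).hom r) = T.mkQ (Λ (((jR C J a).f q).hom r)) := rfl
    rw [this, Submodule.mkQ_apply, (Submodule.Quotient.mk_eq_zero T).mpr hΛ]
    rfl
  have := congrArg (fun f => f.hom u) key
  exact (Submodule.Quotient.mk_eq_zero T).mp this

lemma whisker_jR_comp_π (K C V : CochainComplex (ModuleCat.{u} A) ℤ) (J : Ideal A)
    (aC aV : ℤ → ℕ) (E : ℕ) (hE1 : ∀ q, E ≤ aC q) (hE2 : ∀ i, aV i ≤ E) (θ : K ⊗ C ⟶ V) :
    (K ◁ jR C J aC) ≫ θ ≫ cokernel.π (jR V J aV) = 0 := by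
  refine HomologicalComplex.hom_ext _ _ (fun i => ?_)
  apply ModuleCat.hom_ext
  apply LinearMap.ext
  intro u
  have hw1 := whisker_jR_mem K C V J aC E hE1 θ i u
  have hw2 : (V.d i (i + 1)).hom ((((K ◁ jR C J aC) ≫ θ).f i).hom u) ∈
      (J ^ E • ⊤ : Submodule A (V.X (i + 1))) := by
    have := whisker_jR_mem K C V J aC E hE1 θ (i + 1) (((K ⊗ R C J aC).d i (i + 1)).hom u)
    have e : (((K ◁ jR C J aC) ≫ θ).f i ≫ V.d i (i + 1)) =
        (K ⊗ R C J aC).d i (i + 1) ≫ ((K ◁ jR C J aC) ≫ θ).f (i + 1) :=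
      HomologicalComplex.Hom.comm _ _ _
    have e' := congrArg (fun f => f.hom u) e
    simp only [ModuleCat.hom_comp, LinearMap.comp_apply] at e'
    rw [e']
    exact this
  obtain ⟨x, hx⟩ := exists_jR_eq V J aV i E (hE2 i) (hE2 (i + 1)) _ hw1 hw2
  change ((cokernel.π (jR V J aV)).f i).hom ((((K ◁ jR C J aC) ≫ θ).f i).hom u) = 0
  rw [← hx]
  exact cokernel_condition_apply V J aV i x

end Groth.Agent.H4.ARP3
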