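import Mathlib
import Groth.Prelude
import Groth.Agent.H4.ARP3
import Groth.Agent.H4.LK4
import Groth.Prelude.Def_ega3

/-!
# `K ⊗^L A/I^n` and `K/I^n K` are pro-isomorphic for bounded complexes of finite modules
-/

set_option autoImplicit false
universe u
open CategoryTheory Category Limits HomologicalComplex MonoidalCategory CochainComplex Opposite
attribute [local instance] HasDerivedCategory.standard

namespace Groth.Agent.H4.ARP4

open DTen DerivedCategory Groth.Agent.H4.TC3 Groth.Agent.H4.TorKosz2 Groth.Agent.H4.ARK1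
  Groth.Agent.H4.ARK2 Groth.Agent.H4.ARP1 Groth.Agent.H4.ARP2 Groth.Agent.H4.ARP3
  Groth.Agent.H4.SG1

variable {A : Type u} [CommRing A]

section adic

variable (m : Ideal A) (M : ModuleCat.{u} A)

/-- the projection `M ⟶ M / m^(n+1) M` (local copy of helper2's `AdicTower.π`). -/
noncomputable def π (n : ℕ) : M ⟶ (CohIII.adicSystem m M).obj (op n) :=
  ModuleCat.ofHom (m ^ (n + 1) • (⊤ : Submodule A M)).mkQ

lemma π_succ (n : ℕ) :
    π m M (n + 1) ≫ (CohIII.adicSystem m M).map (homOfLE (Nat.le_add_right n 1)).op = π m M n := by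
  unfold CohIII.adicSystem
  rw [Functor.ofOpSequence_map_homOfLE_succ]
  rfl

lemma π_map {n k : ℕ} (h : n ≤ k) :
    π m M k ≫ (CohIII.adicSystem m M).map (homOfLE h).op = π m M n := by
  induction k, h using Nat.le_induction with
  | base =>
    have : (homOfLE (le_refl n)).op = 𝟙 (op n : ℕᵒᵖ) := Subsingleton.elim _ _
    rw [this, (CohIII.adicSystem m M).map_id, Category.comp_id]
  | succ k hk ih =>
    have e : (homOfLE (hk.trans (Nat.le_succ k))).op =
        (homOfLE (Nat.le_add_right k 1)).op ≫ (homOfLE hk).op := Subsingleton.elim _ _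
    rw [e, CategoryTheory.Functor.map_comp, ← Category.assoc, π_succ, ih]

lemma smul_adicSystem_eq_zero (n : ℕ) (a : A) (ha : a ∈ m ^ (n + 1))
    (x : (CohIII.adicSystem m M).obj (op n)) : a • x = 0 := by
  obtain ⟨x, rfl⟩ := (m ^ (n + 1) • (⊤ : Submodule A M)).mkQ_surjective x
  exact (Submodule.Quotient.mk_smul _ a x).symm.trans
    ((Submodule.Quotient.mk_eq_zero _).2 (Submodule.smul_mem_smul ha Submodule.mem_top))

end adic

theorem main [IsNoetherianRing A] [DTen.HasLTen A] (I : Ideal A) (K : DRing.Cx A) (a b : ℤ)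
    (hK : DRing.VanishesOutside K a b) (hKf : ∀ i : ℤ, Module.Finite A (K.X i)) :
    DerCA.IsProIso (Functor.whiskerLeft
      (CohIII.adicSystem I (ModuleCat.of A A) ⋙
        HomologicalComplex.single (ModuleCat.{u} A) (ComplexShape.up ℤ) 0)
      (DTen.εLeft A K)) := by
  intro n
  classical
  set adic := CohIII.adicSystem I (ModuleCat.of A A) with hadic
  -- generators of `I^(n+1)`
  obtain ⟨l, hl⟩ : ∃ l : List A, Ideal.span {x | x ∈ l} = (I ^ (n + 1) : Ideal A) := by
    obtain ⟨s, hs⟩ := (isNoetherian_def.mp (inferInstance : IsNoetherian A A)) (I ^ (n + 1))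
    refine ⟨s.toList, ?_⟩
    rw [← hs]
    congr 1
    ext x
    simp
  set J : Ideal A := Ideal.span {x | x ∈ l} with hJdef
  have hkillA : ∀ c ∈ J, ∀ x : adic.obj (op n), c • x = 0 := fun c hc x =>
    smul_adicSystem_eq_zero I (ModuleCat.of A A) n c (hl ▸ hc) x
  have hKillY : Killed J (sg0 (adic.obj (op n))) := killed_single J _ hkillA
  -- the Koszul complex, unit and augmentation
  let Kos : CochainComplex (ModuleCat.{u} A) ℤ := Koszul.koszul A l
  obtain ⟨ι, aug, hιaug⟩ := exists_unit_aug l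
  have hkerπ : J ≤ LinearMap.ker (π I (ModuleCat.of A A) n).hom := by
    intro x hx
    rw [LinearMap.mem_ker]
    refine (Submodule.Quotient.mk_eq_zero _).mpr ?_
    have hx' : x ∈ I ^ (n + 1) := hl ▸ hx
    have : x = x • (1 : A) := by simp
    rw [this]
    exact Submodule.smul_mem_smul hx' Submodule.mem_top
  let αbar : (A ⧸ J) →ₗ[A] adic.obj (op n) := J.liftQ (π I (ModuleCat.of A A) n).hom hkerπ
  let α : Kos ⟶ sg0 (adic.obj (op n)) :=
    aug ≫ (HomologicalComplex.single (ModuleCat.{u} A) (ComplexShape.up ℤ) 0).map (ModuleCat.ofHom αbar)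
  have hια : ι ≫ α = (HomologicalComplex.single (ModuleCat.{u} A) (ComplexShape.up ℤ) 0).map
      (π I (ModuleCat.of A A) n) := by
    change ι ≫ aug ≫ _ = _
    rw [reassoc_of% hιaug, ← Functor.map_comp]
    congr 1
    all_goals (apply ModuleCat.hom_ext; exact J.liftQ_mkQ _ hkerπ)
  -- Artin–Rees constants
  haveI hfinA : ∀ i, Module.Finite A (Kos.X i) := finite_koszul_X l
  have hzA : ∀ i : ℤ, (i < -(l.length : ℤ) ∨ 0 < i) → IsZero (Kos.X i) := fun i hi =>
    hi.elim (isZero_koszul_X_of_lt l i) (isZero_koszul_X_of_pos l i)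
  have htorA : ∀ (i : ℤ) (c : A), c ∈ J → ∀ y : Kos.homology i, c • y = 0 :=
    fun i c hc y => smul_homology_koszul l c hc i y
  obtain ⟨KcA, hKcA⟩ := exists_K' Kos J htorA (-(l.length : ℤ)) 0 hzA
  let V : CochainComplex (ModuleCat.{u} A) ℤ := KK K l
  haveI : ∀ i, Module.Finite A (K.X i) := hKf
  haveI hfinK : ∀ i, Module.Finite A (V.X i) := finite_KK_X K l
  have hzK : ∀ i : ℤ, (i < a - (l.length : ℤ) ∨ b < i) → IsZero (V.X i) := isZero_KK_X K a b hK l
  have htorK : ∀ (i : ℤ) (c : A), c ∈ J → ∀ y : V.homology i, c • y = 0 :=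
    fun i c hc y => smul_homology_KK K l c hc i y
  obtain ⟨KcK, hKcK⟩ := exists_K' V J htorK (a - (l.length : ℤ)) b hzK
  -- exponents
  obtain ⟨lo, hlo⟩ : ∃ lo : ℤ, lo = a - (l.length : ℤ) := ⟨_, rfl⟩
  obtain ⟨len, hlen⟩ : ∃ len : ℤ, len = (l.length : ℤ) := ⟨_, rfl⟩
  have hlen0 : 0 ≤ len := by rw [hlen]; exact Int.natCast_nonneg _
  let tK : ℤ → ℕ := fun i => (min i (b + 1) - lo + 1).toNat
  let aK : ℤ → ℕ := fun i => KcK * tK i + 1
  let EK : ℕ := KcK * (b + 1 - lo + 1).toNat + 1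
  have haK : ∀ i : ℤ, a - (l.length : ℤ) ≤ i + 1 → i + 1 ≤ b → aK (i + 1) = aK i + KcK := by
    intro i h1 h2
    rw [← hlo] at h1
    have ht : tK (i + 1) = tK i + 1 := by
      change (min (i + 1) (b + 1) - lo + 1).toNat = (min i (b + 1) - lo + 1).toNat + 1
      rw [min_eq_left (by omega), min_eq_left (by omega)]
      omega
    change KcK * tK (i + 1) + 1 = KcK * tK i + 1 + KcK
    rw [ht]
    ring
  have haK1 : ∀ i, 1 ≤ aK i := fun i => Nat.le_add_left 1 _
  have haKE : ∀ i, aK i ≤ EK := by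
    intro i
    have h1 : tK i ≤ (b + 1 - lo + 1).toNat := by
      change (min i (b + 1) - lo + 1).toNat ≤ _
      have := min_le_right i (b + 1)
      omega
    exact Nat.add_le_add_right (Nat.mul_le_mul_left _ h1) 1
  have hEK1 : 1 ≤ EK := Nat.le_add_left 1 _
  let tA : ℤ → ℕ := fun j => (min j 1 + len + 1).toNat
  let aA : ℤ → ℕ := fun j => KcA * tA j + EK
  let EA : ℕ := KcA * ((1 : ℤ) + len + 1).toNat + EK
  have haA : ∀ j : ℤ, -(l.length : ℤ) ≤ j + 1 → j + 1 ≤ 0 → aA (j + 1) = aA j + KcA := by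
    intro j h1 h2
    rw [← hlen] at h1
    have ht : tA (j + 1) = tA j + 1 := by
      change (min (j + 1) 1 + len + 1).toNat = (min j 1 + len + 1).toNat + 1
      rw [min_eq_left (by omega), min_eq_left (by omega)]
      omega
    change KcA * tA (j + 1) + EK = KcA * tA j + EK + KcA
    rw [ht]
    ring
  have haA1 : ∀ j, 1 ≤ aA j := fun j => hEK1.trans (Nat.le_add_left _ _)
  have hEKA : ∀ j, EK ≤ aA j := fun j => Nat.le_add_left _ _
  have haAE : ∀ j, aA j ≤ EA := by
    intro j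
    have h1 : tA j ≤ ((1 : ℤ) + len + 1).toNat := by
      change (min j 1 + len + 1).toNat ≤ _
      have := min_le_right j 1
      omega
    exact Nat.add_le_add_right (Nat.mul_le_mul_left _ h1) EK
  have hEA1 : 1 ≤ EA := hEK1.trans (Nat.le_add_left _ _)
  obtain ⟨N0, hN0⟩ : ∃ N0 : ℕ, N0 = (n + 1) * EA := ⟨_, rfl⟩
  have hN0le : n + 1 ≤ N0 := by rw [hN0]; exact Nat.le_mul_of_pos_right _ hEA1
  obtain ⟨m, hm⟩ : ∃ m : ℕ, m + 1 = N0 := ⟨N0 - 1, by omega⟩
  have hnm : n ≤ m := by omega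
  -- the acyclic subcomplexes and the quotients
  have hacA : (R Kos J aA).Acyclic := R_acyclic Kos J aA KcA (-(l.length : ℤ)) 0 hKcA hzA haA
  have hacK : (R V J aK).Acyclic := R_acyclic V J aK KcK (a - (l.length : ℤ)) b hKcK hzK haK
  let qA := cokernel.π (jR Kos J aA)
  let qK := cokernel.π (jR V J aK)
  haveI iqA : IsIso (Q.map qA) := isIso_Q_map_cokernel_π Kos J aA hacA
  haveI iqK : IsIso (Q.map qK) := isIso_Q_map_cokernel_π V J aK hacK
  let θ : K ⊗ Kos ≅ V := tensorKoszulIso K l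
  let qR : K ⊗ Kos ⟶ cokernel (jR V J aK) := θ.hom ≫ qK
  haveI iqR : IsIso (Q.map qR) := by
    change IsIso (Q.map (θ.hom ≫ qK))
    rw [Q.map_comp]
    infer_instance
  -- the map `y`
  have hN : (I ^ (m + 1) • (⊤ : Submodule A A) : Submodule A A) ≤ (J ^ EA • ⊤ : Submodule A A) := by
    have e1 : (J ^ EA • (⊤ : Submodule A A) : Submodule A A) = (I ^ (m + 1) • (⊤ : Submodule A A) : Submodule A A) := by
      rw [hl, ← pow_mul, ← hN0, hm]
    rw [e1]
  obtain ⟨y, hy⟩ := exists_y Kos J aA A (I ^ (m + 1) • (⊤ : Submodule A A)) ι EA (haAE 0)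
    (haAE (0 + 1)) hN (isZero_koszul_X_of_pos l (0 + 1) (by norm_num))
  -- the map `ᾱ`
  let αb : cokernel (jR Kos J aA) ⟶ sg0 (adic.obj (op n)) :=
    cokernel.desc (jR Kos J aA) α (jR_comp_eq_zero Kos J aA haA1 _ hKillY α)
  have hqαb : qA ≫ αb = α := cokernel.π_desc _ _ _
  -- the map `s`
  haveI := isLeftAdjoint_tensorLeft K
  have hs0 : (K ◁ jR Kos J aA) ≫ θ.hom ≫ cokernel.π (jR V J aK) = 0 :=
    whisker_jR_comp_π K Kos V J aA aK EK hEKA haKE θ.hom
  let s : K ⊗ cokernel (jR Kos J aA) ⟶ cokernel (jR V J aK) :=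
    (PreservesCokernel.iso (tensorLeft K) (jR Kos J aA)).hom ≫
      cokernel.desc ((tensorLeft K).map (jR Kos J aA)) qR hs0
  have hs : (K ◁ qA) ≫ s = qR := by
    change (tensorLeft K).map (cokernel.π (jR Kos J aA)) ≫
      (PreservesCokernel.iso (tensorLeft K) (jR Kos J aA)).hom ≫ _ = _
    rw [← assoc, PreservesCokernel.π_iso_hom]
    exact cokernel.π_desc _ _ _
  -- the map `ᾱK`
  let αK : cokernel (jR V J aK) ⟶ K ⊗ sg0 (adic.obj (op n)) :=
    cokernel.desc (jR V J aK) (θ.inv ≫ K ◁ α)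
      (jR_comp_eq_zero V J aK haK1 _ (killed_whiskerLeft J K _ hKillY) _)
  have hqαK : qR ≫ αK = K ◁ α := by
    change (θ.hom ≫ cokernel.π (jR V J aK)) ≫ cokernel.desc _ _ _ = _
    rw [assoc, cokernel.π_desc, Iso.hom_inv_id_assoc]
  have hsα : s ≫ αK = K ◁ αb := by
    haveI : Epi (K ◁ qA) := (tensorLeft K).map_epi qA
    rw [← cancel_epi (K ◁ qA), ← assoc, hs, hqαK, ← MonoidalCategory.whiskerLeft_comp, hqαb]
  -- transition maps
  let Yf : ℕᵒᵖ ⥤ CochainComplex (ModuleCat.{u} A) ℤ :=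
    adic ⋙ HomologicalComplex.single (ModuleCat.{u} A) (ComplexShape.up ℤ) 0
  let trm : Yf.obj (op m) ⟶ Yf.obj (op n) := Yf.map (homOfLE hnm).op
  have hytr : y ≫ αb = trm := by
    have e1 : (HomologicalComplex.single (ModuleCat.{u} A) (ComplexShape.up ℤ) 0).map
        (π I (ModuleCat.of A A) m) ≫ (y ≫ αb) =
        (HomologicalComplex.single (ModuleCat.{u} A) (ComplexShape.up ℤ) 0).map
        (π I (ModuleCat.of A A) m) ≫ trm := by
      have e2 : (HomologicalComplex.single (ModuleCat.{u} A) (ComplexShape.up ℤ) 0).map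
          (π I (ModuleCat.of A A) m) ≫ y = ι ≫ qA := hy
      rw [reassoc_of% e2, hqαb, hια]
      change _ = (HomologicalComplex.single (ModuleCat.{u} A) (ComplexShape.up ℤ) 0).map
        (π I (ModuleCat.of A A) m) ≫
        (HomologicalComplex.single (ModuleCat.{u} A) (ComplexShape.up ℤ) 0).map
          (adic.map (homOfLE hnm).op)
      rw [← Functor.map_comp, π_map]
    apply HomologicalComplex.from_single_hom_ext
    have e3 := congrArg (fun f => f.f 0) e1
    simp only [HomologicalComplex.comp_f, HomologicalComplex.single_map_f_self] at e3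
    haveI : Epi (π I (ModuleCat.of A A) m) :=
      (ModuleCat.epi_iff_surjective _).mpr (Submodule.mkQ_surjective _)
    simp only [assoc] at e3
    rw [cancel_epi, cancel_epi] at e3
    exact (cancel_epi _).mp e3
  -- the derived category part
  let L2 : CochainComplex (ModuleCat.{u} A) ℤ ⥤ Dual.D A := Q ⋙ (LTen A).obj (Q.obj K)
  let eps := εLeft A K
  haveI iε : IsIso (eps.app Kos) :=
    Groth.Agent.H4.LK4.isIso_ε_of_kflat K Kos (Or.inr (kflat_koszul l))
  haveI iL : IsIso (L2.map qA) := by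
    change IsIso (((LTen A).obj (Q.obj K)).map (Q.map qA))
    infer_instance
  have key : eps.app (cokernel (jR Kos J aA)) ≫ Q.map s ≫ inv (Q.map qR) ≫ inv (eps.app Kos) =
      inv (L2.map qA) := by
    have h1 := eps.naturality qA
    rw [← cancel_epi (L2.map qA), IsIso.hom_inv_id, ← assoc, h1, assoc]
    change eps.app Kos ≫ Q.map (K ◁ qA) ≫ Q.map s ≫ _ = _
    rw [← Q.map_comp_assoc, hs, IsIso.hom_inv_id_assoc, IsIso.hom_inv_id]
  let bmap : Q.obj (K ⊗ Yf.obj (op m)) ⟶ L2.obj (Yf.obj (op n)) :=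
    Q.map ((K ◁ y) ≫ s) ≫ inv (Q.map qR) ≫ inv (eps.app Kos) ≫ L2.map α
  have h2 : L2.map y ≫ eps.app (cokernel (jR Kos J aA)) =
      eps.app (Yf.obj (op m)) ≫ Q.map (K ◁ y) := eps.naturality y
  have h3 : L2.map α ≫ eps.app (Yf.obj (op n)) = eps.app Kos ≫ Q.map (K ◁ α) :=
    eps.naturality α
  refine ⟨m, hnm, bmap, ?_, ?_⟩
  · change eps.app (Yf.obj (op m)) ≫ bmap = L2.map trm
    have e1 : eps.app (Yf.obj (op m)) ≫ bmap =
        (eps.app (Yf.obj (op m)) ≫ Q.map (K ◁ y)) ≫ Q.map s ≫ inv (Q.map qR) ≫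
            inv (eps.app Kos) ≫ L2.map α := by
      change _ ≫ Q.map ((K ◁ y) ≫ s) ≫ _ = _
      rw [Q.map_comp]
      simp only [assoc]
      first | done | rfl
    have e2 : (eps.app (Yf.obj (op m)) ≫ Q.map (K ◁ y)) ≫ Q.map s ≫ inv (Q.map qR) ≫
            inv (eps.app Kos) ≫ L2.map α =
        L2.map y ≫ (eps.app (cokernel (jR Kos J aA)) ≫ Q.map s ≫ inv (Q.map qR) ≫
            inv (eps.app Kos)) ≫ L2.map α := by
      rw [← h2]
      simp only [assoc]
      first | done | rfl | exact assoc _ _ _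
    have e3 : L2.map y ≫ (eps.app (cokernel (jR Kos J aA)) ≫ Q.map s ≫ inv (Q.map qR) ≫
            inv (eps.app Kos)) ≫ L2.map α = L2.map y ≫ inv (L2.map qA) ≫ L2.map α := by
      rw [key]
    have e4 : L2.map y ≫ inv (L2.map qA) ≫ L2.map α = L2.map y ≫ L2.map αb := by
      rw [← hqαb, L2.map_comp, IsIso.inv_hom_id_assoc]
    have e5 : L2.map y ≫ L2.map αb = L2.map trm := by
      rw [← L2.map_comp, hytr]
      first | done | rfl
    exact e1.trans (e2.trans (e3.trans (e4.trans e5)))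
  · change bmap ≫ eps.app (Yf.obj (op n)) = Q.map (K ◁ trm)
    have e1 : bmap ≫ eps.app (Yf.obj (op n)) =
        Q.map ((K ◁ y) ≫ s) ≫ inv (Q.map qR) ≫ inv (eps.app Kos) ≫
            (L2.map α ≫ eps.app (Yf.obj (op n))) := by
      simp only [bmap, assoc]
      first | done | rfl
    have e2 : Q.map ((K ◁ y) ≫ s) ≫ inv (Q.map qR) ≫ inv (eps.app Kos) ≫
            (L2.map α ≫ eps.app (Yf.obj (op n))) =
        Q.map ((K ◁ y) ≫ s) ≫ inv (Q.map qR) ≫ Q.map (qR ≫ αK) := by
      rw [h3, IsIso.inv_hom_id_assoc, hqαK]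
    have e3 : Q.map ((K ◁ y) ≫ s) ≫ inv (Q.map qR) ≫ Q.map (qR ≫ αK) =
        Q.map (((K ◁ y) ≫ s) ≫ αK) := by
      rw [Q.map_comp qR, IsIso.inv_hom_id_assoc, ← Q.map_comp]
    have e4 : Q.map (((K ◁ y) ≫ s) ≫ αK) = Q.map (K ◁ trm) := by
      rw [assoc, hsα, ← MonoidalCategory.whiskerLeft_comp, hytr]
      first | done | rfl
    exact e1.trans (e2.trans (e3.trans e4))

end Groth.Agent.H4.ARP4
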