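import Mathlib
set_option autoImplicit false
universe u
namespace Groth.Agent.H4.WEt
open TensorProduct

theorem pure_of_flat' {E B : Type u} [CommRing E] [CommRing B] [Algebra E B] [Module.Flat E B]
    (hφ : Function.Surjective (algebraMap E B)) (c : E) (hc : algebraMap E B c = 0) :
    ∃ e : E, algebraMap E B e = 1 ∧ c * e = 0 := by
  have hrel : ∑ i : Fin 1, (fun _ => c) i • (fun _ => (1 : B)) i = 0 := by
    rw [Fin.sum_univ_one, Algebra.smul_def, hc, zero_mul]
  obtain ⟨k, a, y, h1, h2⟩ := Module.Flat.isTrivialRelation_of_sum_smul_eq_zero (R := E) (M := B)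
    (f := fun _ : Fin 1 => c) (x := fun _ : Fin 1 => (1 : B)) hrel
  choose y' hy' using fun j => hφ (y j)
  refine ⟨∑ j, a 0 j * y' j, ?_, ?_⟩
  · rw [map_sum]
    have h3 : (1 : B) = ∑ j, a 0 j • y j := h1 0
    rw [h3]
    refine Finset.sum_congr rfl (fun j _ => ?_)
    rw [map_mul, hy', Algebra.smul_def]
  · rw [Finset.mul_sum]
    apply Finset.sum_eq_zero
    intro j _
    have := h2 j
    rw [Fin.sum_univ_one] at this
    rw [← mul_assoc, this, zero_mul]

theorem pure_of_flat {E B : Type u} [CommRing E] [CommRing B] (φ : E →+* B)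
    (hφ : Function.Surjective φ) (h : φ.Flat) (c : E) (hc : φ c = 0) :
    ∃ e : E, φ e = 1 ∧ c * e = 0 := by
  letI := φ.toAlgebra
  haveI : Module.Flat E B := h
  exact pure_of_flat' hφ c hc

theorem pure_of_flat_fin {E B : Type u} [CommRing E] [CommRing B] (φ : E →+* B)
    (hφ : Function.Surjective φ) (h : φ.Flat) {l : ℕ} (c : Fin l → E) (hc : ∀ i, φ (c i) = 0) :
    ∃ e : E, φ e = 1 ∧ ∀ i, c i * e = 0 := by
  choose e he1 he2 using fun i => pure_of_flat φ hφ h (c i) (hc i)
  refine ⟨∏ i, e i, by rw [map_prod]; exact Finset.prod_eq_one (fun i _ => he1 i), fun i => ?_⟩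
  rw [← Finset.mul_prod_erase Finset.univ e (Finset.mem_univ i), ← mul_assoc, he2, zero_mul]

section Main
variable {A B : Type u} [CommRing A] [CommRing B] [Algebra A B]
  {N : Type u} [AddCommGroup N] [Module B N] [Module A N] [IsScalarTower A B N]

/-- `z ⋆ n`: the action of `B ⊗ B` on `B ⊗ N`, evaluated at `1 ⊗ n`. -/
noncomputable def star (n : N) : B ⊗[A] B →ₗ[A] B ⊗[A] N :=
  TensorProduct.map (LinearMap.id : B →ₗ[A] B) ((LinearMap.toSpanSingleton B N n).restrictScalars A)

@[simp] theorem star_tmul (n : N) (y y' : B) : star (A := A) n (y ⊗ₜ y') = y ⊗ₜ (y' • n) := rfl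

theorem star_add (n n' : N) (z : B ⊗[A] B) : star (n + n') z = star n z + star n' z := by
  induction z using TensorProduct.induction_on with
  | zero => simp
  | tmul y y' => simp [smul_add, tmul_add]
  | add a b ha hb => rw [map_add, ha, hb, map_add, map_add]; abel

theorem star_zero (z : B ⊗[A] B) : star (A := A) (0 : N) z = 0 := by
  induction z using TensorProduct.induction_on with
  | zero => simp
  | tmul y y' => simp
  | add a b ha hb => rw [map_add, ha, hb, add_zero]

theorem star_sum {ι : Type*} (s : Finset ι) (n : ι → N) (z : B ⊗[A] B) :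
    star (∑ i ∈ s, n i) z = ∑ i ∈ s, star (n i) z := by
  classical
  induction s using Finset.induction_on with
  | empty => simp [star_zero]
  | insert a s ha ih => rw [Finset.sum_insert ha, Finset.sum_insert ha, star_add, ih]

theorem smul_star (b : B) (n : N) (z : B ⊗[A] B) :
    b • star n z = star n ((b ⊗ₜ[A] (1 : B)) * z) := by
  induction z using TensorProduct.induction_on with
  | zero => simp
  | tmul y y' => simp [TensorProduct.smul_tmul']
  | add a b' ha hb => rw [map_add, smul_add, ha, hb, mul_add, map_add]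

theorem star_smul (b : B) (n : N) (z : B ⊗[A] B) :
    star (b • n) z = star n (((1 : B) ⊗ₜ[A] b) * z) := by
  induction z using TensorProduct.induction_on with
  | zero => simp
  | tmul y y' => simp [mul_smul, mul_comm b y']
  | add a b' ha hb => rw [map_add, ha, hb, mul_add, map_add]

/-- multiplication `B ⊗ N → N` -/
noncomputable def mu : B ⊗[A] N →ₗ[B] N := LinearMap.liftBaseChange B (LinearMap.id : N →ₗ[A] N)

theorem mu_star (n : N) (z : B ⊗[A] B) :
    mu (star n z) = (Algebra.TensorProduct.lmul' A (S := B) z) • n := by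
  induction z using TensorProduct.induction_on with
  | zero => simp
  | tmul y y' => simp [mu, mul_smul]
  | add a b' ha hb => rw [map_add, map_add, ha, hb, map_add, add_smul]

theorem main (h : (Algebra.TensorProduct.lmul' A (S := B)).Flat) [Module.Flat A N] :
    Module.Flat B N := by
  refine Module.Flat.of_forall_isTrivialRelation ?_
  intro l f x hfx
  let φ : B ⊗[A] B →ₐ[A] B := Algebra.TensorProduct.lmul' A (S := B)
  have hsurj : Function.Surjective φ.toRingHom := fun b => ⟨b ⊗ₜ 1, by simp [φ]⟩
  let c : Fin l → B ⊗[A] B := fun i => f i ⊗ₜ 1 - 1 ⊗ₜ f i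
  have hc : ∀ i, φ.toRingHom (c i) = 0 := by intro i; simp [c, φ]
  obtain ⟨e, he1, he2⟩ := pure_of_flat_fin φ.toRingHom hsurj h c hc
  have hrel : ∑ i, f i • star (A := A) (x i) e = 0 := by
    have : ∀ i, f i • star (A := A) (x i) e = star (f i • x i) e := by
      intro i
      rw [smul_star, star_smul]
      congr 1
      have h1 := he2 i
      simp only [c, sub_mul] at h1
      exact sub_eq_zero.mp h1
    rw [Finset.sum_congr rfl (fun i _ => this i), ← star_sum, hfx, star_zero]
  obtain ⟨k, a, y, h1, h2⟩ := Module.Flat.isTrivialRelation_of_sum_smul_eq_zero (R := B)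
    (M := B ⊗[A] N) (f := f) (x := fun i => star (A := A) (x i) e) hrel
  refine ⟨k, a, fun j => mu (y j), fun i => ?_, h2⟩
  have h3 := congrArg (mu (A := A) (B := B) (N := N)) (h1 i)
  rw [mu_star, map_sum] at h3
  have he1' : Algebra.TensorProduct.lmul' A (S := B) e = 1 := he1
  rw [he1', one_smul] at h3
  rw [h3]
  refine Finset.sum_congr rfl (fun j _ => ?_)
  rw [map_smul]

end Main

end Groth.Agent.H4.WEt
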