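import Mathlib
import Groth.Agent.H4.WEt
set_option autoImplicit false
universe u
open TensorProduct
namespace Groth.Agent.H4.WEtField

section Deriv
variable {K F L M : Type*} [CommRing K] [CommRing F] [CommRing L] [Algebra K F] [Algebra K L]
  [Algebra F L] [IsScalarTower K F L] [AddCommGroup M] [Module L M] [Module F M] [Module K M]
  [IsScalarTower F L M] [IsScalarTower K F M] [IsScalarTower K L M]

/-- multiplication `L ⊗ F → L` -/
noncomputable def m₁ : L ⊗[K] F →ₐ[K] L :=
  (Algebra.TensorProduct.lmul' K (S := L)).comp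
    (Algebra.TensorProduct.map (AlgHom.id K L) (IsScalarTower.toAlgHom K F L))

@[simp] theorem m₁_tmul (l : L) (y : F) : m₁ (K := K) (l ⊗ₜ[K] y) = l * algebraMap F L y := by
  simp [m₁]

/-- the `L`-linear extension of a derivation -/
noncomputable def δ (d : Derivation K F M) : L ⊗[K] F →ₗ[L] M :=
  LinearMap.liftBaseChange L (d.toLinearMap)

@[simp] theorem δ_tmul (d : Derivation K F M) (l : L) (y : F) :
    δ (L := L) d (l ⊗ₜ[K] y) = l • d y := by
  simp [δ]

theorem δ_mul (d : Derivation K F M) (u v : L ⊗[K] F) :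
    δ (L := L) d (u * v) = m₁ u • δ (L := L) d v + m₁ v • δ (L := L) d u := by
  induction u using TensorProduct.induction_on with
  | zero => simp
  | add u u' hu hu' => rw [add_mul, map_add, hu, hu', map_add, map_add, add_smul, smul_add]; abel
  | tmul l y =>
    induction v using TensorProduct.induction_on with
    | zero => simp
    | add v v' hv hv' => rw [mul_add, map_add, hv, hv', map_add, map_add, add_smul, smul_add]; abel
    | tmul l' y' =>
      simp only [Algebra.TensorProduct.tmul_mul_tmul, δ_tmul, m₁_tmul, Derivation.leibniz,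
        smul_add]
      rw [← algebraMap_smul L y (d y'), ← algebraMap_smul L y' (d y)]
      simp only [smul_smul]
      congr 1
      · congr 1; ring
      · congr 1; ring

theorem key (d : Derivation K F M) (x : F) (s₁ : L ⊗[K] F)
    (h : (algebraMap F L x ⊗ₜ[K] (1 : F) - (1 : L) ⊗ₜ[K] x) * s₁ = 0) :
    m₁ s₁ • d x = 0 := by
  have h1 := δ_mul (L := L) d (algebraMap F L x ⊗ₜ[K] (1 : F) - (1 : L) ⊗ₜ[K] x) s₁
  rw [h, map_zero] at h1
  simp only [map_sub, m₁_tmul, map_one, mul_one, one_mul, sub_self, zero_smul, zero_add, δ_tmul,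
    Derivation.map_one_eq_zero, smul_zero, one_smul, zero_sub, smul_neg] at h1
  exact neg_eq_zero.mp h1.symm

end Deriv


section AbsKey
variable {K F L : Type u} [Field K] [Field F] [Field L] [Algebra K F] [Algebra F L] [Algebra K L]
  [IsScalarTower K F L]

theorem abs_key (x' : F) (s₁ : L ⊗[K] F)
    (h1 : (algebraMap F L x' ⊗ₜ[K] (1 : F) - (1 : L) ⊗ₜ[K] x') * s₁ = 0)
    (hθ : m₁ (K := K) (F := F) (L := L) s₁ ≠ 0) : KaehlerDifferential.D K F x' = 0 := by
  let d : Derivation K F (L ⊗[F] Ω[F⁄K]) :=
    (TensorProduct.mk F L Ω[F⁄K] 1).compDer (KaehlerDifferential.D K F)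
  have h2 := key (L := L) d x' s₁ h1
  have h3 : (1 : L) ⊗ₜ[F] KaehlerDifferential.D K F x' = 0 :=
    (smul_eq_zero.mp h2).resolve_left hθ
  apply Module.Flat.tensorProduct_mk_injective F Ω[F⁄K] L
  simpa using h3

end AbsKey

section Field
variable {K L : Type u} [Field K] [Field L] [Algebra K L]

/-- `id ⊗ θ` -/
noncomputable def Θ (F : IntermediateField K L) (θ : L →ₗ[F] F) : L ⊗[K] L →ₗ[K] L ⊗[K] F :=
  LinearMap.lTensor L (θ.restrictScalars K)

@[simp] theorem Θ_tmul (F : IntermediateField K L) (θ : L →ₗ[F] F) (c b : L) :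
    Θ F θ (c ⊗ₜ[K] b) = c ⊗ₜ[K] θ b := by
  simp [Θ]

theorem Θ_mul (F : IntermediateField K L) (θ : L →ₗ[F] F) (t : L ⊗[K] F) (s : L ⊗[K] L) :
    Θ F θ (Algebra.TensorProduct.map (AlgHom.id K L) F.val t * s) = t * Θ F θ s := by
  induction t using TensorProduct.induction_on with
  | zero => simp
  | add u u' hu hu' => rw [map_add, add_mul, map_add, hu, hu', add_mul]
  | tmul l y =>
    induction s using TensorProduct.induction_on with
    | zero => simp
    | add v v' hv hv' => rw [mul_add, map_add, hv, hv', map_add, mul_add]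
    | tmul c b =>
      simp only [Algebra.TensorProduct.map_tmul, AlgHom.coe_id, id_eq, IntermediateField.coe_val,
        Algebra.TensorProduct.tmul_mul_tmul, Θ_tmul]
      congr 1
      have : (y : L) * b = y • b := rfl
      rw [this, map_smul, smul_eq_mul]

theorem step2 (F : IntermediateField K L) (s : L ⊗[K] L)
    (hs : Algebra.TensorProduct.lmul' K (S := L) s ≠ 0) :
    ∃ θ : L →ₗ[F] F, m₁ (K := K) (F := F) (L := L) (Θ F θ s) ≠ 0 := by
  classical
  by_contra hcon
  push Not at hcon
  let w := Module.Free.chooseBasis F L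
  let ψ : L →ₗ[K] (Module.Free.ChooseBasisIndex F L →₀ L) :=
    (Finsupp.mapRange.linearMap ((Algebra.linearMap F L).restrictScalars K)).comp
      (w.repr.toLinearMap.restrictScalars K)
  let Ψ : L ⊗[K] L →ₗ[L] (Module.Free.ChooseBasisIndex F L →₀ L) := LinearMap.liftBaseChange L ψ
  let sumw : (Module.Free.ChooseBasisIndex F L →₀ L) →ₗ[L] L :=
    Finsupp.linearCombination L (fun k => (w k : L))
  have h1 : ∀ s : L ⊗[K] L, sumw (Ψ s) = Algebra.TensorProduct.lmul' K (S := L) s := by
    intro s
    induction s using TensorProduct.induction_on with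
    | zero => simp
    | add u u' hu hu' => rw [map_add, map_add, hu, hu', map_add]
    | tmul c b =>
      simp only [Ψ, LinearMap.liftBaseChange_tmul, map_smul, Algebra.TensorProduct.lmul'_apply_tmul,
        smul_eq_mul]
      congr 1
      have hb : b = Finsupp.linearCombination F w (w.repr b) := (w.linearCombination_repr b).symm
      conv_rhs => rw [hb]
      simp only [sumw, ψ, LinearMap.coe_comp, Function.comp_apply, Finsupp.linearCombination_apply,
        Finsupp.sum]
      have hsupp : ((Finsupp.mapRange.linearMap ((Algebra.linearMap F L).restrictScalars K))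
          ((w.repr.toLinearMap.restrictScalars K) b)).support = (w.repr b).support :=
        Finsupp.support_mapRange_of_injective (by simp) _ (algebraMap F L).injective
      rw [hsupp]
      refine Finset.sum_congr rfl (fun k _ => ?_)
      simp [Algebra.smul_def]
  have h2 : ∀ (s : L ⊗[K] L) k, Ψ s k = m₁ (K := K) (F := F) (L := L) (Θ F (w.coord k) s) := by
    intro s k
    induction s using TensorProduct.induction_on with
    | zero => simp
    | add u u' hu hu' => rw [map_add, Finsupp.add_apply, hu, hu', map_add, map_add]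
    | tmul c b =>
      simp [Ψ, ψ]
  apply hs
  rw [← h1]
  have : Ψ s = 0 := by
    ext k
    rw [h2, hcon]
    rfl
  rw [this, map_zero]


open IntermediateField in
theorem main_field (h : (Algebra.TensorProduct.lmul' K (S := L)).Flat) (x : L) :
    IsSeparable K x := by
  let φ : L ⊗[K] L →ₐ[K] L := Algebra.TensorProduct.lmul' K (S := L)
  have hsurj : Function.Surjective φ.toRingHom := fun b => ⟨b ⊗ₜ 1, by simp [φ]⟩
  obtain ⟨s, hs1, hs2⟩ := Groth.Agent.H4.WEt.pure_of_flat φ.toRingHom hsurj h
    (x ⊗ₜ 1 - 1 ⊗ₜ x) (by simp [φ])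
  let F : IntermediateField K L := K⟮x⟯
  let x' : F := IntermediateField.AdjoinSimple.gen K x
  have hs1' : Algebra.TensorProduct.lmul' K (S := L) s ≠ 0 := by
    have : Algebra.TensorProduct.lmul' K (S := L) s = 1 := hs1
    rw [this]; exact one_ne_zero
  obtain ⟨θ, hθ⟩ := step2 F s hs1'
  have h1 : (algebraMap F L x' ⊗ₜ[K] (1 : F) - (1 : L) ⊗ₜ[K] x') * Θ F θ s = 0 := by
    rw [← Θ_mul]
    have : (Algebra.TensorProduct.map (AlgHom.id K L) F.val)
        (algebraMap F L x' ⊗ₜ[K] (1 : F) - (1 : L) ⊗ₜ[K] x') = x ⊗ₜ 1 - 1 ⊗ₜ x := by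
      simp [x']
    rw [this, hs2, map_zero]
  have h4 : KaehlerDifferential.D K F x' = 0 := abs_key x' (Θ F θ s) h1 hθ
  have h5 : ∀ y : F, KaehlerDifferential.D K F y = 0 := by
    rintro ⟨y, hy⟩
    induction hy using IntermediateField.adjoin_induction with
    | mem z hz =>
      have : z = x := hz
      subst this
      exact h4
    | algebraMap z => exact Derivation.map_algebraMap _ z
    | add a b ha hb iha ihb =>
      have : (⟨a + b, add_mem ha hb⟩ : F) = ⟨a, ha⟩ + ⟨b, hb⟩ := rfl
      rw [this, map_add, iha, ihb, add_zero]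
    | inv a ha iha =>
      have : (⟨a⁻¹, inv_mem ha⟩ : F) = (⟨a, ha⟩ : F)⁻¹ := rfl
      rw [this, Derivation.leibniz_inv, iha, smul_zero]
    | mul a b ha hb iha ihb =>
      have : (⟨a * b, mul_mem ha hb⟩ : F) = ⟨a, ha⟩ * ⟨b, hb⟩ := rfl
      rw [this, Derivation.leibniz, iha, ihb, smul_zero, smul_zero, add_zero]
  have h6 : Subsingleton Ω[F⁄K] := by
    have hspan := KaehlerDifferential.span_range_derivation K F
    have : Set.range (KaehlerDifferential.D K F) ⊆ {0} := by
      rintro _ ⟨y, rfl⟩
      exact h5 y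
    have hbot : (⊤ : Submodule F Ω[F⁄K]) = ⊥ := by
      rw [← hspan, Submodule.span_eq_bot]
      intro z hz
      exact this hz
    exact (Submodule.subsingleton_iff F).mp (subsingleton_of_bot_eq_top hbot.symm)
  haveI : Algebra.FormallyUnramified K F := ⟨h6⟩
  haveI : Algebra.EssFiniteType K F :=
    IntermediateField.essFiniteType_iff.mpr ⟨{x}, by simp [F]⟩
  haveI := Algebra.FormallyUnramified.isSeparable K F
  have hx' : IsSeparable K x' := Algebra.IsSeparable.isSeparable K x'
  have hmin : minpoly K x' = minpoly K x :=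
    (minpoly.algebraMap_eq (algebraMap F L).injective x').symm
  unfold IsSeparable at hx' ⊢
  rw [← hmin]; exact hx'

end Field

end Groth.Agent.H4.WEtField
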