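import Mathlib
import Groth.Agent.H4.WEt
import Groth.Agent.H4.WEtField
import Groth.Agent.S7127
import Groth.Agent.S7128
import Groth.Prelude.Def_EtAlgD
set_option autoImplicit false
universe u
open TensorProduct Polynomial
namespace Groth.Agent.H4.WEtSep

theorem flat_of_pure_ker {E B : Type u} [CommRing E] [CommRing B] (φ : E →+* B)
    (hφ : Function.Surjective φ)
    (h : ∀ c ∈ RingHom.ker φ, ∃ s : E, φ s = 1 ∧ c * s = 0) : φ.Flat := by
  letI := φ.toAlgebra
  have hpure : (RingHom.ker φ).Pure := by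
    apply Ideal.Pure.of_inf_eq_mul
    intro J _
    refine le_antisymm ?_ Ideal.mul_le_inf
    rintro x ⟨hxI, hxJ⟩
    obtain ⟨s, hs1, hs2⟩ := h x hxI
    have h1 : (1 - s) ∈ RingHom.ker φ := by
      rw [RingHom.mem_ker, map_sub, map_one, hs1, sub_self]
    have h2 : x = (1 - s) * x := by
      rw [sub_mul, one_mul, mul_comm s x, hs2, sub_zero]
    rw [h2]
    exact Ideal.mul_mem_mul h1 hxJ
  have hsurj : Function.Surjective (Algebra.ofId E B) := hφ
  let e : (E ⧸ RingHom.ker (Algebra.ofId E B)) ≃ₐ[E] B :=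
    Ideal.quotientKerAlgEquivOfSurjective hsurj
  have hker : RingHom.ker (Algebra.ofId E B) = RingHom.ker φ := rfl
  show Module.Flat E B
  haveI : Module.Flat E (E ⧸ RingHom.ker (Algebra.ofId E B)) := by rw [hker]; exact hpure
  exact Module.Flat.of_linearEquiv e.toLinearEquiv.symm

section Idem
variable {K B : Type u} [Field K] [CommRing B] [Algebra K B]

/-- separability element of a single element killed by a separable polynomial -/
theorem exists_sepIdem (b : B) (p : K[X]) (hp : p.Separable) (hb : aeval b p = 0) :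
    ∃ s : B ⊗[K] B, Algebra.TensorProduct.lmul' K (S := B) s = 1 ∧
      (b ⊗ₜ[K] (1 : B) - (1 : B) ⊗ₜ[K] b) * s = 0 := by
  set α : B ⊗[K] B := b ⊗ₜ[K] (1 : B) with hα
  set β : B ⊗[K] B := (1 : B) ⊗ₜ[K] b with hβ
  have hαe : aeval α p = 0 := by
    have : α = (Algebra.TensorProduct.includeLeft : B →ₐ[K] B ⊗[K] B) b := rfl
    rw [this, aeval_algHom_apply, hb, map_zero]
  have hβe : aeval β p = 0 := by
    have : β = (Algebra.TensorProduct.includeRight : B →ₐ[K] B ⊗[K] B) b := rfl
    rw [this, aeval_algHom_apply, hb, map_zero]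
  obtain ⟨k, hk⟩ := Polynomial.binomExpansion (p.map (algebraMap K (B ⊗[K] B))) β (α - β)
  rw [add_sub_cancel, eval_map_algebraMap, eval_map_algebraMap, hαe, hβe, zero_add,
    derivative_map, eval_map_algebraMap] at hk
  obtain ⟨u, v, huv⟩ := hp
  have hmα : Algebra.TensorProduct.lmul' K (S := B) α = b := by simp [hα]
  have hmβ : Algebra.TensorProduct.lmul' K (S := B) β = b := by simp [hβ]
  refine ⟨aeval β v * (aeval β (derivative p) + k * (α - β)), ?_, ?_⟩
  · rw [map_mul, map_add, map_mul, map_sub, hmα, hmβ, sub_self, mul_zero, add_zero,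
      ← aeval_algHom_apply, ← aeval_algHom_apply, hmβ, ← map_mul]
    have h1 := congrArg (aeval b) huv
    rw [map_add, map_mul, map_mul, hb, mul_zero, zero_add, map_one] at h1
    rw [map_mul]
    exact h1
  · have : (α - β) * (aeval β v * (aeval β (derivative p) + k * (α - β))) =
        aeval β v * (aeval β (derivative p) * (α - β) + k * (α - β) ^ 2) := by ring
    rw [this, ← hk, mul_zero]

/-- if a set of generators has separability elements, the multiplication map is flat -/
theorem flat_lmul'_of_generators (G : Set B) (hG : Algebra.adjoin K G = ⊤)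
    (h : ∀ g ∈ G, ∃ s : B ⊗[K] B, Algebra.TensorProduct.lmul' K (S := B) s = 1 ∧
      (g ⊗ₜ[K] (1 : B) - (1 : B) ⊗ₜ[K] g) * s = 0) :
    (Algebra.TensorProduct.lmul' K (S := B)).Flat := by
  -- all elements have separability elements
  have hall : ∀ y : B, ∃ s : B ⊗[K] B, Algebra.TensorProduct.lmul' K (S := B) s = 1 ∧
      (y ⊗ₜ[K] (1 : B) - (1 : B) ⊗ₜ[K] y) * s = 0 := by
    intro y
    have hy : y ∈ Algebra.adjoin K G := by rw [hG]; trivial
    induction hy using Algebra.adjoin_induction with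
    | mem x hx => exact h x hx
    | algebraMap r =>
      refine ⟨1, map_one _, ?_⟩
      rw [mul_one, Algebra.algebraMap_eq_smul_one, TensorProduct.smul_tmul, sub_self]
    | add x y _ _ hx hy =>
      obtain ⟨s, hs1, hs2⟩ := hx
      obtain ⟨t, ht1, ht2⟩ := hy
      refine ⟨s * t, by rw [map_mul, hs1, ht1, mul_one], ?_⟩
      have : ((x + y) ⊗ₜ[K] (1 : B) - (1 : B) ⊗ₜ[K] (x + y)) * (s * t) =
          ((x ⊗ₜ[K] (1 : B) - (1 : B) ⊗ₜ[K] x) * s) * t +
          ((y ⊗ₜ[K] (1 : B) - (1 : B) ⊗ₜ[K] y) * t) * s := by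
        rw [TensorProduct.add_tmul, TensorProduct.tmul_add]; ring
      rw [this, hs2, ht2, zero_mul, zero_mul, add_zero]
    | mul x y _ _ hx hy =>
      obtain ⟨s, hs1, hs2⟩ := hx
      obtain ⟨t, ht1, ht2⟩ := hy
      refine ⟨s * t, by rw [map_mul, hs1, ht1, mul_one], ?_⟩
      have : ((x * y) ⊗ₜ[K] (1 : B) - (1 : B) ⊗ₜ[K] (x * y)) * (s * t) =
          (x ⊗ₜ[K] (1 : B)) * (((y ⊗ₜ[K] (1 : B) - (1 : B) ⊗ₜ[K] y) * t) * s) +
          ((1 : B) ⊗ₜ[K] y) * (((x ⊗ₜ[K] (1 : B) - (1 : B) ⊗ₜ[K] x) * s) * t) := by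
        have e1 : (x * y) ⊗ₜ[K] (1 : B) = (x ⊗ₜ[K] (1 : B)) * (y ⊗ₜ[K] (1 : B)) := by
          rw [Algebra.TensorProduct.tmul_mul_tmul, mul_one]
        have e2 : (1 : B) ⊗ₜ[K] (x * y) = ((1 : B) ⊗ₜ[K] x) * ((1 : B) ⊗ₜ[K] y) := by
          rw [Algebra.TensorProduct.tmul_mul_tmul, mul_one]
        rw [e1, e2]; ring
      rw [this, hs2, ht2, zero_mul, zero_mul, mul_zero, mul_zero, add_zero]
  -- the kernel is pure
  let φ : B ⊗[K] B →ₐ[K] B := Algebra.TensorProduct.lmul' K (S := B)
  have hspan : ∀ c ∈ Ideal.span (Set.range fun s : B => (1 : B) ⊗ₜ[K] s - s ⊗ₜ[K] (1 : B)),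
      ∃ s : B ⊗[K] B, φ s = 1 ∧ c * s = 0 := by
    intro c hc
    induction hc using Submodule.span_induction with
    | mem x hx =>
      obtain ⟨y, rfl⟩ := hx
      obtain ⟨s, hs1, hs2⟩ := hall y
      refine ⟨s, hs1, ?_⟩
      have : ((1 : B) ⊗ₜ[K] y - y ⊗ₜ[K] (1 : B)) * s =
          -((y ⊗ₜ[K] (1 : B) - (1 : B) ⊗ₜ[K] y) * s) := by ring
      rw [this, hs2, neg_zero]
    | zero => exact ⟨1, map_one _, zero_mul _⟩
    | add x y _ _ hx hy =>
      obtain ⟨s, hs1, hs2⟩ := hx
      obtain ⟨t, ht1, ht2⟩ := hy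
      refine ⟨s * t, by rw [map_mul, hs1, ht1, mul_one], ?_⟩
      have : (x + y) * (s * t) = (x * s) * t + (y * t) * s := by ring
      rw [this, hs2, ht2, zero_mul, zero_mul, add_zero]
    | smul a x _ hx =>
      obtain ⟨s, hs1, hs2⟩ := hx
      refine ⟨s, hs1, ?_⟩
      rw [smul_eq_mul, mul_assoc, hs2, mul_zero]
  have hker : ∀ c ∈ RingHom.ker φ, ∃ s : B ⊗[K] B, φ s = 1 ∧ c * s = 0 := by
    intro c hc
    apply hspan
    rw [KaehlerDifferential.span_range_eq_ideal]
    exact hc
  exact flat_of_pure_ker φ.toRingHom (fun b => ⟨b ⊗ₜ 1, by simp [φ]⟩) hker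

theorem weaklyEtale_of_generators (G : Set B) (hG : Algebra.adjoin K G = ⊤)
    (h : ∀ g ∈ G, IsSeparable K g) : Algebra.WeaklyEtale K B := by
  refine ⟨inferInstance, flat_lmul'_of_generators G hG (fun g hg => ?_)⟩
  exact exists_sepIdem g (minpoly K g) (h g hg) (minpoly.aeval K g)

end Idem


section W1
variable {K B : Type u} [Field K] [CommRing B] [Algebra K B]

theorem flat_of_wet (h : (Algebra.TensorProduct.lmul' K (S := B)).Flat) (N : Type u)
    [AddCommGroup N] [Module B N] [Module K N] [IsScalarTower K B N] : Module.Flat B N :=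
  Groth.Agent.H4.WEt.main (A := K) (B := B) (N := N) h

theorem vnr_of_wet (h : (Algebra.TensorProduct.lmul' K (S := B)).Flat) (b : B) :
    ∃ b' : B, b = b * b * b' := by
  haveI : (Ideal.span {b}).Pure := flat_of_wet h (B ⧸ Ideal.span {b})
  obtain ⟨y, hy, hxy⟩ := Ideal.exists_eq_mul_of_pure (Ideal.mem_span_singleton_self b)
  obtain ⟨b', rfl⟩ := Ideal.mem_span_singleton'.mp hy
  exact ⟨b', by rw [mul_assoc, mul_comm b b']; exact hxy⟩

theorem isMaximal_of_isPrime (h : (Algebra.TensorProduct.lmul' K (S := B)).Flat) (p : Ideal B)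
    [p.IsPrime] : p.IsMaximal := by
  apply Ideal.Quotient.maximal_of_isField
  refine ⟨⟨0, 1, zero_ne_one⟩, mul_comm, ?_⟩
  intro a ha
  obtain ⟨b, rfl⟩ := Ideal.Quotient.mk_surjective a
  obtain ⟨b', hb'⟩ := vnr_of_wet h b
  refine ⟨Ideal.Quotient.mk p b', ?_⟩
  have h1 : Ideal.Quotient.mk p b * (1 - Ideal.Quotient.mk p b * Ideal.Quotient.mk p b') = 0 := by
    rw [← map_mul, ← map_one (Ideal.Quotient.mk p), ← map_sub, ← map_mul, mul_sub, mul_one,
      ← mul_assoc, ← hb', sub_self, map_zero]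
  rcases mul_eq_zero.mp h1 with h2 | h2
  · exact absurd h2 ha
  · exact (sub_eq_zero.mp h2).symm

theorem isSeparable_quot (h : (Algebra.TensorProduct.lmul' K (S := B)).Flat) (p : Ideal B)
    [p.IsMaximal] (b : B) : IsSeparable K (Ideal.Quotient.mk p b) := by
  letI := Ideal.Quotient.field p
  haveI : Algebra.WeaklyEtale K B := ⟨inferInstance, h⟩
  haveI : Algebra.WeaklyEtale B (B ⧸ p) :=
    ⟨flat_of_wet h (B ⧸ p),
      Groth.Agent.S7127.flat_lmul'_of_surjective Ideal.Quotient.mk_surjective⟩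
  haveI : Algebra.WeaklyEtale K (B ⧸ p) := Algebra.WeaklyEtale.trans K B (B ⧸ p)
  exact Groth.Agent.H4.WEtField.main_field (Algebra.WeaklyEtale.flat_lmul' K (B ⧸ p)) _


theorem isIntegral_of_wet (h : (Algebra.TensorProduct.lmul' K (S := B)).Flat) (b : B) :
    IsIntegral K b := by
  by_contra hni
  let M : Submonoid B := (nonZeroDivisors K[X]).map ((aeval b : K[X] →ₐ[K] B) : K[X] →* B)
  have h0 : (0 : B) ∉ M := by
    rintro ⟨P, hP, hP0⟩
    apply hni
    exact isAlgebraic_iff_isIntegral.mp ⟨P, nonZeroDivisors.ne_zero hP, hP0⟩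
  obtain ⟨p, hp, -, hdisj⟩ := Ideal.exists_le_prime_disjoint (⊥ : Ideal B) M (by
    rw [Set.disjoint_left]
    intro x hx hxM
    rw [SetLike.mem_coe, Ideal.mem_bot] at hx
    subst hx
    exact h0 hxM)
  haveI := hp
  haveI := isMaximal_of_isPrime h p
  have hsep := isSeparable_quot h p b
  have hint : IsIntegral K (Ideal.Quotient.mk p b) := hsep.isIntegral
  have hm0 : minpoly K (Ideal.Quotient.mk p b) ≠ 0 := minpoly.ne_zero hint
  have hmem : aeval b (minpoly K (Ideal.Quotient.mk p b)) ∈ p := by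
    rw [← Ideal.Quotient.eq_zero_iff_mem, ← Ideal.Quotient.mkₐ_eq_mk K, ← aeval_algHom_apply,
      Ideal.Quotient.mkₐ_eq_mk]
    exact minpoly.aeval K _
  exact Set.disjoint_left.mp hdisj hmem ⟨_, mem_nonZeroDivisors_of_ne_zero hm0, rfl⟩

theorem isSeparable_of_wet (h : (Algebra.TensorProduct.lmul' K (S := B)).Flat) (b : B) :
    IsSeparable K b := by
  haveI : Algebra.WeaklyEtale K B := ⟨inferInstance, h⟩
  haveI : IsReduced B := Groth.Agent.S7128.result K B
  have hint := isIntegral_of_wet h b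
  have hm0 : minpoly K b ≠ 0 := minpoly.ne_zero hint
  show (minpoly K b).Separable
  by_contra hns
  have hnc : ¬ IsCoprime (minpoly K b) (derivative (minpoly K b)) := hns
  obtain ⟨z, hz, hzm, hzd⟩ : ∃ z, Prime z ∧ z ∣ minpoly K b ∧ z ∣ derivative (minpoly K b) := by
    by_contra hno
    push Not at hno
    exact hnc (isCoprime_of_prime_dvd (fun hh => hm0 hh.1) (fun z hz hzm hzd => hno z hz hzm hzd))
  obtain ⟨n, hn⟩ := hzm
  have hzdeg : 0 < z.natDegree := hz.irreducible.natDegree_pos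
  have hn0 : n ≠ 0 := by rintro rfl; rw [mul_zero] at hn; exact hm0 hn
  have hz0 : z ≠ 0 := hz.ne_zero
  have hdeg : (minpoly K b).natDegree = z.natDegree + n.natDegree := by
    rw [hn, natDegree_mul hz0 hn0]
  -- n(b) ≠ 0
  have hnb : aeval b n ≠ 0 := by
    intro h0
    have := natDegree_le_of_dvd (minpoly.dvd K b h0) hn0
    omega
  -- a prime not containing n(b)
  have hnil : ¬ IsNilpotent (aeval b n) := fun hh => hnb hh.eq_zero
  obtain ⟨p, hp, -, hdisj⟩ := Ideal.exists_le_prime_disjoint (⊥ : Ideal B)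
    (Submonoid.powers (aeval b n)) (by
    rw [Set.disjoint_left]
    intro x hx hxM
    rw [SetLike.mem_coe, Ideal.mem_bot] at hx
    subst hx
    obtain ⟨k, hk⟩ := hxM
    exact hnil ⟨k, hk⟩)
  haveI := hp
  haveI := isMaximal_of_isPrime h p
  letI := Ideal.Quotient.field p
  have hnp : aeval b n ∉ p := fun hh =>
    Set.disjoint_left.mp hdisj hh (Submonoid.mem_powers _)
  have hsep := isSeparable_quot h p b
  have hmk : ∀ q : K[X], aeval (Ideal.Quotient.mk p b) q = Ideal.Quotient.mk p (aeval b q) := by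
    intro q
    rw [← Ideal.Quotient.mkₐ_eq_mk K, aeval_algHom_apply]
  have hzb : aeval (Ideal.Quotient.mk p b) z = 0 := by
    have h1 : aeval (Ideal.Quotient.mk p b) (minpoly K b) = 0 := by
      rw [hmk, minpoly.aeval, map_zero]
    rw [hn, map_mul] at h1
    rcases mul_eq_zero.mp h1 with h2 | h2
    · exact h2
    · rw [hmk, Ideal.Quotient.eq_zero_iff_mem] at h2
      exact absurd h2 hnp
  have hzsep : z.Separable := by
    have h1 : minpoly K (Ideal.Quotient.mk p b) ∣ z := minpoly.dvd K _ hzb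
    have h2 : z ∣ minpoly K (Ideal.Quotient.mk p b) :=
      (minpoly.irreducible hsep.isIntegral).dvd_symm hz.irreducible h1
    exact Separable.of_dvd hsep h2
  -- z ∣ n
  have hzn : z ∣ n := by
    have h1 : derivative (minpoly K b) = derivative z * n + z * derivative n := by
      rw [hn, derivative_mul]
    rw [h1] at hzd
    have h2 : z ∣ derivative z * n := (dvd_add_left (dvd_mul_right z _)).mp hzd
    exact IsCoprime.dvd_of_dvd_mul_left hzsep h2
  obtain ⟨n₂, rfl⟩ := hzn
  have hn₂0 : n₂ ≠ 0 := by rintro rfl; exact hn0 (mul_zero _)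
  have hr : aeval b (z * n₂) = 0 := by
    have h1 : aeval b (z * n₂) ^ 2 = 0 := by
      have : (z * n₂) ^ 2 = minpoly K b * n₂ := by rw [hn]; ring
      rw [← map_pow, this, map_mul, minpoly.aeval, zero_mul]
    exact pow_eq_zero_iff (two_ne_zero) |>.mp h1
  have := natDegree_le_of_dvd (minpoly.dvd K b hr) (mul_ne_zero hz0 hn₂0)
  omega

end W1


section W
variable {K : Type u} [Field K]

theorem weaklyEtale_iff_isSeparable {B : Type u} [CommRing B] [Algebra K B] :
    Algebra.WeaklyEtale K B ↔ Algebra.IsSeparable K B :=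
  ⟨fun _ => ⟨fun b => isSeparable_of_wet (Algebra.WeaklyEtale.flat_lmul' K B) b⟩,
   fun _ => weaklyEtale_of_generators Set.univ (Algebra.adjoin_univ K B)
    (fun g _ => Algebra.IsSeparable.isSeparable K g)⟩

theorem isSeparable_map {B C : Type u} [CommRing B] [Algebra K B] [CommRing C] [Algebra K C]
    (f : B →ₐ[K] C) {b : B} (hb : IsSeparable K b) : IsSeparable K (f b) := by
  have h1 : aeval (f b) (minpoly K b) = 0 := by
    rw [aeval_algHom_apply, minpoly.aeval, map_zero]
  exact Separable.of_dvd hb (minpoly.dvd K _ h1)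

theorem isSeparable_of_injective {B C : Type u} [CommRing B] [Algebra K B] [CommRing C]
    [Algebra K C] (f : B →ₐ[K] C) (hf : Function.Injective f) {b : B}
    (hb : IsSeparable K (f b)) : IsSeparable K b := by
  have h1 : aeval b (minpoly K (f b)) = 0 := by
    apply hf
    rw [← aeval_algHom_apply, minpoly.aeval, map_zero]
  exact Separable.of_dvd hb (minpoly.dvd K _ h1)

variable {A : Type u} [CommRing A] [Algebra K A]

/-- Lemma Q: the subalgebra generated by separable elements is weakly étale. -/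
theorem weaklyEtale_adjoin (G : Set A) (hG : ∀ g ∈ G, IsSeparable K g) :
    Algebra.WeaklyEtale K (Algebra.adjoin K G) := by
  refine weaklyEtale_of_generators (((↑) : Algebra.adjoin K G → A) ⁻¹' G)
    Algebra.adjoin_adjoin_coe_preimage (fun g hg => ?_)
  exact isSeparable_of_injective (Algebra.adjoin K G).val Subtype.val_injective (hG _ hg)

theorem isSeparable_of_mem_weaklyEtale (S : Subalgebra K A) [Algebra.WeaklyEtale K S] {x : A}
    (hx : x ∈ S) : IsSeparable K x := by
  have h0 : (Algebra.TensorProduct.lmul' K (S := S)).Flat := Algebra.WeaklyEtale.flat_lmul' K S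
  have h1 : IsSeparable K (⟨x, hx⟩ : S) := isSeparable_of_wet h0 _
  have h2 : IsSeparable K (S.val ⟨x, hx⟩) := isSeparable_map S.val h1
  exact h2

theorem isSeparable_of_mem_adjoin (G : Set A) (hG : ∀ g ∈ G, IsSeparable K g) {x : A}
    (hx : x ∈ Algebra.adjoin K G) : IsSeparable K x := by
  haveI := weaklyEtale_adjoin G hG
  exact isSeparable_of_mem_weaklyEtale (Algebra.adjoin K G) hx

theorem weaklyEtale_subalgebra_iff (S : Subalgebra K A) :
    Algebra.WeaklyEtale K S ↔ ∀ x ∈ S, IsSeparable K x := by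
  constructor
  · intro _ x hx
    exact isSeparable_of_mem_weaklyEtale S hx
  · intro h
    rw [weaklyEtale_iff_isSeparable]
    exact ⟨fun x => isSeparable_of_injective S.val Subtype.val_injective (h _ x.2)⟩


variable (K A) in
/-- the subalgebra of separable elements -/
def sepSub : Subalgebra K A where
  carrier := {x | IsSeparable K x}
  mul_mem' := by
    intro x y hx hy
    refine isSeparable_of_mem_adjoin {x, y} ?_ (Subalgebra.mul_mem _
      (Algebra.subset_adjoin (by simp)) (Algebra.subset_adjoin (by simp)))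
    rintro g (rfl | rfl)
    · exact hx
    · exact hy
  add_mem' := by
    intro x y hx hy
    refine isSeparable_of_mem_adjoin {x, y} ?_ (Subalgebra.add_mem _
      (Algebra.subset_adjoin (by simp)) (Algebra.subset_adjoin (by simp)))
    rintro g (rfl | rfl)
    · exact hx
    · exact hy
  algebraMap_mem' := fun r => isSeparable_algebraMap r

theorem mem_sepSub {x : A} : x ∈ sepSub K A ↔ IsSeparable K x := Iff.rfl

instance weaklyEtale_sepSub : Algebra.WeaklyEtale K (sepSub K A) :=
  (weaklyEtale_subalgebra_iff _).mpr (fun _ hx => hx)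

theorem maxWeaklyEtale_eq : EtAlgD.maxWeaklyEtale K A = sepSub K A := by
  apply le_antisymm
  · apply sSup_le
    intro S hS x hx
    haveI : Algebra.WeaklyEtale K S := hS
    exact isSeparable_of_mem_weaklyEtale S hx
  · intro x hx
    have h1 : Algebra.WeaklyEtale K (Algebra.adjoin K {x}) := by
      apply weaklyEtale_adjoin
      rintro g rfl
      exact hx
    have h2 : Algebra.adjoin K {x} ≤ EtAlgD.maxWeaklyEtale K A := le_sSup h1
    exact h2 (Algebra.subset_adjoin rfl)

theorem mem_maxWeaklyEtale {x : A} : x ∈ EtAlgD.maxWeaklyEtale K A ↔ IsSeparable K x := by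
  rw [maxWeaklyEtale_eq]; rfl

theorem weaklyEtale_maxWeaklyEtale : Algebra.WeaklyEtale K (EtAlgD.maxWeaklyEtale K A) :=
  (weaklyEtale_subalgebra_iff _).mpr (fun _ hx => mem_maxWeaklyEtale.mp hx)

end W

end Groth.Agent.H4.WEtSep
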