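import Mathlib
import Groth.Prelude.Def_PBC
import Groth.Agent.H4.WEtSep
set_option autoImplicit false
universe u
open CategoryTheory CategoryTheory.Limits
namespace Groth.Agent.H4.IndEtElems

section Colim
variable {A : Type u} [CommRing A] {J : Type u} [SmallCategory J] [IsFiltered J]
  (D : J ⥤ Under (CommRingCat.of A)) (c : Cocone D) (hc : IsColimit c)

include hc in
theorem exists_rep (x : c.pt.right) : ∃ (j : J) (y : (D.obj j).right), (c.ι.app j).right y = x := by
  let F := Under.forget (CommRingCat.of A) ⋙ forget CommRingCat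
  have h := isColimitOfPreserves F hc
  obtain ⟨j, y, hy⟩ := Types.jointly_surjective_of_isColimit h x
  exact ⟨j, y, hy⟩

include hc in
theorem eq_of_map_eq (j : J) (y y' : (D.obj j).right)
    (h : (c.ι.app j).right y = (c.ι.app j).right y') :
    ∃ (k : J) (f : j ⟶ k), (D.map f).right y = (D.map f).right y' := by
  let F := Under.forget (CommRingCat.of A) ⋙ forget CommRingCat
  have h' := isColimitOfPreserves F hc
  exact (Types.FilteredColimit.isColimit_eq_iff' (F := D ⋙ F) h' y y').mp h

end Colim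


theorem indEtale_elementwise {A B : Type u} [CommRing A] [CommRing B] [Algebra A B]
    (h : EtPBC.IsIndEtale A B)
    {σ : Type*} [Fintype σ] (b : σ → B) (P : MvPolynomial σ A) (hP : MvPolynomial.aeval b P = 0) :
    ∃ (C : Type u) (_ : CommRing C) (_ : Algebra A C), Algebra.Etale A C ∧
      ∃ (g : C →ₐ[A] B) (c : σ → C), (∀ i, g (c i) = b i) ∧ MvPolynomial.aeval c P = 0 := by
  classical
  obtain ⟨J, _, _, D, c, hc, het, ⟨e⟩⟩ := h
  let γ : ∀ j, (D.obj j).right →+* B := fun j => ((c.ι.app j).right ≫ e.hom.right).hom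
  have hγ : ∀ {j k : J} (f : j ⟶ k) (y : (D.obj j).right), γ k ((D.map f).right y) = γ j y := by
    intro j k f y
    have h1 : D.map f ≫ c.ι.app k = c.ι.app j := c.w f
    have h2 : (D.map f).right ≫ (c.ι.app k).right = (c.ι.app j).right := by
      rw [← Under.comp_right, h1]
    have h3 : (D.map f).right ≫ ((c.ι.app k).right ≫ e.hom.right) =
        (c.ι.app j).right ≫ e.hom.right := by rw [← Category.assoc, h2]
    exact congrArg (fun φ => φ.hom y) h3
  have hγA : ∀ (j : J) (a : A), γ j ((D.obj j).hom.hom a) = algebraMap A B a := by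
    intro j a
    have h1 : (D.obj j).hom ≫ (c.ι.app j ≫ e.hom).right =
        (Under.mk (CommRingCat.ofHom (algebraMap A B))).hom := Under.w (c.ι.app j ≫ e.hom)
    have h2 := congrArg (fun φ => φ.hom a) h1
    exact h2
  have hD : ∀ {j k : J} (f : j ⟶ k) (a : A),
      (D.map f).right ((D.obj j).hom.hom a) = (D.obj k).hom.hom a := by
    intro j k f a
    have h1 : (D.obj j).hom ≫ (D.map f).right = (D.obj k).hom := Under.w (D.map f)
    exact congrArg (fun φ => φ.hom a) h1
  -- Step 1
  have h1 : ∀ i, ∃ (j : J) (y : (D.obj j).right), γ j y = b i := by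
    intro i
    obtain ⟨j, y, hy⟩ := exists_rep D c hc (e.inv.right (b i))
    refine ⟨j, y, ?_⟩
    show e.hom.right ((c.ι.app j).right y) = b i
    rw [hy]
    have : e.inv.right ≫ e.hom.right = 𝟙 _ := by rw [← Under.comp_right, e.inv_hom_id]; rfl
    exact congrArg (fun φ => φ.hom (b i)) this
  choose j₀ y₀ hy₀ using h1
  obtain ⟨j, hj⟩ := IsFiltered.sup_objs_exists (Finset.univ.image j₀)
  have hf : ∀ i, Nonempty (j₀ i ⟶ j) := fun i =>
    hj (Finset.mem_image_of_mem _ (Finset.mem_univ i))
  let f := fun i => (hf i).some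
  let c₁ : σ → (D.obj j).right := fun i => (D.map (f i)).right (y₀ i)
  have hc₁ : ∀ i, γ j (c₁ i) = b i := fun i => by rw [hγ, hy₀]
  letI algj : Algebra A (D.obj j).right := (D.obj j).hom.hom.toAlgebra
  let gj : (D.obj j).right →ₐ[A] B := { γ j with commutes' := hγA j }
  have hz : γ j (MvPolynomial.aeval c₁ P) = γ j 0 := by
    have : gj (MvPolynomial.aeval c₁ P) = MvPolynomial.aeval (fun i => gj (c₁ i)) P :=
      MvPolynomial.comp_aeval_apply c₁ gj P
    rw [map_zero]
    show gj (MvPolynomial.aeval c₁ P) = 0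
    rw [this]
    have h2 : (fun i => gj (c₁ i)) = b := funext hc₁
    rw [h2, hP]
  obtain ⟨k, fk, hk⟩ := eq_of_map_eq D c hc j (MvPolynomial.aeval c₁ P) 0 (by
    apply_fun e.hom.right.hom
    · exact hz
    · intro x y hxy
      have : e.hom.right ≫ e.inv.right = 𝟙 _ := by rw [← Under.comp_right, e.hom_inv_id]; rfl
      have hx := congrArg (fun φ => φ.hom x) this
      have hy := congrArg (fun φ => φ.hom y) this
      simp only [CommRingCat.hom_comp, RingHom.coe_comp, Function.comp_apply] at hx hy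
      have := congrArg e.inv.right.hom hxy
      rw [hx, hy] at this
      exact this)
  letI algk : Algebra A (D.obj k).right := (D.obj k).hom.hom.toAlgebra
  let φ : (D.obj j).right →ₐ[A] (D.obj k).right :=
    { (D.map fk).right.hom with commutes' := hD fk }
  let gk : (D.obj k).right →ₐ[A] B := { γ k with commutes' := hγA k }
  refine ⟨(D.obj k).right, inferInstance, algk, het k, gk, fun i => φ (c₁ i), ?_, ?_⟩
  · intro i
    show γ k ((D.map fk).right (c₁ i)) = b i
    rw [hγ, hc₁]
  · rw [← MvPolynomial.comp_aeval_apply c₁ φ P]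
    show (D.map fk).right (MvPolynomial.aeval c₁ P) = 0
    rw [hk, map_zero]


open TensorProduct in
theorem weaklyEtale_of_isIndEtale (A B : Type u) [CommRing A] [CommRing B] [Algebra A B]
    (h : EtPBC.IsIndEtale A B) : Algebra.WeaklyEtale A B := by
  classical
  have hflat : Module.Flat A B := by
    refine Module.Flat.of_forall_isTrivialRelation ?_
    intro l f x hfx
    let P : MvPolynomial (Fin l) A := ∑ i, MvPolynomial.C (f i) * MvPolynomial.X i
    have hP : MvPolynomial.aeval x P = 0 := by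
      simp only [P, map_sum, map_mul, MvPolynomial.aeval_C, MvPolynomial.aeval_X]
      rw [← hfx]
      exact Finset.sum_congr rfl (fun i _ => (Algebra.smul_def _ _).symm)
    obtain ⟨C, _, _, hC, g, c, hgc, hPc⟩ := indEtale_elementwise h x P hP
    have hrel : ∑ i, f i • c i = 0 := by
      rw [← hPc]
      simp only [P, map_sum, map_mul, MvPolynomial.aeval_C, MvPolynomial.aeval_X]
      exact Finset.sum_congr rfl (fun i _ => Algebra.smul_def _ _)
    obtain ⟨k, a, y, h1, h2⟩ := Module.Flat.isTrivialRelation_of_sum_smul_eq_zero (R := A) (M := C)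
      (f := f) (x := c) hrel
    refine ⟨k, a, fun j => g (y j), fun i => ?_, h2⟩
    rw [← hgc i, h1 i, map_sum]
    exact Finset.sum_congr rfl (fun j _ => map_smul g _ _)
  refine ⟨hflat, ?_⟩
  let φ : B ⊗[A] B →ₐ[A] B := Algebra.TensorProduct.lmul' A (S := B)
  refine Groth.Agent.H4.WEtSep.flat_of_pure_ker φ.toRingHom (fun b => ⟨b ⊗ₜ 1, by simp [φ]⟩) ?_
  intro z hz
  obtain ⟨S, hS⟩ := TensorProduct.exists_finset z
  let b : (S ⊕ S) → B := Sum.elim (fun i => i.1.1) (fun i => i.1.2)
  let P : MvPolynomial (S ⊕ S) A := ∑ i : S, MvPolynomial.X (Sum.inl i) * MvPolynomial.X (Sum.inr i)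
  have hP : MvPolynomial.aeval b P = 0 := by
    simp only [P, map_sum, map_mul, MvPolynomial.aeval_X, b, Sum.elim_inl, Sum.elim_inr]
    have : φ z = 0 := hz
    rw [hS, map_sum] at this
    rw [← this, ← Finset.sum_coe_sort S]
    exact Finset.sum_congr rfl (fun i _ => by simp [φ])
  obtain ⟨C, _, _, hC, g, c, hgc, hPc⟩ := indEtale_elementwise h b P hP
  haveI := hC
  let zC : C ⊗[A] C := ∑ i : S, c (Sum.inl i) ⊗ₜ[A] c (Sum.inr i)
  have hzC : (Algebra.TensorProduct.lmul' A (S := C)).toRingHom zC = 0 := by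
    simp only [zC, AlgHom.toRingHom_eq_coe, RingHom.coe_coe, map_sum,
      Algebra.TensorProduct.lmul'_apply_tmul]
    rw [← hPc]
    simp [P]
  obtain ⟨sC, hs1, hs2⟩ := Groth.Agent.H4.WEt.pure_of_flat
    (Algebra.TensorProduct.lmul' A (S := C)).toRingHom (fun x => ⟨x ⊗ₜ 1, by simp⟩)
    (Algebra.WeaklyEtale.flat_lmul' A C) zC hzC
  let G : C ⊗[A] C →ₐ[A] B ⊗[A] B := Algebra.TensorProduct.map g g
  have hG : ∀ x, φ (G x) = g (Algebra.TensorProduct.lmul' A (S := C) x) := by
    intro x
    induction x using TensorProduct.induction_on with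
    | zero => simp
    | tmul x y => simp [G, φ]
    | add x y hx hy => rw [map_add, map_add, hx, hy, map_add, map_add]
  have hGz : G zC = z := by
    rw [hS, ← Finset.sum_coe_sort S]
    simp only [zC, map_sum, G, Algebra.TensorProduct.map_tmul]
    refine Finset.sum_congr rfl (fun i _ => ?_)
    rw [hgc, hgc]
    rfl
  refine ⟨G sC, ?_, ?_⟩
  · show φ (G sC) = 1
    rw [hG]
    have : (Algebra.TensorProduct.lmul' A (S := C)) sC = 1 := hs1
    rw [this, map_one]
  · rw [← hGz, ← map_mul, hs2, map_zero]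

end Groth.Agent.H4.IndEtElems
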