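import Mathlib
import Groth.Prelude.Def_PBC
import Groth.Agent.H4.IndEtElems

set_option autoImplicit false
universe u
open CategoryTheory CategoryTheory.Limits TensorProduct

namespace Groth.Agent.H4.IndEtCrit

section Recognize
variable {A : Type u} [CommRing A] {J : Type u} [SmallCategory J] [IsFiltered J]
  (D : J ⥤ Under (CommRingCat.of A)) (c : Cocone D)

noncomputable def isColimit_of_elementwise
    (hsurj : ∀ x : c.pt.right, ∃ (j : J) (y : (D.obj j).right), (c.ι.app j).right y = x)
    (hinj : ∀ (j : J) (y y' : (D.obj j).right), (c.ι.app j).right y = (c.ι.app j).right y' →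
       ∃ (k : J) (f : j ⟶ k), (D.map f).right y = (D.map f).right y') : IsColimit c := by
  let F := Under.forget (CommRingCat.of A) ⋙ forget CommRingCat
  haveI : ReflectsColimit D F := reflectsColimit_of_reflectsIsomorphisms D F
  apply isColimitOfReflects F
  exact Types.FilteredColimit.isColimitOf' _ _
    (fun x => by obtain ⟨j, y, h⟩ := hsurj x; exact ⟨j, y, h.symm⟩)
    (fun j y y' h => hinj j y y' h)

end Recognize

/-- Coequalizer of two maps between étale algebras is étale. -/
theorem etale_coeq {A X Y : Type u} [CommRing A] [CommRing X] [CommRing Y] [Algebra A X] [Algebra A Y]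
    [Algebra.Etale A X] [Algebra.Etale A Y] (h₁ h₂ : X →ₐ[A] Y) :
    Algebra.Etale A (Y ⧸ Ideal.span (Set.range fun x => h₁ x - h₂ x)) := by
  set J := Ideal.span (Set.range fun x => h₁ x - h₂ x) with hJ
  have hmk : (Ideal.Quotient.mkₐ A J).comp h₁ = (Ideal.Quotient.mkₐ A J).comp h₂ := by
    ext x
    simp only [AlgHom.comp_apply, Ideal.Quotient.mkₐ_eq_mk]
    rw [Ideal.Quotient.eq]
    exact Ideal.subset_span ⟨x, rfl⟩
  -- finite presentation
  have hfg : J.FG := by
    obtain ⟨s, hs⟩ := (Algebra.FiniteType.out : (⊤ : Subalgebra A X).FG)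
    classical
    refine ⟨s.image (fun x => h₁ x - h₂ x), ?_⟩
    set J' := Ideal.span ((s.image (fun x => h₁ x - h₂ x) : Finset Y) : Set Y) with hJ'
    apply le_antisymm
    · apply Ideal.span_mono
      intro y hy
      simp only [Finset.coe_image, Set.mem_image] at hy
      obtain ⟨x, -, rfl⟩ := hy
      exact ⟨x, rfl⟩
    · rw [hJ, Ideal.span_le]
      rintro _ ⟨x, rfl⟩
      have heq : (Ideal.Quotient.mkₐ A J').comp h₁ = (Ideal.Quotient.mkₐ A J').comp h₂ := by
        apply AlgHom.ext_of_adjoin_eq_top hs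
        intro x hx
        simp only [AlgHom.comp_apply, Ideal.Quotient.mkₐ_eq_mk]
        rw [Ideal.Quotient.eq]
        apply Ideal.subset_span
        simp only [Finset.coe_image, Set.mem_image]
        exact ⟨x, hx, rfl⟩
      have := congrArg (fun φ => φ x) heq
      simp only [AlgHom.comp_apply, Ideal.Quotient.mkₐ_eq_mk] at this
      exact Ideal.Quotient.eq.mp this
  haveI : Algebra.FinitePresentation A (Y ⧸ J) := Algebra.FinitePresentation.quotient hfg
  haveI : Algebra.FormallyEtale A (Y ⧸ J) := by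
    rw [Algebra.FormallyEtale.iff_comp_bijective]
    intro T _ _ I hI
    constructor
    · intro φ₁ φ₂ h
      have h' : φ₁.comp (Ideal.Quotient.mkₐ A J) = φ₂.comp (Ideal.Quotient.mkₐ A J) := by
        apply Algebra.FormallyUnramified.comp_injective I hI
        rw [← AlgHom.comp_assoc, ← AlgHom.comp_assoc]
        exact congrArg (fun ψ => ψ.comp (Ideal.Quotient.mkₐ A J)) h
      exact (AlgHom.cancel_right (Ideal.Quotient.mkₐ_surjective A J)).mp h'
    · intro ψb
      obtain ⟨ψ, hψ⟩ := Algebra.FormallySmooth.comp_surjective A Y I hI (ψb.comp (Ideal.Quotient.mkₐ A J))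
      have hψ12 : ψ.comp h₁ = ψ.comp h₂ := by
        apply Algebra.FormallyUnramified.comp_injective I hI
        show (Ideal.Quotient.mkₐ A I).comp (ψ.comp h₁) = (Ideal.Quotient.mkₐ A I).comp (ψ.comp h₂)
        rw [← AlgHom.comp_assoc, ← AlgHom.comp_assoc, hψ, AlgHom.comp_assoc, AlgHom.comp_assoc, hmk]
      have hker : ∀ a ∈ J, ψ a = 0 := by
        intro a ha
        have : J ≤ RingHom.ker ψ.toRingHom := by
          rw [hJ, Ideal.span_le]
          rintro _ ⟨x, rfl⟩
          have := congrArg (fun φ => φ x) hψ12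
          simp only [AlgHom.comp_apply] at this
          simp [RingHom.mem_ker, map_sub, this]
        exact this ha
      refine ⟨Ideal.Quotient.liftₐ J ψ hker, ?_⟩
      apply (AlgHom.cancel_right (Ideal.Quotient.mkₐ_surjective A J)).mp
      rw [AlgHom.comp_assoc, Ideal.Quotient.liftₐ_comp, hψ]
  exact {}


section Cat
variable (A B : Type u) [CommRing A] [CommRing B] [Algebra A B]

/-- The elementwise criterion for being ind-étale. -/
structure Crit : Prop where
  lift : ∀ b : B, ∃ (C : Type u) (_ : CommRing C) (_ : Algebra A C) (_ : Algebra.Etale A C)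
    (g : C →ₐ[A] B) (c : C), g c = b
  kill : ∀ (C : Type u) [CommRing C] [Algebra A C] [Algebra.Etale A C] (g : C →ₐ[A] B) (c : C),
    g c = 0 → ∃ (C' : Type u) (_ : CommRing C') (_ : Algebra A C') (_ : Algebra.Etale A C')
      (h : C →ₐ[A] C') (g' : C' →ₐ[A] B), g'.comp h = g ∧ h c = 0

/-- Objects: étale quotients of polynomial rings mapping to `B`. -/
structure EtObj where
  n : ℕ
  I : Ideal (MvPolynomial (Fin n) A)
  het : Algebra.Etale A (MvPolynomial (Fin n) A ⧸ I)
  g : (MvPolynomial (Fin n) A ⧸ I) →ₐ[A] B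

variable {A B}

abbrev EtObj.R (X : EtObj A B) : Type u := MvPolynomial (Fin X.n) A ⧸ X.I

instance (X : EtObj A B) : Algebra.Etale A X.R := X.het

noncomputable instance : Category (EtObj A B) where
  Hom X Y := {h : X.R →ₐ[A] Y.R // Y.g.comp h = X.g}
  id X := ⟨AlgHom.id A _, AlgHom.comp_id _⟩
  comp f g := ⟨g.1.comp f.1, by rw [← AlgHom.comp_assoc, g.2, f.2]⟩
  id_comp f := Subtype.ext (AlgHom.comp_id _)
  comp_id f := Subtype.ext (AlgHom.id_comp _)
  assoc f g h := Subtype.ext (AlgHom.comp_assoc _ _ _).symm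

lemma exists_obj (C : Type u) [CommRing C] [Algebra A C] [Algebra.Etale A C] (g : C →ₐ[A] B) :
    ∃ (X : EtObj A B) (e : X.R ≃ₐ[A] C), g.comp e.toAlgHom = X.g := by
  obtain ⟨n, f, hf, -⟩ := Algebra.FinitePresentation.out (R := A) (A := C)
  let e : (MvPolynomial (Fin n) A ⧸ RingHom.ker f) ≃ₐ[A] C :=
    Ideal.quotientKerAlgEquivOfSurjective hf
  exact ⟨⟨n, RingHom.ker f, Algebra.Etale.of_equiv e.symm, g.comp e.toAlgHom⟩, e, rfl⟩

instance etale_tensor (X Y : Type u) [CommRing X] [CommRing Y] [Algebra A X] [Algebra A Y]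
    [Algebra.Etale A X] [Algebra.Etale A Y] : Algebra.Etale A (X ⊗[A] Y) :=
  Algebra.Etale.comp A X (X ⊗[A] Y)

instance : IsFiltered (EtObj A B) where
  nonempty := by
    obtain ⟨X, -, -⟩ := exists_obj (A := A) (B := B) A (Algebra.ofId A B)
    exact ⟨X⟩
  cocone_objs X Y := by
    obtain ⟨Z, e, he⟩ := exists_obj (X.R ⊗[A] Y.R)
      (Algebra.TensorProduct.lift X.g Y.g (fun _ _ => Commute.all _ _))
    refine ⟨Z, ⟨e.symm.toAlgHom.comp Algebra.TensorProduct.includeLeft, ?_⟩,
      ⟨e.symm.toAlgHom.comp Algebra.TensorProduct.includeRight, ?_⟩, trivial⟩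
    · rw [← he]; ext x; simp
    · rw [← he]; ext x; simp
  cocone_maps {X Y} f g := by
    let J := Ideal.span (Set.range fun x => f.1 x - g.1 x)
    haveI : Algebra.Etale A (Y.R ⧸ J) := etale_coeq f.1 g.1
    have hker : ∀ a ∈ J, Y.g a = 0 := by
      intro a ha
      have : J ≤ RingHom.ker Y.g.toRingHom := by
        rw [Ideal.span_le]
        rintro _ ⟨x, rfl⟩
        have h1 := congrArg (fun φ => φ x) f.2
        have h2 := congrArg (fun φ => φ x) g.2
        simp only [AlgHom.comp_apply] at h1 h2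
        simp [RingHom.mem_ker, map_sub, h1, h2]
      exact this ha
    obtain ⟨Z, e, he⟩ := exists_obj (Y.R ⧸ J) (Ideal.Quotient.liftₐ J Y.g hker)
    refine ⟨Z, ⟨e.symm.toAlgHom.comp (Ideal.Quotient.mkₐ A J), ?_⟩, ?_⟩
    · rw [← he]; ext x; simp
    · apply Subtype.ext
      show (e.symm.toAlgHom.comp (Ideal.Quotient.mkₐ A J)).comp f.1 =
        (e.symm.toAlgHom.comp (Ideal.Quotient.mkₐ A J)).comp g.1
      rw [AlgHom.comp_assoc, AlgHom.comp_assoc]
      congr 1
      ext x
      simp only [AlgHom.comp_apply, Ideal.Quotient.mkₐ_eq_mk]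
      rw [Ideal.Quotient.eq]
      exact Ideal.subset_span ⟨x, rfl⟩

variable (A B) in
noncomputable def Dfun : EtObj A B ⥤ Under (CommRingCat.of A) where
  obj X := Under.mk (CommRingCat.ofHom (algebraMap A X.R))
  map {X Y} f := Under.homMk (CommRingCat.ofHom f.1.toRingHom) (by
    ext a
    exact f.1.commutes a)
  map_id X := by ext x; rfl
  map_comp f g := by ext x; rfl

variable (A B) in
noncomputable def cocone : Cocone (Dfun A B) where
  pt := Under.mk (CommRingCat.ofHom (algebraMap A B))
  ι :=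
    { app := fun X => Under.homMk (CommRingCat.ofHom X.g.toRingHom) (by
        ext a
        exact X.g.commutes a)
      naturality := fun X Y f => by
        ext x
        exact congrArg (fun φ => φ x) f.2 }

noncomputable def isCol (h : Crit A B) : IsColimit (cocone A B) := by
  refine isColimit_of_elementwise (Dfun A B) (cocone A B) ?_ ?_
  · intro (b : B)
    obtain ⟨C, _, _, _, g, c, hc⟩ := h.lift b
    obtain ⟨X, e, he⟩ := exists_obj C g
    refine ⟨X, e.symm c, ?_⟩
    show X.g (e.symm c) = b
    rw [← he]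
    simp [hc]
  · intro X (y : X.R) (y' : X.R) (hy : X.g y = X.g y')
    have h0 : X.g (y - y') = 0 := by rw [map_sub, hy, sub_self]
    obtain ⟨C', _, _, _, k, g', hk, hk0⟩ := h.kill X.R X.g (y - y') h0
    obtain ⟨Z, e, he⟩ := exists_obj C' g'
    refine ⟨Z, ⟨e.symm.toAlgHom.comp k, ?_⟩, ?_⟩
    · rw [← he, ← hk]; ext x; simp
    · show e.symm (k y) = e.symm (k y')
      rw [map_sub, sub_eq_zero] at hk0
      rw [hk0]

theorem isIndEtale_of_crit (h : Crit A B) : EtPBC.IsIndEtale A B := by
  refine ⟨EtObj A B, inferInstance, inferInstance, Dfun A B, cocone A B, isCol h, ?_, ⟨Iso.refl _⟩⟩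
  intro X
  have halg : ((Dfun A B).obj X).hom.hom.toAlgebra = (inferInstance : Algebra A X.R) :=
    Algebra.algebra_ext _ _ (fun r => rfl)
  show @Algebra.Etale A X.R _ _ ((Dfun A B).obj X).hom.hom.toAlgebra
  rw [halg]
  exact X.het

end Cat

open Groth.Agent.H4.IndEtElems

section Stage
variable {A B : Type u} [CommRing A] [CommRing B] [Algebra A B]
  {J : Type u} [SmallCategory J] [IsFiltered J]
  (D : J ⥤ Under (CommRingCat.of A)) (c : Cocone D) (hc : IsColimit c)
  (e : c.pt ≅ Under.mk (CommRingCat.ofHom (algebraMap A B)))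

/-- algebra structure on the stages -/
@[reducible] def stageAlg (j : J) : Algebra A (D.obj j).right := (D.obj j).hom.hom.toAlgebra

/-- the map from a stage to `B` -/
noncomputable def γ (j : J) : (D.obj j).right →+* B := ((c.ι.app j).right ≫ e.hom.right).hom

lemma γ_map {j k : J} (f : j ⟶ k) (y : (D.obj j).right) :
    γ D c e k ((D.map f).right y) = γ D c e j y := by
  have h1 : D.map f ≫ c.ι.app k = c.ι.app j := c.w f
  have h2 : (D.map f).right ≫ (c.ι.app k).right = (c.ι.app j).right := by
    rw [← Under.comp_right, h1]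
  have h3 : (D.map f).right ≫ ((c.ι.app k).right ≫ e.hom.right) =
      (c.ι.app j).right ≫ e.hom.right := by rw [← Category.assoc, h2]
  exact congrArg (fun φ => φ.hom y) h3

lemma γ_algebraMap (j : J) (a : A) : γ D c e j ((D.obj j).hom.hom a) = algebraMap A B a := by
  have h1 : (D.obj j).hom ≫ (c.ι.app j ≫ e.hom).right =
      (Under.mk (CommRingCat.ofHom (algebraMap A B))).hom := Under.w (c.ι.app j ≫ e.hom)
  exact congrArg (fun φ => φ.hom a) h1

lemma D_algebraMap {j k : J} (f : j ⟶ k) (a : A) :
    (D.map f).right ((D.obj j).hom.hom a) = (D.obj k).hom.hom a := by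
  have h1 : (D.obj j).hom ≫ (D.map f).right = (D.obj k).hom := Under.w (D.map f)
  exact congrArg (fun φ => φ.hom a) h1

/-- stage map as algebra hom -/
noncomputable def γₐ (j : J) :
    letI := stageAlg D j
    (D.obj j).right →ₐ[A] B :=
  letI := stageAlg D j
  { γ D c e j with commutes' := γ_algebraMap D c e j }

/-- transition map as algebra hom -/
noncomputable def mapₐ {j k : J} (f : j ⟶ k) :
    letI := stageAlg D j
    letI := stageAlg D k
    (D.obj j).right →ₐ[A] (D.obj k).right :=
  letI := stageAlg D j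
  letI := stageAlg D k
  { (D.map f).right.hom with commutes' := D_algebraMap D f }

include hc in
lemma exists_γ_eq (b : B) : ∃ (j : J) (y : (D.obj j).right), γ D c e j y = b := by
  obtain ⟨j, y, hy⟩ := exists_rep D c hc (e.inv.right (b))
  refine ⟨j, y, ?_⟩
  show e.hom.right ((c.ι.app j).right y) = b
  rw [hy]
  have : e.inv.right ≫ e.hom.right = 𝟙 _ := by rw [← Under.comp_right, e.inv_hom_id]; rfl
  exact congrArg (fun φ => φ.hom b) this

include hc in
lemma exists_map_eq_zero (j : J) (y : (D.obj j).right) (h : γ D c e j y = 0) :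
    ∃ (k : J) (f : j ⟶ k), (D.map f).right y = 0 := by
  obtain ⟨k, fk, hk⟩ := eq_of_map_eq D c hc j y 0 (by
    have hinj : Function.Injective e.hom.right.hom := by
      intro x y hxy
      have : e.hom.right ≫ e.inv.right = 𝟙 _ := by rw [← Under.comp_right, e.hom_inv_id]; rfl
      have hx := congrArg (fun φ => φ.hom x) this
      have hy := congrArg (fun φ => φ.hom y) this
      simp only [CommRingCat.hom_comp, RingHom.coe_comp, Function.comp_apply] at hx hy
      have := congrArg e.inv.right.hom hxy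
      rw [hx, hy] at this
      exact this
    apply hinj
    rw [map_zero, map_zero]
    exact h)
  exact ⟨k, fk, by rw [hk, map_zero]⟩

include hc in
lemma exists_map_eq_zero_finset (j : J) (s : Finset (D.obj j).right)
    (h : ∀ y ∈ s, γ D c e j y = 0) :
    ∃ (k : J) (f : j ⟶ k), ∀ y ∈ s, (D.map f).right y = 0 := by
  classical
  induction s using Finset.induction_on with
  | empty => exact ⟨j, 𝟙 j, by simp⟩
  | insert a s ha ih =>
    obtain ⟨k, f, hf⟩ := ih (fun y hy => h y (Finset.mem_insert_of_mem hy))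
    have h0 : γ D c e k ((D.map f).right a) = 0 := by
      rw [γ_map]; exact h a (Finset.mem_insert_self a s)
    obtain ⟨k', f', hf'⟩ := exists_map_eq_zero D c hc e k _ h0
    refine ⟨k', f ≫ f', ?_⟩
    intro y hy
    rw [D.map_comp, Under.comp_right]
    rcases Finset.mem_insert.mp hy with rfl | hy
    · exact hf'
    · show (D.map f').right ((D.map f).right y) = 0
      rw [hf y hy, map_zero]

include hc in
lemma exists_γ_eq_fin {σ : Type*} [Fintype σ] (b : σ → B) :
    ∃ (j : J) (y : σ → (D.obj j).right), ∀ i, γ D c e j (y i) = b i := by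
  classical
  choose j₀ y₀ hy₀ using fun i => exists_γ_eq D c hc e (b i)
  obtain ⟨j, hj⟩ := IsFiltered.sup_objs_exists (Finset.univ.image j₀)
  have hf : ∀ i, Nonempty (j₀ i ⟶ j) := fun i =>
    hj (Finset.mem_image_of_mem _ (Finset.mem_univ i))
  let f := fun i => (hf i).some
  exact ⟨j, fun i => (D.map (f i)).right (y₀ i), fun i => by rw [γ_map, hy₀]⟩

include hc in
theorem factor_fp (C : Type u) [CommRing C] [Algebra A C] [Algebra.FinitePresentation A C]
    (g : C →ₐ[A] B) :
    ∃ (j : J), letI := stageAlg D j; ∃ (gj : C →ₐ[A] (D.obj j).right), (γₐ D c e j).comp gj = g := by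
  classical
  obtain ⟨n, π, hπ, s, hs⟩ := Algebra.FinitePresentation.out (R := A) (A := C)
  obtain ⟨j, y, hy⟩ := exists_γ_eq_fin D c hc e (fun i => g (π (MvPolynomial.X i)))
  letI := stageAlg D j
  let ev : MvPolynomial (Fin n) A →ₐ[A] (D.obj j).right := MvPolynomial.aeval y
  have hev : (γₐ D c e j).comp ev = g.comp π := by
    apply MvPolynomial.algHom_ext
    intro i
    simp only [AlgHom.comp_apply, ev, MvPolynomial.aeval_X]
    exact hy i
  have hs0 : ∀ z ∈ s.image ev, γ D c e j z = 0 := by
    intro z hz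
    obtain ⟨P, hP, rfl⟩ := Finset.mem_image.mp hz
    have h1 : γₐ D c e j (ev P) = g (π P) := congrArg (fun φ => φ P) hev
    have hP' : π P = 0 := by
      have : P ∈ RingHom.ker π.toRingHom := hs ▸ Ideal.subset_span hP
      exact this
    rw [hP', map_zero] at h1
    exact h1
  obtain ⟨k, f, hf⟩ := exists_map_eq_zero_finset D c hc e j (s.image ev) hs0
  letI := stageAlg D k
  let ev' : MvPolynomial (Fin n) A →ₐ[A] (D.obj k).right := (mapₐ D f).comp ev
  have hker' : RingHom.ker π.toRingHom ≤ RingHom.ker ev'.toRingHom := by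
    rw [← hs, Ideal.span_le]
    intro P hP
    exact hf (ev P) (Finset.mem_image_of_mem _ hP)
  refine ⟨k, AlgHom.liftOfSurjective π hπ ev' hker', ?_⟩
  apply (AlgHom.cancel_right hπ).mp
  rw [AlgHom.comp_assoc, AlgHom.liftOfSurjective_comp, ← hev]
  ext x
  simp only [AlgHom.comp_apply, ev']
  exact γ_map D c e f _

end Stage


theorem crit_of_isIndEtale {A B : Type u} [CommRing A] [CommRing B] [Algebra A B]
    (h : EtPBC.IsIndEtale A B) : Crit A B := by
  obtain ⟨J, _, _, D, c, hc, het, ⟨e⟩⟩ := h
  constructor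
  · intro b
    obtain ⟨j, y, hy⟩ := exists_γ_eq D c hc e b
    exact ⟨(D.obj j).right, inferInstance, stageAlg D j, het j, γₐ D c e j, y, hy⟩
  · intro C _ _ _ g x hx
    obtain ⟨j, gj, hgj⟩ := factor_fp D c hc e C g
    have h0 : γ D c e j (gj x) = 0 := by
      have := congrArg (fun φ => φ x) hgj
      rw [hx] at this
      exact this
    obtain ⟨k, f, hf⟩ := exists_map_eq_zero D c hc e j (gj x) h0
    letI := stageAlg D j
    letI := stageAlg D k
    refine ⟨(D.obj k).right, inferInstance, stageAlg D k, het k, (mapₐ D f).comp gj,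
      γₐ D c e k, ?_, hf⟩
    rw [← hgj]
    ext z
    exact γ_map D c e f _

theorem isIndEtale_iff_crit {A B : Type u} [CommRing A] [CommRing B] [Algebra A B] :
    EtPBC.IsIndEtale A B ↔ Crit A B := ⟨crit_of_isIndEtale, isIndEtale_of_crit⟩

end Groth.Agent.H4.IndEtCrit
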