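import Mathlib
import Groth.Prelude.Def_Flat
import Groth.Agent.Lib.Helper1.UnivHomeo
import Groth.Agent.S7405

set_option autoImplicit false
universe u
open CategoryTheory CategoryTheory.Limits AlgebraicGeometry TensorProduct

namespace Groth.Agent.H4.UHCrit

open Groth.Agent.S7405

instance uh_baseChange : (FlatMor.IsUnivHomeo.{u}).IsStableUnderBaseChange := by
  rw [Groth.Agent.H1.isUnivHomeo_eq]; infer_instance

instance uh_comp : (FlatMor.IsUnivHomeo.{u}).IsStableUnderComposition := by
  rw [Groth.Agent.H1.isUnivHomeo_eq]; infer_instance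

section Alg
variable (R S : Type u) [CommRing R] [CommRing S] [Algebra R S]

/-- the nilpotent-kernel criterion for universal injectivity -/
def UI : Prop := ∀ x : S ⊗[R] S, Algebra.TensorProduct.lmul' R (S := S) x = 0 → IsNilpotent x

/-- the criterion for trivial residue field extensions -/
def Res : Prop := ∀ (q : Ideal S) [q.IsPrime] (b : S),
  ∃ a s : R, algebraMap R S s ∉ q ∧ algebraMap R S s * b - algebraMap R S a ∈ q

lemma univInj_alg_iff :
    UniversallyInjective (Spec.map (CommRingCat.ofHom (algebraMap R S))) ↔ UI R S := by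
  rw [univInj_SpecMap_iff]
  have : (CommRingCat.ofHom (algebraMap R S)).hom.toAlgebra = ‹Algebra R S› :=
    Algebra.algebra_ext _ _ fun r => rfl
  show (letI := (CommRingCat.ofHom (algebraMap R S)).hom.toAlgebra; ∀ x : S ⊗[R] S,
    Algebra.TensorProduct.lmul' R (S := S) x = 0 → IsNilpotent x) ↔ UI R S
  rw [this]
  rfl

lemma uh_alg_iff :
    FlatMor.IsUnivHomeo (Spec.map (CommRingCat.ofHom (algebraMap R S))) ↔
      (algebraMap R S).IsIntegral ∧ UI R S ∧
        Function.Surjective (PrimeSpectrum.comap (algebraMap R S)) := by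
  rw [Groth.Agent.H1.isUnivHomeo_iff_integral, IsIntegralHom.SpecMap_iff,
    univInj_alg_iff, surjective_SpecMap_iff]
  rfl

lemma res_alg_iff :
    (∀ x : Spec (CommRingCat.of S), Function.Surjective
      ((Spec.map (CommRingCat.ofHom (algebraMap R S))).residueFieldMap x)) ↔ Res R S := by
  constructor
  · intro h q _ b
    exact (resField_surj_iff (CommRingCat.ofHom (algebraMap R S)) ⟨q, inferInstance⟩).mp (h _) b
  · intro h x
    rw [resField_surj_iff]
    haveI := x.isPrime
    exact h x.asIdeal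

variable {R S}

lemma surj_of_integral_of_ker (hint : (algebraMap R S).IsIntegral)
    (hker : RingHom.ker (algebraMap R S) ≤ nilradical R) :
    Function.Surjective (PrimeSpectrum.comap (algebraMap R S)) := by
  intro p
  haveI := p.isPrime
  haveI : Algebra.IsIntegral R S := ⟨hint⟩
  obtain ⟨Q, -, hQ, hQp⟩ := Ideal.exists_ideal_over_prime_of_isIntegral p.asIdeal (⊥ : Ideal S) (by
    rw [← RingHom.ker_eq_comap_bot]
    intro x hx
    exact nilradical_le_prime p.asIdeal (hker hx))
  exact ⟨⟨Q, hQ⟩, PrimeSpectrum.ext hQp⟩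

lemma uh_of_integral_ui (hint : (algebraMap R S).IsIntegral) (hui : UI R S)
    (hker : RingHom.ker (algebraMap R S) ≤ nilradical R) :
    FlatMor.IsUnivHomeo (Spec.map (CommRingCat.ofHom (algebraMap R S))) :=
  (uh_alg_iff R S).mpr ⟨hint, hui, surj_of_integral_of_ker hint hker⟩

end Alg

/-- tensor product of two universal homeomorphisms -/
lemma uh_tensor (A E₁ E₂ : Type u) [CommRing A] [CommRing E₁] [CommRing E₂] [Algebra A E₁]
    [Algebra A E₂]
    (h₁ : FlatMor.IsUnivHomeo (Spec.map (CommRingCat.ofHom (algebraMap A E₁))))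
    (h₂ : FlatMor.IsUnivHomeo (Spec.map (CommRingCat.ofHom (algebraMap A E₂)))) :
    FlatMor.IsUnivHomeo (Spec.map (CommRingCat.ofHom (algebraMap A (E₁ ⊗[A] E₂)))) := by
  have hpb := isPullback_SpecMap_of_isPushout _ _ _ _ (CommRingCat.isPushout_tensorProduct A E₁ E₂)
  have h3 := MorphismProperty.of_isPullback (P := FlatMor.IsUnivHomeo.{u}) hpb h₁
  have h4 : CommRingCat.ofHom (algebraMap A (E₁ ⊗[A] E₂)) =
      CommRingCat.ofHom (algebraMap A E₂) ≫
        CommRingCat.ofHom (S := E₁ ⊗[A] E₂) Algebra.TensorProduct.includeRight.toRingHom := by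
    ext a
    simp
  rw [h4, Spec.map_comp]
  exact MorphismProperty.comp_mem _ _ _ h3 h₂


section Quot
variable {A C E : Type u} [CommRing A] [CommRing C] [CommRing E] [Algebra A C] [Algebra A E]

lemma lmul'_map (f : C →ₐ[A] E) (y : C ⊗[A] C) :
    Algebra.TensorProduct.lmul' A (S := E) (Algebra.TensorProduct.map f f y) =
      f (Algebra.TensorProduct.lmul' A (S := C) y) := by
  induction y using TensorProduct.induction_on with
  | zero => simp
  | tmul a b => simp
  | add x y hx hy => simp only [map_add, hx, hy]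

lemma integral_of_surjective (g : C →ₐ[A] E) (hg : Function.Surjective g)
    (h : (algebraMap A C).IsIntegral) : (algebraMap A E).IsIntegral := by
  intro e
  obtain ⟨c, rfl⟩ := hg e
  exact IsIntegral.map g (h c)

lemma ui_of_surjective (g : C →ₐ[A] E) (hg : Function.Surjective g) (h : UI A C) : UI A E := by
  intro x hx
  have hT : Function.Surjective (Algebra.TensorProduct.map g g) :=
    TensorProduct.map_surjective hg hg
  obtain ⟨y, rfl⟩ := hT x
  rw [lmul'_map] at hx
  set i := Algebra.TensorProduct.lmul' A (S := C) y with hi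
  have h1 : Algebra.TensorProduct.lmul' A (S := C) (y - i ⊗ₜ[A] 1) = 0 := by
    rw [map_sub, Algebra.TensorProduct.lmul'_apply_tmul, mul_one, ← hi, sub_self]
  have h2 := (h _ h1).map (Algebra.TensorProduct.map g g)
  rw [map_sub, Algebra.TensorProduct.map_tmul, hx, zero_tmul, sub_zero] at h2
  exact h2

lemma res_of_surjective (g : C →ₐ[A] E) (hg : Function.Surjective g) (h : Res A C) : Res A E := by
  intro q _ b
  obtain ⟨c, rfl⟩ := hg b
  obtain ⟨a, s, hs, hsa⟩ := h (q.comap g) c
  refine ⟨a, s, ?_, ?_⟩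
  · rw [Ideal.mem_comap, AlgHom.commutes] at hs
    exact hs
  · rw [Ideal.mem_comap, map_sub, map_mul, AlgHom.commutes, AlgHom.commutes] at hsa
    exact hsa

end Quot

section Sub
variable {A B : Type u} [CommRing A] [CommRing B] [Algebra A B]

/-- integral and universally injective subalgebras -/
def GoodSub (E : Subalgebra A B) : Prop := (algebraMap A E).IsIntegral ∧ UI A E

/-- subalgebras with trivial residue field extensions over the base -/
def ResSub (E : Subalgebra A B) : Prop := Res A E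

lemma ker_sub (E : Subalgebra A B) :
    RingHom.ker (algebraMap A E) = RingHom.ker (algebraMap A B) := by
  ext a
  simp only [RingHom.mem_ker]
  constructor
  · intro h
    have := congrArg E.val h
    simpa using this
  · intro h
    apply Subtype.ext
    simpa using h

lemma uh_sub_iff (hker : RingHom.ker (algebraMap A B) ≤ nilradical A) (E : Subalgebra A B) :
    FlatMor.IsUnivHomeo (Spec.map (CommRingCat.ofHom (algebraMap A E))) ↔ GoodSub E := by
  constructor
  · intro h
    exact ⟨((uh_alg_iff A E).mp h).1, ((uh_alg_iff A E).mp h).2.1⟩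
  · intro h
    exact uh_of_integral_ui h.1 h.2 (by rw [ker_sub]; exact hker)

lemma goodSub_range {C : Type u} [CommRing C] [Algebra A C] (hint : (algebraMap A C).IsIntegral)
    (hui : UI A C) (g : C →ₐ[A] B) : GoodSub g.range :=
  ⟨integral_of_surjective g.rangeRestrict g.rangeRestrict_surjective hint,
    ui_of_surjective g.rangeRestrict g.rangeRestrict_surjective hui⟩

lemma resSub_range {C : Type u} [CommRing C] [Algebra A C] (h : Res A C) (g : C →ₐ[A] B) :
    ResSub g.range :=
  res_of_surjective g.rangeRestrict g.rangeRestrict_surjective h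

lemma goodSub_sup (hker : RingHom.ker (algebraMap A B) ≤ nilradical A) {E₁ E₂ : Subalgebra A B}
    (h₁ : GoodSub E₁) (h₂ : GoodSub E₂) : GoodSub (E₁ ⊔ E₂) := by
  have hT := uh_tensor A E₁ E₂ ((uh_sub_iff hker E₁).mpr h₁) ((uh_sub_iff hker E₂).mpr h₂)
  rw [uh_alg_iff] at hT
  have := goodSub_range hT.1 hT.2.1 (Algebra.TensorProduct.productMap E₁.val E₂.val)
  rw [Algebra.TensorProduct.productMap_range, Subalgebra.range_val, Subalgebra.range_val] at this
  exact this

end Sub


section Sub2
variable {A B : Type u} [CommRing A] [CommRing B] [Algebra A B]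

/-- elements of an `A`-algebra `E` whose class in `κ(q)` comes from `κ(q ∩ A)` -/
def resAlg (A : Type u) [CommRing A] (E : Type u) [CommRing E] [Algebra A E] (q : Ideal E) [q.IsPrime] :
    Subalgebra A E where
  carrier := {b | ∃ a s : A, algebraMap A E s ∉ q ∧ algebraMap A E s * b - algebraMap A E a ∈ q}
  mul_mem' := by
    rintro b₁ b₂ ⟨a₁, s₁, hs₁, h₁⟩ ⟨a₂, s₂, hs₂, h₂⟩
    refine ⟨a₁ * a₂, s₁ * s₂, ?_, ?_⟩
    · rw [map_mul]
      intro h
      rcases (‹q.IsPrime›.mem_or_mem h) with h | h
      · exact hs₁ h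
      · exact hs₂ h
    · have : algebraMap A E (s₁ * s₂) * (b₁ * b₂) - algebraMap A E (a₁ * a₂) =
          algebraMap A E s₁ * b₁ * (algebraMap A E s₂ * b₂ - algebraMap A E a₂) +
            algebraMap A E a₂ * (algebraMap A E s₁ * b₁ - algebraMap A E a₁) := by
        simp only [map_mul]; ring
      rw [this]
      exact q.add_mem (q.mul_mem_left _ h₂) (q.mul_mem_left _ h₁)
  one_mem' := ⟨1, 1, by rw [map_one]; exact fun h => ‹q.IsPrime›.ne_top (q.eq_top_of_isUnit_mem h isUnit_one), by simp⟩
  add_mem' := by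
    rintro b₁ b₂ ⟨a₁, s₁, hs₁, h₁⟩ ⟨a₂, s₂, hs₂, h₂⟩
    refine ⟨s₂ * a₁ + s₁ * a₂, s₁ * s₂, ?_, ?_⟩
    · rw [map_mul]
      intro h
      rcases (‹q.IsPrime›.mem_or_mem h) with h | h
      · exact hs₁ h
      · exact hs₂ h
    · have : algebraMap A E (s₁ * s₂) * (b₁ + b₂) - algebraMap A E (s₂ * a₁ + s₁ * a₂) =
          algebraMap A E s₂ * (algebraMap A E s₁ * b₁ - algebraMap A E a₁) +
            algebraMap A E s₁ * (algebraMap A E s₂ * b₂ - algebraMap A E a₂) := by
        simp only [map_mul, map_add]; ring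
      rw [this]
      exact q.add_mem (q.mul_mem_left _ h₁) (q.mul_mem_left _ h₂)
  zero_mem' := ⟨0, 1, by rw [map_one]; exact fun h => ‹q.IsPrime›.ne_top (q.eq_top_of_isUnit_mem h isUnit_one), by simp⟩
  algebraMap_mem' := fun r => ⟨r, 1, by rw [map_one]; exact fun h => ‹q.IsPrime›.ne_top (q.eq_top_of_isUnit_mem h isUnit_one), by simp⟩

lemma res_iff_resAlg (E : Type u) [CommRing E] [Algebra A E] :
    Res A E ↔ ∀ (q : Ideal E) [q.IsPrime], resAlg A E q = ⊤ := by
  constructor
  · intro h q _
    rw [eq_top_iff]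
    intro b _
    exact h q b
  · intro h q _ b
    have : b ∈ resAlg A E q := by rw [h q]; trivial
    exact this

/-- pulling the criterion back along an algebra map -/
lemma mem_resAlg_of_map {E₁ E : Type u} [CommRing E₁] [CommRing E] [Algebra A E₁] [Algebra A E]
    (f : E₁ →ₐ[A] E) (h : Res A E₁) (q : Ideal E) [q.IsPrime] (b : E₁) : f b ∈ resAlg A E q := by
  obtain ⟨a, s, hs, hsa⟩ := h (q.comap f) b
  refine ⟨a, s, ?_, ?_⟩
  · rw [Ideal.mem_comap, AlgHom.commutes] at hs
    exact hs
  · rw [Ideal.mem_comap, map_sub, map_mul, AlgHom.commutes, AlgHom.commutes] at hsa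
    exact hsa

lemma resSub_sup {E₁ E₂ : Subalgebra A B} (h₁ : ResSub E₁) (h₂ : ResSub E₂) :
    ResSub (E₁ ⊔ E₂) := by
  intro q _ b
  have hle : E₁ ⊔ E₂ ≤ (resAlg A (↥(E₁ ⊔ E₂)) q).map (E₁ ⊔ E₂).val := by
    refine sup_le ?_ ?_
    · intro x hx
      exact ⟨_, mem_resAlg_of_map (Subalgebra.inclusion (le_sup_left : E₁ ≤ E₁ ⊔ E₂)) h₁ q ⟨x, hx⟩,
        rfl⟩
    · intro x hx
      exact ⟨_, mem_resAlg_of_map (Subalgebra.inclusion (le_sup_right : E₂ ≤ E₁ ⊔ E₂)) h₂ q ⟨x, hx⟩,
        rfl⟩
  obtain ⟨t, ht, htb⟩ := hle b.2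
  have : t = b := Subtype.ext htb
  rw [this] at ht
  exact ht

variable {ι : Type*} [Nonempty ι] (E : ι → Subalgebra A B) (dir : Directed (· ≤ ·) E)

include dir in
lemma exists_mem_of_mem_iSup {x : B} (hx : x ∈ ⨆ i, E i) : ∃ i, x ∈ E i := by
  have := Subalgebra.coe_iSup_of_directed dir
  have hx' : x ∈ ((⨆ i, E i : Subalgebra A B) : Set B) := hx
  rw [this] at hx'
  exact Set.mem_iUnion.mp hx'

include dir in
lemma resSub_iSup (h : ∀ i, ResSub (E i)) : ResSub (⨆ i, E i) := by
  intro q _ b
  obtain ⟨i, hi⟩ := exists_mem_of_mem_iSup E dir b.2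
  exact mem_resAlg_of_map (Subalgebra.inclusion (le_iSup E i)) (h i) q ⟨b.1, hi⟩

include dir in
lemma tensor_iSup_rep (x : (↥(⨆ i, E i)) ⊗[A] (↥(⨆ i, E i))) :
    ∃ (i : ι) (y : (↥(E i)) ⊗[A] (↥(E i))),
      Algebra.TensorProduct.map (Subalgebra.inclusion (le_iSup E i))
        (Subalgebra.inclusion (le_iSup E i)) y = x := by
  induction x using TensorProduct.induction_on with
  | zero => exact ⟨Classical.arbitrary ι, 0, map_zero _⟩
  | tmul b c =>
    obtain ⟨i, hi⟩ := exists_mem_of_mem_iSup E dir b.2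
    obtain ⟨j, hj⟩ := exists_mem_of_mem_iSup E dir c.2
    obtain ⟨k, hik, hjk⟩ := dir i j
    exact ⟨k, (⟨b.1, hik hi⟩ : E k) ⊗ₜ[A] (⟨c.1, hjk hj⟩ : E k), by
      rw [Algebra.TensorProduct.map_tmul]; rfl⟩
  | add x x' hx hx' =>
    obtain ⟨i, y, rfl⟩ := hx
    obtain ⟨j, y', rfl⟩ := hx'
    obtain ⟨k, hik, hjk⟩ := dir i j
    refine ⟨k, Algebra.TensorProduct.map (Subalgebra.inclusion hik) (Subalgebra.inclusion hik) y +
      Algebra.TensorProduct.map (Subalgebra.inclusion hjk) (Subalgebra.inclusion hjk) y', ?_⟩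
    rw [map_add]
    congr 1
    · rw [← AlgHom.comp_apply, ← Algebra.TensorProduct.map_comp]
      rfl
    · rw [← AlgHom.comp_apply, ← Algebra.TensorProduct.map_comp]
      rfl

include dir in
lemma goodSub_iSup (h : ∀ i, GoodSub (E i)) : GoodSub (⨆ i, E i) := by
  constructor
  · intro b
    obtain ⟨i, hi⟩ := exists_mem_of_mem_iSup E dir b.2
    have h1 : IsIntegral A (⟨b.1, hi⟩ : E i) := (h i).1 _
    have h2 := h1.map (Subalgebra.inclusion (le_iSup E i))
    exact h2
  · intro x hx
    obtain ⟨i, y, rfl⟩ := tensor_iSup_rep E dir x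
    rw [lmul'_map] at hx
    have hy : Algebra.TensorProduct.lmul' A (S := ↥(E i)) y = 0 :=
      Subalgebra.inclusion_injective (le_iSup E i) (by rw [hx, map_zero])
    exact ((h i).2 y hy).map _

end Sub2


section Max
variable {A B : Type u} [CommRing A] [CommRing B] [Algebra A B]

lemma ui_self (A : Type u) [CommRing A] : UI A A := by
  intro x hx
  have key : ∀ y : A ⊗[A] A, y = (Algebra.TensorProduct.lmul' A (S := A) y) ⊗ₜ[A] 1 := by
    intro y
    induction y using TensorProduct.induction_on with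
    | zero => simp
    | tmul a b =>
      rw [Algebra.TensorProduct.lmul'_apply_tmul]
      conv_lhs => rw [← mul_one b, ← smul_eq_mul b 1, TensorProduct.tmul_smul,
        TensorProduct.smul_tmul', smul_eq_mul, mul_comm]
    | add x y hx hy =>
      rw [map_add, TensorProduct.add_tmul, ← hx, ← hy]
  rw [key x, hx, TensorProduct.zero_tmul]
  exact IsNilpotent.zero

lemma res_self (A : Type u) [CommRing A] : Res A A := by
  intro q _ b
  exact ⟨b, 1, by
    rw [map_one]; exact fun h => ‹q.IsPrime›.ne_top (q.eq_top_of_isUnit_mem h isUnit_one), by simp⟩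

lemma goodSub_bot : GoodSub (⊥ : Subalgebra A B) := by
  have := goodSub_range (A := A) (B := B) (C := A) (fun a => isIntegral_algebraMap) (ui_self A)
    (Algebra.ofId A B)
  rwa [Algebra.range_ofId] at this

lemma resSub_bot : ResSub (⊥ : Subalgebra A B) := by
  have := resSub_range (A := A) (B := B) (C := A) (res_self A) (Algebra.ofId A B)
  rwa [Algebra.range_ofId] at this

lemma ker_le_of_isDominant
    [IsDominant (Spec.map (CommRingCat.ofHom (algebraMap A B)))] :
    RingHom.ker (algebraMap A B) ≤ nilradical A := by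
  have h : DenseRange (Spec.map (CommRingCat.ofHom (algebraMap A B))) := IsDominant.denseRange
  exact (PrimeSpectrum.denseRange_comap_iff_ker_le_nilRadical (f := algebraMap A B)).mp h

end Max

end Groth.Agent.H4.UHCrit
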