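import Mathlib
import Groth.Prelude.Def_Flat
import Groth.Agent.H4.UHCrit

set_option autoImplicit false
universe u
open CategoryTheory CategoryTheory.Limits AlgebraicGeometry TensorProduct

namespace Groth.Agent.H4.SemiNormal

open Groth.Agent.S7405 Groth.Agent.H4.UHCrit

section SN
variable (A B : Type u) [CommRing A] [CommRing B] [Algebra A B]

/-- the class of integral ring maps, bijective on spectra with trivial residue field extensions -/
def SN : Prop := (algebraMap A B).IsIntegral ∧
  Function.Bijective (PrimeSpectrum.comap (algebraMap A B)) ∧ Res A B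

lemma sn_iff :
    (FlatMor.IsUnivHomeo (Spec.map (CommRingCat.ofHom (algebraMap A B))) ∧
      ∀ x : Spec (CommRingCat.of B), Function.Surjective
        ((Spec.map (CommRingCat.ofHom (algebraMap A B))).residueFieldMap x)) ↔ SN A B := by
  constructor
  · rintro ⟨h1, h2⟩
    have h1' := (uh_alg_iff A B).mp h1
    have hui : UniversallyInjective (Spec.map (CommRingCat.ofHom (algebraMap A B))) :=
      (univInj_alg_iff A B).mpr h1'.2.1
    refine ⟨h1'.1, ⟨?_, h1'.2.2⟩, (res_alg_iff A B).mp h2⟩
    exact (Spec.map (CommRingCat.ofHom (algebraMap A B))).injective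
  · rintro ⟨h1, h2, h3⟩
    have hres := (res_alg_iff A B).mpr h3
    refine ⟨?_, hres⟩
    have hui : UniversallyInjective (Spec.map (CommRingCat.ofHom (algebraMap A B))) := by
      have hT := (tfae_universallyInjective (Spec.map (CommRingCat.ofHom (algebraMap A B)))).out 0 2
      rw [hT]
      refine ⟨h2.1, fun x => ?_⟩
      rw [RingHom.IsPurelyInseparable]
      letI := ((Spec.map (CommRingCat.ofHom (algebraMap A B))).residueFieldMap x).hom.toAlgebra
      exact ⟨Algebra.isIntegral_of_surjective (hres x), fun y _ => hres x y⟩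
    exact (uh_alg_iff A B).mpr ⟨h1, (univInj_alg_iff A B).mp hui, h2.2⟩

end SN


section Core
variable {A B : Type u} [CommRing A] [CommRing B] [Algebra A B]

/-- Stacks 0EUH: from `gⁿ, gⁿ⁺¹ ∈ R` to squares and cubes. -/
lemma exists_sq_cube_of_pow (R : Subring B) (g : B) (hg : g ∉ R) (n : ℕ) (hn : 2 ≤ n)
    (h1 : g ^ n ∈ R) (h2 : g ^ (n + 1) ∈ R) : ∃ b : B, b ∉ R ∧ b ^ 2 ∈ R ∧ b ^ 3 ∈ R := by
  classical
  have hbig : ∀ m, n * n ≤ m → g ^ m ∈ R := by
    intro m hm
    have hq : n ≤ m / n := by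
      rw [Nat.le_div_iff_mul_le (by omega)]; exact hm
    have hr : m % n < n := Nat.mod_lt _ (by omega)
    have hm' : m = (m / n - m % n) * n + (m % n) * (n + 1) := by
      have := Nat.div_add_mod m n
      have h3 : (m / n - m % n) * n = (m / n) * n - (m % n) * n := Nat.sub_mul _ _ _
      have h4 : (m % n) * n ≤ (m / n) * n := Nat.mul_le_mul_right _ (by omega)
      rw [h3, mul_add, mul_one]
      have h5 : n * (m / n) = (m / n) * n := mul_comm _ _
      omega
    rw [hm', pow_add, pow_mul', pow_mul' g (m % n)]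
    exact R.mul_mem (R.pow_mem h1 _) (R.pow_mem h2 _)
  let P : ℕ → Prop := fun m => g ^ m ∉ R
  have hP1 : P 1 := by simpa [P] using hg
  have h1le : 1 ≤ n * n := by nlinarith
  set m₀ := Nat.findGreatest P (n * n) with hm₀
  have hm₀P : P m₀ := Nat.findGreatest_spec h1le hP1
  have hm₀1 : 1 ≤ m₀ := Nat.le_findGreatest h1le hP1
  have hgt : ∀ k, m₀ < k → g ^ k ∈ R := by
    intro k hk
    by_cases hkn : k ≤ n * n
    · have := Nat.findGreatest_is_greatest hk hkn
      simpa [P] using this
    · exact hbig k (by omega)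
  refine ⟨g ^ m₀, hm₀P, ?_, ?_⟩
  · rw [← pow_mul]; exact hgt _ (by omega)
  · rw [← pow_mul]; exact hgt _ (by omega)

/-- the conductor-type ideal -/
def cond (A B : Type u) [CommRing A] [CommRing B] [Algebra A B] : Ideal B where
  carrier := {x | ∀ b : B, x * b ∈ (algebraMap A B).range}
  add_mem' := by
    intro x y hx hy b
    rw [add_mul]
    exact Subring.add_mem _ (hx b) (hy b)
  zero_mem' := by
    intro b
    rw [zero_mul]
    exact Subring.zero_mem _
  smul_mem' := by
    intro c x hx b
    rw [smul_eq_mul, mul_assoc, mul_left_comm]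
    exact hx (c * b)

lemma mem_cond {x : B} : x ∈ cond A B ↔ ∀ b : B, x * b ∈ (algebraMap A B).range := Iff.rfl

lemma cond_le_range {x : B} (hx : x ∈ cond A B) : x ∈ (algebraMap A B).range := by
  have := hx 1
  rwa [mul_one] at this

theorem core [Module.Finite A B]
    (hinj : Function.Injective (PrimeSpectrum.comap (algebraMap A B)))
    (hres : Res A B) (hns : ¬ Function.Surjective (algebraMap A B)) :
    ∃ g : B, g ∉ (algebraMap A B).range ∧ ∃ n, 2 ≤ n ∧ g ^ n ∈ (algebraMap A B).range ∧
      g ^ (n + 1) ∈ (algebraMap A B).range := by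
  classical
  haveI : Algebra.IsIntegral A B := Algebra.IsIntegral.of_finite A B
  set R := (algebraMap A B).range with hR
  have hIne : cond A B ≠ ⊤ := by
    intro h
    apply hns
    intro b
    have h1 : (1 : B) ∈ cond A B := by rw [h]; trivial
    have := h1 b
    rwa [one_mul] at this
  obtain ⟨m, hm, hIm⟩ := Ideal.exists_le_maximal _ hIne
  haveI := hm.isPrime
  obtain ⟨q, hq0, -⟩ := Ideal.exists_minimalPrimes_le hIm
  have hq : Minimal (fun q : Ideal B => q.IsPrime ∧ cond A B ≤ q) q := hq0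
  have hqP : q.IsPrime := hq.prop.1
  have hIq : cond A B ≤ q := hq.prop.2
  -- step 2
  have step2 : ∃ b : B, ∀ u : A, algebraMap A B u ∉ q → algebraMap A B u * b ∉ R := by
    by_contra hcon
    push Not at hcon
    choose u hu hub using hcon
    obtain ⟨S, hS⟩ := (Module.Finite.fg_top : (⊤ : Submodule A B).FG)
    let w : A := ∏ i ∈ S, u i
    have hwq : algebraMap A B w ∉ q := by
      rw [map_prod]
      intro h
      obtain ⟨i, -, hi⟩ := (hqP.prod_mem_iff).mp h
      exact hu i hi
    have hwS : ∀ i ∈ S, algebraMap A B w * i ∈ R := by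
      intro i hi
      have : w = (∏ j ∈ S.erase i, u j) * u i := by
        rw [Finset.prod_erase_mul S u hi]
      rw [this, map_mul, mul_assoc]
      exact R.mul_mem ⟨_, rfl⟩ (hub i)
    have hwB : ∀ b : B, algebraMap A B w * b ∈ R := by
      intro b
      have hb : b ∈ Submodule.span A (S : Set B) := by rw [hS]; trivial
      induction hb using Submodule.span_induction with
      | mem x hx => exact hwS x hx
      | zero => rw [mul_zero]; exact R.zero_mem
      | add x y _ _ hx hy => rw [mul_add]; exact R.add_mem hx hy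
      | smul a x _ hx =>
        rw [Algebra.smul_def, mul_left_comm]
        exact R.mul_mem ⟨_, rfl⟩ hx
    exact hwq (hIq hwB)
  obtain ⟨b, hb⟩ := step2
  -- step 3
  obtain ⟨a, s, hs, hsa⟩ := hres q b
  set f := algebraMap A B s * b - algebraMap A B a with hf
  have step3 : ∀ u : A, algebraMap A B u ∉ q → algebraMap A B u * f ∉ R := by
    intro u hu hmem
    have hus : algebraMap A B (u * s) ∉ q := by
      rw [map_mul]
      intro h
      rcases hqP.mem_or_mem h with h | h
      · exact hu h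
      · exact hs h
    apply hb (u * s) hus
    have : algebraMap A B (u * s) * b = algebraMap A B u * f + algebraMap A B (u * a) := by
      rw [hf, map_mul, map_mul]; ring
    rw [this]
    exact R.add_mem hmem ⟨_, rfl⟩
  -- step 4
  let M : Submonoid B := Submonoid.map (algebraMap A B) (q.comap (algebraMap A B)).primeCompl ⊔
    Submonoid.powers f
  have hnd : ¬ Disjoint ((cond A B : Ideal B) : Set B) (M : Set B) := by
    intro hd
    obtain ⟨q', hq'P, hIq', hq'M⟩ := Ideal.exists_le_prime_disjoint _ _ hd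
    have hcomap : q'.comap (algebraMap A B) ≤ q.comap (algebraMap A B) := by
      intro x hx
      by_contra hxq
      have h1 : algebraMap A B x ∈ M :=
        Submonoid.mem_sup_left (Submonoid.mem_map.mpr ⟨x, hxq, rfl⟩)
      exact Set.disjoint_left.mp hq'M hx h1
    haveI : (q.comap (algebraMap A B)).IsPrime := Ideal.comap_isPrime _ _
    obtain ⟨Q, hQq', hQP, hQc⟩ :=
      Ideal.exists_ideal_over_prime_of_isIntegral (q.comap (algebraMap A B)) q' hcomap
    have hQq : Q = q := by
      have := hinj (a₁ := ⟨Q, hQP⟩) (a₂ := ⟨q, hqP⟩) (PrimeSpectrum.ext hQc)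
      exact congrArg PrimeSpectrum.asIdeal this
    have hq'q : q' ≤ q := hQq ▸ hQq'
    have hqq' : q ≤ q' := hq.le_of_le ⟨hq'P, hIq'⟩ hq'q
    have hfM : f ∈ M := Submonoid.mem_sup_right (Submonoid.mem_powers f)
    exact Set.disjoint_left.mp hq'M (hqq' hsa) hfM
  rw [Set.not_disjoint_iff] at hnd
  obtain ⟨x, hxI, hxM⟩ := hnd
  obtain ⟨y, hy, z, hz, rfl⟩ := Submonoid.mem_sup.mp hxM
  obtain ⟨t, ht, rfl⟩ := Submonoid.mem_map.mp hy
  obtain ⟨n, rfl⟩ := (Submonoid.mem_powers_iff _ _).mp hz
  have htq : algebraMap A B t ∉ q := ht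
  refine ⟨algebraMap A B t * f, step3 t htq, n + 2, by omega, ?_, ?_⟩
  · apply cond_le_range
    have : (algebraMap A B t * f) ^ (n + 2) =
        (algebraMap A B t * f ^ n) * (algebraMap A B t ^ (n + 1) * f ^ 2) := by ring
    rw [this]
    exact (cond A B).mul_mem_right _ hxI
  · apply cond_le_range
    have : (algebraMap A B t * f) ^ (n + 2 + 1) =
        (algebraMap A B t * f ^ n) * (algebraMap A B t ^ (n + 2) * f ^ 3) := by ring
    rw [this]
    exact (cond A B).mul_mem_right _ hxI

end Core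


section Inter
variable {A B : Type u} [CommRing A] [CommRing B] [Algebra A B]

lemma exists_prime_over_sub (hint : (algebraMap A B).IsIntegral) (E : Subalgebra A B)
    (q : Ideal E) [q.IsPrime] : ∃ Q : Ideal B, Q.IsPrime ∧ Q.comap (algebraMap E B) = q := by
  haveI : Algebra.IsIntegral A B := ⟨hint⟩
  haveI : Algebra.IsIntegral E B := Algebra.IsIntegral.tower_top (R := A)
  obtain ⟨Q, -, hQ, hQq⟩ := Ideal.exists_ideal_over_prime_of_isIntegral q (⊥ : Ideal B) (by
    rw [← RingHom.ker_eq_comap_bot]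
    have : RingHom.ker (algebraMap E B) = ⊥ :=
      (RingHom.injective_iff_ker_eq_bot _).mp Subtype.val_injective
    rw [this]
    exact bot_le)
  exact ⟨Q, hQ, hQq⟩

lemma sn_sub (h : SN A B) (E : Subalgebra A B) : SN A E := by
  obtain ⟨hint, hbij, hres⟩ := h
  have hcomp : algebraMap A B = (algebraMap E B).comp (algebraMap A E) := rfl
  have hinjE : Function.Injective (PrimeSpectrum.comap (algebraMap A E)) := by
    intro q₁ q₂ h12
    haveI := q₁.isPrime
    haveI := q₂.isPrime
    obtain ⟨Q₁, hQ₁, hQ₁q⟩ := exists_prime_over_sub hint E q₁.asIdeal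
    obtain ⟨Q₂, hQ₂, hQ₂q⟩ := exists_prime_over_sub hint E q₂.asIdeal
    have h3 : (⟨Q₁, hQ₁⟩ : PrimeSpectrum B) = ⟨Q₂, hQ₂⟩ := by
      apply hbij.1
      apply PrimeSpectrum.ext
      show Q₁.comap (algebraMap A B) = Q₂.comap (algebraMap A B)
      rw [hcomp, ← Ideal.comap_comap, ← Ideal.comap_comap, hQ₁q, hQ₂q]
      exact congrArg PrimeSpectrum.asIdeal h12
    have h4 : Q₁ = Q₂ := congrArg PrimeSpectrum.asIdeal h3
    apply PrimeSpectrum.ext
    rw [← hQ₁q, ← hQ₂q, h4]
  have hintE : (algebraMap A E).IsIntegral := by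
    intro x
    have : IsIntegral A (E.val x) := hint _
    exact (isIntegral_algHom_iff E.val Subtype.val_injective).mp this
  have hkerE : RingHom.ker (algebraMap A E) ≤ nilradical A := by
    rw [ker_sub]
    intro x hx
    rw [nilradical_eq_sInf, Ideal.mem_sInf]
    intro p hp
    obtain ⟨Q, hQ⟩ := hbij.2 ⟨p, hp⟩
    have : p = Q.asIdeal.comap (algebraMap A B) := (congrArg PrimeSpectrum.asIdeal hQ).symm
    rw [this, Ideal.mem_comap, (RingHom.mem_ker).mp hx]
    exact zero_mem _
  refine ⟨hintE, ⟨hinjE, surj_of_integral_of_ker hintE hkerE⟩, ?_⟩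
  intro q' _ b'
  obtain ⟨Q, hQ, hQq⟩ := exists_prime_over_sub hint E q'
  obtain ⟨a, s, hs, hsa⟩ := hres Q (b' : B)
  refine ⟨a, s, ?_, ?_⟩
  · intro hmem
    rw [← hQq, Ideal.mem_comap] at hmem
    exact hs hmem
  · rw [← hQq, Ideal.mem_comap, map_sub, map_mul]
    exact hsa

lemma sn_exists_sq_cube (h : SN A B) (hns : ¬ Function.Surjective (algebraMap A B)) :
    ∃ b : B, b ∉ (algebraMap A B).range ∧ b ^ 2 ∈ (algebraMap A B).range ∧
      b ^ 3 ∈ (algebraMap A B).range := by
  have hb₀ : ∃ b₀ : B, b₀ ∉ Set.range (algebraMap A B) := by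
    by_contra hcon
    push Not at hcon
    exact hns hcon
  obtain ⟨b₀, hb₀⟩ := hb₀
  let E : Subalgebra A B := Algebra.adjoin A {b₀}
  haveI : Module.Finite A E := Algebra.finite_adjoin_simple_of_isIntegral (h.1 b₀)
  have hE := sn_sub h E
  have hnsE : ¬ Function.Surjective (algebraMap A E) := by
    intro hs
    obtain ⟨a, ha⟩ := hs ⟨b₀, Algebra.subset_adjoin (Set.mem_singleton b₀)⟩
    exact hb₀ ⟨a, congrArg Subtype.val ha⟩
  obtain ⟨g, hg, n, hn, h1, h2⟩ := core hE.2.1.1 hE.2.2 hnsE
  obtain ⟨b, hb, hb2, hb3⟩ := exists_sq_cube_of_pow (algebraMap A E).range g hg n hn h1 h2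
  refine ⟨(b : B), ?_, ?_, ?_⟩
  · rintro ⟨a, ha⟩
    exact hb ⟨a, Subtype.ext ha⟩
  · obtain ⟨a, ha⟩ := hb2
    exact ⟨a, by have := congrArg Subtype.val ha; simpa using this⟩
  · obtain ⟨a, ha⟩ := hb3
    exact ⟨a, by have := congrArg Subtype.val ha; simpa using this⟩

end Inter

end Groth.Agent.H4.SemiNormal
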