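import Mathlib
import Groth.Prelude.Def_Flat
import Groth.Agent.H4.SemiNormal

set_option autoImplicit false
universe u
open CategoryTheory CategoryTheory.Limits AlgebraicGeometry TensorProduct

namespace Groth.Agent.H4.SemiNormalTower

open Groth.Agent.S7405 Groth.Agent.H4.UHCrit Groth.Agent.H4.SemiNormal

section ResAlg
variable {A B : Type u} [CommRing A] [CommRing B] [Algebra A B]

/-- elements of `B` which modulo `J` become fractions of elements of `A` with denominators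
outside `p` -/
def resAlg' (p : Ideal A) [hp : p.IsPrime] (J : Ideal B) : Subalgebra A B where
  carrier := {b | ∃ a s : A, s ∉ p ∧ algebraMap A B s * b - algebraMap A B a ∈ J}
  mul_mem' := by
    rintro b₁ b₂ ⟨a₁, s₁, hs₁, h₁⟩ ⟨a₂, s₂, hs₂, h₂⟩
    refine ⟨a₁ * a₂, s₁ * s₂, ?_, ?_⟩
    · intro h
      rcases hp.mem_or_mem h with h | h
      · exact hs₁ h
      · exact hs₂ h
    · have : algebraMap A B (s₁ * s₂) * (b₁ * b₂) - algebraMap A B (a₁ * a₂) =
          algebraMap A B s₁ * b₁ * (algebraMap A B s₂ * b₂ - algebraMap A B a₂) +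
            algebraMap A B a₂ * (algebraMap A B s₁ * b₁ - algebraMap A B a₁) := by
        simp only [map_mul]; ring
      rw [this]
      exact J.add_mem (J.mul_mem_left _ h₂) (J.mul_mem_left _ h₁)
  one_mem' := ⟨1, 1, fun h => hp.ne_top (p.eq_top_of_isUnit_mem h isUnit_one), by simp⟩
  add_mem' := by
    rintro b₁ b₂ ⟨a₁, s₁, hs₁, h₁⟩ ⟨a₂, s₂, hs₂, h₂⟩
    refine ⟨s₂ * a₁ + s₁ * a₂, s₁ * s₂, ?_, ?_⟩
    · intro h
      rcases hp.mem_or_mem h with h | h
      · exact hs₁ h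
      · exact hs₂ h
    · have : algebraMap A B (s₁ * s₂) * (b₁ + b₂) - algebraMap A B (s₂ * a₁ + s₁ * a₂) =
          algebraMap A B s₂ * (algebraMap A B s₁ * b₁ - algebraMap A B a₁) +
            algebraMap A B s₁ * (algebraMap A B s₂ * b₂ - algebraMap A B a₂) := by
        simp only [map_mul, map_add]; ring
      rw [this]
      exact J.add_mem (J.mul_mem_left _ h₁) (J.mul_mem_left _ h₂)
  zero_mem' := ⟨0, 1, fun h => hp.ne_top (p.eq_top_of_isUnit_mem h isUnit_one), by simp⟩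
  algebraMap_mem' := fun r =>
    ⟨r, 1, fun h => hp.ne_top (p.eq_top_of_isUnit_mem h isUnit_one), by simp⟩

lemma mem_resAlg' {p : Ideal A} [p.IsPrime] {J : Ideal B} {b : B} :
    b ∈ resAlg' p J ↔ ∃ a s : A, s ∉ p ∧ algebraMap A B s * b - algebraMap A B a ∈ J := Iff.rfl

lemma resAlg'_closed (p : Ideal A) [p.IsPrime] (Q₁ Q₂ : Ideal B) [hQ₁ : Q₁.IsPrime]
    [hQ₂ : Q₂.IsPrime]
    (h₁ : Q₁.comap (algebraMap A B) = p) (h₂ : Q₂.comap (algebraMap A B) = p) (c : B)
    (hc2 : c ^ 2 ∈ resAlg' p (Q₁ ⊓ Q₂)) (hc3 : c ^ 3 ∈ resAlg' p (Q₁ ⊓ Q₂)) :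
    c ∈ resAlg' p (Q₁ ⊓ Q₂) := by
  obtain ⟨a₂, s₂, hs₂, h2⟩ := hc2
  obtain ⟨a₃, s₃, hs₃, h3⟩ := hc3
  have mem₁ : ∀ x : A, algebraMap A B x ∈ Q₁ ↔ x ∈ p := fun x => by rw [← h₁]; rfl
  have mem₂ : ∀ x : A, algebraMap A B x ∈ Q₂ ↔ x ∈ p := fun x => by rw [← h₂]; rfl
  -- `c ∈ Q₁ ↔ a₂ ∈ p ↔ c ∈ Q₂`
  have key₁ : c ∈ Q₁ ↔ a₂ ∈ p := by
    constructor
    · intro hc
      rw [← mem₁]
      have : algebraMap A B s₂ * c ^ 2 ∈ Q₁ := Q₁.mul_mem_left _ (Q₁.pow_mem_of_mem hc 2 (by norm_num))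
      have h4 := Q₁.sub_mem this h2.1
      rwa [sub_sub_cancel] at h4
    · intro ha
      have h4 : algebraMap A B s₂ * c ^ 2 ∈ Q₁ := by
        have := Q₁.add_mem h2.1 ((mem₁ a₂).mpr ha)
        rwa [sub_add_cancel] at this
      rcases hQ₁.mem_or_mem h4 with h5 | h5
      · exact absurd ((mem₁ s₂).mp h5) hs₂
      · exact hQ₁.mem_of_pow_mem 2 h5
  have key₂ : c ∈ Q₂ ↔ a₂ ∈ p := by
    constructor
    · intro hc
      rw [← mem₂]
      have : algebraMap A B s₂ * c ^ 2 ∈ Q₂ := Q₂.mul_mem_left _ (Q₂.pow_mem_of_mem hc 2 (by norm_num))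
      have h4 := Q₂.sub_mem this h2.2
      rwa [sub_sub_cancel] at h4
    · intro ha
      have h4 : algebraMap A B s₂ * c ^ 2 ∈ Q₂ := by
        have := Q₂.add_mem h2.2 ((mem₂ a₂).mpr ha)
        rwa [sub_add_cancel] at this
      rcases hQ₂.mem_or_mem h4 with h5 | h5
      · exact absurd ((mem₂ s₂).mp h5) hs₂
      · exact hQ₂.mem_of_pow_mem 2 h5
  by_cases ha₂ : a₂ ∈ p
  · have hc₁ := key₁.mpr ha₂
    have hc₂ := key₂.mpr ha₂
    refine ⟨0, 1, fun h => ‹p.IsPrime›.ne_top (p.eq_top_of_isUnit_mem h isUnit_one), ?_⟩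
    simp only [map_one, one_mul, map_zero, sub_zero]
    exact ⟨hc₁, hc₂⟩
  · have hc₁ : c ∉ Q₁ := fun h => ha₂ (key₁.mp h)
    have hc₂ : c ∉ Q₂ := fun h => ha₂ (key₂.mp h)
    refine ⟨a₃ * s₂, s₃ * a₂, ?_, ?_⟩
    · intro h
      rcases ‹p.IsPrime›.mem_or_mem h with h | h
      · exact hs₃ h
      · exact ha₂ h
    · have hid : c ^ 2 * (algebraMap A B (s₃ * a₂) * c - algebraMap A B (a₃ * s₂)) =
          algebraMap A B a₂ * (algebraMap A B s₃ * c ^ 3 - algebraMap A B a₃) -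
            algebraMap A B a₃ * (algebraMap A B s₂ * c ^ 2 - algebraMap A B a₂) := by
        simp only [map_mul]; ring
      have hmem : c ^ 2 * (algebraMap A B (s₃ * a₂) * c - algebraMap A B (a₃ * s₂)) ∈ Q₁ ⊓ Q₂ := by
        rw [hid]
        exact (Q₁ ⊓ Q₂).sub_mem ((Q₁ ⊓ Q₂).mul_mem_left _ h3) ((Q₁ ⊓ Q₂).mul_mem_left _ h2)
      constructor
      · rcases hQ₁.mem_or_mem hmem.1 with h5 | h5
        · exact absurd (hQ₁.mem_of_pow_mem 2 h5) hc₁
        · exact h5
      · rcases hQ₂.mem_or_mem hmem.2 with h5 | h5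
        · exact absurd (hQ₂.mem_of_pow_mem 2 h5) hc₂
        · exact h5

end ResAlg


section Tower
variable {A B : Type u} [CommRing A] [CommRing B] [Algebra A B]

variable (A) in
/-- towers of square/cube extensions, as in the statement -/
def IsTower (l : List B) : Prop := ∀ i : Fin l.length,
  l.get i ^ 2 ∈ Algebra.adjoin A {b : B | ∃ j : Fin l.length, j < i ∧ b = l.get j} ∧
    l.get i ^ 3 ∈ Algebra.adjoin A {b : B | ∃ j : Fin l.length, j < i ∧ b = l.get j}

lemma set_eq_take (l : List B) (i : Fin l.length) :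
    {b : B | ∃ j : Fin l.length, j < i ∧ b = l.get j} = {b | b ∈ l.take i} := by
  ext b
  simp only [Set.mem_ofPred_eq, List.mem_take_iff_getElem]
  constructor
  · rintro ⟨j, hj, rfl⟩
    exact ⟨j, by simp only [lt_min_iff]; exact ⟨hj, j.2⟩, rfl⟩
  · rintro ⟨j, hj, rfl⟩
    rw [lt_min_iff] at hj
    exact ⟨⟨j, hj.2⟩, hj.1, rfl⟩

lemma isTower_iff (l : List B) : IsTower A l ↔ ∀ (i : ℕ) (hi : i < l.length),
    l[i] ^ 2 ∈ Algebra.adjoin A {b | b ∈ l.take i} ∧
      l[i] ^ 3 ∈ Algebra.adjoin A {b | b ∈ l.take i} := by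
  constructor
  · intro h i hi
    have := h ⟨i, hi⟩
    rw [set_eq_take] at this
    exact this
  · intro h i
    rw [set_eq_take]
    exact h i i.2

lemma isTower_nil : IsTower A ([] : List B) := fun i => i.elim0

lemma isTower_append {l₁ l₂ : List B} (h₁ : IsTower A l₁) (h₂ : IsTower A l₂) :
    IsTower A (l₁ ++ l₂) := by
  rw [isTower_iff] at h₁ h₂ ⊢
  intro i hi
  by_cases hi₁ : i < l₁.length
  · rw [List.getElem_append_left hi₁, List.take_append_of_le_length hi₁.le]
    exact h₁ i hi₁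
  · push Not at hi₁
    have hi₂ : i - l₁.length < l₂.length := by
      rw [List.length_append] at hi; omega
    rw [List.getElem_append_right hi₁]
    have hsub : {b | b ∈ l₂.take (i - l₁.length)} ⊆ {b | b ∈ (l₁ ++ l₂).take i} := by
      intro b hb
      simp only [Set.mem_ofPred_eq, List.take_append, List.mem_append] at hb ⊢
      exact Or.inr hb
    exact ⟨Algebra.adjoin_mono hsub (h₂ _ hi₂).1, Algebra.adjoin_mono hsub (h₂ _ hi₂).2⟩

lemma isTower_snoc {l : List B} (h : IsTower A l) (b : B)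
    (h2 : b ^ 2 ∈ Algebra.adjoin A {x | x ∈ l}) (h3 : b ^ 3 ∈ Algebra.adjoin A {x | x ∈ l}) :
    IsTower A (l ++ [b]) := by
  rw [isTower_iff] at h ⊢
  intro i hi
  by_cases hi₁ : i < l.length
  · rw [List.getElem_append_left hi₁, List.take_append_of_le_length hi₁.le]
    exact h i hi₁
  · push Not at hi₁
    have hi₂ : i = l.length := by
      rw [List.length_append, List.length_singleton] at hi; omega
    subst hi₂
    rw [List.getElem_append_right le_rfl]
    simp only [Nat.sub_self, List.getElem_cons_zero, List.take_left']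
    exact ⟨h2, h3⟩

/-- a subalgebra closed under "square and cube imply element" contains every tower -/
lemma tower_le (T : Subalgebra A B) (hT : ∀ c : B, c ^ 2 ∈ T → c ^ 3 ∈ T → c ∈ T)
    (l : List B) (hl : IsTower A l) : Algebra.adjoin A {b | b ∈ l} ≤ T := by
  have key : ∀ (n : ℕ) (i : Fin l.length), (i : ℕ) < n → l.get i ∈ T := by
    intro n
    induction n with
    | zero => intro i hi; omega
    | succ n ih =>
      intro i hi
      have hsub : Algebra.adjoin A {b : B | ∃ j : Fin l.length, j < i ∧ b = l.get j} ≤ T := by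
        apply Algebra.adjoin_le
        rintro b ⟨j, hj, rfl⟩
        exact ih j (by have : (j : ℕ) < i := hj; omega)
      exact hT _ (hsub (hl i).1) (hsub (hl i).2)
  apply Algebra.adjoin_le
  intro b hb
  obtain ⟨i, rfl⟩ := List.mem_iff_get.mp hb
  exact key (i + 1) i (Nat.lt_succ_self _)

end Tower


section Main
variable {A B : Type u} [CommRing A] [CommRing B] [Algebra A B]

/-- the tower condition of the statement -/
def TowerCond (A B : Type u) [CommRing A] [CommRing B] [Algebra A B] : Prop :=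
  ∀ E : Finset B, ∃ l : List B, (↑E : Set B) ⊆ Algebra.adjoin A {b : B | b ∈ l} ∧ IsTower A l

lemma le_of_towerCond (h : TowerCond A B) (T : Subalgebra A B)
    (hT : ∀ c : B, c ^ 2 ∈ T → c ^ 3 ∈ T → c ∈ T) (b : B) : b ∈ T := by
  obtain ⟨l, hl, hlt⟩ := h {b}
  exact tower_le T hT l hlt (hl (by simp))

lemma sn_of_towerCond (hinj : Function.Injective (algebraMap A B)) (h : TowerCond A B) :
    SN A B := by
  have hint : (algebraMap A B).IsIntegral := by
    intro b
    exact le_of_towerCond h (integralClosure A B)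
      (fun c hc _ => IsIntegral.of_pow (n := 2) (by norm_num) hc) b
  have hres : ∀ (Q₁ Q₂ : Ideal B) [Q₁.IsPrime] [Q₂.IsPrime],
      Q₁.comap (algebraMap A B) = Q₂.comap (algebraMap A B) → ∀ b : B,
      ∃ a s : A, s ∉ Q₁.comap (algebraMap A B) ∧
        algebraMap A B s * b - algebraMap A B a ∈ Q₁ ⊓ Q₂ := by
    intro Q₁ Q₂ _ _ h12 b
    haveI : (Q₁.comap (algebraMap A B)).IsPrime := Ideal.comap_isPrime _ _
    exact le_of_towerCond h (resAlg' (Q₁.comap (algebraMap A B)) (Q₁ ⊓ Q₂))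
      (resAlg'_closed _ Q₁ Q₂ rfl h12.symm) b
  refine ⟨hint, ⟨?_, ?_⟩, ?_⟩
  · -- injectivity
    have half : ∀ (Q₁ Q₂ : Ideal B) [Q₁.IsPrime] [Q₂.IsPrime],
        Q₁.comap (algebraMap A B) = Q₂.comap (algebraMap A B) → Q₁ ≤ Q₂ := by
      intro Q₁ Q₂ hQ₁ hQ₂ h12 x hx
      obtain ⟨a, s, hs, hsa⟩ := hres Q₁ Q₂ h12 x
      have ha : algebraMap A B a ∈ Q₁ := by
        have := Q₁.sub_mem (Q₁.mul_mem_left (algebraMap A B s) hx) hsa.1
        rwa [sub_sub_cancel] at this
      have ha₂ : algebraMap A B a ∈ Q₂ := by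
        have : a ∈ Q₁.comap (algebraMap A B) := ha
        rw [h12] at this
        exact this
      have hsx : algebraMap A B s * x ∈ Q₂ := by
        have := Q₂.add_mem hsa.2 ha₂
        rwa [sub_add_cancel] at this
      rcases hQ₂.mem_or_mem hsx with h5 | h5
      · exact absurd (by rw [h12]; exact h5) hs
      · exact h5
    intro Q₁ Q₂ h12
    have h12' : Q₁.asIdeal.comap (algebraMap A B) = Q₂.asIdeal.comap (algebraMap A B) :=
      congrArg PrimeSpectrum.asIdeal h12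
    haveI := Q₁.isPrime
    haveI := Q₂.isPrime
    exact PrimeSpectrum.ext (le_antisymm (half _ _ h12') (half _ _ h12'.symm))
  · apply surj_of_integral_of_ker hint
    rw [(RingHom.injective_iff_ker_eq_bot _).mp hinj]
    exact bot_le
  · intro Q _ b
    obtain ⟨a, s, hs, hsa⟩ := hres Q Q rfl b
    exact ⟨a, s, hs, hsa.1⟩

/-- elements lying in some tower -/
def towerAlg (A B : Type u) [CommRing A] [CommRing B] [Algebra A B] : Subalgebra A B where
  carrier := {b | ∃ l : List B, IsTower A l ∧ b ∈ Algebra.adjoin A {x | x ∈ l}}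
  mul_mem' := by
    rintro x y ⟨l₁, h₁, hx⟩ ⟨l₂, h₂, hy⟩
    refine ⟨l₁ ++ l₂, isTower_append h₁ h₂, ?_⟩
    refine Subalgebra.mul_mem _ (Algebra.adjoin_mono ?_ hx) (Algebra.adjoin_mono ?_ hy)
    · intro b hb; simp only [Set.mem_ofPred_eq, List.mem_append] at hb ⊢; exact Or.inl hb
    · intro b hb; simp only [Set.mem_ofPred_eq, List.mem_append] at hb ⊢; exact Or.inr hb
  add_mem' := by
    rintro x y ⟨l₁, h₁, hx⟩ ⟨l₂, h₂, hy⟩
    refine ⟨l₁ ++ l₂, isTower_append h₁ h₂, ?_⟩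
    refine Subalgebra.add_mem _ (Algebra.adjoin_mono ?_ hx) (Algebra.adjoin_mono ?_ hy)
    · intro b hb; simp only [Set.mem_ofPred_eq, List.mem_append] at hb ⊢; exact Or.inl hb
    · intro b hb; simp only [Set.mem_ofPred_eq, List.mem_append] at hb ⊢; exact Or.inr hb
  one_mem' := ⟨[], isTower_nil, Subalgebra.one_mem _⟩
  zero_mem' := ⟨[], isTower_nil, Subalgebra.zero_mem _⟩
  algebraMap_mem' := fun r => ⟨[], isTower_nil, Subalgebra.algebraMap_mem _ r⟩

lemma sn_top (h : SN A B) (E : Subalgebra A B) : SN E B := by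
  obtain ⟨hint, hbij, hres⟩ := h
  haveI : Algebra.IsIntegral A B := ⟨hint⟩
  haveI : Algebra.IsIntegral E B := Algebra.IsIntegral.tower_top (R := A)
  have hintE : (algebraMap E B).IsIntegral := fun b => Algebra.IsIntegral.isIntegral b
  have hcomp : algebraMap A B = (algebraMap E B).comp (algebraMap A E) := rfl
  refine ⟨hintE, ⟨?_, ?_⟩, ?_⟩
  · intro Q₁ Q₂ h12
    apply hbij.1
    apply PrimeSpectrum.ext
    show Q₁.asIdeal.comap (algebraMap A B) = Q₂.asIdeal.comap (algebraMap A B)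
    rw [hcomp, ← Ideal.comap_comap, ← Ideal.comap_comap]
    exact congrArg (Ideal.comap (algebraMap A E)) (congrArg PrimeSpectrum.asIdeal h12)
  · apply surj_of_integral_of_ker hintE
    rw [(RingHom.injective_iff_ker_eq_bot _).mp Subtype.val_injective]
    exact bot_le
  · intro Q _ b
    obtain ⟨a, s, hs, hsa⟩ := hres Q b
    exact ⟨algebraMap A E a, algebraMap A E s, hs, hsa⟩

lemma towerAlg_eq_top (h : SN A B) : towerAlg A B = ⊤ := by
  by_contra hne
  have hns : ¬ Function.Surjective (algebraMap (towerAlg A B) B) := by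
    intro hs
    apply hne
    rw [eq_top_iff]
    intro b _
    obtain ⟨x, rfl⟩ := hs b
    exact x.2
  obtain ⟨b, hb, hb2, hb3⟩ := sn_exists_sq_cube (sn_top h (towerAlg A B)) hns
  apply hb
  obtain ⟨⟨x2, l₁, h₁, hx2⟩, hx2'⟩ := hb2
  obtain ⟨⟨x3, l₂, h₂, hx3⟩, hx3'⟩ := hb3
  have hx2'' : x2 = b ^ 2 := hx2'
  have hx3'' : x3 = b ^ 3 := hx3'
  subst hx2''
  have hmem : b ∈ towerAlg A B := by
    refine ⟨(l₁ ++ l₂) ++ [b], isTower_snoc (isTower_append h₁ h₂) b ?_ ?_, ?_⟩
    · refine Algebra.adjoin_mono ?_ hx2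
      intro y hy; simp only [Set.mem_ofPred_eq, List.mem_append] at hy ⊢; exact Or.inl hy
    · rw [← hx3'']
      refine Algebra.adjoin_mono ?_ hx3
      intro y hy; simp only [Set.mem_ofPred_eq, List.mem_append] at hy ⊢; exact Or.inr hy
    · apply Algebra.subset_adjoin
      simp
  exact ⟨⟨b, hmem⟩, rfl⟩

lemma towerCond_of_sn (h : SN A B) : TowerCond A B := by
  classical
  intro E
  induction E using Finset.induction_on with
  | empty => exact ⟨[], by simp, isTower_nil⟩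
  | insert b E _ ih =>
    obtain ⟨l₁, hl₁, ht₁⟩ := ih
    have hb : b ∈ towerAlg A B := by rw [towerAlg_eq_top h]; trivial
    obtain ⟨l₂, ht₂, hl₂⟩ := hb
    refine ⟨l₁ ++ l₂, ?_, isTower_append ht₁ ht₂⟩
    intro x hx
    rw [Finset.coe_insert] at hx
    rcases hx with rfl | hx
    · refine Algebra.adjoin_mono ?_ hl₂
      intro y hy; simp only [Set.mem_ofPred_eq, List.mem_append] at hy ⊢; exact Or.inr hy
    · refine Algebra.adjoin_mono ?_ (hl₁ hx)
      intro y hy; simp only [Set.mem_ofPred_eq, List.mem_append] at hy ⊢; exact Or.inl hy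

end Main

end Groth.Agent.H4.SemiNormalTower
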