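import Mathlib
import Groth.Prelude.Def_Flat
import Groth.Agent.H4.SemiNormalTower

set_option autoImplicit false
universe u
open CategoryTheory CategoryTheory.Limits AlgebraicGeometry TensorProduct

namespace Groth.Agent.H4.UHTower

open Groth.Agent.S7405 Groth.Agent.H4.UHCrit Groth.Agent.H4.SemiNormal
  Groth.Agent.H4.SemiNormalTower

/-- elementwise version of the residue field criterion -/
lemma ev_mem_range {R S : CommRingCat.{u}} (φ : R ⟶ S) (x : Spec S) (b : S)
    (h : ev S x b ∈ Set.range ((Spec.map φ).residueFieldMap x)) :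
    ∃ a s : R, φ s ∉ x.asIdeal ∧ φ s * b - φ a ∈ x.asIdeal := by
  obtain ⟨u, hu⟩ := h
  obtain ⟨a, s, hs, hus⟩ := ev_exists R (Spec.map φ x) u
  refine ⟨a, s, hs, ?_⟩
  have := congrArg ((Spec.map φ).residueFieldMap x) hus
  rw [map_mul, hu, ev_naturality, ev_naturality, ← map_mul, ← sub_eq_zero, ← map_sub,
    ev_eq_zero_iff] at this
  rw [mul_comm]
  exact this

lemma ev_mem_range_of {R S : CommRingCat.{u}} (φ : R ⟶ S) (x : Spec S) (b : S) (a s : R)
    (hs : φ s ∉ x.asIdeal) (hsa : φ s * b - φ a ∈ x.asIdeal) :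
    ev S x b ∈ Set.range ((Spec.map φ).residueFieldMap x) := by
  let y := Spec.map φ x
  have e1 : ev S x (φ s) ≠ 0 := by rw [Ne, ev_eq_zero_iff]; exact hs
  have n1 : ev R y s ≠ 0 := by
    intro h0; apply e1; rw [← ev_naturality, h0, map_zero]
  refine ⟨ev R y a / ev R y s, ?_⟩
  rw [map_div₀, ev_naturality, ev_naturality, div_eq_iff e1]
  rw [← ev_eq_zero_iff, map_sub, sub_eq_zero, map_mul] at hsa
  rw [← hsa, mul_comm]

section PI
variable (A B : Type u) [CommRing A] [CommRing B] [Algebra A B]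

/-- ring-level form of "purely inseparable residue field extensions" -/
def PI : Prop := ∀ (Q : Ideal B) [Q.IsPrime] (b : B), ∃ (ℓ n : ℕ),
  (ℓ = 1 ∨ (ℓ.Prime ∧ (ℓ : B) ∈ Q)) ∧
    ∃ a s : A, algebraMap A B s ∉ Q ∧ algebraMap A B s * b ^ (ℓ ^ n) - algebraMap A B a ∈ Q

/-- integral, bijective on spectra, purely inseparable residue field extensions -/
def UHC : Prop := (algebraMap A B).IsIntegral ∧
  Function.Bijective (PrimeSpectrum.comap (algebraMap A B)) ∧ PI A B

lemma pi_of_ui (h : UniversallyInjective (Spec.map (CommRingCat.ofHom (algebraMap A B)))) :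
    PI A B := by
  intro Q hQ b
  let f := Spec.map (CommRingCat.ofHom (algebraMap A B))
  have hT := (tfae_universallyInjective f).out 0 2
  have h3 := (hT.mp h).2
  let x : Spec (CommRingCat.of B) := ⟨Q, hQ⟩
  have hx := h3 x
  let K := (Spec (CommRingCat.of A)).residueField (f x)
  let L := (Spec (CommRingCat.of B)).residueField x
  algebraize [(f.residueFieldMap x).hom]
  obtain ⟨q, hq⟩ := ExpChar.exists K
  haveI := hq
  obtain ⟨n, hn⟩ := IsPurelyInseparable.pow_mem K q (ev (CommRingCat.of B) x b)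
  rw [← map_pow] at hn
  have hn' : ev (CommRingCat.of B) x (b ^ q ^ n) ∈ Set.range (f.residueFieldMap x) := hn
  obtain ⟨a, s, hs, hsa⟩ := ev_mem_range (CommRingCat.ofHom (algebraMap A B)) x _ hn'
  refine ⟨q, n, ?_, a, s, hs, hsa⟩
  cases hq with
  | zero => exact Or.inl rfl
  | prime hprime =>
    right
    refine ⟨hprime, ?_⟩
    have h0 : ((q : ℕ) : K) = 0 := CharP.cast_eq_zero K q
    have h1 : ev (CommRingCat.of A) (f x) ((q : ℕ) : A) = 0 := by rw [map_natCast]; exact h0
    rw [ev_eq_zero_iff] at h1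
    have h2 : algebraMap A B ((q : ℕ) : A) ∈ Q := h1
    rwa [map_natCast] at h2

end PI


section PI2
variable (A B : Type u) [CommRing A] [CommRing B] [Algebra A B]

lemma ui_of_pi (hinj : Function.Injective (PrimeSpectrum.comap (algebraMap A B)))
    (hpi : PI A B) :
    UniversallyInjective (Spec.map (CommRingCat.ofHom (algebraMap A B))) := by
  let f := Spec.map (CommRingCat.ofHom (algebraMap A B))
  have hT := (tfae_universallyInjective f).out 0 2
  rw [hT]
  refine ⟨hinj, fun x => ?_⟩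
  rw [RingHom.IsPurelyInseparable]
  let K := (Spec (CommRingCat.of A)).residueField (f x)
  let L := (Spec (CommRingCat.of B)).residueField x
  letI : Algebra K L := (f.residueFieldMap x).hom.toAlgebra
  obtain ⟨q, hq⟩ := ExpChar.exists K
  haveI := hq
  haveI := x.isPrime
  rw [isPurelyInseparable_iff_pow_mem K q]
  have hrange : ∀ y : L, y ∈ (algebraMap K L).range ↔ y ∈ Set.range (f.residueFieldMap x) :=
    fun y => Iff.rfl
  -- elements coming from `B`
  have key : ∀ b : B, ∃ n : ℕ, (ev (CommRingCat.of B) x b) ^ q ^ n ∈ (algebraMap K L).range := by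
    intro b
    obtain ⟨ℓ, n, hℓ, a, s, hs, hsa⟩ := hpi x.asIdeal b
    rcases hℓ with rfl | ⟨hℓp, hℓQ⟩
    · refine ⟨0, ?_⟩
      rw [pow_zero, pow_one, hrange]
      rw [one_pow, pow_one] at hsa
      exact ev_mem_range_of (CommRingCat.ofHom (algebraMap A B)) x b a s hs hsa
    · have hℓL : ((ℓ : ℕ) : L) = 0 := by
        have : ev (CommRingCat.of B) x ((ℓ : ℕ) : B) = 0 := by
          rw [ev_eq_zero_iff]; exact hℓQ
        rwa [map_natCast] at this
      have hℓK : ((ℓ : ℕ) : K) = 0 := by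
        apply (algebraMap K L).injective
        rw [map_natCast, map_zero]
        exact hℓL
      have hqℓ : q = ℓ := by
        cases hq with
        | zero =>
          exfalso
          exact hℓp.ne_zero (Nat.cast_eq_zero.mp hℓK)
        | prime hprime =>
          have := (CharP.cast_eq_zero_iff K q ℓ).mp hℓK
          exact (Nat.prime_dvd_prime_iff_eq hprime hℓp).mp this
      refine ⟨n, ?_⟩
      rw [hqℓ, ← map_pow, hrange]
      exact ev_mem_range_of (CommRingCat.ofHom (algebraMap A B)) x _ a s hs hsa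
  intro t
  obtain ⟨b', s', hs', ht⟩ := ev_exists (CommRingCat.of B) x t
  obtain ⟨n₁, u₁, hu₁⟩ := key b'
  obtain ⟨n₂, u₂, hu₂⟩ := key s'
  have e3 : ev (CommRingCat.of B) x s' ≠ 0 := by rw [Ne, ev_eq_zero_iff]; exact hs'
  refine ⟨n₁ + n₂, u₁ ^ q ^ n₂ / u₂ ^ q ^ n₁, ?_⟩
  rw [map_div₀, map_pow, map_pow, hu₁, hu₂, ← pow_mul, ← pow_mul, ← pow_add, ← pow_add,
    add_comm n₂ n₁, ← div_pow, ← ht, mul_div_assoc, div_self e3, mul_one]

lemma uhc_iff :
    FlatMor.IsUnivHomeo (Spec.map (CommRingCat.ofHom (algebraMap A B))) ↔ UHC A B := by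
  constructor
  · intro h1
    have h1' := (uh_alg_iff A B).mp h1
    have hui : UniversallyInjective (Spec.map (CommRingCat.ofHom (algebraMap A B))) :=
      (univInj_alg_iff A B).mpr h1'.2.1
    exact ⟨h1'.1, ⟨(Spec.map (CommRingCat.ofHom (algebraMap A B))).injective, h1'.2.2⟩,
      pi_of_ui A B hui⟩
  · rintro ⟨h1, h2, h3⟩
    exact (uh_alg_iff A B).mpr ⟨h1, (univInj_alg_iff A B).mp (ui_of_pi A B h2.1 h3), h2.2⟩

end PI2


section CoreG
variable {A B : Type u} [CommRing A] [CommRing B] [Algebra A B]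

/-- the two kinds of elementary steps -/
def StepEx (A B : Type u) [CommRing A] [CommRing B] [Algebra A B] : Prop :=
  (∃ b : B, b ∉ (algebraMap A B).range ∧ b ^ 2 ∈ (algebraMap A B).range ∧
      b ^ 3 ∈ (algebraMap A B).range) ∨
    ∃ (p : ℕ) (b : B), p.Prime ∧ b ∉ (algebraMap A B).range ∧
      (p : B) * b ∈ (algebraMap A B).range ∧ b ^ p ∈ (algebraMap A B).range

theorem coreG [Module.Finite A B]
    (hinj : Function.Injective (PrimeSpectrum.comap (algebraMap A B)))
    (hpi : PI A B) (hns : ¬ Function.Surjective (algebraMap A B)) : StepEx A B := by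
  classical
  haveI : Algebra.IsIntegral A B := Algebra.IsIntegral.of_finite A B
  set R := (algebraMap A B).range with hR
  have hIne : cond A B ≠ ⊤ := by
    intro h
    apply hns
    intro b
    have h1 : (1 : B) ∈ cond A B := by rw [h]; trivial
    have := h1 b
    rwa [one_mul] at this
  obtain ⟨m, hm, hIm⟩ := Ideal.exists_le_maximal _ hIne
  haveI := hm.isPrime
  obtain ⟨q, hq0, -⟩ := Ideal.exists_minimalPrimes_le hIm
  have hq : Minimal (fun q : Ideal B => q.IsPrime ∧ cond A B ≤ q) q := hq0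
  have hqP : q.IsPrime := hq.prop.1
  have hIq : cond A B ≤ q := hq.prop.2
  -- step 2
  have step2 : ∃ b : B, ∀ u : A, algebraMap A B u ∉ q → algebraMap A B u * b ∉ R := by
    by_contra hcon
    push Not at hcon
    choose u hu hub using hcon
    obtain ⟨S, hS⟩ := (Module.Finite.fg_top : (⊤ : Submodule A B).FG)
    let w : A := ∏ i ∈ S, u i
    have hwq : algebraMap A B w ∉ q := by
      rw [map_prod]
      intro h
      obtain ⟨i, -, hi⟩ := (hqP.prod_mem_iff).mp h
      exact hu i hi
    have hwS : ∀ i ∈ S, algebraMap A B w * i ∈ R := by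
      intro i hi
      have : w = (∏ j ∈ S.erase i, u j) * u i := by
        rw [Finset.prod_erase_mul S u hi]
      rw [this, map_mul, mul_assoc]
      exact R.mul_mem ⟨_, rfl⟩ (hub i)
    have hwB : ∀ b : B, algebraMap A B w * b ∈ R := by
      intro b
      have hb : b ∈ Submodule.span A (S : Set B) := by rw [hS]; trivial
      induction hb using Submodule.span_induction with
      | mem x hx => exact hwS x hx
      | zero => rw [mul_zero]; exact R.zero_mem
      | add x y _ _ hx hy => rw [mul_add]; exact R.add_mem hx hy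
      | smul a x _ hx =>
        rw [Algebra.smul_def, mul_left_comm]
        exact R.mul_mem ⟨_, rfl⟩ hx
    exact hwq (hIq hwB)
  obtain ⟨b, hb⟩ := step2
  by_cases hcase : ∃ f ∈ q, ∀ u : A, algebraMap A B u ∉ q → algebraMap A B u * f ∉ R
  · -- case 1: as in the seminormal case
    left
    obtain ⟨f, hfq, step3⟩ := hcase
    let M : Submonoid B := Submonoid.map (algebraMap A B) (q.comap (algebraMap A B)).primeCompl ⊔
      Submonoid.powers f
    have hnd : ¬ Disjoint ((cond A B : Ideal B) : Set B) (M : Set B) := by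
      intro hd
      obtain ⟨q', hq'P, hIq', hq'M⟩ := Ideal.exists_le_prime_disjoint _ _ hd
      have hcomap : q'.comap (algebraMap A B) ≤ q.comap (algebraMap A B) := by
        intro x hx
        by_contra hxq
        have h1 : algebraMap A B x ∈ M :=
          Submonoid.mem_sup_left (Submonoid.mem_map.mpr ⟨x, hxq, rfl⟩)
        exact Set.disjoint_left.mp hq'M hx h1
      haveI : (q.comap (algebraMap A B)).IsPrime := Ideal.comap_isPrime _ _
      obtain ⟨Q, hQq', hQP, hQc⟩ :=
        Ideal.exists_ideal_over_prime_of_isIntegral (q.comap (algebraMap A B)) q' hcomap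
      have hQq : Q = q := by
        have := hinj (a₁ := ⟨Q, hQP⟩) (a₂ := ⟨q, hqP⟩) (PrimeSpectrum.ext hQc)
        exact congrArg PrimeSpectrum.asIdeal this
      have hq'q : q' ≤ q := hQq ▸ hQq'
      have hqq' : q ≤ q' := hq.le_of_le ⟨hq'P, hIq'⟩ hq'q
      have hfM : f ∈ M := Submonoid.mem_sup_right (Submonoid.mem_powers f)
      exact Set.disjoint_left.mp hq'M (hqq' hfq) hfM
    rw [Set.not_disjoint_iff] at hnd
    obtain ⟨x, hxI, hxM⟩ := hnd
    obtain ⟨y, hy, z, hz, rfl⟩ := Submonoid.mem_sup.mp hxM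
    obtain ⟨t, ht, rfl⟩ := Submonoid.mem_map.mp hy
    obtain ⟨n, rfl⟩ := (Submonoid.mem_powers_iff _ _).mp hz
    have htq : algebraMap A B t ∉ q := ht
    refine exists_sq_cube_of_pow R (algebraMap A B t * f) (step3 t htq) (n + 2) (by omega) ?_ ?_
    · apply cond_le_range
      have : (algebraMap A B t * f) ^ (n + 2) =
          (algebraMap A B t * f ^ n) * (algebraMap A B t ^ (n + 1) * f ^ 2) := by ring
      rw [this]
      exact (cond A B).mul_mem_right _ hxI
    · apply cond_le_range
      have : (algebraMap A B t * f) ^ (n + 2 + 1) =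
          (algebraMap A B t * f ^ n) * (algebraMap A B t ^ (n + 2) * f ^ 3) := by ring
      rw [this]
      exact (cond A B).mul_mem_right _ hxI
  · -- case 2
    right
    push Not at hcase
    obtain ⟨ℓ, n, hℓ, hPn⟩ := hpi q b
    let P : ℕ → Prop := fun k => ∃ a s : A, algebraMap A B s ∉ q ∧
      algebraMap A B s * b ^ (ℓ ^ k) - algebraMap A B a ∈ q
    have hP0 : ¬ P 0 := by
      rintro ⟨a, s, hs, hsa⟩
      rw [pow_zero, pow_one] at hsa
      obtain ⟨u, hu, huf⟩ := hcase _ hsa
      have hus : algebraMap A B (u * s) ∉ q := by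
        rw [map_mul]
        intro h
        rcases hqP.mem_or_mem h with h | h
        · exact hu h
        · exact hs h
      apply hb (u * s) hus
      have : algebraMap A B (u * s) * b =
          algebraMap A B u * (algebraMap A B s * b - algebraMap A B a) + algebraMap A B (u * a) := by
        rw [map_mul, map_mul]; ring
      rw [this]
      exact R.add_mem huf ⟨_, rfl⟩
    have hPn' : P n := hPn
    have hℓ' : ℓ.Prime ∧ (ℓ : B) ∈ q := by
      rcases hℓ with rfl | h
      · exfalso
        apply hP0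
        obtain ⟨a, s, hs, hsa⟩ := hPn'
        refine ⟨a, s, hs, ?_⟩
        rwa [one_pow] at hsa ⊢
      · exact h
    obtain ⟨hℓp, hℓq⟩ := hℓ'
    have hex : ∃ k, P k := ⟨n, hPn'⟩
    set k := Nat.find hex with hk
    have hPk : P k := Nat.find_spec hex
    have hk0 : k ≠ 0 := by
      intro h0
      rw [h0] at hPk
      exact hP0 hPk
    obtain ⟨k', hk'⟩ := Nat.exists_eq_succ_of_ne_zero hk0
    have hPk' : ¬ P k' := Nat.find_min hex (by omega)
    set b₁ := b ^ (ℓ ^ k') with hb₁
    obtain ⟨a, s, hs, hsa⟩ := hPk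
    have hpow : b ^ (ℓ ^ k) = b₁ ^ ℓ := by
      rw [hb₁, ← pow_mul, hk', pow_succ]
    rw [hpow] at hsa
    -- `u b₁ ∉ R`
    have hb₁R : ∀ u : A, algebraMap A B u ∉ q → algebraMap A B u * b₁ ∉ R := by
      rintro u hu ⟨a', ha'⟩
      apply hPk'
      refine ⟨a', u, hu, ?_⟩
      rw [← hb₁, ha', sub_self]
      exact q.zero_mem
    obtain ⟨u, hu, huf⟩ := hcase _ hsa
    have hw : algebraMap A B (u * s) * b₁ ^ ℓ ∈ R := by
      have : algebraMap A B (u * s) * b₁ ^ ℓ =
          algebraMap A B u * (algebraMap A B s * b₁ ^ ℓ - algebraMap A B a) +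
            algebraMap A B (u * a) := by
        rw [map_mul, map_mul]; ring
      rw [this]
      exact R.add_mem huf ⟨_, rfl⟩
    have hwq : algebraMap A B (u * s) ∉ q := by
      rw [map_mul]
      intro h
      rcases hqP.mem_or_mem h with h | h
      · exact hu h
      · exact hs h
    have hℓb : (ℓ : B) * b₁ ∈ q := q.mul_mem_right _ hℓq
    obtain ⟨u', hu', hu'f⟩ := hcase _ hℓb
    have hwu' : algebraMap A B (u * s * u') ∉ q := by
      rw [map_mul]
      intro h
      rcases hqP.mem_or_mem h with h | h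
      · exact hwq h
      · exact hu' h
    refine ⟨ℓ, algebraMap A B (u * s * u') * b₁, hℓp, hb₁R _ hwu', ?_, ?_⟩
    · have : (ℓ : B) * (algebraMap A B (u * s * u') * b₁) =
          algebraMap A B (u * s) * (algebraMap A B u' * ((ℓ : B) * b₁)) := by
        rw [map_mul (algebraMap A B) (u * s) u']; ring
      rw [this]
      exact R.mul_mem ⟨_, rfl⟩ hu'f
    · obtain ⟨ℓ', rfl⟩ : ∃ ℓ', ℓ = ℓ' + 1 := ⟨ℓ - 1, by have := hℓp.pos; omega⟩
      have : (algebraMap A B (u * s * u') * b₁) ^ (ℓ' + 1) =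
          algebraMap A B ((u * s) ^ ℓ' * u' ^ (ℓ' + 1)) * (algebraMap A B (u * s) * b₁ ^ (ℓ' + 1)) := by
        simp only [map_mul, map_pow]; ring
      rw [this]
      exact R.mul_mem ⟨_, rfl⟩ hw

end CoreG


section InterG
variable {A B : Type u} [CommRing A] [CommRing B] [Algebra A B]

lemma uhc_sub (h : UHC A B) (E : Subalgebra A B) : UHC A E := by
  obtain ⟨hint, hbij, hpi⟩ := h
  have hcomp : algebraMap A B = (algebraMap E B).comp (algebraMap A E) := rfl
  have hinjE : Function.Injective (PrimeSpectrum.comap (algebraMap A E)) := by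
    intro q₁ q₂ h12
    haveI := q₁.isPrime
    haveI := q₂.isPrime
    obtain ⟨Q₁, hQ₁, hQ₁q⟩ := exists_prime_over_sub hint E q₁.asIdeal
    obtain ⟨Q₂, hQ₂, hQ₂q⟩ := exists_prime_over_sub hint E q₂.asIdeal
    have h3 : (⟨Q₁, hQ₁⟩ : PrimeSpectrum B) = ⟨Q₂, hQ₂⟩ := by
      apply hbij.1
      apply PrimeSpectrum.ext
      show Q₁.comap (algebraMap A B) = Q₂.comap (algebraMap A B)
      rw [hcomp, ← Ideal.comap_comap, ← Ideal.comap_comap, hQ₁q, hQ₂q]
      exact congrArg PrimeSpectrum.asIdeal h12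
    have h4 : Q₁ = Q₂ := congrArg PrimeSpectrum.asIdeal h3
    apply PrimeSpectrum.ext
    rw [← hQ₁q, ← hQ₂q, h4]
  have hintE : (algebraMap A E).IsIntegral := by
    intro x
    have : IsIntegral A (E.val x) := hint _
    exact (isIntegral_algHom_iff E.val Subtype.val_injective).mp this
  have hkerE : RingHom.ker (algebraMap A E) ≤ nilradical A := by
    rw [ker_sub]
    intro x hx
    rw [nilradical_eq_sInf, Ideal.mem_sInf]
    intro p hp
    obtain ⟨Q, hQ⟩ := hbij.2 ⟨p, hp⟩
    have : p = Q.asIdeal.comap (algebraMap A B) := (congrArg PrimeSpectrum.asIdeal hQ).symm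
    rw [this, Ideal.mem_comap, (RingHom.mem_ker).mp hx]
    exact zero_mem _
  refine ⟨hintE, ⟨hinjE, surj_of_integral_of_ker hintE hkerE⟩, ?_⟩
  intro q' _ b'
  obtain ⟨Q, hQ, hQq⟩ := exists_prime_over_sub hint E q'
  obtain ⟨ℓ, n, hℓ, a, s, hs, hsa⟩ := hpi Q (b' : B)
  refine ⟨ℓ, n, ?_, a, s, ?_, ?_⟩
  · rcases hℓ with h | ⟨h1, h2⟩
    · exact Or.inl h
    · refine Or.inr ⟨h1, ?_⟩
      rw [← hQq, Ideal.mem_comap, map_natCast]
      exact h2
  · intro hmem
    rw [← hQq, Ideal.mem_comap] at hmem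
    exact hs hmem
  · rw [← hQq, Ideal.mem_comap, map_sub, map_mul, map_pow]
    exact hsa

lemma uhc_top (h : UHC A B) (E : Subalgebra A B) : UHC E B := by
  obtain ⟨hint, hbij, hpi⟩ := h
  haveI : Algebra.IsIntegral A B := ⟨hint⟩
  haveI : Algebra.IsIntegral E B := Algebra.IsIntegral.tower_top (R := A)
  have hintE : (algebraMap E B).IsIntegral := fun b => Algebra.IsIntegral.isIntegral b
  have hcomp : algebraMap A B = (algebraMap E B).comp (algebraMap A E) := rfl
  refine ⟨hintE, ⟨?_, ?_⟩, ?_⟩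
  · intro Q₁ Q₂ h12
    apply hbij.1
    apply PrimeSpectrum.ext
    show Q₁.asIdeal.comap (algebraMap A B) = Q₂.asIdeal.comap (algebraMap A B)
    rw [hcomp, ← Ideal.comap_comap, ← Ideal.comap_comap]
    exact congrArg (Ideal.comap (algebraMap A E)) (congrArg PrimeSpectrum.asIdeal h12)
  · apply surj_of_integral_of_ker hintE
    rw [(RingHom.injective_iff_ker_eq_bot _).mp Subtype.val_injective]
    exact bot_le
  · intro Q _ b
    obtain ⟨ℓ, n, hℓ, a, s, hs, hsa⟩ := hpi Q b
    exact ⟨ℓ, n, hℓ, algebraMap A E a, algebraMap A E s, hs, hsa⟩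

lemma uhc_stepEx (h : UHC A B) (hns : ¬ Function.Surjective (algebraMap A B)) : StepEx A B := by
  have hb₀ : ∃ b₀ : B, b₀ ∉ Set.range (algebraMap A B) := by
    by_contra hcon
    push Not at hcon
    exact hns hcon
  obtain ⟨b₀, hb₀⟩ := hb₀
  let E : Subalgebra A B := Algebra.adjoin A {b₀}
  haveI : Module.Finite A E := Algebra.finite_adjoin_simple_of_isIntegral (h.1 b₀)
  have hE := uhc_sub h E
  have hnsE : ¬ Function.Surjective (algebraMap A E) := by
    intro hs
    obtain ⟨a, ha⟩ := hs ⟨b₀, Algebra.subset_adjoin (Set.mem_singleton b₀)⟩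
    exact hb₀ ⟨a, congrArg Subtype.val ha⟩
  have hmem : ∀ x : E, x ∈ (algebraMap A E).range ↔ (x : B) ∈ (algebraMap A B).range := by
    intro x
    constructor
    · rintro ⟨a, ha⟩
      exact ⟨a, congrArg Subtype.val ha⟩
    · rintro ⟨a, ha⟩
      exact ⟨a, Subtype.ext ha⟩
  rcases coreG hE.2.1.1 hE.2.2 hnsE with ⟨b, hb, hb2, hb3⟩ | ⟨p, b, hp, hb, hpb, hbp⟩
  · left
    refine ⟨(b : B), fun hh => hb ((hmem b).mpr hh), ?_, ?_⟩
    · have := (hmem _).mp hb2; simpa using this
    · have := (hmem _).mp hb3; simpa using this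
  · right
    refine ⟨p, (b : B), hp, fun hh => hb ((hmem b).mpr hh), ?_, ?_⟩
    · have := (hmem _).mp hpb; simpa using this
    · have := (hmem _).mp hbp; simpa using this

end InterG

end Groth.Agent.H4.UHTower
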