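import Mathlib
import Groth.Prelude.Def_Flat
import Groth.Agent.H4.UHTower

set_option autoImplicit false
universe u
open CategoryTheory CategoryTheory.Limits AlgebraicGeometry TensorProduct

namespace Groth.Agent.H4.UHTower2

open Groth.Agent.S7405 Groth.Agent.H4.UHCrit Groth.Agent.H4.SemiNormal
  Groth.Agent.H4.SemiNormalTower Groth.Agent.H4.UHTower

section TowerP
variable {A B : Type u} [CommRing A] [CommRing B] [Algebra A B]
  (St : Subalgebra A B → B → Prop)

/-- towers for a general step predicate -/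
def IsTowerP (l : List B) : Prop := ∀ i : Fin l.length,
  St (Algebra.adjoin A {b : B | ∃ j : Fin l.length, j < i ∧ b = l.get j}) (l.get i)

lemma isTowerP_iff (l : List B) : IsTowerP St l ↔ ∀ (i : ℕ) (hi : i < l.length),
    St (Algebra.adjoin A {b | b ∈ l.take i}) l[i] := by
  constructor
  · intro h i hi
    have := h ⟨i, hi⟩
    rw [set_eq_take] at this
    exact this
  · intro h i
    rw [set_eq_take]
    exact h i i.2

lemma isTowerP_nil : IsTowerP St ([] : List B) := fun i => i.elim0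

variable {St}
variable (hmono : ∀ (S T : Subalgebra A B) (c : B), S ≤ T → St S c → St T c)

include hmono in
lemma isTowerP_append {l₁ l₂ : List B} (h₁ : IsTowerP St l₁) (h₂ : IsTowerP St l₂) :
    IsTowerP St (l₁ ++ l₂) := by
  rw [isTowerP_iff] at h₁ h₂ ⊢
  intro i hi
  by_cases hi₁ : i < l₁.length
  · rw [List.getElem_append_left hi₁, List.take_append_of_le_length hi₁.le]
    exact h₁ i hi₁
  · push Not at hi₁
    have hi₂ : i - l₁.length < l₂.length := by
      rw [List.length_append] at hi; omega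
    rw [List.getElem_append_right hi₁]
    have hsub : {b | b ∈ l₂.take (i - l₁.length)} ⊆ {b | b ∈ (l₁ ++ l₂).take i} := by
      intro b hb
      simp only [Set.mem_ofPred_eq, List.take_append, List.mem_append] at hb ⊢
      exact Or.inr hb
    exact hmono _ _ _ (Algebra.adjoin_mono hsub) (h₂ _ hi₂)

lemma isTowerP_snoc {l : List B} (h : IsTowerP St l) (b : B)
    (hb : St (Algebra.adjoin A {x | x ∈ l}) b) : IsTowerP St (l ++ [b]) := by
  rw [isTowerP_iff] at h ⊢
  intro i hi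
  by_cases hi₁ : i < l.length
  · rw [List.getElem_append_left hi₁, List.take_append_of_le_length hi₁.le]
    exact h i hi₁
  · push Not at hi₁
    have hi₂ : i = l.length := by
      rw [List.length_append, List.length_singleton] at hi; omega
    subst hi₂
    rw [List.getElem_append_right le_rfl]
    simp only [Nat.sub_self, List.getElem_cons_zero, List.take_left']
    exact hb

include hmono in
lemma towerP_le (T : Subalgebra A B) (hT : ∀ c : B, St T c → c ∈ T)
    (l : List B) (hl : IsTowerP St l) : Algebra.adjoin A {b | b ∈ l} ≤ T := by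
  have key : ∀ (n : ℕ) (i : Fin l.length), (i : ℕ) < n → l.get i ∈ T := by
    intro n
    induction n with
    | zero => intro i hi; omega
    | succ n ih =>
      intro i hi
      have hsub : Algebra.adjoin A {b : B | ∃ j : Fin l.length, j < i ∧ b = l.get j} ≤ T := by
        apply Algebra.adjoin_le
        rintro b ⟨j, hj, rfl⟩
        exact ih j (by have : (j : ℕ) < i := hj; omega)
      exact hT _ (hmono _ _ _ hsub (hl i))
  apply Algebra.adjoin_le
  intro b hb
  obtain ⟨i, rfl⟩ := List.mem_iff_get.mp hb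
  exact key (i + 1) i (Nat.lt_succ_self _)

variable (St) in
/-- elements lying in some tower -/
def towerAlgP (hmono : ∀ (S T : Subalgebra A B) (c : B), S ≤ T → St S c → St T c) :
    Subalgebra A B where
  carrier := {b | ∃ l : List B, IsTowerP St l ∧ b ∈ Algebra.adjoin A {x | x ∈ l}}
  mul_mem' := by
    rintro x y ⟨l₁, h₁, hx⟩ ⟨l₂, h₂, hy⟩
    refine ⟨l₁ ++ l₂, isTowerP_append hmono h₁ h₂, ?_⟩
    refine Subalgebra.mul_mem _ (Algebra.adjoin_mono ?_ hx) (Algebra.adjoin_mono ?_ hy)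
    · intro b hb; simp only [Set.mem_ofPred_eq, List.mem_append] at hb ⊢; exact Or.inl hb
    · intro b hb; simp only [Set.mem_ofPred_eq, List.mem_append] at hb ⊢; exact Or.inr hb
  add_mem' := by
    rintro x y ⟨l₁, h₁, hx⟩ ⟨l₂, h₂, hy⟩
    refine ⟨l₁ ++ l₂, isTowerP_append hmono h₁ h₂, ?_⟩
    refine Subalgebra.add_mem _ (Algebra.adjoin_mono ?_ hx) (Algebra.adjoin_mono ?_ hy)
    · intro b hb; simp only [Set.mem_ofPred_eq, List.mem_append] at hb ⊢; exact Or.inl hb
    · intro b hb; simp only [Set.mem_ofPred_eq, List.mem_append] at hb ⊢; exact Or.inr hb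
  one_mem' := ⟨[], isTowerP_nil St, Subalgebra.one_mem _⟩
  zero_mem' := ⟨[], isTowerP_nil St, Subalgebra.zero_mem _⟩
  algebraMap_mem' := fun r => ⟨[], isTowerP_nil St, Subalgebra.algebraMap_mem _ r⟩

end TowerP

section StG
variable {A B : Type u} [CommRing A] [CommRing B] [Algebra A B]

/-- the general step: square/cube or prime step -/
def StG (S : Subalgebra A B) (c : B) : Prop :=
  (c ^ 2 ∈ S ∧ c ^ 3 ∈ S) ∨ ∃ p : ℕ, p.Prime ∧ (p : B) * c ∈ S ∧ c ^ p ∈ S

lemma stG_mono (S T : Subalgebra A B) (c : B) (h : S ≤ T) (hc : StG S c) : StG T c := by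
  rcases hc with ⟨h2, h3⟩ | ⟨p, hp, h1, h2⟩
  · exact Or.inl ⟨h h2, h h3⟩
  · exact Or.inr ⟨p, hp, h h1, h h2⟩

end StG


section PiAlg
variable {A B : Type u} [CommRing A] [CommRing B] [Algebra A B]

/-- residue characteristic data for a prime `p` of `A` -/
def RChar (p : Ideal A) (q : ℕ) : Prop :=
  (q = 1 ∧ ∀ ℓ : ℕ, ℓ.Prime → (ℓ : A) ∉ p) ∨ (q.Prime ∧ (q : A) ∈ p)

lemma exists_rchar (p : Ideal A) : ∃ q, RChar p q := by
  by_cases h : ∃ ℓ : ℕ, ℓ.Prime ∧ (ℓ : A) ∈ p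
  · obtain ⟨ℓ, h1, h2⟩ := h
    exact ⟨ℓ, Or.inr ⟨h1, h2⟩⟩
  · push Not at h
    exact ⟨1, Or.inl ⟨rfl, h⟩⟩

lemma mem_resAlg'_of_mem {p : Ideal A} [hp : p.IsPrime] {J : Ideal B} {j : B} (hj : j ∈ J) :
    j ∈ resAlg' p J :=
  ⟨0, 1, fun h => hp.ne_top (p.eq_top_of_isUnit_mem h isUnit_one), by simpa using hj⟩

/-- elements a `q`-power of which becomes a fraction modulo `J` -/
def piAlg (p : Ideal A) [p.IsPrime] (q : ℕ) (J : Ideal B)
    (hpJ : p.map (algebraMap A B) ≤ J) (hq : RChar p q) : Subalgebra A B where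
  carrier := {x | ∃ n : ℕ, x ^ (q ^ n) ∈ resAlg' p J}
  mul_mem' := by
    rintro x y ⟨n, hx⟩ ⟨m, hy⟩
    refine ⟨n + m, ?_⟩
    have : (x * y) ^ q ^ (n + m) = (x ^ q ^ n) ^ q ^ m * (y ^ q ^ m) ^ q ^ n := by
      rw [mul_pow, ← pow_mul, ← pow_mul, ← pow_add, ← pow_add, add_comm m n]
    rw [this]
    exact Subalgebra.mul_mem _ (Subalgebra.pow_mem _ hx _) (Subalgebra.pow_mem _ hy _)
  one_mem' := ⟨0, by simp only [one_pow]; exact Subalgebra.one_mem _⟩
  add_mem' := by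
    rintro x y ⟨n, hx⟩ ⟨m, hy⟩
    refine ⟨n + m, ?_⟩
    have hx' : x ^ q ^ (n + m) ∈ resAlg' p J := by
      rw [pow_add, pow_mul]; exact Subalgebra.pow_mem _ hx _
    have hy' : y ^ q ^ (n + m) ∈ resAlg' p J := by
      rw [add_comm, pow_add, pow_mul]; exact Subalgebra.pow_mem _ hy _
    rcases hq with ⟨rfl, -⟩ | ⟨hqp, hqmem⟩
    · simp only [one_pow, pow_one] at hx' hy' ⊢
      exact Subalgebra.add_mem _ hx' hy'
    · obtain ⟨r, hr⟩ := exists_add_pow_prime_pow_eq hqp x y (n + m)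
      rw [hr]
      refine Subalgebra.add_mem _ (Subalgebra.add_mem _ hx' hy') (mem_resAlg'_of_mem ?_)
      have hqJ : (q : B) ∈ J := by
        have := hpJ (Ideal.mem_map_of_mem (algebraMap A B) hqmem)
        rwa [map_natCast] at this
      rw [mul_assoc, mul_assoc]
      exact J.mul_mem_right _ hqJ
  zero_mem' := ⟨0, by simp only [pow_zero, pow_one]; exact Subalgebra.zero_mem _⟩
  algebraMap_mem' := fun r => ⟨0, by
    simp only [pow_zero, pow_one]; exact Subalgebra.algebraMap_mem _ r⟩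

lemma mem_piAlg {p : Ideal A} [p.IsPrime] {q : ℕ} {J : Ideal B}
    {hpJ : p.map (algebraMap A B) ≤ J} {hq : RChar p q} {x : B} :
    x ∈ piAlg p q J hpJ hq ↔ ∃ n : ℕ, x ^ (q ^ n) ∈ resAlg' p J := Iff.rfl

lemma piAlg_closed (p : Ideal A) [hp : p.IsPrime] (q : ℕ) (hq : RChar p q) (Q₁ Q₂ : Ideal B)
    [hQ₁ : Q₁.IsPrime] [hQ₂ : Q₂.IsPrime]
    (h₁ : Q₁.comap (algebraMap A B) = p) (h₂ : Q₂.comap (algebraMap A B) = p)
    (hpJ : p.map (algebraMap A B) ≤ Q₁ ⊓ Q₂) (c : B)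
    (hc : StG (piAlg p q (Q₁ ⊓ Q₂) hpJ hq) c) : c ∈ piAlg p q (Q₁ ⊓ Q₂) hpJ hq := by
  rcases hc with ⟨⟨n, h2⟩, ⟨m, h3⟩⟩ | ⟨ℓ, hℓ, ⟨n, h1⟩, ⟨m, h2⟩⟩
  · refine ⟨n + m, ?_⟩
    apply resAlg'_closed p Q₁ Q₂ h₁ h₂
    · have : (c ^ q ^ (n + m)) ^ 2 = ((c ^ 2) ^ q ^ n) ^ q ^ m := by
        rw [← pow_mul, ← pow_mul, ← pow_mul, pow_add]; ring_nf
      rw [this]
      exact Subalgebra.pow_mem _ h2 _
    · have : (c ^ q ^ (n + m)) ^ 3 = ((c ^ 3) ^ q ^ m) ^ q ^ n := by
        rw [← pow_mul, ← pow_mul, ← pow_mul, pow_add]; ring_nf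
      rw [this]
      exact Subalgebra.pow_mem _ h3 _
  · by_cases hℓq : ℓ = q
    · subst hℓq
      refine ⟨m + 1, ?_⟩
      have : c ^ ℓ ^ (m + 1) = (c ^ ℓ) ^ ℓ ^ m := by
        rw [← pow_mul, pow_succ']
      rw [this]
      exact h2
    · have hℓp : (ℓ : A) ∉ p := by
        rcases hq with ⟨-, hall⟩ | ⟨hqp, hqmem⟩
        · exact hall ℓ hℓ
        · intro hmem
          have hcop : IsCoprime (ℓ : A) (q : A) :=
            Nat.Coprime.cast ((Nat.coprime_primes hℓ hqp).mpr hℓq)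
          obtain ⟨u, v, huv⟩ := hcop
          apply hp.ne_top
          rw [Ideal.eq_top_iff_one, ← huv]
          exact p.add_mem (p.mul_mem_left _ hmem) (p.mul_mem_left _ hqmem)
      refine ⟨n, ?_⟩
      obtain ⟨a, s, hs, hsa⟩ := h1
      refine ⟨a, s * (ℓ : A) ^ q ^ n, ?_, ?_⟩
      · intro h
        rcases hp.mem_or_mem h with h | h
        · exact hs h
        · exact hℓp (hp.mem_of_pow_mem _ h)
      · have : algebraMap A B (s * (ℓ : A) ^ q ^ n) * c ^ q ^ n =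
            algebraMap A B s * ((ℓ : B) * c) ^ q ^ n := by
          rw [map_mul, map_pow, map_natCast, mul_pow]; ring
        rw [this]
        exact hsa

end PiAlg


section MainG
variable {A B : Type u} [CommRing A] [CommRing B] [Algebra A B]

/-- the general tower condition -/
def TowerCondG (A B : Type u) [CommRing A] [CommRing B] [Algebra A B] : Prop :=
  ∀ E : Finset B, ∃ l : List B, (↑E : Set B) ⊆ Algebra.adjoin A {b : B | b ∈ l} ∧
    IsTowerP (A := A) StG l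

lemma le_of_towerCondG (h : TowerCondG A B) (T : Subalgebra A B)
    (hT : ∀ c : B, StG T c → c ∈ T) (b : B) : b ∈ T := by
  obtain ⟨l, hl, hlt⟩ := h {b}
  exact towerP_le stG_mono T hT l hlt (hl (by simp))

lemma uhc_of_towerCondG (hinj : Function.Injective (algebraMap A B)) (h : TowerCondG A B) :
    UHC A B := by
  have hint : (algebraMap A B).IsIntegral := by
    intro b
    refine le_of_towerCondG h (integralClosure A B) ?_ b
    rintro c (⟨hc, -⟩ | ⟨p, hp, -, hc⟩)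
    · exact IsIntegral.of_pow (n := 2) (by norm_num) hc
    · exact IsIntegral.of_pow hp.pos hc
  have hres : ∀ (Q₁ Q₂ : Ideal B) [Q₁.IsPrime] [Q₂.IsPrime],
      Q₁.comap (algebraMap A B) = Q₂.comap (algebraMap A B) → ∀ b : B,
      ∃ q n : ℕ, RChar (Q₁.comap (algebraMap A B)) q ∧ ∃ a s : A,
        s ∉ Q₁.comap (algebraMap A B) ∧
        algebraMap A B s * b ^ q ^ n - algebraMap A B a ∈ Q₁ ⊓ Q₂ := by
    intro Q₁ Q₂ _ _ h12 b
    haveI : (Q₁.comap (algebraMap A B)).IsPrime := Ideal.comap_isPrime _ _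
    obtain ⟨q, hq⟩ := exists_rchar (Q₁.comap (algebraMap A B))
    have hpJ : (Q₁.comap (algebraMap A B)).map (algebraMap A B) ≤ Q₁ ⊓ Q₂ := by
      rw [Ideal.map_le_iff_le_comap, Ideal.comap_inf, ← h12, inf_idem]
    have := le_of_towerCondG h (piAlg (Q₁.comap (algebraMap A B)) q (Q₁ ⊓ Q₂) hpJ hq)
      (piAlg_closed _ q hq Q₁ Q₂ rfl h12.symm hpJ) b
    obtain ⟨n, a, s, hs, hsa⟩ := this
    exact ⟨q, n, hq, a, s, hs, hsa⟩
  refine ⟨hint, ⟨?_, ?_⟩, ?_⟩
  · have half : ∀ (Q₁ Q₂ : Ideal B) [Q₁.IsPrime] [Q₂.IsPrime],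
        Q₁.comap (algebraMap A B) = Q₂.comap (algebraMap A B) → Q₁ ≤ Q₂ := by
      intro Q₁ Q₂ hQ₁ hQ₂ h12 x hx
      obtain ⟨q, n, hq', a, s, hs, hsa⟩ := hres Q₁ Q₂ h12 x
      have hxN : x ^ q ^ n ∈ Q₁ := Q₁.pow_mem_of_mem hx _ (by
        rcases hq' with ⟨rfl, -⟩ | ⟨hqp, -⟩
        · simp
        · exact pow_pos hqp.pos n)
      have ha : algebraMap A B a ∈ Q₁ := by
        have := Q₁.sub_mem (Q₁.mul_mem_left (algebraMap A B s) hxN) hsa.1
        rwa [sub_sub_cancel] at this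
      have ha₂ : algebraMap A B a ∈ Q₂ := by
        have : a ∈ Q₁.comap (algebraMap A B) := ha
        rw [h12] at this
        exact this
      have hsx : algebraMap A B s * x ^ q ^ n ∈ Q₂ := by
        have := Q₂.add_mem hsa.2 ha₂
        rwa [sub_add_cancel] at this
      rcases hQ₂.mem_or_mem hsx with h5 | h5
      · exact absurd (by rw [h12]; exact h5) hs
      · exact hQ₂.mem_of_pow_mem _ h5
    intro Q₁ Q₂ h12
    have h12' : Q₁.asIdeal.comap (algebraMap A B) = Q₂.asIdeal.comap (algebraMap A B) :=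
      congrArg PrimeSpectrum.asIdeal h12
    haveI := Q₁.isPrime
    haveI := Q₂.isPrime
    exact PrimeSpectrum.ext (le_antisymm (half _ _ h12') (half _ _ h12'.symm))
  · apply surj_of_integral_of_ker hint
    rw [(RingHom.injective_iff_ker_eq_bot _).mp hinj]
    exact bot_le
  · intro Q _ b
    obtain ⟨q, n, hq, a, s, hs, hsa⟩ := hres Q Q rfl b
    refine ⟨q, n, ?_, a, s, hs, hsa.1⟩
    rcases hq with ⟨h1, -⟩ | ⟨h1, h2⟩
    · exact Or.inl h1
    · refine Or.inr ⟨h1, ?_⟩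
      have : algebraMap A B (q : A) ∈ Q := h2
      rwa [map_natCast] at this

lemma towerAlgP_eq_top (h : UHC A B) : towerAlgP (A := A) (B := B) StG stG_mono = ⊤ := by
  by_contra hne
  set T := towerAlgP (A := A) (B := B) StG stG_mono with hT
  have hns : ¬ Function.Surjective (algebraMap T B) := by
    intro hs
    apply hne
    rw [eq_top_iff]
    intro b _
    obtain ⟨x, rfl⟩ := hs b
    exact x.2
  have hrange : ∀ x : B, x ∈ (algebraMap T B).range → x ∈ T := by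
    rintro x ⟨y, rfl⟩
    exact y.2
  have hstep : ∃ b : B, b ∉ T ∧ StG T b := by
    rcases uhc_stepEx (uhc_top h T) hns with ⟨b, hb, hb2, hb3⟩ | ⟨p, b, hp, hb, hpb, hbp⟩
    · exact ⟨b, fun hh => hb ⟨⟨b, hh⟩, rfl⟩, Or.inl ⟨hrange _ hb2, hrange _ hb3⟩⟩
    · exact ⟨b, fun hh => hb ⟨⟨b, hh⟩, rfl⟩, Or.inr ⟨p, hp, hrange _ hpb, hrange _ hbp⟩⟩
  obtain ⟨b, hb, hst⟩ := hstep
  apply hb
  -- two witnesses lie in adjoin of two towers
  have key : ∀ x y : B, x ∈ T → y ∈ T → ∃ l : List B, IsTowerP (A := A) StG l ∧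
      x ∈ Algebra.adjoin A {z | z ∈ l} ∧ y ∈ Algebra.adjoin A {z | z ∈ l} := by
    rintro x y ⟨l₁, h₁, hx⟩ ⟨l₂, h₂, hy⟩
    refine ⟨l₁ ++ l₂, isTowerP_append stG_mono h₁ h₂, Algebra.adjoin_mono ?_ hx,
      Algebra.adjoin_mono ?_ hy⟩
    · intro z hz; simp only [Set.mem_ofPred_eq, List.mem_append] at hz ⊢; exact Or.inl hz
    · intro z hz; simp only [Set.mem_ofPred_eq, List.mem_append] at hz ⊢; exact Or.inr hz
  have hfin : ∃ l : List B, IsTowerP (A := A) StG l ∧ StG (Algebra.adjoin A {z | z ∈ l}) b := by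
    rcases hst with ⟨h2, h3⟩ | ⟨p, hp, h1, h2⟩
    · obtain ⟨l, hl, hx, hy⟩ := key _ _ h2 h3
      exact ⟨l, hl, Or.inl ⟨hx, hy⟩⟩
    · obtain ⟨l, hl, hx, hy⟩ := key _ _ h1 h2
      exact ⟨l, hl, Or.inr ⟨p, hp, hx, hy⟩⟩
  obtain ⟨l, hl, hlb⟩ := hfin
  exact ⟨l ++ [b], isTowerP_snoc hl b hlb, Algebra.subset_adjoin (by simp)⟩

lemma towerCondG_of_uhc (h : UHC A B) : TowerCondG A B := by
  classical
  intro E
  induction E using Finset.induction_on with
  | empty => exact ⟨[], by simp, isTowerP_nil _⟩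
  | insert b E _ ih =>
    obtain ⟨l₁, hl₁, ht₁⟩ := ih
    have hb : b ∈ towerAlgP (A := A) (B := B) StG stG_mono := by
      rw [towerAlgP_eq_top h]; trivial
    obtain ⟨l₂, ht₂, hl₂⟩ := hb
    refine ⟨l₁ ++ l₂, ?_, isTowerP_append stG_mono ht₁ ht₂⟩
    intro x hx
    rw [Finset.coe_insert] at hx
    rcases hx with rfl | hx
    · refine Algebra.adjoin_mono ?_ hl₂
      intro y hy; simp only [Set.mem_ofPred_eq, List.mem_append] at hy ⊢; exact Or.inr hy
    · refine Algebra.adjoin_mono ?_ (hl₁ hx)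
      intro y hy; simp only [Set.mem_ofPred_eq, List.mem_append] at hy ⊢; exact Or.inl hy

end MainG

end Groth.Agent.H4.UHTower2
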