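import Mathlib
import Groth.Prelude.Def_Flat
import Groth.Prelude.Def_HTop2
import Groth.Agent.H4.UHTower2
import Groth.Agent.S7427

set_option autoImplicit false
universe u
open CategoryTheory CategoryTheory.Limits AlgebraicGeometry TensorProduct

namespace Groth.Agent.H4.AWN

open Groth.Agent.S7405 Groth.Agent.H4.UHCrit Groth.Agent.H4.SemiNormal
  Groth.Agent.H4.SemiNormalTower Groth.Agent.H4.UHTower Groth.Agent.H4.UHTower2

section Ext
variable {A C K : Type u} [CommRing A] [CommRing C] [Algebra A C] [Field K] [IsAlgClosed K]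
  [Algebra A K]

/-- extending a map to an algebraically closed field along an integral map -/
theorem exists_algHom_to_algClosed (hint : (algebraMap A C).IsIntegral) (q : Ideal C) [q.IsPrime]
    (hq : q.comap (algebraMap A C) = RingHom.ker (algebraMap A K)) : Nonempty (C →ₐ[A] K) := by
  let p : Ideal A := RingHom.ker (algebraMap A K)
  haveI : p.IsPrime := RingHom.ker_isPrime _
  let R := A ⧸ p
  let S := C ⧸ q
  let fRS : R →+* S := Ideal.quotientMap q (algebraMap A C) (le_of_eq hq.symm)
  have hfRS : Function.Injective fRS := Ideal.quotientMap_injective' (le_of_eq hq)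
  let fRK : R →+* K := RingHom.kerLift (algebraMap A K)
  have hfRK : Function.Injective fRK := RingHom.kerLift_injective _
  letI : Algebra R S := fRS.toAlgebra
  letI : Algebra R K := fRK.toAlgebra
  haveI : Module.IsTorsionFree R S := Module.isTorsionFree_iff_algebraMap_injective.mpr hfRS
  haveI : Module.IsTorsionFree R K := Module.isTorsionFree_iff_algebraMap_injective.mpr hfRK
  haveI : Algebra.IsIntegral A C := ⟨hint⟩
  haveI : IsScalarTower A R S := IsScalarTower.of_algebraMap_eq (fun a => rfl)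
  haveI : Algebra.IsIntegral A S :=
    Algebra.IsIntegral.of_surjective (Ideal.Quotient.mkₐ A q) (Ideal.Quotient.mkₐ_surjective A q)
  haveI : Algebra.IsIntegral R S := Algebra.IsIntegral.tower_top (R := A)
  haveI : Algebra.IsAlgebraic R S := Algebra.IsIntegral.isAlgebraic
  let L : S →ₐ[R] K := IsAlgClosed.lift
  refine ⟨{ (L.toRingHom.comp (Ideal.Quotient.mk q)) with commutes' := ?_ }⟩
  intro a
  show L (Ideal.Quotient.mk q (algebraMap A C a)) = algebraMap A K a
  have h1 : Ideal.Quotient.mk q (algebraMap A C a) = algebraMap R S (Ideal.Quotient.mk p a) := rfl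
  rw [h1, L.commutes]
  rfl

end Ext


section Uniq
variable {A C W : Type u} [CommRing A] [CommRing C] [CommRing W] [Algebra A C] [Algebra A W]

/-- two `A`-algebra maps from a universally homeomorphic `A`-algebra to a domain agree -/
lemma algHom_eq_of_uhc_domain [IsDomain W] (hC : UHC A C) (χ₁ χ₂ : C →ₐ[A] W) (c : C) :
    χ₁ c = χ₂ c := by
  obtain ⟨-, hbij, hpi⟩ := hC
  -- kernels are primes of `C` over the same prime of `A`
  let Q₁ : PrimeSpectrum C := ⟨RingHom.ker χ₁.toRingHom, RingHom.ker_isPrime _⟩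
  let Q₂ : PrimeSpectrum C := ⟨RingHom.ker χ₂.toRingHom, RingHom.ker_isPrime _⟩
  have hQ : Q₁ = Q₂ := by
    apply hbij.1
    apply PrimeSpectrum.ext
    ext a
    show χ₁ (algebraMap A C a) = 0 ↔ χ₂ (algebraMap A C a) = 0
    rw [χ₁.commutes, χ₂.commutes]
  have hker : ∀ x : C, χ₁ x = 0 ↔ χ₂ x = 0 := by
    intro x
    have := congrArg (fun Q : PrimeSpectrum C => x ∈ Q.asIdeal) hQ
    exact iff_of_eq this
  haveI := Q₁.isPrime
  obtain ⟨ℓ, n, hℓ, a, s, hs, hsa⟩ := hpi Q₁.asIdeal c
  have hs1 : χ₁ (algebraMap A C s) ≠ 0 := hs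
  have h1 : χ₁ (algebraMap A C s * c ^ ℓ ^ n - algebraMap A C a) = 0 := hsa
  have h2 : χ₂ (algebraMap A C s * c ^ ℓ ^ n - algebraMap A C a) = 0 := (hker _).mp h1
  rw [map_sub, map_mul, map_pow, χ₁.commutes, χ₁.commutes, sub_eq_zero] at h1
  rw [map_sub, map_mul, map_pow, χ₂.commutes, χ₂.commutes, sub_eq_zero] at h2
  rw [χ₁.commutes] at hs1
  have hpow : χ₁ c ^ ℓ ^ n = χ₂ c ^ ℓ ^ n := mul_left_cancel₀ hs1 (h1.trans h2.symm)
  rcases hℓ with rfl | ⟨hℓp, hℓQ⟩
  · simpa using hpow
  · have hℓW : ((ℓ : ℕ) : W) = 0 := by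
      have : χ₁ ((ℓ : ℕ) : C) = 0 := hℓQ
      rwa [map_natCast] at this
    obtain ⟨r, hr⟩ := exists_add_pow_prime_pow_eq hℓp (χ₁ c - χ₂ c) (χ₂ c) n
    rw [sub_add_cancel, hℓW, zero_mul, zero_mul, zero_mul, add_zero, hpow] at hr
    have : (χ₁ c - χ₂ c) ^ ℓ ^ n = 0 := by
      have := hr
      rwa [right_eq_add] at this
    exact sub_eq_zero.mp (pow_eq_zero_iff (pow_pos hℓp.pos n).ne' |>.mp this)

/-- two `A`-algebra maps from a universally homeomorphic `A`-algebra to a reduced ring agree -/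
lemma algHom_eq_of_uhc_reduced [IsReduced W] (hC : UHC A C) (χ₁ χ₂ : C →ₐ[A] W) : χ₁ = χ₂ := by
  ext c
  rw [← sub_eq_zero]
  apply (nilpotent_iff_mem_prime.mpr ?_).eq_zero
  intro P hP
  haveI := hP
  have := algHom_eq_of_uhc_domain hC ((Ideal.Quotient.mkₐ A P).comp χ₁)
    ((Ideal.Quotient.mkₐ A P).comp χ₂) c
  simp only [AlgHom.comp_apply, Ideal.Quotient.mkₐ_eq_mk] at this
  rwa [Ideal.Quotient.eq] at this

end Uniq


section Omega
variable (A : Type u) [CommRing A]

/-- algebraic closure of the residue field at a prime -/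
abbrev Kp (p : PrimeSpectrum A) : Type u := AlgebraicClosure p.asIdeal.ResidueField

/-- the product of the algebraic closures of all residue fields -/
abbrev Omega : Type u := ∀ p : PrimeSpectrum A, Kp A p

lemma ker_Kp (p : PrimeSpectrum A) : RingHom.ker (algebraMap A (Kp A p)) = p.asIdeal := by
  ext a
  rw [RingHom.mem_ker, IsScalarTower.algebraMap_apply A p.asIdeal.ResidueField (Kp A p),
    map_eq_zero_iff _ (algebraMap p.asIdeal.ResidueField (Kp A p)).injective,
    Ideal.algebraMap_residueField_eq_zero]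

lemma ker_omega : RingHom.ker (algebraMap A (Omega A)) ≤ nilradical A := by
  intro a ha
  rw [nilradical_eq_sInf, Ideal.mem_sInf]
  intro p hp
  have h1 : algebraMap A (Omega A) a = 0 := ha
  have h2 : algebraMap A (Kp A ⟨p, hp⟩) a = 0 := congrFun h1 ⟨p, hp⟩
  have h3 : a ∈ RingHom.ker (algebraMap A (Kp A ⟨p, hp⟩)) := h2
  rwa [ker_Kp] at h3

instance isDominant_omega :
    IsDominant (Spec.map (CommRingCat.ofHom (algebraMap A (Omega A)))) :=
  ⟨(PrimeSpectrum.denseRange_comap_iff_ker_le_nilRadical (f := algebraMap A (Omega A))).mpr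
    (ker_omega A)⟩

variable {A}

lemma exists_algHom_omega (C : Type u) [CommRing C] [Algebra A C] (hC : UHC A C) :
    Nonempty (C →ₐ[A] Omega A) := by
  have h : ∀ p : PrimeSpectrum A, Nonempty (C →ₐ[A] Kp A p) := by
    intro p
    obtain ⟨q, hq⟩ := hC.2.1.2 p
    haveI := q.isPrime
    apply exists_algHom_to_algClosed hC.1 q.asIdeal
    rw [ker_Kp]
    exact congrArg PrimeSpectrum.asIdeal hq
  exact ⟨AlgHom.pi (fun p => (h p).some)⟩

instance isReduced_sub (E : Subalgebra A (Omega A)) : IsReduced E := by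
  constructor
  intro x hx
  have h1 : IsNilpotent (x : Omega A) := hx.map E.val
  have h2 : (x : Omega A) = 0 := by
    funext p
    obtain ⟨n, hn⟩ := h1
    have := congrFun hn p
    exact pow_eq_zero_iff (n := n) (by rintro rfl; simp at this) |>.mp this
  exact Subtype.ext h2

end Omega


end Groth.Agent.H4.AWN
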