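import Mathlib
import Groth.Prelude.Def_Flat
import Groth.Prelude.Def_HTop2
import Groth.Agent.H4.AWN

set_option autoImplicit false
universe u
open CategoryTheory CategoryTheory.Limits AlgebraicGeometry TensorProduct

namespace Groth.Agent.H4.AWN2

open Groth.Agent.S7405 Groth.Agent.H4.UHCrit Groth.Agent.H4.SemiNormal
  Groth.Agent.H4.SemiNormalTower Groth.Agent.H4.UHTower Groth.Agent.H4.UHTower2 Groth.Agent.H4.AWN

section Step
variable {R S : Type u} [CommRing R] [CommRing S] [Algebra R S]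

/-- a one-step extension is a universal homeomorphism -/
lemma uhc_of_step (hinj : Function.Injective (algebraMap R S)) (a : S)
    (hgen : Algebra.adjoin R {a} = ⊤) (hst : StG (⊥ : Subalgebra R S) a) : UHC R S := by
  apply uhc_of_towerCondG hinj
  intro E
  refine ⟨[a], ?_, ?_⟩
  · have : {b : S | b ∈ [a]} = {a} := by ext; simp
    rw [this, hgen]
    exact fun _ _ => trivial
  · have := isTowerP_snoc (St := StG) (isTowerP_nil (A := R) StG) a (by
      have : {x : S | x ∈ ([] : List S)} = ∅ := by ext; simp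
      rw [this, Algebra.adjoin_empty]
      exact hst)
    simpa using this

end Step

section Red
variable {W : Type u} [CommRing W] [IsReduced W]

lemma eq_of_sq_cube {a b : W} (h2 : a ^ 2 = b ^ 2) (h3 : a ^ 3 = b ^ 3) : a = b := by
  have h : (a - b) ^ 3 = 0 := by
    have e0 : (a - b) ^ 3 = a ^ 3 - 3 * (a ^ 2 * b) + 3 * (a * b ^ 2) - b ^ 3 := by ring
    have e1 : a ^ 2 * b = b ^ 3 := by rw [h2]; ring
    have e2 : a * b ^ 2 = a ^ 3 := by rw [← h2]; ring
    rw [e0, e1, e2, h3]; ring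
  exact sub_eq_zero.mp (IsNilpotent.eq_zero ⟨3, h⟩)

lemma eq_of_pow_prime {p : ℕ} (hp : p.Prime) {a b : W} (h1 : a ^ p = b ^ p)
    (h2 : (p : W) * a = p * b) : a = b := by
  rw [← sub_eq_zero]
  apply (nilpotent_iff_mem_prime.mpr ?_).eq_zero
  intro P hP
  by_cases hpP : (p : W) ∈ P
  · obtain ⟨r, hr⟩ := exists_add_pow_prime_eq hp (a - b) b
    rw [sub_add_cancel, h1] at hr
    have : (a - b) ^ p = - (p * (a - b) * b * r) := by linear_combination -hr
    apply hP.mem_of_pow_mem p
    rw [this]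
    exact P.neg_mem (P.mul_mem_right _ (P.mul_mem_right _ (P.mul_mem_right _ hpP)))
  · have : (p : W) * (a - b) = 0 := by rw [mul_sub, h2, sub_self]
    exact (hP.mem_or_mem (this ▸ P.zero_mem)).resolve_left hpP

end Red

section Final
variable {A W : Type u} [CommRing A] [CommRing W]

lemma bijective_of_isRingAWN (φ : A →+* W) (hφ : HTop.IsRingAWN φ)
    (C : Type u) [CommRing C] [Algebra W C] [IsReduced C] (hC : UHC W C) :
    Function.Bijective (algebraMap W C) := by
  have hUH : FlatMor.IsUnivHomeo (Spec.map (CommRingCat.ofHom (algebraMap W C))) :=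
    (uhc_iff W C).mpr hC
  have hcomp : FlatMor.IsUnivHomeo (Spec.map (CommRingCat.ofHom ((algebraMap W C).comp φ))) := by
    rw [CommRingCat.ofHom_comp, Spec.map_comp]
    exact MorphismProperty.comp_mem _ _ _ hUH hφ.1
  obtain ⟨ρ, hρ, -⟩ := hφ.2 C ((algebraMap W C).comp φ) hcomp
  obtain ⟨ρ', -, huniq⟩ := hφ.2 W φ hφ.1
  have h1 : ρ.comp (algebraMap W C) = RingHom.id W := by
    rw [huniq (ρ.comp (algebraMap W C)) (by show (ρ.comp (algebraMap W C)).comp φ = φ; rw [RingHom.comp_assoc]; exact hρ),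
      huniq (RingHom.id W) (RingHom.id_comp φ)]
  have h1' : ∀ w : W, ρ (algebraMap W C w) = w := fun w => congrArg (fun f => f w) h1
  let e : C →ₐ[W] C := { (algebraMap W C).comp ρ with
    commutes' := fun w => by
      show algebraMap W C (ρ (algebraMap W C w)) = _
      rw [h1'] }
  have h2 := algHom_eq_of_uhc_reduced hC e (AlgHom.id W C)
  constructor
  · intro w w' h
    have := congrArg ρ h
    rwa [h1', h1'] at this
  · intro c
    exact ⟨ρ c, congrArg (fun f => f c) h2⟩

end Final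

section Roots
variable {K : Type u} [Field K]

lemma exists_sq_cube_field (x y : K) (h : x ^ 3 = y ^ 2) : ∃ a : K, a ^ 2 = x ∧ a ^ 3 = y := by
  by_cases hx : x = 0
  · subst hx
    have hy : y = 0 := by
      have : y ^ 2 = 0 := by rw [← h]; ring
      exact pow_eq_zero_iff two_ne_zero |>.mp this
    exact ⟨0, by simp, by simp [hy]⟩
  · refine ⟨y / x, ?_, ?_⟩
    · rw [div_pow, ← h]; field_simp
    · have : y ^ 3 = y * x ^ 3 := by rw [h]; ring
      rw [div_pow, this]; field_simp

lemma exists_prime_root_field [IsAlgClosed K] (p : ℕ) (hp : p.Prime) (x y : K)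
    (h : (p : K) ^ p * x = y ^ p) : ∃ a : K, a ^ p = x ∧ (p : K) * a = y := by
  by_cases hpK : (p : K) = 0
  · have hy : y = 0 := by
      have : y ^ p = 0 := by rw [← h, hpK, zero_pow hp.ne_zero, zero_mul]
      exact pow_eq_zero_iff hp.ne_zero |>.mp this
    obtain ⟨a, ha⟩ := IsAlgClosed.exists_pow_nat_eq x hp.pos
    exact ⟨a, ha, by rw [hpK, hy, zero_mul]⟩
  · refine ⟨y / p, ?_, by field_simp⟩
    rw [div_pow, ← h]; field_simp

end Roots

section OmegaRoots
variable (W : Type u) [CommRing W]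

lemma exists_sq_cube_omega (x y : Omega W) (h : x ^ 3 = y ^ 2) :
    ∃ a : Omega W, a ^ 2 = x ∧ a ^ 3 = y := by
  have := fun q => exists_sq_cube_field (x q) (y q) (congrFun h q)
  choose a ha using this
  exact ⟨a, funext fun q => (ha q).1, funext fun q => (ha q).2⟩

lemma exists_prime_root_omega (p : ℕ) (hp : p.Prime) (x y : Omega W)
    (h : (p : Omega W) ^ p * x = y ^ p) : ∃ a : Omega W, a ^ p = x ∧ (p : Omega W) * a = y := by
  have := fun q => exists_prime_root_field p hp (x q) (y q) (congrFun h q)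
  choose a ha using this
  exact ⟨a, funext fun q => (ha q).1, funext fun q => (ha q).2⟩

end OmegaRoots

section AWN
variable {A W : Type u} [CommRing A] [CommRing W]

lemma isReduced_of_isRingAWN (φ : A →+* W) (hφ : HTop.IsRingAWN φ) : IsReduced W := by
  obtain ⟨W', hUH, -⟩ := Groth.Agent.S7427.result (A := W) (B := Omega W)
  have h := bijective_of_isRingAWN φ hφ W' ((uhc_iff W W').mp hUH)
  exact isReduced_of_injective (algebraMap W W') h.1

lemma injective_omega [IsReduced W] : Function.Injective (algebraMap W (Omega W)) := by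
  rw [RingHom.injective_iff_ker_eq_bot, eq_bot_iff]
  refine (ker_omega W).trans ?_
  rw [nilradical_eq_zero]
  exact le_rfl

lemma mem_range_of_step (φ : A →+* W) (hφ : HTop.IsRingAWN φ) (a : Omega W)
    (hst : StG (⊥ : Subalgebra W (Omega W)) a) : ∃ w : W, algebraMap W (Omega W) w = a := by
  haveI := isReduced_of_isRingAWN φ hφ
  let E : Subalgebra W (Omega W) := Algebra.adjoin W {a}
  have haE : a ∈ E := Algebra.subset_adjoin rfl
  have hinj : Function.Injective (algebraMap W E) := by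
    intro w w' h
    exact injective_omega (congrArg Subtype.val h)
  have hgen : Algebra.adjoin W {(⟨a, haE⟩ : E)} = ⊤ := by
    have h1 := Algebra.adjoin_adjoin_coe_preimage (R := W) (s := ({a} : Set (Omega W)))
    have h2 : ((↑) ⁻¹' ({a} : Set (Omega W)) : Set (Algebra.adjoin W ({a} : Set (Omega W))))
        = {(⟨a, haE⟩ : E)} := by
      ext z
      simp only [Set.mem_preimage, Set.mem_singleton_iff]
      exact ⟨fun hz => Subtype.ext hz, fun hz => congrArg Subtype.val hz⟩
    rw [h2] at h1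
    exact h1
  have hmem : ∀ z : E, (z : Omega W) ∈ (⊥ : Subalgebra W (Omega W)) →
      z ∈ (⊥ : Subalgebra W E) := by
    intro z hz
    obtain ⟨w, hw⟩ := Algebra.mem_bot.mp hz
    exact Algebra.mem_bot.mpr ⟨w, Subtype.ext hw⟩
  have hst' : StG (⊥ : Subalgebra W E) (⟨a, haE⟩ : E) := by
    rcases hst with ⟨h2, h3⟩ | ⟨p, hp, h1, h2⟩
    · exact Or.inl ⟨hmem _ h2, hmem _ h3⟩
    · refine Or.inr ⟨p, hp, hmem _ ?_, hmem _ h2⟩
      simpa using h1
  have hE : UHC W E := uhc_of_step hinj ⟨a, haE⟩ hgen hst'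
  obtain ⟨w, hw⟩ := (bijective_of_isRingAWN φ hφ E hE).2 ⟨a, haE⟩
  exact ⟨w, congrArg Subtype.val hw⟩

lemma isAWNRing_of_isRingAWN (φ : A →+* W) (hφ : HTop.IsRingAWN φ) : HTop.IsAWNRing W := by
  haveI := isReduced_of_isRingAWN φ hφ
  have hinjΩ : Function.Injective (algebraMap W (Omega W)) := injective_omega
  constructor
  · intro x y hxy
    obtain ⟨a, ha2, ha3⟩ := exists_sq_cube_omega W (algebraMap _ _ x) (algebraMap _ _ y)
      (by rw [← map_pow, ← map_pow, hxy])
    obtain ⟨w, hw⟩ := mem_range_of_step φ hφ a (Or.inl ⟨by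
      rw [ha2]; exact Subalgebra.algebraMap_mem _ x, by
      rw [ha3]; exact Subalgebra.algebraMap_mem _ y⟩)
    have hw2 : x = w ^ 2 := hinjΩ (by rw [map_pow, hw, ha2])
    have hw3 : y = w ^ 3 := hinjΩ (by rw [map_pow, hw, ha3])
    refine ⟨w, ⟨hw2, hw3⟩, ?_⟩
    rintro b ⟨hb2, hb3⟩
    exact eq_of_sq_cube (by rw [← hb2, ← hw2]) (by rw [← hb3, ← hw3])
  · intro p hp x y hxy
    obtain ⟨a, ha1, ha2⟩ := exists_prime_root_omega W p hp (algebraMap _ _ x) (algebraMap _ _ y)
      (by rw [← map_pow, ← hxy, map_mul, map_pow, map_natCast])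
    obtain ⟨w, hw⟩ := mem_range_of_step φ hφ a (Or.inr ⟨p, hp, by
      rw [ha2]; exact Subalgebra.algebraMap_mem _ y, by
      rw [ha1]; exact Subalgebra.algebraMap_mem _ x⟩)
    have hw1 : x = w ^ p := hinjΩ (by rw [map_pow, hw, ha1])
    have hw2 : y = (p : W) * w := hinjΩ (by rw [map_mul, map_natCast, hw, ha2])
    refine ⟨w, ⟨hw1, hw2⟩, ?_⟩
    rintro b ⟨hb1, hb2⟩
    exact eq_of_pow_prime hp (by rw [← hb1, ← hw1]) (by rw [← hb2, ← hw2])

end AWN

section Transport

lemma isAWNRing_of_equiv {B W : Type u} [CommRing B] [CommRing W] (e : W ≃+* B)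
    (hW : HTop.IsAWNRing W) : HTop.IsAWNRing B := by
  constructor
  · intro x y hxy
    obtain ⟨a, ⟨ha2, ha3⟩, hu⟩ := hW.1 (e.symm x) (e.symm y) (by rw [← map_pow, ← map_pow, hxy])
    refine ⟨e a, ⟨?_, ?_⟩, ?_⟩
    · rw [← map_pow, ← ha2, e.apply_symm_apply]
    · rw [← map_pow, ← ha3, e.apply_symm_apply]
    · rintro b ⟨hb2, hb3⟩
      rw [← hu (e.symm b) ⟨by rw [← map_pow, ← hb2], by rw [← map_pow, ← hb3]⟩,
        e.apply_symm_apply]
  · intro p hp x y hxy
    obtain ⟨a, ⟨ha1, ha2⟩, hu⟩ := hW.2 p hp (e.symm x) (e.symm y)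
      (by rw [← map_pow, ← hxy, map_mul, map_pow, map_natCast])
    refine ⟨e a, ⟨?_, ?_⟩, ?_⟩
    · rw [← map_pow, ← ha1, e.apply_symm_apply]
    · rw [← map_natCast e, ← map_mul, ← ha2, e.apply_symm_apply]
    · rintro b ⟨hb1, hb2⟩
      rw [← hu (e.symm b) ⟨by rw [← map_pow, ← hb1], by
        rw [hb2, map_mul, map_natCast]⟩, e.apply_symm_apply]

lemma isReduced_of_isSeminormalRing {B : Type u} [CommRing B] (hB : HTop.IsSeminormalRing B) :
    IsReduced B := by
  rw [isReduced_iff_pow_one_lt 2 (by norm_num)]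
  intro n hn
  obtain ⟨a, -, hu⟩ := hB 0 0 (by simp)
  have h0 := hu 0 (by simp)
  have hn' := hu n ⟨by rw [hn], by rw [pow_succ, hn, zero_mul]⟩
  rw [hn', h0]

end Transport

section Cancel
variable {A B W : Type u} [CommRing A] [CommRing B] [CommRing W] [Algebra A B] [Algebra B W]
  [Algebra A W] [IsScalarTower A B W]

lemma uhc_cancel (hB : UHC A B) (hW : UHC A W) : UHC B W := by
  refine ⟨?_, ?_, ?_⟩
  · exact RingHom.IsIntegral.tower_top (algebraMap A B) (algebraMap B W)
      (by rw [← IsScalarTower.algebraMap_eq]; exact hW.1)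
  · have : PrimeSpectrum.comap (algebraMap A W) =
        PrimeSpectrum.comap (algebraMap A B) ∘ PrimeSpectrum.comap (algebraMap B W) := by
      rw [IsScalarTower.algebraMap_eq A B W]; rfl
    exact (Function.Bijective.of_comp_iff' hB.2.1 _).mp (this ▸ hW.2.1)
  · intro Q _ w
    obtain ⟨ℓ, n, hℓ, a, s, hs, hsa⟩ := hW.2.2 Q w
    refine ⟨ℓ, n, hℓ, algebraMap A B a, algebraMap A B s, ?_, ?_⟩
    · rwa [← IsScalarTower.algebraMap_apply]
    · rwa [← IsScalarTower.algebraMap_apply, ← IsScalarTower.algebraMap_apply]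

end Cancel


end Groth.Agent.H4.AWN2
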