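import Groth.Agent.H4.Seminormal
import Mathlib.Algebra.CharP.Lemmas

set_option autoImplicit false

namespace Groth.Agent.H4.Seminormal

open HTop

universe u

/-- the `p`-part of the AWN condition, existence only -/
def HasPRoots (A : Type u) [CommRing A] (p : ℕ) : Prop :=
  ∀ x y : A, (p : A) ^ p * x = y ^ p → ∃ a : A, x = a ^ p ∧ y = (p : A) * a

section basic

variable {A : Type u} [CommRing A]

theorem eq_of_pow_eq_of_mul_eq [IsReduced A] {p : ℕ} (hp : p.Prime) {a b : A} (h1 : a ^ p = b ^ p)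
    (h2 : (p : A) * a = (p : A) * b) : a = b := by
  have hd : (p : A) * (a - b) = 0 := by rw [mul_sub, h2, sub_self]
  obtain ⟨r, hr⟩ := exists_add_pow_prime_eq hp b (a - b)
  rw [add_sub_cancel] at hr
  have : (a - b) ^ p = 0 := by
    have e : (p : A) * b * (a - b) * r = ((p : A) * (a - b)) * (b * r) := by ring
    rw [e, hd, zero_mul, add_zero, h1] at hr
    have := hr
    linear_combination -this
  exact sub_eq_zero.mp (IsReduced.eq_zero _ ⟨p, this⟩)

theorem isAWNRing_iff :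
    IsAWNRing A ↔ IsSeminormalRing A ∧ ∀ p : ℕ, p.Prime → HasPRoots A p := by
  constructor
  · rintro ⟨h1, h2⟩
    exact ⟨h1, fun p hp x y hxy => (h2 p hp x y hxy).exists⟩
  · rintro ⟨h1, h2⟩
    have hred := isReduced_of_isSeminormalRing h1
    refine ⟨h1, fun p hp x y hxy => ?_⟩
    obtain ⟨a, ha1, ha2⟩ := h2 p hp x y hxy
    refine ⟨a, ⟨ha1, ha2⟩, fun b hb => ?_⟩
    exact eq_of_pow_eq_of_mul_eq hp (hb.1.symm.trans ha1) (hb.2.symm.trans ha2)

theorem mul_eq_zero_of_pow_mul_eq_zero [IsReduced A] {p : ℕ} (hp : 0 < p) {d : A}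
    (h : (p : A) ^ p * d = 0) : (p : A) * d = 0 := by
  apply IsReduced.eq_zero
  refine ⟨p, ?_⟩
  obtain ⟨q, rfl⟩ : ∃ q, p = q + 1 := ⟨p - 1, by omega⟩
  have : (((q + 1 : ℕ) : A) * d) ^ (q + 1) = (((q + 1 : ℕ) : A) ^ (q + 1) * d) * d ^ q := by ring
  rw [this, h, zero_mul]

end basic

section loc

variable {A : Type u} [CommRing A] (M : Submonoid A) (B : Type u) [CommRing B] [Algebra A B]
  [IsLocalization M B]

include M in
theorem hasPRoots_of_isLocalization {p : ℕ} (hp : p.Prime) (h : HasPRoots A p) : HasPRoots B p := by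
  intro x y hxy
  obtain ⟨q, rfl⟩ : ∃ q, p = q + 1 := ⟨p - 1, by have := hp.pos; omega⟩
  obtain ⟨⟨a₀, s⟩, hs⟩ := IsLocalization.surj M x
  obtain ⟨⟨b₀, t⟩, ht⟩ := IsLocalization.surj M y
  simp only at hs ht
  -- u = s t; u^p x = s^q t^p a₀, u y = s b₀
  have ha : algebraMap A B ((s * t : M) : A) ^ (q + 1) * x =
      algebraMap A B ((s : A) ^ q * (t : A) ^ (q + 1) * a₀) := by
    simp only [Submonoid.coe_mul, map_mul, map_pow, ← hs]
    ring
  have hb : algebraMap A B ((s * t : M) : A) * y = algebraMap A B ((s : A) * b₀) := by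
    simp only [Submonoid.coe_mul, map_mul, ← ht]
    ring
  set u : M := s * t with hu
  set a : A := (s : A) ^ q * (t : A) ^ (q + 1) * a₀ with hadef
  set b : A := (s : A) * b₀ with hbdef
  have hab : algebraMap A B (((q + 1 : ℕ) : A) ^ (q + 1) * a) = algebraMap A B (b ^ (q + 1)) := by
    rw [map_mul, map_pow, map_pow, ← ha, ← hb, map_natCast, mul_pow, ← hxy]
    ring
  obtain ⟨v, hv⟩ := (IsLocalization.eq_iff_exists M B).mp hab
  have hroot : ((q + 1 : ℕ) : A) ^ (q + 1) * ((v : A) ^ (q + 1) * a) = ((v : A) * b) ^ (q + 1) := by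
    have : ((q + 1 : ℕ) : A) ^ (q + 1) * ((v : A) ^ (q + 1) * a) =
        (v : A) ^ q * ((v : A) * (((q + 1 : ℕ) : A) ^ (q + 1) * a)) := by ring
    rw [this, hv]; ring
  obtain ⟨c, hc1, hc2⟩ := h _ _ hroot
  have hU : IsUnit (algebraMap A B ((v * u : M) : A)) := IsLocalization.map_units B (v * u)
  obtain ⟨U, hUe⟩ := hU
  refine ⟨algebraMap A B c * ↑U⁻¹, ?_, ?_⟩
  · have h1 : (U : B) ^ (q + 1) * x = algebraMap A B c ^ (q + 1) := by
      rw [hUe, ← map_pow _ c, ← hc1]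
      simp only [Submonoid.coe_mul, map_mul, map_pow, ← ha]
      ring
    rw [mul_pow, ← h1]
    rw [mul_comm ((U : B) ^ (q + 1)) x, mul_assoc, ← mul_pow, Units.mul_inv, one_pow, mul_one]
  · have h1 : (U : B) * y = ((q + 1 : ℕ) : B) * algebraMap A B c := by
      rw [hUe, ← map_natCast (algebraMap A B), ← map_mul, ← hc2]
      simp only [Submonoid.coe_mul, map_mul, ← hb]
      ring
    have h2 : y = ↑U⁻¹ * ((U : B) * y) := by rw [← mul_assoc, Units.inv_mul, one_mul]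
    rw [h2, h1]; ring

include M in
theorem isAWNRing_of_isLocalization (h : IsAWNRing A) : IsAWNRing B := by
  rw [isAWNRing_iff] at h ⊢
  exact ⟨isSeminormalRing_of_isLocalization M B h.1, fun p hp =>
    hasPRoots_of_isLocalization M B hp (h.2 p hp)⟩

end loc

section glue

variable {A : Type u} [CommRing A]

/-- the ideal of `r` such that `(r^p x, r y)` has a `p`-root -/
def pRootIdeal [IsReduced A] (p : ℕ) (hp : p.Prime) (x y : A) (hxy : (p : A) ^ p * x = y ^ p) :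
    Ideal A where
  carrier := {r | ∃ c : A, c ^ p = r ^ p * x ∧ (p : A) * c = r * y}
  zero_mem' := ⟨0, by rw [zero_pow hp.ne_zero, zero_mul], by ring⟩
  add_mem' := by
    rintro r₁ r₂ ⟨c₁, h1, h1'⟩ ⟨c₂, h2, h2'⟩
    refine ⟨c₁ + c₂, ?_, by rw [mul_add, h1', h2']; ring⟩
    rw [add_pow_prime_eq' hp c₁ c₂, add_pow_prime_eq' hp r₁ r₂, h1, h2]
    have key : ∀ k ∈ Finset.Ioo 0 p, (p : A) * (c₁ ^ k * c₂ ^ (p - k)) =
        (p : A) * (r₁ ^ k * r₂ ^ (p - k) * x) := by
      intro k hk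
      rw [Finset.mem_Ioo] at hk
      have hd : (p : A) * (c₁ ^ k * c₂ ^ (p - k) - r₁ ^ k * r₂ ^ (p - k) * x) = 0 := by
        apply mul_eq_zero_of_pow_mul_eq_zero hp.pos
        have hsplit : (p : A) ^ p = (p : A) ^ k * (p : A) ^ (p - k) := by
          rw [← pow_add]; congr 1; omega
        have e1 : (p : A) ^ p * (c₁ ^ k * c₂ ^ (p - k)) =
            ((p : A) * c₁) ^ k * ((p : A) * c₂) ^ (p - k) := by
          rw [hsplit]; ring
        have e2 : (r₁ * y) ^ k * (r₂ * y) ^ (p - k) = r₁ ^ k * r₂ ^ (p - k) * y ^ p := by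
          have : y ^ p = y ^ k * y ^ (p - k) := by rw [← pow_add]; congr 1; omega
          rw [this]; ring
        rw [mul_sub, e1, h1', h2', e2, ← hxy]; ring
      rw [mul_sub] at hd
      exact sub_eq_zero.mp hd
    have hsum : (p : A) * ∑ k ∈ Finset.Ioo 0 p, c₁ ^ k * c₂ ^ (p - k) * ((p.choose k / p : ℕ) : A) =
        (p : A) * (∑ k ∈ Finset.Ioo 0 p, r₁ ^ k * r₂ ^ (p - k) * ((p.choose k / p : ℕ) : A)) * x := by
      rw [Finset.mul_sum, Finset.mul_sum, Finset.sum_mul]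
      apply Finset.sum_congr rfl
      intro k hk
      have := key k hk
      calc (p : A) * (c₁ ^ k * c₂ ^ (p - k) * ((p.choose k / p : ℕ) : A))
          = ((p : A) * (c₁ ^ k * c₂ ^ (p - k))) * ((p.choose k / p : ℕ) : A) := by ring
        _ = ((p : A) * (r₁ ^ k * r₂ ^ (p - k) * x)) * ((p.choose k / p : ℕ) : A) := by rw [this]
        _ = _ := by ring
    rw [hsum]; ring
  smul_mem' := by
    rintro t r ⟨c, h1, h2⟩
    refine ⟨t * c, ?_, ?_⟩
    · rw [mul_pow, h1, smul_eq_mul]; ring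
    · rw [smul_eq_mul, mul_assoc, ← h2]; ring

variable (s : Set A) (hs : Ideal.span s = ⊤) (B : s → Type u) [∀ f, CommRing (B f)]
  [∀ f, Algebra A (B f)] [∀ f : s, IsLocalization.Away (f : A) (B f)]

include hs in
theorem hasPRoots_of_span_eq_top [IsReduced A] {p : ℕ} (hp : p.Prime) (h : ∀ f, HasPRoots (B f) p) :
    HasPRoots A p := by
  intro x y hxy
  have hI : pRootIdeal p hp x y hxy = ⊤ := by
    apply ideal_eq_top_of_pow_mem _ s hs
    intro f hf
    obtain ⟨f, rfl⟩ : ∃ f' : s, (f' : A) = f := ⟨⟨f, hf⟩, rfl⟩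
    obtain ⟨α, hα1, hα2⟩ := h f (algebraMap A (B f) x) (algebraMap A (B f) y)
      (by rw [← map_natCast (algebraMap A (B f)), ← map_pow, ← map_pow, ← map_mul, hxy])
    obtain ⟨k, c₀, hc₀⟩ := IsLocalization.Away.surj (f : A) α
    have h1 : algebraMap A (B f) (c₀ ^ p) = algebraMap A (B f) ((f : A) ^ (k * p) * x) := by
      rw [map_pow, ← hc₀, map_mul, hα1, map_pow, pow_mul]; ring
    have h2 : algebraMap A (B f) ((p : A) * c₀) = algebraMap A (B f) ((f : A) ^ k * y) := by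
      rw [map_mul, ← hc₀, map_mul, hα2, map_pow, map_natCast]; ring
    rw [IsLocalization.eq_iff_exists (Submonoid.powers (f : A))] at h1 h2
    obtain ⟨⟨_, N₁, rfl⟩, h1⟩ := h1
    obtain ⟨⟨_, N₂, rfl⟩, h2⟩ := h2
    simp only at h1 h2
    obtain ⟨q, rfl⟩ : ∃ q, p = q + 1 := ⟨p - 1, by have := hp.pos; omega⟩
    refine ⟨N₁ + N₂ + k, (f : A) ^ (N₁ + N₂) * c₀, ?_, ?_⟩
    · have e : ((f : A) ^ (N₁ + N₂) * c₀) ^ (q + 1) =
          (f : A) ^ ((N₁ + N₂) * q + N₂) * ((f : A) ^ N₁ * c₀ ^ (q + 1)) := by ring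
      rw [e, h1]; ring
    · have e : ((q + 1 : ℕ) : A) * ((f : A) ^ (N₁ + N₂) * c₀) =
          (f : A) ^ N₁ * ((f : A) ^ N₂ * (((q + 1 : ℕ) : A) * c₀)) := by ring
      rw [e, h2]; ring
  have h1 : (1 : A) ∈ pRootIdeal p hp x y hxy := by rw [hI]; trivial
  obtain ⟨c, hc1, hc2⟩ := h1
  exact ⟨c, by rw [hc1]; ring, by rw [hc2]; ring⟩

include hs in
theorem isAWNRing_of_span_eq_top (h : ∀ f, IsAWNRing (B f)) : IsAWNRing A := by
  have hsn : IsSeminormalRing A := isSeminormalRing_of_span_eq_top s hs B fun f => (h f).1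
  have hred := isReduced_of_isSeminormalRing hsn
  rw [isAWNRing_iff]
  exact ⟨hsn, fun p hp => hasPRoots_of_span_eq_top s hs B hp fun f =>
    (isAWNRing_iff.mp (h f)).2 p hp⟩

end glue

end Groth.Agent.H4.Seminormal
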