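import Mathlib
import Groth.Prelude.Def_Flat
import Groth.Prelude.Def_HTop2
import Groth.Agent.H4.AWN2
import Groth.Agent.S7419
import Groth.Agent.S7422
import Groth.Agent.S7423

set_option autoImplicit false
universe u
open CategoryTheory CategoryTheory.Limits AlgebraicGeometry TensorProduct

namespace Groth.Agent.H4.AWN3

open Groth.Agent.S7405 Groth.Agent.H4.UHCrit Groth.Agent.H4.UHTower Groth.Agent.H4.AWN
  Groth.Agent.H4.AWN2

section A1
variable {C : Type u} [CommRing C]

lemma uhc_self (C : Type u) [CommRing C] : UHC C C := by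
  refine ⟨fun a => isIntegral_algebraMap, ⟨?_, ?_⟩, ?_⟩
  · intro p q h
    rwa [Algebra.algebraMap_self, PrimeSpectrum.comap_id] at h
  · intro p
    exact ⟨p, by rw [Algebra.algebraMap_self, PrimeSpectrum.comap_id]⟩
  · intro Q _ b
    refine ⟨1, 0, Or.inl rfl, b, 1, ?_, ?_⟩
    · rw [map_one]
      exact fun h => ‹Q.IsPrime›.ne_top (Q.eq_top_of_isUnit_mem h isUnit_one)
    · simp

lemma uh_id (C : Type u) [CommRing C] :
    FlatMor.IsUnivHomeo (Spec.map (CommRingCat.ofHom (RingHom.id C))) :=
  (uhc_iff C C).mpr (uhc_self C)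

/-- over an absolutely weakly normal ring, every universal homeomorphism has a unique retraction -/
lemma existsUnique_retraction (hC : HTop.IsAWNRing C) (D : Type u) [CommRing D] (ψ : C →+* D)
    (hψ : FlatMor.IsUnivHomeo (Spec.map (CommRingCat.ofHom ψ))) :
    ∃! r : D →+* C, r.comp ψ = RingHom.id C := by
  obtain ⟨W, _, φ, hφ⟩ := Groth.Agent.S7422.result C
  have hbij : Function.Bijective φ :=
    (Groth.Agent.S7423.result φ hφ (RingHom.id C) (uh_id C) φ (RingHom.comp_id φ)).mpr hC
  let e : C ≃+* W := RingEquiv.ofBijective φ hbij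
  obtain ⟨χ, hχ, hχu⟩ := hφ.2 D ψ hψ
  refine ⟨e.symm.toRingHom.comp χ, ?_, ?_⟩
  · show (e.symm.toRingHom.comp χ).comp ψ = RingHom.id C
    rw [RingHom.comp_assoc, hχ]
    exact RingHom.ext fun c => e.symm_apply_apply c
  · intro r hr
    have hr : r.comp ψ = RingHom.id C := hr
    have h1 : (e.toRingHom.comp r).comp ψ = φ := by
      rw [RingHom.comp_assoc, hr]; rfl
    have h2 := hχu _ h1
    rw [← h2]
    exact RingHom.ext fun d => (e.symm_apply_apply (r d)).symm

end A1

section A2
variable {A W C : Type u} [CommRing A] [CommRing W] [CommRing C]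

/-- base change of a universal homeomorphism of rings -/
lemma uh_includeRight (A W C : Type u) [CommRing A] [CommRing W] [CommRing C] [Algebra A W]
    [Algebra A C] (h : FlatMor.IsUnivHomeo (Spec.map (CommRingCat.ofHom (algebraMap A W)))) :
    FlatMor.IsUnivHomeo (Spec.map (CommRingCat.ofHom
      (Algebra.TensorProduct.includeRight (R := A) (A := W) (B := C)).toRingHom)) := by
  have hpb := isPullback_SpecMap_of_isPushout _ _ _ _ (CommRingCat.isPushout_tensorProduct A W C)
  exact MorphismProperty.of_isPullback (P := FlatMor.IsUnivHomeo.{u}) hpb h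

/-- the strong universal property: maps to absolutely weakly normal rings extend uniquely -/
lemma existsUnique_awnLift (φ : A →+* W) (hφ : HTop.IsRingAWN φ) (hC : HTop.IsAWNRing C)
    (g : A →+* C) : ∃! h : W →+* C, h.comp φ = g := by
  letI := φ.toAlgebra
  letI := g.toAlgebra
  haveI : IsReduced C := isReduced_of_isSeminormalRing hC.1
  have hAW : UHC A W := (uhc_iff A W).mp hφ.1
  -- existence
  have hψ := uh_includeRight A W C hφ.1
  obtain ⟨r, hr, -⟩ := existsUnique_retraction hC (W ⊗[A] C) _ hψ
  have hr' : ∀ c : C, r ((1 : W) ⊗ₜ[A] c) = c := fun c => congrArg (fun f => f c) hr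
  refine ⟨r.comp (Algebra.TensorProduct.includeLeftRingHom), ?_, ?_⟩
  · apply RingHom.ext
    intro a
    show r ((algebraMap A W a) ⊗ₜ[A] (1 : C)) = g a
    have : (algebraMap A W a) ⊗ₜ[A] (1 : C) = (1 : W) ⊗ₜ[A] (algebraMap A C a) := by
      rw [Algebra.algebraMap_eq_smul_one, Algebra.algebraMap_eq_smul_one, TensorProduct.smul_tmul]
    rw [this, hr']
    rfl
  · intro h' hh'
    let H₁ : W →ₐ[A] C := { h' with commutes' := fun a => congrArg (fun f => f a) hh' }
    let H₂ : W →ₐ[A] C := { r.comp (Algebra.TensorProduct.includeLeftRingHom) with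
      commutes' := fun a => by
        show r ((algebraMap A W a) ⊗ₜ[A] (1 : C)) = g a
        have : (algebraMap A W a) ⊗ₜ[A] (1 : C) = (1 : W) ⊗ₜ[A] (algebraMap A C a) := by
          rw [Algebra.algebraMap_eq_smul_one, Algebra.algebraMap_eq_smul_one,
            TensorProduct.smul_tmul]
        rw [this, hr']
        rfl }
    have := algHom_eq_of_uhc_reduced hAW H₁ H₂
    exact RingHom.ext fun w => congrArg (fun f => f w) this

end A2

section A3
variable {A A' W W' : Type u} [CommRing A] [CommRing A'] [CommRing W] [CommRing W']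

/-- absolute weak normalization commutes with localization away from an element -/
lemma isLocalization_awn (ρ : A →+* A') (f : A)
    (hloc : letI := ρ.toAlgebra; IsLocalization.Away f A')
    (φ : A →+* W) (hφ : HTop.IsRingAWN φ) (φ' : A' →+* W') (hφ' : HTop.IsRingAWN φ')
    (m : W →+* W') (hm : m.comp φ = φ'.comp ρ) :
    letI := m.toAlgebra; IsLocalization.Away (φ f) W' := by
  letI := ρ.toAlgebra
  letI := φ.toAlgebra
  letI := m.toAlgebra
  haveI : IsLocalization (Submonoid.powers f) A' := hloc
  have hTloc : IsLocalization (Algebra.algebraMapSubmonoid W (Submonoid.powers f)) (W ⊗[A] A') :=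
    inferInstance
  have hsub : Algebra.algebraMapSubmonoid W (Submonoid.powers f) = Submonoid.powers (φ f) :=
    Submonoid.map_powers _ _
  rw [hsub] at hTloc
  have hW : HTop.IsAWNRing W := isAWNRing_of_isRingAWN φ hφ
  have hT : HTop.IsAWNRing (W ⊗[A] A') := by
    have h1 := Groth.Agent.S7419.result.1 W (φ f) hW
    exact isAWNRing_of_equiv (IsLocalization.algEquiv (Submonoid.powers (φ f))
      (Localization.Away (φ f)) (W ⊗[A] A')).toRingEquiv h1
  have hψ := uh_includeRight A W A' hφ.1
  obtain ⟨χ, hχ, -⟩ := hφ'.2 (W ⊗[A] A') _ hψ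
  have hχ' : ∀ a' : A', χ ((1 : W) ⊗ₜ[A] a') = φ' a' := fun a' => congrArg (fun g => g a') hχ
  have hχbij : Function.Bijective χ := (Groth.Agent.S7423.result φ' hφ' _ hψ χ hχ).mpr hT
  have hW' := isAWNRing_of_isRingAWN φ' hφ'
  have hcomp : χ.comp Algebra.TensorProduct.includeLeftRingHom = m := by
    obtain ⟨h₀, -, hu⟩ := existsUnique_awnLift φ hφ hW' (φ'.comp ρ)
    have h1 : (χ.comp Algebra.TensorProduct.includeLeftRingHom).comp φ = φ'.comp ρ := by
      apply RingHom.ext
      intro a
      show χ ((algebraMap A W a) ⊗ₜ[A] (1 : A')) = φ' (ρ a)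
      have : (algebraMap A W a) ⊗ₜ[A] (1 : A') = (1 : W) ⊗ₜ[A] (algebraMap A A' a) := by
        rw [Algebra.algebraMap_eq_smul_one, Algebra.algebraMap_eq_smul_one,
          TensorProduct.smul_tmul]
      rw [this, hχ']
      rfl
    rw [hu _ h1, hu m hm]
  let e : (W ⊗[A] A') ≃ₐ[W] W' :=
    { RingEquiv.ofBijective χ hχbij with
      commutes' := fun w => congrArg (fun g => g w) hcomp }
  exact IsLocalization.isLocalization_of_algEquiv (Submonoid.powers (φ f)) e

end A3

end Groth.Agent.H4.AWN3
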