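import Mathlib
import Groth.Prelude.Def_Flat
import Groth.Prelude.Def_HTop2
import Groth.Agent.H4.AWN3
import Groth.Agent.S7420

set_option autoImplicit false
universe u
open CategoryTheory CategoryTheory.Limits AlgebraicGeometry TensorProduct

namespace Groth.Agent.H4.AWNSch

open Groth.Agent.S7405 Groth.Agent.H4.UHCrit Groth.Agent.H4.UHTower Groth.Agent.H4.AWN
  Groth.Agent.H4.AWN2 Groth.Agent.H4.AWN3

section B1

/-- sections of `Spec φ` over an absolutely weakly normal ring -/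
lemma existsUnique_section_Spec {R S : CommRingCat.{u}} (φ : R ⟶ S) (hR : HTop.IsAWNRing R)
    (hφ : FlatMor.IsUnivHomeo (Spec.map φ)) :
    ∃! σ : Spec R ⟶ Spec S, σ ≫ Spec.map φ = 𝟙 _ := by
  obtain ⟨r, hr, hru⟩ := existsUnique_retraction hR S φ.hom hφ
  refine ⟨Spec.map (CommRingCat.ofHom r), ?_, ?_⟩
  · show Spec.map (CommRingCat.ofHom r) ≫ Spec.map φ = 𝟙 _
    rw [← Spec.map_comp, ← Spec.map_id]
    congr 1
    ext x
    exact congrArg (fun g => g x) hr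
  · intro σ hσ
    have hσ : σ ≫ Spec.map φ = 𝟙 _ := hσ
    have h1 : Spec.map (φ ≫ Spec.preimage σ) = Spec.map (𝟙 R) := by
      rw [Spec.map_comp, Spec.map_preimage, hσ, Spec.map_id]
    have h2 := Spec.map_injective h1
    have h3 : (Spec.preimage σ).hom = r := by
      apply hru
      apply RingHom.ext
      intro x
      exact congrArg (fun g => g.hom x) h2
    rw [← Spec.map_preimage σ]
    congr 1
    ext x
    exact congrArg (fun g => g x) h3

/-- transport of unique sections along an isomorphism of arrows -/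
lemma existsUnique_section_of_arrowIso {Z V Z' V' : Scheme.{u}} (f : Z ⟶ V) (g : Z' ⟶ V')
    (e₁ : Z ≅ Z') (e₂ : V ≅ V') (w : f ≫ e₂.hom = e₁.hom ≫ g)
    (h : ∃! σ : V' ⟶ Z', σ ≫ g = 𝟙 _) : ∃! σ : V ⟶ Z, σ ≫ f = 𝟙 _ := by
  obtain ⟨σ, hσ, hσu⟩ := h
  have hσ : σ ≫ g = 𝟙 _ := hσ
  have w' : e₁.inv ≫ f = g ≫ e₂.inv := by
    rw [Iso.inv_comp_eq, ← Category.assoc, ← w, Category.assoc, Iso.hom_inv_id, Category.comp_id]
  refine ⟨e₂.hom ≫ σ ≫ e₁.inv, ?_, ?_⟩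
  · show (e₂.hom ≫ σ ≫ e₁.inv) ≫ f = 𝟙 _
    rw [Category.assoc, Category.assoc, w', ← Category.assoc σ, hσ, Category.id_comp,
      Iso.hom_inv_id]
  · intro τ hτ
    have hτ : τ ≫ f = 𝟙 _ := hτ
    have h1 : (e₂.inv ≫ τ ≫ e₁.hom) ≫ g = 𝟙 _ := by
      rw [Category.assoc, Category.assoc, ← w, ← Category.assoc τ, hτ, Category.id_comp,
        Iso.inv_hom_id]
    have h2 := hσu _ h1
    rw [← h2]
    simp

/-- sections of a universal homeomorphism of affine schemes over an absolutely weakly normal base -/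
lemma existsUnique_section_affine {Z V : Scheme.{u}} [IsAffine Z] [IsAffine V] (f : Z ⟶ V)
    (hV : HTop.IsAWNRing Γ(V, ⊤)) (hf : FlatMor.IsUnivHomeo f) :
    ∃! σ : V ⟶ Z, σ ≫ f = 𝟙 _ := by
  have e := arrowIsoSpecΓOfIsAffine f
  have hf' : FlatMor.IsUnivHomeo (Spec.map f.appTop) :=
    (MorphismProperty.arrow_mk_iso_iff (FlatMor.IsUnivHomeo.{u}) e).mp hf
  have h := existsUnique_section_Spec f.appTop hV hf'
  exact existsUnique_section_of_arrowIso f (Spec.map f.appTop) Z.isoSpec V.isoSpec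
    (Scheme.isoSpec_hom_naturality f).symm h

end B1

section Key

lemma existsUnique_lift_affine {X Y V : Scheme.{u}} [IsAffine V] (π : Y ⟶ X)
    (hπ : FlatMor.IsUnivHomeo π) (hV : HTop.IsAWNRing Γ(V, ⊤)) (j : V ⟶ X) :
    ∃! t : V ⟶ Y, t ≫ π = j := by
  haveI : IsIntegralHom π := ((Groth.Agent.H1.isUnivHomeo_iff_integral π).mp hπ).1
  have hsnd : FlatMor.IsUnivHomeo (pullback.snd π j) := MorphismProperty.pullback_snd _ _ hπ
  haveI : IsAffine (pullback π j) := isAffine_of_isAffineHom (pullback.snd π j)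
  obtain ⟨σ, hσ, hσu⟩ := existsUnique_section_affine (pullback.snd π j) hV hsnd
  have hσ : σ ≫ pullback.snd π j = 𝟙 _ := hσ
  refine ⟨σ ≫ pullback.fst π j, ?_, ?_⟩
  · show (σ ≫ pullback.fst π j) ≫ π = j
    rw [Category.assoc, pullback.condition, ← Category.assoc, hσ, Category.id_comp]
  · intro t ht
    have ht : t ≫ π = j := ht
    have := hσu (pullback.lift t (𝟙 V) (by rw [ht, Category.id_comp])) (pullback.lift_snd _ _ _)
    rw [← this, pullback.lift_fst]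

lemma isAWNRing_of_iso {R S : CommRingCat.{u}} (e : R ≅ S) (h : HTop.IsAWNRing R) :
    HTop.IsAWNRing S :=
  isAWNRing_of_equiv e.commRingCatIsoToRingEquiv h

lemma isAWNRing_affineOpen {P : Scheme.{u}} (hP : HTop.IsAWN P) (W : P.affineOpens) :
    HTop.IsAWNRing Γ(P, W) :=
  ((Groth.Agent.S7420.result P).2.mp hP) W

lemma isAWNRing_affineOpen_top {P : Scheme.{u}} (hP : HTop.IsAWN P) (W : P.affineOpens) :
    HTop.IsAWNRing Γ((W : P.Opens), ⊤) :=
  isAWNRing_of_iso (W : P.Opens).topIso.symm (isAWNRing_affineOpen hP W)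

lemma isAWN_of_isOpenImmersion {Q P : Scheme.{u}} (i : Q ⟶ P) [IsOpenImmersion i]
    (hP : HTop.IsAWN P) : HTop.IsAWN Q := by
  intro x
  obtain ⟨_, ⟨U, hU, rfl⟩, hxU, -⟩ :=
    Q.isBasis_affineOpens.exists_subset_of_mem_open (Set.mem_univ x) isOpen_univ
  refine ⟨⟨U, hU⟩, hxU, ?_⟩
  have h1 : HTop.IsAWNRing Γ(P, i ''ᵁ U) :=
    isAWNRing_affineOpen hP ⟨i ''ᵁ U, hU.image_of_isOpenImmersion i⟩
  exact isAWNRing_of_iso (i.appIso U) h1

/-- liftings along a universal homeomorphism from an absolutely weakly normal scheme are unique -/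
lemma lift_unique {P X Y : Scheme.{u}} (hP : HTop.IsAWN P) (π : Y ⟶ X)
    (hπ : FlatMor.IsUnivHomeo π) (t₁ t₂ : P ⟶ Y) (h : t₁ ≫ π = t₂ ≫ π) : t₁ = t₂ := by
  apply Scheme.Cover.hom_ext (P.openCoverOfIsOpenCover (fun W : P.affineOpens => (W : P.Opens))
    (iSup_affineOpens_eq_top P))
  intro (W : P.affineOpens)
  show (W : P.Opens).ι ≫ t₁ = (W : P.Opens).ι ≫ t₂
  have := existsUnique_lift_affine π hπ (isAWNRing_affineOpen_top hP W)
    ((W : P.Opens).ι ≫ t₁ ≫ π)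
  exact this.unique (Category.assoc _ _ _) (by rw [Category.assoc, h])

lemma compat_aux {P X Y : Scheme.{u}} (hP : HTop.IsAWN P) (π : Y ⟶ X)
    (hπ : FlatMor.IsUnivHomeo π) (j : P ⟶ X) (U₁ U₂ : P.Opens)
    (t₁ : (U₁ : Scheme.{u}) ⟶ Y) (t₂ : (U₂ : Scheme.{u}) ⟶ Y)
    (h₁ : t₁ ≫ π = U₁.ι ≫ j) (h₂ : t₂ ≫ π = U₂.ι ≫ j) :
    pullback.fst U₁.ι U₂.ι ≫ t₁ = pullback.snd U₁.ι U₂.ι ≫ t₂ := by
  have hQ : HTop.IsAWN (pullback U₁.ι U₂.ι) :=
    isAWN_of_isOpenImmersion (pullback.fst U₁.ι U₂.ι ≫ U₁.ι) hP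
  apply lift_unique hQ π hπ
  calc (pullback.fst U₁.ι U₂.ι ≫ t₁) ≫ π = pullback.fst U₁.ι U₂.ι ≫ (t₁ ≫ π) :=
        Category.assoc _ _ _
    _ = pullback.fst U₁.ι U₂.ι ≫ (U₁.ι ≫ j) := by rw [h₁]
    _ = (pullback.fst U₁.ι U₂.ι ≫ U₁.ι) ≫ j := (Category.assoc _ _ _).symm
    _ = (pullback.snd U₁.ι U₂.ι ≫ U₂.ι) ≫ j := by rw [pullback.condition]
    _ = pullback.snd U₁.ι U₂.ι ≫ (U₂.ι ≫ j) := Category.assoc _ _ _
    _ = pullback.snd U₁.ι U₂.ι ≫ (t₂ ≫ π) := by rw [h₂]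
    _ = (pullback.snd U₁.ι U₂.ι ≫ t₂) ≫ π := (Category.assoc _ _ _).symm

/-- the key lifting property: maps from absolutely weakly normal schemes lift uniquely along
universal homeomorphisms -/
theorem existsUnique_lift {P X Y : Scheme.{u}} (hP : HTop.IsAWN P) (π : Y ⟶ X)
    (hπ : FlatMor.IsUnivHomeo π) (j : P ⟶ X) : ∃! t : P ⟶ Y, t ≫ π = j := by
  let 𝒰 : P.OpenCover := P.openCoverOfIsOpenCover (fun W : P.affineOpens => (W : P.Opens))
    (iSup_affineOpens_eq_top P)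
  have hex : ∀ W : P.affineOpens, ∃ t : ((W : P.Opens) : Scheme.{u}) ⟶ Y,
      t ≫ π = (W : P.Opens).ι ≫ j := fun W =>
    (existsUnique_lift_affine π hπ (isAWNRing_affineOpen_top hP W) _).exists
  choose tW htW using hex
  have compat : ∀ W W' : 𝒰.I₀, pullback.fst (𝒰.f W) (𝒰.f W') ≫ tW W =
      pullback.snd (𝒰.f W) (𝒰.f W') ≫ tW W' := fun W W' =>
    compat_aux hP π hπ j (show P.affineOpens from W).1 (show P.affineOpens from W').1 (tW W) (tW W') (htW W) (htW W')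
  refine ⟨𝒰.glueMorphisms tW compat, ?_, ?_⟩
  · apply Scheme.Cover.hom_ext 𝒰
    intro (W : P.affineOpens)
    show (W : P.Opens).ι ≫ 𝒰.glueMorphisms tW compat ≫ π = (W : P.Opens).ι ≫ j
    have h3 : (W : P.Opens).ι ≫ 𝒰.glueMorphisms tW compat = tW W := 𝒰.ι_glueMorphisms tW compat W
    rw [← Category.assoc, h3, htW]
  · intro t ht
    have ht : t ≫ π = j := ht
    apply lift_unique hP π hπ
    rw [ht]
    apply Scheme.Cover.hom_ext 𝒰
    intro (W : P.affineOpens)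
    show (W : P.Opens).ι ≫ j = (W : P.Opens).ι ≫ 𝒰.glueMorphisms tW compat ≫ π
    have h3 : (W : P.Opens).ι ≫ 𝒰.glueMorphisms tW compat = tW W := 𝒰.ι_glueMorphisms tW compat W
    rw [← Category.assoc, h3, htW]

end Key

end Groth.Agent.H4.AWNSch
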