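import Mathlib
import Groth.Prelude.Def_Flat
import Groth.Prelude.Def_HTop2
import Groth.Agent.H4.AWNSch

set_option autoImplicit false
universe u
open CategoryTheory CategoryTheory.Limits AlgebraicGeometry TensorProduct

namespace Groth.Agent.H4.AWNSch2

open Groth.Agent.S7405 Groth.Agent.H4.UHCrit Groth.Agent.H4.UHTower Groth.Agent.H4.AWN
  Groth.Agent.H4.AWN2 Groth.Agent.H4.AWN3 Groth.Agent.H4.AWNSch

section C1

/-- a chosen absolute weak normalization of a ring -/
noncomputable def awn (A : Type u) [CommRing A] : Type u := (Groth.Agent.S7422.result A).choose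

noncomputable instance (A : Type u) [CommRing A] : CommRing (awn A) :=
  (Groth.Agent.S7422.result A).choose_spec.choose

noncomputable def awnMap (A : Type u) [CommRing A] : A →+* awn A :=
  (Groth.Agent.S7422.result A).choose_spec.choose_spec.choose

lemma awnMap_spec (A : Type u) [CommRing A] : HTop.IsRingAWN (awnMap A) :=
  (Groth.Agent.S7422.result A).choose_spec.choose_spec.choose_spec

lemma isAWNRing_awn (A : Type u) [CommRing A] : HTop.IsAWNRing (awn A) :=
  isAWNRing_of_isRingAWN (awnMap A) (awnMap_spec A)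

variable {A B C : Type u} [CommRing A] [CommRing B] [CommRing C]

noncomputable def awnFun (f : A →+* B) : awn A →+* awn B :=
  (existsUnique_awnLift (awnMap A) (awnMap_spec A) (isAWNRing_awn B) ((awnMap B).comp f)).exists.choose

lemma awnFun_comp_awnMap (f : A →+* B) : (awnFun f).comp (awnMap A) = (awnMap B).comp f :=
  (existsUnique_awnLift (awnMap A) (awnMap_spec A) (isAWNRing_awn B)
    ((awnMap B).comp f)).exists.choose_spec

lemma awnFun_unique (f : A →+* B) (h : awn A →+* awn B)
    (hh : h.comp (awnMap A) = (awnMap B).comp f) : h = awnFun f :=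
  (existsUnique_awnLift (awnMap A) (awnMap_spec A) (isAWNRing_awn B)
    ((awnMap B).comp f)).unique hh (awnFun_comp_awnMap f)

lemma awnFun_id : awnFun (RingHom.id A) = RingHom.id (awn A) :=
  (awnFun_unique _ _ (by rw [RingHom.id_comp, RingHom.comp_id])).symm

lemma awnFun_comp (f : A →+* B) (g : B →+* C) : awnFun (g.comp f) = (awnFun g).comp (awnFun f) := by
  symm
  apply awnFun_unique
  rw [RingHom.comp_assoc, awnFun_comp_awnMap, ← RingHom.comp_assoc, awnFun_comp_awnMap,
    RingHom.comp_assoc]

end C1

section C1b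

open Scheme.AffineZariskiSite

variable (X : Scheme.{u})

lemma ofHom_awnFun_id (R : CommRingCat.{u}) :
    CommRingCat.ofHom (awnFun (𝟙 R : R ⟶ R).hom) = 𝟙 (CommRingCat.of (awn R)) := by
  have : (𝟙 R : R ⟶ R).hom = RingHom.id R := rfl
  rw [this, awnFun_id]
  rfl

lemma ofHom_awnFun_comp {R S T : CommRingCat.{u}} (f : R ⟶ S) (g : S ⟶ T) :
    CommRingCat.ofHom (awnFun (f ≫ g).hom) =
      CommRingCat.ofHom (awnFun f.hom) ≫ CommRingCat.ofHom (awnFun g.hom) := by
  have : (f ≫ g).hom = g.hom.comp f.hom := rfl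
  rw [this, awnFun_comp]
  rfl

/-- the presheaf of absolute weak normalizations on the affine opens of `X` -/
noncomputable def awnDiagram : X.AffineZariskiSiteᵒᵖ ⥤ CommRingCat.{u} where
  obj U := CommRingCat.of (awn Γ(X, U.unop.toOpens))
  map {U V} i := CommRingCat.ofHom
    (awnFun (((toOpensFunctor X).op ⋙ X.presheaf).map i).hom)
  map_id U := by
    rw [CategoryTheory.Functor.map_id]
    exact ofHom_awnFun_id _
  map_comp i j := by
    rw [CategoryTheory.Functor.map_comp]
    exact ofHom_awnFun_comp _ _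

noncomputable def awnDiagramMap : (toOpensFunctor X).op ⋙ X.presheaf ⟶ awnDiagram X where
  app U := CommRingCat.ofHom (awnMap Γ(X, U.unop.toOpens))
  naturality {U V} i := by
    ext x
    exact (congrArg (fun g => g x) (awnFun_comp_awnMap (((toOpensFunctor X).op ⋙ X.presheaf).map i).hom)).symm

lemma coequifibered_awnDiagramMap : (awnDiagramMap X).Coequifibered := by
  refine coequifibered_iff_forall_isLocalizationAway.mpr fun U f => ?_
  have hloc : letI := (X.presheaf.map (homOfLE (X.basicOpen_le f)).op).hom.toAlgebra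
      IsLocalization.Away f Γ(X, X.basicOpen f) := U.2.isLocalization_basicOpen f
  exact isLocalization_awn (X.presheaf.map (homOfLE (X.basicOpen_le f)).op).hom f hloc
    (awnMap _) (awnMap_spec _) (awnMap _) (awnMap_spec _) _ (awnFun_comp_awnMap _)

end C1b

section C2

open Scheme.AffineZariskiSite

variable (X : Scheme.{u})

instance uh_respectsIso : (FlatMor.IsUnivHomeo.{u}).RespectsIso := by
  rw [Groth.Agent.H1.isUnivHomeo_eq]; infer_instance

instance uh_isZariskiLocalAtTarget : IsZariskiLocalAtTarget (FlatMor.IsUnivHomeo.{u}) := by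
  rw [Groth.Agent.H1.isUnivHomeo_eq]; infer_instance

/-- the gluing data of the absolute weak normalization -/
noncomputable def awnGlueData : (directedCover X).RelativeGluingData :=
  relativeGluingData (coequifibered_awnDiagramMap X)

instance : ((awnGlueData X).functor ⋙ Scheme.forget).IsLocallyDirected :=
  Scheme.Cover.RelativeGluingData.instIsLocallyDirectedI₀CompFunctorForgetOfIsThin ..

/-- the absolute weak normalization of a scheme -/
noncomputable def awnSch : Scheme.{u} := (awnGlueData X).glued

noncomputable def awnCover : (awnSch X).OpenCover := (awnGlueData X).cover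

noncomputable def awnToBase : awnSch X ⟶ X := (awnGlueData X).toBase

lemma uh_natTrans_app (U : X.AffineZariskiSite) :
    FlatMor.IsUnivHomeo ((awnGlueData X).natTrans.app U) := by
  have h1 : (awnGlueData X).natTrans.app U =
      Spec.map ((awnDiagramMap X).app (.op U)) ≫ ((restrictIsoSpec X).app U).inv := rfl
  rw [h1]
  exact (MorphismProperty.cancel_right_of_respectsIso (FlatMor.IsUnivHomeo.{u}) _ _).mpr
    (awnMap_spec _).1

lemma uh_awnToBase : FlatMor.IsUnivHomeo (awnToBase X) := by
  apply IsZariskiLocalAtTarget.of_openCover (directedCover X)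
  intro U
  have hpb := ((awnGlueData X).isPullback_natTrans_ι_toBase U).flip
  have h2 : (directedCover X).pullbackHom (awnToBase X) U =
      hpb.isoPullback.inv ≫ (awnGlueData X).natTrans.app U := by
    exact (Iso.eq_inv_comp _).mpr hpb.isoPullback_hom_snd
  rw [h2]
  exact (MorphismProperty.cancel_left_of_respectsIso (FlatMor.IsUnivHomeo.{u}) _ _).mpr
    (uh_natTrans_app X U)

end C2

section C3

open Scheme.AffineZariskiSite

lemma isAWN_of_openCover {P : Scheme.{u}} (𝒰 : P.OpenCover) [∀ i, IsAffine (𝒰.X i)]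
    (h : ∀ i, HTop.IsAWNRing Γ(𝒰.X i, ⊤)) : HTop.IsAWN P := by
  intro x
  obtain ⟨i, y, hy⟩ := 𝒰.exists_eq x
  refine ⟨⟨(𝒰.f i).opensRange, isAffineOpen_opensRange _⟩, ⟨y, hy⟩, ?_⟩
  show HTop.IsAWNRing Γ(P, (𝒰.f i).opensRange)
  rw [← Scheme.Hom.image_top_eq_opensRange]
  exact isAWNRing_of_iso ((𝒰.f i).appIso ⊤).symm (h i)

variable (X : Scheme.{u})

lemma isAWN_awnSch : HTop.IsAWN (awnSch X) := by
  haveI : ∀ U, IsAffine ((awnCover X).X U) := fun U =>
    inferInstanceAs (IsAffine (Spec (CommRingCat.of (awn Γ(X, U.toOpens)))))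
  apply isAWN_of_openCover (awnCover X)
  intro U
  show HTop.IsAWNRing Γ(Spec (CommRingCat.of (awn Γ(X, U.toOpens))), ⊤)
  exact isAWNRing_of_iso (Scheme.ΓSpecIso _).symm (isAWNRing_awn _)

end C3

end Groth.Agent.H4.AWNSch2
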