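import Mathlib
import Groth.Prelude.Def_ChGrp
import Groth.Prelude.Def_Desc

/-!
# The descent datum of the associated bundle of a pseudo-torsor (helper4)

`hcart : IsPullback a.act (snd G X) φ φ` (a pseudo-torsor `φ : X ⟶ Y` under `G`), `b` an action of
`G` on `F`.  We build the descent datum on `X ⊗ F ⟶ X` relative to `φ.left`, in the
functor-of-points form `Desc.SchDD`: `(x₀, f) ↦ (x₁, γ⁻¹ f)` where `x₀ = γ x₁`.
-/

set_option autoImplicit false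
universe u
open CategoryTheory MonoidalCategory CartesianMonoidalCategory MonObj AlgebraicGeometry CategoryTheory.Limits

namespace Groth.Agent.H4.AbA

variable {S : Scheme.{u}} {G X Y F : Over S} [GrpObj G]
  (a : AlgGrp.Action G X) (φ : X ⟶ Y) (hcart : IsPullback a.act (snd G X) φ φ)
  (b : AlgGrp.Action G F)

section Div

/-- the division map: the unique `g` with `g • x₁ = x₀`. -/
noncomputable def dv {T : Over S} (x₀ x₁ : T ⟶ X) (h : x₀ ≫ φ = x₁ ≫ φ) : T ⟶ G :=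
  hcart.lift x₀ x₁ h ≫ fst G X

theorem dv_act {T : Over S} (x₀ x₁ : T ⟶ X) (h : x₀ ≫ φ = x₁ ≫ φ) :
    lift (dv a φ hcart x₀ x₁ h) x₁ ≫ a.act = x₀ := by
  have e : lift (dv a φ hcart x₀ x₁ h) x₁ = hcart.lift x₀ x₁ h := by
    apply CartesianMonoidalCategory.hom_ext
    · rw [lift_fst]; rfl
    · rw [lift_snd, hcart.lift_snd]
  rw [e, hcart.lift_fst]

theorem dv_unique {T : Over S} (x₀ x₁ : T ⟶ X) (h : x₀ ≫ φ = x₁ ≫ φ) (g : T ⟶ G)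
    (hg : lift g x₁ ≫ a.act = x₀) : g = dv a φ hcart x₀ x₁ h := by
  have e : lift g x₁ = hcart.lift x₀ x₁ h := by
    apply hcart.hom_ext
    · rw [hg, hcart.lift_fst]
    · rw [lift_snd, hcart.lift_snd]
  rw [← lift_fst g x₁, e]
  rfl

theorem dv_self {T : Over S} (x : T ⟶ X) : dv a φ hcart x x rfl = 1 :=
  (dv_unique a φ hcart x x rfl 1 (AlgGrp.Action.lift_one_act a x)).symm

theorem dv_mul {T : Over S} (x₀ x₁ x₂ : T ⟶ X) (h₀₁ : x₀ ≫ φ = x₁ ≫ φ)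
    (h₁₂ : x₁ ≫ φ = x₂ ≫ φ) :
    dv a φ hcart x₀ x₁ h₀₁ * dv a φ hcart x₁ x₂ h₁₂ = dv a φ hcart x₀ x₂ (h₀₁.trans h₁₂) := by
  apply dv_unique
  rw [AlgGrp.Action.lift_mul_act, dv_act, dv_act]

theorem dv_comp {T T' : Over S} (u : T' ⟶ T) (x₀ x₁ : T ⟶ X) (h : x₀ ≫ φ = x₁ ≫ φ)
    (h' : (u ≫ x₀) ≫ φ = (u ≫ x₁) ≫ φ) :
    u ≫ dv a φ hcart x₀ x₁ h = dv a φ hcart (u ≫ x₀) (u ≫ x₁) h' := by
  apply dv_unique
  rw [← comp_lift, Category.assoc, dv_act]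

end Div

section PhiSec

/-- the descent map on `F`-points: `f ↦ γ⁻¹ f` where `x₀ = γ x₁`. -/
noncomputable def Phi {T : Over S} (x₀ x₁ : T ⟶ X) (h : x₀ ≫ φ = x₁ ≫ φ) (f : T ⟶ F) : T ⟶ F :=
  lift (dv a φ hcart x₁ x₀ h.symm) f ≫ b.act

theorem Phi_self {T : Over S} (x : T ⟶ X) (f : T ⟶ F) : Phi a φ hcart b x x rfl f = f := by
  unfold Phi
  rw [dv_self, AlgGrp.Action.lift_one_act]

theorem Phi_comp {T : Over S} (x₀ x₁ x₂ : T ⟶ X) (h₀₁ : x₀ ≫ φ = x₁ ≫ φ)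
    (h₁₂ : x₁ ≫ φ = x₂ ≫ φ) (f : T ⟶ F) :
    Phi a φ hcart b x₁ x₂ h₁₂ (Phi a φ hcart b x₀ x₁ h₀₁ f) =
      Phi a φ hcart b x₀ x₂ (h₀₁.trans h₁₂) f := by
  unfold Phi
  rw [← AlgGrp.Action.lift_mul_act, dv_mul]

theorem Phi_natural {T T' : Over S} (u : T' ⟶ T) (x₀ x₁ : T ⟶ X) (h : x₀ ≫ φ = x₁ ≫ φ)
    (h' : (u ≫ x₀) ≫ φ = (u ≫ x₁) ≫ φ) (f : T ⟶ F) :
    u ≫ Phi a φ hcart b x₀ x₁ h f = Phi a φ hcart b (u ≫ x₀) (u ≫ x₁) h' (u ≫ f) := by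
  unfold Phi
  rw [← Category.assoc, comp_lift, dv_comp a φ hcart u x₁ x₀ h.symm h'.symm]

/-- the descent map on points of `X ⊗ F` (over `S`). -/
noncomputable def toF' {T : Over S} (x₀ x₁ : T ⟶ X) (h : x₀ ≫ φ = x₁ ≫ φ) (v : T ⟶ X ⊗ F) :
    T ⟶ X ⊗ F :=
  lift x₁ (Phi a φ hcart b x₀ x₁ h (v ≫ snd X F))

theorem toF'_fst {T : Over S} (x₀ x₁ : T ⟶ X) (h : x₀ ≫ φ = x₁ ≫ φ) (v : T ⟶ X ⊗ F) :
    toF' a φ hcart b x₀ x₁ h v ≫ fst X F = x₁ := lift_fst _ _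

theorem toF'_self {T : Over S} (x : T ⟶ X) (v : T ⟶ X ⊗ F) (hv : v ≫ fst X F = x) :
    toF' a φ hcart b x x rfl v = v := by
  unfold toF'
  rw [Phi_self]
  apply CartesianMonoidalCategory.hom_ext
  · rw [lift_fst, hv]
  · rw [lift_snd]

theorem toF'_comp {T : Over S} (x₀ x₁ x₂ : T ⟶ X) (h₀₁ : x₀ ≫ φ = x₁ ≫ φ)
    (h₁₂ : x₁ ≫ φ = x₂ ≫ φ) (v : T ⟶ X ⊗ F) :
    toF' a φ hcart b x₁ x₂ h₁₂ (toF' a φ hcart b x₀ x₁ h₀₁ v) =
      toF' a φ hcart b x₀ x₂ (h₀₁.trans h₁₂) v := by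
  unfold toF'
  rw [lift_snd, Phi_comp]

theorem toF'_natural {T T' : Over S} (u : T' ⟶ T) (x₀ x₁ : T ⟶ X) (h : x₀ ≫ φ = x₁ ≫ φ)
    (h' : (u ≫ x₀) ≫ φ = (u ≫ x₁) ≫ φ) (v : T ⟶ X ⊗ F) :
    u ≫ toF' a φ hcart b x₀ x₁ h v = toF' a φ hcart b (u ≫ x₀) (u ≫ x₁) h' (u ≫ v) := by
  unfold toF'
  rw [comp_lift, Phi_natural a φ hcart b u x₀ x₁ h h', Category.assoc]

end PhiSec

section Sch

variable (X F) in
/-- the scheme over `X` carrying the descent datum -/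
noncomputable abbrev ddObj : Over X.left := Over.mk (fst X F).left

omit [GrpObj G] in
theorem h1_of {T : Scheme.{u}} (x₀ x₁ : T ⟶ X.left) (h : x₀ ≫ φ.left = x₁ ≫ φ.left) :
    x₁ ≫ X.hom = x₀ ≫ X.hom := by
  rw [← Over.w φ, ← Category.assoc, ← h, Category.assoc]

omit [GrpObj G] in
theorem hf_of {T : Scheme.{u}} (x₀ : T ⟶ X.left) (v : Desc.Lifts (ddObj X F) x₀) :
    v.1 ≫ (X ⊗ F).hom = x₀ ≫ X.hom := by
  rw [← Over.w (fst X F), ← Category.assoc]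
  congr 1
  exact v.2

/-- the descent map on scheme-level points -/
noncomputable def toF {T : Scheme.{u}} (x₀ x₁ : T ⟶ X.left) (h : x₀ ≫ φ.left = x₁ ≫ φ.left)
    (v : Desc.Lifts (ddObj X F) x₀) : Desc.Lifts (ddObj X F) x₁ :=
  ⟨(toF' a φ hcart b (T := Over.mk (x₀ ≫ X.hom)) (Over.homMk x₀ rfl)
      (Over.homMk x₁ (h1_of φ x₀ x₁ h)) (Over.OverMorphism.ext h)
      (Over.homMk v.1 (hf_of x₀ v))).left,
    congrArg CommaMorphism.left (toF'_fst a φ hcart b (T := Over.mk (x₀ ≫ X.hom))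
      (Over.homMk x₀ rfl) (Over.homMk x₁ (h1_of φ x₀ x₁ h)) (Over.OverMorphism.ext h)
      (Over.homMk v.1 (hf_of x₀ v)))⟩

theorem toF_val (T' : Over S) (x₀' x₁' : T' ⟶ X) (h' : x₀' ≫ φ = x₁' ≫ φ) (v' : T' ⟶ X ⊗ F)
    (hv' : v' ≫ fst X F = x₀') :
    (toF a φ hcart b x₀'.left x₁'.left (congrArg CommaMorphism.left h')
      ⟨v'.left, congrArg CommaMorphism.left hv'⟩).1 =
      (toF' a φ hcart b x₀' x₁' h' v').left := by
  obtain ⟨T, ⟨⟨⟩⟩, t⟩ := T'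
  obtain ⟨x₀, h₀, rfl⟩ : ∃ (x₀ : T ⟶ X.left) (h₀ : x₀ ≫ X.hom = t), x₀' = Over.homMk x₀ h₀ :=
    ⟨x₀'.left, Over.w x₀', Over.OverMorphism.ext rfl⟩
  obtain ⟨x₁, h₁, rfl⟩ : ∃ (x₁ : T ⟶ X.left) (h₁ : x₁ ≫ X.hom = t), x₁' = Over.homMk x₁ h₁ :=
    ⟨x₁'.left, Over.w x₁', Over.OverMorphism.ext rfl⟩
  obtain ⟨v, hv, rfl⟩ : ∃ (v : T ⟶ (X ⊗ F).left) (hv : v ≫ (X ⊗ F).hom = t),
      v' = Over.homMk v hv := ⟨v'.left, Over.w v', Over.OverMorphism.ext rfl⟩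
  subst h₀
  rfl

theorem toF_self' (T' : Over S) (x' : T' ⟶ X) (v' : T' ⟶ X ⊗ F) (hv' : v' ≫ fst X F = x') :
    toF a φ hcart b x'.left x'.left rfl ⟨v'.left, congrArg CommaMorphism.left hv'⟩ =
      ⟨v'.left, congrArg CommaMorphism.left hv'⟩ := by
  apply Subtype.ext
  have e := toF_val a φ hcart b T' x' x' rfl v' hv'
  rw [toF'_self a φ hcart b x' v' hv'] at e
  exact e

theorem toF_comp' (T' : Over S) (x₀' x₁' x₂' : T' ⟶ X) (h₀₁' : x₀' ≫ φ = x₁' ≫ φ)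
    (h₁₂' : x₁' ≫ φ = x₂' ≫ φ) (v' : T' ⟶ X ⊗ F) (hv' : v' ≫ fst X F = x₀') :
    toF a φ hcart b x₁'.left x₂'.left (congrArg CommaMorphism.left h₁₂')
      (toF a φ hcart b x₀'.left x₁'.left (congrArg CommaMorphism.left h₀₁')
        ⟨v'.left, congrArg CommaMorphism.left hv'⟩) =
      toF a φ hcart b x₀'.left x₂'.left (congrArg CommaMorphism.left (h₀₁'.trans h₁₂'))
        ⟨v'.left, congrArg CommaMorphism.left hv'⟩ := by
  have e1 := toF_val a φ hcart b T' x₀' x₁' h₀₁' v' hv'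
  have hw' : toF' a φ hcart b x₀' x₁' h₀₁' v' ≫ fst X F = x₁' := toF'_fst a φ hcart b _ _ _ _
  have e1' : toF a φ hcart b x₀'.left x₁'.left (congrArg CommaMorphism.left h₀₁')
      ⟨v'.left, congrArg CommaMorphism.left hv'⟩ =
      ⟨(toF' a φ hcart b x₀' x₁' h₀₁' v').left, congrArg CommaMorphism.left hw'⟩ :=
    Subtype.ext e1
  rw [e1']
  apply Subtype.ext
  rw [toF_val a φ hcart b T' x₁' x₂' h₁₂' _ hw', toF_val a φ hcart b T' x₀' x₂' _ v' hv',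
    toF'_comp]

theorem toF_natural' (T T' : Over S) (u : T' ⟶ T) (x₀' x₁' : T ⟶ X) (h' : x₀' ≫ φ = x₁' ≫ φ)
    (h'' : (u ≫ x₀') ≫ φ = (u ≫ x₁') ≫ φ)
    (v' : T ⟶ X ⊗ F) (hv' : v' ≫ fst X F = x₀') (hv'' : (u ≫ v') ≫ fst X F = u ≫ x₀') :
    (toF a φ hcart b (u ≫ x₀').left (u ≫ x₁').left (congrArg CommaMorphism.left h'')
      ⟨(u ≫ v').left, congrArg CommaMorphism.left hv''⟩).1 =
      u.left ≫ (toF a φ hcart b x₀'.left x₁'.left (congrArg CommaMorphism.left h')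
        ⟨v'.left, congrArg CommaMorphism.left hv'⟩).1 := by
  rw [toF_val a φ hcart b T' (u ≫ x₀') (u ≫ x₁') h'' (u ≫ v') hv'',
    toF_val a φ hcart b T x₀' x₁' h' v' hv', ← toF'_natural a φ hcart b u x₀' x₁' h' h'' v']
  rfl

/-- **the descent datum of the associated bundle** -/
noncomputable def dd : Desc.SchDD φ.left where
  obj := ddObj X F
  φ T x₀ x₁ h :=
    { toFun := toF a φ hcart b x₀ x₁ h
      invFun := toF a φ hcart b x₁ x₀ h.symm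
      left_inv := fun v => by
        have hv' : (Over.homMk v.1 (hf_of x₀ v) : Over.mk (x₀ ≫ X.hom) ⟶ X ⊗ F) ≫ fst X F =
            Over.homMk x₀ rfl := by ext; exact v.2
        have e1 := toF_comp' a φ hcart b (Over.mk (x₀ ≫ X.hom)) (Over.homMk x₀ rfl)
          (Over.homMk x₁ (h1_of φ x₀ x₁ h)) (Over.homMk x₀ rfl) (Over.OverMorphism.ext h)
          (Over.OverMorphism.ext h.symm) (Over.homMk v.1 (hf_of x₀ v)) hv'
        have e2 := toF_self' a φ hcart b (Over.mk (x₀ ≫ X.hom)) (Over.homMk x₀ rfl)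
          (Over.homMk v.1 (hf_of x₀ v)) hv'
        exact e1.trans e2
      right_inv := fun v => by
        have hv' : (Over.homMk v.1 (hf_of x₁ v) : Over.mk (x₁ ≫ X.hom) ⟶ X ⊗ F) ≫ fst X F =
            Over.homMk x₁ rfl := by ext; exact v.2
        have e1 := toF_comp' a φ hcart b (Over.mk (x₁ ≫ X.hom)) (Over.homMk x₁ rfl)
          (Over.homMk x₀ (h1_of φ x₁ x₀ h.symm)) (Over.homMk x₁ rfl)
          (Over.OverMorphism.ext h.symm) (Over.OverMorphism.ext h)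
          (Over.homMk v.1 (hf_of x₁ v)) hv'
        have e2 := toF_self' a φ hcart b (Over.mk (x₁ ≫ X.hom)) (Over.homMk x₁ rfl)
          (Over.homMk v.1 (hf_of x₁ v)) hv'
        exact e1.trans e2 }
  φ_natural T T' g x₀ x₁ h h' v v' hvv := by
    obtain rfl : v' = ⟨g ≫ v.1, by rw [Category.assoc]; congr 1; exact v.2⟩ := Subtype.ext hvv
    have hv' : (Over.homMk v.1 (hf_of x₀ v) : Over.mk (x₀ ≫ X.hom) ⟶ X ⊗ F) ≫ fst X F =
        Over.homMk x₀ rfl := by ext; exact v.2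
    exact toF_natural' a φ hcart b (Over.mk (x₀ ≫ X.hom)) (Over.mk ((g ≫ x₀) ≫ X.hom))
      (Over.homMk g (Category.assoc g x₀ X.hom).symm) (Over.homMk x₀ rfl)
      (Over.homMk x₁ (h1_of φ x₀ x₁ h)) (Over.OverMorphism.ext h)
      (Over.OverMorphism.ext h') (Over.homMk v.1 (hf_of x₀ v)) hv'
      ((Category.assoc _ _ _).trans (congrArg (_ ≫ ·) hv'))
  φ_self T x v := by
    have hv' : (Over.homMk v.1 (hf_of x v) : Over.mk (x ≫ X.hom) ⟶ X ⊗ F) ≫ fst X F =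
        Over.homMk x rfl := by ext; exact v.2
    exact toF_self' a φ hcart b (Over.mk (x ≫ X.hom)) (Over.homMk x rfl)
      (Over.homMk v.1 (hf_of x v)) hv'
  φ_comp T x₀ x₁ x₂ h₀₁ h₁₂ v := by
    have hv' : (Over.homMk v.1 (hf_of x₀ v) : Over.mk (x₀ ≫ X.hom) ⟶ X ⊗ F) ≫ fst X F =
        Over.homMk x₀ rfl := by ext; exact v.2
    exact toF_comp' a φ hcart b (Over.mk (x₀ ≫ X.hom)) (Over.homMk x₀ rfl)
      (Over.homMk x₁ (h1_of φ x₀ x₁ h₀₁)) (Over.homMk x₂ (h1_of φ x₀ x₂ (h₀₁.trans h₁₂)))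
      (Over.OverMorphism.ext h₀₁) (Over.OverMorphism.ext h₁₂) (Over.homMk v.1 (hf_of x₀ v)) hv'

end Sch

end Groth.Agent.H4.AbA
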