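import Mathlib

/-!
# Morphisms of principal bundles are cartesian

Scheme-level lemmas: an equivariant morphism from a principal bundle `P → T` (an fpqc cover with
`H × P ≅ P ×_T P`) to a pseudo-torsor `P₀ → T₀` exhibits `P` as the base change `P₀ ×_{T₀} T`.
-/

set_option autoImplicit false

universe u

open CategoryTheory CategoryTheory.Limits AlgebraicGeometry MorphismProperty

namespace Groth.Agent.H4.TbA

section Cart

variable {C : Type*} [Category C] [CartesianMonoidalCategory C]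

open CartesianMonoidalCategory MonoidalCategory

theorem isPullback_whiskerLeft_snd (H : C) {Y Z : C} (f : Y ⟶ Z) :
    IsPullback (H ◁ f) (snd H Y) (snd H Z) f := by
  refine ⟨⟨whiskerLeft_snd H f⟩, ⟨PullbackCone.IsLimit.mk _
    (fun s => lift (s.fst ≫ fst H Z) s.snd) ?_ ?_ ?_⟩⟩
  · intro s
    apply CartesianMonoidalCategory.hom_ext
    · rw [Category.assoc, whiskerLeft_fst, lift_fst]
    · rw [Category.assoc, whiskerLeft_snd, lift_snd_assoc]
      exact s.condition.symm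
  · intro s
    exact lift_snd _ _
  · intro s m h1 h2
    apply CartesianMonoidalCategory.hom_ext
    · rw [lift_fst, ← h1, Category.assoc, whiskerLeft_fst]
    · rw [lift_snd, h2]

theorem isPullback_whiskerLeft_prod (G X Y : C) :
    IsPullback (G ◁ snd X Y) (G ◁ fst X Y) (fst G Y) (fst G X) := by
  refine ⟨⟨by rw [whiskerLeft_fst, whiskerLeft_fst]⟩, ⟨PullbackCone.IsLimit.mk _
    (fun s => lift (s.snd ≫ fst G X) (lift (s.snd ≫ snd G X) (s.fst ≫ snd G Y))) ?_ ?_ ?_⟩⟩
  · intro s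
    apply CartesianMonoidalCategory.hom_ext
    · rw [Category.assoc, whiskerLeft_fst, lift_fst]
      exact s.condition.symm
    · rw [Category.assoc, whiskerLeft_snd, lift_snd_assoc, lift_snd]
  · intro s
    apply CartesianMonoidalCategory.hom_ext
    · rw [Category.assoc, whiskerLeft_fst, lift_fst]
    · rw [Category.assoc, whiskerLeft_snd, lift_snd_assoc, lift_fst]
  · intro s m h1 h2
    apply CartesianMonoidalCategory.hom_ext
    · rw [lift_fst, ← h2, Category.assoc, whiskerLeft_fst]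
    · rw [lift_snd]
      apply CartesianMonoidalCategory.hom_ext
      · rw [lift_fst, ← h2, Category.assoc, Category.assoc, whiskerLeft_snd]
      · rw [lift_snd, ← h1, Category.assoc, Category.assoc, whiskerLeft_snd]

end Cart

section Sch

/-- base change of a pseudo-torsor is a pseudo-torsor -/
theorem isIso_psi_baseChange {P₀ T₀ HP₀ T : Scheme.{u}} (π : P₀ ⟶ T₀) (c : T ⟶ T₀)
    (act₀ pr₀ : HP₀ ⟶ P₀) (hinv₀ : act₀ ≫ π = pr₀ ≫ π)
    (hΨ₀ : IsIso (pullback.lift act₀ pr₀ hinv₀))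
    (act' pr' : pullback (pr₀ ≫ π) c ⟶ pullback π c)
    (ha1 : act' ≫ pullback.fst π c = pullback.fst (pr₀ ≫ π) c ≫ act₀)
    (ha2 : act' ≫ pullback.snd π c = pullback.snd (pr₀ ≫ π) c)
    (hp1 : pr' ≫ pullback.fst π c = pullback.fst (pr₀ ≫ π) c ≫ pr₀)
    (hp2 : pr' ≫ pullback.snd π c = pullback.snd (pr₀ ≫ π) c)
    (hinv' : act' ≫ pullback.snd π c = pr' ≫ pullback.snd π c) :
    IsIso (pullback.lift act' pr' hinv') := by
  haveI := hΨ₀
  have hI1 : inv (pullback.lift act₀ pr₀ hinv₀) ≫ act₀ = pullback.fst π π := by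
    rw [IsIso.inv_comp_eq, pullback.lift_fst]
  have hI2 : inv (pullback.lift act₀ pr₀ hinv₀) ≫ pr₀ = pullback.snd π π := by
    rw [IsIso.inv_comp_eq, pullback.lift_snd]
  have hcondW : pullback.fst (pullback.snd π c) (pullback.snd π c) ≫ pullback.snd π c =
      pullback.snd (pullback.snd π c) (pullback.snd π c) ≫ pullback.snd π c := pullback.condition
  have hcondP : pullback.fst π c ≫ π = pullback.snd π c ≫ c := pullback.condition
  have hκw : (pullback.fst (pullback.snd π c) (pullback.snd π c) ≫ pullback.fst π c) ≫ π =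
      (pullback.snd (pullback.snd π c) (pullback.snd π c) ≫ pullback.fst π c) ≫ π := by
    rw [Category.assoc, Category.assoc, hcondP, reassoc_of% hcondW]
  obtain ⟨κ, hκ1, hκ2⟩ : ∃ κ : pullback (pullback.snd π c) (pullback.snd π c) ⟶ pullback π π,
      κ ≫ pullback.fst π π =
        pullback.fst (pullback.snd π c) (pullback.snd π c) ≫ pullback.fst π c ∧
      κ ≫ pullback.snd π π =
        pullback.snd (pullback.snd π c) (pullback.snd π c) ≫ pullback.fst π c :=
    ⟨pullback.lift _ _ hκw, pullback.lift_fst _ _ _, pullback.lift_snd _ _ _⟩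
  have hiw : (κ ≫ inv (pullback.lift act₀ pr₀ hinv₀)) ≫ (pr₀ ≫ π) =
      (pullback.fst (pullback.snd π c) (pullback.snd π c) ≫ pullback.snd π c) ≫ c := by
    rw [Category.assoc, reassoc_of% hI2, reassoc_of% hκ2, hcondP, Category.assoc,
      reassoc_of% hcondW]
  obtain ⟨iv, hiv1, hiv2⟩ : ∃ iv : pullback (pullback.snd π c) (pullback.snd π c) ⟶
        pullback (pr₀ ≫ π) c,
      iv ≫ pullback.fst (pr₀ ≫ π) c = κ ≫ inv (pullback.lift act₀ pr₀ hinv₀) ∧
      iv ≫ pullback.snd (pr₀ ≫ π) c =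
        pullback.fst (pullback.snd π c) (pullback.snd π c) ≫ pullback.snd π c :=
    ⟨pullback.lift _ _ hiw, pullback.lift_fst _ _ _, pullback.lift_snd _ _ _⟩
  have hΨκ : pullback.lift act' pr' hinv' ≫ κ =
      pullback.fst (pr₀ ≫ π) c ≫ pullback.lift act₀ pr₀ hinv₀ := by
    apply pullback.hom_ext
    · simp only [Category.assoc, hκ1, pullback.lift_fst_assoc, pullback.lift_fst, ha1]
    · simp only [Category.assoc, hκ2, pullback.lift_snd_assoc, pullback.lift_snd, hp1]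
  refine ⟨⟨iv, ?_, ?_⟩⟩
  · apply pullback.hom_ext
    · simp only [Category.assoc, hiv1, reassoc_of% hΨκ, IsIso.hom_inv_id, Category.comp_id,
        Category.id_comp]
    · simp only [Category.assoc, hiv2, pullback.lift_fst_assoc, ha2, Category.id_comp]
  · apply pullback.hom_ext
    · simp only [Category.assoc, pullback.lift_fst, Category.id_comp]
      apply pullback.hom_ext
      · simp only [Category.assoc, ha1, reassoc_of% hiv1, hI1, hκ1]
      · simp only [Category.assoc, ha2, hiv2]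
    · simp only [Category.assoc, pullback.lift_snd, Category.id_comp]
      apply pullback.hom_ext
      · simp only [Category.assoc, hp1, reassoc_of% hiv1, hI2, hκ2]
      · simp only [Category.assoc, hp2, hiv2, hcondW]

/-- a morphism of pseudo-torsors over `T`, the source being an fpqc cover of `T`, is an iso -/
theorem isIso_of_torsor_map {P P' T HP HP' : Scheme.{u}}
    (p : P ⟶ T) (p' : P' ⟶ T) (Φ : P ⟶ P') (hΦ : Φ ≫ p' = p)
    (act pr : HP ⟶ P) (hinv : act ≫ p = pr ≫ p) (hΨ : IsIso (pullback.lift act pr hinv))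
    (act' pr' : HP' ⟶ P') (hinv' : act' ≫ p' = pr' ≫ p')
    (hΨ' : IsIso (pullback.lift act' pr' hinv'))
    (HΦ : HP ⟶ HP') (hact : HΦ ≫ act' = act ≫ Φ) (hpb : IsPullback HΦ pr pr' Φ)
    [Flat p] [Surjective p] [QuasiCompact p] : IsIso Φ := by
  haveI := hΨ
  haveI := hΨ'
  have sqX : IsPullback (pullback.fst p' p) (pullback.snd p' p) p' p :=
    IsPullback.of_hasPullback p' p
  have sqA : IsPullback (pullback.fst p' p') (pullback.snd p' p') p' p' :=
    IsPullback.of_hasPullback p' p'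
  obtain ⟨ΦX, hΦX1, hΦX2⟩ : ∃ ΦX : pullback p' p ⟶ pullback p' p',
      ΦX ≫ pullback.fst p' p' = pullback.fst p' p ∧
      ΦX ≫ pullback.snd p' p' = pullback.snd p' p ≫ Φ :=
    ⟨pullback.lift (pullback.fst p' p) (pullback.snd p' p ≫ Φ)
      (by rw [Category.assoc, hΦ, pullback.condition]),
      pullback.lift_fst _ _ _, pullback.lift_snd _ _ _⟩
  have sq1 : IsPullback ΦX (pullback.snd p' p) (pullback.snd p' p') Φ := by
    refine IsPullback.of_right ?_ hΦX2 sqA
    rw [hΦX1, hΦ]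
    exact sqX
  have hθw : (HΦ ≫ act') ≫ p' = pr ≫ p := by
    rw [Category.assoc, hinv', reassoc_of% hpb.w, hΦ]
  obtain ⟨θ, hθ1, hθ2⟩ : ∃ θ : HP ⟶ pullback p' p,
      θ ≫ pullback.fst p' p = HΦ ≫ act' ∧ θ ≫ pullback.snd p' p = pr :=
    ⟨pullback.lift (HΦ ≫ act') pr hθw, pullback.lift_fst _ _ _, pullback.lift_snd _ _ _⟩
  have hcomm2 : θ ≫ ΦX = HΦ ≫ pullback.lift act' pr' hinv' := by
    apply pullback.hom_ext
    · simp only [Category.assoc, hΦX1, hθ1, pullback.lift_fst]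
    · simp only [Category.assoc, hΦX2, reassoc_of% hθ2, pullback.lift_snd, hpb.w]
  have sq2 : IsPullback θ HΦ ΦX (pullback.lift act' pr' hinv') := by
    refine IsPullback.of_right ?_ hcomm2 sq1.flip
    rw [hθ2, pullback.lift_snd]
    exact hpb.flip
  haveI : IsIso θ := sq2.isIso_fst_of_isIso
  obtain ⟨ΦP, hΦP1, hΦP2⟩ : ∃ ΦP : pullback p p ⟶ pullback p' p,
      ΦP ≫ pullback.fst p' p = pullback.fst p p ≫ Φ ∧
      ΦP ≫ pullback.snd p' p = pullback.snd p p :=
    ⟨pullback.lift (pullback.fst p p ≫ Φ) (pullback.snd p p)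
      (by rw [Category.assoc, hΦ, pullback.condition]),
      pullback.lift_fst _ _ _, pullback.lift_snd _ _ _⟩
  have hΨθ : pullback.lift act pr hinv ≫ ΦP = θ := by
    apply pullback.hom_ext
    · simp only [Category.assoc, hΦP1, pullback.lift_fst_assoc, hθ1, hact]
    · simp only [Category.assoc, hΦP2, pullback.lift_snd, hθ2]
  haveI : IsIso ΦP := by
    have h0 : ΦP = inv (pullback.lift act pr hinv) ≫ θ := by
      rw [← hΨθ, IsIso.inv_hom_id_assoc]
    rw [h0]
    infer_instance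
  have sq3 : IsPullback ΦP (pullback.fst p p) (pullback.fst p' p) Φ := by
    refine IsPullback.of_right ?_ hΦP1 sqX.flip
    rw [hΦP2, hΦ]
    exact (IsPullback.of_hasPullback p p).flip
  have hcov : (@Surjective ⊓ @Flat ⊓ @QuasiCompact : MorphismProperty Scheme.{u})
      (pullback.fst p' p) := ⟨⟨inferInstance, inferInstance⟩, inferInstance⟩
  have h5 : (isomorphisms Scheme.{u}) Φ :=
    of_isPullback_of_descendsAlong (P := isomorphisms Scheme.{u})
      (Q := @Surjective ⊓ @Flat ⊓ @QuasiCompact) sq3 hcov (inferInstanceAs (IsIso ΦP))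
  exact h5

/-- an equivariant morphism from a principal bundle to a pseudo-torsor is cartesian -/
theorem isPullback_of_torsor {P T P₀ T₀ HP HP₀ : Scheme.{u}}
    (p : P ⟶ T) (π : P₀ ⟶ T₀) (Φ₀ : P ⟶ P₀) (c : T ⟶ T₀) (comm : Φ₀ ≫ π = p ≫ c)
    (act pr : HP ⟶ P) (hinv : act ≫ p = pr ≫ p) (hΨ : IsIso (pullback.lift act pr hinv))
    (act₀ pr₀ : HP₀ ⟶ P₀) (hinv₀ : act₀ ≫ π = pr₀ ≫ π)
    (hΨ₀ : IsIso (pullback.lift act₀ pr₀ hinv₀))
    (HΦ : HP ⟶ HP₀) (hact : HΦ ≫ act₀ = act ≫ Φ₀) (hpb : IsPullback HΦ pr pr₀ Φ₀)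
    [Flat p] [Surjective p] [QuasiCompact p] :
    IsPullback Φ₀ p π c := by
  obtain ⟨act', ha1, ha2⟩ : ∃ act' : pullback (pr₀ ≫ π) c ⟶ pullback π c,
      act' ≫ pullback.fst π c = pullback.fst (pr₀ ≫ π) c ≫ act₀ ∧
      act' ≫ pullback.snd π c = pullback.snd (pr₀ ≫ π) c :=
    ⟨pullback.lift (pullback.fst (pr₀ ≫ π) c ≫ act₀) (pullback.snd (pr₀ ≫ π) c)
      (by rw [Category.assoc, hinv₀]; exact pullback.condition),
      pullback.lift_fst _ _ _, pullback.lift_snd _ _ _⟩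
  obtain ⟨pr', hp1, hp2⟩ : ∃ pr' : pullback (pr₀ ≫ π) c ⟶ pullback π c,
      pr' ≫ pullback.fst π c = pullback.fst (pr₀ ≫ π) c ≫ pr₀ ∧
      pr' ≫ pullback.snd π c = pullback.snd (pr₀ ≫ π) c :=
    ⟨pullback.lift (pullback.fst (pr₀ ≫ π) c ≫ pr₀) (pullback.snd (pr₀ ≫ π) c)
      (by rw [Category.assoc]; exact pullback.condition),
      pullback.lift_fst _ _ _, pullback.lift_snd _ _ _⟩
  have hinv' : act' ≫ pullback.snd π c = pr' ≫ pullback.snd π c := by rw [ha2, hp2]
  have hΨ' : IsIso (pullback.lift act' pr' hinv') :=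
    isIso_psi_baseChange π c act₀ pr₀ hinv₀ hΨ₀ act' pr' ha1 ha2 hp1 hp2 hinv'
  obtain ⟨Φ, hΦ1, hΦ2⟩ : ∃ Φ : P ⟶ pullback π c,
      Φ ≫ pullback.fst π c = Φ₀ ∧ Φ ≫ pullback.snd π c = p :=
    ⟨pullback.lift Φ₀ p comm, pullback.lift_fst _ _ _, pullback.lift_snd _ _ _⟩
  have hHw : HΦ ≫ (pr₀ ≫ π) = (pr ≫ p) ≫ c := by
    rw [reassoc_of% hpb.w, comm, Category.assoc]
  obtain ⟨HΦ', hH1, hH2⟩ : ∃ HΦ' : HP ⟶ pullback (pr₀ ≫ π) c,
      HΦ' ≫ pullback.fst (pr₀ ≫ π) c = HΦ ∧ HΦ' ≫ pullback.snd (pr₀ ≫ π) c = pr ≫ p :=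
    ⟨pullback.lift HΦ (pr ≫ p) hHw, pullback.lift_fst _ _ _, pullback.lift_snd _ _ _⟩
  have hact' : HΦ' ≫ act' = act ≫ Φ := by
    apply pullback.hom_ext
    · simp only [Category.assoc, ha1, reassoc_of% hH1, hact, hΦ1]
    · simp only [Category.assoc, ha2, hH2, hΦ2, hinv]
  have sqR : IsPullback (pullback.fst (pr₀ ≫ π) c) pr' pr₀ (pullback.fst π c) := by
    refine IsPullback.of_bot ?_ hp1.symm (IsPullback.of_hasPullback π c)
    rw [hp2]
    exact IsPullback.of_hasPullback (pr₀ ≫ π) c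
  have hcommL : HΦ' ≫ pr' = pr ≫ Φ := by
    apply pullback.hom_ext
    · simp only [Category.assoc, hp1, reassoc_of% hH1, hpb.w, hΦ1]
    · simp only [Category.assoc, hp2, hH2, hΦ2]
  have hpb' : IsPullback HΦ' pr pr' Φ := by
    refine IsPullback.of_right ?_ hcommL sqR
    rw [hH1, hΦ1]
    exact hpb
  haveI : IsIso Φ := isIso_of_torsor_map p (pullback.snd π c) Φ hΦ2 act pr hinv hΨ
    act' pr' hinv' hΨ' HΦ' hact' hpb'
  exact IsPullback.of_iso_pullback ⟨comm⟩ (asIso Φ) hΦ1 hΦ2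

end Sch

end Groth.Agent.H4.TbA
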