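import Mathlib

set_option autoImplicit false
set_option linter.style.haveILetI false
set_option linter.unusedSectionVars false
set_option linter.unusedVariables false

namespace Groth.Agent.H4.ChowA

open CategoryTheory CategoryTheory.Limits AlgebraicGeometry TopologicalSpace

universe u

noncomputable section

/-! ## scheme-theoretically dominant morphisms -/

/-- a closed immersion through which a scheme-theoretically dominant morphism factors is an iso -/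
theorem isIso_of_sd_factor {E T W : Scheme.{u}} (e : E ⟶ T) [IsClosedImmersion e] (d : W ⟶ T)
    [IsSchemeTheoreticallyDominant d] (l : W ⟶ E) (hl : l ≫ e = d) : IsIso e := by
  rw [IsClosedImmersion.isIso_iff_ker_eq_bot]
  have h1 : d.ker = ⊥ := d.ker_eq_bot
  rw [← hl, Scheme.Hom.ker_comp] at h1
  have h2 : e.ker ≤ l.ker.map e := by
    rw [← Scheme.IdealSheafData.map_bot]
    exact Scheme.IdealSheafData.map_mono e bot_le
  exact le_bot_iff.mp (h2.trans h1.le)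

/-- two morphisms into a separated `Z`-scheme which agree on a scheme-theoretically dominant
morphism are equal. -/
theorem ext_of_sd {T Y Z W : Scheme.{u}} {a b : T ⟶ Y} (t : Y ⟶ Z) [IsSeparated t]
    (h : a ≫ t = b ≫ t) (d : W ⟶ T) [IsSchemeTheoreticallyDominant d] (hd : d ≫ a = d ≫ b) :
    a = b := by
  let X' : Over Z := Over.mk (a ≫ t)
  let Y' : Over Z := Over.mk t
  let U' : Over Z := Over.mk (d ≫ a ≫ t)
  let f' : X' ⟶ Y' := Over.homMk a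
  let g' : X' ⟶ Y' := Over.homMk b (by simpa [X', Y'] using h.symm)
  let ι' : U' ⟶ X' := Over.homMk d
  have : IsSeparated Y'.hom := ‹_›
  have hl : (equalizer.lift ι' (show ι' ≫ f' = ι' ≫ g' by ext1; exact hd)).left ≫
      (equalizer.ι f' g').left = d := by
    rw [← Over.comp_left, equalizer.lift_ι]; rfl
  haveI := isIso_of_sd_factor (equalizer.ι f' g').left d _ hl
  rw [← cancel_epi (equalizer.ι f' g').left]
  exact congr($(equalizer.condition f' g').left)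

instance sd_toImage {X Y : Scheme.{u}} (f : X ⟶ Y) [QuasiCompact f] :
    IsSchemeTheoreticallyDominant f.toImage := by
  rw [isSchemeTheoreticallyDominant_iff]
  refine Scheme.IdealSheafData.ext_of_iSup_eq_top
    (fun U : Y.affineOpens => (⟨f.imageι ⁻¹ᵁ U.1, U.2.preimage f.imageι⟩ : f.image.affineOpens))
    ?_ ?_
  · rw [eq_top_iff]
    rintro x -
    obtain ⟨_, ⟨V, hV, rfl⟩, hxV, -⟩ := Y.isBasis_affineOpens.exists_subset_of_mem_open
      (show f.imageι x ∈ (⊤ : Y.Opens) from trivial) (⊤ : Y.Opens).isOpen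
    exact Opens.mem_iSup.mpr ⟨⟨V, hV⟩, hxV⟩
  · intro U
    rw [Scheme.Hom.ker_apply]
    simp only [Scheme.IdealSheafData.ideal_bot, Pi.bot_apply]
    exact (RingHom.injective_iff_ker_eq_bot _).mp (f.toImage_app_injective U)

theorem sd_morphismRestrict {W T : Scheme.{u}} (d : W ⟶ T) [IsSchemeTheoreticallyDominant d]
    [QuasiCompact d] (V : T.Opens) : IsSchemeTheoreticallyDominant (d ∣_ V) :=
  IsSchemeTheoreticallyDominant.of_isPullback (f := d) (g := V.ι)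
    (isPullback_morphismRestrict d V).flip

theorem isPullback_of_mono_fac {C : Type*} [Category C] {A B D : C} (a : A ⟶ B) (m : B ⟶ D)
    [Mono m] : IsPullback (𝟙 A) a (a ≫ m) m :=
  ⟨⟨by simp⟩, ⟨PullbackCone.IsLimit.mk _ (fun s => s.fst) (fun s => by simp)
    (fun s => by rw [← cancel_mono m]; simpa using s.condition)
    (fun s m' h1 h2 => by simpa using h1)⟩⟩

/-- the lift of a scheme-theoretically dominant morphism to an open containing its range. -/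
theorem sd_lift {W T : Scheme.{u}} (d : W ⟶ T) [IsSchemeTheoreticallyDominant d]
    [QuasiCompact d] (V : T.Opens) (d' : W ⟶ V) (hd' : d' ≫ V.ι = d) :
    IsSchemeTheoreticallyDominant d' := by
  subst hd'
  exact IsSchemeTheoreticallyDominant.of_isPullback (f := d' ≫ V.ι) (g := V.ι)
    (isPullback_of_mono_fac d' V.ι)

/-! ## the modification is an isomorphism over `U` -/

section Iso

theorem range_s_subset {X U X' : Scheme.{u}} (ι : U ⟶ X) [IsOpenImmersion ι] (π : X' ⟶ X)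
    (s : U ⟶ X') (hsπ : s ≫ π = ι) : Set.range s ⊆ Set.range (π ⁻¹ᵁ ι.opensRange).ι := by
  rintro _ ⟨x, rfl⟩
  rw [Scheme.Opens.range_ι]
  change π (s x) ∈ ι.opensRange
  rw [← Scheme.Hom.comp_apply, hsπ]
  exact ⟨x, rfl⟩

theorem isIso_restrict {S X P U X' : Scheme.{u}} (r : X ⟶ S) (p : P ⟶ S) [IsSeparated p]
    (ι : U ⟶ X) [IsOpenImmersion ι] (π : X' ⟶ X) (q : X' ⟶ P) (hπq : q ≫ p = π ≫ r)
    [Mono (pullback.lift q π hπq)]
    (s : U ⟶ X') [IsSchemeTheoreticallyDominant s] [QuasiCompact s] (hsπ : s ≫ π = ι) :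
    IsIso (π ∣_ ι.opensRange) := by
  have hr := range_s_subset ι π s hsπ
  obtain ⟨s', hs'⟩ : ∃ s' : U ⟶ (π ⁻¹ᵁ ι.opensRange : X'.Opens),
      s' ≫ (π ⁻¹ᵁ ι.opensRange).ι = s :=
    ⟨IsOpenImmersion.lift (π ⁻¹ᵁ ι.opensRange).ι s hr, IsOpenImmersion.lift_fac _ _ _⟩
  haveI : IsSchemeTheoreticallyDominant s' := sd_lift s _ s' hs'
  have h1 : s' ≫ (π ∣_ ι.opensRange) = ι.isoOpensRange.hom := by
    rw [← cancel_mono ι.opensRange.ι, Category.assoc, morphismRestrict_ι, ← Category.assoc, hs',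
      hsπ, Scheme.Hom.isoOpensRange_hom_ι]
  have h2 : ι.isoOpensRange.inv ≫ ι = ι.opensRange.ι := by
    rw [Iso.inv_comp_eq, Scheme.Hom.isoOpensRange_hom_ι]
  -- the candidate inverse
  have hsnd : ((π ∣_ ι.opensRange) ≫ ι.isoOpensRange.inv ≫ s') ≫ (π ⁻¹ᵁ ι.opensRange).ι ≫ π =
      (π ⁻¹ᵁ ι.opensRange).ι ≫ π := by
    rw [Category.assoc, Category.assoc, ← Category.assoc s', hs', hsπ, h2, morphismRestrict_ι]
  have hfst : ((π ∣_ ι.opensRange) ≫ ι.isoOpensRange.inv ≫ s') ≫ (π ⁻¹ᵁ ι.opensRange).ι ≫ q =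
      (π ⁻¹ᵁ ι.opensRange).ι ≫ q := by
    refine ext_of_sd p ?_ s' ?_
    · have hsnd' := congrArg (· ≫ r) hsnd
      simp only [Category.assoc] at hsnd' ⊢
      rw [hπq]
      exact hsnd'
    · have h1' := congrArg (· ≫ ι.isoOpensRange.inv ≫ s' ≫ (π ⁻¹ᵁ ι.opensRange).ι ≫ q) h1
      simp only [Category.assoc, Iso.hom_inv_id_assoc] at h1' ⊢
      exact h1'
  have hβ : (π ∣_ ι.opensRange) ≫ ι.isoOpensRange.inv ≫ s' = 𝟙 _ := by
    rw [← cancel_mono ((π ⁻¹ᵁ ι.opensRange).ι ≫ pullback.lift q π hπq)]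
    apply pullback.hom_ext
    · simp only [Category.assoc, pullback.lift_fst, Category.id_comp]
      simpa only [Category.assoc] using hfst
    · simp only [Category.assoc, pullback.lift_snd, Category.id_comp]
      simpa only [Category.assoc] using hsnd
  exact ⟨⟨ι.isoOpensRange.inv ≫ s', hβ, by rw [Category.assoc, h1, Iso.inv_hom_id]⟩⟩

end Iso

/-! ## the chart lemmas -/

section Chart

theorem gen_compat {X U P Pk : Scheme.{u}} (ι : U ⟶ X) (g : U ⟶ P) (Uk : X.Opens)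
    (prk : P ⟶ Pk) (jk : (Uk : Scheme.{u}) ⟶ Pk)
    (hcompat : (ι ⁻¹ᵁ Uk).ι ≫ g ≫ prk = ι.resLE Uk (ι ⁻¹ᵁ Uk) le_rfl ≫ jk)
    (O : U.Opens) (h : O ≤ ι ⁻¹ᵁ Uk) : O.ι ≫ g ≫ prk = ι.resLE Uk O h ≫ jk := by
  have h1 : U.homOfLE h ≫ (ι ⁻¹ᵁ Uk).ι = O.ι := Scheme.homOfLE_ι U h
  rw [← h1, Category.assoc, hcompat, ← Category.assoc, Scheme.Hom.map_resLE]

variable {S X P U X' Pk : Scheme.{u}} (r : X ⟶ S) (p : P ⟶ S)
  (ι : U ⟶ X) (g : U ⟶ P) (π : X' ⟶ X) (q : X' ⟶ P) (hπq : q ≫ p = π ≫ r)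
  (s : U ⟶ X') [IsSchemeTheoreticallyDominant s] [QuasiCompact s] (hsπ : s ≫ π = ι)
  (hsq : s ≫ q = g)
  (Uk : X.Opens) (pk : Pk ⟶ S) (prk : P ⟶ Pk) (hprk : prk ≫ pk = p)
  (jk : (Uk : Scheme.{u}) ⟶ Pk) (hjk : jk ≫ pk = Uk.ι ≫ r)
  (Wk : Pk.Opens) (hW1 : Set.range jk ⊆ (Wk : Set Pk))
  (hgc : ∀ (O : U.Opens) (h : O ≤ ι ⁻¹ᵁ Uk), O.ι ≫ g ≫ prk = ι.resLE Uk O h ≫ jk)

include hπq hsπ hsq hprk hjk hW1 hgc in
/-- **Step A**: over `U_k`, the modification maps into the chart open. -/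
theorem chartA [IsSeparated pk] : π ⁻¹ᵁ Uk ≤ q ⁻¹ᵁ (prk ⁻¹ᵁ Wk) := by
  haveI : IsSchemeTheoreticallyDominant (s ∣_ (π ⁻¹ᵁ Uk)) := sd_morphismRestrict s _
  have hO : s ⁻¹ᵁ (π ⁻¹ᵁ Uk) ≤ ι ⁻¹ᵁ Uk := by
    intro x hx
    change ι x ∈ Uk
    rw [← hsπ]
    exact hx
  have hab : (π ⁻¹ᵁ Uk).ι ≫ q ≫ prk = (π ∣_ Uk) ≫ jk := by
    refine ext_of_sd pk ?_ (s ∣_ (π ⁻¹ᵁ Uk)) ?_
    · simp only [Category.assoc]
      rw [hprk, hπq, hjk, ← Category.assoc (π ∣_ Uk), morphismRestrict_ι, Category.assoc]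
    · have h1 : (s ∣_ (π ⁻¹ᵁ Uk)) ≫ (π ∣_ Uk) = ι.resLE Uk (s ⁻¹ᵁ (π ⁻¹ᵁ Uk)) hO := by
        rw [← cancel_mono Uk.ι, Category.assoc, morphismRestrict_ι, ← Category.assoc,
          morphismRestrict_ι, Category.assoc, hsπ, Scheme.Hom.resLE_comp_ι]
      rw [← Category.assoc _ (π ∣_ Uk), h1, ← hgc _ hO, ← Category.assoc, morphismRestrict_ι,
        Category.assoc, ← Category.assoc s, hsq]
  intro x hx
  let y : ((π ⁻¹ᵁ Uk : X'.Opens) : Scheme.{u}) := ⟨x, hx⟩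
  have hy : (π ⁻¹ᵁ Uk).ι y = x := rfl
  have h2 : ((π ⁻¹ᵁ Uk).ι ≫ q ≫ prk) y = ((π ∣_ Uk) ≫ jk) y := by rw [hab]
  rw [Scheme.Hom.comp_apply, Scheme.Hom.comp_apply, hy, Scheme.Hom.comp_apply] at h2
  change prk (q x) ∈ Wk
  rw [h2]
  exact hW1 ⟨_, rfl⟩

end Chart

/-- the lift of an immersion to an open in which its range is closed is a closed immersion. -/
theorem isClosedImmersion_lift {Y Z : Scheme.{u}} (j : Y ⟶ Z) [IsImmersion j] (W : Z.Opens)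
    (hW1 : Set.range j ⊆ (W : Set Z))
    (hW2 : closure (Set.range j) ∩ (W : Set Z) ⊆ Set.range j)
    (j' : Y ⟶ W) (hj' : j' ≫ W.ι = j) : IsClosedImmersion j' := by
  haveI : IsImmersion (j' ≫ W.ι) := by rw [hj']; infer_instance
  haveI : IsImmersion j' := IsImmersion.of_comp j' W.ι
  refine IsClosedImmersion.of_isPreimmersion j' ?_
  have : Set.range j' = W.ι ⁻¹' (closure (Set.range j)) := by
    ext y
    constructor
    · rintro ⟨x, rfl⟩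
      apply subset_closure
      refine ⟨x, ?_⟩
      rw [← hj', Scheme.Hom.comp_apply]
    · intro hy
      have h1 : W.ι y ∈ Set.range j := hW2 ⟨hy, y.2⟩
      obtain ⟨x, hx⟩ := h1
      refine ⟨x, ?_⟩
      apply W.ι.isOpenEmbedding.injective
      rw [← hx, ← hj', Scheme.Hom.comp_apply]
  rw [this]
  exact isClosed_closure.preimage W.ι.continuous

section ChartB

variable {S X P U X' Pk : Scheme.{u}} (r : X ⟶ S) [IsSeparated r] (p : P ⟶ S)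
  (ι : U ⟶ X) (g : U ⟶ P) (π : X' ⟶ X) (q : X' ⟶ P) (hπq : q ≫ p = π ≫ r)
  [IsClosedImmersion (pullback.lift q π hπq)]
  (s : U ⟶ X') [IsSchemeTheoreticallyDominant s] [QuasiCompact s] (hsπ : s ≫ π = ι)
  (hsq : s ≫ q = g)
  (Uk : X.Opens) (pk : Pk ⟶ S) (prk : P ⟶ Pk) (hprk : prk ≫ pk = p)
  (jk : (Uk : Scheme.{u}) ⟶ Pk) [IsImmersion jk] (hjk : jk ≫ pk = Uk.ι ≫ r)
  (Wk : Pk.Opens) (hW1 : Set.range jk ⊆ (Wk : Set Pk))
  (hW2 : closure (Set.range jk) ∩ (Wk : Set Pk) ⊆ Set.range jk)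
  (hgc : ∀ (O : U.Opens) (h : O ≤ ι ⁻¹ᵁ Uk), O.ι ≫ g ≫ prk = ι.resLE Uk O h ≫ jk)
  (hsep : (g ≫ prk) ⁻¹ᵁ Wk ≤ ι ⁻¹ᵁ Uk)

include hπq hsπ hsq hprk hjk hW1 hW2 hgc hsep in
/-- **Step B**: over the chart open, the modification is a closed subscheme. -/
theorem chartB : IsClosedImmersion (q ∣_ (prk ⁻¹ᵁ Wk)) := by
  -- the closed immersion `U_k ⟶ W_k`
  obtain ⟨jk', hjk'⟩ : ∃ jk' : (Uk : Scheme.{u}) ⟶ Wk, jk' ≫ Wk.ι = jk :=
    ⟨IsOpenImmersion.lift Wk.ι jk (by simpa using hW1), IsOpenImmersion.lift_fac _ _ _⟩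
  haveI : IsClosedImmersion jk' := isClosedImmersion_lift jk Wk hW1 hW2 jk' hjk'
  -- notation
  obtain ⟨t, ht⟩ : ∃ t : ((q ⁻¹ᵁ (prk ⁻¹ᵁ Wk) : X'.Opens) : Scheme.{u}) ⟶ Wk,
      t = (q ∣_ (prk ⁻¹ᵁ Wk)) ≫ (prk ∣_ Wk) := ⟨_, rfl⟩
  have htι : t ≫ Wk.ι = (q ⁻¹ᵁ (prk ⁻¹ᵁ Wk)).ι ≫ q ≫ prk := by
    rw [ht, Category.assoc, morphismRestrict_ι, ← Category.assoc, morphismRestrict_ι,
      Category.assoc]
  haveI : IsSchemeTheoreticallyDominant (s ∣_ (q ⁻¹ᵁ (prk ⁻¹ᵁ Wk))) := sd_morphismRestrict s _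
  have hO : s ⁻¹ᵁ (q ⁻¹ᵁ (prk ⁻¹ᵁ Wk)) ≤ ι ⁻¹ᵁ Uk := by
    intro x hx
    apply hsep
    change (g ≫ prk) x ∈ Wk
    rw [← hsq, Category.assoc, Scheme.Hom.comp_apply, Scheme.Hom.comp_apply]
    exact hx
  -- the section over the dense open
  have hcond : (s ∣_ (q ⁻¹ᵁ (prk ⁻¹ᵁ Wk))) ≫ t =
      ι.resLE Uk (s ⁻¹ᵁ (q ⁻¹ᵁ (prk ⁻¹ᵁ Wk))) hO ≫ jk' := by
    rw [← cancel_mono Wk.ι, Category.assoc, htι, ← Category.assoc, morphismRestrict_ι,
      Category.assoc, ← Category.assoc s, hsq, hgc _ hO, Category.assoc, hjk']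
  haveI : IsIso (pullback.fst t jk') :=
    isIso_of_sd_factor (pullback.fst t jk') (s ∣_ (q ⁻¹ᵁ (prk ⁻¹ᵁ Wk)))
      (pullback.lift _ _ hcond) (pullback.lift_fst _ _ _)
  obtain ⟨τ, hτdef⟩ : ∃ τ : ((q ⁻¹ᵁ (prk ⁻¹ᵁ Wk) : X'.Opens) : Scheme.{u}) ⟶ Uk,
      τ = inv (pullback.fst t jk') ≫ pullback.snd t jk' := ⟨_, rfl⟩
  have hτ : τ ≫ jk' = t := by
    rw [hτdef, Category.assoc, ← pullback.condition, IsIso.inv_hom_id_assoc]
  have hdτ : (s ∣_ (q ⁻¹ᵁ (prk ⁻¹ᵁ Wk))) ≫ τ =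
      ι.resLE Uk (s ⁻¹ᵁ (q ⁻¹ᵁ (prk ⁻¹ᵁ Wk))) hO := by
    rw [← cancel_mono jk', Category.assoc, hτ, hcond]
  have hπτ : (q ⁻¹ᵁ (prk ⁻¹ᵁ Wk)).ι ≫ π = τ ≫ Uk.ι := by
    refine ext_of_sd r ?_ (s ∣_ (q ⁻¹ᵁ (prk ⁻¹ᵁ Wk))) ?_
    · rw [Category.assoc, Category.assoc, ← hjk, ← hjk', Category.assoc, ← Category.assoc τ, hτ,
        ← Category.assoc t, htι, Category.assoc, Category.assoc, hprk, hπq]
    · rw [← Category.assoc, morphismRestrict_ι, Category.assoc, hsπ, ← Category.assoc, hdτ,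
        Scheme.Hom.resLE_comp_ι]
  -- the closed subscheme `W''` of the chart open and its graph
  have hθc : (pullback.fst (prk ∣_ Wk) jk' ≫ (prk ⁻¹ᵁ Wk).ι) ≫ p =
      (pullback.snd (prk ∣_ Wk) jk' ≫ Uk.ι) ≫ r := by
    rw [Category.assoc, Category.assoc, ← hjk, ← hjk', ← hprk, Category.assoc,
      ← Category.assoc (pullback.snd (prk ∣_ Wk) jk'), ← pullback.condition,
      Category.assoc, ← Category.assoc (prk ∣_ Wk), morphismRestrict_ι, Category.assoc]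
  obtain ⟨θ, hθ⟩ : ∃ θ : pullback (prk ∣_ Wk) jk' ⟶ pullback p r,
      θ = pullback.lift (pullback.fst (prk ∣_ Wk) jk' ≫ (prk ⁻¹ᵁ Wk).ι)
        (pullback.snd (prk ∣_ Wk) jk' ≫ Uk.ι) hθc := ⟨_, rfl⟩
  have hθ1 : θ ≫ pullback.fst p r = pullback.fst (prk ∣_ Wk) jk' ≫ (prk ⁻¹ᵁ Wk).ι := by
    rw [hθ, pullback.lift_fst]
  have hθ2 : θ ≫ pullback.snd p r = pullback.snd (prk ∣_ Wk) jk' ≫ Uk.ι := by
    rw [hθ, pullback.lift_snd]
  haveI : IsImmersion θ := by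
    haveI : IsImmersion (θ ≫ pullback.fst p r) := by rw [hθ1]; infer_instance
    exact IsImmersion.of_comp θ (pullback.fst p r)
  -- the morphism `v`
  obtain ⟨v, hv⟩ : ∃ v : ((q ⁻¹ᵁ (prk ⁻¹ᵁ Wk) : X'.Opens) : Scheme.{u}) ⟶
      pullback (prk ∣_ Wk) jk',
      v = pullback.lift (q ∣_ (prk ⁻¹ᵁ Wk)) τ (by rw [hτ, ht]) := ⟨_, rfl⟩
  have hv1 : v ≫ pullback.fst (prk ∣_ Wk) jk' = q ∣_ (prk ⁻¹ᵁ Wk) := by
    rw [hv, pullback.lift_fst]
  have hv2 : v ≫ pullback.snd (prk ∣_ Wk) jk' = τ := by rw [hv, pullback.lift_snd]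
  have hvθ : v ≫ θ = (q ⁻¹ᵁ (prk ⁻¹ᵁ Wk)).ι ≫ pullback.lift q π hπq := by
    apply pullback.hom_ext
    · rw [Category.assoc, hθ1, ← Category.assoc, hv1, morphismRestrict_ι, Category.assoc,
        pullback.lift_fst]
    · rw [Category.assoc, hθ2, ← Category.assoc, hv2, ← hπτ, Category.assoc, pullback.lift_snd]
  haveI : IsImmersion v := by
    haveI : IsImmersion (v ≫ θ) := by rw [hvθ]; infer_instance
    exact IsImmersion.of_comp v θ
  have hrange : Set.range v = θ ⁻¹' (Set.range (pullback.lift q π hπq)) := by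
    ext y
    constructor
    · rintro ⟨x, rfl⟩
      refine ⟨(q ⁻¹ᵁ (prk ⁻¹ᵁ Wk)).ι x, ?_⟩
      rw [← Scheme.Hom.comp_apply, ← hvθ, Scheme.Hom.comp_apply]
    · rintro ⟨x', hx'⟩
      have hx'W : x' ∈ q ⁻¹ᵁ (prk ⁻¹ᵁ Wk) := by
        change q x' ∈ prk ⁻¹ᵁ Wk
        have h1 : q x' = (pullback.fst p r) ((pullback.lift q π hπq) x') := by
          rw [← Scheme.Hom.comp_apply, pullback.lift_fst]
        rw [h1, hx', ← Scheme.Hom.comp_apply, hθ1, Scheme.Hom.comp_apply]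
        exact ((pullback.fst (prk ∣_ Wk) jk') y).2
      let z : ((q ⁻¹ᵁ (prk ⁻¹ᵁ Wk) : X'.Opens) : Scheme.{u}) := ⟨x', hx'W⟩
      have hz : (q ⁻¹ᵁ (prk ⁻¹ᵁ Wk)).ι z = x' := rfl
      refine ⟨z, ?_⟩
      apply θ.isEmbedding.injective
      rw [← hx']
      have h2 : (v ≫ θ) z = ((q ⁻¹ᵁ (prk ⁻¹ᵁ Wk)).ι ≫ pullback.lift q π hπq) z := by rw [hvθ]
      rw [Scheme.Hom.comp_apply, Scheme.Hom.comp_apply, hz] at h2
      exact h2
  haveI : IsClosedImmersion v := by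
    refine IsClosedImmersion.of_isPreimmersion v ?_
    rw [hrange]
    exact (pullback.lift q π hπq).isClosedEmbedding.isClosed_range.preimage θ.continuous
  rw [← hv1]
  infer_instance

end ChartB

/-! ## the main lemma -/

section Main

instance : MorphismProperty.RespectsRight @IsImmersion.{u} @IsOpenImmersion.{u} where
  postcomp i hi f hf := by
    haveI := hi
    haveI : IsImmersion f := hf
    exact (inferInstance : IsImmersion (f ≫ i))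

variable {S X P U X' : Scheme.{u}} (r : X ⟶ S) [IsSeparated r] (p : P ⟶ S)
  (ι : U ⟶ X) (g : U ⟶ P) (π : X' ⟶ X) (q : X' ⟶ P) (hπq : q ≫ p = π ≫ r)
  [IsClosedImmersion (pullback.lift q π hπq)]
  (s : U ⟶ X') [IsSchemeTheoreticallyDominant s] [QuasiCompact s] (hsπ : s ≫ π = ι)
  (hsq : s ≫ q = g)
  {κ : Type*} (Uk : κ → X.Opens) (Pk : κ → Scheme.{u}) (pk : ∀ k, Pk k ⟶ S)
  [∀ k, IsSeparated (pk k)]
  (prk : ∀ k, P ⟶ Pk k) (hprk : ∀ k, prk k ≫ pk k = p)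
  (jk : ∀ k, (Uk k : Scheme.{u}) ⟶ Pk k) [∀ k, IsImmersion (jk k)]
  (hjk : ∀ k, jk k ≫ pk k = (Uk k).ι ≫ r)
  (Wk : ∀ k, (Pk k).Opens) (hW1 : ∀ k, Set.range (jk k) ⊆ (Wk k : Set (Pk k)))
  (hW2 : ∀ k, closure (Set.range (jk k)) ∩ (Wk k : Set (Pk k)) ⊆ Set.range (jk k))
  (hcompat : ∀ k, (ι ⁻¹ᵁ Uk k).ι ≫ g ≫ prk k = ι.resLE (Uk k) (ι ⁻¹ᵁ Uk k) le_rfl ≫ jk k)
  (hsep : ∀ k, (g ≫ prk k) ⁻¹ᵁ Wk k ≤ ι ⁻¹ᵁ Uk k)
  (hcov : ∀ x : X', ∃ k, π x ∈ Uk k)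

include hπq hsπ hsq hprk hjk hW1 hW2 hcompat hsep hcov in
theorem isImmersion_q : IsImmersion q := by
  refine IsZariskiLocalAtTarget.of_range_subset_iSup (P := @IsImmersion.{u})
    (fun k => prk k ⁻¹ᵁ Wk k) ?_ ?_
  · rintro _ ⟨x, rfl⟩
    obtain ⟨k, hk⟩ := hcov x
    have hA := chartA r p ι g π q hπq s hsπ hsq (Uk k) (pk k) (prk k) (hprk k) (jk k) (hjk k)
      (Wk k) (hW1 k) (gen_compat ι g (Uk k) (prk k) (jk k) (hcompat k))
    exact Opens.mem_iSup.mpr ⟨k, hA hk⟩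
  · intro k
    haveI := chartB r p ι g π q hπq s hsπ hsq (Uk k) (pk k) (prk k) (hprk k) (jk k) (hjk k)
      (Wk k) (hW1 k) (hW2 k) (gen_compat ι g (Uk k) (prk k) (jk k) (hcompat k)) (hsep k)
    infer_instance

end Main

section Exists

theorem exists_modification {S X P U : Scheme.{u}} (r : X ⟶ S) [IsSeparated r] (p : P ⟶ S)
    [IsSeparated p] (ι : U ⟶ X) [IsOpenImmersion ι] [QuasiCompact ι] (g : U ⟶ P)
    (hg : g ≫ p = ι ≫ r)
    {κ : Type*} (Uk : κ → X.Opens) (Pk : κ → Scheme.{u}) (pk : ∀ k, Pk k ⟶ S)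
    [∀ k, IsSeparated (pk k)]
    (prk : ∀ k, P ⟶ Pk k) (hprk : ∀ k, prk k ≫ pk k = p)
    (jk : ∀ k, (Uk k : Scheme.{u}) ⟶ Pk k) [∀ k, IsImmersion (jk k)]
    (hjk : ∀ k, jk k ≫ pk k = (Uk k).ι ≫ r)
    (Wk : ∀ k, (Pk k).Opens) (hW1 : ∀ k, Set.range (jk k) ⊆ (Wk k : Set (Pk k)))
    (hW2 : ∀ k, closure (Set.range (jk k)) ∩ (Wk k : Set (Pk k)) ⊆ Set.range (jk k))
    (hcompat : ∀ k, (ι ⁻¹ᵁ Uk k).ι ≫ g ≫ prk k = ι.resLE (Uk k) (ι ⁻¹ᵁ Uk k) le_rfl ≫ jk k)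
    (hsep : ∀ k, (g ≫ prk k) ⁻¹ᵁ Wk k ≤ ι ⁻¹ᵁ Uk k)
    (hcov : closure (Set.range ι) ⊆ ⋃ k, (Uk k : Set X)) :
    ∃ (X' : Scheme.{u}) (π : X' ⟶ X) (q : X' ⟶ P) (hπq : q ≫ p = π ≫ r) (s : U ⟶ X'),
      IsClosedImmersion (pullback.lift q π hπq) ∧ IsImmersion q ∧ s ≫ π = ι ∧ s ≫ q = g ∧
      IsOpenImmersion s ∧ IsSchemeTheoreticallyDominant s ∧ QuasiCompact s ∧ IsDominant s ∧
      IsIso (π ∣_ ι.opensRange) ∧ Set.range π ⊆ closure (Set.range ι) := by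
  obtain ⟨γ, hγ⟩ : ∃ γ : U ⟶ pullback p r, γ = pullback.lift g ι hg := ⟨_, rfl⟩
  have hγ1 : γ ≫ pullback.fst p r = g := by rw [hγ, pullback.lift_fst]
  have hγ2 : γ ≫ pullback.snd p r = ι := by rw [hγ, pullback.lift_snd]
  haveI : IsImmersion γ := by
    haveI : IsImmersion (γ ≫ pullback.snd p r) := by rw [hγ2]; infer_instance
    exact IsImmersion.of_comp γ (pullback.snd p r)
  haveI : QuasiCompact γ := by
    haveI : QuasiCompact (γ ≫ pullback.snd p r) := by rw [hγ2]; infer_instance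
    exact QuasiCompact.of_comp γ (pullback.snd p r)
  have hπq : (γ.imageι ≫ pullback.fst p r) ≫ p = (γ.imageι ≫ pullback.snd p r) ≫ r := by
    rw [Category.assoc, Category.assoc, pullback.condition]
  have hlift : pullback.lift (γ.imageι ≫ pullback.fst p r) (γ.imageι ≫ pullback.snd p r) hπq =
      γ.imageι := by
    apply pullback.hom_ext
    · rw [pullback.lift_fst]
    · rw [pullback.lift_snd]
  haveI : IsClosedImmersion (pullback.lift (γ.imageι ≫ pullback.fst p r)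
      (γ.imageι ≫ pullback.snd p r) hπq) := by rw [hlift]; infer_instance
  have hsπ : γ.toImage ≫ γ.imageι ≫ pullback.snd p r = ι := by
    rw [← Category.assoc, Scheme.Hom.toImage_imageι, hγ2]
  have hsq : γ.toImage ≫ γ.imageι ≫ pullback.fst p r = g := by
    rw [← Category.assoc, Scheme.Hom.toImage_imageι, hγ1]
  have hrange : Set.range (γ.imageι ≫ pullback.snd p r) ⊆ closure (Set.range ι) := by
    rintro _ ⟨x, rfl⟩
    have hx : x ∈ closure (Set.range γ.toImage) := γ.toImage.denseRange x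
    have h1 := image_closure_subset_closure_image (γ.imageι ≫ pullback.snd p r).continuous
      (Set.mem_image_of_mem _ hx)
    rw [← Set.range_comp] at h1
    have h2 : (⇑(γ.imageι ≫ pullback.snd p r) ∘ ⇑γ.toImage) = ⇑ι := by
      funext y
      rw [Function.comp_apply, ← Scheme.Hom.comp_apply, hsπ]
    rw [h2] at h1
    exact h1
  have himm : IsImmersion (γ.imageι ≫ pullback.fst p r) :=
    isImmersion_q r p ι g _ _ hπq γ.toImage hsπ hsq Uk Pk pk prk hprk jk hjk Wk hW1 hW2 hcompat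
      hsep (fun x => by
        have := hcov (hrange ⟨x, rfl⟩)
        simpa using this)
  exact ⟨γ.image, _, _, hπq, γ.toImage, inferInstance, himm, hsπ, hsq, inferInstance,
    inferInstance, inferInstance, inferInstance,
    isIso_restrict r p ι _ _ hπq γ.toImage hsπ, hrange⟩

end Exists

end

end Groth.Agent.H4.ChowA
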