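import Mathlib

set_option autoImplicit false

namespace Groth.Agent.H4.ProjG

open AlgebraicGeometry CategoryTheory Limits HomogeneousLocalization DirectSum
open scoped HomogeneousIdeal

universe u

variable {A B σ τ : Type u} [CommRing A] [SetLike σ A] [AddSubgroupClass σ A]
  [CommRing B] [SetLike τ B] [AddSubgroupClass τ B]
  {𝒜 : ℕ → σ} {ℬ : ℕ → τ} [GradedRing 𝒜] [GradedRing ℬ]
  (φ : 𝒜 →+*ᵍ ℬ) (hφ : ℬ₊ ≤ 𝒜₊.map φ)

/-- the degree-zero part of a graded ring hom -/
def zeroHom : 𝒜 0 →+* ℬ 0 where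
  toFun x := ⟨φ x, φ.map_mem x.2⟩
  map_one' := Subtype.ext (by simp)
  map_mul' a b := Subtype.ext (by simp)
  map_zero' := Subtype.ext (by simp)
  map_add' a b := Subtype.ext (by simp)

@[simp] theorem zeroHom_coe (x : 𝒜 0) : ((zeroHom φ x : ℬ 0) : B) = φ x := rfl

theorem awayMap_comp_fromZeroRingHom (s : A) :
    (HomogeneousLocalization.Away.map φ s).comp (fromZeroRingHom 𝒜 (Submonoid.powers s)) =
      (fromZeroRingHom ℬ (Submonoid.powers (φ s))).comp (zeroHom φ) := by
  ext x
  change (HomogeneousLocalization.Away.map φ s (HomogeneousLocalization.mk ⟨0, x, 1, one_mem _⟩)).val =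
    (HomogeneousLocalization.mk ⟨0, zeroHom φ x, 1, one_mem _⟩ :
      HomogeneousLocalization ℬ (Submonoid.powers (φ s))).val
  rw [HomogeneousLocalization.Away.map, HomogeneousLocalization.map_mk,
    HomogeneousLocalization.val_mk, HomogeneousLocalization.val_mk]
  simp only [zeroHom_coe]
  congr 1
  ext
  simp

theorem map_toSpecZero :
    Proj.map φ hφ ≫ Proj.toSpecZero 𝒜 =
      Proj.toSpecZero ℬ ≫ Spec.map (CommRingCat.ofHom (zeroHom φ)) := by
  have key : ∀ (d : ℕ) (hd : 0 < d) (x : A) (hx : x ∈ 𝒜 d),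
      Proj.awayι ℬ (φ x) (φ.2 hx) hd ≫ Proj.map φ hφ ≫ Proj.toSpecZero 𝒜 =
      Proj.awayι ℬ (φ x) (φ.2 hx) hd ≫ Proj.toSpecZero ℬ ≫
        Spec.map (CommRingCat.ofHom (zeroHom φ)) := by
    intro d hd x hx
    have h1 := Proj.awayι_comp_map φ hφ hd x hx
    rw [← Category.assoc, h1, Category.assoc, Proj.awayι_toSpecZero, ← Category.assoc,
      Proj.awayι_toSpecZero,
      ← Spec.map_comp, ← Spec.map_comp, ← CommRingCat.ofHom_comp, ← CommRingCat.ofHom_comp,
      awayMap_comp_fromZeroRingHom]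
  refine (Proj.mapAffineOpenCover φ hφ).openCover.hom_ext _ _ fun s => ?_
  exact key s.1.1 s.1.2 s.2.1 s.2.2

theorem exists_mem_of_surjective (hsurj : Function.Surjective φ) {i : ℕ} {y : B} (hy : y ∈ ℬ i) :
    ∃ x ∈ 𝒜 i, φ x = y := by
  obtain ⟨a, rfl⟩ := hsurj y
  refine ⟨decompose 𝒜 a i, SetLike.coe_mem _, ?_⟩
  rw [GradedRingHom.map_directSumDecompose, decompose_of_mem_same ℬ hy]

theorem awayMap_surjective (hsurj : Function.Surjective φ) {d : ℕ} (s : A) (hs : s ∈ 𝒜 d) :
    Function.Surjective (HomogeneousLocalization.Away.map φ s) := by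
  intro y
  obtain ⟨n, b, hb, rfl⟩ := HomogeneousLocalization.Away.mk_surjective ℬ (φ.2 hs) y
  obtain ⟨a, ha, rfl⟩ := exists_mem_of_surjective φ hsurj hb
  exact ⟨HomogeneousLocalization.Away.mk 𝒜 hs n a ha, by rw [HomogeneousLocalization.Away.map_mk]⟩

theorem isPullback_awayι_map {d : ℕ} (hd : 0 < d) (s : A) (hs : s ∈ 𝒜 d) :
    IsPullback (Spec.map (CommRingCat.ofHom (HomogeneousLocalization.Away.map φ s)))
      (Proj.awayι ℬ (φ s) (φ.2 hs) hd) (Proj.awayι 𝒜 s hs hd) (Proj.map φ hφ) := by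
  apply IsOpenImmersion.isPullback
  · exact Proj.awayι_comp_map φ hφ hd s hs
  · rw [Proj.opensRange_awayι, Proj.opensRange_awayι, Proj.map_preimage_basicOpen]

/-- a property local at the target can be checked on squares that are pullbacks over an open cover. -/
theorem of_isPullback_openCover {P : MorphismProperty Scheme.{u}} [IsZariskiLocalAtTarget P]
    {X Y : Scheme.{u}} (f : X ⟶ Y) (𝒰 : Y.OpenCover) (V : 𝒰.I₀ → Scheme.{u})
    (g : ∀ i, V i ⟶ 𝒰.X i) (j : ∀ i, V i ⟶ X)
    (h : ∀ i, IsPullback (g i) (j i) (𝒰.f i) f) (hP : ∀ i, P (g i)) : P f := by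
  rw [IsZariskiLocalAtTarget.iff_of_openCover (P := P) 𝒰]
  intro i
  have : g i = (h i).flip.isoPullback.hom ≫ pullback.snd f (𝒰.f i) := by simp
  have h2 := hP i
  rw [this, P.cancel_left_of_respectsIso] at h2
  exact h2

theorem isClosedImmersion_map_of_surjective (hsurj : Function.Surjective φ) :
    IsClosedImmersion (Proj.map φ hφ) := by
  refine of_isPullback_openCover (P := @IsClosedImmersion) (Proj.map φ hφ)
    (Proj.affineOpenCover 𝒜).openCover
    (fun i => Spec (.of (HomogeneousLocalization.Away ℬ (φ i.2.1))))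
    (fun i => Spec.map (CommRingCat.ofHom (HomogeneousLocalization.Away.map φ i.2.1)))
    (fun i => Proj.awayι ℬ (φ i.2.1) (φ.2 i.2.2) i.1.2)
    (fun i => isPullback_awayι_map φ hφ i.1.2 i.2.1 i.2.2) ?_
  intro i
  exact IsClosedImmersion.spec_of_surjective _ (awayMap_surjective φ hsurj _ i.2.2)

theorem awayMap_bijective_of_bijOn (hbij : ∀ n : ℕ, 0 < n → Set.BijOn φ (𝒜 n) (ℬ n))
    {d : ℕ} (hd : 0 < d) (s : A) (hs : s ∈ 𝒜 d) :
    Function.Bijective (HomogeneousLocalization.Away.map φ s) := by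
  constructor
  · rw [injective_iff_map_eq_zero]
    intro x hx
    obtain ⟨n, a, ha, rfl⟩ := HomogeneousLocalization.Away.mk_surjective 𝒜 hs x
    rw [HomogeneousLocalization.Away.map_mk] at hx
    have h1 := congrArg HomogeneousLocalization.val hx
    rw [HomogeneousLocalization.Away.val_mk, HomogeneousLocalization.val_zero,
      Localization.mk_eq_mk', IsLocalization.mk'_eq_zero_iff] at h1
    obtain ⟨⟨_, m, rfl⟩, hm⟩ := h1
    -- φ s ^ m * φ a = 0, multiply by φ s once more
    have h2 : φ (s ^ (m + 1) * a) = 0 := by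
      rw [map_mul, map_pow, pow_succ, mul_assoc, mul_comm (φ s), ← mul_assoc]
      simp only at hm
      rw [hm, zero_mul]
    have hmem : s ^ (m + 1) * a ∈ 𝒜 ((m + 1) • d + n • d) :=
      SetLike.mul_mem_graded (SetLike.pow_mem_graded _ hs) ha
    have hpos : 0 < (m + 1) • d + n • d := by
      simp only [smul_eq_mul]; positivity
    have h3 : s ^ (m + 1) * a = 0 :=
      (hbij _ hpos).injOn hmem (zero_mem _) (by rw [h2, map_zero])
    apply HomogeneousLocalization.val_injective
    rw [HomogeneousLocalization.Away.val_mk, HomogeneousLocalization.val_zero,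
      Localization.mk_eq_mk', IsLocalization.mk'_eq_zero_iff]
    exact ⟨⟨s ^ (m + 1), m + 1, rfl⟩, h3⟩
  · intro y
    obtain ⟨n, b, hb, rfl⟩ := HomogeneousLocalization.Away.mk_surjective ℬ (φ.2 hs) y
    -- b / φ s ^ n = (b * φ s) / φ s ^ (n+1)
    have hmem : b * φ s ∈ ℬ ((n + 1) • d) := by
      have := SetLike.mul_mem_graded hb (φ.2 hs)
      rwa [show n • d + d = (n + 1) • d by simp [add_mul]] at this
    have hpos : 0 < (n + 1) • d := by simp only [smul_eq_mul]; positivity
    obtain ⟨a, ha, hab⟩ := (hbij _ hpos).surjOn hmem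
    refine ⟨HomogeneousLocalization.Away.mk 𝒜 hs (n + 1) a ha, ?_⟩
    rw [HomogeneousLocalization.Away.map_mk]
    apply HomogeneousLocalization.val_injective
    rw [HomogeneousLocalization.Away.val_mk, HomogeneousLocalization.Away.val_mk,
      Localization.mk_eq_mk_iff, Localization.r_iff_exists]
    refine ⟨1, ?_⟩
    simp only [OneMemClass.coe_one, one_mul]
    rw [hab, pow_succ]
    change φ s ^ n * (b * φ s) = φ s ^ n * φ s * b
    ring

theorem isIso_map_of_bijOn (hbij : ∀ n : ℕ, 0 < n → Set.BijOn φ (𝒜 n) (ℬ n)) :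
    IsIso (Proj.map φ hφ) := by
  refine of_isPullback_openCover (P := MorphismProperty.isomorphisms Scheme.{u}) (Proj.map φ hφ)
    (Proj.affineOpenCover 𝒜).openCover
    (fun i => Spec (.of (HomogeneousLocalization.Away ℬ (φ i.2.1))))
    (fun i => Spec.map (CommRingCat.ofHom (HomogeneousLocalization.Away.map φ i.2.1)))
    (fun i => Proj.awayι ℬ (φ i.2.1) (φ.2 i.2.2) i.1.2)
    (fun i => isPullback_awayι_map φ hφ i.1.2 i.2.1 i.2.2) ?_
  intro i
  have hb := awayMap_bijective_of_bijOn φ hbij i.1.2 i.2.1 i.2.2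
  have : IsIso (CommRingCat.ofHom (HomogeneousLocalization.Away.map φ i.2.1)) := by
    rw [ConcreteCategory.isIso_iff_bijective]
    exact hb
  change IsIso (Spec.map (CommRingCat.ofHom (HomogeneousLocalization.Away.map φ i.2.1)))
  infer_instance


end Groth.Agent.H4.ProjG
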