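import Groth.Agent.H4.ProjG

set_option autoImplicit false

namespace Groth.Agent.H4.ProjGen

open AlgebraicGeometry CategoryTheory Limits HomogeneousLocalization DirectSum
open scoped HomogeneousIdeal

universe u

section gen

variable {A : Type u} [CommRing A] (𝒜 : ℕ → AddSubgroup A) [GradedRing 𝒜]

/-- the degree-`n` piece as a `ℤ`-submodule -/
abbrev zs (n : ℕ) : Submodule ℤ A := AddSubgroup.toIntSubmodule (𝒜 n)

theorem zs_mul_le (a b : ℕ) : zs 𝒜 a * zs 𝒜 b ≤ zs 𝒜 (a + b) :=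
  Submodule.mul_le.2 fun _ hx _ hy => SetLike.mul_mem_graded (A := 𝒜) hx hy

theorem zs_pow_le (n : ℕ) : zs 𝒜 1 ^ n ≤ zs 𝒜 n := by
  induction n with
  | zero =>
    rw [pow_zero, Submodule.one_le]
    exact SetLike.GradedOne.one_mem (A := 𝒜)
  | succ n ih =>
    rw [pow_succ]
    exact (mul_le_mul' ih le_rfl).trans (zs_mul_le 𝒜 n 1)

theorem zs_zero_mul_pow_le (n : ℕ) (hn : 1 ≤ n) : zs 𝒜 0 * zs 𝒜 1 ^ n ≤ zs 𝒜 1 ^ n := by
  obtain ⟨m, rfl⟩ : ∃ m, n = m + 1 := ⟨n - 1, by omega⟩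
  rw [pow_succ', ← mul_assoc]
  refine mul_le_mul' ?_ le_rfl
  have := zs_mul_le 𝒜 0 1
  rwa [zero_add] at this

/-- if `A` is generated by `A₀ ∪ A₁` then `Aₙ ⊆ A₁ⁿ` for `n ≥ 1`. -/
theorem zs_le_pow (hgen : Subring.closure ((𝒜 0 : Set A) ∪ (𝒜 1 : Set A)) = ⊤) (n : ℕ) (hn : 1 ≤ n) :
    zs 𝒜 n ≤ zs 𝒜 1 ^ n := by
  have hall : ∀ x : A, ∀ n, 1 ≤ n → ((decompose 𝒜 x n : 𝒜 n) : A) ∈ zs 𝒜 1 ^ n := by
    intro x
    have hx : x ∈ Subring.closure ((𝒜 0 : Set A) ∪ (𝒜 1 : Set A)) := by rw [hgen]; trivial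
    induction hx using Subring.closure_induction with
    | mem a ha =>
      intro n hn
      rcases ha with ha | ha
      · rw [decompose_of_mem_ne 𝒜 ha (by omega : (0 : ℕ) ≠ n)]
        exact zero_mem _
      · by_cases h1 : 1 = n
        · subst h1
          rw [decompose_of_mem_same 𝒜 ha, pow_one]
          exact ha
        · rw [decompose_of_mem_ne 𝒜 ha h1]
          exact zero_mem _
    | zero => intro n _; rw [decompose_zero]; exact zero_mem _
    | one =>
      intro n hn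
      rw [decompose_of_mem_ne 𝒜 (SetLike.GradedOne.one_mem (A := 𝒜)) (by omega : (0 : ℕ) ≠ n)]
      exact zero_mem _
    | add a b _ _ iha ihb =>
      intro n hn
      rw [decompose_add, DirectSum.add_apply, AddSubgroup.coe_add]
      exact add_mem (iha n hn) (ihb n hn)
    | neg a _ iha =>
      intro n hn
      rw [decompose_neg]
      have : (((-(decompose 𝒜 a)) n : 𝒜 n) : A) = -((decompose 𝒜 a n : 𝒜 n) : A) := rfl
      rw [this]
      exact neg_mem (iha n hn)
    | mul a b _ _ iha ihb =>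
      intro n hn
      rw [decompose_mul, DirectSum.coe_mul_apply_eq_sum_antidiagonal]
      refine Submodule.sum_mem _ fun ij hij => ?_
      obtain ⟨i, j⟩ := ij
      have hsum : i + j = n := Finset.HasAntidiagonal.mem_antidiagonal.mp hij
      simp only
      rcases Nat.eq_zero_or_pos i with h1 | h1
      · subst h1
        have hn2 : j = n := by omega
        subst hn2
        exact zs_zero_mul_pow_le 𝒜 j hn
          (Submodule.mul_mem_mul (show ((decompose 𝒜 a 0 : 𝒜 0) : A) ∈ zs 𝒜 0 from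
            SetLike.coe_mem _) (ihb j hn))
      · rcases Nat.eq_zero_or_pos j with h2 | h2
        · subst h2
          have hn1 : i = n := by omega
          subst hn1
          have := zs_zero_mul_pow_le 𝒜 i hn
            (Submodule.mul_mem_mul (show ((decompose 𝒜 b 0 : 𝒜 0) : A) ∈ zs 𝒜 0 from
              SetLike.coe_mem _) (iha i hn))
          rw [mul_comm] at this
          exact this
        · have := Submodule.mul_mem_mul (iha i h1) (ihb j h2)
          rwa [← pow_add, hsum] at this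
  intro x hx
  have := hall x n hn
  rwa [decompose_of_mem_same 𝒜 hx] at this

end gen

section surj

variable {A B σ τ : Type u} [CommRing A] [SetLike σ A] [AddSubgroupClass σ A]
  [CommRing B] [SetLike τ B] [AddSubgroupClass τ B]
  {𝒜 : ℕ → σ} {ℬ : ℕ → τ} [GradedRing 𝒜] [GradedRing ℬ]
  (φ : 𝒜 →+*ᵍ ℬ) (hφ : ℬ₊ ≤ 𝒜₊.map φ)

theorem awayMap_surjective_of_surjOn (hsurj : ∀ n : ℕ, 0 < n → Set.SurjOn φ (𝒜 n) (ℬ n))
    {d : ℕ} (hd : 0 < d) (s : A) (hs : s ∈ 𝒜 d) :
    Function.Surjective (HomogeneousLocalization.Away.map φ s) := by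
  intro y
  obtain ⟨n, b, hb, rfl⟩ := HomogeneousLocalization.Away.mk_surjective ℬ (φ.2 hs) y
  -- b / φ s ^ n = (b * φ s) / φ s ^ (n+1)
  have hmem : b * φ s ∈ ℬ ((n + 1) • d) := by
    have := SetLike.mul_mem_graded hb (φ.2 hs)
    rwa [show n • d + d = (n + 1) • d by simp [add_mul]] at this
  have hpos : 0 < (n + 1) • d := by simp only [smul_eq_mul]; positivity
  obtain ⟨a, ha, hab⟩ := hsurj _ hpos hmem
  refine ⟨HomogeneousLocalization.Away.mk 𝒜 hs (n + 1) a ha, ?_⟩
  rw [HomogeneousLocalization.Away.map_mk]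
  apply HomogeneousLocalization.val_injective
  rw [HomogeneousLocalization.Away.val_mk, HomogeneousLocalization.Away.val_mk,
    Localization.mk_eq_mk_iff, Localization.r_iff_exists]
  refine ⟨1, ?_⟩
  simp only [OneMemClass.coe_one, one_mul]
  rw [hab, pow_succ]
  change φ s ^ n * (b * φ s) = φ s ^ n * φ s * b
  ring

theorem isClosedImmersion_map_of_surjOn (hsurj : ∀ n : ℕ, 0 < n → Set.SurjOn φ (𝒜 n) (ℬ n)) :
    IsClosedImmersion (Proj.map φ hφ) := by
  refine ProjG.of_isPullback_openCover (P := @IsClosedImmersion) (Proj.map φ hφ)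
    (Proj.affineOpenCover 𝒜).openCover
    (fun i => Spec (.of (HomogeneousLocalization.Away ℬ (φ i.2.1))))
    (fun i => Spec.map (CommRingCat.ofHom (HomogeneousLocalization.Away.map φ i.2.1)))
    (fun i => Proj.awayι ℬ (φ i.2.1) (φ.2 i.2.2) i.1.2)
    (fun i => ProjG.isPullback_awayι_map φ hφ i.1.2 i.2.1 i.2.2) ?_
  intro i
  exact IsClosedImmersion.spec_of_surjective _ (awayMap_surjective_of_surjOn φ hsurj i.1.2 _ i.2.2)

end surj

end Groth.Agent.H4.ProjGen
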