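import Mathlib
import Groth.Agent.H4.ProjG
import Groth.Agent.H4.ProjGen
import Groth.Prelude.Def_CohB1

set_option autoImplicit false
universe u
open CategoryTheory CategoryTheory.Limits AlgebraicGeometry HomogeneousLocalization
open scoped HomogeneousIdeal

namespace Groth.Agent.H4.HPa
noncomputable section

/-! ## graded maps surjective in high degrees induce closed immersions of `Proj` -/

section General
variable {A B σ τ : Type u} [CommRing A] [SetLike σ A] [AddSubgroupClass σ A]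
  [CommRing B] [SetLike τ B] [AddSubgroupClass τ B]
  {𝒜 : ℕ → σ} {ℬ : ℕ → τ} [GradedRing 𝒜] [GradedRing ℬ]
  (φ : 𝒜 →+*ᵍ ℬ) (hφ : ℬ₊ ≤ 𝒜₊.map φ)

theorem awayMap_surjective_of_tn (n : ℕ)
    (hsurj : ∀ k, n ≤ k → ∀ y ∈ ℬ k, ∃ x ∈ 𝒜 k, φ x = y) {d : ℕ} (hd : 0 < d) (s : A)
    (hs : s ∈ 𝒜 d) : Function.Surjective (Away.map φ s) := by
  intro y
  obtain ⟨m, b, hb, rfl⟩ := Away.mk_surjective ℬ (φ.2 hs) y
  have hmem : φ s ^ n * b ∈ ℬ (n • d + m • d) :=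
    SetLike.mul_mem_graded (SetLike.pow_mem_graded _ (φ.2 hs)) hb
  have hmem' : φ s ^ n * b ∈ ℬ ((n + m) • d) := by rwa [← add_smul] at hmem
  have hle : n ≤ (n + m) • d := by simp only [smul_eq_mul]; nlinarith
  obtain ⟨a, ha, hab⟩ := hsurj _ hle _ hmem'
  refine ⟨Away.mk 𝒜 hs (n + m) a ha, ?_⟩
  rw [Away.map_mk]
  apply HomogeneousLocalization.val_injective
  rw [Away.val_mk, Away.val_mk, Localization.mk_eq_mk_iff, Localization.r_iff_exists]
  refine ⟨1, ?_⟩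
  simp only [OneMemClass.coe_one, one_mul]
  rw [hab, pow_add]
  show φ s ^ m * (φ s ^ n * b) = φ s ^ n * φ s ^ m * b
  ring

theorem isClosedImmersion_map_of_tn (n : ℕ)
    (hsurj : ∀ k, n ≤ k → ∀ y ∈ ℬ k, ∃ x ∈ 𝒜 k, φ x = y) :
    IsClosedImmersion (Proj.map φ hφ) := by
  refine Groth.Agent.H4.ProjG.of_isPullback_openCover (P := @IsClosedImmersion) (Proj.map φ hφ)
    (Proj.affineOpenCover 𝒜).openCover
    (fun i => Spec (.of (HomogeneousLocalization.Away ℬ (φ i.2.1))))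
    (fun i => Spec.map (CommRingCat.ofHom (HomogeneousLocalization.Away.map φ i.2.1)))
    (fun i => Proj.awayι ℬ (φ i.2.1) (φ.2 i.2.2) i.1.2)
    (fun i => Groth.Agent.H4.ProjG.isPullback_awayι_map φ hφ i.1.2 i.2.1 i.2.2) ?_
  intro i
  exact IsClosedImmersion.spec_of_surjective _
    (awayMap_surjective_of_tn φ n hsurj i.1.2 _ i.2.2)

theorem irrelevant_le_of_tn (hsurj : ∀ k, 1 ≤ k → ∀ y ∈ ℬ k, ∃ x ∈ 𝒜 k, φ x = y) :
    ℬ₊ ≤ 𝒜₊.map φ := by
  rw [HomogeneousIdeal.irrelevant_le]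
  intro i hi y hy
  obtain ⟨x, hx, rfl⟩ := hsurj i hi y hy
  exact Ideal.mem_map_of_mem _ (HomogeneousIdeal.mem_irrelevant_of_mem _ hi hx)

end General

/-! ## the graded map from a polynomial ring given by degree one elements -/

section Eval
variable {A S : Type u} [CommRing A] [CommRing S] (𝒮 : ℕ → AddSubgroup S) [GradedRing 𝒮]
  (ρ : A →+* S) (hρ : ∀ a, ρ a ∈ 𝒮 0) (n : ℕ) (t : Fin (n + 1) → S) (ht : ∀ i, t i ∈ 𝒮 1)

include hρ ht in
lemma eval_mem {d : ℕ} {p : MvPolynomial (Fin (n + 1)) A} (hp : p.IsHomogeneous d) :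
    MvPolynomial.eval₂Hom ρ t p ∈ 𝒮 d := by
  rw [MvPolynomial.coe_eval₂Hom, MvPolynomial.eval₂_eq']
  refine sum_mem fun s hs => ?_
  have hdeg : s.degree = d := by
    by_contra hne
    exact (MvPolynomial.mem_support_iff.mp hs) (hp.coeff_eq_zero hne)
  have h1 : ∏ i, t i ^ s i ∈ 𝒮 (∑ i, s i • 1) :=
    SetLike.prod_pow_mem_graded 𝒮 (fun _ => 1) t s (fun i _ => ht i)
  have h2 : ∑ i : Fin (n + 1), s i • 1 = d := by
    rw [← hdeg, Finsupp.degree_eq_sum]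
    simp
  rw [h2] at h1
  have := SetLike.mul_mem_graded (hρ (p.coeff s)) h1
  rwa [zero_add] at this

def evalG : (CohB1.polyGrading n A) →+*ᵍ 𝒮 where
  toRingHom := MvPolynomial.eval₂Hom ρ t
  map_mem := fun hx => eval_mem 𝒮 ρ hρ n t ht ((MvPolynomial.mem_homogeneousSubmodule _ _).mp hx)

lemma evalG_apply (p : MvPolynomial (Fin (n + 1)) A) :
    evalG 𝒮 ρ hρ n t ht p = MvPolynomial.eval₂Hom ρ t p := rfl

/-- the image of the degree `k` polynomials, as a `ℤ`-submodule -/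
def imZ (k : ℕ) : Submodule ℤ S :=
  AddSubgroup.toIntSubmodule
    ((CohB1.polyGrading n A k).toAddSubgroup.map (MvPolynomial.eval₂Hom ρ t).toAddMonoidHom)

lemma mem_imZ {k : ℕ} {y : S} :
    y ∈ imZ ρ n t k ↔ ∃ x ∈ CohB1.polyGrading n A k, MvPolynomial.eval₂Hom ρ t x = y := by
  show y ∈ AddSubgroup.map (MvPolynomial.eval₂Hom ρ t).toAddMonoidHom
    (CohB1.polyGrading n A k).toAddSubgroup ↔ _
  rw [AddSubgroup.mem_map]
  rfl

lemma imZ_mul_le (a b : ℕ) : imZ ρ n t a * imZ ρ n t b ≤ imZ ρ n t (a + b) := by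
  rw [Submodule.mul_le]
  intro x hx y hy
  obtain ⟨p, hp, rfl⟩ := (mem_imZ ρ n t).mp hx
  obtain ⟨q, hq, rfl⟩ := (mem_imZ ρ n t).mp hy
  exact (mem_imZ ρ n t).mpr ⟨p * q, SetLike.mul_mem_graded hp hq, map_mul _ p q⟩

lemma one_mem_imZ : (1 : S) ∈ imZ ρ n t 0 :=
  (mem_imZ ρ n t).mpr ⟨1, SetLike.one_mem_graded _, map_one _⟩

lemma imZ_pow_le (k : ℕ) : imZ ρ n t 1 ^ k ≤ imZ ρ n t k := by
  induction k with
  | zero =>
    rw [pow_zero, Submodule.one_le]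
    exact one_mem_imZ ρ n t
  | succ k ih =>
    rw [pow_succ]
    exact (mul_le_mul' ih le_rfl).trans (imZ_mul_le ρ n t k 1)

include hρ ht in
theorem evalG_surj (hgen : Subring.closure ((𝒮 0 : Set S) ∪ (𝒮 1 : Set S)) = ⊤)
    (hspan : ∀ x ∈ 𝒮 1, ∃ c : Fin (n + 1) → A, x = ∑ i, ρ (c i) * t i) :
    ∀ k, 1 ≤ k → ∀ y ∈ 𝒮 k, ∃ x ∈ CohB1.polyGrading n A k, evalG 𝒮 ρ hρ n t ht x = y := by
  intro k hk y hy
  have h1 : Groth.Agent.H4.ProjGen.zs 𝒮 1 ≤ imZ ρ n t 1 := by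
    intro x hx
    obtain ⟨c, rfl⟩ := hspan x hx
    refine (mem_imZ ρ n t).mpr ⟨∑ i, MvPolynomial.C (c i) * MvPolynomial.X i, ?_, ?_⟩
    · refine sum_mem fun i _ => ?_
      have := SetLike.mul_mem_graded (A := CohB1.polyGrading n A)
        ((MvPolynomial.mem_homogeneousSubmodule _ _).mpr (MvPolynomial.isHomogeneous_C _ (c i)))
        ((MvPolynomial.mem_homogeneousSubmodule _ _).mpr (MvPolynomial.isHomogeneous_X A i))
      rwa [zero_add] at this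
    · rw [map_sum]
      refine Finset.sum_congr rfl fun i _ => ?_
      rw [map_mul, MvPolynomial.coe_eval₂Hom, MvPolynomial.eval₂_C, MvPolynomial.eval₂_X]
  have h2 : Groth.Agent.H4.ProjGen.zs 𝒮 k ≤ imZ ρ n t k :=
    (Groth.Agent.H4.ProjGen.zs_le_pow 𝒮 hgen k hk).trans
      ((pow_le_pow_left' h1 k).trans (imZ_pow_le ρ n t k))
  exact (mem_imZ ρ n t).mp (h2 hy)

end Eval

end

end Groth.Agent.H4.HPa
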