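import Mathlib
import Groth.Agent.H4.HPa
import Groth.Agent.H4.ProjG
import Groth.Agent.Lib.Helper5.AG.ProjSection
import Groth.Agent.Lib.Helper5.AG.ProjProper
import Groth.Agent.Lib.Helper5.AG.HProj
import Groth.Agent.Lib.Helper5.Segre.F
import Groth.Agent.S4414
import Groth.Agent.S4381
import Groth.Agent.S4373

set_option autoImplicit false
set_option linter.style.haveILetI false
set_option linter.unusedSectionVars false
set_option linter.unusedVariables false

namespace Groth.Agent.H4.ChowB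

open CategoryTheory CategoryTheory.Limits AlgebraicGeometry TopologicalSpace
open scoped HomogeneousIdeal
open Groth.Agent.H5.AG

universe u

noncomputable section

/-! ## a hyperplane of projective space avoiding the base point -/

section Hyp
variable (n : ℕ) (R : Type u) [CommRing R]

/-- the images of the variables: `X_0 ↦ 0`, `X_{i+1} ↦ X_i` -/
def hypVars : Fin (n + 2) → MvPolynomial (Fin (n + 1)) R :=
  Fin.cases 0 (fun i => MvPolynomial.X i)

lemma hypVars_homog (i : Fin (n + 2)) : (hypVars n R i).IsHomogeneous 1 := by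
  refine Fin.cases ?_ (fun i => ?_) i
  · exact MvPolynomial.isHomogeneous_zero _ _ _
  · exact MvPolynomial.isHomogeneous_X R i

/-- the graded homomorphism `R[X_0..X_{n+1}] → R[X_0..X_n]`, `X_0 ↦ 0`, `X_{i+1} ↦ X_i`. -/
def hypG : (CohB1.polyGrading (n + 1) R) →+*ᵍ (CohB1.polyGrading n R) where
  toRingHom := (MvPolynomial.aeval (hypVars n R)).toRingHom
  map_mem := fun {d x} hx => by
    have hx' : x.IsHomogeneous d := (MvPolynomial.mem_homogeneousSubmodule _ _).mp hx
    have := hx'.aeval (hypVars n R) (fun i => hypVars_homog n R i)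
    rw [one_mul] at this
    exact (MvPolynomial.mem_homogeneousSubmodule _ _).mpr this

lemma hypG_apply (x : MvPolynomial (Fin (n + 2)) R) :
    hypG n R x = MvPolynomial.aeval (hypVars n R) x := rfl

lemma hypG_X0 : hypG n R (MvPolynomial.X 0) = 0 := by
  rw [hypG_apply, MvPolynomial.aeval_X]; rfl

lemma hypG_surj : ∀ k, 0 ≤ k → ∀ y ∈ CohB1.polyGrading n R k,
    ∃ x ∈ CohB1.polyGrading (n + 1) R k, hypG n R x = y := by
  intro k _ y hy
  have hy' : y.IsHomogeneous k := (MvPolynomial.mem_homogeneousSubmodule _ _).mp hy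
  refine ⟨MvPolynomial.rename Fin.succ y, ?_, ?_⟩
  · exact (MvPolynomial.mem_homogeneousSubmodule _ _).mpr (hy'.rename_isHomogeneous)
  · rw [hypG_apply, MvPolynomial.aeval_rename]
    have : (hypVars n R ∘ Fin.succ) = MvPolynomial.X := by
      funext i
      simp [hypVars]
    rw [this, MvPolynomial.aeval_X_left]
    rfl

lemma hypG_irr : (CohB1.polyGrading n R)₊ ≤ ((CohB1.polyGrading (n + 1) R)₊).map (hypG n R) :=
  Groth.Agent.H4.HPa.irrelevant_le_of_tn (hypG n R)
    (fun k hk y hy => hypG_surj n R k (Nat.zero_le k) y hy)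

/-- the hyperplane `P^n_R ⟶ P^{n+1}_R`, `[x_0:…:x_n] ↦ [0:x_0:…:x_n]`. -/
def hyp : CohB1.ProjSpace n R ⟶ CohB1.ProjSpace (n + 1) R :=
  Proj.map (hypG n R) (hypG_irr n R)

instance : IsClosedImmersion (hyp n R) :=
  Groth.Agent.H4.HPa.isClosedImmersion_map_of_tn (hypG n R) (hypG_irr n R) 0
    (fun k hk y hy => hypG_surj n R k hk y hy)

lemma hyp_toSpec : hyp n R ≫ CohB1.ProjSpace.toSpec (n + 1) R = CohB1.ProjSpace.toSpec n R := by
  have h1 := Groth.Agent.H4.ProjG.map_toSpecZero (hypG n R) (hypG_irr n R)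
  have h2 : Proj.map (hypG n R) (hypG_irr n R) ≫
      (Proj.toSpecZero (CohB1.polyGrading (n + 1) R) ≫
        Spec.map (CommRingCat.ofHom (algebraMap R (CohB1.polyGrading (n + 1) R 0)))) =
      Proj.toSpecZero (CohB1.polyGrading n R) ≫
        Spec.map (CommRingCat.ofHom (algebraMap R (CohB1.polyGrading n R 0))) := by
    rw [← Category.assoc, h1, Category.assoc, ← Spec.map_comp, ← CommRingCat.ofHom_comp]
    congr 3
    refine RingHom.ext fun r => Subtype.ext ?_
    change hypG n R (MvPolynomial.C r) = MvPolynomial.C r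
    rw [hypG_apply, MvPolynomial.aeval_C]
    rfl
  exact h2

lemma range_hyp_disjoint :
    Disjoint (Set.range (hyp n R)) (Set.range (sectionSpec (n + 1) R)) := by
  rw [Set.disjoint_left]
  rintro _ ⟨x, rfl⟩ ⟨y, hy⟩
  have h1 : (sectionSpec (n + 1) R) y ∈ Proj.basicOpen (CohB1.polyGrading (n + 1) R)
      (MvPolynomial.X 0) := by
    rw [← Proj.opensRange_awayι _ _ (X0_mem (n + 1) R) one_pos]
    exact ⟨_, rfl⟩
  rw [hy] at h1
  have h2 : x ∈ (Proj.map (hypG n R) (hypG_irr n R)) ⁻¹ᵁ
      Proj.basicOpen (CohB1.polyGrading (n + 1) R) (MvPolynomial.X 0) := h1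
  rw [Proj.map_preimage_basicOpen, hypG_X0, Proj.basicOpen_zero] at h2
  exact h2

end Hyp

/-! ## the hyperplane and the base point over an arbitrary base -/

section HypS
variable (S : Scheme.{u}) (n : ℕ)

/-- typed first projection -/
def fstP : CohB1.ProjSpaceOver n S ⟶ CohB1.ProjSpace n (ULift.{u} ℤ) :=
  pullback.fst (CohB1.ProjSpace.toSpec n (ULift.{u} ℤ)) (specULiftZIsTerminal.from S)

/-- the hyperplane `P^n_S ⟶ P^{n+1}_S`. -/
def hypS : CohB1.ProjSpaceOver n S ⟶ CohB1.ProjSpaceOver (n + 1) S :=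
  pullback.map (CohB1.ProjSpace.toSpec n (ULift.{u} ℤ)) (specULiftZIsTerminal.from S)
    (CohB1.ProjSpace.toSpec (n + 1) (ULift.{u} ℤ)) (specULiftZIsTerminal.from S)
    (hyp n (ULift.{u} ℤ)) (𝟙 S) (𝟙 _)
    ((Category.comp_id _).trans (hyp_toSpec n (ULift.{u} ℤ)).symm)
    ((Category.comp_id _).trans (Category.id_comp _).symm)

lemma hypS_toBase : hypS S n ≫ CohB1.ProjSpaceOver.toBase (n + 1) S =
    CohB1.ProjSpaceOver.toBase n S := by
  exact (pullback.lift_snd _ _ _).trans (Category.comp_id _)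

lemma hypS_fst : hypS S n ≫ fstP S (n + 1) = fstP S n ≫ hyp n (ULift.{u} ℤ) := by
  exact pullback.lift_fst _ _ _

instance : IsClosedImmersion (hypS S n) := by
  haveI : MorphismProperty.IsStableUnderComposition @IsClosedImmersion.{u} :=
    (inferInstance : MorphismProperty.IsMultiplicative @IsClosedImmersion.{u}).toIsStableUnderComposition
  exact MorphismProperty.pullbackMap (P := @IsClosedImmersion.{u})
    (inferInstance : IsClosedImmersion (hyp n (ULift.{u} ℤ)))
    (inferInstance : IsClosedImmersion (𝟙 S)) (hyp_toSpec n (ULift.{u} ℤ)).symm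
    (Category.id_comp _).symm

/-- the base point `S ⟶ P^{n+1}_S`, `[1:0:…:0]`. -/
def baseS : S ⟶ CohB1.ProjSpaceOver (n + 1) S :=
  pullback.lift (specULiftZIsTerminal.from S ≫ sectionSpec (n + 1) (ULift.{u} ℤ)) (𝟙 S)
    (by rw [Category.assoc, sectionSpec_toSpec, Category.comp_id, Category.id_comp])

lemma baseS_toBase : baseS S n ≫ CohB1.ProjSpaceOver.toBase (n + 1) S = 𝟙 S := by
  exact pullback.lift_snd _ _ _

lemma baseS_fst : baseS S n ≫ fstP S (n + 1) =
    specULiftZIsTerminal.from S ≫ sectionSpec (n + 1) (ULift.{u} ℤ) := by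
  exact pullback.lift_fst _ _ _

instance : IsClosedImmersion (baseS S n) := by
  haveI := isProper_toBase (n + 1) S
  haveI : IsClosedImmersion (baseS S n ≫ CohB1.ProjSpaceOver.toBase (n + 1) S) := by
    rw [baseS_toBase]; infer_instance
  exact IsClosedImmersion.of_comp (baseS S n) (CohB1.ProjSpaceOver.toBase (n + 1) S)

lemma range_hypS_disjoint : Disjoint (Set.range (hypS S n)) (Set.range (baseS S n)) := by
  rw [Set.disjoint_left]
  rintro _ ⟨x, rfl⟩ ⟨y, hy⟩
  have h1 : (baseS S n ≫ fstP S (n + 1)) y = (hypS S n ≫ fstP S (n + 1)) x := by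
    rw [Scheme.Hom.comp_apply, Scheme.Hom.comp_apply, hy]
  rw [baseS_fst, hypS_fst, Scheme.Hom.comp_apply, Scheme.Hom.comp_apply] at h1
  exact Set.disjoint_left.mp (range_hyp_disjoint n (ULift.{u} ℤ)) ⟨_, rfl⟩ ⟨_, h1⟩

end HypS

/-! ## finite products of projective spaces over `S` -/

section Prod

lemma isHProjective_toBase (S : Scheme.{u}) (n : ℕ) :
    RelProj.IsHProjective (CohB1.ProjSpaceOver.toBase n S) :=
  ⟨n, 𝟙 _, inferInstance, Category.id_comp _⟩

lemma isHProjective_id (S : Scheme.{u}) : RelProj.IsHProjective (𝟙 S) :=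
  ⟨1, baseS S 0, inferInstance, baseS_toBase S 0⟩

theorem exists_prod (S : Scheme.{u}) : ∀ (m : ℕ) (N : Fin m → ℕ),
    ∃ (Q : Scheme.{u}) (q : Q ⟶ S) (pr : ∀ k, Q ⟶ CohB1.ProjSpaceOver (N k) S),
      RelProj.IsHProjective q ∧ (∀ k, pr k ≫ CohB1.ProjSpaceOver.toBase (N k) S = q) ∧
      ∀ (T : Scheme.{u}) (t : T ⟶ S) (h : ∀ k, T ⟶ CohB1.ProjSpaceOver (N k) S),
        (∀ k, h k ≫ CohB1.ProjSpaceOver.toBase (N k) S = t) →
        ∃ g : T ⟶ Q, g ≫ q = t ∧ ∀ k, g ≫ pr k = h k := by
  intro m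
  induction m with
  | zero =>
    intro N
    exact ⟨S, 𝟙 S, fun k => Fin.elim0 k, isHProjective_id S, fun k => Fin.elim0 k,
      fun T t h _ => ⟨t, Category.comp_id _, fun k => Fin.elim0 k⟩⟩
  | succ m ih =>
    intro N
    obtain ⟨Q', q', pr', hq', hpr', huniv'⟩ := ih (fun k => N k.succ)
    let Q : Scheme.{u} := pullback (CohB1.ProjSpaceOver.toBase (N 0) S) q'
    let a : Q ⟶ CohB1.ProjSpaceOver (N 0) S := pullback.fst _ _
    let b : Q ⟶ Q' := pullback.snd _ _
    have hab : a ≫ CohB1.ProjSpaceOver.toBase (N 0) S = b ≫ q' := pullback.condition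
    have hb : RelProj.IsHProjective b :=
      isHProjective_baseChange _ (isHProjective_toBase S (N 0)) q'
    refine ⟨Q, b ≫ q',
      Fin.cases (motive := fun k => Q ⟶ CohB1.ProjSpaceOver (N k) S) a (fun k => b ≫ pr' k),
      Groth.Agent.H5.Segre.isHProjective_comp b q' hb hq', ?_, ?_⟩
    · intro k
      refine Fin.cases ?_ (fun k => ?_) k
      · simp only [Fin.cases_zero]
        exact hab
      · simp only [Fin.cases_succ]
        rw [Category.assoc, hpr']
    · intro T t h ht
      obtain ⟨g', hg', hg'k⟩ := huniv' T t (fun k => h k.succ) (fun k => ht k.succ)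
      refine ⟨pullback.lift (h 0) g' (by rw [ht 0, hg']), ?_, ?_⟩
      · have : pullback.lift (h 0) g' (by rw [ht 0, hg']) ≫ b = g' := pullback.lift_snd _ _ _
        rw [← Category.assoc, this, hg']
      · intro k
        refine Fin.cases ?_ (fun k => ?_) k
        · simp only [Fin.cases_zero]
          exact pullback.lift_fst _ _ _
        · simp only [Fin.cases_succ]
          have : pullback.lift (h 0) g' (by rw [ht 0, hg']) ≫ b = g' := pullback.lift_snd _ _ _
          rw [← Category.assoc, this, hg'k]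

end Prod

/-! ## affine opens over affine opens immerse into projective space over the base -/

section AffImm

open Groth.Agent.LD.QC in
theorem exists_affine_immersion {X S : Scheme.{u}} (r : X ⟶ S) [LocallyOfFiniteType r]
    (V : S.Opens) (hV : IsAffineOpen V) (Uo : X.Opens) (hUo : IsAffineOpen Uo)
    (h : Uo ≤ r ⁻¹ᵁ V) :
    ∃ (n : ℕ) (j : (Uo : Scheme.{u}) ⟶ CohB1.ProjSpaceOver n S), IsImmersion j ∧
      j ≫ CohB1.ProjSpaceOver.toBase n S = Uo.ι ≫ r := by
  haveI : IsAffine (V : Scheme.{u}) := hV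
  haveI : IsAffine (Uo : Scheme.{u}) := hUo
  let f : (Uo : Scheme.{u}) ⟶ (V : Scheme.{u}) := r.resLE V Uo h
  have hf : f ≫ V.ι = Uo.ι ≫ r := Scheme.Hom.resLE_comp_ι _ _
  haveI : LocallyOfFiniteType (f ≫ V.ι) := by rw [hf]; infer_instance
  haveI : LocallyOfFiniteType f := locallyOfFiniteType_of_comp f V.ι
  have hamp : CohB1.IsAmple (unitMod (Uo : Scheme.{u})) :=
    Groth.Agent.S4373.result _ _ (isInvertible_unit _)
  have hq : RelProj.IsQuasiProjective f :=
    ⟨inferInstance, inferInstance, unitMod _, (Groth.Agent.S4381.result f _).mpr hamp⟩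
  have hY : ∃ M : (V : Scheme.{u}).Modules, CohB1.IsAmple M :=
    ⟨unitMod _, Groth.Agent.S4373.result _ _ (isInvertible_unit _)⟩
  obtain ⟨_, _, n, i, hi, hif⟩ := (Groth.Agent.S4414.result hY f).mp hq
  have hpb := projMap_isPullback n V.ι
  haveI : IsOpenImmersion (projMap n V.ι) :=
    MorphismProperty.of_isPullback hpb.flip (inferInstance : IsOpenImmersion V.ι)
  refine ⟨n, i ≫ projMap n V.ι, inferInstance, ?_⟩
  rw [Category.assoc, hpb.w, ← Category.assoc, hif, hf]

end AffImm

end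

end Groth.Agent.H4.ChowB
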