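import Mathlib

set_option autoImplicit false
set_option linter.style.haveILetI false
set_option linter.unusedSectionVars false
set_option linter.unusedVariables false

namespace Groth.Agent.H4.ClIm1

open CategoryTheory CategoryTheory.Limits AlgebraicGeometry TopologicalSpace Opposite

universe u

noncomputable section

variable {P : Scheme.{u}}

theorem isAffineOpen_chart {R : CommRingCat.{u}} (j : Spec R ⟶ P) [IsOpenImmersion j] :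
    IsAffineOpen (j ''ᵁ ⊤) :=
  (isAffineOpen_top _).image_of_isOpenImmersion j

/-- sections over the image of an affine chart -/
def cIso {R : CommRingCat.{u}} (j : Spec R ⟶ P) [IsOpenImmersion j] : Γ(P, j ''ᵁ ⊤) ≅ R :=
  j.appIso ⊤ ≪≫ Scheme.ΓSpecIso R

theorem chart_le {R R' : CommRingCat.{u}} (θ : R ⟶ R') (j : Spec R ⟶ P) [IsOpenImmersion j]
    (j' : Spec R' ⟶ P) [IsOpenImmersion j'] (h : Spec.map θ ≫ j = j') :
    j' ''ᵁ ⊤ ≤ j ''ᵁ ⊤ := by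
  rintro _ ⟨x, -, rfl⟩
  refine ⟨(Spec.map θ).base x, Set.mem_univ _, ?_⟩
  rw [← h]; rfl

theorem cIso_square {R R' : CommRingCat.{u}} (θ : R ⟶ R') (j : Spec R ⟶ P) [IsOpenImmersion j]
    (j' : Spec R' ⟶ P) [IsOpenImmersion j'] (h : Spec.map θ ≫ j = j') :
    P.presheaf.map (homOfLE (chart_le θ j j' h)).op ≫ (cIso j').hom = (cIso j).hom ≫ θ := by
  subst h
  have e₁ : (⊤ : (Spec R).Opens) ≤ j ⁻¹ᵁ (j ''ᵁ ⊤) := (Scheme.Hom.preimage_image_eq j ⊤).ge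
  have e₂ : (⊤ : (Spec R').Opens) ≤ (Spec.map θ ≫ j) ⁻¹ᵁ (j ''ᵁ ⊤) :=
    fun x _ => ⟨(Spec.map θ).base x, Set.mem_univ _, rfl⟩
  have e₃ : (⊤ : (Spec R').Opens) ≤ (Spec.map θ ≫ j) ⁻¹ᵁ ((Spec.map θ ≫ j) ''ᵁ ⊤) :=
    (Scheme.Hom.preimage_image_eq (Spec.map θ ≫ j) ⊤).ge
  have h1 : (cIso (Spec.map θ ≫ j)).hom =
      (Spec.map θ ≫ j).appLE ((Spec.map θ ≫ j) ''ᵁ ⊤) ⊤ e₃ ≫ (Scheme.ΓSpecIso R').hom := by
    unfold cIso
    rw [Iso.trans_hom, Scheme.Hom.appIso_hom']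
  have h2 : (cIso j).hom = j.appLE (j ''ᵁ ⊤) ⊤ e₁ ≫ (Scheme.ΓSpecIso R).hom := by
    unfold cIso
    rw [Iso.trans_hom, Scheme.Hom.appIso_hom']
  rw [h1, h2, ← Category.assoc, Scheme.Hom.map_appLE]
  have h3 := Scheme.Hom.appLE_comp_appLE (Spec.map θ) j (j ''ᵁ ⊤) ⊤ ⊤ e₁ le_top
  have h4 : (Spec.map θ).appLE ⊤ ⊤ le_top = (Spec.map θ).appTop :=
    Scheme.Hom.appLE_eq_app (f := Spec.map θ) (U := ⊤)
  rw [h4] at h3
  rw [← h3, Category.assoc, Category.assoc, Scheme.ΓSpecIso_naturality]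

/-- the ideal of an ideal sheaf on an affine chart -/
def cI (𝒥 : P.IdealSheafData) {R : CommRingCat.{u}} (j : Spec R ⟶ P) [IsOpenImmersion j] :
    Ideal R :=
  (𝒥.ideal ⟨j ''ᵁ ⊤, isAffineOpen_chart j⟩).comap (cIso j).inv.hom

theorem mem_cI (𝒥 : P.IdealSheafData) {R : CommRingCat.{u}} (j : Spec R ⟶ P) [IsOpenImmersion j]
    (x : R) : x ∈ cI 𝒥 j ↔ (cIso j).inv.hom x ∈ 𝒥.ideal ⟨j ''ᵁ ⊤, isAffineOpen_chart j⟩ :=
  Iff.rfl

theorem cI_eq_map (𝒥 : P.IdealSheafData) {R : CommRingCat.{u}} (j : Spec R ⟶ P)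
    [IsOpenImmersion j] :
    cI 𝒥 j = (𝒥.ideal ⟨j ''ᵁ ⊤, isAffineOpen_chart j⟩).map (cIso j).hom.hom := by
  ext x
  rw [mem_cI]
  constructor
  · intro hx
    have h1 := Ideal.mem_map_of_mem (cIso j).hom.hom hx
    have h2 : (cIso j).hom.hom ((cIso j).inv.hom x) = x := by
      rw [← CommRingCat.comp_apply, Iso.inv_hom_id]; rfl
    rwa [h2] at h1
  · intro hx
    have h0 : Ideal.map (cIso j).hom.hom (𝒥.ideal ⟨j ''ᵁ ⊤, isAffineOpen_chart j⟩) ≤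
        Ideal.comap (cIso j).inv.hom (𝒥.ideal ⟨j ''ᵁ ⊤, isAffineOpen_chart j⟩) := by
      rw [Ideal.map_le_iff_le_comap]
      intro y hy
      rw [Ideal.mem_comap, Ideal.mem_comap]
      have h2 : (cIso j).inv.hom ((cIso j).hom.hom y) = y := by
        rw [← CommRingCat.comp_apply, Iso.hom_inv_id]; rfl
      rwa [h2]
    exact h0 hx

theorem cI_comp (𝒥 : P.IdealSheafData) {R R' : CommRingCat.{u}} (θ : R ⟶ R') (j : Spec R ⟶ P)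
    [IsOpenImmersion j] (j' : Spec R' ⟶ P) [IsOpenImmersion j'] (h : Spec.map θ ≫ j = j') :
    cI 𝒥 j' = (cI 𝒥 j).map θ.hom := by
  rw [cI_eq_map, cI_eq_map, Ideal.map_map]
  have h1 := 𝒥.map_ideal (U := ⟨j' ''ᵁ ⊤, isAffineOpen_chart j'⟩)
    (V := ⟨j ''ᵁ ⊤, isAffineOpen_chart j⟩) (chart_le θ j j' h)
  rw [← h1, Ideal.map_map]
  have h2 := cIso_square θ j j' h
  have h3 : (cIso j').hom.hom.comp (P.presheaf.map (homOfLE (chart_le θ j j' h)).op).hom =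
      θ.hom.comp (cIso j).hom.hom := by
    rw [← CommRingCat.hom_comp, ← CommRingCat.hom_comp, h2]
  exact congrArg (fun f => Ideal.map f _) h3

theorem map_injective_of_eq {X : Scheme.{u}} {V V' : X.Opens} (e : V' = V) (h : V' ≤ V) :
    Function.Injective (X.presheaf.map (homOfLE h).op).hom := by
  subst e
  have : X.presheaf.map (homOfLE h).op = 𝟙 _ := X.presheaf.map_id _
  rw [this]
  exact fun a b hab => hab

theorem appLE_eq_of_eq' {Z Q : Scheme.{u}} {a b : Z ⟶ Q} (h : a = b) (U : Q.Opens) (W : Z.Opens)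
    (e₁ : W ≤ a ⁻¹ᵁ U) (e₂ : W ≤ b ⁻¹ᵁ U) : a.appLE U W e₁ = b.appLE U W e₂ := by
  subst h; rfl

theorem cIso_square_hom {Q : Scheme.{u}} (h : Q ⟶ P) {R RB : CommRingCat.{u}} (θ : R ⟶ RB)
    (j : Spec R ⟶ P) [IsOpenImmersion j] (jB : Spec RB ⟶ Q) [IsOpenImmersion jB]
    (comm : jB ≫ h = Spec.map θ ≫ j) (hle : jB ''ᵁ ⊤ ≤ h ⁻¹ᵁ (j ''ᵁ ⊤)) :
    h.appLE (j ''ᵁ ⊤) (jB ''ᵁ ⊤) hle ≫ (cIso jB).hom = (cIso j).hom ≫ θ := by
  have e₁ : (⊤ : (Spec R).Opens) ≤ j ⁻¹ᵁ (j ''ᵁ ⊤) := (Scheme.Hom.preimage_image_eq j ⊤).ge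
  have e₂ : (⊤ : (Spec RB).Opens) ≤ (Spec.map θ ≫ j) ⁻¹ᵁ (j ''ᵁ ⊤) :=
    fun x _ => ⟨(Spec.map θ).base x, Set.mem_univ _, rfl⟩
  have e₃ : (⊤ : (Spec RB).Opens) ≤ jB ⁻¹ᵁ (jB ''ᵁ ⊤) := (Scheme.Hom.preimage_image_eq jB ⊤).ge
  have e₄ : (⊤ : (Spec RB).Opens) ≤ (jB ≫ h) ⁻¹ᵁ (j ''ᵁ ⊤) := by
    rw [comm]; exact e₂
  have h1 : (cIso jB).hom = jB.appLE (jB ''ᵁ ⊤) ⊤ e₃ ≫ (Scheme.ΓSpecIso RB).hom := by
    unfold cIso
    rw [Iso.trans_hom, Scheme.Hom.appIso_hom']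
  have h2 : (cIso j).hom = j.appLE (j ''ᵁ ⊤) ⊤ e₁ ≫ (Scheme.ΓSpecIso R).hom := by
    unfold cIso
    rw [Iso.trans_hom, Scheme.Hom.appIso_hom']
  rw [h1, h2, ← Category.assoc, Scheme.Hom.appLE_comp_appLE jB h (j ''ᵁ ⊤) (jB ''ᵁ ⊤) ⊤ hle e₃,
    appLE_eq_of_eq' comm (j ''ᵁ ⊤) ⊤ e₄ e₂]
  have h3 := Scheme.Hom.appLE_comp_appLE (Spec.map θ) j (j ''ᵁ ⊤) ⊤ ⊤ e₁ le_top
  have h4 : (Spec.map θ).appLE ⊤ ⊤ le_top = (Spec.map θ).appTop :=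
    Scheme.Hom.appLE_eq_app (f := Spec.map θ) (U := ⊤)
  rw [h4] at h3
  rw [← h3, Category.assoc, Category.assoc, Scheme.ΓSpecIso_naturality]

theorem cI_ker {Q : Scheme.{u}} (h : Q ⟶ P) [QuasiCompact h] {R RB : CommRingCat.{u}} (θ : R ⟶ RB)
    (j : Spec R ⟶ P) [IsOpenImmersion j] (jB : Spec RB ⟶ Q) [IsOpenImmersion jB]
    (comm : jB ≫ h = Spec.map θ ≫ j) (hpre : jB ''ᵁ ⊤ = h ⁻¹ᵁ (j ''ᵁ ⊤)) :
    cI h.ker j = RingHom.ker θ.hom := by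
  ext x
  rw [mem_cI, Scheme.Hom.ker_apply h ⟨j ''ᵁ ⊤, isAffineOpen_chart j⟩, RingHom.mem_ker,
    RingHom.mem_ker]
  have sq := cIso_square_hom h θ j jB comm hpre.le
  have hx : (cIso j).hom.hom ((cIso j).inv.hom x) = x := by
    rw [← CommRingCat.comp_apply, Iso.inv_hom_id]; rfl
  have key : (cIso jB).hom.hom ((h.appLE (j ''ᵁ ⊤) (jB ''ᵁ ⊤) hpre.le).hom ((cIso j).inv.hom x)) =
      θ.hom x := by
    have := congr($sq ((cIso j).inv.hom x))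
    rw [CommRingCat.comp_apply, CommRingCat.comp_apply, hx] at this
    exact this
  have hinj : Function.Injective (cIso jB).hom.hom :=
    (ConcreteCategory.bijective_of_isIso (cIso jB).hom).1
  have happ : (h.appLE (j ''ᵁ ⊤) (jB ''ᵁ ⊤) hpre.le).hom ((cIso j).inv.hom x) =
      (Q.presheaf.map (homOfLE hpre.le).op).hom ((h.app (j ''ᵁ ⊤)).hom ((cIso j).inv.hom x)) := by
    rw [Scheme.Hom.appLE]; rfl
  constructor
  · intro h0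
    rw [← key, happ]
    show (cIso jB).hom.hom ((Q.presheaf.map (homOfLE hpre.le).op).hom
      ((h.app (j ''ᵁ ⊤)).hom ((cIso j).inv.hom x))) = 0
    rw [h0, map_zero, map_zero]
  · intro h0
    rw [← key, happ] at h0
    have h1 := hinj (h0.trans (map_zero _).symm)
    exact map_injective_of_eq hpre hpre.le (h1.trans (map_zero _).symm)

theorem ideal_ext_of_charts (𝒥₁ 𝒥₂ : P.IdealSheafData) {ι : Type*} (R : ι → CommRingCat.{u})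
    (j : ∀ a, Spec (R a) ⟶ P) [∀ a, IsOpenImmersion (j a)]
    (hcov : ∀ z : P, ∃ a, z ∈ Set.range (j a).base)
    (h : ∀ a, cI 𝒥₁ (j a) = cI 𝒥₂ (j a)) : 𝒥₁ = 𝒥₂ := by
  refine Scheme.IdealSheafData.ext_of_iSup_eq_top
    (fun a : ι => ⟨j a ''ᵁ ⊤, isAffineOpen_chart (j a)⟩) ?_ ?_
  · rw [eq_top_iff]
    intro z _
    obtain ⟨a, w, hw⟩ := hcov z
    exact Opens.mem_iSup.mpr ⟨a, w, Set.mem_univ _, hw⟩
  · intro a
    have hsurj : Function.Surjective (cIso (j a)).inv.hom :=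
      (ConcreteCategory.bijective_of_isIso (cIso (j a)).inv).2
    exact Ideal.comap_injective_of_surjective _ hsurj (h a)

end

end Groth.Agent.H4.ClIm1
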