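import Mathlib

set_option autoImplicit false
set_option linter.style.haveILetI false
set_option linter.unusedSectionVars false
set_option linter.unusedVariables false

namespace Groth.Agent.H4.ClIm2

open CategoryTheory CategoryTheory.Limits AlgebraicGeometry TopologicalSpace Opposite
open DirectSum HomogeneousLocalization

universe u

noncomputable section

variable {A : Type u} [CommRing A] {𝒜 : ℕ → AddSubgroup A} [GradedRing 𝒜]

section AwayArith

variable {f : A} {d : ℕ} (hf : f ∈ 𝒜 d)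

lemma mk_add (n : ℕ) {x y : A} (hx : x ∈ 𝒜 (n • d)) (hy : y ∈ 𝒜 (n • d)) :
    Away.mk 𝒜 hf n (x + y) (add_mem hx hy) = Away.mk 𝒜 hf n x hx + Away.mk 𝒜 hf n y hy := by
  ext
  simp [Localization.add_mk_self]

lemma mk_zero (n : ℕ) : Away.mk 𝒜 hf n 0 (zero_mem _) = 0 := by
  ext
  simp [Localization.mk_zero]

lemma mk_mul (n m : ℕ) {x y : A} (hx : x ∈ 𝒜 (n • d)) (hy : y ∈ 𝒜 (m • d)) :
    Away.mk 𝒜 hf n x hx * Away.mk 𝒜 hf m y hy =
      Away.mk 𝒜 hf (n + m) (x * y) (by rw [add_smul]; exact SetLike.mul_mem_graded hx hy) := by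
  ext
  simp only [val_mul, Away.val_mk, Localization.mk_mul]
  congr 1
  ext
  simp [pow_add]

lemma mk_congr {n m : ℕ} (h : n = m) {x y : A} (hxy : x = y) (hx : x ∈ 𝒜 (n • d))
    (hy : y ∈ 𝒜 (m • d)) : Away.mk 𝒜 hf n x hx = Away.mk 𝒜 hf m y hy := by
  subst h; subst hxy; rfl

/-- cancel a power of `f` -/
lemma mk_pow_mul (N n : ℕ) {x : A} (hx : x ∈ 𝒜 (n • d))
    (hx' : f ^ N * x ∈ 𝒜 ((N + n) • d)) :
    Away.mk 𝒜 hf (N + n) (f ^ N * x) hx' = Away.mk 𝒜 hf n x hx := by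
  ext
  simp only [Away.val_mk]
  rw [Localization.mk_eq_mk_iff, Localization.r_iff_exists]
  exact ⟨1, by simp [pow_add]; ring⟩

end AwayArith

section Num

variable {f : A} (hf : f ∈ 𝒜 1)

lemma mem_smul_one {x : A} {d : ℕ} (hx : x ∈ 𝒜 d) : x ∈ 𝒜 (d • 1) := by
  rwa [smul_eq_mul, mul_one]

/-- `a ↦ a_d / f ^ d` -/
def num (d : ℕ) : A →+ Away 𝒜 f where
  toFun a := Away.mk 𝒜 hf d (decompose 𝒜 a d) (mem_smul_one (decompose 𝒜 a d).2)
  map_zero' := by
    rw [← mk_zero hf d]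
    exact mk_congr hf rfl (by simp) _ _
  map_add' a b := by
    rw [← mk_add]
    exact mk_congr hf rfl (by simp) _ _

lemma num_apply (d : ℕ) (a : A) :
    num hf d a = Away.mk 𝒜 hf d (decompose 𝒜 a d) (mem_smul_one (decompose 𝒜 a d).2) := rfl

lemma num_of_mem {d : ℕ} {a : A} (ha : a ∈ 𝒜 d) :
    num hf d a = Away.mk 𝒜 hf d a (mem_smul_one ha) := by
  rw [num_apply]
  exact mk_congr hf rfl (by rw [decompose_of_mem_same 𝒜 ha]) _ _

lemma num_of_mem_ne {d e : ℕ} {a : A} (ha : a ∈ 𝒜 e) (h : e ≠ d) : num hf d a = 0 := by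
  rw [num_apply, ← mk_zero hf d]
  exact mk_congr hf rfl (by rw [decompose_of_mem_ne 𝒜 ha h]) _ _

lemma num_mul_of_mem_of_le {d e : ℕ} {c : A} (hc : c ∈ 𝒜 e) (a : A) (h : e ≤ d) :
    num hf d (c * a) = num hf e c * num hf (d - e) a := by
  rw [num_of_mem hf hc, num_apply, num_apply, mk_mul]
  refine mk_congr hf (by omega) ?_ _ _
  rw [DirectSum.coe_decompose_mul_of_left_mem_of_le 𝒜 hc h]

lemma num_mul_of_mem_of_not_le {d e : ℕ} {c : A} (hc : c ∈ 𝒜 e) (a : A) (h : ¬ e ≤ d) :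
    num hf d (c * a) = 0 := by
  rw [num_apply, ← mk_zero hf d]
  refine mk_congr hf rfl ?_ _ _
  rw [DirectSum.coe_decompose_mul_of_left_mem_of_not_le 𝒜 hc h]

lemma exists_num_eq (x : Away 𝒜 f) : ∃ (n : ℕ) (a : A), a ∈ 𝒜 n ∧ num hf n a = x := by
  obtain ⟨n, a, ha, rfl⟩ := Away.mk_surjective 𝒜 hf x
  have ha' : a ∈ 𝒜 n := by rwa [smul_eq_mul, mul_one] at ha
  exact ⟨n, a, ha', num_of_mem hf ha'⟩

/-- `f ^ N * a / f ^ (N + n) = a / f ^ n` -/
lemma num_pow_mul (N : ℕ) {n : ℕ} {a : A} (ha : a ∈ 𝒜 n) :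
    num hf (N + n) (f ^ N * a) = num hf n a := by
  have h1 : f ^ N * a ∈ 𝒜 (N + n) := by
    have := SetLike.mul_mem_graded (SetLike.pow_mem_graded N hf) ha
    rwa [smul_eq_mul, mul_one] at this
  rw [num_of_mem hf h1, num_of_mem hf ha]
  exact mk_pow_mul hf N n _ _

lemma num_self : num hf 1 f = 1 := by
  rw [num_of_mem hf hf]
  ext
  simp only [Away.val_mk, val_one]
  rw [← Localization.mk_one, Localization.mk_eq_mk_iff, Localization.r_iff_exists]
  exact ⟨1, by simp⟩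

lemma num_zero_mul {c : A} (hc : c ∈ 𝒜 0) (n : ℕ) (a : A) :
    num hf n (c * a) = num hf 0 c * num hf n a := by
  rw [num_mul_of_mem_of_le hf hc a (Nat.zero_le n), Nat.sub_zero]

end Num

section Loc

/-- the map `A_(g) → A_(fg)` -/
abbrev mapR {f : A} (hf : f ∈ 𝒜 1) (g : A) : Away 𝒜 g →+* Away 𝒜 (f * g) :=
  awayMap 𝒜 hf (mul_comm f g)

/-- the map `A_(f) → A_(fg)` -/
abbrev mapL (f : A) {g : A} (hg : g ∈ 𝒜 1) : Away 𝒜 f →+* Away 𝒜 (f * g) :=
  awayMap 𝒜 hg rfl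

variable {f g : A} (hf : f ∈ 𝒜 1) (hg : g ∈ 𝒜 1)

lemma mapR_num_eq {n : ℕ} {a : A} (ha : a ∈ 𝒜 n) :
    mapR hf g (num hg n a) = mapL f hg (num hf n a) *
      Away.mk 𝒜 (SetLike.mul_mem_graded hf hg) n (f ^ (2 * n))
        (by
          have := SetLike.pow_mem_graded (2 * n) hf
          rw [smul_eq_mul, mul_one] at this
          rwa [smul_eq_mul, mul_comm]) := by
  rw [num_of_mem hg ha, num_of_mem hf ha, mapR, mapL, awayMap_mk, awayMap_mk]
  ext
  simp only [val_mul, Away.val_mk, Localization.mk_mul]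
  rw [Localization.mk_eq_mk_iff, Localization.r_iff_exists]
  refine ⟨1, ?_⟩
  simp only [OneMemClass.coe_one, one_mul, Submonoid.coe_mul]
  ring

lemma pow_mul_num {n : ℕ} {a : A} (ha : a ∈ 𝒜 n) (N : ℕ) :
    (Away.isLocalizationElem hg hf) ^ N * num hg n a = num hg (N + n) (f ^ N * a) := by
  have h1 : f ^ N * a ∈ 𝒜 (N + n) := by
    have := SetLike.mul_mem_graded (SetLike.pow_mem_graded N hf) ha
    rwa [smul_eq_mul, mul_one] at this
  rw [num_of_mem hg ha, num_of_mem hg h1]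
  ext
  simp only [val_mul, val_pow, Away.val_mk, Localization.mk_pow, Localization.mk_mul]
  rw [Localization.mk_eq_mk_iff, Localization.r_iff_exists]
  refine ⟨1, ?_⟩
  simp only [OneMemClass.coe_one, one_mul, Submonoid.coe_mul, SubmonoidClass.coe_pow]
  ring

lemma exists_pow_mul_mem (J : Ideal (Away 𝒜 g)) (y : Away 𝒜 g)
    (h : mapR hf g y ∈ J.map (mapR hf g)) :
    ∃ N : ℕ, (Away.isLocalizationElem hg hf) ^ N * y ∈ J := by
  letI := (awayMap 𝒜 hf (mul_comm f g)).toAlgebra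
  haveI : IsLocalization.Away (Away.isLocalizationElem hg hf) (Away 𝒜 (f * g)) :=
    Away.isLocalization_mul hg hf (mul_comm f g) one_ne_zero
  have h' : algebraMap (Away 𝒜 g) (Away 𝒜 (f * g)) y ∈
      J.map (algebraMap (Away 𝒜 g) (Away 𝒜 (f * g))) := h
  rw [IsLocalization.algebraMap_mem_map_algebraMap_iff
    (Submonoid.powers (Away.isLocalizationElem hg hf))] at h'
  obtain ⟨m, ⟨N, rfl⟩, hm⟩ := h'
  exact ⟨N, hm⟩

lemma transfer (Jf : Ideal (Away 𝒜 f)) (Jg : Ideal (Away 𝒜 g))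
    (h : Jf.map (mapL f hg) = Jg.map (mapR hf g)) {n : ℕ} {a : A} (ha : a ∈ 𝒜 n)
    (hmem : num hf n a ∈ Jf) : ∃ N : ℕ, num hg (N + n) (f ^ N * a) ∈ Jg := by
  have h1 : mapR hf g (num hg n a) ∈ Jg.map (mapR hf g) := by
    rw [mapR_num_eq hf hg ha, ← h]
    exact Ideal.mul_mem_right _ _ (Ideal.mem_map_of_mem _ hmem)
  obtain ⟨N, hN⟩ := exists_pow_mul_mem hf hg Jg _ h1
  exact ⟨N, by rwa [pow_mul_num hf hg ha] at hN⟩

lemma isLocalizationElem_eq : Away.isLocalizationElem hg hf = num hg 1 f := by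
  rw [num_of_mem hg hf]
  exact mk_congr hg rfl (pow_one f) _ _

/-- linear combinations: if `g = ∑ c_t t` with `c_t` of degree `0` and `a / g^n` becomes a member of
`Jg` after multiplication by powers of all `t / g`, it is a member. -/
lemma num_mem_of_sum (Jg : Ideal (Away 𝒜 g)) (T : Finset A) (hT : ∀ t ∈ T, t ∈ 𝒜 1)
    (c : A → A) (hc : ∀ t ∈ T, c t ∈ 𝒜 0) (hsum : g = ∑ t ∈ T, c t * t)
    {n : ℕ} {a : A} (ha : a ∈ 𝒜 n)
    (h : ∀ t ∈ T, ∃ N : ℕ, num hg (N + n) (t ^ N * a) ∈ Jg) : num hg n a ∈ Jg := by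
  classical
  have hspan : Ideal.span ((fun t => num hg 1 t) '' (T : Set A)) = ⊤ := by
    have h1 : num hg 1 g = ∑ t ∈ T, num hg 1 (c t * t) :=
      (congrArg (num hg 1) hsum).trans (map_sum _ _ _)
    rw [Ideal.eq_top_iff_one, ← num_self hg, h1]
    refine Ideal.sum_mem _ fun t ht => ?_
    rw [num_zero_mul hg (hc t ht)]
    exact Ideal.mul_mem_left _ _ (Ideal.subset_span ⟨t, ht, rfl⟩)
  refine Submodule.mem_of_span_eq_top_of_smul_pow_mem Jg _ hspan _ ?_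
  rintro ⟨_, t, ht, rfl⟩
  obtain ⟨N, hN⟩ := h t ht
  refine ⟨N, ?_⟩
  show num hg 1 t ^ N • num hg n a ∈ Jg
  rw [smul_eq_mul, ← isLocalizationElem_eq (hT t ht) hg, pow_mul_num (hT t ht) hg ha]
  exact hN

end Loc

end

end Groth.Agent.H4.ClIm2
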