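import Mathlib
import Groth.Prelude.Def_RelProj
import Groth.Agent.H4.ProjG
import Groth.Agent.Lib.Helper1.ProjBC

set_option autoImplicit false
universe u
open CategoryTheory CategoryTheory.Limits AlgebraicGeometry Opposite TopologicalSpace
open scoped HomogeneousIdeal

namespace Groth.Agent.H4.RelProjEx

open Groth.Agent.H4

section PartA
open HomogeneousLocalization DirectSum

variable {A B σ τ : Type u} [CommRing A] [SetLike σ A] [AddSubgroupClass σ A]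
  [CommRing B] [SetLike τ B] [AddSubgroupClass τ B]
  {𝒜 : ℕ → σ} {ℬ : ℕ → τ} [GradedRing 𝒜] [GradedRing ℬ]
  (φ : 𝒜 →+*ᵍ ℬ) (hφ : ℬ₊ ≤ 𝒜₊.map φ)

lemma projMap_congr {f f' : 𝒜 →+*ᵍ ℬ} (h : f = f') (hf : ℬ₊ ≤ 𝒜₊.map f) (hf' : ℬ₊ ≤ 𝒜₊.map f') :
    Proj.map f hf = Proj.map f' hf' := by
  subst h; rfl

lemma val_fromZero (f : B) (c₁ : ℬ 0) :
    (fromZeroRingHom ℬ (Submonoid.powers f) c₁).val = Localization.mk (c₁ : B) 1 := rfl

lemma zero_pow_mul_mem (c₁ : ℬ 0) (k : ℕ) {m : ℕ} {b : B} (hb : b ∈ ℬ m) :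
    (c₁ : B) ^ k * b ∈ ℬ m := by
  have h1 : (c₁ : B) ^ k ∈ ℬ (k • 0) := SetLike.pow_mem_graded k c₁.2
  have h2 := SetLike.mul_mem_graded h1 hb
  simpa using h2

lemma awayMk_congr {f : B} {d : ℕ} (hf : f ∈ ℬ d) (n : ℕ) {x y : B} (h : x = y)
    (hx : x ∈ ℬ (n • d)) (hy : y ∈ ℬ (n • d)) :
    Away.mk ℬ hf n x hx = Away.mk ℬ hf n y hy := by
  subst h; rfl

lemma fromZero_pow_mul_mk {f : B} {d : ℕ} (hf : f ∈ ℬ d) (c₁ : ℬ 0) (k n : ℕ) (b : B)
    (hb : b ∈ ℬ (n • d)) (hb' : (c₁ : B) ^ k * b ∈ ℬ (n • d)) :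
    fromZeroRingHom ℬ (Submonoid.powers f) c₁ ^ k * Away.mk ℬ hf n b hb =
      Away.mk ℬ hf n ((c₁ : B) ^ k * b) hb' := by
  apply HomogeneousLocalization.val_injective
  rw [HomogeneousLocalization.val_mul, HomogeneousLocalization.val_pow, Away.val_mk, Away.val_mk,
    val_fromZero, Localization.mk_pow, Localization.mk_mul, one_pow, one_mul]

theorem isLocalization_awayMap (c₀ : 𝒜 0) (u : B) (hu : u ∈ ℬ 0) (hcu : φ (c₀ : A) * u = 1)
    (hsurj : ∀ b : B, ∃ (a : A) (k : ℕ), φ (c₀ : A) ^ k * b = φ a)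
    (hker : ∀ a : A, φ a = 0 → ∃ k : ℕ, (c₀ : A) ^ k * a = 0)
    {d : ℕ} (s : A) (hs : s ∈ 𝒜 d) :
    @IsLocalization.Away (Away 𝒜 s) _ (fromZeroRingHom 𝒜 (Submonoid.powers s) c₀)
      (Away ℬ (φ s)) _ (Away.map φ s).toAlgebra := by
  letI : Algebra (Away 𝒜 s) (Away ℬ (φ s)) := (Away.map φ s).toAlgebra
  have hφs : φ s ∈ ℬ d := φ.2 hs
  have hc₀ : Away.map φ s (fromZeroRingHom 𝒜 (Submonoid.powers s) c₀) =
      fromZeroRingHom ℬ (Submonoid.powers (φ s)) (ProjG.zeroHom φ c₀) :=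
    RingHom.congr_fun (ProjG.awayMap_comp_fromZeroRingHom φ s) c₀
  refine (isLocalization_iff _ _).mpr ⟨?_, ?_, ?_⟩
  · rintro ⟨_, k, rfl⟩
    change IsUnit (Away.map φ s (fromZeroRingHom 𝒜 (Submonoid.powers s) c₀ ^ k))
    rw [map_pow, hc₀]
    refine IsUnit.pow k (isUnit_iff_exists_inv.mpr
      ⟨fromZeroRingHom ℬ (Submonoid.powers (φ s)) ⟨u, hu⟩, ?_⟩)
    rw [← map_mul]
    have h1 : ProjG.zeroHom φ c₀ * (⟨u, hu⟩ : ℬ 0) = 1 := Subtype.ext hcu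
    rw [h1, map_one]
  · intro z
    obtain ⟨n, b, hb, rfl⟩ := Away.mk_surjective ℬ hφs z
    obtain ⟨a, k, hak⟩ := hsurj b
    have hbk : φ (c₀ : A) ^ k * b ∈ ℬ (n • d) := zero_pow_mul_mem (ProjG.zeroHom φ c₀) k hb
    have ha' : φ (decompose 𝒜 a (n • d) : A) = φ (c₀ : A) ^ k * b := by
      rw [GradedRingHom.map_directSumDecompose, ← hak, decompose_of_mem_same _ hbk]
    refine ⟨(Away.mk 𝒜 hs n (decompose 𝒜 a (n • d) : A) (SetLike.coe_mem _),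
      ⟨fromZeroRingHom 𝒜 (Submonoid.powers s) c₀ ^ k, k, rfl⟩), ?_⟩
    change Away.mk ℬ hφs n b hb *
        Away.map φ s (fromZeroRingHom 𝒜 (Submonoid.powers s) c₀ ^ k) =
      Away.map φ s (Away.mk 𝒜 hs n (decompose 𝒜 a (n • d) : A) (SetLike.coe_mem _))
    rw [map_pow, hc₀, mul_comm, fromZero_pow_mul_mk hφs (ProjG.zeroHom φ c₀) k n b hb hbk,
      Away.map_mk]
    exact awayMk_congr _ _ ha'.symm _ _
  · intro x y hxy
    have hw : Away.map φ s (x - y) = 0 := by rw [map_sub]; exact sub_eq_zero.mpr hxy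
    obtain ⟨n, a, ha, hxa⟩ := Away.mk_surjective 𝒜 hs (x - y)
    rw [← hxa, Away.map_mk] at hw
    have h1 := congrArg HomogeneousLocalization.val hw
    rw [Away.val_mk, HomogeneousLocalization.val_zero, Localization.mk_eq_mk',
      IsLocalization.mk'_eq_zero_iff] at h1
    obtain ⟨⟨_, m, rfl⟩, hm⟩ := h1
    have h2 : φ (s ^ m * a) = 0 := by rw [map_mul, map_pow]; exact hm
    obtain ⟨k, hk⟩ := hker _ h2
    refine ⟨⟨fromZeroRingHom 𝒜 (Submonoid.powers s) c₀ ^ k, k, rfl⟩, ?_⟩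
    have h3 : fromZeroRingHom 𝒜 (Submonoid.powers s) c₀ ^ k * (x - y) = 0 := by
      rw [← hxa, fromZero_pow_mul_mk hs c₀ k n a ha (zero_pow_mul_mem c₀ k ha)]
      apply HomogeneousLocalization.val_injective
      rw [Away.val_mk, HomogeneousLocalization.val_zero, Localization.mk_eq_mk',
        IsLocalization.mk'_eq_zero_iff]
      refine ⟨⟨s ^ m, m, rfl⟩, ?_⟩
      change s ^ m * ((c₀ : A) ^ k * a) = 0
      rw [mul_left_comm]; exact hk
    change fromZeroRingHom 𝒜 (Submonoid.powers s) c₀ ^ k * x =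
      fromZeroRingHom 𝒜 (Submonoid.powers s) c₀ ^ k * y
    rw [mul_sub] at h3
    exact sub_eq_zero.mp h3

variable {R' R : CommRingCat.{u}} (θ : R' ⟶ R)
    (α : R' ⟶ CommRingCat.of (𝒜 0)) (β : R ⟶ CommRingCat.of (ℬ 0))
    (hαβ : α ≫ CommRingCat.ofHom (ProjG.zeroHom φ) = θ ≫ β) (r : R')
    (hloc : @IsLocalization.Away R' _ r R _ θ.hom.toAlgebra)
    (u : B) (hu : u ∈ ℬ 0) (hcu : φ ((α.hom r : 𝒜 0) : A) * u = 1)
    (hsurj : ∀ b : B, ∃ (a : A) (k : ℕ), φ ((α.hom r : 𝒜 0) : A) ^ k * b = φ a)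
    (hker : ∀ a : A, φ a = 0 → ∃ k : ℕ, ((α.hom r : 𝒜 0) : A) ^ k * a = 0)

include hαβ hloc hu hcu hsurj hker in
theorem h2_aux {d : ℕ} (hd : 0 < d) (s : A) (hs : s ∈ 𝒜 d) :
    IsPullback (Spec.map (CommRingCat.ofHom (Away.map φ s)))
      (Proj.awayι ℬ (φ s) (φ.2 hs) hd ≫ Proj.toSpecZero ℬ ≫ Spec.map β)
      (Proj.awayι 𝒜 s hs hd ≫ Proj.toSpecZero 𝒜 ≫ Spec.map α) (Spec.map θ) := by
  rw [Proj.awayι_toSpecZero_assoc, Proj.awayι_toSpecZero_assoc, ← Spec.map_comp, ← Spec.map_comp]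
  letI : Algebra R' R := θ.hom.toAlgebra
  haveI : IsLocalization.Away r R := hloc
  haveI h1 : IsOpenImmersion (Spec.map θ) := IsOpenImmersion.of_isLocalization (S := R) r
  letI : Algebra (Away 𝒜 s) (Away ℬ (φ s)) := (Away.map φ s).toAlgebra
  haveI hA : IsLocalization.Away (fromZeroRingHom 𝒜 (Submonoid.powers s) (α.hom r))
      (Away ℬ (φ s)) := isLocalization_awayMap φ (α.hom r) u hu hcu hsurj hker s hs
  haveI h2 : IsOpenImmersion (Spec.map (CommRingCat.ofHom (Away.map φ s))) :=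
    IsOpenImmersion.of_isLocalization (S := Away ℬ (φ s))
      (fromZeroRingHom 𝒜 (Submonoid.powers s) (α.hom r))
  refine (IsOpenImmersion.isPullback _ _ _ _ ?_ ?_).flip
  · rw [← Spec.map_comp, ← Spec.map_comp]
    congr 1
    rw [Category.assoc, ← CommRingCat.ofHom_comp, ProjG.awayMap_comp_fromZeroRingHom,
      CommRingCat.ofHom_comp, ← Category.assoc, hαβ, Category.assoc]
  · have e1 : (Spec.map θ).opensRange = PrimeSpectrum.basicOpen r :=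
      TopologicalSpace.Opens.ext (PrimeSpectrum.localization_away_comap_range R r)
    have e2 : (Spec.map (CommRingCat.ofHom (Away.map φ s))).opensRange =
        PrimeSpectrum.basicOpen (fromZeroRingHom 𝒜 (Submonoid.powers s) (α.hom r)) :=
      TopologicalSpace.Opens.ext
        (PrimeSpectrum.localization_away_comap_range (Away ℬ (φ s)) _)
    rw [e1, e2]
    rfl

include hαβ hloc hu hcu hsurj hker in
theorem isPullback_projMap_loc :
    IsPullback (Proj.map φ hφ) (Proj.toSpecZero ℬ ≫ Spec.map β)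
      (Proj.toSpecZero 𝒜 ≫ Spec.map α) (Spec.map θ) := by
  refine Groth.Agent.H1.ProjBC.isPullback_of_openCover _ _ _ _ ?_
    (Proj.affineOpenCover 𝒜).openCover
    (fun i => Spec (.of (Away ℬ (φ i.2.1))))
    (fun i => Spec.map (CommRingCat.ofHom (Away.map φ i.2.1)))
    (fun i => Proj.awayι ℬ (φ i.2.1) (φ.2 i.2.2) i.1.2)
    (fun i => ProjG.isPullback_awayι_map φ hφ i.1.2 i.2.1 i.2.2) ?_
  · rw [← Category.assoc, ProjG.map_toSpecZero φ hφ, Category.assoc, Category.assoc,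
      ← Spec.map_comp, ← Spec.map_comp, hαβ]
  · intro i
    exact h2_aux φ θ α β hαβ r hloc u hu hcu hsurj hker i.1.2 i.2.1 i.2.2

end PartA

section PartC

variable {Y : Scheme.{u}} (𝒮 : RelProj.QCGrAlg Y)

/-- the structure morphism `Proj 𝒮(U) ⟶ U` over an affine open. -/
noncomputable def nat (U : Y.Opens) (hU : IsAffineOpen U) :
    Proj (𝒮.deg U hU) ⟶ (U : Scheme.{u}) :=
  Proj.toSpecZero (𝒮.deg U hU) ≫ Spec.map (𝒮.strZero U hU) ≫ hU.isoSpec.inv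

lemma nat_ι (U : Y.Opens) (hU : IsAffineOpen U) :
    nat 𝒮 U hU ≫ U.ι =
      Proj.toSpecZero (𝒮.deg U hU) ≫ Spec.map (𝒮.strZero U hU) ≫ hU.fromSpec := by
  simp only [nat, Category.assoc, IsAffineOpen.isoSpec_inv_ι]

theorem isPullback_res (U : Y.Opens) (hU : IsAffineOpen U) (r : Γ(Y, U)) :
    IsPullback
      (Proj.map (𝒮.res hU (hU.basicOpen r) (Y.basicOpen_le r)) (𝒮.irrelevant_le_map U hU r))
      (nat 𝒮 (Y.basicOpen r) (hU.basicOpen r)) (nat 𝒮 U hU)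
      (Y.homOfLE (Y.basicOpen_le r)) := by
  obtain ⟨θ, hθ⟩ : ∃ θ : Γ(Y, U) ⟶ Γ(Y, Y.basicOpen r),
      θ = Y.presheaf.map (homOfLE (Y.basicOpen_le r)).op := ⟨_, rfl⟩
  have hnat : ∀ x : Γ(Y, U), (𝒮.res hU (hU.basicOpen r) (Y.basicOpen_le r))
      ((𝒮.str.app (op U)).hom x) = (𝒮.str.app (op (Y.basicOpen r))).hom (θ.hom x) := by
    intro x
    have := congrArg (fun f => f.hom x) (𝒮.str.naturality (homOfLE (Y.basicOpen_le r)).op)
    rw [hθ]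
    exact this.symm
  have hαβ : 𝒮.strZero U hU ≫
      CommRingCat.ofHom (ProjG.zeroHom (𝒮.res hU (hU.basicOpen r) (Y.basicOpen_le r))) =
      θ ≫ 𝒮.strZero (Y.basicOpen r) (hU.basicOpen r) := by
    ext x
    exact hnat x
  have hloc : @IsLocalization.Away Γ(Y, U) _ r Γ(Y, Y.basicOpen r) _ θ.hom.toAlgebra := by
    rw [hθ]
    exact hU.isLocalization_basicOpen r
  have hunit : IsUnit (θ.hom r) :=
    @IsLocalization.map_units _ _ (Submonoid.powers r) _ _ θ.hom.toAlgebra hloc ⟨r, 1, pow_one r⟩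
  obtain ⟨v, hv⟩ := hunit
  obtain ⟨c, hc⟩ : ∃ c, c = (𝒮.str.app (op U)).hom r := ⟨_, rfl⟩
  letI _inst : Algebra (𝒮.presheaf.obj (op U)) (𝒮.presheaf.obj (op (Y.basicOpen r))) :=
    (𝒮.presheaf.map (homOfLE (Y.basicOpen_le r)).op).hom.toAlgebra
  have hlocS : IsLocalization.Away c (𝒮.presheaf.obj (op (Y.basicOpen r))) := by
    rw [hc]; exact 𝒮.isQC U hU r
  have hcu : (𝒮.res hU (hU.basicOpen r) (Y.basicOpen_le r)) ((𝒮.str.app (op U)).hom r) *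
      (𝒮.str.app (op (Y.basicOpen r))).hom (↑v⁻¹ : Γ(Y, Y.basicOpen r)) = 1 := by
    rw [hnat, ← map_mul, ← hv, Units.mul_inv, map_one]
  have hsurj : ∀ b : 𝒮.presheaf.obj (op (Y.basicOpen r)),
      ∃ (a : 𝒮.presheaf.obj (op U)) (k : ℕ),
        (𝒮.res hU (hU.basicOpen r) (Y.basicOpen_le r)) ((𝒮.str.app (op U)).hom r) ^ k * b =
          (𝒮.res hU (hU.basicOpen r) (Y.basicOpen_le r)) a := by
    intro b
    obtain ⟨⟨x, s, hs⟩, hxs⟩ := IsLocalization.surj (Submonoid.powers c) b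
    obtain ⟨k, rfl⟩ := (Submonoid.mem_powers_iff _ _).mp hs
    change b * (𝒮.res hU (hU.basicOpen r) (Y.basicOpen_le r)) (c ^ k) =
      (𝒮.res hU (hU.basicOpen r) (Y.basicOpen_le r)) x at hxs
    refine ⟨x, k, ?_⟩
    rw [← hc, ← map_pow, mul_comm]
    exact hxs
  have hker : ∀ a : 𝒮.presheaf.obj (op U),
      (𝒮.res hU (hU.basicOpen r) (Y.basicOpen_le r)) a = 0 →
        ∃ k : ℕ, ((𝒮.str.app (op U)).hom r) ^ k * a = 0 := by
    intro a ha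
    obtain ⟨⟨_, k, rfl⟩, hm⟩ := (IsLocalization.map_eq_zero_iff (Submonoid.powers c)
      (𝒮.presheaf.obj (op (Y.basicOpen r))) a).mp ha
    refine ⟨k, ?_⟩
    rw [← hc]
    exact hm
  have hB := isPullback_projMap_loc (𝒮.res hU (hU.basicOpen r) (Y.basicOpen_le r))
    (𝒮.irrelevant_le_map U hU r) θ (𝒮.strZero U hU)
    (𝒮.strZero (Y.basicOpen r) (hU.basicOpen r)) hαβ r hloc
    ((𝒮.str.app (op (Y.basicOpen r))).hom (↑v⁻¹ : Γ(Y, Y.basicOpen r)))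
    (𝒮.str_mem _ _ _) hcu hsurj hker
  have hbot : IsPullback (Spec.map θ) (hU.basicOpen r).isoSpec.inv hU.isoSpec.inv
      (Y.homOfLE (Y.basicOpen_le r)) := by
    refine IsPullback.of_vert_isIso ⟨?_⟩
    rw [← cancel_mono U.ι, Category.assoc, Category.assoc, IsAffineOpen.isoSpec_inv_ι,
      Scheme.homOfLE_ι, IsAffineOpen.isoSpec_inv_ι, hθ]
    exact hU.map_fromSpec (hU.basicOpen r) (homOfLE (Y.basicOpen_le r)).op
  have := hB.paste_vert hbot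
  simpa only [nat, Category.assoc] using this

lemma irr_le {U V : Y.Opens} (hU : IsAffineOpen U) (hV : IsAffineOpen V) (i : V ≤ U)
    (h : ∃ r : Γ(Y, U), Y.basicOpen r = V) :
    (𝒮.deg V hV)₊ ≤ ((𝒮.deg U hU)₊).map (𝒮.res hU hV i) := by
  obtain ⟨r, rfl⟩ := h
  exact 𝒮.irrelevant_le_map U hU r

lemma res_self (U : Y.Opens) (hU : IsAffineOpen U) :
    𝒮.res hU hU le_rfl = GradedRingHom.id (𝒮.deg U hU) := by
  ext x
  change (𝒮.presheaf.map (homOfLE (le_refl U)).op).hom x = x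
  have h : (homOfLE (le_refl U)).op = 𝟙 (op U) := rfl
  rw [h, 𝒮.presheaf.map_id]
  rfl

lemma res_comp {U V W : Y.Opens} (hU : IsAffineOpen U) (hV : IsAffineOpen V)
    (hW : IsAffineOpen W) (i : W ≤ V) (j : V ≤ U) :
    𝒮.res hU hW (i.trans j) = (𝒮.res hV hW i).comp (𝒮.res hU hV j) := by
  ext x
  change (𝒮.presheaf.map (homOfLE (i.trans j)).op).hom x =
    (𝒮.presheaf.map (homOfLE i).op).hom ((𝒮.presheaf.map (homOfLE j).op).hom x)
  have h : (homOfLE (i.trans j)).op = (homOfLE j).op ≫ (homOfLE i).op := rfl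
  rw [h, 𝒮.presheaf.map_comp]
  rfl

/-- the functor `U ↦ Proj 𝒮(U)` on the small affine Zariski site. -/
noncomputable def F : Y.AffineZariskiSite ⥤ Scheme.{u} where
  obj U := Proj (𝒮.deg U.1 U.2)
  map {V U} i := Proj.map (𝒮.res U.2 V.2 (Scheme.AffineZariskiSite.toOpens_mono i.le))
    (irr_le 𝒮 U.2 V.2 _ i.le)
  map_id U := (projMap_congr (res_self 𝒮 U.1 U.2) _ _).trans Proj.map_id
  map_comp {W V U} i j :=
    (projMap_congr (res_comp 𝒮 U.2 V.2 W.2 (Scheme.AffineZariskiSite.toOpens_mono i.le)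
      (Scheme.AffineZariskiSite.toOpens_mono j.le)) _ _).trans (Proj.map_comp _ _ _ _)

lemma isPullback_all {V U : Y.AffineZariskiSite} (i : V ⟶ U) :
    IsPullback ((F 𝒮).map i) (nat 𝒮 V.1 V.2) (nat 𝒮 U.1 U.2)
      ((Scheme.AffineZariskiSite.directedCover Y).functorOfLocallyDirected.map i) := by
  obtain ⟨V1, hV⟩ := V
  obtain ⟨U1, hU⟩ := U
  obtain ⟨r, rfl⟩ := i.le
  exact isPullback_res 𝒮 U1 hU r

noncomputable def natTr :
    F 𝒮 ⟶ (Scheme.AffineZariskiSite.directedCover Y).functorOfLocallyDirected where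
  app U := nat 𝒮 U.1 U.2
  naturality _ _ i := (isPullback_all 𝒮 i).w

noncomputable def gd : (Scheme.AffineZariskiSite.directedCover Y).RelativeGluingData where
  functor := F 𝒮
  natTrans := natTr 𝒮
  equifibered := fun _ _ i => isPullback_all 𝒮 i

instance : ((gd 𝒮).functor ⋙ Scheme.forget).IsLocallyDirected :=
  Scheme.Cover.RelativeGluingData.instIsLocallyDirectedI₀CompFunctorForgetOfIsThin ..

noncomputable def chart' (W : Y.AffineZariskiSite) :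
    ((((gd 𝒮).toBase ⁻¹ᵁ W.1 : (gd 𝒮).glued.Opens) : Scheme.{u}) ≅ (gd 𝒮).functor.obj W) :=
  (isPullback_morphismRestrict (gd 𝒮).toBase W.1).isoIsPullback _ _
    ((gd 𝒮).isPullback_natTrans_ι_toBase W)

lemma chart'_hom_nat (W : Y.AffineZariskiSite) :
    (chart' 𝒮 W).hom ≫ (gd 𝒮).natTrans.app W = (gd 𝒮).toBase ∣_ W.1 :=
  IsPullback.isoIsPullback_hom_fst _ _ _ _

lemma chart'_hom_ι (W : Y.AffineZariskiSite) :
    (chart' 𝒮 W).hom ≫ colimit.ι (gd 𝒮).functor W = ((gd 𝒮).toBase ⁻¹ᵁ W.1).ι :=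
  IsPullback.isoIsPullback_hom_snd _ _ _ _

lemma chart'_over (W : Y.AffineZariskiSite) :
    (chart' 𝒮 W).hom ≫ (gd 𝒮).natTrans.app W ≫ (Scheme.AffineZariskiSite.directedCover Y).f W =
      ((gd 𝒮).toBase ⁻¹ᵁ W.1).ι ≫ (gd 𝒮).toBase := by
  rw [← Category.assoc, chart'_hom_nat]
  exact morphismRestrict_ι _ _

lemma chart'_res {W' W : Y.AffineZariskiSite} (i : W' ⟶ W)
    (h : (gd 𝒮).toBase ⁻¹ᵁ W'.1 ≤ (gd 𝒮).toBase ⁻¹ᵁ W.1) :
    (gd 𝒮).glued.homOfLE h ≫ (chart' 𝒮 W).hom = (chart' 𝒮 W').hom ≫ (gd 𝒮).functor.map i := by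
  refine (cancel_mono (colimit.ι (gd 𝒮).functor W)).mp ?_
  calc ((gd 𝒮).glued.homOfLE h ≫ (chart' 𝒮 W).hom) ≫ colimit.ι (gd 𝒮).functor W
      = (gd 𝒮).glued.homOfLE h ≫ ((chart' 𝒮 W).hom ≫ colimit.ι (gd 𝒮).functor W) :=
        Category.assoc _ _ _
    _ = (gd 𝒮).glued.homOfLE h ≫ ((gd 𝒮).toBase ⁻¹ᵁ W.1).ι := by rw [chart'_hom_ι]
    _ = ((gd 𝒮).toBase ⁻¹ᵁ W'.1).ι := Scheme.homOfLE_ι _ h
    _ = (chart' 𝒮 W').hom ≫ colimit.ι (gd 𝒮).functor W' := (chart'_hom_ι 𝒮 W').symm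
    _ = (chart' 𝒮 W').hom ≫ ((gd 𝒮).functor.map i ≫ colimit.ι (gd 𝒮).functor W) := by
        rw [colimit.w]
    _ = ((chart' 𝒮 W').hom ≫ (gd 𝒮).functor.map i) ≫ colimit.ι (gd 𝒮).functor W :=
        (Category.assoc _ _ _).symm

theorem main_S8258 :
    ∃ (P : Scheme.{u}) (p : P ⟶ Y)
      (chart : ∀ (U : Y.Opens) (hU : IsAffineOpen U),
        (((p ⁻¹ᵁ U : P.Opens) : Scheme.{u}) ≅ Proj (𝒮.deg U hU))),
      RelProj.IsRelProj 𝒮 p chart := by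
  refine ⟨(gd 𝒮).glued, (gd 𝒮).toBase, fun U hU => chart' 𝒮 ⟨U, hU⟩, ⟨?_, ?_⟩⟩
  · intro U hU
    have h := chart'_over 𝒮 ⟨U, hU⟩
    have h2 : (gd 𝒮).natTrans.app ⟨U, hU⟩ ≫ (Scheme.AffineZariskiSite.directedCover Y).f ⟨U, hU⟩ =
        Proj.toSpecZero (𝒮.deg U hU) ≫ Spec.map (𝒮.strZero U hU) ≫ hU.fromSpec := nat_ι 𝒮 U hU
    exact (congrArg (fun t => (chart' 𝒮 ⟨U, hU⟩).hom ≫ t) h2).symm.trans h
  · intro U hU r
    exact chart'_res 𝒮
      (homOfLE (Scheme.AffineZariskiSite.basicOpen_le (⟨U, hU⟩ : Y.AffineZariskiSite) r)) _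

end PartC

end Groth.Agent.H4.RelProjEx
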