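import Mathlib
import Groth.Prelude.Def_RelProj4
import Groth.Agent.H4.ClIm1
import Groth.Agent.H4.ClIm2
import Groth.Agent.H4.RelProjEx

set_option autoImplicit false
set_option linter.style.haveILetI false
set_option linter.unusedSectionVars false
set_option linter.unusedVariables false

namespace Groth.Agent.H4.ClIm3

open CategoryTheory CategoryTheory.Limits AlgebraicGeometry TopologicalSpace Opposite
open DirectSum HomogeneousLocalization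
open Groth.Agent.H4.ClIm1 Groth.Agent.H4.ClIm2
open scoped HomogeneousIdeal

universe u

noncomputable section

section Alg

variable {A B : Type u} [CommRing A] [CommRing B] {𝒜 : ℕ → AddSubgroup A} {ℬ : ℕ → AddSubgroup B}
  [GradedRing 𝒜] [GradedRing ℬ]

lemma map_num (g : 𝒜 →+*ᵍ ℬ) {f : A} (hf : f ∈ 𝒜 1) (n : ℕ) (a : A) :
    Away.map g f (num hf n a) = num (g.2 hf) n (g a) := by
  rw [num_apply, num_apply, Away.map_mk]
  refine mk_congr _ rfl ?_ _ _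
  exact GradedRingHom.map_directSumDecompose (𝒜 := 𝒜) (ℬ := ℬ) g (x := a) (i := n)

lemma num_zero_eq {f : A} (hf : f ∈ 𝒜 1) {c : A} (hc : c ∈ 𝒜 0) :
    num hf 0 c = fromZeroRingHom 𝒜 (Submonoid.powers f) ⟨c, hc⟩ := by
  rw [num_of_mem hf hc]
  apply HomogeneousLocalization.val_injective
  rw [Away.val_mk, Groth.Agent.H4.RelProjEx.val_fromZero]
  rw [Localization.mk_eq_mk_iff, Localization.r_iff_exists]
  exact ⟨1, by simp⟩

lemma fromZero_pow_mul_num {f : A} (hf : f ∈ 𝒜 1) {c : A} (hc : c ∈ 𝒜 0) (m n : ℕ) (a : A) :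
    (fromZeroRingHom 𝒜 (Submonoid.powers f) ⟨c, hc⟩) ^ m * num hf n a = num hf n (c ^ m * a) := by
  have hcm : c ^ m ∈ 𝒜 0 := by
    have := SetLike.pow_mem_graded m hc
    simpa using this
  rw [num_zero_mul hf hcm, num_zero_eq hf hcm, ← map_pow]
  rfl

end Alg

variable {Y P : Scheme.{u}} {𝒮 : RelProj.QCGrAlg Y} {p : P ⟶ Y}
  (chart : ∀ (U : Y.Opens) (hU : IsAffineOpen U),
    (((p ⁻¹ᵁ U : P.Opens) : Scheme.{u}) ≅ Proj (𝒮.deg U hU)))
  (𝒥 : P.IdealSheafData)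

/-- the standard chart `Spec 𝒮(U)_(f) ⟶ P` -/
def jc (U : Y.Opens) (hU : IsAffineOpen U) {d : ℕ} (hd : 0 < d) (f : 𝒮.presheaf.obj (op U))
    (hf : f ∈ 𝒮.deg U hU d) : Spec (CommRingCat.of (Away (𝒮.deg U hU) f)) ⟶ P :=
  Proj.awayι (𝒮.deg U hU) f hf hd ≫ RelProj.emb p chart U hU

instance isOpenImmersion_jc (U : Y.Opens) (hU : IsAffineOpen U) {d : ℕ} (hd : 0 < d)
    (f : 𝒮.presheaf.obj (op U)) (hf : f ∈ 𝒮.deg U hU d) :
    IsOpenImmersion (jc chart U hU hd f hf) := by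
  unfold jc; infer_instance

/-- the ideal of `𝒮(U)_(f)` cut out by an ideal sheaf on the relative Proj -/
def J (U : Y.Opens) (hU : IsAffineOpen U) {d : ℕ} (hd : 0 < d) (f : 𝒮.presheaf.obj (op U))
    (hf : f ∈ 𝒮.deg U hU d) : Ideal (Away (𝒮.deg U hU) f) :=
  cI 𝒥 (jc chart U hU hd f hf)

theorem J_mul (U : Y.Opens) (hU : IsAffineOpen U) {d e : ℕ} (hd : 0 < d)
    (f : 𝒮.presheaf.obj (op U)) (hf : f ∈ 𝒮.deg U hU d)
    (g : 𝒮.presheaf.obj (op U)) (hg : g ∈ 𝒮.deg U hU e)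
    (x : 𝒮.presheaf.obj (op U)) (hx : x = f * g) :
    J chart 𝒥 U hU (hd.trans_le (d.le_add_right e)) x (hx ▸ SetLike.mul_mem_graded hf hg) =
      (J chart 𝒥 U hU hd f hf).map (awayMap (𝒮.deg U hU) hg hx) := by
  unfold J
  refine cI_comp 𝒥 (CommRingCat.ofHom (awayMap (𝒮.deg U hU) hg hx)) _ _ ?_
  unfold jc
  rw [← Category.assoc, Proj.SpecMap_awayMap_awayι]

theorem J_map_eq (U : Y.Opens) (hU : IsAffineOpen U)
    (t : 𝒮.presheaf.obj (op U)) (ht : t ∈ 𝒮.deg U hU 1)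
    (t' : 𝒮.presheaf.obj (op U)) (ht' : t' ∈ 𝒮.deg U hU 1) :
    (J chart 𝒥 U hU one_pos t ht).map (mapL t ht') =
      (J chart 𝒥 U hU one_pos t' ht').map (mapR ht t') := by
  have h1 := J_mul chart 𝒥 U hU one_pos t ht t' ht' (t * t') rfl
  have h2 := J_mul chart 𝒥 U hU one_pos t' ht' t ht (t * t') (mul_comm t t')
  exact h1.symm.trans h2

theorem J_transfer (U : Y.Opens) (hU : IsAffineOpen U)
    (t : 𝒮.presheaf.obj (op U)) (ht : t ∈ 𝒮.deg U hU 1)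
    (t' : 𝒮.presheaf.obj (op U)) (ht' : t' ∈ 𝒮.deg U hU 1)
    {n : ℕ} {a : 𝒮.presheaf.obj (op U)} (ha : a ∈ 𝒮.deg U hU n)
    (hmem : num ht n a ∈ J chart 𝒥 U hU one_pos t ht) :
    ∃ N : ℕ, num ht' (N + n) (t ^ N * a) ∈ J chart 𝒥 U hU one_pos t' ht' :=
  transfer ht ht' _ _ (J_map_eq chart 𝒥 U hU t ht t' ht') ha hmem

theorem J_sum (U : Y.Opens) (hU : IsAffineOpen U)
    (T : Finset (𝒮.presheaf.obj (op U))) (hT : ∀ t ∈ T, t ∈ 𝒮.deg U hU 1)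
    (c : 𝒮.presheaf.obj (op U) → Γ(Y, U))
    (t' : 𝒮.presheaf.obj (op U)) (ht' : t' ∈ 𝒮.deg U hU 1)
    (hsum : t' = ∑ t ∈ T, (𝒮.str.app (op U)).hom (c t) * t)
    {n : ℕ} {a : 𝒮.presheaf.obj (op U)} (ha : a ∈ 𝒮.deg U hU n)
    (h : ∀ t (ht : t ∈ T), num (hT t ht) n a ∈ J chart 𝒥 U hU one_pos t (hT t ht)) :
    num ht' n a ∈ J chart 𝒥 U hU one_pos t' ht' := by
  refine num_mem_of_sum ht' _ T hT (fun t => (𝒮.str.app (op U)).hom (c t))
    (fun t _ => 𝒮.str_mem U hU (c t)) hsum ha ?_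
  intro t ht
  exact J_transfer chart 𝒥 U hU t (hT t ht) t' ht' ha (h t ht)

variable {chart}

theorem jc_res (hP : RelProj.IsRelProj 𝒮 p chart) (U : Y.Opens) (hU : IsAffineOpen U)
    (r : Γ(Y, U)) {d : ℕ} (hd : 0 < d) (f : 𝒮.presheaf.obj (op U)) (hf : f ∈ 𝒮.deg U hU d) :
    Spec.map (CommRingCat.ofHom
        (Away.map (𝒮.res hU (hU.basicOpen r) (Y.basicOpen_le r)) f)) ≫ jc chart U hU hd f hf =
      jc chart (Y.basicOpen r) (hU.basicOpen r) hd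
        ((𝒮.res hU (hU.basicOpen r) (Y.basicOpen_le r)) f)
        ((𝒮.res hU (hU.basicOpen r) (Y.basicOpen_le r)).2 hf) := by
  unfold jc
  rw [← RelProj.map_res_emb hP U hU r, ← Category.assoc, ← Category.assoc,
    Proj.awayι_comp_map]

theorem J_res (hP : RelProj.IsRelProj 𝒮 p chart) (U : Y.Opens) (hU : IsAffineOpen U)
    (r : Γ(Y, U)) {d : ℕ} (hd : 0 < d) (f : 𝒮.presheaf.obj (op U)) (hf : f ∈ 𝒮.deg U hU d) :
    J chart 𝒥 (Y.basicOpen r) (hU.basicOpen r) hd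
        ((𝒮.res hU (hU.basicOpen r) (Y.basicOpen_le r)) f)
        ((𝒮.res hU (hU.basicOpen r) (Y.basicOpen_le r)).2 hf) =
      (J chart 𝒥 U hU hd f hf).map
        (Away.map (𝒮.res hU (hU.basicOpen r) (Y.basicOpen_le r)) f) := by
  unfold J
  exact cI_comp 𝒥 (CommRingCat.ofHom
    (Away.map (𝒮.res hU (hU.basicOpen r) (Y.basicOpen_le r)) f)) _ _ (jc_res hP U hU r hd f hf)

theorem J_res_mem (hP : RelProj.IsRelProj 𝒮 p chart) (U : Y.Opens) (hU : IsAffineOpen U)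
    (r : Γ(Y, U)) (t : 𝒮.presheaf.obj (op U)) (ht : t ∈ 𝒮.deg U hU 1)
    (n : ℕ) (a : 𝒮.presheaf.obj (op U))
    (hmem : num ht n a ∈ J chart 𝒥 U hU one_pos t ht) :
    num ((𝒮.res hU (hU.basicOpen r) (Y.basicOpen_le r)).2 ht) n
        ((𝒮.res hU (hU.basicOpen r) (Y.basicOpen_le r)) a) ∈
      J chart 𝒥 (Y.basicOpen r) (hU.basicOpen r) one_pos
        ((𝒮.res hU (hU.basicOpen r) (Y.basicOpen_le r)) t)
        ((𝒮.res hU (hU.basicOpen r) (Y.basicOpen_le r)).2 ht) := by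
  rw [J_res 𝒥 hP U hU r one_pos t ht, ← map_num (𝒮.res hU (hU.basicOpen r) (Y.basicOpen_le r)) ht]
  exact Ideal.mem_map_of_mem _ hmem

/-- localisation data for the restriction to a basic open -/
theorem res_loc_data (U : Y.Opens) (hU : IsAffineOpen U) (r : Γ(Y, U)) :
    ∃ u : 𝒮.presheaf.obj (op (Y.basicOpen r)), u ∈ 𝒮.deg (Y.basicOpen r) (hU.basicOpen r) 0 ∧
      (𝒮.res hU (hU.basicOpen r) (Y.basicOpen_le r)) ((𝒮.str.app (op U)).hom r) * u = 1 ∧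
      (∀ b : 𝒮.presheaf.obj (op (Y.basicOpen r)), ∃ (a : 𝒮.presheaf.obj (op U)) (k : ℕ),
        (𝒮.res hU (hU.basicOpen r) (Y.basicOpen_le r)) ((𝒮.str.app (op U)).hom r) ^ k * b =
          (𝒮.res hU (hU.basicOpen r) (Y.basicOpen_le r)) a) ∧
      (∀ a : 𝒮.presheaf.obj (op U), (𝒮.res hU (hU.basicOpen r) (Y.basicOpen_le r)) a = 0 →
        ∃ k : ℕ, ((𝒮.str.app (op U)).hom r) ^ k * a = 0) := by
  obtain ⟨θ, hθ⟩ : ∃ θ : Γ(Y, U) ⟶ Γ(Y, Y.basicOpen r),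
      θ = Y.presheaf.map (homOfLE (Y.basicOpen_le r)).op := ⟨_, rfl⟩
  have hnat : ∀ x : Γ(Y, U), (𝒮.res hU (hU.basicOpen r) (Y.basicOpen_le r))
      ((𝒮.str.app (op U)).hom x) = (𝒮.str.app (op (Y.basicOpen r))).hom (θ.hom x) := by
    intro x
    have := congrArg (fun f => f.hom x) (𝒮.str.naturality (homOfLE (Y.basicOpen_le r)).op)
    rw [hθ]
    exact this.symm
  have hloc : @IsLocalization.Away Γ(Y, U) _ r Γ(Y, Y.basicOpen r) _ θ.hom.toAlgebra := by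
    rw [hθ]
    exact hU.isLocalization_basicOpen r
  have hunit : IsUnit (θ.hom r) :=
    @IsLocalization.map_units _ _ (Submonoid.powers r) _ _ θ.hom.toAlgebra hloc ⟨r, 1, pow_one r⟩
  obtain ⟨v, hv⟩ := hunit
  obtain ⟨c, hc⟩ : ∃ c, c = (𝒮.str.app (op U)).hom r := ⟨_, rfl⟩
  letI _inst : Algebra (𝒮.presheaf.obj (op U)) (𝒮.presheaf.obj (op (Y.basicOpen r))) :=
    (𝒮.presheaf.map (homOfLE (Y.basicOpen_le r)).op).hom.toAlgebra
  have hlocS : IsLocalization.Away c (𝒮.presheaf.obj (op (Y.basicOpen r))) := by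
    rw [hc]; exact 𝒮.isQC U hU r
  refine ⟨(𝒮.str.app (op (Y.basicOpen r))).hom (↑v⁻¹ : Γ(Y, Y.basicOpen r)),
    𝒮.str_mem _ _ _, ?_, ?_, ?_⟩
  · rw [hnat, ← map_mul, ← hv, Units.mul_inv, map_one]
  · intro b
    obtain ⟨⟨x, s, hs⟩, hxs⟩ := IsLocalization.surj (Submonoid.powers c) b
    obtain ⟨k, rfl⟩ := (Submonoid.mem_powers_iff _ _).mp hs
    change b * (𝒮.res hU (hU.basicOpen r) (Y.basicOpen_le r)) (c ^ k) =
      (𝒮.res hU (hU.basicOpen r) (Y.basicOpen_le r)) x at hxs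
    refine ⟨x, k, ?_⟩
    rw [← hc, ← map_pow, mul_comm]
    exact hxs
  · intro a ha
    obtain ⟨⟨_, k, rfl⟩, hm⟩ := (IsLocalization.map_eq_zero_iff (Submonoid.powers c)
      (𝒮.presheaf.obj (op (Y.basicOpen r))) a).mp ha
    refine ⟨k, ?_⟩
    rw [← hc]
    exact hm

theorem J_lift (hP : RelProj.IsRelProj 𝒮 p chart) (U : Y.Opens) (hU : IsAffineOpen U)
    (r : Γ(Y, U)) (t : 𝒮.presheaf.obj (op U)) (ht : t ∈ 𝒮.deg U hU 1)
    (n : ℕ) (a : 𝒮.presheaf.obj (op U))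
    (hmem : num ((𝒮.res hU (hU.basicOpen r) (Y.basicOpen_le r)).2 ht) n
        ((𝒮.res hU (hU.basicOpen r) (Y.basicOpen_le r)) a) ∈
      J chart 𝒥 (Y.basicOpen r) (hU.basicOpen r) one_pos
        ((𝒮.res hU (hU.basicOpen r) (Y.basicOpen_le r)) t)
        ((𝒮.res hU (hU.basicOpen r) (Y.basicOpen_le r)).2 ht)) :
    ∃ m : ℕ, num ht n (((𝒮.str.app (op U)).hom r) ^ m * a) ∈ J chart 𝒥 U hU one_pos t ht := by
  obtain ⟨u, hu, hcu, hsurj, hker⟩ := res_loc_data (𝒮 := 𝒮) U hU r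
  rw [J_res 𝒥 hP U hU r one_pos t ht, ← map_num (𝒮.res hU (hU.basicOpen r) (Y.basicOpen_le r)) ht] at hmem
  letI : Algebra (Away (𝒮.deg U hU) t) (Away (𝒮.deg (Y.basicOpen r) (hU.basicOpen r))
      ((𝒮.res hU (hU.basicOpen r) (Y.basicOpen_le r)) t)) :=
    (Away.map (𝒮.res hU (hU.basicOpen r) (Y.basicOpen_le r)) t).toAlgebra
  haveI hA : IsLocalization.Away
      (fromZeroRingHom (𝒮.deg U hU) (Submonoid.powers t)
        ⟨(𝒮.str.app (op U)).hom r, 𝒮.str_mem U hU r⟩)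
      (Away (𝒮.deg (Y.basicOpen r) (hU.basicOpen r))
        ((𝒮.res hU (hU.basicOpen r) (Y.basicOpen_le r)) t)) :=
    Groth.Agent.H4.RelProjEx.isLocalization_awayMap
      (𝒮.res hU (hU.basicOpen r) (Y.basicOpen_le r))
      ⟨(𝒮.str.app (op U)).hom r, 𝒮.str_mem U hU r⟩ u hu hcu hsurj hker t ht
  have h' : algebraMap (Away (𝒮.deg U hU) t) _ (num ht n a) ∈
      (J chart 𝒥 U hU one_pos t ht).map (algebraMap (Away (𝒮.deg U hU) t)
        (Away (𝒮.deg (Y.basicOpen r) (hU.basicOpen r))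
          ((𝒮.res hU (hU.basicOpen r) (Y.basicOpen_le r)) t))) := hmem
  rw [IsLocalization.algebraMap_mem_map_algebraMap_iff
    (Submonoid.powers (fromZeroRingHom (𝒮.deg U hU) (Submonoid.powers t)
        ⟨(𝒮.str.app (op U)).hom r, 𝒮.str_mem U hU r⟩))] at h'
  obtain ⟨_, ⟨m, rfl⟩, hm⟩ := h'
  refine ⟨m, ?_⟩
  rw [← fromZero_pow_mul_num ht (𝒮.str_mem U hU r)]
  exact hm

end

end Groth.Agent.H4.ClIm3
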