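import Groth.Agent.H4.RelSpecLib2
import Groth.Prelude.Def_RelSpec2

set_option autoImplicit false

namespace Groth.Agent.H4.ConeLib

open CategoryTheory CategoryTheory.Limits AlgebraicGeometry TopologicalSpace Opposite
open Groth.Agent.H4.RelSpecLib
open scoped HomogeneousIdeal

universe u

theorem gradedHom_mem_irrelevant {A B : Type*} [CommRing A] [CommRing B] {𝒜 : ℕ → AddSubgroup A}
    {ℬ : ℕ → AddSubgroup B} [GradedRing 𝒜] [GradedRing ℬ] (φ : 𝒜 →+*ᵍ ℬ) {f : A}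
    (hf : f ∈ (HomogeneousIdeal.irrelevant 𝒜).toIdeal) :
    φ f ∈ (HomogeneousIdeal.irrelevant ℬ).toIdeal := by
  have hf0 : GradedRing.proj 𝒜 0 f = 0 := hf
  change GradedRing.proj ℬ 0 (φ f) = 0
  rw [GradedRing.proj_apply, ← GradedRingHom.map_directSumDecompose, ← GradedRing.proj_apply, hf0, map_zero]

variable {S : Scheme.{u}} (𝒮 : RelProj.QCGrAlg S)

theorem mem_vertexCompl_iff {R : CommRingCat.{u}} (𝒜 : ℕ → AddSubgroup R) [GradedRing 𝒜] (y : Spec R) :
    y ∈ RelCone.vertexCompl 𝒜 ↔ ∃ f ∈ (HomogeneousIdeal.irrelevant 𝒜).toIdeal, f ∉ y.asIdeal := by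
  change ¬ (((HomogeneousIdeal.irrelevant 𝒜).toIdeal : Set R) ⊆ (y.asIdeal : Set R)) ↔ _
  rw [Set.not_subset]
  rfl

/-- the vertex complement is compatible with restriction to a basic open -/
theorem vertexCompl_res_basic (U : S.Opens) (hU : IsAffineOpen U) (r : Γ(S, U))
    (w : Spec (𝒮.presheaf.obj (op (S.basicOpen r)))) :
    w ∈ RelCone.vertexCompl (𝒮.deg (S.basicOpen r) (hU.basicOpen r)) ↔
      (Spec.map (𝒮.presheaf.map (homOfLE (S.basicOpen_le r)).op)).base w ∈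
        RelCone.vertexCompl (𝒮.deg U hU) := by
  rw [mem_vertexCompl_iff, mem_vertexCompl_iff]
  constructor
  · rintro ⟨g, hg, hgw⟩
    by_contra hcon
    push Not at hcon
    apply hgw
    have h1 := 𝒮.irrelevant_le_map U hU r hg
    have h2 : Ideal.map (𝒮.res hU (hU.basicOpen r) (S.basicOpen_le r))
        ((HomogeneousIdeal.irrelevant (𝒮.deg U hU)).toIdeal) ≤ w.asIdeal := by
      rw [Ideal.map_le_iff_le_comap]
      intro f hf
      exact hcon f hf
    exact h2 h1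
  · rintro ⟨f, hf, hfw⟩
    refine ⟨(𝒮.presheaf.map (homOfLE (S.basicOpen_le r)).op).hom f, ?_, hfw⟩
    -- graded homs preserve the irrelevant ideal
    have hf0 : GradedRing.proj (𝒮.deg U hU) 0 f = 0 := hf
    change GradedRing.proj (𝒮.deg (S.basicOpen r) (hU.basicOpen r)) 0
      ((𝒮.res hU (hU.basicOpen r) (S.basicOpen_le r)) f) = 0
    rw [GradedRing.proj_apply, ← GradedRingHom.map_directSumDecompose, ← GradedRing.proj_apply, hf0, map_zero]

theorem vertexCompl_res (U W : S.Opens) (hU : IsAffineOpen U) (hW : IsAffineOpen W) (hWU : W ≤ U)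
    (r : Γ(S, U)) (hr : W = S.basicOpen r) (w : Spec (𝒮.presheaf.obj (op W))) :
    w ∈ RelCone.vertexCompl (𝒮.deg W hW) ↔
      (Spec.map (𝒮.presheaf.map (homOfLE hWU).op)).base w ∈ RelCone.vertexCompl (𝒮.deg U hU) := by
  subst hr
  exact vertexCompl_res_basic 𝒮 U hU r w

/-- membership in the pointed cone can be tested on any chart -/
theorem mem_pointedCone_iff (U : S.Opens) (hU : IsAffineOpen U) (y : Spec (𝒮.presheaf.obj (op U))) :
    (𝒮.toQCAlg.ι U hU).base y ∈ RelCone.pointedCone 𝒮 ↔ y ∈ RelCone.vertexCompl (𝒮.deg U hU) := by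
  constructor
  · intro h
    unfold RelCone.pointedCone at h
    rw [Opens.mem_iSup] at h
    obtain ⟨⟨U₁, hU₁⟩, y₁, hy₁, he⟩ := h
    have hs : 𝒮.toQCAlg.π.base ((𝒮.toQCAlg.ι U hU).base y) ∈ U ⊓ U₁ :=
      ⟨π_ι_mem 𝒮.toQCAlg U hU y, by rw [← he]; exact π_ι_mem 𝒮.toQCAlg U₁ hU₁ y₁⟩
    obtain ⟨f, g, hfg, hxf⟩ := exists_basicOpen_le_affine_inter hU hU₁ _ hs
    have hW : IsAffineOpen (S.basicOpen f) := hU.basicOpen f
    have hW1 : S.basicOpen f ≤ U₁ := hfg ▸ S.basicOpen_le g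
    obtain ⟨w, hw⟩ := exists_chart 𝒮.toQCAlg _ (S.basicOpen f) hW hxf
    have he' : (𝒮.toQCAlg.ι U₁ hU₁).base y₁ = (𝒮.toQCAlg.ι U hU).base y := he
    have e1 : (Spec.map (𝒮.presheaf.map (homOfLE (S.basicOpen_le f)).op)).base w = y := by
      apply (𝒮.toQCAlg.ι U hU).isOpenEmbedding.injective
      have k1 : (𝒮.toQCAlg.ι U hU).base ((Spec.map (𝒮.presheaf.map
          (homOfLE (S.basicOpen_le f)).op)).base w) = (𝒮.toQCAlg.ι (S.basicOpen f) hW).base w :=
        congrArg (fun k : Spec (𝒮.presheaf.obj (op (S.basicOpen f))) ⟶ 𝒮.toQCAlg.spec => k.base w)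
          (ι_res_le 𝒮.toQCAlg U (S.basicOpen f) hU hW (S.basicOpen_le f))
      exact k1.trans hw
    have e2 : (Spec.map (𝒮.presheaf.map (homOfLE hW1).op)).base w = y₁ := by
      apply (𝒮.toQCAlg.ι U₁ hU₁).isOpenEmbedding.injective
      have k1 : (𝒮.toQCAlg.ι U₁ hU₁).base ((Spec.map (𝒮.presheaf.map
          (homOfLE hW1).op)).base w) = (𝒮.toQCAlg.ι (S.basicOpen f) hW).base w :=
        congrArg (fun k : Spec (𝒮.presheaf.obj (op (S.basicOpen f))) ⟶ 𝒮.toQCAlg.spec => k.base w)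
          (ι_res_le 𝒮.toQCAlg U₁ (S.basicOpen f) hU₁ hW hW1)
      exact (k1.trans hw).trans he'.symm
    rw [← e1, ← vertexCompl_res 𝒮 U (S.basicOpen f) hU hW (S.basicOpen_le f) f rfl,
      vertexCompl_res 𝒮 U₁ (S.basicOpen f) hU₁ hW hW1 g hfg, e2]
    exact hy₁
  · intro hy
    unfold RelCone.pointedCone
    rw [Opens.mem_iSup]
    exact ⟨⟨U, hU⟩, y, hy, rfl⟩

end Groth.Agent.H4.ConeLib
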