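import Groth.Prelude.Def_RelProj
import Groth.Agent.H4.ProjG

set_option autoImplicit false

namespace Groth.Agent.H4.RelProjLib

open CategoryTheory CategoryTheory.Limits AlgebraicGeometry TopologicalSpace Opposite
open scoped HomogeneousIdeal

universe u

variable {Y P : Scheme.{u}} (p : P ⟶ Y)

theorem isOpenCover_preimage : IsOpenCover (fun U : Y.affineOpens => p ⁻¹ᵁ U.1) := by
  rw [IsOpenCover, ← Scheme.Hom.preimage_iSup, iSup_affineOpens_eq_top]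
  rfl

/-- two morphisms out of `P` agreeing on all `p⁻¹(U)`, `U` affine, are equal. -/
theorem hom_ext {Z : Scheme.{u}} (a b : P ⟶ Z)
    (h : ∀ (U : Y.Opens) (_ : IsAffineOpen U), (p ⁻¹ᵁ U).ι ≫ a = (p ⁻¹ᵁ U).ι ≫ b) : a = b := by
  refine (P.openCoverOfIsOpenCover _ (isOpenCover_preimage p)).hom_ext _ _ ?_
  rintro ⟨U, hU⟩
  exact h U hU

/-- a morphism from a scheme `T` is determined by its restrictions to an `IsOpenCover`. -/
theorem hom_ext_of_isOpenCover {T Z : Scheme.{u}} {ι : Type*} (W : ι → T.Opens) (hW : IsOpenCover W)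
    (a b : T ⟶ Z) (h : ∀ i, (W i).ι ≫ a = (W i).ι ≫ b) : a = b :=
  (T.openCoverOfIsOpenCover W hW).hom_ext _ _ h

/-- a property local at the target can be checked on pullback squares over the `p⁻¹(U)`, `U` affine. -/
theorem of_isPullback_affine {Pr : MorphismProperty Scheme.{u}} [IsZariskiLocalAtTarget Pr]
    {X : Scheme.{u}} (h : X ⟶ P)
    (V : ∀ (U : Y.Opens) (_ : IsAffineOpen U), Scheme.{u})
    (g : ∀ (U : Y.Opens) (hU : IsAffineOpen U), V U hU ⟶ ((p ⁻¹ᵁ U : P.Opens) : Scheme.{u}))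
    (j : ∀ (U : Y.Opens) (hU : IsAffineOpen U), V U hU ⟶ X)
    (hpb : ∀ (U : Y.Opens) (hU : IsAffineOpen U), IsPullback (g U hU) (j U hU) (p ⁻¹ᵁ U).ι h)
    (hP : ∀ (U : Y.Opens) (hU : IsAffineOpen U), Pr (g U hU)) : Pr h := by
  refine ProjG.of_isPullback_openCover (P := Pr) h
    (P.openCoverOfIsOpenCover _ (isOpenCover_preimage p))
    (fun U => V U.1 U.2) (fun U => g U.1 U.2) (fun U => j U.1 U.2) (fun U => hpb U.1 U.2) ?_
  rintro ⟨U, hU⟩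
  exact hP U hU

section glue

variable {Z : Scheme.{u}}
  (g : ∀ (U : Y.Opens) (_ : IsAffineOpen U), ((p ⁻¹ᵁ U : P.Opens) : Scheme.{u}) ⟶ Z)
  (hg : ∀ (U : Y.Opens) (hU : IsAffineOpen U) (r : Γ(Y, U)),
    P.homOfLE (p.preimage_mono (Y.basicOpen_le r)) ≫ g U hU = g (Y.basicOpen r) (hU.basicOpen r))

include hg in
theorem glue_aux1 (U : Y.Opens) (hU : IsAffineOpen U) (W : Y.Opens) (hW : IsAffineOpen W)
    (r : Γ(Y, U)) (e : W = Y.basicOpen r) (hle : W ≤ U) :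
    P.homOfLE (p.preimage_mono hle) ≫ g U hU = g W hW := by
  subst e
  exact hg U hU r

include hg in
theorem glue_aux2 (U V : Y.Opens) (hU : IsAffineOpen U) (hV : IsAffineOpen V) {T : Scheme.{u}}
    (a : T ⟶ (p ⁻¹ᵁ U : P.Opens)) (b : T ⟶ (p ⁻¹ᵁ V : P.Opens))
    (hab : a ≫ (p ⁻¹ᵁ U).ι = b ≫ (p ⁻¹ᵁ V).ι) : a ≫ g U hU = b ≫ g V hV := by
  set q : T ⟶ Y := a ≫ (p ⁻¹ᵁ U).ι ≫ p with hq
  have hqU : ∀ x : T, q x ∈ U := fun x => by
    have : (p ⁻¹ᵁ U).ι (a x) ∈ p ⁻¹ᵁ U := (a x).2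
    exact this
  have hqV : ∀ x : T, q x ∈ V := fun x => by
    have h1 : q = b ≫ (p ⁻¹ᵁ V).ι ≫ p := by rw [hq, ← Category.assoc, hab, Category.assoc]
    have : (p ⁻¹ᵁ V).ι (b x) ∈ p ⁻¹ᵁ V := (b x).2
    rw [h1]
    exact this
  choose f f' e hxf using fun x : T => exists_basicOpen_le_affine_inter hU hV (q x) ⟨hqU x, hqV x⟩
  have hcov : IsOpenCover (fun x : T => q ⁻¹ᵁ (Y.basicOpen (f x))) := by
    rw [IsOpenCover, eq_top_iff]
    intro x _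
    rw [Opens.mem_iSup]
    exact ⟨x, hxf x⟩
  refine hom_ext_of_isOpenCover _ hcov _ _ fun x => ?_
  have hWU : Y.basicOpen (f x) ≤ U := Y.basicOpen_le _
  have hWV : Y.basicOpen (f x) ≤ V := (e x).le.trans (Y.basicOpen_le _)
  -- lift to `p⁻¹ W`
  have hrange : Set.range ((q ⁻¹ᵁ (Y.basicOpen (f x))).ι ≫ a ≫ (p ⁻¹ᵁ U).ι) ⊆
      Set.range (p ⁻¹ᵁ (Y.basicOpen (f x))).ι := by
    rintro _ ⟨z, rfl⟩
    rw [Scheme.Opens.range_ι]
    have hz : q z.1 ∈ Y.basicOpen (f x) := z.2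
    exact hz
  let k : (q ⁻¹ᵁ (Y.basicOpen (f x)) : T.Opens).toScheme ⟶ (p ⁻¹ᵁ (Y.basicOpen (f x)) : P.Opens) :=
    IsOpenImmersion.lift (p ⁻¹ᵁ (Y.basicOpen (f x))).ι
      ((q ⁻¹ᵁ (Y.basicOpen (f x))).ι ≫ a ≫ (p ⁻¹ᵁ U).ι) hrange
  have hk : k ≫ (p ⁻¹ᵁ (Y.basicOpen (f x))).ι = (q ⁻¹ᵁ (Y.basicOpen (f x))).ι ≫ a ≫ (p ⁻¹ᵁ U).ι :=
    IsOpenImmersion.lift_fac _ _ _
  have h1 : (q ⁻¹ᵁ (Y.basicOpen (f x))).ι ≫ a = k ≫ P.homOfLE (p.preimage_mono hWU) := by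
    rw [← cancel_mono (p ⁻¹ᵁ U).ι, Category.assoc, Category.assoc, Scheme.homOfLE_ι, hk]
  have h2 : (q ⁻¹ᵁ (Y.basicOpen (f x))).ι ≫ b = k ≫ P.homOfLE (p.preimage_mono hWV) := by
    rw [← cancel_mono (p ⁻¹ᵁ V).ι, Category.assoc, Category.assoc, Scheme.homOfLE_ι, hk, hab]
  rw [← Category.assoc, h1, ← Category.assoc, h2, Category.assoc, Category.assoc,
    glue_aux1 p g hg U hU _ (hU.basicOpen (f x)) (f x) rfl hWU,
    glue_aux1 p g hg V hV _ (hU.basicOpen (f x)) (f' x) (e x) hWV]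

include hg in
/-- glueing morphisms out of `P` along the cover by the `p⁻¹(U)`, `U` affine, with compatibility asked for
basic opens only. -/
theorem glue : ∃ h : P ⟶ Z, ∀ (U : Y.Opens) (hU : IsAffineOpen U), (p ⁻¹ᵁ U).ι ≫ h = g U hU := by
  let 𝒰 := P.openCoverOfIsOpenCover _ (isOpenCover_preimage p)
  refine ⟨𝒰.glueMorphisms (fun U => g U.1 U.2) ?_, ?_⟩
  · rintro ⟨U, hU⟩ ⟨V, hV⟩
    exact glue_aux2 p g hg U V hU hV _ _ pullback.condition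
  · intro U hU
    exact 𝒰.ι_glueMorphisms _ _ ⟨U, hU⟩

end glue


section relProjMap

open RelProj

variable {Y PA PB : Scheme.{u}} {𝒜 ℬ : RelProj.QCGrAlg Y}
    (φ : 𝒜.toQCAlg ⟶ ℬ.toQCAlg) (hφ : RelProj.IsGradedHom φ)

theorem strZero_comp (U : Y.Opens) (hU : IsAffineOpen U) :
    𝒜.strZero U hU ≫ CommRingCat.ofHom (ProjG.zeroHom (RelProj.gradedHomAt φ hφ U hU)) =
      ℬ.strZero U hU := by
  ext r
  have h1 := congrArg (fun t => (t.app (op U)).hom r) φ.comm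
  exact h1

variable (hirr : ∀ (U : Y.Opens) (hU : IsAffineOpen U),
      (ℬ.deg U hU)₊ ≤ ((𝒜.deg U hU)₊).map (RelProj.gradedHomAt φ hφ U hU))
    {pA : PA ⟶ Y} {pB : PB ⟶ Y}
    {chartA : ∀ (U : Y.Opens) (hU : IsAffineOpen U), (((pA ⁻¹ᵁ U : PA.Opens) : Scheme.{u}) ≅ Proj (𝒜.deg U hU))}
    {chartB : ∀ (U : Y.Opens) (hU : IsAffineOpen U), (((pB ⁻¹ᵁ U : PB.Opens) : Scheme.{u}) ≅ Proj (ℬ.deg U hU))}
    (hA : RelProj.IsRelProj 𝒜 pA chartA) (hB : RelProj.IsRelProj ℬ pB chartB)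
    {h : PB ⟶ PA} (hh : RelProj.IsRelProjMap φ hφ hirr chartA chartB h)

include hA hB hh in
theorem relProjMap_over : h ≫ pA = pB := by
  refine hom_ext pB _ _ fun U hU => ?_
  rw [← Category.assoc, hh U hU]
  simp only [Category.assoc]
  rw [← hA.chart_over U hU, Iso.inv_hom_id_assoc, ← hB.chart_over U hU,
    reassoc_of% (ProjG.map_toSpecZero (RelProj.gradedHomAt φ hφ U hU) (hirr U hU)),
    ← Spec.map_comp_assoc, strZero_comp]

include hA hB hh in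
theorem isPullback_of_isRelProjMap (U : Y.Opens) (hU : IsAffineOpen U) :
    IsPullback ((chartB U hU).hom ≫ Proj.map (RelProj.gradedHomAt φ hφ U hU) (hirr U hU) ≫
      (chartA U hU).inv) (pB ⁻¹ᵁ U).ι (pA ⁻¹ᵁ U).ι h := by
  apply IsOpenImmersion.isPullback
  · rw [hh U hU]
    simp only [Category.assoc]
  · rw [Scheme.Opens.opensRange_ι, Scheme.Opens.opensRange_ι, ← Scheme.Hom.comp_preimage,
      relProjMap_over φ hφ hirr hA hB hh]

end relProjMap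

end Groth.Agent.H4.RelProjLib
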