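import Groth.Prelude.Def_RelSpec2

set_option autoImplicit false

namespace Groth.Agent.H4.RelSpecLib

open CategoryTheory CategoryTheory.Limits AlgebraicGeometry TopologicalSpace Opposite

universe u

variable {S : Scheme.{u}} (A : RelSpec.QCAlg S)

/-- two morphisms out of `Spec(A)` agreeing on all charts are equal. -/
theorem hom_ext {Z : Scheme.{u}} (a b : A.spec ⟶ Z)
    (h : ∀ (U : S.Opens) (hU : IsAffineOpen U), A.ι U hU ≫ a = A.ι U hU ≫ b) : a = b := by
  apply colimit.hom_ext
  intro U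
  exact h U.1 U.2

/-- glueing morphisms out of `Spec(A)` along the charts. -/
theorem exists_desc {Z : Scheme.{u}}
    (g : ∀ (U : S.Opens) (_ : IsAffineOpen U), Spec (A.presheaf.obj (op U)) ⟶ Z)
    (hg : ∀ (U : S.Opens) (hU : IsAffineOpen U) (r : Γ(S, U)),
      Spec.map (A.presheaf.map (homOfLE (S.basicOpen_le r)).op) ≫ g U hU =
        g (S.basicOpen r) (hU.basicOpen r)) :
    ∃ h : A.spec ⟶ Z, ∀ (U : S.Opens) (hU : IsAffineOpen U), A.ι U hU ≫ h = g U hU := by
  have hg' : ∀ (U V : S.AffineZariskiSite) (i : V ⟶ U),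
      Spec.map (A.presheaf.map (homOfLE (Scheme.AffineZariskiSite.toOpens_mono i.le)).op) ≫ g U.1 U.2 =
        g V.1 V.2 := by
    rintro ⟨U, hU⟩ ⟨V, hV⟩ i
    obtain ⟨r, hr⟩ := i.le
    change S.basicOpen r = V at hr
    subst hr
    exact hg U hU r
  let c : Cocone A.glueData.functor :=
    { pt := Z
      ι := { app := fun U => g U.1 U.2
             naturality := fun V U i => (hg' U V i).trans (Category.comp_id _).symm } }
  refine ⟨colimit.desc _ c, fun U hU => ?_⟩
  exact colimit.ι_desc c ⟨U, hU⟩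


/-- two morphisms out of `S` agreeing on all affine opens are equal. -/
theorem base_hom_ext {Z : Scheme.{u}} (a b : S ⟶ Z)
    (h : ∀ (U : S.Opens) (hU : IsAffineOpen U), hU.fromSpec ≫ a = hU.fromSpec ≫ b) : a = b :=
  (Scheme.AffineZariskiSite.isColimitCocone S).hom_ext fun U => h U.1 U.2

/-- glueing morphisms out of `S` along the affine opens. -/
theorem base_exists_desc {Z : Scheme.{u}}
    (g : ∀ (U : S.Opens) (_ : IsAffineOpen U), Spec Γ(S, U) ⟶ Z)
    (hg : ∀ (U : S.Opens) (hU : IsAffineOpen U) (r : Γ(S, U)),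
      Spec.map (S.presheaf.map (homOfLE (S.basicOpen_le r)).op) ≫ g U hU =
        g (S.basicOpen r) (hU.basicOpen r)) :
    ∃ h : S ⟶ Z, ∀ (U : S.Opens) (hU : IsAffineOpen U), hU.fromSpec ≫ h = g U hU := by
  have hg' : ∀ (U V : S.AffineZariskiSite) (i : V ⟶ U),
      Spec.map (S.presheaf.map (homOfLE (Scheme.AffineZariskiSite.toOpens_mono i.le)).op) ≫ g U.1 U.2 =
        g V.1 V.2 := by
    rintro ⟨U, hU⟩ ⟨V, hV⟩ i
    obtain ⟨r, hr⟩ := i.le
    change S.basicOpen r = V at hr
    subst hr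
    exact hg U hU r
  let c : Cocone (Scheme.AffineZariskiSite.toOpensFunctor S ⋙ S.presheaf.rightOp ⋙ Scheme.Spec) :=
    { pt := Z
      ι := { app := fun U => g U.1 U.2
             naturality := fun V U i => (hg' U V i).trans (Category.comp_id _).symm } }
  refine ⟨(Scheme.AffineZariskiSite.isColimitCocone S).desc c, fun U hU => ?_⟩
  exact (Scheme.AffineZariskiSite.isColimitCocone S).fac c ⟨U, hU⟩

end Groth.Agent.H4.RelSpecLib
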