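import Groth.Agent.H4.RelSpecLib
import Groth.Agent.S8255

set_option autoImplicit false

namespace Groth.Agent.H4.RelSpecLib

open CategoryTheory CategoryTheory.Limits AlgebraicGeometry TopologicalSpace Opposite

universe u

theorem appLE_congr_hom {X Y : Scheme.{u}} {f g : X ⟶ Y} (h : f = g) (U : Y.Opens) (V : X.Opens)
    (e : V ≤ f ⁻¹ᵁ U) : f.appLE U V e = g.appLE U V (h ▸ e) := by
  subst h; rfl

theorem appLE_comp_appTop {X Y Z : Scheme.{u}} (f : X ⟶ Y) (g : Y ⟶ Z) (U : Z.Opens)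
    (e : ⊤ ≤ g ⁻¹ᵁ U) :
    g.appLE U ⊤ e ≫ f.appTop = (f ≫ g).appLE U ⊤ (by
      rw [Scheme.Hom.comp_preimage, top_le_iff.mp e]; exact le_rfl) := by
  have := Scheme.Hom.appLE_comp_appLE f g U ⊤ ⊤ e le_top
  rw [← this]
  congr 1
  simp [Scheme.Hom.appLE, Scheme.Hom.appTop]

variable {S : Scheme.{u}} (A : RelSpec.QCAlg S)

theorem isIso_appLE (U : S.Opens) (hU : IsAffineOpen U) :
    IsIso ((A.ι U hU).appLE (A.π ⁻¹ᵁ U) ⊤ (A.top_le_preimage U hU)) := by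
  have h1 := Groth.Agent.S8255.isIso_gammaAff A U hU
  unfold RelSpec.QCAlg.gammaAff at h1
  exact IsIso.of_isIso_comp_right _ (Scheme.ΓSpecIso (A.presheaf.obj (op U))).hom

theorem range_ι (U : S.Opens) (hU : IsAffineOpen U) :
    Set.range (A.ι U hU).base = A.π.base ⁻¹' (U : Set S) := by
  have := A.π_preimage U hU
  have h2 := congrArg (fun W : A.spec.Opens => (W : Set A.spec)) this
  exact h2.symm

/-- restriction maps between arbitrary affine opens are compatible with the charts -/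
theorem ι_res_le (U V : S.Opens) (hU : IsAffineOpen U) (hV : IsAffineOpen V) (hVU : V ≤ U) :
    Spec.map (A.presheaf.map (homOfLE hVU).op) ≫ A.ι U hU = A.ι V hV := by
  have hr : Set.range (A.ι V hV).base ⊆ Set.range (A.ι U hU).base := by
    rw [range_ι, range_ι]
    exact Set.preimage_mono hVU
  let k := IsOpenImmersion.lift (A.ι U hU) (A.ι V hV) hr
  have hk : k ≫ A.ι U hU = A.ι V hV := IsOpenImmersion.lift_fac _ _ _
  suffices h : k = Spec.map (A.presheaf.map (homOfLE hVU).op) by rw [← h, hk]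
  apply ext_of_isAffine
  -- compare global sections through `gammaMap`
  have hnat := A.gammaMap.naturality (homOfLE hVU).op
  rw [A.gammaMap_app U hU, A.gammaMap_app V hV] at hnat
  have : IsIso ((A.ι U hU).appLE (A.π ⁻¹ᵁ U) ⊤ (A.top_le_preimage U hU)) := isIso_appLE A U hU
  rw [← cancel_epi ((A.ι U hU).appLE (A.π ⁻¹ᵁ U) ⊤ (A.top_le_preimage U hU)),
    ← cancel_mono (Scheme.ΓSpecIso (A.presheaf.obj (op V))).hom]
  have e2 : (Spec.map (A.presheaf.map (homOfLE hVU).op)).appTop ≫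
      (Scheme.ΓSpecIso (A.presheaf.obj (op V))).hom =
      (Scheme.ΓSpecIso (A.presheaf.obj (op U))).hom ≫ A.presheaf.map (homOfLE hVU).op :=
    Scheme.ΓSpecIso_naturality _
  rw [Category.assoc, Category.assoc, e2, ← Category.assoc, appLE_comp_appTop]
  rw [appLE_congr_hom hk]
  have e3 : (A.ι V hV).appLE (A.π ⁻¹ᵁ U) ⊤ (hk ▸ (by
      rw [Scheme.Hom.comp_preimage, top_le_iff.mp (A.top_le_preimage U hU)]; exact le_rfl)) =
      A.spec.presheaf.map (homOfLE (A.π.preimage_mono hVU)).op ≫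
        (A.ι V hV).appLE (A.π ⁻¹ᵁ V) ⊤ (A.top_le_preimage V hV) := by
    rw [Scheme.Hom.map_appLE]
  rw [e3, Category.assoc]
  exact hnat

theorem isOpenImmersion_res (U V : S.Opens) (hU : IsAffineOpen U) (hV : IsAffineOpen V) (hVU : V ≤ U) :
    IsOpenImmersion (Spec.map (A.presheaf.map (homOfLE hVU).op)) := by
  have : IsOpenImmersion (Spec.map (A.presheaf.map (homOfLE hVU).op) ≫ A.ι U hU) := by
    rw [ι_res_le A U V hU hV hVU]; infer_instance
  exact IsOpenImmersion.of_comp _ (A.ι U hU)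

theorem π_ι_mem (U : S.Opens) (hU : IsAffineOpen U) (y : Spec (A.presheaf.obj (op U))) :
    A.π.base ((A.ι U hU).base y) ∈ U := by
  have : (A.ι U hU).base y ∈ Set.range (A.ι U hU).base := ⟨y, rfl⟩
  rw [range_ι] at this
  exact this

theorem exists_chart (x : A.spec) (U : S.Opens) (hU : IsAffineOpen U) (hx : A.π.base x ∈ U) :
    ∃ y : Spec (A.presheaf.obj (op U)), (A.ι U hU).base y = x := by
  have : x ∈ Set.range (A.ι U hU).base := by rw [range_ι]; exact hx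
  exact this

/-- morphisms out of `Spec(A)` agreeing on the charts over a basis of affine opens are equal -/
theorem hom_ext_basis {Z : Scheme.{u}} (P : S.Opens → Prop)
    (hP : ∀ x : S, ∃ U : S.Opens, IsAffineOpen U ∧ P U ∧ x ∈ U)
    (a b : A.spec ⟶ Z)
    (h : ∀ (U : S.Opens) (hU : IsAffineOpen U), P U → A.ι U hU ≫ a = A.ι U hU ≫ b) : a = b := by
  let 𝒰 : A.spec.OpenCover := Scheme.Cover.mkOfCovers {U : S.Opens // IsAffineOpen U ∧ P U}
    (fun U => Spec (A.presheaf.obj (op U.1))) (fun U => A.ι U.1 U.2.1)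
    (fun x => by
      obtain ⟨U, hU, hPU, hx⟩ := hP (A.π.base x)
      obtain ⟨y, hy⟩ := exists_chart A x U hU hx
      exact ⟨⟨U, hU, hPU⟩, y, hy⟩)
    (fun U => inferInstance)
  exact 𝒰.hom_ext a b (fun U => h U.1 U.2.1 U.2.2)

/-- morphisms out of a chart agreeing on the charts over a covering of `U` by affine opens are equal -/
theorem chart_hom_ext {Z : Scheme.{u}} (U : S.Opens) (hU : IsAffineOpen U) (Q : S.Opens → Prop)
    (hQ : ∀ x ∈ U, ∃ V : S.Opens, IsAffineOpen V ∧ V ≤ U ∧ Q V ∧ x ∈ V)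
    (a b : Spec (A.presheaf.obj (op U)) ⟶ Z)
    (h : ∀ (V : S.Opens) (_ : IsAffineOpen V) (hVU : V ≤ U), Q V →
      Spec.map (A.presheaf.map (homOfLE hVU).op) ≫ a = Spec.map (A.presheaf.map (homOfLE hVU).op) ≫ b) :
    a = b := by
  let 𝒰 : (Spec (A.presheaf.obj (op U))).OpenCover :=
    Scheme.Cover.mkOfCovers {V : S.Opens // IsAffineOpen V ∧ V ≤ U ∧ Q V}
    (fun V => Spec (A.presheaf.obj (op V.1))) (fun V => Spec.map (A.presheaf.map (homOfLE V.2.2.1).op))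
    (fun y => by
      obtain ⟨V, hV, hVU, hQV, hx⟩ := hQ _ (π_ι_mem A U hU y)
      obtain ⟨w, hw⟩ := exists_chart A ((A.ι U hU).base y) V hV hx
      refine ⟨⟨V, hV, hVU, hQV⟩, w, ?_⟩
      apply (A.ι U hU).isOpenEmbedding.injective
      rw [← hw, ← ι_res_le A U V hU hV hVU]
      rfl)
    (fun V => isOpenImmersion_res A U V.1 hU V.2.1 V.2.2.1)
  exact 𝒰.hom_ext a b (fun V => h V.1 V.2.1 V.2.2.1 V.2.2.2)

/-- glueing morphisms out of `Spec(A)` along the charts over a basis of affine opens -/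
theorem exists_desc_basis {Z : Scheme.{u}} (P : S.Opens → Prop)
    (hP : ∀ x : S, ∃ U : S.Opens, IsAffineOpen U ∧ P U ∧ x ∈ U)
    (hP' : ∀ U V : S.Opens, P U → V ≤ U → P V)
    (g : ∀ (U : S.Opens) (_ : IsAffineOpen U), P U → (Spec (A.presheaf.obj (op U)) ⟶ Z))
    (hg : ∀ (U V : S.Opens) (hU : IsAffineOpen U) (hV : IsAffineOpen V) (hPU : P U) (hVU : V ≤ U),
      Spec.map (A.presheaf.map (homOfLE hVU).op) ≫ g U hU hPU = g V hV (hP' U V hPU hVU)) :
    ∃ h : A.spec ⟶ Z, ∀ (U : S.Opens) (hU : IsAffineOpen U) (hPU : P U),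
      A.ι U hU ≫ h = g U hU hPU := by
  let 𝒰 : A.spec.OpenCover := Scheme.Cover.mkOfCovers {U : S.Opens // IsAffineOpen U ∧ P U}
    (fun U => Spec (A.presheaf.obj (op U.1))) (fun U => A.ι U.1 U.2.1)
    (fun x => by
      obtain ⟨U, hU, hPU, hx⟩ := hP (A.π.base x)
      obtain ⟨y, hy⟩ := exists_chart A x U hU hx
      exact ⟨⟨U, hU, hPU⟩, y, hy⟩)
    (fun U => inferInstance)
  have hf : ∀ U₁ U₂ : 𝒰.I₀, pullback.fst (𝒰.f U₁) (𝒰.f U₂) ≫ g U₁.1 U₁.2.1 U₁.2.2 =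
      pullback.snd (𝒰.f U₁) (𝒰.f U₂) ≫ g U₂.1 U₂.2.1 U₂.2.2 := by
    rintro ⟨U₁, hU₁, hP₁⟩ ⟨U₂, hU₂, hP₂⟩
    change pullback.fst (A.ι U₁ hU₁) (A.ι U₂ hU₂) ≫ g U₁ hU₁ hP₁ =
      pullback.snd (A.ι U₁ hU₁) (A.ι U₂ hU₂) ≫ g U₂ hU₂ hP₂
    -- a cover of the pullback by charts over small affine opens
    have key : ∀ y : ↥(pullback (A.ι U₁ hU₁) (A.ι U₂ hU₂)), ∃ (W : S.Opens) (hW : IsAffineOpen W)
        (h1 : W ≤ U₁) (h2 : W ≤ U₂) (w : Spec (A.presheaf.obj (op W))),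
        (pullback.lift (Spec.map (A.presheaf.map (homOfLE h1).op))
          (Spec.map (A.presheaf.map (homOfLE h2).op))
          (by rw [ι_res_le A U₁ W hU₁ hW h1, ι_res_le A U₂ W hU₂ hW h2]) :
          Spec (A.presheaf.obj (op W)) ⟶ pullback (A.ι U₁ hU₁) (A.ι U₂ hU₂)).base w = y := by
      intro y
      let x := (pullback.fst (A.ι U₁ hU₁) (A.ι U₂ hU₂) ≫ A.ι U₁ hU₁).base y
      have hx1 : A.π.base x ∈ U₁ := π_ι_mem A U₁ hU₁ _
      have hx2 : A.π.base x ∈ U₂ := by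
        have : x = (pullback.snd (A.ι U₁ hU₁) (A.ι U₂ hU₂) ≫ A.ι U₂ hU₂).base y := by
          simp only [x]; rw [pullback.condition]
        rw [this]
        exact π_ι_mem A U₂ hU₂ _
      obtain ⟨W, hW, hxW, hWU⟩ := Opens.isBasis_iff_nbhd.mp S.isBasis_affineOpens
        (show A.π.base x ∈ U₁ ⊓ U₂ from ⟨hx1, hx2⟩)
      have h1 : W ≤ U₁ := hWU.trans inf_le_left
      have h2 : W ≤ U₂ := hWU.trans inf_le_right
      obtain ⟨w, hw⟩ := exists_chart A x W hW hxW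
      refine ⟨W, hW, h1, h2, w, ?_⟩
      apply (pullback.fst (A.ι U₁ hU₁) (A.ι U₂ hU₂)).isOpenEmbedding.injective
      rw [← Scheme.Hom.comp_apply, pullback.lift_fst]
      apply (A.ι U₁ hU₁).isOpenEmbedding.injective
      rw [← Scheme.Hom.comp_apply, ι_res_le A U₁ W hU₁ hW h1, hw]
      rfl
    choose W hW h1 h2 w hw using key
    have hagree : ∀ y : ↥(pullback (A.ι U₁ hU₁) (A.ι U₂ hU₂)),
        (pullback.lift (Spec.map (A.presheaf.map (homOfLE (h1 y)).op))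
          (Spec.map (A.presheaf.map (homOfLE (h2 y)).op))
          (by rw [ι_res_le A U₁ (W y) hU₁ (hW y) (h1 y), ι_res_le A U₂ (W y) hU₂ (hW y) (h2 y)]) :
          Spec (A.presheaf.obj (op (W y))) ⟶ pullback (A.ι U₁ hU₁) (A.ι U₂ hU₂)) ≫
          pullback.fst (A.ι U₁ hU₁) (A.ι U₂ hU₂) ≫ g U₁ hU₁ hP₁ =
        (pullback.lift (Spec.map (A.presheaf.map (homOfLE (h1 y)).op))
          (Spec.map (A.presheaf.map (homOfLE (h2 y)).op))
          (by rw [ι_res_le A U₁ (W y) hU₁ (hW y) (h1 y), ι_res_le A U₂ (W y) hU₂ (hW y) (h2 y)]) :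
          Spec (A.presheaf.obj (op (W y))) ⟶ pullback (A.ι U₁ hU₁) (A.ι U₂ hU₂)) ≫
          pullback.snd (A.ι U₁ hU₁) (A.ι U₂ hU₂) ≫ g U₂ hU₂ hP₂ := by
      intro y
      rw [pullback.lift_fst_assoc, pullback.lift_snd_assoc, hg U₁ (W y) hU₁ (hW y) hP₁ (h1 y),
        hg U₂ (W y) hU₂ (hW y) hP₂ (h2 y)]
    let 𝒱 : (pullback (A.ι U₁ hU₁) (A.ι U₂ hU₂)).OpenCover :=
      Scheme.Cover.mkOfCovers ↥(pullback (A.ι U₁ hU₁) (A.ι U₂ hU₂))
      (fun y => Spec (A.presheaf.obj (op (W y))))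
      (fun y => pullback.lift (Spec.map (A.presheaf.map (homOfLE (h1 y)).op))
          (Spec.map (A.presheaf.map (homOfLE (h2 y)).op))
          (by rw [ι_res_le A U₁ (W y) hU₁ (hW y) (h1 y), ι_res_le A U₂ (W y) hU₂ (hW y) (h2 y)]))
      (fun y => ⟨y, w y, hw y⟩)
      (fun y => by
        have : IsOpenImmersion (pullback.lift (Spec.map (A.presheaf.map (homOfLE (h1 y)).op))
          (Spec.map (A.presheaf.map (homOfLE (h2 y)).op))
          (by rw [ι_res_le A U₁ (W y) hU₁ (hW y) (h1 y), ι_res_le A U₂ (W y) hU₂ (hW y) (h2 y)]) ≫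
            pullback.fst (A.ι U₁ hU₁) (A.ι U₂ hU₂)) := by
          rw [pullback.lift_fst]
          exact isOpenImmersion_res A U₁ (W y) hU₁ (hW y) (h1 y)
        exact IsOpenImmersion.of_comp _ (pullback.fst (A.ι U₁ hU₁) (A.ι U₂ hU₂)))
    exact 𝒱.hom_ext _ _ hagree
  refine ⟨𝒰.glueMorphisms (fun U => g U.1 U.2.1 U.2.2) hf, fun U hU hPU => ?_⟩
  exact 𝒰.ι_glueMorphisms (fun U => g U.1 U.2.1 U.2.2) hf ⟨U, hU, hPU⟩

end Groth.Agent.H4.RelSpecLib
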