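import Groth.Agent.H4.ConeAlg
import Groth.Agent.H4.ConeLib
import Groth.Agent.H4.RelProjLib
import Groth.Agent.S8272
import Groth.Agent.S8296
import Groth.Prelude.Def_RelProj2

set_option autoImplicit false

namespace Groth.Agent.H4.ConeImm

open CategoryTheory CategoryTheory.Limits AlgebraicGeometry TopologicalSpace Opposite
open HomogeneousLocalization
open Groth.Agent.H4 Groth.Agent.H4.RelSpecLib
open scoped HomogeneousIdeal

universe u

section General

theorem map_injective_of_eq {X : Scheme.{u}} {V V' : X.Opens} (e : V' = V) (h : V' ≤ V) :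
    Function.Injective (X.presheaf.map (homOfLE h).op).hom := by
  subst e
  have h1 : X.presheaf.map (homOfLE h).op = 𝟙 _ := by
    rw [← X.presheaf.map_id]; rfl
  rw [h1]
  exact fun _ _ h => h

theorem app_injective_of_comm {X Y X' : Scheme.{u}} (f : X ⟶ Y) (W : Y.Opens)
    (g' : X' ⟶ (W : Scheme.{u})) (j : X' ⟶ X) (w : g' ≫ W.ι = j ≫ f) (V : Y.Opens) (hV : V ≤ W)
    (hinj : Function.Injective (g'.app (W.ι ⁻¹ᵁ V)).hom) : Function.Injective (f.app V).hom := by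
  rw [injective_iff_map_eq_zero]
  intro s hs
  have e2 : ((j ≫ f).app V).hom s = 0 := by
    show (j.app (f ⁻¹ᵁ V)).hom ((f.app V).hom s) = 0
    rw [hs, map_zero]
  have h1 : ((g' ≫ W.ι).app V).hom s = 0 := by
    rw [Scheme.Hom.congr_app w V]
    show (X'.presheaf.map _).hom (((j ≫ f).app V).hom s) = 0
    rw [e2, map_zero]
  have h1' : (g'.app (W.ι ⁻¹ᵁ V)).hom ((W.ι.app V).hom s) = 0 := h1
  have h2 : (W.ι.app V).hom s = 0 := hinj (h1'.trans (map_zero _).symm)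
  have h3 : Function.Injective (W.ι.app V).hom := by
    rw [Scheme.Opens.ι_app]
    refine map_injective_of_eq ?_ _
    rw [Scheme.Hom.image_preimage_eq_opensRange_inf, Scheme.Opens.opensRange_ι]
    exact inf_eq_right.mpr hV
  exact h3 (h2.trans (map_zero _).symm)

theorem ker_eq_bot_of_forall {X Y : Scheme.{u}} (f : X ⟶ Y)
    (h : ∀ y : Y, ∃ V : Y.affineOpens, y ∈ V.1 ∧ Function.Injective (f.app V.1).hom) :
    f.ker = ⊥ := by
  let Uc : {V : Y.affineOpens // Function.Injective (f.app V.1).hom} → Y.affineOpens :=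
    Subtype.val
  have hcov : ⨆ j, (Uc j).1 = ⊤ := by
    rw [eq_top_iff]
    intro y _
    obtain ⟨V, hy, hV⟩ := h y
    exact Opens.mem_iSup.mpr ⟨⟨V, hV⟩, hy⟩
  refine Scheme.IdealSheafData.ext_of_iSup_eq_top Uc hcov fun j => ?_
  rw [Scheme.IdealSheafData.ideal_bot, Pi.bot_apply, eq_bot_iff]
  refine (f.ideal_ker_le (Uc j)).trans ?_
  rw [← eq_bot_iff, ← RingHom.injective_iff_ker_eq_bot]
  exact j.2

variable {A : Type u} [CommRing A] (𝒜 : ℕ → AddSubgroup A) [GradedRing 𝒜]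

theorem ker_basicOpen_ι {d : ℕ} (hd : 0 < d) (g : A) (hg : g ∈ 𝒜 d)
    (hnz : g ∈ nonZeroDivisors A) : (Proj.basicOpen 𝒜 g).ι.ker = ⊥ := by
  let Uc : (Σ i : PNat, 𝒜 i) → (Proj 𝒜).affineOpens := fun i =>
    ⟨Proj.basicOpen 𝒜 i.2.1, Proj.isAffineOpen_basicOpen 𝒜 i.2.1 i.2.2 i.1.2⟩
  have hU : ⨆ i, (Uc i).1 = ⊤ := by
    have := (Proj.affineOpenCover 𝒜).openCover.iSup_opensRange
    rw [← this]
    congr 1
    ext i : 1
    exact (Proj.opensRange_awayι 𝒜 i.2.1 i.2.2 i.1.2).symm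
  refine Scheme.IdealSheafData.ext_of_iSup_eq_top Uc hU fun i => ?_
  rw [Scheme.IdealSheafData.ideal_bot, Pi.bot_apply, eq_bot_iff]
  refine ((Proj.basicOpen 𝒜 g).ι.ideal_ker_le (Uc i)).trans ?_
  rw [← eq_bot_iff, ← RingHom.injective_iff_ker_eq_bot, Scheme.Opens.ι_app]
  refine Groth.Agent.S8272.inj_of_eq _ ?_ (Proj.basicOpen_mono 𝒜 _ _ ⟨g, rfl⟩)
    (Groth.Agent.S8272.res_injective 𝒜 i.2.2 i.1.2 hg hnz _)
  rw [Scheme.Hom.image_preimage_eq_opensRange_inf, Scheme.Opens.opensRange_ι, Proj.basicOpen_mul,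
    inf_comm]

theorem isAffineHom_awayι {d : ℕ} (hd : 0 < d) (g : A) (hg : g ∈ 𝒜 d) :
    IsAffineHom (Proj.awayι 𝒜 g hg hd) := by
  have h : IsAffineHom (Proj.awayι 𝒜 g hg hd ≫ Proj.toSpecZero 𝒜) := by
    rw [Proj.awayι_toSpecZero]; infer_instance
  exact IsAffineHom.of_comp (Proj.awayι 𝒜 g hg hd) (Proj.toSpecZero 𝒜)

theorem std_awayι {d : ℕ} (hd : 0 < d) (g : A) (hg : g ∈ 𝒜 d) (hnz : g ∈ nonZeroDivisors A) :
    IsSchemeTheoreticallyDominant (Proj.awayι 𝒜 g hg hd) := by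
  have : IsSchemeTheoreticallyDominant (Proj.basicOpen 𝒜 g).ι := ⟨ker_basicOpen_ι 𝒜 hd g hg hnz⟩
  show IsSchemeTheoreticallyDominant ((Proj.basicOpenIsoSpec 𝒜 g hg hd).inv ≫ (Proj.basicOpen 𝒜 g).ι)
  infer_instance

end General

section Emb

variable {Y P : Scheme.{u}} {𝒜 : RelProj.QCGrAlg Y} (p : P ⟶ Y)
  (chart : ∀ (U : Y.Opens) (hU : IsAffineOpen U),
    (((p ⁻¹ᵁ U : P.Opens) : Scheme.{u}) ≅ Proj (𝒜.deg U hU)))

theorem emb_mem (U : Y.Opens) (hU : IsAffineOpen U) (w : Proj (𝒜.deg U hU)) :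
    (RelProj.emb p chart U hU).base w ∈ p ⁻¹ᵁ U :=
  ((chart U hU).inv.base w).2

theorem exists_emb (x : P) (U : Y.Opens) (hU : IsAffineOpen U) (hx : p.base x ∈ U) :
    ∃ y : Proj (𝒜.deg U hU), (RelProj.emb p chart U hU).base y = x := by
  have hx' : x ∈ p ⁻¹ᵁ U := hx
  refine ⟨(chart U hU).hom.base ⟨x, hx'⟩, ?_⟩
  have h1 : (chart U hU).hom ≫ RelProj.emb p chart U hU = (p ⁻¹ᵁ U).ι := by
    unfold RelProj.emb; rw [Iso.hom_inv_id_assoc]
  calc (RelProj.emb p chart U hU).base ((chart U hU).hom.base ⟨x, hx'⟩)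
      = ((chart U hU).hom ≫ RelProj.emb p chart U hU).base ⟨x, hx'⟩ := rfl
    _ = (p ⁻¹ᵁ U).ι.base ⟨x, hx'⟩ := by rw [h1]
    _ = x := rfl

theorem irr_res (U W : Y.Opens) (hU : IsAffineOpen U) (hW : IsAffineOpen W) (hWU : W ≤ U)
    (r : Γ(Y, U)) (hr : W = Y.basicOpen r) :
    (𝒜.deg W hW)₊ ≤ ((𝒜.deg U hU)₊).map (𝒜.res hU hW hWU) := by
  subst hr; exact 𝒜.irrelevant_le_map U hU r

theorem emb_res (hP : RelProj.IsRelProj 𝒜 p chart) (U W : Y.Opens) (hU : IsAffineOpen U)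
    (hW : IsAffineOpen W) (hWU : W ≤ U) (r : Γ(Y, U)) (hr : W = Y.basicOpen r)
    (hirr : (𝒜.deg W hW)₊ ≤ ((𝒜.deg U hU)₊).map (𝒜.res hU hW hWU)) :
    Proj.map (𝒜.res hU hW hWU) hirr ≫ RelProj.emb p chart U hU = RelProj.emb p chart W hW := by
  subst hr
  exact RelProj.map_res_emb hP U hU r

end Emb

section Cone

variable {Y : Scheme.{u}} {𝒮 Sh : RelProj.QCGrAlg Y} {ι : 𝒮.toQCAlg ⟶ Sh.toQCAlg}
  {z : Sh.presheaf.obj (op ⊤)} (hz : RelCone.IsPolyOver 𝒮 Sh ι z)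
  (θ : ∀ (U : Y.Opens) (hU : IsAffineOpen U),
    CommRingCat.of (Away (Sh.deg U hU) (RelCone.restrictTop Sh z U)) ⟶ 𝒮.presheaf.obj (op U))

/-- the computation rule characterising the family `θ` -/
def Rule : Prop :=
  ∀ (U : Y.Opens) (hU : IsAffineOpen U) (k : ℕ) (a : 𝒮.presheaf.obj (op U)),
    (θ U hU).hom (ConeAlg.gk (RelProj.gradedHomAt ι hz.graded U hU) (RelCone.restrictTop Sh z U)
      (hz.deg_z U hU) k a) = GradedRing.proj (𝒮.deg U hU) k a

theorem hsurj (U : Y.Opens) (hU : IsAffineOpen U) :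
    Function.Surjective (Polynomial.eval₂RingHom (RelProj.gradedHomAt ι hz.graded U hU).toRingHom
      (RelCone.restrictTop Sh z U)) := (hz.bij U hU).2

theorem hinj (U : Y.Opens) (hU : IsAffineOpen U) :
    Function.Injective (Polynomial.eval₂RingHom (RelProj.gradedHomAt ι hz.graded U hU).toRingHom
      (RelCone.restrictTop Sh z U)) := (hz.bij U hU).1

theorem res_zU {U V : Y.Opens} (hU : IsAffineOpen U) (hV : IsAffineOpen V) (i : V ≤ U) :
    (Sh.res hU hV i) (RelCone.restrictTop Sh z U) = RelCone.restrictTop Sh z V := by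
  have h : Sh.presheaf.map (homOfLE (le_top : U ≤ ⊤)).op ≫ Sh.presheaf.map (homOfLE i).op =
      Sh.presheaf.map (homOfLE (le_top : V ≤ ⊤)).op := by
    rw [← Functor.map_comp]; rfl
  exact congrArg (fun t => t.hom z) h

include hz in
theorem ι_res {U V : Y.Opens} (hU : IsAffineOpen U) (hV : IsAffineOpen V) (i : V ≤ U)
    (a : 𝒮.presheaf.obj (op U)) :
    (Sh.res hU hV i) ((RelProj.gradedHomAt ι hz.graded U hU) a) =
      (RelProj.gradedHomAt ι hz.graded V hV) ((𝒮.res hU hV i) a) :=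
  (congrArg (fun t => t.hom a) (ι.hom.naturality (homOfLE i).op)).symm

variable (hθ : Rule hz θ)

include hθ in
theorem θ_bij (U : Y.Opens) (hU : IsAffineOpen U) : Function.Bijective (θ U hU).hom :=
  ⟨ConeAlg.θ_injective _ _ (hz.deg_z U hU) (θ U hU).hom (hθ U hU) (hsurj hz U hU),
    ConeAlg.θ_surjective _ _ (hz.deg_z U hU) (θ U hU).hom (hθ U hU)⟩

include hθ in
theorem isIso_θ (U : Y.Opens) (hU : IsAffineOpen U) : IsIso (θ U hU) :=
  (ConcreteCategory.isIso_iff_bijective _).mpr (θ_bij hz θ hθ U hU)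

include hθ in
theorem isIso_specθ (U : Y.Opens) (hU : IsAffineOpen U) : IsIso (Spec.map (θ U hU)) := by
  have := isIso_θ hz θ hθ U hU
  infer_instance

variable {PC : Scheme.{u}} (pC : PC ⟶ Y)
  (chartC : ∀ (U : Y.Opens) (hU : IsAffineOpen U),
    (((pC ⁻¹ᵁ U : PC.Opens) : Scheme.{u}) ≅ Proj (Sh.deg U hU)))

/-- the chartwise morphism into `pC⁻¹ U` -/
noncomputable def gl' (U : Y.Opens) (hU : IsAffineOpen U) :
    Spec (𝒮.presheaf.obj (op U)) ⟶ ((pC ⁻¹ᵁ U : PC.Opens) : Scheme.{u}) :=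
  Spec.map (θ U hU) ≫
    Proj.awayι (Sh.deg U hU) (RelCone.restrictTop Sh z U) (hz.deg_z U hU) one_pos ≫
      (chartC U hU).inv

/-- the chartwise morphism into `PC` -/
noncomputable def gl (U : Y.Opens) (hU : IsAffineOpen U) : Spec (𝒮.presheaf.obj (op U)) ⟶ PC :=
  Spec.map (θ U hU) ≫
    Proj.awayι (Sh.deg U hU) (RelCone.restrictTop Sh z U) (hz.deg_z U hU) one_pos ≫
      RelProj.emb pC chartC U hU

theorem gl'_ι (U : Y.Opens) (hU : IsAffineOpen U) :
    gl' hz θ pC chartC U hU ≫ (pC ⁻¹ᵁ U).ι = gl hz θ pC chartC U hU := by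
  unfold gl gl' RelProj.emb
  simp only [Category.assoc]

include hθ in
theorem gl_res (hPC : RelProj.IsRelProj Sh pC chartC) (U : Y.Opens) (hU : IsAffineOpen U)
    (r : Γ(Y, U)) :
    Spec.map (𝒮.presheaf.map (homOfLE (Y.basicOpen_le r)).op) ≫ gl hz θ pC chartC U hU =
      gl hz θ pC chartC (Y.basicOpen r) (hU.basicOpen r) := by
  have key := ConeAlg.spec_nat (RelProj.gradedHomAt ι hz.graded U hU) (RelCone.restrictTop Sh z U)
    (hz.deg_z U hU) (RelProj.gradedHomAt ι hz.graded (Y.basicOpen r) (hU.basicOpen r))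
    (𝒮.res hU (hU.basicOpen r) (Y.basicOpen_le r)) (Sh.res hU (hU.basicOpen r) (Y.basicOpen_le r))
    (ι_res hz hU (hU.basicOpen r) (Y.basicOpen_le r)) (hsurj hz U hU)
    (RelCone.restrictTop Sh z (Y.basicOpen r)) (res_zU hU (hU.basicOpen r) (Y.basicOpen_le r))
    (hz.deg_z _ (hU.basicOpen r)) (Sh.irrelevant_le_map U hU r)
    (θ U hU).hom (hθ U hU) (θ _ (hU.basicOpen r)).hom (hθ _ (hU.basicOpen r))
  have key' := congrArg (· ≫ RelProj.emb pC chartC U hU) key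
  simp only [Category.assoc] at key'
  rw [RelProj.map_res_emb hPC U hU r] at key'
  unfold gl
  exact key'.symm

include hθ in
theorem exists_i (hPC : RelProj.IsRelProj Sh pC chartC) :
    ∃ i : 𝒮.toQCAlg.spec ⟶ PC, ∀ (U : Y.Opens) (hU : IsAffineOpen U),
      𝒮.toQCAlg.ι U hU ≫ i = gl hz θ pC chartC U hU :=
  RelSpecLib.exists_desc 𝒮.toQCAlg (fun U hU => gl hz θ pC chartC U hU)
    (fun U hU r => gl_res hz θ hθ pC chartC hPC U hU r)

theorem fromZero_eq_gk (U : Y.Opens) (hU : IsAffineOpen U) (r : Γ(Y, U)) :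
    fromZeroRingHom (Sh.deg U hU) (Submonoid.powers (RelCone.restrictTop Sh z U))
        ((Sh.strZero U hU).hom r) =
      ConeAlg.gk (RelProj.gradedHomAt ι hz.graded U hU) (RelCone.restrictTop Sh z U)
        (hz.deg_z U hU) 0 ((𝒮.str.app (op U)).hom r) := by
  apply HomogeneousLocalization.val_injective
  rw [ConeAlg.val_gk, pow_zero, one_mul, ConeAlg.proj_of_mem _ (𝒮.str_mem U hU r)]
  have h1 : (fromZeroRingHom (Sh.deg U hU) (Submonoid.powers (RelCone.restrictTop Sh z U))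
      ((Sh.strZero U hU).hom r)).val =
      algebraMap _ _ ((Sh.str.app (op U)).hom r) := by
    rw [← Localization.mk_one_eq_algebraMap]; rfl
  rw [h1]
  congr 1
  exact (congrArg (fun t => (t.app (op U)).hom r) ι.comm).symm

variable (i : 𝒮.toQCAlg.spec ⟶ PC)
  (hi : ∀ (U : Y.Opens) (hU : IsAffineOpen U), 𝒮.toQCAlg.ι U hU ≫ i = gl hz θ pC chartC U hU)

include hθ hi in
theorem i_over (hPC : RelProj.IsRelProj Sh pC chartC) : i ≫ pC = 𝒮.toQCAlg.π := by
  refine RelSpecLib.hom_ext 𝒮.toQCAlg _ _ fun U hU => ?_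
  rw [← Category.assoc, hi U hU, 𝒮.toQCAlg.ι_π U hU]
  unfold gl RelProj.emb
  simp only [Category.assoc]
  rw [← hPC.chart_over U hU, Iso.inv_hom_id_assoc, Proj.awayι_toSpecZero_assoc,
    ← Spec.map_comp_assoc, ← Spec.map_comp_assoc]
  have e : Sh.strZero U hU ≫ CommRingCat.ofHom (fromZeroRingHom (Sh.deg U hU)
      (Submonoid.powers (RelCone.restrictTop Sh z U))) ≫ θ U hU = 𝒮.str.app (op U) := by
    ext r
    change (θ U hU).hom (fromZeroRingHom _ _ ((Sh.strZero U hU).hom r)) = (𝒮.str.app (op U)).hom r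
    rw [fromZero_eq_gk hz, hθ U hU, ConeAlg.proj_of_mem _ (𝒮.str_mem U hU r)]
  exact congrArg (fun t => Spec.map t ≫ hU.fromSpec) e

include hθ hi in
theorem isPullback_i (hPC : RelProj.IsRelProj Sh pC chartC) (U : Y.Opens) (hU : IsAffineOpen U) :
    IsPullback (gl' hz θ pC chartC U hU) (𝒮.toQCAlg.ι U hU) (pC ⁻¹ᵁ U).ι i := by
  apply IsOpenImmersion.isPullback
  · rw [hi U hU, gl'_ι]
  · rw [Scheme.Opens.opensRange_ι, ← Scheme.Hom.comp_preimage, i_over hz θ hθ pC chartC i hi hPC,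
      𝒮.toQCAlg.π_preimage U hU]

include hθ in
theorem isOpenImmersion_gl' (U : Y.Opens) (hU : IsAffineOpen U) :
    IsOpenImmersion (gl' hz θ pC chartC U hU) := by
  have := isIso_specθ hz θ hθ U hU
  unfold gl'
  infer_instance

include hθ in
theorem isAffineHom_gl' (U : Y.Opens) (hU : IsAffineOpen U) :
    IsAffineHom (gl' hz θ pC chartC U hU) := by
  have := isIso_specθ hz θ hθ U hU
  have := isAffineHom_awayι (Sh.deg U hU) one_pos (RelCone.restrictTop Sh z U) (hz.deg_z U hU)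
  unfold gl'
  infer_instance

include hθ in
theorem std_gl' (U : Y.Opens) (hU : IsAffineOpen U) :
    IsSchemeTheoreticallyDominant (gl' hz θ pC chartC U hU) := by
  have := isIso_specθ hz θ hθ U hU
  have := std_awayι (Sh.deg U hU) one_pos (RelCone.restrictTop Sh z U) (hz.deg_z U hU)
    (ConeAlg.z_mem_nonZeroDivisors _ _ (hinj hz U hU) (hsurj hz U hU))
  unfold gl'
  infer_instance

include hθ hi in
theorem isOpenImmersion_i (hPC : RelProj.IsRelProj Sh pC chartC) : IsOpenImmersion i :=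
  RelProjLib.of_isPullback_affine (Pr := @IsOpenImmersion) pC i
    (fun U _ => Spec (𝒮.presheaf.obj (op U))) (fun U hU => gl' hz θ pC chartC U hU)
    (fun U hU => 𝒮.toQCAlg.ι U hU) (fun U hU => isPullback_i hz θ hθ pC chartC i hi hPC U hU)
    (fun U hU => isOpenImmersion_gl' hz θ hθ pC chartC U hU)

include hθ hi in
theorem isAffineHom_i (hPC : RelProj.IsRelProj Sh pC chartC) : IsAffineHom i :=
  RelProjLib.of_isPullback_affine (Pr := @IsAffineHom) pC i
    (fun U _ => Spec (𝒮.presheaf.obj (op U))) (fun U hU => gl' hz θ pC chartC U hU)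
    (fun U hU => 𝒮.toQCAlg.ι U hU) (fun U hU => isPullback_i hz θ hθ pC chartC i hi hPC U hU)
    (fun U hU => isAffineHom_gl' hz θ hθ pC chartC U hU)

include hθ in
theorem exists_of_mem_basicOpen (U : Y.Opens) (hU : IsAffineOpen U) (y : Proj (Sh.deg U hU))
    (hy : y ∈ Proj.basicOpen (Sh.deg U hU) (RelCone.restrictTop Sh z U)) :
    ∃ v : Spec (𝒮.presheaf.obj (op U)), (Spec.map (θ U hU) ≫
      Proj.awayι (Sh.deg U hU) (RelCone.restrictTop Sh z U) (hz.deg_z U hU) one_pos).base v = y := by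
  rw [← Proj.opensRange_awayι (Sh.deg U hU) _ (hz.deg_z U hU) one_pos] at hy
  obtain ⟨w, rfl⟩ := hy
  have := isIso_specθ hz θ hθ U hU
  obtain ⟨v, rfl⟩ := (Spec.map (θ U hU)).homeomorph.surjective w
  exact ⟨v, rfl⟩

include hθ hi in
theorem emb_mem_range_iff (hPC : RelProj.IsRelProj Sh pC chartC) (U : Y.Opens)
    (hU : IsAffineOpen U) (y : Proj (Sh.deg U hU)) :
    (RelProj.emb pC chartC U hU).base y ∈ Set.range i.base ↔
      y ∈ Proj.basicOpen (Sh.deg U hU) (RelCone.restrictTop Sh z U) := by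
  constructor
  · rintro ⟨c, hc⟩
    have hcU : 𝒮.toQCAlg.π.base c ∈ U := by
      rw [← i_over hz θ hθ pC chartC i hi hPC]
      show pC.base (i.base c) ∈ U
      rw [hc]
      exact emb_mem pC chartC U hU y
    obtain ⟨v, rfl⟩ := RelSpecLib.exists_chart 𝒮.toQCAlg c U hU hcU
    have h1 : i.base ((𝒮.toQCAlg.ι U hU).base v) = (RelProj.emb pC chartC U hU).base
        ((Proj.awayι (Sh.deg U hU) (RelCone.restrictTop Sh z U) (hz.deg_z U hU) one_pos).base
          ((Spec.map (θ U hU)).base v)) :=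
      congrArg (fun k : Spec (𝒮.presheaf.obj (op U)) ⟶ PC => k.base v) (hi U hU)
    rw [h1] at hc
    have h2 := (RelProj.emb pC chartC U hU).isOpenEmbedding.injective hc
    rw [← h2, ← Proj.opensRange_awayι (Sh.deg U hU) _ (hz.deg_z U hU) one_pos]
    exact ⟨_, rfl⟩
  · intro hy
    obtain ⟨v, rfl⟩ := exists_of_mem_basicOpen hz θ hθ U hU y hy
    exact ⟨(𝒮.toQCAlg.ι U hU).base v,
      congrArg (fun k : Spec (𝒮.presheaf.obj (op U)) ⟶ PC => k.base v) (hi U hU)⟩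

include hθ hi in
theorem ker_i (hPC : RelProj.IsRelProj Sh pC chartC) : i.ker = ⊥ := by
  refine ker_eq_bot_of_forall i fun x => ?_
  obtain ⟨U, hU, hxU, -⟩ := Opens.isBasis_iff_nbhd.mp Y.isBasis_affineOpens
    (show pC.base x ∈ (⊤ : Y.Opens) from trivial)
  obtain ⟨y, rfl⟩ := exists_emb pC chartC x U hU hxU
  have hcov := (Proj.affineOpenCover (Sh.deg U hU)).openCover.iSup_opensRange
  have hy : y ∈ (⊤ : (Proj (Sh.deg U hU)).Opens) := trivial
  rw [← hcov] at hy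
  obtain ⟨j, hj⟩ := Opens.mem_iSup.mp hy
  have hj' : y ∈ Proj.basicOpen (Sh.deg U hU) j.2.1 := by
    rw [← Proj.opensRange_awayι (Sh.deg U hU) j.2.1 j.2.2 j.1.2]; exact hj
  have hVaff : IsAffineOpen ((RelProj.emb pC chartC U hU) ''ᵁ
      (Proj.basicOpen (Sh.deg U hU) j.2.1)) :=
    (Proj.isAffineOpen_basicOpen (Sh.deg U hU) j.2.1 j.2.2 j.1.2).image_of_isOpenImmersion _
  have hVW : (RelProj.emb pC chartC U hU) ''ᵁ (Proj.basicOpen (Sh.deg U hU) j.2.1) ≤ pC ⁻¹ᵁ U := by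
    rintro _ ⟨w, -, rfl⟩
    exact emb_mem pC chartC U hU w
  refine ⟨⟨_, hVaff⟩, ⟨y, hj', rfl⟩, ?_⟩
  have := std_gl' hz θ hθ pC chartC U hU
  have : QuasiCompact (gl' hz θ pC chartC U hU) := by
    have := isAffineHom_gl' hz θ hθ pC chartC U hU
    infer_instance
  exact app_injective_of_comm i (pC ⁻¹ᵁ U) (gl' hz θ pC chartC U hU) (𝒮.toQCAlg.ι U hU)
    (by rw [gl'_ι, hi U hU]) _ hVW (Scheme.Hom.app_injective _ _)

include hθ hi in
theorem range_eq (hPC : RelProj.IsRelProj Sh pC chartC) (Xz : PC.Opens)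
    (hXz : ∀ (U : Y.Opens) (hU : IsAffineOpen U), Xz ⊓ pC ⁻¹ᵁ U =
      (pC ⁻¹ᵁ U).ι ''ᵁ ((chartC U hU).hom ⁻¹ᵁ
        Proj.basicOpen (Sh.deg U hU) (RelCone.restrictTop Sh z U))) :
    Set.range i.base = (Xz : Set PC) := by
  ext x
  obtain ⟨U, hU, hxU, -⟩ := Opens.isBasis_iff_nbhd.mp Y.isBasis_affineOpens
    (show pC.base x ∈ (⊤ : Y.Opens) from trivial)
  obtain ⟨y, rfl⟩ := exists_emb pC chartC x U hU hxU
  rw [emb_mem_range_iff hz θ hθ pC chartC i hi hPC U hU y]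
  have h1 : (RelProj.emb pC chartC U hU).base y ∈ pC ⁻¹ᵁ U := emb_mem pC chartC U hU y
  have h3 : (chartC U hU).hom.base ((chartC U hU).inv.base y) = y := by
    rw [← Scheme.Hom.comp_apply, Iso.inv_hom_id]; rfl
  constructor
  · intro hy
    have h4 : (RelProj.emb pC chartC U hU).base y ∈ (pC ⁻¹ᵁ U).ι ''ᵁ ((chartC U hU).hom ⁻¹ᵁ
        Proj.basicOpen (Sh.deg U hU) (RelCone.restrictTop Sh z U)) := by
      refine ⟨(chartC U hU).inv.base y, ?_, rfl⟩
      show (chartC U hU).hom.base ((chartC U hU).inv.base y) ∈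
        Proj.basicOpen (Sh.deg U hU) (RelCone.restrictTop Sh z U)
      rw [h3]; exact hy
    rw [← hXz U hU] at h4
    exact h4.1
  · intro hx
    have h4 : (RelProj.emb pC chartC U hU).base y ∈ Xz ⊓ pC ⁻¹ᵁ U := ⟨hx, h1⟩
    rw [hXz U hU] at h4
    obtain ⟨w, hw, hwe⟩ := h4
    have h5 : w = (chartC U hU).inv.base y := (pC ⁻¹ᵁ U).ι.isOpenEmbedding.injective hwe
    subst h5
    rw [← h3]; exact hw

end Cone

end Groth.Agent.H4.ConeImm
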