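import Groth.Agent.H4.ProjQ6

set_option autoImplicit false

namespace Groth.Agent.H4.ProjTriv

open CategoryTheory CategoryTheory.Limits AlgebraicGeometry TopologicalSpace Opposite
open HomogeneousLocalization DirectSum
open Groth.Agent.H4 Groth.Agent.H4.RelSpecLib Groth.Agent.H4.ConeImm Groth.Agent.H4.ConeInf
open Groth.Agent.H4.ConeRetrAlg Groth.Agent.H4.ConeRetr Groth.Agent.H4.ConeRetr2
open Groth.Agent.H4.ProjQ Groth.Agent.H4.ProjQ2 Groth.Agent.H4.ProjQ4 Groth.Agent.H4.ProjQ5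
open Groth.Agent.H4.ProjQ6
open scoped HomogeneousIdeal

universe u

section Triv

variable (R : Type u) [CommRing R]

/-- the trivial grading: everything in degree `0` -/
def trivDeg : ℕ → AddSubgroup R := fun n => if n = 0 then ⊤ else ⊥

theorem mem_trivDeg_zero (a : R) : a ∈ trivDeg R 0 := by simp [trivDeg]

theorem eq_zero_of_mem_trivDeg {n : ℕ} (hn : n ≠ 0) {a : R} (ha : a ∈ trivDeg R n) : a = 0 := by
  simpa [trivDeg, hn] using ha

instance : SetLike.GradedMonoid (trivDeg R) where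
  one_mem := mem_trivDeg_zero R 1
  mul_mem := by
    intro i j a b ha hb
    by_cases hi : i = 0
    · by_cases hj : j = 0
      · subst hi hj; exact mem_trivDeg_zero R _
      · rw [eq_zero_of_mem_trivDeg R hj hb, mul_zero]; exact zero_mem _
    · rw [eq_zero_of_mem_trivDeg R hi ha, zero_mul]; exact zero_mem _

noncomputable instance : DirectSum.Decomposition (trivDeg R) :=
  DirectSum.Decomposition.ofAddHom (trivDeg R)
    ((DirectSum.of (fun n => trivDeg R n) 0).comp
      (AddMonoidHom.codRestrict (AddMonoidHom.id R) (trivDeg R 0) (mem_trivDeg_zero R)))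
    (by
      ext a
      simp [DirectSum.coeAddMonoidHom_of])
    (by
      apply DirectSum.addHom_ext
      intro n y
      by_cases hn : n = 0
      · subst hn
        simp only [AddMonoidHom.comp_apply, DirectSum.coeAddMonoidHom_of, AddMonoidHom.id_apply]
        congr 1
      · have hy : y = 0 := Subtype.ext (eq_zero_of_mem_trivDeg R hn y.2)
        subst hy
        simp
        exact map_zero (DirectSum.of (fun n => ↥(trivDeg R n)) 0))

noncomputable instance : GradedRing (trivDeg R) where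

end Triv

section TrivGr

variable {Y : Scheme.{u}} (𝒜 : RelSpec.QCAlg Y)

/-- a quasi-coherent algebra, trivially graded -/
noncomputable def trivGr : RelProj.QCGrAlg Y where
  toQCAlg := 𝒜
  deg U _ := trivDeg (𝒜.presheaf.obj (op U))
  graded U _ := inferInstance
  map_mem := by
    intro U V hU hV i d x hx
    by_cases hd : d = 0
    · subst hd; exact mem_trivDeg_zero _ _
    · rw [eq_zero_of_mem_trivDeg _ hd hx, map_zero]; exact zero_mem _
  str_mem U hU r := mem_trivDeg_zero _ _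

theorem isPolyOver_triv (Sh : RelProj.QCGrAlg Y) (ι : 𝒜 ⟶ Sh.toQCAlg)
    (hι : ∀ (U : Y.Opens) (hU : IsAffineOpen U) (a : 𝒜.presheaf.obj (op U)),
      (ι.hom.app (op U)).hom a ∈ Sh.deg U hU 0)
    (z : Sh.presheaf.obj (op ⊤))
    (hz : ∀ (U : Y.Opens) (hU : IsAffineOpen U),
      (Sh.presheaf.map (homOfLE le_top).op).hom z ∈ Sh.deg U hU 1)
    (hpoly : ∀ (U : Y.Opens) (hU : IsAffineOpen U),
      Function.Bijective (Polynomial.eval₂RingHom (ι.hom.app (op U)).hom
        ((Sh.presheaf.map (homOfLE le_top).op).hom z))) :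
    RelCone.IsPolyOver (trivGr 𝒜) Sh ι z where
  graded := by
    intro U hU d x hx
    by_cases hd : d = 0
    · subst hd; exact hι U hU x
    · rw [eq_zero_of_mem_trivDeg _ hd hx, map_zero]; exact zero_mem _
  deg_z := hz
  bij := hpoly

end TrivGr

theorem main_S12137 {Y P : Scheme.{u}} (𝒜 : RelSpec.QCAlg Y) (Sh : RelProj.QCGrAlg Y)
    (ι : 𝒜 ⟶ Sh.toQCAlg)
    (hι : ∀ (U : Y.Opens) (hU : IsAffineOpen U) (a : 𝒜.presheaf.obj (op U)), (ι.hom.app (op U)).hom a ∈ Sh.deg U hU 0)
    (z : Sh.presheaf.obj (op ⊤))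
    (hz : ∀ (U : Y.Opens) (hU : IsAffineOpen U), (Sh.presheaf.map (homOfLE le_top).op).hom z ∈ Sh.deg U hU 1)
    (hpoly : ∀ (U : Y.Opens) (hU : IsAffineOpen U),
      Function.Bijective (Polynomial.eval₂RingHom (ι.hom.app (op U)).hom ((Sh.presheaf.map (homOfLE le_top).op).hom z)))
    (p : P ⟶ Y)
    (chart : ∀ (U : Y.Opens) (hU : IsAffineOpen U), (((p ⁻¹ᵁ U : P.Opens) : Scheme.{u}) ≅ Proj (Sh.deg U hU)))
    (hP : RelProj.IsRelProj Sh p chart)
    (θ : ∀ (U : Y.Opens) (hU : IsAffineOpen U),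
      CommRingCat.of (HomogeneousLocalization.Away (Sh.deg U hU) ((Sh.presheaf.map (homOfLE le_top).op).hom z)) ⟶
        𝒜.presheaf.obj (op U))
    (hθ : ∀ (U : Y.Opens) (hU : IsAffineOpen U)
      (q : HomogeneousLocalization.Away (Sh.deg U hU) ((Sh.presheaf.map (homOfLE le_top).op).hom z))
      (k : ℕ) (a : 𝒜.presheaf.obj (op U)),
        q.val = Localization.mk ((ι.hom.app (op U)).hom a * (Sh.presheaf.map (homOfLE le_top).op).hom z ^ k)
          ⟨(Sh.presheaf.map (homOfLE le_top).op).hom z ^ k,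
            pow_mem (Submonoid.mem_powers ((Sh.presheaf.map (homOfLE le_top).op).hom z)) k⟩ →
        (θ U hU).hom q = a) :
    (∃! i : 𝒜.spec ⟶ P, ∀ (U : Y.Opens) (hU : IsAffineOpen U),
        𝒜.ι U hU ≫ i =
          Spec.map (θ U hU) ≫
            Proj.awayι (Sh.deg U hU) ((Sh.presheaf.map (homOfLE le_top).op).hom z) (hz U hU) one_pos ≫
              RelProj.emb p chart U hU) ∧
      ∀ i : 𝒜.spec ⟶ P, (∀ (U : Y.Opens) (hU : IsAffineOpen U),
        𝒜.ι U hU ≫ i =
          Spec.map (θ U hU) ≫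
            Proj.awayι (Sh.deg U hU) ((Sh.presheaf.map (homOfLE le_top).op).hom z) (hz U hU) one_pos ≫
              RelProj.emb p chart U hU) →
        IsIso i ∧ i ≫ p = 𝒜.π := by
  have hP' : RelCone.IsPolyOver (trivGr 𝒜) Sh ι z := isPolyOver_triv 𝒜 Sh ι hι z hz hpoly
  have hrule : ConeImm.Rule hP' θ := by
    intro U hU k a
    have ha : a ∈ (trivGr 𝒜).deg U hU 0 := mem_trivDeg_zero _ a
    by_cases hk : k = 0
    · subst hk
      rw [ConeAlg.proj_of_mem _ ha]
      apply hθ U hU _ 0 a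
      rw [ConeAlg.val_gk, pow_zero, one_mul, ConeAlg.proj_of_mem _ ha]
      show algebraMap _ (Localization.Away (RelCone.restrictTop Sh z U))
        ((ι.hom.app (op U)).hom a) = _
      rw [← Localization.mk_one_eq_algebraMap, Localization.mk_eq_mk_iff,
        Localization.r_iff_exists]
      exact ⟨1, by simp⟩
    · have h0 : GradedRing.proj ((trivGr 𝒜).deg U hU) k a = 0 :=
        ConeAlg.proj_of_mem_ne _ ha (Ne.symm hk)
      rw [ConeAlg.gk_eq_zero _ _ _ k a h0, h0, map_zero]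
  obtain ⟨i₀, hi₀⟩ := ConeImm.exists_i hP' θ hrule p chart hP
  refine ⟨⟨i₀, fun U hU => hi₀ U hU, fun i' hi' => ?_⟩, fun i hi => ?_⟩
  · exact RelSpecLib.hom_ext 𝒜 _ _ fun U hU => (hi' U hU).trans (hi₀ U hU).symm
  · have hi2 : ∀ (U : Y.Opens) (hU : IsAffineOpen U),
        (trivGr 𝒜).toQCAlg.ι U hU ≫ i = gl hP' θ p chart U hU := fun U hU => hi U hU
    have hoi : IsOpenImmersion i := ConeImm.isOpenImmersion_i hP' θ hrule p chart i hi2 hP
    refine ⟨?_, ConeImm.i_over hP' θ hrule p chart i hi2 hP⟩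
    rw [isIso_iff_isOpenImmersion_and_epi_base]
    refine ⟨hoi, ?_⟩
    rw [TopCat.epi_iff_surjective]
    intro x
    obtain ⟨U, hU, hxU, -⟩ := Opens.isBasis_iff_nbhd.mp Y.isBasis_affineOpens
      (show p.base x ∈ (⊤ : Y.Opens) from trivial)
    obtain ⟨y, rfl⟩ := exists_emb p chart x U hU hxU
    have hy : y ∈ Proj.basicOpen (Sh.deg U hU) (RelCone.restrictTop Sh z U) := by
      obtain ⟨n, hn, g₀, hg₀, hg₀y⟩ := exists_homog_basicOpen (Sh.deg U hU) y
      rcases z_or_ι_notMem (RelProj.gradedHomAt (𝒜 := trivGr 𝒜) (ℬ := Sh) ι hP'.graded U hU)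
        (RelCone.restrictTop Sh z U)
        (hP'.deg_z U hU) (ConeImm.hsurj hP' U hU) y.asHomogeneousIdeal.toIdeal hg₀ hg₀y with
        hzy | ⟨a, ha, hay⟩
      · exact hzy
      · exfalso
        have ha0 : a = 0 := eq_zero_of_mem_trivDeg _ (Nat.pos_iff_ne_zero.mp hn) ha
        subst ha0
        exact hay (by rw [map_zero]; exact zero_mem _)
    exact (ConeImm.emb_mem_range_iff hP' θ hrule p chart i hi2 hP U hU y).mpr hy

end Groth.Agent.H4.ProjTriv
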