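import Mathlib
import Groth.Agent.H4.ProjTriv
import Groth.Agent.S8258
import Groth.Agent.Lib.Helper6.Canon
import Groth.Agent.Lib.Helper6.PreAlg

set_option autoImplicit false
universe u
open CategoryTheory CategoryTheory.Limits AlgebraicGeometry TopologicalSpace Opposite
open Groth.Agent.H6.PA

namespace Groth.Agent.H4.FinProj
noncomputable section

/-! ## the grading of a polynomial ring by the degree in the variable -/

section PolyDeg
open Polynomial
variable (A : Type u) [CommRing A]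

def polyDeg (n : ℕ) : AddSubgroup A[X] := (LinearMap.range (monomial (R := A) n)).toAddSubgroup

lemma mem_polyDeg {n : ℕ} {p : A[X]} : p ∈ polyDeg A n ↔ ∃ a : A, monomial n a = p := by
  rw [polyDeg, Submodule.mem_toAddSubgroup, LinearMap.mem_range]

instance polyDeg_gradedMonoid : SetLike.GradedMonoid (polyDeg A) where
  one_mem := (mem_polyDeg A).mpr ⟨1, by simp⟩
  mul_mem := by
    intro i j p q hp hq
    obtain ⟨a, rfl⟩ := (mem_polyDeg A).mp hp
    obtain ⟨b, rfl⟩ := (mem_polyDeg A).mp hq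
    exact (mem_polyDeg A).mpr ⟨a * b, (monomial_mul_monomial i j a b).symm⟩

def dAux (n : ℕ) : A →+ polyDeg A n where
  toFun a := ⟨monomial n a, (mem_polyDeg A).mpr ⟨a, rfl⟩⟩
  map_zero' := Subtype.ext (by simp)
  map_add' a b := Subtype.ext (by simp)

def polyDecomp : A[X] →+ DirectSum ℕ (fun n => polyDeg A n) where
  toFun p := p.sum fun n a => DirectSum.of (fun n => polyDeg A n) n (dAux A n a)
  map_zero' := Polynomial.sum_zero_index _
  map_add' p q := Polynomial.sum_add_index p q _ (fun n => by simp) (fun n a b => by simp)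

instance polyDeg_decomposition : DirectSum.Decomposition (polyDeg A) where
  decompose' := polyDecomp A
  left_inv p := by
    show DirectSum.coeAddMonoidHom (polyDeg A)
      (p.sum fun n a => DirectSum.of (fun n => polyDeg A n) n (dAux A n a)) = p
    rw [Polynomial.sum_def, map_sum]
    simp only [DirectSum.coeAddMonoidHom_of]
    exact p.sum_monomial_eq
  right_inv d := by
    induction d using DirectSum.induction_on with
    | zero => simp
    | of n x =>
      obtain ⟨p, hp⟩ := x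
      obtain ⟨a, rfl⟩ := (mem_polyDeg A).mp hp
      rw [DirectSum.coeAddMonoidHom_of]
      show (monomial n a).sum (fun n a => DirectSum.of (fun n => polyDeg A n) n (dAux A n a)) = _
      rw [Polynomial.sum_monomial_index _ _ (by simp)]
      rfl
    | add x y hx hy => rw [map_add, map_add, hx, hy]

instance polyDeg_gradedRing : GradedRing (polyDeg A) where
  toGradedMonoid := inferInstance
  toDecomposition := inferInstance

end PolyDeg

/-! ## transport of a grading along a ring isomorphism -/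

section Transport
variable {R R' : Type u} [CommRing R] [CommRing R'] (e : R ≃+* R') (ℬ : ℕ → AddSubgroup R')
  [GradedRing ℬ]

def comapGr (n : ℕ) : AddSubgroup R := (ℬ n).comap e.toRingHom.toAddMonoidHom

lemma mem_comapGr {n : ℕ} {x : R} : x ∈ comapGr e ℬ n ↔ e x ∈ ℬ n := Iff.rfl

instance comapGr_gradedMonoid : SetLike.GradedMonoid (comapGr e ℬ) where
  one_mem := (mem_comapGr e ℬ).mpr (by rw [map_one]; exact SetLike.one_mem_graded ℬ)
  mul_mem := by
    intro i j a b ha hb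
    exact (mem_comapGr e ℬ).mpr (by
      rw [map_mul]
      exact SetLike.mul_mem_graded ((mem_comapGr e ℬ).mp ha) ((mem_comapGr e ℬ).mp hb))

def toComap (n : ℕ) : ℬ n →+ comapGr e ℬ n where
  toFun x := ⟨e.symm x, (mem_comapGr e ℬ).mpr (by rw [e.apply_symm_apply]; exact x.2)⟩
  map_zero' := Subtype.ext (by simp)
  map_add' x y := Subtype.ext (by simp)

def decompT : R →+ DirectSum ℕ (fun n => comapGr e ℬ n) :=
  (DirectSum.map (toComap e ℬ)).comp
    ((DirectSum.decomposeAddEquiv ℬ).toAddMonoidHom.comp e.toRingHom.toAddMonoidHom)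

lemma decompT_apply (r : R) :
    decompT e ℬ r = DirectSum.map (toComap e ℬ) (DirectSum.decompose ℬ (e r)) := rfl

lemma coe_map_toComap (d : DirectSum ℕ (fun n => ℬ n)) :
    DirectSum.coeAddMonoidHom (comapGr e ℬ) (DirectSum.map (toComap e ℬ) d) =
      e.symm (DirectSum.coeAddMonoidHom ℬ d) := by
  induction d using DirectSum.induction_on with
  | zero => simp
  | of n x =>
    rw [DirectSum.map_of, DirectSum.coeAddMonoidHom_of, DirectSum.coeAddMonoidHom_of]
    rfl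
  | add x y hx hy => rw [map_add, map_add, map_add, map_add, hx, hy]

instance comapGr_decomposition : DirectSum.Decomposition (comapGr e ℬ) where
  decompose' := decompT e ℬ
  left_inv r := by
    rw [decompT_apply, coe_map_toComap]
    have : DirectSum.coeAddMonoidHom ℬ (DirectSum.decompose ℬ (e r)) = e r :=
      (DirectSum.decompose ℬ).symm_apply_apply (e r)
    rw [this, e.symm_apply_apply]
  right_inv d := by
    induction d using DirectSum.induction_on with
    | zero => simp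
    | of n x =>
      rw [DirectSum.coeAddMonoidHom_of, decompT_apply]
      have hx : e (x : R) ∈ ℬ n := (mem_comapGr e ℬ).mp x.2
      rw [DirectSum.decompose_of_mem ℬ hx, DirectSum.map_of]
      congr 1
      exact Subtype.ext (e.symm_apply_apply _)
    | add x y hx hy => rw [map_add, map_add, hx, hy]

instance comapGr_gradedRing : GradedRing (comapGr e ℬ) where
  toGradedMonoid := inferInstance
  toDecomposition := inferInstance

end Transport

/-! ## the canonical map from presheaf data to the attached quasi-coherent algebra -/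

section ToSh
variable {S : Scheme.{u}} (A : PreAlg S)

def toSh : A.presheaf ⟶ A.sh.presheaf :=
  Functor.IsCoverDense.restrictHomEquivHom (G := Scheme.AffineZariskiSite.toOpensFunctor S)
    (K := Opens.grothendieckTopology S) (ℱ := A.presheaf)
    (ℱ' := (⟨A.π.base _* A.spec.presheaf, A.sh.isSheaf⟩ : TopCat.Sheaf CommRingCat.{u} S.carrier))
    (inv A.gammaRestrict)

theorem toSh_restrict :
    (Scheme.AffineZariskiSite.toOpensFunctor S).op.whiskerLeft (toSh A) = inv A.gammaRestrict :=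
  (Functor.IsCoverDense.restrictHomEquivHom (G := Scheme.AffineZariskiSite.toOpensFunctor S)
    (K := Opens.grothendieckTopology S) (ℱ := A.presheaf)
    (ℱ' := (⟨A.π.base _* A.spec.presheaf, A.sh.isSheaf⟩ :
      TopCat.Sheaf CommRingCat.{u} S.carrier))).symm_apply_apply _

theorem toSh_gammaAff (U : S.Opens) (hU : IsAffineOpen U) :
    (toSh A).app (op U) ≫ A.gammaAff U hU = 𝟙 _ := by
  have h := NatTrans.congr_app (toSh_restrict A) (op ⟨U, hU⟩)
  have h3 : (inv A.gammaRestrict).app (op ⟨U, hU⟩) ≫ A.gammaRestrict.app (op ⟨U, hU⟩) = 𝟙 _ :=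
    congrArg (fun t => NatTrans.app t (op ⟨U, hU⟩)) (IsIso.inv_hom_id A.gammaRestrict)
  exact (congrArg (fun t => t ≫ A.gammaRestrict.app (op ⟨U, hU⟩)) h).trans h3

theorem gammaAff_toSh (U : S.Opens) (hU : IsAffineOpen U) :
    A.gammaAff U hU ≫ (toSh A).app (op U) = 𝟙 _ := by
  have h := NatTrans.congr_app (toSh_restrict A) (op ⟨U, hU⟩)
  have h3 : A.gammaRestrict.app (op ⟨U, hU⟩) ≫ (inv A.gammaRestrict).app (op ⟨U, hU⟩) = 𝟙 _ :=
    congrArg (fun t => NatTrans.app t (op ⟨U, hU⟩)) (IsIso.hom_inv_id A.gammaRestrict)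
  exact (congrArg (fun t => A.gammaRestrict.app (op ⟨U, hU⟩) ≫ t) h).trans h3

theorem str_toSh : A.str ≫ toSh A = A.sh.str := by
  apply (Functor.IsCoverDense.restrictHomEquivHom (G := Scheme.AffineZariskiSite.toOpensFunctor S)
    (K := Opens.grothendieckTopology S) (ℱ := S.presheaf)
    (ℱ' := (⟨A.π.base _* A.spec.presheaf, A.sh.isSheaf⟩ :
      TopCat.Sheaf CommRingCat.{u} S.carrier))).symm.injective
  ext U : 2
  change A.str.app (op U.unop.1) ≫ (toSh A).app (op U.unop.1) = A.π.app U.unop.1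
  have h1 := A.π_app_gammaAff U.unop.1 U.unop.2
  have h2 := gammaAff_toSh A U.unop.1 U.unop.2
  calc A.str.app (op U.unop.1) ≫ (toSh A).app (op U.unop.1)
      = (A.π.app U.unop.1 ≫ A.gammaAff U.unop.1 U.unop.2) ≫ (toSh A).app (op U.unop.1) :=
        congrArg (fun t => t ≫ (toSh A).app (op U.unop.1)) h1.symm
    _ = A.π.app U.unop.1 ≫ (A.gammaAff U.unop.1 U.unop.2 ≫ (toSh A).app (op U.unop.1)) :=
        Category.assoc _ _ _
    _ = A.π.app U.unop.1 ≫ 𝟙 _ := congrArg (fun t => A.π.app U.unop.1 ≫ t) h2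
    _ = A.π.app U.unop.1 := Category.comp_id _

end ToSh

/-! ## the polynomial algebra over a quasi-coherent algebra -/

section Poly
open Polynomial
variable {Y : Scheme.{u}} (𝒜 : RelSpec.QCAlg Y)

def polyPre : TopCat.Presheaf CommRingCat.{u} Y.carrier where
  obj U := CommRingCat.of (𝒜.presheaf.obj U)[X]
  map i := CommRingCat.ofHom (mapRingHom (𝒜.presheaf.map i).hom)
  map_id U := by
    apply CommRingCat.hom_ext
    apply Polynomial.ringHom_ext
    · intro a; simp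
    · simp
  map_comp i j := by
    apply CommRingCat.hom_ext
    apply Polynomial.ringHom_ext
    · intro a; simp
    · simp

def polyStr : Y.presheaf ⟶ polyPre 𝒜 where
  app U := CommRingCat.ofHom ((C : _ →+* (𝒜.presheaf.obj U)[X]).comp (𝒜.str.app U).hom)
  naturality U V i := by
    ext a
    show C ((𝒜.str.app V).hom ((Y.presheaf.map i).hom a)) =
      Polynomial.map (𝒜.presheaf.map i).hom (C ((𝒜.str.app U).hom a))
    rw [Polynomial.map_C]
    congr 1
    exact congr($(𝒜.str.naturality i) a)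

def polyC : 𝒜.presheaf ⟶ polyPre 𝒜 where
  app U := CommRingCat.ofHom (C : _ →+* (𝒜.presheaf.obj U)[X])
  naturality U V i := by
    ext a
    show C ((𝒜.presheaf.map i).hom a) = Polynomial.map (𝒜.presheaf.map i).hom (C a)
    rw [Polynomial.map_C]

theorem polyPre_isQC : RelSpec.IsQC (polyPre 𝒜) (polyStr 𝒜) := by
  intro U hU r
  letI : Algebra (𝒜.presheaf.obj (op U)) (𝒜.presheaf.obj (op (Y.basicOpen r))) :=
    (𝒜.presheaf.map (homOfLE (Y.basicOpen_le r)).op).hom.toAlgebra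
  haveI : IsLocalization.Away ((𝒜.str.app (op U)).hom r)
      (𝒜.presheaf.obj (op (Y.basicOpen r))) := 𝒜.isQC U hU r
  have h := Polynomial.isLocalization (Submonoid.powers ((𝒜.str.app (op U)).hom r))
    (𝒜.presheaf.obj (op (Y.basicOpen r)))
  rw [Submonoid.map_powers] at h
  exact h

def polyPA : PreAlg Y := ⟨polyPre 𝒜, polyStr 𝒜, polyPre_isQC 𝒜⟩

def polyQ : RelSpec.QCAlg Y := (polyPA 𝒜).sh

def tau (U : Y.Opens) : (𝒜.presheaf.obj (op U))[X] →+* (polyQ 𝒜).presheaf.obj (op U) :=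
  ((toSh (polyPA 𝒜)).app (op U)).hom

def gam (U : Y.Opens) (hU : IsAffineOpen U) :
    (polyQ 𝒜).presheaf.obj (op U) →+* (𝒜.presheaf.obj (op U))[X] :=
  ((polyPA 𝒜).gammaAff U hU).hom

lemma gam_tau (U : Y.Opens) (hU : IsAffineOpen U) (p : (𝒜.presheaf.obj (op U))[X]) :
    gam 𝒜 U hU (tau 𝒜 U p) = p :=
  congr($(toSh_gammaAff (polyPA 𝒜) U hU) p)

lemma tau_gam (U : Y.Opens) (hU : IsAffineOpen U) (x : (polyQ 𝒜).presheaf.obj (op U)) :
    tau 𝒜 U (gam 𝒜 U hU x) = x :=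
  congr($(gammaAff_toSh (polyPA 𝒜) U hU) x)

def polyE (U : Y.Opens) (hU : IsAffineOpen U) :
    (polyQ 𝒜).presheaf.obj (op U) ≃+* (𝒜.presheaf.obj (op U))[X] :=
  RingEquiv.ofRingHom (gam 𝒜 U hU) (tau 𝒜 U) (RingHom.ext (gam_tau 𝒜 U hU))
    (RingHom.ext (tau_gam 𝒜 U hU))

lemma polyE_tau (U : Y.Opens) (hU : IsAffineOpen U) (p : (𝒜.presheaf.obj (op U))[X]) :
    polyE 𝒜 U hU (tau 𝒜 U p) = p := gam_tau 𝒜 U hU p

lemma tau_polyE (U : Y.Opens) (hU : IsAffineOpen U) (x : (polyQ 𝒜).presheaf.obj (op U)) :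
    tau 𝒜 U (polyE 𝒜 U hU x) = x := tau_gam 𝒜 U hU x

lemma polyE_str (U : Y.Opens) (hU : IsAffineOpen U) (r : Γ(Y, U)) :
    polyE 𝒜 U hU (((polyQ 𝒜).str.app (op U)).hom r) = C ((𝒜.str.app (op U)).hom r) :=
  congr($((polyPA 𝒜).π_app_gammaAff U hU) r)

lemma polyE_res {U V : Y.Opens} (hU : IsAffineOpen U) (hV : IsAffineOpen V) (i : V ≤ U)
    (x : (polyQ 𝒜).presheaf.obj (op U)) :
    polyE 𝒜 V hV (((polyQ 𝒜).presheaf.map (homOfLE i).op).hom x) =
      Polynomial.map (𝒜.presheaf.map (homOfLE i).op).hom (polyE 𝒜 U hU x) :=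
  congr($((polyPA 𝒜).gammaAff_res hU hV i) x)

lemma tau_res {U V : Y.Opens} (i : V ≤ U) (p : (𝒜.presheaf.obj (op U))[X]) :
    ((polyQ 𝒜).presheaf.map (homOfLE i).op).hom (tau 𝒜 U p) =
      tau 𝒜 V (Polynomial.map (𝒜.presheaf.map (homOfLE i).op).hom p) :=
  (congr($((toSh (polyPA 𝒜)).naturality (homOfLE i).op) p)).symm

abbrev pdeg (U : Y.Opens) (hU : IsAffineOpen U) :
    ℕ → AddSubgroup ((polyQ 𝒜).presheaf.obj (op U)) :=
  comapGr (polyE 𝒜 U hU) (polyDeg (𝒜.presheaf.obj (op U)))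

lemma mem_pdeg {U : Y.Opens} {hU : IsAffineOpen U} {n : ℕ} {x : (polyQ 𝒜).presheaf.obj (op U)} :
    x ∈ pdeg 𝒜 U hU n ↔ ∃ a : 𝒜.presheaf.obj (op U), monomial n a = polyE 𝒜 U hU x :=
  (mem_comapGr _ _).trans (mem_polyDeg _)

def polyGr : RelProj.QCGrAlg Y where
  toQCAlg := polyQ 𝒜
  deg U hU := pdeg 𝒜 U hU
  graded U hU := comapGr_gradedRing (polyE 𝒜 U hU) (polyDeg (𝒜.presheaf.obj (op U)))
  map_mem := by
    intro U V hU hV i d x hx
    obtain ⟨a, ha⟩ := (mem_pdeg 𝒜).mp hx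
    refine (mem_pdeg 𝒜).mpr ⟨(𝒜.presheaf.map (homOfLE i).op).hom a, ?_⟩
    rw [polyE_res 𝒜 hU hV i x, ← ha, Polynomial.map_monomial]
  str_mem := by
    intro U hU r
    refine (mem_pdeg 𝒜).mpr ⟨(𝒜.str.app (op U)).hom r, ?_⟩
    rw [polyE_str 𝒜 U hU r, Polynomial.monomial_zero_left]

def polyι : 𝒜 ⟶ polyQ 𝒜 :=
  ⟨polyC 𝒜 ≫ toSh (polyPA 𝒜), by
    have h1 : 𝒜.str ≫ polyC 𝒜 = polyStr 𝒜 := by
      ext U a
      rfl
    exact (Category.assoc _ _ _).symm.trans
      ((congrArg (fun t => t ≫ toSh (polyPA 𝒜)) h1).trans (str_toSh (polyPA 𝒜)))⟩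

def polyZ : (polyQ 𝒜).presheaf.obj (op ⊤) := tau 𝒜 ⊤ X

lemma restrict_polyZ (U : Y.Opens) :
    ((polyQ 𝒜).presheaf.map (homOfLE (le_top : U ≤ ⊤)).op).hom (polyZ 𝒜) = tau 𝒜 U X := by
  rw [polyZ, tau_res, Polynomial.map_X]

lemma polyι_app (U : Y.Opens) (a : 𝒜.presheaf.obj (op U)) :
    ((polyι 𝒜).hom.app (op U)).hom a = tau 𝒜 U (C a) := rfl

lemma polyι_mem (U : Y.Opens) (hU : IsAffineOpen U) (a : 𝒜.presheaf.obj (op U)) :
    ((polyι 𝒜).hom.app (op U)).hom a ∈ pdeg 𝒜 U hU 0 :=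
  (mem_pdeg 𝒜).mpr ⟨a, (Polynomial.monomial_zero_left).trans (polyE_tau 𝒜 U hU (C a)).symm⟩

lemma polyZ_mem (U : Y.Opens) (hU : IsAffineOpen U) :
    ((polyQ 𝒜).presheaf.map (homOfLE (le_top : U ≤ ⊤)).op).hom (polyZ 𝒜) ∈ pdeg 𝒜 U hU 1 := by
  refine (mem_pdeg 𝒜).mpr ⟨1, ?_⟩
  rw [restrict_polyZ, polyE_tau, Polynomial.monomial_one_one_eq_X]

lemma poly_bij (U : Y.Opens) (hU : IsAffineOpen U) :
    Function.Bijective (Polynomial.eval₂RingHom ((polyι 𝒜).hom.app (op U)).hom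
      (((polyQ 𝒜).presheaf.map (homOfLE (le_top : U ≤ ⊤)).op).hom (polyZ 𝒜))) := by
  have heq : Polynomial.eval₂RingHom ((polyι 𝒜).hom.app (op U)).hom
      (((polyQ 𝒜).presheaf.map (homOfLE (le_top : U ≤ ⊤)).op).hom (polyZ 𝒜)) = tau 𝒜 U := by
    apply Polynomial.ringHom_ext
    · intro a
      exact (Polynomial.eval₂_C _ _).trans (polyι_app 𝒜 U a)
    · exact (Polynomial.eval₂_X _ _).trans (restrict_polyZ 𝒜 U)
  rw [heq]
  refine ⟨fun p q h => ?_, fun x => ⟨polyE 𝒜 U hU x, tau_polyE 𝒜 U hU x⟩⟩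
  have := congrArg (polyE 𝒜 U hU) h
  rwa [polyE_tau, polyE_tau] at this

lemma poly_genDegOne_aux (U : Y.Opens) (hU : IsAffineOpen U) :
    Subring.closure ((pdeg 𝒜 U hU 0 : Set ((polyQ 𝒜).presheaf.obj (op U))) ∪
      (pdeg 𝒜 U hU 1 : Set ((polyQ 𝒜).presheaf.obj (op U)))) = ⊤ := by
  rw [eq_top_iff]
  intro x _
  have hx := tau_polyE 𝒜 U hU x
  rw [← hx]
  generalize polyE 𝒜 U hU x = p
  induction p using Polynomial.induction_on' with
  | add p q hp hq => rw [map_add]; exact Subring.add_mem _ hp hq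
  | monomial n a =>
    rw [← Polynomial.C_mul_X_pow_eq_monomial, map_mul, map_pow]
    apply Subring.mul_mem
    · apply Subring.subset_closure
      left
      exact (mem_pdeg 𝒜).mpr
        ⟨a, (Polynomial.monomial_zero_left).trans (polyE_tau 𝒜 U hU (C a)).symm⟩
    · apply Subring.pow_mem
      apply Subring.subset_closure
      right
      exact (mem_pdeg 𝒜).mpr
        ⟨1, (Polynomial.monomial_one_one_eq_X).trans (polyE_tau 𝒜 U hU X).symm⟩

lemma poly_genDegOne : (polyGr 𝒜).IsGenDegOne := fun U hU => poly_genDegOne_aux 𝒜 U hU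

lemma poly_ftDeg_aux
    (hfin : ∀ (U : Y.Opens) (_ : IsAffineOpen U), (𝒜.str.app (op U)).hom.Finite)
    (U : Y.Opens) (hU : IsAffineOpen U) :
    ∃ T : Finset ((polyQ 𝒜).presheaf.obj (op U)),
      (↑T : Set ((polyQ 𝒜).presheaf.obj (op U))) ⊆
        (pdeg 𝒜 U hU 1 : Set ((polyQ 𝒜).presheaf.obj (op U))) ∧
      ∀ x ∈ pdeg 𝒜 U hU 1, ∃ c : ((polyQ 𝒜).presheaf.obj (op U)) → Γ(Y, U),
        x = ∑ t ∈ T, ((polyQ 𝒜).str.app (op U)).hom (c t) * t := by
  letI : Algebra Γ(Y, U) (𝒜.presheaf.obj (op U)) := (𝒜.str.app (op U)).hom.toAlgebra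
  haveI : Module.Finite Γ(Y, U) (𝒜.presheaf.obj (op U)) := hfin U hU
  obtain ⟨S₀, hS₀⟩ := (Module.Finite.fg_top : (⊤ : Submodule Γ(Y, U) (𝒜.presheaf.obj (op U))).FG)
  classical
  let g : 𝒜.presheaf.obj (op U) → (polyQ 𝒜).presheaf.obj (op U) :=
    fun b => tau 𝒜 U (monomial 1 b)
  have hEg : ∀ b, polyE 𝒜 U hU (g b) = monomial 1 b := fun b => polyE_tau 𝒜 U hU _
  have hg : Function.Injective g := by
    intro b b' h
    have := congrArg (polyE 𝒜 U hU) h
    rw [hEg, hEg] at this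
    exact Polynomial.monomial_injective 1 this
  refine ⟨S₀.image g, ?_, ?_⟩
  · intro t ht
    obtain ⟨b, -, rfl⟩ := Finset.mem_image.mp (Finset.mem_coe.mp ht)
    exact (mem_pdeg 𝒜).mpr ⟨b, (hEg b).symm⟩
  · intro x hx
    obtain ⟨a, ha⟩ := (mem_pdeg 𝒜).mp hx
    have ha_span : a ∈ Submodule.span Γ(Y, U) (S₀ : Set (𝒜.presheaf.obj (op U))) := by
      rw [hS₀]; trivial
    obtain ⟨c, -, hc⟩ := Submodule.mem_span_finset.mp ha_span
    refine ⟨fun t => c ((polyE 𝒜 U hU t).coeff 1), ?_⟩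
    rw [Finset.sum_image (fun b _ b' _ h => hg h)]
    apply (polyE 𝒜 U hU).injective
    have hterm : ∀ b ∈ S₀, polyE 𝒜 U hU
        (((polyQ 𝒜).str.app (op U)).hom (c ((polyE 𝒜 U hU (g b)).coeff 1)) * g b) =
        monomial 1 (c b • b) := by
      intro b _
      rw [map_mul, hEg, Polynomial.coeff_monomial, if_pos rfl, polyE_str,
        Polynomial.C_mul_monomial]
      exact congrArg (monomial 1) (Algebra.smul_def (c b) b).symm
    rw [map_sum, Finset.sum_congr rfl hterm, ← ha, ← hc, map_sum]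

lemma poly_ftDeg
    (hfin : ∀ (U : Y.Opens) (_ : IsAffineOpen U), (𝒜.str.app (op U)).hom.Finite) :
    (polyGr 𝒜).IsFTDeg 1 := fun U hU => poly_ftDeg_aux 𝒜 hfin U hU

theorem exists_proj_of_finite
    (hfin : ∀ (U : Y.Opens) (_ : IsAffineOpen U), (𝒜.str.app (op U)).hom.Finite) :
    ∃ (𝒮 : RelProj.QCGrAlg Y) (P : Scheme.{u}) (p : P ⟶ Y)
      (chart : ∀ (U : Y.Opens) (hU : IsAffineOpen U),
        ((p ⁻¹ᵁ U : P.Opens) : Scheme.{u}) ≅ Proj (𝒮.deg U hU))
      (e : 𝒜.spec ≅ P), 𝒮.IsGenDegOne ∧ 𝒮.IsFTDeg 1 ∧ RelProj.IsRelProj 𝒮 p chart ∧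
        e.hom ≫ p = 𝒜.π := by
  obtain ⟨P, p, chart, hP⟩ := Groth.Agent.S8258.result (polyGr 𝒜)
  have hPoly : RelCone.IsPolyOver (Groth.Agent.H4.ProjTriv.trivGr 𝒜) (polyGr 𝒜) (polyι 𝒜)
      (polyZ 𝒜) :=
    Groth.Agent.H4.ProjTriv.isPolyOver_triv 𝒜 (polyGr 𝒜) (polyι 𝒜) (polyι_mem 𝒜) (polyZ 𝒜)
      (polyZ_mem 𝒜) (poly_bij 𝒜)
  have key := Groth.Agent.H4.ProjTriv.main_S12137 𝒜 (polyGr 𝒜) (polyι 𝒜) (polyι_mem 𝒜)
    (polyZ 𝒜) (polyZ_mem 𝒜) (poly_bij 𝒜) p chart hP
    (fun U hU => CommRingCat.ofHom (hPoly.awayZToBase U hU)) (by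
      intro U hU q k a hq
      show hPoly.awayZToBase U hU q = a
      have e0 := hPoly.awayZToBase_of_val U hU q _ k hq
      have e2 := hPoly.evalOne_z U hU
      refine e0.trans ?_
      rw [map_mul, map_pow, e2, one_pow, mul_one]
      exact hPoly.evalOne_ι U hU a)
  obtain ⟨⟨i, hi, -⟩, hall⟩ := key
  obtain ⟨hiso, hip⟩ := hall i hi
  haveI := hiso
  exact ⟨polyGr 𝒜, P, p, chart, asIso i, poly_genDegOne 𝒜, poly_ftDeg 𝒜 hfin, hP, hip⟩

end Poly

theorem main_S4452 {X Y : Scheme.{u}} (f : X ⟶ Y) [IsFinite f] : RelProj.IsProjective f := by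
  obtain ⟨𝒮, P, p, chart, e, h1, h2, h3, h4⟩ :=
    exists_proj_of_finite (RelSpec.QCAlg.directImage f) (fun U hU => IsFinite.finite_app f U hU)
  refine ⟨𝒮, P, p, chart, asIso (Groth.Agent.H6.Canon.canon f) ≪≫ e, h1, h2, h3, ?_⟩
  rw [Iso.trans_hom, asIso_hom, Category.assoc, h4]
  exact Groth.Agent.H6.Canon.canon_π f

end
end Groth.Agent.H4.FinProj
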