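import Mathlib
import Groth.Agent.H4.FinProj
import Groth.Agent.H4.RelProjEx
import Groth.Agent.Lib.Helper9.Misc.BLA15
import Groth.Agent.Lib.Helper6.PreAlg

set_option autoImplicit false
set_option linter.style.haveILetI false
set_option linter.unusedSectionVars false
set_option linter.unusedVariables false
universe u
open CategoryTheory CategoryTheory.Limits AlgebraicGeometry TopologicalSpace Opposite
open Groth.Agent.H6.PA

namespace Groth.Agent.H4.BlowProj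
noncomputable section

open Groth.Agent.H4.FinProj (toSh toSh_gammaAff gammaAff_toSh str_toSh comapGr mem_comapGr
  comapGr_gradedRing)

/-! ## algebra of Rees algebras -/

section ReesAlg
open Polynomial
variable {A B : Type u} [CommRing A] [CommRing B]

/-- the map induced on Rees algebras. -/
def reesMap (φ : A →+* B) (I : Ideal A) (I' : Ideal B) (h : I.map φ ≤ I') :
    reesAlgebra I →+* reesAlgebra I' where
  toFun p := ⟨Polynomial.map φ p.1, by
    rw [mem_reesAlgebra_iff]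
    intro i
    rw [Polynomial.coeff_map]
    have hp : p.1.coeff i ∈ I ^ i := (mem_reesAlgebra_iff I p.1).mp p.2 i
    have h2 : φ (p.1.coeff i) ∈ (I ^ i).map φ := Ideal.mem_map_of_mem φ hp
    rw [Ideal.map_pow] at h2
    exact Ideal.pow_right_mono h i h2⟩
  map_one' := Subtype.ext (by
    show Polynomial.map φ (1 : A[X]) = 1
    exact Polynomial.map_one φ)
  map_mul' p q := Subtype.ext (by
    show Polynomial.map φ (p.1 * q.1) = Polynomial.map φ p.1 * Polynomial.map φ q.1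
    exact Polynomial.map_mul φ)
  map_zero' := Subtype.ext (by
    show Polynomial.map φ (0 : A[X]) = 0
    exact Polynomial.map_zero φ)
  map_add' p q := Subtype.ext (by
    show Polynomial.map φ (p.1 + q.1) = Polynomial.map φ p.1 + Polynomial.map φ q.1
    exact Polynomial.map_add φ)

lemma reesMap_coe (φ : A →+* B) (I : Ideal A) (I' : Ideal B) (h : I.map φ ≤ I')
    (p : reesAlgebra I) : ((reesMap φ I I' h p : reesAlgebra I') : B[X]) = Polynomial.map φ p.1 :=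
  rfl

/-- constants in the Rees algebra. -/
def reesC (I : Ideal A) : A →+* reesAlgebra I where
  toFun a := ⟨C a, by
    rw [Polynomial.C_eq_algebraMap]
    exact Subalgebra.algebraMap_mem _ a⟩
  map_one' := Subtype.ext (by
    show (C (1 : A) : A[X]) = 1
    exact C_1)
  map_mul' a b := Subtype.ext (by
    show (C (a * b) : A[X]) = C a * C b
    exact C_mul)
  map_zero' := Subtype.ext (by
    show (C (0 : A) : A[X]) = 0
    exact C_0)
  map_add' a b := Subtype.ext (by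
    show (C (a + b) : A[X]) = C a + C b
    exact C_add)

lemma reesC_coe (I : Ideal A) (a : A) : ((reesC I a : reesAlgebra I) : A[X]) = C a := rfl

lemma reesC_pow_coe (I : Ideal A) (a : A) (K : ℕ) :
    ((reesC I a ^ K : reesAlgebra I) : A[X]) = C (a ^ K) := by
  rw [← map_pow]; rfl

theorem rees_isLocalization (r : A) [Algebra A B] [IsLocalization.Away r B] (I : Ideal A)
    (I' : Ideal B) (hI' : I.map (algebraMap A B) = I') :
    @IsLocalization.Away (reesAlgebra I) _ (reesC I r) (reesAlgebra I') _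
      (reesMap (algebraMap A B) I I' hI'.le).toAlgebra := by
  letI : Algebra (reesAlgebra I) (reesAlgebra I') :=
    (reesMap (algebraMap A B) I I' hI'.le).toAlgebra
  have hunit : IsUnit (algebraMap A B r) := IsLocalization.Away.algebraMap_isUnit r
  refine (isLocalization_iff _ _).mpr ⟨?_, ?_, ?_⟩
  · rintro ⟨_, k, rfl⟩
    show IsUnit (reesMap (algebraMap A B) I I' hI'.le (reesC I r ^ k))
    rw [map_pow]
    apply IsUnit.pow
    have e : reesMap (algebraMap A B) I I' hI'.le (reesC I r) = reesC I' (algebraMap A B r) :=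
      Subtype.ext (by
        show Polynomial.map (algebraMap A B) (C r) = C (algebraMap A B r)
        exact Polynomial.map_C (algebraMap A B))
    rw [e]
    exact hunit.map (reesC I')
  · intro z
    have hz : ∀ i, ∃ (a : A) (k : ℕ), a ∈ I ^ i ∧
        z.1.coeff i * algebraMap A B r ^ k = algebraMap A B a := by
      intro i
      have h1 : z.1.coeff i ∈ (I ^ i).map (algebraMap A B) := by
        rw [Ideal.map_pow, hI']
        exact (mem_reesAlgebra_iff I' z.1).mp z.2 i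
      obtain ⟨⟨⟨a, ha⟩, ⟨_, k, rfl⟩⟩, h⟩ :=
        (IsLocalization.mem_map_algebraMap_iff (Submonoid.powers r) B).mp h1
      refine ⟨a, k, ha, ?_⟩
      rw [← map_pow]
      exact h
    choose a k ha hk using hz
    classical
    obtain ⟨K, hK⟩ : ∃ K, K = z.1.support.sup k := ⟨_, rfl⟩
    have hle : ∀ i ∈ z.1.support, k i ≤ K := fun i hi => hK ▸ Finset.le_sup hi
    have hq : (∑ i ∈ z.1.support, monomial i (a i * r ^ (K - k i))) ∈ reesAlgebra I := by
      apply Subalgebra.sum_mem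
      intro i _
      exact reesAlgebra.monomial_mem.mpr (Ideal.mul_mem_right _ _ (ha i))
    refine ⟨(⟨_, hq⟩, ⟨reesC I r ^ K, K, rfl⟩), ?_⟩
    apply Subtype.ext
    show z.1 * Polynomial.map (algebraMap A B) ((reesC I r ^ K : reesAlgebra I) : A[X]) =
      Polynomial.map (algebraMap A B) (∑ i ∈ z.1.support, monomial i (a i * r ^ (K - k i)))
    rw [reesC_pow_coe, Polynomial.map_C]
    ext i
    rw [Polynomial.coeff_mul_C, Polynomial.coeff_map, Polynomial.finset_sum_coeff]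
    simp only [Polynomial.coeff_monomial]
    rw [Finset.sum_ite_eq']
    split_ifs with hi
    · rw [map_mul, map_pow, map_pow, ← hk i, mul_assoc, ← pow_add,
        Nat.add_sub_cancel' (hle i hi)]
    · rw [Polynomial.notMem_support_iff.mp hi, zero_mul, map_zero]
  · intro x y hxy
    have hxy' : Polynomial.map (algebraMap A B) x.1 = Polynomial.map (algebraMap A B) y.1 :=
      congrArg Subtype.val hxy
    have hc : ∀ i, ∃ k : ℕ, r ^ k * x.1.coeff i = r ^ k * y.1.coeff i := by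
      intro i
      have h1 : algebraMap A B (x.1.coeff i) = algebraMap A B (y.1.coeff i) := by
        rw [← Polynomial.coeff_map, ← Polynomial.coeff_map, hxy']
      obtain ⟨⟨_, k, rfl⟩, hk⟩ := (IsLocalization.eq_iff_exists (Submonoid.powers r) B).mp h1
      exact ⟨k, hk⟩
    choose k hk using hc
    classical
    obtain ⟨K, hK⟩ : ∃ K, K = (x.1.support ∪ y.1.support).sup k := ⟨_, rfl⟩
    refine ⟨⟨reesC I r ^ K, K, rfl⟩, ?_⟩
    apply Subtype.ext
    show ((reesC I r ^ K : reesAlgebra I) : A[X]) * x.1 =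
      ((reesC I r ^ K : reesAlgebra I) : A[X]) * y.1
    rw [reesC_pow_coe]
    ext i
    rw [Polynomial.coeff_C_mul, Polynomial.coeff_C_mul]
    by_cases hi : i ∈ x.1.support ∪ y.1.support
    · have hle : k i ≤ K := hK ▸ Finset.le_sup hi
      have hpow : r ^ K = r ^ (K - k i) * r ^ k i := by
        rw [← pow_add, Nat.sub_add_cancel hle]
      rw [hpow, mul_assoc, mul_assoc, hk i]
    · rw [Finset.mem_union, not_or] at hi
      rw [Polynomial.notMem_support_iff.mp hi.1, Polynomial.notMem_support_iff.mp hi.2]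

end ReesAlg

/-! ## from a grading by submodules to a grading by additive subgroups -/

section Conv
variable {R S : Type u} [CommRing R] [CommRing S] [Algebra R S] (𝒜 : ℕ → Submodule R S)
  [GradedAlgebra 𝒜]

def toAG (n : ℕ) : AddSubgroup S := (𝒜 n).toAddSubgroup

lemma mem_toAG {n : ℕ} {x : S} : x ∈ toAG 𝒜 n ↔ x ∈ 𝒜 n := Iff.rfl

instance toAG_gradedMonoid : SetLike.GradedMonoid (toAG 𝒜) where
  one_mem := (mem_toAG 𝒜).mpr (SetLike.one_mem_graded 𝒜)
  mul_mem := by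
    intro i j a b ha hb
    exact (mem_toAG 𝒜).mpr (SetLike.mul_mem_graded ((mem_toAG 𝒜).mp ha) ((mem_toAG 𝒜).mp hb))

def toAGhom (n : ℕ) : 𝒜 n →+ toAG 𝒜 n where
  toFun x := ⟨x.1, (mem_toAG 𝒜).mpr x.2⟩
  map_zero' := rfl
  map_add' _ _ := rfl

def decompAG : S →+ DirectSum ℕ (fun n => toAG 𝒜 n) :=
  (DirectSum.map (toAGhom 𝒜)).comp (DirectSum.decomposeAddEquiv 𝒜).toAddMonoidHom

lemma decompAG_apply (s : S) :
    decompAG 𝒜 s = DirectSum.map (toAGhom 𝒜) (DirectSum.decompose 𝒜 s) := rfl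

lemma coe_map_toAGhom (d : DirectSum ℕ (fun n => 𝒜 n)) :
    DirectSum.coeAddMonoidHom (toAG 𝒜) (DirectSum.map (toAGhom 𝒜) d) =
      DirectSum.coeAddMonoidHom 𝒜 d := by
  induction d using DirectSum.induction_on with
  | zero => simp
  | of n x =>
    rw [DirectSum.map_of, DirectSum.coeAddMonoidHom_of, DirectSum.coeAddMonoidHom_of]
    rfl
  | add x y hx hy => rw [map_add, map_add, map_add, hx, hy]

instance toAG_decomposition : DirectSum.Decomposition (toAG 𝒜) where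
  decompose' := decompAG 𝒜
  left_inv s := by
    rw [decompAG_apply, coe_map_toAGhom]
    exact (DirectSum.decompose 𝒜).symm_apply_apply s
  right_inv d := by
    induction d using DirectSum.induction_on with
    | zero => simp
    | of n x =>
      rw [DirectSum.coeAddMonoidHom_of, decompAG_apply]
      have hx : (x : S) ∈ 𝒜 n := (mem_toAG 𝒜).mp x.2
      rw [DirectSum.decompose_of_mem 𝒜 hx, DirectSum.map_of]
      rfl
    | add x y hx hy => rw [map_add, map_add, hx, hy]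

instance toAG_gradedRing : GradedRing (toAG 𝒜) where
  toGradedMonoid := inferInstance
  toDecomposition := inferInstance

end Conv

section ReesGen
open Polynomial
variable {A : Type u} [CommRing A] (I : Ideal A)

lemma rees_closure_eq_top :
    Subring.closure ((toAG (Rees.deg (reesAlgebra I)) 0 : Set (reesAlgebra I)) ∪
      (toAG (Rees.deg (reesAlgebra I)) 1 : Set (reesAlgebra I))) = ⊤ := by
  rw [eq_top_iff]
  rintro ⟨q, hq⟩ -
  have hq' : q ∈ Algebra.adjoin A (Submodule.map (monomial 1 : A →ₗ[A] A[X]) I : Set A[X]) := by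
    rw [adjoin_monomial_eq_reesAlgebra]; exact hq
  revert hq
  induction hq' using Algebra.adjoin_induction with
  | mem x hx =>
    intro hq
    apply Subring.subset_closure
    right
    obtain ⟨a, ha, rfl⟩ := Submodule.mem_map.mp hx
    show ∀ m : ℕ, m ≠ 1 → (monomial 1 a : A[X]).coeff m = 0
    intro m hm
    rw [coeff_monomial, if_neg (Ne.symm hm)]
  | algebraMap r =>
    intro hq
    apply Subring.subset_closure
    left
    show ∀ m : ℕ, m ≠ 0 → (algebraMap A A[X] r).coeff m = 0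
    intro m hm
    rw [← Polynomial.C_eq_algebraMap, coeff_C, if_neg hm]
  | add x y hx hy ihx ihy =>
    intro hq
    have hx' : x ∈ reesAlgebra I := by rw [← adjoin_monomial_eq_reesAlgebra]; exact hx
    have hy' : y ∈ reesAlgebra I := by rw [← adjoin_monomial_eq_reesAlgebra]; exact hy
    have e : (⟨x + y, hq⟩ : reesAlgebra I) = ⟨x, hx'⟩ + ⟨y, hy'⟩ := rfl
    rw [e]
    exact Subring.add_mem _ (ihx hx') (ihy hy')
  | mul x y hx hy ihx ihy =>
    intro hq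
    have hx' : x ∈ reesAlgebra I := by rw [← adjoin_monomial_eq_reesAlgebra]; exact hx
    have hy' : y ∈ reesAlgebra I := by rw [← adjoin_monomial_eq_reesAlgebra]; exact hy
    have e : (⟨x * y, hq⟩ : reesAlgebra I) = ⟨x, hx'⟩ * ⟨y, hy'⟩ := rfl
    rw [e]
    exact Subring.mul_mem _ (ihx hx') (ihy hy')

end ReesGen

/-! ## the Rees algebra of an ideal sheaf -/

section Sheaf
open Polynomial
variable {X : Scheme.{u}} (𝓘 : X.IdealSheafData)

/-- sections of the ideal sheaf over an arbitrary open. -/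
def JJ (U : X.Opens) : Ideal Γ(X, U) :=
  ⨅ (V : X.affineOpens) (h : V.1 ≤ U), (𝓘.ideal V).comap (X.presheaf.map (homOfLE h).op).hom

lemma mem_JJ {U : X.Opens} {s : Γ(X, U)} : s ∈ JJ 𝓘 U ↔
    ∀ (V : X.affineOpens) (h : V.1 ≤ U), (X.presheaf.map (homOfLE h).op).hom s ∈ 𝓘.ideal V := by
  simp only [JJ, Ideal.mem_iInf, Ideal.mem_comap]

lemma JJ_affine (U : X.affineOpens) : JJ 𝓘 U.1 = 𝓘.ideal U := by
  apply le_antisymm
  · intro s hs
    have h1 := (mem_JJ 𝓘).mp hs U le_rfl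
    have h2 : (X.presheaf.map (homOfLE (le_refl U.1)).op).hom s = s :=
      congr($(X.presheaf.map_id (op U.1)) s)
    rw [h2] at h1
    exact h1
  · intro s hs
    rw [mem_JJ]
    intro V h
    exact 𝓘.ideal_le_comap_ideal (U := V) (V := U) h hs

lemma JJ_map_le {U V : X.Opens} (h : V ≤ U) :
    (JJ 𝓘 U).map (X.presheaf.map (homOfLE h).op).hom ≤ JJ 𝓘 V := by
  rw [Ideal.map_le_iff_le_comap]
  intro s hs
  rw [Ideal.mem_comap, mem_JJ]
  intro W hW
  have h1 := (mem_JJ 𝓘).mp hs W (hW.trans h)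
  have e : (X.presheaf.map (homOfLE hW).op).hom ((X.presheaf.map (homOfLE h).op).hom s) =
      (X.presheaf.map (homOfLE (hW.trans h)).op).hom s :=
    (congr($(X.presheaf.map_comp (homOfLE h).op (homOfLE hW).op) s)).symm
  rw [e]
  exact h1

lemma JJ_map_le' {U V : (X.Opens)ᵒᵖ} (i : U ⟶ V) :
    (JJ 𝓘 U.unop).map (X.presheaf.map i).hom ≤ JJ 𝓘 V.unop :=
  JJ_map_le 𝓘 (leOfHom i.unop)

def reesPre : TopCat.Presheaf CommRingCat.{u} X.carrier where
  obj U := CommRingCat.of (reesAlgebra (JJ 𝓘 U.unop))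
  map {U V} i := CommRingCat.ofHom
    (reesMap (X.presheaf.map i).hom (JJ 𝓘 U.unop) (JJ 𝓘 V.unop) (JJ_map_le' 𝓘 i))
  map_id U := by
    apply CommRingCat.hom_ext
    apply RingHom.ext
    intro (p : reesAlgebra (JJ 𝓘 U.unop))
    apply Subtype.ext
    show Polynomial.map (X.presheaf.map (𝟙 U)).hom p.1 = p.1
    have h : (X.presheaf.map (𝟙 U)).hom = RingHom.id _ :=
      congrArg CommRingCat.Hom.hom (X.presheaf.map_id U)
    rw [h, Polynomial.map_id]
  map_comp {U V W} i j := by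
    apply CommRingCat.hom_ext
    apply RingHom.ext
    intro (p : reesAlgebra (JJ 𝓘 U.unop))
    apply Subtype.ext
    show Polynomial.map (X.presheaf.map (i ≫ j)).hom p.1 =
      Polynomial.map (X.presheaf.map j).hom (Polynomial.map (X.presheaf.map i).hom p.1)
    rw [Polynomial.map_map]
    exact congrArg (fun f => Polynomial.map f p.1)
      (congrArg CommRingCat.Hom.hom (X.presheaf.map_comp i j))

def reesStr : X.presheaf ⟶ reesPre 𝓘 where
  app U := CommRingCat.ofHom (reesC (JJ 𝓘 U.unop))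
  naturality U V i := by
    apply CommRingCat.hom_ext
    apply RingHom.ext
    intro a
    apply Subtype.ext
    show (C ((X.presheaf.map i).hom a) : Γ(X, V.unop)[X]) =
      Polynomial.map (X.presheaf.map i).hom (C a)
    rw [Polynomial.map_C]

theorem reesPre_isQC : RelSpec.IsQC (reesPre 𝓘) (reesStr 𝓘) := by
  intro U hU r
  haveI : IsLocalization.Away r Γ(X, X.basicOpen r) := hU.isLocalization_basicOpen r
  have hI' : (JJ 𝓘 U).map (algebraMap Γ(X, U) Γ(X, X.basicOpen r)) = JJ 𝓘 (X.basicOpen r) := by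
    rw [JJ_affine 𝓘 ⟨U, hU⟩, JJ_affine 𝓘 ⟨X.basicOpen r, hU.basicOpen r⟩]
    exact 𝓘.map_ideal_basicOpen ⟨U, hU⟩ r
  exact rees_isLocalization r (JJ 𝓘 U) (JJ 𝓘 (X.basicOpen r)) hI'

def reesPA : PreAlg X := ⟨reesPre 𝓘, reesStr 𝓘, reesPre_isQC 𝓘⟩

def reesQ : RelSpec.QCAlg X := (reesPA 𝓘).sh

def rT (U : X.Opens) : reesAlgebra (JJ 𝓘 U) →+* (reesQ 𝓘).presheaf.obj (op U) :=
  ((toSh (reesPA 𝓘)).app (op U)).hom

def rG (U : X.Opens) (hU : IsAffineOpen U) :
    (reesQ 𝓘).presheaf.obj (op U) →+* reesAlgebra (JJ 𝓘 U) :=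
  ((reesPA 𝓘).gammaAff U hU).hom

lemma rG_rT (U : X.Opens) (hU : IsAffineOpen U) (p : reesAlgebra (JJ 𝓘 U)) :
    rG 𝓘 U hU (rT 𝓘 U p) = p :=
  congr($(toSh_gammaAff (reesPA 𝓘) U hU) p)

lemma rT_rG (U : X.Opens) (hU : IsAffineOpen U) (x : (reesQ 𝓘).presheaf.obj (op U)) :
    rT 𝓘 U (rG 𝓘 U hU x) = x :=
  congr($(gammaAff_toSh (reesPA 𝓘) U hU) x)

def rE (U : X.Opens) (hU : IsAffineOpen U) :
    (reesQ 𝓘).presheaf.obj (op U) ≃+* reesAlgebra (JJ 𝓘 U) :=
  RingEquiv.ofRingHom (rG 𝓘 U hU) (rT 𝓘 U) (RingHom.ext (rG_rT 𝓘 U hU))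
    (RingHom.ext (rT_rG 𝓘 U hU))

lemma rE_rT (U : X.Opens) (hU : IsAffineOpen U) (p : reesAlgebra (JJ 𝓘 U)) :
    rE 𝓘 U hU (rT 𝓘 U p) = p := rG_rT 𝓘 U hU p

lemma rT_rE (U : X.Opens) (hU : IsAffineOpen U) (x : (reesQ 𝓘).presheaf.obj (op U)) :
    rT 𝓘 U (rE 𝓘 U hU x) = x := rT_rG 𝓘 U hU x

lemma rE_str (U : X.Opens) (hU : IsAffineOpen U) (r : Γ(X, U)) :
    rE 𝓘 U hU (((reesQ 𝓘).str.app (op U)).hom r) = reesC (JJ 𝓘 U) r :=
  congr($((reesPA 𝓘).π_app_gammaAff U hU) r)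

lemma rE_res {U V : X.Opens} (hU : IsAffineOpen U) (hV : IsAffineOpen V) (i : V ≤ U)
    (x : (reesQ 𝓘).presheaf.obj (op U)) :
    rE 𝓘 V hV (((reesQ 𝓘).presheaf.map (homOfLE i).op).hom x) =
      reesMap (X.presheaf.map (homOfLE i).op).hom (JJ 𝓘 U) (JJ 𝓘 V) (JJ_map_le 𝓘 i)
        (rE 𝓘 U hU x) :=
  congr($((reesPA 𝓘).gammaAff_res hU hV i) x)

lemma rT_str (U : X.Opens) (r : Γ(X, U)) :
    rT 𝓘 U (reesC (JJ 𝓘 U) r) = ((reesQ 𝓘).str.app (op U)).hom r :=
  congr($(NatTrans.congr_app (str_toSh (reesPA 𝓘)) (op U)) r)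

/-- the underlying polynomial of a section over an affine open. -/
def rV (U : X.Opens) (hU : IsAffineOpen U) : (reesQ 𝓘).presheaf.obj (op U) →+* Γ(X, U)[X] :=
  (reesAlgebra (JJ 𝓘 U)).val.toRingHom.comp (rE 𝓘 U hU).toRingHom

lemma rV_apply (U : X.Opens) (hU : IsAffineOpen U) (x : (reesQ 𝓘).presheaf.obj (op U)) :
    rV 𝓘 U hU x = (rE 𝓘 U hU x).1 := rfl

lemma rV_injective (U : X.Opens) (hU : IsAffineOpen U) : Function.Injective (rV 𝓘 U hU) :=
  fun x y h => (rE 𝓘 U hU).injective (Subtype.ext h)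

lemma rV_rT (U : X.Opens) (hU : IsAffineOpen U) (p : reesAlgebra (JJ 𝓘 U)) :
    rV 𝓘 U hU (rT 𝓘 U p) = p.1 := congrArg Subtype.val (rE_rT 𝓘 U hU p)

lemma rV_str (U : X.Opens) (hU : IsAffineOpen U) (r : Γ(X, U)) :
    rV 𝓘 U hU (((reesQ 𝓘).str.app (op U)).hom r) = C r :=
  congrArg Subtype.val (rE_str 𝓘 U hU r)

lemma rV_res {U V : X.Opens} (hU : IsAffineOpen U) (hV : IsAffineOpen V) (i : V ≤ U)
    (x : (reesQ 𝓘).presheaf.obj (op U)) :
    rV 𝓘 V hV (((reesQ 𝓘).presheaf.map (homOfLE i).op).hom x) =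
      Polynomial.map (X.presheaf.map (homOfLE i).op).hom (rV 𝓘 U hU x) :=
  congrArg Subtype.val (rE_res 𝓘 hU hV i x)

lemma rV_mem (U : X.Opens) (hU : IsAffineOpen U) (x : (reesQ 𝓘).presheaf.obj (op U)) :
    rV 𝓘 U hU x ∈ reesAlgebra (JJ 𝓘 U) := (rE 𝓘 U hU x).2

abbrev rdeg (U : X.Opens) (hU : IsAffineOpen U) :
    ℕ → AddSubgroup ((reesQ 𝓘).presheaf.obj (op U)) :=
  comapGr (rE 𝓘 U hU) (toAG (Rees.deg (reesAlgebra (JJ 𝓘 U))))

lemma mem_rdeg {U : X.Opens} {hU : IsAffineOpen U} {n : ℕ}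
    {x : (reesQ 𝓘).presheaf.obj (op U)} :
    x ∈ rdeg 𝓘 U hU n ↔ ∀ m : ℕ, m ≠ n → (rV 𝓘 U hU x).coeff m = 0 := Iff.rfl

@[reducible] def reesGrAlg : RelProj.QCGrAlg X where
  toQCAlg := reesQ 𝓘
  deg U hU := rdeg 𝓘 U hU
  graded U hU := comapGr_gradedRing (rE 𝓘 U hU) (toAG (Rees.deg (reesAlgebra (JJ 𝓘 U))))
  map_mem := by
    intro U V hU hV i d x hx
    refine (mem_rdeg 𝓘).mpr ?_
    intro m hm
    rw [rV_res 𝓘 hU hV i x, Polynomial.coeff_map, (mem_rdeg 𝓘).mp hx m hm, map_zero]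
  str_mem := by
    intro U hU r
    refine (mem_rdeg 𝓘).mpr ?_
    intro m hm
    rw [rV_str, Polynomial.coeff_C, if_neg hm]

lemma rees_genDegOne_aux (U : X.Opens) (hU : IsAffineOpen U) :
    Subring.closure ((rdeg 𝓘 U hU 0 : Set ((reesQ 𝓘).presheaf.obj (op U))) ∪
      (rdeg 𝓘 U hU 1 : Set ((reesQ 𝓘).presheaf.obj (op U)))) = ⊤ := by
  rw [eq_top_iff]
  intro x _
  have h1 : rE 𝓘 U hU x ∈ Subring.closure
      ((toAG (Rees.deg (reesAlgebra (JJ 𝓘 U))) 0 : Set (reesAlgebra (JJ 𝓘 U))) ∪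
        (toAG (Rees.deg (reesAlgebra (JJ 𝓘 U))) 1 : Set (reesAlgebra (JJ 𝓘 U)))) := by
    rw [rees_closure_eq_top]; trivial
  have h2 : x ∈ (Subring.closure
      ((toAG (Rees.deg (reesAlgebra (JJ 𝓘 U))) 0 : Set (reesAlgebra (JJ 𝓘 U))) ∪
        (toAG (Rees.deg (reesAlgebra (JJ 𝓘 U))) 1 : Set (reesAlgebra (JJ 𝓘 U))))).map
        (rE 𝓘 U hU).symm.toRingHom :=
    Subring.mem_map.mpr ⟨rE 𝓘 U hU x, h1, (rE 𝓘 U hU).symm_apply_apply x⟩
  rw [RingHom.map_closure] at h2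
  refine Subring.closure_mono ?_ h2
  rintro _ ⟨g, hg, rfl⟩
  rcases hg with hg | hg
  · left
    show rE 𝓘 U hU ((rE 𝓘 U hU).symm g) ∈ toAG (Rees.deg (reesAlgebra (JJ 𝓘 U))) 0
    rw [RingEquiv.apply_symm_apply]; exact hg
  · right
    show rE 𝓘 U hU ((rE 𝓘 U hU).symm g) ∈ toAG (Rees.deg (reesAlgebra (JJ 𝓘 U))) 1
    rw [RingEquiv.apply_symm_apply]; exact hg

lemma rees_genDegOne : (reesGrAlg 𝓘).IsGenDegOne := fun U hU => rees_genDegOne_aux 𝓘 U hU

open Classical in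
/-- the degree-one section attached to a section of the ideal. -/
def gen1 (U : X.Opens) (a : Γ(X, U)) : (reesQ 𝓘).presheaf.obj (op U) :=
  if h : a ∈ JJ 𝓘 U then
    rT 𝓘 U ⟨monomial 1 a, reesAlgebra.monomial_mem.mpr (by rwa [pow_one])⟩
  else 0

open Classical in
lemma rV_gen1 (U : X.Opens) (hU : IsAffineOpen U) (a : Γ(X, U)) (ha : a ∈ JJ 𝓘 U) :
    rV 𝓘 U hU (gen1 𝓘 U a) = monomial 1 a := by
  rw [gen1, dif_pos ha]
  exact rV_rT 𝓘 U hU _

lemma rees_ftDeg_aux (h𝓘 : BlowUp.IsFiniteTypeIdeal 𝓘) (U : X.Opens) (hU : IsAffineOpen U) :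
    ∃ T : Finset ((reesQ 𝓘).presheaf.obj (op U)),
      (↑T : Set ((reesQ 𝓘).presheaf.obj (op U))) ⊆
        (rdeg 𝓘 U hU 1 : Set ((reesQ 𝓘).presheaf.obj (op U))) ∧
      ∀ x ∈ rdeg 𝓘 U hU 1, ∃ c : ((reesQ 𝓘).presheaf.obj (op U)) → Γ(X, U),
        x = ∑ t ∈ T, ((reesQ 𝓘).str.app (op U)).hom (c t) * t := by
  classical
  have hfg : (JJ 𝓘 U).FG := by
    rw [JJ_affine 𝓘 ⟨U, hU⟩]; exact h𝓘 ⟨U, hU⟩
  obtain ⟨s, hs⟩ := hfg
  have hsI : ∀ a ∈ s, a ∈ JJ 𝓘 U := fun a ha => hs ▸ Ideal.subset_span (Finset.mem_coe.mpr ha)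
  have hg : Set.InjOn (gen1 𝓘 U) (↑s : Set Γ(X, U)) := by
    intro a ha a' ha' h
    have h' := congrArg (rV 𝓘 U hU) h
    rw [rV_gen1 𝓘 U hU a (hsI a ha), rV_gen1 𝓘 U hU a' (hsI a' ha')] at h'
    exact Polynomial.monomial_injective 1 h'
  refine ⟨s.image (gen1 𝓘 U), ?_, ?_⟩
  · intro t ht
    obtain ⟨a, ha, rfl⟩ := Finset.mem_image.mp (Finset.mem_coe.mp ht)
    refine (mem_rdeg 𝓘).mpr ?_
    intro m hm
    rw [rV_gen1 𝓘 U hU a (hsI a ha), coeff_monomial, if_neg (Ne.symm hm)]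
  · intro x hx
    have hx' := (mem_rdeg 𝓘).mp hx
    have hb : (rV 𝓘 U hU x).coeff 1 ∈ JJ 𝓘 U := by
      have := (mem_reesAlgebra_iff _ _).mp (rV_mem 𝓘 U hU x) 1
      rwa [pow_one] at this
    have hxm : rV 𝓘 U hU x = monomial 1 ((rV 𝓘 U hU x).coeff 1) := by
      ext m
      rw [coeff_monomial]
      split_ifs with h
      · subst h; rfl
      · exact hx' m (Ne.symm h)
    rw [← hs] at hb
    obtain ⟨c, -, hc⟩ := Submodule.mem_span_finset.mp hb
    refine ⟨fun t => c ((rV 𝓘 U hU t).coeff 1), ?_⟩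
    rw [Finset.sum_image hg]
    apply rV_injective 𝓘 U hU
    rw [map_sum, hxm, ← hc, map_sum]
    apply Finset.sum_congr rfl
    intro a ha
    beta_reduce
    rw [map_mul, rV_str, rV_gen1 𝓘 U hU a (hsI a ha), coeff_monomial, if_pos rfl,
      C_mul_monomial, smul_eq_mul]

lemma rees_ftDeg (h𝓘 : BlowUp.IsFiniteTypeIdeal 𝓘) : (reesGrAlg 𝓘).IsFTDeg 1 :=
  fun U hU => rees_ftDeg_aux 𝓘 h𝓘 U hU

/-! ## the charts are blow-ups -/

section Chart
variable (U : X.Opens) (hU : IsAffineOpen U)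

def gTo : (Rees.deg (reesAlgebra (JJ 𝓘 U))) →+*ᵍ ((reesGrAlg 𝓘).deg U hU) where
  __ := rT 𝓘 U
  map_mem {n p} hp := by
    show rE 𝓘 U hU (rT 𝓘 U p) ∈ Rees.deg (reesAlgebra (JJ 𝓘 U)) n
    rw [rE_rT]; exact hp

def gFrom : ((reesGrAlg 𝓘).deg U hU) →+*ᵍ (Rees.deg (reesAlgebra (JJ 𝓘 U))) where
  __ := (rE 𝓘 U hU).toRingHom
  map_mem {n x} hx := hx

lemma gTo_comp_gFrom : (gTo 𝓘 U hU).comp (gFrom 𝓘 U hU) = GradedRingHom.id _ := by
  ext x : 1
  exact rT_rE 𝓘 U hU x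

lemma gFrom_comp_gTo : (gFrom 𝓘 U hU).comp (gTo 𝓘 U hU) = GradedRingHom.id _ := by
  ext p : 1
  exact rE_rT 𝓘 U hU p

lemma comap_isoSpec_symm :
    (𝓘.comap U.ι).comap hU.isoSpec.symm.hom =
      Scheme.IdealSheafData.ofIdealTop
        ((JJ 𝓘 U).map (Scheme.ΓSpecIso (CommRingCat.of Γ(X, U))).inv.hom) := by
  have h1 : (𝓘.comap U.ι).comap hU.isoSpec.symm.hom = 𝓘.comap hU.fromSpec :=
    (Scheme.IdealSheafData.comap_comp 𝓘 hU.isoSpec.symm.hom U.ι).symm
  rw [h1]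
  apply Scheme.IdealSheafData.ext_of_isAffine
  have e : (⊤ : (Spec Γ(X, U)).Opens) ≤ hU.fromSpec ⁻¹ᵁ U := hU.fromSpec_preimage_self.ge
  have happ : hU.fromSpec.appLE U ⊤ e =
      (Scheme.ΓSpecIso Γ(X, U)).inv ≫
        (Spec Γ(X, U)).presheaf.map (homOfLE (le_top : (⊤ : (Spec Γ(X, U)).Opens) ≤ ⊤)).op := by
    have hm : (eqToHom hU.fromSpec_preimage_self).op ≫ (homOfLE e).op =
        (homOfLE (le_top : (⊤ : (Spec Γ(X, U)).Opens) ≤ ⊤)).op := Subsingleton.elim _ _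
    show hU.fromSpec.app U ≫ _ = _
    rw [hU.fromSpec_app_self, Category.assoc, ← Functor.map_comp, hm]
  rw [Groth.Agent.LD.QC.ideal_comap_of_le 𝓘 hU.fromSpec ⟨U, hU⟩ ⟨⊤, isAffineOpen_top _⟩ e,
    Scheme.IdealSheafData.ofIdealTop_ideal, Ideal.map_map, JJ_affine 𝓘 ⟨U, hU⟩, happ]
  rfl

theorem isBlowUp_nat :
    BlowUp.IsBlowUp (Groth.Agent.H4.RelProjEx.nat (reesGrAlg 𝓘) U hU) (𝓘.comap U.ι) := by
  have h0 := Groth.Agent.H9.BLA.S16054_main (A := Γ(X, U)) (JJ 𝓘 U)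
  have h1 := Groth.Agent.H9.BLA.isBlowUp_of_iso_source
    (Groth.Agent.H9.BLA.projIso (gTo 𝓘 U hU) (gFrom 𝓘 U hU) (gTo_comp_gFrom 𝓘 U hU)
      (gFrom_comp_gTo 𝓘 U hU)) h0
  have hab : (Groth.Agent.H9.BLA.zeroHom (gTo 𝓘 U hU)).comp
      (algebraMap Γ(X, U) (Rees.deg (reesAlgebra (JJ 𝓘 U)) 0)) =
        ((reesGrAlg 𝓘).strZero U hU).hom := by
    apply RingHom.ext
    intro r
    apply Subtype.ext
    exact rT_str 𝓘 U r
  have hkey : (Groth.Agent.H9.BLA.projIso (gTo 𝓘 U hU) (gFrom 𝓘 U hU) (gTo_comp_gFrom 𝓘 U hU)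
      (gFrom_comp_gTo 𝓘 U hU)).hom ≫
        (Proj (Rees.deg (reesAlgebra (JJ 𝓘 U))) ↘ Spec (CommRingCat.of Γ(X, U))) =
      Proj.toSpecZero ((reesGrAlg 𝓘).deg U hU) ≫ Spec.map ((reesGrAlg 𝓘).strZero U hU) := by
    change Proj.map (gTo 𝓘 U hU) _ ≫ Proj.toSpecZero _ ≫
      Spec.map (CommRingCat.ofHom (algebraMap Γ(X, U) (Rees.deg (reesAlgebra (JJ 𝓘 U)) 0))) = _
    rw [← Category.assoc, Groth.Agent.H9.BLA.projMap_toSpecZero, Category.assoc, ← Spec.map_comp,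
      ← CommRingCat.ofHom_comp, hab, CommRingCat.ofHom_hom]
  rw [hkey] at h1
  have h3 := Groth.Agent.H9.BLA.isBlowUp_comp_iso hU.isoSpec.symm (𝓘.comap U.ι)
    (Proj.toSpecZero ((reesGrAlg 𝓘).deg U hU) ≫ Spec.map ((reesGrAlg 𝓘).strZero U hU))
    (by rw [comap_isoSpec_symm 𝓘 U hU]; exact h1)
  have e3 : (Proj.toSpecZero ((reesGrAlg 𝓘).deg U hU) ≫
      Spec.map ((reesGrAlg 𝓘).strZero U hU)) ≫ hU.isoSpec.symm.hom =
        Groth.Agent.H4.RelProjEx.nat (reesGrAlg 𝓘) U hU := Category.assoc _ _ _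
  rw [e3] at h3
  exact h3

end Chart

end Sheaf

theorem main_S8910 {X X' : Scheme.{u}} (𝓘 : X.IdealSheafData) (h𝓘 : BlowUp.IsFiniteTypeIdeal 𝓘)
    (b : X' ⟶ X) (hb : BlowUp.IsBlowUp b 𝓘) : RelProj.IsProjective b := by
  have hnat := fun (U : X.Opens) (hU : IsAffineOpen U) => isBlowUp_nat 𝓘 U hU
  have hex : ∀ (U : X.Opens) (hU : IsAffineOpen U),
      ∃ e : ((b ⁻¹ᵁ U : X'.Opens) : Scheme.{u}) ≅ Proj ((reesGrAlg 𝓘).deg U hU),
        e.hom ≫ Groth.Agent.H4.RelProjEx.nat (reesGrAlg 𝓘) U hU = b ∣_ U :=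
    fun U hU => Groth.Agent.H9.BLA.exists_iso_of_isBlowUp
      (Groth.Agent.H9.BLA.IsBlowUp.restrict hb U) (hnat U hU)
  choose chart hchart using hex
  refine ⟨reesGrAlg 𝓘, X', b, chart, Iso.refl X', rees_genDegOne 𝓘, rees_ftDeg 𝓘 h𝓘, ⟨?_, ?_⟩,
    Category.id_comp b⟩
  · intro U hU
    rw [← Groth.Agent.H4.RelProjEx.nat_ι (reesGrAlg 𝓘) U hU, ← Category.assoc, hchart U hU,
      morphismRestrict_ι]
  · intro U hU r
    have hw := (Groth.Agent.H4.RelProjEx.isPullback_res (reesGrAlg 𝓘) U hU r).w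
    have hsq : X'.homOfLE (b.preimage_mono (X.basicOpen_le r)) ≫ (b ∣_ U) =
        (b ∣_ X.basicOpen r) ≫ X.homOfLE (X.basicOpen_le r) := by
      rw [← cancel_mono U.ι, Category.assoc, Category.assoc, morphismRestrict_ι,
        Scheme.homOfLE_ι, Scheme.homOfLE_ι_assoc, morphismRestrict_ι]
    have hcomp : (X'.homOfLE (b.preimage_mono (X.basicOpen_le r)) ≫ (chart U hU).hom) ≫
        Groth.Agent.H4.RelProjEx.nat (reesGrAlg 𝓘) U hU =
          X'.homOfLE (b.preimage_mono (X.basicOpen_le r)) ≫ (b ∣_ U) := by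
      rw [Category.assoc, hchart]
    refine Groth.Agent.LD.QC.IsBlowUp.hom_ext (hnat U hU) _ _ ?_ ?_
    · rw [hcomp, ← Scheme.IdealSheafData.comap_comp, Category.assoc, morphismRestrict_ι,
        Scheme.homOfLE_ι_assoc, Scheme.IdealSheafData.comap_comp]
      exact Groth.Agent.LD.QC.isEffCartierIdeal_comap_of_flat _ _ hb.1
    · rw [hcomp, hsq, Category.assoc, hw, ← Category.assoc, hchart]

end
end Groth.Agent.H4.BlowProj
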