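import Mathlib
import Groth.Agent.Lib.Lead.QC.Extend
import Groth.Agent.Lib.Lead.QC.Gen

set_option autoImplicit false
universe u
open CategoryTheory CategoryTheory.Limits AlgebraicGeometry Opposite TopologicalSpace

namespace Groth.Agent.H4.LimGlue
open Groth.Agent.LD.QC

variable {Y P : Scheme.{u}}

/-- sections over `W` as a functor to types. -/
noncomputable def ev (W : P.Opens) : P.Modules ⥤ Type u :=
  Scheme.Modules.toPresheaf P ⋙ (evaluation _ _).obj (op W) ⋙ forget Ab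

noncomputable instance (W : P.Opens) : PreservesLimitsOfSize.{u, u} (ev (P := P) W) := by
  have h1 : PreservesLimitsOfSize.{u, u} (Scheme.Modules.toPresheaf P) := inferInstance
  have h2 : PreservesLimitsOfSize.{u, u} ((evaluation (Opens ↥P)ᵒᵖ Ab.{u}).obj (op W)) :=
    inferInstance
  have h3 : PreservesLimitsOfSize.{u, u} (forget Ab.{u}) := inferInstance
  have h23 : PreservesLimitsOfSize.{u, u}
      ((evaluation (Opens ↥P)ᵒᵖ Ab.{u}).obj (op W) ⋙ forget Ab.{u}) := comp_preservesLimits _ _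
  exact @comp_preservesLimits _ _ _ _ _ _ (Scheme.Modules.toPresheaf P)
    ((evaluation (Opens ↥P)ᵒᵖ Ab.{u}).obj (op W) ⋙ forget Ab.{u}) h1 h23

section lim
variable {J : Type u} [Category.{u} J] (D : J ⥤ P.Modules)

lemma π_map (W : P.Opens) {j j' : J} (f : j ⟶ j') (ξ : Γ(limit D, W)) :
    (D.map f).app W ((limit.π D j).app W ξ) = (limit.π D j').app W ξ := by
  have := congrArg (fun φ => φ.app W ξ) (limit.w D f)
  exact this

lemma sec_ext (W : P.Opens) (x x' : Γ(limit D, W))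
    (h : ∀ j, (limit.π D j).app W x = (limit.π D j).app W x') : x = x' := by
  have hl := isLimitOfPreserves (ev W) (limit.isLimit D)
  apply (Types.isLimitEquivSections hl).injective
  apply Subtype.ext
  funext j
  exact h j

lemma sec_exists (W : P.Opens) (t : ∀ j, Γ(D.obj j, W))
    (ht : ∀ {j j' : J} (f : j ⟶ j'), (D.map f).app W (t j) = t j') :
    ∃ x : Γ(limit D, W), ∀ j, (limit.π D j).app W x = t j := by
  have hl := isLimitOfPreserves (ev W) (limit.isLimit D)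
  refine ⟨(Types.isLimitEquivSections hl).symm ⟨fun j => t j, fun f => ht f⟩, fun j => ?_⟩
  exact Types.isLimitEquivSections_symm_apply hl _ j

end lim

lemma res_bijective_of_le_of_le (M : P.Modules) {V V' : P.Opens} (h : V ≤ V') (h' : V' ≤ V) :
    Function.Bijective (M.presheaf.map (homOfLE h).op) := by
  refine ⟨res_injective_of_le_of_le M h h', fun b => ⟨M.presheaf.map (homOfLE h').op b, ?_⟩⟩
  rw [res_res, res_self]

/-- refinement of two affine opens around a point. -/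
lemma exists_refine (V₁ V₂ : Y.AffineZariskiSite) (y : Y) (h1 : y ∈ V₁.1) (h2 : y ∈ V₂.1) :
    ∃ (V₃ : Y.AffineZariskiSite) (_ : V₃ ⟶ V₁) (_ : V₃ ⟶ V₂), y ∈ V₃.1 := by
  obtain ⟨f, g, hfg, hy⟩ := exists_basicOpen_le_affine_inter V₁.2 V₂.2 y ⟨h1, h2⟩
  exact ⟨V₁.basicOpen f, homOfLE (V₁.basicOpen_le f), homOfLE ⟨g, hfg.symm⟩, hy⟩

section main
variable (p : P ⟶ Y) (D : (Y.AffineZariskiSite)ᵒᵖ ⥤ P.Modules)

lemma D_comp {V' V U : Y.AffineZariskiSite} (c : V' ⟶ V) (b : V ⟶ U) (O : P.Opens)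
    (s : Γ(D.obj (op U), O)) :
    (D.map c.op).app O ((D.map b.op).app O s) = (D.map (c ≫ b).op).app O s := by
  rw [op_comp, D.map_comp]; rfl

lemma D_comp_res {V' V U : Y.AffineZariskiSite} (c : V' ⟶ V) (b : V ⟶ U) {O O' : P.Opens}
    (h : O' ≤ O) (s : Γ(D.obj (op U), O)) :
    (D.map c.op).app O' ((D.obj (op V)).presheaf.map (homOfLE h).op ((D.map b.op).app O s)) =
      (D.map (c ≫ b).op).app O' ((D.obj (op U)).presheaf.map (homOfLE h).op s) := by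
  rw [← app_res, D_comp]

variable (hbij : ∀ {V U : Y.AffineZariskiSite} (i : V ⟶ U) (W : P.Opens), W ≤ p ⁻¹ᵁ V.1 →
    Function.Bijective ((D.map i.op).app W))

include hbij in
lemma chg {U₀ U' V₁ V₂ : Y.AffineZariskiSite} (a₁ : V₁ ⟶ U₀) (b₁ : V₁ ⟶ U') (a₂ : V₂ ⟶ U₀)
    (b₂ : V₂ ⟶ U') (O : P.Opens) (h1 : O ≤ p ⁻¹ᵁ V₁.1) (h2 : O ≤ p ⁻¹ᵁ V₂.1)
    (t₀ : Γ(D.obj (op U₀), O)) (s : Γ(D.obj (op U'), O))
    (hs : (D.map b₁.op).app O s = (D.map a₁.op).app O t₀) :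
    (D.map b₂.op).app O s = (D.map a₂.op).app O t₀ := by
  have hloc : ∀ y : O, ∃ (V₃ : Y.AffineZariskiSite) (_ : V₃ ⟶ V₁) (_ : V₃ ⟶ V₂),
      p.base y.1 ∈ V₃.1 := fun y => exists_refine V₁ V₂ (p.base y.1) (h1 y.2) (h2 y.2)
  choose V₃ c₁ c₂ hy using hloc
  refine section_ext_of_cover (D.obj (op V₂)) (fun y : O => O ⊓ p ⁻¹ᵁ (V₃ y).1)
    (fun y => inf_le_left) (fun x hx => Opens.mem_iSup.mpr ⟨⟨x, hx⟩, hx, hy ⟨x, hx⟩⟩) _ _ fun y => ?_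
  apply (hbij (c₂ y) (O ⊓ p ⁻¹ᵁ (V₃ y).1) inf_le_right).1
  rw [D_comp_res, D_comp_res]
  have key := congrArg (fun z => (D.map (c₁ y).op).app (O ⊓ p ⁻¹ᵁ (V₃ y).1)
    ((D.obj (op V₁)).presheaf.map
      (homOfLE (inf_le_left : O ⊓ p ⁻¹ᵁ (V₃ y).1 ≤ O)).op z)) hs
  beta_reduce at key
  rw [D_comp_res, D_comp_res] at key
  rw [Subsingleton.elim (c₂ y ≫ b₂) (c₁ y ≫ b₁), Subsingleton.elim (c₂ y ≫ a₂) (c₁ y ≫ a₁)]
  exact key

include hbij in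
lemma uniq {U₀ U' V₁ V₂ : Y.AffineZariskiSite} (a₁ : V₁ ⟶ U₀) (b₁ : V₁ ⟶ U') (a₂ : V₂ ⟶ U₀)
    (b₂ : V₂ ⟶ U') (O : P.Opens) (h1 : O ≤ p ⁻¹ᵁ V₁.1) (h2 : O ≤ p ⁻¹ᵁ V₂.1)
    (t₀ : Γ(D.obj (op U₀), O)) (s₁ s₂ : Γ(D.obj (op U'), O))
    (hs₁ : (D.map b₁.op).app O s₁ = (D.map a₁.op).app O t₀)
    (hs₂ : (D.map b₂.op).app O s₂ = (D.map a₂.op).app O t₀) : s₁ = s₂ := by
  have := chg p D hbij a₂ b₂ a₁ b₁ O h2 h1 t₀ s₂ hs₂
  exact (hbij b₁ O h1).1 (hs₁.trans this.symm)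

variable (hext : ∀ (U : Y.AffineZariskiSite) (W W' : P.Opens) (h : W' ≤ W),
    W ⊓ p ⁻¹ᵁ U.1 ≤ W' → Function.Bijective ((D.obj (op U)).presheaf.map (homOfLE h).op))

include hbij hext in
lemma exists_transfer (U₀ U' : Y.AffineZariskiSite) (W : P.Opens) (hW : W ≤ p ⁻¹ᵁ U₀.1)
    (t₀ : Γ(D.obj (op U₀), W)) :
    ∃ t' : Γ(D.obj (op U'), W), ∀ (V : Y.AffineZariskiSite) (a : V ⟶ U₀) (b : V ⟶ U'),
      (D.map b.op).app (W ⊓ p ⁻¹ᵁ V.1)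
          ((D.obj (op U')).presheaf.map (homOfLE (inf_le_left : W ⊓ p ⁻¹ᵁ V.1 ≤ W)).op t') =
        (D.map a.op).app (W ⊓ p ⁻¹ᵁ V.1)
          ((D.obj (op U₀)).presheaf.map (homOfLE (inf_le_left : W ⊓ p ⁻¹ᵁ V.1 ≤ W)).op t₀) := by
  have hloc : ∀ z : (W ⊓ p ⁻¹ᵁ U'.1 : P.Opens), ∃ (V : Y.AffineZariskiSite) (_ : V ⟶ U₀)
      (_ : V ⟶ U'), p.base z.1 ∈ V.1 :=
    fun z => exists_refine U₀ U' (p.base z.1) (hW z.2.1) z.2.2
  choose Vz az bz hz using hloc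
  have hOW : ∀ z, W ⊓ p ⁻¹ᵁ (Vz z).1 ≤ W := fun z => inf_le_left
  have hOW' : ∀ z, W ⊓ p ⁻¹ᵁ (Vz z).1 ≤ W ⊓ p ⁻¹ᵁ U'.1 := fun z =>
    inf_le_inf_left _ (p.preimage_mono (Scheme.AffineZariskiSite.toOpens_mono (bz z).le))
  have hex : ∀ z, ∃ s : Γ(D.obj (op U'), W ⊓ p ⁻¹ᵁ (Vz z).1),
      (D.map (bz z).op).app (W ⊓ p ⁻¹ᵁ (Vz z).1) s =
      (D.map (az z).op).app (W ⊓ p ⁻¹ᵁ (Vz z).1)
        ((D.obj (op U₀)).presheaf.map (homOfLE (hOW z)).op t₀) :=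
    fun z => (hbij (bz z) _ inf_le_right).2 _
  choose sz hsz using hex
  have hcompat : TopCat.Presheaf.IsCompatible (D.obj (op U')).presheaf
      (fun z => W ⊓ p ⁻¹ᵁ (Vz z).1) sz := by
    intro z z'
    change (D.obj (op U')).presheaf.map (homOfLE (inf_le_left :
        (W ⊓ p ⁻¹ᵁ (Vz z).1) ⊓ (W ⊓ p ⁻¹ᵁ (Vz z').1) ≤ W ⊓ p ⁻¹ᵁ (Vz z).1)).op (sz z) =
      (D.obj (op U')).presheaf.map (homOfLE (inf_le_right :
        (W ⊓ p ⁻¹ᵁ (Vz z).1) ⊓ (W ⊓ p ⁻¹ᵁ (Vz z').1) ≤ W ⊓ p ⁻¹ᵁ (Vz z').1)).op (sz z')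
    refine uniq p D hbij (az z) (bz z) (az z') (bz z') _ (inf_le_left.trans inf_le_right)
      (inf_le_right.trans inf_le_right)
      ((D.obj (op U₀)).presheaf.map (homOfLE (inf_le_left.trans (hOW z))).op t₀) _ _ ?_ ?_
    · rw [app_res, hsz, ← app_res, res_res]
    · rw [app_res, hsz, ← app_res, res_res]
  obtain ⟨s', hs', -⟩ := TopCat.Sheaf.existsUnique_gluing' ⟨_, (D.obj (op U')).isSheaf⟩
    (fun z => W ⊓ p ⁻¹ᵁ (Vz z).1) (W ⊓ p ⁻¹ᵁ U'.1)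
    (fun z => homOfLE (hOW' z))
    (fun x hx => Opens.mem_iSup.mpr ⟨⟨x, hx⟩, hx.1, hz ⟨x, hx⟩⟩) sz hcompat
  obtain ⟨t', ht'⟩ := (hext U' W (W ⊓ p ⁻¹ᵁ U'.1) inf_le_left le_rfl).2 s'
  refine ⟨t', fun V a b => ?_⟩
  have hVW' : W ⊓ p ⁻¹ᵁ V.1 ≤ W ⊓ p ⁻¹ᵁ U'.1 :=
    inf_le_inf_left _ (p.preimage_mono (Scheme.AffineZariskiSite.toOpens_mono b.le))
  refine section_ext_of_cover (D.obj (op V))
    (fun z : (W ⊓ p ⁻¹ᵁ V.1 : P.Opens) => (W ⊓ p ⁻¹ᵁ V.1) ⊓ (W ⊓ p ⁻¹ᵁ (Vz ⟨z.1, hVW' z.2⟩).1))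
    (fun z => inf_le_left)
    (fun x hx => Opens.mem_iSup.mpr ⟨⟨x, hx⟩, hx, hx.1, hz ⟨x, hVW' hx⟩⟩) _ _ fun z => ?_
  rw [← app_res, ← app_res, res_res, res_res]
  refine chg p D hbij (az _) (bz _) a b _ (inf_le_right.trans inf_le_right)
    (inf_le_left.trans inf_le_right) _ _ ?_
  have e1 : (D.obj (op U')).presheaf.map (homOfLE ((inf_le_left : (W ⊓ p ⁻¹ᵁ V.1) ⊓
      (W ⊓ p ⁻¹ᵁ (Vz ⟨z.1, hVW' z.2⟩).1) ≤ W ⊓ p ⁻¹ᵁ V.1).trans inf_le_left)).op t' =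
      (D.obj (op U')).presheaf.map (homOfLE (inf_le_right : (W ⊓ p ⁻¹ᵁ V.1) ⊓
      (W ⊓ p ⁻¹ᵁ (Vz ⟨z.1, hVW' z.2⟩).1) ≤ W ⊓ p ⁻¹ᵁ (Vz ⟨z.1, hVW' z.2⟩).1)).op
        (sz ⟨z.1, hVW' z.2⟩) := by
    rw [← hs' ⟨z.1, hVW' z.2⟩, ← ht']
    change (D.obj (op U')).presheaf.map _ t' = (D.obj (op U')).presheaf.map _
      ((D.obj (op U')).presheaf.map (homOfLE (hOW' _)).op
        ((D.obj (op U')).presheaf.map (homOfLE inf_le_left).op t'))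
    rw [res_res, res_res]
  rw [e1, app_res, hsz, ← app_res, res_res]

include hbij hext in
theorem limit_π_bijective (U₀ : Y.AffineZariskiSite) (W : P.Opens) (hW : W ≤ p ⁻¹ᵁ U₀.1) :
    Function.Bijective ((limit.π D (op U₀)).app W) := by
  constructor
  · intro x x' hxx
    refine sec_ext D W x x' fun j => ?_
    induction j using Opposite.rec with
    | op U' =>
    apply (hext U' W (W ⊓ p ⁻¹ᵁ U'.1) inf_le_left le_rfl).1
    have hloc : ∀ z : (W ⊓ p ⁻¹ᵁ U'.1 : P.Opens), ∃ (V : Y.AffineZariskiSite) (_ : V ⟶ U₀)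
        (_ : V ⟶ U'), p.base z.1 ∈ V.1 :=
      fun z => exists_refine U₀ U' (p.base z.1) (hW z.2.1) z.2.2
    choose Vz az bz hz using hloc
    refine section_ext_of_cover (D.obj (op U')) (fun z => W ⊓ p ⁻¹ᵁ (Vz z).1)
      (fun z => inf_le_inf_left _
        (p.preimage_mono (Scheme.AffineZariskiSite.toOpens_mono (bz z).le)))
      (fun x hx => Opens.mem_iSup.mpr ⟨⟨x, hx⟩, hx.1, hz ⟨x, hx⟩⟩) _ _ fun z => ?_
    rw [res_res, res_res]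
    apply (hbij (bz z) _ inf_le_right).1
    have hπ : ∀ (ξ : Γ(limit D, W)) (h : W ⊓ p ⁻¹ᵁ (Vz z).1 ≤ W),
        (D.map (bz z).op).app (W ⊓ p ⁻¹ᵁ (Vz z).1) ((D.obj (op U')).presheaf.map (homOfLE h).op
          ((limit.π D (op U')).app W ξ)) =
        (D.map (az z).op).app (W ⊓ p ⁻¹ᵁ (Vz z).1) ((D.obj (op U₀)).presheaf.map (homOfLE h).op
          ((limit.π D (op U₀)).app W ξ)) := by
      intro ξ h
      rw [← app_res, ← app_res, π_map, π_map]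
    rw [hπ x, hπ x', hxx]
  · intro t₀
    have hfam : ∀ U' : Y.AffineZariskiSite, ∃ t' : Γ(D.obj (op U'), W),
        ∀ (V : Y.AffineZariskiSite) (a : V ⟶ U₀) (b : V ⟶ U'),
      (D.map b.op).app (W ⊓ p ⁻¹ᵁ V.1)
          ((D.obj (op U')).presheaf.map (homOfLE (inf_le_left : W ⊓ p ⁻¹ᵁ V.1 ≤ W)).op t') =
        (D.map a.op).app (W ⊓ p ⁻¹ᵁ V.1)
          ((D.obj (op U₀)).presheaf.map (homOfLE (inf_le_left : W ⊓ p ⁻¹ᵁ V.1 ≤ W)).op t₀) :=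
      fun U' => exists_transfer p D hbij hext U₀ U' W hW t₀
    choose t ht using hfam
    have hcomp : ∀ {j j' : (Y.AffineZariskiSite)ᵒᵖ} (f : j ⟶ j'),
        (D.map f).app W (t j.unop) = t j'.unop := by
      intro j j' f
      induction j using Opposite.rec with
      | op U' =>
      induction j' using Opposite.rec with
      | op V' =>
      obtain ⟨i, rfl⟩ : ∃ i : V' ⟶ U', f = i.op := ⟨f.unop, rfl⟩
      change (D.map i.op).app W (t U') = t V'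
      apply (hext V' W (W ⊓ p ⁻¹ᵁ V'.1) inf_le_left le_rfl).1
      have hloc : ∀ z : (W ⊓ p ⁻¹ᵁ V'.1 : P.Opens), ∃ (V : Y.AffineZariskiSite) (_ : V ⟶ U₀)
          (_ : V ⟶ V'), p.base z.1 ∈ V.1 :=
        fun z => exists_refine U₀ V' (p.base z.1) (hW z.2.1) z.2.2
      choose Vz az cz hz using hloc
      refine section_ext_of_cover (D.obj (op V')) (fun z => W ⊓ p ⁻¹ᵁ (Vz z).1)
        (fun z => inf_le_inf_left _
          (p.preimage_mono (Scheme.AffineZariskiSite.toOpens_mono (cz z).le)))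
        (fun x hx => Opens.mem_iSup.mpr ⟨⟨x, hx⟩, hx.1, hz ⟨x, hx⟩⟩) _ _ fun z => ?_
      rw [res_res, res_res]
      apply (hbij (cz z) _ inf_le_right).1
      rw [D_comp_res]
      exact (ht U' (Vz z) (az z) (cz z ≫ i)).trans (ht V' (Vz z) (az z) (cz z)).symm
    obtain ⟨x, hx⟩ := sec_exists D W (fun j => t j.unop) hcomp
    refine ⟨x, ?_⟩
    rw [hx (op U₀)]
    apply (hext U₀ W (W ⊓ p ⁻¹ᵁ U₀.1) inf_le_left le_rfl).1
    exact (hbij (𝟙 U₀) _ inf_le_right).1 (ht U₀ U₀ (𝟙 U₀) (𝟙 U₀))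

end main

end Groth.Agent.H4.LimGlue
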