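import Mathlib
import Groth.Prelude.Def_RelProj2
import Groth.Agent.H4.LimGlue
import Groth.Agent.H4.RelProjEx
import Groth.Agent.Lib.Helper8.RelTilde.Local

set_option autoImplicit false
universe u
open CategoryTheory CategoryTheory.Limits AlgebraicGeometry Opposite TopologicalSpace
open scoped HomogeneousIdeal

namespace Groth.Agent.H4.TwGlue
open GrTwist

section ring
variable {A σ : Type u} [CommRing A] [SetLike σ A] [AddSubgroupClass σ A] {𝒜 : ℕ → σ} [GradedRing 𝒜]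
variable {B τ : Type u} [CommRing B] [SetLike τ B] [AddSubgroupClass τ B] {ℬ : ℕ → τ} [GradedRing ℬ]

lemma sectN_ext' {n : ℤ} {U : (Opens (ProjectiveSpectrum.top 𝒜))ᵒᵖ} {s t : sectN (𝒜 := 𝒜) n U}
    (h : ∀ x : U.unop, ((s.1 x : twistAt 𝒜 n x.1) : Loc 𝒜 x.1) =
      ((t.1 x : twistAt 𝒜 n x.1) : Loc 𝒜 x.1)) : s = t :=
  Subtype.ext (funext fun x => Subtype.ext (h x))

lemma val_transport {n : ℤ} {V : Opens (ProjectiveSpectrum.top 𝒜)} (t : sectN (𝒜 := 𝒜) n (op V))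
    {R : Type u} [CommRing R] (x x' : ProjectiveSpectrum 𝒜) (hx : x ∈ V) (hx' : x' ∈ V)
    (e : x = x') (f : Loc 𝒜 x →+* R) (f' : Loc 𝒜 x' →+* R)
    (hf : f.comp (algebraMap A (Loc 𝒜 x)) = f'.comp (algebraMap A (Loc 𝒜 x'))) :
    f ((t.1 ⟨x, hx⟩ : twistAt 𝒜 n x) : Loc 𝒜 x) =
      f' ((t.1 ⟨x', hx'⟩ : twistAt 𝒜 n x') : Loc 𝒜 x') := by
  subst e
  have : f = f' := IsLocalization.ringHom_ext (x.asHomogeneousIdeal.toIdeal.primeCompl) hf
  rw [this]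

variable (ψ : 𝒜 →+*ᵍ ℬ) (hψ : ℬ₊ ≤ (𝒜₊).map ψ)

lemma comap_eq_of (x : ProjectiveSpectrum 𝒜) (y : ProjectiveSpectrum ℬ)
    (h : ∀ a : A, ψ a ∈ y.asHomogeneousIdeal ↔ a ∈ x.asHomogeneousIdeal) :
    ProjectiveSpectrum.comap ψ hψ y = x :=
  ProjectiveSpectrum.ext (SetLike.ext fun a => h a)

/-- generalized local map. -/
noncomputable def gLoc (x : ProjectiveSpectrum 𝒜) (y : ProjectiveSpectrum ℬ)
    (h : x.asHomogeneousIdeal.toIdeal = Ideal.comap ψ.toRingHom y.asHomogeneousIdeal.toIdeal) :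
    Loc 𝒜 x →+* Loc ℬ y :=
  Localization.localRingHom _ _ ψ.toRingHom h

lemma locMap_eq_gLoc (y : ProjectiveSpectrum ℬ) :
    locMap ψ hψ y = gLoc ψ (ProjectiveSpectrum.comap ψ hψ y) y rfl := rfl

lemma gLoc_algebraMap (x : ProjectiveSpectrum 𝒜) (y : ProjectiveSpectrum ℬ)
    (h : x.asHomogeneousIdeal.toIdeal = Ideal.comap ψ.toRingHom y.asHomogeneousIdeal.toIdeal)
    (a : A) : gLoc ψ x y h (algebraMap A _ a) = algebraMap B _ (ψ a) :=
  Localization.localRingHom_to_map _ _ _ _ a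

lemma locMap_algebraMap (y : ProjectiveSpectrum ℬ) (a : A) :
    locMap ψ hψ y (algebraMap A _ a) = algebraMap B _ (ψ a) :=
  Localization.localRingHom_to_map _ _ _ _ a

lemma gLoc_mk (x : ProjectiveSpectrum 𝒜) (y : ProjectiveSpectrum ℬ)
    (h : x.asHomogeneousIdeal.toIdeal = Ideal.comap ψ.toRingHom y.asHomogeneousIdeal.toIdeal)
    (a : A) (s : x.asHomogeneousIdeal.toIdeal.primeCompl)
    (hs : ψ (s : A) ∈ y.asHomogeneousIdeal.toIdeal.primeCompl) :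
    gLoc ψ x y h (Localization.mk a s) = Localization.mk (ψ a) ⟨ψ (s : A), hs⟩ :=
  Localization.localRingHom_mk _ _ _ _ a s

/-- `ψ` is a localization at the degree-zero element `c`, in elementary terms. -/
structure IsLocAt (c : A) : Prop where
  c_mem : c ∈ 𝒜 0
  unit : ∃ u : B, ψ c * u = 1
  surj : ∀ b : B, ∃ (a : A) (k : ℕ), ψ c ^ k * b = ψ a
  ker : ∀ a : A, ψ a = 0 → ∃ k : ℕ, c ^ k * a = 0

variable {ψ} {c : A} (hc : IsLocAt ψ c)

include hc in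
lemma psi_c_pow_notMem (y : ProjectiveSpectrum ℬ) (k : ℕ) :
    ψ c ^ k ∉ y.asHomogeneousIdeal := by
  obtain ⟨u, hu⟩ := hc.unit
  intro hmem
  have h1 : ψ c ∈ y.asHomogeneousIdeal.toIdeal := y.isPrime.mem_of_pow_mem k hmem
  have h2 : (1 : B) ∈ y.asHomogeneousIdeal.toIdeal := by
    rw [← hu]; exact Ideal.mul_mem_right _ _ h1
  exact y.isPrime.ne_top ((Ideal.eq_top_iff_one _).mpr h2)

include hc in
lemma exists_homog_lift {i : ℕ} {b : B} (hb : b ∈ ℬ i) :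
    ∃ (a : A) (k : ℕ), a ∈ 𝒜 i ∧ ψ a = ψ c ^ k * b := by
  classical
  obtain ⟨a₀, k, hk⟩ := hc.surj b
  refine ⟨(DirectSum.decompose 𝒜 a₀ i : A), k, SetLike.coe_mem _, ?_⟩
  have hmem : ψ c ^ k * b ∈ ℬ i :=
    Groth.Agent.H4.RelProjEx.zero_pow_mul_mem (⟨ψ c, ψ.map_mem hc.c_mem⟩ : ℬ 0) k hb
  rw [GradedRingHom.map_directSumDecompose, ← hk, DirectSum.decompose_of_mem_same _ hmem]

include hc in
lemma gLoc_injective (x : ProjectiveSpectrum 𝒜) (y : ProjectiveSpectrum ℬ)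
    (h : x.asHomogeneousIdeal.toIdeal = Ideal.comap ψ.toRingHom y.asHomogeneousIdeal.toIdeal) :
    Function.Injective (gLoc ψ x y h) := by
  rw [injective_iff_map_eq_zero]
  intro q hq
  obtain ⟨a, s, rfl⟩ := IsLocalization.exists_mk'_eq x.asHomogeneousIdeal.toIdeal.primeCompl q
  rw [gLoc, Localization.localRingHom_mk', IsLocalization.mk'_eq_zero_iff] at hq
  obtain ⟨⟨m, hm⟩, hm0⟩ := hq
  obtain ⟨a', k, hk⟩ := hc.surj m
  have ha' : a' ∉ x.asHomogeneousIdeal.toIdeal := by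
    rw [h, Ideal.mem_comap]
    change ψ a' ∉ _
    rw [← hk]
    intro hmem
    rcases y.isPrime.mem_or_mem hmem with h1 | h1
    · exact psi_c_pow_notMem hc y k h1
    · exact hm h1
  have hm0' : m * ψ a = 0 := hm0
  have hz : ψ (a' * a) = 0 := by
    rw [map_mul, ← hk, mul_assoc, hm0', mul_zero]
  obtain ⟨l, hl⟩ := hc.ker _ hz
  have hc' : c ∉ x.asHomogeneousIdeal.toIdeal := by
    rw [h, Ideal.mem_comap]
    change ψ c ∉ _
    have := psi_c_pow_notMem hc y 1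
    rwa [pow_one] at this
  rw [IsLocalization.mk'_eq_zero_iff]
  refine ⟨⟨c ^ l * a', ?_⟩, ?_⟩
  · intro hmem
    rcases x.isPrime.mem_or_mem hmem with h1 | h1
    · exact hc' (x.isPrime.mem_of_pow_mem l h1)
    · exact ha' h1
  · change c ^ l * a' * a = 0
    rw [mul_assoc]; exact hl

include hc in
lemma exists_frac_lift {i j : ℕ} {b s' : B} (hb : b ∈ ℬ i) (hs' : s' ∈ ℬ j) :
    ∃ (a s : A), a ∈ 𝒜 i ∧ s ∈ 𝒜 j ∧
      (∀ y : ProjectiveSpectrum ℬ, s' ∉ y.asHomogeneousIdeal → ψ s ∉ y.asHomogeneousIdeal) ∧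
      s' * ψ a = ψ s * b := by
  obtain ⟨a₁, k, ha₁, hka⟩ := exists_homog_lift hc hb
  obtain ⟨s₁, l, hs₁, hls⟩ := exists_homog_lift hc hs'
  refine ⟨c ^ l * a₁, c ^ k * s₁,
    Groth.Agent.H4.RelProjEx.zero_pow_mul_mem (⟨c, hc.c_mem⟩ : 𝒜 0) l ha₁,
    Groth.Agent.H4.RelProjEx.zero_pow_mul_mem (⟨c, hc.c_mem⟩ : 𝒜 0) k hs₁, ?_, ?_⟩
  · intro y hy hmem
    rw [map_mul, map_pow, hls] at hmem
    rcases y.isPrime.mem_or_mem hmem with h1 | h1
    · exact psi_c_pow_notMem hc y k h1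
    · rcases y.isPrime.mem_or_mem h1 with h2 | h2
      · exact psi_c_pow_notMem hc y l h2
      · exact hy h2
  · rw [map_mul, map_mul, map_pow, map_pow, hka, hls]; ring

include hc in
theorem comapApp_bijective (n : ℤ) (V : Opens (ProjectiveSpectrum.top 𝒜))
    (V' : Opens (ProjectiveSpectrum.top ℬ))
    (hUV : V'.1 ⊆ ProjectiveSpectrum.comap ψ hψ ⁻¹' V.1)
    (hV' : ∀ y : ProjectiveSpectrum ℬ, ProjectiveSpectrum.comap ψ hψ y ∈ V → y ∈ V')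
    (hpts : ∀ x : ProjectiveSpectrum 𝒜, x ∈ V → ∃ y, ProjectiveSpectrum.comap ψ hψ y = x)
    (hinj : Function.Injective (ProjectiveSpectrum.comap ψ hψ))
    (hopen : IsOpenMap (ProjectiveSpectrum.comap ψ hψ)) :
    Function.Bijective (comapApp ψ hψ n V V' hUV) := by
  constructor
  · rw [injective_iff_map_eq_zero]
    intro s hs
    refine sectN_ext' fun x => ?_
    obtain ⟨x, hx⟩ := x
    obtain ⟨y, rfl⟩ := hpts x hx
    have h2 := comapApp_apply_coe ψ hψ n V V' hUV s ⟨y, hV' y hx⟩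
    rw [hs] at h2
    have h3 : locMap ψ hψ y ((s.1 ⟨ProjectiveSpectrum.comap ψ hψ y, hx⟩ :
        twistAt 𝒜 n _) : Loc 𝒜 _) = 0 := h2.symm
    exact gLoc_injective hc _ y rfl (h3.trans (map_zero _).symm)
  · intro t
    classical
    have hq : ∀ x : V, ∃ q : twistAt 𝒜 n x.1, ∀ (y : ProjectiveSpectrum ℬ) (hy : y ∈ V')
        (h : ProjectiveSpectrum.comap ψ hψ y = x.1),
        gLoc ψ x.1 y (congrArg (fun z => z.asHomogeneousIdeal.toIdeal) h.symm) q.1 =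
          ((t.1 ⟨y, hy⟩ : twistAt ℬ n y) : Loc ℬ y) := by
      rintro ⟨x, hx⟩
      obtain ⟨y₀, rfl⟩ := hpts x hx
      have hy₀ : y₀ ∈ V' := hV' y₀ hx
      obtain ⟨N, hyN, iN, i, j, b, s', hs', hij, hfrac⟩ := t.2 ⟨y₀, hy₀⟩
      have hval := hfrac ⟨y₀, hyN⟩
      obtain ⟨a, s, ha, hs, hns, hab⟩ := exists_frac_lift hc b.2 s'.2
      have hsx : s ∉ (ProjectiveSpectrum.comap ψ hψ y₀).asHomogeneousIdeal :=
        fun hmem => hns y₀ (hs' ⟨y₀, hyN⟩) hmem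
      rcases hij with hij | hb0
      · refine ⟨⟨Localization.mk a ⟨s, hsx⟩,
          Submodule.subset_span ⟨i, j, ⟨a, ha⟩, ⟨s, hs⟩, hsx, hij, rfl⟩⟩, ?_⟩
        intro y hy h
        obtain rfl : y = y₀ := hinj h
        rw [gLoc_mk ψ _ _ _ a ⟨s, hsx⟩ (hns y (hs' ⟨y, hyN⟩))]
        refine Eq.trans ?_ hval.symm
        exact Localization.mk_eq_mk_iff.mpr (Localization.r_of_eq hab)
      · refine ⟨0, ?_⟩
        intro y hy h
        obtain rfl : y = y₀ := hinj h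
        rw [ZeroMemClass.coe_zero, map_zero]
        refine Eq.trans ?_ hval.symm
        rw [hb0, Localization.mk_zero]
    choose q hq using hq
    have hloc : (isLocFracN 𝒜 n).pred (fun x : V => q x) := by
      rintro ⟨x, hx⟩
      obtain ⟨y₀, rfl⟩ := hpts x hx
      have hy₀ : y₀ ∈ V' := hV' y₀ hx
      obtain ⟨N, hyN, iN, i, j, b, s', hs', hij, hfrac⟩ := t.2 ⟨y₀, hy₀⟩
      obtain ⟨a, s, ha, hs, hns, hab⟩ := exists_frac_lift hc b.2 s'.2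
      let N₁ : Opens (ProjectiveSpectrum.top 𝒜) :=
        ⟨ProjectiveSpectrum.comap ψ hψ '' N.1, hopen _ N.2⟩
      have hN₁V : N₁ ≤ V := by
        rintro _ ⟨z, hz, rfl⟩
        exact hUV (leOfHom iN hz)
      have hs_nin : ∀ x' : N₁, s ∉ x'.1.asHomogeneousIdeal := by
        rintro ⟨_, z, hz, rfl⟩ hmem
        exact hns z (hs' ⟨z, hz⟩) hmem
      refine ⟨N₁, ⟨y₀, hyN, rfl⟩, homOfLE hN₁V, ?_⟩
      rcases hij with hij | hb0
      · refine ⟨i, j, ⟨a, ha⟩, ⟨s, hs⟩, hs_nin, Or.inl hij, ?_⟩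
        rintro ⟨_, z, hz, rfl⟩
        apply gLoc_injective hc _ z rfl
        refine (hq ⟨_, hN₁V ⟨z, hz, rfl⟩⟩ z (leOfHom iN hz) rfl).trans ?_
        rw [gLoc_mk ψ _ _ _ a ⟨s, hs_nin ⟨_, z, hz, rfl⟩⟩ (hns z (hs' ⟨z, hz⟩))]
        refine (hfrac ⟨z, hz⟩).trans ?_
        exact (Localization.mk_eq_mk_iff.mpr (Localization.r_of_eq hab)).symm
      · refine ⟨0, 0, 0, ⟨1, SetLike.GradedOne.one_mem⟩,
          fun x' h => x'.1.isPrime.ne_top ((Ideal.eq_top_iff_one _).mpr h), Or.inr rfl, ?_⟩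
        rintro ⟨_, z, hz, rfl⟩
        apply gLoc_injective hc _ z rfl
        refine (hq ⟨_, hN₁V ⟨z, hz, rfl⟩⟩ z (leOfHom iN hz) rfl).trans ?_
        refine (hfrac ⟨z, hz⟩).trans ?_
        rw [hb0, Localization.mk_zero, ZeroMemClass.coe_zero, Localization.mk_zero, map_zero]
    refine ⟨⟨fun x => q x, hloc⟩, ?_⟩
    refine sectN_ext' fun y => ?_
    exact hq ⟨_, hUV y.2⟩ y.1 y.2 rfl

end ring

section geom
variable {Y P : Scheme.{u}} {𝒮 : RelProj.QCGrAlg Y} {p : P ⟶ Y}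
  {chart : ∀ (U : Y.Opens) (hU : IsAffineOpen U),
    (((p ⁻¹ᵁ U : P.Opens) : Scheme.{u}) ≅ Proj (𝒮.deg U hU))}

/-- the restriction homomorphism attached to a morphism of the affine Zariski site. -/
noncomputable def rs {V U : Y.AffineZariskiSite} (i : V ⟶ U) :
    𝒮.deg U.1 U.2 →+*ᵍ 𝒮.deg V.1 V.2 :=
  𝒮.res U.2 V.2 (Scheme.AffineZariskiSite.toOpens_mono i.le)

lemma rs_irr {V U : Y.AffineZariskiSite} (i : V ⟶ U) :
    (𝒮.deg V.1 V.2)₊ ≤ ((𝒮.deg U.1 U.2)₊).map (rs (𝒮 := 𝒮) i) :=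
  Groth.Agent.H4.RelProjEx.irr_le 𝒮 U.2 V.2 _ i.le

lemma rs_id_apply (U : Y.AffineZariskiSite) (a : 𝒮.presheaf.obj (op U.1)) :
    rs (𝒮 := 𝒮) (𝟙 U) a = a := by
  have := congrArg (fun f : 𝒮.deg U.1 U.2 →+*ᵍ 𝒮.deg U.1 U.2 => f a)
    (Groth.Agent.H4.RelProjEx.res_self 𝒮 U.1 U.2)
  exact this

lemma rs_comp_apply {V' V U : Y.AffineZariskiSite} (c : V' ⟶ V) (b : V ⟶ U)
    (a : 𝒮.presheaf.obj (op U.1)) :
    rs (𝒮 := 𝒮) (c ≫ b) a = rs (𝒮 := 𝒮) c (rs (𝒮 := 𝒮) b a) := by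
  have := congrArg (fun f : 𝒮.deg U.1 U.2 →+*ᵍ 𝒮.deg V'.1 V'.2 => f a)
    (Groth.Agent.H4.RelProjEx.res_comp 𝒮 U.2 V.2 V'.2
      (Scheme.AffineZariskiSite.toOpens_mono c.le) (Scheme.AffineZariskiSite.toOpens_mono b.le))
  exact this

lemma isLocAt_res (U : Y.Opens) (hU : IsAffineOpen U) (r : Γ(Y, U)) :
    IsLocAt (𝒮.res hU (hU.basicOpen r) (Y.basicOpen_le r)) ((𝒮.str.app (op U)).hom r) := by
  obtain ⟨c, hc⟩ : ∃ c, c = (𝒮.str.app (op U)).hom r := ⟨_, rfl⟩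
  letI _inst : Algebra (𝒮.presheaf.obj (op U)) (𝒮.presheaf.obj (op (Y.basicOpen r))) :=
    (𝒮.presheaf.map (homOfLE (Y.basicOpen_le r)).op).hom.toAlgebra
  have hlocS : IsLocalization.Away c (𝒮.presheaf.obj (op (Y.basicOpen r))) := by
    rw [hc]; exact 𝒮.isQC U hU r
  rw [← hc]
  refine ⟨?_, ?_, ?_, ?_⟩
  · rw [hc]; exact 𝒮.str_mem U hU r
  · have hu : IsUnit (algebraMap _ (𝒮.presheaf.obj (op (Y.basicOpen r))) c) :=
      IsLocalization.map_units (M := Submonoid.powers c) _ ⟨c, 1, pow_one c⟩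
    obtain ⟨u, hu'⟩ := hu.exists_right_inv
    exact ⟨u, hu'⟩
  · intro b
    obtain ⟨⟨x, s, hs⟩, hxs⟩ := IsLocalization.surj (Submonoid.powers c) b
    obtain ⟨k, rfl⟩ := (Submonoid.mem_powers_iff _ _).mp hs
    refine ⟨x, k, ?_⟩
    change b * (𝒮.res hU (hU.basicOpen r) (Y.basicOpen_le r)) (c ^ k) =
      (𝒮.res hU (hU.basicOpen r) (Y.basicOpen_le r)) x at hxs
    rw [← map_pow, mul_comm]; exact hxs
  · intro a ha
    obtain ⟨⟨_, k, rfl⟩, hm⟩ := (IsLocalization.map_eq_zero_iff (Submonoid.powers c)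
      (𝒮.presheaf.obj (op (Y.basicOpen r))) a).mp ha
    exact ⟨k, hm⟩

lemma exists_isLocAt {V U : Y.AffineZariskiSite} (i : V ⟶ U) :
    ∃ c, IsLocAt (rs (𝒮 := 𝒮) i) c := by
  obtain ⟨V1, hV⟩ := V
  obtain ⟨U1, hU⟩ := U
  obtain ⟨r, rfl⟩ := i.le
  exact ⟨_, isLocAt_res U1 hU r⟩

variable (hP : RelProj.IsRelProj 𝒮 p chart) (n : ℤ)

include hP in
lemma emb_rs {V U : Y.AffineZariskiSite} (i : V ⟶ U) :
    Proj.map (rs (𝒮 := 𝒮) i) (rs_irr i) ≫ RelProj.emb p chart U.1 U.2 =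
      RelProj.emb p chart V.1 V.2 := by
  obtain ⟨V1, hV⟩ := V
  obtain ⟨U1, hU⟩ := U
  obtain ⟨r, rfl⟩ := i.le
  exact RelProj.map_res_emb hP U1 hU r

include hP in
lemma emb_comap {V U : Y.AffineZariskiSite} (i : V ⟶ U)
    (y : ProjectiveSpectrum (𝒮.deg V.1 V.2)) :
    (RelProj.emb p chart U.1 U.2).base (ProjectiveSpectrum.comap (rs (𝒮 := 𝒮) i) (rs_irr i) y) =
      (RelProj.emb p chart V.1 V.2).base y := by
  have h2 := congrArg (fun φ : Proj (𝒮.deg V.1 V.2) ⟶ P => φ.base y) (emb_rs hP i)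
  exact h2

include hP in
lemma isOpenImmersion_projMap {V U : Y.AffineZariskiSite} (i : V ⟶ U) :
    IsOpenImmersion (Proj.map (rs (𝒮 := 𝒮) i) (rs_irr i)) := by
  haveI : IsOpenImmersion (Proj.map (rs (𝒮 := 𝒮) i) (rs_irr i) ≫ RelProj.emb p chart U.1 U.2) := by
    rw [emb_rs hP i]; infer_instance
  exact IsOpenImmersion.of_comp _ (RelProj.emb p chart U.1 U.2)

/-- the transition morphisms. -/
noncomputable def β {V U : Y.AffineZariskiSite} (i : V ⟶ U) :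
    (Scheme.Modules.pushforward (RelProj.emb p chart U.1 U.2)).obj
        (GrTwist.twist (𝒮.deg U.1 U.2) n) ⟶
      (Scheme.Modules.pushforward (RelProj.emb p chart V.1 V.2)).obj
        (GrTwist.twist (𝒮.deg V.1 V.2) n) :=
  (Scheme.Modules.pushforward (RelProj.emb p chart U.1 U.2)).map
      (GrTwist.comap (rs (𝒮 := 𝒮) i) (rs_irr i) n) ≫
    (Scheme.Modules.pushforwardComp (Proj.map (rs (𝒮 := 𝒮) i) (rs_irr i))
      (RelProj.emb p chart U.1 U.2)).hom.app _ ≫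
    (Scheme.Modules.pushforwardCongr (emb_rs hP i)).hom.app _

lemma β_val {V U : Y.AffineZariskiSite} (i : V ⟶ U) (W : P.Opens)
    (t : Γ((Scheme.Modules.pushforward (RelProj.emb p chart U.1 U.2)).obj
        (GrTwist.twist (𝒮.deg U.1 U.2) n), W))
    (y : ProjectiveSpectrum (𝒮.deg V.1 V.2))
    (hy : (RelProj.emb p chart V.1 V.2).base y ∈ W)
    (hy' : (RelProj.emb p chart U.1 U.2).base
      (ProjectiveSpectrum.comap (rs (𝒮 := 𝒮) i) (rs_irr i) y) ∈ W) :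
    GrTwist.val (V := RelProj.emb p chart V.1 V.2 ⁻¹ᵁ W) ((β hP n i).app W t) ⟨y, hy⟩ =
      GrTwist.locMap (rs (𝒮 := 𝒮) i) (rs_irr i) y
        (GrTwist.val (V := RelProj.emb p chart U.1 U.2 ⁻¹ᵁ W) t ⟨_, hy'⟩) := rfl

lemma β_id (U : Y.AffineZariskiSite) : β hP n (𝟙 U) = 𝟙 _ := by
  refine Scheme.Modules.hom_ext _ _ fun W => ?_
  ext t
  refine sectN_ext' (𝒜 := 𝒮.deg U.1 U.2) (n := n)
    (U := op (RelProj.emb p chart U.1 U.2 ⁻¹ᵁ W)) fun y => ?_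
  obtain ⟨y, hy⟩ := y
  have hy' : (RelProj.emb p chart U.1 U.2).base
      (ProjectiveSpectrum.comap (rs (𝒮 := 𝒮) (𝟙 U)) (rs_irr (𝟙 U)) y) ∈ W := by
    rw [emb_comap hP]; exact hy
  refine (β_val hP n (𝟙 U) W t y hy hy').trans ?_
  refine val_transport (n := n) (V := RelProj.emb p chart U.1 U.2 ⁻¹ᵁ W) t _ y hy' hy
    (comap_eq_of _ _ _ _ fun a => by rw [rs_id_apply]) _ (RingHom.id _) ?_
  ext a
  simp only [RingHom.comp_apply, RingHom.id_apply]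
  rw [locMap_algebraMap, rs_id_apply]

lemma β_comp {V' V U : Y.AffineZariskiSite} (c : V' ⟶ V) (b : V ⟶ U) :
    β hP n (c ≫ b) = β hP n b ≫ β hP n c := by
  refine Scheme.Modules.hom_ext _ _ fun W => ?_
  ext t
  refine sectN_ext' (𝒜 := 𝒮.deg V'.1 V'.2) (n := n)
    (U := op (RelProj.emb p chart V'.1 V'.2 ⁻¹ᵁ W)) fun y => ?_
  obtain ⟨y, hy⟩ := y
  have hy1 : (RelProj.emb p chart U.1 U.2).base
      (ProjectiveSpectrum.comap (rs (𝒮 := 𝒮) (c ≫ b)) (rs_irr (c ≫ b)) y) ∈ W := by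
    rw [emb_comap hP]; exact hy
  have hy2 : (RelProj.emb p chart V.1 V.2).base
      (ProjectiveSpectrum.comap (rs (𝒮 := 𝒮) c) (rs_irr c) y) ∈ W := by
    rw [emb_comap hP]; exact hy
  have hy3 : (RelProj.emb p chart U.1 U.2).base
      (ProjectiveSpectrum.comap (rs (𝒮 := 𝒮) b) (rs_irr b)
        (ProjectiveSpectrum.comap (rs (𝒮 := 𝒮) c) (rs_irr c) y)) ∈ W := by
    rw [emb_comap hP]; exact hy2
  refine (β_val hP n (c ≫ b) W t y hy hy1).trans ?_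
  refine Eq.trans ?_ (β_val hP n c W ((β hP n b).app W t) y hy hy2).symm
  refine Eq.trans ?_ (congrArg (GrTwist.locMap (rs (𝒮 := 𝒮) c) (rs_irr c) y)
    (β_val hP n b W t _ hy2 hy3)).symm
  refine val_transport (n := n) (V := RelProj.emb p chart U.1 U.2 ⁻¹ᵁ W) t _ _ hy1 hy3
    ((comap_eq_of _ _ _ _ fun a => by rw [rs_comp_apply]; exact Iff.rfl)) _
    ((GrTwist.locMap (rs (𝒮 := 𝒮) c) (rs_irr c) y).comp
      (GrTwist.locMap (rs (𝒮 := 𝒮) b) (rs_irr b) _)) ?_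
  ext a
  simp only [RingHom.comp_apply]
  rw [locMap_algebraMap, locMap_algebraMap, locMap_algebraMap, rs_comp_apply]

/-- the diagram of pushed-forward twisting sheaves. -/
noncomputable def D : (Y.AffineZariskiSite)ᵒᵖ ⥤ P.Modules where
  obj U := (Scheme.Modules.pushforward (RelProj.emb p chart U.unop.1 U.unop.2)).obj
    (GrTwist.twist (𝒮.deg U.unop.1 U.unop.2) n)
  map f := β hP n f.unop
  map_id U := β_id hP n U.unop
  map_comp f g := β_comp hP n g.unop f.unop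

lemma D_ext (U : Y.AffineZariskiSite) (W W' : P.Opens) (h : W' ≤ W)
    (hle : W ⊓ p ⁻¹ᵁ U.1 ≤ W') :
    Function.Bijective (((D hP n).obj (op U)).presheaf.map (homOfLE h).op) := by
  have h1 : RelProj.emb p chart U.1 U.2 ⁻¹ᵁ W ≤ RelProj.emb p chart U.1 U.2 ⁻¹ᵁ W' := by
    intro z hz
    refine hle ⟨hz, ?_⟩
    have : (RelProj.emb p chart U.1 U.2).base z ∈ (RelProj.emb p chart U.1 U.2).opensRange :=
      ⟨z, rfl⟩
    rwa [Groth.Agent.H8.RelTilde.opensRange_emb] at this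
  exact Groth.Agent.H4.LimGlue.res_bijective_of_le_of_le (GrTwist.twist (𝒮.deg U.1 U.2) n)
    ((RelProj.emb p chart U.1 U.2).preimage_mono h) h1

lemma β_app_bijective {V U : Y.AffineZariskiSite} (i : V ⟶ U) (W : P.Opens)
    (hW : W ≤ p ⁻¹ᵁ V.1) : Function.Bijective ((β hP n i).app W) := by
  obtain ⟨c, hc⟩ := exists_isLocAt (𝒮 := 𝒮) i
  haveI := isOpenImmersion_projMap hP i
  have hpts : ∀ x : ProjectiveSpectrum (𝒮.deg U.1 U.2),
      x ∈ (RelProj.emb p chart U.1 U.2 ⁻¹ᵁ W) →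
      ∃ y, ProjectiveSpectrum.comap (rs (𝒮 := 𝒮) i) (rs_irr i) y = x := by
    intro x hx
    have hx' : (RelProj.emb p chart U.1 U.2).base x ∈ (RelProj.emb p chart V.1 V.2).opensRange := by
      rw [Groth.Agent.H8.RelTilde.opensRange_emb]; exact hW hx
    obtain ⟨y, hy⟩ := hx'
    refine ⟨y, (RelProj.emb p chart U.1 U.2).isOpenEmbedding.injective ?_⟩
    rw [emb_comap hP]; exact hy
  have hb := comapApp_bijective (rs_irr i) hc n (RelProj.emb p chart U.1 U.2 ⁻¹ᵁ W)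
    (Proj.map (rs (𝒮 := 𝒮) i) (rs_irr i) ⁻¹ᵁ (RelProj.emb p chart U.1 U.2 ⁻¹ᵁ W))
    Set.Subset.rfl (fun y hy => hy) hpts
    (Proj.map (rs (𝒮 := 𝒮) i) (rs_irr i)).isOpenEmbedding.injective
    (Proj.map (rs (𝒮 := 𝒮) i) (rs_irr i)).isOpenEmbedding.isOpenMap
  have hmem : ∀ y : ProjectiveSpectrum (𝒮.deg V.1 V.2),
      (RelProj.emb p chart V.1 V.2).base y ∈ W ↔
      (RelProj.emb p chart U.1 U.2).base
        (ProjectiveSpectrum.comap (rs (𝒮 := 𝒮) i) (rs_irr i) y) ∈ W := by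
    intro y; rw [emb_comap hP]
  constructor
  · intro t t' htt
    apply hb.1
    refine sectN_ext' fun y => ?_
    obtain ⟨y, hy⟩ := y
    have := congrArg (fun s : Γ((Scheme.Modules.pushforward (RelProj.emb p chart V.1 V.2)).obj
        (GrTwist.twist (𝒮.deg V.1 V.2) n), W) =>
      GrTwist.val (V := RelProj.emb p chart V.1 V.2 ⁻¹ᵁ W) s ⟨y, (hmem y).mpr hy⟩) htt
    exact this
  · intro t₁
    have hle : Proj.map (rs (𝒮 := 𝒮) i) (rs_irr i) ⁻¹ᵁ (RelProj.emb p chart U.1 U.2 ⁻¹ᵁ W) ≤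
        RelProj.emb p chart V.1 V.2 ⁻¹ᵁ W := fun y hy => (hmem y).mpr hy
    obtain ⟨t, ht⟩ := hb.2
      ((GrTwist.twist (𝒮.deg V.1 V.2) n).presheaf.map (homOfLE hle).op t₁)
    refine ⟨t, ?_⟩
    refine sectN_ext' (𝒜 := 𝒮.deg V.1 V.2) (n := n)
      (U := op (RelProj.emb p chart V.1 V.2 ⁻¹ᵁ W)) fun y => ?_
    obtain ⟨y, hy⟩ := y
    have := congrArg (fun s : sectN (𝒜 := 𝒮.deg V.1 V.2) n
        (op (Proj.map (rs (𝒮 := 𝒮) i) (rs_irr i) ⁻¹ᵁ (RelProj.emb p chart U.1 U.2 ⁻¹ᵁ W))) =>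
      ((s.1 ⟨y, (hmem y).mp hy⟩ : twistAt (𝒮.deg V.1 V.2) n y) : Loc (𝒮.deg V.1 V.2) y)) ht
    exact this

theorem main_S8284 {Y P : Scheme.{u}} (𝒮 : RelProj.QCGrAlg Y) (p : P ⟶ Y)
    (chart : ∀ (U : Y.Opens) (hU : IsAffineOpen U), (((p ⁻¹ᵁ U : P.Opens) : Scheme.{u}) ≅ Proj (𝒮.deg U hU)))
    (hP : RelProj.IsRelProj 𝒮 p chart) (n : ℤ) :
    ∃ (L : P.Modules) (lam : ∀ (U : Y.Opens) (hU : IsAffineOpen U),
      L ⟶ (Scheme.Modules.pushforward (RelProj.emb p chart U hU)).obj (GrTwist.twist (𝒮.deg U hU) n)),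
      RelProj.IsRelTwist 𝒮 p chart n L lam := by
  refine ⟨limit (D hP n), fun U hU => limit.π (D hP n) (op ⟨U, hU⟩), ⟨?_, ?_⟩⟩
  · intro U hU W hW
    exact Groth.Agent.H4.LimGlue.limit_π_bijective p (D hP n)
      (fun i W hW => β_app_bijective hP n i W hW) (D_ext hP n) ⟨U, hU⟩ W hW
  · intro U hU r W s y hy hy'
    have h := Groth.Agent.H4.LimGlue.π_map (D hP n) W
      (homOfLE (Scheme.AffineZariskiSite.basicOpen_le (⟨U, hU⟩ : Y.AffineZariskiSite) r)).op s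
    refine Eq.trans (congrArg (fun s' : Γ((Scheme.Modules.pushforward
      (RelProj.emb p chart (Y.basicOpen r) (hU.basicOpen r))).obj
        (GrTwist.twist (𝒮.deg (Y.basicOpen r) (hU.basicOpen r)) n), W) =>
      GrTwist.val (V := RelProj.emb p chart (Y.basicOpen r) (hU.basicOpen r) ⁻¹ᵁ W) s' ⟨y, hy⟩)
      h.symm) ?_
    exact β_val hP n
      (homOfLE (Scheme.AffineZariskiSite.basicOpen_le (⟨U, hU⟩ : Y.AffineZariskiSite) r)) W _ y hy hy'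

end geom

end Groth.Agent.H4.TwGlue
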