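import Mathlib
import Groth.Agent.H4.BlowProj
import Groth.Agent.H4.FinProj
import Groth.Agent.Lib.Helper6.SymQ
import Groth.Agent.Lib.Helper8.RelTwist.PullTwist
import Groth.Agent.S8292
import Groth.Agent.S8262
import Groth.Agent.S8284

set_option autoImplicit false
set_option linter.unusedSectionVars false
set_option linter.unusedVariables false
set_option linter.style.haveILetI false
universe u
open CategoryTheory CategoryTheory.Limits AlgebraicGeometry TopologicalSpace Opposite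
open scoped HomogeneousIdeal

namespace Groth.Agent.H4.PBundle
noncomputable section

/-! ## the grading of the symmetric algebra -/
section RingLevel
open SymmetricAlgebra
variable (R M : Type u) [CommRing R] [AddCommGroup M] [Module R M]

abbrev gr : ℕ → Submodule R (SymmetricAlgebra R M) := fun n => LinearMap.range (ι R M) ^ n

lemma ι_mem (m : M) : ι R M m ∈ gr R M 1 := by
  change ι R M m ∈ LinearMap.range (ι R M) ^ 1
  rw [pow_one]; exact LinearMap.mem_range_self _ m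

def grι : M →ₗ[R] DirectSum ℕ (fun i => gr R M i) :=
  DirectSum.lof R ℕ (fun i => gr R M i) 1 ∘ₗ (ι R M).codRestrict _ (ι_mem R M)

lemma grι_apply (m : M) :
    grι R M m = DirectSum.of (fun i => gr R M i) 1 ⟨ι R M m, ι_mem R M m⟩ := rfl

instance gradedAlgebra : GradedAlgebra (gr R M) :=
  GradedAlgebra.ofAlgHom _ (lift (grι R M))
    (by
      ext m
      show DirectSum.coeAlgHom (gr R M) (lift (grι R M) (ι R M m)) = ι R M m
      rw [lift_ι_apply, grι_apply, DirectSum.coeAlgHom_of])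
    fun i x => by
    obtain ⟨x, hx⟩ := x
    dsimp only [Subtype.coe_mk, DirectSum.lof_eq_of]
    induction hx using Submodule.pow_induction_on_left' with
    | algebraMap r =>
      rw [AlgHom.commutes, DirectSum.algebraMap_apply]; rfl
    | add x y i hx hy ihx ihy =>
      rw [map_add, ihx, ihy, ← AddMonoidHom.map_add]; rfl
    | mem_mul m hm i x hx ih =>
      obtain ⟨_, rfl⟩ := hm
      rw [map_mul, ih, lift_ι_apply, grι_apply, DirectSum.of_mul_of]
      exact DirectSum.of_eq_of_gradedMonoid_eq (Sigma.subtype_ext (add_comm _ _) rfl)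

lemma algebraMap_mem (r : R) : algebraMap R (SymmetricAlgebra R M) r ∈ gr R M 0 :=
  SetLike.algebraMap_mem_graded (gr R M) r

/-- a ring homomorphism out of the symmetric algebra sending scalars to degree zero and generators to
degree one is graded. -/
theorem map_mem_of {B : Type*} [CommRing B] {σ : Type*} [SetLike σ B] [AddSubmonoidClass σ B]
    (ℬ : ℕ → σ) [SetLike.GradedMonoid ℬ] (ψ : SymmetricAlgebra R M →+* B)
    (h0 : ∀ r, ψ (algebraMap R _ r) ∈ ℬ 0) (h1 : ∀ m, ψ (ι R M m) ∈ ℬ 1)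
    {n : ℕ} {x : SymmetricAlgebra R M} (hx : x ∈ gr R M n) : ψ x ∈ ℬ n := by
  induction hx using Submodule.pow_induction_on_left' with
  | algebraMap r => exact h0 r
  | add x y i hx hy ihx ihy => rw [map_add]; exact add_mem ihx ihy
  | mem_mul m hm i x hx ih =>
    obtain ⟨m0, rfl⟩ := hm
    rw [map_mul]
    have := SetLike.mul_mem_graded (h1 m0) ih
    rwa [add_comm] at this

theorem closure_eq_top :
    Subring.closure ((gr R M 0 : Set (SymmetricAlgebra R M)) ∪ (gr R M 1 : Set _)) = ⊤ := by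
  rw [eq_top_iff]
  intro x hx
  clear hx
  induction x using SymmetricAlgebra.induction with
  | algebraMap r => exact Subring.subset_closure (Or.inl (algebraMap_mem R M r))
  | ι m => exact Subring.subset_closure (Or.inr (ι_mem R M m))
  | mul a b ha hb => exact Subring.mul_mem _ ha hb
  | add a b ha hb => exact Subring.add_mem _ ha hb

end RingLevel


/-! ## the graded symmetric algebra of a quasi-coherent module -/
section SheafLevel
open Groth.Agent.H6.Sym Groth.Agent.H6 Groth.Agent.LD.QC Groth.Agent.H4.FinProj Groth.Agent.H4.BlowProj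
variable {S : Scheme.{u}} (E : S.Modules) [E.IsQuasicoherent]

def symE (U : S.Opens) (hU : IsAffineOpen U) : (symAlg E).presheaf.obj (op U) ≃+* symObj E U :=
  RingEquiv.ofRingHom (secHom E U hU) (secInv E U hU) (RingHom.ext (secHom_secInv E U hU))
    (RingHom.ext (secInv_secHom E U hU))

lemma secHom_res {U V : S.Opens} (hU : IsAffineOpen U) (hV : IsAffineOpen V) (h : V ≤ U)
    (x : (symAlg E).presheaf.obj (op U)) :
    secHom E V hV (((symAlg E).presheaf.map (homOfLE h).op).hom x) =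
      symRes E h (secHom E U hU x) := by
  have := secInv_res E hU hV h (secHom E U hU x)
  rw [secInv_secHom] at this
  rw [this, secHom_secInv]

lemma secHom_str (U : S.Opens) (hU : IsAffineOpen U) (a : Γ(S, U)) :
    secHom E U hU (((symAlg E).str.app (op U)).hom a) = algebraMap _ _ a := by
  rw [← secInv_algebraMap E U hU a, secHom_secInv]

abbrev sdeg (U : S.Opens) (hU : IsAffineOpen U) : ℕ → AddSubgroup ((symAlg E).presheaf.obj (op U)) :=
  comapGr (symE E U hU) (toAG (gr Γ(S, U) Γ(E, U)))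

lemma mem_sdeg {U : S.Opens} {hU : IsAffineOpen U} {n : ℕ} {x : (symAlg E).presheaf.obj (op U)} :
    x ∈ sdeg E U hU n ↔ secHom E U hU x ∈ gr Γ(S, U) Γ(E, U) n := Iff.rfl

def symGrAlg : RelProj.QCGrAlg S where
  toQCAlg := symAlg E
  deg U hU := sdeg E U hU
  graded U hU := comapGr_gradedRing (symE E U hU) (toAG (gr Γ(S, U) Γ(E, U)))
  map_mem := by
    intro U V hU hV i d x hx
    rw [mem_sdeg] at hx ⊢
    rw [secHom_res E hU hV i x]
    refine map_mem_of _ _ (gr Γ(S, V) Γ(E, V)) (symRes E i) (fun r => ?_) (fun m => ?_) hx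
    · rw [symRes_algebraMap]; exact algebraMap_mem _ _ _
    · rw [symRes_ι]; exact ι_mem _ _ _
  str_mem := by
    intro U hU r
    rw [mem_sdeg, secHom_str]
    exact algebraMap_mem _ _ r

theorem isGrSymAlg : RelProj.IsGrSymAlg E (symGrAlg E) (symJ E) := by
  refine ⟨isSymAlg E, fun U hU x => ?_⟩
  have h := symJ_app E U hU x
  change secHom E U hU (QA.toRing (symAlg E) U ((symJ E).app U x)) ∈ gr Γ(S, U) Γ(E, U) 1
  rw [h, secHom_secInv]
  exact ι_mem _ _ x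

theorem symGr_genDegOne : (symGrAlg E).IsGenDegOne := by
  intro U hU
  rw [eq_top_iff]
  intro x hx
  clear hx
  rw [← secInv_secHom E U hU x]
  generalize secHom E U hU x = y
  induction y using SymmetricAlgebra.induction with
  | algebraMap r =>
    refine Subring.subset_closure (Or.inl ?_)
    change secHom E U hU (secInv E U hU _) ∈ gr Γ(S, U) Γ(E, U) 0
    rw [secHom_secInv]; exact algebraMap_mem _ _ r
  | ι m =>
    refine Subring.subset_closure (Or.inr ?_)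
    change secHom E U hU (secInv E U hU _) ∈ gr Γ(S, U) Γ(E, U) 1
    rw [secHom_secInv]; exact ι_mem _ _ m
  | mul a b ha hb => rw [map_mul]; exact Subring.mul_mem _ ha hb
  | add a b ha hb => rw [map_add]; exact Subring.add_mem _ ha hb

/-- the algebra map out of the graded symmetric algebra induced by a module map landing in degree one
is graded. -/
theorem symLift_graded (𝒮 : RelProj.QCGrAlg S) (u : E ⟶ 𝒮.toModule)
    (hu1 : ∀ (U : S.Opens) (hU : IsAffineOpen U) (x : Γ(E, U)), (u.app U) x ∈ 𝒮.deg U hU 1) :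
    RelProj.IsGradedHom (𝒜 := symGrAlg E) (ℬ := 𝒮) (symLift E 𝒮.toQCAlg u) := by
  intro U hU d x hx
  have h := symLift_app E 𝒮.toQCAlg u U hU x
  have h2 : liftSec E 𝒮.toQCAlg u U (secHom E U hU x) ∈ 𝒮.deg U hU d := by
    refine map_mem_of _ _ (𝒮.deg U hU) (liftSec E 𝒮.toQCAlg u U) (fun r => ?_) (fun m => ?_)
      ((mem_sdeg E).mp hx)
    · rw [liftSec_algebraMap]; exact 𝒮.str_mem U hU r
    · rw [liftSec_ι]; exact hu1 U hU m
  rw [← h] at h2
  exact h2

end SheafLevel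


/-! ## the projection of a graded algebra onto its degree-one part, as a module map -/
section Proj1
open Groth.Agent.H6 Groth.Agent.LD.QC
variable {S : Scheme.{u}} (𝒮 : RelProj.QCGrAlg S)

def p1 (U : S.Opens) (hU : IsAffineOpen U) (x : 𝒮.presheaf.obj (op U)) : 𝒮.presheaf.obj (op U) :=
  ((DirectSum.decompose (𝒮.deg U hU) x 1 : 𝒮.deg U hU 1) : 𝒮.presheaf.obj (op U))

lemma p1_mem (U : S.Opens) (hU : IsAffineOpen U) (x : 𝒮.presheaf.obj (op U)) :
    p1 𝒮 U hU x ∈ 𝒮.deg U hU 1 := SetLike.coe_mem _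

lemma p1_of_mem (U : S.Opens) (hU : IsAffineOpen U) {x : 𝒮.presheaf.obj (op U)}
    (hx : x ∈ 𝒮.deg U hU 1) : p1 𝒮 U hU x = x :=
  DirectSum.decompose_of_mem_same _ hx

lemma p1_add (U : S.Opens) (hU : IsAffineOpen U) (x y : 𝒮.presheaf.obj (op U)) :
    p1 𝒮 U hU (x + y) = p1 𝒮 U hU x + p1 𝒮 U hU y := by
  unfold p1
  rw [DirectSum.decompose_add, DirectSum.add_apply, AddMemClass.coe_add]

lemma p1_str_mul (U : S.Opens) (hU : IsAffineOpen U) (r : Γ(S, U)) (x : 𝒮.presheaf.obj (op U)) :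
    p1 𝒮 U hU ((𝒮.str.app (op U)).hom r * x) = (𝒮.str.app (op U)).hom r * p1 𝒮 U hU x :=
  DirectSum.coe_decompose_mul_of_left_mem_zero (𝒮.deg U hU) (𝒮.str_mem U hU r)

lemma p1_res {U V : S.Opens} (hU : IsAffineOpen U) (hV : IsAffineOpen V) (i : V ≤ U)
    (x : 𝒮.presheaf.obj (op U)) :
    (𝒮.presheaf.map (homOfLE i).op).hom (p1 𝒮 U hU x) =
      p1 𝒮 V hV ((𝒮.presheaf.map (homOfLE i).op).hom x) := by
  show (𝒮.res hU hV i) ((DirectSum.decompose (𝒮.deg U hU) x 1 : 𝒮.deg U hU 1) :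
      𝒮.presheaf.obj (op U)) =
    ((DirectSum.decompose (𝒮.deg V hV) ((𝒮.res hU hV i) x) 1 : 𝒮.deg V hV 1) :
      𝒮.presheaf.obj (op V))
  rw [GradedRingHom.map_directSumDecompose]

def proj1Lin (U : S.affineOpens) : Γ(𝒮.toModule, U.1) →ₗ[Γ(S, U.1)] Γ(𝒮.toModule, U.1) where
  toFun m := QA.ofRing 𝒮.toQCAlg U.1 (p1 𝒮 U.1 U.2 (QA.toRing 𝒮.toQCAlg U.1 m))
  map_add' m m' := p1_add 𝒮 U.1 U.2 (QA.toRing 𝒮.toQCAlg U.1 m) (QA.toRing 𝒮.toQCAlg U.1 m')
  map_smul' r m := p1_str_mul 𝒮 U.1 U.2 r (QA.toRing 𝒮.toQCAlg U.1 m)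

def proj1 : 𝒮.toModule ⟶ 𝒮.toModule :=
  homOfAffine 𝒮.toModule 𝒮.toModule (proj1Lin 𝒮) fun U V h s =>
    p1_res 𝒮 U.2 V.2 h (QA.toRing 𝒮.toQCAlg U.1 s)

lemma proj1_app (U : S.Opens) (hU : IsAffineOpen U) (m : Γ(𝒮.toModule, U)) :
    QA.toRing 𝒮.toQCAlg U ((proj1 𝒮).app U m) = p1 𝒮 U hU (QA.toRing 𝒮.toQCAlg U m) :=
  homOfAffine_app 𝒮.toModule 𝒮.toModule (proj1Lin 𝒮) _ ⟨U, hU⟩ m

lemma proj1_mem (U : S.Opens) (hU : IsAffineOpen U) (x : Γ(𝒮.toModule, U)) :
    ((proj1 𝒮).app U) x ∈ 𝒮.deg U hU 1 := by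
  have h := proj1_app 𝒮 U hU x
  change QA.toRing 𝒮.toQCAlg U ((proj1 𝒮).app U x) ∈ 𝒮.deg U hU 1
  rw [h]
  exact p1_mem 𝒮 U hU _

lemma proj1_surj (U : S.Opens) (hU : IsAffineOpen U) (s : 𝒮.presheaf.obj (op U))
    (hs : s ∈ 𝒮.deg U hU 1) : ∃ x : Γ(𝒮.toModule, U), ((proj1 𝒮).app U) x = s := by
  refine ⟨QA.ofRing 𝒮.toQCAlg U s, ?_⟩
  have h := proj1_app 𝒮 U hU (QA.ofRing 𝒮.toQCAlg U s)
  change QA.toRing 𝒮.toQCAlg U ((proj1 𝒮).app U (QA.ofRing 𝒮.toQCAlg U s)) = s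
  rw [h]
  exact p1_of_mem 𝒮 U hU hs

end Proj1


/-! ## very ampleness from an immersion into the Proj of an algebra generated in degree one -/
section Main
open Groth.Agent.H6.Sym Groth.Agent.H6 Groth.Agent.LD.QC
variable {S : Scheme.{u}}

/-- the irrelevant ideal condition for the map `Sym(E) → 𝒮` induced by `u : E → 𝒮_1` surjective. -/
theorem symLift_irr (E : S.Modules) [E.IsQuasicoherent] (𝒮 : RelProj.QCGrAlg S) (h𝒮 : 𝒮.IsGenDegOne)
    (u : E ⟶ 𝒮.toModule)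
    (hu1 : ∀ (U : S.Opens) (hU : IsAffineOpen U) (x : Γ(E, U)), (u.app U) x ∈ 𝒮.deg U hU 1)
    (husurj : ∀ (U : S.Opens) (hU : IsAffineOpen U) (s : 𝒮.presheaf.obj (op U)), s ∈ 𝒮.deg U hU 1 →
      ∃ x : Γ(E, U), (u.app U) x = s)
    (U : S.Opens) (hU : IsAffineOpen U) :
    (𝒮.deg U hU)₊ ≤ (((symGrAlg E).deg U hU)₊).map
      (RelProj.gradedHomAt (𝒜 := symGrAlg E) (ℬ := 𝒮) (symLift E 𝒮.toQCAlg u)
        (symLift_graded E 𝒮 u hu1) U hU) := by
  set ψ := RelProj.gradedHomAt (𝒜 := symGrAlg E) (ℬ := 𝒮) (symLift E 𝒮.toQCAlg u)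
        (symLift_graded E 𝒮 u hu1) U hU with hψ
  have hspan : (𝒮.deg U hU)₊.toIdeal = Ideal.span (𝒮.deg U hU 1 : Set _) :=
    Groth.Agent.H8.RelTwist.irrelevant_eq_span_degOne (𝒮.deg U hU) (h𝒮 U hU)
  have hle : Ideal.span (𝒮.deg U hU 1 : Set (𝒮.presheaf.obj (op U))) ≤
      Ideal.map ψ (((symGrAlg E).deg U hU)₊.toIdeal) := by
    rw [Ideal.span_le]
    intro s hs
    obtain ⟨x, hx⟩ := husurj U hU s hs
    have hju := symJ_symLift E 𝒮.toQCAlg u
    have h1 := congr($(congrArg (fun f : E ⟶ 𝒮.toModule => f.app U) hju) x)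
    have h2 : ψ (QA.toRing (symAlg E) U ((symJ E).app U x)) = s := h1.trans hx
    rw [← h2]
    exact Ideal.mem_map_of_mem _
      (HomogeneousIdeal.mem_irrelevant_of_mem _ one_pos ((isGrSymAlg E).2 U hU x))
  rw [HomogeneousIdeal.irrelevant_le]
  intro i hi b hb
  change b ∈ Ideal.map ψ (((symGrAlg E).deg U hU)₊.toIdeal)
  apply hle
  rw [← hspan]
  exact HomogeneousIdeal.mem_irrelevant_of_mem _ hi hb

theorem veryAmple_of_genDegOne {X Y P : Scheme.{u}} (q : X ⟶ Y) (L : X.Modules)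
    (𝒮 : RelProj.QCGrAlg Y) (h𝒮 : 𝒮.IsGenDegOne) (p : P ⟶ Y)
    (chart : ∀ (U : Y.Opens) (hU : IsAffineOpen U),
      ((p ⁻¹ᵁ U : P.Opens) : Scheme.{u}) ≅ Proj (𝒮.deg U hU))
    (hP : RelProj.IsRelProj 𝒮 p chart) (O1 : P.Modules)
    (lam : ∀ (U : Y.Opens) (hU : IsAffineOpen U),
      O1 ⟶ (Scheme.Modules.pushforward (RelProj.emb p chart U hU)).obj
        (GrTwist.twist (𝒮.deg U hU) 1))
    (hO1 : RelProj.IsRelTwist 𝒮 p chart 1 O1 lam) (i : X ⟶ P) [IsImmersion i] (hi : i ≫ p = q)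
    (e : L ≅ (Scheme.Modules.pullback i).obj O1) : RelProj.IsRelVeryAmple q L := by
  classical
  let E : Y.Modules := 𝒮.toModule
  haveI hE : E.IsQuasicoherent := QA.toModule_qc 𝒮.toQCAlg
  let u : E ⟶ 𝒮.toModule := proj1 𝒮
  have hu1 : ∀ (U : Y.Opens) (hU : IsAffineOpen U) (x : Γ(E, U)), (u.app U) x ∈ 𝒮.deg U hU 1 :=
    proj1_mem 𝒮
  have husurj : ∀ (U : Y.Opens) (hU : IsAffineOpen U) (s : 𝒮.presheaf.obj (op U)),
      s ∈ 𝒮.deg U hU 1 → ∃ x : Γ(E, U), (u.app U) x = s := proj1_surj 𝒮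
  let 𝒯 : RelProj.QCGrAlg Y := symGrAlg E
  let j : E ⟶ 𝒯.toModule := symJ E
  have hT : RelProj.IsGrSymAlg E 𝒯 j := isGrSymAlg E
  let ubar : 𝒯.toQCAlg ⟶ 𝒮.toQCAlg := symLift E 𝒮.toQCAlg u
  have hubar : RelProj.IsGradedHom ubar := symLift_graded E 𝒮 u hu1
  have hju : j ≫ RelSpec.QCAlg.Hom.toModuleMap ubar = u := symJ_symLift E 𝒮.toQCAlg u
  have hirr : ∀ (U : Y.Opens) (hU : IsAffineOpen U),
      (𝒮.deg U hU)₊ ≤ ((𝒯.deg U hU)₊).map (RelProj.gradedHomAt ubar hubar U hU) :=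
    symLift_irr E 𝒮 h𝒮 u hu1 husurj
  obtain ⟨PT, pT, chartT, hPT⟩ := Groth.Agent.S8258.result 𝒯
  obtain ⟨O1T, lamT, hO1T⟩ := Groth.Agent.S8284.result 𝒯 pT chartT hPT 1
  obtain ⟨⟨h, hh, -⟩, hover⟩ := Groth.Agent.S8262.result ubar hubar hirr pT p chartT chart hPT hP
  have hci : IsClosedImmersion h :=
    Groth.Agent.S8292.result 𝒮 𝒯 h𝒮 E hE u hu1 husurj j hT ubar hubar hju hirr pT p chartT chart
      hPT hP h hh
  obtain ⟨τ⟩ := Groth.Agent.H8.RelTwist.nonempty_pullback_iso hPT hP hh (symGr_genDegOne E)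
    hO1T hO1
  refine ⟨E, hE, 𝒯, j, hT, PT, pT, chartT, hPT, O1T, lamT, hO1T, i ≫ h, inferInstance, ?_, ⟨?_⟩⟩
  · rw [Category.assoc, hover h hh, hi]
  · exact e ≪≫ (Scheme.Modules.pullback i).mapIso τ.symm ≪≫
      (Scheme.Modules.pullbackComp i h).app O1T

end Main

end
end Groth.Agent.H4.PBundle
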