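import Mathlib
import Groth.Agent.H4.PBundle
import Groth.Agent.Lib.Helper6.SymU
import Groth.Agent.Lib.Helper8.RelTwist.GenLocus
import Groth.Agent.Lib.Lead.QC.EpiLocal
import Groth.Agent.Lib.Lead.QC.Counit

set_option autoImplicit false
set_option linter.unusedSectionVars false
set_option linter.unusedVariables false
set_option linter.style.haveILetI false
universe u
open CategoryTheory CategoryTheory.Limits AlgebraicGeometry TopologicalSpace Opposite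
open scoped HomogeneousIdeal

namespace Groth.Agent.H4.PBundle2
noncomputable section

/-! ## an injective graded ring homomorphism reflects degrees -/
section GradedInj
variable {A B : Type*} [CommRing A] [CommRing B] {σ τ : Type*} [SetLike σ A] [AddSubgroupClass σ A]
  [SetLike τ B] [AddSubgroupClass τ B] {𝒜 : ℕ → σ} {ℬ : ℕ → τ} [GradedRing 𝒜] [GradedRing ℬ]

theorem mem_of_map_mem (Λ : 𝒜 →+*ᵍ ℬ) (hinj : Function.Injective Λ) {a : A} {n : ℕ}
    (h : Λ a ∈ ℬ n) : a ∈ 𝒜 n := by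
  classical
  have h0 : ∀ i, i ≠ n → (DirectSum.decompose 𝒜 a i : A) = 0 := by
    intro i hi
    apply hinj
    rw [GradedRingHom.map_directSumDecompose, map_zero, DirectSum.decompose_of_mem_ne ℬ h hi.symm]
  have h1 : a = (DirectSum.decompose 𝒜 a n : A) := by
    conv_lhs => rw [← DirectSum.sum_support_decompose 𝒜 a]
    apply Finset.sum_eq_single n
    · intro i _ hi; exact h0 i hi
    · intro hn
      rw [DFinsupp.notMem_support_iff.mp hn]; rfl
  rw [h1]; exact SetLike.coe_mem _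

end GradedInj

/-! ## consequences of the (abstract) graded symmetric algebra property -/
section Abstract
open Groth.Agent.H6.Sym Groth.Agent.H6 Groth.Agent.LD.QC Groth.Agent.H4.PBundle
variable {S : Scheme.{u}} {E : S.Modules} [E.IsQuasicoherent] {𝒮 : RelProj.QCGrAlg S}
  {j : E ⟶ 𝒮.toModule}

def liftGr (hj : RelProj.IsGrSymAlg E 𝒮 j) (U : S.Opens) (hU : IsAffineOpen U) :
    gr Γ(S, U) Γ(E, U) →+*ᵍ 𝒮.deg U hU :=
  { liftSec E 𝒮.toQCAlg j U with
    map_mem := fun {n} {x} hx => map_mem_of _ _ (𝒮.deg U hU) (liftSec E 𝒮.toQCAlg j U)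
      (fun r => by rw [liftSec_algebraMap]; exact 𝒮.str_mem U hU r)
      (fun m => by rw [liftSec_ι]; exact hj.2 U hU m) hx }

lemma liftGr_apply (hj : RelProj.IsGrSymAlg E 𝒮 j) (U : S.Opens) (hU : IsAffineOpen U)
    (x : symObj E U) : liftGr hj U hU x = liftSec E 𝒮.toQCAlg j U x := rfl

theorem genDegOne_of_isGrSymAlg (hj : RelProj.IsGrSymAlg E 𝒮 j) : 𝒮.IsGenDegOne := by
  intro U hU
  rw [eq_top_iff]
  intro x hx
  clear hx
  obtain ⟨y, rfl⟩ := (liftSec_bijective hj.1 U hU).2 x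
  induction y using SymmetricAlgebra.induction with
  | algebraMap r =>
    refine Subring.subset_closure (Or.inl ?_)
    rw [liftSec_algebraMap]; exact 𝒮.str_mem U hU r
  | ι m =>
    refine Subring.subset_closure (Or.inr ?_)
    rw [liftSec_ι]; exact hj.2 U hU m
  | mul a b ha hb => rw [map_mul]; exact Subring.mul_mem _ ha hb
  | add a b ha hb => rw [map_add]; exact Subring.add_mem _ ha hb

theorem exists_sec_eq_of_mem_deg_one (hj : RelProj.IsGrSymAlg E 𝒮 j) (U : S.Opens)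
    (hU : IsAffineOpen U) {x : 𝒮.presheaf.obj (op U)} (hx : x ∈ 𝒮.deg U hU 1) :
    ∃ e : Γ(E, U), QA.sec j U e = x := by
  obtain ⟨y, rfl⟩ := (liftSec_bijective hj.1 U hU).2 x
  have hy : y ∈ gr Γ(S, U) Γ(E, U) 1 :=
    mem_of_map_mem (liftGr hj U hU) (liftSec_bijective hj.1 U hU).1 hx
  change y ∈ LinearMap.range (SymmetricAlgebra.ι Γ(S, U) Γ(E, U)) ^ 1 at hy
  rw [pow_one] at hy
  obtain ⟨m, rfl⟩ := hy
  exact ⟨m, (liftSec_ι E 𝒮.toQCAlg j U m).symm⟩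

theorem exists_sec_basicOpen (hj : RelProj.IsGrSymAlg E 𝒮 j) (U : S.Opens) (hU : IsAffineOpen U)
    (z : ProjectiveSpectrum (𝒮.deg U hU)) :
    ∃ e : Γ(E, U), z ∈ ProjectiveSpectrum.basicOpen (𝒮.deg U hU) (QA.sec j U e) := by
  obtain ⟨f, hf, hz⟩ := Groth.Agent.H8.GTW.exists_mem_basicOpen_of_span
    (Groth.Agent.H8.RelTwist.irrelevant_eq_span_degOne (𝒮.deg U hU)
      (genDegOne_of_isGrSymAlg hj U hU)) z
  obtain ⟨e, rfl⟩ := exists_sec_eq_of_mem_deg_one hj U hU hf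
  exact ⟨e, hz⟩

end Abstract


/-! ## sections of `O(1)` reading as a degree-one element are bases on the corresponding basic open -/
section Reads
open Groth.Agent.H6.Sym Groth.Agent.H6 Groth.Agent.LD.QC Groth.Agent.H4.PBundle
open Groth.Agent.H8.RelTwist Groth.Agent.H8.RelTilde Groth.Agent.H8.GTW Groth.Agent.H8.ProjTilde
variable {Y P : Scheme.{u}} {𝒮 : RelProj.QCGrAlg Y} {p : P ⟶ Y}
  {chart : ∀ (U : Y.Opens) (hU : IsAffineOpen U), (((p ⁻¹ᵁ U : P.Opens) : Scheme.{u}) ≅ Proj (𝒮.deg U hU))}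
  {O1 : P.Modules}
  {lam : ∀ (U : Y.Opens) (hU : IsAffineOpen U),
    O1 ⟶ (Scheme.Modules.pushforward (RelProj.emb p chart U hU)).obj (GrTwist.twist (𝒮.deg U hU) 1)}

lemma image_basicOpen_le (U : Y.Opens) (hU : IsAffineOpen U) (g : 𝒮.presheaf.obj (op U)) :
    RelProj.emb p chart U hU ''ᵁ (Proj.basicOpen (𝒮.deg U hU) g) ≤ p ⁻¹ᵁ U := by
  rw [← opensRange_emb 𝒮 p chart U hU]
  rintro _ ⟨y, -, rfl⟩
  exact ⟨y, rfl⟩

lemma preimage_image_basicOpen_le (U : Y.Opens) (hU : IsAffineOpen U) (g : 𝒮.presheaf.obj (op U)) :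
    RelProj.emb p chart U hU ⁻¹ᵁ
      (RelProj.emb p chart U hU ''ᵁ (Proj.basicOpen (𝒮.deg U hU) g)) ≤
      Proj.basicOpen (𝒮.deg U hU) g := by
  rintro y ⟨y', hy', hyy⟩
  rwa [← (RelProj.emb p chart U hU).isOpenEmbedding.injective hyy]

lemma val_lam_res (U : Y.Opens) (hU : IsAffineOpen U) (g : 𝒮.presheaf.obj (op U))
    (s : Γ(O1, p ⁻¹ᵁ U))
    (hs : ∀ y : ↥(RelProj.emb p chart U hU ⁻¹ᵁ (p ⁻¹ᵁ U)),
      GrTwist.val (V := RelProj.emb p chart U hU ⁻¹ᵁ (p ⁻¹ᵁ U)) ((lam U hU).app (p ⁻¹ᵁ U) s) y =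
        algebraMap (𝒮.presheaf.obj (op U)) (GrTwist.Loc (𝒮.deg U hU) y.1) g)
    (W : P.Opens) (hW : W ≤ p ⁻¹ᵁ U)
    (y : (RelProj.emb p chart U hU ⁻¹ᵁ W : (Proj (𝒮.deg U hU)).Opens)) :
    GrTwist.val (V := RelProj.emb p chart U hU ⁻¹ᵁ W)
      ((lam U hU).app W (O1.presheaf.map (homOfLE hW).op s)) y = Localization.mk g 1 := by
  rw [app_res]
  exact (hs ⟨y.1, (RelProj.emb p chart U hU).preimage_mono hW y.2⟩).trans
    (Localization.mk_one_eq_algebraMap g).symm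

theorem isBasisOver_of_reads (hO1 : RelProj.IsRelTwist 𝒮 p chart 1 O1 lam)
    (U : Y.Opens) (hU : IsAffineOpen U) (g : 𝒮.presheaf.obj (op U)) (hg : g ∈ 𝒮.deg U hU 1)
    (s : Γ(O1, p ⁻¹ᵁ U))
    (hs : ∀ y : ↥(RelProj.emb p chart U hU ⁻¹ᵁ (p ⁻¹ᵁ U)),
      GrTwist.val (V := RelProj.emb p chart U hU ⁻¹ᵁ (p ⁻¹ᵁ U)) ((lam U hU).app (p ⁻¹ᵁ U) s) y =
        algebraMap (𝒮.presheaf.obj (op U)) (GrTwist.Loc (𝒮.deg U hU) y.1) g) :
    IsBasisOver O1 (RelProj.emb p chart U hU ''ᵁ (Proj.basicOpen (𝒮.deg U hU) g))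
      (O1.presheaf.map (homOfLE (image_basicOpen_le U hU g)).op s) := by
  apply isBasisOver_of_isUnitSec hO1 U hU _ (image_basicOpen_le U hU g)
  refine IsUnitSec.of_val_eq (isUnitSec_fracSec (𝒜 := 𝒮.deg U hU)
    ⟨g, hg⟩ ⟨1, SetLike.GradedOne.one_mem⟩ (1 : ℤ) (by simp)
    (RelProj.emb p chart U hU ⁻¹ᵁ (RelProj.emb p chart U hU ''ᵁ (Proj.basicOpen (𝒮.deg U hU) g)))
    (fun x h => x.1.isPrime.ne_top ((Ideal.eq_top_iff_one _).mpr h))
    (fun x h => preimage_image_basicOpen_le U hU g x.2 h)) (fun y => ?_)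
  exact val_lam_res U hU g s hs _ (image_basicOpen_le U hU g) y

end Reads

section Adj
open Groth.Agent.LD.QC
variable {X X' : Scheme.{u}} (g : X' ⟶ X) {M : X.Modules} {N : X'.Modules}

lemma adj_symm_app_pbSec' (θ : M ⟶ (Scheme.Modules.pushforward g).obj N) (W : X.Opens)
    (W' : X'.Opens) (h : W' ≤ g ⁻¹ᵁ W) (e : Γ(M, W)) :
    (((Scheme.Modules.pullbackPushforwardAdjunction g).homEquiv _ _).symm θ).app W'
      (pbSec g M h e) = N.presheaf.map (homOfLE h).op (θ.app W e) := by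
  rw [Adjunction.homEquiv_counit]
  change ((Scheme.Modules.pullbackPushforwardAdjunction g).counit.app N).app W'
    (((Scheme.Modules.pullback g).map θ).app W' (pbSec g M h e)) = _
  rw [pbSec_naturality]
  exact counit_pbSec g N h (θ.app W e)

end Adj

section S5732
open Groth.Agent.H6.Sym Groth.Agent.H6 Groth.Agent.LD.QC Groth.Agent.H4.PBundle
open Groth.Agent.H8.RelTwist Groth.Agent.H8.RelTilde Groth.Agent.H8.GTW Groth.Agent.H8.ProjTilde

theorem epi_adj_of_reads {Y P : Scheme.{u}} (E : Y.Modules) (hE : Coh.IsQCoh E)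
    (𝒮 : RelProj.QCGrAlg Y) (j : E ⟶ 𝒮.toModule) (hj : RelProj.IsGrSymAlg E 𝒮 j) (p : P ⟶ Y)
    (chart : ∀ (U : Y.Opens) (hU : IsAffineOpen U), ((p ⁻¹ᵁ U : P.Opens) : Scheme.{u}) ≅ Proj (𝒮.deg U hU))
    (hP : RelProj.IsRelProj 𝒮 p chart) (O1 : P.Modules)
    (lam : ∀ (U : Y.Opens) (hU : IsAffineOpen U),
      O1 ⟶ (Scheme.Modules.pushforward (RelProj.emb p chart U hU)).obj (GrTwist.twist (𝒮.deg U hU) 1))
    (hO1 : RelProj.IsRelTwist 𝒮 p chart 1 O1 lam)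
    (φ : E ⟶ (Scheme.Modules.pushforward p).obj O1)
    (hφ : ∀ (U : Y.Opens) (hU : IsAffineOpen U) (e : Γ(E, U))
      (y : ↥(RelProj.emb p chart U hU ⁻¹ᵁ (p ⁻¹ᵁ U))),
      GrTwist.val (V := RelProj.emb p chart U hU ⁻¹ᵁ (p ⁻¹ᵁ U))
          ((lam U hU).app (p ⁻¹ᵁ U) ((φ.app U) e)) y =
        algebraMap (𝒮.presheaf.obj (op U)) (GrTwist.Loc (𝒮.deg U hU) y.1)
          ((j.app U) e : 𝒮.presheaf.obj (op U))) :
    Epi (((Scheme.Modules.pullbackPushforwardAdjunction p).homEquiv E O1).symm φ) := by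
  haveI : E.IsQuasicoherent := hE
  apply epi_of_local_lift
  intro Ω t x hx
  have hx' : x ∈ (⊤ : P.Opens) := trivial
  rw [← (isOpenCover_emb 𝒮 p chart).iSup_eq_top] at hx'
  obtain ⟨⟨U, hU0⟩, z, rfl⟩ := Opens.mem_iSup.mp hx'
  have hU : IsAffineOpen U := hU0
  obtain ⟨e, he⟩ := exists_sec_basicOpen hj U hU z
  have hg : QA.sec j U e ∈ 𝒮.deg U hU 1 := hj.2 U hU e
  have hb := isBasisOver_of_reads hO1 U hU (QA.sec j U e) hg (φ.app U e) (hφ U hU e)
  have hWU := image_basicOpen_le (p := p) (chart := chart) U hU (QA.sec j U e)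
  have hb' := hb.mono (inf_le_left (b := Ω))
  obtain ⟨c, hc⟩ := hb'.exists_coord (O1.presheaf.map (homOfLE inf_le_right).op t)
  refine ⟨RelProj.emb p chart U hU ''ᵁ
      (Proj.basicOpen (𝒮.deg U hU) (QA.sec j U e)) ⊓ Ω, inf_le_right, ⟨⟨z, he, rfl⟩, hx⟩,
    c • pbSec p E (inf_le_left.trans hWU) e, ?_⟩
  rw [Scheme.Modules.Hom.app_smul, adj_symm_app_pbSec', hc]
  congr 1
  exact (res_res O1 hWU inf_le_left (φ.app U e)).symm

end S5732

end
end Groth.Agent.H4.PBundle2
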