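import Mathlib
import Groth.Agent.H4.PBundle2
import Groth.Agent.Lib.Lead.TW.MulX
import Groth.Agent.Lib.Lead.QC.PullInv

set_option autoImplicit false
set_option linter.unusedSectionVars false
set_option linter.unusedVariables false
set_option linter.style.haveILetI false
universe u
open CategoryTheory CategoryTheory.Limits AlgebraicGeometry TopologicalSpace Opposite
open scoped HomogeneousIdeal

namespace Groth.Agent.H4.PBundle3
noncomputable section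

open Groth.Agent.H6.Sym Groth.Agent.H6 Groth.Agent.LD.QC Groth.Agent.H4.PBundle Groth.Agent.H4.PBundle2
open Groth.Agent.H8.RelTwist Groth.Agent.H8.RelTilde Groth.Agent.H8.GTW Groth.Agent.H8.ProjTilde

section Sec
variable {Y P : Scheme.{u}} {𝒮 : RelProj.QCGrAlg Y} {p : P ⟶ Y}
  {chart : ∀ (U : Y.Opens) (hU : IsAffineOpen U), (((p ⁻¹ᵁ U : P.Opens) : Scheme.{u}) ≅ Proj (𝒮.deg U hU))}
  {O1 : P.Modules}
  {lam : ∀ (U : Y.Opens) (hU : IsAffineOpen U),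
    O1 ⟶ (Scheme.Modules.pushforward (RelProj.emb p chart U hU)).obj (GrTwist.twist (𝒮.deg U hU) 1)}

/-- the section of `O_P(1)` over `p⁻¹(U)` reading `g / 1`, for `g` of degree one over the affine `U`. -/
theorem exists_section_reads (hO1 : RelProj.IsRelTwist 𝒮 p chart 1 O1 lam)
    (U : Y.Opens) (hU : IsAffineOpen U) (g : 𝒮.presheaf.obj (op U)) (hg : g ∈ 𝒮.deg U hU 1) :
    ∃ s : Γ(O1, p ⁻¹ᵁ U), ∀ y : ↥(RelProj.emb p chart U hU ⁻¹ᵁ (p ⁻¹ᵁ U)),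
      GrTwist.val (V := RelProj.emb p chart U hU ⁻¹ᵁ (p ⁻¹ᵁ U)) ((lam U hU).app (p ⁻¹ᵁ U) s) y =
        algebraMap (𝒮.presheaf.obj (op U)) (GrTwist.Loc (𝒮.deg U hU) y.1) g := by
  obtain ⟨s, hs⟩ := (hO1.bijective U hU (p ⁻¹ᵁ U) le_rfl).2
    (show Γ((Scheme.Modules.pushforward (RelProj.emb p chart U hU)).obj
      (GrTwist.twist (𝒮.deg U hU) 1), p ⁻¹ᵁ U) from
      fracSec (𝒜 := 𝒮.deg U hU) ⟨g, hg⟩ ⟨1, SetLike.GradedOne.one_mem⟩ (1 : ℤ) (by simp)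
        (RelProj.emb p chart U hU ⁻¹ᵁ (p ⁻¹ᵁ U))
        (fun x h => x.1.isPrime.ne_top ((Ideal.eq_top_iff_one _).mpr h)))
  refine ⟨s, fun y => ?_⟩
  rw [hs]
  exact Localization.mk_one_eq_algebraMap g

end Sec

theorem epi_counit_of_veryAmple {X Y : Scheme.{u}} (q : X ⟶ Y) (L : X.Modules)
    (h : RelProj.IsRelVeryAmple q L) :
    Epi ((Scheme.Modules.pullbackPushforwardAdjunction q).counit.app L) := by
  obtain ⟨E, hE, 𝒮, j, hj, P, p, chart, hP, O1, lam, hO1, i, hi, hq, ⟨ι⟩⟩ := h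
  subst hq
  haveI : E.IsQuasicoherent := hE
  haveI : O1.IsQuasicoherent := relTwist_isQuasicoherent hO1
  apply epi_of_local_lift
  intro Ω t x hx
  have hx' : i.base x ∈ (⊤ : P.Opens) := trivial
  rw [← (isOpenCover_emb 𝒮 p chart).iSup_eq_top] at hx'
  obtain ⟨⟨U, hU0⟩, z, hz⟩ := Opens.mem_iSup.mp hx'
  have hU : IsAffineOpen U := hU0
  obtain ⟨e, he⟩ := exists_sec_basicOpen hj U hU z
  have hg : QA.sec j U e ∈ 𝒮.deg U hU 1 := hj.2 U hU e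
  obtain ⟨s, hs⟩ := exists_section_reads hO1 U hU (QA.sec j U e) hg
  have hb := isBasisOver_of_reads hO1 U hU (QA.sec j U e) hg s hs
  have hWU := image_basicOpen_le (p := p) (chart := chart) U hU (QA.sec j U e)
  have hbi := hb.pullback (g := i) (U' := i ⁻¹ᵁ (RelProj.emb p chart U hU ''ᵁ
      (Proj.basicOpen (𝒮.deg U hU) (QA.sec j U e)))) le_rfl
  have e1 := pbSec_res i O1 (le_refl (i ⁻¹ᵁ (p ⁻¹ᵁ U))) (le_refl (i ⁻¹ᵁ (RelProj.emb p chart U hU ''ᵁ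
      (Proj.basicOpen (𝒮.deg U hU) (QA.sec j U e))))) (i.preimage_mono hWU) hWU s
  rw [e1] at hbi
  have hbL := hbi.map_of_bijective ι.inv (fun W' _ => app_bijective_of_isIso ι.inv W')
  rw [app_res] at hbL
  have hb' := hbL.mono (inf_le_left (b := Ω))
  obtain ⟨c, hc⟩ := hb'.exists_coord (L.presheaf.map (homOfLE inf_le_right).op t)
  have hxW : x ∈ i ⁻¹ᵁ (RelProj.emb p chart U hU ''ᵁ
      (Proj.basicOpen (𝒮.deg U hU) (QA.sec j U e))) := ⟨z, he, hz⟩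
  have hle : i ⁻¹ᵁ (RelProj.emb p chart U hU ''ᵁ
      (Proj.basicOpen (𝒮.deg U hU) (QA.sec j U e))) ⊓ Ω ≤ (i ≫ p) ⁻¹ᵁ U :=
    inf_le_left.trans (i.preimage_mono hWU)
  have h1 := counit_pbSec (i ≫ p) L hle (ι.inv.app (i ⁻¹ᵁ (p ⁻¹ᵁ U)) (pbSec i O1 le_rfl s))
  refine ⟨i ⁻¹ᵁ (RelProj.emb p chart U hU ''ᵁ
      (Proj.basicOpen (𝒮.deg U hU) (QA.sec j U e))) ⊓ Ω, inf_le_right, ⟨hxW, hx⟩,
    c • pbSec (i ≫ p) ((Scheme.Modules.pushforward (i ≫ p)).obj L) hle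
      (show Γ((Scheme.Modules.pushforward (i ≫ p)).obj L, U) from
        ι.inv.app (i ⁻¹ᵁ (p ⁻¹ᵁ U)) (pbSec i O1 le_rfl s)), ?_⟩
  rw [Scheme.Modules.Hom.app_smul]
  refine (congrArg (c • ·) h1).trans ?_
  refine Eq.trans ?_ hc.symm
  congr 1
  exact (res_res L _ _ _).symm

end
end Groth.Agent.H4.PBundle3
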