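import Mathlib
import Groth.Agent.H4.PBundle3
import Groth.Agent.H4.ConeImm

set_option autoImplicit false
set_option linter.style.haveILetI false
set_option linter.unusedSectionVars false
set_option linter.unusedVariables false

namespace Groth.Agent.H4.PBLoc

open CategoryTheory CategoryTheory.Limits AlgebraicGeometry TopologicalSpace Opposite
open HomogeneousLocalization
open Groth.Agent.H6.Sym Groth.Agent.H6 Groth.Agent.LD.QC Groth.Agent.H4.PBundle Groth.Agent.H4.PBundle2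
open Groth.Agent.H4.PBundle3
open Groth.Agent.H8.RelTwist Groth.Agent.H8.RelTilde Groth.Agent.H8.GTW Groth.Agent.H8.ProjTilde
open scoped HomogeneousIdeal

universe u

noncomputable section

section A1

variable {Y P : Scheme.{u}} {𝒮 : RelProj.QCGrAlg Y} (p : P ⟶ Y)
  (chart : ∀ (U : Y.Opens) (hU : IsAffineOpen U),
    (((p ⁻¹ᵁ U : P.Opens) : Scheme.{u}) ≅ Proj (𝒮.deg U hU)))

/-- the chart basic open `D₊(f)` inside `P`. -/
def Dp (U : Y.Opens) (hU : IsAffineOpen U) (f : 𝒮.presheaf.obj (op U)) : P.Opens :=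
  RelProj.emb p chart U hU ''ᵁ Proj.basicOpen (𝒮.deg U hU) f

lemma Dp_le (U : Y.Opens) (hU : IsAffineOpen U) (f : 𝒮.presheaf.obj (op U)) :
    Dp p chart U hU f ≤ p ⁻¹ᵁ U := image_basicOpen_le U hU f

lemma preimage_Dp (U : Y.Opens) (hU : IsAffineOpen U) (f : 𝒮.presheaf.obj (op U)) :
    RelProj.emb p chart U hU ⁻¹ᵁ Dp p chart U hU f = Proj.basicOpen (𝒮.deg U hU) f :=
  (RelProj.emb p chart U hU).preimage_image_eq _

/-- functions on the chart basic open given by degree zero fractions. -/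
def fn (U : Y.Opens) (hU : IsAffineOpen U) (f : 𝒮.presheaf.obj (op U)) :
    Away (𝒮.deg U hU) f →+* Γ(P, Dp p chart U hU f) :=
  ((RelProj.emb p chart U hU).appIso (Proj.basicOpen (𝒮.deg U hU) f)).inv.hom.comp
    (Proj.awayToSection (𝒮.deg U hU) f).hom

/-- the value of a function on `P` at a point of a chart. -/
def fval (U : Y.Opens) (hU : IsAffineOpen U) {W : P.Opens} (a : Γ(P, W))
    (y : (RelProj.emb p chart U hU ⁻¹ᵁ W : (Proj (𝒮.deg U hU)).Opens)) :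
    GrTwist.Loc (𝒮.deg U hU) y.1 :=
  ((show GrTwist.O (𝒜 := 𝒮.deg U hU) (op (RelProj.emb p chart U hU ⁻¹ᵁ W)) from
    ((RelProj.emb p chart U hU).app W).hom a).1 y).val

end A1

section Loc
variable {σ : Type u} {A : Type u} [CommRing A] [SetLike σ A] [AddSubgroupClass σ A]
  (𝒜 : ℕ → σ) [GradedRing 𝒜]

/-- the canonical map `A_f → A_x` for `x ∈ D₊(f)`. -/
def toLoc (f : A) (x : ProjectiveSpectrum 𝒜) (hx : x ∈ ProjectiveSpectrum.basicOpen 𝒜 f) :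
    Localization.Away f →+* GrTwist.Loc 𝒜 x :=
  IsLocalization.map (M := Submonoid.powers f) (T := x.asHomogeneousIdeal.toIdeal.primeCompl) _
    (RingHom.id _) (Submonoid.powers_le.mpr hx)

lemma toLoc_mk (f : A) (x : ProjectiveSpectrum 𝒜) (hx : x ∈ ProjectiveSpectrum.basicOpen 𝒜 f)
    (a : A) (n : ℕ) :
    toLoc 𝒜 f x hx (Localization.mk a ⟨f ^ n, n, rfl⟩) =
      Localization.mk a (⟨f ^ n, fun h => hx (x.isPrime.mem_of_pow_mem n h)⟩ :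
        x.asHomogeneousIdeal.toIdeal.primeCompl) := by
  unfold toLoc
  rw [Localization.mk_eq_mk', IsLocalization.map_mk', Localization.mk_eq_mk']
  rfl

lemma isUnit_toLoc_iff (h f : A) (x : ProjectiveSpectrum 𝒜)
    (hx : x ∈ ProjectiveSpectrum.basicOpen 𝒜 h) (n : ℕ) :
    IsUnit (toLoc 𝒜 h x hx (Localization.mk f (⟨h ^ n, n, rfl⟩ : Submonoid.powers h))) ↔
      x ∈ ProjectiveSpectrum.basicOpen 𝒜 f := by
  rw [toLoc_mk, Localization.mk_eq_mk', IsLocalization.AtPrime.isUnit_mk'_iff]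
  rfl

end Loc

section A1b

variable {Y P : Scheme.{u}} {𝒮 : RelProj.QCGrAlg Y} (p : P ⟶ Y)
  (chart : ∀ (U : Y.Opens) (hU : IsAffineOpen U),
    (((p ⁻¹ᵁ U : P.Opens) : Scheme.{u}) ≅ Proj (𝒮.deg U hU)))

lemma mem_basicOpen_of_mem_preimage_Dp (U : Y.Opens) (hU : IsAffineOpen U) (f : 𝒮.presheaf.obj (op U))
    (y : (RelProj.emb p chart U hU ⁻¹ᵁ Dp p chart U hU f : (Proj (𝒮.deg U hU)).Opens)) :
    y.1 ∈ ProjectiveSpectrum.basicOpen (𝒮.deg U hU) f := by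
  exact (preimage_Dp p chart U hU f).le y.2

theorem fn_val (U : Y.Opens) (hU : IsAffineOpen U) (f : 𝒮.presheaf.obj (op U))
    (z : Away (𝒮.deg U hU) f)
    (y : (RelProj.emb p chart U hU ⁻¹ᵁ Dp p chart U hU f : (Proj (𝒮.deg U hU)).Opens)) :
    fval p chart U hU (fn p chart U hU f z) y =
      toLoc (𝒮.deg U hU) f y.1 (mem_basicOpen_of_mem_preimage_Dp p chart U hU f y) z.val := by
  have h1 := Scheme.Hom.appIso_inv_app_apply (RelProj.emb p chart U hU)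
    (Proj.basicOpen (𝒮.deg U hU) f) ((Proj.awayToSection (𝒮.deg U hU) f).hom z)
  have h2 := congrArg (fun t : GrTwist.O (𝒜 := 𝒮.deg U hU)
    (op (RelProj.emb p chart U hU ⁻¹ᵁ Dp p chart U hU f)) => (t.1 y).val) h1
  refine h2.trans ?_
  exact ProjectiveSpectrum.Proj.awayToSection_apply (𝒮.deg U hU) f z
    ⟨y.1, mem_basicOpen_of_mem_preimage_Dp p chart U hU f y⟩

end A1b

section A2

variable {Y P : Scheme.{u}} {𝒮 : RelProj.QCGrAlg Y} {p : P ⟶ Y}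
  {chart : ∀ (U : Y.Opens) (hU : IsAffineOpen U),
    (((p ⁻¹ᵁ U : P.Opens) : Scheme.{u}) ≅ Proj (𝒮.deg U hU))}
  {n : ℤ} {O1 : P.Modules}
  {lam : ∀ (U : Y.Opens) (hU : IsAffineOpen U),
    O1 ⟶ (Scheme.Modules.pushforward (RelProj.emb p chart U hU)).obj (GrTwist.twist (𝒮.deg U hU) n)}

theorem val_lam_smul (U : Y.Opens) (hU : IsAffineOpen U) (W : P.Opens) (a : Γ(P, W)) (m : Γ(O1, W))
    (y : (RelProj.emb p chart U hU ⁻¹ᵁ W : (Proj (𝒮.deg U hU)).Opens)) :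
    GrTwist.val (V := RelProj.emb p chart U hU ⁻¹ᵁ W) ((lam U hU).app W (a • m)) y =
      fval p chart U hU a y * GrTwist.val (V := RelProj.emb p chart U hU ⁻¹ᵁ W) ((lam U hU).app W m) y := by
  rw [Scheme.Modules.Hom.app_smul]
  exact smul_sec_val (𝒜 := 𝒮.deg U hU) (k := n) (W := RelProj.emb p chart U hU ⁻¹ᵁ W)
    (((RelProj.emb p chart U hU).app W).hom a)
    (show Γ(GrTwist.twist (𝒮.deg U hU) n, RelProj.emb p chart U hU ⁻¹ᵁ W) from (lam U hU).app W m) y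

theorem eq_smul_of_val (hO1 : RelProj.IsRelTwist 𝒮 p chart n O1 lam)
    (U : Y.Opens) (hU : IsAffineOpen U) (W : P.Opens) (hW : W ≤ p ⁻¹ᵁ U) (a : Γ(P, W)) (m m' : Γ(O1, W))
    (h : ∀ y : (RelProj.emb p chart U hU ⁻¹ᵁ W : (Proj (𝒮.deg U hU)).Opens),
      GrTwist.val (V := RelProj.emb p chart U hU ⁻¹ᵁ W) ((lam U hU).app W m') y =
        fval p chart U hU a y *
          GrTwist.val (V := RelProj.emb p chart U hU ⁻¹ᵁ W) ((lam U hU).app W m) y) :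
    m' = a • m := by
  apply (hO1.bijective U hU W hW).1
  change (show GrTwist.sectN (𝒜 := 𝒮.deg U hU) n (op (RelProj.emb p chart U hU ⁻¹ᵁ W)) from _) =
    (show GrTwist.sectN (𝒜 := 𝒮.deg U hU) n (op (RelProj.emb p chart U hU ⁻¹ᵁ W)) from _)
  apply sectN_ext
  intro y
  exact (h y).trans (val_lam_smul U hU W a m y).symm

end A2

section A3

variable {Y P : Scheme.{u}} {𝒮 : RelProj.QCGrAlg Y} {p : P ⟶ Y}
  {chart : ∀ (U : Y.Opens) (hU : IsAffineOpen U),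
    (((p ⁻¹ᵁ U : P.Opens) : Scheme.{u}) ≅ Proj (𝒮.deg U hU))}
  {O1 : P.Modules}
  (lam : ∀ (U : Y.Opens) (hU : IsAffineOpen U),
    O1 ⟶ (Scheme.Modules.pushforward (RelProj.emb p chart U hU)).obj (GrTwist.twist (𝒮.deg U hU) 1))

/-- the section `s` of `O_P(1)` over `p⁻¹ U` reads `g / 1` in the chart over `U`. -/
def Reads (U : Y.Opens) (hU : IsAffineOpen U) (g : 𝒮.presheaf.obj (op U)) (s : Γ(O1, p ⁻¹ᵁ U)) : Prop :=
  ∀ y : ↥(RelProj.emb p chart U hU ⁻¹ᵁ (p ⁻¹ᵁ U)),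
    GrTwist.val (V := RelProj.emb p chart U hU ⁻¹ᵁ (p ⁻¹ᵁ U)) ((lam U hU).app (p ⁻¹ᵁ U) s) y =
      algebraMap (𝒮.presheaf.obj (op U)) (GrTwist.Loc (𝒮.deg U hU) y.1) g

variable {lam}

theorem reads_res_eq_smul (hO1 : RelProj.IsRelTwist 𝒮 p chart 1 O1 lam)
    (U : Y.Opens) (hU : IsAffineOpen U) (h h' : 𝒮.presheaf.obj (op U))
    (hh : h ∈ 𝒮.deg U hU 1) (hh' : h' ∈ 𝒮.deg U hU 1) (s s' : Γ(O1, p ⁻¹ᵁ U))
    (hs : Reads lam U hU h s) (hs' : Reads lam U hU h' s') :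
    O1.presheaf.map (homOfLE (Dp_le p chart U hU h)).op s' =
      fn p chart U hU h (Away.mk (𝒮.deg U hU) hh 1 h' (by simpa using hh')) •
        O1.presheaf.map (homOfLE (Dp_le p chart U hU h)).op s := by
  apply eq_smul_of_val hO1 U hU _ (Dp_le p chart U hU h)
  intro y
  rw [val_lam_res U hU h' s' hs' _ (Dp_le p chart U hU h) y,
    val_lam_res U hU h s hs _ (Dp_le p chart U hU h) y, fn_val, Away.val_mk]
  have hy := mem_basicOpen_of_mem_preimage_Dp p chart U hU h y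
  have e := toLoc_mk (𝒮.deg U hU) h y.1 hy h' 1
  refine Eq.trans ?_ (congrArg (· * _) e.symm)
  rw [Localization.mk_mul, Localization.mk_eq_mk_iff, Localization.r_iff_exists]
  refine ⟨1, ?_⟩
  simp only [OneMemClass.coe_one, one_mul, Submonoid.coe_mul, mul_one]
  ring

end A3

section A4

variable {Y P X : Scheme.{u}} {𝒮 : RelProj.QCGrAlg Y} {p : P ⟶ Y}
  {chart : ∀ (U : Y.Opens) (hU : IsAffineOpen U),
    (((p ⁻¹ᵁ U : P.Opens) : Scheme.{u}) ≅ Proj (𝒮.deg U hU))}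
  {O1 : P.Modules}
  {lam : ∀ (U : Y.Opens) (hU : IsAffineOpen U),
    O1 ⟶ (Scheme.Modules.pushforward (RelProj.emb p chart U hU)).obj (GrTwist.twist (𝒮.deg U hU) 1)}
  (r : X ⟶ P) {L : X.Modules} (θ : (Scheme.Modules.pullback r).obj O1 ≅ L)

/-- the ring map `𝒮(U)_(f) → Γ(X, W)` induced by `r` for `W ≤ r⁻¹ D₊(f)`. -/
def chi (U : Y.Opens) (hU : IsAffineOpen U) (f : 𝒮.presheaf.obj (op U)) (W : X.Opens)
    (e : W ≤ r ⁻¹ᵁ Dp p chart U hU f) : Away (𝒮.deg U hU) f →+* Γ(X, W) :=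
  (r.appLE (Dp p chart U hU f) W e).hom.comp (fn p chart U hU f)

/-- the section of `L` over `r⁻¹ p⁻¹ U` attached to a section of `O_P(1)` over `p⁻¹ U`. -/
def lsec (U : Y.Opens) (s : Γ(O1, p ⁻¹ᵁ U)) : Γ(L, r ⁻¹ᵁ (p ⁻¹ᵁ U)) :=
  θ.hom.app (r ⁻¹ᵁ (p ⁻¹ᵁ U)) (pbSec r O1 le_rfl s)

lemma lsec_res (U : Y.Opens) (s : Γ(O1, p ⁻¹ᵁ U)) (V : P.Opens) (hV : V ≤ p ⁻¹ᵁ U) (W : X.Opens)
    (e : W ≤ r ⁻¹ᵁ V) :
    L.presheaf.map (homOfLE (e.trans (r.preimage_mono hV))).op (lsec r θ U s) =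
      θ.hom.app W (pbSec r O1 e (O1.presheaf.map (homOfLE hV).op s)) := by
  unfold lsec
  rw [← app_res, ← pbSec_res r O1 (le_refl (r ⁻¹ᵁ (p ⁻¹ᵁ U))) e (e.trans (r.preimage_mono hV)) hV s]

theorem lsec_res_eq_smul (hO1 : RelProj.IsRelTwist 𝒮 p chart 1 O1 lam)
    (U : Y.Opens) (hU : IsAffineOpen U) (h h' : 𝒮.presheaf.obj (op U))
    (hh : h ∈ 𝒮.deg U hU 1) (hh' : h' ∈ 𝒮.deg U hU 1) (s s' : Γ(O1, p ⁻¹ᵁ U))
    (hs : Reads lam U hU h s) (hs' : Reads lam U hU h' s') (W : X.Opens)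
    (e : W ≤ r ⁻¹ᵁ Dp p chart U hU h) :
    L.presheaf.map (homOfLE (e.trans (r.preimage_mono (Dp_le p chart U hU h)))).op (lsec r θ U s') =
      chi r U hU h W e (Away.mk (𝒮.deg U hU) hh 1 h' (by simpa using hh')) •
        L.presheaf.map (homOfLE (e.trans (r.preimage_mono (Dp_le p chart U hU h)))).op (lsec r θ U s) := by
  rw [lsec_res r θ U s' _ (Dp_le p chart U hU h) W e, lsec_res r θ U s _ (Dp_le p chart U hU h) W e,
    reads_res_eq_smul hO1 U hU h h' hh hh' s s' hs hs', pbSec_smul, Scheme.Modules.Hom.app_smul]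
  rfl

theorem isBasisOver_lsec (hO1 : RelProj.IsRelTwist 𝒮 p chart 1 O1 lam)
    (U : Y.Opens) (hU : IsAffineOpen U) (h : 𝒮.presheaf.obj (op U))
    (hh : h ∈ 𝒮.deg U hU 1) (s : Γ(O1, p ⁻¹ᵁ U)) (hs : Reads lam U hU h s) (W : X.Opens)
    (e : W ≤ r ⁻¹ᵁ Dp p chart U hU h) :
    IsBasisOver L W
      (L.presheaf.map (homOfLE (e.trans (r.preimage_mono (Dp_le p chart U hU h)))).op (lsec r θ U s)) := by
  haveI : O1.IsQuasicoherent := relTwist_isQuasicoherent hO1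
  rw [lsec_res r θ U s _ (Dp_le p chart U hU h) W e]
  have hb := isBasisOver_of_reads hO1 U hU h hh s hs
  have hbi := hb.pullback (g := r) (U' := W) e
  exact hbi.map_of_bijective θ.hom (fun W' _ => app_bijective_of_isIso θ.hom W')

end A4

section A5

variable {σ : Type u} {A : Type u} [CommRing A] [SetLike σ A] [AddSubgroupClass σ A]
  (𝒜 : ℕ → σ) [GradedRing 𝒜]

lemma mem_basicOpen_proj_iff {V : (Proj 𝒜).Opens} (s : Γ(Proj 𝒜, V)) (y : V) :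
    y.1 ∈ (Proj 𝒜).basicOpen s ↔
      IsUnit ((show GrTwist.O (𝒜 := 𝒜) (op V) from s).1 y).val := by
  rw [Scheme.mem_basicOpen _ _ _ y.2]
  have h := Proj.stalkIso'_germ 𝒜 V y.1 y.2 s
  have h3 : IsUnit ((show GrTwist.O (𝒜 := 𝒜) (op V) from s).1 y).val ↔
      IsUnit ((show GrTwist.O (𝒜 := 𝒜) (op V) from s).1 y) :=
    haveI : (y.1 : ProjectiveSpectrum 𝒜).asHomogeneousIdeal.toIdeal.IsPrime := (y.1 : ProjectiveSpectrum 𝒜).isPrime
    HomogeneousLocalization.isUnit_iff_isUnit_val _ _ _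
  rw [h3]
  change _ ↔ IsUnit ((show GrTwist.O (𝒜 := 𝒜) (op V) from s).1 ⟨y.1, y.2⟩)
  rw [← h]
  exact (MulEquiv.isUnit_map (Proj.stalkIso' 𝒜 y.1).toMulEquiv).symm

end A5

section A6

variable {Y P : Scheme.{u}} {𝒮 : RelProj.QCGrAlg Y} (p : P ⟶ Y)
  (chart : ∀ (U : Y.Opens) (hU : IsAffineOpen U),
    (((p ⁻¹ᵁ U : P.Opens) : Scheme.{u}) ≅ Proj (𝒮.deg U hU)))

theorem mem_basicOpen_iff_isUnit_fval (U : Y.Opens) (hU : IsAffineOpen U) {W : P.Opens} (a : Γ(P, W))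
    (y : (RelProj.emb p chart U hU ⁻¹ᵁ W : (Proj (𝒮.deg U hU)).Opens)) :
    (RelProj.emb p chart U hU).base y.1 ∈ P.basicOpen a ↔ IsUnit (fval p chart U hU a y) := by
  have h1 : (RelProj.emb p chart U hU).base y.1 ∈ P.basicOpen a ↔
      y.1 ∈ RelProj.emb p chart U hU ⁻¹ᵁ P.basicOpen a := Iff.rfl
  rw [h1, Scheme.Hom.preimage_basicOpen]
  exact mem_basicOpen_proj_iff (𝒮.deg U hU) _ y

theorem basicOpen_fn (U : Y.Opens) (hU : IsAffineOpen U) (h f : 𝒮.presheaf.obj (op U))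
    (z : Away (𝒮.deg U hU) h) (n : ℕ) (hz : z.val = Localization.mk f (⟨h ^ n, n, rfl⟩ : Submonoid.powers h)) :
    P.basicOpen (fn p chart U hU h z) = Dp p chart U hU h ⊓ Dp p chart U hU f := by
  refine SetLike.ext (fun x => ⟨fun hx => ?_, fun hx => ?_⟩)
  · have hxD : x ∈ Dp p chart U hU h := P.basicOpen_le _ hx
    obtain ⟨y, hy, rfl⟩ := hxD
    refine ⟨⟨y, hy, rfl⟩, ?_⟩
    have hy' : y ∈ RelProj.emb p chart U hU ⁻¹ᵁ Dp p chart U hU h := ⟨y, hy, rfl⟩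
    have h2 := (mem_basicOpen_iff_isUnit_fval p chart U hU (fn p chart U hU h z) ⟨y, hy'⟩).mp hx
    rw [fn_val, hz] at h2
    exact ⟨y, (isUnit_toLoc_iff (𝒮.deg U hU) h f y hy n).mp h2, rfl⟩
  · obtain ⟨⟨y, hy, rfl⟩, ⟨y', hy', hyy⟩⟩ := hx
    have e := (RelProj.emb p chart U hU).isOpenEmbedding.injective hyy
    subst e
    have hyD : y' ∈ RelProj.emb p chart U hU ⁻¹ᵁ Dp p chart U hU h := ⟨y', hy, rfl⟩
    refine (mem_basicOpen_iff_isUnit_fval p chart U hU (fn p chart U hU h z) ⟨y', hyD⟩).mpr ?_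
    rw [fn_val, hz]
    exact (isUnit_toLoc_iff (𝒮.deg U hU) h f y' hy n).mpr hy'

end A6

section A7

lemma isUnit_of_le_basicOpen {X : Scheme.{u}} {U : X.Opens} (a : Γ(X, U)) (h : U ≤ X.basicOpen a) :
    IsUnit a :=
  RingedSpace.isUnit_of_isUnit_germ X.toLocallyRingedSpace.toRingedSpace U a
    (fun x hx => (X.mem_basicOpen a x hx).mp (h hx))

variable {Y P X : Scheme.{u}} {𝒮 : RelProj.QCGrAlg Y} {p : P ⟶ Y}
  {chart : ∀ (U : Y.Opens) (hU : IsAffineOpen U),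
    (((p ⁻¹ᵁ U : P.Opens) : Scheme.{u}) ≅ Proj (𝒮.deg U hU))}
  (r : X ⟶ P)

theorem basicOpen_chi (U : Y.Opens) (hU : IsAffineOpen U) (h f : 𝒮.presheaf.obj (op U))
    (z : Away (𝒮.deg U hU) h) (n : ℕ)
    (hz : z.val = Localization.mk f (⟨h ^ n, n, rfl⟩ : Submonoid.powers h))
    (W : X.Opens) (e : W ≤ r ⁻¹ᵁ Dp p chart U hU h) :
    X.basicOpen (chi r U hU h W e z) = W ⊓ r ⁻¹ᵁ (Dp p chart U hU h ⊓ Dp p chart U hU f) := by
  unfold chi
  rw [RingHom.comp_apply]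
  erw [Scheme.basicOpen_appLE]
  rw [basicOpen_fn p chart U hU h f z n hz]

theorem isUnit_chi (U : Y.Opens) (hU : IsAffineOpen U) (h f : 𝒮.presheaf.obj (op U))
    (z : Away (𝒮.deg U hU) h) (n : ℕ)
    (hz : z.val = Localization.mk f (⟨h ^ n, n, rfl⟩ : Submonoid.powers h))
    (W : X.Opens) (e : W ≤ r ⁻¹ᵁ Dp p chart U hU h) (e' : W ≤ r ⁻¹ᵁ Dp p chart U hU f) :
    IsUnit (chi r U hU h W e z) := by
  apply isUnit_of_le_basicOpen
  rw [basicOpen_chi r U hU h f z n hz W e]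
  exact le_inf le_rfl (fun x hx => ⟨e hx, e' hx⟩)

theorem mem_Dp_of_mem_basicOpen_chi (U : Y.Opens) (hU : IsAffineOpen U) (h f : 𝒮.presheaf.obj (op U))
    (z : Away (𝒮.deg U hU) h) (n : ℕ)
    (hz : z.val = Localization.mk f (⟨h ^ n, n, rfl⟩ : Submonoid.powers h))
    (W : X.Opens) (e : W ≤ r ⁻¹ᵁ Dp p chart U hU h) (x : X)
    (hx : x ∈ X.basicOpen (chi r U hU h W e z)) : r.base x ∈ Dp p chart U hU f := by
  rw [basicOpen_chi r U hU h f z n hz W e] at hx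
  exact hx.2.2

end A7

section A8

open Groth.Agent.H4.ConeImm

variable {Y P X : Scheme.{u}} {𝒮 : RelProj.QCGrAlg Y} {p : P ⟶ Y}
  {chart : ∀ (U : Y.Opens) (hU : IsAffineOpen U),
    (((p ⁻¹ᵁ U : P.Opens) : Scheme.{u}) ≅ Proj (𝒮.deg U hU))}
  {O1 : P.Modules}
  {lam : ∀ (U : Y.Opens) (hU : IsAffineOpen U),
    O1 ⟶ (Scheme.Modules.pushforward (RelProj.emb p chart U hU)).obj (GrTwist.twist (𝒮.deg U hU) 1)}
  (r : X ⟶ P) {L : X.Modules} (θ : (Scheme.Modules.pullback r).obj O1 ≅ L)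

/-- every point of `p⁻¹ U` lies in a chart basic open of a degree one element. -/
theorem exists_degOne_mem_Dp (hgen : 𝒮.IsGenDegOne) (U : Y.Opens) (hU : IsAffineOpen U) (x : P)
    (hx : p.base x ∈ U) :
    ∃ h₀ : 𝒮.presheaf.obj (op U), h₀ ∈ 𝒮.deg U hU 1 ∧ x ∈ Dp p chart U hU h₀ := by
  obtain ⟨y, rfl⟩ := exists_emb p chart x U hU hx
  obtain ⟨h₀, hh₀, hy⟩ := exists_mem_basicOpen_of_span
    (irrelevant_eq_span_degOne (𝒮.deg U hU) (hgen U hU)) y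
  exact ⟨h₀, hh₀, ⟨y, hy, rfl⟩⟩

theorem le_preimage_Dp_of_isBasisOver (hO1 : RelProj.IsRelTwist 𝒮 p chart 1 O1 lam)
    (hgen : 𝒮.IsGenDegOne) (U : Y.Opens) (hU : IsAffineOpen U) (h : 𝒮.presheaf.obj (op U))
    (hh : h ∈ 𝒮.deg U hU 1) (s : Γ(O1, p ⁻¹ᵁ U)) (hs : Reads lam U hU h s) (W : X.Opens)
    (hW : W ≤ r ⁻¹ᵁ (p ⁻¹ᵁ U))
    (hb : IsBasisOver L W (L.presheaf.map (homOfLE hW).op (lsec r θ U s))) :
    W ≤ r ⁻¹ᵁ Dp p chart U hU h := by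
  intro x hx
  obtain ⟨h₀, hh₀, hx₀⟩ := exists_degOne_mem_Dp (chart := chart) hgen U hU (r.base x) (hW hx)
  obtain ⟨s₀, hs₀⟩ := exists_section_reads hO1 U hU h₀ hh₀
  have e₀ : W ⊓ r ⁻¹ᵁ Dp p chart U hU h₀ ≤ r ⁻¹ᵁ Dp p chart U hU h₀ := inf_le_right
  have eq := lsec_res_eq_smul r θ hO1 U hU h₀ h hh₀ hh s₀ s hs₀ hs _ e₀
  have b₀ := isBasisOver_lsec r θ hO1 U hU h₀ hh₀ s₀ hs₀ _ e₀
  have b := hb.mono (inf_le_left : W ⊓ r ⁻¹ᵁ Dp p chart U hU h₀ ≤ W)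
  rw [res_res, eq] at b
  have hu := (b₀.smul_iff _).mp b
  have hbo := X.basicOpen_of_isUnit hu
  have hxW : x ∈ X.basicOpen (chi r U hU h₀ _ e₀
      (Away.mk (𝒮.deg U hU) hh₀ 1 h (by simpa using hh))) := by
    rw [hbo]; exact ⟨hx, hx₀⟩
  exact mem_Dp_of_mem_basicOpen_chi r U hU h₀ h _ 1 (Away.val_mk _ _ _ _ _) _ e₀ x hxW

end A8

end

end Groth.Agent.H4.PBLoc
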