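import Groth.Agent.H4.ConeRetrAlg

set_option autoImplicit false

namespace Groth.Agent.H4.ConeRetr

open CategoryTheory CategoryTheory.Limits AlgebraicGeometry TopologicalSpace Opposite
open HomogeneousLocalization
open Groth.Agent.H4 Groth.Agent.H4.RelSpecLib Groth.Agent.H4.ConeImm Groth.Agent.H4.ConeInf
open Groth.Agent.H4.ConeRetrAlg
open scoped HomogeneousIdeal

universe u

section ProjAux

variable {A : Type u} [CommRing A] (𝒜 : ℕ → AddSubgroup A) [GradedRing 𝒜]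

theorem awayι_mem_basicOpen {d : ℕ} (hd : 0 < d) (f : A) (hf : f ∈ 𝒜 d)
    (w : Spec (CommRingCat.of (Away 𝒜 f))) :
    (Proj.awayι 𝒜 f hf hd).base w ∈ Proj.basicOpen 𝒜 f := by
  rw [← Proj.opensRange_awayι 𝒜 f hf hd]
  exact ⟨w, rfl⟩

theorem exists_awayι_eq {d : ℕ} (hd : 0 < d) (f : A) (hf : f ∈ 𝒜 d) (y : Proj 𝒜)
    (hy : y ∈ Proj.basicOpen 𝒜 f) : ∃ w, (Proj.awayι 𝒜 f hf hd).base w = y := by
  rw [← Proj.opensRange_awayι 𝒜 f hf hd] at hy
  exact hy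

theorem exists_homog_basicOpen (y : Proj 𝒜) :
    ∃ (d : ℕ) (_ : 0 < d) (g : A) (_ : g ∈ 𝒜 d), y ∈ Proj.basicOpen 𝒜 g := by
  obtain ⟨f, hf, hfy⟩ : ∃ f ∈ (HomogeneousIdeal.irrelevant 𝒜).toIdeal,
      f ∉ y.asHomogeneousIdeal.toIdeal := by
    by_contra hcon
    push Not at hcon
    exact y.not_irrelevant_le (fun f hf => hcon f hf)
  obtain ⟨d, hd, g, hg, hgy⟩ :=
    ConeAlg.exists_homog_notMem 𝒜 y.asHomogeneousIdeal.toIdeal hf hfy
  exact ⟨d, hd, g, hg, hgy⟩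

variable {B C : Type u} [CommRing B] [CommRing C] {𝒜} {ℬ : ℕ → AddSubgroup B}
  {𝒞 : ℕ → AddSubgroup C} [GradedRing ℬ] [GradedRing 𝒞]

theorem specMap_awayMap_comp (ι : 𝒜 →+*ᵍ ℬ) (θg : ℬ →+*ᵍ 𝒞) (f : A) :
    Spec.map (CommRingCat.ofHom (Away.map θg (ι f))) ≫
      Spec.map (CommRingCat.ofHom (Away.map ι f)) =
      Spec.map (CommRingCat.ofHom (Away.map (θg.comp ι) f)) := by
  rw [← Spec.map_comp, ← CommRingCat.ofHom_comp]
  exact congrArg (fun t => Spec.map (CommRingCat.ofHom t)) (Away.map_comp ι θg f).symm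

end ProjAux

section Emb

variable {Y P : Scheme.{u}} {𝒜 : RelProj.QCGrAlg Y} (p : P ⟶ Y)
  (chart : ∀ (U : Y.Opens) (hU : IsAffineOpen U),
    (((p ⁻¹ᵁ U : P.Opens) : Scheme.{u}) ≅ Proj (𝒜.deg U hU)))

theorem emb_over (hP : RelProj.IsRelProj 𝒜 p chart) (U : Y.Opens) (hU : IsAffineOpen U) :
    RelProj.emb p chart U hU ≫ p =
      Proj.toSpecZero (𝒜.deg U hU) ≫ Spec.map (𝒜.strZero U hU) ≫ hU.fromSpec := by
  unfold RelProj.emb
  rw [Category.assoc, ← hP.chart_over U hU, Iso.inv_hom_id_assoc]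

end Emb

section Retr

variable {Y : Scheme.{u}} {𝒮 Sh : RelProj.QCGrAlg Y} {ι : 𝒮.toQCAlg ⟶ Sh.toQCAlg}
  {z : Sh.presheaf.obj (op ⊤)} (hz : RelCone.IsPolyOver 𝒮 Sh ι z)
  {PC : Scheme.{u}} (pC : PC ⟶ Y)
  (chartC : ∀ (U : Y.Opens) (hU : IsAffineOpen U),
    (((pC ⁻¹ᵁ U : PC.Opens) : Scheme.{u}) ≅ Proj (Sh.deg U hU)))
  {P : Scheme.{u}} (p : P ⟶ Y)
  (chart : ∀ (U : Y.Opens) (hU : IsAffineOpen U),
    (((p ⁻¹ᵁ U : P.Opens) : Scheme.{u}) ≅ Proj (𝒮.deg U hU)))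

/-- the chart of `Ĉ` on `D_+(ι f)` -/
noncomputable def bj (U : Y.Opens) (hU : IsAffineOpen U) {d : ℕ} (hd : 0 < d)
    (f : 𝒮.presheaf.obj (op U)) (hf : f ∈ 𝒮.deg U hU d) :
    Spec (CommRingCat.of (Away (Sh.deg U hU) ((RelProj.gradedHomAt ι hz.graded U hU) f))) ⟶ PC :=
  Proj.awayι (Sh.deg U hU) ((RelProj.gradedHomAt ι hz.graded U hU) f)
    ((RelProj.gradedHomAt ι hz.graded U hU).2 hf) hd ≫ RelProj.emb pC chartC U hU

instance isOpenImmersion_bj (U : Y.Opens) (hU : IsAffineOpen U) {d : ℕ} (hd : 0 < d)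
    (f : 𝒮.presheaf.obj (op U)) (hf : f ∈ 𝒮.deg U hU d) :
    IsOpenImmersion (bj hz pC chartC U hU hd f hf) := by
  unfold bj; infer_instance

theorem bj_mem (U : Y.Opens) (hU : IsAffineOpen U) {d : ℕ} (hd : 0 < d)
    (f : 𝒮.presheaf.obj (op U)) (hf : f ∈ 𝒮.deg U hU d)
    (w : Spec (CommRingCat.of (Away (Sh.deg U hU) ((RelProj.gradedHomAt ι hz.graded U hU) f)))) :
    (bj hz pC chartC U hU hd f hf).base w ∈ RelCone.pointedProjCone 𝒮 hz pC chartC := by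
  unfold RelCone.pointedProjCone
  rw [Opens.mem_iSup]
  refine ⟨⟨U, hU⟩, (Proj.awayι (Sh.deg U hU) ((RelProj.gradedHomAt ι hz.graded U hU) f)
    ((RelProj.gradedHomAt ι hz.graded U hU).2 hf) hd).base w, ?_, rfl⟩
  exact (RelCone.mem_domOpen _ _).mpr ⟨f, HomogeneousIdeal.mem_irrelevant_of_mem _ hd hf,
    awayι_mem_basicOpen (Sh.deg U hU) hd _ _ w⟩

theorem range_bj_le (U : Y.Opens) (hU : IsAffineOpen U) {d : ℕ} (hd : 0 < d)
    (f : 𝒮.presheaf.obj (op U)) (hf : f ∈ 𝒮.deg U hU d) :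
    Set.range (bj hz pC chartC U hU hd f hf).base ⊆
      Set.range (RelCone.pointedProjCone 𝒮 hz pC chartC).ι.base := by
  rw [Scheme.Opens.range_ι]
  rintro _ ⟨w, rfl⟩
  exact bj_mem hz pC chartC U hU hd f hf w

/-- the chart of `Ê` on `D_+(ι f)` -/
noncomputable def aj (U : Y.Opens) (hU : IsAffineOpen U) {d : ℕ} (hd : 0 < d)
    (f : 𝒮.presheaf.obj (op U)) (hf : f ∈ 𝒮.deg U hU d) :
    Spec (CommRingCat.of (Away (Sh.deg U hU) ((RelProj.gradedHomAt ι hz.graded U hU) f))) ⟶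
      ((RelCone.pointedProjCone 𝒮 hz pC chartC : PC.Opens) : Scheme.{u}) :=
  IsOpenImmersion.lift (RelCone.pointedProjCone 𝒮 hz pC chartC).ι (bj hz pC chartC U hU hd f hf)
    (range_bj_le hz pC chartC U hU hd f hf)

theorem aj_ι (U : Y.Opens) (hU : IsAffineOpen U) {d : ℕ} (hd : 0 < d)
    (f : 𝒮.presheaf.obj (op U)) (hf : f ∈ 𝒮.deg U hU d) :
    aj hz pC chartC U hU hd f hf ≫ (RelCone.pointedProjCone 𝒮 hz pC chartC).ι =
      bj hz pC chartC U hU hd f hf :=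
  IsOpenImmersion.lift_fac _ _ _

instance isOpenImmersion_aj (U : Y.Opens) (hU : IsAffineOpen U) {d : ℕ} (hd : 0 < d)
    (f : 𝒮.presheaf.obj (op U)) (hf : f ∈ 𝒮.deg U hU d) :
    IsOpenImmersion (aj hz pC chartC U hU hd f hf) := by
  have : IsOpenImmersion (aj hz pC chartC U hU hd f hf ≫
      (RelCone.pointedProjCone 𝒮 hz pC chartC).ι) := by
    rw [aj_ι]; infer_instance
  exact IsOpenImmersion.of_comp _ (RelCone.pointedProjCone 𝒮 hz pC chartC).ι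

theorem eq_aj (U : Y.Opens) (hU : IsAffineOpen U) {d : ℕ} (hd : 0 < d)
    (f : 𝒮.presheaf.obj (op U)) (hf : f ∈ 𝒮.deg U hU d)
    (g : Spec (CommRingCat.of (Away (Sh.deg U hU) ((RelProj.gradedHomAt ι hz.graded U hU) f))) ⟶
      ((RelCone.pointedProjCone 𝒮 hz pC chartC : PC.Opens) : Scheme.{u}))
    (hg : g ≫ (RelCone.pointedProjCone 𝒮 hz pC chartC).ι =
      Proj.awayι (Sh.deg U hU) ((RelProj.gradedHomAt ι hz.graded U hU) f)
        ((RelProj.gradedHomAt ι hz.graded U hU).2 hf) hd ≫ RelProj.emb pC chartC U hU) :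
    g = aj hz pC chartC U hU hd f hf := by
  rw [← cancel_mono (RelCone.pointedProjCone 𝒮 hz pC chartC).ι, aj_ι]
  exact hg

/-- the candidate retraction on the chart `D_+(ι f)` -/
noncomputable def gj (U : Y.Opens) (hU : IsAffineOpen U) {d : ℕ} (hd : 0 < d)
    (f : 𝒮.presheaf.obj (op U)) (hf : f ∈ 𝒮.deg U hU d) :
    Spec (CommRingCat.of (Away (Sh.deg U hU) ((RelProj.gradedHomAt ι hz.graded U hU) f))) ⟶ P :=
  Spec.map (CommRingCat.ofHom (Away.map (RelProj.gradedHomAt ι hz.graded U hU) f)) ≫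
    Proj.awayι (𝒮.deg U hU) f hf hd ≫ RelProj.emb p chart U hU

theorem cover_over (hPC : RelProj.IsRelProj Sh pC chartC)
    (e : ((RelCone.pointedProjCone 𝒮 hz pC chartC : PC.Opens) : Scheme.{u}))
    (U : Y.Opens) (hU : IsAffineOpen U)
    (he : ((RelCone.pointedProjCone 𝒮 hz pC chartC).ι ≫ pC).base e ∈ U) :
    ∃ (d : ℕ) (hd : 0 < d) (f : 𝒮.presheaf.obj (op U)) (hf : f ∈ 𝒮.deg U hU d)
      (w : Spec (CommRingCat.of (Away (Sh.deg U hU) ((RelProj.gradedHomAt ι hz.graded U hU) f)))),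
      (aj hz pC chartC U hU hd f hf).base w = e := by
  obtain ⟨y, hy⟩ := exists_emb pC chartC
    ((RelCone.pointedProjCone 𝒮 hz pC chartC).ι.base e) U hU he
  have hyE : y ∈ RelCone.domOpen (RelProj.gradedHomAt ι hz.graded U hU) := by
    rw [← mem_pointedProjCone_iff hz pC chartC hPC U hU y, hy]
    have h1 : (RelCone.pointedProjCone 𝒮 hz pC chartC).ι.base e ∈
        Set.range (RelCone.pointedProjCone 𝒮 hz pC chartC).ι.base := ⟨e, rfl⟩
    rw [Scheme.Opens.range_ι] at h1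
    exact h1
  rw [RelCone.mem_domOpen] at hyE
  obtain ⟨f, hf, hfy⟩ := hyE
  obtain ⟨d, hd, g, hg, hgI⟩ := ConeAlg.exists_homog_notMem (𝒮.deg U hU)
    (Ideal.comap (RelProj.gradedHomAt ι hz.graded U hU) y.asHomogeneousIdeal.toIdeal) hf hfy
  obtain ⟨w, hw⟩ := exists_awayι_eq (Sh.deg U hU) hd _
    ((RelProj.gradedHomAt ι hz.graded U hU).2 hg) y hgI
  refine ⟨d, hd, g, hg, w, ?_⟩
  apply (RelCone.pointedProjCone 𝒮 hz pC chartC).ι.isOpenEmbedding.injective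
  have h1 := congrArg (fun t : Spec (CommRingCat.of (Away (Sh.deg U hU)
    ((RelProj.gradedHomAt ι hz.graded U hU) g))) ⟶ PC => t.base w) (aj_ι hz pC chartC U hU hd g hg)
  have h2 : (bj hz pC chartC U hU hd g hg).base w =
      (RelCone.pointedProjCone 𝒮 hz pC chartC).ι.base e := by
    show (RelProj.emb pC chartC U hU).base ((Proj.awayι _ _ _ _).base w) = _
    rw [hw, hy]
  exact h1.trans h2

theorem cover_aj (hPC : RelProj.IsRelProj Sh pC chartC)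
    (e : ((RelCone.pointedProjCone 𝒮 hz pC chartC : PC.Opens) : Scheme.{u})) :
    ∃ (U : Y.Opens) (hU : IsAffineOpen U) (d : ℕ) (hd : 0 < d) (f : 𝒮.presheaf.obj (op U))
      (hf : f ∈ 𝒮.deg U hU d)
      (w : Spec (CommRingCat.of (Away (Sh.deg U hU) ((RelProj.gradedHomAt ι hz.graded U hU) f)))),
      (aj hz pC chartC U hU hd f hf).base w = e := by
  obtain ⟨U, hU, hxU, -⟩ := Opens.isBasis_iff_nbhd.mp Y.isBasis_affineOpens
    (show ((RelCone.pointedProjCone 𝒮 hz pC chartC).ι ≫ pC).base e ∈ (⊤ : Y.Opens) from trivial)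
  obtain ⟨d, hd, f, hf, w, hw⟩ := cover_over hz pC chartC hPC e U hU hxU
  exact ⟨U, hU, d, hd, f, hf, w, hw⟩

theorem mem_basicOpen_res (hPC : RelProj.IsRelProj Sh pC chartC) (U : Y.Opens)
    (hU : IsAffineOpen U) {d : ℕ} (hd : 0 < d)
    (f : 𝒮.presheaf.obj (op U)) (hf : f ∈ 𝒮.deg U hU d)
    (w : Spec (CommRingCat.of (Away (Sh.deg U hU) ((RelProj.gradedHomAt ι hz.graded U hU) f))))
    (W : Y.Opens) (hW : IsAffineOpen W) (hWU : W ≤ U) (s : Γ(Y, U)) (hs : W = Y.basicOpen s)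
    (y : Proj (Sh.deg W hW))
    (hy : (RelProj.emb pC chartC W hW).base y = (bj hz pC chartC U hU hd f hf).base w) :
    y ∈ Proj.basicOpen (Sh.deg W hW)
      ((RelProj.gradedHomAt ι hz.graded W hW) ((𝒮.res hU hW hWU) f)) := by
  have irrC := irr_res (𝒜 := Sh) U W hU hW hWU s hs
  have e1 : (Proj.map (Sh.res hU hW hWU) irrC).base y =
      (Proj.awayι (Sh.deg U hU) _ ((RelProj.gradedHomAt ι hz.graded U hU).2 hf) hd).base w := by
    apply (RelProj.emb pC chartC U hU).isOpenEmbedding.injective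
    have k1 := congrArg (fun k : Proj (Sh.deg W hW) ⟶ PC => k.base y)
      (emb_res pC chartC hPC U W hU hW hWU s hs irrC)
    exact k1.trans hy
  have h2 : (Proj.map (Sh.res hU hW hWU) irrC).base y ∈
      Proj.basicOpen (Sh.deg U hU) ((RelProj.gradedHomAt ι hz.graded U hU) f) := by
    rw [e1]; exact awayι_mem_basicOpen _ hd _ _ w
  rw [Proj.mem_basicOpen, ← ι_res hz hU hW hWU f]
  exact h2

theorem ref_one (hPC : RelProj.IsRelProj Sh pC chartC) (hP : RelProj.IsRelProj 𝒮 p chart)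
    (U : Y.Opens) (hU : IsAffineOpen U) {d : ℕ} (hd : 0 < d)
    (f : 𝒮.presheaf.obj (op U)) (hf : f ∈ 𝒮.deg U hU d)
    (W : Y.Opens) (hW : IsAffineOpen W) (hWU : W ≤ U) (s : Γ(Y, U)) (hs : W = Y.basicOpen s)
    {e : ℕ} (f₂ : 𝒮.presheaf.obj (op W)) (hf₂ : f₂ ∈ 𝒮.deg W hW e)
    {m : ℕ} (hm : 0 < m) (fk : 𝒮.presheaf.obj (op W)) (hfk : fk ∈ 𝒮.deg W hW m)
    (hme : m = d + e) (hx : fk = (𝒮.res hU hW hWU) f * f₂) :
    ∃ u : Spec (CommRingCat.of (Away (Sh.deg W hW) ((RelProj.gradedHomAt ι hz.graded W hW) fk))) ⟶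
        Spec (CommRingCat.of (Away (Sh.deg U hU) ((RelProj.gradedHomAt ι hz.graded U hU) f))),
      u ≫ aj hz pC chartC U hU hd f hf = aj hz pC chartC W hW hm fk hfk ∧
      u ≫ gj hz p chart U hU hd f hf = gj hz p chart W hW hm fk hfk := by
  have hxB : (RelProj.gradedHomAt ι hz.graded W hW) fk =
      (Sh.res hU hW hWU) ((RelProj.gradedHomAt ι hz.graded U hU) f) *
        (RelProj.gradedHomAt ι hz.graded W hW) f₂ := by
    rw [hx, map_mul, ι_res hz hU hW hWU f]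
  have irrC := irr_res (𝒜 := Sh) U W hU hW hWU s hs
  have irrP := irr_res (𝒜 := 𝒮) U W hU hW hWU s hs
  have hgf : (RelProj.gradedHomAt ι hz.graded U hU) f ∈ Sh.deg U hU d := Graded.map_mem _ hf
  have hgf₂ : (RelProj.gradedHomAt ι hz.graded W hW) f₂ ∈ Sh.deg W hW e := Graded.map_mem _ hf₂
  have hgfk : (RelProj.gradedHomAt ι hz.graded W hW) fk ∈ Sh.deg W hW m := Graded.map_mem _ hfk
  refine ⟨Spec.map (CommRingCat.ofHom (refMap (Sh.res hU hW hWU)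
    ((RelProj.gradedHomAt ι hz.graded U hU) f) hgf₂ hxB)), ?_, ?_⟩
  · rw [← cancel_mono (RelCone.pointedProjCone 𝒮 hz pC chartC).ι, Category.assoc, aj_ι, aj_ι]
    unfold bj
    have h1 := spec_refMap_awayι (Sh.res hU hW hWU) irrC hd _ hgf hgf₂ hxB hme hgfk hm
    have h2 := emb_res pC chartC hPC U W hU hW hWU s hs irrC
    rw [reassoc_of% h1, h2]
  · unfold gj
    have h0 := refMap_comm (RelProj.gradedHomAt ι hz.graded U hU)
      (RelProj.gradedHomAt ι hz.graded W hW) (𝒮.res hU hW hWU) (Sh.res hU hW hWU)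
      (fun a => ι_res hz hU hW hWU a) f hf hf₂ hx hxB
    have h0' : Spec.map (CommRingCat.ofHom (refMap (Sh.res hU hW hWU)
          ((RelProj.gradedHomAt ι hz.graded U hU) f) hgf₂ hxB)) ≫
        Spec.map (CommRingCat.ofHom (Away.map (RelProj.gradedHomAt ι hz.graded U hU) f)) =
        Spec.map (CommRingCat.ofHom (Away.map (RelProj.gradedHomAt ι hz.graded W hW) fk)) ≫
        Spec.map (CommRingCat.ofHom (refMap (𝒮.res hU hW hWU) f hf₂ hx)) := by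
      rw [← Spec.map_comp, ← Spec.map_comp, ← CommRingCat.ofHom_comp, ← CommRingCat.ofHom_comp, h0]
    have h1 := spec_refMap_awayι (𝒮.res hU hW hWU) irrP hd f hf hf₂ hx hme hfk hm
    have h2 := emb_res p chart hP U W hU hW hWU s hs irrP
    rw [reassoc_of% h0', reassoc_of% h1, h2]

theorem href_aux (hPC : RelProj.IsRelProj Sh pC chartC) (hP : RelProj.IsRelProj 𝒮 p chart)
    (U₁ : Y.Opens) (hU₁ : IsAffineOpen U₁) {d₁ : ℕ} (hd₁ : 0 < d₁)
    (f₁ : 𝒮.presheaf.obj (op U₁)) (hf₁ : f₁ ∈ 𝒮.deg U₁ hU₁ d₁)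
    (U₂ : Y.Opens) (hU₂ : IsAffineOpen U₂) {d₂ : ℕ} (hd₂ : 0 < d₂)
    (f₂ : 𝒮.presheaf.obj (op U₂)) (hf₂ : f₂ ∈ 𝒮.deg U₂ hU₂ d₂)
    (s₁ : Spec (CommRingCat.of (Away (Sh.deg U₁ hU₁)
      ((RelProj.gradedHomAt ι hz.graded U₁ hU₁) f₁))))
    (s₂ : Spec (CommRingCat.of (Away (Sh.deg U₂ hU₂)
      ((RelProj.gradedHomAt ι hz.graded U₂ hU₂) f₂))))
    (h : (aj hz pC chartC U₁ hU₁ hd₁ f₁ hf₁).base s₁ = (aj hz pC chartC U₂ hU₂ hd₂ f₂ hf₂).base s₂) :
    ∃ (W : Y.Opens) (hW : IsAffineOpen W) (m : ℕ) (hm : 0 < m) (fk : 𝒮.presheaf.obj (op W))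
      (hfk : fk ∈ 𝒮.deg W hW m)
      (u : Spec (CommRingCat.of (Away (Sh.deg W hW) ((RelProj.gradedHomAt ι hz.graded W hW) fk))) ⟶
        Spec (CommRingCat.of (Away (Sh.deg U₁ hU₁) ((RelProj.gradedHomAt ι hz.graded U₁ hU₁) f₁))))
      (v : Spec (CommRingCat.of (Away (Sh.deg W hW) ((RelProj.gradedHomAt ι hz.graded W hW) fk))) ⟶
        Spec (CommRingCat.of (Away (Sh.deg U₂ hU₂) ((RelProj.gradedHomAt ι hz.graded U₂ hU₂) f₂)))),
      u ≫ aj hz pC chartC U₁ hU₁ hd₁ f₁ hf₁ = aj hz pC chartC W hW hm fk hfk ∧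
      v ≫ aj hz pC chartC U₂ hU₂ hd₂ f₂ hf₂ = aj hz pC chartC W hW hm fk hfk ∧
      u ≫ gj hz p chart U₁ hU₁ hd₁ f₁ hf₁ = gj hz p chart W hW hm fk hfk ∧
      v ≫ gj hz p chart U₂ hU₂ hd₂ f₂ hf₂ = gj hz p chart W hW hm fk hfk ∧
      (aj hz pC chartC U₁ hU₁ hd₁ f₁ hf₁).base s₁ ∈ Set.range (aj hz pC chartC W hW hm fk hfk).base := by
  have hx1 := congrArg (fun t : Spec (CommRingCat.of (Away (Sh.deg U₁ hU₁)
    ((RelProj.gradedHomAt ι hz.graded U₁ hU₁) f₁))) ⟶ PC => t.base s₁)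
    (aj_ι hz pC chartC U₁ hU₁ hd₁ f₁ hf₁)
  have hx2 := congrArg (fun t : Spec (CommRingCat.of (Away (Sh.deg U₂ hU₂)
    ((RelProj.gradedHomAt ι hz.graded U₂ hU₂) f₂))) ⟶ PC => t.base s₂)
    (aj_ι hz pC chartC U₂ hU₂ hd₂ f₂ hf₂)
  have hb12 : (bj hz pC chartC U₁ hU₁ hd₁ f₁ hf₁).base s₁ =
      (bj hz pC chartC U₂ hU₂ hd₂ f₂ hf₂).base s₂ :=
    hx1.symm.trans ((congrArg (RelCone.pointedProjCone 𝒮 hz pC chartC).ι.base h).trans hx2)
  have hm1 : pC.base ((bj hz pC chartC U₁ hU₁ hd₁ f₁ hf₁).base s₁) ∈ U₁ :=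
    emb_mem pC chartC U₁ hU₁ _
  have hm2 : pC.base ((bj hz pC chartC U₁ hU₁ hd₁ f₁ hf₁).base s₁) ∈ U₂ := by
    rw [hb12]; exact emb_mem pC chartC U₂ hU₂ _
  obtain ⟨s, s', hss', hxs⟩ := exists_basicOpen_le_affine_inter hU₁ hU₂ _ ⟨hm1, hm2⟩
  have hW : IsAffineOpen (Y.basicOpen s) := hU₁.basicOpen s
  have hW1 : Y.basicOpen s ≤ U₁ := Y.basicOpen_le s
  have hW2 : Y.basicOpen s ≤ U₂ := hss' ▸ Y.basicOpen_le s'
  obtain ⟨y, hy⟩ := exists_emb pC chartC _ (Y.basicOpen s) hW hxs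
  have hy1 := mem_basicOpen_res hz pC chartC hPC U₁ hU₁ hd₁ f₁ hf₁ s₁ (Y.basicOpen s) hW hW1 s rfl
    y hy
  have hy2 := mem_basicOpen_res hz pC chartC hPC U₂ hU₂ hd₂ f₂ hf₂ s₂ (Y.basicOpen s) hW hW2 s' hss'
    y (hy.trans hb12)
  have hf1' : (𝒮.res hU₁ hW hW1) f₁ ∈ 𝒮.deg (Y.basicOpen s) hW d₁ := Graded.map_mem _ hf₁
  have hf2' : (𝒮.res hU₂ hW hW2) f₂ ∈ 𝒮.deg (Y.basicOpen s) hW d₂ := Graded.map_mem _ hf₂
  have hm : 0 < d₁ + d₂ := Nat.add_pos_left hd₁ _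
  have hfk : (𝒮.res hU₁ hW hW1) f₁ * (𝒮.res hU₂ hW hW2) f₂ ∈
      𝒮.deg (Y.basicOpen s) hW (d₁ + d₂) := SetLike.mul_mem_graded hf1' hf2'
  obtain ⟨u, hu1, hu2⟩ := ref_one hz pC chartC p chart hPC hP U₁ hU₁ hd₁ f₁ hf₁ (Y.basicOpen s) hW
    hW1 s rfl _ hf2' hm _ hfk rfl rfl
  obtain ⟨v, hv1, hv2⟩ := ref_one hz pC chartC p chart hPC hP U₂ hU₂ hd₂ f₂ hf₂ (Y.basicOpen s) hW
    hW2 s' hss' _ hf1' hm _ hfk (Nat.add_comm _ _) (mul_comm _ _)
  refine ⟨Y.basicOpen s, hW, d₁ + d₂, hm, _, hfk, u, v, hu1, hv1, hu2, hv2, ?_⟩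
  have hyk : y ∈ Proj.basicOpen (Sh.deg (Y.basicOpen s) hW)
      ((RelProj.gradedHomAt ι hz.graded (Y.basicOpen s) hW)
        ((𝒮.res hU₁ hW hW1) f₁ * (𝒮.res hU₂ hW hW2) f₂)) := by
    rw [map_mul, Proj.basicOpen_mul]; exact ⟨hy1, hy2⟩
  obtain ⟨w, hw⟩ := exists_awayι_eq (Sh.deg (Y.basicOpen s) hW) hm _ (Graded.map_mem _ hfk) y hyk
  refine ⟨w, ?_⟩
  apply (RelCone.pointedProjCone 𝒮 hz pC chartC).ι.isOpenEmbedding.injective
  have hxk := congrArg (fun t : Spec (CommRingCat.of (Away (Sh.deg (Y.basicOpen s) hW)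
    ((RelProj.gradedHomAt ι hz.graded (Y.basicOpen s) hW)
      ((𝒮.res hU₁ hW hW1) f₁ * (𝒮.res hU₂ hW hW2) f₂)))) ⟶ PC => t.base w)
    (aj_ι hz pC chartC (Y.basicOpen s) hW hm _ hfk)
  have hbk : (bj hz pC chartC (Y.basicOpen s) hW hm _ hfk).base w =
      (bj hz pC chartC U₁ hU₁ hd₁ f₁ hf₁).base s₁ := by
    show (RelProj.emb pC chartC _ hW).base ((Proj.awayι _ _ _ _).base w) = _
    rw [hw, hy]
  exact hxk.trans (hbk.trans hx1.symm)

/-- index type of the standard charts -/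
structure Idx (𝒮 : RelProj.QCGrAlg Y) : Type u where
  U : Y.Opens
  hU : IsAffineOpen U
  d : ℕ
  hd : 0 < d
  f : 𝒮.presheaf.obj (op U)
  hf : f ∈ 𝒮.deg U hU d

theorem hom_ext_E (hPC : RelProj.IsRelProj Sh pC chartC) {Z : Scheme.{u}}
    (a b : ((RelCone.pointedProjCone 𝒮 hz pC chartC : PC.Opens) : Scheme.{u}) ⟶ Z)
    (h : ∀ (U : Y.Opens) (hU : IsAffineOpen U) (d : ℕ) (hd : 0 < d) (f : 𝒮.presheaf.obj (op U))
      (hf : f ∈ 𝒮.deg U hU d),
      aj hz pC chartC U hU hd f hf ≫ a = aj hz pC chartC U hU hd f hf ≫ b) : a = b := by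
  refine hom_ext_of_cover (J := Idx 𝒮)
    (fun k => Spec (CommRingCat.of (Away (Sh.deg k.U k.hU)
      ((RelProj.gradedHomAt ι hz.graded k.U k.hU) k.f))))
    (fun k => aj hz pC chartC k.U k.hU k.hd k.f k.hf) ?_ a b (fun k => h k.U k.hU k.d k.hd k.f k.hf)
  intro e
  obtain ⟨U, hU, d, hd, f, hf, w, hw⟩ := cover_aj hz pC chartC hPC e
  exact ⟨⟨U, hU, d, hd, f, hf⟩, w, hw⟩

theorem exists_r (hPC : RelProj.IsRelProj Sh pC chartC) (hP : RelProj.IsRelProj 𝒮 p chart) :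
    ∃ r : ((RelCone.pointedProjCone 𝒮 hz pC chartC : PC.Opens) : Scheme.{u}) ⟶ P,
      ∀ (U : Y.Opens) (hU : IsAffineOpen U) (d : ℕ) (hd : 0 < d) (f : 𝒮.presheaf.obj (op U))
        (hf : f ∈ 𝒮.deg U hU d),
        aj hz pC chartC U hU hd f hf ≫ r = gj hz p chart U hU hd f hf := by
  have hcov : ∀ e : ((RelCone.pointedProjCone 𝒮 hz pC chartC : PC.Opens) : Scheme.{u}),
      ∃ k : Idx 𝒮, e ∈ Set.range (aj hz pC chartC k.U k.hU k.hd k.f k.hf).base := by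
    intro e
    obtain ⟨U, hU, d, hd, f, hf, w, hw⟩ := cover_aj hz pC chartC hPC e
    exact ⟨⟨U, hU, d, hd, f, hf⟩, w, hw⟩
  obtain ⟨r, hr⟩ := glue_refine (J := Idx 𝒮)
    (fun k => Spec (CommRingCat.of (Away (Sh.deg k.U k.hU)
      ((RelProj.gradedHomAt ι hz.graded k.U k.hU) k.f))))
    (fun k => aj hz pC chartC k.U k.hU k.hd k.f k.hf) hcov
    (fun k => gj hz p chart k.U k.hU k.hd k.f k.hf)
    (by
      intro i j si sj hij
      obtain ⟨W, hW, m, hm, fk, hfk, u, v, h1, h2, h3, h4, h5⟩ :=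
        href_aux hz pC chartC p chart hPC hP i.U i.hU i.hd i.f i.hf j.U j.hU j.hd j.f j.hf si sj hij
      exact ⟨⟨W, hW, m, hm, fk, hfk⟩, u, v, h1, h2, h3, h4, h5⟩)
  exact ⟨r, fun U hU d hd f hf => hr ⟨U, hU, d, hd, f, hf⟩⟩

theorem cond_iff (r : ((RelCone.pointedProjCone 𝒮 hz pC chartC : PC.Opens) : Scheme.{u}) ⟶ P) :
    (∀ (U : Y.Opens) (hU : IsAffineOpen U) (d : ℕ) (hd : 0 < d) (f : 𝒮.presheaf.obj (op U))
        (hf : f ∈ 𝒮.deg U hU d)
        (g : Spec (CommRingCat.of (HomogeneousLocalization.Away (Sh.deg U hU)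
            ((RelProj.gradedHomAt ι hz.graded U hU) f))) ⟶
          ((RelCone.pointedProjCone 𝒮 hz pC chartC : PC.Opens) : Scheme.{u})),
        g ≫ (RelCone.pointedProjCone 𝒮 hz pC chartC).ι =
            Proj.awayι (Sh.deg U hU) ((RelProj.gradedHomAt ι hz.graded U hU) f)
              ((RelProj.gradedHomAt ι hz.graded U hU).2 hf) hd ≫ RelProj.emb pC chartC U hU →
          g ≫ r =
            Spec.map (CommRingCat.ofHom (HomogeneousLocalization.Away.map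
              (RelProj.gradedHomAt ι hz.graded U hU) f)) ≫
              Proj.awayι (𝒮.deg U hU) f hf hd ≫ RelProj.emb p chart U hU) ↔
      ∀ (U : Y.Opens) (hU : IsAffineOpen U) (d : ℕ) (hd : 0 < d) (f : 𝒮.presheaf.obj (op U))
        (hf : f ∈ 𝒮.deg U hU d),
        aj hz pC chartC U hU hd f hf ≫ r = gj hz p chart U hU hd f hf := by
  constructor
  · intro h U hU d hd f hf
    exact h U hU d hd f hf _ (aj_ι hz pC chartC U hU hd f hf)
  · intro h U hU d hd f hf g hg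
    rw [eq_aj hz pC chartC U hU hd f hf g hg]
    exact h U hU d hd f hf

theorem gj_over (hPC : RelProj.IsRelProj Sh pC chartC) (hP : RelProj.IsRelProj 𝒮 p chart)
    (U : Y.Opens) (hU : IsAffineOpen U) {d : ℕ} (hd : 0 < d)
    (f : 𝒮.presheaf.obj (op U)) (hf : f ∈ 𝒮.deg U hU d) :
    gj hz p chart U hU hd f hf ≫ p = bj hz pC chartC U hU hd f hf ≫ pC := by
  unfold gj bj
  simp only [Category.assoc]
  rw [emb_over p chart hP U hU, emb_over pC chartC hPC U hU, Proj.awayι_toSpecZero_assoc,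
    Proj.awayι_toSpecZero_assoc]
  have e : 𝒮.strZero U hU ≫
      CommRingCat.ofHom (fromZeroRingHom (𝒮.deg U hU) (Submonoid.powers f)) ≫
      CommRingCat.ofHom (Away.map (RelProj.gradedHomAt ι hz.graded U hU) f) =
      Sh.strZero U hU ≫ CommRingCat.ofHom (fromZeroRingHom (Sh.deg U hU)
        (Submonoid.powers ((RelProj.gradedHomAt ι hz.graded U hU) f))) := by
    rw [← CommRingCat.ofHom_comp, ProjG.awayMap_comp_fromZeroRingHom, CommRingCat.ofHom_comp,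
      ← Category.assoc, RelProjLib.strZero_comp]
  have e' := congrArg (fun t => Spec.map t ≫ hU.fromSpec) e
  simp only [Spec.map_comp, Category.assoc] at e'
  exact e'

section Main

variable (r : ((RelCone.pointedProjCone 𝒮 hz pC chartC : PC.Opens) : Scheme.{u}) ⟶ P)
  (hr : ∀ (U : Y.Opens) (hU : IsAffineOpen U) (d : ℕ) (hd : 0 < d) (f : 𝒮.presheaf.obj (op U))
    (hf : f ∈ 𝒮.deg U hU d),
    aj hz pC chartC U hU hd f hf ≫ r = gj hz p chart U hU hd f hf)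

include hr in
theorem r_over (hPC : RelProj.IsRelProj Sh pC chartC) (hP : RelProj.IsRelProj 𝒮 p chart) :
    r ≫ p = (RelCone.pointedProjCone 𝒮 hz pC chartC).ι ≫ pC := by
  refine hom_ext_E hz pC chartC hPC _ _ fun U hU d hd f hf => ?_
  rw [← Category.assoc, hr, ← Category.assoc, aj_ι]
  exact gj_over hz pC chartC p chart hPC hP U hU hd f hf

include hr in
theorem r_surjective : Function.Surjective r.base := by
  intro x
  obtain ⟨U, hU, hxU, -⟩ := Opens.isBasis_iff_nbhd.mp Y.isBasis_affineOpens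
    (show p.base x ∈ (⊤ : Y.Opens) from trivial)
  obtain ⟨y, rfl⟩ := exists_emb p chart x U hU hxU
  obtain ⟨d, hd, g, hg, hyg⟩ := exists_homog_basicOpen (𝒮.deg U hU) y
  obtain ⟨v, rfl⟩ := exists_awayι_eq (𝒮.deg U hU) hd g hg y hyg
  obtain ⟨w, rfl⟩ := specMap_awayMap_surjective (RelProj.gradedHomAt ι hz.graded U hU)
    (evalZeroG (RelProj.gradedHomAt ι hz.graded U hU) (RelCone.restrictTop Sh z U)
      (hz.deg_z U hU) (hz.bij U hU))
    (evalZeroG_ι _ _ _ _) g v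
  refine ⟨(aj hz pC chartC U hU hd g hg).base w, ?_⟩
  exact congrArg (fun t : Spec (CommRingCat.of (Away (Sh.deg U hU)
    ((RelProj.gradedHomAt ι hz.graded U hU) g))) ⟶ P => t.base w) (hr U hU d hd g hg)

include hr in
theorem r_affine (hPC : RelProj.IsRelProj Sh pC chartC) (hP : RelProj.IsRelProj 𝒮 p chart) :
    IsAffineHom r := by
  have hover := r_over hz pC chartC p chart r hr hPC hP
  refine isAffineHom_of_forall_exists_isAffineOpen r fun x => ?_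
  obtain ⟨U, hU, hxU, -⟩ := Opens.isBasis_iff_nbhd.mp Y.isBasis_affineOpens
    (show p.base x ∈ (⊤ : Y.Opens) from trivial)
  obtain ⟨y, rfl⟩ := exists_emb p chart x U hU hxU
  obtain ⟨d, hd, g, hg, hyg⟩ := exists_homog_basicOpen (𝒮.deg U hU) y
  obtain ⟨v, rfl⟩ := exists_awayι_eq (𝒮.deg U hU) hd g hg y hyg
  refine ⟨(Proj.awayι (𝒮.deg U hU) g hg hd ≫ RelProj.emb p chart U hU).opensRange, ⟨v, rfl⟩,
    isAffineOpen_opensRange _, ?_⟩
  have hpre : r ⁻¹ᵁ (Proj.awayι (𝒮.deg U hU) g hg hd ≫ RelProj.emb p chart U hU).opensRange =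
      (aj hz pC chartC U hU hd g hg).opensRange := by
    ext e
    constructor
    · rintro ⟨v', hv'⟩
      have h1 : p.base (r.base e) ∈ U := by
        rw [← hv']; exact emb_mem p chart U hU _
      have h2 : ((RelCone.pointedProjCone 𝒮 hz pC chartC).ι ≫ pC).base e ∈ U := by
        rw [← hover]; exact h1
      obtain ⟨d', hd', f', hf', w', rfl⟩ := cover_over hz pC chartC hPC e U hU h2
      have h3 := congrArg (fun t : Spec (CommRingCat.of (Away (Sh.deg U hU)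
        ((RelProj.gradedHomAt ι hz.graded U hU) f'))) ⟶ P => t.base w') (hr U hU d' hd' f' hf')
      have h4 : (Proj.awayι (𝒮.deg U hU) g hg hd).base v' =
          (Proj.awayι (𝒮.deg U hU) f' hf' hd').base
            ((Spec.map (CommRingCat.ofHom
              (Away.map (RelProj.gradedHomAt ι hz.graded U hU) f'))).base w') := by
        apply (RelProj.emb p chart U hU).isOpenEmbedding.injective
        exact hv'.trans h3
      have h5 : (Proj.awayι (𝒮.deg U hU) f' hf' hd').base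
            ((Spec.map (CommRingCat.ofHom
              (Away.map (RelProj.gradedHomAt ι hz.graded U hU) f'))).base w') ∈
          Proj.basicOpen (𝒮.deg U hU) g := by
        rw [← h4]; exact awayι_mem_basicOpen _ hd g hg v'
      have h6 := (mem_basicOpen_iff_ring (RelProj.gradedHomAt ι hz.graded U hU) hd hd' hg hf'
        w').mpr h5
      obtain ⟨w'', hw''⟩ := exists_awayι_eq (Sh.deg U hU) hd _ (Graded.map_mem _ hg) _ h6
      refine ⟨w'', ?_⟩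
      apply (RelCone.pointedProjCone 𝒮 hz pC chartC).ι.isOpenEmbedding.injective
      have k1 := congrArg (fun t : Spec (CommRingCat.of (Away (Sh.deg U hU)
        ((RelProj.gradedHomAt ι hz.graded U hU) g))) ⟶ PC => t.base w'')
        (aj_ι hz pC chartC U hU hd g hg)
      have k2 := congrArg (fun t : Spec (CommRingCat.of (Away (Sh.deg U hU)
        ((RelProj.gradedHomAt ι hz.graded U hU) f'))) ⟶ PC => t.base w')
        (aj_ι hz pC chartC U hU hd' f' hf')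
      have k3 : (bj hz pC chartC U hU hd g hg).base w'' =
          (bj hz pC chartC U hU hd' f' hf').base w' :=
        congrArg (RelProj.emb pC chartC U hU).base hw''
      exact k1.trans (k3.trans k2.symm)
    · rintro ⟨w, rfl⟩
      exact ⟨(Spec.map (CommRingCat.ofHom
        (Away.map (RelProj.gradedHomAt ι hz.graded U hU) g))).base w,
        (congrArg (fun t : Spec (CommRingCat.of (Away (Sh.deg U hU)
          ((RelProj.gradedHomAt ι hz.graded U hU) g))) ⟶ P => t.base w) (hr U hU d hd g hg)).symm⟩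
  rw [hpre]
  exact isAffineOpen_opensRange _

include hr in
theorem retr_chart (ρ : Sh.toQCAlg ⟶ 𝒮.toQCAlg) (hρ : RelProj.IsGradedHom ρ) (hιρ : ι ≫ ρ = 𝟙 _)
    (hirr : ∀ (U : Y.Opens) (hU : IsAffineOpen U),
      (𝒮.deg U hU)₊ ≤ ((Sh.deg U hU)₊).map (RelProj.gradedHomAt ρ hρ U hU))
    (j : P ⟶ PC) (hj : RelProj.IsRelProjMap ρ hρ hirr chartC chart j)
    (j' : P ⟶ ((RelCone.pointedProjCone 𝒮 hz pC chartC : PC.Opens) : Scheme.{u}))
    (hj' : j' ≫ (RelCone.pointedProjCone 𝒮 hz pC chartC).ι = j)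
    (U : Y.Opens) (hU : IsAffineOpen U) {d : ℕ} (hd : 0 < d)
    (f : 𝒮.presheaf.obj (op U)) (hf : f ∈ 𝒮.deg U hU d)
    (hmem : (RelProj.gradedHomAt ρ hρ U hU) ((RelProj.gradedHomAt ι hz.graded U hU) f) ∈
      𝒮.deg U hU d) :
    (Proj.awayι (𝒮.deg U hU)
        ((RelProj.gradedHomAt ρ hρ U hU) ((RelProj.gradedHomAt ι hz.graded U hU) f)) hmem hd ≫
      RelProj.emb p chart U hU) ≫ j' ≫ r =
    Proj.awayι (𝒮.deg U hU)
        ((RelProj.gradedHomAt ρ hρ U hU) ((RelProj.gradedHomAt ι hz.graded U hU) f)) hmem hd ≫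
      RelProj.emb p chart U hU := by
  have hχ : (RelProj.gradedHomAt ρ hρ U hU).comp (RelProj.gradedHomAt ι hz.graded U hU) =
      GradedRingHom.id _ := DFunLike.ext _ _ (fun a => ρ_ι hz ρ hρ hιρ U hU a)
  have hgf : (RelProj.gradedHomAt ι hz.graded U hU) f ∈ Sh.deg U hU d := Graded.map_mem _ hf
  have h0 := Proj.awayι_comp_map (RelProj.gradedHomAt ρ hρ U hU) (hirr U hU) hd
    ((RelProj.gradedHomAt ι hz.graded U hU) f) hgf
  have h1 : (Proj.awayι (𝒮.deg U hU)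
        ((RelProj.gradedHomAt ρ hρ U hU) ((RelProj.gradedHomAt ι hz.graded U hU) f)) hmem hd ≫
      RelProj.emb p chart U hU) ≫ j' =
      Spec.map (CommRingCat.ofHom (Away.map (RelProj.gradedHomAt ρ hρ U hU)
        ((RelProj.gradedHomAt ι hz.graded U hU) f))) ≫ aj hz pC chartC U hU hd f hf := by
    rw [← cancel_mono (RelCone.pointedProjCone 𝒮 hz pC chartC).ι, Category.assoc, Category.assoc,
      Category.assoc, hj', aj_ι, emb_comp_j pC chartC ρ hρ hirr p chart j hj U hU]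
    unfold bj
    rw [reassoc_of% h0]
  have h2 := specMap_awayMap_comp (RelProj.gradedHomAt ι hz.graded U hU)
    (RelProj.gradedHomAt ρ hρ U hU) f
  have h3 := awayι_of_eq_id _ hχ hd f hf
  rw [← Category.assoc, h1, Category.assoc, hr]
  unfold gj
  rw [reassoc_of% h2]
  exact (Category.assoc _ _ _).symm.trans (congrArg (fun t => t ≫ RelProj.emb p chart U hU) h3)

include hr in
theorem retraction (ρ : Sh.toQCAlg ⟶ 𝒮.toQCAlg) (hρ : RelProj.IsGradedHom ρ) (hιρ : ι ≫ ρ = 𝟙 _)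
    (hirr : ∀ (U : Y.Opens) (hU : IsAffineOpen U),
      (𝒮.deg U hU)₊ ≤ ((Sh.deg U hU)₊).map (RelProj.gradedHomAt ρ hρ U hU))
    (j : P ⟶ PC) (hj : RelProj.IsRelProjMap ρ hρ hirr chartC chart j)
    (j' : P ⟶ ((RelCone.pointedProjCone 𝒮 hz pC chartC : PC.Opens) : Scheme.{u}))
    (hj' : j' ≫ (RelCone.pointedProjCone 𝒮 hz pC chartC).ι = j) : j' ≫ r = 𝟙 P := by
  have hmem : ∀ k : Idx 𝒮, (RelProj.gradedHomAt ρ hρ k.U k.hU)
      ((RelProj.gradedHomAt ι hz.graded k.U k.hU) k.f) ∈ 𝒮.deg k.U k.hU k.d :=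
    fun k => Graded.map_mem _ (Graded.map_mem _ k.hf)
  refine hom_ext_of_cover (J := Idx 𝒮)
    (fun k => Spec (CommRingCat.of (Away (𝒮.deg k.U k.hU)
      ((RelProj.gradedHomAt ρ hρ k.U k.hU) ((RelProj.gradedHomAt ι hz.graded k.U k.hU) k.f)))))
    (fun k => Proj.awayι (𝒮.deg k.U k.hU)
      ((RelProj.gradedHomAt ρ hρ k.U k.hU) ((RelProj.gradedHomAt ι hz.graded k.U k.hU) k.f))
      (hmem k) k.hd ≫ RelProj.emb p chart k.U k.hU) ?_ _ _ ?_
  · intro x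
    obtain ⟨U, hU, hxU, -⟩ := Opens.isBasis_iff_nbhd.mp Y.isBasis_affineOpens
      (show p.base x ∈ (⊤ : Y.Opens) from trivial)
    obtain ⟨y, rfl⟩ := exists_emb p chart x U hU hxU
    obtain ⟨d, hd, g, hg, hyg⟩ := exists_homog_basicOpen (𝒮.deg U hU) y
    have hyg' : y ∈ Proj.basicOpen (𝒮.deg U hU)
        ((RelProj.gradedHomAt ρ hρ U hU) ((RelProj.gradedHomAt ι hz.graded U hU) g)) := by
      rw [ρ_ι hz ρ hρ hιρ U hU g]; exact hyg
    obtain ⟨v, rfl⟩ := exists_awayι_eq (𝒮.deg U hU) hd _ (hmem ⟨U, hU, d, hd, g, hg⟩) y hyg'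
    exact ⟨⟨U, hU, d, hd, g, hg⟩, v, rfl⟩
  · intro k
    rw [Category.comp_id]
    exact retr_chart hz pC chartC p chart r hr ρ hρ hιρ hirr j hj j' hj' k.U k.hU k.hd k.f k.hf
      (hmem k)

end Main

end Retr

theorem main_S8308 {Y PC P : Scheme.{u}} (𝒮 𝒮h : RelProj.QCGrAlg Y) (h0 : RelCone.StrZeroBij 𝒮)
    (ι : 𝒮.toQCAlg ⟶ 𝒮h.toQCAlg) (z : 𝒮h.presheaf.obj (op ⊤)) (hz : RelCone.IsPolyOver 𝒮 𝒮h ι z)
    (pC : PC ⟶ Y)
    (chartC : ∀ (U : Y.Opens) (hU : IsAffineOpen U), (((pC ⁻¹ᵁ U : PC.Opens) : Scheme.{u}) ≅ Proj (𝒮h.deg U hU)))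
    (hPC : RelProj.IsRelProj 𝒮h pC chartC)
    (p : P ⟶ Y)
    (chart : ∀ (U : Y.Opens) (hU : IsAffineOpen U), (((p ⁻¹ᵁ U : P.Opens) : Scheme.{u}) ≅ Proj (𝒮.deg U hU)))
    (hP : RelProj.IsRelProj 𝒮 p chart) :
    (∃! r : ((RelCone.pointedProjCone 𝒮 hz pC chartC : PC.Opens) : Scheme.{u}) ⟶ P,
      (∀ (U : Y.Opens) (hU : IsAffineOpen U) (d : ℕ) (hd : 0 < d) (f : 𝒮.presheaf.obj (op U)) (hf : f ∈ 𝒮.deg U hU d)
        (g : Spec (CommRingCat.of (HomogeneousLocalization.Away (𝒮h.deg U hU) ((RelProj.gradedHomAt ι hz.graded U hU) f))) ⟶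
          ((RelCone.pointedProjCone 𝒮 hz pC chartC : PC.Opens) : Scheme.{u})),
        g ≫ (RelCone.pointedProjCone 𝒮 hz pC chartC).ι =
            Proj.awayι (𝒮h.deg U hU) ((RelProj.gradedHomAt ι hz.graded U hU) f) ((RelProj.gradedHomAt ι hz.graded U hU).2 hf) hd ≫
              RelProj.emb pC chartC U hU →
          g ≫ r =
            Spec.map (CommRingCat.ofHom (HomogeneousLocalization.Away.map (RelProj.gradedHomAt ι hz.graded U hU) f)) ≫
              Proj.awayι (𝒮.deg U hU) f hf hd ≫ RelProj.emb p chart U hU)) ∧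
    ∀ r : ((RelCone.pointedProjCone 𝒮 hz pC chartC : PC.Opens) : Scheme.{u}) ⟶ P,
      (∀ (U : Y.Opens) (hU : IsAffineOpen U) (d : ℕ) (hd : 0 < d) (f : 𝒮.presheaf.obj (op U)) (hf : f ∈ 𝒮.deg U hU d)
        (g : Spec (CommRingCat.of (HomogeneousLocalization.Away (𝒮h.deg U hU) ((RelProj.gradedHomAt ι hz.graded U hU) f))) ⟶
          ((RelCone.pointedProjCone 𝒮 hz pC chartC : PC.Opens) : Scheme.{u})),
        g ≫ (RelCone.pointedProjCone 𝒮 hz pC chartC).ι =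
            Proj.awayι (𝒮h.deg U hU) ((RelProj.gradedHomAt ι hz.graded U hU) f) ((RelProj.gradedHomAt ι hz.graded U hU).2 hf) hd ≫
              RelProj.emb pC chartC U hU →
          g ≫ r =
            Spec.map (CommRingCat.ofHom (HomogeneousLocalization.Away.map (RelProj.gradedHomAt ι hz.graded U hU) f)) ≫
              Proj.awayι (𝒮.deg U hU) f hf hd ≫ RelProj.emb p chart U hU) →
      IsAffineHom r ∧ Function.Surjective r.base ∧ r ≫ p = (RelCone.pointedProjCone 𝒮 hz pC chartC).ι ≫ pC ∧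
        ∀ (θ : 𝒮h.toQCAlg ⟶ 𝒮.toQCAlg) (hθ : RelProj.IsGradedHom θ), ι ≫ θ = 𝟙 _ →
          (θ.hom.app (op ⊤)).hom z = 0 →
          ∀ (hirr : ∀ (U : Y.Opens) (hU : IsAffineOpen U),
              (𝒮.deg U hU)₊ ≤ ((𝒮h.deg U hU)₊).map (RelProj.gradedHomAt θ hθ U hU))
            (j : P ⟶ PC), RelProj.IsRelProjMap θ hθ hirr chartC chart j →
            ∀ j' : P ⟶ ((RelCone.pointedProjCone 𝒮 hz pC chartC : PC.Opens) : Scheme.{u}), j' ≫ (RelCone.pointedProjCone 𝒮 hz pC chartC).ι = j → j' ≫ r = 𝟙 P := by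
  have hc := fun r => cond_iff hz pC chartC p chart r
  refine ⟨?_, fun r hr' => ?_⟩
  · obtain ⟨r, hr⟩ := exists_r hz pC chartC p chart hPC hP
    refine ⟨r, (hc r).mpr hr, fun r' hr' => ?_⟩
    exact hom_ext_E hz pC chartC hPC r' r (fun U hU d hd f hf =>
      ((hc r').mp hr' U hU d hd f hf).trans (hr U hU d hd f hf).symm)
  · have hr := (hc r).mp hr'
    refine ⟨r_affine hz pC chartC p chart r hr hPC hP, r_surjective hz pC chartC p chart r hr,
      r_over hz pC chartC p chart r hr hPC hP, ?_⟩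
    intro θ hθ hιθ _ hirr j hj j' hj'
    exact retraction hz pC chartC p chart r hr θ hθ hιθ hirr j hj j' hj'

end Groth.Agent.H4.ConeRetr
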