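import Mathlib
import Groth.Prelude.Def_GrTwist
import Groth.Prelude.Def_RelProj2
import Groth.Agent.H4.ConeRetr
import Groth.Agent.Lib.Helper8.RelTwist.Zero

set_option autoImplicit false
set_option linter.unusedSectionVars false
set_option linter.unusedVariables false
set_option linter.style.haveILetI false
universe u
open CategoryTheory AlgebraicGeometry TopologicalSpace Opposite

namespace Groth.Agent.H4.ProjFunVal
variable {A σ : Type u} [CommRing A] [SetLike σ A] [AddSubgroupClass σ A] (𝒜 : ℕ → σ) [GradedRing 𝒜]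
open HomogeneousLocalization GrTwist

/-- the restriction to `D₊(f)` of the pullback of a degree-zero element along the structure map. -/
theorem toSpecZero_appTop_res {f : A} {m : ℕ} (hf : f ∈ 𝒜 m) (hm : 0 < m) :
    (Scheme.ΓSpecIso (.of (𝒜 0))).inv ≫ (Proj.toSpecZero 𝒜).appTop ≫
      (Proj 𝒜).presheaf.map (homOfLE (le_top : Proj.basicOpen 𝒜 f ≤ ⊤)).op =
    CommRingCat.ofHom (fromZeroRingHom 𝒜 _) ≫ Proj.awayToSection 𝒜 f := by
  have h1 := Proj.awayι_toSpecZero 𝒜 f hf hm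
  have h2 := congrArg Scheme.Hom.appTop h1
  rw [Scheme.Hom.comp_appTop] at h2
  have h3 : (Scheme.ΓSpecIso (.of (𝒜 0))).inv ≫ (Proj.toSpecZero 𝒜).appTop ≫
      (Proj.awayι 𝒜 f hf hm).appTop =
      CommRingCat.ofHom (fromZeroRingHom 𝒜 _) ≫ (Scheme.ΓSpecIso (.of (Away 𝒜 f))).inv := by
    rw [h2, Scheme.ΓSpecIso_inv_naturality]
  have h4 : (Proj.awayι 𝒜 f hf hm).appTop =
      (Proj.basicOpen 𝒜 f).ι.appTop ≫ (Proj.basicOpenIsoSpec 𝒜 f hf hm).inv.appTop := by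
    rw [← Scheme.Hom.comp_appTop]; rfl
  have h5 : (Proj.basicOpenIsoSpec 𝒜 f hf hm).inv.appTop ≫
      (Proj.basicOpenIsoSpec 𝒜 f hf hm).hom.appTop = 𝟙 _ := by
    rw [← Scheme.Hom.comp_appTop, Iso.hom_inv_id]; rfl
  have h6 : (Proj.basicOpenIsoSpec 𝒜 f hf hm).hom.appTop =
      (Scheme.ΓSpecIso _).hom ≫ Proj.awayToSection 𝒜 f ≫ (Proj.basicOpen 𝒜 f).topIso.inv := by
    rw [Proj.basicOpenIsoSpec_hom]
    exact Proj.basicOpenToSpec_app_top 𝒜 f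
  have h7 : (Proj.basicOpen 𝒜 f).ι.appTop ≫ (Proj.basicOpen 𝒜 f).topIso.hom =
      (Proj 𝒜).presheaf.map (homOfLE (le_top : Proj.basicOpen 𝒜 f ≤ ⊤)).op := by
    rw [Scheme.Opens.ι_appTop, Scheme.Opens.topIso_hom]
    exact ((Proj 𝒜).presheaf.map_comp _ _).symm
  rw [h4] at h3
  have h8 := congrArg (fun φ => φ ≫ (Proj.basicOpenIsoSpec 𝒜 f hf hm).hom.appTop) h3
  simp only [Category.assoc] at h8
  rw [h5, Category.comp_id, h6, Iso.inv_hom_id_assoc] at h8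
  have h9 := congrArg (fun φ => φ ≫ (Proj.basicOpen 𝒜 f).topIso.hom) h8
  simp only [Category.assoc, Iso.inv_hom_id, Category.comp_id] at h9
  rw [h7] at h9
  exact h9

/-- pointwise value of the pullback of a degree-zero element along the structure map. -/
theorem toSpecZero_appTop_val {f : A} {m : ℕ} (hf : f ∈ 𝒜 m) (hm : 0 < m) (a : 𝒜 0)
    (x : ProjectiveSpectrum 𝒜) (hx : f ∉ x.asHomogeneousIdeal) :
    (((show O (𝒜 := 𝒜) (op ⊤) from (Proj.toSpecZero 𝒜).appTop.hom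
      ((Scheme.ΓSpecIso (.of (𝒜 0))).inv.hom a)).1 ⟨x, trivial⟩).val : Loc 𝒜 x) =
      Localization.mk (a : A) 1 := by
  have h := ConcreteCategory.congr_hom (toSpecZero_appTop_res 𝒜 hf hm) a
  have h' := congrArg (fun s : Γ(Proj 𝒜, Proj.basicOpen 𝒜 f) =>
    (((show O (𝒜 := 𝒜) (op (ProjectiveSpectrum.basicOpen 𝒜 f)) from s).1 ⟨x, hx⟩).val : Loc 𝒜 x)) h
  refine Eq.trans ?_ (h'.trans ?_)
  · rfl
  · refine (ProjectiveSpectrum.Proj.awayToSection_apply 𝒜 f _ ⟨x, hx⟩).trans ?_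
    have h1 : (fromZeroRingHom 𝒜 (Submonoid.powers f) a).val =
        Localization.mk (a : A) (1 : Submonoid.powers f) := by
      change (HomogeneousLocalization.mk _).val = _
      rw [HomogeneousLocalization.val_mk]
      rfl
    change IsLocalization.map _ _ _ (fromZeroRingHom 𝒜 (Submonoid.powers f) a).val = _
    rw [h1, Localization.mk_eq_mk', IsLocalization.map_mk', Localization.mk_eq_mk']
    rfl


section Rel
open Groth.Agent.H4.ConeRetr Groth.Agent.H8.RelTwist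

variable {Y P : Scheme.{u}} {𝒮 : RelProj.QCGrAlg Y} {p : P ⟶ Y}
  {chart : ∀ (U : Y.Opens) (hU : IsAffineOpen U), (((p ⁻¹ᵁ U : P.Opens) : Scheme.{u}) ≅ Proj (𝒮.deg U hU))}

/-- the structure morphism `Spec 𝒮(U)₀ ⟶ Y`. -/
noncomputable def baseMap (𝒮 : RelProj.QCGrAlg Y) (U : Y.Opens) (hU : IsAffineOpen U) :
    Spec (CommRingCat.of (𝒮.deg U hU 0)) ⟶ Y :=
  Spec.map (𝒮.strZero U hU) ≫ hU.fromSpec

lemma fromSpec_appLE_top {X : Scheme.{u}} {U : X.Opens} (hU : IsAffineOpen U)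
    (e : (⊤ : (Spec Γ(X, U)).Opens) ≤ hU.fromSpec ⁻¹ᵁ U) :
    hU.fromSpec.appLE U ⊤ e = (Scheme.ΓSpecIso Γ(X, U)).inv := by
  rw [Scheme.Hom.appLE, hU.fromSpec_app_self, Category.assoc, ← Functor.map_comp]
  convert Category.comp_id _
  exact (Spec Γ(X, U)).presheaf.map_id _

lemma baseMap_appLE (U : Y.Opens) (hU : IsAffineOpen U)
    (e : (⊤ : (Spec (CommRingCat.of (𝒮.deg U hU 0))).Opens) ≤ baseMap 𝒮 U hU ⁻¹ᵁ U) :
    (baseMap 𝒮 U hU).appLE U ⊤ e =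
      𝒮.strZero U hU ≫ (Scheme.ΓSpecIso (CommRingCat.of (𝒮.deg U hU 0))).inv := by
  have e1 : (⊤ : (Spec Γ(Y, U)).Opens) ≤ hU.fromSpec ⁻¹ᵁ U := by
    rw [hU.fromSpec_preimage_self]
  have e2 : (⊤ : (Spec (CommRingCat.of (𝒮.deg U hU 0))).Opens) ≤
      Spec.map (𝒮.strZero U hU) ⁻¹ᵁ ⊤ := le_of_eq rfl
  have h := Scheme.Hom.appLE_comp_appLE (Spec.map (𝒮.strZero U hU)) hU.fromSpec U ⊤ ⊤ e1 e2
  unfold baseMap
  rw [← h, fromSpec_appLE_top hU e1]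
  have h2 : (Spec.map (𝒮.strZero U hU)).appLE ⊤ ⊤ e2 = (Spec.map (𝒮.strZero U hU)).appTop := by
    rw [Scheme.Hom.appLE, Scheme.Hom.appTop]
    exact (congrArg (fun t => (Spec.map (𝒮.strZero U hU)).app ⊤ ≫ t)
      ((Spec (CommRingCat.of (𝒮.deg U hU 0))).presheaf.map_id _)).trans (Category.comp_id _)
  rw [h2, Scheme.ΓSpecIso_inv_naturality]


lemma appLE_congr_hom {X Z : Scheme.{u}} (φ φ' : X ⟶ Z) (h : φ = φ') (U : Z.Opens) (V : X.Opens)
    (e : V ≤ φ ⁻¹ᵁ U) (e' : V ≤ φ' ⁻¹ᵁ U) : φ.appLE U V e = φ'.appLE U V e' := by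
  subst h; rfl

/-- **the value of the pullback of a function on the base** along `Proj 𝒮(U) ⟶ P ⟶ Y`. -/
theorem embp_appLE_val (hP : RelProj.IsRelProj 𝒮 p chart) (U : Y.Opens) (hU : IsAffineOpen U)
    (V : (Proj (𝒮.deg U hU)).Opens) (e : V ≤ (RelProj.emb p chart U hU ≫ p) ⁻¹ᵁ U)
    (r : Γ(Y, U)) (y : V) :
    (((show O (𝒜 := 𝒮.deg U hU) (op V) from
      ((RelProj.emb p chart U hU ≫ p).appLE U V e).hom r).1 y).val : Loc (𝒮.deg U hU) y.1) =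
      Localization.mk ((𝒮.str.app (op U)).hom r) 1 := by
  have hover : RelProj.emb p chart U hU ≫ p =
      Proj.toSpecZero (𝒮.deg U hU) ≫ baseMap 𝒮 U hU := emb_over p chart hP U hU
  have e' : V ≤ (Proj.toSpecZero (𝒮.deg U hU) ≫ baseMap 𝒮 U hU) ⁻¹ᵁ U := by
    rw [← hover]; exact e
  rw [appLE_congr_hom _ _ hover U V e e']
  have e1 : (⊤ : (Spec (CommRingCat.of (𝒮.deg U hU 0))).Opens) ≤ baseMap 𝒮 U hU ⁻¹ᵁ U := by
    intro z _
    show (baseMap 𝒮 U hU).base z ∈ U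
    have : (hU.fromSpec).base ((Spec.map (𝒮.strZero U hU)).base z) ∈ hU.fromSpec.opensRange :=
      ⟨_, rfl⟩
    rw [hU.opensRange_fromSpec] at this
    exact this
  have e2 : V ≤ Proj.toSpecZero (𝒮.deg U hU) ⁻¹ᵁ ⊤ := le_top
  have h := Scheme.Hom.appLE_comp_appLE (Proj.toSpecZero (𝒮.deg U hU)) (baseMap 𝒮 U hU) U ⊤ V e1 e2
  rw [← h, baseMap_appLE]
  obtain ⟨d, hd, g, hg, hgy⟩ := exists_homog_basicOpen (𝒮.deg U hU) y.1
  exact toSpecZero_appTop_val (𝒮.deg U hU) hg hd ((𝒮.strZero U hU).hom r) y.1 hgy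

end Rel
end Groth.Agent.H4.ProjFunVal
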