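import Mathlib
import Groth.Agent.H4.PBLoc
import Groth.Agent.H4.ProjFunVal

set_option autoImplicit false
set_option linter.style.haveILetI false
set_option linter.unusedSectionVars false
set_option linter.unusedVariables false

namespace Groth.Agent.H4.PBLoc2

open CategoryTheory CategoryTheory.Limits AlgebraicGeometry TopologicalSpace Opposite
open HomogeneousLocalization
open Groth.Agent.H6.Sym Groth.Agent.H6 Groth.Agent.LD.QC Groth.Agent.H4.PBundle Groth.Agent.H4.PBundle2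
open Groth.Agent.H4.PBundle3 Groth.Agent.H4.PBLoc
open Groth.Agent.H8.RelTwist Groth.Agent.H8.RelTilde Groth.Agent.H8.GTW Groth.Agent.H8.ProjTilde
open scoped HomogeneousIdeal

universe u

noncomputable section

section A9

variable {Y P : Scheme.{u}} {𝒮 : RelProj.QCGrAlg Y} (p : P ⟶ Y)
  (chart : ∀ (U : Y.Opens) (hU : IsAffineOpen U),
    (((p ⁻¹ᵁ U : P.Opens) : Scheme.{u}) ≅ Proj (𝒮.deg U hU)))

lemma fval_mul (U : Y.Opens) (hU : IsAffineOpen U) {W : P.Opens} (a b : Γ(P, W))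
    (y : (RelProj.emb p chart U hU ⁻¹ᵁ W : (Proj (𝒮.deg U hU)).Opens)) :
    fval p chart U hU (a * b) y = fval p chart U hU a y * fval p chart U hU b y := by
  unfold fval
  rw [map_mul]
  exact HomogeneousLocalization.val_mul
    ((show GrTwist.O (𝒜 := 𝒮.deg U hU) (op (RelProj.emb p chart U hU ⁻¹ᵁ W)) from
      ((RelProj.emb p chart U hU).app W).hom a).1 y)
    ((show GrTwist.O (𝒜 := 𝒮.deg U hU) (op (RelProj.emb p chart U hU ⁻¹ᵁ W)) from
      ((RelProj.emb p chart U hU).app W).hom b).1 y)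

lemma fval_one (U : Y.Opens) (hU : IsAffineOpen U) {W : P.Opens}
    (y : (RelProj.emb p chart U hU ⁻¹ᵁ W : (Proj (𝒮.deg U hU)).Opens)) :
    fval p chart U hU (1 : Γ(P, W)) y = 1 := by
  unfold fval
  rw [map_one]
  exact HomogeneousLocalization.val_one

lemma fval_pow (U : Y.Opens) (hU : IsAffineOpen U) {W : P.Opens} (a : Γ(P, W)) (n : ℕ)
    (y : (RelProj.emb p chart U hU ⁻¹ᵁ W : (Proj (𝒮.deg U hU)).Opens)) :
    fval p chart U hU (a ^ n) y = fval p chart U hU a y ^ n := by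
  induction n with
  | zero => rw [pow_zero, pow_zero]; exact fval_one p chart U hU y
  | succ k ih => rw [pow_succ, pow_succ, fval_mul, ih]

lemma fval_res (U : Y.Opens) (hU : IsAffineOpen U) {W W' : P.Opens} (hWW' : W' ≤ W) (a : Γ(P, W))
    (y : (RelProj.emb p chart U hU ⁻¹ᵁ W' : (Proj (𝒮.deg U hU)).Opens)) :
    fval p chart U hU ((P.presheaf.map (homOfLE hWW').op).hom a) y =
      fval p chart U hU a ⟨y.1, hWW' y.2⟩ := by
  unfold fval
  have h1 := congrArg (fun t => t.hom a) ((RelProj.emb p chart U hU).naturality (homOfLE hWW').op)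
  simp only [CommRingCat.hom_comp, RingHom.comp_apply] at h1
  rw [h1]
  rfl

lemma ext_of_fval (U : Y.Opens) (hU : IsAffineOpen U) {W : P.Opens} (hW : W ≤ p ⁻¹ᵁ U)
    (a b : Γ(P, W))
    (h : ∀ y : (RelProj.emb p chart U hU ⁻¹ᵁ W : (Proj (𝒮.deg U hU)).Opens),
      fval p chart U hU a y = fval p chart U hU b y) : a = b := by
  haveI : IsIso ((RelProj.emb p chart U hU).app W) :=
    (RelProj.emb p chart U hU).isIso_app W (by rw [opensRange_emb]; exact hW)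
  apply (ConcreteCategory.bijective_of_isIso ((RelProj.emb p chart U hU).app W)).1
  change (show GrTwist.O (𝒜 := 𝒮.deg U hU) (op (RelProj.emb p chart U hU ⁻¹ᵁ W)) from _) =
    (show GrTwist.O (𝒜 := 𝒮.deg U hU) (op (RelProj.emb p chart U hU ⁻¹ᵁ W)) from _)
  apply Subtype.ext
  funext y
  exact HomogeneousLocalization.val_injective _ (h y)

end A9

section A10

variable {Y P X : Scheme.{u}} {𝒮 : RelProj.QCGrAlg Y} {p : P ⟶ Y}
  {chart : ∀ (U : Y.Opens) (hU : IsAffineOpen U),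
    (((p ⁻¹ᵁ U : P.Opens) : Scheme.{u}) ≅ Proj (𝒮.deg U hU))}

lemma fval_appLE (hP : RelProj.IsRelProj 𝒮 p chart) (U : Y.Opens) (hU : IsAffineOpen U)
    {W : P.Opens} (hW : W ≤ p ⁻¹ᵁ U) (c : Γ(Y, U))
    (y : (RelProj.emb p chart U hU ⁻¹ᵁ W : (Proj (𝒮.deg U hU)).Opens)) :
    fval p chart U hU ((p.appLE U W hW).hom c) y =
      Localization.mk ((𝒮.str.app (op U)).hom c) 1 := by
  have e : RelProj.emb p chart U hU ⁻¹ᵁ W ≤ (RelProj.emb p chart U hU ≫ p) ⁻¹ᵁ U :=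
    fun y hy => hW hy
  have h1 := Scheme.Hom.appLE_comp_appLE (RelProj.emb p chart U hU) p U W
    (RelProj.emb p chart U hU ⁻¹ᵁ W) hW le_rfl
  have h2 := congrArg (fun t => t.hom c) h1
  simp only [CommRingCat.hom_comp, RingHom.comp_apply] at h2
  rw [← Scheme.Hom.app_eq_appLE] at h2
  refine Eq.trans ?_ (Groth.Agent.H4.ProjFunVal.embp_appLE_val hP U hU _ e c y)
  exact congrArg (fun t : GrTwist.O (𝒜 := 𝒮.deg U hU)
    (op (RelProj.emb p chart U hU ⁻¹ᵁ W)) => (t.1 y).val) h2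

theorem fn_str (hP : RelProj.IsRelProj 𝒮 p chart) (U : Y.Opens) (hU : IsAffineOpen U)
    (h : 𝒮.presheaf.obj (op U)) (c : Γ(Y, U)) (z : Away (𝒮.deg U hU) h)
    (hz : z.val = Localization.mk ((𝒮.str.app (op U)).hom c) (⟨h ^ 0, 0, rfl⟩ : Submonoid.powers h)) :
    fn p chart U hU h z = (p.appLE U (Dp p chart U hU h) (Dp_le p chart U hU h)).hom c := by
  apply ext_of_fval p chart U hU (Dp_le p chart U hU h)
  intro y
  rw [fn_val, hz, fval_appLE hP U hU (Dp_le p chart U hU h) c y]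
  refine (toLoc_mk (𝒮.deg U hU) h y.1 (mem_basicOpen_of_mem_preimage_Dp p chart U hU h y) _ 0).trans ?_
  congr 1
  apply Subtype.ext
  exact pow_zero h

theorem chi_str (hP : RelProj.IsRelProj 𝒮 p chart) (r : X ⟶ P) (U : Y.Opens) (hU : IsAffineOpen U)
    (h : 𝒮.presheaf.obj (op U)) (c : Γ(Y, U)) (z : Away (𝒮.deg U hU) h)
    (hz : z.val = Localization.mk ((𝒮.str.app (op U)).hom c) (⟨h ^ 0, 0, rfl⟩ : Submonoid.powers h))
    (W : X.Opens) (e : W ≤ r ⁻¹ᵁ Dp p chart U hU h) :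
    chi r U hU h W e z =
      ((r ≫ p).appLE U W (e.trans (r.preimage_mono (Dp_le p chart U hU h)))).hom c := by
  unfold chi
  rw [RingHom.comp_apply, fn_str hP U hU h c z hz]
  have h1 := Scheme.Hom.appLE_comp_appLE r p U (Dp p chart U hU h) W (Dp_le p chart U hU h) e
  exact congrArg (fun t => t.hom c) h1

end A10

section SymInd

variable {S : Scheme.{u}} {E : S.Modules} [E.IsQuasicoherent] {𝒮 : RelProj.QCGrAlg S}
  {j : E ⟶ 𝒮.toModule}

theorem sym_induction (hj : RelProj.IsGrSymAlg E 𝒮 j) (U : S.Opens) (hU : IsAffineOpen U)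
    (C : ℕ → 𝒮.presheaf.obj (op U) → Prop)
    (h0 : ∀ c : Γ(S, U), C 0 ((𝒮.str.app (op U)).hom c))
    (hadd : ∀ n a b, C n a → C n b → C n (a + b))
    (hmul : ∀ n (e : Γ(E, U)) a, C n a → C (n + 1) (QA.sec j U e * a))
    (n : ℕ) (a : 𝒮.presheaf.obj (op U)) (ha : a ∈ 𝒮.deg U hU n) : C n a := by
  obtain ⟨y, rfl⟩ := (liftSec_bijective hj.1 U hU).2 a
  have hy : y ∈ gr Γ(S, U) Γ(E, U) n :=
    mem_of_map_mem (liftGr hj U hU) (liftSec_bijective hj.1 U hU).1 ha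
  change y ∈ LinearMap.range (SymmetricAlgebra.ι Γ(S, U) Γ(E, U)) ^ n at hy
  clear ha
  induction hy using Submodule.pow_induction_on_left' with
  | algebraMap r =>
    rw [liftSec_algebraMap]; exact h0 r
  | add x y i hx hy ihx ihy =>
    rw [map_add]; exact hadd i _ _ ihx ihy
  | mem_mul m hm i x hx ih =>
    obtain ⟨e, rfl⟩ := hm
    rw [map_mul, liftSec_ι]
    exact hmul i e _ ih

end SymInd

section KFsec

variable {Y P X : Scheme.{u}} {𝒮 : RelProj.QCGrAlg Y} {p : P ⟶ Y}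
  {chart : ∀ (U : Y.Opens) (hU : IsAffineOpen U),
    (((p ⁻¹ᵁ U : P.Opens) : Scheme.{u}) ≅ Proj (𝒮.deg U hU))}
  {O1 : P.Modules}
  {lam : ∀ (U : Y.Opens) (hU : IsAffineOpen U),
    O1 ⟶ (Scheme.Modules.pushforward (RelProj.emb p chart U hU)).obj (GrTwist.twist (𝒮.deg U hU) 1)}
  (i : X ⟶ P) {L : X.Modules} (θ : (Scheme.Modules.pullback i).obj O1 ≅ L)
  {𝒮L : RelProj.QCGrAlg X} (jL : L ⟶ 𝒮L.toModule)

/-- `t` is the pullback along `i` of the degree `n` element `a`. -/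
def KF (U : Y.Opens) (hU : IsAffineOpen U) (n : ℕ) (a : 𝒮.presheaf.obj (op U))
    (t : 𝒮L.presheaf.obj (op (i ⁻¹ᵁ (p ⁻¹ᵁ U)))) : Prop :=
  ∀ (h : 𝒮.presheaf.obj (op U)) (hh : h ∈ 𝒮.deg U hU 1) (s : Γ(O1, p ⁻¹ᵁ U))
    (hs : Reads lam U hU h s) (z : Away (𝒮.deg U hU) h)
    (hz : z.val = Localization.mk a (⟨h ^ n, n, rfl⟩ : Submonoid.powers h))
    (W : X.Opens) (e : W ≤ i ⁻¹ᵁ Dp p chart U hU h),
    (𝒮L.presheaf.map (homOfLE (e.trans (i.preimage_mono (Dp_le p chart U hU h)))).op).hom t =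
      (𝒮L.str.app (op W)).hom (chi i U hU h W e z) *
        (QA.sec jL W (L.presheaf.map
          (homOfLE (e.trans (i.preimage_mono (Dp_le p chart U hU h)))).op (lsec i θ U s))) ^ n

variable {i θ jL}

theorem KF_add (U : Y.Opens) (hU : IsAffineOpen U) (n : ℕ) (a b : 𝒮.presheaf.obj (op U))
    (ha : a ∈ 𝒮.deg U hU n) (hb : b ∈ 𝒮.deg U hU n)
    (t t' : 𝒮L.presheaf.obj (op (i ⁻¹ᵁ (p ⁻¹ᵁ U))))
    (hK : KF (lam := lam) i θ jL U hU n a t) (hK' : KF (lam := lam) i θ jL U hU n b t') :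
    KF (lam := lam) i θ jL U hU n (a + b) (t + t') := by
  intro h hh s hs z hz W e
  have hza := Away.val_mk (𝒮.deg U hU) n hh a (by simpa using ha)
  have hzb := Away.val_mk (𝒮.deg U hU) n hh b (by simpa using hb)
  have hzz : z = Away.mk (𝒮.deg U hU) hh n a (by simpa using ha) +
      Away.mk (𝒮.deg U hU) hh n b (by simpa using hb) := by
    apply HomogeneousLocalization.val_injective
    rw [HomogeneousLocalization.val_add, hz, hza, hzb, Localization.add_mk_self]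
  rw [map_add, hK h hh s hs _ hza W e, hK' h hh s hs _ hzb W e, hzz, map_add, map_add]
  ring

theorem KF_mul (U : Y.Opens) (hU : IsAffineOpen U) (n m : ℕ) (a b : 𝒮.presheaf.obj (op U))
    (ha : a ∈ 𝒮.deg U hU n) (hb : b ∈ 𝒮.deg U hU m)
    (t t' : 𝒮L.presheaf.obj (op (i ⁻¹ᵁ (p ⁻¹ᵁ U))))
    (hK : KF (lam := lam) i θ jL U hU n a t) (hK' : KF (lam := lam) i θ jL U hU m b t') :
    KF (lam := lam) i θ jL U hU (n + m) (a * b) (t * t') := by
  intro h hh s hs z hz W e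
  have hza := Away.val_mk (𝒮.deg U hU) n hh a (by simpa using ha)
  have hzb := Away.val_mk (𝒮.deg U hU) m hh b (by simpa using hb)
  have hzz : z = Away.mk (𝒮.deg U hU) hh n a (by simpa using ha) *
      Away.mk (𝒮.deg U hU) hh m b (by simpa using hb) := by
    apply HomogeneousLocalization.val_injective
    rw [HomogeneousLocalization.val_mul, hz, hza, hzb, Localization.mk_mul]
    congr 1
    apply Subtype.ext
    exact pow_add h n m
  rw [map_mul, hK h hh s hs _ hza W e, hK' h hh s hs _ hzb W e, hzz, map_mul, map_mul]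
  ring

end KFsec

section EXsec

variable {Y P X : Scheme.{u}} {𝒮 : RelProj.QCGrAlg Y} {p : P ⟶ Y}
  {chart : ∀ (U : Y.Opens) (hU : IsAffineOpen U),
    (((p ⁻¹ᵁ U : P.Opens) : Scheme.{u}) ≅ Proj (𝒮.deg U hU))}
  {O1 : P.Modules}
  {lam : ∀ (U : Y.Opens) (hU : IsAffineOpen U),
    O1 ⟶ (Scheme.Modules.pushforward (RelProj.emb p chart U hU)).obj (GrTwist.twist (𝒮.deg U hU) 1)}
  {i : X ⟶ P} {L : X.Modules} {θ : (Scheme.Modules.pullback i).obj O1 ≅ L}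
  {𝒮L : RelProj.QCGrAlg X} {jL : L ⟶ 𝒮L.toModule}
  {𝒜 : RelProj.QCGrAlg Y} {jE : (Scheme.Modules.pushforward (i ≫ p)).obj L ⟶ 𝒜.toModule}
  (u : RelProj.QGrHom (i ≫ p) 𝒜 𝒮L)

theorem KF_str (hP : RelProj.IsRelProj 𝒮 p chart) (U : Y.Opens) (hU : IsAffineOpen U) (c : Γ(Y, U)) :
    KF (lam := lam) i θ jL U hU 0 ((𝒮.str.app (op U)).hom c)
      ((u.app U).hom ((𝒜.str.app (op U)).hom c)) := by
  intro h hh s hs z hz W e
  rw [pow_zero, mul_one, chi_str hP i U hU h c z hz W e]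
  have h1 := congrArg (fun t => t.hom c)
    (u.str_appLE U W (e.trans (i.preimage_mono (Dp_le p chart U hU h))))
  exact h1

theorem KF_one (hO1 : RelProj.IsRelTwist 𝒮 p chart 1 O1 lam) (U : Y.Opens) (hU : IsAffineOpen U)
    (a : 𝒮.presheaf.obj (op U)) (ha : a ∈ 𝒮.deg U hU 1) (sa : Γ(O1, p ⁻¹ᵁ U))
    (hsa : Reads lam U hU a sa) :
    KF (lam := lam) i θ jL U hU 1 a (QA.sec jL (i ⁻¹ᵁ (p ⁻¹ᵁ U)) (lsec i θ U sa)) := by
  intro h hh s hs z hz W e
  have hzz : z = Away.mk (𝒮.deg U hU) hh 1 a (by simpa using ha) := by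
    apply HomogeneousLocalization.val_injective
    rw [hz, Away.val_mk]
  rw [QA.sec_res, lsec_res_eq_smul i θ hO1 U hU h a hh ha s sa hs hsa W e, QA.sec_smul, pow_one, hzz]

end EXsec

section EXsec2

variable {Y P X : Scheme.{u}} {𝒮 : RelProj.QCGrAlg Y} {p : P ⟶ Y}
  {chart : ∀ (U : Y.Opens) (hU : IsAffineOpen U),
    (((p ⁻¹ᵁ U : P.Opens) : Scheme.{u}) ≅ Proj (𝒮.deg U hU))}
  {O1 : P.Modules}
  {lam : ∀ (U : Y.Opens) (hU : IsAffineOpen U),
    O1 ⟶ (Scheme.Modules.pushforward (RelProj.emb p chart U hU)).obj (GrTwist.twist (𝒮.deg U hU) 1)}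
  {i : X ⟶ P} {L : X.Modules} {θ : (Scheme.Modules.pullback i).obj O1 ≅ L}
  {𝒮L : RelProj.QCGrAlg X} {jL : L ⟶ 𝒮L.toModule}
  {𝒜 : RelProj.QCGrAlg Y} {jE : (Scheme.Modules.pushforward (i ≫ p)).obj L ⟶ 𝒜.toModule}
  (u : RelProj.QGrHom (i ≫ p) 𝒜 𝒮L)
  {E : Y.Modules} [E.IsQuasicoherent] {j : E ⟶ 𝒮.toModule}

theorem exists_KF (hj : RelProj.IsGrSymAlg E 𝒮 j) (hP : RelProj.IsRelProj 𝒮 p chart)
    (hO1 : RelProj.IsRelTwist 𝒮 p chart 1 O1 lam)
    (h𝒜 : ∀ (U : Y.Opens) (hU : IsAffineOpen U)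
      (m : Γ((Scheme.Modules.pushforward (i ≫ p)).obj L, U)), QA.sec jE U m ∈ 𝒜.deg U hU 1)
    (hu : ∀ (U : Y.Opens) (x : Γ((Scheme.Modules.pushforward (i ≫ p)).obj L, U)),
      (u.app U).hom ((jE.app U) x) = (jL.app ((i ≫ p) ⁻¹ᵁ U)) x)
    (U : Y.Opens) (hU : IsAffineOpen U) (n : ℕ) (a : 𝒮.presheaf.obj (op U))
    (ha : a ∈ 𝒮.deg U hU n) :
    ∃ s : 𝒜.presheaf.obj (op U), s ∈ 𝒜.deg U hU n ∧
      KF (lam := lam) i θ jL U hU n a ((u.app U).hom s) := by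
  have key := sym_induction hj U hU
    (fun n a => a ∈ 𝒮.deg U hU n ∧ ∃ s : 𝒜.presheaf.obj (op U), s ∈ 𝒜.deg U hU n ∧
      KF (lam := lam) i θ jL U hU n a ((u.app U).hom s)) ?_ ?_ ?_ n a ha
  · exact key.2
  · intro c
    exact ⟨𝒮.str_mem U hU c, _, 𝒜.str_mem U hU c, KF_str u hP U hU c⟩
  · rintro n a b ⟨ha, sa, hsa, hKa⟩ ⟨hb, sb, hsb, hKb⟩
    refine ⟨add_mem ha hb, sa + sb, add_mem hsa hsb, ?_⟩
    rw [map_add]
    exact KF_add U hU n a b ha hb _ _ hKa hKb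
  · rintro n e a ⟨ha, sa, hsa, hKa⟩
    have he1 : QA.sec j U e ∈ 𝒮.deg U hU 1 := hj.2 U hU e
    obtain ⟨se, hse⟩ := exists_section_reads hO1 U hU (QA.sec j U e) he1
    have hdeg : ∀ (x y : 𝒮.presheaf.obj (op U)), x ∈ 𝒮.deg U hU 1 → y ∈ 𝒮.deg U hU n →
        x * y ∈ 𝒮.deg U hU (n + 1) := by
      intro x y hx hy
      rw [add_comm]; exact SetLike.mul_mem_graded hx hy
    have hdeg' : ∀ (x y : 𝒜.presheaf.obj (op U)), x ∈ 𝒜.deg U hU 1 → y ∈ 𝒜.deg U hU n →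
        x * y ∈ 𝒜.deg U hU (n + 1) := by
      intro x y hx hy
      rw [add_comm]; exact SetLike.mul_mem_graded hx hy
    refine ⟨hdeg _ _ he1 ha, QA.sec jE U (lsec i θ U se) * sa, hdeg' _ _ (h𝒜 U hU _) hsa, ?_⟩
    rw [map_mul, add_comm]
    have h1 : (u.app U).hom (QA.sec jE U (lsec i θ U se)) =
        QA.sec jL (i ⁻¹ᵁ (p ⁻¹ᵁ U)) (lsec i θ U se) := hu U (lsec i θ U se)
    rw [h1]
    exact KF_mul U hU 1 n _ a he1 ha _ _ (KF_one hO1 U hU _ he1 se hse) hKa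

end EXsec2

section ChiId

variable {Y P X : Scheme.{u}} {𝒮 : RelProj.QCGrAlg Y} (p : P ⟶ Y)
  (chart : ∀ (U : Y.Opens) (hU : IsAffineOpen U),
    (((p ⁻¹ᵁ U : P.Opens) : Scheme.{u}) ≅ Proj (𝒮.deg U hU)))

lemma loc_identity {σ : Type u} {A : Type u} [CommRing A] [SetLike σ A] [AddSubgroupClass σ A]
    (𝒜 : ℕ → σ) [GradedRing 𝒜] (x : ProjectiveSpectrum 𝒜) (h f b : A) (n M : ℕ)
    (hf : x ∈ ProjectiveSpectrum.basicOpen 𝒜 f) (hh : x ∈ ProjectiveSpectrum.basicOpen 𝒜 h) :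
    toLoc 𝒜 f x hf (Localization.mk b (⟨f ^ M, M, rfl⟩ : Submonoid.powers f)) *
      (toLoc 𝒜 h x hh (Localization.mk f (⟨h ^ n, n, rfl⟩ : Submonoid.powers h))) ^ M =
    toLoc 𝒜 h x hh (Localization.mk b (⟨h ^ (M * n), M * n, rfl⟩ : Submonoid.powers h)) := by
  rw [toLoc_mk, toLoc_mk, toLoc_mk, Localization.mk_pow, Localization.mk_mul,
    Localization.mk_eq_mk_iff, Localization.r_iff_exists]
  refine ⟨1, ?_⟩
  simp only [OneMemClass.coe_one, one_mul, Submonoid.coe_mul, SubmonoidClass.coe_pow]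
  ring

theorem fn_mul_pow (U : Y.Opens) (hU : IsAffineOpen U) (h f b : 𝒮.presheaf.obj (op U)) (n M : ℕ)
    (zz : Away (𝒮.deg U hU) f) (zf zb : Away (𝒮.deg U hU) h)
    (hzz : zz.val = Localization.mk b (⟨f ^ M, M, rfl⟩ : Submonoid.powers f))
    (hzf : zf.val = Localization.mk f (⟨h ^ n, n, rfl⟩ : Submonoid.powers h))
    (hzb : zb.val = Localization.mk b (⟨h ^ (M * n), M * n, rfl⟩ : Submonoid.powers h))
    (hfh : Dp p chart U hU f ≤ Dp p chart U hU h) :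
    fn p chart U hU f zz * ((P.presheaf.map (homOfLE hfh).op).hom (fn p chart U hU h zf)) ^ M =
      (P.presheaf.map (homOfLE hfh).op).hom (fn p chart U hU h zb) := by
  apply ext_of_fval p chart U hU (Dp_le p chart U hU f)
  intro y
  rw [fval_mul, fval_pow, fval_res, fval_res, fn_val, fn_val, fn_val, hzz, hzf, hzb]
  exact loc_identity (𝒮.deg U hU) y.1 h f b n M _ _

end ChiId

section ChiId2

variable {Y P X : Scheme.{u}} {𝒮 : RelProj.QCGrAlg Y} {p : P ⟶ Y}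
  {chart : ∀ (U : Y.Opens) (hU : IsAffineOpen U),
    (((p ⁻¹ᵁ U : P.Opens) : Scheme.{u}) ≅ Proj (𝒮.deg U hU))}

lemma chi_eq_of_le (r : X ⟶ P) (U : Y.Opens) (hU : IsAffineOpen U) (h f : 𝒮.presheaf.obj (op U))
    (hfh : Dp p chart U hU f ≤ Dp p chart U hU h) (z : Away (𝒮.deg U hU) h)
    (W : X.Opens) (ef : W ≤ r ⁻¹ᵁ Dp p chart U hU f) :
    chi r U hU h W (ef.trans (r.preimage_mono hfh)) z =
      (r.appLE (Dp p chart U hU f) W ef).hom
        ((P.presheaf.map (homOfLE hfh).op).hom (fn p chart U hU h z)) := by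
  unfold chi
  rw [RingHom.comp_apply]
  have h1 := Scheme.Hom.map_appLE r ef (homOfLE hfh).op
  exact (congrArg (fun t => t.hom (fn p chart U hU h z)) h1).symm

theorem chi_mul_pow (r : X ⟶ P) (U : Y.Opens) (hU : IsAffineOpen U)
    (h f b : 𝒮.presheaf.obj (op U)) (n M : ℕ)
    (zz : Away (𝒮.deg U hU) f) (zf zb : Away (𝒮.deg U hU) h)
    (hzz : zz.val = Localization.mk b (⟨f ^ M, M, rfl⟩ : Submonoid.powers f))
    (hzf : zf.val = Localization.mk f (⟨h ^ n, n, rfl⟩ : Submonoid.powers h))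
    (hzb : zb.val = Localization.mk b (⟨h ^ (M * n), M * n, rfl⟩ : Submonoid.powers h))
    (hfh : Dp p chart U hU f ≤ Dp p chart U hU h)
    (W : X.Opens) (ef : W ≤ r ⁻¹ᵁ Dp p chart U hU f) :
    chi r U hU f W ef zz * (chi r U hU h W (ef.trans (r.preimage_mono hfh)) zf) ^ M =
      chi r U hU h W (ef.trans (r.preimage_mono hfh)) zb := by
  rw [chi_eq_of_le r U hU h f hfh zf W ef, chi_eq_of_le r U hU h f hfh zb W ef,
    ← fn_mul_pow p chart U hU h f b n M zz zf zb hzz hzf hzb hfh, map_mul, map_pow]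
  rfl

end ChiId2

end

end Groth.Agent.H4.PBLoc2
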