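import Groth.Agent.H4.ProjSymL6

set_option autoImplicit false
set_option linter.style.haveILetI false
set_option linter.unusedSectionVars false
set_option linter.unusedVariables false

namespace Groth.Agent.H4.ProjSymL7

open CategoryTheory CategoryTheory.Limits AlgebraicGeometry TopologicalSpace Opposite
open HomogeneousLocalization
open Groth.Agent.H4.ProjSymL6
open scoped HomogeneousIdeal

universe u

section A

variable {Y X : Scheme.{u}} {q : X ⟶ Y} {𝒮L : RelProj.QCGrAlg X}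

/-- the family condition of the general-base immersion criterion. -/
def Fam {𝒮 : RelProj.QCGrAlg Y} (u : RelProj.QGrHom q 𝒮 𝒮L) : Prop :=
  ∃ (ι : Type u) (U : ι → Y.Opens) (hU : ∀ a, IsAffineOpen (U a)) (n : ι → ℕ)
    (s : ∀ a, 𝒮.presheaf.obj (op (U a))) (XT : ι → X.Opens) (hXT : ∀ a, XT a ≤ q ⁻¹ᵁ (U a)),
    (∀ a, 0 < n a ∧ s a ∈ 𝒮.deg (U a) (hU a) (n a)) ∧
    (∀ a, XT a = XFU u (U a) (n a) (s a)) ∧
    (⨆ a, XT a) = ⊤ ∧ (∀ a, IsAffineOpen (XT a)) ∧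
    (∀ (a : ι) (t : X.presheaf.obj (op (XT a))), ∃ (m : ℕ) (_ : 0 < m)
        (s' : 𝒮.presheaf.obj (op (U a))) (_ : s' ∈ 𝒮.deg (U a) (hU a) (m * n a)),
        (𝒮L.str.app (op (XT a))).hom t * ((u.appLE (U a) (XT a) (hXT a)).hom (s a)) ^ m =
          (u.appLE (U a) (XT a) (hXT a)).hom s')

variable {𝒯 𝒯' : RelProj.QCGrAlg Y}
  (v : RelProj.QGrHom q 𝒯 𝒮L) (w : RelProj.QGrHom q 𝒯' 𝒮L)
  (θ : 𝒯.toQCAlg ⟶ 𝒯'.toQCAlg)
  (hvw : ∀ U : Y.Opens, v.app U = θ.hom.app (op U) ≫ w.app U)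

include hvw in
theorem appLE_factor (U : Y.Opens) (V : X.Opens) (hVU : V ≤ q ⁻¹ᵁ U)
    (y : 𝒯.presheaf.obj (op U)) :
    (v.appLE U V hVU).hom y = (w.appLE U V hVU).hom ((θ.hom.app (op U)).hom y) := by
  have h1 : v.appLE U V hVU = θ.hom.app (op U) ≫ w.appLE U V hVU := by
    rw [RelSpec.QHom.appLE_eq, hvw, Category.assoc]
    rfl
  rw [h1]
  rfl

include hvw in
theorem XFU_factor (U : Y.Opens) (n : ℕ) (y : 𝒯.presheaf.obj (op U)) :
    XFU v U n y = XFU w U n ((θ.hom.app (op U)).hom y) := by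
  ext x
  show x ∈ XFU v U n y ↔ x ∈ XFU w U n ((θ.hom.app (op U)).hom y)
  rw [mem_XFU, mem_XFU]
  constructor
  · rintro ⟨V, hV, hVU, hxV, hsub⟩
    refine ⟨V, hV, hVU, hxV, ?_⟩
    rw [← appLE_factor v w θ hvw U V hVU y]
    exact hsub
  · rintro ⟨V, hV, hVU, hxV, hsub⟩
    refine ⟨V, hV, hVU, hxV, ?_⟩
    rw [appLE_factor v w θ hvw U V hVU y]
    exact hsub

include hvw in
/-- a family for `v = w ∘ θ` pushes forward to a family for `w`. -/
theorem fam_of_factor (hθ : RelProj.IsGradedHom θ) (h : Fam v) : Fam w := by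
  obtain ⟨ι, U, hU, n, s, XT, hXT, hns, hXTeq, hcov, hT, hiii⟩ := h
  refine ⟨ι, U, hU, n, fun a => (θ.hom.app (op (U a))).hom (s a), XT, hXT,
    fun a => ⟨(hns a).1, hθ (U a) (hU a) (n a) (s a) (hns a).2⟩, ?_, hcov, hT, ?_⟩
  · intro a
    rw [hXTeq a]
    exact XFU_factor v w θ hvw (U a) (n a) (s a)
  · intro a t
    obtain ⟨m, hm, s', hs', e⟩ := hiii a t
    refine ⟨m, hm, (θ.hom.app (op (U a))).hom s', hθ (U a) (hU a) _ s' hs', ?_⟩
    rw [← appLE_factor v w θ hvw (U a) (XT a) (hXT a) (s a),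
      ← appLE_factor v w θ hvw (U a) (XT a) (hXT a) s']
    exact e

end A

section B

variable {Y X : Scheme.{u}} {q : X ⟶ Y} {𝒮 : RelProj.QCGrAlg Y} {𝒮L : RelProj.QCGrAlg X}

theorem appLE_str (u : RelProj.QGrHom q 𝒮 𝒮L) (U : Y.Opens) (V : X.Opens) (hVU : V ≤ q ⁻¹ᵁ U)
    (c : Γ(Y, U)) :
    (u.appLE U V hVU).hom ((𝒮.str.app (op U)).hom c) =
      (𝒮L.str.app (op V)).hom ((q.appLE U V hVU).hom c) := by
  have h1 := u.str_app U
  have h2 := 𝒮L.str.naturality (homOfLE hVU).op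
  have h3 : 𝒮.str.app (op U) ≫ u.appLE U V hVU = q.appLE U V hVU ≫ 𝒮L.str.app (op V) := by
    rw [RelSpec.QHom.appLE_eq, ← Category.assoc, h1, Category.assoc, ← h2, ← Category.assoc]
    rfl
  exact congrArg (fun t : Γ(Y, U) ⟶ 𝒮L.presheaf.obj (op V) => t.hom c) h3

end B

section C

variable {Y X : Scheme.{u}} {q : X ⟶ Y} {𝒯 : RelProj.QCGrAlg Y} {𝒮L : RelProj.QCGrAlg X}

theorem mem_deg_of_eq (U : Y.Opens) (hU : IsAffineOpen U) {d d' : ℕ} (h : d = d')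
    {x : 𝒯.presheaf.obj (op U)} (hx : x ∈ 𝒯.deg U hU d) : x ∈ 𝒯.deg U hU d' := h ▸ hx

/-- condition (iii) of the criterion propagates from algebra generators to all functions. -/
theorem cond_of_gens (v : RelProj.QGrHom q 𝒯 𝒮L) (U : Y.Opens) (hU : IsAffineOpen U) (n : ℕ)
    (sM : 𝒯.presheaf.obj (op U)) (hsM : sM ∈ 𝒯.deg U hU n) (XT : X.Opens)
    (hXT : XT ≤ q ⁻¹ᵁ U) (G : Set (X.presheaf.obj (op XT)))
    (hG : letI := (q.appLE U XT hXT).hom.toAlgebra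
      Algebra.adjoin Γ(Y, U) G = ⊤)
    (hgen : ∀ g ∈ G, ∃ (m : ℕ) (_ : 0 < m) (s'' : 𝒯.presheaf.obj (op U))
      (_ : s'' ∈ 𝒯.deg U hU (m * n)),
      (𝒮L.str.app (op XT)).hom g * ((v.appLE U XT hXT).hom sM) ^ m = (v.appLE U XT hXT).hom s'')
    (t : X.presheaf.obj (op XT)) :
    ∃ (m : ℕ) (_ : 0 < m) (s'' : 𝒯.presheaf.obj (op U)) (_ : s'' ∈ 𝒯.deg U hU (m * n)),
      (𝒮L.str.app (op XT)).hom t * ((v.appLE U XT hXT).hom sM) ^ m =
        (v.appLE U XT hXT).hom s'' := by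
  letI alg := (q.appLE U XT hXT).hom.toAlgebra
  have ht : t ∈ Algebra.adjoin Γ(Y, U) G := by rw [hG]; trivial
  induction ht using Algebra.adjoin_induction with
  | mem x hx => exact hgen x hx
  | algebraMap c =>
    refine ⟨1, one_pos, (𝒯.str.app (op U)).hom c * sM, ?_, ?_⟩
    · have h1 := SetLike.mul_mem_graded (𝒯.str_mem U hU c) hsM
      exact mem_deg_of_eq U hU (by ring) h1
    · have h2 : algebraMap Γ(Y, U) (X.presheaf.obj (op XT)) c = (q.appLE U XT hXT).hom c := rfl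
      rw [h2, map_mul, appLE_str v U XT hXT c, pow_one]
  | add x y _ _ hx hy =>
    obtain ⟨m1, hm1, x1, hx1, e1⟩ := hx
    obtain ⟨m2, hm2, x2, hx2, e2⟩ := hy
    refine ⟨m1 + m2, by omega, x1 * sM ^ m2 + x2 * sM ^ m1, ?_, ?_⟩
    · refine add_mem ?_ ?_
      · have h1 := SetLike.mul_mem_graded hx1 (SetLike.pow_mem_graded m2 hsM)
        exact mem_deg_of_eq U hU (by simp only [smul_eq_mul]; ring) h1
      · have h1 := SetLike.mul_mem_graded hx2 (SetLike.pow_mem_graded m1 hsM)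
        exact mem_deg_of_eq U hU (by simp only [smul_eq_mul]; ring) h1
    · rw [map_add, map_add, map_mul, map_mul, map_pow, map_pow, ← e1, ← e2]
      ring
  | mul x y _ _ hx hy =>
    obtain ⟨m1, hm1, x1, hx1, e1⟩ := hx
    obtain ⟨m2, hm2, x2, hx2, e2⟩ := hy
    refine ⟨m1 + m2, by omega, x1 * x2, ?_, ?_⟩
    · have h1 := SetLike.mul_mem_graded hx1 hx2
      exact mem_deg_of_eq U hU (by ring) h1
    · rw [map_mul, map_mul, ← e1, ← e2]
      ring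

end C

section D

variable {Y X : Scheme.{u}} {q : X ⟶ Y} {𝒮 : RelProj.QCGrAlg Y} {𝒮L : RelProj.QCGrAlg X}
  (u : RelProj.QGrHom q 𝒮 𝒮L)
  {Λ : Type u} [Preorder Λ] [IsDirected Λ (· ≤ ·)] [Nonempty Λ]
  (𝒮i : Λ → RelProj.QCGrAlg Y) (φ : ∀ i, (𝒮i i).toQCAlg ⟶ 𝒮.toQCAlg)
  (hφ : ∀ i, RelProj.IsGradedHom (φ i))
  (t : ∀ i j, i ≤ j → ((𝒮i i).toQCAlg ⟶ (𝒮i j).toQCAlg))
  (ht : ∀ i j (h : i ≤ j), RelProj.IsGradedHom (t i j h))
  (hφt : ∀ i j (h : i ≤ j), t i j h ≫ φ j = φ i)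
  (hsurj : ∀ (U : Y.Opens), IsAffineOpen U → ∀ x : 𝒮.presheaf.obj (op U),
    ∃ (i : Λ) (y : (𝒮i i).presheaf.obj (op U)), ((φ i).hom.app (op U)).hom y = x)
  (ui : ∀ i, RelProj.QGrHom q (𝒮i i) 𝒮L)
  (hui : ∀ i (U : Y.Opens), (ui i).app U = (φ i).hom.app (op U) ≫ u.app U)

/-- `x` has homogeneous lifts to `𝒮^i` in every degree it belongs to. -/
def HLift (i : Λ) (U : Y.Opens) (hU : IsAffineOpen U) (x : 𝒮.presheaf.obj (op U)) : Prop :=
  ∀ d, x ∈ 𝒮.deg U hU d → ∃ y ∈ (𝒮i i).deg U hU d, ((φ i).hom.app (op U)).hom y = x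

include hφ hsurj in
theorem exists_hlift (U : Y.Opens) (hU : IsAffineOpen U) (x : 𝒮.presheaf.obj (op U)) :
    ∃ i, HLift 𝒮i φ i U hU x := by
  obtain ⟨i, y, hy⟩ := hsurj U hU x
  refine ⟨i, fun d hx => ?_⟩
  have hmap := GradedRingHom.map_directSumDecompose ((𝒮i i).deg U hU) (𝒮.deg U hU)
    (RelProj.gradedHomAt (φ i) (hφ i) U hU) (x := y) (i := d)
  refine ⟨((DirectSum.decompose ((𝒮i i).deg U hU) y d : (𝒮i i).deg U hU d) :
    (𝒮i i).presheaf.obj (op U)), SetLike.coe_mem _, ?_⟩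
  have h2 : (RelProj.gradedHomAt (φ i) (hφ i) U hU) y = x := hy
  have h3 : ((φ i).hom.app (op U)).hom
      ((DirectSum.decompose ((𝒮i i).deg U hU) y d : (𝒮i i).deg U hU d) :
        (𝒮i i).presheaf.obj (op U)) =
      ((DirectSum.decompose (𝒮.deg U hU)
        ((RelProj.gradedHomAt (φ i) (hφ i) U hU) y) d : 𝒮.deg U hU d) :
          𝒮.presheaf.obj (op U)) := hmap
  rw [h3, h2, DirectSum.decompose_of_mem_same (𝒮.deg U hU) hx]

include ht hφt in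
theorem hlift_mono (i j : Λ) (h : i ≤ j) (U : Y.Opens) (hU : IsAffineOpen U)
    (x : 𝒮.presheaf.obj (op U)) (hx : HLift 𝒮i φ i U hU x) : HLift 𝒮i φ j U hU x := by
  intro d hd
  obtain ⟨y, hy, e⟩ := hx d hd
  refine ⟨((t i j h).hom.app (op U)).hom y, ht i j h U hU d y hy, ?_⟩
  have h1 := congrArg (fun θ : (𝒮i i).toQCAlg ⟶ 𝒮.toQCAlg => (θ.hom.app (op U)).hom y) (hφt i j h)
  exact h1.trans e

include hφ hsurj ht hφt in
theorem exists_hlift_finset (U : Y.Opens) (hU : IsAffineOpen U)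
    (T : Finset (𝒮.presheaf.obj (op U))) : ∃ i, ∀ x ∈ T, HLift 𝒮i φ i U hU x := by
  classical
  induction T using Finset.induction_on with
  | empty => exact ⟨Classical.arbitrary Λ, fun x hx => absurd hx (Finset.notMem_empty x)⟩
  | insert a T' _ ih =>
    obtain ⟨i1, h1⟩ := ih
    obtain ⟨i2, h2⟩ := exists_hlift 𝒮i φ hφ hsurj U hU a
    obtain ⟨k, hk1, hk2⟩ := directed_of (· ≤ ·) i1 i2
    refine ⟨k, fun x hx => ?_⟩
    rcases Finset.mem_insert.mp hx with rfl | hx'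
    · exact hlift_mono 𝒮i φ t ht hφt i2 k hk2 U hU _ h2
    · exact hlift_mono 𝒮i φ t ht hφt i1 k hk1 U hU _ (h1 x hx')

include hφ hsurj ht hφt hui in
/-- **descent of the family condition to a finite stage** (`X` quasi-compact, `q` locally of finite
type). -/
theorem exists_fam_of_fam [CompactSpace X] [LocallyOfFiniteType q] (h : Fam u) :
    ∃ i, Fam (ui i) := by
  classical
  obtain ⟨ι, U, hU, n, s, XT, hXT, hns, hXTeq, hcov, hT, hiii⟩ := h
  -- finite subcover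
  obtain ⟨F, hF⟩ := isCompact_univ.elim_finite_subcover (fun a => ((XT a : X.Opens) : Set X))
    (fun a => (XT a).isOpen) (by
      intro x _
      have hx : x ∈ (⨆ a, XT a) := by rw [hcov]; trivial
      obtain ⟨a, ha⟩ := Opens.mem_iSup.mp hx
      exact Set.mem_iUnion.mpr ⟨a, ha⟩)
  -- finite generation
  have hft : ∀ a, ∃ G : Finset (X.presheaf.obj (op (XT a))),
      letI := (q.appLE (U a) (XT a) (hXT a)).hom.toAlgebra
      Algebra.adjoin Γ(Y, U a) (G : Set (X.presheaf.obj (op (XT a)))) = ⊤ := by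
    intro a
    have h1 : RingHom.FiniteType (q.appLE (U a) (XT a) (hXT a)).hom :=
      HasRingHomProperty.appLE (P := @LocallyOfFiniteType) q inferInstance ⟨U a, hU a⟩
        ⟨XT a, hT a⟩ (hXT a)
    exact h1.out
  choose G hG using hft
  choose m hm s' hs' e using hiii
  -- stage for each index
  have hst : ∀ a, ∃ i, ∀ x ∈ insert (s a) ((G a).image (s' a)), HLift 𝒮i φ i (U a) (hU a) x :=
    fun a => exists_hlift_finset 𝒮i φ hφ t ht hφt hsurj (U a) (hU a) _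
  choose iA hiA using hst
  obtain ⟨M, hM⟩ := Finset.exists_le (F.image iA)
  have hMa : ∀ a ∈ F, iA a ≤ M := fun a ha => hM _ (Finset.mem_image_of_mem iA ha)
  have hls : ∀ a ∈ F, HLift 𝒮i φ M (U a) (hU a) (s a) := fun a ha =>
    hlift_mono 𝒮i φ t ht hφt (iA a) M (hMa a ha) (U a) (hU a) _
      (hiA a _ (Finset.mem_insert_self _ _))
  have hls' : ∀ a ∈ F, ∀ g ∈ G a, HLift 𝒮i φ M (U a) (hU a) (s' a g) := fun a ha g hg =>
    hlift_mono 𝒮i φ t ht hφt (iA a) M (hMa a ha) (U a) (hU a) _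
      (hiA a _ (Finset.mem_insert_of_mem (Finset.mem_image_of_mem (s' a) hg)))
  have hl : ∀ a : {a // a ∈ F}, ∃ y ∈ (𝒮i M).deg (U a.1) (hU a.1) (n a.1),
      ((φ M).hom.app (op (U a.1))).hom y = s a.1 := fun a => hls a.1 a.2 (n a.1) (hns a.1).2
  choose sM hsM hφsM using hl
  have hvs : ∀ a : {a // a ∈ F}, ((ui M).appLE (U a.1) (XT a.1) (hXT a.1)).hom (sM a) =
      (u.appLE (U a.1) (XT a.1) (hXT a.1)).hom (s a.1) := by
    intro a
    rw [appLE_factor (ui M) u (φ M) (hui M) (U a.1) (XT a.1) (hXT a.1) (sM a), hφsM a]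
  refine ⟨M, {a // a ∈ F}, fun a => U a.1, fun a => hU a.1, fun a => n a.1, sM,
    fun a => XT a.1, fun a => hXT a.1, fun a => ⟨(hns a.1).1, hsM a⟩, ?_, ?_, fun a => hT a.1, ?_⟩
  · intro a
    rw [XFU_factor (ui M) u (φ M) (hui M) (U a.1) (n a.1) (sM a), hφsM a]
    exact hXTeq a.1
  · rw [eq_top_iff]
    intro x _
    obtain ⟨a, ha⟩ := Set.mem_iUnion.mp (hF (Set.mem_univ x))
    obtain ⟨haF, hxa⟩ := Set.mem_iUnion.mp ha
    exact Opens.mem_iSup.mpr ⟨⟨a, haF⟩, hxa⟩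
  · intro a t₀
    refine cond_of_gens (ui M) (U a.1) (hU a.1) (n a.1) (sM a) (hsM a) (XT a.1) (hXT a.1)
      ((G a.1 : Finset _) : Set (X.presheaf.obj (op (XT a.1)))) (hG a.1) ?_ t₀
    intro g hg
    have hgG : g ∈ G a.1 := hg
    obtain ⟨y, hy, ey⟩ := hls' a.1 a.2 g hgG (m a.1 g * n a.1) (hs' a.1 g)
    refine ⟨m a.1 g, hm a.1 g, y, hy, ?_⟩
    rw [hvs a, appLE_factor (ui M) u (φ M) (hui M) (U a.1) (XT a.1) (hXT a.1) y, ey]
    exact e a.1 g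

end D

end Groth.Agent.H4.ProjSymL7
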