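import Mathlib
import Groth.Agent.H4.ProjSymL7
import Groth.Agent.H4.PBLoc2
import Groth.Agent.Lib.Lead.QC.AmpleExt
import Groth.Agent.Lib.Lead.QC.RestrictOpen
import Groth.Agent.Lib.Helper6.QA2

set_option autoImplicit false
set_option linter.style.haveILetI false
set_option linter.unusedSectionVars false
set_option linter.unusedVariables false

namespace Groth.Agent.H4.AmpBridge

open CategoryTheory CategoryTheory.Limits AlgebraicGeometry TopologicalSpace Opposite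
open Groth.Agent.LD.QC Groth.Agent.H6
open Groth.Agent.H4.ProjSymL Groth.Agent.H4.ProjSymL2 Groth.Agent.H4.ProjSymL6 Groth.Agent.H4.ProjSymL7
open scoped HomogeneousIdeal

universe u

noncomputable section

section Bridge

variable {X : Scheme.{u}} {L : X.Modules} {𝒮L : RelProj.QCGrAlg X} {jL : L ⟶ 𝒮L.toModule}

/-- on an affine open, the section `b • e^n` of `L^{⊗n}` depends only on the element
`b * (jL e)^n` of the symmetric algebra. -/
theorem smul_secPow_eq [L.IsQuasicoherent] (hj : RelProj.IsGrSymAlg L 𝒮L jL) (W : X.Opens)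
    (hW : IsAffineOpen W) (e e' : Γ(L, W)) (he : IsBasisOver L W e) (he' : IsBasisOver L W e')
    (b b' : Γ(X, W)) (n : ℕ)
    (h : (𝒮L.str.app (op W)).hom b * (QA.sec jL W e) ^ n =
      (𝒮L.str.app (op W)).hom b' * (QA.sec jL W e') ^ n) :
    b • secPow e n = b' • secPow e' n := by
  obtain ⟨c, hc⟩ := he.exists_coord e'
  obtain ⟨-, N2⟩ := exists_N hj W hW e he
  have h1 : QA.sec jL W e' = (𝒮L.str.app (op W)).hom c * QA.sec jL W e := by
    rw [hc, QA.sec_smul]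
  rw [h1, mul_pow, ← map_pow, ← mul_assoc, ← map_mul] at h
  have h2 : (𝒮L.str.app (op W)).hom (b - b' * c ^ n) * (QA.sec jL W e) ^ n = 0 := by
    rw [map_sub, sub_mul, h, sub_self]
  have h3 := N2 _ n h2
  rw [hc, secPow_smul, smul_smul, ← sub_eq_zero.mp h3]

theorem exists_bridge (hL : PicF.IsInvertible L) [L.IsQuasicoherent]
    (hj : RelProj.IsGrSymAlg L 𝒮L jL) (O : X.Opens) (n : ℕ) (z : 𝒮L.presheaf.obj (op O))
    (hz : ∀ (W : X.Opens) (hW : IsAffineOpen W) (hWO : W ≤ O),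
      (𝒮L.presheaf.map (homOfLE hWO).op).hom z ∈ 𝒮L.deg W hW n) :
    ∃ σ : Γ(CohB1.tensorPow L n, O), ∀ (W : X.Opens) (hW : IsAffineOpen W) (hWO : W ≤ O)
      (e : Γ(L, W)) (he : IsBasisOver L W e) (b : Γ(X, W)),
      (𝒮L.presheaf.map (homOfLE hWO).op).hom z =
        (𝒮L.str.app (op W)).hom b * (QA.sec jL W e) ^ n →
      (CohB1.tensorPow L n).presheaf.map (homOfLE hWO).op σ = b • secPow e n := by
  choose U e hU hxU hUO he using fun x : O => exists_affine_basis L hL x.1 O x.2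
  have hb : ∀ x : O, ∃ b : Γ(X, U x), (𝒮L.presheaf.map (homOfLE (hUO x)).op).hom z =
      (𝒮L.str.app (op (U x))).hom b * (QA.sec jL (U x) (e x)) ^ n := fun x =>
    (exists_N hj (U x) (hU x) (e x) (he x)).1 n _ (hz (U x) (hU x) (hUO x))
  choose b hb using hb
  have key : ∀ (x : O) (W : X.Opens) (hW : IsAffineOpen W) (hWU : W ≤ U x) (e' : Γ(L, W))
      (he' : IsBasisOver L W e') (b' : Γ(X, W)),
      (𝒮L.presheaf.map (homOfLE (hWU.trans (hUO x))).op).hom z =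
        (𝒮L.str.app (op W)).hom b' * (QA.sec jL W e') ^ n →
      (CohB1.tensorPow L n).presheaf.map (homOfLE hWU).op (b x • secPow (e x) n) =
        b' • secPow e' n := by
    intro x W hW hWU e' he' b' hzb
    rw [Scheme.Modules.map_smul, secPow_res]
    apply smul_secPow_eq hj W hW _ _ ((he x).mono hWU) he' _ _ n
    rw [← hzb, ← QA.sec_res, ← QA.str_res, ← map_pow, ← map_mul, ← hb x, QA.res_res']
  have hcov : O ≤ ⨆ x : O, U x := fun y hy => Opens.mem_iSup.mpr ⟨⟨y, hy⟩, hxU ⟨y, hy⟩⟩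
  obtain ⟨σ, hσ⟩ := exists_glue_section (CohB1.tensorPow L n) (fun x : O => U x) O hUO hcov
    (fun x => b x • secPow (e x) n) (by
      intro x y
      apply section_ext_of_cover (CohB1.tensorPow L n)
        (fun V : {V : X.affineOpens // V.1 ≤ U x ⊓ U y} => V.1.1) (fun V => V.2)
        (le_iSup_affineOpens _)
      rintro ⟨⟨W, hW⟩, hWle⟩
      have hWle' : W ≤ U x ⊓ U y := hWle
      have hWx : W ≤ U x := hWle'.trans inf_le_left
      have hWy : W ≤ U y := hWle'.trans inf_le_right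
      rw [res_res, res_res]
      have h1 := key x W hW hWx (L.presheaf.map (homOfLE hWy).op (e y)) ((he y).mono hWy)
        ((X.presheaf.map (homOfLE hWy).op).hom (b y)) (by
          rw [← QA.sec_res, ← QA.str_res, ← map_pow, ← map_mul, ← hb y, QA.res_res'])
      refine h1.trans ?_
      have h2 : (CohB1.tensorPow L n).presheaf.map (homOfLE hWy).op (b y • secPow (e y) n) =
          (X.presheaf.map (homOfLE hWy).op).hom (b y) •
            secPow (L.presheaf.map (homOfLE hWy).op (e y)) n := by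
        rw [Scheme.Modules.map_smul, secPow_res]
      exact h2.symm)
  refine ⟨σ, ?_⟩
  intro W hW hWO e' he' b' hzb
  apply section_ext_of_cover (CohB1.tensorPow L n)
    (fun V : Σ x : O, {V : X.affineOpens // V.1 ≤ W ⊓ U x} => V.2.1.1)
    (fun V => (V.2.2 : (V.2.1.1 : X.Opens) ≤ W ⊓ U V.1).trans inf_le_left)
  · intro y hy
    have hyO : y ∈ O := hWO hy
    obtain ⟨W', hW', hyW', hW'le⟩ := exists_isAffineOpen_mem_and_subset (x := y)
      (U := W ⊓ U ⟨y, hyO⟩) ⟨hy, hxU ⟨y, hyO⟩⟩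
    exact Opens.mem_iSup.mpr ⟨⟨⟨y, hyO⟩, ⟨⟨W', hW'⟩, hW'le⟩⟩, hyW'⟩
  · rintro ⟨x, ⟨⟨W', hW'⟩, hW'le⟩⟩
    have hW'le' : W' ≤ W ⊓ U x := hW'le
    have hW'W : W' ≤ W := hW'le'.trans inf_le_left
    have hW'U : W' ≤ U x := hW'le'.trans inf_le_right
    show (CohB1.tensorPow L n).presheaf.map (homOfLE hW'W).op
        ((CohB1.tensorPow L n).presheaf.map (homOfLE hWO).op σ) =
      (CohB1.tensorPow L n).presheaf.map (homOfLE hW'W).op (b' • secPow e' n)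
    rw [res_res, ← res_res (CohB1.tensorPow L n) (hUO x) hW'U, hσ x]
    have h1 := key x W' hW' hW'U (L.presheaf.map (homOfLE hW'W).op e') (he'.mono hW'W)
      ((X.presheaf.map (homOfLE hW'W).op).hom b') (by
        rw [← QA.sec_res, ← QA.str_res, ← map_pow, ← map_mul, ← hzb, QA.res_res'])
    refine h1.trans ?_
    have h2 : (CohB1.tensorPow L n).presheaf.map (homOfLE hW'W).op (b' • secPow e' n) =
        (X.presheaf.map (homOfLE hW'W).op).hom b' •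
          secPow (L.presheaf.map (homOfLE hW'W).op e') n := by
      rw [Scheme.Modules.map_smul, secPow_res]
    exact h2.symm

end Bridge

section GenOp

variable {X : Scheme.{u}}

/-- the open where a local section of a module generates it. -/
def genOp (M : X.Modules) (O' : X.Opens) (σ : Γ(M, O')) : X.Opens :=
  ⨆ W : {W : X.Opens // ∃ h : W ≤ O', IsBasisOver M W (M.presheaf.map (homOfLE h).op σ)}, W.1

theorem mem_genOp (M : X.Modules) (O' : X.Opens) (σ : Γ(M, O')) (x : X) :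
    x ∈ genOp M O' σ ↔ ∃ (W : X.Opens) (h : W ≤ O'), x ∈ W ∧
      IsBasisOver M W (M.presheaf.map (homOfLE h).op σ) := by
  unfold genOp
  rw [Opens.mem_iSup]
  constructor
  · rintro ⟨⟨W, h, hb⟩, hx⟩
    exact ⟨W, h, hx, hb⟩
  · rintro ⟨W, h, hx, hb⟩
    exact ⟨⟨W, h, hb⟩, hx⟩

theorem genOp_le (M : X.Modules) (O' : X.Opens) (σ : Γ(M, O')) : genOp M O' σ ≤ O' := by
  intro x hx
  obtain ⟨W, h, hxW, -⟩ := (mem_genOp M O' σ x).mp hx
  exact h hxW

theorem genOp_inf_eq_basicOpen (M : X.Modules) (O' : X.Opens) (σ : Γ(M, O')) (U₀ : X.Opens)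
    (hU₀ : U₀ ≤ O') (ε : Γ(M, U₀)) (hε : IsBasisOver M U₀ ε) (b : Γ(X, U₀))
    (hσ : M.presheaf.map (homOfLE hU₀).op σ = b • ε) :
    genOp M O' σ ⊓ U₀ = X.basicOpen b := by
  apply le_antisymm
  · rintro x ⟨hxG, hxU⟩
    obtain ⟨W, h, hxW, hb⟩ := (mem_genOp M O' σ x).mp hxG
    have hW' : W ⊓ U₀ ≤ U₀ := inf_le_right
    have h1 : IsBasisOver M (W ⊓ U₀) (M.presheaf.map (homOfLE (inf_le_left : W ⊓ U₀ ≤ W)).op
        (M.presheaf.map (homOfLE h).op σ)) := hb.mono inf_le_left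
    have h2 : M.presheaf.map (homOfLE (inf_le_left : W ⊓ U₀ ≤ W)).op
        (M.presheaf.map (homOfLE h).op σ) =
        (X.presheaf.map (homOfLE hW').op).hom b • M.presheaf.map (homOfLE hW').op ε := by
      rw [res_res, ← res_res M hU₀ hW', hσ, Scheme.Modules.map_smul]
    rw [h2, (hε.mono hW').smul_iff] at h1
    exact le_basicOpen_of_isUnit_res b hW' h1 ⟨hxW, hxU⟩
  · refine le_inf ?_ (X.basicOpen_le b)
    intro x hx
    have hD : X.basicOpen b ≤ U₀ := X.basicOpen_le b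
    refine (mem_genOp M O' σ x).mpr ⟨X.basicOpen b, hD.trans hU₀, hx, ?_⟩
    have h2 : M.presheaf.map (homOfLE (hD.trans hU₀)).op σ =
        (X.presheaf.map (homOfLE hD).op).hom b • M.presheaf.map (homOfLE hD).op ε := by
      rw [← res_res M hU₀ hD, hσ, Scheme.Modules.map_smul]
    rw [h2, (hε.mono hD).smul_iff]
    exact isUnit_res_of_le_basicOpen b hD le_rfl

theorem genLocus_homOfSection {Y : Scheme.{u}} (j : Y ⟶ X) [IsOpenImmersion j] (M : X.Modules)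
    (σ : Γ(M, j ''ᵁ ⊤)) :
    CohB1.genLocus (M.restrict j)
        (homOfSection (M.restrict j) (show Γ(M.restrict j, ⊤) from σ)) =
      j ⁻¹ᵁ genOp M (j ''ᵁ ⊤) σ := by
  ext y
  change y ∈ CohB1.genLocus (M.restrict j) _ ↔ j y ∈ genOp M (j ''ᵁ ⊤) σ
  rw [mem_genLocus_iff, mem_genOp]
  constructor
  · rintro ⟨V, hyV, hV⟩
    rw [val_homOfSection] at hV
    have hV' := (isBasisOver_restrict_iff j M V
      (M.presheaf.map (homOfLE (Scheme.Hom.image_mono j (le_top : V ≤ ⊤))).op σ)).mp hV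
    exact ⟨j ''ᵁ V, Scheme.Hom.image_mono j le_top, ⟨y, hyV, rfl⟩, hV'⟩
  · rintro ⟨W, h, hyW, hW⟩
    refine ⟨j ⁻¹ᵁ W, hyW, ?_⟩
    rw [val_homOfSection]
    have hle : j ''ᵁ (j ⁻¹ᵁ W) ≤ W := by
      rintro _ ⟨y', hy', rfl⟩; exact hy'
    have h1 := hW.mono hle
    rw [res_res] at h1
    exact (isBasisOver_restrict_iff j M (j ⁻¹ᵁ W)
      (M.presheaf.map (homOfLE (Scheme.Hom.image_mono j (le_top : j ⁻¹ᵁ W ≤ ⊤))).op σ)).mpr h1

end GenOp

section MainE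

open Groth.Agent.H4.ConeImm Groth.Agent.H4.ProjQ

variable {X Y P PL : Scheme.{u}}

theorem isRelAmple_of_isEmbedding (f : X ⟶ Y) [QuasiCompact f]
    (L : X.Modules) (hL : PicF.IsInvertible L) (hLq : Coh.IsQCoh L)
    (𝒮L : RelProj.QCGrAlg X) (jL : L ⟶ 𝒮L.toModule) (hjL : RelProj.IsGrSymAlg L 𝒮L jL)
    (pL : PL ⟶ X) (chartL : ∀ (U : X.Opens) (hU : IsAffineOpen U), (((pL ⁻¹ᵁ U : PL.Opens) : Scheme.{u}) ≅ Proj (𝒮L.deg U hU)))
    (hPL : RelProj.IsRelProj 𝒮L pL chartL)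
    (𝒜 : RelProj.QCGrAlg Y) (u : RelProj.QGrHom f 𝒜 𝒮L)
    (p : P ⟶ Y) (chart : ∀ (U : Y.Opens) (hU : IsAffineOpen U), (((p ⁻¹ᵁ U : P.Opens) : Scheme.{u}) ≅ Proj (𝒜.deg U hU)))
    (hP : RelProj.IsRelProj 𝒜 p chart)
    (r : ((RelProj.domQ u pL chartL : PL.Opens) : Scheme.{u}) ⟶ P)
    (hr : RelProj.IsProjQMapOn u p chart pL chartL (RelProj.domQ u pL chartL) r)
    (htop : RelProj.domQ u pL chartL = ⊤) (hemb : Topology.IsEmbedding r.base) :
    RelAmple.IsRelAmple f L := by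
  haveI : L.IsQuasicoherent := hLq
  haveI hι : IsIso (RelProj.domQ u pL chartL).ι := isIso_ι_of_eq_top _ htop
  haveI : IsIso pL := main_S12143 L hL hLq 𝒮L jL hjL pL chartL hPL
  have hraq := (isProjQMapOn_iff u p chart pL chartL r).mp hr
  have hover : r ≫ p = (RelProj.domQ u pL chartL).ι ≫ pL ≫ f :=
    v_over u p chart pL chartL hP hPL r hraq
  -- the isomorphism `K : domQ → X`
  let K : ((RelProj.domQ u pL chartL : PL.Opens) : Scheme.{u}) ⟶ X :=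
    (RelProj.domQ u pL chartL).ι ≫ pL
  haveI : IsIso K := by
    show IsIso ((RelProj.domQ u pL chartL).ι ≫ pL)
    infer_instance
  have hKsurj : ∀ x : X, ∃ e₀, K.base e₀ = x := by
    intro x
    refine ⟨(inv K).base x, ?_⟩
    have h1 : inv K ≫ K = 𝟙 X := IsIso.inv_hom_id K
    have h2 := congrArg (fun t : X ⟶ X => t.base x) h1
    exact h2
  have hpr : ∀ e₀, p.base (r.base e₀) = f.base (K.base e₀) := by
    intro e₀
    have h2 := congrArg (fun t : ((RelProj.domQ u pL chartL : PL.Opens) : Scheme.{u}) ⟶ Y =>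
      t.base e₀) hover
    exact h2
  refine ⟨inferInstance, fun V => ?_⟩
  obtain ⟨V, hV⟩ := V
  replace hV : IsAffineOpen V := hV
  show CohB1.IsAmple (L.restrict (f ⁻¹ᵁ V).ι)
  have hcpt : CompactSpace ((f ⁻¹ᵁ V : X.Opens) : Scheme.{u}) :=
    isCompact_iff_compactSpace.mp (QuasiCompact.isCompact_preimage (f := f) _ V.isOpen hV.isCompact)
  refine ⟨isInvertible_restrict (f ⁻¹ᵁ V).ι hL, hcpt, fun y => ?_⟩
  have hxO : y.1 ∈ f ⁻¹ᵁ V := y.2
  obtain ⟨U₀, e, hU₀aff, hxU₀, hU₀O, he⟩ := exists_affine_basis L hL y.1 (f ⁻¹ᵁ V) hxO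
  -- the open `Ω` of `P` cutting out `U₀`
  have hopen : IsOpen (K.base ⁻¹' (U₀ : Set X)) := U₀.isOpen.preimage K.base.hom.continuous
  obtain ⟨Ω, hΩ, hΩeq⟩ := hemb.isInducing.isOpen_iff.mp hopen
  obtain ⟨e₀, he₀⟩ := hKsurj y.1
  have hre₀ : r.base e₀ ∈ Ω := by
    have h1 : e₀ ∈ r.base ⁻¹' Ω := by
      rw [hΩeq]
      show K.base e₀ ∈ (U₀ : Set X)
      rw [he₀]
      exact hxU₀
    exact h1
  have hpV : p.base (r.base e₀) ∈ V := by
    rw [hpr e₀, he₀]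
    exact hxO
  obtain ⟨w, hw⟩ := exists_emb p chart (r.base e₀) V hV hpV
  let Ω' : (Proj (𝒜.deg V hV)).Opens := (RelProj.emb p chart V hV) ⁻¹ᵁ ⟨Ω, hΩ⟩
  have hwΩ' : w ∈ Ω' := by
    show (RelProj.emb p chart V hV).base w ∈ Ω
    rw [hw]
    exact hre₀
  obtain ⟨n, hn, s, hs, hws, hsΩ⟩ := rl_exists_homog_basicOpen_le (𝒜.deg V hV) w Ω' hwΩ'
  obtain ⟨n', rfl⟩ : ∃ n', n = n' + 1 := Nat.exists_eq_succ_of_ne_zero hn.ne'
  have hmem := mem_preimage_iff u chart chartL hL hLq hjL hP hPL r hr V hV hn s hs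
  -- `x ∈ XFU`
  have hxX : y.1 ∈ XFU u V (n' + 1) s := by
    have h1 := (hmem e₀).mp ⟨w, hws, hw⟩
    have h2 : pL.base ((RelProj.domQ u pL chartL).ι.base e₀) = y.1 := he₀
    rw [h2] at h1
    exact h1
  -- `XFU ≤ U₀`
  have hXU₀ : XFU u V (n' + 1) s ≤ U₀ := by
    intro x₁ hx₁
    obtain ⟨e₁, he₁⟩ := hKsurj x₁
    have h2 : pL.base ((RelProj.domQ u pL chartL).ι.base e₁) = x₁ := he₁
    have h1 : r.base e₁ ∈ (RelProj.emb p chart V hV) ''ᵁ Proj.basicOpen (𝒜.deg V hV) s := by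
      apply (hmem e₁).mpr
      rw [h2]
      exact hx₁
    obtain ⟨w₁, hw₁s, hw₁⟩ := h1
    have h3 : w₁ ∈ Ω' := hsΩ hw₁s
    have h4 : r.base e₁ ∈ Ω := by
      rw [← hw₁]
      exact h3
    have h5 : e₁ ∈ r.base ⁻¹' Ω := h4
    rw [hΩeq] at h5
    have h6 : K.base e₁ ∈ (U₀ : Set X) := h5
    rw [he₁] at h6
    exact h6
  -- the element `z` and its bridge
  let O' : X.Opens := (f ⁻¹ᵁ V).ι ''ᵁ ⊤
  have hO' : O' = f ⁻¹ᵁ V := Scheme.Opens.ι_image_top _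
  have hO'le : O' ≤ f ⁻¹ᵁ V := hO'.le
  have hleO' : f ⁻¹ᵁ V ≤ O' := hO'.ge
  let z : 𝒮L.presheaf.obj (op O') := (𝒮L.presheaf.map (homOfLE hO'le).op).hom ((u.app V).hom s)
  have hzres : ∀ (W : X.Opens) (hWO : W ≤ O'),
      (𝒮L.presheaf.map (homOfLE hWO).op).hom z =
        (u.appLE V W (hWO.trans hO'le)).hom s := by
    intro W hWO
    show (𝒮L.presheaf.map (homOfLE hWO).op).hom
      ((𝒮L.presheaf.map (homOfLE hO'le).op).hom ((u.app V).hom s)) = _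
    rw [QA.res_res']
    rfl
  have hz : ∀ (W : X.Opens) (hW : IsAffineOpen W) (hWO : W ≤ O'),
      (𝒮L.presheaf.map (homOfLE hWO).op).hom z ∈ 𝒮L.deg W hW (n' + 1) := by
    intro W hW hWO
    rw [hzres W hWO]
    exact u.map_mem V hV W hW (hWO.trans hO'le) hs
  obtain ⟨σ, hσ⟩ := exists_bridge hL hjL O' (n' + 1) z hz
  have hU₀O' : U₀ ≤ O' := hU₀O.trans hleO'
  obtain ⟨N1, -⟩ := exists_N hjL U₀ hU₀aff e he
  obtain ⟨b, hb⟩ := N1 (n' + 1) _ (hz U₀ hU₀aff hU₀O')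
  have hσ₀ := hσ U₀ hU₀aff hU₀O' e he b hb
  let M := CohB1.tensorPow L (n' + 1)
  let G := genOp M O' σ
  have hG1 : G ⊓ U₀ = X.basicOpen b :=
    genOp_inf_eq_basicOpen M O' σ U₀ hU₀O' (secPow e (n' + 1)) (he.secPow (n' + 1)) b hσ₀
  -- `G ≤ XFU`
  have hG2 : G ≤ XFU u V (n' + 1) s := by
    intro x₁ hx₁
    obtain ⟨W, hWO, hx₁W, hbW⟩ := (mem_genOp M O' σ x₁).mp hx₁
    obtain ⟨W₁, e₁, hW₁, hx₁W₁, hW₁W, he₁⟩ := exists_affine_basis L hL x₁ W hx₁W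
    have hW₁O : W₁ ≤ O' := hW₁W.trans hWO
    obtain ⟨N1', -⟩ := exists_N hjL W₁ hW₁ e₁ he₁
    obtain ⟨b₁, hb₁⟩ := N1' (n' + 1) _ (hz W₁ hW₁ hW₁O)
    have hσ₁ := hσ W₁ hW₁ hW₁O e₁ he₁ b₁ hb₁
    have h1 : IsBasisOver M W₁ (M.presheaf.map (homOfLE hW₁W).op
        (M.presheaf.map (homOfLE hWO).op σ)) := hbW.mono hW₁W
    rw [res_res] at h1
    have h1' : IsBasisOver M W₁ (b₁ • secPow e₁ (n' + 1)) := hσ₁ ▸ h1
    have hun : IsUnit b₁ := ((he₁.secPow (n' + 1)).smul_iff b₁).mp h1'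
    obtain ⟨c, hc⟩ := hun.exists_right_inv
    refine (mem_XFU u V (n' + 1) s x₁).mpr ⟨W₁, hW₁, hW₁O.trans hO'le, hx₁W₁, ?_⟩
    intro t ht
    obtain ⟨a, ha⟩ := N1' (n' + 1) t ht
    show t ∈ Ideal.span {(u.appLE V W₁ (hW₁O.trans hO'le)).hom s}
    rw [Ideal.mem_span_singleton', ← hzres W₁ hW₁O, hb₁, ha]
    refine ⟨(𝒮L.str.app (op W₁)).hom (a * c), ?_⟩
    have h2 : (𝒮L.str.app (op W₁)).hom b₁ * (𝒮L.str.app (op W₁)).hom c = 1 := by
      rw [← map_mul, hc, map_one]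
    rw [map_mul]
    linear_combination ((𝒮L.str.app (op W₁)).hom a * (QA.sec jL W₁ e₁) ^ (n' + 1)) * h2
  -- `XFU ⊓ U₀ ≤ basicOpen b`
  have hG3 : XFU u V (n' + 1) s ⊓ U₀ ≤ X.basicOpen b := by
    rintro x₁ ⟨hx₁X, hx₁U⟩
    let x' : PL := (inv pL).base x₁
    have hx' : pL.base x' = x₁ := by
      have h1 : inv pL ≫ pL = 𝟙 X := IsIso.inv_hom_id pL
      exact congrArg (fun t : X ⟶ X => t.base x₁) h1
    obtain ⟨yy, hyy⟩ := exists_emb pL chartL x' U₀ hU₀aff (by rw [hx']; exact hx₁U)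
    have hx₁' : pL.base ((RelProj.emb pL chartL U₀ hU₀aff).base yy) ∈ XFU u V (n' + 1) s := by
      rw [hyy, hx']; exact hx₁X
    have hnot := notMem_of_mem_XFU u chart chartL hL hLq hjL hP hPL r hr V hV hn s U₀ hU₀aff hU₀O
      yy hx₁'
    have hbn : (𝒮L.str.app (op U₀)).hom b ∉ yy.asHomogeneousIdeal := by
      intro hcon
      apply hnot
      have h1 : (u.appLE V U₀ hU₀O).hom s =
          (𝒮L.str.app (op U₀)).hom b * (QA.sec jL U₀ e) ^ (n' + 1) := by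
        rw [← hb, hzres U₀ hU₀O']
      rw [h1]
      exact Ideal.mul_mem_right _ yy.asHomogeneousIdeal.toIdeal hcon
    have h2 := (pL_emb_mem_basicOpen_iff chartL hPL U₀ hU₀aff yy b).mpr hbn
    rw [hyy, hx'] at h2
    exact h2
  have hGeq : G = X.basicOpen b := by
    rw [← hG1]
    exact (inf_eq_left.mpr (hG2.trans hXU₀)).symm
  have hxG : y.1 ∈ G := by
    rw [hGeq]
    exact hG3 ⟨hxX, hxU₀⟩
  have hGaff : IsAffineOpen G := by
    rw [hGeq]
    exact hU₀aff.basicOpen b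
  -- the section
  let s₀ : unitMod ((f ⁻¹ᵁ V : X.Opens) : Scheme.{u}) ⟶ M.restrict (f ⁻¹ᵁ V).ι :=
    homOfSection (M.restrict (f ⁻¹ᵁ V).ι) (show Γ(M.restrict (f ⁻¹ᵁ V).ι, ⊤) from σ)
  have hs₀ : CohB1.genLocus _ s₀ = (f ⁻¹ᵁ V).ι ⁻¹ᵁ G := genLocus_homOfSection (f ⁻¹ᵁ V).ι M σ
  have hgl : CohB1.genLocus _ (s₀ ≫ (restrictTensorPowIso (f ⁻¹ᵁ V).ι L (n' + 1)).symm.hom) =
      (f ⁻¹ᵁ V).ι ⁻¹ᵁ G := by
    rw [genLocus_comp_iso s₀ (restrictTensorPowIso (f ⁻¹ᵁ V).ι L (n' + 1)).symm, hs₀]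
  refine ⟨n', s₀ ≫ (restrictTensorPowIso (f ⁻¹ᵁ V).ι L (n' + 1)).symm.hom, ?_, ?_⟩
  · rw [hgl]
    exact hxG
  · rw [hgl, ← Scheme.Hom.isAffineOpen_iff_of_isOpenImmersion (f ⁻¹ᵁ V).ι,
      Scheme.Hom.image_preimage_eq_opensRange_inf]
    have h1 : (f ⁻¹ᵁ V).ι.opensRange ⊓ G = G := by
      rw [Scheme.Opens.opensRange_ι]
      exact inf_eq_right.mpr ((genOp_le M O' σ).trans hO'le)
    rw [h1]
    exact hGaff

end MainE

end

end Groth.Agent.H4.AmpBridge
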