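import Mathlib
import Groth.Agent.H4.AmpBridge

set_option autoImplicit false
set_option linter.style.haveILetI false
set_option linter.unusedSectionVars false
set_option linter.unusedVariables false

namespace Groth.Agent.H4.AmpOpen

open CategoryTheory CategoryTheory.Limits AlgebraicGeometry TopologicalSpace Opposite
open Groth.Agent.LD.QC Groth.Agent.H6
open Groth.Agent.H4.ProjSymL Groth.Agent.H4.ProjSymL2 Groth.Agent.H4.ProjSymL6 Groth.Agent.H4.ProjSymL7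
open Groth.Agent.H4.AmpBridge
open scoped HomogeneousIdeal

universe u

noncomputable section

section RingSheaf

variable {X : Scheme.{u}} (B : RelSpec.QCAlg X)

/-- restriction maps of the sheaf of rings `B`. -/
abbrev rs {U V : X.Opens} (h : V ≤ U) : B.presheaf.obj (op U) →+* B.presheaf.obj (op V) :=
  (B.presheaf.map (homOfLE h).op).hom

lemma rs_rs {U V W : X.Opens} (h : V ≤ U) (h' : W ≤ V) (a : B.presheaf.obj (op U)) :
    rs B h' (rs B h a) = rs B (h'.trans h) a := QA.res_res' h h' a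

lemma rs_self (U : X.Opens) (a : B.presheaf.obj (op U)) : rs B (le_refl U) a = a :=
  QA.res_self' U a

lemma rs_str {U V : X.Opens} (h : V ≤ U) (r : Γ(X, U)) :
    rs B h ((B.str.app (op U)).hom r) =
      (B.str.app (op V)).hom ((X.presheaf.map (homOfLE h).op).hom r) := QA.str_res B h r

theorem ring_glue {ι : Type u} (V : ι → X.Opens) (U : X.Opens) (hV : ∀ i, V i ≤ U)
    (hcov : U ≤ ⨆ i, V i) (sf : ∀ i, B.presheaf.obj (op (V i)))
    (compat : ∀ i j, rs B (inf_le_left : V i ⊓ V j ≤ V i) (sf i) =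
      rs B (inf_le_right : V i ⊓ V j ≤ V j) (sf j)) :
    ∃ σ : B.presheaf.obj (op U), ∀ i, rs B (hV i) σ = sf i :=
  exists_glue_section B.toModule V U hV hcov sf compat

theorem ring_ext {ι : Type*} {U : X.Opens} (V : ι → X.Opens) (hV : ∀ i, V i ≤ U)
    (hcov : U ≤ ⨆ i, V i) (s s' : B.presheaf.obj (op U))
    (h : ∀ i, rs B (hV i) s = rs B (hV i) s') : s = s' :=
  section_ext_of_cover B.toModule V hV hcov s s' h

theorem ring_loc_inj {U : X.Opens} (hU : IsAffineOpen U) (f : Γ(X, U))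
    (a : B.presheaf.obj (op U)) (ha : rs B (X.basicOpen_le f) a = 0) :
    ∃ n : ℕ, ((B.str.app (op U)).hom f) ^ n * a = 0 := by
  obtain ⟨n, hn⟩ := affine_inj B.toModule hU f (QA.ofRing B U a) ha
  refine ⟨n, ?_⟩
  rw [← map_pow]
  exact hn

theorem ring_loc_surj {U : X.Opens} (hU : IsAffineOpen U) (f : Γ(X, U))
    (y : B.presheaf.obj (op (X.basicOpen f))) :
    ∃ (n : ℕ) (a : B.presheaf.obj (op U)), rs B (X.basicOpen_le f) a =
      (rs B (X.basicOpen_le f) ((B.str.app (op U)).hom f)) ^ n * y := by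
  obtain ⟨n, a, ha⟩ := affine_surj B.toModule hU f (QA.ofRing B _ y)
  refine ⟨n, a, ?_⟩
  rw [rs_str, ← map_pow]
  exact ha

end RingSheaf

section BridgeInv

variable {X : Scheme.{u}} {L : X.Modules} {𝒮L : RelProj.QCGrAlg X} {jL : L ⟶ 𝒮L.toModule}

/-- converse of `smul_secPow_eq`. -/
theorem str_mul_sec_pow_eq [L.IsQuasicoherent] (W : X.Opens)
    (e e' : Γ(L, W)) (he : IsBasisOver L W e) (he' : IsBasisOver L W e')
    (b b' : Γ(X, W)) (n : ℕ) (h : b • secPow e n = b' • secPow e' n) :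
    (𝒮L.str.app (op W)).hom b * (QA.sec jL W e) ^ n =
      (𝒮L.str.app (op W)).hom b' * (QA.sec jL W e') ^ n := by
  obtain ⟨c, hc⟩ := he.exists_coord e'
  have h1 : QA.sec jL W e' = (𝒮L.str.app (op W)).hom c * QA.sec jL W e := by
    rw [hc, QA.sec_smul]
  rw [hc, secPow_smul, smul_smul] at h
  have h2 : b = b' * c ^ n := (he.secPow n).coord_injective h
  rw [h1, mul_pow, ← map_pow, ← mul_assoc, ← map_mul, h2]

theorem exists_bridge_inv (hL : PicF.IsInvertible L) [L.IsQuasicoherent]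
    (hj : RelProj.IsGrSymAlg L 𝒮L jL) (O : X.Opens) (n : ℕ) (σ : Γ(CohB1.tensorPow L n, O)) :
    ∃ z : 𝒮L.presheaf.obj (op O), ∀ (W : X.Opens) (hW : IsAffineOpen W) (hWO : W ≤ O)
      (e : Γ(L, W)) (he : IsBasisOver L W e) (b : Γ(X, W)),
      (CohB1.tensorPow L n).presheaf.map (homOfLE hWO).op σ = b • secPow e n →
      rs 𝒮L.toQCAlg hWO z = (𝒮L.str.app (op W)).hom b * (QA.sec jL W e) ^ n := by
  choose U e hU hxU hUO he using fun x : O => exists_affine_basis L hL x.1 O x.2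
  have hb : ∀ x : O, ∃ b : Γ(X, U x),
      (CohB1.tensorPow L n).presheaf.map (homOfLE (hUO x)).op σ = b • secPow (e x) n := fun x =>
    ((he x).secPow n).exists_coord _
  choose b hb using hb
  have key : ∀ (x : O) (W : X.Opens) (hWU : W ≤ U x) (e' : Γ(L, W))
      (he' : IsBasisOver L W e') (b' : Γ(X, W)),
      (CohB1.tensorPow L n).presheaf.map (homOfLE (hWU.trans (hUO x))).op σ = b' • secPow e' n →
      rs 𝒮L.toQCAlg hWU ((𝒮L.str.app (op (U x))).hom (b x) * (QA.sec jL (U x) (e x)) ^ n) =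
        (𝒮L.str.app (op W)).hom b' * (QA.sec jL W e') ^ n := by
    intro x W hWU e' he' b' hσb
    rw [map_mul, map_pow, rs_str]
    have h0 : rs 𝒮L.toQCAlg hWU (QA.sec jL (U x) (e x)) =
        QA.sec jL W (L.presheaf.map (homOfLE hWU).op (e x)) := QA.sec_res jL hWU (e x)
    rw [h0]
    apply str_mul_sec_pow_eq W _ _ ((he x).mono hWU) he' _ _ n
    rw [← hσb, ← secPow_res, ← Scheme.Modules.map_smul, ← hb x, res_res]
  have hcov : O ≤ ⨆ x : O, U x := fun y hy => Opens.mem_iSup.mpr ⟨⟨y, hy⟩, hxU ⟨y, hy⟩⟩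
  obtain ⟨z, hz⟩ := ring_glue 𝒮L.toQCAlg (fun x : O => U x) O hUO hcov
    (fun x => (𝒮L.str.app (op (U x))).hom (b x) * (QA.sec jL (U x) (e x)) ^ n) (by
      intro x y
      apply ring_ext 𝒮L.toQCAlg
        (fun V : {V : X.affineOpens // V.1 ≤ U x ⊓ U y} => V.1.1) (fun V => V.2)
        (le_iSup_affineOpens _)
      rintro ⟨⟨W, hW⟩, hWle⟩
      have hWle' : W ≤ U x ⊓ U y := hWle
      have hWx : W ≤ U x := hWle'.trans inf_le_left
      have hWy : W ≤ U y := hWle'.trans inf_le_right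
      show rs 𝒮L.toQCAlg hWle' (rs 𝒮L.toQCAlg inf_le_left _) =
        rs 𝒮L.toQCAlg hWle' (rs 𝒮L.toQCAlg inf_le_right _)
      rw [rs_rs, rs_rs]
      have h1 := key x W hWx (L.presheaf.map (homOfLE hWy).op (e y)) ((he y).mono hWy)
        ((X.presheaf.map (homOfLE hWy).op).hom (b y)) (by
          rw [← secPow_res, ← Scheme.Modules.map_smul, ← hb y, res_res])
      refine h1.trans ?_
      rw [map_mul, map_pow, rs_str]
      have h0 : rs 𝒮L.toQCAlg hWy (QA.sec jL (U y) (e y)) =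
          QA.sec jL W (L.presheaf.map (homOfLE hWy).op (e y)) := QA.sec_res jL hWy (e y)
      rw [h0])
  refine ⟨z, ?_⟩
  intro W hW hWO e' he' b' hσb
  apply ring_ext 𝒮L.toQCAlg
    (fun V : Σ x : O, {V : X.affineOpens // V.1 ≤ W ⊓ U x} => V.2.1.1)
    (fun V => (V.2.2 : (V.2.1.1 : X.Opens) ≤ W ⊓ U V.1).trans inf_le_left)
  · intro y hy
    have hyO : y ∈ O := hWO hy
    obtain ⟨W', hW', hyW', hW'le⟩ := exists_isAffineOpen_mem_and_subset (x := y)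
      (U := W ⊓ U ⟨y, hyO⟩) ⟨hy, hxU ⟨y, hyO⟩⟩
    exact Opens.mem_iSup.mpr ⟨⟨⟨y, hyO⟩, ⟨⟨W', hW'⟩, hW'le⟩⟩, hyW'⟩
  · rintro ⟨x, ⟨⟨W', hW'⟩, hW'le⟩⟩
    have hW'le' : W' ≤ W ⊓ U x := hW'le
    have hW'W : W' ≤ W := hW'le'.trans inf_le_left
    have hW'U : W' ≤ U x := hW'le'.trans inf_le_right
    show rs 𝒮L.toQCAlg hW'W (rs 𝒮L.toQCAlg hWO z) =
      rs 𝒮L.toQCAlg hW'W ((𝒮L.str.app (op W)).hom b' * (QA.sec jL W e') ^ n)
    rw [rs_rs, ← rs_rs 𝒮L.toQCAlg (hUO x) hW'U, hz x]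
    have h1 := key x W' hW'U (L.presheaf.map (homOfLE hW'W).op e') (he'.mono hW'W)
      ((X.presheaf.map (homOfLE hW'W).op).hom b') (by
        rw [← secPow_res, ← Scheme.Modules.map_smul, ← hσb, res_res])
    refine h1.trans ?_
    rw [map_mul, map_pow, rs_str]
    have h0 : rs 𝒮L.toQCAlg hW'W (QA.sec jL W e') =
        QA.sec jL W' (L.presheaf.map (homOfLE hW'W).op e') := QA.sec_res jL hW'W e'
    rw [h0]

end BridgeInv

section Sch

open Groth.Agent.H4.ConeImm Groth.Agent.H4.ProjQ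

variable {Y X P PL : Scheme.{u}} {f : X ⟶ Y} {L : X.Modules}
  {𝒜 : RelProj.QCGrAlg Y} {𝒮L : RelProj.QCGrAlg X} {jL : L ⟶ 𝒮L.toModule}
  (u : RelProj.QGrHom f 𝒜 𝒮L)
  {p : P ⟶ Y}
  (chart : ∀ (U : Y.Opens) (hU : IsAffineOpen U),
    (((p ⁻¹ᵁ U : P.Opens) : Scheme.{u}) ≅ Proj (𝒜.deg U hU)))
  {pL : PL ⟶ X}
  (chartL : ∀ (U : X.Opens) (hU : IsAffineOpen U),
    (((pL ⁻¹ᵁ U : PL.Opens) : Scheme.{u}) ≅ Proj (𝒮L.deg U hU)))

variable (hL : PicF.IsInvertible L) (hLq : Coh.IsQCoh L) (hj : RelProj.IsGrSymAlg L 𝒮L jL)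
  (hP : RelProj.IsRelProj 𝒜 p chart) (hPL : RelProj.IsRelProj 𝒮L pL chartL)
  (r : ((RelProj.domQ u pL chartL : PL.Opens) : Scheme.{u}) ⟶ P)
  (hr : RelProj.IsProjQMapOn u p chart pL chartL (RelProj.domQ u pL chartL) r)

include hL hLq hj hP hPL hr

/-- on an affine open with a basis of `L`, `X_t` is a basic open. -/
theorem XFU_inf_eq_basicOpen (V : Y.Opens) (hV : IsAffineOpen V) {n : ℕ} (hn : 0 < n)
    (t : 𝒜.presheaf.obj (op V)) (W : X.Opens) (hW : IsAffineOpen W) (hWV : W ≤ f ⁻¹ᵁ V)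
    (e : Γ(L, W)) (he : IsBasisOver L W e) (b : Γ(X, W))
    (hb : (u.appLE V W hWV).hom t = (𝒮L.str.app (op W)).hom b * (QA.sec jL W e) ^ n) :
    XFU u V n t ⊓ W = X.basicOpen b := by
  haveI : L.IsQuasicoherent := hLq
  haveI : IsIso pL := main_S12143 L hL hLq 𝒮L jL hj pL chartL hPL
  apply le_antisymm
  · rintro x₁ ⟨hx₁X, hx₁U⟩
    let x' : PL := (inv pL).base x₁
    have hx' : pL.base x' = x₁ := by
      have h1 : inv pL ≫ pL = 𝟙 X := IsIso.inv_hom_id pL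
      exact congrArg (fun t : X ⟶ X => t.base x₁) h1
    obtain ⟨yy, hyy⟩ := exists_emb pL chartL x' W hW (by rw [hx']; exact hx₁U)
    have hx₁' : pL.base ((RelProj.emb pL chartL W hW).base yy) ∈ XFU u V n t := by
      rw [hyy, hx']; exact hx₁X
    have hnot := notMem_of_mem_XFU u chart chartL hL hLq hj hP hPL r hr V hV hn t W hW hWV
      yy hx₁'
    have hbn : (𝒮L.str.app (op W)).hom b ∉ yy.asHomogeneousIdeal := by
      intro hcon
      apply hnot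
      rw [hb]
      exact Ideal.mul_mem_right _ yy.asHomogeneousIdeal.toIdeal hcon
    have h2 := (pL_emb_mem_basicOpen_iff chartL hPL W hW yy b).mpr hbn
    rw [hyy, hx'] at h2
    exact h2
  · refine le_inf ?_ (X.basicOpen_le b)
    intro x hx
    have hD : X.basicOpen b ≤ W := X.basicOpen_le b
    have hDaff : IsAffineOpen (X.basicOpen b) := hW.basicOpen b
    refine (mem_XFU u V n t x).mpr ⟨X.basicOpen b, hDaff, hD.trans hWV, hx, ?_⟩
    obtain ⟨N1, -⟩ := exists_N hj (X.basicOpen b) hDaff _ (he.mono hD)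
    have hun : IsUnit ((X.presheaf.map (homOfLE hD).op).hom b) :=
      isUnit_res_of_le_basicOpen b hD le_rfl
    obtain ⟨c, hc⟩ := hun.exists_right_inv
    have hs' : (u.appLE V (X.basicOpen b) (hD.trans hWV)).hom t =
        (𝒮L.str.app (op (X.basicOpen b))).hom ((X.presheaf.map (homOfLE hD).op).hom b) *
          (QA.sec jL (X.basicOpen b) (L.presheaf.map (homOfLE hD).op e)) ^ n := by
      have h1 : rs 𝒮L.toQCAlg hD ((u.appLE V W hWV).hom t) =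
          (u.appLE V (X.basicOpen b) (hD.trans hWV)).hom t :=
        congrArg (fun k : 𝒜.presheaf.obj (op V) ⟶ 𝒮L.presheaf.obj (op (X.basicOpen b)) => k.hom t)
          (u.appLE_map hWV hD)
      rw [← h1, hb, map_mul, map_pow, rs_str]
      have h0 : rs 𝒮L.toQCAlg hD (QA.sec jL W e) =
          QA.sec jL (X.basicOpen b) (L.presheaf.map (homOfLE hD).op e) := QA.sec_res jL hD e
      rw [h0]
    intro y hy
    obtain ⟨a, ha⟩ := N1 n y hy
    show y ∈ Ideal.span {(u.appLE V (X.basicOpen b) (hD.trans hWV)).hom t}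
    rw [Ideal.mem_span_singleton', hs', ha]
    refine ⟨(𝒮L.str.app (op (X.basicOpen b))).hom (a * c), ?_⟩
    have h2 : (𝒮L.str.app (op (X.basicOpen b))).hom ((X.presheaf.map (homOfLE hD).op).hom b) *
        (𝒮L.str.app (op (X.basicOpen b))).hom c = 1 := by
      rw [← map_mul, hc, map_one]
    rw [map_mul]
    linear_combination ((𝒮L.str.app (op (X.basicOpen b))).hom a *
      (QA.sec jL (X.basicOpen b) (L.presheaf.map (homOfLE hD).op e)) ^ n) * h2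

/-- `X_t` is the locus where the section of `L^{⊗n}` attached to `u t` generates. -/
theorem XFU_eq_genOp (V : Y.Opens) (hV : IsAffineOpen V) {n : ℕ} (hn : 0 < n)
    (t : 𝒜.presheaf.obj (op V)) (ht : t ∈ 𝒜.deg V hV n) (O' : X.Opens) (hO' : O' ≤ f ⁻¹ᵁ V)
    (hO'' : f ⁻¹ᵁ V ≤ O') (σ : Γ(CohB1.tensorPow L n, O'))
    (hσ : ∀ (W : X.Opens) (hW : IsAffineOpen W) (hWO : W ≤ O') (e : Γ(L, W))
      (he : IsBasisOver L W e) (b : Γ(X, W)),
      (u.appLE V W (hWO.trans hO')).hom t = (𝒮L.str.app (op W)).hom b * (QA.sec jL W e) ^ n →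
      (CohB1.tensorPow L n).presheaf.map (homOfLE hWO).op σ = b • secPow e n) :
    XFU u V n t = genOp (CohB1.tensorPow L n) O' σ := by
  haveI : L.IsQuasicoherent := hLq
  have key : ∀ x : X, x ∈ O' → (x ∈ XFU u V n t ↔ x ∈ genOp (CohB1.tensorPow L n) O' σ) := by
    intro x hxO
    obtain ⟨U₀, e, hU₀, hxU₀, hU₀O, he⟩ := exists_affine_basis L hL x O' hxO
    obtain ⟨N1, -⟩ := exists_N hj U₀ hU₀ e he
    obtain ⟨b, hb⟩ := N1 n _ (u.map_mem V hV U₀ hU₀ (hU₀O.trans hO') ht)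
    have hb' : (u.appLE V U₀ (hU₀O.trans hO')).hom t =
        (𝒮L.str.app (op U₀)).hom b * (QA.sec jL U₀ e) ^ n := hb
    have h1 := XFU_inf_eq_basicOpen u chart chartL hL hLq hj hP hPL r hr V hV hn t U₀ hU₀
      (hU₀O.trans hO') e he b hb'
    have h2 := genOp_inf_eq_basicOpen (CohB1.tensorPow L n) O' σ U₀ hU₀O (secPow e n)
      (he.secPow n) b (hσ U₀ hU₀ hU₀O e he b hb')
    constructor
    · intro hx
      have h3 : x ∈ XFU u V n t ⊓ U₀ := ⟨hx, hxU₀⟩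
      rw [h1, ← h2] at h3
      exact h3.1
    · intro hx
      have h3 : x ∈ genOp (CohB1.tensorPow L n) O' σ ⊓ U₀ := ⟨hx, hxU₀⟩
      rw [h2, ← h1] at h3
      exact h3.1
  ext x
  constructor
  · intro hx
    exact (key x (hO'' (XFU_le u V n t hx))).mp hx
  · intro hx
    exact (key x (genOp_le _ O' σ hx)).mpr hx

end Sch

section Sch2

open Groth.Agent.H4.ConeImm Groth.Agent.H4.ProjQ

variable {Y X P PL : Scheme.{u}} {f : X ⟶ Y} {L : X.Modules}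
  {𝒜 : RelProj.QCGrAlg Y} {𝒮L : RelProj.QCGrAlg X} {jL : L ⟶ 𝒮L.toModule}
  (u : RelProj.QGrHom f 𝒜 𝒮L)
  {p : P ⟶ Y}
  (chart : ∀ (U : Y.Opens) (hU : IsAffineOpen U),
    (((p ⁻¹ᵁ U : P.Opens) : Scheme.{u}) ≅ Proj (𝒜.deg U hU)))
  {pL : PL ⟶ X}
  (chartL : ∀ (U : X.Opens) (hU : IsAffineOpen U),
    (((pL ⁻¹ᵁ U : PL.Opens) : Scheme.{u}) ≅ Proj (𝒮L.deg U hU)))

theorem tau_rs (V : Y.Opens) (t : 𝒜.presheaf.obj (op V)) {W W' : X.Opens} (hW : W ≤ f ⁻¹ᵁ V)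
    (h : W' ≤ W) :
    rs 𝒮L.toQCAlg h ((u.appLE V W hW).hom t) = (u.appLE V W' (h.trans hW)).hom t :=
  congrArg (fun k : 𝒜.presheaf.obj (op V) ⟶ 𝒮L.presheaf.obj (op W') => k.hom t)
    (u.appLE_map hW h)

variable (hL : PicF.IsInvertible L) (hLq : Coh.IsQCoh L) (hj : RelProj.IsGrSymAlg L 𝒮L jL)
  (hP : RelProj.IsRelProj 𝒜 p chart) (hPL : RelProj.IsRelProj 𝒮L pL chartL)
  (r : ((RelProj.domQ u pL chartL : PL.Opens) : Scheme.{u}) ⟶ P)
  (hr : RelProj.IsProjQMapOn u p chart pL chartL (RelProj.domQ u pL chartL) r)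

include hL hLq hj hP hPL hr

/-- a section of `𝒮L` over a quasi-compact open `O ⊆ f⁻¹V` vanishing on `O ∩ X_t` is killed by a
power of `u t`. -/
theorem exists_pow_mul_eq_zero (V : Y.Opens) (hV : IsAffineOpen V) {n : ℕ} (hn : 0 < n)
    (t : 𝒜.presheaf.obj (op V)) (ht : t ∈ 𝒜.deg V hV n) (O : X.Opens) (hOV : O ≤ f ⁻¹ᵁ V)
    (hOc : IsCompact (O : Set X)) (z : 𝒮L.presheaf.obj (op O))
    (hz : rs 𝒮L.toQCAlg (inf_le_left : O ⊓ XFU u V n t ≤ O) z = 0) :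
    ∃ m : ℕ, ((u.appLE V O hOV).hom t) ^ m * z = 0 := by
  classical
  haveI : L.IsQuasicoherent := hLq
  choose W e hW hxW hWO he using fun x : O => exists_affine_basis L hL x.1 O x.2
  have hb : ∀ x : O, ∃ b : Γ(X, W x), (u.appLE V (W x) ((hWO x).trans hOV)).hom t =
      (𝒮L.str.app (op (W x))).hom b * (QA.sec jL (W x) (e x)) ^ n := fun x =>
    (exists_N hj (W x) (hW x) (e x) (he x)).1 n _
      (u.map_mem V hV (W x) (hW x) ((hWO x).trans hOV) ht)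
  choose b hb using hb
  have hD : ∀ x : O, XFU u V n t ⊓ W x = X.basicOpen (b x) := fun x =>
    XFU_inf_eq_basicOpen u chart chartL hL hLq hj hP hPL r hr V hV hn t (W x) (hW x)
      ((hWO x).trans hOV) (e x) (he x) (b x) (hb x)
  have hDle : ∀ x : O, X.basicOpen (b x) ≤ O ⊓ XFU u V n t := by
    intro x
    rw [← hD x]
    exact le_inf (inf_le_right.trans (hWO x)) inf_le_left
  have hz0 : ∀ x : O, rs 𝒮L.toQCAlg (X.basicOpen_le (b x)) (rs 𝒮L.toQCAlg (hWO x) z) = 0 := by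
    intro x
    rw [rs_rs, ← rs_rs 𝒮L.toQCAlg (inf_le_left : O ⊓ XFU u V n t ≤ O) (hDle x), hz, map_zero]
  choose m hm using fun x : O => ring_loc_inj 𝒮L.toQCAlg (hW x) (b x) _ (hz0 x)
  obtain ⟨F, hF⟩ := hOc.elim_finite_subcover (fun x : O => ((W x : X.Opens) : Set X))
    (fun x => (W x).2) (fun y hy => Set.mem_iUnion.mpr ⟨⟨y, hy⟩, hxW ⟨y, hy⟩⟩)
  refine ⟨F.sup m, ?_⟩
  apply ring_ext 𝒮L.toQCAlg (fun i : F => W i.1) (fun i => hWO i.1)
  · intro y hy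
    obtain ⟨i, hi, hyi⟩ := Set.mem_iUnion₂.mp (hF hy)
    exact Opens.mem_iSup.mpr ⟨⟨i, hi⟩, hyi⟩
  · rintro ⟨i, hi⟩
    show rs 𝒮L.toQCAlg (hWO i) (((u.appLE V O hOV).hom t) ^ F.sup m * z) =
      rs 𝒮L.toQCAlg (hWO i) 0
    rw [map_zero, map_mul, map_pow, tau_rs u V t hOV (hWO i), hb i, mul_pow]
    have hle : m i ≤ F.sup m := Finset.le_sup hi
    have h1 : ((𝒮L.str.app (op (W i))).hom (b i)) ^ F.sup m * rs 𝒮L.toQCAlg (hWO i) z = 0 := by
      rw [← Nat.sub_add_cancel hle, pow_add, mul_assoc, hm i, mul_zero]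
    calc ((𝒮L.str.app (op (W i))).hom (b i)) ^ F.sup m *
          ((QA.sec jL (W i) (e i)) ^ n) ^ F.sup m * rs 𝒮L.toQCAlg (hWO i) z
        = ((QA.sec jL (W i) (e i)) ^ n) ^ F.sup m *
          (((𝒮L.str.app (op (W i))).hom (b i)) ^ F.sup m * rs 𝒮L.toQCAlg (hWO i) z) := by ring
      _ = 0 := by rw [h1, mul_zero]

/-- a section of `𝒮L` over `X_t`, multiplied by a power of `u t`, extends to `f⁻¹V`
(quasi-compact and quasi-separated). -/
theorem exists_extension (V : Y.Opens) (hV : IsAffineOpen V) {n : ℕ} (hn : 0 < n)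
    (t : 𝒜.presheaf.obj (op V)) (ht : t ∈ 𝒜.deg V hV n)
    (hc : IsCompact ((f ⁻¹ᵁ V : X.Opens) : Set X))
    (hqs : IsQuasiSeparated ((f ⁻¹ᵁ V : X.Opens) : Set X))
    (y : 𝒮L.presheaf.obj (op (XFU u V n t))) :
    ∃ (m : ℕ) (z : 𝒮L.presheaf.obj (op (f ⁻¹ᵁ V))),
      rs 𝒮L.toQCAlg (XFU_le u V n t) z =
        ((u.appLE V (XFU u V n t) (XFU_le u V n t)).hom t) ^ m * y := by
  classical
  haveI : L.IsQuasicoherent := hLq
  choose W e hW hxW hWO he using fun x : (f ⁻¹ᵁ V : X.Opens) =>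
    exists_affine_basis L hL x.1 (f ⁻¹ᵁ V) x.2
  have hb : ∀ x, ∃ b : Γ(X, W x), (u.appLE V (W x) (hWO x)).hom t =
      (𝒮L.str.app (op (W x))).hom b * (QA.sec jL (W x) (e x)) ^ n := fun x =>
    (exists_N hj (W x) (hW x) (e x) (he x)).1 n _ (u.map_mem V hV (W x) (hW x) (hWO x) ht)
  choose b hb using hb
  have hD : ∀ x, XFU u V n t ⊓ W x = X.basicOpen (b x) := fun x =>
    XFU_inf_eq_basicOpen u chart chartL hL hLq hj hP hPL r hr V hV hn t (W x) (hW x)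
      (hWO x) (e x) (he x) (b x) (hb x)
  have hDX : ∀ x, X.basicOpen (b x) ≤ XFU u V n t := fun x => by
    rw [← hD x]; exact inf_le_left
  have hDW : ∀ x, X.basicOpen (b x) ≤ W x := fun x => X.basicOpen_le (b x)
  obtain ⟨F, hF⟩ := hc.elim_finite_subcover (fun x => ((W x : X.Opens) : Set X))
    (fun x => (W x).2) (fun y hy => Set.mem_iUnion.mpr ⟨⟨y, hy⟩, hxW ⟨y, hy⟩⟩)
  -- local extensions
  choose m₁ a ha using fun x => ring_loc_surj 𝒮L.toQCAlg (hW x) (b x)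
    (rs 𝒮L.toQCAlg (hDX x) y)
  let M₁ := F.sup m₁
  obtain ⟨z₁, hz₁def⟩ : ∃ z₁ : ∀ x, 𝒮L.presheaf.obj (op (W x)), ∀ x, z₁ x =
      (QA.sec jL (W x) (e x)) ^ (n * M₁) * ((𝒮L.str.app (op (W x))).hom (b x)) ^ (M₁ - m₁ x) *
        a x := ⟨_, fun x => rfl⟩
  have hz₁ : ∀ x ∈ F, rs 𝒮L.toQCAlg (hDW x) (z₁ x) =
      ((u.appLE V (X.basicOpen (b x)) ((hDW x).trans (hWO x))).hom t) ^ M₁ *
        rs 𝒮L.toQCAlg (hDX x) y := by
    intro x hx
    have hle : m₁ x ≤ M₁ := Finset.le_sup hx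
    rw [hz₁def x, map_mul, map_mul, ha x, ← tau_rs u V t (hWO x) (hDW x), hb x, map_mul, map_pow, map_pow,
      map_pow]
    have h3 : M₁ = (M₁ - m₁ x) + m₁ x := (Nat.sub_add_cancel hle).symm
    generalize rs 𝒮L.toQCAlg (hDW x) (QA.sec jL (W x) (e x)) = S
    generalize rs 𝒮L.toQCAlg (hDW x) ((𝒮L.str.app (op (W x))).hom (b x)) = B
    generalize rs 𝒮L.toQCAlg (hDX x) y = Yx
    calc S ^ (n * M₁) * B ^ (M₁ - m₁ x) * (B ^ m₁ x * Yx)
        = S ^ (n * M₁) * B ^ ((M₁ - m₁ x) + m₁ x) * Yx := by rw [pow_add]; ring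
      _ = (B * S ^ n) ^ M₁ * Yx := by rw [← h3, mul_pow, ← pow_mul]; ring
  -- differences on overlaps
  have hcomp : ∀ x x', IsCompact (((W x ⊓ W x' : X.Opens)) : Set X) := fun x x' =>
    hqs (W x) (W x') (hWO x) (W x).2 (hW x).isCompact (hWO x') (W x').2 (hW x').isCompact
  have hd : ∀ x ∈ F, ∀ x' ∈ F, rs 𝒮L.toQCAlg (inf_le_left : (W x ⊓ W x') ⊓ XFU u V n t ≤ W x ⊓ W x')
      (rs 𝒮L.toQCAlg (inf_le_left : W x ⊓ W x' ≤ W x) (z₁ x) -
        rs 𝒮L.toQCAlg (inf_le_right : W x ⊓ W x' ≤ W x') (z₁ x')) = 0 := by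
    intro x hx x' hx'
    have hle1 : (W x ⊓ W x') ⊓ XFU u V n t ≤ X.basicOpen (b x) := by
      rw [← hD x]
      exact le_inf inf_le_right (inf_le_left.trans inf_le_left)
    have hle2 : (W x ⊓ W x') ⊓ XFU u V n t ≤ X.basicOpen (b x') := by
      rw [← hD x']
      exact le_inf inf_le_right (inf_le_left.trans inf_le_right)
    rw [map_sub, rs_rs, rs_rs, ← rs_rs 𝒮L.toQCAlg (hDW x) hle1, hz₁ x hx,
      ← rs_rs 𝒮L.toQCAlg (hDW x') hle2, hz₁ x' hx', map_mul, map_mul, map_pow, map_pow,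
      tau_rs, tau_rs, rs_rs, rs_rs]
    exact sub_self _
  have hm₂ : ∀ x x', ∃ m : ℕ, x ∈ F → x' ∈ F →
      ((u.appLE V (W x ⊓ W x') (inf_le_left.trans (hWO x))).hom t) ^ m *
        (rs 𝒮L.toQCAlg (inf_le_left : W x ⊓ W x' ≤ W x) (z₁ x) -
          rs 𝒮L.toQCAlg (inf_le_right : W x ⊓ W x' ≤ W x') (z₁ x')) = 0 := by
    intro x x'
    by_cases hx : x ∈ F
    · by_cases hx' : x' ∈ F
      · obtain ⟨m, hm⟩ := exists_pow_mul_eq_zero u chart chartL hL hLq hj hP hPL r hr V hV hn t ht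
          (W x ⊓ W x') (inf_le_left.trans (hWO x)) (hcomp x x') _ (hd x hx x' hx')
        exact ⟨m, fun _ _ => hm⟩
      · exact ⟨0, fun _ h => absurd h hx'⟩
    · exact ⟨0, fun h _ => absurd h hx⟩
  choose m₂ hm₂ using hm₂
  let M₂ := (F ×ˢ F).sup (fun q => m₂ q.1 q.2)
  obtain ⟨sf, hsf⟩ : ∃ sf : ∀ i : F, 𝒮L.presheaf.obj (op (W i.1)), ∀ i, sf i =
      ((u.appLE V (W i.1) (hWO i.1)).hom t) ^ M₂ * z₁ i.1 := ⟨_, fun i => rfl⟩
  have hcovF : (f ⁻¹ᵁ V : X.Opens) ≤ ⨆ i : F, W i.1 := by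
    intro y hy
    obtain ⟨i, hi, hyi⟩ := Set.mem_iUnion₂.mp (hF hy)
    exact Opens.mem_iSup.mpr ⟨⟨i, hi⟩, hyi⟩
  obtain ⟨z, hz⟩ := ring_glue 𝒮L.toQCAlg (fun i : F => W i.1) (f ⁻¹ᵁ V) (fun i => hWO i.1) hcovF
    sf (by
      rintro ⟨i, hi⟩ ⟨j, hj'⟩
      show rs 𝒮L.toQCAlg (inf_le_left : W i ⊓ W j ≤ W i) (sf ⟨i, hi⟩) =
        rs 𝒮L.toQCAlg (inf_le_right : W i ⊓ W j ≤ W j) (sf ⟨j, hj'⟩)
      rw [hsf ⟨i, hi⟩, hsf ⟨j, hj'⟩]
      show rs 𝒮L.toQCAlg (inf_le_left : W i ⊓ W j ≤ W i)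
          (((u.appLE V (W i) (hWO i)).hom t) ^ M₂ * z₁ i) =
        rs 𝒮L.toQCAlg (inf_le_right : W i ⊓ W j ≤ W j)
          (((u.appLE V (W j) (hWO j)).hom t) ^ M₂ * z₁ j)
      rw [map_mul, map_mul, map_pow, map_pow, tau_rs, tau_rs]
      have hle : m₂ i j ≤ M₂ :=
        Finset.le_sup (f := fun q : _ × _ => m₂ q.1 q.2) (Finset.mk_mem_product hi hj')
      have h1 := hm₂ i j hi hj'
      have h2 : ((u.appLE V (W i ⊓ W j) (inf_le_left.trans (hWO i))).hom t) ^ M₂ *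
          (rs 𝒮L.toQCAlg (inf_le_left : W i ⊓ W j ≤ W i) (z₁ i) -
            rs 𝒮L.toQCAlg (inf_le_right : W i ⊓ W j ≤ W j) (z₁ j)) = 0 := by
        rw [← Nat.sub_add_cancel hle, pow_add, mul_assoc, h1, mul_zero]
      rw [mul_sub] at h2
      exact sub_eq_zero.mp h2)
  refine ⟨M₁ + M₂, z, ?_⟩
  apply ring_ext 𝒮L.toQCAlg (fun i : F => X.basicOpen (b i.1)) (fun i => hDX i.1)
  · intro x hx
    have hxO : x ∈ f ⁻¹ᵁ V := XFU_le u V n t hx
    obtain ⟨i, hi, hxi⟩ := Set.mem_iUnion₂.mp (hF hxO)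
    have h1 : x ∈ XFU u V n t ⊓ W i := ⟨hx, hxi⟩
    rw [hD i] at h1
    exact Opens.mem_iSup.mpr ⟨⟨i, hi⟩, h1⟩
  · rintro ⟨i, hi⟩
    show rs 𝒮L.toQCAlg (hDX i) (rs 𝒮L.toQCAlg (XFU_le u V n t) z) =
      rs 𝒮L.toQCAlg (hDX i) (((u.appLE V (XFU u V n t) (XFU_le u V n t)).hom t) ^ (M₁ + M₂) * y)
    rw [rs_rs, ← rs_rs 𝒮L.toQCAlg (hWO i) (hDW i), hz ⟨i, hi⟩, hsf ⟨i, hi⟩]
    show rs 𝒮L.toQCAlg (hDW i) (((u.appLE V (W i) (hWO i)).hom t) ^ M₂ * z₁ i) = _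
    rw [map_mul, map_pow, tau_rs, hz₁ i hi, map_mul, map_pow, tau_rs, pow_add]
    ring

/-- the chart homomorphism `𝒜(V)_(t) → 𝒮L(X_t)_(u t)` is bijective, when `u` is bijective over `V`,
`f⁻¹V` is quasi-compact and quasi-separated and `X_t` is affine. -/
theorem awayMap_bijective (V : Y.Opens) (hV : IsAffineOpen V) {n : ℕ} (hn : 0 < n)
    (t : 𝒜.presheaf.obj (op V)) (ht : t ∈ 𝒜.deg V hV n)
    (hc : IsCompact ((f ⁻¹ᵁ V : X.Opens) : Set X))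
    (hqs : IsQuasiSeparated ((f ⁻¹ᵁ V : X.Opens) : Set X))
    (hu : Function.Bijective (u.app V).hom) (hT : IsAffineOpen (XFU u V n t)) :
    Function.Bijective (HomogeneousLocalization.Away.map
      (u.gradedAt V hV (XFU u V n t) hT (XFU_le u V n t)) t) := by
  classical
  have happ : ∀ a : 𝒜.presheaf.obj (op V),
      (u.gradedAt V hV (XFU u V n t) hT (XFU_le u V n t)) a =
        rs 𝒮L.toQCAlg (XFU_le u V n t) ((u.app V).hom a) := fun a => rfl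
  constructor
  · apply Groth.Agent.H4.ProjSymL3.awayMap_injective_of_cond _ t ht
    intro m hm s' hs' h0
    have h1 : rs 𝒮L.toQCAlg (inf_le_left : (f ⁻¹ᵁ V) ⊓ XFU u V n t ≤ f ⁻¹ᵁ V)
        ((u.app V).hom s') = 0 := by
      rw [← rs_rs 𝒮L.toQCAlg (XFU_le u V n t) (inf_le_right : (f ⁻¹ᵁ V) ⊓ XFU u V n t ≤ _)]
      have h2 : rs 𝒮L.toQCAlg (XFU_le u V n t) ((u.app V).hom s') = 0 := h0
      rw [h2, map_zero]
    obtain ⟨k, hk⟩ := exists_pow_mul_eq_zero u chart chartL hL hLq hj hP hPL r hr V hV hn t ht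
      (f ⁻¹ᵁ V) le_rfl hc _ h1
    have h3 : (u.appLE V (f ⁻¹ᵁ V) le_rfl).hom t = (u.app V).hom t := rs_self 𝒮L.toQCAlg _ _
    rw [h3, ← map_pow, ← map_mul] at hk
    have h4 : t ^ k * s' = 0 := hu.1 (hk.trans (map_zero _).symm)
    exact ⟨k + 1, Nat.succ_pos k, by rw [pow_succ', mul_assoc, h4, mul_zero]⟩
  · apply Groth.Agent.H4.ProjSymL3.awayMap_surjective_of_cond _ t ht (𝒮L.str.app (op (XFU u V n t))).hom
      (𝒮L.str_mem _ hT)
      (fun z => (tau_bijective u chart chartL hL hLq hj hP hPL r hr V hV hn t ht hT).2 z)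
    intro g
    obtain ⟨m, z, hz⟩ := exists_extension u chart chartL hL hLq hj hP hPL r hr V hV hn t ht hc hqs
      ((𝒮L.str.app (op (XFU u V n t))).hom g)
    obtain ⟨a, ha⟩ := hu.2 z
    let ψ := u.gradedAt V hV (XFU u V n t) hT (XFU_le u V n t)
    have hψt : ψ t ∈ 𝒮L.deg (XFU u V n t) hT n := ψ.map_mem ht
    have hψa : ψ a = (ψ t) ^ m * (𝒮L.str.app (op (XFU u V n t))).hom g := by
      show rs 𝒮L.toQCAlg (XFU_le u V n t) ((u.app V).hom a) = _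
      rw [ha, hz]
      rfl
    have hdeg : (ψ t) ^ m * (𝒮L.str.app (op (XFU u V n t))).hom g ∈
        𝒮L.deg (XFU u V n t) hT (m * n) := by
      have h1 := SetLike.mul_mem_graded (SetLike.pow_mem_graded m hψt) (𝒮L.str_mem _ hT g)
      have e : m • n + 0 = m * n := by simp
      rwa [e] at h1
    let a' : 𝒜.presheaf.obj (op V) := (DirectSum.decompose (𝒜.deg V hV) a (m * n) : _)
    have ha' : a' ∈ 𝒜.deg V hV (m * n) := SetLike.coe_mem _
    have hψa' : ψ a' = (ψ t) ^ m * (𝒮L.str.app (op (XFU u V n t))).hom g := by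
      show ψ (DirectSum.decompose (𝒜.deg V hV) a (m * n) : 𝒜.presheaf.obj (op V)) = _
      rw [GradedRingHom.map_directSumDecompose, hψa, DirectSum.decompose_of_mem_same _ hdeg]
    refine ⟨m + 1, Nat.succ_pos m, t * a', ?_, ?_⟩
    · have h1 := SetLike.mul_mem_graded ht ha'
      have e : n + m * n = (m + 1) * n := by ring
      rwa [e] at h1
    · show (𝒮L.str.app (op (XFU u V n t))).hom g * (ψ t) ^ (m + 1) = ψ (t * a')
      rw [map_mul, hψa', pow_succ]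
      ring

/-- ampleness of `L` over `f⁻¹V` produces affine opens `X_t` with `t` homogeneous in `𝒜(V)`. -/
theorem exists_affine_XFU_of_isAmple (V : Y.Opens) (hV : IsAffineOpen V)
    (hu : Function.Surjective (u.app V).hom)
    (hamp : CohB1.IsAmple (L.restrict (f ⁻¹ᵁ V).ι)) (x : X) (hx : x ∈ f ⁻¹ᵁ V) :
    ∃ (n : ℕ) (_ : 0 < n) (t : 𝒜.presheaf.obj (op V)) (_ : t ∈ 𝒜.deg V hV n),
      x ∈ XFU u V n t ∧ IsAffineOpen (XFU u V n t) := by
  classical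
  haveI : L.IsQuasicoherent := hLq
  obtain ⟨n', s, hy, haff⟩ := hamp.2.2 ⟨x, hx⟩
  let M := CohB1.tensorPow L (n' + 1)
  let s' : unitMod ((f ⁻¹ᵁ V : X.Opens) : Scheme.{u}) ⟶ M.restrict (f ⁻¹ᵁ V).ι :=
    s ≫ (restrictTensorPowIso (f ⁻¹ᵁ V).ι L (n' + 1)).hom
  have hg : CohB1.genLocus _ s' = CohB1.genLocus _ s :=
    genLocus_comp_iso s (restrictTensorPowIso (f ⁻¹ᵁ V).ι L (n' + 1))
  let O' : X.Opens := (f ⁻¹ᵁ V).ι ''ᵁ ⊤
  have hO' : O' = f ⁻¹ᵁ V := Scheme.Opens.ι_image_top _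
  have hO'le : O' ≤ f ⁻¹ᵁ V := hO'.le
  have hleO' : f ⁻¹ᵁ V ≤ O' := hO'.ge
  obtain ⟨σ, hσdef⟩ : ∃ σ : Γ(M, O'), σ = (show Γ(M, (f ⁻¹ᵁ V).ι ''ᵁ ⊤) from sectionOfHom s') :=
    ⟨_, rfl⟩
  have hs' : homOfSection (M.restrict (f ⁻¹ᵁ V).ι)
      (show Γ(M.restrict (f ⁻¹ᵁ V).ι, ⊤) from σ) = s' := by
    rw [hσdef]
    exact homOfSection_sectionOfHom s'
  have hgl : CohB1.genLocus _ s = (f ⁻¹ᵁ V).ι ⁻¹ᵁ genOp M O' σ := by
    rw [← hg, ← hs']
    exact genLocus_homOfSection (f ⁻¹ᵁ V).ι M σ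
  obtain ⟨z', hz'⟩ := exists_bridge_inv hL hj O' (n' + 1) σ
  obtain ⟨a, ha⟩ := hu (rs 𝒮L.toQCAlg hleO' z')
  obtain ⟨t, htdef⟩ : ∃ t : 𝒜.presheaf.obj (op V),
      t = (DirectSum.decompose (𝒜.deg V hV) a (n' + 1) : 𝒜.presheaf.obj (op V)) := ⟨_, rfl⟩
  have ht : t ∈ 𝒜.deg V hV (n' + 1) := by rw [htdef]; exact SetLike.coe_mem _
  have key : ∀ (W : X.Opens) (hW : IsAffineOpen W) (hWO : W ≤ O') (e : Γ(L, W))
      (he : IsBasisOver L W e) (b' : Γ(X, W)),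
      M.presheaf.map (homOfLE hWO).op σ = b' • secPow e (n' + 1) →
      (u.appLE V W (hWO.trans hO'le)).hom t =
        (𝒮L.str.app (op W)).hom b' * (QA.sec jL W e) ^ (n' + 1) := by
    intro W hW hWO e he b' hσb
    have h1 := hz' W hW hWO e he b' hσb
    have hψa : (u.gradedAt V hV W hW (hWO.trans hO'le)) a =
        (𝒮L.str.app (op W)).hom b' * (QA.sec jL W e) ^ (n' + 1) := by
      show rs 𝒮L.toQCAlg (hWO.trans hO'le) ((u.app V).hom a) = _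
      rw [ha, rs_rs]
      exact h1
    have hdeg : (𝒮L.str.app (op W)).hom b' * (QA.sec jL W e) ^ (n' + 1) ∈
        𝒮L.deg W hW (n' + 1) := by
      have h2 := SetLike.mul_mem_graded (𝒮L.str_mem W hW b')
        (SetLike.pow_mem_graded (n' + 1) (hj.2 W hW e))
      have e2 : 0 + (n' + 1) • 1 = n' + 1 := by simp
      rwa [e2] at h2
    show (u.gradedAt V hV W hW (hWO.trans hO'le)) t = _
    rw [htdef, GradedRingHom.map_directSumDecompose, hψa, DirectSum.decompose_of_mem_same _ hdeg]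
  have hσ : ∀ (W : X.Opens) (hW : IsAffineOpen W) (hWO : W ≤ O') (e : Γ(L, W))
      (he : IsBasisOver L W e) (b : Γ(X, W)),
      (u.appLE V W (hWO.trans hO'le)).hom t =
        (𝒮L.str.app (op W)).hom b * (QA.sec jL W e) ^ (n' + 1) →
      M.presheaf.map (homOfLE hWO).op σ = b • secPow e (n' + 1) := by
    intro W hW hWO e he b hb
    obtain ⟨b', hb'⟩ := (he.secPow (n' + 1)).exists_coord (M.presheaf.map (homOfLE hWO).op σ)
    have h1 := key W hW hWO e he b' hb'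
    have h2 : (𝒮L.str.app (op W)).hom (b - b') * (QA.sec jL W e) ^ (n' + 1) = 0 := by
      rw [map_sub, sub_mul, ← hb, ← h1, sub_self]
    have h3 := (exists_N hj W hW e he).2 _ _ h2
    rw [hb', sub_eq_zero.mp h3]
  have hXG := XFU_eq_genOp u chart chartL hL hLq hj hP hPL r hr V hV (Nat.succ_pos n') t ht O'
    hO'le hleO' σ hσ
  refine ⟨n' + 1, Nat.succ_pos n', t, ht, ?_, ?_⟩
  · rw [hXG]
    have h1 : (⟨x, hx⟩ : ((f ⁻¹ᵁ V : X.Opens) : Scheme.{u})) ∈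
        (f ⁻¹ᵁ V).ι ⁻¹ᵁ genOp M O' σ := by
      rw [← hgl]; exact hy
    exact h1
  · rw [hXG]
    have h1 : IsAffineOpen ((f ⁻¹ᵁ V).ι ''ᵁ (CohB1.genLocus _ s)) :=
      haff.image_of_isOpenImmersion (f ⁻¹ᵁ V).ι
    rw [hgl, Scheme.Hom.image_preimage_eq_opensRange_inf] at h1
    have h2 : (f ⁻¹ᵁ V).ι.opensRange ⊓ genOp M O' σ = genOp M O' σ := by
      rw [Scheme.Opens.opensRange_ι]
      exact inf_eq_right.mpr ((genOp_le M O' σ).trans hO'le)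
    rwa [h2] at h1

end Sch2

section QSep

variable {X : Scheme.{u}}

/-- a scheme with an ample invertible module is quasi-separated. -/
theorem quasiSeparatedSpace_of_isAmple (L : X.Modules) (hL : CohB1.IsAmple L) :
    QuasiSeparatedSpace X := by
  classical
  choose n s hx haff using hL.2.2
  refine Scheme.quasiSeparatedSpace_of_isOpenCover (fun x : X => CohB1.genLocus _ (s x)) ?_ haff ?_
  · show (⨆ x : X, CohB1.genLocus _ (s x)) = ⊤
    rw [eq_top_iff]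
    intro x _
    exact Opens.mem_iSup.mpr ⟨x, hx x⟩
  · intro x y
    have hLy : PicF.IsInvertible (CohB1.tensorPow L (n y + 1)) := isInvertible_tensorPow hL.1 _
    choose W ε hW hzW hWle hε using fun z : (CohB1.genLocus _ (s x) : X.Opens) =>
      exists_affine_basis (CohB1.tensorPow L (n y + 1)) hLy z.1 (CohB1.genLocus _ (s x)) z.2
    obtain ⟨F, hF⟩ := (haff x).isCompact.elim_finite_subcover
      (fun z => ((W z : X.Opens) : Set X)) (fun z => (W z).2)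
      (fun z hz => Set.mem_iUnion.mpr ⟨⟨z, hz⟩, hzW ⟨z, hz⟩⟩)
    choose c hc using fun z => (hε z).exists_coord (SecTwist.val (s y) (W z))
    have hD : ∀ z, CohB1.genLocus _ (s y) ⊓ W z = X.basicOpen (c z) := fun z =>
      genLocus_inf_eq_basicOpen (s y) (hε z) (c z) (hc z)
    have heq : ((CohB1.genLocus _ (s x) : X.Opens) : Set X) ∩
        ((CohB1.genLocus _ (s y) : X.Opens) : Set X) =
        ⋃ z ∈ F, ((X.basicOpen (c z) : X.Opens) : Set X) := by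
      ext w
      constructor
      · rintro ⟨hwx, hwy⟩
        obtain ⟨z, hzF, hwz⟩ := Set.mem_iUnion₂.mp (hF hwx)
        have h1 : w ∈ CohB1.genLocus _ (s y) ⊓ W z := ⟨hwy, hwz⟩
        rw [hD z] at h1
        exact Set.mem_iUnion₂.mpr ⟨z, hzF, h1⟩
      · intro hw
        obtain ⟨z, hzF, hwz⟩ := Set.mem_iUnion₂.mp hw
        have h1 : w ∈ CohB1.genLocus _ (s y) ⊓ W z := by rw [hD z]; exact hwz
        exact ⟨hWle z h1.2, h1.1⟩
    rw [heq]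
    exact F.isCompact_biUnion (fun z _ => ((hW z).basicOpen (c z)).isCompact)

end QSep

section MainOI

open Groth.Agent.H4.ConeImm Groth.Agent.H4.ProjQ

variable {X Y P PL : Scheme.{u}}

theorem openImmersion_of_ample (f : X ⟶ Y) [QuasiCompact f]
    (L : X.Modules) (hL : PicF.IsInvertible L) (hLq : Coh.IsQCoh L)
    (𝒮L : RelProj.QCGrAlg X) (jL : L ⟶ 𝒮L.toModule) (hjL : RelProj.IsGrSymAlg L 𝒮L jL)
    (pL : PL ⟶ X) (chartL : ∀ (U : X.Opens) (hU : IsAffineOpen U), (((pL ⁻¹ᵁ U : PL.Opens) : Scheme.{u}) ≅ Proj (𝒮L.deg U hU)))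
    (hPL : RelProj.IsRelProj 𝒮L pL chartL)
    (𝒜 : RelProj.QCGrAlg Y) (u : RelProj.QGrHom f 𝒜 𝒮L)
    (p : P ⟶ Y) (chart : ∀ (U : Y.Opens) (hU : IsAffineOpen U), (((p ⁻¹ᵁ U : P.Opens) : Scheme.{u}) ≅ Proj (𝒜.deg U hU)))
    (hP : RelProj.IsRelProj 𝒜 p chart)
    (r : ((RelProj.domQ u pL chartL : PL.Opens) : Scheme.{u}) ⟶ P)
    (hr : RelProj.IsProjQMapOn u p chart pL chartL (RelProj.domQ u pL chartL) r)
    (𝔙 : Set Y.Opens) (h𝔙aff : ∀ V ∈ 𝔙, IsAffineOpen V) (h𝔙cov : ∀ y : Y, ∃ V ∈ 𝔙, y ∈ V)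
    (hu : ∀ V ∈ 𝔙, Function.Bijective (u.app V).hom)
    (hamp : ∀ V ∈ 𝔙, CohB1.IsAmple (L.restrict (f ⁻¹ᵁ V).ι)) :
    RelProj.domQ u pL chartL = ⊤ ∧ IsOpenImmersion r := by
  classical
  haveI : L.IsQuasicoherent := hLq
  have hex : ∀ x : X, ∃ (V : Y.Opens) (hV𝔙 : V ∈ 𝔙) (n : ℕ) (_ : 0 < n)
      (t : 𝒜.presheaf.obj (op V)) (_ : t ∈ 𝒜.deg V (h𝔙aff V hV𝔙) n),
      x ∈ XFU u V n t ∧ IsAffineOpen (XFU u V n t) := by
    intro x
    obtain ⟨V, hV𝔙, hxV⟩ := h𝔙cov (f.base x)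
    obtain ⟨n, hn, t, ht, hxt, haff⟩ := exists_affine_XFU_of_isAmple u chart chartL hL hLq hjL hP
      hPL r hr V (h𝔙aff V hV𝔙) (hu V hV𝔙).2 (hamp V hV𝔙) x hxV
    exact ⟨V, hV𝔙, n, hn, t, ht, hxt, haff⟩
  have hdom : RelProj.domQ u pL chartL = ⊤ := by
    rw [eq_top_iff]
    intro x' _
    obtain ⟨V, hV𝔙, n, hn, t, ht, hxt, -⟩ := hex (pL.base x')
    exact mem_domQ_of_mem_XFU u chart chartL hL hLq hjL hP hPL r hr V (h𝔙aff V hV𝔙) hn t ht x' hxt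
  refine ⟨hdom, ?_⟩
  let Idx := {a : Σ V : 𝔙, ℕ × 𝒜.presheaf.obj (op (V.1 : Y.Opens)) //
    0 < a.2.1 ∧ a.2.2 ∈ 𝒜.deg a.1.1 (h𝔙aff a.1.1 a.1.2) a.2.1 ∧
      IsAffineOpen (XFU u a.1.1 a.2.1 a.2.2)}
  have hcov : (⨆ a : Idx, XFU u a.1.1.1 a.1.2.1 a.1.2.2) = ⊤ := by
    rw [eq_top_iff]
    intro x _
    obtain ⟨V, hV𝔙, n, hn, t, ht, hxt, haff⟩ := hex x
    exact Opens.mem_iSup.mpr ⟨⟨⟨⟨V, hV𝔙⟩, (n, t)⟩, hn, ht, haff⟩, hxt⟩
  have hPr : ∀ a : Idx, (MorphismProperty.isomorphisms Scheme.{u}) (Spec.map (CommRingCat.ofHom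
      (HomogeneousLocalization.Away.map (u.gradedAt a.1.1.1 (h𝔙aff a.1.1.1 a.1.1.2)
        (XFU u a.1.1.1 a.1.2.1 a.1.2.2) a.2.2.2 (XFU_le u a.1.1.1 a.1.2.1 a.1.2.2)) a.1.2.2))) := by
    rintro ⟨⟨⟨V, hV𝔙⟩, n, t⟩, hn, ht, haff⟩
    have hn' : 0 < n := hn
    have ht' : t ∈ 𝒜.deg V (h𝔙aff V hV𝔙) n := ht
    have haff' : IsAffineOpen (XFU u V n t) := haff
    have hc : IsCompact ((f ⁻¹ᵁ V : X.Opens) : Set X) :=
      QuasiCompact.isCompact_preimage (f := f) _ V.isOpen (h𝔙aff V hV𝔙).isCompact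
    have hqs : IsQuasiSeparated ((f ⁻¹ᵁ V : X.Opens) : Set X) := by
      have h1 : QuasiSeparatedSpace ((f ⁻¹ᵁ V : X.Opens) : Scheme.{u}) :=
        quasiSeparatedSpace_of_isAmple _ (hamp V hV𝔙)
      exact (isQuasiSeparated_iff_quasiSeparatedSpace _ (f ⁻¹ᵁ V).isOpen).mpr h1
    have hbij := awayMap_bijective u chart chartL hL hLq hjL hP hPL r hr V (h𝔙aff V hV𝔙) hn' t ht'
      hc hqs (hu V hV𝔙) haff'
    haveI : IsIso (CommRingCat.ofHom (HomogeneousLocalization.Away.map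
        (u.gradedAt V (h𝔙aff V hV𝔙) (XFU u V n t) haff' (XFU_le u V n t)) t)) :=
      (ConcreteCategory.isIso_iff_bijective _).mpr hbij
    show IsIso (Spec.map (CommRingCat.ofHom (HomogeneousLocalization.Away.map
        (u.gradedAt V (h𝔙aff V hV𝔙) (XFU u V n t) haff' (XFU_le u V n t)) t)))
    infer_instance
  obtain ⟨O, r', hfac, hiso⟩ := exists_lift_of_family'
    (Pr := MorphismProperty.isomorphisms Scheme.{u}) u chart chartL hL hLq hjL hP hPL r hr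
    (fun a : Idx => a.1.1.1) (fun a => h𝔙aff a.1.1.1 a.1.1.2) (fun a => a.1.2.1)
    (fun a => a.1.2.2) (fun a => ⟨a.2.1, a.2.2.1⟩) hcov (fun a => a.2.2.2) hPr
  haveI : IsIso r' := hiso
  rw [← hfac]
  infer_instance

theorem isDominant_of_injective (f : X ⟶ Y) [QuasiCompact f]
    (L : X.Modules) (hL : PicF.IsInvertible L) (hLq : Coh.IsQCoh L)
    (𝒮L : RelProj.QCGrAlg X) (jL : L ⟶ 𝒮L.toModule) (hjL : RelProj.IsGrSymAlg L 𝒮L jL)
    (pL : PL ⟶ X) (chartL : ∀ (U : X.Opens) (hU : IsAffineOpen U), (((pL ⁻¹ᵁ U : PL.Opens) : Scheme.{u}) ≅ Proj (𝒮L.deg U hU)))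
    (hPL : RelProj.IsRelProj 𝒮L pL chartL)
    (𝒜 : RelProj.QCGrAlg Y) (u : RelProj.QGrHom f 𝒜 𝒮L)
    (p : P ⟶ Y) (chart : ∀ (U : Y.Opens) (hU : IsAffineOpen U), (((p ⁻¹ᵁ U : P.Opens) : Scheme.{u}) ≅ Proj (𝒜.deg U hU)))
    (hP : RelProj.IsRelProj 𝒜 p chart)
    (r : ((RelProj.domQ u pL chartL : PL.Opens) : Scheme.{u}) ⟶ P)
    (hr : RelProj.IsProjQMapOn u p chart pL chartL (RelProj.domQ u pL chartL) r)
    (hu : ∀ (U : Y.Opens), IsAffineOpen U → Function.Injective (u.app U).hom) :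
    IsDominant r := by
  classical
  rw [Groth.Agent.H4.ProjSymL5.isDominant_iff_forall_affine f L hL hLq 𝒜 𝒮L jL hjL u p chart hP pL
    chartL hPL r hr]
  intro U hU n hn s hs hloc
  have hc : IsCompact ((f ⁻¹ᵁ U : X.Opens) : Set X) :=
    QuasiCompact.isCompact_preimage (f := f) _ U.isOpen hU.isCompact
  choose W hW hWU hxW hnil using fun x : (f ⁻¹ᵁ U : X.Opens) => hloc x.1 x.2
  choose k hk using hnil
  obtain ⟨F, hF⟩ := hc.elim_finite_subcover (fun x => ((W x : X.Opens) : Set X))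
    (fun x => (W x).2) (fun y hy => Set.mem_iUnion.mpr ⟨⟨y, hy⟩, hxW ⟨y, hy⟩⟩)
  refine ⟨F.sup k, ?_⟩
  apply hu U hU
  rw [map_zero, map_pow]
  apply ring_ext 𝒮L.toQCAlg (fun i : F => W i.1) (fun i => hWU i.1)
  · intro y hy
    obtain ⟨i, hi, hyi⟩ := Set.mem_iUnion₂.mp (hF hy)
    exact Opens.mem_iSup.mpr ⟨⟨i, hi⟩, hyi⟩
  · rintro ⟨i, hi⟩
    show rs 𝒮L.toQCAlg (hWU i) (((u.app U).hom s) ^ F.sup k) = rs 𝒮L.toQCAlg (hWU i) 0
    rw [map_zero, map_pow]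
    have hle : k i ≤ F.sup k := Finset.le_sup hi
    have h1 : rs 𝒮L.toQCAlg (hWU i) ((u.app U).hom s) ^ k i = 0 := hk i
    rw [← Nat.sub_add_cancel hle, pow_add, h1, mul_zero]

end MainOI

end

end Groth.Agent.H4.AmpOpen
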