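import Mathlib
import Groth.Agent.H4.AmpOpen
import Groth.Agent.S8259

set_option autoImplicit false
set_option linter.style.haveILetI false
set_option linter.unusedSectionVars false
set_option linter.unusedVariables false

namespace Groth.Agent.H4.AmpSD

open CategoryTheory CategoryTheory.Limits AlgebraicGeometry TopologicalSpace Opposite
open HomogeneousLocalization
open Groth.Agent.LD.QC Groth.Agent.H6
open Groth.Agent.H4.ProjSymL Groth.Agent.H4.ProjSymL2 Groth.Agent.H4.ProjSymL6 Groth.Agent.H4.ProjSymL7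
open Groth.Agent.H4.AmpBridge Groth.Agent.H4.AmpOpen
open Groth.Agent.H4.ConeImm Groth.Agent.H4.ConeRetr Groth.Agent.H4.ProjQ
open scoped HomogeneousIdeal

universe u

noncomputable section

theorem appLE_eq_of_eq {Z P : Scheme.{u}} {a b : Z ⟶ P} (h : a = b) (U : P.Opens) (W : Z.Opens)
    (e₁ : W ≤ a ⁻¹ᵁ U) (e₂ : W ≤ b ⁻¹ᵁ U) : a.appLE U W e₁ = b.appLE U W e₂ := by
  subst h; rfl

section Alg

variable {Y X : Scheme.{u}} {f : X ⟶ Y}
  {𝒜 : RelProj.QCGrAlg Y} {𝒮L : RelProj.QCGrAlg X}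
  (u : RelProj.QGrHom f 𝒜 𝒮L)

theorem away_eq_zero_of_forall (V : Y.Opens) (hV : IsAffineOpen V) {n : ℕ} (hn : 0 < n)
    (t : 𝒜.presheaf.obj (op V)) (ht : t ∈ 𝒜.deg V hV n)
    (hu : Function.Injective (u.app V).hom) (hc : IsCompact ((f ⁻¹ᵁ V : X.Opens) : Set X))
    (x : Away (𝒜.deg V hV) t)
    (hx : ∀ (U' : X.Opens) (hU' : IsAffineOpen U') (hle : U' ≤ f ⁻¹ᵁ V),
      Away.map (u.gradedAt V hV U' hU' hle) t x = 0) : x = 0 := by
  classical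
  obtain ⟨m, a, ha, rfl⟩ := Away.mk_surjective (𝒜.deg V hV) ht x
  have hk : ∀ (U' : X.Opens) (hU' : IsAffineOpen U') (hle : U' ≤ f ⁻¹ᵁ V), ∃ k : ℕ,
      ((u.appLE V U' hle).hom t) ^ k * (u.appLE V U' hle).hom a = 0 := by
    intro U' hU' hle
    have h0 := hx U' hU' hle
    rw [Away.map_mk] at h0
    have h1 := congrArg HomogeneousLocalization.val h0
    rw [Away.val_mk, HomogeneousLocalization.val_zero, Localization.mk_eq_mk',
      IsLocalization.mk'_eq_zero_iff] at h1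
    obtain ⟨⟨_, k, rfl⟩, hk⟩ := h1
    exact ⟨k, hk⟩
  choose W hW hxW hWO using fun x : (f ⁻¹ᵁ V : X.Opens) =>
    exists_isAffineOpen_mem_and_subset (x := x.1) (U := f ⁻¹ᵁ V) x.2
  have hWO' : ∀ x, W x ≤ f ⁻¹ᵁ V := fun x => hWO x
  choose k hk using fun x => hk (W x) (hW x) (hWO' x)
  obtain ⟨F, hF⟩ := hc.elim_finite_subcover (fun x => ((W x : X.Opens) : Set X))
    (fun x => (W x).2) (fun y hy => Set.mem_iUnion.mpr ⟨⟨y, hy⟩, hxW ⟨y, hy⟩⟩)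
  have h2 : (u.app V).hom (t ^ F.sup k * a) = 0 := by
    apply ring_ext 𝒮L.toQCAlg (fun i : F => W i.1) (fun i => hWO' i.1)
    · intro y hy
      obtain ⟨i, hi, hyi⟩ := Set.mem_iUnion₂.mp (hF hy)
      exact Opens.mem_iSup.mpr ⟨⟨i, hi⟩, hyi⟩
    · rintro ⟨i, hi⟩
      show (u.appLE V (W i) (hWO' i)).hom (t ^ F.sup k * a) = rs 𝒮L.toQCAlg (hWO' i) 0
      rw [map_zero, map_mul, map_pow]
      have hle : k i ≤ F.sup k := Finset.le_sup hi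
      rw [← Nat.sub_add_cancel hle, pow_add, mul_assoc, hk i, mul_zero]
  have h3 : t ^ F.sup k * a = 0 := hu (h2.trans (map_zero _).symm)
  apply HomogeneousLocalization.val_injective
  rw [Away.val_mk, HomogeneousLocalization.val_zero, Localization.mk_eq_mk',
    IsLocalization.mk'_eq_zero_iff]
  exact ⟨⟨t ^ F.sup k, _, rfl⟩, h3⟩

end Alg

section SD

variable {Y X P PL : Scheme.{u}} {f : X ⟶ Y}
  {𝒜 : RelProj.QCGrAlg Y} {𝒮L : RelProj.QCGrAlg X}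
  (u : RelProj.QGrHom f 𝒜 𝒮L)
  {p : P ⟶ Y}
  (chart : ∀ (U : Y.Opens) (hU : IsAffineOpen U),
    (((p ⁻¹ᵁ U : P.Opens) : Scheme.{u}) ≅ Proj (𝒜.deg U hU)))
  {pL : PL ⟶ X}
  (chartL : ∀ (U : X.Opens) (hU : IsAffineOpen U),
    (((pL ⁻¹ᵁ U : PL.Opens) : Scheme.{u}) ≅ Proj (𝒮L.deg U hU)))
  (r : ((RelProj.domQ u pL chartL : PL.Opens) : Scheme.{u}) ⟶ P)
  (hr : RelProj.IsProjQMapOn u p chart pL chartL (RelProj.domQ u pL chartL) r)

include hr in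
/-- the comorphism of `r` is injective over the charts `D_+(t)` of `P`. -/
theorem app_injective_chart (V : Y.Opens) (hV : IsAffineOpen V) {n : ℕ} (hn : 0 < n)
    (t : 𝒜.presheaf.obj (op V)) (ht : t ∈ 𝒜.deg V hV n)
    (hu : Function.Injective (u.app V).hom) (hc : IsCompact ((f ⁻¹ᵁ V : X.Opens) : Set X))
    (j : Spec (CommRingCat.of (Away (𝒜.deg V hV) t)) ⟶ P) [IsOpenImmersion j]
    (hj : j = Proj.awayι (𝒜.deg V hV) t ht hn ≫ RelProj.emb p chart V hV)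
    (s : Γ(P, j ''ᵁ ⊤)) (hs : (r.app (j ''ᵁ ⊤)).hom s = 0) :
    s = 0 := by
  have hraq := (isProjQMapOn_iff u p chart pL chartL r).mp hr
  obtain ⟨σ, hσdef⟩ : ∃ σ : Γ(Spec (CommRingCat.of (Away (𝒜.deg V hV) t)), ⊤),
      σ = (j.appIso ⊤).hom.hom s := ⟨_, rfl⟩
  obtain ⟨σ'', hσ''def⟩ : ∃ σ'' : Away (𝒜.deg V hV) t,
      σ'' = (Scheme.ΓSpecIso (CommRingCat.of (Away (𝒜.deg V hV) t))).hom.hom σ := ⟨_, rfl⟩
  have key : ∀ (U' : X.Opens) (hU' : IsAffineOpen U') (hle : U' ≤ f ⁻¹ᵁ V),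
      Away.map (u.gradedAt V hV U' hU' hle) t σ'' = 0 := by
    intro U' hU' hle
    let φ := CommRingCat.ofHom (Away.map (u.gradedAt V hV U' hU' hle) t)
    have h0 : aq u pL chartL V hV U' hU' hle hn t ht ≫ r = Spec.map φ ≫ j := by
      rw [hraq V hV U' hU' hle n hn t ht, hj]
      rfl
    have nat := Scheme.ΓSpecIso_naturality φ
    have h1 : φ.hom σ'' = (Scheme.ΓSpecIso _).hom.hom ((Spec.map φ).appTop.hom σ) := by
      rw [hσ''def]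
      exact (congr($nat σ)).symm
    have e₁ : (⊤ : (Spec (CommRingCat.of (Away (𝒜.deg V hV) t))).Opens) ≤ j ⁻¹ᵁ (j ''ᵁ ⊤) :=
      (Scheme.Hom.preimage_image_eq j ⊤).ge
    have e₂ : (⊤ : (Spec (CommRingCat.of (Away (𝒮L.deg U' hU')
        ((u.gradedAt V hV U' hU' hle) t)))).Opens) ≤ (Spec.map φ ≫ j) ⁻¹ᵁ (j ''ᵁ ⊤) :=
      fun x _ => ⟨(Spec.map φ).base x, Set.mem_univ _, rfl⟩
    have e₃ : (⊤ : (Spec (CommRingCat.of (Away (𝒮L.deg U' hU')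
        ((u.gradedAt V hV U' hU' hle) t)))).Opens) ≤
        (aq u pL chartL V hV U' hU' hle hn t ht ≫ r) ⁻¹ᵁ (j ''ᵁ ⊤) := by
      rw [h0]; exact e₂
    have h2 : (Spec.map φ).appTop.hom σ = ((Spec.map φ ≫ j).appLE (j ''ᵁ ⊤) ⊤ e₂).hom s := by
      have h3 := Scheme.Hom.appLE_comp_appLE (Spec.map φ) j (j ''ᵁ ⊤) ⊤ ⊤ e₁ le_top
      have h4 : (Spec.map φ).appLE ⊤ ⊤ le_top = (Spec.map φ).appTop :=
        Scheme.Hom.appLE_eq_app (f := Spec.map φ) (U := ⊤)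
      rw [h4, ← Scheme.Hom.appIso_hom' j ⊤] at h3
      rw [hσdef]
      exact congr($h3 s)
    have h7 : (aq u pL chartL V hV U' hU' hle hn t ht ≫ r).appLE (j ''ᵁ ⊤) ⊤ e₃ =
        r.app (j ''ᵁ ⊤) ≫ (aq u pL chartL V hV U' hU' hle hn t ht).appLE (r ⁻¹ᵁ (j ''ᵁ ⊤)) ⊤ e₃ :=
      Scheme.Hom.comp_appLE _ _ _ _ _
    have h8 : ((aq u pL chartL V hV U' hU' hle hn t ht ≫ r).appLE (j ''ᵁ ⊤) ⊤ e₃).hom s = 0 := by
      rw [h7]
      exact (congrArg (fun z => ((aq u pL chartL V hV U' hU' hle hn t ht).appLE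
        (r ⁻¹ᵁ (j ''ᵁ ⊤)) ⊤ e₃).hom z) hs).trans (map_zero _)
    have h5 : ((Spec.map φ ≫ j).appLE (j ''ᵁ ⊤) ⊤ e₂).hom s = 0 := by
      rw [← appLE_eq_of_eq h0 (j ''ᵁ ⊤) ⊤ e₃ e₂]
      exact h8
    exact h1.trans ((congrArg (fun z => (Scheme.ΓSpecIso _).hom.hom z) (h2.trans h5)).trans
      (map_zero _))
  have hσ'' : σ'' = 0 := away_eq_zero_of_forall u V hV hn t ht hu hc σ'' key
  have hσ : σ = 0 := by
    have hinj : Function.Injective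
        (Scheme.ΓSpecIso (CommRingCat.of (Away (𝒜.deg V hV) t))).hom.hom :=
      (ConcreteCategory.bijective_of_isIso _).1
    rw [hσ''def] at hσ''
    exact hinj (hσ''.trans (map_zero _).symm)
  have hinj2 : Function.Injective (j.appIso ⊤).hom.hom :=
    (ConcreteCategory.bijective_of_isIso _).1
  rw [hσdef] at hσ
  exact hinj2 (hσ.trans (map_zero _).symm)

end SD

section SD2

variable {X Y P PL : Scheme.{u}}

theorem isSchemeTheoreticallyDominant_of_injective (f : X ⟶ Y) [QuasiCompact f]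
    (𝒮L : RelProj.QCGrAlg X)
    (pL : PL ⟶ X) (chartL : ∀ (U : X.Opens) (hU : IsAffineOpen U), (((pL ⁻¹ᵁ U : PL.Opens) : Scheme.{u}) ≅ Proj (𝒮L.deg U hU)))
    (𝒜 : RelProj.QCGrAlg Y) (u : RelProj.QGrHom f 𝒜 𝒮L)
    (p : P ⟶ Y) (chart : ∀ (U : Y.Opens) (hU : IsAffineOpen U), (((p ⁻¹ᵁ U : P.Opens) : Scheme.{u}) ≅ Proj (𝒜.deg U hU)))
    (r : ((RelProj.domQ u pL chartL : PL.Opens) : Scheme.{u}) ⟶ P)
    (hr : RelProj.IsProjQMapOn u p chart pL chartL (RelProj.domQ u pL chartL) r)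
    [QuasiCompact r]
    (𝔙 : Set Y.Opens) (h𝔙aff : ∀ V ∈ 𝔙, IsAffineOpen V) (h𝔙cov : ∀ y : Y, ∃ V ∈ 𝔙, y ∈ V)
    (hu : ∀ V ∈ 𝔙, Function.Injective (u.app V).hom) :
    IsSchemeTheoreticallyDominant r := by
  constructor
  let Idx := {a : Σ V : 𝔙, ℕ × 𝒜.presheaf.obj (op (V.1 : Y.Opens)) //
    0 < a.2.1 ∧ a.2.2 ∈ 𝒜.deg a.1.1 (h𝔙aff a.1.1 a.1.2) a.2.1}
  let j : ∀ a : Idx, Spec (CommRingCat.of (Away (𝒜.deg a.1.1.1 (h𝔙aff a.1.1.1 a.1.1.2)) a.1.2.2)) ⟶ P :=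
    fun a => Proj.awayι (𝒜.deg a.1.1.1 (h𝔙aff a.1.1.1 a.1.1.2)) a.1.2.2 a.2.2 a.2.1 ≫
      RelProj.emb p chart a.1.1.1 (h𝔙aff a.1.1.1 a.1.1.2)
  haveI hjo : ∀ a, IsOpenImmersion (j a) := fun a => by
    show IsOpenImmersion (Proj.awayι _ _ _ _ ≫ RelProj.emb p chart _ _)
    infer_instance
  have haff : ∀ a : Idx, IsAffineOpen (j a ''ᵁ ⊤) := fun a =>
    (isAffineOpen_top _).image_of_isOpenImmersion (j a)
  refine Scheme.IdealSheafData.ext_of_iSup_eq_top (fun a : Idx => ⟨j a ''ᵁ ⊤, haff a⟩) ?_ ?_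
  · rw [eq_top_iff]
    intro z _
    obtain ⟨V, hV𝔙, hzV⟩ := h𝔙cov (p.base z)
    obtain ⟨w, hw⟩ := exists_emb p chart z V (h𝔙aff V hV𝔙) hzV
    obtain ⟨d, hd, g, hg, hwg⟩ := exists_homog_basicOpen (𝒜.deg V (h𝔙aff V hV𝔙)) w
    obtain ⟨v, hv⟩ := exists_awayι_eq (𝒜.deg V (h𝔙aff V hV𝔙)) hd g hg w hwg
    refine Opens.mem_iSup.mpr ⟨⟨⟨⟨V, hV𝔙⟩, (d, g)⟩, hd, hg⟩, v, Set.mem_univ _, ?_⟩
    show (RelProj.emb p chart V (h𝔙aff V hV𝔙)).base
      ((Proj.awayι (𝒜.deg V (h𝔙aff V hV𝔙)) g hg hd).base v) = z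
    rw [hv, hw]
  · intro a
    show r.ker.ideal ⟨j a ''ᵁ ⊤, haff a⟩ =
      (⊥ : Scheme.IdealSheafData P).ideal ⟨j a ''ᵁ ⊤, haff a⟩
    refine (Scheme.Hom.ker_apply r ⟨j a ''ᵁ ⊤, haff a⟩).trans ?_
    show RingHom.ker (r.app (j a ''ᵁ ⊤)).hom = ⊥
    rw [eq_bot_iff]
    intro s hs
    rw [Ideal.mem_bot]
    have hc : IsCompact ((f ⁻¹ᵁ a.1.1.1 : X.Opens) : Set X) :=
      QuasiCompact.isCompact_preimage (f := f) _ a.1.1.1.isOpen
        (h𝔙aff a.1.1.1 a.1.1.2).isCompact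
    exact app_injective_chart u chart chartL r hr a.1.1.1 (h𝔙aff a.1.1.1 a.1.1.2) a.2.1 a.1.2.2
      a.2.2 (hu a.1.1.1 a.1.1.2) hc (j a) rfl s (RingHom.mem_ker.mp hs)

theorem isAmple_restrict_of_opensRange_eq_top {Z : Scheme.{u}} (j : Z ⟶ X) [IsOpenImmersion j]
    (hj : j.opensRange = ⊤) (L : X.Modules) (hL : CohB1.IsAmple L) :
    CohB1.IsAmple (L.restrict j) := by
  haveI := hL.2.1
  have hcpt : CompactSpace Z := by
    rw [← isCompact_univ_iff, j.isOpenEmbedding.isInducing.isCompact_iff, Set.image_univ]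
    have h1 : Set.range j.base = Set.univ := by
      have h2 := congrArg (fun O : X.Opens => (O : Set X)) hj
      exact h2
    rw [h1]
    exact isCompact_univ
  refine ⟨isInvertible_restrict j hL.1, hcpt, fun y => ?_⟩
  obtain ⟨n, s, h1, h3⟩ := hL.2.2 (j.base y)
  refine ⟨n, resSec j s ≫ (restrictTensorPowIso j L (n + 1)).symm.hom, ?_, ?_⟩
  · rw [genLocus_comp_iso (resSec j s) (restrictTensorPowIso j L (n + 1)).symm, genLocus_resSec]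
    exact h1
  · rw [genLocus_comp_iso (resSec j s) (restrictTensorPowIso j L (n + 1)).symm, genLocus_resSec]
    rw [← Scheme.Hom.isAffineOpen_iff_of_isOpenImmersion j,
      Scheme.Hom.image_preimage_eq_opensRange_inf, hj, top_inf_eq]
    exact h3

end SD2

section MainAbs

variable {X Y P PL : Scheme.{u}}

theorem main_S12683 [CompactSpace X]
    (f : X ⟶ Y) [QuasiCompact f] (hY : IsAffineOpen (⊤ : Y.Opens))
    (L : X.Modules) (hL : PicF.IsInvertible L) (hLq : Coh.IsQCoh L)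
    (𝒮L : RelProj.QCGrAlg X) (jL : L ⟶ 𝒮L.toModule) (hjL : RelProj.IsGrSymAlg L 𝒮L jL)
    (pL : PL ⟶ X) (chartL : ∀ (U : X.Opens) (hU : IsAffineOpen U), (((pL ⁻¹ᵁ U : PL.Opens) : Scheme.{u}) ≅ Proj (𝒮L.deg U hU)))
    (hPL : RelProj.IsRelProj 𝒮L pL chartL)
    (hLa : CohB1.IsAmple L)
    (𝒜 : RelProj.QCGrAlg Y) (u : RelProj.QGrHom f 𝒜 𝒮L)
    (p : P ⟶ Y) (chart : ∀ (U : Y.Opens) (hU : IsAffineOpen U), (((p ⁻¹ᵁ U : P.Opens) : Scheme.{u}) ≅ Proj (𝒜.deg U hU)))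
    (hP : RelProj.IsRelProj 𝒜 p chart)
    (r : ((RelProj.domQ u pL chartL : PL.Opens) : Scheme.{u}) ⟶ P)
    (hr : RelProj.IsProjQMapOn u p chart pL chartL (RelProj.domQ u pL chartL) r)
    (hu : Function.Bijective (u.app ⊤).hom) :
    RelProj.domQ u pL chartL = ⊤ ∧ IsOpenImmersion r ∧ QuasiCompact r ∧
      IsSchemeTheoreticallyDominant r := by
  have h𝔙aff : ∀ V ∈ ({⊤} : Set Y.Opens), IsAffineOpen V := by
    intro V hV
    rw [Set.mem_singleton_iff.mp hV]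
    exact hY
  have h𝔙cov : ∀ y : Y, ∃ V ∈ ({⊤} : Set Y.Opens), y ∈ V := fun y => ⟨⊤, rfl, trivial⟩
  have hu' : ∀ V ∈ ({⊤} : Set Y.Opens), Function.Bijective (u.app V).hom := by
    intro V hV
    obtain rfl := Set.mem_singleton_iff.mp hV
    exact hu
  have hamp : ∀ V ∈ ({⊤} : Set Y.Opens), CohB1.IsAmple (L.restrict (f ⁻¹ᵁ V).ι) := by
    intro V hV
    obtain rfl := Set.mem_singleton_iff.mp hV
    refine isAmple_restrict_of_opensRange_eq_top (f ⁻¹ᵁ ⊤).ι ?_ L hLa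
    rw [Scheme.Opens.opensRange_ι]
    rfl
  obtain ⟨hdom, himm⟩ := openImmersion_of_ample f L hL hLq 𝒮L jL hjL pL chartL hPL 𝒜 u p chart hP
    r hr {⊤} h𝔙aff h𝔙cov hu' hamp
  haveI hι : IsIso (RelProj.domQ u pL chartL).ι := isIso_ι_of_eq_top _ hdom
  haveI : IsIso pL := main_S12143 L hL hLq 𝒮L jL hjL pL chartL hPL
  haveI : CompactSpace PL := pL.homeomorph.symm.compactSpace
  haveI : CompactSpace ((RelProj.domQ u pL chartL : PL.Opens) : Scheme.{u}) :=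
    (RelProj.domQ u pL chartL).ι.homeomorph.symm.compactSpace
  haveI : IsSeparated p := Groth.Agent.S8259.result 𝒜 p chart hP
  haveI : QuasiSeparatedSpace Y := by
    rw [← isQuasiSeparated_univ_iff]
    exact hY.isQuasiSeparated
  haveI : QuasiSeparatedSpace P := quasiSeparatedSpace_of_quasiSeparated p
  haveI hqc : QuasiCompact r := inferInstance
  exact ⟨hdom, himm, hqc, isSchemeTheoreticallyDominant_of_injective f 𝒮L pL chartL 𝒜 u p chart r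
    hr {⊤} h𝔙aff h𝔙cov (fun V hV => (hu' V hV).1)⟩

end MainAbs

end

end Groth.Agent.H4.AmpSD
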