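import Mathlib

set_option autoImplicit false
set_option linter.unusedSectionVars false
set_option linter.unusedVariables false
set_option linter.style.haveILetI false
universe u

open CategoryTheory CategoryTheory.Limits Polynomial

namespace Groth.Agent.H4.GrCo
noncomputable section

/-! ## gradings from coactions `ρ : A → A[X]` -/

section Coaction
variable {A : Type u} [CommRing A] (ρ : A →+* A[X])

/-- the degree `d` part attached to a coaction -/
def cdeg (d : ℕ) : AddSubgroup A where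
  carrier := {z | ρ z = monomial d z}
  zero_mem' := by simp
  add_mem' := by
    intro a b ha hb
    simp only [Set.mem_setOf_eq] at *
    rw [map_add, ha, hb, map_add]
  neg_mem' := by
    intro a ha
    simp only [Set.mem_setOf_eq] at *
    rw [map_neg, ha, map_neg]

lemma mem_cdeg {d : ℕ} {z : A} : z ∈ cdeg ρ d ↔ ρ z = monomial d z := Iff.rfl

structure IsCoaction : Prop where
  counit : ∀ z, (ρ z).eval 1 = z
  coassoc : ∀ z d, ρ ((ρ z).coeff d) = monomial d ((ρ z).coeff d)

variable {ρ}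

instance cdeg_gradedMonoid : SetLike.GradedMonoid (cdeg ρ) where
  one_mem := (mem_cdeg ρ).mpr (by rw [map_one, monomial_zero_one])
  mul_mem := by
    intro i j a b ha hb
    refine (mem_cdeg ρ).mpr ?_
    rw [map_mul, (mem_cdeg ρ).mp ha, (mem_cdeg ρ).mp hb, monomial_mul_monomial]

/-- the `d`-th component -/
def ccomp (h : IsCoaction ρ) (d : ℕ) : A →+ cdeg ρ d where
  toFun z := ⟨(ρ z).coeff d, h.coassoc z d⟩
  map_zero' := Subtype.ext (by simp)
  map_add' a b := Subtype.ext (by simp)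

lemma ccomp_coe (h : IsCoaction ρ) (d : ℕ) (z : A) : (ccomp h d z : A) = (ρ z).coeff d := rfl

lemma ccomp_of_mem (h : IsCoaction ρ) {d e : ℕ} {z : A} (hz : z ∈ cdeg ρ d) :
    (ccomp h e z : A) = if d = e then z else 0 := by
  rw [ccomp_coe, (mem_cdeg ρ).mp hz, coeff_monomial]

lemma sum_coeff_eq (h : IsCoaction ρ) (z : A) :
    ∑ d ∈ (ρ z).support, (ρ z).coeff d = z := by
  have h1 := h.counit z
  rw [eval_eq_sum, Polynomial.sum_def] at h1
  simpa using h1

lemma ccomp_coeAddMonoidHom (h : IsCoaction ρ) (e : ℕ) (v : DirectSum ℕ fun d => cdeg ρ d) :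
    ccomp h e (DirectSum.coeAddMonoidHom (cdeg ρ) v) = v e := by
  induction v using DirectSum.induction_on with
  | zero => simp
  | of d y =>
    apply Subtype.ext
    rw [DirectSum.coeAddMonoidHom_of, ccomp_of_mem h y.2]
    by_cases hde : d = e
    · subst hde
      rw [if_pos rfl, DirectSum.of_eq_same]
    · rw [if_neg hde, DirectSum.of_eq_of_ne _ _ _ (Ne.symm hde)]
      rfl
  | add x y hx hy => rw [map_add, map_add, hx, hy, DirectSum.add_apply]

theorem isInternal (h : IsCoaction ρ) : DirectSum.IsInternal (cdeg ρ) := by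
  constructor
  · intro v w hvw
    apply DFinsupp.ext
    intro e
    rw [← ccomp_coeAddMonoidHom h e v, ← ccomp_coeAddMonoidHom h e w, hvw]
  · intro z
    refine ⟨∑ d ∈ (ρ z).support, DirectSum.of (fun d => cdeg ρ d) d (ccomp h d z), ?_⟩
    rw [map_sum]
    simp only [DirectSum.coeAddMonoidHom_of, ccomp_coe]
    exact sum_coeff_eq h z

/-- the graded ring structure attached to a coaction -/
@[instance_reducible]
def gradedRing (h : IsCoaction ρ) : GradedRing (cdeg ρ) :=
  letI : DirectSum.Decomposition (cdeg ρ) := (isInternal h).chooseDecomposition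
  { (inferInstance : SetLike.GradedMonoid (cdeg ρ)) with
    toDecomposition := (isInternal h).chooseDecomposition }

end Coaction

/-! ## the coaction of a graded ring -/

section GrCoact
variable {A : Type u} [CommRing A] (𝒜 : ℕ → AddSubgroup A) [GradedRing 𝒜]

/-- the coaction `a ↦ ∑ a_d X^d` of an `ℕ`-graded ring -/
def coact : A →+* A[X] :=
  (DirectSum.toSemiring
    (fun d => ((monomial d : A →ₗ[A] A[X]).toAddMonoidHom).comp (𝒜 d).subtype)
    (by
      change monomial 0 (1 : A) = 1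
      exact monomial_zero_one)
    (by
      intro i j ai aj
      change monomial (i + j) ((ai : A) * (aj : A)) = monomial i (ai : A) * monomial j (aj : A)
      rw [monomial_mul_monomial])).comp
    (DirectSum.decomposeRingEquiv 𝒜).toRingHom

lemma coact_of_mem {d : ℕ} {a : A} (ha : a ∈ 𝒜 d) : coact 𝒜 a = monomial d a := by
  unfold coact
  rw [RingHom.comp_apply]
  have h1 : (DirectSum.decomposeRingEquiv 𝒜).toRingHom a = DirectSum.of _ d ⟨a, ha⟩ :=
    DirectSum.decompose_of_mem 𝒜 ha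
  rw [h1, DirectSum.toSemiring_of]
  rfl

lemma coeff_coact (a : A) (d : ℕ) : (coact 𝒜 a).coeff d = (DirectSum.decompose 𝒜 a d : A) := by
  induction a using DirectSum.Decomposition.inductionOn 𝒜 with
  | zero => simp
  | homogeneous x =>
    rename_i i
    rw [coact_of_mem 𝒜 x.2, coeff_monomial, DirectSum.decompose_coe]
    by_cases h : i = d
    · subst h
      rw [if_pos rfl, DirectSum.of_eq_same]
    · rw [if_neg h, DirectSum.of_eq_of_ne _ _ _ (Ne.symm h)]
      rfl
  | add x y hx hy => rw [map_add, coeff_add, hx, hy, DirectSum.decompose_add, DirectSum.add_apply]; rfl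

lemma eval_one_coact (a : A) : (coact 𝒜 a).eval 1 = a := by
  induction a using DirectSum.Decomposition.inductionOn 𝒜 with
  | zero => simp
  | homogeneous x => rw [coact_of_mem 𝒜 x.2, eval_monomial, one_pow, mul_one]
  | add x y hx hy => rw [map_add, eval_add, hx, hy]

theorem isCoaction_coact : IsCoaction (coact 𝒜) where
  counit := eval_one_coact 𝒜
  coassoc z d := by
    rw [coeff_coact]
    exact coact_of_mem 𝒜 (SetLike.coe_mem _)

lemma cdeg_coact (d : ℕ) : cdeg (coact 𝒜) d = 𝒜 d := by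
  ext a
  constructor
  · intro ha
    have h1 := congrArg (fun p => p.coeff d) ((mem_cdeg _).mp ha)
    simp only [coeff_monomial, if_true] at h1
    rw [coeff_coact] at h1
    rw [← h1]
    exact SetLike.coe_mem _
  · intro ha
    exact (mem_cdeg _).mpr (coact_of_mem 𝒜 ha)

variable {B : Type u} [CommRing B] (ℬ : ℕ → AddSubgroup B) [GradedRing ℬ]

lemma coact_natural (ψ : A →+* B) (hψ : ∀ d a, a ∈ 𝒜 d → ψ a ∈ ℬ d) (a : A) :
    (coact 𝒜 a).map ψ = coact ℬ (ψ a) := by
  induction a using DirectSum.Decomposition.inductionOn 𝒜 with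
  | zero => simp
  | homogeneous x =>
    rename_i i
    rw [coact_of_mem 𝒜 x.2, coact_of_mem ℬ (hψ i _ x.2), map_monomial]
  | add x y hx hy => rw [map_add, Polynomial.map_add, hx, hy, map_add, map_add]

end GrCoact

/-! ## pushouts of commutative rings -/

section Pushout
variable {R A B A' : CommRingCat.{u}} {f : R ⟶ A} {g : R ⟶ B} {inl : A ⟶ A'} {inr : B ⟶ A'}
  (h : IsPushout f g inl inr)
include h

theorem pushout_subring_eq_top (T : Subring A') (hl : ∀ a, inl.hom a ∈ T)
    (hr : ∀ b, inr.hom b ∈ T) : T = ⊤ := by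
  let lA : A ⟶ CommRingCat.of T := CommRingCat.ofHom (inl.hom.codRestrict T hl)
  let lB : B ⟶ CommRingCat.of T := CommRingCat.ofHom (inr.hom.codRestrict T hr)
  have hw : f ≫ lA = g ≫ lB := by
    ext r
    exact congr($(h.w) r)
  let s : A' ⟶ CommRingCat.of T := h.desc lA lB hw
  have hs : s ≫ CommRingCat.ofHom T.subtype = 𝟙 A' := by
    apply h.hom_ext
    · rw [← Category.assoc, h.inl_desc, Category.comp_id]
      rfl
    · rw [← Category.assoc, h.inr_desc, Category.comp_id]
      rfl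
  rw [eq_top_iff]
  intro z _
  have h1 : (T.subtype (s.hom z) : A') = z := congr($hs z)
  rw [← h1]
  exact (s.hom z).2

theorem pushout_ringHom_ext {T : Type u} [CommRing T] (φ ψ : A' →+* T)
    (hl : ∀ a, φ (inl.hom a) = ψ (inl.hom a)) (hr : ∀ b, φ (inr.hom b) = ψ (inr.hom b)) :
    φ = ψ := by
  have h1 : CommRingCat.ofHom φ = CommRingCat.ofHom ψ := by
    apply h.hom_ext
    · ext a; exact hl a
    · ext b; exact hr b
  exact congrArg (fun t => t.hom) h1

variable (𝒜 : ℕ → AddSubgroup A) [GradedRing 𝒜] (hstr : ∀ r, f.hom r ∈ 𝒜 0)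
include hstr

/-- the coaction on the pushout induced from the graded ring `A` -/
def pco : A' →+* (A' : Type u)[X] :=
  (h.desc (W := CommRingCat.of ((A' : Type u)[X]))
    (CommRingCat.ofHom ((mapRingHom inl.hom).comp (coact 𝒜)))
    (CommRingCat.ofHom (C.comp inr.hom))
    (by
      apply CommRingCat.hom_ext
      apply RingHom.ext
      intro r
      show ((coact 𝒜 (f.hom r)).map inl.hom) = C (inr.hom (g.hom r))
      rw [coact_of_mem 𝒜 (hstr r), map_monomial, monomial_zero_left]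
      congr 1
      exact congr($(h.w) r))).hom

lemma pco_inl (a : A) : pco h 𝒜 hstr (inl.hom a) = (coact 𝒜 a).map inl.hom :=
  congr($(h.inl_desc (W := CommRingCat.of ((A' : Type u)[X]))
    (CommRingCat.ofHom ((mapRingHom inl.hom).comp (coact 𝒜)))
    (CommRingCat.ofHom (C.comp inr.hom)) _) a)

lemma pco_inr (b : B) : pco h 𝒜 hstr (inr.hom b) = C (inr.hom b) :=
  congr($(h.inr_desc (W := CommRingCat.of ((A' : Type u)[X]))
    (CommRingCat.ofHom ((mapRingHom inl.hom).comp (coact 𝒜)))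
    (CommRingCat.ofHom (C.comp inr.hom)) _) b)

lemma pco_inl_of_mem {d : ℕ} {a : A} (ha : a ∈ 𝒜 d) :
    pco h 𝒜 hstr (inl.hom a) = monomial d (inl.hom a) := by
  rw [pco_inl, coact_of_mem 𝒜 ha, map_monomial]

lemma coassoc_of_homog {n : ℕ} {z : A'} (hz : pco h 𝒜 hstr z = monomial n z) (d : ℕ) :
    pco h 𝒜 hstr ((pco h 𝒜 hstr z).coeff d) = monomial d ((pco h 𝒜 hstr z).coeff d) := by
  rw [hz, coeff_monomial]
  by_cases hnd : n = d
  · subst hnd
    rw [if_pos rfl, hz]
  · rw [if_neg hnd, map_zero, map_zero]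

/-- the subring of elements satisfying coassociativity -/
def coassocSubring : Subring A' where
  carrier := {z | ∀ d, pco h 𝒜 hstr ((pco h 𝒜 hstr z).coeff d) =
    monomial d ((pco h 𝒜 hstr z).coeff d)}
  one_mem' := by
    intro d
    refine coassoc_of_homog h 𝒜 hstr (n := 0) ?_ d
    rw [map_one, monomial_zero_one]
  zero_mem' := by
    intro d
    simp
  add_mem' := by
    intro a b ha hb d
    rw [map_add, coeff_add, map_add, ha d, hb d, map_add]
  neg_mem' := by
    intro a ha d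
    rw [map_neg, coeff_neg, map_neg, ha d, map_neg]
  mul_mem' := by
    intro a b ha hb d
    rw [map_mul, coeff_mul, map_sum, map_sum]
    refine Finset.sum_congr rfl ?_
    intro ij hij
    have hd : ij.1 + ij.2 = d := Finset.HasAntidiagonal.mem_antidiagonal.mp hij
    rw [map_mul, ha ij.1, hb ij.2, monomial_mul_monomial, hd]

theorem isCoaction_pco : IsCoaction (pco h 𝒜 hstr) where
  counit := by
    have h1 : (evalRingHom (1 : A')).comp (pco h 𝒜 hstr) = RingHom.id A' := by
      apply pushout_ringHom_ext h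
      · intro a
        show ((pco h 𝒜 hstr) (inl.hom a)).eval 1 = inl.hom a
        rw [pco_inl, eval_one_map, eval_one_coact]
      · intro b
        show ((pco h 𝒜 hstr) (inr.hom b)).eval 1 = inr.hom b
        rw [pco_inr, eval_C]
    intro z
    exact congr($h1 z)
  coassoc := by
    have h1 : coassocSubring h 𝒜 hstr = ⊤ := by
      apply pushout_subring_eq_top h
      · intro a
        induction a using DirectSum.Decomposition.inductionOn 𝒜 with
        | zero => rw [map_zero]; exact Subring.zero_mem _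
        | homogeneous x =>
          intro d
          exact coassoc_of_homog h 𝒜 hstr (pco_inl_of_mem h 𝒜 hstr x.2) d
        | add x y hx hy => rw [map_add]; exact Subring.add_mem _ hx hy
      · intro b d
        refine coassoc_of_homog h 𝒜 hstr (n := 0) ?_ d
        rw [pco_inr, monomial_zero_left]
    intro z d
    have : z ∈ coassocSubring h 𝒜 hstr := h1 ▸ Subring.mem_top z
    exact this d

end Pushout

section PushoutNat
variable {R₁ A₁ B₁ A₁' R₂ A₂ B₂ A₂' : CommRingCat.{u}}
  {f₁ : R₁ ⟶ A₁} {g₁ : R₁ ⟶ B₁} {inl₁ : A₁ ⟶ A₁'} {inr₁ : B₁ ⟶ A₁'}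
  {f₂ : R₂ ⟶ A₂} {g₂ : R₂ ⟶ B₂} {inl₂ : A₂ ⟶ A₂'} {inr₂ : B₂ ⟶ A₂'}
  (h₁ : IsPushout f₁ g₁ inl₁ inr₁) (h₂ : IsPushout f₂ g₂ inl₂ inr₂)
  (𝒜₁ : ℕ → AddSubgroup A₁) [GradedRing 𝒜₁] (hstr₁ : ∀ r, f₁.hom r ∈ 𝒜₁ 0)
  (𝒜₂ : ℕ → AddSubgroup A₂) [GradedRing 𝒜₂] (hstr₂ : ∀ r, f₂.hom r ∈ 𝒜₂ 0)

theorem pco_natural (α : A₁ →+* A₂) (hα : ∀ d a, a ∈ 𝒜₁ d → α a ∈ 𝒜₂ d) (β : B₁ →+* B₂)
    (γ : A₁' →+* A₂') (hl : ∀ a, γ (inl₁.hom a) = inl₂.hom (α a))
    (hr : ∀ b, γ (inr₁.hom b) = inr₂.hom (β b)) (z : A₁') :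
    (pco h₁ 𝒜₁ hstr₁ z).map γ = pco h₂ 𝒜₂ hstr₂ (γ z) := by
  have h : (mapRingHom γ).comp (pco h₁ 𝒜₁ hstr₁) = (pco h₂ 𝒜₂ hstr₂).comp γ := by
    apply pushout_ringHom_ext h₁
    · intro a
      show ((pco h₁ 𝒜₁ hstr₁) (inl₁.hom a)).map γ = pco h₂ 𝒜₂ hstr₂ (γ (inl₁.hom a))
      rw [hl, pco_inl, pco_inl, Polynomial.map_map, ← coact_natural 𝒜₁ 𝒜₂ α hα, Polynomial.map_map]
      congr 1
      ext a'
      exact hl a'
    · intro b
      show ((pco h₁ 𝒜₁ hstr₁) (inr₁.hom b)).map γ = pco h₂ 𝒜₂ hstr₂ (γ (inr₁.hom b))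
      rw [hr, pco_inr, pco_inr, Polynomial.map_C, hr]
  exact congr($h z)

end PushoutNat

section PushoutGen
variable {R A B A' : CommRingCat.{u}} {f : R ⟶ A} {g : R ⟶ B} {inl : A ⟶ A'} {inr : B ⟶ A'}
  (h : IsPushout f g inl inr) (𝒜 : ℕ → AddSubgroup A) [GradedRing 𝒜] (hstr : ∀ r, f.hom r ∈ 𝒜 0)

theorem inr_mem_cdeg (b : B) : inr.hom b ∈ cdeg (pco h 𝒜 hstr) 0 :=
  (mem_cdeg _).mpr (by rw [pco_inr, monomial_zero_left])

theorem inl_mem_cdeg {d : ℕ} {a : A} (ha : a ∈ 𝒜 d) : inl.hom a ∈ cdeg (pco h 𝒜 hstr) d :=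
  (mem_cdeg _).mpr (pco_inl_of_mem h 𝒜 hstr ha)

theorem closure_cdeg_eq_top
    (hgen : Subring.closure ((𝒜 0 : Set A) ∪ (𝒜 1 : Set A)) = ⊤) :
    Subring.closure ((cdeg (pco h 𝒜 hstr) 0 : Set A') ∪ (cdeg (pco h 𝒜 hstr) 1 : Set A')) = ⊤ := by
  apply pushout_subring_eq_top h
  · intro a
    have ha : a ∈ Subring.closure ((𝒜 0 : Set A) ∪ (𝒜 1 : Set A)) := hgen ▸ Subring.mem_top a
    induction ha using Subring.closure_induction with
    | mem x hx =>
      apply Subring.subset_closure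
      rcases hx with hx | hx
      · exact Or.inl (inl_mem_cdeg h 𝒜 hstr hx)
      · exact Or.inr (inl_mem_cdeg h 𝒜 hstr hx)
    | zero => rw [map_zero]; exact Subring.zero_mem _
    | one => rw [map_one]; exact Subring.one_mem _
    | add x y _ _ hx hy => rw [map_add]; exact Subring.add_mem _ hx hy
    | neg x _ hx => rw [map_neg]; exact Subring.neg_mem _ hx
    | mul x y _ _ hx hy => rw [map_mul]; exact Subring.mul_mem _ hx hy
  · intro b
    exact Subring.subset_closure (Or.inl (inr_mem_cdeg h 𝒜 hstr b))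

end PushoutGen

section PushoutSpan
variable {R A B A' : CommRingCat.{u}} {f : R ⟶ A} {g : R ⟶ B} {inl : A ⟶ A'} {inr : B ⟶ A'}
  (h : IsPushout f g inl inr) (𝒜 : ℕ → AddSubgroup A) [GradedRing 𝒜] (hstr : ∀ r, f.hom r ∈ 𝒜 0)

/-- the additive span of the products `inr b * inl a`, `a` of degree `d` -/
def spanDeg (inl : A ⟶ A') (inr : B ⟶ A') (𝒜 : ℕ → AddSubgroup A) (d : ℕ) : AddSubgroup A' :=
  AddSubgroup.closure {z | ∃ (b : B) (a : A), a ∈ 𝒜 d ∧ z = inr.hom b * inl.hom a}

omit [GradedRing 𝒜] in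
lemma mul_mem_spanDeg [SetLike.GradedMonoid 𝒜] {i j : ℕ} {x y : A'} (hx : x ∈ spanDeg inl inr 𝒜 i)
    (hy : y ∈ spanDeg inl inr 𝒜 j) : x * y ∈ spanDeg inl inr 𝒜 (i + j) := by
  induction hx using AddSubgroup.closure_induction with
  | mem x hx =>
    obtain ⟨b, a, ha, rfl⟩ := hx
    induction hy using AddSubgroup.closure_induction with
    | mem y hy =>
      obtain ⟨b', a', ha', rfl⟩ := hy
      apply AddSubgroup.subset_closure
      refine ⟨b * b', a * a', SetLike.mul_mem_graded ha ha', ?_⟩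
      rw [map_mul, map_mul]; ring
    | zero => rw [mul_zero]; exact AddSubgroup.zero_mem _
    | add y z _ _ hy hz => rw [mul_add]; exact AddSubgroup.add_mem _ hy hz
    | neg y _ hy => rw [mul_neg]; exact AddSubgroup.neg_mem _ hy
  | zero => rw [zero_mul]; exact AddSubgroup.zero_mem _
  | add x z _ _ hx hz => rw [add_mul]; exact AddSubgroup.add_mem _ hx hz
  | neg x _ hx => rw [neg_mul]; exact AddSubgroup.neg_mem _ hx

lemma coeff_mem_of_homog {n : ℕ} {z : A'} (hz : pco h 𝒜 hstr z = monomial n z)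
    (hzn : z ∈ spanDeg inl inr 𝒜 n) (d : ℕ) : (pco h 𝒜 hstr z).coeff d ∈ spanDeg inl inr 𝒜 d := by
  rw [hz, coeff_monomial]
  by_cases hnd : n = d
  · subst hnd; rw [if_pos rfl]; exact hzn
  · rw [if_neg hnd]; exact AddSubgroup.zero_mem _

/-- the subring of elements all of whose components lie in the spans -/
def spanSubring : Subring A' where
  carrier := {z | ∀ d, (pco h 𝒜 hstr z).coeff d ∈ spanDeg inl inr 𝒜 d}
  one_mem' := by
    intro d
    refine coeff_mem_of_homog h 𝒜 hstr (n := 0) (by rw [map_one, monomial_zero_one]) ?_ d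
    apply AddSubgroup.subset_closure
    exact ⟨1, 1, SetLike.one_mem_graded 𝒜, by rw [map_one, map_one, mul_one]⟩
  zero_mem' := by
    intro d
    rw [map_zero, coeff_zero]
    exact AddSubgroup.zero_mem _
  add_mem' := by
    intro a b ha hb d
    rw [map_add, coeff_add]
    exact AddSubgroup.add_mem _ (ha d) (hb d)
  neg_mem' := by
    intro a ha d
    rw [map_neg, coeff_neg]
    exact AddSubgroup.neg_mem _ (ha d)
  mul_mem' := by
    intro a b ha hb d
    rw [map_mul, coeff_mul]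
    refine AddSubgroup.sum_mem _ ?_
    intro ij hij
    have hd : ij.1 + ij.2 = d := Finset.HasAntidiagonal.mem_antidiagonal.mp hij
    rw [← hd]
    exact mul_mem_spanDeg 𝒜 (ha ij.1) (hb ij.2)

theorem coeff_pco_mem_spanDeg (z : A') (d : ℕ) :
    (pco h 𝒜 hstr z).coeff d ∈ spanDeg inl inr 𝒜 d := by
  have h1 : spanSubring h 𝒜 hstr = ⊤ := by
    apply pushout_subring_eq_top h
    · intro a
      induction a using DirectSum.Decomposition.inductionOn 𝒜 with
      | zero => rw [map_zero]; exact Subring.zero_mem _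
      | homogeneous x =>
        intro d
        refine coeff_mem_of_homog h 𝒜 hstr (pco_inl_of_mem h 𝒜 hstr x.2) ?_ d
        apply AddSubgroup.subset_closure
        exact ⟨1, x, x.2, by rw [map_one, one_mul]⟩
      | add x y hx hy => rw [map_add]; exact Subring.add_mem _ hx hy
    · intro b d
      refine coeff_mem_of_homog h 𝒜 hstr (n := 0) (by rw [pco_inr, monomial_zero_left]) ?_ d
      apply AddSubgroup.subset_closure
      exact ⟨b, 1, SetLike.one_mem_graded 𝒜, by rw [map_one, mul_one]⟩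
  have : z ∈ spanSubring h 𝒜 hstr := h1 ▸ Subring.mem_top z
  exact this d

theorem mem_spanDeg_of_mem_cdeg {d : ℕ} {z : A'} (hz : z ∈ cdeg (pco h 𝒜 hstr) d) :
    z ∈ spanDeg inl inr 𝒜 d := by
  have h1 := coeff_pco_mem_spanDeg h 𝒜 hstr z d
  rw [(mem_cdeg _).mp hz, coeff_monomial, if_pos rfl] at h1
  exact h1

end PushoutSpan

end
end Groth.Agent.H4.GrCo
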