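import Mathlib
import Groth.Agent.H4.GrCo
import Groth.Agent.S8255
import Groth.Agent.H4.AmpOpen
import Groth.Agent.H4.AmpSD
import Groth.Prelude.Def_RelProj4

set_option autoImplicit false
set_option linter.unusedSectionVars false
set_option linter.unusedVariables false
set_option linter.style.haveILetI false
universe u

open CategoryTheory CategoryTheory.Limits AlgebraicGeometry TopologicalSpace Opposite Polynomial
open Groth.Agent.H4.GrCo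

namespace Groth.Agent.H4.PullGr
noncomputable section

variable {Y Y' : Scheme.{u}} (g : Y' ⟶ Y) (A : RelSpec.QCAlg Y)

/-- the base change of the relative spectrum -/
abbrev Cb : Scheme.{u} := pullback A.π g
abbrev pr : Cb g A ⟶ A.spec := pullback.fst A.π g
abbrev π' : Cb g A ⟶ Y' := pullback.snd A.π g

set_option backward.isDefEq.respectTransparency.types false in
instance : IsAffineHom (π' g A) :=
  MorphismProperty.pullback_snd (P := @IsAffineHom) A.π g inferInstance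

/-- the inverse image algebra `g^* A` -/
def pbAlg : RelSpec.QCAlg Y' := RelSpec.QCAlg.directImage (π' g A)

lemma pb_le (U : Y.Opens) : π' g A ⁻¹ᵁ (g ⁻¹ᵁ U) ≤ pr g A ⁻¹ᵁ (A.π ⁻¹ᵁ U) := by
  rw [← Scheme.Hom.comp_preimage, ← Scheme.Hom.comp_preimage, pullback.condition]

instance : IsIso A.gammaMap := Groth.Agent.S8255.result A

/-- the inverse of `gammaMap` on sections -/
def ginv (U : Y.Opens) : A.presheaf.obj (op U) ⟶ Γ(A.spec, A.π ⁻¹ᵁ U) := (inv A.gammaMap).app (op U)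

lemma ginv_natural {U V : Y.Opens} (i : V ≤ U) :
    ginv A U ≫ A.spec.presheaf.map (homOfLE (A.π.preimage_mono i)).op =
      A.presheaf.map (homOfLE i).op ≫ ginv A V :=
  ((inv A.gammaMap).naturality (homOfLE i).op).symm

lemma str_ginv (U : Y.Opens) : A.str.app (op U) ≫ ginv A U = A.π.app U := by
  have h2 : A.str ≫ inv A.gammaMap = A.π.c := by
    rw [← A.π_c_gammaMap, Category.assoc, IsIso.hom_inv_id, Category.comp_id]
  exact congrArg (fun t => NatTrans.app t (op U)) h2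

lemma ginv_gammaAff (U : Y.Opens) (hU : IsAffineOpen U) : ginv A U ≫ A.gammaAff U hU = 𝟙 _ := by
  rw [← A.gammaMap_app U hU]
  exact congrArg (fun t => NatTrans.app t (op U)) (IsIso.inv_hom_id A.gammaMap)

lemma gammaAff_ginv (U : Y.Opens) (hU : IsAffineOpen U) : A.gammaAff U hU ≫ ginv A U = 𝟙 _ := by
  rw [← A.gammaMap_app U hU]
  exact congrArg (fun t => NatTrans.app t (op U)) (IsIso.hom_inv_id A.gammaMap)

/-- the comorphism of the projection `C' → C` over `U` -/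
def prApp (U : Y.Opens) : Γ(A.spec, A.π ⁻¹ᵁ U) ⟶ (pbAlg g A).presheaf.obj (op (g ⁻¹ᵁ U)) :=
  (pr g A).appLE (A.π ⁻¹ᵁ U) (π' g A ⁻¹ᵁ (g ⁻¹ᵁ U)) (pb_le g A U)

lemma prApp_natural {U V : Y.Opens} (i : V ≤ U) :
    prApp g A U ≫ (pbAlg g A).presheaf.map (homOfLE (g.preimage_mono i)).op =
      A.spec.presheaf.map (homOfLE (A.π.preimage_mono i)).op ≫ prApp g A V := by
  show (pr g A).appLE _ _ _ ≫ (Cb g A).presheaf.map
    (homOfLE ((π' g A).preimage_mono (g.preimage_mono i))).op = _ ≫ (pr g A).appLE _ _ _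
  rw [Scheme.Hom.appLE_map, Scheme.Hom.map_appLE]

lemma π_prApp (U : Y.Opens) :
    A.π.app U ≫ prApp g A U = g.app U ≫ (pbAlg g A).str.app (op (g ⁻¹ᵁ U)) := by
  show A.π.app U ≫ (pr g A).appLE _ _ _ = g.app U ≫ (π' g A).app (g ⁻¹ᵁ U)
  rw [Scheme.Hom.app_eq_appLE, Scheme.Hom.appLE_comp_appLE, Scheme.Hom.app_eq_appLE (f := g),
    Scheme.Hom.app_eq_appLE (f := π' g A), Scheme.Hom.appLE_comp_appLE]
  exact Groth.Agent.H4.AmpSD.appLE_eq_of_eq pullback.condition _ _ _ _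

/-- the canonical `g`-morphism `A → g^* A` -/
def pbHom : RelSpec.QHom g A (pbAlg g A) where
  app U := ginv A U ≫ prApp g A U
  naturality {U V} i := by
    rw [Category.assoc, prApp_natural g A i, ← Category.assoc, ginv_natural A i, Category.assoc]
  str_app U := by
    rw [← Category.assoc, str_ginv, π_prApp]

lemma pbHom_appLE (U : Y.Opens) (U' : Y'.Opens) (hle : U' ≤ g ⁻¹ᵁ U) :
    (pbHom g A).appLE U U' hle =
      ginv A U ≫ (pr g A).appLE (A.π ⁻¹ᵁ U) (π' g A ⁻¹ᵁ U')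
        (((π' g A).preimage_mono hle).trans (pb_le g A U)) := by
  show (ginv A U ≫ prApp g A U) ≫ (Cb g A).presheaf.map (homOfLE ((π' g A).preimage_mono hle)).op = _
  exact (Category.assoc _ _ _).trans
    (congrArg (fun t => ginv A U ≫ t) (Scheme.Hom.appLE_map _ _ _))

theorem isQBaseChange_pbHom : RelSpec.IsQBaseChange (pbHom g A) := by
  intro U hU U' hU' hle
  have H : IsPullback (pr g A) (π' g A) A.π g := IsPullback.of_hasPullback A.π g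
  have hUX : IsAffineOpen (A.π ⁻¹ᵁ U) := hU.preimage A.π
  have hUY : π' g A ⁻¹ᵁ U' = pr g A ⁻¹ᵁ (A.π ⁻¹ᵁ U) ⊓ π' g A ⁻¹ᵁ U' := by
    refine (inf_of_le_right ?_).symm
    exact ((π' g A).preimage_mono hle).trans (pb_le g A U)
  haveI := isIso_pushoutSection_of_isAffineOpen H hle (le_refl (A.π ⁻¹ᵁ U)) hUY hU hU' hUX
  have h1 := (isIso_pushoutSection_iff H hle (le_refl (A.π ⁻¹ᵁ U)) hUY).mp inferInstance
  haveI : IsIso (A.gammaAff U hU) := Groth.Agent.S8255.isIso_gammaAff A U hU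
  refine (h1.of_iso (Iso.refl _) (asIso (A.gammaAff U hU)) (Iso.refl _) (Iso.refl _) ?_ ?_ ?_ ?_).flip
  · show A.π.appLE U (A.π ⁻¹ᵁ U) _ ≫ A.gammaAff U hU = 𝟙 _ ≫ A.str.app (op U)
    rw [Category.id_comp, Scheme.Hom.appLE_eq_app, A.π_app_gammaAff]
  · show _ ≫ 𝟙 _ = 𝟙 _ ≫ _
    rw [Category.id_comp, Category.comp_id]
  · refine (Category.comp_id _).trans ?_
    rw [pbHom_appLE, ← Category.assoc, asIso_hom, gammaAff_ginv, Category.id_comp]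
  · refine (Category.comp_id _).trans ((Scheme.Hom.appLE_eq_app _).trans (Category.id_comp _).symm)

/-! ## the grading of the inverse image algebra -/

section Graded
open Groth.Agent.H4.AmpOpen

variable (𝒮 : RelProj.QCGrAlg Y)

/-- an affine pair `W' ⊆ g⁻¹ W` -/
structure Pair where
  W : Y.Opens
  hW : IsAffineOpen W
  W' : Y'.Opens
  hW' : IsAffineOpen W'
  hle : W' ≤ g ⁻¹ᵁ W

variable {g}

theorem Pair.po (k : Pair g) :
    IsPushout (𝒮.str.app (op k.W)) (g.appLE k.W k.W' k.hle)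
      ((pbHom g 𝒮.toQCAlg).appLE k.W k.W' k.hle) ((pbAlg g 𝒮.toQCAlg).str.app (op k.W')) :=
  (isQBaseChange_pbHom g 𝒮.toQCAlg k.W k.hW k.W' k.hW' k.hle).flip

/-- the local coaction over an affine pair -/
def rho (k : Pair g) : (pbAlg g 𝒮.toQCAlg).presheaf.obj (op k.W') →+*
    ((pbAlg g 𝒮.toQCAlg).presheaf.obj (op k.W'))[X] :=
  pco (k.po 𝒮) (𝒮.deg k.W k.hW) (fun r => 𝒮.str_mem k.W k.hW r)

theorem isCoaction_rho (k : Pair g) : IsCoaction (rho 𝒮 k) :=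
  isCoaction_pco (k.po 𝒮) (𝒮.deg k.W k.hW) (fun r => 𝒮.str_mem k.W k.hW r)

lemma rho_str (k : Pair g) (b : Γ(Y', k.W')) :
    rho 𝒮 k (((pbAlg g 𝒮.toQCAlg).str.app (op k.W')).hom b) =
      C (((pbAlg g 𝒮.toQCAlg).str.app (op k.W')).hom b) :=
  pco_inr (k.po 𝒮) (𝒮.deg k.W k.hW) (fun r => 𝒮.str_mem k.W k.hW r) b

lemma rho_hom_of_mem (k : Pair g) {d : ℕ} {a : 𝒮.presheaf.obj (op k.W)} (ha : a ∈ 𝒮.deg k.W k.hW d) :
    rho 𝒮 k (((pbHom g 𝒮.toQCAlg).appLE k.W k.W' k.hle).hom a) =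
      monomial d (((pbHom g 𝒮.toQCAlg).appLE k.W k.W' k.hle).hom a) :=
  pco_inl_of_mem (k.po 𝒮) (𝒮.deg k.W k.hW) (fun r => 𝒮.str_mem k.W k.hW r) ha

theorem rho_res (k m : Pair g) (h1 : m.W ≤ k.W) (h2 : m.W' ≤ k.W')
    (z : (pbAlg g 𝒮.toQCAlg).presheaf.obj (op k.W')) :
    (rho 𝒮 k z).map (rs (pbAlg g 𝒮.toQCAlg) h2) = rho 𝒮 m (rs (pbAlg g 𝒮.toQCAlg) h2 z) := by
  refine pco_natural (k.po 𝒮) (m.po 𝒮) (𝒮.deg k.W k.hW) (fun r => 𝒮.str_mem k.W k.hW r)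
    (𝒮.deg m.W m.hW) (fun r => 𝒮.str_mem m.W m.hW r)
    (𝒮.presheaf.map (homOfLE h1).op).hom (fun d a ha => 𝒮.map_mem k.hW m.hW h1 ha)
    (Y'.presheaf.map (homOfLE h2).op).hom (rs (pbAlg g 𝒮.toQCAlg) h2) ?_ ?_ z
  · intro a
    have e1 := (pbHom g 𝒮.toQCAlg).appLE_map k.hle h2
    have e2 := (pbHom g 𝒮.toQCAlg).map_appLE h1 m.hle
    exact (congr($e1 a)).trans (congr($e2 a)).symm
  · intro b
    exact rs_str (pbAlg g 𝒮.toQCAlg) h2 b

variable (g) in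
/-- the degree `d` part of `g^* 𝒮` over an open of `Y'` -/
def pdeg (U' : Y'.Opens) (d : ℕ) : AddSubgroup ((pbAlg g 𝒮.toQCAlg).presheaf.obj (op U')) where
  carrier := {x | ∀ (k : Pair g) (hk : k.W' ≤ U'),
    rho 𝒮 k (rs (pbAlg g 𝒮.toQCAlg) hk x) = monomial d (rs (pbAlg g 𝒮.toQCAlg) hk x)}
  zero_mem' := by
    intro k hk
    simp
  add_mem' := by
    intro a b ha hb k hk
    rw [map_add, map_add, ha k hk, hb k hk, map_add]
  neg_mem' := by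
    intro a ha k hk
    rw [map_neg, map_neg, ha k hk, map_neg]

lemma mem_pdeg {U' : Y'.Opens} {d : ℕ} {x : (pbAlg g 𝒮.toQCAlg).presheaf.obj (op U')} :
    x ∈ pdeg g 𝒮 U' d ↔ ∀ (k : Pair g) (hk : k.W' ≤ U'),
      rho 𝒮 k (rs (pbAlg g 𝒮.toQCAlg) hk x) = monomial d (rs (pbAlg g 𝒮.toQCAlg) hk x) := Iff.rfl

/-- every point of an open of `Y'` lies in an affine pair inside prescribed opens -/
lemma exists_pair (O : Y.Opens) (O' : Y'.Opens) (hO : O' ≤ g ⁻¹ᵁ O) (y : Y') (hy : y ∈ O') :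
    ∃ k : Pair g, k.W ≤ O ∧ k.W' ≤ O' ∧ y ∈ k.W' := by
  obtain ⟨W, hW, hyW, hWO⟩ := exists_isAffineOpen_mem_and_subset (x := g.base y) (U := O) (hO hy)
  obtain ⟨W', hW', hyW', hW'O⟩ := exists_isAffineOpen_mem_and_subset (x := y) (U := O' ⊓ g ⁻¹ᵁ W)
    ⟨hy, hyW⟩
  exact ⟨⟨W, hW, W', hW', fun z hz => (hW'O hz).2⟩, hWO, fun z hz => (hW'O hz).1, hyW'⟩

theorem mem_pdeg_of_local {U' : Y'.Opens} {d : ℕ} (x : (pbAlg g 𝒮.toQCAlg).presheaf.obj (op U'))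
    {ι : Type u} (m : ι → Pair g) (hm : ∀ i, (m i).W' ≤ U') (hcov : U' ≤ ⨆ i, (m i).W')
    (h : ∀ i, rho 𝒮 (m i) (rs (pbAlg g 𝒮.toQCAlg) (hm i) x) =
      monomial d (rs (pbAlg g 𝒮.toQCAlg) (hm i) x)) : x ∈ pdeg g 𝒮 U' d := by
  intro k hk
  ext e
  -- index: pairs refining both `k` and some `m i`
  let J := {n : Pair g // n.W ≤ k.W ∧ n.W' ≤ k.W' ∧ ∃ i, n.W ≤ (m i).W ∧ n.W' ≤ (m i).W'}
  refine ring_ext (pbAlg g 𝒮.toQCAlg) (fun n : J => n.1.W') (fun n => n.2.2.1) ?_ _ _ ?_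
  · intro y hy
    obtain ⟨i, hi⟩ := Opens.mem_iSup.mp (hcov (hk hy))
    obtain ⟨n, hn1, hn2, hyn⟩ := exists_pair (k.W ⊓ (m i).W) (k.W' ⊓ (m i).W')
      (fun z hz => ⟨k.hle hz.1, (m i).hle hz.2⟩) y ⟨hy, hi⟩
    exact Opens.mem_iSup.mpr ⟨⟨n, hn1.trans inf_le_left, hn2.trans inf_le_left, i,
      hn1.trans inf_le_right, hn2.trans inf_le_right⟩, hyn⟩
  · rintro ⟨n, hn1, hn2, i, hn3, hn4⟩
    show rs (pbAlg g 𝒮.toQCAlg) hn2 _ = rs (pbAlg g 𝒮.toQCAlg) hn2 _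
    rw [← Polynomial.coeff_map, ← Polynomial.coeff_map, rho_res 𝒮 k n hn1 hn2, Polynomial.map_monomial,
      rs_rs]
    have e1 : rs (pbAlg g 𝒮.toQCAlg) (hn2.trans hk) x =
        rs (pbAlg g 𝒮.toQCAlg) hn4 (rs (pbAlg g 𝒮.toQCAlg) (hm i) x) := (rs_rs _ _ _ _).symm
    rw [e1, ← rho_res 𝒮 (m i) n hn3 hn4, h i, Polynomial.map_monomial]

end Graded

section Comp
open Groth.Agent.H4.AmpOpen

variable (𝒮 : RelProj.QCGrAlg Y)

instance pdeg_gradedMonoid (U' : Y'.Opens) : SetLike.GradedMonoid (pdeg g 𝒮 U') where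
  one_mem := by
    intro k hk
    rw [map_one, map_one, monomial_zero_one]
  mul_mem := by
    intro i j a b ha hb k hk
    rw [map_mul, map_mul, ha k hk, hb k hk, monomial_mul_monomial]

lemma le_iSup_pairs (U' : Y'.Opens) : U' ≤ ⨆ i : {k : Pair g // k.W' ≤ U'}, i.1.W' := by
  intro y hy
  obtain ⟨k, -, hk2, hyk⟩ := exists_pair (g := g) ⊤ U' (fun z _ => trivial) y hy
  exact Opens.mem_iSup.mpr ⟨⟨k, hk2⟩, hyk⟩

theorem exists_pcomp (U' : Y'.Opens) (x : (pbAlg g 𝒮.toQCAlg).presheaf.obj (op U')) (e : ℕ) :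
    ∃ σ : (pbAlg g 𝒮.toQCAlg).presheaf.obj (op U'), ∀ (k : Pair g) (hk : k.W' ≤ U'),
      rs (pbAlg g 𝒮.toQCAlg) hk σ = (rho 𝒮 k (rs (pbAlg g 𝒮.toQCAlg) hk x)).coeff e := by
  obtain ⟨σ, hσ⟩ := ring_glue (pbAlg g 𝒮.toQCAlg) (fun i : {k : Pair g // k.W' ≤ U'} => i.1.W') U'
    (fun i => i.2) (le_iSup_pairs g U')
    (fun i => (rho 𝒮 i.1 (rs (pbAlg g 𝒮.toQCAlg) i.2 x)).coeff e) (by
      rintro ⟨k, hk⟩ ⟨m, hm⟩
      let J := {n : Pair g // n.W ≤ k.W ⊓ m.W ∧ n.W' ≤ k.W' ⊓ m.W'}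
      refine ring_ext (pbAlg g 𝒮.toQCAlg) (fun n : J => n.1.W') (fun n => n.2.2) ?_ _ _ ?_
      · intro y hy
        obtain ⟨n, hn1, hn2, hyn⟩ := exists_pair (k.W ⊓ m.W) (k.W' ⊓ m.W')
          (fun z hz => ⟨k.hle hz.1, m.hle hz.2⟩) y hy
        exact Opens.mem_iSup.mpr ⟨⟨n, hn1, hn2⟩, hyn⟩
      · rintro ⟨n, hn1, hn2⟩
        show rs (pbAlg g 𝒮.toQCAlg) hn2 (rs (pbAlg g 𝒮.toQCAlg) inf_le_left _) =
          rs (pbAlg g 𝒮.toQCAlg) hn2 (rs (pbAlg g 𝒮.toQCAlg) inf_le_right _)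
        rw [rs_rs, rs_rs, ← Polynomial.coeff_map, ← Polynomial.coeff_map,
          rho_res 𝒮 k n (hn1.trans inf_le_left) (hn2.trans inf_le_left),
          rho_res 𝒮 m n (hn1.trans inf_le_right) (hn2.trans inf_le_right), rs_rs, rs_rs])
  exact ⟨σ, fun k hk => hσ ⟨k, hk⟩⟩

/-- the degree `e` component of a section of `g^* 𝒮` -/
def pcomp (U' : Y'.Opens) (e : ℕ) (x : (pbAlg g 𝒮.toQCAlg).presheaf.obj (op U')) :
    (pbAlg g 𝒮.toQCAlg).presheaf.obj (op U') := (exists_pcomp g 𝒮 U' x e).choose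

lemma pcomp_res (U' : Y'.Opens) (e : ℕ) (x : (pbAlg g 𝒮.toQCAlg).presheaf.obj (op U'))
    (k : Pair g) (hk : k.W' ≤ U') :
    rs (pbAlg g 𝒮.toQCAlg) hk (pcomp g 𝒮 U' e x) =
      (rho 𝒮 k (rs (pbAlg g 𝒮.toQCAlg) hk x)).coeff e := (exists_pcomp g 𝒮 U' x e).choose_spec k hk

lemma ext_pairs (U' : Y'.Opens) (s t : (pbAlg g 𝒮.toQCAlg).presheaf.obj (op U'))
    (h : ∀ (k : Pair g) (hk : k.W' ≤ U'), rs (pbAlg g 𝒮.toQCAlg) hk s = rs (pbAlg g 𝒮.toQCAlg) hk t) :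
    s = t :=
  ring_ext (pbAlg g 𝒮.toQCAlg) (fun i : {k : Pair g // k.W' ≤ U'} => i.1.W') (fun i => i.2)
    (le_iSup_pairs g U') s t (fun i => h i.1 i.2)

lemma pcomp_add (U' : Y'.Opens) (e : ℕ) (x y : (pbAlg g 𝒮.toQCAlg).presheaf.obj (op U')) :
    pcomp g 𝒮 U' e (x + y) = pcomp g 𝒮 U' e x + pcomp g 𝒮 U' e y := by
  apply ext_pairs g 𝒮
  intro k hk
  rw [map_add, pcomp_res, pcomp_res, pcomp_res, map_add, map_add, coeff_add]

lemma pcomp_zero (U' : Y'.Opens) (e : ℕ) :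
    pcomp g 𝒮 U' e (0 : (pbAlg g 𝒮.toQCAlg).presheaf.obj (op U')) = 0 := by
  apply ext_pairs g 𝒮
  intro k hk
  rw [pcomp_res, map_zero, map_zero, Polynomial.coeff_zero]

lemma pcomp_mem (U' : Y'.Opens) (e : ℕ) (x : (pbAlg g 𝒮.toQCAlg).presheaf.obj (op U')) :
    pcomp g 𝒮 U' e x ∈ pdeg g 𝒮 U' e := by
  intro k hk
  rw [pcomp_res]
  exact (isCoaction_rho 𝒮 k).coassoc _ e

lemma pcomp_of_mem (U' : Y'.Opens) {d : ℕ} (e : ℕ) {x : (pbAlg g 𝒮.toQCAlg).presheaf.obj (op U')}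
    (hx : x ∈ pdeg g 𝒮 U' d) : pcomp g 𝒮 U' e x = if d = e then x else 0 := by
  apply ext_pairs g 𝒮
  intro k hk
  rw [pcomp_res, hx k hk, coeff_monomial]
  split_ifs <;> simp

/-- the component map as an additive map into the degree part -/
def pcompHom (U' : Y'.Opens) (e : ℕ) :
    (pbAlg g 𝒮.toQCAlg).presheaf.obj (op U') →+ pdeg g 𝒮 U' e where
  toFun x := ⟨pcomp g 𝒮 U' e x, pcomp_mem g 𝒮 U' e x⟩
  map_zero' := Subtype.ext (pcomp_zero g 𝒮 U' e)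
  map_add' x y := Subtype.ext (pcomp_add g 𝒮 U' e x y)

lemma pcompHom_coe (U' : Y'.Opens) (e : ℕ)
    (v : DirectSum ℕ fun d => pdeg g 𝒮 U' d) :
    pcompHom g 𝒮 U' e (DirectSum.coeAddMonoidHom (pdeg g 𝒮 U') v) = v e := by
  induction v using DirectSum.induction_on with
  | zero => simp
  | of d y =>
    apply Subtype.ext
    rw [DirectSum.coeAddMonoidHom_of]
    show pcomp g 𝒮 U' e (y : (pbAlg g 𝒮.toQCAlg).presheaf.obj (op U')) = _
    rw [pcomp_of_mem g 𝒮 U' e y.2]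
    by_cases hde : d = e
    · subst hde
      rw [if_pos rfl, DirectSum.of_eq_same]
    · rw [if_neg hde, DirectSum.of_eq_of_ne _ _ _ (Ne.symm hde)]
      rfl
  | add x y hx hy => rw [map_add, map_add, hx, hy, DirectSum.add_apply]

theorem exists_sum_pcomp (U' : Y'.Opens) (hU' : IsCompact (U' : Set Y'))
    (x : (pbAlg g 𝒮.toQCAlg).presheaf.obj (op U')) :
    ∃ N : ℕ, ∑ e ∈ Finset.range N, pcomp g 𝒮 U' e x = x := by
  classical
  obtain ⟨t, ht⟩ := hU'.elim_finite_subcover (fun i : {k : Pair g // k.W' ≤ U'} => (i.1.W' : Set Y'))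
    (fun i => i.1.W'.isOpen) (by
      intro y hy
      obtain ⟨i, hi⟩ := Opens.mem_iSup.mp (le_iSup_pairs g U' hy)
      exact Set.mem_iUnion.mpr ⟨i, hi⟩)
  obtain ⟨F, hF⟩ : ∃ F : {k : Pair g // k.W' ≤ U'} → ℕ,
      ∀ i, F i = (rho 𝒮 i.1 (rs (pbAlg g 𝒮.toQCAlg) i.2 x)).natDegree := ⟨_, fun _ => rfl⟩
  refine ⟨t.sup F + 1, ?_⟩
  refine ring_ext (pbAlg g 𝒮.toQCAlg) (fun i : t => i.1.1.W') (fun i => i.1.2) ?_ _ _ ?_
  · intro y hy
    obtain ⟨i, hi⟩ := Set.mem_iUnion.mp (ht hy)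
    obtain ⟨hit, hyi⟩ := Set.mem_iUnion.mp hi
    exact Opens.mem_iSup.mpr ⟨⟨i, hit⟩, hyi⟩
  · rintro ⟨⟨k, hk⟩, hkt⟩
    show rs (pbAlg g 𝒮.toQCAlg) hk _ = rs (pbAlg g 𝒮.toQCAlg) hk x
    rw [map_sum]
    simp only [pcomp_res]
    have hN : (rho 𝒮 k (rs (pbAlg g 𝒮.toQCAlg) hk x)).natDegree < t.sup F + 1 := by
      have h2 : F ⟨k, hk⟩ ≤ t.sup F := Finset.le_sup hkt
      rw [hF] at h2
      exact Nat.lt_succ_of_le h2
    have h1 := (isCoaction_rho 𝒮 k).counit (rs (pbAlg g 𝒮.toQCAlg) hk x)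
    rw [Polynomial.eval_eq_sum_range' hN] at h1
    simpa using h1

theorem isInternal_pdeg (U' : Y'.Opens) (hU' : IsCompact (U' : Set Y')) :
    DirectSum.IsInternal (pdeg g 𝒮 U') := by
  constructor
  · intro v w hvw
    apply DFinsupp.ext
    intro e
    rw [← pcompHom_coe g 𝒮 U' e v, ← pcompHom_coe g 𝒮 U' e w, hvw]
  · intro x
    obtain ⟨N, hN⟩ := exists_sum_pcomp g 𝒮 U' hU' x
    refine ⟨∑ e ∈ Finset.range N, DirectSum.of (fun d => pdeg g 𝒮 U' d) e (pcompHom g 𝒮 U' e x), ?_⟩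
    rw [map_sum]
    simp only [DirectSum.coeAddMonoidHom_of]
    exact hN

/-- the graded ring structure of `g^* 𝒮` over a quasi-compact open -/
@[instance_reducible]
def pgraded (U' : Y'.Opens) (hU' : IsCompact (U' : Set Y')) : GradedRing (pdeg g 𝒮 U') :=
  { (inferInstance : SetLike.GradedMonoid (pdeg g 𝒮 U')) with
    toDecomposition := (isInternal_pdeg g 𝒮 U' hU').chooseDecomposition }

end Comp

section PbGr
open Groth.Agent.H4.AmpOpen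

variable (𝒮 : RelProj.QCGrAlg Y)

/-- the inverse image `g^* 𝒮` of a quasi-coherent graded algebra -/
def pbGr : RelProj.QCGrAlg Y' where
  toQCAlg := pbAlg g 𝒮.toQCAlg
  deg U' _ := pdeg g 𝒮 U'
  graded U' hU' := pgraded g 𝒮 U' hU'.isCompact
  map_mem := by
    intro U V hU hV i d x hx k hk
    have e1 : rs (pbAlg g 𝒮.toQCAlg) hk (((pbAlg g 𝒮.toQCAlg).presheaf.map (homOfLE i).op).hom x) =
        rs (pbAlg g 𝒮.toQCAlg) (hk.trans i) x := rs_rs _ _ _ _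
    rw [e1]
    exact hx k (hk.trans i)
  str_mem := by
    intro U' hU' r k hk
    rw [rs_str, rho_str, monomial_zero_left]

lemma pbGr_toQCAlg : (pbGr g 𝒮).toQCAlg = pbAlg g 𝒮.toQCAlg := rfl

lemma pbGr_deg (U' : Y'.Opens) (hU' : IsAffineOpen U') (d : ℕ) :
    (pbGr g 𝒮).deg U' hU' d = pdeg g 𝒮 U' d := rfl

/-- the canonical graded `g`-morphism `𝒮 → g^* 𝒮` -/
def pbGrHom : RelProj.QGrHom g 𝒮 (pbGr g 𝒮) where
  toQHom := pbHom g 𝒮.toQCAlg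
  map_mem := by
    intro U hU U' hU' hle d x hx
    let k : Pair g := ⟨U, hU, U', hU', hle⟩
    refine mem_pdeg_of_local 𝒮 _ (fun _ : PUnit.{u + 1} => k) (fun _ => le_refl U') ?_ ?_
    · intro y hy
      exact Opens.mem_iSup.mpr ⟨PUnit.unit, hy⟩
    · intro _
      have e1 : rs (pbAlg g 𝒮.toQCAlg) (le_refl U')
          (((pbHom g 𝒮.toQCAlg).appLE U U' hle).hom x) =
          ((pbHom g 𝒮.toQCAlg).appLE U U' hle).hom x := rs_self _ _ _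
      show rho 𝒮 k (rs (pbAlg g 𝒮.toQCAlg) (le_refl U')
          (((pbHom g 𝒮.toQCAlg).appLE U U' hle).hom x)) =
        monomial d (rs (pbAlg g 𝒮.toQCAlg) (le_refl U')
          (((pbHom g 𝒮.toQCAlg).appLE U U' hle).hom x))
      rw [e1]
      exact rho_hom_of_mem 𝒮 k hx

theorem isQBaseChange_pbGrHom : RelSpec.IsQBaseChange (pbGrHom g 𝒮).toQHom :=
  isQBaseChange_pbHom g 𝒮.toQCAlg

/-- over a pair, homogeneity can be tested on the pair itself -/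
theorem mem_pdeg_pair_iff (k : Pair g) {d : ℕ} (x : (pbAlg g 𝒮.toQCAlg).presheaf.obj (op k.W')) :
    x ∈ pdeg g 𝒮 k.W' d ↔ rho 𝒮 k x = monomial d x := by
  constructor
  · intro hx
    have := hx k (le_refl _)
    rwa [rs_self] at this
  · intro hx
    refine mem_pdeg_of_local 𝒮 _ (fun _ : PUnit.{u + 1} => k) (fun _ => le_refl _) ?_ ?_
    · intro y hy
      exact Opens.mem_iSup.mpr ⟨PUnit.unit, hy⟩
    · intro _
      rw [rs_self]
      exact hx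

theorem pdeg_pair_eq (k : Pair g) (d : ℕ) : pdeg g 𝒮 k.W' d = cdeg (rho 𝒮 k) d := by
  ext x
  exact (mem_pdeg_pair_iff g 𝒮 k x).trans (mem_cdeg _).symm

end PbGr

/-! ## local-to-global tools on an affine open -/

section LocGlob
open Groth.Agent.H4.AmpOpen

variable {X : Scheme.{u}} (B : RelSpec.QCAlg X)

theorem mem_of_forall_basicOpen {U : X.Opens} (hU : IsAffineOpen U)
    (M' : AddSubgroup (B.presheaf.obj (op U)))
    (hM : ∀ (r : Γ(X, U)) (t : B.presheaf.obj (op U)), t ∈ M' → (B.str.app (op U)).hom r * t ∈ M')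
    (s : Set Γ(X, U)) (hs : U ≤ ⨆ f : s, X.basicOpen f.1)
    (x : B.presheaf.obj (op U))
    (H : ∀ r ∈ s, ∃ n : ℕ, ((B.str.app (op U)).hom r) ^ n * x ∈ M') : x ∈ M' := by
  letI : Algebra Γ(X, U) (B.presheaf.obj (op U)) := (B.str.app (op U)).hom.toAlgebra
  let N : Submodule Γ(X, U) (B.presheaf.obj (op U)) :=
    { carrier := M'
      zero_mem' := M'.zero_mem
      add_mem' := fun ha hb => M'.add_mem ha hb
      smul_mem' := fun r t ht => by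
        show r • t ∈ M'
        rw [Algebra.smul_def]
        exact hM r t ht }
  have hspan : Ideal.span s = ⊤ := hU.self_le_iSup_basicOpen_iff.mp hs
  have hx : x ∈ N := by
    refine Submodule.mem_of_span_eq_top_of_smul_pow_mem N s hspan x ?_
    rintro ⟨r, hr⟩
    obtain ⟨n, hn⟩ := H r hr
    refine ⟨n, ?_⟩
    show (r ^ n) • x ∈ M'
    rw [Algebra.smul_def, map_pow]
    exact hn
  exact hx

end LocGlob

section HomogLift
open Groth.Agent.H4.AmpOpen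

variable {X : Scheme.{u}} (𝒯 : RelProj.QCGrAlg X)

theorem exists_homog_lift_basicOpen {U : X.Opens} (hU : IsAffineOpen U) (r : Γ(X, U)) {d : ℕ}
    {y : 𝒯.presheaf.obj (op (X.basicOpen r))} (hy : y ∈ 𝒯.deg (X.basicOpen r) (hU.basicOpen r) d) :
    ∃ (n : ℕ) (a : 𝒯.presheaf.obj (op U)), a ∈ 𝒯.deg U hU d ∧
      rs 𝒯.toQCAlg (X.basicOpen_le r) a =
        (rs 𝒯.toQCAlg (X.basicOpen_le r) ((𝒯.str.app (op U)).hom r)) ^ n * y := by
  classical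
  obtain ⟨n, a₀, ha₀⟩ := ring_loc_surj 𝒯.toQCAlg hU r y
  refine ⟨n, (DirectSum.decompose (𝒯.deg U hU) a₀ d : 𝒯.presheaf.obj (op U)), SetLike.coe_mem _, ?_⟩
  have h0 : rs 𝒯.toQCAlg (X.basicOpen_le r) ((𝒯.str.app (op U)).hom r) ∈
      𝒯.deg (X.basicOpen r) (hU.basicOpen r) 0 :=
    𝒯.map_mem hU (hU.basicOpen r) (X.basicOpen_le r) (𝒯.str_mem U hU r)
  have hmem : (rs 𝒯.toQCAlg (X.basicOpen_le r) ((𝒯.str.app (op U)).hom r)) ^ n * y ∈
      𝒯.deg (X.basicOpen r) (hU.basicOpen r) d := by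
    have h1 := SetLike.mul_mem_graded (SetLike.pow_mem_graded n h0) hy
    simpa using h1
  have h2 := GradedRingHom.map_directSumDecompose (𝒜 := 𝒯.deg U hU)
    (ℬ := 𝒯.deg (X.basicOpen r) (hU.basicOpen r))
    (𝒯.res hU (hU.basicOpen r) (X.basicOpen_le r)) (x := a₀) (i := d)
  have h3 : rs 𝒯.toQCAlg (X.basicOpen_le r)
      (DirectSum.decompose (𝒯.deg U hU) a₀ d : 𝒯.presheaf.obj (op U)) =
      (DirectSum.decompose (𝒯.deg (X.basicOpen r) (hU.basicOpen r))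
        (rs 𝒯.toQCAlg (X.basicOpen_le r) a₀) d : 𝒯.presheaf.obj (op (X.basicOpen r))) := h2
  rw [h3, ha₀, DirectSum.decompose_of_mem_same _ hmem]

end HomogLift

section GenDegOne
open Groth.Agent.H4.AmpOpen

variable (𝒮 : RelProj.QCGrAlg Y)

/-- the functions on an affine open of `Y'` whose basic open is the second member of a pair -/
def goodFun (U' : Y'.Opens) : Set Γ(Y', U') :=
  {r | ∃ W : Y.Opens, IsAffineOpen W ∧ Y'.basicOpen r ≤ g ⁻¹ᵁ W}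

lemma le_iSup_goodFun {U' : Y'.Opens} (hU' : IsAffineOpen U') :
    U' ≤ ⨆ f : goodFun g U', Y'.basicOpen f.1 := by
  intro y hy
  obtain ⟨k, -, hk2, hyk⟩ := exists_pair (g := g) ⊤ U' (fun z _ => trivial) y hy
  obtain ⟨r, hr1, hr2⟩ := hU'.exists_basicOpen_le (V := k.W') ⟨y, hyk⟩ hy
  exact Opens.mem_iSup.mpr ⟨⟨r, k.W, k.hW, hr1.trans k.hle⟩, hr2⟩

theorem closure_pdeg_pair (h : 𝒮.IsGenDegOne) (k : Pair g) :
    Subring.closure ((pdeg g 𝒮 k.W' 0 : Set ((pbAlg g 𝒮.toQCAlg).presheaf.obj (op k.W'))) ∪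
      (pdeg g 𝒮 k.W' 1 : Set _)) = ⊤ := by
  have h1 : Subring.closure ((cdeg (rho 𝒮 k) 0 : Set ((pbAlg g 𝒮.toQCAlg).presheaf.obj (op k.W'))) ∪
      (cdeg (rho 𝒮 k) 1 : Set _)) = ⊤ :=
    closure_cdeg_eq_top (k.po 𝒮) (𝒮.deg k.W k.hW) (fun r => 𝒮.str_mem k.W k.hW r) (h k.W k.hW)
  rw [pdeg_pair_eq g 𝒮 k 0, pdeg_pair_eq g 𝒮 k 1]
  exact h1

theorem genDegOne_key (h : 𝒮.IsGenDegOne) {U' : Y'.Opens} (hU' : IsAffineOpen U')
    (T : Subring ((pbAlg g 𝒮.toQCAlg).presheaf.obj (op U')))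
    (hT0 : ∀ a, a ∈ pdeg g 𝒮 U' 0 → a ∈ T) (hT1 : ∀ a, a ∈ pdeg g 𝒮 U' 1 → a ∈ T)
    (r : Γ(Y', U')) (W : Y.Opens) (hW : IsAffineOpen W) (hrW : Y'.basicOpen r ≤ g ⁻¹ᵁ W)
    (y : (pbAlg g 𝒮.toQCAlg).presheaf.obj (op (Y'.basicOpen r))) :
    ∃ (n : ℕ) (t : (pbAlg g 𝒮.toQCAlg).presheaf.obj (op U')), t ∈ T ∧
      rs (pbAlg g 𝒮.toQCAlg) (Y'.basicOpen_le r) t =
        (rs (pbAlg g 𝒮.toQCAlg) (Y'.basicOpen_le r)
          (((pbAlg g 𝒮.toQCAlg).str.app (op U')).hom r)) ^ n * y := by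
  have hstrT : ∀ r : Γ(Y', U'), ((pbAlg g 𝒮.toQCAlg).str.app (op U')).hom r ∈ T :=
    fun r => hT0 _ ((pbGr g 𝒮).str_mem U' hU' r)
  have hcl := closure_pdeg_pair g 𝒮 h ⟨W, hW, Y'.basicOpen r, hU'.basicOpen r, hrW⟩
  have hy : y ∈ Subring.closure
      ((pdeg g 𝒮 (Y'.basicOpen r) 0 : Set ((pbAlg g 𝒮.toQCAlg).presheaf.obj (op (Y'.basicOpen r)))) ∪
        (pdeg g 𝒮 (Y'.basicOpen r) 1 : Set _)) := by
    rw [hcl]; exact Subring.mem_top y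
  induction hy using Subring.closure_induction with
  | mem z hz =>
    rcases hz with hz | hz
    · obtain ⟨n, a, ha, hra⟩ := exists_homog_lift_basicOpen (pbGr g 𝒮) hU' r (d := 0) hz
      exact ⟨n, a, hT0 a ha, hra⟩
    · obtain ⟨n, a, ha, hra⟩ := exists_homog_lift_basicOpen (pbGr g 𝒮) hU' r (d := 1) hz
      exact ⟨n, a, hT1 a ha, hra⟩
  | zero => exact ⟨0, 0, T.zero_mem, by rw [map_zero, mul_zero]⟩
  | one => exact ⟨0, 1, T.one_mem, by rw [map_one, pow_zero, mul_one]⟩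
  | add z w _ _ hz hw =>
    obtain ⟨n₁, t₁, ht₁, e₁⟩ := hz
    obtain ⟨n₂, t₂, ht₂, e₂⟩ := hw
    refine ⟨n₁ + n₂, (((pbAlg g 𝒮.toQCAlg).str.app (op U')).hom r) ^ n₂ * t₁ +
      (((pbAlg g 𝒮.toQCAlg).str.app (op U')).hom r) ^ n₁ * t₂,
      T.add_mem (T.mul_mem (T.pow_mem (hstrT r) _) ht₁) (T.mul_mem (T.pow_mem (hstrT r) _) ht₂), ?_⟩
    rw [map_add, map_mul, map_mul, map_pow, map_pow, e₁, e₂]
    ring
  | neg z _ hz =>
    obtain ⟨n, t, ht, e⟩ := hz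
    exact ⟨n, -t, T.neg_mem ht, by rw [map_neg, e, mul_neg]⟩
  | mul z w _ _ hz hw =>
    obtain ⟨n₁, t₁, ht₁, e₁⟩ := hz
    obtain ⟨n₂, t₂, ht₂, e₂⟩ := hw
    refine ⟨n₁ + n₂, t₁ * t₂, T.mul_mem ht₁ ht₂, ?_⟩
    rw [map_mul, e₁, e₂]
    ring

theorem closure_pdeg_eq_top (h : 𝒮.IsGenDegOne) {U' : Y'.Opens} (hU' : IsAffineOpen U') :
    Subring.closure ((pdeg g 𝒮 U' 0 : Set ((pbAlg g 𝒮.toQCAlg).presheaf.obj (op U'))) ∪
      (pdeg g 𝒮 U' 1 : Set _)) = ⊤ := by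
  rw [eq_top_iff]
  intro x _
  obtain ⟨T, hT⟩ : ∃ T : Subring ((pbAlg g 𝒮.toQCAlg).presheaf.obj (op U')),
      T = Subring.closure ((pdeg g 𝒮 U' 0 : Set ((pbAlg g 𝒮.toQCAlg).presheaf.obj (op U'))) ∪
        (pdeg g 𝒮 U' 1 : Set _)) := ⟨_, rfl⟩
  rw [← hT]
  have hT0 : ∀ a, a ∈ pdeg g 𝒮 U' 0 → a ∈ T := fun a ha => hT ▸ Subring.subset_closure (Or.inl ha)
  have hT1 : ∀ a, a ∈ pdeg g 𝒮 U' 1 → a ∈ T := fun a ha => hT ▸ Subring.subset_closure (Or.inr ha)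
  have hstrT : ∀ r : Γ(Y', U'), ((pbAlg g 𝒮.toQCAlg).str.app (op U')).hom r ∈ T :=
    fun r => hT0 _ ((pbGr g 𝒮).str_mem U' hU' r)
  refine mem_of_forall_basicOpen (pbAlg g 𝒮.toQCAlg) hU' T.toAddSubgroup
    (fun r t ht => T.mul_mem (hstrT r) ht) (goodFun g U') (le_iSup_goodFun g hU') x ?_
  rintro r ⟨W, hW, hrW⟩
  obtain ⟨n, t, ht, e⟩ := genDegOne_key g 𝒮 h hU' T hT0 hT1 r W hW hrW
    (rs (pbAlg g 𝒮.toQCAlg) (Y'.basicOpen_le r) x)
  have h0 : rs (pbAlg g 𝒮.toQCAlg) (Y'.basicOpen_le r)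
      (t - (((pbAlg g 𝒮.toQCAlg).str.app (op U')).hom r) ^ n * x) = 0 := by
    rw [map_sub, map_mul, map_pow, e, sub_self]
  obtain ⟨m, hm⟩ := ring_loc_inj (pbAlg g 𝒮.toQCAlg) hU' r _ h0
  refine ⟨m + n, ?_⟩
  have e2 : (((pbAlg g 𝒮.toQCAlg).str.app (op U')).hom r) ^ (m + n) * x =
      (((pbAlg g 𝒮.toQCAlg).str.app (op U')).hom r) ^ m * t := by
    have := hm
    rw [mul_sub, sub_eq_zero] at this
    rw [this, pow_add, mul_assoc]
  show _ ∈ T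
  rw [e2]
  exact T.mul_mem (T.pow_mem (hstrT r) _) ht

theorem isGenDegOne_pbGr (h : 𝒮.IsGenDegOne) : (pbGr g 𝒮).IsGenDegOne :=
  fun U' hU' => closure_pdeg_eq_top g 𝒮 h hU'

end GenDegOne

section FTDeg
open Groth.Agent.H4.AmpOpen

variable (𝒮 : RelProj.QCGrAlg Y)

/-- over a pair, the degree `d` part of `g^* 𝒮` is spanned by the images of generators of `𝒮_d` -/
theorem pdeg_pair_span (k : Pair g) (d : ℕ) (T : Finset (𝒮.presheaf.obj (op k.W)))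
    (hT : ∀ x ∈ 𝒮.deg k.W k.hW d, ∃ c : (𝒮.presheaf.obj (op k.W)) → Γ(Y, k.W),
      x = ∑ t ∈ T, (𝒮.str.app (op k.W)).hom (c t) * t)
    (z : (pbAlg g 𝒮.toQCAlg).presheaf.obj (op k.W')) (hz : z ∈ pdeg g 𝒮 k.W' d) :
    ∃ b : (𝒮.presheaf.obj (op k.W)) → Γ(Y', k.W'),
      z = ∑ t ∈ T, ((pbAlg g 𝒮.toQCAlg).str.app (op k.W')).hom (b t) *
        ((pbHom g 𝒮.toQCAlg).appLE k.W k.W' k.hle).hom t := by
  rw [pdeg_pair_eq] at hz
  have h1 := mem_spanDeg_of_mem_cdeg (k.po 𝒮) (𝒮.deg k.W k.hW) (fun r => 𝒮.str_mem k.W k.hW r) hz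
  clear hz
  induction h1 using AddSubgroup.closure_induction with
  | mem w hw =>
    obtain ⟨b, a, ha, rfl⟩ := hw
    obtain ⟨c, hc⟩ := hT a ha
    refine ⟨fun t => b * (g.appLE k.W k.W' k.hle).hom (c t), ?_⟩
    have e1 : ∀ r : Γ(Y, k.W), ((pbHom g 𝒮.toQCAlg).appLE k.W k.W' k.hle).hom
        ((𝒮.str.app (op k.W)).hom r) =
        ((pbAlg g 𝒮.toQCAlg).str.app (op k.W')).hom ((g.appLE k.W k.W' k.hle).hom r) := fun r =>
      congr($((pbHom g 𝒮.toQCAlg).str_appLE k.W k.W' k.hle) r)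
    conv_lhs => rw [hc]
    rw [map_sum, Finset.mul_sum]
    refine Finset.sum_congr rfl ?_
    intro t _
    rw [map_mul, e1, map_mul]
    ring
  | zero => exact ⟨fun _ => 0, by simp⟩
  | add x y _ _ hx hy =>
    obtain ⟨b₁, e₁⟩ := hx
    obtain ⟨b₂, e₂⟩ := hy
    refine ⟨fun t => b₁ t + b₂ t, ?_⟩
    rw [e₁, e₂, ← Finset.sum_add_distrib]
    refine Finset.sum_congr rfl ?_
    intro t _
    rw [map_add, add_mul]
  | neg x _ hx =>
    obtain ⟨b, e⟩ := hx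
    refine ⟨fun t => - b t, ?_⟩
    rw [e, ← Finset.sum_neg_distrib]
    refine Finset.sum_congr rfl ?_
    intro t _
    rw [map_neg, neg_mul]

end FTDeg

section FTDeg2
open Groth.Agent.H4.AmpOpen

variable (𝒮 : RelProj.QCGrAlg Y)

/-- functions on a basic open are fractions -/
lemma exists_fun_lift {U' : Y'.Opens} (hU' : IsAffineOpen U') (r : Γ(Y', U'))
    (b : Γ(Y', Y'.basicOpen r)) :
    ∃ (n : ℕ) (c : Γ(Y', U')), (Y'.presheaf.map (homOfLE (Y'.basicOpen_le r)).op).hom c =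
      ((Y'.presheaf.map (homOfLE (Y'.basicOpen_le r)).op).hom r) ^ n * b :=
  ring_loc_surj (RelSpec.QCAlg.unit Y') hU' r b

theorem ftDeg_single (d : ℕ) (h : 𝒮.IsFTDeg d) {U' : Y'.Opens} (hU' : IsAffineOpen U')
    (r : Γ(Y', U')) (W : Y.Opens) (hW : IsAffineOpen W) (hrW : Y'.basicOpen r ≤ g ⁻¹ᵁ W) :
    letI : Algebra Γ(Y', U') ((pbAlg g 𝒮.toQCAlg).presheaf.obj (op U')) :=
      ((pbAlg g 𝒮.toQCAlg).str.app (op U')).hom.toAlgebra
    ∃ T' : Finset ((pbAlg g 𝒮.toQCAlg).presheaf.obj (op U')),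
      (∀ t' ∈ T', t' ∈ pdeg g 𝒮 U' d) ∧ ∀ x ∈ pdeg g 𝒮 U' d, ∃ N : ℕ,
        (((pbAlg g 𝒮.toQCAlg).str.app (op U')).hom r) ^ N * x ∈
          Submodule.span Γ(Y', U') (T' : Set ((pbAlg g 𝒮.toQCAlg).presheaf.obj (op U'))) := by
  classical
  letI : Algebra Γ(Y', U') ((pbAlg g 𝒮.toQCAlg).presheaf.obj (op U')) :=
    ((pbAlg g 𝒮.toQCAlg).str.app (op U')).hom.toAlgebra
  obtain ⟨T, hTsub, hTgen⟩ := h W hW
  let k : Pair g := ⟨W, hW, Y'.basicOpen r, hU'.basicOpen r, hrW⟩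
  obtain ⟨φ, hφ⟩ : ∃ φ : 𝒮.presheaf.obj (op W) →+* (pbAlg g 𝒮.toQCAlg).presheaf.obj (op (Y'.basicOpen r)),
      φ = ((pbHom g 𝒮.toQCAlg).appLE k.W k.W' k.hle).hom := ⟨_, rfl⟩
  obtain ⟨ρ, hρ⟩ : ∃ ρ : (pbAlg g 𝒮.toQCAlg).presheaf.obj (op (Y'.basicOpen r)),
      ρ = rs (pbAlg g 𝒮.toQCAlg) (Y'.basicOpen_le r) (((pbAlg g 𝒮.toQCAlg).str.app (op U')).hom r) :=
    ⟨_, rfl⟩
  have hφmem : ∀ t ∈ T, φ t ∈ pdeg g 𝒮 (Y'.basicOpen r) d := by
    intro t ht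
    rw [hφ]
    exact (pbGrHom g 𝒮).map_mem W hW (Y'.basicOpen r) (hU'.basicOpen r) hrW (hTsub ht)
  have hlift : ∀ t : {t // t ∈ T}, ∃ (n : ℕ) (a : (pbAlg g 𝒮.toQCAlg).presheaf.obj (op U')),
      a ∈ pdeg g 𝒮 U' d ∧ rs (pbAlg g 𝒮.toQCAlg) (Y'.basicOpen_le r) a = ρ ^ n * φ t.1 := by
    intro t
    rw [hρ]
    exact exists_homog_lift_basicOpen (pbGr g 𝒮) hU' r (hφmem t.1 t.2)
  choose nn aa haa hraa using hlift
  refine ⟨T.attach.image aa, ?_, ?_⟩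
  · intro t' ht'
    obtain ⟨t, -, rfl⟩ := Finset.mem_image.mp ht'
    exact haa t
  · intro x hx
    have hxr : rs (pbAlg g 𝒮.toQCAlg) (Y'.basicOpen_le r) x ∈ pdeg g 𝒮 (Y'.basicOpen r) d :=
      (pbGr g 𝒮).map_mem hU' (hU'.basicOpen r) (Y'.basicOpen_le r) hx
    obtain ⟨b, hb⟩ := pdeg_pair_span g 𝒮 k d T hTgen _ hxr
    rw [← hφ] at hb
    have hfl : ∀ t : {t // t ∈ T}, ∃ (m : ℕ) (c : Γ(Y', U')),
        (Y'.presheaf.map (homOfLE (Y'.basicOpen_le r)).op).hom c =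
          ((Y'.presheaf.map (homOfLE (Y'.basicOpen_le r)).op).hom r) ^ m * b t.1 :=
      fun t => exists_fun_lift hU' r (b t.1)
    choose mm cc hcc using hfl
    obtain ⟨M, hM⟩ : ∃ M : ℕ, ∀ t : {t // t ∈ T}, mm t + nn t ≤ M :=
      ⟨∑ t ∈ T.attach, (mm t + nn t), fun t =>
        Finset.single_le_sum (f := fun t => mm t + nn t) (fun _ _ => Nat.zero_le _) (Finset.mem_attach T t)⟩
    obtain ⟨w, hw⟩ : ∃ w : (pbAlg g 𝒮.toQCAlg).presheaf.obj (op U'),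
        w = ∑ t ∈ T.attach, ((pbAlg g 𝒮.toQCAlg).str.app (op U')).hom
          (r ^ (M - (mm t + nn t)) * cc t) * aa t := ⟨_, rfl⟩
    have hwspan : w ∈ Submodule.span Γ(Y', U')
        ((T.attach.image aa : Finset _) : Set ((pbAlg g 𝒮.toQCAlg).presheaf.obj (op U'))) := by
      rw [hw]
      refine Submodule.sum_mem _ ?_
      intro t ht
      have : ((pbAlg g 𝒮.toQCAlg).str.app (op U')).hom (r ^ (M - (mm t + nn t)) * cc t) * aa t =
          (r ^ (M - (mm t + nn t)) * cc t) • aa t := (Algebra.smul_def _ _).symm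
      rw [this]
      exact Submodule.smul_mem _ _ (Submodule.subset_span (Finset.mem_coe.mpr
        (Finset.mem_image.mpr ⟨t, ht, rfl⟩)))
    have hstrres : ∀ c : Γ(Y', U'), rs (pbAlg g 𝒮.toQCAlg) (Y'.basicOpen_le r)
        (((pbAlg g 𝒮.toQCAlg).str.app (op U')).hom c) =
        ((pbAlg g 𝒮.toQCAlg).str.app (op (Y'.basicOpen r))).hom
          ((Y'.presheaf.map (homOfLE (Y'.basicOpen_le r)).op).hom c) :=
      fun c => rs_str (pbAlg g 𝒮.toQCAlg) (Y'.basicOpen_le r) c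
    have hρ' : ρ = ((pbAlg g 𝒮.toQCAlg).str.app (op (Y'.basicOpen r))).hom
        ((Y'.presheaf.map (homOfLE (Y'.basicOpen_le r)).op).hom r) := by
      rw [hρ, hstrres]
    have hrw : rs (pbAlg g 𝒮.toQCAlg) (Y'.basicOpen_le r) w =
        ρ ^ M * rs (pbAlg g 𝒮.toQCAlg) (Y'.basicOpen_le r) x := by
      rw [hw, map_sum, hb, Finset.mul_sum, ← Finset.sum_attach T
        (fun t => ρ ^ M * (((pbAlg g 𝒮.toQCAlg).str.app (op (Y'.basicOpen r))).hom (b t) * φ t))]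
      refine Finset.sum_congr rfl ?_
      intro t _
      rw [map_mul, hstrres, map_mul, map_pow, map_mul, map_pow, ← hρ', hcc t, map_mul, map_pow,
        ← hρ', hraa t]
      have e3 : ρ ^ M = ρ ^ (M - (mm t + nn t)) * ρ ^ mm t * ρ ^ nn t := by
        rw [mul_assoc, ← pow_add, ← pow_add, Nat.sub_add_cancel (hM t)]
      rw [e3]
      ring
    have h0 : rs (pbAlg g 𝒮.toQCAlg) (Y'.basicOpen_le r)
        (w - (((pbAlg g 𝒮.toQCAlg).str.app (op U')).hom r) ^ M * x) = 0 := by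
      rw [map_sub, map_mul, map_pow, ← hρ, hrw, sub_self]
    obtain ⟨L, hL⟩ := ring_loc_inj (pbAlg g 𝒮.toQCAlg) hU' r _ h0
    refine ⟨L + M, ?_⟩
    have e2 : (((pbAlg g 𝒮.toQCAlg).str.app (op U')).hom r) ^ (L + M) * x =
        (((pbAlg g 𝒮.toQCAlg).str.app (op U')).hom r) ^ L * w := by
      have := hL
      rw [mul_sub, sub_eq_zero] at this
      rw [this, pow_add, mul_assoc]
    rw [e2]
    have e4 : (((pbAlg g 𝒮.toQCAlg).str.app (op U')).hom r) ^ L * w = (r ^ L) • w := by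
      rw [Algebra.smul_def, map_pow]
      rfl
    rw [e4]
    exact Submodule.smul_mem _ _ hwspan

end FTDeg2

section FTDeg3
open Groth.Agent.H4.AmpOpen

variable (𝒮 : RelProj.QCGrAlg Y)

theorem isFTDeg_pbGr_aux (d : ℕ) (h : 𝒮.IsFTDeg d) (U' : Y'.Opens) (hU' : IsAffineOpen U') :
    ∃ T : Finset ((pbAlg g 𝒮.toQCAlg).presheaf.obj (op U')),
      (↑T : Set ((pbAlg g 𝒮.toQCAlg).presheaf.obj (op U'))) ⊆ (pdeg g 𝒮 U' d : Set _) ∧
        ∀ x ∈ pdeg g 𝒮 U' d, ∃ c : ((pbAlg g 𝒮.toQCAlg).presheaf.obj (op U')) → Γ(Y', U'),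
          x = ∑ t ∈ T, ((pbAlg g 𝒮.toQCAlg).str.app (op U')).hom (c t) * t := by
  classical
  letI : Algebra Γ(Y', U') ((pbAlg g 𝒮.toQCAlg).presheaf.obj (op U')) :=
    ((pbAlg g 𝒮.toQCAlg).str.app (op U')).hom.toAlgebra
  have hspan : Ideal.span (goodFun g U') = ⊤ :=
    hU'.self_le_iSup_basicOpen_iff.mp (le_iSup_goodFun g hU')
  obtain ⟨s', hs's, hs'⟩ := (Ideal.span_eq_top_iff_finite _).mp hspan
  have hsingle : ∀ r : {r // r ∈ s'}, ∃ T' : Finset ((pbAlg g 𝒮.toQCAlg).presheaf.obj (op U')),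
      (∀ t' ∈ T', t' ∈ pdeg g 𝒮 U' d) ∧ ∀ x ∈ pdeg g 𝒮 U' d, ∃ N : ℕ,
        (((pbAlg g 𝒮.toQCAlg).str.app (op U')).hom r.1) ^ N * x ∈
          Submodule.span Γ(Y', U') (T' : Set ((pbAlg g 𝒮.toQCAlg).presheaf.obj (op U'))) := by
    rintro ⟨r, hr⟩
    obtain ⟨W, hW, hrW⟩ := hs's hr
    exact ftDeg_single g 𝒮 d h hU' r W hW hrW
  choose TT hTT1 hTT2 using hsingle
  refine ⟨s'.attach.biUnion TT, ?_, ?_⟩
  · intro t' ht'
    obtain ⟨r, -, hr⟩ := Finset.mem_biUnion.mp (Finset.mem_coe.mp ht')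
    exact hTT1 r t' hr
  · intro x hx
    have hxspan : x ∈ Submodule.span Γ(Y', U')
        ((s'.attach.biUnion TT : Finset _) : Set ((pbAlg g 𝒮.toQCAlg).presheaf.obj (op U'))) := by
      have hcov : U' ≤ ⨆ f : (s' : Set Γ(Y', U')), Y'.basicOpen f.1 :=
        hU'.self_le_iSup_basicOpen_iff.mpr hs'
      refine mem_of_forall_basicOpen (pbAlg g 𝒮.toQCAlg) hU'
        (Submodule.span Γ(Y', U') ((s'.attach.biUnion TT : Finset _) :
          Set ((pbAlg g 𝒮.toQCAlg).presheaf.obj (op U')))).toAddSubgroup ?_ (s' : Set Γ(Y', U'))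
        hcov x ?_
      · intro r t ht
        have : ((pbAlg g 𝒮.toQCAlg).str.app (op U')).hom r * t = r • t := (Algebra.smul_def _ _).symm
        rw [this]
        exact Submodule.smul_mem _ r ht
      · intro r hr
        obtain ⟨N, hN⟩ := hTT2 ⟨r, Finset.mem_coe.mp hr⟩ x hx
        refine ⟨N, ?_⟩
        refine Submodule.span_mono ?_ hN
        intro t' ht'
        exact Finset.mem_coe.mpr (Finset.mem_biUnion.mpr
          ⟨⟨r, Finset.mem_coe.mp hr⟩, Finset.mem_attach _ _, Finset.mem_coe.mp ht'⟩)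
    obtain ⟨f, -, hf⟩ := Submodule.mem_span_finset.mp hxspan
    refine ⟨f, ?_⟩
    rw [← hf]
    refine Finset.sum_congr rfl ?_
    intro t _
    exact Algebra.smul_def _ _

theorem isFTDeg_pbGr (d : ℕ) (h : 𝒮.IsFTDeg d) : (pbGr g 𝒮).IsFTDeg d :=
  fun U' hU' => isFTDeg_pbGr_aux g 𝒮 d h U' hU'

end FTDeg3

end
end Groth.Agent.H4.PullGr
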