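import Mathlib
import Groth.Prelude.Def_RelProj4
import Groth.Agent.H4.ClIm3
import Groth.Agent.H4.PullGr

set_option autoImplicit false
set_option linter.style.haveILetI false
set_option linter.unusedSectionVars false
set_option linter.unusedVariables false

namespace Groth.Agent.H4.ClIm4

open CategoryTheory CategoryTheory.Limits AlgebraicGeometry TopologicalSpace Opposite
open DirectSum HomogeneousLocalization
open Groth.Agent.H4.ClIm1 Groth.Agent.H4.ClIm2 Groth.Agent.H4.ClIm3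
open Groth.Agent.H4.AmpOpen
open scoped HomogeneousIdeal

universe u

noncomputable section

variable {Y P : Scheme.{u}} {𝒮 : RelProj.QCGrAlg Y} {p : P ⟶ Y}
  (chart : ∀ (U : Y.Opens) (hU : IsAffineOpen U),
    (((p ⁻¹ᵁ U : P.Opens) : Scheme.{u}) ≅ Proj (𝒮.deg U hU)))
  (𝒥 : P.IdealSheafData)

/-- the homogeneous ideal of `𝒮(U)` attached to an ideal sheaf on the relative Proj -/
def Isat (U : Y.Opens) (hU : IsAffineOpen U) : Ideal (𝒮.presheaf.obj (op U)) where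
  carrier := {a | ∀ (n : ℕ) (t : 𝒮.presheaf.obj (op U)) (ht : t ∈ 𝒮.deg U hU 1),
    num ht n a ∈ J chart 𝒥 U hU one_pos t ht}
  add_mem' ha hb n t ht := by rw [map_add]; exact add_mem (ha n t ht) (hb n t ht)
  zero_mem' n t ht := by rw [map_zero]; exact zero_mem _
  smul_mem' c a ha := by
    rw [smul_eq_mul]
    induction c using DirectSum.Decomposition.inductionOn (𝒮.deg U hU) with
    | zero => intro n t ht; rw [zero_mul, map_zero]; exact zero_mem _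
    | homogeneous c =>
      rename_i e
      intro n t ht
      by_cases h : e ≤ n
      · rw [num_mul_of_mem_of_le ht c.2 a h]
        exact Ideal.mul_mem_left _ _ (ha _ t ht)
      · rw [num_mul_of_mem_of_not_le ht c.2 a h]
        exact zero_mem _
    | add c c' hc hc' =>
      intro n t ht
      rw [add_mul, map_add]
      exact add_mem (hc n t ht) (hc' n t ht)

lemma mem_Isat_iff (U : Y.Opens) (hU : IsAffineOpen U) (a : 𝒮.presheaf.obj (op U)) :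
    a ∈ Isat chart 𝒥 U hU ↔ ∀ (n : ℕ) (t : 𝒮.presheaf.obj (op U)) (ht : t ∈ 𝒮.deg U hU 1),
      num ht n a ∈ J chart 𝒥 U hU one_pos t ht := Iff.rfl

lemma mem_Isat_of_mem (U : Y.Opens) (hU : IsAffineOpen U) {n : ℕ} {a : 𝒮.presheaf.obj (op U)}
    (ha : a ∈ 𝒮.deg U hU n)
    (h : ∀ (t : 𝒮.presheaf.obj (op U)) (ht : t ∈ 𝒮.deg U hU 1),
      num ht n a ∈ J chart 𝒥 U hU one_pos t ht) : a ∈ Isat chart 𝒥 U hU := by
  intro d t ht
  by_cases hd : n = d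
  · subst hd; exact h t ht
  · rw [num_of_mem_ne ht ha hd]; exact zero_mem _

lemma decompose_mem_Isat (U : Y.Opens) (hU : IsAffineOpen U) {a : 𝒮.presheaf.obj (op U)}
    (ha : a ∈ Isat chart 𝒥 U hU) (n : ℕ) :
    (decompose (𝒮.deg U hU) a n : 𝒮.presheaf.obj (op U)) ∈ Isat chart 𝒥 U hU := by
  refine mem_Isat_of_mem chart 𝒥 U hU (decompose (𝒮.deg U hU) a n).2 fun t ht => ?_
  have := ha n t ht
  rw [num_apply] at this
  rw [num_of_mem ht (decompose (𝒮.deg U hU) a n).2]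
  exact this

variable {chart}

theorem exists_inv_str (U : Y.Opens) (hU : IsAffineOpen U) (r : Γ(Y, U)) :
    ∃ v : Γ(Y, Y.basicOpen r),
      (𝒮.res hU (hU.basicOpen r) (Y.basicOpen_le r)) ((𝒮.str.app (op U)).hom r) *
        (𝒮.str.app (op (Y.basicOpen r))).hom v = 1 := by
  obtain ⟨θ, hθ⟩ : ∃ θ : Γ(Y, U) ⟶ Γ(Y, Y.basicOpen r),
      θ = Y.presheaf.map (homOfLE (Y.basicOpen_le r)).op := ⟨_, rfl⟩
  have hnat : ∀ x : Γ(Y, U), (𝒮.res hU (hU.basicOpen r) (Y.basicOpen_le r))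
      ((𝒮.str.app (op U)).hom x) = (𝒮.str.app (op (Y.basicOpen r))).hom (θ.hom x) := by
    intro x
    have := congrArg (fun f => f.hom x) (𝒮.str.naturality (homOfLE (Y.basicOpen_le r)).op)
    rw [hθ]
    exact this.symm
  have hloc : @IsLocalization.Away Γ(Y, U) _ r Γ(Y, Y.basicOpen r) _ θ.hom.toAlgebra := by
    rw [hθ]
    exact hU.isLocalization_basicOpen r
  have hunit : IsUnit (θ.hom r) :=
    @IsLocalization.map_units _ _ (Submonoid.powers r) _ _ θ.hom.toAlgebra hloc ⟨r, 1, pow_one r⟩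
  obtain ⟨v, hv⟩ := hunit
  refine ⟨(↑v⁻¹ : Γ(Y, Y.basicOpen r)), ?_⟩
  rw [hnat, ← map_mul, ← hv, Units.mul_inv, map_one]

theorem str_pow_mul_mem (U : Y.Opens) (hU : IsAffineOpen U) (r : Γ(Y, U)) (m : ℕ) {n : ℕ}
    {a : 𝒮.presheaf.obj (op U)} (ha : a ∈ 𝒮.deg U hU n) :
    ((𝒮.str.app (op U)).hom r) ^ m * a ∈ 𝒮.deg U hU n := by
  have h1 : ((𝒮.str.app (op U)).hom r) ^ m ∈ 𝒮.deg U hU (m • 0) :=
    SetLike.pow_mem_graded m (𝒮.str_mem U hU r)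
  have h2 := SetLike.mul_mem_graded h1 ha
  simpa using h2

theorem res_mem_Isat (hP : RelProj.IsRelProj 𝒮 p chart) (U : Y.Opens) (hU : IsAffineOpen U)
    (r : Γ(Y, U)) (a : 𝒮.presheaf.obj (op U)) (ha : a ∈ Isat chart 𝒥 U hU) :
    (𝒮.res hU (hU.basicOpen r) (Y.basicOpen_le r)) a ∈
      Isat chart 𝒥 (Y.basicOpen r) (hU.basicOpen r) := by
  classical
  intro n t' ht'
  obtain ⟨Rg, hRg⟩ : ∃ Rg : 𝒮.deg U hU →+*ᵍ 𝒮.deg (Y.basicOpen r) (hU.basicOpen r),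
      Rg = 𝒮.res hU (hU.basicOpen r) (Y.basicOpen_le r) := ⟨_, rfl⟩
  rw [← hRg]
  have han : (decompose (𝒮.deg U hU) a n : 𝒮.presheaf.obj (op U)) ∈ Isat chart 𝒥 U hU :=
    decompose_mem_Isat chart 𝒥 U hU ha n
  have e : num ht' n (Rg a) =
      num ht' n (Rg (decompose (𝒮.deg U hU) a n : 𝒮.presheaf.obj (op U))) := by
    rw [num_apply]
    refine Eq.trans ?_ (num_of_mem ht' (Rg.2 (decompose (𝒮.deg U hU) a n).2)).symm
    refine mk_congr _ rfl ?_ _ _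
    exact (GradedRingHom.map_directSumDecompose (𝒜 := 𝒮.deg U hU)
      (ℬ := 𝒮.deg (Y.basicOpen r) (hU.basicOpen r)) Rg (x := a) (i := n)).symm
  rw [e]
  obtain ⟨a', ha'def⟩ : ∃ a' : 𝒮.presheaf.obj (op U),
      a' = (decompose (𝒮.deg U hU) a n : 𝒮.presheaf.obj (op U)) := ⟨_, rfl⟩
  have ha'n : a' ∈ 𝒮.deg U hU n := by rw [ha'def]; exact SetLike.coe_mem _
  rw [← ha'def] at han ⊢
  obtain ⟨m, τ, hτ, hτeq⟩ := Groth.Agent.H4.PullGr.exists_homog_lift_basicOpen 𝒮 hU r ht'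
  obtain ⟨v, hv⟩ := exists_inv_str (𝒮 := 𝒮) U hU r
  have hτeq' : Rg τ = (Rg ((𝒮.str.app (op U)).hom r)) ^ m * t' := by rw [hRg]; exact hτeq
  have hv' : Rg ((𝒮.str.app (op U)).hom r) * (𝒮.str.app (op (Y.basicOpen r))).hom v = 1 := by
    rw [hRg]; exact hv
  have ht'eq : t' = ∑ t ∈ ({Rg τ} : Finset (𝒮.presheaf.obj (op (Y.basicOpen r)))),
      (𝒮.str.app (op (Y.basicOpen r))).hom (v ^ m) * t := by
    rw [Finset.sum_singleton, hτeq', map_pow, ← mul_assoc, ← mul_pow, mul_comm _ (Rg _), hv',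
      one_pow, one_mul]
  have hT : ∀ t ∈ ({Rg τ} : Finset (𝒮.presheaf.obj (op (Y.basicOpen r)))),
      t ∈ 𝒮.deg (Y.basicOpen r) (hU.basicOpen r) 1 := by
    intro t ht
    rw [Finset.mem_singleton.mp ht]
    exact Rg.2 hτ
  refine J_sum chart 𝒥 (Y.basicOpen r) (hU.basicOpen r) {Rg τ} hT (fun _ => v ^ m) t' ht' ht'eq
    (Rg.2 ha'n) ?_
  intro t ht
  obtain rfl := Finset.mem_singleton.mp ht
  have h1 := J_res_mem 𝒥 hP U hU r τ hτ n a' (han n τ hτ)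
  rw [← hRg] at h1
  exact h1

theorem exists_lift_Isat_homog (hP : RelProj.IsRelProj 𝒮 p chart) (hft : 𝒮.IsFTDeg 1)
    (U : Y.Opens) (hU : IsAffineOpen U) (r : Γ(Y, U)) {n : ℕ}
    {b : 𝒮.presheaf.obj (op (Y.basicOpen r))}
    (hb : b ∈ 𝒮.deg (Y.basicOpen r) (hU.basicOpen r) n)
    (hbI : b ∈ Isat chart 𝒥 (Y.basicOpen r) (hU.basicOpen r)) :
    ∃ (m : ℕ) (a : 𝒮.presheaf.obj (op U)), a ∈ 𝒮.deg U hU n ∧ a ∈ Isat chart 𝒥 U hU ∧
      (𝒮.res hU (hU.basicOpen r) (Y.basicOpen_le r)) a =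
        ((𝒮.res hU (hU.basicOpen r) (Y.basicOpen_le r)) ((𝒮.str.app (op U)).hom r)) ^ m * b := by
  classical
  obtain ⟨Rg, hRg⟩ : ∃ Rg : 𝒮.deg U hU →+*ᵍ 𝒮.deg (Y.basicOpen r) (hU.basicOpen r),
      Rg = 𝒮.res hU (hU.basicOpen r) (Y.basicOpen_le r) := ⟨_, rfl⟩
  obtain ⟨m₀, a₀, ha₀, ha₀eq⟩ := Groth.Agent.H4.PullGr.exists_homog_lift_basicOpen 𝒮 hU r hb
  have ha₀eq' : Rg a₀ = (Rg ((𝒮.str.app (op U)).hom r)) ^ m₀ * b := by rw [hRg]; exact ha₀eq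
  obtain ⟨T, hT, hgen⟩ := hft U hU
  have hT' : ∀ t ∈ T, t ∈ 𝒮.deg U hU 1 := fun t ht => hT (Finset.mem_coe.mpr ht)
  have hRa₀ : Rg a₀ ∈ Isat chart 𝒥 (Y.basicOpen r) (hU.basicOpen r) := by
    rw [ha₀eq']; exact Ideal.mul_mem_left _ _ hbI
  obtain ⟨c, hc⟩ : ∃ c, c = (𝒮.str.app (op U)).hom r := ⟨_, rfl⟩
  have hc0 : c ∈ 𝒮.deg U hU 0 := by rw [hc]; exact 𝒮.str_mem U hU r
  have hk : ∀ t (ht : t ∈ T), ∃ m : ℕ,
      num (hT' t ht) n (c ^ m * a₀) ∈ J chart 𝒥 U hU one_pos t (hT' t ht) := by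
    intro t ht
    have h1 := hRa₀ n (Rg t) (Rg.2 (hT' t ht))
    rw [hRg] at h1
    rw [hc]
    exact J_lift 𝒥 hP U hU r t (hT' t ht) n a₀ h1
  choose! m hm using hk
  have hcpow : ∀ k : ℕ, c ^ k ∈ 𝒮.deg U hU 0 := fun k => by
    have := SetLike.pow_mem_graded k hc0
    simpa using this
  have hmem : ∀ k : ℕ, c ^ k * a₀ ∈ 𝒮.deg U hU n := fun k => by
    have := SetLike.mul_mem_graded (hcpow k) ha₀
    simpa using this
  refine ⟨T.sup m + m₀, c ^ T.sup m * a₀, hmem _, ?_, ?_⟩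
  · refine mem_Isat_of_mem chart 𝒥 U hU (hmem _) fun t' ht' => ?_
    obtain ⟨cf, hcf⟩ := hgen t' ht'
    refine J_sum chart 𝒥 U hU T hT' cf t' ht' hcf (hmem _) ?_
    intro t ht
    have hle : m t ≤ T.sup m := Finset.le_sup ht
    have e1 : c ^ T.sup m * a₀ = c ^ (T.sup m - m t) * (c ^ m t * a₀) := by
      rw [← mul_assoc, ← pow_add, Nat.sub_add_cancel hle]
    rw [e1, num_zero_mul (hT' t ht) (hcpow _)]
    exact Ideal.mul_mem_left _ _ (hm t ht)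
  · rw [← hRg, map_mul, map_pow, ha₀eq', ← mul_assoc, hc, ← pow_add]

theorem exists_lift_Isat (hP : RelProj.IsRelProj 𝒮 p chart) (hft : 𝒮.IsFTDeg 1)
    (U : Y.Opens) (hU : IsAffineOpen U) (r : Γ(Y, U))
    (b : 𝒮.presheaf.obj (op (Y.basicOpen r)))
    (hbI : b ∈ Isat chart 𝒥 (Y.basicOpen r) (hU.basicOpen r)) :
    ∃ (m : ℕ) (a : 𝒮.presheaf.obj (op U)), a ∈ Isat chart 𝒥 U hU ∧
      (𝒮.res hU (hU.basicOpen r) (Y.basicOpen_le r)) a =
        ((𝒮.res hU (hU.basicOpen r) (Y.basicOpen_le r)) ((𝒮.str.app (op U)).hom r)) ^ m * b := by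
  classical
  obtain ⟨Rg, hRg⟩ : ∃ Rg : 𝒮.deg U hU →+*ᵍ 𝒮.deg (Y.basicOpen r) (hU.basicOpen r),
      Rg = 𝒮.res hU (hU.basicOpen r) (Y.basicOpen_le r) := ⟨_, rfl⟩
  obtain ⟨c, hc⟩ : ∃ c, c = (𝒮.str.app (op U)).hom r := ⟨_, rfl⟩
  have h : ∀ n : ℕ, ∃ (m : ℕ) (a : 𝒮.presheaf.obj (op U)), a ∈ Isat chart 𝒥 U hU ∧
      Rg a = (Rg c) ^ m * (decompose (𝒮.deg (Y.basicOpen r) (hU.basicOpen r)) b n :
        𝒮.presheaf.obj (op (Y.basicOpen r))) := by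
    intro n
    obtain ⟨m, a, _, ha2, ha3⟩ := exists_lift_Isat_homog 𝒥 hP hft U hU r
      (SetLike.coe_mem (decompose (𝒮.deg (Y.basicOpen r) (hU.basicOpen r)) b n))
      (decompose_mem_Isat chart 𝒥 _ _ hbI n)
    exact ⟨m, a, ha2, by rw [hRg, hc]; exact ha3⟩
  choose m a ha1 ha2 using h
  obtain ⟨S, hS⟩ : ∃ S : Finset ℕ,
      S = (decompose (𝒮.deg (Y.basicOpen r) (hU.basicOpen r)) b).support := ⟨_, rfl⟩
  refine ⟨S.sup m, ∑ n ∈ S, c ^ (S.sup m - m n) * a n, ?_, ?_⟩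
  · exact Ideal.sum_mem _ fun n _ => Ideal.mul_mem_left _ _ (ha1 n)
  · rw [← hRg, ← hc, map_sum]
    have h1 : ∀ n ∈ S, Rg (c ^ (S.sup m - m n) * a n) = (Rg c) ^ S.sup m *
        (decompose (𝒮.deg (Y.basicOpen r) (hU.basicOpen r)) b n :
          𝒮.presheaf.obj (op (Y.basicOpen r))) := by
      intro n hn
      have hle : m n ≤ S.sup m := Finset.le_sup hn
      rw [map_mul, map_pow, ha2 n, ← mul_assoc, ← pow_add, Nat.sub_add_cancel hle]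
    rw [Finset.sum_congr rfl h1, ← Finset.mul_sum, hS,
      DirectSum.sum_support_decompose (𝒮.deg (Y.basicOpen r) (hU.basicOpen r)) b]

theorem pow_mul_mem_Isat (hP : RelProj.IsRelProj 𝒮 p chart) (hft : 𝒮.IsFTDeg 1)
    (U : Y.Opens) (hU : IsAffineOpen U) (r : Γ(Y, U)) (a : 𝒮.presheaf.obj (op U))
    (ha : (𝒮.res hU (hU.basicOpen r) (Y.basicOpen_le r)) a ∈
      Isat chart 𝒥 (Y.basicOpen r) (hU.basicOpen r)) :
    ∃ N : ℕ, ((𝒮.str.app (op U)).hom r) ^ N * a ∈ Isat chart 𝒥 U hU := by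
  obtain ⟨m, a', ha', heq⟩ := exists_lift_Isat 𝒥 hP hft U hU r _ ha
  obtain ⟨u, hu, hcu, hsurj, hker⟩ := res_loc_data (𝒮 := 𝒮) U hU r
  have h0 : (𝒮.res hU (hU.basicOpen r) (Y.basicOpen_le r))
      (a' - ((𝒮.str.app (op U)).hom r) ^ m * a) = 0 := by
    rw [map_sub, map_mul, map_pow, heq, sub_self]
  obtain ⟨k, hk⟩ := hker _ h0
  refine ⟨k + m, ?_⟩
  have h1 : ((𝒮.str.app (op U)).hom r) ^ (k + m) * a = ((𝒮.str.app (op U)).hom r) ^ k * a' := by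
    rw [mul_sub] at hk
    rw [pow_add, mul_assoc]
    exact (sub_eq_zero.mp hk).symm
  rw [h1]
  exact Ideal.mul_mem_left _ _ ha'

theorem mem_Isat_of_cover (hP : RelProj.IsRelProj 𝒮 p chart) (hft : 𝒮.IsFTDeg 1)
    (U : Y.Opens) (hU : IsAffineOpen U) (a : 𝒮.presheaf.obj (op U)) (s : Set Γ(Y, U))
    (hs : Ideal.span s = ⊤)
    (h : ∀ r ∈ s, (𝒮.res hU (hU.basicOpen r) (Y.basicOpen_le r)) a ∈
      Isat chart 𝒥 (Y.basicOpen r) (hU.basicOpen r)) : a ∈ Isat chart 𝒥 U hU := by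
  have hspan : Ideal.span ((𝒮.str.app (op U)).hom '' s) = ⊤ := by
    rw [← Ideal.map_span, hs, Ideal.map_top]
  refine Submodule.mem_of_span_eq_top_of_smul_pow_mem (Isat chart 𝒥 U hU) _ hspan a ?_
  rintro ⟨_, r, hr, rfl⟩
  obtain ⟨N, hN⟩ := pow_mul_mem_Isat 𝒥 hP hft U hU r a (h r hr)
  exact ⟨N, hN⟩

theorem Isat_congr {W₁ W₂ : Y.Opens} (h₁ : IsAffineOpen W₁) (h₂ : IsAffineOpen W₂) (e : W₁ = W₂)
    (a : 𝒮.presheaf.obj (op W₁)) (ha : a ∈ Isat chart 𝒥 W₁ h₁) :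
    rs 𝒮.toQCAlg (le_of_eq e.symm) a ∈ Isat chart 𝒥 W₂ h₂ := by
  subst e
  rw [rs_self]
  exact ha

theorem res_mem_Isat_gen (hP : RelProj.IsRelProj 𝒮 p chart) (hft : 𝒮.IsFTDeg 1)
    {U V : Y.Opens} (hU : IsAffineOpen U) (hV : IsAffineOpen V) (hVU : V ≤ U)
    (a : 𝒮.presheaf.obj (op U)) (ha : a ∈ Isat chart 𝒥 U hU) :
    rs 𝒮.toQCAlg hVU a ∈ Isat chart 𝒥 V hV := by
  refine mem_Isat_of_cover 𝒥 hP hft V hV _
    {g : Γ(Y, V) | ∃ f : Γ(Y, U), Y.basicOpen f = Y.basicOpen g} ?_ ?_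
  · rw [← hV.self_le_iSup_basicOpen_iff]
    intro x hx
    obtain ⟨f, g, hfg, hxf⟩ := exists_basicOpen_le_affine_inter hU hV x ⟨hVU hx, hx⟩
    exact Opens.mem_iSup.mpr ⟨⟨g, f, hfg⟩, hfg ▸ hxf⟩
  · rintro g ⟨f, hfg⟩
    have h1 := res_mem_Isat 𝒥 hP U hU f a ha
    have h2 := Isat_congr 𝒥 (hU.basicOpen f) (hV.basicOpen g) hfg _ h1
    have h3 : rs 𝒮.toQCAlg (le_of_eq hfg.symm)
        ((𝒮.res hU (hU.basicOpen f) (Y.basicOpen_le f)) a) =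
        (𝒮.res hV (hV.basicOpen g) (Y.basicOpen_le g)) (rs 𝒮.toQCAlg hVU a) := by
      show rs 𝒮.toQCAlg (le_of_eq hfg.symm) (rs 𝒮.toQCAlg (Y.basicOpen_le f) a) =
        rs 𝒮.toQCAlg (Y.basicOpen_le g) (rs 𝒮.toQCAlg hVU a)
      rw [rs_rs, rs_rs]
    rw [← h3]
    exact h2

theorem ker_awayMap_eq (hft : 𝒮.IsFTDeg 1) (U : Y.Opens) (hU : IsAffineOpen U)
    {B : Type u} [CommRing B] (ℬ : ℕ → AddSubgroup B) [GradedRing ℬ]
    (φ : 𝒮.deg U hU →+*ᵍ ℬ) (hker : ∀ a, φ a = 0 ↔ a ∈ Isat chart 𝒥 U hU)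
    (t : 𝒮.presheaf.obj (op U)) (ht : t ∈ 𝒮.deg U hU 1) :
    RingHom.ker (Away.map φ t) = J chart 𝒥 U hU one_pos t ht := by
  classical
  ext x
  obtain ⟨n, a, ha, rfl⟩ := exists_num_eq ht x
  rw [RingHom.mem_ker, map_num φ ht]
  have htk : ∀ k : ℕ, t ^ k ∈ 𝒮.deg U hU k := fun k => by
    have := SetLike.pow_mem_graded k ht
    rwa [smul_eq_mul, mul_one] at this
  have hb : ∀ k : ℕ, t ^ k * a ∈ 𝒮.deg U hU (k + n) := fun k =>
    SetLike.mul_mem_graded (htk k) ha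
  have hφa : φ a ∈ ℬ n := φ.2 ha
  have hφt : φ t ∈ ℬ 1 := φ.2 ht
  constructor
  · intro h0
    rw [num_of_mem (φ.2 ht) hφa] at h0
    have hval := congrArg HomogeneousLocalization.val h0
    rw [Away.val_mk, HomogeneousLocalization.val_zero, Localization.mk_eq_mk',
      IsLocalization.mk'_eq_zero_iff] at hval
    obtain ⟨⟨c, N, rfl⟩, hc⟩ := hval
    have h1 : t ^ N * a ∈ Isat chart 𝒥 U hU := by
      rw [← hker, map_mul, map_pow]
      exact hc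
    have h2 := h1 (N + n) t ht
    rwa [num_pow_mul ht N ha] at h2
  · intro hx
    obtain ⟨T, hT, hgen⟩ := hft U hU
    have hT' : ∀ g ∈ T, g ∈ 𝒮.deg U hU 1 := fun g hg => hT (Finset.mem_coe.mpr hg)
    have htr : ∀ g (hg : g ∈ T), ∃ N : ℕ,
        num (hT' g hg) (N + n) (t ^ N * a) ∈ J chart 𝒥 U hU one_pos g (hT' g hg) := fun g hg =>
      J_transfer chart 𝒥 U hU t ht g (hT' g hg) ha hx
    choose! N hN using htr
    obtain ⟨M, hM⟩ : ∃ M, M = T.sup N := ⟨_, rfl⟩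
    have h1 : t ^ M * a ∈ Isat chart 𝒥 U hU := by
      refine mem_Isat_of_mem chart 𝒥 U hU (hb M) fun t' ht' => ?_
      obtain ⟨cf, hcf⟩ := hgen t' ht'
      refine J_sum chart 𝒥 U hU T hT' cf t' ht' hcf (hb M) ?_
      intro g hg
      have hle : N g ≤ M := by rw [hM]; exact Finset.le_sup hg
      have e1 : t ^ M * a = t ^ (M - N g) * (t ^ N g * a) := by
        rw [← mul_assoc, ← pow_add, Nat.sub_add_cancel hle]
      rw [e1, num_mul_of_mem_of_le (hT' g hg) (htk (M - N g)) _ (by omega)]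
      have e2 : M + n - (M - N g) = N g + n := by omega
      rw [e2]
      exact Ideal.mul_mem_left _ _ (hN g hg)
    have h2 : (φ t) ^ M * φ a = 0 := by
      rw [← map_pow, ← map_mul]
      exact (hker _).mpr h1
    rw [← num_pow_mul hφt M hφa, h2, map_zero]

end

end Groth.Agent.H4.ClIm4
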