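import Mathlib
import Groth.Agent.H4.GrCo

set_option autoImplicit false
set_option linter.style.haveILetI false
set_option linter.unusedSectionVars false
set_option linter.unusedVariables false

namespace Groth.Agent.H4.ClIm5

open CategoryTheory CategoryTheory.Limits Polynomial DirectSum
open Groth.Agent.H4.GrCo

universe u

noncomputable section

variable {A B : Type u} [CommRing A] [CommRing B] (𝒜 : ℕ → AddSubgroup A) [GradedRing 𝒜]
  (ψ : A →+* B) (hψ : Function.Surjective ψ)
  (hk : ∀ a, ψ a = 0 → ∀ n, ψ (decompose 𝒜 a n : A) = 0)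

include hk in
lemma ker_le_ker_coact : RingHom.ker ψ ≤ RingHom.ker ((Polynomial.mapRingHom ψ).comp (coact 𝒜)) := by
  intro a ha
  rw [RingHom.mem_ker] at ha ⊢
  rw [RingHom.comp_apply, Polynomial.coe_mapRingHom]
  ext n
  rw [Polynomial.coeff_map, coeff_coact, Polynomial.coeff_zero]
  exact hk a ha n

/-- the coaction on the image of a graded ring under a surjection with homogeneous kernel -/
def imCo : B →+* B[X] :=
  RingHom.liftOfSurjective ψ hψ ⟨(Polynomial.mapRingHom ψ).comp (coact 𝒜), ker_le_ker_coact 𝒜 ψ hk⟩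

lemma imCo_apply (a : A) : imCo 𝒜 ψ hψ hk (ψ a) = (coact 𝒜 a).map ψ := by
  unfold imCo
  rw [RingHom.liftOfSurjective_comp_apply]
  rfl

theorem isCoaction_imCo : IsCoaction (imCo 𝒜 ψ hψ hk) where
  counit z := by
    obtain ⟨a, rfl⟩ := hψ z
    rw [imCo_apply, Polynomial.eval_map]
    have h1 : Polynomial.eval₂ ψ (ψ 1) (coact 𝒜 a) = ψ ((coact 𝒜 a).eval 1) :=
      Polynomial.eval₂_hom ψ 1
    rw [map_one] at h1
    rw [h1, eval_one_coact]
  coassoc z d := by
    obtain ⟨a, rfl⟩ := hψ z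
    rw [imCo_apply, Polynomial.coeff_map, coeff_coact, imCo_apply,
      coact_of_mem 𝒜 (SetLike.coe_mem _), Polynomial.map_monomial]

/-- the image grading -/
def imGr (n : ℕ) : AddSubgroup B := cdeg (imCo 𝒜 ψ hψ hk) n

lemma mem_imGr {n : ℕ} {x : B} : x ∈ imGr 𝒜 ψ hψ hk n ↔ ∃ a ∈ 𝒜 n, ψ a = x := by
  constructor
  · intro hx
    obtain ⟨a, rfl⟩ := hψ x
    have h1 := (mem_cdeg _).mp hx
    rw [imCo_apply] at h1
    have h2 := congrArg (fun q => q.coeff n) h1
    simp only [Polynomial.coeff_map, coeff_coact, Polynomial.coeff_monomial, if_true] at h2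
    exact ⟨_, SetLike.coe_mem _, h2⟩
  · rintro ⟨a, ha, rfl⟩
    refine (mem_cdeg _).mpr ?_
    rw [imCo_apply, coact_of_mem 𝒜 ha, Polynomial.map_monomial]

@[instance_reducible]
def imGr_gradedRing : GradedRing (imGr 𝒜 ψ hψ hk) := gradedRing (isCoaction_imCo 𝒜 ψ hψ hk)

end

end Groth.Agent.H4.ClIm5
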