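import Mathlib
import Groth.Prelude.Def_RelProj4
import Groth.Agent.H4.ClIm4
import Groth.Agent.H4.ClIm5
import Groth.Agent.H4.FinProj

set_option autoImplicit false
set_option linter.style.haveILetI false
set_option linter.unusedSectionVars false
set_option linter.unusedVariables false

namespace Groth.Agent.H4.ClIm6

open CategoryTheory CategoryTheory.Limits AlgebraicGeometry TopologicalSpace Opposite
open DirectSum HomogeneousLocalization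
open Groth.Agent.H4.ClIm1 Groth.Agent.H4.ClIm2 Groth.Agent.H4.ClIm3 Groth.Agent.H4.ClIm4
open Groth.Agent.H4.ClIm5
open Groth.Agent.H4.AmpOpen Groth.Agent.H6.PA Groth.Agent.H4.FinProj
open scoped HomogeneousIdeal

universe u

noncomputable section

variable {Y P : Scheme.{u}} {𝒮 : RelProj.QCGrAlg Y} {p : P ⟶ Y}
  (chart : ∀ (U : Y.Opens) (hU : IsAffineOpen U),
    (((p ⁻¹ᵁ U : P.Opens) : Scheme.{u}) ≅ Proj (𝒮.deg U hU)))
  (𝒥 : P.IdealSheafData)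

/-- the presheaf of ideals on all opens -/
def Ipre (W : Y.Opens) : Ideal (𝒮.presheaf.obj (op W)) :=
  ⨅ (V : Y.Opens) (hV : IsAffineOpen V) (hVW : V ≤ W),
    (Isat chart 𝒥 V hV).comap (rs 𝒮.toQCAlg hVW)

lemma mem_Ipre {W : Y.Opens} {s : 𝒮.presheaf.obj (op W)} :
    s ∈ Ipre chart 𝒥 W ↔ ∀ (V : Y.Opens) (hV : IsAffineOpen V) (hVW : V ≤ W),
      rs 𝒮.toQCAlg hVW s ∈ Isat chart 𝒥 V hV := by
  simp only [Ipre, Ideal.mem_iInf, Ideal.mem_comap]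

variable {chart}

lemma Ipre_affine (hP : RelProj.IsRelProj 𝒮 p chart) (hft : 𝒮.IsFTDeg 1)
    (U : Y.Opens) (hU : IsAffineOpen U) : Ipre chart 𝒥 U = Isat chart 𝒥 U hU := by
  ext s
  rw [mem_Ipre]
  constructor
  · intro h
    have := h U hU le_rfl
    rwa [rs_self] at this
  · intro h V hV hVU
    exact res_mem_Isat_gen 𝒥 hP hft hU hV hVU s h

variable (chart)

lemma Ipre_res {W W' : Y.Opens} (i : W' ≤ W) (s : 𝒮.presheaf.obj (op W))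
    (hs : s ∈ Ipre chart 𝒥 W) : rs 𝒮.toQCAlg i s ∈ Ipre chart 𝒥 W' := by
  rw [mem_Ipre] at hs ⊢
  intro V hV hVW
  rw [rs_rs]
  exact hs V hV (hVW.trans i)

lemma Ipre_map {W W' : (Opens Y)ᵒᵖ} (f : W ⟶ W') :
    Ipre chart 𝒥 (unop W) ≤ (Ipre chart 𝒥 (unop W')).comap (𝒮.presheaf.map f).hom := by
  intro s hs
  rw [Ideal.mem_comap]
  have hf : f = (homOfLE (leOfHom f.unop)).op := Subsingleton.elim _ _
  rw [hf]
  exact Ipre_res chart 𝒥 (leOfHom f.unop) s hs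

/-- the induced maps of quotients -/
def qmap {W W' : (Opens Y)ᵒᵖ} (f : W ⟶ W') :
    (𝒮.presheaf.obj W ⧸ Ipre chart 𝒥 (unop W)) →+* (𝒮.presheaf.obj W' ⧸ Ipre chart 𝒥 (unop W')) :=
  Ideal.quotientMap (Ipre chart 𝒥 (unop W')) (𝒮.presheaf.map f).hom (Ipre_map chart 𝒥 f)

lemma qmap_mk {W W' : (Opens Y)ᵒᵖ} (f : W ⟶ W') (a : 𝒮.presheaf.obj W) :
    qmap chart 𝒥 f (Ideal.Quotient.mk (Ipre chart 𝒥 (unop W)) a) =
      Ideal.Quotient.mk (Ipre chart 𝒥 (unop W')) ((𝒮.presheaf.map f).hom a) :=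
  Ideal.quotientMap_mk

/-- the quotient presheaf -/
def Qpre : TopCat.Presheaf CommRingCat.{u} Y.carrier where
  obj W := CommRingCat.of (𝒮.presheaf.obj W ⧸ Ipre chart 𝒥 (unop W))
  map {W W'} f := CommRingCat.ofHom (qmap chart 𝒥 f)
  map_id W := by
    apply CommRingCat.hom_ext
    apply Ideal.Quotient.ringHom_ext
    apply RingHom.ext
    intro a
    refine (qmap_mk chart 𝒥 (𝟙 W) a).trans ?_
    rw [𝒮.presheaf.map_id]
    rfl
  map_comp {W₁ W₂ W₃} f g := by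
    apply CommRingCat.hom_ext
    apply Ideal.Quotient.ringHom_ext
    apply RingHom.ext
    intro a
    refine (qmap_mk chart 𝒥 (f ≫ g) a).trans ?_
    have h1 : qmap chart 𝒥 g (qmap chart 𝒥 f (Ideal.Quotient.mk (Ipre chart 𝒥 (unop W₁)) a)) =
        Ideal.Quotient.mk (Ipre chart 𝒥 (unop W₃))
          ((𝒮.presheaf.map g).hom ((𝒮.presheaf.map f).hom a)) := by
      rw [qmap_mk, qmap_mk]
    refine Eq.trans ?_ h1.symm
    rw [𝒮.presheaf.map_comp]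
    rfl

/-- the quotient map of presheaves -/
def mkQ : 𝒮.presheaf ⟶ Qpre chart 𝒥 where
  app W := CommRingCat.ofHom (Ideal.Quotient.mk (Ipre chart 𝒥 (unop W)))
  naturality W W' f := by
    apply CommRingCat.hom_ext
    apply RingHom.ext
    intro a
    exact (qmap_mk chart 𝒥 f a).symm

def Qstr : Y.presheaf ⟶ Qpre chart 𝒥 := 𝒮.str ≫ mkQ chart 𝒥

variable {chart}

theorem Qpre_isQC (hP : RelProj.IsRelProj 𝒮 p chart) (hft : 𝒮.IsFTDeg 1) :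
    RelSpec.IsQC (Qpre chart 𝒥) (Qstr chart 𝒥) := by
  intro U hU r
  letI algQ : Algebra (𝒮.presheaf.obj (op U) ⧸ Ipre chart 𝒥 U)
      (𝒮.presheaf.obj (op (Y.basicOpen r)) ⧸ Ipre chart 𝒥 (Y.basicOpen r)) :=
    (qmap chart 𝒥 (homOfLE (Y.basicOpen_le r)).op).toAlgebra
  letI algS : Algebra (𝒮.presheaf.obj (op U)) (𝒮.presheaf.obj (op (Y.basicOpen r))) :=
    (𝒮.presheaf.map (homOfLE (Y.basicOpen_le r)).op).hom.toAlgebra
  haveI hloc : IsLocalization.Away ((𝒮.str.app (op U)).hom r)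
      (𝒮.presheaf.obj (op (Y.basicOpen r))) := 𝒮.isQC U hU r
  have key := IsLocalization.of_surjective
    (M := Submonoid.powers ((𝒮.str.app (op U)).hom r))
    (S := 𝒮.presheaf.obj (op (Y.basicOpen r)))
    (R' := 𝒮.presheaf.obj (op U) ⧸ Ipre chart 𝒥 U)
    (S' := 𝒮.presheaf.obj (op (Y.basicOpen r)) ⧸ Ipre chart 𝒥 (Y.basicOpen r))
    (Ideal.Quotient.mk (Ipre chart 𝒥 U)) Ideal.Quotient.mk_surjective
    (Ideal.Quotient.mk (Ipre chart 𝒥 (Y.basicOpen r))) Ideal.Quotient.mk_surjective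
    (by
      apply RingHom.ext
      intro a
      exact (qmap_mk chart 𝒥 (homOfLE (Y.basicOpen_le r)).op a).symm)
    (by
      rw [Ideal.mk_ker, Ideal.mk_ker]
      intro b hb
      rw [Ipre_affine 𝒥 hP hft _ (hU.basicOpen r)] at hb
      obtain ⟨m, a, ha, heq⟩ := exists_lift_Isat 𝒥 hP hft U hU r b hb
      obtain ⟨v, hv⟩ := exists_inv_str (𝒮 := 𝒮) U hU r
      have hb' : b = ((𝒮.str.app (op (Y.basicOpen r))).hom v) ^ m *
          (𝒮.res hU (hU.basicOpen r) (Y.basicOpen_le r)) a := by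
        rw [heq, ← mul_assoc, ← mul_pow, mul_comm _ ((𝒮.res hU (hU.basicOpen r)
          (Y.basicOpen_le r)) _), hv, one_pow, one_mul]
      rw [hb']
      refine Ideal.mul_mem_left _ _ (Ideal.mem_map_of_mem _ ?_)
      rw [Ipre_affine 𝒥 hP hft U hU]
      exact ha)
  rw [Submonoid.map_powers] at key
  exact key

/-- the presheaf datum -/
def QP (hP : RelProj.IsRelProj 𝒮 p chart) (hft : 𝒮.IsFTDeg 1) : PreAlg Y :=
  ⟨Qpre chart 𝒥, Qstr chart 𝒥, Qpre_isQC 𝒥 hP hft⟩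

section Quot

variable (hP : RelProj.IsRelProj 𝒮 p chart) (hft : 𝒮.IsFTDeg 1)

/-- the quotient homomorphism of quasi-coherent algebras -/
def qHom : 𝒮.toQCAlg ⟶ (QP 𝒥 hP hft).sh :=
  ⟨mkQ chart 𝒥 ≫ toSh (QP 𝒥 hP hft),
    (Category.assoc _ _ _).symm.trans (str_toSh (QP 𝒥 hP hft))⟩

/-- the quotient map on sections -/
def ψq (U : Y.Opens) : 𝒮.presheaf.obj (op U) →+* (QP 𝒥 hP hft).sh.presheaf.obj (op U) :=
  ((qHom 𝒥 hP hft).hom.app (op U)).hom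

lemma ψq_apply (U : Y.Opens) (a : 𝒮.presheaf.obj (op U)) :
    ψq 𝒥 hP hft U a = ((toSh (QP 𝒥 hP hft)).app (op U)).hom
      (Ideal.Quotient.mk (Ipre chart 𝒥 U) a) := rfl

lemma toSh_injective (U : Y.Opens) (hU : IsAffineOpen U) :
    Function.Injective ((toSh (QP 𝒥 hP hft)).app (op U)).hom := by
  intro x y hxy
  have h := toSh_gammaAff (QP 𝒥 hP hft) U hU
  have hx : ((QP 𝒥 hP hft).gammaAff U hU).hom (((toSh (QP 𝒥 hP hft)).app (op U)).hom x) = x :=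
    congr($h x)
  have hy : ((QP 𝒥 hP hft).gammaAff U hU).hom (((toSh (QP 𝒥 hP hft)).app (op U)).hom y) = y :=
    congr($h y)
  rw [← hx, ← hy, hxy]

lemma toSh_surjective (U : Y.Opens) (hU : IsAffineOpen U) :
    Function.Surjective ((toSh (QP 𝒥 hP hft)).app (op U)).hom := by
  intro z
  have h := gammaAff_toSh (QP 𝒥 hP hft) U hU
  exact ⟨((QP 𝒥 hP hft).gammaAff U hU).hom z, congr($h z)⟩

lemma ψq_surjective (U : Y.Opens) (hU : IsAffineOpen U) :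
    Function.Surjective (ψq 𝒥 hP hft U) := by
  intro z
  obtain ⟨x, hx⟩ := toSh_surjective 𝒥 hP hft U hU z
  obtain ⟨a, rfl⟩ := Ideal.Quotient.mk_surjective x
  exact ⟨a, hx⟩

lemma ψq_eq_zero_iff (U : Y.Opens) (hU : IsAffineOpen U) (a : 𝒮.presheaf.obj (op U)) :
    ψq 𝒥 hP hft U a = 0 ↔ a ∈ Isat chart 𝒥 U hU := by
  rw [ψq_apply, ← Ipre_affine 𝒥 hP hft U hU, ← Ideal.Quotient.eq_zero_iff_mem]
  constructor
  · intro h
    exact toSh_injective 𝒥 hP hft U hU (h.trans (map_zero _).symm)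
  · intro h
    have h' : ((toSh (QP 𝒥 hP hft)).app (op U)).hom (Ideal.Quotient.mk (Ipre chart 𝒥 U) a) =
        ((toSh (QP 𝒥 hP hft)).app (op U)).hom
          (0 : 𝒮.presheaf.obj (op U) ⧸ Ipre chart 𝒥 U) := congrArg _ h
    exact h'.trans (map_zero ((toSh (QP 𝒥 hP hft)).app (op U)).hom)

lemma ψq_hk (U : Y.Opens) (hU : IsAffineOpen U) (a : 𝒮.presheaf.obj (op U))
    (ha : ψq 𝒥 hP hft U a = 0) (n : ℕ) :
    ψq 𝒥 hP hft U (decompose (𝒮.deg U hU) a n : 𝒮.presheaf.obj (op U)) = 0 :=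
  (ψq_eq_zero_iff 𝒥 hP hft U hU _).mpr
    (decompose_mem_Isat chart 𝒥 U hU ((ψq_eq_zero_iff 𝒥 hP hft U hU a).mp ha) n)

lemma ψq_res {U V : Y.Opens} (i : V ≤ U) (a : 𝒮.presheaf.obj (op U)) :
    ((QP 𝒥 hP hft).sh.presheaf.map (homOfLE i).op).hom (ψq 𝒥 hP hft U a) =
      ψq 𝒥 hP hft V ((𝒮.presheaf.map (homOfLE i).op).hom a) :=
  (congr($((qHom 𝒥 hP hft).hom.naturality (homOfLE i).op) a)).symm

lemma ψq_str (U : Y.Opens) (r : Γ(Y, U)) :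
    ψq 𝒥 hP hft U ((𝒮.str.app (op U)).hom r) = ((QP 𝒥 hP hft).sh.str.app (op U)).hom r :=
  congr($(NatTrans.congr_app (qHom 𝒥 hP hft).comm (op U)) r)

/-- the graded quotient algebra -/
def Bq : RelProj.QCGrAlg Y where
  toQCAlg := (QP 𝒥 hP hft).sh
  deg U hU := imGr (𝒮.deg U hU) (ψq 𝒥 hP hft U) (ψq_surjective 𝒥 hP hft U hU)
    (ψq_hk 𝒥 hP hft U hU)
  graded U hU := imGr_gradedRing (𝒮.deg U hU) (ψq 𝒥 hP hft U) (ψq_surjective 𝒥 hP hft U hU)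
    (ψq_hk 𝒥 hP hft U hU)
  map_mem := by
    intro U V hU hV i d x hx
    obtain ⟨a, ha, rfl⟩ := (mem_imGr _ _ _ _).mp hx
    refine (mem_imGr _ _ _ _).mpr ⟨(𝒮.presheaf.map (homOfLE i).op).hom a,
      𝒮.map_mem hU hV i ha, ?_⟩
    exact (ψq_res 𝒥 hP hft i a).symm
  str_mem := by
    intro U hU r
    exact (mem_imGr _ _ _ _).mpr ⟨(𝒮.str.app (op U)).hom r, 𝒮.str_mem U hU r,
      ψq_str 𝒥 hP hft U r⟩

lemma mem_Bq_deg {U : Y.Opens} {hU : IsAffineOpen U} {d : ℕ}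
    {x : (Bq 𝒥 hP hft).presheaf.obj (op U)} :
    x ∈ (Bq 𝒥 hP hft).deg U hU d ↔ ∃ a ∈ 𝒮.deg U hU d, ψq 𝒥 hP hft U a = x :=
  mem_imGr _ _ _ _

/-- the quotient homomorphism, to the graded quotient -/
def qHomB : 𝒮.toQCAlg ⟶ (Bq 𝒥 hP hft).toQCAlg := qHom 𝒥 hP hft

lemma isGradedHom_qHomB : RelProj.IsGradedHom (qHomB 𝒥 hP hft) := by
  intro U hU d x hx
  exact (mem_Bq_deg 𝒥 hP hft).mpr ⟨x, hx, rfl⟩

lemma qHomB_surjective (U : Y.Opens) (hU : IsAffineOpen U) :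
    Function.Surjective ((qHomB 𝒥 hP hft).hom.app (op U)).hom :=
  ψq_surjective 𝒥 hP hft U hU

end Quot

section Props

variable (hP : RelProj.IsRelProj 𝒮 p chart) (hft : 𝒮.IsFTDeg 1)

lemma Bq_genDegOne (hgen : 𝒮.IsGenDegOne) : (Bq 𝒥 hP hft).IsGenDegOne := by
  intro U hU
  rw [eq_top_iff]
  intro z _
  obtain ⟨a, rfl⟩ := ψq_surjective 𝒥 hP hft U hU z
  have ha : a ∈ Subring.closure ((𝒮.deg U hU 0 : Set (𝒮.presheaf.obj (op U))) ∪
      (𝒮.deg U hU 1 : Set _)) := by rw [hgen U hU]; trivial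
  have hle : Subring.closure ((𝒮.deg U hU 0 : Set (𝒮.presheaf.obj (op U))) ∪
      (𝒮.deg U hU 1 : Set _)) ≤
      (Subring.closure (((Bq 𝒥 hP hft).deg U hU 0 : Set ((Bq 𝒥 hP hft).presheaf.obj (op U))) ∪
        ((Bq 𝒥 hP hft).deg U hU 1 : Set _))).comap (ψq 𝒥 hP hft U) := by
    rw [Subring.closure_le]
    rintro x (hx | hx)
    · exact Subring.subset_closure (Or.inl ((mem_Bq_deg 𝒥 hP hft).mpr ⟨x, hx, rfl⟩))
    · exact Subring.subset_closure (Or.inr ((mem_Bq_deg 𝒥 hP hft).mpr ⟨x, hx, rfl⟩))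
  exact hle ha

lemma Bq_ftDeg_aux (U : Y.Opens) (hU : IsAffineOpen U) :
    ∃ T : Finset ((QP 𝒥 hP hft).sh.presheaf.obj (op U)),
      (↑T : Set ((QP 𝒥 hP hft).sh.presheaf.obj (op U))) ⊆
        (imGr (𝒮.deg U hU) (ψq 𝒥 hP hft U) (ψq_surjective 𝒥 hP hft U hU)
          (ψq_hk 𝒥 hP hft U hU) 1 : Set _) ∧
      ∀ x ∈ imGr (𝒮.deg U hU) (ψq 𝒥 hP hft U) (ψq_surjective 𝒥 hP hft U hU)
          (ψq_hk 𝒥 hP hft U hU) 1,
        ∃ c : ((QP 𝒥 hP hft).sh.presheaf.obj (op U)) → Γ(Y, U),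
          x = ∑ t ∈ T, ((QP 𝒥 hP hft).sh.str.app (op U)).hom (c t) * t := by
  classical
  obtain ⟨T, hT, hgen⟩ := hft U hU
  obtain ⟨ψ, hψ⟩ : ∃ ψ : 𝒮.presheaf.obj (op U) →+* (QP 𝒥 hP hft).sh.presheaf.obj (op U),
      ψ = ψq 𝒥 hP hft U := ⟨_, rfl⟩
  refine ⟨T.image ψ, ?_, ?_⟩
  · intro x hx
    obtain ⟨t, ht, rfl⟩ := Finset.mem_image.mp (Finset.mem_coe.mp hx)
    rw [hψ]
    exact (mem_imGr _ _ _ _).mpr ⟨t, hT (Finset.mem_coe.mpr ht), rfl⟩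
  · intro x hx
    obtain ⟨a, ha, rfl⟩ := (mem_imGr _ _ _ _).mp hx
    obtain ⟨c, hc⟩ := hgen a ha
    refine ⟨fun t' => ∑ t ∈ T.filter (fun t => ψ t = t'), c t, ?_⟩
    have hstr : ∀ r : Γ(Y, U), ψ ((𝒮.str.app (op U)).hom r) =
        ((QP 𝒥 hP hft).sh.str.app (op U)).hom r := by
      intro r; rw [hψ]; exact ψq_str 𝒥 hP hft U r
    have h1 : ψq 𝒥 hP hft U a =
        ∑ t ∈ T, ((QP 𝒥 hP hft).sh.str.app (op U)).hom (c t) * ψ t := by
      rw [← hψ, hc, map_sum]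
      refine Finset.sum_congr rfl fun t _ => ?_
      rw [map_mul, hstr]
    rw [h1]
    symm
    refine Finset.sum_image' (fun t => ((QP 𝒥 hP hft).sh.str.app (op U)).hom (c t) * ψ t) ?_
    intro t ht
    rw [map_sum, Finset.sum_mul]
    refine Finset.sum_congr rfl fun t₂ ht₂ => ?_
    rw [(Finset.mem_filter.mp ht₂).2]

lemma Bq_ftDeg : (Bq 𝒥 hP hft).IsFTDeg 1 := fun U hU => Bq_ftDeg_aux 𝒥 hP hft U hU

lemma Bq_hirr (U : Y.Opens) (hU : IsAffineOpen U) :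
    ((Bq 𝒥 hP hft).deg U hU)₊ ≤ ((𝒮.deg U hU)₊).map
      (RelProj.gradedHomAt (qHomB 𝒥 hP hft) (isGradedHom_qHomB 𝒥 hP hft) U hU) := by
  rw [HomogeneousIdeal.irrelevant_le]
  intro i hi y hy
  obtain ⟨a, ha, rfl⟩ := (mem_Bq_deg 𝒥 hP hft).mp hy
  exact Ideal.mem_map_of_mem _ (HomogeneousIdeal.mem_irrelevant_of_mem _ hi ha)

end Props

end

end Groth.Agent.H4.ClIm6
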