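import Mathlib

set_option autoImplicit false

namespace Groth.Agent.H4.ProjFT

open AlgebraicGeometry CategoryTheory Limits HomogeneousLocalization DirectSum
open scoped HomogeneousIdeal

universe u

variable {R A : Type u} [CommRing R] [CommRing A] (𝒜 : ℕ → AddSubgroup A) [GradedRing 𝒜]
  (ψ : R →+* 𝒜 0) (T : Finset A) (hT : ∀ t ∈ T, t ∈ 𝒜 1)
  (hspan : ∀ x ∈ 𝒜 1, ∃ c : A → R, x = ∑ t ∈ T, ((ψ (c t) : 𝒜 0) : A) * t)
  (hgen : Subring.closure ((𝒜 0 : Set A) ∪ (𝒜 1 : Set A)) = ⊤)

include hspan hgen in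
theorem adjoin_eq_top : Algebra.adjoin (𝒜 0) (T : Set A) = ⊤ := by
  rw [eq_top_iff]
  intro x _
  have hx : x ∈ Subring.closure ((𝒜 0 : Set A) ∪ (𝒜 1 : Set A)) := by rw [hgen]; trivial
  have hle : Subring.closure ((𝒜 0 : Set A) ∪ (𝒜 1 : Set A)) ≤
      (Algebra.adjoin (𝒜 0) (T : Set A)).toSubring := by
    rw [Subring.closure_le]
    rintro a (ha | ha)
    · exact (Algebra.adjoin (𝒜 0) (T : Set A)).algebraMap_mem ⟨a, ha⟩
    · obtain ⟨c, rfl⟩ := hspan a ha
      refine Subring.sum_mem _ fun t ht => ?_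
      exact Subring.mul_mem _ ((Algebra.adjoin (𝒜 0) (T : Set A)).algebraMap_mem (ψ (c t)))
        (Algebra.subset_adjoin ht)
  exact hle hx

include hT in
/-- the key statement, in the localization. -/
theorem key_mem {t : A} (ht : t ∈ T) (Z : Subring (Localization (Submonoid.powers t)))
    (hZ0 : ∀ r : R, Localization.mk ((ψ r : 𝒜 0) : A) (1 : Submonoid.powers t) ∈ Z)
    (hZ1 : ∀ t' ∈ T, Localization.mk t' (⟨t, Submonoid.mem_powers t⟩ : Submonoid.powers t) ∈ Z)
    (hspan : ∀ x ∈ 𝒜 1, ∃ c : A → R, x = ∑ t ∈ T, ((ψ (c t) : 𝒜 0) : A) * t)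
    (hgen : Subring.closure ((𝒜 0 : Set A) ∪ (𝒜 1 : Set A)) = ⊤)
    (n : ℕ) (a : A) (ha : a ∈ 𝒜 n) :
    Localization.mk a (⟨t ^ n, n, rfl⟩ : Submonoid.powers t) ∈ Z := by
  -- deg one elements over t
  have h1 : ∀ x ∈ 𝒜 1, Localization.mk x (⟨t, Submonoid.mem_powers t⟩ : Submonoid.powers t) ∈ Z := by
    intro x hx
    obtain ⟨c, rfl⟩ := hspan x hx
    rw [Localization.mk_sum]
    refine Subring.sum_mem _ fun t' ht' => ?_
    have : Localization.mk (((ψ (c t') : 𝒜 0) : A) * t')
        (⟨t, Submonoid.mem_powers t⟩ : Submonoid.powers t) =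
        Localization.mk ((ψ (c t') : 𝒜 0) : A) (1 : Submonoid.powers t) *
        Localization.mk t' (⟨t, Submonoid.mem_powers t⟩ : Submonoid.powers t) := by
      rw [Localization.mk_mul, one_mul]
    rw [this]
    exact Subring.mul_mem _ (hZ0 _) (hZ1 t' ht')
  have h0 : ∀ x ∈ 𝒜 0, Localization.mk x (1 : Submonoid.powers t) ∈ Z := by
    intro x hx
    have hxt : x * t ∈ 𝒜 1 := by
      have := SetLike.mul_mem_graded hx (hT t ht)
      simpa using this
    have := h1 (x * t) hxt
    have e : Localization.mk (x * t) (⟨t, Submonoid.mem_powers t⟩ : Submonoid.powers t) =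
        Localization.mk x (1 : Submonoid.powers t) := by
      rw [Localization.mk_eq_mk_iff, Localization.r_iff_exists]
      exact ⟨1, by simp [mul_comm]⟩
    rwa [e] at this
  -- the predicate
  let F : ℕ → A → Localization (Submonoid.powers t) := fun n a =>
    Localization.mk ((decompose 𝒜 a n : 𝒜 n) : A) (⟨t ^ n, n, rfl⟩ : Submonoid.powers t)
  have hF_add : ∀ n a b, F n (a + b) = F n a + F n b := by
    intro n a b
    simp only [F, decompose_add, DirectSum.add_apply, AddSubgroup.coe_add]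
    exact (Localization.mkAddMonoidHom _).map_add _ _
  have hF_zero : ∀ n, F n 0 = 0 := by
    intro n
    simp only [F, decompose_zero, DirectSum.zero_apply, ZeroMemClass.coe_zero]
    exact Localization.mk_zero _
  have hF_neg : ∀ n a, F n (-a) = - F n a := by
    intro n a
    have := hF_add n (-a) a
    rw [neg_add_cancel, hF_zero] at this
    exact eq_neg_of_add_eq_zero_left this.symm
  have hF_same : ∀ n a, a ∈ 𝒜 n → F n a = Localization.mk a (⟨t ^ n, n, rfl⟩ : Submonoid.powers t) := by
    intro n a ha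
    simp only [F, decompose_of_mem_same 𝒜 ha]
  have hF_ne : ∀ m n a, a ∈ 𝒜 m → m ≠ n → F n a = 0 := by
    intro m n a ha hmn
    simp only [F, decompose_of_mem_ne 𝒜 ha hmn]
    exact Localization.mk_zero _
  have hF_mul : ∀ n a b, F n (a * b) = ∑ ij ∈ Finset.HasAntidiagonal.antidiagonal n, F ij.1 a * F ij.2 b := by
    intro n a b
    simp only [F, decompose_mul, DirectSum.coe_mul_apply_eq_sum_antidiagonal, Localization.mk_sum]
    refine Finset.sum_congr rfl fun ij hij => ?_
    rw [Localization.mk_mul]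
    congr 1
    ext
    simp only [Submonoid.coe_mul, ← pow_add]
    rw [Finset.HasAntidiagonal.mem_antidiagonal.mp hij]
  have hall : ∀ x : A, ∀ n, F n x ∈ Z := by
    intro x
    have hx : x ∈ Subring.closure ((𝒜 0 : Set A) ∪ (𝒜 1 : Set A)) := by rw [hgen]; trivial
    induction hx using Subring.closure_induction with
    | mem a ha =>
      intro n
      rcases ha with ha | ha
      · by_cases hn : 0 = n
        · subst hn
          rw [hF_same 0 a ha]
          have := h0 a ha
          convert this using 2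
          ext
          simp
        · rw [hF_ne 0 n a ha hn]; exact zero_mem _
      · by_cases hn : 1 = n
        · subst hn
          rw [hF_same 1 a ha]
          have := h1 a ha
          convert this using 2
          ext
          simp
        · rw [hF_ne 1 n a ha hn]; exact zero_mem _
    | zero => intro n; rw [hF_zero]; exact zero_mem _
    | one =>
      intro n
      have h1mem : (1 : A) ∈ 𝒜 0 := SetLike.GradedOne.one_mem
      by_cases hn : 0 = n
      · subst hn
        rw [hF_same 0 1 h1mem]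
        have := h0 1 h1mem
        convert this using 2
        ext
        simp
      · rw [hF_ne 0 n 1 h1mem hn]; exact zero_mem _
    | add a b _ _ iha ihb => intro n; rw [hF_add]; exact add_mem (iha n) (ihb n)
    | neg a _ iha => intro n; rw [hF_neg]; exact neg_mem (iha n)
    | mul a b _ _ iha ihb =>
      intro n
      rw [hF_mul]
      exact Subring.sum_mem _ fun ij _ => Subring.mul_mem _ (iha _) (ihb _)
  have := hall a n
  rwa [hF_same n a ha] at this


include hT hspan hgen in
theorem away_finiteType {t : A} (ht : t ∈ T) :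
    ((fromZeroRingHom 𝒜 (Submonoid.powers t)).comp ψ).FiniteType := by
  classical
  letI := ((fromZeroRingHom 𝒜 (Submonoid.powers t)).comp ψ).toAlgebra
  have ht1 : t ∈ 𝒜 1 := hT t ht
  let gen : T → Away 𝒜 t := fun t' => Away.mk 𝒜 ht1 1 t'.1 (by simpa using hT t'.1 t'.2)
  let Z0 : Subalgebra R (Away 𝒜 t) := Algebra.adjoin R (Set.range gen)
  let Z : Subring (Localization (Submonoid.powers t)) :=
    Z0.toSubring.map (algebraMap (Away 𝒜 t) (Localization (Submonoid.powers t)))
  have hZ0 : ∀ r : R, Localization.mk ((ψ r : 𝒜 0) : A) (1 : Submonoid.powers t) ∈ Z := by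
    intro r
    refine ⟨algebraMap R (Away 𝒜 t) r, Z0.algebraMap_mem r, ?_⟩
    rfl
  have hZ1 : ∀ t' ∈ T, Localization.mk t' (⟨t, Submonoid.mem_powers t⟩ : Submonoid.powers t) ∈ Z := by
    intro t' ht'
    refine ⟨gen ⟨t', ht'⟩, Algebra.subset_adjoin ⟨_, rfl⟩, ?_⟩
    rw [HomogeneousLocalization.algebraMap_apply, HomogeneousLocalization.Away.val_mk]
    congr 1
    ext
    simp
  change Algebra.FiniteType R (Away 𝒜 t)
  refine ⟨⟨Finset.univ.image gen, ?_⟩⟩
  rw [Finset.coe_image, Finset.coe_univ, Set.image_univ, eq_top_iff]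
  intro x _
  obtain ⟨n, a, ha, rfl⟩ := Away.mk_surjective 𝒜 ht1 x
  have ha' : a ∈ 𝒜 n := by simpa using ha
  obtain ⟨z, hz, hzx⟩ := key_mem 𝒜 ψ T hT ht Z hZ0 hZ1 hspan hgen n a ha'
  have hzz : z = Away.mk 𝒜 ht1 n a ha := by
    apply HomogeneousLocalization.val_injective
    rw [HomogeneousLocalization.Away.val_mk]
    exact hzx
  rw [← hzz]
  exact hz


include hT hspan hgen in
theorem iSup_basicOpen_eq_top : ⨆ t : T, Proj.basicOpen 𝒜 (t : A) = ⊤ := by
  have h1 : Algebra.adjoin (𝒜 0) (Set.range (fun i : T => (i : A))) = ⊤ := by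
    have h2 : Set.range (fun i : T => (i : A)) = (T : Set A) := by
      ext x
      simp
    rw [h2]
    exact adjoin_eq_top 𝒜 ψ T hspan hgen
  exact Proj.iSup_basicOpen_eq_top' 𝒜 (ι := T) (fun i : T => (i : A)) (fun i => ⟨1, hT _ i.2⟩) h1

include hT hspan hgen in
set_option backward.isDefEq.respectTransparency false in
theorem locallyOfFiniteType :
    LocallyOfFiniteType (Proj.toSpecZero 𝒜 ≫ Spec.map (CommRingCat.ofHom ψ)) := by
  rw [IsZariskiLocalAtSource.iff_of_iSup_eq_top (P := @LocallyOfFiniteType) _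
    (iSup_basicOpen_eq_top 𝒜 ψ T hT hspan hgen)]
  intro i
  rw [← MorphismProperty.cancel_left_of_respectsIso (P := @LocallyOfFiniteType)
    (Proj.basicOpenIsoSpec 𝒜 (i : A) (hT _ i.2) Nat.one_pos).inv, ← Category.assoc, ← Category.assoc,
    ← Proj.awayι, Proj.awayι_toSpecZero, ← Spec.map_comp, ← CommRingCat.ofHom_comp,
    HasRingHomProperty.Spec_iff (P := @LocallyOfFiniteType)]
  exact away_finiteType 𝒜 ψ T hT hspan hgen i.2

include hT hspan hgen in
set_option backward.isDefEq.respectTransparency false in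
theorem quasiCompact :
    QuasiCompact (Proj.toSpecZero 𝒜 ≫ Spec.map (CommRingCat.ofHom ψ)) := by
  rw [HasAffineProperty.iff_of_isAffine (P := @QuasiCompact)]
  have H (i : T) : IsCompact (Proj.basicOpen 𝒜 (i : A)).1 := by
    rw [← Proj.opensRange_awayι _ _ (hT _ i.2) Nat.one_pos]
    exact isCompact_range (Proj.awayι _ _ (hT _ i.2) Nat.one_pos).continuous
  have := congr($(iSup_basicOpen_eq_top 𝒜 ψ T hT hspan hgen).1)
  simp only [TopologicalSpace.Opens.iSup_mk, TopologicalSpace.Opens.carrier_eq_coe,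
    TopologicalSpace.Opens.coe_mk, TopologicalSpace.Opens.coe_top] at this
  rw [← isCompact_univ_iff, ← this]
  exact isCompact_iUnion H

end Groth.Agent.H4.ProjFT
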