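import Mathlib
import Groth.Prelude.Def_RelProj4
import Groth.Agent.H4.ClIm6
import Groth.Agent.H4.ProjFT
import Groth.Agent.H4.ConeRetr
import Groth.Agent.S8258
import Groth.Agent.S8262
import Groth.Agent.S8263

set_option autoImplicit false
set_option linter.style.haveILetI false
set_option linter.unusedSectionVars false
set_option linter.unusedVariables false

namespace Groth.Agent.H4.ClIm7

open CategoryTheory CategoryTheory.Limits AlgebraicGeometry TopologicalSpace Opposite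
open DirectSum HomogeneousLocalization
open Groth.Agent.H4.ClIm1 Groth.Agent.H4.ClIm2 Groth.Agent.H4.ClIm3 Groth.Agent.H4.ClIm4
open Groth.Agent.H4.ClIm5 Groth.Agent.H4.ClIm6
open Groth.Agent.H4.ConeImm Groth.Agent.H4.ConeRetr
open scoped HomogeneousIdeal

universe u

noncomputable section

section Cover

variable {Y P : Scheme.{u}} {𝒮 : RelProj.QCGrAlg Y} {p : P ⟶ Y}
  (chart : ∀ (U : Y.Opens) (hU : IsAffineOpen U),
    (((p ⁻¹ᵁ U : P.Opens) : Scheme.{u}) ≅ Proj (𝒮.deg U hU)))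

/-- the degree-one standard charts cover the relative Proj -/
theorem exists_chart_deg_one (hgen : 𝒮.IsGenDegOne) (hft : 𝒮.IsFTDeg 1) (z : P)
    (U : Y.Opens) (hU : IsAffineOpen U) (hz : p.base z ∈ U) :
    ∃ (t : 𝒮.presheaf.obj (op U)) (ht : t ∈ 𝒮.deg U hU 1),
      z ∈ Set.range (jc chart U hU one_pos t ht).base := by
  obtain ⟨w, hw⟩ := exists_emb p chart z U hU hz
  obtain ⟨T, hT, hspan⟩ := hft U hU
  have hT' : ∀ t ∈ T, t ∈ 𝒮.deg U hU 1 := fun t ht => hT (Finset.mem_coe.mpr ht)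
  have hcov := Groth.Agent.H4.ProjFT.iSup_basicOpen_eq_top (𝒮.deg U hU) (𝒮.strZero U hU).hom T hT'
    (fun x hx => hspan x hx) (hgen U hU)
  have hw' : w ∈ (⨆ t : T, Proj.basicOpen (𝒮.deg U hU) (t : 𝒮.presheaf.obj (op U))) := by
    rw [hcov]; trivial
  obtain ⟨⟨t, ht⟩, hwt⟩ := Opens.mem_iSup.mp hw'
  obtain ⟨v, hv⟩ := exists_awayι_eq (𝒮.deg U hU) one_pos t (hT' t ht) w hwt
  refine ⟨t, hT' t ht, v, ?_⟩
  show (RelProj.emb p chart U hU).base ((Proj.awayι (𝒮.deg U hU) t (hT' t ht) one_pos).base v) = z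
  rw [hv, hw]

end Cover

section KerChart

variable {Y PA PB : Scheme.{u}} {𝒜 ℬ : RelProj.QCGrAlg Y}
  (φ : 𝒜.toQCAlg ⟶ ℬ.toQCAlg) (hφ : RelProj.IsGradedHom φ)
  (hirr : ∀ (U : Y.Opens) (hU : IsAffineOpen U),
    (ℬ.deg U hU)₊ ≤ ((𝒜.deg U hU)₊).map (RelProj.gradedHomAt φ hφ U hU))
  {pA : PA ⟶ Y} {pB : PB ⟶ Y}
  {chartA : ∀ (U : Y.Opens) (hU : IsAffineOpen U),
    (((pA ⁻¹ᵁ U : PA.Opens) : Scheme.{u}) ≅ Proj (𝒜.deg U hU))}
  {chartB : ∀ (U : Y.Opens) (hU : IsAffineOpen U),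
    (((pB ⁻¹ᵁ U : PB.Opens) : Scheme.{u}) ≅ Proj (ℬ.deg U hU))}
  (h : PB ⟶ PA) (hh : RelProj.IsRelProjMap φ hφ hirr chartA chartB h)

include hh in
theorem emb_comp_h (U : Y.Opens) (hU : IsAffineOpen U) :
    RelProj.emb pB chartB U hU ≫ h =
      Proj.map (RelProj.gradedHomAt φ hφ U hU) (hirr U hU) ≫ RelProj.emb pA chartA U hU := by
  unfold RelProj.emb
  rw [Category.assoc, hh U hU, Iso.inv_hom_id_assoc]

include hh in
theorem jc_comp_h (U : Y.Opens) (hU : IsAffineOpen U) {d : ℕ} (hd : 0 < d)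
    (f : 𝒜.presheaf.obj (op U)) (hf : f ∈ 𝒜.deg U hU d) :
    jc chartB U hU hd ((RelProj.gradedHomAt φ hφ U hU) f)
        ((RelProj.gradedHomAt φ hφ U hU).2 hf) ≫ h =
      Spec.map (CommRingCat.ofHom (Away.map (RelProj.gradedHomAt φ hφ U hU) f)) ≫
        jc chartA U hU hd f hf := by
  unfold jc
  rw [Category.assoc, emb_comp_h φ hφ hirr h hh U hU, ← Category.assoc, ← Category.assoc,
    Proj.awayι_comp_map]

include hh in
theorem jc_preimage (hover : h ≫ pA = pB) (U : Y.Opens) (hU : IsAffineOpen U) {d : ℕ}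
    (hd : 0 < d) (f : 𝒜.presheaf.obj (op U)) (hf : f ∈ 𝒜.deg U hU d) :
    jc chartB U hU hd ((RelProj.gradedHomAt φ hφ U hU) f)
        ((RelProj.gradedHomAt φ hφ U hU).2 hf) ''ᵁ ⊤ =
      h ⁻¹ᵁ (jc chartA U hU hd f hf ''ᵁ ⊤) := by
  apply le_antisymm
  · rintro _ ⟨v, -, rfl⟩
    refine ⟨(Spec.map (CommRingCat.ofHom
      (Away.map (RelProj.gradedHomAt φ hφ U hU) f))).base v, Set.mem_univ _, ?_⟩
    have := congrArg (fun k => k.base v) (jc_comp_h φ hφ hirr h hh U hU hd f hf)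
    exact this.symm
  · rintro x ⟨v, -, hv⟩
    have hxU : pB.base x ∈ U := by
      have h1 : pB.base x = pA.base (h.base x) := by rw [← hover]; rfl
      rw [h1, ← hv]
      exact emb_mem pA chartA U hU _
    obtain ⟨w', hw'⟩ := exists_emb pB chartB x U hU hxU
    have h2 : (RelProj.emb pA chartA U hU).base
        ((Proj.map (RelProj.gradedHomAt φ hφ U hU) (hirr U hU)).base w') = h.base x := by
      have := congrArg (fun k => k.base w') (emb_comp_h φ hφ hirr h hh U hU)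
      rw [← hw']
      exact this.symm
    have h3 : (Proj.map (RelProj.gradedHomAt φ hφ U hU) (hirr U hU)).base w' =
        (Proj.awayι (𝒜.deg U hU) f hf hd).base v := by
      apply (RelProj.emb pA chartA U hU).isOpenEmbedding.injective
      rw [h2, ← hv]
      rfl
    have h4 : w' ∈ Proj.basicOpen (ℬ.deg U hU) ((RelProj.gradedHomAt φ hφ U hU) f) := by
      have : (Proj.map (RelProj.gradedHomAt φ hφ U hU) (hirr U hU)).base w' ∈
          Proj.basicOpen (𝒜.deg U hU) f := by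
        rw [h3]; exact awayι_mem_basicOpen _ hd f hf v
      exact this
    obtain ⟨v', hv'⟩ := exists_awayι_eq (ℬ.deg U hU) hd _
      ((RelProj.gradedHomAt φ hφ U hU).2 hf) w' h4
    refine ⟨v', Set.mem_univ _, ?_⟩
    show (RelProj.emb pB chartB U hU).base ((Proj.awayι (ℬ.deg U hU) _ _ hd).base v') = x
    rw [hv', hw']

include hh in
theorem cI_ker_chart [QuasiCompact h] (hover : h ≫ pA = pB) (U : Y.Opens) (hU : IsAffineOpen U)
    {d : ℕ} (hd : 0 < d) (f : 𝒜.presheaf.obj (op U)) (hf : f ∈ 𝒜.deg U hU d) :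
    J chartA h.ker U hU hd f hf = RingHom.ker (Away.map (RelProj.gradedHomAt φ hφ U hU) f) := by
  unfold J
  exact cI_ker h (CommRingCat.ofHom (Away.map (RelProj.gradedHomAt φ hφ U hU) f))
    (jc chartA U hU hd f hf)
    (jc chartB U hU hd ((RelProj.gradedHomAt φ hφ U hU) f) ((RelProj.gradedHomAt φ hφ U hU).2 hf))
    (jc_comp_h φ hφ hirr h hh U hU hd f hf) (jc_preimage φ hφ hirr h hh hover U hU hd f hf)

end KerChart

section Main

/-- A closed subscheme of the relative Proj of a quasi-coherent graded algebra generated in degree one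
with finite type degree-one part is projective over the base. -/
theorem closed_isProjective {Y P Z : Scheme.{u}} (𝒮 : RelProj.QCGrAlg Y) (hgen : 𝒮.IsGenDegOne)
    (hft : 𝒮.IsFTDeg 1) (p : P ⟶ Y)
    (chart : ∀ (U : Y.Opens) (hU : IsAffineOpen U),
      (((p ⁻¹ᵁ U : P.Opens) : Scheme.{u}) ≅ Proj (𝒮.deg U hU)))
    (hP : RelProj.IsRelProj 𝒮 p chart) (i : Z ⟶ P) [IsClosedImmersion i] :
    RelProj.IsProjective (i ≫ p) := by
  obtain ⟨PB, pB, chartB, hB⟩ := Groth.Agent.S8258.result (Bq i.ker hP hft)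
  obtain ⟨⟨h, hh, -⟩, hover⟩ := Groth.Agent.S8262.result (qHomB i.ker hP hft)
    (isGradedHom_qHomB i.ker hP hft) (Bq_hirr i.ker hP hft) p pB chart chartB hP hB
  haveI : IsClosedImmersion h := Groth.Agent.S8263.result (qHomB i.ker hP hft)
    (isGradedHom_qHomB i.ker hP hft) (qHomB_surjective i.ker hP hft) (Bq_hirr i.ker hP hft)
    p pB chart chartB hP hB h hh
  have hov := hover h hh
  have hker : h.ker = i.ker := by
    haveI : ∀ a : (Σ U : {U : Y.Opens // IsAffineOpen U}, {t : 𝒮.presheaf.obj (op U.1) // t ∈ 𝒮.deg U.1 U.2 1}),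
        IsOpenImmersion (jc chart a.1.1 a.1.2 one_pos a.2.1 a.2.2) := fun a => inferInstance
    refine ideal_ext_of_charts h.ker i.ker
      (ι := Σ U : {U : Y.Opens // IsAffineOpen U}, {t : 𝒮.presheaf.obj (op U.1) // t ∈ 𝒮.deg U.1 U.2 1})
      (fun a => CommRingCat.of (Away (𝒮.deg a.1.1 a.1.2) a.2.1))
      (fun a => jc chart a.1.1 a.1.2 one_pos a.2.1 a.2.2) ?_ ?_
    · intro z
      obtain ⟨U, hU, hzU, -⟩ :=
        exists_isAffineOpen_mem_and_subset (x := p.base z) (U := ⊤) trivial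
      obtain ⟨t, ht, hzt⟩ := exists_chart_deg_one chart hgen hft z U hU hzU
      exact ⟨⟨⟨U, hU⟩, ⟨t, ht⟩⟩, hzt⟩
    · intro a
      show J chart h.ker a.1.1 a.1.2 one_pos a.2.1 a.2.2 =
        J chart i.ker a.1.1 a.1.2 one_pos a.2.1 a.2.2
      rw [cI_ker_chart (qHomB i.ker hP hft) (isGradedHom_qHomB i.ker hP hft)
        (Bq_hirr i.ker hP hft) h hh hov]
      exact ker_awayMap_eq i.ker hft a.1.1 a.1.2 ((Bq i.ker hP hft).deg a.1.1 a.1.2)
        (RelProj.gradedHomAt (qHomB i.ker hP hft) (isGradedHom_qHomB i.ker hP hft) a.1.1 a.1.2)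
        (fun x => ψq_eq_zero_iff i.ker hP hft a.1.1 a.1.2 x) a.2.1 a.2.2
  haveI := IsClosedImmersion.isIso_lift h i hker
  refine ⟨Bq i.ker hP hft, PB, pB, chartB, asIso (IsClosedImmersion.lift h i hker.le),
    Bq_genDegOne i.ker hP hft hgen, Bq_ftDeg i.ker hP hft, hB, ?_⟩
  show IsClosedImmersion.lift h i hker.le ≫ pB = i ≫ p
  rw [← hov, ← Category.assoc, IsClosedImmersion.lift_fac]

end Main

end

end Groth.Agent.H4.ClIm7
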