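import Mathlib
import Groth.Agent.H4.FinProj
import Groth.Agent.H4.ProjG
import Groth.Agent.H4.RelProjEx
import Groth.Agent.S8258

set_option autoImplicit false
universe u
open CategoryTheory CategoryTheory.Limits AlgebraicGeometry TopologicalSpace Opposite
open Groth.Agent.H6.PA Groth.Agent.H4.FinProj
open scoped HomogeneousIdeal

namespace Groth.Agent.H4.MvGr
noncomputable section

/-! ## the total-degree grading on a polynomial ring, by additive subgroups -/

section Deg
variable (n : ℕ) (A : Type u) [CommRing A]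

def mvDeg (d : ℕ) : AddSubgroup (MvPolynomial (Fin (n + 1)) A) :=
  (MvPolynomial.homogeneousSubmodule (Fin (n + 1)) A d).toAddSubgroup

variable {n A} in
lemma mem_mvDeg {d : ℕ} {p : MvPolynomial (Fin (n + 1)) A} :
    p ∈ mvDeg n A d ↔ p.IsHomogeneous d := Iff.rfl

instance mvDeg_gradedMonoid : SetLike.GradedMonoid (mvDeg n A) where
  one_mem := MvPolynomial.isHomogeneous_one _ _
  mul_mem := fun _ _ _ _ ha hb => MvPolynomial.IsHomogeneous.mul ha hb

@[instance_reducible]
instance mvDeg_decomposition : DirectSum.Decomposition (mvDeg n A) where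
  decompose' := fun a =>
    (DirectSum.decompose (MvPolynomial.homogeneousSubmodule (Fin (n + 1)) A) a :
      DirectSum ℕ (fun d => MvPolynomial.homogeneousSubmodule (Fin (n + 1)) A d))
  left_inv := (DirectSum.decompose (MvPolynomial.homogeneousSubmodule (Fin (n + 1)) A)).left_inv
  right_inv := (DirectSum.decompose (MvPolynomial.homogeneousSubmodule (Fin (n + 1)) A)).right_inv

instance mvDeg_gradedRing : GradedRing (mvDeg n A) where
  toGradedMonoid := inferInstance
  toDecomposition := inferInstance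

lemma eq_single_of_degree_eq_one {σ : Type*} (s : σ →₀ ℕ) (h : s.degree = 1) :
    ∃ i, s = Finsupp.single i 1 := by
  classical
  have hs : s ≠ 0 := by
    rintro rfl
    simp at h
  obtain ⟨i, hi⟩ := Finsupp.ne_iff.mp hs
  have hi' : 1 ≤ s i := Nat.one_le_iff_ne_zero.mpr hi
  have hle : Finsupp.single i 1 ≤ s := by
    intro j
    by_cases hj : j = i
    · subst hj; simpa using hi'
    · rw [Finsupp.single_apply, if_neg (Ne.symm hj)]; exact Nat.zero_le _
  have hs2 : s = Finsupp.single i 1 + (s - Finsupp.single i 1) := (add_tsub_cancel_of_le hle).symm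
  have hdeg : (s - Finsupp.single i 1).degree = 0 := by
    have := congrArg Finsupp.degree hs2
    rw [map_add, h, Finsupp.degree_single] at this
    omega
  have hz : s - Finsupp.single i 1 = 0 := (Finsupp.degree_eq_zero_iff _).mp hdeg
  refine ⟨i, ?_⟩
  rw [hs2, hz, add_zero]

variable {n A} in
lemma eq_sum_of_homog_one {p : MvPolynomial (Fin (n + 1)) A} (hp : p.IsHomogeneous 1) :
    p = ∑ i, MvPolynomial.C (p.coeff (Finsupp.single i 1)) * MvPolynomial.X i := by
  classical
  ext s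
  rw [MvPolynomial.coeff_sum]
  by_cases hs : s.degree = 1
  · obtain ⟨i, rfl⟩ := eq_single_of_degree_eq_one s hs
    rw [Finset.sum_eq_single i]
    · rw [MvPolynomial.coeff_C_mul, MvPolynomial.coeff_X, if_pos rfl, mul_one]
    · intro j _ hji
      rw [MvPolynomial.coeff_C_mul, MvPolynomial.coeff_X, if_neg, mul_zero]
      intro h
      exact hji (Finsupp.single_left_injective one_ne_zero h)
    · intro h
      exact absurd (Finset.mem_univ i) h
  · rw [hp.coeff_eq_zero hs]
    symm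
    apply Finset.sum_eq_zero
    intro j _
    rw [MvPolynomial.coeff_C_mul, MvPolynomial.coeff_X, if_neg, mul_zero]
    rintro rfl
    exact hs (Finsupp.degree_single _ _)

end Deg

/-! ## the polynomial algebra `O_Y[T_0, …, T_n]` as a quasi-coherent graded algebra -/

section Mv
variable (n : ℕ) (Y : Scheme.{u})

def mvPre : TopCat.Presheaf CommRingCat.{u} Y.carrier where
  obj U := CommRingCat.of (MvPolynomial (Fin (n + 1)) (Y.presheaf.obj U))
  map i := CommRingCat.ofHom (MvPolynomial.map (Y.presheaf.map i).hom)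
  map_id U := by
    apply CommRingCat.hom_ext
    apply MvPolynomial.ringHom_ext
    · intro a; simp
    · intro i; simp
  map_comp i j := by
    apply CommRingCat.hom_ext
    apply MvPolynomial.ringHom_ext
    · intro a; simp
    · intro i; simp

def mvStr : Y.presheaf ⟶ mvPre n Y where
  app U := CommRingCat.ofHom (MvPolynomial.C : _ →+* MvPolynomial (Fin (n + 1)) (Y.presheaf.obj U))
  naturality U V i := by
    ext a
    show MvPolynomial.C ((Y.presheaf.map i).hom a) =
      MvPolynomial.map (Y.presheaf.map i).hom (MvPolynomial.C a)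
    rw [MvPolynomial.map_C]

theorem mvPre_isQC : RelSpec.IsQC (mvPre n Y) (mvStr n Y) := by
  intro U hU r
  letI : Algebra Γ(Y, U) Γ(Y, Y.basicOpen r) :=
    (Y.presheaf.map (homOfLE (Y.basicOpen_le r)).op).hom.toAlgebra
  haveI : IsLocalization.Away r Γ(Y, Y.basicOpen r) := hU.isLocalization_basicOpen r
  have h := MvPolynomial.isLocalization (σ := Fin (n + 1)) (Submonoid.powers r)
    Γ(Y, Y.basicOpen r)
  rw [Submonoid.map_powers] at h
  exact h

def mvPA : PreAlg Y := ⟨mvPre n Y, mvStr n Y, mvPre_isQC n Y⟩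

def mvQ : RelSpec.QCAlg Y := (mvPA n Y).sh

def tau (U : Y.Opens) : MvPolynomial (Fin (n + 1)) Γ(Y, U) →+* (mvQ n Y).presheaf.obj (op U) :=
  ((toSh (mvPA n Y)).app (op U)).hom

def gam (U : Y.Opens) (hU : IsAffineOpen U) :
    (mvQ n Y).presheaf.obj (op U) →+* MvPolynomial (Fin (n + 1)) Γ(Y, U) :=
  ((mvPA n Y).gammaAff U hU).hom

lemma gam_tau (U : Y.Opens) (hU : IsAffineOpen U) (p : MvPolynomial (Fin (n + 1)) Γ(Y, U)) :
    gam n Y U hU (tau n Y U p) = p :=
  congr($(toSh_gammaAff (mvPA n Y) U hU) p)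

lemma tau_gam (U : Y.Opens) (hU : IsAffineOpen U) (x : (mvQ n Y).presheaf.obj (op U)) :
    tau n Y U (gam n Y U hU x) = x :=
  congr($(gammaAff_toSh (mvPA n Y) U hU) x)

def mvE (U : Y.Opens) (hU : IsAffineOpen U) :
    (mvQ n Y).presheaf.obj (op U) ≃+* MvPolynomial (Fin (n + 1)) Γ(Y, U) :=
  RingEquiv.ofRingHom (gam n Y U hU) (tau n Y U) (RingHom.ext (gam_tau n Y U hU))
    (RingHom.ext (tau_gam n Y U hU))

lemma mvE_tau (U : Y.Opens) (hU : IsAffineOpen U) (p : MvPolynomial (Fin (n + 1)) Γ(Y, U)) :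
    mvE n Y U hU (tau n Y U p) = p := gam_tau n Y U hU p

lemma tau_mvE (U : Y.Opens) (hU : IsAffineOpen U) (x : (mvQ n Y).presheaf.obj (op U)) :
    tau n Y U (mvE n Y U hU x) = x := tau_gam n Y U hU x

lemma mvE_str (U : Y.Opens) (hU : IsAffineOpen U) (r : Γ(Y, U)) :
    mvE n Y U hU (((mvQ n Y).str.app (op U)).hom r) = MvPolynomial.C r :=
  congr($((mvPA n Y).π_app_gammaAff U hU) r)

lemma mvE_res {U V : Y.Opens} (hU : IsAffineOpen U) (hV : IsAffineOpen V) (i : V ≤ U)
    (x : (mvQ n Y).presheaf.obj (op U)) :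
    mvE n Y V hV (((mvQ n Y).presheaf.map (homOfLE i).op).hom x) =
      MvPolynomial.map (Y.presheaf.map (homOfLE i).op).hom (mvE n Y U hU x) :=
  congr($((mvPA n Y).gammaAff_res hU hV i) x)

lemma tau_res {U V : Y.Opens} (i : V ≤ U) (p : MvPolynomial (Fin (n + 1)) Γ(Y, U)) :
    ((mvQ n Y).presheaf.map (homOfLE i).op).hom (tau n Y U p) =
      tau n Y V (MvPolynomial.map (Y.presheaf.map (homOfLE i).op).hom p) :=
  (congr($((toSh (mvPA n Y)).naturality (homOfLE i).op) p)).symm

abbrev mdeg (U : Y.Opens) (hU : IsAffineOpen U) :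
    ℕ → AddSubgroup ((mvQ n Y).presheaf.obj (op U)) :=
  comapGr (mvE n Y U hU) (mvDeg n Γ(Y, U))

lemma mem_mdeg {U : Y.Opens} {hU : IsAffineOpen U} {d : ℕ} {x : (mvQ n Y).presheaf.obj (op U)} :
    x ∈ mdeg n Y U hU d ↔ (mvE n Y U hU x).IsHomogeneous d :=
  (mem_comapGr _ _).trans mem_mvDeg

def mvGr : RelProj.QCGrAlg Y where
  toQCAlg := mvQ n Y
  deg U hU := mdeg n Y U hU
  graded U hU := comapGr_gradedRing (mvE n Y U hU) (mvDeg n Γ(Y, U))
  map_mem := by
    intro U V hU hV i d x hx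
    refine (mem_mdeg n Y).mpr ?_
    rw [mvE_res n Y hU hV i x]
    exact MvPolynomial.IsHomogeneous.map ((mem_mdeg n Y).mp hx) _
  str_mem := by
    intro U hU r
    refine (mem_mdeg n Y).mpr ?_
    rw [mvE_str n Y U hU r]
    exact MvPolynomial.isHomogeneous_C _ _

lemma mv_genDegOne_aux (U : Y.Opens) (hU : IsAffineOpen U) :
    Subring.closure ((mdeg n Y U hU 0 : Set ((mvQ n Y).presheaf.obj (op U))) ∪
      (mdeg n Y U hU 1 : Set ((mvQ n Y).presheaf.obj (op U)))) = ⊤ := by
  rw [eq_top_iff]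
  intro x _
  have hx := tau_mvE n Y U hU x
  rw [← hx]
  generalize mvE n Y U hU x = p
  induction p using MvPolynomial.induction_on with
  | C a =>
    apply Subring.subset_closure
    left
    refine (mem_mdeg n Y).mpr ?_
    rw [mvE_tau]
    exact MvPolynomial.isHomogeneous_C _ _
  | add p q hp hq => rw [map_add]; exact Subring.add_mem _ hp hq
  | mul_X p i hp =>
    rw [map_mul]
    apply Subring.mul_mem _ hp
    apply Subring.subset_closure
    right
    refine (mem_mdeg n Y).mpr ?_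
    rw [mvE_tau]
    exact MvPolynomial.isHomogeneous_X _ _

lemma mv_genDegOne : (mvGr n Y).IsGenDegOne := fun U hU => mv_genDegOne_aux n Y U hU

lemma mv_ftDeg_aux (U : Y.Opens) (hU : IsAffineOpen U) :
    ∃ T : Finset ((mvQ n Y).presheaf.obj (op U)),
      (↑T : Set ((mvQ n Y).presheaf.obj (op U))) ⊆
        (mdeg n Y U hU 1 : Set ((mvQ n Y).presheaf.obj (op U))) ∧
      ∀ x ∈ mdeg n Y U hU 1, ∃ c : ((mvQ n Y).presheaf.obj (op U)) → Γ(Y, U),
        x = ∑ t ∈ T, ((mvQ n Y).str.app (op U)).hom (c t) * t := by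
  classical
  let g : Fin (n + 1) → (mvQ n Y).presheaf.obj (op U) := fun i => tau n Y U (MvPolynomial.X i)
  have hEg : ∀ i, mvE n Y U hU (g i) = MvPolynomial.X i := fun i => mvE_tau n Y U hU _
  refine ⟨Finset.univ.image g, ?_, ?_⟩
  · intro t ht
    obtain ⟨i, -, rfl⟩ := Finset.mem_image.mp (Finset.mem_coe.mp ht)
    refine (mem_mdeg n Y).mpr ?_
    rw [hEg]
    exact MvPolynomial.isHomogeneous_X _ _
  · intro x hx
    rcases subsingleton_or_nontrivial Γ(Y, U) with hsub | hnt
    · have h01 : (1 : (mvQ n Y).presheaf.obj (op U)) = 0 := by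
        rw [← map_one ((mvQ n Y).str.app (op U)).hom, Subsingleton.elim (1 : Γ(Y, U)) 0, map_zero]
      haveI : Subsingleton ((mvQ n Y).presheaf.obj (op U)) :=
        subsingleton_of_zero_eq_one h01.symm
      exact ⟨fun _ => 0, Subsingleton.elim _ _⟩
    · have hg : Function.Injective g := by
        intro i j h
        have := congrArg (mvE n Y U hU) h
        rw [hEg, hEg] at this
        exact MvPolynomial.X_injective this
      have hp := (mem_mdeg n Y).mp hx
      refine ⟨fun t => (mvE n Y U hU x).coeff (Finsupp.single (Function.invFun g t) 1), ?_⟩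
      rw [Finset.sum_image (fun b _ b' _ h => hg h)]
      apply (mvE n Y U hU).injective
      have hterm : ∀ i ∈ (Finset.univ : Finset (Fin (n + 1))), mvE n Y U hU
          (((mvQ n Y).str.app (op U)).hom
            ((mvE n Y U hU x).coeff (Finsupp.single (Function.invFun g (g i)) 1)) * g i) =
          MvPolynomial.C ((mvE n Y U hU x).coeff (Finsupp.single i 1)) * MvPolynomial.X i := by
        intro i _
        rw [map_mul, hEg, mvE_str, Function.leftInverse_invFun hg i]
      rw [map_sum, Finset.sum_congr rfl hterm]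
      exact eq_sum_of_homog_one hp

lemma mv_ftDeg : (mvGr n Y).IsFTDeg 1 := fun U hU => mv_ftDeg_aux n Y U hU

end Mv

/-! ## over an affine base: `Proj` of the polynomial algebra is projective space -/

section SpecCase
variable (n : ℕ) (R : Type u) [CommRing R]

lemma hT : IsAffineOpen (⊤ : (Spec (CommRingCat.of R)).Opens) := isAffineOpen_top _

def gI : Γ(Spec (CommRingCat.of R), ⊤) →+* R := (Scheme.ΓSpecIso (CommRingCat.of R)).hom.hom

def gJ : R →+* Γ(Spec (CommRingCat.of R), ⊤) := (Scheme.ΓSpecIso (CommRingCat.of R)).inv.hom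

lemma gI_gJ (r : R) : gI R (gJ R r) = r :=
  congr($((Scheme.ΓSpecIso (CommRingCat.of R)).inv_hom_id) r)

lemma gJ_gI (x : Γ(Spec (CommRingCat.of R), ⊤)) : gJ R (gI R x) = x :=
  congr($((Scheme.ΓSpecIso (CommRingCat.of R)).hom_inv_id) x)

def toPoly : (mvGr n (Spec (CommRingCat.of R))).presheaf.obj (op ⊤) →+*
    MvPolynomial (Fin (n + 1)) R :=
  (MvPolynomial.map (gI R)).comp (mvE n (Spec (CommRingCat.of R)) ⊤ (hT R)).toRingHom

def ofPoly : MvPolynomial (Fin (n + 1)) R →+*
    (mvGr n (Spec (CommRingCat.of R))).presheaf.obj (op ⊤) :=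
  (tau n (Spec (CommRingCat.of R)) ⊤).comp (MvPolynomial.map (gJ R))

lemma toPoly_apply (x : (mvGr n (Spec (CommRingCat.of R))).presheaf.obj (op ⊤)) :
    toPoly n R x = MvPolynomial.map (gI R) (mvE n (Spec (CommRingCat.of R)) ⊤ (hT R) x) := rfl

lemma ofPoly_apply (p : MvPolynomial (Fin (n + 1)) R) :
    ofPoly n R p = tau n (Spec (CommRingCat.of R)) ⊤ (MvPolynomial.map (gJ R) p) := rfl

lemma toPoly_ofPoly (p : MvPolynomial (Fin (n + 1)) R) : toPoly n R (ofPoly n R p) = p := by
  rw [toPoly_apply, ofPoly_apply, mvE_tau, MvPolynomial.map_map]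
  have : (gI R).comp (gJ R) = RingHom.id R := RingHom.ext (gI_gJ R)
  rw [this, MvPolynomial.map_id]

lemma ofPoly_toPoly (x : (mvGr n (Spec (CommRingCat.of R))).presheaf.obj (op ⊤)) :
    ofPoly n R (toPoly n R x) = x := by
  rw [toPoly_apply, ofPoly_apply, MvPolynomial.map_map]
  have : (gJ R).comp (gI R) = RingHom.id _ := RingHom.ext (gJ_gI R)
  rw [this, MvPolynomial.map_id]
  exact tau_mvE n _ ⊤ (hT R) x

lemma toPoly_mem {d : ℕ} {x : (mvGr n (Spec (CommRingCat.of R))).presheaf.obj (op ⊤)}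
    (hx : x ∈ (mvGr n (Spec (CommRingCat.of R))).deg ⊤ (hT R) d) :
    toPoly n R x ∈ CohB1.polyGrading n R d := by
  rw [toPoly_apply]
  exact (MvPolynomial.mem_homogeneousSubmodule _ _).mpr
    (MvPolynomial.IsHomogeneous.map ((mem_mdeg n _).mp hx) _)

lemma ofPoly_mem {d : ℕ} {p : MvPolynomial (Fin (n + 1)) R}
    (hp : p ∈ CohB1.polyGrading n R d) :
    ofPoly n R p ∈ (mvGr n (Spec (CommRingCat.of R))).deg ⊤ (hT R) d := by
  refine (mem_mdeg n _).mpr ?_
  rw [ofPoly_apply, mvE_tau]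
  exact MvPolynomial.IsHomogeneous.map ((MvPolynomial.mem_homogeneousSubmodule _ _).mp hp) _

def φ₁ : ((mvGr n (Spec (CommRingCat.of R))).deg ⊤ (hT R)) →+*ᵍ (CohB1.polyGrading n R) where
  toRingHom := toPoly n R
  map_mem := fun hx => toPoly_mem n R hx

def φ₂ : (CohB1.polyGrading n R) →+*ᵍ ((mvGr n (Spec (CommRingCat.of R))).deg ⊤ (hT R)) where
  toRingHom := ofPoly n R
  map_mem := fun hx => ofPoly_mem n R hx

lemma φ₁_apply (x : (mvGr n (Spec (CommRingCat.of R))).presheaf.obj (op ⊤)) :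
    φ₁ n R x = toPoly n R x := rfl

lemma φ₂_apply (p : MvPolynomial (Fin (n + 1)) R) : φ₂ n R p = ofPoly n R p := rfl

lemma h₁ : (CohB1.polyGrading n R)₊ ≤
    (((mvGr n (Spec (CommRingCat.of R))).deg ⊤ (hT R))₊).map (φ₁ n R) := by
  rw [HomogeneousIdeal.irrelevant_le]
  intro i hi y hy
  have : y = φ₁ n R (ofPoly n R y) := (toPoly_ofPoly n R y).symm
  rw [this]
  exact Ideal.mem_map_of_mem _ (HomogeneousIdeal.mem_irrelevant_of_mem _ hi (ofPoly_mem n R hy))

lemma h₂ : (((mvGr n (Spec (CommRingCat.of R))).deg ⊤ (hT R))₊) ≤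
    ((CohB1.polyGrading n R)₊).map (φ₂ n R) := by
  rw [HomogeneousIdeal.irrelevant_le]
  intro i hi y hy
  have : y = φ₂ n R (toPoly n R y) := (ofPoly_toPoly n R y).symm
  rw [this]
  exact Ideal.mem_map_of_mem _ (HomogeneousIdeal.mem_irrelevant_of_mem _ hi (toPoly_mem n R hy))

def e₁ : Proj (CohB1.polyGrading n R) ≅ Proj ((mvGr n (Spec (CommRingCat.of R))).deg ⊤ (hT R)) where
  hom := Proj.map (φ₁ n R) (h₁ n R)
  inv := Proj.map (φ₂ n R) (h₂ n R)
  hom_inv_id := by
    rw [← Proj.map_comp]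
    have : (φ₁ n R).comp (φ₂ n R) = GradedRingHom.id _ :=
      DFunLike.ext _ _ (fun p => toPoly_ofPoly n R p)
    exact (Groth.Agent.H4.RelProjEx.projMap_congr this _ (by simp)).trans Proj.map_id
  inv_hom_id := by
    rw [← Proj.map_comp]
    have : (φ₂ n R).comp (φ₁ n R) = GradedRingHom.id _ :=
      DFunLike.ext _ _ (fun p => ofPoly_toPoly n R p)
    exact (Groth.Agent.H4.RelProjEx.projMap_congr this _ (by simp)).trans Proj.map_id

theorem isProjective_toSpec : RelProj.IsProjective (CohB1.ProjSpace.toSpec n R) := by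
  obtain ⟨P, p, chart, hP⟩ := Groth.Agent.S8258.result (mvGr n (Spec (CommRingCat.of R)))
  haveI : IsIso (p ⁻¹ᵁ ⊤).ι := by
    rw [Scheme.Hom.preimage_top]
    exact Iso.isIso_hom P.topIso
  refine ⟨mvGr n (Spec (CommRingCat.of R)), P, p, chart,
    e₁ n R ≪≫ (chart ⊤ (hT R)).symm ≪≫ asIso (p ⁻¹ᵁ ⊤).ι, mv_genDegOne _ _, mv_ftDeg _ _, hP, ?_⟩
  show (Proj.map (φ₁ n R) (h₁ n R) ≫ (chart ⊤ (hT R)).inv ≫ (p ⁻¹ᵁ ⊤).ι) ≫ p = _
  simp only [Category.assoc]
  rw [← hP.chart_over ⊤ (hT R), Iso.inv_hom_id_assoc]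
  rw [← Category.assoc, Groth.Agent.H4.ProjG.map_toSpecZero, Category.assoc]
  unfold CohB1.ProjSpace.toSpec
  congr 1
  rw [IsAffineOpen.fromSpec_top, Scheme.isoSpec_Spec_inv, ← Spec.map_comp, ← Spec.map_comp]
  congr 1
  refine CommRingCat.hom_ext (RingHom.ext fun r => Subtype.ext ?_)
  show MvPolynomial.map (gI R) (mvE n (Spec (CommRingCat.of R)) ⊤ (hT R)
      (((mvQ n (Spec (CommRingCat.of R))).str.app (op ⊤)).hom (gJ R r))) = MvPolynomial.C r
  rw [mvE_str, MvPolynomial.map_C, gI_gJ]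

end SpecCase

end

end Groth.Agent.H4.MvGr
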