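import Groth.Agent.H4.ProjBC
import Groth.Prelude.Def_RelProj2

set_option autoImplicit false
set_option linter.style.haveILetI false
set_option linter.unusedSectionVars false

namespace Groth.Agent.H4.ProjBC2

open CategoryTheory CategoryTheory.Limits AlgebraicGeometry TopologicalSpace Opposite
open HomogeneousLocalization
open Groth.Agent.H4 Groth.Agent.H4.RelSpecLib Groth.Agent.H4.ConeImm Groth.Agent.H4.ConeInf
open Groth.Agent.H4.ConeRetrAlg Groth.Agent.H4.ConeRetr Groth.Agent.H4.ConeRetr2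
open Groth.Agent.H4.ProjQ Groth.Agent.H4.ProjQ2 Groth.Agent.H4.ProjBC
open scoped HomogeneousIdeal

universe u

section Cube

/-- a commutative square covered by pullback squares of open charts is a pullback square -/
theorem isPullback_of_cubes {W X Y' Y : Scheme.{u}} (h : W ⟶ X) (q : W ⟶ Y') (p : X ⟶ Y)
    (ψ : Y' ⟶ Y) (comm : h ≫ p = q ≫ ψ) {K : Type u}
    (Wk Xk Yk' Yk : K → Scheme.{u})
    (wk : ∀ k, Wk k ⟶ W) (xk : ∀ k, Xk k ⟶ X) (yk' : ∀ k, Yk' k ⟶ Y') (yk : ∀ k, Yk k ⟶ Y)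
    (hw : ∀ k, IsOpenImmersion (wk k)) (hx : ∀ k, IsOpenImmersion (xk k))
    (hy' : ∀ k, IsOpenImmersion (yk' k)) (hy : ∀ k, Mono (yk k))
    (hk : ∀ k, Wk k ⟶ Xk k) (qk : ∀ k, Wk k ⟶ Yk' k) (pk : ∀ k, Xk k ⟶ Yk k)
    (ψk : ∀ k, Yk' k ⟶ Yk k)
    (hpb : ∀ k, IsPullback (hk k) (qk k) (pk k) (ψk k))
    (e1 : ∀ k, wk k ≫ h = hk k ≫ xk k) (e2 : ∀ k, wk k ≫ q = qk k ≫ yk' k)
    (e3 : ∀ k, xk k ≫ p = pk k ≫ yk k) (e4 : ∀ k, yk' k ≫ ψ = ψk k ≫ yk k)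
    (C1 : ∀ (x : X) (y' : Y'), p.base x = ψ.base y' →
      ∃ k, x ∈ Set.range (xk k).base ∧ y' ∈ Set.range (yk' k).base)
    (C2 : ∀ (k : K) (w : W), h.base w ∈ Set.range (xk k).base →
      q.base w ∈ Set.range (yk' k).base → w ∈ Set.range (wk k).base) :
    IsPullback h q p ψ := by
  haveI := hw; haveI := hx; haveI := hy'; haveI := hy
  let c : W ⟶ pullback p ψ := pullback.lift h q comm
  have hc1 : c ≫ pullback.fst p ψ = h := pullback.lift_fst _ _ _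
  have hc2 : c ≫ pullback.snd p ψ = q := pullback.lift_snd _ _ _
  suffices hiso : IsIso c from
    IsPullback.of_iso_pullback ⟨comm⟩ (asIso c) hc1 hc2
  let m : ∀ k, pullback (pk k) (ψk k) ⟶ pullback p ψ := fun k =>
    pullback.map (pk k) (ψk k) p ψ (xk k) (yk' k) (yk k) (e3 k).symm (e4 k).symm
  have hm1 : ∀ k, m k ≫ pullback.fst p ψ = pullback.fst _ _ ≫ xk k :=
    fun k => pullback.lift_fst _ _ _
  have hm2 : ∀ k, m k ≫ pullback.snd p ψ = pullback.snd _ _ ≫ yk' k :=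
    fun k => pullback.lift_snd _ _ _
  have hrange : ∀ k, Set.range (m k).base =
      (pullback.fst p ψ).base ⁻¹' Set.range (xk k).base ∩
        (pullback.snd p ψ).base ⁻¹' Set.range (yk' k).base :=
    fun k => Scheme.Pullback.range_map (pk k) (ψk k) p ψ (xk k) (yk' k) (yk k)
      (e3 k).symm (e4 k).symm
  have heq : ∀ k, wk k ≫ c = (hpb k).isoPullback.hom ≫ m k := by
    intro k
    apply pullback.hom_ext
    · rw [Category.assoc, hc1, Category.assoc, hm1, IsPullback.isoPullback_hom_fst_assoc, e1]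
    · rw [Category.assoc, hc2, Category.assoc, hm2, IsPullback.isoPullback_hom_snd_assoc, e2]
  let 𝒰 : (pullback p ψ).OpenCover := Scheme.Cover.mkOfCovers K
    (fun k => pullback (pk k) (ψk k)) m
    (fun z => by
      obtain ⟨k, hxk, hyk⟩ := C1 ((pullback.fst p ψ).base z) ((pullback.snd p ψ).base z)
        (congrArg (fun t : pullback p ψ ⟶ Y => t.base z) pullback.condition)
      have hz : z ∈ Set.range (m k).base := by rw [hrange k]; exact ⟨hxk, hyk⟩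
      obtain ⟨t, ht⟩ := hz
      exact ⟨k, t, ht⟩)
    (fun k => inferInstance)
  refine ProjG.of_isPullback_openCover (P := MorphismProperty.isomorphisms Scheme.{u}) c 𝒰
    Wk (fun k => (hpb k).isoPullback.hom) wk (fun k => ?_) (fun k => ?_)
  · apply IsOpenImmersion.isPullback
    · exact heq k
    · ext w
      constructor
      · intro hw'
        have hw2 : c.base w ∈ Set.range (m k).base := hw'
        rw [hrange k] at hw2
        obtain ⟨ha, hb⟩ := hw2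
        have ha' : h.base w ∈ Set.range (xk k).base := by
          have h3 := congrArg (fun t : W ⟶ X => t.base w) hc1
          rw [← h3]; exact ha
        have hb' : q.base w ∈ Set.range (yk' k).base := by
          have h3 := congrArg (fun t : W ⟶ Y' => t.base w) hc2
          rw [← h3]; exact hb
        exact C2 k w ha' hb'
      · rintro ⟨t, rfl⟩
        refine ⟨(hpb k).isoPullback.hom.base t, ?_⟩
        have h3 := congrArg (fun s : Wk k ⟶ pullback p ψ => s.base t) (heq k)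
        exact h3.symm
  · exact (MorphismProperty.isomorphisms.iff _).mpr inferInstance

end Cube

section Sch

variable {Y Y' : Scheme.{u}} {g : Y' ⟶ Y} {𝒮 : RelProj.QCGrAlg Y} {𝒮' : RelProj.QCGrAlg Y'}
  (u : RelProj.QGrHom g 𝒮 𝒮')
  {P : Scheme.{u}} (p : P ⟶ Y)
  (chart : ∀ (U : Y.Opens) (hU : IsAffineOpen U),
    (((p ⁻¹ᵁ U : P.Opens) : Scheme.{u}) ≅ Proj (𝒮.deg U hU)))
  {P' : Scheme.{u}} (p' : P' ⟶ Y')
  (chart' : ∀ (U' : Y'.Opens) (hU' : IsAffineOpen U'),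
    (((p' ⁻¹ᵁ U' : P'.Opens) : Scheme.{u}) ≅ Proj (𝒮'.deg U' hU')))

theorem isPushout_pair (hu : RelSpec.IsQBaseChange u.toQHom) (U : Y.Opens)
    (hU : IsAffineOpen U) (U' : Y'.Opens) (hU' : IsAffineOpen U') (hle : U' ≤ g ⁻¹ᵁ U) {d : ℕ}
    (f : 𝒮.presheaf.obj (op U)) (hf : f ∈ 𝒮.deg U hU d) :
    IsPushout (g.appLE U U' hle)
      (𝒮.strZero U hU ≫
        CommRingCat.ofHom (fromZeroRingHom (𝒮.deg U hU) (Submonoid.powers f)))
      (𝒮'.strZero U' hU' ≫ CommRingCat.ofHom (fromZeroRingHom (𝒮'.deg U' hU')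
        (Submonoid.powers (u.gradedAt U hU U' hU' hle f))))
      (CommRingCat.ofHom (Away.map (u.gradedAt U hU U' hU' hle) f)) :=
  isPushout_away_cat (g.appLE U U' hle) (𝒮.str.app (op U)) (𝒮'.str.app (op U'))
    (u.appLE U U' hle) (u.gradedAt U hU U' hU' hle) (fun _ => rfl) (𝒮.str_mem U hU)
    (𝒮'.str_mem U' hU') (hu U hU U' hU' hle) f hf _ _ (fun _ => rfl) (fun _ => rfl)

theorem domQ_eq_top (hu : RelSpec.IsQBaseChange u.toQHom)
    (hP' : RelProj.IsRelProj 𝒮' p' chart') : RelProj.domQ u p' chart' = ⊤ := by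
  rw [eq_top_iff]
  intro x _
  show x ∈ RelProj.domQ u p' chart'
  obtain ⟨U, hU, hxU, -⟩ := Opens.isBasis_iff_nbhd.mp Y.isBasis_affineOpens
    (show g.base (p'.base x) ∈ (⊤ : Y.Opens) from trivial)
  obtain ⟨U', hU', hxU', hle⟩ := Opens.isBasis_iff_nbhd.mp Y'.isBasis_affineOpens
    (show p'.base x ∈ g ⁻¹ᵁ U from hxU)
  obtain ⟨w, rfl⟩ := exists_emb p' chart' x U' hU' hxU'
  rw [mem_domQ_iff u p' chart' hP' U hU U' hU' hle w]
  exact mem_domOpen_cat (g.appLE U U' hle) (𝒮.str.app (op U)) (𝒮'.str.app (op U'))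
    (u.appLE U U' hle) (u.gradedAt U hU U' hU' hle) (fun _ => rfl) (𝒮'.str_mem U' hU')
    (hu U hU U' hU' hle) w

theorem exists_isProjQMap (hu : RelSpec.IsQBaseChange u.toQHom)
    (hP : RelProj.IsRelProj 𝒮 p chart) (hP' : RelProj.IsRelProj 𝒮' p' chart') :
    ∃ h : P' ⟶ P, RelProj.IsProjQMap u p chart p' chart' h := by
  have hdom := domQ_eq_top u p' chart' hu hP'
  obtain ⟨v, hv⟩ := exists_v u p chart p' chart' hP hP'
  haveI : IsIso (RelProj.domQ u p' chart').ι := isIso_ι_of_eq_top _ hdom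
  refine ⟨inv (RelProj.domQ u p' chart').ι ≫ v, hdom, fun U hU U' hU' hle d hd f hf => ?_⟩
  show _ = gq u p chart U hU U' hU' hle hd f hf
  rw [← hv U hU U' hU' hle d hd f hf, ← aq_ι u p' chart' U hU U' hU' hle hd f hf,
    Category.assoc, IsIso.hom_inv_id_assoc]

theorem awayEmb_over (hP' : RelProj.IsRelProj 𝒮' p' chart') (U : Y.Opens)
    (hU : IsAffineOpen U) (U' : Y'.Opens) (hU' : IsAffineOpen U') (hle : U' ≤ g ⁻¹ᵁ U) {d : ℕ}
    (hd : 0 < d) (f : 𝒮.presheaf.obj (op U)) (hf : f ∈ 𝒮.deg U hU d) :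
    RelProj.awayEmb u p' chart' U hU U' hU' hle hd f hf ≫ p' =
      Spec.map (𝒮'.strZero U' hU' ≫ CommRingCat.ofHom (fromZeroRingHom (𝒮'.deg U' hU')
        (Submonoid.powers (u.gradedAt U hU U' hU' hle f)))) ≫ hU'.fromSpec := by
  unfold RelProj.awayEmb
  rw [Category.assoc, emb_over p' chart' hP' U' hU', Proj.awayι_toSpecZero_assoc, Spec.map_comp,
    Category.assoc]

theorem chart_over' (hP : RelProj.IsRelProj 𝒮 p chart) (U : Y.Opens)
    (hU : IsAffineOpen U) {d : ℕ} (hd : 0 < d) (f : 𝒮.presheaf.obj (op U))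
    (hf : f ∈ 𝒮.deg U hU d) :
    (Proj.awayι (𝒮.deg U hU) f hf hd ≫ RelProj.emb p chart U hU) ≫ p =
      Spec.map (𝒮.strZero U hU ≫
        CommRingCat.ofHom (fromZeroRingHom (𝒮.deg U hU) (Submonoid.powers f))) ≫
        hU.fromSpec := by
  rw [Category.assoc, emb_over p chart hP U hU, Proj.awayι_toSpecZero_assoc, Spec.map_comp,
    Category.assoc]

theorem mem_range_awayEmb (hP' : RelProj.IsRelProj 𝒮' p' chart')
    (hdom : RelProj.domQ u p' chart' = ⊤) (h : P' ⟶ P)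
    (hch : ∀ (U : Y.Opens) (hU : IsAffineOpen U) (U' : Y'.Opens) (hU' : IsAffineOpen U')
      (hle : U' ≤ g ⁻¹ᵁ U) (d : ℕ) (hd : 0 < d) (f : 𝒮.presheaf.obj (op U))
      (hf : f ∈ 𝒮.deg U hU d),
      RelProj.awayEmb u p' chart' U hU U' hU' hle hd f hf ≫ h =
        gq u p chart U hU U' hU' hle hd f hf)
    (U : Y.Opens) (hU : IsAffineOpen U) (U' : Y'.Opens) (hU' : IsAffineOpen U')
    (hle : U' ≤ g ⁻¹ᵁ U) {d : ℕ} (hd : 0 < d) (f : 𝒮.presheaf.obj (op U))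
    (hf : f ∈ 𝒮.deg U hU d) (w : P')
    (h1 : h.base w ∈
      Set.range (Proj.awayι (𝒮.deg U hU) f hf hd ≫ RelProj.emb p chart U hU).base)
    (h2 : p'.base w ∈ U') :
    w ∈ Set.range (RelProj.awayEmb u p' chart' U hU U' hU' hle hd f hf).base := by
  obtain ⟨y, rfl⟩ := exists_emb p' chart' w U' hU' h2
  have hy : y ∈ RelCone.domOpen (u.gradedAt U hU U' hU' hle) := by
    rw [← mem_domQ_iff u p' chart' hP' U hU U' hU' hle y, hdom]
    trivial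
  rw [RelCone.mem_domOpen] at hy
  obtain ⟨f₀, hf₀, hf₀y⟩ := hy
  obtain ⟨d', hd', f', hf', hf'y⟩ := ConeAlg.exists_homog_notMem (𝒮.deg U hU)
    (Ideal.comap (u.gradedAt U hU U' hU' hle) y.asHomogeneousIdeal.toIdeal) hf₀ hf₀y
  obtain ⟨w', hw'⟩ := exists_awayι_eq (𝒮'.deg U' hU') hd' _
    (Graded.map_mem (u.gradedAt U hU U' hU' hle) hf') y hf'y
  obtain ⟨v', hv'⟩ := h1
  have h3 := congrArg (fun t : Spec (CommRingCat.of (Away (𝒮'.deg U' hU')
    (u.gradedAt U hU U' hU' hle f'))) ⟶ P => t.base w') (hch U hU U' hU' hle d' hd' f' hf')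
  have h3' : h.base ((RelProj.emb p' chart' U' hU').base y) =
      (RelProj.emb p chart U hU).base ((Proj.awayι (𝒮.deg U hU) f' hf' hd').base
        ((Spec.map (CommRingCat.ofHom
          (Away.map (u.gradedAt U hU U' hU' hle) f'))).base w')) := by
    rw [← hw']
    exact h3
  have h4 : (Proj.awayι (𝒮.deg U hU) f hf hd).base v' =
      (Proj.awayι (𝒮.deg U hU) f' hf' hd').base
        ((Spec.map (CommRingCat.ofHom
          (Away.map (u.gradedAt U hU U' hU' hle) f'))).base w') := by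
    apply (RelProj.emb p chart U hU).isOpenEmbedding.injective
    exact hv'.trans h3'
  have h5 : (Proj.awayι (𝒮.deg U hU) f' hf' hd').base
        ((Spec.map (CommRingCat.ofHom
          (Away.map (u.gradedAt U hU U' hU' hle) f'))).base w') ∈
      Proj.basicOpen (𝒮.deg U hU) f := by
    rw [← h4]; exact awayι_mem_basicOpen _ hd f hf v'
  have h6 := (mem_basicOpen_iff_ring (u.gradedAt U hU U' hU' hle) hd hd' hf hf' w').mpr h5
  obtain ⟨w'', hw''⟩ := exists_awayι_eq (𝒮'.deg U' hU') hd _ (Graded.map_mem _ hf) _ h6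
  refine ⟨w'', ?_⟩
  show (RelProj.emb p' chart' U' hU').base ((Proj.awayι _ _ _ _).base w'') = _
  rw [hw'', hw']

theorem isPullback_of_isProjQMap (hu : RelSpec.IsQBaseChange u.toQHom)
    (hP : RelProj.IsRelProj 𝒮 p chart) (hP' : RelProj.IsRelProj 𝒮' p' chart') (h : P' ⟶ P)
    (hh : RelProj.IsProjQMap u p chart p' chart' h) : IsPullback h p' p g := by
  obtain ⟨hdom, hch⟩ := hh
  haveI hiso : IsIso (RelProj.domQ u p' chart').ι := isIso_ι_of_eq_top _ hdom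
  have hΦ : ∀ (U : Y.Opens) (hU : IsAffineOpen U) (U' : Y'.Opens) (hU' : IsAffineOpen U')
      (hle : U' ≤ g ⁻¹ᵁ U) (d : ℕ) (hd : 0 < d) (f : 𝒮.presheaf.obj (op U))
      (hf : f ∈ 𝒮.deg U hU d),
      aq u p' chart' U hU U' hU' hle hd f hf ≫ ((RelProj.domQ u p' chart').ι ≫ h) =
        gq u p chart U hU U' hU' hle hd f hf := by
    intro U hU U' hU' hle d hd f hf
    rw [← Category.assoc, aq_ι]
    exact hch U hU U' hU' hle d hd f hf
  have comm : h ≫ p = p' ≫ g := by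
    have h1 := v_over u p chart p' chart' hP hP' _ hΦ
    rw [Category.assoc] at h1
    exact (cancel_epi (RelProj.domQ u p' chart').ι).mp h1
  refine isPullback_of_cubes h p' p g comm (K := IdxQ g 𝒮)
    (fun k => Spec (CommRingCat.of (Away (𝒮'.deg k.U' k.hU')
      (u.gradedAt k.U k.hU k.U' k.hU' k.hle k.f))))
    (fun k => Spec (CommRingCat.of (Away (𝒮.deg k.U k.hU) k.f)))
    (fun k => Spec Γ(Y', k.U')) (fun k => Spec Γ(Y, k.U))
    (fun k => RelProj.awayEmb u p' chart' k.U k.hU k.U' k.hU' k.hle k.hd k.f k.hf)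
    (fun k => Proj.awayι (𝒮.deg k.U k.hU) k.f k.hf k.hd ≫ RelProj.emb p chart k.U k.hU)
    (fun k => k.hU'.fromSpec) (fun k => k.hU.fromSpec)
    (fun k => inferInstance) (fun k => inferInstance) (fun k => inferInstance)
    (fun k => inferInstance)
    (fun k => Spec.map (CommRingCat.ofHom
      (Away.map (u.gradedAt k.U k.hU k.U' k.hU' k.hle) k.f)))
    (fun k => Spec.map (𝒮'.strZero k.U' k.hU' ≫ CommRingCat.ofHom (fromZeroRingHom
      (𝒮'.deg k.U' k.hU') (Submonoid.powers (u.gradedAt k.U k.hU k.U' k.hU' k.hle k.f)))))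
    (fun k => Spec.map (𝒮.strZero k.U k.hU ≫
      CommRingCat.ofHom (fromZeroRingHom (𝒮.deg k.U k.hU) (Submonoid.powers k.f))))
    (fun k => Spec.map (g.appLE k.U k.U' k.hle))
    (fun k => (isPullback_SpecMap_of_isPushout _ _ _ _
      (isPushout_pair u hu k.U k.hU k.U' k.hU' k.hle k.f k.hf)).flip)
    (fun k => hch k.U k.hU k.U' k.hU' k.hle k.d k.hd k.f k.hf)
    (fun k => awayEmb_over u p' chart' hP' k.U k.hU k.U' k.hU' k.hle k.hd k.f k.hf)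
    (fun k => chart_over' p chart hP k.U k.hU k.hd k.f k.hf)
    (fun k => (IsAffineOpen.SpecMap_appLE_fromSpec g k.hU k.hU' k.hle).symm)
    ?_ ?_
  · intro x y' hxy
    obtain ⟨U, hU, hxU, -⟩ := Opens.isBasis_iff_nbhd.mp Y.isBasis_affineOpens
      (show p.base x ∈ (⊤ : Y.Opens) from trivial)
    have hy'U : y' ∈ g ⁻¹ᵁ U := by
      show g.base y' ∈ U
      rw [← hxy]; exact hxU
    obtain ⟨U', hU', hyU', hle⟩ := Opens.isBasis_iff_nbhd.mp Y'.isBasis_affineOpens hy'U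
    obtain ⟨y, rfl⟩ := exists_emb p chart x U hU hxU
    obtain ⟨d, hd, f, hf, hyf⟩ := exists_homog_basicOpen (𝒮.deg U hU) y
    obtain ⟨v, rfl⟩ := exists_awayι_eq (𝒮.deg U hU) hd f hf y hyf
    refine ⟨⟨U, hU, U', hU', hle, d, hd, f, hf⟩, ⟨v, rfl⟩, ?_⟩
    have h1 : y' ∈ Set.range hU'.fromSpec := by
      rw [hU'.range_fromSpec]; exact hyU'
    exact h1
  · intro k w h1 h2
    have h2' : p'.base w ∈ k.U' := by
      have h3 : p'.base w ∈ Set.range k.hU'.fromSpec := h2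
      rw [k.hU'.range_fromSpec] at h3
      exact h3
    exact mem_range_awayEmb u p chart p' chart' hP' hdom h hch k.U k.hU k.U' k.hU' k.hle k.hd
      k.f k.hf w h1 h2'

end Sch

section Mains

theorem main_S12141 {Y Y' P P' : Scheme.{u}} (ψ : Y' ⟶ Y)
    (𝒮 : RelProj.QCGrAlg Y) (𝒮' : RelProj.QCGrAlg Y') (u : RelProj.QGrHom ψ 𝒮 𝒮')
    (hu : RelSpec.IsQBaseChange u.toQHom)
    (p : P ⟶ Y) (chart : ∀ (U : Y.Opens) (hU : IsAffineOpen U), (((p ⁻¹ᵁ U : P.Opens) : Scheme.{u}) ≅ Proj (𝒮.deg U hU)))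
    (hP : RelProj.IsRelProj 𝒮 p chart)
    (p' : P' ⟶ Y') (chart' : ∀ (U : Y'.Opens) (hU : IsAffineOpen U), (((p' ⁻¹ᵁ U : P'.Opens) : Scheme.{u}) ≅ Proj (𝒮'.deg U hU)))
    (hP' : RelProj.IsRelProj 𝒮' p' chart') :
    (∃ h : P' ⟶ P, RelProj.IsProjQMap u p chart p' chart' h) ∧
      ∀ h : P' ⟶ P, RelProj.IsProjQMap u p chart p' chart' h → IsPullback h p' p ψ := by
  exact ⟨exists_isProjQMap u p chart p' chart' hu hP hP',
    fun h hh => isPullback_of_isProjQMap u p chart p' chart' hu hP hP' h hh⟩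

theorem projMap_congr {A B : Type u} [CommRing A] [CommRing B] {𝒜 : ℕ → AddSubgroup A}
    {ℬ : ℕ → AddSubgroup B} [GradedRing 𝒜] [GradedRing ℬ] {φ₁ φ₂ : 𝒜 →+*ᵍ ℬ} (e : φ₁ = φ₂)
    (h₁ : (ℬ)₊ ≤ ((𝒜)₊).map φ₁) (h₂ : (ℬ)₊ ≤ ((𝒜)₊).map φ₂) :
    Proj.map φ₁ h₁ = Proj.map φ₂ h₂ := by
  subst e; rfl

/-- the graded morphism over `ψ` assembled from a map of presheaves -/
noncomputable def mkQGrHom {Y Y' : Scheme.{u}} (ψ : Y' ⟶ Y) (𝒮 : RelProj.QCGrAlg Y)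
    (𝒮' : RelProj.QCGrAlg Y') (u : 𝒮.presheaf ⟶ ψ.base _* 𝒮'.presheaf)
    (hu : 𝒮.str ≫ u = ψ.c ≫ (TopCat.Presheaf.pushforward CommRingCat.{u} ψ.base).map 𝒮'.str)
    (hmem : ∀ (U : Y.Opens) (hU : IsAffineOpen U) (U' : Y'.Opens) (hU' : IsAffineOpen U')
      (hle : U' ≤ ψ ⁻¹ᵁ U) {d : ℕ} {x : 𝒮.presheaf.obj (op U)}, x ∈ 𝒮.deg U hU d →
      (𝒮'.presheaf.map (homOfLE hle).op).hom ((u.app (op U)).hom x) ∈ 𝒮'.deg U' hU' d) :
    RelProj.QGrHom ψ 𝒮 𝒮' where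
  app U := u.app (op U)
  naturality {U V} i := (u.naturality (homOfLE i).op).symm
  str_app U := NatTrans.congr_app hu (op U)
  map_mem U hU U' hU' hle _ _ hx := hmem U hU U' hU' hle hx

theorem main_S8291_aux {Y Y' P P' : Scheme.{u}} (ψ : Y' ⟶ Y) (𝒮 : RelProj.QCGrAlg Y)
    (𝒮' : RelProj.QCGrAlg Y') (uQ : RelProj.QGrHom ψ 𝒮 𝒮')
    (hu : RelSpec.IsQBaseChange uQ.toQHom)
    (hirr : ∀ (U : Y.Opens) (hU : IsAffineOpen U) (U' : Y'.Opens) (hU' : IsAffineOpen U')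
      (hle : U' ≤ ψ ⁻¹ᵁ U),
      (𝒮'.deg U' hU')₊ ≤ ((𝒮.deg U hU)₊).map (uQ.gradedAt U hU U' hU' hle))
    (p : P ⟶ Y)
    (chart : ∀ (U : Y.Opens) (hU : IsAffineOpen U),
      (((p ⁻¹ᵁ U : P.Opens) : Scheme.{u}) ≅ Proj (𝒮.deg U hU)))
    (hP : RelProj.IsRelProj 𝒮 p chart) (p' : P' ⟶ Y')
    (chart' : ∀ (U' : Y'.Opens) (hU' : IsAffineOpen U'),
      (((p' ⁻¹ᵁ U' : P'.Opens) : Scheme.{u}) ≅ Proj (𝒮'.deg U' hU')))
    (hP' : RelProj.IsRelProj 𝒮' p' chart') (g : P' ⟶ P)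
    (hg : ∀ (U : Y.Opens) (hU : IsAffineOpen U) (U' : Y'.Opens) (hU' : IsAffineOpen U')
      (hle : U' ≤ ψ ⁻¹ᵁ U),
      (p' ⁻¹ᵁ U').ι ≫ g =
        (chart' U' hU').hom ≫ Proj.map (uQ.gradedAt U hU U' hU' hle) (hirr U hU U' hU' hle) ≫
          RelProj.emb p chart U hU) :
    IsPullback g p' p ψ := by
  refine isPullback_of_isProjQMap uQ p chart p' chart' hu hP hP' g
    ⟨domQ_eq_top uQ p' chart' hu hP', ?_⟩
  intro U hU U' hU' hle d hd f hf
  have e1 : RelProj.awayEmb uQ p' chart' U hU U' hU' hle hd f hf =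
      Proj.awayι (𝒮'.deg U' hU') (uQ.gradedAt U hU U' hU' hle f)
        ((uQ.gradedAt U hU U' hU' hle).map_mem hf) hd ≫
        (chart' U' hU').inv ≫ (p' ⁻¹ᵁ U').ι := rfl
  rw [e1, Category.assoc, Category.assoc, hg U hU U' hU' hle, Iso.inv_hom_id_assoc,
    Proj.awayι_comp_map_assoc (uQ.gradedAt U hU U' hU' hle) (hirr U hU U' hU' hle) hd f hf]

theorem main_S8291 {Y Y' P P' : Scheme.{u}} (ψ : Y' ⟶ Y) (𝒮 : RelProj.QCGrAlg Y)
    (𝒮' : RelProj.QCGrAlg Y') (u : 𝒮.presheaf ⟶ ψ.base _* 𝒮'.presheaf)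
    (hu : 𝒮.str ≫ u = ψ.c ≫ (TopCat.Presheaf.pushforward CommRingCat.{u} ψ.base).map 𝒮'.str)
    (φ : ∀ (U : Y.Opens) (hU : IsAffineOpen U) (U' : Y'.Opens) (hU' : IsAffineOpen U') (_ : U' ≤ ψ ⁻¹ᵁ U),
      𝒮.deg U hU →+*ᵍ 𝒮'.deg U' hU')
    (hφ : ∀ (U : Y.Opens) (hU : IsAffineOpen U) (U' : Y'.Opens) (hU' : IsAffineOpen U') (hle : U' ≤ ψ ⁻¹ᵁ U),
      (φ U hU U' hU' hle).toRingHom =
        ((u.app (op U) : 𝒮.presheaf.obj (op U) ⟶ 𝒮'.presheaf.obj (op (ψ ⁻¹ᵁ U))) ≫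
          𝒮'.presheaf.map (homOfLE hle).op).hom)
    (hpo : ∀ (U : Y.Opens) (hU : IsAffineOpen U) (U' : Y'.Opens) (hU' : IsAffineOpen U') (hle : U' ≤ ψ ⁻¹ᵁ U),
      IsPushout (ψ.appLE U U' hle) (𝒮.str.app (op U)) (𝒮'.str.app (op U'))
        ((u.app (op U) : 𝒮.presheaf.obj (op U) ⟶ 𝒮'.presheaf.obj (op (ψ ⁻¹ᵁ U))) ≫
          𝒮'.presheaf.map (homOfLE hle).op))
    (hirr : ∀ (U : Y.Opens) (hU : IsAffineOpen U) (U' : Y'.Opens) (hU' : IsAffineOpen U') (hle : U' ≤ ψ ⁻¹ᵁ U),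
      (𝒮'.deg U' hU')₊ ≤ ((𝒮.deg U hU)₊).map (φ U hU U' hU' hle))
    (p : P ⟶ Y)
    (chart : ∀ (U : Y.Opens) (hU : IsAffineOpen U), (((p ⁻¹ᵁ U : P.Opens) : Scheme.{u}) ≅ Proj (𝒮.deg U hU)))
    (hP : RelProj.IsRelProj 𝒮 p chart) (p' : P' ⟶ Y')
    (chart' : ∀ (U' : Y'.Opens) (hU' : IsAffineOpen U'), (((p' ⁻¹ᵁ U' : P'.Opens) : Scheme.{u}) ≅ Proj (𝒮'.deg U' hU')))
    (hP' : RelProj.IsRelProj 𝒮' p' chart') (g : P' ⟶ P)
    (hg : ∀ (U : Y.Opens) (hU : IsAffineOpen U) (U' : Y'.Opens) (hU' : IsAffineOpen U') (hle : U' ≤ ψ ⁻¹ᵁ U),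
      (p' ⁻¹ᵁ U').ι ≫ g =
        (chart' U' hU').hom ≫ Proj.map (φ U hU U' hU' hle) (hirr U hU U' hU' hle) ≫ RelProj.emb p chart U hU) :
    IsPullback g p' p ψ := by
  have hmem : ∀ (U : Y.Opens) (hU : IsAffineOpen U) (U' : Y'.Opens) (hU' : IsAffineOpen U')
      (hle : U' ≤ ψ ⁻¹ᵁ U) {d : ℕ} {x : 𝒮.presheaf.obj (op U)}, x ∈ 𝒮.deg U hU d →
      (𝒮'.presheaf.map (homOfLE hle).op).hom ((u.app (op U)).hom x) ∈ 𝒮'.deg U' hU' d := by
    intro U hU U' hU' hle d x hx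
    have h1 := (φ U hU U' hU' hle).map_mem hx
    have h2 : (φ U hU U' hU' hle) x =
        (𝒮'.presheaf.map (homOfLE hle).op).hom ((u.app (op U)).hom x) :=
      congrArg (fun t : _ →+* _ => t x) (hφ U hU U' hU' hle)
    rw [← h2]; exact h1
  have hφeq : ∀ (U : Y.Opens) (hU : IsAffineOpen U) (U' : Y'.Opens) (hU' : IsAffineOpen U')
      (hle : U' ≤ ψ ⁻¹ᵁ U),
      φ U hU U' hU' hle = (mkQGrHom ψ 𝒮 𝒮' u hu hmem).gradedAt U hU U' hU' hle := by
    intro U hU U' hU' hle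
    apply DFunLike.ext
    intro x
    exact congrArg (fun t : _ →+* _ => t x) (hφ U hU U' hU' hle)
  have hirr' : ∀ (U : Y.Opens) (hU : IsAffineOpen U) (U' : Y'.Opens) (hU' : IsAffineOpen U')
      (hle : U' ≤ ψ ⁻¹ᵁ U), (𝒮'.deg U' hU')₊ ≤
        ((𝒮.deg U hU)₊).map ((mkQGrHom ψ 𝒮 𝒮' u hu hmem).gradedAt U hU U' hU' hle) := by
    intro U hU U' hU' hle
    rw [← hφeq U hU U' hU' hle]; exact hirr U hU U' hU' hle
  exact main_S8291_aux ψ 𝒮 𝒮' (mkQGrHom ψ 𝒮 𝒮' u hu hmem)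
    (fun U hU U' hU' hle => hpo U hU U' hU' hle) hirr' p chart hP p' chart' hP' g
    (fun U hU U' hU' hle => by
      rw [hg U hU U' hU' hle, projMap_congr (hφeq U hU U' hU' hle) (hirr U hU U' hU' hle)
        (hirr' U hU U' hU' hle)])

end Mains

end Groth.Agent.H4.ProjBC2
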