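import Mathlib
import Groth.Agent.H4.ChowA
import Groth.Agent.H4.ChowB
import Groth.Agent.S9717
import Groth.Agent.Lib.Helper5.VAmple.M

set_option autoImplicit false
set_option linter.style.haveILetI false
set_option linter.unusedSectionVars false
set_option linter.unusedVariables false

namespace Groth.Agent.H4.ChowC

open CategoryTheory CategoryTheory.Limits AlgebraicGeometry TopologicalSpace
open Groth.Agent.H5.AG Groth.Agent.H4.ChowA Groth.Agent.H4.ChowB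

universe u

noncomputable section

/-! ## gluing morphisms along a clopen decomposition -/

section Glue

lemma glue_colimit {Y : Scheme.{u}} (A B : Y.Opens) (h : IsCompl A B) :
    Nonempty (IsColimit (BinaryCofan.mk A.ι B.ι)) := by
  apply nonempty_isColimit_binaryCofanMk_of_isCompl
  rw [Scheme.Opens.opensRange_ι, Scheme.Opens.opensRange_ι]
  exact h

lemma glue_exists {Y T : Scheme.{u}} (A B : Y.Opens) (h : IsCompl A B)
    (a : (A : Scheme.{u}) ⟶ T) (b : (B : Scheme.{u}) ⟶ T) :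
    ∃ g : Y ⟶ T, A.ι ≫ g = a ∧ B.ι ≫ g = b := by
  obtain ⟨hc⟩ := glue_colimit A B h
  refine ⟨hc.desc (BinaryCofan.mk a b), ?_, ?_⟩
  · exact hc.fac (BinaryCofan.mk a b) ⟨WalkingPair.left⟩
  · exact hc.fac (BinaryCofan.mk a b) ⟨WalkingPair.right⟩

lemma glue_ext {Y T : Scheme.{u}} (A B : Y.Opens) (h : IsCompl A B) (g g' : Y ⟶ T)
    (h1 : A.ι ≫ g = A.ι ≫ g') (h2 : B.ι ≫ g = B.ι ≫ g') : g = g' := by
  obtain ⟨hc⟩ := glue_colimit A B h
  exact BinaryCofan.IsColimit.hom_ext hc h1 h2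

end Glue

/-! ## uniform immersions -/

section Unif

lemma exists_incl (S : Scheme.{u}) (n d : ℕ) :
    ∃ c : CohB1.ProjSpaceOver n S ⟶ CohB1.ProjSpaceOver (n + d) S, IsClosedImmersion c ∧
      c ≫ CohB1.ProjSpaceOver.toBase (n + d) S = CohB1.ProjSpaceOver.toBase n S := by
  induction d with
  | zero => exact ⟨𝟙 _, inferInstance, Category.id_comp _⟩
  | succ d ih =>
    obtain ⟨c, hc, hcb⟩ := ih
    exact ⟨c ≫ hypS S (n + d), inferInstance, by
      rw [Category.assoc]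
      exact (congrArg (c ≫ ·) (hypS_toBase S (n + d))).trans hcb⟩

theorem exists_uniform_immersions {X S : Scheme.{u}} (r : X ⟶ S) [LocallyOfFiniteType r]
    {κ : Type*} [Finite κ] (Uk : κ → X.Opens) (hUk : ∀ k, IsAffineOpen (Uk k))
    (Vk : κ → S.Opens) (hVk : ∀ k, IsAffineOpen (Vk k)) (hUV : ∀ k, Uk k ≤ r ⁻¹ᵁ Vk k) :
    ∃ (N : ℕ), ∀ k, ∃ j : (Uk k : Scheme.{u}) ⟶ CohB1.ProjSpaceOver (N + 1) S, IsImmersion j ∧
      j ≫ CohB1.ProjSpaceOver.toBase (N + 1) S = (Uk k).ι ≫ r ∧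
      Disjoint (Set.range j) (Set.range (baseS S N)) := by
  choose n j hj hjb using fun k =>
    exists_affine_immersion r (Vk k) (hVk k) (Uk k) (hUk k) (hUV k)
  obtain ⟨N, hN⟩ := (Set.finite_range n).bddAbove
  refine ⟨N, fun k => ?_⟩
  have hk : n k ≤ N := hN ⟨k, rfl⟩
  obtain ⟨d, hd⟩ := Nat.exists_eq_add_of_le hk
  subst hd
  obtain ⟨c, hc, hcb⟩ := exists_incl S (n k) d
  haveI := hj k
  refine ⟨j k ≫ c ≫ hypS S (n k + d), inferInstance, ?_, ?_⟩
  · rw [Category.assoc, Category.assoc, hypS_toBase, hcb, hjb]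
  · refine Set.disjoint_of_subset_left ?_ (range_hypS_disjoint S (n k + d))
    rintro _ ⟨x, rfl⟩
    refine ⟨c (j k x), ?_⟩
    simp only [Scheme.Hom.comp_apply]

end Unif

/-! ## the core construction -/

section Core

theorem chow_core {X S : Scheme.{u}} (r : X ⟶ S) [IsSeparated r] [LocallyOfFiniteType r]
    {κ : Type*} [Finite κ] (Uk : κ → X.Opens) (hUk : ∀ k, IsAffineOpen (Uk k))
    (Vk : κ → S.Opens) (hVk : ∀ k, IsAffineOpen (Vk k)) (hUV : ∀ k, Uk k ≤ r ⁻¹ᵁ Vk k)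
    (Ω : X.Opens) [QuasiCompact Ω.ι]
    (Bk : κ → X.Opens) (hB1 : ∀ k, Ω ≤ Uk k ⊔ Bk k) (hB2 : ∀ k, Ω ⊓ Uk k ⊓ Bk k = ⊥)
    (hcov : closure (Ω : Set X) ⊆ ⋃ k, (Uk k : Set X)) :
    ∃ (n : ℕ) (X' : Scheme.{u}) (π : X' ⟶ X) (j : X' ⟶ CohB1.ProjSpaceOver n S)
      (s : (Ω : Scheme.{u}) ⟶ X'),
      IsImmersion j ∧ j ≫ CohB1.ProjSpaceOver.toBase n S = π ≫ r ∧ RelProj.IsHProjective π ∧
      s ≫ π = Ω.ι ∧ IsOpenImmersion s ∧ IsSchemeTheoreticallyDominant s ∧ IsDominant s ∧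
      IsIso (π ∣_ Ω) ∧ Set.range π ⊆ closure (Ω : Set X) := by
  classical
  obtain ⟨N, hN⟩ := exists_uniform_immersions r Uk hUk Vk hVk hUV
  choose jk hjk hjkb hjkd using hN
  obtain ⟨m, ⟨e⟩⟩ := Finite.exists_equiv_fin κ
  obtain ⟨Q, q, pr, hq, hpr, huniv⟩ := exists_prod S m (fun _ => N + 1)
  haveI : IsProper q := isProper_of_isHProjective q hq
  haveI hsepB : IsSeparated (CohB1.ProjSpaceOver.toBase (N + 1) S) := by
    haveI := isProper_toBase (N + 1) S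
    infer_instance
  -- complementary opens of Ω
  let A : κ → (Ω : Scheme.{u}).Opens := fun k => Ω.ι ⁻¹ᵁ Uk k
  let B : κ → (Ω : Scheme.{u}).Opens := fun k => Ω.ι ⁻¹ᵁ Bk k
  have hAB : ∀ k, IsCompl (A k) (B k) := by
    intro k
    refine ⟨disjoint_iff.mpr ?_, codisjoint_iff.mpr ?_⟩
    · refine le_bot_iff.mp ?_
      rintro y ⟨hy1, hy2⟩
      have hyΩ : Ω.ι y ∈ Ω := y.2
      have : Ω.ι y ∈ Ω ⊓ Uk k ⊓ Bk k := ⟨⟨hyΩ, hy1⟩, hy2⟩
      rw [hB2 k] at this
      exact this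
    · refine top_le_iff.mp ?_
      intro y _
      have hyΩ : Ω.ι y ∈ Ω := y.2
      have : Ω.ι y ∈ Uk k ⊔ Bk k := hB1 k hyΩ
      rcases Opens.mem_sup.mp this with h | h
      · exact Opens.mem_sup.mpr (Or.inl h)
      · exact Opens.mem_sup.mpr (Or.inr h)
  -- glued maps
  have hgk : ∀ k, ∃ gk : (Ω : Scheme.{u}) ⟶ CohB1.ProjSpaceOver (N + 1) S,
      (A k).ι ≫ gk = Ω.ι.resLE (Uk k) (A k) le_rfl ≫ jk k ∧
      (B k).ι ≫ gk = ((B k).ι ≫ Ω.ι ≫ r) ≫ baseS S N :=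
    fun k => glue_exists (A k) (B k) (hAB k) _ _
  choose gk hgkA hgkB using hgk
  have hgkb : ∀ k, gk k ≫ CohB1.ProjSpaceOver.toBase (N + 1) S = Ω.ι ≫ r := by
    intro k
    refine glue_ext (A k) (B k) (hAB k) _ _ ?_ ?_
    · rw [← Category.assoc, hgkA, Category.assoc, hjkb, ← Category.assoc,
        Scheme.Hom.resLE_comp_ι, Category.assoc]
    · rw [← Category.assoc, hgkB, Category.assoc, baseS_toBase, Category.comp_id]
  obtain ⟨g, hg, hgpr⟩ := huniv (Ω : Scheme.{u}) (Ω.ι ≫ r) (fun i => gk (e.symm i))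
    (fun i => hgkb _)
  have hgpr' : ∀ k, g ≫ pr (e k) = gk k := by
    intro k
    rw [hgpr (e k)]
    show gk (e.symm (e k)) = gk k
    rw [e.symm_apply_apply]
  -- the opens `W k`
  let Wb : (CohB1.ProjSpaceOver (N + 1) S).Opens :=
    ⟨(Set.range (baseS S N))ᶜ, (baseS S N).isClosedEmbedding.isClosed_range.isOpen_compl⟩
  let W : κ → (CohB1.ProjSpaceOver (N + 1) S).Opens := fun k => (jk k).coborderRange ⊓ Wb
  have hW1 : ∀ k, Set.range (jk k) ⊆ (W k : Set (CohB1.ProjSpaceOver (N + 1) S)) := by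
    intro k x hx
    refine ⟨subset_coborder hx, ?_⟩
    exact fun hx' => Set.disjoint_left.mp (hjkd k) hx hx'
  have hW2 : ∀ k, closure (Set.range (jk k)) ∩ (W k : Set (CohB1.ProjSpaceOver (N + 1) S)) ⊆
      Set.range (jk k) := by
    rintro k x ⟨hx1, hx2, _⟩
    have : x ∈ closure (Set.range (jk k)) ∩ coborder (Set.range (jk k)) := ⟨hx1, hx2⟩
    rw [closure_inter_coborder] at this
    exact this
  have hcompat : ∀ k, (Ω.ι ⁻¹ᵁ Uk k).ι ≫ g ≫ pr (e k) =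
      Ω.ι.resLE (Uk k) (Ω.ι ⁻¹ᵁ Uk k) le_rfl ≫ jk k := by
    intro k
    rw [hgpr' k]
    exact hgkA k
  have hsep : ∀ k, (g ≫ pr (e k)) ⁻¹ᵁ W k ≤ Ω.ι ⁻¹ᵁ Uk k := by
    intro k y hy
    rw [hgpr' k] at hy
    by_contra hyA
    have hyB : y ∈ B k := by
      have : y ∈ A k ⊔ B k := by rw [(hAB k).sup_eq_top]; trivial
      rcases Opens.mem_sup.mp this with h | h
      · exact absurd h hyA
      · exact h
    let y' : ((B k : (Ω : Scheme.{u}).Opens) : Scheme.{u}) := ⟨y, hyB⟩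
    have hy' : (B k).ι y' = y := rfl
    have h1 : ((B k).ι ≫ gk k) y' = (((B k).ι ≫ Ω.ι ≫ r) ≫ baseS S N) y' := by rw [hgkB k]
    rw [Scheme.Hom.comp_apply, hy', Scheme.Hom.comp_apply] at h1
    have h2 : gk k y ∈ (W k : Set (CohB1.ProjSpaceOver (N + 1) S)) := hy
    exact h2.2 ⟨_, h1.symm⟩
  have hcov' : closure (Set.range Ω.ι) ⊆ ⋃ k, (Uk k : Set X) := by
    rw [Scheme.Opens.range_ι]
    exact hcov
  obtain ⟨X', π, q', hπq, s, hcl, himm, hsπ, hsq, hs1, hs2, hs3, hs4, hiso, hrange⟩ :=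
    exists_modification r q Ω.ι g hg Uk (fun _ => CohB1.ProjSpaceOver (N + 1) S)
      (fun _ => CohB1.ProjSpaceOver.toBase (N + 1) S) (fun k => pr (e k)) (fun k => hpr (e k))
      jk hjkb W hW1 hW2 hcompat hsep hcov'
  obtain ⟨n, c, hc, hcq⟩ := hq
  obtain ⟨n', i', hi', hi'b⟩ := isHProjective_baseChange q ⟨n, c, hc, hcq⟩ r
  refine ⟨n, X', π, q' ≫ c, s, inferInstance, ?_, ?_, hsπ, hs1, hs2, hs4, ?_, ?_⟩
  · rw [Category.assoc, hcq, hπq]
  · exact ⟨n', pullback.lift q' π hπq ≫ i', inferInstance, by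
      rw [Category.assoc, hi'b, pullback.lift_snd]⟩
  · rw [Scheme.Opens.opensRange_ι] at hiso
    exact hiso
  · rw [Scheme.Opens.range_ι] at hrange
    exact hrange

end Core

/-! ## consequences -/

section Main

lemma irreducibleSpace_of_denseRange {A B : Type*} [TopologicalSpace A] [TopologicalSpace B]
    [IrreducibleSpace A] (f : A → B) (hf : Continuous f) (hd : DenseRange f) :
    IrreducibleSpace B := by
  have h1 : IsIrreducible (Set.range f) := by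
    rw [← Set.image_univ]
    exact (IrreducibleSpace.isIrreducible_univ A).image f hf.continuousOn
  have h2 : IsIrreducible (closure (Set.range f)) := h1.closure
  rw [hd.closure_range] at h2
  exact (irreducibleSpace_def B).mpr h2

theorem chow_main {X S : Scheme.{u}} (r : X ⟶ S) [IsSeparated r] [LocallyOfFiniteType r]
    [QuasiCompact r]
    {κ : Type*} [Finite κ] (Uk : κ → X.Opens) (hUk : ∀ k, IsAffineOpen (Uk k))
    (Vk : κ → S.Opens) (hVk : ∀ k, IsAffineOpen (Vk k)) (hUV : ∀ k, Uk k ≤ r ⁻¹ᵁ Vk k)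
    (Ω : X.Opens) [QuasiCompact Ω.ι]
    (Bk : κ → X.Opens) (hB1 : ∀ k, Ω ≤ Uk k ⊔ Bk k) (hB2 : ∀ k, Ω ⊓ Uk k ⊓ Bk k = ⊥)
    (hcov : closure (Ω : Set X) ⊆ ⋃ k, (Uk k : Set X)) :
    ∃ (n : ℕ) (X' : Scheme.{u}) (π : X' ⟶ X) (j : X' ⟶ CohB1.ProjSpaceOver n S),
      IsImmersion j ∧ QuasiCompact j ∧ j ≫ CohB1.ProjSpaceOver.toBase n S = π ≫ r ∧
      RelProj.IsHProjective π ∧ IsProper π ∧ Set.range π = closure (Ω : Set X) ∧
      Dense ((π ⁻¹ᵁ Ω : X'.Opens) : Set X') ∧ IsIso (π ∣_ Ω) ∧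
      (IsReduced X → IsReduced X') ∧
      (IrreducibleSpace X → (Ω : Set X).Nonempty → IrreducibleSpace X') ∧
      RelProj.IsQuasiProjective (π ≫ r) ∧ RelProj.IsProjective π := by
  obtain ⟨n, X', π, j, s, hj, hjb, hπ, hsπ, hs1, hs2, hs4, hiso, hrange⟩ :=
    chow_core r Uk hUk Vk hVk hUV Ω Bk hB1 hB2 hcov
  haveI hprop : IsProper π := isProper_of_isHProjective π hπ
  haveI : IsProper (CohB1.ProjSpaceOver.toBase n S) := isProper_toBase n S
  have hqc : QuasiCompact j := by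
    haveI : QuasiCompact (j ≫ CohB1.ProjSpaceOver.toBase n S) := by rw [hjb]; infer_instance
    exact QuasiCompact.of_comp j (CohB1.ProjSpaceOver.toBase n S)
  have hπs : ∀ y, π (s y) = Ω.ι y := fun y => by
    rw [← Scheme.Hom.comp_apply, hsπ]
  refine ⟨n, X', π, j, hj, hqc, hjb, hπ, hprop, ?_, ?_, hiso, ?_, ?_, ?_, ?_⟩
  · refine le_antisymm hrange ?_
    refine closure_minimal ?_ π.isClosedMap.isClosed_range
    intro x hx
    exact ⟨s ⟨x, hx⟩, hπs _⟩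
  · refine Dense.mono ?_ s.denseRange
    rintro _ ⟨y, rfl⟩
    show π (s y) ∈ Ω
    rw [hπs]
    exact y.2
  · intro hX
    haveI : QuasiCompact s := by
      haveI : QuasiCompact (s ≫ π) := by rw [hsπ]; infer_instance
      exact QuasiCompact.of_comp s π
    exact IsSchemeTheoreticallyDominant.isReduced s
  · intro hX hne
    haveI : Nonempty (Ω : Scheme.{u}) := hne.to_subtype
    haveI : IrreducibleSpace (Ω : Scheme.{u}) :=
      Ω.ι.isOpenEmbedding.irreducibleSpace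
    exact irreducibleSpace_of_denseRange s s.continuous s.denseRange
  · exact Groth.Agent.H5.VAmple.isQuasiProjective_of_isHQuasiProjective (π ≫ r)
      ⟨n, j, hj, hqc, hjb⟩
  · exact Groth.Agent.S9717.result π hπ

end Main

end

end Groth.Agent.H4.ChowC
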