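import Mathlib

set_option autoImplicit false
set_option linter.style.haveILetI false
set_option linter.unusedSectionVars false
set_option linter.unusedVariables false

namespace Groth.Agent.H4.ChowD

open CategoryTheory CategoryTheory.Limits AlgebraicGeometry TopologicalSpace

universe u

noncomputable section

/-! ## topological data for Chow's lemma -/

section Cover

theorem exists_affine_cover {X S : Scheme.{u}} (r : X ⟶ S) [CompactSpace X] :
    ∃ (κ : Type u) (_ : Finite κ) (Uk : κ → X.Opens) (Vk : κ → S.Opens),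
      (∀ k, IsAffineOpen (Uk k)) ∧ (∀ k, IsAffineOpen (Vk k)) ∧ (∀ k, Uk k ≤ r ⁻¹ᵁ Vk k) ∧
      (⋃ k, (Uk k : Set X)) = Set.univ := by
  have h1 : ∀ x : X, ∃ V : S.Opens, IsAffineOpen V ∧ r x ∈ V := by
    intro x
    obtain ⟨_, ⟨V, hV, rfl⟩, hxV, _⟩ :=
      S.isBasis_affineOpens.exists_subset_of_mem_open (Set.mem_univ (r x)) isOpen_univ
    exact ⟨V, hV, hxV⟩
  choose V hV hxV using h1
  have h2 : ∀ x : X, ∃ U : X.Opens, IsAffineOpen U ∧ x ∈ U ∧ U ≤ r ⁻¹ᵁ V x := by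
    intro x
    obtain ⟨_, ⟨U, hU, rfl⟩, hxU, hUV⟩ :=
      X.isBasis_affineOpens.exists_subset_of_mem_open (show x ∈ ((r ⁻¹ᵁ V x : X.Opens) : Set X)
        from hxV x) (r ⁻¹ᵁ V x).isOpen
    exact ⟨U, hU, hxU, hUV⟩
  choose U hU hxU hUV using h2
  obtain ⟨t, ht⟩ := isCompact_univ.elim_finite_subcover (fun x => (U x : Set X))
    (fun x => (U x).isOpen) (fun x _ => Set.mem_iUnion.mpr ⟨x, hxU x⟩)
  refine ⟨{x // x ∈ t}, inferInstance, fun k => U k.1, fun k => V k.1, fun k => hU _,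
    fun k => hV _, fun k => hUV _, ?_⟩
  refine Set.eq_univ_of_forall fun x => ?_
  obtain ⟨y, hy⟩ := Set.mem_iUnion.mp (ht (Set.mem_univ x))
  obtain ⟨hyt, hxy⟩ := Set.mem_iUnion.mp hy
  exact Set.mem_iUnion.mpr ⟨⟨y, hyt⟩, hxy⟩

end Cover

section Comp

lemma exists_open_in_component {X : Scheme.{u}} (hfin : (irreducibleComponents X).Finite)
    {κ : Type*} [Finite κ] (Uk : κ → X.Opens) (Z : Set X) (hZ : Z ∈ irreducibleComponents X) :
    ∃ W : X.Opens, IsAffineOpen W ∧ (W : Set X).Nonempty ∧ (W : Set X) ⊆ Z ∧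
      ∀ k, ((Uk k : Set X) ∩ Z).Nonempty → W ≤ Uk k := by
  classical
  let Sset : Set (Set X) := irreducibleComponents X \ {Z}
  have hSfin : Sset.Finite := hfin.subset Set.diff_subset
  have hSsub : Sset ⊆ irreducibleComponents X := Set.diff_subset
  have hCclosed : IsClosed (⋃₀ Sset) := by
    rw [Set.sUnion_eq_biUnion]
    exact hSfin.isClosed_biUnion
      (fun t ht => isClosed_of_mem_irreducibleComponents t (hSsub ht))
  have hnot : ¬ Z ⊆ ⋃₀ Sset := fun h =>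
    (mem_of_subset_sUnion_irreducibleComponents Z hZ Sset hSfin hSsub h).2 rfl
  have hsubZ : (⋃₀ Sset)ᶜ ⊆ Z := by
    intro x hx
    have : x ∈ ⋃₀ irreducibleComponents X := by
      rw [sUnion_irreducibleComponents]; trivial
    obtain ⟨Z', hZ', hxZ'⟩ := this
    by_cases h : Z' = Z
    · exact h ▸ hxZ'
    · have hZ'S : Z' ∈ Sset := ⟨hZ', h⟩
      exact absurd (Set.mem_sUnion.mpr ⟨Z', hZ'S, hxZ'⟩) hx
  haveI := Fintype.ofFinite κ
  let K : Finset κ := Finset.univ.filter (fun k => ((Uk k : Set X) ∩ Z).Nonempty)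
  have key : ∀ K' : Finset κ, (∀ k ∈ K', ((Uk k : Set X) ∩ Z).Nonempty) →
      (Z ∩ ((⋃₀ Sset)ᶜ ∩ ⋂ k ∈ K', (Uk k : Set X))).Nonempty := by
    intro K'
    induction K' using Finset.induction_on with
    | empty =>
      intro _
      obtain ⟨x, hxZ, hxC⟩ := Set.not_subset.mp hnot
      exact ⟨x, hxZ, hxC, by simp⟩
    | insert a K' ha ih =>
      intro h
      have h1 := ih (fun k hk => h k (Finset.mem_insert_of_mem hk))
      have h2 : (Z ∩ (Uk a : Set X)).Nonempty := by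
        rw [Set.inter_comm]; exact h a (Finset.mem_insert_self _ _)
      have h3 := hZ.1.2 (Uk a : Set X) ((⋃₀ Sset)ᶜ ∩ ⋂ k ∈ K', (Uk k : Set X)) (Uk a).isOpen
        (hCclosed.isOpen_compl.inter (isOpen_biInter_finset (fun k _ => (Uk k).isOpen))) h2 h1
      obtain ⟨x, hxZ, hxa, hxC, hxK⟩ := h3
      refine ⟨x, hxZ, hxC, ?_⟩
      rw [Finset.set_biInter_insert]
      exact ⟨hxa, hxK⟩
  obtain ⟨x, hxZ, hxs⟩ := key K (fun k hk => (Finset.mem_filter.mp hk).2)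
  obtain ⟨_, ⟨W, hW, rfl⟩, hxW, hWs⟩ :=
    X.isBasis_affineOpens.exists_subset_of_mem_open hxs
      (hCclosed.isOpen_compl.inter (isOpen_biInter_finset (fun k _ => (Uk k).isOpen)))
  refine ⟨W, hW, ⟨x, hxW⟩, fun y hy => hsubZ (hWs hy).1, fun k hk y hy => ?_⟩
  have := (hWs hy).2
  rw [Set.mem_iInter₂] at this
  exact this k (Finset.mem_filter.mpr ⟨Finset.mem_univ _, hk⟩)

end Comp

section DataFin

theorem exists_data_fin {X : Scheme.{u}} (hfin : (irreducibleComponents X).Finite)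
    {κ : Type*} [Finite κ] (Uk : κ → X.Opens) :
    ∃ (Ω : X.Opens) (Bk : κ → X.Opens), IsCompact (Ω : Set X) ∧ Dense (Ω : Set X) ∧
      (∀ k, Ω ≤ Uk k ⊔ Bk k) ∧ (∀ k, Ω ⊓ Uk k ⊓ Bk k = ⊥) := by
  classical
  haveI : Finite (irreducibleComponents X) := hfin.to_subtype
  have h := fun i : irreducibleComponents X => exists_open_in_component hfin Uk i.1 i.2
  choose W hW hWne hWZ hWU using h
  refine ⟨⨆ i, W i,
    fun k => ⨆ (i : {i : irreducibleComponents X // ¬ ((Uk k : Set X) ∩ i.1).Nonempty}), W i.1,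
    ?_, ?_, ?_, ?_⟩
  · rw [Opens.coe_iSup]
    exact isCompact_iUnion (fun i => (hW i).isCompact)
  · rw [dense_iff_inter_open]
    rintro U hU ⟨y, hy⟩
    have : y ∈ ⋃₀ irreducibleComponents X := by
      rw [sUnion_irreducibleComponents]; trivial
    obtain ⟨Z, hZ, hyZ⟩ := this
    obtain ⟨x, hx⟩ := hWne ⟨Z, hZ⟩
    have h3 := hZ.1.2 U (W ⟨Z, hZ⟩ : Set X) hU (W ⟨Z, hZ⟩).isOpen ⟨y, hyZ, hy⟩
      ⟨x, hWZ ⟨Z, hZ⟩ hx, hx⟩
    obtain ⟨z, _, hzU, hzW⟩ := h3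
    exact ⟨z, hzU, Opens.mem_iSup.mpr ⟨_, hzW⟩⟩
  · intro k x hx
    obtain ⟨i, hxi⟩ := Opens.mem_iSup.mp hx
    by_cases hk : ((Uk k : Set X) ∩ i.1).Nonempty
    · exact Opens.mem_sup.mpr (Or.inl (hWU i k hk hxi))
    · exact Opens.mem_sup.mpr (Or.inr (Opens.mem_iSup.mpr ⟨⟨i, hk⟩, hxi⟩))
  · intro k
    refine le_bot_iff.mp ?_
    rintro x ⟨⟨_, hxU⟩, hxB⟩
    obtain ⟨⟨i, hk⟩, hxi⟩ := Opens.mem_iSup.mp hxB
    exact hk ⟨x, hxU, hWZ i hxi⟩

end DataFin

end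

end Groth.Agent.H4.ChowD
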