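import Mathlib
import Groth.Agent.H4.ChowC
import Groth.Agent.H4.ChowD

set_option autoImplicit false
set_option linter.style.haveILetI false
set_option linter.unusedSectionVars false
set_option linter.unusedVariables false

namespace Groth.Agent.H4.ChowE

open CategoryTheory CategoryTheory.Limits AlgebraicGeometry TopologicalSpace
open Groth.Agent.H4.ChowC Groth.Agent.H4.ChowD

universe u

noncomputable section

theorem chow_fin {X S : Scheme.{u}} (r : X ⟶ S) [CompactSpace S] [QuasiSeparatedSpace S]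
    [IsSeparated r] [LocallyOfFiniteType r] [QuasiCompact r]
    (hfin : (irreducibleComponents X).Finite) :
    ∃ (n : ℕ) (X' : Scheme.{u}) (π : X' ⟶ X) (j : X' ⟶ CohB1.ProjSpaceOver n S) (Ω : X.Opens),
      IsImmersion j ∧ QuasiCompact j ∧ j ≫ CohB1.ProjSpaceOver.toBase n S = π ≫ r ∧
      RelProj.IsHProjective π ∧ IsProper π ∧ Surjective π ∧ Dense (Ω : Set X) ∧
      Dense ((π ⁻¹ᵁ Ω : X'.Opens) : Set X') ∧ IsIso (π ∣_ Ω) ∧
      (IsReduced X → IsReduced X') ∧ (IrreducibleSpace X → IrreducibleSpace X') ∧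
      RelProj.IsQuasiProjective (π ≫ r) ∧ RelProj.IsProjective π := by
  haveI : CompactSpace X := QuasiCompact.compactSpace_of_compactSpace r
  haveI : QuasiSeparatedSpace X := quasiSeparatedSpace_of_quasiSeparated r
  obtain ⟨κ, hκ, Uk, Vk, hUk, hVk, hUV, hcover⟩ := exists_affine_cover r
  obtain ⟨Ω, Bk, hΩc, hΩd, hB1, hB2⟩ := exists_data_fin hfin Uk
  haveI : CompactSpace (Ω : Scheme.{u}) := isCompact_iff_compactSpace.mp hΩc
  haveI : QuasiCompact Ω.ι := inferInstance
  obtain ⟨n, X', π, j, hj, hqc, hjb, hπ, hprop, hrange, hdense, hiso, hred, hirr, hqp, hp⟩ :=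
    chow_main r Uk hUk Vk hVk hUV Ω Bk hB1 hB2 (by rw [hcover]; exact Set.subset_univ _)
  refine ⟨n, X', π, j, Ω, hj, hqc, hjb, hπ, hprop, ?_, hΩd, hdense, hiso, hred, ?_, hqp, hp⟩
  · rw [hΩd.closure_eq] at hrange
    exact ⟨Set.range_eq_univ.mp hrange⟩
  · intro hX
    refine hirr hX ?_
    exact hΩd.nonempty

end

end Groth.Agent.H4.ChowE
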