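import Mathlib
import Groth.Prelude.Def_AlgGrp
import Groth.Prelude.Def_W4bk4git07Quot
import Groth.Agent.H4.TbA
import Groth.Agent.Lib.Helper5.PropNhd.PnA

/-!
# Associated bundles: morphisms of principal bundles are cartesian (Over-level)
-/

set_option autoImplicit false

universe u

open CategoryTheory CategoryTheory.Limits MonoidalCategory CartesianMonoidalCategory MonObj GrpObj
  AlgebraicGeometry MorphismProperty

namespace Groth.Agent.H4.TbB

section Cart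

variable {C : Type*} [Category C] [CartesianMonoidalCategory C]

lemma ext3 {A B D Z : C} (u v : A ⊗ (B ⊗ D) ⟶ Z)
    (h : ∀ (T : C) (a : T ⟶ A) (b : T ⟶ B) (d : T ⟶ D),
      lift a (lift b d) ≫ u = lift a (lift b d) ≫ v) : u = v := by
  have h0 := h _ (fst A (B ⊗ D)) (snd A (B ⊗ D) ≫ fst B D) (snd A (B ⊗ D) ≫ snd B D)
  have e1 : lift (fst A (B ⊗ D)) (lift (snd A (B ⊗ D) ≫ fst B D) (snd A (B ⊗ D) ≫ snd B D)) =
      𝟙 _ := by
    apply CartesianMonoidalCategory.hom_ext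
    · rw [lift_fst, Category.id_comp]
    · rw [lift_snd, Category.id_comp]
      apply CartesianMonoidalCategory.hom_ext
      · rw [lift_fst]
      · rw [lift_snd]
  rwa [e1, Category.id_comp, Category.id_comp] at h0

lemma ext4 {A B D E Z : C} (u v : A ⊗ (B ⊗ (D ⊗ E)) ⟶ Z)
    (h : ∀ (T : C) (a : T ⟶ A) (b : T ⟶ B) (d : T ⟶ D) (e : T ⟶ E),
      lift a (lift b (lift d e)) ≫ u = lift a (lift b (lift d e)) ≫ v) : u = v := by
  apply ext3
  intro T a b de
  have h0 := h T a b (de ≫ fst D E) (de ≫ snd D E)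
  have e1 : lift (de ≫ fst D E) (de ≫ snd D E) = de := by
    apply CartesianMonoidalCategory.hom_ext
    · rw [lift_fst]
    · rw [lift_snd]
  rwa [e1] at h0

end Cart

section Over

variable {S : Scheme.{u}}

/-- Over-level version: an equivariant morphism from a principal bundle to a pseudo-torsor is
cartesian. -/
theorem isPullback_bundle {H : Over S} [GrpObj H] {P Q P₀ Q₀ : Over S}
    (a : AlgGrp.Action H P) (q : P ⟶ Q) (hq : GIT.IsInvariant a q)
    (hΨ : IsIso (GIT.PsiY a q hq))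
    (a₀ : AlgGrp.Action H P₀) (q₀ : P₀ ⟶ Q₀) (hq₀ : GIT.IsInvariant a₀ q₀)
    (hΨ₀ : IsIso (GIT.PsiY a₀ q₀ hq₀))
    (Φ : P ⟶ P₀) (c : Q ⟶ Q₀) (comm : Φ ≫ q₀ = q ≫ c) (heq : (H ◁ Φ) ≫ a₀.act = a.act ≫ Φ)
    [Flat q.left] [Surjective q.left] [QuasiCompact q.left] :
    IsPullback Φ.left q.left q₀.left c.left := by
  have hpb : IsPullback (H ◁ Φ).left (snd H P).left (snd H P₀).left Φ.left :=
    (Groth.Agent.H4.TbA.isPullback_whiskerLeft_snd H Φ).map (Over.forget S)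
  have hc : Φ.left ≫ q₀.left = q.left ≫ c.left := congrArg (fun t => t.left) comm
  have he : (H ◁ Φ).left ≫ a₀.act.left = a.act.left ≫ Φ.left := congrArg (fun t => t.left) heq
  exact Groth.Agent.H4.TbA.isPullback_of_torsor q.left q₀.left Φ.left c.left hc
    a.act.left (snd H P).left hq.left hΨ a₀.act.left (snd H P₀).left hq₀.left hΨ₀
    (H ◁ Φ).left he hpb

lemma quasiCompact_left_of {P Q : Over S} (q : P ⟶ Q) [QuasiCompact P.hom]
    [QuasiSeparated Q.hom] : QuasiCompact q.left := by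
  haveI : QuasiCompact (q.left ≫ Q.hom) := by
    rw [Over.w q]
    infer_instance
  exact QuasiCompact.of_comp q.left Q.hom

lemma quasiCompact_tensor_hom (G X : Over S) [QuasiCompact G.hom] [QuasiCompact X.hom] :
    QuasiCompact (G ⊗ X).hom := by
  show QuasiCompact (pullback.fst G.hom X.hom ≫ G.hom)
  infer_instance

variable {G H : Over S} [GrpObj G] [GrpObj H] (j : H ⟶ G)

lemma eqv_fst {X : Over S} (r : AlgGrp.Action H G) (aX : AlgGrp.Action H X)
    (b : AlgGrp.Action H (G ⊗ X))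
    (hr : ∀ (T : Over S) (h : T ⟶ H) (g : T ⟶ G), lift h g ≫ r.act = g * (h ≫ j)⁻¹)
    (hb : ∀ (T : Over S) (h : T ⟶ H) (g : T ⟶ G) (x : T ⟶ X),
      lift h (lift g x) ≫ b.act = lift (g * (h ≫ j)⁻¹) (lift h x ≫ aX.act)) :
    (H ◁ fst G X) ≫ r.act = b.act ≫ fst G X := by
  apply ext3
  intro T h g x
  rw [← Category.assoc, lift_whiskerLeft, lift_fst, hr, ← Category.assoc, hb, lift_fst]

lemma eqv_map {X Y : Over S} (aX : AlgGrp.Action H X) (aY : AlgGrp.Action H Y) (i : X ⟶ Y)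
    (hi : aX.act ≫ i = (H ◁ i) ≫ aY.act)
    (b : AlgGrp.Action H (G ⊗ X))
    (hb : ∀ (T : Over S) (h : T ⟶ H) (g : T ⟶ G) (x : T ⟶ X),
      lift h (lift g x) ≫ b.act = lift (g * (h ≫ j)⁻¹) (lift h x ≫ aX.act))
    (c : AlgGrp.Action H (G ⊗ Y))
    (hc : ∀ (T : Over S) (h : T ⟶ H) (g : T ⟶ G) (x : T ⟶ Y),
      lift h (lift g x) ≫ c.act = lift (g * (h ≫ j)⁻¹) (lift h x ≫ aY.act)) :
    (H ◁ (G ◁ i)) ≫ c.act = b.act ≫ (G ◁ i) := by
  apply ext3
  intro T h g x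
  rw [← Category.assoc, lift_whiskerLeft, lift_whiskerLeft, hc, ← Category.assoc, hb,
    lift_whiskerLeft, Category.assoc, hi, ← Category.assoc, lift_whiskerLeft]

lemma eqv_prodfst {X Y : Over S} (aX : AlgGrp.Action H X) (aY : AlgGrp.Action H Y)
    (b : AlgGrp.Action H (G ⊗ X))
    (hb : ∀ (T : Over S) (h : T ⟶ H) (g : T ⟶ G) (x : T ⟶ X),
      lift h (lift g x) ≫ b.act = lift (g * (h ≫ j)⁻¹) (lift h x ≫ aX.act))
    (d : AlgGrp.Action H (G ⊗ (X ⊗ Y)))
    (hd : ∀ (T : Over S) (h : T ⟶ H) (g : T ⟶ G) (x : T ⟶ X) (y : T ⟶ Y),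
      lift h (lift g (lift x y)) ≫ d.act =
        lift (g * (h ≫ j)⁻¹) (lift (lift h x ≫ aX.act) (lift h y ≫ aY.act))) :
    (H ◁ (G ◁ fst X Y)) ≫ b.act = d.act ≫ (G ◁ fst X Y) := by
  apply ext4
  intro T h g x y
  rw [← Category.assoc, lift_whiskerLeft, lift_whiskerLeft, lift_fst, hb, ← Category.assoc, hd,
    lift_whiskerLeft, lift_fst]

end Over

end Groth.Agent.H4.TbB
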