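import Mathlib
import Groth.Prelude.Def_AlgGrp
import Groth.Prelude.Def_ChGrp
import Groth.Prelude.Def_W4bk4git07Quot
import Groth.Agent.H4.TbB

/-!
# Mixed spaces: maps induced on principal bundle quotients
-/

set_option autoImplicit false

universe u

open CategoryTheory CategoryTheory.Limits MonoidalCategory CartesianMonoidalCategory MonObj GrpObj
  AlgebraicGeometry MorphismProperty

namespace Groth.Agent.H4.TbD

section Cart

variable {C : Type*} [Category C] [CartesianMonoidalCategory C]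

theorem isPullback_whiskerRight_fst {X Y : C} (f : X ⟶ Y) (U : C) :
    IsPullback (f ▷ U) (fst X U) (fst Y U) f := by
  refine ⟨⟨whiskerRight_fst f U⟩, ⟨PullbackCone.IsLimit.mk _
    (fun s => lift s.snd (s.fst ≫ snd Y U)) ?_ ?_ ?_⟩⟩
  · intro s
    apply CartesianMonoidalCategory.hom_ext
    · rw [Category.assoc, whiskerRight_fst, lift_fst_assoc]
      exact s.condition.symm
    · rw [Category.assoc, whiskerRight_snd, lift_snd]
  · intro s
    exact lift_fst _ _
  · intro s m h1 h2
    apply CartesianMonoidalCategory.hom_ext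
    · rw [lift_fst, h2]
    · rw [lift_snd, ← h1, Category.assoc, whiskerRight_snd]

end Cart

section Over

variable {S : Scheme.{u}} {G X Y U XG YG : Over S} [GrpObj G]

lemma eqv_whiskerRight_prod (a : AlgGrp.Action G X) (aY : AlgGrp.Action G Y)
    (b : AlgGrp.Action G U) (f : X ⟶ Y) (hf : AlgGrp.Action.IsEquivariant a aY f) :
    (G ◁ (f ▷ U)) ≫ (aY.prod b).act = (a.prod b).act ≫ (f ▷ U) := by
  have hf' : a.act ≫ f = (G ◁ f) ≫ aY.act := hf
  show (G ◁ (f ▷ U)) ≫ lift ((G ◁ fst Y U) ≫ aY.act) ((G ◁ snd Y U) ≫ b.act) =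
    lift ((G ◁ fst X U) ≫ a.act) ((G ◁ snd X U) ≫ b.act) ≫ (f ▷ U)
  apply CartesianMonoidalCategory.hom_ext
  · rw [Category.assoc, lift_fst, Category.assoc, whiskerRight_fst, lift_fst_assoc,
      ← MonoidalCategory.whiskerLeft_comp_assoc, whiskerRight_fst,
      MonoidalCategory.whiskerLeft_comp_assoc, Category.assoc, hf']
  · rw [Category.assoc, lift_snd, Category.assoc, whiskerRight_snd, lift_snd,
      ← MonoidalCategory.whiskerLeft_comp_assoc, whiskerRight_snd]

theorem mixed_map (a : AlgGrp.Action G X) (aY : AlgGrp.Action G Y) (b : AlgGrp.Action G U)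
    (f : X ⟶ Y) (hf : AlgGrp.Action.IsEquivariant a aY f)
    (qX : X ⊗ U ⟶ XG) (hqX : GIT.IsInvariant (a.prod b) qX)
    [Flat qX.left] [Surjective qX.left] [QuasiCompact qX.left]
    (hcX : IsIso (GIT.PsiY (a.prod b) qX hqX))
    (qY : Y ⊗ U ⟶ YG) (hqY : GIT.IsInvariant (aY.prod b) qY)
    [Flat qY.left] [Surjective qY.left] [QuasiCompact qY.left]
    (hcY : IsIso (GIT.PsiY (aY.prod b) qY hqY))
    (fG : XG ⟶ YG) (hfG : qX ≫ fG = (f ▷ U) ≫ qY)
    (P : MorphismProperty Scheme.{u}) [P.IsStableUnderBaseChange]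
    [P.DescendsAlong (@Surjective ⊓ @Flat ⊓ @QuasiCompact)] (h : P f.left) : P fG.left := by
  have E := eqv_whiskerRight_prod a aY b f hf
  have sq : IsPullback (f ▷ U).left qX.left qY.left fG.left :=
    Groth.Agent.H4.TbB.isPullback_bundle (a.prod b) qX hqX hcX (aY.prod b) qY hqY hcY (f ▷ U) fG
      hfG.symm E
  have sqf : IsPullback (f ▷ U).left (fst X U).left (fst Y U).left f.left :=
    (isPullback_whiskerRight_fst f U).map (Over.forget S)
  have h1 : P (f ▷ U).left := MorphismProperty.of_isPullback (P := P) sqf.flip h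
  exact of_isPullback_of_descendsAlong (P := P) (Q := @Surjective ⊓ @Flat ⊓ @QuasiCompact) sq
    ⟨⟨inferInstance, inferInstance⟩, inferInstance⟩ h1

end Over

end Groth.Agent.H4.TbD
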