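import Mathlib
import Groth.Prelude.Def_ChGrp
import Groth.Agent.H4.TbD
import Groth.Agent.Lib.Helper1.FpqcAffine
import Groth.Agent.Lib.Helper3.FlatDesc

set_option autoImplicit false
universe u
open CategoryTheory MonoidalCategory CartesianMonoidalCategory MonObj GrpObj AlgebraicGeometry CategoryTheory.Limits

namespace Groth.Agent.H4.FtA

variable {S : Scheme.{u}}

theorem hom_ext_r3 {A B C Y : Over S} {f g : A ⊗ (B ⊗ C) ⟶ Y}
    (h : ∀ (T : Over S) (a : T ⟶ A) (b : T ⟶ B) (c : T ⟶ C),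
      lift a (lift b c) ≫ f = lift a (lift b c) ≫ g) : f = g := by
  have e : lift (fst A (B ⊗ C)) (lift (snd A (B ⊗ C) ≫ fst B C) (snd A (B ⊗ C) ≫ snd B C)) =
      𝟙 (A ⊗ (B ⊗ C)) := by
    rw [← comp_lift, lift_fst_snd, Category.comp_id, lift_fst_snd]
  have := h _ (fst A (B ⊗ C)) (snd A (B ⊗ C) ≫ fst B C) (snd A (B ⊗ C) ≫ snd B C)
  rwa [e, Category.id_comp, Category.id_comp] at this

theorem dec3 {A B C T : Over S} (p : T ⟶ (A ⊗ B) ⊗ C) :
    ∃ (a : T ⟶ A) (b : T ⟶ B) (c : T ⟶ C), p = lift (lift a b) c := by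
  refine ⟨p ≫ fst _ _ ≫ fst _ _, p ≫ fst _ _ ≫ snd _ _, p ≫ snd _ _, ?_⟩
  apply CartesianMonoidalCategory.hom_ext
  · rw [lift_fst]
    apply CartesianMonoidalCategory.hom_ext
    · rw [lift_fst, Category.assoc]
    · rw [lift_snd, Category.assoc]
  · rw [lift_snd]

/-- The shear map is equivariant (forward direction of the torsor criterion). -/
theorem fwd {G X : Over S} [GrpObj G] (a : AlgGrp.Action G X) :
    (G ◁ lift a.act (snd G X)) ≫ (α_ G X X).inv ≫ (a.act ▷ X) =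
      (α_ G G X).inv ≫ (μ[G] ▷ X) ≫ lift a.act (snd G X) := by
  refine hom_ext_r3 fun T g h x => ?_
  have hΨ : ∀ (h : T ⟶ G) (x : T ⟶ X),
      lift h x ≫ lift a.act (snd G X) = lift (lift h x ≫ a.act) x := by
    intro h x; rw [comp_lift, lift_snd]
  have hL : lift g (lift h x) ≫ (G ◁ lift a.act (snd G X)) ≫ (α_ G X X).inv ≫ (a.act ▷ X) =
      lift (lift g (lift h x ≫ a.act) ≫ a.act) x := by
    rw [lift_whiskerLeft_assoc, hΨ, lift_lift_associator_inv_assoc, lift_whiskerRight]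
  have hR : lift g (lift h x) ≫ (α_ G G X).inv ≫ (μ[G] ▷ X) ≫ lift a.act (snd G X) =
      lift (lift (g * h) x ≫ a.act) x := by
    rw [lift_lift_associator_inv_assoc, lift_whiskerRight_assoc, hΨ, ← Hom.mul_def]
  rw [hL, hR, AlgGrp.Action.lift_mul_act]

section bwd

variable {G X Y : Over S} [GrpObj G] (a : AlgGrp.Action G X) (e : G ⊗ Y ≅ X ⊗ Y)
  (h1 : e.hom ≫ snd X Y = snd G Y)
  (h2 : (G ◁ e.hom) ≫ (α_ G X Y).inv ≫ (a.act ▷ Y) = (α_ G G Y).inv ≫ (μ[G] ▷ Y) ≫ e.hom)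

include h1 in
theorem h1' : e.inv ≫ snd G Y = snd X Y := by rw [← h1, Iso.inv_hom_id_assoc]

include h1 in
theorem e_pt {T : Over S} (g : T ⟶ G) (y : T ⟶ Y) :
    lift g y ≫ e.hom = lift (lift g y ≫ e.hom ≫ fst X Y) y := by
  apply CartesianMonoidalCategory.hom_ext
  · rw [lift_fst, Category.assoc]
  · rw [lift_snd, Category.assoc, h1, lift_snd]

include h1 in
theorem einv_pt {T : Over S} (x : T ⟶ X) (y : T ⟶ Y) :
    lift x y ≫ e.inv = lift (lift x y ≫ e.inv ≫ fst G Y) y := by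
  apply CartesianMonoidalCategory.hom_ext
  · rw [lift_fst, Category.assoc]
  · rw [lift_snd, Category.assoc, h1' e h1, lift_snd]

include h1 in
theorem eps_gam {T : Over S} (x : T ⟶ X) (y : T ⟶ Y) :
    lift (lift x y ≫ e.inv ≫ fst G Y) y ≫ e.hom ≫ fst X Y = x := by
  rw [← einv_pt e h1 x y, Category.assoc, Iso.inv_hom_id_assoc, lift_fst]

include h1 in
theorem gam_eps {T : Over S} (g : T ⟶ G) (y : T ⟶ Y) :
    lift (lift g y ≫ e.hom ≫ fst X Y) y ≫ e.inv ≫ fst G Y = g := by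
  rw [← e_pt e h1 g y, Category.assoc, Iso.hom_inv_id_assoc, lift_fst]

include h1 h2 in
theorem eps_mul {T : Over S} (g h : T ⟶ G) (y : T ⟶ Y) :
    lift g (lift h y ≫ e.hom ≫ fst X Y) ≫ a.act = lift (g * h) y ≫ e.hom ≫ fst X Y := by
  have hL : lift g (lift h y) ≫ (G ◁ e.hom) ≫ (α_ G X Y).inv ≫ (a.act ▷ Y) =
      lift (lift g (lift h y ≫ e.hom ≫ fst X Y) ≫ a.act) y := by
    rw [lift_whiskerLeft_assoc, e_pt e h1 h y, lift_lift_associator_inv_assoc, lift_whiskerRight]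
  have hR : lift g (lift h y) ≫ (α_ G G Y).inv ≫ (μ[G] ▷ Y) ≫ e.hom =
      lift (lift (g * h) y ≫ e.hom ≫ fst X Y) y := by
    rw [lift_lift_associator_inv_assoc, lift_whiskerRight_assoc, ← Hom.mul_def, e_pt e h1]
  have := congrArg (fun t => t ≫ fst X Y)
    (hL.symm.trans ((congrArg (fun t => lift g (lift h y) ≫ t) h2).trans hR))
  simpa only [lift_fst] using this

include h1 h2 in
theorem inj_pt {T : Over S} (g g' : T ⟶ G) (x : T ⟶ X) (y : T ⟶ Y)
    (hh : lift g x ≫ a.act = lift g' x ≫ a.act) : g = g' := by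
  obtain ⟨g₂, hg₂⟩ : ∃ g₂, g₂ = lift x y ≫ e.inv ≫ fst G Y := ⟨_, rfl⟩
  have hx : lift g₂ y ≫ e.hom ≫ fst X Y = x := by rw [hg₂]; exact eps_gam e h1 x y
  have k1 : lift g x ≫ a.act = lift (g * g₂) y ≫ e.hom ≫ fst X Y := by
    rw [← eps_mul a e h1 h2 g g₂ y, hx]
  have k2 : lift g' x ≫ a.act = lift (g' * g₂) y ≫ e.hom ≫ fst X Y := by
    rw [← eps_mul a e h1 h2 g' g₂ y, hx]
  have k3 : lift (g * g₂) y ≫ e.hom ≫ fst X Y = lift (g' * g₂) y ≫ e.hom ≫ fst X Y := by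
    rw [← k1, ← k2, hh]
  have k4 : g * g₂ = g' * g₂ :=
    calc g * g₂ = lift (lift (g * g₂) y ≫ e.hom ≫ fst X Y) y ≫ e.inv ≫ fst G Y :=
          (gam_eps e h1 _ y).symm
      _ = lift (lift (g' * g₂) y ≫ e.hom ≫ fst X Y) y ≫ e.inv ≫ fst G Y := by rw [k3]
      _ = g' * g₂ := gam_eps e h1 _ y
  exact mul_right_cancel k4

include h1 h2 in
theorem surj_pt {T : Over S} (x₁ x₂ : T ⟶ X) (y : T ⟶ Y) :
    ∃ g : T ⟶ G, lift g x₂ ≫ a.act = x₁ := by
  obtain ⟨g₁, hg₁⟩ : ∃ g₁, g₁ = lift x₁ y ≫ e.inv ≫ fst G Y := ⟨_, rfl⟩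
  obtain ⟨g₂, hg₂⟩ : ∃ g₂, g₂ = lift x₂ y ≫ e.inv ≫ fst G Y := ⟨_, rfl⟩
  have hx₁ : lift g₁ y ≫ e.hom ≫ fst X Y = x₁ := by rw [hg₁]; exact eps_gam e h1 x₁ y
  have hx₂ : lift g₂ y ≫ e.hom ≫ fst X Y = x₂ := by rw [hg₂]; exact eps_gam e h1 x₂ y
  refine ⟨g₁ * g₂⁻¹, ?_⟩
  calc lift (g₁ * g₂⁻¹) x₂ ≫ a.act
      = lift (g₁ * g₂⁻¹) (lift g₂ y ≫ e.hom ≫ fst X Y) ≫ a.act := by rw [hx₂]
    _ = lift (g₁ * g₂⁻¹ * g₂) y ≫ e.hom ≫ fst X Y := eps_mul a e h1 h2 _ _ y
    _ = x₁ := by rw [_root_.inv_mul_cancel_right, hx₁]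

include h1 h2 in
theorem isIso_whisker : IsIso ((lift a.act (snd G X)) ▷ Y) := by
  apply isIso_of_yoneda_map_bijective
  intro T
  have hpt : ∀ (g : T ⟶ G) (x : T ⟶ X) (y : T ⟶ Y),
      lift (lift g x) y ≫ ((lift a.act (snd G X)) ▷ Y) =
        lift (lift (lift g x ≫ a.act) x) y := by
    intro g x y
    rw [lift_whiskerRight, comp_lift, lift_snd]
  constructor
  · intro p p' hpp
    obtain ⟨g, x, y, rfl⟩ := dec3 p
    obtain ⟨g', x', y', rfl⟩ := dec3 p'
    have hpp' : lift (lift g x) y ≫ ((lift a.act (snd G X)) ▷ Y) =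
        lift (lift g' x') y' ≫ ((lift a.act (snd G X)) ▷ Y) := hpp
    rw [hpt, hpt] at hpp'
    have ey : y = y' := by
      simpa only [lift_snd] using
        congrArg (fun t : T ⟶ (X ⊗ X) ⊗ Y => t ≫ snd (X ⊗ X) Y) hpp'
    have ex : x = x' := by
      simpa only [lift_fst, lift_snd, lift_fst_assoc, lift_snd_assoc] using
        congrArg (fun t : T ⟶ (X ⊗ X) ⊗ Y => t ≫ fst (X ⊗ X) Y ≫ snd X X) hpp'
    have eg : lift g x ≫ a.act = lift g' x' ≫ a.act := by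
      simpa only [lift_fst, lift_snd, lift_fst_assoc, lift_snd_assoc] using
        congrArg (fun t : T ⟶ (X ⊗ X) ⊗ Y => t ≫ fst (X ⊗ X) Y ≫ fst X X) hpp'
    subst ey ex
    rw [inj_pt a e h1 h2 g g' x y eg]
  · intro q
    obtain ⟨x₁, x₂, y, rfl⟩ := dec3 q
    obtain ⟨g, hg⟩ := surj_pt a e h1 h2 x₁ x₂ y
    refine ⟨lift (lift g x₂) y, ?_⟩
    show lift (lift g x₂) y ≫ ((lift a.act (snd G X)) ▷ Y) = lift (lift x₁ x₂) y
    rw [hpt, hg]

include h1 h2 in
theorem isIso_shear [Surjective Y.hom] [Flat Y.hom] [QuasiCompact Y.hom] :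
    IsIso (lift a.act (snd G X)) := by
  haveI := isIso_whisker a e h1 h2
  have sq : IsPullback ((lift a.act (snd G X)) ▷ Y).left (fst (G ⊗ X) Y).left
      (fst (X ⊗ X) Y).left (lift a.act (snd G X)).left :=
    (Groth.Agent.H4.TbD.isPullback_whiskerRight_fst (lift a.act (snd G X)) Y).map (Over.forget S)
  haveI : IsIso ((lift a.act (snd G X)) ▷ Y).left :=
    inferInstanceAs (IsIso ((Over.forget S).map ((lift a.act (snd G X)) ▷ Y)))
  haveI : Surjective (fst (X ⊗ X) Y).left :=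
    show Surjective (pullback.fst (X ⊗ X).hom Y.hom) from inferInstance
  haveI : Flat (fst (X ⊗ X) Y).left :=
    show Flat (pullback.fst (X ⊗ X).hom Y.hom) from inferInstance
  haveI : QuasiCompact (fst (X ⊗ X) Y).left :=
    show QuasiCompact (pullback.fst (X ⊗ X).hom Y.hom) from inferInstance
  have hiso : (MorphismProperty.isomorphisms Scheme.{u}) (lift a.act (snd G X)).left :=
    MorphismProperty.of_isPullback_of_descendsAlong
      (P := MorphismProperty.isomorphisms Scheme.{u})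
      (Q := @Surjective ⊓ @Flat ⊓ @QuasiCompact) sq
      ⟨⟨inferInstance, inferInstance⟩, inferInstance⟩
      ((MorphismProperty.isomorphisms.iff _).mpr inferInstance)
  haveI : IsIso ((Over.forget S).map (lift a.act (snd G X))) :=
    (MorphismProperty.isomorphisms.iff _).mp hiso
  exact isIso_of_reflects_iso _ (Over.forget S)

include h1 in
theorem prop_X (P : MorphismProperty Scheme.{u}) [P.IsStableUnderBaseChange]
    [P.DescendsAlong (@Surjective ⊓ @Flat ⊓ @QuasiCompact)]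
    [Surjective Y.hom] [Flat Y.hom] [QuasiCompact Y.hom] (hG : P G.hom) : P X.hom := by
  have sqX : IsPullback (fst X Y).left (snd X Y).left X.hom Y.hom :=
    show IsPullback (pullback.fst X.hom Y.hom) (pullback.snd X.hom Y.hom) X.hom Y.hom from
      IsPullback.of_hasPullback X.hom Y.hom
  have hs : P (snd G Y).left :=
    show P (pullback.snd G.hom Y.hom) from P.pullback_snd _ _ hG
  have hs2 : (snd X Y).left = e.inv.left ≫ (snd G Y).left := by
    rw [← Over.comp_left, h1' e h1]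
  have hs' : P (snd X Y).left := by
    rw [hs2]
    exact (P.cancel_left_of_respectsIso _ _).mpr hs
  exact MorphismProperty.of_isPullback_of_descendsAlong (P := P)
    (Q := @Surjective ⊓ @Flat ⊓ @QuasiCompact) sqX.flip
    ⟨⟨inferInstance, inferInstance⟩, inferInstance⟩ hs'

end bwd

theorem surjective_grp (G : Over S) [GrpObj G] : Surjective G.hom := by
  haveI : Surjective (η[G].left ≫ G.hom) := by
    rw [Over.w]
    show Surjective (𝟙 S)
    infer_instance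
  exact Surjective.of_comp η[G].left G.hom

end Groth.Agent.H4.FtA
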