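import Mathlib
import Groth.Prelude.Def_Red2


universe u
open CategoryTheory MonoidalCategory CartesianMonoidalCategory MonObj GrpObj AlgebraicGeometry Limits

namespace Groth.Agent.H4.GaGm

section adj

variable {S Z : Scheme.{u}} (f : S ⟶ Z) (H : Over Z) [GrpObj H] {X : Over S}

/-- transpose of a point of a base-changed group -/
noncomputable def tr (x : X ⟶ Red.bc f H) : (Over.map f).obj X ⟶ H :=
  ((Over.mapPullbackAdj f).homEquiv X H).symm x

theorem tr_left (x : X ⟶ Red.bc f H) : (tr f H x).left = x.left ≫ pullback.fst _ _ := rfl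

theorem homEquiv_mul (b b' : (Over.map f).obj X ⟶ H) :
    (Over.mapPullbackAdj f).homEquiv X H (b * b') =
      (Over.mapPullbackAdj f).homEquiv X H b * (Over.mapPullbackAdj f).homEquiv X H b' := by
  rw [Adjunction.homEquiv_unit, Adjunction.homEquiv_unit, Adjunction.homEquiv_unit,
    Functor.map_mul, MonObj.comp_mul]

theorem tr_mul (x y : X ⟶ Red.bc f H) : tr f H (x * y) = tr f H x * tr f H y := by
  apply ((Over.mapPullbackAdj f).homEquiv X H).injective
  rw [homEquiv_mul]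
  simp [tr]

theorem tr_injective : Function.Injective (tr f H (X := X)) :=
  ((Over.mapPullbackAdj f).homEquiv X H).symm.injective

end adj

section affine

open TensorProduct

variable {R A : CommRingCat.{u}} [Bialgebra R A] {Y : Over (Spec R)}

/-- the comparison iso, with the monoidal product as source -/
noncomputable def pe : ((Spec A).asOver (Spec R) ⊗ (Spec A).asOver (Spec R)).left ⟶
    Spec (CommRingCat.of (A ⊗[R] A)) := (pullbackSpecIso R A A).hom

theorem pe_fst : pe (R := R) (A := A) ≫ Spec.map (CommRingCat.ofHom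
    (Algebra.TensorProduct.includeLeftRingHom (R := R) (A := A) (B := A))) =
    (fst ((Spec A).asOver (Spec R)) ((Spec A).asOver (Spec R))).left :=
  pullbackSpecIso_hom_fst R A A

theorem pe_snd : pe (R := R) (A := A) ≫ Spec.map (CommRingCat.ofHom (RingHomClass.toRingHom
    (Algebra.TensorProduct.includeRight (R := R) (A := A) (B := A)))) =
    (snd ((Spec A).asOver (Spec R)) ((Spec A).asOver (Spec R))).left :=
  pullbackSpecIso_hom_snd R A A

theorem pe_mul : μ[(Spec A).asOver (Spec R)].left =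
    pe (R := R) (A := A) ≫ Spec.map (CommRingCat.ofHom (Bialgebra.comulAlgHom R A).toRingHom) :=
  mul_spec_asOver_spec_left

/-- evaluation of a `Y`-point of `Spec A` on elements of `A` -/
noncomputable def ev (b : Y ⟶ (Spec A).asOver (Spec R)) : A →+* Γ(Y.left, ⊤) :=
  (b.left.appTop).hom.comp (Scheme.ΓSpecIso A).inv.hom

/-- the evaluation on `A ⊗ A` of a pair of points -/
noncomputable def ev₂ (b b' : Y ⟶ (Spec A).asOver (Spec R)) : (A ⊗[R] A : Type u) →+* Γ(Y.left, ⊤) :=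
  (((lift b b').left ≫ pe).appTop).hom.comp
    (Scheme.ΓSpecIso (CommRingCat.of (A ⊗[R] A))).inv.hom

theorem ev_comp {B : CommRingCat.{u}} (g : Y.left ⟶ Spec B) (φ : A ⟶ B) (a : A) :
    ((g ≫ Spec.map φ).appTop).hom ((Scheme.ΓSpecIso A).inv.hom a) =
      (g.appTop).hom ((Scheme.ΓSpecIso B).inv.hom (φ.hom a)) := by
  have h2 : (Scheme.ΓSpecIso A).inv ≫ (g ≫ Spec.map φ).appTop =
      φ ≫ (Scheme.ΓSpecIso B).inv ≫ g.appTop := by
    rw [Scheme.Hom.comp_appTop]
    exact (Scheme.ΓSpecIso_inv_naturality_assoc (R := A) φ _).symm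
  exact congrArg (fun ψ => ψ.hom a) h2

theorem ev_of_left_eq {B : CommRingCat.{u}} (b : Y ⟶ (Spec A).asOver (Spec R)) (g : Y.left ⟶ Spec B)
    (φ : A ⟶ B) (h : (b.left : Y.left ⟶ Spec A) = g ≫ Spec.map φ) (a : A) :
    ev b a = (g.appTop).hom ((Scheme.ΓSpecIso B).inv.hom (φ.hom a)) := by
  have := congrArg (fun f : Y.left ⟶ Spec A => (f.appTop).hom ((Scheme.ΓSpecIso A).inv.hom a)) h
  exact this.trans (ev_comp g φ a)

theorem ev_mul (b b' : Y ⟶ (Spec A).asOver (Spec R)) (a : A) :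
    ev (b * b') a = ev₂ b b' (Coalgebra.comul (R := R) a) := by
  have h1 : ((b * b').left : Y.left ⟶ Spec A) = ((lift b b').left ≫ pe) ≫
      Spec.map (CommRingCat.ofHom (Bialgebra.comulAlgHom R A).toRingHom) := by
    rw [Hom.mul_def, Over.comp_left, pe_mul, Category.assoc]
    rfl
  exact ev_of_left_eq _ _ _ h1 a

theorem ev₂_includeLeft (b b' : Y ⟶ (Spec A).asOver (Spec R)) (a : A) :
    ev₂ b b' (a ⊗ₜ[R] 1) = ev b a := by
  have h1 : (b.left : Y.left ⟶ Spec A) = ((lift b b').left ≫ pe) ≫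
      Spec.map (CommRingCat.ofHom (Algebra.TensorProduct.includeLeftRingHom (R := R) (A := A) (B := A))) :=
    ((congrArg Over.Hom.left (lift_fst b b')).symm.trans (Over.comp_left _ _ _ _ _)).trans
      ((congrArg (fun k => (lift b b').left ≫ k) pe_fst.symm).trans (Category.assoc _ _ _).symm)
  exact (ev_of_left_eq _ _ _ h1 a).symm

theorem ev₂_includeRight (b b' : Y ⟶ (Spec A).asOver (Spec R)) (a : A) :
    ev₂ b b' (1 ⊗ₜ[R] a) = ev b' a := by
  have h1 : (b'.left : Y.left ⟶ Spec A) = ((lift b b').left ≫ pe) ≫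
      Spec.map (CommRingCat.ofHom (RingHomClass.toRingHom
        (Algebra.TensorProduct.includeRight (R := R) (A := A) (B := A)))) :=
    ((congrArg Over.Hom.left (lift_snd b b')).symm.trans (Over.comp_left _ _ _ _ _)).trans
      ((congrArg (fun k => (lift b b').left ≫ k) pe_snd.symm).trans (Category.assoc _ _ _).symm)
  exact (ev_of_left_eq _ _ _ h1 a).symm

theorem ev₂_tmul (b b' : Y ⟶ (Spec A).asOver (Spec R)) (x y : A) :
    ev₂ b b' (x ⊗ₜ[R] y) = ev b x * ev b' y := by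
  have : x ⊗ₜ[R] y = (x ⊗ₜ[R] (1 : A)) * ((1 : A) ⊗ₜ[R] y) := by
    rw [Algebra.TensorProduct.tmul_mul_tmul, _root_.mul_one, _root_.one_mul]
  rw [this, map_mul, ev₂_includeLeft, ev₂_includeRight]

theorem ev_injective : Function.Injective (ev (R := R) (A := A) (Y := Y)) := by
  intro b b' h
  apply Over.OverMorphism.ext
  refine ext_of_isAffine (Y := Spec A) ?_
  have h2 : (Scheme.ΓSpecIso A).inv ≫ b.left.appTop = (Scheme.ΓSpecIso A).inv ≫ b'.left.appTop := by
    ext a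
    exact congrArg (fun φ => φ a) h
  exact (cancel_epi _).1 h2

end affine

section overZ

variable {A : CommRingCat.{u}} [Bialgebra (ULift.{u} ℤ) A]
  {Y : Over (Spec (CommRingCat.of (ULift.{u} ℤ)))}

/-- the point attached to a ring hom -/
noncomputable def pt (φ : A →+* Γ(Y.left, ⊤)) :
    Y ⟶ (Spec A).asOver (Spec (CommRingCat.of (ULift.{u} ℤ))) :=
  Over.homMk (Y.left.toSpecΓ ≫ Spec.map (CommRingCat.ofHom φ)) (specULiftZIsTerminal.hom_ext _ _)

theorem ev_pt (φ : A →+* Γ(Y.left, ⊤)) : ev (pt φ) = φ := by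
  ext a
  rw [ev_of_left_eq (pt φ) Y.left.toSpecΓ (CommRingCat.ofHom φ) rfl a, Scheme.toSpecΓ_appTop]
  simp

theorem ringHom_ext_uliftZ {B : Type*} [Semiring B] (φ ψ : ULift.{u} ℤ →+* B) : φ = ψ := by
  have : φ.comp (ULift.ringEquiv.symm : ℤ ≃+* ULift.{u} ℤ).toRingHom =
      ψ.comp (ULift.ringEquiv.symm : ℤ ≃+* ULift.{u} ℤ).toRingHom := RingHom.ext_int _ _
  ext x
  obtain ⟨n⟩ := x
  exact congrArg (fun f => f n) this

end overZ

section Ga

/-- ring homs out of `ℤ[X]` (as a symmetric algebra) are determined by the image of the variable -/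
theorem ringHom_ext_sym {B : Type*} [CommRing B]
    (φ ψ : SymmetricAlgebra (ULift.{u} ℤ) (ULift.{u} ℤ) →+* B)
    (h : φ (SymmetricAlgebra.ι _ _ (ULift.up 1)) = ψ (SymmetricAlgebra.ι _ _ (ULift.up 1))) : φ = ψ := by
  apply RingHom.ext
  intro x
  refine SymmetricAlgebra.induction _ _ (motive := fun x => φ x = ψ x) ?_ ?_ ?_ ?_ x
  · intro r
    exact congrArg (fun f => f r)
      (ringHom_ext_uliftZ (φ.comp (algebraMap _ _)) (ψ.comp (algebraMap _ _)))
  · intro m
    have hm : SymmetricAlgebra.ι (ULift.{u} ℤ) (ULift.{u} ℤ) m =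
        m.down • SymmetricAlgebra.ι (ULift.{u} ℤ) (ULift.{u} ℤ) (ULift.up 1) := by
      rw [← map_zsmul]
      congr 1
      ext
      simp
    rw [hm, map_zsmul, map_zsmul, h]
  · intro a b ha hb
    rw [map_mul, map_mul, ha, hb]
  · intro a b ha hb
    rw [map_add, map_add, ha, hb]

theorem exists_ringHom_sym {B : Type*} [CommRing B] (a : B) :
    ∃ φ : SymmetricAlgebra (ULift.{u} ℤ) (ULift.{u} ℤ) →+* B,
      φ (SymmetricAlgebra.ι _ _ (ULift.up 1)) = a := by
  let e := SymmetricAlgebra.equivMvPolynomial (Module.Basis.singleton Unit (ULift.{u} ℤ))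
  let f : ULift.{u} ℤ →+* B := (Int.castRingHom B).comp (ULift.ringEquiv : ULift.{u} ℤ ≃+* ℤ).toRingHom
  refine ⟨(MvPolynomial.eval₂Hom f (fun _ => a)).comp e.toAlgHom.toRingHom, ?_⟩
  have h1 : e (SymmetricAlgebra.ι _ _ (ULift.up 1)) = MvPolynomial.X () := by
    have := SymmetricAlgebra.equivMvPolynomial_ι_apply (Module.Basis.singleton Unit (ULift.{u} ℤ)) ()
    rwa [Module.Basis.singleton_apply] at this
  show MvPolynomial.eval₂Hom f (fun _ => a) (e _) = a
  rw [h1]
  simp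

end Ga

section GaPoints

variable {S : Scheme.{u}} {X : Over S}

/-- the structure morphism to `Spec ℤ` -/
noncomputable abbrev fZ (S : Scheme.{u}) : S ⟶ Spec (CommRingCat.of (ULift.{u} ℤ)) :=
  Limits.IsTerminal.from specULiftZIsTerminal S

theorem gaFn_eq (x : X ⟶ Red.Ga S) :
    Red.gaFn x = ev (tr (fZ S) Red.GaZ x) (SymmetricAlgebra.ι _ _ (ULift.up 1)) := rfl

theorem gaFn_mul (x y : X ⟶ Red.Ga S) : Red.gaFn (x * y) = Red.gaFn x + Red.gaFn y := by
  rw [gaFn_eq, gaFn_eq, gaFn_eq, tr_mul, ev_mul, SymmetricAlgebra.comul_ι, map_add, ev₂_tmul, ev₂_tmul,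
    map_one, map_one, _root_.mul_one, _root_.one_mul]

theorem gaFn_injective : Function.Injective (Red.gaFn (S := S) (X := X)) := by
  intro x y h
  apply tr_injective (fZ S) Red.GaZ
  apply ev_injective
  apply ringHom_ext_sym
  exact h

theorem gaFn_surjective : Function.Surjective (Red.gaFn (S := S) (X := X)) := by
  intro a
  obtain ⟨φ, hφ⟩ := exists_ringHom_sym (B := Γ(X.left, ⊤)) a
  refine ⟨(Over.mapPullbackAdj (fZ S)).homEquiv X Red.GaZ (pt φ), ?_⟩
  rw [gaFn_eq]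
  have : tr (fZ S) Red.GaZ ((Over.mapPullbackAdj (fZ S)).homEquiv X Red.GaZ (pt φ)) = pt φ := by
    simp [tr]
  rw [this, ev_pt, hφ]

end GaPoints

section Gm

/-- the coordinate of `𝔾_m` -/
noncomputable abbrev T1 : MonoidAlgebra (ULift.{u} ℤ) (Multiplicative ℤ) :=
  MonoidAlgebra.single (Multiplicative.ofAdd (1 : ℤ)) 1

theorem ringHom_ext_monAlg {B : Type*} [CommRing B]
    (φ ψ : MonoidAlgebra (ULift.{u} ℤ) (Multiplicative ℤ) →+* B) (h : φ T1 = ψ T1) : φ = ψ := by
  apply MonoidAlgebra.ringHom_ext'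
  · exact ringHom_ext_uliftZ _ _
  · apply MonoidHom.ext_mint
    exact h

theorem isUnit_T1 : IsUnit (T1.{u}) := by
  refine IsUnit.of_mul_eq_one (MonoidAlgebra.single (Multiplicative.ofAdd (-1 : ℤ)) 1) ?_
  rw [MonoidAlgebra.single_mul_single, MonoidAlgebra.one_def]
  congr 1

theorem exists_ringHom_monAlg {B : Type*} [CommRing B] (a : Bˣ) :
    ∃ φ : MonoidAlgebra (ULift.{u} ℤ) (Multiplicative ℤ) →+* B, φ T1 = a := by
  let f : ULift.{u} ℤ →+* B := (Int.castRingHom B).comp (ULift.ringEquiv : ULift.{u} ℤ ≃+* ℤ).toRingHom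
  refine ⟨MonoidAlgebra.liftNCRingHom f ((Units.coeHom B).comp (zpowersHom Bˣ a))
    (fun x y => Commute.all _ _), ?_⟩
  rw [MonoidAlgebra.liftNCRingHom_single]
  simp [f]

theorem comul_T1 : Coalgebra.comul (R := ULift.{u} ℤ) T1.{u} = T1 ⊗ₜ[ULift.{u} ℤ] T1 := by
  rw [MonoidAlgebra.comul_single, CommSemiring.comul_apply]
  rfl

end Gm

section GmPoints

variable {S : Scheme.{u}} {X : Over S}

theorem gmFn_eq (z : X ⟶ Red.Gm S) :
    Red.gmFn z = ev (tr (fZ S) (Red.diag (ULift.{u} ℤ) ℤ) z) T1 := rfl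

theorem gmFn_mul (z w : X ⟶ Red.Gm S) : Red.gmFn (z * w) = Red.gmFn z * Red.gmFn w := by
  rw [gmFn_eq, gmFn_eq, gmFn_eq, tr_mul, ev_mul, comul_T1, ev₂_tmul]

theorem isUnit_gmFn (z : X ⟶ Red.Gm S) : IsUnit (Red.gmFn z) := by
  rw [gmFn_eq]
  exact isUnit_T1.map _

theorem gmFn_injective : Function.Injective (Red.gmFn (S := S) (X := X)) := by
  intro x y h
  apply tr_injective (fZ S) (Red.diag (ULift.{u} ℤ) ℤ)
  apply ev_injective
  apply ringHom_ext_monAlg
  exact h

theorem exists_gmFn_eq (a : Γ(X.left, ⊤)) (ha : IsUnit a) : ∃ z : X ⟶ Red.Gm S, Red.gmFn z = a := by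
  obtain ⟨φ, hφ⟩ := exists_ringHom_monAlg (B := Γ(X.left, ⊤)) ha.unit
  refine ⟨(Over.mapPullbackAdj (fZ S)).homEquiv X (Red.diag (ULift.{u} ℤ) ℤ) (pt φ), ?_⟩
  rw [gmFn_eq]
  have : tr (fZ S) (Red.diag (ULift.{u} ℤ) ℤ)
      ((Over.mapPullbackAdj (fZ S)).homEquiv X (Red.diag (ULift.{u} ℤ) ℤ) (pt φ)) = pt φ := by
    simp [tr]
  rw [this, ev_pt, hφ]
  rfl

end GmPoints

end Groth.Agent.H4.GaGm
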