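import Mathlib
import Groth.Prelude.Def_AlgGrp
import Groth.Prelude.Def_W4bk4git07Quot
import Groth.Agent.H4.TbB
import Groth.Agent.Lib.Helper8.Tors.GeomQuot

/-!
# A principal bundle is a geometric quotient and the action is free
-/

set_option autoImplicit false

universe u

open CategoryTheory CategoryTheory.Limits MonoidalCategory CartesianMonoidalCategory MonObj GrpObj
  AlgebraicGeometry MorphismProperty

namespace Groth.Agent.H4.TbE

variable {S : Scheme.{u}} {G X Y : Over S} [GrpObj G]

theorem geomQuot_of_principal (a : AlgGrp.Action G X) (φ : X ⟶ Y)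
    (hinv : GIT.IsInvariant a φ) [Flat φ.left] [Surjective φ.left] [QuasiCompact φ.left]
    (hcart : IsIso (GIT.PsiY a φ hinv)) : GIT.IsGeomQuot a φ := by
  haveI := hcart
  have hl : IsPullback a.act.left (snd G X).left φ.left φ.left :=
    IsPullback.of_iso_pullback ⟨hinv.left⟩ (asIso (GIT.PsiY a φ hinv))
      (pullback.lift_fst _ _ _) (pullback.lift_snd _ _ _)
  have hc : IsPullback a.act (snd G X) φ φ :=
    IsPullback.of_map_of_faithful (Over.forget S) hl
  refine ⟨hinv, φ.left.surjective, ?_, ?_, fun U => Groth.Agent.H8.Tors.isInvSection_iff a φ hc U⟩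
  · exact (GIT.PsiY a φ hinv).homeomorph.surjective
  · intro X' Y' i₁ i₂ f' H
    haveI : Flat f' := MorphismProperty.of_isPullback (P := @Flat) H.flip inferInstance
    haveI : Surjective f' := MorphismProperty.of_isPullback (P := @Surjective) H.flip inferInstance
    haveI : QuasiCompact f' :=
      MorphismProperty.of_isPullback (P := @QuasiCompact) H.flip inferInstance
    exact Flat.isQuotientMap_of_surjective f'

theorem free_of_principal (a : AlgGrp.Action G X) (φ : X ⟶ Y)
    (hinv : GIT.IsInvariant a φ) [IsSeparated Y.hom]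
    (hcart : IsIso (GIT.PsiY a φ hinv)) : IsClosedImmersion (GIT.psi a (𝟙 X)).left := by
  haveI := hcart
  have h : X.hom = φ.left ≫ Y.hom := (Over.w φ).symm
  have p1 : (GIT.psi a (𝟙 X)).left ≫ (fst X X).left = a.act.left := by
    have h0 : (GIT.psi a (𝟙 X) ≫ fst X X) = (G ◁ 𝟙 X) ≫ a.act := lift_fst _ _
    have h1 : (G ◁ 𝟙 X) ≫ a.act = a.act := by
      rw [MonoidalCategory.whiskerLeft_id, Category.id_comp]
    exact congrArg (fun t => t.left) (h0.trans h1)
  have p2 : (GIT.psi a (𝟙 X)).left ≫ (snd X X).left = (snd G X).left := by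
    have h0 := congrArg (fun t => t.left) (lift_snd ((G ◁ 𝟙 X) ≫ a.act) (snd G X))
    exact h0
  have e1 : (pullback.congrHom h h).hom ≫ pullback.fst (φ.left ≫ Y.hom) (φ.left ≫ Y.hom) =
      (fst X X).left := by
    rw [pullback.congrHom_hom]
    exact (pullback.lift_fst _ _ _).trans (Category.comp_id _)
  have e1' : (pullback.congrHom h h).hom ≫ pullback.snd (φ.left ≫ Y.hom) (φ.left ≫ Y.hom) =
      (snd X X).left := by
    rw [pullback.congrHom_hom]
    exact (pullback.lift_snd _ _ _).trans (Category.comp_id _)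
  have e2 : pullback.mapDesc φ.left φ.left Y.hom ≫
      pullback.fst (φ.left ≫ Y.hom) (φ.left ≫ Y.hom) = pullback.fst φ.left φ.left :=
    (pullback.lift_fst _ _ _).trans (Category.comp_id _)
  have e2' : pullback.mapDesc φ.left φ.left Y.hom ≫
      pullback.snd (φ.left ≫ Y.hom) (φ.left ≫ Y.hom) = pullback.snd φ.left φ.left :=
    (pullback.lift_snd _ _ _).trans (Category.comp_id _)
  have claim : (GIT.psi a (𝟙 X)).left ≫ (pullback.congrHom h h).hom =
      GIT.PsiY a φ hinv ≫ pullback.mapDesc φ.left φ.left Y.hom := by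
    apply pullback.hom_ext
    · rw [Category.assoc, e1, Category.assoc, e2, p1]
      exact (pullback.lift_fst _ _ _).symm
    · rw [Category.assoc, e1', Category.assoc, e2', p2]
      exact (pullback.lift_snd _ _ _).symm
  have h2 : (GIT.psi a (𝟙 X)).left =
      (GIT.PsiY a φ hinv ≫ pullback.mapDesc φ.left φ.left Y.hom) ≫
        (pullback.congrHom h h).inv := by
    rw [← claim, Category.assoc, Iso.hom_inv_id, Category.comp_id]
  rw [h2]
  infer_instance

end Groth.Agent.H4.TbE
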