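import Mathlib
import Groth.Prelude.Def_ChGrp
import Groth.Prelude.Def_Desc
import Groth.Prelude.Def_NonAbH2
import Groth.Prelude.Def_W4bk4git07Quot
import Groth.Agent.H4.AbA
import Groth.Agent.H4.TbE
import Groth.Agent.H4.FtA
import Groth.Agent.Lib.Helper3.DescSh.Affine
import Groth.Agent.Lib.Helper3.FpqcLocal2
import Groth.Agent.Lib.Helper1.FpqcAffine

/-!
# The associated bundle `X ×^G F` of an fpqc torsor, by effective descent (helper4)
-/

set_option autoImplicit false
universe u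
open CategoryTheory MonoidalCategory CartesianMonoidalCategory MonObj AlgebraicGeometry CategoryTheory.Limits

namespace Groth.Agent.H4.AbB

open Groth.Agent.H4

section Cart

variable {C : Type*} [Category C] [CartesianMonoidalCategory C]

theorem isPullback_whiskerLeft_snd {X Y : C} (f : X ⟶ Y) (U : C) :
    IsPullback (U ◁ f) (snd U X) (snd U Y) f := by
  refine ⟨⟨whiskerLeft_snd U f⟩, ⟨PullbackCone.IsLimit.mk _
    (fun s => lift (s.fst ≫ fst U Y) s.snd) ?_ ?_ ?_⟩⟩
  · intro s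
    apply CartesianMonoidalCategory.hom_ext
    · rw [Category.assoc, whiskerLeft_fst, lift_fst]
    · rw [Category.assoc, whiskerLeft_snd, lift_snd_assoc]
      exact s.condition.symm
  · intro s
    exact lift_snd _ _
  · intro s m h1 h2
    apply CartesianMonoidalCategory.hom_ext
    · rw [lift_fst, ← h1, Category.assoc, whiskerLeft_fst]
    · rw [lift_snd, h2]

end Cart

theorem flat_over_field (k : Type u) [Field k] {X : Scheme.{u}}
    (f : X ⟶ Spec (CommRingCat.of k)) : Flat f := inferInstance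

theorem isAffineHom_over_affine (R : CommRingCat.{u}) {X : Scheme.{u}} [IsAffine X]
    (f : X ⟶ Spec R) : IsAffineHom f := inferInstance

section PartD

variable {S : Scheme.{u}} {G X Y : Over S} [GrpObj G]
  (a : AlgGrp.Action G X) (φ : X ⟶ Y) (hcart : IsPullback a.act (snd G X) φ φ)

theorem isIso_PsiY_of_isPullback : IsIso (GIT.PsiY a φ hcart.w) := by
  have hL : IsPullback a.act.left (snd G X).left φ.left φ.left := hcart.map (Over.forget S)
  have e : GIT.PsiY a φ hcart.w = hL.isoPullback.hom := by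
    apply pullback.hom_ext
    · rw [hL.isoPullback_hom_fst]; exact pullback.lift_fst _ _ _
    · rw [hL.isoPullback_hom_snd]; exact pullback.lift_snd _ _ _
  rw [e]; infer_instance

include hcart in
/-- a property of morphisms, stable under base change and fpqc local on the target, passes
from `G ⟶ S` to any fpqc `G`-torsor `X ⟶ Y`. -/
theorem torsor_prop (P : MorphismProperty Scheme.{u}) [P.IsStableUnderBaseChange]
    [P.IsLocalAtTarget Scheme.fpqcPrecoverage]
    (hloc : NonAbH1.IsLocallyTrivialFor Scheme.fpqcPrecoverage (Over.mk φ.left : Over Y.left))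
    (hG : P G.hom) : P φ.left := by
  obtain ⟨R, hR, hsec⟩ := hloc
  refine MorphismProperty.IsLocalAtTarget.of_forall_pullbackSnd (K := Scheme.fpqcPrecoverage) hR ?_
  intro U g _ hg
  obtain ⟨s, hs1⟩ : ∃ s : U ⟶ X.left, s ≫ φ.left = g := hsec g hg
  subst hs1
  have hsX : s ≫ X.hom = (s ≫ φ.left) ≫ Y.hom := by rw [Category.assoc, Over.w φ]
  have sq1 : IsPullback (G ◁ (Over.homMk s hsX : Over.mk ((s ≫ φ.left) ≫ Y.hom) ⟶ X))
      (snd G (Over.mk ((s ≫ φ.left) ≫ Y.hom))) (snd G X)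
      (Over.homMk s hsX : Over.mk ((s ≫ φ.left) ≫ Y.hom) ⟶ X) :=
    isPullback_whiskerLeft_snd _ G
  have sq2 := sq1.paste_horiz hcart
  have sq3 : IsPullback
      ((G ◁ (Over.homMk s hsX : Over.mk ((s ≫ φ.left) ≫ Y.hom) ⟶ X)) ≫ a.act).left
      (snd G (Over.mk ((s ≫ φ.left) ≫ Y.hom))).left φ.left (s ≫ φ.left) :=
    sq2.map (Over.forget S)
  have hP : P (snd G (Over.mk ((s ≫ φ.left) ≫ Y.hom))).left :=
    P.pullback_snd G.hom ((s ≫ φ.left) ≫ Y.hom) hG
  have h4 : sq3.isoPullback.hom ≫ pullback.snd φ.left (s ≫ φ.left) =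
      (snd G (Over.mk ((s ≫ φ.left) ≫ Y.hom))).left := sq3.isoPullback_hom_snd
  exact (P.cancel_left_of_respectsIso sq3.isoPullback.hom _).1 (by rw [h4]; exact hP)

variable (hloc : NonAbH1.IsLocallyTrivialFor Scheme.fpqcPrecoverage (Over.mk φ.left : Over Y.left))

include hcart hloc in
theorem flat_of_torsor [Flat G.hom] : Flat φ.left :=
  torsor_prop a φ hcart @Flat hloc inferInstance

include hcart hloc in
theorem surj_of_torsor [Surjective G.hom] : Surjective φ.left :=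
  torsor_prop a φ hcart @Surjective hloc inferInstance

include hcart hloc in
theorem qc_of_torsor [QuasiCompact G.hom] : QuasiCompact φ.left :=
  torsor_prop a φ hcart @QuasiCompact hloc inferInstance

include hcart hloc in
theorem affine_of_torsor [IsAffineHom G.hom] : IsAffineHom φ.left := by
  haveI := Groth.Agent.H1.FpqcAffine.descendsAlong_isAffineHom.{u}
  haveI : MorphismProperty.IsLocalAtTarget @IsAffineHom.{u} Scheme.fpqcPrecoverage :=
    Groth.Agent.H3.FpqcLocal.isLocalAtTarget_fpqc _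
  exact torsor_prop a φ hcart @IsAffineHom hloc inferInstance

end PartD

section PartE

variable {S : Scheme.{u}} {G X Y F : Over S} [GrpObj G]
  (a : AlgGrp.Action G X) (φ : X ⟶ Y) (hcart : IsPullback a.act (snd G X) φ φ)
  (b : AlgGrp.Action G F)

include hcart in
theorem act_phi {T : Over S} (g : T ⟶ G) (x : T ⟶ X) : x ≫ φ = (lift g x ≫ a.act) ≫ φ := by
  rw [Category.assoc, hcart.w, lift_snd_assoc]

theorem toF'_lift {T : Over S} (x₀ x₁ : T ⟶ X) (h : x₀ ≫ φ = x₁ ≫ φ) (f : T ⟶ F) :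
    AbA.toF' a φ hcart b x₀ x₁ h (lift x₀ f) =
      lift x₁ (lift (AbA.dv a φ hcart x₁ x₀ h.symm) f ≫ b.act) := by
  unfold AbA.toF' AbA.Phi
  rw [lift_snd]

theorem toF'_act {T : Over S} (g : T ⟶ G) (x : T ⟶ X) (f : T ⟶ F) :
    AbA.toF' a φ hcart b x (lift g x ≫ a.act) (act_phi a φ hcart g x) (lift x f) =
      lift (lift g x ≫ a.act) (lift g f ≫ b.act) := by
  have hd : AbA.dv a φ hcart (lift g x ≫ a.act) x (act_phi a φ hcart g x).symm = g :=
    (AbA.dv_unique a φ hcart (lift g x ≫ a.act) x _ g rfl).symm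
  rw [toF'_lift, hd]

theorem key_b {T : Over S} (x₀ x₁ : T ⟶ X) (f₁ : T ⟶ F) (hφ : x₀ ≫ φ = x₁ ≫ φ) :
    lift (AbA.dv a φ hcart x₀ x₁ hφ) (lift x₁ f₁) ≫ (a.prod b).act =
      lift x₀ (lift (AbA.dv a φ hcart x₀ x₁ hφ) f₁ ≫ b.act) := by
  rw [AlgGrp.Action.lift_prod_act, AbA.dv_act]

variable (U : Over Y.left) (e : (Desc.toDD φ.left).obj U ≅ AbA.dd a φ hcart b)

/-- the inverse of the effectivity isomorphism, with clean source and target -/
noncomputable def Ei : (X ⊗ F).left ⟶ pullback φ.left U.hom := e.inv.hom.left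

/-- the effectivity isomorphism, with clean source and target -/
noncomputable def Eh : pullback φ.left U.hom ⟶ (X ⊗ F).left := e.hom.hom.left

/-- the underlying morphism of schemes of the quotient map -/
noncomputable def qL : (X ⊗ F).left ⟶ U.left :=
  Ei a φ hcart b U e ≫ pullback.snd φ.left U.hom

theorem inv_fst : Ei a φ hcart b U e ≫ pullback.fst φ.left U.hom = (fst X F).left :=
  Over.w e.inv.hom

theorem inv_hom : Ei a φ hcart b U e ≫ Eh a φ hcart b U e = 𝟙 _ :=
  congrArg (fun f => CommaMorphism.left (Desc.SchDD.Hom.hom f)) e.inv_hom_id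

theorem hom_inv : Eh a φ hcart b U e ≫ Ei a φ hcart b U e = 𝟙 _ :=
  congrArg (fun f => CommaMorphism.left (Desc.SchDD.Hom.hom f)) e.hom_inv_id

theorem isIso_inv : IsIso (Ei a φ hcart b U e) :=
  ⟨⟨Eh a φ hcart b U e, inv_hom a φ hcart b U e, hom_inv a φ hcart b U e⟩⟩

theorem qL_r : qL a φ hcart b U e ≫ U.hom = (fst X F).left ≫ φ.left := by
  unfold qL
  rw [Category.assoc, ← pullback.condition, ← Category.assoc, inv_fst]

theorem qL_prop (P : MorphismProperty Scheme.{u}) [P.IsStableUnderBaseChange] (hP : P φ.left) :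
    P (qL a φ hcart b U e) := by
  haveI := isIso_inv a φ hcart b U e
  unfold qL
  exact (P.cancel_left_of_respectsIso _ _).2 (P.pullback_snd _ _ hP)

/-- the value of the descent map, with clean target -/
noncomputable def tF {T : Scheme.{u}} (x₀ x₁ : T ⟶ X.left) (h : x₀ ≫ φ.left = x₁ ≫ φ.left)
    (v1 : T ⟶ (X ⊗ F).left) (hv1 : v1 ≫ (fst X F).left = x₀) : T ⟶ (X ⊗ F).left :=
  (AbA.toF a φ hcart b x₀ x₁ h ⟨v1, hv1⟩).1

theorem K0 {T : Scheme.{u}} (x₀ x₁ : T ⟶ X.left) (h : x₀ ≫ φ.left = x₁ ≫ φ.left)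
    (v1 : T ⟶ (X ⊗ F).left) (hv1 : v1 ≫ (fst X F).left = x₀) :
    tF a φ hcart b x₀ x₁ h v1 hv1 ≫ qL a φ hcart b U e = v1 ≫ qL a φ hcart b U e := by
  have hw : (v1 ≫ Ei a φ hcart b U e) ≫ pullback.fst φ.left U.hom = x₀ := by
    rw [Category.assoc, inv_fst, hv1]
  have hc : (Desc.canMap φ.left U x₀ x₁ h ⟨v1 ≫ Ei a φ hcart b U e, hw⟩).1 =
      tF a φ hcart b x₀ x₁ h v1 hv1 ≫ Ei a φ hcart b U e :=
    e.inv.comm x₀ x₁ h ⟨v1, hv1⟩ ⟨v1 ≫ Ei a φ hcart b U e, hw⟩ rfl
  have h2 : (Desc.canMap φ.left U x₀ x₁ h ⟨v1 ≫ Ei a φ hcart b U e, hw⟩).1 ≫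
      pullback.snd φ.left U.hom = (v1 ≫ Ei a φ hcart b U e) ≫ pullback.snd φ.left U.hom :=
    pullback.lift_snd _ _ _
  have h3 : (tF a φ hcart b x₀ x₁ h v1 hv1 ≫ Ei a φ hcart b U e) ≫ pullback.snd φ.left U.hom =
      (v1 ≫ Ei a φ hcart b U e) ≫ pullback.snd φ.left U.hom :=
    (congrArg (fun z => z ≫ pullback.snd φ.left U.hom) hc).symm.trans h2
  show tF a φ hcart b x₀ x₁ h v1 hv1 ≫ Ei a φ hcart b U e ≫ pullback.snd φ.left U.hom =
    v1 ≫ Ei a φ hcart b U e ≫ pullback.snd φ.left U.hom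
  exact (Category.assoc _ _ _).symm.trans (h3.trans (Category.assoc _ _ _))

theorem K1 (T' : Over S) (x₀' x₁' : T' ⟶ X) (h' : x₀' ≫ φ = x₁' ≫ φ) (v' : T' ⟶ X ⊗ F)
    (hv' : v' ≫ fst X F = x₀') :
    (AbA.toF' a φ hcart b x₀' x₁' h' v').left ≫ qL a φ hcart b U e =
      v'.left ≫ qL a φ hcart b U e := by
  have h0 := K0 a φ hcart b U e x₀'.left x₁'.left (congrArg CommaMorphism.left h') v'.left
    (congrArg CommaMorphism.left hv')
  have h1 : tF a φ hcart b x₀'.left x₁'.left (congrArg CommaMorphism.left h') v'.left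
      (congrArg CommaMorphism.left hv') = (AbA.toF' a φ hcart b x₀' x₁' h' v').left :=
    AbA.toF_val a φ hcart b T' x₀' x₁' h' v' hv'
  rw [h1] at h0
  exact h0

variable (Y) in
/-- the quotient object -/
noncomputable abbrev Qo : Over S := Over.mk (U.hom ≫ Y.hom)

/-- the quotient map -/
noncomputable def qq : X ⊗ F ⟶ Qo Y U := Over.homMk (qL a φ hcart b U e) (by
  show qL a φ hcart b U e ≫ U.hom ≫ Y.hom = (X ⊗ F).hom
  rw [← Category.assoc, qL_r, Category.assoc, Over.w φ, Over.w (fst X F)])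

/-- the structure map of the quotient -/
noncomputable def rr : Qo Y U ⟶ Y := Over.homMk U.hom rfl

theorem qq_rr : qq a φ hcart b U e ≫ rr U = fst X F ≫ φ := by
  apply Over.OverMorphism.ext
  exact qL_r a φ hcart b U e

theorem K (T' : Over S) (x₀' x₁' : T' ⟶ X) (h' : x₀' ≫ φ = x₁' ≫ φ) (v' : T' ⟶ X ⊗ F)
    (hv' : v' ≫ fst X F = x₀') :
    AbA.toF' a φ hcart b x₀' x₁' h' v' ≫ qq a φ hcart b U e = v' ≫ qq a φ hcart b U e := by
  apply Over.OverMorphism.ext
  exact K1 a φ hcart b U e T' x₀' x₁' h' v' hv'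

theorem J (T' : Over S) (z z' : T' ⟶ X ⊗ F) (h1 : z ≫ fst X F = z' ≫ fst X F)
    (h2 : z ≫ qq a φ hcart b U e = z' ≫ qq a φ hcart b U e) : z = z' := by
  apply Over.OverMorphism.ext
  have h2' : z.left ≫ Ei a φ hcart b U e ≫ pullback.snd φ.left U.hom =
      z'.left ≫ Ei a φ hcart b U e ≫ pullback.snd φ.left U.hom :=
    congrArg CommaMorphism.left h2
  have h1' : z.left ≫ (fst X F).left = z'.left ≫ (fst X F).left :=
    congrArg CommaMorphism.left h1
  have key : z.left ≫ Ei a φ hcart b U e = z'.left ≫ Ei a φ hcart b U e := by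
    apply pullback.hom_ext
    · rw [Category.assoc, Category.assoc, inv_fst]; exact h1'
    · rw [Category.assoc, Category.assoc]; exact h2'
  calc z.left = z.left ≫ Ei a φ hcart b U e ≫ Eh a φ hcart b U e := by
        rw [inv_hom, Category.comp_id]
    _ = z'.left ≫ Ei a φ hcart b U e ≫ Eh a φ hcart b U e := by
        rw [← Category.assoc, key, Category.assoc]
    _ = z'.left := by rw [inv_hom, Category.comp_id]

theorem q_inv :
    (a.prod b).act ≫ qq a φ hcart b U e = snd G (X ⊗ F) ≫ qq a φ hcart b U e := by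
  apply AlgGrp.Action.hom_ext_lift₂
  intro T g w
  obtain ⟨x, f, rfl⟩ : ∃ x f, w = lift x f :=
    ⟨w ≫ fst X F, w ≫ snd X F, by rw [← comp_lift, lift_fst_snd, Category.comp_id]⟩
  rw [lift_snd_assoc, ← Category.assoc, AlgGrp.Action.lift_prod_act,
    ← toF'_act a φ hcart b g x f]
  exact K a φ hcart b U e T _ _ _ _ (lift_fst _ _)

theorem phi_of_q {T : Over S} (z₀ z₁ : T ⟶ X ⊗ F)
    (hq : z₀ ≫ qq a φ hcart b U e = z₁ ≫ qq a φ hcart b U e) :
    (z₀ ≫ fst X F) ≫ φ = (z₁ ≫ fst X F) ≫ φ := by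
  rw [Category.assoc, Category.assoc, ← qq_rr a φ hcart b U e, ← Category.assoc, hq,
    Category.assoc]

theorem fac_left_aux {T : Over S} (z₀ : T ⟶ X ⊗ F) (x₀ x₁ : T ⟶ X) (f₁ : T ⟶ F)
    (hx₀ : z₀ ≫ fst X F = x₀)
    (hq : z₀ ≫ qq a φ hcart b U e = lift x₁ f₁ ≫ qq a φ hcart b U e)
    (hφ : x₀ ≫ φ = x₁ ≫ φ) :
    lift (AbA.dv a φ hcart x₀ x₁ hφ) (lift x₁ f₁) ≫ (a.prod b).act = z₀ := by
  rw [key_b a φ hcart b x₀ x₁ f₁ hφ]
  have hK := K a φ hcart b U e T x₁ x₀ hφ.symm (lift x₁ f₁) (lift_fst _ _)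
  rw [toF'_lift a φ hcart b x₁ x₀ hφ.symm f₁] at hK
  refine J a φ hcart b U e T _ _ ?_ ?_
  · rw [lift_fst, hx₀]
  · rw [hK, hq]

theorem isPullback_qq :
    IsPullback (a.prod b).act (snd G (X ⊗ F)) (qq a φ hcart b U e) (qq a φ hcart b U e) := by
  refine ⟨⟨q_inv a φ hcart b U e⟩, ⟨PullbackCone.IsLimit.mk _
    (fun s => lift (AbA.dv a φ hcart (s.fst ≫ fst X F) (s.snd ≫ fst X F)
      (phi_of_q a φ hcart b U e s.fst s.snd s.condition)) s.snd) ?_ ?_ ?_⟩⟩
  · intro s
    have hz : lift (s.snd ≫ fst X F) (s.snd ≫ snd X F) = s.snd := by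
      rw [← comp_lift, lift_fst_snd, Category.comp_id]
    have h0 := fac_left_aux a φ hcart b U e s.fst (s.fst ≫ fst X F) (s.snd ≫ fst X F)
      (s.snd ≫ snd X F) rfl (by rw [hz]; exact s.condition)
      (phi_of_q a φ hcart b U e s.fst s.snd s.condition)
    rw [hz] at h0
    exact h0
  · intro s
    exact lift_snd _ _
  · intro s m h1 h2
    apply CartesianMonoidalCategory.hom_ext
    · rw [lift_fst]
      apply AbA.dv_unique
      have h3 : (a.prod b).act ≫ fst X F = (G ◁ fst X F) ≫ a.act := by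
        rw [AlgGrp.Action.prod_act, lift_fst]
      calc lift (m ≫ fst G (X ⊗ F)) (s.snd ≫ fst X F) ≫ a.act
          = lift (m ≫ fst G (X ⊗ F)) (m ≫ snd G (X ⊗ F)) ≫ (G ◁ fst X F) ≫ a.act := by
            rw [lift_whiskerLeft_assoc, h2]
        _ = m ≫ (a.prod b).act ≫ fst X F := by
            rw [← comp_lift, lift_fst_snd, Category.comp_id, h3]
        _ = s.fst ≫ fst X F := by rw [← Category.assoc, h1]
    · rw [lift_snd, h2]

end PartE

section Main

variable {S : Scheme.{u}} {G X Y F : Over S} [GrpObj G]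
  (a : AlgGrp.Action G X) (φ : X ⟶ Y) (hcart : IsPullback a.act (snd G X) φ φ)
  (b : AlgGrp.Action G F)

include hcart in
/-- **The associated bundle of an fpqc torsor under a flat affine group with affine fibre.** -/
theorem main
    (hloc : NonAbH1.IsLocallyTrivialFor Scheme.fpqcPrecoverage (Over.mk φ.left : Over Y.left))
    [Flat G.hom] [Surjective G.hom] [IsAffineHom G.hom] [IsAffineHom F.hom] :
    ∃ (Q : Over S) (q : X ⊗ F ⟶ Q) (r : Q ⟶ Y),
      q ≫ r = fst X F ≫ φ ∧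
      IsPullback (a.prod b).act (snd G (X ⊗ F)) q q ∧
      NonAbH1.IsLocallyTrivialFor Scheme.fpqcPrecoverage (Over.mk q.left : Over Q.left) ∧
      IsAffineHom q.left ∧ GIT.IsGeomQuot (a.prod b) q := by
  haveI hfl : Flat φ.left := flat_of_torsor a φ hcart hloc
  haveI hsu : Surjective φ.left := surj_of_torsor a φ hcart hloc
  haveI hqc : QuasiCompact φ.left := qc_of_torsor a φ hcart hloc
  haveI haf : IsAffineHom φ.left := affine_of_torsor a φ hcart hloc
  haveI : IsAffineHom (AbA.dd a φ hcart b).obj.hom := by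
    show IsAffineHom (pullback.fst X.hom F.hom)
    exact MorphismProperty.pullback_fst _ _ inferInstance
  obtain ⟨U, ⟨e⟩⟩ :=
    Groth.Agent.H3.DescSh.effective_of_isAffineHom_fpqc φ.left (AbA.dd a φ hcart b)
  have hPB := isPullback_qq a φ hcart b U e
  haveI hflq : Flat (qq a φ hcart b U e).left := qL_prop a φ hcart b U e @Flat hfl
  haveI hsuq : Surjective (qq a φ hcart b U e).left := qL_prop a φ hcart b U e @Surjective hsu
  haveI hqcq : QuasiCompact (qq a φ hcart b U e).left :=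
    qL_prop a φ hcart b U e @QuasiCompact hqc
  have hafq : IsAffineHom (qq a φ hcart b U e).left := qL_prop a φ hcart b U e @IsAffineHom haf
  refine ⟨Qo Y U, qq a φ hcart b U e, rr U, qq_rr a φ hcart b U e, hPB, ?_, hafq, ?_⟩
  · refine ⟨Presieve.singleton (qq a φ hcart b U e).left,
      Scheme.Hom.singleton_mem_fpqcPrecoverage _, ?_⟩
    rintro S' f ⟨⟩
    exact ⟨𝟙 _, Category.id_comp _⟩
  · exact Groth.Agent.H4.TbE.geomQuot_of_principal (a.prod b) (qq a φ hcart b U e) hPB.w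
      (isIso_PsiY_of_isPullback (a.prod b) (qq a φ hcart b U e) hPB)

end Main

end Groth.Agent.H4.AbB
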