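import Mathlib

/-! Filtered colimits in `AddCommGrpCat.{w}` indexed by a small filtered category in an arbitrary universe `v`:
every element of the colimit has a representative, and a representative mapping to `0` is eventually `0`. -/

open CategoryTheory CategoryTheory.Limits
universe v w

namespace Groth.Agent.H4.AbFiltColim

variable {J : Type v} [SmallCategory J] [IsFiltered J]

theorem presMon (F : J ⥤ AddMonCat.{max v w}) : PreservesColimit F (forget AddMonCat.{max v w}) :=
  preservesColimit_of_preserves_colimit_cocone (AddMonCat.FilteredColimits.colimitCoconeIsColimit.{v, w} F)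
    (Types.TypeMax.colimitCoconeIsColimit (F ⋙ forget AddMonCat.{max v w}))

theorem presGrp (F : J ⥤ AddGrpCat.{max v w}) :
    PreservesColimit F (forget₂ AddGrpCat.{max v w} AddMonCat.{max v w}) :=
  preservesColimit_of_preserves_colimit_cocone (AddGrpCat.FilteredColimits.colimitCoconeIsColimit.{v, w} F)
    (AddMonCat.FilteredColimits.colimitCoconeIsColimit.{v, w}
      (F ⋙ forget₂ AddGrpCat.{max v w} AddMonCat.{max v w}))

theorem presCommGrp (F : J ⥤ AddCommGrpCat.{max v w}) :
    PreservesColimit F (forget₂ AddCommGrpCat.{max v w} AddGrpCat.{max v w}) :=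
  preservesColimit_of_preserves_colimit_cocone (AddCommGrpCat.FilteredColimits.colimitCoconeIsColimit.{v, w} F)
    (AddGrpCat.FilteredColimits.colimitCoconeIsColimit.{v, w}
      (F ⋙ forget₂ AddCommGrpCat.{max v w} AddGrpCat.{max v w}))

theorem presForget (F : J ⥤ AddCommGrpCat.{max v w}) :
    PreservesColimit F (forget AddCommGrpCat.{max v w}) := by
  haveI h1 := presCommGrp.{v, w} F
  haveI h2 := presGrp.{v, w} (F ⋙ forget₂ AddCommGrpCat.{max v w} AddGrpCat.{max v w})
  haveI h3 := presMon.{v, w} (F ⋙ (forget₂ AddCommGrpCat.{max v w} AddGrpCat.{max v w} ⋙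
    forget₂ AddGrpCat.{max v w} AddMonCat.{max v w}))
  haveI h4 : PreservesColimit F (forget₂ AddCommGrpCat.{max v w} AddGrpCat.{max v w} ⋙
      forget₂ AddGrpCat.{max v w} AddMonCat.{max v w}) :=
    comp_preservesColimit _ _
  have h5 : PreservesColimit F ((forget₂ AddCommGrpCat.{max v w} AddGrpCat.{max v w} ⋙
      forget₂ AddGrpCat.{max v w} AddMonCat.{max v w}) ⋙ forget AddMonCat.{max v w}) :=
    comp_preservesColimit _ _
  exact h5

variable (K : J ⥤ AddCommGrpCat.{w}) (c : Cocone K) (hc : IsColimit c)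

include hc in
theorem exists_rep (x : c.pt) : ∃ (j : J) (y : K.obj j), c.ι.app j y = x := by
  haveI := presForget.{v, w} (K ⋙ AddCommGrpCat.uliftFunctor.{v, w})
  have hc' : IsColimit (AddCommGrpCat.uliftFunctor.{v, w}.mapCocone c) :=
    isColimitOfPreserves _ hc
  obtain ⟨j, y', hy'⟩ := Concrete.isColimit_exists_rep (K ⋙ AddCommGrpCat.uliftFunctor.{v, w}) hc'
    (ULift.up x : ULift.{v} c.pt)
  refine ⟨j, y'.down, ?_⟩
  exact congrArg ULift.down hy'

include hc in
theorem eventually_zero (j : J) (y : K.obj j) (hy : c.ι.app j y = 0) :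
    ∃ (k : J) (f : j ⟶ k), K.map f y = 0 := by
  haveI := presForget.{v, w} (K ⋙ AddCommGrpCat.uliftFunctor.{v, w})
  have hc' : IsColimit (AddCommGrpCat.uliftFunctor.{v, w}.mapCocone c) :=
    isColimitOfPreserves _ hc
  have h : (AddCommGrpCat.uliftFunctor.{v, w}.mapCocone c).ι.app j (ULift.up y : ULift.{v} (K.obj j)) =
      (AddCommGrpCat.uliftFunctor.{v, w}.mapCocone c).ι.app j (ULift.up 0 : ULift.{v} (K.obj j)) := by
    apply ULift.down_injective
    show c.ι.app j y = c.ι.app j 0
    rw [hy, map_zero]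
  obtain ⟨k, f, g, hfg⟩ := Concrete.isColimit_exists_of_rep_eq
    (K ⋙ AddCommGrpCat.uliftFunctor.{v, w}) hc' _ _ h
  refine ⟨k, f, ?_⟩
  have := congrArg ULift.down hfg
  have h2 : K.map f y = K.map g 0 := this
  rw [h2, map_zero]

end Groth.Agent.H4.AbFiltColim
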