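import Mathlib

set_option autoImplicit false
universe u
open TensorProduct

namespace Groth.Agent.H4.AbsFlat

/-- In a von Neumann regular ring every finitely generated ideal is generated by an idempotent. -/
theorem exists_idempotent_of_fg {R : Type*} [CommRing R] (h : ∀ a : R, ∃ b, a = a * a * b)
    (I : Ideal R) (hI : I.FG) : ∃ e : R, e * e = e ∧ I = Ideal.span {e} := by
  refine Submodule.fg_induction (motive := fun (I : Ideal R) _ => ∃ e : R, e * e = e ∧ I = Ideal.span {e})
    ?_ ?_ I hI
  · intro a
    obtain ⟨b, hb⟩ := h a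
    refine ⟨a * b, ?_, ?_⟩
    · calc a * b * (a * b) = (a * a * b) * b := by ring
        _ = a * b := by rw [← hb]
    · apply le_antisymm
      · rw [Submodule.span_singleton_le_iff_mem, Ideal.mem_span_singleton']
        refine ⟨a, ?_⟩
        calc a * (a * b) = a * a * b := by ring
          _ = a := hb.symm
      · rw [Ideal.span_singleton_le_iff_mem, Ideal.mem_span_singleton']
        exact ⟨b, by ring⟩
  · rintro I J _ _ ⟨e, he, rfl⟩ ⟨f, hf, rfl⟩
    refine ⟨e + f - e * f, ?_, ?_⟩
    · have : (e + f - e * f) * (e + f - e * f) =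
          e * e + f * f + 2 * e * f - 2 * (e * e) * f - 2 * e * (f * f) + (e * e) * (f * f) := by ring
      rw [this, he, hf]; ring
    · apply le_antisymm
      · rw [sup_le_iff]
        constructor
        · rw [Ideal.span_singleton_le_iff_mem, Ideal.mem_span_singleton']
          refine ⟨e, ?_⟩
          calc e * (e + f - e * f) = e * e + (e * f - (e * e) * f) := by ring
            _ = e := by rw [he]; ring
        · rw [Ideal.span_singleton_le_iff_mem, Ideal.mem_span_singleton']
          refine ⟨f, ?_⟩
          calc f * (e + f - e * f) = f * f + (f * e - e * (f * f)) := by ring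
            _ = f := by rw [hf]; ring
      · rw [Ideal.span_singleton_le_iff_mem]
        have h1 : e ∈ Ideal.span {e} ⊔ Ideal.span {f} :=
          Ideal.mem_sup_left (Ideal.mem_span_singleton_self e)
        have h2 : f ∈ Ideal.span {e} ⊔ Ideal.span {f} :=
          Ideal.mem_sup_right (Ideal.mem_span_singleton_self f)
        exact Ideal.sub_mem _ (Ideal.add_mem _ h1 h2) (Ideal.mul_mem_right _ _ h1)

/-- Every module over a von Neumann regular ring is flat. -/
theorem flat_of_vonNeumann {R : Type u} [CommRing R] (h : ∀ a : R, ∃ b, a = a * a * b)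
    (M : Type*) [AddCommGroup M] [Module R M] : Module.Flat R M := by
  rw [Module.Flat.iff_rTensor_injective]
  intro I hI
  obtain ⟨e, he, rfl⟩ := exists_idempotent_of_fg h I hI
  let r : R →ₗ[R] (Ideal.span {e} : Ideal R) :=
    LinearMap.codRestrict _ (LinearMap.mulLeft R e) (fun x =>
      Ideal.mul_mem_right x _ (Ideal.mem_span_singleton_self e))
  have hr : r ∘ₗ (Ideal.span {e} : Ideal R).subtype = LinearMap.id := by
    apply LinearMap.ext
    rintro ⟨y, hy⟩
    apply Subtype.ext
    obtain ⟨z, rfl⟩ := Ideal.mem_span_singleton'.mp hy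
    show e * (z * e) = z * e
    calc e * (z * e) = z * (e * e) := by ring
      _ = z * e := by rw [he]
  have : (r.rTensor M) ∘ₗ ((Ideal.span {e} : Ideal R).subtype.rTensor M) = LinearMap.id := by
    rw [← LinearMap.rTensor_comp, hr, LinearMap.rTensor_id]
  exact Function.LeftInverse.injective (g := r.rTensor M) (fun x => LinearMap.congr_fun this x)


theorem pi_field_vonNeumann {ι : Type*} (K : ι → Type*) [∀ i, Field (K i)] (a : ∀ i, K i) :
    ∃ b, a = a * a * b :=
  ⟨fun i => (a i)⁻¹, funext fun i => by
    by_cases h : a i = 0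
    · simp [h]
    · simp [mul_assoc, mul_inv_cancel₀ h]⟩

/-- If `A/(a)` is flat over `A` then `a ∈ (a²)`. -/
theorem exists_eq_sq_mul_of_flat_quotient {A : Type u} [CommRing A] (a : A)
    [Module.Flat A (A ⧸ Ideal.span {a})] : ∃ b, a = a * a * b := by
  set I : Ideal A := Ideal.span {a} with hI
  have haI : a ∈ I := Ideal.mem_span_singleton_self a
  have hinj := Module.Flat.rTensor_preserves_injective_linearMap (M := A ⧸ I) I.subtype
    Subtype.val_injective
  have h0 : (⟨a, haI⟩ : I) ⊗ₜ[A] (1 : A ⧸ I) = 0 := by
    apply hinj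
    rw [map_zero, LinearMap.rTensor_tmul, Submodule.subtype_apply]
    have : (a : A) ⊗ₜ[A] (1 : A ⧸ I) = (1 : A) ⊗ₜ[A] (a • (1 : A ⧸ I)) := by
      rw [← smul_tmul, smul_eq_mul, mul_one]
    rw [this]
    have : a • (1 : A ⧸ I) = 0 := by
      have h1' : (1 : A ⧸ I) = Submodule.Quotient.mk (1 : A) := rfl
      rw [h1', ← Submodule.Quotient.mk_smul]
      exact (Submodule.Quotient.mk_eq_zero _).mpr (by simpa using haI)
    rw [this, tmul_zero]
  have h1 := congrArg (TensorProduct.tensorQuotEquivQuotSMul (I : Submodule A A) I) h0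
  rw [map_zero] at h1
  have h2 : TensorProduct.tensorQuotEquivQuotSMul (I : Submodule A A) I
      ((⟨a, haI⟩ : I) ⊗ₜ[A] (1 : A ⧸ I)) = Submodule.Quotient.mk ⟨a, haI⟩ := by
    simp [TensorProduct.tensorQuotEquivQuotSMul]
  rw [h2, Submodule.Quotient.mk_eq_zero] at h1
  have h3 : a ∈ I * I := by
    have : (I • (⊤ : Submodule A I)).map I.subtype = I • I := by
      rw [Submodule.map_smul'', Submodule.map_top, Submodule.range_subtype]
    have h4 : I.subtype ⟨a, haI⟩ ∈ (I • (⊤ : Submodule A I)).map I.subtype :=
      Submodule.mem_map_of_mem h1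
    rw [this] at h4
    exact h4
  rw [hI, Ideal.span_singleton_mul_span_singleton, Ideal.mem_span_singleton'] at h3
  obtain ⟨b, hb⟩ := h3
  refine ⟨b, ?_⟩
  calc a = b * (a * a) := hb.symm
    _ = a * a * b := by ring

theorem absolutelyFlat_tfae (A : Type u) [CommRing A] :
    List.TFAE [∀ (M : Type u) [AddCommGroup M] [Module A M], Module.Flat A M,
      IsReduced A ∧ ∀ p : Ideal A, p.IsPrime → p.IsMaximal,
      ∀ (p : Ideal A) [p.IsPrime], IsField (Localization.AtPrime p)] := by
  tfae_have 1 → 2 := by
    intro h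
    have hvn : ∀ a : A, ∃ b, a = a * a * b := fun a =>
      haveI := h (A ⧸ Ideal.span {a})
      exists_eq_sq_mul_of_flat_quotient a
    constructor
    · refine ⟨fun a ha => ?_⟩
      obtain ⟨n, hn⟩ := ha
      obtain ⟨b, hb⟩ := hvn a
      have key : ∀ k : ℕ, a = a ^ (k + 1) * b ^ k := by
        intro k
        induction k with
        | zero => simp
        | succ k ih =>
          calc a = a ^ (k + 1) * b ^ k := ih
            _ = a ^ k * a * b ^ k := by rw [pow_succ]
            _ = a ^ k * (a * a * b) * b ^ k := by rw [← hb]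
            _ = a ^ (k + 1 + 1) * b ^ (k + 1) := by ring
      rw [key n, pow_succ, hn, zero_mul, zero_mul]
    · intro p hp
      rw [Ideal.Quotient.maximal_ideal_iff_isField_quotient]
      haveI := hp
      refine ⟨⟨0, 1, zero_ne_one⟩, mul_comm, ?_⟩
      intro x hx
      obtain ⟨a, rfl⟩ := Ideal.Quotient.mk_surjective x
      obtain ⟨b, hb⟩ := hvn a
      refine ⟨Ideal.Quotient.mk p b, ?_⟩
      have h1 : Ideal.Quotient.mk p a * (Ideal.Quotient.mk p a * Ideal.Quotient.mk p b - 1) = 0 := by
        rw [← map_mul, ← map_one (Ideal.Quotient.mk p), ← map_sub, ← map_mul]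
        have : a * (a * b - 1) = 0 := by
          calc a * (a * b - 1) = a * a * b - a := by ring
            _ = 0 := by rw [← hb, sub_self]
        rw [this, map_zero]
      rcases mul_eq_zero.mp h1 with h2 | h2
      · exact absurd h2 hx
      · exact sub_eq_zero.mp h2
  tfae_have 2 → 3 := by
    rintro ⟨hred, hmax⟩ p hp
    haveI : Ring.KrullDimLE 0 A := Ring.KrullDimLE.mk₀ hmax
    haveI : Ring.KrullDimLE 0 (Localization.AtPrime p) :=
      Ring.KrullDimLE.of_isLocalization p (Ideal.mem_minimalPrimes_of_krullDimLE_zero p) _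
    exact Ring.KrullDimLE.isField_of_isReduced
  tfae_have 3 → 1 := by
    intro h M _ _
    apply Module.flat_of_localized_maximal
    intro P hP
    letI : Field (Localization.AtPrime P) := (h P).toField
    haveI : Module.Flat (Localization.AtPrime P) (LocalizedModule P.primeCompl M) := inferInstance
    exact Module.Flat.trans A (Localization.AtPrime P) (LocalizedModule P.primeCompl M)
  tfae_finish

end Groth.Agent.H4.AbsFlat
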