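import Mathlib
import Groth.Prelude.Def_Adeq
import Groth.Agent.Lib.Helper2.AdeqKer
import Groth.Agent.Lib.Helper2.AdeqVanish
open CategoryTheory Limits TensorProduct

universe u v

namespace Groth.Agent.H4.AdeqFC

/-- recognition of filtered colimits in `Ab.{u+1}` over a `u`-small filtered category. -/
theorem ab_isColimit_of {J : Type u} [SmallCategory J] [IsFiltered J] (K : J ⥤ Ab.{u+1})
    (t : Cocone K)
    (hsurj : ∀ x : t.pt, ∃ (j : J) (y : K.obj j), t.ι.app j y = x)
    (hinj : ∀ (j : J) (y : K.obj j), t.ι.app j y = 0 → ∃ (k : J) (f : j ⟶ k), K.map f y = 0) :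
    Nonempty (IsColimit t) := by
  haveI : PreservesFilteredColimitsOfSize.{u, u} (forget Ab.{u+1}) :=
    preservesFilteredColimitsOfSize_shrink.{u, u+1, u, u+1} _
  haveI : PreservesColimitsOfShape J (forget Ab.{u+1}) := inferInstance
  haveI : ReflectsColimitsOfShape J (forget Ab.{u+1}) :=
    reflectsColimitsOfShape_of_reflectsIsomorphisms
  refine ⟨isColimitOfReflects (forget Ab.{u+1}) (Types.FilteredColimit.isColimitOf' _ _ ?_ ?_)⟩
  · intro x
    obtain ⟨j, y, h⟩ := hsurj x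
    exact ⟨j, y, h.symm⟩
  · intro i (x : K.obj i) (y : K.obj i) h
    change t.ι.app i x = t.ι.app i y at h
    have h' : t.ι.app i (x - y) = 0 := by
      rw [map_sub, sub_eq_zero]; exact h
    obtain ⟨k, f, hf⟩ := hinj i (x - y) h'
    refine ⟨k, f, ?_⟩
    change K.map f x = K.map f y
    rw [map_sub, sub_eq_zero] at hf
    exact hf

section AlgS

variable {A : Type u} [CommRing A] {J : Type u} [SmallCategory J] [IsFiltered J]
  (D : J ⥤ CommAlgCat.{u} A) (c : Cocone D) (hc : IsColimit c)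

noncomputable abbrev GG (A : Type u) [CommRing A] : CommAlgCat.{u} A ⥤ Type u :=
  (commAlgCatEquivUnder (.of A)).functor ⋙ Under.forget _ ⋙ forget CommRingCat

include hc in
theorem alg_surj (b : c.pt) : ∃ (j : J) (x : D.obj j), (c.ι.app j).hom x = b := by
  have hG : IsColimit ((GG A).mapCocone c) := isColimitOfPreserves (GG A) hc
  obtain ⟨j, y, h⟩ := Types.jointly_surjective_of_isColimit hG b
  exact ⟨j, y, h⟩

include hc in
theorem alg_inj (j : J) (x y : D.obj j) (h : (c.ι.app j).hom x = (c.ι.app j).hom y) :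
    ∃ (k : J) (f : j ⟶ k), (D.map f).hom x = (D.map f).hom y := by
  have hG : IsColimit ((GG A).mapCocone c) := isColimitOfPreserves (GG A) hc
  obtain ⟨k, f, hf⟩ := (Types.FilteredColimit.isColimit_eq_iff' hG x y).1 h
  exact ⟨k, f, hf⟩

end AlgS

section Fam

variable {A : Type u} [CommRing A] {J : Type u} [SmallCategory J] [IsFiltered J]
  (D : J ⥤ CommAlgCat.{u} A) (c : Cocone D)

lemma w_apply {j k : J} (f : j ⟶ k) (x : D.obj j) :
    (c.ι.app k).hom ((D.map f).hom x) = (c.ι.app j).hom x := by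
  rw [← c.w f]; rfl

lemma map_comp_apply {j k l : J} (f : j ⟶ k) (g : k ⟶ l) (x : D.obj j) :
    (D.map (f ≫ g)).hom x = (D.map g).hom ((D.map f).hom x) := by
  rw [D.map_comp]; rfl

variable (hS : ∀ b : c.pt, ∃ (j : J) (x : D.obj j), (c.ι.app j).hom x = b)
  (hI : ∀ (j : J) (x y : D.obj j), (c.ι.app j).hom x = (c.ι.app j).hom y →
    ∃ (k : J) (f : j ⟶ k), (D.map f).hom x = (D.map f).hom y)

include hS in
lemma fam_surj {ι : Type*} [Finite ι] (b : ι → c.pt) :
    ∃ (j : J) (x : ι → D.obj j), ∀ i, (c.ι.app j).hom (x i) = b i := by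
  classical
  cases nonempty_fintype ι
  choose j0 x0 h0 using (fun i => hS (b i))
  obtain ⟨S, hSo⟩ := IsFiltered.sup_objs_exists (Finset.univ.image j0)
  have hne : ∀ i, Nonempty (j0 i ⟶ S) := fun i =>
    hSo (Finset.mem_image_of_mem _ (Finset.mem_univ i))
  let f : ∀ i, j0 i ⟶ S := fun i => (hne i).some
  refine ⟨S, fun i => (D.map (f i)).hom (x0 i), fun i => ?_⟩
  rw [w_apply, h0]

include hI in
lemma fam_inj {ι : Type*} [Finite ι] (j : J) (x y : ι → D.obj j)
    (h : ∀ i, (c.ι.app j).hom (x i) = (c.ι.app j).hom (y i)) :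
    ∃ (k : J) (f : j ⟶ k), ∀ i, (D.map f).hom (x i) = (D.map f).hom (y i) := by
  classical
  cases nonempty_fintype ι
  suffices H : ∀ s : Finset ι, ∃ (k : J) (f : j ⟶ k),
      ∀ i ∈ s, (D.map f).hom (x i) = (D.map f).hom (y i) by
    obtain ⟨k, f, hf⟩ := H Finset.univ
    exact ⟨k, f, fun i => hf i (Finset.mem_univ i)⟩
  intro s
  induction s using Finset.induction_on with
  | empty => exact ⟨j, 𝟙 j, by simp⟩
  | insert a s ha ih =>
    obtain ⟨k, f, hf⟩ := ih
    have h1 : (c.ι.app k).hom ((D.map f).hom (x a)) = (c.ι.app k).hom ((D.map f).hom (y a)) := by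
      rw [w_apply, w_apply]; exact h a
    obtain ⟨k', g, hg⟩ := hI k _ _ h1
    refine ⟨k', f ≫ g, fun i hi => ?_⟩
    rw [map_comp_apply, map_comp_apply]
    rcases Finset.mem_insert.mp hi with rfl | hi
    · exact hg
    · rw [hf i hi]

lemma fin_rep {M : Type*} {P : Type*} [AddCommGroup M] [Module A M] [AddCommGroup P] [Module A P]
    (z : M ⊗[A] P) : ∃ (l : ℕ) (x : Fin l → M) (p : Fin l → P), z = ∑ i, x i ⊗ₜ[A] p i := by
  classical
  obtain ⟨S, rfl⟩ := TensorProduct.exists_finset z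
  refine ⟨S.card, fun i => (S.equivFin.symm i).1.1, fun i => (S.equivFin.symm i).1.2, ?_⟩
  rw [← Finset.sum_coe_sort S, ← Equiv.sum_comp S.equivFin.symm]

include hS in
lemma tens_surj (P : Type v) [AddCommGroup P] [Module A P] (y : c.pt ⊗[A] P) :
    ∃ (j : J) (z : D.obj j ⊗[A] P), (c.ι.app j).hom.toLinearMap.rTensor P z = y := by
  obtain ⟨l, b, p, rfl⟩ := fin_rep (A := A) y
  obtain ⟨j, x, hx⟩ := fam_surj D c hS b
  refine ⟨j, ∑ i, x i ⊗ₜ[A] p i, ?_⟩
  rw [map_sum]
  refine Finset.sum_congr rfl (fun i _ => ?_)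
  rw [LinearMap.rTensor_tmul, AlgHom.toLinearMap_apply, hx]

include hS hI in
lemma tens_inj (P : Type v) [AddCommGroup P] [Module A P] (j : J) (z : D.obj j ⊗[A] P)
    (hz : (c.ι.app j).hom.toLinearMap.rTensor P z = 0) :
    ∃ (k : J) (f : j ⟶ k), (D.map f).hom.toLinearMap.rTensor P z = 0 := by
  obtain ⟨l, x, p, rfl⟩ := fin_rep (A := A) z
  have h0 : ∑ i, (c.ι.app j).hom (x i) ⊗ₜ[A] p i = 0 := by
    rw [← hz, map_sum]
    refine Finset.sum_congr rfl (fun i _ => ?_)
    rw [LinearMap.rTensor_tmul, AlgHom.toLinearMap_apply]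
  obtain ⟨r, cc, hV⟩ := Groth.Agent.H2.AdeqVanish.exists_extension_vanishesTrivially (R := A)
    (fun i => (c.ι.app j).hom (x i)) p h0
  obtain ⟨κ, a, yy, hn, hm⟩ := hV
  obtain ⟨j1, c1, hc1⟩ := fam_surj D c hS cc
  let k0 := IsFiltered.max j j1
  let u0 : j ⟶ k0 := IsFiltered.leftToMax j j1
  let v0 : j1 ⟶ k0 := IsFiltered.rightToMax j j1
  let m0 : Fin l ⊕ Fin r → D.obj k0 :=
    Sum.elim (fun i => (D.map u0).hom (x i)) (fun s => (D.map v0).hom (c1 s))
  have hm0 : ∀ i, (c.ι.app k0).hom (m0 i) =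
      Sum.elim (fun i => (c.ι.app j).hom (x i)) cc i := by
    rintro (i | s)
    · simp only [m0, Sum.elim_inl, w_apply]
    · simp only [m0, Sum.elim_inr, w_apply, hc1]
  obtain ⟨k, f, hf⟩ := fam_inj D c hI (ι := Fin κ) k0 (fun t => ∑ i, a i t • m0 i) (fun _ => 0)
    (by
      intro t
      rw [map_sum, map_zero, ← hm t]
      refine Finset.sum_congr rfl (fun i _ => ?_)
      rw [map_smul, hm0])
  refine ⟨k, u0 ≫ f, ?_⟩
  have hV' : TensorProduct.VanishesTrivially A (fun i => (D.map f).hom (m0 i))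
      (Sum.elim p fun _ => (0 : P)) := by
    refine ⟨κ, a, yy, hn, fun t => ?_⟩
    have := hf t
    rw [map_sum, map_zero] at this
    rw [← this]
    refine Finset.sum_congr rfl (fun i _ => ?_)
    rw [map_smul]
  have h1 := TensorProduct.sum_tmul_eq_zero_of_vanishesTrivially A hV'
  rw [Fintype.sum_sum_type] at h1
  simp only [Sum.elim_inl, Sum.elim_inr, TensorProduct.tmul_zero, Finset.sum_const_zero,
    add_zero, m0] at h1
  rw [map_sum, ← h1]
  refine Finset.sum_congr rfl (fun i _ => ?_)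
  rw [LinearMap.rTensor_tmul, AlgHom.toLinearMap_apply, map_comp_apply]

end Fam

section Main
open Adeq

variable {A : Type u} [CommRing A]

/-- transition maps of a module-valued functor as plain functions -/
noncomputable def Fm (F : MVF A) {B B' : Alg A} (f : B ⟶ B') (x : F.obj (pt B)) : F.obj (pt B') :=
  F.map (ptHom f) x

lemma Fm_nat {F G : MVF A} (ψ : F ⟶ G) {B B' : Alg A} (f : B ⟶ B') (x : F.obj (pt B)) :
    ψ.app (pt B') (Fm F f x) = Fm G f (ψ.app (pt B) x) :=
  PresheafOfModules.naturality_apply ψ (ptHom f) x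

variable {J : Type u} [SmallCategory J] [IsFiltered J]
  (D : J ⥤ Adeq.Alg A) (c : Cocone D) (hc : IsColimit c)
  {M N : ModuleCat.{u+1} A} (φ : M ⟶ N)

abbrev ci (j : J) : D.obj j ⟶ c.pt := c.ι.app j

include hc in
lemma ker_surj (x : (kernel ((underline A).map φ)).obj (pt c.pt)) :
    ∃ (j : J) (y : (kernel ((underline A).map φ)).obj (pt (D.obj j))),
      Fm (kernel ((underline A).map φ)) (ci D c j) y = x := by
  have hS := alg_surj D c hc
  have hI := alg_inj D c hc
  obtain ⟨j, z, hz⟩ := tens_surj D c hS M ((kernel.ι ((underline A).map φ)).app (pt c.pt) x)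
  let z' : ((underline A).obj M).obj (pt (D.obj j)) := z
  have hz1 : Fm ((underline A).obj M) (ci D c j) z' =
      (kernel.ι ((underline A).map φ)).app (pt c.pt) x := hz
  have hw : Fm ((underline A).obj N) (ci D c j) (((underline A).map φ).app (pt (D.obj j)) z') = 0 := by
    rw [← Fm_nat, hz1]
    exact Groth.Agent.H2.AdeqKer.kernel_ι_app_comp ((underline A).map φ) (pt c.pt) x
  obtain ⟨k, f, hf⟩ := tens_inj D c hS hI N j (((underline A).map φ).app (pt (D.obj j)) z') hw
  have hz' : ((underline A).map φ).app (pt (D.obj k))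
      (Fm ((underline A).obj M) (D.map f) z') = 0 := by
    rw [Fm_nat]; exact hf
  obtain ⟨x', hx'⟩ := Groth.Agent.H2.AdeqKer.exists_of_app_eq_zero ((underline A).map φ)
    (pt (D.obj k)) _ hz'
  refine ⟨k, x', ?_⟩
  apply Groth.Agent.H2.AdeqKer.kernel_ι_app_injective ((underline A).map φ) (pt c.pt)
  rw [Fm_nat, hx', ← hz1]
  change (c.ι.app k).hom.toLinearMap.rTensor M ((D.map f).hom.toLinearMap.rTensor M z) =
    (c.ι.app j).hom.toLinearMap.rTensor M z
  rw [← LinearMap.rTensor_comp_apply, ← AlgHom.comp_toLinearMap, ← CommAlgCat.hom_comp, c.w f]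

include hc in
lemma ker_inj (j : J) (y : (kernel ((underline A).map φ)).obj (pt (D.obj j)))
    (h : Fm (kernel ((underline A).map φ)) (ci D c j) y = 0) :
    ∃ (k : J) (f : j ⟶ k), Fm (kernel ((underline A).map φ)) (D.map f) y = 0 := by
  have hS := alg_surj D c hc
  have hI := alg_inj D c hc
  have h1 : Fm ((underline A).obj M) (ci D c j)
      ((kernel.ι ((underline A).map φ)).app (pt (D.obj j)) y) = 0 := by
    rw [← Fm_nat, h, map_zero]
  obtain ⟨k, f, hf⟩ := tens_inj D c hS hI M j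
    ((kernel.ι ((underline A).map φ)).app (pt (D.obj j)) y) h1
  refine ⟨k, f, ?_⟩
  apply Groth.Agent.H2.AdeqKer.kernel_ι_app_injective ((underline A).map φ) (pt (D.obj k))
  rw [Fm_nat, map_zero]
  exact hf

include hc in
theorem main (F : MVF A) (e : F ≅ kernel ((underline A).map φ)) :
    Nonempty (IsColimit (F.toAb.mapCocone c)) := by
  have hK : Nonempty (IsColimit ((kernel ((underline A).map φ)).toAb.mapCocone c)) := by
    refine ab_isColimit_of _ _ (fun x => ?_) (fun j y h => ?_)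
    · obtain ⟨j, y, hy⟩ := ker_surj D c hc φ x
      exact ⟨j, y, hy⟩
    · obtain ⟨k, f, hf⟩ := ker_inj D c hc φ j y h
      exact ⟨k, f, hf⟩
  obtain ⟨hK⟩ := hK
  let i : (kernel ((underline A).map φ)).toAb ≅ F.toAb :=
    Functor.isoWhiskerLeft (opOp (Alg A))
      ((PresheafOfModules.toPresheaf (ringOf A)).mapIso e.symm)
  exact ⟨IsColimit.mapCoconeEquiv i hK⟩

end Main

end Groth.Agent.H4.AdeqFC
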