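import Mathlib
import Groth.Agent.S7136
set_option autoImplicit false
universe u
namespace Groth.Agent.H4.AdicIso
open Submodule AdicCompletion

section
variable {A : Type u} [CommRing A] (I : Ideal A)
variable {M N : Type u} [AddCommGroup M] [Module A M] [AddCommGroup N] [Module A N]

/-- the map on completions induced by a compatible system of maps `M/IⁿM → N/IⁿN` -/
def limMap (φ : ∀ n : ℕ, (M ⧸ (I ^ n • ⊤ : Submodule A M)) →ₗ[A] (N ⧸ (I ^ n • ⊤ : Submodule A N)))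
    (hφ : ∀ {m n : ℕ} (hmn : m ≤ n) (x : M ⧸ (I ^ n • ⊤ : Submodule A M)),
      transitionMap I N hmn (φ n x) = φ m (transitionMap I M hmn x)) :
    AdicCompletion I M →ₗ[AdicCompletion I A] AdicCompletion I N where
  toFun x := ⟨fun n => φ n (x.val n), fun {m n} hmn => by
    rw [hφ hmn, x.2 hmn]⟩
  map_add' x y := by
    apply AdicCompletion.ext
    intro n
    simp [val_add_apply]
  map_smul' r x := by
    apply AdicCompletion.ext
    intro n
    simp only [smul_eval, RingHom.id_apply]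
    obtain ⟨a, ha⟩ := Ideal.Quotient.mk_surjective (r.val n)
    rw [← ha]
    have h1 : ∀ y : M ⧸ (I ^ n • ⊤ : Submodule A M),
        (Ideal.Quotient.mk (I ^ n • ⊤ : Ideal A) a) • y = a • y := by
      intro y
      induction y using Submodule.Quotient.induction_on with
      | H y => rfl
    have h2 : ∀ y : N ⧸ (I ^ n • ⊤ : Submodule A N),
        (Ideal.Quotient.mk (I ^ n • ⊤ : Ideal A) a) • y = a • y := by
      intro y
      induction y using Submodule.Quotient.induction_on with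
      | H y => rfl
    rw [h1, h2, map_smul]

@[simp] theorem limMap_val (φ : ∀ n : ℕ, (M ⧸ (I ^ n • ⊤ : Submodule A M)) →ₗ[A] (N ⧸ (I ^ n • ⊤ : Submodule A N)))
    (hφ : ∀ {m n : ℕ} (hmn : m ≤ n) (x : M ⧸ (I ^ n • ⊤ : Submodule A M)),
      transitionMap I N hmn (φ n x) = φ m (transitionMap I M hmn x))
    (x : AdicCompletion I M) (n : ℕ) : (limMap I φ hφ x).val n = φ n (x.val n) := rfl


theorem limMap_surjective (hI : I.FG)
    (φ : ∀ n : ℕ, (M ⧸ (I ^ n • ⊤ : Submodule A M)) →ₗ[A] (N ⧸ (I ^ n • ⊤ : Submodule A N)))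
    (hφ : ∀ {m n : ℕ} (hmn : m ≤ n) (x : M ⧸ (I ^ n • ⊤ : Submodule A M)),
      transitionMap I N hmn (φ n x) = φ m (transitionMap I M hmn x))
    (h1 : Function.Surjective (φ 1)) : Function.Surjective (limMap I φ hφ) := by
  haveI : IsAdicComplete I (AdicCompletion I M) := AdicCompletion.isAdicComplete hI
  let f : AdicCompletion I M →ₗ[A] AdicCompletion I N := (limMap I φ hφ).restrictScalars A
  have hf : Function.Surjective f := by
    apply surjective_of_mkQ_comp_surjective (I := I)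
    intro z
    obtain ⟨y, rfl⟩ := Submodule.mkQ_surjective _ z
    obtain ⟨x₁, hx₁⟩ := h1 (y.val 1)
    obtain ⟨x, hx⟩ := eval_surjective I M 1 x₁
    refine ⟨x, ?_⟩
    rw [LinearMap.comp_apply, Submodule.mkQ_apply, Submodule.mkQ_apply, Submodule.Quotient.eq]
    have hker : (I • ⊤ : Submodule A (AdicCompletion I N)) = LinearMap.ker (eval I N 1) := by
      have := pow_smul_top_eq_ker_eval (M := N) (n := 1) hI
      rw [← this, pow_one]
    rw [hker, LinearMap.mem_ker, map_sub, sub_eq_zero]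
    show (limMap I φ hφ x).val 1 = y.val 1
    rw [limMap_val, ← hx₁]
    congr 1
  exact hf


theorem finite_adicCompletion [Module.Finite A M] :
    Module.Finite (AdicCompletion I A) (AdicCompletion I M) :=
  Module.Finite.of_surjective (ofTensorProduct I M) (ofTensorProduct_surjective_of_finite I M)

theorem equiv_of_two_surjections [Module.Finite A M]
    (f : AdicCompletion I M →ₗ[AdicCompletion I A] AdicCompletion I N)
    (g : AdicCompletion I N →ₗ[AdicCompletion I A] AdicCompletion I M)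
    (hf : Function.Surjective f) (hg : Function.Surjective g) :
    Nonempty (AdicCompletion I M ≃ₗ[AdicCompletion I A] AdicCompletion I N) := by
  haveI := finite_adicCompletion I (M := M)
  have h1 : Function.Surjective (g ∘ₗ f) := hg.comp hf
  have h2 : Function.Injective (g ∘ₗ f) := OrzechProperty.injective_of_surjective_endomorphism _ h1
  have h3 : Function.Injective f := by
    intro x y hxy
    apply h2
    simp [hxy]
  exact ⟨LinearEquiv.ofBijective f ⟨h3, hf⟩⟩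

theorem ML [IsNoetherianRing A] [Module.Finite A M] [Module.Finite A N] :
    ∀ n : ℕ, ∃ m : ℕ, n ≤ m ∧ ∀ (k : ℕ) (hmk : m ≤ k) (hnm : n ≤ m)
      (ψ : M →ₗ[A] N ⧸ (I ^ m • ⊤ : Submodule A N)),
      ∃ ψ' : M →ₗ[A] N ⧸ (I ^ k • ⊤ : Submodule A N),
        transitionMap I N (hnm.trans hmk) ∘ₗ ψ' = transitionMap I N hnm ∘ₗ ψ :=
  (Groth.Agent.S7136.result A I M N).1


theorem tm_comp {l m n : ℕ} (h1 : l ≤ m) (h2 : m ≤ n) :
    transitionMap I N h1 ∘ₗ transitionMap I N h2 = transitionMap I N (h1.trans h2) :=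
  Submodule.factor_comp _ _

/-- `ψ : M → N/IⁿN` lifts to every higher level -/
def Stable (n : ℕ) (ψ : M →ₗ[A] N ⧸ (I ^ n • ⊤ : Submodule A N)) : Prop :=
  ∀ (k : ℕ) (hk : n ≤ k), ∃ ψ' : M →ₗ[A] N ⧸ (I ^ k • ⊤ : Submodule A N),
    transitionMap I N hk ∘ₗ ψ' = ψ

theorem stable_of_ML [IsNoetherianRing A] [Module.Finite A M] [Module.Finite A N]
    (n m : ℕ) (hnm : n ≤ m)
    (hm : ∀ (k : ℕ) (hmk : m ≤ k) (hnm : n ≤ m) (ψ : M →ₗ[A] N ⧸ (I ^ m • ⊤ : Submodule A N)),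
      ∃ ψ' : M →ₗ[A] N ⧸ (I ^ k • ⊤ : Submodule A N),
        transitionMap I N (hnm.trans hmk) ∘ₗ ψ' = transitionMap I N hnm ∘ₗ ψ)
    (ψ : M →ₗ[A] N ⧸ (I ^ m • ⊤ : Submodule A N)) :
    Stable I n (transitionMap I N hnm ∘ₗ ψ) := by
  intro k hk
  by_cases hmk : m ≤ k
  · exact hm k hmk hnm ψ
  · have hkm : k ≤ m := by omega
    refine ⟨transitionMap I N hkm ∘ₗ ψ, ?_⟩
    rw [← LinearMap.comp_assoc, tm_comp]

theorem stable_succ [IsNoetherianRing A] [Module.Finite A M] [Module.Finite A N]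
    (n : ℕ) (ψ : M →ₗ[A] N ⧸ (I ^ n • ⊤ : Submodule A N)) (hψ : Stable I n ψ) :
    ∃ ψ' : M →ₗ[A] N ⧸ (I ^ (n + 1) • ⊤ : Submodule A N), Stable I (n + 1) ψ' ∧
      transitionMap I N (Nat.le_succ n) ∘ₗ ψ' = ψ := by
  obtain ⟨m, hnm, hm⟩ := ML I (M := M) (N := N) (n + 1)
  obtain ⟨ψm, hψm⟩ := hψ m (by omega)
  refine ⟨transitionMap I N hnm ∘ₗ ψm, stable_of_ML I (n + 1) m hnm hm ψm, ?_⟩
  rw [← LinearMap.comp_assoc, tm_comp, hψm]

theorem exists_stable_one [IsNoetherianRing A] [Module.Finite A M] [Module.Finite A N]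
    (h : ∀ n : ℕ, ∃ ψ : M →ₗ[A] N ⧸ (I ^ n • ⊤ : Submodule A N), Function.Surjective ψ) :
    ∃ ψ : M →ₗ[A] N ⧸ (I ^ 1 • ⊤ : Submodule A N), Stable I 1 ψ ∧ Function.Surjective ψ := by
  obtain ⟨m, hnm, hm⟩ := ML I (M := M) (N := N) 1
  obtain ⟨ψm, hψm⟩ := h m
  refine ⟨transitionMap I N hnm ∘ₗ ψm, stable_of_ML I 1 m hnm hm ψm, ?_⟩
  have hs : Function.Surjective (transitionMap I N hnm) := Submodule.factor_surjective _
  exact hs.comp hψm

theorem exists_compatible_system [IsNoetherianRing A] [Module.Finite A M] [Module.Finite A N]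
    (h : ∀ n : ℕ, ∃ ψ : M →ₗ[A] N ⧸ (I ^ n • ⊤ : Submodule A N), Function.Surjective ψ) :
    ∃ φ : ∀ n : ℕ, M →ₗ[A] N ⧸ (I ^ n • ⊤ : Submodule A N),
      (∀ n, transitionMap I N (Nat.le_succ n) ∘ₗ φ (n + 1) = φ n) ∧ Function.Surjective (φ 1) := by
  classical
  obtain ⟨ψ1, hψ1s, hψ1⟩ := exists_stable_one I h
  -- the sequence of stable maps at levels n + 1
  let seq : ∀ n : ℕ, {ψ : M →ₗ[A] N ⧸ (I ^ (n + 1) • ⊤ : Submodule A N) // Stable I (n + 1) ψ} :=
    fun n => Nat.rec (motive := fun n =>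
        {ψ : M →ₗ[A] N ⧸ (I ^ (n + 1) • ⊤ : Submodule A N) // Stable I (n + 1) ψ})
      ⟨ψ1, hψ1s⟩
      (fun n prev => ⟨(stable_succ I (n + 1) prev.1 prev.2).choose,
        (stable_succ I (n + 1) prev.1 prev.2).choose_spec.1⟩) n
  have hseq : ∀ n, transitionMap I N (Nat.le_succ (n + 1)) ∘ₗ (seq (n + 1)).1 = (seq n).1 :=
    fun n => (stable_succ I (n + 1) (seq n).1 (seq n).2).choose_spec.2
  let φ : ∀ n : ℕ, M →ₗ[A] N ⧸ (I ^ n • ⊤ : Submodule A N) := fun n =>
    match n with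
    | 0 => 0
    | (n + 1) => (seq n).1
  refine ⟨φ, ?_, hψ1⟩
  intro n
  cases n with
  | zero =>
    apply LinearMap.ext
    intro x
    have : Subsingleton (N ⧸ (I ^ 0 • ⊤ : Submodule A N)) := by
      rw [Submodule.Quotient.subsingleton_iff, pow_zero, Ideal.one_eq_top, Submodule.top_smul]
    exact Subsingleton.elim _ _
  | succ n => exact hseq n


theorem compat_of_succ (φ : ∀ n : ℕ, M →ₗ[A] N ⧸ (I ^ n • ⊤ : Submodule A N))
    (hφ : ∀ n, transitionMap I N (Nat.le_succ n) ∘ₗ φ (n + 1) = φ n) {m n : ℕ} (hmn : m ≤ n) :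
    transitionMap I N hmn ∘ₗ φ n = φ m := by
  induction n, hmn using Nat.le_induction with
  | base =>
    apply LinearMap.ext
    intro x
    simp [transitionMap]
  | succ n hmn ih =>
    rw [← ih, ← hφ n, ← LinearMap.comp_assoc, tm_comp]

theorem le_ker_of_map_to_quot (n : ℕ) (ψ : M →ₗ[A] N ⧸ (I ^ n • ⊤ : Submodule A N)) :
    (I ^ n • ⊤ : Submodule A M) ≤ LinearMap.ker ψ := by
  rw [Submodule.smul_le]
  intro a ha x _
  rw [LinearMap.mem_ker, map_smul]
  obtain ⟨y, hy⟩ := Submodule.mkQ_surjective _ (ψ x)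
  rw [← hy, ← map_smul, Submodule.mkQ_apply, Submodule.Quotient.mk_eq_zero]
  exact Submodule.smul_mem_smul ha Submodule.mem_top

theorem exists_surjective_limMap [IsNoetherianRing A] [Module.Finite A M] [Module.Finite A N]
    (h : ∀ n : ℕ, ∃ ψ : M →ₗ[A] N ⧸ (I ^ n • ⊤ : Submodule A N), Function.Surjective ψ) :
    ∃ f : AdicCompletion I M →ₗ[AdicCompletion I A] AdicCompletion I N, Function.Surjective f := by
  obtain ⟨φ, hφ, hφ1⟩ := exists_compatible_system I h
  let φb : ∀ n : ℕ, (M ⧸ (I ^ n • ⊤ : Submodule A M)) →ₗ[A] (N ⧸ (I ^ n • ⊤ : Submodule A N)) :=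
    fun n => Submodule.liftQ _ (φ n) (le_ker_of_map_to_quot I n (φ n))
  have hφb : ∀ {m n : ℕ} (hmn : m ≤ n) (x : M ⧸ (I ^ n • ⊤ : Submodule A M)),
      transitionMap I N hmn (φb n x) = φb m (transitionMap I M hmn x) := by
    intro m n hmn x
    obtain ⟨x₀, rfl⟩ := Submodule.mkQ_surjective _ x
    have h1 : φb n ((I ^ n • ⊤ : Submodule A M).mkQ x₀) = φ n x₀ := rfl
    have h2 : transitionMap I M hmn ((I ^ n • ⊤ : Submodule A M).mkQ x₀) =
        (I ^ m • ⊤ : Submodule A M).mkQ x₀ := rfl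
    have h3 : φb m ((I ^ m • ⊤ : Submodule A M).mkQ x₀) = φ m x₀ := rfl
    rw [h1, h2, h3, ← compat_of_succ I φ hφ hmn]
    rfl
  refine ⟨limMap I φb hφb, limMap_surjective I (IsNoetherian.noetherian I) φb hφb ?_⟩
  intro y
  obtain ⟨x, hx⟩ := hφ1 y
  exact ⟨(I ^ 1 • ⊤ : Submodule A M).mkQ x, hx⟩

theorem main_iso [IsNoetherianRing A] [Module.Finite A M] [Module.Finite A N]
    (h : ∀ n : ℕ, Nonempty ((M ⧸ (I ^ n • ⊤ : Submodule A M)) ≃ₗ[A] (N ⧸ (I ^ n • ⊤ : Submodule A N)))) :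
    Nonempty (AdicCompletion I M ≃ₗ[AdicCompletion I A] AdicCompletion I N) := by
  obtain ⟨f, hf⟩ := exists_surjective_limMap I (M := M) (N := N) (fun n => by
    obtain ⟨e⟩ := h n
    exact ⟨e.toLinearMap ∘ₗ (I ^ n • ⊤ : Submodule A M).mkQ,
      e.surjective.comp (Submodule.mkQ_surjective _)⟩)
  obtain ⟨g, hg⟩ := exists_surjective_limMap I (M := N) (N := M) (fun n => by
    obtain ⟨e⟩ := h n
    exact ⟨e.symm.toLinearMap ∘ₗ (I ^ n • ⊤ : Submodule A N).mkQ,
      e.symm.surjective.comp (Submodule.mkQ_surjective _)⟩)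
  exact equiv_of_two_surjections I f g hf hg

end
end Groth.Agent.H4.AdicIso
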