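import Mathlib

set_option autoImplicit false
universe u v w w'

namespace Groth.Agent.H4.AdicProj

lemma freeLift {A : Type u} [CommRing A] (J : Ideal A) (m : ℕ)
    {N : Type w} {W : Type w'} [AddCommGroup N] [Module A N] [AddCommGroup W] [Module A W]
    (g : N →ₗ[A] W) (hg : Function.Surjective g)
    (hN : J • (⊤ : Submodule A N) = ⊥)
    (h : (Fin m → A ⧸ J) →ₗ[A] W) :
    ∃ k : (Fin m → A ⧸ J) →ₗ[A] N, g ∘ₗ k = h := by
  classical
  choose n hn using fun j => hg (h (Pi.single j 1))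
  have hle : ∀ j, J ≤ LinearMap.ker (LinearMap.toSpanSingleton A N (n j)) := by
    intro j a ha
    rw [LinearMap.mem_ker, LinearMap.toSpanSingleton_apply]
    have : a • n j ∈ J • (⊤ : Submodule A N) := Submodule.smul_mem_smul ha trivial
    rw [hN] at this
    exact (Submodule.mem_bot A).mp this
  let k : (Fin m → A ⧸ J) →ₗ[A] N :=
    ∑ j, (Submodule.liftQ J (LinearMap.toSpanSingleton A N (n j)) (hle j)) ∘ₗ LinearMap.proj j
  refine ⟨k, ?_⟩
  apply LinearMap.pi_ext'
  intro j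
  apply Submodule.linearMap_qext
  apply LinearMap.ext_ring
  simp only [LinearMap.comp_apply, k, LinearMap.sum_apply, LinearMap.proj_apply,
    LinearMap.single_apply, Submodule.mkQ_apply]
  rw [Finset.sum_eq_single j]
  · simp only [Pi.single_eq_same]
    show g (LinearMap.toSpanSingleton A N (n j) 1) = _
    simp [hn]
  · intro b _ hb
    simp [Pi.single_eq_of_ne hb]
  · simp

lemma liftL {A : Type u} [CommRing A] (J : Ideal A)
    {L : Type v} [AddCommGroup L] [Module A L]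
    {Mn : Type v} [AddCommGroup Mn] [Module A Mn]
    (p : L →ₗ[A] Mn) (hp : Function.Surjective p)
    (hkp : LinearMap.ker p = J • (⊤ : Submodule A L))
    (m : ℕ) (i : Mn →ₗ[A] (Fin m → A ⧸ J)) (ρ : (Fin m → A ⧸ J) →ₗ[A] Mn)
    (hρ : ρ ∘ₗ i = LinearMap.id)
    {N : Type w} {W : Type w'} [AddCommGroup N] [Module A N] [AddCommGroup W] [Module A W]
    (g : N →ₗ[A] W) (hg : Function.Surjective g)
    (hN : J • (⊤ : Submodule A N) = ⊥)
    (h : L →ₗ[A] W) :
    ∃ k : L →ₗ[A] N, g ∘ₗ k = h := by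
  have hW : J • (⊤ : Submodule A W) = ⊥ := by
    rw [← LinearMap.range_eq_top.mpr hg, LinearMap.range_eq_map, ← Submodule.map_smul'', hN,
      Submodule.map_bot]
  have hle : LinearMap.ker p ≤ LinearMap.ker h := by
    rw [hkp]
    intro x hx
    have : h x ∈ J • (⊤ : Submodule A W) := by
      have := Submodule.mem_map_of_mem (f := h) hx
      rw [Submodule.map_smul''] at this
      exact Submodule.smul_mono le_rfl le_top this
    rw [hW] at this
    exact this
  let hbar : Mn →ₗ[A] W :=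
    (LinearMap.ker p).liftQ h hle ∘ₗ (p.quotKerEquivOfSurjective hp).symm.toLinearMap
  have hbar_p : hbar ∘ₗ p = h := by
    ext x
    simp [hbar, LinearMap.quotKerEquivOfSurjective_symm_apply]
  obtain ⟨k, hk⟩ := freeLift J m g hg hN (hbar ∘ₗ ρ)
  refine ⟨k ∘ₗ i ∘ₗ p, ?_⟩
  rw [← LinearMap.comp_assoc, hk, LinearMap.comp_assoc, ← LinearMap.comp_assoc p, hρ,
    LinearMap.id_comp, hbar_p]

lemma isAdicComplete_pi {A : Type u} [CommRing A] (I : Ideal A) [IsAdicComplete I A]
    (ι : Type w) [Fintype ι] [DecidableEq ι] :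
    IsAdicComplete I (ι → A) := by
  have hcoord : ∀ (J : Ideal A) (b : ι → A),
      b ∈ J • (⊤ : Submodule A (ι → A)) ↔ ∀ i, b i ∈ J := by
    intro J b
    constructor
    · intro hb
      refine Submodule.smul_induction_on hb (fun a ha v _ i => ?_) (fun x y hx hy i => ?_)
      · simpa using J.mul_mem_right _ ha
      · simpa using J.add_mem (hx i) (hy i)
    · intro hb
      have : b = ∑ i, b i • (Pi.single i 1 : ι → A) := by
        ext j; simp [Finset.sum_apply, Pi.single_apply]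
      rw [this]
      exact Submodule.sum_mem _ fun i _ => Submodule.smul_mem_smul (hb i) trivial
  haveI : IsHausdorff I (ι → A) := ⟨fun x hx => by
    funext i
    apply IsHausdorff.haus' (I := I) (x i)
    intro n
    have := hx n
    rw [SModEq.sub_mem, sub_zero, hcoord] at this
    rw [SModEq.sub_mem, sub_zero, smul_eq_mul, Ideal.mul_top]
    exact this i⟩
  haveI : IsPrecomplete I (ι → A) := ⟨fun f hf => by
    have : ∀ i, ∃ l : A, ∀ n, f n i ≡ l [SMOD (I^n • ⊤ : Submodule A A)] := by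
      intro i
      apply IsPrecomplete.prec' (I := I) (fun n => f n i)
      intro m n hmn
      have := hf hmn
      rw [SModEq.sub_mem, hcoord] at this
      rw [SModEq.sub_mem, smul_eq_mul, Ideal.mul_top]
      exact this i
    choose l hl using this
    refine ⟨l, fun n => ?_⟩
    rw [SModEq.sub_mem, hcoord]
    intro i
    have := hl i n
    rwa [SModEq.sub_mem, smul_eq_mul, Ideal.mul_top] at this⟩
  exact ⟨⟩


lemma exists_section {A : Type u} [CommRing A] (I : Ideal A)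
    (M : ℕ → Type v) [∀ n, AddCommGroup (M n)] [∀ n, Module A (M n)]
    (f : ∀ n, M (n + 1) →ₗ[A] M n)
    (hker : ∀ n, LinearMap.ker (f n) = I ^ (n + 1) • (⊤ : Submodule A (M (n + 1))))
    (L : Type v) [AddCommGroup L] [Module A L] (π : ∀ n, L →ₗ[A] M n)
    (hπ : ∀ n, f n ∘ₗ π (n + 1) = π n)
    (hinj : ∀ x : L, (∀ n, π n x = 0) → x = 0)
    (hsurj : ∀ n, Function.Surjective (π n))
    (hkerπ : ∀ n, LinearMap.ker (π n) = I ^ (n + 1) • (⊤ : Submodule A L))
    (hproj : ∀ n, ∃ (m : ℕ) (i : M n →ₗ[A] (Fin m → A ⧸ I ^ (n + 1)))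
      (r : (Fin m → A ⧸ I ^ (n + 1)) →ₗ[A] M n), r ∘ₗ i = LinearMap.id)
    (P : Type u) [AddCommGroup P] [Module A P] [IsAdicComplete I P]
    (G : P →ₗ[A] L) (hG : Function.Surjective G) :
    ∃ σ : L →ₗ[A] P, G ∘ₗ σ = LinearMap.id := by
  classical
  have hπ' : ∀ n z, f n (π (n+1) z) = π n z := fun n z => by rw [← hπ n]; rfl
  have hGle : ∀ n, I ^ (n+1) • (⊤ : Submodule A P) ≤ LinearMap.ker (π n ∘ₗ G) := by
    intro n x hx
    rw [LinearMap.mem_ker, LinearMap.comp_apply, ← LinearMap.mem_ker, hkerπ n]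
    have := Submodule.mem_map_of_mem (f := G) hx
    rw [Submodule.map_smul''] at this
    exact Submodule.smul_mono le_rfl le_top this
  let Gn : ∀ n, (P ⧸ (I ^ (n+1) • ⊤ : Submodule A P)) →ₗ[A] M n := fun n =>
    (I ^ (n+1) • ⊤ : Submodule A P).liftQ (π n ∘ₗ G) (hGle n)
  have hGn_mk : ∀ n c, Gn n (Submodule.Quotient.mk c) = π n (G c) := fun n c => rfl
  let pn : ∀ n, (P ⧸ (I ^ (n+1+1) • ⊤ : Submodule A P)) →ₗ[A]
      (P ⧸ (I ^ (n+1) • ⊤ : Submodule A P)) :=
    fun n => Submodule.factorPow I P (Nat.le_succ (n+1))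
  have hpn_mk : ∀ n c, pn n (Submodule.Quotient.mk c) = Submodule.Quotient.mk c :=
    fun n c => rfl
  have hPn_kill : ∀ n, I ^ (n+1) • (⊤ : Submodule A (P ⧸ (I ^ (n+1) • ⊤ : Submodule A P))) = ⊥ := by
    intro n
    rw [← Submodule.range_mkQ (I ^ (n+1) • ⊤ : Submodule A P), LinearMap.range_eq_map,
      ← Submodule.map_smul'', Submodule.mkQ_map_self]
  have hGn_surj : ∀ n, Function.Surjective (Gn n) := by
    intro n y
    obtain ⟨x, rfl⟩ := hsurj n y
    obtain ⟨c, rfl⟩ := hG x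
    exact ⟨Submodule.Quotient.mk c, rfl⟩
  have hfG : ∀ n c, f n (Gn (n+1) c) = Gn n (pn n c) := by
    intro n c
    induction c using Submodule.Quotient.induction_on with
    | H c => rw [hGn_mk, hpn_mk, hGn_mk, hπ']
  have base : ∃ σ : L →ₗ[A] (P ⧸ (I ^ (0+1) • ⊤ : Submodule A P)), Gn 0 ∘ₗ σ = π 0 := by
    obtain ⟨m, i, ρ, hρ⟩ := hproj 0
    exact liftL (I^(0+1)) (π 0) (hsurj 0) (hkerπ 0) m i ρ hρ (Gn 0) (hGn_surj 0) (hPn_kill 0) (π 0)
  have step : ∀ n (σ : {σ : L →ₗ[A] (P ⧸ (I ^ (n+1) • ⊤ : Submodule A P)) // Gn n ∘ₗ σ = π n}),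
      ∃ σ' : {σ' : L →ₗ[A] (P ⧸ (I ^ (n+1+1) • ⊤ : Submodule A P)) //
        Gn (n+1) ∘ₗ σ' = π (n+1)}, pn n ∘ₗ σ'.1 = σ.1 := by
    rintro n ⟨σ, hσ⟩
    let W : Submodule A (M (n+1) × (P ⧸ (I ^ (n+1) • ⊤ : Submodule A P))) :=
      LinearMap.ker (f n ∘ₗ LinearMap.fst A _ _ - Gn n ∘ₗ LinearMap.snd A _ _)
    have hW : ∀ y c, (y, c) ∈ W ↔ f n y = Gn n c := by
      intro y c
      simp only [W, LinearMap.mem_ker, LinearMap.sub_apply, LinearMap.comp_apply,
        LinearMap.fst_apply, LinearMap.snd_apply, sub_eq_zero]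
    have hΦ : ∀ c, (Gn (n+1)).prod (pn n) c ∈ W := by
      intro c
      show (Gn (n+1) c, pn n c) ∈ W
      rw [hW]
      exact hfG n c
    let Φ := LinearMap.codRestrict W ((Gn (n+1)).prod (pn n)) hΦ
    have hh : ∀ x, (π (n+1)).prod σ x ∈ W := by
      intro x
      show (π (n+1) x, σ x) ∈ W
      rw [hW, hπ', ← hσ]
      rfl
    let h := LinearMap.codRestrict W ((π (n+1)).prod σ) hh
    have hΦsurj : Function.Surjective Φ := by
      rintro ⟨⟨y, c⟩, hyc⟩
      rw [hW] at hyc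
      induction c using Submodule.Quotient.induction_on with
      | H c =>
        rw [hGn_mk] at hyc
        have hd : π (n+1) (G c) - y ∈ I ^ (n+1) • (⊤ : Submodule A (M (n+1))) := by
          rw [← hker n, LinearMap.mem_ker, map_sub, hπ', hyc, sub_self]
        have h2 : I ^ (n+1) • (⊤ : Submodule A (M (n+1))) =
            (I ^ (n+1) • (⊤ : Submodule A P)).map (π (n+1) ∘ₗ G) := by
          rw [Submodule.map_smul'', Submodule.map_top, LinearMap.range_eq_top.mpr]
          exact (hsurj (n+1)).comp hG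
        rw [h2] at hd
        obtain ⟨c', hc', hc'd⟩ := hd
        refine ⟨Submodule.Quotient.mk (c - c'), ?_⟩
        apply Subtype.ext
        show ((Gn (n+1)) (Submodule.Quotient.mk (c - c')), pn n (Submodule.Quotient.mk (c - c')))
          = (y, Submodule.Quotient.mk c)
        rw [hGn_mk, hpn_mk]
        refine Prod.ext ?_ ?_
        · show π (n+1) (G (c - c')) = y
          rw [map_sub, map_sub]
          rw [LinearMap.comp_apply] at hc'd
          rw [hc'd]; abel
        · show (Submodule.Quotient.mk (c - c') : P ⧸ (I ^ (n+1) • ⊤ : Submodule A P)) =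
            Submodule.Quotient.mk c
          rw [Submodule.Quotient.mk_sub, sub_eq_self, Submodule.Quotient.mk_eq_zero]
          exact hc'
    obtain ⟨m, i, ρ, hρ⟩ := hproj (n+1)
    obtain ⟨σ', hσ'⟩ := liftL (I^(n+1+1)) (π (n+1)) (hsurj (n+1)) (hkerπ (n+1)) m i ρ hρ Φ hΦsurj
      (hPn_kill (n+1)) h
    have hσ'x : ∀ x, Gn (n+1) (σ' x) = π (n+1) x ∧ pn n (σ' x) = σ x := by
      intro x
      have := congrArg (fun (w : W) => w.1) (LinearMap.congr_fun hσ' x)
      exact ⟨congrArg Prod.fst this, congrArg Prod.snd this⟩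
    exact ⟨⟨σ', LinearMap.ext fun x => (hσ'x x).1⟩, LinearMap.ext fun x => (hσ'x x).2⟩
  choose next hnext using step
  obtain ⟨σ0, hσ0⟩ := base
  let seq : ∀ n, {σ : L →ₗ[A] (P ⧸ (I ^ (n+1) • ⊤ : Submodule A P)) // Gn n ∘ₗ σ = π n} :=
    fun n => Nat.rec ⟨σ0, hσ0⟩ (fun n σ => next n σ) n
  have hseq : ∀ n, pn n ∘ₗ (seq (n+1)).1 = (seq n).1 := fun n => hnext n (seq n)
  have ha : StrictMono (fun n : ℕ => n + 1) := fun a b hab => Nat.succ_lt_succ hab
  let σ : L →ₗ[A] P := IsAdicComplete.StrictMono.lift I ha (fun n => (seq n).1) (fun {m} => hseq m)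
  have hσ : ∀ n x, (Submodule.Quotient.mk (σ x) : P ⧸ (I ^ (n+1) • ⊤ : Submodule A P)) =
      (seq n).1 x := fun n x =>
    IsAdicComplete.StrictMono.mk_lift I ha (fun n => (seq n).1) (fun {m} => hseq m) x
  refine ⟨σ, LinearMap.ext fun x => ?_⟩
  rw [LinearMap.comp_apply, LinearMap.id_apply, ← sub_eq_zero]
  apply hinj
  intro n
  rw [map_sub, sub_eq_zero, ← hGn_mk, hσ n x]
  exact LinearMap.congr_fun (seq n).2 x

end Groth.Agent.H4.AdicProj
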