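import Mathlib
import Groth.Prelude
import Groth.Agent.Lib.Helper5.SV.DivDiff
import Groth.Agent.Lib.Helper5.SV.Canonical
import Groth.Agent.Lib.Helper5.SV.Invariance
import Groth.Agent.Lib.Helper7.SF1
import Groth.Agent.Lib.Helper5.FunFld.Fibre
import Groth.Agent.Lib.Helper5.FunFld.MapDiv
import Groth.Agent.Lib.Helper5.FunFld.Degree
import Groth.Agent.Lib.Helper5.FunFld.Plane4

set_option autoImplicit false

namespace Groth.Agent.H4.AdjCoord

open FunFld MvPolynomial

section alg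

/-- chain rule for a derivation and a polynomial in three variables -/
theorem deriv_aeval3 {k L : Type*} [CommRing k] [CommRing L] [Algebra k L]
    (d : Derivation k L L) (v : Fin 3 → L) (p : MvPolynomial (Fin 3) k) :
    d (aeval v p) = aeval v (pderiv 0 p) * d (v 0) + aeval v (pderiv 1 p) * d (v 1) +
      aeval v (pderiv 2 p) * d (v 2) := by
  induction p using MvPolynomial.induction_on with
  | C a => simp
  | add p q hp hq => simp only [map_add, hp, hq]; ring
  | mul_X p j hp =>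
    rw [map_mul, aeval_X, Derivation.leibniz, hp]
    simp only [pderiv_mul, map_add, map_mul, aeval_X, smul_eq_mul]
    fin_cases j <;> simp [pderiv_X, Pi.single_apply] <;> ring

theorem key_identity {L : Type*} [CommRing L]
    (α00 α01 α02 α10 α11 α12 α20 α21 α22 b0 b1 b2 c0 c1 c2 r0 r1 r2 : L)
    (hE : (α00*b0 + α01*b1 + α02*b2) * r0 + (α10*b0 + α11*b1 + α12*b2) * r1 +
      (α20*b0 + α21*b1 + α22*b2) * r2 = 0)
    (hDr : r0 * (α00*c0 + α01*c1 + α02*c2) + r1 * (α10*c0 + α11*c1 + α12*c2) +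
      r2 * (α20*c0 + α21*c1 + α22*c2) = 0) :
    ((α00*b0 + α01*b1 + α02*b2) * (α10*c0 + α11*c1 + α12*c2) -
        (α10*b0 + α11*b1 + α12*b2) * (α00*c0 + α01*c1 + α02*c2)) *
      (α02 * r0 + α12 * r1 + α22 * r2) =
    (α00 * (α11 * α22 - α12 * α21) - α01 * (α10 * α22 - α12 * α20) +
      α02 * (α10 * α21 - α11 * α20)) * (b0 * c1 - b1 * c0) * r2 := by
  linear_combination (α02 * (α10*c0 + α11*c1 + α12*c2) - α12 * (α00*c0 + α01*c1 + α02*c2)) * hE +
    (-α02 * (α10*b0 + α11*b1 + α12*b2) + α12 * (α00*b0 + α01*b1 + α02*b2)) * hDr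

variable {k : Type*} [Field k]

theorem pderiv_two_subst (A : Matrix (Fin 3) (Fin 3) k) (F : MvPolynomial (Fin 3) k) :
    pderiv 2 (aeval (fun i : Fin 3 => ∑ j, C (A i j) * X j) F) =
      aeval (fun i : Fin 3 => ∑ j, C (A i j) * X j) (pderiv 0 F) * C (A 0 2) +
      aeval (fun i : Fin 3 => ∑ j, C (A i j) * X j) (pderiv 1 F) * C (A 1 2) +
      aeval (fun i : Fin 3 => ∑ j, C (A i j) * X j) (pderiv 2 F) * C (A 2 2) := by
  have h := deriv_aeval3 (pderiv (2 : Fin 3) : Derivation k (MvPolynomial (Fin 3) k) _)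
    (fun i : Fin 3 => ∑ j, C (A i j) * X j) F
  rw [h]
  have e : ∀ i : Fin 3, pderiv (2 : Fin 3) (∑ j, C (A i j) * (X j : MvPolynomial (Fin 3) k)) =
      C (A i 2) := by
    intro i
    simp [Fin.sum_univ_three, pderiv_C_mul, pderiv_X, Pi.single_apply]
  simp only [e]

end alg

section core

variable {k K : Type*} [Field k] [Field K] [Algebra k K]

theorem core_identity (d : Derivation k K K) (F : MvPolynomial (Fin 3) k) (e : ℕ)
    (hF : F.IsHomogeneous e) (he1 : 1 ≤ e) (x y : K)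
    (hFV : aeval ![(1 : K), x, y] F = 0) (A : Matrix (Fin 3) (Fin 3) k)
    (u : Fin 3 → K) (hu : ∀ i, ∑ j, algebraMap k K (A i j) * u j = ![(1 : K), x, y] i)
    (hu0 : u 0 ≠ 0) :
    d x * aeval ![(1 : K), u 1 / u 0, u 2 / u 0]
        (pderiv 2 (aeval (fun i : Fin 3 => ∑ j, C (A i j) * X j) F)) * u 0 ^ e =
      algebraMap k K A.det * u 0 ^ 3 * d (u 1 / u 0) * aeval ![(1 : K), x, y] (pderiv 2 F) := by
  set V : Fin 3 → K := ![(1 : K), x, y] with hV
  set V' : Fin 3 → K := ![(1 : K), u 1 / u 0, u 2 / u 0] with hV'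
  have hV'eq : V' = fun j => u j / u 0 := by
    funext j; fin_cases j
    · simp [hV', div_self hu0]
    · simp [hV']
    · simp [hV']
  set r : Fin 3 → K := fun i => aeval V (pderiv i F) with hr
  have hE : V 0 * r 0 + V 1 * r 1 + V 2 * r 2 = 0 := by
    have h := congrArg (aeval V) hF.sum_X_mul_pderiv
    rw [map_sum, Fin.sum_univ_three] at h
    simp only [map_mul, aeval_X, map_nsmul, hFV, smul_zero] at h
    exact h
  have hDr : r 0 * d (V 0) + r 1 * d (V 1) + r 2 * d (V 2) = 0 := by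
    have h := deriv_aeval3 d V F
    rw [hFV, map_zero] at h
    exact h.symm
  have hV0 : ∀ i, V i = algebraMap k K (A i 0) * u 0 + algebraMap k K (A i 1) * u 1 +
      algebraMap k K (A i 2) * u 2 := by
    intro i
    rw [← hu i, Fin.sum_univ_three]
  have hdV : ∀ i, d (V i) = algebraMap k K (A i 0) * d (u 0) + algebraMap k K (A i 1) * d (u 1) +
      algebraMap k K (A i 2) * d (u 2) := by
    intro i
    rw [hV0 i]
    simp only [map_add, Derivation.leibniz, Derivation.map_algebraMap, smul_zero, add_zero,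
      smul_eq_mul, mul_zero]
  have hw2 : (algebraMap k K (A 0 0) * u 0 + algebraMap k K (A 0 1) * u 1 +
        algebraMap k K (A 0 2) * u 2) *
      (algebraMap k K (A 1 0) * d (u 0) + algebraMap k K (A 1 1) * d (u 1) +
        algebraMap k K (A 1 2) * d (u 2)) -
      (algebraMap k K (A 1 0) * u 0 + algebraMap k K (A 1 1) * u 1 +
        algebraMap k K (A 1 2) * u 2) *
      (algebraMap k K (A 0 0) * d (u 0) + algebraMap k K (A 0 1) * d (u 1) +
        algebraMap k K (A 0 2) * d (u 2)) = d x := by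
    rw [← hV0 0, ← hV0 1, ← hdV 0, ← hdV 1]
    have e0 : V 0 = 1 := rfl
    have e1 : V 1 = x := rfl
    rw [e0, e1, Derivation.map_one_eq_zero]; ring
  rw [hV0 0, hV0 1, hV0 2] at hE
  rw [hdV 0, hdV 1, hdV 2] at hDr
  have hkey := key_identity (algebraMap k K (A 0 0)) (algebraMap k K (A 0 1))
    (algebraMap k K (A 0 2)) (algebraMap k K (A 1 0)) (algebraMap k K (A 1 1))
    (algebraMap k K (A 1 2)) (algebraMap k K (A 2 0)) (algebraMap k K (A 2 1))
    (algebraMap k K (A 2 2)) (u 0) (u 1) (u 2) (d (u 0)) (d (u 1)) (d (u 2)) (r 0) (r 1) (r 2)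
    hE hDr
  rw [hw2] at hkey
  -- K2
  have hcomp : ∀ q : MvPolynomial (Fin 3) k, q.IsHomogeneous (e - 1) →
      aeval V' (aeval (fun i : Fin 3 => ∑ j, C (A i j) * X j) q) =
        aeval V q / u 0 ^ (e - 1) := by
    intro q hq
    rw [comp_aeval_apply]
    have e1 : (fun i : Fin 3 => aeval V' (∑ j, C (A i j) * (X j : MvPolynomial (Fin 3) k))) =
        fun i => V i / u 0 := by
      funext i
      simp only [map_sum, map_mul, aeval_C, aeval_X]
      rw [hV'eq, ← hu i, Finset.sum_div]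
      refine Finset.sum_congr rfl (fun j _ => ?_)
      ring
    rw [e1]
    exact aeval_div_of_isHomogeneous hq V (u 0)
  have hpow0 : u 0 ^ (e - 1) ≠ 0 := pow_ne_zero _ hu0
  have hK2 : aeval V' (pderiv 2 (aeval (fun i : Fin 3 => ∑ j, C (A i j) * X j) F)) *
      u 0 ^ (e - 1) = algebraMap k K (A 0 2) * r 0 + algebraMap k K (A 1 2) * r 1 +
        algebraMap k K (A 2 2) * r 2 := by
    rw [pderiv_two_subst]
    simp only [map_add, map_mul, aeval_C]
    rw [hcomp _ hF.pderiv, hcomp _ hF.pderiv, hcomp _ hF.pderiv]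
    field_simp
    ring
  have hdiv : d (u 1 / u 0) * u 0 ^ 2 = u 0 * d (u 1) - u 1 * d (u 0) := by
    rw [Derivation.leibniz_div]
    simp only [smul_eq_mul]
    field_simp
  have hdet : algebraMap k K A.det =
      algebraMap k K (A 0 0) * (algebraMap k K (A 1 1) * algebraMap k K (A 2 2) -
        algebraMap k K (A 1 2) * algebraMap k K (A 2 1)) -
      algebraMap k K (A 0 1) * (algebraMap k K (A 1 0) * algebraMap k K (A 2 2) -
        algebraMap k K (A 1 2) * algebraMap k K (A 2 0)) +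
      algebraMap k K (A 0 2) * (algebraMap k K (A 1 0) * algebraMap k K (A 2 1) -
        algebraMap k K (A 1 1) * algebraMap k K (A 2 0)) := by
    rw [Matrix.det_fin_three]
    simp only [map_add, map_sub, map_mul]
    ring
  have hpow : u 0 ^ e = u 0 ^ (e - 1) * u 0 := by
    rw [← pow_succ, Nat.sub_add_cancel he1]
  rw [hpow, hdet]
  linear_combination (d x * u 0) * hK2 + (u 0) * hkey -
    ((algebraMap k K (A 0 0) * (algebraMap k K (A 1 1) * algebraMap k K (A 2 2) -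
        algebraMap k K (A 1 2) * algebraMap k K (A 2 1)) -
      algebraMap k K (A 0 1) * (algebraMap k K (A 1 0) * algebraMap k K (A 2 2) -
        algebraMap k K (A 1 2) * algebraMap k K (A 2 0)) +
      algebraMap k K (A 0 2) * (algebraMap k K (A 1 0) * algebraMap k K (A 2 1) -
        algebraMap k K (A 1 1) * algebraMap k K (A 2 0))) * r 2 * u 0) * hdiv

end core

section divs

open WithZero FunFld.SV LocRes

variable {k K : Type*} [Field k] [Field K] [Algebra k K]

theorem v_lin_le (P : Place k K) (c : Fin 3 → k) (w : Fin 3 → K)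
    (g : WithZero (Multiplicative ℤ)) (h : ∀ l, P.1 (w l) ≤ g) :
    P.1 (∑ l, algebraMap k K (c l) * w l) ≤ g := by
  apply Valuation.map_sum_le
  intro l _
  rw [map_mul]
  calc P.1 (algebraMap k K (c l)) * P.1 (w l) ≤ 1 * g := mul_le_mul' (P.2.1 _) (h l)
    _ = g := one_mul _

theorem inv_relation (A : Matrix (Fin 3) (Fin 3) k) (hA : A.det ≠ 0) (u V : Fin 3 → K)
    (hu : ∀ i, ∑ j, algebraMap k K (A i j) * u j = V i) (i : Fin 3) :
    u i = ∑ l, algebraMap k K (A⁻¹ i l) * V l := by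
  have h1 : ∀ l, V l = ∑ j, algebraMap k K (A l j) * u j := fun l => (hu l).symm
  simp_rw [h1, Finset.mul_sum]
  rw [Finset.sum_comm]
  have h2 : ∀ j, ∑ l, algebraMap k K (A⁻¹ i l) * (algebraMap k K (A l j) * u j) =
      algebraMap k K ((A⁻¹ * A) i j) * u j := by
    intro j
    rw [Matrix.mul_apply, map_sum, Finset.sum_mul]
    refine Finset.sum_congr rfl (fun l _ => ?_)
    rw [map_mul]; ring
  simp_rw [h2, Matrix.nonsing_inv_mul A (isUnit_iff_ne_zero.2 hA)]
  have h3 : ∀ j, algebraMap k K ((1 : Matrix (Fin 3) (Fin 3) k) i j) * u j =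
      if i = j then u j else 0 := by
    intro j; rw [Matrix.one_apply]; split_ifs <;> simp
  simp_rw [h3, Finset.sum_ite_eq, Finset.mem_univ, if_true]

theorem mapDiv_coord (hK : IsFunctionField k K) (A : Matrix (Fin 3) (Fin 3) k) (hA : A.det ≠ 0)
    (x y : K) (u : Fin 3 → K) (hu : ∀ i, ∑ j, algebraMap k K (A i j) * u j = ![(1 : K), x, y] i)
    (hu0 : u 0 ≠ 0) (P : Place k K) :
    mapDiv k ![(1 : K), u 1 / u 0, u 2 / u 0] P = mapDiv k ![(1 : K), x, y] P + P.ord (u 0) := by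
  set V : Fin 3 → K := ![(1 : K), x, y] with hV
  set V' : Fin 3 → K := ![(1 : K), u 1 / u 0, u 2 / u 0] with hV'
  have hV'eq : ∀ j, V' j * u 0 = u j := by
    intro j; fin_cases j
    · simp [hV']
    · simp [hV', div_mul_cancel₀ _ hu0]
    · simp [hV', div_mul_cancel₀ _ hu0]
  obtain ⟨j, ⟨hj0, hjle⟩, hjv⟩ := exists_isLeast_of_one hK V (j0 := 0) rfl P
  obtain ⟨j', ⟨hj0', hjle'⟩, hjv'⟩ := exists_isLeast_of_one hK V' (j0 := 0) rfl P
  have hle1 : P.1 (V j) ≤ P.1 (V' j') * P.1 (u 0) := by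
    rw [← hu j]
    refine v_lin_le P (fun l => A j l) u _ (fun l => ?_)
    rw [← hV'eq l, map_mul]
    exact mul_le_mul' (hjle' l) le_rfl
  have hle2 : P.1 (V' j') * P.1 (u 0) ≤ P.1 (V j) := by
    rw [← map_mul, hV'eq j', inv_relation A hA u V hu j']
    exact v_lin_le P (fun l => A⁻¹ j' l) V _ hjle
  have heq := le_antisymm hle1 hle2
  rw [hjv, hjv', P.v_eq_exp_neg_ord hu0, ← WithZero.exp_add, WithZero.exp_inj] at heq
  linarith

theorem mapDiv_coord_deg (hK : IsFunctionField k K) (A : Matrix (Fin 3) (Fin 3) k)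
    (hA : A.det ≠ 0)
    (x y : K) (u : Fin 3 → K) (hu : ∀ i, ∑ j, algebraMap k K (A i j) * u j = ![(1 : K), x, y] i)
    (hu0 : u 0 ≠ 0) :
    (mapDiv k ![(1 : K), u 1 / u 0, u 2 / u 0]).deg = (mapDiv k ![(1 : K), x, y]).deg := by
  have h : mapDiv k ![(1 : K), u 1 / u 0, u 2 / u 0] =
      mapDiv k ![(1 : K), x, y] + div k (u 0) := by
    ext P
    rw [Finsupp.add_apply, div_apply hK, mapDiv_coord hK A hA x y u hu hu0 P]
  rw [h, Divisor.deg_add, deg_div hK, add_zero]

theorem kaehler_D_eq [PerfectField k] (hK : IsFunctionField k K) {t : K}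
    {Ht : K →ₐ[k] PowerSeries K} (hHt : IsHasseFamily t Ht) (z : K) :
    KaehlerDifferential.D k K z = (hasseD Ht 1 z) • KaehlerDifferential.D k K t := by
  let δ₁ : Derivation k K (Ω[K⁄k]) := KaehlerDifferential.D k K
  let δ₂ : Derivation k K (Ω[K⁄k]) :=
    (LinearMap.toSpanSingleton K (Ω[K⁄k]) (KaehlerDifferential.D k K t)).compDer (hasseDer hHt)
  have h1 : ∀ z, δ₁ z = KaehlerDifferential.D k K z := fun z => rfl
  have h2 : ∀ z, δ₂ z = hasseD Ht 1 z • KaehlerDifferential.D k K t := fun z => rfl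
  have h0 : (δ₁ - δ₂) t = 0 := by
    rw [Derivation.sub_apply, h1, h2, hasseD_one_self hHt, one_smul, sub_self]
  have h3 := derivation_eq_zero_of_isHasseFamily hK hHt (δ₁ - δ₂) h0
  have h4 : (δ₁ - δ₂) z = 0 := by rw [h3]; rfl
  rw [Derivation.sub_apply, h1, h2, sub_eq_zero] at h4
  exact h4

theorem one_le_of_pderiv_ne (f : MvPolynomial (Fin 3) k) (e : ℕ) (hf : f.IsHomogeneous e)
    (v : Fin 3 → K) (hfy : aeval v (pderiv 2 f) ≠ 0) : 1 ≤ e := by
  by_contra h
  have he0 : e = 0 := by omega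
  subst he0
  apply hfy
  have h1 : f.totalDegree = 0 := (totalDegree_zero_iff_isHomogeneous (Fin 3)).2 hf
  rw [totalDegree_eq_zero_iff_eq_C] at h1
  rw [h1, pderiv_C, map_zero]

end divs

section final

open WithZero FunFld.SV LocRes

theorem main (k K : Type*) [Field k] [IsAlgClosed k] [Field K] [Algebra k K]
    (hK : FunFld.IsFunctionField k K) (f : MvPolynomial (Fin 3) k) (e : ℕ) (hf : f.IsHomogeneous e)
    (x y : K) (hfxy : MvPolynomial.aeval ![(1 : K), x, y] f = 0)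
    (hdx : KaehlerDifferential.D k K x ≠ 0)
    (he : (FunFld.mapDiv k ![(1 : K), x, y]).deg = e)
    (A : Matrix (Fin 3) (Fin 3) k) (hA : A.det ≠ 0)
    (u : Fin 3 → K) (hu : ∀ i, ∑ j, algebraMap k K (A i j) * u j = ![(1 : K), x, y] i)
    (hu0 : u 0 ≠ 0)
    (hfy : (MvPolynomial.aeval ![(1 : K), x, y] (MvPolynomial.pderiv 2 f)) ≠ 0)
    (hfy' : (MvPolynomial.aeval ![(1 : K), u 1 / u 0, u 2 / u 0] (MvPolynomial.pderiv 2 (MvPolynomial.aeval (fun i : Fin 3 => ∑ j, MvPolynomial.C (A i j) * MvPolynomial.X j) f))) ≠ 0)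
    (Φ : FunFld.Place k K → (K →ₐ[k] LaurentSeries k))
    (hΦ : ∀ P : FunFld.Place k K, LocRes.IsExpansionAt P.1 (Φ P)) :
    ((FunFld.mapDiv k ![(1 : K), x, y]).deg - 3) • FunFld.mapDiv k ![(1 : K), x, y] -
        FunFld.divDiff Φ (MvPolynomial.aeval ![(1 : K), x, y] (MvPolynomial.pderiv 2 f))⁻¹ x =
      ((FunFld.mapDiv k ![(1 : K), u 1 / u 0, u 2 / u 0]).deg - 3) •
          FunFld.mapDiv k ![(1 : K), u 1 / u 0, u 2 / u 0] -
        FunFld.divDiff Φ (MvPolynomial.aeval ![(1 : K), u 1 / u 0, u 2 / u 0] (MvPolynomial.pderiv 2 (MvPolynomial.aeval (fun i : Fin 3 => ∑ j, MvPolynomial.C (A i j) * MvPolynomial.X j) f)))⁻¹ (u 1 / u 0) := by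
  obtain ⟨s, Hs, hHs⟩ := Groth.Agent.H7.SF.exists_isHasseFamily hK
  have he1 : 1 ≤ e := one_le_of_pderiv_ne f e hf _ hfy
  rw [mapDiv_coord_deg hK A hA x y u hu hu0, he]
  ext P
  obtain ⟨t, Ht, ht, hHt⟩ := exists_param_hasseFamily hHs P
  rw [Finsupp.sub_apply, Finsupp.sub_apply, Finsupp.smul_apply, Finsupp.smul_apply,
    divDiff_apply_eq_ord hK hHs hΦ _ _ ht hHt, divDiff_apply_eq_ord hK hHs hΦ _ _ ht hHt,
    mapDiv_coord hK A hA x y u hu hu0 P]
  set a := MvPolynomial.aeval ![(1 : K), x, y] (MvPolynomial.pderiv 2 f) with ha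
  set a' := MvPolynomial.aeval ![(1 : K), u 1 / u 0, u 2 / u 0] (MvPolynomial.pderiv 2
    (MvPolynomial.aeval (fun i : Fin 3 => ∑ j, MvPolynomial.C (A i j) * MvPolynomial.X j) f))
    with ha'
  have hcore := core_identity (hasseDer hHt) f e hf he1 x y hfxy A u hu hu0
  rw [hasseDer_apply, hasseDer_apply] at hcore
  have hdx0 : hasseD Ht 1 x ≠ 0 := by
    intro h0
    apply hdx
    rw [kaehler_D_eq hK hHt x, h0, zero_smul]
  have hc : algebraMap k K A.det ≠ 0 := by
    rw [Ne, map_eq_zero_iff _ (algebraMap k K).injective]; exact hA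
  have hu3 : u 0 ^ 3 ≠ 0 := pow_ne_zero _ hu0
  have hue : u 0 ^ e ≠ 0 := pow_ne_zero _ hu0
  have hL : hasseD Ht 1 x * a' * u 0 ^ e ≠ 0 := mul_ne_zero (mul_ne_zero hdx0 hfy') hue
  have hdx0' : hasseD Ht 1 (u 1 / u 0) ≠ 0 := by
    intro h0
    rw [hcore, h0] at hL
    simp at hL
  have h1 : P.ord (hasseD Ht 1 x * a' * u 0 ^ e) =
      P.ord (hasseD Ht 1 x) + P.ord a' + e * P.ord (u 0) := by
    rw [P.ord_mul (mul_ne_zero hdx0 hfy') hue, P.ord_mul hdx0 hfy', P.ord_pow]
  have h2 : P.ord (algebraMap k K A.det * u 0 ^ 3 * hasseD Ht 1 (u 1 / u 0) * a) =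
      3 * P.ord (u 0) + P.ord (hasseD Ht 1 (u 1 / u 0)) + P.ord a := by
    rw [P.ord_mul (mul_ne_zero (mul_ne_zero hc hu3) hdx0') hfy,
      P.ord_mul (mul_ne_zero hc hu3) hdx0', P.ord_mul hc hu3, P.ord_pow, P.ord_algebraMap]
    push_cast; ring
  rw [hcore, h2] at h1
  rw [P.ord_mul (inv_ne_zero hfy) hdx0, P.ord_mul (inv_ne_zero hfy') hdx0', P.ord_inv, P.ord_inv]
  simp only [smul_eq_mul]
  linarith [h1]

end final

end Groth.Agent.H4.AdjCoord
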