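import Mathlib
import Groth.Prelude
import Groth.Agent.H4.AdjCoord
import Groth.Agent.Lib.Helper5.FunFld.Basic

set_option autoImplicit false

namespace Groth.Agent.H4.AdjA

open MvPolynomial

section homog

variable {k : Type*} [Field k]

/-- homogenization of a polynomial in two variables -/
noncomputable def hom (f : MvPolynomial (Fin 2) k) : MvPolynomial (Fin 3) k :=
  ∑ i ∈ Finset.range (f.totalDegree + 1),
    X 0 ^ (f.totalDegree - i) * rename Fin.succ (homogeneousComponent i f)

theorem hom_isHomogeneous (f : MvPolynomial (Fin 2) k) :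
    (hom f).IsHomogeneous f.totalDegree := by
  unfold hom
  apply IsHomogeneous.sum
  intro i hi
  have hi' : i ≤ f.totalDegree := Nat.lt_succ_iff.1 (Finset.mem_range.1 hi)
  have h1 : (X 0 ^ (f.totalDegree - i) : MvPolynomial (Fin 3) k).IsHomogeneous
      (f.totalDegree - i) := by
    have := (isHomogeneous_X k (0 : Fin 3)).pow (f.totalDegree - i)
    rwa [one_mul] at this
  have h2 : (rename Fin.succ (homogeneousComponent i f) :
      MvPolynomial (Fin 3) k).IsHomogeneous i :=
    (homogeneousComponent_isHomogeneous i f).rename_isHomogeneous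
  have h3 := h1.mul h2
  rwa [Nat.sub_add_cancel hi'] at h3

theorem aeval_hom (f : MvPolynomial (Fin 2) k) :
    aeval ![(1 : MvPolynomial (Fin 2) k), X 0, X 1] (hom f) = f := by
  have hcomp : (![(1 : MvPolynomial (Fin 2) k), X 0, X 1] ∘ Fin.succ) = X := by
    funext j; fin_cases j <;> rfl
  unfold hom
  rw [map_sum]
  have : ∀ i, aeval ![(1 : MvPolynomial (Fin 2) k), X 0, X 1]
      (X 0 ^ (f.totalDegree - i) * rename Fin.succ (homogeneousComponent i f)) =
      homogeneousComponent i f := by
    intro i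
    rw [map_mul, map_pow, aeval_X, aeval_rename, hcomp, aeval_X_left, AlgHom.id_apply]
    simp
  simp_rw [this]
  exact sum_homogeneousComponent f

variable {L : Type*} [CommRing L] [Algebra k L]

theorem aeval_cons_eq (a b : L) :
    (fun i => aeval ![a, b] (![(1 : MvPolynomial (Fin 2) k), X 0, X 1] i)) = ![(1 : L), a, b] := by
  funext i; fin_cases i <;> simp

theorem aeval_hom' (a b : L) (f : MvPolynomial (Fin 2) k) :
    aeval ![(1 : L), a, b] (hom f) = aeval ![a, b] f := by
  conv_rhs => rw [← aeval_hom f]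
  rw [comp_aeval_apply, aeval_cons_eq]

theorem aeval_pderiv_hom (a b : L) (f : MvPolynomial (Fin 2) k) :
    aeval ![(1 : L), a, b] (pderiv 2 (hom f)) = aeval ![a, b] (pderiv 1 f) := by
  have h := Groth.Agent.H4.AdjCoord.deriv_aeval3
    (pderiv (1 : Fin 2) : Derivation k (MvPolynomial (Fin 2) k) _)
    ![(1 : MvPolynomial (Fin 2) k), X 0, X 1] (hom f)
  rw [aeval_hom] at h
  have h0 : pderiv (1 : Fin 2) (![(1 : MvPolynomial (Fin 2) k), X 0, X 1] 0) = 0 := by simp
  have h1 : pderiv (1 : Fin 2) (![(1 : MvPolynomial (Fin 2) k), X 0, X 1] 1) = 0 := by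
    simp [pderiv_X, Pi.single_apply]
  have h2 : pderiv (1 : Fin 2) (![(1 : MvPolynomial (Fin 2) k), X 0, X 1] 2) = 1 := by
    simp [pderiv_X, Pi.single_apply]
  rw [h0, h1, h2, mul_zero, mul_zero, zero_add, zero_add, mul_one] at h
  rw [h, comp_aeval_apply, aeval_cons_eq]

end homog

section cong

variable {k K : Type*} [Field k] [Field K] [Algebra k K] {ι : Type*}

open FunFld

theorem v_aeval_sub_lt (Q : Place k K) (w : ι → K) (q : ι → k)
    (hw : ∀ i, Q.1 (w i - algebraMap k K (q i)) < 1) (p : MvPolynomial ι k) :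
    Q.1 (aeval w p - algebraMap k K (aeval q p)) < 1 := by
  have hle : ∀ i, Q.1 (w i) ≤ 1 := by
    intro i
    have e : w i = (w i - algebraMap k K (q i)) + algebraMap k K (q i) := by ring
    rw [e]
    exact (Q.1.map_add _ _).trans (max_le (hw i).le (Q.v_algebraMap_le _))
  induction p using MvPolynomial.induction_on with
  | C a => simp
  | add p q' hp hq =>
    have e : aeval w (p + q') - algebraMap k K (aeval q (p + q')) =
        (aeval w p - algebraMap k K (aeval q p)) +
          (aeval w q' - algebraMap k K (aeval q q')) := by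
      simp only [map_add]; ring
    rw [e]
    exact lt_of_le_of_lt (Q.1.map_add _ _) (max_lt hp hq)
  | mul_X p i hp =>
    have e : aeval w (p * X i) - algebraMap k K (aeval q (p * X i)) =
        (aeval w p - algebraMap k K (aeval q p)) * w i +
          algebraMap k K (aeval q p) * (w i - algebraMap k K (q i)) := by
      simp only [map_mul, aeval_X]
      ring
    rw [e]
    refine lt_of_le_of_lt (Q.1.map_add _ _) (max_lt ?_ ?_)
    · rw [map_mul]
      calc Q.1 (aeval w p - algebraMap k K (aeval q p)) * Q.1 (w i)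
          ≤ Q.1 (aeval w p - algebraMap k K (aeval q p)) * 1 :=
            mul_le_mul' le_rfl (hle i)
        _ < 1 := by rw [mul_one]; exact hp
    · rw [map_mul]
      calc Q.1 (algebraMap k K (aeval q p)) * Q.1 (w i - algebraMap k K (q i))
          ≤ 1 * Q.1 (w i - algebraMap k K (q i)) :=
            mul_le_mul' (Q.v_algebraMap_le _) le_rfl
        _ < 1 := by rw [one_mul]; exact hw i

end cong

section gpoly

variable {k K₀ : Type*} [Field k] [Field K₀] [Algebra k K₀]

/-- `F(1, x₀, Y)` as a polynomial in `Y` -/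
noncomputable def gpoly (x₀ : K₀) (F : MvPolynomial (Fin 3) k) : Polynomial K₀ :=
  aeval ![(1 : Polynomial K₀), Polynomial.C x₀, Polynomial.X] F

theorem aeval_gpoly {K : Type*} [Field K] [Algebra k K] [Algebra K₀ K] [IsScalarTower k K₀ K]
    (x₀ : K₀) (y : K) (F : MvPolynomial (Fin 3) k) :
    Polynomial.aeval y (gpoly x₀ F) = aeval ![(1 : K), algebraMap K₀ K x₀, y] F := by
  unfold gpoly
  show ((Polynomial.aeval y).restrictScalars k)
    (aeval ![(1 : Polynomial K₀), Polynomial.C x₀, Polynomial.X] F) = _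
  rw [comp_aeval_apply]
  have e : (fun i => ((Polynomial.aeval y).restrictScalars k)
      (![(1 : Polynomial K₀), Polynomial.C x₀, Polynomial.X] i)) =
      ![(1 : K), algebraMap K₀ K x₀, y] := by
    funext i
    fin_cases i <;> simp
  rw [e]

theorem derivative_gpoly (x₀ : K₀) (F : MvPolynomial (Fin 3) k) :
    Polynomial.derivative (gpoly x₀ F) = gpoly x₀ (pderiv 2 F) := by
  unfold gpoly
  have h := Groth.Agent.H4.AdjCoord.deriv_aeval3
    ((Polynomial.derivative' : Derivation K₀ (Polynomial K₀) (Polynomial K₀)).restrictScalars k)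
    ![(1 : Polynomial K₀), Polynomial.C x₀, Polynomial.X] F
  simp only [Derivation.restrictScalars_apply, Polynomial.derivative'_apply] at h
  rw [h]
  simp

theorem sum_eq_of_mem_support {F : MvPolynomial (Fin 3) k} {e : ℕ} (hF : F.IsHomogeneous e)
    {m : Fin 3 →₀ ℕ} (hm : m ∈ F.support) : m 0 + m 1 + m 2 = e := by
  have : ∑ i, m i = e := by
    rw [← Finsupp.degree_eq_sum]
    by_contra hne
    exact (mem_support_iff.1 hm) (hF.coeff_eq_zero hne)
  rwa [Fin.sum_univ_three] at this

theorem eq_single_of_mem_support {F : MvPolynomial (Fin 3) k} {e : ℕ} (hF : F.IsHomogeneous e)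
    {m : Fin 3 →₀ ℕ} (hm : m ∈ F.support) (h2 : m 2 = e) : m = Finsupp.single 2 e := by
  have := sum_eq_of_mem_support hF hm
  ext i
  fin_cases i
  · simp; omega
  · simp; omega
  · simp; omega

theorem gpoly_eq_sum (x₀ : K₀) (F : MvPolynomial (Fin 3) k) :
    gpoly x₀ F = ∑ m ∈ F.support,
      Polynomial.C (algebraMap k K₀ (coeff m F) * x₀ ^ m 1) * Polynomial.X ^ m 2 := by
  unfold gpoly
  rw [aeval_def, eval₂_eq']
  refine Finset.sum_congr rfl (fun m _ => ?_)
  rw [Fin.prod_univ_three]
  simp only [Matrix.cons_val_zero, Matrix.cons_val_one, Matrix.cons_val_two, one_pow, one_mul,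
    Polynomial.algebraMap_apply, ← Polynomial.C_pow, map_mul, mul_assoc]
  simp

theorem natDegree_gpoly_le (x₀ : K₀) {F : MvPolynomial (Fin 3) k} {e : ℕ}
    (hF : F.IsHomogeneous e) : (gpoly x₀ F).natDegree ≤ e := by
  rw [gpoly_eq_sum]
  apply Polynomial.natDegree_sum_le_of_forall_le
  intro m hm
  refine (Polynomial.natDegree_C_mul_X_pow_le _ _).trans ?_
  have := sum_eq_of_mem_support hF hm
  omega

theorem coeff_gpoly (x₀ : K₀) {F : MvPolynomial (Fin 3) k} {e : ℕ} (hF : F.IsHomogeneous e) :
    (gpoly x₀ F).coeff e = algebraMap k K₀ (coeff (Finsupp.single 2 e) F) := by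
  rw [gpoly_eq_sum, Polynomial.finset_sum_coeff]
  simp_rw [Polynomial.coeff_C_mul_X_pow]
  by_cases hs : Finsupp.single 2 e ∈ F.support
  · rw [Finset.sum_eq_single_of_mem _ hs]
    · simp
    · intro m hm hne
      rw [if_neg]
      intro h2
      exact hne (eq_single_of_mem_support hF hm h2.symm)
  · rw [Finset.sum_eq_zero, notMem_support_iff.1 hs, map_zero]
    intro m hm
    rw [if_neg]
    intro h2
    apply hs
    rw [← eq_single_of_mem_support hF hm h2.symm]
    exact hm

theorem aeval_e2 {F : MvPolynomial (Fin 3) k} {e : ℕ} (hF : F.IsHomogeneous e) :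
    aeval ![(0 : k), 0, 1] F = coeff (Finsupp.single 2 e) F := by
  rw [aeval_def, eval₂_eq']
  simp only [Fin.prod_univ_three, Matrix.cons_val_zero, Matrix.cons_val_one, Matrix.cons_val_two,
    one_pow, mul_one, Algebra.algebraMap_self, RingHom.id_apply]
  by_cases hs : Finsupp.single 2 e ∈ F.support
  · rw [Finset.sum_eq_single_of_mem _ hs]
    · simp
    · intro m hm hne
      have hsum := sum_eq_of_mem_support hF hm
      have h2 : m 2 ≠ e := fun h2 => hne (eq_single_of_mem_support hF hm h2)
      have h01 : m 0 ≠ 0 ∨ m 1 ≠ 0 := by omega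
      rcases h01 with h | h
      · rw [zero_pow h]; simp
      · rw [zero_pow h]; simp
  · rw [Finset.sum_eq_zero, notMem_support_iff.1 hs]
    intro m hm
    have hsum := sum_eq_of_mem_support hF hm
    have h2 : m 2 ≠ e := by
      intro h2
      apply hs
      rw [← eq_single_of_mem_support hF hm h2]
      exact hm
    have h01 : m 0 ≠ 0 ∨ m 1 ≠ 0 := by omega
    rcases h01 with h | h
    · rw [zero_pow h]; simp
    · rw [zero_pow h]; simp

end gpoly

end Groth.Agent.H4.AdjA
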