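import Mathlib
import Groth.Prelude
import Groth.Agent.H4.AdjA
import Groth.Agent.Lib.Helper7.TrDual2
import Groth.Agent.Lib.Helper5.Geom.Uniformizers
import Groth.Agent.Lib.Helper5.FunFld.Plane4
import Groth.Agent.Lib.Helper5.FunFld.Rational
import Groth.Agent.Lib.Helper5.FunFld.Degree
import Groth.Agent.Lib.Helper5.SV.DiffOrd

set_option autoImplicit false

universe u v

namespace Groth.Agent.H4.AdjB

open FunFld WithZero MvPolynomial Groth.Agent.H4.AdjA

section pid

variable {k K : Type*} [Field k] [Field K] [Algebra k K]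

theorem isPrincipalIdealRing_O (P : Place k K) : IsPrincipalIdealRing P.O := by
  classical
  refine ⟨fun I => ?_⟩
  by_cases hI : I = ⊥
  · rw [hI]; exact bot_isPrincipal
  obtain ⟨z, hzI, hz0⟩ := Submodule.exists_mem_ne_zero_of_ne_bot hI
  have hex : ∃ n : ℕ, ∃ z ∈ I, z ≠ 0 ∧ (P.ord (z : K)).toNat = n := ⟨_, z, hzI, hz0, rfl⟩
  obtain ⟨z₀, hz₀I, hz₀0, hz₀n⟩ := Nat.find_spec hex
  have hord : ∀ w : P.O, w ≠ 0 → 0 ≤ P.ord (w : K) := by
    intro w hw
    have hw' : (w : K) ≠ 0 := fun h => hw (Subtype.ext h)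
    exact (P.v_le_one_iff hw').1 (P.mem_O_iff.1 w.2)
  refine ⟨⟨z₀, le_antisymm ?_ ?_⟩⟩
  · intro w hw
    by_cases hw0 : w = 0
    · rw [hw0]; exact zero_mem _
    have h1 : (P.ord (z₀ : K)).toNat ≤ (P.ord (w : K)).toNat := by
      rw [hz₀n]; exact Nat.find_min' hex ⟨w, hw, hw0, rfl⟩
    have h2 : P.ord (z₀ : K) ≤ P.ord (w : K) := by
      have a := hord z₀ hz₀0
      have b := hord w hw0
      omega
    have hz₀K : (z₀ : K) ≠ 0 := fun h => hz₀0 (Subtype.ext h)
    have hwK : (w : K) ≠ 0 := fun h => hw0 (Subtype.ext h)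
    have hq : P.1 ((w : K) / z₀) ≤ 1 := by
      rw [map_div₀, div_le_one₀ (zero_lt_iff.2 (P.v_ne_zero hz₀K)), P.v_eq_exp_neg_ord hwK,
        P.v_eq_exp_neg_ord hz₀K, exp_le_exp]
      omega
    rw [Ideal.submodule_span_eq, Ideal.mem_span_singleton']
    refine ⟨⟨(w : K) / z₀, P.mem_O_iff.2 hq⟩, Subtype.ext ?_⟩
    show (w : K) / z₀ * z₀ = w
    rw [div_mul_cancel₀ _ hz₀K]
  · rw [Ideal.submodule_span_eq, Ideal.span_singleton_le_iff_mem]
    exact hz₀I

end pid

section ext

variable {k : Type u} {K₀ K : Type v} [Field k] [Field K₀] [Field K]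
  [Algebra k K₀] [Algebra K₀ K] [Algebra k K] [IsScalarTower k K₀ K]

theorem hasExtension_of_isOverWith {P : Place k K₀} {Q : Place k K} {e : ℕ}
    (he : IsOverWith Q P e) : P.1.HasExtension Q.1 :=
  ⟨Valuation.isEquiv_iff_val_le_one.2 (fun {z} => by
      rw [Valuation.comap_apply]; exact (he.v_le_one_iff z).symm)⟩

theorem residue_surjective_of_deg_one [IsAlgClosed k] (hK : IsFunctionField k K)
    {P : Place k K₀} {Q : Place k K} [P.1.HasExtension Q.1] :
    Function.Surjective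
      (algebraMap (IsLocalRing.ResidueField P.O) (IsLocalRing.ResidueField Q.O)) := by
  intro r
  obtain ⟨z, rfl⟩ := IsLocalRing.residue_surjective r
  obtain ⟨c, hc⟩ := Q.exists_const_sub_lt (Place.deg_eq_one_of_isAlgClosed hK Q)
    (Q.mem_O_iff.1 z.2)
  refine ⟨IsLocalRing.residue P.O ⟨algebraMap k K₀ c, P.algebraMap_mem_O c⟩, ?_⟩
  rw [Valuation.HasExtension.algebraMap_residue_eq_residue_algebraMap]
  symm
  rw [← sub_eq_zero, ← map_sub, Q.residue_eq_zero_iff]
  have : ((z - algebraMap P.O Q.O ⟨algebraMap k K₀ c, P.algebraMap_mem_O c⟩ : Q.O) : K) =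
      (z : K) - algebraMap k K c := by
    rw [IsScalarTower.algebraMap_apply k K₀ K]
    rfl
  rw [this]
  exact hc

/-- the generator of a rational function field has order one at its zero -/
theorem v_gen_eq (hK₀ : IsFunctionField k K₀) (x₀ : K₀)
    (htop : IntermediateField.adjoin k ({x₀} : Set K₀) = ⊤)
    (P : Place k K₀) (hP : P.1 x₀ < 1) : P.1 x₀ = exp (-1 : ℤ) := by
  classical
  have hnc := notMem_range_of_adjoin_eq_top hK₀ htop
  have hdeg : (zeroDiv (k := k) x₀).deg = 1 := by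
    rw [deg_zeroDiv hK₀ hnc, IntermediateField.finrank_eq_one_iff_eq_top.2 htop]; rfl
  obtain ⟨P', -, hP'⟩ := exists_single_of_nonneg_of_deg_one hK₀ (zeroDiv_nonneg x₀) hdeg
  have hx0 : x₀ ≠ 0 := by rintro rfl; exact hnc ⟨0, map_zero _⟩
  have hord : 0 < P.ord x₀ := (P.v_lt_one_iff hx0).1 hP
  have h1 := zeroDiv_apply hK₀ x₀ P
  rw [hP', max_eq_left hord.le] at h1
  by_cases hPP : P' = P
  · rw [hPP, Finsupp.single_eq_same] at h1
    rw [P.v_eq_exp_neg_ord hx0, ← h1]
  · rw [Finsupp.single_eq_of_ne (Ne.symm hPP)] at h1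
    omega

end ext

section ratnorm

variable {k : Type u} {K₀ : Type v} [Field k] [Field K₀] [Algebra k K₀]

theorem v_aeval_le_one (P : Place k K₀) {x₀ : K₀} (hx : P.1 x₀ ≤ 1) (q : Polynomial k) :
    P.1 (Polynomial.aeval x₀ q) ≤ 1 := by
  induction q using Polynomial.induction_on' with
  | add p q hp hq =>
    rw [map_add]
    exact (P.1.map_add _ _).trans (max_le hp hq)
  | monomial n a =>
    rw [Polynomial.aeval_monomial, map_mul, map_pow]
    calc P.1 (algebraMap k K₀ a) * P.1 x₀ ^ n ≤ 1 * 1 :=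
          mul_le_mul' (P.v_algebraMap_le a) (pow_le_one' hx n)
      _ = 1 := one_mul _

theorem v_aeval_eq_one (P : Place k K₀) {x₀ : K₀} (hx : P.1 x₀ < 1) (q : Polynomial k)
    (hq : q.coeff 0 ≠ 0) : P.1 (Polynomial.aeval x₀ q) = 1 := by
  have e : Polynomial.aeval x₀ q =
      x₀ * Polynomial.aeval x₀ q.divX + algebraMap k K₀ (q.coeff 0) := by
    conv_lhs => rw [← Polynomial.X_mul_divX_add q]
    rw [map_add, map_mul, Polynomial.aeval_X, Polynomial.aeval_C]
  have h1 : P.1 (x₀ * Polynomial.aeval x₀ q.divX) < 1 := by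
    rw [map_mul]
    calc P.1 x₀ * P.1 (Polynomial.aeval x₀ q.divX) ≤ P.1 x₀ * 1 :=
          mul_le_mul' le_rfl (v_aeval_le_one P hx.le _)
      _ < 1 := by rw [mul_one]; exact hx
  have h2 : P.1 (algebraMap k K₀ (q.coeff 0)) = 1 := P.v_algebraMap hq
  rw [e, P.1.map_add_eq_of_lt_right (by rw [h2]; exact h1), h2]

/-- normal form of a rational function which is regular at the zero of the generator -/
theorem exists_ratnorm (x₀ : K₀) (htop : IntermediateField.adjoin k ({x₀} : Set K₀) = ⊤)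
    (P : Place k K₀) (hP : P.1 x₀ < 1) (hx0 : x₀ ≠ 0) (c : K₀) (hc : P.1 c ≤ 1) :
    ∃ s n : Polynomial k, P.1 (Polynomial.aeval x₀ s) = 1 ∧
      c * Polynomial.aeval x₀ s = Polynomial.aeval x₀ n := by
  rcases eq_or_ne c 0 with rfl | hc0
  · exact ⟨1, 0, by simp, by simp⟩
  have hmem : c ∈ IntermediateField.adjoin k ({x₀} : Set K₀) := by rw [htop]; trivial
  obtain ⟨r, s, hrs⟩ := (IntermediateField.mem_adjoin_simple_iff k c).1 hmem
  have hs0 : Polynomial.aeval x₀ s ≠ 0 := by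
    intro h; rw [h, _root_.div_zero] at hrs; exact hc0 hrs
  have hr0 : Polynomial.aeval x₀ r ≠ 0 := by
    intro h; rw [h, _root_.zero_div] at hrs; exact hc0 hrs
  have hsne : s ≠ 0 := by rintro rfl; simp at hs0
  have hrne : r ≠ 0 := by rintro rfl; simp at hr0
  obtain ⟨s₁, hs₁, hs₁d⟩ := Polynomial.exists_eq_pow_rootMultiplicity_mul_and_not_dvd s hsne 0
  obtain ⟨r₁, hr₁, hr₁d⟩ := Polynomial.exists_eq_pow_rootMultiplicity_mul_and_not_dvd r hrne 0
  set n := Polynomial.rootMultiplicity 0 s with hn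
  set m := Polynomial.rootMultiplicity 0 r with hm
  rw [Polynomial.C_0, sub_zero] at hs₁ hr₁ hs₁d hr₁d
  have hs₁c : s₁.coeff 0 ≠ 0 := fun h => hs₁d (Polynomial.X_dvd_iff.2 h)
  have hr₁c : r₁.coeff 0 ≠ 0 := fun h => hr₁d (Polynomial.X_dvd_iff.2 h)
  have hvs := v_aeval_eq_one P hP s₁ hs₁c
  have hvr := v_aeval_eq_one P hP r₁ hr₁c
  have hes : Polynomial.aeval x₀ s = x₀ ^ n * Polynomial.aeval x₀ s₁ := by
    conv_lhs => rw [hs₁]
    rw [map_mul, map_pow, Polynomial.aeval_X]
  have her : Polynomial.aeval x₀ r = x₀ ^ m * Polynomial.aeval x₀ r₁ := by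
    conv_lhs => rw [hr₁]
    rw [map_mul, map_pow, Polynomial.aeval_X]
  have hs₁0 : Polynomial.aeval x₀ s₁ ≠ 0 := by
    intro h; rw [h, map_zero] at hvs; exact zero_ne_one hvs
  -- n ≤ m
  have hnm : n ≤ m := by
    by_contra hlt
    push Not at hlt
    have hval : P.1 c = (P.1 x₀ ^ (n - m))⁻¹ := by
      rw [hrs, hes, her, map_div₀, map_mul, map_mul, hvs, hvr, mul_one, mul_one, map_pow, map_pow]
      have : n = m + (n - m) := by omega
      conv_lhs => rw [this, pow_add]
      have hx0' : P.1 x₀ ^ m ≠ 0 := pow_ne_zero _ (P.v_ne_zero hx0)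
      field_simp
    have hlt1 : P.1 x₀ ^ (n - m) < 1 := pow_lt_one' hP (by omega)
    have hpos : P.1 x₀ ^ (n - m) ≠ 0 := pow_ne_zero _ (P.v_ne_zero hx0)
    rw [hval] at hc
    have : 1 < (P.1 x₀ ^ (n - m))⁻¹ := by
      rw [one_lt_inv₀ (zero_lt_iff.2 hpos)]; exact hlt1
    exact absurd hc (not_le.2 this)
  refine ⟨s₁, Polynomial.X ^ (m - n) * r₁, hvs, ?_⟩
  rw [map_mul, map_pow, Polynomial.aeval_X, hrs, hes, her]
  have hxn : x₀ ^ n ≠ 0 := pow_ne_zero _ hx0
  have : m = n + (m - n) := by omega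
  conv_lhs => rw [this, pow_add]
  field_simp

end ratnorm

section minp

variable {k : Type u} {K₀ K : Type v} [Field k] [Field K₀] [Field K]
  [Algebra k K₀] [Algebra K₀ K] [Algebra k K] [IsScalarTower k K₀ K]

theorem deriv_minpoly_eq [FiniteDimensional K₀ K] (x₀ : K₀) (y : K)
    (hytop : IntermediateField.adjoin K₀ ({y} : Set K) = ⊤)
    (F : MvPolynomial (Fin 3) k) (e : ℕ) (hF : F.IsHomogeneous e)
    (hFxy : aeval ![(1 : K), algebraMap K₀ K x₀, y] F = 0)
    (hlc : coeff (Finsupp.single 2 e) F ≠ 0)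
    (hfin : Module.finrank K₀ K = e) :
    aeval ![(1 : K), algebraMap K₀ K x₀, y] (pderiv 2 F) =
      algebraMap k K (coeff (Finsupp.single 2 e) F) *
        Polynomial.aeval y (Polynomial.derivative (minpoly K₀ y)) := by
  set g := gpoly x₀ F with hgdef
  have hg0 : Polynomial.aeval y g = 0 := by rw [hgdef, aeval_gpoly, hFxy]
  have hyint : IsIntegral K₀ y := Algebra.IsIntegral.isIntegral y
  have hdvd : minpoly K₀ y ∣ g := minpoly.dvd K₀ y hg0
  have hdegm : (minpoly K₀ y).natDegree = e := by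
    rw [← IntermediateField.adjoin.finrank hyint, hytop, IntermediateField.finrank_top', hfin]
  have hdegg : g.natDegree ≤ (minpoly K₀ y).natDegree := by
    rw [hdegm]; exact natDegree_gpoly_le x₀ hF
  have heq := Polynomial.eq_leadingCoeff_mul_of_monic_of_dvd_of_natDegree_le
    (minpoly.monic hyint) hdvd hdegg
  have hcoeff : g.coeff e = algebraMap k K₀ (coeff (Finsupp.single 2 e) F) := coeff_gpoly x₀ hF
  have hce : g.coeff e ≠ 0 := by
    rw [hcoeff]; exact (map_ne_zero _).2 hlc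
  have hgne : g ≠ 0 := by
    intro h; rw [h, Polynomial.coeff_zero] at hce; exact hce rfl
  have hnat : g.natDegree = e := by
    refine le_antisymm (natDegree_gpoly_le x₀ hF) ?_
    rw [← hdegm]; exact Polynomial.natDegree_le_of_dvd hdvd hgne
  have hlead : g.leadingCoeff = algebraMap k K₀ (coeff (Finsupp.single 2 e) F) := by
    rw [Polynomial.leadingCoeff, hnat, hcoeff]
  have hd : Polynomial.derivative g =
      Polynomial.C g.leadingCoeff * Polynomial.derivative (minpoly K₀ y) := by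
    conv_lhs => rw [heq]
    rw [Polynomial.derivative_C_mul]
  rw [← aeval_gpoly x₀ y (pderiv 2 F), ← derivative_gpoly, ← hgdef, hd, map_mul,
    Polynomial.aeval_C, hlead, ← IsScalarTower.algebraMap_apply]

end minp

section clear

variable {k : Type u} {K₀ K : Type v} [Field k] [Field K₀] [Field K]
  [Algebra k K₀] [Algebra K₀ K] [Algebra k K] [IsScalarTower k K₀ K]

theorem aeval_mem_of_mem (S : Subalgebra k K) {x : K} (hx : x ∈ S) (q : Polynomial k) :
    Polynomial.aeval x q ∈ S := by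
  rw [Polynomial.aeval_eq_sum_range]
  exact S.sum_mem (fun i _ => S.smul_mem (S.pow_mem hx i) _)

theorem clearO (P : Place k K₀) [Algebra P.O K] [IsScalarTower P.O K₀ K] (Q : Place k K)
    {eR : ℕ} (he : IsOverWith Q P eR) (x₀ : K₀)
    (htop : IntermediateField.adjoin k ({x₀} : Set K₀) = ⊤) (hP : P.1 x₀ < 1) (hx0 : x₀ ≠ 0)
    (y : K) (S : Subalgebra k K) (hxS : algebraMap K₀ K x₀ ∈ S) (hyS : y ∈ S)
    {a : K} (ha : a ∈ Algebra.adjoin P.O ({y} : Set K)) :
    ∃ s ∈ S, ∃ n ∈ S, Q.1 s = 1 ∧ a * s = n := by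
  induction ha using Algebra.adjoin_induction with
  | mem z hz =>
    rw [Set.mem_singleton_iff] at hz
    subst hz
    exact ⟨1, S.one_mem, z, hyS, map_one _, mul_one _⟩
  | algebraMap c =>
    obtain ⟨s, n, hs, hsn⟩ := exists_ratnorm x₀ htop P hP hx0 (c : K₀) (P.mem_O_iff.1 c.2)
    refine ⟨algebraMap K₀ K (Polynomial.aeval x₀ s), ?_,
      algebraMap K₀ K (Polynomial.aeval x₀ n), ?_, ?_, ?_⟩
    · rw [← Polynomial.aeval_algebraMap_apply]; exact aeval_mem_of_mem S hxS s
    · rw [← Polynomial.aeval_algebraMap_apply]; exact aeval_mem_of_mem S hxS n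
    · rw [he, hs, one_pow]
    · rw [Groth.Agent.H7.IC.algebraMap_O_apply, ← map_mul, hsn]
  | add a b _ _ iha ihb =>
    obtain ⟨s₁, hs₁, n₁, hn₁, hv₁, h₁⟩ := iha
    obtain ⟨s₂, hs₂, n₂, hn₂, hv₂, h₂⟩ := ihb
    refine ⟨s₁ * s₂, S.mul_mem hs₁ hs₂, n₁ * s₂ + n₂ * s₁,
      S.add_mem (S.mul_mem hn₁ hs₂) (S.mul_mem hn₂ hs₁), by rw [map_mul, hv₁, hv₂, one_mul], ?_⟩
    rw [← h₁, ← h₂]; ring
  | mul a b _ _ iha ihb =>
    obtain ⟨s₁, hs₁, n₁, hn₁, hv₁, h₁⟩ := iha
    obtain ⟨s₂, hs₂, n₂, hn₂, hv₂, h₂⟩ := ihb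
    refine ⟨s₁ * s₂, S.mul_mem hs₁ hs₂, n₁ * n₂, S.mul_mem hn₁ hn₂,
      by rw [map_mul, hv₁, hv₂, one_mul], ?_⟩
    rw [← h₁, ← h₂]; ring

end clear

section abs

variable {k : Type u} {K₀ K : Type v} [Field k] [IsAlgClosed k] [Field K₀] [Field K]
  [Algebra k K₀] [Algebra K₀ K] [Algebra k K] [IsScalarTower k K₀ K]

theorem partB_abs (hK₀ : IsFunctionField k K₀) (hK : IsFunctionField k K)
    [FiniteDimensional K₀ K] [Algebra.IsSeparable K₀ K]
    (x₀ : K₀) (hx₀top : IntermediateField.adjoin k ({x₀} : Set K₀) = ⊤)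
    (y : K) (hytop : IntermediateField.adjoin K₀ ({y} : Set K) = ⊤)
    (F : MvPolynomial (Fin 3) k) (e : ℕ) (hF : F.IsHomogeneous e)
    (hFxy : aeval ![(1 : K), algebraMap K₀ K x₀, y] F = 0)
    (hlc : coeff (Finsupp.single 2 e) F ≠ 0)
    (hfin : Module.finrank K₀ K = e)
    (hint : ∀ Q' : Place k K, Q'.1 (algebraMap K₀ K x₀) ≤ 1 → Q'.1 y ≤ 1)
    (hdx : KaehlerDifferential.D k K (algebraMap K₀ K x₀) ≠ 0)
    (Q : Place k K) (hQx : Q.1 (algebraMap K₀ K x₀) < 1) (hQy : Q.1 y < 1)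
    (ΦQ : K →ₐ[k] LaurentSeries k) (hΦQ : LocRes.IsExpansionAt Q.1 ΦQ) :
    LocRes.ordDiff ΦQ 1 (algebraMap K₀ K x₀) ≤
        Q.ord (aeval ![(1 : K), algebraMap K₀ K x₀, y] (pderiv 2 F)) ∧
    (Q.ord (aeval ![(1 : K), algebraMap K₀ K x₀, y] (pderiv 2 F)) =
        LocRes.ordDiff ΦQ 1 (algebraMap K₀ K x₀) ↔
      IsNonsingularAt ![(1 : K), algebraMap K₀ K x₀, y] Q) := by
  classical
  have hg₀ : IsGeometric k K₀ := isGeometric_of_perfectField k K₀ hK₀
  have hg : IsGeometric k K := isGeometric_of_perfectField k K hK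
  obtain ⟨P, eR, he⟩ := exists_isOverWith (K' := K) hK₀.isFF1 Q
  haveI : P.1.HasExtension Q.1 := hasExtension_of_isOverWith he
  letI : Algebra P.O K := ((algebraMap K₀ K).comp (algebraMap P.O K₀)).toAlgebra
  haveI : IsScalarTower P.O K₀ K := IsScalarTower.of_algebraMap_eq (fun _ => rfl)
  have hf := residue_surjective_of_deg_one hK (P := P) (Q := Q)
  obtain ⟨Φ₀, hΦ₀⟩ := SV.exists_expansion_family hK₀
  have hPx : P.1 x₀ < 1 := (he.v_lt_one_iff x₀).1 hQx
  have hPx1 : P.1 x₀ = exp (-1 : ℤ) := v_gen_eq hK₀ x₀ hx₀top P hPx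
  have hx₀0 : x₀ ≠ 0 := by
    rintro rfl
    rw [map_zero] at hPx1
    exact exp_ne_zero hPx1.symm
  have hvD : Valued.v (LocRes.D k (Φ₀ P x₀)) = 1 :=
    SV.valued_D_of_valued_eq (by rw [(hΦ₀ P).1, hPx1])
  have hvφ : LocRes.vDiff (Φ₀ P) 1 x₀ = 1 := by
    unfold LocRes.vDiff; rw [map_one, one_mul, hvD]
  have hxφ : LocRes.vDiff (Φ₀ P) 1 x₀ ≠ 0 := by rw [hvφ]; exact one_ne_zero
  have hoφ : LocRes.ordDiff (Φ₀ P) 1 x₀ = 0 := by unfold LocRes.ordDiff; rw [hvφ]; simp
  have hxψ : LocRes.vDiff ΦQ 1 (algebraMap K₀ K x₀) ≠ 0 := by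
    unfold LocRes.vDiff
    rw [map_one, one_mul]
    exact (Valuation.ne_zero_iff _).2 (Geom.D_expansion_ne_zero hK hg hdx hΦQ)
  have hdE : LocRes.diffExp (Φ₀ P) ΦQ eR x₀ = LocRes.ordDiff ΦQ 1 (algebraMap K₀ K x₀) := by
    unfold LocRes.diffExp; rw [hoφ, mul_zero, sub_zero]
  have hyB : Groth.Agent.H7.IC.InB P y := fun Q' hQ' => by
    obtain ⟨e', he'⟩ := hQ'
    exact hint Q' ((he'.v_le_one_iff x₀).2 hPx.le)
  have hyi : IsIntegral P.O y := (Groth.Agent.H7.IC.mem_integralClosure_iff P hK₀ y).2 hyB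
  obtain ⟨hle, hloc⟩ := Groth.Agent.H7.TrDual.diffExp_le_ord_derivative_minpoly hK₀ hg₀ he
    (hΦ₀ P) hΦQ hxφ hxψ hf hytop hyi
  rw [hdE] at hle hloc
  have hderiv := deriv_minpoly_eq x₀ y hytop F e hF hFxy hlc hfin
  have hmne := Groth.Agent.H7.TrDual.deriv_ne_zero (K := K₀) y
  have hordeq : Q.ord (aeval ![(1 : K), algebraMap K₀ K x₀, y] (pderiv 2 F)) =
      Q.ord (Polynomial.aeval y (Polynomial.derivative (minpoly K₀ y))) := by
    rw [hderiv, Q.ord_mul ((map_ne_zero _).2 hlc) hmne, Q.ord_algebraMap, zero_add]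
  rw [hordeq]
  set V : Fin 3 → K := ![(1 : K), algebraMap K₀ K x₀, y] with hV
  set S₀ : Subalgebra k K := Algebra.adjoin k (Set.range fun i => V i / V 0) with hS₀
  have hV0 : V 0 = 1 := rfl
  have hxS : algebraMap K₀ K x₀ ∈ S₀ := by
    refine Algebra.subset_adjoin ⟨1, ?_⟩
    show V 1 / V 0 = _
    rw [hV0, _root_.div_one]; rfl
  have hyS : y ∈ S₀ := by
    refine Algebra.subset_adjoin ⟨2, ?_⟩
    show V 2 / V 0 = _
    rw [hV0, _root_.div_one]; rfl
  have hle0 : ∀ i, Q.1 (V i) ≤ Q.1 (V 0) := by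
    intro i
    rw [hV0, map_one]
    fin_cases i
    · show Q.1 (1 : K) ≤ 1
      rw [map_one]
    · exact hQx.le
    · exact hQy.le
  have hSA : ∀ r ∈ S₀, r ∈ Algebra.adjoin P.O ({y} : Set K) := by
    intro r hr
    induction hr using Algebra.adjoin_induction with
    | mem z hz =>
      obtain ⟨i, rfl⟩ := hz
      show V i / V 0 ∈ _
      rw [hV0, _root_.div_one]
      fin_cases i
      · exact Subalgebra.one_mem _
      · exact Groth.Agent.H7.TrDual.algebraMap_mem_adjoin P hPx.le y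
      · exact Algebra.self_mem_adjoin_singleton _ _
    | algebraMap c =>
      rw [IsScalarTower.algebraMap_apply k K₀ K]
      exact Groth.Agent.H7.TrDual.algebraMap_mem_adjoin P (P.v_algebraMap_le c) y
    | add a b _ _ ha hb => exact Subalgebra.add_mem _ ha hb
    | mul a b _ _ ha hb => exact Subalgebra.mul_mem _ ha hb
  refine ⟨hle, ⟨fun heq => ?_, fun hns => ?_⟩⟩
  · -- equality implies nonsingular
    intro z hz
    obtain ⟨a, ha, b, hb, hbQ, hzb⟩ := hloc heq z hz
    obtain ⟨sa, hsa, na, hna, hva, hea⟩ := clearO P Q he x₀ hx₀top hPx hx₀0 y S₀ hxS hyS ha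
    obtain ⟨sb, hsb, nb, hnb, hvb, heb⟩ := clearO P Q he x₀ hx₀top hPx hx₀0 y S₀ hxS hyS hb
    refine ⟨0, by rw [hV0]; exact one_ne_zero, hle0, na * sb, S₀.mul_mem hna hsb, nb * sa,
      S₀.mul_mem hnb hsa, ?_, ?_⟩
    · rw [map_mul, ← heb, map_mul, hbQ, hvb, hva, one_mul, one_mul]
    · rw [← heb, ← hea, ← hzb]; ring
  · -- nonsingular implies equality
    have hstep1 : ∀ z : K, Q.1 z ≤ 1 → ∃ u ∈ Algebra.adjoin P.O ({y} : Set K),
        ∃ w ∈ Algebra.adjoin P.O ({y} : Set K), Q.1 w = 1 ∧ z * w = u := by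
      intro z hz
      obtain ⟨j, hj0, hjle, u, hu, w, hw, hwQ, hzw⟩ := hns z hz
      have hj : j = 0 := by
        have h0 := hjle 0
        rw [hV0, map_one] at h0
        fin_cases j
        · rfl
        · exact absurd (lt_of_le_of_lt h0 hQx) (lt_irrefl _)
        · exact absurd (lt_of_le_of_lt h0 hQy) (lt_irrefl _)
      subst hj
      exact ⟨u, hSA u hu, w, hSA w hw, hwQ, hzw⟩
    have hstep3 : ∀ T : Finset K, (∀ b ∈ T, Q.1 b ≤ 1) →
        ∃ c ∈ Algebra.adjoin P.O ({y} : Set K), Q.1 c = 1 ∧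
          ∀ b ∈ T, c * b ∈ Algebra.adjoin P.O ({y} : Set K) := by
      intro T
      induction T using Finset.induction_on with
      | empty =>
        intro _
        exact ⟨1, Subalgebra.one_mem _, map_one _, fun b hb => absurd hb (Finset.notMem_empty b)⟩
      | insert b T hbT ih =>
        intro hT
        obtain ⟨c, hc, hcQ, hcT⟩ := ih (fun b' hb' => hT b' (Finset.mem_insert_of_mem hb'))
        obtain ⟨u, hu, w, hw, hwQ, hbw⟩ := hstep1 b (hT b (Finset.mem_insert_self _ _))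
        refine ⟨c * w, Subalgebra.mul_mem _ hc hw, by rw [map_mul, hcQ, hwQ, one_mul], ?_⟩
        intro b' hb'
        rcases Finset.mem_insert.1 hb' with rfl | hb'
        · have : c * w * b' = c * u := by rw [← hbw]; ring
          rw [this]
          exact Subalgebra.mul_mem _ hc hu
        · have : c * w * b' = w * (c * b') := by ring
          rw [this]
          exact Subalgebra.mul_mem _ hw (hcT b' hb')
    haveI := isPrincipalIdealRing_O P
    have hfinC : Module.Finite P.O (integralClosure P.O K) :=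
      IsIntegralClosure.finite P.O K₀ K (integralClosure P.O K)
    have hfg : (Subalgebra.toSubmodule (integralClosure P.O K)).FG := Module.Finite.iff_fg.1 hfinC
    obtain ⟨T, hT⟩ := hfg
    have hTint : ∀ b ∈ T, IsIntegral P.O b := by
      intro b hb
      have : b ∈ Subalgebra.toSubmodule (integralClosure P.O K) := by
        rw [← hT]; exact Submodule.subset_span hb
      exact this
    have hQP : IsOver Q P := ⟨eR, he⟩
    obtain ⟨c, hcA, hcQ, hcT⟩ := hstep3 T (fun b hb =>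
      (Groth.Agent.H7.IC.mem_integralClosure_iff P hK₀ b).1 (hTint b hb) Q hQP)
    have hspan : ∀ b ∈ Submodule.span P.O (T : Set K),
        c * b ∈ Algebra.adjoin P.O ({y} : Set K) := by
      intro b hb
      induction hb using Submodule.span_induction with
      | mem z hz => exact hcT z hz
      | zero => rw [mul_zero]; exact Subalgebra.zero_mem _
      | add a b' _ _ ha hb' => rw [mul_add]; exact Subalgebra.add_mem _ ha hb'
      | smul r z _ hz =>
        rw [mul_smul_comm]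
        exact Subalgebra.smul_mem _ hz r
    have hcB : ∀ b : K, Groth.Agent.H7.IC.InB P b →
        c * b ∈ Algebra.adjoin P.O ({y} : Set K) := by
      intro b hb
      apply hspan
      rw [hT]
      exact (Groth.Agent.H7.IC.mem_integralClosure_iff P hK₀ b).2 hb
    have htopA : Algebra.adjoin K₀ ({y} : Set K) = ⊤ := by
      rw [← IntermediateField.adjoin_simple_toSubalgebra_of_isAlgebraic
        (Algebra.IsAlgebraic.isAlgebraic y), hytop, IntermediateField.top_toSubalgebra]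
    obtain ⟨y₁, hy₁, hy₁Q⟩ :=
      Groth.Agent.H7.TrDual.exists_mem_dual hK₀ htopA hyi hcA hcQ hcB
    obtain ⟨hmin, -⟩ := Groth.Agent.H7.TrDual.traceDual_min_valuation hK₀ hg₀ he
      (hΦ₀ P) hΦQ hxφ hxψ hf
    have h2 := hmin y₁ hy₁
    rw [hy₁Q, hdE, exp_le_exp] at h2
    exact le_antisymm h2 hle

end abs

section inst

variable {k : Type u} {K : Type v} [Field k] [Field K] [Algebra k K]

theorem isFunctionField_adjoin (hK : IsFunctionField k K) (x : K) (hx : Transcendental k x) :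
    IsFunctionField k (IntermediateField.adjoin k ({x} : Set K)) ∧
    IntermediateField.adjoin k
      ({⟨x, IntermediateField.mem_adjoin_simple_self k x⟩} :
        Set (IntermediateField.adjoin k ({x} : Set K))) = ⊤ := by
  have hxF : Transcendental k (⟨x, IntermediateField.mem_adjoin_simple_self k x⟩ :
      IntermediateField.adjoin k ({x} : Set K)) := by
    rw [← transcendental_algebraMap_iff
      (algebraMap (IntermediateField.adjoin k ({x} : Set K)) K).injective]
    exact hx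
  have htop : IntermediateField.adjoin k
      ({⟨x, IntermediateField.mem_adjoin_simple_self k x⟩} :
        Set (IntermediateField.adjoin k ({x} : Set K))) = ⊤ := by
    apply IntermediateField.lift_injective
    rw [IntermediateField.lift_adjoin_simple, IntermediateField.lift_top]
  refine ⟨⟨⟨_, hxF, ?_⟩, ?_⟩, htop⟩
  · rw [htop]
    exact Module.finite_of_finrank_pos (by rw [IntermediateField.finrank_top]; exact one_pos)
  · intro z hz
    have hz' : IsAlgebraic k (z : K) := by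
      have := hz.algebraMap (A := K)
      exact this
    obtain ⟨c, hc⟩ := hK.2 _ hz'
    exact ⟨c, Subtype.ext hc⟩

theorem poleDiv_eq_mapDiv (hK : IsFunctionField k K) (x y : K)
    (hx0 : x ≠ 0) (hint : ∀ Q' : Place k K, Q'.1 y ≤ max 1 (Q'.1 x)) :
    poleDiv (k := k) x = mapDiv k ![(1 : K), x, y] := by
  ext Q'
  rw [poleDiv_apply hK, mapDiv_apply hK]
  apply le_antisymm
  · have h0 := minOrd_le ![(1 : K), x, y] Q' 0
    have h1 := minOrd_le ![(1 : K), x, y] Q' 1
    have e0 : Q'.ord (![(1 : K), x, y] 0) = 0 := Place.ord_one Q'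
    have e1 : Q'.ord (![(1 : K), x, y] 1) = Q'.ord x := rfl
    rw [e0] at h0
    rw [e1] at h1
    apply max_le <;> omega
  · have hl := le_max_left (-Q'.ord x) 0
    have hr := le_max_right (-Q'.ord x) 0
    have : -(max (-Q'.ord x) 0) ≤ minOrd ![(1 : K), x, y] Q' := by
      rw [le_minOrd_iff]
      intro i
      fin_cases i
      · show _ ≤ Q'.ord (1 : K)
        rw [Place.ord_one]; omega
      · show _ ≤ Q'.ord x
        omega
      · show _ ≤ Q'.ord y
        rcases eq_or_ne y 0 with rfl | hy0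
        · rw [Place.ord_zero]; omega
        · rcases le_max_iff.1 (hint Q') with h | h
          · have := (Q'.v_le_one_iff hy0).1 h
            omega
          · rw [Q'.v_eq_exp_neg_ord hy0, Q'.v_eq_exp_neg_ord hx0, exp_le_exp] at h
            omega
    omega

variable [IsAlgClosed k]

theorem partB (hK : IsFunctionField k K) (x y : K)
    (hxy : IntermediateField.adjoin k ({x, y} : Set K) = ⊤)
    (F : MvPolynomial (Fin 3) k) (e : ℕ) (hF : F.IsHomogeneous e)
    (hFxy : aeval ![(1 : K), x, y] F = 0)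
    (hlc : coeff (Finsupp.single 2 e) F ≠ 0)
    (hint : ∀ Q' : Place k K, Q'.1 y ≤ max 1 (Q'.1 x))
    (hdeg : (mapDiv k ![(1 : K), x, y]).deg = e)
    (hdx : KaehlerDifferential.D k K x ≠ 0)
    (Q : Place k K) (hQx : Q.1 x < 1) (hQy : Q.1 y < 1)
    (ΦQ : K →ₐ[k] LaurentSeries k) (hΦQ : LocRes.IsExpansionAt Q.1 ΦQ) :
    LocRes.ordDiff ΦQ 1 x ≤ Q.ord (aeval ![(1 : K), x, y] (pderiv 2 F)) ∧
    (Q.ord (aeval ![(1 : K), x, y] (pderiv 2 F)) = LocRes.ordDiff ΦQ 1 x ↔
      IsNonsingularAt ![(1 : K), x, y] Q) := by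
  have hg : IsGeometric k K := isGeometric_of_perfectField k K hK
  haveI hsep : Algebra.IsSeparable (IntermediateField.adjoin k ({x} : Set K)) K :=
    Geom.isSeparable_of_D_ne_zero hK hg hdx
  have htr : Transcendental k x := Geom.transcendental_of_isSeparable hK hsep
  haveI : FiniteDimensional (IntermediateField.adjoin k ({x} : Set K)) K :=
    hK.finiteDimensional_adjoin htr
  obtain ⟨hK₀, hx₀top⟩ := isFunctionField_adjoin hK x htr
  have hxnc : x ∉ Set.range (algebraMap k K) := by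
    rintro ⟨c, rfl⟩
    exact htr (isAlgebraic_algebraMap c)
  have hx0 : x ≠ 0 := by rintro rfl; exact hxnc ⟨0, map_zero _⟩
  have hytop : IntermediateField.adjoin (IntermediateField.adjoin k ({x} : Set K))
      ({y} : Set K) = ⊤ := by
    rw [← IntermediateField.restrictScalars_eq_top_iff (K := k),
      IntermediateField.adjoin_adjoin_left, ← hxy]
    congr 1
  have hfin : Module.finrank (IntermediateField.adjoin k ({x} : Set K)) K = e := by
    have h1 := deg_poleDiv hK hxnc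
    rw [poleDiv_eq_mapDiv hK x y hx0 hint, hdeg] at h1
    exact_mod_cast h1.symm
  exact partB_abs hK₀ hK ⟨x, IntermediateField.mem_adjoin_simple_self k x⟩ hx₀top y hytop F e hF
    hFxy hlc hfin (fun Q' h => by have h' : Q'.1 x ≤ 1 := h; have := hint Q'; rwa [max_eq_left h'] at this) hdx Q hQx hQy
    ΦQ hΦQ

end inst

end Groth.Agent.H4.AdjB
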