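import Mathlib
import Groth.Prelude
import Groth.Agent.H4.AdjA
import Groth.Agent.H4.AdjB
import Groth.Agent.H4.AdjCoord
import Groth.Agent.Lib.Helper5.FunFld.Plane8
import Groth.Agent.Lib.Helper5.SV.DivDiff
import Groth.Agent.Lib.Helper7.SF1

set_option autoImplicit false

universe u v

namespace Groth.Agent.H4.AdjC

open FunFld WithZero MvPolynomial Groth.Agent.H4.AdjA Groth.Agent.H4.AdjB Groth.Agent.H4.AdjCoord

section alg

variable {k : Type*} [Field k]

theorem aeval_mul_of_isHomogeneous {L ι : Type*} [CommRing L] [Algebra k L] [Fintype ι]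
    {g : MvPolynomial ι k} {e : ℕ} (hg : g.IsHomogeneous e) (φ : ι → L) (c : L) :
    aeval (fun i => c * φ i) g = c ^ e * aeval φ g := by
  rw [aeval_def, aeval_def, eval₂_eq', eval₂_eq', Finset.mul_sum]
  refine Finset.sum_congr rfl (fun d hd => ?_)
  have hdeg : ∑ i, d i = e := by
    rw [← Finsupp.degree_eq_sum]
    by_contra hne
    exact (mem_support_iff.1 hd) (hg.coeff_eq_zero hne)
  simp_rw [mul_pow]
  rw [Finset.prod_mul_distrib, Finset.prod_pow_eq_pow_sum, hdeg]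
  ring

variable {K : Type*} [Field K] [Algebra k K]

theorem aeval_subst (A : Matrix (Fin 3) (Fin 3) k) (V u : Fin 3 → K)
    (hu : ∀ i, ∑ j, algebraMap k K (A i j) * u j = V i) (q : MvPolynomial (Fin 3) k) (d : ℕ)
    (hq : q.IsHomogeneous d) :
    aeval (fun j => u j / u 0) (aeval (fun i : Fin 3 => ∑ j, C (A i j) * X j) q) =
      aeval V q / u 0 ^ d := by
  rw [comp_aeval_apply]
  have e1 : (fun i : Fin 3 => aeval (fun j => u j / u 0)
      (∑ j, C (A i j) * (X j : MvPolynomial (Fin 3) k))) = fun i => V i / u 0 := by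
    funext i
    simp only [map_sum, map_mul, aeval_C, aeval_X]
    rw [← hu i, Finset.sum_div]
    refine Finset.sum_congr rfl (fun j _ => ?_)
    ring
  rw [e1]
  exact aeval_div_of_isHomogeneous hq V (u 0)

theorem pderiv2_subst (A : Matrix (Fin 3) (Fin 3) k) (V u : Fin 3 → K)
    (hu : ∀ i, ∑ j, algebraMap k K (A i j) * u j = V i) (hu0 : u 0 ≠ 0)
    (F : MvPolynomial (Fin 3) k) (e : ℕ) (hF : F.IsHomogeneous e) :
    aeval (fun j => u j / u 0)
        (pderiv 2 (aeval (fun i : Fin 3 => ∑ j, C (A i j) * X j) F)) * u 0 ^ (e - 1) =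
      algebraMap k K (A 0 2) * aeval V (pderiv 0 F) +
        algebraMap k K (A 1 2) * aeval V (pderiv 1 F) +
        algebraMap k K (A 2 2) * aeval V (pderiv 2 F) := by
  rw [pderiv_two_subst]
  simp only [map_add, map_mul, aeval_C]
  rw [aeval_subst A V u hu _ (e - 1) hF.pderiv, aeval_subst A V u hu _ (e - 1) hF.pderiv,
    aeval_subst A V u hu _ (e - 1) hF.pderiv]
  have hpow0 : u 0 ^ (e - 1) ≠ 0 := pow_ne_zero _ hu0
  field_simp

theorem inLoc_transfer (Q : Place k K) (ψ ψ' : Fin 3 → K) (B : Matrix (Fin 3) (Fin 3) k)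
    (lam : K) (hψ : ∀ i, ψ i = lam * ∑ l, algebraMap k K (B i l) * ψ' l)
    (j j' : Fin 3) (hj : ψ j ≠ 0) (hj' : ψ' j' ≠ 0)
    (hmatch : Q.1 (ψ j) = Q.1 lam * Q.1 (ψ' j')) {z : K}
    (h : ∃ u ∈ Algebra.adjoin k (Set.range fun i => ψ i / ψ j),
      ∃ w ∈ Algebra.adjoin k (Set.range fun i => ψ i / ψ j), Q.1 w = 1 ∧ z * w = u) :
    ∃ u ∈ Algebra.adjoin k (Set.range fun i => ψ' i / ψ' j'),
      ∃ w ∈ Algebra.adjoin k (Set.range fun i => ψ' i / ψ' j'), Q.1 w = 1 ∧ z * w = u := by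
  set R' := Algebra.adjoin k (Set.range fun i => ψ' i / ψ' j') with hR'
  set N : Fin 3 → K := fun i => ∑ l, algebraMap k K (B i l) * (ψ' l / ψ' j') with hN
  have hNR : ∀ i, N i ∈ R' := fun i => Subalgebra.sum_mem _ (fun l _ =>
    Subalgebra.mul_mem _ (Subalgebra.algebraMap_mem _ _) (Algebra.subset_adjoin ⟨l, rfl⟩))
  have hlam : lam ≠ 0 := by
    rintro rfl
    rw [hψ j, zero_mul] at hj
    exact hj rfl
  have hψN : ∀ i, ψ i = lam * ψ' j' * N i := by
    intro i
    rw [hψ i]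
    show lam * ∑ l, algebraMap k K (B i l) * ψ' l =
      lam * ψ' j' * ∑ l, algebraMap k K (B i l) * (ψ' l / ψ' j')
    rw [mul_assoc, Finset.mul_sum (a := ψ' j')]
    congr 1
    refine Finset.sum_congr rfl (fun l _ => ?_)
    field_simp
  have hNj : N j ≠ 0 := by
    intro h0
    rw [hψN j, h0, mul_zero] at hj
    exact hj rfl
  have hratio : ∀ i, ψ i / ψ j = N i / N j := by
    intro i
    rw [hψN i, hψN j]
    have : lam * ψ' j' ≠ 0 := mul_ne_zero hlam hj'
    field_simp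
  have hNjQ : Q.1 (N j) = 1 := by
    have h1 : Q.1 (ψ j) = Q.1 lam * Q.1 (ψ' j') * Q.1 (N j) := by
      rw [hψN j, map_mul, map_mul]
    rw [hmatch] at h1
    have hne : Q.1 lam * Q.1 (ψ' j') ≠ 0 := mul_ne_zero (Q.v_ne_zero hlam) (Q.v_ne_zero hj')
    have := mul_left_cancel₀ hne (show Q.1 lam * Q.1 (ψ' j') * 1 =
      Q.1 lam * Q.1 (ψ' j') * Q.1 (N j) by rw [mul_one]; exact h1)
    exact this.symm
  have hclear : ∀ r ∈ Algebra.adjoin k (Set.range fun i => ψ i / ψ j),
      ∃ m : ℕ, ∃ n ∈ R', r * N j ^ m = n := by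
    intro r hr
    induction hr using Algebra.adjoin_induction with
    | mem x hx =>
      obtain ⟨i, rfl⟩ := hx
      refine ⟨1, N i, hNR i, ?_⟩
      show ψ i / ψ j * N j ^ 1 = N i
      rw [hratio i, pow_one, div_mul_cancel₀ _ hNj]
    | algebraMap c =>
      exact ⟨0, algebraMap k K c, Subalgebra.algebraMap_mem _ _, by rw [pow_zero, mul_one]⟩
    | add a b _ _ ha hb =>
      obtain ⟨m₁, n₁, hn₁, h₁⟩ := ha
      obtain ⟨m₂, n₂, hn₂, h₂⟩ := hb
      refine ⟨m₁ + m₂, n₁ * N j ^ m₂ + n₂ * N j ^ m₁,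
        Subalgebra.add_mem _ (Subalgebra.mul_mem _ hn₁ (Subalgebra.pow_mem _ (hNR j) _))
          (Subalgebra.mul_mem _ hn₂ (Subalgebra.pow_mem _ (hNR j) _)), ?_⟩
      rw [← h₁, ← h₂, pow_add]; ring
    | mul a b _ _ ha hb =>
      obtain ⟨m₁, n₁, hn₁, h₁⟩ := ha
      obtain ⟨m₂, n₂, hn₂, h₂⟩ := hb
      refine ⟨m₁ + m₂, n₁ * n₂, Subalgebra.mul_mem _ hn₁ hn₂, ?_⟩
      rw [← h₁, ← h₂, pow_add]; ring
  obtain ⟨u, hu, w, hw, hwQ, hzw⟩ := h
  obtain ⟨mu, nu, hnu, hu'⟩ := hclear u hu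
  obtain ⟨mw, nw, hnw, hw'⟩ := hclear w hw
  refine ⟨nu * N j ^ mw, Subalgebra.mul_mem _ hnu (Subalgebra.pow_mem _ (hNR j) _),
    nw * N j ^ mu, Subalgebra.mul_mem _ hnw (Subalgebra.pow_mem _ (hNR j) _), ?_, ?_⟩
  · rw [map_mul, ← hw', map_mul, map_pow, map_pow, hwQ, hNjQ, one_pow, one_pow, one_mul, one_mul]
  · rw [← hu', ← hw', ← hzw]; ring

end alg

section choice

variable {k : Type*} [Field k] [IsAlgClosed k] {K : Type*} [Field K] [Algebra k K]

theorem exists_good_point (F : MvPolynomial (Fin 3) k) (hF0 : F ≠ 0) (r : Fin 3 → K)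
    (hr2 : r 2 ≠ 0) :
    ∃ p : Fin 3 → k, aeval p F ≠ 0 ∧ ∑ i, algebraMap k K (p i) * r i ≠ 0 := by
  classical
  obtain ⟨p₁, hp₁⟩ : ∃ p₁ : Fin 3 → k, aeval p₁ F ≠ 0 := by
    by_contra h
    push Not at h
    exact hF0 (MvPolynomial.funext (fun x => by
      have := h x
      rw [aeval_eq_eval] at this
      rw [this, map_zero]))
  set G : Polynomial k := aeval (fun i : Fin 3 => Polynomial.C (p₁ i) +
    Polynomial.X * Polynomial.C (if i = 2 then (1 : k) else 0)) F with hG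
  have hGeval : ∀ s : k, Polynomial.eval s G =
      aeval (fun i : Fin 3 => p₁ i + s * (if i = 2 then (1 : k) else 0)) F := by
    intro s
    rw [hG, ← Polynomial.coe_aeval_eq_eval, comp_aeval_apply]
    have e0 : (fun i : Fin 3 => (Polynomial.aeval s) (Polynomial.C (p₁ i) +
        Polynomial.X * Polynomial.C (if i = 2 then (1 : k) else 0))) =
        fun i : Fin 3 => p₁ i + s * (if i = 2 then (1 : k) else 0) := by
      funext i
      simp
      split_ifs <;> simp
    rw [e0]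
  have hG0 : G ≠ 0 := by
    intro h
    have := hGeval 0
    rw [h, Polynomial.eval_zero] at this
    apply hp₁
    have e0 : (fun i : Fin 3 => p₁ i + 0 * (if i = 2 then (1 : k) else 0)) = p₁ := by
      funext i
      simp
    rw [e0] at this
    exact this.symm
  have hfin1 : {s : k | Polynomial.IsRoot G s}.Finite := Polynomial.finite_setOf_isRoot hG0
  set L₁ : K := ∑ i, algebraMap k K (p₁ i) * r i with hL₁
  have hL : ∀ s : k, ∑ i, algebraMap k K (p₁ i + s * (if i = 2 then (1 : k) else 0)) * r i =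
      L₁ + algebraMap k K s * r 2 := by
    intro s
    rw [hL₁, Fin.sum_univ_three, Fin.sum_univ_three]
    simp
    ring
  have hsub : {s : k | L₁ + algebraMap k K s * r 2 = 0}.Subsingleton := by
    intro s hs s' hs'
    rw [Set.mem_ofPred_eq] at hs hs'
    have : algebraMap k K (s - s') * r 2 = 0 := by
      rw [map_sub, sub_mul]
      linear_combination hs - hs'
    rcases mul_eq_zero.1 this with h | h
    · rw [map_eq_zero_iff _ (algebraMap k K).injective, sub_eq_zero] at h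
      exact h
    · exact absurd h hr2
  have hfin2 := hsub.finite
  obtain ⟨s, hs⟩ := (hfin1.union hfin2).exists_notMem
  rw [Set.mem_union, not_or] at hs
  refine ⟨fun i => p₁ i + s * (if i = 2 then (1 : k) else 0), ?_, ?_⟩
  · rw [← hGeval s]
    exact hs.1
  · rw [hL s]
    exact hs.2

end choice

section coords

variable {k : Type u} {K : Type v} [Field k] [IsAlgClosed k] [Field K] [Algebra k K]

theorem exists_good_coords (hK : IsFunctionField k K) (x y : K) (F : MvPolynomial (Fin 3) k)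
    (e : ℕ) (hF : F.IsHomogeneous e)
    (hFV : aeval ![(1 : K), x, y] F = 0) (ha : aeval ![(1 : K), x, y] (pderiv 2 F) ≠ 0)
    (Q : Place k K) :
    ∃ (A : Matrix (Fin 3) (Fin 3) k) (u : Fin 3 → K) (j₀ : Fin 3), A.det ≠ 0 ∧
      (∀ i, ∑ j, algebraMap k K (A i j) * u j = ![(1 : K), x, y] i) ∧
      (∀ i, u i = ∑ l, algebraMap k K (A⁻¹ i l) * ![(1 : K), x, y] l) ∧
      u 0 ≠ 0 ∧
      (![(1 : K), x, y] j₀ ≠ 0 ∧ ∀ i, Q.1 (![(1 : K), x, y] i) ≤ Q.1 (![(1 : K), x, y] j₀)) ∧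
      Q.1 (u 0) = Q.1 (![(1 : K), x, y] j₀) ∧
      Q.1 (u 1 / u 0) < 1 ∧ Q.1 (u 2 / u 0) < 1 ∧
      aeval (fun i => A i 2) F ≠ 0 ∧
      (∑ i, algebraMap k K (A i 2) * aeval ![(1 : K), x, y] (pderiv i F) ≠ 0) ∧
      (∀ Q' : Place k K, Q'.1 (u 2 / u 0) ≤ max 1 (Q'.1 (u 1 / u 0))) := by
  classical
  set V : Fin 3 → K := ![(1 : K), x, y] with hV
  obtain ⟨j, hjL, -⟩ := exists_isLeast_of_one hK V (j0 := 0) rfl Q
  have hdeg1 := Place.deg_eq_one_of_isAlgClosed hK Q
  have hres : ∀ i, ∃ c : k, Q.1 (V i / V j - algebraMap k K c) < 1 := fun i =>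
    Q.exists_const_sub_lt hdeg1 (hjL.v_ratio_le i)
  choose c hc using hres
  have hFc : aeval c F = 0 := by
    have h1 := v_aeval_sub_lt Q (fun i => V i / V j) c hc F
    rw [aeval_div_of_isHomogeneous hF V (V j), hFV, _root_.zero_div, zero_sub,
      Valuation.map_neg] at h1
    by_contra hne
    rw [Q.v_algebraMap hne] at h1
    exact lt_irrefl _ h1
  have hcj : c j ≠ 0 := by
    intro h0
    have h1 := hc j
    rw [h0, map_zero, sub_zero, div_self hjL.1, map_one] at h1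
    exact lt_irrefl _ h1
  have hF0 : F ≠ 0 := by
    rintro rfl
    simp at ha
  obtain ⟨p, hpF, hpr⟩ := exists_good_point F hF0 (fun i => aeval V (pderiv i F)) ha
  have hli : LinearIndependent k ![c, p] := by
    rw [LinearIndependent.pair_iff]
    intro s t hst
    have ht : t = 0 := by
      by_contra ht
      have hp : p = fun i => (-s / t) * c i := by
        funext i
        have := congrFun hst i
        simp only [Pi.add_apply, Pi.smul_apply, smul_eq_mul, Pi.zero_apply] at this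
        field_simp
        linear_combination this
      apply hpF
      rw [hp, aeval_mul_of_isHomogeneous hF, hFc, mul_zero]
    subst ht
    refine ⟨?_, rfl⟩
    have := congrFun hst j
    simp only [Pi.add_apply, Pi.smul_apply, smul_eq_mul, Pi.zero_apply, zero_mul,
      add_zero] at this
    exact (mul_eq_zero.1 this).resolve_right hcj
  obtain ⟨a1, ha1⟩ := exists_linearIndependent_cons_of_lt_finrank hli
    (by simp : 2 < Module.finrank k (Fin 3 → k))
  set cols : Fin 3 → Fin 3 → k := ![c, a1, p] with hcols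
  have hcolsli : LinearIndependent k cols := by
    have h := ha1.comp (![1, 0, 2] : Fin 3 → Fin 3) (by decide)
    have e1 : cols = (Fin.cons a1 ![c, p] : Fin 3 → Fin 3 → k) ∘ (![1, 0, 2] : Fin 3 → Fin 3) := by
      funext i
      fin_cases i <;> rfl
    rw [e1]
    exact h
  set A : Matrix (Fin 3) (Fin 3) k := Matrix.of fun i l => cols l i with hA
  have hAunit : IsUnit A := Matrix.linearIndependent_cols_iff_isUnit.1 (by exact hcolsli)
  have hAdet : A.det ≠ 0 := ((Matrix.isUnit_iff_isUnit_det A).1 hAunit).ne_zero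
  have hAdetU : IsUnit A.det := isUnit_iff_ne_zero.2 hAdet
  have hA0 : ∀ i, A i 0 = c i := fun i => rfl
  have hA2 : ∀ i, A i 2 = p i := fun i => rfl
  set u : Fin 3 → K := fun i => ∑ l, algebraMap k K (A⁻¹ i l) * V l with hu
  have hAinv : A⁻¹.det ≠ 0 := ((Matrix.isUnit_nonsing_inv_det_iff).2 hAdetU).ne_zero
  have huV : ∀ i, ∑ j, algebraMap k K (A i j) * u j = V i := by
    intro i
    have h := inv_relation A⁻¹ hAinv V u (fun i => rfl) i
    rw [Matrix.nonsing_inv_nonsing_inv A hAdetU] at h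
    exact h.symm
  have hδ : ∀ i, ∑ l, algebraMap k K (A⁻¹ i l) * algebraMap k K (c l) =
      algebraMap k K (if i = 0 then 1 else 0) := by
    intro i
    have h1 : ∑ l, A⁻¹ i l * c l = (A⁻¹ * A) i 0 := by
      rw [Matrix.mul_apply]
      rfl
    rw [Matrix.nonsing_inv_mul A hAdetU, Matrix.one_apply] at h1
    rw [← h1, map_sum]
    simp only [map_mul]
  have hVj0 : V j ≠ 0 := hjL.1
  have hui : ∀ i, Q.1 (u i / V j - algebraMap k K (if i = 0 then 1 else 0)) < 1 := by
    intro i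
    have e1 : u i / V j - algebraMap k K (if i = 0 then 1 else 0) =
        ∑ l, algebraMap k K (A⁻¹ i l) * (V l / V j - algebraMap k K (c l)) := by
      rw [← hδ i]
      show (∑ l, algebraMap k K (A⁻¹ i l) * V l) / V j - _ = _
      rw [Finset.sum_div, ← Finset.sum_sub_distrib]
      refine Finset.sum_congr rfl (fun l _ => ?_)
      ring
    rw [e1]
    apply Valuation.map_sum_lt _ one_ne_zero
    intro l _
    rw [map_mul]
    calc Q.1 (algebraMap k K (A⁻¹ i l)) * Q.1 (V l / V j - algebraMap k K (c l))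
        ≤ 1 * Q.1 (V l / V j - algebraMap k K (c l)) :=
          mul_le_mul' (Q.v_algebraMap_le _) le_rfl
      _ < 1 := by rw [one_mul]; exact hc l
  have hu0V : Q.1 (u 0 / V j) = 1 := by
    have h := hui 0
    rw [if_pos rfl, map_one] at h
    have e1 : u 0 / V j = 1 + (u 0 / V j - 1) := by ring
    rw [e1, Q.1.map_add_eq_of_lt_left (by rw [map_one]; exact h), map_one]
  have hu00 : u 0 ≠ 0 := by
    intro h0
    rw [h0, _root_.zero_div, map_zero] at hu0V
    exact zero_ne_one hu0V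
  have hQu0 : Q.1 (u 0) = Q.1 (V j) := by
    rw [map_div₀] at hu0V
    exact (div_eq_one_iff_eq (Q.v_ne_zero hVj0)).1 hu0V
  have huiV : ∀ i, i ≠ 0 → Q.1 (u i / u 0) < 1 := by
    intro i hi
    have h := hui i
    rw [if_neg hi, map_zero, sub_zero] at h
    have e1 : u i / u 0 = (u i / V j) / (u 0 / V j) := by field_simp
    rw [e1, map_div₀, hu0V, _root_.div_one]
    exact h
  have hint : ∀ Q' : Place k K, Q'.1 (u 2 / u 0) ≤ max 1 (Q'.1 (u 1 / u 0)) := by
    intro Q'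
    by_contra hcon
    rw [not_le, max_lt_iff] at hcon
    obtain ⟨h1, h2⟩ := hcon
    have hu20 : u 2 ≠ 0 := by
      intro h0
      rw [h0, _root_.zero_div, map_zero] at h1
      exact absurd h1 (not_lt.2 zero_le_one)
    have h02 : Q'.1 (u 0 / u 2) < 1 := by
      have e1 : u 0 / u 2 = (u 2 / u 0)⁻¹ := by rw [inv_div]
      rw [e1, map_inv₀]
      exact inv_lt_one_of_one_lt₀ h1
    have h12 : Q'.1 (u 1 / u 2) < 1 := by
      have e1 : u 1 / u 2 = (u 1 / u 0) / (u 2 / u 0) := by field_simp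
      rw [e1, map_div₀]
      exact (div_lt_one₀ (lt_trans zero_lt_one h1)).2 h2
    have hw : ∀ i, Q'.1 (V i / u 2 - algebraMap k K (p i)) < 1 := by
      intro i
      have e1 : V i / u 2 - algebraMap k K (p i) =
          algebraMap k K (A i 0) * (u 0 / u 2) + algebraMap k K (A i 1) * (u 1 / u 2) := by
        rw [← huV i, Fin.sum_univ_three, hA2 i]
        field_simp
        ring
      rw [e1]
      refine lt_of_le_of_lt (Q'.1.map_add _ _) (max_lt ?_ ?_)
      · rw [map_mul]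
        calc Q'.1 (algebraMap k K (A i 0)) * Q'.1 (u 0 / u 2) ≤ 1 * Q'.1 (u 0 / u 2) :=
              mul_le_mul' (Q'.v_algebraMap_le _) le_rfl
          _ < 1 := by rw [one_mul]; exact h02
      · rw [map_mul]
        calc Q'.1 (algebraMap k K (A i 1)) * Q'.1 (u 1 / u 2) ≤ 1 * Q'.1 (u 1 / u 2) :=
              mul_le_mul' (Q'.v_algebraMap_le _) le_rfl
          _ < 1 := by rw [one_mul]; exact h12
    have h3 := v_aeval_sub_lt Q' (fun i => V i / u 2) p hw F
    rw [aeval_div_of_isHomogeneous hF V (u 2), hFV, _root_.zero_div, zero_sub,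
      Valuation.map_neg, Q'.v_algebraMap hpF] at h3
    exact lt_irrefl _ h3
  refine ⟨A, u, j, hAdet, huV, fun i => rfl, hu00, hjL, hQu0, huiV 1 (by decide),
    huiV 2 (by decide), ?_, ?_, hint⟩
  · have e1 : (fun i => A i 2) = p := funext hA2
    rw [e1]
    exact hpF
  · exact hpr

end coords

section final

open LocRes FunFld.SV

theorem main (k K : Type*) [Field k] [IsAlgClosed k] [Field K] [Algebra k K]
    (hK : FunFld.IsFunctionField k K) (x y : K) (hxy : IntermediateField.adjoin k ({x, y} : Set K) = ⊤)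
    (f : MvPolynomial (Fin 2) k) (hf : Irreducible f) (hfxy : MvPolynomial.aeval ![x, y] f = 0)
    (Q : FunFld.Place k K) (ΦQ : K →ₐ[k] LaurentSeries k) (hΦQ : LocRes.IsExpansionAt Q.1 ΦQ)
    (hne : LocRes.vDiff ΦQ (MvPolynomial.aeval ![x, y] (MvPolynomial.pderiv 1 f))⁻¹ x ≠ 0) :
    0 ≤ ((FunFld.mapDiv k ![(1 : K), x, y]).deg - 3) * FunFld.mapDiv k ![(1 : K), x, y] Q -
        LocRes.ordDiff ΦQ (MvPolynomial.aeval ![x, y] (MvPolynomial.pderiv 1 f))⁻¹ x ∧
    (((FunFld.mapDiv k ![(1 : K), x, y]).deg - 3) * FunFld.mapDiv k ![(1 : K), x, y] Q -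
        LocRes.ordDiff ΦQ (MvPolynomial.aeval ![x, y] (MvPolynomial.pderiv 1 f))⁻¹ x = 0 ↔
      FunFld.IsNonsingularAt ![(1 : K), x, y] Q) := by
  classical
  obtain ⟨a, ha_def⟩ : ∃ a : K, a = aeval ![x, y] (pderiv 1 f) := ⟨_, rfl⟩
  rw [← ha_def] at hne ⊢
  obtain ⟨e, he_def⟩ : ∃ e : ℕ, e = f.totalDegree := ⟨_, rfl⟩
  obtain ⟨F, hF, hFV, haF⟩ : ∃ F : MvPolynomial (Fin 3) k, F.IsHomogeneous e ∧
      aeval ![(1 : K), x, y] F = 0 ∧ aeval ![(1 : K), x, y] (pderiv 2 F) = a := by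
    refine ⟨hom f, ?_, ?_, ?_⟩
    · rw [he_def]; exact hom_isHomogeneous f
    · rw [aeval_hom', hfxy]
    · rw [aeval_pderiv_hom, ha_def]
  have hE : (mapDiv k ![(1 : K), x, y]).deg = (e : ℤ) := by
    rw [he_def]; exact deg_mapDiv_eq_totalDegree hK x y hxy f hf hfxy
  obtain ⟨s, Hs, hHs⟩ := Groth.Agent.H7.SF.exists_isHasseFamily hK
  obtain ⟨t, Ht, ht, hHt⟩ := exists_param_hasseFamily hHs Q
  have hvd : ∀ u v, LocRes.vDiff ΦQ u v = Q.1 (u * hasseD Ht 1 v) := fun u v =>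
    vDiff_eq hK ht hHt hΦQ u v
  have hod : ∀ u v, LocRes.ordDiff ΦQ u v = Q.ord (u * hasseD Ht 1 v) := fun u v =>
    ordDiff_eq hK ht hHt hΦQ u v
  rw [hvd] at hne
  have hne' : a⁻¹ * hasseD Ht 1 x ≠ 0 := (Valuation.ne_zero_iff _).1 hne
  have ha0 : a ≠ 0 := by
    intro h
    rw [h, inv_zero, zero_mul] at hne'
    exact hne' rfl
  have hdx0 : hasseD Ht 1 x ≠ 0 := right_ne_zero_of_mul hne'
  have he1 : 1 ≤ e := one_le_of_pderiv_ne F e hF ![(1 : K), x, y] (by rw [haF]; exact ha0)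
  have hDx : KaehlerDifferential.D k K x ≠ 0 := by
    intro h0
    apply hdx0
    have := Derivation.liftKaehlerDifferential_comp_D (hasseDer hHt) x
    rw [h0, map_zero] at this
    exact this.symm
  have hDt : KaehlerDifferential.D k K t ≠ 0 := by
    intro h0
    apply hDx
    rw [kaehler_D_eq hK hHt x, h0, smul_zero]
  obtain ⟨A, u, j₀, hAdet, huV, hudef, hu00, hj₀, hQu0, hQx', hQy', hpF, hpr, hint⟩ :=
    exists_good_coords hK x y F e hF hFV (by rw [haF]; exact ha0) Q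
  have hV'eq : (![(1 : K), u 1 / u 0, u 2 / u 0] : Fin 3 → K) = fun j => u j / u 0 := by
    funext j; fin_cases j
    · simp [div_self hu00]
    · simp
    · simp
  obtain ⟨F', hF'def⟩ : ∃ F' : MvPolynomial (Fin 3) k,
      F' = aeval (fun i : Fin 3 => ∑ j, C (A i j) * X j) F := ⟨_, rfl⟩
  have hF' : F'.IsHomogeneous e := by
    have := hF.aeval (fun i : Fin 3 => ∑ j, C (A i j) * (X j : MvPolynomial (Fin 3) k)) (n := 1)
      (fun i => IsHomogeneous.sum _ _ _ (fun j _ => by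
        have h1 := (isHomogeneous_C (Fin 3) (A i j)).mul (isHomogeneous_X k j)
        rwa [zero_add] at h1))
    rw [one_mul] at this
    rw [hF'def]; exact this
  have hF'V' : aeval ![(1 : K), u 1 / u 0, u 2 / u 0] F' = 0 := by
    rw [hV'eq, hF'def, aeval_subst A _ u huV F e hF, hFV, _root_.zero_div]
  obtain ⟨a', ha'⟩ : ∃ a' : K, a' = aeval ![(1 : K), u 1 / u 0, u 2 / u 0] (pderiv 2 F') :=
    ⟨_, rfl⟩
  have ha'eq : a' * u 0 ^ (e - 1) =
      ∑ i, algebraMap k K (A i 2) * aeval ![(1 : K), x, y] (pderiv i F) := by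
    rw [ha', hV'eq, hF'def, pderiv2_subst A _ u huV hu00 F e hF, Fin.sum_univ_three]
  have ha'0 : a' ≠ 0 := by
    intro h0
    rw [h0, zero_mul] at ha'eq
    exact hpr ha'eq.symm
  have hlc' : coeff (Finsupp.single 2 e) F' ≠ 0 := by
    rw [← aeval_e2 hF', hF'def, comp_aeval_apply]
    have e0 : (fun i : Fin 3 => aeval ![(0 : k), 0, 1]
        (∑ j, C (A i j) * (X j : MvPolynomial (Fin 3) k))) = fun i => A i 2 := by
      funext i
      simp [Fin.sum_univ_three]
    rw [e0]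
    exact hpF
  have hcore : hasseD Ht 1 x * a' * u 0 ^ e =
      algebraMap k K A.det * u 0 ^ 3 * hasseD Ht 1 (u 1 / u 0) * a := by
    have h := core_identity (hasseDer hHt) F e hF he1 x y hFV A u huV hu00
    rw [hasseDer_apply, hasseDer_apply, haF, ← hF'def, ← ha'] at h
    exact h
  have hc : algebraMap k K A.det ≠ 0 := (map_ne_zero _).2 hAdet
  have hu3 : u 0 ^ 3 ≠ 0 := pow_ne_zero _ hu00
  have hue : u 0 ^ e ≠ 0 := pow_ne_zero _ hu00
  have hdx'0 : hasseD Ht 1 (u 1 / u 0) ≠ 0 := by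
    intro h0
    have hL : hasseD Ht 1 x * a' * u 0 ^ e ≠ 0 := mul_ne_zero (mul_ne_zero hdx0 ha'0) hue
    rw [hcore, h0] at hL
    simp at hL
  have hDx' : KaehlerDifferential.D k K (u 1 / u 0) ≠ 0 := by
    rw [kaehler_D_eq hK hHt (u 1 / u 0)]
    exact smul_ne_zero hdx'0 hDt
  have hdeg' : (mapDiv k ![(1 : K), u 1 / u 0, u 2 / u 0]).deg = (e : ℤ) := by
    rw [mapDiv_coord_deg hK A hAdet x y u huV hu00]; exact hE
  have hxy' : IntermediateField.adjoin k ({u 1 / u 0, u 2 / u 0} : Set K) = ⊤ := by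
    set E' := IntermediateField.adjoin k ({u 1 / u 0, u 2 / u 0} : Set K) with hE'
    have hx'E : u 1 / u 0 ∈ E' := IntermediateField.subset_adjoin k _ (by simp)
    have hy'E : u 2 / u 0 ∈ E' := IntermediateField.subset_adjoin k _ (by simp)
    have hV'E : ∀ l, u l / u 0 ∈ E' := by
      intro l; fin_cases l
      · show u 0 / u 0 ∈ E'
        rw [div_self hu00]; exact E'.one_mem
      · exact hx'E
      · exact hy'E
    have hVu : ∀ i, ![(1 : K), x, y] i / u 0 ∈ E' := by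
      intro i
      rw [← huV i, Finset.sum_div]
      refine E'.sum_mem (fun l _ => ?_)
      rw [mul_div_assoc]
      exact E'.mul_mem (E'.algebraMap_mem _) (hV'E l)
    have hu0E : u 0 ∈ E' := by
      have h := hVu 0
      have e0 : ![(1 : K), x, y] 0 / u 0 = (u 0)⁻¹ := by simp
      rw [e0] at h
      have := E'.inv_mem h
      rwa [inv_inv] at this
    have hVE : ∀ i, ![(1 : K), x, y] i ∈ E' := by
      intro i
      have := E'.mul_mem (hVu i) hu0E
      rwa [div_mul_cancel₀ _ hu00] at this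
    rw [eq_top_iff, ← hxy, IntermediateField.adjoin_le_iff]
    rintro z (rfl | rfl)
    · exact hVE 1
    · exact hVE 2
  obtain ⟨hB1, hB2⟩ := partB hK (u 1 / u 0) (u 2 / u 0) hxy' F' e hF' hF'V' hlc' hint hdeg' hDx' Q
    hQx' hQy' ΦQ hΦQ
  rw [hod, one_mul, ← ha'] at hB1 hB2
  -- orders
  have h1 : Q.ord (hasseD Ht 1 x * a' * u 0 ^ e) =
      Q.ord (hasseD Ht 1 x) + Q.ord a' + e * Q.ord (u 0) := by
    rw [Q.ord_mul (mul_ne_zero hdx0 ha'0) hue, Q.ord_mul hdx0 ha'0, Q.ord_pow]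
  have h2 : Q.ord (algebraMap k K A.det * u 0 ^ 3 * hasseD Ht 1 (u 1 / u 0) * a) =
      3 * Q.ord (u 0) + Q.ord (hasseD Ht 1 (u 1 / u 0)) + Q.ord a := by
    rw [Q.ord_mul (mul_ne_zero (mul_ne_zero hc hu3) hdx'0) ha0,
      Q.ord_mul (mul_ne_zero hc hu3) hdx'0, Q.ord_mul hc hu3, Q.ord_pow, Q.ord_algebraMap]
    push_cast; ring
  rw [hcore, h2] at h1
  have hmd := mapDiv_coord hK A hAdet x y u huV hu00 Q
  have hmd0 : mapDiv k ![(1 : K), u 1 / u 0, u 2 / u 0] Q = 0 := by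
    rw [mapDiv_apply hK, neg_eq_zero]
    apply le_antisymm
    · have h0 := minOrd_le ![(1 : K), u 1 / u 0, u 2 / u 0] Q 0
      have e0 : Q.ord (![(1 : K), u 1 / u 0, u 2 / u 0] 0) = 0 := Place.ord_one Q
      rw [e0] at h0
      exact h0
    · rw [le_minOrd_iff]
      intro i
      rcases eq_or_ne (![(1 : K), u 1 / u 0, u 2 / u 0] i) 0 with h0 | h0
      · rw [h0, Place.ord_zero]
      · apply (Q.v_le_one_iff h0).1
        fin_cases i
        · show Q.1 (1 : K) ≤ 1
          rw [map_one]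
        · exact hQx'.le
        · exact hQy'.le
  rw [hmd0] at hmd
  have key : ((mapDiv k ![(1 : K), x, y]).deg - 3) * mapDiv k ![(1 : K), x, y] Q -
      LocRes.ordDiff ΦQ a⁻¹ x = Q.ord a' - Q.ord (hasseD Ht 1 (u 1 / u 0)) := by
    rw [hod, Q.ord_mul (inv_ne_zero ha0) hdx0, Q.ord_inv, hE]
    have hm : mapDiv k ![(1 : K), x, y] Q = -Q.ord (u 0) := by linarith
    rw [hm]
    linarith [h1]
  rw [key]
  -- invariance of nonsingularity
  have hV'0 : (![(1 : K), u 1 / u 0, u 2 / u 0] : Fin 3 → K) 0 = 1 := rfl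
  have hle' : ∀ i, Q.1 (![(1 : K), u 1 / u 0, u 2 / u 0] i) ≤
      Q.1 ((![(1 : K), u 1 / u 0, u 2 / u 0] : Fin 3 → K) 0) := by
    intro i
    rw [hV'0, map_one]
    fin_cases i
    · show Q.1 (1 : K) ≤ 1
      rw [map_one]
    · exact hQx'.le
    · exact hQy'.le
  have hrel1 : ∀ i, ![(1 : K), x, y] i =
      u 0 * ∑ l, algebraMap k K (A i l) * ![(1 : K), u 1 / u 0, u 2 / u 0] l := by
    intro i
    rw [← huV i, Finset.mul_sum]
    refine Finset.sum_congr rfl (fun l _ => ?_)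
    rw [congrFun hV'eq l]
    field_simp
  have hrel2 : ∀ i, ![(1 : K), u 1 / u 0, u 2 / u 0] i =
      (u 0)⁻¹ * ∑ l, algebraMap k K (A⁻¹ i l) * ![(1 : K), x, y] l := by
    intro i
    rw [← hudef i, congrFun hV'eq i]
    ring
  have hns : IsNonsingularAt ![(1 : K), u 1 / u 0, u 2 / u 0] Q ↔
      IsNonsingularAt ![(1 : K), x, y] Q := by
    constructor
    · intro h z hz
      obtain ⟨j', hj'0, hj'le, hrest⟩ := h z hz
      have hj'1 : Q.1 (![(1 : K), u 1 / u 0, u 2 / u 0] j') = 1 := by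
        apply le_antisymm
        · have := hle' j'
          rwa [hV'0, map_one] at this
        · have := hj'le 0
          rwa [hV'0, map_one] at this
      have := inLoc_transfer Q _ _ A⁻¹ (u 0)⁻¹ hrel2 j' j₀ hj'0 hj₀.1
        (by rw [hj'1, map_inv₀, hQu0, inv_mul_cancel₀ (Q.v_ne_zero hj₀.1)]) hrest
      exact ⟨j₀, hj₀.1, hj₀.2, this⟩
    · intro h z hz
      obtain ⟨j, hj0, hjle, hrest⟩ := h z hz
      have hjeq : Q.1 (![(1 : K), x, y] j) = Q.1 (![(1 : K), x, y] j₀) :=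
        le_antisymm (hj₀.2 j) (hjle j₀)
      have := inLoc_transfer Q _ _ A (u 0) hrel1 j 0 hj0 (by rw [hV'0]; exact one_ne_zero)
        (by rw [hjeq, hV'0, map_one, mul_one, hQu0]) hrest
      exact ⟨0, by rw [hV'0]; exact one_ne_zero, hle', this⟩
  refine ⟨by linarith [hB1], ?_⟩
  rw [sub_eq_zero, hB2, hns]

end final

end Groth.Agent.H4.AdjC
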