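import Groth.Agent.H4.ConeInf

set_option autoImplicit false

namespace Groth.Agent.H4.ConeRetrAlg

open CategoryTheory CategoryTheory.Limits AlgebraicGeometry TopologicalSpace Opposite
open HomogeneousLocalization
open Groth.Agent.H4
open scoped HomogeneousIdeal

universe u

section General

theorem hom_ext_of_cover {T Z : Scheme.{u}} {J : Type u} (S : J → Scheme.{u}) (a : ∀ j, S j ⟶ T)
    [∀ j, IsOpenImmersion (a j)] (hcov : ∀ x : T, ∃ j, x ∈ Set.range (a j).base)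
    (r r' : T ⟶ Z) (h : ∀ j, a j ≫ r = a j ≫ r') : r = r' := by
  let 𝒰 : T.OpenCover := Scheme.Cover.mkOfCovers J S a
    (fun x => by obtain ⟨j, y, hy⟩ := hcov x; exact ⟨j, y, hy⟩) (fun j => inferInstance)
  exact 𝒰.hom_ext r r' h

theorem glue_refine {T Z : Scheme.{u}} {J : Type u} (S : J → Scheme.{u}) (a : ∀ j, S j ⟶ T)
    [∀ j, IsOpenImmersion (a j)] (hcov : ∀ x : T, ∃ j, x ∈ Set.range (a j).base)
    (g : ∀ j, S j ⟶ Z)
    (href : ∀ (i j : J) (si : S i) (sj : S j), (a i).base si = (a j).base sj →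
      ∃ (k : J) (u : S k ⟶ S i) (v : S k ⟶ S j), u ≫ a i = a k ∧ v ≫ a j = a k ∧
        u ≫ g i = g k ∧ v ≫ g j = g k ∧ (a i).base si ∈ Set.range (a k).base) :
    ∃ r : T ⟶ Z, ∀ j, a j ≫ r = g j := by
  let 𝒰 : T.OpenCover := Scheme.Cover.mkOfCovers J S a
    (fun x => by obtain ⟨j, y, hy⟩ := hcov x; exact ⟨j, y, hy⟩) (fun j => inferInstance)
  have hf : ∀ i j : 𝒰.I₀, pullback.fst (𝒰.f i) (𝒰.f j) ≫ g i =
      pullback.snd (𝒰.f i) (𝒰.f j) ≫ g j := by
    intro i j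
    change pullback.fst (a i) (a j) ≫ g i = pullback.snd (a i) (a j) ≫ g j
    have key : ∀ y : ↥(pullback (a i) (a j)), ∃ (k : J) (u : S k ⟶ S i) (v : S k ⟶ S j)
        (h1 : u ≫ a i = a k) (h2 : v ≫ a j = a k), u ≫ g i = g k ∧ v ≫ g j = g k ∧
        ∃ w : S k, (pullback.lift u v (h1.trans h2.symm)).base w = y := by
      intro y
      have hy : (a i).base ((pullback.fst (a i) (a j)).base y) =
          (a j).base ((pullback.snd (a i) (a j)).base y) := by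
        rw [← Scheme.Hom.comp_apply, ← Scheme.Hom.comp_apply, pullback.condition]
      obtain ⟨k, u, v, h1, h2, h3, h4, ⟨w, hw⟩⟩ := href i j _ _ hy
      refine ⟨k, u, v, h1, h2, h3, h4, w, ?_⟩
      apply (pullback.fst (a i) (a j) ≫ a i).isOpenEmbedding.injective
      rw [← Scheme.Hom.comp_apply, pullback.lift_fst_assoc, h1, hw]
      rfl
    choose k u v h1 h2 h3 h4 w hw using key
    let 𝒱 : (pullback (a i) (a j)).OpenCover :=
      Scheme.Cover.mkOfCovers ↥(pullback (a i) (a j)) (fun y => S (k y))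
        (fun y => pullback.lift (u y) (v y) ((h1 y).trans (h2 y).symm))
        (fun y => ⟨y, w y, hw y⟩)
        (fun y => by
          have : IsOpenImmersion (pullback.lift (u y) (v y) ((h1 y).trans (h2 y).symm) ≫
              (pullback.fst (a i) (a j) ≫ a i)) := by
            rw [pullback.lift_fst_assoc, h1 y]; infer_instance
          exact IsOpenImmersion.of_comp _ (pullback.fst (a i) (a j) ≫ a i))
    refine 𝒱.hom_ext _ _ fun y => ?_
    change pullback.lift (u y) (v y) ((h1 y).trans (h2 y).symm) ≫ pullback.fst (a i) (a j) ≫ g i =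
      pullback.lift (u y) (v y) ((h1 y).trans (h2 y).symm) ≫ pullback.snd (a i) (a j) ≫ g j
    rw [pullback.lift_fst_assoc, pullback.lift_snd_assoc, h3 y, h4 y]
  exact ⟨𝒰.glueMorphisms g hf, fun j => 𝒰.ι_glueMorphisms g hf j⟩

end General

section Ring

variable {A B : Type u} [CommRing A] [CommRing B] {𝒜 : ℕ → AddSubgroup A} {ℬ : ℕ → AddSubgroup B}
  [GradedRing 𝒜] [GradedRing ℬ] (ι : 𝒜 →+*ᵍ ℬ) (z : B) (hz : z ∈ ℬ 1)

/-- evaluation at `z = 0` -/
noncomputable def evalZero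
    (hbij : Function.Bijective (Polynomial.eval₂RingHom ι.toRingHom z)) : B →+* A :=
  (Polynomial.evalRingHom 0).comp (RingEquiv.ofBijective _ hbij).symm.toRingHom

theorem evalZero_ι (hbij : Function.Bijective (Polynomial.eval₂RingHom ι.toRingHom z)) (a : A) :
    evalZero ι z hbij (ι a) = a := by
  have e : RingEquiv.ofBijective _ hbij (Polynomial.C a) = ι a := by
    rw [RingEquiv.ofBijective_apply, Polynomial.coe_eval₂RingHom, Polynomial.eval₂_C]; rfl
  have e' : (RingEquiv.ofBijective _ hbij).symm (ι a) = Polynomial.C a := by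
    rw [RingEquiv.symm_apply_eq]; exact e.symm
  show Polynomial.eval 0 ((RingEquiv.ofBijective _ hbij).symm (ι a)) = a
  rw [e', Polynomial.eval_C]

theorem evalZero_z (hbij : Function.Bijective (Polynomial.eval₂RingHom ι.toRingHom z)) :
    evalZero ι z hbij z = 0 := by
  have e : RingEquiv.ofBijective _ hbij Polynomial.X = z := by
    rw [RingEquiv.ofBijective_apply, Polynomial.coe_eval₂RingHom, Polynomial.eval₂_X]
  have e' : (RingEquiv.ofBijective _ hbij).symm z = Polynomial.X := by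
    rw [RingEquiv.symm_apply_eq]; exact e.symm
  show Polynomial.eval 0 ((RingEquiv.ofBijective _ hbij).symm z) = 0
  rw [e', Polynomial.eval_X]

include hz in
theorem evalZero_mem (hbij : Function.Bijective (Polynomial.eval₂RingHom ι.toRingHom z)) {n : ℕ}
    {y : B} (hy : y ∈ ℬ n) : evalZero ι z hbij y ∈ 𝒜 n := by
  obtain ⟨p, rfl⟩ := hbij.2 y
  rw [Polynomial.coe_eval₂RingHom] at hy ⊢
  rw [ConeAlg.eq_sum_of_mem ι z hz p n hy, map_sum]
  refine sum_mem fun j _ => ?_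
  rw [map_mul, map_pow, evalZero_ι, evalZero_z]
  rcases Nat.eq_zero_or_pos j with rfl | hj
  · rw [pow_zero, mul_one, Nat.sub_zero]; exact ConeAlg.proj_mem 𝒜 n _
  · rw [zero_pow hj.ne', mul_zero]; exact zero_mem _

/-- evaluation at `z = 0` as a graded homomorphism -/
noncomputable def evalZeroG
    (hbij : Function.Bijective (Polynomial.eval₂RingHom ι.toRingHom z)) : ℬ →+*ᵍ 𝒜 :=
  { evalZero ι z hbij with map_mem := fun hx => evalZero_mem ι z hz hbij hx }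

theorem evalZeroG_ι (hbij : Function.Bijective (Polynomial.eval₂RingHom ι.toRingHom z)) (a : A) :
    evalZeroG ι z hz hbij (ι a) = a := evalZero_ι ι z hbij a

theorem specMap_awayMap_surjective (θg : ℬ →+*ᵍ 𝒜) (hθι : ∀ a, θg (ι a) = a) (f : A) :
    Function.Surjective (Spec.map (CommRingCat.ofHom (Away.map ι f))).base := by
  have hχ : θg.comp ι = GradedRingHom.id 𝒜 := DFunLike.ext _ _ hθι
  have key : ∀ χ : 𝒜 →+*ᵍ 𝒜, χ = GradedRingHom.id 𝒜 →
      IsIso (Spec.map (CommRingCat.ofHom (Away.map χ f))) := by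
    rintro _ rfl
    have hb : Function.Bijective (Away.map (GradedRingHom.id 𝒜) f) := by
      rw [Away.map_id]; exact Function.bijective_id
    have : IsIso (CommRingCat.ofHom (Away.map (GradedRingHom.id 𝒜) f)) :=
      (ConcreteCategory.isIso_iff_bijective _).mpr hb
    infer_instance
  have := key _ hχ
  have e : Spec.map (CommRingCat.ofHom (Away.map θg (ι f))) ≫
      Spec.map (CommRingCat.ofHom (Away.map ι f)) =
      Spec.map (CommRingCat.ofHom (Away.map (θg.comp ι) f)) := by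
    rw [← Spec.map_comp, ← CommRingCat.ofHom_comp]
    exact congrArg (fun t => Spec.map (CommRingCat.ofHom t)) (Away.map_comp ι θg f).symm
  intro v'
  obtain ⟨t, ht⟩ := (Spec.map (CommRingCat.ofHom (Away.map (θg.comp ι) f))).homeomorph.surjective v'
  refine ⟨(Spec.map (CommRingCat.ofHom (Away.map θg (ι f)))).base t, ?_⟩
  have h2 := congrArg (fun k : Spec (CommRingCat.of (Away 𝒜 (θg (ι f)))) ⟶
    Spec (CommRingCat.of (Away 𝒜 f)) => k.base t) e
  exact h2.trans ht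

theorem awayι_of_eq_id (χ : 𝒜 →+*ᵍ 𝒜) (hχ : χ = GradedRingHom.id 𝒜) {d : ℕ} (hd : 0 < d) (f : A)
    (hf : f ∈ 𝒜 d) :
    Spec.map (CommRingCat.ofHom (Away.map χ f)) ≫ Proj.awayι 𝒜 f hf hd =
      Proj.awayι 𝒜 (χ f) (Graded.map_mem χ hf) hd := by
  subst hχ
  have h1 : Spec.map (CommRingCat.ofHom (Away.map (GradedRingHom.id 𝒜) f)) =
      𝟙 (Spec (CommRingCat.of (Away 𝒜 f))) := by
    rw [Away.map_id]
    exact (congrArg Spec.map (CommRingCat.ofHom_id)).trans (Spec.map_id _)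
  change Spec.map (CommRingCat.ofHom (Away.map (GradedRingHom.id 𝒜) f)) ≫
    Proj.awayι 𝒜 f hf hd = Proj.awayι 𝒜 f hf hd
  exact (congrArg (fun t => t ≫ Proj.awayι 𝒜 f hf hd) h1).trans (Category.id_comp _)

theorem awayMap_isLocalizationElem {d e : ℕ} {f g : A} (hf : f ∈ 𝒜 d) (hg : g ∈ 𝒜 e) :
    Away.map ι f (Away.isLocalizationElem hf hg) =
      Away.isLocalizationElem (Graded.map_mem ι hf) (Graded.map_mem ι hg) := by
  rw [Away.isLocalizationElem, Away.isLocalizationElem, Away.map_mk]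
  exact ConeAlg.awayMk_congr ℬ _ e (map_pow ι g d) _ _

theorem mem_basicOpen_iff_ring {d d' : ℕ} (hd : 0 < d) (hd' : 0 < d') {f f' : A} (hf : f ∈ 𝒜 d)
    (hf' : f' ∈ 𝒜 d') (w : Spec (CommRingCat.of (Away ℬ (ι f')))) :
    (Proj.awayι ℬ (ι f') (Graded.map_mem ι hf') hd').base w ∈ Proj.basicOpen ℬ (ι f) ↔
      (Proj.awayι 𝒜 f' hf' hd').base ((Spec.map (CommRingCat.ofHom (Away.map ι f'))).base w) ∈
        Proj.basicOpen 𝒜 f := by
  have h1 := Proj.awayι_preimage_basicOpen ℬ (Graded.map_mem ι hf') hd' (Graded.map_mem ι hf) hd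
  have h2 := Proj.awayι_preimage_basicOpen 𝒜 hf' hd' hf hd
  have e1 : (Proj.awayι ℬ (ι f') (Graded.map_mem ι hf') hd').base w ∈ Proj.basicOpen ℬ (ι f) ↔
      w ∈ Proj.awayι ℬ (ι f') (Graded.map_mem ι hf') hd' ⁻¹ᵁ Proj.basicOpen ℬ (ι f) := Iff.rfl
  have e2 : (Proj.awayι 𝒜 f' hf' hd').base
      ((Spec.map (CommRingCat.ofHom (Away.map ι f'))).base w) ∈ Proj.basicOpen 𝒜 f ↔
      (Spec.map (CommRingCat.ofHom (Away.map ι f'))).base w ∈
        Proj.awayι 𝒜 f' hf' hd' ⁻¹ᵁ Proj.basicOpen 𝒜 f := Iff.rfl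
  rw [e1, e2, h1, h2, ← awayMap_isLocalizationElem ι hf' hf]
  exact Iff.rfl

section Refine

variable {A'' B'' : Type u} [CommRing A''] [CommRing B''] {𝒜'' : ℕ → AddSubgroup A''}
  {ℬ'' : ℕ → AddSubgroup B''} [GradedRing 𝒜''] [GradedRing ℬ'']

/-- the refinement map: restrict and then multiply -/
noncomputable def refMap (ρ : 𝒜 →+*ᵍ 𝒜'') (s : A) {e : ℕ} {g₂ : A''} (hg₂ : g₂ ∈ 𝒜'' e) {x : A''}
    (hx : x = ρ s * g₂) : Away 𝒜 s →+* Away 𝒜'' x :=
  (awayMap 𝒜'' hg₂ hx).comp (Away.map ρ s)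

theorem spec_refMap_awayι (ρ : 𝒜 →+*ᵍ 𝒜'') (hirr : 𝒜''₊ ≤ 𝒜₊.map ρ) {d : ℕ} (hd : 0 < d) (s : A)
    (hs : s ∈ 𝒜 d) {e : ℕ} {g₂ : A''} (hg₂ : g₂ ∈ 𝒜'' e) {x : A''} (hx : x = ρ s * g₂) {m : ℕ}
    (hme : m = d + e) (hxm : x ∈ 𝒜'' m) (hm : 0 < m) :
    Spec.map (CommRingCat.ofHom (refMap ρ s hg₂ hx)) ≫ Proj.awayι 𝒜 s hs hd =
      Proj.awayι 𝒜'' x hxm hm ≫ Proj.map ρ hirr := by
  subst hme
  unfold refMap
  rw [CommRingCat.ofHom_comp, Spec.map_comp, Category.assoc, ← Proj.awayι_comp_map ρ hirr hd s hs,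
    ← Category.assoc, Proj.SpecMap_awayMap_awayι 𝒜'' (Graded.map_mem ρ hs) hd hg₂ hx]

theorem refMap_comm (ι'' : 𝒜'' →+*ᵍ ℬ'') (ρA : 𝒜 →+*ᵍ 𝒜'') (ρB : ℬ →+*ᵍ ℬ'')
    (hρ : ∀ a, ρB (ι a) = ι'' (ρA a)) {d : ℕ} (f : A) (hf : f ∈ 𝒜 d) {e : ℕ} {f₂ : A''}
    (hf₂ : f₂ ∈ 𝒜'' e) {x : A''} (hx : x = ρA f * f₂) (hxB : ι'' x = ρB (ι f) * ι'' f₂) :
    (Away.map ι'' x).comp (refMap ρA f hf₂ hx) =
      (refMap ρB (ι f) (Graded.map_mem ι'' hf₂) hxB).comp (Away.map ι f) := by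
  refine RingHom.ext fun q => ?_
  obtain ⟨n, a, ha, rfl⟩ := Away.mk_surjective 𝒜 hf q
  simp only [refMap, RingHom.comp_apply, Away.map_mk, awayMap_mk]
  exact ConeAlg.awayMk_congr ℬ'' _ n (by rw [map_mul, map_pow, hρ]) _ _

end Refine

end Ring

end Groth.Agent.H4.ConeRetrAlg
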