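import Mathlib
import Groth.Prelude.Def_AffAlg
import Groth.Agent.Lib.Helper3.AffAlgIso
import Groth.Agent.H4.ConeRetrAlg

set_option autoImplicit false

namespace Groth.Agent.H4.AffAlgBij

open AlgebraicGeometry CategoryTheory CategoryTheory.Limits Opposite TopologicalSpace
open Groth.Agent.H4.ConeRetrAlg

universe u

variable {X Y S : Scheme.{u}} (f : X ⟶ S) (g : Y ⟶ S)

theorem algHom_app' (h : Y ⟶ X) (w : h ≫ f = g) (U : S.Opens) :
    (AffAlg.algHom f g h w).app (op U) =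
      h.appLE (f ⁻¹ᵁ U) (g ⁻¹ᵁ U) (le_of_eq (by rw [← w]; rfl)) := by
  subst w
  rw [Groth.Agent.H3.AffAlgIso.algHom_app, Scheme.Hom.app_eq_appLE]
  rfl

theorem toSpecΓ_cancel {R : CommRingCat.{u}} (V : Y.Opens) (a b : R ⟶ Γ(Y, V))
    (hab : V.toSpecΓ ≫ Spec.map a = V.toSpecΓ ≫ Spec.map b) : a = b := by
  have h1 := congrArg (fun t => t.appTop) hab
  simp only [Scheme.Hom.comp_appTop, Scheme.Opens.toSpecΓ_appTop] at h1
  rw [← Category.assoc, ← Category.assoc, Scheme.ΓSpecIso_naturality, Scheme.ΓSpecIso_naturality,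
    Category.assoc, Category.assoc] at h1
  have h2 := (cancel_epi (Scheme.ΓSpecIso R).hom).mp h1
  exact (cancel_mono V.topIso.inv).mp h2

theorem hcov (y : Y) : ∃ U : S.affineOpens, y ∈ Set.range (g ⁻¹ᵁ U.1).ι.base := by
  obtain ⟨U, hU, hx, -⟩ := exists_isAffineOpen_mem_and_subset (x := g.base y)
    (U := (⊤ : S.Opens)) trivial
  refine ⟨⟨U, hU⟩, ?_⟩
  rw [Scheme.Opens.range_ι]
  exact hx

theorem hbasis : Opens.IsBasis (Set.range (fun U : S.affineOpens => U.1)) := by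
  rw [show Set.range (fun U : S.affineOpens => U.1) = S.affineOpens from Subtype.range_coe]
  exact S.isBasis_affineOpens

variable [IsAffineHom f]

theorem key (h : Y ⟶ X) (w : h ≫ f = g) (U : S.Opens) (hU : IsAffineOpen U) :
    (g ⁻¹ᵁ U).ι ≫ h =
      (g ⁻¹ᵁ U).toSpecΓ ≫ Spec.map ((AffAlg.algHom f g h w).app (op U)) ≫
        (hU.preimage f).fromSpec := by
  rw [algHom_app', Scheme.Opens.toSpecΓ_SpecMap_appLE_assoc, IsAffineOpen.toSpecΓ_fromSpec,
    Scheme.Hom.resLE_comp_ι]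

theorem algOf_injective : Function.Injective (AffAlg.algOf f g) := by
  rintro ⟨h₁, w₁⟩ ⟨h₂, w₂⟩ he
  have he' : AffAlg.algHom f g h₁ w₁ = AffAlg.algHom f g h₂ w₂ := congrArg Subtype.val he
  apply Subtype.ext
  show h₁ = h₂
  refine hom_ext_of_cover (fun U : S.affineOpens => ((g ⁻¹ᵁ U.1 : Y.Opens) : Scheme.{u}))
    (fun U => (g ⁻¹ᵁ U.1).ι) (hcov g) h₁ h₂ (fun U => ?_)
  rw [key f g h₁ w₁ U.1 U.2, key f g h₂ w₂ U.1 U.2, he']

theorem algOf_surjective : Function.Surjective (AffAlg.algOf f g) := by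
  rintro ⟨ω, hω⟩
  have hres : ∀ (U V : S.affineOpens) (hVU : V.1 ≤ U.1),
      Y.homOfLE (g.preimage_mono hVU) ≫
        ((g ⁻¹ᵁ U.1).toSpecΓ ≫ Spec.map (ω.app (op U.1)) ≫ (U.2.preimage f).fromSpec) =
      (g ⁻¹ᵁ V.1).toSpecΓ ≫ Spec.map (ω.app (op V.1)) ≫ (V.2.preimage f).fromSpec := by
    intro U V hVU
    have nat : ω.app (op U.1) ≫ Y.presheaf.map (homOfLE (g.preimage_mono hVU)).op =
        X.presheaf.map (homOfLE (f.preimage_mono hVU)).op ≫ ω.app (op V.1) :=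
      (ω.naturality (homOfLE hVU).op).symm
    calc Y.homOfLE (g.preimage_mono hVU) ≫
          ((g ⁻¹ᵁ U.1).toSpecΓ ≫ Spec.map (ω.app (op U.1)) ≫ (U.2.preimage f).fromSpec)
        = (g ⁻¹ᵁ V.1).toSpecΓ ≫ Spec.map (Y.presheaf.map (homOfLE (g.preimage_mono hVU)).op) ≫
            Spec.map (ω.app (op U.1)) ≫ (U.2.preimage f).fromSpec := by
          rw [Scheme.Opens.toSpecΓ_SpecMap_presheaf_map_assoc]
      _ = (g ⁻¹ᵁ V.1).toSpecΓ ≫
            Spec.map (ω.app (op U.1) ≫ Y.presheaf.map (homOfLE (g.preimage_mono hVU)).op) ≫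
              (U.2.preimage f).fromSpec := by
          rw [Spec.map_comp_assoc]
      _ = (g ⁻¹ᵁ V.1).toSpecΓ ≫
            Spec.map (X.presheaf.map (homOfLE (f.preimage_mono hVU)).op ≫ ω.app (op V.1)) ≫
              (U.2.preimage f).fromSpec := by
          rw [nat]
      _ = (g ⁻¹ᵁ V.1).toSpecΓ ≫ Spec.map (ω.app (op V.1)) ≫
            Spec.map (X.presheaf.map (homOfLE (f.preimage_mono hVU)).op) ≫
              (U.2.preimage f).fromSpec := by
          rw [Spec.map_comp_assoc]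
      _ = _ := by rw [IsAffineOpen.map_fromSpec]
  obtain ⟨h, hh⟩ := glue_refine (fun U : S.affineOpens => ((g ⁻¹ᵁ U.1 : Y.Opens) : Scheme.{u}))
    (fun U => (g ⁻¹ᵁ U.1).ι) (hcov g)
    (fun U => (g ⁻¹ᵁ U.1).toSpecΓ ≫ Spec.map (ω.app (op U.1)) ≫ (U.2.preimage f).fromSpec)
    (by
      intro U U' si sj hsij
      have hyU : (g ⁻¹ᵁ U.1).ι.base si ∈ g ⁻¹ᵁ U.1 := by
        have := Set.mem_range_self (f := (g ⁻¹ᵁ U.1).ι.base) si
        rwa [Scheme.Opens.range_ι] at this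
      have hyU' : (g ⁻¹ᵁ U.1).ι.base si ∈ g ⁻¹ᵁ U'.1 := by
        have := Set.mem_range_self (f := (g ⁻¹ᵁ U'.1).ι.base) sj
        rw [Scheme.Opens.range_ι, ← hsij] at this
        exact this
      obtain ⟨V, hV, hyV, hVle⟩ := exists_isAffineOpen_mem_and_subset
        (x := g.base ((g ⁻¹ᵁ U.1).ι.base si)) (U := U.1 ⊓ U'.1) ⟨hyU, hyU'⟩
      have hVU : V ≤ U.1 := fun x hx => (hVle hx).1
      have hVU' : V ≤ U'.1 := fun x hx => (hVle hx).2
      refine ⟨⟨V, hV⟩, Y.homOfLE (g.preimage_mono hVU), Y.homOfLE (g.preimage_mono hVU'),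
        Y.homOfLE_ι _, Y.homOfLE_ι _, hres U ⟨V, hV⟩ hVU, hres U' ⟨V, hV⟩ hVU', ?_⟩
      rw [Scheme.Opens.range_ι]
      exact hyV)
  have hw : h ≫ f = g := by
    refine hom_ext_of_cover (fun U : S.affineOpens => ((g ⁻¹ᵁ U.1 : Y.Opens) : Scheme.{u}))
      (fun U => (g ⁻¹ᵁ U.1).ι) (hcov g) _ _ (fun U => ?_)
    rw [← Category.assoc, hh U]
    have e1 : (U.2.preimage f).fromSpec ≫ f = Spec.map (f.app U.1) ≫ U.2.fromSpec := by
      rw [Scheme.Hom.app_eq_appLE]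
      exact (IsAffineOpen.SpecMap_appLE_fromSpec f U.2 (U.2.preimage f) le_rfl).symm
    have e2 : f.app U.1 ≫ ω.app (op U.1) = g.app U.1 := NatTrans.congr_app hω (op U.1)
    rw [Category.assoc, Category.assoc, e1, ← Spec.map_comp_assoc, e2,
      Scheme.Opens.toSpecΓ_naturality_assoc, IsAffineOpen.toSpecΓ_fromSpec, morphismRestrict_ι]
  refine ⟨⟨h, hw⟩, Subtype.ext ?_⟩
  show AffAlg.algHom f g h hw = ω
  refine TopCat.Sheaf.hom_ext (B := fun U : S.affineOpens => U.1) (AffAlg.alg f)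
    ⟨AffAlg.alg g, TopCat.Sheaf.pushforward_sheaf_of_sheaf _ Y.sheaf.property⟩ hbasis (fun U => ?_)
  apply toSpecΓ_cancel (g ⁻¹ᵁ U.1)
  rw [← cancel_mono (U.2.preimage f).fromSpec, Category.assoc, Category.assoc,
    ← key f g h hw U.1 U.2]
  exact hh U

theorem main_S3569 {X Y S : Scheme.{u}} (f : X ⟶ S) [IsAffineHom f] (g : Y ⟶ S) :
    Function.Bijective (AffAlg.algOf f g) := by
  exact ⟨algOf_injective f g, algOf_surjective f g⟩

end Groth.Agent.H4.AffAlgBij
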