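import Mathlib

open CategoryTheory Limits Opposite TopologicalSpace AlgebraicGeometry

namespace Groth.Agent.H4.AffineBasisSheaf

universe u

variable {X : Scheme.{u}}

/-! ### restriction of sections of the structure sheaf -/

/-- restriction of functions between affine opens -/
noncomputable def rs {U V : X.affineOpens} (h : V ≤ U) :
    Γ(X, (U : X.Opens)) →+* Γ(X, (V : X.Opens)) :=
  (X.presheaf.map (homOfLE (show (V : X.Opens) ≤ (U : X.Opens) from h)).op).hom

lemma basicOpen_rs {U V : X.affineOpens} (h : V ≤ U) (f : Γ(X, (U : X.Opens))) :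
    X.basicOpen (rs h f) = (V : X.Opens) ⊓ X.basicOpen f :=
  X.basicOpen_res f (homOfLE (show (V : X.Opens) ≤ (U : X.Opens) from h)).op

lemma isUnit_rs {U Z : X.affineOpens} (h : Z ≤ U) (g : Γ(X, (U : X.Opens)))
    (hZ : (Z : X.Opens) ≤ X.basicOpen g) : IsUnit (rs h g) := by
  have h1 : IsUnit ((X.presheaf.map (homOfLE (X.basicOpen_le g)).op).hom g) :=
    RingedSpace.isUnit_res_basicOpen X.toLocallyRingedSpace.toRingedSpace g
  have h2 := h1.map (X.presheaf.map (homOfLE hZ).op).hom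
  have h3 : (X.presheaf.map (homOfLE hZ).op).hom
      ((X.presheaf.map (homOfLE (X.basicOpen_le g)).op).hom g) = rs h g := by
    unfold rs
    rw [← RingHom.comp_apply, ← CommRingCat.hom_comp, ← Functor.map_comp]
    rfl
  rwa [h3] at h2

lemma span_restrict {U W : X.affineOpens} (h : W ≤ U) {n : ℕ}
    (s a : Fin n → Γ(X, (U : X.Opens))) (hu : IsUnit (rs h (∑ i, a i * s i))) :
    ∃ a' : Fin n → Γ(X, (W : X.Opens)), ∑ i, a' i * rs h (s i) = 1 := by
  obtain ⟨v, hv⟩ := isUnit_iff_exists_inv'.1 hu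
  refine ⟨fun i => v * rs h (a i), ?_⟩
  have : ∑ i, (v * rs h (a i)) * rs h (s i) = v * rs h (∑ i, a i * s i) := by
    rw [map_sum, Finset.mul_sum]
    exact Finset.sum_congr rfl (fun i _ => by rw [map_mul, mul_assoc])
  rw [this, hv]

/-! ### restriction in `F` -/

/-- restriction maps of `F` -/
def res (F : (X.affineOpens)ᵒᵖ ⥤ Type u) {U V : X.affineOpens} (h : V ≤ U)
    (x : F.obj (op U)) : F.obj (op V) :=
  F.map (homOfLE h).op x

lemma res_res (F : (X.affineOpens)ᵒᵖ ⥤ Type u) {U V W : X.affineOpens} (h1 : V ≤ U)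
    (h2 : W ≤ V) (x : F.obj (op U)) :
    res F h2 (res F h1 x) = res F (h2.trans h1) x :=
  (F.map_comp_apply (homOfLE h1).op (homOfLE h2).op x).symm

lemma res_of_eq (F : (X.affineOpens)ᵒᵖ ⥤ Type u) {U V Z : X.affineOpens} (hVU : V ≤ U)
    (hZV : Z ≤ V) (hZU : Z ≤ U) {t : F.obj (op U)} {x : F.obj (op V)}
    (h : res F hVU t = x) : res F hZU t = res F hZV x := by
  rw [← h, res_res]

/-- hypothesis (b) -/
def HB (F : (X.affineOpens)ᵒᵖ ⥤ Type u) : Prop :=
  ∀ (U V W VW : X.affineOpens) (f g : Γ(X, (U : X.Opens))),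
    (V : X.Opens) = X.basicOpen f → (W : X.Opens) = X.basicOpen g →
    (VW : X.Opens) = X.basicOpen (f * g) → (U : X.Opens) = (V : X.Opens) ⊔ (W : X.Opens) →
    ∀ (hV : V ≤ U) (hW : W ≤ U) (h1 : VW ≤ V) (h2 : VW ≤ W),
    Function.Injective
      (fun s : F.obj (op U) => (F.map (homOfLE hV).op s, F.map (homOfLE hW).op s)) ∧
    Set.range (fun s : F.obj (op U) => (F.map (homOfLE hV).op s, F.map (homOfLE hW).op s)) =
      {p | F.map (homOfLE h1).op p.1 = F.map (homOfLE h2).op p.2}

lemma singleton_of_zero_eq_one (F : (X.affineOpens)ᵒᵖ ⥤ Type u) (E : X.affineOpens)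
    (hE : (E : X.Opens) = ⊥) (haE : Nonempty (F.obj (op E)) ∧ Subsingleton (F.obj (op E)))
    (U : X.affineOpens) (h01 : (0 : Γ(X, (U : X.Opens))) = 1) :
    Nonempty (F.obj (op U)) ∧ Subsingleton (F.obj (op U)) := by
  have hU : (U : X.Opens) = ⊥ := by
    have h1 : X.basicOpen (1 : Γ(X, (U : X.Opens))) = U := X.basicOpen_of_isUnit isUnit_one
    have h0 : X.basicOpen (0 : Γ(X, (U : X.Opens))) = ⊥ := X.basicOpen_zero _
    calc (U : X.Opens) = X.basicOpen (1 : Γ(X, (U : X.Opens))) := h1.symm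
      _ = X.basicOpen (0 : Γ(X, (U : X.Opens))) := by rw [h01]
      _ = ⊥ := h0
  obtain rfl : U = E := Subtype.ext (hU.trans hE.symm)
  exact haE

lemma cover2 (U V W : X.affineOpens) (f g c : Γ(X, (U : X.Opens))) (hc : c * f + g = 1)
    (hVf : (V : X.Opens) = X.basicOpen f) (hWg : (W : X.Opens) = X.basicOpen g) :
    (U : X.Opens) = (V : X.Opens) ⊔ (W : X.Opens) := by
  apply le_antisymm
  · have hspan : Ideal.span ({f, g} : Set Γ(X, (U : X.Opens))) = ⊤ := by
      rw [Ideal.eq_top_iff_one, Ideal.mem_span_pair]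
      exact ⟨c, 1, by rw [one_mul]; exact hc⟩
    have h := (U.2.self_le_iSup_basicOpen_iff).2 hspan
    refine h.trans (iSup_le ?_)
    rintro ⟨h', hh⟩
    rcases hh with rfl | rfl
    · rw [hVf]; exact le_sup_left
    · rw [hWg]; exact le_sup_right
  · rw [hVf, hWg]; exact sup_le (X.basicOpen_le f) (X.basicOpen_le g)

lemma sep2 (F : (X.affineOpens)ᵒᵖ ⥤ Type u) (hb : HB F) (U V W : X.affineOpens)
    (f g c : Γ(X, (U : X.Opens))) (hc : c * f + g = 1)
    (hVf : (V : X.Opens) = X.basicOpen f) (hWg : (W : X.Opens) = X.basicOpen g)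
    (hV : V ≤ U) (hW : W ≤ U) (t t' : F.obj (op U))
    (e1 : res F hV t = res F hV t') (e2 : res F hW t = res F hW t') : t = t' := by
  have hU := cover2 U V W f g c hc hVf hWg
  have h1 : X.affineBasicOpen (f * g) ≤ V := by
    show X.basicOpen (f * g) ≤ (V : X.Opens)
    rw [X.basicOpen_mul, hVf]; exact inf_le_left
  have h2 : X.affineBasicOpen (f * g) ≤ W := by
    show X.basicOpen (f * g) ≤ (W : X.Opens)
    rw [X.basicOpen_mul, hWg]; exact inf_le_right
  apply (hb U V W (X.affineBasicOpen (f * g)) f g hVf hWg rfl hU hV hW h1 h2).1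
  show (res F hV t, res F hW t) = (res F hV t', res F hW t')
  rw [e1, e2]

lemma glue2 (F : (X.affineOpens)ᵒᵖ ⥤ Type u) (hb : HB F) (U V W : X.affineOpens)
    (f g c : Γ(X, (U : X.Opens))) (hc : c * f + g = 1)
    (hVf : (V : X.Opens) = X.basicOpen f) (hWg : (W : X.Opens) = X.basicOpen g)
    (hV : V ≤ U) (hW : W ≤ U) (x : F.obj (op V)) (y : F.obj (op W))
    (hxy : ∀ (h1 : X.affineBasicOpen (f * g) ≤ V) (h2 : X.affineBasicOpen (f * g) ≤ W),
      res F h1 x = res F h2 y) :
    ∃ t : F.obj (op U), res F hV t = x ∧ res F hW t = y := by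
  have hU := cover2 U V W f g c hc hVf hWg
  have h1 : X.affineBasicOpen (f * g) ≤ V := by
    show X.basicOpen (f * g) ≤ (V : X.Opens)
    rw [X.basicOpen_mul, hVf]; exact inf_le_left
  have h2 : X.affineBasicOpen (f * g) ≤ W := by
    show X.basicOpen (f * g) ≤ (W : X.Opens)
    rw [X.basicOpen_mul, hWg]; exact inf_le_right
  have hr := (hb U V W (X.affineBasicOpen (f * g)) f g hVf hWg rfl hU hV hW h1 h2).2
  have hmem : ((x, y) : F.obj (op V) × F.obj (op W)) ∈
      {p : F.obj (op V) × F.obj (op W) |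
        F.map (homOfLE h1).op p.1 = F.map (homOfLE h2).op p.2} := hxy h1 h2
  rw [← hr] at hmem
  obtain ⟨t, ht⟩ := hmem
  exact ⟨t, congrArg Prod.fst ht, congrArg Prod.snd ht⟩

/-! ### the induction on the number of standard opens -/

theorem sep (F : (X.affineOpens)ᵒᵖ ⥤ Type u) (E : X.affineOpens)
    (hE : (E : X.Opens) = ⊥) (haE : Nonempty (F.obj (op E)) ∧ Subsingleton (F.obj (op E)))
    (hb : HB F) : ∀ (n : ℕ) (U : X.affineOpens)
    (s : Fin n → Γ(X, (U : X.Opens))),
    (∃ a : Fin n → Γ(X, (U : X.Opens)), ∑ i, a i * s i = 1) →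
    ∀ (V : Fin n → X.affineOpens), (∀ i, (V i : X.Opens) = X.basicOpen (s i)) →
    ∀ (hVU : ∀ i, V i ≤ U) (t t' : F.obj (op U)),
      (∀ i, res F (hVU i) t = res F (hVU i) t') → t = t' := by
  intro n
  induction n with
  | zero =>
    intro U s hs V hV hVU t t' _
    obtain ⟨a, ha⟩ := hs
    have h01 : (0 : Γ(X, (U : X.Opens))) = 1 := by simpa using ha
    exact @Subsingleton.elim _ (singleton_of_zero_eq_one F E hE haE U h01).2 t t'
  | succ n ih =>
    intro U s hs V hV hVU t t' htt'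
    obtain ⟨a, ha⟩ := hs
    obtain ⟨g, hg⟩ : ∃ g, g = ∑ i : Fin n, a i.succ * s i.succ := ⟨_, rfl⟩
    have hfg : a 0 * s 0 + g = 1 := by rw [hg, ← ha, Fin.sum_univ_succ]
    have hWU : X.affineBasicOpen g ≤ U := X.affineBasicOpen_le g
    have hs' : ∃ a' : Fin n → Γ(X, ((X.affineBasicOpen g : X.affineOpens) : X.Opens)),
        ∑ i, a' i * rs hWU (s i.succ) = 1 :=
      span_restrict hWU (fun i => s i.succ) (fun i => a i.succ) (by
        show IsUnit (rs hWU (∑ i : Fin n, a i.succ * s i.succ))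
        rw [← hg]; exact isUnit_rs hWU g le_rfl)
    have hV'W : ∀ i : Fin n, X.affineBasicOpen (rs hWU (s i.succ)) ≤ X.affineBasicOpen g :=
      fun i => X.affineBasicOpen_le _
    have hV'V : ∀ i : Fin n, X.affineBasicOpen (rs hWU (s i.succ)) ≤ V i.succ := fun i => by
      show X.basicOpen (rs hWU (s i.succ)) ≤ (V i.succ : X.Opens)
      rw [hV i.succ, basicOpen_rs]
      exact inf_le_right
    have eW : res F hWU t = res F hWU t' := by
      apply ih (X.affineBasicOpen g) (fun i => rs hWU (s i.succ)) hs'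
        (fun i => X.affineBasicOpen (rs hWU (s i.succ))) (fun i => rfl) hV'W
      intro i
      rw [res_res, res_res]
      have h := congrArg (res F (hV'V i)) (htt' i.succ)
      rw [res_res, res_res] at h
      exact h
    exact sep2 F hb U (V 0) (X.affineBasicOpen g) (s 0) g (a 0) hfg (hV 0) rfl (hVU 0) hWU t t'
      (htt' 0) eW

theorem glue (F : (X.affineOpens)ᵒᵖ ⥤ Type u) (E : X.affineOpens)
    (hE : (E : X.Opens) = ⊥) (haE : Nonempty (F.obj (op E)) ∧ Subsingleton (F.obj (op E)))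
    (hb : HB F) : ∀ (n : ℕ) (U : X.affineOpens)
    (s : Fin n → Γ(X, (U : X.Opens))),
    (∃ a : Fin n → Γ(X, (U : X.Opens)), ∑ i, a i * s i = 1) →
    ∀ (V : Fin n → X.affineOpens), (∀ i, (V i : X.Opens) = X.basicOpen (s i)) →
    ∀ (hVU : ∀ i, V i ≤ U) (x : ∀ i, F.obj (op (V i))),
      (∀ (i j : Fin n) (Z : X.affineOpens) (hi : Z ≤ V i) (hj : Z ≤ V j),
        res F hi (x i) = res F hj (x j)) →
      ∃ t : F.obj (op U), ∀ i, res F (hVU i) t = x i := by
  intro n
  induction n with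
  | zero =>
    intro U s hs V hV hVU x _
    obtain ⟨a, ha⟩ := hs
    have h01 : (0 : Γ(X, (U : X.Opens))) = 1 := by simpa using ha
    obtain ⟨t⟩ := (singleton_of_zero_eq_one F E hE haE U h01).1
    exact ⟨t, fun i => i.elim0⟩
  | succ n ih =>
    intro U s hs V hV hVU x hx
    obtain ⟨a, ha⟩ := hs
    obtain ⟨g, hg⟩ : ∃ g, g = ∑ i : Fin n, a i.succ * s i.succ := ⟨_, rfl⟩
    have hfg : a 0 * s 0 + g = 1 := by rw [hg, ← ha, Fin.sum_univ_succ]
    have hWU : X.affineBasicOpen g ≤ U := X.affineBasicOpen_le g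
    have hs' : ∃ a' : Fin n → Γ(X, ((X.affineBasicOpen g : X.affineOpens) : X.Opens)),
        ∑ i, a' i * rs hWU (s i.succ) = 1 :=
      span_restrict hWU (fun i => s i.succ) (fun i => a i.succ) (by
        show IsUnit (rs hWU (∑ i : Fin n, a i.succ * s i.succ))
        rw [← hg]; exact isUnit_rs hWU g le_rfl)
    have hV'W : ∀ i : Fin n, X.affineBasicOpen (rs hWU (s i.succ)) ≤ X.affineBasicOpen g :=
      fun i => X.affineBasicOpen_le _
    have hV'V : ∀ i : Fin n, X.affineBasicOpen (rs hWU (s i.succ)) ≤ V i.succ := fun i => by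
      show X.basicOpen (rs hWU (s i.succ)) ≤ (V i.succ : X.Opens)
      rw [hV i.succ, basicOpen_rs]
      exact inf_le_right
    -- step 1 : glue on `D(g)`
    obtain ⟨y, hy0⟩ := ih (X.affineBasicOpen g) (fun i => rs hWU (s i.succ)) hs'
      (fun i => X.affineBasicOpen (rs hWU (s i.succ))) (fun i => rfl) hV'W
      (fun i => res F (hV'V i) (x i.succ))
      (by
        intro i j Z hi hj
        rw [res_res, res_res]
        exact hx i.succ j.succ Z _ _)
    have hy : ∀ i : Fin n, res F (hV'W i) y = res F (hV'V i) (x i.succ) := hy0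
    -- step 2 : compatibility on `D(f g)`
    have hVWU : X.affineBasicOpen (s 0 * g) ≤ U := X.affineBasicOpen_le _
    have hVW0 : X.affineBasicOpen (s 0 * g) ≤ V 0 := by
      show X.basicOpen (s 0 * g) ≤ (V 0 : X.Opens)
      rw [X.basicOpen_mul, hV 0]; exact inf_le_left
    have hVWW : X.affineBasicOpen (s 0 * g) ≤ X.affineBasicOpen g := by
      show X.basicOpen (s 0 * g) ≤ X.basicOpen g
      rw [X.basicOpen_mul]; exact inf_le_right
    have hcomp : res F hVW0 (x 0) = res F hVWW y := by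
      have hs'' : ∃ a'' : Fin n →
          Γ(X, ((X.affineBasicOpen (s 0 * g) : X.affineOpens) : X.Opens)),
          ∑ i, a'' i * rs hVWU (s i.succ) = 1 :=
        span_restrict hVWU (fun i => s i.succ) (fun i => a i.succ) (by
          show IsUnit (rs hVWU (∑ i : Fin n, a i.succ * s i.succ))
          rw [← hg]; exact isUnit_rs hVWU g hVWW)
      have hV''VW : ∀ i : Fin n, X.affineBasicOpen (rs hVWU (s i.succ)) ≤
          X.affineBasicOpen (s 0 * g) := fun i => X.affineBasicOpen_le _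
      have hV''V : ∀ i : Fin n, X.affineBasicOpen (rs hVWU (s i.succ)) ≤ V i.succ :=
        fun i => by
          show X.basicOpen (rs hVWU (s i.succ)) ≤ (V i.succ : X.Opens)
          rw [hV i.succ, basicOpen_rs]; exact inf_le_right
      have hV''V' : ∀ i : Fin n, X.affineBasicOpen (rs hVWU (s i.succ)) ≤
          X.affineBasicOpen (rs hWU (s i.succ)) := fun i => by
        show X.basicOpen (rs hVWU (s i.succ)) ≤ X.basicOpen (rs hWU (s i.succ))
        rw [basicOpen_rs, basicOpen_rs]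
        exact inf_le_inf_right _ hVWW
      apply sep F E hE haE hb n (X.affineBasicOpen (s 0 * g)) (fun i => rs hVWU (s i.succ)) hs''
        (fun i => X.affineBasicOpen (rs hVWU (s i.succ))) (fun i => rfl) hV''VW
      intro i
      rw [res_res, res_res]
      rw [hx 0 i.succ _ (le_trans (hV''VW i) hVW0) (hV''V i)]
      rw [res_of_eq F (hV'W i) (hV''V' i) _ (hy i), res_res]
    -- step 3 : glue over `U`
    obtain ⟨t, ht0, htW⟩ := glue2 F hb U (V 0) (X.affineBasicOpen g) (s 0) g (a 0) hfg (hV 0) rfl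
      (hVU 0) hWU (x 0) y (fun _ _ => hcomp)
    refine ⟨t, fun j => ?_⟩
    refine Fin.cases ?_ (fun i => ?_) j
    · exact ht0
    · have hcj : rs (hVU i.succ) (a 0) * rs (hVU i.succ) (s 0) + rs (hVU i.succ) g = 1 := by
        rw [← map_mul, ← map_add, hfg, map_one]
      have hAU : X.affineBasicOpen (rs (hVU i.succ) (s 0)) ≤ V i.succ := X.affineBasicOpen_le _
      have hBU : X.affineBasicOpen (rs (hVU i.succ) g) ≤ V i.succ := X.affineBasicOpen_le _
      have hA0 : X.affineBasicOpen (rs (hVU i.succ) (s 0)) ≤ V 0 := by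
        show X.basicOpen (rs (hVU i.succ) (s 0)) ≤ (V 0 : X.Opens)
        rw [basicOpen_rs, hV 0]; exact inf_le_right
      have hBV' : X.affineBasicOpen (rs (hVU i.succ) g) ≤
          X.affineBasicOpen (rs hWU (s i.succ)) := by
        show X.basicOpen (rs (hVU i.succ) g) ≤ X.basicOpen (rs hWU (s i.succ))
        rw [basicOpen_rs, basicOpen_rs, hV i.succ]
        exact le_of_eq (inf_comm _ _)
      have hBW : X.affineBasicOpen (rs (hVU i.succ) g) ≤ X.affineBasicOpen g :=
        hBV'.trans (hV'W i)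
      apply sep2 F hb (V i.succ) (X.affineBasicOpen (rs (hVU i.succ) (s 0)))
        (X.affineBasicOpen (rs (hVU i.succ) g)) (rs (hVU i.succ) (s 0)) (rs (hVU i.succ) g)
        (rs (hVU i.succ) (a 0)) hcj rfl rfl hAU hBU
      · rw [res_res, res_of_eq F (hVU 0) hA0 _ ht0]
        exact hx 0 i.succ _ hA0 hAU
      · rw [res_res, res_of_eq F hWU hBW _ htW, res_of_eq F (hV'W i) hBV' hBW (hy i), res_res]

/-! ### the site of affine opens -/

/-- the inclusion functor of affine opens into opens -/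
abbrev incl (X : Scheme.{u}) : X.affineOpens ⥤ X.Opens :=
  Monotone.functor (f := fun U : X.affineOpens => (U : X.Opens)) (fun _ _ h => h)

instance : (incl X).Full := ⟨fun g => ⟨homOfLE (leOfHom g), Subsingleton.elim _ _⟩⟩

instance : (incl X).Faithful := ⟨fun _ => Subsingleton.elim _ _⟩

instance : (incl X).IsCoverDense (Opens.grothendieckTopology X) where
  is_cover := by
    intro U x hx
    obtain ⟨_, ⟨V, hV, rfl⟩, hxV, hVU⟩ := X.isBasis_affineOpens.exists_subset_of_mem_open hx U.2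
    exact ⟨V, homOfLE hVU, ⟨⟨V, hV⟩, 𝟙 _, homOfLE hVU, rfl⟩, hxV⟩

/-- the induced topology on affine opens -/
abbrev JB (X : Scheme.{u}) : GrothendieckTopology X.affineOpens :=
  (incl X).inducedTopology (Opens.grothendieckTopology X)

lemma mem_JB {U : X.affineOpens} {S : Sieve U} :
    S ∈ JB X U ↔ ∀ x ∈ (U : X.Opens), ∃ (V : X.affineOpens) (f : V ⟶ U),
      S.arrows f ∧ x ∈ (V : X.Opens) := by
  show S ∈ (incl X).inducedTopology (Opens.grothendieckTopology X) U ↔ _
  rw [Functor.mem_inducedTopology_iff_of_isCoverDense]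
  apply forall₂_congr fun x hxU ↦ ⟨?_, ?_⟩
  · rintro ⟨V, f, ⟨W, g, h, hg, rfl⟩, hxV⟩
    exact ⟨W, g, hg, h.le hxV⟩
  · rintro ⟨W, g, hg, hxW⟩
    exact ⟨(W : X.Opens), homOfLE (leOfHom g), ⟨W, g, 𝟙 _, hg, Subsingleton.elim _ _⟩, hxW⟩

/-- the sieve generated by a finite family -/
def stdSieve {n : ℕ} (U : X.affineOpens) (V : Fin n → X.affineOpens) : Sieve U where
  arrows Z _ := ∃ i, Z ≤ V i
  downward_closed := by
    rintro Y Z f ⟨i, hi⟩ g
    exact ⟨i, (leOfHom g).trans hi⟩

lemma pullback_std {U Y : X.affineOpens} (f : Y ⟶ U) {n : ℕ} (s : Fin n → Γ(X, (U : X.Opens))) :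
    (stdSieve U (fun i => X.affineBasicOpen (s i))).pullback f =
      stdSieve Y (fun i => X.affineBasicOpen (rs (leOfHom f) (s i))) := by
  ext Z g
  show (∃ i, Z ≤ X.affineBasicOpen (s i)) ↔ (∃ i, Z ≤ X.affineBasicOpen (rs (leOfHom f) (s i)))
  refine exists_congr (fun i => ?_)
  show (Z : X.Opens) ≤ X.basicOpen (s i) ↔ (Z : X.Opens) ≤ X.basicOpen (rs (leOfHom f) (s i))
  rw [basicOpen_rs, le_inf_iff]
  exact ⟨fun h => ⟨leOfHom g, h⟩, fun h => h.2⟩

lemma isSheafFor_std (F : (X.affineOpens)ᵒᵖ ⥤ Type u) (E : X.affineOpens)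
    (hE : (E : X.Opens) = ⊥) (haE : Nonempty (F.obj (op E)) ∧ Subsingleton (F.obj (op E)))
    (hb : HB F) {n : ℕ} (U : X.affineOpens) (s : Fin n → Γ(X, (U : X.Opens)))
    (hs : ∃ a : Fin n → Γ(X, (U : X.Opens)), ∑ i, a i * s i = 1)
    (V : Fin n → X.affineOpens) (hV : ∀ i, (V i : X.Opens) = X.basicOpen (s i)) :
    Presieve.IsSheafFor F (stdSieve U V).arrows := by
  have hVU : ∀ i, V i ≤ U := fun i => by
    show (V i : X.Opens) ≤ U
    rw [hV i]; exact X.basicOpen_le _
  intro x hx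
  have hmem : ∀ i, (stdSieve U V).arrows (homOfLE (hVU i)) := fun i => ⟨i, le_rfl⟩
  have hxi : ∀ (i j : Fin n) (Z : X.affineOpens) (hi : Z ≤ V i) (hj : Z ≤ V j),
      res F hi (x (homOfLE (hVU i)) (hmem i)) = res F hj (x (homOfLE (hVU j)) (hmem j)) := by
    intro i j Z hi hj
    exact hx (homOfLE hi) (homOfLE hj) (hmem i) (hmem j) (Subsingleton.elim _ _)
  obtain ⟨t, ht⟩ := glue F E hE haE hb n U s hs V hV hVU
    (fun i => x (homOfLE (hVU i)) (hmem i)) hxi
  refine ⟨t, ?_, ?_⟩
  · intro Z g hg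
    obtain ⟨i, hi⟩ := hg
    have h1 : F.map g.op t = res F hi (x (homOfLE (hVU i)) (hmem i)) := by
      rw [← ht i, res_res]
      rfl
    rw [h1]
    have h2 := @hx _ _ _ (homOfLE hi) (𝟙 Z) (homOfLE (hVU i)) g (hmem i) ⟨i, hi⟩
      (Subsingleton.elim _ _)
    rw [op_id, Functor.map_id_apply] at h2
    exact h2
  · intro t' ht'
    apply sep F E hE haE hb n U s hs V hV hVU
    intro i
    rw [ht i]
    exact ht' (homOfLE (hVU i)) (hmem i)

lemma exists_std_le {U : X.affineOpens} {S : Sieve U} (hS : S ∈ JB X U) :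
    ∃ (n : ℕ) (s : Fin n → Γ(X, (U : X.Opens))),
      (∃ a : Fin n → Γ(X, (U : X.Opens)), ∑ i, a i * s i = 1) ∧
      ∀ i, S.arrows (homOfLE (X.affineBasicOpen_le (s i))) := by
  rw [mem_JB] at hS
  have hT : Ideal.span {f : Γ(X, (U : X.Opens)) |
      S.arrows (homOfLE (X.affineBasicOpen_le f))} = ⊤ := by
    rw [← U.2.self_le_iSup_basicOpen_iff]
    intro x hx
    obtain ⟨V, g, hg, hxV⟩ := hS x hx
    obtain ⟨f, hfV, hxf⟩ := U.2.exists_basicOpen_le ⟨x, hxV⟩ hx
    refine Opens.mem_iSup.2 ⟨⟨f, ?_⟩, hxf⟩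
    have hle : X.affineBasicOpen f ≤ V := hfV
    have h3 := S.downward_closed hg (homOfLE hle)
    have h4 : homOfLE hle ≫ g = homOfLE (X.affineBasicOpen_le f) := Subsingleton.elim _ _
    rw [h4] at h3
    exact h3
  obtain ⟨T', hT'sub, hT'⟩ := (Ideal.span_eq_top_iff_finite _).1 hT
  refine ⟨T'.card, fun i => ((T'.equivFin.symm i : T') : Γ(X, (U : X.Opens))), ?_,
    fun i => hT'sub (T'.equivFin.symm i).2⟩
  have hrange : Set.range (fun i => ((T'.equivFin.symm i : T') : Γ(X, (U : X.Opens)))) =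
      (T' : Set Γ(X, (U : X.Opens))) := by
    ext y
    constructor
    · rintro ⟨i, rfl⟩
      exact (T'.equivFin.symm i).2
    · intro hy
      exact ⟨T'.equivFin ⟨y, hy⟩, by simp⟩
  have h1 : (1 : Γ(X, (U : X.Opens))) ∈ Ideal.span
      (Set.range (fun i => ((T'.equivFin.symm i : T') : Γ(X, (U : X.Opens))))) := by
    rw [hrange, hT']; trivial
  exact (Ideal.mem_span_range_iff_exists_fun).1 h1

theorem isSheaf_JB (F : (X.affineOpens)ᵒᵖ ⥤ Type u) (E : X.affineOpens)
    (hE : (E : X.Opens) = ⊥) (haE : Nonempty (F.obj (op E)) ∧ Subsingleton (F.obj (op E)))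
    (hb : HB F) : Presheaf.IsSheaf (JB X) F := by
  rw [isSheaf_iff_isSheaf_of_type]
  intro U S hS
  obtain ⟨n, s, hs, hsS⟩ := exists_std_le hS
  refine Presieve.isSheafFor_subsieve F
    (S := stdSieve U (fun i => X.affineBasicOpen (s i))) ?_ ?_
  · intro Z g hg
    obtain ⟨i, hi⟩ := hg
    have h3 := S.downward_closed (hsS i) (homOfLE hi)
    have h4 : homOfLE hi ≫ homOfLE (X.affineBasicOpen_le (s i)) = g := Subsingleton.elim _ _
    rw [h4] at h3
    exact h3
  · intro Y f
    rw [pullback_std f s]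
    obtain ⟨a, ha⟩ := hs
    exact isSheafFor_std F E hE haE hb Y (fun i => rs (leOfHom f) (s i))
      (span_restrict (leOfHom f) s a (by rw [ha, map_one]; exact isUnit_one)) _ (fun i => rfl)

/-! ### the two directions -/

theorem backward (F : (X.affineOpens)ᵒᵖ ⥤ Type u) (E : X.affineOpens)
    (hE : (E : X.Opens) = ⊥) (haE : Nonempty (F.obj (op E)) ∧ Subsingleton (F.obj (op E)))
    (hb : HB F) :
    ∃ G : TopCat.Sheaf (Type u) X.carrier, Nonempty ((incl X).op ⋙ G.1 ≅ F) := by
  have hF : Presheaf.IsSheaf (JB X) F := isSheaf_JB F E hE haE hb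
  haveI : ((incl X).sheafPushforwardContinuous (Type u) (JB X)
      (Opens.grothendieckTopology X)).IsEquivalence :=
    Functor.IsDenseSubsite.instIsEquivalenceSheafSheafPushforwardContinuous _ _ _
  exact ⟨((incl X).sheafPushforwardContinuous (Type u) (JB X)
      (Opens.grothendieckTopology X)).objPreimage ⟨F, hF⟩,
    ⟨(sheafToPresheaf _ _).mapIso (((incl X).sheafPushforwardContinuous (Type u) (JB X)
      (Opens.grothendieckTopology X)).objObjPreimageIso ⟨F, hF⟩)⟩⟩

theorem forward (F : (X.affineOpens)ᵒᵖ ⥤ Type u) (E : X.affineOpens)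
    (hE : (E : X.Opens) = ⊥) (G : TopCat.Sheaf (Type u) X.carrier)
    (e : (incl X).op ⋙ G.1 ≅ F) :
    (Nonempty (F.obj (op E)) ∧ Subsingleton (F.obj (op E))) ∧ HB F := by
  let φ : ∀ U : X.affineOpens, G.1.obj (op (U : X.Opens)) ≃ F.obj (op U) :=
    fun U => (e.app (op U)).toEquiv
  have nat : ∀ {U V : X.affineOpens} (h : V ≤ U) (σ : G.1.obj (op (U : X.Opens))),
      φ V (G.1.map (homOfLE (show (V : X.Opens) ≤ (U : X.Opens) from h)).op σ) =
        F.map (homOfLE h).op (φ U σ) :=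
    fun h σ => NatTrans.naturality_apply e.hom (homOfLE h).op σ
  refine ⟨?_, ?_⟩
  · have ht : IsTerminal (G.1.obj (op (E : X.Opens))) := G.isTerminalOfEqEmpty hE
    haveI : Unique (G.1.obj (op (E : X.Opens))) := (Types.isTerminalEquivUnique _) ht
    exact ⟨⟨φ E default⟩, (φ E).symm.subsingleton⟩
  · intro U V W VW f g hVf hWg hVWfg hU hV hW h1 h2
    constructor
    · intro s s' hss'
      have e1 : F.map (homOfLE hV).op s = F.map (homOfLE hV).op s' := congrArg Prod.fst hss'
      have e2 : F.map (homOfLE hW).op s = F.map (homOfLE hW).op s' := congrArg Prod.snd hss'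
      obtain ⟨σ, rfl⟩ := (φ U).surjective s
      obtain ⟨σ', rfl⟩ := (φ U).surjective s'
      rw [← nat hV, ← nat hV] at e1
      rw [← nat hW, ← nat hW] at e2
      have h := G.eq_of_locally_eq₂ (homOfLE (show (V : X.Opens) ≤ U from hV))
        (homOfLE (show (W : X.Opens) ≤ U from hW)) (le_of_eq hU) σ σ'
        ((φ V).injective e1) ((φ W).injective e2)
      rw [h]
    · ext p
      constructor
      · rintro ⟨s, rfl⟩
        show F.map (homOfLE h1).op (F.map (homOfLE hV).op s) =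
          F.map (homOfLE h2).op (F.map (homOfLE hW).op s)
        rw [← Functor.map_comp_apply, ← Functor.map_comp_apply]
        rfl
      · intro hp
        obtain ⟨ξ, hξ⟩ := (φ V).surjective p.1
        obtain ⟨η, hη⟩ := (φ W).surjective p.2
        have key : G.1.map (homOfLE (show (VW : X.Opens) ≤ V from h1)).op ξ =
            G.1.map (homOfLE (show (VW : X.Opens) ≤ W from h2)).op η := by
          apply (φ VW).injective
          rw [nat h1, nat h2, hξ, hη]
          exact hp
        let Uc : Bool → X.Opens := fun b => cond b (V : X.Opens) (W : X.Opens)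
        let sf : ∀ b : Bool, G.1.obj (op (Uc b)) := fun b =>
          Bool.rec (motive := fun b => G.1.obj (op (Uc b))) η ξ b
        have hle : ∀ b, Uc b ≤ (U : X.Opens) := fun b => by
          cases b
          · exact hW
          · exact hV
        have hcover : (U : X.Opens) ≤ iSup Uc := by
          rw [hU]; exact sup_le (le_iSup Uc true) (le_iSup Uc false)
        have hVW_le : (V : X.Opens) ⊓ W ≤ VW := by rw [hVWfg, X.basicOpen_mul, hVf, hWg]
        have hcompat : TopCat.Presheaf.IsCompatible G.1 Uc sf := by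
          intro i j
          cases i <;> cases j
          · rfl
          · have h := congrArg (G.1.map (homOfLE (show (W : X.Opens) ⊓ V ≤ VW from
              (le_of_eq (inf_comm _ _)).trans hVW_le)).op) key.symm
            rw [← Functor.map_comp_apply, ← Functor.map_comp_apply] at h
            exact h
          · have h := congrArg (G.1.map (homOfLE hVW_le).op) key
            rw [← Functor.map_comp_apply, ← Functor.map_comp_apply] at h
            exact h
          · rfl
        obtain ⟨σ, hσ, -⟩ := G.existsUnique_gluing' Uc (U : X.Opens)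
          (fun b => homOfLE (hle b)) hcover sf hcompat
        refine ⟨φ U σ, ?_⟩
        have hσV : G.1.map (homOfLE (show (V : X.Opens) ≤ U from hV)).op σ = ξ := hσ true
        have hσW : G.1.map (homOfLE (show (W : X.Opens) ≤ U from hW)).op σ = η := hσ false
        show (F.map (homOfLE hV).op (φ U σ), F.map (homOfLE hW).op (φ U σ)) = p
        rw [← nat hV, ← nat hW, hσV, hσW, hξ, hη]

theorem main (X : Scheme.{u})
    (F : (X.affineOpens)ᵒᵖ ⥤ Type u) (E : X.affineOpens) (hE : (E : X.Opens) = ⊥) :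
    (∃ G : TopCat.Sheaf (Type u) X.carrier,
        Nonempty ((Monotone.functor (f := fun U : X.affineOpens => (U : X.Opens)) (fun _ _ h => h)).op ⋙ G.1 ≅ F)) ↔
    ((Nonempty (F.obj (op E)) ∧ Subsingleton (F.obj (op E))) ∧
      ∀ (U V W VW : X.affineOpens) (f g : Γ(X, (U : X.Opens))),
        (V : X.Opens) = X.basicOpen f → (W : X.Opens) = X.basicOpen g →
        (VW : X.Opens) = X.basicOpen (f * g) → (U : X.Opens) = (V : X.Opens) ⊔ (W : X.Opens) →
        ∀ (hV : V ≤ U) (hW : W ≤ U) (h1 : VW ≤ V) (h2 : VW ≤ W),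
        Function.Injective (fun s : F.obj (op U) => (F.map (homOfLE hV).op s, F.map (homOfLE hW).op s)) ∧
        Set.range (fun s : F.obj (op U) => (F.map (homOfLE hV).op s, F.map (homOfLE hW).op s)) =
          {p | F.map (homOfLE h1).op p.1 = F.map (homOfLE h2).op p.2}) := by
  constructor
  · rintro ⟨G, ⟨e⟩⟩
    exact forward F E hE G e
  · rintro ⟨haE, hb⟩
    exact backward F E hE haE hb

end Groth.Agent.H4.AffineBasisSheaf
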