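import Groth.Prelude.Def_Algz

set_option autoImplicit false

namespace Groth.Agent.H4.AlgzLib

open Algz TopologicalSpace

universe u

variable {Y : Type u} [TopologicalSpace Y]

theorem codimPt_congr {w w' v v' : Y} (hw : w = w') (hv : v = v') (h : w ⤳ v) (h' : w' ⤳ v') :
    codimPt w v h = codimPt w' v' h' := by
  subst hw; subst hv; rfl

theorem codimPt_self (v : Y) (h : v ⤳ v) : codimPt v v h = 0 := by
  unfold codimPt
  rw [Order.height_eq_zero]
  intro b _
  exact b.2

theorem codimPt_eq_zero_iff {w v : Y} (h : w ⤳ v) : codimPt w v h = 0 ↔ v ⤳ w := by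
  unfold codimPt
  rw [Order.height_eq_zero]
  constructor
  · intro hmin
    have := hmin (b := (⟨Specialization.toEquiv v, Set.mem_Ici.mpr le_rfl⟩ : Set.Ici (Specialization.toEquiv v)))
      (Specialization.toEquiv_le_toEquiv.mpr h)
    exact Specialization.toEquiv_le_toEquiv.mp this
  · intro hvw b _
    exact (Specialization.toEquiv_le_toEquiv.mpr hvw).trans b.2

theorem one_le_codimPt {w v : Y} (h : w ⤳ v) (hne : ¬ v ⤳ w) : 1 ≤ codimPt w v h := by
  rw [Order.one_le_iff_ne_zero, Ne, codimPt_eq_zero_iff]
  exact hne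

/-- the codimension grows when the smaller point specializes further -/
theorem codimPt_mono {w v v' : Y} (h : w ⤳ v) (hv : v ⤳ v') :
    codimPt w v h ≤ codimPt w v' (h.trans hv) := by
  unfold codimPt
  let f : Set.Ici (Specialization.toEquiv v) → Set.Ici (Specialization.toEquiv v') := fun x =>
    ⟨x.1, (Specialization.toEquiv_le_toEquiv.mpr hv).trans x.2⟩
  have hf : StrictMono f := fun a b hab => hab
  exact Order.height_le_height_apply_of_strictMono f hf _

/-- immediate specializations have codimension at most one -/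
theorem codimPt_le_one {w v : Y} (h : w ⤳ v)
    (himm : ∀ z : Y, w ⤳ z → z ⤳ v → z ⤳ w ∨ v ⤳ z) : codimPt w v h ≤ 1 := by
  unfold codimPt
  apply Order.height_le
  intro p hp
  by_contra hlen
  push Not at hlen
  have h2 : 2 ≤ p.length := by
    have : (1 : ℕ∞) < (p.length : ℕ∞) := hlen
    exact_mod_cast this
  -- the element before the last
  let i0 : Fin (p.length + 1) := ⟨0, by omega⟩
  let i1 : Fin (p.length + 1) := ⟨p.length - 1, by omega⟩
  have hlt1 : p i0 < p i1 := p.strictMono (by simp [i0, i1, Fin.lt_def]; omega)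
  have hlt2 : p i1 < p.last := p.strictMono (by simp [i1, Fin.lt_def, Fin.last]; omega)
  rw [hp] at hlt2
  obtain ⟨z, hz⟩ : ∃ z : Y, Specialization.toEquiv z = (p i1).1 := ⟨Specialization.ofEquiv (p i1).1, by simp⟩
  have hz1 : w ⤳ z := by
    rw [← Specialization.toEquiv_le_toEquiv, hz]
    exact hlt2.le
  have hz2 : z ⤳ v := by
    rw [← Specialization.toEquiv_le_toEquiv, hz]
    exact (p i1).2
  rcases himm z hz1 hz2 with h3 | h3
  · have : Specialization.toEquiv w ≤ (p i1).1 := by
      rw [← hz]; exact Specialization.toEquiv_le_toEquiv.mpr h3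
    exact hlt2.not_ge (show (⟨Specialization.toEquiv w, _⟩ : Set.Ici (Specialization.toEquiv v)) ≤ p i1 from this)
  · have : (p i1).1 ≤ Specialization.toEquiv v := by
      rw [← hz]; exact Specialization.toEquiv_le_toEquiv.mpr h3
    have h4 : (p i1) ≤ (p i0) := this.trans (p i0).2
    exact hlt1.not_ge h4

theorem enat_aux (A B β M : ℕ∞) (h1 : 1 ≤ β) (h2 : A - B ≤ M) (h3 : 1 ≤ M) : A - (B + β) ≤ M - 1 := by
  induction M using ENat.recTopCoe with
  | top => simp
  | coe M =>
    induction A using ENat.recTopCoe with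
    | top =>
      induction B using ENat.recTopCoe with
      | top => simp
      | coe B => simp at h2
    | coe A =>
      induction B using ENat.recTopCoe with
      | top => simp
      | coe B =>
        induction β using ENat.recTopCoe with
        | top => simp
        | coe β =>
          norm_cast at h1 h2 h3 ⊢
          omega

section systems

variable {Z : Set Y} {y y' : Y} {k : ℕ}

/-- the `i`-th term of the maximum in the value of a system -/
noncomputable def term (S : DSystem Z y k) (i : Fin (k + 1)) : ℕ∞ :=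
  (∑ j ∈ Finset.univ.filter (fun j : Fin (k + 1) => i ≤ j), S.c j) -
      ∑ j ∈ Finset.univ.filter (fun j : Fin k => i.val ≤ j.val), S.b j

theorem delta_eq (S : DSystem Z y k) : S.delta = (k : ℕ∞) + Finset.univ.sup (term S) := rfl

theorem term_last (S : DSystem Z y k) : term S (Fin.last k) = S.c (Fin.last k) := by
  unfold term
  have h1 : Finset.univ.filter (fun j : Fin (k + 1) => Fin.last k ≤ j) = {Fin.last k} := by
    ext j; simp [Fin.last_le_iff]
  have h2 : Finset.univ.filter (fun j : Fin k => (Fin.last k).val ≤ j.val) = ∅ := by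
    ext j; simp
  rw [h1, h2]; simp

theorem delta_le_delta_of_le (S : DSystem Z y k) (S' : DSystem Z y' k) (hc : ∀ i, S'.c i ≤ S.c i)
    (hb : ∀ j, S.b j ≤ S'.b j) : S'.delta ≤ S.delta := by
  rw [delta_eq, delta_eq]
  gcongr with i
  unfold term
  exact tsub_le_tsub (Finset.sum_le_sum fun j _ => hc j) (Finset.sum_le_sum fun j _ => hb j)

theorem w_last_specializes (S : DSystem Z y k) (hyy' : y ⤳ y') : S.w (Fin.last k) ⤳ y' := by
  rw [S.last_eq]; exact hyy'

/-- Case I: replace the last pair by `(y', y')` -/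
noncomputable def replaceLast (S : DSystem Z y k) (y' : Y) (hyy' : y ⤳ y')
    (hvw : S.v (Fin.last k) ⤳ S.w (Fin.last k)) (hZ : IsClosed Z) : DSystem Z y' k where
  v i := if i = Fin.last k then y' else S.v i
  w i := if i = Fin.last k then y' else S.w i
  spec i := by
    split_ifs
    · exact specializes_rfl
    · exact S.spec i
  spec_succ i := by
    have h1 : i.castSucc ≠ Fin.last k := (Fin.castSucc_lt_last i).ne
    simp only [h1, if_false]
    split_ifs with h
    · have := S.spec_succ i
      rw [h] at this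
      exact (this.trans hvw).trans (w_last_specializes S hyy')
    · exact S.spec_succ i
  start_mem := by
    split_ifs with h
    · have h2 : S.v 0 ⤳ y' := by
        rw [h]
        exact hvw.trans (w_last_specializes S hyy')
      exact h2.mem_closed hZ S.start_mem
    · exact S.start_mem
  last_eq := by simp

theorem replaceLast_delta_le (S : DSystem Z y k) (y' : Y) (hyy' : y ⤳ y')
    (hvw : S.v (Fin.last k) ⤳ S.w (Fin.last k)) (hZ : IsClosed Z) :
    (replaceLast S y' hyy' hvw hZ).delta ≤ S.delta := by
  apply delta_le_delta_of_le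
  · intro i
    by_cases h : i = Fin.last k
    · have : (replaceLast S y' hyy' hvw hZ).c i = 0 := by
        unfold DSystem.c
        rw [codimPt_eq_zero_iff]
        simp only [replaceLast, h, if_true]
        exact specializes_rfl
      rw [this]; exact zero_le
    · apply le_of_eq
      unfold DSystem.c
      apply codimPt_congr <;> simp [replaceLast, h]
  · intro j
    have h1 : j.castSucc ≠ Fin.last k := (Fin.castSucc_lt_last j).ne
    by_cases h : j.succ = Fin.last k
    · unfold DSystem.b
      have hv : S.v j.succ ⤳ y' := by rw [h]; exact hvw.trans (w_last_specializes S hyy')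
      have e : codimPt ((replaceLast S y' hyy' hvw hZ).w j.castSucc)
          ((replaceLast S y' hyy' hvw hZ).v j.succ) ((replaceLast S y' hyy' hvw hZ).spec_succ j) =
          codimPt (S.w j.castSucc) y' ((S.spec_succ j).trans hv) := by
        apply codimPt_congr <;> simp [replaceLast, h, h1]
      rw [e]
      exact codimPt_mono (S.spec_succ j) hv
    · apply le_of_eq
      unfold DSystem.b
      apply codimPt_congr <;> simp [replaceLast, h, h1]

/-- Case II: append the pair `(y', y')` -/
noncomputable def snocSys (S : DSystem Z y k) (y' : Y) (hyy' : y ⤳ y') : DSystem Z y' (k + 1) where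
  v := Fin.snoc S.v y'
  w := Fin.snoc S.w y'
  spec i := by
    refine Fin.lastCases ?_ (fun j => ?_) i
    · simp only [Fin.snoc_last]; exact specializes_rfl
    · simp only [Fin.snoc_castSucc]; exact S.spec j
  spec_succ i := by
    simp only [Fin.snoc_castSucc]
    refine Fin.lastCases ?_ (fun j => ?_) i
    · rw [Fin.succ_last, Fin.snoc_last]
      exact w_last_specializes S hyy'
    · rw [← Fin.castSucc_succ, Fin.snoc_castSucc]
      exact S.spec_succ j
  start_mem := by
    have : (0 : Fin (k + 1 + 1)) = Fin.castSucc 0 := rfl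
    rw [this, Fin.snoc_castSucc]
    exact S.start_mem
  last_eq := by simp

theorem snocSys_c_castSucc (S : DSystem Z y k) (y' : Y) (hyy' : y ⤳ y') (j : Fin (k + 1)) :
    (snocSys S y' hyy').c j.castSucc = S.c j := by
  unfold DSystem.c
  apply codimPt_congr <;> simp [snocSys]

theorem snocSys_c_last (S : DSystem Z y k) (y' : Y) (hyy' : y ⤳ y') :
    (snocSys S y' hyy').c (Fin.last (k + 1)) = 0 := by
  unfold DSystem.c
  rw [codimPt_eq_zero_iff]
  simp only [snocSys, Fin.snoc_last]
  exact specializes_rfl

theorem snocSys_b_castSucc (S : DSystem Z y k) (y' : Y) (hyy' : y ⤳ y') (j : Fin k) :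
    (snocSys S y' hyy').b j.castSucc = S.b j := by
  unfold DSystem.b
  apply codimPt_congr
  · simp [snocSys]
  · simp only [snocSys]
    rw [← Fin.castSucc_succ, Fin.snoc_castSucc]

theorem snocSys_b_last (S : DSystem Z y k) (y' : Y) (hyy' : y ⤳ y') (hne : ¬ y' ⤳ y) :
    1 ≤ (snocSys S y' hyy').b (Fin.last k) := by
  unfold DSystem.b
  apply one_le_codimPt
  simp only [snocSys, Fin.snoc_castSucc]
  rw [Fin.succ_last, Fin.snoc_last, S.last_eq]
  exact hne

theorem snocSys_term_castSucc (S : DSystem Z y k) (y' : Y) (hyy' : y ⤳ y') (i : Fin (k + 1)) :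
    term (snocSys S y' hyy') i.castSucc =
      (∑ j ∈ Finset.univ.filter (fun j : Fin (k + 1) => i ≤ j), S.c j) -
      ((∑ j ∈ Finset.univ.filter (fun j : Fin k => i.val ≤ j.val), S.b j) +
        (snocSys S y' hyy').b (Fin.last k)) := by
  unfold term
  congr 1
  · rw [Finset.sum_filter, Fin.sum_univ_castSucc, Finset.sum_filter]
    have : ¬ (Fin.last (k + 1) ≤ i.castSucc) ∨ True := Or.inr trivial
    simp only [Fin.castSucc_le_castSucc_iff, snocSys_c_castSucc, snocSys_c_last, ite_self, add_zero]
  · rw [Finset.sum_filter, Fin.sum_univ_castSucc, Finset.sum_filter]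
    have h1 : (i : ℕ) ≤ ((Fin.last k : Fin (k + 1)) : ℕ) := by
      rw [Fin.val_last]; exact Nat.lt_succ_iff.mp i.2
    simp only [Fin.val_castSucc, snocSys_b_castSucc]
    rw [if_pos h1]

theorem snocSys_term_last (S : DSystem Z y k) (y' : Y) (hyy' : y ⤳ y') :
    term (snocSys S y' hyy') (Fin.last (k + 1)) = 0 := by
  rw [term_last, snocSys_c_last]

theorem snocSys_delta_le (S : DSystem Z y k) (y' : Y) (hyy' : y ⤳ y') (hne : ¬ y' ⤳ y)
    (hc : 1 ≤ S.c (Fin.last k)) : (snocSys S y' hyy').delta ≤ S.delta := by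
  rw [delta_eq, delta_eq]
  set M := Finset.univ.sup (term S) with hM
  have hM1 : 1 ≤ M := by
    rw [← term_last] at hc
    exact hc.trans (Finset.le_sup (f := term S) (Finset.mem_univ _))
  have hsup : Finset.univ.sup (term (snocSys S y' hyy')) ≤ M - 1 := by
    apply Finset.sup_le
    intro i _
    refine Fin.lastCases ?_ (fun j => ?_) i
    · rw [snocSys_term_last]; exact zero_le
    · rw [snocSys_term_castSucc]
      apply enat_aux _ _ _ _ (snocSys_b_last S y' hyy' hne) _ hM1
      exact Finset.le_sup (f := term S) (Finset.mem_univ j)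
  calc ((k + 1 : ℕ) : ℕ∞) + Finset.univ.sup (term (snocSys S y' hyy'))
      ≤ ((k + 1 : ℕ) : ℕ∞) + (M - 1) := by gcongr
    _ = (k : ℕ∞) + M := by
      push_cast
      rw [add_assoc, add_tsub_cancel_of_le hM1]

end systems

theorem deltaZ_le_of_specializes [T0Space Y] (Z : Set Y) (hZ : IsClosed Z) (y y' : Y) (h : y ⤳ y') :
    deltaZ Z y' ≤ deltaZ Z y := by
  by_cases hne : y' ⤳ y
  · have : y = y' := (h.antisymm hne).eq
    rw [this]
  · unfold deltaZ
    refine le_iInf₂ fun k S => ?_
    by_cases hc : S.c (Fin.last k) = 0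
    · have hvw : S.v (Fin.last k) ⤳ S.w (Fin.last k) := (codimPt_eq_zero_iff _).mp hc
      exact iInf₂_le_of_le k (replaceLast S y' h hvw hZ) (replaceLast_delta_le S y' h hvw hZ)
    · have hc1 : 1 ≤ S.c (Fin.last k) := Order.one_le_iff_ne_zero.mpr hc
      exact iInf₂_le_of_le (k + 1) (snocSys S y' h) (snocSys_delta_le S y' h hne hc1)

section zigzag

variable (Z : Set Y) (k : ℕ) (y : Fin (k + 1) → Y) (y' : Fin k → Y) (h0 : y 0 ∈ Z)
    (hdown : ∀ i : Fin k, y' i ⤳ y i.castSucc)
    (hup : ∀ i : Fin k, y' i ⤳ y i.succ)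

/-- the zigzag system -/
noncomputable def zigzagSys : DSystem Z (y (Fin.last k)) k where
  v := y
  w := Fin.snoc y' (y (Fin.last k))
  spec i := by
    refine Fin.lastCases ?_ (fun j => ?_) i
    · simp only [Fin.snoc_last]; exact specializes_rfl
    · simp only [Fin.snoc_castSucc]; exact hdown j
  spec_succ i := by
    simp only [Fin.snoc_castSucc]; exact hup i
  start_mem := h0
  last_eq := by simp

theorem zigzagSys_c_last : (zigzagSys Z k y y' h0 hdown hup).c (Fin.last k) = 0 := by
  unfold DSystem.c
  rw [codimPt_eq_zero_iff]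
  simp only [zigzagSys, Fin.snoc_last]
  exact specializes_rfl

theorem zigzagSys_c_castSucc (j : Fin k)
    (himm : ∀ z : Y, y' j ⤳ z → z ⤳ y j.castSucc → z = y' j ∨ z = y j.castSucc) :
    (zigzagSys Z k y y' h0 hdown hup).c j.castSucc ≤ 1 := by
  unfold DSystem.c
  apply codimPt_le_one
  intro z hz1 hz2
  simp only [zigzagSys, Fin.snoc_castSucc] at hz1 hz2 ⊢
  rcases himm z hz1 hz2 with h | h
  · left; rw [h]
  · right; rw [h]

theorem zigzagSys_b [T0Space Y] (j : Fin k) (hne : y' j ≠ y j.succ) :
    1 ≤ (zigzagSys Z k y y' h0 hdown hup).b j := by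
  unfold DSystem.b
  apply one_le_codimPt
  simp only [zigzagSys, Fin.snoc_castSucc]
  intro h
  exact hne ((hup j).antisymm h).eq

theorem zigzagSys_delta [T0Space Y]
    (himm : ∀ (j : Fin k) (z : Y), y' j ⤳ z → z ⤳ y j.castSucc → z = y' j ∨ z = y j.castSucc)
    (hne : ∀ j : Fin k, y' j ≠ y j.succ) :
    (zigzagSys Z k y y' h0 hdown hup).delta = k := by
  rw [delta_eq]
  have : Finset.univ.sup (term (zigzagSys Z k y y' h0 hdown hup)) = 0 := by
    rw [← bot_eq_zero, Finset.sup_eq_bot_iff]
    intro i _
    rw [bot_eq_zero]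
    unfold term
    apply tsub_eq_zero_of_le
    rw [Finset.sum_filter, Fin.sum_univ_castSucc, Finset.sum_filter]
    simp only [zigzagSys_c_last, ite_self, add_zero]
    apply Finset.sum_le_sum
    intro j _
    by_cases hij : i ≤ j.castSucc
    · have hij' : (i : ℕ) ≤ (j : ℕ) := by
        have := Fin.le_def.mp hij
        simpa using this
      rw [if_pos hij, if_pos hij']
      exact (zigzagSys_c_castSucc Z k y y' h0 hdown hup j (himm j)).trans
        (zigzagSys_b Z k y y' h0 hdown hup j (hne j))
    · have hij' : ¬ (i : ℕ) ≤ (j : ℕ) := by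
        intro h
        apply hij
        rw [Fin.le_def]
        simpa using h
      rw [if_neg hij, if_neg hij']
  rw [this, add_zero]

include h0 hdown hup in
theorem deltaZ_le_of_zigzag [T0Space Y]
    (himm : ∀ (j : Fin k) (z : Y), y' j ⤳ z → z ⤳ y j.castSucc → z = y' j ∨ z = y j.castSucc)
    (hne : ∀ j : Fin k, y' j ≠ y j.succ) : deltaZ Z (y (Fin.last k)) ≤ k := by
  unfold deltaZ
  exact iInf₂_le_of_le k (zigzagSys Z k y y' h0 hdown hup)
    (zigzagSys_delta Z k y y' h0 hdown hup himm hne).le

end zigzag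

section openEmb

variable {Y' : Type u} [TopologicalSpace Y'] {g : Y' → Y}

theorem codimPt_map (hg : Topology.IsOpenEmbedding g) {w v : Y'} (h : w ⤳ v) :
    codimPt (g w) (g v) (h.map hg.continuous) = codimPt w v h := by
  unfold codimPt
  let F : Set.Ici (Specialization.toEquiv v) → Set.Ici (Specialization.toEquiv (g v)) := fun x =>
    ⟨Specialization.toEquiv (g (Specialization.ofEquiv x.1)),
      Specialization.toEquiv_le_toEquiv.mpr
        ((show Specialization.ofEquiv x.1 ⤳ v from x.2).map hg.continuous)⟩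
  have hF : StrictMono F := by
    intro a b hab
    have h1 : Specialization.ofEquiv b.1 ⤳ Specialization.ofEquiv a.1 := hab.le
    have h2 : ¬ Specialization.ofEquiv a.1 ⤳ Specialization.ofEquiv b.1 := fun h' => hab.not_ge h'
    refine lt_of_le_not_ge ?_ ?_
    · exact (h1.map hg.continuous : g _ ⤳ g _)
    · intro h'
      exact h2 (hg.isInducing.specializes_iff.mp (h' : g _ ⤳ g _))
  symm
  refine Order.height_eq_of_strictMono F hF ?_ _
  intro a b hb
  -- b is a generization of g v, hence in the range
  have hb1 : Specialization.ofEquiv b.1 ⤳ g v := b.2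
  have hmem : Specialization.ofEquiv b.1 ∈ Set.range g :=
    hb1.mem_open hg.isOpen_range ⟨v, rfl⟩
  obtain ⟨z, hz⟩ := hmem
  have hzv : z ⤳ v := hg.isInducing.specializes_iff.mp (hz ▸ hb1)
  refine ⟨⟨Specialization.toEquiv z, Specialization.toEquiv_le_toEquiv.mpr hzv⟩, ?_, ?_⟩
  · have h1 : g (Specialization.ofEquiv a.1) ⤳ Specialization.ofEquiv b.1 := hb.le
    have h2 : ¬ Specialization.ofEquiv b.1 ⤳ g (Specialization.ofEquiv a.1) := fun h' => hb.not_ge h'
    rw [← hz] at h1 h2
    refine lt_of_le_not_ge ?_ ?_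
    · exact (hg.isInducing.specializes_iff.mp h1 : _ ⤳ z)
    · intro h'
      exact h2 ((h' : z ⤳ _).map hg.continuous)
  · apply Subtype.ext
    exact congrArg Specialization.toEquiv hz

/-- push a system forward along an open embedding -/
noncomputable def mapSys (hg : Topology.IsOpenEmbedding g) {Z : Set Y} {y' : Y'} {k : ℕ}
    (S : DSystem (g ⁻¹' Z) y' k) : DSystem Z (g y') k where
  v i := g (S.v i)
  w i := g (S.w i)
  spec i := (S.spec i).map hg.continuous
  spec_succ i := (S.spec_succ i).map hg.continuous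
  start_mem := S.start_mem
  last_eq := congrArg g S.last_eq

theorem mapSys_delta (hg : Topology.IsOpenEmbedding g) {Z : Set Y} {y' : Y'} {k : ℕ}
    (S : DSystem (g ⁻¹' Z) y' k) : (mapSys hg S).delta = S.delta := by
  have hc : ∀ i, (mapSys hg S).c i = S.c i := fun i => codimPt_map hg (S.spec i)
  have hb : ∀ i, (mapSys hg S).b i = S.b i := fun i => codimPt_map hg (S.spec_succ i)
  unfold DSystem.delta
  simp only [hc, hb]

theorem deltaZ_le_deltaZ_of_isOpenEmbedding (hg : Topology.IsOpenEmbedding g) (Z : Set Y) (y' : Y') :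
    deltaZ Z (g y') ≤ deltaZ (g ⁻¹' Z) y' := by
  unfold deltaZ
  refine le_iInf₂ fun k S => ?_
  exact iInf₂_le_of_le k (mapSys hg S) (mapSys_delta hg S).le

end openEmb

end Groth.Agent.H4.AlgzLib
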