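import Groth.Agent.H4.AlgzLib
import Groth.Agent.S8813
import Groth.Prelude.Def_Cyc

set_option autoImplicit false

namespace Groth.Agent.H4.AlgzLib

open Algz TopologicalSpace AlgebraicGeometry CategoryTheory

universe u

/-- in a poset with bottom, a function jumping by one along covers equals `d ⊥ + height` on elements of
finite height -/
theorem dimFun_eq_add_height {α : Type*} [PartialOrder α] [OrderBot α] (d : α → ℤ)
    (hcov : ∀ a b : α, a ⋖ b → d b = d a + 1) (n : ℕ) :
    ∀ x : α, Order.height x = n → d x = d ⊥ + n := by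
  induction n with
  | zero =>
    intro x hx
    have : IsMin x := Order.height_eq_zero.mp (by simpa using hx)
    rw [isMin_iff_eq_bot] at this
    rw [this]; simp
  | succ n ih =>
    intro x hx
    have hx' : Order.height x = (n : ℕ∞) + 1 := by simpa using hx
    obtain ⟨_, ⟨z, hzx, hz⟩, hall⟩ := Order.height_eq_coe_add_one_iff.mp hx'
    have hcz : z ⋖ x := by
      refine ⟨hzx, fun t hzt htx => ?_⟩
      have h1 := Order.height_add_one_le hzt
      have h2 := hall t htx
      rw [hz] at h1
      exact absurd (h1.trans h2) (by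
        rw [not_le]
        exact_mod_cast Nat.lt_succ_self n)
    rw [hcov z x hcz, ih z hz]
    push_cast; ring

section top

variable {Y : Type u} [TopologicalSpace Y] [T0Space Y]

theorem codimPt_eq_dimFun (δ : Y → ℤ)
    (hδ : ∀ x y : Y, x ⤳ y → x ≠ y → (∀ z : Y, x ⤳ z → z ⤳ y → z = x ∨ z = y) → δ x = δ y + 1)
    {w v : Y} (h : w ⤳ v) (n : ℕ) (hn : codimPt w v h = n) : δ w = δ v + n := by
  unfold codimPt at hn
  have := dimFun_eq_add_height (α := Set.Ici (Specialization.toEquiv v))
    (fun x => δ (Specialization.ofEquiv x.1)) ?_ n _ hn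
  · exact this
  · rintro ⟨a, ha⟩ ⟨b, hb⟩ hab
    have hlt : a < b := hab.lt
    have h1 : Specialization.ofEquiv b ⤳ Specialization.ofEquiv a := hlt.le
    have hne : Specialization.ofEquiv b ≠ Specialization.ofEquiv a := by
      intro h'
      exact hlt.ne' (Specialization.ofEquiv.injective h')
    refine hδ _ _ h1 hne ?_
    intro z hz1 hz2
    by_contra hcon
    push Not at hcon
    have hza : a < Specialization.toEquiv z := by
      refine lt_of_le_of_ne hz2 ?_
      intro h'
      exact hcon.2 (congrArg Specialization.ofEquiv h').symm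
    have hzb : Specialization.toEquiv z < b := by
      refine lt_of_le_of_ne hz1 ?_
      intro h'
      exact hcon.1 (congrArg Specialization.ofEquiv h')
    exact hab.2 (c := ⟨Specialization.toEquiv z, le_trans ha hza.le⟩) hza hzb

end top

theorem codimPt_ne_top (Y : Scheme.{u}) [IsLocallyNoetherian Y] {w v : Y} (h : w ⤳ v) :
    codimPt w v h ≠ ⊤ := by
  have hmem : w ∈ Set.range (Y.fromSpecStalk v).base := by
    rw [Scheme.range_fromSpecStalk]; exact h
  obtain ⟨P, hP⟩ := hmem
  have h1 := Groth.Agent.S8813.codimPt_le_ringKrullDim Y w v h P hP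
  have h2 : ringKrullDim (↥(Y.presheaf.stalk v) ⧸ P.asIdeal) ≤ ringKrullDim (Y.presheaf.stalk v) :=
    ringKrullDim_quotient_le _
  have h3 : ringKrullDim (Y.presheaf.stalk v) < ⊤ := ringKrullDim_lt_top
  intro htop
  rw [htop] at h1
  exact absurd (lt_of_le_of_lt (h1.trans h2) h3) (by simp)

end Groth.Agent.H4.AlgzLib
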