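import Groth.Agent.H4.AlgzLib2
import Groth.Agent.S8814
import Groth.Prelude.Def_Found
import Mathlib.RingTheory.KrullDimension.NonZeroDivisors
import Mathlib.RingTheory.Ideal.KrullsHeightTheorem

set_option autoImplicit false

namespace Groth.Agent.H4.AlgzLib

open Algz TopologicalSpace AlgebraicGeometry CategoryTheory

universe u

section poset

variable {α : Type*} [PartialOrder α]

/-- prepend an element to a strict series -/
def consSeries (t : LTSeries α) (a : α) (h : a < t.head) : LTSeries α where
  length := t.length + 1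
  toFun := Fin.cons a t.toFun
  step := by
    intro i
    refine Fin.cases ?_ (fun j => ?_) i
    · change (Fin.cons a t.toFun : Fin (t.length + 2) → α) 0 < (Fin.cons a t.toFun : Fin (t.length + 2) → α) (Fin.succ 0)
      rw [Fin.cons_zero, Fin.cons_succ]
      exact h
    · change (Fin.cons a t.toFun : Fin (t.length + 2) → α) j.succ.castSucc <
        (Fin.cons a t.toFun : Fin (t.length + 2) → α) j.succ.succ
      rw [← Fin.succ_castSucc, Fin.cons_succ, Fin.cons_succ]
      exact t.step j

theorem consSeries_head (t : LTSeries α) (a : α) (h : a < t.head) : (consSeries t a h).head = a := rfl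

theorem consSeries_last (t : LTSeries α) (a : α) (h : a < t.head) :
    (consSeries t a h).last = t.last := by
  change (Fin.cons a t.toFun : Fin (t.length + 2) → α) (Fin.last (t.length + 1)) = t.toFun (Fin.last _)
  rw [← Fin.succ_last, Fin.cons_succ]

theorem consSeries_covBy (t : LTSeries α) (a : α) (h : a ⋖ t.head)
    (ht : ∀ i : Fin t.length, t (Fin.castSucc i) ⋖ t (Fin.succ i)) :
    ∀ i : Fin (consSeries t a h.lt).length,
      (consSeries t a h.lt) (Fin.castSucc i) ⋖ (consSeries t a h.lt) (Fin.succ i) := by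
  intro i
  refine Fin.cases ?_ (fun j => ?_) i
  · change (Fin.cons a t.toFun : Fin (t.length + 2) → α) 0 ⋖ (Fin.cons a t.toFun : Fin (t.length + 2) → α) (Fin.succ 0)
    rw [Fin.cons_zero, Fin.cons_succ]
    exact h
  · change (Fin.cons a t.toFun : Fin (t.length + 2) → α) j.succ.castSucc ⋖
      (Fin.cons a t.toFun : Fin (t.length + 2) → α) j.succ.succ
    rw [← Fin.succ_castSucc, Fin.cons_succ, Fin.cons_succ]
    exact ht j

/-- a series starting at `a` whose length is the coheight of `a` is saturated -/
theorem covBy_of_length_eq_coheight (s : LTSeries α) (n : ℕ) (hn : s.length = n)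
    (hs : Order.coheight s.head = n) :
    ∀ i : Fin s.length, s (Fin.castSucc i) ⋖ s (Fin.succ i) := by
  intro i
  have hlen : (s.length : ℕ∞) = Order.coheight s.head := by rw [hs, hn]
  have h1 := Order.coheight_eq_index_of_length_eq_head_coheight hlen i.castSucc
  have h2 := Order.coheight_eq_index_of_length_eq_head_coheight hlen i.succ
  refine ⟨s.step i, fun c hc1 hc2 => ?_⟩
  have h3 := Order.coheight_add_one_le hc1
  have h4 := Order.coheight_add_one_le hc2
  rw [h1] at h3
  rw [h2] at h4
  have h5 : (((i.succ.rev : Fin (s.length + 1)) : ℕ) : ℕ∞) + 1 + 1 ≤ ((i.castSucc.rev : Fin (s.length + 1)) : ℕ) :=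
    (add_le_add_left h4 1).trans h3
  have h6 : ((i.succ.rev : Fin (s.length + 1)) : ℕ) + 1 + 1 ≤ ((i.castSucc.rev : Fin (s.length + 1)) : ℕ) := by
    exact_mod_cast h5
  simp only [Fin.val_rev, Fin.val_succ, Fin.val_castSucc] at h6
  omega

end poset

section catenary

variable (A : Type u) [CommRing A] [IsNoetherianRing A] [IsLocalRing A]

theorem coheight_ne_top (p : PrimeSpectrum A) : Order.coheight p ≠ ⊤ :=
  (Order.coheight_lt_top p).ne

theorem last_eq_closedPoint (s : LTSeries (PrimeSpectrum A)) (n : ℕ) (hn : s.length = n)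
    (hs : Order.coheight s.head = n) : s.last = IsLocalRing.closedPoint A := by
  have hlen : (s.length : ℕ∞) = Order.coheight s.head := by rw [hs, hn]
  have h1 := Order.coheight_eq_index_of_length_eq_head_coheight hlen (Fin.last _)
  have h2 : Order.coheight s.last = 0 := by
    change Order.coheight (s (Fin.last _)) = 0
    rw [h1]; simp
  have h3 : IsMax s.last := Order.coheight_eq_zero.mp h2
  have h4 : s.last ≤ IsLocalRing.closedPoint A :=
    (PrimeSpectrum.asIdeal_le_asIdeal _ _).mp (IsLocalRing.le_maximalIdeal s.last.2.ne_top)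
  exact le_antisymm h4 (h3 h4)

theorem coheight_eq_of_covBy (hA : CAlg.IsCatenary A) {p q : PrimeSpectrum A} (h : p ⋖ q) :
    Order.coheight p = Order.coheight q + 1 := by
  obtain ⟨dp, hdp⟩ := ENat.ne_top_iff_exists.mp (coheight_ne_top A p)
  obtain ⟨dq, hdq⟩ := ENat.ne_top_iff_exists.mp (coheight_ne_top A q)
  obtain ⟨s, hs1, hs2⟩ := Order.exists_series_of_coheight_eq_coe p hdp.symm
  obtain ⟨t, ht1, ht2⟩ := Order.exists_series_of_coheight_eq_coe q hdq.symm
  have hs3 := covBy_of_length_eq_coheight s dp hs2 (by rw [hs1]; exact hdp.symm)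
  have ht3 := covBy_of_length_eq_coheight t dq ht2 (by rw [ht1]; exact hdq.symm)
  have hs4 := last_eq_closedPoint A s dp hs2 (by rw [hs1]; exact hdp.symm)
  have ht4 := last_eq_closedPoint A t dq ht2 (by rw [ht1]; exact hdq.symm)
  have hcov : p ⋖ t.head := by rw [ht1]; exact h
  have := hA.2 s (consSeries t p hcov.lt) (by rw [consSeries_head, hs1])
    (by rw [consSeries_last, hs4, ht4]) hs3 (consSeries_covBy t p hcov ht3)
  have hlen : dp = dq + 1 := by
    rw [← hs2, ← ht2, this]; rfl
  rw [← hdp, ← hdq, hlen]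
  push_cast; rfl

theorem ringKrullDim_quotient_eq_coheight {R : Type u} [CommRing R] (p : PrimeSpectrum R) :
    ringKrullDim (R ⧸ p.asIdeal) = Order.coheight p := by
  rw [ringKrullDim_quotient, Order.coheight_eq_krullDim_Ici]
  have : PrimeSpectrum.zeroLocus (p.asIdeal : Set R) = Set.Ici p := by
    ext q
    rw [PrimeSpectrum.mem_zeroLocus, Set.mem_Ici, ← PrimeSpectrum.asIdeal_le_asIdeal]
    rfl
  rw [this]

end catenary

end Groth.Agent.H4.AlgzLib
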