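import Mathlib
import Groth.Prelude.Def_DRing2
import Groth.Agent.H4.ExtS

set_option autoImplicit false
universe u
open CategoryTheory CategoryTheory.Limits

namespace Groth.Agent.H4.AwayTrivial

section FPsec
variable {R : Type u} [CommRing R]

/-- finite projective -/
def FP (X : ModuleCat.{u} R) : Prop := Module.Finite R X ∧ Module.Projective R X

lemma FP.of_iso {X Y : ModuleCat.{u} R} (e : X ≅ Y) (h : FP X) : FP Y := by
  haveI := h.1; haveI := h.2
  exact ⟨Module.Finite.equiv e.toLinearEquiv, Module.Projective.of_equiv e.toLinearEquiv⟩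

lemma FP.biprod {X Y : ModuleCat.{u} R} (hX : FP X) (hY : FP Y) : FP (X ⊞ Y) := by
  haveI := hX.1; haveI := hX.2; haveI := hY.1; haveI := hY.2
  have h : FP (ModuleCat.of R (X × Y)) :=
    ⟨inferInstanceAs (Module.Finite R (X × Y)), inferInstanceAs (Module.Projective R (X × Y))⟩
  exact h.of_iso (ModuleCat.biprodIsoProd X Y).symm

lemma FP.retract {X Y : ModuleCat.{u} R} (r : Retract X Y) (hY : FP Y) : FP X := by
  haveI := hY.1; haveI := hY.2
  have H : r.r.hom.comp r.i.hom = LinearMap.id := by
    rw [← ModuleCat.hom_comp, r.retract, ModuleCat.hom_id]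
  refine ⟨Module.Finite.of_surjective r.r.hom (fun x => ⟨r.i.hom x, ?_⟩),
    Module.Projective.of_split r.i.hom r.r.hom H⟩
  exact LinearMap.congr_fun H x

end FPsec

section Boundary
variable {A : Type u} [Ring A] {B : Type u} [Ring B]
variable {X Y : ModuleCat.{u} A} (d : X ⟶ Y) (s : Y ⟶ X)

/-- boundary module -/
noncomputable abbrev Bdm (d : X ⟶ Y) : ModuleCat.{u} A := ModuleCat.of A (LinearMap.range d.hom)

/-- projection onto the boundaries -/
noncomputable def πB : X ⟶ Bdm d := ModuleCat.ofHom d.hom.rangeRestrict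
/-- inclusion of the boundaries -/
noncomputable def ιB : Bdm d ⟶ Y := ModuleCat.ofHom (LinearMap.range d.hom).subtype

lemma πB_ιB : πB d ≫ ιB d = d := by
  ext x; rfl

variable (hds : d ≫ s ≫ d = d)
include hds

lemma ιB_s_πB : ιB d ≫ s ≫ πB d = 𝟙 (Bdm d) := by
  ext y
  obtain ⟨x, hx⟩ := LinearMap.mem_range.1 y.2
  change d.hom (s.hom (y : Y)) = (y : Y)
  rw [← hx]
  exact congrArg (fun f : X ⟶ Y => f.hom x) hds

lemma isZero_Bdm (hY : IsZero Y) : IsZero (Bdm d) := by
  rw [IsZero.iff_id_eq_zero, ← ιB_s_πB d s hds, hY.eq_of_tgt (ιB d) 0, zero_comp]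

lemma range_map_eq (F : ModuleCat.{u} A ⥤ ModuleCat.{u} B) :
    LinearMap.range (F.map d).hom = LinearMap.range (F.map (ιB d)).hom := by
  have h1 : F.map d = F.map (πB d) ≫ F.map (ιB d) := by rw [← F.map_comp, πB_ιB]
  have hsurj : Function.Surjective (F.map (πB d)).hom := by
    intro y
    refine ⟨(F.map (ιB d ≫ s)).hom y, ?_⟩
    have : F.map (ιB d ≫ s) ≫ F.map (πB d) = 𝟙 _ := by
      rw [← F.map_comp, Category.assoc, ιB_s_πB d s hds, F.map_id]
    exact congrArg (fun f => f.hom y) this
  rw [h1, ModuleCat.hom_comp,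
    LinearMap.range_comp_of_range_eq_top _ (LinearMap.range_eq_top.2 hsurj)]

lemma injective_map_ιB (F : ModuleCat.{u} A ⥤ ModuleCat.{u} B) :
    Function.Injective (F.map (ιB d)).hom := by
  have : F.map (ιB d) ≫ F.map (s ≫ πB d) = 𝟙 _ := by
    rw [← F.map_comp, ιB_s_πB d s hds, F.map_id]
  exact Function.LeftInverse.injective (g := (F.map (s ≫ πB d)).hom)
    (fun x => congrArg (fun f => f.hom x) this)

lemma free_range_map (F : ModuleCat.{u} A ⥤ ModuleCat.{u} B)
    (hfree : Module.Free B (F.obj (Bdm d))) :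
    Module.Free B (LinearMap.range (F.map d).hom) := by
  haveI := hfree
  exact Module.Free.of_equiv ((LinearEquiv.ofInjective (F.map (ιB d)).hom
    (injective_map_ιB d s hds F)).trans
    (LinearEquiv.ofEq _ _ (range_map_eq d s hds F).symm))

end Boundary

section Good
variable {R : Type u} [CommRing R]

/-- the extension of scalars functor to the localization away from `f` -/
noncomputable abbrev E (f : R) : ModuleCat.{u} R ⥤ ModuleCat.{u} (Localization.Away f) :=
  ModuleCat.extendScalars.{u,u,u} (algebraMap R (Localization.Away f))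

/-- `X` becomes free after inverting `f` -/
def Good (f : R) (X : ModuleCat.{u} R) : Prop :=
  Module.Free (Localization.Away f) ((E f).obj X)

lemma good_of_isZero (f : R) (X : ModuleCat.{u} R) (hX : IsZero X) : Good f X := by
  have h0 : IsZero ((E f).obj X) := Functor.map_isZero (E f) hX
  haveI := ModuleCat.subsingleton_of_isZero h0
  unfold Good
  infer_instance

lemma good_of_dvd {f g : R} (hfg : f ∣ g) (X : ModuleCat.{u} R) (h : Good f X) : Good g X := by
  have hu : IsUnit (algebraMap R (Localization.Away g) f) :=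
    IsLocalization.Away.isUnit_of_dvd (x := g) (S := Localization.Away g) hfg
  let ψ : Localization.Away f →+* Localization.Away g :=
    IsLocalization.Away.lift (S := Localization.Away f) f hu
  have hψ : ψ.comp (algebraMap R (Localization.Away f)) = algebraMap R (Localization.Away g) :=
    IsLocalization.Away.lift_comp f hu
  have key : ∀ φ' : R →+* Localization.Away g,
      ψ.comp (algebraMap R (Localization.Away f)) = φ' →
      Module.Free (Localization.Away g) ((ModuleCat.extendScalars.{u,u,u} φ').obj X) := by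
    rintro _ rfl
    haveI : Module.Free (Localization.Away f) ((E f).obj X) := h
    haveI := Groth.Agent.H4.ExtS.free_obj ψ ((E f).obj X)
    have e : ((ModuleCat.extendScalars.{u,u,u} ψ).obj ((E f).obj X)) ≃ₗ[Localization.Away g]
        ((ModuleCat.extendScalars.{u,u,u}
          (ψ.comp (algebraMap R (Localization.Away f)))).obj X) :=
      ((ModuleCat.extendScalarsComp _ ψ).app X).toLinearEquiv.symm
    exact Module.Free.of_equiv e
  exact key _ hψ

lemma exists_good (p : Ideal R) [p.IsPrime] (X : ModuleCat.{u} R) (hX : FP X) :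
    ∃ f : R, f ∉ p ∧ Good f X := by
  haveI := hX.1; haveI := hX.2
  haveI : Module.FinitePresentation R X := Module.finitePresentation_of_projective R X
  haveI : Module.Free (Localization.AtPrime p) (LocalizedModule p.primeCompl X) :=
    Module.free_of_flat_of_isLocalRing
  obtain ⟨r, hr, hfree, _⟩ := Module.FinitePresentation.exists_free_localizedModule_powers
    p.primeCompl (LocalizedModule.mkLinearMap p.primeCompl X) (Localization.AtPrime p)
  refine ⟨r, hr, ?_⟩
  haveI := hfree
  exact Module.Free.of_equiv ((IsLocalizedModule.isBaseChange (Submonoid.powers r)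
    (Localization.Away r) (LocalizedModule.mkLinearMap (Submonoid.powers r) X)).equiv.symm.trans
    (Groth.Agent.H8.ExtBridge.extEquiv (A := R) (B := Localization.Away r) X).symm)

lemma exists_good_finset (p : Ideal R) [p.IsPrime] {ι : Type} (X : ι → ModuleCat.{u} R)
    (hX : ∀ i, FP (X i)) (s : Finset ι) :
    ∃ f : R, f ∉ p ∧ ∀ i ∈ s, Good f (X i) := by
  classical
  induction s using Finset.induction_on with
  | empty =>
    exact ⟨1, fun h => (‹p.IsPrime›).ne_top ((Ideal.eq_top_iff_one _).2 h), by simp⟩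
  | insert i s hi ih =>
    obtain ⟨f, hf, hfs⟩ := ih
    obtain ⟨g, hg, hgi⟩ := exists_good p (X i) (hX i)
    refine ⟨f * g, fun h => ?_, fun j hj => ?_⟩
    · rcases (‹p.IsPrime›).mem_or_mem h with h | h
      exacts [hf h, hg h]
    · rcases Finset.mem_insert.1 hj with rfl | hj
      · exact good_of_dvd (dvd_mul_left g f) _ hgi
      · exact good_of_dvd (dvd_mul_right f g) _ (hfs j hj)

lemma exists_good_family (p : Ideal R) [p.IsPrime] {ι : Type} (X : ι → ModuleCat.{u} R)
    (hX : ∀ i, FP (X i)) (s : Finset ι) (hs : ∀ i, i ∉ s → IsZero (X i)) :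
    ∃ f : R, f ∉ p ∧ ∀ g : R, f ∣ g → ∀ i, Good g (X i) := by
  obtain ⟨f, hf, hfs⟩ := exists_good_finset p X hX s
  refine ⟨f, hf, fun g hfg i => ?_⟩
  by_cases hi : i ∈ s
  · exact good_of_dvd hfg _ (hfs i hi)
  · exact good_of_isZero g _ (hs i hi)

/-- the base change of `K` to `R_g` is a "trivial" complex -/
def Triv (g : R) (K : DRing.Cx R) : Prop :=
  (∃ a' b' : ℤ, DRing.VanishesOutside
      (((E g).mapHomologicalComplex (ComplexShape.up ℤ)).obj K) a' b') ∧
    DRing.TermwiseFiniteFree (((E g).mapHomologicalComplex (ComplexShape.up ℤ)).obj K) ∧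
    (∀ i : ℤ, Module.Free (Localization.Away g)
      (LinearMap.range
        ((((E g).mapHomologicalComplex (ComplexShape.up ℤ)).obj K).d i (i + 1)).hom)) ∧
    Nonempty (Homotopy (𝟙 (((E g).mapHomologicalComplex (ComplexShape.up ℤ)).obj K)) 0)

lemma key_d' {A : Type*} [Category A] [Preadditive A] (K : CochainComplex A ℤ)
    (h : Homotopy (𝟙 K) 0) (i : ℤ) :
    K.d i (i+1) ≫ h.hom (i+1) i ≫ K.d i (i+1) = K.d i (i+1) := by
  have h1 := h.comm i
  rw [dNext_eq h.hom (show (ComplexShape.up ℤ).Rel i (i+1) from rfl),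
    prevD_eq h.hom (show (ComplexShape.up ℤ).Rel (i-1) i by simp),
    HomologicalComplex.zero_f_apply, add_zero, HomologicalComplex.id_f] at h1
  have h2 : (𝟙 (K.X i)) ≫ K.d i (i+1) = K.d i (i+1) := Category.id_comp _
  rw [h1, Preadditive.add_comp, Category.assoc, Category.assoc, K.d_comp_d, comp_zero,
    add_zero] at h2
  exact h2

theorem exists_trivial (p : Ideal R) [p.IsPrime] (K : DRing.Cx R) (a b : ℤ)
    (hK0 : DRing.VanishesOutside K a b) (hKFP : ∀ i, FP (K.X i))
    (h : Homotopy (𝟙 K) 0) :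
    ∃ f : R, f ∉ p ∧ ∀ g : R, f ∣ g → Triv g K := by
  classical
  obtain ⟨f1, hf1, H1⟩ := exists_good_family p (fun i : ℤ => K.X i) hKFP (Finset.Icc a b)
    (fun i hi => hK0 i (by rw [Finset.mem_Icc] at hi; omega))
  obtain ⟨f2, hf2, H2⟩ := exists_good_family p (fun i : ℤ => Bdm (K.d i (i+1)))
    (fun i => FP.retract ⟨ιB _, h.hom (i+1) i ≫ πB _, ιB_s_πB _ _ (key_d' K h i)⟩ (hKFP (i+1)))
    (Finset.Icc (a-1) (b-1))
    (fun i hi => isZero_Bdm _ _ (key_d' K h i)
      (hK0 (i+1) (by rw [Finset.mem_Icc] at hi; omega)))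
  refine ⟨f1 * f2, fun hmem => ?_, fun g hg => ?_⟩
  · rcases (‹p.IsPrime›).mem_or_mem hmem with h' | h'
    exacts [hf1 h', hf2 h']
  have hg1 : f1 ∣ g := (dvd_mul_right f1 f2).trans hg
  have hg2 : f2 ∣ g := (dvd_mul_left f2 f1).trans hg
  haveI : (E g).Additive :=
    (ModuleCat.extendRestrictScalarsAdj.{u}
      (algebraMap R (Localization.Away g))).left_adjoint_additive
  unfold Triv
  refine ⟨⟨a, b, fun i hi => Functor.map_isZero (E g) (hK0 i hi)⟩,
    fun i => ⟨?_, H1 g hg1 i⟩, fun i => ?_, ⟨?_⟩⟩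
  · haveI := (hKFP i).1
    exact Groth.Agent.H4.ExtS.finite_obj _ (K.X i)
  · exact free_range_map (K.d i (i+1)) (h.hom (i+1) i) (key_d' K h i) (E g) (H2 g hg2 i)
  · exact (Homotopy.ofEq (by simp)).trans (((E g).mapHomotopy h).trans (Homotopy.ofEq (by simp)))

end Good

end Groth.Agent.H4.AwayTrivial
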