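import Mathlib
import Groth.Agent.H4.PCDesc2
import Groth.Agent.Lib.Helper8.ExtScalarsBridge
import Groth.Agent.H4.LDer7
import Groth.Agent.H4.ResP2

/-!
# Flat base change for pushout squares of rings: `S ⊗_R M ≅ B ⊗_A M` and its derived version
-/


set_option autoImplicit false
universe u
open CategoryTheory CategoryTheory.Limits MonoidalCategory TensorProduct

namespace Groth.Agent.H4.BCSq

open Groth.Agent.H4.ProjF Groth.Agent.H4.PCDesc Groth.Agent.H8.ExtBridge

variable (R S A B : Type u) [CommRing R] [CommRing S] [CommRing A] [CommRing B]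
  [Algebra R S] [Algebra R A] [Algebra R B] [Algebra S B] [Algebra A B]
  [IsScalarTower R S B] [IsScalarTower R A B]

/-- restrict to `R`, then extend to `S`. -/
noncomputable abbrev F₁ : ModuleCat.{u} A ⥤ ModuleCat.{u} S :=
  ModuleCat.restrictScalars.{u} (algebraMap R A) ⋙ ModuleCat.extendScalars.{u, u, u} (algebraMap R S)

/-- extend to `B`, then restrict to `S`. -/
noncomputable abbrev F₂ : ModuleCat.{u} A ⥤ ModuleCat.{u} S :=
  ModuleCat.extendScalars.{u, u, u} (algebraMap A B) ⋙ ModuleCat.restrictScalars.{u} (algebraMap S B)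

/-- `m ↦ 1 ⊗ m`, as an `R`-linear map. -/
noncomputable def etaM (M : ModuleCat.{u} A) : (ModuleCat.restrictScalars.{u} (algebraMap R A)).obj M ⟶
    (ModuleCat.restrictScalars.{u} (algebraMap R S)).obj ((F₂ S A B).obj M) :=
  ModuleCat.ofHom (X := ((ModuleCat.restrictScalars.{u} (algebraMap R A)).obj M))
    (Y := ((ModuleCat.restrictScalars.{u} (algebraMap R S)).obj ((F₂ S A B).obj M)))
    { toFun := fun m => et (algebraMap A B) M 1 (show M from m)
      map_add' := fun m m' => et_add _ _ _ _ _
      map_smul' := fun r m => by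
        change et (algebraMap A B) M 1 ((algebraMap R A r) • (show M from m)) =
          (algebraMap S B (algebraMap R S r)) • et (algebraMap A B) M 1 (show M from m)
        rw [et_smul, smul_et, ← IsScalarTower.algebraMap_apply, ← IsScalarTower.algebraMap_apply] }

/-- the base change comparison map `S ⊗_R M → B ⊗_A M`. -/
noncomputable def tauM (M : ModuleCat.{u} A) : (F₁ R S A).obj M ⟶ (F₂ S A B).obj M :=
  ((ModuleCat.extendRestrictScalarsAdj (algebraMap R S)).homEquiv _ _).symm (etaM R S A B M)

lemma tauM_et (M : ModuleCat.{u} A) (s : S) (m : M) :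
    tauM R S A B M (et (algebraMap R S) ((ModuleCat.restrictScalars.{u} (algebraMap R A)).obj M) s m) =
      et (algebraMap A B) M (algebraMap S B s) m := by
  change (algebraMap S B s) • et (algebraMap A B) M 1 m = _
  rw [smul_et, mul_one]

lemma tauM_naturality {M N : ModuleCat.{u} A} (f : M ⟶ N) :
    (F₁ R S A).map f ≫ tauM R S A B N = tauM R S A B M ≫ (F₂ S A B).map f := by
  refine ModuleCat.hom_ext (LinearMap.ext fun t => ?_)
  induction t using ext_induction (algebraMap R S) with
  | zero => rw [map_zero, map_zero]
  | tmul s m =>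
    change tauM R S A B N ((ModuleCat.extendScalars.{u, u, u} (algebraMap R S)).map
      ((ModuleCat.restrictScalars.{u} (algebraMap R A)).map f) (et (algebraMap R S) _ s m)) =
      (ModuleCat.extendScalars.{u, u, u} (algebraMap A B)).map f (tauM R S A B M (et _ _ s m))
    have h1 := tauM_et R S A B M s m
    have h2 := tauM_et R S A B N s ((ModuleCat.restrictScalars.{u} (algebraMap R A)).map f m)
    rw [map_et]
    refine h2.trans ?_
    refine Eq.trans ?_ (congrArg (fun z => (ModuleCat.extendScalars.{u, u, u}
      (algebraMap A B)).map f z) h1).symm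
    rfl
  | add e e' he he' => rw [map_add, map_add, he, he']

/-- the comparison natural transformation. -/
noncomputable def tau : F₁ R S A ⟶ F₂ S A B where
  app M := tauM R S A B M
  naturality _ _ f := tauM_naturality R S A B f

variable [Algebra.IsPushout R S A B]

lemma tauM_bijective (M : ModuleCat.{u} A) : Function.Bijective (tauM R S A B M) := by
  letI : Module R M := Module.compHom M (algebraMap R A)
  haveI : IsScalarTower R A M := IsScalarTower.of_algebraMap_smul (fun r x => rfl)
  let c := Algebra.IsPushout.cancelBaseChange R S A B M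
  let e₁ : ((F₁ R S A).obj M) ≃+ S ⊗[R] M :=
    (extEquiv (A := R) (B := S) ((ModuleCat.restrictScalars.{u} (algebraMap R A)).obj M)).toAddEquiv
  let e₂ : ((F₂ S A B).obj M) ≃+ B ⊗[A] M := (extEquiv (A := A) (B := B) M).toAddEquiv
  let g : ((F₁ R S A).obj M) ≃+ ((F₂ S A B).obj M) := e₁.trans (c.symm.toAddEquiv.trans e₂.symm)
  have key : ∀ x, tauM R S A B M x = g x := by
    intro x
    induction x using Groth.Agent.H4.ProjF.ext_induction (algebraMap R S) with
    | zero => rw [map_zero, map_zero]
    | tmul s m =>
      refine (tauM_et R S A B M s m).trans ?_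
      change _ = e₂.symm (c.symm (s ⊗ₜ[R] (show M from m)))
      rw [Algebra.IsPushout.cancelBaseChange_symm_tmul]
      rfl
    | add e e' he he' => rw [map_add, map_add, he, he']
  have h : (tauM R S A B M : _ → _) = g := funext key
  rw [h]
  exact g.bijective

instance isIso_tauM (M : ModuleCat.{u} A) : IsIso (tauM R S A B M) :=
  (ConcreteCategory.isIso_iff_bijective _).2 (tauM_bijective R S A B M)

instance isIso_tau : IsIso (tau R S A B) := by
  haveI : ∀ M, IsIso ((tau R S A B).app M) := fun M => isIso_tauM R S A B M
  exact NatIso.isIso_of_isIso_app _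

/-- the base change isomorphism `S ⊗_R M ≅ B ⊗_A M`. -/
noncomputable def tauIso : F₁ R S A ≅ F₂ S A B := asIso (tau R S A B)

attribute [local instance] HasDerivedCategory.standard
open DerivedCategory DRing Groth.Agent.H4.LDer Groth.Agent.H4.PC Groth.Agent.H4.ResP

/-- the base change isomorphism, termwise on complexes. -/
noncomputable def tauCx (X : Cx A) :
    (GC (ModuleCat.extendScalars.{u, u, u} (algebraMap R S))).obj
      ((GC (ModuleCat.restrictScalars.{u} (algebraMap R A))).obj X) ≅
    (GC (ModuleCat.restrictScalars.{u} (algebraMap S B))).obj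
      ((GC (ModuleCat.extendScalars.{u, u, u} (algebraMap A B))).obj X) :=
  HomologicalComplex.Hom.isoOfComponents (fun i => (tauIso R S A B).app (X.X i))
    (fun i j _ => by
      have := (tauIso R S A B).hom.naturality (X.d i j)
      exact this.symm)

/-- restriction of a flat module along a flat ring map is flat. -/
lemma flat_restrictScalars [Module.Flat R A]
    (M : ModuleCat.{u} A) [Module.Flat A M] :
    Module.Flat R ((ModuleCat.restrictScalars.{u} (algebraMap R A)).obj M) := by
  letI : Module R M := Module.compHom M (algebraMap R A)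
  haveI : IsScalarTower R A M := IsScalarTower.of_algebraMap_smul (fun r x => rfl)
  exact Module.Flat.trans R A M

/-- **flat base change**: for a pushout square with `A` flat over `R` and `K` bounded above,
`(K ⊗^L_A B)|_S ≅ K|_R ⊗^L_R S`. -/
theorem nonempty_bcIso [Module.Flat R A] [DRing.HasLBaseChange (algebraMap A B)]
    [DRing.HasLBaseChange (algebraMap R S)] (K : Dual.D A) (b : ℤ) [K.IsLE b] :
    Nonempty ((restrictD (algebraMap S B)).obj ((DRing.LBaseChange (algebraMap A B)).obj K) ≅
      (DRing.LBaseChange (algebraMap R S)).obj ((restrictD (algebraMap R A)).obj K)) := by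
  obtain ⟨P, hP, ⟨e⟩⟩ := exists_iso_of_isLE K b
  haveI := hP.isKProjective
  have hF : IsBAFlat b ((GC (ModuleCat.restrictScalars.{u} (algebraMap R A))).obj P) :=
    ⟨fun i hi => (ModuleCat.restrictScalars.{u} (algebraMap R A)).map_isZero (hP.1 i hi),
      fun i => by
        haveI := hP.2 i
        exact flat_restrictScalars R A (P.X i)⟩
  have e1 : (restrictD (algebraMap R A)).obj K ≅
      toD ((GC (ModuleCat.restrictScalars.{u} (algebraMap R A))).obj P) :=
    (restrictD (algebraMap R A)).mapIso e.symm ≪≫
      (ModuleCat.restrictScalars.{u} (algebraMap R A)).mapDerivedCategoryFactors.app P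
  have e2 := isoOfFlat (flatExact_extendScalars (algebraMap R S)) hF e1.symm
  have e3 := isoOfIso (ModuleCat.extendScalars.{u, u, u} (algebraMap A B)) P e
  exact ⟨(restrictD (algebraMap S B)).mapIso e3 ≪≫
    (ModuleCat.restrictScalars.{u} (algebraMap S B)).mapDerivedCategoryFactors.app _ ≪≫
    Q.mapIso (tauCx R S A B P).symm ≪≫ e2.symm⟩

end Groth.Agent.H4.BCSq
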