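import Mathlib
set_option autoImplicit false
universe u
open TensorProduct

namespace Groth.Agent.H4.BaseChangeSub

variable {A : Type*} (B : Type*) [CommRing A] [CommRing B] [Algebra A B]
  {M N : Type*} [AddCommGroup M] [Module A M] [AddCommGroup N] [Module A N]

/-- base change of submodules commutes with images -/
theorem baseChange_map (f : M →ₗ[A] N) (p : Submodule A M) :
    (p.map f).baseChange B = (p.baseChange B).map (f.baseChange B) := by
  rw [Submodule.baseChange_eq_span, Submodule.baseChange_eq_span, Submodule.map_span]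
  congr 1
  ext y
  constructor
  · rintro ⟨n, ⟨m, hm, rfl⟩, rfl⟩
    exact ⟨1 ⊗ₜ m, ⟨m, hm, rfl⟩, by simp⟩
  · rintro ⟨z, ⟨m, hm, rfl⟩, rfl⟩
    exact ⟨f m, ⟨m, hm, rfl⟩, by simp⟩

theorem baseChange_range (f : M →ₗ[A] N) :
    (LinearMap.range f).baseChange B = LinearMap.range (f.baseChange B) := by
  rw [← Submodule.map_top, baseChange_map, Submodule.baseChange_top, Submodule.map_top]

theorem baseChange_sup (p q : Submodule A M) :
    (p ⊔ q).baseChange B = p.baseChange B ⊔ q.baseChange B := by
  apply le_antisymm
  · rw [Submodule.baseChange_eq_span, Submodule.span_le]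
    rintro _ ⟨z, hz, rfl⟩
    obtain ⟨x, hx, y, hy, rfl⟩ := Submodule.mem_sup.mp hz
    rw [map_add]
    exact Submodule.add_mem _
      (Submodule.mem_sup_left (Submodule.tmul_mem_baseChange_of_mem 1 hx))
      (Submodule.mem_sup_right (Submodule.tmul_mem_baseChange_of_mem 1 hy))
  · exact sup_le (Submodule.baseChange_mono B le_sup_left) (Submodule.baseChange_mono B le_sup_right)

/-- base change of `I^k • ⊤` is `(IB)^k • ⊤` -/
theorem baseChange_pow_smul_top (I : Ideal A) (k : ℕ) :
    ((I ^ k • ⊤ : Submodule A M)).baseChange B =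
      (I.map (algebraMap A B)) ^ k • (⊤ : Submodule B (B ⊗[A] M)) := by
  apply le_antisymm
  · rw [Submodule.baseChange_eq_span, Submodule.span_le]
    rintro _ ⟨z, hz, rfl⟩
    change (1 : B) ⊗ₜ[A] z ∈ _
    generalize (1 : B) = a
    revert a
    refine Submodule.smul_induction_on hz (fun r hr n _ a => ?_) (fun x y hx hy a => ?_)
    · have : a ⊗ₜ[A] (r • n) = (algebraMap A B r) • (a ⊗ₜ[A] n) := by
        rw [TensorProduct.tmul_smul, TensorProduct.smul_tmul', TensorProduct.smul_tmul']
        rw [Algebra.smul_def, smul_eq_mul]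
      rw [this]
      refine Submodule.smul_mem_smul ?_ Submodule.mem_top
      rw [← Ideal.map_pow]
      exact Ideal.mem_map_of_mem _ hr
    · rw [TensorProduct.tmul_add]
      exact Submodule.add_mem _ (hx a) (hy a)
  · rw [Submodule.smul_le]
    intro r hr n hn
    clear hn
    rw [← Ideal.map_pow] at hr
    refine Submodule.span_induction (p := fun r _ => r • n ∈ _) (fun r hr => ?_) ?_
      (fun x y _ _ hx hy => ?_) (fun a x _ hx => ?_) hr
    · obtain ⟨i, hi, rfl⟩ := hr
      induction n using TensorProduct.induction_on with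
      | zero => simp
      | add x y hx hy => rw [smul_add]; exact Submodule.add_mem _ hx hy
      | tmul b m =>
        have : (algebraMap A B i) • (b ⊗ₜ[A] m) = b ⊗ₜ[A] (i • m) := by
          symm
          rw [TensorProduct.tmul_smul, TensorProduct.smul_tmul', TensorProduct.smul_tmul']
          rw [Algebra.smul_def, smul_eq_mul]
        rw [this]
        exact Submodule.tmul_mem_baseChange_of_mem b
          (Submodule.smul_mem_smul hi Submodule.mem_top)
    · simp
    · rw [add_smul]; exact Submodule.add_mem _ hx hy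
    · rw [smul_eq_mul, mul_smul]; exact Submodule.smul_mem _ _ hx

/-- flat base change commutes with kernels -/
theorem baseChange_ker [Module.Flat A B] (h : M →ₗ[A] N) :
    (LinearMap.ker h).baseChange B = LinearMap.ker (h.baseChange B) := by
  have hex : Function.Exact ((LinearMap.ker h).subtype.lTensor B) (h.lTensor B) :=
    Module.Flat.lTensor_exact B (LinearMap.exact_subtype_ker_map h)
  ext y
  rw [LinearMap.mem_ker]
  have h1 : h.baseChange B y = h.lTensor B y := rfl
  rw [h1, hex y]
  constructor
  · rintro ⟨z, rfl⟩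
    exact ⟨z, rfl⟩
  · rintro ⟨z, rfl⟩
    exact ⟨z, rfl⟩

/-- kernel of base change of a quotient map (no flatness needed) -/
theorem ker_baseChange_mkQ (p : Submodule A N) :
    LinearMap.ker (p.mkQ.baseChange B) = p.baseChange B := by
  have hex : Function.Exact (p.subtype.lTensor B) (p.mkQ.lTensor B) :=
    lTensor_exact B (LinearMap.exact_subtype_mkQ p) p.mkQ_surjective
  ext y
  rw [LinearMap.mem_ker]
  have h1 : p.mkQ.baseChange B y = p.mkQ.lTensor B y := rfl
  rw [h1, hex y]
  constructor
  · rintro ⟨z, rfl⟩
    exact ⟨z, rfl⟩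
  · rintro ⟨z, rfl⟩
    exact ⟨z, rfl⟩

end Groth.Agent.H4.BaseChangeSub
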