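import Mathlib
set_option linter.style.haveILetI false
universe u
open CategoryTheory AlgebraicGeometry Limits TensorProduct

namespace Groth.Agent.H4.BddFibLib

/-- fibrewise spanning: for every maximal ideal `s`, `M/sM` is spanned by `n` elements. -/
def FibSpan (C M : Type*) [CommRing C] [AddCommGroup M] [Module C M] (n : ℕ) : Prop :=
  ∀ s : Ideal C, s.IsMaximal → ∃ t : Fin n → M,
    Submodule.span C (Set.range t) ⊔ s • (⊤ : Submodule C M) = ⊤

/-- the `K`-linear map `(a_j) ↦ Σ a_j • t_j` on tuples from an ideal -/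
noncomputable def tupleMap {K C M : Type*} [Field K] [CommRing C] [Algebra K C] [AddCommGroup M]
    [Module C M] [Module K M] [IsScalarTower K C M] (I : Ideal C) {n : ℕ} (t : Fin n → M) :
    (Fin n → (I.restrictScalars K : Submodule K C)) →ₗ[K] M :=
  ∑ j : Fin n, ((LinearMap.toSpanSingleton C M (t j)).restrictScalars K).comp
    ((I.restrictScalars K).subtype.comp (LinearMap.proj j))

lemma tupleMap_apply {K C M : Type*} [Field K] [CommRing C] [Algebra K C] [AddCommGroup M]
    [Module C M] [Module K M] [IsScalarTower K C M] (I : Ideal C) {n : ℕ} (t : Fin n → M)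
    (a : Fin n → (I.restrictScalars K : Submodule K C)) :
    tupleMap I t a = ∑ j, ((a j : C)) • t j := by
  simp [tupleMap, LinearMap.sum_apply]

lemma smul_top_le_range_tupleMap {K C M : Type*} [Field K] [CommRing C] [Algebra K C]
    [AddCommGroup M] [Module C M] [Module K M] [IsScalarTower K C M] (x : C) (s : Ideal C)
    (hsx : ∀ c ∈ s, c * x = 0) {n : ℕ} (t : Fin n → M)
    (ht : Submodule.span C (Set.range t) ⊔ s • (⊤ : Submodule C M) = ⊤)
    (z : M) (hz : z ∈ (Ideal.span {x}) • (⊤ : Submodule C M)) :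
    z ∈ LinearMap.range (tupleMap (K := K) (Ideal.span {x}) t) := by
  refine Submodule.smul_induction_on hz (fun c hc m _ => ?_) (fun a b ha hb => add_mem ha hb)
  obtain ⟨c', rfl⟩ := Ideal.mem_span_singleton'.mp hc
  have hm : m ∈ Submodule.span C (Set.range t) ⊔ s • (⊤ : Submodule C M) := by
    rw [ht]; exact Submodule.mem_top
  obtain ⟨y, hy, w, hw, rfl⟩ := Submodule.mem_sup.mp hm
  have hxw : x • w = 0 := by
    refine Submodule.smul_induction_on hw (fun σ hσ m' _ => ?_) (fun a b ha hb => ?_)
    · rw [← mul_smul, mul_comm, hsx σ hσ, zero_smul]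
    · rw [smul_add, ha, hb, add_zero]
  obtain ⟨cf, rfl⟩ := (Submodule.mem_span_range_iff_exists_fun C).mp hy
  refine ⟨fun j => ⟨c' * x * cf j, ?_⟩, ?_⟩
  · exact Ideal.mul_mem_right _ _ (Ideal.mul_mem_left _ _ (Ideal.mem_span_singleton_self x))
  · rw [tupleMap_apply, smul_add, mul_smul c' x w, hxw, smul_zero, add_zero, Finset.smul_sum]
    refine Finset.sum_congr rfl (fun j _ => ?_)
    simp only [mul_smul]

lemma fibSpan_quotient {C M : Type*} [CommRing C] [AddCommGroup M] [Module C M] (n : ℕ)
    (I : Ideal C) (h : FibSpan C M n) : FibSpan (C ⧸ I) (M ⧸ I • (⊤ : Submodule C M)) n := by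
  intro s' hs'
  have hs : (s'.comap (Ideal.Quotient.mk I)).IsMaximal :=
    Ideal.comap_isMaximal_of_surjective _ Ideal.Quotient.mk_surjective
  obtain ⟨t, ht⟩ := h _ hs
  refine ⟨fun j => Submodule.Quotient.mk (t j), ?_⟩
  have h1 : ∀ y ∈ Submodule.span C (Set.range t),
      (Submodule.Quotient.mk y : M ⧸ I • (⊤ : Submodule C M)) ∈
        Submodule.span (C ⧸ I) (Set.range fun j => (Submodule.Quotient.mk (t j) :
          M ⧸ I • (⊤ : Submodule C M))) := by
    intro y hy
    induction hy using Submodule.span_induction with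
    | mem x hx =>
      obtain ⟨j, rfl⟩ := hx
      exact Submodule.subset_span ⟨j, rfl⟩
    | zero => exact Submodule.zero_mem _
    | add x y _ _ hx hy => rw [Submodule.Quotient.mk_add]; exact Submodule.add_mem _ hx hy
    | smul c x _ hx =>
      rw [← Module.Quotient.mk_smul_mk]
      exact Submodule.smul_mem _ _ hx
  have h2 : ∀ z ∈ (s'.comap (Ideal.Quotient.mk I)) • (⊤ : Submodule C M),
      (Submodule.Quotient.mk z : M ⧸ I • (⊤ : Submodule C M)) ∈
        s' • (⊤ : Submodule (C ⧸ I) (M ⧸ I • (⊤ : Submodule C M))) := by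
    intro z hz
    refine Submodule.smul_induction_on hz (fun c hc m _ => ?_) (fun x y hx hy => ?_)
    · rw [← Module.Quotient.mk_smul_mk]
      exact Submodule.smul_mem_smul hc Submodule.mem_top
    · rw [Submodule.Quotient.mk_add]; exact Submodule.add_mem _ hx hy
  rw [eq_top_iff]
  rintro mq -
  obtain ⟨m, rfl⟩ := Submodule.Quotient.mk_surjective _ mq
  have hm : m ∈ Submodule.span C (Set.range t) ⊔
      (s'.comap (Ideal.Quotient.mk I)) • (⊤ : Submodule C M) := by rw [ht]; exact Submodule.mem_top
  obtain ⟨y, hy, z, hz, rfl⟩ := Submodule.mem_sup.mp hm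
  rw [Submodule.Quotient.mk_add]
  exact Submodule.add_mem_sup (h1 y hy) (h2 z hz)

lemma exists_ne_zero_maximal_annihilates {C : Type*} [CommRing C] [Nontrivial C]
    [IsArtinianRing C] :
    ∃ x : C, x ≠ 0 ∧ ∃ s : Ideal C, s.IsMaximal ∧ ∀ c ∈ s, c * x = 0 := by
  obtain ⟨I, hI0, hImin⟩ := IsArtinian.set_has_minimal (R := C) (M := C)
    {I : Submodule C C | I ≠ ⊥} ⟨⊤, top_ne_bot⟩
  obtain ⟨x, hxI, hx0⟩ := Submodule.exists_mem_ne_zero_of_ne_bot hI0
  have hmin : ∀ y ∈ I, y ≠ 0 → x ∈ Ideal.span {y} := by
    intro y hy hy0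
    have h1 : (Ideal.span {y} : Submodule C C) ≠ ⊥ := by
      intro h
      exact hy0 (by simpa [Ideal.span_singleton_eq_bot] using h)
    have h2 : Ideal.span {y} ≤ I := (Ideal.span_singleton_le_iff_mem (I := I)).mpr hy
    have h3 : ¬ (Ideal.span {y} < I) := hImin _ h1
    have h4 : Ideal.span {y} = I := by
      by_contra hne
      exact h3 (lt_of_le_of_ne h2 hne)
    rw [h4]; exact hxI
  let s : Ideal C := (Ideal.span {x}).annihilator
  have hs_mem : ∀ c, c ∈ s ↔ c * x = 0 := by
    intro c
    simp only [s, Submodule.mem_annihilator_span_singleton, smul_eq_mul]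
  refine ⟨x, hx0, s, ?_, fun c hc => (hs_mem c).mp hc⟩
  rw [Ideal.isMaximal_iff]
  refine ⟨fun h => hx0 (by simpa using (hs_mem 1).mp h), ?_⟩
  intro J c hsJ hcs hcJ
  have hcx : c * x ≠ 0 := fun h => hcs ((hs_mem c).mpr h)
  have hcxI : c * x ∈ I := I.smul_mem c hxI
  obtain ⟨d, hd⟩ := Ideal.mem_span_singleton'.mp (hmin _ hcxI hcx)
  -- d * (c * x) = x
  have : (1 - d * c) ∈ s := by
    rw [hs_mem]
    rw [sub_mul, one_mul, mul_assoc, hd, sub_self]
  have h1 : (1 - d * c) ∈ J := hsJ this
  have h2 : d * c ∈ J := J.mul_mem_left d hcJ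
  have := J.add_mem h1 h2
  simpa using this


instance isScalarTower_quotient_smul_top {K C M : Type*} [Field K] [CommRing C] [Algebra K C]
    [AddCommGroup M] [Module C M] [Module K M] [IsScalarTower K C M] (I : Ideal C) :
    IsScalarTower K (C ⧸ I) (M ⧸ I • (⊤ : Submodule C M)) := by
  refine ⟨fun a c m => ?_⟩
  obtain ⟨c, rfl⟩ := Ideal.Quotient.mk_surjective c
  obtain ⟨m, rfl⟩ := Submodule.Quotient.mk_surjective _ m
  change (Ideal.Quotient.mk I (a • c)) • _ = a • ((Ideal.Quotient.mk I c) • _)
  rw [Module.Quotient.mk_smul_mk, Module.Quotient.mk_smul_mk, smul_assoc]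
  rfl

theorem fibSpan_bound {K : Type u} [Field K] (n : ℕ) (d : ℕ) :
    ∀ (C : Type u) [CommRing C] [Algebra K C] [Module.Finite K C], Module.finrank K C = d →
    ∀ (M : Type u) [AddCommGroup M] [Module C M] [Module K M] [IsScalarTower K C M],
      FibSpan C M n → Module.Finite K M ∧ Module.finrank K M ≤ n * Module.finrank K C := by
  induction d using Nat.strong_induction_on with
  | _ d ih =>
  intro C _ _ _ hd M _ _ _ _ hM
  by_cases hC : Subsingleton C
  · have : Subsingleton M := Module.subsingleton C M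
    refine ⟨inferInstance, ?_⟩
    rw [Module.finrank_zero_of_subsingleton]; exact Nat.zero_le _
  · rw [not_subsingleton_iff_nontrivial] at hC
    have : IsArtinianRing C := IsArtinianRing.of_finite K C
    obtain ⟨x, hx0, s, hs, hsx⟩ := exists_ne_zero_maximal_annihilates (C := C)
    obtain ⟨t, ht⟩ := hM s hs
    set I : Ideal C := Ideal.span {x} with hI
    let IK : Submodule K C := I.restrictScalars K
    let N : Submodule C M := I • ⊤
    let NK : Submodule K M := N.restrictScalars K
    have e1 : Module.finrank K (C ⧸ I) + Module.finrank K IK = Module.finrank K C := by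
      have := Submodule.finrank_quotient_add_finrank IK
      rw [← this]; congr 1
    have hIK : 0 < Module.finrank K IK := by
      have : Nontrivial IK := ⟨⟨⟨x, Ideal.mem_span_singleton_self x⟩, 0, fun h => hx0 (by
        simpa using congrArg Subtype.val h)⟩⟩
      exact Module.finrank_pos
    have hlt : Module.finrank K (C ⧸ I) < d := by omega
    have hM' := fibSpan_quotient n I hM
    obtain ⟨hfin', hle'⟩ := ih _ hlt (C ⧸ I) rfl (M ⧸ N) hM'
    have hΦ : NK ≤ LinearMap.range (tupleMap (K := K) I t) := fun z hz =>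
      smul_top_le_range_tupleMap x s hsx t ht z hz
    have hΦ' : LinearMap.range (tupleMap (K := K) I t) ≤ NK := by
      rintro _ ⟨a, rfl⟩
      rw [tupleMap_apply]
      have h3 : ∀ j, ((a j : C)) • t j ∈ N := fun j =>
        Submodule.smul_mem_smul (I := I) (N := (⊤ : Submodule C M)) (a j).2 Submodule.mem_top
      exact Submodule.sum_mem NK (fun j _ => h3 j)
    have hΦeq : LinearMap.range (tupleMap (K := K) I t) = NK := le_antisymm hΦ' hΦ
    have hNfin : Module.Finite K NK := by
      rw [← hΦeq]; infer_instance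
    have hNle : Module.finrank K NK ≤ n * Module.finrank K IK := by
      rw [← hΦeq]
      refine le_trans (LinearMap.finrank_range_le _) ?_
      rw [Module.finrank_pi_fintype]
      simp only [Finset.sum_const, Finset.card_univ, Fintype.card_fin, smul_eq_mul]
      exact le_refl _
    have hqfin : Module.Finite K (M ⧸ NK) :=
      Module.Finite.equiv (Submodule.Quotient.restrictScalarsEquiv K N).symm
    have hfinM : Module.Finite K M := Module.Finite.of_submodule_quotient NK
    have e2 : Module.finrank K (M ⧸ N) + Module.finrank K NK = Module.finrank K M := by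
      have := Submodule.finrank_quotient_add_finrank NK
      rw [← this]; congr 1
    refine ⟨hfinM, ?_⟩
    rw [← e2, ← e1, mul_add]
    exact add_le_add hle' hNle

end Groth.Agent.H4.BddFibLib
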