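import Groth.Prelude.Def_W4stkschemesremainderFib
import Mathlib
set_option linter.style.haveILetI false
universe u
open CategoryTheory AlgebraicGeometry Limits TensorProduct

namespace Groth.Agent.H4.BddFibLib

/-- ring-level predicate: `ψ` is finite of rank `≤ n`. -/
def RingDegLE {K A : Type u} [CommRing K] [CommRing A] (ψ : K →+* A) (n : ℕ) : Prop :=
  letI := ψ.toAlgebra
  Module.Finite K A ∧ Module.finrank K A ≤ n

lemma ringDegLE_of_equiv {K A B : Type u} [CommRing K] [CommRing A] [CommRing B]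
    (ψA : K →+* A) (ψB : K →+* B) (σ : A ≃+* B) (h : ∀ x, σ (ψA x) = ψB x) (n : ℕ)
    (hA : RingDegLE ψA n) : RingDegLE ψB n := by
  letI := ψA.toAlgebra
  letI := ψB.toAlgebra
  let e : A ≃ₐ[K] B := AlgEquiv.ofRingEquiv (f := σ) (fun x => h x)
  obtain ⟨h1, h2⟩ := hA
  refine ⟨Module.Finite.equiv e.toLinearEquiv, ?_⟩
  rw [← e.toLinearEquiv.finrank_eq]
  exact h2

lemma finiteOfDegLE_iff {K : CommRingCat.{u}} {T : Scheme.{u}} (p : T ⟶ Spec K) (n : ℕ) :
    BddFib.FiniteOfDegLE K p n ↔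
      IsAffine T ∧ RingDegLE ((Scheme.ΓSpecIso K).inv ≫ p.appTop).hom n := Iff.rfl

lemma finiteOfDegLE_Spec_iff {K A : CommRingCat.{u}} (ψ : K ⟶ A) (n : ℕ) :
    BddFib.FiniteOfDegLE K (Spec.map ψ) n ↔ RingDegLE ψ.hom n := by
  rw [finiteOfDegLE_iff]
  have h1 : (Scheme.ΓSpecIso K).inv ≫ (Spec.map ψ).appTop = ψ ≫ (Scheme.ΓSpecIso A).inv := by
    rw [Iso.inv_comp_eq, ← Scheme.ΓSpecIso_naturality_assoc]
    simp
  have h2 : ((Scheme.ΓSpecIso K).inv ≫ (Spec.map ψ).appTop) ≫ (Scheme.ΓSpecIso A).hom = ψ := by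
    rw [h1]; simp
  constructor
  · rintro ⟨-, h⟩
    refine ringDegLE_of_equiv _ _ (Scheme.ΓSpecIso A).commRingCatIsoToRingEquiv ?_ n h
    intro x
    exact congrArg (fun g => g.hom x) h2
  · intro h
    refine ⟨inferInstance, ?_⟩
    refine ringDegLE_of_equiv _ _ (Scheme.ΓSpecIso A).symm.commRingCatIsoToRingEquiv ?_ n h
    intro x
    exact congrArg (fun g => g.hom x) h1.symm

lemma finiteOfDegLE_of_iso {K : CommRingCat.{u}} {T T' : Scheme.{u}} (p : T ⟶ Spec K)
    (p' : T' ⟶ Spec K) (e : T ≅ T') (he : e.hom ≫ p' = p) (n : ℕ)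
    (h : BddFib.FiniteOfDegLE K p' n) : BddFib.FiniteOfDegLE K p n := by
  rw [finiteOfDegLE_iff] at h ⊢
  obtain ⟨h1, h2⟩ := h
  refine ⟨.of_isIso e.hom, ?_⟩
  have : IsIso e.hom.appTop := by
    change IsIso (e.hom.app ⊤)
    infer_instance
  refine ringDegLE_of_equiv _ _ (asIso e.hom.appTop).commRingCatIsoToRingEquiv ?_ n h2
  subst he
  intro x
  rfl


lemma ringDegLE_baseChange_iff {K L A : Type u} [Field K] [Field L] [CommRing A]
    [Algebra K L] [Algebra K A] (n : ℕ) :
    RingDegLE (algebraMap L (L ⊗[K] A)) n ↔ RingDegLE (algebraMap K A) n := by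
  unfold RingDegLE
  have e1 : (algebraMap L (L ⊗[K] A)).toAlgebra = Algebra.TensorProduct.leftAlgebra := by
    exact Algebra.algebra_ext _ _ (fun r => rfl)
  have e2 : (algebraMap K A).toAlgebra = ‹Algebra K A› := by
    exact Algebra.algebra_ext _ _ (fun r => rfl)
  rw [e1, e2]
  constructor
  · rintro ⟨h1, h2⟩
    have h3 : Module.Finite K A := by
      rw [← Module.rank_lt_aleph0_iff] at h1 ⊢
      rw [Module.rank_baseChange] at h1
      simpa using h1
    refine ⟨h3, ?_⟩
    rwa [Module.finrank_baseChange] at h2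
  · rintro ⟨h1, h2⟩
    refine ⟨inferInstance, ?_⟩
    rwa [Module.finrank_baseChange]

lemma eq_isoSpec_comp {K : CommRingCat.{u}} {T : Scheme.{u}} [IsAffine T] (p : T ⟶ Spec K) :
    p = T.isoSpec.hom ≫ Spec.map ((Scheme.ΓSpecIso K).inv ≫ p.appTop) := by
  rw [Spec.map_comp, ← Category.assoc, Scheme.isoSpec_hom_naturality, Scheme.isoSpec_Spec_hom,
    Category.assoc, ← Spec.map_comp]
  simp

/-- Affine case of base change along a field extension. -/
lemma finiteOfDegLE_baseChange_iff_Spec {K L : Type u} [Field K] [Field L]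
    (φ : CommRingCat.of K ⟶ CommRingCat.of L) {A : CommRingCat.{u}} (ψ : CommRingCat.of K ⟶ A)
    {T' : Scheme.{u}} (p' : T' ⟶ Spec (CommRingCat.of L)) (fst : T' ⟶ Spec A)
    (h : IsPullback fst p' (Spec.map ψ) (Spec.map φ)) (n : ℕ) :
    BddFib.FiniteOfDegLE (CommRingCat.of L) p' n ↔ RingDegLE ψ.hom n := by
  letI := φ.hom.toAlgebra
  letI := ψ.hom.toAlgebra
  have hpo := CommRingCat.isPushout_tensorProduct K L A
  have hpb := (isPullback_SpecMap_of_isPushout _ _ _ _ hpo)
  have h' : IsPullback (Spec.map (CommRingCat.ofHom (S := L ⊗[K] A)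
      Algebra.TensorProduct.includeRight.toRingHom))
      (Spec.map (CommRingCat.ofHom (S := L ⊗[K] A) Algebra.TensorProduct.includeLeftRingHom))
      (Spec.map ψ) (Spec.map φ) := hpb.flip
  let e := h.isoIsPullback _ _ h'
  have he : e.hom ≫ Spec.map (CommRingCat.ofHom (S := L ⊗[K] A)
      Algebra.TensorProduct.includeLeftRingHom) = p' := h.isoIsPullback_hom_snd _ _ h'
  refine Iff.trans ?_ (ringDegLE_baseChange_iff (L := L) (K := K) (A := A) n)
  constructor
  · intro hp
    have := finiteOfDegLE_of_iso (Spec.map (CommRingCat.ofHom (S := L ⊗[K] A)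
      Algebra.TensorProduct.includeLeftRingHom)) p' e.symm (by rw [← he]; simp) n hp
    rw [finiteOfDegLE_Spec_iff] at this
    exact this
  · intro hp
    refine finiteOfDegLE_of_iso p' _ e he n ?_
    rw [finiteOfDegLE_Spec_iff]
    exact hp


lemma finiteOfDegLE_baseChange_iff_of_isAffine {K L : Type u} [Field K] [Field L]
    (φ : CommRingCat.of K ⟶ CommRingCat.of L) {T T' : Scheme.{u}} [IsAffine T]
    (p : T ⟶ Spec (CommRingCat.of K)) (p' : T' ⟶ Spec (CommRingCat.of L)) (fst : T' ⟶ T)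
    (h : IsPullback fst p' p (Spec.map φ)) (n : ℕ) :
    BddFib.FiniteOfDegLE (CommRingCat.of L) p' n ↔ BddFib.FiniteOfDegLE (CommRingCat.of K) p n := by
  have hp := eq_isoSpec_comp p
  have h2 : IsPullback (fst ≫ T.isoSpec.hom) p'
      (Spec.map ((Scheme.ΓSpecIso (CommRingCat.of K)).inv ≫ p.appTop)) (Spec.map φ) := by
    have h3 : IsPullback T.isoSpec.hom p
        (Spec.map ((Scheme.ΓSpecIso (CommRingCat.of K)).inv ≫ p.appTop)) (𝟙 _) :=
      IsPullback.of_horiz_isIso ⟨by rw [Category.comp_id]; exact hp.symm⟩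
    have := h.paste_horiz h3
    rwa [Category.comp_id] at this
  rw [finiteOfDegLE_baseChange_iff_Spec φ _ p' _ h2 n, finiteOfDegLE_iff]
  exact ⟨fun h => ⟨inferInstance, h⟩, fun h => h.2⟩

lemma finite_discrete_of_finiteOfDegLE {L : Type u} [Field L] {T' : Scheme.{u}}
    (p' : T' ⟶ Spec (CommRingCat.of L)) (n : ℕ)
    (hp' : BddFib.FiniteOfDegLE (CommRingCat.of L) p' n) :
    Finite T' ∧ DiscreteTopology T' := by
  obtain ⟨h1, h2, -⟩ := hp'
  letI := BddFib.secAlgebra (CommRingCat.of L) p'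
  have : IsArtinianRing Γ(T', ⊤) := IsArtinianRing.of_finite L _
  have e := T'.isoSpec.hom.homeomorph
  have : Finite (Spec Γ(T', ⊤)) := inferInstanceAs (Finite (PrimeSpectrum _))
  have : DiscreteTopology (Spec Γ(T', ⊤)) := inferInstanceAs (DiscreteTopology (PrimeSpectrum _))
  exact ⟨Finite.of_equiv _ e.symm.toEquiv, e.symm.discreteTopology⟩

lemma isAffine_of_baseChange {K L : Type u} [Field K] [Field L]
    (φ : CommRingCat.of K ⟶ CommRingCat.of L) {T T' : Scheme.{u}}
    (p : T ⟶ Spec (CommRingCat.of K)) (p' : T' ⟶ Spec (CommRingCat.of L)) (fst : T' ⟶ T)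
    (h : IsPullback fst p' p (Spec.map φ)) (n : ℕ)
    (hp' : BddFib.FiniteOfDegLE (CommRingCat.of L) p' n) : IsAffine T := by
  obtain ⟨hfin, hdisc⟩ := finite_discrete_of_finiteOfDegLE p' n hp'
  have hs : Surjective (Spec.map φ) := by
    refine ⟨fun x => ⟨default, Subsingleton.elim _ _⟩⟩
  have hfl : Flat (Spec.map φ) := by
    rw [HasRingHomProperty.Spec_iff (P := @Flat)]
    letI := φ.hom.toAlgebra
    change Module.Flat K L
    infer_instance
  have hs' : Surjective fst := MorphismProperty.of_isPullback h.flip hs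
  have hfl' : Flat fst := MorphismProperty.of_isPullback h.flip hfl
  have hqc' : QuasiCompact fst := MorphismProperty.of_isPullback h.flip
    (inferInstanceAs (QuasiCompact (Spec.map φ)))
  have hq := Flat.isQuotientMap_of_surjective fst
  have : Finite T := Finite.of_surjective _ hs'.surj
  have : DiscreteTopology T := by
    rw [discreteTopology_iff_isOpen_singleton]
    intro x
    rw [← hq.isOpen_preimage]
    exact isOpen_discrete _
  infer_instance

lemma finiteOfDegLE_baseChange_iff {K L : Type u} [Field K] [Field L]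
    (φ : CommRingCat.of K ⟶ CommRingCat.of L) {T T' : Scheme.{u}}
    (p : T ⟶ Spec (CommRingCat.of K)) (p' : T' ⟶ Spec (CommRingCat.of L)) (fst : T' ⟶ T)
    (h : IsPullback fst p' p (Spec.map φ)) (n : ℕ) :
    BddFib.FiniteOfDegLE (CommRingCat.of L) p' n ↔ BddFib.FiniteOfDegLE (CommRingCat.of K) p n := by
  constructor
  · intro hp'
    have := isAffine_of_baseChange φ p p' fst h n hp'
    exact (finiteOfDegLE_baseChange_iff_of_isAffine φ p p' fst h n).mp hp'
  · intro hp
    have := hp.1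
    exact (finiteOfDegLE_baseChange_iff_of_isAffine φ p p' fst h n).mpr hp

end Groth.Agent.H4.BddFibLib
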