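import Groth.Agent.H4.BddFibLib
import Mathlib
set_option linter.style.haveILetI false
universe u
open CategoryTheory AlgebraicGeometry Limits TensorProduct

namespace Groth.Agent.H4.BddFibLib

lemma finiteOfDegLE_iff_fiber {X Y : Scheme.{u}} (f : X ⟶ Y) {k : Type u} [Field k]
    (g : Spec (CommRingCat.of k) ⟶ Y) {P : Scheme.{u}} (g' : P ⟶ X)
    (f' : P ⟶ Spec (CommRingCat.of k)) (h : IsPullback g' f' f g) (n : ℕ) :
    BddFib.FiniteOfDegLE (CommRingCat.of k) f' n ↔
      BddFib.FiniteOfDegLE (Y.residueField (g (IsLocalRing.closedPoint k)))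
        (f.fiberToSpecResidueField (g (IsLocalRing.closedPoint k))) n := by
  set y := g (IsLocalRing.closedPoint k) with hy
  let φ : CommRingCat.of (Y.residueField y) ⟶ CommRingCat.of k :=
    Scheme.descResidueField (Scheme.stalkClosedPointTo g)
  have hφ : Spec.map φ ≫ Y.fromSpecResidueField y = g :=
    Scheme.descResidueField_stalkClosedPointTo_fromSpecResidueField k Y g
  let fst' : P ⟶ f.fiber y := pullback.lift g' (f' ≫ Spec.map φ) (by
    rw [Category.assoc, hφ, h.w])
  have hsq : IsPullback fst' f' (f.fiberToSpecResidueField y) (Spec.map φ) := by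
    refine IsPullback.of_right (h₁₂ := f.fiberι y) (h₂₂ := Y.fromSpecResidueField y)
      (v₁₃ := f) ?_ ?_ (IsPullback.of_hasPullback f _)
    · have e1 : fst' ≫ f.fiberι y = g' := pullback.lift_fst _ _ _
      rw [e1, hφ]
      exact h
    · exact pullback.lift_snd _ _ _
  exact finiteOfDegLE_baseChange_iff (K := Y.residueField y) φ
    (f.fiberToSpecResidueField y) f' fst' hsq n


theorem fibreDegLE_iff_forall_field_points {X Y : Scheme.{u}} (f : X ⟶ Y) (n : ℕ) :
    BddFib.FibreDegLE f n ↔ ∀ (k : Type u) [Field k] (g : Spec (CommRingCat.of k) ⟶ Y),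
      BddFib.FiniteOfDegLE (CommRingCat.of k) (Limits.pullback.snd f g) n := by
  constructor
  · intro hf k _ g
    rw [finiteOfDegLE_iff_fiber f g _ _ (IsPullback.of_hasPullback f g) n]
    exact hf _
  · intro h y
    exact h (Y.residueField y) (Y.fromSpecResidueField y)

theorem fibreDegLE_of_isPullback {X Y X' Y' : Scheme.{u}} (f : X ⟶ Y) (g : Y' ⟶ Y) (f' : X' ⟶ Y')
    (g' : X' ⟶ X) (h : IsPullback g' f' f g) (n : ℕ) (hf : BddFib.FibreDegLE f n) :
    BddFib.FibreDegLE f' n := by
  intro y'
  have hsq := isPullback_fiberToSpecResidueField_of_isPullback h y'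
  exact (finiteOfDegLE_baseChange_iff (K := Y.residueField (g y')) (L := Y'.residueField y')
    (g.residueFieldMap y') _ _ _ hsq n).mpr (hf _)

theorem fibreDegLE_of_isPullback_of_surjective {X Y X' Y' : Scheme.{u}} (f : X ⟶ Y) (g : Y' ⟶ Y)
    [Surjective g] (f' : X' ⟶ Y') (g' : X' ⟶ X) (h : IsPullback g' f' f g) (n : ℕ)
    (hf' : BddFib.FibreDegLE f' n) : BddFib.FibreDegLE f n := by
  intro y
  obtain ⟨y', rfl⟩ := g.surjective y
  have hsq := isPullback_fiberToSpecResidueField_of_isPullback h y'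
  exact (finiteOfDegLE_baseChange_iff (K := Y.residueField (g y')) (L := Y'.residueField y')
    (g.residueFieldMap y') _ _ _ hsq n).mp (hf' _)

end Groth.Agent.H4.BddFibLib
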