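import Groth.Agent.H4.BddFibLib2
import Groth.Prelude.Def_Mor2
import Mathlib
set_option linter.style.haveILetI false
universe u
open CategoryTheory AlgebraicGeometry Limits TensorProduct

namespace Groth.Agent.H4.BddFibLib

lemma ringDegLE_one_of_surjective {K A : Type u} [CommRing K] [Nontrivial K] [CommRing A] (ψ : K →+* A)
    (h : Function.Surjective ψ) : RingDegLE ψ 1 := by
  letI := ψ.toAlgebra
  refine ⟨Module.Finite.of_surjective (Algebra.linearMap K A) h, ?_⟩
  refine finrank_le_one (1 : A) (fun w => ?_)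
  obtain ⟨c, rfl⟩ := h w
  exact ⟨c, by rw [Algebra.smul_def, mul_one]; rfl⟩

lemma finiteOfDegLE_one_of_isImmersion {K : Type u} [Field K] {T : Scheme.{u}}
    (p : T ⟶ Spec (CommRingCat.of K)) [IsImmersion p] :
    BddFib.FiniteOfDegLE (CommRingCat.of K) p 1 := by
  have : IsClosedImmersion p := by
    refine .of_isPreimmersion _ ?_
    have : Subsingleton (Spec (CommRingCat.of K)) :=
      inferInstanceAs (Subsingleton (PrimeSpectrum K))
    exact isClosed_discrete _
  obtain ⟨h1, h2⟩ := IsClosedImmersion.isAffine_surjective_of_isAffine p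
  rw [finiteOfDegLE_iff]
  refine ⟨h1, ringDegLE_one_of_surjective _ ?_⟩
  rw [CommRingCat.hom_comp, RingHom.coe_comp]
  exact h2.comp (ConcreteCategory.bijective_of_isIso (Scheme.ΓSpecIso _).inv).2

theorem fibreDegLE_one_of_isImmersion {X Y : Scheme.{u}} (f : X ⟶ Y) [IsImmersion f] :
    BddFib.FibreDegLE f 1 := by
  intro y
  have : IsImmersion (f.fiberToSpecResidueField y) :=
    MorphismProperty.pullback_snd _ _ inferInstance
  exact finiteOfDegLE_one_of_isImmersion (K := Y.residueField y) (f.fiberToSpecResidueField y)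


lemma finiteOfDegLE_of_finrank {K : Type u} [Field K] {T : Scheme.{u}}
    (p : T ⟶ Spec (CommRingCat.of K)) [IsFinite p] [Flat p] (d : ℕ)
    (hd : ∀ x, p.finrank x = d) :
    BddFib.FiniteOfDegLE (CommRingCat.of K) p d := by
  have : IsAffine T := isAffine_of_isAffineHom p
  rw [finiteOfDegLE_iff]
  refine ⟨inferInstance, ?_⟩
  set ψ := (Scheme.ΓSpecIso (CommRingCat.of K)).inv ≫ p.appTop with hψ
  have hp : p = T.isoSpec.hom ≫ Spec.map ψ := eq_isoSpec_comp p
  have h1 : IsFinite (Spec.map ψ) := by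
    have : IsFinite (T.isoSpec.hom ≫ Spec.map ψ) := hp ▸ inferInstance
    exact (MorphismProperty.cancel_left_of_respectsIso (P := @IsFinite) T.isoSpec.hom (Spec.map ψ)).mp this
  have h2 : Flat (Spec.map ψ) := by
    have : Flat (T.isoSpec.hom ≫ Spec.map ψ) := hp ▸ inferInstance
    exact (MorphismProperty.cancel_left_of_respectsIso (P := @Flat) T.isoSpec.hom (Spec.map ψ)).mp this
  have h3 : (Spec.map ψ).finrank = p.finrank := by
    conv_rhs => rw [hp]
    exact (Scheme.Hom.finrank_comp_left_of_isIso _ _).symm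
  have h1' : ψ.hom.Finite := (IsFinite.SpecMap_iff _).mp h1
  have h2' : ψ.hom.Flat := Flat.SpecMap_iff.mp h2
  rw [Scheme.Hom.finrank_SpecMap_eq_finrank h1' h2'] at h3
  letI := ψ.hom.toAlgebra
  refine ⟨h1', ?_⟩
  have h4 := hd default
  rw [← h3] at h4
  change Module.rankAtStalk _ _ = d at h4
  rw [Module.rankAtStalk_eq_finrank_of_free] at h4
  exact h4.le

theorem fibreDegLE_of_isFinLocFreeOfDeg {X Y : Scheme.{u}} (f : X ⟶ Y) (d : ℕ)
    (hf : Mor2.IsFinLocFreeOfDeg d f) : BddFib.FibreDegLE f d := by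
  obtain ⟨⟨h1, h2, h3⟩, h4⟩ := hf
  intro y
  have : IsFinite (f.fiberToSpecResidueField y) := MorphismProperty.pullback_snd _ _ inferInstance
  have : Flat (f.fiberToSpecResidueField y) := MorphismProperty.pullback_snd _ _ inferInstance
  refine finiteOfDegLE_of_finrank (K := Y.residueField y) (f.fiberToSpecResidueField y) d ?_
  intro x
  have := Scheme.Hom.finrank_pullback_snd f (Y.fromSpecResidueField y) x
  rw [h4] at this
  exact this

end Groth.Agent.H4.BddFibLib
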