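import Groth.Agent.H4.BddFibLib3
import Mathlib
set_option linter.style.haveILetI false
universe u
open CategoryTheory AlgebraicGeometry Limits TensorProduct

namespace Groth.Agent.H4.BddFibLib

section resfield

variable {A B : Type u} [CommRing A] [CommRing B] (φ : A →+* B)

/-- evaluation of elements of `B` in the residue field at `q` -/
noncomputable def evAt (q : Spec (CommRingCat.of B)) : B →+* (Spec (CommRingCat.of B)).residueField q :=
  ((Scheme.ΓSpecIso (CommRingCat.of B)).inv ≫ (Spec (CommRingCat.of B)).Γevaluation q).hom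

theorem evAt_eq (q : Spec (CommRingCat.of B)) (b : B) :
    evAt q b = (Scheme.Spec.residueFieldIso (CommRingCat.of B) q).inv
      (algebraMap B q.asIdeal.ResidueField b) := by
  have := Scheme.Spec.algebraMap_residueFieldIso_inv (CommRingCat.of B) q
  have h2 := congrArg (fun f => f.hom b) this
  simp only [CommRingCat.hom_comp, RingHom.comp_apply, CommRingCat.hom_ofHom] at h2
  rw [h2]
  rfl

theorem evAt_comp (q : Spec (CommRingCat.of B)) (a : A) :
    evAt q (φ a) = (Spec.map (CommRingCat.ofHom φ)).residueFieldMap q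
      (evAt (Spec.map (CommRingCat.ofHom φ) q) a) := by
  unfold evAt
  simp only [CommRingCat.hom_comp, RingHom.comp_apply]
  erw [Scheme.Γevaluation_naturality_apply]
  congr 1
  have := Scheme.ΓSpecIso_inv_naturality (CommRingCat.ofHom φ)
  exact congrArg (fun f => f.hom a) this

theorem evAt_surjective_of_isMaximal (q : Spec (CommRingCat.of B)) (hq : q.asIdeal.IsMaximal) :
    Function.Surjective (evAt q) := by
  intro z
  obtain ⟨b, hb⟩ := Ideal.algebraMap_residueField_surjective q.asIdeal
    ((Scheme.Spec.residueFieldIso (CommRingCat.of B) q).hom z)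
  refine ⟨b, ?_⟩
  rw [evAt_eq, hb]
  exact congrArg (fun f => f.hom z) (Scheme.Spec.residueFieldIso (CommRingCat.of B) q).hom_inv_id

theorem evAt_eq_zero_of_mem (q : Spec (CommRingCat.of B)) (b : B) (hb : b ∈ q.asIdeal) :
    evAt q b = 0 := by
  rw [evAt_eq, Ideal.algebraMap_residueField_eq_zero.mpr hb, map_zero]

end resfield

lemma isMaximal_of_finite {K B : Type u} [Field K] [CommRing B] [Algebra K B]
    [Module.Finite K B] (q : PrimeSpectrum B) : q.asIdeal.IsMaximal := by
  have : IsArtinianRing B := IsArtinianRing.of_finite K B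
  exact IsArtinianRing.isMaximal_of_isPrime q.asIdeal

lemma sum_finrank_quotient_le {K B : Type u} [Field K] [CommRing B] [Algebra K B]
    [Module.Finite K B] [Fintype (PrimeSpectrum B)] :
    ∑ q : PrimeSpectrum B, Module.finrank K (B ⧸ q.asIdeal) ≤ Module.finrank K B := by
  have hco : Pairwise (Function.onFun IsCoprime fun q : PrimeSpectrum B => q.asIdeal) := by
    intro q q' hne
    have h1 := isMaximal_of_finite (K := K) q
    have h2 := isMaximal_of_finite (K := K) q'
    change IsCoprime q.asIdeal q'.asIdeal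
    rw [Ideal.isCoprime_iff_sup_eq]
    exact Ideal.IsMaximal.coprime_of_ne h1 h2 (fun h => hne (PrimeSpectrum.ext h))
  have hs := Ideal.pi_mkQ_surjective hco
  let F : B →ₗ[K] (∀ q : PrimeSpectrum B, B ⧸ q.asIdeal) :=
    (LinearMap.pi fun q : PrimeSpectrum B => (q.asIdeal).mkQ).restrictScalars K
  have hF : Function.Surjective F := hs
  have := LinearMap.finrank_le_finrank_of_surjective hF
  rwa [Module.finrank_pi_fintype] at this

lemma residueDegree_SpecMap_le {K B : Type u} [Field K] [CommRing B] [Algebra K B]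
    [Module.Finite K B] (q : Spec (CommRingCat.of B)) :
    1 ≤ (Spec.map (CommRingCat.ofHom (algebraMap K B))).residueDegree q ∧
      (Spec.map (CommRingCat.ofHom (algebraMap K B))).residueDegree q ≤
        Module.finrank K (B ⧸ q.asIdeal) := by
  have hq : q.asIdeal.IsMaximal := isMaximal_of_finite (K := K) q
  set f := Spec.map (CommRingCat.ofHom (algebraMap K B)) with hf
  let E := (Spec (CommRingCat.of B)).residueField q
  let F := (Spec (CommRingCat.of K)).residueField (f q)
  let ρ : F →+* E := (f.residueFieldMap q).hom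
  let ι : K →+* F := evAt (f q)
  let ε : B →+* E := evAt q
  have hcomp : ∀ a, ε (algebraMap K B a) = ρ (ι a) := fun a => evAt_comp (algebraMap K B) q a
  letI : Algebra F E := ρ.toAlgebra
  letI : Algebra K F := ι.toAlgebra
  letI : Algebra K E := (ε.comp (algebraMap K B)).toAlgebra
  have : IsScalarTower K F E := IsScalarTower.of_algebraMap_eq (fun a => hcomp a)
  let εa : B →ₐ[K] E := { ε with commutes' := fun a => rfl }
  have hεs : Function.Surjective εa := evAt_surjective_of_isMaximal q hq
  let εq : (B ⧸ q.asIdeal) →ₐ[K] E := Ideal.Quotient.liftₐ q.asIdeal εa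
    (fun b hb => evAt_eq_zero_of_mem q b hb)
  have hεqs : Function.Surjective εq := by
    intro z
    obtain ⟨b, rfl⟩ := hεs z
    exact ⟨Ideal.Quotient.mk _ b, rfl⟩
  have hfinE : Module.Finite K E := Module.Finite.of_surjective εq.toLinearMap hεqs
  have h1 : Module.finrank K E ≤ Module.finrank K (B ⧸ q.asIdeal) :=
    LinearMap.finrank_le_finrank_of_surjective (f := εq.toLinearMap) hεqs
  have hfinF : Module.Finite K F := FiniteDimensional.left K F E
  have hfinFE : Module.Finite F E := FiniteDimensional.right K F E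
  have h2 := Module.finrank_mul_finrank K F E
  have h3 : 0 < Module.finrank K F := Module.finrank_pos
  have h4 : 0 < Module.finrank F E := Module.finrank_pos
  change 1 ≤ Module.finrank F E ∧ Module.finrank F E ≤ _
  refine ⟨h4, le_trans ?_ h1⟩
  rw [← h2]
  exact Nat.le_mul_of_pos_left _ h3


lemma residueDegree_comp_of_isIso {T S Z : Scheme.{u}} (e : T ⟶ S) [IsIso e] (q : S ⟶ Z) (x : T) :
    (e ≫ q).residueDegree x = q.residueDegree (e x) := by
  unfold Scheme.Hom.residueDegree
  have h := Scheme.residueFieldMap_comp e q x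
  letI a1 : Algebra (Z.residueField (q (e x))) (S.residueField (e x)) :=
    (q.residueFieldMap (e x)).hom.toAlgebra
  letI a2 : Algebra (Z.residueField (q (e x))) (T.residueField x) :=
    ((e ≫ q).residueFieldMap x).hom.toAlgebra
  have hbij : Function.Bijective (e.residueFieldMap x).hom :=
    ConcreteCategory.bijective_of_isIso (e.residueFieldMap x)
  let σ : S.residueField (e x) ≃+* T.residueField x := RingEquiv.ofBijective _ hbij
  let σa : S.residueField (e x) ≃ₐ[Z.residueField (q (e x))] T.residueField x :=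
    AlgEquiv.ofRingEquiv (f := σ) (fun z => by
      change (e.residueFieldMap x).hom ((q.residueFieldMap (e x)).hom z) =
        ((e ≫ q).residueFieldMap x).hom z
      rw [h]
      rfl)
  exact (σa.toLinearEquiv.finrank_eq).symm

lemma finsum_residueDegree_SpecMap {K B : Type u} [Field K] [CommRing B] [Algebra K B]
    [Module.Finite K B] :
    Finite (Spec (CommRingCat.of B)) ∧ Nat.card (Spec (CommRingCat.of B)) ≤ Module.finrank K B ∧
      ∑ᶠ q : Spec (CommRingCat.of B),
        (Spec.map (CommRingCat.ofHom (algebraMap K B))).residueDegree q ≤ Module.finrank K B := by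
  have : IsArtinianRing B := IsArtinianRing.of_finite K B
  have hfin : Finite (PrimeSpectrum B) := inferInstance
  have hfin' : Finite (Spec (CommRingCat.of B)) := hfin
  letI : Fintype (PrimeSpectrum B) := Fintype.ofFinite _
  letI : Fintype (Spec (CommRingCat.of B)) := ‹Fintype (PrimeSpectrum B)›
  have hsum := sum_finrank_quotient_le (K := K) (B := B)
  refine ⟨hfin', ?_, ?_⟩
  · rw [Nat.card_eq_fintype_card]
    refine le_trans ?_ hsum
    rw [Fintype.card_eq_sum_ones]
    refine Finset.sum_le_sum (fun q _ => ?_)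
    exact le_trans (residueDegree_SpecMap_le (K := K) q).1 (residueDegree_SpecMap_le (K := K) q).2
  · rw [finsum_eq_sum_of_fintype]
    refine le_trans ?_ hsum
    exact Finset.sum_le_sum (fun q _ => (residueDegree_SpecMap_le (K := K) q).2)

lemma finsum_residueDegree_le_of_finiteOfDegLE {K : Type u} [Field K] {T : Scheme.{u}}
    (p : T ⟶ Spec (CommRingCat.of K)) (n : ℕ) (hp : BddFib.FiniteOfDegLE (CommRingCat.of K) p n) :
    Finite T ∧ Nat.card T ≤ n ∧ ∑ᶠ x : T, p.residueDegree x ≤ n := by
  rw [finiteOfDegLE_iff] at hp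
  obtain ⟨haff, hp2⟩ := hp
  set ψ := (Scheme.ΓSpecIso (CommRingCat.of K)).inv ≫ p.appTop with hψ
  have hpe : p = T.isoSpec.hom ≫ Spec.map ψ := eq_isoSpec_comp p
  letI : Algebra K Γ(T, ⊤) := ψ.hom.toAlgebra
  obtain ⟨hfin, hrank⟩ := hp2
  have hfin' : Module.Finite K Γ(T, ⊤) := hfin
  obtain ⟨h1, h2, h3⟩ := finsum_residueDegree_SpecMap (K := K) (B := Γ(T, ⊤))
  have hψ' : CommRingCat.ofHom (algebraMap K Γ(T, ⊤)) = ψ := rfl
  rw [hψ'] at h3
  let e : T ≃ Spec Γ(T, ⊤) := T.isoSpec.hom.homeomorph.toEquiv
  have hT : Finite T := Finite.of_equiv _ e.symm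
  refine ⟨hT, ?_, ?_⟩
  · rw [Nat.card_congr e]
    exact le_trans h2 hrank
  · have : ∀ x : T, p.residueDegree x = (Spec.map ψ).residueDegree (e x) := by
      intro x
      have := residueDegree_comp_of_isIso T.isoSpec.hom (Spec.map ψ) x
      rw [← hpe] at this
      exact this
    simp_rw [this]
    rw [finsum_comp_equiv e (f := fun q => (Spec.map ψ).residueDegree q)]
    exact le_trans h3 hrank

end Groth.Agent.H4.BddFibLib
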