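import Groth.Agent.H4.BddFibLib4
import Mathlib
set_option linter.style.haveILetI false
universe u
open CategoryTheory AlgebraicGeometry Limits TensorProduct

namespace Groth.Agent.H4.BddFibLib

lemma ringDegLE_of_injective {K A B : Type u} [Field K] [CommRing A] [CommRing B]
    (ψA : K →+* A) (σ : A →+* B) (hσ : Function.Injective σ) (n : ℕ)
    (h : RingDegLE (σ.comp ψA) n) : RingDegLE ψA n := by
  letI := ψA.toAlgebra
  letI := (σ.comp ψA).toAlgebra
  let σa : A →ₐ[K] B := { σ with commutes' := fun a => rfl }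
  obtain ⟨h1, h2⟩ := h
  have h1' : Module.Finite K B := h1
  have hA : Module.Finite K A := Module.Finite.of_injective σa.toLinearMap hσ
  refine ⟨hA, le_trans ?_ h2⟩
  exact LinearMap.finrank_le_finrank_of_injective (f := σa.toLinearMap) hσ

lemma finiteOfDegLE_of_flat_surjective {K : Type u} [Field K] {T S : Scheme.{u}} (q : T ⟶ S)
    [Flat q] [Surjective q] (pS : S ⟶ Spec (CommRingCat.of K)) (n : ℕ)
    (h : BddFib.FiniteOfDegLE (CommRingCat.of K) (q ≫ pS) n) :
    BddFib.FiniteOfDegLE (CommRingCat.of K) pS n := by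
  obtain ⟨hfin, hdisc⟩ := finite_discrete_of_finiteOfDegLE _ n h
  have hqc : QuasiCompact q := ⟨fun U _ _ => (Set.toFinite _).isCompact⟩
  have hq := Flat.isQuotientMap_of_surjective q
  have : Finite S := Finite.of_surjective _ q.surjective
  have : DiscreteTopology S := by
    rw [discreteTopology_iff_isOpen_singleton]
    intro x
    rw [← hq.isOpen_preimage]
    exact isOpen_discrete _
  have hS : IsAffine S := inferInstance
  rw [finiteOfDegLE_iff] at h ⊢
  obtain ⟨hT, h2⟩ := h
  refine ⟨hS, ?_⟩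
  have hff : q.appTop.hom.FaithfullyFlat :=
    (Flat.flat_and_surjective_iff_faithfullyFlat_of_isAffine q).mp ⟨inferInstance, inferInstance⟩
  have e : ((Scheme.ΓSpecIso (CommRingCat.of K)).inv ≫ (q ≫ pS).appTop).hom =
      q.appTop.hom.comp ((Scheme.ΓSpecIso (CommRingCat.of K)).inv ≫ pS.appTop).hom := by
    rw [Scheme.Hom.comp_appTop]; rfl
  rw [e] at h2
  exact ringDegLE_of_injective _ q.appTop.hom hff.injective n h2

theorem fibreDegLE_of_flat_surjective_triangle {X Y Z : Scheme.{u}} (f : X ⟶ Y) (h : Y ⟶ Z)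
    [Flat f] [Surjective f] (n : ℕ) (hg : BddFib.FibreDegLE (f ≫ h) n) :
    BddFib.FibreDegLE h n := by
  intro z
  let q : (f ≫ h).fiber z ⟶ h.fiber z :=
    pullback.lift ((f ≫ h).fiberι z ≫ f) ((f ≫ h).fiberToSpecResidueField z)
      (by rw [Category.assoc]; exact (f ≫ h).fiber_fac z)
  have hq2 : q ≫ h.fiberToSpecResidueField z = (f ≫ h).fiberToSpecResidueField z :=
    pullback.lift_snd _ _ _
  have hq1 : q ≫ h.fiberι z = (f ≫ h).fiberι z ≫ f := pullback.lift_fst _ _ _
  have hsq : IsPullback q ((f ≫ h).fiberι z) (h.fiberι z) f := by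
    refine IsPullback.of_right (h₁₂ := h.fiberToSpecResidueField z) (h₂₂ := h)
      (v₁₃ := Z.fromSpecResidueField z) ?_ hq1 (IsPullback.of_hasPullback h _).flip
    rw [hq2]
    exact (IsPullback.of_hasPullback (f ≫ h) _).flip
  have : Flat q := MorphismProperty.of_isPullback hsq.flip inferInstance
  have : Surjective q := MorphismProperty.of_isPullback hsq.flip inferInstance
  refine finiteOfDegLE_of_flat_surjective (K := Z.residueField z) q _ n ?_
  rw [hq2]
  exact hg z

end Groth.Agent.H4.BddFibLib
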