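import Groth.Agent.H4.BddFibLib5
import Mathlib
set_option linter.style.haveILetI false
universe u
open CategoryTheory AlgebraicGeometry Limits TensorProduct

namespace Groth.Agent.H4.BddFibLib

lemma locallyQuasiFinite_of_etale {X Y : Scheme.{u}} (f : X ⟶ Y) [Etale f] :
    LocallyQuasiFinite f := by
  rw [HasRingHomProperty.iff_appLE (P := @LocallyQuasiFinite)]
  intro U V e
  have h := f.etale_appLE U.2 V.2 e
  algebraize [(f.appLE U V e).hom]
  have : Algebra.Etale Γ(Y, U) Γ(X, V) := h
  change Algebra.QuasiFinite _ _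
  infer_instance


lemma finrank_le_card_of_isReduced {L B : Type u} [Field L] [IsAlgClosed L] [CommRing B]
    [Algebra L B] [Module.Finite L B] [IsReduced B] :
    Module.finrank L B ≤ Nat.card (PrimeSpectrum B) := by
  have : IsArtinianRing B := IsArtinianRing.of_finite L B
  have hfin : Finite (PrimeSpectrum B) := inferInstance
  letI : Fintype (PrimeSpectrum B) := Fintype.ofFinite _
  let F : B →ₗ[L] (∀ q : PrimeSpectrum B, B ⧸ q.asIdeal) :=
    (LinearMap.pi fun q : PrimeSpectrum B => (q.asIdeal).mkQ).restrictScalars L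
  have hF : Function.Injective F := by
    rw [injective_iff_map_eq_zero]
    intro b hb
    have hb' : ∀ q : PrimeSpectrum B, b ∈ q.asIdeal := by
      intro q
      have := congrFun hb q
      exact (Submodule.Quotient.mk_eq_zero _).mp this
    have : b ∈ nilradical B := by
      rw [nilradical_eq_sInf, Ideal.mem_sInf]
      intro I hI
      exact hb' ⟨I, hI⟩
    rw [nilradical_eq_zero] at this
    exact this
  have h1 := LinearMap.finrank_le_finrank_of_injective hF
  rw [Module.finrank_pi_fintype] at h1
  refine le_trans h1 ?_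
  rw [Nat.card_eq_fintype_card, Fintype.card_eq_sum_ones]
  refine Finset.sum_le_sum (fun q _ => ?_)
  have hq : q.asIdeal.IsMaximal := isMaximal_of_finite (K := L) q
  letI : Field (B ⧸ q.asIdeal) := Ideal.Quotient.field _
  have hb : Function.Bijective (algebraMap L (B ⧸ q.asIdeal)) :=
    IsAlgClosed.algebraMap_bijective_of_isIntegral
  let e : L ≃ₗ[L] (B ⧸ q.asIdeal) := LinearEquiv.ofBijective (Algebra.linearMap L _) hb
  rw [← e.finrank_eq, Module.finrank_self]

lemma finiteOfDegLE_of_etale_of_card_le {L : Type u} [Field L] [IsAlgClosed L] {T : Scheme.{u}}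
    (p : T ⟶ Spec (CommRingCat.of L)) [Etale p] (n : ℕ) (hT : Finite T) (hn : Nat.card T ≤ n) :
    BddFib.FiniteOfDegLE (CommRingCat.of L) p n := by
  have hqf := locallyQuasiFinite_of_etale p
  have hdisc : DiscreteTopology T := by
    have := p.isDiscrete_preimage_singleton default
    have huniv : p ⁻¹' {default} = Set.univ := by
      ext x; simp only [Set.mem_preimage, Set.mem_singleton_iff, Set.mem_univ, iff_true]
      exact Subsingleton.elim (α := PrimeSpectrum L) _ _
    rw [huniv] at this
    exact isDiscrete_univ_iff.mp this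
  have haff : IsAffine T := inferInstance
  rw [finiteOfDegLE_iff]
  refine ⟨haff, ?_⟩
  set ψ := (Scheme.ΓSpecIso (CommRingCat.of L)).inv ≫ p.appTop with hψ
  have hpe : p = T.isoSpec.hom ≫ Spec.map ψ := eq_isoSpec_comp p
  have het : Etale (Spec.map ψ) := by
    have : Etale (T.isoSpec.hom ≫ Spec.map ψ) := hpe ▸ inferInstance
    exact (MorphismProperty.cancel_left_of_respectsIso (P := @Etale) T.isoSpec.hom
      (Spec.map ψ)).mp this
  have het' : ψ.hom.Etale := (HasRingHomProperty.Spec_iff (P := @Etale)).mp het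
  letI : Algebra L Γ(T, ⊤) := ψ.hom.toAlgebra
  have hE : Algebra.Etale L Γ(T, ⊤) := het'
  have hfin : Module.Finite L Γ(T, ⊤) := Algebra.FormallyUnramified.finite_of_free L _
  have hred : IsReduced Γ(T, ⊤) := Algebra.FormallyUnramified.isReduced_of_field L _
  refine ⟨hfin, le_trans finrank_le_card_of_isReduced ?_⟩
  let e : T ≃ Spec Γ(T, ⊤) := T.isoSpec.hom.homeomorph.toEquiv
  have : Nat.card (PrimeSpectrum Γ(T, ⊤)) = Nat.card T := (Nat.card_congr e).symm
  rw [this]
  exact hn


theorem fibreDegLE_of_natCard_le_of_etale {X Y : Scheme.{u}} (f : X ⟶ Y) [Etale f] (n : ℕ)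
    (h : ∀ (k : Type u) [Field k] (g : Spec (CommRingCat.of k) ⟶ Y),
      Finite ↥(Limits.pullback f g) ∧ Nat.card ↥(Limits.pullback f g) ≤ n) :
    BddFib.FibreDegLE f n := by
  intro y
  let K := Y.residueField y
  let L := AlgebraicClosure K
  let φ : CommRingCat.of K ⟶ CommRingCat.of L := CommRingCat.ofHom (algebraMap K L)
  let g : Spec (CommRingCat.of L) ⟶ Y := Spec.map φ ≫ Y.fromSpecResidueField y
  obtain ⟨h1, h2⟩ := h L g
  have hp' := finiteOfDegLE_of_etale_of_card_le (pullback.snd f g) n h1 h2
  let fst' : pullback f g ⟶ f.fiber y :=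
    pullback.lift (pullback.fst f g) (pullback.snd f g ≫ Spec.map φ)
      (by rw [Category.assoc]; exact pullback.condition)
  have hsq : IsPullback fst' (pullback.snd f g) (f.fiberToSpecResidueField y) (Spec.map φ) := by
    refine IsPullback.of_right (h₁₂ := f.fiberι y) (h₂₂ := Y.fromSpecResidueField y)
      (v₁₃ := f) ?_ ?_ (IsPullback.of_hasPullback f _)
    · have e1 : fst' ≫ f.fiberι y = pullback.fst f g := pullback.lift_fst _ _ _
      rw [e1]
      exact IsPullback.of_hasPullback f g
    · exact pullback.lift_snd _ _ _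
  exact (finiteOfDegLE_baseChange_iff (K := K) (L := L) φ
    (f.fiberToSpecResidueField y) (pullback.snd f g) fst' hsq n).mp hp'

end Groth.Agent.H4.BddFibLib
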