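import Groth.Agent.H4.BddFibLib6
import Groth.Agent.H4.BddFibAlg
import Mathlib
set_option linter.style.haveILetI false
universe u
open CategoryTheory AlgebraicGeometry Limits TensorProduct

namespace Groth.Agent.H4.BddFibLib

/-- General-ring version: the base change of `Spec A → Spec K` along `Spec L → Spec K`. -/
lemma finiteOfDegLE_pullback_Spec_iff {K L A : Type u} [CommRing K] [CommRing L] [CommRing A]
    [Algebra K L] [Algebra K A]
    {T' : Scheme.{u}} (p' : T' ⟶ Spec (CommRingCat.of L)) (fst : T' ⟶ Spec (CommRingCat.of A))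
    (h : IsPullback fst p' (Spec.map (CommRingCat.ofHom (algebraMap K A)))
      (Spec.map (CommRingCat.ofHom (algebraMap K L)))) (n : ℕ) :
    BddFib.FiniteOfDegLE (CommRingCat.of L) p' n ↔ RingDegLE (algebraMap L (L ⊗[K] A)) n := by
  have hpo := CommRingCat.isPushout_tensorProduct K L A
  have hpb := (isPullback_SpecMap_of_isPushout _ _ _ _ hpo)
  have h' : IsPullback (Spec.map (CommRingCat.ofHom (S := L ⊗[K] A)
      Algebra.TensorProduct.includeRight.toRingHom))
      (Spec.map (CommRingCat.ofHom (S := L ⊗[K] A) Algebra.TensorProduct.includeLeftRingHom))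
      (Spec.map (CommRingCat.ofHom (algebraMap K A)))
      (Spec.map (CommRingCat.ofHom (algebraMap K L))) := hpb.flip
  let e := h.isoIsPullback _ _ h'
  have he : e.hom ≫ Spec.map (CommRingCat.ofHom (S := L ⊗[K] A)
      Algebra.TensorProduct.includeLeftRingHom) = p' := h.isoIsPullback_hom_snd _ _ h'
  constructor
  · intro hp
    have := finiteOfDegLE_of_iso (Spec.map (CommRingCat.ofHom (S := L ⊗[K] A)
      Algebra.TensorProduct.includeLeftRingHom)) p' e.symm (by rw [← he]; simp) n hp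
    rw [finiteOfDegLE_Spec_iff] at this
    exact this
  · intro hp
    refine finiteOfDegLE_of_iso p' _ e he n ?_
    rw [finiteOfDegLE_Spec_iff]
    exact hp

/-- spanning set from a dimension bound on `M/pM` -/
lemma exists_span_sup_smul_top_eq_top {C M : Type*} [CommRing C] [AddCommGroup M] [Module C M]
    (p : Ideal C) [hp : p.IsMaximal] (n : ℕ)
    (h : letI := Ideal.Quotient.field p
      Module.Finite (C ⧸ p) (M ⧸ p • (⊤ : Submodule C M)) ∧
      Module.finrank (C ⧸ p) (M ⧸ p • (⊤ : Submodule C M)) ≤ n) :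
    ∃ t : Fin n → M, Submodule.span C (Set.range t) ⊔ p • (⊤ : Submodule C M) = ⊤ := by
  letI := Ideal.Quotient.field p
  obtain ⟨hfin, hle⟩ := h
  set V := M ⧸ p • (⊤ : Submodule C M) with hV
  let b := Module.finBasis (C ⧸ p) V
  let v : Fin n → V := fun j => if hj : (j : ℕ) < Module.finrank (C ⧸ p) V then b ⟨j, hj⟩ else 0
  have hv : Submodule.span (C ⧸ p) (Set.range v) = ⊤ := by
    rw [eq_top_iff, ← b.span_eq]
    refine Submodule.span_mono ?_
    rintro _ ⟨i, rfl⟩
    refine ⟨⟨i, lt_of_lt_of_le i.2 hle⟩, ?_⟩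
    simp [v]
  choose t ht using fun j => Submodule.Quotient.mk_surjective (p • (⊤ : Submodule C M)) (v j)
  refine ⟨t, ?_⟩
  rw [eq_top_iff]
  rintro m -
  have hm : (Submodule.Quotient.mk m : V) ∈ Submodule.span (C ⧸ p) (Set.range v) := by
    rw [hv]; exact Submodule.mem_top
  obtain ⟨cf, hcf⟩ := (Submodule.mem_span_range_iff_exists_fun (C ⧸ p)).mp hm
  choose c hc using fun j => Ideal.Quotient.mk_surjective (cf j)
  have hz : m - ∑ j, c j • t j ∈ p • (⊤ : Submodule C M) := by
    rw [← Submodule.Quotient.mk_eq_zero, Submodule.Quotient.mk_sub, ← hcf, sub_eq_zero]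
    rw [← Submodule.mkQ_apply, map_sum]
    refine Finset.sum_congr rfl (fun j _ => ?_)
    rw [Submodule.mkQ_apply]
    rw [← hc j, ← ht j, Module.Quotient.mk_smul_mk]
  have : m = ∑ j, c j • t j + (m - ∑ j, c j • t j) := by abel
  rw [this]
  refine Submodule.add_mem_sup ?_ hz
  exact Submodule.sum_mem _ (fun j _ => Submodule.smul_mem _ _ (Submodule.subset_span ⟨j, rfl⟩))


lemma ringDegLE_algebraMap_iff {R S : Type u} [CommRing R] [CommRing S] [Algebra R S] (n : ℕ) :
    RingDegLE (algebraMap R S) n ↔ Module.Finite R S ∧ Module.finrank R S ≤ n := by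
  unfold RingDegLE
  have e2 : (algebraMap R S).toAlgebra = ‹Algebra R S› := Algebra.algebra_ext _ _ (fun r => rfl)
  rw [e2]

lemma fibSpan_of_fibreDegLE {C B : Type u} [CommRing C] [CommRing B] [Algebra C B] (n : ℕ)
    (h : BddFib.FibreDegLE (Spec.map (CommRingCat.ofHom (algebraMap C B))) n) :
    FibSpan C B n := by
  intro p hp
  haveI := hp
  letI := Ideal.Quotient.field p
  let g : Spec (CommRingCat.of (C ⧸ p)) ⟶ Spec (CommRingCat.of C) :=
    Spec.map (CommRingCat.ofHom (algebraMap C (C ⧸ p)))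
  have h1 := (fibreDegLE_iff_forall_field_points _ n).mp h (C ⧸ p) g
  have h2 := (finiteOfDegLE_pullback_Spec_iff (K := C) (L := C ⧸ p) (A := B)
    (pullback.snd _ g) (pullback.fst _ g) (IsPullback.of_hasPullback _ _) n).mp h1
  rw [ringDegLE_algebraMap_iff] at h2
  obtain ⟨h3, h4⟩ := h2
  apply exists_span_sup_smul_top_eq_top p n
  let e : (C ⧸ p) ⊗[C] B ≃ₗ[C ⧸ p] B ⧸ p • (⊤ : Submodule C B) :=
    (quotTensorEquivQuotSMul B p).extendScalarsOfSurjective Ideal.Quotient.mk_surjective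
  exact ⟨Module.Finite.equiv e, by rw [← e.finrank_eq]; exact h4⟩


lemma finite_discrete_of_fibreDegLE {T S : Scheme.{u}} (q : T ⟶ S) (n : ℕ)
    (hq : BddFib.FibreDegLE q n) [Finite S] [DiscreteTopology S] :
    Finite T ∧ DiscreteTopology T := by
  have hfib : ∀ s : S, Finite (q.fiber s) ∧ DiscreteTopology (q.fiber s) := fun s =>
    finite_discrete_of_finiteOfDegLE (L := S.residueField s) (q.fiberToSpecResidueField s) n (hq s)
  have hfin : ∀ s : S, (q ⁻¹' {s}).Finite := by
    intro s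
    have := (hfib s).1
    have h2 : Finite (q ⁻¹' {s}) := Finite.of_equiv _ (q.fiberHomeo s).toEquiv
    exact Set.toFinite _
  constructor
  · have : (q ⁻¹' (Set.univ : Set S)).Finite :=
      Set.Finite.preimage' Set.finite_univ (fun s _ => hfin s)
    rw [Set.preimage_univ] at this
    exact Set.finite_univ_iff.mp this
  · rw [discreteTopology_iff_isOpen_singleton]
    intro x
    have hopen : IsOpen (q ⁻¹' {q x}) := (isOpen_discrete _).preimage q.continuous
    have : DiscreteTopology (q ⁻¹' {q x}) := by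
      have := (hfib (q x)).2
      exact (q.fiberHomeo (q x)).discreteTopology
    have h1 : IsOpen ({⟨x, rfl⟩} : Set (q ⁻¹' {q x})) := isOpen_discrete _
    have h2 := hopen.isOpenEmbedding_subtypeVal.isOpenMap _ h1
    simpa using h2


lemma finiteOfDegLE_comp_mul {K : Type u} [Field K] {T S : Scheme.{u}} (q : T ⟶ S)
    (pS : S ⟶ Spec (CommRingCat.of K)) (n m : ℕ) (hq : BddFib.FibreDegLE q n)
    (hS : BddFib.FiniteOfDegLE (CommRingCat.of K) pS m) :
    BddFib.FiniteOfDegLE (CommRingCat.of K) (q ≫ pS) (n * m) := by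
  obtain ⟨hSfin, hSdisc⟩ := finite_discrete_of_finiteOfDegLE pS m hS
  obtain ⟨hTfin, hTdisc⟩ := finite_discrete_of_fibreDegLE q n hq
  have hSaff : IsAffine S := hS.1
  have hTaff : IsAffine T := inferInstance
  have hsq : IsPullback T.isoSpec.inv (Spec.map q.appTop) q S.isoSpec.inv :=
    IsPullback.of_horiz_isIso ⟨by
      rw [Iso.inv_comp_eq, ← Category.assoc, Iso.eq_comp_inv]
      exact (Scheme.isoSpec_hom_naturality q).symm⟩
  have hq' : BddFib.FibreDegLE (Spec.map q.appTop) n :=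
    fibreDegLE_of_isPullback q S.isoSpec.inv (Spec.map q.appTop) T.isoSpec.inv hsq n hq
  letI : Algebra Γ(S, ⊤) Γ(T, ⊤) := q.appTop.hom.toAlgebra
  have hspan : FibSpan Γ(S, ⊤) Γ(T, ⊤) n := fibSpan_of_fibreDegLE n hq'
  rw [finiteOfDegLE_iff] at hS ⊢
  obtain ⟨-, hS2⟩ := hS
  refine ⟨hTaff, ?_⟩
  letI : Algebra K Γ(S, ⊤) := ((Scheme.ΓSpecIso (CommRingCat.of K)).inv ≫ pS.appTop).hom.toAlgebra
  letI : Algebra K Γ(T, ⊤) :=
    ((Scheme.ΓSpecIso (CommRingCat.of K)).inv ≫ (q ≫ pS).appTop).hom.toAlgebra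
  have : IsScalarTower K Γ(S, ⊤) Γ(T, ⊤) := .of_algebraMap_eq (fun a => by
    change ((Scheme.ΓSpecIso (CommRingCat.of K)).inv ≫ (q ≫ pS).appTop).hom a =
      q.appTop.hom (((Scheme.ΓSpecIso (CommRingCat.of K)).inv ≫ pS.appTop).hom a)
    rw [Scheme.Hom.comp_appTop]; rfl)
  obtain ⟨hfinS, hleS⟩ := hS2
  have hfinS' : Module.Finite K Γ(S, ⊤) := hfinS
  obtain ⟨h1, h2⟩ := fibSpan_bound (K := K) n _ Γ(S, ⊤) rfl Γ(T, ⊤) hspan
  exact ⟨h1, le_trans h2 (Nat.mul_le_mul_left n hleS)⟩

theorem fibreDegLE_comp_mul {X Y Z : Scheme.{u}} (f : X ⟶ Y) (g : Y ⟶ Z) (n m : ℕ)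
    (hf : BddFib.FibreDegLE f n) (hg : BddFib.FibreDegLE g m) :
    BddFib.FibreDegLE (f ≫ g) (n * m) := by
  intro z
  let q : (f ≫ g).fiber z ⟶ g.fiber z :=
    pullback.lift ((f ≫ g).fiberι z ≫ f) ((f ≫ g).fiberToSpecResidueField z)
      (by rw [Category.assoc]; exact (f ≫ g).fiber_fac z)
  have hq2 : q ≫ g.fiberToSpecResidueField z = (f ≫ g).fiberToSpecResidueField z :=
    pullback.lift_snd _ _ _
  have hq1 : q ≫ g.fiberι z = (f ≫ g).fiberι z ≫ f := pullback.lift_fst _ _ _
  have hsq : IsPullback q ((f ≫ g).fiberι z) (g.fiberι z) f := by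
    refine IsPullback.of_right (h₁₂ := g.fiberToSpecResidueField z) (h₂₂ := g)
      (v₁₃ := Z.fromSpecResidueField z) ?_ hq1 (IsPullback.of_hasPullback g _).flip
    rw [hq2]
    exact (IsPullback.of_hasPullback (f ≫ g) _).flip
  have hq : BddFib.FibreDegLE q n :=
    fibreDegLE_of_isPullback f (g.fiberι z) q ((f ≫ g).fiberι z) hsq.flip n hf
  have := finiteOfDegLE_comp_mul (K := Z.residueField z) q (g.fiberToSpecResidueField z) n m hq
    (hg z)
  rw [hq2] at this
  exact this

end Groth.Agent.H4.BddFibLib
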