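import Groth.Agent.H4.BddFibLib7
import Mathlib
set_option linter.style.haveILetI false
universe u
open CategoryTheory AlgebraicGeometry Limits TensorProduct

namespace Groth.Agent.H4.BddFibLib

/-- gluing: a scheme over a field covered by finitely many opens, each finite of bounded degree -/
lemma finiteOfDegLE_of_finite_openCover {K : Type u} [Field K] {T : Scheme.{u}}
    (p : T ⟶ Spec (CommRingCat.of K)) {ι : Type} [Fintype ι] (Ti : ι → Scheme.{u})
    (j : ∀ i, Ti i ⟶ T) [∀ i, IsOpenImmersion (j i)] (hcov : ∀ x : T, ∃ i y, j i y = x)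
    (n : ι → ℕ) (h : ∀ i, BddFib.FiniteOfDegLE (CommRingCat.of K) (j i ≫ p) (n i)) :
    BddFib.FiniteOfDegLE (CommRingCat.of K) p (∑ i, n i) := by
  have hfd : ∀ i, Finite (Ti i) ∧ DiscreteTopology (Ti i) := fun i =>
    finite_discrete_of_finiteOfDegLE _ (n i) (h i)
  have hTfin : Finite T := by
    have : ∀ i, Finite (Ti i) := fun i => (hfd i).1
    have hs : Function.Surjective (fun z : Σ i, Ti i => j z.1 z.2) := by
      intro x
      obtain ⟨i, y, hy⟩ := hcov x
      exact ⟨⟨i, y⟩, hy⟩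
    exact Finite.of_surjective _ hs
  have hTdisc : DiscreteTopology T := by
    rw [discreteTopology_iff_isOpen_singleton]
    intro x
    obtain ⟨i, y, rfl⟩ := hcov x
    have := (hfd i).2
    have h1 : IsOpen ({y} : Set (Ti i)) := isOpen_discrete _
    have h2 := (j i).isOpenEmbedding.isOpenMap _ h1
    simpa using h2
  have hTaff : IsAffine T := inferInstance
  rw [finiteOfDegLE_iff]
  refine ⟨hTaff, ?_⟩
  let 𝒰 : T.OpenCover := Scheme.Cover.mkOfCovers ι Ti j hcov
  letI : Algebra K Γ(T, ⊤) := ((Scheme.ΓSpecIso (CommRingCat.of K)).inv ≫ p.appTop).hom.toAlgebra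
  letI : ∀ i, Algebra K Γ(Ti i, ⊤) := fun i =>
    ((Scheme.ΓSpecIso (CommRingCat.of K)).inv ≫ (j i ≫ p).appTop).hom.toAlgebra
  have hfin : ∀ i, Module.Finite K Γ(Ti i, ⊤) := fun i => (h i).2.1
  have hrank : ∀ i, Module.finrank K Γ(Ti i, ⊤) ≤ n i := fun i => (h i).2.2
  let Φi : ∀ i, Γ(T, ⊤) →ₐ[K] Γ(Ti i, ⊤) := fun i =>
    { (j i).appTop.hom with
      commutes' := fun a => by
        change (j i).appTop.hom (((Scheme.ΓSpecIso (CommRingCat.of K)).inv ≫ p.appTop).hom a) =
          ((Scheme.ΓSpecIso (CommRingCat.of K)).inv ≫ (j i ≫ p).appTop).hom a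
        rw [Scheme.Hom.comp_appTop]; rfl }
  let Φ : Γ(T, ⊤) →ₗ[K] (∀ i, Γ(Ti i, ⊤)) := LinearMap.pi fun i => (Φi i).toLinearMap
  have hΦ : Function.Injective Φ := by
    rw [injective_iff_map_eq_zero]
    intro s hs
    refine Scheme.zero_of_zero_cover s 𝒰 (fun i => ?_)
    exact congrFun hs i
  have hfinT : Module.Finite K Γ(T, ⊤) := Module.Finite.of_injective Φ hΦ
  refine ⟨hfinT, ?_⟩
  have h1 := LinearMap.finrank_le_finrank_of_injective hΦ
  rw [Module.finrank_pi_fintype] at h1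
  exact le_trans h1 (Finset.sum_le_sum (fun i _ => hrank i))


lemma exists_fiber_map {X Y Z : Scheme.{u}} (f : X ⟶ Y) (g : Y ⟶ Z) (z : Z) :
    ∃ q : (f ≫ g).fiber z ⟶ g.fiber z,
      q ≫ g.fiberToSpecResidueField z = (f ≫ g).fiberToSpecResidueField z ∧
      IsPullback q ((f ≫ g).fiberι z) (g.fiberι z) f := by
  let q : (f ≫ g).fiber z ⟶ g.fiber z :=
    pullback.lift ((f ≫ g).fiberι z ≫ f) ((f ≫ g).fiberToSpecResidueField z)
      (by rw [Category.assoc]; exact (f ≫ g).fiber_fac z)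
  have hq2 : q ≫ g.fiberToSpecResidueField z = (f ≫ g).fiberToSpecResidueField z :=
    pullback.lift_snd _ _ _
  have hq1 : q ≫ g.fiberι z = (f ≫ g).fiberι z ≫ f := pullback.lift_fst _ _ _
  refine ⟨q, hq2, ?_⟩
  refine IsPullback.of_right (h₁₂ := g.fiberToSpecResidueField z) (h₂₂ := g)
    (v₁₃ := Z.fromSpecResidueField z) ?_ hq1 (IsPullback.of_hasPullback g _).flip
  rw [hq2]
  exact (IsPullback.of_hasPullback (f ≫ g) _).flip

lemma exists_preimage_of_isPullback {P X Y Z : Scheme.{u}} {fst : P ⟶ X} {snd : P ⟶ Y}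
    {f : X ⟶ Z} {g : Y ⟶ Z} (h : IsPullback fst snd f g) (x : X) (y : Y) (hxy : f x = g y) :
    ∃ p : P, fst p = x ∧ snd p = y := by
  obtain ⟨c, hc1, hc2⟩ := Scheme.Pullback.exists_preimage_pullback x y hxy
  refine ⟨h.isoPullback.inv c, ?_, ?_⟩
  · rw [← Scheme.Hom.comp_apply, h.isoPullback_inv_fst, hc1]
  · rw [← Scheme.Hom.comp_apply, h.isoPullback_inv_snd, hc2]

lemma fibreDegLE_of_finite_openCover {X Y : Scheme.{u}} (f : X ⟶ Y) {ι : Type} [Fintype ι]
    (Ui : ι → Scheme.{u}) (j : ∀ i, Ui i ⟶ X) [∀ i, IsOpenImmersion (j i)]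
    (hcov : ∀ x : X, ∃ i y, j i y = x) (n : ι → ℕ)
    (h : ∀ i, BddFib.FibreDegLE (j i ≫ f) (n i)) : BddFib.FibreDegLE f (∑ i, n i) := by
  intro y
  choose q hq2 hsq using fun i => exists_fiber_map (j i) f y
  have hoi : ∀ i, IsOpenImmersion (q i) := fun i =>
    MorphismProperty.of_isPullback (hsq i).flip inferInstance
  refine finiteOfDegLE_of_finite_openCover (K := Y.residueField y) (f.fiberToSpecResidueField y)
    (fun i => (j i ≫ f).fiber y) q ?_ n ?_
  · intro z
    obtain ⟨i, u, hu⟩ := hcov (f.fiberι y z)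
    obtain ⟨w, hw, -⟩ := exists_preimage_of_isPullback (hsq i) z u hu.symm
    exact ⟨i, w, hw⟩
  · intro i
    rw [hq2 i]
    exact h i y


lemma fibreDegLE_SpecMap_of_span {A B : Type u} [CommRing A] [CommRing B] [Algebra A B] (N : ℕ)
    (b : Fin N → B) (hb : Submodule.span A (Set.range b) = ⊤) :
    BddFib.FibreDegLE (Spec.map (CommRingCat.ofHom (algebraMap A B))) N := by
  rw [fibreDegLE_iff_forall_field_points]
  intro k _ g
  obtain ⟨γ, rfl⟩ := Spec.map_surjective g
  letI : Algebra A k := γ.hom.toAlgebra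
  have hγ : γ = CommRingCat.ofHom (algebraMap A k) := rfl
  rw [hγ]
  rw [finiteOfDegLE_pullback_Spec_iff (K := A) (L := k) (A := B) _ (pullback.fst _ _)
    (IsPullback.of_hasPullback _ _) N, ringDegLE_algebraMap_iff]
  have hspan : Submodule.span k (TensorProduct.mk A k B 1 '' Set.range b) = ⊤ := by
    rw [← Submodule.baseChange_span, hb, Submodule.baseChange_top]
  have hfin : Module.Finite k (k ⊗[A] B) := by
    rw [Module.finite_def, ← hspan]
    exact Submodule.fg_span ((Set.finite_range b).image _)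
  refine ⟨hfin, ?_⟩
  rw [← Set.range_comp] at hspan
  have h1 := finrank_range_le_card (R := k) (TensorProduct.mk A k B 1 ∘ b)
  unfold Set.finrank at h1
  rw [hspan, finrank_top] at h1
  simpa using h1


/-- ring-level local bound from Zariski's main theorem -/
lemma exists_away_fibreDegLE {A B : Type u} [CommRing A] [CommRing B] [Algebra A B]
    [Algebra.FiniteType A B] [Algebra.QuasiFinite A B] (𝔮 : PrimeSpectrum B) :
    ∃ (r : B) (N : ℕ), r ∉ 𝔮.asIdeal ∧
      BddFib.FibreDegLE (Spec.map (CommRingCat.ofHom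
        ((algebraMap B (Localization.Away r)).comp (algebraMap A B)))) N := by
  obtain ⟨B', hB', r, hr, hbij⟩ :=
    Algebra.QuasiFiniteAt.exists_fg_and_exists_notMem_and_awayMap_bijective (R := A) 𝔮.asIdeal
  have hfin : Module.Finite A B' := ⟨(Submodule.fg_top _).mpr hB'⟩
  obtain ⟨N, b, hb⟩ := Module.Finite.exists_fin (R := A) (M := B')
  refine ⟨r.1, N, hr, ?_⟩
  have h1 := fibreDegLE_SpecMap_of_span (A := A) (B := B') N b hb
  let s1 := Spec.map (CommRingCat.ofHom (algebraMap A B'))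
  let s2 := Spec.map (CommRingCat.ofHom (algebraMap B' (Localization.Away r)))
  let θ : Localization.Away r →+* Localization.Away (r : B) :=
    Localization.awayMap B'.val.toRingHom r
  let s3 := Spec.map (CommRingCat.ofHom θ)
  have hθ : IsIso (CommRingCat.ofHom θ) := by
    rw [ConcreteCategory.isIso_iff_bijective]
    exact hbij
  have h2 : BddFib.FibreDegLE (s2 ≫ s1) (1 * N) :=
    fibreDegLE_comp_mul s2 s1 1 N (fibreDegLE_one_of_isImmersion s2) h1
  have h3 : BddFib.FibreDegLE (s3 ≫ s2 ≫ s1) (1 * (1 * N)) :=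
    fibreDegLE_comp_mul s3 (s2 ≫ s1) 1 _ (fibreDegLE_one_of_isImmersion s3) h2
  have heq : s3 ≫ s2 ≫ s1 = Spec.map (CommRingCat.ofHom
      ((algebraMap B (Localization.Away (r : B))).comp (algebraMap A B))) := by
    simp only [s1, s2, s3, ← Spec.map_comp, ← CommRingCat.ofHom_comp]
    congr 2
    ext a
    simp only [RingHom.comp_apply, θ]
    exact (IsLocalization.map_eq (M := Submonoid.powers r) (T := Submonoid.powers (r : B))
      (S := Localization.Away r) (Q := Localization.Away (r : B)) (g := B'.val.toRingHom) _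
      (algebraMap A B' a))
  rw [heq] at h3
  simpa using h3


lemma exists_openImmersion_fibreDegLE {X Y : Scheme.{u}} (f : X ⟶ Y) [LocallyQuasiFinite f]
    [LocallyOfFiniteType f] (x : X) :
    ∃ (U : Scheme.{u}) (j : U ⟶ X) (_ : IsOpenImmersion j) (N : ℕ),
      x ∈ Set.range j ∧ BddFib.FibreDegLE (j ≫ f) N := by
  obtain ⟨_, ⟨V, hV : IsAffineOpen V, rfl⟩, hfxV, -⟩ :=
    Y.isBasis_affineOpens.exists_subset_of_mem_open (Set.mem_univ (f x)) isOpen_univ
  obtain ⟨_, ⟨W, hW : IsAffineOpen W, rfl⟩, hxW, hWV⟩ :=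
    X.isBasis_affineOpens.exists_subset_of_mem_open (show x ∈ (f ⁻¹ᵁ V : Set X) from hfxV)
      (f ⁻¹ᵁ V).isOpen
  have hWV' : W ≤ f ⁻¹ᵁ V := hWV
  let φ := f.appLE V W hWV'
  have hft : φ.hom.FiniteType := f.finiteType_appLE hV hW hWV'
  have hqf : φ.hom.QuasiFinite := LocallyQuasiFinite.quasiFinite_appLE hV hW hWV'
  algebraize [φ.hom]
  let 𝔮 := hW.primeIdealOf ⟨x, hxW⟩
  obtain ⟨r, N, hr, hN⟩ := exists_away_fibreDegLE (A := Γ(Y, V)) (B := Γ(X, W)) 𝔮
  let s4 := Spec.map (CommRingCat.ofHom (algebraMap Γ(X, W) (Localization.Away r)))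
  let j := s4 ≫ hW.fromSpec
  refine ⟨_, j, inferInstance, N * 1, ?_, ?_⟩
  · have h𝔮 : 𝔮 ∈ Set.range s4 := by
      have := PrimeSpectrum.localization_away_comap_range (Localization.Away r) r
      change 𝔮 ∈ Set.range (PrimeSpectrum.comap (algebraMap Γ(X, W) (Localization.Away r)))
      rw [this]
      exact hr
    obtain ⟨w, hw⟩ := h𝔮
    refine ⟨w, ?_⟩
    rw [Scheme.Hom.comp_apply, hw]
    exact hW.fromSpec_primeIdealOf ⟨x, hxW⟩
  · have hjf : j ≫ f = Spec.map (CommRingCat.ofHom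
        ((algebraMap Γ(X, W) (Localization.Away r)).comp (algebraMap Γ(Y, V) Γ(X, W)))) ≫
        hV.fromSpec := by
      rw [Category.assoc, ← IsAffineOpen.SpecMap_appLE_fromSpec f hV hW hWV', ← Category.assoc, ← Spec.map_comp]
      rfl
    rw [hjf]
    exact fibreDegLE_comp_mul _ _ N 1 hN (fibreDegLE_one_of_isImmersion _)

theorem univBounded_of_locallyQuasiFinite_of_compactSpace {X Y : Scheme.{u}} (f : X ⟶ Y)
    [LocallyQuasiFinite f] [LocallyOfFiniteType f] [CompactSpace X] : BddFib.UnivBounded f := by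
  choose U j hj N hx hN using exists_openImmersion_fibreDegLE f
  obtain ⟨t, ht⟩ := isCompact_univ.elim_finite_subcover (fun x : X => Set.range (j x))
    (fun x => (j x).isOpenEmbedding.isOpen_range) (fun x _ => Set.mem_iUnion.mpr ⟨x, hx x⟩)
  classical
  let e := (Fintype.equivFin t).symm
  refine ⟨∑ i : Fin (Fintype.card t), N (e i), ?_⟩
  refine fibreDegLE_of_finite_openCover f (fun i : Fin (Fintype.card t) => U (e i))
    (fun i => j (e i)) ?_ (fun i => N (e i)) (fun i => hN (e i))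
  intro x
  have hxm := ht (Set.mem_univ x)
  simp only [Set.mem_iUnion] at hxm
  obtain ⟨x', hx't, y, hy⟩ := hxm
  refine ⟨e.symm ⟨x', hx't⟩, ?_⟩
  rw [Equiv.apply_symm_apply]
  exact ⟨y, hy⟩

end Groth.Agent.H4.BddFibLib
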