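import Mathlib
import Groth.Agent.H4.TC2
import Groth.Agent.Lib.Helper2.RDer3

/-!
# Generic K-flatness with respect to a bifunctor
-/

open CategoryTheory Category Limits HomologicalComplex CochainComplex.HomComplex CochainComplex

universe v u

namespace Groth.Agent.H4.GK1

open Groth.Agent.H4.TC1 Groth.Agent.H4.TC2

variable {A : Type u} [Category.{v} A] [Abelian A]

/-- acyclic complexes -/
def Acyc (L : CochainComplex A ℤ) : Prop := ∀ i : ℤ, IsZero (L.homology i)

lemma acyc_iff_exactAt (L : CochainComplex A ℤ) : Acyc L ↔ ∀ i, L.ExactAt i := by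
  simp only [Acyc, exactAt_iff_isZero_homology]

lemma acyc_iff_acyclic (L : CochainComplex A ℤ) : Acyc L ↔ L.Acyclic := by
  rw [acyc_iff_exactAt]; rfl

lemma Acyc.of_quasiIso {X Y : CochainComplex A ℤ} (f : X ⟶ Y) [QuasiIso f] : Acyc X ↔ Acyc Y := by
  constructor
  · intro h i
    exact (h i).of_iso (isoOfQuasiIsoAt f i).symm
  · intro h i
    exact (h i).of_iso (isoOfQuasiIsoAt f i)

lemma Acyc.of_iso {X Y : CochainComplex A ℤ} (e : X ≅ Y) (h : Acyc X) : Acyc Y :=
  (Acyc.of_quasiIso e.hom).1 h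

lemma acyc_cone_iff {X Y : CochainComplex A ℤ} (f : X ⟶ Y) : Acyc (mappingCone f) ↔ QuasiIso f := by
  rw [acyc_iff_exactAt, Groth.Agent.H2.RDer.quasiIso_iff_mappingCone_exactAt]

lemma quasiIso_of_acyc {X Y : CochainComplex A ℤ} (f : X ⟶ Y) (hX : Acyc X) (hY : Acyc Y) :
    QuasiIso f := by
  rw [quasiIso_iff]
  intro i
  rw [quasiIsoAt_iff_isIso_homologyMap]
  exact ⟨0, (hX i).eq_of_src _ _, (hY i).eq_of_src _ _⟩

lemma Acyc.cone {X Y : CochainComplex A ℤ} (f : X ⟶ Y) (hX : Acyc X) (hY : Acyc Y) :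
    Acyc (mappingCone f) :=
  (acyc_cone_iff f).2 (quasiIso_of_acyc f hX hY)

lemma Acyc.of_cone_left {X Y : CochainComplex A ℤ} (f : X ⟶ Y) (hX : Acyc X)
    (hC : Acyc (mappingCone f)) : Acyc Y := by
  haveI := (acyc_cone_iff f).1 hC
  exact (Acyc.of_quasiIso f).1 hX

lemma Acyc.of_cone_right {X Y : CochainComplex A ℤ} (f : X ⟶ Y) (hY : Acyc Y)
    (hC : Acyc (mappingCone f)) : Acyc X := by
  haveI := (acyc_cone_iff f).1 hC
  exact (Acyc.of_quasiIso f).2 hY

lemma acyc_shift_iff (X : CochainComplex A ℤ) (n : ℤ) : Acyc (X⟦n⟧) ↔ Acyc X := by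
  constructor
  · intro h i
    exact (h (i - n)).of_iso
      (((HomologicalComplex.homologyFunctor A (ComplexShape.up ℤ) 0).shiftIso n
        (i - n) i (by omega)).app X).symm
  · intro h i
    exact (h (n + i)).of_iso
      (((HomologicalComplex.homologyFunctor A (ComplexShape.up ℤ) 0).shiftIso n
        i (n + i) rfl).app X)

lemma Acyc.of_homotopyEquiv {X Y : CochainComplex A ℤ} (e : HomotopyEquiv X Y) (h : Acyc X) :
    Acyc Y :=
  fun i => (h i).of_iso (e.toHomologyIso i).symm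

section KFlat

variable (F : A ⥤ A ⥤ A) [F.Additive] [∀ X, (F.obj X).Additive]
  [∀ K L : CochainComplex A ℤ, CochainComplex.HasMapBifunctor K L F]

/-- `K` is K-flat for `F` (in the right variable). -/
def KFlat (K : CochainComplex A ℤ) : Prop :=
  ∀ L : CochainComplex A ℤ, Acyc L → Acyc (CochainComplex.mapBifunctor L K F)

variable {F}

/-- `- ⊗ K` preserves quasi-isomorphisms for K-flat `K`. -/
theorem quasiIso_map₁_of_kflat {K : CochainComplex A ℤ} (hK : KFlat F K)
    {L₁ L₂ : CochainComplex A ℤ} (f : L₁ ⟶ L₂) (hf : QuasiIso f) :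
    QuasiIso (mapBifunctorMap f (𝟙 K) F (.up ℤ)) := by
  rw [← acyc_cone_iff]
  exact Acyc.of_iso (coneIso₁ F f K) (hK _ ((acyc_cone_iff f).2 hf))

/-- functoriality in the second variable, as isomorphisms -/
noncomputable def mapIso₂ (L : CochainComplex A ℤ) {X Y : CochainComplex A ℤ} (e : X ≅ Y) :
    CochainComplex.mapBifunctor L X F ≅ CochainComplex.mapBifunctor L Y F :=
  (F.map₂CochainComplex.obj L).mapIso e

lemma KFlat.of_iso {X Y : CochainComplex A ℤ} (e : X ≅ Y) (h : KFlat F X) : KFlat F Y :=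
  fun L hL => Acyc.of_iso (mapIso₂ L e) (h L hL)

lemma KFlat.cone {X Y : CochainComplex A ℤ} (f : X ⟶ Y) (hX : KFlat F X) (hY : KFlat F Y) :
    KFlat F (mappingCone f) :=
  fun L hL => Acyc.of_iso (coneIso₂ F L f).symm (Acyc.cone _ (hX L hL) (hY L hL))

lemma KFlat.of_cone_left {X Y : CochainComplex A ℤ} (f : X ⟶ Y) (hX : KFlat F X)
    (hC : KFlat F (mappingCone f)) : KFlat F Y :=
  fun L hL => Acyc.of_cone_left (mapBifunctorMap (𝟙 L) f F (.up ℤ)) (hX L hL)
    (Acyc.of_iso (coneIso₂ F L f) (hC L hL))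

lemma KFlat.of_cone_right {X Y : CochainComplex A ℤ} (f : X ⟶ Y) (hY : KFlat F Y)
    (hC : KFlat F (mappingCone f)) : KFlat F X :=
  fun L hL => Acyc.of_cone_right (mapBifunctorMap (𝟙 L) f F (.up ℤ)) (hY L hL)
    (Acyc.of_iso (coneIso₂ F L f) (hC L hL))

end KFlat

end Groth.Agent.H4.GK1
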