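import Mathlib
import Groth.Agent.H4.GK1

/-!
# Generic K-flatness: short exact sequences
-/

open CategoryTheory Category Limits HomologicalComplex CochainComplex.HomComplex CochainComplex

universe w v u

namespace Groth.Agent.H4.GK2

open Groth.Agent.H4.TC1 Groth.Agent.H4.TC2 Groth.Agent.H4.GK1

variable {A : Type u} [Category.{v} A] [Abelian A]

section Eval

variable {J : Type w} [Category J]

lemma functor_shortExact_of_eval (D : ShortComplex (J ⥤ A))
    (h : ∀ j, (D.map ((evaluation J A).obj j)).ShortExact) : D.ShortExact := by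
  refine ShortComplex.ShortExact.mk' ?_ ?_ ?_
  · rw [ShortComplex.exact_iff_isZero_homology, Functor.isZero_iff]
    intro j
    have := (h j).exact
    rw [ShortComplex.exact_iff_isZero_homology] at this
    exact this.of_iso (D.mapHomologyIso ((evaluation J A).obj j)).symm
  · rw [NatTrans.mono_iff_mono_app]
    intro j
    exact (h j).mono_f
  · rw [NatTrans.epi_iff_epi_app]
    intro j
    exact (h j).epi_g

end Eval

section Cofan

variable {J : Type w} [HasColimitsOfShape (Discrete J) A] [HasExactColimitsOfShape (Discrete J) A]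

/-- coproducts of short exact sequences are short exact (AB4) -/
theorem shortExact_of_cofans {f₁ f₂ f₃ : J → A} (a : ∀ j, f₁ j ⟶ f₂ j) (b : ∀ j, f₂ j ⟶ f₃ j)
    (w : ∀ j, a j ≫ b j = 0) (h : ∀ j, (ShortComplex.mk (a j) (b j) (w j)).ShortExact)
    (c₁ : Cofan f₁) (c₂ : Cofan f₂) (c₃ : Cofan f₃)
    (h₁ : IsColimit c₁) (h₂ : IsColimit c₂) (h₃ : IsColimit c₃)
    (φ : c₁.pt ⟶ c₂.pt) (ψ : c₂.pt ⟶ c₃.pt) (w' : φ ≫ ψ = 0)
    (hf : ∀ j, c₁.inj j ≫ φ = a j ≫ c₂.inj j)
    (hg : ∀ j, c₂.inj j ≫ ψ = b j ≫ c₃.inj j) : (ShortComplex.mk φ ψ w').ShortExact := by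
  let D : ShortComplex (Discrete J ⥤ A) := ShortComplex.mk
    (Discrete.natTrans (fun ⟨j⟩ => a j) : Discrete.functor f₁ ⟶ Discrete.functor f₂)
    (Discrete.natTrans (fun ⟨j⟩ => b j) : Discrete.functor f₂ ⟶ Discrete.functor f₃)
    (by ext ⟨j⟩; exact w j)
  have hD : D.ShortExact := functor_shortExact_of_eval D (fun ⟨j⟩ => h j)
  have hD' : (D.map (colim : (Discrete J ⥤ A) ⥤ A)).ShortExact := hD.map_of_exact _
  let i₁ : colimit (Discrete.functor f₁) ≅ c₁.pt :=
    IsColimit.coconePointUniqueUpToIso (colimit.isColimit _) h₁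
  let i₂ : colimit (Discrete.functor f₂) ≅ c₂.pt :=
    IsColimit.coconePointUniqueUpToIso (colimit.isColimit _) h₂
  let i₃ : colimit (Discrete.functor f₃) ≅ c₃.pt :=
    IsColimit.coconePointUniqueUpToIso (colimit.isColimit _) h₃
  have hi₁ : ∀ j, colimit.ι (Discrete.functor f₁) ⟨j⟩ ≫ i₁.hom = c₁.inj j := fun j =>
    IsColimit.comp_coconePointUniqueUpToIso_hom (colimit.isColimit _) h₁ ⟨j⟩
  have hi₂ : ∀ j, colimit.ι (Discrete.functor f₂) ⟨j⟩ ≫ i₂.hom = c₂.inj j := fun j =>
    IsColimit.comp_coconePointUniqueUpToIso_hom (colimit.isColimit _) h₂ ⟨j⟩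
  have hi₃ : ∀ j, colimit.ι (Discrete.functor f₃) ⟨j⟩ ≫ i₃.hom = c₃.inj j := fun j =>
    IsColimit.comp_coconePointUniqueUpToIso_hom (colimit.isColimit _) h₃ ⟨j⟩
  refine ShortComplex.shortExact_of_iso (ShortComplex.isoMk i₁ i₂ i₃ ?_ ?_) hD'
  · refine colimit.hom_ext ?_
    rintro ⟨j⟩
    change colimit.ι (Discrete.functor f₁) ⟨j⟩ ≫ i₁.hom ≫ φ =
      colimit.ι (Discrete.functor f₁) ⟨j⟩ ≫ colimMap D.f ≫ i₂.hom
    rw [reassoc_of% (hi₁ j), ι_colimMap_assoc, hi₂, hf]
    rfl
  · refine colimit.hom_ext ?_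
    rintro ⟨j⟩
    change colimit.ι (Discrete.functor f₂) ⟨j⟩ ≫ i₂.hom ≫ ψ =
      colimit.ι (Discrete.functor f₂) ⟨j⟩ ≫ colimMap D.g ≫ i₃.hom
    rw [reassoc_of% (hi₂ j), ι_colimMap_assoc, hi₃, hg]
    rfl

end Cofan

section Bif

variable (F : A ⥤ A ⥤ A) [F.Additive] [∀ X, (F.obj X).Additive]
  [∀ K L : CochainComplex A ℤ, CochainComplex.HasMapBifunctor K L F]


instance additive_map₂_obj (L : CochainComplex A ℤ) : (F.map₂CochainComplex.obj L).Additive where
  map_add {X Y f g} := by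
    apply HomologicalComplex.hom_ext
    intro n
    apply HomologicalComplex.mapBifunctor.hom_ext
    intro p q h
    change ιMapBifunctor L X F (ComplexShape.up ℤ) p q n h ≫
        (mapBifunctorMap (𝟙 L) (f + g) F (ComplexShape.up ℤ)).f n =
      ιMapBifunctor L X F (ComplexShape.up ℤ) p q n h ≫
        ((mapBifunctorMap (𝟙 L) f F (ComplexShape.up ℤ)).f n +
        (mapBifunctorMap (𝟙 L) g F (ComplexShape.up ℤ)).f n)
    rw [Preadditive.comp_add, ι_mapBifunctorMap, ι_mapBifunctorMap, ι_mapBifunctorMap]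
    simp [Functor.map_add]

variable [HasCountableCoproducts A] [CountableAB4 A]

/-- tensoring on the left with `L` a short exact sequence of complexes which stays termwise
short exact after applying every `F(L^p, -)` -/
theorem shortExact_map₂ (L : CochainComplex A ℤ) (S : ShortComplex (CochainComplex A ℤ))
    (h : ∀ p q : ℤ, ((S.map (HomologicalComplex.eval A (ComplexShape.up ℤ) q)).map
      (F.obj (L.X p))).ShortExact) :
    (S.map (F.map₂CochainComplex.obj L)).ShortExact := by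
  apply HomologicalComplex.shortExact_of_degreewise_shortExact
  intro n
  let B : ∀ K : CochainComplex A ℤ, GradedObject (ℤ × ℤ) A := fun K =>
    (((F.mapBifunctorHomologicalComplex (ComplexShape.up ℤ) (ComplexShape.up ℤ)).obj L).obj
      K).toGradedObject
  let π := ComplexShape.π (ComplexShape.up ℤ) (ComplexShape.up ℤ) (ComplexShape.up ℤ)
  exact shortExact_of_cofans
    (f₁ := (B S.X₁).mapObjFun π n) (f₂ := (B S.X₂).mapObjFun π n) (f₃ := (B S.X₃).mapObjFun π n)
    (fun i => (F.obj (L.X i.1.1)).map (S.f.f i.1.2))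
    (fun i => (F.obj (L.X i.1.1)).map (S.g.f i.1.2))
    (fun i => ((S.map (HomologicalComplex.eval A (ComplexShape.up ℤ) i.1.2)).map
      (F.obj (L.X i.1.1))).zero) (fun i => h i.1.1 i.1.2)
    ((B S.X₁).cofanMapObj π n) ((B S.X₂).cofanMapObj π n) ((B S.X₃).cofanMapObj π n)
    ((B S.X₁).isColimitCofanMapObj π n) ((B S.X₂).isColimitCofanMapObj π n)
    ((B S.X₃).isColimitCofanMapObj π n)
    ((mapBifunctorMap (𝟙 L) S.f F (ComplexShape.up ℤ)).f n)
    ((mapBifunctorMap (𝟙 L) S.g F (ComplexShape.up ℤ)).f n)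
    ((S.map (F.map₂CochainComplex.obj L)).map
      (HomologicalComplex.eval A (ComplexShape.up ℤ) n)).zero
    (by
      rintro ⟨⟨p, q⟩, hpq⟩
      have := ι_mapBifunctorMap (𝟙 L) S.f F (ComplexShape.up ℤ) p q n hpq
      rw [HomologicalComplex.id_f, CategoryTheory.Functor.map_id, NatTrans.id_app, id_comp] at this
      exact this)
    (by
      rintro ⟨⟨p, q⟩, hpq⟩
      have := ι_mapBifunctorMap (𝟙 L) S.g F (ComplexShape.up ℤ) p q n hpq
      rw [HomologicalComplex.id_f, CategoryTheory.Functor.map_id, NatTrans.id_app, id_comp] at this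
      exact this)

section TwoOfThree

variable (T : ShortComplex (CochainComplex A ℤ)) (hT : T.ShortExact)

include hT

omit [HasCountableCoproducts A] [CountableAB4 A] in
lemma acyc₃_of_shortExact (h₁ : Acyc T.X₁) (h₂ : Acyc T.X₂) : Acyc T.X₃ := by
  intro i
  have ex := hT.homology_exact₃ i (i + 1) (by simp)
  exact ex.isZero_of_both_zeros ((h₂ i).eq_of_src _ _) ((h₁ (i + 1)).eq_of_tgt _ _)

omit [HasCountableCoproducts A] [CountableAB4 A] in
lemma acyc₂_of_shortExact (h₁ : Acyc T.X₁) (h₃ : Acyc T.X₃) : Acyc T.X₂ := by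
  intro i
  have ex := hT.homology_exact₂ i
  exact ex.isZero_of_both_zeros ((h₁ i).eq_of_src _ _) ((h₃ i).eq_of_tgt _ _)

omit [HasCountableCoproducts A] [CountableAB4 A] in
lemma acyc₁_of_shortExact (h₂ : Acyc T.X₂) (h₃ : Acyc T.X₃) : Acyc T.X₁ := by
  intro i
  have ex := hT.homology_exact₁ (i - 1) i (by simp)
  exact ex.isZero_of_both_zeros ((h₃ (i - 1)).eq_of_src _ _) ((h₂ i).eq_of_tgt _ _)

end TwoOfThree

/-- two out of three for K-flatness in short exact sequences which stay exact after tensoring -/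
theorem kflat_two_out_of_three (S : ShortComplex (CochainComplex A ℤ))
    (h : ∀ (M : A) (q : ℤ), ((S.map (HomologicalComplex.eval A (ComplexShape.up ℤ) q)).map
      (F.obj M)).ShortExact) :
    (KFlat F S.X₁ → KFlat F S.X₂ → KFlat F S.X₃) ∧ (KFlat F S.X₁ → KFlat F S.X₃ → KFlat F S.X₂) ∧
      (KFlat F S.X₂ → KFlat F S.X₃ → KFlat F S.X₁) := by
  have key := fun L : CochainComplex A ℤ => shortExact_map₂ F L S (fun p q => h (L.X p) q)
  refine ⟨fun h₁ h₂ L hL => ?_, fun h₁ h₃ L hL => ?_, fun h₂ h₃ L hL => ?_⟩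
  · exact acyc₃_of_shortExact _ (key L) (h₁ L hL) (h₂ L hL)
  · exact acyc₂_of_shortExact _ (key L) (h₁ L hL) (h₃ L hL)
  · exact acyc₁_of_shortExact _ (key L) (h₂ L hL) (h₃ L hL)

end Bif

end Groth.Agent.H4.GK2
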