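import Mathlib
import Groth.Agent.H4.GK2

open CategoryTheory Category Limits HomologicalComplex CochainComplex.HomComplex CochainComplex

universe w' w v u

namespace Groth.Agent.H4.GK3

open Groth.Agent.H4.TC1 Groth.Agent.H4.TC2 Groth.Agent.H4.GK1 Groth.Agent.H4.GK2

variable {A : Type u} [Category.{v} A] [Abelian A] {J : Type w} [Category.{w'} J]

/-- a functor to complexes as a complex of functors -/
def famJ (F : J ⥤ CochainComplex A ℤ) : CochainComplex (J ⥤ A) ℤ where
  X i := F ⋙ HomologicalComplex.eval A (ComplexShape.up ℤ) i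
  d i i' := Functor.whiskerLeft F (HomologicalComplex.dNatTrans A (ComplexShape.up ℤ) i i')
  shape i i' h := by
    ext j
    exact (F.obj j).shape i i' h
  d_comp_d' i i' i'' _ _ := by
    ext j
    exact (F.obj j).d_comp_d i i' i''

section

variable [HasColimitsOfShape J A]

/-- termwise colimit -/
noncomputable def sigJ (F : J ⥤ CochainComplex A ℤ) : CochainComplex A ℤ :=
  ((colim : (J ⥤ A) ⥤ A).mapHomologicalComplex (ComplexShape.up ℤ)).obj (famJ F)

noncomputable def sigJι (F : J ⥤ CochainComplex A ℤ) (j : J) : F.obj j ⟶ sigJ F where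
  f i := colimit.ι ((famJ F).X i) j
  comm' i i' _ := by
    change colimit.ι ((famJ F).X i) j ≫ colimMap ((famJ F).d i i') = _
    rw [ι_colimMap]
    rfl

noncomputable def sigJCocone (F : J ⥤ CochainComplex A ℤ) : Cocone F where
  pt := sigJ F
  ι :=
    { app := fun j => sigJι F j
      naturality := fun j j' f => by
        apply HomologicalComplex.hom_ext
        intro i
        change (F.map f).f i ≫ colimit.ι ((famJ F).X i) j' = colimit.ι ((famJ F).X i) j ≫ 𝟙 _
        rw [comp_id]
        exact colimit.w ((famJ F).X i) f }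

noncomputable def isColimitSigJ (F : J ⥤ CochainComplex A ℤ) : IsColimit (sigJCocone F) :=
  HomologicalComplex.isColimitOfEval _ _ (fun i =>
    IsColimit.ofIsoColimit (colimit.isColimit ((famJ F).X i))
      (Cocones.ext (Iso.refl _) (fun j => by
        change colimit.ι ((famJ F).X i) j ≫ 𝟙 _ = colimit.ι ((famJ F).X i) j
        rw [comp_id])))

variable [HasExactColimitsOfShape J A]

lemma acyc_sigJ (F : J ⥤ CochainComplex A ℤ) (h : ∀ j, Acyc (F.obj j)) : Acyc (sigJ F) := by
  intro n
  have h1 : IsZero ((famJ F).homology n) := by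
    rw [Functor.isZero_iff]
    intro j
    exact (h j n).of_iso
      (((famJ F).sc n).mapHomologyIso ((evaluation J A).obj j)).symm
  exact ((colim : (J ⥤ A) ⥤ A).map_isZero h1).of_iso
    (((famJ F).sc n).mapHomologyIso (colim : (J ⥤ A) ⥤ A))

theorem acyc_of_isColimit (F : J ⥤ CochainComplex A ℤ) (c : Cocone F) (hc : IsColimit c)
    (h : ∀ j, Acyc (F.obj j)) : Acyc c.pt :=
  Acyc.of_iso ((isColimitSigJ F).coconePointUniqueUpToIso hc) (acyc_sigJ F h)

end

section colim

variable (B : A ⥤ A ⥤ A) [B.Additive] [∀ X, (B.obj X).Additive]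
  [∀ K L : CochainComplex A ℤ, CochainComplex.HasMapBifunctor K L B]
  [HasColimitsOfShape J A] [∀ M : A, PreservesColimitsOfShape J (B.obj M)]
  (L : CochainComplex A ℤ) (F : J ⥤ CochainComplex A ℤ) (c : Cocone F) (hc : IsColimit c)

lemma ι_map₂_f {X Y : CochainComplex A ℤ} (f : X ⟶ Y) (p q m : ℤ) (hpq : p + q = m) :
    ιMapBifunctor L X B (ComplexShape.up ℤ) p q m hpq ≫
        ((B.map₂CochainComplex.obj L).map f).f m =
      (B.obj (L.X p)).map (f.f q) ≫ ιMapBifunctor L Y B (ComplexShape.up ℤ) p q m hpq := by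
  have h2 := ι_mapBifunctorMap (𝟙 L) f B (ComplexShape.up ℤ) p q m hpq
  rw [HomologicalComplex.id_f, CategoryTheory.Functor.map_id, NatTrans.id_app, id_comp] at h2
  exact h2

lemma ι_map₂_f_assoc {X Y : CochainComplex A ℤ} (f : X ⟶ Y) (p q m : ℤ) (hpq : p + q = m)
    {Z : A} (h : (CochainComplex.mapBifunctor L Y B).X m ⟶ Z) :
    ιMapBifunctor L X B (ComplexShape.up ℤ) p q m hpq ≫
        ((B.map₂CochainComplex.obj L).map f).f m ≫ h =
      (B.obj (L.X p)).map (f.f q) ≫ ιMapBifunctor L Y B (ComplexShape.up ℤ) p q m hpq ≫ h := by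
  have := congrArg (fun t => t ≫ h) (ι_map₂_f B L f p q m hpq)
  exact (assoc _ _ _).symm.trans (this.trans (assoc _ _ _))

/-- the colimit cocone `B(L^p, F(j)^q) → B(L^p, c.pt^q)`. -/
noncomputable def isColimitPQ (p q : ℤ) :
    IsColimit ((HomologicalComplex.eval A (ComplexShape.up ℤ) q ⋙ B.obj (L.X p)).mapCocone c) :=
  isColimitOfPreserves _ hc

/-- auxiliary cocone -/
noncomputable def auxCocone (m : ℤ)
    (s : Cocone ((F ⋙ B.map₂CochainComplex.obj L) ⋙
      HomologicalComplex.eval A (ComplexShape.up ℤ) m)) (p q : ℤ)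
    (hpq : p + q = m) :
    Cocone (F ⋙ HomologicalComplex.eval A (ComplexShape.up ℤ) q ⋙ B.obj (L.X p)) where
  pt := s.pt
  ι :=
    { app := fun j => ιMapBifunctor L (F.obj j) B (ComplexShape.up ℤ) p q m hpq ≫ s.ι.app j
      naturality := fun j j' f => by
        have h1 := s.ι.naturality f
        dsimp at h1 ⊢
        rw [comp_id] at h1 ⊢
        rw [← h1]
        exact (ι_map₂_f_assoc B L (F.map f) p q m hpq _).symm }

/-- auxiliary descent map -/
noncomputable def descAux (m : ℤ)
    (s : Cocone ((F ⋙ B.map₂CochainComplex.obj L) ⋙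
      HomologicalComplex.eval A (ComplexShape.up ℤ) m)) :
    (CochainComplex.mapBifunctor L c.pt B).X m ⟶ s.pt :=
  mapBifunctorDesc (fun p q hpq => (isColimitPQ B L F c hc p q).desc (auxCocone B L F m s p q hpq))

lemma ι_descAux (m : ℤ) (s : Cocone ((F ⋙ B.map₂CochainComplex.obj L) ⋙
      HomologicalComplex.eval A (ComplexShape.up ℤ) m))
    (p q : ℤ) (hpq : p + q = m) :
    ιMapBifunctor L c.pt B (ComplexShape.up ℤ) p q m hpq ≫
      descAux B L F c hc m s = (isColimitPQ B L F c hc p q).desc (auxCocone B L F m s p q hpq) :=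
  ι_mapBifunctorDesc _ _ _ _

lemma map_desc (m : ℤ) (s : Cocone ((F ⋙ B.map₂CochainComplex.obj L) ⋙
      HomologicalComplex.eval A (ComplexShape.up ℤ) m))
    (p q : ℤ) (hpq : p + q = m) (j : J) :
    (B.obj (L.X p)).map ((c.ι.app j).f q) ≫
        (isColimitPQ B L F c hc p q).desc (auxCocone B L F m s p q hpq) =
      ιMapBifunctor L (F.obj j) B (ComplexShape.up ℤ) p q m hpq ≫ s.ι.app j :=
  (isColimitPQ B L F c hc p q).fac (auxCocone B L F m s p q hpq) j

include hc in
/-- `B(L, -)` preserves colimits, degreewise statement. -/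
noncomputable def isColimitMap₂Eval (m : ℤ) :
    IsColimit ((HomologicalComplex.eval A (ComplexShape.up ℤ) m).mapCocone
      ((B.map₂CochainComplex.obj L).mapCocone c)) where
  desc s := descAux B L F c hc m s
  fac s j := by
    refine mapBifunctor.hom_ext (fun p q hpq => ?_)
    have h1 := ι_map₂_f_assoc B L (c.ι.app j) p q m hpq (descAux B L F c hc m s)
    have h2 := congrArg (fun t => (B.obj (L.X p)).map ((c.ι.app j).f q) ≫ t)
      (ι_descAux B L F c hc m s p q hpq)
    have h3 := map_desc B L F c hc m s p q hpq j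
    exact h1.trans (h2.trans h3)
  uniq s φ hφ := by
    refine mapBifunctor.hom_ext (fun p q hpq => ?_)
    refine Eq.trans ?_ (ι_descAux B L F c hc m s p q hpq).symm
    refine (isColimitPQ B L F c hc p q).hom_ext (fun j => ?_)
    refine Eq.trans ?_ (map_desc B L F c hc m s p q hpq j).symm
    have h3 : ((B.map₂CochainComplex.obj L).map (c.ι.app j)).f m ≫ φ = s.ι.app j := hφ j
    rw [← h3]
    exact (ι_map₂_f_assoc B L (c.ι.app j) p q m hpq _).symm

include hc in
/-- `B(L, -)` preserves colimits. -/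
noncomputable def isColimitMap₂ : IsColimit ((B.map₂CochainComplex.obj L).mapCocone c) :=
  isColimitOfEval _ _ (fun m => isColimitMap₂Eval B L F c hc m)

instance preservesColimitsOfShape_map₂ :
    PreservesColimitsOfShape J (B.map₂CochainComplex.obj L) where
  preservesColimit {F} := ⟨fun {c} hc => ⟨isColimitMap₂ B L F c hc⟩⟩

variable [HasExactColimitsOfShape J A]

include hc in
/-- a colimit (of a shape along which colimits are exact and which `B(M, -)` preserves) of
K-flat complexes is K-flat. -/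
theorem KFlat.of_isColimit (h : ∀ j, KFlat B (F.obj j)) : KFlat B c.pt := by
  intro L hL
  exact acyc_of_isColimit (F ⋙ B.map₂CochainComplex.obj L)
    ((B.map₂CochainComplex.obj L).mapCocone c) (isColimitMap₂ B L F c hc) (fun j => h j L hL)

end colim

end Groth.Agent.H4.GK3
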