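import Mathlib

set_option autoImplicit false
universe u
attribute [local instance] HasDerivedCategory.standard
open CategoryTheory CategoryTheory.Limits DerivedCategory

namespace Groth.Agent.H4.TilD9

section Generic

variable {C D D' : Type*} [Category C] [Category D] [Category D']

/-- `f` induces isomorphisms under `H i` for `i > m` and an epimorphism under `H m` -/
def IsWitF (H : ℤ → C ⥤ D) (m : ℤ) {A B : C} (f : A ⟶ B) : Prop :=
  (∀ i, m < i → IsIso ((H i).map f)) ∧ Epi ((H m).map f)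

lemma epi_map_iff_of_natIso {G G' : C ⥤ D} (e : G ≅ G') {A B : C} (f : A ⟶ B) :
    Epi (G.map f) ↔ Epi (G'.map f) := by
  have h := (MorphismProperty.epimorphisms D).arrow_mk_iso_iff
    (Arrow.isoMk (f := Arrow.mk (G.map f)) (g := Arrow.mk (G'.map f)) (e.app A) (e.app B)
      (e.hom.naturality f).symm)
  exact h

lemma isWitF_iff_of_natIso {H H' : ℤ → C ⥤ D} (e : ∀ n, H n ≅ H' n) (m : ℤ) {A B : C}
    (f : A ⟶ B) : IsWitF H m f ↔ IsWitF H' m f := by
  unfold IsWitF
  rw [epi_map_iff_of_natIso (e m) f]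
  have : ∀ i, IsIso ((H i).map f) ↔ IsIso ((H' i).map f) := fun i => NatIso.isIso_map_iff (e i) f
  simp only [this]

lemma isWitF_iso_comp (H : ℤ → C ⥤ D) (m : ℤ) {A' A B B' : C} (a : A' ⟶ A) (f : A ⟶ B)
    (b : B ⟶ B') [IsIso a] [IsIso b] : IsWitF H m (a ≫ f ≫ b) ↔ IsWitF H m f := by
  unfold IsWitF
  have h1 : ∀ i, IsIso ((H i).map (a ≫ f ≫ b)) ↔ IsIso ((H i).map f) := by
    intro i
    rw [Functor.map_comp, Functor.map_comp]
    constructor
    · intro h
      have h2 : IsIso ((H i).map f ≫ (H i).map b) := IsIso.of_isIso_comp_left ((H i).map a) _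
      exact IsIso.of_isIso_comp_right _ ((H i).map b)
    · intro h
      infer_instance
  have h2 : Epi ((H m).map (a ≫ f ≫ b)) ↔ Epi ((H m).map f) := by
    rw [Functor.map_comp, Functor.map_comp]
    constructor
    · intro h
      have h3 : Epi ((H m).map f ≫ (H m).map b) := by
        have := epi_comp (inv ((H m).map a)) ((H m).map a ≫ (H m).map f ≫ (H m).map b)
        simpa using this
      have := epi_comp ((H m).map f ≫ (H m).map b) (inv ((H m).map b))
      simpa using this
    · intro h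
      infer_instance
  simp only [h1, h2]

lemma IsWitF.postcomp {H : ℤ → C ⥤ D} {m : ℤ} {A B : C} {f : A ⟶ B} (h : IsWitF H m f)
    (F : D ⥤ D') [F.PreservesEpimorphisms] : IsWitF (fun n => H n ⋙ F) m f := by
  refine ⟨fun i hi => ?_, ?_⟩
  · haveI := h.1 i hi
    change IsIso (F.map ((H i).map f))
    infer_instance
  · haveI := h.2
    change Epi (F.map ((H m).map f))
    infer_instance

lemma IsWitF.of_postcomp {H : ℤ → C ⥤ D} {m : ℤ} {A B : C} {f : A ⟶ B}
    (F : D ⥤ D') [F.ReflectsIsomorphisms] [F.ReflectsEpimorphisms]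
    (h : IsWitF (fun n => H n ⋙ F) m f) : IsWitF H m f := by
  refine ⟨fun i hi => ?_, ?_⟩
  · haveI : IsIso (F.map ((H i).map f)) := h.1 i hi
    exact isIso_of_reflects_iso _ F
  · have : Epi (F.map ((H m).map f)) := h.2
    exact F.epi_of_epi_map this

end Generic

section Abelian

variable {C₁ C₂ : Type*} [Category C₁] [Abelian C₁] [Category C₂] [Abelian C₂]

/-- chain-level witness -/
def IsWitCx (m : ℤ) {E F : CochainComplex C₁ ℤ} (g : E ⟶ F) : Prop :=
  IsWitF (fun n => HomologicalComplex.homologyFunctor C₁ (ComplexShape.up ℤ) n) m g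

variable (F : C₁ ⥤ C₂) [F.Additive] [PreservesFiniteLimits F] [PreservesFiniteColimits F]

/-- homology commutes with an exact functor, naturally -/
noncomputable def mapHCHomologyIso (n : ℤ) :
    F.mapHomologicalComplex (ComplexShape.up ℤ) ⋙
      HomologicalComplex.homologyFunctor C₂ (ComplexShape.up ℤ) n ≅
    HomologicalComplex.homologyFunctor C₁ (ComplexShape.up ℤ) n ⋙ F :=
  NatIso.ofComponents (fun G => (G.sc n).mapHomologyIso F)
    (fun {G G'} g => ShortComplex.mapHomologyIso_hom_naturality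
      ((HomologicalComplex.shortComplexFunctor C₁ (ComplexShape.up ℤ) n).map g) F)

lemma IsWitCx.map {m : ℤ} {E G : CochainComplex C₁ ℤ} {g : E ⟶ G} (h : IsWitCx m g) :
    IsWitCx m ((F.mapHomologicalComplex (ComplexShape.up ℤ)).map g) := by
  have h1 := h.postcomp F
  exact (isWitF_iff_of_natIso (fun n => mapHCHomologyIso F n) m g).mpr h1

lemma IsWitCx.of_map [F.ReflectsIsomorphisms] [F.ReflectsEpimorphisms] {m : ℤ}
    {E G : CochainComplex C₁ ℤ} {g : E ⟶ G}
    (h : IsWitCx m ((F.mapHomologicalComplex (ComplexShape.up ℤ)).map g)) : IsWitCx m g := by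
  have h1 := (isWitF_iff_of_natIso (fun n => mapHCHomologyIso F n) m g).mp h
  exact h1.of_postcomp F

end Abelian

section Derived

variable {C₁ C₂ : Type*} [Category C₁] [Abelian C₁] [Category C₂] [Abelian C₂]
  [HasDerivedCategory C₁] [HasDerivedCategory C₂]

/-- derived-level witness -/
def IsWitD (m : ℤ) {A B : DerivedCategory C₁} (α : A ⟶ B) : Prop :=
  IsWitF (fun n => homologyFunctor C₁ n) m α

lemma isWitD_iff {m : ℤ} {A B : DerivedCategory C₁} (α : A ⟶ B) :
    IsWitD m α ↔ (∀ i, m < i → IsIso ((homologyFunctor C₁ i).map α)) ∧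
      Epi ((homologyFunctor C₁ m).map α) := Iff.rfl

lemma isWitD_Q_map_iff {m : ℤ} {E G : CochainComplex C₁ ℤ} (g : E ⟶ G) :
    IsWitD m (Q.map g) ↔ IsWitCx m g :=
  isWitF_iff_of_natIso (H := fun n => Q ⋙ homologyFunctor C₁ n)
    (fun n => homologyFunctorFactors C₁ n) m g

lemma isWitD_iso_comp {m : ℤ} {A' A B B' : DerivedCategory C₁} (a : A' ⟶ A) (f : A ⟶ B)
    (b : B ⟶ B') [IsIso a] [IsIso b] : IsWitD m (a ≫ f ≫ b) ↔ IsWitD m f :=
  isWitF_iso_comp _ m a f b

lemma isWitCx_iso_comp {m : ℤ} {A' A B B' : CochainComplex C₁ ℤ} (a : A' ⟶ A) (f : A ⟶ B)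
    (b : B ⟶ B') [IsIso a] [IsIso b] : IsWitCx m (a ≫ f ≫ b) ↔ IsWitCx m f :=
  isWitF_iso_comp _ m a f b

variable (F : C₁ ⥤ C₂) [F.Additive] [PreservesFiniteLimits F] [PreservesFiniteColimits F]

/-- cohomology commutes with the derived functor of an exact functor, naturally -/
noncomputable def mapDerivedCategoryHomologyIso (n : ℤ) :
    F.mapDerivedCategory ⋙ homologyFunctor C₂ n ≅ homologyFunctor C₁ n ⋙ F :=
  letI : Localization.Lifting Q (HomologicalComplex.quasiIso C₁ (ComplexShape.up ℤ))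
      (F.mapHomologicalComplex (ComplexShape.up ℤ) ⋙
        HomologicalComplex.homologyFunctor C₂ (ComplexShape.up ℤ) n)
      (F.mapDerivedCategory ⋙ homologyFunctor C₂ n) :=
    ⟨(Functor.associator _ _ _).symm ≪≫ Functor.isoWhiskerRight F.mapDerivedCategoryFactors _ ≪≫
      Functor.associator _ _ _ ≪≫ Functor.isoWhiskerLeft _ (homologyFunctorFactors C₂ n)⟩
  letI : Localization.Lifting Q (HomologicalComplex.quasiIso C₁ (ComplexShape.up ℤ))
      (HomologicalComplex.homologyFunctor C₁ (ComplexShape.up ℤ) n ⋙ F)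
      (homologyFunctor C₁ n ⋙ F) :=
    ⟨(Functor.associator _ _ _).symm ≪≫ Functor.isoWhiskerRight (homologyFunctorFactors C₁ n) F⟩
  Localization.liftNatIso Q (HomologicalComplex.quasiIso C₁ (ComplexShape.up ℤ)) _ _ _ _
    (mapHCHomologyIso F n)

lemma IsWitD.map {m : ℤ} {A B : DerivedCategory C₁} {α : A ⟶ B} (h : IsWitD m α) :
    IsWitD m (F.mapDerivedCategory.map α) := by
  have h1 := IsWitF.postcomp h F
  exact (isWitF_iff_of_natIso (H := fun n => F.mapDerivedCategory ⋙ homologyFunctor C₂ n)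
    (fun n => mapDerivedCategoryHomologyIso F n) m α).mpr h1

lemma IsWitD.of_map [F.ReflectsIsomorphisms] [F.ReflectsEpimorphisms] {m : ℤ}
    {A B : DerivedCategory C₁} {α : A ⟶ B} (h : IsWitD m (F.mapDerivedCategory.map α)) :
    IsWitD m α := by
  have h1 := (isWitF_iff_of_natIso (H := fun n => F.mapDerivedCategory ⋙ homologyFunctor C₂ n)
    (fun n => mapDerivedCategoryHomologyIso F n) m α).mp h
  exact h1.of_postcomp F

end Derived

end Groth.Agent.H4.TilD9
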