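import Mathlib
import Groth.Agent.H4.TilD9

set_option autoImplicit false
universe u
open CategoryTheory CategoryTheory.Limits
open Groth.Agent.H4.TilD9

namespace Groth.Agent.H4.PCS2

section Def

variable {C : Type*} [Category C] [Preadditive C] [HasZeroObject C]

open ZeroObject

/-- terms of the brutal truncation -/
noncomputable def sX (K : CochainComplex C ℤ) (n i : ℤ) : C := if n ≤ i then K.X i else 0

noncomputable def sXIso (K : CochainComplex C ℤ) (n i : ℤ) (h : n ≤ i) : sX K n i ≅ K.X i :=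
  eqToIso (if_pos h)

lemma sX_isZero (K : CochainComplex C ℤ) (n i : ℤ) (h : ¬ n ≤ i) : IsZero (sX K n i) := by
  rw [sX, if_neg h]; exact isZero_zero C

noncomputable def sι (K : CochainComplex C ℤ) (n i : ℤ) : sX K n i ⟶ K.X i :=
  if h : n ≤ i then (sXIso K n i h).hom else 0

noncomputable def sπ (K : CochainComplex C ℤ) (n i : ℤ) : K.X i ⟶ sX K n i :=
  if h : n ≤ i then (sXIso K n i h).inv else 0

lemma sι_of_le (K : CochainComplex C ℤ) (n i : ℤ) (h : n ≤ i) : sι K n i = (sXIso K n i h).hom := by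
  rw [sι, dif_pos h]

lemma sπ_of_le (K : CochainComplex C ℤ) (n i : ℤ) (h : n ≤ i) : sπ K n i = (sXIso K n i h).inv := by
  rw [sπ, dif_pos h]

lemma sι_of_not_le (K : CochainComplex C ℤ) (n i : ℤ) (h : ¬ n ≤ i) : sι K n i = 0 := by
  rw [sι, dif_neg h]

lemma sπ_of_not_le (K : CochainComplex C ℤ) (n i : ℤ) (h : ¬ n ≤ i) : sπ K n i = 0 := by
  rw [sπ, dif_neg h]

@[reassoc (attr := simp)]
lemma sι_sπ (K : CochainComplex C ℤ) (n i : ℤ) : sι K n i ≫ sπ K n i = 𝟙 _ := by
  by_cases h : n ≤ i
  · rw [sι_of_le K n i h, sπ_of_le K n i h, Iso.hom_inv_id]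
  · exact (sX_isZero K n i h).eq_of_src _ _

@[reassoc]
lemma sπ_sι_of_le (K : CochainComplex C ℤ) (n i : ℤ) (h : n ≤ i) : sπ K n i ≫ sι K n i = 𝟙 _ := by
  rw [sι_of_le K n i h, sπ_of_le K n i h, Iso.inv_hom_id]

instance (K : CochainComplex C ℤ) (n i : ℤ) : Mono (sι K n i) :=
  mono_of_mono_fac (sι_sπ K n i)

lemma isIso_sι (K : CochainComplex C ℤ) (n i : ℤ) (h : n ≤ i) : IsIso (sι K n i) := by
  rw [sι_of_le K n i h]; infer_instance

/-- the brutal truncation `σ_{≥ n} K` -/
noncomputable def sigmaGE (K : CochainComplex C ℤ) (n : ℤ) : CochainComplex C ℤ where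
  X := sX K n
  d i j := sι K n i ≫ K.d i j ≫ sπ K n j
  shape i j h := by rw [K.shape i j h]; simp
  d_comp_d' i j k hij hjk := by
    by_cases h : n ≤ j
    · simp only [Category.assoc]
      rw [sπ_sι_of_le_assoc K n j h, K.d_comp_d_assoc]
      simp
    · have : ¬ n ≤ i := by
        change i + 1 = j at hij
        omega
      rw [sι_of_not_le K n i this]
      simp

/-- the inclusion `σ_{≥ n} K ⟶ K` -/
noncomputable def sigmaGEι (K : CochainComplex C ℤ) (n : ℤ) : sigmaGE K n ⟶ K where
  f i := sι K n i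
  comm' i j hij := by
    change sι K n i ≫ K.d i j = (sι K n i ≫ K.d i j ≫ sπ K n j) ≫ sι K n j
    by_cases h : n ≤ j
    · simp only [Category.assoc]
      rw [sπ_sι_of_le K n j h, Category.comp_id]
    · have : ¬ n ≤ i := by
        change i + 1 = j at hij
        omega
      rw [sι_of_not_le K n i this]
      simp

lemma sigmaGE_isZero (K : CochainComplex C ℤ) (n i : ℤ) (hi : i < n) :
    IsZero ((sigmaGE K n).X i) := sX_isZero K n i (by omega)

noncomputable def sigmaGEXIso (K : CochainComplex C ℤ) (n i : ℤ) (hi : n ≤ i) :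
    (sigmaGE K n).X i ≅ K.X i := sXIso K n i hi

lemma sigmaGE_isZero' (K : CochainComplex C ℤ) (n i : ℤ) (hi : IsZero (K.X i)) :
    IsZero ((sigmaGE K n).X i) := by
  by_cases h : n ≤ i
  · exact hi.of_iso (sigmaGEXIso K n i h)
  · exact sX_isZero K n i h

end Def

section Abelian

variable {C : Type*} [Category C] [Abelian C]

lemma isWitCx_sigmaGEι (K : CochainComplex C ℤ) (n : ℤ) : IsWitCx n (sigmaGEι K n) := by
  have hprev : ∀ i : ℤ, (ComplexShape.up ℤ).prev i = i - 1 := fun i => by simp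
  have hnext : ∀ i : ℤ, (ComplexShape.up ℤ).next i = i + 1 := fun i => by simp
  refine ⟨fun i hi => ?_, ?_⟩
  · let φ := (HomologicalComplex.shortComplexFunctor C (ComplexShape.up ℤ) i).map (sigmaGEι K n)
    haveI : IsIso φ.τ₁ := by
      change IsIso (sι K n ((ComplexShape.up ℤ).prev i))
      rw [hprev]
      exact isIso_sι K n _ (by omega)
    haveI : IsIso φ.τ₂ := isIso_sι K n i (by omega)
    haveI : IsIso φ.τ₃ := by
      change IsIso (sι K n ((ComplexShape.up ℤ).next i))
      rw [hnext]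
      exact isIso_sι K n _ (by omega)
    have hq : ShortComplex.QuasiIso φ := ShortComplex.quasiIso_of_epi_of_isIso_of_mono φ
    change IsIso (ShortComplex.homologyMap φ)
    exact hq.isIso'
  · let φ := (HomologicalComplex.shortComplexFunctor C (ComplexShape.up ℤ) n).map (sigmaGEι K n)
    haveI : IsIso φ.τ₂ := isIso_sι K n n le_rfl
    haveI : IsIso φ.τ₃ := by
      change IsIso (sι K n ((ComplexShape.up ℤ).next n))
      rw [hnext]
      exact isIso_sι K n _ (by omega)
    haveI : IsIso (ShortComplex.cyclesMap φ) := ShortComplex.isIso_cyclesMap_of_isIso_of_mono φ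
    change Epi (ShortComplex.homologyMap φ)
    have h := ShortComplex.homologyπ_naturality φ
    haveI : Epi (ShortComplex.cyclesMap φ ≫ ShortComplex.homologyπ _) := epi_comp _ _
    rw [← h] at this
    exact epi_of_epi (ShortComplex.homologyπ _) _

end Abelian

end Groth.Agent.H4.PCS2
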