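import Mathlib
import Groth.Agent.H4.GK3
import Groth.Agent.H4.PCS2
import Groth.Agent.H4.TC5

open CategoryTheory Category Limits HomologicalComplex CochainComplex.HomComplex CochainComplex

universe w' w v u

namespace Groth.Agent.H4.GK4

open Groth.Agent.H4.TC1 Groth.Agent.H4.TC2 Groth.Agent.H4.GK1 Groth.Agent.H4.GK2
  Groth.Agent.H4.GK3 Groth.Agent.H4.PCS2

section Def

variable {C : Type*} [Category C] [Preadditive C] [HasZeroObject C]

open ZeroObject

/-- terms of the brutal truncation `σ_{< n}` -/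
noncomputable def tX (K : CochainComplex C ℤ) (n i : ℤ) : C := if i < n then K.X i else 0

noncomputable def tXIso (K : CochainComplex C ℤ) (n i : ℤ) (h : i < n) : tX K n i ≅ K.X i :=
  eqToIso (if_pos h)

lemma tX_isZero (K : CochainComplex C ℤ) (n i : ℤ) (h : ¬ i < n) : IsZero (tX K n i) := by
  rw [tX, if_neg h]; exact isZero_zero C

noncomputable def tι (K : CochainComplex C ℤ) (n i : ℤ) : tX K n i ⟶ K.X i :=
  if h : i < n then (tXIso K n i h).hom else 0

noncomputable def tπ (K : CochainComplex C ℤ) (n i : ℤ) : K.X i ⟶ tX K n i :=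
  if h : i < n then (tXIso K n i h).inv else 0

lemma tι_of_lt (K : CochainComplex C ℤ) (n i : ℤ) (h : i < n) : tι K n i = (tXIso K n i h).hom := by
  rw [tι, dif_pos h]

lemma tπ_of_lt (K : CochainComplex C ℤ) (n i : ℤ) (h : i < n) : tπ K n i = (tXIso K n i h).inv := by
  rw [tπ, dif_pos h]

lemma tι_of_not_lt (K : CochainComplex C ℤ) (n i : ℤ) (h : ¬ i < n) : tι K n i = 0 := by
  rw [tι, dif_neg h]

lemma tπ_of_not_lt (K : CochainComplex C ℤ) (n i : ℤ) (h : ¬ i < n) : tπ K n i = 0 := by
  rw [tπ, dif_neg h]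

@[reassoc (attr := simp)]
lemma tι_tπ (K : CochainComplex C ℤ) (n i : ℤ) : tι K n i ≫ tπ K n i = 𝟙 _ := by
  by_cases h : i < n
  · rw [tι_of_lt K n i h, tπ_of_lt K n i h, Iso.hom_inv_id]
  · exact (tX_isZero K n i h).eq_of_src _ _

@[reassoc]
lemma tπ_tι_of_lt (K : CochainComplex C ℤ) (n i : ℤ) (h : i < n) : tπ K n i ≫ tι K n i = 𝟙 _ := by
  rw [tι_of_lt K n i h, tπ_of_lt K n i h, Iso.inv_hom_id]

/-- the brutal truncation `σ_{< n} K` -/
noncomputable def sigmaLT (K : CochainComplex C ℤ) (n : ℤ) : CochainComplex C ℤ where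
  X := tX K n
  d i j := tι K n i ≫ K.d i j ≫ tπ K n j
  shape i j h := by rw [K.shape i j h]; simp
  d_comp_d' i j k hij hjk := by
    by_cases h : j < n
    · simp only [Category.assoc]
      rw [tπ_tι_of_lt_assoc K n j h, K.d_comp_d_assoc]
      simp
    · have : ¬ k < n := by
        change j + 1 = k at hjk
        omega
      rw [tπ_of_not_lt K n k this]
      simp

/-- the projection `K ⟶ σ_{< n} K` -/
noncomputable def sigmaLTπ (K : CochainComplex C ℤ) (n : ℤ) : K ⟶ sigmaLT K n where
  f i := tπ K n i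
  comm' i j hij := by
    change tπ K n i ≫ (tι K n i ≫ K.d i j ≫ tπ K n j) = K.d i j ≫ tπ K n j
    by_cases h : i < n
    · rw [tπ_tι_of_lt_assoc K n i h]
    · have : ¬ j < n := by
        change i + 1 = j at hij
        omega
      rw [tπ_of_not_lt K n j this]
      simp

lemma sigmaLT_isZero (K : CochainComplex C ℤ) (n i : ℤ) (hi : n ≤ i) :
    IsZero ((sigmaLT K n).X i) := tX_isZero K n i (by omega)

noncomputable def sigmaLTXIso (K : CochainComplex C ℤ) (n i : ℤ) (hi : i < n) :
    (sigmaLT K n).X i ≅ K.X i := tXIso K n i hi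

lemma sigmaLT_isZero' (K : CochainComplex C ℤ) (n i : ℤ) (hi : IsZero (K.X i)) :
    IsZero ((sigmaLT K n).X i) := by
  by_cases h : i < n
  · exact hi.of_iso (sigmaLTXIso K n i h)
  · exact tX_isZero K n i h

lemma sι_tπ (K : CochainComplex C ℤ) (n i : ℤ) : sι K n i ≫ tπ K n i = 0 := by
  by_cases h : n ≤ i
  · rw [tπ_of_not_lt K n i (by omega), comp_zero]
  · rw [sι_of_not_le K n i h, zero_comp]

lemma sπ_sι_add (K : CochainComplex C ℤ) (n i : ℤ) :
    sπ K n i ≫ sι K n i + tπ K n i ≫ tι K n i = 𝟙 _ := by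
  by_cases h : n ≤ i
  · rw [sπ_sι_of_le K n i h, tπ_of_not_lt K n i (by omega), zero_comp, add_zero]
  · rw [sπ_of_not_le K n i h, zero_comp, zero_add, tπ_tι_of_lt K n i (by omega)]

/-- the brutal truncation sequence `σ_{≥ n} K ⟶ K ⟶ σ_{< n} K` -/
noncomputable def sigmaSC (K : CochainComplex C ℤ) (n : ℤ) : ShortComplex (CochainComplex C ℤ) :=
  ShortComplex.mk (sigmaGEι K n) (sigmaLTπ K n) (by
    apply HomologicalComplex.hom_ext
    intro i
    exact sι_tπ K n i)

/-- the brutal truncation sequence is degreewise split -/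
noncomputable def sigmaSplitting (K : CochainComplex C ℤ) (n i : ℤ) :
    ((sigmaSC K n).map (HomologicalComplex.eval C (ComplexShape.up ℤ) i)).Splitting where
  r := sπ K n i
  s := tι K n i
  f_r := sι_sπ K n i
  s_g := tι_tπ K n i
  id := sπ_sι_add K n i

/-- transition maps between the brutal truncations -/
noncomputable def sigmaGEMap (K : CochainComplex C ℤ) (m n : ℤ) (hmn : m ≤ n) :
    sigmaGE K n ⟶ sigmaGE K m where
  f i := sι K n i ≫ sπ K m i
  comm' i j hij := by
    change (sι K n i ≫ sπ K m i) ≫ (sι K m i ≫ K.d i j ≫ sπ K m j) =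
      (sι K n i ≫ K.d i j ≫ sπ K n j) ≫ (sι K n j ≫ sπ K m j)
    change i + 1 = j at hij
    by_cases h : n ≤ i
    · simp only [Category.assoc]
      rw [sπ_sι_of_le_assoc K m i (by omega), sπ_sι_of_le_assoc K n j (by omega)]
    · rw [sι_of_not_le K n i h]
      simp

@[reassoc (attr := simp)]
lemma sigmaGEMap_ι (K : CochainComplex C ℤ) (m n : ℤ) (hmn : m ≤ n) :
    sigmaGEMap K m n hmn ≫ sigmaGEι K m = sigmaGEι K n := by
  apply HomologicalComplex.hom_ext
  intro i
  change (sι K n i ≫ sπ K m i) ≫ sι K m i = sι K n i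
  by_cases h : n ≤ i
  · rw [Category.assoc, sπ_sι_of_le K m i (by omega), Category.comp_id]
  · rw [sι_of_not_le K n i h]
    simp

instance (K : CochainComplex C ℤ) (n : ℤ) : Mono (sigmaGEι K n) := by
  refine ⟨fun {Z} g h w => ?_⟩
  apply HomologicalComplex.hom_ext
  intro i
  have := congrArg (fun t => t.f i) w
  simp only [HomologicalComplex.comp_f] at this
  exact (cancel_mono (sι K n i)).1 this

/-- the sequence `n ↦ σ_{≥ b - n} K` -/
noncomputable def sigmaSeq (K : CochainComplex C ℤ) (b : ℤ) : ℕ ⥤ CochainComplex C ℤ where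
  obj n := sigmaGE K (b - n)
  map {n n'} f := sigmaGEMap K (b - n') (b - n) (by have := leOfHom f; omega)
  map_id n := by
    rw [← cancel_mono (sigmaGEι K (b - n)), sigmaGEMap_ι, Category.id_comp]
  map_comp {n n' n''} f g := by
    rw [← cancel_mono (sigmaGEι K (b - n'')), sigmaGEMap_ι, Category.assoc, sigmaGEMap_ι,
      sigmaGEMap_ι]

/-- the cocone `σ_{≥ b - n} K ⟶ K` -/
noncomputable def sigmaCocone (K : CochainComplex C ℤ) (b : ℤ) : Cocone (sigmaSeq K b) where
  pt := K
  ι :=
    { app := fun n => sigmaGEι K (b - n)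
      naturality := fun n n' f => by
        have h : b - (n' : ℤ) ≤ b - (n : ℤ) := by have := leOfHom f; omega
        change sigmaGEMap K (b - n') (b - n) h ≫ sigmaGEι K (b - n') = sigmaGEι K (b - n) ≫ 𝟙 _
        rw [sigmaGEMap_ι, Category.comp_id] }

/-- `K` is the colimit of its brutal truncations -/
noncomputable def isColimitSigmaCocone (K : CochainComplex C ℤ) (b : ℤ) :
    IsColimit (sigmaCocone K b) := by
  refine HomologicalComplex.isColimitOfEval _ _ (fun i => ?_)
  have hev : (sigmaSeq K b ⋙ HomologicalComplex.eval C (ComplexShape.up ℤ) i).IsEventuallyConstantFrom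
      (b - i).toNat := by
    intro n f
    have hn := leOfHom f
    change IsIso (sι K (b - ((b - i).toNat : ℤ)) i ≫ sπ K (b - n) i)
    have h1 : b - ((b - i).toNat : ℤ) ≤ i := by
      have := Int.self_le_toNat (b - i)
      omega
    have h2 : b - (n : ℤ) ≤ i := by
      have : ((b - i).toNat : ℤ) ≤ n := by exact_mod_cast hn
      omega
    rw [sι_of_le K _ i h1, sπ_of_le K _ i h2]
    infer_instance
  haveI : IsIso (((HomologicalComplex.eval C (ComplexShape.up ℤ) i).mapCocone
      (sigmaCocone K b)).ι.app (b - i).toNat) := by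
    change IsIso (sι K (b - ((b - i).toNat : ℤ)) i)
    have h1 : b - ((b - i).toNat : ℤ) ≤ i := by
      have := Int.self_le_toNat (b - i)
      omega
    exact isIso_sι K _ i h1
  exact hev.isColimitOfIsIso _

end Def

section KF

variable {A : Type u} [Category.{v} A] [Abelian A]
  (F : A ⥤ A ⥤ A) [F.Additive] [∀ X, (F.obj X).Additive]
  [∀ K L : CochainComplex A ℤ, CochainComplex.HasMapBifunctor K L F]

/-- `M` is flat for the bifunctor `F`: `F(-, M)` is exact. -/
def FlatObj (M : A) : Prop :=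
  PreservesFiniteLimits (F.flip.obj M) ∧ PreservesFiniteColimits (F.flip.obj M)

variable {F}

lemma FlatObj.of_iso {M N : A} (e : M ≅ N) (h : FlatObj F M) : FlatObj F N := by
  haveI := h.1
  haveI := h.2
  exact ⟨preservesFiniteLimits_of_natIso (F.flip.mapIso e),
    preservesFiniteColimits_of_natIso (F.flip.mapIso e)⟩

instance additive_flip_obj (M : A) : (F.flip.obj M).Additive where
  map_add {X Y f g} := by
    change (F.map (f + g)).app M = (F.map f).app M + (F.map g).app M
    rw [Functor.map_add]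
    rfl

/-- A complex concentrated in one degree with flat term there is K-flat. -/
theorem kflat_of_concentrated (K : CochainComplex A ℤ) (q₀ : ℤ)
    (hK : ∀ q, q ≠ q₀ → IsZero (K.X q)) (hflat : FlatObj F (K.X q₀)) : KFlat F K := by
  intro L hL
  haveI := hflat.1
  haveI := hflat.2
  rw [acyc_iff_exactAt] at hL ⊢
  intro n
  rw [HomologicalComplex.exactAt_iff' _ (n - 1) n (n + 1) (by simp) (by simp)]
  have hLp := (HomologicalComplex.exactAt_iff' L (n - q₀ - 1) (n - q₀) (n - q₀ + 1) (by simp)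
    (by simp)).1 (hL (n - q₀))
  have hex := hLp.map (F.flip.obj (K.X q₀))
  have h1 : n - q₀ - 1 + q₀ = n - 1 := by omega
  have h2 : n - q₀ + q₀ = n := by omega
  have h3 : n - q₀ + 1 + q₀ = n + 1 := by omega
  haveI i1 := Groth.Agent.H4.TC5.isIso_ι_of_concentrated₂ F L K q₀ hK (n - q₀ - 1) (n - 1) h1
  haveI i2 := Groth.Agent.H4.TC5.isIso_ι_of_concentrated₂ F L K q₀ hK (n - q₀) n h2
  haveI i3 := Groth.Agent.H4.TC5.isIso_ι_of_concentrated₂ F L K q₀ hK (n - q₀ + 1) (n + 1) h3
  refine ShortComplex.exact_of_iso ?_ hex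
  refine ShortComplex.isoMk
    (@asIso _ _ _ _ _ i1) (@asIso _ _ _ _ _ i2) (@asIso _ _ _ _ _ i3) ?_ ?_
  · exact (Groth.Agent.H4.TC5.ι_d_of_concentrated₂ F L K q₀ hK (n - q₀ - 1) (n - 1)
      (n - q₀) n (by omega) (by omega) (by omega))
  · exact (Groth.Agent.H4.TC5.ι_d_of_concentrated₂ F L K q₀ hK (n - q₀) n
      (n - q₀ + 1) (n + 1) (by omega) (by omega) (by omega))

/-- A complex with all terms zero is K-flat. -/
lemma kflat_of_isZero_X (K : CochainComplex A ℤ) (hK : ∀ q, IsZero (K.X q)) : KFlat F K := by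
  intro L _ n
  have hz : IsZero ((CochainComplex.mapBifunctor L K F).X n) := by
    rw [IsZero.iff_id_eq_zero]
    refine mapBifunctor.hom_ext (fun p q hpq => ?_)
    exact ((F.obj (L.X p)).map_isZero (hK q)).eq_of_src _ _
  exact ShortComplex.isZero_homology_of_isZero_X₂ _ hz

variable [HasCountableCoproducts A] [CountableAB4 A]

/-- two-out-of-three for degreewise split short exact sequences -/
theorem kflat_of_degreewiseSplit (S : ShortComplex (CochainComplex A ℤ))
    (σ : ∀ n, (S.map (HomologicalComplex.eval A (ComplexShape.up ℤ) n)).Splitting) :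
    (KFlat F S.X₁ → KFlat F S.X₂ → KFlat F S.X₃) ∧ (KFlat F S.X₁ → KFlat F S.X₃ → KFlat F S.X₂) ∧
      (KFlat F S.X₂ → KFlat F S.X₃ → KFlat F S.X₁) :=
  kflat_two_out_of_three F S (fun M q => ((σ q).map (F.obj M)).shortExact)

/-- bounded complexes with flat terms are K-flat (induction on the length). -/
theorem kflat_of_bounded_aux (n : ℕ) : ∀ (K : CochainComplex A ℤ) (a : ℤ),
    (∀ i, i < a → IsZero (K.X i)) → (∀ i, a + n ≤ i → IsZero (K.X i)) →
    (∀ i, a ≤ i → i < a + n → FlatObj F (K.X i)) → KFlat F K := by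
  induction n with
  | zero =>
    intro K a h1 h2 _
    refine kflat_of_isZero_X K (fun q => ?_)
    by_cases hq : q < a
    · exact h1 q hq
    · exact h2 q (by simp; omega)
  | succ n ih =>
    intro K a h1 h2 hfl
    refine (kflat_of_degreewiseSplit (sigmaSC K (a + 1)) (sigmaSplitting K (a + 1))).2.1 ?_ ?_
    · refine ih (sigmaGE K (a + 1)) (a + 1) ?_ ?_ ?_
      · intro i hi
        exact sigmaGE_isZero K (a + 1) i hi
      · intro i hi
        exact sigmaGE_isZero' K (a + 1) i (h2 i (by push_cast; omega))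
      · intro i hi1 hi2
        exact FlatObj.of_iso (sigmaGEXIso K (a + 1) i hi1).symm (hfl i (by omega)
          (by push_cast; omega))
    · refine kflat_of_concentrated _ a ?_ ?_
      · intro q hq
        by_cases hq' : q < a
        · exact sigmaLT_isZero' K (a + 1) q (h1 q hq')
        · exact sigmaLT_isZero K (a + 1) q (by omega)
      · exact FlatObj.of_iso (sigmaLTXIso K (a + 1) a (by omega)).symm (hfl a le_rfl
          (by push_cast; omega))

theorem kflat_of_bounded (K : CochainComplex A ℤ) (a b : ℤ)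
    (h1 : ∀ i, i < a → IsZero (K.X i)) (h2 : ∀ i, b < i → IsZero (K.X i))
    (hfl : ∀ i, a ≤ i → i ≤ b → FlatObj F (K.X i)) : KFlat F K := by
  refine kflat_of_bounded_aux (b + 1 - a).toNat K a h1 (fun i hi => h2 i ?_)
    (fun i hi1 hi2 => hfl i hi1 ?_)
  · have := Int.self_le_toNat (b + 1 - a)
    omega
  · by_contra hcon
    have h3 : (((b + 1 - a).toNat : ℕ) : ℤ) = b + 1 - a := Int.toNat_of_nonneg (by omega)
    omega

variable [HasColimitsOfShape ℕ A] [HasExactColimitsOfShape ℕ A]
  [∀ M : A, PreservesColimitsOfShape ℕ (F.obj M)]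

/-- bounded above complexes with flat terms are K-flat -/
theorem kflat_of_boundedAbove (K : CochainComplex A ℤ) (b : ℤ)
    (h2 : ∀ i, b < i → IsZero (K.X i)) (hfl : ∀ i, i ≤ b → FlatObj F (K.X i)) : KFlat F K := by
  refine KFlat.of_isColimit F (sigmaSeq K b) (sigmaCocone K b) (isColimitSigmaCocone K b)
    (fun n => ?_)
  refine kflat_of_bounded (sigmaGE K (b - n)) (b - n) b ?_ ?_ ?_
  · intro i hi
    exact sigmaGE_isZero K (b - n) i hi
  · intro i hi
    exact sigmaGE_isZero' K (b - n) i (h2 i hi)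
  · intro i hi1 hi2
    exact FlatObj.of_iso (sigmaGEXIso K (b - n) i hi1).symm (hfl i hi2)

end KF

end Groth.Agent.H4.GK4
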