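import Mathlib
import Groth.Agent.H4.GK4

open CategoryTheory Category Limits HomologicalComplex CochainComplex.HomComplex CochainComplex
  ZeroObject

universe v u

namespace Groth.Agent.H4.GK5

open Groth.Agent.H4.GK1 Groth.Agent.H4.GK2 Groth.Agent.H4.GK3 Groth.Agent.H4.GK4

variable {A : Type u} [Category.{v} A] [Abelian A]

section Step

/-- the complex with zero differentials -/
def Qc (X : ℤ → A) : CochainComplex A ℤ where
  X := X
  d _ _ := 0
  shape _ _ _ := rfl
  d_comp_d' _ _ _ _ _ := by simp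

@[simp] lemma Qc_d (X : ℤ → A) (i j : ℤ) : (Qc X).d i j = 0 := rfl

variable {E G : CochainComplex A ℤ} (a : E ⟶ G)
  (X : ℤ → A) (π : ∀ n, (Qc X).X n ⟶ (mappingCone a).cycles (n - 1))

/-- the cycle maps -/
noncomputable def zc (n : ℤ) : (Qc X).X n ⟶ (mappingCone a).X (n - 1) :=
  π n ≫ (mappingCone a).iCycles (n - 1)

@[reassoc (attr := simp)]
lemma zc_d (n m : ℤ) : zc a X π n ≫ (mappingCone a).d (n - 1) m = 0 := by
  simp [zc]

/-- the attaching map -/
noncomputable def bmap : Qc X ⟶ E where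
  f n := zc a X π n ≫ (mappingCone.fst a).1.v (n - 1) n (by omega)
  comm' i j hij := by
    rw [Qc_d, zero_comp, assoc]
    have h := mappingCone.d_fst_v a (i - 1) i j (by omega) hij
    have h2 := zc_d_assoc a X π i i ((mappingCone.fst a).1.v i j hij)
    rw [h] at h2
    simpa using h2

lemma bmap_f (n : ℤ) : (bmap a X π).f n =
    zc a X π n ≫ (mappingCone.fst a).1.v (n - 1) n (by omega) := rfl

/-- the null-homotopy cochain -/
noncomputable def αc : Cochain (Qc X) G (-1) :=
  Cochain.mk (fun p q hpq => -(zc a X π p ≫ (mappingCone.snd a).v (p - 1) q (by omega)))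

lemma δ_αc : δ (-1) 0 (αc a X π) = Cochain.ofHom (bmap a X π ≫ a) := by
  ext p
  rw [δ_v (-1) 0 (neg_add_cancel 1) (αc a X π) p p (add_zero p) (p - 1) (p + 1) rfl rfl]
  have h := mappingCone.d_snd_v a (p - 1) p (by omega)
  have h2 := zc_d_assoc a X π p p ((mappingCone.snd a).v p p (add_zero p))
  rw [h, zero_comp, Preadditive.comp_add] at h2
  simp only [αc, Cochain.mk_v, Cochain.ofHom_v, HomologicalComplex.comp_f, bmap, Qc_d, zero_comp,
    smul_zero, add_zero, Preadditive.neg_comp, assoc]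
  exact (eq_neg_of_add_eq_zero_left h2).symm

/-- the new complex -/
noncomputable abbrev E' : CochainComplex A ℤ := mappingCone (bmap a X π)

/-- the new map -/
noncomputable def a' : E' a X π ⟶ G :=
  mappingCone.desc (bmap a X π) (αc a X π) a (δ_αc a X π)

@[reassoc (attr := simp)]
lemma inr_a' : mappingCone.inr (bmap a X π) ≫ a' a X π = a :=
  mappingCone.inr_desc _ _ _ _

/-- the map on cones -/
noncomputable def φc : mappingCone a ⟶ mappingCone (a' a X π) :=
  mappingCone.map a (a' a X π) (mappingCone.inr (bmap a X π)) (𝟙 G) (by simp)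

/-- the bounding cochain -/
noncomputable def hc (n : ℤ) : (Qc X).X n ⟶ (mappingCone (a' a X π)).X (n - 2) :=
  -((mappingCone.inl (bmap a X π)).v n (n - 1) (by omega) ≫
    (mappingCone.inl (a' a X π)).v (n - 1) (n - 2) (by omega))

lemma hc_d (n : ℤ) : hc a X π n ≫ (mappingCone (a' a X π)).d (n - 2) (n - 1) =
    zc a X π n ≫ (φc a X π).f (n - 1) := by
  have hdec := mappingCone.id_X a (n - 1) n (by omega)
  have e1 := mappingCone.inl_v_d (a' a X π) (n - 1) (n - 2) n (by omega) (by omega)
  have e2 := mappingCone.inl_v_d (bmap a X π) n (n - 1) (n + 1) (by omega) (by omega)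
  have e3 : (mappingCone.inl (bmap a X π)).v n (n - 1) (by omega) ≫ (a' a X π).f (n - 1) =
      (αc a X π).v n (n - 1) (by omega) :=
    mappingCone.inl_v_desc_f (bmap a X π) (αc a X π) a (δ_αc a X π) n (n - 1) (by omega)
  have e4 : (mappingCone.inl a).v n (n - 1) (by omega) ≫ (φc a X π).f (n - 1) =
      (mappingCone.inr (bmap a X π)).f n ≫ (mappingCone.inl (a' a X π)).v n (n - 1) (by omega) := by
    simp [φc, mappingCone.map]
  have e5 : (mappingCone.inr a).f (n - 1) ≫ (φc a X π).f (n - 1) =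
      (mappingCone.inr (a' a X π)).f (n - 1) := by
    simp [φc, mappingCone.map]
  calc hc a X π n ≫ (mappingCone (a' a X π)).d (n - 2) (n - 1)
      = zc a X π n ≫ (𝟙 _) ≫ (φc a X π).f (n - 1) := ?_
    _ = _ := by rw [id_comp]
  rw [← hdec, Preadditive.add_comp, assoc, assoc, e4, e5, hc, Preadditive.neg_comp, assoc, e1,
    Preadditive.comp_sub, reassoc_of% e3, reassoc_of% e2]
  simp only [αc, Cochain.mk_v, Qc_d, zero_comp, sub_zero, Preadditive.neg_comp, assoc,
    Preadditive.comp_add, bmap_f]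
  abel

lemma homologyMap_φc_eq_zero (n : ℤ) [Epi (π n)] :
    HomologicalComplex.homologyMap (φc a X π) (n - 1) = 0 := by
  rw [← cancel_epi ((mappingCone a).homologyπ (n - 1)), ← cancel_epi (π n), comp_zero, comp_zero,
    HomologicalComplex.homologyπ_naturality]
  have : π n ≫ HomologicalComplex.cyclesMap (φc a X π) (n - 1) =
      hc a X π n ≫ (mappingCone (a' a X π)).toCycles (n - 2) (n - 1) := by
    rw [← cancel_mono ((mappingCone (a' a X π)).iCycles (n - 1)), assoc, assoc,
      HomologicalComplex.cyclesMap_i, HomologicalComplex.toCycles_i, hc_d, zc, assoc]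
  rw [reassoc_of% this, HomologicalComplex.toCycles_comp_homologyπ, comp_zero]

end Step

section Exists

variable (P : A → Prop) (hP_zero : ∀ X : A, IsZero X → P X)
  (hP_epi : ∀ X : A, ∃ (Y : A) (p : Y ⟶ X), P Y ∧ Epi p)

include hP_zero hP_epi in
/-- one step of the construction: attach cells killing the homology of the cone in degrees
`< m`. -/
theorem exists_step {E G : CochainComplex A ℤ} (a : E ⟶ G) (m : ℤ) :
    ∃ (Q : CochainComplex A ℤ) (b : Q ⟶ E) (a' : mappingCone b ⟶ G)
      (comm : a ≫ 𝟙 G = mappingCone.inr b ≫ a'),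
      (∀ n, P (Q.X n)) ∧ (∀ n, m < n → IsZero (Q.X n)) ∧
      ∀ n, n ≤ m → HomologicalComplex.homologyMap
        (mappingCone.map a a' (mappingCone.inr b) (𝟙 G) comm) (n - 1) = 0 := by
  have hex : ∀ n : ℤ, ∃ (Y : A) (p : Y ⟶ (mappingCone a).cycles (n - 1)),
      P Y ∧ (n ≤ m → Epi p) ∧ (m < n → IsZero Y) := by
    intro n
    by_cases hn : n ≤ m
    · obtain ⟨Y, p, hY, hp⟩ := hP_epi ((mappingCone a).cycles (n - 1))
      exact ⟨Y, p, hY, fun _ => hp, fun h => absurd hn (by omega)⟩
    · exact ⟨0, 0, hP_zero _ (isZero_zero A), fun h => absurd h hn, fun _ => isZero_zero A⟩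
  choose X π hX hπ hz using hex
  refine ⟨Qc X, bmap a X π, a' a X π, by simp, hX, hz, fun n hn => ?_⟩
  haveI : Epi (show (Qc X).X n ⟶ _ from π n) := hπ n hn
  exact homologyMap_φc_eq_zero a X π n

end Exists

end Groth.Agent.H4.GK5
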