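import Mathlib
import Groth.Agent.H4.GK4

open CategoryTheory Category Limits HomologicalComplex CochainComplex.HomComplex CochainComplex
  ZeroObject

universe v u

namespace Groth.Agent.H4.GK6

open Groth.Agent.H4.GK1 Groth.Agent.H4.GK2 Groth.Agent.H4.GK3 Groth.Agent.H4.GK4

variable {A : Type u} [Category.{v} A] [Abelian A]

section EvZero

variable [HasColimitsOfShape ℕ A] [HasExactColimitsOfShape ℕ A]

/-- a sequence of objects with eventually zero transition maps has zero colimit -/
lemma isZero_colimit_of_eventually_zero (T : ℕ ⥤ A) (k₀ : ℕ)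
    (h : ∀ k, k₀ ≤ k → T.map (homOfLE (Nat.le_add_right k 1)) = 0) : IsZero (colimit T) := by
  have h1 : ∀ k, k₀ ≤ k → colimit.ι T k = 0 := by
    intro k hk
    rw [← colimit.w T (homOfLE (Nat.le_add_right k 1)), h k hk, zero_comp]
  have h2 : ∀ k, colimit.ι T k = 0 := by
    intro k
    by_cases hk : k₀ ≤ k
    · exact h1 k hk
    · rw [← colimit.w T (homOfLE (by omega) : k ⟶ k₀), h1 k₀ le_rfl, comp_zero]
  rw [IsZero.iff_id_eq_zero]
  apply colimit.hom_ext
  intro k
  rw [h2 k, zero_comp, zero_comp]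

lemma acyc_sigJ_of_eventually_zero (F : ℕ ⥤ CochainComplex A ℤ)
    (h : ∀ n : ℤ, ∃ k₀ : ℕ, ∀ k, k₀ ≤ k →
      HomologicalComplex.homologyMap (F.map (homOfLE (Nat.le_add_right k 1))) n = 0) :
    Acyc (sigJ F) := by
  intro n
  obtain ⟨k₀, hk₀⟩ := h n
  refine (isZero_colimit_of_eventually_zero ((famJ F).homology n) k₀ (fun k hk => ?_)).of_iso
    (((famJ F).sc n).mapHomologyIso (colim : (ℕ ⥤ A) ⥤ A))
  have := NatTrans.app_homology ((evaluation ℕ A).map (homOfLE (Nat.le_add_right k 1)))
    ((famJ F).sc n)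
  change ((famJ F).sc n).homology.map (homOfLE (Nat.le_add_right k 1)) = 0
  change ((famJ F).sc n).homology.map _ = _ at this
  rw [this]
  have h0 : ShortComplex.homologyMap (((famJ F).sc n).mapNatTrans
      ((evaluation ℕ A).map (homOfLE (Nat.le_add_right k 1)))) = 0 := hk₀ k hk
  rw [h0, zero_comp, comp_zero]

end EvZero

section ConeColim

variable (E : ℕ ⥤ CochainComplex A ℤ) (G : CochainComplex A ℤ)
  (α : E ⟶ (Functor.const ℕ).obj G)

lemma α_nat {k l : ℕ} (f : k ⟶ l) : α.app k ≫ 𝟙 G = E.map f ≫ α.app l := by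
  have := α.naturality f
  simp only [Functor.const_obj_obj, Functor.const_obj_map] at this
  exact this.symm

/-- the functor of cones -/
noncomputable def coneFunctor : ℕ ⥤ CochainComplex A ℤ where
  obj k := mappingCone (α.app k)
  map {k l} f := mappingCone.map (α.app k) (α.app l) (E.map f) (𝟙 G) (α_nat E G α f)
  map_id k := by
    have h : E.map (𝟙 k) = 𝟙 _ := E.map_id k
    simp only [h]
    exact mappingCone.map_id _
  map_comp {k l m} f g := by
    have h : E.map (f ≫ g) = E.map f ≫ E.map g := E.map_comp f g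
    have h' : (𝟙 G) = 𝟙 G ≫ 𝟙 G := (comp_id _).symm
    rw [← mappingCone.map_comp]
    congr 1
    

variable (c : Cocone E) (hc : IsColimit c)

/-- the induced map from the colimit -/
noncomputable def aInf : c.pt ⟶ G := hc.desc ⟨G, α⟩

lemma ι_aInf (k : ℕ) : c.ι.app k ≫ aInf E G α c hc = α.app k := hc.fac ⟨G, α⟩ k

/-- the cocone of cones -/
noncomputable def coneCocone : Cocone (coneFunctor E G α) where
  pt := mappingCone (aInf E G α c hc)
  ι :=
    { app := fun k => mappingCone.map (α.app k) (aInf E G α c hc) (c.ι.app k) (𝟙 G)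
        (by rw [ι_aInf]; exact comp_id _)
      naturality := fun k l f => by
        dsimp [coneFunctor]
        rw [comp_id, ← mappingCone.map_comp]
        congr 1
        · exact c.w f
        · simp }

variable [HasColimitsOfShape ℕ A]

/-- typed components of the cone functor maps -/
noncomputable def cfMap {k l : ℕ} (f : k ⟶ l) (n : ℤ) :
    (mappingCone (α.app k)).X n ⟶ (mappingCone (α.app l)).X n :=
  ((coneFunctor E G α).map f).f n

/-- typed components of the cone cocone -/
noncomputable def ccι (k : ℕ) (n : ℤ) :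
    (mappingCone (α.app k)).X n ⟶ (mappingCone (aInf E G α c hc)).X n :=
  ((coneCocone E G α c hc).ι.app k).f n

lemma cfMap_inl {k l : ℕ} (f : k ⟶ l) (n m : ℤ) (h : n + (-1) = m) :
    (mappingCone.inl (α.app k)).v n m h ≫ cfMap E G α f m =
      (E.map f).f n ≫ (mappingCone.inl (α.app l)).v n m h := by
  simp [cfMap, coneFunctor, mappingCone.map]

lemma cfMap_inr {k l : ℕ} (f : k ⟶ l) (n : ℤ) :
    (mappingCone.inr (α.app k)).f n ≫ cfMap E G α f n =
      (mappingCone.inr (α.app l)).f n := by
  simp [cfMap, coneFunctor, mappingCone.map]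

lemma ccι_inl (k : ℕ) (n m : ℤ) (h : n + (-1) = m) :
    (mappingCone.inl (α.app k)).v n m h ≫ ccι E G α c hc k m =
      (c.ι.app k).f n ≫ (mappingCone.inl (aInf E G α c hc)).v n m h := by
  simp [ccι, coneCocone, mappingCone.map]

lemma ccι_inr (k : ℕ) (n : ℤ) :
    (mappingCone.inr (α.app k)).f n ≫ ccι E G α c hc k n =
      (mappingCone.inr (aInf E G α c hc)).f n := by
  simp [ccι, coneCocone, mappingCone.map]

section

variable (n : ℤ)
    (s : Cocone (coneFunctor E G α ⋙ HomologicalComplex.eval A (ComplexShape.up ℤ) n))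

/-- typed legs of a cocone -/
def sι (k : ℕ) : (mappingCone (α.app k)).X n ⟶ s.pt := s.ι.app k

lemma sι_w {k l : ℕ} (f : k ⟶ l) : cfMap E G α f n ≫ sι E G α n s l = sι E G α n s k :=
  s.w f

/-- auxiliary cocone -/
noncomputable def auxCoc :
    Cocone (E ⋙ HomologicalComplex.eval A (ComplexShape.up ℤ) (n + 1)) where
  pt := s.pt
  ι :=
    { app := fun k => (mappingCone.inl (α.app k)).v (n + 1) n (by omega) ≫ sι E G α n s k
      naturality := fun k l f => by
        change (E.map f).f (n + 1) ≫ (mappingCone.inl (α.app l)).v (n + 1) n (by omega) ≫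
          sι E G α n s l = ((mappingCone.inl (α.app k)).v (n + 1) n (by omega) ≫
            sι E G α n s k) ≫ 𝟙 _
        rw [comp_id, ← sι_w E G α n s f, ← assoc, ← cfMap_inl, assoc] }

/-- the descent map, first component -/
noncomputable def descA : c.pt.X (n + 1) ⟶ s.pt :=
  (isColimitOfPreserves (HomologicalComplex.eval A (ComplexShape.up ℤ) (n + 1)) hc).desc
    (auxCoc E G α n s)

lemma ι_descA (k : ℕ) :
    (c.ι.app k).f (n + 1) ≫ descA E G α c hc n s =
      (mappingCone.inl (α.app k)).v (n + 1) n (by omega) ≫ sι E G α n s k :=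
  (isColimitOfPreserves (HomologicalComplex.eval A (ComplexShape.up ℤ) (n + 1)) hc).fac
    (auxCoc E G α n s) k

include hc in
lemma descA_ext {Z : A} (f g : c.pt.X (n + 1) ⟶ Z)
    (h : ∀ k, (c.ι.app k).f (n + 1) ≫ f = (c.ι.app k).f (n + 1) ≫ g) : f = g :=
  (isColimitOfPreserves (HomologicalComplex.eval A (ComplexShape.up ℤ) (n + 1)) hc).hom_ext h

/-- the descent map -/
noncomputable def descB : (mappingCone (aInf E G α c hc)).X n ⟶ s.pt :=
  (mappingCone.fst (aInf E G α c hc)).1.v n (n + 1) rfl ≫ descA E G α c hc n s +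
    (mappingCone.snd (aInf E G α c hc)).v n n (add_zero n) ≫
      (mappingCone.inr (α.app 0)).f n ≫ sι E G α n s 0

lemma s_inr (k : ℕ) :
    (mappingCone.inr (α.app 0)).f n ≫ sι E G α n s 0 =
      (mappingCone.inr (α.app k)).f n ≫ sι E G α n s k := by
  rw [← sι_w E G α n s (homOfLE (Nat.zero_le k)), ← assoc, cfMap_inr]

lemma ccι_descB (k : ℕ) : ccι E G α c hc k n ≫ descB E G α c hc n s = sι E G α n s k := by
  rw [mappingCone.ext_from_iff _ (n + 1) n rfl]
  constructor
  · rw [← assoc, ccι_inl, assoc, descB, Preadditive.comp_add,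
      mappingCone.inl_v_fst_v_assoc, mappingCone.inl_v_snd_v_assoc, zero_comp, add_zero,
      ι_descA]
  · rw [← assoc, ccι_inr, descB, Preadditive.comp_add,
      mappingCone.inr_f_fst_v_assoc, mappingCone.inr_f_snd_v_assoc, zero_comp, zero_add,
      s_inr E G α n s k]

lemma descB_uniq (m : (mappingCone (aInf E G α c hc)).X n ⟶ s.pt)
    (hm : ∀ k, ccι E G α c hc k n ≫ m = sι E G α n s k) : m = descB E G α c hc n s := by
  rw [mappingCone.ext_from_iff _ (n + 1) n rfl]
  constructor
  · rw [descB, Preadditive.comp_add,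
      mappingCone.inl_v_fst_v_assoc, mappingCone.inl_v_snd_v_assoc, zero_comp, add_zero]
    apply descA_ext E c hc n
    intro k
    rw [ι_descA, ← hm k, ← assoc, ← assoc, ccι_inl]
  · rw [descB, Preadditive.comp_add,
      mappingCone.inr_f_fst_v_assoc, mappingCone.inr_f_snd_v_assoc, zero_comp, zero_add,
      ← hm 0, ← assoc, ccι_inr]

end

/-- the colimit of the cones is the cone of the colimit -/
noncomputable def isColimitConeCocone : IsColimit (coneCocone E G α c hc) :=
  HomologicalComplex.isColimitOfEval _ _ (fun n =>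
    { desc := fun s => descB E G α c hc n s
      fac := fun s k => ccι_descB E G α c hc n s k
      uniq := fun s m hm => descB_uniq E G α c hc n s m hm })

variable [HasExactColimitsOfShape ℕ A]

theorem acyc_cone_aInf (h : ∀ n : ℤ, ∃ k₀ : ℕ, ∀ k, k₀ ≤ k → HomologicalComplex.homologyMap
      ((coneFunctor E G α).map (homOfLE (Nat.le_add_right k 1))) n = 0) :
    Acyc (mappingCone (aInf E G α c hc)) :=
  Acyc.of_iso ((isColimitSigJ (coneFunctor E G α)).coconePointUniqueUpToIso
    (isColimitConeCocone E G α c hc)) (acyc_sigJ_of_eventually_zero _ h)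

theorem quasiIso_aInf (h : ∀ n : ℤ, ∃ k₀ : ℕ, ∀ k, k₀ ≤ k → HomologicalComplex.homologyMap
      ((coneFunctor E G α).map (homOfLE (Nat.le_add_right k 1))) n = 0) :
    QuasiIso (aInf E G α c hc) :=
  (acyc_cone_iff _).1 (acyc_cone_aInf E G α c hc h)

end ConeColim

end Groth.Agent.H4.GK6
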