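import Mathlib
import Groth.Agent.H4.GK5
import Groth.Agent.H4.GK6

open CategoryTheory Category Limits HomologicalComplex CochainComplex.HomComplex CochainComplex
  ZeroObject

universe v u

namespace Groth.Agent.H4.GK7

open Groth.Agent.H4.GK1 Groth.Agent.H4.GK2 Groth.Agent.H4.GK3 Groth.Agent.H4.GK4
  Groth.Agent.H4.GK5 Groth.Agent.H4.GK6

variable {A : Type u} [Category.{v} A] [Abelian A]

lemma mappingCone_map_congr {K₁ L₁ K₂ L₂ : CochainComplex A ℤ} (φ₁ : K₁ ⟶ L₁) (φ₂ : K₂ ⟶ L₂)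
    {a a' : K₁ ⟶ K₂} (h : a = a') (b : L₁ ⟶ L₂) (comm : φ₁ ≫ b = a ≫ φ₂) :
    mappingCone.map φ₁ φ₂ a b comm = mappingCone.map φ₁ φ₂ a' b (h ▸ comm) := by
  subst h
  rfl

section Tower

variable (P : A → Prop)

/-- the data produced by one step -/
structure StepData {E G : CochainComplex A ℤ} (a : E ⟶ G) (m : ℤ) where
  Q : CochainComplex A ℤ
  b : Q ⟶ E
  a' : mappingCone b ⟶ G
  comm : a ≫ 𝟙 G = mappingCone.inr b ≫ a'
  hP : ∀ n, P (Q.X n)
  hz : ∀ n, m < n → IsZero (Q.X n)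
  hzero : ∀ n, n ≤ m → HomologicalComplex.homologyMap
    (mappingCone.map a a' (mappingCone.inr b) (𝟙 G) comm) (n - 1) = 0

variable (hP_zero : ∀ X : A, IsZero X → P X)
  (hP_epi : ∀ X : A, ∃ (Y : A) (p : Y ⟶ X), P Y ∧ Epi p)

noncomputable def stepData {E G : CochainComplex A ℤ} (a : E ⟶ G) (m : ℤ) : StepData P a m :=
  Classical.choice (by
    obtain ⟨Q, b, a', comm, h1, h2, h3⟩ := exists_step P hP_zero hP_epi a m
    exact ⟨⟨Q, b, a', comm, h1, h2, h3⟩⟩)

/-- a stage of the construction -/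
structure Stage (G : CochainComplex A ℤ) where
  E : CochainComplex A ℤ
  a : E ⟶ G

variable {G : CochainComplex A ℤ}

noncomputable def Stage.next (s : Stage G) (m : ℤ) : Stage G :=
  ⟨mappingCone (stepData P hP_zero hP_epi s.a m).b, (stepData P hP_zero hP_epi s.a m).a'⟩

variable (s₀ : Stage G)

noncomputable def st : ℕ → Stage G
  | 0 => s₀
  | k + 1 => (st k).next P hP_zero hP_epi (k : ℤ)

noncomputable def sd (k : ℕ) : StepData P (st P hP_zero hP_epi s₀ k).a (k : ℤ) :=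
  stepData P hP_zero hP_epi (st P hP_zero hP_epi s₀ k).a (k : ℤ)

noncomputable def stι (k : ℕ) :
    (st P hP_zero hP_epi s₀ k).E ⟶ (st P hP_zero hP_epi s₀ (k + 1)).E :=
  mappingCone.inr (sd P hP_zero hP_epi s₀ k).b

lemma stι_a (k : ℕ) : stι P hP_zero hP_epi s₀ k ≫ (st P hP_zero hP_epi s₀ (k + 1)).a =
    (st P hP_zero hP_epi s₀ k).a := by
  have := (sd P hP_zero hP_epi s₀ k).comm
  rw [comp_id] at this
  exact this.symm

/-- the sequence of complexes -/
noncomputable def Efun : ℕ ⥤ CochainComplex A ℤ :=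
  Functor.ofSequence (X := fun k => (st P hP_zero hP_epi s₀ k).E) (stι P hP_zero hP_epi s₀)

lemma Efun_map_succ (k : ℕ) :
    (Efun P hP_zero hP_epi s₀).map (homOfLE (Nat.le_add_right k 1)) = stι P hP_zero hP_epi s₀ k :=
  Functor.ofSequence_map_homOfLE_succ (X := fun k => (st P hP_zero hP_epi s₀ k).E)
    (stι P hP_zero hP_epi s₀) k

noncomputable def αnat : Efun P hP_zero hP_epi s₀ ⟶ (Functor.const ℕ).obj G :=
  NatTrans.ofSequence (F := Efun P hP_zero hP_epi s₀) (G := (Functor.const ℕ).obj G)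
    (fun k => (st P hP_zero hP_epi s₀ k).a) (fun k => by
      rw [Efun_map_succ]
      exact (stι_a P hP_zero hP_epi s₀ k).trans (Category.comp_id _).symm)

lemma homologyMap_coneFunctor_eq_zero (i : ℤ) (k : ℕ) (hk : i + 1 ≤ k) :
    HomologicalComplex.homologyMap
      ((coneFunctor (Efun P hP_zero hP_epi s₀) G (αnat P hP_zero hP_epi s₀)).map
        (homOfLE (Nat.le_add_right k 1))) i = 0 := by
  obtain ⟨n, rfl⟩ : ∃ n, i = n - 1 := ⟨i + 1, by omega⟩
  have h := (sd P hP_zero hP_epi s₀ k).hzero n (by omega)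
  change HomologicalComplex.homologyMap (mappingCone.map (st P hP_zero hP_epi s₀ k).a
    (st P hP_zero hP_epi s₀ (k + 1)).a ((Efun P hP_zero hP_epi s₀).map
      (homOfLE (Nat.le_add_right k 1))) (𝟙 G)
      (by rw [Efun_map_succ, stι_a]; exact comp_id _)) (n - 1) = 0
  exact (congrArg (fun φ => HomologicalComplex.homologyMap φ (n - 1))
    (mappingCone_map_congr _ _ (Efun_map_succ P hP_zero hP_epi s₀ k) _ _)).trans h

end Tower

section Main

variable (F : A ⥤ A ⥤ A) [F.Additive] [∀ X, (F.obj X).Additive]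
  [∀ K L : CochainComplex A ℤ, CochainComplex.HasMapBifunctor K L F]
  [HasCountableCoproducts A] [CountableAB4 A]
  [HasColimitsOfShape ℕ A] [HasExactColimitsOfShape ℕ A]
  [∀ M : A, PreservesColimitsOfShape ℕ (F.obj M)]
  (P : A → Prop) (hP_zero : ∀ X : A, IsZero X → P X)
  (hP_epi : ∀ X : A, ∃ (Y : A) (p : Y ⟶ X), P Y ∧ Epi p)
  (hP_iso : ∀ X Y : A, (X ≅ Y) → P X → P Y)
  (hP_biprod : ∀ X Y : A, P X → P Y → P (X ⊞ Y))
  (hP_flat : ∀ X : A, P X → FlatObj F X)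
  (hP_colim : ∀ D : ℕ ⥤ A, (∀ k, P (D.obj k)) → P (colimit D))
  {G : CochainComplex A ℤ} (s₀ : Stage G)

include hP_flat in
lemma kflat_st (h₀ : KFlat F s₀.E) : ∀ k, KFlat F (st P hP_zero hP_epi s₀ k).E
  | 0 => h₀
  | k + 1 => KFlat.cone (sd P hP_zero hP_epi s₀ k).b
      (kflat_of_boundedAbove (sd P hP_zero hP_epi s₀ k).Q k (sd P hP_zero hP_epi s₀ k).hz
        (fun i _ => hP_flat _ ((sd P hP_zero hP_epi s₀ k).hP i))) (kflat_st h₀ k)

include hP_iso hP_biprod in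
lemma P_st (h₀ : ∀ n, P (s₀.E.X n)) : ∀ (k : ℕ) (n : ℤ), P ((st P hP_zero hP_epi s₀ k).E.X n)
  | 0, n => h₀ n
  | k + 1, n => hP_iso _ _
      (HomologicalComplex.homotopyCofiber.XIsoBiprod (sd P hP_zero hP_epi s₀ k).b n (n + 1) rfl).symm
      (hP_biprod _ _ ((sd P hP_zero hP_epi s₀ k).hP (n + 1)) (P_st h₀ k n))

include hP_zero hP_epi hP_iso hP_biprod hP_flat hP_colim in
/-- **K-flat factorisation**: any map `a₀ : E₀ ⟶ G` factors as `E₀ ⟶ N ⟶ G` with the second map a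
quasi-isomorphism, `N` K-flat (resp. with terms in `P`) if `E₀` is. -/
theorem exists_factorization {E₀ G : CochainComplex A ℤ} (a₀ : E₀ ⟶ G) :
    ∃ (N : CochainComplex A ℤ) (b : E₀ ⟶ N) (c : N ⟶ G), b ≫ c = a₀ ∧ QuasiIso c ∧
      (KFlat F E₀ → KFlat F N) ∧ ((∀ n, P (E₀.X n)) → ∀ n, P (N.X n)) := by
  let s₀ : Stage G := ⟨E₀, a₀⟩
  let E := Efun P hP_zero hP_epi s₀
  let α := αnat P hP_zero hP_epi s₀
  refine ⟨sigJ E, (sigJCocone E).ι.app 0, aInf E G α (sigJCocone E) (isColimitSigJ E),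
    ι_aInf E G α (sigJCocone E) (isColimitSigJ E) 0, ?_, ?_, ?_⟩
  · refine quasiIso_aInf E G α _ _ (fun i => ⟨(i + 1).toNat, fun k hk => ?_⟩)
    refine homologyMap_coneFunctor_eq_zero P hP_zero hP_epi s₀ i k ?_
    have := Int.self_le_toNat (i + 1)
    omega
  · intro h₀
    exact KFlat.of_isColimit F E (sigJCocone E) (isColimitSigJ E)
      (kflat_st F P hP_zero hP_epi hP_flat s₀ h₀)
  · intro h₀ n
    exact hP_colim (E ⋙ HomologicalComplex.eval A (ComplexShape.up ℤ) n)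
      (fun k => P_st P hP_zero hP_epi hP_iso hP_biprod s₀ h₀ k n)

end Main

end Groth.Agent.H4.GK7
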