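import Mathlib
import Groth.Agent.H4.GK7

open CategoryTheory Category Limits HomologicalComplex CochainComplex.HomComplex CochainComplex
  ZeroObject

universe v u

namespace Groth.Agent.H4.GK11

open Groth.Agent.H4.GK1 Groth.Agent.H4.GK2 Groth.Agent.H4.GK3 Groth.Agent.H4.GK4
  Groth.Agent.H4.GK5 Groth.Agent.H4.GK6 Groth.Agent.H4.GK7

variable {A : Type u} [Category.{v} A] [Abelian A]

section Exists

variable (P : A → Prop) (hP_zero : ∀ X : A, IsZero X → P X)
  (hP_epi : ∀ X : A, ∃ (Y : A) (p : Y ⟶ X), P Y ∧ Epi p)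

include hP_zero hP_epi in
/-- one step of the construction, with zero cells where the cone vanishes. -/
theorem exists_step' {E G : CochainComplex A ℤ} (a : E ⟶ G) (m : ℤ) :
    ∃ (Q : CochainComplex A ℤ) (b : Q ⟶ E) (a' : mappingCone b ⟶ G)
      (comm : a ≫ 𝟙 G = mappingCone.inr b ≫ a'),
      (∀ n, P (Q.X n)) ∧ (∀ n, m < n → IsZero (Q.X n)) ∧
      (∀ n, IsZero ((mappingCone a).X (n - 1)) → IsZero (Q.X n)) ∧
      ∀ n, n ≤ m → HomologicalComplex.homologyMap
        (mappingCone.map a a' (mappingCone.inr b) (𝟙 G) comm) (n - 1) = 0 := by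
  classical
  have hex : ∀ n : ℤ, ∃ (Y : A) (p : Y ⟶ (mappingCone a).cycles (n - 1)),
      P Y ∧ (n ≤ m → Epi p) ∧ (m < n → IsZero Y) ∧
        (IsZero ((mappingCone a).X (n - 1)) → IsZero Y) := by
    intro n
    by_cases hz : IsZero ((mappingCone a).X (n - 1))
    · have hcyc : IsZero ((mappingCone a).cycles (n - 1)) :=
        IsZero.of_mono ((mappingCone a).iCycles (n - 1)) hz
      refine ⟨0, 0, hP_zero _ (isZero_zero A), fun _ => ?_, fun _ => isZero_zero A,
        fun _ => isZero_zero A⟩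
      exact ⟨fun _ _ _ => hcyc.eq_of_src _ _⟩
    · by_cases hn : n ≤ m
      · obtain ⟨Y, p, hY, hp⟩ := hP_epi ((mappingCone a).cycles (n - 1))
        exact ⟨Y, p, hY, fun _ => hp, fun h => absurd hn (by omega), fun h => absurd h hz⟩
      · exact ⟨0, 0, hP_zero _ (isZero_zero A), fun h => absurd h hn, fun _ => isZero_zero A,
          fun _ => isZero_zero A⟩
  choose X π hX hπ hz hz' using hex
  refine ⟨Qc X, bmap a X π, a' a X π, by simp, hX, hz, hz', fun n hn => ?_⟩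
  haveI : Epi (show (Qc X).X n ⟶ _ from π n) := hπ n hn
  exact homologyMap_φc_eq_zero a X π n

end Exists

lemma isZero_biprod' (X Y : A) (hX : IsZero X) (hY : IsZero Y) : IsZero (X ⊞ Y) := by
  rw [IsZero.iff_id_eq_zero]
  apply biprod.hom_ext
  · exact hX.eq_of_tgt _ _
  · exact hY.eq_of_tgt _ _

section Tower

variable (P : A → Prop)

/-- the data produced by one step (bounded variant) -/
structure StepDataB {E G : CochainComplex A ℤ} (a : E ⟶ G) (m : ℤ) where
  Q : CochainComplex A ℤ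
  b : Q ⟶ E
  a' : mappingCone b ⟶ G
  comm : a ≫ 𝟙 G = mappingCone.inr b ≫ a'
  hP : ∀ n, P (Q.X n)
  hz : ∀ n, m < n → IsZero (Q.X n)
  hz' : ∀ n, IsZero ((mappingCone a).X (n - 1)) → IsZero (Q.X n)
  hzero : ∀ n, n ≤ m → HomologicalComplex.homologyMap
    (mappingCone.map a a' (mappingCone.inr b) (𝟙 G) comm) (n - 1) = 0

variable (hP_zero : ∀ X : A, IsZero X → P X)
  (hP_epi : ∀ X : A, ∃ (Y : A) (p : Y ⟶ X), P Y ∧ Epi p)

noncomputable def stepDataB {E G : CochainComplex A ℤ} (a : E ⟶ G) (m : ℤ) : StepDataB P a m :=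
  Classical.choice (by
    obtain ⟨Q, b, a', comm, h1, h2, h2', h3⟩ := exists_step' P hP_zero hP_epi a m
    exact ⟨⟨Q, b, a', comm, h1, h2, h2', h3⟩⟩)

variable {G : CochainComplex A ℤ}

noncomputable def nextB (s : Stage G) (m : ℤ) : Stage G :=
  ⟨mappingCone (stepDataB P hP_zero hP_epi s.a m).b, (stepDataB P hP_zero hP_epi s.a m).a'⟩

variable (s₀ : Stage G)

noncomputable def stB : ℕ → Stage G
  | 0 => s₀
  | k + 1 => nextB P hP_zero hP_epi (stB k) (k : ℤ)

noncomputable def sdB (k : ℕ) : StepDataB P (stB P hP_zero hP_epi s₀ k).a (k : ℤ) :=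
  stepDataB P hP_zero hP_epi (stB P hP_zero hP_epi s₀ k).a (k : ℤ)

noncomputable def stιB (k : ℕ) :
    (stB P hP_zero hP_epi s₀ k).E ⟶ (stB P hP_zero hP_epi s₀ (k + 1)).E :=
  mappingCone.inr (sdB P hP_zero hP_epi s₀ k).b

lemma stιB_a (k : ℕ) : stιB P hP_zero hP_epi s₀ k ≫ (stB P hP_zero hP_epi s₀ (k + 1)).a =
    (stB P hP_zero hP_epi s₀ k).a := by
  have := (sdB P hP_zero hP_epi s₀ k).comm
  rw [comp_id] at this
  exact this.symm

/-- the sequence of complexes -/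
noncomputable def EfunB : ℕ ⥤ CochainComplex A ℤ :=
  Functor.ofSequence (X := fun k => (stB P hP_zero hP_epi s₀ k).E) (stιB P hP_zero hP_epi s₀)

lemma EfunB_map_succ (k : ℕ) :
    (EfunB P hP_zero hP_epi s₀).map (homOfLE (Nat.le_add_right k 1)) = stιB P hP_zero hP_epi s₀ k :=
  Functor.ofSequence_map_homOfLE_succ (X := fun k => (stB P hP_zero hP_epi s₀ k).E)
    (stιB P hP_zero hP_epi s₀) k

noncomputable def αnatB : EfunB P hP_zero hP_epi s₀ ⟶ (Functor.const ℕ).obj G :=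
  NatTrans.ofSequence (F := EfunB P hP_zero hP_epi s₀) (G := (Functor.const ℕ).obj G)
    (fun k => (stB P hP_zero hP_epi s₀ k).a) (fun k => by
      rw [EfunB_map_succ]
      exact (stιB_a P hP_zero hP_epi s₀ k).trans (Category.comp_id _).symm)

lemma homologyMap_coneFunctorB_eq_zero (i : ℤ) (k : ℕ) (hk : i + 1 ≤ k) :
    HomologicalComplex.homologyMap
      ((coneFunctor (EfunB P hP_zero hP_epi s₀) G (αnatB P hP_zero hP_epi s₀)).map
        (homOfLE (Nat.le_add_right k 1))) i = 0 := by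
  obtain ⟨n, rfl⟩ : ∃ n, i = n - 1 := ⟨i + 1, by omega⟩
  have h := (sdB P hP_zero hP_epi s₀ k).hzero n (by omega)
  change HomologicalComplex.homologyMap (mappingCone.map (stB P hP_zero hP_epi s₀ k).a
    (stB P hP_zero hP_epi s₀ (k + 1)).a ((EfunB P hP_zero hP_epi s₀).map
      (homOfLE (Nat.le_add_right k 1))) (𝟙 G)
      (by rw [EfunB_map_succ, stιB_a]; exact comp_id _)) (n - 1) = 0
  exact (congrArg (fun φ => HomologicalComplex.homologyMap φ (n - 1))
    (mappingCone_map_congr _ _ (EfunB_map_succ P hP_zero hP_epi s₀ k) _ _)).trans h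

/-- boundedness is preserved along the tower -/
lemma bdd_stB (b : ℤ) (hG : ∀ i, b < i → IsZero (G.X i)) (h₀ : ∀ i, b < i → IsZero (s₀.E.X i)) :
    ∀ (k : ℕ) (i : ℤ), b < i → IsZero ((stB P hP_zero hP_epi s₀ k).E.X i)
  | 0, i, hi => h₀ i hi
  | k + 1, i, hi => by
    have hE := bdd_stB b hG h₀ k
    refine IsZero.of_iso ?_
      (HomologicalComplex.homotopyCofiber.XIsoBiprod (sdB P hP_zero hP_epi s₀ k).b i (i + 1) rfl)
    have h1 : IsZero ((sdB P hP_zero hP_epi s₀ k).Q.X (i + 1)) := by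
      apply (sdB P hP_zero hP_epi s₀ k).hz'
      refine IsZero.of_iso ?_ (HomologicalComplex.homotopyCofiber.XIsoBiprod
        (stB P hP_zero hP_epi s₀ k).a (i + 1 - 1) (i + 1) (by simp))
      exact (isZero_biprod' _ _ (hE _ (by omega)) (hG _ (by omega)))
    exact isZero_biprod' _ _ h1 (hE i hi)

end Tower

section Main

variable (F : A ⥤ A ⥤ A) [F.Additive] [∀ X, (F.obj X).Additive]
  [∀ K L : CochainComplex A ℤ, CochainComplex.HasMapBifunctor K L F]
  [HasCountableCoproducts A] [CountableAB4 A]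
  [HasColimitsOfShape ℕ A] [HasExactColimitsOfShape ℕ A]
  [∀ M : A, PreservesColimitsOfShape ℕ (F.obj M)]
  (P : A → Prop) (hP_zero : ∀ X : A, IsZero X → P X)
  (hP_epi : ∀ X : A, ∃ (Y : A) (p : Y ⟶ X), P Y ∧ Epi p)
  (hP_iso : ∀ X Y : A, (X ≅ Y) → P X → P Y)
  (hP_biprod : ∀ X Y : A, P X → P Y → P (X ⊞ Y))
  (hP_flat : ∀ X : A, P X → FlatObj F X)
  (hP_colim : ∀ D : ℕ ⥤ A, (∀ k, P (D.obj k)) → P (colimit D))
  {G : CochainComplex A ℤ} (s₀ : Stage G)

include hP_flat in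
lemma kflat_stB (h₀ : KFlat F s₀.E) : ∀ k, KFlat F (stB P hP_zero hP_epi s₀ k).E
  | 0 => h₀
  | k + 1 => KFlat.cone (sdB P hP_zero hP_epi s₀ k).b
      (kflat_of_boundedAbove (sdB P hP_zero hP_epi s₀ k).Q k (sdB P hP_zero hP_epi s₀ k).hz
        (fun i _ => hP_flat _ ((sdB P hP_zero hP_epi s₀ k).hP i))) (kflat_stB h₀ k)

include hP_iso hP_biprod in
lemma P_stB (h₀ : ∀ n, P (s₀.E.X n)) : ∀ (k : ℕ) (n : ℤ), P ((stB P hP_zero hP_epi s₀ k).E.X n)
  | 0, n => h₀ n
  | k + 1, n => hP_iso _ _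
      (HomologicalComplex.homotopyCofiber.XIsoBiprod (sdB P hP_zero hP_epi s₀ k).b n (n + 1) rfl).symm
      (hP_biprod _ _ ((sdB P hP_zero hP_epi s₀ k).hP (n + 1)) (P_stB h₀ k n))

include hP_zero hP_epi hP_iso hP_biprod hP_flat hP_colim in
/-- **bounded K-flat factorisation**: as `GK7.exists_factorization`, keeping track of a bound above. -/
theorem exists_factorization_bdd {E₀ G : CochainComplex A ℤ} (a₀ : E₀ ⟶ G) :
    ∃ (N : CochainComplex A ℤ) (b : E₀ ⟶ N) (c : N ⟶ G), b ≫ c = a₀ ∧ QuasiIso c ∧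
      (KFlat F E₀ → KFlat F N) ∧ ((∀ n, P (E₀.X n)) → ∀ n, P (N.X n)) ∧
      ∀ m : ℤ, (∀ i, m < i → IsZero (G.X i)) → (∀ i, m < i → IsZero (E₀.X i)) →
        ∀ i, m < i → IsZero (N.X i) := by
  let s₀ : Stage G := ⟨E₀, a₀⟩
  let E := EfunB P hP_zero hP_epi s₀
  let α := αnatB P hP_zero hP_epi s₀
  refine ⟨sigJ E, (sigJCocone E).ι.app 0, aInf E G α (sigJCocone E) (isColimitSigJ E),
    ι_aInf E G α (sigJCocone E) (isColimitSigJ E) 0, ?_, ?_, ?_, ?_⟩
  · refine quasiIso_aInf E G α _ _ (fun i => ⟨(i + 1).toNat, fun k hk => ?_⟩)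
    refine homologyMap_coneFunctorB_eq_zero P hP_zero hP_epi s₀ i k ?_
    have := Int.self_le_toNat (i + 1)
    omega
  · intro h₀
    exact KFlat.of_isColimit F E (sigJCocone E) (isColimitSigJ E)
      (kflat_stB F P hP_zero hP_epi hP_flat s₀ h₀)
  · intro h₀ n
    exact hP_colim (E ⋙ HomologicalComplex.eval A (ComplexShape.up ℤ) n)
      (fun k => P_stB P hP_zero hP_epi hP_iso hP_biprod s₀ h₀ k n)
  · intro m hG hE₀ i hi
    refine isZero_colimit_of_eventually_zero (E ⋙ HomologicalComplex.eval A (ComplexShape.up ℤ) i) 0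
      (fun k _ => ?_)
    exact (bdd_stB P hP_zero hP_epi s₀ m hG hE₀ k i hi).eq_of_src _ _

include hP_zero hP_epi hP_iso hP_biprod hP_flat hP_colim in
/-- bounded above complexes have bounded above resolutions with terms in `P`. -/
theorem exists_bddAbove_resolution (G : CochainComplex A ℤ) (m : ℤ)
    (hG : ∀ i, m < i → IsZero (G.X i)) :
    ∃ (K : CochainComplex A ℤ) (q : K ⟶ G), KFlat F K ∧ (∀ n, P (K.X n)) ∧ QuasiIso q ∧
      ∀ i, m < i → IsZero (K.X i) := by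
  obtain ⟨N, -, c, -, hc, -, h2, h3⟩ := exists_factorization_bdd F P hP_zero hP_epi hP_iso hP_biprod
    hP_flat hP_colim (0 : (0 : CochainComplex A ℤ) ⟶ G)
  have hz : ∀ n, IsZero ((0 : CochainComplex A ℤ).X n) := fun n =>
    (HomologicalComplex.eval A (ComplexShape.up ℤ) n).map_isZero (isZero_zero _)
  have hN := h3 m hG (fun i _ => hz i)
  have hPN := h2 (fun n => hP_zero _ (hz n))
  exact ⟨N, c, kflat_of_boundedAbove N m hN (fun i _ => hP_flat _ (hPN i)), hPN, hc, hN⟩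

end Main

end Groth.Agent.H4.GK11
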