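import Mathlib
import Groth.Agent.H4.GK7

open CategoryTheory Category Limits HomologicalComplex CochainComplex.HomComplex CochainComplex
  ZeroObject

universe v u

namespace Groth.Agent.H4.GK8

open Groth.Agent.H4.GK1 Groth.Agent.H4.GK2 Groth.Agent.H4.GK3 Groth.Agent.H4.GK4
  Groth.Agent.H4.GK5 Groth.Agent.H4.GK6 Groth.Agent.H4.GK7

variable {A : Type u} [Category.{v} A] [Abelian A]

lemma acyc_of_contractible (X : CochainComplex A ℤ) (h : Homotopy (𝟙 X) 0) : Acyc X := by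
  intro n
  rw [IsZero.iff_id_eq_zero, ← HomologicalComplex.homologyMap_id, h.homologyMap_eq,
    HomologicalComplex.homologyMap_zero]

section

variable (F : A ⥤ A ⥤ A) [F.Additive] [∀ X, (F.obj X).Additive]
  [∀ K L : CochainComplex A ℤ, CochainComplex.HasMapBifunctor K L F]

/-- contractible complexes are K-flat -/
lemma kflat_of_contractible (D : CochainComplex A ℤ) (h : Homotopy (𝟙 D) 0) : KFlat F D := by
  intro L _
  apply acyc_of_contractible
  have h1 := HomologicalComplex.mapBifunctorMapHomotopy₂ (𝟙 L) h F (ComplexShape.up ℤ)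
  refine (Homotopy.ofEq ?_).trans (h1.trans (Homotopy.ofEq ?_))
  · exact (Groth.Agent.H4.TC2.mapBifunctorMap_id F L D).symm
  · ext n p q hpq
    simp

end

section Cover

variable (P : A → Prop) (hP_epi : ∀ X : A, ∃ (Y : A) (p : Y ⟶ X), P Y ∧ Epi p)
  (hP_iso : ∀ X Y : A, (X ≅ Y) → P X → P Y)
  (hP_biprod : ∀ X Y : A, P X → P Y → P (X ⊞ Y))

include hP_epi hP_iso hP_biprod in
/-- every complex is the target of a termwise epimorphism from a contractible complex with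
terms in `P`. -/
theorem exists_contractible_cover (G : CochainComplex A ℤ) :
    ∃ (D : CochainComplex A ℤ) (p : D ⟶ G), Nonempty (Homotopy (𝟙 D) 0) ∧ (∀ n, Epi (p.f n)) ∧
      ∀ n, P (D.X n) := by
  have hex : ∀ n : ℤ, ∃ (Y : A) (p : Y ⟶ G.X (n - 1)), P Y ∧ Epi p := fun n => hP_epi _
  choose Y p hY hp using hex
  let C₀ := Qc Y
  let α : Cochain C₀ G (-1) :=
    Cochain.mk (fun i j hij => (p i : C₀.X i ⟶ G.X (i - 1)) ≫
      (G.XIsoOfEq (by omega : i - 1 = j)).hom)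
  let β : C₀ ⟶ G := Cocycle.homOf (Cocycle.mk (δ (-1) 0 α) 1 (zero_add 1) (δ_δ _ _ _ _))
  have hβ : δ (-1) 0 α = Cochain.ofHom (𝟙 C₀ ≫ β) := by simp [β]
  refine ⟨mappingCone (𝟙 C₀), mappingCone.desc (𝟙 C₀) α β hβ,
    ⟨mappingCone.homotopyToZeroOfId _⟩, fun n => ?_, fun n => ?_⟩
  · have hn : n + 1 + (-1) = n := by omega
    have h := mappingCone.inl_v_desc_f (𝟙 C₀) α β hβ (n + 1) n hn
    have : Epi (α.v (n + 1) n hn) := by
      haveI := hp (n + 1)
      change Epi ((p (n + 1) : C₀.X (n + 1) ⟶ G.X (n + 1 - 1)) ≫ (G.XIsoOfEq _).hom)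
      infer_instance
    rw [← h] at this
    exact epi_of_epi ((mappingCone.inl (𝟙 C₀)).v (n + 1) n hn) _
  · exact hP_iso _ _
      (HomologicalComplex.homotopyCofiber.XIsoBiprod (𝟙 C₀) n (n + 1) rfl).symm
      (hP_biprod _ _ (hY (n + 1)) (hY n))

end Cover

section Resolution

variable (F : A ⥤ A ⥤ A) [F.Additive] [∀ X, (F.obj X).Additive]
  [∀ K L : CochainComplex A ℤ, CochainComplex.HasMapBifunctor K L F]
  [HasCountableCoproducts A] [CountableAB4 A]
  [HasColimitsOfShape ℕ A] [HasExactColimitsOfShape ℕ A]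
  [∀ M : A, PreservesColimitsOfShape ℕ (F.obj M)]
  (P : A → Prop) (hP_zero : ∀ X : A, IsZero X → P X)
  (hP_epi : ∀ X : A, ∃ (Y : A) (p : Y ⟶ X), P Y ∧ Epi p)
  (hP_iso : ∀ X Y : A, (X ≅ Y) → P X → P Y)
  (hP_biprod : ∀ X Y : A, P X → P Y → P (X ⊞ Y))
  (hP_flat : ∀ X : A, P X → FlatObj F X)
  (hP_colim : ∀ D : ℕ ⥤ A, (∀ k, P (D.obj k)) → P (colimit D))

include hP_zero hP_epi hP_iso hP_biprod hP_flat hP_colim in
/-- **K-flat resolutions** with terms in `P`, termwise epimorphic. -/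
theorem exists_kflat_resolution (G : CochainComplex A ℤ) :
    ∃ (K : CochainComplex A ℤ) (q : K ⟶ G), KFlat F K ∧ (∀ n, P (K.X n)) ∧ QuasiIso q ∧
      ∀ n, Epi (q.f n) := by
  obtain ⟨D, p, ⟨hD⟩, hp, hPD⟩ := exists_contractible_cover P hP_epi hP_iso hP_biprod G
  obtain ⟨N, b, c, hbc, hc, h1, h2⟩ := exists_factorization F P hP_zero hP_epi hP_iso hP_biprod
    hP_flat hP_colim p
  refine ⟨N, c, h1 (kflat_of_contractible F D hD), h2 hPD, hc, fun n => ?_⟩
  haveI := hp n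
  have : Epi (b.f n ≫ c.f n) := by
    rw [← HomologicalComplex.comp_f, hbc]
    infer_instance
  exact epi_of_epi (b.f n) (c.f n)

end Resolution

end Groth.Agent.H4.GK8
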