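import Mathlib
import Groth.Prelude.Def_KFlatSite
import Groth.Agent.H4.GK2
import Groth.Agent.Lib.Lead.MS.Flat3
import Groth.Agent.Lib.Helper1.SheafOfModulesGrothendieck

set_option autoImplicit false
universe u
open CategoryTheory CategoryTheory.Limits Opposite
attribute [local instance] HasDerivedCategory.standard
open Groth.Agent.H4.GK1 Groth.Agent.H4.GK2 Groth.Agent.LD.MS

namespace Groth.Agent.H4.GKS1

variable {C : Type u} [SmallCategory C] {J : GrothendieckTopology C} (O : Sheaf J CommRingCat.{u})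

lemma countableAB4_mod : CountableAB4 (ModSite.Mod O) := by
  haveI := Groth.Agent.H1.sheafOfModules_isGrothendieckAbelian J (ModSite.ringSh O)
  haveI : AB4OfSize.{u} (ModSite.Mod O) :=
    IsGrothendieckAbelian.ab4OfSize.{u} (C := SheafOfModules.{u} (ModSite.ringSh O))
  haveI : AB4OfSize.{0} (ModSite.Mod O) := AB4OfSize_shrink.{0, u} (ModSite.Mod O)
  infer_instance

theorem S9057
    (S : ShortComplex (CochainComplex (ModSite.Mod O) ℤ)) (hS : S.ShortExact)
    (h3 : ∀ n : ℤ, ModSite.IsFlat (S.X₃.X n)) :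
    (ModSite.IsKFlat S.X₁ → ModSite.IsKFlat S.X₂ → ModSite.IsKFlat S.X₃) ∧
    (ModSite.IsKFlat S.X₁ → ModSite.IsKFlat S.X₃ → ModSite.IsKFlat S.X₂) ∧
    (ModSite.IsKFlat S.X₂ → ModSite.IsKFlat S.X₃ → ModSite.IsKFlat S.X₁) := by
  haveI := countableAB4_mod O
  exact kflat_two_out_of_three (ModSite.tensorBi O) S (fun M q =>
    shortExact_map_obj_of_flat (S.map (HomologicalComplex.eval _ _ q))
      (hS.map_of_exact (HomologicalComplex.eval _ _ q)) (h3 q) M)

end Groth.Agent.H4.GKS1
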