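import Mathlib
import Groth.Prelude.Def_KFlatSite
import Groth.Agent.H4.GK3
import Groth.Agent.H4.GKS1
import Groth.Agent.Lib.Lead.MS.TensorColim

set_option autoImplicit false
universe u
open CategoryTheory CategoryTheory.Limits Opposite
attribute [local instance] HasDerivedCategory.standard
open Groth.Agent.H4.GK1 Groth.Agent.H4.GK2 Groth.Agent.H4.GK3 Groth.Agent.LD.MS

namespace Groth.Agent.H4.GKS2

variable {C : Type u} [SmallCategory C] {J : GrothendieckTopology C} (O : Sheaf J CommRingCat.{u})

lemma ab5_mod : AB5OfSize.{u, u} (ModSite.Mod O) := by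
  haveI := Groth.Agent.H1.sheafOfModules_isGrothendieckAbelian J (ModSite.ringSh O)
  exact IsGrothendieckAbelian.ab5OfSize.{u} (C := SheafOfModules.{u} (ModSite.ringSh O))

lemma hasExactColimitsOfShape_mod (K : Type) [SmallCategory K] [IsFiltered K] :
    HasExactColimitsOfShape K (ModSite.Mod O) := by
  haveI := ab5_mod O
  haveI : AB5OfSize.{0, 0} (ModSite.Mod O) := AB5OfSize_shrink.{0, 0, u, u} (ModSite.Mod O)
  exact AB5OfSize.ofShape K

theorem S9059
    (K : ℕ ⥤ CochainComplex (ModSite.Mod O) ℤ) (hK : ∀ n : ℕ, ModSite.IsKFlat (K.obj n)) :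
    ModSite.IsKFlat (colimit K) := by
  haveI := hasExactColimitsOfShape_mod O ℕ
  haveI : ∀ M : ModSite.Mod O, PreservesColimitsOfShape ℕ ((ModSite.tensorBi O).obj M) := fun M => by
    haveI : PreservesColimitsOfSize.{0, 0} ((ModSite.tensorBi O).obj M) :=
      preservesColimitsOfSize_shrink.{0, u, 0, u} _
    infer_instance
  exact KFlat.of_isColimit (ModSite.tensorBi O) K (colimit.cocone K) (colimit.isColimit K) hK

end Groth.Agent.H4.GKS2
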