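import Mathlib
import Groth.Prelude.Def_KFlatSite
import Groth.Agent.H4.GK4
import Groth.Agent.H4.GKS2

set_option autoImplicit false
universe u
open CategoryTheory CategoryTheory.Limits Opposite
attribute [local instance] HasDerivedCategory.standard
open Groth.Agent.H4.GK1 Groth.Agent.H4.GK2 Groth.Agent.H4.GK3 Groth.Agent.H4.GK4 Groth.Agent.LD.MS
  Groth.Agent.H4.GKS1 Groth.Agent.H4.GKS2

namespace Groth.Agent.H4.GKS3

variable {C : Type u} [SmallCategory C] {J : GrothendieckTopology C} (O : Sheaf J CommRingCat.{u})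

lemma preservesColimitsOfShape_nat_tensorBi (M : ModSite.Mod O) :
    PreservesColimitsOfShape ℕ ((ModSite.tensorBi O).obj M) := by
  haveI : PreservesColimitsOfSize.{0, 0} ((ModSite.tensorBi O).obj M) :=
    preservesColimitsOfSize_shrink.{0, u, 0, u} _
  infer_instance

theorem S9058
    (K : CochainComplex (ModSite.Mod O) ℤ) (b : ℤ) (hb : K.IsStrictlyLE b)
    (hflat : ∀ n : ℤ, ModSite.IsFlat (K.X n)) : ModSite.IsKFlat K := by
  haveI := countableAB4_mod O
  haveI := hasExactColimitsOfShape_mod O ℕ
  haveI := preservesColimitsOfShape_nat_tensorBi O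
  exact kflat_of_boundedAbove (F := ModSite.tensorBi O) K b (fun i hi => K.isZero_of_isStrictlyLE b i hi)
    (fun i _ => hflat i)

end Groth.Agent.H4.GKS3
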