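import Mathlib
import Groth.Prelude.Def_KFlatSite
import Groth.Agent.H4.GK8
import Groth.Agent.H4.GKS3
import Groth.Agent.Lib.Lead.MS.Flat3

set_option autoImplicit false
universe u
open CategoryTheory CategoryTheory.Limits Opposite
attribute [local instance] HasDerivedCategory.standard
open Groth.Agent.H4.GK1 Groth.Agent.H4.GK2 Groth.Agent.H4.GK3 Groth.Agent.H4.GK4 Groth.Agent.LD.MS
  Groth.Agent.H4.GKS1 Groth.Agent.H4.GKS2 Groth.Agent.H4.GKS3 Groth.Agent.H4.GK7 Groth.Agent.H4.GK8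

namespace Groth.Agent.H4.GKS5

variable {C : Type u} [SmallCategory C] {J : GrothendieckTopology C} (O : Sheaf J CommRingCat.{u})

lemma isFlat_of_isZero (X : ModSite.Mod O) (hX : IsZero X) : ModSite.IsFlat X := by
  rw [isFlat_iff_preservesMono]
  constructor
  intro G' G m hm
  have h : IsZero (((ModSite.tensorBi O).flip.obj X).obj G') :=
    ((ModSite.tensorBi O).obj G').map_isZero hX
  exact ⟨fun a b _ => h.eq_of_tgt a b⟩

lemma isFlat_biprod (X Y : ModSite.Mod O) (hX : ModSite.IsFlat X) (hY : ModSite.IsFlat Y) :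
    ModSite.IsFlat (X ⊞ Y) := by
  let S : ShortComplex (ModSite.Mod O) := ShortComplex.mk (biprod.inl : X ⟶ X ⊞ Y) biprod.snd (by simp)
  have hS : S.ShortExact := by
    refine (ShortComplex.Splitting.mk (biprod.fst : X ⊞ Y ⟶ X) (biprod.inr : Y ⟶ X ⊞ Y) ?_ ?_ ?_).shortExact
    · simp [S]
    · simp [S]
    · simp [S]
  exact isFlat_X₂ S hS hX hY

lemma isFlat_colimit_nat (D : ℕ ⥤ ModSite.Mod O) (hD : ∀ k, ModSite.IsFlat (D.obj k)) :
    ModSite.IsFlat (colimit D) := by
  haveI := hasExactColimitsOfShape_mod O ℕ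
  haveI := preservesColimitsOfShape_nat_tensorBi O
  rw [isFlat_iff_preservesMono]
  constructor
  intro G' G m hm
  have h1 : ∀ k, Mono ((Functor.whiskerLeft D ((ModSite.tensorBi O).map m)).app k) := fun k => by
    have := preservesMono_flip_of_isFlat (hD k)
    exact ((ModSite.tensorBi O).flip.obj (D.obj k)).map_mono m
  have : Mono (Functor.whiskerLeft D ((ModSite.tensorBi O).map m)) := NatTrans.mono_of_mono_app _
  exact colim.map_mono' (Functor.whiskerLeft D ((ModSite.tensorBi O).map m))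
    (isColimitOfPreserves ((ModSite.tensorBi O).obj G') (colimit.isColimit D))
    (isColimitOfPreserves ((ModSite.tensorBi O).obj G) (colimit.isColimit D)) _
    (fun k => ((ModSite.tensorBi O).map m).naturality (colimit.ι D k))

/-- **S9061** (strict factorisation) -/
theorem exists_factorization_site {K L : CochainComplex (ModSite.Mod O) ℤ} (a : K ⟶ L) :
    ∃ (N : CochainComplex (ModSite.Mod O) ℤ) (b : K ⟶ N) (c : N ⟶ L), b ≫ c = a ∧ QuasiIso c ∧
      (ModSite.IsKFlat K → ModSite.IsKFlat N) ∧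
      ((∀ n : ℤ, ModSite.IsFlat (K.X n)) → ∀ n : ℤ, ModSite.IsFlat (N.X n)) := by
  haveI := countableAB4_mod O
  haveI := hasExactColimitsOfShape_mod O ℕ
  haveI := preservesColimitsOfShape_nat_tensorBi O
  exact exists_factorization (ModSite.tensorBi O) (fun M => ModSite.IsFlat M)
    (isFlat_of_isZero O) (exists_flat_epi (O := O))
    (fun X Y e h => FlatObj.of_iso (F := ModSite.tensorBi O) e h) (isFlat_biprod O)
    (fun X h => h) (isFlat_colimit_nat O) a

theorem S9061 {K L : CochainComplex (ModSite.Mod O) ℤ} (a : K ⟶ L) (hK : ModSite.IsKFlat K) :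
    ∃ (N : CochainComplex (ModSite.Mod O) ℤ) (b : K ⟶ N) (c : N ⟶ L), ModSite.IsKFlat N ∧ QuasiIso c ∧
      Nonempty (Homotopy a (b ≫ c)) ∧
      ((∀ n : ℤ, ModSite.IsFlat (K.X n)) → ∀ n : ℤ, ModSite.IsFlat (N.X n)) := by
  obtain ⟨N, b, c, hbc, hc, h1, h2⟩ := exists_factorization_site O a
  exact ⟨N, b, c, h1 hK, hc, ⟨Homotopy.ofEq hbc.symm⟩, h2⟩

theorem S9060 (G : CochainComplex (ModSite.Mod O) ℤ) :
    ∃ (K : CochainComplex (ModSite.Mod O) ℤ) (q : K ⟶ G), ModSite.IsKFlat K ∧
      (∀ n : ℤ, ModSite.IsFlat (K.X n)) ∧ QuasiIso q ∧ ∀ n : ℤ, Epi (q.f n) := by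
  haveI := countableAB4_mod O
  haveI := hasExactColimitsOfShape_mod O ℕ
  haveI := preservesColimitsOfShape_nat_tensorBi O
  exact exists_kflat_resolution (ModSite.tensorBi O) (fun M => ModSite.IsFlat M)
    (isFlat_of_isZero O) (exists_flat_epi (O := O))
    (fun X Y e h => FlatObj.of_iso (F := ModSite.tensorBi O) e h) (isFlat_biprod O)
    (fun X h => h) (isFlat_colimit_nat O) G

end Groth.Agent.H4.GKS5
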