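import Mathlib
import Groth.Agent.Lib.Lead.MS.TensorLoc

open CategoryTheory CategoryTheory.Limits TopologicalSpace Opposite TopCat MonoidalCategory TensorProduct
open Groth.Agent.LD.MS

universe v u

namespace Groth.Agent.H4.SFlat1


/-- equational criterion of flatness for finitely many simultaneous relations -/
lemma flat_multi_relation {A P : Type*} [CommRing A] [AddCommGroup P] [Module A P]
    [Module.Flat A P] {r l : ℕ} (β : Fin r → Fin l → A) (ζ : Fin l → P)
    (h : ∀ i, ∑ j, β i j • ζ j = 0) :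
    ∃ (k : ℕ) (c : Fin l → Fin k → A) (y : Fin k → P),
      (∀ j, ζ j = ∑ κ, c j κ • y κ) ∧ ∀ i κ, ∑ j, β i j * c j κ = 0 := by
  classical
  let f : (Fin r →₀ A) →ₗ[A] (Fin l →₀ A) :=
    Finsupp.linearCombination A (fun i => Finsupp.equivFunOnFinite.symm (β i))
  let x : (Fin l →₀ A) →ₗ[A] P := Finsupp.linearCombination A ζ
  have hxf : x ∘ₗ f = 0 := by
    apply Finsupp.lhom_ext'
    intro i
    ext
    simp only [LinearMap.coe_comp, Function.comp_apply, Finsupp.lsingle_apply, LinearMap.zero_apply,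
      f, x, Finsupp.linearCombination_single, one_smul]
    rw [Finsupp.linearCombination_apply, Finsupp.sum_fintype]
    · exact h i
    · intro j
      exact zero_smul _ _
  obtain ⟨k, a, y, hya, haf⟩ := Module.Flat.exists_factorization_of_comp_eq_zero_of_free hxf
  refine ⟨k, fun j κ => a (Finsupp.single j 1) κ, fun κ => y (Finsupp.single κ 1), ?_, ?_⟩
  · intro j
    have h1 : ζ j = x (Finsupp.single j 1) := by
      simp [x, Finsupp.linearCombination_single]
    rw [h1, hya, LinearMap.comp_apply]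
    conv_lhs => rw [← Finsupp.sum_single (a (Finsupp.single j 1))]
    rw [Finsupp.sum_fintype _ _ (fun κ => by simp), map_sum]
    refine Finset.sum_congr rfl (fun κ _ => ?_)
    rw [← map_smul, Finsupp.smul_single, smul_eq_mul, mul_one]
  · intro i κ
    have h1 : a (f (Finsupp.single i 1)) = 0 := by
      rw [← LinearMap.comp_apply, haf, LinearMap.zero_apply]
    have h2 : f (Finsupp.single i 1) = ∑ j, β i j • Finsupp.single j (1 : A) := by
      simp only [f, Finsupp.linearCombination_single, one_smul]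
      ext j'
      simp [Finsupp.single_apply]
    rw [h2, map_sum] at h1
    have h3 := DFunLike.congr_fun h1 κ
    simp only [map_smul, Finsupp.coe_finset_sum, Finsupp.coe_smul, Finset.sum_apply, Pi.smul_apply,
      smul_eq_mul, Finsupp.coe_zero, Pi.zero_apply] at h3
    exact h3



lemma tensor_vanish {A : Type*} [CommRing A] {M M' N : Type*} [AddCommGroup M] [Module A M]
    [AddCommGroup M'] [Module A M'] [AddCommGroup N] [Module A N]
    (f : M →ₗ[A] M') (hf : Function.Injective f) {k r l k' : ℕ}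
    (m : Fin k → M) (n : Fin k → N) (q : Fin r → M') (z : Fin l → N)
    (a : Fin k → Fin l → A) (b : Fin r → Fin l → A) (c : Fin l → Fin k' → A) (y : Fin k' → N)
    (hn : ∀ i, n i = ∑ j, a i j • z j)
    (hrel : ∀ j, ∑ i, a i j • f (m i) + ∑ i, b i j • q i = 0)
    (hz : ∀ j, z j = ∑ κ, c j κ • y κ) (hbc : ∀ i κ, ∑ j, b i j * c j κ = 0) :
    ∑ i, m i ⊗ₜ[A] n i = 0 := by
  have hw : ∀ κ, ∑ i, ∑ j, (a i j * c j κ) • m i = 0 := by
    intro κ
    apply hf
    rw [map_zero, map_sum]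
    simp only [map_sum, map_smul]
    rw [Finset.sum_comm]
    have h1 : ∀ j, ∑ i, (a i j * c j κ) • f (m i) = c j κ • ∑ i, a i j • f (m i) := by
      intro j
      rw [Finset.smul_sum]
      exact Finset.sum_congr rfl (fun i _ => by rw [smul_smul, mul_comm])
    simp only [h1]
    have h2 : ∀ j, ∑ i, a i j • f (m i) = - ∑ i, b i j • q i :=
      fun j => eq_neg_of_add_eq_zero_left (hrel j)
    simp only [h2, smul_neg, Finset.sum_neg_distrib, neg_eq_zero]
    simp only [Finset.smul_sum, smul_smul]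
    rw [Finset.sum_comm]
    have h3 : ∀ i, ∑ j, (c j κ * b i j) • q i = (∑ j, b i j * c j κ) • q i := by
      intro i
      rw [Finset.sum_smul]
      exact Finset.sum_congr rfl (fun j _ => by rw [mul_comm])
    simp only [h3, hbc, zero_smul, Finset.sum_const_zero]
  have key : ∑ i, m i ⊗ₜ[A] n i = ∑ κ, (∑ i, ∑ j, (a i j * c j κ) • m i) ⊗ₜ[A] y κ := by
    simp only [hn, hz, tmul_sum, sum_tmul, tmul_smul, smul_tmul', Finset.smul_sum, smul_smul]
    rw [Finset.sum_comm (γ := Fin k')]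
    refine Finset.sum_congr rfl (fun i _ => ?_)
    rw [Finset.sum_comm (γ := Fin k')]
  rw [key]
  simp only [hw, zero_tmul, Finset.sum_const_zero]



section Germs

variable {C : Type u} [Category.{v} C] [HasColimits.{v} C] {X : TopCat.{v}}
variable {FC : C → C → Type*} {CC : C → Type v} [∀ X Y, FunLike (FC X Y) (CC X) (CC Y)]
variable [instCC : ConcreteCategory.{v} C FC] [PreservesFilteredColimits (forget C)]

/-- finitely many germs have representatives on a common neighbourhood -/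
lemma exists_nbhd_rep (F : X.Presheaf C) (x : X) (U : Opens X) (hx : x ∈ U) {ι : Type*} [Fintype ι]
    (g : ι → ToType (F.stalk x)) :
    ∃ (V : Opens X) (_ : V ≤ U) (hxV : x ∈ V) (s : ι → ToType (F.obj (op V))),
      ∀ i, F.germ V x hxV (s i) = g i := by
  classical
  choose W hW hxW s hs using fun i => F.exists_le_germ_eq (g i) hx
  have hxV₀ : x ∈ (Finset.univ.inf W) ⊓ U := by
    rw [← SetLike.mem_coe, TopologicalSpace.Opens.coe_inf, TopologicalSpace.Opens.coe_finset_inf]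
    exact ⟨by simpa using fun i ↦ hxW i, hx⟩
  have hV₀W : ∀ i, (Finset.univ.inf W) ⊓ U ≤ W i :=
    fun i ↦ inf_le_left.trans (Finset.inf_le (Finset.mem_univ i))
  refine ⟨(Finset.univ.inf W) ⊓ U, inf_le_right, hxV₀,
    fun i => F.map (homOfLE (hV₀W i)).op (s i), fun i => ?_⟩
  rw [TopCat.Presheaf.germ_res_apply]
  exact hs i

/-- finitely many equalities of germs hold on a common neighbourhood -/
lemma exists_nbhd_eq (F : X.Presheaf C) (x : X) (V₀ : Opens X) (hx : x ∈ V₀) {ι : Type*} [Fintype ι]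
    (s t : ι → ToType (F.obj (op V₀)))
    (h : ∀ i, F.germ V₀ x hx (s i) = F.germ V₀ x hx (t i)) :
    ∃ (W : Opens X) (hW : W ≤ V₀), x ∈ W ∧
      ∀ i, F.map (homOfLE hW).op (s i) = F.map (homOfLE hW).op (t i) := by
  classical
  choose W hxW iU iV hW using fun i => F.germ_eq x hx hx (s i) (t i) (h i)
  have hxV : x ∈ (Finset.univ.inf W) ⊓ V₀ := by
    rw [← SetLike.mem_coe, TopologicalSpace.Opens.coe_inf, TopologicalSpace.Opens.coe_finset_inf]
    exact ⟨by simpa using fun i ↦ hxW i, hx⟩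
  have hVW : ∀ i, (Finset.univ.inf W) ⊓ V₀ ≤ W i :=
    fun i ↦ inf_le_left.trans (Finset.inf_le (Finset.mem_univ i))
  refine ⟨(Finset.univ.inf W) ⊓ V₀, inf_le_right, hxV, fun i => ?_⟩
  have h1 : (homOfLE (inf_le_right : (Finset.univ.inf W) ⊓ V₀ ≤ V₀)).op =
      (iU i).op ≫ (homOfLE (hVW i)).op := Subsingleton.elim _ _
  have h2 : (homOfLE (inf_le_right : (Finset.univ.inf W) ⊓ V₀ ≤ V₀)).op =
      (iV i).op ≫ (homOfLE (hVW i)).op := Subsingleton.elim _ _
  conv_lhs => rw [h1]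
  conv_rhs => rw [h2]
  rw [F.map_comp, F.map_comp, ConcreteCategory.comp_apply, ConcreteCategory.comp_apply, hW i]

end Germs




section Loc

variable {X : TopCat.{u}} {R : X.Presheaf CommRingCat.{u}}
  (N : PresheafOfModules.{u} (R ⋙ forget₂ CommRingCat.{u} RingCat.{u}))

/-- germ of a section of a presheaf of modules -/
noncomputable def gm (x : X) (U : Opens X) (hx : x ∈ U) (n : N.obj (op U)) :
    ↑(TopCat.Presheaf.stalk N.presheaf x) :=
  TopCat.Presheaf.germ N.presheaf U x hx n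

lemma gm_add (x : X) (U : Opens X) (hx : x ∈ U) (n n' : N.obj (op U)) :
    gm N x U hx (n + n') = gm N x U hx n + gm N x U hx n' :=
  map_add (TopCat.Presheaf.germ N.presheaf U x hx).hom n n'

lemma gm_zero (x : X) (U : Opens X) (hx : x ∈ U) : gm N x U hx 0 = 0 :=
  map_zero (TopCat.Presheaf.germ N.presheaf U x hx).hom

lemma gm_sum (x : X) (U : Opens X) (hx : x ∈ U) {ι : Type*} (s : Finset ι) (n : ι → N.obj (op U)) :
    gm N x U hx (∑ i ∈ s, n i) = ∑ i ∈ s, gm N x U hx (n i) :=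
  map_sum (TopCat.Presheaf.germ N.presheaf U x hx).hom n s

lemma gm_smul (x : X) (U : Opens X) (hx : x ∈ U) (r : R.obj (op U)) (n : N.obj (op U)) :
    gm N x U hx (r • n) = (R.germ U x hx r : R.stalk x) • gm N x U hx n :=
  PresheafOfModules.germ_smul N x U hx r n

lemma gm_res (x : X) {U V : Opens X} (h : V ≤ U) (hx : x ∈ V) (n : N.obj (op U)) :
    gm N x V hx (res N (homOfLE h).op n) = gm N x U (h hx) n :=
  TopCat.Presheaf.germ_res_apply N.presheaf (homOfLE h) x hx n

lemma res_res {U V W : Opens X} (h₁ : V ≤ U) (h₂ : W ≤ V) (n : N.obj (op U)) :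
    res N (homOfLE h₂).op (res N (homOfLE h₁).op n) = res N (homOfLE (h₂.trans h₁)).op n := by
  rw [← res_comp]
  rfl

/-- restriction of sections of the structure presheaf -/
noncomputable def rr {U V : Opens X} (h : V ≤ U) (a : R.obj (op U)) : R.obj (op V) :=
  R.map (homOfLE h).op a

lemma rr_rr {U V W : Opens X} (h₁ : V ≤ U) (h₂ : W ≤ V) (a : R.obj (op U)) :
    rr h₂ (rr h₁ a) = rr (h₂.trans h₁) a := by
  unfold rr
  rw [← ConcreteCategory.comp_apply, ← R.map_comp]
  rfl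

lemma rr_mul {U V : Opens X} (h : V ≤ U) (a a' : R.obj (op U)) :
    rr h (a * a') = rr h a * rr h a' := map_mul (R.map (homOfLE h).op).hom a a'

lemma rr_zero {U V : Opens X} (h : V ≤ U) : rr h (0 : R.obj (op U)) = 0 :=
  map_zero (R.map (homOfLE h).op).hom

lemma rr_sum {U V : Opens X} (h : V ≤ U) {ι : Type*} (s : Finset ι) (a : ι → R.obj (op U)) :
    rr h (∑ i ∈ s, a i) = ∑ i ∈ s, rr h (a i) := map_sum (R.map (homOfLE h).op).hom a s

lemma res_smul' {U V : Opens X} (h : V ≤ U) (a : R.obj (op U)) (n : N.obj (op U)) :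
    res N (homOfLE h).op (a • n) = rr h a • res N (homOfLE h).op n :=
  res_smul N (homOfLE h).op a n

lemma germ_rr (x : X) {U V : Opens X} (h : V ≤ U) (hx : x ∈ V) (a : R.obj (op U)) :
    TopCat.Presheaf.germ R V x hx (rr h a) = TopCat.Presheaf.germ R U x (h hx) a :=
  TopCat.Presheaf.germ_res_apply R (homOfLE h) x hx a

/-- local form of the equational criterion of flatness at a point with flat stalk -/
lemma local_criterion (x : X)
    (hfl : Module.Flat ↑(TopCat.Presheaf.stalk R x) ↑(TopCat.Presheaf.stalk N.presheaf x))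
    (U : Opens X) (hx : x ∈ U) {r l : ℕ} (b : Fin r → Fin l → R.obj (op U))
    (z : Fin l → N.obj (op U)) (h : ∀ i, ∑ j, b i j • z j = 0) :
    ∃ (V : Opens X) (hV : V ≤ U) (_ : x ∈ V) (k : ℕ) (c : Fin l → Fin k → R.obj (op V))
      (y : Fin k → N.obj (op V)),
      (∀ j, res N (homOfLE hV).op (z j) = ∑ κ, c j κ • y κ) ∧
        ∀ i κ, ∑ j, rr hV (b i j) * c j κ = 0 := by
  have h' : ∀ i, ∑ j, (TopCat.Presheaf.germ R U x hx (b i j) : ↑(TopCat.Presheaf.stalk R x)) •
      gm N x U hx (z j) = 0 := by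
    intro i
    have := congrArg (gm N x U hx) (h i)
    rw [gm_sum, gm_zero] at this
    rw [← this]
    exact Finset.sum_congr rfl (fun j _ => (gm_smul N x U hx _ _).symm)
  obtain ⟨k, c₀, y₀, hζ, hβ⟩ := flat_multi_relation
    (fun i j => (TopCat.Presheaf.germ R U x hx (b i j) : ↑(TopCat.Presheaf.stalk R x)))
    (fun j => gm N x U hx (z j)) h'
  obtain ⟨V₁, hV₁, hxV₁, c₁, hc₁⟩ :=
    exists_nbhd_rep R x U hx (fun p : Fin l × Fin k => c₀ p.1 p.2)
  obtain ⟨V₂, hV₂, hxV₂, y₂₀, hy₂⟩ := exists_nbhd_rep N.presheaf x V₁ hxV₁ y₀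
  let y₂ : Fin k → N.obj (op V₂) := y₂₀
  let c₂ : Fin l → Fin k → R.obj (op V₂) := fun j κ => rr hV₂ (c₁ (j, κ))
  have hc₂ : ∀ j κ, TopCat.Presheaf.germ R V₂ x hxV₂ (c₂ j κ) = c₀ j κ := fun j κ =>
    (germ_rr x hV₂ hxV₂ _).trans (hc₁ (j, κ))
  have hy₂' : ∀ κ, gm N x V₂ hxV₂ (y₂ κ) = y₀ κ := hy₂
  have hU₂ : V₂ ≤ U := hV₂.trans hV₁
  have ha : ∀ j, gm N x V₂ hxV₂ (res N (homOfLE hU₂).op (z j)) =
      gm N x V₂ hxV₂ (∑ κ, c₂ j κ • y₂ κ) := by
    intro j
    rw [gm_res, gm_sum, hζ j]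
    refine Finset.sum_congr rfl (fun κ _ => ?_)
    rw [gm_smul, hc₂, hy₂']
  obtain ⟨V₃, hV₃, hxV₃, ha₃⟩ := exists_nbhd_eq N.presheaf x V₂ hxV₂
    (fun j => res N (homOfLE hU₂).op (z j)) (fun j => ∑ κ, c₂ j κ • y₂ κ) ha
  have hb : ∀ p : Fin r × Fin k, TopCat.Presheaf.germ R V₂ x hxV₂
      (∑ j, rr hU₂ (b p.1 j) * c₂ j p.2) = TopCat.Presheaf.germ R V₂ x hxV₂ 0 := by
    rintro ⟨i, κ⟩
    rw [map_zero, map_sum, ← hβ i κ]
    refine Finset.sum_congr rfl (fun j _ => ?_)
    rw [map_mul, hc₂, germ_rr]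
  obtain ⟨V₄, hV₄, hxV₄, hb₄⟩ := exists_nbhd_eq R x V₂ hxV₂
    (fun p : Fin r × Fin k => ∑ j, rr hU₂ (b p.1 j) * c₂ j p.2) (fun _ => 0) hb
  have hV₂' : V₃ ⊓ V₄ ≤ V₂ := inf_le_left.trans hV₃
  refine ⟨V₃ ⊓ V₄, hV₂'.trans hU₂, ⟨hxV₃, hxV₄⟩, k, fun j κ => rr hV₂' (c₂ j κ),
    fun κ => res N (homOfLE hV₂').op (y₂ κ), ?_, ?_⟩
  · intro j
    have h1 := congrArg (res N (homOfLE (inf_le_left : V₃ ⊓ V₄ ≤ V₃)).op) (ha₃ j)
    change res N _ (res N (homOfLE hV₃).op (res N (homOfLE hU₂).op (z j))) =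
      res N _ (res N (homOfLE hV₃).op (∑ κ, c₂ j κ • y₂ κ)) at h1
    rw [res_res, res_res, res_res, res_sum] at h1
    rw [h1]
    exact Finset.sum_congr rfl (fun κ _ => res_smul' N _ _ _)
  · intro i κ
    have h1 := congrArg (rr (inf_le_right : V₃ ⊓ V₄ ≤ V₄)) (hb₄ (i, κ))
    change rr _ (rr hV₄ (∑ j, rr hU₂ (b i j) * c₂ j κ)) = rr _ (rr hV₄ 0) at h1
    rw [rr_rr, rr_rr, rr_zero, rr_sum] at h1
    rw [← h1]
    refine Finset.sum_congr rfl (fun j _ => ?_)
    rw [rr_mul, rr_rr]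

variable {N}
variable {M M' : PresheafOfModules.{u} (R ⋙ forget₂ CommRingCat.{u} RingCat.{u})} (f : M ⟶ M')

/-- tensoring a sectionwise injective map with a presheaf of modules with flat stalks is
locally injective -/
theorem locInj_whiskerRight_of_flat_stalks
    (hf : ∀ (U : (Opens X)ᵒᵖ), Function.Injective (f.app U).hom)
    (hN : ∀ x : X, Module.Flat ↑(TopCat.Presheaf.stalk R x)
      ↑(TopCat.Presheaf.stalk N.presheaf x)) :
    LocInj (Opens.grothendieckTopology X) (f ▷ N) := by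
  intro U t ht
  induction U with | op U => ?_
  have ht' : LinearMap.rTensor (N.obj (op U)) (f.app (op U)).hom (toTP M N t) = 0 := by
    rw [← ap_whiskerRight_eq_rTensor, ht]; rfl
  obtain ⟨k, r, l, m, n, q, z, a, b, hxt, hn, hb, hrel⟩ := exists_data_of_rTensor_eq_zero _ _ ht'
  let S : Sieve U :=
    { arrows := fun V g => res (M ⊗ N) g.op t = 0
      downward_closed := by
        intro V W g hg h
        change res (M ⊗ N) (h ≫ g).op t = 0
        rw [op_comp, res_comp, hg, res_zero] }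
  refine ⟨S, ?_, fun g hg => hg⟩
  intro x hx
  obtain ⟨V, hV, hxV, k', c, y, hz, hbc⟩ := local_criterion N x (hN x) U hx b z hb
  refine ⟨V, homOfLE hV, ?_, hxV⟩
  change res (M ⊗ N) (homOfLE hV).op t = 0
  have ht2 : t = ∑ i, tm M N (m i) (n i) := hxt
  rw [ht2, res_sum]
  simp only [res_tm]
  refine tensor_vanish (A := R.obj (op V)) (f.app (op V)).hom (hf (op V))
    (fun i => res M (homOfLE hV).op (m i)) (fun i => res N (homOfLE hV).op (n i))
    (fun i => res M' (homOfLE hV).op (q i)) (fun j => res N (homOfLE hV).op (z j))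
    (fun i j => rr hV (a i j)) (fun i j => rr hV (b i j)) c y ?_ ?_ hz hbc
  · intro i
    have h1 : n i = ∑ j, a i j • z j := hn i
    rw [h1, res_sum]
    exact Finset.sum_congr rfl (fun j _ => res_smul' N hV _ _)
  · intro j
    have h0 : ∑ i, a i j • ap f (m i) + ∑ i, b i j • q i = 0 := hrel j
    have := congrArg (res M' (homOfLE hV).op) h0
    rw [res_add, res_sum, res_sum, res_zero] at this
    rw [← this]
    congr 1
    · refine Finset.sum_congr rfl (fun i _ => ?_)
      rw [res_smul' M' hV, ← ap_res]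
      rfl
    · exact Finset.sum_congr rfl (fun i _ => (res_smul' M' hV _ _).symm)

end Loc

end Groth.Agent.H4.SFlat1
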