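import Mathlib
import Groth.Prelude.Def_ModSite
import Groth.Prelude.Def_FlatMod2
import Groth.Agent.H4.SFlat1
import Groth.Agent.Lib.Lead.MS.Flat2

set_option autoImplicit false
universe u
open CategoryTheory CategoryTheory.Limits TopologicalSpace Opposite TopCat MonoidalCategory AlgebraicGeometry
open Groth.Agent.LD.MS Groth.Agent.H4.SFlat1

namespace Groth.Agent.H4.SFlat2

section Site

variable {C : Type u} [SmallCategory C] {J : GrothendieckTopology C} {O : Sheaf J CommRingCat.{u}}

theorem mono_sheafify_map_of_locInj {P P' : PMod O} (φ : P ⟶ P') (h : LocInj J φ) :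
    Mono ((ModSite.sheafify O).map φ) := by
  have h1 : Presheaf.IsLocallyInjective J ((tP O.obj).map φ) := (locInj_iff J φ).1 h
  have h2 : Sheaf.IsLocallyInjective ((presheafToSheaf J Ab).map ((tP O.obj).map φ)) :=
    (Presheaf.isLocallyInjective_presheafToSheaf_map_iff _ _).2 h1
  have h3 : Mono ((presheafToSheaf J Ab).map ((tP O.obj).map φ)) :=
    Sheaf.mono_of_isLocallyInjective _
  have h4 : Mono ((SheafOfModules.toSheaf _).map ((ModSite.sheafify O).map φ)) := h3
  exact (SheafOfModules.toSheaf _).mono_of_mono_map h4

/-- a mono of sheaves of modules is sectionwise injective -/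
theorem injective_app_of_mono {F G : ModSite.Mod O} (f : F ⟶ G) [Mono f] (U : Cᵒᵖ) :
    Function.Injective (((incl O).map f).app U).hom := by
  haveI : (incl O).PreservesMonomorphisms := (incl O).preservesMonomorphisms_of_adjunction (sadj O)
  haveI : Mono ((incl O).map f) := (incl O).map_mono f
  exact PresheafOfModules.injective_of_mono ((incl O).map f) U

variable (F : ModSite.Mod O)

/-- criterion: `F` is flat if tensoring monomorphisms with the underlying presheaf of `F` is
locally injective -/
theorem isFlat_of_locInj
    (h : ∀ {G G' : ModSite.Mod O} (f : G ⟶ G') [Mono f],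
      LocInj J ((incl O).map f ▷ (incl O).obj F)) : ModSite.IsFlat F := by
  rw [isFlat_iff_preservesMono]
  refine ⟨fun {G G'} f hf => ?_⟩
  exact mono_sheafify_map_of_locInj ((incl O).map f ▷ (incl O).obj F) (h f)

end Site

section Sch

variable {X : Scheme.{u}}

/-- a stalkwise flat module on a scheme is flat in the sense of exactness of the tensor product -/
theorem isFlat_of_stalkwise (M : X.Modules) (hM : FlatMod.IsFlat M) :
    ModSite.IsFlat (O := X.sheaf) M := by
  refine isFlat_of_locInj (O := X.sheaf) M (fun {G G'} f _ => ?_)
  exact locInj_whiskerRight_of_flat_stalks (X := X.toTopCat) (R := X.presheaf)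
    (N := (incl X.sheaf).obj M) ((incl X.sheaf).map f)
    (fun U => injective_app_of_mono f U) (fun x => hM x)

end Sch

end Groth.Agent.H4.SFlat2
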