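import Mathlib
import Groth.Prelude.Def_ModSite
import Groth.Agent.H4.SFlat2

set_option autoImplicit false
universe u
open CategoryTheory CategoryTheory.Limits TopologicalSpace Opposite TopCat MonoidalCategory AlgebraicGeometry
  TensorProduct
open Groth.Agent.LD.MS Groth.Agent.H4.SFlat1 Groth.Agent.H4.SFlat2

namespace Groth.Agent.H4.SFlat4


section Site

variable {C : Type u} [SmallCategory C] {J : GrothendieckTopology C} {O : Sheaf J CommRingCat.{u}}

theorem locInj_of_mono_sheafify_map {P P' : PMod O} (φ : P ⟶ P')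
    (h : Mono ((ModSite.sheafify O).map φ)) : LocInj J φ := by
  rw [locInj_iff]
  rw [← Presheaf.isLocallyInjective_presheafToSheaf_map_iff]
  have h1 : ∀ U : Cᵒᵖ, Function.Injective
      (((incl O).map ((ModSite.sheafify O).map φ)).app U).hom :=
    fun U => injective_app_of_mono _ U
  exact Presheaf.isLocallyInjective_of_injective J _ h1

/-- a flat sheaf of modules `F`: tensoring a locally injective map of presheaves of modules with
the underlying presheaf of `F` is locally injective -/
theorem locInj_whiskerRight_of_isFlat (F : ModSite.Mod O) (hF : ModSite.IsFlat F) {I Q : PMod O}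
    (ι : I ⟶ Q) (hι : LocInj J ι) : LocInj J (ι ▷ (incl O).obj F) := by
  apply locInj_of_mono_sheafify_map
  have h1 : Mono ((shf O).map ι) := mono_sheafify_map_of_locInj ι hι
  haveI := preservesMono_flip_of_isFlat hF
  have h2 : Mono (((ModSite.tensorBi O).flip.obj F).map ((shf O).map ι)) := inferInstance
  have h2' : Mono ((shf O).map ((incl O).map ((shf O).map ι) ▷ (incl O).obj F)) := h2
  have hnat : ι ≫ (sadj' O).unit.app Q = (sadj' O).unit.app I ≫ (incl O).map ((shf O).map ι) :=
    (sadj' O).unit.naturality ι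
  have hw : (ι ▷ (incl O).obj F) ≫ ((sadj' O).unit.app Q ▷ (incl O).obj F) =
      ((sadj' O).unit.app I ▷ (incl O).obj F) ≫
        ((incl O).map ((shf O).map ι) ▷ (incl O).obj F) := by
    rw [← MonoidalCategory.comp_whiskerRight, ← MonoidalCategory.comp_whiskerRight, hnat]
  haveI i1 := isIso_sheafify_whiskerRight_unit ((incl O).obj F) I
  haveI i2 := isIso_sheafify_whiskerRight_unit ((incl O).obj F) Q
  have hw' := congrArg (fun t => (shf O).map t) hw
  simp only [Functor.map_comp] at hw'
  have : (shf O).map (ι ▷ (incl O).obj F) =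
      ((shf O).map ((sadj' O).unit.app I ▷ (incl O).obj F) ≫
        (shf O).map ((incl O).map ((shf O).map ι) ▷ (incl O).obj F)) ≫
        inv ((shf O).map ((sadj' O).unit.app Q ▷ (incl O).obj F)) := by
    rw [← hw', Category.assoc, IsIso.hom_inv_id, Category.comp_id]
  change Mono ((shf O).map (ι ▷ (incl O).obj F))
  rw [this]
  infer_instance

end Site



lemma span_eq_top_of_injective {A : Type*} [CommRing A] {Im M : Type*} [AddCommGroup Im]
    [Module A Im] [AddCommGroup M] [Module A M] (ι : Im →ₗ[A] M) (hι : Function.Injective ι)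
    {n : ℕ} (m : Fin n → Im)
    (h : ∀ x, ι x ∈ Submodule.span A (Set.range fun j => ι (m j))) :
    Submodule.span A (Set.range m) = ⊤ := by
  rw [eq_top_iff]
  intro x _
  have hx := h x
  have : (Set.range fun j => ι (m j)) = ι '' (Set.range m) := by
    rw [← Set.range_comp]
    rfl
  rw [this, ← Submodule.map_span] at hx
  obtain ⟨y, hy, hxy⟩ := hx
  rwa [← hι hxy]

section Site

variable {C : Type u} [SmallCategory C] {J : GrothendieckTopology C} {O : Sheaf J CommRingCat.{u}}

/-- the unit presheaf of modules -/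
noncomputable abbrev uP (O : Sheaf J CommRingCat.{u}) : PMod O :=
  PresheafOfModules.unit (O.obj ⋙ forget₂ CommRingCat.{u} RingCat.{u})

variable (U : C) {n : ℕ} (f : Fin n → O.obj.obj (op U))

/-- the presheaf of ideals generated by the restrictions of the `f j` -/
noncomputable def idealP : PresheafOfModules.Submodule (uP O) where
  obj X := Submodule.span (O.obj.obj X)
    {y : O.obj.obj X | ∃ (g : X.unop ⟶ U) (j : Fin n), y = O.obj.map g.op (f j)}
  map {X Y} φ := by
    rw [Submodule.span_le]
    rintro _ ⟨g, j, rfl⟩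
    refine Submodule.subset_span ⟨φ.unop ≫ g, j, ?_⟩
    change O.obj.map φ (O.obj.map g.op (f j)) = O.obj.map (φ.unop ≫ g).op (f j)
    rw [op_comp, O.obj.map_comp]
    rfl

lemma mem_idealP (j : Fin n) : f j ∈ (idealP U f).obj (op U) :=
  Submodule.subset_span ⟨𝟙 U, j, by simp⟩

lemma locInj_ι (N : PresheafOfModules.Submodule (uP O)) : LocInj J N.ι := by
  intro X m hm
  refine ⟨⊤, J.top_mem _, fun g _ => ?_⟩
  have h0 : m = 0 := by
    apply Subtype.ext
    exact hm
  rw [h0, res_zero]

variable (F : ModSite.Mod O) (hF : ModSite.IsFlat F) [hU : ∀ V : C, Subsingleton (V ⟶ U)]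

include hF hU in
/-- equational criterion for a flat sheaf of modules at an object `U` with at most one arrow from
every object -/
theorem eqCrit_of_isFlat (s : Fin n → F.val.obj (op U)) (hrel : ∑ j, f j • s j = 0) :
    ∃ S ∈ J U, ∀ ⦃V : C⦄ (g : V ⟶ U), S g →
      ∃ (l : ℕ) (t : Fin l → F.val.obj (op V)) (a : Fin n → Fin l → O.obj.obj (op V)),
        (∀ j, (F.val.map g.op).hom (s j) = ∑ k, a j k • t k) ∧
        (∀ k, ∑ j, a j k * (O.obj.map g.op).hom (f j) = 0) := by
  let I := idealP U f
  let Ip : PMod O := I.toPresheafOfModules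
  let P : PMod O := (incl O).obj F
  have hloc : LocInj J (I.ι ▷ P) := locInj_whiskerRight_of_isFlat F hF I.ι (locInj_ι I)
  let fI : Fin n → Ip.obj (op U) := fun j => ⟨f j, mem_idealP U f j⟩
  let sP : Fin n → P.obj (op U) := s
  let τ : (Ip ⊗ P).obj (op U) := ∑ j, tm Ip P (fI j) (sP j)
  have hτ : ap (I.ι ▷ P) τ = 0 := by
    change ap (I.ι ▷ P) (∑ j, tm Ip P (fI j) (sP j)) = 0
    rw [ap_sum]
    have h1 : ∀ j, ap (I.ι ▷ P) (tm Ip P (fI j) (sP j)) =
        tm (uP O) P (1 : O.obj.obj (op U)) (f j • sP j) := by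
      intro j
      change (f j : O.obj.obj (op U)) ⊗ₜ[O.obj.obj (op U)] (sP j) =
        (1 : O.obj.obj (op U)) ⊗ₜ[O.obj.obj (op U)] (f j • sP j)
      rw [TensorProduct.tmul_smul, TensorProduct.smul_tmul', smul_eq_mul, mul_one]
    simp only [h1]
    change ∑ j, (1 : O.obj.obj (op U)) ⊗ₜ[O.obj.obj (op U)] (f j • sP j) = 0
    rw [← TensorProduct.tmul_sum]
    have : ∑ j, f j • sP j = 0 := hrel
    rw [this, TensorProduct.tmul_zero]
  obtain ⟨S, hS, hS'⟩ := hloc τ hτ
  refine ⟨S, hS, fun V g hg => ?_⟩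
  have h0 := hS' g hg
  change res (Ip ⊗ P) g.op (∑ j, tm Ip P (fI j) (sP j)) = 0 at h0
  rw [res_sum] at h0
  simp only [res_tm] at h0
  let m : Fin n → Ip.obj (op V) := fun j => res Ip g.op (fI j)
  let ιV : Ip.obj (op V) →ₗ[O.obj.obj (op V)] (uP O).obj (op V) := (I.ι.app (op V)).hom
  have hιV : Function.Injective ιV := fun x y hxy => Subtype.ext hxy
  have hm : ∀ j, ιV (m j) = (O.obj.map g.op (f j) : O.obj.obj (op V)) := fun j => rfl
  have hmem : ∀ x : Ip.obj (op V), ιV x ∈ Submodule.span (O.obj.obj (op V))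
      (Set.range fun j => ιV (m j)) := by
    intro x
    have hx : ιV x ∈ Submodule.span (O.obj.obj (op V))
        {y : (uP O).obj (op V) | ∃ (g' : V ⟶ U) (j : Fin n), y = O.obj.map g'.op (f j)} := x.2
    refine (Submodule.span_le.2 ?_) hx
    rintro _ ⟨g', j, rfl⟩
    obtain rfl : g' = g := Subsingleton.elim _ _
    exact Submodule.subset_span ⟨j, hm j⟩
  have hspan := span_eq_top_of_injective ιV hιV m hmem
  have h0' : ∑ j, (m j) ⊗ₜ[O.obj.obj (op V)] (res P g.op (sP j)) = 0 := h0
  obtain ⟨l, a, y, hy, ha⟩ := TensorProduct.vanishesTrivially_of_sum_tmul_eq_zero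
    (O.obj.obj (op V)) hspan h0'
  refine ⟨l, y, a, fun j => hy j, fun k => ?_⟩
  have := congrArg ιV (ha k)
  rw [map_sum, map_zero] at this
  refine (Finset.sum_congr rfl (fun j _ => ?_)).trans this
  rw [map_smul, hm]
  rfl

end Site

end Groth.Agent.H4.SFlat4
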