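import Mathlib
import Groth.Prelude.Def_ModSite
import Groth.Prelude.Def_FlatMod2
import Groth.Agent.H4.SFlat4

set_option autoImplicit false
universe u
open CategoryTheory CategoryTheory.Limits TopologicalSpace Opposite TopCat MonoidalCategory AlgebraicGeometry
  TensorProduct
open Groth.Agent.LD.MS Groth.Agent.H4.SFlat1 Groth.Agent.H4.SFlat2 Groth.Agent.H4.SFlat4

namespace Groth.Agent.H4.SFlat6

section Loc

variable {X : TopCat.{u}} {R : X.Presheaf CommRingCat.{u}}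
  (N : PresheafOfModules.{u} (R ⋙ forget₂ CommRingCat.{u} RingCat.{u}))

/-- the local equational criterion of flatness for a presheaf of modules on a space -/
def LocEq : Prop :=
  ∀ (U : Opens X) (x : X) (_ : x ∈ U) {l : ℕ} (f : Fin l → R.obj (op U)) (n : Fin l → N.obj (op U)),
    ∑ i, f i • n i = 0 →
    ∃ (V : Opens X) (hV : V ≤ U) (_ : x ∈ V) (k : ℕ) (a : Fin l → Fin k → R.obj (op V))
      (y : Fin k → N.obj (op V)),
      (∀ i, res N (homOfLE hV).op (n i) = ∑ j, a i j • y j) ∧ ∀ j, ∑ i, rr hV (f i) * a i j = 0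

variable {N}

theorem flat_stalk_of_locEq (h : LocEq N) (x : X) :
    Module.Flat ↑(TopCat.Presheaf.stalk R x) ↑(TopCat.Presheaf.stalk N.presheaf x) := by
  apply Module.Flat.of_forall_isTrivialRelation
  intro l f₀ n₀ hrel
  obtain ⟨V₁, -, hxV₁, f₁, hf₁⟩ := exists_nbhd_rep R x ⊤ trivial f₀
  obtain ⟨V₂, hV₂, hxV₂, n₂₀, hn₂⟩ := exists_nbhd_rep N.presheaf x V₁ hxV₁ n₀
  let n₂ : Fin l → N.obj (op V₂) := n₂₀
  have hn₂' : ∀ i, gm N x V₂ hxV₂ (n₂ i) = n₀ i := hn₂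
  let f₂ : Fin l → R.obj (op V₂) := fun i => rr hV₂ (f₁ i)
  have hf₂ : ∀ i, TopCat.Presheaf.germ R V₂ x hxV₂ (f₂ i) = f₀ i := fun i =>
    (germ_rr x hV₂ hxV₂ _).trans (hf₁ i)
  have hg : gm N x V₂ hxV₂ (∑ i, f₂ i • n₂ i) = gm N x V₂ hxV₂ 0 := by
    rw [gm_sum, gm_zero, ← hrel]
    refine Finset.sum_congr rfl (fun i _ => ?_)
    rw [gm_smul, hf₂, hn₂']
  obtain ⟨V₃, hV₃, hxV₃, h3⟩ := exists_nbhd_eq N.presheaf x V₂ hxV₂
    (fun _ : Unit => (∑ i, f₂ i • n₂ i : N.obj (op V₂))) (fun _ => (0 : N.obj (op V₂)))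
    (fun _ => hg)
  have h3' : ∑ i, rr hV₃ (f₂ i) • res N (homOfLE hV₃).op (n₂ i) = 0 := by
    have := h3 ()
    change res N (homOfLE hV₃).op (∑ i, f₂ i • n₂ i) = res N (homOfLE hV₃).op 0 at this
    rw [res_sum, res_zero] at this
    rw [← this]
    exact Finset.sum_congr rfl (fun i _ => (res_smul' N hV₃ _ _).symm)
  obtain ⟨V, hV, hxV, k, a, y, hy, ha⟩ := h V₃ x hxV₃ (fun i => rr hV₃ (f₂ i))
    (fun i => res N (homOfLE hV₃).op (n₂ i)) h3'
  refine ⟨k, fun i j => TopCat.Presheaf.germ R V x hxV (a i j), fun j => gm N x V hxV (y j),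
    fun i => ?_, fun j => ?_⟩
  · have h1 := congrArg (gm N x V hxV) (hy i)
    rw [gm_res, gm_res, hn₂', gm_sum] at h1
    rw [h1]
    exact Finset.sum_congr rfl (fun j _ => gm_smul N x V hxV _ _)
  · have h1 := congrArg (TopCat.Presheaf.germ R V x hxV) (ha j)
    rw [map_sum, map_zero] at h1
    rw [← h1]
    refine Finset.sum_congr rfl (fun i _ => ?_)
    rw [map_mul, germ_rr, germ_rr, hf₂]

end Loc

section Sch

variable {X : Scheme.{u}}

theorem locEq_of_isFlat (M : X.Modules) (hM : ModSite.IsFlat (O := X.sheaf) M) :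
    LocEq (X := X.toTopCat) (R := X.presheaf) ((incl X.sheaf).obj M) := by
  intro U x hx l f n hrel
  obtain ⟨S, hS, hS'⟩ := eqCrit_of_isFlat (O := X.sheaf) U f M hM n hrel
  obtain ⟨V, g, hg, hxV⟩ := hS x hx
  obtain ⟨k, t, a, h1, h2⟩ := hS' g hg
  refine ⟨V, g.le, hxV, k, a, t, fun i => h1 i, fun j => ?_⟩
  refine Eq.trans ?_ (h2 j)
  refine Finset.sum_congr rfl (fun i _ => ?_)
  exact mul_comm (G := X.presheaf.obj (op V)) _ _

/-- a flat module (tensor product exact) on a scheme is stalkwise flat -/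
theorem isFlat_stalkwise_of_isFlat (M : X.Modules) (hM : ModSite.IsFlat (O := X.sheaf) M) :
    FlatMod.IsFlat M :=
  fun x => flat_stalk_of_locEq (locEq_of_isFlat M hM) x

theorem isFlat_iff_stalkwise (M : X.Modules) :
    ModSite.IsFlat (O := X.sheaf) M ↔ FlatMod.IsFlat M :=
  ⟨isFlat_stalkwise_of_isFlat M, isFlat_of_stalkwise M⟩

end Sch

end Groth.Agent.H4.SFlat6
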