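import Mathlib
import Groth.Prelude.Def_KFlatSite
import Groth.Prelude.Def_DCoh4
import Groth.Agent.H4.GKS5
import Groth.Agent.H4.GK11
import Groth.Agent.H4.SFlat6

set_option autoImplicit false
universe u
open CategoryTheory CategoryTheory.Limits Opposite MonoidalCategory AlgebraicGeometry
attribute [local instance] HasDerivedCategory.standard
open Groth.Agent.H4.GK1 Groth.Agent.H4.GK2 Groth.Agent.H4.GK3 Groth.Agent.H4.GK4 Groth.Agent.LD.MS
  Groth.Agent.H4.GKS1 Groth.Agent.H4.GKS2 Groth.Agent.H4.GKS3 Groth.Agent.H4.GK7 Groth.Agent.H4.GK8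
  Groth.Agent.H4.GKS5 Groth.Agent.H4.GK11

namespace Groth.Agent.H4.GKS8

section Site

variable {C : Type u} [SmallCategory C] {J : GrothendieckTopology C} (O : Sheaf J CommRingCat.{u})

theorem exists_factorization_bdd_site {K L : CochainComplex (ModSite.Mod O) ℤ} (a : K ⟶ L) :
    ∃ (N : CochainComplex (ModSite.Mod O) ℤ) (b : K ⟶ N) (c : N ⟶ L), b ≫ c = a ∧ QuasiIso c ∧
      (ModSite.IsKFlat K → ModSite.IsKFlat N) ∧
      ((∀ n : ℤ, ModSite.IsFlat (K.X n)) → ∀ n : ℤ, ModSite.IsFlat (N.X n)) ∧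
      ∀ m : ℤ, (∀ i, m < i → IsZero (L.X i)) → (∀ i, m < i → IsZero (K.X i)) →
        ∀ i, m < i → IsZero (N.X i) := by
  haveI := countableAB4_mod O
  haveI := hasExactColimitsOfShape_mod O ℕ
  haveI := preservesColimitsOfShape_nat_tensorBi O
  exact exists_factorization_bdd (ModSite.tensorBi O) (fun M => ModSite.IsFlat M)
    (isFlat_of_isZero O) (exists_flat_epi (O := O))
    (fun X Y e h => FlatObj.of_iso (F := ModSite.tensorBi O) e h) (isFlat_biprod O)
    (fun X h => h) (isFlat_colimit_nat O) a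

theorem exists_bddAbove_resolution_site (G : CochainComplex (ModSite.Mod O) ℤ) (m : ℤ)
    (hG : ∀ i, m < i → IsZero (G.X i)) :
    ∃ (K : CochainComplex (ModSite.Mod O) ℤ) (q : K ⟶ G), ModSite.IsKFlat K ∧
      (∀ n : ℤ, ModSite.IsFlat (K.X n)) ∧ QuasiIso q ∧ ∀ i, m < i → IsZero (K.X i) := by
  haveI := countableAB4_mod O
  haveI := hasExactColimitsOfShape_mod O ℕ
  haveI := preservesColimitsOfShape_nat_tensorBi O
  exact exists_bddAbove_resolution (ModSite.tensorBi O) (fun M => ModSite.IsFlat M)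
    (isFlat_of_isZero O) (exists_flat_epi (O := O))
    (fun X Y e h => FlatObj.of_iso (F := ModSite.tensorBi O) e h) (isFlat_biprod O)
    (fun X h => h) (isFlat_colimit_nat O) G m hG

end Site

section Sch

variable {X : Scheme.{u}}

theorem exists_factorization_bdd_sch {K L : CochainComplex X.Modules ℤ} (a : K ⟶ L) :
    ∃ (N : CochainComplex X.Modules ℤ) (b : K ⟶ N) (c : N ⟶ L), b ≫ c = a ∧ QuasiIso c ∧
      (DCoh.IsKFlat K → DCoh.IsKFlat N) ∧
      ((∀ n : ℤ, FlatMod.IsFlat (K.X n)) → ∀ n : ℤ, FlatMod.IsFlat (N.X n)) ∧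
      ∀ m : ℤ, (∀ i, m < i → IsZero (L.X i)) → (∀ i, m < i → IsZero (K.X i)) →
        ∀ i, m < i → IsZero (N.X i) := by
  obtain ⟨N, b, c, h1, h2, h3, h4, h5⟩ := exists_factorization_bdd_site (O := X.sheaf) a
  exact ⟨N, b, c, h1, h2, h3, fun h n => (Groth.Agent.H4.SFlat6.isFlat_iff_stalkwise _).1
    (h4 (fun m => (Groth.Agent.H4.SFlat6.isFlat_iff_stalkwise _).2 (h m)) n), h5⟩

theorem exists_bddAbove_resolution_sch (G : CochainComplex X.Modules ℤ) (m : ℤ)
    (hG : ∀ i, m < i → IsZero (G.X i)) :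
    ∃ (K : CochainComplex X.Modules ℤ) (q : K ⟶ G), DCoh.IsKFlat K ∧
      (∀ n : ℤ, FlatMod.IsFlat (K.X n)) ∧ QuasiIso q ∧ ∀ i, m < i → IsZero (K.X i) := by
  obtain ⟨K, q, h1, h2, h3, h4⟩ := exists_bddAbove_resolution_site (O := X.sheaf) G m hG
  exact ⟨K, q, h1, fun n => (Groth.Agent.H4.SFlat6.isFlat_iff_stalkwise _).1 (h2 n), h3, h4⟩

end Sch

end Groth.Agent.H4.GKS8
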