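import Mathlib
import Groth.Agent.H4.TilD9
import Groth.Agent.H4.PC1

set_option autoImplicit false
universe u
attribute [local instance] HasDerivedCategory.standard
open CategoryTheory CategoryTheory.Limits DerivedCategory CategoryTheory.Pretriangulated
open Groth.Agent.H4.TilD9 Groth.Agent.H4.PC

namespace Groth.Agent.H4.PCS1

variable {C : Type*} [Category C] [Abelian C] [HasDerivedCategory C]

section Tri

variable {T T' : Triangle (DerivedCategory C)} (hT : T ∈ distinguishedTriangles)
  (hT' : T' ∈ distinguishedTriangles) (Φ : T ⟶ T')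

include hT hT' in
lemma epi_hom₃ (i j : ℤ) (hij : i + 1 = j)
    (h2 : Epi ((homologyFunctor C i).map Φ.hom₂))
    (h1 : Epi ((homologyFunctor C j).map Φ.hom₁))
    (h2' : Mono ((homologyFunctor C j).map Φ.hom₂)) :
    Epi ((homologyFunctor C i).map Φ.hom₃) := by
  refine four_epi ((homologyFunctor C i).map T.mor₂)
    (HomologySequence.δ T i j hij) ((homologyFunctor C j).map T.mor₁)
    ((homologyFunctor C i).map T'.mor₂)
    (HomologySequence.δ T' i j hij) ((homologyFunctor C j).map T'.mor₁)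
    _ _ _ _ ?_ ?_ ?_ (HomologySequence.δ_comp T hT i j hij) (HomologySequence.exact₁ T hT i j hij)
    (HomologySequence.comp_δ T' hT' i j hij) (HomologySequence.exact₃ T' hT' i j hij)
    (HomologySequence.δ_comp T' hT' i j hij) h2 h1 h2'
  · rw [← Functor.map_comp, ← Functor.map_comp, Φ.comm₂]
  · exact ((homologyFunctor C 0).homologySequenceδ_naturality T T' Φ i j hij).symm
  · rw [← Functor.map_comp, ← Functor.map_comp, Φ.comm₁]

include hT hT' in
lemma mono_hom₃ (i j : ℤ) (hij : i + 1 = j)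
    (h1 : Epi ((homologyFunctor C i).map Φ.hom₁))
    (h2 : Mono ((homologyFunctor C i).map Φ.hom₂))
    (h1' : Mono ((homologyFunctor C j).map Φ.hom₁)) :
    Mono ((homologyFunctor C i).map Φ.hom₃) := by
  refine four_mono ((homologyFunctor C i).map T.mor₁)
    ((homologyFunctor C i).map T.mor₂) (HomologySequence.δ T i j hij)
    ((homologyFunctor C i).map T'.mor₁)
    ((homologyFunctor C i).map T'.mor₂) (HomologySequence.δ T' i j hij)
    _ _ _ _ ?_ ?_ ?_ ?_ (HomologySequence.comp_δ T hT i j hij)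
    (HomologySequence.exact₃ T hT i j hij) ?_ (HomologySequence.exact₂ T' hT' i) h1 h2 h1'
  · rw [← Functor.map_comp, ← Functor.map_comp, Φ.comm₁]
  · rw [← Functor.map_comp, ← Functor.map_comp, Φ.comm₂]
  · exact ((homologyFunctor C 0).homologySequenceδ_naturality T T' Φ i j hij).symm
  · rw [← Functor.map_comp, comp_distTriang_mor_zero₁₂ _ hT, Functor.map_zero]
  · rw [← Functor.map_comp, comp_distTriang_mor_zero₁₂ _ hT', Functor.map_zero]

end Tri

lemma _root_.Groth.Agent.H4.TilD9.IsWitD.comp {m : ℤ} {X Y Z : DerivedCategory C} {α : X ⟶ Y} {β : Y ⟶ Z} (hα : IsWitD m α)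
    (hβ : IsWitD m β) : IsWitD m (α ≫ β) := by
  refine ⟨fun i hi => ?_, ?_⟩
  · haveI : IsIso ((homologyFunctor C i).map α) := hα.1 i hi
    haveI : IsIso ((homologyFunctor C i).map β) := hβ.1 i hi
    change IsIso ((homologyFunctor C i).map (α ≫ β))
    rw [Functor.map_comp]; infer_instance
  · haveI : Epi ((homologyFunctor C m).map α) := hα.2
    haveI : Epi ((homologyFunctor C m).map β) := hβ.2
    change Epi ((homologyFunctor C m).map (α ≫ β))
    rw [Functor.map_comp]; infer_instance

lemma _root_.Groth.Agent.H4.TilD9.IsWitD.of_isIso {m : ℤ} {X Y : DerivedCategory C} (α : X ⟶ Y) [IsIso α] : IsWitD m α :=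
  ⟨fun i _ => (inferInstance : IsIso ((homologyFunctor C i).map α)),
    (inferInstance : Epi ((homologyFunctor C m).map α))⟩

lemma _root_.Groth.Agent.H4.TilD9.IsWitD.mono {m n : ℤ} (h : m ≤ n) {X Y : DerivedCategory C} {α : X ⟶ Y}
    (hα : IsWitD m α) : IsWitD n α := by
  refine ⟨fun i hi => hα.1 i (by omega), ?_⟩
  rcases h.lt_or_eq with h | rfl
  · haveI : IsIso ((homologyFunctor C n).map α) := hα.1 n h
    exact (inferInstance : Epi ((homologyFunctor C n).map α))
  · exact hα.2

lemma _root_.Groth.Agent.H4.TilD9.IsWitD.isIso_map {m : ℤ} {X Y : DerivedCategory C} {α : X ⟶ Y} (hα : IsWitD m α) (i : ℤ)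
    (hi : m < i) : IsIso ((homologyFunctor C i).map α) := hα.1 i hi

lemma _root_.Groth.Agent.H4.TilD9.IsWitD.mono_map {m : ℤ} {X Y : DerivedCategory C} {α : X ⟶ Y} (hα : IsWitD m α) (i : ℤ)
    (hi : m < i) : Mono ((homologyFunctor C i).map α) := by
  haveI := hα.isIso_map i hi; infer_instance

lemma _root_.Groth.Agent.H4.TilD9.IsWitD.epi_map {m : ℤ} {X Y : DerivedCategory C} {α : X ⟶ Y} (hα : IsWitD m α) (i : ℤ)
    (hi : m ≤ i) : Epi ((homologyFunctor C i).map α) := (hα.mono hi).2

lemma isZero_homology_obj₃ (T : Triangle (DerivedCategory C)) (hT : T ∈ distinguishedTriangles)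
    (i j : ℤ) (hij : i + 1 = j)
    (hepi : Epi ((homologyFunctor C i).map T.mor₁))
    (hmono : Mono ((homologyFunctor C j).map T.mor₁)) :
    IsZero ((homologyFunctor C i).obj T.obj₃) := by
  have h1 := (HomologySequence.epi_homologyMap_mor₁_iff T hT i).1 hepi
  have h2 := (HomologySequence.mono_homologyMap_mor₁_iff T hT i j hij).1 hmono
  have h3 := HomologySequence.exact₃ T hT i j hij
  rw [IsZero.iff_id_eq_zero]
  have := h3.mono_g h1
  dsimp only at this
  rw [← cancel_mono (HomologySequence.δ T i j hij), h2, comp_zero, zero_comp]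

lemma isWitD_iff_isLE (T : Triangle (DerivedCategory C)) (hT : T ∈ distinguishedTriangles)
    (m : ℤ) : IsWitD m T.mor₁ ↔ T.obj₃.IsLE (m - 1) := by
  constructor
  · intro h
    rw [isLE_iff]
    intro i hi
    refine isZero_homology_obj₃ T hT i (i + 1) rfl (h.epi_map i (by omega)) ?_
    exact h.mono_map (i + 1) (by omega)
  · intro h
    refine ⟨fun i hi => ?_, ?_⟩
    · haveI : Mono ((homologyFunctor C i).map T.mor₁) := by
        rw [HomologySequence.mono_homologyMap_mor₁_iff T hT (i - 1) i (by omega)]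
        exact (isZero_of_isLE T.obj₃ (m - 1) (i - 1) (by omega)).eq_of_src _ _
      haveI : Epi ((homologyFunctor C i).map T.mor₁) := by
        rw [HomologySequence.epi_homologyMap_mor₁_iff T hT i]
        exact (isZero_of_isLE T.obj₃ (m - 1) i (by omega)).eq_of_tgt _ _
      exact isIso_of_mono_of_epi _
    · change Epi ((homologyFunctor C m).map T.mor₁)
      rw [HomologySequence.epi_homologyMap_mor₁_iff T hT m]
      exact (isZero_of_isLE T.obj₃ (m - 1) m (by omega)).eq_of_tgt _ _

/-- the four-lemma conclusion for a morphism of distinguished triangles -/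
theorem isWitD_hom₃ {T T' : Triangle (DerivedCategory C)} (hT : T ∈ distinguishedTriangles)
    (hT' : T' ∈ distinguishedTriangles) (Φ : T ⟶ T') (m : ℤ)
    (h₁ : IsWitD (m + 1) Φ.hom₁) (h₂ : IsWitD m Φ.hom₂) : IsWitD m Φ.hom₃ := by
  have hm : ∀ i : ℤ, m < i → Mono ((homologyFunctor C i).map Φ.hom₃) := fun i hi =>
    mono_hom₃ hT hT' Φ i (i + 1) rfl (h₁.epi_map i (by omega)) (h₂.mono_map i hi)
      (h₁.mono_map (i + 1) (by omega))
  have he : ∀ i : ℤ, m ≤ i → Epi ((homologyFunctor C i).map Φ.hom₃) := fun i hi =>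
    epi_hom₃ hT hT' Φ i (i + 1) rfl (h₂.epi_map i hi) (h₁.epi_map (i + 1) (by omega))
      (h₂.mono_map (i + 1) (by omega))
  refine ⟨fun i hi => ?_, he m le_rfl⟩
  exact @isIso_of_mono_of_epi _ _ _ _ _ _ (hm i hi) (he i hi.le)

end Groth.Agent.H4.PCS1
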