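import Mathlib
import Groth.Agent.H4.PCS1

set_option autoImplicit false
universe u
attribute [local instance] HasDerivedCategory.standard
open CategoryTheory CategoryTheory.Limits DerivedCategory CategoryTheory.Pretriangulated
open Groth.Agent.H4.TilD9 Groth.Agent.H4.PCS1

namespace Groth.Agent.H4.FAmp1

variable {C : Type*} [Category C] [Abelian C]

/-- closure properties of a class of objects: isomorphisms, zero objects, kernels of epimorphisms,
binary biproducts -/
structure KerClosed (P : C → Prop) : Prop where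
  iso : ∀ {X Y : C}, (X ≅ Y) → P X → P Y
  zero : ∀ {X : C}, IsZero X → P X
  ker : ∀ {X Y : C} (p : X ⟶ Y) [Epi p], P X → P Y → P (kernel p)
  biprod : ∀ {X Y : C}, P X → P Y → P (X ⊞ Y)

lemma prop_kernel_d {P : C → Prop} (hP : KerClosed P) (E : CochainComplex C ℤ) (b : ℤ)
    (hb : ∀ i, b < i → IsZero (E.X i)) (m : ℤ) (hterm : ∀ i, m ≤ i → P (E.X i))
    (hex : ∀ i, m < i → E.ExactAt i) :
    ∀ i, m ≤ i → P (kernel (E.d i (i + 1))) := by
  have key : ∀ k : ℕ, ∀ i, m ≤ i → b + 1 - k ≤ i → P (kernel (E.d i (i + 1))) := by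
    intro k
    induction k with
    | zero =>
      intro i _ hi
      have hz : IsZero (E.X i) := hb i (by simpa using hi)
      exact hP.zero (IsZero.of_mono (kernel.ι _) hz)
    | succ k ih =>
      intro i hmi hi
      have IH := ih (i + 1) (by omega) (by push_cast at hi; omega)
      let S := E.sc' i (i + 1) (i + 1 + 1)
      have hS : S.Exact := (E.exactAt_iff' i (i + 1) (i + 1 + 1) (by simp) (by simp)).1
        (hex (i + 1) (by omega))
      haveI : Epi S.toCycles := S.exact_iff_epi_toCycles.1 hS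
      have hcyc : P S.cycles := hP.iso S.cyclesIsoKernel.symm IH
      have h1 : P (kernel S.toCycles) := hP.ker S.toCycles (hterm i hmi) hcyc
      have e : kernel S.toCycles ≅ kernel (E.d i (i + 1)) :=
        (kernelCompMono S.toCycles S.iCycles).symm ≪≫ kernelIsoOfEq S.toCycles_i
      exact hP.iso e h1
  intro i hi
  exact key (b + 1 - i).toNat i hi (by omega)

open CochainComplex in
lemma isIso_inl_v {E F : CochainComplex C ℤ} (g : E ⟶ F) (p q : ℤ) (hpq : p + (-1) = q)
    (hz : IsZero (F.X q)) : IsIso ((mappingCone.inl g).v p q hpq) :=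
  ⟨(mappingCone.fst g).1.v q p (by omega), mappingCone.inl_v_fst_v g p q (by omega), by
    have := mappingCone.id_X g q p (by omega)
    rw [hz.eq_of_tgt ((mappingCone.snd g).v q q (add_zero q)) 0, zero_comp, add_zero] at this
    exact this⟩

open CochainComplex in
lemma isZero_mappingCone_X {E F : CochainComplex C ℤ} (g : E ⟶ F) (i : ℤ)
    (h1 : IsZero (E.X (i + 1))) (h2 : IsZero (F.X i)) : IsZero ((mappingCone g).X i) := by
  rw [IsZero.iff_id_eq_zero]
  have := mappingCone.id_X g i (i + 1) rfl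
  rw [h1.eq_of_tgt ((mappingCone.fst g).1.v i (i + 1) rfl) 0,
    h2.eq_of_tgt ((mappingCone.snd g).v i i (add_zero i)) 0, zero_comp, zero_comp, add_zero] at this
  exact this.symm

open CochainComplex in
theorem prop_opcycles [HasDerivedCategory C] {P : C → Prop} (hP : KerClosed P)
    {E F : CochainComplex C ℤ} (g : E ⟶ F) (a b : ℤ) (hE : ∀ i, P (E.X i))
    (hEb : ∀ i, b < i → IsZero (E.X i)) (hF : ∀ i, P (F.X i)) (hFa : ∀ i, i < a → IsZero (F.X i))
    (hFb : ∀ i, b < i → IsZero (F.X i)) (hg : IsWitCx (a - 1) g) : P (E.opcycles a) := by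
  let D := mappingCone g
  have hT := mappingCone_triangle_distinguished g
  haveI : (Q.obj D).IsLE (a - 1 - 1) :=
    (isWitD_iff_isLE _ hT (a - 1)).1 ((isWitD_Q_map_iff g).2 hg)
  have hDex : ∀ n, a - 1 - 1 < n → D.ExactAt n := fun n hn => by
    rw [HomologicalComplex.exactAt_iff_isZero_homology]
    exact (isZero_of_isLE (Q.obj D) (a - 1 - 1) n hn).of_iso
      ((homologyFunctorFactors C n).app D).symm
  have hDX : ∀ i, P (D.X i) := fun i =>
    hP.iso (HomologicalComplex.homotopyCofiber.XIsoBiprod g i (i + 1) rfl).symm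
      (hP.biprod (hE (i + 1)) (hF i))
  have hDb : ∀ i, b < i → IsZero (D.X i) := fun i hi =>
    isZero_mappingCone_X g i (hEb _ (by omega)) (hFb _ hi)
  have hZ : P (kernel (D.d a (a + 1))) :=
    prop_kernel_d hP D b hDb (a - 1) (fun i _ => hDX i) (fun i hi => hDex i (by omega)) a
      (by omega)
  let π : D.X (a - 1) ⟶ kernel (D.d a (a + 1)) :=
    kernel.lift _ (D.d (a - 1) a) (D.d_comp_d _ _ _)
  let τ₂ : E.X a ⟶ D.X (a - 1) := (mappingCone.inl g).v a (a - 1) (by omega)
  let τ₁ : E.X (a - 1) ⟶ D.X (a - 1 - 1) := -(mappingCone.inl g).v (a - 1) (a - 1 - 1) (by omega)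
  haveI : IsIso τ₂ := isIso_inl_v g a (a - 1) (by omega) (hFa _ (by omega))
  haveI : IsIso ((mappingCone.inl g).v (a - 1) (a - 1 - 1) (by omega)) :=
    isIso_inl_v g (a - 1) (a - 1 - 1) (by omega) (hFa _ (by omega))
  haveI : IsIso τ₁ := ⟨-inv ((mappingCone.inl g).v (a - 1) (a - 1 - 1) _),
    by simp [τ₁]⟩
  have hg0 : g.f (a - 1) = 0 := (hFa (a - 1) (by omega)).eq_of_tgt _ _
  have comm : E.d (a - 1) a ≫ τ₂ = τ₁ ≫ D.d (a - 1 - 1) (a - 1) := by
    have := mappingCone.inl_v_d g (a - 1) (a - 1 - 1) a (by omega) (by omega)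
    rw [hg0, zero_comp, zero_sub] at this
    simp only [τ₁, τ₂, Preadditive.neg_comp, D, this, neg_neg]
  have hπ0 : D.d (a - 1 - 1) (a - 1) ≫ π = 0 := by
    apply (cancel_mono (kernel.ι _)).1
    simp [π]
  let S₃ : ShortComplex C := ShortComplex.mk (E.d (a - 1) a) (τ₂ ≫ π) (by
    rw [← Category.assoc, comm, Category.assoc, hπ0, comp_zero])
  let φ : S₃ ⟶ D.sc' (a - 1 - 1) (a - 1) a :=
    { τ₁ := τ₁
      τ₂ := τ₂
      τ₃ := kernel.ι _
      comm₁₂ := comm.symm
      comm₂₃ := by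
        change τ₂ ≫ D.d (a - 1) a = (τ₂ ≫ π) ≫ kernel.ι _
        rw [Category.assoc]
        congr 1
        exact (kernel.lift_ι _ _ _).symm }
  haveI : Epi φ.τ₁ := inferInstanceAs (Epi τ₁)
  haveI : IsIso φ.τ₂ := inferInstanceAs (IsIso τ₂)
  haveI : Mono φ.τ₃ := inferInstanceAs (Mono (kernel.ι _))
  have hS₃ : S₃.Exact := by
    rw [ShortComplex.exact_iff_of_epi_of_isIso_of_mono φ]
    exact (D.exactAt_iff' (a - 1 - 1) (a - 1) a (by simp) (by simp)).1 (hDex (a - 1) (by omega))
  -- π is an epimorphism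
  let S := D.sc' (a - 1) a (a + 1)
  have hS : S.Exact := (D.exactAt_iff' (a - 1) a (a + 1) (by simp) (by simp)).1
    (hDex a (by omega))
  haveI : Epi π := S.exact_iff_epi_kernel_lift.1 hS
  haveI : Epi S₃.g := inferInstanceAs (Epi (τ₂ ≫ π))
  have hc := hS₃.gIsCokernel
  have hc' := E.opcyclesIsCokernel (a - 1) a (by simp)
  exact hP.iso (IsColimit.coconePointUniqueUpToIso hc hc') hZ

end Groth.Agent.H4.FAmp1
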