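import Mathlib
import Groth.Agent.Lib.Helper2.KThick3
import Groth.Agent.Lib.Lead.QC.Coh
import Groth.Agent.Lib.Lead.QC.Closure

set_option autoImplicit false
universe u
attribute [local instance] HasDerivedCategory.standard
open CategoryTheory CategoryTheory.Limits AlgebraicGeometry Groth.Agent.LD.QC
open scoped ZeroObject

namespace Groth.Agent.H4.K0Coh

variable (X : Scheme.{u})

/-- coherent modules -/
def PCoh : ObjectProperty X.Modules := fun M => Coh.IsCoh M

variable {X} in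
lemma subsingleton_sections_of_isZero {Z : X.Modules} (hZ : IsZero Z) (U : X.Opens) :
    Subsingleton Γ(Z, U) := by
  refine ⟨fun x y => ?_⟩
  have h : ∀ z : Γ(Z, U), z = 0 := by
    intro z
    have h1 : (𝟙 Z : Z ⟶ Z) = 0 := hZ.eq_of_src _ _
    have h2 : appLinear (𝟙 Z) U z = z := rfl
    rw [← h2, h1]
    rfl
  rw [h x, h y]

variable {X} in
lemma isCoh_of_isZero {Z : X.Modules} (hZ : IsZero Z) : Coh.IsCoh Z := by
  have hq : Z.IsQuasicoherent := by
    have h1 : (⊤_ X.Modules).IsQuasicoherent :=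
      qc_limit (X := X) (Functor.empty.{0} X.Modules) (fun j => j.as.elim)
    exact qc_of_iso ((HasZeroObject.zeroIsoTerminal (C := X.Modules)).symm ≪≫ hZ.isoZero.symm) h1
  refine ⟨hq, ?_⟩
  haveI := hq
  rw [isFiniteType_iff_finite_sections]
  intro U hU
  haveI := subsingleton_sections_of_isZero hZ U
  infer_instance

variable [IsLocallyNoetherian X]

variable {X} in
lemma isCoh_of_mono {N M : X.Modules} (i : N ⟶ M) [Mono i] (hM : Coh.IsCoh M)
    (hN : N.IsQuasicoherent) : Coh.IsCoh N :=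
  ⟨hN, isFiniteType_of_mono i hN hM.1 hM.2⟩

instance : (PCoh X).IsClosedUnderIsomorphisms :=
  ⟨fun e h => isCoh_of_mono e.inv h (qc_of_iso e h.1)⟩

omit [IsLocallyNoetherian X] in
instance : (PCoh X).ContainsZero :=
  ⟨⟨0, isZero_zero _, isCoh_of_isZero (isZero_zero _)⟩⟩

instance : (PCoh X).IsClosedUnderKernels := by
  refine ⟨?_⟩
  rintro _ ⟨f, k, hk, ⟨h1, h2⟩⟩
  have e : k.pt ≅ kernel f := IsLimit.conePointUniqueUpToIso hk (limit.isLimit _)
  have hker : Coh.IsCoh (kernel f) :=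
    isCoh_of_mono (kernel.ι f) h1 (qc_kernel f h1.1 h2.1)
  exact (PCoh X).prop_of_iso e.symm hker

theorem S1052 (X : Scheme.{u}) [IsNoetherian X] :
    ∃ φ : KZero.K0sub (fun M : X.Modules => Coh.IsCoh M) ≃+
        KZero.K0tr (fun K : DCoh.D X => DCoh.IsCohD K ∧ ∃ a b : ℤ, K.IsGE a ∧ K.IsLE b),
      ∀ F : X.Modules, Coh.IsCoh F →
        φ (KZero.clSub (fun M : X.Modules => Coh.IsCoh M) F) =
          KZero.clTr (fun K : DCoh.D X => DCoh.IsCohD K ∧ ∃ a b : ℤ, K.IsGE a ∧ K.IsLE b)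
            (DCoh.inD X F) :=
  Groth.Agent.H2.KThick.main (PCoh X)

end Groth.Agent.H4.K0Coh
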