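import Mathlib
import Groth.Prelude.Def_DCoh2
import Groth.Agent.Lib.Lead.QC.FreeHom
import Groth.Agent.Lib.Lead.QC.Closure
import Groth.Agent.Lib.Lead.QC.Fin
import Groth.Agent.Lib.Lead.QC.LocFree2
import Groth.Agent.Lib.Helper3.SPerf

set_option autoImplicit false
universe u
attribute [local instance] HasDerivedCategory.standard
open CategoryTheory CategoryTheory.Limits AlgebraicGeometry Groth.Agent.LD.QC

namespace Groth.Agent.H4.PSch1

/-- restriction of complexes along an open immersion -/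
noncomputable abbrev resCx {U X : Scheme.{u}} (j : U ⟶ X) [IsOpenImmersion j] :
    CochainComplex X.Modules ℤ ⥤ CochainComplex U.Modules ℤ :=
  (Scheme.Modules.restrictFunctor j).mapHomologicalComplex (ComplexShape.up ℤ)

section PartialNull

variable {U : Scheme.{u}}

/-- partial null-homotopy data in degrees `≥ k` -/
def PartialNull {E C : CochainComplex U.Modules ℤ} (β : E ⟶ C) (k : ℤ) : Prop :=
  ∃ h : ∀ i j : ℤ, E.X i ⟶ C.X j, ∀ i₀ i₁ i₂ : ℤ, i₀ + 1 = i₁ → i₁ + 1 = i₂ → k ≤ i₁ →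
    β.f i₁ = h i₁ i₀ ≫ C.d i₀ i₁ + E.d i₁ i₂ ≫ h i₂ i₁

/-- transport of partial null-homotopies along isomorphisms of arrows -/
lemma PartialNull.of_iso {E C E' C' : CochainComplex U.Modules ℤ} {β : E ⟶ C} {β' : E' ⟶ C'}
    (e : E ≅ E') (c : C ≅ C') (hcomm : β ≫ c.hom = e.hom ≫ β') (k : ℤ)
    (h : PartialNull β k) : PartialNull β' k := by
  obtain ⟨h, hh⟩ := h
  refine ⟨fun i j => e.inv.f i ≫ h i j ≫ c.hom.f j, fun i₀ i₁ i₂ h01 h12 hi => ?_⟩
  have h1 : β'.f i₁ = e.inv.f i₁ ≫ β.f i₁ ≫ c.hom.f i₁ := by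
    have : β' = e.inv ≫ β ≫ c.hom := by rw [hcomm, Iso.inv_hom_id_assoc]
    rw [this]; rfl
  rw [h1, hh i₀ i₁ i₂ h01 h12 hi]
  simp only [Preadditive.add_comp, Preadditive.comp_add, Category.assoc,
    HomologicalComplex.Hom.comm, HomologicalComplex.Hom.comm_assoc]

/-- restriction of partial null-homotopy data -/
lemma PartialNull.restrict {W : Scheme.{u}} (j : W ⟶ U) [IsOpenImmersion j]
    {E C : CochainComplex U.Modules ℤ} {β : E ⟶ C} (k : ℤ)
    (h : PartialNull β k) : PartialNull ((resCx j).map β) k := by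
  obtain ⟨h, hh⟩ := h
  refine ⟨fun i j' => (Scheme.Modules.restrictFunctor j).map (h i j'),
    fun i₀ i₁ i₂ h01 h12 hi => ?_⟩
  change (Scheme.Modules.restrictFunctor j).map (β.f i₁) = _
  rw [hh i₀ i₁ i₂ h01 h12 hi, Functor.map_add, Functor.map_comp, Functor.map_comp]
  rfl

omit U in
lemma exists_update {D : Type*} [Category D] {A B : ℤ → D} (h : ∀ i j, A i ⟶ B j) (i₀ j₀ : ℤ)
    (ψ : A i₀ ⟶ B j₀) :
    ∃ h' : ∀ i j, A i ⟶ B j, h' i₀ j₀ = ψ ∧ ∀ i j, (i ≠ i₀ ∨ j ≠ j₀) → h' i j = h i j := by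
  classical
  refine ⟨fun i j => if hij : i = i₀ ∧ j = j₀ then
    eqToHom (by rw [hij.1]) ≫ ψ ≫ eqToHom (by rw [hij.2]) else h i j, ?_, ?_⟩
  · simp
  · intro i j hij
    have : ¬ (i = i₀ ∧ j = j₀) := by tauto
    simp [this]

/-- the one-step extension of a partial null-homotopy, locally -/
theorem PartialNull.step {E C : CochainComplex U.Modules ℤ} (β : E ⟶ C) (k : ℤ)
    (hE : FlatMod.IsFinLocFree (E.X k)) (hC : C.ExactAt k)
    (h : PartialNull β (k + 1)) (x : U) :
    ∃ V : U.Opens, x ∈ V ∧ PartialNull ((resCx V.ι).map β) k := by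
  obtain ⟨h, hh⟩ := h
  let γ : E.X k ⟶ C.X k := β.f k - E.d k (k + 1) ≫ h (k + 1) k
  have hγ : γ ≫ C.d k (k + 1) = 0 := by
    have h1 := hh k (k + 1) (k + 1 + 1) rfl rfl le_rfl
    dsimp only [γ]
    rw [Preadditive.sub_comp, β.comm k (k + 1), h1, Preadditive.comp_add, Category.assoc]
    simp
  let S : ShortComplex U.Modules := C.sc' (k - 1) k (k + 1)
  have hS : S.Exact := (C.exactAt_iff' (k - 1) k (k + 1) (by simp) (by simp)).1 hC
  haveI : Epi S.toCycles := S.exact_iff_epi_toCycles.1 hS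
  let φ : E.X k ⟶ S.cycles := S.liftCycles γ hγ
  obtain ⟨V, ψ, hxV, hψ⟩ := exists_local_lift_of_isFinLocFree S.toCycles φ hE x
  refine ⟨V, hxV, ?_⟩
  let R := Scheme.Modules.restrictFunctor V.ι
  have hψ' : (ψ : R.obj (E.X k) ⟶ R.obj (C.X (k - 1))) ≫ R.map (C.d (k - 1) k) = R.map γ := by
    have h1 : S.toCycles ≫ S.iCycles = C.d (k - 1) k := S.toCycles_i
    have h2 : φ ≫ S.iCycles = γ := S.liftCycles_i γ hγ
    have h3 : R.map S.toCycles ≫ R.map S.iCycles = R.map (C.d (k - 1) k) :=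
      (R.map_comp S.toCycles S.iCycles).symm.trans (congrArg (fun f => R.map f) h1)
    have h4 : R.map φ ≫ R.map S.iCycles = R.map γ :=
      (R.map_comp φ S.iCycles).symm.trans (congrArg (fun f => R.map f) h2)
    exact (congrArg (fun f => ψ ≫ f) h3.symm).trans ((Category.assoc _ _ _).symm.trans
      ((congrArg (fun f => f ≫ R.map S.iCycles) hψ).trans h4))
  obtain ⟨h', h'1, h'2⟩ := exists_update (A := fun i => ((resCx V.ι).obj E).X i)
    (B := fun j => ((resCx V.ι).obj C).X j) (fun i j => R.map (h i j)) k (k - 1) ψ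
  refine ⟨h', ?_⟩
  intro i₀ i₁ i₂ h01 h12 hi
  subst h01 h12
  by_cases hk : i₀ + 1 = k
  · subst hk
    have e0 : i₀ + 1 - 1 = i₀ := by omega
    rw [h'2 (i₀ + 1 + 1) (i₀ + 1) (Or.inl (by omega))]
    have key : ∀ (m : ℤ) (hm : m = i₀ + 1 - 1),
        h' (i₀ + 1) m ≫ ((resCx V.ι).obj C).d m (i₀ + 1) = R.map γ := by
      intro m hm
      subst hm
      rw [h'1]
      exact hψ'
    rw [key i₀ e0.symm]
    dsimp only [γ]
    rw [R.map_sub, R.map_comp]
    change R.map (β.f (i₀ + 1)) = (R.map (β.f (i₀ + 1)) -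
      R.map (E.d (i₀ + 1) (i₀ + 1 + 1)) ≫ R.map (h (i₀ + 1 + 1) (i₀ + 1))) +
      R.map (E.d (i₀ + 1) (i₀ + 1 + 1)) ≫ R.map (h (i₀ + 1 + 1) (i₀ + 1))
    rw [sub_add_cancel]
  · rw [h'2 _ _ (Or.inl hk), h'2 _ _ (Or.inl (by omega))]
    change R.map (β.f (i₀ + 1)) = _
    rw [hh i₀ (i₀ + 1) (i₀ + 1 + 1) rfl rfl (by omega), R.map_add, R.map_comp, R.map_comp]
    rfl

end PartialNull

section Restrict

variable {U W : Scheme.{u}} (j : W ⟶ U) [IsOpenImmersion j]

lemma isFinLocFree_restrict (M : U.Modules) (h : FlatMod.IsFinLocFree M) :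
    FlatMod.IsFinLocFree (M.restrict j) :=
  isFinLocFree_of_iso ((Scheme.Modules.restrictFunctorIsoPullback j).app M).symm
    (isFinLocFree_pullback j M h)

lemma exactAt_restrict (C : CochainComplex U.Modules ℤ) (n : ℤ) (h : C.ExactAt n) :
    ((resCx j).obj C).ExactAt n := by
  rw [HomologicalComplex.exactAt_iff] at h ⊢
  exact h.map (Scheme.Modules.restrictFunctor j)

end Restrict

section Comp

variable {U W W' : Scheme.{u}} (i : W' ⟶ W) (j : W ⟶ U) [IsOpenImmersion i] [IsOpenImmersion j]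

/-- restriction of complexes along a composition -/
noncomputable def resCxComp : resCx (i ≫ j) ≅ resCx j ⋙ resCx i :=
  (Functor.mapHomologicalComplexCompIso (Scheme.Modules.restrictFunctorComp i j).symm _).symm

/-- restriction along the identity -/
noncomputable def resCxId : resCx (𝟙 U) ≅ 𝟭 _ :=
  NatIso.mapHomologicalComplex Scheme.Modules.restrictFunctorId _ ≪≫
    Functor.mapHomologicalComplexIdIso _ _

lemma PartialNull.comp {E C : CochainComplex U.Modules ℤ} (β : E ⟶ C) (k : ℤ)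
    (h : PartialNull ((resCx i).map ((resCx j).map β)) k) :
    PartialNull ((resCx (i ≫ j)).map β) k :=
  PartialNull.of_iso ((resCxComp i j).symm.app E) ((resCxComp i j).symm.app C)
    ((resCxComp i j).symm.hom.naturality β) k h

lemma PartialNull.id {E C : CochainComplex U.Modules ℤ} (β : E ⟶ C) (k : ℤ)
    (h : PartialNull β k) : PartialNull ((resCx (𝟙 U)).map β) k :=
  PartialNull.of_iso ((resCxId (U := U)).symm.app E) ((resCxId (U := U)).symm.app C)
    ((resCxId (U := U)).symm.hom.naturality β) k h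

end Comp

/-- iterating the one-step extension -/
theorem PartialNull.iterate (m : ℕ) : ∀ (U : Scheme.{u}) (x : U)
    (E C : CochainComplex U.Modules ℤ) (β : E ⟶ C) (k : ℤ),
    (∀ i, FlatMod.IsFinLocFree (E.X i)) → (∀ n, C.ExactAt n) → PartialNull β (k + m) →
    ∃ (W : Scheme.{u}) (i : W ⟶ U) (_ : IsOpenImmersion i), x ∈ Set.range i ∧
      PartialNull ((resCx i).map β) k := by
  induction m with
  | zero =>
    intro U x E C β k hE hC h
    refine ⟨U, 𝟙 U, inferInstance, ⟨x, rfl⟩, PartialNull.id β k ?_⟩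
    simpa using h
  | succ m ih =>
    intro U x E C β k hE hC h
    have h' : PartialNull β ((k + m) + 1) := by
      have : k + ((m + 1 : ℕ) : ℤ) = (k + m) + 1 := by push_cast; ring
      rwa [this] at h
    obtain ⟨V, hxV, hV⟩ := PartialNull.step β (k + m) (hE _) (hC _) h' x
    obtain ⟨W, i, hi, hxi, hW⟩ := ih (↑V) ⟨x, hxV⟩ ((resCx V.ι).obj E) ((resCx V.ι).obj C)
      ((resCx V.ι).map β) k (fun n => isFinLocFree_restrict V.ι _ (hE n))
      (fun n => exactAt_restrict V.ι C n (hC n)) hV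
    refine ⟨W, i ≫ V.ι, inferInstance, ?_, PartialNull.comp i V.ι β k hW⟩
    obtain ⟨w, hw⟩ := hxi
    exact ⟨w, by
      change V.ι (i w) = x
      rw [hw]
      rfl⟩

lemma homotopy_of_partialNull {U : Scheme.{u}} {E C : CochainComplex U.Modules ℤ} (β : E ⟶ C)
    (a : ℤ) (hE : ∀ i < a, IsZero (E.X i)) (h : PartialNull β a) : Nonempty (Homotopy β 0) := by
  classical
  obtain ⟨h, hh⟩ := h
  refine ⟨{ hom := fun i j => if j + 1 = i then h i j else 0
            zero := fun i j hij => by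
              have : ¬ (j + 1 = i) := hij
              simp [this]
            comm := fun i => ?_ }⟩
  by_cases hi : i < a
  · exact (hE i hi).eq_of_src _ _
  · rw [dNext_eq _ (show (ComplexShape.up ℤ).Rel i (i + 1) from rfl),
      prevD_eq _ (show (ComplexShape.up ℤ).Rel (i - 1) i by simp)]
    simp only [if_pos, sub_add_cancel, HomologicalComplex.zero_f, add_zero]
    rw [hh (i - 1) i (i + 1) (by omega) rfl (by omega)]
    abel

theorem exists_nullHomotopy_restrict (U : Scheme.{u}) (x : U)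
    (E C : CochainComplex U.Modules ℤ) (β : E ⟶ C) (hE : DCoh.IsStrictlyPerfect E)
    (hC : ∀ n, C.ExactAt n) :
    ∃ (W : Scheme.{u}) (i : W ⟶ U) (_ : IsOpenImmersion i), x ∈ Set.range i ∧
      Nonempty (Homotopy ((resCx i).map β) 0) := by
  obtain ⟨⟨a, b, hab⟩, hfree⟩ := hE
  have h0 : PartialNull β (a + ((b + 1 - a).toNat : ℤ)) := by
    refine ⟨fun _ _ => 0, fun i₀ i₁ i₂ _ _ hi => ?_⟩
    exact (hab i₁ (Or.inr (by omega))).eq_of_src _ _
  obtain ⟨W, i, hi, hxi, hW⟩ := PartialNull.iterate _ U x E C β a hfree hC h0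
  refine ⟨W, i, hi, hxi, homotopy_of_partialNull _ a (fun n hn => ?_) hW⟩
  exact (Scheme.Modules.restrictFunctor i).map_isZero (hab n (Or.inl hn))

end Groth.Agent.H4.PSch1
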