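import Mathlib
import Groth.Agent.H4.PSch1

set_option autoImplicit false
universe u
attribute [local instance] HasDerivedCategory.standard
open CategoryTheory CategoryTheory.Limits AlgebraicGeometry Groth.Agent.LD.QC DerivedCategory
open Groth.Agent.H4.PSch1 Pretriangulated

namespace Groth.Agent.H4.PSch2

section RD

variable {U W : Scheme.{u}} (j : W ⟶ U) [IsOpenImmersion j]

/-- derived restriction along an open immersion -/
noncomputable abbrev RD : DCoh.D U ⥤ DCoh.D W :=
  (Scheme.Modules.restrictFunctor j).mapDerivedCategory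

/-- derived restriction on representatives -/
noncomputable def RDfac (F : CochainComplex U.Modules ℤ) :
    (RD j).obj (Q.obj F) ≅ Q.obj ((resCx j).obj F) :=
  (Scheme.Modules.restrictFunctor j).mapDerivedCategoryFactors.app F

lemma RD_map_Q {F G : CochainComplex U.Modules ℤ} (f : F ⟶ G) :
    (RD j).map (Q.map f) = (RDfac j F).hom ≫ Q.map ((resCx j).map f) ≫ (RDfac j G).inv := by
  have h := (Scheme.Modules.restrictFunctor j).mapDerivedCategoryFactors_hom_naturality f
  rw [← Category.assoc, Iso.eq_comp_inv]
  exact h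

end RD

/-- the cone of a quasi-isomorphism is acyclic -/
lemma exactAt_mappingCone {U : Scheme.{u}} {X' E : CochainComplex U.Modules ℤ} (s : X' ⟶ E)
    (hs : IsIso (Q.map s)) (n : ℤ) : (CochainComplex.mappingCone s).ExactAt n := by
  have hT := mappingCone_triangle_distinguished s
  have hz : IsZero (Q.obj (CochainComplex.mappingCone s)) :=
    (Triangle.isZero₃_iff_isIso₁ _ hT).2 hs
  rw [HomologicalComplex.exactAt_iff_isZero_homology]
  exact IsZero.of_iso ((homologyFunctor U.Modules n).map_isZero hz)
    ((homologyFunctorFactors U.Modules n).app _).symm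

/-- a morphism in the derived category out of a strictly perfect complex is locally
represented by a chain map -/
theorem exists_chainMap_restrict (U : Scheme.{u}) (x : U)
    (E₁ E₂ : CochainComplex U.Modules ℤ) (hE₁ : DCoh.IsStrictlyPerfect E₁)
    (α : Q.obj E₁ ⟶ Q.obj E₂) :
    ∃ (W : Scheme.{u}) (i : W ⟶ U) (_ : IsOpenImmersion i), x ∈ Set.range i ∧
      ∃ g : (resCx i).obj E₁ ⟶ (resCx i).obj E₂,
        (RD i).map α = (RDfac i E₁).hom ≫ Q.map g ≫ (RDfac i E₂).inv := by
  obtain ⟨X', s, hs, g₀, hα⟩ := DerivedCategory.right_fac α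
  have hC : ∀ n, (CochainComplex.mappingCone s).ExactAt n := exactAt_mappingCone s hs
  obtain ⟨W, i, hi, hxi, ⟨H⟩⟩ := exists_nullHomotopy_restrict U x E₁ _
    (CochainComplex.mappingCone.inr s) hE₁ hC
  refine ⟨W, i, hi, hxi, ?_⟩
  let R := Scheme.Modules.restrictFunctor i
  let s' : (resCx i).obj X' ⟶ (resCx i).obj E₁ := (resCx i).map s
  -- `inr s'` vanishes in the homotopy category
  have h0 : (HomotopyCategory.quotient _ _).map (CochainComplex.mappingCone.inr s') = 0 := by
    have h1 := CochainComplex.mappingCone.map_inr s R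
    have h2 : (HomotopyCategory.quotient _ _).map
        ((resCx i).map (CochainComplex.mappingCone.inr s)) = 0 := by
      rw [HomotopyCategory.eq_of_homotopy _ _ H]
      simp
    have h3 : CochainComplex.mappingCone.inr s' =
        (resCx i).map (CochainComplex.mappingCone.inr s) ≫
          (CochainComplex.mappingCone.mapHomologicalComplexIso s R).hom := h1.symm
    rw [h3, Functor.map_comp, h2, zero_comp]
  have hT := HomotopyCategory.mappingCone_triangleh_distinguished s'
  have key : ∃ tbar : (HomotopyCategory.quotient W.Modules (ComplexShape.up ℤ)).obj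
        ((resCx i).obj E₁) ⟶ (HomotopyCategory.quotient W.Modules (ComplexShape.up ℤ)).obj
        ((resCx i).obj X'),
      𝟙 _ = tbar ≫ (HomotopyCategory.quotient W.Modules (ComplexShape.up ℤ)).map s' :=
    Pretriangulated.Triangle.coyoneda_exact₂ _ hT
      (𝟙 ((HomotopyCategory.quotient _ _).obj ((resCx i).obj E₁)))
      ((Category.id_comp _).trans h0)
  obtain ⟨tbar, htbar⟩ := key
  obtain ⟨t, ht⟩ : ∃ t : (resCx i).obj E₁ ⟶ (resCx i).obj X',
      (HomotopyCategory.quotient W.Modules (ComplexShape.up ℤ)).map t = tbar :=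
    (HomotopyCategory.quotient W.Modules (ComplexShape.up ℤ)).map_surjective tbar
  subst ht
  have hts : Q.map t ≫ Q.map s' = 𝟙 (Q.obj ((resCx i).obj E₁)) := by
    rw [← Q.map_comp, ← Q.map_id]
    apply Q_map_eq_of_homotopy
    apply HomotopyCategory.homotopyOfEq
    rw [Functor.map_comp, CategoryTheory.Functor.map_id]
    exact htbar.symm
  refine ⟨t ≫ (resCx i).map g₀, ?_⟩
  have hα' : Q.map s ≫ α = Q.map g₀ := by
    rw [hα, IsIso.hom_inv_id_assoc]
  have h5 := congrArg (fun f => (RD i).map f) hα'
  simp only [Functor.map_comp] at h5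
  rw [RD_map_Q, RD_map_Q] at h5
  have h6 : Q.map s' ≫ (RDfac i E₁).inv ≫ (RD i).map α =
      Q.map ((resCx i).map g₀) ≫ (RDfac i E₂).inv := by
    rw [← cancel_epi (RDfac i X').hom]
    simpa only [Category.assoc] using h5
  have h7 : (RDfac i E₁).inv ≫ (RD i).map α =
      Q.map t ≫ Q.map ((resCx i).map g₀) ≫ (RDfac i E₂).inv := by
    rw [← h6, ← Category.assoc (Q.map t), hts, Category.id_comp]
  rw [Q.map_comp, Category.assoc, ← h7, Iso.hom_inv_id_assoc]

end Groth.Agent.H4.PSch2
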