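import Mathlib
import Groth.Agent.H4.PSch2

set_option autoImplicit false
universe u
attribute [local instance] HasDerivedCategory.standard
open CategoryTheory CategoryTheory.Limits AlgebraicGeometry Groth.Agent.LD.QC DerivedCategory
open Groth.Agent.H4.PSch1 Groth.Agent.H4.PSch2 Pretriangulated

namespace Groth.Agent.H4.PSch3

section Basic

variable {X U W : Scheme.{u}}

lemma isStrictlyPerfect_restrict (i : W ⟶ U) [IsOpenImmersion i]
    (E : CochainComplex U.Modules ℤ) (hE : DCoh.IsStrictlyPerfect E) :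
    DCoh.IsStrictlyPerfect ((resCx i).obj E) := by
  obtain ⟨⟨a, b, hab⟩, hfree⟩ := hE
  exact ⟨⟨a, b, fun n hn => (Scheme.Modules.restrictFunctor i).map_isZero (hab n hn)⟩,
    fun n => isFinLocFree_restrict i _ (hfree n)⟩

/-- derived restriction along a composition, on objects -/
lemma nonempty_RD_comp_obj (i : W ⟶ U) (j : U ⟶ X) [IsOpenImmersion i] [IsOpenImmersion j]
    (K : DCoh.D X) : Nonempty ((RD (i ≫ j)).obj K ≅ (RD i).obj ((RD j).obj K)) := by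
  let F := Q.objPreimage K
  have e : Q.obj F ≅ K := Q.objObjPreimageIso K
  exact ⟨(RD (i ≫ j)).mapIso e.symm ≪≫ RDfac (i ≫ j) F ≪≫ Q.mapIso ((resCxComp i j).app F) ≪≫
    (RDfac i _).symm ≪≫ (RD i).mapIso (RDfac j F).symm ≪≫ (RD i).mapIso ((RD j).mapIso e)⟩

/-- shrinking -/
lemma nonempty_RD_iso_shrink (i : W ⟶ U) (j : U ⟶ X) (j' : W ⟶ X) [IsOpenImmersion i]
    [IsOpenImmersion j] [IsOpenImmersion j'] (h : j' = i ≫ j) (K : DCoh.D X)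
    (E : CochainComplex U.Modules ℤ) (e : (RD j).obj K ≅ Q.obj E) :
    Nonempty ((RD j').obj K ≅ Q.obj ((resCx i).obj E)) := by
  subst h
  obtain ⟨e1⟩ := nonempty_RD_comp_obj i j K
  exact ⟨e1 ≪≫ (RD i).mapIso e ≪≫ RDfac i E⟩

/-- perfectness at a point, in terms of derived restriction -/
def PerfAt (K : DCoh.D X) (x : X) : Prop :=
  ∃ (U : Scheme.{u}) (j : U ⟶ X) (_ : IsOpenImmersion j) (E : CochainComplex U.Modules ℤ),
    x ∈ Set.range j ∧ DCoh.IsStrictlyPerfect E ∧ Nonempty ((RD j).obj K ≅ Q.obj E)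

lemma PerfAt.of_iso {K L : DCoh.D X} (e : K ≅ L) (x : X) (h : PerfAt K x) : PerfAt L x := by
  obtain ⟨U, j, hj, E, hx, hE, ⟨e1⟩⟩ := h
  exact ⟨U, j, hj, E, hx, hE, ⟨(RD j).mapIso e.symm ≪≫ e1⟩⟩

theorem isPerfect_iff_perfAt (K : DCoh.D X) : DCoh.IsPerfect K ↔ ∀ x, PerfAt K x := by
  constructor
  · intro h x
    obtain ⟨V, hxV, hV⟩ := h x
    let F := Q.objPreimage K
    have e : Q.obj F ≅ K := Q.objObjPreimageIso K
    obtain ⟨E, hE, ⟨e1⟩⟩ := hV F ⟨e⟩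
    refine ⟨↑V, V.ι, inferInstance, E, ?_, hE, ⟨(RD V.ι).mapIso e.symm ≪≫ RDfac V.ι F ≪≫ e1⟩⟩
    rw [Scheme.Opens.range_ι]
    exact hxV
  · intro h x
    obtain ⟨U, j, hj, E, hx, hE, ⟨e1⟩⟩ := h x
    refine ⟨j.opensRange, hx, ?_⟩
    intro F ⟨eF⟩
    have key : ∀ (ι' : ↑j.opensRange ⟶ X) [IsOpenImmersion ι'], ι' = j.isoOpensRange.inv ≫ j →
        ∃ E' : CochainComplex (↑j.opensRange : Scheme.{u}).Modules ℤ, DCoh.IsStrictlyPerfect E' ∧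
          Nonempty (Q.obj ((resCx ι').obj F) ≅ Q.obj E') := by
      intro ι' _ hι'
      obtain ⟨e2⟩ := nonempty_RD_iso_shrink j.isoOpensRange.inv j ι' hι' K E e1
      exact ⟨_, isStrictlyPerfect_restrict _ E hE,
        ⟨(RDfac ι' F).symm ≪≫ (RD ι').mapIso eF ≪≫ e2⟩⟩
    exact key j.opensRange.ι (Scheme.Hom.isoOpensRange_inv_comp j).symm

end Basic

section TwoOfThree

variable {X : Scheme.{u}}

theorem PerfAt.obj₃ (T : Triangle (DCoh.D X)) (hT : T ∈ distTriang _) (x : X)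
    (h₁ : PerfAt T.obj₁ x) (h₂ : PerfAt T.obj₂ x) : PerfAt T.obj₃ x := by
  obtain ⟨U₁, j₁, hj₁, E₁, hx₁, hE₁, ⟨e₁⟩⟩ := h₁
  obtain ⟨U₂, j₂, hj₂, E₂, hx₂, hE₂, ⟨e₂⟩⟩ := h₂
  -- common refinement
  let U := pullback j₁ j₂
  let p₁ : U ⟶ U₁ := pullback.fst j₁ j₂
  let p₂ : U ⟶ U₂ := pullback.snd j₁ j₂
  let j : U ⟶ X := p₁ ≫ j₁
  have hj2 : j = p₂ ≫ j₂ := pullback.condition
  have hxj : x ∈ Set.range j := by
    rw [IsOpenImmersion.range_pullback_to_base_of_left]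
    exact ⟨hx₁, hx₂⟩
  obtain ⟨u, hu⟩ := hxj
  obtain ⟨eK⟩ := nonempty_RD_iso_shrink p₁ j₁ j rfl T.obj₁ E₁ e₁
  obtain ⟨eL⟩ := nonempty_RD_iso_shrink p₂ j₂ j hj2 T.obj₂ E₂ e₂
  have hE₁' := isStrictlyPerfect_restrict p₁ E₁ hE₁
  have hE₂' := isStrictlyPerfect_restrict p₂ E₂ hE₂
  let α : Q.obj ((resCx p₁).obj E₁) ⟶ Q.obj ((resCx p₂).obj E₂) :=
    eK.inv ≫ (RD j).map T.mor₁ ≫ eL.hom
  obtain ⟨W, i, hi, hui, g, hg⟩ := exists_chainMap_restrict U u _ _ hE₁' α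
  -- the two distinguished triangles
  let T' : Triangle (DCoh.D W) := (RD i).mapTriangle.obj ((RD j).mapTriangle.obj T)
  have hT' : T' ∈ distTriang _ :=
    (RD i).map_distinguished _ ((RD j).map_distinguished _ hT)
  let T'' : Triangle (DCoh.D W) := Q.mapTriangle.obj (CochainComplex.mappingCone.triangle g)
  have hT'' : T'' ∈ distTriang _ := mappingCone_triangle_distinguished g
  let a₁ : T'.obj₁ ≅ T''.obj₁ := (RD i).mapIso eK ≪≫ RDfac i _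
  let a₂ : T'.obj₂ ≅ T''.obj₂ := (RD i).mapIso eL ≪≫ RDfac i _
  have hα : (RD j).map T.mor₁ = eK.hom ≫ α ≫ eL.inv := by
    simp [α]
  have comm : T'.mor₁ ≫ a₂.hom = a₁.hom ≫ T''.mor₁ := by
    change (RD i).map ((RD j).map T.mor₁) ≫ (RD i).map eL.hom ≫ (RDfac i _).hom =
      ((RD i).map eK.hom ≫ (RDfac i _).hom) ≫ Q.map g
    rw [hα, Functor.map_comp, Functor.map_comp, hg]
    simp only [Category.assoc]
    rw [← Functor.map_comp_assoc (RD i) eL.inv eL.hom, Iso.inv_hom_id,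
      CategoryTheory.Functor.map_id, Category.id_comp, Iso.inv_hom_id, Category.comp_id]
  let a := isoTriangleOfIso₁₂ T' T'' hT' hT'' a₁ a₂ comm
  have a₃ : T'.obj₃ ≅ T''.obj₃ := Triangle.π₃.mapIso a
  obtain ⟨e3⟩ := nonempty_RD_comp_obj i j T.obj₃
  refine ⟨W, i ≫ j, inferInstance, CochainComplex.mappingCone g, ?_,
    Groth.Agent.H3.SPerf.cone_perf g (isStrictlyPerfect_restrict i _ hE₁')
      (isStrictlyPerfect_restrict i _ hE₂'), ⟨e3 ≪≫ a₃⟩⟩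
  obtain ⟨w, hw⟩ := hui
  exact ⟨w, by
    change j (i w) = x
    rw [hw, hu]⟩

lemma isStrictlyPerfect_shift {U : Scheme.{u}} (E : CochainComplex U.Modules ℤ)
    (hE : DCoh.IsStrictlyPerfect E) (n : ℤ) : DCoh.IsStrictlyPerfect (E⟦n⟧) := by
  obtain ⟨⟨a, b, hab⟩, hfree⟩ := hE
  refine ⟨⟨a - n, b - n, fun i hi => ?_⟩, fun i => ?_⟩
  · exact hab (i + n) (by omega)
  · exact hfree (i + n)

theorem PerfAt.shift (K : DCoh.D X) (x : X) (n : ℤ) (h : PerfAt K x) : PerfAt (K⟦n⟧) x := by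
  obtain ⟨U, j, hj, E, hx, hE, ⟨e⟩⟩ := h
  exact ⟨U, j, hj, E⟦n⟧, hx, isStrictlyPerfect_shift E hE n,
    ⟨((RD j).commShiftIso n).app K ≪≫ (shiftFunctor (DCoh.D U) n).mapIso e ≪≫
      ((Q.commShiftIso n).app E).symm⟩⟩

theorem PerfAt.two_out_of_three (T : Triangle (DCoh.D X)) (hT : T ∈ distTriang _) (x : X) :
    (PerfAt T.obj₁ x → PerfAt T.obj₂ x → PerfAt T.obj₃ x) ∧
    (PerfAt T.obj₁ x → PerfAt T.obj₃ x → PerfAt T.obj₂ x) ∧
    (PerfAt T.obj₂ x → PerfAt T.obj₃ x → PerfAt T.obj₁ x) := by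
  refine ⟨PerfAt.obj₃ T hT x, ?_, ?_⟩
  · intro h1 h3
    exact PerfAt.obj₃ T.invRotate (inv_rot_of_distTriang _ hT) x (PerfAt.shift _ x (-1) h3) h1
  · intro h2 h3
    have h := PerfAt.obj₃ T.rotate (rot_of_distTriang _ hT) x h2 h3
    have h' := PerfAt.shift _ x (-1) h
    exact PerfAt.of_iso ((shiftEquiv (DCoh.D X) (1 : ℤ)).unitIso.symm.app T.obj₁) x h'

theorem S0887 (T : Triangle (DCoh.D X)) (hT : T ∈ distTriang _) :
    (DCoh.IsPerfect T.obj₁ → DCoh.IsPerfect T.obj₂ → DCoh.IsPerfect T.obj₃) ∧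
    (DCoh.IsPerfect T.obj₁ → DCoh.IsPerfect T.obj₃ → DCoh.IsPerfect T.obj₂) ∧
    (DCoh.IsPerfect T.obj₂ → DCoh.IsPerfect T.obj₃ → DCoh.IsPerfect T.obj₁) := by
  simp only [isPerfect_iff_perfAt]
  exact ⟨fun h1 h2 x => (PerfAt.two_out_of_three T hT x).1 (h1 x) (h2 x),
    fun h1 h3 x => (PerfAt.two_out_of_three T hT x).2.1 (h1 x) (h3 x),
    fun h2 h3 x => (PerfAt.two_out_of_three T hT x).2.2 (h2 x) (h3 x)⟩

end TwoOfThree

end Groth.Agent.H4.PSch3
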