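import Mathlib
import Groth.Agent.H4.PSch3
import Groth.Agent.H4.K0Coh
import Groth.Agent.Lib.Lead.QC.LocFree
import Groth.Agent.Lib.Lead.QC.Local
import Groth.Agent.Lib.Lead.QC.SuppPullback
import Groth.Agent.Lib.Lead.QC.SubExtRestrict

set_option autoImplicit false
universe u
attribute [local instance] HasDerivedCategory.standard
open CategoryTheory CategoryTheory.Limits AlgebraicGeometry Groth.Agent.LD.QC DerivedCategory
open Groth.Agent.H4.PSch1 Groth.Agent.H4.PSch2 Groth.Agent.H4.PSch3 Pretriangulated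

namespace Groth.Agent.H4.PSch4

section Homology

variable {X U : Scheme.{u}} (j : U ⟶ X) [IsOpenImmersion j]

/-- homology of a restricted complex -/
noncomputable def homologyResIso (G : CochainComplex X.Modules ℤ) (n : ℤ) :
    ((resCx j).obj G).homology n ≅ (Scheme.Modules.restrictFunctor j).obj (G.homology n) :=
  (G.sc n).mapHomologyIso (Scheme.Modules.restrictFunctor j)

/-- homology commutes with derived restriction -/
lemma nonempty_homology_RD_iso (K : DCoh.D X) (n : ℤ) :
    Nonempty ((homologyFunctor U.Modules n).obj ((RD j).obj K) ≅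
      (Scheme.Modules.restrictFunctor j).obj ((homologyFunctor X.Modules n).obj K)) := by
  let G := Q.objPreimage K
  have e : Q.obj G ≅ K := Q.objObjPreimageIso K
  exact ⟨(homologyFunctor U.Modules n).mapIso ((RD j).mapIso e.symm ≪≫ RDfac j G) ≪≫
    (homologyFunctorFactors U.Modules n).app _ ≪≫ homologyResIso j G n ≪≫
    (Scheme.Modules.restrictFunctor j).mapIso
      (((homologyFunctorFactors X.Modules n).app G).symm ≪≫
        (homologyFunctor X.Modules n).mapIso e)⟩

end Homology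

section Coh

variable {X : Scheme.{u}}

lemma isCoh_of_isFinLocFree (F : X.Modules) (h : FlatMod.IsFinLocFree F) : Coh.IsCoh F := by
  have hfp := isFinitePresentation_of_isFinLocFree F h
  refine ⟨qc_of_isFinLocFree F h, ?_⟩
  infer_instance

lemma isCoh_of_epi {M N : X.Modules} (p : M ⟶ N) [Epi p] (hM : Coh.IsCoh M)
    (hN : N.IsQuasicoherent) : Coh.IsCoh N :=
  ⟨hN, isFiniteType_of_epi p hM.1 hN hM.2⟩

variable [IsLocallyNoetherian X]

/-- the homology of a short complex with quasi-coherent terms and coherent middle term is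
coherent -/
lemma isCoh_homology (S : ShortComplex X.Modules) (h₁ : S.X₁.IsQuasicoherent)
    (h₂ : Coh.IsCoh S.X₂) (h₃ : S.X₃.IsQuasicoherent) : Coh.IsCoh S.homology := by
  have hc : Coh.IsCoh S.cycles :=
    Groth.Agent.H4.K0Coh.isCoh_of_mono S.iCycles h₂
      (qc_of_iso S.cyclesIsoKernel.symm (qc_kernel S.g h₂.1 h₃))
  have hq : S.homology.IsQuasicoherent := by
    have e : cokernel S.toCycles ≅ S.homology :=
      (IsColimit.coconePointUniqueUpToIso (colimit.isColimit _) S.homologyIsCokernel)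
    exact qc_of_iso e (qc_cokernel S.toCycles h₁ hc.1)
  exact isCoh_of_epi S.homologyπ hc hq

lemma isCoh_homology_of_isStrictlyPerfect (P : CochainComplex X.Modules ℤ)
    (hP : DCoh.IsStrictlyPerfect P) (n : ℤ) : Coh.IsCoh (P.homology n) :=
  isCoh_homology (P.sc n) (isCoh_of_isFinLocFree _ (hP.2 _)).1 (isCoh_of_isFinLocFree _ (hP.2 _))
    (isCoh_of_isFinLocFree _ (hP.2 _)).1

end Coh

section Local

variable {X : Scheme.{u}}

lemma isZero_of_local (M : X.Modules)
    (h : ∀ x : X, ∃ (U : Scheme.{u}) (j : U ⟶ X) (_ : IsOpenImmersion j),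
      x ∈ Set.range j ∧ IsZero (M.restrict j)) : IsZero M := by
  apply isZero_of_forall_sections
  intro W s
  apply section_eq_zero_of_germ
  intro x hx
  obtain ⟨U, j, _, ⟨y, rfl⟩, hz⟩ := h x
  have hle : j ''ᵁ (j ⁻¹ᵁ W) ≤ W := by
    rintro _ ⟨z, hz, rfl⟩; exact hz
  have hy : j y ∈ j ''ᵁ (j ⁻¹ᵁ W) := ⟨y, hx, rfl⟩
  have h0 : M.presheaf.map (homOfLE hle).op s = 0 :=
    section_eq_zero_of_isZero (M.restrict j) hz (U := j ⁻¹ᵁ W) (M.presheaf.map (homOfLE hle).op s)
  have := TopCat.Presheaf.germ_res_apply M.presheaf (homOfLE hle) (j y) hy s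
  rw [← this, h0, map_zero]

lemma isCoh_of_local (M : X.Modules)
    (h : ∀ x : X, ∃ (U : Scheme.{u}) (j : U ⟶ X) (_ : IsOpenImmersion j),
      x ∈ Set.range j ∧ Coh.IsCoh (M.restrict j)) : Coh.IsCoh M := by
  choose U j hj hx hc using h
  have hqc : M.IsQuasicoherent := by
    refine isQuasicoherent_of_isOpenCover M (fun x : X => (j x).opensRange) ?_ ?_
    · rw [TopologicalSpace.IsOpenCover, eq_top_iff]
      intro x _
      exact TopologicalSpace.Opens.mem_iSup.mpr ⟨x, hx x⟩
    · intro x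
      haveI := (hc x).1
      haveI : ((M.restrict (j x)).restrict (j x).isoOpensRange.inv).IsQuasicoherent :=
        qc_restrict _ _
      exact qc_of_iso (restrictOpensRangeIso (j x) M) inferInstance
  refine ⟨hqc, ?_⟩
  haveI := hqc
  apply isFiniteType_of_finite_sections
  intro x
  obtain ⟨y, hy⟩ := hx x
  obtain ⟨W', hW', hyW', -⟩ := exists_isAffineOpen_mem_and_subset (x := y) (U := ⊤) trivial
  haveI := (hc x).1
  refine ⟨(j x) ''ᵁ W', hW'.image_of_isOpenImmersion (j x), ⟨y, hyW', hy⟩, ?_⟩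
  exact restrict_sections_finite (j x) M W'
    (finite_sections_of_isFiniteType (M.restrict (j x)) (hc x).2 hW')

end Local

section Main

variable {X : Scheme.{u}}

/-- local structure of the cohomology sheaves of an object which is locally strictly perfect -/
lemma nonempty_homology_restrict_iso {U : Scheme.{u}} (j : U ⟶ X) [IsOpenImmersion j]
    (K : DCoh.D X) (P : CochainComplex U.Modules ℤ) (e : (RD j).obj K ≅ Q.obj P) (n : ℤ) :
    Nonempty ((DCoh.HD K n).restrict j ≅ P.homology n) := by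
  obtain ⟨e₁⟩ := nonempty_homology_RD_iso j K n
  exact ⟨e₁.symm ≪≫ (homologyFunctor U.Modules n).mapIso e ≪≫
    (homologyFunctorFactors U.Modules n).app P⟩

lemma isCoh_of_iso {M N : X.Modules} (e : M ≅ N) (h : Coh.IsCoh M) : Coh.IsCoh N :=
  haveI := h.1
  ⟨qc_of_iso e h.1, isFiniteType_of_iso e h.2⟩

theorem isCohD_of_isPerfect [IsLocallyNoetherian X] (E : DCoh.D X) (hE : DCoh.IsPerfect E) :
    DCoh.IsCohD E := by
  intro n
  apply isCoh_of_local
  intro x
  obtain ⟨U, j, hj, P, hx, hP, ⟨e⟩⟩ := (isPerfect_iff_perfAt E).mp hE x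
  obtain ⟨e'⟩ := nonempty_homology_restrict_iso j E P e n
  haveI : IsLocallyNoetherian U := isLocallyNoetherian_of_isOpenImmersion j
  exact ⟨U, j, hj, hx, isCoh_of_iso e'.symm (isCoh_homology_of_isStrictlyPerfect P hP n)⟩

theorem bounded_of_isPerfect [CompactSpace X] (E : DCoh.D X) (hE : DCoh.IsPerfect E) :
    ∃ a b : ℤ, E.IsGE a ∧ E.IsLE b := by
  have h := (isPerfect_iff_perfAt E).mp hE
  choose U j hj P hx hP e using h
  have hab : ∀ x, ∃ a b : ℤ, DCoh.VanishesOutside (P x) a b := fun x => (hP x).1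
  choose a b hab using hab
  obtain ⟨t, ht⟩ := isCompact_univ.elim_finite_subcover (fun x : X => ((j x).opensRange : Set X))
    (fun x => (j x).opensRange.isOpen) (fun x _ => Set.mem_iUnion.mpr ⟨x, hx x⟩)
  obtain ⟨a₀, ha₀⟩ := (t.image (fun x => - a x)).exists_le
  obtain ⟨b₀, hb₀⟩ := (t.image b).exists_le
  have key : ∀ i : ℤ, (i < -a₀ ∨ b₀ < i) → IsZero (DCoh.HD E i) := by
    intro i hi
    apply isZero_of_local
    intro y
    obtain ⟨x, hxt, hy⟩ : ∃ x ∈ t, y ∈ Set.range (j x) := by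
      have := ht (Set.mem_univ y)
      simpa using this
    obtain ⟨e'⟩ := nonempty_homology_restrict_iso (j x) E (P x) (e x).some i
    refine ⟨U x, j x, hj x, hy, IsZero.of_iso ?_ e'⟩
    have h1 : - a x ≤ a₀ := ha₀ _ (Finset.mem_image_of_mem _ hxt)
    have h2 : b x ≤ b₀ := hb₀ _ (Finset.mem_image_of_mem _ hxt)
    have hz : IsZero ((P x).X i) := hab x i (by omega)
    exact ShortComplex.isZero_homology_of_isZero_X₂ _ hz
  refine ⟨-a₀, b₀, ?_, ?_⟩
  · rw [DerivedCategory.isGE_iff]
    intro i hi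
    exact key i (Or.inl hi)
  · rw [DerivedCategory.isLE_iff]
    intro i hi
    exact key i (Or.inr hi)

theorem S1006 (X : Scheme.{u}) [IsNoetherian X] (E : DCoh.D X) (hE : DCoh.IsPerfect E) :
    DCoh.IsCohD E ∧ ∃ a b : ℤ, E.IsGE a ∧ E.IsLE b :=
  ⟨isCohD_of_isPerfect E hE, bounded_of_isPerfect E hE⟩

end Main

end Groth.Agent.H4.PSch4
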