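import Mathlib
import Groth.Agent.H4.PSch4
import Groth.Agent.Lib.Helper2.KThick3
import Groth.Agent.Lib.Lead.QC.Gen

set_option autoImplicit false
universe u
attribute [local instance] HasDerivedCategory.standard
open CategoryTheory CategoryTheory.Limits AlgebraicGeometry Groth.Agent.LD.QC DerivedCategory
open Groth.Agent.H4.PSch1 Groth.Agent.H4.PSch2 Groth.Agent.H4.PSch3 Groth.Agent.H4.PSch4
open Pretriangulated Groth.Agent.H2.KThick Groth.Agent.H4.K0Coh
open scoped ZeroObject

namespace Groth.Agent.H4.PSch5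

section Supp

variable {X : Scheme.{u}}

lemma stalk_injective_of_mono {N M : X.Modules} (i : N ⟶ M) [Mono i] (x : X) :
    Function.Injective
      ((TopCat.Presheaf.stalkFunctor Ab x).map (Scheme.Modules.Hom.mapPresheaf i)) := by
  apply TopCat.Presheaf.stalkFunctor_map_injective_of_app_injective
  intro U
  exact mono_app i U

lemma support_subset_of_mono {N M : X.Modules} (i : N ⟶ M) [Mono i] :
    CohB1.support N ⊆ CohB1.support M := by
  intro x hx hM
  have hM' : Subsingleton ↑((TopCat.Presheaf.stalkFunctor Ab x).obj M.presheaf) := hM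
  exact hx ((stalk_injective_of_mono i x).subsingleton)

variable (X) in
/-- coherent modules supported in `Y'` -/
def PY (Y' : Set X) : ObjectProperty X.Modules :=
  fun G => Coh.IsCoh G ∧ CohB1.support G ⊆ Y'

variable (Y' : Set X)

lemma support_of_isZero {Z : X.Modules} (hZ : IsZero Z) : CohB1.support Z ⊆ Y' := by
  intro x hx
  exact absurd (subsingleton_stalk_of_isZero Z hZ x) hx

variable [IsLocallyNoetherian X]

instance : (PY X Y').IsClosedUnderIsomorphisms :=
  ⟨fun e h => ⟨(PCoh X).prop_of_iso e h.1, (support_subset_of_mono e.inv).trans h.2⟩⟩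

omit [IsLocallyNoetherian X] in
instance : (PY X Y').ContainsZero :=
  ⟨⟨0, isZero_zero _, isCoh_of_isZero (isZero_zero _), support_of_isZero Y' (isZero_zero _)⟩⟩

instance : (PY X Y').IsClosedUnderKernels := by
  refine ⟨?_⟩
  rintro _ ⟨f, k, hk, ⟨h1, h2⟩⟩
  have e : k.pt ≅ kernel f := IsLimit.conePointUniqueUpToIso hk (limit.isLimit _)
  have hker : PY X Y' (kernel f) :=
    ⟨isCoh_of_mono (kernel.ι f) h1.1 (qc_kernel f h1.1.1 h2.1.1),
      (support_subset_of_mono (kernel.ι f)).trans h1.2⟩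
  exact (PY X Y').prop_of_iso e.symm hker

end Supp

section Perf

variable {X : Scheme.{u}}

lemma isZero_freeMod_zero (U : Scheme.{u}) : IsZero (FlatMod.freeMod U 0) := by
  rw [IsZero.iff_id_eq_zero]
  apply Sigma.hom_ext
  intro j
  exact Fin.elim0 j

lemma isFinLocFree_of_isZero {M : X.Modules} (hM : IsZero M) : FlatMod.IsFinLocFree M := by
  intro x
  exact ⟨⊤, 0, trivial,
    ⟨((Scheme.Modules.restrictFunctor _).map_isZero hM).iso (isZero_freeMod_zero _)⟩⟩

lemma isStrictlyPerfect_zero : DCoh.IsStrictlyPerfect (0 : CochainComplex X.Modules ℤ) := by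
  have h : ∀ i : ℤ, IsZero ((0 : CochainComplex X.Modules ℤ).X i) := fun i =>
    (HomologicalComplex.eval X.Modules (ComplexShape.up ℤ) i).map_isZero (isZero_zero _)
  exact ⟨⟨0, 0, fun i _ => h i⟩, fun i => isFinLocFree_of_isZero (h i)⟩

lemma isPerfect_of_isZero {K : DCoh.D X} (hK : IsZero K) : DCoh.IsPerfect K := by
  rw [isPerfect_iff_perfAt]
  intro x
  refine ⟨X, 𝟙 X, inferInstance, 0, ⟨x, rfl⟩, isStrictlyPerfect_zero, ⟨?_⟩⟩
  exact ((RD (𝟙 X)).map_isZero hK).iso (Q.map_isZero (isZero_zero _))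

lemma isPerfect_of_iso {K L : DCoh.D X} (e : K ≅ L) (hK : DCoh.IsPerfect K) :
    DCoh.IsPerfect L := by
  rw [isPerfect_iff_perfAt] at hK ⊢
  exact fun x => PerfAt.of_iso e x (hK x)

lemma isPerfect_shift (K : DCoh.D X) (n : ℤ) (hK : DCoh.IsPerfect K) :
    DCoh.IsPerfect (K⟦n⟧) := by
  rw [isPerfect_iff_perfAt] at hK ⊢
  exact fun x => PerfAt.shift K x n (hK x)

open Groth.Agent.H2.DTrunc in
theorem isPerfect_of_Q_aux (P : ObjectProperty X.Modules) [P.IsClosedUnderIsomorphisms]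
    [P.ContainsZero]
    (hperf : ∀ G : X.Modules, P G → DCoh.IsPerfect (DCoh.inD X G)) (n : ℕ) :
    ∀ (K : DCoh.D X) (a b : ℤ) (_ : tt.IsGE K a) (_ : tt.IsLE K b) (_ : b < a + n)
      (_ : Q P K), DCoh.IsPerfect K := by
  induction n with
  | zero =>
    intro K a b _ _ hab hK
    have hz : IsZero K := tt.isZero K b a (by simpa using hab)
    exact isPerfect_of_isZero hz
  | succ n ih =>
    intro K a b _ _ hab hK
    have hT := tt.triangleLTGE_distinguished b K
    have h₁ : Q P ((tt.truncLT b).obj K) := Q_truncLT P hK b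
    have h₃ : Q P ((tt.truncGE b).obj K) := Q_truncGE P hK b
    have e₁ := ih ((tt.truncLT b).obj K) a (b - 1) inferInstance inferInstance
      (by push_cast at hab; omega) h₁
    obtain ⟨Y, ⟨e⟩⟩ := exists_iso_singleFunctor_obj_of_isGE_of_isLE ((tt.truncGE b).obj K) b
    have hY : P Y := by
      have h3 := (Q_of_iso P e h₃).1 b
      exact P.prop_of_iso (homologySingleIso Y b) h3
    have hY0 : DCoh.IsPerfect ((DerivedCategory.singleFunctor X.Modules 0).obj Y) := hperf Y hY
    have eY : ((DerivedCategory.singleFunctor X.Modules 0).obj Y)⟦-b⟧ ≅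
        (DerivedCategory.singleFunctor X.Modules b).obj Y :=
      ((DerivedCategory.singleFunctors X.Modules).shiftIso (-b) b 0 (by omega)).app Y
    have e₃ : DCoh.IsPerfect ((tt.truncGE b).obj K) :=
      isPerfect_of_iso (eY ≪≫ e.symm) (isPerfect_shift _ (-b) hY0)
    exact (S0887 _ hT).2.1 e₁ e₃

theorem S14007 (X : Scheme.{u}) [IsNoetherian X]
    (Y' : Set X) (hY' : IsClosed Y')
    (hperf : ∀ G : X.Modules, Coh.IsCoh G → CohB1.support G ⊆ Y' →
      DCoh.IsPerfect (DCoh.inD X G)) :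
    ∃ φ : KZero.K0sub (fun G : X.Modules => Coh.IsCoh G ∧ CohB1.support G ⊆ Y') ≃+
        KZero.K0tr (fun K : DCoh.D X => DCoh.IsPerfect K ∧
          ∀ i : ℤ, CohB1.support (DCoh.HD K i) ⊆ Y'),
      ∀ G : X.Modules, Coh.IsCoh G → CohB1.support G ⊆ Y' →
        φ (KZero.clSub (fun G : X.Modules => Coh.IsCoh G ∧ CohB1.support G ⊆ Y') G) =
          KZero.clTr (fun K : DCoh.D X => DCoh.IsPerfect K ∧
            ∀ i : ℤ, CohB1.support (DCoh.HD K i) ⊆ Y') (DCoh.inD X G) := by
  have hP : (fun K : DCoh.D X => DCoh.IsPerfect K ∧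
      ∀ i : ℤ, CohB1.support (DCoh.HD K i) ⊆ Y') = Q (PY X Y') := by
    funext K
    apply propext
    constructor
    · rintro ⟨h1, h2⟩
      obtain ⟨hc, a, b, ha, hb⟩ := Groth.Agent.H4.PSch4.S1006 X K h1
      exact ⟨fun i => ⟨hc i, h2 i⟩, a, b, ha, hb⟩
    · intro hK
      refine ⟨?_, fun i => (hK.1 i).2⟩
      obtain ⟨h, a, b, ha, hb⟩ := hK
      exact isPerfect_of_Q_aux (PY X Y') (fun G hG => hperf G hG.1 hG.2) (b - a + 1).toNat K a b
        ha hb (by omega) ⟨h, a, b, ha, hb⟩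
  rw [hP]
  obtain ⟨φ, hφ⟩ := Groth.Agent.H2.KThick.main (PY X Y')
  exact ⟨φ, fun G h1 h2 => hφ G ⟨h1, h2⟩⟩

end Perf

end Groth.Agent.H4.PSch5
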