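import Mathlib
import Groth.Agent.H4.PSch5
import Groth.Agent.Lib.Lead.QC.LocFree2

set_option autoImplicit false
universe u
attribute [local instance] HasDerivedCategory.standard
open CategoryTheory CategoryTheory.Limits AlgebraicGeometry Groth.Agent.LD.QC DerivedCategory
open Groth.Agent.H4.PSch1 Groth.Agent.H4.PSch2 Groth.Agent.H4.PSch3 Groth.Agent.H4.PSch4
open Groth.Agent.H4.PSch5

namespace Groth.Agent.H4.PSch6

variable {X : Scheme.{u}}

/-- simultaneous local trivialization of finitely many terms -/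
lemma exists_open_free (E : CochainComplex X.Modules ℤ)
    (hE : ∀ i, FlatMod.IsFinLocFree (E.X i)) (x : X) (s : Finset ℤ) :
    ∃ W : X.Opens, x ∈ W ∧ ∀ i ∈ s, ∃ n : ℕ,
      Nonempty ((E.X i).restrict W.ι ≅ FlatMod.freeMod W n) := by
  induction s using Finset.induction_on with
  | empty => exact ⟨⊤, trivial, by simp⟩
  | insert i s his ih =>
    obtain ⟨W, hxW, hW⟩ := ih
    obtain ⟨W', n, hxW', ⟨e⟩⟩ := hE i x
    refine ⟨W ⊓ W', ⟨hxW, hxW'⟩, ?_⟩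
    intro k hk
    rcases Finset.mem_insert.mp hk with rfl | hk
    · exact ⟨n, freeMod_of_range_subset _ W'.ι (W ⊓ W').ι
        (by simp only [Scheme.Opens.range_ι]; exact fun y hy => hy.2) n e⟩
    · obtain ⟨m, ⟨e'⟩⟩ := hW k hk
      exact ⟨m, freeMod_of_range_subset _ W.ι (W ⊓ W').ι
        (by simp only [Scheme.Opens.range_ι]; exact fun y hy => hy.1) m e'⟩

theorem S0923 (E : DCoh.D X) :
    DCoh.IsPerfect E ↔ ∀ x : X, ∃ V : X.Opens, x ∈ V ∧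
      ∀ F : CochainComplex X.Modules ℤ, Nonempty (DCoh.toD X F ≅ E) →
        ∃ (P : CochainComplex (V : Scheme.{u}).Modules ℤ) (a b : ℤ), DCoh.VanishesOutside P a b ∧
          (∀ i : ℤ, ∃ n : ℕ, Nonempty (P.X i ≅ FlatMod.freeMod (V : Scheme.{u}) n)) ∧
          Nonempty (DerivedCategory.Q.obj ((DCoh.restrictCx V).obj F) ≅
            DerivedCategory.Q.obj P) := by
  constructor
  · intro h x
    obtain ⟨V₀, hxV₀, hV₀⟩ := h x
    let F₀ := Q.objPreimage E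
    have eF₀ : Q.obj F₀ ≅ E := Q.objObjPreimageIso E
    obtain ⟨E₀, hE₀, ⟨e₀⟩⟩ := hV₀ F₀ ⟨eF₀⟩
    obtain ⟨⟨a, b, hab⟩, hfree⟩ := hE₀
    obtain ⟨W, hxW, hW⟩ := exists_open_free E₀ hfree (⟨x, hxV₀⟩ : V₀.toScheme) (Finset.Icc a b)
    have hVV₀ : V₀.ι ''ᵁ W ≤ V₀ := by
      rintro _ ⟨w, _, rfl⟩
      exact w.2
    let V : X.Opens := V₀.ι ''ᵁ W
    let i : V.toScheme ⟶ V₀.toScheme := X.homOfLE hVV₀
    have hi : V.ι = i ≫ V₀.ι := (X.homOfLE_ι hVV₀).symm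
    have hrange : Set.range i ⊆ Set.range W.ι := by
      rintro _ ⟨y, rfl⟩
      rw [Scheme.Opens.range_ι]
      obtain ⟨w, hw, hw'⟩ := y.2
      have h1 : V₀.ι (i y) = V.ι y := by
        rw [hi]; rfl
      have h2 : w = i y := V₀.ι.isOpenEmbedding.injective (hw'.trans h1.symm)
      rw [← h2]
      exact hw
    refine ⟨V, ⟨⟨x, hxV₀⟩, hxW, rfl⟩, ?_⟩
    intro F ⟨eF⟩
    have e1 : (RD V₀.ι).obj E ≅ Q.obj E₀ :=
      (RD V₀.ι).mapIso eF₀.symm ≪≫ RDfac V₀.ι F₀ ≪≫ e₀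
    obtain ⟨e2⟩ := nonempty_RD_iso_shrink i V₀.ι V.ι hi E E₀ e1
    refine ⟨(resCx i).obj E₀, a, b, ?_, ?_, ⟨(RDfac V.ι F).symm ≪≫ (RD V.ι).mapIso eF ≪≫ e2⟩⟩
    · intro n hn
      exact (Scheme.Modules.restrictFunctor i).map_isZero (hab n hn)
    · intro k
      by_cases hk : k ∈ Finset.Icc a b
      · obtain ⟨n, ⟨e⟩⟩ := hW k hk
        exact ⟨n, freeMod_of_range_subset (E₀.X k) W.ι i hrange n e⟩
      · have hz : IsZero (E₀.X k) := hab k (by
          rw [Finset.mem_Icc] at hk; omega)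
        exact ⟨0, ⟨((Scheme.Modules.restrictFunctor i).map_isZero hz).iso
          (isZero_freeMod_zero _)⟩⟩
  · intro h x
    obtain ⟨V, hxV, hV⟩ := h x
    refine ⟨V, hxV, fun F hF => ?_⟩
    obtain ⟨P, a, b, hab, hfree, hiso⟩ := hV F hF
    refine ⟨P, ⟨⟨a, b, hab⟩, fun i => ?_⟩, hiso⟩
    obtain ⟨n, ⟨e⟩⟩ := hfree i
    exact isFinLocFree_of_iso e.symm (isFinLocFree_freeMod _ n)

end Groth.Agent.H4.PSch6
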