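import Mathlib
import Groth.Agent.H4.PSch6

set_option autoImplicit false
universe u
attribute [local instance] HasDerivedCategory.standard
open CategoryTheory CategoryTheory.Limits AlgebraicGeometry Groth.Agent.LD.QC DerivedCategory
open Groth.Agent.H4.PSch1 Groth.Agent.H4.PSch2 Groth.Agent.H4.PSch3 Groth.Agent.H4.PSch4
open Groth.Agent.H4.PSch5 Groth.Agent.H4.PSch6

namespace Groth.Agent.H4.TilD1

variable {X : Scheme.{u}}

/-- on the open `j`, the complex `F` receives a quasi-isomorphism from a bounded complex with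
finite free terms -/
def LocFreeQI (F : CochainComplex X.Modules ℤ) {U : Scheme.{u}} (j : U ⟶ X)
    [IsOpenImmersion j] : Prop :=
  ∃ (P : CochainComplex U.Modules ℤ) (_ : P ⟶ (resCx j).obj F) (a b : ℤ),
    DCoh.VanishesOutside P a b ∧
      (∀ n, ∃ m : ℕ, Nonempty (P.X n ≅ FlatMod.freeMod U m)) ∧ QuasiIso ‹P ⟶ (resCx j).obj F›

instance {U W : Scheme.{u}} (i : W ⟶ U) [IsOpenImmersion i] :
    (Scheme.Modules.restrictFunctor i).PreservesHomology := by
  haveI : PreservesFiniteColimits (Scheme.Modules.restrictFunctor i) :=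
    PreservesColimitsOfSize.preservesFiniteColimits _
  infer_instance

lemma LocFreeQI.shrink {F : CochainComplex X.Modules ℤ} {U V : Scheme.{u}} (j : U ⟶ X)
    (l : V ⟶ U) (k : V ⟶ X) [IsOpenImmersion j] [IsOpenImmersion l] [IsOpenImmersion k]
    (hk : k = l ≫ j) (h : LocFreeQI F j) : LocFreeQI F k := by
  subst hk
  obtain ⟨P, g, a, b, hab, hfree, hg⟩ := h
  refine ⟨(resCx l).obj P, (resCx l).map g ≫ (resCxComp l j).inv.app F, a, b, ?_, ?_, ?_⟩
  · intro n hn
    exact (Scheme.Modules.restrictFunctor l).map_isZero (hab n hn)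
  · intro n
    obtain ⟨m, ⟨e⟩⟩ := hfree n
    exact ⟨m, ⟨(Scheme.Modules.restrictFunctor l).mapIso e ≪≫ restrictFreeModIso l m⟩⟩
  · haveI : QuasiIso ((resCx l).map g) := inferInstance
    infer_instance

theorem exists_locFreeQI_of_isPerfect (F : CochainComplex X.Modules ℤ)
    (h : DCoh.IsPerfect (Q.obj F)) (x : X) :
    ∃ (U : Scheme.{u}) (j : U ⟶ X) (_ : IsOpenImmersion j), x ∈ Set.range j ∧ LocFreeQI F j := by
  obtain ⟨U, j, hj, P, ⟨y, rfl⟩, hP, ⟨e⟩⟩ := (isPerfect_iff_perfAt _).mp h x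
  let α : Q.obj P ⟶ Q.obj ((resCx j).obj F) := e.inv ≫ (RDfac j F).hom
  haveI : IsIso α := by dsimp only [α]; infer_instance
  obtain ⟨W, i, hi, ⟨w, rfl⟩, g, hg⟩ := exists_chainMap_restrict U y P ((resCx j).obj F) hP α
  have hQg : IsIso (Q.map g) := by
    have : Q.map g = (RDfac i P).inv ≫ (RD i).map α ≫ (RDfac i _).hom := by
      rw [hg]; simp
    rw [this]; infer_instance
  have hqg : QuasiIso g := (DerivedCategory.isIso_Q_map_iff_quasiIso (φ := g)).mp hQg
  have hP₁ := isStrictlyPerfect_restrict i P hP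
  obtain ⟨⟨a, b, hab⟩, hfree⟩ := hP₁
  obtain ⟨W', hwW', hW'⟩ := exists_open_free ((resCx i).obj P) hfree w (Finset.Icc a b)
  refine ⟨W', W'.ι ≫ i ≫ j, inferInstance, ⟨⟨w, hwW'⟩, rfl⟩, ?_⟩
  refine ⟨(resCx W'.ι).obj ((resCx i).obj P),
    (resCx W'.ι).map (g ≫ (resCxComp i j).inv.app F) ≫ (resCxComp W'.ι (i ≫ j)).inv.app F,
    a, b, ?_, ?_, ?_⟩
  · intro n hn
    exact (Scheme.Modules.restrictFunctor W'.ι).map_isZero (hab n hn)
  · intro n
    by_cases hn : n ∈ Finset.Icc a b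
    · exact hW' n hn
    · have hz : IsZero (((resCx i).obj P).X n) := hab n (by
        rw [Finset.mem_Icc] at hn; omega)
      exact ⟨0, ⟨((Scheme.Modules.restrictFunctor W'.ι).map_isZero hz).iso
        (isZero_freeMod_zero _)⟩⟩
  · haveI : QuasiIso (g ≫ (resCxComp i j).inv.app F) := inferInstance
    haveI : QuasiIso ((resCx W'.ι).map (g ≫ (resCxComp i j).inv.app F)) := inferInstance
    infer_instance

end Groth.Agent.H4.TilD1
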