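import Mathlib
import Groth.Agent.H4.TilD1
import Groth.Agent.H4.TilD9

set_option autoImplicit false
universe u
attribute [local instance] HasDerivedCategory.standard
open CategoryTheory CategoryTheory.Limits AlgebraicGeometry Groth.Agent.LD.QC DerivedCategory
open Groth.Agent.H4.PSch1 Groth.Agent.H4.PSch2 Groth.Agent.H4.PSch3 Groth.Agent.H4.PSch4
open Groth.Agent.H4.PSch5 Groth.Agent.H4.PSch6 Groth.Agent.H4.TilD1 Groth.Agent.H4.TilD9

namespace Groth.Agent.H4.TilD10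

variable {X : Scheme.{u}}

/-- `m`-pseudo-coherence at a point, in terms of derived restriction -/
def PCAt (m : ℤ) (K : DCoh.D X) (x : X) : Prop :=
  ∃ (U : Scheme.{u}) (j : U ⟶ X) (_ : IsOpenImmersion j) (E : CochainComplex U.Modules ℤ)
    (α : Q.obj E ⟶ (RD j).obj K), x ∈ Set.range j ∧ DCoh.IsStrictlyPerfect E ∧ IsWitD m α

instance {U W : Scheme.{u}} (i : W ⟶ U) [IsOpenImmersion i] :
    PreservesFiniteColimits (Scheme.Modules.restrictFunctor i) :=
  PreservesColimitsOfSize.preservesFiniteColimits _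

theorem isPseudoCoherentD_iff_pcAt (m : ℤ) (K : DCoh.D X) :
    DCoh.IsPseudoCoherentD m K ↔ ∀ x, PCAt m K x := by
  constructor
  · intro h x
    obtain ⟨V, hxV, hV⟩ := h x
    let F := Q.objPreimage K
    have e : Q.obj F ≅ K := Q.objObjPreimageIso K
    obtain ⟨E, α, hE, h1, h2⟩ := hV F ⟨e⟩
    have hα : IsWitD m α := ⟨h1, h2⟩
    refine ⟨↑V, V.ι, inferInstance, E, α ≫ (RDfac V.ι F).inv ≫ (RD V.ι).map e.hom, ?_, hE, ?_⟩
    · rw [Scheme.Opens.range_ι]
      exact hxV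
    · have := (isWitD_iso_comp (m := m) (𝟙 _) α ((RDfac V.ι F).inv ≫ (RD V.ι).map e.hom)).mpr hα
      simpa using this
  · intro h x
    obtain ⟨U, j, hj, E, α, hx, hE, hα⟩ := h x
    refine ⟨j.opensRange, hx, ?_⟩
    intro F ⟨eF⟩
    have key : ∀ (ι' : ↑j.opensRange ⟶ X) [IsOpenImmersion ι'], ι' = j.isoOpensRange.inv ≫ j →
        ∃ (E' : CochainComplex (↑j.opensRange : Scheme.{u}).Modules ℤ)
          (α' : Q.obj E' ⟶ Q.obj ((resCx ι').obj F)), DCoh.IsStrictlyPerfect E' ∧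
          IsWitD m α' := by
      intro ι' _ hι'
      subst hι'
      obtain ⟨e2⟩ := nonempty_RD_comp_obj j.isoOpensRange.inv j K
      refine ⟨_, (RDfac j.isoOpensRange.inv E).inv ≫ (RD j.isoOpensRange.inv).map α ≫
        (e2.inv ≫ (RD (j.isoOpensRange.inv ≫ j)).map eF.inv ≫ (RDfac _ F).hom),
        isStrictlyPerfect_restrict _ E hE, ?_⟩
      rw [isWitD_iso_comp]
      exact hα.map _
    obtain ⟨E', α', hE', hα'⟩ := key j.opensRange.ι (Scheme.Hom.isoOpensRange_inv_comp j).symm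
    exact ⟨E', α', hE', hα'.1, hα'.2⟩

/-- on the open `j`, the complex `F` receives an `m`-witness chain map from a bounded complex with
finite free terms -/
def LocFreeWit (m : ℤ) (F : CochainComplex X.Modules ℤ) {U : Scheme.{u}} (j : U ⟶ X)
    [IsOpenImmersion j] : Prop :=
  ∃ (P : CochainComplex U.Modules ℤ) (g : P ⟶ (resCx j).obj F) (a b : ℤ),
    DCoh.VanishesOutside P a b ∧
      (∀ n, ∃ k : ℕ, Nonempty (P.X n ≅ FlatMod.freeMod U k)) ∧ IsWitCx m g

lemma LocFreeWit.shrink {m : ℤ} {F : CochainComplex X.Modules ℤ} {U V : Scheme.{u}} (j : U ⟶ X)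
    (l : V ⟶ U) (k : V ⟶ X) [IsOpenImmersion j] [IsOpenImmersion l] [IsOpenImmersion k]
    (hk : k = l ≫ j) (h : LocFreeWit m F j) : LocFreeWit m F k := by
  subst hk
  obtain ⟨P, g, a, b, hab, hfree, hg⟩ := h
  refine ⟨(resCx l).obj P, (resCx l).map g ≫ (resCxComp l j).inv.app F, a, b, ?_, ?_, ?_⟩
  · intro n hn
    exact (Scheme.Modules.restrictFunctor l).map_isZero (hab n hn)
  · intro n
    obtain ⟨k, ⟨e⟩⟩ := hfree n
    exact ⟨k, ⟨(Scheme.Modules.restrictFunctor l).mapIso e ≪≫ restrictFreeModIso l k⟩⟩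
  · have h1 : IsWitCx m ((resCx l).map g) := hg.map (Scheme.Modules.restrictFunctor l)
    have := (isWitCx_iso_comp (m := m) (𝟙 _) ((resCx l).map g) ((resCxComp l j).inv.app F)).mpr h1
    simpa using this

theorem exists_locFreeWit_of_pcAt (m : ℤ) (F : CochainComplex X.Modules ℤ) (x : X)
    (h : PCAt m (Q.obj F) x) :
    ∃ (U : Scheme.{u}) (j : U ⟶ X) (_ : IsOpenImmersion j), x ∈ Set.range j ∧
      LocFreeWit m F j := by
  obtain ⟨U, j, hj, P, α₀, ⟨y, rfl⟩, hP, hα₀⟩ := h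
  let α : Q.obj P ⟶ Q.obj ((resCx j).obj F) := α₀ ≫ (RDfac j F).hom
  have hα : IsWitD m α := by
    have := (isWitD_iso_comp (m := m) (𝟙 _) α₀ (RDfac j F).hom).mpr hα₀
    simpa using this
  obtain ⟨W, i, hi, ⟨w, rfl⟩, g, hg⟩ := exists_chainMap_restrict U y P ((resCx j).obj F) hP α
  have hQg : IsWitD m (Q.map g) := by
    have h1 : Q.map g = (RDfac i P).inv ≫ (RD i).map α ≫ (RDfac i _).hom := by
      rw [hg]; simp
    rw [h1, isWitD_iso_comp]
    exact hα.map _
  have hqg : IsWitCx m g := (isWitD_Q_map_iff g).mp hQg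
  have hP₁ := isStrictlyPerfect_restrict i P hP
  obtain ⟨⟨a, b, hab⟩, hfree⟩ := hP₁
  obtain ⟨W', hwW', hW'⟩ := exists_open_free ((resCx i).obj P) hfree w (Finset.Icc a b)
  refine ⟨W', W'.ι ≫ i ≫ j, inferInstance, ⟨⟨w, hwW'⟩, rfl⟩, ?_⟩
  refine ⟨(resCx W'.ι).obj ((resCx i).obj P),
    (resCx W'.ι).map (g ≫ (resCxComp i j).inv.app F) ≫ (resCxComp W'.ι (i ≫ j)).inv.app F,
    a, b, ?_, ?_, ?_⟩
  · intro n hn
    exact (Scheme.Modules.restrictFunctor W'.ι).map_isZero (hab n hn)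
  · intro n
    by_cases hn : n ∈ Finset.Icc a b
    · exact hW' n hn
    · have hz : IsZero (((resCx i).obj P).X n) := hab n (by
        rw [Finset.mem_Icc] at hn; omega)
      exact ⟨0, ⟨((Scheme.Modules.restrictFunctor W'.ι).map_isZero hz).iso
        (isZero_freeMod_zero _)⟩⟩
  · have h1 : IsWitCx m (g ≫ (resCxComp i j).inv.app F) := by
      have := (isWitCx_iso_comp (m := m) (𝟙 _) g ((resCxComp i j).inv.app F)).mpr hqg
      simpa using this
    have h2 : IsWitCx m ((resCx W'.ι).map (g ≫ (resCxComp i j).inv.app F)) :=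
      h1.map (Scheme.Modules.restrictFunctor W'.ι)
    have := (isWitCx_iso_comp (m := m) (𝟙 _) _ ((resCxComp W'.ι (i ≫ j)).inv.app F)).mpr h2
    simpa using this

end Groth.Agent.H4.TilD10
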