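import Mathlib
import Groth.Agent.H4.TilD10
import Groth.Agent.H4.PCS1
import Groth.Agent.H4.PCS2

set_option autoImplicit false
universe u
attribute [local instance] HasDerivedCategory.standard
open CategoryTheory CategoryTheory.Limits AlgebraicGeometry Groth.Agent.LD.QC DerivedCategory
open Groth.Agent.H4.PSch1 Groth.Agent.H4.PSch2 Groth.Agent.H4.PSch3 Groth.Agent.H4.PSch4
open Groth.Agent.H4.PSch5 Groth.Agent.H4.PSch6 Groth.Agent.H4.TilD1 Groth.Agent.H4.TilD9
open Groth.Agent.H4.TilD10 Groth.Agent.H4.PCS1 Groth.Agent.H4.PCS2 Pretriangulated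

namespace Groth.Agent.H4.PCS3

section RDcomp

variable {U W W' : Scheme.{u}} (i : W' ⟶ W) (j : W ⟶ U) [IsOpenImmersion i] [IsOpenImmersion j]

/-- derived restriction along a composition, as a natural isomorphism -/
noncomputable def RDcomp : RD (i ≫ j) ≅ RD j ⋙ RD i :=
  letI : Localization.Lifting Q (HomologicalComplex.quasiIso U.Modules (ComplexShape.up ℤ))
      (resCx j ⋙ resCx i ⋙ Q) (RD j ⋙ RD i) :=
    ⟨(Functor.associator _ _ _).symm ≪≫
      Functor.isoWhiskerRight (Scheme.Modules.restrictFunctor j).mapDerivedCategoryFactors (RD i) ≪≫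
      Functor.associator _ _ _ ≪≫
      Functor.isoWhiskerLeft (resCx j) (Scheme.Modules.restrictFunctor i).mapDerivedCategoryFactors⟩
  Localization.liftNatIso Q (HomologicalComplex.quasiIso U.Modules (ComplexShape.up ℤ))
    (resCx (i ≫ j) ⋙ Q) (resCx j ⋙ resCx i ⋙ Q) _ _
    (Functor.isoWhiskerRight (resCxComp i j) Q ≪≫ Functor.associator _ _ _)

lemma RD_comp_map {K L : DCoh.D U} (f : K ⟶ L) :
    (RD (i ≫ j)).map f =
      (RDcomp i j).hom.app K ≫ (RD i).map ((RD j).map f) ≫ (RDcomp i j).inv.app L := by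
  have h := (RDcomp i j).hom.naturality f
  have h2 : (RDcomp i j).hom.app L ≫ (RDcomp i j).inv.app L = 𝟙 _ := Iso.hom_inv_id_app _ _
  rw [← Category.assoc]
  rw [show ((RDcomp i j).hom.app K ≫ (RD i).map ((RD j).map f)) =
    (RD (i ≫ j)).map f ≫ (RDcomp i j).hom.app L from h.symm, Category.assoc, h2, Category.comp_id]

lemma RD_comp_map_eq_zero {K L : DCoh.D U} (f : K ⟶ L) (h : (RD i).map ((RD j).map f) = 0) :
    (RD (i ≫ j)).map f = 0 := by
  rw [RD_comp_map, h]; simp

end RDcomp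

section Iterate

/-- iterating the one-step extension, with exactness only in degrees `≥ k` -/
theorem PartialNull.iterate' (m : ℕ) : ∀ (U : Scheme.{u}) (x : U)
    (E C : CochainComplex U.Modules ℤ) (β : E ⟶ C) (k : ℤ),
    (∀ i, FlatMod.IsFinLocFree (E.X i)) → (∀ n, k ≤ n → C.ExactAt n) → PartialNull β (k + m) →
    ∃ (W : Scheme.{u}) (i : W ⟶ U) (_ : IsOpenImmersion i), x ∈ Set.range i ∧
      PartialNull ((resCx i).map β) k := by
  induction m with
  | zero =>
    intro U x E C β k hE hC h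
    refine ⟨U, 𝟙 U, inferInstance, ⟨x, rfl⟩, PartialNull.id β k ?_⟩
    simpa using h
  | succ m ih =>
    intro U x E C β k hE hC h
    have h' : PartialNull β ((k + m) + 1) := by
      have : k + ((m + 1 : ℕ) : ℤ) = (k + m) + 1 := by push_cast; ring
      rwa [this] at h
    obtain ⟨V, hxV, hV⟩ := PartialNull.step β (k + m) (hE _) (hC _ (by omega)) h' x
    obtain ⟨W, i, hi, hxi, hW⟩ := ih (↑V) ⟨x, hxV⟩ ((resCx V.ι).obj E) ((resCx V.ι).obj C)
      ((resCx V.ι).map β) k (fun n => isFinLocFree_restrict V.ι _ (hE n))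
      (fun n hn => exactAt_restrict V.ι C n (hC n hn)) hV
    refine ⟨W, i ≫ V.ι, inferInstance, ?_, PartialNull.comp i V.ι β k hW⟩
    obtain ⟨w, hw⟩ := hxi
    exact ⟨w, by
      change V.ι (i w) = x
      rw [hw]
      rfl⟩

theorem exists_nullHomotopy_restrict' (U : Scheme.{u}) (x : U)
    (E C : CochainComplex U.Modules ℤ) (β : E ⟶ C) (hE : DCoh.IsStrictlyPerfect E)
    (a : ℤ) (ha : ∀ i, i < a → IsZero (E.X i)) (hC : ∀ n, a ≤ n → C.ExactAt n) :
    ∃ (W : Scheme.{u}) (i : W ⟶ U) (_ : IsOpenImmersion i), x ∈ Set.range i ∧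
      Nonempty (Homotopy ((resCx i).map β) 0) := by
  obtain ⟨⟨a', b, hab⟩, hfree⟩ := hE
  have h0 : PartialNull β (a + ((b + 1 - a).toNat : ℤ)) := by
    refine ⟨fun _ _ => 0, fun i₀ i₁ i₂ _ _ hi => ?_⟩
    exact (hab i₁ (Or.inr (by omega))).eq_of_src _ _
  obtain ⟨W, i, hi, hxi, hW⟩ := PartialNull.iterate' _ U x E C β a hfree hC h0
  refine ⟨W, i, hi, hxi, homotopy_of_partialNull _ a (fun n hn => ?_) hW⟩
  exact (Scheme.Modules.restrictFunctor i).map_isZero (ha n hn)

end Iterate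

section Vanish

/-- local vanishing: a morphism from a strictly perfect complex concentrated in degrees `≥ n`
to an object of `D^{≤ n - 1}` vanishes locally -/
theorem exists_restrict_eq_zero (U : Scheme.{u}) (u : U) (P : CochainComplex U.Modules ℤ)
    (hP : DCoh.IsStrictlyPerfect P) (n : ℤ) (hn : ∀ i, i < n → IsZero (P.X i))
    (C : DCoh.D U) [C.IsLE (n - 1)] (δ : Q.obj P ⟶ C) :
    ∃ (W : Scheme.{u}) (i : W ⟶ U) (_ : IsOpenImmersion i), u ∈ Set.range i ∧
      (RD i).map δ = 0 := by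
  let G := Q.objPreimage C
  have e : Q.obj G ≅ C := Q.objObjPreimageIso C
  obtain ⟨W₁, i₁, hi₁, ⟨w₁, rfl⟩, g, hg⟩ := exists_chainMap_restrict U u P G hP (δ ≫ e.inv)
  have hG : ∀ k, n ≤ k → G.ExactAt k := by
    intro k hk
    rw [HomologicalComplex.exactAt_iff_isZero_homology]
    have h1 : IsZero ((homologyFunctor U.Modules k).obj C) :=
      isZero_of_isLE C (n - 1) k (by omega)
    exact (h1.of_iso ((homologyFunctor U.Modules k).mapIso e)).of_iso
      ((homologyFunctorFactors U.Modules k).app G).symm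
  obtain ⟨W₂, i₂, hi₂, ⟨w₂, rfl⟩, ⟨H⟩⟩ := exists_nullHomotopy_restrict' W₁ w₁ _ _ g
    (isStrictlyPerfect_restrict i₁ P hP) n
    (fun k hk => (Scheme.Modules.restrictFunctor i₁).map_isZero (hn k hk))
    (fun k hk => exactAt_restrict i₁ G k (hG k hk))
  refine ⟨W₂, i₂ ≫ i₁, inferInstance, ⟨w₂, rfl⟩, RD_comp_map_eq_zero i₂ i₁ δ ?_⟩
  have h1 : (RD i₁).map δ = (RD i₁).map (δ ≫ e.inv) ≫ (RD i₁).map e.hom := by
    rw [← Functor.map_comp, Category.assoc, Iso.inv_hom_id, Category.comp_id]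
  have h2 : Q.map ((resCx i₂).map g) = 0 := by
    have : Q.map ((resCx i₂).map g) = Q.map 0 := DerivedCategory.Q_map_eq_of_homotopy _ H
    rw [this, Functor.map_zero]
  rw [h1, hg]
  simp only [Functor.map_comp, RD_map_Q, h2]
  simp

end Vanish

end Groth.Agent.H4.PCS3
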