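import Mathlib
import Groth.Agent.H4.PSch6
import Groth.Agent.Lib.Helper5.AG.TildeExact

set_option autoImplicit false
universe u
attribute [local instance] HasDerivedCategory.standard
open CategoryTheory CategoryTheory.Limits AlgebraicGeometry Groth.Agent.LD.QC DerivedCategory

namespace Groth.Agent.H4.TilD2

variable (B : CommRingCat.{u})

instance : (moduleSpecΓFunctor (R := B)).Additive :=
  (tilde.adjunction (R := B)).right_adjoint_additive

instance tilde_preservesHomology : (tilde.functor B).PreservesHomology := by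
  haveI := Groth.Agent.H5.AG.tilde_preservesFiniteLimits B
  haveI := Groth.Agent.H5.AG.tilde_preservesFiniteColimits B
  infer_instance

/-- the tilde functor on complexes -/
noncomputable abbrev tildeCx :
    CochainComplex (ModuleCat.{u} B) ℤ ⥤ CochainComplex (Spec B).Modules ℤ :=
  (tilde.functor B).mapHomologicalComplex (ComplexShape.up ℤ)

/-- the global sections functor on complexes -/
noncomputable abbrev gammaCx :
    CochainComplex (Spec B).Modules ℤ ⥤ CochainComplex (ModuleCat.{u} B) ℤ :=
  (moduleSpecΓFunctor (R := B)).mapHomologicalComplex (ComplexShape.up ℤ)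

variable {B}

/-- the counit on complexes -/
noncomputable def counitCx (P : CochainComplex (Spec B).Modules ℤ) :
    (tildeCx B).obj ((gammaCx B).obj P) ⟶ P where
  f n := (Scheme.Modules.fromTildeΓNatTrans (R := B)).app (P.X n)
  comm' i j _ := ((Scheme.Modules.fromTildeΓNatTrans (R := B)).naturality (P.d i j)).symm

lemma isIso_counitCx (P : CochainComplex (Spec B).Modules ℤ)
    (hP : ∀ n, (P.X n).IsQuasicoherent) : IsIso (counitCx P) := by
  haveI : ∀ n, IsIso ((counitCx P).f n) := by
    intro n
    haveI := hP n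
    change IsIso (P.X n).fromTildeΓ
    infer_instance
  exact HomologicalComplex.Hom.isIso_of_components _

/-- a chain map between tilde complexes comes from a chain map of complexes of modules -/
noncomputable def preimageCx {E K : CochainComplex (ModuleCat.{u} B) ℤ}
    (χ : (tildeCx B).obj E ⟶ (tildeCx B).obj K) : E ⟶ K where
  f n := (tilde.functor B).preimage (χ.f n)
  comm' i j _ := by
    apply (tilde.functor B).map_injective
    rw [Functor.map_comp, Functor.map_comp, Functor.map_preimage, Functor.map_preimage]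
    exact χ.comm i j

lemma map_preimageCx {E K : CochainComplex (ModuleCat.{u} B) ℤ}
    (χ : (tildeCx B).obj E ⟶ (tildeCx B).obj K) : (tildeCx B).map (preimageCx χ) = χ := by
  apply HomologicalComplex.hom_ext
  intro n
  exact (tilde.functor B).map_preimage (χ.f n)

lemma nonempty_gamma_freeMod_iso (m : ℕ) :
    Nonempty ((moduleSpecΓFunctor (R := B)).obj (FlatMod.freeMod (Spec B) m) ≅
      ModuleCat.of B (ULift.{u} (Fin m) →₀ B)) :=
  ⟨(moduleSpecΓFunctor (R := B)).mapIso (freeModTildeIso B m) ≪≫
    ((tilde.toTildeΓNatIso (R := B)).app _).symm⟩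

theorem isPerfect_of_quasiIso_tilde (K : CochainComplex (ModuleCat.{u} B) ℤ)
    (P : CochainComplex (Spec B).Modules ℤ) (g : P ⟶ (tildeCx B).obj K)
    (a b : ℤ) (hab : DCoh.VanishesOutside P a b)
    (hfree : ∀ n, ∃ m : ℕ, Nonempty (P.X n ≅ FlatMod.freeMod (Spec B) m)) (hg : QuasiIso g) :
    DRing.IsPerfect B (DRing.toD K) := by
  have hqc : ∀ n, (P.X n).IsQuasicoherent := by
    intro n
    obtain ⟨m, ⟨e⟩⟩ := hfree n
    exact qc_of_iso e.symm inferInstance
  haveI := isIso_counitCx P hqc
  let χ : (tildeCx B).obj ((gammaCx B).obj P) ⟶ (tildeCx B).obj K := counitCx P ≫ g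
  haveI : QuasiIso χ := by dsimp only [χ]; infer_instance
  let ψ := preimageCx χ
  have hψ : QuasiIso ψ := by
    rw [← HomologicalComplex.quasiIso_map_iff_of_preservesHomology ψ (tilde.functor B)]
    have : (tildeCx B).map ψ = χ := map_preimageCx χ
    change QuasiIso ((tildeCx B).map ψ)
    rw [this]
    infer_instance
  haveI : IsIso (Q.map ψ) := (DerivedCategory.isIso_Q_map_iff_quasiIso (φ := ψ)).mpr hψ
  refine ⟨(gammaCx B).obj P, a, b, ?_, ?_, ⟨asIso (Q.map ψ)⟩⟩
  · intro n hn
    exact (moduleSpecΓFunctor (R := B)).map_isZero (hab n hn)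
  · intro n
    obtain ⟨m, ⟨e⟩⟩ := hfree n
    obtain ⟨e'⟩ := nonempty_gamma_freeMod_iso (B := B) m
    let ℓ : ((gammaCx B).obj P).X n ≃ₗ[B] (ULift.{u} (Fin m) →₀ B) :=
      ((moduleSpecΓFunctor (R := B)).mapIso e ≪≫ e').toLinearEquiv
    exact ⟨Module.Finite.equiv ℓ.symm, Module.Projective.of_equiv ℓ.symm⟩

end Groth.Agent.H4.TilD2
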