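import Mathlib
import Groth.Agent.H4.TilD2
import Groth.Agent.Lib.Lead.QC.Pullback

set_option autoImplicit false
universe u
attribute [local instance] HasDerivedCategory.standard
open CategoryTheory CategoryTheory.Limits AlgebraicGeometry Groth.Agent.LD.QC DerivedCategory
open Groth.Agent.H4.PSch1 Groth.Agent.H4.TilD2

namespace Groth.Agent.H4.TilD3

variable {A B : CommRingCat.{u}} (φ : A ⟶ B) [IsOpenImmersion (Spec.map φ)]

/-- restriction of `M~` along the open immersion `Spec φ` is `(B ⊗ M)~` -/
noncomputable def tildeRestrictIso :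
    tilde.functor A ⋙ Scheme.Modules.restrictFunctor (Spec.map φ) ≅
      ModuleCat.extendScalars.{u, u, u} φ.hom ⋙ tilde.functor B :=
  Functor.isoWhiskerLeft _ (Scheme.Modules.restrictFunctorIsoPullback (Spec.map φ)) ≪≫
    tildePullbackIso φ

/-- termwise extension of scalars on complexes -/
noncomputable abbrev extCx :
    CochainComplex (ModuleCat.{u} A) ℤ ⥤ CochainComplex (ModuleCat.{u} B) ℤ :=
  (ModuleCat.extendScalars.{u, u, u} φ.hom).mapHomologicalComplex (ComplexShape.up ℤ)

noncomputable def tildeRestrictCxIso (K : CochainComplex (ModuleCat.{u} A) ℤ) :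
    (resCx (Spec.map φ)).obj ((tildeCx A).obj K) ≅ (tildeCx B).obj ((extCx φ).obj K) :=
  HomologicalComplex.Hom.isoOfComponents (fun n => (tildeRestrictIso φ).app (K.X n))
    (fun i j _ => ((tildeRestrictIso φ).hom.naturality (K.d i j)).symm)

end Groth.Agent.H4.TilD3
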