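import Mathlib
import Groth.Agent.H4.TilD1
import Groth.Agent.H4.TilD3
import Groth.Agent.S6960
import Groth.Agent.H4.DRing1

set_option autoImplicit false
universe u
attribute [local instance] HasDerivedCategory.standard
open CategoryTheory CategoryTheory.Limits AlgebraicGeometry Groth.Agent.LD.QC DerivedCategory
open Groth.Agent.H4.PSch1 Groth.Agent.H4.PSch2 Groth.Agent.H4.PSch3 Groth.Agent.H4.PSch4
open Groth.Agent.H4.PSch5 Groth.Agent.H4.PSch6
open Groth.Agent.H4.TilD1 Groth.Agent.H4.TilD2 Groth.Agent.H4.TilD3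

namespace Groth.Agent.H4.TilD4

section Forward

variable (A : Type u) [CommRing A]

/-- the local statement -/
theorem exists_basicOpen_isPerfect (K : DRing.Cx A)
    (h : DCoh.IsPerfect (Q.obj ((tildeCx (CommRingCat.of A)).obj K)))
    (x : Spec (CommRingCat.of A)) :
    ∃ f : A, x ∈ PrimeSpectrum.basicOpen f ∧
      DRing.IsPerfect (Localization.Away f)
        (DRing.toD (((ModuleCat.extendScalars (algebraMap A (Localization.Away f))).mapHomologicalComplex
          (ComplexShape.up ℤ)).obj K)) := by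
  obtain ⟨U, j, hj, hx, hQI⟩ := exists_locFreeQI_of_isPerfect _ h x
  obtain ⟨v, ⟨_, ⟨f, rfl⟩, rfl⟩, hxf, hfj⟩ :=
    PrimeSpectrum.isBasis_basic_opens.exists_subset_of_mem_open hx j.opensRange.isOpen
  refine ⟨f, hxf, ?_⟩
  let φ : CommRingCat.of A ⟶ CommRingCat.of (Localization.Away f) :=
    CommRingCat.ofHom (algebraMap A (Localization.Away f))
  have hsub : Set.range (Spec.map φ) ⊆ Set.range j := by
    have h1 := Scheme.Hom.opensRange_localizationAway (R := CommRingCat.of A) f
    have h2 : Set.range (Spec.map φ) = ((Spec.map φ).opensRange : Set _) := rfl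
    rw [h2, h1]
    exact hfj
  let l := IsOpenImmersion.lift j (Spec.map φ) hsub
  have hl : l ≫ j = Spec.map φ := IsOpenImmersion.lift_fac _ _ _
  haveI : IsOpenImmersion (l ≫ j) := by rw [hl]; infer_instance
  haveI : IsOpenImmersion l := IsOpenImmersion.of_comp l j
  obtain ⟨P, g, a, b, hab, hfree, hg⟩ := hQI.shrink j l (Spec.map φ) hl.symm
  haveI := hg
  exact isPerfect_of_quasiIso_tilde (B := CommRingCat.of (Localization.Away f)) ((extCx φ).obj K) P
    (g ≫ (tildeRestrictCxIso φ K).hom) a b hab hfree inferInstance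

theorem isPerfect_of_isPerfect_tilde (K : DRing.Cx A)
    (h : DCoh.IsPerfect (Q.obj ((tildeCx (CommRingCat.of A)).obj K))) :
    DRing.IsPerfect A (DRing.toD K) := by
  let S : Set A := {f | DRing.IsPerfect (Localization.Away f)
    (DRing.toD (((ModuleCat.extendScalars (algebraMap A (Localization.Away f))).mapHomologicalComplex
      (ComplexShape.up ℤ)).obj K))}
  have hS : Ideal.span S = ⊤ := by
    by_contra hne
    obtain ⟨m, hm, hSm⟩ := Ideal.exists_le_maximal _ hne
    obtain ⟨f, hxf, hf⟩ := exists_basicOpen_isPerfect A K h ⟨m, hm.isPrime⟩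
    exact hxf (hSm (Ideal.subset_span hf))
  obtain ⟨s, hsS, hs⟩ := (Ideal.span_eq_top_iff_finite S).mp hS
  let f : Fin s.card → A := fun i => (s.equivFin.symm i).1
  have hrange : Set.range f = ↑s := by
    ext a
    constructor
    · rintro ⟨i, rfl⟩
      exact (s.equivFin.symm i).2
    · intro ha
      exact ⟨s.equivFin ⟨a, ha⟩, by simp [f]⟩
  exact Groth.Agent.S6960.result f (by rw [hrange]; exact hs) K
    (fun i => hsS (s.equivFin.symm i).2)

end Forward

section Inst

variable (A : Type u) [CommRing A]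

instance instAdditiveTildeOf : (tilde.functor (CommRingCat.of A)).Additive :=
  (inferInstance : ∀ R : CommRingCat.{u}, (tilde.functor R).Additive) (CommRingCat.of A)

instance instPFCTildeOf : PreservesFiniteColimits (tilde.functor (CommRingCat.of A)) :=
  (inferInstance : ∀ R : CommRingCat.{u}, PreservesFiniteColimits (tilde.functor R))
    (CommRingCat.of A)

end Inst

section Backward

variable {X : Scheme.{u}}

lemma isPerfect_of_isStrictlyPerfect (E : CochainComplex X.Modules ℤ)
    (hE : DCoh.IsStrictlyPerfect E) : DCoh.IsPerfect (Q.obj E) := by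
  rw [isPerfect_iff_perfAt]
  intro x
  exact ⟨X, 𝟙 X, inferInstance, E, ⟨x, rfl⟩, hE,
    ⟨RDfac (𝟙 X) E ≪≫ Q.mapIso ((resCxId (U := X)).app E)⟩⟩

variable (R : CommRingCat.{u})

lemma isFinLocFree_tilde (M : ModuleCat.{u} R) [Module.Finite R M] [Module.Projective R M] :
    FlatMod.IsFinLocFree ((tilde.functor R).obj M) := by
  obtain ⟨n, f, g, -, -, hfg⟩ := Module.Finite.exists_comp_eq_id_of_projective R M
  let e := finsuppULiftEquiv R n
  let i : M ⟶ ModuleCat.of R (ULift.{u} (Fin n) →₀ R) := ModuleCat.ofHom (e.symm.toLinearMap ∘ₗ g)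
  let p : ModuleCat.of R (ULift.{u} (Fin n) →₀ R) ⟶ M := ModuleCat.ofHom (f ∘ₗ e.toLinearMap)
  have hip : i ≫ p = 𝟙 M := by
    ext m
    change f (e (e.symm (g m))) = m
    rw [LinearEquiv.apply_symm_apply]
    exact LinearMap.congr_fun hfg m
  have h1 : FlatMod.IsFinLocFree ((tilde.functor R).obj (ModuleCat.of R (ULift.{u} (Fin n) →₀ R))) :=
    isFinLocFree_of_iso (freeModTildeIso R n) (isFinLocFree_freeMod _ n)
  refine isFinLocFree_of_retract ((tilde.functor R).map i) ((tilde.functor R).map p) ?_ h1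
  rw [← Functor.map_comp, hip, CategoryTheory.Functor.map_id]

theorem isPerfect_tilde_of_isPerfect (A : Type u) [CommRing A] (E : DRing.Cx A) (a b : ℤ)
    (hab : DRing.VanishesOutside E a b) (hfp : DRing.TermwiseFiniteProjective E) :
    DCoh.IsPerfect (Q.obj ((tildeCx (CommRingCat.of A)).obj E)) := by
  apply isPerfect_of_isStrictlyPerfect
  refine ⟨⟨a, b, fun n hn => (tilde.functor (CommRingCat.of A)).map_isZero (hab n hn)⟩, fun n => ?_⟩
  haveI := (hfp n).1
  haveI := (hfp n).2
  exact isFinLocFree_tilde (CommRingCat.of A) (E.X n)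

end Backward

theorem S1105 (A : Type u) [CommRing A] [PreservesFiniteLimits (tilde.functor (CommRingCat.of A))]
    (M : Dual.D A) :
    DCoh.IsPerfect ((DCoh.tildeD (CommRingCat.of A)).obj M) ↔ DRing.IsPerfect A M := by
  have key : ∀ K : DRing.Cx A, (DCoh.tildeD (CommRingCat.of A)).obj (Q.obj K) ≅
      Q.obj ((tildeCx (CommRingCat.of A)).obj K) := fun K =>
    (tilde.functor (CommRingCat.of A)).mapDerivedCategoryFactors.app K
  constructor
  · intro h
    let K := Q.objPreimage M
    have e : Q.obj K ≅ M := Q.objObjPreimageIso M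
    have h1 : DCoh.IsPerfect (Q.obj ((tildeCx (CommRingCat.of A)).obj K)) :=
      isPerfect_of_iso ((DCoh.tildeD (CommRingCat.of A)).mapIso e.symm ≪≫ key K) h
    exact Groth.Agent.H4.DRing1.isPerfect_of_iso e (isPerfect_of_isPerfect_tilde A K h1)
  · rintro ⟨E, a, b, hab, hfp, ⟨e⟩⟩
    exact isPerfect_of_iso ((key E).symm ≪≫ (DCoh.tildeD (CommRingCat.of A)).mapIso e)
      (isPerfect_tilde_of_isPerfect A E a b hab hfp)

end Groth.Agent.H4.TilD4
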