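import Mathlib
import Groth.Agent.H4.TilD4
import Groth.Agent.H4.TilD10
import Groth.Agent.H4.FlatFam2
import Groth.Agent.H4.Perf1

set_option autoImplicit false
universe u
attribute [local instance] HasDerivedCategory.standard
open CategoryTheory CategoryTheory.Limits AlgebraicGeometry Groth.Agent.LD.QC DerivedCategory
open Groth.Agent.H4.PSch1 Groth.Agent.H4.PSch2 Groth.Agent.H4.PSch3 Groth.Agent.H4.PSch4
open Groth.Agent.H4.PSch5 Groth.Agent.H4.PSch6 Groth.Agent.H4.TilD1 Groth.Agent.H4.TilD9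
open Groth.Agent.H4.TilD2 Groth.Agent.H4.TilD3 Groth.Agent.H4.TilD4 Groth.Agent.H4.TilD10

namespace Groth.Agent.H4.TilD11

section Bridge

variable {B : CommRingCat.{u}}

theorem isPC_of_wit_tilde (m : ℤ) (K : CochainComplex (ModuleCat.{u} B) ℤ)
    (P : CochainComplex (Spec B).Modules ℤ) (g : P ⟶ (tildeCx B).obj K)
    (a b : ℤ) (hab : DCoh.VanishesOutside P a b)
    (hfree : ∀ n, ∃ k : ℕ, Nonempty (P.X n ≅ FlatMod.freeMod (Spec B) k)) (hg : IsWitCx m g) :
    DRing.IsPseudoCoherent B m (DRing.toD K) := by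
  haveI := Groth.Agent.H5.AG.tilde_preservesFiniteLimits B
  haveI := Groth.Agent.H5.AG.tilde_preservesFiniteColimits B
  have hqc : ∀ n, (P.X n).IsQuasicoherent := by
    intro n
    obtain ⟨k, ⟨e⟩⟩ := hfree n
    exact qc_of_iso e.symm inferInstance
  haveI := isIso_counitCx P hqc
  let χ : (tildeCx B).obj ((gammaCx B).obj P) ⟶ (tildeCx B).obj K := counitCx P ≫ g
  have hχ : IsWitCx m χ := by
    have := (isWitCx_iso_comp (m := m) (counitCx P) g (𝟙 _)).mpr hg
    simpa using this
  let ψ := preimageCx χ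
  have hψ : IsWitCx m ψ := by
    apply IsWitCx.of_map (tilde.functor B)
    have : (tildeCx B).map ψ = χ := map_preimageCx χ
    change IsWitCx m ((tildeCx B).map ψ)
    rw [this]
    exact hχ
  have hψ' : IsWitD m (Q.map ψ) := (isWitD_Q_map_iff ψ).mpr hψ
  refine ⟨(gammaCx B).obj P, a, b, Q.map ψ, ?_, ?_, hψ'.1, hψ'.2⟩
  · intro n hn
    exact (moduleSpecΓFunctor (R := B)).map_isZero (hab n hn)
  · intro n
    obtain ⟨k, ⟨e⟩⟩ := hfree n
    obtain ⟨e'⟩ := nonempty_gamma_freeMod_iso (B := B) k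
    let ℓ : ((gammaCx B).obj P).X n ≃ₗ[B] (ULift.{u} (Fin k) →₀ B) :=
      ((moduleSpecΓFunctor (R := B)).mapIso e ≪≫ e').toLinearEquiv
    exact ⟨Module.Finite.equiv ℓ.symm, Module.Free.of_equiv ℓ.symm⟩

end Bridge

section Descent

open Groth.Agent.H4.PC Groth.Agent.H4.FlatFam Groth.Agent.H4.BC Groth.Agent.H4.PCDesc DRing

theorem isPC_of_localization_away {R : Type u} [CommRing R] {r : ℕ} (f : Fin r → R)
    (hf : Ideal.span (Set.range f) = ⊤) (K : DRing.Cx R) (m : ℤ)
    (hK : ∀ i, DRing.IsPseudoCoherent (Localization.Away (f i)) m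
      (DRing.toD (((ModuleCat.extendScalars (algebraMap R (Localization.Away (f i)))).mapHomologicalComplex
        (ComplexShape.up ℤ)).obj K))) :
    DRing.IsPseudoCoherent R m (DRing.toD K) := by
  haveI : ∀ i, DRing.HasLBaseChange (algebraMap R (Localization.Away (f i))) :=
    fun _ => Groth.Agent.H4.KProj.hasLBaseChange _
  have hJ := jff_of_span_eq_top f hf
  have e := fun i => isoOfFlatMap (algebraMap R (Localization.Away (f i))) (hJ.flat i) K
  exact hJ.detects.isPC m (toD K) (fun i => isPC_of_iso (e i).symm (hK i))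

end Descent

section Forward

variable (A : Type u) [CommRing A]

/-- the local statement -/
theorem exists_basicOpen_isPC (K : DRing.Cx A) (m : ℤ)
    (h : DCoh.IsPseudoCoherentD m (Q.obj ((tildeCx (CommRingCat.of A)).obj K)))
    (x : Spec (CommRingCat.of A)) :
    ∃ f : A, x ∈ PrimeSpectrum.basicOpen f ∧
      DRing.IsPseudoCoherent (Localization.Away f) m
        (DRing.toD (((ModuleCat.extendScalars (algebraMap A (Localization.Away f))).mapHomologicalComplex
          (ComplexShape.up ℤ)).obj K)) := by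
  obtain ⟨U, j, hj, hx, hQI⟩ := exists_locFreeWit_of_pcAt m _ x
    ((isPseudoCoherentD_iff_pcAt m _).mp h x)
  obtain ⟨v, ⟨_, ⟨f, rfl⟩, rfl⟩, hxf, hfj⟩ :=
    PrimeSpectrum.isBasis_basic_opens.exists_subset_of_mem_open hx j.opensRange.isOpen
  refine ⟨f, hxf, ?_⟩
  let φ : CommRingCat.of A ⟶ CommRingCat.of (Localization.Away f) :=
    CommRingCat.ofHom (algebraMap A (Localization.Away f))
  have hsub : Set.range (Spec.map φ) ⊆ Set.range j := by
    have h1 := Scheme.Hom.opensRange_localizationAway (R := CommRingCat.of A) f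
    have h2 : Set.range (Spec.map φ) = ((Spec.map φ).opensRange : Set _) := rfl
    rw [h2, h1]
    exact hfj
  let l := IsOpenImmersion.lift j (Spec.map φ) hsub
  have hl : l ≫ j = Spec.map φ := IsOpenImmersion.lift_fac _ _ _
  haveI : IsOpenImmersion (l ≫ j) := by rw [hl]; infer_instance
  haveI : IsOpenImmersion l := IsOpenImmersion.of_comp l j
  obtain ⟨P, g, a, b, hab, hfree, hg⟩ := hQI.shrink j l (Spec.map φ) hl.symm
  refine isPC_of_wit_tilde (B := CommRingCat.of (Localization.Away f)) m ((extCx φ).obj K) P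
    (g ≫ (tildeRestrictCxIso φ K).hom) a b hab hfree ?_
  have := (isWitCx_iso_comp (m := m) (𝟙 _) g (tildeRestrictCxIso φ K).hom).mpr hg
  simpa using this

theorem isPC_of_isPC_tilde (K : DRing.Cx A) (m : ℤ)
    (h : DCoh.IsPseudoCoherentD m (Q.obj ((tildeCx (CommRingCat.of A)).obj K))) :
    DRing.IsPseudoCoherent A m (DRing.toD K) := by
  let S : Set A := {f | DRing.IsPseudoCoherent (Localization.Away f) m
    (DRing.toD (((ModuleCat.extendScalars (algebraMap A (Localization.Away f))).mapHomologicalComplex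
      (ComplexShape.up ℤ)).obj K))}
  have hS : Ideal.span S = ⊤ := by
    by_contra hne
    obtain ⟨p, hp, hSp⟩ := Ideal.exists_le_maximal _ hne
    obtain ⟨f, hxf, hf⟩ := exists_basicOpen_isPC A K m h ⟨p, hp.isPrime⟩
    exact hxf (hSp (Ideal.subset_span hf))
  obtain ⟨s, hsS, hs⟩ := (Ideal.span_eq_top_iff_finite S).mp hS
  let f : Fin s.card → A := fun i => (s.equivFin.symm i).1
  have hrange : Set.range f = ↑s := by
    ext a
    constructor
    · rintro ⟨i, rfl⟩
      exact (s.equivFin.symm i).2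
    · intro ha
      exact ⟨s.equivFin ⟨a, ha⟩, by simp [f]⟩
  exact isPC_of_localization_away f (by rw [hrange]; exact hs) K m
    (fun i => hsS (s.equivFin.symm i).2)

end Forward

section Backward

variable {X : Scheme.{u}}

lemma PCAt.of_iso {m : ℤ} {K L : DCoh.D X} (e : K ≅ L) (x : X) (h : PCAt m K x) : PCAt m L x := by
  obtain ⟨U, j, hj, E, α, hx, hE, hα⟩ := h
  refine ⟨U, j, hj, E, α ≫ (RD j).map e.hom, hx, hE, ?_⟩
  have := (isWitD_iso_comp (m := m) (𝟙 _) α ((RD j).map e.hom)).mpr hα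
  simpa using this

lemma isPseudoCoherentD_of_iso {m : ℤ} {K L : DCoh.D X} (e : K ≅ L)
    (h : DCoh.IsPseudoCoherentD m K) : DCoh.IsPseudoCoherentD m L := by
  rw [isPseudoCoherentD_iff_pcAt] at h ⊢
  exact fun x => PCAt.of_iso e x (h x)

lemma PCAt.of_global {m : ℤ} {K : DCoh.D X} (E : CochainComplex X.Modules ℤ)
    (hE : DCoh.IsStrictlyPerfect E) (β : Q.obj E ⟶ K) (hβ : IsWitD m β) (x : X) : PCAt m K x := by
  refine ⟨X, 𝟙 X, inferInstance, (resCx (𝟙 X)).obj E, (RDfac (𝟙 X) E).inv ≫ (RD (𝟙 X)).map β,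
    ⟨x, rfl⟩, isStrictlyPerfect_restrict _ E hE, ?_⟩
  have := (isWitD_iso_comp (m := m) (RDfac (𝟙 X) E).inv ((RD (𝟙 X)).map β) (𝟙 _)).mpr (hβ.map _)
  simpa using this

end Backward

theorem S1004 (A : Type u) [CommRing A] [PreservesFiniteLimits (tilde.functor (CommRingCat.of A))]
    (M : Dual.D A) (m : ℤ) :
    DCoh.IsPseudoCoherentD m ((DCoh.tildeD (CommRingCat.of A)).obj M) ↔
      DRing.IsPseudoCoherent A m M := by
  have key : ∀ K : DRing.Cx A, (DCoh.tildeD (CommRingCat.of A)).obj (Q.obj K) ≅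
      Q.obj ((tildeCx (CommRingCat.of A)).obj K) := fun K =>
    (tilde.functor (CommRingCat.of A)).mapDerivedCategoryFactors.app K
  constructor
  · intro h
    let K := Q.objPreimage M
    have e : Q.obj K ≅ M := Q.objObjPreimageIso M
    have h1 : DCoh.IsPseudoCoherentD m (Q.obj ((tildeCx (CommRingCat.of A)).obj K)) :=
      isPseudoCoherentD_of_iso ((DCoh.tildeD (CommRingCat.of A)).mapIso e.symm ≪≫ key K) h
    exact Groth.Agent.H4.PC.isPC_of_iso e (isPC_of_isPC_tilde A K m h1)
  · rintro ⟨E, a, b, α, hab, hff, h1, h2⟩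
    have hα : IsWitD m α := ⟨h1, h2⟩
    rw [isPseudoCoherentD_iff_pcAt]
    intro x
    refine PCAt.of_global ((tildeCx (CommRingCat.of A)).obj E) ?_
      ((key E).inv ≫ (DCoh.tildeD (CommRingCat.of A)).map α) ?_ x
    · refine ⟨⟨a, b, fun n hn => (tilde.functor (CommRingCat.of A)).map_isZero (hab n hn)⟩,
        fun n => ?_⟩
      haveI := (hff n).1
      haveI := (hff n).2
      exact isFinLocFree_tilde (CommRingCat.of A) (E.X n)
    · have := (isWitD_iso_comp (m := m) (key E).inv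
        ((DCoh.tildeD (CommRingCat.of A)).map α) (𝟙 _)).mpr (hα.map _)
      simpa using this

end Groth.Agent.H4.TilD11
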