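import Mathlib
import Groth.Agent.H4.PCS3
import Groth.Agent.H4.TilD11

set_option autoImplicit false
universe u
attribute [local instance] HasDerivedCategory.standard
open CategoryTheory CategoryTheory.Limits AlgebraicGeometry Groth.Agent.LD.QC DerivedCategory
open Groth.Agent.H4.PSch1 Groth.Agent.H4.PSch2 Groth.Agent.H4.PSch3 Groth.Agent.H4.PSch4
open Groth.Agent.H4.PSch5 Groth.Agent.H4.PSch6 Groth.Agent.H4.TilD1 Groth.Agent.H4.TilD9
open Groth.Agent.H4.TilD10 Groth.Agent.H4.TilD11 Groth.Agent.H4.PCS1 Groth.Agent.H4.PCS2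
open Groth.Agent.H4.PCS3 Pretriangulated

namespace Groth.Agent.H4.PCS4

section Trunc

variable {U : Scheme.{u}}

lemma isStrictlyPerfect_sigmaGE (P : CochainComplex U.Modules ℤ) (hP : DCoh.IsStrictlyPerfect P)
    (n : ℤ) : DCoh.IsStrictlyPerfect (sigmaGE P n) := by
  obtain ⟨⟨a, b, hab⟩, hfree⟩ := hP
  refine ⟨⟨a, b, fun i hi => sigmaGE_isZero' P n i (hab i hi)⟩, fun i => ?_⟩
  by_cases h : n ≤ i
  · exact isFinLocFree_of_iso (sigmaGEXIso P n i h).symm (hfree i)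
  · exact isFinLocFree_of_isZero (sigmaGE_isZero P n i (by omega))

end Trunc

section LemmaB

theorem exists_wit_obj₃ (U : Scheme.{u}) (u : U) (T : Triangle (DCoh.D U))
    (hT : T ∈ distTriang _) (m : ℤ)
    (P₀ : CochainComplex U.Modules ℤ) (hP₀ : DCoh.IsStrictlyPerfect P₀)
    (α₀ : Q.obj P₀ ⟶ T.obj₁) (hα₀ : IsWitD (m + 1) α₀)
    (E : CochainComplex U.Modules ℤ) (hE : DCoh.IsStrictlyPerfect E)
    (β : Q.obj E ⟶ T.obj₂) (hβ : IsWitD m β) :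
    ∃ (W : Scheme.{u}) (i : W ⟶ U) (_ : IsOpenImmersion i), u ∈ Set.range i ∧
      ∃ (F : CochainComplex W.Modules ℤ) (c : Q.obj F ⟶ (RD i).obj T.obj₃),
        DCoh.IsStrictlyPerfect F ∧ IsWitD m c := by
  -- truncate
  let P := sigmaGE P₀ (m + 1)
  have hP : DCoh.IsStrictlyPerfect P := isStrictlyPerfect_sigmaGE P₀ hP₀ (m + 1)
  have hPn : ∀ i, i < m + 1 → IsZero (P.X i) := fun i hi => sigmaGE_isZero P₀ (m + 1) i hi
  let α : Q.obj P ⟶ T.obj₁ := Q.map (sigmaGEι P₀ (m + 1)) ≫ α₀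
  have hα : IsWitD (m + 1) α :=
    ((isWitD_Q_map_iff _).mpr (isWitCx_sigmaGEι P₀ (m + 1))).comp hα₀
  -- cone of β
  obtain ⟨C, β', β'', hTβ⟩ := distinguished_cocone_triangle β
  haveI hC : C.IsLE (m - 1) := (isWitD_iff_isLE _ hTβ m).1 hβ
  haveI : C.IsLE (m + 1 - 1) := TStructure.t.isLE_of_le C (m - 1) (m + 1 - 1) (by omega)
  obtain ⟨W₁, i₁, hi₁, ⟨w₁, rfl⟩, hδ⟩ :=
    exists_restrict_eq_zero U u P hP (m + 1) hPn C ((α ≫ T.mor₁) ≫ β')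
  have hTβ₁ := (RD i₁).map_distinguished _ hTβ
  obtain ⟨γ, hγ⟩ : ∃ γ : (RD i₁).obj (Q.obj P) ⟶ (RD i₁).obj (Q.obj E),
      (RD i₁).map (α ≫ T.mor₁) = γ ≫ (RD i₁).map β :=
    Triangle.coyoneda_exact₂ _ hTβ₁ ((RD i₁).map (α ≫ T.mor₁)) (by
      change (RD i₁).map (α ≫ T.mor₁) ≫ (RD i₁).map β' = 0
      rw [← Functor.map_comp]; exact hδ)
  let γ' : Q.obj ((resCx i₁).obj P) ⟶ Q.obj ((resCx i₁).obj E) :=
    (RDfac i₁ P).inv ≫ γ ≫ (RDfac i₁ E).hom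
  have hP₁ := isStrictlyPerfect_restrict i₁ P hP
  have hE₁ := isStrictlyPerfect_restrict i₁ E hE
  obtain ⟨W₂, i₂, hi₂, ⟨w₂, rfl⟩, g, hg⟩ := exists_chainMap_restrict W₁ w₁ _ _ hP₁ γ'
  let T₂ : Triangle (DCoh.D W₂) := (RD i₂).mapTriangle.obj ((RD i₁).mapTriangle.obj T)
  have hT₂ : T₂ ∈ distTriang _ :=
    (RD i₂).map_distinguished _ ((RD i₁).map_distinguished _ hT)
  let Tg : Triangle (DCoh.D W₂) := Q.mapTriangle.obj (CochainComplex.mappingCone.triangle g)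
  have hTg : Tg ∈ distTriang _ := mappingCone_triangle_distinguished g
  let a₁ : Tg.obj₁ ⟶ T₂.obj₁ :=
    (RDfac i₂ _).inv ≫ (RD i₂).map ((RDfac i₁ P).inv ≫ (RD i₁).map α)
  let a₂ : Tg.obj₂ ⟶ T₂.obj₂ :=
    (RDfac i₂ _).inv ≫ (RD i₂).map ((RDfac i₁ E).inv ≫ (RD i₁).map β)
  have ha₁ : IsWitD (m + 1) a₁ := by
    have h1 : IsWitD (m + 1) ((RD i₁).map α) := hα.map _
    have h2 : IsWitD (m + 1) ((RDfac i₁ P).inv ≫ (RD i₁).map α) := by
      have := (isWitD_iso_comp (m := m + 1) (RDfac i₁ P).inv ((RD i₁).map α) (𝟙 _)).mpr h1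
      simpa using this
    have h3 : IsWitD (m + 1) ((RD i₂).map ((RDfac i₁ P).inv ≫ (RD i₁).map α)) := h2.map _
    have := (isWitD_iso_comp (m := m + 1) (RDfac i₂ ((resCx i₁).obj P)).inv _ (𝟙 _)).mpr h3
    rwa [Category.comp_id] at this
  have ha₂ : IsWitD m a₂ := by
    have h1 : IsWitD m ((RD i₁).map β) := hβ.map _
    have h2 : IsWitD m ((RDfac i₁ E).inv ≫ (RD i₁).map β) := by
      have := (isWitD_iso_comp (m := m) (RDfac i₁ E).inv ((RD i₁).map β) (𝟙 _)).mpr h1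
      simpa using this
    have h3 : IsWitD m ((RD i₂).map ((RDfac i₁ E).inv ≫ (RD i₁).map β)) := h2.map _
    have := (isWitD_iso_comp (m := m) (RDfac i₂ ((resCx i₁).obj E)).inv _ (𝟙 _)).mpr h3
    rwa [Category.comp_id] at this
  have comm : Tg.mor₁ ≫ a₂ = a₁ ≫ T₂.mor₁ := by
    have hQg : Q.map g = (RDfac i₂ _).inv ≫ (RD i₂).map γ' ≫ (RDfac i₂ _).hom := by
      rw [hg]; simp
    change Q.map g ≫ (RDfac i₂ _).inv ≫ (RD i₂).map ((RDfac i₁ E).inv ≫ (RD i₁).map β) =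
      ((RDfac i₂ _).inv ≫ (RD i₂).map ((RDfac i₁ P).inv ≫ (RD i₁).map α)) ≫
        (RD i₂).map ((RD i₁).map T.mor₁)
    rw [hQg]
    simp only [Category.assoc, Iso.hom_inv_id_assoc]
    rw [← Functor.map_comp, ← Functor.map_comp]
    congr 2
    dsimp only [γ']
    simp only [Category.assoc, Iso.hom_inv_id_assoc]
    rw [← hγ, Functor.map_comp]
  obtain ⟨c, hc₁, hc₂⟩ := complete_distinguished_triangle_morphism _ _ hTg hT₂ a₁ a₂ comm
  let Φ : Tg ⟶ T₂ :=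
    { hom₁ := a₁, hom₂ := a₂, hom₃ := c
      comm₁ := comm
      comm₂ := hc₁
      comm₃ := hc₂ }
  have hc : IsWitD m c := isWitD_hom₃ hTg hT₂ Φ m ha₁ ha₂
  refine ⟨W₂, i₂ ≫ i₁, inferInstance, ⟨w₂, rfl⟩, CochainComplex.mappingCone g,
    c ≫ ((RDcomp i₂ i₁).app T.obj₃).inv,
    Groth.Agent.H3.SPerf.cone_perf g (isStrictlyPerfect_restrict i₂ _ hP₁)
      (isStrictlyPerfect_restrict i₂ _ hE₁), ?_⟩
  have := (isWitD_iso_comp (m := m) (𝟙 _) c ((RDcomp i₂ i₁).app T.obj₃).inv).mpr hc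
  rwa [Category.id_comp] at this

end LemmaB

section PCAt

variable {X : Scheme.{u}}

lemma exists_wit_shrink {m : ℤ} {K : DCoh.D X} {U V : Scheme.{u}} (j : U ⟶ X) (l : V ⟶ U)
    (k : V ⟶ X) [IsOpenImmersion j] [IsOpenImmersion l] [IsOpenImmersion k] (hk : k = l ≫ j)
    (E : CochainComplex U.Modules ℤ) (α : Q.obj E ⟶ (RD j).obj K) (hα : IsWitD m α) :
    ∃ α' : Q.obj ((resCx l).obj E) ⟶ (RD k).obj K, IsWitD m α' := by
  subst hk
  refine ⟨(RDfac l E).inv ≫ (RD l).map α ≫ ((RDcomp l j).app K).inv, ?_⟩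
  rw [isWitD_iso_comp]
  exact hα.map _

theorem PCAt.obj₃ (T : Triangle (DCoh.D X)) (hT : T ∈ distTriang _) (m : ℤ) (x : X)
    (h₁ : PCAt (m + 1) T.obj₁ x) (h₂ : PCAt m T.obj₂ x) : PCAt m T.obj₃ x := by
  obtain ⟨U₁, j₁, hj₁, E₁, α₁, hx₁, hE₁, hα₁⟩ := h₁
  obtain ⟨U₂, j₂, hj₂, E₂, α₂, hx₂, hE₂, hα₂⟩ := h₂
  let U := pullback j₁ j₂
  let p₁ : U ⟶ U₁ := pullback.fst j₁ j₂
  let p₂ : U ⟶ U₂ := pullback.snd j₁ j₂
  let j : U ⟶ X := p₁ ≫ j₁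
  have hj2 : j = p₂ ≫ j₂ := pullback.condition
  have hxj : x ∈ Set.range j := by
    rw [IsOpenImmersion.range_pullback_to_base_of_left]
    exact ⟨hx₁, hx₂⟩
  obtain ⟨u, rfl⟩ := hxj
  obtain ⟨a₁, ha₁⟩ := exists_wit_shrink j₁ p₁ j rfl E₁ α₁ hα₁
  obtain ⟨a₂, ha₂⟩ := exists_wit_shrink j₂ p₂ j hj2 E₂ α₂ hα₂
  obtain ⟨W, i, hi, ⟨w, rfl⟩, F, c, hF, hc⟩ := exists_wit_obj₃ U u
    ((RD j).mapTriangle.obj T) ((RD j).map_distinguished _ hT) m
    _ (isStrictlyPerfect_restrict p₁ E₁ hE₁) a₁ ha₁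
    _ (isStrictlyPerfect_restrict p₂ E₂ hE₂) a₂ ha₂
  refine ⟨W, i ≫ j, inferInstance, F, c ≫ ((RDcomp i j).app T.obj₃).inv, ⟨w, rfl⟩, hF, ?_⟩
  have := (isWitD_iso_comp (m := m) (𝟙 _) c ((RDcomp i j).app T.obj₃).inv).mpr hc
  rwa [Category.id_comp] at this

lemma _root_.Groth.Agent.H4.TilD9.IsWitD.shift {C : Type*} [Category C] [Abelian C]
    [HasDerivedCategory C] {m : ℤ} {A B : DerivedCategory C} {α : A ⟶ B} (hα : IsWitD m α)
    (n : ℤ) : IsWitD (m - n) (α⟦n⟧') := by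
  have key : ∀ i : ℤ, Arrow.mk ((homologyFunctor C i).map (α⟦n⟧')) ≅
      Arrow.mk ((homologyFunctor C (i + n)).map α) := fun i =>
    Arrow.isoMk (((homologyFunctor C 0).shiftIso n i (i + n) (by omega)).app A)
      (((homologyFunctor C 0).shiftIso n i (i + n) (by omega)).app B)
      (((homologyFunctor C 0).shiftIso n i (i + n) (by omega)).hom.naturality α).symm
  refine ⟨fun i hi => ?_, ?_⟩
  · haveI : IsIso ((homologyFunctor C (i + n)).map α) := hα.1 (i + n) (by omega)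
    exact ((MorphismProperty.isomorphisms _).arrow_mk_iso_iff (key i)).2 inferInstance
  · have h : Epi ((homologyFunctor C m).map α) := hα.2
    have e : m - n + n = m := by omega
    have := ((MorphismProperty.epimorphisms _).arrow_mk_iso_iff (key (m - n))).2 (by
      rw [MorphismProperty.epimorphisms.iff]
      convert h using 3)
    exact this

theorem PCAt.shift {m : ℤ} (K : DCoh.D X) (x : X) (n : ℤ) (h : PCAt m K x) :
    PCAt (m - n) (K⟦n⟧) x := by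
  obtain ⟨U, j, hj, E, α, hx, hE, hα⟩ := h
  refine ⟨U, j, hj, E⟦n⟧,
    ((Q.commShiftIso n).app E).hom ≫ α⟦n⟧' ≫ (((RD j).commShiftIso n).app K).inv, hx,
    isStrictlyPerfect_shift E hE n, ?_⟩
  rw [isWitD_iso_comp]
  exact hα.shift n

theorem PCAt.obj₂ (T : Triangle (DCoh.D X)) (hT : T ∈ distTriang _) (m : ℤ) (x : X)
    (h₁ : PCAt m T.obj₁ x) (h₃ : PCAt m T.obj₃ x) : PCAt m T.obj₂ x := by
  refine PCAt.obj₃ T.invRotate (inv_rot_of_distTriang _ hT) m x ?_ h₁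
  have := PCAt.shift _ x (-1) h₃
  rwa [show m - -1 = m + 1 by omega] at this

theorem PCAt.obj₁ (T : Triangle (DCoh.D X)) (hT : T ∈ distTriang _) (m : ℤ) (x : X)
    (h₂ : PCAt (m + 1) T.obj₂ x) (h₃ : PCAt m T.obj₃ x) : PCAt (m + 1) T.obj₁ x := by
  have h := PCAt.obj₃ T.rotate (rot_of_distTriang _ hT) m x h₂ h₃
  have h' := PCAt.shift _ x (-1) h
  rw [show m - -1 = m + 1 by omega] at h'
  exact PCAt.of_iso ((shiftEquiv (DCoh.D X) (1 : ℤ)).unitIso.symm.app T.obj₁) x h'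

theorem S0889 (m : ℤ) (T : Triangle (DCoh.D X)) (hT : T ∈ distinguishedTriangles) :
    (DCoh.IsPseudoCoherentD (m + 1) T.obj₁ → DCoh.IsPseudoCoherentD m T.obj₂ →
      DCoh.IsPseudoCoherentD m T.obj₃) ∧
    (DCoh.IsPseudoCoherentD m T.obj₁ → DCoh.IsPseudoCoherentD m T.obj₃ →
      DCoh.IsPseudoCoherentD m T.obj₂) ∧
    (DCoh.IsPseudoCoherentD (m + 1) T.obj₂ → DCoh.IsPseudoCoherentD m T.obj₃ →
      DCoh.IsPseudoCoherentD (m + 1) T.obj₁) := by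
  simp only [isPseudoCoherentD_iff_pcAt]
  exact ⟨fun h1 h2 x => PCAt.obj₃ T hT m x (h1 x) (h2 x),
    fun h1 h3 x => PCAt.obj₂ T hT m x (h1 x) (h3 x),
    fun h2 h3 x => PCAt.obj₁ T hT m x (h2 x) (h3 x)⟩

end PCAt

end Groth.Agent.H4.PCS4
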