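import Mathlib
import Groth.Agent.H4.PCS4

set_option autoImplicit false
universe u
attribute [local instance] HasDerivedCategory.standard
open CategoryTheory CategoryTheory.Limits AlgebraicGeometry Groth.Agent.LD.QC DerivedCategory
open Groth.Agent.H4.PSch1 Groth.Agent.H4.PSch2 Groth.Agent.H4.PSch3 Groth.Agent.H4.PSch4
open Groth.Agent.H4.PSch5 Groth.Agent.H4.PSch6 Groth.Agent.H4.TilD1 Groth.Agent.H4.TilD9
open Groth.Agent.H4.TilD10 Groth.Agent.H4.TilD11 Groth.Agent.H4.PCS1 Groth.Agent.H4.PCS2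
open Groth.Agent.H4.PCS3 Groth.Agent.H4.PCS4 Pretriangulated

namespace Groth.Agent.H4.PCS5

variable {X : Scheme.{u}}

lemma qc_of_local (M : X.Modules)
    (h : ∀ x : X, ∃ (U : Scheme.{u}) (j : U ⟶ X) (_ : IsOpenImmersion j),
      x ∈ Set.range j ∧ (M.restrict j).IsQuasicoherent) : M.IsQuasicoherent := by
  choose U j hj hx hc using h
  refine isQuasicoherent_of_isOpenCover M (fun x : X => (j x).opensRange) ?_ ?_
  · rw [TopologicalSpace.IsOpenCover, eq_top_iff]
    intro x _
    exact TopologicalSpace.Opens.mem_iSup.mpr ⟨x, hx x⟩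
  · intro x
    haveI := hc x
    haveI : ((M.restrict (j x)).restrict (j x).isoOpensRange.inv).IsQuasicoherent :=
      qc_restrict _ _
    exact qc_of_iso (restrictOpensRangeIso (j x) M) inferInstance

/-- the homology of a short complex with quasi-coherent terms is quasi-coherent -/
lemma qc_homology (S : ShortComplex X.Modules) (h₁ : S.X₁.IsQuasicoherent)
    (h₂ : S.X₂.IsQuasicoherent) (h₃ : S.X₃.IsQuasicoherent) : S.homology.IsQuasicoherent := by
  have hc : S.cycles.IsQuasicoherent :=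
    qc_of_iso S.cyclesIsoKernel.symm (qc_kernel S.g h₂ h₃)
  have e : cokernel S.toCycles ≅ S.homology :=
    (IsColimit.coconePointUniqueUpToIso (colimit.isColimit _) S.homologyIsCokernel)
  exact qc_of_iso e (qc_cokernel S.toCycles h₁ hc)

lemma qc_homology_of_isStrictlyPerfect (P : CochainComplex X.Modules ℤ)
    (hP : DCoh.IsStrictlyPerfect P) (n : ℤ) : (P.homology n).IsQuasicoherent :=
  qc_homology (P.sc n) (qc_of_isFinLocFree _ (hP.2 _)) (qc_of_isFinLocFree _ (hP.2 _))
    (qc_of_isFinLocFree _ (hP.2 _))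

/-- the comparison map on cohomology sheaves attached to local pseudo-coherence data -/
lemma exists_homology_map {U : Scheme.{u}} (j : U ⟶ X) [IsOpenImmersion j] (K : DCoh.D X)
    (F : CochainComplex U.Modules ℤ) (α : Q.obj F ⟶ (RD j).obj K) (n : ℤ) :
    ∃ π : F.homology n ⟶ (DCoh.HD K n).restrict j,
      (IsIso ((homologyFunctor U.Modules n).map α) → IsIso π) ∧
      (Epi ((homologyFunctor U.Modules n).map α) → Epi π) := by
  let e₁ := (homologyFunctorFactors U.Modules n).app F
  let e₂ := (mapDerivedCategoryHomologyIso (Scheme.Modules.restrictFunctor j) n).app K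
  refine ⟨e₁.inv ≫ (homologyFunctor U.Modules n).map α ≫ e₂.hom, ?_, ?_⟩
  · intro h
    infer_instance
  · intro h
    infer_instance

theorem S7240 (m : ℤ) (E : DCoh.D X) (hE : DCoh.IsPseudoCoherentD m E) :
    (∀ i : ℤ, m < i → Coh.IsQCoh (DCoh.HD E i)) ∧
      ∀ x : X, ∃ (V : X.Opens) (Q : (V : Scheme.{u}).Modules)
        (π : Q ⟶ (Scheme.Modules.restrictFunctor V.ι).obj (DCoh.HD E m)),
        x ∈ V ∧ Coh.IsQCoh Q ∧ Epi π := by
  rw [isPseudoCoherentD_iff_pcAt] at hE
  constructor
  · intro i hi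
    apply qc_of_local
    intro x
    obtain ⟨U, j, hj, F, α, hx, hF, hα⟩ := hE x
    obtain ⟨π, hπ, -⟩ := exists_homology_map j E F α i
    haveI := hπ (hα.1 i hi)
    exact ⟨U, j, hj, hx, qc_of_iso (asIso π) (qc_homology_of_isStrictlyPerfect F hF i)⟩
  · intro x
    obtain ⟨U, j, hj, F, α, hx, hF, hα⟩ := hE x
    obtain ⟨π, -, hπ⟩ := exists_homology_map j E F α m
    haveI := hπ hα.2
    haveI := qc_homology_of_isStrictlyPerfect F hF m
    let R := Scheme.Modules.restrictFunctor j.isoOpensRange.inv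
    haveI : Epi (R.map π) := inferInstance
    refine ⟨j.opensRange, R.obj (F.homology m),
      R.map π ≫ (restrictOpensRangeIso j (DCoh.HD E m)).hom, hx, qc_restrict _ _, ?_⟩
    exact epi_comp _ _

end Groth.Agent.H4.PCS5
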