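import Mathlib
import Groth.Agent.H4.PCS5
import Groth.Agent.Lib.Lead.QC.Gen

set_option autoImplicit false
universe u
attribute [local instance] HasDerivedCategory.standard
open CategoryTheory CategoryTheory.Limits AlgebraicGeometry Groth.Agent.LD.QC DerivedCategory
open Groth.Agent.H4.PSch1 Groth.Agent.H4.PSch2 Groth.Agent.H4.PSch3 Groth.Agent.H4.PSch4
open Groth.Agent.H4.PSch5 Groth.Agent.H4.PSch6 Groth.Agent.H4.TilD1 Groth.Agent.H4.TilD9
open Groth.Agent.H4.TilD10 Groth.Agent.H4.TilD11 Groth.Agent.H4.PCS1 Groth.Agent.H4.PCS2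
open Groth.Agent.H4.PCS3 Groth.Agent.H4.PCS4 Groth.Agent.H4.PCS5 Pretriangulated

namespace Groth.Agent.H4.PCS6

variable {X : Scheme.{u}}

section FT

/-- finite type passes to quotients -/
lemma isFiniteType_of_epi' {M N : X.Modules} (p : M ⟶ N) [Epi p] (hM : M.IsFiniteType) :
    N.IsFiniteType := by
  rw [isFiniteType_iff_forall_exists] at hM ⊢
  intro x
  obtain ⟨U, hxU, σ, hσ⟩ := hM x
  have hepi : @Epi (SheafOfModules.{u} (↑U : Scheme.{u}).ringCatSheaf) _ _ _
      ((Scheme.Modules.restrictFunctor U.ι).map p) :=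
    (Scheme.Modules.restrictFunctor U.ι).map_epi p
  exact ⟨U, hxU, @SheafOfModules.GeneratingSections.ofEpi _ _ _ _ _ _ _ _ σ
    ((Scheme.Modules.restrictFunctor U.ι).map p) hepi, hσ⟩

lemma isFiniteType_of_local (M : X.Modules)
    (h : ∀ x : X, ∃ (U : Scheme.{u}) (j : U ⟶ X) (_ : IsOpenImmersion j),
      x ∈ Set.range j ∧ (M.restrict j).IsFiniteType) : M.IsFiniteType := by
  rw [isFiniteType_iff_forall_exists]
  intro x
  obtain ⟨U, j, hj, ⟨y, rfl⟩, hft⟩ := h x
  obtain ⟨V, hyV, σ, hσ⟩ := (isFiniteType_iff_forall_exists _).mp hft y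
  let k : (↑V : Scheme.{u}) ⟶ X := V.ι ≫ j
  let e : (M.restrict j).restrict V.ι ≅ M.restrict k :=
    (Scheme.Modules.restrictFunctorComp V.ι j).symm.app M
  let σ' : (M.restrict k).GeneratingSections := σ.ofEpi e.hom
  refine ⟨k.opensRange, ⟨⟨y, hyV⟩, rfl⟩,
    genOfLE M k k.opensRange.ι (by rw [Scheme.Opens.range_ι]; rfl) σ', ?_⟩
  exact hσ

lemma isFinitePresentation_of_local (M : X.Modules)
    (h : ∀ x : X, ∃ (U : Scheme.{u}) (j : U ⟶ X) (_ : IsOpenImmersion j),
      x ∈ Set.range j ∧ (M.restrict j).IsFinitePresentation) : M.IsFinitePresentation := by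
  rw [isFinitePresentation_iff_forall_exists]
  intro x
  obtain ⟨U, j, hj, ⟨y, rfl⟩, hft⟩ := h x
  obtain ⟨V, hyV, P, hP⟩ := (isFinitePresentation_iff_forall_exists _).mp hft y
  let k : (↑V : Scheme.{u}) ⟶ X := V.ι ≫ j
  let e : (M.restrict j).restrict V.ι ≅ M.restrict k :=
    (Scheme.Modules.restrictFunctorComp V.ι j).symm.app M
  let P' : (M.restrict k).Presentation := SheafOfModules.Presentation.ofIsIso.{u, u, u} e.hom P
  haveI : P'.IsFinite := by dsimp only [P']; infer_instance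
  exact ⟨k.opensRange, ⟨⟨y, hyV⟩, rfl⟩,
    presOfLE M k k.opensRange.ι (by rw [Scheme.Opens.range_ι]; rfl) P', presOfLE_isFinite _ _ _ _ _⟩

end FT

section LocFree

lemma isFinLocFree_of_local (M : X.Modules)
    (h : ∀ x : X, ∃ (U : Scheme.{u}) (j : U ⟶ X) (_ : IsOpenImmersion j),
      x ∈ Set.range j ∧ FlatMod.IsFinLocFree (M.restrict j)) : FlatMod.IsFinLocFree M := by
  intro x
  obtain ⟨U, j, hj, ⟨y, rfl⟩, hM⟩ := h x
  obtain ⟨V, n, hyV, ⟨e⟩⟩ := (isFinLocFree_restrict_iff M j).mp hM y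
  exact ⟨V, n, hyV, ⟨e⟩⟩

/-- the kernel of an epimorphism between finite locally free modules is finite locally free -/
lemma isFinLocFree_kernel {F G : X.Modules} (p : F ⟶ G) [Epi p] (hF : FlatMod.IsFinLocFree F)
    (hG : FlatMod.IsFinLocFree G) : FlatMod.IsFinLocFree (kernel p) := by
  apply isFinLocFree_of_local
  intro x
  obtain ⟨V, ψ, hxV, hψ⟩ := exists_local_lift_of_isFinLocFree p (𝟙 G) hG x
  let R := Scheme.Modules.restrictFunctor V.ι
  have hψ' : ψ ≫ R.map p = 𝟙 _ := by rw [hψ, R.map_id]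
  refine ⟨↑V, V.ι, inferInstance, by rw [Scheme.Opens.range_ι]; exact hxV, ?_⟩
  have e : R.obj (kernel p) ≅ kernel (R.map p) := PreservesKernel.iso R p
  refine isFinLocFree_of_iso e.symm ?_
  let r : R.obj F ⟶ kernel (R.map p) := kernel.lift (R.map p) (𝟙 _ - R.map p ≫ ψ) (by
    rw [Preadditive.sub_comp, Category.id_comp, Category.assoc, hψ', Category.comp_id, sub_self])
  refine isFinLocFree_of_retract (kernel.ι (R.map p)) r ?_ (isFinLocFree_restrict V.ι F hF)
  apply (cancel_mono (kernel.ι (R.map p))).1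
  simp [r]

lemma isFinLocFree_kernel_d (E : CochainComplex X.Modules ℤ) (hE : DCoh.IsStrictlyPerfect E)
    (m : ℤ) (hex : ∀ i, m < i → E.ExactAt i) :
    ∀ i, m ≤ i → FlatMod.IsFinLocFree (kernel (E.d i (i + 1))) := by
  obtain ⟨⟨a, b, hab⟩, hfree⟩ := hE
  have key : ∀ k : ℕ, ∀ i, m ≤ i → b + 1 - k ≤ i →
      FlatMod.IsFinLocFree (kernel (E.d i (i + 1))) := by
    intro k
    induction k with
    | zero =>
      intro i _ hi
      have hz : IsZero (E.X i) := hab i (Or.inr (by simpa using hi))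
      exact isFinLocFree_of_isZero (IsZero.of_mono (kernel.ι _) hz)
    | succ k ih =>
      intro i hmi hi
      have IH := ih (i + 1) (by omega) (by push_cast at hi; omega)
      let S := E.sc' i (i + 1) (i + 1 + 1)
      have hS : S.Exact := (E.exactAt_iff' i (i + 1) (i + 1 + 1) (by simp) (by simp)).1
        (hex (i + 1) (by omega))
      haveI : Epi S.toCycles := S.exact_iff_epi_toCycles.1 hS
      have hcyc : FlatMod.IsFinLocFree S.cycles := isFinLocFree_of_iso S.cyclesIsoKernel.symm IH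
      have h1 : FlatMod.IsFinLocFree (kernel S.toCycles) :=
        isFinLocFree_kernel S.toCycles (hfree i) hcyc
      have e : kernel S.toCycles ≅ kernel (E.d i (i + 1)) :=
        (kernelCompMono S.toCycles S.iCycles).symm ≪≫ kernelIsoOfEq S.toCycles_i
      exact isFinLocFree_of_iso e h1
  intro i hi
  exact key (b + 1 - i).toNat i hi (by omega)

end LocFree

section FP

/-- a cokernel of a morphism between finite locally free modules is finitely presented -/
lemma isFinitePresentation_of_isCokernel {F G N : X.Modules} (φ : F ⟶ G) (π : G ⟶ N)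
    (w : φ ≫ π = 0) (hc : IsColimit (CokernelCofork.ofπ π w))
    (hF : FlatMod.IsFinLocFree F) (hG : FlatMod.IsFinLocFree G) : N.IsFinitePresentation := by
  rw [isFinitePresentation_iff_forall_exists]
  intro x
  obtain ⟨V₁, a, hx₁, ⟨e₁⟩⟩ := hF x
  obtain ⟨V₂, b, hx₂, ⟨e₂⟩⟩ := hG x
  let V := V₁ ⊓ V₂
  have hV₁ : Set.range V.ι ⊆ Set.range V₁.ι := by
    rw [Scheme.Opens.range_ι, Scheme.Opens.range_ι]; exact inf_le_left
  have hV₂ : Set.range V.ι ⊆ Set.range V₂.ι := by
    rw [Scheme.Opens.range_ι, Scheme.Opens.range_ι]; exact inf_le_right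
  obtain ⟨e₁'⟩ := freeMod_of_range_subset F V₁.ι V.ι hV₁ a e₁
  obtain ⟨e₂'⟩ := freeMod_of_range_subset G V₂.ι V.ι hV₂ b e₂
  let R := Scheme.Modules.restrictFunctor V.ι
  let S₀ : ShortComplex X.Modules := ShortComplex.mk φ π w
  have hS₀ : S₀.Exact := S₀.exact_of_g_is_cokernel hc
  haveI : Epi π := epi_of_isColimit_cofork hc
  haveI : Epi S₀.g := inferInstanceAs (Epi π)
  have hS₁ : (S₀.map R).Exact := hS₀.map R
  haveI : Epi (S₀.map R).g := by
    change Epi (R.map π)
    exact R.map_epi π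
  let f := (freeModIso (↑V) a).inv ≫ e₁'.inv ≫ R.map φ ≫ e₂'.hom ≫ (freeModIso (↑V) b).hom
  let g := (freeModIso (↑V) b).inv ≫ e₂'.inv ≫ R.map π
  have H : f ≫ g = 0 := by
    dsimp only [f, g]
    simp only [Category.assoc, Iso.hom_inv_id_assoc]
    rw [← R.map_comp, w, R.map_zero]
    simp
  let S₂ : ShortComplex (↑V : Scheme.{u}).Modules := ShortComplex.mk f g H
  let ι : S₂ ≅ S₀.map R := ShortComplex.isoMk ((freeModIso (↑V) a).symm ≪≫ e₁'.symm)
    ((freeModIso (↑V) b).symm ≪≫ e₂'.symm) (Iso.refl _) (by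
      dsimp [S₂, S₀, f]
      simp only [Category.assoc, Iso.hom_inv_id_assoc]
      erw [Iso.hom_inv_id, Category.comp_id]
      rfl) (by
      dsimp [S₂, S₀, g]
      simp only [Category.assoc]
      erw [Category.comp_id]
      rfl)
  have hS₂ : S₂.Exact := (ShortComplex.exact_iff_of_iso ι).2 hS₁
  haveI : Epi S₂.g := by
    change Epi g
    dsimp only [g]
    haveI : Epi (R.map π) := R.map_epi π
    infer_instance
  have H' : IsColimit (CokernelCofork.ofπ g H) := hS₂.gIsCokernel
  let P := SheafOfModules.presentationOfIsCokernelFree f g H H'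
  refine ⟨V, ⟨hx₁, hx₂⟩, P, ?_⟩
  exact { isFiniteType_generators := ⟨inferInstanceAs (Finite (ULift.{u} (Fin b)))⟩
          isFiniteType_relations := ⟨inferInstanceAs (Finite (ULift.{u} (Fin a)))⟩ }

end FP

section Homology

lemma isFiniteType_homology (E : CochainComplex X.Modules ℤ) (hE : DCoh.IsStrictlyPerfect E)
    (m : ℤ) (hex : ∀ i, m < i → E.ExactAt i) : (E.homology m).IsFiniteType := by
  let S := E.sc' (m - 1) m (m + 1)
  have e : E.homology m ≅ S.homology := E.homologyIsoSc' (m - 1) m (m + 1) (by simp) (by simp)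
  have hcyc : FlatMod.IsFinLocFree S.cycles :=
    isFinLocFree_of_iso S.cyclesIsoKernel.symm (isFinLocFree_kernel_d E hE m hex m le_rfl)
  have hfp : S.cycles.IsFinitePresentation := isFinitePresentation_of_isFinLocFree _ hcyc
  have hft : S.cycles.IsFiniteType := inferInstance
  exact isFiniteType_of_epi' (S.homologyπ ≫ e.inv) hft

lemma isFinitePresentation_homology (E : CochainComplex X.Modules ℤ)
    (hE : DCoh.IsStrictlyPerfect E) (m : ℤ) (hex : ∀ i, m + 1 < i → E.ExactAt i) :
    (E.homology (m + 1)).IsFinitePresentation := by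
  let S := E.sc' m (m + 1) (m + 1 + 1)
  have e : E.homology (m + 1) ≅ S.homology :=
    E.homologyIsoSc' m (m + 1) (m + 1 + 1) (by simp) (by simp)
  have hcyc : FlatMod.IsFinLocFree S.cycles :=
    isFinLocFree_of_iso S.cyclesIsoKernel.symm
      (isFinLocFree_kernel_d E hE (m + 1) hex (m + 1) le_rfl)
  have h : S.homology.IsFinitePresentation :=
    isFinitePresentation_of_isCokernel S.toCycles S.homologyπ S.toCycles_comp_homologyπ
      S.homologyIsCokernel (hE.2 m) hcyc
  exact isFinitePresentation_of_iso e.symm h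

end Homology

theorem S0890 (m : ℤ) (K : DCoh.D X) (hK : DCoh.IsPseudoCoherentD m K) :
    ((∀ i : ℤ, m < i → IsZero (DCoh.HD K i)) → CohB1.IsFT (DCoh.HD K m)) ∧
    ((∀ i : ℤ, m + 1 < i → IsZero (DCoh.HD K i)) → CohB1.IsFP (DCoh.HD K (m + 1))) := by
  rw [isPseudoCoherentD_iff_pcAt] at hK
  have hexact : ∀ {U : Scheme.{u}} (j : U ⟶ X) [IsOpenImmersion j]
      (F : CochainComplex U.Modules ℤ) (α : Q.obj F ⟶ (RD j).obj K) (n : ℤ),
      IsIso ((homologyFunctor U.Modules n).map α) → IsZero (DCoh.HD K n) → F.ExactAt n := by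
    intro U j _ F α n hiso hz
    obtain ⟨π, hπ, -⟩ := exists_homology_map j K F α n
    haveI := hπ hiso
    rw [HomologicalComplex.exactAt_iff_isZero_homology]
    exact ((Scheme.Modules.restrictFunctor j).map_isZero hz).of_iso (asIso π)
  constructor
  · intro hz
    apply isFiniteType_of_local
    intro x
    obtain ⟨U, j, hj, F, α, hx, hF, hα⟩ := hK x
    obtain ⟨π, -, hπ⟩ := exists_homology_map j K F α m
    haveI := hπ hα.2
    have h1 : (F.homology m).IsFiniteType := isFiniteType_homology F hF m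
      (fun i hi => hexact j F α i (hα.1 i hi) (hz i hi))
    exact ⟨U, j, hj, hx, isFiniteType_of_epi' π h1⟩
  · intro hz
    apply isFinitePresentation_of_local
    intro x
    obtain ⟨U, j, hj, F, α, hx, hF, hα⟩ := hK x
    obtain ⟨π, hπ, -⟩ := exists_homology_map j K F α (m + 1)
    haveI := hπ (hα.1 (m + 1) (by omega))
    have h1 : (F.homology (m + 1)).IsFinitePresentation := isFinitePresentation_homology F hF m
      (fun i hi => hexact j F α i (hα.1 i (by omega)) (hz i hi))
    exact ⟨U, j, hj, hx, isFinitePresentation_of_iso (asIso π) h1⟩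

end Groth.Agent.H4.PCS6
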