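import Mathlib
import Groth.Agent.H4.PCS6
import Groth.Agent.Lib.Lead.QC.FinType

set_option autoImplicit false
universe u
attribute [local instance] HasDerivedCategory.standard
open CategoryTheory CategoryTheory.Limits AlgebraicGeometry Groth.Agent.LD.QC DerivedCategory
open Groth.Agent.H4.PSch1 Groth.Agent.H4.PSch2 Groth.Agent.H4.PSch3 Groth.Agent.H4.PSch4
open Groth.Agent.H4.PSch5 Groth.Agent.H4.PSch6 Groth.Agent.H4.TilD1 Groth.Agent.H4.TilD9
open Groth.Agent.H4.TilD10 Groth.Agent.H4.TilD11 Groth.Agent.H4.PCS1 Groth.Agent.H4.PCS2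
open Groth.Agent.H4.PCS3 Groth.Agent.H4.PCS4 Groth.Agent.H4.PCS5 Groth.Agent.H4.PCS6 Pretriangulated

namespace Groth.Agent.H4.PCS7

section Generic

variable {C : Type*} [Category C] [Abelian C] [HasDerivedCategory C]

lemma isWitD_single_map (n : ℤ) {M N : C} (p : M ⟶ N) [Epi p] :
    IsWitD n ((singleFunctor C n).map p) := by
  refine ⟨fun i hi => ?_, ?_⟩
  · have h1 := isZero_of_isLE ((singleFunctor C n).obj M) n i hi
    have h2 := isZero_of_isLE ((singleFunctor C n).obj N) n i hi
    exact ⟨0, h1.eq_of_src _ _, h2.eq_of_src _ _⟩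
  · have h := (singleFunctorCompHomologyFunctorIso C n).hom.naturality p
    have h' : (homologyFunctor C n).map ((singleFunctor C n).map p) =
        (singleFunctorCompHomologyFunctorIso C n).hom.app M ≫ p ≫
          (singleFunctorCompHomologyFunctorIso C n).inv.app N := by
      rw [← Category.assoc, ← Functor.id_map p, ← h]
      simp
    change Epi ((homologyFunctor C n).map ((singleFunctor C n).map p))
    rw [h']
    infer_instance

end Generic

variable {X : Scheme.{u}}

lemma PCAt.of_restrict {m : ℤ} {U : Scheme.{u}} (j : U ⟶ X) [IsOpenImmersion j] (K : DCoh.D X)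
    (y : U) (h : PCAt m ((RD j).obj K) y) : PCAt m K (j y) := by
  obtain ⟨W, i, hi, E, α, ⟨w, rfl⟩, hE, hα⟩ := h
  refine ⟨W, i ≫ j, inferInstance, E, α ≫ ((RDcomp i j).app K).inv, ⟨w, rfl⟩, hE, ?_⟩
  have := (isWitD_iso_comp (m := m) (𝟙 _) α ((RDcomp i j).app K).inv).mpr hα
  rwa [Category.id_comp] at this

/-- restriction of a module placed in degree `0` -/
noncomputable def RDinD {U : Scheme.{u}} (j : U ⟶ X) [IsOpenImmersion j] (F : X.Modules) :
    (RD j).obj (DCoh.inD X F) ≅ DCoh.inD U (F.restrict j) :=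
  ((Scheme.Modules.restrictFunctor j).mapDerivedCategorySingleFunctor 0).app F

lemma isStrictlyPerfect_single (M : X.Modules) (hM : FlatMod.IsFinLocFree M) :
    DCoh.IsStrictlyPerfect ((HomologicalComplex.single X.Modules (ComplexShape.up ℤ) 0).obj M) := by
  refine ⟨⟨0, 0, fun i hi => ?_⟩, fun i => ?_⟩
  · exact HomologicalComplex.isZero_single_obj_X (ComplexShape.up ℤ) 0 M i (by omega)
  · by_cases hi : i = 0
    · subst hi
      exact isFinLocFree_of_iso (HomologicalComplex.singleObjXSelf (ComplexShape.up ℤ) 0 M).symm hM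
    · exact isFinLocFree_of_isZero
        (HomologicalComplex.isZero_single_obj_X (ComplexShape.up ℤ) 0 M i hi)

lemma pcAt_of_isFinLocFree (m : ℤ) (M : X.Modules) (hM : FlatMod.IsFinLocFree M) (x : X) :
    PCAt m (DCoh.inD X M) x :=
  PCAt.of_global _ (isStrictlyPerfect_single M hM)
    ((singleFunctorIsoCompQ X.Modules 0).app M).inv (IsWitD.of_isIso _) x

lemma pcAt_zero_of_epi {M N : X.Modules} (hM : FlatMod.IsFinLocFree M) (p : M ⟶ N) [Epi p]
    (x : X) : PCAt 0 (DCoh.inD X N) x := by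
  refine PCAt.of_global _ (isStrictlyPerfect_single M hM)
    (((singleFunctorIsoCompQ X.Modules 0).app M).inv ≫ (singleFunctor X.Modules 0).map p) ?_ x
  exact (IsWitD.of_isIso _).comp (isWitD_single_map 0 p)

/-- a finite free module from a finite index type -/
noncomputable def freeIsoFreeMod (I : Type u) (n : ℕ) (e : I ≃ Fin n) :
    freeMod X n ≅ SheafOfModules.free (R := X.ringCatSheaf) I :=
  (Sigma.whiskerEquiv (f := fun _ : Fin n => SheafOfModules.unit X.ringCatSheaf)
    (g := fun _ : I => SheafOfModules.unit X.ringCatSheaf) e.symm (fun _ => Iso.refl _))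

lemma isFinLocFree_free (I : Type u) [Finite I] :
    FlatMod.IsFinLocFree (SheafOfModules.free (R := X.ringCatSheaf) I : X.Modules) := by
  obtain ⟨n, ⟨e⟩⟩ := Finite.exists_equiv_fin I
  exact isFinLocFree_of_iso (freeIsoFreeMod I n e) (isFinLocFree_freeMod X n)

theorem isPC_zero_of_isFiniteType (N : X.Modules) (hN : N.IsFiniteType) :
    DCoh.IsPseudoCoherentD 0 (DCoh.inD X N) := by
  rw [isPseudoCoherentD_iff_pcAt]
  intro x
  obtain ⟨U, hxU, σ, hσ⟩ := (isFiniteType_iff_forall_exists N).mp hN x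
  have hepi : @Epi (↑U : Scheme.{u}).Modules _ _ _ σ.π := σ.epi
  have h1 : PCAt 0 (DCoh.inD (↑U) (N.restrict U.ι)) ⟨x, hxU⟩ :=
    @pcAt_zero_of_epi _ _ _ (isFinLocFree_free σ.I) σ.π hepi _
  have h2 : PCAt 0 ((RD U.ι).obj (DCoh.inD X N)) ⟨x, hxU⟩ :=
    PCAt.of_iso (RDinD U.ι N).symm _ h1
  exact PCAt.of_restrict U.ι _ ⟨x, hxU⟩ h2

theorem isPC_negOne_of_isFinitePresentation (N : X.Modules) (hN : N.IsFinitePresentation) :
    DCoh.IsPseudoCoherentD (-1) (DCoh.inD X N) := by
  rw [isPseudoCoherentD_iff_pcAt]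
  intro x
  obtain ⟨U, hxU, P, hP⟩ := (isFinitePresentation_iff_forall_exists N).mp hN x
  let Y : Scheme.{u} := ↑U
  let N' : Y.Modules := N.restrict U.ι
  let π : (SheafOfModules.free (R := Y.ringCatSheaf) P.generators.I : Y.Modules) ⟶ N' :=
    P.generators.π
  haveI hepi : Epi π := P.generators.epi
  haveI : Finite P.generators.I := hP.isFiniteType_generators.finite
  haveI : Finite P.relations.I := hP.isFiniteType_relations.finite
  have hK : (kernel π).IsFiniteType := isFiniteType_of_generatingSections _ P.relations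
  let S : ShortComplex Y.Modules := ShortComplex.mk (kernel.ι π) π (kernel.condition π)
  have hS : S.ShortExact :=
    { exact := ShortComplex.exact_of_f_is_kernel _ (kernelIsKernel π)
      mono_f := inferInstanceAs (Mono (kernel.ι π))
      epi_g := hepi }
  have hT := hS.singleTriangle_distinguished
  have h₁ : PCAt ((-1 : ℤ) + 1) hS.singleTriangle.obj₁ ⟨x, hxU⟩ := by
    have := (isPseudoCoherentD_iff_pcAt 0 _).mp (isPC_zero_of_isFiniteType (kernel π) hK) ⟨x, hxU⟩
    exact this
  have h₂ : PCAt (-1 : ℤ) hS.singleTriangle.obj₂ ⟨x, hxU⟩ :=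
    pcAt_of_isFinLocFree (-1) _ (isFinLocFree_free P.generators.I) _
  have h₃ : PCAt (-1) (DCoh.inD Y N') ⟨x, hxU⟩ := PCAt.obj₃ _ hT (-1) _ h₁ h₂
  have h₄ : PCAt (-1) ((RD U.ι).obj (DCoh.inD X N)) ⟨x, hxU⟩ :=
    PCAt.of_iso (RDinD U.ι N).symm _ h₃
  exact PCAt.of_restrict U.ι _ ⟨x, hxU⟩ h₄

theorem S6518 (F : X.Modules) :
    (DCoh.IsPseudoCoherentD 0 (DCoh.inD X F) ↔ CohB1.IsFT F) ∧
    (DCoh.IsPseudoCoherentD (-1) (DCoh.inD X F) ↔ CohB1.IsFP F) := by
  have hz : ∀ i : ℤ, 0 < i → IsZero (DCoh.HD (DCoh.inD X F) i) := fun i hi =>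
    isZero_of_isLE (DCoh.inD X F) 0 i hi
  let e : DCoh.HD (DCoh.inD X F) 0 ≅ F := (singleFunctorCompHomologyFunctorIso X.Modules 0).app F
  constructor
  · constructor
    · intro h
      have h1 := (S0890 0 _ h).1 hz
      exact isFiniteType_of_epi' e.hom h1
    · exact isPC_zero_of_isFiniteType F
  · constructor
    · intro h
      have h1 := (S0890 (-1) _ h).2 (fun i hi => hz i (by omega))
      have h2 : (DCoh.HD (DCoh.inD X F) 0).IsFinitePresentation := h1
      exact isFinitePresentation_of_iso e h2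
    · exact isPC_negOne_of_isFinitePresentation F

end Groth.Agent.H4.PCS7
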