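import Mathlib
import Groth.Agent.H4.PCS7

set_option autoImplicit false
universe u
attribute [local instance] HasDerivedCategory.standard
open CategoryTheory CategoryTheory.Limits AlgebraicGeometry Groth.Agent.LD.QC DerivedCategory
open Groth.Agent.H4.PSch1 Groth.Agent.H4.PSch2 Groth.Agent.H4.PSch3 Groth.Agent.H4.PSch4
open Groth.Agent.H4.PSch5 Groth.Agent.H4.PSch6 Groth.Agent.H4.TilD1 Groth.Agent.H4.TilD9
open Groth.Agent.H4.TilD10 Groth.Agent.H4.TilD11 Groth.Agent.H4.PCS1 Groth.Agent.H4.PCS2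
open Groth.Agent.H4.PCS3 Groth.Agent.H4.PCS4 Groth.Agent.H4.PCS5 Groth.Agent.H4.PCS6
open Groth.Agent.H4.PCS7 Pretriangulated

namespace Groth.Agent.H4.PCS8

open ZeroObject

section Generic

variable {C : Type*} [Category C] [Abelian C] [HasDerivedCategory C]

lemma isLE_of_retract {K Y : DerivedCategory C} (i : K ⟶ Y) (p : Y ⟶ K) (hip : i ≫ p = 𝟙 K)
    (b : ℤ) [Y.IsLE b] : K.IsLE b := by
  rw [isLE_iff]
  intro j hj
  rw [IsZero.iff_id_eq_zero, ← CategoryTheory.Functor.map_id, ← hip, Functor.map_comp]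
  have : (homologyFunctor C j).map i = 0 := (isZero_of_isLE Y b j hj).eq_of_tgt _ _
  rw [this, zero_comp]

lemma isWitD_of_isLE {m : ℤ} {A K : DerivedCategory C} (α : A ⟶ K) (hA : IsZero A)
    [K.IsLE (m - 1)] : IsWitD m α := by
  refine ⟨fun i hi => ?_, ?_⟩
  · have h1 : IsZero ((homologyFunctor C i).obj A) := (homologyFunctor C i).map_isZero hA
    have h2 := isZero_of_isLE K (m - 1) i (by omega)
    exact ⟨0, h1.eq_of_src _ _, h2.eq_of_src _ _⟩
  · have h2 := isZero_of_isLE K (m - 1) m (by omega)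
    exact ⟨fun _ _ _ => h2.eq_of_src _ _⟩

end Generic

variable {X : Scheme.{u}}

lemma PCAt.mono {m m' : ℤ} (h : m ≤ m') {K : DCoh.D X} {x : X} (hK : PCAt m K x) :
    PCAt m' K x := by
  obtain ⟨U, j, hj, E, α, hx, hE, hα⟩ := hK
  exact ⟨U, j, hj, E, α, hx, hE, hα.mono h⟩

lemma PCAt.of_isLE (m : ℤ) (K : DCoh.D X) [K.IsLE (m - 1)] (x : X) : PCAt m K x := by
  have hz : IsZero (Q.obj (0 : CochainComplex X.Modules ℤ)) := Q.map_isZero (isZero_zero _)
  exact PCAt.of_global (0 : CochainComplex X.Modules ℤ)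
    isStrictlyPerfect_zero 0 (isWitD_of_isLE _ hz) x

theorem pcAt_biprod_aux (y : X) (d : ℕ) : ∀ (m : ℤ) (K L : DCoh.D X) [HasBinaryBiproduct K L]
    (b : ℤ), b < m + d → K.IsLE b → L.IsLE b → (∀ m' : ℤ, m ≤ m' → PCAt m' (K ⊞ L) y) →
    PCAt m K y ∧ PCAt m L y := by
  induction d with
  | zero =>
    intro m K L _ b hb hK hL _
    haveI : K.IsLE (m - 1) := TStructure.t.isLE_of_le K b (m - 1) (by push_cast at hb; omega)
    haveI : L.IsLE (m - 1) := TStructure.t.isLE_of_le L b (m - 1) (by push_cast at hb; omega)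
    exact ⟨PCAt.of_isLE m K y, PCAt.of_isLE m L y⟩
  | succ d ih =>
    intro m K L _ b hb hK hL h
    obtain ⟨h1, h2⟩ := ih (m + 1) K L b (by push_cast at hb ⊢; omega) hK hL
      (fun m' hm' => h m' (by omega))
    constructor
    · haveI : HasBinaryBiproduct L K := inferInstance
      have h3 : PCAt m (L ⊞ K) y := PCAt.of_iso (biprod.braiding K L) y (h m le_rfl)
      exact PCAt.obj₃ _ (binaryBiproductTriangle_distinguished L K) m y h2 h3
    · exact PCAt.obj₃ _ (binaryBiproductTriangle_distinguished K L) m y h1 (h m le_rfl)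

theorem pcAt_of_biprod (m : ℤ) (K L : DCoh.D X) [HasBinaryBiproduct K L] (x : X)
    (h : PCAt m (K ⊞ L) x) : PCAt m K x ∧ PCAt m L x := by
  obtain ⟨U, j, hj, E, α, ⟨y, rfl⟩, hE, hα⟩ := h
  obtain ⟨a, b, hab⟩ := hE.1
  let K' := (RD j).obj K
  let L' := (RD j).obj L
  haveI : HasBinaryBiproduct K' L' := inferInstance
  haveI : PreservesBinaryBiproducts (RD j) :=
    preservesBinaryBiproducts_of_preservesBiproducts _
  let e : (RD j).obj (K ⊞ L) ≅ K' ⊞ L' := (RD j).mapBiprod K L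
  have hLE : ((RD j).obj (K ⊞ L)).IsLE (max b m) := by
    rw [isLE_iff]
    intro i hi
    haveI : IsIso ((homologyFunctor U.Modules i).map α) :=
      hα.1 i (lt_of_le_of_lt (le_max_right b m) hi)
    have h1 : IsZero ((homologyFunctor U.Modules i).obj (Q.obj E)) := by
      refine IsZero.of_iso ?_ ((homologyFunctorFactors U.Modules i).app E)
      exact ShortComplex.isZero_homology_of_isZero_X₂ _
        (hab i (Or.inr (lt_of_le_of_lt (le_max_left b m) hi)))
    exact h1.of_iso (asIso ((homologyFunctor U.Modules i).map α)).symm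
  haveI : (K' ⊞ L').IsLE (max b m) := TStructure.t.isLE_of_iso e _
  have hK : K'.IsLE (max b m) :=
    isLE_of_retract (biprod.inl : K' ⟶ K' ⊞ L') biprod.fst biprod.inl_fst _
  have hL : L'.IsLE (max b m) :=
    isLE_of_retract (biprod.inr : L' ⟶ K' ⊞ L') biprod.snd biprod.inr_snd _
  have h0 : PCAt m (K' ⊞ L') y := PCAt.of_iso e y (PCAt.of_global E hE α hα y)
  obtain ⟨h1, h2⟩ := pcAt_biprod_aux y (max b m + 1 - m).toNat m K' L' (max b m) (by
    have := Int.self_le_toNat (max b m + 1 - m); omega) hK hL (fun m' hm' => PCAt.mono hm' h0)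
  exact ⟨PCAt.of_restrict j K y h1, PCAt.of_restrict j L y h2⟩

theorem S0888 (m : ℤ) (K L : DCoh.D X) [HasBinaryBiproduct K L]
    (h : DCoh.IsPseudoCoherentD m (K ⊞ L)) :
    DCoh.IsPseudoCoherentD m K ∧ DCoh.IsPseudoCoherentD m L := by
  simp only [isPseudoCoherentD_iff_pcAt] at h ⊢
  exact ⟨fun x => (pcAt_of_biprod m K L x (h x)).1, fun x => (pcAt_of_biprod m K L x (h x)).2⟩

end Groth.Agent.H4.PCS8
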