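import Mathlib
import Groth.Agent.H4.PCS4
import Groth.Prelude.Def_DCoh3

set_option autoImplicit false
universe u
attribute [local instance] HasDerivedCategory.standard
open CategoryTheory CategoryTheory.Limits AlgebraicGeometry Groth.Agent.LD.QC DerivedCategory
open Groth.Agent.H4.PSch1 Groth.Agent.H4.PSch2 Groth.Agent.H4.PSch3 Groth.Agent.H4.PSch4
open Groth.Agent.H4.PSch5 Groth.Agent.H4.PSch6 Groth.Agent.H4.TilD1 Groth.Agent.H4.TilD9
open Groth.Agent.H4.TilD10 Groth.Agent.H4.PCS1 Groth.Agent.H4.PCS2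
open Groth.Agent.H4.PCS3 Groth.Agent.H4.PCS4 Pretriangulated

namespace Groth.Agent.H4.PSch8

variable {X : Scheme.{u}}

section Convert

/-- transport of a homotopy between restricted maps along a further restriction -/
lemma homotopy_restrict_comp {U W : Scheme.{u}} (k : W ⟶ U) (i : U ⟶ X) [IsOpenImmersion k]
    [IsOpenImmersion i] {E F : CochainComplex X.Modules ℤ} (α β : E ⟶ F)
    (H : Homotopy ((resCx i).map α) ((resCx i).map β)) :
    Nonempty (Homotopy ((resCx (k ≫ i)).map α) ((resCx (k ≫ i)).map β)) := by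
  have H' : Homotopy ((resCx k).map ((resCx i).map α)) ((resCx k).map ((resCx i).map β)) :=
    (Scheme.Modules.restrictFunctor k).mapHomotopy H
  have hα : (resCx (k ≫ i)).map α = (resCxComp k i).hom.app E ≫
      (resCx k).map ((resCx i).map α) ≫ (resCxComp k i).inv.app F := by
    have h1 : (resCx (k ≫ i)).map α ≫ (resCxComp k i).hom.app F =
        (resCxComp k i).hom.app E ≫ (resCx k).map ((resCx i).map α) :=
      (resCxComp k i).hom.naturality α
    rw [← Category.assoc, ← h1, Category.assoc, Iso.hom_inv_id_app, Category.comp_id]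
  have hβ : (resCx (k ≫ i)).map β = (resCxComp k i).hom.app E ≫
      (resCx k).map ((resCx i).map β) ≫ (resCxComp k i).inv.app F := by
    have h1 : (resCx (k ≫ i)).map β ≫ (resCxComp k i).hom.app F =
        (resCxComp k i).hom.app E ≫ (resCx k).map ((resCx i).map β) :=
      (resCxComp k i).hom.naturality β
    rw [← Category.assoc, ← h1, Category.assoc, Iso.hom_inv_id_app, Category.comp_id]
  rw [hα, hβ]
  exact ⟨(H'.compRight _).compLeft _⟩

lemma homotopy_restrict_opensRange {U : Scheme.{u}} (i : U ⟶ X) [IsOpenImmersion i]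
    {E F : CochainComplex X.Modules ℤ} (α β : E ⟶ F)
    (H : Homotopy ((resCx i).map α) ((resCx i).map β)) :
    Nonempty (Homotopy ((resCx i.opensRange.ι).map α) ((resCx i.opensRange.ι).map β)) := by
  have key : ∀ (ι' : ↑i.opensRange ⟶ X) [IsOpenImmersion ι'], ι' = i.isoOpensRange.inv ≫ i →
      Nonempty (Homotopy ((resCx ι').map α) ((resCx ι').map β)) := by
    intro ι' _ hι'
    subst hι'
    exact homotopy_restrict_comp _ i α β H
  exact key i.opensRange.ι (Scheme.Hom.isoOpensRange_inv_comp i).symm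

end Convert

theorem S0932 {E F : CochainComplex X.Modules ℤ}
    (α : E ⟶ F) (hE : DCoh.IsStrictlyPerfect E) (a : ℤ) (hEa : ∀ i : ℤ, i < a → IsZero (E.X i))
    (hF : ∀ i : ℤ, a ≤ i → IsZero (F.homology i)) (x : X) :
    ∃ V : X.Opens, x ∈ V ∧ Nonempty (Homotopy ((DCoh.restrictCx V).map α) 0) := by
  obtain ⟨W, i, hi, hx, ⟨H⟩⟩ := exists_nullHomotopy_restrict' X x E F α hE a hEa
    (fun n hn => (HomologicalComplex.exactAt_iff_isZero_homology _ _).2 (hF n hn))
  have H' : Homotopy ((resCx i).map α) ((resCx i).map 0) := by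
    rw [Functor.map_zero]; exact H
  obtain ⟨H''⟩ := homotopy_restrict_opensRange i α 0 H'
  refine ⟨i.opensRange, hx, ⟨?_⟩⟩
  have : (resCx i.opensRange.ι).map (0 : E ⟶ F) = 0 := Functor.map_zero _ _ _
  rw [this] at H''
  exact H''

section Lift

lemma exactAt_of_isLE {U : Scheme.{u}} (C : CochainComplex U.Modules ℤ) (b : ℤ)
    [(Q.obj C).IsLE b] (n : ℤ) (hn : b < n) : C.ExactAt n := by
  rw [HomologicalComplex.exactAt_iff_isZero_homology]
  exact (isZero_of_isLE (Q.obj C) b n hn).of_iso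
    ((homologyFunctorFactors U.Modules n).app C).symm

theorem exists_lift_restrict {U : Scheme.{u}} (x : U) {E F G : CochainComplex U.Modules ℤ}
    (α : E ⟶ F) (f : G ⟶ F) (hE : DCoh.IsStrictlyPerfect E) (a : ℤ)
    (hEa : ∀ j : ℤ, j < a → IsZero (E.X j)) (hf : IsWitCx a f) :
    ∃ (W : Scheme.{u}) (i : W ⟶ U) (_ : IsOpenImmersion i), x ∈ Set.range i ∧
      ∃ β : (resCx i).obj E ⟶ (resCx i).obj G,
        Nonempty (Homotopy (β ≫ (resCx i).map f) ((resCx i).map α)) := by
  have hT := mappingCone_triangle_distinguished f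
  haveI : (Q.obj (CochainComplex.mappingCone f)).IsLE (a - 1) :=
    (isWitD_iff_isLE _ hT a).1 ((isWitD_Q_map_iff f).2 hf)
  obtain ⟨W, i, hi, hx, ⟨H⟩⟩ := exists_nullHomotopy_restrict' U x E _
    (α ≫ CochainComplex.mappingCone.inr f) hE a hEa
    (fun n hn => exactAt_of_isLE _ (a - 1) n (by omega))
  refine ⟨W, i, hi, hx, ?_⟩
  let R := Scheme.Modules.restrictFunctor i
  let f' : (resCx i).obj G ⟶ (resCx i).obj F := (resCx i).map f
  let α' : (resCx i).obj E ⟶ (resCx i).obj F := (resCx i).map α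
  have h0 : (HomotopyCategory.quotient _ _).map α' ≫
      (HomotopyCategory.quotient _ _).map (CochainComplex.mappingCone.inr f') = 0 := by
    have h1 := CochainComplex.mappingCone.map_inr f R
    have h3 : CochainComplex.mappingCone.inr f' =
        (resCx i).map (CochainComplex.mappingCone.inr f) ≫
          (CochainComplex.mappingCone.mapHomologicalComplexIso f R).hom := h1.symm
    rw [h3, ← Functor.map_comp, ← Category.assoc]
    have h4 : α' ≫ (resCx i).map (CochainComplex.mappingCone.inr f) =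
        (resCx i).map (α ≫ CochainComplex.mappingCone.inr f) := by
      rw [Functor.map_comp]
    rw [h4, Functor.map_comp, HomotopyCategory.eq_of_homotopy _ _ H]
    simp
  have hTh := HomotopyCategory.mappingCone_triangleh_distinguished f'
  obtain ⟨βbar, hβbar⟩ : ∃ βbar : (HomotopyCategory.quotient W.Modules (ComplexShape.up ℤ)).obj
        ((resCx i).obj E) ⟶ (HomotopyCategory.quotient W.Modules (ComplexShape.up ℤ)).obj
        ((resCx i).obj G),
      (HomotopyCategory.quotient _ _).map α' =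
        βbar ≫ (HomotopyCategory.quotient W.Modules (ComplexShape.up ℤ)).map f' :=
    Pretriangulated.Triangle.coyoneda_exact₂ _ hTh ((HomotopyCategory.quotient _ _).map α') h0
  obtain ⟨β, rfl⟩ : ∃ β : (resCx i).obj E ⟶ (resCx i).obj G,
      (HomotopyCategory.quotient W.Modules (ComplexShape.up ℤ)).map β = βbar :=
    (HomotopyCategory.quotient W.Modules (ComplexShape.up ℤ)).map_surjective βbar
  refine ⟨β, ⟨HomotopyCategory.homotopyOfEq _ _ ?_⟩⟩
  rw [Functor.map_comp]
  exact hβbar.symm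

lemma lift_restrict_comp {U W : Scheme.{u}} (k : W ⟶ U) (i : U ⟶ X) [IsOpenImmersion k]
    [IsOpenImmersion i] {E F G : CochainComplex X.Modules ℤ} (α : E ⟶ F) (f : G ⟶ F)
    (β : (resCx i).obj E ⟶ (resCx i).obj G)
    (H : Homotopy (β ≫ (resCx i).map f) ((resCx i).map α)) :
    ∃ β' : (resCx (k ≫ i)).obj E ⟶ (resCx (k ≫ i)).obj G,
      Nonempty (Homotopy (β' ≫ (resCx (k ≫ i)).map f) ((resCx (k ≫ i)).map α)) := by
  have nat : ∀ {A B : CochainComplex X.Modules ℤ} (g : A ⟶ B), (resCx (k ≫ i)).map g =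
      (resCxComp k i).hom.app A ≫ (resCx k).map ((resCx i).map g) ≫
        (resCxComp k i).inv.app B := by
    intro A B g
    have h1 : (resCx (k ≫ i)).map g ≫ (resCxComp k i).hom.app B =
        (resCxComp k i).hom.app A ≫ (resCx k).map ((resCx i).map g) :=
      (resCxComp k i).hom.naturality g
    rw [← Category.assoc, ← h1, Category.assoc, Iso.hom_inv_id_app, Category.comp_id]
  refine ⟨(resCxComp k i).hom.app E ≫ (resCx k).map β ≫ (resCxComp k i).inv.app G, ?_⟩
  have H' : Homotopy ((resCx k).map (β ≫ (resCx i).map f)) ((resCx k).map ((resCx i).map α)) :=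
    (Scheme.Modules.restrictFunctor k).mapHomotopy H
  have e1 : ((resCxComp k i).hom.app E ≫ (resCx k).map β ≫ (resCxComp k i).inv.app G) ≫
      (resCx (k ≫ i)).map f = (resCxComp k i).hom.app E ≫
        (resCx k).map (β ≫ (resCx i).map f) ≫ (resCxComp k i).inv.app F := by
    rw [nat f, Functor.map_comp]
    simp only [Category.assoc, Iso.inv_hom_id_app_assoc]
  rw [e1, nat α]
  exact ⟨(H'.compRight _).compLeft _⟩

end Lift

theorem S0933 {E F G : CochainComplex X.Modules ℤ}
    (α : E ⟶ F) (f : G ⟶ F) (hE : DCoh.IsStrictlyPerfect E) (a : ℤ)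
    (hEa : ∀ j : ℤ, j < a → IsZero (E.X j))
    (hf : ∀ j : ℤ, a < j → IsIso (HomologicalComplex.homologyMap f j))
    (hfa : Epi (HomologicalComplex.homologyMap f a)) (x : X) :
    ∃ (V : X.Opens) (β : (DCoh.restrictCx V).obj E ⟶ (DCoh.restrictCx V).obj G), x ∈ V ∧
      Nonempty (Homotopy (β ≫ (DCoh.restrictCx V).map f) ((DCoh.restrictCx V).map α)) := by
  obtain ⟨W, i, hi, hx, β, ⟨H⟩⟩ := exists_lift_restrict x α f hE a hEa ⟨hf, hfa⟩
  have key : ∀ (ι' : ↑i.opensRange ⟶ X) [IsOpenImmersion ι'], ι' = i.isoOpensRange.inv ≫ i →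
      ∃ β' : (resCx ι').obj E ⟶ (resCx ι').obj G,
        Nonempty (Homotopy (β' ≫ (resCx ι').map f) ((resCx ι').map α)) := by
    intro ι' _ hι'
    subst hι'
    exact lift_restrict_comp _ i α f β H
  obtain ⟨β', hβ'⟩ := key i.opensRange.ι (Scheme.Hom.isoOpensRange_inv_comp i).symm
  exact ⟨i.opensRange, β', hx, hβ'⟩

section ChainMap

variable {U W W' : Scheme.{u}} (i : W' ⟶ W) (j : W ⟶ U) [IsOpenImmersion i] [IsOpenImmersion j]

lemma RDcomp_hom_app_Q (F : CochainComplex U.Modules ℤ) :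
    (RDcomp i j).hom.app (Q.obj F) = (RDfac (i ≫ j) F).hom ≫ Q.map ((resCxComp i j).hom.app F) ≫
      (RDfac i ((resCx j).obj F)).inv ≫ (RD i).map (RDfac j F).inv := by
  dsimp only [RDcomp]
  rw [Localization.liftNatIso_hom, Localization.liftNatTrans_app]
  simp [RDfac, Localization.Lifting.iso]

lemma RDcomp_inv_app_Q (F : CochainComplex U.Modules ℤ) :
    (RDcomp i j).inv.app (Q.obj F) = (RD i).map (RDfac j F).hom ≫
      (RDfac i ((resCx j).obj F)).hom ≫ Q.map ((resCxComp i j).inv.app F) ≫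
        (RDfac (i ≫ j) F).inv := by
  rw [← cancel_epi ((RDcomp i j).hom.app (Q.obj F)), Iso.hom_inv_id_app, RDcomp_hom_app_Q]
  simp only [Category.assoc]
  rw [← Functor.map_comp_assoc (RD i), Iso.inv_hom_id, CategoryTheory.Functor.map_id,
    Category.id_comp, Iso.inv_hom_id_assoc, ← Functor.map_comp_assoc Q, Iso.hom_inv_id_app,
    CategoryTheory.Functor.map_id, Category.id_comp, Iso.hom_inv_id]

/-- a chain-map representative restricts along a further open immersion -/
lemma chainMap_restrict_comp {E F : CochainComplex U.Modules ℤ} (α : Q.obj E ⟶ Q.obj F)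
    (g : (resCx j).obj E ⟶ (resCx j).obj F)
    (hg : (RD j).map α = (RDfac j E).hom ≫ Q.map g ≫ (RDfac j F).inv) :
    (RD (i ≫ j)).map α = (RDfac (i ≫ j) E).hom ≫
      Q.map ((resCxComp i j).hom.app E ≫ (resCx i).map g ≫ (resCxComp i j).inv.app F) ≫
        (RDfac (i ≫ j) F).inv := by
  rw [RD_comp_map, hg, RDcomp_hom_app_Q, RDcomp_inv_app_Q]
  simp only [Functor.map_comp, Category.assoc, RD_map_Q]
  rw [← Functor.map_comp_assoc (RD i) (RDfac j E).inv, Iso.inv_hom_id,
    CategoryTheory.Functor.map_id, Category.id_comp, Iso.inv_hom_id_assoc,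
    ← Functor.map_comp_assoc (RD i) (RDfac j F).inv, Iso.inv_hom_id,
    CategoryTheory.Functor.map_id, Category.id_comp, Iso.inv_hom_id_assoc]

end ChainMap

theorem S0944 {E F : CochainComplex X.Modules ℤ}
    (hE : DCoh.IsStrictlyPerfect E) (α : DCoh.toD X E ⟶ DCoh.toD X F) (x : X) :
    ∃ V : X.Opens, x ∈ V ∧ ∀ [PreservesFiniteLimits (Scheme.Modules.restrictFunctor V.ι)],
      ∃ β : (DCoh.restrictCx V).obj E ⟶ (DCoh.restrictCx V).obj F,
        (DCoh.restrictD V.ι).map α =
          (Scheme.Modules.restrictFunctor V.ι).mapDerivedCategoryFactors.hom.app E ≫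
            DerivedCategory.Q.map β ≫
            (Scheme.Modules.restrictFunctor V.ι).mapDerivedCategoryFactors.inv.app F := by
  obtain ⟨W, i, hi, hx, g, hg⟩ := exists_chainMap_restrict X x E F hE α
  have key : ∀ (ι' : ↑i.opensRange ⟶ X) [IsOpenImmersion ι'], ι' = i.isoOpensRange.inv ≫ i →
      ∃ β : (resCx ι').obj E ⟶ (resCx ι').obj F,
        (RD ι').map α = (RDfac ι' E).hom ≫ Q.map β ≫ (RDfac ι' F).inv := by
    intro ι' _ hι'
    subst hι'
    exact ⟨_, chainMap_restrict_comp _ i α g hg⟩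
  obtain ⟨β, hβ⟩ := key i.opensRange.ι (Scheme.Hom.isoOpensRange_inv_comp i).symm
  refine ⟨i.opensRange, hx, ?_⟩
  intro _
  exact ⟨β, hβ⟩

end Groth.Agent.H4.PSch8
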