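import Mathlib
import Groth.Agent.H4.FAmp1
import Groth.Agent.H4.PCS8
import Groth.Agent.H4.PSch8
import Groth.Agent.Lib.Helper1.CohLen
import Groth.Agent.Lib.Helper2.CAlgA
import Groth.Agent.Lib.Lead.QC.FlatSpec
import Groth.Agent.Lib.Lead.QC.SuppPullback

set_option autoImplicit false
universe u
attribute [local instance] HasDerivedCategory.standard
open CategoryTheory CategoryTheory.Limits AlgebraicGeometry Groth.Agent.LD.QC DerivedCategory
open Groth.Agent.H1.CohLen Groth.Agent.H1.SchFlat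

namespace Groth.Agent.H4.FAmp2

variable {X : Scheme.{u}}

lemma isFlat_of_ses (T : ShortComplex X.Modules) (hT : T.ShortExact) (h3 : FlatMod.IsFlat T.X₃) :
    (FlatMod.IsFlat T.X₁ → FlatMod.IsFlat T.X₂) ∧ (FlatMod.IsFlat T.X₂ → FlatMod.IsFlat T.X₁) := by
  haveI := hT.mono_f
  haveI := hT.epi_g
  have key : ∀ x : X, (FlatMod.IsFlatAt T.X₁ x → FlatMod.IsFlatAt T.X₂ x) ∧
      (FlatMod.IsFlatAt T.X₂ x → FlatMod.IsFlatAt T.X₁ x) := by
    intro x
    exact @Groth.Agent.H2.CAlgA.flat_of_ses _ _ _ _ _ _ _ _ _ _ _ (stalkLin T.f x) (stalkLin T.g x)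
      (stalkFun_injective_of_mono T.f x) (stalkFun_exact T hT x)
      (stalkFun_surjective_of_epi T.g x) (h3 x)
  exact ⟨fun h x => (key x).1 (h x), fun h x => (key x).2 (h x)⟩

lemma isFlat_of_isZero (M : X.Modules) (h : IsZero M) : FlatMod.IsFlat M := by
  intro x
  haveI := subsingleton_stalk_of_isZero M h x
  change Module.Flat (X.presheaf.stalk x) (M.presheaf.stalk x)
  infer_instance

lemma isFlat_of_iso {M N : X.Modules} (e : M ≅ N) (h : FlatMod.IsFlat M) : FlatMod.IsFlat N := by
  intro x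
  haveI : Module.Flat (X.presheaf.stalk x) (M.presheaf.stalk x) := h x
  let ℓ : M.presheaf.stalk x ≃ₗ[X.presheaf.stalk x] N.presheaf.stalk x :=
    LinearEquiv.ofBijective (stalkLin e.hom x)
      ⟨stalkFun_injective_of_mono e.hom x, stalkFun_surjective_of_epi e.hom x⟩
  exact Module.Flat.of_linearEquiv ℓ.symm

lemma isFlat_kernel {M N : X.Modules} (p : M ⟶ N) [Epi p] (hM : FlatMod.IsFlat M)
    (hN : FlatMod.IsFlat N) : FlatMod.IsFlat (kernel p) := by
  let T : ShortComplex X.Modules := ShortComplex.mk (kernel.ι p) p (kernel.condition p)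
  have hT : T.ShortExact :=
    { exact := ShortComplex.exact_of_f_is_kernel _ (kernelIsKernel p)
      mono_f := inferInstanceAs (Mono (kernel.ι p))
      epi_g := inferInstanceAs (Epi p) }
  exact (isFlat_of_ses T hT hN).2 hM

lemma isFlat_biprod {M N : X.Modules} (hM : FlatMod.IsFlat M) (hN : FlatMod.IsFlat N) :
    FlatMod.IsFlat (M ⊞ N) := by
  let T : ShortComplex X.Modules :=
    ShortComplex.mk (biprod.inl : M ⟶ M ⊞ N) (biprod.snd : M ⊞ N ⟶ N) (by simp)
  have hT : T.ShortExact := (ShortComplex.Splitting.ofHasBinaryBiproduct M N).shortExact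
  exact (isFlat_of_ses T hT hN).1 hM

lemma isFlat_of_isFinLocFree (M : X.Modules) (hM : FlatMod.IsFinLocFree M) : FlatMod.IsFlat M := by
  intro x
  haveI : Module.Free (X.presheaf.stalk x) (M.presheaf.stalk x) := free_stalk_of_isFinLocFree M hM x
  change Module.Flat (X.presheaf.stalk x) (M.presheaf.stalk x)
  infer_instance

open Groth.Agent.H4.FAmp1 in
lemma kerClosed_isFlat : KerClosed (fun M : X.Modules => FlatMod.IsFlat M) where
  iso e h := isFlat_of_iso e h
  zero h := isFlat_of_isZero _ h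
  ker p _ hM hN := isFlat_kernel p hM hN
  biprod hM hN := isFlat_biprod hM hN

end Groth.Agent.H4.FAmp2
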