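import Mathlib
set_option autoImplicit false

/-!
# Left derived functors from left derivability structures (dual of Mathlib's
`DerivabilityStructure/PointwiseRightDerived.lean` and `Derives.lean`).
-/

namespace Groth.Agent.H4.LDS1

universe v₁ v₂ v₃ v₄ v₅ u₁ u₂ u₃ u₄ u₅

open CategoryTheory Limits Category Functor

section Guitart

variable {C₁ : Type u₁} {C₂ : Type u₂} {C₃ : Type u₃} {C₄ : Type u₄} {D : Type u₅}
  [Category.{v₁} C₁] [Category.{v₂} C₂] [Category.{v₃} C₃] [Category.{v₄} C₄]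
  [Category.{v₅} D]

variable {T : C₁ ⥤ C₂} {L : C₁ ⥤ C₃} {R : C₂ ⥤ C₄} {B : C₃ ⥤ C₄}
  {F : C₃ ⥤ D} (E : B.RightExtension F)

/-- dual of `Functor.LeftExtension.compTwoSquare` -/
abbrev compTwoSquare (w : TwoSquare T L R B) : T.RightExtension (L ⋙ F) :=
  RightExtension.mk (R ⋙ E.left)
    ((Functor.associator _ _ _).inv ≫ whiskerRight w.natTrans _ ≫ (Functor.associator _ _ _).hom ≫
      whiskerLeft _ E.hom)

/-- dual of `isPointwiseLeftKanExtensionAtCompTwoSquareEquiv` -/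
noncomputable def isPointwiseRightKanExtensionAtCompTwoSquareEquiv
    (w : TwoSquare T L R B) (X₂ : C₂) [Initial (w.structuredArrowDownwards X₂)] :
    (compTwoSquare E w).IsPointwiseRightKanExtensionAt X₂ ≃
      E.IsPointwiseRightKanExtensionAt (R.obj X₂) := by
  refine Equiv.trans ?_ (Initial.isLimitWhiskerEquiv (w.structuredArrowDownwards X₂) _)
  exact IsLimit.equivIsoLimit (Cone.ext (Iso.refl _) (fun j => by
    simp [RightExtension.coneAt, compTwoSquare, RightExtension.mk, TwoSquare.structuredArrowDownwards]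
    rfl))

variable {E} in
noncomputable def compTwoSquareIsPointwise
    (h : E.IsPointwiseRightKanExtension) (w : TwoSquare T L R B) [w.GuitartExact] :
    (compTwoSquare E w).IsPointwiseRightKanExtension :=
  fun X₂ ↦ (isPointwiseRightKanExtensionAtCompTwoSquareEquiv E w X₂).symm (h _)

lemma hasPointwiseRightKanExtensionAt_iff (w : TwoSquare T L R B)
    (F : C₃ ⥤ D) (X₂ : C₂) [(w.structuredArrowDownwards X₂).Initial] :
    T.HasPointwiseRightKanExtensionAt (L ⋙ F) X₂ ↔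
      B.HasPointwiseRightKanExtensionAt F (R.obj X₂) := by
  dsimp [Functor.HasPointwiseRightKanExtensionAt]
  rw [← Functor.Initial.hasLimit_comp_iff (w.structuredArrowDownwards X₂)]
  rfl

end Guitart

section Derivability

variable {C₁ : Type u₁} {C₂ : Type u₂} {H : Type u₃}
  [Category.{v₁} C₁] [Category.{v₂} C₂] [Category.{v₃} H]
  {D₁ : Type u₄} {D₂ : Type u₅}
  [Category.{v₄} D₁] [Category.{v₅} D₂]
  {W₁ : MorphismProperty C₁} {W₂ : MorphismProperty C₂}

variable (Φ : LocalizerMorphism W₁ W₂) (L₁ : C₁ ⥤ D₁) (L₂ : C₂ ⥤ D₂)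
  [L₁.IsLocalization W₁] [L₂.IsLocalization W₂]
  (F : C₂ ⥤ H) (F₁ : D₁ ⥤ H) (α₁ : L₁ ⋙ F₁ ⟶ Φ.functor ⋙ F)
  (F₂ : D₂ ⥤ H) (α₂ : L₂ ⋙ F₂ ⟶ F)
  [F₁.IsLeftDerivedFunctor α₁ W₁]

/-- the 2-square `L₁ ⋙ G ⟶ Φ.functor ⋙ L₂` -/
noncomputable abbrev sq : TwoSquare L₁ Φ.functor (Φ.localizedFunctor L₁ L₂) L₂ :=
  ((Φ.catCommSq L₁ L₂).iso).inv

/-- dual of `rightDerivedFunctorComparison` -/
noncomputable def leftDerivedFunctorComparison :
    Φ.localizedFunctor L₁ L₂ ⋙ F₂ ⟶ F₁ :=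
  F₁.leftDerivedLift α₁ W₁ (Φ.localizedFunctor L₁ L₂ ⋙ F₂)
    ((Functor.associator _ _ _).inv ≫ whiskerRight ((Φ.catCommSq L₁ L₂).iso).inv F₂ ≫
      (Functor.associator _ _ _).hom ≫ whiskerLeft _ α₂)

@[reassoc]
lemma leftDerivedFunctorComparison_fac :
    whiskerLeft _ (leftDerivedFunctorComparison Φ L₁ L₂ F F₁ α₁ F₂ α₂) ≫ α₁ =
      (Functor.associator _ _ _).inv ≫ whiskerRight ((Φ.catCommSq L₁ L₂).iso).inv F₂ ≫
      (Functor.associator _ _ _).hom ≫ whiskerLeft _ α₂ := by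
  dsimp only [leftDerivedFunctorComparison]
  rw [Functor.leftDerived_fac]

@[reassoc (attr := simp)]
lemma leftDerivedFunctorComparison_fac_app (X : C₁) :
    (leftDerivedFunctorComparison Φ L₁ L₂ F F₁ α₁ F₂ α₂).app (L₁.obj X) ≫ α₁.app X =
      F₂.map (((Φ.catCommSq L₁ L₂).iso).inv.app X) ≫ α₂.app (Φ.functor.obj X) := by
  simpa using congr_app (leftDerivedFunctorComparison_fac Φ L₁ L₂ F F₁ α₁ F₂ α₂) X

variable [Φ.IsLeftDerivabilityStructure]

lemma hasPointwiseLeftDerivedFunctorAt_iff_of_isLeftDerivabilityStructure (X : C₁) :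
    (Φ.functor ⋙ F).HasPointwiseLeftDerivedFunctorAt W₁ X ↔
      F.HasPointwiseLeftDerivedFunctorAt W₂ (Φ.functor.obj X) := by
  let e : W₂.Q.obj _ ≅ (Φ.localizedFunctor W₁.Q W₂.Q).obj _ := ((Φ.catCommSq W₁.Q W₂.Q).iso).app X
  rw [F.hasPointwiseLeftDerivedFunctorAt_iff W₂.Q W₂ (Φ.functor.obj X),
    (Φ.functor ⋙ F).hasPointwiseLeftDerivedFunctorAt_iff W₁.Q W₁ X,
    hasPointwiseRightKanExtensionAt_iff (sq Φ W₁.Q W₂.Q),
    Functor.hasPointwiseRightKanExtensionAt_iff_of_iso W₂.Q F e]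

lemma hasPointwiseLeftDerivedFunctor_iff_of_isLeftDerivabilityStructure :
    F.HasPointwiseLeftDerivedFunctor W₂ ↔
      ((Φ.functor ⋙ F).HasPointwiseLeftDerivedFunctor W₁) := by
  constructor
  · intro hF X₁
    rw [hasPointwiseLeftDerivedFunctorAt_iff_of_isLeftDerivabilityStructure]
    apply hF
  · intro hF X₂
    have R : Φ.LeftResolution X₂ := Classical.arbitrary _
    simpa only [hasPointwiseLeftDerivedFunctorAt_iff_of_isLeftDerivabilityStructure,
      F.hasPointwiseLeftDerivedFunctorAt_iff_of_mem W₂ R.w R.hw] using hF R.X₁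

section

variable [(Φ.functor ⋙ F).HasPointwiseLeftDerivedFunctor W₁]
  [F₂.IsLeftDerivedFunctor α₂ W₂]

instance : IsIso (leftDerivedFunctorComparison Φ L₁ L₂ F F₁ α₁ F₂ α₂) := by
  have : F.HasPointwiseLeftDerivedFunctor W₂ := by
    rw [hasPointwiseLeftDerivedFunctor_iff_of_isLeftDerivabilityStructure Φ]
    infer_instance
  dsimp only [leftDerivedFunctorComparison]
  rw [← isLeftDerivedFunctor_iff_isIso_leftDerivedLift,
    isLeftDerivedFunctor_iff_isRightKanExtension]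
  exact (compTwoSquareIsPointwise
    (F₂.isPointwiseRightKanExtensionOfHasPointwiseLeftDerivedFunctor α₂ W₂)
    (sq Φ L₁ L₂)).isRightKanExtension

lemma isIso_iff_of_isLeftDerivabilityStructure (X : C₁) :
    IsIso (α₁.app X) ↔ IsIso (α₂.app (Φ.functor.obj X)) := by
  rw [← isIso_comp_left_iff
    ((leftDerivedFunctorComparison Φ L₁ L₂ F F₁ α₁ F₂ α₂).app (L₁.obj X)) (α₁.app X),
    leftDerivedFunctorComparison_fac_app, isIso_comp_left_iff]

end

end Derivability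

section Derives

variable {C₁ : Type u₁} {C₂ : Type u₂} {H : Type u₃}
  [Category.{v₁} C₁] [Category.{v₂} C₂] [Category.{v₃} H]
  {D₂ : Type u₄} [Category.{v₄} D₂]
  {W₁ : MorphismProperty C₁} {W₂ : MorphismProperty C₂}

variable {Φ : LocalizerMorphism W₁ W₂} {F : C₂ ⥤ H} (h : Φ.Derives F) [Φ.IsLeftDerivabilityStructure]

include h

lemma hasPointwiseLeftDerivedFunctor : F.HasPointwiseLeftDerivedFunctor W₂ := by
  rw [hasPointwiseLeftDerivedFunctor_iff_of_isLeftDerivabilityStructure Φ F]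
  exact Functor.hasPointwiseLeftDerivedFunctor_of_inverts _ h

variable {L₂ : C₂ ⥤ D₂} [L₂.IsLocalization W₂] {LF : D₂ ⥤ H} (α : L₂ ⋙ LF ⟶ F)

lemma isIso_of_isLeftDerivedFunctor (X₁ : C₁) [LF.IsLeftDerivedFunctor α W₂] :
    IsIso (α.app (Φ.functor.obj X₁)) := by
  let G : W₁.Localization ⥤ H := Localization.lift (Φ.functor ⋙ F) h W₁.Q
  let eG := Localization.Lifting.iso W₁.Q W₁ (Φ.functor ⋙ F) G
  have := Functor.isLeftDerivedFunctor_of_inverts W₁ G eG
  have := (Φ.functor ⋙ F).hasPointwiseLeftDerivedFunctor_of_inverts h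
  rw [← isIso_iff_of_isLeftDerivabilityStructure Φ W₁.Q L₂ F G eG.hom LF α]
  infer_instance

end Derives

end Groth.Agent.H4.LDS1
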