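import Mathlib
import Groth.Agent.H4.LDS1
set_option autoImplicit false

/-!
# Left derivability structure from a triangulated subcategory with enough resolutions
-/

namespace Groth.Agent.H4.LDS2

open CategoryTheory Limits Category Pretriangulated ObjectProperty

variable {C : Type*} [Category C] [HasZeroObject C] [HasShift C ℤ] [Preadditive C]
  [∀ (n : ℤ), (shiftFunctor C n).Additive] [Pretriangulated C] [IsTriangulated C]
  (P N : ObjectProperty C) [P.IsTriangulated] [N.IsTriangulated] [N.IsClosedUnderIsomorphisms]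

/-- every object admits a resolution -/
def HasRes : Prop := ∀ X : C, ∃ (Y : C) (s : Y ⟶ X), P Y ∧ N.trW s

variable {P N}

lemma isVerdierLeftLocalizing (hres : HasRes P N) : P.IsVerdierLeftLocalizing N where
  fac {X Y} f hX hY := by
    obtain ⟨K, u, v, hT⟩ := distinguished_cocone_triangle₁ f
    -- K --u--> X --f--> Y --v--> K[1]
    obtain ⟨Q, s, hQ, hs⟩ := hres K
    have hu : N.trW u := ⟨_, _, _, hT, hY⟩
    have hg : N.trW (s ≫ u) := MorphismProperty.comp_mem _ _ _ hs hu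
    obtain ⟨Z, hZ, a, b, hT'⟩ := P.distinguished_cocone_triangle (s ≫ u) hQ hX
    -- Q --(s ≫ u)--> X --a--> Z --b--> Q[1]
    obtain ⟨c, hc, _⟩ := complete_distinguished_triangle_morphism _ _ hT' hT s (𝟙 X) (by
      change (s ≫ u) ≫ 𝟙 X = s ≫ u; rw [comp_id])
    replace hc : a ≫ c = 𝟙 X ≫ f := hc
    rw [id_comp] at hc
    refine ⟨Z, a, c, hZ, ?_, hc⟩
    exact (N.trW_iff_of_distinguished _ hT').1 hg

variable (hres : HasRes P N)

/-- the localizer morphism -/
abbrev Φ : LocalizerMorphism (N.inverseImage P.ι).trW N.trW := P.triangulatedLocalizerMorphism N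

include hres in
lemma hasLeftResolutions : (Φ (P := P) (N := N)).HasLeftResolutions := fun X => by
  obtain ⟨Y, s, hY, hs⟩ := hres X
  exact ⟨{ X₁ := ⟨Y, hY⟩, w := s, hw := hs }⟩

include hres in
lemma exists_common (X : C) (R R' : (Φ (P := P) (N := N)).LeftResolution X) :
    ∃ (R'' : (Φ (P := P) (N := N)).LeftResolution X), Nonempty (R'' ⟶ R) ∧ Nonempty (R'' ⟶ R') := by
  obtain ⟨ψ, hψ⟩ := MorphismProperty.HasRightCalculusOfFractions.exists_rightFraction
    (W := N.trW) (MorphismProperty.LeftFraction.mk R.w R'.w R'.hw)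
  dsimp at hψ
  -- ψ.s : ψ.X' ⟶ R.X₁ in W, ψ.f : ψ.X' ⟶ R'.X₁ ; ψ.s ≫ R.w = ψ.f ≫ R'.w
  obtain ⟨Y, t, hY, ht⟩ := hres ψ.X'
  refine ⟨{ X₁ := ⟨Y, hY⟩, w := t ≫ ψ.s ≫ R.w, hw := ?_ }, ⟨?_⟩, ⟨?_⟩⟩
  · exact MorphismProperty.comp_mem _ _ _ ht (MorphismProperty.comp_mem _ _ _ ψ.hs R.hw)
  · refine ⟨P.homMk (t ≫ ψ.s), ?_⟩
    change (t ≫ ψ.s) ≫ R.w = t ≫ ψ.s ≫ R.w
    rw [assoc]
  · refine ⟨P.homMk (t ≫ ψ.f), ?_⟩
    change (t ≫ ψ.f) ≫ R'.w = t ≫ ψ.s ≫ R.w
    rw [assoc, hψ]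

include hres in
lemma isConnected_leftResolution (X : C) : IsConnected ((Φ (P := P) (N := N)).LeftResolution X) := by
  haveI : Nonempty ((Φ (P := P) (N := N)).LeftResolution X) := hasLeftResolutions hres X
  refine zigzag_isConnected (fun R R' => ?_)
  obtain ⟨R'', ⟨f⟩, ⟨g⟩⟩ := exists_common hres X R R'
  exact (Zigzag.of_inv f).trans (Zigzag.of_hom g)

include hres in
lemma hasLeftResolutions_arrow : (Φ (P := P) (N := N)).arrow.HasLeftResolutions := fun f => by
  obtain ⟨PY, sY, hPY, hsY⟩ := hres f.right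
  obtain ⟨ψ, hψ⟩ := MorphismProperty.HasRightCalculusOfFractions.exists_rightFraction
    (W := N.trW) (MorphismProperty.LeftFraction.mk f.hom sY hsY)
  dsimp at hψ
  -- ψ.s : ψ.X' ⟶ f.left in W, ψ.f : ψ.X' ⟶ PY ; ψ.s ≫ f.hom = ψ.f ≫ sY
  obtain ⟨PX, t, hPX, ht⟩ := hres ψ.X'
  refine ⟨{ X₁ := Arrow.mk (P.homMk (t ≫ ψ.f) : (⟨PX, hPX⟩ : P.FullSubcategory) ⟶ ⟨PY, hPY⟩)
            w := Arrow.homMk (t ≫ ψ.s) sY ?_
            hw := ⟨MorphismProperty.comp_mem _ _ _ ht ψ.hs, hsY⟩ }⟩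
  change (t ≫ ψ.s) ≫ f.hom = (t ≫ ψ.f) ≫ sY
  rw [assoc, assoc, hψ]

include hres in
lemma isLocalizedEquivalence : (Φ (P := P) (N := N)).IsLocalizedEquivalence := by
  haveI := isVerdierLeftLocalizing hres
  let L₁ := (N.inverseImage P.ι).trW.Q
  let L₂ := N.trW.Q
  let G := (Φ (P := P) (N := N)).localizedFunctor L₁ L₂
  haveI : G.Full := inferInstanceAs ((P.triangulatedLocalizerMorphism N).localizedFunctor L₁ L₂).Full
  haveI : G.Faithful :=
    inferInstanceAs ((P.triangulatedLocalizerMorphism N).localizedFunctor L₁ L₂).Faithful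
  haveI : G.EssSurj := ⟨fun Y => by
    have : L₂.EssSurj := Localization.essSurj L₂ N.trW
    obtain ⟨X, ⟨e⟩⟩ : ∃ X, Nonempty (L₂.obj X ≅ Y) := ⟨_, ⟨L₂.objObjPreimageIso Y⟩⟩
    obtain ⟨Z, s, hZ, hs⟩ := hres X
    have := Localization.inverts L₂ N.trW s hs
    exact ⟨L₁.obj ⟨Z, hZ⟩,
      ⟨((CatCommSq.iso (Φ (P := P) (N := N)).functor L₁ L₂ G).symm.app ⟨Z, hZ⟩) ≪≫
        asIso (L₂.map s) ≪≫ e⟩⟩⟩
  haveI : G.IsEquivalence := { }
  exact LocalizerMorphism.IsLocalizedEquivalence.mk' (Φ (P := P) (N := N)) L₁ L₂ G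

include hres in
theorem isLeftDerivabilityStructure : (Φ (P := P) (N := N)).IsLeftDerivabilityStructure := by
  haveI := isLocalizedEquivalence hres
  haveI := isConnected_leftResolution hres
  haveI := hasLeftResolutions_arrow hres
  exact LocalizerMorphism.IsLeftDerivabilityStructure.mk' _

section Consequences

variable {H : Type*} [Category H] (G : C ⥤ H)
  (hG : ∀ ⦃X Y : C⦄ (f : X ⟶ Y), P X → P Y → N.trW f → IsIso (G.map f))

include hG in
lemma derives : (Φ (P := P) (N := N)).Derives G := by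
  intro X Y f hf
  rw [trW_inverseImage_ι_iff] at hf
  exact hG f.hom X.property Y.property (trW_monotone (fun _ h => h.2) _ hf)

include hres hG in
theorem hasPointwiseLeftDerivedFunctor : G.HasPointwiseLeftDerivedFunctor N.trW := by
  haveI := isLeftDerivabilityStructure hres
  exact Groth.Agent.H4.LDS1.hasPointwiseLeftDerivedFunctor (derives G hG)

include hres hG in
theorem isIso_counit_app {D : Type*} [Category D] (L : C ⥤ D) [L.IsLocalization N.trW]
    (LG : D ⥤ H) (α : L ⋙ LG ⟶ G) [LG.IsLeftDerivedFunctor α N.trW] (X : C) (hX : P X) :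
    IsIso (α.app X) := by
  haveI := isLeftDerivabilityStructure hres
  exact Groth.Agent.H4.LDS1.isIso_of_isLeftDerivedFunctor (derives G hG) α ⟨X, hX⟩

end Consequences

end Groth.Agent.H4.LDS2
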