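import Mathlib
import Groth.Agent.H4.LDS2
set_option autoImplicit false

/-!
# Weak exactness of left derived functors obtained from a triangulated subcategory with resolutions
-/

namespace Groth.Agent.H4.LDS10

open CategoryTheory Limits Category Pretriangulated ObjectProperty
open Groth.Agent.H4.LDS2

variable {C : Type*} [Category C] [HasZeroObject C] [HasShift C ℤ] [Preadditive C]
  [∀ (n : ℤ), (shiftFunctor C n).Additive] [Pretriangulated C] [IsTriangulated C]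
  {P N : ObjectProperty C} [P.IsTriangulated] [N.IsTriangulated] [N.IsClosedUnderIsomorphisms]
  [P.IsClosedUnderIsomorphisms]
  (hres : HasRes P N)
  {D : Type*} [Category D] [HasZeroObject D] [HasShift D ℤ] [Preadditive D]
  [∀ (n : ℤ), (shiftFunctor D n).Additive] [Pretriangulated D]
  (L : C ⥤ D) [L.CommShift ℤ] [L.IsTriangulated] [L.IsLocalization N.trW]

include hres in
/-- every distinguished triangle of the localization comes from a distinguished triangle with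
vertices in `P`. -/
theorem exists_triangle_in_P (T : Triangle D) (hT : T ∈ distTriang D) :
    ∃ (T₀ : Triangle C), T₀ ∈ distTriang C ∧ P T₀.obj₁ ∧ P T₀.obj₂ ∧ P T₀.obj₃ ∧
      Nonempty (T ≅ L.mapTriangle.obj T₀) := by
  haveI : L.mapArrow.EssSurj := Localization.essSurj_mapArrow L N.trW
  obtain ⟨f₀, ⟨e₀⟩⟩ : ∃ f₀ : Arrow C, Nonempty (L.mapArrow.obj f₀ ≅ Arrow.mk T.mor₁) :=
    ⟨_, ⟨L.mapArrow.objObjPreimageIso _⟩⟩
  obtain ⟨R⟩ := hasLeftResolutions_arrow hres f₀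
  -- R.X₁ : an arrow in P, R.w : its image ⟶ f₀ with both components in W
  obtain ⟨Z, hZ, b, c, hT₀⟩ := P.distinguished_cocone_triangle R.X₁.hom.hom R.X₁.left.property
    R.X₁.right.property
  have h1 := Localization.inverts L N.trW _ R.hw.1
  have h2 := Localization.inverts L N.trW _ R.hw.2
  have eR : L.mapArrow.obj (Arrow.mk R.X₁.hom.hom) ≅ L.mapArrow.obj f₀ :=
    Arrow.isoMk (@asIso _ _ _ _ (L.map R.w.left) h1) (@asIso _ _ _ _ (L.map R.w.right) h2) (by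
      change L.map R.w.left ≫ L.map f₀.hom = L.map R.X₁.hom.hom ≫ L.map R.w.right
      rw [← L.map_comp, ← L.map_comp]
      congr 1
      exact R.w.w)
  obtain ⟨e, -, -⟩ := exists_iso_of_arrow_iso T (L.mapTriangle.obj (Triangle.mk R.X₁.hom.hom b c)) hT
    (L.map_distinguished _ hT₀) (e₀.symm ≪≫ eR.symm)
  exact ⟨_, hT₀, R.X₁.left.property, R.X₁.right.property, hZ, ⟨e⟩⟩

section LG

variable {H : Type*} [Category H] [HasZeroObject H] [HasShift H ℤ] [Preadditive H]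
  [∀ (n : ℤ), (shiftFunctor H n).Additive] [Pretriangulated H]
  (G : C ⥤ H) [G.CommShift ℤ] [G.IsTriangulated]
  (hG : ∀ ⦃X Y : C⦄ (f : X ⟶ Y), P X → P Y → N.trW f → IsIso (G.map f))
  (LG : D ⥤ H) (α : L ⋙ LG ⟶ G) [LG.IsLeftDerivedFunctor α N.trW]

include hres hG α in
/-- the left derived functor sends distinguished triangles to (objects of) distinguished triangles -/
theorem exists_distTriang_LG (T : Triangle D) (hT : T ∈ distTriang D) :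
    ∃ (T' : Triangle H) (_ : T' ∈ distTriang H) (e₁ : T'.obj₁ ≅ LG.obj T.obj₁)
      (e₂ : T'.obj₂ ≅ LG.obj T.obj₂) (e₃ : T'.obj₃ ≅ LG.obj T.obj₃),
      T'.mor₁ ≫ e₂.hom = e₁.hom ≫ LG.map T.mor₁ ∧ T'.mor₂ ≫ e₃.hom = e₂.hom ≫ LG.map T.mor₂ := by
  obtain ⟨T₀, hT₀, h1, h2, h3, ⟨e⟩⟩ := exists_triangle_in_P hres L T hT
  have i1 := isIso_counit_app hres G hG L LG α T₀.obj₁ h1
  have i2 := isIso_counit_app hres G hG L LG α T₀.obj₂ h2
  have i3 := isIso_counit_app hres G hG L LG α T₀.obj₃ h3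
  refine ⟨G.mapTriangle.obj T₀, G.map_distinguished _ hT₀,
    (@asIso _ _ _ _ (α.app T₀.obj₁) i1).symm ≪≫ LG.mapIso (Triangle.π₁.mapIso e).symm,
    (@asIso _ _ _ _ (α.app T₀.obj₂) i2).symm ≪≫ LG.mapIso (Triangle.π₂.mapIso e).symm,
    (@asIso _ _ _ _ (α.app T₀.obj₃) i3).symm ≪≫ LG.mapIso (Triangle.π₃.mapIso e).symm, ?_, ?_⟩
  · obtain ⟨j₁, hj₁⟩ : ∃ j₁ : L.obj T₀.obj₁ ⟶ T.obj₁, j₁ = e.inv.hom₁ := ⟨_, rfl⟩
    obtain ⟨j₂, hj₂⟩ : ∃ j₂ : L.obj T₀.obj₂ ⟶ T.obj₂, j₂ = e.inv.hom₂ := ⟨_, rfl⟩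
    have hn : LG.map (L.map T₀.mor₁) ≫ α.app T₀.obj₂ = α.app T₀.obj₁ ≫ G.map T₀.mor₁ :=
      α.naturality T₀.mor₁
    have hc : L.map T₀.mor₁ ≫ j₂ = j₁ ≫ T.mor₁ := by
      rw [hj₁, hj₂]; exact e.inv.comm₁
    change G.map T₀.mor₁ ≫ inv (α.app T₀.obj₂) ≫ LG.map e.inv.hom₂ =
      (inv (α.app T₀.obj₁) ≫ LG.map e.inv.hom₁) ≫ LG.map T.mor₁
    rw [← hj₁, ← hj₂]
    have hn' : inv (α.app T₀.obj₁) ≫ LG.map (L.map T₀.mor₁) = G.map T₀.mor₁ ≫ inv (α.app T₀.obj₂) := by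
      rw [IsIso.inv_comp_eq, ← assoc, IsIso.eq_comp_inv]
      exact hn
    rw [assoc, ← LG.map_comp, ← hc, LG.map_comp, ← assoc, ← hn', assoc]
  · obtain ⟨j₂, hj₂⟩ : ∃ j₂ : L.obj T₀.obj₂ ⟶ T.obj₂, j₂ = e.inv.hom₂ := ⟨_, rfl⟩
    obtain ⟨j₃, hj₃⟩ : ∃ j₃ : L.obj T₀.obj₃ ⟶ T.obj₃, j₃ = e.inv.hom₃ := ⟨_, rfl⟩
    have hn : LG.map (L.map T₀.mor₂) ≫ α.app T₀.obj₃ = α.app T₀.obj₂ ≫ G.map T₀.mor₂ :=
      α.naturality T₀.mor₂
    have hc : L.map T₀.mor₂ ≫ j₃ = j₂ ≫ T.mor₂ := by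
      rw [hj₂, hj₃]; exact e.inv.comm₂
    change G.map T₀.mor₂ ≫ inv (α.app T₀.obj₃) ≫ LG.map e.inv.hom₃ =
      (inv (α.app T₀.obj₂) ≫ LG.map e.inv.hom₂) ≫ LG.map T.mor₂
    rw [← hj₂, ← hj₃]
    have hn' : inv (α.app T₀.obj₂) ≫ LG.map (L.map T₀.mor₂) = G.map T₀.mor₂ ≫ inv (α.app T₀.obj₃) := by
      rw [IsIso.inv_comp_eq, ← assoc, IsIso.eq_comp_inv]
      exact hn
    rw [assoc, ← LG.map_comp, ← hc, LG.map_comp, ← assoc, ← hn', assoc]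

end LG

end Groth.Agent.H4.LDS10
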