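import Mathlib
import Groth.Agent.H4.LDS2
set_option autoImplicit false

/-!
# Left derived functors on `K(A)` from an admissible class of complexes with resolutions
-/

namespace Groth.Agent.H4.LDS3

open CategoryTheory Limits Category Pretriangulated ObjectProperty

variable {A : Type*} [Category A] [Abelian A]

/-- the homotopy-category object property generated by a class of complexes -/
def hoP (Pc : CochainComplex A ℤ → Prop) : ObjectProperty (HomotopyCategory A (ComplexShape.up ℤ)) :=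
  fun K => ∃ E, Pc E ∧ Nonempty (K ≅ (HomotopyCategory.quotient A (ComplexShape.up ℤ)).obj E)

variable (Pc : CochainComplex A ℤ → Prop)

instance : (hoP Pc).IsClosedUnderIsomorphisms where
  of_iso := by
    rintro X Y e ⟨E, hE, ⟨e'⟩⟩
    exact ⟨E, hE, ⟨e.symm ≪≫ e'⟩⟩

lemma hoP_quotient {E : CochainComplex A ℤ} (hE : Pc E) :
    hoP Pc ((HomotopyCategory.quotient A (ComplexShape.up ℤ)).obj E) := ⟨E, hE, ⟨Iso.refl _⟩⟩

/-- admissible classes: contain a zero complex, stable under shifts and mapping cones -/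
structure Adm : Prop where
  zero : ∃ Z : CochainComplex A ℤ, IsZero Z ∧ Pc Z
  shift : ∀ (E : CochainComplex A ℤ) (n : ℤ), Pc E → Pc (E⟦n⟧)
  cone : ∀ {K L : CochainComplex A ℤ} (φ : K ⟶ L), Pc K → Pc L → Pc (CochainComplex.mappingCone φ)

variable {Pc}

lemma isTriangulated (h : Adm Pc) : (hoP Pc).IsTriangulated := by
  haveI : (hoP Pc).ContainsZero := by
    obtain ⟨Z, hZ, hPZ⟩ := h.zero
    exact ⟨⟨_, (HomotopyCategory.quotient A (ComplexShape.up ℤ)).map_isZero hZ, hoP_quotient Pc hPZ⟩⟩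
  haveI : (hoP Pc).IsStableUnderShift ℤ := ⟨fun n => ⟨by
    rintro X ⟨E, hE, ⟨e⟩⟩
    exact ⟨E⟦n⟧, h.shift E n hE, ⟨(shiftFunctor _ n).mapIso e ≪≫
      (((HomotopyCategory.quotient A (ComplexShape.up ℤ)).commShiftIso n).app E).symm⟩⟩⟩⟩
  haveI : (hoP Pc).IsTriangulatedClosed₃ := IsTriangulatedClosed₃.mk' (by
    rintro T hT ⟨E₁, hE₁, ⟨e₁⟩⟩ ⟨E₂, hE₂, ⟨e₂⟩⟩
    obtain ⟨ψ, hψ⟩ := (HomotopyCategory.quotient A (ComplexShape.up ℤ)).map_surjective
      (e₁.inv ≫ T.mor₁ ≫ e₂.hom)
    obtain ⟨e, -, -⟩ := exists_iso_of_arrow_iso T (CochainComplex.mappingCone.triangleh ψ) hT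
      (HomotopyCategory.mappingCone_triangleh_distinguished ψ)
      (Arrow.isoMk e₁ e₂ (by
        change e₁.hom ≫ (HomotopyCategory.quotient A (ComplexShape.up ℤ)).map ψ = T.mor₁ ≫ e₂.hom
        rw [hψ, Iso.hom_inv_id_assoc]))
    exact ⟨CochainComplex.mappingCone ψ, h.cone ψ hE₁ hE₂, ⟨Triangle.π₃.mapIso e⟩⟩)
  haveI : (hoP Pc).IsTriangulatedClosed₂ := IsTriangulatedClosed₂.of_isTriangulatedClosed₃
  exact { }

/-- enough resolutions at the level of complexes -/
def HasResCx (Pc : CochainComplex A ℤ → Prop) : Prop :=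
  ∀ X : CochainComplex A ℤ, ∃ (E : CochainComplex A ℤ) (s : E ⟶ X), Pc E ∧ QuasiIso s

lemma hasRes (hres : HasResCx Pc) :
    Groth.Agent.H4.LDS2.HasRes (hoP Pc) (HomotopyCategory.subcategoryAcyclic A) := by
  intro X
  obtain ⟨X, rfl⟩ := HomotopyCategory.quotient_obj_surjective X
  obtain ⟨E, s, hE, hs⟩ := hres X
  refine ⟨_, (HomotopyCategory.quotient A (ComplexShape.up ℤ)).map s, hoP_quotient Pc hE, ?_⟩
  rw [← HomotopyCategory.quasiIso_eq_trW_subcategoryAcyclic,
    HomotopyCategory.quotient_map_mem_quasiIso_iff]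
  exact hs

section Tri

variable {H : Type*} [Category H] [HasZeroObject H] [HasShift H ℤ] [Preadditive H]
  [∀ (n : ℤ), (shiftFunctor H n).Additive] [Pretriangulated H]
  (G : HomotopyCategory A (ComplexShape.up ℤ) ⥤ H) [G.CommShift ℤ] [G.IsTriangulated]

lemma isIso_map_of_acyclic (h : Adm Pc)
    (hG : ∀ E : CochainComplex A ℤ, Pc E → E.Acyclic →
      IsZero (G.obj ((HomotopyCategory.quotient A (ComplexShape.up ℤ)).obj E)))
    ⦃X Y : HomotopyCategory A (ComplexShape.up ℤ)⦄ (f : X ⟶ Y) (hX : hoP Pc X) (hY : hoP Pc Y)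
    (hf : (HomotopyCategory.subcategoryAcyclic A).trW f) : IsIso (G.map f) := by
  haveI := isTriangulated h
  obtain ⟨Z, g, k, hT⟩ := distinguished_cocone_triangle f
  have hZ : hoP Pc Z := (hoP Pc).ext_of_isTriangulatedClosed₃ _ hT hX hY
  have hZ' : HomotopyCategory.subcategoryAcyclic A Z :=
    ((HomotopyCategory.subcategoryAcyclic A).trW_iff_of_distinguished _ hT).1 hf
  obtain ⟨E, hE, ⟨e⟩⟩ := hZ
  have hE' : E.Acyclic := by
    rw [← HomotopyCategory.quotient_obj_mem_subcategoryAcyclic_iff_acyclic]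
    exact (HomotopyCategory.subcategoryAcyclic A).prop_of_iso e hZ'
  have hGZ : IsZero (G.obj Z) := (hG E hE hE').of_iso (G.mapIso e)
  exact (Triangle.isZero₃_iff_isIso₁ _ (G.map_distinguished _ hT)).1 hGZ

variable (h : Adm Pc) (hres : HasResCx Pc)
  (hG : ∀ E : CochainComplex A ℤ, Pc E → E.Acyclic →
      IsZero (G.obj ((HomotopyCategory.quotient A (ComplexShape.up ℤ)).obj E)))

include h hres hG in
theorem hasPointwiseLeftDerivedFunctor_tri :
    G.HasPointwiseLeftDerivedFunctor (HomotopyCategory.quasiIso A (ComplexShape.up ℤ)) := by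
  haveI := isTriangulated h
  rw [HomotopyCategory.quasiIso_eq_trW_subcategoryAcyclic]
  exact Groth.Agent.H4.LDS2.hasPointwiseLeftDerivedFunctor (hasRes hres) G
    (isIso_map_of_acyclic G h hG)

include h hres hG in
theorem isIso_counit_app_tri {D : Type*} [Category D]
    (L : HomotopyCategory A (ComplexShape.up ℤ) ⥤ D)
    [L.IsLocalization (HomotopyCategory.quasiIso A (ComplexShape.up ℤ))]
    (LG : D ⥤ H) (α : L ⋙ LG ⟶ G)
    [LG.IsLeftDerivedFunctor α (HomotopyCategory.quasiIso A (ComplexShape.up ℤ))]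
    (E : CochainComplex A ℤ) (hE : Pc E) :
    IsIso (α.app ((HomotopyCategory.quotient A (ComplexShape.up ℤ)).obj E)) := by
  haveI := isTriangulated h
  haveI : L.IsLocalization (HomotopyCategory.subcategoryAcyclic A).trW := by
    rw [← HomotopyCategory.quasiIso_eq_trW_subcategoryAcyclic]; infer_instance
  haveI : LG.IsLeftDerivedFunctor α (HomotopyCategory.subcategoryAcyclic A).trW := by
    constructor
    exact Functor.IsLeftDerivedFunctor.isRightKanExtension LG α
      (HomotopyCategory.quasiIso A (ComplexShape.up ℤ))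
  exact Groth.Agent.H4.LDS2.isIso_counit_app (hasRes hres) G (isIso_map_of_acyclic G h hG) L LG α _
    (hoP_quotient Pc hE)

end Tri

section Additive

variable {B : Type*} [Category B] [Abelian B] [HasDerivedCategory A] [HasDerivedCategory B]

lemma isZero_Q_obj_of_acyclic (K : CochainComplex B ℤ) (hK : K.Acyclic) :
    IsZero (DerivedCategory.Q.obj K) := by
  have hq : QuasiIso (0 : K ⟶ K) := by
    rw [quasiIso_iff]
    intro n
    rw [quasiIsoAt_iff_isIso_homologyMap]
    have hz : IsZero (K.homology n) := (HomologicalComplex.exactAt_iff_isZero_homology _ _).1 (hK n)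
    exact ⟨0, hz.eq_of_src _ _, hz.eq_of_src _ _⟩
  have : IsIso (DerivedCategory.Q.map (0 : K ⟶ K)) := by
    rw [DerivedCategory.isIso_Q_map_iff_quasiIso]; exact hq
  rw [IsZero.iff_id_eq_zero]
  have h1 := IsIso.hom_inv_id (DerivedCategory.Q.map (0 : K ⟶ K))
  have h2 : DerivedCategory.Q.map (0 : K ⟶ K) = 0 := Functor.map_zero _ _ _
  rw [← h1]
  exact (congrArg (fun t => t ≫ inv (DerivedCategory.Q.map (0 : K ⟶ K))) h2).trans zero_comp

variable (Φ : A ⥤ B) [Φ.Additive]

/-- the functor `K(A) ⥤ D(B)` induced by `Φ` -/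
noncomputable abbrev Gh : HomotopyCategory A (ComplexShape.up ℤ) ⥤ DerivedCategory B :=
  Φ.mapHomotopyCategory (ComplexShape.up ℤ) ⋙ DerivedCategory.Qh

lemma isZero_Gh_obj (E : CochainComplex A ℤ)
    (hE : ((Φ.mapHomologicalComplex (ComplexShape.up ℤ)).obj E).Acyclic) :
    IsZero ((Gh Φ).obj ((HomotopyCategory.quotient A (ComplexShape.up ℤ)).obj E)) := by
  refine (isZero_Q_obj_of_acyclic _ hE).of_iso ?_
  exact DerivedCategory.Qh.mapIso ((Φ.mapHomotopyCategoryFactors (ComplexShape.up ℤ)).app E) ≪≫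
    (DerivedCategory.quotientCompQhIso B).app _

variable (h : Adm Pc) (hres : HasResCx Pc)
  (hΦ : ∀ E : CochainComplex A ℤ, Pc E → E.Acyclic →
      ((Φ.mapHomologicalComplex (ComplexShape.up ℤ)).obj E).Acyclic)

include h hres hΦ in
theorem hasPointwiseLeftDerivedFunctor :
    (Gh Φ).HasPointwiseLeftDerivedFunctor (HomotopyCategory.quasiIso A (ComplexShape.up ℤ)) :=
  hasPointwiseLeftDerivedFunctor_tri (Gh Φ) h hres (fun E hE hE' => isZero_Gh_obj Φ E (hΦ E hE hE'))

include h hres hΦ in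
theorem hasLeftDerivedFunctor :
    (Gh Φ).HasLeftDerivedFunctor (HomotopyCategory.quasiIso A (ComplexShape.up ℤ)) := by
  haveI := hasPointwiseLeftDerivedFunctor Φ h hres hΦ
  infer_instance

include h hres hΦ in
theorem isIso_counit_app {D : Type*} [Category D]
    (L : HomotopyCategory A (ComplexShape.up ℤ) ⥤ D)
    [L.IsLocalization (HomotopyCategory.quasiIso A (ComplexShape.up ℤ))]
    (LG : D ⥤ DerivedCategory B) (α : L ⋙ LG ⟶ Gh Φ)
    [LG.IsLeftDerivedFunctor α (HomotopyCategory.quasiIso A (ComplexShape.up ℤ))]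
    (E : CochainComplex A ℤ) (hE : Pc E) :
    IsIso (α.app ((HomotopyCategory.quotient A (ComplexShape.up ℤ)).obj E)) :=
  isIso_counit_app_tri (Gh Φ) h hres (fun E hE hE' => isZero_Gh_obj Φ E (hΦ E hE hE')) L LG α E hE

end Additive

end Groth.Agent.H4.LDS3
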