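import Mathlib
import Groth.Agent.H4.LDS3
set_option autoImplicit false

/-!
# The comparison `LΦ(Q E) ⟶ Q(Φ E)` for a termwise-applied additive functor
-/

namespace Groth.Agent.H4.LDS5

open CategoryTheory Limits Category HomologicalComplex DerivedCategory

variable {A B : Type*} [Category A] [Abelian A] [Category B] [Abelian B]
  [HasDerivedCategory A] [HasDerivedCategory B]
  (Φ : A ⥤ B) [Φ.Additive]

open Groth.Agent.H4.LDS3 (Gh)

variable (A) in
/-- quasi-isomorphisms in the homotopy category -/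
abbrev WA : MorphismProperty (HomotopyCategory A (ComplexShape.up ℤ)) :=
  HomotopyCategory.quasiIso A (ComplexShape.up ℤ)

variable [(Gh Φ).HasLeftDerivedFunctor (WA A)]

/-- the total left derived functor -/
noncomputable abbrev LG : DerivedCategory A ⥤ DerivedCategory B :=
  (Gh Φ).totalLeftDerived Qh (WA A)

/-- its counit -/
noncomputable abbrev cou : Qh ⋙ LG Φ ⟶ Gh Φ := (Gh Φ).totalLeftDerivedCounit Qh (WA A)

/-- `Φ` applied termwise to complexes -/
noncomputable abbrev GC : CochainComplex A ℤ ⥤ CochainComplex B ℤ :=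
  Φ.mapHomologicalComplex (ComplexShape.up ℤ)

/-- the comparison `LΦ (Q E) ⟶ Q (Φ E)`, natural in the complex `E`. -/
noncomputable def gam : Q ⋙ LG Φ ⟶ GC Φ ⋙ Q :=
  Functor.whiskerRight (quotientCompQhIso A).inv (LG Φ) ≫
    (Functor.associator _ _ _).hom ≫
    Functor.whiskerLeft (HomotopyCategory.quotient _ _) (cou Φ) ≫
    (Functor.associator _ _ _).inv ≫
    Functor.whiskerRight (Φ.mapHomotopyCategoryFactors (ComplexShape.up ℤ)).hom Qh ≫
    (Functor.associator _ _ _).hom ≫
    Functor.whiskerLeft (GC Φ) (quotientCompQhIso B).hom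

lemma gam_app (E : CochainComplex A ℤ) :
    (gam Φ).app E = (LG Φ).map ((quotientCompQhIso A).inv.app E) ≫
      (cou Φ).app ((HomotopyCategory.quotient _ _).obj E) ≫
      Qh.map ((Φ.mapHomotopyCategoryFactors (ComplexShape.up ℤ)).hom.app E) ≫
      (quotientCompQhIso B).hom.app ((GC Φ).obj E) := by
  simp [gam]

lemma isIso_gam_app_iff (E : CochainComplex A ℤ) :
    IsIso ((gam Φ).app E) ↔ IsIso ((cou Φ).app ((HomotopyCategory.quotient _ _).obj E)) := by
  rw [gam_app]
  constructor
  · intro h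
    have h2 : IsIso ((cou Φ).app ((HomotopyCategory.quotient _ _).obj E) ≫
      (Qh.map ((Φ.mapHomotopyCategoryFactors (ComplexShape.up ℤ)).hom.app E) ≫
      (quotientCompQhIso B).hom.app ((GC Φ).obj E))) := by
      rw [← isIso_comp_left_iff ((LG Φ).map ((quotientCompQhIso A).inv.app E))]
      simpa using h
    exact (isIso_comp_right_iff _ _).1 h2
  · intro h
    infer_instance

@[reassoc]
lemma gam_naturality {E E' : CochainComplex A ℤ} (f : E ⟶ E') :
    (LG Φ).map (Q.map f) ≫ (gam Φ).app E' = (gam Φ).app E ≫ Q.map ((GC Φ).map f) :=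
  (gam Φ).naturality f

section

variable {Pc : CochainComplex A ℤ → Prop} (h : Groth.Agent.H4.LDS3.Adm Pc)
  (hres : Groth.Agent.H4.LDS3.HasResCx Pc)
  (hΦ : ∀ E : CochainComplex A ℤ, Pc E → E.Acyclic →
      ((Φ.mapHomologicalComplex (ComplexShape.up ℤ)).obj E).Acyclic)

include h hres hΦ in
theorem isIso_gam_app (E : CochainComplex A ℤ) (hE : Pc E) : IsIso ((gam Φ).app E) := by
  rw [isIso_gam_app_iff]
  exact Groth.Agent.H4.LDS3.isIso_counit_app Φ h hres hΦ Qh (LG Φ) (cou Φ) E hE

end

/-- the value of the derived functor on an object represented by a complex on which `gam` is iso -/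
noncomputable def isoOfIso (E : CochainComplex A ℤ) [IsIso ((gam Φ).app E)]
    {K : DerivedCategory A} (e : Q.obj E ≅ K) :
    (LG Φ).obj K ≅ Q.obj ((GC Φ).obj E) := (LG Φ).mapIso e.symm ≪≫ asIso ((gam Φ).app E)

end Groth.Agent.H4.LDS5
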