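import Mathlib
import Groth.Agent.H4.LDS5
import Groth.Agent.H4.LDS10
set_option autoImplicit false

/-!
# Weak exactness of `LΦ` for a termwise-applied additive functor
-/

namespace Groth.Agent.H4.LDS11

open CategoryTheory Limits Category Pretriangulated HomologicalComplex DerivedCategory
open Groth.Agent.H4.LDS3 Groth.Agent.H4.LDS5

variable {A B : Type*} [Category A] [Abelian A] [Category B] [Abelian B]
  [HasDerivedCategory A] [HasDerivedCategory B]
  (Φ : A ⥤ B) [Φ.Additive]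
  [(Gh Φ).HasLeftDerivedFunctor (WA A)]
  {Pc : CochainComplex A ℤ → Prop} (h : Adm Pc) (hres : HasResCx Pc)
  (hΦ : ∀ E : CochainComplex A ℤ, Pc E → E.Acyclic →
      ((Φ.mapHomologicalComplex (ComplexShape.up ℤ)).obj E).Acyclic)

include h hres hΦ in
theorem exists_distTriang_LG (T : Triangle (DerivedCategory A)) (hT : T ∈ distTriang _) :
    ∃ (T' : Triangle (DerivedCategory B)) (_ : T' ∈ distTriang _)
      (e₁ : T'.obj₁ ≅ (LG Φ).obj T.obj₁) (e₂ : T'.obj₂ ≅ (LG Φ).obj T.obj₂)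
      (e₃ : T'.obj₃ ≅ (LG Φ).obj T.obj₃),
      T'.mor₁ ≫ e₂.hom = e₁.hom ≫ (LG Φ).map T.mor₁ ∧
      T'.mor₂ ≫ e₃.hom = e₂.hom ≫ (LG Φ).map T.mor₂ := by
  haveI := isTriangulated h
  haveI : (LG Φ).IsLeftDerivedFunctor (cou Φ) (HomotopyCategory.subcategoryAcyclic A).trW := by
    constructor
    exact Functor.IsLeftDerivedFunctor.isRightKanExtension (LG Φ) (cou Φ) (WA A)
  exact Groth.Agent.H4.LDS10.exists_distTriang_LG (hasRes hres) Qh (Gh Φ)
    (isIso_map_of_acyclic (Gh Φ) h (fun E hE hE' => isZero_Gh_obj Φ E (hΦ E hE hE')))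
    (LG Φ) (cou Φ) T hT

/-- vanishing of `H^i (LΦ -)` -/
def HV (K : DerivedCategory A) (i : ℤ) : Prop :=
  IsZero ((DerivedCategory.homologyFunctor B i).obj ((LG Φ).obj K))

include h hres hΦ in
theorem HV_obj₃ (T : Triangle (DerivedCategory A)) (hT : T ∈ distTriang _) (i : ℤ)
    (h₂ : HV Φ T.obj₂ i) (h₁ : HV Φ T.obj₁ (i + 1)) : HV Φ T.obj₃ i := by
  obtain ⟨T', hT', e₁, e₂, e₃, -, -⟩ := exists_distTriang_LG Φ h hres hΦ T hT
  have h₂' := h₂.of_iso ((DerivedCategory.homologyFunctor B i).mapIso e₂)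
  have h₁' := h₁.of_iso ((DerivedCategory.homologyFunctor B (i + 1)).mapIso e₁)
  exact ((HomologySequence.exact₃ T' hT' i (i + 1) rfl).isZero_of_both_zeros
    (h₂'.eq_of_src _ _) (h₁'.eq_of_tgt _ _)).of_iso ((DerivedCategory.homologyFunctor B i).mapIso e₃.symm)

include h hres hΦ in
theorem HV_obj₂ (T : Triangle (DerivedCategory A)) (hT : T ∈ distTriang _) (i : ℤ)
    (h₁ : HV Φ T.obj₁ i) (h₃ : HV Φ T.obj₃ i) : HV Φ T.obj₂ i := by
  obtain ⟨T', hT', e₁, e₂, e₃, -, -⟩ := exists_distTriang_LG Φ h hres hΦ T hT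
  have h₁' := h₁.of_iso ((DerivedCategory.homologyFunctor B i).mapIso e₁)
  have h₃' := h₃.of_iso ((DerivedCategory.homologyFunctor B i).mapIso e₃)
  exact ((HomologySequence.exact₂ T' hT' i).isZero_of_both_zeros
    (h₁'.eq_of_src _ _) (h₃'.eq_of_tgt _ _)).of_iso ((DerivedCategory.homologyFunctor B i).mapIso e₂.symm)

include h hres hΦ in
theorem HV_obj₁ (T : Triangle (DerivedCategory A)) (hT : T ∈ distTriang _) (i : ℤ)
    (h₃ : HV Φ T.obj₃ (i - 1)) (h₂ : HV Φ T.obj₂ i) : HV Φ T.obj₁ i := by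
  obtain ⟨T', hT', e₁, e₂, e₃, -, -⟩ := exists_distTriang_LG Φ h hres hΦ T hT
  have h₂' := h₂.of_iso ((DerivedCategory.homologyFunctor B i).mapIso e₂)
  have h₃' := h₃.of_iso ((DerivedCategory.homologyFunctor B (i - 1)).mapIso e₃)
  exact ((HomologySequence.exact₁ T' hT' (i - 1) i (by omega)).isZero_of_both_zeros
    (h₃'.eq_of_src _ _) (h₂'.eq_of_tgt _ _)).of_iso ((DerivedCategory.homologyFunctor B i).mapIso e₁.symm)

end Groth.Agent.H4.LDS11
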