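import Mathlib
import Groth.Agent.H4.GK7

open CategoryTheory Category Limits HomologicalComplex CochainComplex.HomComplex CochainComplex
  ZeroObject

universe v u

/-!
# Factorisations with values in an abstract class of complexes

Same construction as `GK7.exists_factorization`, with the class of K-flat complexes replaced by an
arbitrary class `Kc` which contains bounded above complexes with terms in `P`, is stable under cones
and under colimits of sequences.
-/

namespace Groth.Agent.H4.GK13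

open Groth.Agent.H4.GK1 Groth.Agent.H4.GK2 Groth.Agent.H4.GK3 Groth.Agent.H4.GK4
  Groth.Agent.H4.GK5 Groth.Agent.H4.GK6 Groth.Agent.H4.GK7

variable {A : Type u} [Category.{v} A] [Abelian A]

section Main

variable [HasCountableCoproducts A] [CountableAB4 A]
  [HasColimitsOfShape ℕ A] [HasExactColimitsOfShape ℕ A]
  (P : A → Prop) (hP_zero : ∀ X : A, IsZero X → P X)
  (hP_epi : ∀ X : A, ∃ (Y : A) (p : Y ⟶ X), P Y ∧ Epi p)
  (hP_iso : ∀ X Y : A, (X ≅ Y) → P X → P Y)
  (hP_biprod : ∀ X Y : A, P X → P Y → P (X ⊞ Y))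
  (hP_colim : ∀ D : ℕ ⥤ A, (∀ k, P (D.obj k)) → P (colimit D))
  (Kc : CochainComplex A ℤ → Prop)
  (hK_bdd : ∀ (Q : CochainComplex A ℤ) (m : ℤ), (∀ i, m < i → IsZero (Q.X i)) →
    (∀ i, P (Q.X i)) → Kc Q)
  (hK_cone : ∀ {Q E : CochainComplex A ℤ} (b : Q ⟶ E), Kc Q → Kc E → Kc (mappingCone b))
  (hK_colim : ∀ (E : ℕ ⥤ CochainComplex A ℤ) (c : Cocone E), IsColimit c →
    (∀ k, Kc (E.obj k)) → Kc c.pt)
  {G : CochainComplex A ℤ} (s₀ : Stage G)

include hK_bdd hK_cone in
lemma Kc_st (h₀ : Kc s₀.E) : ∀ k, Kc (st P hP_zero hP_epi s₀ k).E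
  | 0 => h₀
  | k + 1 => hK_cone (sd P hP_zero hP_epi s₀ k).b
      (hK_bdd (sd P hP_zero hP_epi s₀ k).Q k (sd P hP_zero hP_epi s₀ k).hz
        (sd P hP_zero hP_epi s₀ k).hP) (Kc_st h₀ k)

include hP_zero hP_epi hP_iso hP_biprod hP_colim hK_bdd hK_cone hK_colim in
/-- **factorisation in an abstract class**: any map `a₀ : E₀ ⟶ G` factors as `E₀ ⟶ N ⟶ G` with the
second map a quasi-isomorphism, `N` in `Kc` (resp. with terms in `P`) if `E₀` is. -/
theorem exists_factorization_class {E₀ G : CochainComplex A ℤ} (a₀ : E₀ ⟶ G) :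
    ∃ (N : CochainComplex A ℤ) (b : E₀ ⟶ N) (c : N ⟶ G), b ≫ c = a₀ ∧ QuasiIso c ∧
      (Kc E₀ → Kc N) ∧ ((∀ n, P (E₀.X n)) → ∀ n, P (N.X n)) := by
  let s₀ : Stage G := ⟨E₀, a₀⟩
  let E := Efun P hP_zero hP_epi s₀
  let α := αnat P hP_zero hP_epi s₀
  refine ⟨sigJ E, (sigJCocone E).ι.app 0, aInf E G α (sigJCocone E) (isColimitSigJ E),
    ι_aInf E G α (sigJCocone E) (isColimitSigJ E) 0, ?_, ?_, ?_⟩
  · refine quasiIso_aInf E G α _ _ (fun i => ⟨(i + 1).toNat, fun k hk => ?_⟩)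
    refine homologyMap_coneFunctor_eq_zero P hP_zero hP_epi s₀ i k ?_
    have := Int.self_le_toNat (i + 1)
    omega
  · intro h₀
    exact hK_colim E (sigJCocone E) (isColimitSigJ E)
      (Kc_st P hP_zero hP_epi Kc hK_bdd hK_cone s₀ h₀)
  · intro h₀ n
    exact hP_colim (E ⋙ HomologicalComplex.eval A (ComplexShape.up ℤ) n)
      (fun k => P_st P hP_zero hP_epi hP_iso hP_biprod s₀ h₀ k n)

include hP_zero hP_epi hP_iso hP_biprod hP_colim hK_bdd hK_cone hK_colim in
/-- resolutions in an abstract class -/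
theorem exists_resolution_class (G : CochainComplex A ℤ) :
    ∃ (N : CochainComplex A ℤ) (c : N ⟶ G), QuasiIso c ∧ Kc N ∧ ∀ n, P (N.X n) := by
  obtain ⟨N, b, c, -, hc, h1, h2⟩ := exists_factorization_class P hP_zero hP_epi hP_iso hP_biprod
    hP_colim Kc hK_bdd hK_cone hK_colim (0 : (0 : CochainComplex A ℤ) ⟶ G)
  refine ⟨N, c, hc, h1 ?_, h2 ?_⟩
  · exact hK_bdd 0 0 (fun i _ => (HomologicalComplex.eval A (ComplexShape.up ℤ) i).map_isZero
      (isZero_zero _)) (fun i => hP_zero _ ((HomologicalComplex.eval A (ComplexShape.up ℤ) i).map_isZero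
      (isZero_zero _)))
  · exact fun i => hP_zero _ ((HomologicalComplex.eval A (ComplexShape.up ℤ) i).map_isZero
      (isZero_zero _))

end Main

end Groth.Agent.H4.GK13
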