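import Mathlib
import Groth.Prelude.Def_DerSch

set_option autoImplicit false
universe u
open CategoryTheory CategoryTheory.Limits AlgebraicGeometry TopologicalSpace Opposite

/-!
# Skyscraper `O_X`-modules and the adjunction with the stalk functor
-/

namespace Groth.Agent.H4.SPt4

variable {X : Scheme.{u}} (x : X)

/-- the underlying abelian presheaf of the skyscraper module -/
noncomputable def skyAb (Q : ModuleCat.{u} (X.presheaf.stalk x)) : (Opens X)ᵒᵖ ⥤ Ab.{u} where
  obj U := AddCommGrpCat.of (PLift (x ∈ U.unop) → Q)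
  map {U V} i := AddCommGrpCat.ofHom
    { toFun := fun s h => s ⟨i.unop.le h.down⟩
      map_zero' := rfl
      map_add' := fun _ _ => rfl }
  map_id U := rfl
  map_comp i j := rfl

noncomputable instance skyModule (Q : ModuleCat.{u} (X.presheaf.stalk x)) (U : (Opens X)ᵒᵖ) :
    Module (X.ringCatSheaf.obj.obj U) ((skyAb x Q).obj U) :=
  letI : ∀ _ : PLift (x ∈ U.unop), Module (X.presheaf.obj U) Q :=
    fun h => Module.compHom Q (X.presheaf.germ U.unop x h.down).hom
  inferInstanceAs (Module (X.presheaf.obj U) (PLift (x ∈ U.unop) → Q))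

lemma sky_smul_apply (Q : ModuleCat.{u} (X.presheaf.stalk x)) (U : (Opens X)ᵒᵖ)
    (r : X.ringCatSheaf.obj.obj U) (s : (skyAb x Q).obj U) (h : PLift (x ∈ U.unop)) :
    (r • s) h = (X.presheaf.germ U.unop x h.down).hom r • s h := rfl


lemma skyAb_map_apply (Q : ModuleCat.{u} (X.presheaf.stalk x)) {U V : (Opens X)ᵒᵖ} (i : U ⟶ V)
    (s : (skyAb x Q).obj U) (h : PLift (x ∈ V.unop)) :
    (skyAb x Q).map i s h = s ⟨i.unop.le h.down⟩ := rfl

/-- the skyscraper presheaf of modules -/
noncomputable def skyPre (Q : ModuleCat.{u} (X.presheaf.stalk x)) : X.PresheafOfModules :=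
  PresheafOfModules.ofPresheaf (skyAb x Q) (fun {U V} i r s => by
    funext h
    rw [skyAb_map_apply, sky_smul_apply, sky_smul_apply, skyAb_map_apply]
    congr 1
    exact (DFunLike.congr_fun (congrArg CommRingCat.Hom.hom
      (X.presheaf.germ_res i.unop x h.down)) r).symm)

lemma isSheaf_skyAb (Q : ModuleCat.{u} (X.presheaf.stalk x)) :
    TopCat.Presheaf.IsSheaf (X := X.toTopCat) (skyAb x Q) := by
  rw [TopCat.Presheaf.isSheaf_iff_isSheafUniqueGluing]
  intro ι U sf hsf
  classical
  refine ⟨fun h => ?_, ?_, ?_⟩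
  · -- the glued section
    have hx : ∃ i, x ∈ U i := by
      have := h.down
      simpa [Opens.mem_iSup] using this
    exact sf hx.choose ⟨hx.choose_spec⟩
  · intro i
    funext h
    have hx : ∃ i, x ∈ U i := ⟨i, h.down⟩
    have h1 := congrFun (hsf hx.choose i) ⟨⟨hx.choose_spec, h.down⟩⟩
    exact h1
  · intro s hs
    funext h
    have hx : ∃ i, x ∈ U i := by
      have := h.down
      simpa [Opens.mem_iSup] using this
    have := congrFun (hs hx.choose) ⟨hx.choose_spec⟩
    exact this

/-- the skyscraper `O_X`-module at `x` with value `Q` -/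
noncomputable def sky (Q : ModuleCat.{u} (X.presheaf.stalk x)) : X.Modules :=
  ⟨skyPre x Q, isSheaf_skyAb x Q⟩


lemma sky_presheaf (Q : ModuleCat.{u} (X.presheaf.stalk x)) : (sky x Q).presheaf = skyAb x Q := rfl

/-- sections of the skyscraper as functions -/
def skySec {Q : ModuleCat.{u} (X.presheaf.stalk x)} {U : X.Opens} (s : Γ(sky x Q, U)) :
    PLift (x ∈ U) → Q := s

lemma sky_smul_apply' (Q : ModuleCat.{u} (X.presheaf.stalk x)) (U : X.Opens)
    (r : Γ(X, U)) (s : Γ(sky x Q, U)) (h : PLift (x ∈ U)) :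
    skySec x (r • s) h = (X.presheaf.germ U x h.down).hom r • skySec x s h := rfl

/-- functoriality of the skyscraper on underlying presheaves -/
noncomputable def skyAbMap {Q Q' : ModuleCat.{u} (X.presheaf.stalk x)} (g : Q ⟶ Q') :
    skyAb x Q ⟶ skyAb x Q' where
  app U := AddCommGrpCat.ofHom
    { toFun := fun s h => g.hom (s h)
      map_zero' := by funext h; exact map_zero g.hom
      map_add' := fun s t => by funext h; exact map_add g.hom (s h) (t h) }
  naturality U V i := rfl

/-- functoriality of the skyscraper -/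
noncomputable def skyMap {Q Q' : ModuleCat.{u} (X.presheaf.stalk x)} (g : Q ⟶ Q') :
    sky x Q ⟶ sky x Q' :=
  ⟨PresheafOfModules.homMk (M₁ := skyPre x Q) (M₂ := skyPre x Q') (skyAbMap x g)
    (fun U r s => by
      funext h
      have e1 : ((skyAbMap x g).app U (r • s)) h = g.hom ((r • s) h) := rfl
      have e2 : (r • ((skyAbMap x g).app U s)) h =
          (X.presheaf.germ U.unop x h.down).hom r • ((skyAbMap x g).app U s) h :=
        sky_smul_apply x Q' U r _ h
      have e3 : ((skyAbMap x g).app U s) h = g.hom (s h) := rfl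
      refine e1.trans (Eq.trans ?_ e2.symm)
      rw [e3]
      exact (congrArg g.hom (sky_smul_apply x Q U r s h)).trans (g.hom.map_smul _ _))⟩

/-- the skyscraper functor -/
noncomputable def skyFunctor : ModuleCat.{u} (X.presheaf.stalk x) ⥤ X.Modules where
  obj Q := sky x Q
  map g := skyMap x g
  map_id Q := rfl
  map_comp g g' := rfl


section Adj

lemma germ_smul' (M : X.Modules) (U : X.Opens) (hx : x ∈ U) (r : Γ(X, U)) (m : Γ(M, U)) :
    M.presheaf.germ U x hx (r • m) = X.presheaf.germ U x hx r • M.presheaf.germ U x hx m :=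
  PresheafOfModules.germ_smul (R := X.presheaf)
    (show PresheafOfModules (X.presheaf ⋙ forget₂ CommRingCat RingCat) from M.val) x U hx r m

variable {x}

/-- a linear map out of the stalk gives a morphism to the skyscraper (underlying presheaves) -/
noncomputable def toSkyAb {M : X.Modules} {Q : ModuleCat.{u} (X.presheaf.stalk x)}
    (ψ : (DerSch.stalkFunctor X x).obj M ⟶ Q) : M.presheaf ⟶ skyAb x Q where
  app U := AddCommGrpCat.ofHom
    { toFun := fun m h => ψ.hom (M.presheaf.germ U.unop x h.down m)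
      map_zero' := by
        funext h
        change ψ.hom (M.presheaf.germ U.unop x h.down 0) = 0
        exact (congrArg (fun z => ψ.hom z) (map_zero (M.presheaf.germ U.unop x h.down).hom)).trans
          (map_zero ψ.hom)
      map_add' := fun m m' => by
        funext h
        change ψ.hom (M.presheaf.germ U.unop x h.down (m + m')) =
          ψ.hom (M.presheaf.germ U.unop x h.down m) + ψ.hom (M.presheaf.germ U.unop x h.down m')
        exact (congrArg (fun z => ψ.hom z)
          (map_add (M.presheaf.germ U.unop x h.down).hom m m')).trans (map_add ψ.hom _ _) }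
  naturality U V i := by
    ext m
    funext h
    change ψ.hom (M.presheaf.germ V.unop x h.down (M.presheaf.map i m)) =
      ψ.hom (M.presheaf.germ U.unop x (i.unop.le h.down) m)
    congr 1
    exact TopCat.Presheaf.germ_res_apply M.presheaf i.unop x h.down m

lemma toSkyAb_app_apply {M : X.Modules} {Q : ModuleCat.{u} (X.presheaf.stalk x)}
    (ψ : (DerSch.stalkFunctor X x).obj M ⟶ Q) (U : (Opens X)ᵒᵖ) (m : M.presheaf.obj U)
    (h : PLift (x ∈ U.unop)) :
    (toSkyAb ψ).app U m h = ψ.hom (M.presheaf.germ U.unop x h.down m) := rfl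

/-- a linear map out of the stalk gives a morphism to the skyscraper -/
noncomputable def toSky {M : X.Modules} {Q : ModuleCat.{u} (X.presheaf.stalk x)}
    (ψ : (DerSch.stalkFunctor X x).obj M ⟶ Q) : M ⟶ sky x Q :=
  ⟨PresheafOfModules.homMk (M₁ := M.val) (M₂ := skyPre x Q) (toSkyAb ψ)
    (fun U r m => by
      funext h
      have e2 : (r • ((toSkyAb ψ).app U m)) h =
          (X.presheaf.germ U.unop x h.down).hom r • ((toSkyAb ψ).app U m) h :=
        sky_smul_apply x Q U r _ h
      refine (toSkyAb_app_apply ψ U (r • m) h).trans (Eq.trans ?_ e2.symm)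
      rw [toSkyAb_app_apply]
      exact (congrArg ψ.hom (germ_smul' x M U.unop h.down r m)).trans (ψ.hom.map_smul _ _))⟩

lemma toSky_app_apply {M : X.Modules} {Q : ModuleCat.{u} (X.presheaf.stalk x)}
    (ψ : (DerSch.stalkFunctor X x).obj M ⟶ Q) (U : X.Opens) (m : Γ(M, U))
    (h : PLift (x ∈ U)) :
    skySec x ((toSky ψ).app U m) h = ψ.hom (M.presheaf.germ U x h.down m) := rfl


/-- evaluation of sections of a morphism to the skyscraper at the point -/
noncomputable def evSky {M : X.Modules} {Q : ModuleCat.{u} (X.presheaf.stalk x)}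
    (φ : M ⟶ sky x Q) (U : X.Opens) (hx : x ∈ U) : Γ(M, U) →+ Q where
  toFun m := skySec x (φ.app U m) ⟨hx⟩
  map_zero' := by
    have : φ.app U (0 : Γ(M, U)) = 0 := map_zero (φ.app U).hom
    change skySec x (φ.app U 0) ⟨hx⟩ = 0
    rw [this]; rfl
  map_add' m m' := by
    have : φ.app U (m + m') = φ.app U m + φ.app U m' := map_add (φ.app U).hom m m'
    change skySec x (φ.app U (m + m')) ⟨hx⟩ = _
    rw [this]; rfl

lemma evSky_res {M : X.Modules} {Q : ModuleCat.{u} (X.presheaf.stalk x)}
    (φ : M ⟶ sky x Q) {U V : X.Opens} (i : V ⟶ U) (hx : x ∈ V) (m : Γ(M, U)) :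
    evSky φ V hx (M.presheaf.map i.op m) = evSky φ U (i.le hx) m := by
  have h1 : φ.app V (M.presheaf.map i.op m) = (sky x Q).presheaf.map i.op (φ.app U m) :=
    congrArg (fun f => f.hom m) (φ.mapPresheaf.naturality i.op)
  change skySec x (φ.app V (M.presheaf.map i.op m)) ⟨hx⟩ = skySec x (φ.app U m) ⟨i.le hx⟩
  rw [h1]
  rfl

lemma evSky_smul {M : X.Modules} {Q : ModuleCat.{u} (X.presheaf.stalk x)}
    (φ : M ⟶ sky x Q) (U : X.Opens) (hx : x ∈ U) (r : Γ(X, U)) (m : Γ(M, U)) :
    evSky φ U hx (r • m) = (X.presheaf.germ U x hx).hom r • evSky φ U hx m := by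
  have h1 : φ.app U (r • m) = r • φ.app U m := Scheme.Modules.Hom.app_smul φ r m
  change skySec x (φ.app U (r • m)) ⟨hx⟩ = _
  rw [h1]
  exact sky_smul_apply' x Q U r (φ.app U m) ⟨hx⟩

/-- the additive map out of the stalk induced by a morphism to the skyscraper -/
noncomputable def ofSkyAdd {M : X.Modules} {Q : ModuleCat.{u} (X.presheaf.stalk x)}
    (φ : M ⟶ sky x Q) : M.presheaf.stalk x ⟶ AddCommGrpCat.of Q :=
  colimit.desc ((OpenNhds.inclusion x).op ⋙ M.presheaf)
    { pt := AddCommGrpCat.of Q
      ι :=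
        { app := fun U => AddCommGrpCat.ofHom (evSky φ U.unop.1 U.unop.2)
          naturality := fun U V i => by
            ext m
            exact evSky_res φ ((OpenNhds.inclusion x).map i.unop) V.unop.2 m } }

lemma ofSkyAdd_germ {M : X.Modules} {Q : ModuleCat.{u} (X.presheaf.stalk x)}
    (φ : M ⟶ sky x Q) (U : X.Opens) (hx : x ∈ U) (m : Γ(M, U)) :
    (ofSkyAdd φ).hom (M.presheaf.germ U x hx m) = evSky φ U hx m := by
  have := colimit.ι_desc
    ({ pt := AddCommGrpCat.of Q
       ι :=
        { app := fun U => AddCommGrpCat.ofHom (evSky φ U.unop.1 U.unop.2)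
          naturality := fun U V i => by
            ext m
            exact evSky_res φ ((OpenNhds.inclusion x).map i.unop) V.unop.2 m } } :
      Cocone ((OpenNhds.inclusion x).op ⋙ M.presheaf)) (op ⟨U, hx⟩)
  exact congrArg (fun f => f.hom m) this


/-- a morphism to the skyscraper gives a linear map out of the stalk -/
noncomputable def ofSky {M : X.Modules} {Q : ModuleCat.{u} (X.presheaf.stalk x)}
    (φ : M ⟶ sky x Q) : (DerSch.stalkFunctor X x).obj M ⟶ Q :=
  ModuleCat.ofHom
    { toFun := fun m => (ofSkyAdd φ).hom m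
      map_add' := fun m m' => map_add (ofSkyAdd φ).hom m m'
      map_smul' := fun r m => by
        obtain ⟨W₁, hxW₁, t, rfl⟩ := TopCat.Presheaf.exists_germ_eq M.presheaf m
        obtain ⟨W₂, hxW₂, ρ, rfl⟩ := TopCat.Presheaf.exists_germ_eq X.presheaf r
        let W := W₁ ⊓ W₂
        have hxW : x ∈ W := ⟨hxW₁, hxW₂⟩
        have h1 : M.presheaf.germ W₁ x hxW₁ t =
            M.presheaf.germ W x hxW (M.presheaf.map (homOfLE inf_le_left).op t) :=
          (TopCat.Presheaf.germ_res_apply M.presheaf (homOfLE inf_le_left) x hxW t).symm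
        have h2 : X.presheaf.germ W₂ x hxW₂ ρ =
            X.presheaf.germ W x hxW (X.presheaf.map (homOfLE inf_le_right).op ρ) :=
          (TopCat.Presheaf.germ_res_apply X.presheaf (homOfLE inf_le_right) x hxW ρ).symm
        rw [h1, h2]
        set ρ' := X.presheaf.map (homOfLE (inf_le_right : W ≤ W₂)).op ρ with hρ'
        set t' := M.presheaf.map (homOfLE (inf_le_left : W ≤ W₁)).op t with ht'
        have e1 := germ_smul' x M W hxW ρ' t'
        have e2 := ofSkyAdd_germ φ W hxW (ρ' • t')
        have e3 := ofSkyAdd_germ φ W hxW t'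
        have e4 := evSky_smul φ W hxW ρ' t'
        change (ofSkyAdd φ).hom (X.presheaf.germ W x hxW ρ' • M.presheaf.germ W x hxW t') =
          X.presheaf.germ W x hxW ρ' • (ofSkyAdd φ).hom (M.presheaf.germ W x hxW t')
        rw [← e1, e2, e3, e4] }

lemma ofSky_germ {M : X.Modules} {Q : ModuleCat.{u} (X.presheaf.stalk x)}
    (φ : M ⟶ sky x Q) (U : X.Opens) (hx : x ∈ U) (m : Γ(M, U)) :
    (ofSky φ).hom (M.presheaf.germ U x hx m) = skySec x (φ.app U m) ⟨hx⟩ :=
  ofSkyAdd_germ φ U hx m

lemma stalk_hom_ext' {M : X.Modules} {Q : ModuleCat.{u} (X.presheaf.stalk x)}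
    (ψ ψ' : (DerSch.stalkFunctor X x).obj M ⟶ Q)
    (h : ∀ (U : X.Opens) (hx : x ∈ U) (m : Γ(M, U)),
      ψ.hom (M.presheaf.germ U x hx m) = ψ'.hom (M.presheaf.germ U x hx m)) : ψ = ψ' := by
  ext m
  obtain ⟨U, hx, t, rfl⟩ := TopCat.Presheaf.exists_germ_eq M.presheaf m
  exact h U hx t

/-- the hom-set bijection of the adjunction -/
noncomputable def skyHomEquiv (M : X.Modules) (Q : ModuleCat.{u} (X.presheaf.stalk x)) :
    ((DerSch.stalkFunctor X x).obj M ⟶ Q) ≃ (M ⟶ sky x Q) where
  toFun := toSky
  invFun := ofSky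
  left_inv ψ := by
    apply stalk_hom_ext'
    intro U hx m
    rw [ofSky_germ]
    rfl
  right_inv φ := by
    ext U m
    funext h
    change (ofSky φ).hom (M.presheaf.germ U x h.down m) = skySec x (φ.app U m) h
    rw [ofSky_germ]


variable (x) in
/-- **the adjunction** stalk ⊣ skyscraper for `O_X`-modules -/
noncomputable def stalkSkyAdj : DerSch.stalkFunctor X x ⊣ skyFunctor x :=
  Adjunction.mkOfHomEquiv
    { homEquiv := fun M Q => skyHomEquiv M Q
      homEquiv_naturality_left_symm := fun {M' M Q} f g => by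
        apply stalk_hom_ext'
        intro U hx m
        change (ofSky (f ≫ g)).hom (M'.presheaf.germ U x hx m) =
          (ofSky g).hom ((DerSch.stalkFunctor X x).map f (M'.presheaf.germ U x hx m))
        rw [DerSch.stalkFunctor_map_germ, ofSky_germ, ofSky_germ]
        rfl
      homEquiv_naturality_right := fun {M Q Q'} f g => by
        ext U m
        funext h
        rfl }

lemma stalkSkyAdj_homEquiv (M : X.Modules) (Q : ModuleCat.{u} (X.presheaf.stalk x))
    (ψ : (DerSch.stalkFunctor X x).obj M ⟶ Q) :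
    (stalkSkyAdj x).homEquiv M Q ψ = toSky ψ := by
  simp [stalkSkyAdj, skyHomEquiv]
  rfl

instance : (DerSch.stalkFunctor X x).IsLeftAdjoint := (stalkSkyAdj x).isLeftAdjoint

instance : (skyFunctor x).IsRightAdjoint := (stalkSkyAdj x).isRightAdjoint

end Adj

end Groth.Agent.H4.SPt4
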