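import Mathlib
import Groth.Prelude.Def_DerSch
import Groth.Agent.H4.SPt4

set_option autoImplicit false
universe u
open CategoryTheory CategoryTheory.Limits AlgebraicGeometry TopologicalSpace Opposite

/-!
# Stalk of the pullback of an `O`-module
-/

namespace Groth.Agent.H4.SPt5

open Groth.Agent.H4.SPt4

variable {X Y : Scheme.{u}} (f : X ⟶ Y) (x : X)

/-- the restricted module -/
noncomputable abbrev resQ (Q : ModuleCat.{u} (X.presheaf.stalk x)) :
    ModuleCat.{u} (Y.presheaf.stalk (f.base x)) :=
  (ModuleCat.restrictScalars.{u} (f.stalkMap x).hom).obj Q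

/-- pushforward of a skyscraper is a skyscraper (hom direction, on presheaves) -/
noncomputable def skyPushAbHom (Q : ModuleCat.{u} (X.presheaf.stalk x)) :
    ((Scheme.Modules.pushforward f).obj (sky x Q)).presheaf ⟶ skyAb (f.base x) (resQ f x Q) where
  app V := AddCommGrpCat.ofHom
    { toFun := fun s h => skySec x (U := f ⁻¹ᵁ V.unop) s ⟨h.down⟩
      map_zero' := rfl
      map_add' := fun _ _ => rfl }
  naturality U V i := rfl

/-- pushforward of a skyscraper is a skyscraper (inverse direction, on presheaves) -/
noncomputable def skyPushAbInv (Q : ModuleCat.{u} (X.presheaf.stalk x)) :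
    skyAb (f.base x) (resQ f x Q) ⟶ ((Scheme.Modules.pushforward f).obj (sky x Q)).presheaf where
  app V := AddCommGrpCat.ofHom
    { toFun := fun s h => s ⟨h.down⟩
      map_zero' := rfl
      map_add' := fun _ _ => rfl }
  naturality U V i := rfl


/-- pushforward of a skyscraper is a skyscraper (hom direction) -/
noncomputable def skyPushHom (Q : ModuleCat.{u} (X.presheaf.stalk x)) :
    (Scheme.Modules.pushforward f).obj (sky x Q) ⟶ sky (f.base x) (resQ f x Q) :=
  ⟨PresheafOfModules.homMk (M₁ := ((Scheme.Modules.pushforward f).obj (sky x Q)).val)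
    (M₂ := skyPre (f.base x) (resQ f x Q)) (skyPushAbHom f x Q)
    (fun V r s => by
      funext h
      have e2 : (r • ((skyPushAbHom f x Q).app V s)) h =
          (Y.presheaf.germ V.unop (f.base x) h.down).hom r • ((skyPushAbHom f x Q).app V s) h :=
        sky_smul_apply (f.base x) (resQ f x Q) V r _ h
      refine Eq.trans ?_ e2.symm
      have e1 : ((skyPushAbHom f x Q).app V (r • s)) h =
          (X.presheaf.germ (f ⁻¹ᵁ V.unop) x h.down).hom ((f.app V.unop).hom r) •
            skySec x (U := f ⁻¹ᵁ V.unop) s ⟨h.down⟩ := rfl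
      refine e1.trans ?_
      have e3 := Scheme.Hom.germ_stalkMap_apply f V.unop x h.down r
      exact (congrArg (fun z => z • skySec x (U := f ⁻¹ᵁ V.unop) s ⟨h.down⟩) e3.symm))⟩


/-- pushforward of a skyscraper is a skyscraper (inverse direction) -/
noncomputable def skyPushInv (Q : ModuleCat.{u} (X.presheaf.stalk x)) :
    sky (f.base x) (resQ f x Q) ⟶ (Scheme.Modules.pushforward f).obj (sky x Q) :=
  ⟨PresheafOfModules.homMk (M₁ := skyPre (f.base x) (resQ f x Q))
    (M₂ := ((Scheme.Modules.pushforward f).obj (sky x Q)).val) (skyPushAbInv f x Q)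
    (fun V r s => by
      funext h
      have e1 : ((skyPushAbInv f x Q).app V (r • s)) h =
          (f.stalkMap x).hom ((Y.presheaf.germ V.unop (f.base x) h.down).hom r) • s ⟨h.down⟩ := rfl
      have e2 : (r • (show ((Scheme.Modules.pushforward f).obj (sky x Q)).val.obj V from
          (skyPushAbInv f x Q).app V s)) h =
          (X.presheaf.germ (f ⁻¹ᵁ V.unop) x h.down).hom ((f.app V.unop).hom r) • s ⟨h.down⟩ := rfl
      refine e1.trans (Eq.trans ?_ e2.symm)
      have e3 := Scheme.Hom.germ_stalkMap_apply f V.unop x h.down r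
      exact (congrArg (fun z => z • s ⟨h.down⟩) e3))⟩


/-- pushforward of a skyscraper is the skyscraper of the restricted module -/
noncomputable def skyPushIso (Q : ModuleCat.{u} (X.presheaf.stalk x)) :
    (Scheme.Modules.pushforward f).obj (sky x Q) ≅ sky (f.base x) (resQ f x Q) where
  hom := skyPushHom f x Q
  inv := skyPushInv f x Q
  hom_inv_id := by
    ext V s
    rfl
  inv_hom_id := by
    ext V s
    rfl

/-- naturality: pushforward of skyscrapers -/
noncomputable def skyPushNatIso :
    skyFunctor x ⋙ Scheme.Modules.pushforward f ≅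
      ModuleCat.restrictScalars.{u} (f.stalkMap x).hom ⋙ skyFunctor (f.base x) :=
  NatIso.ofComponents (fun Q => skyPushIso f x Q) (fun {Q Q'} g => by
    ext V s
    rfl)

/-- **stalk of the pullback**: `(f^* M)_x ≅ O_{X,x} ⊗_{O_{Y,f x}} M_{f x}`, naturally in `M` -/
noncomputable def stalkPullbackIso :
    Scheme.Modules.pullback f ⋙ DerSch.stalkFunctor X x ≅
      DerSch.stalkFunctor Y (f.base x) ⋙ ModuleCat.extendScalars.{u, u, u} (f.stalkMap x).hom :=
  (conjugateIsoEquiv
    ((stalkSkyAdj (f.base x)).comp (ModuleCat.extendRestrictScalarsAdj.{u, u, u} (f.stalkMap x).hom))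
    ((Scheme.Modules.pullbackPushforwardAdjunction f).comp (stalkSkyAdj x))).symm
    (skyPushNatIso f x).symm

end Groth.Agent.H4.SPt5
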