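import Mathlib
import Groth.Prelude.Def_DerSch
import Groth.Agent.H4.SPt5
import Groth.Agent.Lib.Helper1.CohLen
import Groth.Agent.Lib.Lead.QC.SuppPullback

set_option autoImplicit false
universe u
open CategoryTheory CategoryTheory.Limits AlgebraicGeometry TopologicalSpace Opposite

/-!
# Exactness and joint conservativity of the stalk functors on `O_X`-modules
-/

namespace Groth.Agent.H4.SPt6

open Groth.Agent.H4.SPt4 Groth.Agent.H4.SPt5

variable {X : Scheme.{u}} (x : X)

lemma stalkFunctor_map_apply {M N : X.Modules} (φ : M ⟶ N) (m : M.presheaf.stalk x) :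
    ((DerSch.stalkFunctor X x).map φ).hom m = Groth.Agent.H1.SchFlat.stalkFun φ x m := rfl

instance : (DerSch.stalkFunctor X x).PreservesMonomorphisms where
  preserves {M N} φ hφ := by
    rw [ModuleCat.mono_iff_injective]
    exact Groth.Agent.H1.CohLen.stalkFun_injective_of_mono φ x

instance : (DerSch.stalkFunctor X x).PreservesHomology :=
  Functor.preservesHomology_of_preservesMonos_and_cokernels _

instance : PreservesFiniteLimits (DerSch.stalkFunctor X x) :=
  Functor.preservesFiniteLimits_of_preservesHomology _

instance : PreservesFiniteColimits (DerSch.stalkFunctor X x) :=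
  Functor.preservesFiniteColimits_of_preservesHomology _

theorem isZero_iff_stalk (M : X.Modules) :
    IsZero M ↔ ∀ x : X, IsZero ((DerSch.stalkFunctor X x).obj M) := by
  rw [Groth.Agent.LD.QC.isZero_iff_subsingleton_stalks]
  refine forall_congr' (fun x => ?_)
  rw [ModuleCat.isZero_iff_subsingleton]
  rfl

/-- the complex of stalks -/
noncomputable abbrev stalkCx (x : X) :
    CochainComplex X.Modules ℤ ⥤ CochainComplex (ModuleCat.{u} (X.presheaf.stalk x)) ℤ :=
  (DerSch.stalkFunctor X x).mapHomologicalComplex (ComplexShape.up ℤ)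

theorem exactAt_iff_stalk (K : CochainComplex X.Modules ℤ) (i : ℤ) :
    K.ExactAt i ↔ ∀ x : X, ((stalkCx x).obj K).ExactAt i := by
  rw [HomologicalComplex.exactAt_iff_isZero_homology, isZero_iff_stalk]
  refine forall_congr' (fun x => ?_)
  rw [HomologicalComplex.exactAt_iff_isZero_homology]
  exact (Iso.isZero_iff ((K.sc i).mapHomologyIso (DerSch.stalkFunctor X x))).symm

theorem acyclic_iff_stalk (K : CochainComplex X.Modules ℤ) :
    K.Acyclic ↔ ∀ x : X, ((stalkCx x).obj K).Acyclic := by
  constructor
  · intro h x i
    exact (exactAt_iff_stalk K i).1 (h i) x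
  · intro h i
    exact (exactAt_iff_stalk K i).2 (fun x => h x i)

end Groth.Agent.H4.SPt6
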