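import Mathlib
import Groth.Prelude.Def_DRing4
import Groth.Agent.H4.TC10
import Groth.Agent.Lib.Helper2.FPSys

open CategoryTheory Category Limits HomologicalComplex CochainComplex.HomComplex CochainComplex
  MonoidalCategory ZeroObject Pretriangulated

universe u w w'

namespace Groth.Agent.H4.TC11

open Groth.Agent.H4.TC1 Groth.Agent.H4.TC2 Groth.Agent.H4.TC3 Groth.Agent.H4.TC4
  Groth.Agent.H4.TC5 Groth.Agent.H4.TC6 Groth.Agent.H4.TC7 Groth.Agent.H4.TC8 Groth.Agent.H4.TC9
  Groth.Agent.H4.TC10

variable {R : Type u} [CommRing R]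

section filtered

variable {J : Type w} [Category.{w'} J] [IsFiltered J]
  [HasColimitsOfShape J (ModuleCat.{u} R)]
  [PreservesColimitsOfShape J (forget (ModuleCat.{u} R))]
  (F : J ⥤ Cx R) (c : Cocone F) (hc : IsColimit c)

include hc in
/-- universe-general version of `acyc_of_isColimit_filtered`. -/
lemma acyc_of_isColimit_filtered' (h : ∀ j, Acyc (F.obj j)) : Acyc c.pt := by
  rw [acyc_iff_exactAt]
  intro n
  rw [HomologicalComplex.exactAt_iff' _ (n - 1) n (n + 1) (by simp) (by simp),
    ShortComplex.moduleCat_exact_iff]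
  intro z hz
  change (c.pt.d n (n + 1)) z = 0 at hz
  have hcn : ∀ m : ℤ, IsColimit ((HomologicalComplex.eval _ _ m).mapCocone c) :=
    fun m => isColimitOfPreserves _ hc
  obtain ⟨j, (y : (F.obj j).X n), hy⟩ := Concrete.isColimit_exists_rep _ (hcn n) z
  change (c.ι.app j).f n y = z at hy
  have h0 : (c.ι.app j).f (n + 1) ((F.obj j).d n (n + 1) y) = (c.ι.app j).f (n + 1) 0 := by
    rw [map_zero]
    have hcomm := hom_comm_apply (c.ι.app j) n (n + 1) y
    rw [← hcomm, hy]
    exact hz
  obtain ⟨k, f, g, hfg⟩ := Concrete.isColimit_exists_of_rep_eq _ (hcn (n + 1)) _ _ h0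
  change (F.map f).f (n + 1) ((F.obj j).d n (n + 1) y) = (F.map g).f (n + 1) 0 at hfg
  rw [map_zero] at hfg
  have hk := (acyc_iff_exactAt _).1 (h k) n
  rw [HomologicalComplex.exactAt_iff' _ (n - 1) n (n + 1) (by simp) (by simp),
    ShortComplex.moduleCat_exact_iff] at hk
  have hyk : ((F.obj k).d n (n + 1)) ((F.map f).f n y) = 0 := by
    rw [hom_comm_apply (F.map f) n (n + 1) y]
    exact hfg
  obtain ⟨(w : (F.obj k).X (n - 1)), hw⟩ := hk ((F.map f).f n y) hyk
  change ((F.obj k).d (n - 1) n) w = (F.map f).f n y at hw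
  refine ⟨(c.ι.app k).f (n - 1) w, ?_⟩
  change (c.pt.d (n - 1) n) _ = z
  have hcomm := hom_comm_apply (c.ι.app k) (n - 1) n w
  refine hcomm.trans ?_
  rw [hw, ← hy]
  have hnat := c.w f
  rw [← hnat, HomologicalComplex.comp_f, ModuleCat.comp_apply]

end filtered

instance : PreservesColimitsOfShape ℕ (forget (ModuleCat.{u} R)) := by
  haveI : PreservesFilteredColimitsOfSize.{0, 0} (forget (ModuleCat.{u} R)) :=
    preservesFilteredColimitsOfSize_shrink.{0, u, 0, u} _
  exact PreservesFilteredColimitsOfSize.preserves_filtered_colimits ℕ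

section tensorCx

variable (K : Cx R)

/-- `M ↦ K ⊗ M` (termwise) as a functor. -/
noncomputable def tensorCxFunctor : ModuleCat.{u} R ⥤ Cx R where
  obj M := DRing.tensorCx K M
  map {M N} g :=
    { f := fun q => K.X q ◁ g
      comm' := fun i j _ => by
        change K.X i ◁ g ≫ K.d i j ▷ N = K.d i j ▷ M ≫ K.X j ◁ g
        exact (whisker_exchange (K.d i j) g) }
  map_id M := by
    refine HomologicalComplex.hom_ext _ _ (fun q => ?_)
    exact MonoidalCategory.whiskerLeft_id _ _
  map_comp f g := by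
    refine HomologicalComplex.hom_ext _ _ (fun q => ?_)
    exact MonoidalCategory.whiskerLeft_comp _ _ _

variable {J : Type w} [Category.{w'} J] [HasColimitsOfShape J (ModuleCat.{u} R)]

instance : PreservesColimitsOfShape J (tensorCxFunctor K) where
  preservesColimit {F} := ⟨fun {c} hc => ⟨by
    refine isColimitOfEval _ _ (fun q => ?_)
    exact isColimitOfPreserves (tensorLeft (K.X q)) hc⟩⟩

end tensorCx

section fp

open Groth.Agent.H2.FPSys

variable (M : ModuleCat.{u} R)

/-- the diagram of finitely presented modules. -/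
noncomputable def fpFunctor : Idx (R := R) M ⥤ ModuleCat.{u} R where
  obj a := ModuleCat.of R (G a)
  map {a b} h := ModuleCat.ofHom (f a b (leOfHom h))
  map_id a := by
    refine ModuleCat.hom_ext (LinearMap.ext fun x => ?_)
    exact f_self a x
  map_comp {a b c} h1 h2 := by
    refine ModuleCat.hom_ext (LinearMap.ext fun x => ?_)
    exact (f_f a b c (leOfHom h1) (leOfHom h2) x).symm

/-- the cocone -/
noncomputable def fpCocone : Cocone (fpFunctor M) where
  pt := M
  ι :=
    { app := fun a => ModuleCat.ofHom (toM a)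
      naturality := fun a b h => by
        refine ModuleCat.hom_ext (LinearMap.ext fun x => ?_)
        exact toM_f a b (leOfHom h) x }

instance : IsFiltered (Idx (R := R) M) := isFiltered_of_directed_le_nonempty _

instance : PreservesColimitsOfShape (Idx (R := R) M) (forget (ModuleCat.{u} R)) :=
  PreservesFilteredColimitsOfSize.preserves_filtered_colimits _

/-- `M` is the colimit of the f.p. diagram. -/
noncomputable def fpIsColimit : IsColimit (fpCocone M) := by
  haveI : ReflectsColimitsOfShape (Idx (R := R) M) (forget (ModuleCat.{u} R)) :=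
    reflectsColimitsOfShape_of_reflectsIsomorphisms
  refine isColimitOfReflects (forget (ModuleCat.{u} R)) ?_
  refine Types.FilteredColimit.isColimitOf' _ _ ?_ ?_
  · intro (x : M)
    obtain ⟨a, z, hz⟩ := exists_toM_eq (R := R) x
    exact ⟨a, z, hz.symm⟩
  · intro a (x : G a) (y : G a) (hxy : toM a x = toM a y)
    have h0 : toM a (x - y) = 0 := by rw [map_sub, hxy, sub_self]
    obtain ⟨b, h, hb⟩ := exists_f_eq_zero a (x - y) h0
    refine ⟨b, homOfLE h, ?_⟩
    change f a b h x = f a b h y
    rw [map_sub, sub_eq_zero] at hb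
    exact hb

end fp

section devissage

open Groth.Agent.H4.SubCx Groth.Agent.H4.DRing1

/-- predicates on complexes stable under isos, shifts and cones. -/
structure TriPred (P : Cx R → Prop) : Prop where
  iso : ∀ {L L' : Cx R}, (L ≅ L') → P L → P L'
  shift : ∀ (L : Cx R) (n : ℤ), P (L⟦n⟧) ↔ P L
  cone : ∀ {L L' : Cx R} (f : L ⟶ L'), P L → P L' → P (mappingCone f)

variable {P : Cx R → Prop} (hP : TriPred P)

include hP in
theorem TriPred.of_degreewiseSplit₂ (S : ShortComplex (Cx R))
    (σ : ∀ n, (S.map (HomologicalComplex.eval _ _ n)).Splitting)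
    (h₁ : P S.X₁) (h₃ : P S.X₃) : P S.X₂ := by
  have hc : P (mappingCone (homOfDegreewiseSplit S σ)) :=
    hP.cone _ h₃ ((hP.shift _ 1).2 h₁)
  exact (hP.shift _ 1).1 (hP.iso (mappingConeHomOfDegreewiseSplitIso S σ) hc)

include hP in
theorem TriPred.of_bounded_aux (h0 : ∀ (L : Cx R) (q₀ : ℤ), (∀ q, q ≠ q₀ → IsZero (L.X q)) → P L)
    (n : ℕ) : ∀ (K : Cx R) (a : ℤ),
    (∀ i, i < a → IsZero (K.X i)) → (∀ i, a + n ≤ i → IsZero (K.X i)) → P K := by
  induction n with
  | zero =>
    intro K a h1 h2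
    refine h0 K 0 (fun q _ => ?_)
    by_cases hq : q < a
    · exact h1 q hq
    · exact h2 q (by simp; omega)
  | succ n ih =>
    intro K a h1 h2
    have hS := brutal_stable K (a + 1)
    refine hP.of_degreewiseSplit₂ (sc K (brutal K (a + 1)) hS) (brutalSplitting K (a + 1)) ?_ ?_
    · refine ih (sub K (brutal K (a + 1)) hS) (a + 1) ?_ ?_
      · intro i hi
        have hb := brutal_of_lt K hi
        change IsZero (ModuleCat.of R (brutal K (a + 1) i))
        haveI : Subsingleton (brutal K (a + 1) i) := by rw [hb]; infer_instance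
        exact ModuleCat.isZero_of_subsingleton _
      · intro i hi
        change IsZero (ModuleCat.of R (brutal K (a + 1) i))
        haveI : Subsingleton (K.X i) := ModuleCat.subsingleton_of_isZero (h2 i (by push_cast; omega))
        haveI : Subsingleton (brutal K (a + 1) i) := inferInstance
        exact ModuleCat.isZero_of_subsingleton _
    · refine h0 _ a ?_
      intro q hq
      change IsZero (ModuleCat.of R (K.X q ⧸ brutal K (a + 1) q))
      by_cases hq' : q < a
      · haveI : Subsingleton (K.X q) := ModuleCat.subsingleton_of_isZero (h1 q hq')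
        haveI : Subsingleton (K.X q ⧸ brutal K (a + 1) q) := inferInstance
        exact ModuleCat.isZero_of_subsingleton _
      · have hb := brutal_of_le K (show a + 1 ≤ q by omega)
        haveI : Subsingleton (K.X q ⧸ brutal K (a + 1) q) := by
          rw [hb]
          exact Submodule.Quotient.subsingleton_iff.2 rfl
        exact ModuleCat.isZero_of_subsingleton _

include hP in
theorem TriPred.of_bounded (h0 : ∀ (L : Cx R) (q₀ : ℤ), (∀ q, q ≠ q₀ → IsZero (L.X q)) → P L)
    (K : Cx R) (a b : ℤ)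
    (h1 : ∀ i, i < a → IsZero (K.X i)) (h2 : ∀ i, b < i → IsZero (K.X i)) : P K := by
  refine hP.of_bounded_aux h0 (b + 1 - a).toNat K a h1 (fun i hi => h2 i ?_)
  have := Int.self_le_toNat (b + 1 - a)
  omega

/-- the predicate `L ↦ Acyc (K ⊗ L)` is triangulated. -/
lemma triPred_acyc_tensor (K : Cx R) : TriPred (fun L : Cx R => Acyc (K ⊗ L)) where
  iso e h := Acyc.of_iso (whiskerLeftIso K e) h
  shift L n := by
    constructor
    · intro h
      exact (acyc_shift_iff _ n).1 (Acyc.of_iso
        (CochainComplex.mapBifunctorShift₂Iso K L (curriedTensor (ModuleCat.{u} R)) n) h)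
    · intro h
      exact Acyc.of_iso
        (CochainComplex.mapBifunctorShift₂Iso K L (curriedTensor (ModuleCat.{u} R)) n).symm
        ((acyc_shift_iff _ n).2 h)
  cone f hL hL' := Acyc.of_iso (coneTensorLeft K f).symm (Acyc.cone (K ◁ f) hL hL')

/-- if `E` is concentrated in degree `q₀` and `K ⊗ E^{q₀}` is acyclic, then `K ⊗ E` is acyclic. -/
theorem acyc_tensor_concentrated (K E : Cx R) (q₀ : ℤ) (hE : ∀ q, q ≠ q₀ → IsZero (E.X q))
    (h : Acyc (DRing.tensorCx K (E.X q₀))) : Acyc (K ⊗ E) := by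
  rw [acyc_iff_exactAt] at h ⊢
  intro n
  rw [HomologicalComplex.exactAt_iff' _ (n - 1) n (n + 1) (by simp) (by simp)]
  have hex := (HomologicalComplex.exactAt_iff' (DRing.tensorCx K (E.X q₀)) (n - q₀ - 1) (n - q₀)
    (n - q₀ + 1) (by simp) (by simp)).1 (h (n - q₀))
  have h1 : n - q₀ - 1 + q₀ = n - 1 := by omega
  have h2 : n - q₀ + q₀ = n := by omega
  have h3 : n - q₀ + 1 + q₀ = n + 1 := by omega
  haveI i1 := isIso_ι_of_concentrated₂ (curriedTensor (ModuleCat.{u} R)) K E q₀ hE (n - q₀ - 1)
    (n - 1) h1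
  haveI i2 := isIso_ι_of_concentrated₂ (curriedTensor (ModuleCat.{u} R)) K E q₀ hE (n - q₀)
    n h2
  haveI i3 := isIso_ι_of_concentrated₂ (curriedTensor (ModuleCat.{u} R)) K E q₀ hE (n - q₀ + 1)
    (n + 1) h3
  refine ShortComplex.exact_of_iso ?_ hex
  refine ShortComplex.isoMk
    (@asIso _ _ _ _ _ i1) (@asIso _ _ _ _ _ i2) (@asIso _ _ _ _ _ i3) ?_ ?_
  · exact (ι_d_of_concentrated₂ (curriedTensor (ModuleCat.{u} R)) K E q₀ hE (n - q₀ - 1) (n - 1)
      (n - q₀) n (by omega) (by omega) (by omega))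
  · exact (ι_d_of_concentrated₂ (curriedTensor (ModuleCat.{u} R)) K E q₀ hE (n - q₀) n
      (n - q₀ + 1) (n + 1) (by omega) (by omega) (by omega))

end devissage

section main

variable (K : Cx R)

/-- reduction to finitely presented modules. -/
theorem acyc_tensorCx_of_fp
    (hK : ∀ (M : Type u) [AddCommGroup M] [Module R M], Module.FinitePresentation R M →
      Acyc (DRing.tensorCx K (ModuleCat.of R M))) (M : ModuleCat.{u} R) :
    Acyc (DRing.tensorCx K M) := by
  have hc := isColimitOfPreserves (tensorCxFunctor K) (fpIsColimit M)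
  exact acyc_of_isColimit_filtered' _ _ hc
    (fun a => hK (Groth.Agent.H2.FPSys.G a) inferInstance)

variable (hK : ∀ M : ModuleCat.{u} R, Acyc (DRing.tensorCx K M))

include hK in
lemma acyc_tensor_of_bounded (L : Cx R) (a b : ℤ)
    (h1 : ∀ i, i < a → IsZero (L.X i)) (h2 : ∀ i, b < i → IsZero (L.X i)) : Acyc (K ⊗ L) :=
  (triPred_acyc_tensor K).of_bounded
    (fun E q₀ hE => acyc_tensor_concentrated K E q₀ hE (hK _)) L a b h1 h2

include hK in
lemma acyc_tensor_of_boundedAbove (L : Cx R) (b : ℤ) (hb : ∀ i, b < i → IsZero (L.X i)) :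
    Acyc (K ⊗ L) := by
  rw [acyc_iff_exactAt]
  intro n
  rw [HomologicalComplex.exactAt_iff' _ (n - 1) n (n + 1) (by simp) (by simp),
    ShortComplex.moduleCat_exact_iff]
  intro z hz
  change ((K ⊗ L).d n (n + 1)) z = 0 at hz
  obtain ⟨q₀, z', rfl⟩ := exists_mem_range L K n z
  have hbr : Acyc (K ⊗ br L q₀) := acyc_tensor_of_bounded K hK (br L q₀) q₀ b
    (fun i hi => isZero_br_X_of_lt L q₀ i hi) (fun i hi => isZero_br_X_of_isZero L q₀ i (hb i hi))
  have hac := (acyc_iff_exactAt _).1 hbr n
  rw [HomologicalComplex.exactAt_iff' _ (n - 1) n (n + 1) (by simp) (by simp),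
    ShortComplex.moduleCat_exact_iff] at hac
  have hz' : ((K ⊗ br L q₀).d n (n + 1)) z' = 0 := by
    apply injective_whiskerLeft_brι L K q₀ (n + 1)
    rw [map_zero, ← ModuleCat.comp_apply, ← (K ◁ brι L q₀).comm, ModuleCat.comp_apply]
    exact hz
  obtain ⟨(w' : (K ⊗ br L q₀).X (n - 1)), hw'⟩ := hac z' hz'
  change ((K ⊗ br L q₀).d (n - 1) n) w' = z' at hw'
  refine ⟨(K ◁ brι L q₀).f (n - 1) w', ?_⟩
  change ((K ⊗ L).d (n - 1) n) _ = _
  have hc := ConcreteCategory.congr_hom ((K ◁ brι L q₀).comm (n - 1) n) w'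
  rw [ModuleCat.comp_apply, ModuleCat.comp_apply] at hc
  exact hc.trans (congrArg ((K ◁ brι L q₀).f n) hw')

include hK in
theorem acyc_tensor_of_forall_tensorCx (L : Cx R) : Acyc (K ⊗ L) := by
  have hc := isColimitOfPreserves (tensorLeft K) (Groth.Agent.H4.KProj.isColimitTowerCocone L)
  refine acyc_of_isColimit_filtered' _ _ hc (fun n => ?_)
  exact acyc_tensor_of_boundedAbove K hK _ (n : ℤ)
    (fun i hi => Groth.Agent.H4.KProj.isZero_tr_X L hi)

end main

/-- S6904 -/
theorem kflat_of_fp (K : Cx R)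
    (hK : ∀ (M : Type u) [AddCommGroup M] [Module R M], Module.FinitePresentation R M →
      Acyc (DRing.tensorCx K (ModuleCat.of R M))) : KFlat K := by
  intro L _
  exact Acyc.of_iso (braid K L) (acyc_tensor_of_forall_tensorCx K (acyc_tensorCx_of_fp K hK) L)

end Groth.Agent.H4.TC11
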