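import Mathlib
import Groth.Prelude.Def_DRing4
import Groth.Agent.H4.TC11
import Groth.Agent.H4.TV
import Groth.Agent.H4.LDer5

open CategoryTheory Category Limits HomologicalComplex CochainComplex.HomComplex CochainComplex
  MonoidalCategory ZeroObject Pretriangulated

universe u

namespace Groth.Agent.H4.TC13

open Groth.Agent.H4.TC1 Groth.Agent.H4.TC2 Groth.Agent.H4.TC3 Groth.Agent.H4.TC4
  Groth.Agent.H4.TC5 Groth.Agent.H4.TC6 Groth.Agent.H4.TC7 Groth.Agent.H4.TC8 Groth.Agent.H4.TC9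
  Groth.Agent.H4.TC10 Groth.Agent.H4.TC11 Groth.Agent.H4.TV Groth.Agent.H4.LDer

variable {R : Type u} [CommRing R]

/-- converse of `acyc_tensor_concentrated` -/
theorem acyc_tensorCx_of_acyc_tensor_concentrated (K E : Cx R) (q₀ : ℤ)
    (hE : ∀ q, q ≠ q₀ → IsZero (E.X q)) (h : Acyc (K ⊗ E)) :
    Acyc (DRing.tensorCx K (E.X q₀)) := by
  rw [acyc_iff_exactAt] at h ⊢
  intro m
  obtain ⟨n, rfl⟩ : ∃ n, m = n - q₀ := ⟨m + q₀, by omega⟩
  have hex := (HomologicalComplex.exactAt_iff' _ (n - 1) n (n + 1) (by simp) (by simp)).1 (h n)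
  rw [HomologicalComplex.exactAt_iff' (DRing.tensorCx K (E.X q₀)) (n - q₀ - 1) (n - q₀)
    (n - q₀ + 1) (by simp) (by simp)]
  have h1 : n - q₀ - 1 + q₀ = n - 1 := by omega
  have h2 : n - q₀ + q₀ = n := by omega
  have h3 : n - q₀ + 1 + q₀ = n + 1 := by omega
  haveI i1 := isIso_ι_of_concentrated₂ (curriedTensor (ModuleCat.{u} R)) K E q₀ hE (n - q₀ - 1)
    (n - 1) h1
  haveI i2 := isIso_ι_of_concentrated₂ (curriedTensor (ModuleCat.{u} R)) K E q₀ hE (n - q₀)
    n h2
  haveI i3 := isIso_ι_of_concentrated₂ (curriedTensor (ModuleCat.{u} R)) K E q₀ hE (n - q₀ + 1)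
    (n + 1) h3
  refine ShortComplex.exact_of_iso (Iso.symm ?_) hex
  refine ShortComplex.isoMk
    (@asIso _ _ _ _ _ i1) (@asIso _ _ _ _ _ i2) (@asIso _ _ _ _ _ i3) ?_ ?_
  · exact (ι_d_of_concentrated₂ (curriedTensor (ModuleCat.{u} R)) K E q₀ hE (n - q₀ - 1) (n - 1)
      (n - q₀) n (by omega) (by omega) (by omega))
  · exact (ι_d_of_concentrated₂ (curriedTensor (ModuleCat.{u} R)) K E q₀ hE (n - q₀) n
      (n - q₀ + 1) (n + 1) (by omega) (by omega) (by omega))

/-- a K-flat acyclic complex stays acyclic after tensoring with any module -/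
theorem acyc_tensorCx_of_kflat_acyc (T : Cx R) (hT : KFlat T) (hac : Acyc T)
    (M : ModuleCat.{u} R) : Acyc (DRing.tensorCx T M) := by
  let E : Cx R := (HomologicalComplex.single (ModuleCat.{u} R) (ComplexShape.up ℤ) 0).obj M
  have hE : ∀ q : ℤ, q ≠ 0 → IsZero (E.X q) := fun q hq =>
    HomologicalComplex.isZero_single_obj_X (ComplexShape.up ℤ) 0 M q hq
  have h1 : Acyc (T ⊗ E) := Acyc.of_iso (braid E T) (acyc_tensor_of_kflat_acyc T hT hac E)
  have h2 := acyc_tensorCx_of_acyc_tensor_concentrated T E 0 hE h1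
  exact Acyc.of_iso ((tensorCxFunctor T).mapIso
    (HomologicalComplex.singleObjXSelf (ComplexShape.up ℤ) 0 M)) h2

variable {B : Type u} [CommRing B]

/-- **base change of a K-flat acyclic complex is acyclic** -/
theorem acyc_extendScalars (φ : R →+* B) (T : Cx R) (hT : KFlat T) (hac : Acyc T) :
    Acyc (((ModuleCat.extendScalars.{u, u, u} φ).mapHomologicalComplex (ComplexShape.up ℤ)).obj T) := by
  rw [acyc_iff_exactAt]
  intro i
  have h1 := acyc_tensorCx_of_kflat_acyc T hT hac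
    ((ModuleCat.restrictScalars.{u} φ).obj (𝟙_ (ModuleCat.{u} B)))
  rw [acyc_iff_exactAt] at h1
  have h2 : TV T ((ModuleCat.restrictScalars.{u} φ).obj (𝟙_ (ModuleCat.{u} B))) i := h1 i
  rw [← TV_restrict_iff] at h2
  exact exactAt_of_iso (GCUnitIso B _) i h2

end Groth.Agent.H4.TC13
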