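import Mathlib
import Groth.Prelude.Def_DerSch
import Groth.Prelude.Def_DCoh4
import Groth.Agent.H4.SPt6
import Groth.Agent.H4.GK13
import Groth.Agent.H4.TC13
import Groth.Agent.H4.GKS8
import Groth.Agent.H4.LDS3

set_option autoImplicit false
universe u
open CategoryTheory CategoryTheory.Limits AlgebraicGeometry TopologicalSpace Opposite ZeroObject
attribute [local instance] HasDerivedCategory.standard

/-!
# Existence of `Lf^*` for morphisms of schemes
-/

namespace Groth.Agent.H4.LDS14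

open Groth.Agent.H4.SPt4 Groth.Agent.H4.SPt5 Groth.Agent.H4.SPt6
open Groth.Agent.H4.TC4 Groth.Agent.H4.TC5 Groth.Agent.H4.TC6 Groth.Agent.H4.TC7
  Groth.Agent.H4.TC11 Groth.Agent.H4.TC13

section Ring

variable {R : Type u} [CommRing R]

/-- a colimit of a sequence of K-flat complexes is K-flat -/
theorem kflat_of_isColimit_nat (F : ℕ ⥤ Groth.Agent.H4.TC3.Cx R) (c : Cocone F) (hc : IsColimit c)
    (h : ∀ j, KFlat (F.obj j)) : KFlat c.pt := by
  intro L hL
  exact acyc_of_isColimit_filtered' (F ⋙ MonoidalCategory.tensorLeft L)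
    ((MonoidalCategory.tensorLeft L).mapCocone c) (isColimitOfPreserves _ hc) (fun j => h j L hL)

end Ring

variable {Y : Scheme.{u}}

/-- stalkwise K-flat complexes of `O_Y`-modules -/
def SKF (E : CochainComplex Y.Modules ℤ) : Prop := ∀ y : Y, KFlat ((stalkCx y).obj E)

lemma skf_of_isZero (Z : CochainComplex Y.Modules ℤ) (hZ : IsZero Z) : SKF Z := by
  intro y
  apply kflat_of_isZero_X
  intro q
  exact ((stalkCx y) ⋙ HomologicalComplex.eval _ _ q).map_isZero hZ

lemma skf_shift (E : CochainComplex Y.Modules ℤ) (n : ℤ) (hE : SKF E) : SKF (E⟦n⟧) := by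
  intro y
  refine KFlat.of_iso (((stalkCx y).commShiftIso n).app E).symm ?_
  exact (kflat_shift_iff _ n).2 (hE y)

lemma skf_cone {K L : CochainComplex Y.Modules ℤ} (φ : K ⟶ L) (hK : SKF K) (hL : SKF L) :
    SKF (CochainComplex.mappingCone φ) := by
  intro y
  refine KFlat.of_iso (CochainComplex.mappingCone.mapHomologicalComplexIso φ
    (DerSch.stalkFunctor Y y)).symm ?_
  exact KFlat.cone _ (hK y) (hL y)

lemma adm_skf : Groth.Agent.H4.LDS3.Adm (SKF (Y := Y)) where
  zero := ⟨0, isZero_zero _, skf_of_isZero _ (isZero_zero _)⟩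
  shift := skf_shift
  cone := skf_cone


open Groth.Agent.H4.GKS1 Groth.Agent.H4.GKS2 Groth.Agent.H4.GKS3 Groth.Agent.H4.GKS5
  Groth.Agent.LD.MS Groth.Agent.H4.GK1 in
/-- resolutions by stalkwise K-flat complexes with flat terms -/
theorem exists_skf_resolution (G : CochainComplex Y.Modules ℤ) :
    ∃ (N : CochainComplex Y.Modules ℤ) (c : N ⟶ G), QuasiIso c ∧ SKF N ∧
      ∀ n, FlatMod.IsFlat (N.X n) := by
  haveI := countableAB4_mod Y.sheaf
  haveI := hasExactColimitsOfShape_mod Y.sheaf ℕ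
  obtain ⟨N, c, h1, h2, h3⟩ := Groth.Agent.H4.GK13.exists_resolution_class
    (A := ModSite.Mod Y.sheaf) (fun M => ModSite.IsFlat M)
    (isFlat_of_isZero Y.sheaf) (exists_flat_epi (O := Y.sheaf))
    (fun X Y' e h => Groth.Agent.H4.GK4.FlatObj.of_iso (F := ModSite.tensorBi Y.sheaf) e h) (isFlat_biprod Y.sheaf)
    (isFlat_colimit_nat Y.sheaf) (SKF (Y := Y))
    (fun Q m hz hP y => by
      refine kflat_of_boundedAbove (P := (stalkCx y).obj Q) m (fun i hi => ?_) (fun i => ?_)
      · exact (DerSch.stalkFunctor Y y).map_isZero (hz i hi)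
      · exact (Groth.Agent.H4.SFlat6.isFlat_iff_stalkwise (Q.X i)).1 (hP i) y)
    (fun b hQ hE => skf_cone b hQ hE)
    (fun E c hc h y => kflat_of_isColimit_nat (E ⋙ stalkCx y) ((stalkCx y).mapCocone c)
      (isColimitOfPreserves (stalkCx y) hc) (fun j => h j y)) G
  exact ⟨N, c, h1, h2, fun n => (Groth.Agent.H4.SFlat6.isFlat_iff_stalkwise _).1 (h3 n)⟩

lemma hasResCx_skf : Groth.Agent.H4.LDS3.HasResCx (SKF (Y := Y)) := by
  intro G
  obtain ⟨N, c, h1, h2, -⟩ := exists_skf_resolution G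
  exact ⟨N, c, h2, h1⟩


variable {X : Scheme.{u}}

/-- pullback preserves acyclicity of stalkwise K-flat complexes -/
theorem acyclic_pullback (f : X ⟶ Y) (E : CochainComplex Y.Modules ℤ) (hE : SKF E)
    (hac : E.Acyclic) :
    (((Scheme.Modules.pullback f).mapHomologicalComplex (ComplexShape.up ℤ)).obj E).Acyclic := by
  rw [acyclic_iff_stalk]
  intro x
  have h1 : Acyc ((stalkCx (f.base x)).obj E) :=
    (acyc_iff_exactAt _).2 ((acyclic_iff_stalk E).1 hac (f.base x))
  have h2 := acyc_extendScalars (f.stalkMap x).hom _ (hE (f.base x)) h1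
  let e := (NatIso.mapHomologicalComplex (stalkPullbackIso f x) (ComplexShape.up ℤ)).app E
  have h3 : Acyc ((stalkCx x).obj
      (((Scheme.Modules.pullback f).mapHomologicalComplex (ComplexShape.up ℤ)).obj E)) :=
    Acyc.of_iso e.symm h2
  exact (acyc_iff_exactAt _).1 h3

/-- **S0959**: the total left derived functor `Lf^*` exists. -/
theorem hasLpull (f : X ⟶ Y) : DCoh.HasLpull f :=
  Groth.Agent.H4.LDS3.hasLeftDerivedFunctor (Scheme.Modules.pullback f) adm_skf hasResCx_skf
    (fun E hE hac => acyclic_pullback f E hE hac)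

end Groth.Agent.H4.LDS14
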