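import Mathlib
import Groth.Prelude.Def_DerSch
import Groth.Prelude.Def_DCoh4
import Groth.Agent.H4.LDS14

set_option autoImplicit false
universe u
open CategoryTheory CategoryTheory.Limits AlgebraicGeometry TopologicalSpace Opposite ZeroObject
attribute [local instance] HasDerivedCategory.standard

namespace Groth.Agent.H4.LDS15

open Groth.Agent.H4.SPt4 Groth.Agent.H4.SPt5 Groth.Agent.H4.SPt6
open Groth.Agent.H4.TC4 Groth.Agent.H4.TC5 Groth.Agent.H4.TC6 Groth.Agent.H4.TC7
  Groth.Agent.H4.TC11 Groth.Agent.H4.TC13 Groth.Agent.H4.LDS14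

variable {Y Z : Scheme.{u}}

lemma skf_of_iso {E E' : CochainComplex Z.Modules ℤ} (e : E ≅ E') (h : SKF E) : SKF E' :=
  fun z => KFlat.of_iso ((stalkCx z).mapIso e) (h z)

/-- termwise pullback of complexes -/
noncomputable abbrev pullCx (g : Y ⟶ Z) : CochainComplex Z.Modules ℤ ⥤ CochainComplex Y.Modules ℤ :=
  (Scheme.Modules.pullback g).mapHomologicalComplex (ComplexShape.up ℤ)

/-- stalk of the pulled back complex -/
noncomputable def stalkPullCxIso (g : Y ⟶ Z) (y : Y) (E : CochainComplex Z.Modules ℤ) :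
    (stalkCx y).obj ((pullCx g).obj E) ≅
      ((ModuleCat.extendScalars.{u,u,u} (g.stalkMap y).hom).mapHomologicalComplex
        (ComplexShape.up ℤ)).obj ((stalkCx (g.base y)).obj E) :=
  (NatIso.mapHomologicalComplex (stalkPullbackIso g y) (ComplexShape.up ℤ)).app E

instance (g : Y ⟶ Z) : PreservesColimitsOfShape ℕ (pullCx g) := by
  apply HomologicalComplex.preservesColimitsOfShape_of_eval
  intro i
  exact inferInstanceAs (PreservesColimitsOfShape ℕ
    (HomologicalComplex.eval _ _ i ⋙ Scheme.Modules.pullback g))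

lemma flat_extendScalars {A B : Type u} [CommRing A] [CommRing B] (φ : A →+* B)
    (M : ModuleCat.{u} A) (hM : Module.Flat A M) :
    Module.Flat B ((ModuleCat.extendScalars.{u,u,u} φ).obj M) := by
  letI := φ.toAlgebra
  exact inferInstanceAs (Module.Flat B (TensorProduct A B M))


/-- complexes which are stalkwise K-flat together with their pullback -/
def SKF2 (g : Y ⟶ Z) (E : CochainComplex Z.Modules ℤ) : Prop :=
  SKF E ∧ SKF ((pullCx g).obj E)

lemma adm_skf2 (g : Y ⟶ Z) : Groth.Agent.H4.LDS3.Adm (SKF2 g) where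
  zero := ⟨0, isZero_zero _, skf_of_isZero _ (isZero_zero _),
    skf_of_isZero _ ((pullCx g).map_isZero (isZero_zero _))⟩
  shift E n h := ⟨skf_shift E n h.1,
    skf_of_iso (((pullCx g).commShiftIso n).app E).symm (skf_shift _ n h.2)⟩
  cone φ h h' := ⟨skf_cone φ h.1 h'.1,
    skf_of_iso (CochainComplex.mappingCone.mapHomologicalComplexIso φ
      (Scheme.Modules.pullback g)).symm (skf_cone _ h.2 h'.2)⟩

open Groth.Agent.H4.GKS1 Groth.Agent.H4.GKS2 Groth.Agent.H4.GKS3 Groth.Agent.H4.GKS5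
  Groth.Agent.LD.MS Groth.Agent.H4.GK1 in
theorem exists_skf2_resolution (g : Y ⟶ Z) (G : CochainComplex Z.Modules ℤ) :
    ∃ (N : CochainComplex Z.Modules ℤ) (c : N ⟶ G), QuasiIso c ∧ SKF2 g N := by
  haveI := countableAB4_mod Z.sheaf
  haveI := hasExactColimitsOfShape_mod Z.sheaf ℕ
  obtain ⟨N, c, h1, h2, -⟩ := Groth.Agent.H4.GK13.exists_resolution_class
    (A := ModSite.Mod Z.sheaf) (fun M => ModSite.IsFlat M)
    (isFlat_of_isZero Z.sheaf) (exists_flat_epi (O := Z.sheaf))
    (fun X Y' e h => Groth.Agent.H4.GK4.FlatObj.of_iso (F := ModSite.tensorBi Z.sheaf) e h)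
    (isFlat_biprod Z.sheaf)
    (isFlat_colimit_nat Z.sheaf) (SKF2 g)
    (fun Q m hz hP => ⟨fun y => by
      refine kflat_of_boundedAbove (P := (stalkCx y).obj Q) m (fun i hi => ?_) (fun i => ?_)
      · exact (DerSch.stalkFunctor Z y).map_isZero (hz i hi)
      · exact (Groth.Agent.H4.SFlat6.isFlat_iff_stalkwise (Q.X i)).1 (hP i) y,
      fun y => by
      refine Groth.Agent.H4.TC4.KFlat.of_iso (stalkPullCxIso g y Q).symm ?_
      refine kflat_of_boundedAbove (P := ((ModuleCat.extendScalars.{u,u,u}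
        (g.stalkMap y).hom).mapHomologicalComplex
        (ComplexShape.up ℤ)).obj ((stalkCx (g.base y)).obj Q)) m (fun i hi => ?_) (fun i => ?_)
      · exact (ModuleCat.extendScalars.{u,u,u} (g.stalkMap y).hom).map_isZero
          ((DerSch.stalkFunctor Z (g.base y)).map_isZero (hz i hi))
      · exact flat_extendScalars _ _
          ((Groth.Agent.H4.SFlat6.isFlat_iff_stalkwise (Q.X i)).1 (hP i) (g.base y))⟩)
    (fun b hQ hE => (adm_skf2 g).cone b hQ hE)
    (fun E c hc h => ⟨fun y => kflat_of_isColimit_nat (E ⋙ stalkCx y) ((stalkCx y).mapCocone c)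
      (isColimitOfPreserves (stalkCx y) hc) (fun j => (h j).1 y),
      fun y => kflat_of_isColimit_nat ((E ⋙ pullCx g) ⋙ stalkCx y)
        ((stalkCx y).mapCocone ((pullCx g).mapCocone c))
        (isColimitOfPreserves (stalkCx y) (isColimitOfPreserves (pullCx g) hc))
        (fun j => (h j).2 y)⟩) G
  exact ⟨N, c, h1, h2⟩


lemma hasResCx_skf2 (g : Y ⟶ Z) : Groth.Agent.H4.LDS3.HasResCx (SKF2 g) := by
  intro G
  obtain ⟨N, c, h1, h2⟩ := exists_skf2_resolution g G
  exact ⟨N, c, h2, h1⟩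

section Comp

variable {X : Scheme.{u}}

/-- the counit of `Lg^*` -/
noncomputable abbrev αL (g : Y ⟶ Z) [DCoh.HasLpull g] :
    DerivedCategory.Qh ⋙ DCoh.Lpull g ⟶ DCoh.pullKh g :=
  (DCoh.pullKh g).totalLeftDerivedCounit DerivedCategory.Qh
    (HomotopyCategory.quasiIso Z.Modules (ComplexShape.up ℤ))

lemma isIso_αL (g : Y ⟶ Z) [DCoh.HasLpull g] (E : CochainComplex Z.Modules ℤ) (hE : SKF E) :
    IsIso ((αL g).app ((HomotopyCategory.quotient _ _).obj E)) :=
  Groth.Agent.H4.LDS3.isIso_counit_app (Scheme.Modules.pullback g) adm_skf hasResCx_skf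
    (fun E hE hac => acyclic_pullback g E hE hac) DerivedCategory.Qh (DCoh.Lpull g) (αL g) E hE

variable (f : X ⟶ Y) (g : Y ⟶ Z)

noncomputable def compIsoK :
    (Scheme.Modules.pullback g).mapHomotopyCategory (ComplexShape.up ℤ) ⋙
      (Scheme.Modules.pullback f).mapHomotopyCategory (ComplexShape.up ℤ) ≅
    (Scheme.Modules.pullback (f ≫ g)).mapHomotopyCategory (ComplexShape.up ℤ) :=
  Functor.mapHomotopyCategoryCompIso (Scheme.Modules.pullbackComp f g) _

variable [DCoh.HasLpull f] [DCoh.HasLpull g] [DCoh.HasLpull (f ≫ g)]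

noncomputable def β : DerivedCategory.Qh ⋙ (DCoh.Lpull g ⋙ DCoh.Lpull f) ⟶ DCoh.pullKh (f ≫ g) :=
  (Functor.associator _ _ _).inv ≫ Functor.whiskerRight (αL g) (DCoh.Lpull f) ≫
    (Functor.associator _ _ _).hom ≫ Functor.whiskerLeft _ (αL f) ≫
    (Functor.associator _ _ _).inv ≫ Functor.whiskerRight (compIsoK f g).hom DerivedCategory.Qh

lemma β_app (K : HomotopyCategory Z.Modules (ComplexShape.up ℤ)) :
    (β f g).app K = (DCoh.Lpull f).map ((αL g).app K) ≫
      (αL f).app (((Scheme.Modules.pullback g).mapHomotopyCategory (ComplexShape.up ℤ)).obj K) ≫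
      DerivedCategory.Qh.map ((compIsoK f g).hom.app K) := by
  simp [β]

lemma isIso_β_app (E : CochainComplex Z.Modules ℤ) (hE : SKF2 g E) :
    IsIso ((β f g).app ((HomotopyCategory.quotient _ _).obj E)) := by
  rw [β_app]
  haveI := isIso_αL g E hE.1
  haveI : IsIso ((αL f).app (((Scheme.Modules.pullback g).mapHomotopyCategory
      (ComplexShape.up ℤ)).obj ((HomotopyCategory.quotient _ _).obj E))) := by
    let e : ((Scheme.Modules.pullback g).mapHomotopyCategory
      (ComplexShape.up ℤ)).obj ((HomotopyCategory.quotient _ _).obj E) ≅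
        (HomotopyCategory.quotient _ _).obj ((pullCx g).obj E) :=
      ((Scheme.Modules.pullback g).mapHomotopyCategoryFactors (ComplexShape.up ℤ)).app E
    exact (NatTrans.isIso_app_iff_of_iso (αL f) e).2 (isIso_αL f _ hE.2)
  infer_instance

/-- the comparison `Lf^* Lg^* ⟶ L(gf)^*` -/
noncomputable def γ : DCoh.Lpull g ⋙ DCoh.Lpull f ⟶ DCoh.Lpull (f ≫ g) :=
  (DCoh.Lpull (f ≫ g)).leftDerivedLift (αL (f ≫ g))
    (HomotopyCategory.quasiIso Z.Modules (ComplexShape.up ℤ)) (DCoh.Lpull g ⋙ DCoh.Lpull f) (β f g)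

lemma γ_fac_app (K : HomotopyCategory Z.Modules (ComplexShape.up ℤ)) :
    (γ f g).app (DerivedCategory.Qh.obj K) ≫ (αL (f ≫ g)).app K = (β f g).app K :=
  Functor.leftDerived_fac_app _ _ _ _ _ _

lemma isIso_γ_app_Q (E : CochainComplex Z.Modules ℤ) (hE : SKF2 g E) :
    IsIso ((γ f g).app (DerivedCategory.Qh.obj ((HomotopyCategory.quotient _ _).obj E))) := by
  haveI := isIso_αL (f ≫ g) E hE.1
  haveI := isIso_β_app f g E hE
  have h := γ_fac_app f g ((HomotopyCategory.quotient _ _).obj E)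
  exact IsIso.of_isIso_fac_right h

instance : IsIso (γ f g) := by
  rw [NatTrans.isIso_iff_isIso_app]
  intro K
  obtain ⟨E, c, hc, hE⟩ := exists_skf2_resolution g (DerivedCategory.Q.objPreimage K)
  have hi : IsIso (DerivedCategory.Q.map c) := by
    rw [DerivedCategory.isIso_Q_map_iff_quasiIso]; exact hc
  let e : DerivedCategory.Qh.obj ((HomotopyCategory.quotient _ _).obj E) ≅ K :=
    (@asIso _ _ _ _ (DerivedCategory.Q.map c) hi) ≪≫ DerivedCategory.Q.objObjPreimageIso K
  rw [← NatTrans.isIso_app_iff_of_iso (γ f g) e]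
  exact isIso_γ_app_Q f g E hE

theorem main : Nonempty (DCoh.Lpull g ⋙ DCoh.Lpull f ≅ DCoh.Lpull (f ≫ g)) :=
  ⟨asIso (γ f g)⟩

end Comp

end Groth.Agent.H4.LDS15
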