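import Mathlib
import Groth.Agent.H4.GK8
import Groth.Agent.H4.TC10

open CategoryTheory Category Limits HomologicalComplex CochainComplex.HomComplex CochainComplex
  ZeroObject

universe v u

namespace Groth.Agent.H4.GK9

open Groth.Agent.H4.GK1 Groth.Agent.H4.GK2 Groth.Agent.H4.GK3 Groth.Agent.H4.GK4
  Groth.Agent.H4.TC2

variable {A : Type u} [Category.{v} A] [Abelian A]

section Sym

variable (F : A ⥤ A ⥤ A) [F.Additive] [∀ X, (F.obj X).Additive]
  [∀ K L : CochainComplex A ℤ, CochainComplex.HasMapBifunctor K L F]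
  (e : F ≅ F.flip)

instance flip_additive : F.flip.Additive := { }

instance flip_obj_additive (X : A) : (F.flip.obj X).Additive := { }

/-- the braiding of total complexes induced by a symmetry of the bifunctor -/
noncomputable def braid (L K : CochainComplex A ℤ) :
    CochainComplex.mapBifunctor L K F ≅ CochainComplex.mapBifunctor K L F :=
  Groth.Agent.H4.TC10.mapBifunctorNatIso L K e ≪≫
    HomologicalComplex.mapBifunctorFlipIso K L F (ComplexShape.up ℤ)

variable (hres : ∀ L : CochainComplex A ℤ, ∃ (K : CochainComplex A ℤ) (q : K ⟶ L),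
  KFlat F K ∧ QuasiIso q)

include e hres in
/-- a K-flat acyclic complex is universally acyclic -/
theorem acyc_map_of_kflat_acyc (C : CochainComplex A ℤ) (hC : KFlat F C) (hac : Acyc C)
    (L : CochainComplex A ℤ) : Acyc (CochainComplex.mapBifunctor L C F) := by
  obtain ⟨K, q, hK, hq⟩ := hres L
  haveI := quasiIso_map₁_of_kflat hC q hq
  rw [← Acyc.of_quasiIso (mapBifunctorMap q (𝟙 C) F (.up ℤ))]
  exact Acyc.of_iso (braid F e C K) (hK C hac)

include e hres in
/-- tensoring with any complex preserves quasi-isomorphisms between K-flat complexes -/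
theorem quasiIso_map₂_of_kflat {P Q : CochainComplex A ℤ} (α : P ⟶ Q) (hP : KFlat F P)
    (hQ : KFlat F Q) (hα : QuasiIso α) (L : CochainComplex A ℤ) :
    QuasiIso (mapBifunctorMap (𝟙 L) α F (.up ℤ)) := by
  rw [← acyc_cone_iff]
  exact Acyc.of_iso (coneIso₂ F L α)
    (acyc_map_of_kflat_acyc F e hres _ (KFlat.cone α hP hQ) ((acyc_cone_iff α).2 hα) L)

end Sym

end Groth.Agent.H4.GK9
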