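import Mathlib
import Groth.Prelude.Def_KFlatSite
import Groth.Agent.H4.GK9
import Groth.Agent.H4.GKS5

set_option autoImplicit false
universe u
open CategoryTheory CategoryTheory.Limits Opposite MonoidalCategory
attribute [local instance] HasDerivedCategory.standard
open Groth.Agent.H4.GK1 Groth.Agent.H4.GK2 Groth.Agent.H4.GK3 Groth.Agent.H4.GK4 Groth.Agent.LD.MS
  Groth.Agent.H4.GKS1 Groth.Agent.H4.GKS2 Groth.Agent.H4.GKS3 Groth.Agent.H4.GK7 Groth.Agent.H4.GK8
  Groth.Agent.H4.GK9 Groth.Agent.H4.GKS5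

namespace Groth.Agent.H4.GKS6

variable {C : Type u} [SmallCategory C] {J : GrothendieckTopology C} (O : Sheaf J CommRingCat.{u})

/-- the symmetry of the tensor bifunctor -/
noncomputable def braidBi : ModSite.tensorBi O ≅ (ModSite.tensorBi O).flip :=
  NatIso.ofComponents (fun F => braidIso F) (by
    intro F F' f
    refine NatTrans.ext (funext fun G => ?_)
    change (shf O).map ((incl O).map f ▷ (incl O).obj G) ≫
        (shf O).map (β_ ((incl O).obj F') ((incl O).obj G)).hom =
      (shf O).map (β_ ((incl O).obj F) ((incl O).obj G)).hom ≫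
        (shf O).map ((incl O).obj G ◁ (incl O).map f)
    rw [← Functor.map_comp, ← Functor.map_comp, BraidedCategory.braiding_naturality_left])

lemma hres (L : CochainComplex (ModSite.Mod O) ℤ) :
    ∃ (K : CochainComplex (ModSite.Mod O) ℤ) (q : K ⟶ L),
      KFlat (ModSite.tensorBi O) K ∧ QuasiIso q := by
  obtain ⟨K, q, h1, -, h3, -⟩ := Groth.Agent.H4.GKS5.S9060 O L
  exact ⟨K, q, h1, h3⟩

theorem quasiIso_tensor_left {P Q : CochainComplex (ModSite.Mod O) ℤ} (α : P ⟶ Q)
    (hP : ModSite.IsKFlat P) (hQ : ModSite.IsKFlat Q) (hα : QuasiIso α)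
    (F : CochainComplex (ModSite.Mod O) ℤ) :
    QuasiIso (HomologicalComplex.mapBifunctorMap (𝟙 F) α (ModSite.tensorBi O) (ComplexShape.up ℤ)) :=
  quasiIso_map₂_of_kflat (ModSite.tensorBi O) (braidBi O) (hres O) α hP hQ hα F

theorem acyc_tensor_of_kflat_acyc (K : CochainComplex (ModSite.Mod O) ℤ) (hK : ModSite.IsKFlat K)
    (hac : Acyc K) (L : CochainComplex (ModSite.Mod O) ℤ) :
    Acyc (CochainComplex.mapBifunctor L K (ModSite.tensorBi O)) :=
  acyc_map_of_kflat_acyc (ModSite.tensorBi O) (braidBi O) (hres O) K hK hac L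

end Groth.Agent.H4.GKS6
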