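import Mathlib
import Groth.Agent.H4.GK9

open CategoryTheory Category Limits HomologicalComplex CochainComplex.HomComplex CochainComplex
  ZeroObject

universe v u

namespace Groth.Agent.H4.GK10

open Groth.Agent.H4.GK1 Groth.Agent.H4.GK2 Groth.Agent.H4.GK3 Groth.Agent.H4.GK4
  Groth.Agent.H4.TC2

variable {A : Type u} [Category.{v} A] [Abelian A]

section Conc

variable (F : A ⥤ A ⥤ A) [F.Additive] [∀ X, (F.obj X).Additive]
  [∀ K L : CochainComplex A ℤ, CochainComplex.HasMapBifunctor K L F]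

/-- if `K` is concentrated in degree `q₀` and `L ⊗ K` is acyclic, then `L ⊗ K^{q₀}` is exact. -/
theorem exact_map_of_acyc_concentrated (L K : CochainComplex A ℤ) (q₀ : ℤ)
    (hK : ∀ q, q ≠ q₀ → IsZero (K.X q)) (h : Acyc (CochainComplex.mapBifunctor L K F)) (m : ℤ) :
    ((L.sc' (m - 1) m (m + 1)).map (F.flip.obj (K.X q₀))).Exact := by
  rw [acyc_iff_exactAt] at h
  have hn := h (m + q₀)
  rw [HomologicalComplex.exactAt_iff' _ (m + q₀ - 1) (m + q₀) (m + q₀ + 1) (by simp) (by simp)] at hn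
  have h1 : m - 1 + q₀ = m + q₀ - 1 := by omega
  have h2 : m + q₀ = m + q₀ := rfl
  have h3 : m + 1 + q₀ = m + q₀ + 1 := by omega
  haveI i1 := Groth.Agent.H4.TC5.isIso_ι_of_concentrated₂ F L K q₀ hK (m - 1) (m + q₀ - 1) h1
  haveI i2 := Groth.Agent.H4.TC5.isIso_ι_of_concentrated₂ F L K q₀ hK m (m + q₀) h2
  haveI i3 := Groth.Agent.H4.TC5.isIso_ι_of_concentrated₂ F L K q₀ hK (m + 1) (m + q₀ + 1) h3
  refine ShortComplex.exact_of_iso (ShortComplex.isoMk
    (@asIso _ _ _ _ _ i1) (@asIso _ _ _ _ _ i2) (@asIso _ _ _ _ _ i3) ?_ ?_).symm hn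
  · exact (Groth.Agent.H4.TC5.ι_d_of_concentrated₂ F L K q₀ hK (m - 1) (m + q₀ - 1)
      m (m + q₀) (by omega) (by omega) (by omega))
  · exact (Groth.Agent.H4.TC5.ι_d_of_concentrated₂ F L K q₀ hK m (m + q₀)
      (m + 1) (m + q₀ + 1) (by omega) (by omega) (by omega))

end Conc

section UMono

variable {B : Type*} [Category B] [Abelian B] (Φ : A ⥤ B) [Φ.Additive] [Φ.PreservesEpimorphisms]

/-- if `K` is exact at `k` and `Φ(K)` is exact at `j = k - 1`, then `Φ(Z^k) → Φ(K^k)` is a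
monomorphism. -/
theorem mono_map_iCycles (K : CochainComplex A ℤ) (i j k : ℤ) (_hij : i + 1 = j) (hjk : j + 1 = k)
    (hK : K.ExactAt k) (hΦ : ((K.sc' i j k).map Φ).Exact) : Mono (Φ.map (K.iCycles k)) := by
  haveI : Epi (K.toCycles j k) := by
    have hp : (ComplexShape.up ℤ).prev k = j := by simp; omega
    rw [← hp]
    exact (K.sc k).exact_iff_epi_toCycles.1 hK
  haveI : Epi (Φ.map (K.toCycles j k)) := inferInstance
  apply Preadditive.mono_of_cancel_zero
  intro W x hx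
  obtain ⟨W', π, hπ, y, hy⟩ := surjective_up_to_refinements_of_epi (Φ.map (K.toCycles j k)) x
  have hy0 : y ≫ Φ.map (K.d j k) = 0 := by
    rw [← K.toCycles_i j k, Φ.map_comp, ← assoc, ← hy, assoc, hx, comp_zero]
  obtain ⟨W'', π', hπ', w, hw⟩ := hΦ.exact_up_to_refinements y hy0
  have h0 : Φ.map (K.d i j) ≫ Φ.map (K.toCycles j k) = 0 := by
    rw [← Φ.map_comp, K.d_toCycles, Φ.map_zero]
  obtain ⟨w', rfl⟩ : ∃ w' : W'' ⟶ Φ.obj (K.X i), w' = w := ⟨w, rfl⟩
  have hw' : π' ≫ y = w' ≫ Φ.map (K.d i j) := hw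
  have h1 : (π' ≫ π) ≫ x = 0 := by
    rw [assoc, hy, ← assoc, hw', assoc, h0, comp_zero]
  haveI := hπ
  haveI := hπ'
  exact (cancel_epi (π' ≫ π)).1 (h1.trans comp_zero.symm)

end UMono

section CycSES

/-- the short exact sequence `0 → Z^k → K^k → Z^l → 0` of an exact complex -/
noncomputable def cyclesSC (K : CochainComplex A ℤ) (k l : ℤ) : ShortComplex A :=
  ShortComplex.mk (K.iCycles k) (K.toCycles k l) (by
    rw [← cancel_mono (K.iCycles l), assoc, K.toCycles_i, K.iCycles_d, zero_comp])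

lemma cyclesSC_shortExact (K : CochainComplex A ℤ) (k l : ℤ) (hkl : k + 1 = l)
    (hK : K.ExactAt l) : (cyclesSC K k l).ShortExact := by
  haveI : Epi (K.toCycles k l) := by
    have hp : (ComplexShape.up ℤ).prev l = k := by simp; omega
    rw [← hp]
    exact (K.sc l).exact_iff_epi_toCycles.1 hK
  haveI : Mono (cyclesSC K k l).f := by
    change Mono (K.iCycles k)
    infer_instance
  haveI : Epi (cyclesSC K k l).g := by
    change Epi (K.toCycles k l)
    infer_instance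
  refine ShortComplex.ShortExact.mk (ShortComplex.exact_of_f_is_kernel _ ?_)
  refine KernelFork.IsLimit.ofι _ _
    (fun {W} (x : W ⟶ K.X k) (hx : x ≫ K.toCycles k l = 0) =>
      K.liftCycles x l (by simp; omega) (by
        rw [← K.toCycles_i k l, ← assoc, hx, zero_comp]))
    (fun {W} x hx => K.liftCycles_i _ _ _ _)
    (fun {W} (x : W ⟶ K.X k) hx (m : W ⟶ K.cycles k) (hm : m ≫ K.iCycles k = x) => ?_)
  change m = K.liftCycles x l _ _
  rw [← cancel_mono (K.iCycles k), K.liftCycles_i]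
  exact hm

end CycSES

end Groth.Agent.H4.GK10
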