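import Mathlib
import Groth.Agent.H4.LDS3
import Groth.Agent.H4.GK10
set_option autoImplicit false

/-!
# Left derived functors of `- ⊗ M` for a symmetric bifunctor with K-flat resolutions
-/

namespace Groth.Agent.H4.LDS4

open CategoryTheory Limits Category HomologicalComplex ZeroObject
open Groth.Agent.H4.GK1 Groth.Agent.H4.GK8 Groth.Agent.H4.GK9 Groth.Agent.H4.GK10

universe v u

variable {A : Type u} [Category.{v} A] [Abelian A]
  (F : A ⥤ A ⥤ A) [F.Additive] [∀ X, (F.obj X).Additive]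
  [∀ K L : CochainComplex A ℤ, CochainComplex.HasMapBifunctor K L F]

lemma kflat_of_isZero (Z : CochainComplex A ℤ) (hZ : IsZero Z) : KFlat F Z :=
  kflat_of_contractible F Z (Homotopy.ofEq (hZ.eq_of_src _ _))

lemma kflat_shift (E : CochainComplex A ℤ) (n : ℤ) (hE : KFlat F E) : KFlat F (E⟦n⟧) := by
  intro L hL
  refine Acyc.of_iso (CochainComplex.mapBifunctorShift₂Iso L E F n).symm ?_
  rw [acyc_shift_iff]
  exact hE L hL

lemma adm_kflat : Groth.Agent.H4.LDS3.Adm (KFlat F) where
  zero := ⟨0, isZero_zero _, kflat_of_isZero F 0 (isZero_zero _)⟩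
  shift := fun E n hE => kflat_shift F E n hE
  cone := fun φ hK hL => KFlat.cone φ hK hL

section Sym

variable (e : F ≅ F.flip)
  (hres : ∀ L : CochainComplex A ℤ, ∃ (K : CochainComplex A ℤ) (q : K ⟶ L), KFlat F K ∧ QuasiIso q)

include e hres in
/-- `- ⊗ M` preserves acyclicity of K-flat acyclic complexes -/
theorem acyclic_map_flip_obj (M : A) (E : CochainComplex A ℤ) (hE : KFlat F E) (hac : E.Acyclic) :
    (((F.flip.obj M).mapHomologicalComplex (ComplexShape.up ℤ)).obj E).Acyclic := by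
  let K : CochainComplex A ℤ := (HomologicalComplex.single A (ComplexShape.up ℤ) 0).obj M
  have hK : ∀ q : ℤ, q ≠ 0 → IsZero (K.X q) := fun q hq =>
    HomologicalComplex.isZero_single_obj_X (ComplexShape.up ℤ) 0 M q hq
  have hacE : Acyc E := (acyc_iff_acyclic E).2 hac
  have h : Acyc (CochainComplex.mapBifunctor E K F) :=
    Acyc.of_iso (braid F e K E) (acyc_map_of_kflat_acyc F e hres E hE hacE K)
  intro m
  rw [HomologicalComplex.exactAt_iff' _ (m - 1) m (m + 1) (by simp) (by simp)]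
  have h1 := exact_map_of_acyc_concentrated F E K 0 hK h m
  let iso : K.X 0 ≅ M := HomologicalComplex.singleObjXSelf (ComplexShape.up ℤ) 0 M
  exact ShortComplex.exact_of_iso
    (ShortComplex.mapNatIso (E.sc' (m - 1) m (m + 1)) (F.flip.mapIso iso)) h1

section Derived

variable [HasDerivedCategory A] (Φ : A ⥤ A) [Φ.Additive] (M : A) (eΦ : Φ ≅ F.flip.obj M)

include e hres eΦ in
theorem acyclic_map_of_iso (E : CochainComplex A ℤ) (hE : KFlat F E) (hac : E.Acyclic) :
    ((Φ.mapHomologicalComplex (ComplexShape.up ℤ)).obj E).Acyclic := by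
  have h := acyclic_map_flip_obj F e hres M E hE hac
  rw [← acyc_iff_acyclic] at h ⊢
  exact Acyc.of_iso ((NatIso.mapHomologicalComplex eΦ (ComplexShape.up ℤ)).app E).symm h

include e hres eΦ in
theorem hasPointwiseLeftDerivedFunctor :
    (Groth.Agent.H4.LDS3.Gh Φ).HasPointwiseLeftDerivedFunctor
      (HomotopyCategory.quasiIso A (ComplexShape.up ℤ)) :=
  Groth.Agent.H4.LDS3.hasPointwiseLeftDerivedFunctor Φ (adm_kflat F) hres
    (fun E hE hac => acyclic_map_of_iso F e hres Φ M eΦ E hE hac)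

include e hres eΦ in
theorem hasLeftDerivedFunctor :
    (Groth.Agent.H4.LDS3.Gh Φ).HasLeftDerivedFunctor
      (HomotopyCategory.quasiIso A (ComplexShape.up ℤ)) :=
  Groth.Agent.H4.LDS3.hasLeftDerivedFunctor Φ (adm_kflat F) hres
    (fun E hE hac => acyclic_map_of_iso F e hres Φ M eΦ E hE hac)

include e hres eΦ in
theorem isIso_counit_app {D : Type*} [Category D]
    (L : HomotopyCategory A (ComplexShape.up ℤ) ⥤ D)
    [L.IsLocalization (HomotopyCategory.quasiIso A (ComplexShape.up ℤ))]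
    (LG : D ⥤ DerivedCategory A) (α : L ⋙ LG ⟶ Groth.Agent.H4.LDS3.Gh Φ)
    [LG.IsLeftDerivedFunctor α (HomotopyCategory.quasiIso A (ComplexShape.up ℤ))]
    (E : CochainComplex A ℤ) (hE : KFlat F E) :
    IsIso (α.app ((HomotopyCategory.quotient A (ComplexShape.up ℤ)).obj E)) :=
  Groth.Agent.H4.LDS3.isIso_counit_app Φ (adm_kflat F) hres
    (fun E hE hac => acyclic_map_of_iso F e hres Φ M eΦ E hE hac) L LG α E hE

end Derived

end Sym

end Groth.Agent.H4.LDS4
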