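import Mathlib
import Groth.Prelude.Def_DDual2
import Groth.Prelude.Def_DCoh4
import Groth.Agent.H4.LDS4
import Groth.Agent.H4.LDS5
import Groth.Agent.H4.GKS6
set_option autoImplicit false

/-!
# `DCoh.HasLTensorMod M` holds, and `K ⊗^L M` is computed termwise on K-flat complexes
-/

namespace Groth.Agent.H4.LDS6

open CategoryTheory Limits Category HomologicalComplex AlgebraicGeometry
open Groth.Agent.H4.GK1

universe u

attribute [local instance] HasDerivedCategory.standard

variable {X : Scheme.{u}}

/-- `- ⊗ M` as the flipped tensor bifunctor -/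
noncomputable def tensorRightModIso (M : X.Modules) :
    DCoh.tensorRightMod M ≅ (DCoh.tensorBi (X := X)).flip.obj M := Iso.refl _

/-- symmetry of the tensor bifunctor of `O_X`-modules -/
noncomputable def braidX : DCoh.tensorBi (X := X) ≅ (DCoh.tensorBi (X := X)).flip :=
  Groth.Agent.H4.GKS6.braidBi (O := X.sheaf)

lemma hresX (L : CochainComplex X.Modules ℤ) :
    ∃ (K : CochainComplex X.Modules ℤ) (q : K ⟶ L),
      KFlat (DCoh.tensorBi (X := X)) K ∧ QuasiIso q :=
  Groth.Agent.H4.GKS6.hres (O := X.sheaf) L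

lemma kflat_iff (E : CochainComplex X.Modules ℤ) :
    DCoh.IsKFlat E ↔ KFlat (DCoh.tensorBi (X := X)) E := Iff.rfl

/-- tensoring a K-flat acyclic complex with a module gives an acyclic complex -/
theorem acyclic_tensorRightMod (M : X.Modules) (E : CochainComplex X.Modules ℤ)
    (hE : DCoh.IsKFlat E) (hac : E.Acyclic) :
    (((DCoh.tensorRightMod M).mapHomologicalComplex (ComplexShape.up ℤ)).obj E).Acyclic :=
  Groth.Agent.H4.LDS4.acyclic_map_of_iso (DCoh.tensorBi (X := X)) braidX hresX
    (DCoh.tensorRightMod M) M (tensorRightModIso M) E hE hac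

/-- **The derived tensor product with a module exists.** -/
theorem hasLTensorMod (M : X.Modules) : DCoh.HasLTensorMod M :=
  Groth.Agent.H4.LDS4.hasLeftDerivedFunctor (DCoh.tensorBi (X := X)) braidX hresX
    (DCoh.tensorRightMod M) M (tensorRightModIso M)

/-- the comparison map `K ⊗^L M ⟶ K ⊗ M`, natural in the complex `K` -/
noncomputable def gamMod (M : X.Modules) [DCoh.HasLTensorMod M] :
    DerivedCategory.Q ⋙ DCoh.LTensorMod M ⟶
      (DCoh.tensorRightMod M).mapHomologicalComplex (ComplexShape.up ℤ) ⋙ DerivedCategory.Q :=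
  Groth.Agent.H4.LDS5.gam (DCoh.tensorRightMod M)

/-- the comparison map is an isomorphism on K-flat complexes -/
theorem isIso_gamMod_app (M : X.Modules) [DCoh.HasLTensorMod M] (E : CochainComplex X.Modules ℤ)
    (hE : DCoh.IsKFlat E) : IsIso ((gamMod M).app E) :=
  Groth.Agent.H4.LDS5.isIso_gam_app (DCoh.tensorRightMod M)
    (Groth.Agent.H4.LDS4.adm_kflat (DCoh.tensorBi (X := X))) hresX
    (fun E hE hac => acyclic_tensorRightMod M E hE hac) E hE

/-- `K ⊗^L M ≅ E ⊗ M` when `K` is represented by the K-flat complex `E`. -/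
noncomputable def LTensorModIso (M : X.Modules) [DCoh.HasLTensorMod M]
    (E : CochainComplex X.Modules ℤ) (hE : DCoh.IsKFlat E) {K : DCoh.D X}
    (e : DerivedCategory.Q.obj E ≅ K) :
    (DCoh.LTensorMod M).obj K ≅
      DerivedCategory.Q.obj
        (((DCoh.tensorRightMod M).mapHomologicalComplex (ComplexShape.up ℤ)).obj E) :=
  haveI := isIso_gamMod_app M E hE
  (DCoh.LTensorMod M).mapIso e.symm ≪≫ asIso ((gamMod M).app E)

end Groth.Agent.H4.LDS6
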