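import Mathlib
import Groth.Prelude.Def_DTor2
import Groth.Agent.H4.LDS6
import Groth.Agent.H4.GK4
import Groth.Agent.H4.GKS3
import Groth.Agent.H4.SFlat6
set_option autoImplicit false

/-!
# Tor-amplitude basics on schemes via K-flat representatives
-/

namespace Groth.Agent.H4.LDS7

open CategoryTheory Limits Category HomologicalComplex AlgebraicGeometry
open Groth.Agent.H4.GK1 Groth.Agent.H4.GK4

universe u

attribute [local instance] HasDerivedCategory.standard

variable {X : Scheme.{u}}

lemma flatObj_of_isFlat (M : X.Modules) (hM : FlatMod.IsFlat M) :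
    FlatObj (DCoh.tensorBi (X := X)) M :=
  (Groth.Agent.H4.SFlat6.isFlat_iff_stalkwise M).2 hM

/-- bounded above complexes of flat modules are K-flat -/
theorem isKFlat_of_flat_boundedAbove (E : CochainComplex X.Modules ℤ) (b : ℤ)
    (h2 : ∀ i, b < i → IsZero (E.X i)) (hflat : ∀ i : ℤ, FlatMod.IsFlat (E.X i)) :
    DCoh.IsKFlat E :=
  Groth.Agent.H4.GKS3.S9058 (O := X.sheaf) E b ((CochainComplex.isStrictlyLE_iff E b).2 h2)
    (fun i => (Groth.Agent.H4.SFlat6.isFlat_iff_stalkwise _).2 (hflat i))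

/-- homology of `Q.obj C` vanishes where the term of `C` vanishes -/
lemma isZero_HD_toD_of_isZero_X (C : CochainComplex X.Modules ℤ) (i : ℤ) (h : IsZero (C.X i)) :
    IsZero (DCoh.HD (DCoh.toD X C) i) := by
  refine IsZero.of_iso ?_ ((DerivedCategory.homologyFunctorFactors X.Modules i).app C)
  change IsZero (C.homology i)
  rw [← HomologicalComplex.exactAt_iff_isZero_homology]
  exact ShortComplex.exact_of_isZero_X₂ _ h

/-- the derived tensor product of an object with a flat bounded representative has the expected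
vanishing -/
theorem isZero_HD_LTensorMod (E : CochainComplex X.Modules ℤ) (a b : ℤ)
    (hv : DCoh.VanishesOutside E a b) (hflat : ∀ i : ℤ, FlatMod.IsFlat (E.X i)) {K : DCoh.D X}
    (e : DCoh.toD X E ≅ K) (F : X.Modules) [DCoh.HasLTensorMod F] (i : ℤ) (hi : i < a ∨ b < i) :
    IsZero (DCoh.HD ((DCoh.LTensorMod F).obj K) i) := by
  have hE : DCoh.IsKFlat E := isKFlat_of_flat_boundedAbove E b (fun j hj => hv j (Or.inr hj)) hflat
  refine IsZero.of_iso ?_ ((DerivedCategory.homologyFunctor X.Modules i).mapIso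
    (Groth.Agent.H4.LDS6.LTensorModIso F E hE e))
  apply isZero_HD_toD_of_isZero_X
  exact (DCoh.tensorRightMod F).map_isZero (hv i hi)

theorem hasTorAmplitudeIn_of_hasFlatAmplitudeIn (a b : ℤ) (K : DCoh.D X)
    (h : DCoh.HasFlatAmplitudeIn a b K) : DCoh.HasTorAmplitudeIn a b K := by
  obtain ⟨E, hv, hflat, ⟨e⟩⟩ := h
  intro F _ i hi
  exact isZero_HD_LTensorMod E a b hv hflat e F i hi

/-- tor-amplitude passes to retracts -/
theorem hasTorAmplitudeIn_of_retract (a b : ℤ) {K K' : DCoh.D X} (i : K ⟶ K') (r : K' ⟶ K)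
    (hir : i ≫ r = 𝟙 K) (h : DCoh.HasTorAmplitudeIn a b K') : DCoh.HasTorAmplitudeIn a b K := by
  intro F _ j hj
  have hz := h F j hj
  rw [IsZero.iff_id_eq_zero]
  have h1 : (DerivedCategory.homologyFunctor X.Modules j).map ((DCoh.LTensorMod F).map i) ≫
      (DerivedCategory.homologyFunctor X.Modules j).map ((DCoh.LTensorMod F).map r) = 𝟙 _ := by
    rw [← Functor.map_comp, ← Functor.map_comp, hir, CategoryTheory.Functor.map_id,
      CategoryTheory.Functor.map_id]
  rw [← h1, hz.eq_of_tgt ((DerivedCategory.homologyFunctor X.Modules j).map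
    ((DCoh.LTensorMod F).map i)) 0, zero_comp]

end Groth.Agent.H4.LDS7
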