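import Mathlib
import Groth.Prelude.Def_DerSch
import Groth.Prelude.Def_DCoh4
import Groth.Prelude.Def_DTor2
import Groth.Agent.H4.LDS15
import Groth.Agent.H4.LDS7

set_option autoImplicit false
universe u
open CategoryTheory CategoryTheory.Limits AlgebraicGeometry TopologicalSpace Opposite ZeroObject
attribute [local instance] HasDerivedCategory.standard

namespace Groth.Agent.H4.LDS16

open Groth.Agent.H4.SPt4 Groth.Agent.H4.SPt5 Groth.Agent.H4.SPt6
open Groth.Agent.H4.TC4 Groth.Agent.H4.TC5 Groth.Agent.H4.TC6 Groth.Agent.H4.TC7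
  Groth.Agent.H4.TC11 Groth.Agent.H4.TC13 Groth.Agent.H4.LDS14 Groth.Agent.H4.LDS15

variable {X Y : Scheme.{u}}

/-- `Lf^*` is computed by `f^*` on stalkwise K-flat complexes -/
noncomputable def lpullObjIso (f : X ⟶ Y) [DCoh.HasLpull f] (E : CochainComplex Y.Modules ℤ)
    (hE : SKF E) :
    (DCoh.Lpull f).obj (DCoh.toD Y E) ≅ DCoh.toD X ((pullCx f).obj E) :=
  (@asIso _ _ _ _ ((αL f).app ((HomotopyCategory.quotient _ _).obj E)) (isIso_αL f E hE)) ≪≫
    DerivedCategory.Qh.mapIso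
      (((Scheme.Modules.pullback f).mapHomotopyCategoryFactors (ComplexShape.up ℤ)).app E)

lemma skf_of_boundedAbove_flat (E : CochainComplex Y.Modules ℤ) (m : ℤ)
    (hz : ∀ i, m < i → IsZero (E.X i)) (hfl : ∀ i, FlatMod.IsFlat (E.X i)) : SKF E := by
  intro y
  refine kflat_of_boundedAbove (P := (stalkCx y).obj E) m (fun i hi => ?_) (fun i => ?_)
  · exact (DerSch.stalkFunctor Y y).map_isZero (hz i hi)
  · exact hfl i y

lemma isFlat_pullback (f : X ⟶ Y) (M : Y.Modules) (hM : FlatMod.IsFlat M) :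
    FlatMod.IsFlat ((Scheme.Modules.pullback f).obj M) := by
  intro x
  have h1 := flat_extendScalars (f.stalkMap x).hom ((DerSch.stalkFunctor Y (f.base x)).obj M)
    (hM (f.base x))
  exact (Module.Flat.equiv_iff ((stalkPullbackIso f x).app M).toLinearEquiv).2 h1

theorem hasFlatAmplitudeIn_lpull (f : X ⟶ Y) [DCoh.HasLpull f] (E : DCoh.D Y) (a b : ℤ)
    (hE : DCoh.HasFlatAmplitudeIn a b E) : DCoh.HasFlatAmplitudeIn a b ((DCoh.Lpull f).obj E) := by
  obtain ⟨F, hv, hfl, ⟨e⟩⟩ := hE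
  have hF : SKF F := skf_of_boundedAbove_flat F b (fun i hi => hv i (Or.inr hi)) hfl
  refine ⟨(pullCx f).obj F, fun i hi => (Scheme.Modules.pullback f).map_isZero (hv i hi),
    fun i => isFlat_pullback f _ (hfl i), ⟨(lpullObjIso f F hF).symm ≪≫ (DCoh.Lpull f).mapIso e⟩⟩

theorem S0920 (f : X ⟶ Y) [DCoh.HasLpull f] (E : DCoh.D Y) (a b : ℤ)
    (hE : DCoh.HasFlatAmplitudeIn a b E) : DCoh.HasTorAmplitudeIn a b ((DCoh.Lpull f).obj E) :=
  Groth.Agent.H4.LDS7.hasTorAmplitudeIn_of_hasFlatAmplitudeIn a b _ (hasFlatAmplitudeIn_lpull f E a b hE)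

end Groth.Agent.H4.LDS16
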