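import Mathlib
import Groth.Prelude.Def_DerSch
import Groth.Prelude.Def_DCoh4
import Groth.Prelude.Def_DTor2
import Groth.Agent.H4.LDS16
import Groth.Agent.H4.LDS11
import Groth.Agent.H4.PSch3
import Groth.Agent.H4.FAmp2
import Groth.Agent.Lib.Helper3.SPerf

set_option autoImplicit false
universe u
open CategoryTheory CategoryTheory.Limits AlgebraicGeometry TopologicalSpace Opposite ZeroObject
attribute [local instance] HasDerivedCategory.standard

namespace Groth.Agent.H4.LDS17

open Groth.Agent.H4.SPt4 Groth.Agent.H4.SPt5 Groth.Agent.H4.SPt6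
open Groth.Agent.H4.LDS14 Groth.Agent.H4.LDS15 Groth.Agent.H4.LDS16
open Groth.Agent.H4.PSch1 Groth.Agent.H4.PSch2 Groth.Agent.H4.PSch3 DerivedCategory

variable {X Y U W : Scheme.{u}}

section RD

variable (j : U ⟶ Y) [IsOpenImmersion j]

/-- restriction and pullback agree on homotopy categories -/
noncomputable def restrictPullbackHo :
    (Scheme.Modules.restrictFunctor j).mapHomotopyCategory (ComplexShape.up ℤ) ≅
      (Scheme.Modules.pullback j).mapHomotopyCategory (ComplexShape.up ℤ) where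
  hom := NatTrans.mapHomotopyCategory (Scheme.Modules.restrictFunctorIsoPullback j).hom _
  inv := NatTrans.mapHomotopyCategory (Scheme.Modules.restrictFunctorIsoPullback j).inv _
  hom_inv_id := by
    rw [← NatTrans.mapHomotopyCategory_comp, Iso.hom_inv_id, NatTrans.mapHomotopyCategory_id]
  inv_hom_id := by
    rw [← NatTrans.mapHomotopyCategory_comp, Iso.inv_hom_id, NatTrans.mapHomotopyCategory_id]

/-- derived restriction is a lift of `K(j^*)` -/
noncomputable def rdFac : Qh ⋙ RD j ≅ DCoh.pullKh j :=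
  (Scheme.Modules.restrictFunctor j).mapDerivedCategoryFactorsh ≪≫
    Functor.isoWhiskerRight (restrictPullbackHo j) Qh

instance : (RD j).IsLeftDerivedFunctor (rdFac j).hom
    (HomotopyCategory.quasiIso Y.Modules (ComplexShape.up ℤ)) :=
  Functor.isLeftDerivedFunctor_of_inverts _ _ _

/-- `Lj^*` is derived restriction for an open immersion `j` -/
noncomputable def lpullIsoRD [DCoh.HasLpull j] : DCoh.Lpull j ≅ RD j :=
  Functor.leftDerivedUnique (RD j) (DCoh.Lpull j) (αL j) (rdFac j).hom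
    (HomotopyCategory.quasiIso Y.Modules (ComplexShape.up ℤ))

end RD

section Comp

variable {Z : Scheme.{u}} (f : X ⟶ Y) (g : Y ⟶ Z)
  [DCoh.HasLpull f] [DCoh.HasLpull g] [DCoh.HasLpull (f ≫ g)]

/-- `Lf^* Lg^* ≅ L(gf)^*` -/
noncomputable def lpullComp : DCoh.Lpull g ⋙ DCoh.Lpull f ≅ DCoh.Lpull (f ≫ g) :=
  asIso (γ f g)

end Comp

/-- transport along an equality of morphisms -/
noncomputable def lpullCongr {f g : X ⟶ Y} (h : f = g) [DCoh.HasLpull f] [DCoh.HasLpull g] :
    DCoh.Lpull f ≅ DCoh.Lpull g := by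
  subst h
  exact Iso.refl _

/-- derived pullback commutes with derived restriction to opens -/
noncomputable def lpullRestrictIso (f : X ⟶ Y) (i : W ⟶ X) (j : U ⟶ Y) (f' : W ⟶ U)
    [IsOpenImmersion i] [IsOpenImmersion j] (sq : i ≫ f = f' ≫ j)
    [DCoh.HasLpull f] [DCoh.HasLpull f'] :
    DCoh.Lpull f ⋙ RD i ≅ RD j ⋙ DCoh.Lpull f' :=
  haveI := hasLpull i
  haveI := hasLpull j
  haveI := hasLpull (i ≫ f)
  haveI := hasLpull (f' ≫ j)
  Functor.isoWhiskerLeft _ (lpullIsoRD i).symm ≪≫ lpullComp i f ≪≫ lpullCongr sq ≪≫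
    (lpullComp f' j).symm ≪≫ Functor.isoWhiskerRight (lpullIsoRD j) _

lemma skf_of_isStrictlyPerfect (E : CochainComplex Y.Modules ℤ) (hE : DCoh.IsStrictlyPerfect E) :
    SKF E := by
  obtain ⟨⟨a, b, hab⟩, hfree⟩ := hE
  exact skf_of_boundedAbove_flat E b (fun i hi => hab i (Or.inr hi))
    (fun i => Groth.Agent.H4.FAmp2.isFlat_of_isFinLocFree _ (hfree i))

theorem perfAt_lpull (f : X ⟶ Y) [DCoh.HasLpull f] (K : DCoh.D Y) (x : X)
    (h : PerfAt K (f.base x)) : PerfAt ((DCoh.Lpull f).obj K) x := by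
  obtain ⟨U, j, hj, E, hy, hE, ⟨e⟩⟩ := h
  haveI := hasLpull (pullback.snd f j)
  refine ⟨pullback f j, pullback.fst f j, inferInstance, (pullCx (pullback.snd f j)).obj E, ?_,
    Groth.Agent.H3.SPerf.pullback_perf _ E hE, ⟨?_⟩⟩
  · rw [Scheme.Pullback.range_fst]
    exact hy
  · exact (lpullRestrictIso f (pullback.fst f j) j (pullback.snd f j) pullback.condition).app K ≪≫
      (DCoh.Lpull (pullback.snd f j)).mapIso e ≪≫
      lpullObjIso (pullback.snd f j) E (skf_of_isStrictlyPerfect E hE)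

theorem S0921 (f : X ⟶ Y) [DCoh.HasLpull f] (E : DCoh.D Y)
    (hE : DCoh.IsPerfect E) : DCoh.IsPerfect ((DCoh.Lpull f).obj E) := by
  rw [isPerfect_iff_perfAt] at hE ⊢
  exact fun x => perfAt_lpull f E x (hE (f.base x))

end Groth.Agent.H4.LDS17
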