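import Mathlib
import Groth.Prelude.Def_DerSch
import Groth.Prelude.Def_DCoh4
import Groth.Prelude.Def_DTor2
import Groth.Agent.H4.LDS17
import Groth.Agent.H4.GKS8
import Groth.Agent.H4.PCS1
import Groth.Agent.H4.TilD10

set_option autoImplicit false
universe u
open CategoryTheory CategoryTheory.Limits AlgebraicGeometry TopologicalSpace Opposite ZeroObject
attribute [local instance] HasDerivedCategory.standard

namespace Groth.Agent.H4.LDS18

open Groth.Agent.H4.SPt4 Groth.Agent.H4.SPt5 Groth.Agent.H4.SPt6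
open Groth.Agent.H4.LDS14 Groth.Agent.H4.LDS15 Groth.Agent.H4.LDS16 Groth.Agent.H4.LDS17
open Groth.Agent.H4.PSch1 Groth.Agent.H4.PSch2 Groth.Agent.H4.PSch3 DerivedCategory
open Groth.Agent.H4.TilD9 Groth.Agent.H4.TilD10 Groth.Agent.H4.PCS1 Pretriangulated

variable {X Y U W : Scheme.{u}}

/-- `Lg^*` is right t-exact -/
theorem isLE_lpull (g : X ⟶ Y) [DCoh.HasLpull g] (C : DCoh.D Y) (n : ℤ) [C.IsLE n] :
    ((DCoh.Lpull g).obj C).IsLE n := by
  obtain ⟨K, hK, ⟨e⟩⟩ := C.exists_iso_Q_obj_of_isLE n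
  obtain ⟨P, q, -, hfl, hq, hz⟩ := Groth.Agent.H4.GKS8.exists_bddAbove_resolution_sch K n
    (fun i hi => K.isZero_of_isStrictlyLE n i hi)
  have hP : SKF P := skf_of_boundedAbove_flat P n hz hfl
  haveI : IsIso (Q.map q) := by
    rw [DerivedCategory.isIso_Q_map_iff_quasiIso]; exact hq
  have e' : (DCoh.Lpull g).obj C ≅ Q.obj ((pullCx g).obj P) :=
    (DCoh.Lpull g).mapIso (e ≪≫ (asIso (Q.map q)).symm) ≪≫ lpullObjIso g P hP
  haveI : ((pullCx g).obj P).IsStrictlyLE n := by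
    rw [CochainComplex.isStrictlyLE_iff]
    intro i hi
    exact (Scheme.Modules.pullback g).map_isZero (hz i hi)
  exact TStructure.t.isLE_of_iso e'.symm n

theorem isWitD_lpull_map (g : X ⟶ Y) [DCoh.HasLpull g] {A B : DCoh.D Y} (α : A ⟶ B) (m : ℤ)
    (hα : IsWitD m α) : IsWitD m ((DCoh.Lpull g).map α) := by
  obtain ⟨C, β, δ, hT⟩ := distinguished_cocone_triangle α
  have hC : C.IsLE (m - 1) := (isWitD_iff_isLE _ hT m).1 hα
  obtain ⟨T', hT', e₁, e₂, e₃, c₁, -⟩ := Groth.Agent.H4.LDS11.exists_distTriang_LG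
    (Scheme.Modules.pullback g) adm_skf hasResCx_skf
    (fun E hE hac => acyclic_pullback g E hE hac) _ hT
  have e₁' : T'.obj₁ ≅ (DCoh.Lpull g).obj A := e₁
  have e₂' : T'.obj₂ ≅ (DCoh.Lpull g).obj B := e₂
  have e₃' : T'.obj₃ ≅ (DCoh.Lpull g).obj C := e₃
  have c₁' : T'.mor₁ ≫ (show T'.obj₂ ≅ (DCoh.Lpull g).obj B from e₂).hom =
    (show T'.obj₁ ≅ (DCoh.Lpull g).obj A from e₁).hom ≫ (DCoh.Lpull g).map α := c₁
  have h3 : T'.obj₃.IsLE (m - 1) := by
    haveI := isLE_lpull g C (m - 1)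
    exact TStructure.t.isLE_of_iso e₃'.symm (m - 1)
  have h1 : IsWitD m T'.mor₁ := (isWitD_iff_isLE _ hT' m).2 h3
  have h2 : (DCoh.Lpull g).map α =
      (show T'.obj₁ ≅ (DCoh.Lpull g).obj A from e₁).inv ≫ T'.mor₁ ≫
        (show T'.obj₂ ≅ (DCoh.Lpull g).obj B from e₂).hom := by
    rw [Iso.eq_inv_comp]
    exact c₁'.symm
  rw [h2]
  exact (IsWitD.of_isIso _).comp (h1.comp (IsWitD.of_isIso _))

theorem pcAt_lpull (f : X ⟶ Y) [DCoh.HasLpull f] (m : ℤ) (K : DCoh.D Y) (x : X)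
    (h : PCAt m K (f.base x)) : PCAt m ((DCoh.Lpull f).obj K) x := by
  obtain ⟨U, j, hj, E, α, hy, hE, hα⟩ := h
  haveI := hasLpull (pullback.snd f j)
  refine ⟨pullback f j, pullback.fst f j, inferInstance, (pullCx (pullback.snd f j)).obj E,
    (lpullObjIso (pullback.snd f j) E (skf_of_isStrictlyPerfect E hE)).inv ≫
      (DCoh.Lpull (pullback.snd f j)).map α ≫
      (lpullRestrictIso f (pullback.fst f j) j (pullback.snd f j) pullback.condition).inv.app K,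
    ?_, Groth.Agent.H3.SPerf.pullback_perf _ E hE, ?_⟩
  · rw [Scheme.Pullback.range_fst]
    exact hy
  · exact (IsWitD.of_isIso _).comp ((isWitD_lpull_map _ α m hα).comp (IsWitD.of_isIso _))

theorem S0910 (f : X ⟶ Y) [DCoh.HasLpull f] (m : ℤ) (E : DCoh.D Y)
    (hE : DCoh.IsPseudoCoherentD m E) : DCoh.IsPseudoCoherentD m ((DCoh.Lpull f).obj E) := by
  rw [isPseudoCoherentD_iff_pcAt] at hE ⊢
  exact fun x => pcAt_lpull f m E x (hE (f.base x))

end Groth.Agent.H4.LDS18
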