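import Mathlib
import Groth.Prelude.Def_DerSch
import Groth.Agent.H4.SPt4

set_option autoImplicit false
universe u
open CategoryTheory CategoryTheory.Limits AlgebraicGeometry TopologicalSpace Opposite TensorProduct

/-!
# Bilinear families and maps out of the tensor product of stalks
-/

namespace Groth.Agent.H4.SPt7

open Groth.Agent.H4.SPt4

variable {X : Scheme.{u}} (x : X) (M N : X.Modules)

/-- restriction of sections -/
noncomputable def rs (P : X.Modules) {U V : X.Opens} (h : V ≤ U) (m : Γ(P, U)) : Γ(P, V) :=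
  P.presheaf.map (homOfLE h).op m

lemma rs_rs (P : X.Modules) {U V W : X.Opens} (h : V ≤ U) (h' : W ≤ V) (m : Γ(P, U)) :
    rs P h' (rs P h m) = rs P (h'.trans h) m := by
  unfold rs
  rw [← ConcreteCategory.comp_apply, ← Functor.map_comp]
  rfl

lemma germ_rs (P : X.Modules) {U V : X.Opens} (h : V ≤ U) (hx : x ∈ V) (m : Γ(P, U)) :
    P.presheaf.germ V x hx (rs P h m) = P.presheaf.germ U x (h hx) m :=
  TopCat.Presheaf.germ_res_apply P.presheaf (homOfLE h) x hx m

lemma rs_of_map (P : X.Modules) {U V : X.Opens} (i : V ⟶ U) (m : Γ(P, U)) :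
    P.presheaf.map i.op m = rs P i.le m := rfl

lemma rs_add (P : X.Modules) {U V : X.Opens} (h : V ≤ U) (m m' : Γ(P, U)) :
    rs P h (m + m') = rs P h m + rs P h m' := map_add (P.presheaf.map (homOfLE h).op).hom m m'

/-- restriction of functions -/
noncomputable def rr {U V : X.Opens} (h : V ≤ U) (a : Γ(X, U)) : Γ(X, V) :=
  X.presheaf.map (homOfLE h).op a

lemma germ_rr {U V : X.Opens} (h : V ≤ U) (hx : x ∈ V) (a : Γ(X, U)) :
    X.presheaf.germ V x hx (rr h a) = X.presheaf.germ U x (h hx) a :=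
  TopCat.Presheaf.germ_res_apply X.presheaf (homOfLE h) x hx a

lemma rs_smul (P : X.Modules) {U V : X.Opens} (h : V ≤ U) (a : Γ(X, U)) (m : Γ(P, U)) :
    rs P h (a • m) = rr h a • rs P h m :=
  P.val.map_smul (homOfLE h).op a m

/-- a compatible family of bilinear maps on sections over neighbourhoods of `x` -/
structure BilFam (Q : Type u) [AddCommGroup Q] [Module (X.presheaf.stalk x) Q] where
  φ : ∀ (U : X.Opens), x ∈ U → Γ(M, U) → Γ(N, U) → Q
  add_left : ∀ U hx m m' n, φ U hx (m + m') n = φ U hx m n + φ U hx m' n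
  add_right : ∀ U hx m n n', φ U hx m (n + n') = φ U hx m n + φ U hx m n'
  smul_left : ∀ U hx (r : Γ(X, U)) m n,
    φ U hx (r • m) n = X.presheaf.germ U x hx r • φ U hx m n
  smul_right : ∀ U hx (r : Γ(X, U)) m n,
    φ U hx m (r • n) = X.presheaf.germ U x hx r • φ U hx m n
  res : ∀ (U V : X.Opens) (h : V ≤ U) (hx : x ∈ V) m n,
    φ V hx (rs M h m) (rs N h n) = φ U (h hx) m n

namespace BilFam

variable {x M N} {Q : Type u} [AddCommGroup Q] [Module (X.presheaf.stalk x) Q]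
  (F : BilFam x M N Q)

/-- the induced map on pairs of germs -/
noncomputable def β (a : M.presheaf.stalk x) (b : N.presheaf.stalk x) : Q :=
  let ha := TopCat.Presheaf.exists_germ_eq M.presheaf a
  let hb := TopCat.Presheaf.exists_germ_eq N.presheaf b
  F.φ (ha.choose ⊓ hb.choose) ⟨ha.choose_spec.choose, hb.choose_spec.choose⟩
    (rs M inf_le_left ha.choose_spec.choose_spec.choose)
    (rs N inf_le_right hb.choose_spec.choose_spec.choose)

lemma β_germ (U : X.Opens) (hx : x ∈ U) (m : Γ(M, U)) (n : Γ(N, U)) :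
    F.β (M.presheaf.germ U x hx m) (N.presheaf.germ U x hx n) = F.φ U hx m n := by
  unfold β
  set ha := TopCat.Presheaf.exists_germ_eq M.presheaf (M.presheaf.germ U x hx m)
  set hb := TopCat.Presheaf.exists_germ_eq N.presheaf (N.presheaf.germ U x hx n)
  obtain ⟨W₁, hW₁, i₁, j₁, e₁⟩ := TopCat.Presheaf.germ_eq M.presheaf x _ hx _ m
    ha.choose_spec.choose_spec.choose_spec
  obtain ⟨W₂, hW₂, i₂, j₂, e₂⟩ := TopCat.Presheaf.germ_eq N.presheaf x _ hx _ n
    hb.choose_spec.choose_spec.choose_spec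
  rw [rs_of_map, rs_of_map] at e₁ e₂
  have hW : x ∈ W₁ ⊓ W₂ := ⟨hW₁, hW₂⟩
  have hle : W₁ ⊓ W₂ ≤ ha.choose ⊓ hb.choose := inf_le_inf i₁.le i₂.le
  have hleU : W₁ ⊓ W₂ ≤ U := inf_le_left.trans j₁.le
  rw [← F.res _ _ hle hW, ← F.res U _ hleU hW, rs_rs, rs_rs]
  congr 1
  · have := congrArg (rs M (inf_le_left : W₁ ⊓ W₂ ≤ W₁)) e₁
    rw [rs_rs, rs_rs] at this
    exact this
  · have := congrArg (rs N (inf_le_right : W₁ ⊓ W₂ ≤ W₂)) e₂
    rw [rs_rs, rs_rs] at this
    exact this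


lemma exists_common (a : M.presheaf.stalk x) (b : N.presheaf.stalk x) :
    ∃ (U : X.Opens) (hx : x ∈ U) (m : Γ(M, U)) (n : Γ(N, U)),
      M.presheaf.germ U x hx m = a ∧ N.presheaf.germ U x hx n = b := by
  obtain ⟨U₁, h₁, m, rfl⟩ := TopCat.Presheaf.exists_germ_eq M.presheaf a
  obtain ⟨U₂, h₂, n, rfl⟩ := TopCat.Presheaf.exists_germ_eq N.presheaf b
  exact ⟨U₁ ⊓ U₂, ⟨h₁, h₂⟩, rs M inf_le_left m, rs N inf_le_right n, germ_rs x M _ _ m,
    germ_rs x N _ _ n⟩

lemma exists_common_ll (a a' : M.presheaf.stalk x) (b : N.presheaf.stalk x) :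
    ∃ (U : X.Opens) (hx : x ∈ U) (m m' : Γ(M, U)) (n : Γ(N, U)),
      M.presheaf.germ U x hx m = a ∧ M.presheaf.germ U x hx m' = a' ∧
        N.presheaf.germ U x hx n = b := by
  obtain ⟨U₁, h₁, m, n, rfl, rfl⟩ := exists_common (x := x) a b
  obtain ⟨U₂, h₂, m', rfl⟩ := TopCat.Presheaf.exists_germ_eq M.presheaf a'
  exact ⟨U₁ ⊓ U₂, ⟨h₁, h₂⟩, rs M inf_le_left m, rs M inf_le_right m', rs N inf_le_left n,
    germ_rs x M _ _ m, germ_rs x M _ _ m', germ_rs x N _ _ n⟩

lemma exists_common_rr (a : M.presheaf.stalk x) (b b' : N.presheaf.stalk x) :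
    ∃ (U : X.Opens) (hx : x ∈ U) (m : Γ(M, U)) (n n' : Γ(N, U)),
      M.presheaf.germ U x hx m = a ∧ N.presheaf.germ U x hx n = b ∧
        N.presheaf.germ U x hx n' = b' := by
  obtain ⟨U₁, h₁, m, n, rfl, rfl⟩ := exists_common (x := x) a b
  obtain ⟨U₂, h₂, n', rfl⟩ := TopCat.Presheaf.exists_germ_eq N.presheaf b'
  exact ⟨U₁ ⊓ U₂, ⟨h₁, h₂⟩, rs M inf_le_left m, rs N inf_le_left n, rs N inf_le_right n',
    germ_rs x M _ _ m, germ_rs x N _ _ n, germ_rs x N _ _ n'⟩

lemma exists_common_s (r : X.presheaf.stalk x) (a : M.presheaf.stalk x) (b : N.presheaf.stalk x) :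
    ∃ (U : X.Opens) (hx : x ∈ U) (ρ : Γ(X, U)) (m : Γ(M, U)) (n : Γ(N, U)),
      X.presheaf.germ U x hx ρ = r ∧ M.presheaf.germ U x hx m = a ∧
        N.presheaf.germ U x hx n = b := by
  obtain ⟨U₁, h₁, m, n, rfl, rfl⟩ := exists_common (x := x) a b
  obtain ⟨U₂, h₂, ρ, rfl⟩ := TopCat.Presheaf.exists_germ_eq X.presheaf r
  exact ⟨U₁ ⊓ U₂, ⟨h₁, h₂⟩, rr inf_le_right ρ, rs M inf_le_left m, rs N inf_le_left n,
    germ_rr x _ _ ρ, germ_rs x M _ _ m, germ_rs x N _ _ n⟩

lemma β_add_left (a a' : M.presheaf.stalk x) (b : N.presheaf.stalk x) :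
    F.β (a + a') b = F.β a b + F.β a' b := by
  obtain ⟨U, hx, m, m', n, rfl, rfl, rfl⟩ := exists_common_ll (x := x) a a' b
  have e : M.presheaf.germ U x hx m + M.presheaf.germ U x hx m' = M.presheaf.germ U x hx (m + m') :=
    (map_add (M.presheaf.germ U x hx).hom m m').symm
  rw [e, β_germ, β_germ, β_germ, F.add_left]

lemma β_add_right (a : M.presheaf.stalk x) (b b' : N.presheaf.stalk x) :
    F.β a (b + b') = F.β a b + F.β a b' := by
  obtain ⟨U, hx, m, n, n', rfl, rfl, rfl⟩ := exists_common_rr (x := x) a b b'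
  have e : N.presheaf.germ U x hx n + N.presheaf.germ U x hx n' = N.presheaf.germ U x hx (n + n') :=
    (map_add (N.presheaf.germ U x hx).hom n n').symm
  rw [e, β_germ, β_germ, β_germ, F.add_right]

lemma β_smul_left (r : X.presheaf.stalk x) (a : M.presheaf.stalk x) (b : N.presheaf.stalk x) :
    F.β (r • a) b = r • F.β a b := by
  obtain ⟨U, hx, ρ, m, n, rfl, rfl, rfl⟩ := exists_common_s (x := x) r a b
  rw [← germ_smul' x M U hx ρ m, β_germ, β_germ, F.smul_left]

lemma β_smul_right (r : X.presheaf.stalk x) (a : M.presheaf.stalk x) (b : N.presheaf.stalk x) :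
    F.β a (r • b) = r • F.β a b := by
  obtain ⟨U, hx, ρ, m, n, rfl, rfl, rfl⟩ := exists_common_s (x := x) r a b
  rw [← germ_smul' x N U hx ρ n, β_germ, β_germ, F.smul_right]

/-- the induced linear map out of the tensor product of the stalks -/
noncomputable def lift :
    (M.presheaf.stalk x) ⊗[X.presheaf.stalk x] (N.presheaf.stalk x) →ₗ[X.presheaf.stalk x] Q :=
  TensorProduct.lift (LinearMap.mk₂ (X.presheaf.stalk x) F.β F.β_add_left F.β_smul_left
    F.β_add_right F.β_smul_right)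

lemma lift_germ_tmul (U : X.Opens) (hx : x ∈ U) (m : Γ(M, U)) (n : Γ(N, U)) :
    F.lift (M.presheaf.germ U x hx m ⊗ₜ N.presheaf.germ U x hx n) = F.φ U hx m n := by
  unfold lift
  rw [TensorProduct.lift.tmul]
  exact F.β_germ U hx m n

end BilFam

/-- linear maps out of the tensor product of stalks are determined by germs of pure tensors -/
lemma stalkTensor_ext {Q : Type u} [AddCommGroup Q] [Module (X.presheaf.stalk x) Q]
    (f g : (M.presheaf.stalk x) ⊗[X.presheaf.stalk x] (N.presheaf.stalk x) →ₗ[X.presheaf.stalk x] Q)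
    (h : ∀ (U : X.Opens) (hx : x ∈ U) (m : Γ(M, U)) (n : Γ(N, U)),
      f (M.presheaf.germ U x hx m ⊗ₜ N.presheaf.germ U x hx n) =
        g (M.presheaf.germ U x hx m ⊗ₜ N.presheaf.germ U x hx n)) : f = g := by
  apply TensorProduct.ext'
  intro a b
  obtain ⟨U, hx, m, n, rfl, rfl⟩ := BilFam.exists_common (x := x) a b
  exact h U hx m n

end Groth.Agent.H4.SPt7
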