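import Mathlib
import Groth.Prelude.Def_DerSch
import Groth.Prelude.Def_DCoh4
import Groth.Agent.H4.SPt7
import Groth.Agent.Lib.Lead.MS.TensorColim

set_option autoImplicit false
universe u
open CategoryTheory CategoryTheory.Limits AlgebraicGeometry TopologicalSpace Opposite TensorProduct
  MonoidalCategory

namespace Groth.Agent.H4.SPt8

open Groth.Agent.H4.SPt4 Groth.Agent.H4.SPt7 Groth.Agent.LD.MS

variable {X : Scheme.{u}} (x : X) (M N : X.Modules)

/-- skyscraper as a presheaf of modules -/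
noncomputable abbrev G : ModuleCat.{u} (X.presheaf.stalk x) ⥤ CohB1.PMod X :=
  skyFunctor x ⋙ incl X.sheaf

/-- the tensor product of the stalks -/
noncomputable abbrev B : ModuleCat.{u} (X.presheaf.stalk x) :=
  (DerSch.stalkFunctor X x).obj M ⊗ (DerSch.stalkFunctor X x).obj N

/-- sections of the skyscraper presheaf as functions -/
def gSec {Q : ModuleCat.{u} (X.presheaf.stalk x)} {U : (Opens X)ᵒᵖ}
    (s : ((G x).obj Q).obj U) : PLift (x ∈ U.unop) → Q := s

/-- functions as sections of the skyscraper presheaf -/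
def gMk {Q : ModuleCat.{u} (X.presheaf.stalk x)} {U : (Opens X)ᵒᵖ}
    (s : PLift (x ∈ U.unop) → Q) : ((G x).obj Q).obj U := s

lemma gSec_smul {Q : ModuleCat.{u} (X.presheaf.stalk x)} {U : (Opens X)ᵒᵖ}
    (r : X.presheaf.obj U) (s : ((G x).obj Q).obj U) (h : PLift (x ∈ U.unop)) :
    gSec x (r • s) h = (X.presheaf.germ U.unop x h.down).hom r • gSec x s h := rfl

lemma gSec_add {Q : ModuleCat.{u} (X.presheaf.stalk x)} {U : (Opens X)ᵒᵖ}
    (s t : ((G x).obj Q).obj U) (h : PLift (x ∈ U.unop)) :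
    gSec x (s + t) h = gSec x s h + gSec x t h := rfl

lemma gSec_map {Q : ModuleCat.{u} (X.presheaf.stalk x)} {U V : (Opens X)ᵒᵖ} (i : U ⟶ V)
    (s : ((G x).obj Q).obj U) (h : PLift (x ∈ V.unop)) :
    gSec x (((G x).obj Q).map i s) h = gSec x s ⟨i.unop.le h.down⟩ := rfl

lemma gSec_Gmap {Q Q' : ModuleCat.{u} (X.presheaf.stalk x)} (g : Q ⟶ Q') {U : (Opens X)ᵒᵖ}
    (s : ((G x).obj Q).obj U) (h : PLift (x ∈ U.unop)) :
    gSec x (((G x).map g).app U s) h = g.hom (gSec x s h) := rfl

lemma gSec_ext {Q : ModuleCat.{u} (X.presheaf.stalk x)} {U : (Opens X)ᵒᵖ}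
    (s t : ((G x).obj Q).obj U) (h : ∀ h, gSec x s h = gSec x t h) : s = t := funext h


/-- germ as an element of the stalk module -/
noncomputable def gm (P : X.Modules) (U : X.Opens) (hx : x ∈ U) (m : Γ(P, U)) :
    (DerSch.stalkFunctor X x).obj P := P.presheaf.germ U x hx m

lemma gm_add (P : X.Modules) (U : X.Opens) (hx : x ∈ U) (m m' : Γ(P, U)) :
    gm x P U hx (m + m') = gm x P U hx m + gm x P U hx m' :=
  map_add (P.presheaf.germ U x hx).hom m m'

lemma gm_smul (P : X.Modules) (U : X.Opens) (hx : x ∈ U) (a : Γ(X, U)) (m : Γ(P, U)) :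
    gm x P U hx (a • m) = (X.presheaf.germ U x hx).hom a • gm x P U hx m :=
  germ_smul' x P U hx a m

lemma gm_rs (P : X.Modules) {U V : X.Opens} (h : V ≤ U) (hx : x ∈ V) (m : Γ(P, U)) :
    gm x P V hx (rs P h m) = gm x P U (h hx) m := germ_rs x P h hx m

lemma gm_map (P : X.Modules) {U V : (Opens X)ᵒᵖ} (i : U ⟶ V) (hx : x ∈ V.unop) (m : P.val.obj U) :
    gm x P V.unop hx (P.val.map i m) = gm x P U.unop (i.unop.le hx) m :=
  TopCat.Presheaf.germ_res_apply P.presheaf i.unop x hx m

lemma exists_gm (P : X.Modules) (a : (DerSch.stalkFunctor X x).obj P) :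
    ∃ (U : X.Opens) (hx : x ∈ U) (m : Γ(P, U)), gm x P U hx m = a :=
  TopCat.Presheaf.exists_germ_eq P.presheaf a

/-- the linear map out of `M_x ⊗ N_x` induced by a bilinear family -/
noncomputable def liftB {Q : ModuleCat.{u} (X.presheaf.stalk x)} (F : BilFam x M N Q) :
    B x M N ⟶ Q := ModuleCat.ofHom F.lift

lemma liftB_tmul {Q : ModuleCat.{u} (X.presheaf.stalk x)} (F : BilFam x M N Q)
    (U : X.Opens) (hx : x ∈ U) (m : Γ(M, U)) (n : Γ(N, U)) :
    (liftB x M N F).hom (gm x M U hx m ⊗ₜ gm x N U hx n) = F.φ U hx m n :=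
  F.lift_germ_tmul U hx m n

lemma B_hom_ext {Q : ModuleCat.{u} (X.presheaf.stalk x)} (f g : B x M N ⟶ Q)
    (h : ∀ (U : X.Opens) (hx : x ∈ U) (m : Γ(M, U)) (n : Γ(N, U)),
      f.hom (gm x M U hx m ⊗ₜ gm x N U hx n) = g.hom (gm x M U hx m ⊗ₜ gm x N U hx n)) : f = g := by
  apply ModuleCat.hom_ext
  exact stalkTensor_ext x M N f.hom g.hom h


/-- the value of the canonical bilinear family -/
noncomputable def pmFun (U : (Opens X)ᵒᵖ) (m : M.val.obj U) (n : N.val.obj U) :
    ((G x).obj (B x M N)).obj U :=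
  gMk x (fun h => gm x M U.unop h.down m ⊗ₜ gm x N U.unop h.down n)

lemma gSec_pmFun (U : (Opens X)ᵒᵖ) (m : M.val.obj U) (n : N.val.obj U) (h : PLift (x ∈ U.unop)) :
    gSec x (pmFun x M N U m n) h = gm x M U.unop h.down m ⊗ₜ gm x N U.unop h.down n := rfl

/-- the canonical map of presheaves of modules `M ⊗ N ⟶ sky (M_x ⊗ N_x)` -/
noncomputable def pm₀ : (M.val ⊗ N.val : CohB1.PMod X) ⟶ (G x).obj (B x M N) where
  app U := ModuleCat.MonoidalCategory.tensorLift (pmFun x M N U)
    (fun m m' n => by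
      apply gSec_ext
      intro h
      refine Eq.trans ?_ (gSec_add x _ _ h).symm
      refine (gSec_pmFun x M N U (m + m') n h).trans ?_
      refine (congrArg (fun z => z ⊗ₜ gm x N U.unop h.down n) (gm_add x M U.unop h.down m m')).trans ?_
      exact TensorProduct.add_tmul _ _ _)
    (fun a m n => by
      apply gSec_ext
      intro h
      refine Eq.trans ?_ (gSec_smul x a _ h).symm
      refine (gSec_pmFun x M N U (a • m) n h).trans ?_
      refine (congrArg (fun z => z ⊗ₜ gm x N U.unop h.down n) (gm_smul x M U.unop h.down a m)).trans ?_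
      exact (TensorProduct.smul_tmul' _ _ _).symm)
    (fun m n n' => by
      apply gSec_ext
      intro h
      refine Eq.trans ?_ (gSec_add x _ _ h).symm
      refine (gSec_pmFun x M N U m (n + n') h).trans ?_
      refine (congrArg (fun z => gm x M U.unop h.down m ⊗ₜ z) (gm_add x N U.unop h.down n n')).trans ?_
      exact TensorProduct.tmul_add _ _ _)
    (fun a m n => by
      apply gSec_ext
      intro h
      refine Eq.trans ?_ (gSec_smul x a _ h).symm
      refine (gSec_pmFun x M N U m (a • n) h).trans ?_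
      refine (congrArg (fun z => gm x M U.unop h.down m ⊗ₜ z) (gm_smul x N U.unop h.down a n)).trans ?_
      exact TensorProduct.tmul_smul _ _ _)
  naturality {U V} i := by
    apply ModuleCat.MonoidalCategory.tensor_ext
    intro m n
    apply gSec_ext
    intro h
    show gm x M V.unop h.down (M.val.map i m) ⊗ₜ gm x N V.unop h.down (N.val.map i n) =
      gm x M U.unop (i.unop.le h.down) m ⊗ₜ gm x N U.unop (i.unop.le h.down) n
    exact congrArg₂ (fun a b => a ⊗ₜ b) (gm_map x M i h.down m) (gm_map x N i h.down n)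


/-- pure tensors of sections -/
noncomputable def tm (U : (Opens X)ᵒᵖ) (m : (CohB1.toPMod M).obj U) (n : (CohB1.toPMod N).obj U) :
    ((CohB1.toPMod M ⊗ CohB1.toPMod N : CohB1.PMod X).obj U) := m ⊗ₜ n

lemma tm_add_left (U : (Opens X)ᵒᵖ) (m m' : (CohB1.toPMod M).obj U) (n : (CohB1.toPMod N).obj U) :
    tm M N U (m + m') n = tm M N U m n + tm M N U m' n := TensorProduct.add_tmul _ _ _

lemma tm_add_right (U : (Opens X)ᵒᵖ) (m : (CohB1.toPMod M).obj U) (n n' : (CohB1.toPMod N).obj U) :
    tm M N U m (n + n') = tm M N U m n + tm M N U m n' := TensorProduct.tmul_add _ _ _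

lemma tm_smul_left (U : (Opens X)ᵒᵖ) (a : ((X.sheaf.obj ⋙ forget₂ CommRingCat RingCat).obj U))
    (m : (CohB1.toPMod M).obj U) (n : (CohB1.toPMod N).obj U) :
    tm M N U (a • m) n = a • tm M N U m n := (TensorProduct.smul_tmul' _ _ _).symm

lemma tm_smul_right (U : (Opens X)ᵒᵖ) (a : ((X.sheaf.obj ⋙ forget₂ CommRingCat RingCat).obj U))
    (m : (CohB1.toPMod M).obj U) (n : (CohB1.toPMod N).obj U) :
    tm M N U m (a • n) = a • tm M N U m n := TensorProduct.tmul_smul _ _ _

lemma tm_map {U V : (Opens X)ᵒᵖ} (i : U ⟶ V) (m : M.val.obj U) (n : N.val.obj U) :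
    (M.val ⊗ N.val : CohB1.PMod X).map i (tm M N U m n) = tm M N V (M.val.map i m) (N.val.map i n) :=
  rfl

lemma pm₀_tm (U : (Opens X)ᵒᵖ) (m : M.val.obj U) (n : N.val.obj U) (h : PLift (x ∈ U.unop)) :
    gSec x ((pm₀ x M N).app U (tm M N U m n)) h =
      gm x M U.unop h.down m ⊗ₜ gm x N U.unop h.down n := rfl

lemma pmod_hom_ext {P : CohB1.PMod X} (f g : (M.val ⊗ N.val : CohB1.PMod X) ⟶ P)
    (h : ∀ U m n, f.app U (tm M N U m n) = g.app U (tm M N U m n)) : f = g := by
  apply PresheafOfModules.hom_ext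
  intro U
  apply ModuleCat.MonoidalCategory.tensor_ext
  intro m n
  exact h U m n

variable (Q : ModuleCat.{u} (X.presheaf.stalk x))

/-- the comparison of hom sets -/
noncomputable def Ψ (ψ : B x M N ⟶ Q) : (M.val ⊗ N.val : CohB1.PMod X) ⟶ (G x).obj Q :=
  pm₀ x M N ≫ (G x).map ψ

lemma gSec_Ψ (ψ : B x M N ⟶ Q) (U : (Opens X)ᵒᵖ) (m : M.val.obj U) (n : N.val.obj U)
    (h : PLift (x ∈ U.unop)) :
    gSec x ((Ψ x M N Q ψ).app U (tm M N U m n)) h =
      ψ.hom (gm x M U.unop h.down m ⊗ₜ gm x N U.unop h.down n) := rfl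

lemma Ψ_injective : Function.Injective (Ψ x M N Q) := by
  intro ψ ψ' heq
  apply B_hom_ext
  intro U hx m n
  have := congrArg (fun f => gSec x (f.app (op U) (tm M N (op U) m n)) ⟨hx⟩) heq
  exact this


variable {x M N Q} in
/-- the bilinear family of a morphism to the skyscraper presheaf -/
noncomputable def famOf (φ : (M.val ⊗ N.val : CohB1.PMod X) ⟶ (G x).obj Q) : BilFam x M N Q where
  φ U hx m n := gSec x (φ.app (op U) (tm M N (op U) m n)) ⟨hx⟩
  add_left U hx m m' n := by
    have h1 := congrArg (φ.app (op U)) (tm_add_left M N (op U) m m' n)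
    have h2 := map_add (φ.app (op U)).hom (tm M N (op U) m n) (tm M N (op U) m' n)
    exact (congrArg (fun s => gSec x s ⟨hx⟩) (h1.trans h2)).trans (gSec_add x _ _ _)
  add_right U hx m n n' := by
    have h1 := congrArg (φ.app (op U)) (tm_add_right M N (op U) m n n')
    have h2 := map_add (φ.app (op U)).hom (tm M N (op U) m n) (tm M N (op U) m n')
    exact (congrArg (fun s => gSec x s ⟨hx⟩) (h1.trans h2)).trans (gSec_add x _ _ _)
  smul_left U hx r m n := by
    have h1 := congrArg (φ.app (op U)) (tm_smul_left M N (op U) r m n)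
    have h2 := map_smul (φ.app (op U)).hom r (tm M N (op U) m n)
    exact (congrArg (fun s => gSec x s ⟨hx⟩) (h1.trans h2)).trans (gSec_smul x r _ _)
  smul_right U hx r m n := by
    have h1 := congrArg (φ.app (op U)) (tm_smul_right M N (op U) r m n)
    have h2 := map_smul (φ.app (op U)).hom r (tm M N (op U) m n)
    exact (congrArg (fun s => gSec x s ⟨hx⟩) (h1.trans h2)).trans (gSec_smul x r _ _)
  res U V h hx m n := by
    have h1 := PresheafOfModules.naturality_apply φ (homOfLE h).op (tm M N (op U) m n)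
    exact (congrArg (fun s => gSec x s ⟨hx⟩) h1).trans (gSec_map x (homOfLE h).op _ ⟨hx⟩)

lemma Ψ_surjective : Function.Surjective (Ψ x M N Q) := by
  intro φ
  refine ⟨liftB x M N (famOf φ), ?_⟩
  apply pmod_hom_ext
  intro U m n
  apply gSec_ext
  intro h
  rw [gSec_Ψ]
  exact liftB_tmul x M N (famOf φ) U.unop h.down m n

lemma Ψ_bijective : Function.Bijective (Ψ x M N Q) := ⟨Ψ_injective x M N Q, Ψ_surjective x M N Q⟩


/-- the composite adjunction -/
noncomputable def adjS : ModSite.sheafify X.sheaf ⋙ DerSch.stalkFunctor X x ⊣ G x :=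
  (sadj X.sheaf).comp (stalkSkyAdj x)

/-- the comparison map `(M ⊗ N)_x ⟶ M_x ⊗ N_x` -/
noncomputable def τ :
    (ModSite.sheafify X.sheaf ⋙ DerSch.stalkFunctor X x).obj (M.val ⊗ N.val : CohB1.PMod X) ⟶
      B x M N :=
  ((adjS x).homEquiv _ _).symm (pm₀ x M N)

lemma τ_comp (ψ : B x M N ⟶ Q) :
    (adjS x).homEquiv _ _ (τ x M N ≫ ψ) = Ψ x M N Q ψ := by
  rw [Adjunction.homEquiv_naturality_right]
  unfold τ Ψ
  rw [Equiv.apply_symm_apply]
  rfl

instance isIso_τ : IsIso (τ x M N) := by
  apply isIso_of_coyoneda_map_bijective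
  intro Q
  have : (fun ψ : B x M N ⟶ Q => τ x M N ≫ ψ) =
      ((adjS x).homEquiv _ _).symm ∘ Ψ x M N Q := by
    funext ψ
    rw [Function.comp, ← τ_comp, Equiv.symm_apply_apply]
  rw [this]
  exact (Equiv.bijective _).comp (Ψ_bijective x M N Q)


variable {M N} in
lemma τ_natural {M' N' : X.Modules} (f : M ⟶ M') (g : N ⟶ N') :
    (ModSite.sheafify X.sheaf ⋙ DerSch.stalkFunctor X x).map
        (MonoidalCategoryStruct.tensorHom (C := CohB1.PMod X) f.val g.val) ≫ τ x M' N' =
      τ x M N ≫ MonoidalCategoryStruct.tensorHom ((DerSch.stalkFunctor X x).map f)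
        ((DerSch.stalkFunctor X x).map g) := by
  apply ((adjS x).homEquiv _ _).injective
  rw [τ_comp, Adjunction.homEquiv_naturality_left]
  unfold τ
  rw [Equiv.apply_symm_apply]
  apply pmod_hom_ext
  intro U m n
  apply gSec_ext
  intro h
  rw [gSec_Ψ]
  have e1 : gSec x ((MonoidalCategoryStruct.tensorHom (C := CohB1.PMod X) f.val g.val ≫
      pm₀ x M' N').app U (tm M N U m n)) h =
      gm x M' U.unop h.down (f.val.app U m) ⊗ₜ gm x N' U.unop h.down (g.val.app U n) := rfl
  refine e1.trans ?_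
  have e2 : (MonoidalCategoryStruct.tensorHom ((DerSch.stalkFunctor X x).map f)
      ((DerSch.stalkFunctor X x).map g)).hom (gm x M U.unop h.down m ⊗ₜ gm x N U.unop h.down n) =
      ((DerSch.stalkFunctor X x).map f).hom (gm x M U.unop h.down m) ⊗ₜ
        ((DerSch.stalkFunctor X x).map g).hom (gm x N U.unop h.down n) := rfl
  refine Eq.trans ?_ e2.symm
  exact congrArg₂ (fun a b => a ⊗ₜ b) (DerSch.stalkFunctor_map_germ x f U.unop h.down m).symm
    (DerSch.stalkFunctor_map_germ x g U.unop h.down n).symm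


/-- the stalk of the tensor product, on objects -/
noncomputable def stalkTensorObjIso :
    (DerSch.stalkFunctor X x).obj (((DCoh.tensorBi (X := X)).obj M).obj N) ≅ B x M N :=
  @asIso _ _ _ _ (τ x M N) (isIso_τ x M N)

lemma stalkTensorObjIso_hom : (stalkTensorObjIso x M N).hom = τ x M N := rfl

variable {M N} in
lemma stalkTensorObjIso_natural_right {N' : X.Modules} (g : N ⟶ N') :
    (DerSch.stalkFunctor X x).map (((DCoh.tensorBi (X := X)).obj M).map g) ≫
        (stalkTensorObjIso x M N').hom =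
      (stalkTensorObjIso x M N).hom ≫ ((DerSch.stalkFunctor X x).obj M ◁
        (DerSch.stalkFunctor X x).map g) := by
  have h := τ_natural x (𝟙 M) g
  rw [(DerSch.stalkFunctor X x).map_id, MonoidalCategory.id_tensorHom] at h
  refine Eq.trans ?_ h
  rfl

variable {M N} in
lemma stalkTensorObjIso_natural_left {M' : X.Modules} (f : M ⟶ M') :
    (DerSch.stalkFunctor X x).map (((DCoh.tensorBi (X := X)).map f).app N) ≫
        (stalkTensorObjIso x M' N).hom =
      (stalkTensorObjIso x M N).hom ≫ ((DerSch.stalkFunctor X x).map f ▷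
        (DerSch.stalkFunctor X x).obj N) := by
  have h := τ_natural x f (𝟙 N)
  rw [(DerSch.stalkFunctor X x).map_id, MonoidalCategory.tensorHom_id] at h
  refine Eq.trans ?_ h
  rfl

/-- **the stalk of the tensor product** of `O_X`-modules, as an isomorphism of bifunctors -/
noncomputable def stalkTensorIso :
    DCoh.tensorBi (X := X) ⋙ (Functor.whiskeringRight _ _ _).obj (DerSch.stalkFunctor X x) ≅
      DerSch.stalkFunctor X x ⋙ curriedTensor (ModuleCat.{u} (X.presheaf.stalk x)) ⋙
        (Functor.whiskeringLeft _ _ _).obj (DerSch.stalkFunctor X x) :=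
  NatIso.ofComponents
    (fun M => NatIso.ofComponents (fun N => stalkTensorObjIso x M N)
      (fun g => stalkTensorObjIso_natural_right x g))
    (fun f => by
      apply NatTrans.ext
      funext N
      exact stalkTensorObjIso_natural_left x f)

end Groth.Agent.H4.SPt8
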