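import Mathlib
import Groth.Agent.H4.TC10

open CategoryTheory Category Limits HomologicalComplex CochainComplex.HomComplex CochainComplex
  MonoidalCategory ZeroObject

/-!
# Applying functors to total complexes of bifunctors
-/

namespace Groth.Agent.H4.TC14

variable {C₁ C₂ D C₁' C₂' D' : Type*} [Category C₁] [Category C₂] [Category D]
  [Category C₁'] [Category C₂'] [Category D']
  [Preadditive C₁] [Preadditive C₂] [Preadditive D]
  [Preadditive C₁'] [Preadditive C₂'] [Preadditive D']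
  {F : C₁ ⥤ C₂ ⥤ D} [F.Additive] [∀ X₁, (F.obj X₁).Additive]
  {F' : C₁' ⥤ C₂' ⥤ D'} [F'.Additive] [∀ X₁, (F'.obj X₁).Additive]
  {Φ₁ : C₁ ⥤ C₁'} {Φ₂ : C₂ ⥤ C₂'} {Gf : D ⥤ D'} [Φ₁.Additive] [Φ₂.Additive] [Gf.Additive]
  (e : F ⋙ (Functor.whiskeringRight C₂ D D').obj Gf ≅
    Φ₁ ⋙ F' ⋙ (Functor.whiskeringLeft C₂ C₂' D').obj Φ₂)

/-- components of the inverse, with clean types -/
def cInv (A : C₁) (B : C₂) :
    (F'.obj (Φ₁.obj A)).obj (Φ₂.obj B) ⟶ Gf.obj ((F.obj A).obj B) := (e.inv.app A).app B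

/-- components of the isomorphism, with clean types -/
def cHom (A : C₁) (B : C₂) :
    Gf.obj ((F.obj A).obj B) ⟶ (F'.obj (Φ₁.obj A)).obj (Φ₂.obj B) := (e.hom.app A).app B

@[reassoc (attr := simp)]
lemma cHom_cInv (A : C₁) (B : C₂) : cHom e A B ≫ cInv e A B = 𝟙 _ := by
  have := congrArg (fun t => (t.app A).app B) e.hom_inv_id
  exact this

@[reassoc (attr := simp)]
lemma cInv_cHom (A : C₁) (B : C₂) : cInv e A B ≫ cHom e A B = 𝟙 _ := by
  have := congrArg (fun t => (t.app A).app B) e.inv_hom_id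
  exact this

@[reassoc]
lemma cInv_nat₁ {A A' : C₁} (f : A ⟶ A') (B : C₂) :
    (F'.map (Φ₁.map f)).app (Φ₂.obj B) ≫ cInv e A' B = cInv e A B ≫ Gf.map ((F.map f).app B) :=
  congrArg (fun t => t.app B) (e.inv.naturality f)

@[reassoc]
lemma cInv_nat₂ (A : C₁) {B B' : C₂} (g : B ⟶ B') :
    (F'.obj (Φ₁.obj A)).map (Φ₂.map g) ≫ cInv e A B' = cInv e A B ≫ Gf.map ((F.obj A).map g) :=
  (e.inv.app A).naturality g

variable (K₁ : CochainComplex C₁ ℤ) (K₂ : CochainComplex C₂ ℤ)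
  [CochainComplex.HasMapBifunctor K₁ K₂ F]
  [CochainComplex.HasMapBifunctor ((Φ₁.mapHomologicalComplex _).obj K₁)
    ((Φ₂.mapHomologicalComplex _).obj K₂) F']

/-- components at a bidegree, typed through the mapped complexes -/
def cInv' (p q : ℤ) :
    (F'.obj (((Φ₁.mapHomologicalComplex (ComplexShape.up ℤ)).obj K₁).X p)).obj
      (((Φ₂.mapHomologicalComplex (ComplexShape.up ℤ)).obj K₂).X q) ⟶
    Gf.obj ((F.obj (K₁.X p)).obj (K₂.X q)) := cInv e (K₁.X p) (K₂.X q)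

omit [CochainComplex.HasMapBifunctor K₁ K₂ F]
  [CochainComplex.HasMapBifunctor ((Φ₁.mapHomologicalComplex _).obj K₁)
    ((Φ₂.mapHomologicalComplex _).obj K₂) F'] in
@[reassoc]
lemma cInv'_nat₁ (p p' q : ℤ) :
    (F'.map (((Φ₁.mapHomologicalComplex (ComplexShape.up ℤ)).obj K₁).d p p')).app
        (((Φ₂.mapHomologicalComplex (ComplexShape.up ℤ)).obj K₂).X q) ≫ cInv' e K₁ K₂ p' q =
      cInv' e K₁ K₂ p q ≫ Gf.map ((F.map (K₁.d p p')).app (K₂.X q)) :=
  cInv_nat₁ e (K₁.d p p') (K₂.X q)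

omit [CochainComplex.HasMapBifunctor K₁ K₂ F]
  [CochainComplex.HasMapBifunctor ((Φ₁.mapHomologicalComplex _).obj K₁)
    ((Φ₂.mapHomologicalComplex _).obj K₂) F'] in
@[reassoc]
lemma cInv'_nat₂ (p q q' : ℤ) :
    (F'.obj (((Φ₁.mapHomologicalComplex (ComplexShape.up ℤ)).obj K₁).X p)).map
        (((Φ₂.mapHomologicalComplex (ComplexShape.up ℤ)).obj K₂).d q q') ≫ cInv' e K₁ K₂ p q' =
      cInv' e K₁ K₂ p q ≫ Gf.map ((F.obj (K₁.X p)).map (K₂.d q q')) :=
  cInv_nat₂ e (K₁.X p) (K₂.d q q')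

/-- the comparison `F'(Φ₁ K₁, Φ₂ K₂) ⟶ G (F(K₁, K₂))` on total complexes -/
noncomputable def mapBifunctorMapHom :
    CochainComplex.mapBifunctor ((Φ₁.mapHomologicalComplex _).obj K₁)
      ((Φ₂.mapHomologicalComplex _).obj K₂) F' ⟶
    (Gf.mapHomologicalComplex _).obj (CochainComplex.mapBifunctor K₁ K₂ F) where
  f n := mapBifunctorDesc (fun p q hpq => cInv' e K₁ K₂ p q ≫
    Gf.map (ιMapBifunctor K₁ K₂ F (.up ℤ) p q n hpq))
  comm' n n' h := by
    obtain rfl : n + 1 = n' := h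
    refine mapBifunctor.hom_ext (fun p q hpq => ?_)
    change p + q = n at hpq
    rw [ι_mapBifunctorDesc_assoc, assoc, mapBifunctor.d_eq]
    have key : Gf.map (ιMapBifunctor K₁ K₂ F (.up ℤ) p q n hpq) ≫
        ((Gf.mapHomologicalComplex (ComplexShape.up ℤ)).obj
          (CochainComplex.mapBifunctor K₁ K₂ F)).d n (n + 1) =
        Gf.map (ιMapBifunctor K₁ K₂ F (.up ℤ) p q n hpq ≫
          (CochainComplex.mapBifunctor K₁ K₂ F).d n (n + 1)) := (Gf.map_comp _ _).symm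
    erw [key]
    rw [mapBifunctor.d_eq]
    simp only [Preadditive.comp_add, Preadditive.add_comp, assoc, mapBifunctor.ι_D₁,
      mapBifunctor.ι_D₂, mapBifunctor.ι_D₁_assoc, mapBifunctor.ι_D₂_assoc, Gf.map_add]
    rw [mapBifunctor.d₁_eq K₁ K₂ F (.up ℤ) (show (ComplexShape.up ℤ).Rel p (p + 1) by simp) q
        (n + 1) (by simp; omega),
      mapBifunctor.d₂_eq K₁ K₂ F (.up ℤ) p (show (ComplexShape.up ℤ).Rel q (q + 1) by simp)
        (n + 1) (by simp; omega),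
      mapBifunctor.d₁_eq _ _ F' (.up ℤ) (show (ComplexShape.up ℤ).Rel p (p + 1) by simp) q
        (n + 1) (by simp; omega),
      mapBifunctor.d₂_eq _ _ F' (.up ℤ) p (show (ComplexShape.up ℤ).Rel q (q + 1) by simp)
        (n + 1) (by simp; omega)]
    simp only [Linear.units_smul_comp, Linear.comp_units_smul, assoc, ι_mapBifunctorDesc,
      Functor.map_units_smul, Functor.map_comp]
    rw [cInv'_nat₁_assoc, cInv'_nat₂_assoc]
    erw [Preadditive.comp_add, Linear.comp_units_smul, Linear.comp_units_smul]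
    rfl


/-- components at a bidegree, typed through the mapped complexes -/
def cHom' (p q : ℤ) :
    Gf.obj ((F.obj (K₁.X p)).obj (K₂.X q)) ⟶
    (F'.obj (((Φ₁.mapHomologicalComplex (ComplexShape.up ℤ)).obj K₁).X p)).obj
      (((Φ₂.mapHomologicalComplex (ComplexShape.up ℤ)).obj K₂).X q) := cHom e (K₁.X p) (K₂.X q)

omit [CochainComplex.HasMapBifunctor K₁ K₂ F]
  [CochainComplex.HasMapBifunctor ((Φ₁.mapHomologicalComplex _).obj K₁)
    ((Φ₂.mapHomologicalComplex _).obj K₂) F'] in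
@[reassoc (attr := simp)]
lemma cHom'_cInv' (p q : ℤ) : cHom' e K₁ K₂ p q ≫ cInv' e K₁ K₂ p q = 𝟙 _ := cHom_cInv e _ _

omit [CochainComplex.HasMapBifunctor K₁ K₂ F]
  [CochainComplex.HasMapBifunctor ((Φ₁.mapHomologicalComplex _).obj K₁)
    ((Φ₂.mapHomologicalComplex _).obj K₂) F'] in
@[reassoc (attr := simp)]
lemma cInv'_cHom' (p q : ℤ) : cInv' e K₁ K₂ p q ≫ cHom' e K₁ K₂ p q = 𝟙 _ := cInv_cHom e _ _

@[reassoc (attr := simp)]
lemma ι_mapBifunctorMapHom_f (p q n : ℤ) (hpq : p + q = n) :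
    ιMapBifunctor ((Φ₁.mapHomologicalComplex _).obj K₁) ((Φ₂.mapHomologicalComplex _).obj K₂) F'
      (.up ℤ) p q n hpq ≫ (mapBifunctorMapHom e K₁ K₂).f n =
    cInv' e K₁ K₂ p q ≫ Gf.map (ιMapBifunctor K₁ K₂ F (.up ℤ) p q n hpq) := by
  simp [mapBifunctorMapHom]
  rfl

variable [∀ (J : Type), PreservesColimitsOfShape (Discrete J) Gf]

lemma isIso_mapBifunctorMapHom_f (n : ℤ) : IsIso ((mapBifunctorMapHom e K₁ K₂).f n) := by
  let Kb := ((F.mapBifunctorHomologicalComplex (ComplexShape.up ℤ) (ComplexShape.up ℤ)).obj K₁).obj K₂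
  let c := Kb.toGradedObject.cofanMapObj
    (ComplexShape.π (ComplexShape.up ℤ) (ComplexShape.up ℤ) (ComplexShape.up ℤ)) n
  have hc : IsColimit c := Kb.toGradedObject.isColimitCofanMapObj _ n
  have hGc := isColimitOfPreserves Gf hc
  let s : Cocone (Discrete.functor (Kb.toGradedObject.mapObjFun
      (ComplexShape.π (ComplexShape.up ℤ) (ComplexShape.up ℤ) (ComplexShape.up ℤ)) n) ⋙ Gf) :=
    { pt := (CochainComplex.mapBifunctor ((Φ₁.mapHomologicalComplex _).obj K₁)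
        ((Φ₂.mapHomologicalComplex _).obj K₂) F').X n
      ι := Discrete.natTrans (fun j => cHom' e K₁ K₂ j.as.1.1 j.as.1.2 ≫
        ιMapBifunctor ((Φ₁.mapHomologicalComplex _).obj K₁) ((Φ₂.mapHomologicalComplex _).obj K₂) F'
          (.up ℤ) j.as.1.1 j.as.1.2 n j.as.2) }
  refine ⟨hGc.desc s, ?_, ?_⟩
  · refine mapBifunctor.hom_ext (fun p q hpq => ?_)
    rw [ι_mapBifunctorMapHom_f_assoc, comp_id]
    have h1 : Gf.map (ιMapBifunctor K₁ K₂ F (.up ℤ) p q n hpq) ≫ hGc.desc s =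
        cHom' e K₁ K₂ p q ≫ ιMapBifunctor ((Φ₁.mapHomologicalComplex _).obj K₁)
          ((Φ₂.mapHomologicalComplex _).obj K₂) F' (.up ℤ) p q n hpq :=
      hGc.fac s ⟨⟨(p, q), hpq⟩⟩
    exact (assoc _ _ _).trans ((congrArg (fun t => cInv' e K₁ K₂ p q ≫ t) h1).trans
      (cInv'_cHom'_assoc e K₁ K₂ p q _))
  · apply hGc.hom_ext
    rintro ⟨⟨⟨p, q⟩, hpq'⟩⟩
    have hpq : p + q = n := hpq'
    have h1 : Gf.map (ιMapBifunctor K₁ K₂ F (.up ℤ) p q n hpq) ≫ hGc.desc s =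
        cHom' e K₁ K₂ p q ≫ ιMapBifunctor ((Φ₁.mapHomologicalComplex _).obj K₁)
          ((Φ₂.mapHomologicalComplex _).obj K₂) F' (.up ℤ) p q n hpq :=
      hGc.fac s ⟨⟨(p, q), hpq⟩⟩
    change Gf.map (ιMapBifunctor K₁ K₂ F (.up ℤ) p q n hpq) ≫ hGc.desc s ≫
      (mapBifunctorMapHom e K₁ K₂).f n = Gf.map (ιMapBifunctor K₁ K₂ F (.up ℤ) p q n hpq) ≫ 𝟙 _
    exact ((reassoc_of% h1) _).trans ((congrArg (fun t => cHom' e K₁ K₂ p q ≫ t)
      (ι_mapBifunctorMapHom_f e K₁ K₂ p q n hpq)).trans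
      ((cHom'_cInv'_assoc e K₁ K₂ p q _).trans (comp_id _).symm))


/-- **applying a coproduct preserving functor to the total complex of a bifunctor** -/
noncomputable def mapBifunctorMapIso :
    CochainComplex.mapBifunctor ((Φ₁.mapHomologicalComplex _).obj K₁)
      ((Φ₂.mapHomologicalComplex _).obj K₂) F' ≅
    (Gf.mapHomologicalComplex _).obj (CochainComplex.mapBifunctor K₁ K₂ F) :=
  haveI : ∀ n, IsIso ((mapBifunctorMapHom e K₁ K₂).f n) := isIso_mapBifunctorMapHom_f e K₁ K₂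
  haveI := HomologicalComplex.Hom.isIso_of_components (mapBifunctorMapHom e K₁ K₂)
  asIso (mapBifunctorMapHom e K₁ K₂)

end Groth.Agent.H4.TC14
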