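import Mathlib
import Groth.Prelude.Def_DerSch
import Groth.Prelude.Def_DCoh4
import Groth.Prelude.Def_KFlatSite
import Groth.Agent.H4.SPt8
import Groth.Agent.H4.SPt6
import Groth.Agent.H4.TC14
import Groth.Agent.H4.LDS14

set_option autoImplicit false
universe u
open CategoryTheory CategoryTheory.Limits AlgebraicGeometry TopologicalSpace Opposite MonoidalCategory
attribute [local instance] HasDerivedCategory.standard

namespace Groth.Agent.H4.LDS19

open Groth.Agent.H4.SPt4 Groth.Agent.H4.SPt6 Groth.Agent.H4.SPt8 Groth.Agent.H4.TC14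
  Groth.Agent.H4.TC4 Groth.Agent.H4.LDS14

variable {X : Scheme.{u}} (x : X)

/-- the stalk of the tensor product of complexes -/
noncomputable def stalkTensorCxIso (L F : CochainComplex X.Modules ℤ) :
    (stalkCx x).obj ((DCoh.tensorCx.obj L).obj F) ≅ (stalkCx x).obj L ⊗ (stalkCx x).obj F :=
  (mapBifunctorMapIso (stalkTensorIso x) L F).symm

lemma epi_of_stalkwise {M N : X.Modules} (φ : M ⟶ N)
    (h : ∀ y, Epi ((DerSch.stalkFunctor X y).map φ)) : Epi φ := by
  have hz : IsZero (cokernel φ) := by
    rw [isZero_iff_stalk]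
    intro y
    haveI := h y
    exact IsZero.of_iso (isZero_cokernel_of_epi _) (PreservesCokernel.iso (DerSch.stalkFunctor X y) φ)
  exact Abelian.epi_of_cokernel_π_eq_zero _ (hz.eq_of_tgt _ _)

instance : (skyFunctor x).Additive := Functor.additive_of_preserves_binary_products _

instance : PreservesFiniteLimits (skyFunctor x) := by
  haveI := (stalkSkyAdj x).rightAdjoint_preservesLimits
  infer_instance

lemma epi_skyMap {Q Q' : ModuleCat.{u} (X.presheaf.stalk x)} (g : Q ⟶ Q') [Epi g] :
    Epi ((skyFunctor x).map g) := by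
  have hg : Function.Surjective g.hom := (ModuleCat.epi_iff_surjective g).1 inferInstance
  apply epi_of_stalkwise
  intro y
  rw [ModuleCat.epi_iff_surjective]
  intro b
  obtain ⟨U, hy, s', rfl⟩ := TopCat.Presheaf.exists_germ_eq (sky x Q').presheaf b
  let s : Γ(sky x Q, U) := fun h => (hg (skySec x s' h)).choose
  refine ⟨(sky x Q).presheaf.germ U y hy s, ?_⟩
  have h1 := DerSch.stalkFunctor_map_germ y ((skyFunctor x).map g) U hy s
  refine h1.trans ?_
  congr 1
  funext h
  exact (hg (skySec x s' h)).choose_spec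


instance : PreservesFiniteColimits (skyFunctor x) := by
  have h0 : PreservesFiniteLimits (skyFunctor x) := inferInstance
  have key : ∀ (S : ShortComplex (ModuleCat.{u} (X.presheaf.stalk x))), S.ShortExact →
      (S.map (skyFunctor x)).Exact ∧ Epi ((skyFunctor x).map S.g) := by
    intro S hS
    have h1 := (Functor.preservesFiniteLimits_iff_forall_exact_map_and_mono (skyFunctor x)).1 h0 S hS
    haveI := hS.epi_g
    exact ⟨h1.1, epi_skyMap x S.g⟩
  exact (Functor.preservesFiniteColimits_iff_forall_exact_map_and_epi (skyFunctor x)).2 key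

instance : (skyFunctor x).PreservesHomology :=
  Functor.preservesHomology_of_preservesMonos_and_cokernels _

/-- the skyscraper complex -/
noncomputable abbrev skyCx : CochainComplex (ModuleCat.{u} (X.presheaf.stalk x)) ℤ ⥤
    CochainComplex X.Modules ℤ :=
  (skyFunctor x).mapHomologicalComplex (ComplexShape.up ℤ)

lemma acyclic_skyCx (N : CochainComplex (ModuleCat.{u} (X.presheaf.stalk x)) ℤ) (hN : N.Acyclic) :
    ((skyCx x).obj N).Acyclic := by
  intro i
  rw [HomologicalComplex.exactAt_iff_isZero_homology]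
  have hi := (HomologicalComplex.exactAt_iff_isZero_homology _ _).1 (hN i)
  exact IsZero.of_iso ((skyFunctor x).map_isZero hi) ((N.sc i).mapHomologyIso (skyFunctor x))

/-- the counit of the adjunction is an isomorphism -/
instance isIso_counit_app (Q : ModuleCat.{u} (X.presheaf.stalk x)) :
    IsIso ((stalkSkyAdj x).counit.app Q) := by
  have e : (stalkSkyAdj x).counit.app Q = ofSky (𝟙 (sky x Q)) := by
    simp [stalkSkyAdj, skyHomEquiv]
    rfl
  rw [e, ConcreteCategory.isIso_iff_bijective]
  constructor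
  · intro a b hab
    obtain ⟨U, hx, s, rfl⟩ := TopCat.Presheaf.exists_germ_eq (sky x Q).presheaf a
    obtain ⟨V, hx', t, rfl⟩ := TopCat.Presheaf.exists_germ_eq (sky x Q).presheaf b
    have h1 := ofSky_germ (𝟙 (sky x Q)) U hx s
    have h2 := ofSky_germ (𝟙 (sky x Q)) V hx' t
    have h3 : skySec x s ⟨hx⟩ = skySec x t ⟨hx'⟩ := h1.symm.trans (hab.trans h2)
    apply TopCat.Presheaf.germ_ext (sky x Q).presheaf (U ⊓ V) ⟨hx, hx'⟩ (homOfLE inf_le_left)
      (homOfLE inf_le_right)
    funext h
    exact h3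
  · intro q
    let s : Γ(sky x Q, (⊤ : X.Opens)) := fun _ => q
    exact ⟨(sky x Q).presheaf.germ ⊤ x trivial s, ofSky_germ (𝟙 (sky x Q)) ⊤ trivial s⟩


/-- the stalk at `x` of the skyscraper at `x` -/
noncomputable def stalkSkyIso : skyFunctor x ⋙ DerSch.stalkFunctor X x ≅ 𝟭 _ :=
  haveI : IsIso (stalkSkyAdj x).counit := NatIso.isIso_of_isIso_app _
  asIso (stalkSkyAdj x).counit

/-- the stalk at `x` of the skyscraper complex -/
noncomputable def stalkSkyCxIso (N : CochainComplex (ModuleCat.{u} (X.presheaf.stalk x)) ℤ) :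
    (stalkCx x).obj ((skyCx x).obj N) ≅ N :=
  (NatIso.mapHomologicalComplex (stalkSkyIso x) (ComplexShape.up ℤ)).app N ≪≫
    (Functor.mapHomologicalComplexIdIso _ _).app N

/-- stalkwise K-flat complexes are K-flat -/
theorem isKFlat_of_skf (F : CochainComplex X.Modules ℤ) (hF : SKF F) : DCoh.IsKFlat F := by
  intro L hL i
  rw [← HomologicalComplex.exactAt_iff_isZero_homology, exactAt_iff_stalk]
  intro y
  have hLy : Acyc ((stalkCx y).obj L) := by
    rw [acyc_iff_exactAt]
    intro j
    exact (exactAt_iff_stalk L j).1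
      ((HomologicalComplex.exactAt_iff_isZero_homology _ _).2 (hL j)) y
  have h1 : Acyc ((stalkCx y).obj L ⊗ (stalkCx y).obj F) := hF y _ hLy
  have h2 := Acyc.of_iso (stalkTensorCxIso y L F).symm h1
  exact (acyc_iff_exactAt _).1 h2 i

/-- K-flat complexes are stalkwise K-flat -/
theorem skf_of_isKFlat (F : CochainComplex X.Modules ℤ) (hF : DCoh.IsKFlat F) : SKF F := by
  intro y N hN
  have hN' : N.Acyclic := (acyc_iff_exactAt N).1 hN
  have h1 := acyclic_skyCx y N hN'
  have h2 : ∀ i, IsZero (((DCoh.tensorCx.obj ((skyCx y).obj N)).obj F).homology i) :=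
    hF _ (fun i => (HomologicalComplex.exactAt_iff_isZero_homology _ _).1 (h1 i))
  have h3 : Acyc ((stalkCx y).obj ((DCoh.tensorCx.obj ((skyCx y).obj N)).obj F)) := by
    rw [acyc_iff_exactAt]
    intro j
    exact (exactAt_iff_stalk _ j).1
      ((HomologicalComplex.exactAt_iff_isZero_homology _ _).2 (h2 j)) y
  have h4 := Acyc.of_iso (stalkTensorCxIso y _ F) h3
  exact Acyc.of_iso (whiskerRightIso (stalkSkyCxIso y N) ((stalkCx y).obj F)) h4

theorem S11132 (X : Scheme.{u}) (F : CochainComplex X.Modules ℤ) :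
    DCoh.IsKFlat F ↔ ∀ x : X, DRing.IsKFlat (X.presheaf.stalk x)
      (((DerSch.stalkFunctor X x).mapHomologicalComplex (ComplexShape.up ℤ)).obj F) :=
  ⟨skf_of_isKFlat F, isKFlat_of_skf F⟩

end Groth.Agent.H4.LDS19
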