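import Mathlib
import Groth.Agent.H4.TC14
import Groth.Agent.H4.TC4

set_option autoImplicit false
universe u
open CategoryTheory CategoryTheory.Limits MonoidalCategory TensorProduct

namespace Groth.Agent.H4.TC15
open Groth.Agent.H4.TC3 Groth.Agent.H4.TC4 Groth.Agent.H4.TC14

variable {A B : Type u} [CommRing A] [CommRing B] (φ : A →+* B)

set_option backward.isDefEq.respectTransparency false in
/-- projection formula, as a linear equivalence -/
noncomputable def projEquiv (N : ModuleCat.{u} B) (M : ModuleCat.{u} A) :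
    ((ModuleCat.restrictScalars φ).obj (N ⊗ (ModuleCat.extendScalars φ).obj M)) ≃ₗ[A]
      (((ModuleCat.restrictScalars φ).obj N ⊗ M : ModuleCat A)) :=
  letI := φ.toAlgebra
  letI : Module A N := Module.compHom N φ
  haveI : IsScalarTower A B N := ⟨fun a b n => by
    show (φ a * b) • n = φ a • (b • n); rw [mul_smul]⟩
  (TensorProduct.AlgebraTensorModule.cancelBaseChange A B B N M).restrictScalars A

/-- projection formula `res(N ⊗_B (B ⊗_A M)) ≅ res N ⊗_A M` -/
noncomputable def projIso (N : ModuleCat.{u} B) (M : ModuleCat.{u} A) :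
    (ModuleCat.restrictScalars φ).obj (N ⊗ (ModuleCat.extendScalars φ).obj M) ≅
      ((ModuleCat.restrictScalars φ).obj N ⊗ M : ModuleCat A) :=
  (projEquiv φ N M).toModuleIso

set_option backward.isDefEq.respectTransparency false in
lemma projIso_inv_nat₁ {N N' : ModuleCat.{u} B} (f : N ⟶ N') (M : ModuleCat.{u} A) :
    (projIso φ N M).inv ≫ (ModuleCat.restrictScalars φ).map (f ▷ (ModuleCat.extendScalars φ).obj M) =
      ((ModuleCat.restrictScalars φ).map f ▷ M) ≫ (projIso φ N' M).inv := by
  apply ModuleCat.MonoidalCategory.tensor_ext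
  intro n m
  rfl

set_option backward.isDefEq.respectTransparency false in
lemma projIso_inv_nat₂ (N : ModuleCat.{u} B) {M M' : ModuleCat.{u} A} (g : M ⟶ M') :
    (projIso φ N M).inv ≫ (ModuleCat.restrictScalars φ).map (N ◁ (ModuleCat.extendScalars φ).map g) =
      ((ModuleCat.restrictScalars φ).obj N ◁ g) ≫ (projIso φ N M').inv := by
  apply ModuleCat.MonoidalCategory.tensor_ext
  intro n m
  rfl


/-- the bifunctor `(N, M) ↦ N ⊗_B (B ⊗_A M)` -/
noncomputable abbrev F₁ : ModuleCat.{u} B ⥤ ModuleCat.{u} A ⥤ ModuleCat.{u} B :=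
  curriedTensor (ModuleCat.{u} B) ⋙ (Functor.whiskeringLeft _ _ _).obj (ModuleCat.extendScalars.{u,u,u} φ)

instance (X₁ : ModuleCat.{u} B) : ((F₁ φ).obj X₁).Additive :=
  inferInstanceAs ((ModuleCat.extendScalars.{u,u,u} φ ⋙ (curriedTensor _).obj X₁).Additive)

instance : (F₁ φ).Additive where
  map_add {X Y f g} := by
    ext M : 2
    simp [F₁]

/-- the projection formula as an isomorphism of bifunctors -/
noncomputable def e₁ : F₁ φ ⋙ (Functor.whiskeringRight _ _ _).obj (ModuleCat.restrictScalars.{u} φ) ≅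
    ModuleCat.restrictScalars.{u} φ ⋙ curriedTensor (ModuleCat.{u} A) ⋙
      (Functor.whiskeringLeft _ _ _).obj (𝟭 (ModuleCat.{u} A)) :=
  NatIso.ofComponents (fun N => NatIso.ofComponents (fun M => projIso φ N M) (fun {M M'} g => by
    have := projIso_inv_nat₂ φ N g
    rw [← Iso.inv_comp_eq, ← Category.assoc, ← Iso.eq_comp_inv]
    exact this)) (fun {N N'} f => by
    ext M : 2
    have := projIso_inv_nat₁ φ f M
    change _ ≫ (projIso φ N' M).hom = (projIso φ N M).hom ≫ _
    rw [← Iso.inv_comp_eq, ← Category.assoc, ← Iso.eq_comp_inv]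
    exact this)

lemma exactAt_map_iff {C D : Type*} [Category C] [Category D] [Abelian C] [Abelian D]
    (G : C ⥤ D) [G.Additive] [G.PreservesHomology] [G.Faithful]
    (K : CochainComplex C ℤ) (i : ℤ) :
    ((G.mapHomologicalComplex (ComplexShape.up ℤ)).obj K).ExactAt i ↔ K.ExactAt i := by
  rw [HomologicalComplex.exactAt_iff, HomologicalComplex.exactAt_iff]
  exact ShortComplex.exact_map_iff_of_faithful (K.sc i) G

lemma acyc_restrictScalars_iff (L : Cx B) :
    Acyc (((ModuleCat.restrictScalars.{u} φ).mapHomologicalComplex (ComplexShape.up ℤ)).obj L) ↔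
      Acyc L := by
  rw [acyc_iff_exactAt, acyc_iff_exactAt]
  exact forall_congr' (fun i => exactAt_map_iff _ L i)

/-- **base change of K-flat complexes** -/
theorem kflat_extendScalars (K : Cx A) (hK : KFlat K) :
    KFlat (((ModuleCat.extendScalars.{u,u,u} φ).mapHomologicalComplex (ComplexShape.up ℤ)).obj K) := by
  intro L hL
  have h1 := (acyc_restrictScalars_iff φ L).2 hL
  have h2 := hK _ h1
  have h3 := Acyc.of_iso (mapBifunctorMapIso (e₁ φ) L K) h2
  exact (acyc_restrictScalars_iff φ _).1 h3

end Groth.Agent.H4.TC15
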