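import Mathlib
import Groth.Prelude.Def_DerSch
import Groth.Prelude.Def_DCoh4
import Groth.Prelude.Def_KFlatSite
import Groth.Agent.H4.SPt5
import Groth.Agent.H4.TC15
import Groth.Agent.H4.LDS19

set_option autoImplicit false
universe u
open CategoryTheory CategoryTheory.Limits AlgebraicGeometry TopologicalSpace Opposite

namespace Groth.Agent.H4.LDS21
open Groth.Agent.H4.SPt4 Groth.Agent.H4.SPt6 Groth.Agent.H4.LDS14 Groth.Agent.H4.LDS19 Groth.Agent.H4.TC4

variable (R : CommRingCat.{u}) (x : (Spec (CommRingCat.of R)))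

/-- the ring map `R → O_{Spec R, x}` -/
noncomputable def ψ : R →+* (Spec (CommRingCat.of R)).presheaf.stalk x :=
  ((Scheme.ΓSpecIso (CommRingCat.of R)).inv ≫
    (Spec (CommRingCat.of R)).presheaf.germ ⊤ x trivial).hom

set_option backward.isDefEq.respectTransparency false in
/-- global sections of a skyscraper -/
noncomputable def skyΓEquiv (Q : ModuleCat.{u} ((Spec (CommRingCat.of R)).presheaf.stalk x)) :
    (ModuleCat.restrictScalars (ψ R x)).obj Q ≃ₗ[R] (moduleSpecΓFunctor (R := R)).obj (sky x Q) where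
  toFun q := (show (skyAb x Q).obj (op ⊤) from fun _ => q)
  invFun s := (show (skyAb x Q).obj (op ⊤) from s) ⟨trivial⟩
  map_add' a b := rfl
  map_smul' r q := rfl
  left_inv q := rfl
  right_inv s := rfl

/-- global sections of skyscrapers, functorially -/
noncomputable def skyΓIso :
    ModuleCat.restrictScalars.{u} (ψ R x) ≅ skyFunctor x ⋙ moduleSpecΓFunctor (R := R) :=
  NatIso.ofComponents (fun Q => (skyΓEquiv R x Q).toModuleIso) (fun {Q Q'} g => by
    ext q
    rfl)

/-- **stalk of `M~`**: `(M~)_x ≅ O_x ⊗_R M`, naturally in `M` -/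
noncomputable def tildeStalkIso :
    tilde.functor R ⋙ DerSch.stalkFunctor (Spec (CommRingCat.of R)) x ≅
      ModuleCat.extendScalars.{u, u, u} (ψ R x) :=
  (conjugateIsoEquiv (ModuleCat.extendRestrictScalarsAdj.{u, u, u} (ψ R x))
    ((tilde.adjunction (R := R)).comp (stalkSkyAdj x))).symm (skyΓIso R x)

/-- stalk of the tilde of a complex -/
noncomputable def tildeStalkCxIso (K : CochainComplex (ModuleCat.{u} R) ℤ) :
    (stalkCx x).obj (((tilde.functor R).mapHomologicalComplex (ComplexShape.up ℤ)).obj K) ≅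
      ((ModuleCat.extendScalars.{u,u,u} (ψ R x)).mapHomologicalComplex (ComplexShape.up ℤ)).obj K :=
  (NatIso.mapHomologicalComplex (tildeStalkIso R x) (ComplexShape.up ℤ)).app K

theorem S1121 (K : DRing.Cx R)
    (hK : ∀ L : DRing.Cx R, (∀ i : ℤ, IsZero (L.homology i)) →
      ∀ i : ℤ, IsZero (((MonoidalCategory.tensorRight K).obj L).homology i)) :
    DCoh.IsKFlat (((tilde.functor R).mapHomologicalComplex (ComplexShape.up ℤ)).obj K) := by
  apply isKFlat_of_skf
  intro y
  exact Groth.Agent.H4.TC4.KFlat.of_iso (tildeStalkCxIso R y K).symm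
    (Groth.Agent.H4.TC15.kflat_extendScalars _ _ hK)

end Groth.Agent.H4.LDS21
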