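import Mathlib
import Groth.Prelude.Def_DDual2
import Groth.Prelude.Def_DCoh4
import Groth.Agent.H4.LDS21
import Groth.Agent.H4.LDS15
import Groth.Agent.H4.LDS5
import Groth.Agent.H4.TC13
import Groth.Agent.H4.TC8
import Groth.Agent.Lib.Lead.QC.Pullback

set_option autoImplicit false
universe u
open CategoryTheory CategoryTheory.Limits AlgebraicGeometry TopologicalSpace Opposite ZeroObject
attribute [local instance] HasDerivedCategory.standard

namespace Groth.Agent.H4.LDS22

open Groth.Agent.H4.LDS3 Groth.Agent.H4.LDS5 DerivedCategory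

section General

variable {A B : Type*} [Category A] [Abelian A] [Category B] [Abelian B]
  [HasDerivedCategory A] [HasDerivedCategory B]
  (Ψ : A ⥤ B) [Ψ.Additive] {Pc : CochainComplex A ℤ → Prop} (h : Adm Pc) (hres : HasResCx Pc)
  (hΨ : ∀ E : CochainComplex A ℤ, Pc E → E.Acyclic →
      ((Ψ.mapHomologicalComplex (ComplexShape.up ℤ)).obj E).Acyclic)

include h hres hΨ in
/-- recognition of the total left derived functor: two functors with counits which are
isomorphisms on adapted objects are isomorphic. -/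
theorem nonempty_iso_of_isIso_app (G₁ G₂ : DerivedCategory A ⥤ DerivedCategory B)
    (α₁ : Qh ⋙ G₁ ⟶ Gh Ψ) (α₂ : Qh ⋙ G₂ ⟶ Gh Ψ)
    (h₁ : ∀ E, Pc E → IsIso (α₁.app ((HomotopyCategory.quotient _ _).obj E)))
    (h₂ : ∀ E, Pc E → IsIso (α₂.app ((HomotopyCategory.quotient _ _).obj E))) :
    Nonempty (G₁ ≅ G₂) := by
  haveI := hasLeftDerivedFunctor Ψ h hres hΨ
  have key : ∀ (G : DerivedCategory A ⥤ DerivedCategory B) (α : Qh ⋙ G ⟶ Gh Ψ),
      (∀ E, Pc E → IsIso (α.app ((HomotopyCategory.quotient _ _).obj E))) →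
      IsIso ((LG Ψ).leftDerivedLift (cou Ψ) (WA A) G α) := by
    intro G α hα
    rw [NatTrans.isIso_iff_isIso_app]
    intro K
    obtain ⟨E, s, hE, hs⟩ := hres (Q.objPreimage K)
    have hi : IsIso (Q.map s) := by
      rw [isIso_Q_map_iff_quasiIso]; exact hs
    let e : Qh.obj ((HomotopyCategory.quotient _ _).obj E) ≅ K :=
      (@asIso _ _ _ _ (Q.map s) hi) ≪≫ Q.objObjPreimageIso K
    rw [← NatTrans.isIso_app_iff_of_iso _ e]
    haveI := isIso_counit_app Ψ h hres hΨ Qh (LG Ψ) (cou Ψ) E hE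
    haveI := hα E hE
    have hfac := Functor.leftDerived_fac_app (LG Ψ) (cou Ψ) (WA A) G α
      ((HomotopyCategory.quotient _ _).obj E)
    exact IsIso.of_isIso_fac_right hfac
  haveI := key G₁ α₁ h₁
  haveI := key G₂ α₂ h₂
  exact ⟨asIso ((LG Ψ).leftDerivedLift (cou Ψ) (WA A) G₁ α₁) ≪≫
    (asIso ((LG Ψ).leftDerivedLift (cou Ψ) (WA A) G₂ α₂)).symm⟩

end General

section Ring

open Groth.Agent.H4.TC3 Groth.Agent.H4.TC4

variable {A : Type u} [CommRing A]

lemma adm_kflatR : Adm (fun K : Cx A => KFlat K) where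
  zero := ⟨0, isZero_zero _, Groth.Agent.H4.TC5.kflat_of_isZero_X 0
    (fun q => (HomologicalComplex.eval _ _ q).map_isZero (isZero_zero _))⟩
  shift E n hE := (kflat_shift_iff E n).2 hE
  cone φ hK hL := Groth.Agent.H4.TC4.KFlat.cone φ hK hL

lemma hasResCx_kflatR : HasResCx (fun K : Cx A => KFlat K) := by
  intro X
  obtain ⟨K, f, hK, -, hf, -⟩ := Groth.Agent.H4.TC8.exists_kflat_resolution X
  exact ⟨K, f, hK, hf⟩

end Ring

instance instTildeAdd (A : Type u) [CommRing A] : (tilde.functor (CommRingCat.of A)).Additive :=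
  AlgebraicGeometry.instAdditiveModuleCatCarrierModulesSpecOfFunctor (R := CommRingCat.of A)

instance instTildeColim (A : Type u) [CommRing A] :
    PreservesFiniteColimits (tilde.functor (CommRingCat.of A)) := by
  have : ∀ R : CommRingCat.{u}, PreservesFiniteColimits (tilde.functor R) := fun R => inferInstance
  exact this (CommRingCat.of A)

section Main

open Groth.Agent.H4.TC3 Groth.Agent.H4.TC4 Groth.Agent.H4.LDS14 Groth.Agent.H4.LDS15

variable {A B : Type u} [CommRing A] [CommRing B] (φ : A →+* B)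

/-- the functor `M ↦ (B ⊗_A M)~` -/
noncomputable abbrev Ψ : ModuleCat.{u} A ⥤ (Spec (CommRingCat.of B)).Modules :=
  ModuleCat.extendScalars.{u, u, u} φ ⋙ tilde.functor (CommRingCat.of B)

/-- `(M~)` pulled back is `(B ⊗_A M)~` -/
noncomputable def θ : tilde.functor (CommRingCat.of A) ⋙
    Scheme.Modules.pullback (Spec.map (CommRingCat.ofHom φ)) ≅ Ψ φ :=
  Groth.Agent.LD.QC.tildePullbackIso (CommRingCat.ofHom φ)

lemma skf_tilde (K : Cx A) (hK : KFlat K) :
    SKF (((tilde.functor (CommRingCat.of A)).mapHomologicalComplex (ComplexShape.up ℤ)).obj K) :=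
  fun y => Groth.Agent.H4.TC4.KFlat.of_iso
    (Groth.Agent.H4.LDS21.tildeStalkCxIso (CommRingCat.of A) y K).symm
    (Groth.Agent.H4.TC15.kflat_extendScalars _ _ hK)


variable [PreservesFiniteLimits (tilde.functor (CommRingCat.of A))]
  [PreservesFiniteLimits (tilde.functor (CommRingCat.of B))]
  [DRing.HasLBaseChange φ] [DCoh.HasLpull (Spec.map (CommRingCat.ofHom φ))]

/-- the counit of `LBaseChange` -/
noncomputable abbrev αB : Qh ⋙ DRing.LBaseChange φ ⟶ DRing.baseChangeKh φ :=
  (DRing.baseChangeKh φ).totalLeftDerivedCounit Qh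
    (HomotopyCategory.quasiIso (ModuleCat.{u} A) (ComplexShape.up ℤ))

noncomputable def compK₁ :
    (ModuleCat.extendScalars.{u, u, u} φ).mapHomotopyCategory (ComplexShape.up ℤ) ⋙
      (tilde.functor (CommRingCat.of B)).mapHomotopyCategory (ComplexShape.up ℤ) ≅
    (Ψ φ).mapHomotopyCategory (ComplexShape.up ℤ) :=
  Functor.mapHomotopyCategoryCompIso (Iso.refl (Ψ φ)) _

noncomputable def compK₂ :
    (tilde.functor (CommRingCat.of A)).mapHomotopyCategory (ComplexShape.up ℤ) ⋙
      (Scheme.Modules.pullback (Spec.map (CommRingCat.ofHom φ))).mapHomotopyCategory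
        (ComplexShape.up ℤ) ≅
    (Ψ φ).mapHomotopyCategory (ComplexShape.up ℤ) :=
  Functor.mapHomotopyCategoryCompIso (θ φ) _

/-- first counit -/
noncomputable def α₁ : Qh ⋙ (DRing.LBaseChange φ ⋙ DCoh.tildeD (CommRingCat.of B)) ⟶ Gh (Ψ φ) :=
  (Functor.associator _ _ _).inv ≫ Functor.whiskerRight (αB φ) (DCoh.tildeD (CommRingCat.of B)) ≫
    (Functor.associator _ _ _).hom ≫
    Functor.whiskerLeft _ ((tilde.functor (CommRingCat.of B)).mapDerivedCategoryFactorsh).hom ≫
    (Functor.associator _ _ _).inv ≫ Functor.whiskerRight (compK₁ φ).hom Qh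

/-- second counit -/
noncomputable def α₂ : Qh ⋙ (DCoh.tildeD (CommRingCat.of A) ⋙
    DCoh.Lpull (Spec.map (CommRingCat.ofHom φ))) ⟶ Gh (Ψ φ) :=
  (Functor.associator _ _ _).inv ≫
    Functor.whiskerRight ((tilde.functor (CommRingCat.of A)).mapDerivedCategoryFactorsh).hom
      (DCoh.Lpull (Spec.map (CommRingCat.ofHom φ))) ≫
    (Functor.associator _ _ _).hom ≫
    Functor.whiskerLeft _ (αL (Spec.map (CommRingCat.ofHom φ))) ≫
    (Functor.associator _ _ _).inv ≫ Functor.whiskerRight (compK₂ φ).hom Qh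


lemma exactAt_map {C D : Type*} [Category C] [Category D] [Abelian C] [Abelian D]
    (G : C ⥤ D) [G.Additive] [G.PreservesHomology] (K : CochainComplex C ℤ) (i : ℤ)
    (h : K.ExactAt i) : ((G.mapHomologicalComplex (ComplexShape.up ℤ)).obj K).ExactAt i := by
  rw [HomologicalComplex.exactAt_iff] at h ⊢
  exact h.map G

lemma α₁_app (K : HomotopyCategory (ModuleCat.{u} A) (ComplexShape.up ℤ)) :
    (α₁ φ).app K = (DCoh.tildeD (CommRingCat.of B)).map ((αB φ).app K) ≫
      ((tilde.functor (CommRingCat.of B)).mapDerivedCategoryFactorsh).hom.app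
        (((ModuleCat.extendScalars.{u, u, u} φ).mapHomotopyCategory (ComplexShape.up ℤ)).obj K) ≫
      Qh.map ((compK₁ φ).hom.app K) := by
  simp [α₁]

lemma α₂_app (K : HomotopyCategory (ModuleCat.{u} A) (ComplexShape.up ℤ)) :
    (α₂ φ).app K = (DCoh.Lpull (Spec.map (CommRingCat.ofHom φ))).map
        (((tilde.functor (CommRingCat.of A)).mapDerivedCategoryFactorsh).hom.app K) ≫
      (αL (Spec.map (CommRingCat.ofHom φ))).app
        (((tilde.functor (CommRingCat.of A)).mapHomotopyCategory (ComplexShape.up ℤ)).obj K) ≫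
      Qh.map ((compK₂ φ).hom.app K) := by
  simp [α₂]

lemma isIso_α₁_app (E : Cx A) (hE : KFlat E) :
    IsIso ((α₁ φ).app ((HomotopyCategory.quotient _ _).obj E)) := by
  rw [α₁_app]
  haveI : IsIso ((αB φ).app ((HomotopyCategory.quotient _ _).obj E)) :=
    isIso_counit_app (ModuleCat.extendScalars.{u, u, u} φ) adm_kflatR hasResCx_kflatR
      (fun E hE hac => (acyc_iff_exactAt _).1
        (Groth.Agent.H4.TC13.acyc_extendScalars φ E hE ((acyc_iff_exactAt _).2 hac)))
      Qh (DRing.LBaseChange φ) (αB φ) E hE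
  infer_instance

lemma isIso_α₂_app (E : Cx A) (hE : KFlat E) :
    IsIso ((α₂ φ).app ((HomotopyCategory.quotient _ _).obj E)) := by
  rw [α₂_app]
  haveI : IsIso ((αL (Spec.map (CommRingCat.ofHom φ))).app
      (((tilde.functor (CommRingCat.of A)).mapHomotopyCategory (ComplexShape.up ℤ)).obj
        ((HomotopyCategory.quotient _ _).obj E))) := by
    let e : ((tilde.functor (CommRingCat.of A)).mapHomotopyCategory (ComplexShape.up ℤ)).obj
        ((HomotopyCategory.quotient _ _).obj E) ≅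
        (HomotopyCategory.quotient _ _).obj
          (((tilde.functor (CommRingCat.of A)).mapHomologicalComplex (ComplexShape.up ℤ)).obj E) :=
      ((tilde.functor (CommRingCat.of A)).mapHomotopyCategoryFactors (ComplexShape.up ℤ)).app E
    exact (NatTrans.isIso_app_iff_of_iso (αL (Spec.map (CommRingCat.ofHom φ))) e).2
      (isIso_αL (Spec.map (CommRingCat.ofHom φ)) _ (skf_tilde E hE))
  infer_instance

lemma acyclic_Ψ (E : Cx A) (hE : KFlat E) (hac : E.Acyclic) :
    (((Ψ φ).mapHomologicalComplex (ComplexShape.up ℤ)).obj E).Acyclic := by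
  have h1 := (acyc_iff_exactAt _).1
    (Groth.Agent.H4.TC13.acyc_extendScalars φ E hE ((acyc_iff_exactAt _).2 hac))
  intro i
  exact exactAt_map (tilde.functor (CommRingCat.of B))
    (((ModuleCat.extendScalars.{u, u, u} φ).mapHomologicalComplex (ComplexShape.up ℤ)).obj E) i (h1 i)

theorem S1055 : Nonempty (DRing.LBaseChange φ ⋙ DCoh.tildeD (CommRingCat.of B) ≅
    DCoh.tildeD (CommRingCat.of A) ⋙ DCoh.Lpull (Spec.map (CommRingCat.ofHom φ))) :=
  nonempty_iso_of_isIso_app (Ψ φ) adm_kflatR hasResCx_kflatR (acyclic_Ψ φ)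
    (DRing.LBaseChange φ ⋙ DCoh.tildeD (CommRingCat.of B))
    (DCoh.tildeD (CommRingCat.of A) ⋙ DCoh.Lpull (Spec.map (CommRingCat.ofHom φ)))
    (α₁ φ) (α₂ φ) (isIso_α₁_app φ) (isIso_α₂_app φ)

end Main

end Groth.Agent.H4.LDS22
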