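import Mathlib
import Groth.Prelude.Def_PerfD
import Groth.Agent.H4.LDS18
import Groth.Agent.H4.LDS22
import Groth.Agent.H4.TilD2
import Groth.Agent.Lib.Helper8.DRankBC

set_option autoImplicit false
universe u
open CategoryTheory CategoryTheory.Limits AlgebraicGeometry TopologicalSpace Opposite ZeroObject
attribute [local instance] HasDerivedCategory.standard

namespace Groth.Agent.H4.Betti1

open Groth.Agent.H4.LDS14 Groth.Agent.H4.LDS15 Groth.Agent.H4.LDS16 Groth.Agent.H4.LDS17
open Groth.Agent.H4.LDS18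
open Groth.Agent.H4.PSch1 Groth.Agent.H4.PSch2 Groth.Agent.H4.PSch3 DerivedCategory
open Groth.Agent.H4.TilD9 Groth.Agent.H4.TilD10 Groth.Agent.H4.TilD2

variable {X U Z : Scheme.{u}}

/-- B1 -/
noncomputable def lpullFacIso (i : Z ⟶ X) (f : Z ⟶ U) (j : U ⟶ X) [IsOpenImmersion j]
    (h : i = f ≫ j) [DCoh.HasLpull i] [DCoh.HasLpull f] (E : DCoh.D X) :
    (DCoh.Lpull i).obj E ≅ (DCoh.Lpull f).obj ((RD j).obj E) :=
  haveI := hasLpull j
  haveI := hasLpull (f ≫ j)
  (lpullCongr h).app E ≪≫ ((lpullComp f j).app E).symm ≪≫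
    (DCoh.Lpull f).mapIso ((lpullIsoRD j).app E)

/-- B2 -/
noncomputable def hdIsoOfWit (f : Z ⟶ U) [DCoh.HasLpull f] {A B : DCoh.D U} (α : A ⟶ B) (m p : ℤ)
    (hmp : m < p) (hα : IsWitD m α) :
    DCoh.HD ((DCoh.Lpull f).obj A) p ≅ DCoh.HD ((DCoh.Lpull f).obj B) p :=
  haveI : IsIso ((homologyFunctor Z.Modules p).map ((DCoh.Lpull f).map α)) :=
    ((isWitD_iff _).1 (isWitD_lpull_map f α m hα)).1 p hmp
  asIso ((homologyFunctor Z.Modules p).map ((DCoh.Lpull f).map α))


section B3
open Groth.Agent.H4.LDS22 Groth.Agent.H4.TC3 Groth.Agent.H4.TC4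
variable {A B : Type u} [CommRing A] [CommRing B] (ψ : A →+* B)

/-- termwise: pullback of a tilde complex is the tilde of the extended complex -/
noncomputable def pullTildeCxIso (P : Cx A) :
    (pullCx (Spec.map (CommRingCat.ofHom ψ))).obj ((tildeCx (CommRingCat.of A)).obj P) ≅
      (tildeCx (CommRingCat.of B)).obj
        (((ModuleCat.extendScalars.{u, u, u} ψ).mapHomologicalComplex (ComplexShape.up ℤ)).obj P) :=
  HomologicalComplex.Hom.isoOfComponents (fun i => (θ ψ).app (P.X i))
    (fun i j _ => ((θ ψ).hom.naturality (P.d i j)).symm)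

/-- B3 -/
noncomputable def lpullTildeIso [DCoh.HasLpull (Spec.map (CommRingCat.ofHom ψ))] (P : Cx A)
    (hP : KFlat P) :
    (DCoh.Lpull (Spec.map (CommRingCat.ofHom ψ))).obj
        (Q.obj ((tildeCx (CommRingCat.of A)).obj P)) ≅
      Q.obj ((tildeCx (CommRingCat.of B)).obj
        (((ModuleCat.extendScalars.{u, u, u} ψ).mapHomologicalComplex (ComplexShape.up ℤ)).obj P)) :=
  lpullObjIso _ _ (skf_tilde P hP) ≪≫ Q.mapIso (pullTildeCxIso ψ P)

end B3

section B4
variable (B : CommRingCat.{u})

/-- B4 -/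
noncomputable def hdTildeIso (N : CochainComplex (ModuleCat.{u} B) ℤ) (p : ℤ) :
    DCoh.HD (Q.obj ((tildeCx B).obj N)) p ≅ (tilde.functor B).obj (N.homology p) :=
  (homologyFunctorFactors _ p).app _ ≪≫
    (N.sc p).mapHomologyIso (tilde.functor B)
end B4





section B5
variable (B : CommRingCat.{u})

lemma finrank_sections_of_iso {M M' : (Spec B).Modules} (e : M ≅ M') :
    Module.finrank (Coh.Γtop (Spec B)) (M.val.obj (op ⊤)) =
      Module.finrank (Coh.Γtop (Spec B)) (M'.val.obj (op ⊤)) :=
  (((SheafOfModules.evaluation _ (op ⊤)).mapIso e).toLinearEquiv).finrank_eq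
end B5

section B5'

variable (B : CommRingCat.{u})

lemma finrank_sections_tilde (N : ModuleCat.{u} B) :
    Module.finrank (Coh.Γtop (Spec B)) (((tilde.functor B).obj N).val.obj (op ⊤)) =
      Module.finrank B N := by
  have e := tilde.isoTop N
  rw [e.toLinearEquiv.finrank_eq]
  unfold Module.finrank
  congr 1
  symm
  refine rank_eq_of_equiv_equiv (R := B) (R' := Coh.Γtop (Spec B))
    (M := ((modulesSpecToSheaf.obj (tilde N)).presheaf.obj (op ⊤)))
    (M₁ := (((tilde.functor B).obj N).val.obj (op ⊤)))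
    (fun r => (Scheme.ΓSpecIso B).inv.hom r) (AddEquiv.refl _) ?_ ?_
  · exact (ConcreteCategory.bijective_of_isIso (Scheme.ΓSpecIso B).inv)
  · intro r m
    have : ∀ (s : Coh.Γtop (Spec B)), (Spec B).ringCatSheaf.obj.map ((Limits.initialOpOfTerminal Limits.isTerminalTop).to (op ⊤)) s = s := by
      intro s
      have h1 : (Limits.initialOpOfTerminal (Limits.isTerminalTop (α := (Spec B).Opens))).to (op ⊤) = 𝟙 _ := Subsingleton.elim _ _
      rw [h1, CategoryTheory.Functor.map_id]
      rfl
    have h2 := this ((Scheme.ΓSpecIso B).inv.hom r)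
    exact congrArg (fun s : Coh.Γtop (Spec B) =>
      (s • (show ↑(((tilde.functor B).obj N).val.obj (op ⊤)) from m))) h2

end B5'

section B6

variable {X : Scheme.{u}} (R : Type u) [CommRing R] (j : Spec (CommRingCat.of R) ⟶ X)
  [IsOpenImmersion j] (q : Spec (CommRingCat.of R))

/-- the comparison of residue fields -/
noncomputable def σ : CommRingCat.of q.asIdeal.ResidueField ≅ X.residueField (j.base q) :=
  (Scheme.Spec.residueFieldIso (CommRingCat.of R) q).symm ≪≫ (asIso (j.residueFieldMap q)).symm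

lemma fromSpecResidueField_fac :
    X.fromSpecResidueField (j.base q) =
      Spec.map (CommRingCat.ofHom (algebraMap R q.asIdeal.ResidueField) ≫ (σ R j q).hom) ≫ j := by
  have h1 := Scheme.Hom.SpecMap_residueFieldMap_fromSpecResidueField j q
  have h2 := Scheme.Spec.map_residueFieldIso_inv_eq_fromSpecResidueField (CommRingCat.of R) q
  rw [← h2] at h1
  simp only [σ, Iso.trans_hom, Iso.symm_hom, asIso_inv, Spec.map_comp, Category.assoc]
  rw [Category.assoc] at h1
  erw [← h1]
  rw [← Spec.map_comp_assoc, IsIso.hom_inv_id, Spec.map_id, Category.id_comp]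


section
variable {K K' : Type u} [Field K] [Field K']

lemma finrank_homology_ext_field (ψ : K →+* K') {ι : Type*} {c : ComplexShape ι}
    (Q : HomologicalComplex (ModuleCat.{u} K) c) (p : ι) :
    Module.finrank K' ((((ModuleCat.extendScalars.{u, u, u} ψ).mapHomologicalComplex c).obj Q).homology p) =
      Module.finrank K (Q.homology p) := by
  have := Groth.Agent.H8.DRank.preservesHomology_extendScalars_field ψ
  have e : (((ModuleCat.extendScalars.{u, u, u} ψ).mapHomologicalComplex c).obj Q).homology p ≅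
      (ModuleCat.extendScalars.{u, u, u} ψ).obj (Q.homology p) :=
    (Q.sc p).mapHomologyIso (ModuleCat.extendScalars.{u, u, u} ψ)
  rw [e.toLinearEquiv.finrank_eq]
  exact Groth.Agent.H8.DRank.finrank_extendScalars_field ψ _

lemma finrank_homology_ext_comp {A : Type u} [CommRing A] (f : A →+* K) (ψ : K →+* K')
    {ι : Type*} {c : ComplexShape ι}
    (P : HomologicalComplex (ModuleCat.{u} A) c) (p : ι) :
    Module.finrank K' ((((ModuleCat.extendScalars.{u, u, u} (ψ.comp f)).mapHomologicalComplex c).obj P).homology p) =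
      Module.finrank K ((((ModuleCat.extendScalars.{u, u, u} f).mapHomologicalComplex c).obj P).homology p) := by
  rw [← finrank_homology_ext_field ψ]
  have e := (NatIso.mapHomologicalComplex (ModuleCat.extendScalarsComp f ψ) c).app P
  exact ((HomologicalComplex.homologyFunctor _ c p).mapIso e).toLinearEquiv.finrank_eq
end

variable {X : Scheme.{u}} (x : X) (R : Type u) [CommRing R] (q : PrimeSpectrum R)
  (σ : CommRingCat.of q.asIdeal.ResidueField ≅ X.residueField x)
  (P : CochainComplex (ModuleCat.{u} R) ℤ) (p : ℤ)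

lemma B6 :
    Module.finrank (X.residueField x) ((((ModuleCat.extendScalars.{u, u, u} (CommRingCat.ofHom (algebraMap R q.asIdeal.ResidueField) ≫ σ.hom).hom).mapHomologicalComplex (ComplexShape.up ℤ)).obj P).homology p) =
    Module.finrank q.asIdeal.ResidueField ((((ModuleCat.extendScalars.{u, u, u} (algebraMap R q.asIdeal.ResidueField)).mapHomologicalComplex (ComplexShape.up ℤ)).obj P).homology p) := by
  exact finrank_homology_ext_comp (K := q.asIdeal.ResidueField) (K' := X.residueField x) (algebraMap R q.asIdeal.ResidueField) σ.hom.hom P p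


end B6

section Main
open Groth.Agent.H4.TC3 Groth.Agent.H4.TC4

theorem betti_eq {X : Scheme.{u}} (R : Type u) [CommRing R] (j : Spec (CommRingCat.of R) ⟶ X)
    [IsOpenImmersion j] [∀ x : X, DCoh.HasLpull (X.fromSpecResidueField x)]
    (E : DCoh.D X) (P : Cx R) (hP : KFlat P) (p : ℤ)
    (α : Q.obj ((tildeCx (CommRingCat.of R)).obj P) ⟶ (RD j).obj E) (hα : IsWitD (p - 1) α)
    (q : Spec (CommRingCat.of R)) :
    PerfD.betti E (j.base q) p = Module.finrank q.asIdeal.ResidueField
      ((((ModuleCat.extendScalars.{u, u, u} (algebraMap R q.asIdeal.ResidueField)).mapHomologicalComplex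
        (ComplexShape.up ℤ)).obj P).homology p) := by
  unfold PerfD.betti
  let ψ : R →+* ↑(X.residueField (j.base q)) :=
    (CommRingCat.ofHom (algebraMap R q.asIdeal.ResidueField) ≫ (σ R j q).hom).hom
  let f : Spec (X.residueField (j.base q)) ⟶ Spec (CommRingCat.of R) :=
    Spec.map (CommRingCat.ofHom ψ)
  have hfac : X.fromSpecResidueField (j.base q) = f ≫ j := fromSpecResidueField_fac R j q
  haveI := hasLpull f
  let iso1 := lpullFacIso (X.fromSpecResidueField (j.base q)) f j hfac E
  let iso2 := hdIsoOfWit f α (p - 1) p (by omega) hα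
  haveI : DCoh.HasLpull (Spec.map (CommRingCat.ofHom ψ)) := hasLpull _
  let iso3 := lpullTildeIso ψ P hP
  let iso4 := hdTildeIso (X.residueField (j.base q))
    (((ModuleCat.extendScalars.{u, u, u} ψ).mapHomologicalComplex (ComplexShape.up ℤ)).obj P) p
  let iso : DCoh.HD ((DCoh.Lpull (X.fromSpecResidueField (j.base q))).obj E) p ≅ _ :=
    (homologyFunctor _ p).mapIso iso1 ≪≫ iso2.symm ≪≫ (homologyFunctor _ p).mapIso iso3 ≪≫ iso4
  rw [finrank_sections_of_iso _ iso, finrank_sections_tilde]
  exact B6 (j.base q) R q (σ R j q) P p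

end Main

end Groth.Agent.H4.Betti1
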