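import Mathlib
import Groth.Prelude.Def_PerfD
import Groth.Agent.Lib.Helper8.DRank

set_option autoImplicit false
universe u
open CategoryTheory CategoryTheory.Limits AlgebraicGeometry TopologicalSpace Opposite ZeroObject

namespace Groth.Agent.H4.Betti2

variable {R : Type u} [CommRing R]

/-- the `p`-th fibre Betti number of a cochain complex of `R`-modules -/
noncomputable def cb (P : CochainComplex (ModuleCat.{u} R) ℤ) (p : ℤ) (q : PrimeSpectrum R) : ℕ :=
  Module.finrank q.asIdeal.ResidueField
    ((((ModuleCat.extendScalars.{u, u, u} (algebraMap R q.asIdeal.ResidueField)).mapHomologicalComplex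
      (ComplexShape.up ℤ)).obj P).homology p)

/-- the chain complex associated to a cochain complex -/
noncomputable def chOf (P : CochainComplex (ModuleCat.{u} R) ℤ) : ChainComplex (ModuleCat.{u} R) ℤ :=
  (ComplexShape.embeddingDownIntUpInt.restrictionFunctor _).obj P

lemma dRank_chOf (P : CochainComplex (ModuleCat.{u} R) ℤ) (m : ℤ) (q : PrimeSpectrum R) :
    CohIII.dRank (chOf P) m q = cb P (-m) q := by
  unfold CohIII.dRank cb
  let K := ((ModuleCat.extendScalars.{u, u, u} (algebraMap R q.asIdeal.ResidueField)).mapHomologicalComplex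
      (ComplexShape.up ℤ)).obj P
  have e : (CohIII.bcCx (algebraMap R q.asIdeal.ResidueField) (chOf P)).homology m ≅ K.homology (-m) :=
    K.restrictionHomologyIso ComplexShape.embeddingDownIntUpInt (m + 1) m (m - 1) (by simp) (by simp)
      (i' := -m - 1) (j' := -m) (k' := -m + 1) (by simp; ring) (by simp) (by simp; ring) (by simp) (by simp)
  exact e.toLinearEquiv.finrank_eq

theorem isOpen_cb_lt (P : CochainComplex (ModuleCat.{u} R) ℤ)
    (hP : ∀ i, Module.Finite R (P.X i) ∧ Module.Projective R (P.X i)) (p : ℤ) (n : ℕ) :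
    IsOpen {q : PrimeSpectrum R | cb P p q < n} := by
  have h := Groth.Agent.H8.DRank.dRank_upperSemicontinuous (chOf P) (fun i => hP (-i)) (-p)
  rw [upperSemicontinuous_iff_isOpen_preimage] at h
  have h2 := h n
  have : {q : PrimeSpectrum R | cb P p q < n} = CohIII.dRank (chOf P) (-p) ⁻¹' Set.Iio n := by
    ext q
    simp only [Set.mem_setOf_eq, Set.mem_preimage, Set.mem_Iio, dRank_chOf, neg_neg]
  rw [this]; exact h2

end Groth.Agent.H4.Betti2
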