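import Mathlib
import Groth.Prelude.Def_PerfD
import Groth.Agent.H4.LDS18
import Groth.Agent.H4.TilD2
import Groth.Agent.H4.PCS4

set_option autoImplicit false
universe u
open CategoryTheory CategoryTheory.Limits AlgebraicGeometry TopologicalSpace Opposite ZeroObject
attribute [local instance] HasDerivedCategory.standard

namespace Groth.Agent.H4.Betti3

open Groth.Agent.H4.PSch1 Groth.Agent.H4.PSch2 Groth.Agent.H4.PSch3 DerivedCategory
open Groth.Agent.H4.TilD9 Groth.Agent.H4.TilD10 Groth.Agent.H4.TilD2 Groth.Agent.H4.PCS3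
  Groth.Agent.H4.PSch5 Groth.Agent.H4.PSch6 Groth.Agent.H4.PCS4

variable {X : Scheme.{u}}

/-- restriction of a derived-level witness to a smaller open -/
noncomputable def shrinkMap {K : DCoh.D X} {U V : Scheme.{u}} (j : U ⟶ X) (l : V ⟶ U)
    [IsOpenImmersion j] [IsOpenImmersion l]
    (E : CochainComplex U.Modules ℤ) (α : Q.obj E ⟶ (RD j).obj K) :
    Q.obj ((resCx l).obj E) ⟶ (RD (l ≫ j)).obj K :=
  (RDfac l E).inv ≫ (RD l).map α ≫ ((RDcomp l j).app K).inv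

lemma isWitD_shrinkMap {m : ℤ} {K : DCoh.D X} {U V : Scheme.{u}} (j : U ⟶ X) (l : V ⟶ U)
    [IsOpenImmersion j] [IsOpenImmersion l]
    (E : CochainComplex U.Modules ℤ) (α : Q.obj E ⟶ (RD j).obj K) (hα : IsWitD m α) :
    IsWitD m (shrinkMap j l E α) := by
  unfold shrinkMap
  rw [isWitD_iso_comp]
  exact hα.map _

instance isIso_shrinkMap {K : DCoh.D X} {U V : Scheme.{u}} (j : U ⟶ X) (l : V ⟶ U)
    [IsOpenImmersion j] [IsOpenImmersion l]
    (E : CochainComplex U.Modules ℤ) (α : Q.obj E ⟶ (RD j).obj K) [IsIso α] :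
    IsIso (shrinkMap j l E α) := by
  unfold shrinkMap
  infer_instance

theorem exists_affine_wit (m : ℤ) (E : DCoh.D X) {U : Scheme.{u}} (j : U ⟶ X) [IsOpenImmersion j]
    (P : CochainComplex U.Modules ℤ) (hP : DCoh.IsStrictlyPerfect P)
    (α : Q.obj P ⟶ (RD j).obj E) (hα : IsWitD m α) (u : U) :
    ∃ (R : Type u) (_ : CommRing R) (k : Spec (CommRingCat.of R) ⟶ X) (_ : IsOpenImmersion k)
      (q : Spec (CommRingCat.of R)) (PR : CochainComplex (ModuleCat.{u} R) ℤ)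
      (α' : Q.obj ((tildeCx (CommRingCat.of R)).obj PR) ⟶ (RD k).obj E),
      k.base q = j.base u ∧ (∀ i, Module.Finite R (PR.X i) ∧ Module.Projective R (PR.X i)) ∧
      (∃ a b : ℤ, ∀ i, (i < a ∨ b < i) → IsZero (PR.X i)) ∧ IsWitD m α' ∧ (IsIso α → IsIso α') := by
  obtain ⟨⟨a, b, hab⟩, hfree⟩ := hP
  obtain ⟨W', huW', hW'⟩ := exists_open_free P hfree u (Finset.Icc a b)
  let u' : (W' : Scheme.{u}) := ⟨u, huW'⟩
  obtain ⟨V, hV, huV, -⟩ := exists_isAffineOpen_mem_and_subset (x := u') (U := ⊤) trivial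
  let l' : Spec Γ((W' : Scheme.{u}), V) ⟶ (W' : Scheme.{u}) := hV.fromSpec
  obtain ⟨q, hq⟩ : ∃ q, l'.base q = u' := by
    have : u' ∈ Set.range l'.base := by rw [hV.range_fromSpec]; exact huV
    exact this
  -- first restriction: to `W'`
  let P₁ := (resCx W'.ι).obj P
  let α₁ := shrinkMap j W'.ι P α
  have hα₁ : IsWitD m α₁ := isWitD_shrinkMap j W'.ι P α hα
  have hfree₁ : ∀ n, ∃ k : ℕ, Nonempty (P₁.X n ≅ FlatMod.freeMod W' k) := by
    intro n
    by_cases hn : n ∈ Finset.Icc a b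
    · exact hW' n hn
    · have hz : IsZero (P.X n) := hab n (by rw [Finset.mem_Icc] at hn; omega)
      exact ⟨0, ⟨((Scheme.Modules.restrictFunctor W'.ι).map_isZero hz).iso
        (isZero_freeMod_zero _)⟩⟩
  -- second restriction: to the affine
  let P₂ := (resCx l').obj P₁
  let α₂ := shrinkMap (W'.ι ≫ j) l' P₁ α₁
  have hα₂ : IsWitD m α₂ := isWitD_shrinkMap (W'.ι ≫ j) l' P₁ α₁ hα₁
  have hfree₂ : ∀ n, ∃ k : ℕ, Nonempty (P₂.X n ≅ FlatMod.freeMod (Spec Γ((W' : Scheme.{u}), V)) k) := by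
    intro n
    obtain ⟨k, ⟨e⟩⟩ := hfree₁ n
    exact ⟨k, ⟨(Scheme.Modules.restrictFunctor l').mapIso e ≪≫ Groth.Agent.LD.QC.restrictFreeModIso l' k⟩⟩
  have hz₂ : ∀ n, (n < a ∨ b < n) → IsZero (P₂.X n) := fun n hn =>
    (Scheme.Modules.restrictFunctor l').map_isZero
      ((Scheme.Modules.restrictFunctor W'.ι).map_isZero (hab n hn))
  have hqc : ∀ n, (P₂.X n).IsQuasicoherent := by
    intro n
    obtain ⟨k, ⟨e⟩⟩ := hfree₂ n
    exact Groth.Agent.LD.QC.qc_of_iso e.symm inferInstance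
  haveI := isIso_counitCx P₂ hqc
  haveI : IsIso (Q.map (counitCx P₂)) := inferInstance
  refine ⟨Γ((W' : Scheme.{u}), V), inferInstance, l' ≫ W'.ι ≫ j, inferInstance, q,
    (gammaCx Γ((W' : Scheme.{u}), V)).obj P₂, Q.map (counitCx P₂) ≫ α₂, ?_, ?_, ⟨a, b, ?_⟩, ?_, ?_⟩
  · change j.base (W'.ι.base (l'.base q)) = _
    rw [hq]
    rfl
  · intro n
    obtain ⟨k, ⟨e⟩⟩ := hfree₂ n
    obtain ⟨e'⟩ := nonempty_gamma_freeMod_iso (B := Γ((W' : Scheme.{u}), V)) k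
    let ℓ : ((gammaCx Γ((W' : Scheme.{u}), V)).obj P₂).X n ≃ₗ[Γ((W' : Scheme.{u}), V)]
        (ULift.{u} (Fin k) →₀ Γ((W' : Scheme.{u}), V)) :=
      ((moduleSpecΓFunctor (R := Γ((W' : Scheme.{u}), V))).mapIso e ≪≫ e').toLinearEquiv
    exact ⟨Module.Finite.equiv ℓ.symm, Module.Projective.of_equiv ℓ.symm⟩
  · intro n hn
    exact (moduleSpecΓFunctor (R := Γ((W' : Scheme.{u}), V))).map_isZero (hz₂ n hn)
  · have := (isWitD_iso_comp (m := m) (Q.map (counitCx P₂)) α₂ (𝟙 _)).mpr hα₂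
    simpa using this
  · intro hi
    haveI := hi
    haveI : IsIso α₁ := isIso_shrinkMap j W'.ι P α
    haveI : IsIso α₂ := isIso_shrinkMap (W'.ι ≫ j) l' P₁ α₁
    infer_instance

end Groth.Agent.H4.Betti3
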