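import Mathlib
import Groth.Prelude.Def_PerfD
import Groth.Agent.H4.Betti1
import Groth.Agent.H4.Betti2
import Groth.Agent.H4.Betti3

set_option autoImplicit false
universe u
open CategoryTheory CategoryTheory.Limits AlgebraicGeometry TopologicalSpace Opposite ZeroObject
attribute [local instance] HasDerivedCategory.standard

namespace Groth.Agent.H4.Betti4

open Groth.Agent.H4.PSch1 Groth.Agent.H4.PSch2 Groth.Agent.H4.PSch3 DerivedCategory
open Groth.Agent.H4.TilD9 Groth.Agent.H4.TilD10 Groth.Agent.H4.TilD2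
open Groth.Agent.H4.Betti1 Groth.Agent.H4.Betti2 Groth.Agent.H4.Betti3
open Groth.Agent.H4.TC3 Groth.Agent.H4.TC4

variable {X : Scheme.{u}}

lemma kflat_of_fp {R : Type u} [CommRing R] (PR : CochainComplex (ModuleCat.{u} R) ℤ)
    (hfp : ∀ i, Module.Finite R (PR.X i) ∧ Module.Projective R (PR.X i))
    (a b : ℤ) (hz : ∀ i, (i < a ∨ b < i) → IsZero (PR.X i)) : KFlat PR :=
  Groth.Agent.H4.TC6.kflat_of_boundedAbove (P := PR) b (fun i hi => hz i (Or.inr hi))
    (fun i => by have := (hfp i).2; infer_instance)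

theorem isOpen_betti_lt [∀ x : X, DCoh.HasLpull (X.fromSpecResidueField x)]
    (E : DCoh.D X) (p : ℤ) (hE : DCoh.IsPseudoCoherentD (p - 1) E) (n : ℕ) :
    IsOpen {x : X | PerfD.betti E x p < n} := by
  rw [isOpen_iff_forall_mem_open]
  intro x hx
  obtain ⟨U, j, hj, P, α, ⟨u, rfl⟩, hP, hα⟩ := (isPseudoCoherentD_iff_pcAt _ E).1 hE x
  obtain ⟨R, _, k, _, q₀, PR, α', hk, hfp, ⟨a, b, hz⟩, hα', -⟩ :=
    exists_affine_wit (p - 1) E j P hP α hα u
  have hK : KFlat PR := kflat_of_fp PR hfp a b hz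
  have key : ∀ q : Spec (CommRingCat.of R), PerfD.betti E (k.base q) p = cb PR p q :=
    fun q => betti_eq R k E PR hK p α' hα' q
  refine ⟨k.base '' {q | cb PR p q < n}, ?_, ?_, ?_⟩
  · rintro _ ⟨q, hq, rfl⟩
    change PerfD.betti E (k.base q) p < n
    rw [key]; exact hq
  · exact k.isOpenEmbedding.isOpenMap _ (isOpen_cb_lt PR hfp p n)
  · refine ⟨q₀, ?_, hk⟩
    change cb PR p q₀ < n
    rw [← key]
    have : PerfD.betti E (j.base u) p < n := hx
    rw [hk]; exact this


section Euler

variable {R : Type u} [CommRing R]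

lemma cb_eq_zero (PR : CochainComplex (ModuleCat.{u} R) ℤ) (i : ℤ) (hz : IsZero (PR.X i))
    (q : PrimeSpectrum R) : cb PR i q = 0 := by
  unfold cb
  have h1 : IsZero ((((ModuleCat.extendScalars.{u, u, u}
      (algebraMap R q.asIdeal.ResidueField)).mapHomologicalComplex (ComplexShape.up ℤ)).obj PR).X i) :=
    (ModuleCat.extendScalars.{u, u, u} (algebraMap R q.asIdeal.ResidueField)).map_isZero hz
  have h2 : IsZero ((((ModuleCat.extendScalars.{u, u, u}
      (algebraMap R q.asIdeal.ResidueField)).mapHomologicalComplex (ComplexShape.up ℤ)).obj PR).homology i) :=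
    ShortComplex.isZero_homology_of_isZero_X₂ _ h1
  haveI : Subsingleton ((((ModuleCat.extendScalars.{u, u, u}
      (algebraMap R q.asIdeal.ResidueField)).mapHomologicalComplex (ComplexShape.up ℤ)).obj PR).homology i) :=
    ModuleCat.subsingleton_of_isZero h2
  exact Module.finrank_zero_of_subsingleton

/-- the Euler characteristic of the fibres of a bounded complex of finite projective modules -/
noncomputable def ce (PR : CochainComplex (ModuleCat.{u} R) ℤ) (a b : ℤ) (q : PrimeSpectrum R) : ℤ :=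
  (Finset.Icc a b).sum fun i => ((i.negOnePow : ℤˣ) : ℤ) * (cb PR i q : ℤ)

theorem isLocallyConstant_ce (PR : CochainComplex (ModuleCat.{u} R) ℤ)
    (hfp : ∀ i, Module.Finite R (PR.X i) ∧ Module.Projective R (PR.X i))
    (a b : ℤ) (hz : ∀ i, (i < a ∨ b < i) → IsZero (PR.X i)) :
    IsLocallyConstant (ce PR a b) := by
  have h := Groth.Agent.H8.DRank.euler_char_isLocallyConstant (chOf PR) (fun i => hfp (-i))
    ((Finset.Icc a b).image (fun i => -i)) (fun i hi => by
      refine hz (-i) ?_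
      by_contra hcon
      simp only [not_or, not_lt] at hcon
      exact hi (Finset.mem_image.2 ⟨-i, Finset.mem_Icc.2 hcon, by simp⟩))
  convert h using 2 with q
  unfold ce
  rw [Finset.sum_image (fun x _ y _ hxy => by simpa using hxy)]
  refine Finset.sum_congr rfl fun i _ => ?_
  rw [dRank_chOf, neg_neg, Int.negOnePow_neg]

end Euler

theorem eulerChar_eq [∀ x : X, DCoh.HasLpull (X.fromSpecResidueField x)]
    (E : DCoh.D X) {R : Type u} [CommRing R] (k : Spec (CommRingCat.of R) ⟶ X) [IsOpenImmersion k]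
    (PR : CochainComplex (ModuleCat.{u} R) ℤ)
    (hfp : ∀ i, Module.Finite R (PR.X i) ∧ Module.Projective R (PR.X i))
    (a b : ℤ) (hz : ∀ i, (i < a ∨ b < i) → IsZero (PR.X i))
    (α' : Q.obj ((tildeCx (CommRingCat.of R)).obj PR) ⟶ (RD k).obj E) [IsIso α']
    (q : Spec (CommRingCat.of R)) :
    PerfD.eulerChar E (k.base q) = ce PR a b q := by
  have hK : KFlat PR := kflat_of_fp PR hfp a b hz
  have key : ∀ i : ℤ, PerfD.betti E (k.base q) i = cb PR i q := fun i =>
    betti_eq R k E PR hK i α' ⟨fun _ _ => inferInstance, inferInstance⟩ q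
  unfold PerfD.eulerChar ce
  rw [finsum_eq_sum_of_support_subset (s := Finset.Icc a b)]
  · exact Finset.sum_congr rfl fun i _ => by rw [key]
  · intro i hi
    rw [Function.mem_support] at hi
    by_contra hcon
    apply hi
    rw [key, cb_eq_zero PR i (hz i (by
      rw [Finset.mem_coe, Finset.mem_Icc] at hcon; omega))]
    simp

theorem isLocallyConstant_eulerChar [∀ x : X, DCoh.HasLpull (X.fromSpecResidueField x)]
    (E : DCoh.D X) (hE : DCoh.IsPerfect E) :
    IsLocallyConstant (fun x : X => PerfD.eulerChar E x) := by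
  rw [IsLocallyConstant.iff_eventually_eq]
  intro x
  obtain ⟨U, j, hj, P, ⟨u, rfl⟩, hP, ⟨e⟩⟩ := (isPerfect_iff_perfAt E).1 hE x
  have hw : IsWitD 0 e.inv := ⟨fun _ _ => inferInstance, inferInstance⟩
  obtain ⟨R, _, k, _, q₀, PR, α', hk, hfp, ⟨a, b, hz⟩, -, hiso⟩ :=
    exists_affine_wit 0 E j P hP e.inv hw u
  haveI : IsIso α' := hiso inferInstance
  have key : ∀ q : Spec (CommRingCat.of R), PerfD.eulerChar E (k.base q) = ce PR a b q :=
    fun q => eulerChar_eq E k PR hfp a b hz α' q
  have hlc := isLocallyConstant_ce PR hfp a b hz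
  have hopen : IsOpen (k.base '' {q | ce PR a b q = ce PR a b q₀}) :=
    k.isOpenEmbedding.isOpenMap _ (hlc.isOpen_fiber _)
  have hmem : j.base u ∈ k.base '' {q | ce PR a b q = ce PR a b q₀} := ⟨q₀, rfl, hk⟩
  filter_upwards [hopen.mem_nhds hmem] with y hy
  obtain ⟨q, hq, rfl⟩ := hy
  rw [key, ← hk, key]
  exact hq

end Groth.Agent.H4.Betti4
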