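import Mathlib
set_option autoImplicit false
universe u v
namespace Groth.Agent.H4.BigProj
open Submodule

section Coords
variable {R : Type u} [CommRing R] {P : Type v} [AddCommGroup P] [Module R P]

/-- if all linear forms send `p` into `𝔞` then `p ∈ 𝔞 P` (projective `P`) -/
theorem mem_smul_top_of_forms [Module.Projective R P] (𝔞 : Ideal R) (p : P)
    (h : ∀ φ : P →ₗ[R] R, φ p ∈ 𝔞) : p ∈ 𝔞 • (⊤ : Submodule R P) := by
  obtain ⟨σ, hσ⟩ := Module.Projective.out (R := R) (P := P)
  have h1 : p = Finsupp.linearCombination R id (σ p) := (hσ p).symm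
  rw [h1, Finsupp.linearCombination_apply, Finsupp.sum]
  refine Submodule.sum_mem _ (fun b _ => ?_)
  refine Submodule.smul_mem_smul ?_ Submodule.mem_top
  exact h ((Finsupp.lapply b) ∘ₗ σ)

theorem form_mem_of_mem_smul_top (𝔞 : Ideal R) (p : P) (hp : p ∈ 𝔞 • (⊤ : Submodule R P))
    (φ : P →ₗ[R] R) : φ p ∈ 𝔞 := by
  have : (𝔞 • (⊤ : Submodule R P)).map φ ≤ 𝔞 := by
    rw [Submodule.map_smul'']
    intro x hx
    refine Submodule.smul_induction_on hx (fun a ha y _ => ?_) (fun x y hx hy => 𝔞.add_mem hx hy)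
    exact 𝔞.mul_mem_right _ ha
  exact this (Submodule.mem_map_of_mem hp)

/-- Nakayama for projective modules without finiteness (Bass) -/
theorem eq_zero_of_top_le_smul [Module.Projective R P] (𝔞 : Ideal R) (h𝔞 : 𝔞 ≤ Ideal.jacobson ⊥)
    (hP : (⊤ : Submodule R P) ≤ 𝔞 • ⊤) (p : P) : p = 0 := by
  classical
  obtain ⟨σ, hσ⟩ := Module.Projective.out (R := R) (P := P)
  have hcoord : ∀ (b c : P), σ b c ∈ 𝔞 := fun b c =>
    form_mem_of_mem_smul_top 𝔞 b (hP Submodule.mem_top) ((Finsupp.lapply c) ∘ₗ σ)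
  let S := (σ p).support
  let a : Ideal R := Ideal.span ((fun c => σ p c) '' (S : Set P))
  have hafg : a.FG := by
    refine ⟨S.image (fun c => σ p c), ?_⟩
    simp [a]
  have hp : p = ∑ b ∈ S, σ p b • b := by
    have h1 : p = Finsupp.linearCombination R id (σ p) := (hσ p).symm
    rw [Finsupp.linearCombination_apply, Finsupp.sum] at h1
    exact h1
  have hle : a ≤ 𝔞 • a := by
    rw [Ideal.span_le]
    rintro _ ⟨c, hc, rfl⟩
    have h2 : σ p c = ∑ b ∈ S, σ p b * σ b c := by
      conv_lhs => rw [hp]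
      rw [map_sum, Finsupp.finsetSum_apply]
      refine Finset.sum_congr rfl (fun b _ => ?_)
      rw [map_smul, Finsupp.smul_apply, smul_eq_mul]
    show σ p c ∈ 𝔞 • a
    rw [h2]
    refine Submodule.sum_mem _ (fun b hb => ?_)
    rw [mul_comm]
    exact Submodule.smul_mem_smul (hcoord b c) (Ideal.subset_span ⟨b, hb, rfl⟩)
  have ha0 : a = ⊥ := Submodule.eq_bot_of_le_smul_of_le_jacobson_bot 𝔞 a hafg hle h𝔞
  have hσp : σ p = 0 := by
    ext c
    by_cases hc : c ∈ S
    · have : σ p c ∈ a := Ideal.subset_span ⟨c, hc, rfl⟩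
      rw [ha0] at this
      simpa using this
    · simpa [S] using hc
  rw [← hσ p, hσp, map_zero]

end Coords


section Local
variable {R : Type u} [CommRing R] [IsLocalRing R]

theorem exists_form_eq_one {P : Type v} [AddCommGroup P] [Module R P] [Module.Projective R P]
    (p : P) (hp : p ∉ IsLocalRing.maximalIdeal R • (⊤ : Submodule R P)) :
    ∃ φ : P →ₗ[R] R, φ p = 1 := by
  by_contra hcon
  push Not at hcon
  apply hp
  refine mem_smul_top_of_forms _ p (fun φ => ?_)
  by_contra hφ
  have hu : IsUnit (φ p) := by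
    by_contra hnu
    exact hφ ((IsLocalRing.mem_maximalIdeal _).mpr hnu)
  obtain ⟨w, hw⟩ := hu
  apply hcon (((w⁻¹ : Rˣ) : R) • φ)
  rw [LinearMap.smul_apply, ← hw, smul_eq_mul, Units.inv_mul]

theorem finite_of_local : ∀ (n : ℕ) (P : Type v) [AddCommGroup P] [Module R P]
    [Module.Projective R P] (g : Fin n → P),
    (⊤ : Submodule R P) ≤ span R (Set.range g) ⊔ IsLocalRing.maximalIdeal R • ⊤ →
    Module.Finite R P := by
  intro n
  induction n with
  | zero =>
    intro P _ _ _ g hg
    have h0 : (⊤ : Submodule R P) ≤ IsLocalRing.maximalIdeal R • ⊤ := by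
      have : Set.range g = ∅ := Set.range_eq_empty g
      rw [this, Submodule.span_empty, bot_sup_eq] at hg
      exact hg
    haveI : Subsingleton P := ⟨fun x y => by
      rw [eq_zero_of_top_le_smul _ (IsLocalRing.maximalIdeal_le_jacobson ⊥) h0 x,
        eq_zero_of_top_le_smul _ (IsLocalRing.maximalIdeal_le_jacobson ⊥) h0 y]⟩
    infer_instance
  | succ n ih =>
    intro P _ _ _ g hg
    by_cases hp : g (Fin.last n) ∈ IsLocalRing.maximalIdeal R • (⊤ : Submodule R P)
    · refine ih P (fun i => g (Fin.castSucc i)) (hg.trans ?_)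
      refine sup_le ?_ le_sup_right
      rw [Submodule.span_le]
      rintro _ ⟨i, rfl⟩
      refine Fin.lastCases ?_ (fun j => ?_) i
      · exact Submodule.mem_sup_right hp
      · exact Submodule.mem_sup_left (Submodule.subset_span ⟨j, rfl⟩)
    · obtain ⟨φ, hφ⟩ := exists_form_eq_one (g (Fin.last n)) hp
      set p := g (Fin.last n) with hpdef
      let K := LinearMap.ker φ
      let q : P →ₗ[R] K := LinearMap.codRestrict K (LinearMap.id - φ.smulRight p) (fun y => by
        rw [LinearMap.mem_ker]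
        simp [hφ])
      have hqK : ∀ k : K, q k.1 = k := by
        intro k
        apply Subtype.ext
        have : φ k.1 = 0 := k.2
        simp [q, this]
      haveI : Module.Projective R K :=
        Module.Projective.of_split K.subtype q (LinearMap.ext hqK)
      have hqp : q p = 0 := by
        apply Subtype.ext
        simp [q, hφ]
      have hK : Module.Finite R K := by
        refine ih K (fun i => q (g (Fin.castSucc i))) ?_
        intro k _
        have h1 : k.1 ∈ span R (Set.range g) ⊔ IsLocalRing.maximalIdeal R • (⊤ : Submodule R P) :=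
          hg Submodule.mem_top
        have h2 := Submodule.mem_map_of_mem (f := q) h1
        rw [hqK, Submodule.map_sup, Submodule.map_span, Submodule.map_smul''] at h2
        have hle : span R (q '' Set.range g) ⊔
            IsLocalRing.maximalIdeal R • Submodule.map q (⊤ : Submodule R P) ≤
            span R (Set.range fun i => q (g (Fin.castSucc i))) ⊔
            IsLocalRing.maximalIdeal R • (⊤ : Submodule R K) := by
          refine sup_le_sup ?_ (Submodule.smul_mono le_rfl le_top)
          rw [Submodule.span_le]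
          rintro _ ⟨_, ⟨i, rfl⟩, rfl⟩
          refine Fin.lastCases ?_ (fun j => ?_) i
          · rw [← hpdef, hqp]
            exact Submodule.zero_mem _
          · exact Submodule.subset_span ⟨j, rfl⟩
        exact hle h2
      let Ψ : (R × K) →ₗ[R] P := LinearMap.coprod (LinearMap.toSpanSingleton R P p) K.subtype
      have hΨ : Function.Surjective Ψ := by
        intro y
        refine ⟨(φ y, q y), ?_⟩
        simp [Ψ, q]
      exact Module.Finite.of_surjective Ψ hΨ

end Local


section Loc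
variable {R : Type u} [CommRing R] {P : Type u} [AddCommGroup P] [Module R P]

/-- (B'): a projective module that is finitely generated modulo a maximal ideal `x` has finitely
generated localization at `x`. -/
theorem finite_localization_of_top_le [Module.Projective R P] (x : Ideal R) [x.IsMaximal]
    (n : ℕ) (g : Fin n → P) (hg : (⊤ : Submodule R P) ≤ span R (Set.range g) ⊔ x • ⊤) :
    Module.Finite (Localization.AtPrime x) (LocalizedModule x.primeCompl P) := by
  let S := x.primeCompl
  let Rx := Localization.AtPrime x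
  let Px := LocalizedModule S P
  let g' : Fin n → Px := fun i => LocalizedModule.mkLinearMap S P (g i)
  refine finite_of_local n Px g' ?_
  let T : Submodule Rx Px := span Rx (Set.range g') ⊔ IsLocalRing.maximalIdeal Rx • ⊤
  have hkey : span R (Set.range g) ⊔ x • (⊤ : Submodule R P) ≤
      (T.restrictScalars R).comap (LocalizedModule.mkLinearMap S P) := by
    refine sup_le ?_ ?_
    · rw [Submodule.span_le]
      rintro _ ⟨i, rfl⟩
      show LocalizedModule.mkLinearMap S P (g i) ∈ T
      exact Submodule.mem_sup_left (Submodule.subset_span ⟨i, rfl⟩)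
    · rw [Submodule.smul_le]
      intro a ha p _
      show LocalizedModule.mkLinearMap S P (a • p) ∈ T
      rw [map_smul, ← algebraMap_smul Rx a]
      refine Submodule.mem_sup_right (Submodule.smul_mem_smul ?_ Submodule.mem_top)
      exact (IsLocalization.AtPrime.to_map_mem_maximal_iff Rx x a).mpr ha
  intro y _
  induction y using LocalizedModule.induction_on with
  | h p t =>
    have h1 : LocalizedModule.mkLinearMap S P p ∈ T := hkey (hg Submodule.mem_top)
    have h2 : LocalizedModule.mk p t = (Localization.mk 1 t : Rx) • LocalizedModule.mkLinearMap S P p := by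
      rw [LocalizedModule.mkLinearMap_apply, LocalizedModule.mk_smul_mk, one_smul, mul_one]
    rw [h2]
    exact T.smul_mem _ h1

end Loc


section Bass
variable {R : Type u} [CommRing R] {P : Type u} [AddCommGroup P] [Module R P]

/-- the order ideal of `p`: values of linear forms at `p` -/
def ord (R : Type u) [CommRing R] {P : Type u} [AddCommGroup P] [Module R P] (p : P) : Ideal R :=
  LinearMap.range (LinearMap.applyₗ p : (P →ₗ[R] R) →ₗ[R] R)

theorem mem_ord (p : P) (a : R) : a ∈ ord R p ↔ ∃ φ : P →ₗ[R] R, φ p = a := Iff.rfl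

theorem finite_localization_of_finset [Module.Projective R P] (x : Ideal R) [x.IsMaximal]
    (G : Finset P) (hg : (⊤ : Submodule R P) ≤ span R (G : Set P) ⊔ x • ⊤) :
    Module.Finite (Localization.AtPrime x) (LocalizedModule x.primeCompl P) := by
  classical
  refine finite_localization_of_top_le x G.card (fun i => (G.equivFin.symm i : P)) ?_
  have : Set.range (fun i => (G.equivFin.symm i : P)) = (G : Set P) := by
    ext y
    constructor
    · rintro ⟨i, rfl⟩
      exact (G.equivFin.symm i).2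
    · intro hy
      exact ⟨G.equivFin ⟨y, hy⟩, by simp⟩
  rw [this]
  exact hg

theorem bass_step [IsNoetherianRing (R ⧸ (⊥ : Ideal R).jacobson)] [Module.Projective R P]
    (hP : ∀ (m : Ideal R) [m.IsMaximal],
      ¬ Module.Finite (Localization.AtPrime m) (LocalizedModule m.primeCompl P))
    (s : P) (M : Submodule R P) (hM : Submodule.span R {s} ⊔ M = ⊤) (hs : ord R s ≠ ⊤) :
    ∃ m ∈ M, Ideal.map (Ideal.Quotient.mk (⊥ : Ideal R).jacobson) (ord R s) <
      Ideal.map (Ideal.Quotient.mk (⊥ : Ideal R).jacobson) (ord R (s + m)) := by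
  classical
  set J := (⊥ : Ideal R).jacobson with hJ
  obtain ⟨x, hx, hsx⟩ := Ideal.exists_le_maximal _ hs
  haveI := hx
  have hJx : J ≤ x := sInf_le ⟨bot_le, hx⟩
  -- (i) finitely many forms
  have hfg : (Submodule.span (R ⧸ J) ((Ideal.Quotient.mk J) '' (ord R s : Set R))).FG :=
    IsNoetherian.noetherian _
  rw [Submodule.fg_span_iff_fg_span_finset_subset] at hfg
  obtain ⟨T', hT'sub, hT'span⟩ := hfg
  have hT' : ∀ t : T', ∃ φ : P →ₗ[R] R, Ideal.Quotient.mk J (φ s) = t.1 := by
    intro t
    obtain ⟨a, ⟨φ, rfl⟩, ha⟩ := hT'sub t.2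
    exact ⟨φ, ha⟩
  choose φ hφ using hT'
  let A : Ideal R := Ideal.span (Set.range fun t : T' => φ t s)
  have hA : ∀ ψ : P →ₗ[R] R, ψ s ∈ A ⊔ J := by
    intro ψ
    have h1 : Ideal.Quotient.mk J (ψ s) ∈ Submodule.span (R ⧸ J) ((Ideal.Quotient.mk J) '' (ord R s : Set R)) :=
      Submodule.subset_span ⟨ψ s, ⟨ψ, rfl⟩, rfl⟩
    rw [hT'span] at h1
    have h2 : Submodule.span (R ⧸ J) (T' : Set (R ⧸ J)) = Ideal.map (Ideal.Quotient.mk J) A := by
      rw [Ideal.map_span]
      congr 1
      ext y
      constructor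
      · intro hy
        exact ⟨φ ⟨y, hy⟩ s, ⟨⟨y, hy⟩, rfl⟩, hφ ⟨y, hy⟩⟩
      · rintro ⟨_, ⟨t, rfl⟩, rfl⟩
        rw [hφ t]
        exact t.2
    rw [h2] at h1
    have h3 : ψ s ∈ Ideal.comap (Ideal.Quotient.mk J) (Ideal.map (Ideal.Quotient.mk J) A) := h1
    rw [Ideal.comap_map_of_surjective _ Ideal.Quotient.mk_surjective] at h3
    have : Ideal.comap (Ideal.Quotient.mk J) ⊥ = J := by
      rw [← RingHom.ker_eq_comap_bot, Ideal.mk_ker]
    rwa [this] at h3
  -- (ii) the map Φ
  let Φ : P →ₗ[R] (T' → R ⧸ J) := LinearMap.pi (fun t => (Submodule.mkQ J) ∘ₗ φ t)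
  have hΦ : ∀ p t, Φ p t = Ideal.Quotient.mk J (φ t p) := fun p t => rfl
  let M' : Submodule R P := M ⊓ LinearMap.ker Φ
  have hfg2 : (Submodule.span (R ⧸ J) (Φ '' (M : Set P))).FG := IsNoetherian.noetherian _
  rw [Submodule.fg_span_iff_fg_span_finset_subset] at hfg2
  obtain ⟨T'', hT''sub, hT''span⟩ := hfg2
  have hT'' : ∀ t : T'', ∃ m ∈ M, Φ m = t.1 := fun t => hT''sub t.2
  choose mm hmmM hmm using hT''
  have hdecomp : ∀ m ∈ M, ∃ m₀ ∈ Submodule.span R (Set.range mm), m - m₀ ∈ M' := by
    intro m hm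
    have h1 : Φ m ∈ Submodule.span (R ⧸ J) (Φ '' (M : Set P)) := Submodule.subset_span ⟨m, hm, rfl⟩
    rw [hT''span, Submodule.mem_span_finset] at h1
    obtain ⟨c, -, hc⟩ := h1
    choose c' hc' using fun y => Ideal.Quotient.mk_surjective (c y)
    refine ⟨∑ t : T'', c' t.1 • mm t, ?_, ?_, ?_⟩
    · exact Submodule.sum_mem _ (fun t _ => Submodule.smul_mem _ _ (Submodule.subset_span ⟨t, rfl⟩))
    · exact M.sub_mem hm (Submodule.sum_mem _ (fun t _ => M.smul_mem _ (hmmM t)))
    · show m - ∑ t : T'', c' t.1 • mm t ∈ LinearMap.ker Φ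
      rw [LinearMap.mem_ker, map_sub, map_sum, sub_eq_zero, ← hc, ← Finset.sum_coe_sort T'']
      refine Finset.sum_congr rfl (fun t _ => ?_)
      rw [map_smul, hmm t, ← hc' t.1]
      rfl
  -- (iii)
  have hsx' : s ∈ x • (⊤ : Submodule R P) :=
    mem_smul_top_of_forms x s (fun ψ => hsx ⟨ψ, rfl⟩)
  have hex : ∃ m ∈ M', s + m ∉ x • (⊤ : Submodule R P) := by
    by_contra hcon
    push Not at hcon
    have hM'x : M' ≤ x • (⊤ : Submodule R P) := by
      intro m hm
      have := (x • (⊤ : Submodule R P)).sub_mem (hcon m hm) hsx'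
      rwa [add_sub_cancel_left] at this
    apply hP x
    refine finite_localization_of_finset x (insert s (Finset.univ.image mm)) ?_
    intro y _
    have hy : y ∈ Submodule.span R {s} ⊔ M := by rw [hM]; trivial
    obtain ⟨y₁, hy₁, m, hm, rfl⟩ := Submodule.mem_sup.mp hy
    obtain ⟨m₀, hm₀, hmm₀⟩ := hdecomp m hm
    have e : y₁ + m = (y₁ + m₀) + (m - m₀) := by abel
    rw [e]
    refine Submodule.add_mem_sup (Submodule.add_mem _ ?_ ?_) (hM'x hmm₀)
    · refine (Submodule.span_mono ?_) hy₁
      intro z hz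
      rw [Set.mem_singleton_iff] at hz
      subst hz
      simp
    · refine (Submodule.span_mono ?_) hm₀
      rintro _ ⟨t, rfl⟩
      simp
  obtain ⟨m, hmM', hmx⟩ := hex
  refine ⟨m, hmM'.1, ?_⟩
  -- (iv)
  have hφm : ∀ t, φ t m ∈ J := by
    intro t
    have : Φ m = 0 := hmM'.2
    have h2 := congrFun this t
    rw [hΦ] at h2
    exact Ideal.Quotient.eq_zero_iff_mem.mp h2
  have hle : ord R s ≤ ord R (s + m) ⊔ J := by
    rintro _ ⟨ψ, rfl⟩
    have h1 : A ⊔ J ≤ ord R (s + m) ⊔ J := by
      refine sup_le ?_ le_sup_right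
      rw [Ideal.span_le]
      rintro _ ⟨t, rfl⟩
      have e : φ t s = φ t (s + m) - φ t m := by rw [map_add]; ring
      show φ t s ∈ ord R (s + m) ⊔ J
      rw [e]
      exact Submodule.sub_mem _ (Submodule.mem_sup_left ⟨φ t, rfl⟩) (Submodule.mem_sup_right (hφm t))
    exact h1 (hA ψ)
  have hmapJ : Ideal.map (Ideal.Quotient.mk J) J = ⊥ := Ideal.map_quotient_self J
  refine lt_of_le_of_ne ?_ ?_
  · calc Ideal.map (Ideal.Quotient.mk J) (ord R s)
        ≤ Ideal.map (Ideal.Quotient.mk J) (ord R (s + m) ⊔ J) := Ideal.map_mono hle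
      _ = Ideal.map (Ideal.Quotient.mk J) (ord R (s + m)) := by
        rw [Ideal.map_sup, hmapJ, sup_bot_eq]
  · intro heq
    have h1 : ord R (s + m) ≤ Ideal.comap (Ideal.Quotient.mk J) (Ideal.map (Ideal.Quotient.mk J) (ord R s)) := by
      rw [heq]
      exact Ideal.le_comap_map
    rw [Ideal.comap_map_of_surjective _ Ideal.Quotient.mk_surjective] at h1
    have hker : Ideal.comap (Ideal.Quotient.mk J) ⊥ = J := by
      rw [← RingHom.ker_eq_comap_bot, Ideal.mk_ker]
    rw [hker] at h1
    have h2 : ord R (s + m) ≤ x := h1.trans (sup_le hsx hJx)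
    apply hmx
    exact mem_smul_top_of_forms x (s + m) (fun ψ => h2 ⟨ψ, rfl⟩)

theorem span_add_sup_eq_top (s m : P) (M : Submodule R P) (hm : m ∈ M)
    (hM : Submodule.span R {s} ⊔ M = ⊤) : Submodule.span R {s + m} ⊔ M = ⊤ := by
  rw [eq_top_iff, ← hM]
  refine sup_le ?_ le_sup_right
  rw [Submodule.span_le, Set.singleton_subset_iff]
  have e : s = (s + m) - m := by abel
  have h : (s + m) - m ∈ Submodule.span R {s + m} ⊔ M :=
    Submodule.sub_mem _ (Submodule.mem_sup_left (Submodule.mem_span_singleton_self _))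
      (Submodule.mem_sup_right hm)
  rw [← e] at h
  exact h

theorem bass_aux [IsNoetherianRing (R ⧸ (⊥ : Ideal R).jacobson)] [Module.Projective R P]
    (hP : ∀ (m : Ideal R) [m.IsMaximal],
      ¬ Module.Finite (Localization.AtPrime m) (LocalizedModule m.primeCompl P))
    (M : Submodule R P) (I : Ideal (R ⧸ (⊥ : Ideal R).jacobson)) :
    ∀ (s : P), Submodule.span R {s} ⊔ M = ⊤ →
      Ideal.map (Ideal.Quotient.mk (⊥ : Ideal R).jacobson) (ord R s) = I →
      ∃ m ∈ M, ord R (s + m) = ⊤ := by
  induction I using WellFoundedGT.induction with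
  | ind I ih =>
    intro s hM hI
    by_cases hs : ord R s = ⊤
    · exact ⟨0, M.zero_mem, by rwa [add_zero]⟩
    · obtain ⟨m₁, hm₁, hlt⟩ := bass_step hP s M hM hs
      have hM' : Submodule.span R {s + m₁} ⊔ M = ⊤ := span_add_sup_eq_top s m₁ M hm₁ hM
      obtain ⟨m₂, hm₂, h⟩ := ih _ (hI ▸ hlt) (s + m₁) hM' rfl
      exact ⟨m₁ + m₂, M.add_mem hm₁ hm₂, by rwa [← add_assoc]⟩

theorem bass [IsNoetherianRing (R ⧸ (⊥ : Ideal R).jacobson)] [Module.Projective R P]
    (hP : ∀ (m : Ideal R) [m.IsMaximal],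
      ¬ Module.Finite (Localization.AtPrime m) (LocalizedModule m.primeCompl P))
    (s : P) (M : Submodule R P) (hM : Submodule.span R {s} ⊔ M = ⊤) :
    ∃ m ∈ M, ∃ φ : P →ₗ[R] R, φ (s + m) = 1 := by
  obtain ⟨m, hm, h⟩ := bass_aux hP M _ s hM rfl
  refine ⟨m, hm, ?_⟩
  have h1 : (1 : R) ∈ ord R (s + m) := by rw [h]; trivial
  exact h1

end Bass

end Groth.Agent.H4.BigProj
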