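import Mathlib
import Groth.Agent.H4.BigProj
set_option autoImplicit false
universe u
namespace Groth.Agent.H4.BigProj
open Submodule

section Good
variable {R : Type u} [CommRing R]

/-- infinite rank everywhere -/
def InfRank (R : Type u) [CommRing R] (P : Type u) [AddCommGroup P] [Module R P] : Prop :=
  ∀ (m : Ideal R) [m.IsMaximal],
    ¬ Module.Finite (Localization.AtPrime m) (LocalizedModule m.primeCompl P)

theorem infRank_of_surjective_prod {P P₁ N : Type u} [AddCommGroup P] [Module R P]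
    [AddCommGroup P₁] [Module R P₁] [AddCommGroup N] [Module R N] [Module.Finite R N]
    (f : N × P₁ →ₗ[R] P) (hf : Function.Surjective f) (h : InfRank R P) : InfRank R P₁ := by
  intro m hm hfin
  apply h m
  let S := m.primeCompl
  let F : (LocalizedModule S N × LocalizedModule S P₁) →ₗ[Localization S] LocalizedModule S P :=
    LinearMap.coprod (LocalizedModule.map S (f ∘ₗ LinearMap.inl R N P₁))
      (LocalizedModule.map S (f ∘ₗ LinearMap.inr R N P₁))
  have hF : Function.Surjective F := by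
    intro y
    induction y using LocalizedModule.induction_on with
    | h p t =>
      obtain ⟨⟨n, y⟩, rfl⟩ := hf p
      refine ⟨(LocalizedModule.mk n t, LocalizedModule.mk y t), ?_⟩
      simp only [F, LinearMap.coprod_apply, LocalizedModule.map_mk, LinearMap.comp_apply,
        LinearMap.inl_apply, LinearMap.inr_apply]
      rw [LocalizedModule.mk_add_mk, ← smul_add, LocalizedModule.mk_cancel_common_left, ← map_add]
      simp
  exact Module.Finite.of_surjective F hF

end Good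

section Lift
variable {R : Type u} [CommRing R]

/-- lifting property of a module `N`: any surjection `g : N → C` lifts to a split injection into
any big projective `P` surjecting onto `C`. -/
def LiftProp (R : Type u) [CommRing R] (N : Type u) [AddCommGroup N] [Module R N] : Prop :=
  ∀ (P : Type u) [AddCommGroup P] [Module R P] [Module.Projective R P], InfRank R P →
  ∀ (C : Type u) [AddCommGroup C] [Module R C] (q : P →ₗ[R] C) (g : N →ₗ[R] C),
    Function.Surjective q → Function.Surjective g →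
    ∃ (ι : N →ₗ[R] P) (ρ : P →ₗ[R] N), (∀ x, ρ (ι x) = x) ∧ ∀ x, q (ι x) = g x

theorem liftProp_of_subsingleton (N : Type u) [AddCommGroup N] [Module R N] [Subsingleton N] :
    LiftProp R N := by
  intro P _ _ _ _ C _ _ q g _ _
  exact ⟨0, 0, fun x => Subsingleton.elim _ _, fun x => by rw [Subsingleton.elim x 0]; simp⟩

theorem liftProp_equiv {N N' : Type u} [AddCommGroup N] [Module R N] [AddCommGroup N']
    [Module R N'] (e : N ≃ₗ[R] N') (h : LiftProp R N) : LiftProp R N' := by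
  intro P _ _ _ hP C _ _ q g hq hg
  obtain ⟨ι, ρ, h1, h2⟩ := h P hP C q (g ∘ₗ e.toLinearMap) hq (hg.comp e.surjective)
  refine ⟨ι ∘ₗ e.symm.toLinearMap, e.toLinearMap ∘ₗ ρ, ?_, ?_⟩
  · intro x; simp [h1]
  · intro x; simp [h2]

theorem liftProp_prod [IsNoetherianRing (R ⧸ (⊥ : Ideal R).jacobson)] {N : Type u}
    [AddCommGroup N] [Module R N] [Module.Projective R N] (h : LiftProp R N) :
    LiftProp R (R × N) := by
  intro P _ _ _ hP C _ _ q g hq hg
  let gN : N →ₗ[R] C := g ∘ₗ LinearMap.inr R R N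
  let c₀ : C := g (1, 0)
  have hg' : ∀ a x, g (a, x) = a • c₀ + gN x := by
    intro a x
    have : ((a, x) : R × N) = a • ((1 : R), (0 : N)) + ((0 : R), x) := by simp
    rw [this, map_add, map_smul]; rfl
  obtain ⟨p₀, hp₀⟩ := hq c₀
  let M : Submodule R P := (LinearMap.range gN).comap q
  have hM : span R {p₀} ⊔ M = ⊤ := by
    rw [eq_top_iff]
    intro x _
    obtain ⟨⟨a, y⟩, hay⟩ := hg (q x)
    have : x = a • p₀ + (x - a • p₀) := by abel
    rw [this]
    refine Submodule.add_mem_sup (Submodule.smul_mem _ _ (Submodule.mem_span_singleton_self _)) ?_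
    show q (x - a • p₀) ∈ LinearMap.range gN
    rw [map_sub, map_smul, hp₀, ← hay, hg']
    exact ⟨y, by abel⟩
  obtain ⟨m, hm, φ, hφ⟩ := bass hP p₀ M hM
  obtain ⟨b, hb⟩ : ∃ b, gN b = q m := hm
  obtain ⟨u, hu⟩ : ∃ u, u = p₀ + m := ⟨_, rfl⟩
  rw [← hu] at hφ
  have hqu : q u = c₀ + gN b := by rw [hu, map_add, hp₀, hb]
  -- the complement `P₁`
  let P₁ : Submodule R P := LinearMap.ker φ
  let π₁ : P →ₗ[R] P₁ := LinearMap.codRestrict P₁
    (LinearMap.id - (LinearMap.toSpanSingleton R P u) ∘ₗ φ) (by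
      intro x
      show φ _ = 0
      simp [hφ])
  have hπ₁ : ∀ x, (π₁ x : P) = x - φ x • u := fun x => rfl
  have hπ₁' : ∀ y : P₁, π₁ y = y := by
    intro y
    apply Subtype.ext
    rw [hπ₁]
    have : φ y = 0 := y.2
    rw [this, zero_smul, sub_zero]
  haveI : Module.Projective R P₁ :=
    Module.Projective.of_split P₁.subtype π₁ (by ext y; simp [hπ₁'])
  have hP₁ : InfRank R P₁ := by
    refine infRank_of_surjective_prod (N := R)
      (LinearMap.coprod (LinearMap.toSpanSingleton R P u) P₁.subtype) ?_ hP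
    intro x
    refine ⟨(φ x, π₁ x), ?_⟩
    simp [hπ₁]
  -- the quotient
  let D : Submodule R C := span R {q u}
  let q₁ : P₁ →ₗ[R] C ⧸ D := D.mkQ ∘ₗ q ∘ₗ P₁.subtype
  let g₁ : N →ₗ[R] C ⧸ D := D.mkQ ∘ₗ gN
  have hquD : ∀ a : R, D.mkQ (a • q u) = 0 := fun a =>
    (Submodule.Quotient.mk_eq_zero _).mpr
      (Submodule.smul_mem _ _ (Submodule.mem_span_singleton_self _))
  have hq₁ : Function.Surjective q₁ := by
    intro y
    obtain ⟨c, rfl⟩ := D.mkQ_surjective y
    obtain ⟨x, rfl⟩ := hq c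
    refine ⟨π₁ x, ?_⟩
    show D.mkQ (q (π₁ x : P)) = D.mkQ (q x)
    rw [hπ₁, map_sub, map_sub, map_smul, hquD, sub_zero]
  have hg₁ : Function.Surjective g₁ := by
    intro y
    obtain ⟨c, rfl⟩ := D.mkQ_surjective y
    obtain ⟨⟨a, x⟩, rfl⟩ := hg c
    refine ⟨x - a • b, ?_⟩
    show D.mkQ (gN (x - a • b)) = D.mkQ (g (a, x))
    have e : g (a, x) = gN (x - a • b) + a • q u := by
      rw [hg', hqu, map_sub, map_smul]
      module
    rw [e, map_add, hquD, add_zero]
  obtain ⟨ι₁, ρ₁, h1, h2⟩ := h P₁ hP₁ (C ⧸ D) q₁ g₁ hq₁ hg₁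
  -- the correction `d`
  have hd : ∃ d : N →ₗ[R] R, ∀ x, q (ι₁ x : P) = gN x + d x • q u := by
    let f : R →ₗ[R] D := LinearMap.codRestrict D (LinearMap.toSpanSingleton R C (q u))
      (fun a => Submodule.smul_mem _ _ (Submodule.mem_span_singleton_self _))
    have hf : Function.Surjective f := by
      rintro ⟨y, hy⟩
      obtain ⟨a, rfl⟩ := Submodule.mem_span_singleton.mp hy
      exact ⟨a, Subtype.ext rfl⟩
    let k : N →ₗ[R] D := LinearMap.codRestrict D (q ∘ₗ P₁.subtype ∘ₗ ι₁ - gN) (by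
      intro x
      have := h2 x
      have h3 : D.mkQ (q (ι₁ x : P)) = D.mkQ (gN x) := this
      rw [← sub_eq_zero, ← map_sub] at h3
      exact (Submodule.Quotient.mk_eq_zero _).mp h3)
    obtain ⟨d, hd⟩ := Module.projective_lifting_property f k hf
    refine ⟨d, fun x => ?_⟩
    have := congrArg (fun t : D => (t : C)) (LinearMap.congr_fun hd x)
    have h4 : d x • q u = q (ι₁ x : P) - gN x := this
    rw [h4]; abel
  obtain ⟨d, hd⟩ := hd
  have hφι₁ : ∀ z, φ (ι₁ z : P) = 0 := fun z => (ι₁ z).2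
  let ι' : N →ₗ[R] P := P₁.subtype ∘ₗ ι₁ - (LinearMap.toSpanSingleton R P u) ∘ₗ d
  have hι' : ∀ z, ι' z = (ι₁ z : P) - d z • u := fun z => rfl
  have hqι' : ∀ z, q (ι' z) = gN z := by
    intro z
    rw [hι', map_sub, map_smul, hd]; abel
  have hφι' : ∀ z, φ (ι' z) = - d z := by
    intro z
    rw [hι', map_sub, map_smul, hφι₁, hφ]; simp
  let ι : R × N →ₗ[R] P := LinearMap.coprod (LinearMap.toSpanSingleton R P (u - ι' b)) ι'
  have hι : ∀ a x, ι (a, x) = a • (u - ι' b) + ι' x := fun a x => rfl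
  let x' : P →ₗ[R] N := ρ₁ ∘ₗ π₁
  let a' : P →ₗ[R] R := φ + d ∘ₗ x'
  let ρ : P →ₗ[R] R × N := LinearMap.prod a' (x' + (LinearMap.toSpanSingleton R N b) ∘ₗ a')
  have hρ : ∀ p, ρ p = (φ p + d (ρ₁ (π₁ p)), ρ₁ (π₁ p) + (φ p + d (ρ₁ (π₁ p))) • b) := fun p => rfl
  refine ⟨ι, ρ, ?_, ?_⟩
  · rintro ⟨a, x⟩
    have e1 : φ (ι (a, x)) = a * (1 + d b) - d x := by
      rw [hι, map_add, map_smul, map_sub, hφι', hφι', hφ]
      simp; ring
    have e2 : π₁ (ι (a, x)) = ι₁ (x - a • b) := by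
      apply Subtype.ext
      rw [hπ₁, e1, hι, hι', hι', map_sub, map_smul]
      simp only [Submodule.coe_sub, Submodule.coe_smul]
      module
    rw [hρ, e1, e2, h1]
    refine Prod.ext ?_ ?_
    · simp; ring
    · simp
      module
  · rintro ⟨a, x⟩
    rw [hι, map_add, map_smul, map_sub, hqι', hqι', hqu, hg']
    module

theorem liftProp_fin [IsNoetherianRing (R ⧸ (⊥ : Ideal R).jacobson)] (n : ℕ) :
    LiftProp R (Fin n → R) := by
  induction n with
  | zero => exact liftProp_of_subsingleton _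
  | succ n ih =>
    exact liftProp_equiv (Fin.consLinearEquiv R (fun _ : Fin (n + 1) => R)) (liftProp_prod ih)

end Lift

section Main
variable {R : Type u} [CommRing R] {P : Type u} [AddCommGroup P] [Module R P]

/-- the algebraic core: given `α`, `β` with `β (α s) = s`, a split injection `ιw` and a map `V`
with `δ ∘ V = id + α ∘ ιw` where `δ = id - α ∘ β`, the element `s` lies in a free direct summand. -/
theorem core {n : ℕ} (α : P →ₗ[R] (Fin n → R)) (β : (Fin n → R) →ₗ[R] P) (s : P)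
    (hs : β (α s) = s)
    (ιw : (Fin n → R) →ₗ[R] P) (ρw : P →ₗ[R] (Fin n → R)) (hw : ∀ a, ρw (ιw a) = a)
    (V : (Fin n → R) →ₗ[R] (Fin n → R))
    (hV : ∀ a, V a - α (β (V a)) = a + α (ιw a)) :
    ∃ (ι : (Fin n → R) →ₗ[R] P) (ρ : P →ₗ[R] (Fin n → R)), (∀ a, ρ (ι a) = a) ∧
      s ∈ LinearMap.range ι := by
  let η : P →ₗ[R] (Fin n → R) := V ∘ₗ ρw
  have hη : ∀ a, η (ιw a) = V a := fun a => by simp [η, hw]
  let δ : (Fin n → R) →ₗ[R] (Fin n → R) := LinearMap.id - α ∘ₗ β
  have hδ : ∀ a, δ a = a - α (β a) := fun a => rfl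
  let ι : (Fin n → R) →ₗ[R] P := β - (ιw + β ∘ₗ V) ∘ₗ δ
  have hι : ∀ a, ι a = β a - (ιw (δ a) + β (V (δ a))) := fun a => rfl
  let ρ : P →ₗ[R] (Fin n → R) := α - η ∘ₗ (LinearMap.id - β ∘ₗ α)
  have hρ : ∀ p, ρ p = α p - η (p - β (α p)) := fun p => rfl
  refine ⟨ι, ρ, ?_, ?_⟩
  · intro a
    obtain ⟨b', hb'⟩ : ∃ b', b' = δ a := ⟨_, rfl⟩
    obtain ⟨w, hw'⟩ : ∃ w, w = ιw b' := ⟨_, rfl⟩
    obtain ⟨v, hv⟩ : ∃ v, v = V b' := ⟨_, rfl⟩
    have hηw : η w = v := by rw [hw', hv, hη]
    have hk : v - α (β v) = a - α (β a) + α w := by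
      rw [hv, hV b', hw', hb', hδ]
    have hp : ι a = β a - (w + β v) := by rw [hι, ← hb', ← hw', ← hv]
    have e1 : ι a - β (α (ι a)) = - w := by
      have : ι a - β (α (ι a)) = β (a - α (β a) + α w - (v - α (β v))) - w := by
        rw [hp]
        simp only [map_sub, map_add]
        abel
      rw [this, hk]; simp
    rw [hρ, e1, map_neg, hηw, hp]
    simp only [map_sub, map_add]
    have : α (β a) - (α w + α (β v)) - -v = a + ((v - α (β v)) - (a - α (β a) + α w)) := by abel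
    rw [this, hk]; simp
  · refine ⟨α s, ?_⟩
    have : δ (α s) = 0 := by rw [hδ, hs, sub_self]
    rw [hι, this]; simp [hs]

theorem exists_free_summand [IsNoetherianRing (R ⧸ (⊥ : Ideal R).jacobson)]
    [Module.Projective R P] (hP : InfRank R P) (s : P) :
    ∃ (n : ℕ) (ι : (Fin n → R) →ₗ[R] P) (ρ : P →ₗ[R] (Fin n → R)), (∀ a, ρ (ι a) = a) ∧
      s ∈ LinearMap.range ι := by
  classical
  obtain ⟨σ, hσ⟩ := Module.Projective.out (R := R) (P := P)
  let I₀ : Finset P := (σ s).support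
  let n := I₀.card
  let e : I₀ ≃ Fin n := I₀.equivFin
  let α : P →ₗ[R] (Fin n → R) := LinearMap.pi (fun j => (Finsupp.lapply ((e.symm j : I₀) : P)) ∘ₗ σ)
  have hα : ∀ p j, α p j = σ p ((e.symm j : I₀) : P) := fun p j => rfl
  let β : (Fin n → R) →ₗ[R] P := Fintype.linearCombination R (fun j => ((e.symm j : I₀) : P))
  have hβ : ∀ v, β v = ∑ j, v j • ((e.symm j : I₀) : P) := fun v => by
    simp [β, Fintype.linearCombination_apply]
  have hs : β (α s) = s := by
    rw [hβ]
    have h1 : ∑ j, α s j • ((e.symm j : I₀) : P) = ∑ i : I₀, σ s (i : P) • (i : P) :=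
      Equiv.sum_comp e.symm (fun i : I₀ => σ s (i : P) • (i : P))
    rw [h1, Finset.sum_coe_sort I₀ (fun i => σ s i • i)]
    have h2 := hσ s
    rw [Finsupp.linearCombination_apply, Finsupp.sum] at h2
    exact h2
  let δ : (Fin n → R) →ₗ[R] (Fin n → R) := LinearMap.id - α ∘ₗ β
  let D : Submodule R (Fin n → R) := LinearMap.range δ
  let q : P →ₗ[R] (Fin n → R) ⧸ D := D.mkQ ∘ₗ (-α)
  have hq : Function.Surjective q := by
    intro y
    obtain ⟨v, rfl⟩ := D.mkQ_surjective y
    refine ⟨-β v, ?_⟩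
    show D.mkQ ((-α) (-β v)) = D.mkQ v
    rw [← sub_eq_zero, ← map_sub]
    refine (Submodule.Quotient.mk_eq_zero _).mpr ?_
    refine ⟨-v, ?_⟩
    simp [δ]
    abel
  obtain ⟨ιw, ρw, hw, hw2⟩ := liftProp_fin n P hP _ q D.mkQ hq D.mkQ_surjective
  -- lift to `V`
  have hV : ∃ V : (Fin n → R) →ₗ[R] (Fin n → R), ∀ a, V a - α (β (V a)) = a + α (ιw a) := by
    let k : (Fin n → R) →ₗ[R] D := LinearMap.codRestrict D (LinearMap.id + α ∘ₗ ιw) (by
      intro a
      have h3 : D.mkQ ((-α) (ιw a)) = D.mkQ a := hw2 a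
      rw [← sub_eq_zero, ← map_sub] at h3
      have h4 := (Submodule.Quotient.mk_eq_zero _).mp h3
      have h5 := D.neg_mem h4
      have e : -((-α) (ιw a) - a) =
          (LinearMap.id + α ∘ₗ ιw : (Fin n → R) →ₗ[R] (Fin n → R)) a := by
        simp
      rwa [e] at h5)
    obtain ⟨V, hV⟩ := Module.projective_lifting_property δ.rangeRestrict k
      (LinearMap.surjective_rangeRestrict δ)
    refine ⟨V, fun a => ?_⟩
    have := congrArg (fun t : D => (t : Fin n → R)) (LinearMap.congr_fun hV a)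
    exact this
  obtain ⟨V, hV⟩ := hV
  obtain ⟨ι, ρ, h1, h2⟩ := core α β s hs ιw ρw hw V hV
  exact ⟨n, ι, ρ, h1, h2⟩

theorem exists_free_compl [IsNoetherianRing (R ⧸ (⊥ : Ideal R).jacobson)]
    [Module.Projective R P] (hP : InfRank R P) (s : P) :
    ∃ (K K' : Submodule R P), IsCompl K K' ∧ Module.Finite R K ∧ Module.Free R K ∧ s ∈ K := by
  obtain ⟨n, ι, ρ, h1, h2⟩ := exists_free_summand hP s
  have hinj : Function.Injective ι := Function.LeftInverse.injective h1
  let e : (Fin n → R) ≃ₗ[R] LinearMap.range ι := LinearEquiv.ofInjective ι hinj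
  refine ⟨LinearMap.range ι, LinearMap.ker ρ, ?_, Module.Finite.equiv e, Module.Free.of_equiv e, h2⟩
  constructor
  · rw [Submodule.disjoint_def]
    rintro x ⟨a, rfl⟩ hx
    have : ρ (ι a) = 0 := hx
    rw [h1] at this
    rw [this, map_zero]
  · rw [codisjoint_iff, eq_top_iff]
    intro x _
    have : x = ι (ρ x) + (x - ι (ρ x)) := by abel
    rw [this]
    refine Submodule.add_mem_sup ⟨_, rfl⟩ ?_
    show ρ _ = 0
    rw [map_sub, h1, sub_self]

end Main

end Groth.Agent.H4.BigProj
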