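import Mathlib
import Groth.Agent.H4.BigProj2
set_option autoImplicit false
universe u
namespace Groth.Agent.H4.BigProj
open Submodule

section Countable
variable {R : Type u} [CommRing R]

theorem infRank_equiv {Q Q' : Type u} [AddCommGroup Q] [Module R Q] [AddCommGroup Q'] [Module R Q']
    (e : Q' ≃ₗ[R] Q) (h : InfRank R Q) : InfRank R Q' := by
  refine infRank_of_surjective_prod (N := PUnit.{u+1})
    (e.toLinearMap ∘ₗ LinearMap.snd R PUnit.{u+1} Q') ?_ h
  intro x
  exact ⟨(PUnit.unit, e.symm x), by simp⟩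

theorem good_compl {Q : Type u} [AddCommGroup Q] [Module R Q] [Module.Projective R Q]
    (hQ : InfRank R Q) (K K' : Submodule R Q) (hc : IsCompl K K') [Module.Finite R K] :
    Module.Projective R K' ∧ InfRank R K' := by
  constructor
  · refine Module.Projective.of_split K'.subtype (Submodule.projectionOnto K' K hc.symm) ?_
    ext x
    simp [Submodule.projectionOnto_apply_left]
  · refine infRank_of_surjective_prod (N := K) (LinearMap.coprod K.subtype K'.subtype) ?_ hQ
    intro x
    have hx : x ∈ K ⊔ K' := by rw [hc.sup_eq_top]; trivial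
    obtain ⟨k, hk, k', hk', rfl⟩ := Submodule.mem_sup.mp hx
    exact ⟨(⟨k, hk⟩, ⟨k', hk'⟩), by simp⟩

variable {P : Type u} [AddCommGroup P] [Module R P]

structure Nice (B : Set P) (Q : Submodule R P) : Prop where
  li : LinearIndepOn R id B
  compl : IsCompl (span R B) Q
  proj : Module.Projective R Q
  inf : InfRank R Q

theorem Nice.extend [IsNoetherianRing (R ⧸ (⊥ : Ideal R).jacobson)] {B : Set P}
    {Q : Submodule R P} (h : Nice B Q) (x : P) :
    ∃ (B' : Set P) (Q' : Submodule R P), Nice B' Q' ∧ B ⊆ B' ∧ x ∈ span R B' := by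
  have hx : x ∈ span R B ⊔ Q := by rw [h.compl.sup_eq_top]; trivial
  obtain ⟨f, hf, y, hy, rfl⟩ := Submodule.mem_sup.mp hx
  haveI := h.proj
  obtain ⟨K, K', hc, hfin, hfree, hyK⟩ := exists_free_compl (P := Q) h.inf ⟨y, hy⟩
  haveI := hfin
  haveI := hfree
  let b := Module.Free.chooseBasis R K
  let ψ : K →ₗ[R] P := Q.subtype ∘ₗ K.subtype
  have hψ : LinearMap.ker ψ = ⊥ := by
    rw [LinearMap.ker_eq_bot]
    exact Q.injective_subtype.comp K.injective_subtype
  let v := ψ ∘ b
  have hv : LinearIndependent R v := b.linearIndependent.map' ψ hψ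
  let KP : Submodule R P := K.map Q.subtype
  let Q' : Submodule R P := K'.map Q.subtype
  have hspan : span R (Set.range v) = KP := by
    rw [Set.range_comp, Submodule.span_image, b.span_eq, Submodule.map_top, LinearMap.range_comp,
      Submodule.range_subtype]
  have hKPQ : KP ≤ Q := by
    rintro _ ⟨z, _, rfl⟩
    exact z.2
  have hQ'Q : Q' ≤ Q := by
    rintro _ ⟨z, _, rfl⟩
    exact z.2
  have hdisj0 : Disjoint (span R B) Q := h.compl.disjoint
  have hdisjK : Disjoint KP Q' := by
    rw [Submodule.disjoint_def]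
    rintro _ ⟨z, hz, rfl⟩ ⟨z', hz', he⟩
    have : z' = z := Subtype.ext he
    subst this
    have := (Submodule.disjoint_def.mp hc.disjoint) z' hz hz'
    rw [this, map_zero]
  have hsupK : KP ⊔ Q' = Q := by
    rw [← Submodule.map_sup, hc.sup_eq_top, Submodule.map_top, Submodule.range_subtype]
  refine ⟨B ∪ Set.range v, Q', ⟨?_, ?_, ?_, ?_⟩, Set.subset_union_left, ?_⟩
  · refine LinearIndepOn.id_union h.li hv.linearIndepOn_id ?_
    rw [hspan]
    exact hdisj0.mono_right hKPQ
  · rw [Submodule.span_union, hspan]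
    constructor
    · rw [Submodule.disjoint_def]
      intro z hz hz'
      obtain ⟨f', hf', k, hk, rfl⟩ := Submodule.mem_sup.mp hz
      have h1 : f' ∈ Q := by
        have : f' = (f' + k) - k := by abel
        rw [this]
        exact Q.sub_mem (hQ'Q hz') (hKPQ hk)
      have h2 : f' = 0 := (Submodule.disjoint_def.mp hdisj0) f' hf' h1
      rw [h2, zero_add] at hz' ⊢
      exact (Submodule.disjoint_def.mp hdisjK) k hk hz'
    · rw [codisjoint_iff, sup_assoc, hsupK, h.compl.sup_eq_top]
  · haveI := (good_compl h.inf K K' hc).1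
    exact Module.Projective.of_equiv' (Submodule.equivMapOfInjective Q.subtype Q.injective_subtype K')
  · exact infRank_equiv (Submodule.equivMapOfInjective Q.subtype Q.injective_subtype K').symm
      (good_compl h.inf K K' hc).2
  · rw [Submodule.span_union, hspan]
    refine Submodule.add_mem_sup hf ?_
    exact ⟨⟨y, hy⟩, hyK, rfl⟩

theorem nice_init [Module.Projective R P] (hP : InfRank R P) :
    Nice (R := R) (∅ : Set P) ⊤ := by
  refine ⟨linearIndepOn_empty R id, ?_, ?_, ?_⟩
  · rw [Submodule.span_empty]; exact isCompl_bot_top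
  · exact Module.Projective.of_equiv' (Submodule.topEquiv (R := R) (M := P)).symm
  · exact infRank_equiv Submodule.topEquiv hP

/-- the type of nice pairs -/
def NiceT (R : Type u) [CommRing R] (P : Type u) [AddCommGroup P] [Module R P] : Type u :=
  {p : Set P × Submodule R P // Nice p.1 p.2}

theorem extend' [IsNoetherianRing (R ⧸ (⊥ : Ideal R).jacobson)] (p : NiceT R P) (x : P) :
    ∃ p' : NiceT R P, p.1.1 ⊆ p'.1.1 ∧ x ∈ span R p'.1.1 := by
  obtain ⟨B', Q', h1, h2, h3⟩ := p.2.extend x
  exact ⟨⟨(B', Q'), h1⟩, h2, h3⟩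

/-- the sequence of nice pairs absorbing the elements `x n` one after the other -/
noncomputable def seq [IsNoetherianRing (R ⧸ (⊥ : Ideal R).jacobson)] (x : ℕ → P)
    (p0 : NiceT R P) : ℕ → NiceT R P
  | 0 => p0
  | n + 1 => Classical.choose (extend' (seq x p0 n) (x n))

theorem free_of_countable [IsNoetherianRing (R ⧸ (⊥ : Ideal R).jacobson)]
    [Module.Projective R P] (hP : InfRank R P) (s : Set P) (hs : s.Countable)
    (hspan : span R s = ⊤) : Module.Free R P := by
  obtain ⟨x, hx⟩ := (hs.union (Set.countable_singleton (0 : P))).exists_eq_range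
    ⟨0, Or.inr rfl⟩
  let p0 : NiceT R P := ⟨(∅, ⊤), nice_init hP⟩
  let st := seq x p0
  have hstep : ∀ n, (st n).1.1 ⊆ (st (n + 1)).1.1 ∧ x n ∈ span R (st (n + 1)).1.1 :=
    fun n => Classical.choose_spec (extend' (st n) (x n))
  let B : ℕ → Set P := fun n => (st n).1.1
  have hmono : Monotone B := monotone_nat_of_le_succ (fun n => (hstep n).1)
  have hli : LinearIndepOn R id (⋃ n, B n) :=
    linearIndepOn_iUnion_of_directed hmono.directed_le (fun n => (st n).2.li)
  have hsp : span R (⋃ n, B n) = ⊤ := by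
    rw [eq_top_iff, ← hspan, Submodule.span_le]
    intro y hy
    have : y ∈ Set.range x := by rw [← hx]; exact Or.inl hy
    obtain ⟨n, rfl⟩ := this
    exact Submodule.span_mono (Set.subset_iUnion B (n + 1)) (hstep n).2
  exact Module.Free.of_basis (Module.Basis.mk (v := fun y : (⋃ n, B n) => (y : P)) hli
    (by rw [Subtype.range_coe]; exact hsp.ge))

end Countable

end Groth.Agent.H4.BigProj
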