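import Mathlib

open IsLocalRing

namespace Groth.Agent.H4.BlowOne

section PartA
variable {R : Type*} [CommRing R] [IsNoetherianRing R] [IsLocalRing R]

lemma withBot_aux (x : WithBot ℕ∞) (h : x + 1 ≤ 1) : x ≤ 0 := by
  induction x using WithBot.recBotCoe with
  | bot => exact bot_le
  | coe n =>
    have h' : (n + 1 : ℕ∞) ≤ 1 := by exact_mod_cast h
    induction n using ENat.recTopCoe with
    | top => simp at h'
    | coe k =>
      have : k + 1 ≤ 1 := by exact_mod_cast h'
      have hk : k = 0 := by omega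
      subst hk; simp

lemma isArtinianRing_quot (hR : ringKrullDim R = 1) {s : R} (hs : s ∈ nonZeroDivisors R) :
    IsArtinianRing (R ⧸ Ideal.span {s}) := by
  have h := ringKrullDim_quotient_succ_le_of_nonZeroDivisor hs
  rw [hR] at h
  have h0 : ringKrullDim (R ⧸ Ideal.span {s}) ≤ 0 := withBot_aux _ h
  haveI : Ring.KrullDimLE 0 (R ⧸ Ideal.span {s}) := Ring.krullDimLE_iff.mpr (by simpa using h0)
  exact IsNoetherianRing.isArtinianRing_of_krullDimLE_zero

lemma length_quot_ne_top (hR : ringKrullDim R = 1) {s : R} (hs : s ∈ nonZeroDivisors R) :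
    Module.length R (R ⧸ Ideal.span {s}) ≠ ⊤ := by
  haveI := isArtinianRing_quot hR hs
  have h1 : Module.length (R ⧸ Ideal.span {s}) (R ⧸ Ideal.span {s}) ≠ ⊤ := Module.length_ne_top
  rwa [← Module.length_eq_of_surjective (S := R) (R := R ⧸ Ideal.span {s})
    (M := R ⧸ Ideal.span {s}) Ideal.Quotient.mk_surjective] at h1

lemma exists_pow_le_span (hR : ringKrullDim R = 1) {s : R} (hs : s ∈ nonZeroDivisors R) :
    ∃ N : ℕ, maximalIdeal R ^ N ≤ Ideal.span {s} := by
  haveI := isArtinianRing_quot hR hs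
  obtain ⟨N, hN⟩ := IsArtinianRing.isNilpotent_jacobson_bot (R := R ⧸ Ideal.span {s})
  refine ⟨N, ?_⟩
  have hle : (maximalIdeal R).map (Ideal.Quotient.mk (Ideal.span {s})) ≤ Ideal.jacobson ⊥ := by
    rw [Ideal.map_le_iff_le_comap]
    intro x hx
    rw [Ideal.mem_comap, Ideal.mem_jacobson_bot]
    intro y
    obtain ⟨y, rfl⟩ := Ideal.Quotient.mk_surjective y
    have h1 : -(x * y) ∈ nonunits R := by
      rw [← mem_maximalIdeal]
      exact neg_mem (Ideal.mul_mem_right _ _ hx)
    have h2 := isUnit_one_sub_self_of_mem_nonunits _ h1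
    have h3 : (Ideal.Quotient.mk (Ideal.span {s})) x * (Ideal.Quotient.mk (Ideal.span {s})) y + 1
        = Ideal.Quotient.mk (Ideal.span {s}) (1 - -(x * y)) := by
      simp only [map_sub, map_neg, map_mul, map_one]; ring
    rw [h3]
    exact h2.map _
  intro z hz
  have h4 : Ideal.Quotient.mk (Ideal.span {s}) z
      ∈ (Ideal.jacobson ⊥ : Ideal (R ⧸ Ideal.span {s})) ^ N := by
    have := Ideal.mem_map_of_mem (Ideal.Quotient.mk (Ideal.span {s})) hz
    rw [Ideal.map_pow] at this
    exact Ideal.pow_right_mono hle N this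
  rw [hN] at h4
  exact Ideal.Quotient.eq_zero_iff_mem.mp (by simpa using h4)

lemma length_quot_mul (s : R) (hs : s ∈ nonZeroDivisors R) (M : Ideal R) :
    Module.length R (R ⧸ (Ideal.span {s} * M))
      = Module.length R (R ⧸ M) + Module.length R (R ⧸ Ideal.span {s}) := by
  let f : (R ⧸ M) →ₗ[R] (R ⧸ (Ideal.span {s} * M)) :=
    Submodule.mapQ M (Ideal.span {s} * M) (LinearMap.mulLeft R s) (by
      intro x hx
      exact Ideal.mul_mem_mul (Ideal.mem_span_singleton_self s) hx)
  let g : (R ⧸ (Ideal.span {s} * M)) →ₗ[R] (R ⧸ Ideal.span {s}) :=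
    Submodule.mapQ (Ideal.span {s} * M) (Ideal.span {s}) LinearMap.id
      (fun x hx => Ideal.mul_le_left hx)
  refine Module.length_eq_add_of_exact f g ?_ ?_ ?_
  · intro x y hxy
    obtain ⟨x, rfl⟩ := Submodule.Quotient.mk_surjective M x
    obtain ⟨y, rfl⟩ := Submodule.Quotient.mk_surjective M y
    simp only [f, Submodule.mapQ_apply, LinearMap.mulLeft_apply] at hxy
    rw [Submodule.Quotient.eq] at hxy ⊢
    rw [← mul_sub] at hxy
    obtain ⟨z, hz, hzx⟩ := Ideal.mem_span_singleton_mul.mp hxy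
    have : z = x - y := (mul_cancel_left_mem_nonZeroDivisors hs).mp hzx
    rwa [← this]
  · intro x
    obtain ⟨x, rfl⟩ := Submodule.Quotient.mk_surjective _ x
    exact ⟨Submodule.Quotient.mk x, by simp [g, Submodule.mapQ_apply]⟩
  · intro y
    obtain ⟨y, rfl⟩ := Submodule.Quotient.mk_surjective _ y
    simp only [g, Submodule.mapQ_apply, LinearMap.id_apply]
    rw [Submodule.Quotient.mk_eq_zero, Ideal.mem_span_singleton']
    constructor
    · rintro ⟨r, rfl⟩
      refine ⟨Submodule.Quotient.mk r, ?_⟩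
      show f (Submodule.Quotient.mk r) = _
      simp only [f, Submodule.mapQ_apply, LinearMap.mulLeft_apply, mul_comm]
    · rintro ⟨x, hx⟩
      obtain ⟨x, rfl⟩ := Submodule.Quotient.mk_surjective _ x
      simp only [f, Submodule.mapQ_apply, LinearMap.mulLeft_apply] at hx
      rw [Submodule.Quotient.eq] at hx
      have h1 : s * x - y ∈ Ideal.span {s} := Ideal.mul_le_left hx
      have h2 : s * x ∈ Ideal.span {s} := Ideal.mul_mem_right _ _ (Ideal.mem_span_singleton_self s)
      have h3 := (Ideal.span {s}).sub_mem h2 h1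
      rw [sub_sub_cancel] at h3
      exact Ideal.mem_span_singleton'.mp h3

theorem exists_relation (hR : ringKrullDim R = 1) {a : R} (b : R) (ha : a ∈ nonZeroDivisors R)
    (ham : a ∈ maximalIdeal R) :
    ∃ (n : ℕ) (u : Fin (n + 1) → R),
      (∑ i, u i * (a ^ (n - (i : ℕ)) * b ^ (i : ℕ)) = 0) ∧ ∃ j, IsUnit (u j) := by
  by_contra hcon
  push Not at hcon
  have hfin := length_quot_ne_top hR ha
  obtain ⟨n, he⟩ := ENat.ne_top_iff_exists.mp hfin
  obtain ⟨g, hg⟩ : ∃ g : Fin (n + 1) → R, g = fun i : Fin (n + 1) => a ^ (n - (i : ℕ)) * b ^ (i : ℕ) := ⟨_, rfl⟩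
  obtain ⟨M, hMdef⟩ : ∃ M : Ideal R, M = Ideal.span (Set.range g) := ⟨_, rfl⟩
  have haM : a ^ n ∈ M := by
    rw [hMdef]
    exact Ideal.subset_span ⟨0, by simp [hg]⟩
  have hM_fin : Module.length R (R ⧸ M) ≠ ⊤ := by
    have h1 := length_quot_ne_top hR (pow_mem ha n)
    have hle : Ideal.span {a ^ n} ≤ M := (Ideal.span_singleton_le_iff_mem _).mpr haM
    have h2 := Module.length_le_of_surjective
      (Submodule.mapQ (Ideal.span {a ^ n}) M LinearMap.id hle) (by
        intro x
        obtain ⟨x, rfl⟩ := Submodule.Quotient.mk_surjective _ x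
        exact ⟨Submodule.Quotient.mk x, by simp [Submodule.mapQ_apply]⟩)
    exact ne_top_of_le_ne_top h1 h2
  have hMmem : ∀ y, y ∈ M ↔ ∃ c : Fin (n + 1) → R, ∑ i, c i • g i = y := by
    intro y
    rw [hMdef]
    exact Submodule.mem_span_range_iff_exists_fun R
  have hE1 := length_quot_mul a ha M
  have hE3 : Module.length R (R ⧸ (maximalIdeal R * M))
      ≤ Module.length R (R ⧸ (Ideal.span {a} * M)) :=
    Module.length_le_of_surjective
      (Submodule.mapQ (Ideal.span {a} * M) (maximalIdeal R * M) LinearMap.id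
        (Ideal.mul_mono_left ((Ideal.span_singleton_le_iff_mem _).mpr ham))) (by
        intro x
        obtain ⟨x, rfl⟩ := Submodule.Quotient.mk_surjective _ x
        exact ⟨Submodule.Quotient.mk x, by simp [Submodule.mapQ_apply]⟩)
  -- the map φ
  let φ : (Fin (n + 1) → R) →ₗ[R] (R ⧸ (maximalIdeal R * M)) :=
    (Submodule.mkQ (maximalIdeal R * M)).comp (Fintype.linearCombination R g)
  have hφ : ∀ c, φ c = Submodule.Quotient.mk (∑ i, c i * g i) := by
    intro c
    simp [φ, Fintype.linearCombination_apply]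
  let g' : (R ⧸ (maximalIdeal R * M)) →ₗ[R] (R ⧸ M) :=
    Submodule.mapQ (maximalIdeal R * M) M LinearMap.id (fun x hx => Ideal.mul_le_right hx)
  have hE2 : Module.length R (R ⧸ (maximalIdeal R * M))
      = Module.length R (LinearMap.range φ) + Module.length R (R ⧸ M) := by
    refine Module.length_eq_add_of_exact (LinearMap.range φ).subtype g'
      (Submodule.subtype_injective _) ?_ ?_
    · intro x
      obtain ⟨x, rfl⟩ := Submodule.Quotient.mk_surjective _ x
      exact ⟨Submodule.Quotient.mk x, by simp [g', Submodule.mapQ_apply]⟩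
    · intro y
      obtain ⟨y, rfl⟩ := Submodule.Quotient.mk_surjective _ y
      simp only [g', Submodule.mapQ_apply, LinearMap.id_apply]
      rw [Submodule.Quotient.mk_eq_zero]
      constructor
      · intro hy
        obtain ⟨c, hc⟩ := (hMmem y).mp hy
        refine ⟨⟨φ c, ⟨c, rfl⟩⟩, ?_⟩
        show φ c = _
        rw [hφ]
        congr 1
      · rintro ⟨⟨_, ⟨c, rfl⟩⟩, hc⟩
        have hc' : φ c = Submodule.Quotient.mk y := hc
        rw [hφ, Submodule.Quotient.eq] at hc'
        have hc := hc'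
        have h1 : ∑ i, c i * g i - y ∈ M := Ideal.mul_le_right hc
        have h2 : ∑ i, c i * g i ∈ M := (hMmem _).mpr ⟨c, rfl⟩
        have h3 := M.sub_mem h2 h1
        rwa [sub_sub_cancel] at h3
  -- kernel of φ
  have hker : ∀ c, φ c = 0 → ∀ i, c i ∈ maximalIdeal R := by
    intro c hc i
    rw [hφ, Submodule.Quotient.mk_eq_zero] at hc
    have hc' : ∑ i, c i * g i ∈ maximalIdeal R • Submodule.span R (Set.range g) := by
      rw [hMdef] at hc; exact hc
    obtain ⟨μ, hμ, hsum⟩ := (Submodule.mem_ideal_smul_span_iff_exists_sum _ g _).mp hc'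
    rw [Finsupp.sum_fintype _ _ (by simp)] at hsum
    have hrel : ∑ i, (c i - μ i) * (a ^ (n - (i : ℕ)) * b ^ (i : ℕ)) = 0 := by
      have : ∀ i, (c i - μ i) * (a ^ (n - (i : ℕ)) * b ^ (i : ℕ)) = c i * g i - μ i • g i := by
        intro i; rw [hg]; simp only [smul_eq_mul]; ring
      simp only [this, Finset.sum_sub_distrib, hsum, sub_self]
    have hnu := hcon n (fun i => c i - μ i) hrel i
    have h1 : c i - μ i ∈ maximalIdeal R := by
      rw [mem_maximalIdeal]; exact hnu
    have := (maximalIdeal R).add_mem h1 (hμ i)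
    rwa [sub_add_cancel] at this
  -- lower bound
  have hlow : ((n + 1 : ℕ) : ℕ∞) ≤ Module.length R (LinearMap.range φ) := by
    let π₀ : (Fin (n + 1) → R) →ₗ[R] (Fin (n + 1) → R ⧸ maximalIdeal R) :=
      (Submodule.mkQ (maximalIdeal R)).compLeft (Fin (n + 1))
    have hπ₀ : Function.Surjective π₀ := by
      intro y
      choose x hx using fun i => Submodule.mkQ_surjective (maximalIdeal R) (y i)
      exact ⟨x, by funext i; simp [π₀, hx i]⟩
    have hle : LinearMap.ker φ ≤ LinearMap.ker π₀ := by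
      intro c hc
      rw [LinearMap.mem_ker] at hc ⊢
      funext i
      simp only [π₀, LinearMap.compLeft_apply, Function.comp_apply, Submodule.mkQ_apply,
        Pi.zero_apply]
      exact (Submodule.Quotient.mk_eq_zero _).mpr (hker c hc i)
    have h1 := Module.length_le_of_surjective (Submodule.liftQ (LinearMap.ker φ) π₀ hle) (by
      intro y
      obtain ⟨x, rfl⟩ := hπ₀ y
      exact ⟨Submodule.Quotient.mk x, by simp⟩)
    rw [(LinearMap.quotKerEquivRange φ).length_eq, Module.length_pi_of_fintype] at h1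
    refine le_trans ?_ h1
    have h2 : (1 : ℕ∞) ≤ Module.length R (R ⧸ maximalIdeal R) := by
      have : 0 < Module.length R (R ⧸ maximalIdeal R) := Module.length_pos
      exact Order.one_le_iff_pos.mpr this
    calc ((n + 1 : ℕ) : ℕ∞) = ∑ _i : Fin (n + 1), (1 : ℕ∞) := by simp
      _ ≤ ∑ _i : Fin (n + 1), Module.length R (R ⧸ maximalIdeal R) :=
        Finset.sum_le_sum fun _ _ => h2
  -- combine
  obtain ⟨k, hk⟩ := ENat.ne_top_iff_exists.mp hM_fin
  rw [hE2, ← hk] at hE3
  rw [hE1, ← hk, ← he] at hE3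
  have h5 : ((n + 1 : ℕ) : ℕ∞) + (k : ℕ∞) ≤ (k : ℕ∞) + (n : ℕ∞) :=
    le_trans (add_le_add_left hlow _) hE3
  have h6 : n + 1 + k ≤ k + n := by exact_mod_cast h5
  omega

end PartA

section PartB
variable {R K : Type*} [CommRing R] [CommRing K] [Algebra R K]

/-- tail sums -/
noncomputable def pp (u : ℕ → R) (c : K) (n k : ℕ) : K :=
  ∑ i ∈ Finset.Ico k (n + 1), algebraMap R K (u i) * c ^ (i - k)

lemma pp_succ (u : ℕ → R) (c : K) {n k : ℕ} (hk : k ≤ n) :
    pp u c n k = algebraMap R K (u k) + c * pp u c n (k + 1) := by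
  unfold pp
  rw [Finset.sum_eq_sum_Ico_succ_bot (by omega : k < n + 1), Nat.sub_self, pow_zero, mul_one,
    Finset.mul_sum]
  congr 1
  apply Finset.sum_congr rfl
  intro i hi
  have hi' := Finset.mem_Ico.mp hi
  have : i - k = (i - (k + 1)) + 1 := by omega
  rw [this, pow_succ]
  ring

lemma pp_mul_pow_self (u : ℕ → R) (c : K) {n k : ℕ} (hk : k ≤ n + 1)
    (h0 : ∑ i ∈ Finset.range (n + 1), algebraMap R K (u i) * c ^ i = 0) :
    pp u c n k * c ^ k = -∑ l ∈ Finset.range k, algebraMap R K (u l) * c ^ l := by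
  have h1 : pp u c n k * c ^ k = ∑ i ∈ Finset.Ico k (n + 1), algebraMap R K (u i) * c ^ i := by
    unfold pp
    rw [Finset.sum_mul]
    apply Finset.sum_congr rfl
    intro i hi
    have hi' := Finset.mem_Ico.mp hi
    rw [mul_assoc, ← pow_add, Nat.sub_add_cancel hi'.1]
  have h2 := Finset.sum_range_add_sum_Ico (fun i => algebraMap R K (u i) * c ^ i) hk
  rw [h1]
  linear_combination h2 + h0

lemma pp_mul_pow_mem (u : ℕ → R) (c : K) {n : ℕ} (N : Submodule R K)
    (hN : ∀ e, e < n → ∀ r : R, algebraMap R K r * c ^ e ∈ N)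
    (h0 : ∑ i ∈ Finset.range (n + 1), algebraMap R K (u i) * c ^ i = 0)
    {k i : ℕ} (hk : k ≤ n + 1) (hi : i ≤ n) : pp u c n k * c ^ i ∈ N := by
  rcases le_or_gt k i with hki | hik
  · have h1 : pp u c n k * c ^ i
        = -(∑ l ∈ Finset.range k, algebraMap R K (u l) * c ^ (l + (i - k))) := by
      have hci : c ^ i = c ^ k * c ^ (i - k) := by
        rw [← pow_add]; congr 1; omega
      rw [hci, ← mul_assoc, pp_mul_pow_self u c hk h0, neg_mul, Finset.sum_mul]
      congr 1
      apply Finset.sum_congr rfl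
      intro l _
      rw [pow_add]; ring
    rw [h1]
    refine N.neg_mem (N.sum_mem fun l hl => hN _ ?_ _)
    have := Finset.mem_range.mp hl
    omega
  · unfold pp
    rw [Finset.sum_mul]
    refine N.sum_mem fun l hl => ?_
    have hl' := Finset.mem_Ico.mp hl
    have h2 : algebraMap R K (u l) * c ^ (l - k) * c ^ i
        = algebraMap R K (u l) * c ^ (l - k + i) := by
      rw [pow_add]; ring
    rw [h2]
    exact hN _ (by omega) _

lemma isIntegral_of_mul_mem [IsNoetherianRing R] (N : Submodule R K) (hfg : N.FG)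
    (h1 : (1 : K) ∈ N) (x : K) (hx : ∀ v ∈ N, x * v ∈ N) : IsIntegral R x := by
  have hpow : ∀ k : ℕ, x ^ k ∈ N := by
    intro k
    induction k with
    | zero => simpa using h1
    | succ k ih => rw [pow_succ']; exact hx _ ih
  have hle : Subalgebra.toSubmodule (Algebra.adjoin R {x}) ≤ N := by
    rw [Algebra.adjoin_eq_span, Submodule.span_le]
    intro y hy
    obtain ⟨k, rfl⟩ := Submonoid.mem_closure_singleton.mp hy
    exact hpow k
  haveI : IsNoetherian R N := isNoetherian_of_fg_of_noetherian N hfg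
  have hfg' : (Subalgebra.toSubmodule (Algebra.adjoin R {x})).FG :=
    isNoetherian_submodule.mp inferInstance _ hle
  exact IsIntegral.of_mem_of_fg _ hfg' x (Algebra.self_mem_adjoin_singleton R x)

lemma isIntegral_aux [IsNoetherianRing R] (u : ℕ → R) (c : K) {n : ℕ} (hn : 1 ≤ n)
    (h0 : ∑ i ∈ Finset.range (n + 1), algebraMap R K (u i) * c ^ i = 0)
    (x : K)
    (hx : ∀ i, i < n → ∃ k i', k ≤ n + 1 ∧ i' ≤ n ∧ x * c ^ i = pp u c n k * c ^ i') :
    IsIntegral R x := by
  obtain ⟨N, hNdef⟩ : ∃ N : Submodule R K,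
      N = Submodule.span R (Set.range (fun e : Fin n => c ^ (e : ℕ))) := ⟨_, rfl⟩
  have hNmem : ∀ e, e < n → ∀ r : R, algebraMap R K r * c ^ e ∈ N := by
    intro e he r
    rw [← Algebra.smul_def, hNdef]
    exact Submodule.smul_mem _ _ (Submodule.subset_span ⟨⟨e, he⟩, rfl⟩)
  have hfg : N.FG := by rw [hNdef]; exact Submodule.fg_span (Set.finite_range _)
  have h1 : (1 : K) ∈ N := by
    have := hNmem 0 (by omega) 1
    simpa using this
  refine isIntegral_of_mul_mem N hfg h1 x ?_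
  intro v hv
  rw [hNdef] at hv
  induction hv using Submodule.span_induction with
  | mem v hv =>
    obtain ⟨e, rfl⟩ := hv
    obtain ⟨k, i', hk, hi', he⟩ := hx e e.isLt
    show x * c ^ (e : ℕ) ∈ N
    rw [he]
    exact pp_mul_pow_mem u c N hNmem h0 hk hi'
  | zero => rw [mul_zero]; exact N.zero_mem
  | add v w _ _ hv hw => rw [mul_add]; exact N.add_mem hv hw
  | smul r v _ hv => rw [mul_smul_comm]; exact N.smul_mem r hv

end PartB

section PartC

lemma artin_core {A : Type*} [CommRing A] (y P W u v w : A) (N : ℕ) (hN : 1 ≤ N)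
    (huv : u * v = 1) (hw : y ^ N = y ^ (2 * N) * w) :
    ∃ e α β : A, α * (y * e + P * (1 - e)) + β * (W * e - (u - y) * (1 - e)) = 1 := by
  obtain ⟨e, he_def⟩ : ∃ e : A, e = y ^ N * w := ⟨_, rfl⟩
  obtain ⟨q, hq_def⟩ : ∃ q : A, q = y ^ (N - 1) * w := ⟨_, rfl⟩
  have hyN : y ^ N = y ^ (N - 1) * y := by
    rw [← pow_succ]; congr 1; omega
  have h0 : q * y = e := by
    rw [hq_def, he_def, hyN]; ring
  have he : e * e = e := by
    calc e * e = (y ^ (2 * N) * w) * w := by rw [he_def]; ring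
      _ = y ^ N * w := by rw [← hw]
      _ = e := he_def.symm
  have h1 : y ^ N * (1 - e) = 0 := by
    rw [he_def]; linear_combination hw
  obtain ⟨ν, hν_def⟩ : ∃ ν : A, ν = y * (1 - e) := ⟨_, rfl⟩
  have hν : ν ^ N = 0 := by
    have h1e : (1 - e) ^ N = (1 - e) * (1 - e) ^ (N - 1) := by
      rw [← pow_succ']; congr 1; omega
    rw [hν_def, mul_pow, h1e, ← mul_assoc, h1, zero_mul]
  obtain ⟨G, hG_def⟩ : ∃ G : A, G = v * ∑ i ∈ Finset.range N, (v * ν) ^ i := ⟨_, rfl⟩
  have hgeo : (u - y * (1 - e)) * G = 1 := by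
    rw [← hν_def, hG_def]
    calc (u - ν) * (v * ∑ i ∈ Finset.range N, (v * ν) ^ i)
        = (u * v - v * ν) * ∑ i ∈ Finset.range N, (v * ν) ^ i := by ring
      _ = (1 - v * ν) * ∑ i ∈ Finset.range N, (v * ν) ^ i := by rw [huv]
      _ = 1 - (v * ν) ^ N := mul_neg_geom_sum _ _
      _ = 1 := by rw [mul_pow, hν, mul_zero, sub_zero]
  refine ⟨e, e * q, -(1 - e) * G, ?_⟩
  linear_combination (e * e) * h0 + (e + 1 - q * P + G * (W + u)) * he + (1 - e) * hgeo

variable (R S : Type*) [CommRing R] [IsLocalRing R] [CommRing S] [Algebra R S] in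
abbrev mS : Ideal S := (maximalIdeal R).map (algebraMap R S)

lemma artQ {R S : Type*} [CommRing R] [IsLocalRing R] [CommRing S] [Algebra R S]
    [Module.Finite R S] : IsArtinianRing (S ⧸ mS R S) := by
  have : IsArtinianRing (R ⧸ maximalIdeal R) :=
    show IsArtinianRing (IsLocalRing.ResidueField R) from inferInstance
  have : Module.Finite R (S ⧸ mS R S) := inferInstance
  have : Module.Finite (R ⧸ maximalIdeal R) (S ⧸ mS R S) :=
    Module.Finite.of_restrictScalars_finite R _ _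
  exact IsArtinianRing.of_finite (R ⧸ maximalIdeal R) (S ⧸ mS R S)

lemma exists_eps {R S : Type*} [CommRing R] [IsLocalRing R] [CommRing S] [Algebra R S]
    [Module.Finite R S] (y P W ui : S) (hui : IsUnit ui) :
    ∃ ε : S, Ideal.span {y * ε + P * (1 - ε), W * ε - (ui - y) * (1 - ε)} = ⊤ := by
  haveI : IsArtinianRing (S ⧸ mS R S) := artQ
  obtain ⟨vi, hvi⟩ := hui.exists_right_inv
  let mk : S →+* S ⧸ mS R S := Ideal.Quotient.mk (mS R S)
  have hmk : Function.Surjective mk := Ideal.Quotient.mk_surjective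
  obtain ⟨n0, z, hz⟩ := IsArtinian.exists_pow_succ_smul_dvd (mk y) (1 : S ⧸ mS R S)
  simp only [smul_eq_mul, mul_one, Nat.succ_eq_add_one] at hz
  obtain ⟨Y, hY⟩ : ∃ Y : S ⧸ mS R S, Y = mk y := ⟨_, rfl⟩
  rw [← hY] at hz
  have hN : Y ^ (n0 + 1 + 1) * z = Y ^ (n0 + 1) := by
    calc Y ^ (n0 + 1 + 1) * z = Y * (Y ^ (n0 + 1) * z) := by ring
      _ = Y * Y ^ n0 := by rw [hz]
      _ = Y ^ (n0 + 1) := by ring
  have hstab : ∀ k : ℕ, Y ^ (n0 + 1 + k) * z ^ k = Y ^ (n0 + 1) := by
    intro k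
    induction k with
    | zero => simp
    | succ k ih =>
      calc Y ^ (n0 + 1 + (k + 1)) * z ^ (k + 1)
          = (Y ^ (n0 + 1 + 1) * z) * (Y ^ k * z ^ k) := by ring
        _ = Y ^ (n0 + 1) * (Y ^ k * z ^ k) := by rw [hN]
        _ = Y ^ (n0 + 1 + k) * z ^ k := by ring
        _ = Y ^ (n0 + 1) := ih
  have hw : Y ^ (n0 + 1) = Y ^ (2 * (n0 + 1)) * z ^ (n0 + 1) := by
    rw [two_mul]; exact (hstab (n0 + 1)).symm
  have huv : mk ui * mk vi = 1 := by rw [← map_mul, hvi, map_one]
  obtain ⟨e, α, β, h⟩ := artin_core Y (mk P) (mk W) (mk ui) (mk vi) (z ^ (n0 + 1)) (n0 + 1)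
    (by omega) huv hw
  obtain ⟨ε, rfl⟩ := hmk e
  obtain ⟨α', rfl⟩ := hmk α
  obtain ⟨β', rfl⟩ := hmk β
  refine ⟨ε, ?_⟩
  by_contra hJ
  obtain ⟨𝔫, h𝔫, hJle⟩ := Ideal.exists_le_maximal _ hJ
  haveI := h𝔫
  have hcomap : 𝔫.comap (algebraMap R S) = maximalIdeal R :=
    IsLocalRing.eq_maximalIdeal (Ideal.isMaximal_comap_of_isIntegral_of_isMaximal (R := R) 𝔫)
  have hmle : mS R S ≤ 𝔫 := Ideal.map_le_iff_le_comap.mpr (le_of_eq hcomap.symm)
  have ha'mem : y * ε + P * (1 - ε) ∈ 𝔫 := hJle (Ideal.subset_span (by simp))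
  have hb'mem : W * ε - (ui - y) * (1 - ε) ∈ 𝔫 := hJle (Ideal.subset_span (by simp))
  have hδ : α' * (y * ε + P * (1 - ε)) + β' * (W * ε - (ui - y) * (1 - ε)) - 1 ∈ mS R S := by
    rw [← Ideal.Quotient.eq_zero_iff_mem]
    rw [hY] at h
    have : mk (α' * (y * ε + P * (1 - ε)) + β' * (W * ε - (ui - y) * (1 - ε)) - 1) = 0 := by
      simp only [map_sub, map_add, map_mul, map_one]
      linear_combination h
    exact this
  have h1 : (1 : S) ∈ 𝔫 := by
    have h2 := 𝔫.sub_mem (𝔫.add_mem (𝔫.mul_mem_left α' ha'mem) (𝔫.mul_mem_left β' hb'mem))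
      (hmle hδ)
    simpa using h2
  exact h𝔫.ne_top ((Ideal.eq_top_iff_one _).mpr h1)

end PartC

section PartD
universe u
variable {R : Type u} [CommRing R] [IsNoetherianRing R] [IsLocalRing R]

theorem main_aux (K : Type u) [CommRing K] [Algebra R K] [IsFractionRing R K]
    (hR : ringKrullDim R = 1) (a b : R) (ha : a ∈ nonZeroDivisors R)
    (hb : b ∈ nonZeroDivisors R) (ham : a ∈ maximalIdeal R) :
    ∃ (R' : Type u) (_ : CommRing R') (_ : Algebra R R'),
      (Function.Injective (algebraMap R R') ∧ Module.Finite R R' ∧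
        ∃ n : ℕ, ∀ r ∈ maximalIdeal R ^ n, ∀ x : R', r • x ∈ (algebraMap R R').range) ∧
      ∃ t a' b' : R', t ∈ nonZeroDivisors R' ∧ a' ∈ nonZeroDivisors R' ∧
        b' ∈ nonZeroDivisors R' ∧ algebraMap R R' a = t * a' ∧ algebraMap R R' b = t * b' ∧
        Ideal.span {a', b'} = ⊤ := by
  obtain ⟨n, u, hrel, j, hj⟩ := exists_relation hR b ha ham
  have hinj : Function.Injective (algebraMap R K) := IsFractionRing.injective R K
  have hAu : IsUnit (algebraMap R K a) :=
    IsLocalization.map_units K (⟨a, ha⟩ : nonZeroDivisors R)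
  have hBu : IsUnit (algebraMap R K b) :=
    IsLocalization.map_units K (⟨b, hb⟩ : nonZeroDivisors R)
  obtain ⟨Ai, hAi⟩ := hAu.exists_right_inv
  obtain ⟨c, hc_def⟩ : ∃ c : K, c = algebraMap R K b * Ai := ⟨_, rfl⟩
  have hcA : c * algebraMap R K a = algebraMap R K b := by
    rw [hc_def]; linear_combination (algebraMap R K b) * hAi
  obtain ⟨u', hu'⟩ : ∃ u' : ℕ → R, ∀ i : Fin (n + 1), u' i = u i :=
    ⟨fun i => if h : i < n + 1 then u ⟨i, h⟩ else 0, fun i => by simp [i.isLt]⟩
  have h0 : ∑ i ∈ Finset.range (n + 1), algebraMap R K (u' i) * c ^ i = 0 := by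
    rw [← Fin.sum_univ_eq_sum_range (fun i => algebraMap R K (u' i) * c ^ i) (n + 1)]
    have h1 := congrArg (fun z => algebraMap R K z * Ai ^ n) hrel
    simp only [map_sum, map_mul, map_pow, map_zero, zero_mul, Finset.sum_mul] at h1
    refine Eq.trans ?_ h1
    apply Finset.sum_congr rfl
    intro i _
    rw [hu' i, hc_def]
    have hi : (i : ℕ) ≤ n := Nat.lt_succ_iff.mp i.isLt
    have hn : Ai ^ n = Ai ^ (n - (i : ℕ)) * Ai ^ (i : ℕ) := by
      rw [← pow_add]; congr 1; omega
    rw [hn, mul_pow]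
    have hA : algebraMap R K a ^ (n - (i : ℕ)) * Ai ^ (n - (i : ℕ)) = 1 := by
      rw [← mul_pow, hAi, one_pow]
    linear_combination
      (-(algebraMap R K (u i) * algebraMap R K b ^ (i : ℕ) * Ai ^ (i : ℕ))) * hA
  have hjlt := j.isLt
  have hjn : (j : ℕ) ≤ n := Nat.lt_succ_iff.mp j.isLt
  have hn1 : 1 ≤ n := by
    by_contra hlt
    have hn0 : n = 0 := by omega
    rw [hn0] at h0
    simp only [zero_add, Finset.range_one, Finset.sum_singleton, pow_zero, mul_one] at h0
    have h2 : u j = 0 := by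
      have h3 := hu' j
      have hj0 : (j : ℕ) = 0 := by omega
      rw [hj0] at h3
      rw [← h3]; exact hinj (by rw [h0, map_zero])
    rw [h2] at hj; exact not_isUnit_zero hj
  obtain ⟨y, hy_def⟩ : ∃ y : K, y = pp u' c n j := ⟨_, rfl⟩
  obtain ⟨P, hP_def⟩ : ∃ P : K, P = pp u' c n (j + 1) := ⟨_, rfl⟩
  obtain ⟨W, hW_def⟩ : ∃ W : K, W = c * y := ⟨_, rfl⟩
  have hcP : c * P = y - algebraMap R K (u j) := by
    rw [hy_def, hP_def, pp_succ u' c hjn, hu' j]; ring
  have hyint : IsIntegral R y := by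
    rw [hy_def]
    exact isIntegral_aux u' c hn1 h0 _ (fun i hi => ⟨j, i, by omega, hi.le, rfl⟩)
  have hPint : IsIntegral R P := by
    rw [hP_def]
    exact isIntegral_aux u' c hn1 h0 _ (fun i hi => ⟨j + 1, i, by omega, hi.le, rfl⟩)
  have hWint : IsIntegral R W := by
    rw [hW_def, hy_def]
    exact isIntegral_aux u' c hn1 h0 _
      (fun i hi => ⟨j, i + 1, by omega, by omega, by ring⟩)
  obtain ⟨R', hR'⟩ : ∃ R' : Subalgebra R K, R' = Algebra.adjoin R {y, P, W} := ⟨_, rfl⟩
  have hyR : y ∈ R' := by rw [hR']; exact Algebra.subset_adjoin (by simp)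
  have hPR : P ∈ R' := by rw [hR']; exact Algebra.subset_adjoin (by simp)
  have hWR : W ∈ R' := by rw [hR']; exact Algebra.subset_adjoin (by simp)
  have hfg : (Subalgebra.toSubmodule R').FG := by
    rw [hR']
    refine fg_adjoin_of_finite (Set.toFinite _) ?_
    intro x hx
    simp only [Set.mem_insert_iff, Set.mem_singleton_iff] at hx
    rcases hx with rfl | rfl | rfl
    · exact hyint
    · exact hPint
    · exact hWint
  haveI hfin : Module.Finite R R' := Module.Finite.of_fg hfg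
  let φ : R' →ₐ[R] K := R'.val
  have hφinj : Function.Injective φ := Subtype.val_injective
  obtain ⟨ε, hε⟩ := exists_eps (R := R) (S := R') ⟨y, hyR⟩ ⟨P, hPR⟩ ⟨W, hWR⟩
    (algebraMap R R' (u j)) (hj.map _)
  obtain ⟨a', ha'_def⟩ : ∃ a' : R', a' = (⟨y, hyR⟩ : R') * ε + ⟨P, hPR⟩ * (1 - ε) := ⟨_, rfl⟩
  obtain ⟨b', hb'_def⟩ : ∃ b' : R', b' = (⟨W, hWR⟩ : R') * ε
      - (algebraMap R R' (u j) - ⟨y, hyR⟩) * (1 - ε) := ⟨_, rfl⟩
  rw [← ha'_def, ← hb'_def] at hε
  have hφa' : φ a' = y * φ ε + P * (1 - φ ε) := by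
    rw [ha'_def]; simp only [map_add, map_mul, map_sub, map_one]; rfl
  have hφb' : φ b' = W * φ ε - (algebraMap R K (u j) - y) * (1 - φ ε) := by
    rw [hb'_def]; simp only [map_add, map_mul, map_sub, map_one, AlgHom.commutes]; rfl
  have hb'c : φ b' = c * φ a' := by
    rw [hφa', hφb']
    linear_combination (-(1 - φ ε)) * hcP + (φ ε) * hW_def
  have h1mem : (1 : R') ∈ Ideal.span {a', b'} := by rw [hε]; trivial
  obtain ⟨α, β, hαβ⟩ := Ideal.mem_span_pair.mp h1mem
  have hφαβ : φ α * φ a' + φ β * φ b' = 1 := by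
    rw [← map_mul, ← map_mul, ← map_add, hαβ, map_one]
  obtain ⟨t, ht_def⟩ : ∃ t : R', t = α * algebraMap R R' a + β * algebraMap R R' b :=
    ⟨_, rfl⟩
  have hφt : φ t = φ α * algebraMap R K a + φ β * algebraMap R K b := by
    rw [ht_def]; simp only [map_add, map_mul, AlgHom.commutes]
  have hta : algebraMap R R' a = t * a' := by
    apply hφinj
    rw [map_mul, hφt, AlgHom.commutes, ← hcA]
    linear_combination (-(algebraMap R K a)) * hφαβ + (algebraMap R K a * φ β) * hb'c
  have htb : algebraMap R R' b = t * b' := by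
    apply hφinj
    rw [map_mul, hφt, AlgHom.commutes, ← hcA]
    linear_combination (-(c * algebraMap R K a)) * hφαβ
      + (-(φ α * algebraMap R K a)) * hb'c
  have hφta : φ t * φ a' = algebraMap R K a := by rw [← map_mul, ← hta, AlgHom.commutes]
  have hφtb : φ t * φ b' = algebraMap R K b := by rw [← map_mul, ← htb, AlgHom.commutes]
  have htu : IsUnit (φ t) := isUnit_of_mul_isUnit_left (by rw [hφta]; exact hAu)
  have ha'u : IsUnit (φ a') := isUnit_of_mul_isUnit_right (by rw [hφta]; exact hAu)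
  have hb'u : IsUnit (φ b') := isUnit_of_mul_isUnit_right (by rw [hφtb]; exact hBu)
  have hinj' : Function.Injective (algebraMap R R') := by
    intro r s hrs
    apply hinj
    rw [← φ.commutes r, ← φ.commutes s, hrs]
  have htors : ∃ m : ℕ, ∀ r ∈ maximalIdeal R ^ m, ∀ x : R',
      r • x ∈ (algebraMap R R').range := by
    obtain ⟨G, hG⟩ := hfg
    obtain ⟨s, hs⟩ := IsLocalization.exist_integer_multiples_of_finset (nonZeroDivisors R) G
    obtain ⟨m, hm⟩ := exists_pow_le_span hR s.2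
    have hsx : ∀ x ∈ Submodule.span R (G : Set K),
        ∃ z : R, algebraMap R K z = (s : R) • x := by
      intro x hx
      induction hx using Submodule.span_induction with
      | mem x hx => exact RingHom.mem_rangeS.mp (hs x hx)
      | zero => exact ⟨0, by simp⟩
      | add x y _ _ hx hy =>
        obtain ⟨z1, h1⟩ := hx
        obtain ⟨z2, h2⟩ := hy
        exact ⟨z1 + z2, by rw [map_add, h1, h2, smul_add]⟩
      | smul r x _ hx =>
        obtain ⟨z, h⟩ := hx
        exact ⟨r * z, by rw [map_mul, h, smul_comm, Algebra.smul_def r]⟩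
    refine ⟨m, fun r hr x => ?_⟩
    obtain ⟨r', hr'⟩ := Ideal.mem_span_singleton'.mp (hm hr)
    have hxmem : (x : K) ∈ Submodule.span R (G : Set K) := by
      rw [hG]; exact x.2
    obtain ⟨z, hz⟩ := hsx _ hxmem
    refine ⟨r' * z, ?_⟩
    have hzx : algebraMap R K (r' * z) = r • (x : K) := by
      rw [map_mul, hz, ← hr']
      simp only [Algebra.smul_def, map_mul]; ring
    exact hφinj (by rw [AlgHom.commutes, map_smul]; exact hzx)
  exact ⟨R', inferInstance, inferInstance, ⟨hinj', hfin, htors⟩, t, a', b',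
    mem_nonZeroDivisors_of_injective hφinj htu.mem_nonZeroDivisors,
    mem_nonZeroDivisors_of_injective hφinj ha'u.mem_nonZeroDivisors,
    mem_nonZeroDivisors_of_injective hφinj hb'u.mem_nonZeroDivisors, hta, htb, hε⟩

theorem main (hR : ringKrullDim R = 1) (a b : R) (ha : a ∈ nonZeroDivisors R)
    (hb : b ∈ nonZeroDivisors R) :
    ∃ (R' : Type u) (_ : CommRing R') (_ : Algebra R R'),
      (Function.Injective (algebraMap R R') ∧ Module.Finite R R' ∧
        ∃ n : ℕ, ∀ r ∈ maximalIdeal R ^ n, ∀ x : R', r • x ∈ (algebraMap R R').range) ∧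
      ∃ t a' b' : R', t ∈ nonZeroDivisors R' ∧ a' ∈ nonZeroDivisors R' ∧
        b' ∈ nonZeroDivisors R' ∧ algebraMap R R' a = t * a' ∧ algebraMap R R' b = t * b' ∧
        Ideal.span {a', b'} = ⊤ := by
  by_cases hau : IsUnit a
  · refine ⟨R, inferInstance, Algebra.id R, ⟨Function.injective_id, inferInstance, 0, ?_⟩,
      1, a, b, one_mem _, ha, hb, (one_mul a).symm, (one_mul b).symm, ?_⟩
    · intro r _ x
      exact ⟨r * x, rfl⟩
    · exact Ideal.eq_top_of_isUnit_mem _ (Ideal.subset_span (Set.mem_insert a {b})) hau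
  · exact main_aux (FractionRing R) hR a b ha hb ((mem_maximalIdeal a).mpr hau)

end PartD

end Groth.Agent.H4.BlowOne
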