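import Mathlib
import Groth.Prelude.Def_ChGrp
import Groth.Prelude.Def_W4bk4git07Quot
import Groth.Agent.Lib.Helper3.LocSec

set_option autoImplicit false

open CategoryTheory CategoryTheory.Limits MonoidalCategory CartesianMonoidalCategory MonObj GrpObj AlgebraicGeometry

universe u

namespace Groth.Agent.H4.BpA

variable {S : Scheme.{u}}

/-! ### general lemmas -/

theorem isCatQuot_of_cart {H X Y : Over S} [GrpObj H] (a : AlgGrp.Action H X) (j : X ⟶ Y)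
    (hc : IsPullback a.act (snd H X) j j)
    (hl : NonAbH1.IsLocallyTrivialFor Scheme.fppfPrecoverage (Over.mk j.left : Over Y.left)) :
    GIT.IsCatQuot a j := by
  haveI : EffectiveEpi j :=
    (Groth.Agent.H3.LocSec.uee_of_isLocallyTrivialFor_fppf j hl).effectiveEpi
  unfold GIT.IsCatQuot
  refine ⟨hc.w, fun W ψ hψ => ?_⟩
  have hψ' : a.act ≫ ψ = snd H X ≫ ψ := hψ
  have key : ∀ {T : Over S} (g₁ g₂ : T ⟶ X), g₁ ≫ j = g₂ ≫ j → g₁ ≫ ψ = g₂ ≫ ψ := by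
    intro T g₁ g₂ hg
    calc g₁ ≫ ψ = (hc.lift g₁ g₂ hg ≫ a.act) ≫ ψ := by rw [hc.lift_fst]
      _ = hc.lift g₁ g₂ hg ≫ (a.act ≫ ψ) := Category.assoc _ _ _
      _ = hc.lift g₁ g₂ hg ≫ (snd H X ≫ ψ) := by rw [hψ']
      _ = (hc.lift g₁ g₂ hg ≫ snd H X) ≫ ψ := (Category.assoc _ _ _).symm
      _ = g₂ ≫ ψ := by rw [hc.lift_snd]
  exact ⟨EffectiveEpi.desc j ψ key, EffectiveEpi.fac j ψ key,
    fun m hm => EffectiveEpi.uniq j ψ key m hm⟩

theorem isPullback_whiskerLeft (G : Over S) {X Y : Over S} (j : X ⟶ Y) :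
    IsPullback (G ◁ j) (snd G X) (snd G Y) j := by
  refine ⟨⟨whiskerLeft_snd G j⟩, ⟨PullbackCone.IsLimit.mk _
    (fun s => lift (s.fst ≫ fst G Y) s.snd) ?_ ?_ ?_⟩⟩
  · intro s
    rw [lift_whiskerLeft]
    apply CartesianMonoidalCategory.hom_ext
    · rw [lift_fst]
    · rw [lift_snd, s.condition]
  · intro s
    exact lift_snd _ _
  · intro s m h1 h2
    apply CartesianMonoidalCategory.hom_ext
    · rw [lift_fst, ← h1, Category.assoc, whiskerLeft_fst]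
    · rw [lift_snd, h2]

theorem mono_whiskerLeft (G : Over S) {X Y : Over S} (f : X ⟶ Y) [Mono f] : Mono (G ◁ f) := by
  refine ⟨fun a b hab => ?_⟩
  apply CartesianMonoidalCategory.hom_ext
  · have h := congrArg (fun t => t ≫ fst G Y) hab
    simp only [Category.assoc, whiskerLeft_fst] at h
    exact h
  · have h := congrArg (fun t => t ≫ snd G Y) hab
    simp only [Category.assoc, whiskerLeft_snd] at h
    rw [← Category.assoc, ← Category.assoc] at h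
    exact (cancel_mono f).1 h

theorem exists_lift_eq {A B : Over S} {T : Over S} (p : T ⟶ A ⊗ B) :
    ∃ (a : T ⟶ A) (b : T ⟶ B), p = lift a b :=
  ⟨p ≫ fst A B, p ≫ snd A B, by rw [← comp_lift, lift_fst_snd, Category.comp_id]⟩

/-! ### action induced on a subobject -/

section ActOfMono

variable {H Z Z' : Over S} [GrpObj H] (aZ : AlgGrp.Action H Z) (c' : Z' ⟶ Z)
  (act' : H ⊗ Z' ⟶ Z') (hact : act' ≫ c' = (H ◁ c') ≫ aZ.act)

include hact in
theorem actOfMono_key {T : Over S} (h : T ⟶ H) (z : T ⟶ Z') :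
    lift h z ≫ act' ≫ c' = lift h (z ≫ c') ≫ aZ.act := by
  rw [hact, lift_whiskerLeft_assoc]

/-- the action induced on a subobject stable under the action -/
noncomputable def actOfMono [Mono c'] : AlgGrp.Action H Z' where
  act := act'
  one_act := by
    rw [← cancel_mono c']
    apply AlgGrp.Action.hom_ext_lift₂
    intro T u z
    have hu : u ≫ η[H] = 1 := by rw [Hom.one_def, toUnit_unique (toUnit T) u]
    calc lift u z ≫ ((η[H] ▷ Z') ≫ act') ≫ c'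
        = (lift u z ≫ (η[H] ▷ Z')) ≫ act' ≫ c' := by simp only [Category.assoc]
      _ = lift (1 : T ⟶ H) z ≫ act' ≫ c' := by rw [lift_whiskerRight, hu]
      _ = lift (1 : T ⟶ H) (z ≫ c') ≫ aZ.act := actOfMono_key aZ c' act' hact _ _
      _ = z ≫ c' := AlgGrp.Action.lift_one_act aZ _
      _ = lift u z ≫ (λ_ Z').hom ≫ c' := by rw [leftUnitor_hom, lift_snd_assoc]
  mul_act := by
    rw [← cancel_mono c']
    apply AlgGrp.Action.hom_ext_lift₃
    intro T h h' z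
    calc lift (lift h h') z ≫ ((μ[H] ▷ Z') ≫ act') ≫ c'
        = (lift (lift h h') z ≫ (μ[H] ▷ Z')) ≫ act' ≫ c' := by simp only [Category.assoc]
      _ = lift (h * h') z ≫ act' ≫ c' := by rw [lift_whiskerRight, ← Hom.mul_def]
      _ = lift (h * h') (z ≫ c') ≫ aZ.act := actOfMono_key aZ c' act' hact _ _
      _ = lift h (lift h' (z ≫ c') ≫ aZ.act) ≫ aZ.act := AlgGrp.Action.lift_mul_act aZ _ _ _
      _ = lift h (lift h' z ≫ act' ≫ c') ≫ aZ.act := by rw [actOfMono_key aZ c' act' hact]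
      _ = lift h ((lift h' z ≫ act') ≫ c') ≫ aZ.act := by rw [Category.assoc]
      _ = lift h (lift h' z ≫ act') ≫ act' ≫ c' := (actOfMono_key aZ c' act' hact _ _).symm
      _ = (lift h (lift h' z) ≫ (H ◁ act')) ≫ act' ≫ c' := by rw [lift_whiskerLeft]
      _ = ((lift (lift h h') z ≫ (α_ H H Z').hom) ≫ (H ◁ act')) ≫ act' ≫ c' := by
          rw [lift_lift_associator_hom]
      _ = lift (lift h h') z ≫ ((α_ H H Z').hom ≫ (H ◁ act') ≫ act') ≫ c' := by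
          simp only [Category.assoc]

@[simp] theorem actOfMono_act [Mono c'] : (actOfMono aZ c' act' hact).act = act' := rfl

end ActOfMono

/-! ### balanced products: points formulas -/

section Bal

variable {G H Z Y : Over S} [GrpObj G] [GrpObj H] (i : H ⟶ G) [IsMonHom i]
  (aZ : AlgGrp.Action H Z) (aY : AlgGrp.Action G Y) (j : G ⊗ Z ⟶ Y)

omit [GrpObj H] in
theorem comp_unitSec {T : Over S} (w : T ⟶ Z) :
    w ≫ lift (toUnit Z ≫ η[G]) (𝟙 Z) = lift (1 : T ⟶ G) w := by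
  rw [comp_lift, Category.comp_id, ← Category.assoc, toUnit_unique (w ≫ toUnit Z) (toUnit T),
    ← Hom.one_def]

omit [GrpObj H] in
theorem lift_leftProd_act {T : Over S} (g' g : T ⟶ G) (z : T ⟶ Z) :
    lift g' (lift g z) ≫ ((NonAbH1.trivialAction G).prod (AlgGrp.Action.trivial G Z)).act
      = lift (g' * g) z := by
  rw [AlgGrp.Action.lift_prod_act, AlgGrp.Action.lift_trivial_act, Hom.mul_def]
  all_goals rfl

omit [GrpObj H] in
theorem j_equiv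
    (heq : AlgGrp.Action.IsEquivariant
      ((NonAbH1.trivialAction G).prod (AlgGrp.Action.trivial G Z)) aY j)
    {T : Over S} (g' g : T ⟶ G) (z : T ⟶ Z) :
    lift (g' * g) z ≫ j = lift g' (lift g z ≫ j) ≫ aY.act := by
  have heq' : ((NonAbH1.trivialAction G).prod (AlgGrp.Action.trivial G Z)).act ≫ j
      = (G ◁ j) ≫ aY.act := heq
  calc lift (g' * g) z ≫ j
      = (lift g' (lift g z) ≫
          ((NonAbH1.trivialAction G).prod (AlgGrp.Action.trivial G Z)).act) ≫ j := by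
        rw [lift_leftProd_act]
    _ = lift g' (lift g z) ≫
          (((NonAbH1.trivialAction G).prod (AlgGrp.Action.trivial G Z)).act ≫ j) :=
        Category.assoc _ _ _
    _ = lift g' (lift g z) ≫ ((G ◁ j) ≫ aY.act) := by rw [heq']
    _ = (lift g' (lift g z) ≫ (G ◁ j)) ≫ aY.act := (Category.assoc _ _ _).symm
    _ = lift g' (lift g z ≫ j) ≫ aY.act := by rw [lift_whiskerLeft]

theorem j_inv (hw : (ChGrp.twist i aZ).act ≫ j = snd H (G ⊗ Z) ≫ j)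
    {T : Over S} (h : T ⟶ H) (g : T ⟶ G) (z : T ⟶ Z) :
    lift (g * (h ≫ i)⁻¹) (lift h z ≫ aZ.act) ≫ j = lift g z ≫ j := by
  calc lift (g * (h ≫ i)⁻¹) (lift h z ≫ aZ.act) ≫ j
      = (lift h (lift g z) ≫ (ChGrp.twist i aZ).act) ≫ j := by rw [ChGrp.lift_twist_act]
    _ = lift h (lift g z) ≫ ((ChGrp.twist i aZ).act ≫ j) := Category.assoc _ _ _
    _ = lift h (lift g z) ≫ (snd H (G ⊗ Z) ≫ j) := by rw [hw]
    _ = (lift h (lift g z) ≫ snd H (G ⊗ Z)) ≫ j := (Category.assoc _ _ _).symm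
    _ = lift g z ≫ j := by rw [lift_snd]

theorem unitSec_equiv
    (heq : AlgGrp.Action.IsEquivariant
      ((NonAbH1.trivialAction G).prod (AlgGrp.Action.trivial G Z)) aY j)
    (hw : (ChGrp.twist i aZ).act ≫ j = snd H (G ⊗ Z) ≫ j)
    {T : Over S} (h : T ⟶ H) (z : T ⟶ Z) :
    lift (1 : T ⟶ G) (lift h z ≫ aZ.act) ≫ j
      = lift (h ≫ i) (lift (1 : T ⟶ G) z ≫ j) ≫ aY.act := by
  have h1 := j_inv i aZ j hw h (h ≫ i) z
  rw [_root_.mul_inv_cancel] at h1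
  rw [h1]
  have h2 := j_equiv aY j heq (h ≫ i) 1 z
  rw [_root_.mul_one] at h2
  exact h2

/-- `Y//G ≅ Z//H` for a balanced product `Y = G ×^H Z`. -/
theorem main79 {P Q : Over S}
    (hY : ChGrp.IsBalProd Scheme.fppfPrecoverage i aZ aY j)
    (πZ : Z ⟶ P) (hP : GIT.IsCatQuot aZ πZ) (πY : Y ⟶ Q) (hQ : GIT.IsCatQuot aY πY) :
    ∃ (φ : P ⟶ Q) (χ : Q ⟶ P), φ ≫ χ = 𝟙 P ∧ χ ≫ φ = 𝟙 Q ∧
      πZ ≫ φ = lift (toUnit Z ≫ η[G]) (𝟙 Z) ≫ j ≫ πY ∧ j ≫ πY ≫ χ = snd G Z ≫ πZ := by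
  obtain ⟨heq, hcart, hloc⟩ := hY
  obtain ⟨hPinv0, hPuniv⟩ := hP
  obtain ⟨hQinv0, hQuniv⟩ := hQ
  have hw : (ChGrp.twist i aZ).act ≫ j = snd H (G ⊗ Z) ≫ j := hcart.w
  obtain ⟨-, hcquniv⟩ := isCatQuot_of_cart _ j hcart hloc
  have huee := Groth.Agent.H3.LocSec.uee_of_isLocallyTrivialFor_fppf j hloc
  haveI : Epi j := huee.epi
  haveI : Epi (G ◁ j) := (huee.of_isPullback (isPullback_whiskerLeft G j)).epi
  have hPinv : aZ.act ≫ πZ = snd H Z ≫ πZ := hPinv0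
  have hQinv : aY.act ≫ πY = snd G Y ≫ πY := hQinv0
  have hinvY : ∀ {T : Over S} (g : T ⟶ G) (y : T ⟶ Y), lift g y ≫ aY.act ≫ πY = y ≫ πY := by
    intro T g y
    rw [hQinv, lift_snd_assoc]
  have hkey : ∀ {T : Over S} (g : T ⟶ G) (z : T ⟶ Z),
      lift g z ≫ j ≫ πY = lift (1 : T ⟶ G) z ≫ j ≫ πY := by
    intro T g z
    have h2 := j_equiv aY j heq g 1 z
    rw [_root_.mul_one] at h2
    calc lift g z ≫ j ≫ πY = (lift g z ≫ j) ≫ πY := (Category.assoc _ _ _).symm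
      _ = (lift g (lift (1 : T ⟶ G) z ≫ j) ≫ aY.act) ≫ πY := by rw [h2]
      _ = lift g (lift (1 : T ⟶ G) z ≫ j) ≫ aY.act ≫ πY := Category.assoc _ _ _
      _ = (lift (1 : T ⟶ G) z ≫ j) ≫ πY := hinvY _ _
      _ = lift (1 : T ⟶ G) z ≫ j ≫ πY := Category.assoc _ _ _
  have hψZ : GIT.IsInvariant aZ (lift (toUnit Z ≫ η[G]) (𝟙 Z) ≫ j ≫ πY) := by
    show aZ.act ≫ _ = snd H Z ≫ _
    apply AlgGrp.Action.hom_ext_lift₂
    intro T h z
    calc lift h z ≫ aZ.act ≫ lift (toUnit Z ≫ η[G]) (𝟙 Z) ≫ j ≫ πY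
        = ((lift h z ≫ aZ.act) ≫ lift (toUnit Z ≫ η[G]) (𝟙 Z)) ≫ j ≫ πY := by
          simp only [Category.assoc]
      _ = lift (1 : T ⟶ G) (lift h z ≫ aZ.act) ≫ j ≫ πY := by rw [comp_unitSec]
      _ = (lift (1 : T ⟶ G) (lift h z ≫ aZ.act) ≫ j) ≫ πY := (Category.assoc _ _ _).symm
      _ = (lift (h ≫ i) (lift (1 : T ⟶ G) z ≫ j) ≫ aY.act) ≫ πY := by
          rw [unitSec_equiv i aZ aY j heq hw]
      _ = lift (h ≫ i) (lift (1 : T ⟶ G) z ≫ j) ≫ aY.act ≫ πY := Category.assoc _ _ _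
      _ = (lift (1 : T ⟶ G) z ≫ j) ≫ πY := hinvY _ _
      _ = lift (1 : T ⟶ G) z ≫ j ≫ πY := Category.assoc _ _ _
      _ = (z ≫ lift (toUnit Z ≫ η[G]) (𝟙 Z)) ≫ j ≫ πY := by rw [comp_unitSec]
      _ = lift h z ≫ snd H Z ≫ lift (toUnit Z ≫ η[G]) (𝟙 Z) ≫ j ≫ πY := by
          rw [lift_snd_assoc, Category.assoc]
  obtain ⟨φ, hφ, -⟩ := hPuniv Q _ hψZ
  have hm0 : GIT.IsInvariant (ChGrp.twist i aZ) (snd G Z ≫ πZ) := by
    show (ChGrp.twist i aZ).act ≫ _ = snd H (G ⊗ Z) ≫ _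
    apply AlgGrp.Action.hom_ext_lift₂
    intro T h p
    obtain ⟨g, z, rfl⟩ := exists_lift_eq p
    calc lift h (lift g z) ≫ (ChGrp.twist i aZ).act ≫ snd G Z ≫ πZ
        = (lift h (lift g z) ≫ (ChGrp.twist i aZ).act) ≫ snd G Z ≫ πZ :=
          (Category.assoc _ _ _).symm
      _ = lift (g * (h ≫ i)⁻¹) (lift h z ≫ aZ.act) ≫ snd G Z ≫ πZ := by
          rw [ChGrp.lift_twist_act]
      _ = (lift h z ≫ aZ.act) ≫ πZ := by rw [lift_snd_assoc]
      _ = lift h z ≫ aZ.act ≫ πZ := Category.assoc _ _ _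
      _ = lift h z ≫ snd H Z ≫ πZ := by rw [hPinv]
      _ = z ≫ πZ := by rw [lift_snd_assoc]
      _ = lift h (lift g z) ≫ snd H (G ⊗ Z) ≫ snd G Z ≫ πZ := by
          rw [lift_snd_assoc, lift_snd_assoc]
  obtain ⟨m, hm, -⟩ := hcquniv P _ hm0
  have hminv : GIT.IsInvariant aY m := by
    show aY.act ≫ m = snd G Y ≫ m
    rw [← cancel_epi (G ◁ j)]
    apply AlgGrp.Action.hom_ext_lift₂
    intro T g' p
    obtain ⟨g, z, rfl⟩ := exists_lift_eq p
    calc lift g' (lift g z) ≫ (G ◁ j) ≫ aY.act ≫ m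
        = (lift g' (lift g z) ≫ (G ◁ j)) ≫ aY.act ≫ m := (Category.assoc _ _ _).symm
      _ = lift g' (lift g z ≫ j) ≫ aY.act ≫ m := by rw [lift_whiskerLeft]
      _ = (lift g' (lift g z ≫ j) ≫ aY.act) ≫ m := (Category.assoc _ _ _).symm
      _ = (lift (g' * g) z ≫ j) ≫ m := by rw [j_equiv aY j heq]
      _ = lift (g' * g) z ≫ j ≫ m := Category.assoc _ _ _
      _ = lift (g' * g) z ≫ snd G Z ≫ πZ := by rw [hm]
      _ = z ≫ πZ := by rw [lift_snd_assoc]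
      _ = lift g z ≫ snd G Z ≫ πZ := by rw [lift_snd_assoc]
      _ = lift g z ≫ j ≫ m := by rw [hm]
      _ = (lift g' (lift g z) ≫ snd G (G ⊗ Z)) ≫ j ≫ m := by rw [lift_snd]
      _ = lift g' (lift g z) ≫ (G ◁ j) ≫ snd G Y ≫ m := by
          rw [Category.assoc, ← whiskerLeft_snd_assoc]
  obtain ⟨χ, hχ, -⟩ := hQuniv P m hminv
  refine ⟨φ, χ, ?_, ?_, hφ, ?_⟩
  · have h1 : πZ ≫ (φ ≫ χ) = πZ := by
      calc πZ ≫ (φ ≫ χ) = (πZ ≫ φ) ≫ χ := (Category.assoc _ _ _).symm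
        _ = (lift (toUnit Z ≫ η[G]) (𝟙 Z) ≫ j ≫ πY) ≫ χ := by rw [hφ]
        _ = lift (toUnit Z ≫ η[G]) (𝟙 Z) ≫ j ≫ πY ≫ χ := by simp only [Category.assoc]
        _ = lift (toUnit Z ≫ η[G]) (𝟙 Z) ≫ j ≫ m := by rw [hχ]
        _ = lift (toUnit Z ≫ η[G]) (𝟙 Z) ≫ snd G Z ≫ πZ := by rw [hm]
        _ = πZ := by rw [lift_snd_assoc, Category.id_comp]
    exact (hPuniv P πZ hPinv0).unique h1 (Category.comp_id _)
  · have h2 : m ≫ φ = πY := by
      rw [← cancel_epi j]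
      apply AlgGrp.Action.hom_ext_lift₂
      intro T g z
      calc lift g z ≫ j ≫ m ≫ φ = lift g z ≫ (j ≫ m) ≫ φ := by simp only [Category.assoc]
        _ = lift g z ≫ (snd G Z ≫ πZ) ≫ φ := by rw [hm]
        _ = (lift g z ≫ snd G Z) ≫ πZ ≫ φ := by simp only [Category.assoc]
        _ = z ≫ lift (toUnit Z ≫ η[G]) (𝟙 Z) ≫ j ≫ πY := by rw [lift_snd, hφ]
        _ = (z ≫ lift (toUnit Z ≫ η[G]) (𝟙 Z)) ≫ j ≫ πY := (Category.assoc _ _ _).symm
        _ = lift (1 : T ⟶ G) z ≫ j ≫ πY := by rw [comp_unitSec]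
        _ = lift g z ≫ j ≫ πY := (hkey g z).symm
    have h1 : πY ≫ (χ ≫ φ) = πY := by
      rw [← Category.assoc, hχ, h2]
    exact (hQuniv Q πY hQinv0).unique h1 (Category.comp_id _)
  · rw [hχ, hm]

end Bal

/-! ### closed invariant subschemes of balanced products -/

section Sub

variable {G H Z Y Y' Z' : Over S} [GrpObj G] [GrpObj H] (i : H ⟶ G) [IsMonHom i]
  (aZ : AlgGrp.Action H Z) (aY : AlgGrp.Action G Y) (j : G ⊗ Z ⟶ Y)
  (c : Y' ⟶ Y) (aY' : AlgGrp.Action G Y')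

/-- the unit section `z ↦ j(1, z)` -/
noncomputable def eS : Z ⟶ Y := lift (toUnit Z ≫ η[G]) (𝟙 Z) ≫ j

omit [GrpObj H] in
theorem comp_eS {T : Over S} (w : T ⟶ Z) : w ≫ eS j = lift (1 : T ⟶ G) w ≫ j := by
  unfold eS
  rw [← Category.assoc, comp_unitSec]

omit [GrpObj H] in
theorem j_eS
    (heq : AlgGrp.Action.IsEquivariant
      ((NonAbH1.trivialAction G).prod (AlgGrp.Action.trivial G Z)) aY j)
    {T : Over S} (g : T ⟶ G) (z : T ⟶ Z) :
    lift g z ≫ j = lift g (z ≫ eS j) ≫ aY.act := by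
  have h2 := j_equiv aY j heq g 1 z
  rw [_root_.mul_one] at h2
  rw [comp_eS]
  exact h2

theorem eS_equiv
    (heq : AlgGrp.Action.IsEquivariant
      ((NonAbH1.trivialAction G).prod (AlgGrp.Action.trivial G Z)) aY j)
    (hw : (ChGrp.twist i aZ).act ≫ j = snd H (G ⊗ Z) ≫ j)
    {T : Over S} (h : T ⟶ H) (z : T ⟶ Z) :
    (lift h z ≫ aZ.act) ≫ eS j = lift (h ≫ i) (z ≫ eS j) ≫ aY.act := by
  rw [comp_eS, comp_eS]
  exact unitSec_equiv i aZ aY j heq hw h z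

omit [GrpObj H] in
theorem mono_fst_of {c' : Z' ⟶ Z} {y' : Z' ⟶ Y'} (hZ' : IsPullback c' y' (eS j) c) [Mono c] :
    Mono c' := by
  refine ⟨fun a b hab => ?_⟩
  apply hZ'.hom_ext hab
  rw [← cancel_mono c]
  calc (a ≫ y') ≫ c = a ≫ (y' ≫ c) := Category.assoc _ _ _
    _ = a ≫ (c' ≫ eS j) := by rw [hZ'.w]
    _ = (a ≫ c') ≫ eS j := (Category.assoc _ _ _).symm
    _ = (b ≫ c') ≫ eS j := by rw [hab]
    _ = b ≫ (c' ≫ eS j) := Category.assoc _ _ _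
    _ = b ≫ (y' ≫ c) := by rw [hZ'.w]
    _ = (b ≫ y') ≫ c := (Category.assoc _ _ _).symm

omit [GrpObj H] in
/-- lifting points of `(G × Z) ×_Y Y'` to `G × Z'` -/
theorem exists_lift_sub
    (heq : AlgGrp.Action.IsEquivariant
      ((NonAbH1.trivialAction G).prod (AlgGrp.Action.trivial G Z)) aY j)
    (hc : aY'.act ≫ c = (G ◁ c) ≫ aY.act)
    {c' : Z' ⟶ Z} {y' : Z' ⟶ Y'} (hZ' : IsPullback c' y' (eS j) c)
    {T : Over S} (g : T ⟶ G) (z : T ⟶ Z) (y : T ⟶ Y') (hty : lift g z ≫ j = y ≫ c) :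
    ∃ t' : T ⟶ G ⊗ Z', t' ≫ ((G ◁ y') ≫ aY'.act) = y ∧ t' ≫ (G ◁ c') = lift g z := by
  have claim : z ≫ eS j = (lift g⁻¹ y ≫ aY'.act) ≫ c := by
    symm
    calc (lift g⁻¹ y ≫ aY'.act) ≫ c = lift g⁻¹ y ≫ (aY'.act ≫ c) := Category.assoc _ _ _
      _ = lift g⁻¹ y ≫ (G ◁ c) ≫ aY.act := by rw [hc]
      _ = lift g⁻¹ (y ≫ c) ≫ aY.act := by rw [lift_whiskerLeft_assoc]
      _ = lift g⁻¹ (lift g z ≫ j) ≫ aY.act := by rw [hty]
      _ = lift g⁻¹ (lift g (z ≫ eS j) ≫ aY.act) ≫ aY.act := by rw [j_eS aY j heq]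
      _ = lift (g⁻¹ * g) (z ≫ eS j) ≫ aY.act := (AlgGrp.Action.lift_mul_act aY _ _ _).symm
      _ = lift (1 : T ⟶ G) (z ≫ eS j) ≫ aY.act := by rw [_root_.inv_mul_cancel]
      _ = z ≫ eS j := AlgGrp.Action.lift_one_act aY _
  refine ⟨lift g (hZ'.lift z (lift g⁻¹ y ≫ aY'.act) claim), ?_, ?_⟩
  · calc lift g (hZ'.lift z (lift g⁻¹ y ≫ aY'.act) claim) ≫ ((G ◁ y') ≫ aY'.act)
        = lift g (hZ'.lift z (lift g⁻¹ y ≫ aY'.act) claim ≫ y') ≫ aY'.act := by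
          rw [lift_whiskerLeft_assoc]
      _ = lift g (lift g⁻¹ y ≫ aY'.act) ≫ aY'.act := by rw [hZ'.lift_snd]
      _ = lift (g * g⁻¹) y ≫ aY'.act := (AlgGrp.Action.lift_mul_act aY' _ _ _).symm
      _ = lift (1 : T ⟶ G) y ≫ aY'.act := by rw [_root_.mul_inv_cancel]
      _ = y := AlgGrp.Action.lift_one_act aY' _
  · rw [lift_whiskerLeft, hZ'.lift_fst]

omit [GrpObj H] in
theorem jSub_comp
    (heq : AlgGrp.Action.IsEquivariant
      ((NonAbH1.trivialAction G).prod (AlgGrp.Action.trivial G Z)) aY j)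
    (hc : aY'.act ≫ c = (G ◁ c) ≫ aY.act)
    {c' : Z' ⟶ Z} {y' : Z' ⟶ Y'} (hZ' : IsPullback c' y' (eS j) c) :
    ((G ◁ y') ≫ aY'.act) ≫ c = (G ◁ c') ≫ j := by
  apply AlgGrp.Action.hom_ext_lift₂
  intro T g z
  calc lift g z ≫ ((G ◁ y') ≫ aY'.act) ≫ c
      = (lift g z ≫ (G ◁ y')) ≫ aY'.act ≫ c := by simp only [Category.assoc]
    _ = lift g (z ≫ y') ≫ (G ◁ c) ≫ aY.act := by rw [lift_whiskerLeft, hc]
    _ = lift g ((z ≫ y') ≫ c) ≫ aY.act := by rw [lift_whiskerLeft_assoc]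
    _ = lift g ((z ≫ c') ≫ eS j) ≫ aY.act := by
        rw [Category.assoc, ← hZ'.w, ← Category.assoc]
    _ = lift g (z ≫ c') ≫ j := (j_eS aY j heq _ _).symm
    _ = lift g z ≫ (G ◁ c') ≫ j := by rw [lift_whiskerLeft_assoc]

omit [GrpObj H] in
theorem equivSub {y' : Z' ⟶ Y'} :
    AlgGrp.Action.IsEquivariant
      ((NonAbH1.trivialAction G).prod (AlgGrp.Action.trivial G Z')) aY'
      ((G ◁ y') ≫ aY'.act) := by
  show _ ≫ _ = (G ◁ _) ≫ aY'.act
  apply AlgGrp.Action.hom_ext_lift₂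
  intro T g' p
  obtain ⟨g, z, rfl⟩ := exists_lift_eq p
  calc lift g' (lift g z) ≫
        ((NonAbH1.trivialAction G).prod (AlgGrp.Action.trivial G Z')).act ≫ (G ◁ y') ≫ aY'.act
      = (lift g' (lift g z) ≫
          ((NonAbH1.trivialAction G).prod (AlgGrp.Action.trivial G Z')).act) ≫
            (G ◁ y') ≫ aY'.act := (Category.assoc _ _ _).symm
    _ = lift (g' * g) z ≫ (G ◁ y') ≫ aY'.act := by rw [lift_leftProd_act]
    _ = lift (g' * g) (z ≫ y') ≫ aY'.act := by rw [lift_whiskerLeft_assoc]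
    _ = lift g' (lift g (z ≫ y') ≫ aY'.act) ≫ aY'.act := AlgGrp.Action.lift_mul_act aY' _ _ _
    _ = lift g' (lift g z ≫ (G ◁ y') ≫ aY'.act) ≫ aY'.act := by rw [lift_whiskerLeft_assoc]
    _ = lift g' (lift g z) ≫ (G ◁ ((G ◁ y') ≫ aY'.act)) ≫ aY'.act :=
        (lift_whiskerLeft_assoc _ _ _ _).symm

theorem twist_equiv (aZ' : AlgGrp.Action H Z') (c' : Z' ⟶ Z)
    (hact : aZ'.act ≫ c' = (H ◁ c') ≫ aZ.act) :
    (ChGrp.twist i aZ').act ≫ (G ◁ c') = (H ◁ (G ◁ c')) ≫ (ChGrp.twist i aZ).act := by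
  apply AlgGrp.Action.hom_ext_lift₂
  intro T h p
  obtain ⟨g, z, rfl⟩ := exists_lift_eq p
  calc lift h (lift g z) ≫ (ChGrp.twist i aZ').act ≫ (G ◁ c')
      = (lift h (lift g z) ≫ (ChGrp.twist i aZ').act) ≫ (G ◁ c') := (Category.assoc _ _ _).symm
    _ = lift (g * (h ≫ i)⁻¹) (lift h z ≫ aZ'.act) ≫ (G ◁ c') := by rw [ChGrp.lift_twist_act]
    _ = lift (g * (h ≫ i)⁻¹) (lift h z ≫ aZ'.act ≫ c') := by
        rw [lift_whiskerLeft, Category.assoc]
    _ = lift (g * (h ≫ i)⁻¹) (lift h (z ≫ c') ≫ aZ.act) := by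
        rw [hact, lift_whiskerLeft_assoc]
    _ = lift h (lift g (z ≫ c')) ≫ (ChGrp.twist i aZ).act := (ChGrp.lift_twist_act i aZ _ _ _).symm
    _ = lift h (lift g z ≫ (G ◁ c')) ≫ (ChGrp.twist i aZ).act := by rw [lift_whiskerLeft]
    _ = lift h (lift g z) ≫ (H ◁ (G ◁ c')) ≫ (ChGrp.twist i aZ).act := by
        rw [lift_whiskerLeft_assoc]

theorem cartSub (hcart : IsPullback (ChGrp.twist i aZ).act (snd H (G ⊗ Z)) j j)
    (aZ' : AlgGrp.Action H Z') (c' : Z' ⟶ Z) [Mono c'] [Mono c]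
    (hact : aZ'.act ≫ c' = (H ◁ c') ≫ aZ.act)
    (j' : G ⊗ Z' ⟶ Y') (hj' : j' ≫ c = (G ◁ c') ≫ j) :
    IsPullback (ChGrp.twist i aZ').act (snd H (G ⊗ Z')) j' j' := by
  haveI : Mono (G ◁ c') := mono_whiskerLeft G c'
  have hte := twist_equiv i aZ aZ' c' hact
  have hw' : (ChGrp.twist i aZ').act ≫ j' = snd H (G ⊗ Z') ≫ j' := by
    rw [← cancel_mono c]
    calc ((ChGrp.twist i aZ').act ≫ j') ≫ c
        = (ChGrp.twist i aZ').act ≫ (j' ≫ c) := Category.assoc _ _ _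
      _ = (ChGrp.twist i aZ').act ≫ (G ◁ c') ≫ j := by rw [hj']
      _ = ((ChGrp.twist i aZ').act ≫ (G ◁ c')) ≫ j := (Category.assoc _ _ _).symm
      _ = ((H ◁ (G ◁ c')) ≫ (ChGrp.twist i aZ).act) ≫ j := by rw [hte]
      _ = (H ◁ (G ◁ c')) ≫ ((ChGrp.twist i aZ).act ≫ j) := Category.assoc _ _ _
      _ = (H ◁ (G ◁ c')) ≫ (snd H (G ⊗ Z) ≫ j) := by rw [hcart.w]
      _ = snd H (G ⊗ Z') ≫ (G ◁ c') ≫ j := by rw [whiskerLeft_snd_assoc]
      _ = snd H (G ⊗ Z') ≫ (j' ≫ c) := by rw [hj']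
      _ = (snd H (G ⊗ Z') ≫ j') ≫ c := (Category.assoc _ _ _).symm
  have hex : ∀ {T : Over S} (a b : T ⟶ G ⊗ Z'), a ≫ j' = b ≫ j' →
      ∃ u : T ⟶ H ⊗ (G ⊗ Z'), u ≫ (ChGrp.twist i aZ').act = a ∧ u ≫ snd H (G ⊗ Z') = b := by
    intro T a b hab
    have hab' : (a ≫ (G ◁ c')) ≫ j = (b ≫ (G ◁ c')) ≫ j := by
      calc (a ≫ (G ◁ c')) ≫ j = a ≫ ((G ◁ c') ≫ j) := Category.assoc _ _ _
        _ = a ≫ (j' ≫ c) := by rw [hj']
        _ = (a ≫ j') ≫ c := (Category.assoc _ _ _).symm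
        _ = (b ≫ j') ≫ c := by rw [hab]
        _ = b ≫ (j' ≫ c) := Category.assoc _ _ _
        _ = b ≫ ((G ◁ c') ≫ j) := by rw [hj']
        _ = (b ≫ (G ◁ c')) ≫ j := (Category.assoc _ _ _).symm
    refine ⟨lift (hcart.lift _ _ hab' ≫ fst H (G ⊗ Z)) b, ?_, lift_snd _ _⟩
    rw [← cancel_mono (G ◁ c')]
    calc (lift (hcart.lift _ _ hab' ≫ fst H (G ⊗ Z)) b ≫ (ChGrp.twist i aZ').act) ≫ (G ◁ c')
        = lift (hcart.lift _ _ hab' ≫ fst H (G ⊗ Z)) b ≫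
            ((ChGrp.twist i aZ').act ≫ (G ◁ c')) := Category.assoc _ _ _
      _ = lift (hcart.lift _ _ hab' ≫ fst H (G ⊗ Z)) b ≫
            (H ◁ (G ◁ c')) ≫ (ChGrp.twist i aZ).act := by rw [hte]
      _ = lift (hcart.lift _ _ hab' ≫ fst H (G ⊗ Z)) (b ≫ (G ◁ c')) ≫
            (ChGrp.twist i aZ).act := by rw [lift_whiskerLeft_assoc]
      _ = lift (hcart.lift _ _ hab' ≫ fst H (G ⊗ Z))
            (hcart.lift _ _ hab' ≫ snd H (G ⊗ Z)) ≫ (ChGrp.twist i aZ).act := by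
          rw [hcart.lift_snd]
      _ = hcart.lift _ _ hab' ≫ (ChGrp.twist i aZ).act := by
          rw [← comp_lift, lift_fst_snd, Category.comp_id]
      _ = a ≫ (G ◁ c') := hcart.lift_fst _ _ _
  have huniq : ∀ {T : Over S} (u v : T ⟶ H ⊗ (G ⊗ Z')),
      u ≫ (ChGrp.twist i aZ').act = v ≫ (ChGrp.twist i aZ').act →
      u ≫ snd H (G ⊗ Z') = v ≫ snd H (G ⊗ Z') → u = v := by
    intro T u v h1 h2
    have e : u ≫ (H ◁ (G ◁ c')) = v ≫ (H ◁ (G ◁ c')) := by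
      apply hcart.hom_ext
      · calc (u ≫ (H ◁ (G ◁ c'))) ≫ (ChGrp.twist i aZ).act
            = u ≫ ((H ◁ (G ◁ c')) ≫ (ChGrp.twist i aZ).act) := Category.assoc _ _ _
          _ = u ≫ ((ChGrp.twist i aZ').act ≫ (G ◁ c')) := by rw [hte]
          _ = (u ≫ (ChGrp.twist i aZ').act) ≫ (G ◁ c') := (Category.assoc _ _ _).symm
          _ = (v ≫ (ChGrp.twist i aZ').act) ≫ (G ◁ c') := by rw [h1]
          _ = v ≫ ((ChGrp.twist i aZ').act ≫ (G ◁ c')) := Category.assoc _ _ _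
          _ = v ≫ ((H ◁ (G ◁ c')) ≫ (ChGrp.twist i aZ).act) := by rw [hte]
          _ = (v ≫ (H ◁ (G ◁ c'))) ≫ (ChGrp.twist i aZ).act := (Category.assoc _ _ _).symm
      · calc (u ≫ (H ◁ (G ◁ c'))) ≫ snd H (G ⊗ Z)
            = u ≫ snd H (G ⊗ Z') ≫ (G ◁ c') := by rw [Category.assoc, whiskerLeft_snd]
          _ = (u ≫ snd H (G ⊗ Z')) ≫ (G ◁ c') := (Category.assoc _ _ _).symm
          _ = (v ≫ snd H (G ⊗ Z')) ≫ (G ◁ c') := by rw [h2]
          _ = v ≫ snd H (G ⊗ Z') ≫ (G ◁ c') := Category.assoc _ _ _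
          _ = (v ≫ (H ◁ (G ◁ c'))) ≫ snd H (G ⊗ Z) := by rw [Category.assoc, whiskerLeft_snd]
    apply CartesianMonoidalCategory.hom_ext
    · have e' := congrArg (fun t => t ≫ fst H (G ⊗ Z)) e
      simp only [Category.assoc, whiskerLeft_fst] at e'
      exact e'
    · exact h2
  refine ⟨⟨hw'⟩, ⟨PullbackCone.IsLimit.mk _
    (fun s => (hex s.fst s.snd s.condition).choose) ?_ ?_ ?_⟩⟩
  · intro s
    exact (hex s.fst s.snd s.condition).choose_spec.1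
  · intro s
    exact (hex s.fst s.snd s.condition).choose_spec.2
  · intro s m h1 h2
    exact huniq _ _ (h1.trans (hex s.fst s.snd s.condition).choose_spec.1.symm)
      (h2.trans (hex s.fst s.snd s.condition).choose_spec.2.symm)

omit [GrpObj G] [GrpObj H] in
theorem locSub {A B A' B' : Over S} (q : A ⟶ B) (d : B' ⟶ B) (q' : A' ⟶ B')
    (hloc : NonAbH1.IsLocallyTrivialFor Scheme.fppfPrecoverage (Over.mk q.left : Over B.left))
    (hex : ∀ {T : Over S} (t : T ⟶ A) (y : T ⟶ B'), t ≫ q = y ≫ d →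
      ∃ t' : T ⟶ A', t' ≫ q' = y) :
    NonAbH1.IsLocallyTrivialFor Scheme.fppfPrecoverage (Over.mk q'.left : Over B'.left) := by
  obtain ⟨R, hR, hsec⟩ := hloc
  refine ⟨R.pullbackArrows d.left, Precoverage.pullbackArrows_mem d.left hR, ?_⟩
  rintro W g ⟨V, u, hu⟩
  obtain ⟨s, hs⟩ := hsec u hu
  have hs' : s ≫ q.left = u := hs
  have hp : pullback.fst u d.left ≫ u = pullback.snd u d.left ≫ d.left := pullback.condition
  have ht : (pullback.fst u d.left ≫ s) ≫ A.hom = pullback.snd u d.left ≫ B'.hom := by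
    calc (pullback.fst u d.left ≫ s) ≫ A.hom
        = (pullback.fst u d.left ≫ s) ≫ q.left ≫ B.hom := by rw [Over.w q]
      _ = (pullback.fst u d.left ≫ (s ≫ q.left)) ≫ B.hom := by simp only [Category.assoc]
      _ = (pullback.fst u d.left ≫ u) ≫ B.hom := by rw [hs']
      _ = (pullback.snd u d.left ≫ d.left) ≫ B.hom := by rw [hp]
      _ = pullback.snd u d.left ≫ B'.hom := by rw [Category.assoc, Over.w d]
  have hty : (Over.homMk (pullback.fst u d.left ≫ s) ht :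
      Over.mk (pullback.snd u d.left ≫ B'.hom) ⟶ A) ≫ q
      = (Over.homMk (pullback.snd u d.left) rfl :
          Over.mk (pullback.snd u d.left ≫ B'.hom) ⟶ B') ≫ d := by
    ext
    show (pullback.fst u d.left ≫ s) ≫ q.left = pullback.snd u d.left ≫ d.left
    rw [Category.assoc, hs', hp]
  obtain ⟨t', ht'⟩ := hex _ _ hty
  refine ⟨t'.left, ?_⟩
  have h3 := congrArg (fun m => m.left) ht'
  exact h3

/-- a closed invariant subscheme of a balanced product is a balanced product -/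
theorem main81
    (hY : ChGrp.IsBalProd Scheme.fppfPrecoverage i aZ aY j)
    [IsClosedImmersion c.left] (hc : AlgGrp.Action.IsEquivariant aY' aY c) :
    ∃ (Z' : Over S) (c' : Z' ⟶ Z) (aZ' : AlgGrp.Action H Z') (j' : G ⊗ Z' ⟶ Y'),
      IsClosedImmersion c'.left ∧ AlgGrp.Action.IsEquivariant aZ' aZ c' ∧
      j' ≫ c = (G ◁ c') ≫ j ∧ ChGrp.IsBalProd Scheme.fppfPrecoverage i aZ' aY' j' := by
  obtain ⟨heq, hcart, hloc⟩ := hY
  have hw : (ChGrp.twist i aZ).act ≫ j = snd H (G ⊗ Z) ≫ j := hcart.w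
  have hc' : aY'.act ≫ c = (G ◁ c) ≫ aY.act := hc
  haveI : Mono c.left := inferInstance
  haveI : Mono c := Over.mono_of_mono_left c
  have hZ' : IsPullback (pullback.fst (eS j) c) (pullback.snd (eS j) c) (eS j) c :=
    IsPullback.of_hasPullback (eS j) c
  haveI : Mono (pullback.fst (eS j) c) := mono_fst_of j c hZ'
  have hcomp : ((H ◁ pullback.fst (eS j) c) ≫ aZ.act) ≫ eS j
      = (lift (fst H (pullback (eS j) c) ≫ i)
          (snd H (pullback (eS j) c) ≫ pullback.snd (eS j) c) ≫ aY'.act) ≫ c := by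
    apply AlgGrp.Action.hom_ext_lift₂
    intro T h z
    calc lift h z ≫ ((H ◁ pullback.fst (eS j) c) ≫ aZ.act) ≫ eS j
        = ((lift h z ≫ (H ◁ pullback.fst (eS j) c)) ≫ aZ.act) ≫ eS j := by
          simp only [Category.assoc]
      _ = (lift h (z ≫ pullback.fst (eS j) c) ≫ aZ.act) ≫ eS j := by rw [lift_whiskerLeft]
      _ = lift (h ≫ i) ((z ≫ pullback.fst (eS j) c) ≫ eS j) ≫ aY.act :=
          eS_equiv i aZ aY j heq hw _ _
      _ = lift (h ≫ i) ((z ≫ pullback.snd (eS j) c) ≫ c) ≫ aY.act := by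
          rw [Category.assoc, hZ'.w, ← Category.assoc]
      _ = lift (h ≫ i) (z ≫ pullback.snd (eS j) c) ≫ (G ◁ c) ≫ aY.act := by
          rw [lift_whiskerLeft_assoc]
      _ = lift (h ≫ i) (z ≫ pullback.snd (eS j) c) ≫ aY'.act ≫ c := by rw [hc']
      _ = (lift h z ≫ lift (fst H (pullback (eS j) c) ≫ i)
            (snd H (pullback (eS j) c) ≫ pullback.snd (eS j) c)) ≫ aY'.act ≫ c := by
          rw [comp_lift, lift_fst_assoc, lift_snd_assoc]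
      _ = lift h z ≫ (lift (fst H (pullback (eS j) c) ≫ i)
            (snd H (pullback (eS j) c) ≫ pullback.snd (eS j) c) ≫ aY'.act) ≫ c := by
          simp only [Category.assoc]
  have hact : hZ'.lift _ _ hcomp ≫ pullback.fst (eS j) c
      = (H ◁ pullback.fst (eS j) c) ≫ aZ.act := hZ'.lift_fst _ _ _
  have hj' := jSub_comp aY j c aY' heq hc' hZ'
  refine ⟨pullback (eS j) c, pullback.fst (eS j) c,
    actOfMono aZ (pullback.fst (eS j) c) (hZ'.lift _ _ hcomp) hact,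
    (G ◁ pullback.snd (eS j) c) ≫ aY'.act, ?_, hact, hj', ?_⟩
  · have sq : IsPullback (pullback.fst (eS j) c).left (pullback.snd (eS j) c).left
        (eS j).left c.left := hZ'.map (Over.forget S)
    exact MorphismProperty.of_isPullback (P := @IsClosedImmersion) sq.flip inferInstance
  · refine And.intro (equivSub aY') (And.intro ?_ ?_)
    · exact cartSub i aZ j c hcart _ (pullback.fst (eS j) c) hact _ hj'
    · apply locSub j c _ hloc
      intro T t y hty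
      obtain ⟨g, z, rfl⟩ := exists_lift_eq t
      obtain ⟨t', ht', -⟩ := exists_lift_sub aY j c aY' heq hc' hZ' g z y hty
      exact ⟨t', ht'⟩

end Sub

end Groth.Agent.H4.BpA
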