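import Mathlib
import Groth.Prelude.Def_ChGrp
import Groth.Agent.H4.BpA

set_option autoImplicit false

open CategoryTheory CategoryTheory.Limits MonoidalCategory CartesianMonoidalCategory MonObj GrpObj AlgebraicGeometry

universe u

namespace Groth.Agent.H4.BpC

open Groth.Agent.H4

/-! ### abstract group lemmas -/

theorem conj_mul' {Γ : Type*} [Group Γ] (g' g c : Γ) :
    (g' * g) * c * (g' * g)⁻¹ = g' * (g * c * g⁻¹) * g'⁻¹ := by group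

theorem conj_comm' {Γ : Type*} [Group Γ] (g c z : Γ) (hc : z * c = c * z) :
    (g * z⁻¹) * c * (g * z⁻¹)⁻¹ = g * c * g⁻¹ := by
  have h1 : z⁻¹ * c * z = c := by
    rw [_root_.mul_assoc, ← hc, ← _root_.mul_assoc, _root_.inv_mul_cancel, _root_.one_mul]
  calc (g * z⁻¹) * c * (g * z⁻¹)⁻¹ = g * (z⁻¹ * c * z) * g⁻¹ := by group
    _ = g * c * g⁻¹ := by rw [h1]

theorem comm_of_conj' {Γ : Type*} [Group Γ] (c z : Γ) (h : 1 * c * 1⁻¹ = z * c * z⁻¹) :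
    z * c = c * z := by
  have h1 : c = z * c * z⁻¹ := by simpa using h
  calc z * c = z * c * z⁻¹ * z := by group
    _ = c * z := by rw [← h1]

theorem mul_inv_eq' {Γ : Type*} [Group Γ] (g z : Γ) : (g * z) * z⁻¹ = g := by group

theorem inv_mul_mul' {Γ : Type*} [Group Γ] (g z : Γ) : g⁻¹ * (g * z) = z := by group

theorem conj_inv' {Γ : Type*} [Group Γ] (g c : Γ) : g⁻¹ * (g * c * g⁻¹) * g⁻¹⁻¹ = c := by group

section

variable {S : Scheme.{u}} {G X Z Ψ Xh SΨ : Over S} [GrpObj G] [GrpObj Z]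

omit [GrpObj Z] in
theorem P1 (a : AlgGrp.Action G X) (h : 𝟙_ (Over S) ⟶ G) (incl : Xh ⟶ X) (σ : SΨ ⟶ G ⊗ X)
    (Φ : G ⊗ Xh ⟶ SΨ)
    (hΦ : Φ ≫ σ = lift (fst G Xh * (toUnit (G ⊗ Xh) ≫ h) * (fst G Xh)⁻¹)
      (lift (fst G Xh) (snd G Xh ≫ incl) ≫ a.act))
    {T : Over S} (g : T ⟶ G) (x : T ⟶ Xh) :
    (lift g x ≫ Φ) ≫ σ = lift (g * (toUnit T ≫ h) * g⁻¹) (lift g (x ≫ incl) ≫ a.act) := by
  have e1 : lift g x ≫ toUnit (G ⊗ Xh) = toUnit T := toUnit_unique _ _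
  calc (lift g x ≫ Φ) ≫ σ = lift g x ≫ (Φ ≫ σ) := Category.assoc _ _ _
    _ = lift g x ≫ lift (fst G Xh * (toUnit (G ⊗ Xh) ≫ h) * (fst G Xh)⁻¹)
          (lift (fst G Xh) (snd G Xh ≫ incl) ≫ a.act) := by rw [hΦ]
    _ = lift ((lift g x ≫ fst G Xh) * (lift g x ≫ toUnit (G ⊗ Xh) ≫ h) *
          (lift g x ≫ fst G Xh)⁻¹)
          (lift (lift g x ≫ fst G Xh) (lift g x ≫ snd G Xh ≫ incl) ≫ a.act) := by
        rw [comp_lift, comp_mul, comp_mul, comp_inv, comp_lift_assoc]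
    _ = lift (g * (toUnit T ≫ h) * g⁻¹) (lift g (x ≫ incl) ≫ a.act) := by
        rw [lift_fst, lift_snd_assoc, ← Category.assoc (lift g x), e1]

omit [GrpObj Z] in
theorem P2 (a : AlgGrp.Action G X) (σ : SΨ ⟶ G ⊗ X) (aS : AlgGrp.Action G SΨ)
    (hσ : aS.act ≫ σ = lift (fst G SΨ * (snd G SΨ ≫ σ ≫ fst G X) * (fst G SΨ)⁻¹)
      (lift (fst G SΨ) (snd G SΨ ≫ σ ≫ snd G X) ≫ a.act))
    {T : Over S} (g' : T ⟶ G) (q : T ⟶ SΨ) :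
    (lift g' q ≫ aS.act) ≫ σ = lift (g' * (q ≫ σ ≫ fst G X) * g'⁻¹)
      (lift g' (q ≫ σ ≫ snd G X) ≫ a.act) := by
  calc (lift g' q ≫ aS.act) ≫ σ = lift g' q ≫ (aS.act ≫ σ) := Category.assoc _ _ _
    _ = lift g' q ≫ lift (fst G SΨ * (snd G SΨ ≫ σ ≫ fst G X) * (fst G SΨ)⁻¹)
          (lift (fst G SΨ) (snd G SΨ ≫ σ ≫ snd G X) ≫ a.act) := by rw [hσ]
    _ = lift ((lift g' q ≫ fst G SΨ) * (lift g' q ≫ snd G SΨ ≫ σ ≫ fst G X) *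
          (lift g' q ≫ fst G SΨ)⁻¹)
          (lift (lift g' q ≫ fst G SΨ) (lift g' q ≫ snd G SΨ ≫ σ ≫ snd G X) ≫ a.act) := by
        rw [comp_lift, comp_mul, comp_mul, comp_inv, comp_lift_assoc]
    _ = _ := by rw [lift_fst, lift_snd_assoc, lift_snd_assoc]

omit [GrpObj Z] in
theorem P4 (h : 𝟙_ (Over S) ⟶ G) (ψ : Ψ ⟶ G) (aΨ : AlgGrp.Action G Ψ)
    (hψ : aΨ.act ≫ ψ = fst G Ψ * (snd G Ψ ≫ ψ) * (fst G Ψ)⁻¹)
    (o : 𝟙_ (Over S) ⟶ Ψ) (ho : o ≫ ψ = h) {T : Over S} (g : T ⟶ G) :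
    (g ≫ aΨ.orbitMap o) ≫ ψ = g * (toUnit T ≫ h) * g⁻¹ := by
  calc (g ≫ aΨ.orbitMap o) ≫ ψ = (lift g (toUnit T ≫ o) ≫ aΨ.act) ≫ ψ := by
        rw [AlgGrp.Action.comp_orbitMap]
    _ = lift g (toUnit T ≫ o) ≫ (aΨ.act ≫ ψ) := Category.assoc _ _ _
    _ = lift g (toUnit T ≫ o) ≫ (fst G Ψ * (snd G Ψ ≫ ψ) * (fst G Ψ)⁻¹) := by rw [hψ]
    _ = g * ((toUnit T ≫ o) ≫ ψ) * g⁻¹ := by
        rw [comp_mul, comp_mul, comp_inv, lift_fst, lift_snd_assoc]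
    _ = g * (toUnit T ≫ h) * g⁻¹ := by rw [Category.assoc, ho]

theorem P5 (a : AlgGrp.Action G X) (i : Z ⟶ G) [IsMonHom i] (incl : Xh ⟶ X)
    (aXh : AlgGrp.Action Z Xh) (hincl : AlgGrp.Action.IsEquivariant aXh (a.restrict i) incl)
    {T : Over S} (z : T ⟶ Z) (x : T ⟶ Xh) :
    (lift z x ≫ aXh.act) ≫ incl = lift (z ≫ i) (x ≫ incl) ≫ a.act := by
  have hincl' : aXh.act ≫ incl = (Z ◁ incl) ≫ (a.restrict i).act := hincl
  calc (lift z x ≫ aXh.act) ≫ incl = lift z x ≫ (aXh.act ≫ incl) := Category.assoc _ _ _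
    _ = lift z x ≫ (Z ◁ incl) ≫ (a.restrict i).act := by rw [hincl']
    _ = lift z (x ≫ incl) ≫ (a.restrict i).act := by rw [lift_whiskerLeft_assoc]
    _ = lift (z ≫ i) (x ≫ incl) ≫ a.act := AlgGrp.Action.lift_restrict_act i a _ _

theorem P6 (h : 𝟙_ (Over S) ⟶ G) (i : Z ⟶ G) (ψ : Ψ ⟶ G) (aΨ : AlgGrp.Action G Ψ)
    (hψ : aΨ.act ≫ ψ = fst G Ψ * (snd G Ψ ≫ ψ) * (fst G Ψ)⁻¹)
    (o : 𝟙_ (Over S) ⟶ Ψ) (ho : o ≫ ψ = h)
    (hw : fst G Z ≫ aΨ.orbitMap o = ((G ◁ i) ≫ μ[G]) ≫ aΨ.orbitMap o)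
    {T : Over S} (z : T ⟶ Z) :
    (z ≫ i) * (toUnit T ≫ h) = (toUnit T ≫ h) * (z ≫ i) := by
  have h1 : (1 : T ⟶ G) ≫ aΨ.orbitMap o = (z ≫ i) ≫ aΨ.orbitMap o := by
    have h2 : lift (1 : T ⟶ G) z ≫ (fst G Z ≫ aΨ.orbitMap o)
        = lift (1 : T ⟶ G) z ≫ (((G ◁ i) ≫ μ[G]) ≫ aΨ.orbitMap o) := by rw [hw]
    rw [lift_fst_assoc, Category.assoc, lift_whiskerLeft_assoc, ← Category.assoc,
      ← Hom.mul_def, _root_.one_mul] at h2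
    exact h2
  have h3 : ((1 : T ⟶ G) ≫ aΨ.orbitMap o) ≫ ψ = ((z ≫ i) ≫ aΨ.orbitMap o) ≫ ψ := by rw [h1]
  rw [P4 h ψ aΨ hψ o ho, P4 h ψ aΨ hψ o ho] at h3
  exact comm_of_conj' _ _ h3

/-- the stabiliser part over a conjugacy class is a balanced product -/
theorem main98
    (a : AlgGrp.Action G X) (h : 𝟙_ (Over S) ⟶ G)
    (i : Z ⟶ G) [IsMonHom i]
    (ψ : Ψ ⟶ G) [Mono ψ] (aΨ : AlgGrp.Action G Ψ)
    (hψ : aΨ.act ≫ ψ = fst G Ψ * (snd G Ψ ≫ ψ) * (fst G Ψ)⁻¹)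
    (o : 𝟙_ (Over S) ⟶ Ψ) (ho : o ≫ ψ = h)
    (hhom : ChGrp.IsHomog Scheme.fppfPrecoverage i aΨ o)
    (incl : Xh ⟶ X) [Mono incl]
    (hXh : ∀ (T : Over S) (x : T ⟶ X),
      (∃ y : T ⟶ Xh, y ≫ incl = x) ↔ lift (toUnit T ≫ h) x ≫ a.act = x)
    (aXh : AlgGrp.Action Z Xh) (hincl : AlgGrp.Action.IsEquivariant aXh (a.restrict i) incl)
    (σ : SΨ ⟶ G ⊗ X) [Mono σ]
    (hSΨ : ∀ (T : Over S) (g : T ⟶ G) (x : T ⟶ X),
      (∃ q : T ⟶ SΨ, q ≫ σ = lift g x) ↔ ((∃ y : T ⟶ Ψ, y ≫ ψ = g) ∧ lift g x ≫ a.act = x))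
    (aS : AlgGrp.Action G SΨ)
    (hσ : aS.act ≫ σ = lift (fst G SΨ * (snd G SΨ ≫ σ ≫ fst G X) * (fst G SΨ)⁻¹)
      (lift (fst G SΨ) (snd G SΨ ≫ σ ≫ snd G X) ≫ a.act))
    (Φ : G ⊗ Xh ⟶ SΨ)
    (hΦ : Φ ≫ σ = lift (fst G Xh * (toUnit (G ⊗ Xh) ≫ h) * (fst G Xh)⁻¹)
      (lift (fst G Xh) (snd G Xh ≫ incl) ≫ a.act)) :
    ChGrp.IsBalProd Scheme.fppfPrecoverage i aXh aS Φ := by
  obtain ⟨-, hpb, hloc⟩ := hhom
  have hcomm : ∀ {T : Over S} (z : T ⟶ Z),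
      (z ≫ i) * (toUnit T ≫ h) = (toUnit T ≫ h) * (z ≫ i) :=
    fun z => P6 h i ψ aΨ hψ o ho hpb.w z
  have p1 : ∀ {T : Over S} (g : T ⟶ G) (x : T ⟶ Xh),
      (lift g x ≫ Φ) ≫ σ = lift (g * (toUnit T ≫ h) * g⁻¹) (lift g (x ≫ incl) ≫ a.act) :=
    fun g x => P1 a h incl σ Φ hΦ g x
  have p5 : ∀ {T : Over S} (z : T ⟶ Z) (x : T ⟶ Xh),
      (lift z x ≫ aXh.act) ≫ incl = lift (z ≫ i) (x ≫ incl) ≫ a.act :=
    fun z x => P5 a i incl aXh hincl z x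
  -- (i) equivariance
  have hequiv : AlgGrp.Action.IsEquivariant
      ((NonAbH1.trivialAction G).prod (AlgGrp.Action.trivial G Xh)) aS Φ := by
    show _ ≫ Φ = (G ◁ Φ) ≫ aS.act
    rw [← cancel_mono σ]
    apply AlgGrp.Action.hom_ext_lift₂
    intro T g' p
    obtain ⟨g, x, rfl⟩ := BpA.exists_lift_eq p
    have e := p1 g x
    have ef : (lift g x ≫ Φ) ≫ σ ≫ fst G X = g * (toUnit T ≫ h) * g⁻¹ := by
      rw [← Category.assoc, e, lift_fst]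
    have es : (lift g x ≫ Φ) ≫ σ ≫ snd G X = lift g (x ≫ incl) ≫ a.act := by
      rw [← Category.assoc, e, lift_snd]
    calc lift g' (lift g x) ≫
          (((NonAbH1.trivialAction G).prod (AlgGrp.Action.trivial G Xh)).act ≫ Φ) ≫ σ
        = ((lift g' (lift g x) ≫
            ((NonAbH1.trivialAction G).prod (AlgGrp.Action.trivial G Xh)).act) ≫ Φ) ≫ σ := by
          simp only [Category.assoc]
      _ = (lift (g' * g) x ≫ Φ) ≫ σ := by rw [BpA.lift_leftProd_act]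
      _ = lift ((g' * g) * (toUnit T ≫ h) * (g' * g)⁻¹)
            (lift (g' * g) (x ≫ incl) ≫ a.act) := p1 _ _
      _ = lift (g' * (g * (toUnit T ≫ h) * g⁻¹) * g'⁻¹)
            (lift g' (lift g (x ≫ incl) ≫ a.act) ≫ a.act) := by
          rw [conj_mul', AlgGrp.Action.lift_mul_act]
      _ = lift (g' * ((lift g x ≫ Φ) ≫ σ ≫ fst G X) * g'⁻¹)
            (lift g' ((lift g x ≫ Φ) ≫ σ ≫ snd G X) ≫ a.act) := by rw [ef, es]
      _ = (lift g' (lift g x ≫ Φ) ≫ aS.act) ≫ σ := (P2 a σ aS hσ _ _).symm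
      _ = lift g' (lift g x) ≫ ((G ◁ Φ) ≫ aS.act) ≫ σ := by
          rw [← lift_whiskerLeft]
          simp only [Category.assoc]
  -- (ii) the cartesian square
  have hw' : (ChGrp.twist i aXh).act ≫ Φ = snd Z (G ⊗ Xh) ≫ Φ := by
    rw [← cancel_mono σ]
    apply AlgGrp.Action.hom_ext_lift₂
    intro T z p
    obtain ⟨g, x, rfl⟩ := BpA.exists_lift_eq p
    calc lift z (lift g x) ≫ ((ChGrp.twist i aXh).act ≫ Φ) ≫ σ
        = ((lift z (lift g x) ≫ (ChGrp.twist i aXh).act) ≫ Φ) ≫ σ := by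
          simp only [Category.assoc]
      _ = (lift (g * (z ≫ i)⁻¹) (lift z x ≫ aXh.act) ≫ Φ) ≫ σ := by
          rw [ChGrp.lift_twist_act]
      _ = lift ((g * (z ≫ i)⁻¹) * (toUnit T ≫ h) * (g * (z ≫ i)⁻¹)⁻¹)
            (lift (g * (z ≫ i)⁻¹) ((lift z x ≫ aXh.act) ≫ incl) ≫ a.act) := p1 _ _
      _ = lift (g * (toUnit T ≫ h) * g⁻¹)
            (lift (g * (z ≫ i)⁻¹) (lift (z ≫ i) (x ≫ incl) ≫ a.act) ≫ a.act) := by
          rw [conj_comm' _ _ _ (hcomm z), p5]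
      _ = lift (g * (toUnit T ≫ h) * g⁻¹)
            (lift ((g * (z ≫ i)⁻¹) * (z ≫ i)) (x ≫ incl) ≫ a.act) := by
          rw [← AlgGrp.Action.lift_mul_act]
      _ = lift (g * (toUnit T ≫ h) * g⁻¹) (lift g (x ≫ incl) ≫ a.act) := by
          rw [_root_.inv_mul_cancel_right]
      _ = (lift g x ≫ Φ) ≫ σ := (p1 _ _).symm
      _ = lift z (lift g x) ≫ (snd Z (G ⊗ Xh) ≫ Φ) ≫ σ := by
          rw [← Category.assoc (lift z (lift g x)), ← Category.assoc (lift z (lift g x)), lift_snd]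
  have hex : ∀ {T : Over S} (p q : T ⟶ G ⊗ Xh), p ≫ Φ = q ≫ Φ →
      ∃ u : T ⟶ Z ⊗ (G ⊗ Xh), u ≫ (ChGrp.twist i aXh).act = p ∧ u ≫ snd Z (G ⊗ Xh) = q := by
    intro T p q hpq
    obtain ⟨g₁, x₁, rfl⟩ := BpA.exists_lift_eq p
    obtain ⟨g₂, x₂, rfl⟩ := BpA.exists_lift_eq q
    have e12 : lift (g₁ * (toUnit T ≫ h) * g₁⁻¹) (lift g₁ (x₁ ≫ incl) ≫ a.act)
        = lift (g₂ * (toUnit T ≫ h) * g₂⁻¹) (lift g₂ (x₂ ≫ incl) ≫ a.act) := by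
      rw [← p1, ← p1, hpq]
    have c1 : g₁ * (toUnit T ≫ h) * g₁⁻¹ = g₂ * (toUnit T ≫ h) * g₂⁻¹ := by
      have := congrArg (fun m => m ≫ fst G X) e12
      simpa only [lift_fst] using this
    have c2 : lift g₁ (x₁ ≫ incl) ≫ a.act = lift g₂ (x₂ ≫ incl) ≫ a.act := by
      have := congrArg (fun m => m ≫ snd G X) e12
      simpa only [lift_snd] using this
    have horb : g₁ ≫ aΨ.orbitMap o = g₂ ≫ aΨ.orbitMap o := by
      rw [← cancel_mono ψ, P4 h ψ aΨ hψ o ho, P4 h ψ aΨ hψ o ho, c1]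
    obtain ⟨w, hw1, hw2⟩ : ∃ w : T ⟶ G ⊗ Z, w ≫ fst G Z = g₁ ∧ w ≫ (G ◁ i) ≫ μ[G] = g₂ :=
      ⟨hpb.lift g₁ g₂ horb, hpb.lift_fst _ _ _, hpb.lift_snd _ _ _⟩
    obtain ⟨g, z, rfl⟩ := BpA.exists_lift_eq w
    rw [lift_fst] at hw1
    subst hw1
    have hg₂ : g₂ = g * (z ≫ i) := by
      rw [← hw2, lift_whiskerLeft_assoc, ← Hom.mul_def]
    refine ⟨lift z (lift g₂ x₂), ?_, lift_snd _ _⟩
    rw [ChGrp.lift_twist_act]
    have e1 : g₂ * (z ≫ i)⁻¹ = g := by rw [hg₂, mul_inv_eq']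
    have e2 : lift z x₂ ≫ aXh.act = x₁ := by
      rw [← cancel_mono incl, p5]
      calc lift (z ≫ i) (x₂ ≫ incl) ≫ a.act
          = lift (g⁻¹ * g₂) (x₂ ≫ incl) ≫ a.act := by rw [hg₂, inv_mul_mul']
        _ = lift g⁻¹ (lift g₂ (x₂ ≫ incl) ≫ a.act) ≫ a.act :=
            AlgGrp.Action.lift_mul_act a _ _ _
        _ = lift g⁻¹ (lift g (x₁ ≫ incl) ≫ a.act) ≫ a.act := by rw [c2]
        _ = lift (g⁻¹ * g) (x₁ ≫ incl) ≫ a.act := (AlgGrp.Action.lift_mul_act a _ _ _).symm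
        _ = lift (1 : T ⟶ G) (x₁ ≫ incl) ≫ a.act := by rw [_root_.inv_mul_cancel]
        _ = x₁ ≫ incl := AlgGrp.Action.lift_one_act a _
    rw [e1, e2]
  have huniq : ∀ {T : Over S} (u v : T ⟶ Z ⊗ (G ⊗ Xh)),
      u ≫ (ChGrp.twist i aXh).act = v ≫ (ChGrp.twist i aXh).act →
      u ≫ snd Z (G ⊗ Xh) = v ≫ snd Z (G ⊗ Xh) → u = v := by
    intro T u v h1 h2
    obtain ⟨z, p, rfl⟩ := BpA.exists_lift_eq u
    obtain ⟨z', p', rfl⟩ := BpA.exists_lift_eq v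
    rw [lift_snd, lift_snd] at h2
    subst h2
    obtain ⟨g, x, rfl⟩ := BpA.exists_lift_eq p
    rw [ChGrp.lift_twist_act, ChGrp.lift_twist_act] at h1
    have c1 : g * (z ≫ i)⁻¹ = g * (z' ≫ i)⁻¹ := by
      have := congrArg (fun m => m ≫ fst G Xh) h1
      simpa only [lift_fst] using this
    have c2 : z ≫ i = z' ≫ i := by
      have := mul_left_cancel c1
      exact inv_injective this
    have c3 : lift g z = lift g z' := by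
      apply hpb.hom_ext
      · rw [lift_fst, lift_fst]
      · rw [lift_whiskerLeft_assoc, lift_whiskerLeft_assoc, c2]
    have c4 : z = z' := by
      have := congrArg (fun m => m ≫ snd G Z) c3
      simpa only [lift_snd] using this
    rw [c4]
  have hcart : IsPullback (ChGrp.twist i aXh).act (snd Z (G ⊗ Xh)) Φ Φ := by
    refine ⟨⟨hw'⟩, ⟨PullbackCone.IsLimit.mk _
      (fun s => (hex s.fst s.snd s.condition).choose) ?_ ?_ ?_⟩⟩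
    · intro s
      exact (hex s.fst s.snd s.condition).choose_spec.1
    · intro s
      exact (hex s.fst s.snd s.condition).choose_spec.2
    · intro s m h1 h2
      exact huniq _ _ (h1.trans (hex s.fst s.snd s.condition).choose_spec.1.symm)
        (h2.trans (hex s.fst s.snd s.condition).choose_spec.2.symm)
  -- (iii) local sections
  obtain ⟨pΨ, hpΨ⟩ : ∃ y : SΨ ⟶ Ψ, y ≫ ψ = σ ≫ fst G X := by
    have hσ0 : (𝟙 SΨ) ≫ σ = lift (σ ≫ fst G X) (σ ≫ snd G X) := by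
      rw [Category.id_comp, ← comp_lift, lift_fst_snd, Category.comp_id]
    exact ((hSΨ SΨ (σ ≫ fst G X) (σ ≫ snd G X)).1 ⟨𝟙 SΨ, hσ0⟩).1
  have hloc' : NonAbH1.IsLocallyTrivialFor Scheme.fppfPrecoverage
      (Over.mk Φ.left : Over SΨ.left) := by
    apply BpA.locSub (aΨ.orbitMap o) pΨ Φ hloc
    intro T g y hgy
    -- the point y of SΨ has components (c, x)
    have hc : y ≫ σ ≫ fst G X = g * (toUnit T ≫ h) * g⁻¹ := by
      rw [← hpΨ, ← Category.assoc, ← hgy, Category.assoc, ← Category.assoc,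
        P4 h ψ aΨ hψ o ho]
    have hyσ : y ≫ σ = lift (y ≫ σ ≫ fst G X) (y ≫ σ ≫ snd G X) := by
      rw [← comp_lift, ← comp_lift, lift_fst_snd, Category.comp_id]
    have hfix : lift (y ≫ σ ≫ fst G X) (y ≫ σ ≫ snd G X) ≫ a.act = y ≫ σ ≫ snd G X :=
      ((hSΨ T _ _).1 ⟨y, hyσ⟩).2
    -- x₀ = g⁻¹ • x is fixed by h
    have hx₀ : lift (toUnit T ≫ h) (lift g⁻¹ (y ≫ σ ≫ snd G X) ≫ a.act) ≫ a.act
        = lift g⁻¹ (y ≫ σ ≫ snd G X) ≫ a.act := by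
      calc lift (toUnit T ≫ h) (lift g⁻¹ (y ≫ σ ≫ snd G X) ≫ a.act) ≫ a.act
          = lift ((toUnit T ≫ h) * g⁻¹) (y ≫ σ ≫ snd G X) ≫ a.act :=
            (AlgGrp.Action.lift_mul_act a _ _ _).symm
        _ = lift (g⁻¹ * (g * (toUnit T ≫ h) * g⁻¹)) (y ≫ σ ≫ snd G X) ≫ a.act := by
            congr 2
            group
        _ = lift g⁻¹ (lift (g * (toUnit T ≫ h) * g⁻¹) (y ≫ σ ≫ snd G X) ≫ a.act) ≫ a.act :=
            AlgGrp.Action.lift_mul_act a _ _ _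
        _ = lift g⁻¹ (y ≫ σ ≫ snd G X) ≫ a.act := by rw [← hc, hfix]
    obtain ⟨xh, hxh⟩ := (hXh T _).2 hx₀
    refine ⟨lift g xh, ?_⟩
    rw [← cancel_mono σ, p1, hxh, hyσ, hc]
    congr 1
    calc lift g (lift g⁻¹ (y ≫ σ ≫ snd G X) ≫ a.act) ≫ a.act
        = lift (g * g⁻¹) (y ≫ σ ≫ snd G X) ≫ a.act := (AlgGrp.Action.lift_mul_act a _ _ _).symm
      _ = lift (1 : T ⟶ G) (y ≫ σ ≫ snd G X) ≫ a.act := by rw [_root_.mul_inv_cancel]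
      _ = y ≫ σ ≫ snd G X := AlgGrp.Action.lift_one_act a _
  exact And.intro hequiv (And.intro hcart hloc')

end

end Groth.Agent.H4.BpC
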