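import Mathlib
set_option autoImplicit false
universe u v
open scoped nonZeroDivisors

namespace Groth.Agent.H4.Brn

/-! ### cardinalities -/

lemma enat_card_sigma {ι : Type*} [Finite ι] (X : ι → Type*) :
    ENat.card (Σ i, X i) = ∑ᶠ i, ENat.card (X i) := by
  classical
  haveI := Fintype.ofFinite ι
  rw [finsum_eq_sum_of_fintype]
  by_cases h : ∀ i, Finite (X i)
  · haveI := h
    have h1 : ∀ i, ENat.card (X i) = (Nat.card (X i) : ℕ∞) := fun i => by
      haveI := Fintype.ofFinite (X i)
      rw [ENat.card_eq_coe_fintype_card, Nat.card_eq_fintype_card]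
    haveI : Finite (Σ i, X i) := inferInstance
    haveI := Fintype.ofFinite (Σ i, X i)
    rw [ENat.card_eq_coe_fintype_card, ← Nat.card_eq_fintype_card, Nat.card_sigma]
    simp_rw [h1]
    push_cast
    rfl
  · push Not at h
    obtain ⟨i0, hi0⟩ := h
    haveI : Infinite (Σ i, X i) := Infinite.of_injective (fun x : X i0 => (⟨i0, x⟩ : Σ i, X i))
      (fun x y hxy => by simpa using hxy)
    rw [ENat.card_eq_top_of_infinite]
    symm
    rw [eq_top_iff]
    calc (⊤ : ℕ∞) = ENat.card (X i0) := (ENat.card_eq_top_of_infinite).symm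
      _ ≤ ∑ i, ENat.card (X i) := Finset.single_le_sum (f := fun i => ENat.card (X i))
          (fun i _ => zero_le) (Finset.mem_univ i0)

/-! ### maximal spectrum -/

/-- maximal spectra of isomorphic rings -/
noncomputable def maxSpecCongr {R S : Type*} [CommRing R] [CommRing S] (e : R ≃+* S) :
    MaximalSpectrum R ≃ MaximalSpectrum S where
  toFun m := ⟨m.asIdeal.comap (e.symm : S →+* R),
    Ideal.comap_isMaximal_of_surjective _ e.symm.surjective (K := m.asIdeal) (H := m.2)⟩
  invFun m := ⟨m.asIdeal.comap (e : R →+* S),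
    Ideal.comap_isMaximal_of_surjective _ e.surjective (K := m.asIdeal) (H := m.2)⟩
  left_inv m := by
    apply MaximalSpectrum.ext
    ext x
    change e.symm (e x) ∈ m.asIdeal ↔ _
    rw [e.symm_apply_apply]
  right_inv m := by
    apply MaximalSpectrum.ext
    ext x
    change e (e.symm x) ∈ m.asIdeal ↔ _
    rw [e.apply_symm_apply]

/-- maximal spectrum of a finite product -/
noncomputable def sigmaToPiMax {ι : Type*} (R : ι → Type*) [∀ i, CommRing (R i)] :
    (Σ i, MaximalSpectrum (R i)) → MaximalSpectrum (∀ i, R i) :=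
  fun x => ⟨x.2.asIdeal.comap (Pi.evalRingHom R x.1),
    Ideal.comap_isMaximal_of_surjective _ (Function.surjective_eval x.1) (K := x.2.asIdeal) (H := x.2.2)⟩

lemma sigmaToPiMax_bijective {ι : Type*} [Finite ι] (R : ι → Type*) [∀ i, CommRing (R i)] :
    Function.Bijective (sigmaToPiMax R) := by
  constructor
  · rintro ⟨i, m⟩ ⟨j, n⟩ h
    have h1 : PrimeSpectrum.sigmaToPi R ⟨i, m.toPrimeSpectrum⟩ =
        PrimeSpectrum.sigmaToPi R ⟨j, n.toPrimeSpectrum⟩ := by
      apply PrimeSpectrum.ext
      exact congrArg MaximalSpectrum.asIdeal h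
    have h2 := (PrimeSpectrum.sigmaToPi_bijective R).1 h1
    obtain ⟨rfl, h3⟩ := Sigma.mk.inj_iff.mp h2
    have h4 := eq_of_heq h3
    congr 1
    exact MaximalSpectrum.toPrimeSpectrum_injective h4
  · intro M
    obtain ⟨⟨i, q⟩, hq⟩ := (PrimeSpectrum.sigmaToPi_bijective R).2 M.toPrimeSpectrum
    have hq' : q.asIdeal.comap (Pi.evalRingHom R i) = M.asIdeal := congrArg PrimeSpectrum.asIdeal hq
    have hmap : M.asIdeal.map (Pi.evalRingHom R i) = q.asIdeal := by
      rw [← hq', Ideal.map_comap_of_surjective _ (Function.surjective_eval i)]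
    have hmax : q.asIdeal.IsMaximal := by
      rcases Ideal.map_eq_top_or_isMaximal_of_surjective (Pi.evalRingHom R i)
        (Function.surjective_eval i) M.2 with h | h
      · rw [hmap] at h
        exact absurd h q.2.ne_top
      · rw [hmap] at h
        exact h
    refine ⟨⟨i, ⟨q.asIdeal, hmax⟩⟩, ?_⟩
    apply MaximalSpectrum.ext
    exact hq'

lemma enat_card_maxSpec_pi {ι : Type*} [Finite ι] (R : ι → Type*) [∀ i, CommRing (R i)] :
    ENat.card (MaximalSpectrum (∀ i, R i)) = ∑ᶠ i, ENat.card (MaximalSpectrum (R i)) := by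
  rw [← enat_card_sigma]
  exact (ENat.card_congr (Equiv.ofBijective _ (sigmaToPiMax_bijective R))).symm

section IC
variable {R₁ R₂ : Type*} [CommRing R₁] [CommRing R₂]

/-- iso of total fraction rings induced by a ring iso -/
noncomputable def fracEquiv (e : R₁ ≃+* R₂) : FractionRing R₁ ≃+* FractionRing R₂ :=
  IsFractionRing.ringEquivOfRingEquiv e

lemma fracEquiv_algebraMap (e : R₁ ≃+* R₂) (a : R₁) :
    fracEquiv e (algebraMap R₁ (FractionRing R₁) a) = algebraMap R₂ (FractionRing R₂) (e a) :=
  IsFractionRing.ringEquivOfRingEquiv_algebraMap e a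

lemma fracEquiv_symm_algebraMap (e : R₁ ≃+* R₂) (b : R₂) :
    (fracEquiv e).symm (algebraMap R₂ (FractionRing R₂) b) =
      algebraMap R₁ (FractionRing R₁) (e.symm b) := by
  apply (fracEquiv e).injective
  rw [RingEquiv.apply_symm_apply, fracEquiv_algebraMap, RingEquiv.apply_symm_apply]

lemma isIntegral_fracEquiv (e : R₁ ≃+* R₂) {x : FractionRing R₁} (hx : IsIntegral R₁ x) :
    IsIntegral R₂ (fracEquiv e x) :=
  IsIntegral.map_of_comp_eq (e : R₁ →+* R₂) (fracEquiv e : FractionRing R₁ →+* FractionRing R₂)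
    (by ext a; exact (fracEquiv_algebraMap e a).symm) hx

lemma isIntegral_fracEquiv_symm (e : R₁ ≃+* R₂) {y : FractionRing R₂} (hy : IsIntegral R₂ y) :
    IsIntegral R₁ ((fracEquiv e).symm y) :=
  IsIntegral.map_of_comp_eq (e.symm : R₂ →+* R₁)
    ((fracEquiv e).symm : FractionRing R₂ →+* FractionRing R₁)
    (by ext b; exact (fracEquiv_symm_algebraMap e b).symm) hy

/-- iso of integral closures in the total fraction rings induced by a ring iso -/
noncomputable def icEquiv (e : R₁ ≃+* R₂) :
    integralClosure R₁ (FractionRing R₁) ≃+* integralClosure R₂ (FractionRing R₂) where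
  toFun x := ⟨fracEquiv e x.1, isIntegral_fracEquiv e x.2⟩
  invFun y := ⟨(fracEquiv e).symm y.1, isIntegral_fracEquiv_symm e y.2⟩
  left_inv x := Subtype.ext ((fracEquiv e).symm_apply_apply x.1)
  right_inv y := Subtype.ext ((fracEquiv e).apply_symm_apply y.1)
  map_mul' x y := Subtype.ext (map_mul (fracEquiv e) x.1 y.1)
  map_add' x y := Subtype.ext (map_add (fracEquiv e) x.1 y.1)

lemma icEquiv_algebraMap (e : R₁ ≃+* R₂) (a : R₁) :
    icEquiv e (algebraMap R₁ (integralClosure R₁ (FractionRing R₁)) a) =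
      algebraMap R₂ (integralClosure R₂ (FractionRing R₂)) (e a) :=
  Subtype.ext (fracEquiv_algebraMap e a)


end IC

section Red
/-- two surjections with the same kernel have isomorphic targets -/
noncomputable def equivOfKerEq {A B₁ B₂ : Type*} [CommRing A] [CommRing B₁] [CommRing B₂]
    (f₁ : A →+* B₁) (f₂ : A →+* B₂) (h₁ : Function.Surjective f₁) (h₂ : Function.Surjective f₂)
    (h : RingHom.ker f₁ = RingHom.ker f₂) : B₁ ≃+* B₂ :=
  (RingHom.quotientKerEquivOfSurjective h₁).symm.trans
    ((Ideal.quotEquivOfEq h).trans (RingHom.quotientKerEquivOfSurjective h₂))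

lemma equivOfKerEq_apply {A B₁ B₂ : Type*} [CommRing A] [CommRing B₁] [CommRing B₂]
    (f₁ : A →+* B₁) (f₂ : A →+* B₂) (h₁ : Function.Surjective f₁) (h₂ : Function.Surjective f₂)
    (h : RingHom.ker f₁ = RingHom.ker f₂) (a : A) :
    equivOfKerEq f₁ f₂ h₁ h₂ h (f₁ a) = f₂ a := by
  have h3 : (RingHom.quotientKerEquivOfSurjective h₁).symm (f₁ a) =
      Ideal.Quotient.mk (RingHom.ker f₁) a := by
    rw [RingEquiv.symm_apply_eq]
    rfl
  rw [equivOfKerEq, RingEquiv.trans_apply, h3, RingEquiv.trans_apply, Ideal.quotEquivOfEq_mk]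
  rfl

variable (A : Type u) [CommRing A]

instance isReduced_red : IsReduced (A ⧸ nilradical A) :=
  (Ideal.isRadical_iff_quotient_reduced _).mp (Ideal.radical_isRadical _)

/-- minimal primes of the reduction -/
lemma minimalPrimes_eq_comap_red :
    minimalPrimes A = Ideal.comap (Ideal.Quotient.mk (nilradical A)) '' minimalPrimes (A ⧸ nilradical A) := by
  rw [← Ideal.minimalPrimes_eq_comap]
  change (⊥ : Ideal A).minimalPrimes = (Ideal.radical ⊥).minimalPrimes
  rw [Ideal.radical_minimalPrimes]

/-- the bijection between minimal primes of `A_red` and of `A` -/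
noncomputable def minPEquiv :
    {q : Ideal (A ⧸ nilradical A) // q ∈ minimalPrimes (A ⧸ nilradical A)} ≃ minimalPrimes A :=
  Equiv.ofBijective
    (fun q => ⟨q.1.comap (Ideal.Quotient.mk (nilradical A)), by
      rw [minimalPrimes_eq_comap_red]; exact ⟨q.1, q.2, rfl⟩⟩)
    (by
      constructor
      · intro q q' h
        apply Subtype.ext
        have := congrArg Subtype.val h
        exact Ideal.comap_injective_of_surjective _ Ideal.Quotient.mk_surjective this
      · rintro ⟨p, hp⟩
        rw [minimalPrimes_eq_comap_red] at hp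
        obtain ⟨q, hq, rfl⟩ := hp
        exact ⟨⟨q, hq⟩, rfl⟩)

lemma minPEquiv_apply (q : {q : Ideal (A ⧸ nilradical A) // q ∈ minimalPrimes (A ⧸ nilradical A)}) :
    (minPEquiv A q).1 = q.1.comap (Ideal.Quotient.mk (nilradical A)) := rfl


end Red

end Groth.Agent.H4.Brn
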