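import Mathlib
set_option autoImplicit false
universe u
open scoped nonZeroDivisors
namespace Groth.Agent.H4.Brn

section GD

/-- abstract going-down argument -/
lemma exists_prime_le_abs {A A' B B' : Type*} [CommRing A] [CommRing A'] [CommRing B] [CommRing B']
    [IsDomain A'] [IsLocalRing A'] [IsIntegrallyClosed A'] [IsDomain B']
    [Algebra A A'] [Algebra A B] [Algebra A' B'] [Algebra B B'] [Algebra A B']
    [IsScalarTower A A' B'] [IsScalarTower A B B']
    [Algebra.IsIntegral A A'] [FaithfulSMul A A']
    [Algebra.IsIntegral A' B'] [FaithfulSMul A' B']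
    [Algebra.IsIntegral B B'] [FaithfulSMul B B']
    (n : Ideal B) [n.IsPrime]
    (hn : (n.comap (algebraMap A B)).IsMaximal) (p : Ideal A) [p.IsPrime] :
    ∃ q : Ideal B, q.IsPrime ∧ q ≤ n ∧ q.comap (algebraMap A B) = p := by
  -- Step 1
  obtain ⟨n', -, hn'p, hn'⟩ := Ideal.exists_ideal_over_prime_of_isIntegral n (⊥ : Ideal B') (by
    have : (⊥ : Ideal B').comap (algebraMap B B') = ⊥ := by
      rw [← RingHom.ker_eq_comap_bot]
      exact (RingHom.injective_iff_ker_eq_bot _).mp (FaithfulSMul.algebraMap_injective B B')
    rw [this]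
    exact bot_le)
  -- Step 2
  obtain ⟨p', -, hp'p, hp'⟩ := Ideal.exists_ideal_over_prime_of_isIntegral p
    (⊥ : Ideal A') (by
    have : (⊥ : Ideal A').comap (algebraMap A A') = ⊥ := by
      rw [← RingHom.ker_eq_comap_bot]
      exact (RingHom.injective_iff_ker_eq_bot _).mp (FaithfulSMul.algebraMap_injective A A')
    rw [this]
    exact bot_le)
  -- Step 3
  obtain ⟨Q, hQ⟩ : ∃ Q : Ideal A', Q = n'.comap (algebraMap A' B') := ⟨_, rfl⟩
  haveI hQp : Q.IsPrime := hQ ▸ Ideal.comap_isPrime _ _
  have hQc : Q.comap (algebraMap A A') = n.comap (algebraMap A B) := by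
    rw [hQ, ← hn', Ideal.comap_comap, Ideal.comap_comap,
      ← IsScalarTower.algebraMap_eq, ← IsScalarTower.algebraMap_eq]
  have hQmax : Q.IsMaximal := by
    apply Ideal.isMaximal_of_isIntegral_of_isMaximal_comap (R := A)
    rw [hQc]
    exact hn
  have hQeq : Q = IsLocalRing.maximalIdeal _ := IsLocalRing.eq_maximalIdeal hQmax
  have hle : p' ≤ Q := hQeq ▸ IsLocalRing.le_maximalIdeal hp'p.ne_top
  -- Step 4
  haveI : n'.LiesOver Q := ⟨hQ⟩
  obtain ⟨q', hq'n', hq'p, hq'lo⟩ := Ideal.exists_ideal_le_liesOver_of_le (p := p') (q := Q) n' hle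
  -- Step 5
  refine ⟨q'.comap (algebraMap B B'), Ideal.comap_isPrime _ _, ?_, ?_⟩
  · rw [← hn']
    exact Ideal.comap_mono hq'n'
  · rw [Ideal.comap_comap, ← IsScalarTower.algebraMap_eq,
      IsScalarTower.algebraMap_eq A A' B', ← Ideal.comap_comap, ← hp']
    congr 1
    exact (hq'lo.over).symm

variable {A B : Type*} [CommRing A] [IsDomain A] [CommRing B] [IsDomain B] [Algebra A B]

/-- version with abstract intermediate rings inside fields -/
lemma exists_prime_le_of_subalgebras {K L : Type*} [Field K] [Field L] [Algebra A K] [Algebra A L]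
    [Algebra K L] [Algebra B L] [IsScalarTower A K L] [IsScalarTower A B L]
    [FaithfulSMul A K] [FaithfulSMul B L]
    (A' : Subalgebra A K) [IsLocalRing A'] [IsIntegrallyClosed A'] [Algebra.IsIntegral A A']
    (B' : Subalgebra A' L) [Algebra.IsIntegral A' B']
    (hγ : ∀ b : B, algebraMap B L b ∈ B')
    (n : Ideal B) [n.IsPrime]
    (hn : (n.comap (algebraMap A B)).IsMaximal) (p : Ideal A) [p.IsPrime] :
    ∃ q : Ideal B, q.IsPrime ∧ q ≤ n ∧ q.comap (algebraMap A B) = p := by
  let γ : B →+* B' := (algebraMap B L).codRestrict B' hγ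
  have hγinj : Function.Injective γ := by
    intro b1 b2 h
    apply FaithfulSMul.algebraMap_injective B L
    exact congrArg Subtype.val h
  have hcompat : ∀ a : A, γ (algebraMap A B a) = algebraMap A' B' (algebraMap A A' a) := by
    intro a
    apply Subtype.ext
    change algebraMap B L (algebraMap A B a) = algebraMap K L (algebraMap A K a)
    rw [← IsScalarTower.algebraMap_apply, ← IsScalarTower.algebraMap_apply]
  haveI : Algebra.IsIntegral A B' := Algebra.IsIntegral.trans (R := A) A'
  letI : Algebra B B' := γ.toAlgebra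
  haveI : IsScalarTower A B B' := IsScalarTower.of_algebraMap_eq (fun a => by
    rw [IsScalarTower.algebraMap_apply A A' B']
    exact (hcompat a).symm)
  haveI : Algebra.IsIntegral B B' := ⟨fun y => by
    have h1 : IsIntegral A y := Algebra.IsIntegral.isIntegral y
    exact IsIntegral.tower_top (R := A) (A := B) h1⟩
  haveI : FaithfulSMul B B' := (faithfulSMul_iff_algebraMap_injective B B').mpr hγinj
  haveI : FaithfulSMul A A' := by
    rw [faithfulSMul_iff_algebraMap_injective]
    intro a1 a2 h
    apply FaithfulSMul.algebraMap_injective A K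
    exact congrArg Subtype.val h
  haveI : FaithfulSMul A' B' := by
    rw [faithfulSMul_iff_algebraMap_injective]
    intro a1 a2 h
    apply Subtype.ext
    apply (algebraMap K L).injective
    exact congrArg Subtype.val h
  exact exists_prime_le_abs (A' := A') (B' := B') n hn p

lemma exists_prime_le_of_local_integralClosure
    [IsLocalRing (integralClosure A (FractionRing A))]
    (hinj : Function.Injective (algebraMap A B)) [Algebra.IsIntegral A B] (n : Ideal B) [n.IsPrime]
    (hn : (n.comap (algebraMap A B)).IsMaximal) (p : Ideal A) [p.IsPrime] :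
    ∃ q : Ideal B, q.IsPrime ∧ q ≤ n ∧ q.comap (algebraMap A B) = p := by
  haveI : FaithfulSMul A B := (faithfulSMul_iff_algebraMap_injective A B).mpr hinj
  haveI : FaithfulSMul A (FractionRing B) := by
    rw [faithfulSMul_iff_algebraMap_injective, IsScalarTower.algebraMap_eq A B (FractionRing B)]
    exact (IsFractionRing.injective B (FractionRing B)).comp hinj
  letI : Algebra (FractionRing A) (FractionRing B) := FractionRing.liftAlgebra A (FractionRing B)
  haveI : IsScalarTower A (FractionRing A) (FractionRing B) :=
    FractionRing.isScalarTower_liftAlgebra A (FractionRing B)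
  haveI : IsIntegrallyClosed (integralClosure A (FractionRing A)) :=
    integralClosure.isIntegrallyClosedOfFiniteExtension (FractionRing A)
  refine exists_prime_le_of_subalgebras (K := FractionRing A) (L := FractionRing B)
    (integralClosure A (FractionRing A))
    (integralClosure (integralClosure A (FractionRing A)) (FractionRing B)) ?_ n hn p
  intro b
  have h1 : IsIntegral A b := Algebra.IsIntegral.isIntegral b
  have h2 : IsIntegral A (algebraMap B (FractionRing B) b) := h1.algebraMap
  exact h2.tower_top

end GD

end Groth.Agent.H4.Brn
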