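import Mathlib
set_option autoImplicit false
universe u
open scoped nonZeroDivisors
namespace Groth.Agent.H4.Brn

section DictAbs

variable {B O B' N : Type*} [CommRing B] [CommRing O] [CommRing B'] [CommRing N]
  [Algebra B O] [Algebra B B'] [Algebra O N] [Algebra B' N] [Algebra B N]
  [IsScalarTower B O N] [IsScalarTower B B' N]
  (p : Ideal B) [p.IsPrime] [IsLocalization.AtPrime O p]

variable (O)

include O in
/-- `N` is the localization of `B'` at the image of `B ∖ p` -/
lemma isLocalization_of_mul_mem
    (hinj : Function.Injective (algebraMap B' N))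
    (hA2 : ∀ y : N, ∃ s ∈ p.primeCompl, ∃ b' : B', algebraMap B N s * y = algebraMap B' N b') :
    IsLocalization (Algebra.algebraMapSubmonoid B' p.primeCompl) N := by
  refine ⟨⟨?_, ?_, ?_⟩⟩
  · rintro ⟨_, s, hs, rfl⟩
    rw [← IsScalarTower.algebraMap_apply, IsScalarTower.algebraMap_apply B O N]
    exact (IsLocalization.map_units O (⟨s, hs⟩ : p.primeCompl)).map (algebraMap O N)
  · intro y
    obtain ⟨s, hs, b', h⟩ := hA2 y
    refine ⟨⟨b', ⟨algebraMap B B' s, s, hs, rfl⟩⟩, ?_⟩
    rw [← h, mul_comm]
    congr 1
    exact (IsScalarTower.algebraMap_apply B B' N s).symm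
  · intro a b h
    exact ⟨1, by rw [hinj h]⟩

variable [Algebra.IsIntegral O N]

include O in
/-- maximal ideals of `N` correspond to primes of `B'` over `p` -/
lemma under_maximal (m' : Ideal N) [m'.IsMaximal] :
    (m'.under B').IsPrime ∧ (m'.under B').under B = p := by
  haveI := IsLocalization.AtPrime.isLocalRing O p
  refine ⟨Ideal.comap_isPrime _ _, ?_⟩
  have h1 : (m'.under B').under B = (m'.under O).under B := by
    simp only [Ideal.under, Ideal.comap_comap, ← IsScalarTower.algebraMap_eq]
  have h2 : (m'.under O).IsMaximal := Ideal.isMaximal_comap_of_isIntegral_of_isMaximal m'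
  rw [h1, IsLocalRing.eq_maximalIdeal h2]
  exact IsLocalization.AtPrime.under_maximalIdeal O p

/-- the bijection -/
noncomputable def maxSpecToFibre :
    MaximalSpectrum N → {Q : Ideal B' // Q.IsPrime ∧ Q.under B = p} :=
  fun m' => haveI := m'.2; ⟨m'.asIdeal.under B', under_maximal O p m'.asIdeal⟩

lemma maxSpecToFibre_bijective
    (hinj : Function.Injective (algebraMap B' N))
    (hA2 : ∀ y : N, ∃ s ∈ p.primeCompl, ∃ b' : B', algebraMap B N s * y = algebraMap B' N b') :
    Function.Bijective (maxSpecToFibre O (N := N) (B' := B') p) := by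
  haveI := IsLocalization.AtPrime.isLocalRing O p
  haveI hloc := isLocalization_of_mul_mem O p hinj hA2
  constructor
  · intro m1 m2 h
    have h1 : m1.asIdeal.under B' = m2.asIdeal.under B' := congrArg Subtype.val h
    apply MaximalSpectrum.ext
    rw [← IsLocalization.map_under (Algebra.algebraMapSubmonoid B' p.primeCompl) N m1.asIdeal,
      ← IsLocalization.map_under (Algebra.algebraMapSubmonoid B' p.primeCompl) N m2.asIdeal, h1]
  · rintro ⟨Q, hQp, hQ⟩
    have hdisj : Disjoint (Algebra.algebraMapSubmonoid B' p.primeCompl : Set B') Q := by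
      rw [Set.disjoint_left]
      rintro _ ⟨s, hs, rfl⟩ hsQ
      apply hs
      rw [← hQ]
      exact hsQ
    have hprime := IsLocalization.isPrime_of_isPrime_disjoint
      (Algebra.algebraMapSubmonoid B' p.primeCompl) N Q hQp hdisj
    have hunder := IsLocalization.under_map_of_isPrime_disjoint
      (Algebra.algebraMapSubmonoid B' p.primeCompl) N hQp hdisj
    -- maximality
    have hPp : ((Q.map (algebraMap B' N)).under O).IsPrime := Ideal.comap_isPrime _ _
    have h3 : ((Q.map (algebraMap B' N)).under O).under B = p := by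
      have : ((Q.map (algebraMap B' N)).under O).under B = ((Q.map (algebraMap B' N)).under B').under B := by
        simp only [Ideal.under, Ideal.comap_comap, ← IsScalarTower.algebraMap_eq]
      rw [this, hunder, hQ]
    have h4 : (Q.map (algebraMap B' N)).under O = IsLocalRing.maximalIdeal O := by
      have h5 := IsLocalization.map_under p.primeCompl O ((Q.map (algebraMap B' N)).under O)
      rw [h3, IsLocalization.AtPrime.map_eq_maximalIdeal] at h5
      exact h5.symm
    have hmax : (Q.map (algebraMap B' N)).IsMaximal := by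
      apply Ideal.isMaximal_of_isIntegral_of_isMaximal_comap (R := O)
      change ((Q.map (algebraMap B' N)).under O).IsMaximal
      rw [h4]
      infer_instance
    exact ⟨⟨_, hmax⟩, Subtype.ext hunder⟩

end DictAbs

section DictHom

variable {B O B' N Ω : Type*} [CommRing B] [CommRing O] [CommRing B'] [CommRing N] [CommRing Ω]
  [Algebra B O] [Algebra B B'] [Algebra O N] [Algebra B' N] [Algebra B N]
  [IsScalarTower B O N] [IsScalarTower B B' N]
  (p : Ideal B) [p.IsPrime] [IsLocalization.AtPrime O p]
  [IsLocalization (Algebra.algebraMapSubmonoid B' p.primeCompl) N]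

/-- homs out of `N` over `O` are homs out of `B'` over `B` -/
noncomputable def homEquivOfLoc (ι : O →+* Ω) :
    {τ' : N →+* Ω // τ'.comp (algebraMap O N) = ι} ≃
      {τ : B' →+* Ω // τ.comp (algebraMap B B') = ι.comp (algebraMap B O)} where
  toFun τ' := ⟨τ'.1.comp (algebraMap B' N), by
    rw [RingHom.comp_assoc, ← IsScalarTower.algebraMap_eq, IsScalarTower.algebraMap_eq B O N,
      ← RingHom.comp_assoc, τ'.2]⟩
  invFun τ :=
    have hunits : ∀ y : Algebra.algebraMapSubmonoid B' p.primeCompl, IsUnit (τ.1 y) := by
      rintro ⟨_, s, hs, rfl⟩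
      have h1 : τ.1 (algebraMap B B' s) = ι (algebraMap B O s) :=
        congrFun (congrArg DFunLike.coe τ.2) s
      change IsUnit (τ.1 (algebraMap B B' s))
      rw [h1]
      exact (IsLocalization.map_units O (⟨s, hs⟩ : p.primeCompl)).map ι
    ⟨IsLocalization.lift (M := Algebra.algebraMapSubmonoid B' p.primeCompl) (g := τ.1) hunits, by
      apply IsLocalization.ringHom_ext p.primeCompl
      ext b
      simp only [RingHom.comp_apply]
      rw [← IsScalarTower.algebraMap_apply B O N, IsScalarTower.algebraMap_apply B B' N,
        IsLocalization.lift_eq]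
      exact congrFun (congrArg DFunLike.coe τ.2) b⟩
  left_inv τ' := by
    apply Subtype.ext
    apply IsLocalization.ringHom_ext (Algebra.algebraMapSubmonoid B' p.primeCompl)
    ext b'
    simp only [RingHom.comp_apply, IsLocalization.lift_eq]
  right_inv τ := by
    apply Subtype.ext
    ext b'
    simp only [RingHom.comp_apply, IsLocalization.lift_eq]

end DictHom


end Groth.Agent.H4.Brn
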