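import Mathlib
set_option autoImplicit false
universe u v
open scoped nonZeroDivisors

namespace Groth.Agent.H4.Brn

section Transport

variable {A₁ A₂ B₁ B₂ Ω₁ Ω₂ : Type*} [CommRing A₁] [CommRing A₂] [CommRing B₁] [CommRing B₂]
  [CommRing Ω₁] [CommRing Ω₂]

/-- transport of "hom sets over a base" along isomorphisms and a surjection of bases -/
noncomputable def homTransport (π : A₁ →+* A₂) (hπ : Function.Surjective π) (e : B₁ ≃+* B₂)
    (φ₁ : A₁ →+* B₁) (φ₂ : A₂ →+* B₂) (he : ∀ a, e (φ₁ a) = φ₂ (π a))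
    (θ : Ω₁ ≃+* Ω₂) (ι₁ : A₁ →+* Ω₁) (ι₂ : A₂ →+* Ω₂) (hθ : ∀ a, θ (ι₁ a) = ι₂ (π a)) :
    {τ : B₁ →+* Ω₁ // τ.comp φ₁ = ι₁} ≃ {τ : B₂ →+* Ω₂ // τ.comp φ₂ = ι₂} where
  toFun τ := ⟨((θ : Ω₁ →+* Ω₂).comp τ.1).comp (e.symm : B₂ →+* B₁), by
    ext a₂
    obtain ⟨a, rfl⟩ := hπ a₂
    have h1 : e.symm (φ₂ (π a)) = φ₁ a := by rw [← he, e.symm_apply_apply]
    have h2 : τ.1 (φ₁ a) = ι₁ a := congrFun (congrArg DFunLike.coe τ.2) a
    simp only [RingHom.comp_apply, RingHom.coe_coe, h1, h2, hθ]⟩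
  invFun τ := ⟨((θ.symm : Ω₂ →+* Ω₁).comp τ.1).comp (e : B₁ →+* B₂), by
    ext a
    have h2 : τ.1 (φ₂ (π a)) = ι₂ (π a) := congrFun (congrArg DFunLike.coe τ.2) (π a)
    simp only [RingHom.comp_apply, RingHom.coe_coe, he, h2, ← hθ, θ.symm_apply_apply]⟩
  left_inv τ := by
    apply Subtype.ext
    ext b
    simp
  right_inv τ := by
    apply Subtype.ext
    ext b
    simp

end Transport

section PiHom

variable {ι : Type*} [Finite ι] {D : ι → Type*} [∀ i, CommRing (D i)] {Ω : Type*} [CommRing Ω]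
  [IsDomain Ω] {A : Type*} [CommRing A] (ψ : ∀ i, A →+* D i) (ιΩ : A →+* Ω)

/-- homs from a finite product to a domain: each factors through a unique factor -/
noncomputable def sigmaHomToPiHom :
    (Σ i, {τ : D i →+* Ω // τ.comp (ψ i) = ιΩ}) →
      {τ : (∀ i, D i) →+* Ω // τ.comp (RingHom.pi ψ) = ιΩ} :=
  fun x => ⟨x.2.1.comp (Pi.evalRingHom D x.1), by
    rw [RingHom.comp_assoc]
    have : (Pi.evalRingHom D x.1).comp (RingHom.pi ψ) = ψ x.1 := by ext a; rfl
    rw [this]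
    exact x.2.2⟩

lemma sigmaHomToPiHom_bijective : Function.Bijective (sigmaHomToPiHom ψ ιΩ) := by
  classical
  constructor
  · rintro ⟨i, τi⟩ ⟨j, τj⟩ h
    have h0 : τi.1.comp (Pi.evalRingHom D i) = τj.1.comp (Pi.evalRingHom D j) :=
      congrArg Subtype.val h
    have hij : i = j := by
      by_contra hne
      have := congrFun (congrArg DFunLike.coe h0) (Pi.single i 1)
      simp only [RingHom.comp_apply, Pi.evalRingHom_apply, Pi.single_eq_same, map_one] at this
      rw [Pi.single_eq_of_ne (Ne.symm hne), map_zero] at this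
      exact one_ne_zero this
    subst hij
    congr 1
    apply Subtype.ext
    ext d
    have := congrFun (congrArg DFunLike.coe h0) (Pi.single i d)
    simpa using this
  · intro τ
    haveI : (RingHom.ker τ.1).IsPrime := RingHom.ker_isPrime τ.1
    obtain ⟨i, P, hP⟩ := PrimeSpectrum.exists_comap_evalRingHom_eq
      (⟨RingHom.ker τ.1, inferInstance⟩ : PrimeSpectrum (∀ i, D i))
    have hP' : P.asIdeal.comap (Pi.evalRingHom D i) = RingHom.ker τ.1 :=
      congrArg PrimeSpectrum.asIdeal hP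
    have hker : RingHom.ker (Pi.evalRingHom D i) ≤ RingHom.ker τ.1 := by
      rw [← hP', RingHom.ker_eq_comap_bot]
      exact Ideal.comap_mono bot_le
    have hsurj : Function.Surjective (Pi.evalRingHom D i) := Function.surjective_eval i
    let τi : D i →+* Ω := (Pi.evalRingHom D i).liftOfSurjective hsurj ⟨τ.1, hker⟩
    have hτi : τi.comp (Pi.evalRingHom D i) = τ.1 :=
      RingHom.liftOfSurjective_comp (Pi.evalRingHom D i) hsurj ⟨τ.1, hker⟩
    refine ⟨⟨i, ⟨τi, ?_⟩⟩, ?_⟩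
    · have : (Pi.evalRingHom D i).comp (RingHom.pi ψ) = ψ i := by ext a; rfl
      rw [← this, ← RingHom.comp_assoc, hτi]
      exact τ.2
    · apply Subtype.ext
      exact hτi

end PiHom

end Groth.Agent.H4.Brn
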