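import Groth.Agent.H4.Brn4
import Groth.Agent.H4.Brn11
import Groth.Agent.H4.Brn6
set_option autoImplicit false
universe u
open scoped nonZeroDivisors
namespace Groth.Agent.H4.Brn

section Concrete

variable {B : Type u} [CommRing B] [IsDomain B] (p : Ideal B) [p.IsPrime]
  (O : Type u) [CommRing O] [Algebra B O] [IsLocalization.AtPrime O p]

/-- the `O`-algebra structure on `Frac B` -/
noncomputable def algOK : Algebra O (FractionRing B) :=
  (IsLocalization.lift (M := p.primeCompl) (S := O) (g := algebraMap B (FractionRing B))
    (fun y => IsLocalization.map_units (FractionRing B)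
      (⟨y.1, p.primeCompl_le_nonZeroDivisors y.2⟩ : B⁰))).toAlgebra

lemma isScalarTower_algOK :
    letI := algOK p O
    IsScalarTower B O (FractionRing B) :=
  letI := algOK p O
  IsScalarTower.of_algebraMap_eq (fun b => (IsLocalization.lift_eq _ b).symm)

lemma isFractionRing_algOK :
    letI := algOK p O
    IsFractionRing O (FractionRing B) :=
  letI := algOK p O
  haveI := isScalarTower_algOK p O
  IsFractionRing.isFractionRing_of_isDomain_of_isLocalization p.primeCompl O (FractionRing B)

include p in
lemma isDomain_O : IsDomain O :=
  IsLocalization.isDomain_of_le_nonZeroDivisors O (M := p.primeCompl) p.primeCompl_le_nonZeroDivisors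

end Concrete

end Groth.Agent.H4.Brn

namespace Groth.Agent.H4.Brn

section Concrete2

variable {B : Type u} [CommRing B] [IsDomain B] (p : Ideal B) [p.IsPrime]
  (O : Type u) [CommRing O] [Algebra B O] [IsLocalization.AtPrime O p]

/-- `O ≃ red O` for a domain -/
noncomputable def redEquivOfDomain (O : Type u) [CommRing O] [IsDomain O] : O ≃+* CAlg2.red O :=
  RingEquiv.ofBijective (Ideal.Quotient.mk (nilradical O))
    ⟨by rw [RingHom.injective_iff_ker_eq_bot, Ideal.mk_ker, nilradical_eq_zero, Ideal.zero_eq_bot],
      Ideal.Quotient.mk_surjective⟩

/-- `normRed O ≃ integralClosure O (Frac B)` -/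
noncomputable def normRedEquiv :
    letI := algOK p O
    CAlg2.normRed O ≃+* integralClosure O (FractionRing B) :=
  letI := algOK p O
  haveI := isScalarTower_algOK p O
  haveI := isFractionRing_algOK p O
  haveI := isDomain_O p O
  (icEquiv (redEquivOfDomain O).symm).trans
    (AlgEquiv.mapIntegralClosure (FractionRing.algEquiv O (FractionRing B))).toRingEquiv

lemma normRedEquiv_phi (o : O) :
    letI := algOK p O
    normRedEquiv p O (phi O o) = algebraMap O (integralClosure O (FractionRing B)) o := by
  letI := algOK p O
  haveI := isScalarTower_algOK p O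
  haveI := isFractionRing_algOK p O
  haveI := isDomain_O p O
  rw [normRedEquiv, RingEquiv.trans_apply, phi, RingHom.comp_apply, icEquiv_algebraMap]
  have h1 : (redEquivOfDomain O).symm (Ideal.Quotient.mk (nilradical O) o) = o := by
    rw [RingEquiv.symm_apply_eq]; rfl
  rw [h1]
  exact (AlgEquiv.mapIntegralClosure (FractionRing.algEquiv O (FractionRing B))).commutes o

end Concrete2

end Groth.Agent.H4.Brn

namespace Groth.Agent.H4.Brn

section Concrete3

variable {B : Type u} [CommRing B] [IsDomain B] (p : Ideal B) [p.IsPrime]
  (O : Type u) [CommRing O] [Algebra B O] [IsLocalization.AtPrime O p]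

/-- the inclusion `B' → N` -/
noncomputable def inclBN :
    letI := algOK p O
    integralClosure B (FractionRing B) →+* integralClosure O (FractionRing B) :=
  letI := algOK p O
  haveI := isScalarTower_algOK p O
  RingHom.codRestrict (integralClosure B (FractionRing B)).val.toRingHom
    (integralClosure O (FractionRing B)) (fun x => IsIntegral.tower_top x.2)

theorem nonempty_equiv_maxSpec :
    Nonempty (MaximalSpectrum (CAlg2.normRed O) ≃
      {Q : Ideal (integralClosure B (FractionRing B)) // Q.IsPrime ∧ Q.under B = p}) := by
  letI := algOK p O
  haveI := isScalarTower_algOK p O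
  haveI := isFractionRing_algOK p O
  haveI := isDomain_O p O
  letI : Algebra (integralClosure B (FractionRing B)) (integralClosure O (FractionRing B)) :=
    (inclBN p O).toAlgebra
  haveI : IsScalarTower B (integralClosure B (FractionRing B)) (integralClosure O (FractionRing B)) :=
    IsScalarTower.of_algebraMap_eq (fun b => by
      apply Subtype.ext
      rfl)
  have hinj : Function.Injective
      (algebraMap (integralClosure B (FractionRing B)) (integralClosure O (FractionRing B))) := by
    intro x y h
    apply Subtype.ext
    have h1 := congrArg Subtype.val h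
    exact h1
  have hA2 : ∀ y : integralClosure O (FractionRing B), ∃ s ∈ p.primeCompl,
      ∃ b' : integralClosure B (FractionRing B),
        algebraMap B (integralClosure O (FractionRing B)) s * y =
          algebraMap (integralClosure B (FractionRing B)) (integralClosure O (FractionRing B)) b' := by
    intro y
    obtain ⟨m, hm⟩ := IsIntegral.exists_multiple_integral_of_isLocalization p.primeCompl y.1 y.2
    refine ⟨m.1, m.2, ⟨m • y.1, hm⟩, ?_⟩
    apply Subtype.ext
    change algebraMap B (FractionRing B) m.1 * y.1 = m • y.1
    rw [Submonoid.smul_def, Algebra.smul_def]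
  exact ⟨(maxSpecCongr (normRedEquiv p O)).trans
    (Equiv.ofBijective _ (maxSpecToFibre_bijective O p hinj hA2))⟩

end Concrete3

end Groth.Agent.H4.Brn

namespace Groth.Agent.H4.Brn

section Concrete4

variable {B : Type u} [CommRing B] [IsDomain B] (p : Ideal B) [p.IsPrime]
  (O : Type u) [CommRing O] [Algebra B O] [IsLocalization.AtPrime O p]

include p in
theorem nonempty_equiv_hom {Ω : Type*} [CommRing Ω] (ι : O →+* Ω) :
    Nonempty ({τ' : CAlg2.normRed O →+* Ω // τ'.comp (phi O) = ι} ≃
      {τ : integralClosure B (FractionRing B) →+* Ω //
        τ.comp (algebraMap B (integralClosure B (FractionRing B))) = ι.comp (algebraMap B O)}) := by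
  letI := algOK p O
  haveI := isScalarTower_algOK p O
  haveI := isFractionRing_algOK p O
  haveI := isDomain_O p O
  letI : Algebra (integralClosure B (FractionRing B)) (integralClosure O (FractionRing B)) :=
    (inclBN p O).toAlgebra
  haveI : IsScalarTower B (integralClosure B (FractionRing B)) (integralClosure O (FractionRing B)) :=
    IsScalarTower.of_algebraMap_eq (fun b => by
      apply Subtype.ext
      rfl)
  have hinj : Function.Injective
      (algebraMap (integralClosure B (FractionRing B)) (integralClosure O (FractionRing B))) := by
    intro x y h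
    apply Subtype.ext
    have h1 := congrArg Subtype.val h
    exact h1
  have hA2 : ∀ y : integralClosure O (FractionRing B), ∃ s ∈ p.primeCompl,
      ∃ b' : integralClosure B (FractionRing B),
        algebraMap B (integralClosure O (FractionRing B)) s * y =
          algebraMap (integralClosure B (FractionRing B)) (integralClosure O (FractionRing B)) b' := by
    intro y
    obtain ⟨m, hm⟩ := IsIntegral.exists_multiple_integral_of_isLocalization p.primeCompl y.1 y.2
    refine ⟨m.1, m.2, ⟨m • y.1, hm⟩, ?_⟩
    apply Subtype.ext
    change algebraMap B (FractionRing B) m.1 * y.1 = m • y.1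
    rw [Submonoid.smul_def, Algebra.smul_def]
  haveI := isLocalization_of_mul_mem O p hinj hA2
  have e1 : {τ' : CAlg2.normRed O →+* Ω // τ'.comp (phi O) = ι} ≃
      {τ'' : integralClosure O (FractionRing B) →+* Ω //
        τ''.comp (algebraMap O (integralClosure O (FractionRing B))) = ι} :=
    homTransport (RingHom.id O) Function.surjective_id (normRedEquiv p O) (phi O)
      (algebraMap O (integralClosure O (FractionRing B))) (normRedEquiv_phi p O)
      (RingEquiv.refl Ω) ι ι (fun a => rfl)
  exact ⟨e1.trans (homEquivOfLoc p ι)⟩

end Concrete4

end Groth.Agent.H4.Brn
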