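import Groth.Agent.H4.NormInt2
import Groth.Agent.H4.Brn12
set_option autoImplicit false
universe u
open scoped nonZeroDivisors
open AlgebraicGeometry CategoryTheory
namespace Groth.Agent.H4.Brn

section Fibre

lemma primeIdealOf_bijective {X : Scheme.{u}} {U : X.Opens} (hU : IsAffineOpen U) :
    Function.Bijective hU.primeIdealOf := by
  constructor
  · intro x y h
    apply Subtype.ext
    rw [← hU.fromSpec_primeIdealOf x, ← hU.fromSpec_primeIdealOf y, h]
  · intro P
    refine ⟨hU.isoSpec.inv P, ?_⟩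
    change hU.isoSpec.hom (hU.isoSpec.inv P) = P
    rw [← Scheme.Hom.comp_apply, Iso.inv_hom_id]
    rfl

variable {X Y : Scheme.{u}} (f : Y ⟶ X) {U : X.Opens} (hU : IsAffineOpen U)
  (hW : IsAffineOpen (f ⁻¹ᵁ U)) (x : X) (hx : x ∈ U)

/-- the map from the fibre to primes over the prime of `x` -/
noncomputable def fibreToPrimes :
    {y : Y // f.base y = x} →
      {P : PrimeSpectrum Γ(Y, f ⁻¹ᵁ U) // P.comap (f.app U).hom = hU.primeIdealOf ⟨x, hx⟩} :=
  fun y => ⟨hW.primeIdealOf ⟨y.1, by change f.base y.1 ∈ U; rw [y.2]; exact hx⟩, by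
    have hmem : y.1 ∈ f ⁻¹ᵁ U := by change f.base y.1 ∈ U; rw [y.2]; exact hx
    have h1 := IsAffineOpen.comap_primeIdealOf_appLE (f := f) (x := y.1) U hU _ hW le_rfl hmem
    rw [← Scheme.Hom.app_eq_appLE] at h1
    rw [h1]
    congr 1
    exact Subtype.ext y.2⟩

lemma fibreToPrimes_bijective : Function.Bijective (fibreToPrimes f hU hW x hx) := by
  constructor
  · intro y y' h
    apply Subtype.ext
    have h1 := congrArg Subtype.val h
    have h2 := (primeIdealOf_bijective hW).1 h1
    exact (Subtype.mk.injEq _ _ _ _).mp h2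
  · rintro ⟨P, hP⟩
    obtain ⟨⟨y, hy⟩, rfl⟩ := (primeIdealOf_bijective hW).2 P
    have h1 := IsAffineOpen.comap_primeIdealOf_appLE (f := f) (x := y) U hU _ hW le_rfl hy
    rw [← Scheme.Hom.app_eq_appLE, hP] at h1
    have h2 := (primeIdealOf_bijective hU).1 h1
    have h3 : f.base y = x := (congrArg Subtype.val h2).symm
    exact ⟨⟨y, h3⟩, rfl⟩

end Fibre

end Groth.Agent.H4.Brn

namespace Groth.Agent.H4.Brn

section PrimesOver

variable {B B' B'' : Type*} [CommRing B] [CommRing B'] [CommRing B''] [Algebra B B']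
  (φ : B →+* B'') (e : B'' ≃+* B') (he : ∀ b, e (φ b) = algebraMap B B' b) (𝔭 : PrimeSpectrum B)

include he in
/-- transfer primes over `𝔭` along an isomorphism -/
noncomputable def primesOverEquiv :
    {P : PrimeSpectrum B'' // P.comap φ = 𝔭} ≃ {Q : Ideal B' // Q.IsPrime ∧ Q.under B = 𝔭.asIdeal} where
  toFun P := ⟨P.1.asIdeal.comap (e.symm : B' →+* B''), Ideal.comap_isPrime _ _, by
    have h1 := congrArg PrimeSpectrum.asIdeal P.2
    rw [← h1]
    ext b
    simp only [Ideal.under, Ideal.mem_comap, PrimeSpectrum.comap_asIdeal, RingHom.coe_coe]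
    rw [← he, e.symm_apply_apply]⟩
  invFun Q := ⟨⟨Q.1.comap (e : B'' →+* B'), haveI := Q.2.1; Ideal.comap_isPrime _ _⟩, by
    apply PrimeSpectrum.ext
    refine Eq.trans ?_ Q.2.2
    ext b
    simp only [Ideal.under, Ideal.mem_comap, PrimeSpectrum.comap_asIdeal, RingHom.coe_coe, he]⟩
  left_inv P := by
    apply Subtype.ext
    apply PrimeSpectrum.ext
    ext b
    simp only [Ideal.mem_comap, RingHom.coe_coe, e.symm_apply_apply]
  right_inv Q := by
    apply Subtype.ext
    ext b
    simp only [Ideal.mem_comap, RingHom.coe_coe, e.apply_symm_apply]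

end PrimesOver

section Norm
variable (X : Scheme.{u}) [IsIntegral X]
  [QuasiCompact (X.fromSpecStalk (genericPoint X))] [QuasiSeparated (X.fromSpecStalk (genericPoint X))]

open Groth.Agent.H4.NormInt

theorem numBranchesAt_eq (x : X) :
    Brnch.numBranchesAt X x =
      ENat.card {x' : Curv2.normalization X // (Curv2.normalizationι X).base x' = x} := by
  obtain ⟨U, hU, hxU⟩ := exists_affine_nhd' x
  have hW := isAffineOpen_preimage X hU
  letI := TopCat.Presheaf.algebra_section_stalk X.presheaf ⟨x, hxU⟩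
  haveI := hU.isLocalization_stalk ⟨x, hxU⟩
  haveI : Nonempty U := ⟨⟨x, hxU⟩⟩
  haveI : IsDomain Γ(X, U) := inferInstance
  obtain ⟨Θ⟩ := nonempty_equiv_maxSpec (hU.primeIdealOf ⟨x, hxU⟩).asIdeal (X.presheaf.stalk x)
  obtain ⟨e, he, -⟩ := (isNormOf_app X U hU ⟨x, hxU⟩).symm_apply
  rw [Brnch.numBranchesAt, numBranches_domain, ENat.card_congr Θ,
    ENat.card_congr (Equiv.ofBijective _
      (fibreToPrimes_bijective (Curv2.normalizationι X) hU hW x hxU))]
  exact (ENat.card_congr (primesOverEquiv _ e he (hU.primeIdealOf ⟨x, hxU⟩))).symm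

end Norm

end Groth.Agent.H4.Brn
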