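import Mathlib
set_option autoImplicit false
universe u
open scoped nonZeroDivisors
namespace Groth.Agent.H4.Brn

section FE

variable {B B'' F E Ω : Type*} [CommRing B] [CommRing B''] [Field F] [Field E] [Field Ω]
  (φ : B →+* B'') (evU : B →+* F) (evW : B'' →+* E) (res : F →+* E) (j : F →+* Ω)

/-- extension of a ring map with the same kernel to a field of fractions of the image -/
lemma exists_extend_of_ker_eq (hfracW : ∀ z : E, ∃ a b, evW b ≠ 0 ∧ z * evW b = evW a)
    (τ : B'' →+* Ω) (hker : RingHom.ker τ = RingHom.ker evW) :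
    ∃ σ : E →+* Ω, σ.comp evW = τ := by
  letI : Algebra (B'' ⧸ RingHom.ker evW) E := (RingHom.kerLift evW).toAlgebra
  have hinj : Function.Injective (algebraMap (B'' ⧸ RingHom.ker evW) E) :=
    RingHom.kerLift_injective evW
  haveI : IsDomain (B'' ⧸ RingHom.ker evW) := hinj.isDomain _
  haveI : IsFractionRing (B'' ⧸ RingHom.ker evW) E := by
    refine ⟨⟨?_, ?_, ?_⟩⟩
    · intro y
      have h0 : (y : B'' ⧸ RingHom.ker evW) ≠ 0 := nonZeroDivisors.ne_zero y.2
      exact IsUnit.mk0 _ (fun h => h0 (hinj (by rw [h, map_zero])))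
    · intro z
      obtain ⟨a, b, hb, hab⟩ := hfracW z
      have hb0 : (Ideal.Quotient.mk (RingHom.ker evW) b) ≠ 0 := by
        intro h
        rw [Ideal.Quotient.eq_zero_iff_mem, RingHom.mem_ker] at h
        exact hb h
      exact ⟨⟨Ideal.Quotient.mk _ a, ⟨Ideal.Quotient.mk _ b, mem_nonZeroDivisors_of_ne_zero hb0⟩⟩, hab⟩
    · intro a b h
      exact ⟨1, by rw [hinj h]⟩
  let τbar : (B'' ⧸ RingHom.ker evW) →+* Ω :=
    Ideal.Quotient.lift (RingHom.ker evW) τ (fun a ha => by rw [← hker] at ha; exact ha)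
  have hτinj : Function.Injective τbar := by
    rw [injective_iff_map_eq_zero]
    intro q hq
    obtain ⟨a, rfl⟩ := Ideal.Quotient.mk_surjective q
    rw [Ideal.Quotient.eq_zero_iff_mem, ← hker]
    exact hq
  refine ⟨IsFractionRing.lift (K := E) hτinj, ?_⟩
  ext a
  have h1 : evW a = algebraMap (B'' ⧸ RingHom.ker evW) E (Ideal.Quotient.mk _ a) := rfl
  rw [RingHom.comp_apply, h1, IsFractionRing.lift_algebraMap]
  rfl

include φ evU in
/-- the bijection between embeddings over `F` and ring maps from `B''` with prescribed kernel -/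
lemma feBijective (hnat : ∀ b, res (evU b) = evW (φ b))
    (hfracU : ∀ z : F, ∃ a b, evU b ≠ 0 ∧ z * evU b = evU a)
    (hfracW : ∀ z : E, ∃ a b, evW b ≠ 0 ∧ z * evW b = evW a) :
    ∃ f : {σ : E →+* Ω // σ.comp res = j} →
        {τ : B'' →+* Ω // τ.comp φ = j.comp evU ∧ RingHom.ker τ = RingHom.ker evW},
      Function.Bijective f := by
  refine ⟨fun σ => ⟨σ.1.comp evW, ?_, ?_⟩, ?_, ?_⟩
  · ext b
    rw [RingHom.comp_apply, RingHom.comp_apply, RingHom.comp_apply, ← hnat,
      ← RingHom.comp_apply σ.1 res, σ.2]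
  · rw [← RingHom.comap_ker, (RingHom.injective_iff_ker_eq_bot _).mp σ.1.injective,
      ← RingHom.ker_eq_comap_bot]
  · intro σ1 σ2 h
    apply Subtype.ext
    ext z
    obtain ⟨a, b, hb, hab⟩ := hfracW z
    have h0 : ∀ c, σ1.1 (evW c) = σ2.1 (evW c) := fun c =>
      congrFun (congrArg DFunLike.coe (congrArg Subtype.val h)) c
    have h1 : σ1.1 z * σ1.1 (evW b) = σ2.1 z * σ1.1 (evW b) := by
      rw [← map_mul, hab, h0 a, h0 b, ← map_mul, hab]
    have h2 : σ1.1 (evW b) ≠ 0 := fun h => hb (σ1.1.injective (by rw [h, map_zero]))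
    exact mul_right_cancel₀ h2 h1
  · rintro ⟨τ, hτ, hker⟩
    obtain ⟨σ, hσ⟩ := exists_extend_of_ker_eq evW hfracW τ hker
    refine ⟨⟨σ, ?_⟩, Subtype.ext hσ⟩
    ext z
    obtain ⟨a, b, hb, hab⟩ := hfracU z
    have h0 : ∀ c, σ (res (evU c)) = j (evU c) := by
      intro c
      rw [hnat, ← RingHom.comp_apply σ evW, hσ]
      exact congrFun (congrArg DFunLike.coe hτ) c
    have h1 : σ (res z) * j (evU b) = j z * j (evU b) := by
      rw [← h0 b, ← map_mul, ← map_mul, hab, h0 a, h0 b, ← map_mul, hab]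
    have h2 : j (evU b) ≠ 0 := fun h => hb (j.injective (by rw [h, map_zero]))
    exact mul_right_cancel₀ h2 h1

end FE

section Tsum

lemma exists_finset_card_of_lt {α : Type*} {m : ℕ} (h : (m : ℕ∞) < ENat.card α) :
    ∃ t : Finset α, t.card = m + 1 := by
  classical
  rcases finite_or_infinite α with hfin | hinf
  · haveI := Fintype.ofFinite α
    rw [ENat.card_eq_coe_fintype_card] at h
    have h1 : m + 1 ≤ (Finset.univ : Finset α).card := by
      rw [Finset.card_univ]
      exact_mod_cast h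
    obtain ⟨t, -, ht⟩ := Finset.exists_subset_card_eq h1
    exact ⟨t, ht⟩
  · exact Infinite.exists_subset_card_eq α (m + 1) |>.imp fun t ht => ht

lemma enat_card_sigma_finset {ι : Type*} (X : ι → Type*) (s : Finset ι) :
    ENat.card (Σ i : s, X i.1) = ∑ i ∈ s, ENat.card (X i) := by
  classical
  have h1 : ENat.card (Σ i : s, X i.1) = ∑ᶠ i : s, ENat.card (X i.1) := by
    -- finite index
    haveI : Finite s := inferInstance
    haveI := Fintype.ofFinite s
    rw [finsum_eq_sum_of_fintype]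
    by_cases h : ∀ i : s, Finite (X i.1)
    · haveI := h
      have h1 : ∀ i : s, ENat.card (X i.1) = (Nat.card (X i.1) : ℕ∞) := fun i => by
        haveI := Fintype.ofFinite (X i.1)
        rw [ENat.card_eq_coe_fintype_card, Nat.card_eq_fintype_card]
      haveI : Finite (Σ i : s, X i.1) := inferInstance
      haveI := Fintype.ofFinite (Σ i : s, X i.1)
      rw [ENat.card_eq_coe_fintype_card, ← Nat.card_eq_fintype_card, Nat.card_sigma]
      simp_rw [h1]
      push_cast
      rfl
    · push Not at h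
      obtain ⟨i0, hi0⟩ := h
      haveI : Infinite (Σ i : s, X i.1) := Infinite.of_injective
        (fun x : X i0.1 => (⟨i0, x⟩ : Σ i : s, X i.1)) (fun x y hxy => by simpa using hxy)
      rw [ENat.card_eq_top_of_infinite]
      symm
      rw [eq_top_iff]
      calc (⊤ : ℕ∞) = ENat.card (X i0.1) := (ENat.card_eq_top_of_infinite).symm
        _ ≤ ∑ i : s, ENat.card (X i.1) := Finset.single_le_sum (f := fun i : s => ENat.card (X i.1))
            (fun i _ => zero_le) (Finset.mem_univ i0)
  rw [h1, finsum_eq_sum_of_fintype]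
  exact Finset.sum_coe_sort s (fun i => ENat.card (X i))

theorem enat_card_sigma_eq_tsum {ι : Type*} (X : ι → Type*) :
    ENat.card (Σ i, X i) = ∑' i, ENat.card (X i) := by
  classical
  symm
  apply HasSum.tsum_eq
  apply hasSum_of_isLUB
  constructor
  · rintro _ ⟨s, rfl⟩
    change ∑ i ∈ s, ENat.card (X i) ≤ _
    rw [← enat_card_sigma_finset]
    exact ENat.card_le_card_of_injective (f := fun x : (Σ i : s, X i.1) => (⟨x.1.1, x.2⟩ : Σ i, X i))
      (by
        rintro ⟨⟨i, hi⟩, x⟩ ⟨⟨j, hj⟩, y⟩ h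
        simp only [Sigma.mk.injEq] at h
        obtain ⟨rfl, h2⟩ := h
        simp only [heq_eq_eq] at h2
        subst h2
        rfl)
  · intro b hb
    by_contra hlt
    push Not at hlt
    have hbtop : b ≠ ⊤ := ne_top_of_lt hlt
    obtain ⟨m, rfl⟩ := ENat.ne_top_iff_exists.mp hbtop
    obtain ⟨t, ht⟩ := exists_finset_card_of_lt hlt
    let s : Finset ι := t.image Sigma.fst
    have h1 : ∑ i ∈ s, ENat.card (X i) ≤ m := hb ⟨s, rfl⟩
    rw [← enat_card_sigma_finset] at h1
    have h2 : (ENat.card t : ℕ∞) ≤ ENat.card (Σ i : s, X i.1) :=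
      ENat.card_le_card_of_injective
        (f := fun x : t => (⟨⟨x.1.1, Finset.mem_image_of_mem _ x.2⟩, x.1.2⟩ : Σ i : s, X i.1))
        (by
          rintro ⟨⟨i, x⟩, hx⟩ ⟨⟨j, y⟩, hy⟩ h
          simp only [Sigma.mk.injEq, Subtype.mk.injEq] at h
          obtain ⟨rfl, h2⟩ := h
          simp only [heq_eq_eq] at h2
          subst h2
          rfl)
    have h3 : ENat.card t = (m + 1 : ℕ) := by
      rw [ENat.card_eq_coe_fintype_card, Fintype.card_coe, ht]
    rw [h3] at h2
    have := h2.trans h1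
    exact absurd (by exact_mod_cast this : m + 1 ≤ m) (by omega)

end Tsum

end Groth.Agent.H4.Brn
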