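import Groth.Agent.H4.Brn14
set_option autoImplicit false
universe u
open scoped nonZeroDivisors

namespace Groth.Agent.H4.Brn

section EmbCard

lemma enat_card_emb_eq (F E Ω : Type*) [Field F] [Field E] [Field Ω] [Algebra F E] [Algebra F Ω]
    [Algebra.IsAlgebraic F E] [IsAlgClosed Ω] :
    ENat.card (Field.Emb F E) =
      ENat.card {σ : E →+* Ω // σ.comp (algebraMap F E) = algebraMap F Ω} := by
  rw [ENat.card_congr (Field.embEquivOfIsAlgClosed F E Ω)]
  refine ENat.card_congr
    { toFun := fun σ => ⟨σ.toRingHom, by ext a; exact σ.commutes a⟩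
      invFun := fun σ => { σ.1 with commutes' := fun a => congrFun (congrArg DFunLike.coe σ.2) a }
      left_inv := fun σ => rfl
      right_inv := fun σ => rfl }

variable {B B'' F E Ω : Type*} [CommRing B] [CommRing B''] [Field F] [Field E] [Field Ω]
  [Algebra F E] [Algebra F Ω] [IsAlgClosed Ω]
  (φ : B →+* B'') (evU : B →+* F) (evW : B'' →+* E)

include φ evU in
lemma isAlgebraic_of_fractions (hnat : ∀ b, algebraMap F E (evU b) = evW (φ b))
    (hfracW : ∀ z : E, ∃ a b, evW b ≠ 0 ∧ z * evW b = evW a) (hint : φ.IsIntegral) :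
    Algebra.IsAlgebraic F E := by
  letI := φ.toAlgebra
  have h1 : ∀ a : B'', IsIntegral F (evW a) := fun a =>
    IsIntegral.map_of_comp_eq evU evW (by ext b; exact hnat b) (hint a)
  refine ⟨fun z => ?_⟩
  obtain ⟨a, b, hb, hab⟩ := hfracW z
  have h2 : z = evW a * (evW b)⁻¹ := by
    rw [← hab, mul_assoc, mul_inv_cancel₀ hb, mul_one]
  rw [h2]
  exact ((h1 a).mul (h1 b).inv).isAlgebraic

theorem enat_card_emb_eq_card_hom (hnat : ∀ b, algebraMap F E (evU b) = evW (φ b))
    (hfracU : ∀ z : F, ∃ a b, evU b ≠ 0 ∧ z * evU b = evU a)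
    (hfracW : ∀ z : E, ∃ a b, evW b ≠ 0 ∧ z * evW b = evW a) (hint : φ.IsIntegral) :
    ENat.card (Field.Emb F E) =
      ENat.card {τ : B'' →+* Ω // τ.comp φ = (algebraMap F Ω).comp evU ∧
        RingHom.ker τ = RingHom.ker evW} := by
  haveI := isAlgebraic_of_fractions φ evU evW hnat hfracW hint
  rw [enat_card_emb_eq F E Ω]
  obtain ⟨f, hf⟩ := feBijective φ evU evW (algebraMap F E) (algebraMap F Ω) hnat hfracU hfracW
  exact ENat.card_congr (Equiv.ofBijective f hf)

end EmbCard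

section Partition

variable {B B'' Ω : Type*} [CommRing B] [CommRing B''] [Field Ω] (φ : B →+* B'') (ι : B →+* Ω)
  {Y : Type*} (P : Y → Ideal B'')

theorem enat_card_hom_eq_tsum (hP : Function.Injective P)
    (hsurj : ∀ τ : B'' →+* Ω, τ.comp φ = ι → ∃ y, RingHom.ker τ = P y) :
    ENat.card {τ : B'' →+* Ω // τ.comp φ = ι} =
      ∑' y, ENat.card {τ : B'' →+* Ω // τ.comp φ = ι ∧ RingHom.ker τ = P y} := by
  rw [← enat_card_sigma_eq_tsum]
  symm
  refine ENat.card_congr (Equiv.ofBijective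
    (fun s : (Σ y, {τ : B'' →+* Ω // τ.comp φ = ι ∧ RingHom.ker τ = P y}) =>
      (⟨s.2.1, s.2.2.1⟩ : {τ : B'' →+* Ω // τ.comp φ = ι})) ⟨?_, ?_⟩)
  · rintro ⟨y, τ, h1, h2⟩ ⟨y', τ', h1', h2'⟩ h
    have h3 : τ = τ' := congrArg Subtype.val h
    subst h3
    have h4 : y = y' := hP (h2.symm.trans h2')
    subst h4
    rfl
  · rintro ⟨τ, hτ⟩
    obtain ⟨y, hy⟩ := hsurj τ hτ
    exact ⟨⟨y, τ, hτ, hy⟩, rfl⟩

end Partition

section Transport

variable {B B' B'' Ω : Type*} [CommRing B] [CommRing B'] [CommRing B''] [CommRing Ω] [Algebra B B']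
  (φ : B →+* B'') (e : B'' ≃+* B') (he : ∀ b, e (φ b) = algebraMap B B' b) (ι : B →+* Ω)

include he in
/-- transport of homs along an isomorphism -/
noncomputable def homTransport' :
    {τ : B' →+* Ω // τ.comp (algebraMap B B') = ι} ≃ {τ : B'' →+* Ω // τ.comp φ = ι} where
  toFun τ := ⟨τ.1.comp (e : B'' →+* B'), by
    refine Eq.trans ?_ τ.2
    ext b
    simp only [RingHom.comp_apply, RingHom.coe_coe, he]⟩
  invFun τ := ⟨τ.1.comp (e.symm : B' →+* B''), by
    refine Eq.trans ?_ τ.2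
    ext b
    simp only [RingHom.comp_apply, RingHom.coe_coe]
    rw [← he, e.symm_apply_apply]⟩
  left_inv τ := by
    apply Subtype.ext
    ext b
    simp only [RingHom.comp_apply, RingHom.coe_coe, e.apply_symm_apply]
  right_inv τ := by
    apply Subtype.ext
    ext b
    simp only [RingHom.comp_apply, RingHom.coe_coe, e.symm_apply_apply]

end Transport

end Groth.Agent.H4.Brn
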