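import Groth.Agent.H4.Brn4
import Groth.Agent.H4.Brn6
set_option autoImplicit false
universe u v
open scoped nonZeroDivisors

namespace Groth.Agent.H4.Brn
open Groth.Agent.H4.TotFrac

variable (A : Type u) [CommRing A] [IsLocalRing A]

/-- the iso of residue fields `κ(A) ≃ κ(A/p)` -/
noncomputable def residueQuotEquiv (p : Ideal A) [p.IsPrime] :
    IsLocalRing.ResidueField A ≃+* IsLocalRing.ResidueField (A ⧸ p) :=
  equivOfKerEq (IsLocalRing.residue A) ((IsLocalRing.residue (A ⧸ p)).comp (Ideal.Quotient.mk p))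
    IsLocalRing.residue_surjective
    (IsLocalRing.residue_surjective.comp Ideal.Quotient.mk_surjective)
    (by
      rw [← RingHom.comap_ker, IsLocalRing.ker_residue, IsLocalRing.ker_residue]
      symm
      apply IsLocalRing.eq_maximalIdeal
      exact Ideal.comap_isMaximal_of_surjective _ Ideal.Quotient.mk_surjective)

lemma residueQuotEquiv_residue (p : Ideal A) [p.IsPrime] (a : A) :
    residueQuotEquiv A p (IsLocalRing.residue A a) =
      IsLocalRing.residue (A ⧸ p) (Ideal.Quotient.mk p a) :=
  equivOfKerEq_apply _ _ _ _ _ a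

/-- the iso of algebraic closures of residue fields -/
noncomputable def closureQuotEquiv (p : Ideal A) [p.IsPrime] :
    AlgebraicClosure (IsLocalRing.ResidueField A) ≃+*
      AlgebraicClosure (IsLocalRing.ResidueField (A ⧸ p)) :=
  IsAlgClosure.equivOfEquiv _ _ (residueQuotEquiv A p)

lemma closureQuotEquiv_toClosure (p : Ideal A) [p.IsPrime] (a : A) :
    closureQuotEquiv A p (Brnch.toClosure A a) = Brnch.toClosure (A ⧸ p) (Ideal.Quotient.mk p a) := by
  rw [Brnch.toClosure, Brnch.toClosure, RingHom.comp_apply, RingHom.comp_apply,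
    ← residueQuotEquiv_residue]
  haveI : Module.IsTorsionFree (IsLocalRing.ResidueField (A ⧸ p))
      (AlgebraicClosure (IsLocalRing.ResidueField (A ⧸ p))) :=
    DivisionSemiring.to_moduleIsTorsionFree
  haveI : Module.IsTorsionFree (IsLocalRing.ResidueField A)
      (AlgebraicClosure (IsLocalRing.ResidueField A)) :=
    DivisionSemiring.to_moduleIsTorsionFree
  exact IsAlgClosure.equivOfEquiv_algebraMap _ _ (residueQuotEquiv A p) _

/-- the map `A → D q` -/
noncomputable def psi (q : MinP (A ⧸ nilradical A)) : A →+* D q :=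
  (algebraMap ((A ⧸ nilradical A) ⧸ q.1) (D q)).comp
    ((Ideal.Quotient.mk q.1).comp (Ideal.Quotient.mk (nilradical A)))

lemma numGeomBranches_domain [IsDomain A] :
    Brnch.numGeomBranches A = ENat.card (HomΩ A) := by
  apply numGeomBranches_eq_of_finite
  rw [IsDomain.minimalPrimes_eq_singleton_bot]
  exact Set.finite_singleton _

lemma numGeomBranches_quot (p : Ideal A) [p.IsPrime] (q : MinP (A ⧸ nilradical A))
    (hq : q.1.comap (Ideal.Quotient.mk (nilradical A)) = p) :
    Brnch.numGeomBranches (A ⧸ p) =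
      ENat.card {τ : D q →+* AlgebraicClosure (IsLocalRing.ResidueField A) //
        τ.comp (psi A q) = Brnch.toClosure A} := by
  rw [numGeomBranches_domain]
  symm
  refine ENat.card_congr (homTransport (Ideal.Quotient.mk p) Ideal.Quotient.mk_surjective
    (icEquiv (redQuotEquiv A p q.1 hq)).symm (psi A q) (phi (A ⧸ p)) ?_
    (closureQuotEquiv A p) (Brnch.toClosure A) (Brnch.toClosure (A ⧸ p))
    (closureQuotEquiv_toClosure A p))
  intro a
  apply (icEquiv (redQuotEquiv A p q.1 hq)).injective
  rw [RingEquiv.apply_symm_apply, phi, RingHom.comp_apply, icEquiv_algebraMap]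
  have h1 : redQuotEquiv A p q.1 hq
      ((Ideal.Quotient.mk (nilradical (A ⧸ p))) ((Ideal.Quotient.mk p) a)) =
      (Ideal.Quotient.mk q.1) ((Ideal.Quotient.mk (nilradical A)) a) :=
    equivOfKerEq_apply _ _ _ _ _ a
  rw [h1]
  rfl

end Groth.Agent.H4.Brn
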