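import Groth.Agent.H4.Brn13
import Groth.Agent.H4.Brn15
import Groth.Agent.H4.Brn7
set_option autoImplicit false
universe u
open scoped nonZeroDivisors
open AlgebraicGeometry CategoryTheory
namespace Groth.Agent.H4.Brn

section Geom
variable (X : Scheme.{u}) [IsIntegral X]
  [QuasiCompact (X.fromSpecStalk (genericPoint X))] [QuasiSeparated (X.fromSpecStalk (genericPoint X))]

open Groth.Agent.H4.NormInt

lemma ker_evaluation {Y : Scheme.{u}} {W : Y.Opens} (hW : IsAffineOpen W) (y : Y) (hy : y ∈ W) :
    RingHom.ker (Y.evaluation W y hy).hom = (hW.primeIdealOf ⟨y, hy⟩).asIdeal := by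
  rw [hW.primeIdealOf_eq_map_closedPoint]
  ext a
  change (Y.residue y).hom ((Y.presheaf.germ W y hy).hom a) = 0 ↔
    (Y.presheaf.germ W y hy).hom a ∈ IsLocalRing.maximalIdeal (Y.presheaf.stalk y)
  exact IsLocalRing.residue_eq_zero_iff _

/-- per-point count -/
theorem card_emb_eq_card_hom (y : Curv2.normalization X) (U : X.Opens) (hU : IsAffineOpen U)
    (hxU : (Curv2.normalizationι X).base y ∈ U) :
    (letI := ((Curv2.normalizationι X).residueFieldMap y).hom.toAlgebra
     ENat.card (Field.Emb (X.residueField ((Curv2.normalizationι X).base y))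
       ((Curv2.normalization X).residueField y))) =
      ENat.card {τ : Γ(Curv2.normalization X, Curv2.normalizationι X ⁻¹ᵁ U) →+*
          AlgebraicClosure (IsLocalRing.ResidueField
            (X.presheaf.stalk ((Curv2.normalizationι X).base y))) //
        τ.comp ((Curv2.normalizationι X).app U).hom =
          (Brnch.toClosure (X.presheaf.stalk ((Curv2.normalizationι X).base y))).comp
            (X.presheaf.germ U _ hxU).hom ∧
        RingHom.ker τ = RingHom.ker ((Curv2.normalization X).evaluation _ y hxU).hom} := by
  letI := ((Curv2.normalizationι X).residueFieldMap y).hom.toAlgebra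
  letI : Algebra (X.residueField ((Curv2.normalizationι X).base y))
      (AlgebraicClosure (IsLocalRing.ResidueField
        (X.presheaf.stalk ((Curv2.normalizationι X).base y)))) :=
    (AlgebraicClosure.instAlgebra (IsLocalRing.ResidueField
        (X.presheaf.stalk ((Curv2.normalizationι X).base y))) :
      Algebra (IsLocalRing.ResidueField (X.presheaf.stalk ((Curv2.normalizationι X).base y)))
        (AlgebraicClosure (IsLocalRing.ResidueField
          (X.presheaf.stalk ((Curv2.normalizationι X).base y)))))
  have hW := isAffineOpen_preimage X hU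
  have h := enat_card_emb_eq_card_hom
    (Ω := AlgebraicClosure (IsLocalRing.ResidueField
        (X.presheaf.stalk ((Curv2.normalizationι X).base y))))
    ((Curv2.normalizationι X).app U).hom
    (X.evaluation U _ hxU).hom ((Curv2.normalization X).evaluation _ y hxU).hom
    (fun b => Scheme.evaluation_naturality_apply (Curv2.normalizationι X) y hxU b)
    (fun z => exists_evaluation_frac hU _ hxU z)
    (fun z => exists_evaluation_frac hW y hxU z)
    (IsIntegralHom.isIntegral_app _ U hU)
  have hcomp : (algebraMap (X.residueField ((Curv2.normalizationι X).base y))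
      (AlgebraicClosure (IsLocalRing.ResidueField
        (X.presheaf.stalk ((Curv2.normalizationι X).base y))))).comp (X.evaluation U _ hxU).hom =
      (Brnch.toClosure (X.presheaf.stalk ((Curv2.normalizationι X).base y))).comp
            (X.presheaf.germ U _ hxU).hom := rfl
  rw [hcomp] at h
  exact h

theorem numGeomBranchesAt_eq (x : X) :
    Brnch.numGeomBranchesAt X x =
      ∑' x' : {x' : Curv2.normalization X // (Curv2.normalizationι X).base x' = x},
        (letI := ((Curv2.normalizationι X).residueFieldMap x'.1).hom.toAlgebra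
         ENat.card (Field.Emb (X.residueField ((Curv2.normalizationι X).base x'.1))
           ((Curv2.normalization X).residueField x'.1))) := by
  obtain ⟨U, hU, hxU⟩ := exists_affine_nhd' x
  have hW := isAffineOpen_preimage X hU
  have hA : Brnch.numGeomBranchesAt X x =
      ENat.card {τ : Γ(Curv2.normalization X, Curv2.normalizationι X ⁻¹ᵁ U) →+*
          AlgebraicClosure (IsLocalRing.ResidueField (X.presheaf.stalk x)) //
        τ.comp ((Curv2.normalizationι X).app U).hom =
          (Brnch.toClosure (X.presheaf.stalk x)).comp (X.presheaf.germ U x hxU).hom} := by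
    letI := TopCat.Presheaf.algebra_section_stalk X.presheaf ⟨x, hxU⟩
    haveI := hU.isLocalization_stalk ⟨x, hxU⟩
    haveI : Nonempty U := ⟨⟨x, hxU⟩⟩
    haveI : IsDomain Γ(X, U) := inferInstance
    obtain ⟨Θ⟩ := nonempty_equiv_hom (hU.primeIdealOf ⟨x, hxU⟩).asIdeal (X.presheaf.stalk x)
      (Brnch.toClosure (X.presheaf.stalk x))
    obtain ⟨e, he, -⟩ := (isNormOf_app X U hU ⟨x, hxU⟩).symm_apply
    rw [Brnch.numGeomBranchesAt, numGeomBranches_domain]
    exact (ENat.card_congr Θ).trans (ENat.card_congr (homTransport' _ e he _))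
  have hmem : ∀ y : {x' : Curv2.normalization X // (Curv2.normalizationι X).base x' = x},
      y.1 ∈ Curv2.normalizationι X ⁻¹ᵁ U := fun y => by
    change (Curv2.normalizationι X).base y.1 ∈ U
    rw [y.2]; exact hxU
  rw [hA, enat_card_hom_eq_tsum _ _
    (fun y : {x' : Curv2.normalization X // (Curv2.normalizationι X).base x' = x} =>
      RingHom.ker ((Curv2.normalization X).evaluation _ y.1 (hmem y)).hom)]
  · refine tsum_congr (fun y => ?_)
    obtain ⟨y, hy⟩ := y
    subst hy
    exact (card_emb_eq_card_hom X y U hU hxU).symm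
  · intro y y' h
    simp only [ker_evaluation hW] at h
    have h1 := (primeIdealOf_bijective hW).1 (PrimeSpectrum.ext h)
    apply Subtype.ext
    exact (Subtype.mk.injEq _ _ _ _).mp h1
  · intro τ hτ
    have hprime : (RingHom.ker τ).IsPrime := RingHom.ker_isPrime τ
    have hcomap : (⟨RingHom.ker τ, hprime⟩ : PrimeSpectrum _).comap
        ((Curv2.normalizationι X).app U).hom = hU.primeIdealOf ⟨x, hxU⟩ := by
      apply PrimeSpectrum.ext
      rw [PrimeSpectrum.comap_asIdeal]
      change Ideal.comap _ (RingHom.ker τ) = _
      rw [RingHom.comap_ker, hτ, ← RingHom.comap_ker, ker_toClosure,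
        hU.primeIdealOf_eq_map_closedPoint]
      rfl
    obtain ⟨y, hy⟩ := (fibreToPrimes_bijective (Curv2.normalizationι X) hU hW x hxU).2
      ⟨⟨RingHom.ker τ, hprime⟩, hcomap⟩
    refine ⟨y, ?_⟩
    have h1 := congrArg (fun P => P.1.asIdeal) hy
    rw [ker_evaluation hW]
    exact h1.symm

end Geom

end Groth.Agent.H4.Brn
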