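import Groth.Agent.H4.Brn15
set_option autoImplicit false
universe u
open scoped nonZeroDivisors
namespace Groth.Agent.H4.Brn

section LemmaG
variable {A A' F Ω K : Type*} [CommRing A] [CommRing A'] [Field F] [Field Ω] [Field K]
  [Algebra F Ω] [IsAlgClosed Ω] [Algebra.IsAlgebraic F Ω]
  (φ : A →+* A') (hφ : φ.IsIntegral) (ι : A →+* F)
  (hfrac : ∀ z : F, ∃ a b, ι b ≠ 0 ∧ z * ι b = ι a)

include hφ hfrac in
lemma eq_of_subsingleton_hom_of_isAlgClosed [IsAlgClosed K]
    (hsub : Subsingleton {τ : A' →+* Ω // τ.comp φ = (algebraMap F Ω).comp ι})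
    (τ1 τ2 : A' →+* K) (h12 : τ1.comp φ = τ2.comp φ)
    (hker : RingHom.ker (τ1.comp φ) = RingHom.ker ι) : τ1 = τ2 := by
  obtain ⟨j, hj⟩ := exists_extend_of_ker_eq ι hfrac (τ1.comp φ) hker
  letI : Algebra F K := j.toAlgebra
  let σ : Ω →ₐ[F] K := IsAlgClosed.lift
  letI : Algebra Ω K := σ.toRingHom.toAlgebra
  haveI : IsScalarTower F Ω K := IsScalarTower.of_algebraMap_eq (fun a => (σ.commutes a).symm)
  have hrange : ∀ τ : A' →+* K, τ.comp φ = j.comp ι → ∀ x, τ x ∈ σ.toRingHom.range := by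
    intro τ hτ x
    letI := φ.toAlgebra
    have h1 : IsIntegral F (τ x) := IsIntegral.map_of_comp_eq ι τ hτ.symm (hφ x)
    have h2 : IsIntegral Ω (τ x) := h1.tower_top
    exact minpoly.mem_range_of_degree_eq_one Ω (τ x)
      (IsAlgClosed.degree_eq_one_of_irreducible Ω (minpoly.irreducible h2))
  have hlift : ∀ τ : A' →+* K, τ.comp φ = j.comp ι →
      ∃ τ' : A' →+* Ω, σ.toRingHom.comp τ' = τ ∧ τ'.comp φ = (algebraMap F Ω).comp ι := by
    intro τ hτ
    let e : Ω ≃+* σ.toRingHom.range := RingEquiv.ofBijective σ.toRingHom.rangeRestrict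
      ⟨(RingHom.injective _), σ.toRingHom.rangeRestrict_surjective⟩
    let τ' : A' →+* Ω := (e.symm : σ.toRingHom.range →+* Ω).comp
      (τ.codRestrict σ.toRingHom.range (hrange τ hτ))
    have h1 : σ.toRingHom.comp τ' = τ := by
      ext x
      have h2 : e (τ' x) = ⟨τ x, hrange τ hτ x⟩ := e.apply_symm_apply _
      exact congrArg Subtype.val h2
    refine ⟨τ', h1, ?_⟩
    ext a
    apply σ.toRingHom.injective
    have h3 : σ.toRingHom (τ' (φ a)) = τ (φ a) := congrFun (congrArg DFunLike.coe h1) (φ a)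
    rw [RingHom.comp_apply, h3, RingHom.comp_apply]
    have h4 : τ (φ a) = j (ι a) := congrFun (congrArg DFunLike.coe hτ) a
    rw [h4]
    exact (σ.commutes (ι a)).symm
  obtain ⟨τ1', h1, h1'⟩ := hlift τ1 hj.symm
  obtain ⟨τ2', h2, h2'⟩ := hlift τ2 (h12 ▸ hj.symm)
  have := congrArg Subtype.val (hsub.elim ⟨τ1', h1'⟩ ⟨τ2', h2'⟩)
  rw [← h1, ← h2]
  exact congrArg _ this

include hφ hfrac in
theorem eq_of_subsingleton_hom
    (hsub : Subsingleton {τ : A' →+* Ω // τ.comp φ = (algebraMap F Ω).comp ι})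
    (τ1 τ2 : A' →+* K) (h12 : τ1.comp φ = τ2.comp φ)
    (hker : RingHom.ker (τ1.comp φ) = RingHom.ker ι) : τ1 = τ2 := by
  have hinj : Function.Injective (algebraMap K (AlgebraicClosure K)) := RingHom.injective _
  have := eq_of_subsingleton_hom_of_isAlgClosed (K := AlgebraicClosure K) φ hφ ι hfrac hsub
    ((algebraMap K (AlgebraicClosure K)).comp τ1) ((algebraMap K (AlgebraicClosure K)).comp τ2)
    (by rw [RingHom.comp_assoc, RingHom.comp_assoc, h12])
    (by
      rw [← hker, RingHom.comp_assoc]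
      ext a
      simp only [RingHom.mem_ker, RingHom.comp_apply]
      exact map_eq_zero_iff _ hinj)
  ext x
  exact hinj (congrFun (congrArg DFunLike.coe this) x)

end LemmaG

end Groth.Agent.H4.Brn
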