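import Mathlib
set_option autoImplicit false
universe u
open scoped nonZeroDivisors

namespace Groth.Agent.H4.TotFrac

variable (A : Type u) [CommRing A]

/-- index type: minimal primes -/
abbrev MinP := {p : Ideal A // p ∈ minimalPrimes A}

instance (p : MinP A) : p.1.IsPrime := p.2.1.1

variable {A}

lemma eq_of_le {p q : MinP A} (h : q.1 ≤ p.1) : q = p := by
  apply Subtype.ext
  exact le_antisymm h (p.2.2 ⟨q.2.1.1, bot_le⟩ h)

variable [IsReduced A]

lemma eq_zero_of_forall_mem {a : A} (h : ∀ p : MinP A, a ∈ p.1) : a = 0 := by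
  have h1 : a ∈ sInf (minimalPrimes A) := by
    rw [Submodule.mem_sInf]
    intro p hp
    exact h ⟨p, hp⟩
  have h2 : sInf (minimalPrimes A) = nilradical A := Ideal.sInf_minimalPrimes (I := (⊥ : Ideal A))
  rw [h2, nilradical_eq_zero] at h1
  exact h1

lemma mem_nonZeroDivisors_iff {s : A} : s ∈ A⁰ ↔ ∀ p : MinP A, s ∉ p.1 := by
  constructor
  · intro hs p hp
    exact (Set.disjoint_left.mp (Ideal.disjoint_nonZeroDivisors_of_mem_minimalPrimes p.2)) hp hs
  · intro h
    rw [mem_nonZeroDivisors_iff_right]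
    intro x hx
    apply eq_zero_of_forall_mem
    intro p
    have h1 : x * s ∈ p.1 := by rw [hx]; exact zero_mem _
    exact (Ideal.IsPrime.mem_or_mem inferInstance h1).resolve_right (h p)

/-- the component fields -/
abbrev Kp (p : MinP A) := FractionRing (A ⧸ p.1)

/-- the map `A → K_p` -/
noncomputable def toKp (p : MinP A) : A →+* Kp p :=
  (algebraMap (A ⧸ p.1) (Kp p)).comp (Ideal.Quotient.mk p.1)

lemma toKp_eq_zero_iff (p : MinP A) (a : A) : toKp p a = 0 ↔ a ∈ p.1 := by
  rw [toKp, RingHom.comp_apply, map_eq_zero_iff _ (IsFractionRing.injective (A ⧸ p.1) (Kp p)),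
    Ideal.Quotient.eq_zero_iff_mem]

/-- the map from the total fraction ring to the product of the component fields -/
noncomputable def Φ : FractionRing A →+* ∀ p : MinP A, Kp p :=
  IsLocalization.lift (M := A⁰) (g := RingHom.pi fun p => toKp p) (fun s => by
    rw [Pi.isUnit_iff]
    intro p
    rw [RingHom.pi_apply, isUnit_iff_ne_zero, Ne, toKp_eq_zero_iff]
    exact mem_nonZeroDivisors_iff.mp s.2 p)

lemma Φ_algebraMap (a : A) (p : MinP A) : Φ (algebraMap A (FractionRing A) a) p = toKp p a := by
  rw [Φ, IsLocalization.lift_eq]; rfl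

lemma Φ_injective : Function.Injective (Φ (A := A)) := by
  rw [injective_iff_map_eq_zero]
  intro x hx
  obtain ⟨a, s, rfl⟩ := IsLocalization.exists_mk'_eq A⁰ x
  have h1 : ∀ p : MinP A, toKp p a = 0 := by
    intro p
    have h2 : algebraMap A (FractionRing A) a =
        IsLocalization.mk' (FractionRing A) a s * algebraMap A (FractionRing A) s := by
      rw [IsLocalization.mk'_spec]
    rw [← Φ_algebraMap, h2, map_mul, hx, zero_mul]
    rfl
  have h3 : a = 0 := eq_zero_of_forall_mem fun p => (toKp_eq_zero_iff p a).mp (h1 p)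
  rw [h3, IsLocalization.mk'_zero]

section Surj
variable [Finite (MinP A)]

omit [IsReduced A] in
lemma exists_sep (p : MinP A) : ∃ a : A, a ∉ p.1 ∧ ∀ q : MinP A, q ≠ p → a ∈ q.1 := by
  classical
  haveI := Fintype.ofFinite (MinP A)
  by_contra hcon
  push Not at hcon
  have h1 : (Finset.univ.erase p).inf (fun q : MinP A => q.1) ≤ p.1 := by
    intro a ha
    by_contra hap
    obtain ⟨q, hq, haq⟩ := hcon a hap
    apply haq
    rw [Submodule.mem_finsetInf] at ha
    exact ha q (Finset.mem_erase.mpr ⟨hq, Finset.mem_univ _⟩)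
  obtain ⟨q, hq, hqp⟩ := (Ideal.IsPrime.inf_le' inferInstance).mp h1
  exact (Finset.mem_erase.mp hq).1 (eq_of_le hqp)

lemma single_mem_range (p : MinP A) (z : Kp p) : ∃ w : FractionRing A, Φ w = Pi.single p z := by
  classical
  haveI := Fintype.ofFinite (MinP A)
  choose a ha1 ha2 using exists_sep (A := A)
  have hzero : ∀ q r : MinP A, q ≠ r → toKp r (a q) = 0 := fun q r hqr =>
    (toKp_eq_zero_iff r (a q)).mpr (ha2 q r (Ne.symm hqr))
  have hne : ∀ r : MinP A, toKp r (a r) ≠ 0 := fun r h => ha1 r ((toKp_eq_zero_iff r (a r)).mp h)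
  obtain ⟨S, hS⟩ : ∃ S : A, S = ∑ q, a q := ⟨_, rfl⟩
  have hSr : ∀ r : MinP A, toKp r S = toKp r (a r) := by
    intro r
    rw [hS, map_sum]
    exact Finset.sum_eq_single r (fun q _ hq => hzero q r hq) (fun h => absurd (Finset.mem_univ r) h)
  -- write z as a fraction
  obtain ⟨x', t', ht', rfl⟩ := IsFractionRing.div_surjective (A := A ⧸ p.1) z
  obtain ⟨x, rfl⟩ := Ideal.Quotient.mk_surjective x'
  obtain ⟨t, rfl⟩ := Ideal.Quotient.mk_surjective t'
  have htp : toKp p t ≠ 0 := by
    intro h
    have h1 : (Ideal.Quotient.mk p.1) t = 0 :=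
      (map_eq_zero_iff _ (IsFractionRing.injective (A ⧸ p.1) (Kp p))).mp h
    exact nonZeroDivisors.ne_zero ht' h1
  obtain ⟨T, hT⟩ : ∃ T : A, T = S + (t - 1) * a p := ⟨_, rfl⟩
  have hTp : toKp p T = toKp p t * toKp p (a p) := by
    rw [hT, map_add, map_mul, map_sub, map_one, hSr]; ring
  have hTr : ∀ r : MinP A, r ≠ p → toKp r T = toKp r (a r) := by
    intro r hr
    rw [hT, map_add, map_mul, hzero p r (Ne.symm hr), mul_zero, add_zero, hSr]
  have hTnzd : T ∈ A⁰ := by
    rw [mem_nonZeroDivisors_iff]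
    intro r hr
    have h1 := (toKp_eq_zero_iff r T).mpr hr
    by_cases hrp : r = p
    · subst hrp
      rw [hTp] at h1
      exact (mul_ne_zero htp (hne r)) h1
    · rw [hTr r hrp] at h1
      exact hne r h1
  refine ⟨IsLocalization.mk' (FractionRing A) (x * a p) ⟨T, hTnzd⟩, ?_⟩
  funext r
  have hkey : Φ (IsLocalization.mk' (FractionRing A) (x * a p) ⟨T, hTnzd⟩) r * toKp r T =
      toKp r (x * a p) := by
    rw [← Φ_algebraMap, ← Φ_algebraMap, ← Pi.mul_apply, ← map_mul]
    exact congrArg (fun w => Φ w r) (IsLocalization.mk'_spec (FractionRing A) (x * a p) ⟨T, hTnzd⟩)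
  by_cases hrp : r = p
  · subst hrp
    rw [Pi.single_eq_same]
    have hTne : toKp r T ≠ 0 := by rw [hTp]; exact mul_ne_zero htp (hne r)
    rw [eq_div_iff (by exact htp)]
    have h2 : toKp r t = algebraMap (A ⧸ r.1) (Kp r) ((Ideal.Quotient.mk r.1) t) := rfl
    rw [← h2]
    apply mul_right_cancel₀ (hne r)
    rw [mul_assoc, ← hTp, hkey, map_mul]
    rfl
  · rw [Pi.single_eq_of_ne hrp]
    have hTne : toKp r T ≠ 0 := by rw [hTr r hrp]; exact hne r
    apply mul_right_cancel₀ hTne
    rw [hkey, zero_mul, map_mul, hzero p r (Ne.symm hrp), mul_zero]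

lemma Φ_surjective : Function.Surjective (Φ (A := A)) := by
  classical
  haveI := Fintype.ofFinite (MinP A)
  intro y
  choose w hw using fun p => single_mem_range p (y p)
  refine ⟨∑ p, w p, ?_⟩
  rw [map_sum]
  simp_rw [hw]
  exact Finset.univ_sum_single y

lemma Φ_bijective : Function.Bijective (Φ (A := A)) := ⟨Φ_injective, Φ_surjective⟩

end Surj


lemma evalΦ_comp (p : MinP A) :
    (algebraMap (A ⧸ p.1) (Kp p)).comp (Ideal.Quotient.mk p.1) =
      ((Pi.evalRingHom (fun p : MinP A => Kp p) p).comp Φ).comp (algebraMap A (FractionRing A)) := by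
  ext a
  simp only [RingHom.comp_apply, Pi.evalRingHom_apply, Φ_algebraMap]
  rfl

lemma isIntegral_Φ {x : FractionRing A} (hx : IsIntegral A x) (p : MinP A) :
    IsIntegral (A ⧸ p.1) (Φ x p) :=
  IsIntegral.map_of_comp_eq (Ideal.Quotient.mk p.1)
    ((Pi.evalRingHom (fun p : MinP A => Kp p) p).comp Φ) (evalΦ_comp p) hx

lemma isIntegral_of_Φ [Finite (MinP A)] {x : FractionRing A}
    (hx : ∀ p : MinP A, IsIntegral (A ⧸ p.1) (Φ x p)) : IsIntegral A x := by
  classical
  haveI := Fintype.ofFinite (MinP A)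
  have h1 : ∀ p : MinP A, ∃ g : Polynomial A, g.Monic ∧
      Polynomial.eval₂ (toKp p) (Φ x p) g = 0 := by
    intro p
    obtain ⟨f, hf, hf0⟩ := hx p
    obtain ⟨g, hg, -, hgm⟩ := Polynomial.lifts_and_natDegree_eq_and_monic
      (f := Ideal.Quotient.mk p.1) (p := f)
      ((Polynomial.mem_lifts _).mpr (Polynomial.map_surjective _ Ideal.Quotient.mk_surjective f)) hf
    refine ⟨g, hgm, ?_⟩
    rw [toKp, ← Polynomial.eval₂_map, hg]
    exact hf0
  choose g hgm hg0 using h1
  refine ⟨∏ p, g p, Polynomial.monic_prod_of_monic _ _ (fun p _ => hgm p), ?_⟩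
  apply Φ_injective
  rw [map_zero]
  funext q
  have h2 : Φ (Polynomial.eval₂ (algebraMap A (FractionRing A)) x (∏ p, g p)) q =
      Polynomial.eval₂ (toKp q) (Φ x q) (∏ p, g p) := by
    have := Polynomial.hom_eval₂ (∏ p, g p) (algebraMap A (FractionRing A))
      ((Pi.evalRingHom (fun p : MinP A => Kp p) q).comp Φ) x
    rw [← evalΦ_comp] at this
    exact this
  rw [h2, Polynomial.eval₂_finsetProd]
  exact Finset.prod_eq_zero (Finset.mem_univ q) (hg0 q)

lemma isIntegral_iff [Finite (MinP A)] {x : FractionRing A} :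
    IsIntegral A x ↔ ∀ p : MinP A, IsIntegral (A ⧸ p.1) (Φ x p) :=
  ⟨isIntegral_Φ, isIntegral_of_Φ⟩


/-- the component normalizations -/
abbrev D (p : MinP A) := integralClosure (A ⧸ p.1) (Kp p)

/-- the map `A' → ∏ D_p` -/
noncomputable def Ψhom : integralClosure A (FractionRing A) →+* ∀ p : MinP A, D p :=
  RingHom.pi fun p =>
    (((Pi.evalRingHom (fun p : MinP A => Kp p) p).comp Φ).comp
      (integralClosure A (FractionRing A)).val.toRingHom).codRestrict (D p)
      (fun x => isIntegral_Φ x.2 p)

lemma Ψhom_apply (x : integralClosure A (FractionRing A)) (p : MinP A) :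
    ((Ψhom x p : D p) : Kp p) = Φ (x : FractionRing A) p := rfl

lemma Ψhom_bijective [Finite (MinP A)] : Function.Bijective (Ψhom (A := A)) := by
  constructor
  · intro x y hxy
    apply Subtype.ext
    apply Φ_injective
    funext p
    rw [← Ψhom_apply, ← Ψhom_apply, hxy]
  · intro y
    obtain ⟨x, hx⟩ := Φ_surjective (fun p => ((y p : D p) : Kp p))
    have hx' : IsIntegral A x := by
      apply isIntegral_of_Φ
      intro p
      rw [hx]
      exact (y p).2
    refine ⟨⟨x, hx'⟩, ?_⟩
    funext p
    apply Subtype.ext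
    rw [Ψhom_apply]
    exact congrFun hx p

/-- the ring isomorphism `A' ≃ ∏ D_p` -/
noncomputable def Ψ [Finite (MinP A)] : integralClosure A (FractionRing A) ≃+* ∀ p : MinP A, D p :=
  RingEquiv.ofBijective Ψhom Ψhom_bijective

lemma Ψ_apply [Finite (MinP A)] (x : integralClosure A (FractionRing A)) (p : MinP A) :
    ((Ψ x p : D p) : Kp p) = Φ (x : FractionRing A) p := rfl

lemma Ψ_algebraMap [Finite (MinP A)] (a : A) (p : MinP A) :
    Ψ (algebraMap A (integralClosure A (FractionRing A)) a) p =
      algebraMap (A ⧸ p.1) (D p) (Ideal.Quotient.mk p.1 a) := by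
  apply Subtype.ext
  rw [Ψ_apply]
  exact Φ_algebraMap a p


lemma Ψ_smul [Finite (MinP A)] (a : A) (x : integralClosure A (FractionRing A)) :
    Ψ (a • x) = a • Ψ x := by
  funext p
  apply Subtype.ext
  rw [Ψ_apply, Pi.smul_apply]
  have h1 : ((a • x : integralClosure A (FractionRing A)) : FractionRing A) =
      algebraMap A (FractionRing A) a * (x : FractionRing A) := by
    rw [← Algebra.smul_def]; rfl
  have h2 : ((a • (Ψ x p) : D p) : Kp p) = algebraMap A (Kp p) a * ((Ψ x p : D p) : Kp p) := by
    rw [← Algebra.smul_def]; rfl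
  rw [h1, h2, map_mul, Pi.mul_apply, Φ_algebraMap, Ψ_apply]
  rfl

/-- the `A`-linear isomorphism `A' ≃ ∏ D_p` -/
noncomputable def Ψlin [Finite (MinP A)] :
    integralClosure A (FractionRing A) ≃ₗ[A] ∀ p : MinP A, D p :=
  { Ψ.toAddEquiv with
    map_smul' := Ψ_smul }

lemma finite_of_components [Finite (MinP A)]
    (h : ∀ p : MinP A, Module.Finite (A ⧸ p.1) (D p)) :
    Module.Finite A (integralClosure A (FractionRing A)) := by
  haveI : ∀ p : MinP A, Module.Finite A (D p) := fun p => by
    haveI := h p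
    exact Module.Finite.trans (A ⧸ p.1) (D p)
  exact Module.Finite.equiv Ψlin.symm


section Loc
lemma locAtPrime_domain {R : Type*} [CommRing R] [IsDomain R] [IsIntegrallyClosed R]
    (q : Ideal R) [q.IsPrime] :
    IsDomain (Localization.AtPrime q) ∧ IsIntegrallyClosed (Localization.AtPrime q) := by
  refine ⟨IsLocalization.isDomain_localization q.primeCompl_le_nonZeroDivisors, ?_⟩
  exact isIntegrallyClosed_of_isLocalization _ q.primeCompl q.primeCompl_le_nonZeroDivisors

lemma locAtPrime_of_equiv {B C : Type*} [CommRing B] [CommRing C] (e : B ≃+* C)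
    (P : Ideal B) [P.IsPrime] (Q : Ideal C) [Q.IsPrime] (h : P = Q.comap e)
    (hQ : IsDomain (Localization.AtPrime Q) ∧ IsIntegrallyClosed (Localization.AtPrime Q)) :
    IsDomain (Localization.AtPrime P) ∧ IsIntegrallyClosed (Localization.AtPrime P) := by
  obtain ⟨h1, h2⟩ := hQ
  have e' : Localization.AtPrime P ≃+* Localization.AtPrime Q := Localization.localRingEquiv P Q e h
  exact ⟨e'.toMulEquiv.isDomain _, IsIntegrallyClosed.of_equiv e'.symm⟩

lemma pi_locAtPrime {ι : Type*} [Finite ι] {R : ι → Type*} [∀ i, CommRing (R i)]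
    [∀ i, IsDomain (R i)] [∀ i, IsIntegrallyClosed (R i)]
    (P : Ideal (∀ i, R i)) [hP : P.IsPrime] :
    IsDomain (Localization.AtPrime P) ∧ IsIntegrallyClosed (Localization.AtPrime P) := by
  obtain ⟨i, q, hq⟩ := PrimeSpectrum.exists_comap_evalRingHom_eq (⟨P, hP⟩ : PrimeSpectrum (∀ i, R i))
  have hq' : P = q.asIdeal.comap (Pi.evalRingHom R i) := by
    have := congrArg PrimeSpectrum.asIdeal hq
    exact this.symm
  subst hq'
  obtain ⟨h1, h2⟩ := locAtPrime_domain q.asIdeal
  have e' : Localization.AtPrime (q.asIdeal.comap (Pi.evalRingHom R i)) ≃+*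
      Localization.AtPrime q.asIdeal :=
    RingEquiv.ofBijective _ (Localization.AtPrime.mapPiEvalRingHom_bijective q.asIdeal)
  exact ⟨e'.toMulEquiv.isDomain _, IsIntegrallyClosed.of_equiv e'.symm⟩

lemma equiv_pi_locAtPrime {ι : Type*} [Finite ι] {R : ι → Type*} [∀ i, CommRing (R i)]
    [∀ i, IsDomain (R i)] [∀ i, IsIntegrallyClosed (R i)]
    {B : Type*} [CommRing B] (e : B ≃+* ∀ i, R i) (P : Ideal B) [P.IsPrime] :
    IsDomain (Localization.AtPrime P) ∧ IsIntegrallyClosed (Localization.AtPrime P) := by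
  haveI : (P.comap (e.symm : (∀ i, R i) →+* B)).IsPrime := Ideal.comap_isPrime _ _
  refine locAtPrime_of_equiv e P (P.comap (e.symm : (∀ i, R i) →+* B)) ?_ (pi_locAtPrime _)
  ext x
  simp [Ideal.mem_comap]


end Loc

section Len
omit [IsReduced A]
lemma exists_common_denominator [Module.Finite A (integralClosure A (FractionRing A))] :
    ∃ t ∈ A⁰, ∀ x : integralClosure A (FractionRing A),
      ∃ a : A, algebraMap A (FractionRing A) a = algebraMap A (FractionRing A) t * (x : FractionRing A) := by
  classical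
  obtain ⟨s, hs⟩ := (Module.finite_def (R := A) (M := integralClosure A (FractionRing A))).mp inferInstance
  obtain ⟨b, hb⟩ := IsLocalization.exist_integer_multiples_of_finset A⁰
    (s.image (fun x : integralClosure A (FractionRing A) => (x : FractionRing A)))
  refine ⟨b.1, b.2, ?_⟩
  intro x
  have hx : x ∈ Submodule.span A (s : Set (integralClosure A (FractionRing A))) := by
    rw [hs]; trivial
  induction hx using Submodule.span_induction with
  | mem x hx =>
    obtain ⟨a, ha⟩ := hb (x : FractionRing A) (Finset.mem_image_of_mem _ hx)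
    refine ⟨a, ?_⟩
    rw [ha]
    exact Algebra.smul_def _ _
  | zero => exact ⟨0, by simp⟩
  | add x y _ _ hx hy =>
    obtain ⟨a, ha⟩ := hx
    obtain ⟨a', ha'⟩ := hy
    exact ⟨a + a', by rw [map_add, ha, ha']; push_cast; ring⟩
  | smul c x _ hx =>
    obtain ⟨a, ha⟩ := hx
    refine ⟨c * a, ?_⟩
    have h1 : ((c • x : integralClosure A (FractionRing A)) : FractionRing A) =
        algebraMap A (FractionRing A) c * (x : FractionRing A) := by
      rw [← Algebra.smul_def]; rfl
    rw [map_mul, ha, h1]; ring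

lemma isFiniteLength_quot [IsNoetherianRing A] [Ring.KrullDimLE 1 A]
    [Module.Finite A (integralClosure A (FractionRing A))] :
    IsFiniteLength A (integralClosure A (FractionRing A) ⧸
      LinearMap.range (Algebra.linearMap A (integralClosure A (FractionRing A)))) := by
  obtain ⟨t, ht, h⟩ := exists_common_denominator (A := A)
  choose a ha using h
  have hinj : Function.Injective (algebraMap A (FractionRing A)) :=
    IsLocalization.injective _ (le_refl _)
  have hunit : IsUnit (algebraMap A (FractionRing A) t) :=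
    IsLocalization.map_units (FractionRing A) (⟨t, ht⟩ : A⁰)
  let ψ0 : integralClosure A (FractionRing A) →ₗ[A] A :=
    { toFun := a
      map_add' := by
        intro x y
        apply hinj
        rw [map_add, ha, ha, ha]; push_cast; ring
      map_smul' := by
        intro c x
        apply hinj
        have h1 : ((c • x : integralClosure A (FractionRing A)) : FractionRing A) =
            algebraMap A (FractionRing A) c * (x : FractionRing A) := by
          rw [← Algebra.smul_def]; rfl
        rw [RingHom.id_apply, smul_eq_mul, map_mul, ha, ha, h1]; ring }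
  let ψ : integralClosure A (FractionRing A) →ₗ[A] A ⧸ Ideal.span {t} :=
    (Submodule.mkQ (Ideal.span {t})).comp ψ0
  have hψ : ∀ x, ψ x = Ideal.Quotient.mk (Ideal.span {t}) (a x) := fun x => rfl
  have h1 : LinearMap.range (Algebra.linearMap A (integralClosure A (FractionRing A))) ≤
      LinearMap.ker ψ := by
    rintro _ ⟨c, rfl⟩
    rw [LinearMap.mem_ker, hψ, Ideal.Quotient.eq_zero_iff_mem, Ideal.mem_span_singleton']
    refine ⟨c, ?_⟩
    apply hinj
    rw [ha, map_mul]
    rw [mul_comm]
    rfl
  have h2 : LinearMap.ker ψ ≤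
      LinearMap.range (Algebra.linearMap A (integralClosure A (FractionRing A))) := by
    intro x hx
    rw [LinearMap.mem_ker, hψ, Ideal.Quotient.eq_zero_iff_mem, Ideal.mem_span_singleton'] at hx
    obtain ⟨c, hc⟩ := hx
    refine ⟨c, ?_⟩
    apply Subtype.ext
    apply hunit.mul_left_cancel
    have h3 : ((Algebra.linearMap A (integralClosure A (FractionRing A)) c :
        integralClosure A (FractionRing A)) : FractionRing A) = algebraMap A (FractionRing A) c := rfl
    rw [h3, ← ha, ← hc, map_mul, mul_comm]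
  have h3 : Function.Injective
      ((LinearMap.range (Algebra.linearMap A (integralClosure A (FractionRing A)))).liftQ ψ h1) := by
    rw [← LinearMap.ker_eq_bot]
    exact Submodule.ker_liftQ_eq_bot _ _ h1 h2
  exact IsFiniteLength.of_injective (isFiniteLength_quotient_span_singleton A ht) h3


end Len


instance (p : MinP A) : IsIntegrallyClosed (D p) :=
  integralClosure.isIntegrallyClosedOfFiniteExtension (Kp p)

instance (p : MinP A) : IsDomain (D p) := inferInstance

lemma locAtPrime_A' [Finite (MinP A)] (P : Ideal (integralClosure A (FractionRing A))) [P.IsPrime] :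
    IsDomain (Localization.AtPrime P) ∧ IsIntegrallyClosed (Localization.AtPrime P) :=
  equiv_pi_locAtPrime (R := fun p : MinP A => D p) Ψ P

end Groth.Agent.H4.TotFrac
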