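import Groth.Agent.H4.Brn1
import Groth.Agent.H4.TotFrac
import Groth.Prelude.Def_Brnch
import Groth.Prelude.Def_EGA4b
set_option autoImplicit false
universe u v
open scoped nonZeroDivisors

namespace Groth.Agent.H4.Brn
open Groth.Agent.H4.TotFrac

variable (A : Type u) [CommRing A]

/-- `red (A/p) ≃ (red A)/q` for `q` a prime of `red A` with preimage `p` -/
noncomputable def redQuotEquiv (p : Ideal A) [p.IsPrime] (q : Ideal (A ⧸ nilradical A))
    (hq : q.comap (Ideal.Quotient.mk (nilradical A)) = p) :
    CAlg2.red (A ⧸ p) ≃+* (A ⧸ nilradical A) ⧸ q :=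
  equivOfKerEq ((Ideal.Quotient.mk (nilradical (A ⧸ p))).comp (Ideal.Quotient.mk p))
    ((Ideal.Quotient.mk q).comp (Ideal.Quotient.mk (nilradical A)))
    (Ideal.Quotient.mk_surjective.comp Ideal.Quotient.mk_surjective)
    (Ideal.Quotient.mk_surjective.comp Ideal.Quotient.mk_surjective)
    (by
      rw [← RingHom.comap_ker, ← RingHom.comap_ker, Ideal.mk_ker, Ideal.mk_ker, hq,
        nilradical_eq_zero, Ideal.zero_eq_bot, ← RingHom.ker_eq_comap_bot, Ideal.mk_ker])

variable [IsLocalRing A]

lemma numBranches_eq_of_finite (h : (minimalPrimes A).Finite) :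
    Brnch.numBranches A = ENat.card (MaximalSpectrum (CAlg2.normRed A)) := by
  rw [Brnch.numBranches, if_pos h]

lemma numBranches_domain [IsDomain A] :
    Brnch.numBranches A = ENat.card (MaximalSpectrum (CAlg2.normRed A)) := by
  apply numBranches_eq_of_finite
  rw [IsDomain.minimalPrimes_eq_singleton_bot]
  exact Set.finite_singleton _

lemma numBranches_quot (p : Ideal A) [p.IsPrime] (q : MinP (A ⧸ nilradical A))
    (hq : q.1.comap (Ideal.Quotient.mk (nilradical A)) = p) :
    Brnch.numBranches (A ⧸ p) = ENat.card (MaximalSpectrum (D q)) := by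
  rw [numBranches_domain]
  exact ENat.card_congr (maxSpecCongr (icEquiv (redQuotEquiv A p q.1 hq)))

end Groth.Agent.H4.Brn
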