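import Groth.Agent.H4.Brn2
set_option autoImplicit false
universe u v
open scoped nonZeroDivisors

namespace Groth.Agent.H4.Brn
open Groth.Agent.H4.TotFrac

lemma enat_card_eq_one_iff {α : Type*} : ENat.card α = 1 ↔ Nonempty α ∧ Subsingleton α := by
  constructor
  · intro h
    have hfin : Finite α := by
      by_contra hinf
      rw [not_finite_iff_infinite] at hinf
      rw [ENat.card_eq_top_of_infinite] at h
      exact ENat.top_ne_one h
    haveI := Fintype.ofFinite α
    rw [ENat.card_eq_coe_fintype_card, ← Nat.card_eq_fintype_card] at h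
    have h1 : Nat.card α = 1 := by exact_mod_cast h
    obtain ⟨h2, h3⟩ := Nat.card_eq_one_iff_unique.mp h1
    exact ⟨h3, h2⟩
  · rintro ⟨h1, h2⟩
    haveI : Unique α := ⟨⟨h1.some⟩, fun a => Subsingleton.elim _ _⟩
    rw [ENat.card_eq_coe_fintype_card]
    simp

/-- a nontrivial reduced ring with at most one minimal prime is a domain -/
lemma isDomain_of_subsingleton_minP (R : Type*) [CommRing R] [IsReduced R] [Nontrivial R]
    [Subsingleton (MinP R)] : IsDomain R := by
  obtain ⟨m, hm⟩ := Ideal.exists_maximal R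
  obtain ⟨p, hp, -⟩ := Ideal.exists_minimalPrimes_le (I := (⊥ : Ideal R)) (J := m) bot_le
  have hp' : p ∈ minimalPrimes R := hp
  have hbot : p = ⊥ := by
    rw [eq_bot_iff]
    intro a ha
    apply eq_zero_of_forall_mem
    intro q
    rw [Subsingleton.elim q ⟨p, hp'⟩]
    exact ha
  haveI : (⊥ : Ideal R).IsPrime := hbot ▸ hp'.1.1
  exact IsDomain.of_bot_isPrime R

lemma finite_minimalPrimes_of_isDomain_red (A : Type u) [CommRing A] [IsDomain (CAlg2.red A)] :
    (minimalPrimes A).Finite := by
  rw [minimalPrimes_eq_comap_red, IsDomain.minimalPrimes_eq_singleton_bot]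
  exact (Set.finite_singleton _).image _

end Groth.Agent.H4.Brn
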