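import Mathlib
set_option autoImplicit false
universe u v
open scoped nonZeroDivisors

namespace Groth.Agent.H4.Brn

section LemmaG

variable {A B Ω : Type*} [CommRing A] [IsLocalRing A] [CommRing B] [Algebra A B]
  [Field Ω] (ι : A →+* Ω)

open IsLocalRing


/-- `length_A (B/mB) ≤ length_A (B/A) + 1` -/
lemma length_quot_map_le :
    Module.length A (B ⧸ (maximalIdeal A).map (algebraMap A B)) ≤
      Module.length A (B ⧸ LinearMap.range (Algebra.linearMap A B)) + 1 := by
  set C := B ⧸ (maximalIdeal A).map (algebraMap A B) with hC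
  let g : A →ₗ[A] C := Algebra.linearMap A C
  have hg : maximalIdeal A ≤ LinearMap.ker g := by
    intro a ha
    rw [LinearMap.mem_ker]
    change algebraMap A C a = 0
    rw [IsScalarTower.algebraMap_apply A B C]
    exact Ideal.Quotient.eq_zero_iff_mem.mpr (Ideal.mem_map_of_mem _ ha)
  let g' : (A ⧸ maximalIdeal A) →ₗ[A] C := Submodule.liftQ (maximalIdeal A) g hg
  let N : Submodule A C := LinearMap.range g'
  have h1 : Module.length A C = Module.length A N + Module.length A (C ⧸ N) :=
    Module.length_eq_add_of_exact N.subtype N.mkQ N.injective_subtype N.mkQ_surjective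
      (LinearMap.exact_subtype_mkQ N)
  have h2 : Module.length A N ≤ 1 := by
    haveI : IsSimpleModule A (A ⧸ maximalIdeal A) :=
      isSimpleModule_iff_isCoatom.mpr (Ideal.isMaximal_def.mp inferInstance)
    calc Module.length A N ≤ Module.length A (A ⧸ maximalIdeal A) :=
          Module.length_le_of_surjective g'.rangeRestrict g'.surjective_rangeRestrict
      _ = 1 := Module.length_eq_one _ _
  have h3 : Module.length A (C ⧸ N) ≤
      Module.length A (B ⧸ LinearMap.range (Algebra.linearMap A B)) := by
    let π : B →ₗ[A] C := (Ideal.Quotient.mkₐ A ((maximalIdeal A).map (algebraMap A B))).toLinearMap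
    have hπ : LinearMap.range (Algebra.linearMap A B) ≤ N.comap π := by
      rintro _ ⟨a, rfl⟩
      rw [Submodule.mem_comap]
      refine ⟨Submodule.Quotient.mk a, ?_⟩
      rfl
    apply Module.length_le_of_surjective (Submodule.mapQ _ N π hπ)
    intro y
    obtain ⟨c, rfl⟩ := N.mkQ_surjective y
    obtain ⟨b, rfl⟩ := Ideal.Quotient.mk_surjective c
    exact ⟨Submodule.Quotient.mk b, rfl⟩
  rw [h1, add_comm]
  exact add_le_add h3 h2

lemma card_hom_le [Module.Finite A B] (hι : RingHom.ker ι = maximalIdeal A) :
    ENat.card {τ : B →+* Ω // τ.comp (algebraMap A B) = ι} ≤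
      Module.length A (B ⧸ (maximalIdeal A).map (algebraMap A B)) := by
  set C := B ⧸ (maximalIdeal A).map (algebraMap A B) with hC
  letI : Field (A ⧸ maximalIdeal A) := Ideal.Quotient.field _
  letI : Algebra (A ⧸ maximalIdeal A) Ω :=
    (Ideal.Quotient.lift (maximalIdeal A) ι (fun a ha => by rw [← hι] at ha; exact ha)).toAlgebra
  have halg : ∀ a : A, algebraMap (A ⧸ maximalIdeal A) Ω (Ideal.Quotient.mk _ a) = ι a := fun a => rfl
  haveI : Module.Finite (A ⧸ maximalIdeal A) C := Module.Finite.of_restrictScalars_finite A _ _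
  -- the map to algebra homs
  have hker : ∀ τ : {τ : B →+* Ω // τ.comp (algebraMap A B) = ι},
      ∀ b ∈ (maximalIdeal A).map (algebraMap A B), τ.1 b = 0 := by
    intro τ
    have h1 : (maximalIdeal A).map (algebraMap A B) ≤ RingHom.ker τ.1 := by
      rw [Ideal.map_le_iff_le_comap, RingHom.comap_ker, τ.2, hι]
    exact fun b hb => h1 hb
  let F : {τ : B →+* Ω // τ.comp (algebraMap A B) = ι} → (C →ₐ[A ⧸ maximalIdeal A] Ω) := fun τ =>
    { Ideal.Quotient.lift _ τ.1 (hker τ) with
      commutes' := by
        intro r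
        obtain ⟨a, rfl⟩ := Ideal.Quotient.mk_surjective r
        rw [halg]
        have : algebraMap (A ⧸ maximalIdeal A) C (Ideal.Quotient.mk _ a) =
            Ideal.Quotient.mk _ (algebraMap A B a) := rfl
        simp only [RingHom.toMonoidHom_eq_coe, OneHom.toFun_eq_coe, MonoidHom.toOneHom_coe,
          MonoidHom.coe_coe, this, Ideal.Quotient.lift_mk]
        exact congrFun (congrArg DFunLike.coe τ.2) a }
  have hF : Function.Injective F := by
    intro τ1 τ2 h
    apply Subtype.ext
    ext b
    have := congrFun (congrArg DFunLike.coe h) (Ideal.Quotient.mk _ b)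
    exact this
  calc ENat.card {τ : B →+* Ω // τ.comp (algebraMap A B) = ι}
      ≤ ENat.card (C →ₐ[A ⧸ maximalIdeal A] Ω) := ENat.card_le_card_of_injective hF
    _ = (Nat.card (C →ₐ[A ⧸ maximalIdeal A] Ω) : ℕ∞) := by
        haveI := Fintype.ofFinite (C →ₐ[A ⧸ maximalIdeal A] Ω)
        rw [ENat.card_eq_coe_fintype_card, Nat.card_eq_fintype_card]
    _ ≤ (Module.finrank (A ⧸ maximalIdeal A) C : ℕ∞) := by
        exact_mod_cast card_algHom_le_finrank (A ⧸ maximalIdeal A) C Ω
    _ = Module.length (A ⧸ maximalIdeal A) C := (Module.length_eq_finrank _ _).symm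
    _ = Module.length A C :=
        (Module.length_eq_of_surjective (S := A) (R := A ⧸ maximalIdeal A) (M := C)
          Ideal.Quotient.mk_surjective).symm


end LemmaG

end Groth.Agent.H4.Brn
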