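import Mathlib
import Groth.Agent.H4.US4
import Groth.Agent.H4.DZ6

set_option autoImplicit false
universe u
open CategoryTheory Category Limits Pretriangulated TensorProduct MonoidalCategory

namespace Groth.Agent.H4.US5

attribute [local instance] HasDerivedCategory.standard

open DRing DerivedCategory Groth.Agent.H4.FB2 Groth.Agent.H4.US1 Groth.Agent.H4.DZ6

section killed

variable {A : Type u} [CommRing A] [IsLocalRing A]

/-- vanishing of `Hom(κ^r, Y)`. -/
lemma subsingleton_hom_pi (Y : Dual.D A)
    (hκ : Subsingleton (Dual.inD A (A ⧸ IsLocalRing.maximalIdeal A) ⟶ Y)) :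
    ∀ r : ℕ, Subsingleton (Dual.inD A (Fin r → A ⧸ IsLocalRing.maximalIdeal A) ⟶ Y) := by
  intro r
  induction r with
  | zero =>
    have hz : IsZero (Dual.inD A (Fin 0 → A ⧸ IsLocalRing.maximalIdeal A)) :=
      (singleFunctor (ModuleCat.{u} A) 0).map_isZero (ModuleCat.isZero_of_subsingleton _)
    exact ⟨fun f g => hz.eq_of_src f g⟩
  | succ r ih =>
    let κ := A ⧸ IsLocalRing.maximalIdeal A
    let f : κ →ₗ[A] (Fin (r + 1) → κ) := LinearMap.single A (fun _ : Fin (r + 1) => κ) 0
    let g : (Fin (r + 1) → κ) →ₗ[A] (Fin r → κ) := LinearMap.funLeft A κ Fin.succ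
    refine subsingleton_hom_of_exact Y κ (Fin (r + 1) → κ) (Fin r → κ) f g ?_ ?_ ?_ hκ ih
    · exact Pi.single_injective (M := fun _ : Fin (r + 1) => κ) 0
    · intro w
      refine ⟨Fin.cons 0 w, ?_⟩
      funext j
      change (Fin.cons 0 w : Fin (r + 1) → κ) (Fin.succ j) = w j
      rw [Fin.cons_succ]
    · intro v
      constructor
      · intro hv
        refine ⟨v 0, ?_⟩
        funext i
        change (Pi.single 0 (v 0) : Fin (r + 1) → κ) i = v i
        induction i using Fin.cases with
        | zero => rw [Pi.single_eq_same]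
        | succ j =>
          rw [Pi.single_eq_of_ne (Fin.succ_ne_zero j)]
          exact (congrFun hv j).symm
      · rintro ⟨x, rfl⟩
        funext j
        change (Pi.single 0 x : Fin (r + 1) → κ) (Fin.succ j) = 0
        rw [Pi.single_eq_of_ne (Fin.succ_ne_zero j)]

/-- vanishing of `Hom(M, Y)` for finite modules killed by the maximal ideal. -/
theorem subsingleton_hom_of_killed (Y : Dual.D A)
    (hκ : Subsingleton (Dual.inD A (IsLocalRing.ResidueField A) ⟶ Y))
    (M : Type u) [AddCommGroup M] [Module A M] [Module.Finite A M]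
    (hM : ∀ a ∈ IsLocalRing.maximalIdeal A, ∀ x : M, a • x = 0) :
    Subsingleton (Dual.inD A M ⟶ Y) := by
  have hT : Module.IsTorsionBySet A M (IsLocalRing.maximalIdeal A : Set A) :=
    fun x a => hM a.1 a.2 x
  letI := hT.module
  letI : Field (A ⧸ IsLocalRing.maximalIdeal A) := Ideal.Quotient.field _
  haveI : IsScalarTower A (A ⧸ IsLocalRing.maximalIdeal A) M := hT.isScalarTower
  haveI : Module.Finite (A ⧸ IsLocalRing.maximalIdeal A) M :=
    Module.Finite.of_restrictScalars_finite A _ M
  let bas := Module.finBasis (A ⧸ IsLocalRing.maximalIdeal A) M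
  let e : M ≃ₗ[A] (Fin (Module.finrank (A ⧸ IsLocalRing.maximalIdeal A) M) →
      A ⧸ IsLocalRing.maximalIdeal A) := bas.equivFun.restrictScalars A
  exact subsingleton_hom_of_linearEquiv Y e (subsingleton_hom_pi Y hκ _)

end killed

section main

variable {A : Type u} [CommRing A] {B : Type u} [CommRing B] [Algebra A B]
  (R : Dual.D A ⥤ Dual.D B) (adj : Res A B ⊣ R)

include adj in
theorem isNormalized [IsLocalRing A] [IsLocalRing B] [IsLocalHom (algebraMap A B)]
    [Module.Finite A B] (ω : Dual.D A) (hn : Dual.IsNormalized A ω) :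
    Dual.IsNormalized B (R.obj ω) := by
  intro i hi
  let N : ModuleCat.{u} B := ModuleCat.of B (IsLocalRing.ResidueField B)
  let p : B →ₗ[A] ((ModuleCat.restrictScalars.{u} (algebraMap A B)).obj N) :=
    { toFun := fun b => (IsLocalRing.residue B b : IsLocalRing.ResidueField B)
      map_add' := fun b b' => map_add (IsLocalRing.residue B) b b'
      map_smul' := fun a b => by
        change IsLocalRing.residue B (a • b) =
          algebraMap A B a • (IsLocalRing.residue B b : IsLocalRing.ResidueField B)
        rw [Algebra.smul_def, map_mul]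
        rfl }
  have hp : Function.Surjective p := IsLocalRing.residue_surjective
  haveI : Module.Finite A ((ModuleCat.restrictScalars.{u} (algebraMap A B)).obj N) :=
    Module.Finite.of_surjective p hp
  have hM : ∀ a ∈ IsLocalRing.maximalIdeal A,
      ∀ x : ((ModuleCat.restrictScalars.{u} (algebraMap A B)).obj N), a • x = 0 := by
    intro a ha x
    obtain ⟨b, rfl⟩ := hp x
    change algebraMap A B a • (IsLocalRing.residue B b : IsLocalRing.ResidueField B) = 0
    have h1 : algebraMap A B a ∈ IsLocalRing.maximalIdeal B :=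
      _root_.map_nonunit (algebraMap A B) a ha
    rw [Algebra.smul_def]
    have h2 : algebraMap B (IsLocalRing.ResidueField B) (algebraMap A B a) = 0 :=
      (IsLocalRing.residue_eq_zero_iff _).2 h1
    rw [h2, zero_mul]
  haveI := subsingleton_hom_of_killed (ω⟦i⟧) (hn i hi)
    ((ModuleCat.restrictScalars.{u} (algebraMap A B)).obj N) hM
  exact (extAddEquiv R adj N ω i).subsingleton

include adj in
theorem S1773 [IsLocalRing A] [IsLocalRing B] [IsLocalHom (algebraMap A B)]
    [IsNoetherianRing A] [IsNoetherianRing B] [Module.Finite A B] (ω : Dual.D A)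
    (hω : Dual.IsDualizing A ω) (hn : Dual.IsNormalized A ω) :
    Dual.IsDualizing B (R.obj ω) ∧ Dual.IsNormalized B (R.obj ω) :=
  ⟨Groth.Agent.H4.US4.S1772 R adj ω hω, isNormalized R adj ω hn⟩

end main

end Groth.Agent.H4.US5
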