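import Mathlib
import Groth.Agent.H4.US5
import Groth.Agent.H4.FB3
import Groth.Agent.H4.DZ4

set_option autoImplicit false
universe u
open CategoryTheory Category Limits Pretriangulated TensorProduct

namespace Groth.Agent.H4.US7

attribute [local instance] HasDerivedCategory.standard

open DRing DerivedCategory Groth.Agent.H4.FB2 Groth.Agent.H4.US1 Groth.Agent.H4.DZ6
  Groth.Agent.H4.US5 Groth.Agent.H4.DCompl1

section nilp

variable {A : Type u} [CommRing A] [IsLocalRing A] [IsNoetherianRing A]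

/-- vanishing of `Hom(M, Y)` for finite modules killed by a power of the maximal ideal. -/
theorem subsingleton_hom_of_pow_killed (Y : Dual.D A)
    (hκ : Subsingleton (Dual.inD A (IsLocalRing.ResidueField A) ⟶ Y)) :
    ∀ (k : ℕ) (M : Type u) [AddCommGroup M] [Module A M] [Module.Finite A M],
      (∀ a ∈ (IsLocalRing.maximalIdeal A) ^ k, ∀ x : M, a • x = 0) →
      Subsingleton (Dual.inD A M ⟶ Y) := by
  intro k
  induction k with
  | zero =>
    intro M _ _ _ hM
    haveI : Subsingleton M := ⟨fun x y => by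
      have hx := hM 1 (by rw [pow_zero, Ideal.one_eq_top]; trivial) x
      have hy := hM 1 (by rw [pow_zero, Ideal.one_eq_top]; trivial) y
      rw [one_smul] at hx hy
      rw [hx, hy]⟩
    have hz : IsZero (Dual.inD A M) :=
      (singleFunctor (ModuleCat.{u} A) 0).map_isZero (ModuleCat.isZero_of_subsingleton _)
    exact ⟨fun f g => hz.eq_of_src f g⟩
  | succ k ih =>
    intro M _ _ _ hM
    haveI : IsNoetherian A M := isNoetherian_of_isNoetherianRing_of_finite A M
    let m := IsLocalRing.maximalIdeal A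
    let N : Submodule A M := (m ^ k) • (⊤ : Submodule A M)
    have hN : ∀ a ∈ m, ∀ y : N, a • y = 0 := by
      intro a ha ⟨y, hy⟩
      apply Subtype.ext
      change a • y = 0
      refine Submodule.smul_induction_on hy ?_ ?_
      · intro b hb x _
        rw [← mul_smul]
        exact hM _ (by rw [pow_succ']; exact Ideal.mul_mem_mul ha hb) x
      · intro x y hx hy
        rw [smul_add, hx, hy, add_zero]
    have hQ : ∀ a ∈ m ^ k, ∀ z : M ⧸ N, a • z = 0 := by
      intro a ha z
      obtain ⟨x, rfl⟩ := Submodule.Quotient.mk_surjective N z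
      rw [← Submodule.Quotient.mk_smul, Submodule.Quotient.mk_eq_zero]
      exact Submodule.smul_mem_smul ha Submodule.mem_top
    have h1 := subsingleton_hom_of_killed Y hκ N hN
    have h3 := ih (M ⧸ N) hQ
    refine subsingleton_hom_of_exact Y N M (M ⧸ N) N.subtype N.mkQ N.injective_subtype
      (Submodule.mkQ_surjective N) ?_ h1 h3
    intro x
    rw [Submodule.mkQ_apply, Submodule.Quotient.mk_eq_zero]
    constructor
    · intro hx
      exact ⟨⟨x, hx⟩, rfl⟩
    · rintro ⟨y, rfl⟩
      exact y.2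

omit [IsLocalRing A] [IsNoetherianRing A] in
/-- `H^i(K) ≃ Hom(A[0], K[i])`. -/
theorem nonempty_HD_equiv (K : Dual.D A) (i : ℤ) :
    Nonempty (Dual.HD A K i ≃ₗ[A] (Dual.inD A A ⟶ K⟦i⟧)) := by
  obtain ⟨e1⟩ := nonempty_homG_equiv i K
  let e2 : (G A i ⟶ K) ≃ₗ[A] ((Dual.inD A A)⟦-i⟧ ⟶ K) :=
    Groth.Agent.H4.DZ2.isoHomLinEquiv
      (((singleFunctors (ModuleCat.{u} A)).shiftIso (-i) i 0 (by simp)).app
        (ModuleCat.of A A)).symm _
  let e5 : ((Dual.inD A A)⟦-i⟧ ⟶ K) ≃ₗ[A] (Dual.inD A A ⟶ K⟦i⟧) :=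
    Groth.Agent.H4.DZ2.shiftHomLinEquiv (Dual.inD A A) K (-i) i (by simp)
  exact ⟨e1.symm ≪≫ₗ e2 ≪≫ₗ e5⟩

/-- over a local Noetherian ring with nilpotent maximal ideal, a dualizing complex has exactly
one nonzero cohomology module. -/
theorem exists_unique_degree (k : ℕ) (hk : (IsLocalRing.maximalIdeal A) ^ k = ⊥)
    (ω : Dual.D A) (hω : Dual.IsDualizing A ω) :
    ∃ n : ℤ, (∀ i : ℤ, i ≠ n → Subsingleton (Dual.HD A ω i)) ∧ Nontrivial (Dual.HD A ω n) := by
  obtain ⟨n, h1, -⟩ := Groth.Agent.H4.DZ4.S0364 A ω hω (IsLocalRing.maximalIdeal A)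
  have hv : ∀ i : ℤ, i ≠ n → Subsingleton (Dual.HD A ω i) := by
    intro i hi
    have h2 : Subsingleton (Dual.inD A (IsLocalRing.ResidueField A) ⟶ ω⟦i⟧) := h1 i hi
    haveI := subsingleton_hom_of_pow_killed (ω⟦i⟧) h2 k A (by
      intro a ha x
      rw [hk, Ideal.mem_bot] at ha
      rw [ha, zero_smul])
    obtain ⟨e⟩ := nonempty_HD_equiv ω i
    exact e.subsingleton
  refine ⟨n, hv, ?_⟩
  by_contra hcon
  rw [not_nontrivial_iff_subsingleton] at hcon
  have hz : IsZero ω := by
    refine Groth.Agent.H4.DZ4.isZero_of_forall_subsingleton_HD ω (fun i => ?_)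
    by_cases hi : i = n
    · subst hi; exact hcon
    · exact hv i hi
  have h01 : (1 : A) = 0 := by
    apply hω.toEnd_bijective.1
    exact hz.eq_of_src _ _
  exact one_ne_zero h01

end nilp

section main

variable (A : Type u) [CommRing A] [IsNoetherianRing A]

theorem S1762 (ω : Dual.D A) (hω : Dual.IsDualizing A ω) (p : Ideal A)
    (hp : p ∈ minimalPrimes A) :
    ∃! i : ℤ, Nontrivial (LocalizedModule (Ideal.primeCompl p (hp := hp.1.1))
      (Dual.HD A ω i)) := by
  haveI := hp.1.1
  let S := p.primeCompl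
  let A' := Localization S
  haveI : IsNoetherianRing A' := IsLocalization.isNoetherianRing S A' inferInstance
  haveI : IsLocalRing A' := inferInstanceAs (IsLocalRing (Localization.AtPrime p))
  haveI : Ring.KrullDimLE 0 A' :=
    Ring.KrullDimLE.of_isLocalization p hp (Localization.AtPrime p)
  obtain ⟨k, hk⟩ := IsNoetherianRing.isNilpotent_nilradical A'
  have hk' : (IsLocalRing.maximalIdeal A') ^ k = ⊥ := by
    rw [← Ring.KrullDimLE.nilradical_eq_maximalIdeal, hk, Ideal.zero_eq_bot]
  have hω' := Groth.Agent.H4.FB3.isDualizing_E_localization A S ω hω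
  obtain ⟨n, h1, h2⟩ := exists_unique_degree k hk' _ hω'
  -- comparison of cohomology
  have e : ∀ i : ℤ, Dual.HD A' ((E A A').obj ω) i ≃ LocalizedModule S (Dual.HD A ω i) := by
    intro i
    let e1 := (homologyEIso (B := A') ω i).toLinearEquiv
    let e2 := Groth.Agent.H8.ExtBridge.extEquiv (B := A')
      ((homologyFunctor (ModuleCat.{u} A) i).obj ω)
    let e3 := (IsLocalizedModule.isBaseChange S A'
      (LocalizedModule.mkLinearMap S (Dual.HD A ω i))).equiv
    exact (e1.toEquiv.trans e2.toEquiv).trans e3.toEquiv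
  refine ⟨n, (e n).nontrivial_congr.1 h2, ?_⟩
  intro i hi
  by_contra hne
  haveI := h1 i hne
  have := (e i).nontrivial_congr.2 hi
  exact not_subsingleton _ ‹Subsingleton (Dual.HD A' ((E A A').obj ω) i)›

end main

end Groth.Agent.H4.US7
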