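import Mathlib
import Groth.Agent.H4.DZ5
import Groth.Agent.H4.DZ6
import Groth.Agent.H4.US7
import Groth.Agent.S0319

set_option autoImplicit false
universe u
open CategoryTheory Category Limits Pretriangulated

namespace Groth.Agent.H4.US8

attribute [local instance] HasDerivedCategory.standard
attribute [local instance] Groth.Agent.H4.LK4.hasLTen Groth.Agent.H4.LK5.hasLTen₃
  Groth.Agent.H4.KI7.isSymMonoidal Groth.Agent.H4.KI6.hasRHom

open DRing DTen DerivedCategory Groth.Agent.H4.DThick Groth.Agent.H4.DCompl1 Groth.Agent.H4.CF1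
  Groth.Agent.H4.InjAmp Groth.Agent.H4.DZ1 Groth.Agent.H4.DZ2 Groth.Agent.H4.DZ3 Groth.Agent.H4.DZ4
  Groth.Agent.H4.DZ5 Groth.Agent.H4.ProjAmp

variable {A : Type u} [CommRing A] [IsLocalRing A] [IsNoetherianRing A]

/-- maps from the dual of `K` to `κ[-t]`. -/
theorem nonempty_hom_dual_Sk_equiv (K ω' : Dual.D A)
    (hK : ∀ i : ℤ, Module.Finite A (Dual.HD A K i))
    (hω' : Dual.IsDualizing A ω') (n' : ℤ) (hn' : ExtData ω' n') (t s : ℤ)
    (hs : s = (0 : ℤ) + (n' - t)) :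
    Nonempty (((RHomR A K).obj ω' ⟶ Sk A t) ≃ₗ[A] (Sk A 0 ⟶ K⟦s⟧)) := by
  subst hs
  let L := (RHomR A K).obj ω'
  let X := (RHomR A (Sk A t)).obj ω'
  obtain ⟨bid⟩ := Groth.Agent.H4.DZ3.nonempty_bidual_iso ω' hω' (Sk A t) (finite_HD_Sk t)
  obtain ⟨bidω⟩ := Groth.Agent.H4.DZ3.nonempty_bidual_iso ω' hω' K hK
  obtain ⟨eX⟩ := nonempty_dual_Sk_iso ω' n' hn' t
  obtain ⟨eg⟩ := nonempty_hom_Sk_equiv K (n' - t) 0
  let ea : (L ⟶ Sk A t) ≃ₗ[A] (L ⟶ (RHomR A X).obj ω') := homIsoLinEquiv L bid.symm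
  let eb : ((tensorRightD A X).obj L ⟶ ω') ≃ₗ[A] (L ⟶ (RHomR A X).obj ω') :=
    homLinEquiv (rhomAdj A X) (good_RHomR X).lin L ω'
  haveI := Groth.Agent.H4.LK4.isIso_symm_app X L
  let σ : (tensorRightD A X).obj L ≅ (tensorRightD A L).obj X :=
    asIso ((DTen.symm A).app (X, L))
  let ec : ((tensorRightD A X).obj L ⟶ ω') ≃ₗ[A] ((tensorRightD A L).obj X ⟶ ω') :=
    isoHomLinEquiv σ ω'
  let ed : ((tensorRightD A L).obj X ⟶ ω') ≃ₗ[A] (X ⟶ (RHomR A L).obj ω') :=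
    homLinEquiv (rhomAdj A L) (good_RHomR L).lin X ω'
  let ee : (X ⟶ (RHomR A L).obj ω') ≃ₗ[A] (X ⟶ K) := homIsoLinEquiv X bidω
  let ef : (X ⟶ K) ≃ₗ[A] (Sk A (n' - t) ⟶ K) := isoHomLinEquiv eX K
  let eh : (Sk A (n' - t) ⟶ K) ≃ₗ[A] (Sk A (n' - t) ⟶ K⟦(0 : ℤ)⟧) :=
    homIsoLinEquiv _ ((CategoryTheory.shiftFunctorZero (Dual.D A) ℤ).app K).symm
  exact ⟨((((((ea.trans eb.symm).trans ec).trans ed).trans ee).trans ef).trans eh).trans eg⟩

section main

variable (ω : Dual.D A) (hω : Dual.IsDualizing A ω) (hn : Dual.IsNormalized A ω)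

include hω hn in
/-- a normalized dualizing complex has `Ext^i(κ, ω)` concentrated in degree `0`. -/
lemma extData_zero : ExtData ω 0 := by
  obtain ⟨n, hn'⟩ := exists_extData ω hω
  have h0 : n = 0 := by
    by_contra h
    have h1 : Subsingleton (Sk A 0 ⟶ ω⟦n⟧) := hn n h
    obtain ⟨e⟩ := hn'.top n rfl
    haveI : Subsingleton (A ⧸ IsLocalRing.maximalIdeal A) := e.symm.subsingleton
    haveI : Nontrivial (A ⧸ IsLocalRing.maximalIdeal A) :=
      Ideal.Quotient.nontrivial_iff.2 (IsLocalRing.maximalIdeal.isMaximal A).ne_top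
    exact not_subsingleton (A ⧸ IsLocalRing.maximalIdeal A) inferInstance
  subst h0
  exact hn'

variable (M : Type u) [AddCommGroup M] [Module A M] [Module.Finite A M] [Nontrivial M]

omit [IsNoetherianRing A] in
lemma maximalIdeal_smul_top_ne_top :
    IsLocalRing.maximalIdeal A • (⊤ : Submodule A M) ≠ ⊤ := by
  intro h
  have h2 := Submodule.eq_bot_of_le_smul_of_le_jacobson_bot (IsLocalRing.maximalIdeal A)
    (⊤ : Submodule A M) Module.Finite.fg_top (le_of_eq h.symm)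
    (by rw [IsLocalRing.jacobson_eq_maximalIdeal ⊥ bot_ne_top])
  haveI : Subsingleton M := by
    refine ⟨fun x y => ?_⟩
    have hx : x ∈ (⊤ : Submodule A M) := trivial
    have hy : y ∈ (⊤ : Submodule A M) := trivial
    rw [h2, Submodule.mem_bot] at hx hy
    rw [hx, hy]
  exact not_subsingleton M inferInstance

include hω hn in
/-- **S0367.** -/
theorem depth_eq_iff (n : ℕ) :
    LocCoh.depth A M = n ↔ ((∀ δ : ℕ, δ < n → Subsingleton (Dual.inD A M ⟶ ω⟦(-(δ : ℤ))⟧)) ∧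
      Nontrivial (Dual.inD A M ⟶ ω⟦(-(n : ℤ))⟧)) := by
  let L := (RHomR A (Dual.inD A M)).obj ω
  have hfinM : ∀ i : ℤ, Module.Finite A (Dual.HD A (Dual.inD A M) i) := finite_HD_inD M
  have hfinL : ∀ i : ℤ, Module.Finite A (Dual.HD A L i) := finite_HD_RHomR ω hω _ hfinM
  have hLext : ∀ j : ℤ, Nonempty (Dual.HD A L j ≃ₗ[A] (Dual.inD A M ⟶ ω⟦j⟧)) :=
    fun j => nonempty_extLinEquiv (Dual.inD A M) ω j
  have hpos : ∀ j : ℤ, 0 < j → Subsingleton (Dual.HD A L j) := by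
    intro j hj
    obtain ⟨e⟩ := hLext j
    haveI := Groth.Agent.H4.DZ6.subsingleton_ext_of_pos ω hω hn j hj M
    exact e.subsingleton
  have hLne : ¬ IsZero L := by
    intro hz
    obtain ⟨e⟩ := nonempty_hom_dual_equiv ω hω (Dual.inD A M) hfinM 0
    obtain ⟨e0⟩ := nonempty_HD_inD_zero (A := A) M
    haveI : Subsingleton (L ⟶ ω⟦(0 : ℤ)⟧) := ⟨fun f g => hz.eq_of_src f g⟩
    haveI : Subsingleton M := (e0.symm.trans e.symm).subsingleton
    exact not_subsingleton M inferInstance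
  obtain ⟨t, hLE, hnt⟩ := exists_top_degree L 0
    (fun i hi => by haveI := hpos i hi; exact ModuleCat.isZero_of_subsingleton _) hLne
  haveI := hLE
  have ht0 : t ≤ 0 := by
    by_contra h
    haveI := hpos t (by omega)
    exact not_subsingleton _ ‹Subsingleton (Dual.HD A L t)›
  have hdata := extData_zero ω hω hn
  -- `Ext^i(κ, M) ≃ Hom(L, κ[i])`
  have key : ∀ i : ℕ, Nonempty (Abelian.Ext (ModuleCat.of A (A ⧸ IsLocalRing.maximalIdeal A))
      (ModuleCat.of A M) i ≃ (L ⟶ Sk A (-(i : ℤ)))) := by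
    intro i
    obtain ⟨e⟩ := nonempty_hom_dual_Sk_equiv (Dual.inD A M) ω hfinM hω 0 hdata (-(i : ℤ)) (i : ℤ)
      (by omega)
    exact ⟨(Abelian.Ext.homEquiv (X := ModuleCat.of A (A ⧸ IsLocalRing.maximalIdeal A))
      (Y := ModuleCat.of A M) (n := i)).trans e.symm.toEquiv⟩
  -- the depth
  have hdepth : LocCoh.depth A M = ((-t).toNat : ℕ) := by
    change LocCoh.idealDepth (IsLocalRing.maximalIdeal A) M = _
    rw [Groth.Agent.S0319.result A (IsLocalRing.maximalIdeal A) M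
      (maximalIdeal_smul_top_ne_top M) (-t).toNat]
    constructor
    · intro i hi
      obtain ⟨e⟩ := key i
      haveI : Subsingleton (L ⟶ Sk A (-(i : ℤ))) :=
        ⟨fun f g => ((tR A).zero f t (-(i : ℤ)) (by omega)).trans
          ((tR A).zero g t (-(i : ℤ)) (by omega)).symm⟩
      exact e.subsingleton
    · obtain ⟨e⟩ := key (-t).toNat
      have h1 : (-(((-t).toNat : ℕ) : ℤ)) = t := by omega
      rw [h1] at e
      haveI : Module.Finite A ((homologyFunctor (ModuleCat.{u} A) t).obj L) := hfinL t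
      obtain ⟨f, hf⟩ := exists_ne_zero_hom_Sk t L
      haveI : Nontrivial (L ⟶ Sk A t) := ⟨⟨f, 0, hf⟩⟩
      exact e.nontrivial
  have hH : ∀ j : ℤ, t < j → Subsingleton (Dual.inD A M ⟶ ω⟦j⟧) := by
    intro j hj
    obtain ⟨e⟩ := hLext j
    haveI := ModuleCat.subsingleton_of_isZero (isZero_of_isLE L t j hj)
    exact e.symm.subsingleton
  have hHt : Nontrivial (Dual.inD A M ⟶ ω⟦t⟧) := by
    obtain ⟨e⟩ := hLext t
    exact e.symm.nontrivial
  constructor
  · intro h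
    rw [hdepth] at h
    have hn0 : (-t).toNat = n := by exact_mod_cast h
    subst hn0
    refine ⟨fun δ hδ => hH _ (by omega), ?_⟩
    have h1 : (-(((-t).toNat : ℕ) : ℤ)) = t := by omega
    rw [h1]
    exact hHt
  · rintro ⟨h1, h2⟩
    rw [hdepth]
    have hle : -(n : ℤ) ≤ t := by
      by_contra h
      haveI := hH (-(n : ℤ)) (by omega)
      exact not_subsingleton _ ‹Subsingleton (Dual.inD A M ⟶ ω⟦(-(n : ℤ))⟧)›
    have hge : ¬ ((-t).toNat < n) := by
      intro h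
      haveI := h1 (-t).toNat h
      have h3 : (-(((-t).toNat : ℕ) : ℤ)) = t := by omega
      rw [h3] at this
      exact not_subsingleton _ this
    have : (-t).toNat = n := by omega
    rw [this]

include hω hn in
/-- **S0365.** -/
theorem depth_self_eq_iff (n : ℕ) :
    LocCoh.depth A A = n ↔ ((∀ δ : ℕ, δ < n → Subsingleton (Dual.HD A ω (-(δ : ℤ)))) ∧
      Nontrivial (Dual.HD A ω (-(n : ℤ)))) := by
  rw [depth_eq_iff ω hω hn A n]
  have he : ∀ j : ℤ, Nonempty (Dual.HD A ω j ≃ₗ[A] (Dual.inD A A ⟶ ω⟦j⟧)) :=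
    fun j => Groth.Agent.H4.US7.nonempty_HD_equiv ω j
  constructor
  · rintro ⟨h1, h2⟩
    refine ⟨fun δ hδ => ?_, ?_⟩
    · obtain ⟨e⟩ := he (-(δ : ℤ))
      haveI := h1 δ hδ
      exact e.subsingleton
    · obtain ⟨e⟩ := he (-(n : ℤ))
      exact e.nontrivial
  · rintro ⟨h1, h2⟩
    refine ⟨fun δ hδ => ?_, ?_⟩
    · obtain ⟨e⟩ := he (-(δ : ℤ))
      haveI := h1 δ hδ
      exact e.symm.subsingleton
    · obtain ⟨e⟩ := he (-(n : ℤ))
      exact e.symm.nontrivial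

end main

end Groth.Agent.H4.US8
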