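import Mathlib
import Groth.Agent.H4.DZ6
import Groth.Agent.H4.US8

set_option autoImplicit false
universe u
open CategoryTheory Category Limits Pretriangulated

namespace Groth.Agent.H4.US9

attribute [local instance] HasDerivedCategory.standard
attribute [local instance] Groth.Agent.H4.LK4.hasLTen Groth.Agent.H4.LK5.hasLTen₃
  Groth.Agent.H4.KI7.isSymMonoidal Groth.Agent.H4.KI6.hasRHom

open DRing DTen DerivedCategory Groth.Agent.H4.DThick Groth.Agent.H4.DCompl1 Groth.Agent.H4.CF1
  Groth.Agent.H4.InjAmp Groth.Agent.H4.DZ1 Groth.Agent.H4.DZ2 Groth.Agent.H4.DZ3 Groth.Agent.H4.DZ4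
  Groth.Agent.H4.DZ5 Groth.Agent.H4.DZ6 Groth.Agent.H4.ProjAmp

open scoped Pointwise

variable {A : Type u} [CommRing A]

section general

lemma support_subset_of_exact {M N P : Type*} [AddCommGroup M] [Module A M] [AddCommGroup N]
    [Module A N] [AddCommGroup P] [Module A P] (f : M →ₗ[A] N) (g : N →ₗ[A] P)
    (h : Function.Exact f g) :
    Module.support A N ⊆ Module.support A M ∪ Module.support A P := by
  intro p hp
  by_contra hcon
  rw [Set.mem_union, not_or] at hcon
  obtain ⟨h1, h2⟩ := hcon
  rw [Module.notMem_support_iff] at h1 h2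
  rw [Module.mem_support_iff] at hp
  have hex := LocalizedModule.map_exact p.asIdeal.primeCompl f g h
  have key : ∀ y : LocalizedModule p.asIdeal.primeCompl N, y = 0 := by
    intro y
    obtain ⟨z, hz⟩ := (hex y).1 (Subsingleton.elim _ _)
    rw [← hz, Subsingleton.elim z 0, map_zero]
  obtain ⟨a, b, hab⟩ := hp
  exact hab ((key a).trans (key b).symm)

/-- supports of `Hom(-, Y)` along a short exact sequence of modules -/
lemma support_hom_of_exact (Y : Dual.D A) (N₁ N₂ N₃ : Type u) [AddCommGroup N₁] [Module A N₁]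
    [AddCommGroup N₂] [Module A N₂] [AddCommGroup N₃] [Module A N₃]
    (f : N₁ →ₗ[A] N₂) (g : N₂ →ₗ[A] N₃) (hf : Function.Injective f) (hg : Function.Surjective g)
    (hfg : Function.Exact f g) :
    Module.support A (Dual.inD A N₂ ⟶ Y) ⊆
      Module.support A (Dual.inD A N₁ ⟶ Y) ∪ Module.support A (Dual.inD A N₃ ⟶ Y) := by
  let S : ShortComplex (ModuleCat.{u} A) :=
    ShortComplex.mk (ModuleCat.ofHom f) (ModuleCat.ofHom g) (by
      ext x
      exact hfg.apply_apply_eq_zero x)
  have hS : S.ShortExact := ModuleCat.shortComplex_shortExact S hfg hf hg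
  have hT := hS.singleTriangle_distinguished
  have hex : Function.Exact (Linear.leftComp A Y hS.singleTriangle.mor₂)
      (Linear.leftComp A Y hS.singleTriangle.mor₁) := by
    intro φ
    constructor
    · intro h0
      obtain ⟨c, hc⟩ := Triangle.yoneda_exact₂ _ hT φ h0
      exact ⟨c, hc.symm⟩
    · rintro ⟨c, rfl⟩
      change hS.singleTriangle.mor₁ ≫ hS.singleTriangle.mor₂ ≫ c = 0
      rw [← assoc, comp_distTriang_mor_zero₁₂ _ hT, zero_comp]
  have := support_subset_of_exact _ _ hex
  rw [Set.union_comm] at this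
  exact this

/-- an element killing `M` kills `Hom(M, Y)`. -/
lemma smul_hom_eq_zero (Y : Dual.D A) (M : Type u) [AddCommGroup M] [Module A M] (s : A)
    (hs : ∀ y : M, s • y = 0) (φ : Dual.inD A M ⟶ Y) : s • φ = 0 := by
  have h1 : s • φ = (s • 𝟙 (Dual.inD A M)) ≫ φ := by rw [Linear.smul_comp, id_comp]
  have h2 : s • 𝟙 (Dual.inD A M) =
      (singleFunctor (ModuleCat.{u} A) 0).map (s • 𝟙 (ModuleCat.of A M)) := by
    rw [Functor.map_smul, CategoryTheory.Functor.map_id]
  have h3 : s • 𝟙 (ModuleCat.of A M) = 0 := by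
    ext y
    exact hs y
  rw [h1, h2, h3, Functor.map_zero, zero_comp]

/-- the connecting map for multiplication by a regular element. -/
lemma exists_delta (Y : Dual.D A) (M : Type u) [AddCommGroup M] [Module A M] (x : A)
    (hx : IsSMulRegular M x) :
    ∃ δ : (Dual.inD A M ⟶ Y) →ₗ[A] (Dual.inD A (QuotSMulTop x M) ⟶ Y⟦(1 : ℤ)⟧),
      LinearMap.ker δ = x • (⊤ : Submodule A (Dual.inD A M ⟶ Y)) := by
  let μ := LinearMap.lsmul A M x
  let S : ShortComplex (ModuleCat.{u} A) :=
    ShortComplex.mk (ModuleCat.ofHom μ)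
      (ModuleCat.ofHom (x • (⊤ : Submodule A M)).mkQ) (by
      ext y
      change (x • (⊤ : Submodule A M)).mkQ (x • y) = 0
      rw [Submodule.mkQ_apply, Submodule.Quotient.mk_eq_zero]
      exact Submodule.smul_mem_pointwise_smul _ _ _ Submodule.mem_top)
  have hex : Function.Exact μ (x • (⊤ : Submodule A M)).mkQ := by
    rw [LinearMap.exact_iff, Submodule.ker_mkQ]
    ext y
    rw [Submodule.mem_smul_pointwise_iff_exists, LinearMap.mem_range]
    constructor
    · rintro ⟨z, -, hz⟩
      exact ⟨z, hz⟩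
    · rintro ⟨z, hz⟩
      exact ⟨z, Submodule.mem_top, hz⟩
  have hS : S.ShortExact := ModuleCat.shortComplex_shortExact S hex hx
    (Submodule.mkQ_surjective _)
  have hT := inv_rot_of_distTriang _ hS.singleTriangle_distinguished
  let e := shiftHomLinEquiv (Dual.inD A (QuotSMulTop x M)) Y (-1) 1 (by simp)
  let δ₀ : (Dual.inD A M ⟶ Y) →ₗ[A] ((Dual.inD A (QuotSMulTop x M))⟦(-1 : ℤ)⟧ ⟶ Y) :=
    Linear.leftComp A Y hS.singleTriangle.invRotate.mor₁
  refine ⟨e.toLinearMap ∘ₗ δ₀, ?_⟩
  have hμ : ModuleCat.ofHom μ = x • 𝟙 (ModuleCat.of A M) := by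
    ext y
    rfl
  have hm2 : ∀ ψ : Dual.inD A M ⟶ Y, hS.singleTriangle.invRotate.mor₂ ≫ ψ = x • ψ := by
    intro ψ
    change (singleFunctor (ModuleCat.{u} A) 0).map (ModuleCat.ofHom μ) ≫ ψ = x • ψ
    rw [hμ, Functor.map_smul, CategoryTheory.Functor.map_id, Linear.smul_comp, id_comp]
  ext φ
  rw [LinearMap.mem_ker, LinearMap.comp_apply, LinearEquiv.coe_coe,
    LinearEquiv.map_eq_zero_iff, Submodule.mem_smul_pointwise_iff_exists]
  constructor
  · intro h0
    obtain ⟨ψ, hψ⟩ := Triangle.yoneda_exact₂ _ hT φ h0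
    change Dual.inD A M ⟶ Y at ψ
    exact ⟨ψ, Submodule.mem_top, by rw [hψ, hm2]⟩
  · rintro ⟨ψ, -, rfl⟩
    change hS.singleTriangle.invRotate.mor₁ ≫ (x • ψ) = 0
    rw [← hm2]
    exact (Category.assoc _ _ _).symm.trans
      (by rw [comp_distTriang_mor_zero₁₂ _ hT]; exact zero_comp)

/-- `Supp Hom(M,Y) ∩ V(x) ⊆ Supp Hom(M/xM, Y[1])`. -/
lemma support_step (Y : Dual.D A) (M : Type u) [AddCommGroup M] [Module A M] (x : A)
    (hx : IsSMulRegular M x) [Module.Finite A (Dual.inD A M ⟶ Y)] :
    Module.support A (Dual.inD A M ⟶ Y) ∩ PrimeSpectrum.zeroLocus {x} ⊆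
      Module.support A (Dual.inD A (QuotSMulTop x M) ⟶ Y⟦(1 : ℤ)⟧) := by
  obtain ⟨δ, hδ⟩ := exists_delta Y M x hx
  rw [← Module.support_quotSMulTop x]
  let j : QuotSMulTop x (Dual.inD A M ⟶ Y) →ₗ[A]
      (Dual.inD A (QuotSMulTop x M) ⟶ Y⟦(1 : ℤ)⟧) :=
    Submodule.liftQ (x • (⊤ : Submodule A (Dual.inD A M ⟶ Y))) δ (le_of_eq hδ.symm)
  have hj : Function.Injective j := by
    rw [← LinearMap.ker_eq_bot]
    exact Submodule.ker_liftQ_eq_bot _ _ _ (le_of_eq hδ)
  exact Module.support_subset_of_injective j hj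

end general

section local_

variable [IsLocalRing A] [IsNoetherianRing A]

lemma exists_nat_of_add_one_le {s : WithBot ℕ∞} {d : ℕ} (h : s + 1 ≤ (d : WithBot ℕ∞))
    (hs : s ≠ ⊥) : ∃ k : ℕ, s = (k : WithBot ℕ∞) ∧ k + 1 ≤ d := by
  induction s using WithBot.recBotCoe with
  | bot => exact absurd rfl hs
  | coe k =>
    induction k using ENat.recTopCoe with
    | top =>
      exfalso
      have : ((⊤ : ℕ∞) : WithBot ℕ∞) + 1 = ((⊤ : ℕ∞) : WithBot ℕ∞) := by
        rw [← WithBot.coe_one, ← WithBot.coe_add]
        simp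
      rw [this] at h
      have h2 : ((⊤ : ℕ∞) : WithBot ℕ∞) ≤ ((d : ℕ∞) : WithBot ℕ∞) := h
      rw [WithBot.coe_le_coe] at h2
      simp at h2
    | coe k =>
      refine ⟨k, rfl, ?_⟩
      exact_mod_cast h

omit [IsLocalRing A] [IsNoetherianRing A] in
lemma isSMulRegular_quotient_prime (p : Ideal A) [p.IsPrime] (x : A) (hx : x ∉ p) :
    IsSMulRegular (A ⧸ p) x := by
  intro y z hyz
  have h1 : (Ideal.Quotient.mk p x) * (y - z) = 0 := by
    have : x • y = x • z := hyz
    rw [mul_sub]
    exact sub_eq_zero.2 this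
  rcases mul_eq_zero.1 h1 with h2 | h2
  · exact absurd (Ideal.Quotient.eq_zero_iff_mem.1 h2) hx
  · exact sub_eq_zero.1 h2

/-- Nakayama: a finite module over a local ring in which everything is divisible by an element of
the maximal ideal vanishes. -/
lemma subsingleton_of_forall_exists_smul {N : Type*} [AddCommGroup N] [Module A N]
    [Module.Finite A N] (x : A) (hx : x ∈ IsLocalRing.maximalIdeal A)
    (h : ∀ φ : N, ∃ ψ : N, φ = x • ψ) : Subsingleton N := by
  have htop : (⊤ : Submodule A N) = ⊥ := by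
    refine Submodule.eq_bot_of_le_smul_of_le_jacobson_bot (IsLocalRing.maximalIdeal A) ⊤
      Module.Finite.fg_top ?_ (by rw [IsLocalRing.jacobson_eq_maximalIdeal ⊥ bot_ne_top])
    intro φ _
    obtain ⟨ψ, rfl⟩ := h φ
    exact Submodule.smul_mem_smul hx Submodule.mem_top
  refine ⟨fun f g => ?_⟩
  have hf : f ∈ (⊤ : Submodule A N) := Submodule.mem_top
  have hg : g ∈ (⊤ : Submodule A N) := Submodule.mem_top
  rw [htop, Submodule.mem_bot] at hf hg
  rw [hf, hg]

variable (ω : Dual.D A) (hω : Dual.IsDualizing A ω) (hn : Dual.IsNormalized A ω)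

omit [IsLocalRing A] in
include hω in
lemma finite_ext (M : Type u) [AddCommGroup M] [Module A M] [Module.Finite A M] (i : ℤ) :
    Module.Finite A (Dual.inD A M ⟶ ω⟦i⟧) := by
  obtain ⟨a, b, hab⟩ := exists_injAmp_of_isDualizing ω hω
  exact S1746 (Dual.inD A M) ω (fun j => finite_HD_inD M j) hω.finite_cohomology
    ⟨a, b, hab⟩ i

include hω hn in
/-- **`Ext^i(M, ω) = 0` for `i < -dim Supp M`.** -/
theorem subsingleton_ext_of_lt : ∀ (d : ℕ) (M : Type u) [AddCommGroup M] [Module A M]
    [Module.Finite A M], Module.supportDim A M ≤ (d : WithBot ℕ∞) → ∀ i : ℤ, i < -(d : ℤ) →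
    Subsingleton (Dual.inD A M ⟶ ω⟦i⟧) := by
  intro d
  induction d using Nat.strong_induction_on with
  | _ d ih =>
  intro M _ _ hM
  induction hM using IsNoetherianRing.induction_on_isQuotientEquivQuotientPrime A with
  | subsingleton N =>
    intro _ i _
    have hz : IsZero (Dual.inD A N) :=
      (singleFunctor (ModuleCat.{u} A) 0).map_isZero (ModuleCat.isZero_of_subsingleton _)
    exact ⟨fun f g => hz.eq_of_src f g⟩
  | quotient N p e =>
    intro hdim i hi
    refine subsingleton_hom_of_linearEquiv _ e ?_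
    rw [Module.supportDim_eq_of_equiv e] at hdim
    by_cases hp : p.asIdeal = IsLocalRing.maximalIdeal A
    · exact subsingleton_hom_of_linearEquiv _ (Submodule.quotEquivOfEq _ _ hp) (hn i (by omega))
    · have hlt : p.asIdeal < IsLocalRing.maximalIdeal A :=
        lt_of_le_of_ne (IsLocalRing.le_maximalIdeal p.isPrime.ne_top) hp
      obtain ⟨x, hxm, hxp⟩ := Set.exists_of_ssubset hlt
      haveI := p.isPrime
      have hreg := isSMulRegular_quotient_prime p.asIdeal x hxp
      have hsd := Module.supportDim_quotSMulTop_succ_eq_supportDim hreg hxm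
      have hQ : Subsingleton (Dual.inD A (QuotSMulTop x (A ⧸ p.asIdeal)) ⟶ (ω⟦i⟧)⟦(1 : ℤ)⟧) := by
        have hQ' : Subsingleton (Dual.inD A (QuotSMulTop x (A ⧸ p.asIdeal)) ⟶ ω⟦i + 1⟧) := by
          by_cases hs : Module.supportDim A (QuotSMulTop x (A ⧸ p.asIdeal)) = ⊥
          · rw [Module.supportDim_eq_bot_iff_subsingleton] at hs
            have hz : IsZero (Dual.inD A (QuotSMulTop x (A ⧸ p.asIdeal))) :=
              (singleFunctor (ModuleCat.{u} A) 0).map_isZero
                (ModuleCat.isZero_of_subsingleton _)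
            exact ⟨fun f g => hz.eq_of_src f g⟩
          · obtain ⟨k, hk, hkd⟩ := exists_nat_of_add_one_le (hsd.le.trans hdim) hs
            exact ih k (by omega) (QuotSMulTop x (A ⧸ p.asIdeal)) (le_of_eq hk) (i + 1)
              (by omega)
        exact (homIsoLinEquiv _
          ((CategoryTheory.shiftFunctorAdd' (Dual.D A) i 1 (i + 1) rfl).app
            ω)).symm.toEquiv.subsingleton
      obtain ⟨δ, hδ⟩ := exists_delta (ω⟦i⟧) (A ⧸ p.asIdeal) x hreg
      haveI := finite_ext ω hω (A ⧸ p.asIdeal) i
      refine subsingleton_of_forall_exists_smul x hxm (fun φ => ?_)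
      have h1 : φ ∈ LinearMap.ker δ := by
        rw [LinearMap.mem_ker]
        exact Subsingleton.elim _ _
      rw [hδ, Submodule.mem_smul_pointwise_iff_exists] at h1
      obtain ⟨ψ, -, hψ⟩ := h1
      exact ⟨ψ, hψ.symm⟩
  | exact N₁ N₂ N₃ f g hf hg hfg h1 h3 =>
    intro hdim i hi
    exact subsingleton_hom_of_exact _ N₁ N₂ N₃ f g hf hg hfg
      (h1 ((Module.supportDim_le_of_injective f hf).trans hdim) i hi)
      (h3 ((Module.supportDim_le_of_surjective g hg).trans hdim) i hi)

omit [IsLocalRing A] [IsNoetherianRing A] in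
lemma subsingleton_hom_of_subsingleton (Y : Dual.D A) (N : Type u) [AddCommGroup N] [Module A N]
    [Subsingleton N] : Subsingleton (Dual.inD A N ⟶ Y) := by
  have hz : IsZero (Dual.inD A N) :=
    (singleFunctor (ModuleCat.{u} A) 0).map_isZero (ModuleCat.isZero_of_subsingleton _)
  exact ⟨fun f g => hz.eq_of_src f g⟩

omit [IsLocalRing A] [IsNoetherianRing A] in
lemma support_hom_of_linearEquiv (Y : Dual.D A) {N N' : Type u} [AddCommGroup N] [Module A N]
    [AddCommGroup N'] [Module A N'] (e : N ≃ₗ[A] N') :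
    Module.support A (Dual.inD A N ⟶ Y) = Module.support A (Dual.inD A N' ⟶ Y) := by
  let i : Dual.inD A N ≅ Dual.inD A N' :=
    (singleFunctor (ModuleCat.{u} A) 0).mapIso e.toModuleIso
  exact (isoHomLinEquiv i Y).support_eq

include hω hn in
/-- **if `p ∈ Supp Ext^i(M, ω)` then `dim A/p ≤ -i`.** -/
theorem coheight_le_of_mem_support : ∀ (k : ℕ) (p : PrimeSpectrum A), Order.coheight p = k →
    ∀ (M : Type u) [AddCommGroup M] [Module A M] [Module.Finite A M] (i : ℤ),
    p ∈ Module.support A (Dual.inD A M ⟶ ω⟦i⟧) → Order.coheight p ≤ (((-i).toNat : ℕ) : ℕ∞) := by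
  intro k
  induction k using Nat.strong_induction_on with
  | _ k ih =>
  intro p hpk
  -- the step `Supp Ext^i(M) ∩ V(x) ⊆ Supp Ext^{i+1}(M/xM)`
  have hstep : ∀ (M : Type u) [AddCommGroup M] [Module A M] [Module.Finite A M] (x : A)
      (_ : IsSMulRegular M x) (i : ℤ) (q : PrimeSpectrum A),
      q ∈ Module.support A (Dual.inD A M ⟶ ω⟦i⟧) → x ∈ q.asIdeal →
      q ∈ Module.support A (Dual.inD A (QuotSMulTop x M) ⟶ ω⟦i + 1⟧) := by
    intro M _ _ _ x hx i q hq hxq
    haveI := finite_ext ω hω M i
    have h1 := support_step (ω⟦i⟧) M x hx ⟨hq, by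
      rw [PrimeSpectrum.mem_zeroLocus]
      intro y hy
      rw [Set.mem_singleton_iff] at hy
      rw [hy]
      exact hxq⟩
    rw [(homIsoLinEquiv (Dual.inD A (QuotSMulTop x M))
      ((CategoryTheory.shiftFunctorAdd' (Dual.D A) i 1 (i + 1) rfl).app ω)).support_eq]
    exact h1
  have inner : ∀ (I : Ideal A) (N : Type u) [AddCommGroup N] [Module A N] [Module.Finite A N],
      (∀ a ∈ I, ∀ y : N, a • y = 0) → ∀ i : ℤ, p ∈ Module.support A (Dual.inD A N ⟶ ω⟦i⟧) →
      Order.coheight p ≤ (((-i).toNat : ℕ) : ℕ∞) := by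
    intro I
    induction I using WellFoundedGT.induction with
    | ind I ihI =>
    intro N _ _ hN
    induction hN using IsNoetherianRing.induction_on_isQuotientEquivQuotientPrime A with
    | subsingleton N' =>
      intro _ i hi
      exfalso
      haveI := subsingleton_hom_of_subsingleton (ω⟦i⟧) N'
      rw [Module.support_eq_empty] at hi
      exact hi
    | quotient N' p' e =>
      intro hkill i hi
      rw [support_hom_of_linearEquiv _ e] at hi
      haveI := p'.isPrime
      have hIp : I ≤ p'.asIdeal := by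
        intro a ha
        have h1 := hkill a ha (e.symm 1)
        have h2 : a • (1 : A ⧸ p'.asIdeal) = 0 := by
          have := congrArg e h1
          rwa [map_smul, LinearEquiv.apply_symm_apply, map_zero] at this
        have h3 : Ideal.Quotient.mk p'.asIdeal a = 0 := by
          rw [← h2]
          rw [Algebra.smul_def, mul_one]
          rfl
        exact Ideal.Quotient.eq_zero_iff_mem.1 h3
      have hkillp : ∀ (J : Ideal A), ∀ a ∈ J, ∀ y : A ⧸ J, a • y = 0 := by
        intro J a ha y
        obtain ⟨b, rfl⟩ := Ideal.Quotient.mk_surjective y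
        change Ideal.Quotient.mk J (a * b) = 0
        exact Ideal.Quotient.eq_zero_iff_mem.2 (J.mul_mem_right _ ha)
      rcases lt_or_eq_of_le hIp with hlt | heq
      · exact ihI p'.asIdeal hlt (A ⧸ p'.asIdeal) (hkillp _) i hi
      · by_cases hle : p'.asIdeal ≤ p.asIdeal
        · rcases lt_or_eq_of_le hle with hlt' | heq'
          · -- `p' < p`
            obtain ⟨x, hxp, hxp'⟩ := Set.exists_of_ssubset hlt'
            have hreg := isSMulRegular_quotient_prime p'.asIdeal x hxp'
            have h1 := hstep (A ⧸ p'.asIdeal) x hreg i p hi hxp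
            have hJ : I < p'.asIdeal ⊔ Ideal.span {x} := by
              rw [heq]
              refine lt_of_le_of_ne le_sup_left ?_
              intro h
              apply hxp'
              rw [h]
              exact Ideal.mem_sup_right (Ideal.mem_span_singleton_self x)
            have hkillQ : ∀ a ∈ p'.asIdeal ⊔ Ideal.span {x},
                ∀ y : QuotSMulTop x (A ⧸ p'.asIdeal), a • y = 0 := by
              intro a ha y
              obtain ⟨z, rfl⟩ := Submodule.mkQ_surjective _ y
              rw [Submodule.mem_sup] at ha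
              obtain ⟨b, hb, c, hc, rfl⟩ := ha
              rw [Ideal.mem_span_singleton'] at hc
              obtain ⟨c', rfl⟩ := hc
              rw [← map_smul, Submodule.mkQ_apply, Submodule.Quotient.mk_eq_zero, add_smul,
                hkillp _ b hb z, zero_add, mul_comm, mul_smul]
              exact Submodule.smul_mem_pointwise_smul _ _ _ Submodule.mem_top
            have h2 := ihI _ hJ (QuotSMulTop x (A ⧸ p'.asIdeal)) hkillQ (i + 1) h1
            refine h2.trans ?_
            have : (-(i + 1)).toNat ≤ (-i).toNat := Int.toNat_le_toNat (by omega)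
            exact_mod_cast this
          · -- `p' = p`
            have hpp : p' = p := PrimeSpectrum.ext heq'
            subst hpp
            rw [Order.coheight_le_coe_iff]
            intro q hq
            obtain ⟨x, hxq, hxp⟩ := Set.exists_of_ssubset
              (show p'.asIdeal < q.asIdeal from hq)
            have hreg := isSMulRegular_quotient_prime p'.asIdeal x hxp
            have h1 := hstep (A ⧸ p'.asIdeal) x hreg i q (Module.mem_support_mono hq.le hi) hxq
            have hcq := Order.coheight_add_one_le hq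
            rw [hpk] at hcq
            obtain ⟨k', hk'⟩ : ∃ k' : ℕ, Order.coheight q = k' := by
              have : Order.coheight q ≠ ⊤ := by
                intro h
                rw [h] at hcq
                simp at hcq
              exact ⟨_, (ENat.natCast_toNat this).symm⟩
            have hk'k : k' < k := by
              rw [hk'] at hcq
              have : (k' : ℕ∞) + 1 ≤ k := hcq
              exact_mod_cast this
            have h2 := ih k' hk'k q hk' (QuotSMulTop x (A ⧸ p'.asIdeal)) (i + 1) h1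
            have hi0 : i + 1 ≤ 0 := by
              by_contra hcon
              haveI := subsingleton_ext_of_pos ω hω hn (i + 1) (by omega)
                (QuotSMulTop x (A ⧸ p'.asIdeal))
              rw [Module.support_eq_empty] at h1
              exact h1
            refine lt_of_le_of_lt h2 ?_
            have : (-(i + 1)).toNat < (-i).toNat := by omega
            exact_mod_cast this
        · -- `p' ⊄ p`
          exfalso
          obtain ⟨s, hsp', hsp⟩ := Set.not_subset.1 hle
          have h1 := Module.annihilator_le_of_mem_support hi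
          apply hsp
          apply h1
          rw [Module.mem_annihilator]
          intro φ
          exact smul_hom_eq_zero _ _ s (hkillp _ s hsp') φ
    | exact N₁ N₂ N₃ f g hf hg hfg h1 h3 =>
      intro hkill i hi
      rcases support_hom_of_exact (ω⟦i⟧) N₁ N₂ N₃ f g hf hg hfg hi with h | h
      · refine h1 (fun a ha y => ?_) i h
        apply hf
        rw [map_smul, hkill a ha, map_zero]
      · refine h3 (fun a ha y => ?_) i h
        obtain ⟨z, rfl⟩ := hg y
        rw [← map_smul, hkill a ha, map_zero]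
  intro M _ _ _ i hi
  exact inner ⊥ M (fun a ha y => by rw [Ideal.mem_bot.1 ha, zero_smul]) i hi

include hω hn in
/-- **S0366.** -/
theorem S0366 (M : Type u) [AddCommGroup M] [Module A M] [Module.Finite A M] (d : ℕ)
    (hd : Module.supportDim A M = d) (i : ℤ) :
    (Nontrivial (Dual.inD A M ⟶ ω⟦i⟧) → (-(d : ℤ) ≤ i ∧ i ≤ 0)) ∧
      Module.supportDim A (Dual.inD A M ⟶ ω⟦i⟧) ≤ ((-i).toNat : WithBot ℕ∞) := by
  constructor
  · intro hnt
    constructor
    · by_contra hcon
      haveI := subsingleton_ext_of_lt ω hω hn d M (le_of_eq hd) i (by omega)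
      exact not_subsingleton _ ‹Subsingleton (Dual.inD A M ⟶ ω⟦i⟧)›
    · by_contra hcon
      haveI := subsingleton_ext_of_pos ω hω hn i (by omega) M
      exact not_subsingleton _ ‹Subsingleton (Dual.inD A M ⟶ ω⟦i⟧)›
  · rw [Module.supportDim, Order.krullDim_eq_iSup_coheight]
    refine iSup_le (fun a => ?_)
    have h1 : Order.coheight a ≤ Order.coheight a.1 :=
      Order.coheight_le_coheight_apply_of_strictMono Subtype.val (fun _ _ h => h) a
    obtain ⟨k, hk⟩ : ∃ k : ℕ, Order.coheight a.1 = k :=
      ⟨_, (ENat.natCast_toNat (Order.coheight_lt_top a.1).ne).symm⟩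
    have h2 := coheight_le_of_mem_support ω hω hn k a.1 hk M i a.2
    have h3 : ((Order.coheight a : ℕ∞) : WithBot ℕ∞) ≤ (((-i).toNat : ℕ∞) : WithBot ℕ∞) :=
      WithBot.coe_le_coe.2 (h1.trans h2)
    exact h3

end local_

end Groth.Agent.H4.US9
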