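import Mathlib
import Groth.Agent.H4.US9

set_option autoImplicit false
universe u
open CategoryTheory Category Limits Pretriangulated

namespace Groth.Agent.H4.US10

attribute [local instance] HasDerivedCategory.standard
attribute [local instance] Groth.Agent.H4.LK4.hasLTen Groth.Agent.H4.LK5.hasLTen₃
  Groth.Agent.H4.KI7.isSymMonoidal Groth.Agent.H4.KI6.hasRHom

open DRing DTen DerivedCategory Groth.Agent.H4.DThick Groth.Agent.H4.DCompl1 Groth.Agent.H4.CF1
  Groth.Agent.H4.InjAmp Groth.Agent.H4.DZ1 Groth.Agent.H4.DZ2 Groth.Agent.H4.DZ3 Groth.Agent.H4.DZ4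
  Groth.Agent.H4.DZ5 Groth.Agent.H4.DZ6 Groth.Agent.H4.ProjAmp Groth.Agent.H4.US8 Groth.Agent.H4.US9

variable {A : Type u} [CommRing A] [IsLocalRing A] [IsNoetherianRing A]
variable (ω : Dual.D A) (hω : Dual.IsDualizing A ω) (hn : Dual.IsNormalized A ω)
variable (M : Type u) [AddCommGroup M] [Module A M] [Module.Finite A M] [Nontrivial M]

include hω in
/-- some `Ext^j(M, ω)` is nonzero. -/
lemma exists_nontrivial_ext : ∃ j : ℤ, Nontrivial (Dual.inD A M ⟶ ω⟦j⟧) := by
  by_contra hcon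
  rw [not_exists] at hcon
  let L := (RHomR A (Dual.inD A M)).obj ω
  have hfinM : ∀ i : ℤ, Module.Finite A (Dual.HD A (Dual.inD A M) i) := finite_HD_inD M
  have hz : IsZero L := by
    refine isZero_of_forall_subsingleton_HD L (fun j => ?_)
    obtain ⟨e⟩ := nonempty_extLinEquiv (Dual.inD A M) ω j
    haveI : Subsingleton (Dual.inD A M ⟶ ω⟦j⟧) := not_nontrivial_iff_subsingleton.1 (hcon j)
    exact e.subsingleton
  obtain ⟨e⟩ := nonempty_hom_dual_equiv ω hω (Dual.inD A M) hfinM 0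
  obtain ⟨e0⟩ := nonempty_HD_inD_zero (A := A) M
  haveI : Subsingleton (L ⟶ ω⟦(0 : ℤ)⟧) := ⟨fun f g => hz.eq_of_src f g⟩
  haveI : Subsingleton M := (e0.symm.trans e.symm).subsingleton
  exact not_subsingleton M inferInstance

include hω hn in
/-- the depth is finite, and characterised by `Ext`. -/
theorem exists_depth_eq : ∃ n : ℕ, LocCoh.depth A M = n ∧
    (∀ δ : ℕ, δ < n → Subsingleton (Dual.inD A M ⟶ ω⟦(-(δ : ℤ))⟧)) ∧
      Nontrivial (Dual.inD A M ⟶ ω⟦(-(n : ℤ))⟧) := by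
  classical
  obtain ⟨j, hj⟩ := exists_nontrivial_ext ω hω M
  have hj0 : j ≤ 0 := by
    by_contra hcon
    haveI := subsingleton_ext_of_pos ω hω hn j (by omega) M
    exact not_subsingleton _ ‹Subsingleton (Dual.inD A M ⟶ ω⟦j⟧)›
  have hex : ∃ δ : ℕ, Nontrivial (Dual.inD A M ⟶ ω⟦(-(δ : ℤ))⟧) := by
    refine ⟨(-j).toNat, ?_⟩
    have : (-(((-j).toNat : ℕ) : ℤ)) = j := by omega
    rw [this]
    exact hj
  have h2 : (∀ δ : ℕ, δ < Nat.find hex → Subsingleton (Dual.inD A M ⟶ ω⟦(-(δ : ℤ))⟧)) ∧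
      Nontrivial (Dual.inD A M ⟶ ω⟦(-((Nat.find hex : ℕ) : ℤ))⟧) :=
    ⟨fun δ hδ => not_nontrivial_iff_subsingleton.1 (Nat.find_min hex hδ), Nat.find_spec hex⟩
  exact ⟨Nat.find hex, (depth_eq_iff ω hω hn M _).2 h2, h2⟩

include hω hn in
/-- **S0368.** -/
theorem S0368 (d : ℕ) (hd : Module.supportDim A M = d) :
    LocCoh.IsCohenMacaulayModule A M ↔
      ∀ i : ℤ, i ≠ d → Subsingleton (Dual.inD A M ⟶ ω⟦(-i)⟧) := by
  obtain ⟨n, hdep, hlt, hnt⟩ := exists_depth_eq ω hω hn M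
  unfold LocCoh.IsCohenMacaulayModule
  rw [hd, hdep]
  constructor
  · intro h i hi
    have hdn : d = n := by exact_mod_cast h
    subst hdn
    by_cases h0 : i < 0
    · exact subsingleton_ext_of_pos ω hω hn (-i) (by omega) M
    · by_cases h1 : i < d
      · have := hlt i.toNat (by omega)
        have h2 : (-((i.toNat : ℕ) : ℤ)) = -i := by omega
        rw [h2] at this
        exact this
      · exact subsingleton_ext_of_lt ω hω hn d M (le_of_eq hd) (-i) (by omega)
  · intro h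
    have hdn : d = n := by
      by_contra hcon
      haveI := h (n : ℤ) (by
        intro h'
        apply hcon
        exact_mod_cast h'.symm)
      exact not_subsingleton _ ‹Subsingleton (Dual.inD A M ⟶ ω⟦(-(n : ℤ))⟧)›
    rw [hdn]
    rfl

end Groth.Agent.H4.US10
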