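import Mathlib
import Groth.Agent.H4.US10

set_option autoImplicit false
universe u
open CategoryTheory Category Limits Pretriangulated

namespace Groth.Agent.H4.US11

attribute [local instance] HasDerivedCategory.standard
attribute [local instance] Groth.Agent.H4.LK4.hasLTen Groth.Agent.H4.LK5.hasLTen₃
  Groth.Agent.H4.KI7.isSymMonoidal Groth.Agent.H4.KI6.hasRHom

open DRing DTen DerivedCategory Groth.Agent.H4.DThick Groth.Agent.H4.DCompl1 Groth.Agent.H4.CF1
  Groth.Agent.H4.InjAmp Groth.Agent.H4.DZ1 Groth.Agent.H4.DZ2 Groth.Agent.H4.DZ3 Groth.Agent.H4.DZ4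
  Groth.Agent.H4.DZ5 Groth.Agent.H4.DZ6 Groth.Agent.H4.ProjAmp Groth.Agent.H4.US8 Groth.Agent.H4.US9
  Groth.Agent.H4.US10

open scoped Pointwise

variable {A : Type u} [CommRing A]

section les

/-- supports of `Hom(-, Y)` along a distinguished triangle -/
lemma support_hom_of_distTriang (T : Triangle (Dual.D A)) (hT : T ∈ distTriang (Dual.D A))
    (Y : Dual.D A) :
    Module.support A (T.obj₂ ⟶ Y) ⊆
      Module.support A (T.obj₁ ⟶ Y) ∪ Module.support A (T.obj₃ ⟶ Y) := by
  have hex : Function.Exact (Linear.leftComp A Y T.mor₂) (Linear.leftComp A Y T.mor₁) := by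
    intro φ
    constructor
    · intro h0
      obtain ⟨c, hc⟩ := Triangle.yoneda_exact₂ _ hT φ h0
      exact ⟨c, hc.symm⟩
    · rintro ⟨c, rfl⟩
      change T.mor₁ ≫ T.mor₂ ≫ c = 0
      rw [← assoc, comp_distTriang_mor_zero₁₂ _ hT, zero_comp]
  have := support_subset_of_exact _ _ hex
  rw [Set.union_comm] at this
  exact this

variable (Y : Dual.D A) (N₁ N₂ N₃ : Type u) [AddCommGroup N₁] [Module A N₁]
    [AddCommGroup N₂] [Module A N₂] [AddCommGroup N₃] [Module A N₃]
    (f : N₁ →ₗ[A] N₂) (g : N₂ →ₗ[A] N₃) (hf : Function.Injective f) (hg : Function.Surjective g)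
    (hfg : Function.Exact f g)

include hf hg hfg in
/-- `Supp Hom(N₁,Y) ⊆ Supp Hom(N₂,Y) ∪ Supp Hom(N₃,Y[1])` -/
lemma support_hom_les2 :
    Module.support A (Dual.inD A N₁ ⟶ Y) ⊆
      Module.support A (Dual.inD A N₂ ⟶ Y) ∪ Module.support A (Dual.inD A N₃ ⟶ Y⟦(1 : ℤ)⟧) := by
  let S : ShortComplex (ModuleCat.{u} A) :=
    ShortComplex.mk (ModuleCat.ofHom f) (ModuleCat.ofHom g) (by
      ext x
      exact hfg.apply_apply_eq_zero x)
  have hS : S.ShortExact := ModuleCat.shortComplex_shortExact S hfg hf hg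
  have hT := inv_rot_of_distTriang _ hS.singleTriangle_distinguished
  have h1 := support_hom_of_distTriang _ hT Y
  have h2 := (shiftHomLinEquiv (Dual.inD A N₃) Y (-1) 1 (by simp)).support_eq
  intro p hp
  rcases h1 hp with h | h
  · right
    rw [← h2]
    exact h
  · left
    exact h

include hf hg hfg in
/-- `Supp Hom(N₃,Y[1]) ⊆ Supp Hom(N₁,Y) ∪ Supp Hom(N₂,Y[1])` -/
lemma support_hom_les3 :
    Module.support A (Dual.inD A N₃ ⟶ Y⟦(1 : ℤ)⟧) ⊆
      Module.support A (Dual.inD A N₁ ⟶ Y) ∪ Module.support A (Dual.inD A N₂ ⟶ Y⟦(1 : ℤ)⟧) := by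
  let S : ShortComplex (ModuleCat.{u} A) :=
    ShortComplex.mk (ModuleCat.ofHom f) (ModuleCat.ofHom g) (by
      ext x
      exact hfg.apply_apply_eq_zero x)
  have hS : S.ShortExact := ModuleCat.shortComplex_shortExact S hfg hf hg
  have hT := rot_of_distTriang _ hS.singleTriangle_distinguished
  have h1 := support_hom_of_distTriang _ hT (Y⟦(1 : ℤ)⟧)
  let e1 : (((Dual.inD A N₁)⟦(1 : ℤ)⟧)⟦(-1 : ℤ)⟧ ⟶ Y) ≃ₗ[A]
      ((Dual.inD A N₁)⟦(1 : ℤ)⟧ ⟶ Y⟦(1 : ℤ)⟧) :=
    shiftHomLinEquiv ((Dual.inD A N₁)⟦(1 : ℤ)⟧) Y (-1) 1 (by simp)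
  let e2 : (((Dual.inD A N₁)⟦(1 : ℤ)⟧)⟦(-1 : ℤ)⟧ ⟶ Y) ≃ₗ[A] (Dual.inD A N₁ ⟶ Y) :=
    isoHomLinEquiv (shiftShiftNeg (Dual.inD A N₁) (1 : ℤ)) Y
  have h2 := (e2.symm.trans e1).support_eq
  intro p hp
  rcases h1 hp with h | h
  · right
    exact h
  · left
    rw [h2]
    exact h

end les

section regular

lemma support_shift_succ (X ω : Dual.D A) (i j : ℤ) (h : i + 1 = j) :
    Module.support A (X ⟶ (ω⟦i⟧)⟦(1 : ℤ)⟧) = Module.support A (X ⟶ ω⟦j⟧) :=
  (homIsoLinEquiv X ((CategoryTheory.shiftFunctorAdd' (Dual.D A) i 1 j h).app ω)).support_eq.symm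

/-- if `Hom(M/xM, Y) = 0` then `x` is a nonzerodivisor on `Hom(M, Y)` -/
lemma eq_zero_of_smul_eq_zero (Y : Dual.D A) (M : Type u) [AddCommGroup M] [Module A M] (x : A)
    (hx : IsSMulRegular M x) (h : Subsingleton (Dual.inD A (QuotSMulTop x M) ⟶ Y))
    (φ : Dual.inD A M ⟶ Y) (hφ : x • φ = 0) : φ = 0 := by
  let μ := LinearMap.lsmul A M x
  let S : ShortComplex (ModuleCat.{u} A) :=
    ShortComplex.mk (ModuleCat.ofHom μ)
      (ModuleCat.ofHom (x • (⊤ : Submodule A M)).mkQ) (by
      ext y
      change (x • (⊤ : Submodule A M)).mkQ (x • y) = 0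
      rw [Submodule.mkQ_apply, Submodule.Quotient.mk_eq_zero]
      exact Submodule.smul_mem_pointwise_smul _ _ _ Submodule.mem_top)
  have hex : Function.Exact μ (x • (⊤ : Submodule A M)).mkQ := by
    rw [LinearMap.exact_iff, Submodule.ker_mkQ]
    ext y
    rw [Submodule.mem_smul_pointwise_iff_exists, LinearMap.mem_range]
    constructor
    · rintro ⟨z, -, hz⟩
      exact ⟨z, hz⟩
    · rintro ⟨z, hz⟩
      exact ⟨z, Submodule.mem_top, hz⟩
  have hS : S.ShortExact := ModuleCat.shortComplex_shortExact S hex hx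
    (Submodule.mkQ_surjective _)
  have hT := hS.singleTriangle_distinguished
  have hμ : ModuleCat.ofHom μ = x • 𝟙 (ModuleCat.of A M) := by
    ext y
    rfl
  have h0 : hS.singleTriangle.mor₁ ≫ φ = 0 := by
    change (singleFunctor (ModuleCat.{u} A) 0).map (ModuleCat.ofHom μ) ≫ φ = 0
    rw [hμ, Functor.map_smul, CategoryTheory.Functor.map_id, Linear.smul_comp, id_comp]
    exact hφ
  obtain ⟨c, hc⟩ := Triangle.yoneda_exact₂ _ hT φ h0
  have hc0 : c = 0 := @Subsingleton.elim _ h _ _
  rw [hc, hc0]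
  exact comp_zero

end regular

section local_

variable [IsLocalRing A] [IsNoetherianRing A]

omit [IsLocalRing A] [IsNoetherianRing A] in
lemma supportDim_quotient_prime (p : PrimeSpectrum A) :
    Module.supportDim A (A ⧸ p.asIdeal) = (Order.coheight p : WithBot ℕ∞) := by
  rw [Order.coheight_eq_krullDim_Ici, Module.supportDim, Module.support_eq_zeroLocus,
    Ideal.annihilator_quotient]
  congr 1

variable (ω : Dual.D A) (hω : Dual.IsDualizing A ω) (hn : Dual.IsNormalized A ω)

include hω hn in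
lemma not_mem_support_of_lt (q : PrimeSpectrum A) (k : ℕ) (hk : Order.coheight q = k)
    (M : Type u) [AddCommGroup M] [Module A M] [Module.Finite A M] (i : ℤ) (h : -i < k) :
    q ∉ Module.support A (Dual.inD A M ⟶ ω⟦i⟧) := by
  intro hq
  have h1 := coheight_le_of_mem_support ω hω hn k q hk M i hq
  rw [hk] at h1
  have h2 : k ≤ (-i).toNat := by exact_mod_cast h1
  by_cases hi : 0 < i
  · haveI := subsingleton_ext_of_pos ω hω hn i hi M
    rw [Module.support_eq_empty] at hq
    exact hq
  · omega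

omit [IsLocalRing A] [IsNoetherianRing A] in
lemma mem_support_quotSMulTop_quotient (p q : PrimeSpectrum A) (x : A) :
    q ∈ Module.support A (QuotSMulTop x (A ⧸ p.asIdeal)) ↔ p ≤ q ∧ x ∈ q.asIdeal := by
  rw [Module.support_quotSMulTop, Module.support_eq_zeroLocus, Ideal.annihilator_quotient]
  simp only [Set.mem_inter_iff, PrimeSpectrum.mem_zeroLocus, SetLike.coe_subset_coe,
    Set.singleton_subset_iff, SetLike.mem_coe]
  rfl

include hω hn in
/-- **`Ext^{-dim A/p}(A/p, ω)_p ≠ 0`.** -/
theorem mem_support_ext_quotient_prime : ∀ (d : ℕ) (p : PrimeSpectrum A), Order.coheight p = d →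
    p ∈ Module.support A (Dual.inD A (A ⧸ p.asIdeal) ⟶ ω⟦(-(d : ℤ))⟧) := by
  intro d
  induction d with
  | zero =>
    intro p hp
    have hmax : IsMax p := Order.coheight_eq_zero.1 (by exact_mod_cast hp)
    have hpm : p = IsLocalRing.closedPoint A :=
      le_antisymm (IsLocalRing.le_maximalIdeal p.isPrime.ne_top)
        (hmax (IsLocalRing.le_maximalIdeal p.isPrime.ne_top))
    subst hpm
    obtain ⟨e⟩ := (extData_zero ω hω hn).top 0 rfl
    haveI : Nontrivial (A ⧸ IsLocalRing.maximalIdeal A) :=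
      Ideal.Quotient.nontrivial_iff.2 (IsLocalRing.maximalIdeal.isMaximal A).ne_top
    haveI : Nontrivial (Dual.inD A (A ⧸ (IsLocalRing.closedPoint A).asIdeal) ⟶
        ω⟦(-((0 : ℕ) : ℤ))⟧) := e.nontrivial
    exact IsLocalRing.closedPoint_mem_support A _
  | succ d' ih =>
    intro p hp
    haveI := p.isPrime
    obtain ⟨-, ⟨q, hq, hqd⟩, hall⟩ := Order.coheight_eq_coe_add_one_iff.1
      (show Order.coheight p = (d' : ℕ∞) + 1 by exact_mod_cast hp)
    obtain ⟨x, hxq, hxp⟩ := Set.exists_of_ssubset (show p.asIdeal < q.asIdeal from hq)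
    have hreg := isSMulRegular_quotient_prime p.asIdeal x hxp
    -- Step A: `q ∈ Supp Ext^{-d'}(Q, ω)`
    have hA : q ∈ Module.support A
        (Dual.inD A (QuotSMulTop x (A ⧸ p.asIdeal)) ⟶ ω⟦(-(d' : ℤ))⟧) := by
      have hqQ : q ∈ Module.support A (QuotSMulTop x (A ⧸ p.asIdeal)) :=
        (mem_support_quotSMulTop_quotient p q x).2 ⟨hq.le, hxq⟩
      have hmin : q.asIdeal ∈ (Module.annihilator A
          (QuotSMulTop x (A ⧸ p.asIdeal))).minimalPrimes := by
        refine ⟨⟨q.isPrime, Module.mem_support_iff_of_finite.1 hqQ⟩, ?_⟩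
        rintro q' ⟨hq'prime, hq'ann⟩ hq'q
        let q'' : PrimeSpectrum A := ⟨q', hq'prime⟩
        have h1 : q'' ∈ Module.support A (QuotSMulTop x (A ⧸ p.asIdeal)) :=
          Module.mem_support_iff_of_finite.2 hq'ann
        obtain ⟨hpq', hxq'⟩ := (mem_support_quotSMulTop_quotient p q'' x).1 h1
        have hlt : p < q'' := lt_of_le_of_ne hpq' (by
          intro h
          apply hxp
          rw [h]
          exact hxq')
        by_contra hcon
        have hlt2 : q'' < q := lt_of_le_of_ne hq'q (by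
          intro h
          apply hcon
          rw [← h])
        have h2 := Order.coheight_add_one_le hlt2
        have h3 := hall q'' hlt
        rw [hqd] at h2
        have : (d' : ℕ∞) + 1 ≤ d' := h2.trans h3
        exact absurd this (by
          rw [not_le]
          exact_mod_cast Nat.lt_succ_self d')
      have hass := Module.associatedPrimes.minimalPrimes_annihilator_subset_associatedPrimes A
        (QuotSMulTop x (A ⧸ p.asIdeal)) hmin
      obtain ⟨-, f, hf⟩ := (isAssociatedPrime_iff_exists_injective_linearMap _ _).1 hass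
      have h2 := support_hom_les2 (ω⟦(-(d' : ℤ))⟧) _ _ _ f (LinearMap.range f).mkQ hf
        (Submodule.mkQ_surjective _) (LinearMap.exact_map_mkQ_range f) (ih q hqd)
      rcases h2 with h | h
      · exact h
      · exfalso
        rw [support_shift_succ _ ω (-(d' : ℤ)) (-(d' : ℤ) + 1) rfl] at h
        exact not_mem_support_of_lt ω hω hn q d' hqd _ _ (by omega) h
    -- Step B: `q ∉ Supp Ext^{-d'}(A/p, ω)`
    have hB : q ∉ Module.support A (Dual.inD A (A ⧸ p.asIdeal) ⟶ ω⟦(-(d' : ℤ))⟧) := by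
      intro h
      haveI := finite_ext ω hω (A ⧸ p.asIdeal) (-(d' : ℤ))
      have h1 := support_step (ω⟦(-(d' : ℤ))⟧) (A ⧸ p.asIdeal) x hreg ⟨h, by
        rw [PrimeSpectrum.mem_zeroLocus]
        intro y hy
        rw [Set.mem_singleton_iff] at hy
        rw [hy]
        exact hxq⟩
      rw [support_shift_succ _ ω (-(d' : ℤ)) (-(d' : ℤ) + 1) rfl] at h1
      exact not_mem_support_of_lt ω hω hn q d' hqd _ _ (by omega) h1
    -- Step C
    have hC : q ∈ Module.support A
        (Dual.inD A (A ⧸ p.asIdeal) ⟶ ω⟦(-((d' + 1 : ℕ) : ℤ))⟧) := by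
      have hex : Function.Exact (LinearMap.lsmul A (A ⧸ p.asIdeal) x)
          (x • (⊤ : Submodule A (A ⧸ p.asIdeal))).mkQ := by
        rw [LinearMap.exact_iff, Submodule.ker_mkQ]
        ext y
        rw [Submodule.mem_smul_pointwise_iff_exists, LinearMap.mem_range]
        constructor
        · rintro ⟨z, -, hz⟩
          exact ⟨z, hz⟩
        · rintro ⟨z, hz⟩
          exact ⟨z, Submodule.mem_top, hz⟩
      have h3 := support_hom_les3 (ω⟦(-((d' + 1 : ℕ) : ℤ))⟧) _ _ _
        (LinearMap.lsmul A (A ⧸ p.asIdeal) x) (x • (⊤ : Submodule A (A ⧸ p.asIdeal))).mkQ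
        hreg (Submodule.mkQ_surjective _) hex
      have e1 := fun (X : Dual.D A) => support_shift_succ X ω (-((d' + 1 : ℕ) : ℤ)) (-(d' : ℤ))
        (by push_cast; ring)
      have hA' : q ∈ Module.support A (Dual.inD A (QuotSMulTop x (A ⧸ p.asIdeal)) ⟶
          (ω⟦(-((d' + 1 : ℕ) : ℤ))⟧)⟦(1 : ℤ)⟧) := by
        rw [e1]
        exact hA
      rcases h3 hA' with h | h
      · exact h
      · exfalso
        apply hB
        rw [← e1]
        exact h
    -- Step D: torsion-freeness
    have hnt : Nontrivial (Dual.inD A (A ⧸ p.asIdeal) ⟶ ω⟦(-((d' + 1 : ℕ) : ℤ))⟧) := by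
      by_contra hcon
      rw [not_nontrivial_iff_subsingleton] at hcon
      rw [Module.support_eq_empty] at hC
      exact hC
    obtain ⟨φ, hφ⟩ := exists_ne (0 : Dual.inD A (A ⧸ p.asIdeal) ⟶ ω⟦(-((d' + 1 : ℕ) : ℤ))⟧)
    rw [Module.mem_support_iff_exists_annihilator]
    refine ⟨φ, ?_⟩
    intro s hs
    rw [Submodule.mem_annihilator_span_singleton] at hs
    by_contra hsp
    apply hφ
    by_cases hsm : s ∈ IsLocalRing.maximalIdeal A
    · have hregs := isSMulRegular_quotient_prime p.asIdeal s hsp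
      have hsd := Module.supportDim_quotSMulTop_succ_eq_supportDim hregs hsm
      rw [supportDim_quotient_prime, hp] at hsd
      refine eq_zero_of_smul_eq_zero _ _ s hregs ?_ φ hs
      by_cases hbot : Module.supportDim A (QuotSMulTop s (A ⧸ p.asIdeal)) = ⊥
      · rw [Module.supportDim_eq_bot_iff_subsingleton] at hbot
        exact subsingleton_hom_of_subsingleton _ _
      · obtain ⟨k, hk, hkd⟩ := exists_nat_of_add_one_le (d := d' + 1) (le_of_eq hsd) hbot
        exact subsingleton_ext_of_lt ω hω hn k _ (le_of_eq hk) _ (by push_cast; omega)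
    · have hu : IsUnit s := by
        by_contra hnu
        exact hsm ((IsLocalRing.mem_maximalIdeal s).2 hnu)
      obtain ⟨u, rfl⟩ := hu
      have : φ = (↑u⁻¹ : A) • ((u : A) • φ) := by
        rw [smul_smul, Units.inv_mul, one_smul]
      rw [this, hs, smul_zero]

omit [IsLocalRing A] [IsNoetherianRing A] in
lemma coheight_le_supportDim (M : Type u) [AddCommGroup M] [Module A M] [Module.Finite A M]
    (p : PrimeSpectrum A) (hp : p ∈ Module.support A M) :
    (Order.coheight p : WithBot ℕ∞) ≤ Module.supportDim A M := by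
  have h : Module.annihilator A M ≤ p.asIdeal := Module.mem_support_iff_of_finite.1 hp
  rw [← supportDim_quotient_prime, Module.supportDim_quotient_eq_ringKrullDim,
    Module.supportDim_eq_ringKrullDim_quotient_annihilator]
  exact ringKrullDim_le_of_surjective (Ideal.Quotient.factor h) (Ideal.Quotient.factor_surjective h)

omit [IsLocalRing A] [IsNoetherianRing A] in
lemma exists_minimalPrime_coheight (M : Type u) [AddCommGroup M] [Module A M] [Module.Finite A M]
    (d : ℕ) (hd : Module.supportDim A M = d) :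
    ∃ p : PrimeSpectrum A, p.asIdeal ∈ (Module.annihilator A M).minimalPrimes ∧
      Order.coheight p = d := by
  obtain ⟨l, hl⟩ := Order.le_krullDim_iff.1 (le_of_eq hd.symm)
  have h1 : (d : ℕ∞) ≤ Order.coheight l.head.1 := by
    have := Order.length_le_coheight_head (p := l.map Subtype.val (fun _ _ h => h))
    have h2 : (l.map Subtype.val (fun _ _ h => h)).length = d := hl
    have h3 : (l.map Subtype.val (fun _ _ h => h)).head = l.head.1 := rfl
    rw [h2, h3] at this
    exact this
  have hann : Module.annihilator A M ≤ l.head.1.asIdeal :=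
    Module.mem_support_iff_of_finite.1 l.head.2
  obtain ⟨p, hpmin, hple⟩ := Ideal.exists_minimalPrimes_le hann
  let p' : PrimeSpectrum A := ⟨p, hpmin.1.1⟩
  refine ⟨p', hpmin, le_antisymm ?_ ?_⟩
  · have h2 := coheight_le_supportDim M p' (Module.mem_support_iff_of_finite.2 hpmin.1.2)
    rw [hd] at h2
    exact_mod_cast h2
  · exact h1.trans (Order.coheight_anti (show p' ≤ l.head.1 from hple))

include hω hn in
/-- a minimal prime `p` of `Supp M` lies in the support of `Ext^{-dim A/p}(M, ω)`. -/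
theorem mem_support_ext_of_minimalPrime (M : Type u) [AddCommGroup M] [Module A M]
    [Module.Finite A M] (p : PrimeSpectrum A)
    (hpmin : p.asIdeal ∈ (Module.annihilator A M).minimalPrimes) (d : ℕ)
    (hpd : Order.coheight p = d) :
    p ∈ Module.support A (Dual.inD A M ⟶ ω⟦(-(d : ℤ))⟧) := by
  have hass := Module.associatedPrimes.minimalPrimes_annihilator_subset_associatedPrimes A M hpmin
  obtain ⟨-, f, hf⟩ := (isAssociatedPrime_iff_exists_injective_linearMap _ _).1 hass
  have h1 := mem_support_ext_quotient_prime ω hω hn d p hpd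
  have h2 := support_hom_les2 (ω⟦(-(d : ℤ))⟧) _ _ _ f (LinearMap.range f).mkQ hf
    (Submodule.mkQ_surjective _) (LinearMap.exact_map_mkQ_range f) h1
  rcases h2 with h | h
  · exact h
  · exfalso
    rw [support_shift_succ _ ω (-(d : ℤ)) (-(d : ℤ) + 1) rfl] at h
    exact not_mem_support_of_lt ω hω hn p d hpd _ _ (by omega) h

include hω hn in
/-- **S19859.** -/
theorem S19859 (M : Type u) [AddCommGroup M] [Module A M] [Module.Finite A M]
    (d : ℕ) (hd : Module.supportDim A M = d) :
    Nontrivial (Dual.inD A M ⟶ ω⟦(-(d : ℤ))⟧) := by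
  obtain ⟨p, hpmin, hpd⟩ := exists_minimalPrime_coheight M d hd
  have h := mem_support_ext_of_minimalPrime ω hω hn M p hpmin d hpd
  by_contra hcon
  rw [not_nontrivial_iff_subsingleton] at hcon
  rw [Module.support_eq_empty] at h
  exact h

omit [IsLocalRing A] in
/-- dévissage of supports of `Hom(-, Y)` to the modules `A/p'`. -/
lemma exists_prime_le_of_mem_support (Y : Dual.D A) (p : PrimeSpectrum A) (M : Type u)
    [AddCommGroup M] [Module A M] [hM : Module.Finite A M] :
    p ∈ Module.support A (Dual.inD A M ⟶ Y) →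
      ∃ p' : PrimeSpectrum A, p' ≤ p ∧ p ∈ Module.support A (Dual.inD A (A ⧸ p'.asIdeal) ⟶ Y) := by
  induction hM using IsNoetherianRing.induction_on_isQuotientEquivQuotientPrime A with
  | subsingleton N =>
    intro hi
    exfalso
    haveI := subsingleton_hom_of_subsingleton Y N
    rw [Module.support_eq_empty] at hi
    exact hi
  | quotient N p' e =>
    intro hi
    rw [support_hom_of_linearEquiv _ e] at hi
    refine ⟨p', ?_, hi⟩
    by_contra hle
    obtain ⟨s, hsp', hsp⟩ := Set.not_subset.1 hle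
    have h1 := Module.annihilator_le_of_mem_support hi
    apply hsp
    apply h1
    rw [Module.mem_annihilator]
    intro φ
    refine smul_hom_eq_zero _ _ s (fun y => ?_) φ
    obtain ⟨b, rfl⟩ := Ideal.Quotient.mk_surjective y
    change Ideal.Quotient.mk p'.asIdeal (s * b) = 0
    exact Ideal.Quotient.eq_zero_iff_mem.2 (p'.asIdeal.mul_mem_right _ hsp')
  | exact N₁ N₂ N₃ f g hf hg hfg h1 h3 =>
    intro hi
    rcases support_hom_of_exact Y N₁ N₂ N₃ f g hf hg hfg hi with h | h
    · exact h1 h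
    · exact h3 h

include hω hn in
/-- **S1719.** -/
theorem S1719 (p : Ideal A) (hp : p ∈ minimalPrimes A) (e : ℕ)
    (he : ringKrullDim (A ⧸ p) = e) (i : ℤ) :
    Nontrivial (LocalizedModule (Ideal.primeCompl p (hp := hp.1.1)) (Dual.HD A ω i)) ↔
      i = -(e : ℤ) := by
  let P : PrimeSpectrum A := ⟨p, hp.1.1⟩
  have hPe : Order.coheight P = e := by
    have h1 := supportDim_quotient_prime P
    rw [Module.supportDim_quotient_eq_ringKrullDim] at h1
    have h2 : (Order.coheight P : WithBot ℕ∞) = ((e : ℕ∞) : WithBot ℕ∞) := h1.symm.trans he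
    exact_mod_cast h2
  obtain ⟨eq⟩ := Groth.Agent.H4.US7.nonempty_HD_equiv ω i
  change P ∈ Module.support A (Dual.HD A ω i) ↔ _
  rw [eq.support_eq]
  constructor
  · intro h
    obtain ⟨p', hp'le, hp'⟩ := exists_prime_le_of_mem_support _ P A h
    have hpp : p' = P := le_antisymm hp'le (hp.2 ⟨p'.isPrime, bot_le⟩ hp'le)
    subst hpp
    have h1 : -(e : ℤ) ≤ i := by
      by_contra hcon
      haveI := subsingleton_ext_of_lt ω hω hn e (A ⧸ p) (by
        have := supportDim_quotient_prime P
        rw [hPe] at this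
        exact le_of_eq this) i (by omega)
      rw [Module.support_eq_empty] at hp'
      exact hp'
    have h2 : ¬ (-i < e) := fun hcon =>
      not_mem_support_of_lt ω hω hn P e hPe (A ⧸ p) i hcon hp'
    omega
  · intro hi
    subst hi
    refine mem_support_ext_of_minimalPrime ω hω hn A P ?_ e hPe
    have hann : Module.annihilator A A = ⊥ := by
      ext a
      rw [Module.mem_annihilator, Ideal.mem_bot]
      constructor
      · intro h
        have := h 1
        rwa [smul_eq_mul, mul_one] at this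
      · rintro rfl m
        exact zero_smul _ _
    rw [hann]
    exact hp

end local_

end Groth.Agent.H4.US11
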