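import Mathlib
import Groth.Agent.H4.US11
import Groth.Agent.H4.FB3

set_option autoImplicit false
universe u
open CategoryTheory Category Limits Pretriangulated

namespace Groth.Agent.H4.US12

attribute [local instance] HasDerivedCategory.standard
attribute [local instance] Groth.Agent.H4.LK4.hasLTen Groth.Agent.H4.LK5.hasLTen₃
  Groth.Agent.H4.KI7.isSymMonoidal Groth.Agent.H4.KI6.hasRHom

open DRing DTen DerivedCategory Groth.Agent.H4.DThick Groth.Agent.H4.DCompl1 Groth.Agent.H4.CF1
  Groth.Agent.H4.InjAmp Groth.Agent.H4.DZ1 Groth.Agent.H4.DZ2 Groth.Agent.H4.DZ3 Groth.Agent.H4.DZ4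
  Groth.Agent.H4.DZ5 Groth.Agent.H4.DZ6 Groth.Agent.H4.ProjAmp Groth.Agent.H4.US8 Groth.Agent.H4.US9
  Groth.Agent.H4.US10 Groth.Agent.H4.US11 Groth.Agent.H4.FB1 Groth.Agent.H4.FB2 Groth.Agent.H4.FB3

open scoped Pointwise TensorProduct

variable {A : Type u} [CommRing A] [IsNoetherianRing A]

section transfer

variable (p : PrimeSpectrum A)

/-- **closed point transfer**: `Hom` over the localization at `p` is nonzero iff `p` is in the
support of `Hom` over `A`. -/
theorem nontrivial_hom_E_iff (M K : Dual.D A) (a : ℤ) [K.IsGE a] (hM : IsPseudoCoherent' A M) :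
    Nontrivial ((E A (Localization.AtPrime p.asIdeal)).obj M ⟶
      (E A (Localization.AtPrime p.asIdeal)).obj K) ↔ p ∈ Module.support A (M ⟶ K) := by
  have hb := bijective_Psi_gammaE (B := Localization.AtPrime p.asIdeal) K a M hM
  let e1 := (adjE A (Localization.AtPrime p.asIdeal)).homEquiv M
    ((E A (Localization.AtPrime p.asIdeal)).obj K)
  let e2 := Equiv.ofBijective _ hb
  let e3 := (IsLocalizedModule.isBaseChange p.asIdeal.primeCompl (Localization.AtPrime p.asIdeal)
    (LocalizedModule.mkLinearMap p.asIdeal.primeCompl (M ⟶ K))).equiv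
  rw [Module.mem_support_iff, e1.nontrivial_congr, ← e2.nontrivial_congr,
    e3.toEquiv.nontrivial_congr]

omit [IsNoetherianRing A] in
lemma nontrivial_hom_congr_of_eq {B : Type u} [CommRing B] (Y : Dual.D B) (I J : Ideal B)
    (h : I = J) : Nontrivial (Dual.inD B (B ⧸ I) ⟶ Y) ↔ Nontrivial (Dual.inD B (B ⧸ J) ⟶ Y) := by
  subst h
  rfl

/-- for a dualizing complex, `Ext^i(A/p, ω)_p` is nonzero for exactly one `i`. -/
theorem exists_degree (ω : Dual.D A) (hω : Dual.IsDualizing A ω) :
    ∃ n : ℤ, ∀ i : ℤ,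
      p ∈ Module.support A (Dual.inD A (A ⧸ p.asIdeal) ⟶ ω⟦i⟧) ↔ i = n := by
  have hB : Dual.IsDualizing (Localization.AtPrime p.asIdeal)
      ((E A (Localization.AtPrime p.asIdeal)).obj ω) :=
    isDualizing_E_localization A p.asIdeal.primeCompl ω hω
  haveI : IsNoetherianRing (Localization.AtPrime p.asIdeal) :=
    IsLocalization.isNoetherianRing p.asIdeal.primeCompl _ inferInstance
  obtain ⟨n, hn⟩ := exists_extData ((E A (Localization.AtPrime p.asIdeal)).obj ω) hB
  obtain ⟨a, b, ha, -, -⟩ := exists_bounds_of_isDualizing ω hω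
  haveI := ha
  refine ⟨n, fun i => ?_⟩
  haveI : (ω⟦i⟧).IsGE (a - i) := TStructure.t.isGE_shift ω a i (a - i) (by ring)
  rw [← nontrivial_hom_E_iff p (Dual.inD A (A ⧸ p.asIdeal)) (ω⟦i⟧) (a - i)
    (isPC'_inD (A ⧸ p.asIdeal)),
    ((EQuotIso (B := Localization.AtPrime p.asIdeal) p.asIdeal).homCongr
      (EShiftIso ω i)).nontrivial_congr,
    nontrivial_hom_congr_of_eq _ _ _ (Localization.AtPrime.map_eq_maximalIdeal)]
  constructor
  · intro h
    by_contra hi
    haveI := hn.van i hi
    exact not_subsingleton _ ‹Subsingleton (Sk (Localization.AtPrime p.asIdeal) 0 ⟶ _)›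
  · intro hi
    obtain ⟨e⟩ := hn.top i hi
    haveI : Nontrivial (Localization.AtPrime p.asIdeal ⧸
        IsLocalRing.maximalIdeal (Localization.AtPrime p.asIdeal)) :=
      Ideal.Quotient.nontrivial_iff.2 (IsLocalRing.maximalIdeal.isMaximal _).ne_top
    exact e.nontrivial

end transfer

section dimfun

variable (ω : Dual.D A) (hω : Dual.IsDualizing A ω) (n : PrimeSpectrum A → ℤ)
  (hn : ∀ (p : PrimeSpectrum A) (i : ℤ),
    p ∈ Module.support A (Dual.inD A (A ⧸ p.asIdeal) ⟶ ω⟦i⟧) ↔ i = n p)

omit [IsNoetherianRing A] in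
lemma mem_zeroLocus_singleton (q : PrimeSpectrum A) (x : A) (hx : x ∈ q.asIdeal) :
    q ∈ PrimeSpectrum.zeroLocus ({x} : Set A) := by
  rw [PrimeSpectrum.mem_zeroLocus]
  intro y hy
  rw [Set.mem_singleton_iff] at hy
  rw [hy]
  exact hx

include hω in
/-- `Supp Ext^i(M) ∩ V(x) ⊆ Supp Ext^{i+1}(M/xM)` -/
lemma mem_support_step (M : Type u) [AddCommGroup M] [Module A M] [Module.Finite A M] (x : A)
    (hx : IsSMulRegular M x) (i : ℤ) (q : PrimeSpectrum A)
    (hq : q ∈ Module.support A (Dual.inD A M ⟶ ω⟦i⟧)) (hxq : x ∈ q.asIdeal) :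
    q ∈ Module.support A (Dual.inD A (QuotSMulTop x M) ⟶ ω⟦i + 1⟧) := by
  haveI := finite_ext ω hω M i
  have h1 := support_step (ω⟦i⟧) M x hx ⟨hq, mem_zeroLocus_singleton q x hxq⟩
  rw [support_shift_succ _ ω i (i + 1) rfl] at h1
  exact h1

include hω hn in
/-- vanishing of `Ext^i(M, ω)_q` above the degree `n q`. -/
theorem not_mem_support_of_gt (q : PrimeSpectrum A) (i : ℤ) (hi : n q < i)
    (M : Type u) [AddCommGroup M] [Module A M] [Module.Finite A M] :
    q ∉ Module.support A (Dual.inD A M ⟶ ω⟦i⟧) := by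
  obtain ⟨a, b, hab⟩ := hω.finite_injective_dimension
  have key : ∀ (k : ℕ) (i : ℤ), n q < i → b < i + k →
      ∀ (M : Type u) [AddCommGroup M] [Module A M] [Module.Finite A M],
        q ∉ Module.support A (Dual.inD A M ⟶ ω⟦i⟧) := by
    intro k
    induction k with
    | zero =>
      intro i _ hb M _ _ _ hq
      haveI := hab M i (Or.inr (by simpa using hb))
      rw [Module.support_eq_empty] at hq
      exact hq
    | succ k ih =>
      intro i hi hb M _ _ _ hq
      obtain ⟨p', hle, hp'⟩ := exists_prime_le_of_mem_support _ q M hq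
      rcases eq_or_lt_of_le hle with heq | hlt
      · subst heq
        have := (hn p' i).1 hp'
        omega
      · obtain ⟨x, hxq, hxp⟩ := Set.exists_of_ssubset (show p'.asIdeal < q.asIdeal from hlt)
        haveI := p'.isPrime
        have hreg := isSMulRegular_quotient_prime p'.asIdeal x hxp
        exact ih (i + 1) (by omega) (by push_cast at hb; omega) _
          (mem_support_step ω hω (A ⧸ p'.asIdeal) x hreg i q hp' hxq)
  exact key (b - i + 1).toNat i hi (by
    have := Int.self_le_toNat (b - i + 1)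
    omega) M

omit [IsNoetherianRing A] in
/-- if `x` kills `Hom(M, Y)` then its support is contained in that of `Hom(M/xM, Y)`. -/
lemma support_subset_of_smul_eq_zero (Y : Dual.D A) (M : Type u) [AddCommGroup M] [Module A M]
    (x : A) (hx : IsSMulRegular M x) (hs : ∀ φ : Dual.inD A M ⟶ Y, x • φ = 0) :
    Module.support A (Dual.inD A M ⟶ Y) ⊆
      Module.support A (Dual.inD A (QuotSMulTop x M) ⟶ Y) := by
  let μ := LinearMap.lsmul A M x
  let S : ShortComplex (ModuleCat.{u} A) :=
    ShortComplex.mk (ModuleCat.ofHom μ)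
      (ModuleCat.ofHom (x • (⊤ : Submodule A M)).mkQ) (by
      ext y
      change (x • (⊤ : Submodule A M)).mkQ (x • y) = 0
      rw [Submodule.mkQ_apply, Submodule.Quotient.mk_eq_zero]
      exact Submodule.smul_mem_pointwise_smul _ _ _ Submodule.mem_top)
  have hex : Function.Exact μ (x • (⊤ : Submodule A M)).mkQ := by
    rw [LinearMap.exact_iff, Submodule.ker_mkQ]
    ext y
    rw [Submodule.mem_smul_pointwise_iff_exists, LinearMap.mem_range]
    constructor
    · rintro ⟨z, -, hz⟩
      exact ⟨z, hz⟩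
    · rintro ⟨z, hz⟩
      exact ⟨z, Submodule.mem_top, hz⟩
  have hS : S.ShortExact := ModuleCat.shortComplex_shortExact S hex hx
    (Submodule.mkQ_surjective _)
  have hT := hS.singleTriangle_distinguished
  have hμ : ModuleCat.ofHom μ = x • 𝟙 (ModuleCat.of A M) := by
    ext y
    rfl
  refine Module.support_subset_of_surjective (Linear.leftComp A Y hS.singleTriangle.mor₂) ?_
  intro φ
  have h0 : hS.singleTriangle.mor₁ ≫ φ = 0 := by
    change (singleFunctor (ModuleCat.{u} A) 0).map (ModuleCat.ofHom μ) ≫ φ = 0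
    rw [hμ, Functor.map_smul, CategoryTheory.Functor.map_id, Linear.smul_comp, id_comp]
    exact hs φ
  obtain ⟨c, hc⟩ := Triangle.yoneda_exact₂ _ hT φ h0
  exact ⟨c, hc.symm⟩

/-- dévissage of supports of `Hom(-, Y)` to the modules `A/p'`, keeping track of annihilators. -/
lemma exists_prime_le_of_mem_support' (Y : Dual.D A) (p : PrimeSpectrum A) (I : Ideal A)
    (M : Type u) [AddCommGroup M] [Module A M] [hM : Module.Finite A M] :
    (∀ a ∈ I, ∀ y : M, a • y = 0) → p ∈ Module.support A (Dual.inD A M ⟶ Y) →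
      ∃ p' : PrimeSpectrum A, p' ≤ p ∧ I ≤ p'.asIdeal ∧
        p ∈ Module.support A (Dual.inD A (A ⧸ p'.asIdeal) ⟶ Y) := by
  induction hM using IsNoetherianRing.induction_on_isQuotientEquivQuotientPrime A with
  | subsingleton N =>
    intro _ hi
    exfalso
    haveI := subsingleton_hom_of_subsingleton Y N
    rw [Module.support_eq_empty] at hi
    exact hi
  | quotient N p' e =>
    intro hkill hi
    rw [support_hom_of_linearEquiv _ e] at hi
    have hIp : I ≤ p'.asIdeal := by
      intro a ha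
      have h1 := hkill a ha (e.symm 1)
      have h2 : a • (1 : A ⧸ p'.asIdeal) = 0 := by
        have := congrArg e h1
        rwa [map_smul, LinearEquiv.apply_symm_apply, map_zero] at this
      have h3 : Ideal.Quotient.mk p'.asIdeal a = 0 := by
        rw [← h2]
        rw [Algebra.smul_def, mul_one]
        rfl
      exact Ideal.Quotient.eq_zero_iff_mem.1 h3
    refine ⟨p', ?_, hIp, hi⟩
    by_contra hle'
    obtain ⟨s, hsp', hsp⟩ := Set.not_subset.1 hle'
    have h1 := Module.annihilator_le_of_mem_support hi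
    apply hsp
    apply h1
    rw [Module.mem_annihilator]
    intro φ
    refine smul_hom_eq_zero _ _ s (fun y => ?_) φ
    obtain ⟨b, rfl⟩ := Ideal.Quotient.mk_surjective y
    change Ideal.Quotient.mk p'.asIdeal (s * b) = 0
    exact Ideal.Quotient.eq_zero_iff_mem.2 (p'.asIdeal.mul_mem_right _ hsp')
  | exact N₁ N₂ N₃ f g hf hg hfg h1 h3 =>
    intro hkill hi
    rcases support_hom_of_exact Y N₁ N₂ N₃ f g hf hg hfg hi with h | h
    · refine h1 (fun a ha y => ?_) h
      apply hf
      rw [map_smul, hkill a ha, map_zero]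
    · refine h3 (fun a ha y => ?_) h
      obtain ⟨z, rfl⟩ := hg y
      rw [← map_smul, hkill a ha, map_zero]

omit [IsNoetherianRing A] in
lemma smul_quotSMulTop_quotient_eq_zero (p : Ideal A) (x : A) :
    ∀ a ∈ p ⊔ Ideal.span {x}, ∀ y : QuotSMulTop x (A ⧸ p), a • y = 0 := by
  intro a ha y
  obtain ⟨z, rfl⟩ := Submodule.mkQ_surjective _ y
  rw [Submodule.mem_sup] at ha
  obtain ⟨b, hb, c, hc, rfl⟩ := ha
  rw [Ideal.mem_span_singleton'] at hc
  obtain ⟨c', rfl⟩ := hc
  have hbz : b • z = 0 := by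
    obtain ⟨w, rfl⟩ := Ideal.Quotient.mk_surjective z
    change Ideal.Quotient.mk p (b * w) = 0
    exact Ideal.Quotient.eq_zero_iff_mem.2 (p.mul_mem_right _ hb)
  rw [← map_smul, Submodule.mkQ_apply, Submodule.Quotient.mk_eq_zero, add_smul,
    hbz, zero_add, mul_comm, mul_smul]
  exact Submodule.smul_mem_pointwise_smul _ _ _ Submodule.mem_top

omit [IsNoetherianRing A] in
lemma exact_lsmul_mkQ (M : Type u) [AddCommGroup M] [Module A M] (x : A) :
    Function.Exact (LinearMap.lsmul A M x) (x • (⊤ : Submodule A M)).mkQ := by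
  rw [LinearMap.exact_iff, Submodule.ker_mkQ]
  ext y
  rw [Submodule.mem_smul_pointwise_iff_exists, LinearMap.mem_range]
  constructor
  · rintro ⟨z, -, hz⟩
    exact ⟨z, hz⟩
  · rintro ⟨z, hz⟩
    exact ⟨z, Submodule.mem_top, hz⟩

include hω hn in
/-- **the degree drops by one along an immediate specialization.** -/
theorem degree_of_covBy (p q : PrimeSpectrum A) (hpq : p ⋖ q) : n p = n q - 1 := by
  haveI := p.isPrime
  obtain ⟨x, hxq, hxp⟩ := Set.exists_of_ssubset (show p.asIdeal < q.asIdeal from hpq.lt)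
  have hreg := isSMulRegular_quotient_prime p.asIdeal x hxp
  have hcov : ∀ p'' : PrimeSpectrum A, p < p'' → p'' ≤ q → p'' = q := fun p'' h1 h2 =>
    eq_of_le_of_not_lt h2 (hpq.2 h1)
  -- Step A
  have hA : q ∈ Module.support A (Dual.inD A (QuotSMulTop x (A ⧸ p.asIdeal)) ⟶ ω⟦n q⟧) := by
    have hqQ : q ∈ Module.support A (QuotSMulTop x (A ⧸ p.asIdeal)) :=
      (mem_support_quotSMulTop_quotient p q x).2 ⟨hpq.le, hxq⟩
    have hmin : q.asIdeal ∈ (Module.annihilator A
        (QuotSMulTop x (A ⧸ p.asIdeal))).minimalPrimes := by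
      refine ⟨⟨q.isPrime, Module.mem_support_iff_of_finite.1 hqQ⟩, ?_⟩
      rintro q' ⟨hq'prime, hq'ann⟩ hq'q
      let q'' : PrimeSpectrum A := ⟨q', hq'prime⟩
      have h1 : q'' ∈ Module.support A (QuotSMulTop x (A ⧸ p.asIdeal)) :=
        Module.mem_support_iff_of_finite.2 hq'ann
      obtain ⟨hpq', hxq'⟩ := (mem_support_quotSMulTop_quotient p q'' x).1 h1
      have hlt : p < q'' := lt_of_le_of_ne hpq' (by
        intro h
        apply hxp
        rw [h]
        exact hxq')
      have := hcov q'' hlt hq'q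
      rw [← this]
    have hass := Module.associatedPrimes.minimalPrimes_annihilator_subset_associatedPrimes A
      (QuotSMulTop x (A ⧸ p.asIdeal)) hmin
    obtain ⟨-, f, hf⟩ := (isAssociatedPrime_iff_exists_injective_linearMap _ _).1 hass
    have h2 := support_hom_les2 (ω⟦n q⟧) _ _ _ f (LinearMap.range f).mkQ hf
      (Submodule.mkQ_surjective _) (LinearMap.exact_map_mkQ_range f) ((hn q (n q)).2 rfl)
    rcases h2 with h | h
    · exact h
    · exfalso
      rw [support_shift_succ _ ω (n q) (n q + 1) rfl] at h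
      exact not_mem_support_of_gt ω hω n hn q (n q + 1) (by omega) _ h
  -- Step B
  have hB : ∀ i : ℤ, n q ≤ i →
      q ∉ Module.support A (Dual.inD A (A ⧸ p.asIdeal) ⟶ ω⟦i⟧) := by
    intro i hi h
    exact not_mem_support_of_gt ω hω n hn q (i + 1) (by omega) _
      (mem_support_step ω hω (A ⧸ p.asIdeal) x hreg i q h hxq)
  -- Step C
  have hC : q ∈ Module.support A (Dual.inD A (A ⧸ p.asIdeal) ⟶ ω⟦n q - 1⟧) := by
    have h3 := support_hom_les3 (ω⟦n q - 1⟧) _ _ _
      (LinearMap.lsmul A (A ⧸ p.asIdeal) x) (x • (⊤ : Submodule A (A ⧸ p.asIdeal))).mkQ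
      hreg (Submodule.mkQ_surjective _) (exact_lsmul_mkQ _ x)
    have e1 := fun (X : Dual.D A) => support_shift_succ X ω (n q - 1) (n q) (by ring)
    have hA' : q ∈ Module.support A (Dual.inD A (QuotSMulTop x (A ⧸ p.asIdeal)) ⟶
        (ω⟦n q - 1⟧)⟦(1 : ℤ)⟧) := by
      rw [e1]
      exact hA
    rcases h3 hA' with h | h
    · exact h
    · exfalso
      apply hB (n q) le_rfl
      rw [← e1]
      exact h
  -- Step D
  have hD : p ∈ Module.support A (Dual.inD A (A ⧸ p.asIdeal) ⟶ ω⟦n q - 1⟧) := by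
    haveI := finite_ext ω hω (A ⧸ p.asIdeal) (n q - 1)
    by_contra hp
    rw [Module.mem_support_iff_of_finite] at hp
    obtain ⟨s, hs, hsp⟩ := Set.not_subset.1 hp
    by_cases hsq : s ∈ q.asIdeal
    · have hregs := isSMulRegular_quotient_prime p.asIdeal s hsp
      have h1 := support_subset_of_smul_eq_zero (ω⟦n q - 1⟧) (A ⧸ p.asIdeal) s hregs
        (fun φ => Module.mem_annihilator.1 hs φ) hC
      obtain ⟨p'', hle, hI, hp''⟩ := exists_prime_le_of_mem_support' _ q
        (p.asIdeal ⊔ Ideal.span {s}) _ (smul_quotSMulTop_quotient_eq_zero p.asIdeal s) h1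
      have hlt : p < p'' := by
        refine lt_of_le_of_ne (le_sup_left.trans hI) ?_
        intro h
        apply hsp
        rw [h]
        exact hI (Ideal.mem_sup_right (Ideal.mem_span_singleton_self s))
      have := hcov p'' hlt hle
      subst this
      have := (hn p'' (n p'' - 1)).1 hp''
      omega
    · exact hsq (Module.annihilator_le_of_mem_support hC hs)
  have := (hn p (n q - 1)).1 hD
  omega

end dimfun

section finite_dim

variable (ω : Dual.D A) (hω : Dual.IsDualizing A ω) (n : PrimeSpectrum A → ℤ)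
  (hn : ∀ (p : PrimeSpectrum A) (i : ℤ),
    p ∈ Module.support A (Dual.inD A (A ⧸ p.asIdeal) ⟶ ω⟦i⟧) ↔ i = n p)

include hω hn in
lemma degree_mem_Icc (a b : ℤ)
    (hab : ∀ (M : Type u) [AddCommGroup M] [Module A M] (i : ℤ), i < a ∨ b < i →
      Subsingleton (Dual.inD A M ⟶ ω⟦i⟧)) (p : PrimeSpectrum A) : a ≤ n p ∧ n p ≤ b := by
  have h1 := (hn p (n p)).2 rfl
  by_contra hcon
  haveI := hab (A ⧸ p.asIdeal) (n p) (by omega)
  rw [Module.support_eq_empty] at h1
  exact h1

include hω hn in
/-- the degree function is strictly monotone. -/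
theorem degree_strictMono : ∀ (h : ℕ) (q : PrimeSpectrum A), q.asIdeal.height = h →
    ∀ p : PrimeSpectrum A, p < q → n p < n q := by
  intro h
  induction h using Nat.strong_induction_on with
  | _ h ih =>
  intro q hq p hpq
  -- a maximal element of `[p, q)`
  let S : Set (PrimeSpectrum A) := {c | p ≤ c ∧ c < q}
  have hwf : WellFounded ((· > ·) : PrimeSpectrum A → PrimeSpectrum A → Prop) :=
    InvImage.wf (fun c : PrimeSpectrum A => c.asIdeal) (wellFounded_gt (α := Ideal A))
  obtain ⟨c, ⟨hpc, hcq⟩, hcmax⟩ := hwf.has_min S ⟨p, le_rfl, hpq⟩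
  have hcov : c ⋖ q := by
    refine ⟨hcq, fun c' hcc' hc'q => ?_⟩
    exact hcmax c' ⟨hpc.trans hcc'.le, hc'q⟩ hcc'
  have h1 := degree_of_covBy ω hω n hn c q hcov
  rcases eq_or_lt_of_le hpc with heq | hlt
  · subst heq
    omega
  · haveI := c.isPrime
    haveI := q.isPrime
    have hht : c.asIdeal.height < q.asIdeal.height :=
      Ideal.height_strict_mono_of_isPrime (show c.asIdeal < q.asIdeal from hcq)
    obtain ⟨h', hh'⟩ : ∃ h' : ℕ, c.asIdeal.height = h' :=
      ⟨_, (ENat.natCast_toNat (Ideal.height_ne_top (by exact c.isPrime.ne_top))).symm⟩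
    have hlt' : h' < h := by
      rw [hh', hq] at hht
      exact_mod_cast hht
    have := ih h' hlt' c hh' p hlt
    omega

include hω in
/-- **S0371.** -/
theorem S0371 : ringKrullDim A < ⊤ := by
  choose n hn using fun p : PrimeSpectrum A => exists_degree p ω hω
  obtain ⟨a, b, hab⟩ := hω.finite_injective_dimension
  have hmono : ∀ p q : PrimeSpectrum A, p < q → n p < n q := by
    intro p q hpq
    haveI := q.isPrime
    obtain ⟨h, hh⟩ : ∃ h : ℕ, q.asIdeal.height = h :=
      ⟨_, (ENat.natCast_toNat (Ideal.height_ne_top (by exact q.isPrime.ne_top))).symm⟩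
    exact degree_strictMono ω hω n hn h q hh p hpq
  have hbound : ∀ s : LTSeries (PrimeSpectrum A), s.length ≤ (b - a).toNat := by
    intro s
    have key : ∀ k : ℕ, ∀ hk : k < s.length + 1,
        n (s ⟨0, Nat.succ_pos _⟩) + k ≤ n (s ⟨k, hk⟩) := by
      intro k
      induction k with
      | zero => intro hk; simp
      | succ k ih =>
        intro hk
        have h1 := ih (by omega)
        have h2 : s ⟨k, by omega⟩ < s ⟨k + 1, hk⟩ := s.strictMono (by
          rw [Fin.lt_def]
          exact Nat.lt_succ_self k)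
        have h3 := hmono _ _ h2
        push_cast
        omega
    have h1 := key s.length (Nat.lt_succ_self _)
    have h2 := degree_mem_Icc ω hω n hn a b hab (s ⟨0, Nat.succ_pos _⟩)
    have h3 := degree_mem_Icc ω hω n hn a b hab (s ⟨s.length, Nat.lt_succ_self _⟩)
    omega
  have hle : ringKrullDim A ≤ (((b - a).toNat : ℕ∞) : WithBot ℕ∞) := by
    unfold ringKrullDim Order.krullDim
    refine iSup_le (fun s => ?_)
    exact_mod_cast hbound s
  refine lt_of_le_of_lt hle ?_
  rw [← WithBot.coe_top]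
  exact WithBot.coe_lt_coe.2 (ENat.natCast_lt_top _)

end finite_dim

/-- **S1722.** -/
theorem S1722 (ω : Dual.D A) (hω : Dual.IsDualizing A ω) :
    ∃ δ : PrimeSpectrum A → ℤ,
      (∀ (p : PrimeSpectrum A) (i : ℤ),
        Nontrivial (LocalizedModule p.asIdeal.primeCompl
          (Dual.inD A (A ⧸ p.asIdeal) ⟶ ω⟦i⟧)) ↔ i = -δ p) ∧
      ∀ p q : PrimeSpectrum A, p ⋖ q → δ p = δ q + 1 := by
  choose n hn using fun p : PrimeSpectrum A => exists_degree p ω hω
  refine ⟨fun p => -n p, fun p i => ?_, fun p q hpq => ?_⟩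
  · rw [← Module.mem_support_iff, hn p i, neg_neg]
  · have := degree_of_covBy ω hω n hn p q hpq
    change -n p = -n q + 1
    omega

end Groth.Agent.H4.US12
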