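import Mathlib
import Groth.Agent.H4.US12

set_option autoImplicit false
universe u
open CategoryTheory Category Limits Pretriangulated

namespace Groth.Agent.H4.US13

attribute [local instance] HasDerivedCategory.standard
attribute [local instance] Groth.Agent.H4.LK4.hasLTen Groth.Agent.H4.LK5.hasLTen₃
  Groth.Agent.H4.KI7.isSymMonoidal Groth.Agent.H4.KI6.hasRHom

open DRing DTen DerivedCategory Groth.Agent.H4.DThick Groth.Agent.H4.DCompl1 Groth.Agent.H4.CF1
  Groth.Agent.H4.InjAmp Groth.Agent.H4.DZ1 Groth.Agent.H4.DZ2 Groth.Agent.H4.DZ3 Groth.Agent.H4.DZ4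
  Groth.Agent.H4.DZ5 Groth.Agent.H4.DZ6 Groth.Agent.H4.ProjAmp Groth.Agent.H4.US8 Groth.Agent.H4.US9
  Groth.Agent.H4.US10 Groth.Agent.H4.US11 Groth.Agent.H4.US12
  Groth.Agent.H4.FB1 Groth.Agent.H4.FB2 Groth.Agent.H4.FB3

open scoped Pointwise TensorProduct

variable {A : Type u} [CommRing A]

section shift

/-- `Hom(X, (Y[n])[i]) ≃ Hom(X, Y[m])` for `n + i = m`. -/
noncomputable def homShiftShiftLinEquiv (X Y : Dual.D A) (n i m : ℤ) (h : n + i = m) :
    (X ⟶ (Y⟦n⟧)⟦i⟧) ≃ₗ[A] (X ⟶ Y⟦m⟧) :=
  homIsoLinEquiv X ((CategoryTheory.shiftFunctorAdd' (Dual.D A) n i m h).app Y).symm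

/-- `Hom(X[n], Y[n]) ≃ Hom(X, Y)`. -/
noncomputable def shiftShiftHomLinEquiv (X Y : Dual.D A) (n : ℤ) :
    (X⟦n⟧ ⟶ Y⟦n⟧) ≃ₗ[A] (X ⟶ Y) :=
  (shiftHomLinEquiv (X⟦n⟧) Y (-n) n (by simp)).symm.trans
    (isoHomLinEquiv (shiftShiftNeg X n) Y)

/-- a shift of a dualizing complex is dualizing. -/
theorem isDualizing_shift (ω : Dual.D A) (hω : Dual.IsDualizing A ω) (n : ℤ) :
    Dual.IsDualizing A (ω⟦n⟧) := by
  haveI := hω.isNoetherianRing
  refine ⟨hω.isNoetherianRing, ?_, finite_HD_shift ω hω.finite_cohomology n, ?_, ?_⟩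
  · obtain ⟨a, b, hab⟩ := hω.finite_injective_dimension
    refine ⟨a - n, b - n, fun M _ _ i hi => ?_⟩
    haveI := hab M (n + i) (by omega)
    exact (homShiftShiftLinEquiv (Dual.inD A M) ω n i (n + i) rfl).toEquiv.subsingleton
  · have hbij := (Functor.FullyFaithful.ofFullyFaithful
      (shiftFunctor (Dual.D A) n)).map_bijective ω ω
    have : (fun a : A => a • 𝟙 (ω⟦n⟧)) =
        (fun f : ω ⟶ ω => (shiftFunctor (Dual.D A) n).map f) ∘ (fun a : A => a • 𝟙 ω) := by
      funext a
      change _ = (shiftFunctor (Dual.D A) n).map (a • 𝟙 ω)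
      rw [Functor.map_smul, CategoryTheory.Functor.map_id]
    rw [this]
    exact hbij.comp hω.toEnd_bijective
  · intro i hi
    haveI := hω.ext_self_subsingleton i hi
    let e1 : (ω⟦n⟧ ⟶ (ω⟦n⟧)⟦i⟧) ≃ₗ[A] (ω⟦n⟧ ⟶ (ω⟦i⟧)⟦n⟧) :=
      homIsoLinEquiv _ (shiftComm ω n i)
    exact (e1.trans (shiftShiftHomLinEquiv ω (ω⟦i⟧) n)).toEquiv.subsingleton

end shift

section local_

variable [IsLocalRing A] [IsNoetherianRing A] (ω : Dual.D A) (hω : Dual.IsDualizing A ω)
  (n : ℤ) (hn : ExtData ω n)

include hn in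
omit [IsNoetherianRing A] in
lemma isNormalized_shift : Dual.IsNormalized A (ω⟦n⟧) := by
  intro i hi
  haveI := hn.van (n + i) (by omega)
  exact (homShiftShiftLinEquiv (Sk A 0) ω n i (n + i) rfl).toEquiv.subsingleton

omit [IsLocalRing A] [IsNoetherianRing A] in
/-- `Hom(A, (ω[n])[j]) ≃ H^{n+j}(ω)` -/
lemma nonempty_hom_shift_equiv_HD (j m : ℤ) (h : n + j = m) :
    Nonempty ((Dual.inD A A ⟶ (ω⟦n⟧)⟦j⟧) ≃ₗ[A] Dual.HD A ω m) := by
  obtain ⟨e⟩ := Groth.Agent.H4.US7.nonempty_HD_equiv ω m
  exact ⟨(homShiftShiftLinEquiv (Dual.inD A A) ω n j m h).trans e.symm⟩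

include hω hn in
/-- the range of the cohomology of a dualizing complex over a local ring. -/
theorem cohomology_range (d : ℕ) (hd : ringKrullDim A = d) :
    ∃ δ : ℕ, LocCoh.depth A A = δ ∧ Nontrivial (Dual.HD A ω (n - d)) ∧
      Nontrivial (Dual.HD A ω (n - δ)) ∧
      ∀ i : ℤ, Nontrivial (Dual.HD A ω i) → n - d ≤ i ∧ i ≤ n - δ := by
  have hdual := isDualizing_shift ω hω n
  have hnorm := isNormalized_shift ω n hn
  have hsd : Module.supportDim A A = d := by
    rw [Module.supportDim_self_eq_ringKrullDim, hd]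
  obtain ⟨δ, hdep, hlt, hnt⟩ := exists_depth_eq (ω⟦n⟧) hdual hnorm A
  have h19 := S19859 (ω⟦n⟧) hdual hnorm A d hsd
  refine ⟨δ, hdep, ?_, ?_, fun i hi => ?_⟩
  · obtain ⟨e⟩ := nonempty_hom_shift_equiv_HD ω n (-(d : ℤ)) (n - d) (by ring)
    exact e.symm.nontrivial
  · obtain ⟨e⟩ := nonempty_hom_shift_equiv_HD ω n (-(δ : ℤ)) (n - δ) (by ring)
    exact e.symm.nontrivial
  · obtain ⟨e⟩ := nonempty_hom_shift_equiv_HD ω n (i - n) i (by ring)
    haveI : Nontrivial (Dual.inD A A ⟶ (ω⟦n⟧)⟦i - n⟧) := e.nontrivial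
    obtain ⟨h1, h2⟩ := (S0366 (ω⟦n⟧) hdual hnorm A d hsd (i - n)).1 inferInstance
    refine ⟨by omega, ?_⟩
    by_contra hcon
    have h3 := hlt (-(i - n)).toNat (by omega)
    have h4 : (-(((-(i - n)).toNat : ℕ) : ℤ)) = i - n := by omega
    rw [h4] at h3
    exact not_subsingleton _ h3

include hω in
/-- **a local ring with a dualizing complex is Cohen–Macaulay iff the complex has cohomology in
exactly one degree.** -/
theorem isCM_iff : LocCoh.IsCohenMacaulayLocalRing A ↔
    ∀ i j : ℤ, Nontrivial (Dual.HD A ω i) → Nontrivial (Dual.HD A ω j) → i = j := by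
  obtain ⟨n, hn⟩ := exists_extData ω hω
  obtain ⟨d, hd⟩ : ∃ d : ℕ, ringKrullDim A = d := by
    have h1 : ringKrullDim A ≠ ⊥ := ringKrullDim_ne_bot
    have h2 : ringKrullDim A ≠ ⊤ := ringKrullDim_ne_top
    obtain ⟨k, hk⟩ := WithBot.ne_bot_iff_exists.1 h1
    have h3 : k ≠ ⊤ := by
      intro h
      rw [h] at hk
      exact h2 hk.symm
    refine ⟨k.toNat, ?_⟩
    rw [← hk]
    conv_lhs => rw [← ENat.natCast_toNat h3]
    rfl
  obtain ⟨δ, hdep, h1, h2, h3⟩ := cohomology_range ω hω n hn d hd
  have hsd : Module.supportDim A A = d := by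
    rw [Module.supportDim_self_eq_ringKrullDim, hd]
  constructor
  · intro hCM i j hi hj
    have h4 := hCM.supportDim_eq_depth
    rw [hsd, hdep] at h4
    have hdδ : d = δ := by exact_mod_cast h4
    have := h3 i hi
    have := h3 j hj
    omega
  · intro h
    have := h _ _ h1 h2
    have hdδ : d = δ := by omega
    exact { supportDim_eq_depth := by rw [hsd, hdep, hdδ]; rfl }

end local_

section global

variable [IsNoetherianRing A] (p : PrimeSpectrum A)

/-- cohomology of the localization of a complex. -/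
theorem nontrivial_HD_E_iff (K : Dual.D A) (i : ℤ) :
    Nontrivial (Dual.HD (Localization.AtPrime p.asIdeal)
      ((E A (Localization.AtPrime p.asIdeal)).obj K) i) ↔
      p ∈ Module.support A (Dual.HD A K i) := by
  let e1 := (homologyEIso (B := Localization.AtPrime p.asIdeal) K i).toLinearEquiv
  let e2 := Groth.Agent.H8.ExtBridge.extEquiv (A := A) (B := Localization.AtPrime p.asIdeal)
    ((homologyFunctor (ModuleCat.{u} A) i).obj K)
  let e3 := (IsLocalizedModule.isBaseChange p.asIdeal.primeCompl (Localization.AtPrime p.asIdeal)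
    (LocalizedModule.mkLinearMap p.asIdeal.primeCompl (Dual.HD A K i))).equiv
  rw [Module.mem_support_iff]
  exact (e1.trans (e2.trans e3)).toEquiv.nontrivial_congr

/-- **the Cohen–Macaulay locus in terms of a dualizing complex.** -/
theorem isCM_localization_iff (ω : Dual.D A) (hω : Dual.IsDualizing A ω) :
    LocCoh.IsCohenMacaulayLocalRing (Localization.AtPrime p.asIdeal) ↔
      ∀ i j : ℤ, p ∈ Module.support A (Dual.HD A ω i) → p ∈ Module.support A (Dual.HD A ω j) →
        i = j := by
  have hB : Dual.IsDualizing (Localization.AtPrime p.asIdeal)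
      ((E A (Localization.AtPrime p.asIdeal)).obj ω) :=
    isDualizing_E_localization A p.asIdeal.primeCompl ω hω
  haveI : IsNoetherianRing (Localization.AtPrime p.asIdeal) :=
    IsLocalization.isNoetherianRing p.asIdeal.primeCompl _ inferInstance
  rw [isCM_iff _ hB]
  simp only [nontrivial_HD_E_iff]

/-- **S0370.** -/
theorem S0370 (W : Type u) [AddCommGroup W] [Module A W] [Module.Finite A W]
    (h : Dual.IsDualizing A (Dual.inD A W)) : LocCoh.IsCohenMacaulayRing A := by
  have hsub : ∀ i : ℤ, i ≠ 0 → Subsingleton (Dual.HD A (Dual.inD A W) i) := by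
    intro i hi
    apply ModuleCat.subsingleton_of_isZero
    rcases lt_or_gt_of_ne hi with h' | h'
    · exact isZero_of_isGE (Dual.inD A W) 0 i h'
    · exact isZero_of_isLE (Dual.inD A W) 0 i h'
  refine { isCohenMacaulayLocalRing_localization := fun q hq => ?_ }
  let P : PrimeSpectrum A := ⟨q, hq⟩
  refine (isCM_localization_iff P _ h).2 (fun i j hi hj => ?_)
  have hi0 : i = 0 := by
    by_contra hcon
    haveI := hsub i hcon
    rw [Module.support_eq_empty] at hi
    exact hi
  have hj0 : j = 0 := by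
    by_contra hcon
    haveI := hsub j hcon
    rw [Module.support_eq_empty] at hj
    exact hj
  rw [hi0, hj0]

/-- **S0372.** -/
theorem S0372 (ω : Dual.D A) (hω : Dual.IsDualizing A ω) :
    IsOpen {p : PrimeSpectrum A |
      LocCoh.IsCohenMacaulayLocalRing (Localization.AtPrime p.asIdeal)} ∧
    Dense {p : PrimeSpectrum A |
      LocCoh.IsCohenMacaulayLocalRing (Localization.AtPrime p.asIdeal)} := by
  obtain ⟨a, b, ha, hb, -⟩ := exists_bounds_of_isDualizing ω hω
  haveI := ha
  haveI := hb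
  have hsub : ∀ i : ℤ, i < a ∨ b < i → Module.support A (Dual.HD A ω i) = ∅ := by
    intro i hi
    haveI : Subsingleton (Dual.HD A ω i) := by
      apply ModuleCat.subsingleton_of_isZero
      rcases hi with h' | h'
      · exact isZero_of_isGE ω a i h'
      · exact isZero_of_isLE ω b i h'
    exact Module.support_eq_empty
  constructor
  · -- the complement is a finite union of closed sets
    have hcompl : {p : PrimeSpectrum A |
        LocCoh.IsCohenMacaulayLocalRing (Localization.AtPrime p.asIdeal)}ᶜ =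
        ⋃ x ∈ ((Finset.Icc a b ×ˢ Finset.Icc a b).filter (fun x : ℤ × ℤ => x.1 ≠ x.2) :
          Finset (ℤ × ℤ)),
          (Module.support A (Dual.HD A ω x.1) ∩ Module.support A (Dual.HD A ω x.2)) := by
      ext p
      simp only [Set.mem_compl_iff, Set.mem_ofPred_eq, Set.mem_iUnion, Set.mem_inter_iff,
        exists_prop]
      rw [isCM_localization_iff p ω hω]
      constructor
      · intro h
        rw [not_forall] at h
        obtain ⟨i, h⟩ := h
        rw [not_forall] at h
        obtain ⟨j, h⟩ := h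
        rw [Classical.not_imp] at h
        obtain ⟨hi, h⟩ := h
        rw [Classical.not_imp] at h
        obtain ⟨hj, hij⟩ := h
        refine ⟨(i, j), ?_, hi, hj⟩
        rw [Finset.mem_filter, Finset.mem_product, Finset.mem_Icc, Finset.mem_Icc]
        refine ⟨⟨⟨?_, ?_⟩, ⟨?_, ?_⟩⟩, hij⟩
        · by_contra hcon
          rw [hsub i (Or.inl (by omega))] at hi
          exact hi
        · by_contra hcon
          rw [hsub i (Or.inr (by omega))] at hi
          exact hi
        · by_contra hcon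
          rw [hsub j (Or.inl (by omega))] at hj
          exact hj
        · by_contra hcon
          rw [hsub j (Or.inr (by omega))] at hj
          exact hj
      · rintro ⟨⟨i, j⟩, hx, hi, hj⟩ h
        rw [Finset.mem_filter] at hx
        exact hx.2 (h i j hi hj)
    rw [← isClosed_compl_iff, hcompl]
    refine Set.Finite.isClosed_biUnion (Finset.finite_toSet _) (fun x _ => ?_)
    haveI := hω.finite_cohomology x.1
    haveI := hω.finite_cohomology x.2
    exact (Module.isClosed_support (R := A) (M := Dual.HD A ω x.1)).inter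
      (Module.isClosed_support (R := A) (M := Dual.HD A ω x.2))
  · -- the locus contains all minimal primes
    rw [dense_iff_inter_open]
    rintro U hU ⟨q, hq⟩
    obtain ⟨p, hpmin, hple⟩ := Ideal.exists_minimalPrimes_le (show (⊥ : Ideal A) ≤ q.asIdeal from
      bot_le)
    obtain ⟨P, hP⟩ : ∃ P : PrimeSpectrum A, P.asIdeal = p := ⟨⟨p, hpmin.1.1⟩, rfl⟩
    subst hP
    have hPq : P ⤳ q := (PrimeSpectrum.le_iff_specializes P q).1 hple
    refine ⟨P, hPq.mem_open hU hq, ?_⟩
    -- `A_P` has dimension zero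
    change LocCoh.IsCohenMacaulayLocalRing (Localization.AtPrime P.asIdeal)
    have hB : Dual.IsDualizing (Localization.AtPrime P.asIdeal)
        ((E A (Localization.AtPrime P.asIdeal)).obj ω) :=
      isDualizing_E_localization A P.asIdeal.primeCompl ω hω
    haveI : IsNoetherianRing (Localization.AtPrime P.asIdeal) :=
      IsLocalization.isNoetherianRing P.asIdeal.primeCompl _ inferInstance
    obtain ⟨n, hn⟩ := exists_extData _ hB
    have hd : ringKrullDim (Localization.AtPrime P.asIdeal) = ((0 : ℕ) : WithBot ℕ∞) := by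
      rw [IsLocalization.AtPrime.ringKrullDim_eq_height P.asIdeal
        (Localization.AtPrime P.asIdeal)]
      have : P.asIdeal.height = 0 := Ideal.height_eq_zero_iff.2 hpmin
      rw [this]
      rfl
    obtain ⟨δ, hdep, h1, h2, h3⟩ := cohomology_range _ hB n hn 0 hd
    have := h3 _ h2
    have hδ : δ = 0 := by omega
    refine { supportDim_eq_depth := ?_ }
    rw [Module.supportDim_self_eq_ringKrullDim, hd, hdep, hδ]
    rfl

end global

end Groth.Agent.H4.US13
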