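import Mathlib
import Groth.Agent.H4.US13
import Groth.Agent.Lib.Helper6.HomKer

set_option autoImplicit false
universe u
open CategoryTheory Category Limits Pretriangulated

namespace Groth.Agent.H4.US14

attribute [local instance] HasDerivedCategory.standard
attribute [local instance] Groth.Agent.H4.LK4.hasLTen Groth.Agent.H4.LK5.hasLTen₃
  Groth.Agent.H4.KI7.isSymMonoidal Groth.Agent.H4.KI6.hasRHom

open DRing DTen DerivedCategory Groth.Agent.H4.DThick Groth.Agent.H4.DCompl1 Groth.Agent.H4.CF1
  Groth.Agent.H4.InjAmp Groth.Agent.H4.DZ1 Groth.Agent.H4.DZ2 Groth.Agent.H4.DZ3 Groth.Agent.H4.DZ4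
  Groth.Agent.H4.DZ5 Groth.Agent.H4.DZ6 Groth.Agent.H4.ProjAmp Groth.Agent.H4.US8 Groth.Agent.H4.US9
  Groth.Agent.H4.US10 Groth.Agent.H4.US11 Groth.Agent.H4.US12 Groth.Agent.H4.US13
  Groth.Agent.H4.FB1 Groth.Agent.H4.FB2 Groth.Agent.H4.FB3

open scoped Pointwise TensorProduct

variable {A : Type u} [CommRing A]

section local_

variable [IsLocalRing A] [IsNoetherianRing A] (ω : Dual.D A) (hω : Dual.IsDualizing A ω)
  (n : ℤ) (hn : ExtData ω n)
  (M : Type u) [AddCommGroup M] [Module A M] [Module.Finite A M] [Nontrivial M]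

include hω hn in
/-- the range of `Ext^i(M, ω)` for a dualizing complex over a local ring. -/
theorem ext_range (d : ℕ) (hd : Module.supportDim A M = d) :
    ∃ δ : ℕ, LocCoh.depth A M = δ ∧ Nontrivial (Dual.inD A M ⟶ ω⟦n - d⟧) ∧
      Nontrivial (Dual.inD A M ⟶ ω⟦n - δ⟧) ∧
      ∀ i : ℤ, Nontrivial (Dual.inD A M ⟶ ω⟦i⟧) → n - d ≤ i ∧ i ≤ n - δ := by
  have hdual := isDualizing_shift ω hω n
  have hnorm := isNormalized_shift ω n hn
  obtain ⟨δ, hdep, hlt, hnt⟩ := exists_depth_eq (ω⟦n⟧) hdual hnorm M
  have h19 := S19859 (ω⟦n⟧) hdual hnorm M d hd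
  refine ⟨δ, hdep, ?_, ?_, fun i hi => ?_⟩
  · exact (homShiftShiftLinEquiv (Dual.inD A M) ω n (-(d : ℤ)) (n - d) (by ring)).symm.nontrivial
  · exact (homShiftShiftLinEquiv (Dual.inD A M) ω n (-(δ : ℤ)) (n - δ) (by ring)).symm.nontrivial
  · haveI : Nontrivial (Dual.inD A M ⟶ (ω⟦n⟧)⟦i - n⟧) :=
      (homShiftShiftLinEquiv (Dual.inD A M) ω n (i - n) i (by ring)).nontrivial
    obtain ⟨h1, h2⟩ := (S0366 (ω⟦n⟧) hdual hnorm M d hd (i - n)).1 inferInstance
    refine ⟨by omega, ?_⟩
    by_contra hcon
    have h3 := hlt (-(i - n)).toNat (by omega)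
    have h4 : (-(((-(i - n)).toNat : ℕ) : ℤ)) = i - n := by omega
    rw [h4] at h3
    exact not_subsingleton _ h3

omit [IsNoetherianRing A] [Nontrivial M] in
lemma exists_supportDim_eq [IsNoetherianRing A] [Nontrivial M] :
    ∃ d : ℕ, Module.supportDim A M = d := by
  have h1 : Module.supportDim A M ≠ ⊥ := Module.supportDim_ne_bot_of_nontrivial A M
  have h2 : Module.supportDim A M ≠ ⊤ := by
    intro h
    have := Module.supportDim_le_ringKrullDim A M
    rw [h, top_le_iff] at this
    exact ringKrullDim_ne_top this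
  obtain ⟨k, hk⟩ := WithBot.ne_bot_iff_exists.1 h1
  have h3 : k ≠ ⊤ := by
    intro h
    rw [h] at hk
    exact h2 hk.symm
  refine ⟨k.toNat, ?_⟩
  rw [← hk]
  conv_lhs => rw [← ENat.natCast_toNat h3]
  rfl

include hω in
/-- a nonzero finite module over a local ring with a dualizing complex is Cohen–Macaulay iff
`Ext^i(M, ω)` is nonzero for exactly one `i`. -/
theorem isCM_module_iff : LocCoh.IsCohenMacaulayModule A M ↔
    ∀ i j : ℤ, Nontrivial (Dual.inD A M ⟶ ω⟦i⟧) → Nontrivial (Dual.inD A M ⟶ ω⟦j⟧) → i = j := by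
  obtain ⟨n, hn⟩ := exists_extData ω hω
  obtain ⟨d, hd⟩ := exists_supportDim_eq (A := A) M
  obtain ⟨δ, hdep, h1, h2, h3⟩ := ext_range ω hω n hn M d hd
  unfold LocCoh.IsCohenMacaulayModule
  rw [hd, hdep]
  constructor
  · intro h4 i j hi hj
    have hdδ : d = δ := by exact_mod_cast h4
    have := h3 i hi
    have := h3 j hj
    omega
  · intro h
    have := h _ _ h1 h2
    have hdδ : d = δ := by omega
    rw [hdδ]
    rfl

end local_

section global

variable [IsNoetherianRing A] (p : PrimeSpectrum A)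
  (M : Type u) [AddCommGroup M] [Module A M] [Module.Finite A M]

/-- `E (M[0]) ≅ M_p[0]`. -/
noncomputable def ELocIso :
    (E A (Localization.AtPrime p.asIdeal)).obj (Dual.inD A M) ≅
      Dual.inD (Localization.AtPrime p.asIdeal) (LocalizedModule p.asIdeal.primeCompl M) :=
  ESingleIso (ModuleCat.of A M) 0 ≪≫
    (singleFunctor (ModuleCat.{u} (Localization.AtPrime p.asIdeal)) 0).mapIso
      ((Groth.Agent.H8.ExtBridge.extEquiv (A := A) (B := Localization.AtPrime p.asIdeal)
        (ModuleCat.of A M)).trans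
        (IsLocalizedModule.isBaseChange p.asIdeal.primeCompl (Localization.AtPrime p.asIdeal)
          (LocalizedModule.mkLinearMap p.asIdeal.primeCompl M)).equiv).toModuleIso

/-- transfer of `Ext` against a dualizing complex to the localization. -/
theorem nontrivial_ext_loc_iff (ω : Dual.D A) (hω : Dual.IsDualizing A ω) (i : ℤ) :
    Nontrivial (Dual.inD (Localization.AtPrime p.asIdeal)
      (LocalizedModule p.asIdeal.primeCompl M) ⟶
        ((E A (Localization.AtPrime p.asIdeal)).obj ω)⟦i⟧) ↔
      p ∈ Module.support A (Dual.inD A M ⟶ ω⟦i⟧) := by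
  obtain ⟨a, b, ha, -, -⟩ := exists_bounds_of_isDualizing ω hω
  haveI := ha
  haveI : (ω⟦i⟧).IsGE (a - i) := TStructure.t.isGE_shift ω a i (a - i) (by ring)
  rw [← nontrivial_hom_E_iff p (Dual.inD A M) (ω⟦i⟧) (a - i) (isPC'_inD M)]
  exact ((ELocIso p M).homCongr (EShiftIso ω i)).nontrivial_congr.symm

omit [Module.Finite A M] in
/-- `Ext^i(M, Y)_p = 0` for `p ∉ Supp M`. -/
lemma not_mem_support_hom_of_not_mem_support [Module.Finite A M] (Y : Dual.D A)
    (hp : p ∉ Module.support A M) : p ∉ Module.support A (Dual.inD A M ⟶ Y) := by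
  intro h
  rw [Module.mem_support_iff_of_finite] at hp
  obtain ⟨s, hs, hsp⟩ := Set.not_subset.1 hp
  apply hsp
  apply Module.annihilator_le_of_mem_support h
  rw [Module.mem_annihilator]
  intro φ
  exact smul_hom_eq_zero _ _ s (fun y => Module.mem_annihilator.1 hs y) φ

/-- **the Cohen–Macaulay locus of a module in terms of a dualizing complex.** -/
theorem isCM_module_localization_iff (ω : Dual.D A) (hω : Dual.IsDualizing A ω) :
    (Subsingleton (LocalizedModule p.asIdeal.primeCompl M) ∨
      LocCoh.IsCohenMacaulayModule (Localization.AtPrime p.asIdeal)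
        (LocalizedModule p.asIdeal.primeCompl M)) ↔
      ∀ i j : ℤ, p ∈ Module.support A (Dual.inD A M ⟶ ω⟦i⟧) →
        p ∈ Module.support A (Dual.inD A M ⟶ ω⟦j⟧) → i = j := by
  have hB : Dual.IsDualizing (Localization.AtPrime p.asIdeal)
      ((E A (Localization.AtPrime p.asIdeal)).obj ω) :=
    isDualizing_E_localization A p.asIdeal.primeCompl ω hω
  haveI : IsNoetherianRing (Localization.AtPrime p.asIdeal) :=
    IsLocalization.isNoetherianRing p.asIdeal.primeCompl _ inferInstance
  haveI : Module.Finite (Localization.AtPrime p.asIdeal)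
      (LocalizedModule p.asIdeal.primeCompl M) :=
    Module.Finite.of_isLocalizedModule p.asIdeal.primeCompl
      (LocalizedModule.mkLinearMap p.asIdeal.primeCompl M)
  by_cases hp : p ∈ Module.support A M
  · haveI : Nontrivial (LocalizedModule p.asIdeal.primeCompl M) := Module.mem_support_iff.1 hp
    rw [isCM_module_iff _ hB]
    simp only [nontrivial_ext_loc_iff p M ω hω]
    constructor
    · rintro (h | h)
      · exact absurd h (not_subsingleton _)
      · exact h
    · intro h
      exact Or.inr h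
  · constructor
    · intro _ i j hi _
      exact absurd hi (not_mem_support_hom_of_not_mem_support p M _ hp)
    · intro _
      left
      rw [Module.mem_support_iff] at hp
      exact not_nontrivial_iff_subsingleton.1 hp

/-- **S1716.** -/
theorem S1716 (hA : ∃ ω : Dual.D A, Dual.IsDualizing A ω) :
    IsOpen {p : PrimeSpectrum A | Subsingleton (LocalizedModule p.asIdeal.primeCompl M) ∨
      LocCoh.IsCohenMacaulayModule (Localization.AtPrime p.asIdeal)
        (LocalizedModule p.asIdeal.primeCompl M)} ∧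
    Module.support A M ⊆ closure ({p : PrimeSpectrum A |
      LocCoh.IsCohenMacaulayModule (Localization.AtPrime p.asIdeal)
        (LocalizedModule p.asIdeal.primeCompl M)} ∩ Module.support A M) := by
  obtain ⟨ω, hω⟩ := hA
  obtain ⟨a, b, hab⟩ := hω.finite_injective_dimension
  have hsub : ∀ i : ℤ, i < a ∨ b < i → Module.support A (Dual.inD A M ⟶ ω⟦i⟧) = ∅ := by
    intro i hi
    haveI := hab M i hi
    exact Module.support_eq_empty
  constructor
  · have hcompl : {p : PrimeSpectrum A | Subsingleton (LocalizedModule p.asIdeal.primeCompl M) ∨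
        LocCoh.IsCohenMacaulayModule (Localization.AtPrime p.asIdeal)
          (LocalizedModule p.asIdeal.primeCompl M)}ᶜ =
        ⋃ x ∈ ((Finset.Icc a b ×ˢ Finset.Icc a b).filter (fun x : ℤ × ℤ => x.1 ≠ x.2) :
          Finset (ℤ × ℤ)),
          (Module.support A (Dual.inD A M ⟶ ω⟦x.1⟧) ∩
            Module.support A (Dual.inD A M ⟶ ω⟦x.2⟧)) := by
      ext p
      simp only [Set.mem_compl_iff, Set.mem_ofPred_eq, Set.mem_iUnion, Set.mem_inter_iff,
        exists_prop]
      rw [isCM_module_localization_iff p M ω hω]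
      constructor
      · intro h
        rw [not_forall] at h
        obtain ⟨i, h⟩ := h
        rw [not_forall] at h
        obtain ⟨j, h⟩ := h
        rw [Classical.not_imp] at h
        obtain ⟨hi, h⟩ := h
        rw [Classical.not_imp] at h
        obtain ⟨hj, hij⟩ := h
        refine ⟨(i, j), ?_, hi, hj⟩
        rw [Finset.mem_filter, Finset.mem_product, Finset.mem_Icc, Finset.mem_Icc]
        refine ⟨⟨⟨?_, ?_⟩, ⟨?_, ?_⟩⟩, hij⟩
        · by_contra hcon
          rw [hsub i (Or.inl (by omega))] at hi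
          exact hi
        · by_contra hcon
          rw [hsub i (Or.inr (by omega))] at hi
          exact hi
        · by_contra hcon
          rw [hsub j (Or.inl (by omega))] at hj
          exact hj
        · by_contra hcon
          rw [hsub j (Or.inr (by omega))] at hj
          exact hj
      · rintro ⟨⟨i, j⟩, hx, hi, hj⟩ h
        rw [Finset.mem_filter] at hx
        exact hx.2 (h i j hi hj)
    rw [← isClosed_compl_iff, hcompl]
    refine Set.Finite.isClosed_biUnion (Finset.finite_toSet _) (fun x _ => ?_)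
    haveI := finite_ext ω hω M x.1
    haveI := finite_ext ω hω M x.2
    exact (Module.isClosed_support (R := A) (M := (Dual.inD A M ⟶ ω⟦x.1⟧))).inter
      (Module.isClosed_support (R := A) (M := (Dual.inD A M ⟶ ω⟦x.2⟧)))
  · intro q hq
    rw [mem_closure_iff]
    intro U hU hqU
    obtain ⟨p, hpmin, hple⟩ := Ideal.exists_minimalPrimes_le
      (Module.mem_support_iff_of_finite.1 hq)
    obtain ⟨P, hP⟩ : ∃ P : PrimeSpectrum A, P.asIdeal = p := ⟨⟨p, hpmin.1.1⟩, rfl⟩
    subst hP
    have hPq : P ⤳ q := (PrimeSpectrum.le_iff_specializes P q).1 hple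
    have hPM : P ∈ Module.support A M := Module.mem_support_iff_of_finite.2 hpmin.1.2
    refine ⟨P, hPq.mem_open hU hqU, ?_, hPM⟩
    obtain ⟨n, hn⟩ := exists_degree P ω hω
    have key : ∀ i : ℤ, P ∈ Module.support A (Dual.inD A M ⟶ ω⟦i⟧) → i = n := by
      intro i hi
      obtain ⟨p', hle, hI, hp'⟩ := exists_prime_le_of_mem_support' (ω⟦i⟧) P
        (Module.annihilator A M) M (fun a ha y => Module.mem_annihilator.1 ha y) hi
      have : p' = P := le_antisymm hle (hpmin.2 ⟨p'.isPrime, hI⟩ hle)
      subst this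
      exact (hn i).1 hp'
    have h1 := (isCM_module_localization_iff P M ω hω).2 (fun i j hi hj => by
      rw [key i hi, key j hj])
    rcases h1 with h | h
    · exfalso
      rw [Module.mem_support_iff] at hPM
      exact not_subsingleton _ h
    · exact h

end global

end Groth.Agent.H4.US14
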