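import Mathlib
import Groth.Agent.H4.US14

set_option autoImplicit false
universe u
open CategoryTheory Category Limits Pretriangulated

namespace Groth.Agent.H4.US15

attribute [local instance] HasDerivedCategory.standard
attribute [local instance] Groth.Agent.H4.LK4.hasLTen Groth.Agent.H4.LK5.hasLTen₃
  Groth.Agent.H4.KI7.isSymMonoidal Groth.Agent.H4.KI6.hasRHom

open DRing DTen DerivedCategory Groth.Agent.H4.DThick Groth.Agent.H4.DCompl1 Groth.Agent.H4.CF1
  Groth.Agent.H4.InjAmp Groth.Agent.H4.DZ1 Groth.Agent.H4.DZ2 Groth.Agent.H4.DZ3 Groth.Agent.H4.DZ4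
  Groth.Agent.H4.DZ5 Groth.Agent.H4.DZ6 Groth.Agent.H4.ProjAmp Groth.Agent.H4.US8 Groth.Agent.H4.US9
  Groth.Agent.H4.US10 Groth.Agent.H4.US11 Groth.Agent.H4.US12 Groth.Agent.H4.US13
  Groth.Agent.H4.US14 Groth.Agent.H4.FB1 Groth.Agent.H4.FB2 Groth.Agent.H4.FB3

open scoped Pointwise TensorProduct

variable {A : Type u} [CommRing A] [IsNoetherianRing A]

section

variable (p : PrimeSpectrum A)

/-- the degree of `Ext(κ(p), ω_p)` read off over `A`. -/
theorem mem_support_iff_of_extData (ω : Dual.D A) (hω : Dual.IsDualizing A ω) (n : ℤ)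
    (hn : ExtData ((E A (Localization.AtPrime p.asIdeal)).obj ω) n) (i : ℤ) :
    p ∈ Module.support A (Dual.inD A (A ⧸ p.asIdeal) ⟶ ω⟦i⟧) ↔ i = n := by
  obtain ⟨a, b, ha, -, -⟩ := exists_bounds_of_isDualizing ω hω
  haveI := ha
  haveI : (ω⟦i⟧).IsGE (a - i) := TStructure.t.isGE_shift ω a i (a - i) (by ring)
  rw [← nontrivial_hom_E_iff p (Dual.inD A (A ⧸ p.asIdeal)) (ω⟦i⟧) (a - i)
    (isPC'_inD (A ⧸ p.asIdeal)),
    ((EQuotIso (B := Localization.AtPrime p.asIdeal) p.asIdeal).homCongr
      (EShiftIso ω i)).nontrivial_congr,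
    nontrivial_hom_congr_of_eq _ _ _ (Localization.AtPrime.map_eq_maximalIdeal)]
  constructor
  · intro h
    by_contra hi
    haveI := hn.van i hi
    exact not_subsingleton _ ‹Subsingleton (Sk (Localization.AtPrime p.asIdeal) 0 ⟶ _)›
  · intro hi
    obtain ⟨e⟩ := hn.top i hi
    haveI : Nontrivial (Localization.AtPrime p.asIdeal ⧸
        IsLocalRing.maximalIdeal (Localization.AtPrime p.asIdeal)) :=
      Ideal.Quotient.nontrivial_iff.2 (IsLocalRing.maximalIdeal.isMaximal _).ne_top
    exact e.nontrivial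

end

section local_

variable [IsLocalRing A] (ω : Dual.D A) (hω : Dual.IsDualizing A ω)
  (hnorm : Dual.IsNormalized A ω) (p : PrimeSpectrum A)

include hω hnorm in
/-- over a local ring with normalized dualizing complex, `ω_p[-dim A/p]` is normalized. -/
theorem extData_localization (c : ℕ) (hc : Order.coheight p = c) :
    ExtData ((E A (Localization.AtPrime p.asIdeal)).obj ω) (-(c : ℤ)) := by
  have hB : Dual.IsDualizing (Localization.AtPrime p.asIdeal)
      ((E A (Localization.AtPrime p.asIdeal)).obj ω) :=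
    isDualizing_E_localization A p.asIdeal.primeCompl ω hω
  haveI : IsNoetherianRing (Localization.AtPrime p.asIdeal) :=
    IsLocalization.isNoetherianRing p.asIdeal.primeCompl _ inferInstance
  obtain ⟨n, hn⟩ := exists_extData _ hB
  have h1 := mem_support_ext_quotient_prime ω hω hnorm c p hc
  have h2 := (mem_support_iff_of_extData p ω hω n hn (-(c : ℤ))).1 h1
  rw [h2]
  exact hn

include hω hnorm in
/-- **S1712.** -/
theorem S1712 (M : Type u) [AddCommGroup M] [Module A M] [Module.Finite A M] (i : ℕ) :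
    (∃ j : ℕ, j ≤ i ∧ p ∈ Module.support A (Dual.inD A M ⟶ ω⟦(-(j : ℤ))⟧)) ↔
      ((LocCoh.depth (Localization.AtPrime p.asIdeal)
        (LocalizedModule p.asIdeal.primeCompl M) : ℕ∞) : WithBot ℕ∞) +
        ringKrullDim (A ⧸ p.asIdeal) ≤ (i : WithBot ℕ∞) := by
  have hB : Dual.IsDualizing (Localization.AtPrime p.asIdeal)
      ((E A (Localization.AtPrime p.asIdeal)).obj ω) :=
    isDualizing_E_localization A p.asIdeal.primeCompl ω hω
  haveI : IsNoetherianRing (Localization.AtPrime p.asIdeal) :=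
    IsLocalization.isNoetherianRing p.asIdeal.primeCompl _ inferInstance
  haveI : Module.Finite (Localization.AtPrime p.asIdeal)
      (LocalizedModule p.asIdeal.primeCompl M) :=
    Module.Finite.of_isLocalizedModule p.asIdeal.primeCompl
      (LocalizedModule.mkLinearMap p.asIdeal.primeCompl M)
  obtain ⟨c, hc⟩ : ∃ c : ℕ, Order.coheight p = c :=
    ⟨_, (ENat.natCast_toNat (Order.coheight_lt_top p).ne).symm⟩
  have hdim : ringKrullDim (A ⧸ p.asIdeal) = ((c : ℕ∞) : WithBot ℕ∞) := by
    rw [← Module.supportDim_quotient_eq_ringKrullDim, supportDim_quotient_prime, hc]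
  rw [hdim]
  by_cases hp : p ∈ Module.support A M
  · haveI : Nontrivial (LocalizedModule p.asIdeal.primeCompl M) := Module.mem_support_iff.1 hp
    have hn := extData_localization ω hω hnorm p c hc
    obtain ⟨d, hd⟩ := exists_supportDim_eq (A := Localization.AtPrime p.asIdeal)
      (LocalizedModule p.asIdeal.primeCompl M)
    obtain ⟨δ, hdep, -, h2, h3⟩ := ext_range _ hB _ hn
      (LocalizedModule p.asIdeal.primeCompl M) d hd
    rw [hdep]
    have hcast : (((δ : ℕ∞) : WithBot ℕ∞) + ((c : ℕ∞) : WithBot ℕ∞) ≤ ((i : ℕ) : WithBot ℕ∞)) ↔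
        δ + c ≤ i := by
      constructor
      · intro h
        exact_mod_cast h
      · intro h
        exact_mod_cast h
    rw [hcast]
    constructor
    · rintro ⟨j, hji, hj⟩
      rw [← nontrivial_ext_loc_iff p M ω hω] at hj
      have := (h3 _ hj).2
      omega
    · intro h
      refine ⟨δ + c, h, ?_⟩
      rw [← nontrivial_ext_loc_iff p M ω hω]
      have : (-(((δ + c : ℕ)) : ℤ)) = -(c : ℤ) - δ := by push_cast; ring
      rw [this]
      exact h2
  · constructor
    · rintro ⟨j, -, hj⟩
      exact absurd hj (not_mem_support_hom_of_not_mem_support p M _ hp)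
    · intro h
      exfalso
      rw [Module.mem_support_iff, not_nontrivial_iff_subsingleton] at hp
      have htop : LocCoh.depth (Localization.AtPrime p.asIdeal)
          (LocalizedModule p.asIdeal.primeCompl M) = ⊤ := by
        unfold LocCoh.depth LocCoh.idealDepth
        rw [if_pos (Subsingleton.elim _ _)]
      rw [htop] at h
      have h' : ((⊤ : ℕ∞) : WithBot ℕ∞) + ((c : ℕ∞) : WithBot ℕ∞) = ((⊤ : ℕ∞) : WithBot ℕ∞) := by
        rw [← WithBot.coe_add, top_add]
      rw [h'] at h
      have h'' : ((⊤ : ℕ∞) : WithBot ℕ∞) ≤ (((i : ℕ) : ℕ∞) : WithBot ℕ∞) := h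
      rw [WithBot.coe_le_coe] at h''
      simp at h''

end local_

end Groth.Agent.H4.US15
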