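import Mathlib
import Groth.Agent.H4.US15
import Groth.Agent.Lib.Helper6.HomKer

set_option autoImplicit false
universe u
open CategoryTheory Category Limits Pretriangulated

namespace Groth.Agent.H4.US16

attribute [local instance] HasDerivedCategory.standard
attribute [local instance] Groth.Agent.H4.LK4.hasLTen Groth.Agent.H4.LK5.hasLTen₃
  Groth.Agent.H4.KI7.isSymMonoidal Groth.Agent.H4.KI6.hasRHom

open DRing DTen DerivedCategory Groth.Agent.H4.DThick Groth.Agent.H4.DCompl1 Groth.Agent.H4.CF1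
  Groth.Agent.H4.InjAmp Groth.Agent.H4.DZ1 Groth.Agent.H4.DZ2 Groth.Agent.H4.DZ3 Groth.Agent.H4.DZ4
  Groth.Agent.H4.DZ5 Groth.Agent.H4.DZ6 Groth.Agent.H4.ProjAmp Groth.Agent.H4.US8 Groth.Agent.H4.US9
  Groth.Agent.H4.US10 Groth.Agent.H4.US11 Groth.Agent.H4.US12 Groth.Agent.H4.US13
  Groth.Agent.H4.US14 Groth.Agent.H4.US15 Groth.Agent.H4.FB1 Groth.Agent.H4.FB2 Groth.Agent.H4.FB3

open scoped Pointwise TensorProduct

variable {A : Type u} [CommRing A]

section lowest

/-- the lowest cohomology: `τ_{<a+1} K ≅ H^a(K)[-a]` for `K ∈ D^{≥a}` -/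
theorem nonempty_truncLT_iso_single (K : Dual.D A) (a : ℤ) [K.IsGE a] :
    Nonempty (((tR A).truncLT (a + 1)).obj K ≅
      (singleFunctor (ModuleCat.{u} A) a).obj ((homologyFunctor (ModuleCat.{u} A) a).obj K)) := by
  haveI : (((tR A).truncLT (a + 1)).obj K).IsLE a :=
    inferInstanceAs ((tR A).IsLE (((tR A).truncLT (a + 1)).obj K) a)
  haveI : (tR A).IsGE K a := inferInstanceAs (K.IsGE a)
  haveI : (((tR A).truncLT (a + 1)).obj K).IsGE a :=
    inferInstanceAs ((tR A).IsGE (((tR A).truncLT (a + 1)).obj K) a)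
  obtain ⟨W', ⟨eL⟩⟩ := exists_iso_singleFunctor_obj_of_isGE_of_isLE
    (((tR A).truncLT (a + 1)).obj K) a
  haveI := isIso_homology_truncLTι (a + 1) a (by omega) K
  let e1 : W' ≅ (homologyFunctor (ModuleCat.{u} A) a).obj K :=
    ((singleFunctorCompHomologyFunctorIso (ModuleCat.{u} A) a).app W').symm ≪≫
      (homologyFunctor (ModuleCat.{u} A) a).mapIso eL.symm ≪≫
      asIso ((homologyFunctor (ModuleCat.{u} A) a).map (((tR A).truncLTι (a + 1)).app K))
  exact ⟨eL ≪≫ (singleFunctor (ModuleCat.{u} A) a).mapIso e1⟩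

/-- maps from `D^{≤0}` to shifts of the lowest cohomology module. -/
theorem subsingleton_hom_lowest (K : Dual.D A) (a : ℤ) [K.IsGE a] (X : Dual.D A) [X.IsLE 0]
    (i : ℤ) (hi : i ≤ 1) (hK : Subsingleton (X ⟶ K⟦a + i⟧)) :
    Subsingleton (X ⟶ ((singleFunctor (ModuleCat.{u} A) 0).obj
      ((homologyFunctor (ModuleCat.{u} A) a).obj K))⟦i⟧) := by
  obtain ⟨eL⟩ := nonempty_truncLT_iso_single K a
  let W := (homologyFunctor (ModuleCat.{u} A) a).obj K
  let L := ((tR A).truncLT (a + 1)).obj K
  let iso1 : ((singleFunctor (ModuleCat.{u} A) 0).obj W)⟦i⟧ ≅ L⟦a + i⟧ :=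
    ((singleFunctors (ModuleCat.{u} A)).shiftIso i (-i) 0 (by ring)).app W ≪≫
      (((singleFunctors (ModuleCat.{u} A)).shiftIso (a + i) (-i) a (by ring)).app W).symm ≪≫
      (shiftFunctor (Dual.D A) (a + i)).mapIso eL.symm
  suffices h : Subsingleton (X ⟶ L⟦a + i⟧) from
    ((Iso.refl X).homCongr iso1).subsingleton
  have hT := Triangle.shift_distinguished _ (triangleLTGE_dist (a + 1) K) (a + i)
  have hT' := inv_rot_of_distTriang _ hT
  refine ⟨fun f g => ?_⟩
  have key : ∀ f : X ⟶ L⟦a + i⟧, f = 0 := by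
    intro f
    obtain ⟨g, hg⟩ := Triangle.coyoneda_exact₂ _ hT' f (@Subsingleton.elim _ hK _ _)
    have hg0 : g = 0 := by
      haveI : ((((tR A).truncGE (a + 1)).obj K)).IsGE (a + 1) :=
        inferInstanceAs ((tR A).IsGE (((tR A).truncGE (a + 1)).obj K) (a + 1))
      haveI : ((((tR A).truncGE (a + 1)).obj K)⟦a + i⟧).IsGE (1 - i) :=
        TStructure.t.isGE_shift _ (a + 1) (a + i) (1 - i) (by ring)
      haveI : (((((tR A).truncGE (a + 1)).obj K)⟦a + i⟧)⟦(-1 : ℤ)⟧).IsGE (2 - i) :=
        TStructure.t.isGE_shift _ (1 - i) (-1) (2 - i) (by ring)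
      haveI : (tR A).IsGE (((((tR A).truncGE (a + 1)).obj K)⟦a + i⟧)⟦(-1 : ℤ)⟧) 1 :=
        (tR A).isGE_of_ge _ 1 (2 - i) (by omega)
      change X ⟶ ((((tR A).truncGE (a + 1)).obj K)⟦a + i⟧)⟦(-1 : ℤ)⟧ at g
      exact (tR A).zero g 0 1 (by omega)
    rw [hg, hg0]
    exact zero_comp
  rw [key f, key g]

end lowest

section local_

variable [IsLocalRing A] [IsNoetherianRing A]

/-- depth bound from vanishing of `Ext(κ, M)` (Rees). -/
lemma le_depth_of_ext_subsingleton (M : Type u) [AddCommGroup M] [Module A M] [Module.Finite A M]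
    [Nontrivial M] (k : ℕ)
    (h : ∀ i : ℕ, i < k → Subsingleton (Dual.inD A (A ⧸ IsLocalRing.maximalIdeal A) ⟶
      (Dual.inD A M)⟦(i : ℤ)⟧)) : (k : ℕ∞) ≤ LocCoh.depth A M := by
  by_cases htop : LocCoh.depth A M = ⊤
  · rw [htop]
    exact le_top
  · obtain ⟨n, hn⟩ := ENat.ne_top_iff_exists.1 htop
    have h1 := (Groth.Agent.S0319.result A (IsLocalRing.maximalIdeal A) M
      (maximalIdeal_smul_top_ne_top M) n).1 hn.symm
    rw [← hn]
    by_contra hcon
    have hnk : n < k := by
      rw [not_le] at hcon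
      exact_mod_cast hcon
    haveI := h n hnk
    have e := (Abelian.Ext.homEquiv (X := ModuleCat.of A (A ⧸ IsLocalRing.maximalIdeal A))
      (Y := ModuleCat.of A M) (n := n))
    haveI := h1.2
    exact not_subsingleton _ e.subsingleton

variable (ω : Dual.D A) (hω : Dual.IsDualizing A ω) (hnorm : Dual.IsNormalized A ω)

include hω hnorm in
lemma isGE_of_normalized (d : ℕ) (hd : ringKrullDim A = d) : ω.IsGE (-(d : ℤ)) := by
  rw [isGE_iff]
  intro i hi
  obtain ⟨e⟩ := Groth.Agent.H4.US7.nonempty_HD_equiv ω i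
  haveI := subsingleton_ext_of_lt ω hω hnorm d A (by
    rw [Module.supportDim_self_eq_ringKrullDim, hd]) i hi
  haveI : Subsingleton (Dual.HD A ω i) := e.subsingleton
  exact ModuleCat.isZero_of_subsingleton _

include hω hnorm in
/-- **the dualizing module satisfies `depth ≥ min(2, dim)`.** -/
theorem depth_lowest (d : ℕ) (hd : ringKrullDim A = d) :
    min (2 : WithBot ℕ∞) (Module.supportDim A (Dual.HD A ω (-(d : ℤ)))) ≤
      ((LocCoh.depth A (Dual.HD A ω (-(d : ℤ))) : ℕ∞) : WithBot ℕ∞) := by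
  haveI := hω.finite_cohomology (-(d : ℤ))
  by_cases hW : Subsingleton (Dual.HD A ω (-(d : ℤ)))
  · rw [Module.supportDim_eq_bot_of_subsingleton, min_eq_right bot_le]
    exact bot_le
  · rw [not_subsingleton_iff_nontrivial] at hW
    haveI := isGE_of_normalized ω hω hnorm d hd
    have hdepth : ((min 2 d : ℕ) : ℕ∞) ≤ LocCoh.depth A (Dual.HD A ω (-(d : ℤ))) := by
      refine le_depth_of_ext_subsingleton _ _ (fun i hi => ?_)
      have hi1 : i ≤ 1 := by
        have := min_le_left 2 d
        omega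
      have hid : i < d := lt_of_lt_of_le hi (min_le_right 2 d)
      haveI : (Dual.inD A (A ⧸ IsLocalRing.maximalIdeal A)).IsLE 0 :=
        inferInstanceAs (((singleFunctor (ModuleCat.{u} A) 0).obj _).IsLE 0)
      exact subsingleton_hom_lowest ω (-(d : ℤ)) (Dual.inD A (A ⧸ IsLocalRing.maximalIdeal A))
        (i : ℤ) (by exact_mod_cast hi1) (hnorm (-(d : ℤ) + i) (by omega))
    have h1 : Module.supportDim A (Dual.HD A ω (-(d : ℤ))) ≤ ((d : ℕ) : WithBot ℕ∞) := by
      rw [← hd]
      exact Module.supportDim_le_ringKrullDim A _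
    have h2 : min (2 : WithBot ℕ∞) ((d : ℕ) : WithBot ℕ∞) = (((min 2 d : ℕ)) : WithBot ℕ∞) := by
      rcases le_total 2 d with h | h
      · rw [min_eq_left h, min_eq_left (by exact_mod_cast h)]
        rfl
      · rw [min_eq_right h, min_eq_right (by exact_mod_cast h)]
    calc min (2 : WithBot ℕ∞) (Module.supportDim A (Dual.HD A ω (-(d : ℤ))))
        ≤ min (2 : WithBot ℕ∞) ((d : ℕ) : WithBot ℕ∞) := min_le_min le_rfl h1
      _ = (((min 2 d : ℕ)) : WithBot ℕ∞) := h2
      _ ≤ _ := WithBot.coe_le_coe.2 hdepth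

include hω in
/-- non-normalized version of `depth_lowest`. -/
theorem depth_lowest' (n : ℤ) (hn : ExtData ω n) (d : ℕ) (hd : ringKrullDim A = d) (m : ℤ)
    (hm : m = n - d) :
    min (2 : WithBot ℕ∞) (Module.supportDim A (Dual.HD A ω m)) ≤
      ((LocCoh.depth A (Dual.HD A ω m) : ℕ∞) : WithBot ℕ∞) := by
  have hdual := isDualizing_shift ω hω n
  have hnorm' := isNormalized_shift ω n hn
  have h := depth_lowest (ω⟦n⟧) hdual hnorm' d hd
  let e : Dual.HD A (ω⟦n⟧) (-(d : ℤ)) ≃ₗ[A] Dual.HD A ω m :=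
    (((homologyFunctor (ModuleCat.{u} A) 0).shiftIso n (-(d : ℤ)) m
      (by rw [hm]; ring)).app ω).toLinearEquiv
  rw [Module.supportDim_eq_of_equiv e] at h
  unfold LocCoh.depth at h ⊢
  rw [Groth.Agent.H6.HomKer.idealDepth_congr _ e] at h
  exact h

end local_

section global

omit [CommRing A] in
lemma height_add_coheight_le [CommRing A] (P : PrimeSpectrum A) :
    ((P.asIdeal.height : ℕ∞) : WithBot ℕ∞) + ((Order.coheight P : ℕ∞) : WithBot ℕ∞) ≤
      ringKrullDim A := by
  haveI : Nonempty (PrimeSpectrum A) := ⟨P⟩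
  rw [PrimeSpectrum.height_eq_orderHeight]
  change _ ≤ Order.krullDim (PrimeSpectrum A)
  rw [Order.krullDim_eq_iSup_height_add_coheight_of_nonempty]
  have : Order.height P + Order.coheight P ≤
      ⨆ a : PrimeSpectrum A, Order.height a + Order.coheight a :=
    le_iSup (fun a : PrimeSpectrum A => Order.height a + Order.coheight a) P
  exact_mod_cast this

variable [IsLocalRing A] [IsNoetherianRing A] (ω : Dual.D A) (hω : Dual.IsDualizing A ω)
  (hnorm : Dual.IsNormalized A ω)

include hω hnorm in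
/-- **S0369.** -/
theorem S0369 (d : ℕ) (hd : ringKrullDim A = d) :
    Module.support A (Dual.HD A ω (-(d : ℤ))) =
      {p : PrimeSpectrum A | ∃ q ∈ minimalPrimes A, q ≤ p.asIdeal ∧ ringKrullDim (A ⧸ q) = d} ∧
    LocCoh.HasSk 2 A (Dual.HD A ω (-(d : ℤ))) := by
  obtain ⟨eq⟩ := Groth.Agent.H4.US7.nonempty_HD_equiv ω (-(d : ℤ))
  have hsd : Module.supportDim A A = d := by
    rw [Module.supportDim_self_eq_ringKrullDim, hd]
  constructor
  · ext p
    rw [eq.support_eq]
    constructor
    · intro hp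
      obtain ⟨p', hle, hp'⟩ := exists_prime_le_of_mem_support _ p A hp
      obtain ⟨c, hc⟩ : ∃ c : ℕ, Order.coheight p' = c :=
        ⟨_, (ENat.natCast_toNat (Order.coheight_lt_top p').ne).symm⟩
      have hdim : ringKrullDim (A ⧸ p'.asIdeal) = ((c : ℕ∞) : WithBot ℕ∞) := by
        rw [← Module.supportDim_quotient_eq_ringKrullDim, supportDim_quotient_prime, hc]
      -- `c = d`
      have h1 : d ≤ c := by
        by_contra hcon
        haveI := subsingleton_ext_of_lt ω hω hnorm c (A ⧸ p'.asIdeal) (by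
          rw [supportDim_quotient_prime, hc]
          rfl) (-(d : ℤ)) (by omega)
        rw [Module.support_eq_empty] at hp'
        exact hp'
      have h2 : c ≤ d := by
        have := Order.coheight_le_krullDim p'
        rw [hc] at this
        have h3 : ((c : ℕ∞) : WithBot ℕ∞) ≤ ((d : ℕ) : WithBot ℕ∞) := by
          rw [← hd]
          exact this
        exact_mod_cast h3
      have hcd : c = d := le_antisymm h2 h1
      refine ⟨p'.asIdeal, ⟨⟨p'.isPrime, bot_le⟩, ?_⟩, hle, by rw [hdim, hcd]; rfl⟩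
      rintro q ⟨hqprime, -⟩ hqp'
      by_contra hcon
      have hlt : (⟨q, hqprime⟩ : PrimeSpectrum A) < p' := lt_of_le_of_ne hqp' (by
        intro h
        apply hcon
        rw [← h])
      have h3 := Order.coheight_add_one_le hlt
      have h4 := Order.coheight_le_krullDim (⟨q, hqprime⟩ : PrimeSpectrum A)
      rw [hc] at h3
      have h5 : (((c + 1 : ℕ) : ℕ∞) : WithBot ℕ∞) ≤ ((d : ℕ) : WithBot ℕ∞) := by
        rw [← hd]
        refine le_trans ?_ h4
        exact WithBot.coe_le_coe.2 (by exact_mod_cast h3)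
      have : c + 1 ≤ d := by exact_mod_cast h5
      omega
    · rintro ⟨q, hqmin, hqp, hqd⟩
      let Q : PrimeSpectrum A := ⟨q, hqmin.1.1⟩
      have hQd : Order.coheight Q = d := by
        have h1 := supportDim_quotient_prime Q
        rw [Module.supportDim_quotient_eq_ringKrullDim] at h1
        have h2 : (Order.coheight Q : WithBot ℕ∞) = ((d : ℕ∞) : WithBot ℕ∞) := h1.symm.trans hqd
        exact_mod_cast h2
      have hann : Module.annihilator A A = ⊥ := by
        ext a
        rw [Module.mem_annihilator, Ideal.mem_bot]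
        constructor
        · intro h
          have := h 1
          rwa [smul_eq_mul, mul_one] at this
        · rintro rfl m
          exact zero_smul _ _
      have h1 := mem_support_ext_of_minimalPrime ω hω hnorm A Q (by rw [hann]; exact hqmin) d hQd
      exact Module.mem_support_mono (show Q ≤ p from hqp) h1
  · intro p hp
    let P : PrimeSpectrum A := ⟨p, hp⟩
    have hB : Dual.IsDualizing (Localization.AtPrime P.asIdeal)
        ((E A (Localization.AtPrime P.asIdeal)).obj ω) :=
      isDualizing_E_localization A P.asIdeal.primeCompl ω hω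
    haveI : IsNoetherianRing (Localization.AtPrime P.asIdeal) :=
      IsLocalization.isNoetherianRing P.asIdeal.primeCompl _ inferInstance
    -- the comparison of `H^{-d}(ω)_p` with `H^{-d}(ω_p)`
    let e1 := (homologyEIso (B := Localization.AtPrime P.asIdeal) ω (-(d : ℤ))).toLinearEquiv
    let e2 := Groth.Agent.H8.ExtBridge.extEquiv (A := A) (B := Localization.AtPrime P.asIdeal)
      ((homologyFunctor (ModuleCat.{u} A) (-(d : ℤ))).obj ω)
    let e3 := (IsLocalizedModule.isBaseChange P.asIdeal.primeCompl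
      (Localization.AtPrime P.asIdeal)
      (LocalizedModule.mkLinearMap P.asIdeal.primeCompl (Dual.HD A ω (-(d : ℤ))))).equiv
    let e : Dual.HD (Localization.AtPrime P.asIdeal)
        ((E A (Localization.AtPrime P.asIdeal)).obj ω) (-(d : ℤ)) ≃ₗ[Localization.AtPrime P.asIdeal]
        LocalizedModule P.asIdeal.primeCompl (Dual.HD A ω (-(d : ℤ))) := e1.trans (e2.trans e3)
    change min (2 : WithBot ℕ∞) (Module.supportDim (Localization.AtPrime P.asIdeal)
      (LocalizedModule P.asIdeal.primeCompl (Dual.HD A ω (-(d : ℤ))))) ≤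
      ((LocCoh.depth (Localization.AtPrime P.asIdeal)
        (LocalizedModule P.asIdeal.primeCompl (Dual.HD A ω (-(d : ℤ)))) : ℕ∞) : WithBot ℕ∞)
    rw [← Module.supportDim_eq_of_equiv e]
    unfold LocCoh.depth
    rw [← Groth.Agent.H6.HomKer.idealDepth_congr _ e]
    by_cases hW : Subsingleton (Dual.HD (Localization.AtPrime P.asIdeal)
        ((E A (Localization.AtPrime P.asIdeal)).obj ω) (-(d : ℤ)))
    · rw [Module.supportDim_eq_bot_of_subsingleton, min_eq_right bot_le]
      exact bot_le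
    · rw [not_subsingleton_iff_nontrivial] at hW
      obtain ⟨c, hc⟩ : ∃ c : ℕ, Order.coheight P = c :=
        ⟨_, (ENat.natCast_toNat (Order.coheight_lt_top P).ne).symm⟩
      have hn := extData_localization ω hω hnorm P c hc
      obtain ⟨dB, hdB⟩ : ∃ dB : ℕ, ringKrullDim (Localization.AtPrime P.asIdeal) = dB := by
        have h1 : ringKrullDim (Localization.AtPrime P.asIdeal) ≠ ⊥ := ringKrullDim_ne_bot
        have h2 : ringKrullDim (Localization.AtPrime P.asIdeal) ≠ ⊤ := ringKrullDim_ne_top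
        obtain ⟨k, hk⟩ := WithBot.ne_bot_iff_exists.1 h1
        have h3 : k ≠ ⊤ := by
          intro h
          rw [h] at hk
          exact h2 hk.symm
        refine ⟨k.toNat, ?_⟩
        rw [← hk]
        conv_lhs => rw [← ENat.natCast_toNat h3]
        rfl
      obtain ⟨δ, -, -, -, h3⟩ := cohomology_range _ hB _ hn dB hdB
      have h4 := (h3 _ hW).1
      have h5 : c + dB ≤ d := by
        have h6 := height_add_coheight_le P
        rw [← IsLocalization.AtPrime.ringKrullDim_eq_height P.asIdeal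
          (Localization.AtPrime P.asIdeal), hdB, hc, hd] at h6
        have h7 : (((dB + c : ℕ)) : WithBot ℕ∞) ≤ ((d : ℕ) : WithBot ℕ∞) := by
          push_cast
          exact h6
        have : dB + c ≤ d := by exact_mod_cast h7
        omega
      exact depth_lowest' _ hB _ hn dB hdB _ (by omega)

end global

end Groth.Agent.H4.US16
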