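import Mathlib
import Groth.Agent.H4.US16

set_option autoImplicit false
universe u
open CategoryTheory Category Limits Pretriangulated

namespace Groth.Agent.H4.US17

attribute [local instance] HasDerivedCategory.standard
attribute [local instance] Groth.Agent.H4.LK4.hasLTen Groth.Agent.H4.LK5.hasLTen₃
  Groth.Agent.H4.KI7.isSymMonoidal Groth.Agent.H4.KI6.hasRHom

open DRing DTen DerivedCategory Groth.Agent.H4.DThick Groth.Agent.H4.DCompl1 Groth.Agent.H4.CF1
  Groth.Agent.H4.InjAmp Groth.Agent.H4.DZ1 Groth.Agent.H4.DZ2 Groth.Agent.H4.DZ3 Groth.Agent.H4.DZ4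
  Groth.Agent.H4.DZ5 Groth.Agent.H4.DZ6 Groth.Agent.H4.ProjAmp Groth.Agent.H4.US8 Groth.Agent.H4.US9
  Groth.Agent.H4.US10 Groth.Agent.H4.US11 Groth.Agent.H4.US12 Groth.Agent.H4.US13
  Groth.Agent.H4.US14 Groth.Agent.H4.US15 Groth.Agent.H4.US16
  Groth.Agent.H4.FB1 Groth.Agent.H4.FB2 Groth.Agent.H4.FB3

open scoped Pointwise TensorProduct

variable {A : Type u} [CommRing A]

section unit

/-- `H^i(A[0])`. -/
lemma subsingleton_HD_unit (i : ℤ) (hi : i ≠ 0) : Subsingleton (Dual.HD A (Dual.inD A A) i) := by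
  apply ModuleCat.subsingleton_of_isZero
  rcases lt_or_gt_of_ne hi with h' | h'
  · exact isZero_of_isGE (Dual.inD A A) 0 i h'
  · exact isZero_of_isLE (Dual.inD A A) 0 i h'

/-- `H^0(A[0]) ≃ A`. -/
noncomputable def HDUnitEquiv : Dual.HD A (Dual.inD A A) 0 ≃ₗ[A] A :=
  ((singleFunctorCompHomologyFunctorIso (ModuleCat.{u} A) 0).app (ModuleCat.of A A)).toLinearEquiv

/-- the ring acts on `End(A[0])` bijectively. -/
theorem bijective_toEnd_unit :
    Function.Bijective (fun a : A => a • 𝟙 (Dual.inD A A)) := by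
  obtain ⟨e0⟩ := Groth.Agent.H4.US7.nonempty_HD_equiv (Dual.inD A A) 0
  let e : (Dual.inD A A ⟶ Dual.inD A A) ≃ₗ[A] A :=
    ((homIsoLinEquiv (Dual.inD A A)
      ((CategoryTheory.shiftFunctorZero (Dual.D A) ℤ).app (Dual.inD A A))).symm.trans
      e0.symm).trans HDUnitEquiv
  refine Groth.Agent.H4.US4.bijective_toEnd_of_free (Dual.inD A A) (e.symm 1) ?_
  have : (fun b : A => b • e.symm 1) = fun b : A => e.symm b := by
    funext b
    rw [← map_smul, smul_eq_mul, mul_one]
  rw [this]
  exact e.symm.bijective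

/-- `A[0]` has no self-maps of nonzero degree. -/
lemma subsingleton_ext_unit (i : ℤ) (hi : i ≠ 0) :
    Subsingleton (Dual.inD A A ⟶ (Dual.inD A A)⟦i⟧) := by
  obtain ⟨e0⟩ := Groth.Agent.H4.US7.nonempty_HD_equiv (Dual.inD A A) i
  haveI := subsingleton_HD_unit (A := A) i hi
  exact e0.symm.subsingleton

end unit

section gor

variable [IsLocalRing A] [IsNoetherianRing A]

omit [IsLocalRing A] in
lemma finite_HD_unit (i : ℤ) : Module.Finite A (Dual.HD A (Dual.inD A A) i) := by
  by_cases hi : i = 0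
  · subst hi
    exact Module.Finite.equiv (HDUnitEquiv (A := A)).symm
  · haveI := subsingleton_HD_unit (A := A) i hi
    infer_instance

/-- a Gorenstein local ring is a dualizing complex over itself. -/
theorem isDualizing_unit_of_gorenstein (h : LocCoh.IsGorensteinLocalRing A) :
    Dual.IsDualizing A (Dual.inD A A) := by
  obtain ⟨n, hn⟩ := h.exists_hasInjectiveDimensionLT
  refine ⟨inferInstance, ⟨0, n, fun M _ _ i hi => ?_⟩, finite_HD_unit, bijective_toEnd_unit,
    subsingleton_ext_unit⟩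
  rcases hi with hi | hi
  · haveI : (Dual.inD A M).IsLE 0 :=
      inferInstanceAs (((singleFunctor (ModuleCat.{u} A) 0).obj _).IsLE 0)
    haveI : (Dual.inD A A).IsGE 0 :=
      inferInstanceAs (((singleFunctor (ModuleCat.{u} A) 0).obj _).IsGE 0)
    haveI : ((Dual.inD A A)⟦i⟧).IsGE (-i) := TStructure.t.isGE_shift _ 0 i (-i) (by ring)
    refine ⟨fun f g => ?_⟩
    rw [(tR A).zero f 0 (-i) (by omega), (tR A).zero g 0 (-i) (by omega)]
  · obtain ⟨k, rfl⟩ : ∃ k : ℕ, i = k := ⟨i.toNat, by omega⟩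
    haveI := HasInjectiveDimensionLT.subsingleton (ModuleCat.of A A) n k (by omega)
      (ModuleCat.of A M)
    exact (Abelian.Ext.homEquiv (X := ModuleCat.of A M) (Y := ModuleCat.of A A)
      (n := k)).symm.subsingleton

/-- a local ring which is a dualizing complex over itself is Gorenstein. -/
theorem gorenstein_of_isDualizing_unit (h : Dual.IsDualizing A (Dual.inD A A)) :
    LocCoh.IsGorensteinLocalRing A := by
  obtain ⟨a, b, hab⟩ := h.finite_injective_dimension
  refine { exists_hasInjectiveDimensionLT := ⟨(b + 1).toNat, ?_⟩ }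
  rw [hasInjectiveDimensionLT_iff]
  intro i hi Y e
  haveI := hab Y (i : ℤ) (Or.inr (by omega))
  apply (Abelian.Ext.homEquiv (X := Y) (Y := ModuleCat.of A A) (n := i)).injective
  exact Subsingleton.elim _ _

/-- `H^i(ω[n]) ≃ H^{n+i}(ω)`. -/
noncomputable def HDShiftEquiv (ω : Dual.D A) (n i m : ℤ) (h : n + i = m) :
    Dual.HD A (ω⟦n⟧) i ≃ₗ[A] Dual.HD A ω m :=
  (((homologyFunctor (ModuleCat.{u} A) 0).shiftIso n i m h).app ω).toLinearEquiv

/-- **Gorenstein criterion**: a local ring with dualizing complex `ω` is Gorenstein iff `ω` is a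
shift of the ring. -/
theorem isGorenstein_iff (ω : Dual.D A) (hω : Dual.IsDualizing A ω) :
    LocCoh.IsGorensteinLocalRing A ↔
      ∃ m : ℤ, (∀ i : ℤ, i ≠ m → Subsingleton (Dual.HD A ω i)) ∧
        Nonempty (Dual.HD A ω m ≃ₗ[A] A) := by
  constructor
  · intro h
    have hu := isDualizing_unit_of_gorenstein h
    obtain ⟨n, ⟨e⟩⟩ := Groth.Agent.H4.DZ5.S1747 A (Dual.inD A A) ω hu hω
    have he : ∀ i : ℤ, Nonempty (Dual.HD A ω i ≃ₗ[A] Dual.HD A (Dual.inD A A) (n + i)) := fun i =>
      ⟨((homologyFunctor (ModuleCat.{u} A) i).mapIso e).toLinearEquiv.trans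
        (HDShiftEquiv (Dual.inD A A) n i (n + i) rfl)⟩
    refine ⟨-n, fun i hi => ?_, ?_⟩
    · obtain ⟨e'⟩ := he i
      haveI := subsingleton_HD_unit (A := A) (n + i) (by omega)
      exact e'.subsingleton
    · obtain ⟨e'⟩ := he (-n)
      have h0 : n + -n = 0 := by ring
      rw [h0] at e'
      exact ⟨e'.trans HDUnitEquiv⟩
  · rintro ⟨m, hvan, ⟨em⟩⟩
    haveI : ω.IsGE m := by
      rw [isGE_iff]
      intro i hi
      haveI := hvan i (by omega)
      exact ModuleCat.isZero_of_subsingleton _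
    haveI : ω.IsLE m := by
      rw [isLE_iff]
      intro i hi
      haveI := hvan i (by omega)
      exact ModuleCat.isZero_of_subsingleton _
    obtain ⟨W, ⟨eW⟩⟩ := exists_iso_singleFunctor_obj_of_isGE_of_isLE ω m
    let e1 : W ≅ ModuleCat.of A A :=
      ((singleFunctorCompHomologyFunctorIso (ModuleCat.{u} A) m).app W).symm ≪≫
        (homologyFunctor (ModuleCat.{u} A) m).mapIso eW.symm ≪≫ em.toModuleIso
    let e2 : ω ≅ (Dual.inD A A)⟦-m⟧ :=
      eW ≪≫ (singleFunctor (ModuleCat.{u} A) m).mapIso e1 ≪≫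
        (((singleFunctors (ModuleCat.{u} A)).shiftIso (-m) m 0 (by ring)).app
          (ModuleCat.of A A)).symm
    let e3 : ω⟦m⟧ ≅ Dual.inD A A :=
      (shiftFunctor (Dual.D A) m).mapIso e2 ≪≫ shiftNegShift (Dual.inD A A) m
    exact gorenstein_of_isDualizing_unit (isDualizing_of_iso e3 (isDualizing_shift ω hω m))

end gor

section global

variable [IsNoetherianRing A] (p : PrimeSpectrum A)

/-- `H^i(ω_p) ≃ H^i(ω)_p`. -/
noncomputable def HDLocEquiv (K : Dual.D A) (i : ℤ) :
    Dual.HD (Localization.AtPrime p.asIdeal) ((E A (Localization.AtPrime p.asIdeal)).obj K) i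
      ≃ₗ[Localization.AtPrime p.asIdeal] LocalizedModule p.asIdeal.primeCompl (Dual.HD A K i) :=
  (homologyEIso (B := Localization.AtPrime p.asIdeal) K i).toLinearEquiv.trans
    ((Groth.Agent.H8.ExtBridge.extEquiv (A := A) (B := Localization.AtPrime p.asIdeal)
      ((homologyFunctor (ModuleCat.{u} A) i).obj K)).trans
      (IsLocalizedModule.isBaseChange p.asIdeal.primeCompl (Localization.AtPrime p.asIdeal)
        (LocalizedModule.mkLinearMap p.asIdeal.primeCompl (Dual.HD A K i))).equiv)

/-- **the Gorenstein locus in terms of a dualizing complex.** -/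
theorem isGorenstein_localization_iff (ω : Dual.D A) (hω : Dual.IsDualizing A ω) :
    LocCoh.IsGorensteinLocalRing (Localization.AtPrime p.asIdeal) ↔
      ∃ m : ℤ, (∀ i : ℤ, i ≠ m → p ∉ Module.support A (Dual.HD A ω i)) ∧
        Nonempty (LocalizedModule p.asIdeal.primeCompl (Dual.HD A ω m)
          ≃ₗ[Localization.AtPrime p.asIdeal] Localization.AtPrime p.asIdeal) := by
  have hB : Dual.IsDualizing (Localization.AtPrime p.asIdeal)
      ((E A (Localization.AtPrime p.asIdeal)).obj ω) :=
    isDualizing_E_localization A p.asIdeal.primeCompl ω hω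
  haveI : IsNoetherianRing (Localization.AtPrime p.asIdeal) :=
    IsLocalization.isNoetherianRing p.asIdeal.primeCompl _ inferInstance
  rw [isGorenstein_iff _ hB]
  constructor
  · rintro ⟨m, hvan, ⟨em⟩⟩
    refine ⟨m, fun i hi => ?_, ⟨(HDLocEquiv p ω m).symm.trans em⟩⟩
    rw [← nontrivial_HD_E_iff, not_nontrivial_iff_subsingleton]
    exact hvan i hi
  · rintro ⟨m, hvan, ⟨em⟩⟩
    refine ⟨m, fun i hi => ?_, ⟨(HDLocEquiv p ω m).trans em⟩⟩
    have := hvan i hi
    rw [← nontrivial_HD_E_iff, not_nontrivial_iff_subsingleton] at this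
    exact this

/-- **S0373.** -/
theorem S0373 (ω : Dual.D A) (hω : Dual.IsDualizing A ω) :
    IsOpen {p : PrimeSpectrum A |
      LocCoh.IsGorensteinLocalRing (Localization.AtPrime p.asIdeal)} := by
  obtain ⟨a, b, ha, hb, -⟩ := exists_bounds_of_isDualizing ω hω
  haveI := ha
  haveI := hb
  have hsub : ∀ i : ℤ, i < a ∨ b < i → Module.support A (Dual.HD A ω i) = ∅ := by
    intro i hi
    haveI : Subsingleton (Dual.HD A ω i) := by
      apply ModuleCat.subsingleton_of_isZero
      rcases hi with h' | h'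
      · exact isZero_of_isGE ω a i h'
      · exact isZero_of_isLE ω b i h'
    exact Module.support_eq_empty
  rw [isOpen_iff_forall_mem_open]
  intro p hp
  obtain ⟨m, hvan, ⟨em⟩⟩ := (isGorenstein_localization_iff p ω hω).1 hp
  haveI := hω.finite_cohomology m
  haveI : Module.FinitePresentation A (Dual.HD A ω m) := Module.finitePresentation_of_finite A _
  -- the open set
  let V1 : Set (PrimeSpectrum A) :=
    ⋂ i ∈ ((Finset.Icc a b).filter (fun i => i ≠ m) : Finset ℤ),
      (Module.support A (Dual.HD A ω i))ᶜ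
  let V2 : Set (PrimeSpectrum A) :=
    {q | q ∈ Module.freeLocus A (Dual.HD A ω m) ∧ Module.rankAtStalk (Dual.HD A ω m) q = 1}
  have hV1 : IsOpen V1 := by
    refine Set.Finite.isOpen_biInter (Finset.finite_toSet _) (fun i _ => ?_)
    haveI := hω.finite_cohomology i
    exact (Module.isClosed_support (R := A) (M := Dual.HD A ω i)).isOpen_compl
  have hV2 : IsOpen V2 := by
    have h1 := (Module.isLocallyConstant_rankAtStalk_freeLocus (R := A)
      (M := Dual.HD A ω m)).isOpen_fiber 1
    have h2 := (Module.isOpen_freeLocus (R := A) (M := Dual.HD A ω m)).isOpenMap_subtype_val _ h1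
    convert h2 using 1
    ext q
    simp only [V2, Set.mem_ofPred_eq, Set.mem_image,
      Subtype.exists, exists_and_right, exists_eq_right]
    constructor
    · rintro ⟨h3, h4⟩
      exact ⟨h3, h4⟩
    · rintro ⟨h3, h4⟩
      exact ⟨h3, h4⟩
  refine ⟨V1 ∩ V2, ?_, hV1.inter hV2, ?_⟩
  · rintro q ⟨hq1, hq2⟩
    refine (isGorenstein_localization_iff q ω hω).2 ⟨m, fun i hi => ?_, ?_⟩
    · by_cases hib : a ≤ i ∧ i ≤ b
      · have := Set.mem_iInter₂.1 hq1 i (by
          rw [Finset.mem_filter, Finset.mem_Icc]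
          exact ⟨hib, hi⟩)
        exact this
      · rw [hsub i (by omega)]
        exact Set.notMem_empty _
    · obtain ⟨hfree, hrank⟩ := hq2
      haveI : Module.Free (Localization.AtPrime q.asIdeal)
          (LocalizedModule q.asIdeal.primeCompl (Dual.HD A ω m)) := hfree
      haveI : Module.Finite (Localization.AtPrime q.asIdeal)
          (LocalizedModule q.asIdeal.primeCompl (Dual.HD A ω m)) :=
        Module.Finite.of_isLocalizedModule q.asIdeal.primeCompl
          (LocalizedModule.mkLinearMap q.asIdeal.primeCompl _)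
      exact FiniteDimensional.nonempty_linearEquiv_of_finrank_eq (by
        rw [Module.finrank_self]
        exact hrank)
  · refine ⟨?_, ?_, ?_⟩
    · refine Set.mem_iInter₂.2 (fun i hi => ?_)
      rw [Finset.mem_filter] at hi
      exact hvan i hi.2
    · exact Module.Free.of_equiv em.symm
    · change Module.finrank _ _ = 1
      rw [em.finrank_eq, Module.finrank_self]

end global

end Groth.Agent.H4.US17
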