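import Mathlib
import Groth.Agent.H4.US17
import Groth.Agent.S0342

set_option autoImplicit false
universe u
open CategoryTheory Category Limits Pretriangulated

namespace Groth.Agent.H4.US18

attribute [local instance] HasDerivedCategory.standard
attribute [local instance] Groth.Agent.H4.LK4.hasLTen Groth.Agent.H4.LK5.hasLTen₃
  Groth.Agent.H4.KI7.isSymMonoidal Groth.Agent.H4.KI6.hasRHom

open DRing DTen DerivedCategory Groth.Agent.H4.DThick Groth.Agent.H4.DCompl1 Groth.Agent.H4.CF1
  Groth.Agent.H4.InjAmp Groth.Agent.H4.DZ1 Groth.Agent.H4.DZ2 Groth.Agent.H4.DZ3 Groth.Agent.H4.DZ4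
  Groth.Agent.H4.DZ5 Groth.Agent.H4.DZ6 Groth.Agent.H4.ProjAmp Groth.Agent.H4.US8 Groth.Agent.H4.US9
  Groth.Agent.H4.US10 Groth.Agent.H4.US11 Groth.Agent.H4.US12 Groth.Agent.H4.US13
  Groth.Agent.H4.US14 Groth.Agent.H4.US15 Groth.Agent.H4.US16 Groth.Agent.H4.US17
  Groth.Agent.H4.FB1 Groth.Agent.H4.FB2 Groth.Agent.H4.FB3

open scoped Pointwise TensorProduct

variable {A : Type u} [CommRing A]

section local_

variable [IsLocalRing A] [IsNoetherianRing A]

/-- over a Gorenstein local ring of dimension `d`, `Ext^i(M, A) = 0` for `i > d` and `M` finite. -/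
theorem subsingleton_ext_unit_of_gorenstein (h : LocCoh.IsGorensteinLocalRing A) (d : ℕ)
    (hd : ringKrullDim A = d) (M : Type u) [AddCommGroup M] [Module A M] [Module.Finite A M]
    (i : ℤ) (hi : (d : ℤ) < i) : Subsingleton (Dual.inD A M ⟶ (Dual.inD A A)⟦i⟧) := by
  have hu := isDualizing_unit_of_gorenstein h
  obtain ⟨n, hn⟩ := exists_extData (Dual.inD A A) hu
  obtain ⟨δ, -, h1, -, -⟩ := cohomology_range (Dual.inD A A) hu n hn d hd
  have hnd : n = d := by
    by_contra hcon
    haveI := subsingleton_HD_unit (A := A) (n - d) (by omega)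
    exact not_subsingleton _ ‹Subsingleton (Dual.HD A (Dual.inD A A) (n - d))›
  have hdual := isDualizing_shift (Dual.inD A A) hu n
  have hnorm := isNormalized_shift (Dual.inD A A) n hn
  haveI := subsingleton_ext_of_pos ((Dual.inD A A)⟦n⟧) hdual hnorm (i - n) (by omega) M
  exact (homShiftShiftLinEquiv (Dual.inD A M) (Dual.inD A A) n (i - n) i
    (by ring)).symm.toEquiv.subsingleton

end local_

section global

variable [IsNoetherianRing A]

/-- `E (A[0]) ≅ A_p[0]`. -/
noncomputable def EUnitIso (B : Type u) [CommRing B] [Algebra A B] [Module.Flat A B] :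
    (E A B).obj (Dual.inD A A) ≅ Dual.inD B B :=
  ESingleIso (ModuleCat.of A A) 0 ≪≫
    (singleFunctor (ModuleCat.{u} B) 0).mapIso
      ((Groth.Agent.H8.ExtBridge.extEquiv (A := A) (B := B) (ModuleCat.of A A)).trans
        (TensorProduct.AlgebraTensorModule.rid A B B)).toModuleIso

/-- **S11185.** -/
theorem S11185 (hreg : ∀ p : PrimeSpectrum A, IsRegularLocalRing (Localization.AtPrime p.asIdeal))
    (hdim : ringKrullDim A < ⊤) : Dual.IsDualizing A (Dual.inD A A) := by
  obtain ⟨d, hd⟩ : ∃ d : ℕ, ringKrullDim A ≤ ((d : ℕ) : WithBot ℕ∞) := by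
    rcases h : ringKrullDim A with _ | k
    · exact ⟨0, bot_le⟩
    · have hk : k ≠ ⊤ := by
        intro hk
        rw [h, hk] at hdim
        exact lt_irrefl _ hdim
      refine ⟨k.toNat, ?_⟩
      have : ((k : ℕ∞) : WithBot ℕ∞) = ((k.toNat : ℕ) : WithBot ℕ∞) := by
        conv_lhs => rw [← ENat.natCast_toNat hk]
        rfl
      exact le_of_eq this
  have hcyc : ∀ (J : Ideal A) (i : ℤ), (i < 0 ∨ (d : ℤ) < i) →
      Subsingleton (Dual.inD A (A ⧸ J) ⟶ (Dual.inD A A)⟦i⟧) := by
    intro J i hi
    rcases hi with hi | hi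
    · haveI : (Dual.inD A (A ⧸ J)).IsLE 0 :=
        inferInstanceAs (((singleFunctor (ModuleCat.{u} A) 0).obj _).IsLE 0)
      haveI : (Dual.inD A A).IsGE 0 :=
        inferInstanceAs (((singleFunctor (ModuleCat.{u} A) 0).obj _).IsGE 0)
      haveI : ((Dual.inD A A)⟦i⟧).IsGE (-i) := TStructure.t.isGE_shift _ 0 i (-i) (by ring)
      refine ⟨fun f g => ?_⟩
      rw [(tR A).zero f 0 (-i) (by omega), (tR A).zero g 0 (-i) (by omega)]
    · rw [← Module.support_eq_empty_iff (R := A)]
      ext p
      simp only [Set.mem_empty_iff_false, iff_false]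
      intro hp
      haveI : (Dual.inD A A).IsGE 0 :=
        inferInstanceAs (((singleFunctor (ModuleCat.{u} A) 0).obj _).IsGE 0)
      haveI : ((Dual.inD A A)⟦i⟧).IsGE (0 - i) := TStructure.t.isGE_shift _ 0 i (0 - i) (by ring)
      rw [← nontrivial_hom_E_iff p (Dual.inD A (A ⧸ J)) ((Dual.inD A A)⟦i⟧) (0 - i)
        (isPC'_inD (A ⧸ J)),
        ((EQuotIso (B := Localization.AtPrime p.asIdeal) J).homCongr
          ((EShiftIso (Dual.inD A A) i).trans ((shiftFunctor _ i).mapIso
            (EUnitIso (Localization.AtPrime p.asIdeal))))).nontrivial_congr] at hp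
      haveI := hreg p
      have hG : LocCoh.IsGorensteinLocalRing (Localization.AtPrime p.asIdeal) :=
        Groth.Agent.S0342.result _
      haveI : IsNoetherianRing (Localization.AtPrime p.asIdeal) :=
        IsLocalization.isNoetherianRing p.asIdeal.primeCompl _ inferInstance
      obtain ⟨dB, hdB⟩ : ∃ dB : ℕ, ringKrullDim (Localization.AtPrime p.asIdeal) = dB := by
        have h1 : ringKrullDim (Localization.AtPrime p.asIdeal) ≠ ⊥ := ringKrullDim_ne_bot
        have h2 : ringKrullDim (Localization.AtPrime p.asIdeal) ≠ ⊤ := ringKrullDim_ne_top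
        obtain ⟨k, hk⟩ := WithBot.ne_bot_iff_exists.1 h1
        have h3 : k ≠ ⊤ := by
          intro h
          rw [h] at hk
          exact h2 hk.symm
        refine ⟨k.toNat, ?_⟩
        rw [← hk]
        conv_lhs => rw [← ENat.natCast_toNat h3]
        rfl
      have hle : dB ≤ d := by
        have h1 : ringKrullDim (Localization.AtPrime p.asIdeal) ≤ ringKrullDim A := by
          rw [IsLocalization.AtPrime.ringKrullDim_eq_height p.asIdeal
            (Localization.AtPrime p.asIdeal)]
          exact Ideal.height_le_ringKrullDim_of_ne_top p.isPrime.ne_top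
        rw [hdB] at h1
        have h2 := h1.trans hd
        exact_mod_cast h2
      haveI : Module.Finite (Localization.AtPrime p.asIdeal)
          (Localization.AtPrime p.asIdeal ⧸ J.map (algebraMap A (Localization.AtPrime p.asIdeal))) :=
        inferInstance
      haveI := subsingleton_ext_unit_of_gorenstein hG dB hdB
        (Localization.AtPrime p.asIdeal ⧸ J.map (algebraMap A (Localization.AtPrime p.asIdeal)))
        i (by omega)
      exact not_subsingleton _ ‹Subsingleton (Dual.inD (Localization.AtPrime p.asIdeal)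
        (Localization.AtPrime p.asIdeal ⧸ J.map (algebraMap A (Localization.AtPrime p.asIdeal))) ⟶
        (Dual.inD (Localization.AtPrime p.asIdeal) (Localization.AtPrime p.asIdeal))⟦i⟧)›
  refine ⟨inferInstance, ?_, finite_HD_unit, bijective_toEnd_unit, subsingleton_ext_unit⟩
  have hP : Groth.Agent.H4.InjAmp.P 0 (d : ℤ) (Dual.inD A A) := by
    intro I i hi
    rw [subsingleton_sgl_iff]
    exact hcyc I i hi
  obtain ⟨E', hE', hinj, ⟨ε⟩⟩ := Groth.Agent.H4.InjAmp.exists_injective_rep
    (d + 1) 0 (d : ℤ) (Dual.inD A A) (by push_cast; omega) hP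
  refine ⟨0, d, fun M _ _ i hi => ?_⟩
  exact ext_subsingleton_of_rep E' 0 d hE' hinj (Dual.inD A A) ε (ModuleCat.of A M) i hi

end global

end Groth.Agent.H4.US18
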