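import Mathlib
import Groth.Prelude.Def_DualLC
import Groth.Agent.S0580
import Groth.Agent.S5784
import Groth.Agent.H4.US18
import Groth.Agent.H4.US4
import Groth.Agent.H4.RAdj

set_option autoImplicit false
universe u
open CategoryTheory Category Limits

namespace Groth.Agent.H4.CD1

attribute [local instance] HasDerivedCategory.standard

lemma isRegularRing_of_isField (Λ : Type u) [CommRing Λ] (h : IsField Λ) : IsRegularRing Λ := by
  letI : Field Λ := h.toField
  infer_instance

lemma isRegularRing_of_isCohenRing (Λ : Type u) [CommRing Λ] (h : CAlg.IsCohenRing Λ) :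
    IsRegularRing Λ := by
  obtain ⟨_, _, -, -⟩ := h
  infer_instance

/-- **S0376**: a complete Noetherian local ring has a dualizing complex. -/
theorem S0376 (A : Type u) [CommRing A] [IsLocalRing A] [IsNoetherianRing A]
    [IsAdicComplete (IsLocalRing.maximalIdeal A) A] : ∃ ω : Dual.D A, Dual.IsDualizing A ω := by
  obtain ⟨Λ, _, n, f, hΛ, hf⟩ := Groth.Agent.S0580.result A
    (IsNoetherian.noetherian (IsLocalRing.maximalIdeal A))
  haveI : IsRegularRing Λ := by
    rcases hΛ with h | h
    · exact isRegularRing_of_isField Λ h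
    · exact isRegularRing_of_isCohenRing Λ h
  haveI : IsRegularRing (MvPowerSeries (Fin n) Λ) := Groth.Agent.S5784.result Λ n
  haveI : IsNoetherianRing (MvPowerSeries (Fin n) Λ) := inferInstance
  haveI : Nontrivial Λ := by
    rcases hΛ with h | h
    · exact h.nontrivial
    · obtain ⟨_, _, -, -⟩ := h
      infer_instance
  haveI : IsLocalRing Λ := by
    rcases hΛ with h | h
    · letI : Field Λ := h.toField
      infer_instance
    · obtain ⟨_, _, -, -⟩ := h
      infer_instance
  haveI : IsLocalRing (MvPowerSeries (Fin n) Λ) := inferInstance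
  have hdual : Dual.IsDualizing (MvPowerSeries (Fin n) Λ)
      (Dual.inD (MvPowerSeries (Fin n) Λ) (MvPowerSeries (Fin n) Λ)) :=
    Groth.Agent.H4.US18.S11185 (fun p => inferInstance) ringKrullDim_lt_top
  letI : Algebra (MvPowerSeries (Fin n) Λ) A := f.toAlgebra
  haveI : Module.Finite (MvPowerSeries (Fin n) Λ) A :=
    Module.Finite.of_surjective (Algebra.linearMap (MvPowerSeries (Fin n) Λ) A) hf
  exact ⟨_, Groth.Agent.H4.US4.S1772 (Groth.Agent.H4.RAdj.R₀ f) (Groth.Agent.H4.RAdj.adjR₀ f) _
    hdual⟩

end Groth.Agent.H4.CD1
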