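import Mathlib
import Groth.Prelude.Def_CE
import Groth.Agent.Lib.Helper2.RDer6

set_option autoImplicit false
open CategoryTheory CategoryTheory.Limits

universe v u

namespace Groth.Agent.H4.CERes

open Groth.Agent.H2.RDer

variable {A : Type u} [Category.{v} A] [Abelian A]

/-! ### Part C: from an `ℕ`-indexed row complex to `IsInjResolutionVia` -/

section PartC

variable {B : Type*} [Category B] [HasZeroMorphisms B] [HasZeroObject B]
  (F : B ⥤ A) [F.PreservesZeroMorphisms]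
  (Row : CochainComplex B ℕ) {M : A} (R : InjectiveResolution M)
  (θ : ∀ i : ℕ, F.obj (Row.X i) ≅ R.cocomplex.X i)

/-- the comparison isomorphism in degree `q = ↑i` -/
noncomputable def thetaExt (q : ℤ) (i : ℕ) (h : ComplexShape.embeddingUpNat.f i = q) :
    F.obj ((Row.extend ComplexShape.embeddingUpNat).X q) ≅ R.cocomplex.X i :=
  F.mapIso (Row.extendXIso ComplexShape.embeddingUpNat h) ≪≫ θ i

variable (hθ : ∀ i : ℕ, F.map (Row.d i (i + 1)) ≫ (θ (i + 1)).hom =
  (θ i).hom ≫ R.cocomplex.d i (i + 1))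

include hθ in
lemma thetaExt_d (q q' : ℤ) (i : ℕ) (h : ComplexShape.embeddingUpNat.f i = q)
    (h' : ComplexShape.embeddingUpNat.f (i + 1) = q') :
    F.map ((Row.extend ComplexShape.embeddingUpNat).d q q') ≫
        (thetaExt F Row R θ q' (i + 1) h').hom =
      (thetaExt F Row R θ q i h).hom ≫ R.cocomplex.d i (i + 1) := by
  rw [Row.extend_d_eq ComplexShape.embeddingUpNat h h']
  simp only [thetaExt, Iso.trans_hom, Functor.mapIso_hom, Functor.map_comp, Category.assoc,
    Iso.map_inv_hom_id_assoc, hθ]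

include hθ in
theorem isInjRes_of_row (a : M ⟶ F.obj ((Row.extend ComplexShape.embeddingUpNat).X 0))
    (ha : a ≫ (thetaExt F Row R θ 0 0 (by simp)).hom = R.ι.f 0) :
    CE.IsInjResolutionVia
      ((F.mapHomologicalComplex (ComplexShape.up ℤ)).obj
        (Row.extend ComplexShape.embeddingUpNat)) M a := by
  have hd01 := thetaExt_d F Row R θ hθ 0 1 0 (by simp) (by simp)
  have hneg : ∀ q : ℤ, q < 0 →
      IsZero (F.obj ((Row.extend ComplexShape.embeddingUpNat).X q)) := fun q hq =>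
    F.map_isZero (Row.isZero_extend_X _ q (fun i hi => by
      simp at hi
      lia))
  have h0 : a ≫ F.map ((Row.extend ComplexShape.embeddingUpNat).d 0 1) = 0 := by
    rw [← cancel_mono (thetaExt F Row R θ 1 (0 + 1) (by simp)).hom, Category.assoc, hd01,
      ← Category.assoc, ha, zero_comp]
    exact ι0_d R
  refine ⟨h0, ?_, ?_, ?_, ?_, ?_⟩
  · rw [CochainComplex.isStrictlyGE_iff]
    intro q hq
    exact hneg q hq
  · intro q
    by_cases hq : q < 0
    · exact Injective.of_iso (hneg q hq).isoZero.symm inferInstance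
    · obtain ⟨i, rfl⟩ : ∃ i : ℕ, ComplexShape.embeddingUpNat.f i = q :=
        ⟨q.toNat, by simp; lia⟩
      exact Injective.of_iso (thetaExt F Row R θ _ i rfl).symm (R.injective i)
  · intro q hq0
    by_cases hq : q < 0
    · exact ShortComplex.exact_of_isZero_X₂ _ (hneg q hq)
    · obtain ⟨j, rfl⟩ : ∃ j : ℕ, ComplexShape.embeddingUpNat.f (j + 1) = q :=
        ⟨(q - 1).toNat, by simp; lia⟩
      rw [HomologicalComplex.exactAt_iff' _ (ComplexShape.embeddingUpNat.f j)
        (ComplexShape.embeddingUpNat.f (j + 1)) (ComplexShape.embeddingUpNat.f (j + 1 + 1))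
        (by simp) (by simp)]
      have e : (((F.mapHomologicalComplex (ComplexShape.up ℤ)).obj
          (Row.extend ComplexShape.embeddingUpNat)).sc' (ComplexShape.embeddingUpNat.f j)
          (ComplexShape.embeddingUpNat.f (j + 1)) (ComplexShape.embeddingUpNat.f (j + 1 + 1))) ≅
          R.cocomplex.sc' j (j + 1) (j + 1 + 1) :=
        ShortComplex.isoMk
          (thetaExt F Row R θ _ j rfl) (thetaExt F Row R θ _ (j + 1) rfl)
          (thetaExt F Row R θ _ (j + 1 + 1) rfl)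
          (thetaExt_d F Row R θ hθ _ _ j rfl rfl).symm
          (thetaExt_d F Row R θ hθ _ _ (j + 1) rfl rfl).symm
      exact (ShortComplex.exact_iff_of_iso e).2
        ((R.cocomplex.exactAt_iff' j (j + 1) (j + 1 + 1) (by simp) (by simp)).1
          (R.cocomplex_exactAt_succ j))
  · have : Mono (a ≫ (thetaExt F Row R θ 0 0 (by simp)).hom) := by
      rw [ha]; exact HS.mono_ι0 R
    exact mono_of_mono a (thetaExt F Row R θ 0 0 _).hom
  · have e : ShortComplex.mk a (((F.mapHomologicalComplex (ComplexShape.up ℤ)).obj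
        (Row.extend ComplexShape.embeddingUpNat)).d 0 1) h0 ≅
        ShortComplex.mk (ι0 R) (R.cocomplex.d 0 1) (ι0_d R) :=
      ShortComplex.isoMk (Iso.refl M)
        (thetaExt F Row R θ 0 0 (by simp)) (thetaExt F Row R θ 1 (0 + 1) (by simp))
        (by dsimp; rw [Category.id_comp]; exact ha.symm) hd01.symm
    exact (ShortComplex.exact_iff_of_iso e).2 (HS.exact₀ R)

end PartC

/-! ### Part B: cycles and homology of a complex which is split at a degree -/

section PartB

/-- Data expressing that a complex is "split" around degree `p`. -/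
structure SplitAt (X : CochainComplex A ℤ) (p' p p'' : ℤ) where
  hp' : p' + 1 = p
  hp'' : p + 1 = p''
  Z : A
  B : A
  H : A
  B'' : A
  inlK : Z ⟶ X.X p
  sndK : X.X p ⟶ B''
  rK : X.X p ⟶ Z
  sK : B'' ⟶ X.X p
  h1 : inlK ≫ rK = 𝟙 Z
  h2 : rK ≫ inlK + sndK ≫ sK = 𝟙 (X.X p)
  h3 : inlK ≫ sndK = 0
  m₂ : B'' ⟶ X.X p''
  mono_m₂ : Mono m₂
  hd : X.d p p'' = sndK ≫ m₂
  inlZ : B ⟶ Z
  sndZ : Z ⟶ H
  rZ : Z ⟶ B
  sZ : H ⟶ Z
  k1 : sZ ≫ sndZ = 𝟙 H
  k2 : rZ ≫ inlZ + sndZ ≫ sZ = 𝟙 Z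
  k3 : inlZ ≫ sndZ = 0
  e₁ : X.X p' ⟶ B
  epi_e₁ : Epi e₁
  hd' : X.d p' p = e₁ ≫ inlZ ≫ inlK

namespace SplitAt

variable {X : CochainComplex A ℤ} {p' p p'' : ℤ} (s : SplitAt X p' p p'')

lemma iCycles_sndK : X.iCycles p ≫ s.sndK = 0 := by
  haveI := s.mono_m₂
  rw [← cancel_mono s.m₂, Category.assoc, ← s.hd, X.iCycles_d, zero_comp]

lemma iCycles_rK_inlK : (X.iCycles p ≫ s.rK) ≫ s.inlK = X.iCycles p := by
  have h : s.rK ≫ s.inlK = 𝟙 _ - s.sndK ≫ s.sK := eq_sub_of_add_eq s.h2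
  rw [Category.assoc, h, Preadditive.comp_sub, Category.comp_id, ← Category.assoc,
    s.iCycles_sndK, zero_comp, sub_zero]

lemma inlK_d : s.inlK ≫ X.d p p'' = 0 := by
  rw [s.hd, ← Category.assoc, s.h3, zero_comp]

/-- the cycles in degree `p` -/
noncomputable def cycIso : X.cycles p ≅ s.Z where
  hom := X.iCycles p ≫ s.rK
  inv := X.liftCycles s.inlK p'' (by simp [← s.hp'']) s.inlK_d
  hom_inv_id := by
    rw [← cancel_mono (X.iCycles p), Category.assoc, X.liftCycles_i, s.iCycles_rK_inlK,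
      Category.id_comp]
  inv_hom_id := by
    rw [← Category.assoc, X.liftCycles_i, s.h1]

lemma cycIso_hom_inlK : s.cycIso.hom ≫ s.inlK = X.iCycles p := s.iCycles_rK_inlK

lemma cycIso_inv_iCycles : s.cycIso.inv ≫ X.iCycles p = s.inlK := by
  simp [cycIso]

instance : Mono s.inlK := mono_of_mono_fac s.h1

lemma toCycles_cycIso_hom : X.toCycles p' p ≫ s.cycIso.hom = s.e₁ ≫ s.inlZ := by
  rw [← cancel_mono s.inlK, Category.assoc, s.cycIso_hom_inlK, X.toCycles_i, s.hd',
    Category.assoc]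

lemma toCycles_comp : X.toCycles p' p ≫ s.cycIso.hom ≫ s.sndZ = 0 := by
  rw [← Category.assoc, s.toCycles_cycIso_hom, Category.assoc, s.k3, comp_zero]

lemma inlZ_inv_π : s.inlZ ≫ s.cycIso.inv ≫ X.homologyπ p = 0 := by
  haveI := s.epi_e₁
  rw [← cancel_epi s.e₁, comp_zero, ← Category.assoc, ← Category.assoc,
    ← s.toCycles_cycIso_hom, Category.assoc, Category.assoc, Iso.hom_inv_id_assoc,
    X.toCycles_comp_homologyπ]

/-- the map from homology -/
noncomputable def homHom : X.homology p ⟶ s.H :=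
  (CokernelCofork.IsColimit.desc' (X.homologyIsCokernel p' p (by simp [← s.hp']))
    (s.cycIso.hom ≫ s.sndZ) s.toCycles_comp).1

lemma π_homHom : X.homologyπ p ≫ s.homHom = s.cycIso.hom ≫ s.sndZ :=
  (CokernelCofork.IsColimit.desc' (X.homologyIsCokernel p' p (by simp [← s.hp']))
    (s.cycIso.hom ≫ s.sndZ) s.toCycles_comp).2

/-- the homology in degree `p` -/
noncomputable def homIso : X.homology p ≅ s.H where
  hom := s.homHom
  inv := s.sZ ≫ s.cycIso.inv ≫ X.homologyπ p
  hom_inv_id := by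
    have h : s.sndZ ≫ s.sZ = 𝟙 _ - s.rZ ≫ s.inlZ := eq_sub_of_add_eq' s.k2
    rw [← cancel_epi (X.homologyπ p), ← Category.assoc, s.π_homHom, Category.assoc,
      ← Category.assoc s.sndZ, h, Preadditive.sub_comp, Category.id_comp, Category.assoc,
      s.inlZ_inv_π, comp_zero, sub_zero, Iso.hom_inv_id_assoc, Category.comp_id]
  inv_hom_id := by
    rw [Category.assoc, Category.assoc, s.π_homHom, Iso.inv_hom_id_assoc, s.k1]

lemma π_homIso_hom : X.homologyπ p ≫ s.homIso.hom = s.cycIso.hom ≫ s.sndZ := s.π_homHom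

lemma aug_cyc' {K : CochainComplex A ℤ} (w : K ⟶ X) (a : K.cycles p ⟶ s.Z)
    (ha : a ≫ s.inlK = K.iCycles p ≫ w.f p) :
    HomologicalComplex.cyclesMap w p ≫ s.cycIso.hom = a := by
  rw [← cancel_mono s.inlK, Category.assoc, s.cycIso_hom_inlK, HomologicalComplex.cyclesMap_i,
    ha]

lemma aug_hom' {K : CochainComplex A ℤ} (w : K ⟶ X) (a : K.cycles p ⟶ s.Z)
    (b : K.homology p ⟶ s.H)
    (hc : HomologicalComplex.cyclesMap w p ≫ s.cycIso.hom = a)
    (hb : a ≫ s.sndZ = K.homologyπ p ≫ b) :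
    HomologicalComplex.homologyMap w p ≫ s.homIso.hom = b := by
  rw [← cancel_epi (K.homologyπ p), HomologicalComplex.homologyπ_naturality_assoc,
    s.π_homIso_hom, ← Category.assoc, hc, hb]

end SplitAt

lemma cyc_nat {X X' : CochainComplex A ℤ} (w : X ⟶ X') (p : ℤ) {Z Z' : A}
    (i : Z ⟶ X.X p) (i' : Z' ⟶ X'.X p) [Mono i'] (e : X.cycles p ⟶ Z) (e' : X'.cycles p ⟶ Z')
    (he : e ≫ i = X.iCycles p) (he' : e' ≫ i' = X'.iCycles p) (dZ : Z ⟶ Z')
    (hd : i ≫ w.f p = dZ ≫ i') :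
    HomologicalComplex.cyclesMap w p ≫ e' = e ≫ dZ := by
  rw [← cancel_mono i', Category.assoc, he', HomologicalComplex.cyclesMap_i, Category.assoc,
    ← hd, ← Category.assoc, he]

lemma hom_nat {X X' : CochainComplex A ℤ} (w : X ⟶ X') (p : ℤ) {Z Z' H H' : A}
    (e : X.cycles p ⟶ Z) (e' : X'.cycles p ⟶ Z') (s : Z ⟶ H) (s' : Z' ⟶ H')
    (h : X.homology p ⟶ H) (h' : X'.homology p ⟶ H')
    (hh : X.homologyπ p ≫ h = e ≫ s) (hh' : X'.homologyπ p ≫ h' = e' ≫ s')
    (dZ : Z ⟶ Z') (dH : H ⟶ H') (hc : HomologicalComplex.cyclesMap w p ≫ e' = e ≫ dZ)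
    (hs : s ≫ dH = dZ ≫ s') :
    HomologicalComplex.homologyMap w p ≫ h' = h ≫ dH := by
  rw [← cancel_epi (X.homologyπ p), HomologicalComplex.homologyπ_naturality_assoc, hh',
    ← Category.assoc, hc, Category.assoc, ← hs, ← Category.assoc, ← hh, Category.assoc]

end PartB

/-! ### Part A: the construction -/

section PartA

variable (K : CochainComplex A ℤ)

/-- boundaries -/
noncomputable abbrev Bd (p : ℤ) : A := kernel (K.homologyπ p)

/-- `0 → B^p → Z^p → H^p → 0` -/
noncomputable def sesA (p : ℤ) : ShortComplex A :=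
  ShortComplex.mk (kernel.ι (K.homologyπ p)) (K.homologyπ p) (kernel.condition _)

lemma sesA_shortExact (p : ℤ) : (sesA K p).ShortExact where
  exact := ShortComplex.exact_of_f_is_kernel _ (kernelIsKernel _)
  mono_f := by dsimp [sesA]; infer_instance
  epi_g := by dsimp [sesA]; infer_instance

/-- `K^p → B^{p+1}` -/
noncomputable def toBd (p : ℤ) : K.X p ⟶ Bd K (p + 1) :=
  kernel.lift _ (K.toCycles p (p + 1)) (K.toCycles_comp_homologyπ p (p + 1))

lemma toBd_ι (p : ℤ) :
    toBd K p ≫ kernel.ι (K.homologyπ (p + 1)) ≫ K.iCycles (p + 1) = K.d p (p + 1) := by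
  rw [toBd, kernel.lift_ι_assoc, K.toCycles_i]

/-- `0 → Z^p → K^p → B^{p+1} → 0` -/
noncomputable def sesB (p : ℤ) : ShortComplex A :=
  ShortComplex.mk (K.iCycles p) (toBd K p) (by
    rw [← cancel_mono (kernel.ι (K.homologyπ (p + 1)) ≫ K.iCycles (p + 1)), Category.assoc,
      toBd_ι, K.iCycles_d, zero_comp])

lemma epi_toBd (p : ℤ) : Epi (toBd K p) := by
  have hex : (ShortComplex.mk (K.toCycles p (p + 1)) (K.homologyπ (p + 1))
      (K.toCycles_comp_homologyπ p (p + 1))).Exact :=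
    ShortComplex.exact_of_g_is_cokernel _ (K.homologyIsCokernel p (p + 1) (by simp))
  exact (ShortComplex.exact_iff_epi_kernel_lift _).1 hex

lemma sesB_shortExact (p : ℤ) : (sesB K p).ShortExact where
  exact := by
    apply ShortComplex.exact_of_f_is_kernel
    exact isKernelOfComp (f := toBd K p)
      (kernel.ι (K.homologyπ (p + 1)) ≫ K.iCycles (p + 1)) (K.d p (p + 1))
      (K.cyclesIsKernel p (p + 1) (by simp)) (sesB K p).zero (toBd_ι K p)
  mono_f := by dsimp [sesB]; infer_instance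
  epi_g := epi_toBd K p

variable [EnoughInjectives A]

/-- the zero resolution of a zero object -/
noncomputable def zeroRes (X : A) (h : IsZero X) : InjectiveResolution X :=
  haveI : Injective X := Injective.of_iso h.isoZero.symm inferInstance
  InjectiveResolution.self X

open Classical in
/-- a chosen resolution, zero on zero objects -/
noncomputable def resOf (X : A) : InjectiveResolution X :=
  if h : IsZero X then zeroRes X h else injectiveResolution X

lemma resOf_isZero (X : A) (h : IsZero X) (i : ℕ) : IsZero ((resOf X).cocomplex.X i) := by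
  rw [resOf, dif_pos h]
  exact (HomologicalComplex.eval A _ i).map_isZero ((CochainComplex.single₀ A).map_isZero h)

noncomputable def RB (p : ℤ) : InjectiveResolution (Bd K p) := resOf _
noncomputable def RH (p : ℤ) : InjectiveResolution (K.homology p) := resOf _
noncomputable def RZ (p : ℤ) : InjectiveResolution (K.cycles p) :=
  HS.res₂ (sesA_shortExact K p) (RB K p) (RH K p)
noncomputable def RK (p : ℤ) : InjectiveResolution (K.X p) :=
  HS.res₂ (sesB_shortExact K p) (RZ K p) (RB K (p + 1))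

noncomputable def inlZ (p : ℤ) : (RB K p).cocomplex ⟶ (RZ K p).cocomplex :=
  HS.φ₁ (sesA_shortExact K p) (RB K p) (RH K p)
noncomputable def sndZ (p : ℤ) : (RZ K p).cocomplex ⟶ (RH K p).cocomplex :=
  HS.φ₂ (sesA_shortExact K p) (RB K p) (RH K p)
noncomputable def inlK (p : ℤ) : (RZ K p).cocomplex ⟶ (RK K p).cocomplex :=
  HS.φ₁ (sesB_shortExact K p) (RZ K p) (RB K (p + 1))
noncomputable def sndK (p : ℤ) : (RK K p).cocomplex ⟶ (RB K (p + 1)).cocomplex :=
  HS.φ₂ (sesB_shortExact K p) (RZ K p) (RB K (p + 1))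

@[reassoc]
lemma inlZ_sndZ (p : ℤ) : inlZ K p ≫ sndZ K p = 0 :=
  (HS.resSC (sesA_shortExact K p) (RB K p) (RH K p)).zero

@[reassoc]
lemma inlK_sndK (p : ℤ) : inlK K p ≫ sndK K p = 0 :=
  (HS.resSC (sesB_shortExact K p) (RZ K p) (RB K (p + 1))).zero

noncomputable def splA (p : ℤ) (i : ℕ) :=
  HS.resSplitting (sesA_shortExact K p) (RB K p) (RH K p) i

noncomputable def splB (p : ℤ) (i : ℕ) :=
  HS.resSplitting (sesB_shortExact K p) (RZ K p) (RB K (p + 1)) i

lemma aug_sndK (p : ℤ) :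
    ι0 (RK K p) ≫ (sndK K p).f 0 = toBd K p ≫ ι0 (RB K (p + 1)) :=
  HS.comm₂ (sesB_shortExact K p) (RZ K p) (RB K (p + 1))

lemma aug_inlZ (p : ℤ) :
    ι0 (RB K p) ≫ (inlZ K p).f 0 = kernel.ι (K.homologyπ p) ≫ ι0 (RZ K p) :=
  HS.comm₁ (sesA_shortExact K p) (RB K p) (RH K p)

lemma aug_inlK (p : ℤ) :
    ι0 (RZ K p) ≫ (inlK K p).f 0 = K.iCycles p ≫ ι0 (RK K p) :=
  HS.comm₁ (sesB_shortExact K p) (RZ K p) (RB K (p + 1))

lemma aug_sndZ (p : ℤ) :
    ι0 (RZ K p) ≫ (sndZ K p).f 0 = K.homologyπ p ≫ ι0 (RH K p) :=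
  HS.comm₂ (sesA_shortExact K p) (RB K p) (RH K p)

/-- the horizontal differential -/
noncomputable def delta (p : ℤ) : (RK K p).cocomplex ⟶ (RK K (p + 1)).cocomplex :=
  sndK K p ≫ inlZ K (p + 1) ≫ inlK K (p + 1)

lemma delta_comp (p : ℤ) : delta K p ≫ delta K (p + 1) = 0 := by
  simp only [delta, Category.assoc]
  rw [inlK_sndK_assoc, zero_comp, comp_zero, comp_zero]

/-- complex (in `p`) of complexes (in `i`) -/
noncomputable def J : CochainComplex (CochainComplex A ℕ) ℤ :=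
  CochainComplex.of (fun p => (RK K p).cocomplex) (delta K) (delta_comp K)

/-- complex (in `i`) of complexes (in `p`) -/
noncomputable def Row : CochainComplex (CochainComplex A ℤ) ℕ :=
  HomologicalComplex₂.flip (J K)

lemma J_d (p : ℤ) : (J K).d p (p + 1) = delta K p := by
  dsimp [J]
  exact CochainComplex.of_d _ _ p

lemma Row_X_d (i : ℕ) (p : ℤ) : ((Row K).X i).d p (p + 1) = (delta K p).f i :=
  congrArg (fun f => f.f i) (J_d K p)


lemma inlK_sndK_f (p : ℤ) (i : ℕ) : (inlK K p).f i ≫ (sndK K p).f i = 0 := by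
  rw [← HomologicalComplex.comp_f, inlK_sndK, HomologicalComplex.zero_f]

lemma inlZ_sndZ_f (p : ℤ) (i : ℕ) : (inlZ K p).f i ≫ (sndZ K p).f i = 0 := by
  rw [← HomologicalComplex.comp_f, inlZ_sndZ, HomologicalComplex.zero_f]

lemma mono_m2 (p : ℤ) (i : ℕ) : Mono ((inlZ K p).f i ≫ (inlK K p).f i) := by
  have h1 : Mono ((inlZ K p).f i) := (splA K p i).mono_f
  have h2 : Mono ((inlK K p).f i) := (splB K p i).mono_f
  exact mono_comp _ _

lemma eps_comm (p : ℤ) :
    ι0 (RK K p) ≫ (delta K p).f 0 = K.d p (p + 1) ≫ ι0 (RK K (p + 1)) := by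
  have : (delta K p).f 0 = (sndK K p).f 0 ≫ (inlZ K (p + 1)).f 0 ≫ (inlK K (p + 1)).f 0 := rfl
  rw [this]
  calc ι0 (RK K p) ≫ ((sndK K p).f 0 ≫ (inlZ K (p + 1)).f 0 ≫ (inlK K (p + 1)).f 0)
      = (ι0 (RK K p) ≫ (sndK K p).f 0) ≫ (inlZ K (p + 1)).f 0 ≫ (inlK K (p + 1)).f 0 := by
        rw [Category.assoc]
    _ = toBd K p ≫ (ι0 (RB K (p + 1)) ≫ (inlZ K (p + 1)).f 0) ≫ (inlK K (p + 1)).f 0 := by
        rw [aug_sndK]; simp only [Category.assoc]
    _ = toBd K p ≫ kernel.ι (K.homologyπ (p + 1)) ≫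
          (ι0 (RZ K (p + 1)) ≫ (inlK K (p + 1)).f 0) := by
        rw [aug_inlZ]; simp only [Category.assoc]
    _ = toBd K p ≫ kernel.ι (K.homologyπ (p + 1)) ≫ K.iCycles (p + 1) ≫ ι0 (RK K (p + 1)) := by
        rw [aug_inlK]
    _ = K.d p (p + 1) ≫ ι0 (RK K (p + 1)) := by
        rw [← toBd_ι K p]; simp only [Category.assoc]

lemma Row_d_f (i : ℕ) (p : ℤ) : ((Row K).d i (i + 1)).f p = (RK K p).cocomplex.d i (i + 1) := rfl

/-- the splitting data of the `i`-th row at degree `p' + 1` -/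
noncomputable def splitAt (i : ℕ) (p' : ℤ) : SplitAt ((Row K).X i) p' (p' + 1) (p' + 1 + 1) where
  hp' := rfl
  hp'' := rfl
  Z := (RZ K (p' + 1)).cocomplex.X i
  B := (RB K (p' + 1)).cocomplex.X i
  H := (RH K (p' + 1)).cocomplex.X i
  B'' := (RB K (p' + 1 + 1)).cocomplex.X i
  inlK := (inlK K (p' + 1)).f i
  sndK := (sndK K (p' + 1)).f i
  rK := (splB K (p' + 1) i).r
  sK := (splB K (p' + 1) i).s
  h1 := (splB K (p' + 1) i).f_r
  h2 := (splB K (p' + 1) i).id
  h3 := inlK_sndK_f K (p' + 1) i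
  m₂ := (inlZ K (p' + 1 + 1)).f i ≫ (inlK K (p' + 1 + 1)).f i
  mono_m₂ := mono_m2 K (p' + 1 + 1) i
  hd := by rw [Row_X_d]; rfl
  inlZ := (inlZ K (p' + 1)).f i
  sndZ := (sndZ K (p' + 1)).f i
  rZ := (splA K (p' + 1) i).r
  sZ := (splA K (p' + 1) i).s
  k1 := (splA K (p' + 1) i).s_g
  k2 := (splA K (p' + 1) i).id
  k3 := inlZ_sndZ_f K (p' + 1) i
  e₁ := (sndK K p').f i
  epi_e₁ := (splB K p' i).epi_g
  hd' := by rw [Row_X_d]; rfl

/-- the augmentation to the zeroth row -/
noncomputable def eps' : K ⟶ (Row K).X 0 where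
  f p := ι0 (RK K p)
  comm' p p'' h := by
    obtain rfl : p + 1 = p'' := h
    rw [Row_X_d]
    exact eps_comm K p

lemma eps'_f (p : ℤ) : (eps' K).f p = ι0 (RK K p) := rfl

lemma eps'_d : eps' K ≫ (Row K).d 0 1 = 0 := by
  ext p
  rw [HomologicalComplex.comp_f, HomologicalComplex.zero_f]
  exact ι0_d (RK K p)

/-- the augmentation -/
noncomputable def eps : K ⟶ ((Row K).extend ComplexShape.embeddingUpNat).X 0 :=
  eps' K ≫ ((Row K).extendXIso ComplexShape.embeddingUpNat
    (show ComplexShape.embeddingUpNat.f 0 = 0 by simp)).inv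

lemma eps_hom : eps K ≫ ((Row K).extendXIso ComplexShape.embeddingUpNat
    (show ComplexShape.embeddingUpNat.f 0 = 0 by simp)).hom = eps' K := by
  rw [eps, Category.assoc, Iso.inv_hom_id, Category.comp_id]

lemma eps_d : eps K ≫ ((Row K).extend ComplexShape.embeddingUpNat).d 0 1 = 0 := by
  rw [(Row K).extend_d_eq ComplexShape.embeddingUpNat
    (show ComplexShape.embeddingUpNat.f 0 = 0 by simp)
    (show ComplexShape.embeddingUpNat.f 1 = 1 by simp), ← Category.assoc, eps_hom,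
    ← Category.assoc, eps'_d, zero_comp]

lemma isZero_biprod {X Y : A} (hX : IsZero X) (hY : IsZero Y) : IsZero (X ⊞ Y) := by
  rw [IsZero.iff_id_eq_zero, ← biprod.total, hX.eq_of_tgt biprod.fst 0,
    hY.eq_of_tgt biprod.snd 0, zero_comp, zero_comp, add_zero]

lemma RK_isZero (n : ℤ) [K.IsStrictlyGE n] (p : ℤ) (hp : p < n - 1) (i : ℕ) :
    IsZero ((RK K p).cocomplex.X i) := by
  have hX : ∀ r, r < n → IsZero (K.X r) := fun r hr => K.isZero_of_isStrictlyGE n r hr
  have hZ : ∀ r, r < n → IsZero (K.cycles r) := fun r hr =>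
    IsZero.of_mono (K.iCycles r) (hX r hr)
  have hH : ∀ r, r < n → IsZero (K.homology r) := fun r hr =>
    IsZero.of_epi (K.homologyπ r) (hZ r hr)
  have hB : ∀ r, r < n → IsZero (Bd K r) := fun r hr =>
    IsZero.of_mono (kernel.ι _) (hZ r hr)
  show IsZero (((RB K p).cocomplex.X i ⊞ (RH K p).cocomplex.X i) ⊞ (RB K (p + 1)).cocomplex.X i)
  exact isZero_biprod (isZero_biprod (resOf_isZero _ (hB p (by lia)) i)
    (resOf_isZero _ (hH p (by lia)) i)) (resOf_isZero _ (hB (p + 1) (by lia)) i)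

lemma aug_cyc (p' : ℤ) :
    HomologicalComplex.cyclesMap (eps' K) (p' + 1) ≫ (splitAt K 0 p').cycIso.hom =
      ι0 (RZ K (p' + 1)) :=
  (splitAt K 0 p').aug_cyc' (eps' K) (ι0 (RZ K (p' + 1))) (aug_inlK K (p' + 1))

lemma aug_hom (p' : ℤ) :
    HomologicalComplex.homologyMap (eps' K) (p' + 1) ≫ (splitAt K 0 p').homIso.hom =
      ι0 (RH K (p' + 1)) :=
  (splitAt K 0 p').aug_hom' (eps' K) (ι0 (RZ K (p' + 1))) (ι0 (RH K (p' + 1)))
    (aug_cyc K p') (aug_sndZ K (p' + 1))

theorem main (n : ℤ) [K.IsStrictlyGE n] :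
    ∃ (I : CochainComplex (CochainComplex A ℤ) ℤ) (ε : K ⟶ I.X 0) (hε : ε ≫ I.d 0 1 = 0),
      (∃ i : ℤ, ∀ p q : ℤ, p < i → IsZero ((I.X q).X p)) ∧
      (∀ p : ℤ, CE.IsInjResolutionVia (((HomologicalComplex.eval A (ComplexShape.up ℤ) p).mapHomologicalComplex (ComplexShape.up ℤ)).obj I) (K.X p) (ε.f p)) ∧
      (∀ p : ℤ, CE.IsInjResolutionVia (((HomologicalComplex.cyclesFunctor A (ComplexShape.up ℤ) p).mapHomologicalComplex (ComplexShape.up ℤ)).obj I) (K.cycles p) (HomologicalComplex.cyclesMap ε p)) ∧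
      (∀ p : ℤ, CE.IsInjResolutionVia (((HomologicalComplex.homologyFunctor A (ComplexShape.up ℤ) p).mapHomologicalComplex (ComplexShape.up ℤ)).obj I) (K.homology p) (HomologicalComplex.homologyMap ε p)) := by
  refine ⟨(Row K).extend ComplexShape.embeddingUpNat, eps K, eps_d K, ⟨n - 1, ?_⟩, ?_, ?_, ?_⟩
  · intro p q hp
    by_cases hq : q < 0
    · exact (HomologicalComplex.eval A _ p).map_isZero
        ((Row K).isZero_extend_X _ q (fun i hi => by simp at hi; lia))
    · obtain ⟨i, rfl⟩ : ∃ i : ℕ, ComplexShape.embeddingUpNat.f i = q :=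
        ⟨q.toNat, by simp; lia⟩
      exact IsZero.of_iso (RK_isZero K n p hp i)
        ((HomologicalComplex.eval A _ p).mapIso
          ((Row K).extendXIso ComplexShape.embeddingUpNat rfl))
  · intro p
    refine isInjRes_of_row (HomologicalComplex.eval A (ComplexShape.up ℤ) p) (Row K) (RK K p)
      (fun i => (Iso.refl ((RK K p).cocomplex.X i))) ?_ _ ?_
    · intro i
      exact (Category.comp_id _).trans (Category.id_comp _).symm
    · have h := congrArg (fun f => f.f p) (eps_hom K)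
      simp only [HomologicalComplex.comp_f] at h
      exact (show (eps K).f p ≫ ((((Row K).extendXIso ComplexShape.embeddingUpNat
        (show ComplexShape.embeddingUpNat.f 0 = 0 by simp)).hom.f p) ≫ 𝟙 _) = _ from by
          rw [Category.comp_id]; exact h)
  · intro p
    obtain ⟨p', rfl⟩ : ∃ p' : ℤ, p' + 1 = p := ⟨p - 1, by lia⟩
    refine isInjRes_of_row (HomologicalComplex.cyclesFunctor A (ComplexShape.up ℤ) (p' + 1))
      (Row K) (RZ K (p' + 1)) (fun i => (splitAt K i p').cycIso) ?_ _ ?_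
    · intro i
      exact cyc_nat ((Row K).d i (i + 1)) (p' + 1) (splitAt K i p').inlK (splitAt K (i + 1) p').inlK
        _ _ (splitAt K i p').cycIso_hom_inlK (splitAt K (i + 1) p').cycIso_hom_inlK _
        ((inlK K (p' + 1)).comm i (i + 1))
    · have key : HomologicalComplex.cyclesMap (eps K) (p' + 1) ≫
          (HomologicalComplex.cyclesMap ((Row K).extendXIso ComplexShape.embeddingUpNat
            (show ComplexShape.embeddingUpNat.f 0 = 0 by simp)).hom (p' + 1) ≫
            (splitAt K 0 p').cycIso.hom) = ι0 (RZ K (p' + 1)) := by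
        rw [← Category.assoc, ← HomologicalComplex.cyclesMap_comp, eps_hom]
        exact aug_cyc K p'
      exact key
  · intro p
    obtain ⟨p', rfl⟩ : ∃ p' : ℤ, p' + 1 = p := ⟨p - 1, by lia⟩
    refine isInjRes_of_row (HomologicalComplex.homologyFunctor A (ComplexShape.up ℤ) (p' + 1))
      (Row K) (RH K (p' + 1)) (fun i => (splitAt K i p').homIso) ?_ _ ?_
    · intro i
      refine hom_nat ((Row K).d i (i + 1)) (p' + 1) (splitAt K i p').cycIso.hom
        (splitAt K (i + 1) p').cycIso.hom (splitAt K i p').sndZ (splitAt K (i + 1) p').sndZ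
        _ _ (splitAt K i p').π_homIso_hom (splitAt K (i + 1) p').π_homIso_hom
        ((RZ K (p' + 1)).cocomplex.d i (i + 1)) _ ?_ ((sndZ K (p' + 1)).comm i (i + 1))
      exact cyc_nat ((Row K).d i (i + 1)) (p' + 1) (splitAt K i p').inlK (splitAt K (i + 1) p').inlK
        _ _ (splitAt K i p').cycIso_hom_inlK (splitAt K (i + 1) p').cycIso_hom_inlK _
        ((inlK K (p' + 1)).comm i (i + 1))
    · have key : HomologicalComplex.homologyMap (eps K) (p' + 1) ≫
          (HomologicalComplex.homologyMap ((Row K).extendXIso ComplexShape.embeddingUpNat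
            (show ComplexShape.embeddingUpNat.f 0 = 0 by simp)).hom (p' + 1) ≫
            (splitAt K 0 p').homIso.hom) = ι0 (RH K (p' + 1)) := by
        rw [← Category.assoc, ← HomologicalComplex.homologyMap_comp, eps_hom]
        exact aug_hom K p'
      exact key

end PartA

end Groth.Agent.H4.CERes
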