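import Mathlib.Order.RelSeries
import Mathlib.Order.Cover
import Mathlib.Order.KrullDimension
import Mathlib.Data.ENat.Lattice

/-!
# Order-theoretic codimension and catenary posets (helper4)
-/

namespace Groth.Agent.H4.Caten

variable {P : Type*} [PartialOrder P]

/-- order-theoretic codimension: sup of lengths of chains from `a` ending below `b`. -/
noncomputable def cod (a b : P) : ℕ∞ :=
  ⨆ (s : LTSeries P) (_ : s.head = a ∧ s.last ≤ b), (s.length : ℕ∞)

lemma le_cod (s : LTSeries P) {a b : P} (h1 : s.head = a) (h2 : s.last ≤ b) :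
    (s.length : ℕ∞) ≤ cod a b :=
  le_iSup₂_of_le s ⟨h1, h2⟩ le_rfl

lemma cod_le_iff {a b : P} {n : ℕ∞} :
    cod a b ≤ n ↔ ∀ s : LTSeries P, s.head = a → s.last ≤ b → (s.length : ℕ∞) ≤ n := by
  simp only [cod, iSup_le_iff, and_imp]

lemma exists_max_chain {a b : P} (hab : a ≤ b) (h : cod a b ≠ ⊤) :
    ∃ s : LTSeries P, s.head = a ∧ s.last ≤ b ∧ (s.length : ℕ∞) = cod a b := by
  have e : cod a b = ⨆ (s : {s : LTSeries P // s.head = a ∧ s.last ≤ b}),
      (s.1.length : ℕ∞) := by
    unfold cod
    rw [iSup_subtype']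
  have : Nonempty {s : LTSeries P // s.head = a ∧ s.last ≤ b} :=
    ⟨⟨RelSeries.singleton _ a, by simp, by simpa using hab⟩⟩
  rw [e] at h
  obtain ⟨s, hs⟩ := ENat.exists_eq_iSup_of_lt_top (lt_top_iff_ne_top.mpr h)
  exact ⟨s.1, s.2.1, s.2.2, by rw [e]; exact hs⟩

lemma last_eq_of_max {a b : P} (s : LTSeries P) (h1 : s.head = a) (h2 : s.last ≤ b)
    (h3 : (s.length : ℕ∞) = cod a b) : s.last = b := by
  by_contra hne
  have hlt : s.last < b := lt_of_le_of_ne h2 hne
  have := le_cod (s.snoc b hlt) (a := a) (b := b) (by simpa using h1) (by simp)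
  rw [← h3] at this
  simp only [RelSeries.snoc_length, Nat.cast_add, Nat.cast_one] at this
  have h4 : ((s.length : ℕ∞)) < s.length + 1 := by
    exact_mod_cast Nat.lt_succ_self _
  exact absurd this (not_le.mpr h4)

lemma head_insertNth (s : LTSeries P) (i : Fin s.length) (z : P)
    (h1 : s i.castSucc < z) (h2 : z < s i.succ) :
    (RelSeries.insertNth s i z h1 h2).head = s.head := by
  have : (0 : Fin (s.length + 1 + 1)) < i.succ.castSucc := by simp [Fin.lt_def]
  show (Fin.insertNth (α := fun _ => P) i.succ.castSucc z s.toFun 0 : P) = s.toFun 0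
  rw [Fin.insertNth_apply_below (h := this)]
  simp

lemma last_insertNth (s : LTSeries P) (i : Fin s.length) (z : P)
    (h1 : s i.castSucc < z) (h2 : z < s i.succ) :
    (RelSeries.insertNth s i z h1 h2).last = s.last := by
  have : i.succ.castSucc < Fin.last (s.length + 1) := by simp [Fin.lt_def]
  show (Fin.insertNth (α := fun _ => P) i.succ.castSucc z s.toFun (Fin.last _) : P) =
    s.toFun (Fin.last _)
  rw [Fin.insertNth_apply_above (h := this)]
  simp only [eq_rec_constant]
  congr 1

lemma covBy_of_max {a b : P} (s : LTSeries P) (h1 : s.head = a) (h2 : s.last ≤ b)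
    (h3 : (s.length : ℕ∞) = cod a b) (i : Fin s.length) : s i.castSucc ⋖ s i.succ := by
  refine ⟨s.step i, ?_⟩
  intro z hz1 hz2
  have := le_cod (RelSeries.insertNth s i z hz1 hz2) (a := a) (b := b)
    (by rw [head_insertNth]; exact h1) (by rw [last_insertNth]; exact h2)
  rw [← h3] at this
  simp only [RelSeries.insertNth_length, Nat.cast_add, Nat.cast_one] at this
  have h4 : ((s.length : ℕ∞)) < s.length + 1 := by
    exact_mod_cast Nat.lt_succ_self _
  exact absurd this (not_le.mpr h4)

lemma covBy_smash {p q : LTSeries P} (h : p.last = q.head)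
    (hp : ∀ i : Fin p.length, p i.castSucc ⋖ p i.succ)
    (hq : ∀ i : Fin q.length, q i.castSucc ⋖ q i.succ) (i : Fin (p.smash q h).length) :
    (p.smash q h) i.castSucc ⋖ (p.smash q h) i.succ := by
  revert i
  show ∀ i : Fin (p.length + q.length),
    (p.smash q h).toFun i.castSucc ⋖ (p.smash q h).toFun i.succ
  intro i
  refine Fin.addCases (fun j => ?_) (fun j => ?_) i
  · have e1 := RelSeries.smash_castAdd h j
    have e2 := RelSeries.smash_succ_castAdd h j
    exact e1.symm ▸ e2.symm ▸ hp j
  · have e1 := RelSeries.smash_natAdd h j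
    have e2 := RelSeries.smash_succ_natAdd h j
    exact e1.symm ▸ e2.symm ▸ hq j

lemma cod_self (a : P) : cod a a = 0 := by
  refine le_antisymm ?_ zero_le
  rw [cod_le_iff]
  intro s h1 h2
  by_contra hne
  have hpos : 0 < s.length := by
    rcases Nat.eq_zero_or_pos s.length with h | h
    · exact absurd (by simp [h]) hne
    · exact h
  have : s.head < s.last := by
    apply LTSeries.strictMono s
    simp [Fin.lt_def, hpos]
  rw [h1] at this
  exact this.not_ge h2

lemma cod_of_covBy {a b : P} (h : a ⋖ b) : cod a b = 1 := by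
  apply le_antisymm
  · rw [cod_le_iff]
    intro s h1 h2
    by_contra hne
    have h2' : 2 ≤ s.length := by
      by_contra hlt
      apply hne
      have : s.length ≤ 1 := by omega
      exact_mod_cast this
    have l1 : s.head < s ⟨1, by omega⟩ := by
      apply LTSeries.strictMono s
      simp [Fin.lt_def]
    have l2 : s ⟨1, by omega⟩ < s.last := by
      apply LTSeries.strictMono s
      simp only [Fin.lt_def, Fin.val_last]
      omega
    rw [h1] at l1
    exact h.2 l1 (lt_of_lt_of_le l2 h2)
  · have := le_cod (RelSeries.singleton _ a |>.snoc b (by simpa using h.lt)) (a := a) (b := b)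
      (by simp) (by simp)
    simpa using this

/-- Abstract catenary criterion. -/
theorem catenary_iff :
    (∀ a b : P, a ≤ b → cod a b ≠ ⊤ ∧
      ∀ s : LTSeries P, s.head = a → s.last = b →
        (∀ i : Fin s.length, s i.castSucc ⋖ s i.succ) → (s.length : ℕ∞) = cod a b) ↔
    (∀ a b : P, a ≤ b → cod a b ≠ ⊤) ∧
    (∀ a b c : P, a ≤ b → b ≤ c → cod a c = cod a b + cod b c) := by
  constructor
  · intro H
    refine ⟨fun a b hab => (H a b hab).1, ?_⟩
    intro a b c hab hbc
    obtain ⟨s1, h11, h12, h13⟩ := exists_max_chain hab (H a b hab).1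
    obtain ⟨s2, h21, h22, h23⟩ := exists_max_chain hbc (H b c hbc).1
    have l1 := last_eq_of_max s1 h11 h12 h13
    have l2 := last_eq_of_max s2 h21 h22 h23
    have hc : s1.last = s2.head := by rw [l1, h21]
    have := (H a c (hab.trans hbc)).2 (s1.smash s2 hc) (by simpa using h11) (by simpa using l2)
      (covBy_smash hc (covBy_of_max s1 h11 h12 h13) (covBy_of_max s2 h21 h22 h23))
    rw [← this, ← h13, ← h23]
    simp [RelSeries.smash]
  · rintro ⟨H1, H2⟩ a b hab
    refine ⟨H1 a b hab, ?_⟩
    intro s h1 h2 hcov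
    have key : ∀ i : Fin (s.length + 1), cod s.head (s i) = (i : ℕ) := by
      intro i
      induction i using Fin.induction with
      | zero =>
        have := cod_self s.head
        simpa [RelSeries.head] using this
      | succ i ih =>
        rw [H2 s.head (s i.castSucc) (s i.succ) (LTSeries.head_le s _) (s.step i).le, ih,
          cod_of_covBy (hcov i)]
        simp
    have := key (Fin.last _)
    rw [← h1, ← h2]
    simpa [RelSeries.last] using this.symm

end Groth.Agent.H4.Caten
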