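import Mathlib.Topology.KrullDimension
import Mathlib.Topology.Sober
import Mathlib.Topology.Inseparable

/-!
# Helper library: Krull dimension and lifting of specializations (helper4)
-/

namespace Groth.Agent.H4.Spec

open Topology TopologicalSpace Set Order

theorem exists_seq_lift {X Y : Type*} (f : X → Y) (RX : X → X → Prop) (RY : Y → Y → Prop)
    (hlift : ∀ x y', RY (f x) y' → ∃ x', RX x x' ∧ f x' = y')
    (y : ℕ → Y) (hy : ∀ k, RY (y k) (y (k + 1))) (x0 : X) (hx0 : f x0 = y 0) :
    ∃ x : ℕ → X, (∀ k, f (x k) = y k) ∧ ∀ k, RX (x k) (x (k + 1)) := by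
  have hstep : ∀ k (s : {x // f x = y k}), ∃ x', RX s.1 x' ∧ f x' = y (k + 1) := by
    intro k s
    apply hlift
    rw [s.2]
    exact hy k
  let s : ∀ k, {x // f x = y k} := fun k =>
    Nat.rec (motive := fun k => {x // f x = y k}) ⟨x0, hx0⟩
      (fun k s => ⟨(hstep k s).choose, (hstep k s).choose_spec.2⟩) k
  refine ⟨fun k => (s k).1, fun k => (s k).2, fun k => ?_⟩
  exact (hstep k (s k)).choose_spec.1

variable {X Y : Type*} [TopologicalSpace X] [TopologicalSpace Y]

/-- The irreducible closed set `closure {x}`. -/
def pointClosure (x : X) : IrreducibleCloseds X :=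
  ⟨closure {x}, isIrreducible_singleton.closure, isClosed_closure⟩

theorem pointClosure_le_iff {x x' : X} : pointClosure x ≤ pointClosure x' ↔ x' ⤳ x := by
  rw [specializes_iff_closure_subset]
  exact Iff.rfl

theorem topologicalKrullDim_le_of_forall_exists
    (h : ∀ p : LTSeries (IrreducibleCloseds Y), ∃ q : LTSeries (IrreducibleCloseds X),
      q.length = p.length) : topologicalKrullDim Y ≤ topologicalKrullDim X := by
  unfold topologicalKrullDim
  refine iSup_le fun p => ?_
  obtain ⟨q, hq⟩ := h p
  rw [← hq]
  exact q.length_le_krullDim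

section

variable [QuasiSober Y]

/-- the generic point of an irreducible closed set -/
noncomputable def gp (s : IrreducibleCloseds Y) : Y := s.isIrreducible'.genericPoint

theorem isGenericPoint_gp (s : IrreducibleCloseds Y) : IsGenericPoint (gp s) (s : Set Y) :=
  s.isIrreducible'.isGenericPoint_genericPoint s.isClosed'

theorem gp_specializes_of_le {s t : IrreducibleCloseds Y} (h : s ≤ t) : gp t ⤳ gp s :=
  (isGenericPoint_gp t).specializes (h (isGenericPoint_gp s).mem)

theorem not_gp_specializes_of_lt {s t : IrreducibleCloseds Y} (h : s < t) : ¬ gp s ⤳ gp t := by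
  intro hst
  apply h.not_ge
  intro x hx
  have h1 : x ∈ closure {gp t} := by rw [(isGenericPoint_gp t).def]; exact hx
  have h2 : closure {gp t} ⊆ closure {gp s} := specializes_iff_closure_subset.1 hst
  have h3 := h2 h1
  rw [(isGenericPoint_gp s).def] at h3
  exact h3

theorem topologicalKrullDim_le_of_specializingMap {f : X → Y} (hf : Continuous f)
    (hsurj : Function.Surjective f) (hspec : SpecializingMap f) :
    topologicalKrullDim Y ≤ topologicalKrullDim X := by
  apply topologicalKrullDim_le_of_forall_exists
  intro p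
  let n := p.length
  let y : ℕ → Y := fun k => gp (p ⟨n - k, by omega⟩)
  have hy : ∀ k, y k ⤳ y (k + 1) := by
    intro k
    apply gp_specializes_of_le
    apply p.monotone
    rw [Fin.mk_le_mk]
    omega
  obtain ⟨x0, hx0⟩ := hsurj (y 0)
  obtain ⟨x, hxy, hx⟩ := exists_seq_lift f (fun a b => a ⤳ b) (fun a b => a ⤳ b)
    (fun a b hab => hspec hab) y hy x0 hx0
  have hxmono : ∀ k k', k ≤ k' → x k ⤳ x k' := by
    intro k k' hkk'
    induction k', hkk' using Nat.le_induction with
    | base => exact specializes_rfl
    | succ k' _ ih => exact ih.trans (hx k')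
  refine ⟨LTSeries.mk n (fun i => pointClosure (x (n - i))) ?_, rfl⟩
  intro i j hij
  rw [lt_iff_le_not_ge]
  constructor
  · rw [pointClosure_le_iff]
    apply hxmono
    have : (i : ℕ) < j := hij
    omega
  · rw [pointClosure_le_iff]
    intro hs
    have h1 := hs.map hf
    rw [hxy, hxy] at h1
    have hi : (⟨n - (n - i), by omega⟩ : Fin (n + 1)) = i := Fin.ext (by
      have := i.2
      simp only
      omega)
    have hj : (⟨n - (n - j), by omega⟩ : Fin (n + 1)) = j := Fin.ext (by
      have := j.2
      simp only
      omega)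
    simp only [y, hi, hj] at h1
    exact not_gp_specializes_of_lt (p.strictMono hij) h1

theorem topologicalKrullDim_le_of_generalizingMap {f : X → Y} (hf : Continuous f)
    (hsurj : Function.Surjective f) (hgen : GeneralizingMap f) :
    topologicalKrullDim Y ≤ topologicalKrullDim X := by
  apply topologicalKrullDim_le_of_forall_exists
  intro p
  let n := p.length
  let y : ℕ → Y := fun k => gp (p ⟨min k n, by omega⟩)
  have hy : ∀ k, y (k + 1) ⤳ y k := by
    intro k
    apply gp_specializes_of_le
    apply p.monotone
    rw [Fin.mk_le_mk]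
    omega
  obtain ⟨x0, hx0⟩ := hsurj (y 0)
  obtain ⟨x, hxy, hx⟩ := exists_seq_lift f (fun a b => b ⤳ a) (fun a b => b ⤳ a)
    (fun a b hab => hgen hab) y hy x0 hx0
  have hxmono : ∀ k k', k ≤ k' → x k' ⤳ x k := by
    intro k k' hkk'
    induction k', hkk' using Nat.le_induction with
    | base => exact specializes_rfl
    | succ k' _ ih => exact (hx k').trans ih
  refine ⟨LTSeries.mk n (fun i => pointClosure (x i)) ?_, rfl⟩
  intro i j hij
  rw [lt_iff_le_not_ge]
  constructor
  · rw [pointClosure_le_iff]
    apply hxmono
    exact le_of_lt hij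
  · rw [pointClosure_le_iff]
    intro hs
    have h1 := hs.map hf
    rw [hxy, hxy] at h1
    have hi : (⟨min (i : ℕ) n, by omega⟩ : Fin (n + 1)) = i := Fin.ext (by
      have := i.2
      simp only
      omega)
    have hj : (⟨min (j : ℕ) n, by omega⟩ : Fin (n + 1)) = j := Fin.ext (by
      have := j.2
      simp only
      omega)
    simp only [y, hi, hj] at h1
    exact not_gp_specializes_of_lt (p.strictMono hij) h1

end

end Groth.Agent.H4.Spec
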