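import Groth.Agent.H4.Caten
import Groth.Agent.H4.Dim

/-!
# Dimension functions on posets and sober spaces (helper4)
-/

namespace Groth.Agent.H4.Caten

variable {P : Type*} [PartialOrder P]

lemma cod_le_of_dimFun (δ : P → ℤ) (h1 : ∀ a b, a < b → δ a < δ b) (a b : P) :
    cod a b ≤ ((δ b - δ a).toNat : ℕ∞) := by
  rw [cod_le_iff]
  intro s hs1 hs2
  have hm : StrictMono δ := fun a b h => h1 a b h
  have := LTSeries.head_add_length_le_int (s.map δ hm)
  simp only [LTSeries.head_map, LTSeries.map_length, LTSeries.last_map] at this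
  have h3 : δ s.last ≤ δ b := hm.monotone hs2
  rw [hs1] at this
  have : s.length ≤ (δ b - δ a).toNat := by omega
  exact_mod_cast this

lemma delta_eq_of_saturated (δ : P → ℤ) (h2 : ∀ a b, a ⋖ b → δ b = δ a + 1) (s : LTSeries P)
    (hs : ∀ i : Fin s.length, s i.castSucc ⋖ s i.succ) :
    δ s.last = δ s.head + s.length := by
  have key : ∀ i : Fin (s.length + 1), δ (s i) = δ s.head + (i : ℕ) := by
    intro i
    induction i using Fin.induction with
    | zero => simp [RelSeries.head]
    | succ i ih =>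
      rw [h2 _ _ (hs i), ih]
      simp only [Fin.val_castSucc, Fin.val_succ]
      omega
  simpa [RelSeries.last] using key (Fin.last _)

theorem cod_eq_of_dimFun (δ : P → ℤ) (h1 : ∀ a b, a < b → δ a < δ b)
    (h2 : ∀ a b, a ⋖ b → δ b = δ a + 1) {a b : P} (hab : a ≤ b) :
    cod a b = ((δ b - δ a).toNat : ℕ∞) := by
  have hfin : cod a b ≠ ⊤ :=
    ne_top_of_le_ne_top (ENat.natCast_ne_top _) (cod_le_of_dimFun δ h1 a b)
  obtain ⟨s, hs1, hs2, hs3⟩ := exists_max_chain hab hfin
  have hl := last_eq_of_max s hs1 hs2 hs3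
  have := delta_eq_of_saturated δ h2 s (covBy_of_max s hs1 hs2 hs3)
  rw [← hs3]
  rw [hl, hs1] at this
  congr 1
  omega

theorem catenary_of_dimFun (δ : P → ℤ) (h1 : ∀ a b, a < b → δ a < δ b)
    (h2 : ∀ a b, a ⋖ b → δ b = δ a + 1) :
    ∀ a b : P, a ≤ b → cod a b ≠ ⊤ ∧
      ∀ s : LTSeries P, s.head = a → s.last = b →
        (∀ i : Fin s.length, s i.castSucc ⋖ s i.succ) → (s.length : ℕ∞) = cod a b := by
  intro a b hab
  refine ⟨ne_top_of_le_ne_top (ENat.natCast_ne_top _) (cod_le_of_dimFun δ h1 a b), ?_⟩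
  intro s hs1 hs2 hs
  rw [cod_eq_of_dimFun δ h1 h2 hab]
  have := delta_eq_of_saturated δ h2 s hs
  rw [hs1, hs2] at this
  congr 1
  omega

end Groth.Agent.H4.Caten

namespace Groth.Agent.H4.Spec

open Topology TopologicalSpace Set

variable {X : Type*} [TopologicalSpace X] [QuasiSober X] [T0Space X]

theorem gp_pointClosure (x : X) : gp (pointClosure x) = x :=
  (isGenericPoint_gp (pointClosure x)).eq isGenericPoint_closure

omit [T0Space X] in
theorem pointClosure_gp (T : IrreducibleCloseds X) : pointClosure (gp T) = T :=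
  IrreducibleCloseds.ext (isGenericPoint_gp T).def

omit [T0Space X] in
theorem gp_injective : Function.Injective (gp : IrreducibleCloseds X → X) := by
  intro T T' h
  rw [← pointClosure_gp T, ← pointClosure_gp T', h]

omit [T0Space X] in
theorem gp_lt {δ : X → ℤ} (h : ∀ x y : X, x ⤳ y → x ≠ y → δ y < δ x)
    (T T' : IrreducibleCloseds X) (hT : T < T') : δ (gp T) < δ (gp T') :=
  h _ _ (gp_specializes_of_le hT.le) (fun e => hT.ne (gp_injective e).symm)

theorem gp_covBy {δ : X → ℤ}
    (h : ∀ x y : X, (x ⤳ y ∧ x ≠ y ∧ ∀ z : X, x ⤳ z → z ⤳ y → z = x ∨ z = y) → δ x = δ y + 1)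
    (T T' : IrreducibleCloseds X) (hT : T ⋖ T') : δ (gp T') = δ (gp T) + 1 := by
  refine h _ _ ⟨gp_specializes_of_le hT.le, fun e => hT.lt.ne (gp_injective e).symm, ?_⟩
  intro z hz1 hz2
  have l1 : T ≤ pointClosure z := by
    rw [← pointClosure_gp T]
    exact pointClosure_le_iff.2 hz2
  have l2 : pointClosure z ≤ T' := by
    rw [← pointClosure_gp T']
    exact pointClosure_le_iff.2 hz1
  rcases hT.eq_or_eq l1 l2 with e | e
  · right
    rw [← e, gp_pointClosure]
  · left
    rw [← e, gp_pointClosure]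

end Groth.Agent.H4.Spec
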