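import Groth.Agent.H4.Caten2
import Mathlib.Topology.NoetherianSpace
import Mathlib.Topology.LocallyConstant.Basic

/-!
# Functions constant along specializations on locally Noetherian sober spaces (helper4)
-/

namespace Groth.Agent.H4.Spec

open Topology TopologicalSpace Set

theorem isLocallyConstant_of_specializes {U Y : Type*} [TopologicalSpace U] [NoetherianSpace U]
    [QuasiSober U] (f : U → Y) (hf : ∀ x y : U, x ⤳ y → f x = f y) : IsLocallyConstant f := by
  obtain ⟨S, hSf, hSc, hSi, hSU⟩ :=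
    NoetherianSpace.exists_finite_set_isClosed_irreducible (isClosed_univ (X := U))
  intro s
  rw [← isClosed_compl_iff]
  have : (f ⁻¹' s)ᶜ = ⋃ Z ∈ {Z ∈ S | ∃ ξ, IsGenericPoint ξ Z ∧ f ξ ∉ s}, Z := by
    ext y
    simp only [mem_compl_iff, mem_preimage, mem_iUnion, exists_prop]
    constructor
    · intro hy
      have : y ∈ ⋃₀ S := hSU ▸ mem_univ y
      obtain ⟨Z, hZ, hyZ⟩ := this
      obtain ⟨ξ, hξ⟩ := QuasiSober.sober (hSi Z hZ) (hSc Z hZ)
      refine ⟨Z, ⟨hZ, ξ, hξ, ?_⟩, hyZ⟩
      rw [hf ξ y (hξ.specializes hyZ)]; exact hy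
    · rintro ⟨Z, ⟨hZ, ξ, hξ, hfξ⟩, hyZ⟩
      rw [← hf ξ y (hξ.specializes hyZ)]; exact hfξ
  rw [this]
  exact (hSf.subset (sep_subset _ _)).isClosed_biUnion fun Z hZ => hSc Z hZ.1

theorem isLocallyConstant_of_specializes_of_locallyNoetherian {X Y : Type*} [TopologicalSpace X]
    [QuasiSober X] (hX : ∀ x : X, ∃ E ∈ nhds x, NoetherianSpace E)
    (f : X → Y) (hf : ∀ x y : X, x ⤳ y → f x = f y) : IsLocallyConstant f := by
  rw [IsLocallyConstant.iff_eventually_eq]
  intro x
  obtain ⟨E, hE, hEN⟩ := hX x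
  have hUo : IsOpen (interior E) := isOpen_interior
  have hxU : x ∈ interior E := mem_interior_iff_mem_nhds.2 hE
  have : NoetherianSpace (interior E) := by
    rw [noetherianSpace_set_iff] at hEN ⊢
    intro t ht
    exact hEN t (ht.trans interior_subset)
  have : QuasiSober (interior E) := hUo.isOpenEmbedding_subtypeVal.quasiSober
  have hlc := isLocallyConstant_of_specializes (U := interior E) (fun y => f y.1)
    (fun a b hab => hf _ _ (hab.map continuous_subtype_val))
  rw [IsLocallyConstant.iff_eventually_eq] at hlc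
  have := hlc ⟨x, hxU⟩
  rw [← hUo.isOpenEmbedding_subtypeVal.map_nhds_eq ⟨x, hxU⟩]
  exact Filter.eventually_map.2 this

end Groth.Agent.H4.Spec
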