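import Mathlib.Topology.Separation.Hausdorff
import Mathlib.Topology.ShrinkingLemma
import Mathlib.Topology.Separation.Regular

/-!
# Helper library: refining Čech data on compact Hausdorff spaces (helper4)
-/

namespace Groth.Agent.H4.Spec

open Topology TopologicalSpace Set

universe u

/-- Finite shrinking of an open cover of a compact Hausdorff space, extended by `∅`. -/
theorem exists_finite_shrinking {X : Type*} [TopologicalSpace X] [CompactSpace X] [T2Space X]
    {ι : Type*} (U : ι → Set X) (hU : ∀ i, IsOpen (U i)) (hcov : ⋃ i, U i = Set.univ) :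
    ∃ (I0 : Finset ι) (V' : ι → Set X), (∀ i, IsOpen (V' i)) ∧ (⋃ i, V' i = Set.univ) ∧
      (∀ i, closure (V' i) ⊆ U i) ∧ (∀ i, i ∉ I0 → V' i = ∅) := by
  classical
  obtain ⟨I0, hI0⟩ := isCompact_univ.elim_finite_subcover U hU (by rw [hcov])
  obtain ⟨v, hvcov, hvo, hvcl⟩ := exists_subset_iUnion_closure_subset (X := X)
    (u := fun i : I0 => U i.1) (s := Set.univ) isClosed_univ (fun i => hU i.1)
    (fun x _ => Set.toFinite _) (by
      intro x hx
      have := hI0 hx
      simp only [mem_iUnion] at this ⊢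
      obtain ⟨i, hi, hxi⟩ := this
      exact ⟨⟨i, hi⟩, hxi⟩)
  refine ⟨I0, fun i => if h : i ∈ I0 then v ⟨i, h⟩ else ∅, ?_, ?_, ?_, ?_⟩
  · intro i
    by_cases h : i ∈ I0
    · simp only [h, dif_pos]; exact hvo _
    · simp only [h, dif_neg, not_false_eq_true]; exact isOpen_empty
  · rw [Set.eq_univ_iff_forall]
    intro x
    obtain ⟨i, hi⟩ := mem_iUnion.1 (hvcov (mem_univ x))
    refine mem_iUnion.2 ⟨i.1, ?_⟩
    simp only [i.2, dif_pos]
    exact hi
  · intro i
    by_cases h : i ∈ I0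
    · simp only [h, dif_pos]; exact hvcl ⟨i, h⟩
    · simp only [h, dif_neg, not_false_eq_true, closure_empty]; exact empty_subset _
  · intro i h
    simp only [h, dif_neg, not_false_eq_true]

theorem exists_cech_refinement {X : Type u} [TopologicalSpace X] [CompactSpace X] [T2Space X]
    {ι : Type u} (U : ι → Set X) (hU : ∀ i, IsOpen (U i)) (hcov : ⋃ i, U i = Set.univ) (p : ℕ)
    (W : (Fin (p + 1) → ι) → Set (Set X)) (hWo : ∀ t, ∀ w ∈ W t, IsOpen w)
    (hWc : ∀ t, ⋃₀ W t = ⋂ l, U (t l)) (hWne : ∀ t, (W t).Nonempty) :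
    ∃ (J : Type u) (V : J → Set X) (α : J → ι), (∀ j, IsOpen (V j)) ∧ (⋃ j, V j = Set.univ) ∧
      (∀ j, closure (V j) ⊆ U (α j)) ∧
      (∀ t : Fin (p + 1) → J, ∃ w ∈ W (α ∘ t), (⋂ l, V (t l)) ⊆ w) := by
  classical
  obtain ⟨I0, V', hV'o, hV'cov, hV'cl, hV'empty⟩ := exists_finite_shrinking U hU hcov
  let K : (Fin (p + 1) → ι) → Set X := fun s => ⋂ l, closure (V' (s l))
  have hKcl : ∀ s, IsClosed (K s) := fun s => isClosed_iInter fun l => isClosed_closure
  have hKW : ∀ s, K s ⊆ ⋃₀ W s := by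
    intro s x hx
    rw [hWc s]
    exact mem_iInter.2 fun l => hV'cl (s l) (mem_iInter.1 hx l)
  let Sfin : Set (Fin (p + 1) → ι) := {s | ∀ l, s l ∈ I0}
  have hSfin : Sfin.Finite := by
    refine (Fintype.piFinset fun _ : Fin (p + 1) => I0).finite_toSet.subset ?_
    intro s hs
    have hs' : ∀ l, s l ∈ I0 := hs
    simpa [Fintype.mem_piFinset] using hs'
  -- step 4
  have hN : ∀ y : X, ∃ N : Set X, IsOpen N ∧ y ∈ N ∧ ∀ s ∈ Sfin,
      (y ∈ K s → ∃ w ∈ W s, N ⊆ w) ∧ (y ∉ K s → Disjoint N (K s)) := by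
    intro y
    have : ∀ s, ∃ O : Set X, IsOpen O ∧ y ∈ O ∧ (y ∈ K s → ∃ w ∈ W s, O ⊆ w) ∧
        (y ∉ K s → Disjoint O (K s)) := by
      intro s
      by_cases hy : y ∈ K s
      · obtain ⟨w, hw, hyw⟩ := hKW s hy
        exact ⟨w, hWo s w hw, hyw, fun _ => ⟨w, hw, subset_rfl⟩, fun h => absurd hy h⟩
      · exact ⟨(K s)ᶜ, (hKcl s).isOpen_compl, hy, fun h => absurd h hy,
          fun _ => disjoint_compl_left⟩
    choose O hOo hyO hO1 hO2 using this
    refine ⟨⋂ s ∈ Sfin, O s, hSfin.isOpen_biInter fun s _ => hOo s,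
      mem_iInter₂.2 fun s _ => hyO s, ?_⟩
    intro s hs
    constructor
    · intro hy
      obtain ⟨w, hw, hOw⟩ := hO1 s hy
      exact ⟨w, hw, (biInter_subset_of_mem hs).trans hOw⟩
    · intro hy
      exact (hO2 s hy).mono_left (biInter_subset_of_mem hs)
  choose N hNo hyN hNprop using hN
  obtain ⟨Y0, -, hY0⟩ := isCompact_univ.elim_nhds_subcover N
    (fun y _ => (hNo y).mem_nhds (hyN y))
  obtain ⟨G, hGcov, hGo, hGcl⟩ := exists_subset_iUnion_closure_subset (X := X)
    (u := fun a : Y0 => N a.1) (s := Set.univ) isClosed_univ (fun a => hNo a.1)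
    (fun x _ => Set.toFinite _) (by
      intro x hx
      have := hY0 hx
      simp only [mem_iUnion] at this ⊢
      obtain ⟨y, hy, hxy⟩ := this
      exact ⟨⟨y, hy⟩, hxy⟩)
  let F : Y0 → Set X := fun a => closure (G a)
  let M : X → Set X := fun x => ⋂ a : Y0, if x ∈ F a then N a.1 else (F a)ᶜ
  have hMo : ∀ x, IsOpen (M x) := by
    intro x
    refine isOpen_iInter_of_finite fun a => ?_
    split_ifs
    · exact hNo a.1
    · exact isClosed_closure.isOpen_compl
  have hxM : ∀ x, x ∈ M x := by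
    intro x
    refine mem_iInter.2 fun a => ?_
    split_ifs with h
    · exact hGcl a h
    · exact h
  have hMkey : ∀ x z (a : Y0), z ∈ M x → z ∈ F a → M x ⊆ N a.1 := by
    intro x z a hzM hzF
    have h1 := mem_iInter.1 hzM a
    by_cases hx : x ∈ F a
    · intro y hy
      have h2 := mem_iInter.1 hy a
      simpa only [hx, if_true] using h2
    · simp only [hx, if_false] at h1
      exact absurd hzF h1
  have hα : ∀ x : X, ∃ i, x ∈ V' i := by
    intro x
    have : x ∈ ⋃ i, V' i := by rw [hV'cov]; trivial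
    exact mem_iUnion.1 this
  choose α hxα using hα
  have hαI0 : ∀ x, α x ∈ I0 := by
    intro x
    by_contra h
    have := hxα x
    rw [hV'empty _ h] at this
    exact this
  refine ⟨X, fun x => M x ∩ V' (α x), α, fun x => (hMo x).inter (hV'o _), ?_, ?_, ?_⟩
  · rw [Set.eq_univ_iff_forall]
    intro x
    exact mem_iUnion.2 ⟨x, hxM x, hxα x⟩
  · intro x
    exact (closure_mono inter_subset_right).trans (hV'cl _)
  · intro t
    have hs : (α ∘ t) ∈ Sfin := fun l => hαI0 (t l)
    by_cases hne : (⋂ l, M (t l) ∩ V' (α (t l))).Nonempty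
    · obtain ⟨z, hz⟩ := hne
      have hzK : z ∈ K (α ∘ t) :=
        mem_iInter.2 fun l => subset_closure (mem_iInter.1 hz l).2
      obtain ⟨a, hza⟩ := mem_iUnion.1 (hGcov (mem_univ z))
      have hzF : z ∈ F a := subset_closure hza
      have hyK : a.1 ∈ K (α ∘ t) := by
        by_contra hyK
        have hdisj := (hNprop a.1 (α ∘ t) hs).2 hyK
        exact Set.disjoint_left.1 hdisj (hGcl a hzF) hzK
      obtain ⟨w, hw, hNw⟩ := (hNprop a.1 (α ∘ t) hs).1 hyK
      refine ⟨w, hw, ?_⟩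
      intro y hy
      apply hNw
      exact hMkey (t 0) z a (mem_iInter.1 hz 0).1 hzF (mem_iInter.1 hy 0).1
    · obtain ⟨w, hw⟩ := hWne (α ∘ t)
      refine ⟨w, hw, ?_⟩
      rw [Set.not_nonempty_iff_eq_empty] at hne
      rw [hne]
      exact empty_subset _

end Groth.Agent.H4.Spec
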