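import Mathlib
import Groth.Prelude.Def_DTen3
import Groth.Agent.H4.SG1
import Groth.Agent.H4.KI8
import Groth.Agent.H4.CH1
import Groth.Agent.H4.TC5

set_option autoImplicit false
universe u
open CategoryTheory Category Limits MonoidalCategory HomologicalComplex CochainComplex

namespace Groth.Agent.H4.SG2

open DTen DerivedCategory Groth.Agent.H4.TC4 Groth.Agent.H4.EV3 Groth.Agent.H4.HC6 Groth.Agent.H4.SG1

attribute [local instance] HasDerivedCategory.standard
attribute [local instance] Groth.Agent.H4.LK4.hasLTen Groth.Agent.H4.LK5.hasLTen₃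
  Groth.Agent.H4.KI7.isSymMonoidal Groth.Agent.H4.KI6.hasRHom

variable {A : Type u} [CommRing A]

set_option quotPrecheck false in
/-- notation for the object part of `⊗^L` -/
local notation:max "tO(" a ", " b ")" => (LTen₂ _).obj (a, b)

/-- a flat module in degree 0 is K-flat -/
lemma kflat_sg0 (M : ModuleCat.{u} A) [Module.Flat A M] : KFlat (sg0 M) := by
  refine Groth.Agent.H4.TC5.kflat_of_concentrated _ 0 (fun q hq => ?_) ?_
  · exact HomologicalComplex.isZero_single_obj_X _ _ _ _ hq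
  · exact Module.Flat.of_linearEquiv
      ((HomologicalComplex.singleObjXSelf (ComplexShape.up ℤ) 0 M).toLinearEquiv)

/-- `M[0] ⊗^L N[0] ≅ (M ⊗ N)[0]` when `M` is flat. -/
theorem nonempty_tO_sg0_iso (M N : ModuleCat.{u} A) [Module.Flat A M] :
    Nonempty (tO(Q.obj (sg0 M), Q.obj (sg0 N)) ≅ Q.obj (sg0 (M ⊗ N))) := by
  haveI := Groth.Agent.H4.LK4.isIso_ε_of_kflat (sg0 M) (sg0 N) (Or.inl (kflat_sg0 M))
  obtain ⟨e⟩ := nonempty_sg0_tensor_iso M N
  exact ⟨asIso ((ε A).app (sg0 M, sg0 N)) ≪≫ Q.mapIso e⟩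

/-- `RHom(M[0], RHom(N[0], K)) ≅ RHom((M ⊗ N)[0], K)` when `M` is flat. -/
theorem nonempty_RHomCx_sg0_comp_iso (M N P : ModuleCat.{u} A) [Module.Flat A M]
    (e : M ⊗ N ≅ P)
    [DRing.HasRHomCx (sg0 M)] [DRing.HasRHomCx (sg0 N)] [DRing.HasRHomCx (sg0 P)] (K : Dual.D A) :
    Nonempty ((DRing.RHomCx (sg0 M)).obj ((DRing.RHomCx (sg0 N)).obj K) ≅
      (DRing.RHomCx (sg0 P)).obj K) := by
  obtain ⟨e1⟩ := nonempty_tO_sg0_iso M N
  let e2 : tO(Q.obj (sg0 M), Q.obj (sg0 N)) ≅ Q.obj (sg0 P) :=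
    e1 ≪≫ Q.mapIso ((HomologicalComplex.single (ModuleCat.{u} A) (ComplexShape.up ℤ) 0).mapIso e)
  haveI := Groth.Agent.H4.CH1.isIso_curryHom (Q.obj (sg0 M)) (Q.obj (sg0 N)) K
  exact ⟨(Groth.Agent.H4.KI6.rhomCxIsoRHomR (sg0 M)).app _ ≪≫
    (RHomR A (Q.obj (sg0 M))).mapIso ((Groth.Agent.H4.KI6.rhomCxIsoRHomR (sg0 N)).app K) ≪≫
    (asIso (curryHom (Q.obj (sg0 M)) (Q.obj (sg0 N)) K)).symm ≪≫
    RHomIso e2.symm K ≪≫ ((Groth.Agent.H4.KI6.rhomCxIsoRHomR (sg0 P)).app K).symm⟩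

theorem S7099 (f g : A)
    [DRing.HasRHomCx ((HomologicalComplex.single (ModuleCat.{u} A) (ComplexShape.up ℤ) 0).obj
      (ModuleCat.of A (Localization.Away f)))]
    [DRing.HasRHomCx ((HomologicalComplex.single (ModuleCat.{u} A) (ComplexShape.up ℤ) 0).obj
      (ModuleCat.of A (Localization.Away g)))]
    [DRing.HasRHomCx ((HomologicalComplex.single (ModuleCat.{u} A) (ComplexShape.up ℤ) 0).obj
      (ModuleCat.of A (Localization.Away (f * g))))]
    (K : Dual.D A) :
    Nonempty ((DRing.RHomCx ((HomologicalComplex.single (ModuleCat.{u} A) (ComplexShape.up ℤ) 0).obj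
        (ModuleCat.of A (Localization.Away f)))).obj
      ((DRing.RHomCx ((HomologicalComplex.single (ModuleCat.{u} A) (ComplexShape.up ℤ) 0).obj
        (ModuleCat.of A (Localization.Away g)))).obj K) ≅
      (DRing.RHomCx ((HomologicalComplex.single (ModuleCat.{u} A) (ComplexShape.up ℤ) 0).obj
        (ModuleCat.of A (Localization.Away (f * g))))).obj K) := by
  haveI : Module.Flat A (ModuleCat.of A (Localization.Away f)) :=
    inferInstanceAs (Module.Flat A (Localization.Away f))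
  exact nonempty_RHomCx_sg0_comp_iso (ModuleCat.of A (Localization.Away f))
    (ModuleCat.of A (Localization.Away g)) (ModuleCat.of A (Localization.Away (f * g)))
    (LinearEquiv.toModuleIso (locTensorEquiv f g)) K

end Groth.Agent.H4.SG2
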