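import Mathlib
import Groth.Agent.H4.FB5

set_option autoImplicit false
universe u v w
open CategoryTheory Category Limits Pretriangulated TensorProduct

namespace Groth.Agent.H4.FB6

attribute [local instance] HasDerivedCategory.standard

open DRing DerivedCategory Groth.Agent.H4.DCompl1 Groth.Agent.H4.DZ5 Groth.Agent.H4.FB1
  Groth.Agent.H4.FB2 Groth.Agent.H4.FB3 Groth.Agent.H4.FB4 Groth.Agent.H4.FB5
  Groth.Agent.H4.InjAmp Groth.Agent.H4.DZ3 Groth.Agent.H4.FlatFam

section fin

variable {A : Type u} [CommRing A] [IsNoetherianRing A] {ι : Type} [Finite ι] {B : ι → Type u}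
  [∀ j, CommRing (B j)] [∀ j, Algebra A (B j)] [∀ j, Module.Flat A (B j)]

omit [IsNoetherianRing A] [Finite ι] in
lemma isZero_homology_of_covers (hcov : Covers (A := A) B) (K : Dual.D A) (i : ℤ)
    (h : ∀ j, IsZero ((homologyFunctor (ModuleCat.{u} (B j)) i).obj ((E A (B j)).obj K))) :
    IsZero ((homologyFunctor (ModuleCat.{u} A) i).obj K) := by
  haveI : Subsingleton ((homologyFunctor (ModuleCat.{u} A) i).obj K) := by
    refine subsingleton_of_covers hcov _ (fun j => ?_)
    haveI := ModuleCat.subsingleton_of_isZero ((h j).of_iso (homologyEIso K i).symm)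
    exact (Groth.Agent.H8.ExtBridge.extEquiv (A := A) (B := B j)
      ((homologyFunctor (ModuleCat.{u} A) i).obj K)).symm.toEquiv.subsingleton
  exact ModuleCat.isZero_of_subsingleton _

/-- **Descent of dualizing complexes along a finite covering flat family.** -/
theorem isDualizing_of_finite_covers (hcov : Covers (A := A) B)
    (hφ : JFF (fun j => algebraMap A (B j))) (K : Dual.D A)
    (hloc : ∀ j, Dual.IsDualizing (B j) ((E A (B j)).obj K)) : Dual.IsDualizing A K := by
  choose a b ha hb _ using fun j => exists_bounds_of_isDualizing _ (hloc j)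
  choose a' b' hab' using fun j => (hloc j).finite_injective_dimension
  obtain ⟨a₀, ha₀⟩ := (Set.finite_range a).bddBelow
  obtain ⟨b₀, hb₀⟩ := (Set.finite_range b).bddAbove
  obtain ⟨a₁, ha₁⟩ := (Set.finite_range a').bddBelow
  obtain ⟨b₁, hb₁⟩ := (Set.finite_range b').bddAbove
  haveI : K.IsGE a₀ := by
    rw [isGE_iff]
    intro i hi
    refine isZero_homology_of_covers hcov K i (fun j => ?_)
    haveI := ha j
    exact isZero_of_isGE ((E A (B j)).obj K) (a j) i (lt_of_lt_of_le hi (ha₀ ⟨j, rfl⟩))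
  haveI : K.IsLE b₀ := by
    rw [isLE_iff]
    intro i hi
    refine isZero_homology_of_covers hcov K i (fun j => ?_)
    haveI := hb j
    exact isZero_of_isLE ((E A (B j)).obj K) (b j) i (lt_of_le_of_lt (hb₀ ⟨j, rfl⟩) hi)
  have hfin : ∀ i : ℤ, Module.Finite A (Dual.HD A K i) := by
    intro i
    refine hφ.finite _ (fun j => ?_)
    haveI := (hloc j).finite_cohomology i
    exact Module.Finite.equiv (homologyEIso K i).toLinearEquiv
  refine isDualizing_of_covers hcov K a₀ b₀ hfin ?_ hloc
  have hP : Groth.Agent.H4.InjAmp.P a₁ b₁ K := by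
    intro I i hi
    rw [subsingleton_sgl_iff]
    haveI : (K⟦i⟧).IsGE (a₀ - i) := TStructure.t.isGE_shift K a₀ i (a₀ - i) (by ring)
    refine subsingleton_hom_of_covers hcov (K⟦i⟧) (a₀ - i) _ (isPC'_inD (A ⧸ I)) (fun j => ?_)
    have hi' : i < a' j ∨ b' j < i := by
      rcases hi with hi | hi
      · exact Or.inl (lt_of_lt_of_le hi (ha₁ ⟨j, rfl⟩))
      · exact Or.inr (lt_of_le_of_lt (hb₁ ⟨j, rfl⟩) hi)
    haveI := hab' j (B j ⧸ I.map (algebraMap A (B j))) i hi'
    exact ((EQuotIso I).homCongr (EShiftIso K i)).subsingleton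
  obtain ⟨E', hE', hinj, ⟨ε⟩⟩ := Groth.Agent.H4.InjAmp.exists_injective_rep
    ((b₁ - a₁).toNat + 1) a₁ b₁ K (by
      have := Int.self_le_toNat (b₁ - a₁)
      push_cast
      omega) hP
  exact ⟨a₁, b₁, fun M _ _ i hi =>
    ext_subsingleton_of_rep E' a₁ b₁ hE' hinj K ε (ModuleCat.of A M) i hi⟩

end fin

section away

variable (A : Type u) [CommRing A] [IsNoetherianRing A]

instance flat_away (f : A) : Module.Flat A (Localization.Away f) :=
  IsLocalization.flat _ (Submonoid.powers f)

lemma covers_away (n : ℕ) (f : Fin n → A) (hf : Ideal.span (Set.range f) = ⊤) :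
    Covers (A := A) (fun i : Fin n => Localization.Away (f i)) := by
  intro m hm
  have hex : ∃ i, f i ∉ m := by
    by_contra hcon
    rw [not_exists] at hcon
    apply hm.ne_top
    rw [eq_top_iff, ← hf, Ideal.span_le]
    rintro _ ⟨i, rfl⟩
    exact not_not.1 (hcon i)
  obtain ⟨i, hi⟩ := hex
  refine ⟨i, ?_⟩
  rw [IsLocalization.map_algebraMap_ne_top_iff_disjoint (Submonoid.powers (f i))]
  exact (Ideal.disjoint_powers_iff_notMem _ hm.isPrime.isRadical).2 hi

variable {A}

theorem S1787 (n : ℕ) (f : Fin n → A) (hf : Ideal.span (Set.range f) = ⊤) (ω : Dual.D A)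
    (h : ∀ i : Fin n, ∃ _ : DRing.HasLBaseChange (algebraMap A (Localization.Away (f i))),
      Dual.IsDualizing (Localization.Away (f i))
        ((DRing.LBaseChange (algebraMap A (Localization.Away (f i)))).obj ω)) :
    Dual.IsDualizing A ω := by
  refine isDualizing_of_finite_covers (covers_away A n f hf) (jff_of_span_eq_top f hf) ω (fun i => ?_)
  obtain ⟨hL, hi⟩ := h i
  exact isDualizing_of_iso (LBCIso ω) hi

end away

end Groth.Agent.H4.FB6
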