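import Mathlib
import Groth.Prelude.Def_DDual2

set_option autoImplicit false
universe u
open CategoryTheory Category Limits

namespace Groth.Agent.H4.RD

attribute [local instance] HasDerivedCategory.standard

open DRing DerivedCategory

/-- complexes of modules. -/
abbrev Cx (A : Type u) [CommRing A] := CochainComplex (ModuleCat.{u} A) ℤ

/-- the quasi-isomorphisms. -/
abbrev W (A : Type u) [CommRing A] : MorphismProperty (Cx A) :=
  HomologicalComplex.quasiIso (ModuleCat.{u} A) (ComplexShape.up ℤ)

/-- termwise restriction of scalars. -/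
noncomputable abbrev resC {A B : Type u} [CommRing A] [CommRing B] (f : A →+* B) : Cx B ⥤ Cx A :=
  (ModuleCat.restrictScalars.{u} f).mapHomologicalComplex (ComplexShape.up ℤ)

section comp

variable {A B C : Type u} [CommRing A] [CommRing B] [CommRing C] (f : A →+* B) (g : B →+* C)

/-- termwise restriction along a composite. -/
noncomputable def resCCompIso (gf : A →+* C) (h : gf = g.comp f) : resC gf ≅ resC g ⋙ resC f :=
  NatIso.ofComponents (fun K => HomologicalComplex.Hom.isoOfComponents
    (fun i => (ModuleCat.restrictScalarsComp'.{u} f g gf h).app (K.X i))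
    (fun i j _ => ((ModuleCat.restrictScalarsComp'.{u} f g gf h).hom.naturality (K.d i j)).symm))
    (fun {K L} φ => by
      ext i : 1
      exact (ModuleCat.restrictScalarsComp'.{u} f g gf h).hom.naturality (φ.f i))

noncomputable instance liftingComp :
    Localization.Lifting (Q : Cx C ⥤ Dual.D C) (W C) (resC g ⋙ resC f ⋙ (Q : Cx A ⥤ Dual.D A))
      (restrictD g ⋙ restrictD f) :=
  ⟨(Functor.associator _ _ _).symm ≪≫
    Functor.isoWhiskerRight (ModuleCat.restrictScalars.{u} g).mapDerivedCategoryFactors _ ≪≫
    Functor.associator _ _ _ ≪≫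
    Functor.isoWhiskerLeft _ (ModuleCat.restrictScalars.{u} f).mapDerivedCategoryFactors⟩

/-- **restriction of scalars along a composite**, as a natural isomorphism. -/
noncomputable def restrictDCompIso (gf : A →+* C) (h : gf = g.comp f) :
    restrictD gf ≅ restrictD g ⋙ restrictD f :=
  Localization.liftNatIso (Q : Cx C ⥤ Dual.D C) (W C) (resC gf ⋙ Q) (resC g ⋙ resC f ⋙ Q) _ _
    (Functor.isoWhiskerRight (resCCompIso f g gf h) Q ≪≫ Functor.associator _ _ _)

end comp

section id

variable {A : Type u} [CommRing A]

/-- termwise restriction along the identity. -/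
noncomputable def resCIdIso (f : A →+* A) (h : f = RingHom.id A) : resC f ≅ 𝟭 (Cx A) :=
  NatIso.ofComponents (fun K => HomologicalComplex.Hom.isoOfComponents
    (fun i => (ModuleCat.restrictScalarsId'.{u} f h).app (K.X i))
    (fun i j _ => ((ModuleCat.restrictScalarsId'.{u} f h).hom.naturality (K.d i j)).symm))
    (fun {K L} φ => by
      ext i : 1
      exact (ModuleCat.restrictScalarsId'.{u} f h).hom.naturality (φ.f i))

/-- **restriction of scalars along the identity.** -/
noncomputable def restrictDIdIso (f : A →+* A) (h : f = RingHom.id A) :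
    restrictD f ≅ 𝟭 (Dual.D A) :=
  Localization.liftNatIso (Q : Cx A ⥤ Dual.D A) (W A) (resC f ⋙ Q) Q _ _
    (Functor.isoWhiskerRight (resCIdIso f h) Q ≪≫ Functor.leftUnitor _)

end id

section retract

variable {A B : Type u} [CommRing A] [CommRing B] (ι : A →+* B) (σ : B →+* A)

/-- for a retraction `σ ∘ ι = id`: `Res_ι ∘ Res_σ ≅ id`. -/
noncomputable def restrictDRetractIso (h : σ.comp ι = RingHom.id A) :
    restrictD σ ⋙ restrictD ι ≅ 𝟭 (Dual.D A) :=
  (restrictDCompIso ι σ (σ.comp ι) rfl).symm ≪≫ restrictDIdIso (σ.comp ι) h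

end retract

section equiv

variable {B C : Type u} [CommRing B] [CommRing C] (e : B ≃+* C)

/-- restriction of scalars along a ring isomorphism is an equivalence. -/
noncomputable def restrictDEquivalence : Dual.D C ≌ Dual.D B :=
  CategoryTheory.Equivalence.mk (restrictD e.toRingHom) (restrictD e.symm.toRingHom)
    (restrictDRetractIso e.symm.toRingHom e.toRingHom (by ext; simp)).symm
    (restrictDRetractIso e.toRingHom e.symm.toRingHom (by ext; simp))

end equiv

end Groth.Agent.H4.RD
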