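import Mathlib
import Groth.Agent.Lib.Helper8.ExtScalarsBridge
import Groth.Agent.H4.RD
import Groth.Agent.H4.FB2

set_option autoImplicit false
universe u
open CategoryTheory Category Limits TensorProduct

namespace Groth.Agent.H4.FR1

open Groth.Agent.H8.ExtBridge

section modlevel

variable (P P' B B' : Type u) [CommRing P] [CommRing P'] [CommRing B] [CommRing B']
  [Algebra P P'] [Algebra P B] [Algebra P' B'] [Algebra B B'] [Algebra P B']
  [IsScalarTower P P' B'] [IsScalarTower P B B'] [Algebra.IsPushout P P' B B']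

/-- `P' ⊗_P N ≃ B' ⊗_B N`. -/
noncomputable def e12 (N : ModuleCat.{u} B) :
    ((ModuleCat.extendScalars.{u, u, u} (algebraMap P P')).obj
      ((ModuleCat.restrictScalars.{u} (algebraMap P B)).obj N)) ≃ₗ[P'] B' ⊗[B] N :=
  letI : Module P N := Module.compHom N (algebraMap P B)
  haveI : IsScalarTower P B N :=
    ⟨fun p b x => by
      change (p • b) • x = algebraMap P B p • (b • x)
      rw [Algebra.smul_def, mul_smul]⟩
  (extEquiv (A := P) (B := P')
      ((ModuleCat.restrictScalars.{u} (algebraMap P B)).obj N)).trans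
    (Algebra.IsPushout.cancelBaseChange P P' B B' N).symm

open ChangeOfRings in
lemma e12_tmul (N : ModuleCat.{u} B) (s : P')
    (n : (ModuleCat.restrictScalars.{u} (algebraMap P B)).obj N) :
    e12 P P' B B' N (s ⊗ₜ[P, algebraMap P P'] n) = (algebraMap P' B' s) ⊗ₜ[B] (show N from n) := by
  letI : Module P N := Module.compHom N (algebraMap P B)
  haveI : IsScalarTower P B N :=
    ⟨fun p b x => by
      change (p • b) • x = algebraMap P B p • (b • x)
      rw [Algebra.smul_def, mul_smul]⟩
  change (Algebra.IsPushout.cancelBaseChange P P' B B' N).symm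
    (toTensor (B := P') _ (s ⊗ₜ[P, algebraMap P P'] n)) = _
  rw [toTensor_tmul]
  exact Algebra.IsPushout.cancelBaseChange_symm_tmul P P' B B' N s n

/-- `B' ⊗_B N ≃ (B' ⊗_B N)|_{P'}`. -/
noncomputable def e3 (N : ModuleCat.{u} B) :
    B' ⊗[B] N ≃ₗ[P'] ((ModuleCat.restrictScalars.{u} (algebraMap P' B')).obj
      ((ModuleCat.extendScalars.{u, u, u} (algebraMap B B')).obj N)) :=
  { (extEquiv (A := B) (B := B') N).symm.toAddEquiv with
    map_smul' := fun p' t => by
      change (extEquiv (A := B) (B := B') N).symm (p' • t) =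
        algebraMap P' B' p' • (extEquiv (A := B) (B := B') N).symm t
      rw [← map_smul, algebraMap_smul] }

open ChangeOfRings in
lemma e3_tmul (N : ModuleCat.{u} B) (s : B') (n : N) :
    e3 P' B B' N (s ⊗ₜ[B] n) = (s ⊗ₜ[B, algebraMap B B'] n :
        (ModuleCat.extendScalars.{u, u, u} (algebraMap B B')).obj N) := rfl

/-- `P' ⊗_P N ≅ B' ⊗_B N` as `P'`-modules. -/
noncomputable def nuIso (N : ModuleCat.{u} B) :
    ((ModuleCat.extendScalars.{u, u, u} (algebraMap P P')).obj
      ((ModuleCat.restrictScalars.{u} (algebraMap P B)).obj N)) ≅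
    ((ModuleCat.restrictScalars.{u} (algebraMap P' B')).obj
      ((ModuleCat.extendScalars.{u, u, u} (algebraMap B B')).obj N)) :=
  LinearEquiv.toModuleIso ((e12 P P' B B' N).trans (e3 P' B B' N))

open ChangeOfRings in
lemma nuIso_hom_tmul (N : ModuleCat.{u} B) (s : P')
    (n : (ModuleCat.restrictScalars.{u} (algebraMap P B)).obj N) :
    (nuIso P P' B B' N).hom (s ⊗ₜ[P, algebraMap P P'] n) =
      ((algebraMap P' B' s) ⊗ₜ[B, algebraMap B B'] (show N from n) :
        (ModuleCat.extendScalars.{u, u, u} (algebraMap B B')).obj N) := by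
  change e3 P' B B' N (e12 P P' B B' N (s ⊗ₜ[P, algebraMap P P'] n)) = _
  rw [e12_tmul, e3_tmul]

open ChangeOfRings in
/-- the base change isomorphism `P' ⊗_P (-) ≅ B' ⊗_B (-)` on `B`-modules. -/
noncomputable def nu :
    ModuleCat.restrictScalars.{u} (algebraMap P B) ⋙
        ModuleCat.extendScalars.{u, u, u} (algebraMap P P') ≅
      ModuleCat.extendScalars.{u, u, u} (algebraMap B B') ⋙
        ModuleCat.restrictScalars.{u} (algebraMap P' B') :=
  NatIso.ofComponents (fun N => nuIso P P' B B' N) (fun {N N'} φ => by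
    refine ModuleCat.hom_ext (LinearMap.ext fun z => ?_)
    rw [ModuleCat.hom_comp, ModuleCat.hom_comp, LinearMap.comp_apply, LinearMap.comp_apply]
    induction z using ext_induction with
    | zero => simp only [map_zero]
    | tmul s n =>
      have h1 : ((ModuleCat.restrictScalars.{u} (algebraMap P B) ⋙
          ModuleCat.extendScalars.{u, u, u} (algebraMap P P')).map φ).hom
            (s ⊗ₜ[P, algebraMap P P'] n) =
          (s ⊗ₜ[P, algebraMap P P'] (((ModuleCat.restrictScalars.{u} (algebraMap P B)).map φ).hom n) :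
            (ModuleCat.extendScalars.{u, u, u} (algebraMap P P')).obj
              ((ModuleCat.restrictScalars.{u} (algebraMap P B)).obj N')) := rfl
      rw [h1]
      erw [nuIso_hom_tmul]
    | add x y hx hy => simp only [map_add, hx, hy])

end modlevel

section derived

attribute [local instance] HasDerivedCategory.standard

open DRing DerivedCategory Groth.Agent.H4.FB2

variable (P P' B B' : Type u) [CommRing P] [CommRing P'] [CommRing B] [CommRing B']
  [Algebra P P'] [Algebra P B] [Algebra P' B'] [Algebra B B'] [Algebra P B']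
  [IsScalarTower P P' B'] [IsScalarTower P B B'] [Algebra.IsPushout P P' B B']

/-- the base change isomorphism on complexes. -/
noncomputable def nuC :
    Groth.Agent.H4.FB2.resC P B ⋙ extC P P' ≅ extC B B' ⋙ Groth.Agent.H4.FB2.resC P' B' :=
  NatIso.ofComponents (fun K => HomologicalComplex.Hom.isoOfComponents
    (fun i => (nu P P' B B').app (K.X i))
    (fun i j _ => ((nu P P' B B').hom.naturality (K.d i j)).symm))
    (fun {K L} φ => by
      ext i : 1
      exact (nu P P' B B').hom.naturality (φ.f i))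

variable [Module.Flat P P'] [Module.Flat B B']

noncomputable instance lifting₁ :
    Localization.Lifting (Q : Cx B ⥤ Dual.D B)
      (HomologicalComplex.quasiIso (ModuleCat.{u} B) (ComplexShape.up ℤ))
      (Groth.Agent.H4.FB2.resC P B ⋙ extC P P' ⋙ (Q : Cx P' ⥤ Dual.D P'))
      (Res P B ⋙ E P P') :=
  ⟨(Functor.associator _ _ _).symm ≪≫
    Functor.isoWhiskerRight
      (ModuleCat.restrictScalars.{u} (algebraMap P B)).mapDerivedCategoryFactors _ ≪≫
    Functor.associator _ _ _ ≪≫
    Functor.isoWhiskerLeft _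
      (ModuleCat.extendScalars.{u, u, u} (algebraMap P P')).mapDerivedCategoryFactors⟩

noncomputable instance lifting₂ :
    Localization.Lifting (Q : Cx B ⥤ Dual.D B)
      (HomologicalComplex.quasiIso (ModuleCat.{u} B) (ComplexShape.up ℤ))
      (extC B B' ⋙ Groth.Agent.H4.FB2.resC P' B' ⋙ (Q : Cx P' ⥤ Dual.D P'))
      (E B B' ⋙ Res P' B') :=
  ⟨(Functor.associator _ _ _).symm ≪≫
    Functor.isoWhiskerRight
      (ModuleCat.extendScalars.{u, u, u} (algebraMap B B')).mapDerivedCategoryFactors _ ≪≫
    Functor.associator _ _ _ ≪≫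
    Functor.isoWhiskerLeft _
      (ModuleCat.restrictScalars.{u} (algebraMap P' B')).mapDerivedCategoryFactors⟩

/-- **flat base change for restriction of scalars**: `(N|_P) ⊗_P P' ≅ (N ⊗_B B')|_{P'}`. -/
noncomputable def beta : Res P B ⋙ E P P' ≅ E B B' ⋙ Res P' B' :=
  Localization.liftNatIso (Q : Cx B ⥤ Dual.D B)
    (HomologicalComplex.quasiIso (ModuleCat.{u} B) (ComplexShape.up ℤ))
    (Groth.Agent.H4.FB2.resC P B ⋙ extC P P' ⋙ (Q : Cx P' ⥤ Dual.D P'))
    (extC B B' ⋙ Groth.Agent.H4.FB2.resC P' B' ⋙ (Q : Cx P' ⥤ Dual.D P')) _ _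
    ((Functor.associator _ _ _).symm ≪≫ Functor.isoWhiskerRight (nuC P P' B B') Q ≪≫
      Functor.associator _ _ _)

end derived

end Groth.Agent.H4.FR1
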