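import Mathlib
import Groth.Agent.H4.FR1
import Groth.Agent.H4.US1
import Groth.Agent.H4.FB3

set_option autoImplicit false
universe u
open CategoryTheory Category Limits Pretriangulated TensorProduct

namespace Groth.Agent.H4.FR2

attribute [local instance] HasDerivedCategory.standard

open DRing DerivedCategory Groth.Agent.H4.DCompl1 Groth.Agent.H4.FB1 Groth.Agent.H4.FB2
  Groth.Agent.H4.FR1

section partA

variable {A : Type u} [CommRing A] {B : Type u} [CommRing B] [Algebra A B] [Module.Flat A B]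

variable (A B) in
noncomputable instance : (E A B).IsTriangulated :=
  inferInstanceAs ((ModuleCat.extendScalars.{u, u, u}
    (algebraMap A B)).mapDerivedCategory.IsTriangulated)

/-- `B ⊗ Hom(M, K) → Hom(E M, E K)`. -/
noncomputable def PsiE (M K : Dual.D A) :
    B ⊗[A] (M ⟶ K) →+ ((E A B).obj M ⟶ (E A B).obj K) :=
  ((adjE A B).homAddEquiv M ((E A B).obj K)).symm.toAddMonoidHom.comp
    (Psi (gammaE (B := B) K) M).toAddMonoidHom

lemma PsiE_apply (M K : Dual.D A) (t : B ⊗[A] (M ⟶ K)) :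
    PsiE M K t = ((adjE A B).homEquiv M ((E A B).obj K)).symm (Psi (gammaE (B := B) K) M t) := rfl

lemma PsiE_tmul (M K : Dual.D A) (b : B) (g : M ⟶ K) :
    PsiE M K (b ⊗ₜ[A] g) = b • (E A B).map g := by
  rw [PsiE_apply, Equiv.symm_apply_eq, Psi_tmul, homEquiv_apply, gammaE_apply]
  have h1 : b • (E A B).map g = (E A B).map g ≫ (b • 𝟙 ((E A B).obj K)) := by
    rw [Linear.comp_smul, comp_id]
  rw [h1, Functor.map_comp, ← assoc, ← assoc]
  congr 1
  exact ((adjE A B).unit.naturality g)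

lemma bijective_PsiE (M K : Dual.D A) (h : Function.Bijective (Psi (gammaE (B := B) K) M)) :
    Function.Bijective (PsiE (B := B) M K) := by
  have : ⇑(PsiE (B := B) M K) =
      ⇑((adjE A B).homEquiv M ((E A B).obj K)).symm ∘ ⇑(Psi (gammaE (B := B) K) M) := by
    funext t
    rfl
  rw [this]
  exact ((adjE A B).homEquiv M ((E A B).obj K)).symm.bijective.comp h

/-- `E (A[-c]) ≅ B[-c]`. -/
noncomputable def EGIso (c : ℤ) : (E A B).obj (G A c) ≅ G B c :=
  ESingleIso (ModuleCat.of A A) c ≪≫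
    (singleFunctor (ModuleCat.{u} B) c).mapIso
      ((Groth.Agent.H8.ExtBridge.extEquiv (A := A) (B := B) (ModuleCat.of A A)).trans
        (TensorProduct.AlgebraTensorModule.rid A B B)).toModuleIso

end partA

section partB

variable (P P' B B' : Type u) [CommRing P] [CommRing P'] [CommRing B] [CommRing B']
  [Algebra P P'] [Algebra P B] [Algebra P' B'] [Algebra B B'] [Algebra P B']
  [IsScalarTower P P' B'] [IsScalarTower P B B'] [Algebra.IsPushout P P' B B']
  [Module.Flat P P'] [Module.Flat B B']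
  (Rψ : Dual.D P ⥤ Dual.D B) (adj : Res P B ⊣ Rψ)
  (Rψ' : Dual.D P' ⥤ Dual.D B') (adj' : Res P' B' ⊣ Rψ')

/-- the base change map. -/
noncomputable def tau (M : Dual.D P) :
    (E B B').obj (Rψ.obj M) ⟶ Rψ'.obj ((E P P').obj M) :=
  adj'.homEquiv _ _ ((beta P P' B B').inv.app (Rψ.obj M) ≫ (E P P').map (adj.counit.app M))

lemma symm_comp_tau (M : Dual.D P) {Y' : Dual.D B'} (h : Y' ⟶ (E B B').obj (Rψ.obj M)) :
    (adj'.homEquiv _ _).symm (h ≫ tau P P' B B' Rψ adj Rψ' adj' M) =
      (Res P' B').map h ≫ (beta P P' B B').inv.app (Rψ.obj M) ≫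
        (E P P').map (adj.counit.app M) := by
  rw [Adjunction.homEquiv_naturality_left_symm, tau, Equiv.symm_apply_apply]

/-- the comparison on `Hom` groups. -/
noncomputable def Theta' (G₀ : Dual.D B) (M : Dual.D P) :
    ((E B B').obj G₀ ⟶ (E B B').obj (Rψ.obj M)) →+
      ((E P P').obj ((Res P B).obj G₀) ⟶ (E P P').obj M) where
  toFun h := (beta P P' B B').hom.app G₀ ≫ (Res P' B').map h ≫
    (beta P P' B B').inv.app (Rψ.obj M) ≫ (E P P').map (adj.counit.app M)
  map_zero' := by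
    rw [Functor.map_zero, zero_comp, comp_zero]
  map_add' h h' := by
    rw [Functor.map_add, Preadditive.add_comp, Preadditive.comp_add]

lemma Theta'_apply (G₀ : Dual.D B) (M : Dual.D P)
    (h : (E B B').obj G₀ ⟶ (E B B').obj (Rψ.obj M)) :
    Theta' P P' B B' Rψ adj G₀ M h = (beta P P' B B').hom.app G₀ ≫ (Res P' B').map h ≫
      (beta P P' B B').inv.app (Rψ.obj M) ≫ (E P P').map (adj.counit.app M) := rfl

lemma Theta'_map (G₀ : Dual.D B) (M : Dual.D P) (g : G₀ ⟶ Rψ.obj M) :
    Theta' P P' B B' Rψ adj G₀ M ((E B B').map g) =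
      (E P P').map (Groth.Agent.H4.US1.homAddEquiv Rψ adj G₀ M g) := by
  rw [Theta'_apply, Groth.Agent.H4.US1.homAddEquiv_apply, Functor.map_comp]
  have h1 := (beta P P' B B').hom.naturality g
  dsimp only [Functor.comp_map] at h1
  rw [← assoc, ← h1, assoc, Iso.hom_inv_id_app_assoc]

lemma Theta'_smul (G₀ : Dual.D B) (M : Dual.D P) (p' : P')
    (h : (E B B').obj G₀ ⟶ (E B B').obj (Rψ.obj M)) :
    Theta' P P' B B' Rψ adj G₀ M (algebraMap P' B' p' • h) =
      p' • Theta' P P' B B' Rψ adj G₀ M h := by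
  rw [Theta'_apply, Theta'_apply, Res_map_smul, Linear.smul_comp, Linear.comp_smul]

end partB

section main

variable (P P' B B' : Type u) [CommRing P] [CommRing P'] [CommRing B] [CommRing B']
  [Algebra P P'] [Algebra P B] [Algebra P' B'] [Algebra B B'] [Algebra P B']
  [IsScalarTower P P' B'] [IsScalarTower P B B'] [Algebra.IsPushout P P' B B']
  [Module.Flat P P'] [Module.Flat B B'] [IsNoetherianRing P] [Module.Finite P B]
  (Rψ : Dual.D P ⥤ Dual.D B) (adj : Res P B ⊣ Rψ)
  (Rψ' : Dual.D P' ⥤ Dual.D B') (adj' : Res P' B' ⊣ Rψ')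

lemma isPC'_res_G (c : ℤ) : IsPseudoCoherent' P ((Res P B).obj (G B c)) :=
  Groth.Agent.H4.DRing1.isPseudoCoherent'_of_iso (Groth.Agent.H4.US1.resGIso P B c).symm
    (Groth.Agent.H4.DRing1.isPseudoCoherent'_shift _ _ (Groth.Agent.H4.FB3.isPC'_inD B))

theorem bijective_Theta' (M : Dual.D P) (a : ℤ) [M.IsGE a] (c : ℤ) :
    Function.Bijective (Theta' P P' B B' Rψ adj (G B c) M) := by
  letI : Module P (G B c ⟶ Rψ.obj M) := Module.compHom _ (algebraMap P B)
  haveI : IsScalarTower P B (G B c ⟶ Rψ.obj M) := ⟨fun p b x => by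
      change (p • b) • x = algebraMap P B p • (b • x)
      rw [Algebra.smul_def, mul_smul]⟩
  let cancel := Algebra.IsPushout.cancelBaseChange P P' B B' (G B c ⟶ Rψ.obj M)
  let hatLin : (G B c ⟶ Rψ.obj M) ≃ₗ[P] ((Res P B).obj (G B c) ⟶ M) :=
    { Groth.Agent.H4.US1.homAddEquiv Rψ adj (G B c) M with
      map_smul' := fun p g => Groth.Agent.H4.US1.homAddEquiv_smul Rψ adj (G B c) M p g }
  have key : ∀ t : P' ⊗[P] (G B c ⟶ Rψ.obj M),
      Theta' P P' B B' Rψ adj (G B c) M (PsiE (B := B') (G B c) (Rψ.obj M) (cancel.symm t)) =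
        PsiE (B := P') ((Res P B).obj (G B c)) M (hatLin.toLinearMap.lTensor P' t) := by
    intro t
    induction t using TensorProduct.induction_on with
    | zero => simp only [map_zero]
    | tmul p' g =>
      rw [Algebra.IsPushout.cancelBaseChange_symm_tmul, PsiE_tmul, Theta'_smul, Theta'_map,
        LinearMap.lTensor_tmul, PsiE_tmul]
      rfl
    | add x y hx hy => simp only [map_add, hx, hy]
  have h1 : Function.Bijective (PsiE (B := B') (G B c) (Rψ.obj M)) :=
    bijective_PsiE _ _ (bijective_Psi_G (gammaE (Rψ.obj M)) c (bijective_Theta_gammaE _ c))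
  have h2 : Function.Bijective (PsiE (B := P') ((Res P B).obj (G B c)) M) :=
    bijective_PsiE _ _ (bijective_Psi_gammaE M a _ (isPC'_res_G P B c))
  have h3 : Function.Bijective (hatLin.toLinearMap.lTensor P') :=
    (LinearEquiv.lTensor P' hatLin).bijective
  have h4 : Function.Bijective (fun t => PsiE (B := B') (G B c) (Rψ.obj M) (cancel.symm t)) :=
    h1.comp cancel.symm.bijective
  have h5 : (⇑(Theta' P P' B B' Rψ adj (G B c) M)) ∘
      (fun t => PsiE (B := B') (G B c) (Rψ.obj M) (cancel.symm t)) =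
      (⇑(PsiE (B := P') ((Res P B).obj (G B c)) M)) ∘ ⇑(hatLin.toLinearMap.lTensor P') := by
    funext t
    exact key t
  have h6 : Function.Bijective ((⇑(Theta' P P' B B' Rψ adj (G B c) M)) ∘
      (fun t => PsiE (B := B') (G B c) (Rψ.obj M) (cancel.symm t))) := by
    rw [h5]
    exact h2.comp h3
  exact (Function.Bijective.of_comp_iff _ h4).1 h6

theorem bijective_comp_tau (M : Dual.D P) (a : ℤ) [M.IsGE a] (c : ℤ) :
    Function.Bijective (fun φ : G B' c ⟶ (E B B').obj (Rψ.obj M) =>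
      φ ≫ tau P P' B B' Rψ adj Rψ' adj' M) := by
  have hΘ := bijective_Theta' P P' B B' Rψ adj M a c
  have hformula : ∀ h : (E B B').obj (G B c) ⟶ (E B B').obj (Rψ.obj M),
      Theta' P P' B B' Rψ adj (G B c) M h = (beta P P' B B').hom.app (G B c) ≫
        (adj'.homEquiv _ _).symm (h ≫ tau P P' B B' Rψ adj Rψ' adj' M) := by
    intro h
    rw [symm_comp_tau, Theta'_apply]
  constructor
  · intro φ φ' hφ
    change φ ≫ _ = φ' ≫ _ at hφ
    have : (EGIso (A := B) (B := B') c).hom ≫ φ = (EGIso (A := B) (B := B') c).hom ≫ φ' := by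
      apply hΘ.1
      rw [hformula, hformula, assoc, assoc, hφ]
    exact (cancel_epi _).1 this
  · intro χ
    obtain ⟨h, hh⟩ := hΘ.2 ((beta P P' B B').hom.app (G B c) ≫
      (adj'.homEquiv _ _).symm ((EGIso (A := B) (B := B') c).hom ≫ χ))
    rw [hformula] at hh
    have hh' := (cancel_epi _).1 hh
    have hh'' := (adj'.homEquiv _ _).symm.injective hh'
    refine ⟨(EGIso (A := B) (B := B') c).inv ≫ h, ?_⟩
    change ((EGIso (A := B) (B := B') c).inv ≫ h) ≫ _ = χ
    rw [assoc, hh'', Iso.inv_hom_id_assoc]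

/-- **Flat base change for the right adjoint of restriction of scalars along a finite map.** -/
theorem isIso_tau (M : Dual.D P) (a : ℤ) [M.IsGE a] :
    IsIso (tau P P' B B' Rψ adj Rψ' adj' M) :=
  isIso_of_homG _ (fun c => bijective_comp_tau P P' B B' Rψ adj Rψ' adj' M a c)

include adj adj' in
theorem nonempty_iso (M : Dual.D P) (a : ℤ) [M.IsGE a] :
    Nonempty ((E B B').obj (Rψ.obj M) ≅ Rψ'.obj ((E P P').obj M)) :=
  haveI := isIso_tau P P' B B' Rψ adj Rψ' adj' M a
  ⟨asIso (tau P P' B B' Rψ adj Rψ' adj' M)⟩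

end main

end Groth.Agent.H4.FR2
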