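import Mathlib

set_option autoImplicit false
universe u v
open Polynomial TensorProduct

namespace Groth.Agent.H4.CharSeq

variable (A : Type u) [CommRing A] (N : Type v) [AddCommGroup N] [Module A N] [Module A[X] N]
  [IsScalarTower A A[X] N]

/-- multiplication by `X` on `N`, as an `A`-linear map. -/
noncomputable def xmul : N →ₗ[A] N where
  toFun n := (X : A[X]) • n
  map_add' := smul_add _
  map_smul' a n := by
    simp only [RingHom.id_apply]
    rw [← algebraMap_smul A[X] a n, ← algebraMap_smul A[X] a ((X : A[X]) • n), smul_smul, smul_smul,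
      mul_comm]

lemma xmul_apply (n : N) : xmul A N n = (X : A[X]) • n := rfl

/-- the action map `A[X] ⊗ N → N`. -/
noncomputable def mu : A[X] ⊗[A] N →ₗ[A[X]] N :=
  LinearMap.liftBaseChange A[X] (LinearMap.id : N →ₗ[A] N)

@[simp] lemma mu_tmul (b : A[X]) (n : N) : mu A N (b ⊗ₜ n) = b • n := by
  simp [mu]

/-- the map `X ⊗ 1 - 1 ⊗ X`. -/
noncomputable def psi : A[X] ⊗[A] N →ₗ[A[X]] A[X] ⊗[A] N :=
  LinearMap.liftBaseChange A[X]
    (TensorProduct.mk A A[X] N X - (TensorProduct.mk A A[X] N 1) ∘ₗ xmul A N)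

lemma psi_tmul (b : A[X]) (n : N) :
    psi A N (b ⊗ₜ n) = (b * X) ⊗ₜ[A] n - b ⊗ₜ[A] ((X : A[X]) • n) := by
  simp [psi, smul_sub, TensorProduct.smul_tmul', xmul_apply]

lemma mu_psi (t : A[X] ⊗[A] N) : mu A N (psi A N t) = 0 := by
  induction t using TensorProduct.induction_on with
  | zero => simp
  | tmul b n => rw [psi_tmul, map_sub, mu_tmul, mu_tmul, mul_smul, sub_self]
  | add x y hx hy => rw [map_add, map_add, hx, hy, add_zero]

lemma mu_surjective : Function.Surjective (mu A N) := fun n => ⟨1 ⊗ₜ n, by simp⟩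

lemma key (b : A[X]) : ∀ n : N, b ⊗ₜ[A] n - 1 ⊗ₜ[A] (b • n) ∈ LinearMap.range (psi A N) := by
  induction b using Polynomial.induction_on with
  | C a =>
    intro n
    have : (C a) ⊗ₜ[A] n = (1 : A[X]) ⊗ₜ[A] ((C a) • n) := by
      rw [show (C a : A[X]) = a • (1 : A[X]) by rw [← Polynomial.C_mul', mul_one],
        TensorProduct.smul_tmul, smul_assoc, one_smul]
    rw [this, sub_self]
    exact Submodule.zero_mem _
  | add p q hp hq =>
    intro n
    have : (p + q) ⊗ₜ[A] n - 1 ⊗ₜ[A] ((p + q) • n) =
        (p ⊗ₜ[A] n - 1 ⊗ₜ[A] (p • n)) + (q ⊗ₜ[A] n - 1 ⊗ₜ[A] (q • n)) := by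
      rw [TensorProduct.add_tmul, add_smul, TensorProduct.tmul_add]
      abel
    rw [this]
    exact Submodule.add_mem _ (hp n) (hq n)
  | monomial k a h =>
    intro n
    have h1 := h ((X : A[X]) • n)
    have : (C a * X ^ (k + 1)) ⊗ₜ[A] n - 1 ⊗ₜ[A] ((C a * X ^ (k + 1)) • n) =
        psi A N ((C a * X ^ k) ⊗ₜ[A] n) +
          ((C a * X ^ k) ⊗ₜ[A] ((X : A[X]) • n) - 1 ⊗ₜ[A] ((C a * X ^ k) • (X : A[X]) • n)) := by
      rw [psi_tmul, smul_smul, pow_succ, mul_assoc]
      abel
    rw [this]
    exact Submodule.add_mem _ ⟨_, rfl⟩ h1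

lemma ker_mu_le_range_psi : LinearMap.ker (mu A N) ≤ LinearMap.range (psi A N) := by
  intro t ht
  have h : ∀ t : A[X] ⊗[A] N, t - 1 ⊗ₜ[A] (mu A N t) ∈ LinearMap.range (psi A N) := by
    intro t
    induction t using TensorProduct.induction_on with
    | zero => simp
    | tmul b n => rw [mu_tmul]; exact key A N b n
    | add x y hx hy =>
      have : x + y - 1 ⊗ₜ[A] (mu A N (x + y)) =
          (x - 1 ⊗ₜ[A] (mu A N x)) + (y - 1 ⊗ₜ[A] (mu A N y)) := by
        rw [map_add, TensorProduct.tmul_add]
        abel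
      rw [this]
      exact Submodule.add_mem _ hx hy
  have h1 := h t
  rw [LinearMap.mem_ker.1 ht, TensorProduct.tmul_zero, sub_zero] at h1
  exact h1

lemma exact_psi_mu : Function.Exact (psi A N) (mu A N) := by
  intro t
  constructor
  · intro ht
    exact ker_mu_le_range_psi A N (LinearMap.mem_ker.2 ht)
  · rintro ⟨s, rfl⟩
    exact mu_psi A N s

/-- the difference operator on `N[X]`. -/
noncomputable def Dop : PolynomialModule A N →ₗ[A] PolynomialModule A N :=
  (LinearMap.lsmul A[X] (PolynomialModule A N) X).restrictScalars A -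
    PolynomialModule.map A (xmul A N)

lemma map_coeff (f : N →ₗ[A] N) (p : PolynomialModule A N) (k : ℕ) :
    (PolynomialModule.map A f p).coeff k = f (p.coeff k) := by
  simp [PolynomialModule.map]

lemma Dop_coeff_succ (p : PolynomialModule A N) (k : ℕ) :
    (Dop A N p).coeff (k + 1) = p.coeff k - (X : A[X]) • p.coeff (k + 1) := by
  have h1 : ((X : A[X]) • p).coeff (k + 1) = p.coeff k := by
    rw [← Polynomial.monomial_one_one_eq_X, PolynomialModule.monomial_smul_apply]
    simp
  change (((X : A[X]) • p) - PolynomialModule.map A (xmul A N) p).coeff (k + 1) = _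
  have h2 : ∀ x y : PolynomialModule A N, (x - y).coeff = x.coeff - y.coeff := fun x y => rfl
  rw [h2, Finsupp.sub_apply, h1, map_coeff, xmul_apply]

lemma Dop_injective : Function.Injective (Dop A N) := by
  rw [injective_iff_map_eq_zero]
  intro p hp
  have h1 : ∀ k, p.coeff k = (X : A[X]) • p.coeff (k + 1) := by
    intro k
    have := Dop_coeff_succ A N p k
    rw [hp] at this
    simp only [PolynomialModule.coeff_zero, Finsupp.coe_zero, Pi.zero_apply] at this
    exact (sub_eq_zero.1 this.symm)
  have h2 : ∀ j k, p.coeff k = (X : A[X]) ^ j • p.coeff (k + j) := by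
    intro j
    induction j with
    | zero => intro k; simp
    | succ j ih =>
      intro k
      rw [ih k, h1 (k + j), smul_smul, ← pow_succ, add_assoc]
  obtain ⟨M, hM⟩ : ∃ M : ℕ, ∀ n, M ≤ n → p.coeff n = 0 := by
    refine ⟨p.coeff.support.sup id + 1, fun n hn => ?_⟩
    by_contra hne
    have := Finset.le_sup (f := id) (Finsupp.mem_support_iff.2 hne)
    simp only [id] at this
    omega
  rw [← PolynomialModule.coeff_eq_zero]
  ext k
  rw [h2 M k, hM (k + M) (by omega), smul_zero]
  rfl

lemma equiv_psi (t : A[X] ⊗[A] N) :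
    PolynomialModule.polynomialTensorProductLEquivPolynomialModule A N (psi A N t) =
      Dop A N (PolynomialModule.polynomialTensorProductLEquivPolynomialModule A N t) := by
  have he : ∀ (b : A[X]) (n : N),
      PolynomialModule.polynomialTensorProductLEquivPolynomialModule A N (b ⊗ₜ n) =
        b • PolynomialModule.lsingle A 0 n := by
    intro b n
    change LinearMap.liftBaseChange A[X] (PolynomialModule.lsingle A (M := N) 0) (b ⊗ₜ n) = _
    rw [LinearMap.liftBaseChange_tmul]
  induction t using TensorProduct.induction_on with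
  | zero => simp
  | tmul b n =>
    rw [psi_tmul, map_sub, he, he, he]
    change _ = (X : A[X]) • (b • PolynomialModule.lsingle A 0 n) -
      PolynomialModule.map A (xmul A N) (b • PolynomialModule.lsingle A 0 n)
    rw [PolynomialModule.map_smul, PolynomialModule.map_lsingle, xmul_apply, smul_smul,
      mul_comm, Algebra.algebraMap_self, Polynomial.map_id]
  | add x y hx hy => rw [map_add, map_add, map_add, hx, hy, map_add]

lemma psi_injective : Function.Injective (psi A N) := by
  intro s t hst
  apply (PolynomialModule.polynomialTensorProductLEquivPolynomialModule A N).injective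
  apply Dop_injective A N
  rw [← equiv_psi, ← equiv_psi, hst]

end Groth.Agent.H4.CharSeq
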