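import Mathlib
import Groth.Agent.H4.FB6

set_option autoImplicit false
universe u v w
open CategoryTheory Category Limits Pretriangulated TensorProduct

namespace Groth.Agent.H4.FB7

attribute [local instance] HasDerivedCategory.standard

open DRing DerivedCategory Groth.Agent.H4.DCompl1 Groth.Agent.H4.DZ5 Groth.Agent.H4.FB1
  Groth.Agent.H4.FB2 Groth.Agent.H4.FB3 Groth.Agent.H4.FB4 Groth.Agent.H4.FB5
  Groth.Agent.H4.InjAmp Groth.Agent.H4.DZ3 Groth.Agent.H4.DZ1 Groth.Agent.H4.DZ2 Groth.Agent.H4.DZ6

section nak

variable {A : Type u} [CommRing A]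

/-- a finite module `E` with `E = m E` for every maximal ideal `m` is zero. -/
lemma subsingleton_of_forall_maximal_smul (E : Type v) [AddCommGroup E] [Module A E]
    [Module.Finite A E]
    (h : ∀ m : Ideal A, m.IsMaximal → (⊤ : Submodule A E) ≤ m • ⊤) : Subsingleton E := by
  by_contra hE
  rw [not_subsingleton_iff_nontrivial] at hE
  have hann : Module.annihilator A E ≠ ⊤ := by
    intro h1
    have : (1 : A) ∈ Module.annihilator A E := h1 ▸ Submodule.mem_top
    obtain ⟨x, hx⟩ := exists_ne (0 : E)
    apply hx
    have := Module.mem_annihilator.1 this x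
    simpa using this
  obtain ⟨m, hm, hle⟩ := Ideal.exists_le_maximal _ hann
  obtain ⟨r, hr1, hr2⟩ := Submodule.exists_sub_one_mem_and_smul_eq_zero_of_fg_of_le_smul m
    (⊤ : Submodule A E) Module.Finite.fg_top (h m hm)
  have hr : r ∈ m := hle (Module.mem_annihilator.2 (fun x => hr2 x Submodule.mem_top))
  apply hm.ne_top
  rw [Ideal.eq_top_iff_one]
  have : (1 : A) = r - (r - 1) := by ring
  rw [this]
  exact m.sub_mem hr hr1

end nak

section crit

variable {A : Type u} [CommRing A] [IsNoetherianRing A]

/-- the predicate for the Noetherian induction. -/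
def Pred (K : Dual.D A) (b : ℤ) (I : Ideal A) : Prop :=
  ∀ (N : Type u) [AddCommGroup N] [Module A N] [Module.Finite A N],
    (∀ a ∈ I, ∀ y : N, a • y = 0) → ∀ i : ℤ, b < i → Subsingleton (Dual.inD A N ⟶ K⟦i⟧)

/-- **Injective dimension is detected by the residue fields of the maximal ideals.** -/
theorem subsingleton_ext_of_maximal (K : Dual.D A) (a : ℤ) [K.IsGE a]
    (hfin : ∀ i : ℤ, Module.Finite A (Dual.HD A K i)) (b : ℤ)
    (hmax : ∀ m : Ideal A, m.IsMaximal → ∀ i : ℤ, b < i →
      Subsingleton (Dual.inD A (A ⧸ m) ⟶ K⟦i⟧))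
    (N : Type u) [AddCommGroup N] [Module A N] [Module.Finite A N] (i : ℤ) (hi : b < i) :
    Subsingleton (Dual.inD A N ⟶ K⟦i⟧) := by
  have hFin : ∀ (M : Type u) [AddCommGroup M] [Module A M] [Module.Finite A M] (j : ℤ),
      Module.Finite A (Dual.inD A M ⟶ K⟦j⟧) := by
    intro M _ _ _ j
    haveI := FH_module K hfin a M (-j)
    exact Module.Finite.equiv (shiftHomLinEquiv (Dual.inD A M) K (-j) j (by simp))
  suffices H : ∀ I : Ideal A, Pred K b I from H ⊥ N (fun a ha y => by
    rw [Ideal.mem_bot] at ha; rw [ha, zero_smul]) i hi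
  intro I
  induction I using IsNoetherian.induction with
  | hgt I ih =>
  intro N _ _ hN hkill
  induction hN using IsNoetherianRing.induction_on_isQuotientEquivQuotientPrime A with
  | subsingleton N =>
    intro i _
    have hz : IsZero (Dual.inD A N) :=
      (singleFunctor (ModuleCat.{u} A) 0).map_isZero (ModuleCat.isZero_of_subsingleton _)
    exact ⟨fun f g => hz.eq_of_src f g⟩
  | quotient N p e =>
    intro i hi
    refine subsingleton_hom_of_linearEquiv _ e ?_
    haveI := p.isPrime
    have hIp : I ≤ p.asIdeal := by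
      intro x hx
      have h1 := hkill x hx (e.symm (Ideal.Quotient.mk p.asIdeal 1))
      have h2 : x • (Ideal.Quotient.mk p.asIdeal 1 : A ⧸ p.asIdeal) = 0 := by
        have := congrArg e h1
        rwa [map_smul, LinearEquiv.apply_symm_apply, map_zero] at this
      rw [← Ideal.Quotient.eq_zero_iff_mem]
      rw [← h2]
      simp [Algebra.smul_def]
    by_cases hlt : I < p.asIdeal
    · exact ih p.asIdeal hlt (A ⧸ p.asIdeal) (fun x hx y => by
        obtain ⟨y, rfl⟩ := Ideal.Quotient.mk_surjective y
        rw [← Ideal.Quotient.mk_eq_mk, ← Submodule.Quotient.mk_smul, smul_eq_mul,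
          Submodule.Quotient.mk_eq_zero]
        exact Ideal.mul_mem_right _ _ hx) i hi
    · have hIp' : I = p.asIdeal := by
        rcases lt_or_eq_of_le hIp with h | h
        · exact absurd h hlt
        · exact h
      by_cases hpm : p.asIdeal.IsMaximal
      · exact hmax p.asIdeal hpm i hi
      · -- the finite module `E = Ext^i(A/p, K)` satisfies `E = m E` for all maximal `m`
        haveI := hFin (A ⧸ p.asIdeal) i
        refine subsingleton_of_forall_maximal_smul (A := A) _ (fun m hm => ?_)
        -- find `x ∈ m` such that every element of `E` is divisible by `x`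
        have hx : ∃ x ∈ m, ∀ φ : Dual.inD A (A ⧸ p.asIdeal) ⟶ K⟦i⟧,
            ∃ ψ : Dual.inD A (A ⧸ p.asIdeal) ⟶ K⟦i⟧, φ = x • ψ := by
          by_cases hpm' : p.asIdeal ≤ m
          · -- choose `x ∈ m ∖ p`
            have hlt' : p.asIdeal < m := lt_of_le_of_ne hpm' (fun h => hpm (h ▸ hm))
            obtain ⟨x, hxm, hxp⟩ := Set.exists_of_ssubset hlt'
            refine ⟨x, hxm, ?_⟩
            have hinj : Function.Injective (LinearMap.lsmul A (A ⧸ p.asIdeal) x) := by
              rw [injective_iff_map_eq_zero]
              intro y hy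
              have h1 : (Ideal.Quotient.mk p.asIdeal x) * y = 0 := by
                rw [← hy]; rfl
              rcases mul_eq_zero.1 h1 with h2 | h2
              · exact absurd (Ideal.Quotient.eq_zero_iff_mem.1 h2) hxp
              · exact h2
            let J : Ideal A := p.asIdeal ⊔ Ideal.span {x}
            have hJ : I < J := by
              rw [hIp']
              refine lt_of_le_of_ne le_sup_left (fun h => hxp ?_)
              rw [h]
              exact Ideal.mem_sup_right (Ideal.subset_span rfl)
            have hQ : Subsingleton (Dual.inD A ((A ⧸ p.asIdeal) ⧸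
                LinearMap.range (LinearMap.lsmul A (A ⧸ p.asIdeal) x)) ⟶ (K⟦i⟧)⟦(1 : ℤ)⟧) := by
              haveI := ih J hJ ((A ⧸ p.asIdeal) ⧸
                LinearMap.range (LinearMap.lsmul A (A ⧸ p.asIdeal) x)) (fun z hz y => by
                  obtain ⟨y, rfl⟩ := Submodule.Quotient.mk_surjective _ y
                  obtain ⟨y, rfl⟩ := Ideal.Quotient.mk_surjective y
                  rw [← Submodule.Quotient.mk_smul, Submodule.Quotient.mk_eq_zero]
                  obtain ⟨z₁, hz₁, z₂, hz₂, rfl⟩ := Submodule.mem_sup.1 hz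
                  obtain ⟨c, rfl⟩ := Ideal.mem_span_singleton'.1 hz₂
                  refine ⟨Ideal.Quotient.mk p.asIdeal (c * y), ?_⟩
                  change x • Ideal.Quotient.mk p.asIdeal (c * y) = _
                  rw [add_smul]
                  have h0 : z₁ • (Ideal.Quotient.mk p.asIdeal y) = 0 := by
                    rw [← Ideal.Quotient.mk_eq_mk, ← Submodule.Quotient.mk_smul, smul_eq_mul,
                      Submodule.Quotient.mk_eq_zero]
                    exact Ideal.mul_mem_right _ _ hz₁
                  rw [h0, zero_add]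
                  change Ideal.Quotient.mk p.asIdeal (x * (c * y)) =
                    (c * x) • Ideal.Quotient.mk p.asIdeal y
                  rw [Algebra.smul_def, Ideal.Quotient.algebraMap_eq, ← map_mul]
                  congr 1
                  ring) (i + 1) (by omega)
              exact (homIsoLinEquiv _
                ((CategoryTheory.shiftFunctorAdd' (Dual.D A) i 1 (i + 1) rfl).app
                  K)).symm.toEquiv.subsingleton
            exact exists_smul_of_subsingleton (K⟦i⟧) (A ⧸ p.asIdeal) x hinj hQ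
          · -- some `y ∈ p ∖ m`; then `1 = c y + x` with `x ∈ m`, and `y` kills `E`
            obtain ⟨y, hyp, hym⟩ := Set.not_subset.1 hpm'
            obtain ⟨c, x, hxm, hcx⟩ := hm.exists_inv hym
            refine ⟨x, hxm, fun φ => ⟨φ, ?_⟩⟩
            have hy0 : y • 𝟙 (Dual.inD A (A ⧸ p.asIdeal)) = 0 := by
              have h1 : y • 𝟙 (ModuleCat.of A (A ⧸ p.asIdeal)) = 0 := by
                refine ModuleCat.hom_ext (LinearMap.ext fun z => ?_)
                obtain ⟨z, rfl⟩ := Ideal.Quotient.mk_surjective z
                change y • Ideal.Quotient.mk p.asIdeal z = 0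
                rw [← Ideal.Quotient.mk_eq_mk, ← Submodule.Quotient.mk_smul, smul_eq_mul,
                  Submodule.Quotient.mk_eq_zero]
                exact Ideal.mul_mem_right _ _ hyp
              have h2 := congrArg (fun t => (singleFunctor (ModuleCat.{u} A) 0).map t) h1
              simp only [Functor.map_smul, CategoryTheory.Functor.map_id, Functor.map_zero] at h2
              exact h2
            have hyφ : y • φ = 0 := by
              have : y • φ = (y • 𝟙 (Dual.inD A (A ⧸ p.asIdeal))) ≫ φ := by
                rw [Linear.smul_comp, id_comp]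
              rw [this, hy0, zero_comp]
            calc φ = (1 : A) • φ := (one_smul _ _).symm
              _ = (c * y + x) • φ := by rw [hcx]
              _ = x • φ := by rw [add_smul, mul_smul, hyφ, smul_zero, zero_add]
        intro φ _
        obtain ⟨x, hxm, hdiv⟩ := hx
        obtain ⟨ψ, rfl⟩ := hdiv φ
        exact Submodule.smul_mem_smul hxm Submodule.mem_top
  | exact N₁ N₂ N₃ f g hf hg hfg h1 h3 =>
    intro i hi
    have k1 : ∀ a ∈ I, ∀ y : N₁, a • y = 0 := fun a ha y => by
      apply hf
      rw [map_smul, map_zero]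
      exact hkill a ha (f y)
    have k3 : ∀ a ∈ I, ∀ y : N₃, a • y = 0 := fun a ha y => by
      obtain ⟨y, rfl⟩ := hg y
      rw [← map_smul, hkill a ha y, map_zero]
    exact subsingleton_hom_of_exact _ N₁ N₂ N₃ f g hf hg hfg (h1 k1 i hi) (h3 k3 i hi)

end crit

section ext

variable {A : Type u} [CommRing A] [IsNoetherianRing A] {B : Type u} [CommRing B] [Algebra A B]
  [Module.Flat A B] [IsNoetherianRing B]

omit [IsNoetherianRing A] [IsNoetherianRing B] in
lemma isGE_E (K : Dual.D A) (a : ℤ) [K.IsGE a] : ((E A B).obj K).IsGE a := by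
  rw [isGE_iff]
  intro i hi
  have h1 := isZero_of_isGE K a i hi
  exact ((ModuleCat.extendScalars.{u, u, u} (algebraMap A B)).map_isZero h1).of_iso
    (homologyEIso K i)

/-- **Criterion**: if every maximal ideal of `B` is extended from `A`, the flat base change of a
dualizing complex is dualizing. -/
theorem isDualizing_E_of_maximal_extended
    (hext : ∀ n : Ideal B, n.IsMaximal → ∃ I : Ideal A, n = I.map (algebraMap A B))
    (ω : Dual.D A) (hω : Dual.IsDualizing A ω) : Dual.IsDualizing B ((E A B).obj ω) := by
  obtain ⟨a₀, b₀, ha₀, -, -⟩ := exists_bounds_of_isDualizing ω hω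
  haveI := ha₀
  haveI : ((E A B).obj ω).IsGE a₀ := isGE_E ω a₀
  obtain ⟨a, b, hab⟩ := hω.finite_injective_dimension
  have hfin : ∀ i : ℤ, Module.Finite B (Dual.HD B ((E A B).obj ω) i) := fun i => by
    haveI := hω.finite_cohomology i
    exact finite_HD_E ω i
  refine isDualizing_E_of_cyclic ω hω a₀ b (fun J i hi => ?_)
  rcases hi with hi | hi
  · haveI : (((E A B).obj ω)⟦i⟧).IsGE (a₀ - i) :=
      TStructure.t.isGE_shift _ a₀ i (a₀ - i) (by ring)
    exact ⟨fun f g => (DerivedCategory.TStructure.t.zero_of_isLE_of_isGE f 0 (a₀ - i) (by omega)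
      inferInstance inferInstance).trans (DerivedCategory.TStructure.t.zero_of_isLE_of_isGE g 0
      (a₀ - i) (by omega) inferInstance inferInstance).symm⟩
  · refine subsingleton_ext_of_maximal ((E A B).obj ω) a₀ hfin b (fun n hn j hj => ?_)
      (B ⧸ J) i hi
    obtain ⟨I, rfl⟩ := hext n hn
    exact subsingleton_quot_E ω a₀ I j (hab (A ⧸ I) j (Or.inr hj))

end ext

section apps

variable {A : Type u} [CommRing A] [IsNoetherianRing A] {B : Type u} [CommRing B] [Algebra A B]
  [Module.Flat A B] [IsNoetherianRing B]

theorem S1777 [IsLocalRing A] [IsLocalRing B] [IsLocalHom (algebraMap A B)]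
    (hm : (IsLocalRing.maximalIdeal A).map (algebraMap A B) = IsLocalRing.maximalIdeal B)
    [DRing.HasLBaseChange (algebraMap A B)] (ω : Dual.D A) (hω : Dual.IsDualizing A ω)
    (hn : Dual.IsNormalized A ω) :
    Dual.IsDualizing B ((DRing.LBaseChange (algebraMap A B)).obj ω) ∧
      Dual.IsNormalized B ((DRing.LBaseChange (algebraMap A B)).obj ω) := by
  have h1 : Dual.IsDualizing B ((E A B).obj ω) := by
    refine isDualizing_E_of_maximal_extended (fun n hn' => ?_) ω hω
    exact ⟨IsLocalRing.maximalIdeal A, by rw [hm, IsLocalRing.eq_maximalIdeal hn']⟩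
  refine ⟨isDualizing_of_iso (LBCIso ω).symm h1, ?_⟩
  intro i hi
  obtain ⟨a₀, b₀, ha₀, -, -⟩ := exists_bounds_of_isDualizing ω hω
  haveI := ha₀
  haveI := hn i hi
  have h2 := subsingleton_quot_E (B := B) ω a₀ (IsLocalRing.maximalIdeal A) i
    (inferInstanceAs (Subsingleton (Dual.inD A (IsLocalRing.ResidueField A) ⟶ ω⟦i⟧)))
  rw [hm] at h2
  haveI : Subsingleton (Dual.inD B (IsLocalRing.ResidueField B) ⟶ ((E A B).obj ω)⟦i⟧) := h2
  exact ((Iso.refl _).homCongr ((shiftFunctor (Dual.D B) i).mapIso (LBCIso ω))).subsingleton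

theorem S1778 (I : Ideal A)
    (hs : Function.Surjective ((Ideal.Quotient.mk (I.map (algebraMap A B))).comp (algebraMap A B)))
    (hk : RingHom.ker ((Ideal.Quotient.mk (I.map (algebraMap A B))).comp (algebraMap A B)) = I)
    (hJ : I.map (algebraMap A B) ≤ (⊥ : Ideal B).jacobson)
    [DRing.HasLBaseChange (algebraMap A B)] (ω : Dual.D A) (hω : Dual.IsDualizing A ω) :
    Dual.IsDualizing B ((DRing.LBaseChange (algebraMap A B)).obj ω) := by
  refine isDualizing_of_iso (LBCIso ω).symm
    (isDualizing_E_of_maximal_extended (fun n hn => ?_) ω hω)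
  have hIn : I.map (algebraMap A B) ≤ n := by
    refine le_trans hJ ?_
    rw [Ideal.jacobson_bot]
    haveI := hn
    exact Ring.jacobson_le_of_isMaximal n
  refine ⟨n.comap (algebraMap A B), le_antisymm ?_ Ideal.map_comap_le⟩
  intro b hb
  obtain ⟨a, ha⟩ := hs (Ideal.Quotient.mk _ b)
  have h1 : algebraMap A B a - b ∈ I.map (algebraMap A B) := by
    rw [← Ideal.Quotient.eq]
    exact ha
  have h2 : algebraMap A B a ∈ n := by
    have : algebraMap A B a = (algebraMap A B a - b) + b := by ring
    rw [this]
    exact n.add_mem (hIn h1) hb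
  have h3 : I ≤ n.comap (algebraMap A B) := Ideal.map_le_iff_le_comap.1 hIn
  have h4 : b = algebraMap A B a - (algebraMap A B a - b) := by ring
  rw [h4]
  exact Ideal.sub_mem _ (Ideal.mem_map_of_mem _ h2) (Ideal.map_mono h3 h1)

end apps

end Groth.Agent.H4.FB7
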