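import Mathlib
import Groth.Agent.H4.US17
import Groth.Agent.H4.CharSeq
import Groth.Agent.H4.FB7

set_option autoImplicit false
universe u
open CategoryTheory Category Limits Pretriangulated

namespace Groth.Agent.H4.US20

attribute [local instance] HasDerivedCategory.standard
attribute [local instance] Groth.Agent.H4.LK4.hasLTen Groth.Agent.H4.LK5.hasLTen₃
  Groth.Agent.H4.KI7.isSymMonoidal Groth.Agent.H4.KI6.hasRHom

open DRing DTen DerivedCategory Groth.Agent.H4.DThick Groth.Agent.H4.DCompl1 Groth.Agent.H4.CF1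
  Groth.Agent.H4.InjAmp Groth.Agent.H4.DZ1 Groth.Agent.H4.DZ2 Groth.Agent.H4.DZ3 Groth.Agent.H4.DZ4
  Groth.Agent.H4.DZ5 Groth.Agent.H4.DZ6 Groth.Agent.H4.ProjAmp
  Groth.Agent.H4.FB1 Groth.Agent.H4.FB2 Groth.Agent.H4.FB3

open scoped Pointwise TensorProduct Polynomial

section general

variable {A : Type u} [CommRing A] {B : Type u} [CommRing B] [Algebra A B] [Module.Flat A B]

/-- the adjunction `E ⊣ Res`, shifted. -/
lemma subsingleton_adj_iff (M : Dual.D A) (Y : Dual.D B) (i : ℤ) :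
    Subsingleton ((E A B).obj M ⟶ Y⟦i⟧) ↔ Subsingleton (M ⟶ ((Res A B).obj Y)⟦i⟧) := by
  have e1 := (adjE A B).homEquiv M (Y⟦i⟧)
  have e2 : (M ⟶ (Res A B).obj (Y⟦i⟧)) ≃ (M ⟶ ((Res A B).obj Y)⟦i⟧) :=
    (Iso.refl M).homCongr (((Res A B).commShiftIso i).app Y)
  exact (e1.trans e2).subsingleton_congr

/-- the third term of a short exact sequence. -/
lemma subsingleton_hom_of_exact₃ (Y : Dual.D A) (N₁ N₂ N₃ : Type u) [AddCommGroup N₁] [Module A N₁]
    [AddCommGroup N₂] [Module A N₂] [AddCommGroup N₃] [Module A N₃]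
    (f : N₁ →ₗ[A] N₂) (g : N₂ →ₗ[A] N₃) (hf : Function.Injective f) (hg : Function.Surjective g)
    (hfg : Function.Exact f g) (h1 : Subsingleton (Dual.inD A N₁ ⟶ Y))
    (h2 : Subsingleton (Dual.inD A N₂ ⟶ Y⟦(1 : ℤ)⟧)) :
    Subsingleton (Dual.inD A N₃ ⟶ Y⟦(1 : ℤ)⟧) := by
  let S : ShortComplex (ModuleCat.{u} A) :=
    ShortComplex.mk (ModuleCat.ofHom f) (ModuleCat.ofHom g) (by
      ext x
      exact hfg.apply_apply_eq_zero x)
  have hS : S.ShortExact := ModuleCat.shortComplex_shortExact S hfg hf hg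
  have hT := hS.singleTriangle_distinguished
  have h1' : Subsingleton ((Dual.inD A N₁)⟦(1 : ℤ)⟧ ⟶ Y⟦(1 : ℤ)⟧) :=
    (Groth.Agent.H4.US13.shiftShiftHomLinEquiv (Dual.inD A N₁) Y 1).toEquiv.subsingleton
  refine ⟨fun a b => ?_⟩
  have key : ∀ a : Dual.inD A N₃ ⟶ Y⟦(1 : ℤ)⟧, a = 0 := by
    intro a
    have ha : (singleFunctor (ModuleCat.{u} A) 0).map S.g ≫ a = 0 :=
      @Subsingleton.elim _ h2 _ _
    obtain ⟨c, hc⟩ := Triangle.yoneda_exact₃ _ hT a ha
    have hc0 : c = 0 := @Subsingleton.elim _ h1' _ _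
    rw [hc, hc0]
    exact comp_zero
  rw [key a, key b]

end general

section poly

variable {A : Type u} [CommRing A] [IsNoetherianRing A]

instance : Module.Flat A A[X] := inferInstance

/-- the key vanishing: `Ext^i_{A[X]}(M ⊗ A[X], ω ⊗ A[X]) = 0` for all `A`-modules `M`. -/
theorem subsingleton_ext_extended {B : Type u} [CommRing B] [Algebra A B] [Module.Flat A B]
    (ω : Dual.D A) (a₀ : ℤ) [ω.IsGE a₀] (a b : ℤ) (hab : a ≤ b + 1)
    (hω : ∀ (I : Ideal A) (i : ℤ), (i < a ∨ b < i) → Subsingleton (Dual.inD A (A ⧸ I) ⟶ ω⟦i⟧))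
    (M : ModuleCat.{u} A) (i : ℤ) (hi : i < a ∨ b < i) :
    Subsingleton ((singleFunctor (ModuleCat.{u} B) 0).obj
      ((ModuleCat.extendScalars.{u, u, u} (algebraMap A B)).obj M) ⟶ ((E A B).obj ω)⟦i⟧) := by
  have hP : Groth.Agent.H4.InjAmp.P a b ((Res A B).obj ((E A B).obj ω)) := by
    intro I j hj
    rw [subsingleton_sgl_iff, ← subsingleton_adj_iff]
    haveI := hω I j hj
    haveI : (ω⟦j⟧).IsGE (a₀ - j) := TStructure.t.isGE_shift ω a₀ j (a₀ - j) (by ring)
    have h1 := subsingleton_hom_E (B := B) (ω⟦j⟧) (a₀ - j) (Dual.inD A (A ⧸ I))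
      (isPC'_inD (A ⧸ I)) inferInstance
    exact ((Iso.refl _).homCongr (EShiftIso ω j)).symm.subsingleton
  obtain ⟨E', hE', hinj, ⟨ε⟩⟩ := Groth.Agent.H4.InjAmp.exists_injective_rep
    ((b - a).toNat + 1) a b _ (by
      have := Int.self_le_toNat (b - a)
      push_cast
      omega) hP
  have h2 := ext_subsingleton_of_rep E' a b hE' hinj _ ε M i hi
  rw [← subsingleton_adj_iff] at h2
  exact ((ESingleIso M 0).homCongr (Iso.refl _)).symm.subsingleton

open Groth.Agent.H4.CharSeq in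
/-- over `A[X]`, every module has a two term resolution by extended modules. -/
theorem subsingleton_ext_poly (ω : Dual.D A) (a₀ : ℤ) [ω.IsGE a₀] (a b : ℤ) (hab : a ≤ b + 1)
    (hω : ∀ (I : Ideal A) (i : ℤ), (i < a ∨ b < i) → Subsingleton (Dual.inD A (A ⧸ I) ⟶ ω⟦i⟧))
    (N : Type u) [AddCommGroup N] [Module A[X] N] (i : ℤ) (hi : b + 1 < i) :
    Subsingleton (Dual.inD A[X] N ⟶ ((E A A[X]).obj ω)⟦i⟧) := by
  letI : Module A N := Module.compHom N (algebraMap A A[X])
  haveI : IsScalarTower A A[X] N := IsScalarTower.of_algebraMap_smul (fun a n => rfl)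
  let M₀ : ModuleCat.{u} A := ModuleCat.of A N
  have e : ((ModuleCat.extendScalars.{u, u, u} (algebraMap A A[X])).obj M₀) ≃ₗ[A[X]]
      (A[X] ⊗[A] N) := Groth.Agent.H8.ExtBridge.extEquiv (A := A) (B := A[X]) M₀
  have hT : ∀ j : ℤ, b < j →
      Subsingleton (Dual.inD A[X] (A[X] ⊗[A] N) ⟶ ((E A A[X]).obj ω)⟦j⟧) := by
    intro j hj
    have h1 := subsingleton_ext_extended (B := A[X]) ω a₀ a b hab hω M₀ j (Or.inr hj)
    exact subsingleton_hom_of_linearEquiv _ e.symm h1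
  have h1 := hT (i - 1) (by omega)
  have h2 : Subsingleton (Dual.inD A[X] (A[X] ⊗[A] N) ⟶
      (((E A A[X]).obj ω)⟦i - 1⟧)⟦(1 : ℤ)⟧) := by
    haveI := hT i (by omega)
    exact (Groth.Agent.H4.US13.homShiftShiftLinEquiv (Dual.inD A[X] (A[X] ⊗[A] N))
      ((E A A[X]).obj ω) (i - 1) 1 i (by ring)).toEquiv.subsingleton
  have h3 := subsingleton_hom_of_exact₃ (((E A A[X]).obj ω)⟦i - 1⟧) (A[X] ⊗[A] N) (A[X] ⊗[A] N) N
    (psi A N) (mu A N) (psi_injective A N) (mu_surjective A N) (exact_psi_mu A N) h1 h2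
  exact (Groth.Agent.H4.US13.homShiftShiftLinEquiv (Dual.inD A[X] N)
      ((E A A[X]).obj ω) (i - 1) 1 i (by ring)).symm.toEquiv.subsingleton

/-- the base change of a dualizing complex to the polynomial ring is dualizing. -/
theorem isDualizing_E_polynomial (ω : Dual.D A) (hω : Dual.IsDualizing A ω) :
    Dual.IsDualizing A[X] ((E A A[X]).obj ω) := by
  obtain ⟨a₀, b₀, ha₀, -, -⟩ := exists_bounds_of_isDualizing ω hω
  haveI := ha₀
  haveI : ((E A A[X]).obj ω).IsGE a₀ := Groth.Agent.H4.FB7.isGE_E ω a₀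
  obtain ⟨a, b, hab⟩ := hω.finite_injective_dimension
  refine isDualizing_E_of_cyclic ω hω a₀ (max b (a - 1) + 1) (fun J i hi => ?_)
  rcases hi with hi | hi
  · haveI : (((E A A[X]).obj ω)⟦i⟧).IsGE (a₀ - i) :=
      TStructure.t.isGE_shift _ a₀ i (a₀ - i) (by ring)
    exact ⟨fun f g => (DerivedCategory.TStructure.t.zero_of_isLE_of_isGE f 0 (a₀ - i) (by omega)
      inferInstance inferInstance).trans (DerivedCategory.TStructure.t.zero_of_isLE_of_isGE g 0
      (a₀ - i) (by omega) inferInstance inferInstance).symm⟩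
  · exact subsingleton_ext_poly ω a₀ a (max b (a - 1)) (by
      have := le_max_right b (a - 1)
      omega)
      (fun I j hj => hab (A ⧸ I) j (by
        rcases hj with hj | hj
        · exact Or.inl hj
        · exact Or.inr (lt_of_le_of_lt (le_max_left b (a - 1)) hj))) (A[X] ⧸ J) i hi

theorem S1776 [DRing.HasLBaseChange (algebraMap A A[X])] (ω : Dual.D A)
    (hω : Dual.IsDualizing A ω) :
    Dual.IsDualizing A[X] ((DRing.LBaseChange (algebraMap A A[X])).obj ω) :=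
  isDualizing_of_iso (LBCIso ω).symm (isDualizing_E_polynomial ω hω)

end poly

end Groth.Agent.H4.US20
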