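import Mathlib
import Groth.Agent.H4.US20
import Groth.Prelude.Def_DualSh

set_option autoImplicit false
universe u
open CategoryTheory Category Limits Pretriangulated

namespace Groth.Agent.H4.US21

attribute [local instance] HasDerivedCategory.standard
attribute [local instance] Groth.Agent.H4.LK4.hasLTen Groth.Agent.H4.LK5.hasLTen₃
  Groth.Agent.H4.KI7.isSymMonoidal Groth.Agent.H4.KI6.hasRHom

open DRing DTen DerivedCategory Groth.Agent.H4.DThick Groth.Agent.H4.DCompl1 Groth.Agent.H4.CF1
  Groth.Agent.H4.InjAmp Groth.Agent.H4.DZ1 Groth.Agent.H4.DZ2 Groth.Agent.H4.DZ3 Groth.Agent.H4.DZ4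
  Groth.Agent.H4.DZ5 Groth.Agent.H4.DZ6 Groth.Agent.H4.ProjAmp
  Groth.Agent.H4.FB1 Groth.Agent.H4.FB2 Groth.Agent.H4.FB3 Groth.Agent.H4.US20

open scoped Pointwise TensorProduct Polynomial

section tower

variable (A B C : Type u) [CommRing A] [CommRing B] [CommRing C] [Algebra A B] [Algebra B C]
  [Algebra A C] [IsScalarTower A B C] [Module.Flat A B] [Module.Flat B C] [Module.Flat A C]

/-- extension of scalars in a tower, on complexes. -/
noncomputable def extCTowerIso (X : Cx A) :
    (extC A C).obj X ≅ (extC B C).obj ((extC A B).obj X) :=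
  let α : ModuleCat.extendScalars.{u, u, u} (algebraMap A C) ≅
      ModuleCat.extendScalars.{u, u, u} (algebraMap A B) ⋙
        ModuleCat.extendScalars.{u, u, u} (algebraMap B C) :=
    eqToIso (by rw [IsScalarTower.algebraMap_eq A B C]) ≪≫
      ModuleCat.extendScalarsComp (algebraMap A B) (algebraMap B C)
  HomologicalComplex.Hom.isoOfComponents (fun i => α.app (X.X i)) (fun i j _ => by
    dsimp
    exact (α.hom.naturality (X.d i j)).symm)

/-- extension of scalars in a tower. -/
noncomputable def ETowerIso (K : Dual.D A) :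
    (E A C).obj K ≅ (E B C).obj ((E A B).obj K) :=
  (E A C).mapIso (Q.objObjPreimageIso K).symm ≪≫ (eIso (Q.objPreimage K)).symm ≪≫
    Q.mapIso (extCTowerIso A B C (Q.objPreimage K)) ≪≫
    eIso ((extC A B).obj (Q.objPreimage K)) ≪≫ (E B C).mapIso (eIso (Q.objPreimage K)) ≪≫
    (E B C).mapIso ((E A B).mapIso (Q.objObjPreimageIso K))

end tower

section iso

variable {B C : Type u} [CommRing B] [CommRing C] [Algebra B C] [IsNoetherianRing B]

/-- base change along a ring isomorphism preserves dualizing complexes. -/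
theorem isDualizing_E_of_bijective (h : Function.Bijective (algebraMap B C))
    [Module.Flat B C] [IsNoetherianRing C] (η : Dual.D B) (hη : Dual.IsDualizing B η) :
    Dual.IsDualizing C ((E B C).obj η) := by
  refine Groth.Agent.H4.FB7.isDualizing_E_of_maximal_extended (fun n _ => ?_) η hη
  exact ⟨n.comap (algebraMap B C), (Ideal.map_comap_of_surjective _ h.2 n).symm⟩

lemma flat_of_bijective (h : Function.Bijective (algebraMap B C)) : Module.Flat B C := by
  let e : B ≃ₗ[B] C := LinearEquiv.ofBijective (Algebra.linearMap B C) h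
  exact Module.Flat.of_linearEquiv e.symm

omit [IsNoetherianRing B] in
lemma isNoetherianRing_of_bijective [IsNoetherianRing B] (h : Function.Bijective (algebraMap B C)) :
    IsNoetherianRing C :=
  isNoetherianRing_of_surjective B C (algebraMap B C) h.2

end iso

section mv

variable (R : Type u) [CommRing R] [IsNoetherianRing R]

/-- the base change of a dualizing complex to a polynomial ring in `n` variables is dualizing. -/
theorem isDualizing_E_mvPolynomial (n : ℕ) (ω : Dual.D R) (hω : Dual.IsDualizing R ω) :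
    Dual.IsDualizing (MvPolynomial (Fin n) R) ((E R (MvPolynomial (Fin n) R)).obj ω) := by
  induction n with
  | zero =>
    have hbij : Function.Bijective (algebraMap R (MvPolynomial (Fin 0) R)) :=
      ⟨MvPolynomial.C_injective _ _, MvPolynomial.C_surjective _⟩
    exact isDualizing_E_of_bijective hbij ω hω
  | succ n ih =>
    let φ : (MvPolynomial (Fin n) R)[X] →+* MvPolynomial (Fin (n + 1)) R :=
      (MvPolynomial.finSuccEquiv R n).symm.toRingEquiv.toRingHom
    letI : Algebra (MvPolynomial (Fin n) R)[X] (MvPolynomial (Fin (n + 1)) R) := φ.toAlgebra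
    haveI : IsScalarTower R (MvPolynomial (Fin n) R)[X] (MvPolynomial (Fin (n + 1)) R) :=
      IsScalarTower.of_algebraMap_eq (fun r => ((MvPolynomial.finSuccEquiv R n).symm.commutes r).symm)
    have hbij : Function.Bijective
        (algebraMap (MvPolynomial (Fin n) R)[X] (MvPolynomial (Fin (n + 1)) R)) :=
      (MvPolynomial.finSuccEquiv R n).symm.bijective
    haveI : Module.Flat (MvPolynomial (Fin n) R)[X] (MvPolynomial (Fin (n + 1)) R) :=
      flat_of_bijective hbij
    haveI : Module.Flat R (MvPolynomial (Fin n) R)[X] :=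
      Module.Flat.trans R (MvPolynomial (Fin n) R) (MvPolynomial (Fin n) R)[X]
    have h2 := isDualizing_E_polynomial _ ih
    have h3 : Dual.IsDualizing (MvPolynomial (Fin n) R)[X]
        ((E R (MvPolynomial (Fin n) R)[X]).obj ω) :=
      isDualizing_of_iso (ETowerIso R (MvPolynomial (Fin n) R) (MvPolynomial (Fin n) R)[X] ω).symm h2
    have h4 := isDualizing_E_of_bijective hbij _ h3
    exact isDualizing_of_iso
      (ETowerIso R (MvPolynomial (Fin n) R)[X] (MvPolynomial (Fin (n + 1)) R) ω).symm h4

end mv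

section shriek

open Groth.Agent.H4.US1

variable {A : Type u} [CommRing A] {B : Type u} [CommRing B] [Algebra A B]
  (R : Dual.D A ⥤ Dual.D B) (adj : Res A B ⊣ R)

include adj in
/-- the right adjoint of restriction of scalars is left t-exact. -/
lemma isGE_R (K : Dual.D A) (a : ℤ) [K.IsGE a] : (R.obj K).IsGE a := by
  rw [isGE_iff]
  intro i hi
  rw [← subsingleton_homG_iff]
  have h1 : Subsingleton ((Res A B).obj (G B i) ⟶ K) := by
    haveI : ((Dual.inD A B)⟦-i⟧).IsLE i := TStructure.t.isLE_shift (Dual.inD A B) 0 (-i) i (by simp)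
    haveI : ((Res A B).obj (G B i)).IsLE i := TStructure.t.isLE_of_iso (resGIso A B i).symm i
    exact ⟨fun f g => (TStructure.t.zero_of_isLE_of_isGE f i a hi inferInstance inferInstance).trans
      (TStructure.t.zero_of_isLE_of_isGE g i a hi inferInstance inferInstance).symm⟩
  exact (homAddEquiv R adj (G B i) K).toEquiv.subsingleton

end shriek

section S1782

variable (R A : Type u) [CommRing R] [CommRing A] [IsNoetherianRing R] [IsNoetherianRing A]
  [Algebra R A] (n : ℕ) (ψ : MvPolynomial (Fin n) R →ₐ[R] A) (hψ : Function.Surjective ψ)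
  [DRing.HasLBaseChange (algebraMap R (MvPolynomial (Fin n) R))]
  (Rψ : Dual.D (MvPolynomial (Fin n) R) ⥤ Dual.D A) (adj : DRing.restrictD ψ.toRingHom ⊣ Rψ)

include hψ adj in
theorem S1782 (ω : Dual.D R) (hω : Dual.IsDualizing R ω) :
    Dual.IsDualizing A (Dual2.shriekVia n Rψ ω) := by
  letI : Algebra (MvPolynomial (Fin n) R) A := ψ.toRingHom.toAlgebra
  haveI : Module.Finite (MvPolynomial (Fin n) R) A :=
    Module.Finite.of_surjective (Algebra.linearMap (MvPolynomial (Fin n) R) A) hψ
  have h1 : Dual.IsDualizing (MvPolynomial (Fin n) R)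
      ((DRing.LBaseChange (algebraMap R (MvPolynomial (Fin n) R))).obj ω) :=
    isDualizing_of_iso (LBCIso ω).symm (isDualizing_E_mvPolynomial R n ω hω)
  have h2 := Groth.Agent.H4.US4.S1772 Rψ adj _ h1
  exact Groth.Agent.H4.US13.isDualizing_shift _ h2 n

include hψ adj in
theorem S1783 (K : Dual.D R) (a : ℤ) (hKa : ∀ i : ℤ, i < a → Subsingleton (Dual.HD R K i)) :
    (∃ b : ℤ, ∀ i : ℤ, i < b → Subsingleton (Dual.HD A (Dual2.shriekVia n Rψ K) i)) ∧
      ((∀ i : ℤ, Module.Finite R (Dual.HD R K i)) →
        ∀ i : ℤ, Module.Finite A (Dual.HD A (Dual2.shriekVia n Rψ K) i)) := by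
  letI : Algebra (MvPolynomial (Fin n) R) A := ψ.toRingHom.toAlgebra
  haveI : Module.Finite (MvPolynomial (Fin n) R) A :=
    Module.Finite.of_surjective (Algebra.linearMap (MvPolynomial (Fin n) R) A) hψ
  haveI : K.IsGE a := by
    rw [isGE_iff]
    intro j hj
    haveI := hKa j hj
    exact ModuleCat.isZero_of_subsingleton _
  haveI : ((E R (MvPolynomial (Fin n) R)).obj K).IsGE a := Groth.Agent.H4.FB7.isGE_E K a
  haveI hLge : ((DRing.LBaseChange (algebraMap R (MvPolynomial (Fin n) R))).obj K).IsGE a :=
    TStructure.t.isGE_of_iso (LBCIso K).symm a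
  haveI hRge : (Rψ.obj ((DRing.LBaseChange (algebraMap R (MvPolynomial (Fin n) R))).obj K)).IsGE a :=
    isGE_R Rψ adj _ a
  constructor
  · refine ⟨a - n, fun i hi => ?_⟩
    haveI : (Dual2.shriekVia n Rψ K).IsGE (a - n) :=
      TStructure.t.isGE_shift _ a n (a - n) (by ring)
    exact ModuleCat.subsingleton_of_isZero (isZero_of_isGE _ (a - n) i hi)
  · intro hK
    have hK' : ∀ i : ℤ, Module.Finite (MvPolynomial (Fin n) R) (Dual.HD (MvPolynomial (Fin n) R)
        ((DRing.LBaseChange (algebraMap R (MvPolynomial (Fin n) R))).obj K) i) := by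
      intro i
      haveI := hK i
      haveI := finite_HD_E (B := MvPolynomial (Fin n) R) K i
      exact Module.Finite.equiv
        ((homologyFunctor (ModuleCat.{u} (MvPolynomial (Fin n) R)) i).mapIso
          (LBCIso K).symm).toLinearEquiv
    have hKa' : ∀ i : ℤ, i < a → Subsingleton (Dual.HD (MvPolynomial (Fin n) R)
        ((DRing.LBaseChange (algebraMap R (MvPolynomial (Fin n) R))).obj K) i) :=
      fun i hi => ModuleCat.subsingleton_of_isZero (isZero_of_isGE _ a i hi)
    have h1 := Groth.Agent.H4.US1.S1774 Rψ adj _ a hKa' hK'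
    exact Groth.Agent.H4.DZ1.finite_HD_shift _ h1 n

end S1782

end Groth.Agent.H4.US21
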