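import Mathlib
import Groth.Agent.H4.KD1
import Groth.Agent.H4.RD
import Groth.Agent.H4.PolyEv
import Groth.Agent.H4.US21

set_option autoImplicit false
universe u
open CategoryTheory Category Limits Pretriangulated

namespace Groth.Agent.H4.KD2

attribute [local instance] HasDerivedCategory.standard

open DRing DerivedCategory Groth.Agent.H4.FB2 Groth.Agent.H4.PolyEv Groth.Agent.H4.RD
  Groth.Agent.H4.KD1 Groth.Agent.H4.LDer
open Polynomial

section ev0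

variable (P : Type u) [CommRing P]

/-- **Koszul duality, one variable, evaluation at zero**: `RHom_{P[X]}(P, N[X])[1] ≅ N`. -/
theorem kl_ev0 (Rσ : Dual.D P[X] ⥤ Dual.D P) (adj : restrictD (ev P) ⊣ Rσ) (N : Dual.D P) :
    Nonempty ((Rσ.obj ((E P P[X]).obj N))⟦(1 : ℤ)⟧ ≅ N) := by
  letI : Algebra P[X] P := (ev P).toAlgebra
  let Y := (Q : DRing.Cx P ⥤ Dual.D P).objPreimage N
  let eN : Q.obj Y ≅ N := Q.objObjPreimageIso N
  let ω : Dual.D P[X] := Q.obj (EE P Y)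
  let eω : ω ≅ (E P P[X]).obj N := eIso Y ≪≫ (E P P[X]).mapIso eN
  -- triangle 1
  have hS := shortExact_cx P Y
  have hT₁ := triangleOfSES_distinguished hS
  -- triangle 2
  have hX : (X : P[X]) ∈ nonZeroDivisors P[X] := by
    exact Polynomial.Monic.mem_nonZeroDivisors Polynomial.monic_X
  have hker : ∀ x : P[X], algebraMap P[X] P x = 0 ↔ ∃ a, (X : P[X]) * a = x := by
    intro x
    change Polynomial.eval 0 x = 0 ↔ _
    rw [← Polynomial.coeff_zero_eq_eval_zero, ← Polynomial.X_dvd_iff]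
    constructor
    · rintro ⟨a, rfl⟩; exact ⟨a, rfl⟩
    · rintro ⟨a, rfl⟩; exact ⟨a, rfl⟩
  have hsurj : Function.Surjective (algebraMap P[X] P) := fun p => ⟨C p, by
    change Polynomial.eval 0 (C p) = p
    simp⟩
  obtain ⟨u, w, hT₂⟩ := exists_triangle_R (A := P[X]) (B := P) (X : P[X]) Rσ adj hX hker hsurj ω
  have hT₂' := rot_of_distTriang _ hT₂
  have hmu : Q.map (muC P Y) = (X : P[X]) • 𝟙 ω := by
    rw [muC, Functor.map_smul, CategoryTheory.Functor.map_id]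
  obtain ⟨e', -, -⟩ := exists_iso_of_arrow_iso (triangleOfSES hS)
    (Triangle.mk u ((X : P[X]) • 𝟙 ω) w).rotate hT₁ hT₂'
    (Arrow.isoMk (Iso.refl _) (Iso.refl _) (by
      change 𝟙 ω ≫ ((X : P[X]) • 𝟙 ω) = Q.map (muC P Y) ≫ 𝟙 ω
      rw [id_comp, comp_id]
      exact hmu.symm))
  let e₃ : Q.obj ((GC (ModuleCat.restrictScalars.{u} (ev P))).obj Y) ≅
      ((restrictD (ev P)).obj (Rσ.obj ω))⟦(1 : ℤ)⟧ := Triangle.π₃.mapIso e'
  let e₄ : (restrictD (ev P)).obj N ≅ ((restrictD (ev P)).obj (Rσ.obj ω))⟦(1 : ℤ)⟧ :=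
    (restrictD (ev P)).mapIso eN.symm ≪≫
      ((ModuleCat.restrictScalars.{u} (ev P)).mapDerivedCategoryFactors).app Y ≪≫ e₃
  let ι : P →+* P[X] := Cm P
  have hret : (ev P).comp ι = RingHom.id P := ev_comp_Cm P
  let r := restrictDRetractIso ι (ev P) hret
  let e₅ : N ≅ (Rσ.obj ω)⟦(1 : ℤ)⟧ :=
    (r.app N).symm ≪≫ (restrictD ι).mapIso e₄ ≪≫
      ((restrictD ι).commShiftIso (1 : ℤ)).app _ ≪≫ (shiftFunctor _ (1 : ℤ)).mapIso (r.app _)
  exact ⟨(shiftFunctor _ (1 : ℤ)).mapIso (Rσ.mapIso eω.symm) ≪≫ e₅.symm⟩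

end ev0

end Groth.Agent.H4.KD2
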