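import Mathlib
import Groth.Agent.H4.KD2
import Groth.Agent.H4.RAdj

set_option autoImplicit false
universe u
open CategoryTheory Category Limits Pretriangulated

namespace Groth.Agent.H4.KD3

attribute [local instance] HasDerivedCategory.standard

open DRing DerivedCategory Groth.Agent.H4.FB2 Groth.Agent.H4.RD Groth.Agent.H4.US21
open Polynomial

section shift

variable {A B : Type u} [CommRing A] [CommRing B] (φ : A →+* B)
  (R : Dual.D A ⥤ Dual.D B) (adj : restrictD φ ⊣ R)

/-- a right adjoint of restriction of scalars commutes with shifts. -/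
noncomputable def RShiftIso (a : ℤ) :
    shiftFunctor (Dual.D A) a ⋙ R ≅ R ⋙ shiftFunctor (Dual.D B) a :=
  let adj₁ : restrictD φ ⋙ shiftFunctor (Dual.D A) (-a) ⊣ shiftFunctor (Dual.D A) a ⋙ R :=
    adj.comp (shiftEquiv' (Dual.D A) (-a) a (by simp)).toAdjunction
  let adj₂ : shiftFunctor (Dual.D B) (-a) ⋙ restrictD φ ⊣ R ⋙ shiftFunctor (Dual.D B) a :=
    (shiftEquiv' (Dual.D B) (-a) a (by simp)).toAdjunction.comp adj
  ((adj₂.ofNatIsoLeft ((restrictD φ).commShiftIso (-a))).rightAdjointUniq adj₁).symm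

end shift

section KL

/-- the Koszul duality property of a ring map `σ : T → P` out of a flat `P`-algebra `T`:
`RHom_T(P, N ⊗_P T)[m] ≅ N` for every `N` in `D(P)`. -/
def KL (P T : Type u) [CommRing P] [CommRing T] [Algebra P T] [Module.Flat P T] (σ : T →+* P)
    (m : ℤ) : Prop :=
  ∀ (Rσ : Dual.D T ⥤ Dual.D P) (_ : restrictD σ ⊣ Rσ) (N : Dual.D P),
    Nonempty ((Rσ.obj ((E P T).obj N))⟦m⟧ ≅ N)

lemma KL.congr {P T : Type u} [CommRing P] [CommRing T] [Algebra P T] [Module.Flat P T]
    {σ σ' : T →+* P} {m m' : ℤ} (h : KL P T σ m) (hσ : σ = σ') (hm : m = m') : KL P T σ' m' := by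
  subst hσ hm
  exact h

variable (P : Type u) [CommRing P]

theorem kl_ev0' : KL P P[X] (Groth.Agent.H4.PolyEv.ev P) 1 :=
  fun Rσ adj N => Groth.Agent.H4.KD2.kl_ev0 P Rσ adj N

/-- the identity. -/
theorem kl_id : KL P P (RingHom.id P) 0 := by
  intro R adj N
  have i1 : restrictD (RingHom.id P) ≅ 𝟭 (Dual.D P) := restrictDIdIso _ rfl
  have i2 : R ≅ 𝟭 (Dual.D P) := (adj.ofNatIsoLeft i1).rightAdjointUniq Adjunction.id
  have i3 : E P P ≅ 𝟭 (Dual.D P) :=
    ((adjE P P).ofNatIsoRight i1).leftAdjointUniq Adjunction.id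
  exact ⟨(shiftFunctorZero (Dual.D P) ℤ).app _ ≪≫ i2.app _ ≪≫ i3.app N⟩

end KL

section comp

variable (P T T' : Type u) [CommRing P] [CommRing T] [CommRing T'] [Algebra P T] [Algebra T T']
  [Algebra P T'] [IsScalarTower P T T'] [Module.Flat P T] [Module.Flat T T'] [Module.Flat P T']

/-- **composition.** -/
theorem KL.comp {σ : T →+* P} {σ' : T' →+* T} {m m' : ℤ} (h : KL P T σ m) (h' : KL T T' σ' m') :
    KL P T' (σ.comp σ') (m' + m) := by
  intro R'' adj'' N
  let R := Groth.Agent.H4.RAdj.R₀ σ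
  let adj : restrictD σ ⊣ R := Groth.Agent.H4.RAdj.adjR₀ σ
  let R' := Groth.Agent.H4.RAdj.R₀ σ'
  let adj' : restrictD σ' ⊣ R' := Groth.Agent.H4.RAdj.adjR₀ σ'
  have i1 : restrictD (σ.comp σ') ≅ restrictD σ ⋙ restrictD σ' := restrictDCompIso σ' σ _ rfl
  have i2 : R'' ≅ R' ⋙ R := (adj''.ofNatIsoLeft i1).rightAdjointUniq (adj.comp adj')
  obtain ⟨e1⟩ := h' R' adj' ((E P T).obj N)
  obtain ⟨e2⟩ := h R adj N
  -- `R (K⟦m'⟧) ≅ (R K)⟦m'⟧`
  let K := R'.obj ((E T T').obj ((E P T).obj N))
  have e3 : (R.obj K)⟦m'⟧ ≅ R.obj ((E P T).obj N) :=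
    ((RShiftIso σ R adj m').app K).symm ≪≫ R.mapIso e1
  have e4 : R''.obj ((E P T').obj N) ≅ R.obj K :=
    i2.app _ ≪≫ R.mapIso (R'.mapIso (ETowerIso P T T' N))
  exact ⟨(shiftFunctor _ (m' + m)).mapIso e4 ≪≫
    (shiftFunctorAdd (Dual.D P) m' m).app _ ≪≫ (shiftFunctor _ m).mapIso e3 ≪≫ e2⟩

end comp

section transport

variable (P T T' : Type u) [CommRing P] [CommRing T] [CommRing T'] [Algebra P T] [Algebra P T']
  [Module.Flat P T] [Module.Flat P T']

/-- **transport along an isomorphism of algebras.** -/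
theorem KL.transport (e : T' ≃ₐ[P] T) {σ : T →+* P} {m : ℤ} (h : KL P T σ m) :
    KL P T' (σ.comp e.toRingEquiv.toRingHom) m := by
  intro R' adj' N
  letI : Algebra T' T := e.toRingEquiv.toRingHom.toAlgebra
  haveI : IsScalarTower P T' T := IsScalarTower.of_algebraMap_eq (fun r => (e.commutes r).symm)
  have hbij : Function.Bijective (algebraMap T' T) := e.bijective
  haveI : Module.Flat T' T :=
    Module.Flat.of_linearEquiv (LinearEquiv.ofBijective (Algebra.linearMap T' T) hbij).symm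
  let Eq : Dual.D T ≌ Dual.D T' := restrictDEquivalence e.toRingEquiv
  have i1 : restrictD (σ.comp e.toRingEquiv.toRingHom) ≅ restrictD σ ⋙ Eq.functor :=
    restrictDCompIso e.toRingEquiv.toRingHom σ _ rfl
  let R := Eq.functor ⋙ R'
  have i2 : (restrictD σ ⋙ Eq.functor) ⋙ Eq.inverse ≅ restrictD σ :=
    Functor.associator _ _ _ ≪≫ Functor.isoWhiskerLeft _ Eq.unitIso.symm ≪≫ Functor.rightUnitor _
  have adjR : restrictD σ ⊣ R :=
    ((adj'.ofNatIsoLeft i1).comp Eq.symm.toAdjunction).ofNatIsoLeft i2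
  obtain ⟨e2⟩ := h R adjR N
  have i3 : E T' T ≅ Eq.inverse := (adjE T' T).leftAdjointUniq Eq.symm.toAdjunction
  have i4 : Eq.functor.obj ((E P T).obj N) ≅ (E P T').obj N :=
    Eq.functor.mapIso (ETowerIso P T' T N ≪≫ i3.app _) ≪≫ Eq.counitIso.app _
  exact ⟨(shiftFunctor _ m).mapIso (R'.mapIso i4.symm) ≪≫ e2⟩

end transport

section mv

/-- **Koszul duality for sections of polynomial algebras**: for any `P`-algebra map
`σ : P[x₁,…,xₘ] → P`, `RHom_{P[x]}(P, N[x])[m] ≅ N`. -/
theorem kl_mvPolynomial : ∀ (m : ℕ) (P : Type u) [CommRing P]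
    (σ : MvPolynomial (Fin m) P →ₐ[P] P), KL P (MvPolynomial (Fin m) P) σ.toRingHom m := by
  intro m
  induction m with
  | zero =>
    intro P _ σ
    let e : MvPolynomial (Fin 0) P ≃ₐ[P] P := MvPolynomial.isEmptyAlgEquiv P (Fin 0)
    refine ((kl_id P).transport P P (MvPolynomial (Fin 0) P) e).congr ?_ (by simp)
    refine MvPolynomial.ringHom_ext (fun r => ?_) (fun i => Fin.elim0 i)
    change e (MvPolynomial.C r) = σ (MvPolynomial.C r)
    rw [← MvPolynomial.algebraMap_eq, AlgEquiv.commutes, AlgHom.commutes]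
  | succ m ih =>
    intro P _ σ
    let T := MvPolynomial (Fin m) P
    let e : MvPolynomial (Fin (m + 1)) P ≃ₐ[P] T[X] := MvPolynomial.finSuccEquiv P m
    let s : T := MvPolynomial.C (σ (MvPolynomial.X 0))
    let σ'' : T →ₐ[P] P := σ.comp (MvPolynomial.rename Fin.succ)
    have h1 : KL P T σ''.toRingHom m := ih P σ''
    let es : T[X] ≃ₐ[T] T[X] := Polynomial.algEquivAevalXAddC s
    have h2 : KL T T[X] ((Groth.Agent.H4.PolyEv.ev T).comp es.toRingEquiv.toRingHom) 1 :=
      (kl_ev0' T).transport T T[X] T[X] es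
    haveI : Module.Flat P T[X] := Module.Flat.trans P T T[X]
    have h3 := KL.comp P T T[X] h1 h2
    have h4 := h3.transport P T[X] (MvPolynomial (Fin (m + 1)) P) e
    refine h4.congr ?_ (by push_cast; ring)
    have hσC : ∀ r : P, σ (MvPolynomial.C r) = r := fun r => by
      rw [← MvPolynomial.algebraMap_eq, AlgHom.commutes]
      rfl
    refine MvPolynomial.ringHom_ext (fun r => ?_) (fun i => ?_)
    · change σ'' (Polynomial.eval 0 (es (e (MvPolynomial.C r)))) = σ (MvPolynomial.C r)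
      have he : e (MvPolynomial.C r) = Polynomial.C (MvPolynomial.C r) := by
        rw [← MvPolynomial.algebraMap_eq, AlgEquiv.commutes]
        rfl
      rw [he]
      have h5 : es (Polynomial.C (MvPolynomial.C r)) = Polynomial.C (MvPolynomial.C r) := by
        simp [es]
      rw [h5, Polynomial.eval_C]
      change σ (MvPolynomial.rename Fin.succ (MvPolynomial.C r)) = _
      rw [MvPolynomial.rename_C]
    · refine Fin.cases ?_ (fun j => ?_) i
      · change σ'' (Polynomial.eval 0 (es (e (MvPolynomial.X 0)))) = σ (MvPolynomial.X 0)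
        have he : e (MvPolynomial.X 0) = Polynomial.X := MvPolynomial.finSuccEquiv_X_zero
        rw [he]
        have h5 : es Polynomial.X = Polynomial.X + Polynomial.C s := by simp [es]
        rw [h5, Polynomial.eval_add, Polynomial.eval_X, Polynomial.eval_C, zero_add]
        change σ (MvPolynomial.rename Fin.succ (MvPolynomial.C (σ (MvPolynomial.X 0)))) = _
        rw [MvPolynomial.rename_C, hσC]
      · change σ'' (Polynomial.eval 0 (es (e (MvPolynomial.X j.succ)))) =
          σ (MvPolynomial.X j.succ)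
        have he : e (MvPolynomial.X j.succ) = Polynomial.C (MvPolynomial.X j) :=
          MvPolynomial.finSuccEquiv_X_succ
        rw [he]
        have h5 : es (Polynomial.C (MvPolynomial.X j)) = Polynomial.C (MvPolynomial.X j) := by
          simp [es]
        rw [h5, Polynomial.eval_C]
        change σ (MvPolynomial.rename Fin.succ (MvPolynomial.X j)) = _
        rw [MvPolynomial.rename_X]

end mv

end Groth.Agent.H4.KD3
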