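import Mathlib
import Groth.Agent.H4.KD3
import Groth.Prelude.Def_DualSh

set_option autoImplicit false
universe u
open CategoryTheory Category Limits Pretriangulated

namespace Groth.Agent.H4.KD4

attribute [local instance] HasDerivedCategory.standard

open DRing DerivedCategory Groth.Agent.H4.FB2 Groth.Agent.H4.RD Groth.Agent.H4.US21
  Groth.Agent.H4.KD3

section isoinv

variable {R A : Type u} [CommRing R] [CommRing A] (T T' : Type u) [CommRing T] [CommRing T']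
  [Algebra R T] [Algebra R T'] [Module.Flat R T] [Module.Flat R T']

/-- invariance of `RHom_T(A, K ⊗ T)` under isomorphisms of the algebra `T`. -/
theorem nonempty_iso_of_algEquiv (c : T ≃ₐ[R] T') (ψ' : T' →+* A)
    (Rψ : Dual.D T ⥤ Dual.D A) (adj : restrictD (ψ'.comp c.toRingEquiv.toRingHom) ⊣ Rψ)
    (Rψ' : Dual.D T' ⥤ Dual.D A) (adj' : restrictD ψ' ⊣ Rψ') (K : Dual.D R) :
    Nonempty (Rψ.obj ((E R T).obj K) ≅ Rψ'.obj ((E R T').obj K)) := by
  letI : Algebra T T' := c.toRingEquiv.toRingHom.toAlgebra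
  haveI : IsScalarTower R T T' := IsScalarTower.of_algebraMap_eq (fun r => (c.commutes r).symm)
  have hbij : Function.Bijective (algebraMap T T') := c.bijective
  haveI : Module.Flat T T' :=
    Module.Flat.of_linearEquiv (LinearEquiv.ofBijective (Algebra.linearMap T T') hbij).symm
  let Eq : Dual.D T' ≌ Dual.D T := restrictDEquivalence c.toRingEquiv
  have i1 : restrictD (ψ'.comp c.toRingEquiv.toRingHom) ≅ restrictD ψ' ⋙ Eq.functor :=
    restrictDCompIso c.toRingEquiv.toRingHom ψ' _ rfl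
  have i2 : Rψ ≅ Eq.inverse ⋙ Rψ' :=
    (adj.ofNatIsoLeft i1).rightAdjointUniq (adj'.comp Eq.toAdjunction)
  have i3 : E T T' ≅ Eq.inverse := (adjE T T').leftAdjointUniq Eq.symm.toAdjunction
  exact ⟨i2.app _ ≪≫ Rψ'.mapIso ((i3.app _).symm ≪≫ (ETowerIso R T T' K).symm)⟩

end isoinv

section ext

variable {R A : Type u} [CommRing R] [CommRing A] (P : Type u) [CommRing P] [Algebra R P]
  [Module.Flat R P]

/-- adding variables to a presentation does not change the upper shriek. -/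
theorem nonempty_iso_extend (m : ℕ) (σ : MvPolynomial (Fin m) P →ₐ[P] P) (ψ : P →+* A)
    (Rψ : Dual.D P ⥤ Dual.D A) (adj : restrictD ψ ⊣ Rψ)
    [Module.Flat R (MvPolynomial (Fin m) P)]
    (Rψ' : Dual.D (MvPolynomial (Fin m) P) ⥤ Dual.D A)
    (adj' : restrictD (ψ.comp σ.toRingHom) ⊣ Rψ') (K : Dual.D R) :
    Nonempty ((Rψ'.obj ((E R (MvPolynomial (Fin m) P)).obj K))⟦(m : ℤ)⟧ ≅
      Rψ.obj ((E R P).obj K)) := by
  let Rσ := Groth.Agent.H4.RAdj.R₀ σ.toRingHom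
  let adjσ : restrictD σ.toRingHom ⊣ Rσ := Groth.Agent.H4.RAdj.adjR₀ σ.toRingHom
  have i1 : restrictD (ψ.comp σ.toRingHom) ≅ restrictD ψ ⋙ restrictD σ.toRingHom :=
    restrictDCompIso σ.toRingHom ψ _ rfl
  have i2 : Rψ' ≅ Rσ ⋙ Rψ := (adj'.ofNatIsoLeft i1).rightAdjointUniq (adj.comp adjσ)
  obtain ⟨e1⟩ := kl_mvPolynomial m P σ Rσ adjσ ((E R P).obj K)
  let M := Rσ.obj ((E P (MvPolynomial (Fin m) P)).obj ((E R P).obj K))
  have e2 : Rψ'.obj ((E R (MvPolynomial (Fin m) P)).obj K) ≅ Rψ.obj M :=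
    i2.app _ ≪≫ Rψ.mapIso (Rσ.mapIso (ETowerIso R P (MvPolynomial (Fin m) P) K))
  exact ⟨(shiftFunctor _ (m : ℤ)).mapIso e2 ≪≫ ((RShiftIso ψ Rψ adj (m : ℤ)).app M).symm ≪≫
    Rψ.mapIso e1⟩

end ext

section S1781

variable (R A : Type u) [CommRing R] [CommRing A] [Algebra R A]
  (n : ℕ) (ψ : MvPolynomial (Fin n) R →ₐ[R] A) (hψ : Function.Surjective ψ)
  (Rψ : Dual.D (MvPolynomial (Fin n) R) ⥤ Dual.D A) (adj : DRing.restrictD ψ.toRingHom ⊣ Rψ)
  (m : ℕ) (ψ' : MvPolynomial (Fin m) R →ₐ[R] A) (hψ' : Function.Surjective ψ')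
  (Rψ' : Dual.D (MvPolynomial (Fin m) R) ⥤ Dual.D A) (adj' : DRing.restrictD ψ'.toRingHom ⊣ Rψ')

include hψ hψ' adj adj' in
/-- **independence of the presentation**, in terms of `E`. -/
theorem nonempty_iso_presentations (K : Dual.D R) :
    Nonempty ((Rψ.obj ((E R (MvPolynomial (Fin n) R)).obj K))⟦(n : ℤ)⟧ ≅
      (Rψ'.obj ((E R (MvPolynomial (Fin m) R)).obj K))⟦(m : ℤ)⟧) := by
  let P₁ := MvPolynomial (Fin n) R
  let P₂ := MvPolynomial (Fin m) R
  let T₁ := MvPolynomial (Fin m) P₁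
  let T₂ := MvPolynomial (Fin n) P₂
  have hf : ∀ j : Fin m, ∃ p : P₁, ψ p = ψ' (MvPolynomial.X j) := fun j => hψ _
  choose f hf using hf
  have hg : ∀ i : Fin n, ∃ p : P₂, ψ' p = ψ (MvPolynomial.X i) := fun i => hψ' _
  choose g hg using hg
  let σ₁ : T₁ →ₐ[P₁] P₁ := MvPolynomial.aeval f
  let σ₂ : T₂ →ₐ[P₂] P₂ := MvPolynomial.aeval g
  let ψ₁ : T₁ →+* A := ψ.toRingHom.comp σ₁.toRingHom
  let ψ₂ : T₂ →+* A := ψ'.toRingHom.comp σ₂.toRingHom
  let c : T₁ ≃ₐ[R] T₂ := MvPolynomial.commAlgEquiv R (Fin m) (Fin n)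
  have hc : ψ₁ = ψ₂.comp c.toRingEquiv.toRingHom := by
    refine MvPolynomial.ringHom_ext (fun r => ?_) (fun j => ?_)
    · have key : (ψ₁.comp (MvPolynomial.C : P₁ →+* T₁)) =
          ((ψ₂.comp c.toRingEquiv.toRingHom).comp (MvPolynomial.C : P₁ →+* T₁)) := by
        refine MvPolynomial.ringHom_ext (fun a => ?_) (fun i => ?_)
        · change ψ (σ₁ (MvPolynomial.C (MvPolynomial.C a))) =
            ψ' (σ₂ (c (MvPolynomial.C (MvPolynomial.C a))))
          have h1 : c (MvPolynomial.C (MvPolynomial.C a)) =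
              MvPolynomial.C (MvPolynomial.C a) := by
            rw [MvPolynomial.commAlgEquiv_C, MvPolynomial.map_C]
          rw [h1]
          have h2 : σ₁ (MvPolynomial.C (MvPolynomial.C a)) = MvPolynomial.C a :=
            MvPolynomial.aeval_C f _
          have h3 : σ₂ (MvPolynomial.C (MvPolynomial.C a)) = MvPolynomial.C a :=
            MvPolynomial.aeval_C g _
          rw [h2, h3, ← MvPolynomial.algebraMap_eq, ← MvPolynomial.algebraMap_eq,
            AlgHom.commutes, AlgHom.commutes]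
        · change ψ (σ₁ (MvPolynomial.C (MvPolynomial.X i))) =
            ψ' (σ₂ (c (MvPolynomial.C (MvPolynomial.X i))))
          rw [MvPolynomial.commAlgEquiv_C_X]
          have h2 : σ₁ (MvPolynomial.C (MvPolynomial.X i)) = MvPolynomial.X i :=
            MvPolynomial.aeval_C f _
          have h3 : σ₂ (MvPolynomial.X i) = g i := MvPolynomial.aeval_X g i
          rw [h2, h3, hg]
      exact RingHom.congr_fun key r
    · change ψ (σ₁ (MvPolynomial.X j)) = ψ' (σ₂ (c (MvPolynomial.X j)))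
      rw [MvPolynomial.commAlgEquiv_X]
      have h2 : σ₁ (MvPolynomial.X j) = f j := MvPolynomial.aeval_X f j
      have h3 : σ₂ (MvPolynomial.C (MvPolynomial.X j)) = MvPolynomial.X j :=
        MvPolynomial.aeval_C g _
      rw [h2, h3, hf]
  haveI : Module.Flat R T₁ := Module.Flat.trans R P₁ T₁
  haveI : Module.Flat R T₂ := Module.Flat.trans R P₂ T₂
  let R₁ := Groth.Agent.H4.RAdj.R₀ ψ₁
  let adj₁ : restrictD ψ₁ ⊣ R₁ := Groth.Agent.H4.RAdj.adjR₀ ψ₁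
  let R₂ := Groth.Agent.H4.RAdj.R₀ ψ₂
  let adj₂ : restrictD ψ₂ ⊣ R₂ := Groth.Agent.H4.RAdj.adjR₀ ψ₂
  obtain ⟨e₁⟩ := nonempty_iso_extend (R := R) P₁ m σ₁ ψ.toRingHom Rψ adj R₁ adj₁ K
  obtain ⟨e₂⟩ := nonempty_iso_extend (R := R) P₂ n σ₂ ψ'.toRingHom Rψ' adj' R₂ adj₂ K
  have adj₁' : restrictD (ψ₂.comp c.toRingEquiv.toRingHom) ⊣ R₁ := hc ▸ adj₁
  obtain ⟨e₃⟩ := nonempty_iso_of_algEquiv (R := R) T₁ T₂ c ψ₂ R₁ adj₁' R₂ adj₂ K
  exact ⟨(shiftFunctor _ (n : ℤ)).mapIso e₁.symm ≪≫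
    (shiftFunctor _ (n : ℤ)).mapIso ((shiftFunctor _ (m : ℤ)).mapIso e₃) ≪≫
    shiftComm _ (m : ℤ) (n : ℤ) ≪≫ (shiftFunctor _ (m : ℤ)).mapIso e₂⟩

include hψ hψ' adj adj' in
theorem S1781 [DRing.HasLBaseChange (algebraMap R (MvPolynomial (Fin n) R))]
    [DRing.HasLBaseChange (algebraMap R (MvPolynomial (Fin m) R))] (K : Dual.D R) :
    Nonempty (Dual2.shriekVia n Rψ K ≅ Dual2.shriekVia m Rψ' K) := by
  obtain ⟨e⟩ := nonempty_iso_presentations R A n ψ hψ Rψ adj m ψ' hψ' Rψ' adj' K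
  exact ⟨(shiftFunctor _ (n : ℤ)).mapIso (Rψ.mapIso (LBCIso K)) ≪≫ e ≪≫
    (shiftFunctor _ (m : ℤ)).mapIso (Rψ'.mapIso (LBCIso K).symm)⟩

end S1781

end Groth.Agent.H4.KD4
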