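import Mathlib
import Groth.Agent.H4.KS1
import Groth.Agent.H4.DComp10
import Groth.Prelude.Def_LCI2

set_option autoImplicit false
universe u
open CategoryTheory Category Limits Pretriangulated

namespace Groth.Agent.H4.KS2

attribute [local instance] HasDerivedCategory.standard
attribute [local instance] Groth.Agent.H4.LK4.hasLTen Groth.Agent.H4.LK5.hasLTen₃
  Groth.Agent.H4.KI7.isSymMonoidal Groth.Agent.H4.KI6.hasRHom

open DRing DTen DerivedCategory Groth.Agent.H4.HC6 Groth.Agent.H4.US6 Groth.Agent.H4.FB2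
  Groth.Agent.H4.KS1

section single

variable {T B : Type u} [CommRing T] [CommRing B] [Algebra T B]

/-- **single degree trick**: an object of `D(B)` whose restriction to `T` is `B[-c]` is `B[-c]`, if
`T → B` is surjective. -/
theorem nonempty_iso_of_res_iso (hs : Function.Surjective (algebraMap T B)) (Y : Dual.D B) (c : ℤ)
    (e : (Res T B).obj Y ≅ (Dual.inD T B)⟦-c⟧) :
    Nonempty (Y ≅ (Dual.inD B B)⟦-c⟧) := by
  -- cohomology of `Res Y`
  have e' : (Res T B).obj Y ≅ (singleFunctor (ModuleCat.{u} T) c).obj (ModuleCat.of T B) :=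
    e ≪≫ ((singleFunctors (ModuleCat.{u} T)).shiftIso (-c) c 0 (by simp)).app (ModuleCat.of T B)
  have hres : ∀ i : ℤ, (homologyFunctor (ModuleCat.{u} T) i).obj ((Res T B).obj Y) ≅
      (ModuleCat.restrictScalars.{u} (algebraMap T B)).obj
        ((homologyFunctor (ModuleCat.{u} B) i).obj Y) :=
    fun i => Groth.Agent.H4.DComp.restrictHomologyIso (algebraMap T B) Y i
  have hz : ∀ i : ℤ, i ≠ c → IsZero ((homologyFunctor (ModuleCat.{u} B) i).obj Y) := by
    intro i hi
    have h1 : IsZero ((homologyFunctor (ModuleCat.{u} T) i).obj ((Res T B).obj Y)) := by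
      refine IsZero.of_iso ?_ ((homologyFunctor (ModuleCat.{u} T) i).mapIso e')
      haveI : ((singleFunctor (ModuleCat.{u} T) c).obj (ModuleCat.of T B)).IsGE c := inferInstance
      haveI : ((singleFunctor (ModuleCat.{u} T) c).obj (ModuleCat.of T B)).IsLE c := inferInstance
      rcases lt_or_gt_of_ne hi with h | h
      · exact isZero_of_isGE _ c i h
      · exact isZero_of_isLE _ c i h
    have h2 := h1.of_iso (hres i).symm
    haveI := ModuleCat.subsingleton_of_isZero h2
    haveI : Subsingleton ((homologyFunctor (ModuleCat.{u} B) i).obj Y) :=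
      inferInstanceAs (Subsingleton ((ModuleCat.restrictScalars.{u} (algebraMap T B)).obj
        ((homologyFunctor (ModuleCat.{u} B) i).obj Y)))
    exact ModuleCat.isZero_of_subsingleton _
  haveI : Y.IsLE c := by
    rw [DerivedCategory.isLE_iff]; intro i hi; exact hz i (by omega)
  haveI : Y.IsGE c := by
    rw [DerivedCategory.isGE_iff]; intro i hi; exact hz i (by omega)
  obtain ⟨N, ⟨eN⟩⟩ := exists_iso_singleFunctor_obj_of_isGE_of_isLE Y c
  -- `N ≅ B`
  have i1 : (homologyFunctor (ModuleCat.{u} B) c).obj Y ≅ N :=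
    (homologyFunctor (ModuleCat.{u} B) c).mapIso eN ≪≫
      (singleFunctorCompHomologyFunctorIso (ModuleCat.{u} B) c).app N
  have i2 : (ModuleCat.restrictScalars.{u} (algebraMap T B)).obj N ≅ ModuleCat.of T B :=
    (ModuleCat.restrictScalars.{u} (algebraMap T B)).mapIso i1.symm ≪≫ (hres c).symm ≪≫
      (homologyFunctor (ModuleCat.{u} T) c).mapIso e' ≪≫
      (singleFunctorCompHomologyFunctorIso (ModuleCat.{u} T) c).app (ModuleCat.of T B)
  let φ : N ≃ₗ[B] B :=
    { toFun := fun x => i2.hom.hom x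
      invFun := fun y => i2.inv.hom y
      left_inv := fun x => by
        change (i2.hom ≫ i2.inv).hom x = x
        rw [Iso.hom_inv_id]; rfl
      right_inv := fun y => by
        change (i2.inv ≫ i2.hom).hom y = y
        rw [Iso.inv_hom_id]; rfl
      map_add' := fun x y => map_add i2.hom.hom x y
      map_smul' := fun b x => by
        obtain ⟨t, rfl⟩ := hs b
        have h := i2.hom.hom.map_smul t x
        have h2 : (t • (i2.hom.hom x : ModuleCat.of T B) : ModuleCat.of T B) =
            algebraMap T B t * (show B from i2.hom.hom x) := Algebra.smul_def t _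
        exact h.trans h2 }
  exact ⟨eN ≪≫ (singleFunctor (ModuleCat.{u} B) c).mapIso φ.toModuleIso ≪≫
    (((singleFunctors (ModuleCat.{u} B)).shiftIso (-c) c 0 (by simp)).app
      (ModuleCat.of B B)).symm⟩

end single

section koszul

variable {T B : Type u} [CommRing T] [CommRing B] [Algebra T B]
  (R : Dual.D T ⥤ Dual.D B) (adj : Res T B ⊣ R)

include adj in
/-- **the right adjoint of restriction along a Koszul-regular quotient**: `RHom_T(B, T) ≅ B[-c]`
in `D(B)`. -/
theorem nonempty_R_unit_iso (hs : Function.Surjective (algebraMap T B)) (l : List T)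
    (hl : LCI.IsKoszulRegularSeq T l)
    (hker : RingHom.ker (algebraMap T B) = Ideal.span {x | x ∈ l}) :
    Nonempty (R.obj (Dual.inD T T) ≅ (Dual.inD B B)⟦-(l.length : ℤ)⟧) := by
  set I : Ideal T := Ideal.span {x | x ∈ l} with hI
  have hle : I ≤ LinearMap.ker (Algebra.linearMap T B) := by
    intro x hx
    rw [← hker] at hx
    exact hx
  let q : (T ⧸ I) →ₗ[T] B := Submodule.liftQ I (Algebra.linearMap T B) hle
  have hq : Function.Bijective q := by
    constructor
    · rw [← LinearMap.ker_eq_bot]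
      refine Submodule.ker_liftQ_eq_bot _ _ _ ?_
      intro x hx
      rw [← hker]
      exact hx
    · intro b
      obtain ⟨t, rfl⟩ := hs b
      exact ⟨Submodule.Quotient.mk t, rfl⟩
  let eq : (T ⧸ I) ≃ₗ[T] B := LinearEquiv.ofBijective q hq
  obtain ⟨e1⟩ := Groth.Agent.H4.KosPerf.nonempty_koszul_iso l hl
  let e2 : Dual.inD T (T ⧸ I) ≅ Dual.inD T B :=
    (singleFunctor (ModuleCat.{u} T) 0).mapIso eq.toModuleIso
  let ek : kos l ≅ Groth.Agent.H4.US2.NB T B := e1 ≪≫ e2 ≪≫ Groth.Agent.H4.US4.jB T B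
  obtain ⟨e3⟩ := koszul_selfDual l
  have e4 : (Res T B).obj (R.obj (Dual.inD T T)) ≅ (Dual.inD T B)⟦-(l.length : ℤ)⟧ :=
    (Groth.Agent.H4.US3.rho R adj).app (Dual.inD T T) ≪≫ RHomIso ek (Dual.inD T T) ≪≫ e3 ≪≫
      (shiftFunctor (Dual.D T) (-(l.length : ℤ))).mapIso (e1 ≪≫ e2)
  exact nonempty_iso_of_res_iso hs _ _ e4

end koszul

end Groth.Agent.H4.KS2
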