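import Mathlib
import Groth.Agent.H4.KS2
import Groth.Agent.H4.FR2
import Groth.Agent.H4.KD4
import Groth.Agent.H4.US18

set_option autoImplicit false
universe u
open CategoryTheory Category Limits Pretriangulated

namespace Groth.Agent.H4.KS3

attribute [local instance] HasDerivedCategory.standard

open DRing DerivedCategory Groth.Agent.H4.FB2 Groth.Agent.H4.RD Groth.Agent.H4.US21
  Groth.Agent.H4.KD3

section loc

variable (P A : Type u) [CommRing P] [CommRing A] [IsNoetherianRing P]
  (f : P →+* A) (hf : Function.Surjective f)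
  (Rf : Dual.D P ⥤ Dual.D A) (adjf : DRing.restrictD f ⊣ Rf)

include hf adjf in
/-- localizing the right adjoint of restriction along a surjection whose kernel becomes
Koszul-regular. -/
theorem nonempty_iso_local (g : P) (l : List (Localization.Away g))
    (hl : LCI.IsKoszulRegularSeq (Localization.Away g) l)
    (hker : (RingHom.ker f).map (algebraMap P (Localization.Away g)) = Ideal.span {x | x ∈ l}) :
    Nonempty ((E A (Localization.Away (f g))).obj (Rf.obj (Dual.inD P P)) ≅
      (Dual.inD (Localization.Away (f g)) (Localization.Away (f g)))⟦-(l.length : ℤ)⟧) := by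
  letI : Algebra P A := f.toAlgebra
  letI : Algebra (Localization.Away g) (Localization.Away (f g)) :=
    (Localization.awayMap f g).toAlgebra
  haveI : IsScalarTower P A (Localization.Away (f g)) := inferInstance
  haveI : IsScalarTower P (Localization.Away g) (Localization.Away (f g)) :=
    IsScalarTower.of_algebraMap_eq (fun p => by
      rw [IsScalarTower.algebraMap_apply P A (Localization.Away (f g))]
      change algebraMap A (Localization.Away (f g)) (f p) =
        Localization.awayMap f g (algebraMap P (Localization.Away g) p)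
      exact (IsLocalization.map_eq _ _).symm)
  haveI : IsLocalization (Algebra.algebraMapSubmonoid A (Submonoid.powers g))
      (Localization.Away (f g)) := by
    have : Algebra.algebraMapSubmonoid A (Submonoid.powers g) = Submonoid.powers (f g) :=
      Submonoid.map_powers f g
    rw [this]
    infer_instance
  haveI : Algebra.IsPushout P (Localization.Away g) A (Localization.Away (f g)) :=
    (Algebra.isPushout_of_isLocalization (Submonoid.powers g) (A := Localization.Away g) A
      (Localization.Away (f g))).symm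
  haveI : Module.Finite P A := Module.Finite.of_surjective (Algebra.linearMap P A) hf
  have hs : Function.Surjective (algebraMap (Localization.Away g) (Localization.Away (f g))) := by
    change Function.Surjective (Localization.awayMap f g)
    rw [Localization.awayMap_surjective_iff]
    intro a
    obtain ⟨b, rfl⟩ := hf a
    exact ⟨b, 0, by simp⟩
  have hk : RingHom.ker (algebraMap (Localization.Away g) (Localization.Away (f g))) =
      Ideal.span {x | x ∈ l} := by
    rw [← hker]
    exact IsLocalization.ker_map (Localization.Away (f g)) f (Submonoid.map_powers f g)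
  let Rπ := Groth.Agent.H4.RAdj.R₀ (algebraMap (Localization.Away g) (Localization.Away (f g)))
  let adjπ : Res (Localization.Away g) (Localization.Away (f g)) ⊣ Rπ :=
    Groth.Agent.H4.RAdj.adjR₀ _
  haveI : (Dual.inD P P).IsGE 0 := inferInstance
  obtain ⟨e1⟩ := Groth.Agent.H4.FR2.nonempty_iso P (Localization.Away g) A
    (Localization.Away (f g)) Rf adjf Rπ adjπ (Dual.inD P P) 0
  obtain ⟨e2⟩ := Groth.Agent.H4.KS2.nonempty_R_unit_iso Rπ adjπ hs l hl hk
  exact ⟨e1 ≪≫ Rπ.mapIso (Groth.Agent.H4.US18.EUnitIso (A := P) (Localization.Away g)) ≪≫ e2⟩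

end loc

section S1828

variable (R A : Type u) [CommRing R] [CommRing A] [IsNoetherianRing R] [IsNoetherianRing A]
  [Algebra R A] (n : ℕ) (ψ : MvPolynomial (Fin n) R →ₐ[R] A) (hψ : Function.Surjective ψ)
  [DRing.HasLBaseChange (algebraMap R (MvPolynomial (Fin n) R))]
  (Rψ : Dual.D (MvPolynomial (Fin n) R) ⥤ Dual.D A) (adj : DRing.restrictD ψ.toRingHom ⊣ Rψ)

include hψ adj in
theorem S1828 (hl : LCI.IsLCI R A)
    [hL : ∀ f : A, DRing.HasLBaseChange (algebraMap A (Localization.Away f))]
    (q : PrimeSpectrum A) :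
    ∃ (f : A) (_ : f ∉ q.asIdeal) (m : ℤ),
      Nonempty ((DRing.LBaseChange (algebraMap A (Localization.Away f))).obj
          (Dual2.shriekVia n Rψ (Dual.inD R R)) ≅
        (Dual.inD (Localization.Away f) (Localization.Away f))⟦m⟧) := by
  obtain ⟨-, n', f, hf, hreg⟩ := hl
  let 𝔭 : PrimeSpectrum (MvPolynomial (Fin n') R) :=
    ⟨q.asIdeal.comap f.toRingHom, Ideal.comap_isPrime _ _⟩
  have hle : RingHom.ker f.toRingHom ≤ 𝔭.asIdeal := by
    intro x hx
    change f.toRingHom x ∈ q.asIdeal
    rw [RingHom.mem_ker.1 hx]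
    exact zero_mem _
  obtain ⟨g, hg, l, hl', hspan⟩ := hreg 𝔭 hle
  let Rf := Groth.Agent.H4.RAdj.R₀ f.toRingHom
  let adjf : DRing.restrictD f.toRingHom ⊣ Rf := Groth.Agent.H4.RAdj.adjR₀ _
  obtain ⟨e1⟩ := nonempty_iso_local (MvPolynomial (Fin n') R) A f.toRingHom hf Rf adjf g l hl' hspan
  obtain ⟨e2⟩ := Groth.Agent.H4.KD4.nonempty_iso_presentations R A n ψ hψ Rψ adj n' f hf Rf adjf
    (Dual.inD R R)
  refine ⟨f.toRingHom g, hg, -(l.length : ℤ) + (n' : ℤ), ?_⟩
  exact ⟨LBCIso (A := A) (B := Localization.Away (f.toRingHom g)) _ ≪≫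
    (E A (Localization.Away (f.toRingHom g))).mapIso
      ((shiftFunctor _ (n : ℤ)).mapIso (Rψ.mapIso (LBCIso (Dual.inD R R))) ≪≫ e2 ≪≫
        (shiftFunctor _ (n' : ℤ)).mapIso (Rf.mapIso
          (Groth.Agent.H4.US18.EUnitIso (A := R) (MvPolynomial (Fin n') R)))) ≪≫
    EShiftIso _ (n' : ℤ) ≪≫ (shiftFunctor _ (n' : ℤ)).mapIso e1 ≪≫
    ((shiftFunctorAdd' (Dual.D (Localization.Away (f.toRingHom g))) (-(l.length : ℤ)) (n' : ℤ) _
      rfl).app _).symm⟩

end S1828

end Groth.Agent.H4.KS3
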