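import Mathlib
import Groth.Agent.H4.RD
import Groth.Agent.H4.FB6
import Groth.Agent.H4.KS3

set_option autoImplicit false
universe u
open CategoryTheory Category Limits Pretriangulated

namespace Groth.Agent.H4.LC1

attribute [local instance] HasDerivedCategory.standard

open DRing DerivedCategory Groth.Agent.H4.FB2 Groth.Agent.H4.FB3 Groth.Agent.H4.FB6
  Groth.Agent.H4.RD

section tower

variable {A B C D' : Type u} [CommRing A] [CommRing B] [CommRing C] [CommRing D']
  (f₁ : A →+* B) (g₁ : B →+* D') (f₂ : A →+* C) (g₂ : C →+* D')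

/-- **two towers of derived base changes agree** -/
noncomputable def towerIso (h : g₁.comp f₁ = g₂.comp f₂)
    {L₁ : Dual.D A ⥤ Dual.D B} (a₁ : L₁ ⊣ restrictD f₁)
    {M₁ : Dual.D B ⥤ Dual.D D'} (b₁ : M₁ ⊣ restrictD g₁)
    {L₂ : Dual.D A ⥤ Dual.D C} (a₂ : L₂ ⊣ restrictD f₂)
    {M₂ : Dual.D C ⥤ Dual.D D'} (b₂ : M₂ ⊣ restrictD g₂) :
    L₁ ⋙ M₁ ≅ L₂ ⋙ M₂ :=
  ((a₁.comp b₁).ofNatIsoRight (restrictDCompIso f₁ g₁ (g₁.comp f₁) rfl).symm).leftAdjointUniq
    ((a₂.comp b₂).ofNatIsoRight (restrictDCompIso f₂ g₂ (g₁.comp f₁) h).symm)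

end tower

section glue

variable {B : Type u} [CommRing B] [IsNoetherianRing B]

/-- local-to-global for dualizing complexes, in terms of principal opens around every prime -/
theorem isDualizing_of_local (ω : Dual.D B)
    (h : ∀ q : PrimeSpectrum B, ∃ b : B, b ∉ q.asIdeal ∧
      Dual.IsDualizing (Localization.Away b) ((E B (Localization.Away b)).obj ω)) :
    Dual.IsDualizing B ω := by
  classical
  choose g hg hgood using h
  have htop : Ideal.span (Set.range g) = ⊤ := by
    by_contra hne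
    obtain ⟨m, hm, hle⟩ := Ideal.exists_le_maximal _ hne
    exact hg ⟨m, hm.isPrime⟩ (hle (Ideal.subset_span ⟨⟨m, hm.isPrime⟩, rfl⟩))
  obtain ⟨s, hs, hs'⟩ := (Ideal.span_eq_top_iff_finite _).1 htop
  let f : Fin s.card → B := fun i => (s.equivFin.symm i : B)
  have hf : Ideal.span (Set.range f) = ⊤ := by
    have : Set.range f = (s : Set B) := by
      ext x
      constructor
      · rintro ⟨i, rfl⟩; exact (s.equivFin.symm i).2
      · intro hx; exact ⟨s.equivFin ⟨x, hx⟩, by simp [f]⟩
    rw [this, hs']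
  refine isDualizing_of_finite_covers (covers_away B s.card f hf)
    (Groth.Agent.H4.FlatFam.jff_of_span_eq_top f hf) ω (fun i => ?_)
  obtain ⟨q, hq⟩ := hs (s.equivFin.symm i).2
  have : f i = g q := hq.symm
  rw [this]
  exact hgood q

end glue

end Groth.Agent.H4.LC1
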