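import Mathlib

/-!
# Weakly compact objects (general index universe, cofan formulation)
-/

set_option autoImplicit false
universe w v u
open CategoryTheory CategoryTheory.Limits CategoryTheory.Pretriangulated Category

namespace Groth.Agent.H4.Cpt1

section Defs

variable {𝒯 : Type u} [Category.{v} 𝒯] [Preadditive 𝒯]

/-- the canonical map `⊕_j Hom(C, X j) → Hom(C, c.pt)` for a cofan `c`. -/
noncomputable def sumHom (C : 𝒯) {J : Type w} {X : J → 𝒯} (c : Cofan X) :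
    DirectSum J (fun j => C ⟶ X j) →+ (C ⟶ c.pt) := by
  classical
  exact DirectSum.toAddMonoid fun j => Preadditive.rightComp C (c.inj j)

/-- maps into the point of a cofan which are finite sums of maps into the summands. -/
noncomputable def FF (C : 𝒯) {J : Type w} {X : J → 𝒯} (c : Cofan X) : AddSubgroup (C ⟶ c.pt) :=
  (sumHom C c).range

lemma comp_inj_mem {C : 𝒯} {J : Type w} {X : J → 𝒯} (c : Cofan X) (k : J) (x : C ⟶ X k) :
    x ≫ c.inj k ∈ FF C c := by
  classical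
  refine ⟨DirectSum.of (fun k => C ⟶ X k) k x, ?_⟩
  unfold sumHom
  rw [DirectSum.toAddMonoid_of]
  rfl

lemma mem_FF_iff {C : 𝒯} {J : Type w} {X : J → 𝒯} (c : Cofan X) (α : C ⟶ c.pt) :
    α ∈ FF C c ↔ ∃ (S : Finset J) (x : ∀ k, C ⟶ X k), α = ∑ k ∈ S, x k ≫ c.inj k := by
  classical
  constructor
  · rintro ⟨x, rfl⟩
    refine ⟨DFinsupp.support x, fun k => x k, ?_⟩
    conv_lhs => rw [← DirectSum.sum_support_of x]
    rw [map_sum]
    refine Finset.sum_congr rfl (fun k _ => ?_)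
    unfold sumHom
    rw [DirectSum.toAddMonoid_of]
    rfl
  · rintro ⟨S, x, rfl⟩
    exact AddSubgroup.sum_mem _ (fun k _ => comp_inj_mem c k (x k))

lemma precomp_mem {C C' : 𝒯} {J : Type w} {X : J → 𝒯} (c : Cofan X) (v : C' ⟶ C) {α : C ⟶ c.pt}
    (hα : α ∈ FF C c) : v ≫ α ∈ FF C' c := by
  rw [mem_FF_iff] at hα ⊢
  obtain ⟨S, x, rfl⟩ := hα
  refine ⟨S, fun k => v ≫ x k, ?_⟩
  rw [Preadditive.comp_sum]
  refine Finset.sum_congr rfl (fun k _ => ?_)
  rw [assoc]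

/-- weakly compact objects (w.r.t. `w`-small coproducts). -/
def WC (C : 𝒯) : Prop :=
  ∀ (J : Type w) (X : J → 𝒯) (c : Cofan X), IsColimit c → ∀ α : C ⟶ c.pt, α ∈ FF C c

lemma WC.of_iso {C C' : 𝒯} (e : C ≅ C') (h : WC.{w} C) : WC.{w} C' := by
  intro J X c hc α
  have := precomp_mem c e.inv (h J X c hc (e.hom ≫ α))
  rwa [e.inv_hom_id_assoc] at this

lemma WC.of_retract {C C' : 𝒯} (i : C' ⟶ C) (p : C ⟶ C') (hip : i ≫ p = 𝟙 C') (h : WC.{w} C) :
    WC.{w} C' := by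
  intro J X c hc α
  have := precomp_mem c i (h J X c hc (p ≫ α))
  rwa [← assoc, hip, id_comp] at this

lemma wc_of_isZero {C : 𝒯} (hC : IsZero C) : WC.{w} C := by
  intro J X c hc α
  rw [hC.eq_of_src α 0]
  exact zero_mem _

/-- the projections of a colimit cofan. -/
noncomputable def proj {J : Type w} {X : J → 𝒯} {c : Cofan X} (hc : IsColimit c) (j : J) :
    c.pt ⟶ X j := by
  classical
  exact Cofan.IsColimit.desc hc (fun k => if h : k = j then eqToHom (by rw [h]) else 0)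

lemma inj_proj_self {J : Type w} {X : J → 𝒯} {c : Cofan X} (hc : IsColimit c) (j : J) :
    c.inj j ≫ proj hc j = 𝟙 _ := by
  classical
  unfold proj
  rw [Cofan.IsColimit.fac]
  simp

lemma inj_proj_of_ne {J : Type w} {X : J → 𝒯} {c : Cofan X} (hc : IsColimit c) {k j : J}
    (h : k ≠ j) : c.inj k ≫ proj hc j = 0 := by
  classical
  unfold proj
  rw [Cofan.IsColimit.fac]
  simp [h]

/-- the idempotent onto a finite set of summands -/
lemma inj_comp_sum_proj {J : Type w} {X : J → 𝒯} {c : Cofan X} (hc : IsColimit c)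
    (S : Finset J) (k : J) (hk : k ∈ S) :
    c.inj k ≫ (∑ j ∈ S, proj hc j ≫ c.inj j) = c.inj k := by
  classical
  rw [Preadditive.comp_sum, Finset.sum_eq_single k]
  · rw [← assoc, inj_proj_self, id_comp]
  · intro j _ hjk
    rw [← assoc, inj_proj_of_ne hc (Ne.symm hjk), zero_comp]
  · intro h
    exact (h hk).elim

end Defs

section Tri

variable {𝒯 : Type u} [Category.{v} 𝒯] [Preadditive 𝒯] [HasZeroObject 𝒯] [HasShift 𝒯 ℤ]
  [∀ n : ℤ, (shiftFunctor 𝒯 n).Additive] [Pretriangulated 𝒯]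

lemma wc_ext₂ (T : Triangle 𝒯) (hT : T ∈ distTriang 𝒯) (h₁ : WC.{w} T.obj₁) (h₃ : WC.{w} T.obj₃) :
    WC.{w} T.obj₂ := by
  classical
  intro J X c hc α
  have hu := h₁ J X c hc (T.mor₁ ≫ α)
  rw [mem_FF_iff] at hu
  obtain ⟨S, x, hx⟩ := hu
  have h0 : T.mor₁ ≫ (α ≫ (𝟙 _ - ∑ j ∈ S, proj hc j ≫ c.inj j)) = 0 := by
    rw [← assoc, hx, Preadditive.sum_comp]
    apply Finset.sum_eq_zero
    intro k hk
    rw [assoc, Preadditive.comp_sub, comp_id, inj_comp_sum_proj hc S k hk, sub_self, comp_zero]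
  obtain ⟨β, hβ⟩ := Triangle.yoneda_exact₂ T hT _ h0
  have h1 : α ≫ (∑ j ∈ S, proj hc j ≫ c.inj j) ∈ FF T.obj₂ c := by
    rw [Preadditive.comp_sum]
    refine AddSubgroup.sum_mem _ (fun k _ => ?_)
    rw [← assoc]
    exact comp_inj_mem c k _
  have h2 : T.mor₂ ≫ β ∈ FF T.obj₂ c := precomp_mem c T.mor₂ (h₃ J X c hc β)
  have h3 : α = α ≫ (∑ j ∈ S, proj hc j ≫ c.inj j) + T.mor₂ ≫ β := by
    rw [← hβ, Preadditive.comp_sub, comp_id]
    abel
  rw [h3]
  exact add_mem h1 h2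

end Tri

end Groth.Agent.H4.Cpt1
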