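import Mathlib
import Groth.Agent.H4.Cpt1
import Groth.Agent.H4.AP1
import Groth.Agent.H4.EV2
import Groth.Agent.H4.KProj4
import Groth.Agent.H4.LDer1

/-!
# Perfect objects of `D(R)` are weakly compact
-/

set_option autoImplicit false
universe u
open CategoryTheory CategoryTheory.Limits CategoryTheory.Pretriangulated Category

namespace Groth.Agent.H4.Cpt2

attribute [local instance] HasDerivedCategory.standard

open DRing DerivedCategory Groth.Agent.H4.Cpt1 Groth.Agent.H4.EV2 Groth.Agent.H4.ProjAmp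

variable {R : Type u} [CommRing R]

/-- elements of a coproduct of modules are finite sums of their components. -/
lemma exists_finset_eq_sum {J : Type u} {M : J → ModuleCat.{u} R} {c : Cofan M} (hc : IsColimit c)
    (z : c.pt) : ∃ S : Finset J, z = ∑ j ∈ S, (c.inj j).hom ((proj hc j).hom z) := by
  classical
  let N : Submodule R c.pt := ⨆ j, LinearMap.range (c.inj j).hom
  have hN : N = ⊤ := by
    let q : c.pt ⟶ ModuleCat.of R (c.pt ⧸ N) := ModuleCat.ofHom N.mkQ
    have hq : q = 0 := by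
      refine Cofan.IsColimit.hom_ext hc _ _ (fun j => ?_)
      rw [comp_zero]
      ext x
      change N.mkQ ((c.inj j).hom x) = 0
      rw [Submodule.mkQ_apply, Submodule.Quotient.mk_eq_zero]
      exact Submodule.mem_iSup_of_mem j ⟨x, rfl⟩
    rw [eq_top_iff]
    intro x _
    have h1 : N.mkQ x = 0 := by
      have := congrArg (fun f => f.hom x) hq
      exact this
    rwa [Submodule.mkQ_apply, Submodule.Quotient.mk_eq_zero] at h1
  have hz : z ∈ N := by rw [hN]; trivial
  rw [Submodule.mem_iSup_iff_exists_finsupp] at hz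
  obtain ⟨f, hf, hfz⟩ := hz
  choose m hm using hf
  refine ⟨f.support, ?_⟩
  have hz' : z = ∑ j ∈ f.support, (c.inj j).hom (m j) := by
    rw [← hfz, Finsupp.sum]
    exact Finset.sum_congr rfl (fun j _ => (hm j).symm)
  have hp : ∀ k ∈ f.support, (proj hc k).hom z = m k := by
    intro k hk
    rw [hz', map_sum, Finset.sum_eq_single k]
    · have := congrArg (fun g => g.hom (m k)) (inj_proj_self hc k)
      exact this
    · intro j _ hjk
      have := congrArg (fun g => g.hom (m j)) (inj_proj_of_ne hc hjk)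
      exact this
    · intro h
      exact (h hk).elim
  conv_lhs => rw [hz']
  exact Finset.sum_congr rfl (fun j hj => by rw [hp j hj])

/-- chain maps from `R[-i]` into a coproduct of complexes factor through a finite subsum. -/
lemma exists_finset_map_eq {J : Type u} {Y : J → Cx R} {c : Cofan Y} (hc : IsColimit c) (i : ℤ)
    (b : sgl (ModuleCat.of R R) i ⟶ c.pt) :
    ∃ S : Finset J, b = ∑ j ∈ S, b ≫ proj hc j ≫ c.inj j := by
  classical
  let ev := HomologicalComplex.eval (ModuleCat.{u} R) (ComplexShape.up ℤ) i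
  let ci : Cofan (fun j => (Y j).X i) := Cofan.mk (c.pt.X i) (fun j => (c.inj j).f i)
  have hci : IsColimit ci := (Cofan.isColimitMapCoconeEquiv ev Y c) (isColimitOfPreserves ev hc)
  have hproj : ∀ j, (proj hc j).f i = proj hci j := by
    intro j
    refine Cofan.IsColimit.hom_ext hci _ _ (fun k => ?_)
    change (c.inj k).f i ≫ (proj hc j).f i = ci.inj k ≫ proj hci j
    rw [← HomologicalComplex.comp_f]
    by_cases hkj : k = j
    · subst hkj
      rw [inj_proj_self, inj_proj_self]
      rfl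
    · rw [inj_proj_of_ne hc hkj, inj_proj_of_ne hci hkj]
      rfl
  let σ := HomologicalComplex.singleObjXSelf (ComplexShape.up ℤ) i (ModuleCat.of R R)
  let z : c.pt.X i := (b.f i).hom (σ.inv.hom (1 : R))
  obtain ⟨S, hS⟩ := exists_finset_eq_sum hci z
  refine ⟨S, ?_⟩
  apply HomologicalComplex.from_single_hom_ext
  rw [← cancel_epi σ.inv]
  ext
  change z = _
  rw [hS]
  have h1 : (∑ j ∈ S, b ≫ proj hc j ≫ c.inj j).f i =
      ∑ j ∈ S, (b ≫ proj hc j ≫ c.inj j).f i :=
    map_sum (HomologicalComplex.Hom.fAddMonoidHom i) _ _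
  rw [h1, Preadditive.comp_sum, ModuleCat.hom_sum, LinearMap.sum_apply]
  refine Finset.sum_congr rfl (fun j _ => ?_)
  rw [HomologicalComplex.comp_f, HomologicalComplex.comp_f, hproj]
  rfl

open Groth.Agent.H4.AP1 in
/-- `R[-i]` is weakly compact in `D(R)`. -/
theorem wc_W (i : ℤ) : WC.{u} (W R i) := by
  intro J X c hc α
  let Y : J → Cx R := fun j => Q.objPreimage (X j)
  let e : ∀ j, Q.obj (Y j) ≅ X j := fun j => Q.objObjPreimageIso (X j)
  let cY : Cofan Y := Cofan.mk (∐ Y) (Sigma.ι Y)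
  have hcY : IsColimit cY := coproductIsCoproduct Y
  let cQ : Cofan (fun j => Q.obj (Y j)) := Cofan.mk (Q.obj cY.pt) (fun j => Q.map (cY.inj j))
  have hcQ : IsColimit cQ := Groth.Agent.H2.DCoprod.isColimitMapCofan hcY
  let θ : Q.obj cY.pt ⟶ c.pt := Cofan.IsColimit.desc hcQ (fun j => (e j).hom ≫ c.inj j)
  let θ' : c.pt ⟶ Q.obj cY.pt := Cofan.IsColimit.desc hc (fun j => (e j).inv ≫ cQ.inj j)
  have hθ : ∀ j, cQ.inj j ≫ θ = (e j).hom ≫ c.inj j := fun j => Cofan.IsColimit.fac hcQ _ j
  have hθ' : ∀ j, c.inj j ≫ θ' = (e j).inv ≫ cQ.inj j := fun j => Cofan.IsColimit.fac hc _ j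
  have h1 : θ' ≫ θ = 𝟙 _ := by
    refine Cofan.IsColimit.hom_ext hc _ _ (fun j => ?_)
    rw [← assoc, hθ', assoc, hθ, Iso.inv_hom_id_assoc, comp_id]
  obtain ⟨b, hb⟩ := Groth.Agent.H3.PerfAux.exists_map_of_isKProjective
    (sgl (ModuleCat.of R R) i) cY.pt (α ≫ θ')
  obtain ⟨S, hS⟩ := exists_finset_map_eq hcY i b
  have h2 : α = Q.map b ≫ θ := by rw [hb, assoc, h1, comp_id]
  rw [h2, hS, Functor.map_sum, Preadditive.sum_comp]
  refine AddSubgroup.sum_mem _ (fun j _ => ?_)
  rw [Functor.map_comp, Functor.map_comp, assoc, assoc]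
  have : Q.map (cY.inj j) ≫ θ = (e j).hom ≫ c.inj j := hθ j
  rw [this, ← assoc, ← assoc]
  exact comp_inj_mem c j _

/-- perfect objects are weakly compact (as are all their shifts). -/
theorem wc_of_isPerfect {K : Dual.D R} (hK : IsPerfect R K) : WC.{u} K := by
  let P : Dual.D R → Prop := fun X => ∀ n : ℤ, WC.{u} (X⟦n⟧)
  have hP : ThickPred P :=
    { iso := fun {X Y} e hX n => (hX n).of_iso ((shiftFunctor (Dual.D R) n).mapIso e)
      shift := fun X m hX n => (hX (m + n)).of_iso ((shiftFunctorAdd' (Dual.D R) m n _ rfl).app X)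
      ext₂ := fun T hT hX hZ n =>
        wc_ext₂ _ (Triangle.shift_distinguished T hT n) (hX n) (hZ n)
      retract := fun {X Y} i p hip hY n =>
        (hY n).of_retract (i⟦n⟧') (p⟦n⟧') (by
          rw [← Functor.map_comp, hip, CategoryTheory.Functor.map_id]) }
  have h1 : P (Dual.inD R R) := fun n =>
    (wc_W (-n)).of_iso (shI (ModuleCat.of R R) n (-n) (by simp)).symm
  exact (hP.of_isPerfect h1 hK 0).of_iso ((shiftFunctorZero (Dual.D R) ℤ).app K)

end Groth.Agent.H4.Cpt2
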