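import Mathlib
import Groth.Agent.H4.EV2
import Groth.Agent.H4.KProj4
import Groth.Agent.H4.ResP2

/-!
# A localizing induction principle for `D(R)`
-/

set_option autoImplicit false
universe u
open CategoryTheory CategoryTheory.Limits CategoryTheory.Pretriangulated

namespace Groth.Agent.H4.Loc1

attribute [local instance] HasDerivedCategory.standard

variable {R : Type u} [CommRing R]

open DRing DerivedCategory DerLim Groth.Agent.H4.EV2

/-- predicates on `D(R)` which are thick and closed under `u`-small coproducts. -/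
structure LocPred (P : Dual.D R → Prop) : Prop extends ThickPred P where
  coprod : ∀ (J : Type u) (X : J → Dual.D R) (c : Cofan X), IsColimit c → (∀ j, P (X j)) → P c.pt

variable {P : Dual.D R → Prop} (h : LocPred P)

include h

/-- countable coproducts -/
lemma LocPred.coprod_nat (K : ℕ → Dual.D R) [HasCoproduct K] (hK : ∀ n, P (K n)) : P (∐ K) := by
  let c : Cofan (fun i : ULift.{u} ℕ => K i.down) := Cofan.mk (∐ K) (fun i => Sigma.ι K i.down)
  have hc : IsColimit c :=
    mkCofanColimit c (fun t => Sigma.desc (fun n => t.inj ⟨n⟩))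
      (fun t j => by
        change Sigma.ι K j.down ≫ _ = _
        rw [Sigma.ι_desc])
      (fun t m hm => by
        change (∐ K) ⟶ t.pt at m
        refine Sigma.hom_ext (f := K) m _ (fun n => ?_)
        rw [Sigma.ι_desc]
        exact hm ⟨n⟩)
  exact h.coprod _ _ c hc (fun i => hK i.down)

lemma LocPred.of_isHocolim (K : ℕ → Dual.D R) (f : ∀ n, K n ⟶ K (n + 1)) [HasCoproduct K]
    (L : Dual.D R) (i : ∀ n, K n ⟶ L) (hL : IsHocolim K f L i) (hK : ∀ n, P (K n)) : P L := by
  obtain ⟨c, hc⟩ := hL
  have h1 : P (∐ K) := h.coprod_nat K hK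
  have h2 := rot_of_distTriang _ hc
  exact h.ext₂ _ h2 h1 (h.shift _ 1 h1)

/-- free modules -/
lemma LocPred.free (h1 : P (Dual.inD R R)) (F : Type u) [AddCommGroup F] [Module R F] [Module.Free R F] :
    P (Dual.inD R F) := by
  let J := Module.Free.ChooseBasisIndex R F
  let b := Module.Free.chooseBasis R F
  refine h.toThickPred.of_linearEquiv b.repr.symm ?_
  let c₀ := ModuleCat.finsuppCocone R R J
  have hc₀ : IsColimit c₀ := ModuleCat.finsuppCoconeIsColimit R R J
  have hc₁ := isColimitOfPreserves (HomologicalComplex.single (ModuleCat.{u} R) (ComplexShape.up ℤ) 0) hc₀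
  let c₁ : Cofan (fun _ : J => (HomologicalComplex.single (ModuleCat.{u} R) (ComplexShape.up ℤ) 0).obj (ModuleCat.of R R)) :=
    Cofan.mk ((HomologicalComplex.single (ModuleCat.{u} R) (ComplexShape.up ℤ) 0).obj c₀.pt)
      (fun j => (HomologicalComplex.single (ModuleCat.{u} R) (ComplexShape.up ℤ) 0).map (c₀.inj j))
  have hc₁' : IsColimit c₁ := (isColimitMapCoconeCofanMkEquiv _ _ _) hc₁
  have hc₂ := Groth.Agent.H2.DCoprod.isColimitMapCofan hc₁'
  exact h.coprod J _ _ hc₂ (fun _ => h1)

/-- bounded complexes of free modules -/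
lemma LocPred.bounded_free (h1 : P (Dual.inD R R)) (E : Cx R) (a b : ℤ) (hab : VanishesOutside E a b)
    (hE : ∀ i, Module.Free R (E.X i)) : P (toD E) :=
  h.toThickPred.of_bounded_termwise E a b hab (fun i => by
    haveI := hE i
    exact h.free h1 (E.X i))

open Groth.Agent.H4.ResP Groth.Agent.H4.KProj in
/-- complexes with bounded above homology -/
lemma LocPred.of_homology_bounded (h1 : P (Dual.inD R R)) (X : Cx R) (b : ℤ)
    (hb : ∀ i : ℤ, b < i → IsZero ((homologyFunctor (ModuleCat.{u} R) i).obj (toD X))) : P (toD X) := by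
  haveI := hasExactColimitsOfShape_nat (R := R)
  have hq := quasiIso_ainf hb
  have hh := Groth.Agent.H2.Telescope.isHocolim_of_colimit (seqF hb)
  have hP : P (toD (Einf hb)) := by
    refine h.of_isHocolim _ _ _ _ hh (fun k => ?_)
    have hst := (st hb k)
    refine h.bounded_free h1 _ ((st hb k).n) b ?_ (fun i => ?_)
    · intro i hi
      rcases hi with hi | hi
      · exact (st hb k).low i hi
      · exact (st hb k).baf.1 i hi
    · exact (st hb k).baf.2 i
  haveI : IsIso (Q.map (ainf hb)) := by
    rw [DerivedCategory.isIso_Q_map_iff_quasiIso]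
    exact hq
  exact h.iso (asIso (Q.map (ainf hb))) hP

open Groth.Agent.H4.KProj in
/-- **Localizing induction**: a localizing predicate which holds for `R[0]` holds everywhere. -/
theorem LocPred.all (h1 : P (Dual.inD R R)) (K : Dual.D R) : P K := by
  haveI := hasExactColimitsOfShape_nat (R := R)
  let X := Q.objPreimage K
  let L := tower X
  have hh := Groth.Agent.H2.Telescope.isHocolim_of_colimit L
  have hP : P (toD (colimit L)) := by
    refine h.of_isHocolim _ _ _ _ hh (fun n => ?_)
    refine h.of_homology_bounded h1 (L.obj n) n (fun i hi => ?_)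
    exact Groth.Agent.H4.PC.isZero_homology_toD_of_isZero _ i (isZero_tr_X X hi)
  let ψ : colimit L ≅ X := (colimit.isColimit L).coconePointUniqueUpToIso (isColimitTowerCocone X)
  exact h.iso (Q.mapIso ψ ≪≫ Q.objObjPreimageIso K) hP

end Groth.Agent.H4.Loc1
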