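import Mathlib
import Groth.Agent.H4.Loc1
import Groth.Agent.H4.EV1

/-!
# Natural transformations between exact coproduct-preserving functors out of `D(R)`
-/

set_option autoImplicit false
universe u
open CategoryTheory CategoryTheory.Limits CategoryTheory.Pretriangulated Category

namespace Groth.Agent.H4.Loc2

attribute [local instance] HasDerivedCategory.standard

open DRing DerivedCategory Groth.Agent.H4.EV1 Groth.Agent.H4.EV2 Groth.Agent.H4.Loc1

section General

variable {C D : Type*} [Category C] [Category D]

/-- a natural transformation which is an isomorphism on the objects of a diagram is an isomorphism on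
the colimit, if both functors preserve it. -/
lemma isIso_app_pt {J : Type*} [Category J] {K : J ⥤ C} (c : Cocone K) {F G : C ⥤ D}
    (hF : IsColimit (F.mapCocone c)) (hG : IsColimit (G.mapCocone c)) (τ : F ⟶ G)
    (h : ∀ j, IsIso (τ.app (K.obj j))) : IsIso (τ.app c.pt) := by
  let s : Cocone (K ⋙ G) :=
    { pt := F.obj c.pt
      ι := { app := fun j => inv (τ.app (K.obj j)) ≫ F.map (c.ι.app j)
             naturality := fun j j' f => by
               have e1 : G.map (K.map f) ≫ inv (τ.app (K.obj j')) =
                   inv (τ.app (K.obj j)) ≫ F.map (K.map f) := by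
                 rw [IsIso.eq_inv_comp, ← assoc, ← τ.naturality, assoc, IsIso.hom_inv_id, comp_id]
               dsimp
               rw [comp_id, ← assoc, e1, assoc, ← F.map_comp, c.w] } }
  refine ⟨hG.desc s, ?_, ?_⟩
  · refine hF.hom_ext (fun j => ?_)
    have h1 : (G.mapCocone c).ι.app j ≫ hG.desc s = s.ι.app j := hG.fac s j
    dsimp at h1 ⊢
    rw [comp_id, ← assoc, τ.naturality, assoc, h1, IsIso.hom_inv_id_assoc]
  · refine hG.hom_ext (fun j => ?_)
    have h1 : (G.mapCocone c).ι.app j ≫ hG.desc s = s.ι.app j := hG.fac s j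
    dsimp at h1 ⊢
    rw [comp_id, ← assoc, h1, assoc, τ.naturality, IsIso.inv_hom_id_assoc]

end General

variable {R : Type u} [CommRing R]

/-- `F` sends `u`-small coproduct cofans to coproduct cofans. -/
def PresCoprod {D : Type*} [Category D] (F : Dual.D R ⥤ D) : Prop :=
  ∀ (J : Type u) (X : J → Dual.D R) (c : Cofan X), IsColimit c → Nonempty (IsColimit (F.mapCocone c))

lemma presCoprod_of_adjunction {D : Type*} [Category D] {F : Dual.D R ⥤ D} {G : D ⥤ Dual.D R}
    (adj : F ⊣ G) : PresCoprod F := by
  intro J X c hc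
  haveI := adj.leftAdjoint_preservesColimits
  exact ⟨isColimitOfPreserves F hc⟩

lemma PresCoprod.of_iso {D : Type*} [Category D] {F F' : Dual.D R ⥤ D} (e : F ≅ F')
    (hF : PresCoprod F) : PresCoprod F' := by
  intro J X c hc
  obtain ⟨h⟩ := hF J X c hc
  haveI : PreservesColimit (Discrete.functor X) F := preservesColimit_of_preserves_colimit_cocone hc h
  haveI : PreservesColimit (Discrete.functor X) F' := preservesColimit_of_natIso _ e
  exact ⟨isColimitOfPreserves F' hc⟩

variable {D : Type*} [Category D] [Preadditive D]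

/-- A natural transformation between Yoneda-exact coproduct-preserving functors out of `D(R)`
which is an isomorphism on all shifts of `R[0]` is an isomorphism. -/
theorem isIso_app_of_localizing {F G : Dual.D R ⥤ D} (hF : YExact F) (hG : YExact G)
    (cF : PresCoprod F) (cG : PresCoprod G)
    (τ : F ⟶ G) (h1 : ∀ n : ℤ, IsIso (τ.app ((Dual.inD R R)⟦n⟧)))
    (K : Dual.D R) : IsIso (τ.app K) := by
  let P : Dual.D R → Prop := fun X => ∀ n : ℤ, IsIso (τ.app (X⟦n⟧))
  have hP : LocPred P :=
    { iso := fun {X Y} e hX n =>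
        (NatTrans.isIso_app_iff_of_iso τ ((shiftFunctor (Dual.D R) n).mapIso e)).1 (hX n)
      shift := fun X m hX n =>
        (NatTrans.isIso_app_iff_of_iso τ ((shiftFunctorAdd' (Dual.D R) m n _ rfl).app X)).1
          (hX (m + n))
      ext₂ := fun T hT hX hZ n => by
        have hTn := Triangle.shift_distinguished T hT n
        refine isIso_app_obj₂ hF hG τ _ hTn (hX n) (hZ n) ?_ ?_
        · exact (NatTrans.isIso_app_iff_of_iso τ
            ((shiftFunctorAdd' (Dual.D R) n 1 _ rfl).app T.obj₁)).1 (hX (n + 1))
        · exact (NatTrans.isIso_app_iff_of_iso τ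
            ((shiftFunctorAdd' (Dual.D R) n (-1) _ rfl).app T.obj₃)).1 (hZ (n + -1))
      retract := fun {X Y} i p hip hY n => by
        haveI := hY n
        refine ⟨G.map (i⟦n⟧') ≫ inv (τ.app (Y⟦n⟧)) ≫ F.map (p⟦n⟧'), ?_, ?_⟩
        · rw [← τ.naturality_assoc, IsIso.hom_inv_id_assoc, ← F.map_comp, ← Functor.map_comp, hip,
            CategoryTheory.Functor.map_id, CategoryTheory.Functor.map_id]
        · rw [assoc, assoc, τ.naturality, IsIso.inv_hom_id_assoc, ← G.map_comp,
            ← Functor.map_comp, hip, CategoryTheory.Functor.map_id,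
            CategoryTheory.Functor.map_id]
      coprod := fun J X c hc hX n => by
        have hcn : IsColimit ((shiftFunctor (Dual.D R) n).mapCocone c) :=
          isColimitOfPreserves (shiftFunctor (Dual.D R) n) hc
        let c' : Cofan (fun j => (X j)⟦n⟧) :=
          Cofan.mk (c.pt⟦n⟧) (fun j => (c.inj j)⟦n⟧')
        have hc' : IsColimit c' := (isColimitMapCoconeCofanMkEquiv _ _ _) hcn
        obtain ⟨hF'⟩ := cF J _ c' hc'
        obtain ⟨hG'⟩ := cG J _ c' hc'
        exact isIso_app_pt c' hF' hG' τ (fun j => hX j.as n) }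
  have := hP.all h1 K 0
  exact (NatTrans.isIso_app_iff_of_iso τ ((shiftFunctorZero (Dual.D R) ℤ).app K)).1 this

end Groth.Agent.H4.Loc2
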