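import Mathlib
import Groth.Agent.H4.Cpt2
import Groth.Agent.H4.Loc2

/-!
# Right adjoints of functors preserving perfect generators preserve coproducts
-/

set_option autoImplicit false
universe u
open CategoryTheory CategoryTheory.Limits CategoryTheory.Pretriangulated Category

namespace Groth.Agent.H4.Cpt3

attribute [local instance] HasDerivedCategory.standard

open DRing DerivedCategory Groth.Agent.H4.Cpt1 Groth.Agent.H4.Cpt2 Groth.Agent.H4.EV2
  Groth.Agent.H4.ProjAmp Groth.Agent.H4.AP1 Groth.Agent.H4.Loc2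

section General

variable {𝒯 : Type*} [Category 𝒯] [Preadditive 𝒯]

lemma eq_zero_of_mem_FF {C : 𝒯} {J : Type u} {X : J → 𝒯} {c : Cofan X} (hc : IsColimit c)
    {α : C ⟶ c.pt} (hα : α ∈ FF C c) (h : ∀ k, α ≫ proj hc k = 0) : α = 0 := by
  classical
  rw [mem_FF_iff] at hα
  obtain ⟨S, x, hx⟩ := hα
  have hxk : ∀ k ∈ S, x k = 0 := by
    intro k hk
    have := h k
    rw [hx, Preadditive.sum_comp, Finset.sum_eq_single k] at this
    · rwa [assoc, inj_proj_self, comp_id] at this
    · intro j _ hjk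
      rw [assoc, inj_proj_of_ne hc hjk, comp_zero]
    · intro h'
      exact (h' hk).elim
  rw [hx]
  exact Finset.sum_eq_zero (fun k hk => by rw [hxk k hk, zero_comp])

end General

variable {R A : Type u} [CommRing R] [CommRing A]

/-- a right adjoint `G : D(R) ⥤ D(A)` preserves coproducts if its left adjoint sends the generators
`A[-i]` to weakly compact objects. -/
theorem presCoprod_rightAdjoint {F : Dual.D A ⥤ Dual.D R} {G : Dual.D R ⥤ Dual.D A} (adj : F ⊣ G)
    [F.Additive] (hFW : ∀ i : ℤ, WC.{u} (F.obj (W A i))) : PresCoprod G := by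
  classical
  haveI : G.Additive := adj.right_adjoint_additive
  intro J X c hc
  let c' : Cofan (fun j => G.obj (X j)) := Cofan.mk (∐ fun j => G.obj (X j)) (Sigma.ι _)
  have hc' : IsColimit c' := coproductIsCoproduct _
  let θ : c'.pt ⟶ G.obj c.pt := Cofan.IsColimit.desc hc' (fun j => G.map (c.inj j))
  have hθ : ∀ j, c'.inj j ≫ θ = G.map (c.inj j) := fun j => Cofan.IsColimit.fac hc' _ j
  have hproj : ∀ k, θ ≫ G.map (proj hc k) = proj hc' k := by
    intro k
    refine Cofan.IsColimit.hom_ext hc' _ _ (fun j => ?_)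
    rw [← assoc, hθ, ← G.map_comp]
    by_cases hjk : j = k
    · subst hjk
      rw [inj_proj_self, inj_proj_self, G.map_id]
    · rw [inj_proj_of_ne hc hjk, inj_proj_of_ne hc' hjk, G.map_zero]
  haveI : IsIso θ := by
    apply isIso_of_forall_hom_W_bijective
    intro i
    constructor
    · intro φ φ' (hφ : φ ≫ θ = φ' ≫ θ)
      have h0 : (φ - φ') ≫ θ = 0 := by rw [Preadditive.sub_comp, hφ, sub_self]
      have h1 : φ - φ' = 0 := by
        refine eq_zero_of_mem_FF hc' (wc_W i J _ c' hc' _) (fun k => ?_)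
        rw [← hproj, ← assoc, h0, zero_comp]
      exact sub_eq_zero.1 h1
    · intro ψ
      have hm := hFW i J X c hc ((adj.homEquiv _ _).symm ψ)
      rw [mem_FF_iff] at hm
      obtain ⟨S, x, hx⟩ := hm
      refine ⟨∑ k ∈ S, (adj.homEquiv _ _ (x k)) ≫ c'.inj k, ?_⟩
      change (∑ k ∈ S, (adj.homEquiv _ _ (x k)) ≫ c'.inj k) ≫ θ = ψ
      rw [Preadditive.sum_comp]
      have h2 : ∀ k ∈ S, ((adj.homEquiv _ _ (x k)) ≫ c'.inj k) ≫ θ =
          adj.unit.app _ ≫ G.map (x k ≫ c.inj k) := by
        intro k _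
        rw [assoc, hθ, Adjunction.homEquiv_unit, assoc, ← G.map_comp]
      rw [Finset.sum_congr rfl h2, ← Preadditive.comp_sum, ← G.map_sum, ← hx]
      exact (Adjunction.homEquiv_unit adj _ _ _).symm.trans (Equiv.apply_symm_apply _ _)
  have hcG : IsColimit (Cofan.mk (G.obj c.pt) (fun j => G.map (c.inj j))) :=
    IsColimit.ofIsoColimit hc' (Cofan.ext (asIso θ) (fun j => hθ j))
  exact ⟨(Cofan.isColimitMapCoconeEquiv G X c).symm hcG⟩

end Groth.Agent.H4.Cpt3
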