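import Mathlib
import Groth.Prelude.Def_DRing4
import Groth.Prelude.Def_DTen
import Groth.Prelude.Def_DTen4
import Groth.Agent.H4.LK5
import Groth.Agent.H4.KProj6
import Groth.Agent.H4.TC11

/-!
# Derived base change is computed termwise on K-flat complexes
-/

open CategoryTheory Category Limits DerivedCategory MonoidalCategory

universe u

namespace Groth.Agent.H4.LK6

open Groth.Agent.H4.LK1 Groth.Agent.H4.LK2 Groth.Agent.H4.LK3 Groth.Agent.H4.LK4
open Groth.Agent.H4.TC3 Groth.Agent.H4.TC4 Groth.Agent.H4.TC8 Groth.Agent.H4.TC10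
open Groth.Agent.H4.KProj

attribute [local instance] HasDerivedCategory.standard

variable {R A : Type u} [CommRing R] [CommRing A] (φ : R →+* A)

/-- the adjunction `extCx ⊣ resCx` on complexes -/
noncomputable abbrev adjCx : DTen.extCx φ ⊣ DTen.resCx φ :=
  adjC (ModuleCat.extendRestrictScalarsAdj.{u, u, u} φ) (ComplexShape.up ℤ)

lemma adjCx_unit : (adjCx φ).unit = DTen.unitCx φ := rfl

/-- restriction of scalars preserves acyclicity -/
lemma acyclic_resCx (L : Cx A) (hL : L.Acyclic) : ((DTen.resCx φ).obj L).Acyclic := by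
  intro i
  have h := hL i
  rw [HomologicalComplex.exactAt_iff' _ (i - 1) i (i + 1) (by simp) (by simp)] at h ⊢
  exact h.map (ModuleCat.restrictScalars.{u} φ)

/-- extension of scalars preserves K-projectivity -/
lemma isKProjective_extCx (K : Cx R) [K.IsKProjective] : ((DTen.extCx φ).obj K).IsKProjective where
  nonempty_homotopy_zero {L} f hL := by
    let f' : K ⟶ (DTen.resCx φ).obj L := ((adjCx φ).homEquiv K L) f
    have h : Homotopy f' 0 := CochainComplex.IsKProjective.homotopyZero f' (acyclic_resCx φ L hL)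
    have h2 : Homotopy ((DTen.extCx φ).map f') ((DTen.extCx φ).map 0) :=
      (ModuleCat.extendScalars.{u, u, u} φ).mapHomotopy h
    have h3 := h2.compRight ((adjCx φ).counit.app L)
    have e1 : (DTen.extCx φ).map f' ≫ (adjCx φ).counit.app L = f := by
      have := (adjCx φ).homEquiv_counit (X := K) (Y := L) (g := f')
      rw [← this]
      exact Equiv.symm_apply_apply _ _
    have e2 : (DTen.extCx φ).map (0 : K ⟶ (DTen.resCx φ).obj L) ≫ (adjCx φ).counit.app L = 0 := by
      rw [Functor.map_zero, zero_comp]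
    exact ⟨(Homotopy.ofEq e1.symm).trans (h3.trans (Homotopy.ofEq e2))⟩

section Base

variable [DTen.HasLBase φ]

lemma baseγ_comp_map_Q (K : Cx R) (Y : Cx A) (g : (DTen.extCx φ).obj K ⟶ Y) :
    (DTen.baseγ φ).app K ≫ (DRing.restrictD φ).map (DerivedCategory.Q.map g) =
      DerivedCategory.Q.map ((adjCx φ).homEquiv K Y g) ≫ (DTen.resFactors φ).inv.app Y := by
  have h1 := (DTen.resFactors φ).inv.naturality g
  dsimp at h1
  dsimp [DTen.baseγ]
  rw [assoc, ← h1, ← assoc, ← Functor.map_comp]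
  rfl

/-- the map `g ↦ baseγ ≫ res g` -/
noncomputable def ψ (K : Cx R) (N : Dual.D A) (g : DerivedCategory.Q.obj ((DTen.extCx φ).obj K) ⟶ N) :
    DerivedCategory.Q.obj K ⟶ (DRing.restrictD φ).obj N :=
  (DTen.baseγ φ).app K ≫ (DRing.restrictD φ).map g

lemma ψ_bijective_Q (K : Cx R) [K.IsKProjective] (Y : Cx A) :
    Function.Bijective (ψ φ K (DerivedCategory.Q.obj Y)) := by
  haveI := isKProjective_extCx φ K
  have hK := isQProj_of_isKProjective K
  have hE := isQProj_of_isKProjective ((DTen.extCx φ).obj K)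
  constructor
  · intro g₁ g₂ h
    obtain ⟨g₁', rfl⟩ := hE.surj Y g₁
    obtain ⟨g₂', rfl⟩ := hE.surj Y g₂
    dsimp only [ψ] at h
    rw [baseγ_comp_map_Q, baseγ_comp_map_Q] at h
    have h' := (cancel_mono _).1 h
    obtain ⟨H⟩ := hK.htpy _ _ _ h'
    have e : ∀ g' : (DTen.extCx φ).obj K ⟶ Y,
        (DTen.extCx φ).map ((adjCx φ).homEquiv K Y g') ≫ (adjCx φ).counit.app Y = g' := by
      intro g'
      have := (adjCx φ).homEquiv_counit (X := K) (Y := Y) (g := (adjCx φ).homEquiv K Y g')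
      rw [← this]
      exact Equiv.symm_apply_apply _ _
    have H2 : Homotopy ((DTen.extCx φ).map ((adjCx φ).homEquiv K Y g₁'))
        ((DTen.extCx φ).map ((adjCx φ).homEquiv K Y g₂')) :=
      (ModuleCat.extendScalars.{u, u, u} φ).mapHomotopy H
    have H3 := H2.compRight ((adjCx φ).counit.app Y)
    rw [← e g₁', ← e g₂']
    exact Q_map_eq_of_homotopy H3
  · intro h
    obtain ⟨f, hf⟩ := hK.surj _ (h ≫ (DTen.resFactors φ).hom.app Y)
    refine ⟨DerivedCategory.Q.map (((adjCx φ).homEquiv K Y).symm f), ?_⟩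
    dsimp only [ψ]
    rw [baseγ_comp_map_Q, Equiv.apply_symm_apply, hf, assoc, Iso.hom_inv_id_app]
    exact comp_id _

lemma ψ_bijective (K : Cx R) [K.IsKProjective] (N : Dual.D A) :
    Function.Bijective (ψ φ K N) := by
  let e : DerivedCategory.Q.obj (DerivedCategory.Q.objPreimage N) ≅ N :=
    DerivedCategory.Q.objObjPreimageIso N
  have h := ψ_bijective_Q φ K (DerivedCategory.Q.objPreimage N)
  have key : ψ φ K N = (fun t => t ≫ (DRing.restrictD φ).map e.hom) ∘
      ψ φ K (DerivedCategory.Q.obj (DerivedCategory.Q.objPreimage N)) ∘ (fun g => g ≫ e.inv) := by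
    funext g
    dsimp [ψ]
    rw [assoc, ← Functor.map_comp, assoc, e.inv_hom_id, comp_id]
  rw [key]
  refine Function.Bijective.comp ?_ (Function.Bijective.comp h ?_)
  · constructor
    · intro a b hab
      exact (cancel_mono _).1 hab
    · intro t
      refine ⟨t ≫ (DRing.restrictD φ).map e.inv, ?_⟩
      dsimp
      rw [assoc, ← Functor.map_comp, e.inv_hom_id, CategoryTheory.Functor.map_id, comp_id]
  · constructor
    · intro a b hab
      exact (cancel_mono _).1 hab
    · intro t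
      exact ⟨t ≫ e.hom, by simp⟩

/-- derived base change is computed termwise on K-projective complexes. -/
theorem isIso_baseCmp_of_isKProjective (K : Cx R) [K.IsKProjective] :
    IsIso ((DTen.baseCmp φ).app K) := by
  rw [isIso_iff_coyoneda_map_bijective]
  intro N
  have h := ψ_bijective φ K N
  have key : ψ φ K N = ((DTen.baseAdj φ).homEquiv _ _) ∘
      (fun x : DerivedCategory.Q.obj ((DTen.extCx φ).obj K) ⟶ N => (DTen.baseCmp φ).app K ≫ x) := by
    funext g
    dsimp [ψ]
    rw [Adjunction.homEquiv_unit, Functor.map_comp, ← assoc]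
    congr 1
    exact (DTen.baseCmp_fac φ K).symm
  rw [key] at h
  exact (Function.Bijective.of_comp_iff' ((DTen.baseAdj φ).homEquiv _ _).bijective _).1 h

end Base

section KFlatBase

open Groth.Agent.H4.TC5 Groth.Agent.H4.TC11

/-- if `E` is concentrated in degree `q₀`, acyclicity of `K ⊗ E` is acyclicity of `K ⊗ E^{q₀}`. -/
theorem acyc_tensorCx_of_acyc_tensor_concentrated (K E : Cx R) (q₀ : ℤ)
    (hE : ∀ q, q ≠ q₀ → IsZero (E.X q)) (h : Acyc (K ⊗ E)) : Acyc (DRing.tensorCx K (E.X q₀)) := by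
  rw [acyc_iff_exactAt] at h ⊢
  intro m
  rw [HomologicalComplex.exactAt_iff' _ (m - 1) m (m + 1) (by simp) (by simp)]
  have hex := (HomologicalComplex.exactAt_iff' (K ⊗ E) (m + q₀ - 1) (m + q₀)
    (m + q₀ + 1) (by simp) (by simp)).1 (h (m + q₀))
  have h1 : m - 1 + q₀ = m + q₀ - 1 := by omega
  have h2 : m + q₀ = m + q₀ := rfl
  have h3 : m + 1 + q₀ = m + q₀ + 1 := by omega
  haveI i1 := isIso_ι_of_concentrated₂ (curriedTensor (ModuleCat.{u} R)) K E q₀ hE (m - 1)
    (m + q₀ - 1) h1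
  haveI i2 := isIso_ι_of_concentrated₂ (curriedTensor (ModuleCat.{u} R)) K E q₀ hE m
    (m + q₀) h2
  haveI i3 := isIso_ι_of_concentrated₂ (curriedTensor (ModuleCat.{u} R)) K E q₀ hE (m + 1)
    (m + q₀ + 1) h3
  refine ShortComplex.exact_of_iso (ShortComplex.isoMk
    (@asIso _ _ _ _ _ i1) (@asIso _ _ _ _ _ i2) (@asIso _ _ _ _ _ i3) ?_ ?_).symm hex
  · exact (ι_d_of_concentrated₂ (curriedTensor (ModuleCat.{u} R)) K E q₀ hE (m - 1) (m + q₀ - 1)
      m (m + q₀) (by omega) (by omega) (by omega))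
  · exact (ι_d_of_concentrated₂ (curriedTensor (ModuleCat.{u} R)) K E q₀ hE m (m + q₀)
      (m + 1) (m + q₀ + 1) (by omega) (by omega) (by omega))

/-- a K-flat acyclic complex stays acyclic after tensoring with any module. -/
theorem acyc_tensorCx_of_kflat_acyc (C : Cx R) (hC : KFlat C) (hac : Acyc C)
    (M : ModuleCat.{u} R) : Acyc (DRing.tensorCx C M) := by
  let E : Cx R := (HomologicalComplex.single (ModuleCat.{u} R) (ComplexShape.up ℤ) 0).obj M
  have h1 : Acyc (E ⊗ C) := acyc_tensor_of_kflat_acyc C hC hac E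
  have h2 : Acyc (C ⊗ E) := Acyc.of_iso (braid E C) h1
  have h3 := acyc_tensorCx_of_acyc_tensor_concentrated C E 0
    (fun q hq => HomologicalComplex.isZero_single_obj_X _ _ _ _ hq) h2
  exact Acyc.of_iso ((tensorCxFunctor C).mapIso
    (HomologicalComplex.singleObjXSelf (ComplexShape.up ℤ) 0 M)) h3

end KFlatBase

section ExtAcyc

/-- `A` as an `R`-module -/
noncomputable abbrev Ares : ModuleCat.{u} R :=
  (ModuleCat.restrictScalars.{u} φ).obj (ModuleCat.of A A)

lemma ext_map_apply {M N : ModuleCat.{u} R} (l : M ⟶ N)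
    (x : TensorProduct R (Ares φ) M) :
    (((ModuleCat.extendScalars.{u, u, u} φ).map l).hom x : TensorProduct R (Ares φ) N) =
      l.hom.lTensor (Ares φ) x := rfl

lemma whisker_apply {M N : ModuleCat.{u} R} (l : M ⟶ N)
    (x : TensorProduct R M (Ares φ)) :
    ((l ▷ Ares φ).hom x : TensorProduct R N (Ares φ)) = l.hom.rTensor (Ares φ) x := rfl

/-- if `C ⊗_R A` is acyclic then the base change of `C` is acyclic. -/
theorem acyc_extCx_of_acyc_tensorCx (C : Cx R) (h : Acyc (DRing.tensorCx C (Ares φ))) :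
    Acyc ((DTen.extCx φ).obj C) := by
  rw [acyc_iff_exactAt] at h ⊢
  intro n
  have hn := h n
  rw [HomologicalComplex.exactAt_iff' _ (n - 1) n (n + 1) (by simp) (by simp),
    ShortComplex.moduleCat_exact_iff] at hn ⊢
  intro (x₂ : TensorProduct R (Ares φ) (C.X n)) hx₂
  change (((ModuleCat.extendScalars.{u, u, u} φ).map (C.d n (n + 1))).hom x₂ :
    TensorProduct R (Ares φ) (C.X (n + 1))) = 0 at hx₂
  rw [ext_map_apply] at hx₂
  have h0 : (C.d n (n + 1)).hom.rTensor (Ares φ) (TensorProduct.comm R (Ares φ) (C.X n) x₂) = 0 := by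
    rw [LinearMap.rTensor_comm, hx₂]
    exact map_zero (TensorProduct.comm R (Ares φ) (C.X (n + 1)))
  obtain ⟨(y₁ : TensorProduct R (C.X (n - 1)) (Ares φ)), hy₁⟩ :=
    hn (TensorProduct.comm R (Ares φ) (C.X n) x₂) h0
  change (((C.d (n - 1) n) ▷ Ares φ).hom y₁ : TensorProduct R (C.X n) (Ares φ)) =
    TensorProduct.comm R (Ares φ) (C.X n) x₂ at hy₁
  rw [whisker_apply] at hy₁
  refine ⟨((TensorProduct.comm R (Ares φ) (C.X (n - 1))).symm y₁ :
    TensorProduct R (Ares φ) (C.X (n - 1))), ?_⟩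
  change (((ModuleCat.extendScalars.{u, u, u} φ).map (C.d (n - 1) n)).hom
    ((TensorProduct.comm R (Ares φ) (C.X (n - 1))).symm y₁) : TensorProduct R (Ares φ) (C.X n)) = x₂
  rw [ext_map_apply]
  apply (TensorProduct.comm R (Ares φ) (C.X n)).injective
  rw [← LinearMap.rTensor_comm, LinearEquiv.apply_symm_apply, hy₁]

end ExtAcyc

section KFlatBase2

/-- base change preserves quasi-isomorphisms between K-flat complexes. -/
theorem quasiIso_extCx_map {T K : Cx R} (a : T ⟶ K) (hT : KFlat T) (hK : KFlat K)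
    (ha : QuasiIso a) : QuasiIso ((DTen.extCx φ).map a) := by
  rw [← acyc_cone_iff]
  have h1 : KFlat (CochainComplex.mappingCone a) := KFlat.cone a hT hK
  have h2 : Acyc (CochainComplex.mappingCone a) := (acyc_cone_iff a).2 ha
  have h3 := acyc_extCx_of_acyc_tensorCx φ _ (acyc_tensorCx_of_kflat_acyc _ h1 h2 (Ares φ))
  exact Acyc.of_iso (CochainComplex.mappingCone.mapHomologicalComplexIso a
    (ModuleCat.extendScalars.{u, u, u} φ)) h3

/-- S13894: derived base change is computed termwise on K-flat complexes. -/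
theorem isIso_baseCmp_of_kflat [DTen.HasLBase φ] (K : Cx R) (hK : KFlat K) :
    IsIso ((DTen.baseCmp φ).app K) := by
  obtain ⟨T, a, hT, -, hTf, ha⟩ := exists_kproj_free_kflat K
  haveI := hT
  haveI := isIso_baseCmp_of_isKProjective φ T
  haveI := ha
  haveI := quasiIso_extCx_map φ a hTf hK ha
  have hnat := (DTen.baseCmp φ).naturality a
  dsimp at hnat
  have : (DTen.baseCmp φ).app K = inv ((DTen.LBase φ).map (DerivedCategory.Q.map a)) ≫
      (DTen.baseCmp φ).app T ≫ DerivedCategory.Q.map ((DTen.extCx φ).map a) := by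
    rw [← hnat, IsIso.inv_hom_id_assoc]
  rw [this]
  infer_instance

end KFlatBase2

section Split

lemma htpyInv₂_mix₂ : HtpyInv₂ (DTen.mix₂ φ) := by
  intro K K' L L' f f' g g' h₁ h₂
  have h₁' : Homotopy ((DTen.extCx φ).map f) ((DTen.extCx φ).map f') :=
    (ModuleCat.extendScalars.{u, u, u} φ).mapHomotopy h₁
  exact Q_map_eq_of_homotopy (tensorHomotopy h₁' h₂)

/-- the binder `HasLTenMix` holds. -/
theorem hasLTenMix : DTen.HasLTenMix φ := hasLeftDerivedFunctor₂ _ (htpyInv₂_mix₂ φ)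

theorem isIso_εMix_of_isKProjective [DTen.HasLTenMix φ] (P : Cx R) (T : Cx A) [P.IsKProjective]
    [T.IsKProjective] : IsIso ((DTen.εMix φ).app (P, T)) :=
  isIso_counit₂_of_isKProjective _ (htpyInv₂_mix₂ φ) _ (DTen.εMix φ) P T

variable [DTen.HasLTen A] [DTen.HasLBase φ] [DTen.HasLTenMix φ]

/-- S13893 -/
theorem isIso_split_app (E : Dual.D R) (N : Dual.D A) : IsIso ((DTen.split φ).app (E, N)) := by
  obtain ⟨P, hP, -, hPf, ⟨e₁⟩⟩ := exists_kproj_kflat_iso E
  obtain ⟨T, hT, -, hTf, ⟨e₂⟩⟩ := exists_kproj_kflat_iso N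
  haveI := hP
  haveI := hT
  let e : ((DerivedCategory.Q.obj P, DerivedCategory.Q.obj T) : Dual.D R × Dual.D A) ≅ (E, N) :=
    Iso.prod e₁ e₂
  rw [← NatTrans.isIso_app_iff_of_iso (DTen.split φ) e]
  have hfac := DTen.split_fac φ (P, T)
  haveI := isIso_εMix_of_isKProjective φ P T
  haveI h1 : IsIso ((DTen.baseCmp φ).app P) := isIso_baseCmp_of_kflat φ P hPf
  haveI h2 : IsIso ((DTen.ε A).app ((DTen.extCx φ).obj P, T)) := isIso_ε_of_kflat _ _ (Or.inr hTf)
  haveI : IsIso ((DTen.splitβ φ).app (P, T)) := by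
    dsimp [DTen.splitβ]
    haveI i0 : IsIso (Prod.mkHom ((DTen.baseCmp φ).app P) (𝟙 (DerivedCategory.Q.obj T))) := by
      rw [isIso_prod_iff]
      exact ⟨h1, inferInstance⟩
    haveI i1 := Functor.map_isIso (DTen.LTen₂ A)
      (Prod.mkHom ((DTen.baseCmp φ).app P) (𝟙 (DerivedCategory.Q.obj T)))
    exact IsIso.comp_isIso' i1 h2
  have : (DTen.split φ).app ((DTen.QMix R A).obj (P, T)) =
      (DTen.splitβ φ).app (P, T) ≫ inv ((DTen.εMix φ).app (P, T)) := by
    rw [← hfac, assoc, IsIso.hom_inv_id, comp_id]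
  change IsIso ((DTen.split φ).app ((DTen.QMix R A).obj (P, T)))
  rw [this]
  infer_instance

end Split

end Groth.Agent.H4.LK6
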