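import Mathlib
import Groth.Prelude.Def_DRing4
import Groth.Prelude.Def_DTen
import Groth.Prelude.Def_DTen4
import Groth.Prelude.Def_DTen5
import Groth.Agent.H4.LK6

/-!
# The projection formula for complexes and base change of K-flat complexes
-/

open CategoryTheory Category Limits MonoidalCategory

universe u

namespace Groth.Agent.H4.LK7

variable {R A : Type u} [CommRing R] [CommRing A] (φ : R →+* A)

open DTen

/-- the projection-formula map on modules -/
noncomputable def pf (M : ModuleCat.{u} A) (N : ModuleCat.{u} R) :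
    (resM φ).obj M ⊗ N ⟶ (resM φ).obj (M ⊗ (ModuleCat.extendScalars.{u, u, u} φ).obj N) :=
  ((resM φ).obj M ◁ (ModuleCat.extendRestrictScalarsAdj.{u, u, u} φ).unit.app N) ≫
    resTen₀app φ M ((ModuleCat.extendScalars.{u, u, u} φ).obj N)

lemma pf_tmul (M : ModuleCat.{u} A) (N : ModuleCat.{u} R) (m : M) (n : N) :
    (pf φ M N).hom ((show (resM φ).obj M from m) ⊗ₜ[R] n) =
      (show (resM φ).obj (M ⊗ (ModuleCat.extendScalars.{u, u, u} φ).obj N) from
        (m ⊗ₜ[A] ((1 : A) ⊗ₜ[R] n : (ModuleCat.extendScalars.{u, u, u} φ).obj N) :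
          (M ⊗ (ModuleCat.extendScalars.{u, u, u} φ).obj N : ModuleCat.{u} A))) := rfl

/-- `A` viewed as `R`-module -/
noncomputable abbrev A' : ModuleCat.{u} R := (ModuleCat.restrictScalars.{u} φ).obj (ModuleCat.of A A)

/-- inner additive map `a ⊗ n ↦ (a • m) ⊗ n` -/
noncomputable def pfInvInner (M : ModuleCat.{u} A) (N : ModuleCat.{u} R) (m : M) :
    TensorProduct R (A' φ) N →+ TensorProduct R ((resM φ).obj M) N :=
  TensorProduct.liftAddHom
    { toFun := fun (a : A' φ) =>
        { toFun := fun n => (show (resM φ).obj M from ((show A from a) • m)) ⊗ₜ[R] n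
          map_zero' := TensorProduct.tmul_zero _ _
          map_add' := fun n n' => TensorProduct.tmul_add _ _ _ }
      map_zero' := by
        ext n
        change (show (resM φ).obj M from ((0 : A) • m)) ⊗ₜ[R] n = 0
        rw [zero_smul]
        exact TensorProduct.zero_tmul _ _
      map_add' := fun a a' => by
        ext n
        change (show (resM φ).obj M from (((show A from a) + (show A from a')) • m)) ⊗ₜ[R] n = _
        rw [add_smul]
        exact TensorProduct.add_tmul _ _ _ }
    (fun r a n => by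
      change (show (resM φ).obj M from ((φ r * (show A from a)) • m)) ⊗ₜ[R] n =
        (show (resM φ).obj M from ((show A from a) • m)) ⊗ₜ[R] (r • n)
      rw [← TensorProduct.smul_tmul, mul_smul]
      rfl)

lemma pfInvInner_tmul (M : ModuleCat.{u} A) (N : ModuleCat.{u} R) (m : M) (a : A) (n : N) :
    pfInvInner φ M N m ((show A' φ from a) ⊗ₜ[R] n) =
      (show (resM φ).obj M from (a • m)) ⊗ₜ[R] n := rfl

lemma pfInvInner_add (M : ModuleCat.{u} A) (N : ModuleCat.{u} R) (m m' : M)
    (x : TensorProduct R (A' φ) N) :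
    pfInvInner φ M N (m + m') x = pfInvInner φ M N m x + pfInvInner φ M N m' x := by
  induction x using TensorProduct.induction_on with
  | zero => simp
  | tmul a n =>
    change (show (resM φ).obj M from ((show A from a) • (m + m'))) ⊗ₜ[R] n = _
    rw [smul_add]
    exact TensorProduct.add_tmul _ _ _
  | add x y hx hy => rw [map_add, hx, hy, map_add, map_add]; abel

lemma pfInvInner_zero (M : ModuleCat.{u} A) (N : ModuleCat.{u} R)
    (x : TensorProduct R (A' φ) N) : pfInvInner φ M N 0 x = 0 := by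
  induction x using TensorProduct.induction_on with
  | zero => simp
  | tmul a n =>
    change (show (resM φ).obj M from ((show A from a) • (0 : M))) ⊗ₜ[R] n = _
    rw [smul_zero]
    exact TensorProduct.zero_tmul _ _
  | add x y hx hy => rw [map_add, hx, hy, add_zero]

lemma pfInvInner_smul (M : ModuleCat.{u} A) (N : ModuleCat.{u} R) (b : A) (m : M)
    (x : (ModuleCat.extendScalars.{u, u, u} φ).obj N) :
    pfInvInner φ M N (b • m) x = pfInvInner φ M N m (b • x) := by
  induction x using TensorProduct.induction_on with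
  | zero =>
    change pfInvInner φ M N (b • m) 0 =
      pfInvInner φ M N m (b • (0 : (ModuleCat.extendScalars.{u, u, u} φ).obj N))
    rw [smul_zero]
    exact (map_zero _).trans (map_zero _).symm
  | tmul a n =>
    change (show (resM φ).obj M from ((show A from a) • (b • m))) ⊗ₜ[R] n =
      (show (resM φ).obj M from ((b * (show A from a)) • m)) ⊗ₜ[R] n
    rw [smul_smul, mul_comm]
  | add x y hx hy =>
    change pfInvInner φ M N (b • m) (x + y) = pfInvInner φ M N m
      (b • ((show (ModuleCat.extendScalars.{u, u, u} φ).obj N from x) +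
        (show (ModuleCat.extendScalars.{u, u, u} φ).obj N from y)))
    rw [smul_add, map_add]
    exact (congrArg₂ (· + ·) hx hy).trans (map_add _ _ _).symm

/-- the inverse of the projection-formula map, as an additive map -/
noncomputable def pfInv (M : ModuleCat.{u} A) (N : ModuleCat.{u} R) :
    TensorProduct A M ((ModuleCat.extendScalars.{u, u, u} φ).obj N) →+
      TensorProduct R ((resM φ).obj M) N :=
  TensorProduct.liftAddHom
    { toFun := fun m => pfInvInner φ M N m
      map_zero' := by ext x; exact pfInvInner_zero φ M N x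
      map_add' := fun m m' => by ext x; exact pfInvInner_add φ M N m m' x }
    (fun b m x => pfInvInner_smul φ M N b m x)

lemma pfInv_tmul (M : ModuleCat.{u} A) (N : ModuleCat.{u} R) (m : M) (a : A) (n : N) :
    pfInv φ M N (m ⊗ₜ[A] ((show A' φ from a) ⊗ₜ[R] n : (ModuleCat.extendScalars.{u, u, u} φ).obj N)) =
      (show (resM φ).obj M from (a • m)) ⊗ₜ[R] n := rfl

lemma pfInv_pf (M : ModuleCat.{u} A) (N : ModuleCat.{u} R)
    (x : TensorProduct R ((resM φ).obj M) N) :
    pfInv φ M N ((pf φ M N).hom x) = x := by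
  induction x using TensorProduct.induction_on with
  | zero => rw [map_zero]; exact map_zero _
  | tmul m n =>
    change (show (resM φ).obj M from ((1 : A) • (show M from m))) ⊗ₜ[R] n = m ⊗ₜ[R] n
    rw [one_smul]
  | add x y hx hy =>
    rw [map_add]
    exact (map_add _ _ _).trans (congrArg₂ (· + ·) hx hy)

lemma pf_pfInv_tmul (M : ModuleCat.{u} A) (N : ModuleCat.{u} R) (m : M)
    (z : (ModuleCat.extendScalars.{u, u, u} φ).obj N) :
    ((pf φ M N).hom (pfInv φ M N (m ⊗ₜ[A] z)) : TensorProduct A M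
      ((ModuleCat.extendScalars.{u, u, u} φ).obj N)) = m ⊗ₜ[A] z := by
  induction z using TensorProduct.induction_on with
  | zero =>
    change ((pf φ M N).hom (pfInv φ M N (m ⊗ₜ[A]
      (0 : (ModuleCat.extendScalars.{u, u, u} φ).obj N))) : TensorProduct A M
      ((ModuleCat.extendScalars.{u, u, u} φ).obj N)) = m ⊗ₜ[A]
        (0 : (ModuleCat.extendScalars.{u, u, u} φ).obj N)
    rw [TensorProduct.tmul_zero, map_zero]
    exact map_zero _
  | tmul a n =>
    let w1 : (ModuleCat.extendScalars.{u, u, u} φ).obj N := (1 : A) ⊗ₜ[R] n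
    let wa : (ModuleCat.extendScalars.{u, u, u} φ).obj N := (show A from a) ⊗ₜ[R] n
    change (((show A from a) • m) ⊗ₜ[A] w1 : TensorProduct A M
      ((ModuleCat.extendScalars.{u, u, u} φ).obj N)) = m ⊗ₜ[A] wa
    have h1 := TensorProduct.smul_tmul (R := A) (show A from a) m w1
    have h2 : (show A from a) • w1 = wa := by
      have := ModuleCat.ExtendScalars.smul_tmul φ (M := N) (show A from a) (1 : A) n
      rw [mul_one] at this
      exact this
    exact h1.trans (congrArg (fun t => m ⊗ₜ[A] t) h2)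
  | add x y hx hy =>
    change ((pf φ M N).hom (pfInv φ M N (m ⊗ₜ[A]
      ((show (ModuleCat.extendScalars.{u, u, u} φ).obj N from x) +
        (show (ModuleCat.extendScalars.{u, u, u} φ).obj N from y)))) : TensorProduct A M
      ((ModuleCat.extendScalars.{u, u, u} φ).obj N)) = m ⊗ₜ[A]
        ((show (ModuleCat.extendScalars.{u, u, u} φ).obj N from x) +
        (show (ModuleCat.extendScalars.{u, u, u} φ).obj N from y))
    rw [TensorProduct.tmul_add, map_add]
    exact (map_add _ _ _).trans (congrArg₂ (· + ·) hx hy)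

lemma pf_pfInv (M : ModuleCat.{u} A) (N : ModuleCat.{u} R)
    (y : TensorProduct A M ((ModuleCat.extendScalars.{u, u, u} φ).obj N)) :
    ((pf φ M N).hom (pfInv φ M N y) : TensorProduct A M
      ((ModuleCat.extendScalars.{u, u, u} φ).obj N)) = y := by
  induction y using TensorProduct.induction_on with
  | zero => rw [map_zero]; exact map_zero _
  | tmul m z => exact pf_pfInv_tmul φ M N m z
  | add x y hx hy =>
    rw [map_add]
    exact (map_add _ _ _).trans (congrArg₂ (· + ·) hx hy)

instance isIso_pf (M : ModuleCat.{u} A) (N : ModuleCat.{u} R) : IsIso (pf φ M N) := by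
  rw [ConcreteCategory.isIso_iff_bijective]
  constructor
  · intro x y hxy
    have := congrArg (pfInv φ M N) hxy
    exact (pfInv_pf φ M N x).symm.trans (this.trans (pfInv_pf φ M N y))
  · intro y
    exact ⟨pfInv φ M N y, pf_pfInv φ M N y⟩


section Complexes

open Groth.Agent.H4.TC3 Groth.Agent.H4.TC4

/-- the projection formula map on complexes -/
noncomputable def pfCx (L : Cx A) (K : Cx R) :
    (resCx φ).obj L ⊗ K ⟶ (resCx φ).obj (L ⊗ (extCx φ).obj K) :=
  ((resCx φ).obj L ◁ (unitCx φ).app K) ≫ resTenCx φ L ((extCx φ).obj K)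

lemma ι_pfCx (L : Cx A) (K : Cx R) (p q n : ℤ) (h : p + q = n) :
    HomologicalComplex.ιTensorObj ((resCx φ).obj L) K p q n h ≫ (pfCx φ L K).f n =
      pf φ (L.X p) (K.X q) ≫
        (resM φ).map (HomologicalComplex.ιTensorObj L ((extCx φ).obj K) p q n h) := by
  dsimp only [pfCx]
  rw [HomologicalComplex.comp_f]
  have h1 : HomologicalComplex.ιTensorObj ((resCx φ).obj L) K p q n h ≫
      ((resCx φ).obj L ◁ (unitCx φ).app K).f n =
      (((resCx φ).obj L).X p ◁ ((unitCx φ).app K).f q) ≫
        HomologicalComplex.ιTensorObj ((resCx φ).obj L) ((resCx φ).obj ((extCx φ).obj K)) p q n h := by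
    have := HomologicalComplex.ι_mapBifunctorMap (𝟙 ((resCx φ).obj L)) ((unitCx φ).app K)
      (curriedTensor (ModuleCat.{u} R)) (ComplexShape.up ℤ) p q n h
    rw [HomologicalComplex.id_f, CategoryTheory.Functor.map_id, NatTrans.id_app, id_comp] at this
    exact this
  rw [reassoc_of% h1, ι_resTenCx φ L ((extCx φ).obj K) p q n h]
  exact (assoc _ _ _).symm

/-- the tensor bicomplex of `(res L, K)` -/
noncomputable abbrev B₁ (L : Cx A) (K : Cx R) :
    HomologicalComplex₂ (ModuleCat.{u} R) (ComplexShape.up ℤ) (ComplexShape.up ℤ) :=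
  tenBicx ((resCx φ).obj L) K

/-- `res` of the tensor bicomplex of `(L, ext K)` -/
noncomputable abbrev B₂ (L : Cx A) (K : Cx R) :
    HomologicalComplex₂ (ModuleCat.{u} R) (ComplexShape.up ℤ) (ComplexShape.up ℤ) :=
  (TotMap.map₂ (resM φ) (ComplexShape.up ℤ) (ComplexShape.up ℤ)).obj
    (tenBicx L ((extCx φ).obj K))

/-- the termwise isomorphism of graded objects -/
noncomputable def γ (L : Cx A) (K : Cx R) :
    (B₁ φ L K).toGradedObject ≅ (B₂ φ L K).toGradedObject :=
  GradedObject.isoMk _ _ (fun i => @asIso _ _ _ _ (pf φ (L.X i.1) (K.X i.2)) (isIso_pf φ _ _))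

lemma γ_hom (L : Cx A) (K : Cx R) (p q : ℤ) :
    (γ φ L K).hom (p, q) = pf φ (L.X p) (K.X q) := rfl

lemma pfCx_f_eq (L : Cx A) (K : Cx R) (n : ℤ) :
    (pfCx φ L K).f n =
      GradedObject.mapMap (γ φ L K).hom
        (ComplexShape.π (ComplexShape.up ℤ) (ComplexShape.up ℤ) (ComplexShape.up ℤ)) n ≫
      (TotMap.mapTotalXIso (resM φ) (tenBicx L ((extCx φ).obj K)) (ComplexShape.up ℤ) n).inv := by
  refine HomologicalComplex.mapBifunctor.hom_ext (fun p q h => ?_)
  have h1 := ι_pfCx φ L K p q n h
  refine h1.trans ?_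
  have h2 := GradedObject.ι_mapMap (γ φ L K).hom
    (ComplexShape.π (ComplexShape.up ℤ) (ComplexShape.up ℤ) (ComplexShape.up ℤ)) ⟨p, q⟩ n h
  have h3 := TotMap.ιTotal_mapTotalXIso_inv (resM φ) (tenBicx L ((extCx φ).obj K))
    (ComplexShape.up ℤ) p q n h
  erw [reassoc_of% h2]
  erw [h3]
  rw [γ_hom]
  rfl

lemma isIso_mapMap_γ (L : Cx A) (K : Cx R) (n : ℤ) :
    IsIso (GradedObject.mapMap (γ φ L K).hom
      (ComplexShape.π (ComplexShape.up ℤ) (ComplexShape.up ℤ) (ComplexShape.up ℤ)) n) := by
  refine ⟨GradedObject.mapMap (γ φ L K).inv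
      (ComplexShape.π (ComplexShape.up ℤ) (ComplexShape.up ℤ) (ComplexShape.up ℤ)) n, ?_, ?_⟩
  · have := congrFun (GradedObject.mapMap_comp (γ φ L K).hom (γ φ L K).inv
      (ComplexShape.π (ComplexShape.up ℤ) (ComplexShape.up ℤ) (ComplexShape.up ℤ))) n
    rw [Iso.hom_inv_id] at this
    exact this.symm.trans (congrFun (GradedObject.mapMap_id _ _) n)
  · have := congrFun (GradedObject.mapMap_comp (γ φ L K).inv (γ φ L K).hom
      (ComplexShape.π (ComplexShape.up ℤ) (ComplexShape.up ℤ) (ComplexShape.up ℤ))) n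
    rw [Iso.inv_hom_id] at this
    exact this.symm.trans (congrFun (GradedObject.mapMap_id _ _) n)

instance isIso_pfCx_f (L : Cx A) (K : Cx R) (n : ℤ) : IsIso ((pfCx φ L K).f n) := by
  rw [pfCx_f_eq]
  haveI := isIso_mapMap_γ φ L K n
  infer_instance

instance isIso_pfCx (L : Cx A) (K : Cx R) : IsIso (pfCx φ L K) :=
  HomologicalComplex.Hom.isIso_of_components _

/-- restriction of scalars reflects acyclicity -/
lemma acyc_of_acyc_resCx (L : Cx A) (h : Acyc ((resCx φ).obj L)) : Acyc L := by
  rw [acyc_iff_exactAt] at h ⊢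
  intro n
  have hn := h n
  rw [HomologicalComplex.exactAt_iff' _ (n - 1) n (n + 1) (by simp) (by simp),
    ShortComplex.moduleCat_exact_iff] at hn ⊢
  intro x₂ hx₂
  obtain ⟨y, hy⟩ := hn x₂ hx₂
  exact ⟨y, hy⟩

/-- base change preserves K-flatness -/
theorem kflat_extCx (K : Cx R) (hK : KFlat K) : KFlat ((extCx φ).obj K) := by
  intro L hL
  apply acyc_of_acyc_resCx φ
  have h1 : Acyc ((resCx φ).obj L) := by
    rw [acyc_iff_exactAt] at hL ⊢
    exact Groth.Agent.H4.LK6.acyclic_resCx φ L hL
  have h2 : Acyc ((resCx φ).obj L ⊗ K) := hK _ h1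
  exact Acyc.of_iso (asIso (pfCx φ L K)) h2

end Complexes

end Groth.Agent.H4.LK7
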