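import Mathlib
import Groth.Prelude.Def_DRing4
import Groth.Prelude.Def_DTen
import Groth.Prelude.Def_DTen4
import Groth.Prelude.Def_DTen5
import Groth.Prelude.Def_DTen6
import Groth.Agent.H4.LK7

/-!
# The iterated change of rings for the derived tensor product (S14268)
-/

open CategoryTheory Category Limits MonoidalCategory

universe u

namespace Groth.Agent.H4.LK8

open Groth.Agent.H4.LK1 Groth.Agent.H4.LK2 Groth.Agent.H4.LK3 Groth.Agent.H4.LK4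
open Groth.Agent.H4.LK6 Groth.Agent.H4.LK7
open Groth.Agent.H4.TC3 Groth.Agent.H4.TC4 Groth.Agent.H4.TC8 Groth.Agent.H4.TC10

attribute [local instance] HasDerivedCategory.standard

section KFlatTensor

variable {A : Type u} [CommRing A]

/-- the tensor product of K-flat complexes is K-flat -/
theorem kflat_tensor {Y₁ Y₂ : Cx A} (h₁ : KFlat Y₁) (h₂ : KFlat Y₂) : KFlat (Y₁ ⊗ Y₂) := by
  intro L hL
  exact Acyc.of_iso (α_ L Y₁ Y₂) (h₂ _ (h₁ L hL))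

end KFlatTensor

section Mix

variable {A B : Type u} [CommRing A] [CommRing B] (φ : A →+* B) [DTen.HasLTenMix φ]

/-- the counit of the mixed derived tensor product at `(Y, T)`, `Y` K-flat and `T` K-projective
and K-flat. -/
theorem isIso_εMix_of_kflat_left (Y : Cx A) (T : Cx B) (hY : KFlat Y) [T.IsKProjective]
    (hT : KFlat T) : IsIso ((DTen.εMix φ).app (Y, T)) := by
  obtain ⟨P, a, hP, -, hPf, ha⟩ := exists_kproj_free_kflat Y
  haveI := hP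
  refine isIso_counit₂_of_isIso_map _ (htpyInv₂_mix₂ φ) _ (DTen.εMix φ) a (𝟙 T) ha inferInstance ?_
  have h1 : QuasiIso ((DTen.extCx φ).map a) := quasiIso_extCx_map φ a hPf hY ha
  have h2 : QuasiIso ((DTen.extCx φ).map a ▷ T) := quasiIso_whiskerRight hT _ h1
  have h3 : (DTen.mix₂ φ).map (Prod.mkHom a (𝟙 T) : (P, T) ⟶ (Y, T)) =
      DerivedCategory.Q.map ((DTen.extCx φ).map a ▷ T) := by
    change DerivedCategory.Q.map ((DTen.extCx φ).map a ▷ T ≫ _ ◁ 𝟙 T) = _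
    rw [MonoidalCategory.whiskerLeft_id, comp_id]
  rw [h3]
  infer_instance

/-- the counit of the mixed derived tensor product at `(P, Z)`, `P` K-projective and K-flat. -/
theorem isIso_εMix_of_kproj_kflat (P : Cx A) (Z : Cx B) [P.IsKProjective] (hP : KFlat P) :
    IsIso ((DTen.εMix φ).app (P, Z)) := by
  obtain ⟨T, b, hT, -, -, hb⟩ := exists_kproj_free_kflat Z
  haveI := hT
  refine isIso_counit₂_of_isIso_map _ (htpyInv₂_mix₂ φ) _ (DTen.εMix φ) (𝟙 P) b inferInstance hb ?_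
  have h2 : QuasiIso ((DTen.extCx φ).obj P ◁ b) :=
    quasiIso_whiskerLeft_of_kflat (kflat_extCx φ P hP) b hb
  have h3 : (DTen.mix₂ φ).map (Prod.mkHom (𝟙 P) b : (P, T) ⟶ (P, Z)) =
      DerivedCategory.Q.map ((DTen.extCx φ).obj P ◁ b) := by
    change DerivedCategory.Q.map ((DTen.extCx φ).map (𝟙 P) ▷ T ≫ _ ◁ b) = _
    rw [CategoryTheory.Functor.map_id, MonoidalCategory.id_whiskerRight, id_comp]
  rw [h3]
  infer_instance

end Mix

section Triple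

variable {A B C : Type u} [CommRing A] [CommRing B] [CommRing C] (φ : A →+* B) (ψ : B →+* C)

lemma htpyInv₃_mix₃ : HtpyInv₃ (DTen.mix₃ φ ψ) := by
  intro K K' L L' M M' f f' g g' k k' h₁ h₂ h₃
  have h₁' : Homotopy ((DTen.extCx φ).map f) ((DTen.extCx φ).map f') :=
    (ModuleCat.extendScalars.{u, u, u} φ).mapHomotopy h₁
  have h₁₂ := tensorHomotopy h₁' h₂
  have h₁₂' := (ModuleCat.extendScalars.{u, u, u} ψ).mapHomotopy h₁₂
  exact Q_map_eq_of_homotopy (tensorHomotopy h₁₂' h₃)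

/-- the binder `HasLTenMix₃` holds. -/
theorem hasLTenMix₃ : DTen.HasLTenMix₃ φ ψ := hasLeftDerivedFunctor₃ _ (htpyInv₃_mix₃ φ ψ)

theorem isIso_εMix₃_of_isKProjective [DTen.HasLTenMix₃ φ ψ] (P₁ : Cx A) (P₂ : Cx B) (P₃ : Cx C)
    [P₁.IsKProjective] [P₂.IsKProjective] [P₃.IsKProjective] :
    IsIso ((DTen.εMix₃ φ ψ).app (P₁, (P₂, P₃))) :=
  isIso_counit₃_of_isKProjective _ (htpyInv₃_mix₃ φ ψ) _ (DTen.εMix₃ φ ψ) P₁ P₂ P₃

variable [DTen.HasLTenMix φ] [DTen.HasLTenMix ψ] [DTen.HasLTenMix (ψ.comp φ)]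
  [DTen.HasLTenMix₃ φ ψ]

/-- S14268 -/
theorem isIso_legs (E : Dual.D A) (F : Dual.D B) (G : Dual.D C) :
    IsIso ((DTen.leg₃L φ ψ).app (E, (F, G))) ∧ IsIso ((DTen.leg₃R φ ψ).app (E, (F, G))) := by
  obtain ⟨P₁, hP₁, -, hf₁, ⟨e₁⟩⟩ := exists_kproj_kflat_iso E
  obtain ⟨P₂, hP₂, -, hf₂, ⟨e₂⟩⟩ := exists_kproj_kflat_iso F
  obtain ⟨P₃, hP₃, -, hf₃, ⟨e₃⟩⟩ := exists_kproj_kflat_iso G
  haveI := hP₁
  haveI := hP₂
  haveI := hP₃
  let e : ((DerivedCategory.Q.obj P₁, (DerivedCategory.Q.obj P₂, DerivedCategory.Q.obj P₃)) :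
      Dual.D A × (Dual.D B × Dual.D C)) ≅ (E, (F, G)) :=
    Iso.prod e₁ (Iso.prod e₂ e₃)
  rw [← NatTrans.isIso_app_iff_of_iso (DTen.leg₃L φ ψ) e,
    ← NatTrans.isIso_app_iff_of_iso (DTen.leg₃R φ ψ) e]
  haveI := isIso_εMix₃_of_isKProjective φ ψ P₁ P₂ P₃
  constructor
  · have hfac := DTen.leg₃L_fac φ ψ (P₁, (P₂, P₃))
    haveI h1 : IsIso ((DTen.εMix φ).app (P₁, P₂)) := isIso_εMix_of_isKProjective φ P₁ P₂
    haveI h2 : IsIso ((DTen.εMix ψ).app ((DTen.mixT φ).obj (P₁, P₂), P₃)) :=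
      isIso_εMix_of_kflat_left ψ _ _ (kflat_tensor (kflat_extCx φ P₁ hf₁) hf₂) hf₃
    haveI : IsIso ((DTen.β₃L φ ψ).app (P₁, (P₂, P₃))) := by
      dsimp [DTen.β₃L]
      haveI i0 : IsIso (Prod.mkHom ((DTen.εMix φ).app (P₁, P₂)) (𝟙 (DerivedCategory.Q.obj P₃))) := by
        rw [isIso_prod_iff]
        exact ⟨h1, inferInstance⟩
      haveI i1 := Functor.map_isIso (DTen.LTenMix ψ)
        (Prod.mkHom ((DTen.εMix φ).app (P₁, P₂)) (𝟙 (DerivedCategory.Q.obj P₃)))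
      exact IsIso.comp_isIso' i1 h2
    have : (DTen.leg₃L φ ψ).app ((DTen.QMix₃ A B C).obj (P₁, (P₂, P₃))) =
        (DTen.β₃L φ ψ).app (P₁, (P₂, P₃)) ≫ inv ((DTen.εMix₃ φ ψ).app (P₁, (P₂, P₃))) := by
      rw [← hfac, assoc, IsIso.hom_inv_id, comp_id]
    change IsIso ((DTen.leg₃L φ ψ).app ((DTen.QMix₃ A B C).obj (P₁, (P₂, P₃))))
    rw [this]
    infer_instance
  · have hfac := DTen.leg₃R_fac φ ψ (P₁, (P₂, P₃))
    haveI h1 : IsIso ((DTen.εMix ψ).app (P₂, P₃)) := isIso_εMix_of_isKProjective ψ P₂ P₃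
    haveI h2 : IsIso ((DTen.εMix (ψ.comp φ)).app (P₁, (DTen.mixT ψ).obj (P₂, P₃))) :=
      isIso_εMix_of_kproj_kflat (ψ.comp φ) P₁ _ hf₁
    haveI : IsIso ((DTen.β₃R φ ψ).app (P₁, (P₂, P₃))) := by
      dsimp [DTen.β₃R]
      haveI i0 : IsIso (Prod.mkHom (𝟙 (DerivedCategory.Q.obj P₁)) ((DTen.εMix ψ).app (P₂, P₃))) := by
        rw [isIso_prod_iff]
        exact ⟨inferInstance, h1⟩
      haveI i1 := Functor.map_isIso (DTen.LTenMix (ψ.comp φ))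
        (Prod.mkHom (𝟙 (DerivedCategory.Q.obj P₁)) ((DTen.εMix ψ).app (P₂, P₃)))
      haveI i3 : IsIso (DerivedCategory.Q.map ((DTen.θ₃ φ ψ).inv.app (P₁, (P₂, P₃)))) :=
        inferInstance
      exact IsIso.comp_isIso' i1 (IsIso.comp_isIso' h2 i3)
    have : (DTen.leg₃R φ ψ).app ((DTen.QMix₃ A B C).obj (P₁, (P₂, P₃))) =
        (DTen.β₃R φ ψ).app (P₁, (P₂, P₃)) ≫ inv ((DTen.εMix₃ φ ψ).app (P₁, (P₂, P₃))) := by
      rw [← hfac, assoc, IsIso.hom_inv_id, comp_id]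
    change IsIso ((DTen.leg₃R φ ψ).app ((DTen.QMix₃ A B C).obj (P₁, (P₂, P₃))))
    rw [this]
    infer_instance

end Triple

end Groth.Agent.H4.LK8
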