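import Mathlib
import Groth.Prelude.Def_DTen5
import Groth.Prelude.Def_DTen6
import Groth.Agent.H4.LK8

open CategoryTheory Category Limits MonoidalCategory

universe u

namespace Groth.Agent.H4.RB1

open DTen
open Groth.Agent.H4.LK1 Groth.Agent.H4.LK2 Groth.Agent.H4.LK3 Groth.Agent.H4.LK4
open Groth.Agent.H4.LK6 Groth.Agent.H4.LK7 Groth.Agent.H4.LK8
open Groth.Agent.H4.TC3 Groth.Agent.H4.TC4

attribute [local instance] HasDerivedCategory.standard

variable {R R' : Type u} [CommRing R] [CommRing R'] (φ : R →+* R')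

lemma bijective_precomp_iso {C : Type*} [Category C] {X Y Z : C} (f : X ⟶ Y) [IsIso f] :
    Function.Bijective (fun t : Y ⟶ Z => f ≫ t) :=
  ⟨fun a b hab => (cancel_epi f).1 hab, fun t => ⟨inv f ≫ t, by simp⟩⟩

lemma bijective_postcomp_iso {C : Type*} [Category C] {X Y Z : C} (f : Y ⟶ Z) [IsIso f] :
    Function.Bijective (fun t : X ⟶ Y => t ≫ f) :=
  ⟨fun a b hab => (cancel_mono f).1 hab, fun t => ⟨t ≫ inv f, by simp⟩⟩

/-- module-level monoidality of the unit -/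
lemma unit_tensor (M N : ModuleCat.{u} R) :
    (ModuleCat.extendRestrictScalarsAdj.{u, u, u} φ).unit.app (M ⊗ N) ≫
      (resM φ).map (Functor.OplaxMonoidal.δ (extM φ) M N) =
    ((ModuleCat.extendRestrictScalarsAdj.{u, u, u} φ).unit.app M ⊗ₘ
      (ModuleCat.extendRestrictScalarsAdj.{u, u, u} φ).unit.app N) ≫
      resTen₀app φ ((extM φ).obj M) ((extM φ).obj N) := by
  rw [resTen₀app_eq_μ]
  exact Adjunction.unit_app_tensor_comp_map_δ (ModuleCat.extendRestrictScalarsAdj.{u, u, u} φ) M N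

/-- the complex-level map `P₁ ⊗ P₂ ⟶ res (ext P₁ ⊗ ext P₂)` -/
noncomputable def muCx (P₁ P₂ : Cx R) :
    P₁ ⊗ P₂ ⟶ (resCx φ).obj ((extCx φ).obj P₁ ⊗ (extCx φ).obj P₂) :=
  ((unitCx φ).app P₁ ⊗ₘ (unitCx φ).app P₂) ≫ resTenCx φ ((extCx φ).obj P₁) ((extCx φ).obj P₂)

lemma muCx_eq (P₁ P₂ : Cx R) :
    muCx φ P₁ P₂ = (unitCx φ).app (P₁ ⊗ P₂) ≫ (resCx φ).map (extTenCxIso φ P₁ P₂).hom := by
  refine HomologicalComplex.hom_ext _ _ (fun n => HomologicalComplex.mapBifunctor.hom_ext (fun p q h => ?_))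
  dsimp only [muCx]
  rw [HomologicalComplex.comp_f, HomologicalComplex.comp_f]
  have h1 : HomologicalComplex.ιTensorObj P₁ P₂ p q n h ≫
      ((unitCx φ).app P₁ ⊗ₘ (unitCx φ).app P₂).f n =
      (((unitCx φ).app P₁).f p ⊗ₘ ((unitCx φ).app P₂).f q) ≫
        HomologicalComplex.ιTensorObj ((resCx φ).obj ((extCx φ).obj P₁))
          ((resCx φ).obj ((extCx φ).obj P₂)) p q n h := by
    have := HomologicalComplex.ι_mapBifunctorMap ((unitCx φ).app P₁) ((unitCx φ).app P₂)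
      (curriedTensor (ModuleCat.{u} R)) (ComplexShape.up ℤ) p q n h
    refine this.trans ?_
    rw [MonoidalCategory.tensorHom_def, assoc]
    rfl
  have h2 := ι_resTenCx φ ((extCx φ).obj P₁) ((extCx φ).obj P₂) p q n h
  have h3 := map_ι_extTenCxIso_hom φ P₁ P₂ p q n h
  have h4 := (ModuleCat.extendRestrictScalarsAdj.{u, u, u} φ).unit.naturality
    (HomologicalComplex.ιTensorObj P₁ P₂ p q n h)
  have h5 := unit_tensor φ (P₁.X p) (P₂.X q)
  change HomologicalComplex.ιTensorObj P₁ P₂ p q n h ≫ _ ≫ _ = HomologicalComplex.ιTensorObj P₁ P₂ p q n h ≫ _ ≫ _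
  erw [reassoc_of% h1, h2]
  have h4' : HomologicalComplex.ιTensorObj P₁ P₂ p q n h ≫ ((unitCx φ).app (P₁ ⊗ P₂)).f n =
      (ModuleCat.extendRestrictScalarsAdj.{u, u, u} φ).unit.app (P₁.X p ⊗ P₂.X q) ≫
        (resM φ).map ((extM φ).map (HomologicalComplex.ιTensorObj P₁ P₂ p q n h)) := h4
  have h6 : ((resCx φ).map (extTenCxIso φ P₁ P₂).hom).f n =
      (resM φ).map ((extTenCxIso φ P₁ P₂).hom.f n) := rfl
  rw [reassoc_of% h4', h6]
  have h7 : (resM φ).map ((extM φ).map (HomologicalComplex.ιTensorObj P₁ P₂ p q n h)) ≫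
      (resM φ).map ((extTenCxIso φ P₁ P₂).hom.f n) =
      (resM φ).map (Functor.OplaxMonoidal.δ (extM φ) (P₁.X p) (P₂.X q)) ≫
        (resM φ).map (HomologicalComplex.ιTensorObj ((extCx φ).obj P₁) ((extCx φ).obj P₂) p q n h) := by
    exact ((resM φ).map_comp _ _).symm.trans
      ((congrArg (resM φ).map h3).trans ((resM φ).map_comp _ _))
  erw [assoc, h7, reassoc_of% h5]
  rfl


section Derived

variable [HasLTen R] [HasLTen R'] [HasLBase φ] [HasResTen φ] [ResLegIso φ]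

/-- the lax-monoidal comparison `X ⊗ K ⟶ res (L X ⊗ L K)` -/
noncomputable def mm (X K : Dual.D R) :
    (LTen₂ R).obj (X, K) ⟶
      (DRing.restrictD φ).obj ((LTen₂ R').obj ((LBase φ).obj X, (LBase φ).obj K)) :=
  (LTen₂ R).map (Prod.mkHom ((baseAdj φ).unit.app X) ((baseAdj φ).unit.app K)) ≫
    (resPF φ).app ((LBase φ).obj X, (LBase φ).obj K)

lemma mm_naturality {X X' K K' : Dual.D R} (f : X ⟶ X') (g : K ⟶ K') :
    (LTen₂ R).map (Prod.mkHom f g) ≫ mm φ X' K' =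
      mm φ X K ≫ (DRing.restrictD φ).map
        ((LTen₂ R').map (Prod.mkHom ((LBase φ).map f) ((LBase φ).map g))) := by
  dsimp only [mm]
  have h1 := (resPF φ).naturality
    (Prod.mkHom ((LBase φ).map f) ((LBase φ).map g) :
      ((LBase φ).obj X, (LBase φ).obj K) ⟶ ((LBase φ).obj X', (LBase φ).obj K'))
  have h2 := (baseAdj φ).unit.naturality f
  have h3 := (baseAdj φ).unit.naturality g
  dsimp at h1 h2 h3
  rw [assoc, ← h1, ← assoc, ← assoc, ← Functor.map_comp, ← Functor.map_comp]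
  congr 2
  simp only [prod_comp, Prod.mkHom]
  exact Prod.ext h2 h3

lemma mm_Q (P₁ P₂ : Cx R) :
    mm φ (DerivedCategory.Q.obj P₁) (DerivedCategory.Q.obj P₂) ≫
      (DRing.restrictD φ).map ((LTen₂ R').map
        (Prod.mkHom ((baseCmp φ).app P₁) ((baseCmp φ).app P₂))) ≫
      (resβB φ).app ((extCx φ).obj P₁, (extCx φ).obj P₂) =
    (ε R).app (P₁, P₂) ≫ DerivedCategory.Q.map (muCx φ P₁ P₂) := by
  dsimp only [mm]
  have h1 := (resPF φ).naturality
    (Prod.mkHom ((baseCmp φ).app P₁) ((baseCmp φ).app P₂) :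
      ((LBase φ).obj (DerivedCategory.Q.obj P₁), (LBase φ).obj (DerivedCategory.Q.obj P₂)) ⟶
        (DerivedCategory.Q.obj ((extCx φ).obj P₁), DerivedCategory.Q.obj ((extCx φ).obj P₂)))
  have h2 := resPF_fac φ ((extCx φ).obj P₁, (extCx φ).obj P₂)
  have h3 := baseCmp_fac φ P₁
  have h4 := baseCmp_fac φ P₂
  have h5 := (ε R).naturality (Prod.mkHom ((unitCx φ).app P₁) ((unitCx φ).app P₂) :
    (P₁, P₂) ⟶ ((resCx φ).obj ((extCx φ).obj P₁), (resCx φ).obj ((extCx φ).obj P₂)))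
  dsimp at h1 h2 h3 h4 h5
  rw [assoc, ← reassoc_of% h1, h2]
  have h6 : ∀ P : Cx R, (baseγ φ).app P ≫ (resFactors φ).hom.app ((extCx φ).obj P) =
      DerivedCategory.Q.map ((unitCx φ).app P) := by
    intro P
    dsimp [baseγ]
    rw [assoc, Iso.inv_hom_id_app]
    exact comp_id _
  have h7 : (resβA φ).app ((extCx φ).obj P₁, (extCx φ).obj P₂) =
      (LTen₂ R).map (Prod.mkHom ((resFactors φ).hom.app ((extCx φ).obj P₁))
        ((resFactors φ).hom.app ((extCx φ).obj P₂))) ≫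
      (ε R).app ((resCx φ).obj ((extCx φ).obj P₁), (resCx φ).obj ((extCx φ).obj P₂)) ≫
      DerivedCategory.Q.map (resTenCx φ ((extCx φ).obj P₁) ((extCx φ).obj P₂)) := rfl
  rw [h7, ← assoc, ← assoc, ← Functor.map_comp, ← Functor.map_comp]
  have h8 : (Prod.mkHom ((baseAdj φ).unit.app (DerivedCategory.Q.obj P₁))
        ((baseAdj φ).unit.app (DerivedCategory.Q.obj P₂)) ≫
      Prod.mkHom ((DRing.restrictD φ).map ((baseCmp φ).app P₁))
        ((DRing.restrictD φ).map ((baseCmp φ).app P₂))) ≫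
      Prod.mkHom ((resFactors φ).hom.app ((extCx φ).obj P₁))
        ((resFactors φ).hom.app ((extCx φ).obj P₂)) =
      Prod.mkHom (DerivedCategory.Q.map ((unitCx φ).app P₁))
        (DerivedCategory.Q.map ((unitCx φ).app P₂)) := by
    simp only [prod_comp, Prod.mkHom]
    refine Prod.ext ?_ ?_
    · dsimp
      rw [h3, h6]
    · dsimp
      rw [h4, h6]
  rw [h8, reassoc_of% h5, ← Functor.map_comp]
  congr 2
  dsimp only [muCx]
  rw [MonoidalCategory.tensorHom_def]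
  exact (assoc _ _ _).symm


lemma Q_muCx (P₁ P₂ : Cx R) :
    DerivedCategory.Q.map (muCx φ P₁ P₂) ≫
      (resFactors φ).inv.app ((extCx φ).obj P₁ ⊗ (extCx φ).obj P₂) =
    (baseAdj φ).unit.app (DerivedCategory.Q.obj (P₁ ⊗ P₂)) ≫
      (DRing.restrictD φ).map ((baseCmp φ).app (P₁ ⊗ P₂) ≫
        DerivedCategory.Q.map (extTenCxIso φ P₁ P₂).hom) := by
  rw [Functor.map_comp, ← assoc, baseCmp_fac]
  have h := baseγ_comp_map_Q φ (P₁ ⊗ P₂) _ (extTenCxIso φ P₁ P₂).hom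
  rw [h, muCx_eq]
  rfl

theorem bijective_mm_Q (P₁ P₂ : Cx R) (h₁ : KFlat P₁) (h₂ : KFlat P₂) (M : Dual.D R') :
    Function.Bijective (fun g : (LTen₂ R').obj ((LBase φ).obj (DerivedCategory.Q.obj P₁),
        (LBase φ).obj (DerivedCategory.Q.obj P₂)) ⟶ M =>
      mm φ (DerivedCategory.Q.obj P₁) (DerivedCategory.Q.obj P₂) ≫ (DRing.restrictD φ).map g) := by
  haveI i1 : IsIso ((baseCmp φ).app P₁) := isIso_baseCmp_of_kflat φ P₁ h₁
  haveI i2 : IsIso ((baseCmp φ).app P₂) := isIso_baseCmp_of_kflat φ P₂ h₂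
  haveI i3 : IsIso ((baseCmp φ).app (P₁ ⊗ P₂)) :=
    isIso_baseCmp_of_kflat φ (P₁ ⊗ P₂) (kflat_tensor h₁ h₂)
  haveI i4 : IsIso ((ε R).app (P₁, P₂)) := isIso_ε_of_kflat P₁ P₂ (Or.inl h₁)
  haveI i5 : IsIso ((ε R').app ((extCx φ).obj P₁, (extCx φ).obj P₂)) :=
    isIso_ε_of_kflat _ _ (Or.inl (kflat_extCx φ P₁ h₁))
  haveI i6 : IsIso (Prod.mkHom ((baseCmp φ).app P₁) ((baseCmp φ).app P₂)) := by
    rw [isIso_prod_iff]
    exact ⟨i1, i2⟩
  let I := (LTen₂ R').map (Prod.mkHom ((baseCmp φ).app P₁) ((baseCmp φ).app P₂)) ≫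
    (ε R').app ((extCx φ).obj P₁, (extCx φ).obj P₂)
  haveI : IsIso I := by dsimp only [I]; infer_instance
  let J := ((baseCmp φ).app (P₁ ⊗ P₂) ≫ DerivedCategory.Q.map (extTenCxIso φ P₁ P₂).hom) ≫ inv I
  haveI : IsIso J := by dsimp only [J]; infer_instance
  have key : ∀ g : (LTen₂ R').obj ((LBase φ).obj (DerivedCategory.Q.obj P₁),
        (LBase φ).obj (DerivedCategory.Q.obj P₂)) ⟶ M,
      mm φ (DerivedCategory.Q.obj P₁) (DerivedCategory.Q.obj P₂) ≫ (DRing.restrictD φ).map g =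
      (ε R).app (P₁, P₂) ≫ ((baseAdj φ).homEquiv _ _) (J ≫ g) := by
    intro g
    have h1 := mm_Q φ P₁ P₂
    have h2 := Q_muCx φ P₁ P₂
    have h3 : mm φ (DerivedCategory.Q.obj P₁) (DerivedCategory.Q.obj P₂) ≫
        (DRing.restrictD φ).map I =
        (ε R).app (P₁, P₂) ≫ (baseAdj φ).unit.app (DerivedCategory.Q.obj (P₁ ⊗ P₂)) ≫
          (DRing.restrictD φ).map ((baseCmp φ).app (P₁ ⊗ P₂) ≫
            DerivedCategory.Q.map (extTenCxIso φ P₁ P₂).hom) := by
      rw [← h2, ← reassoc_of% h1]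
      dsimp only [I, resβB]
      rw [Functor.map_comp]
      congr 2
      erw [assoc, Iso.hom_inv_id_app, comp_id]
    have h4 : g = I ≫ inv I ≫ g := by rw [IsIso.hom_inv_id_assoc]
    conv_lhs => rw [h4, Functor.map_comp, reassoc_of% h3]
    rw [Adjunction.homEquiv_unit]
    dsimp only [J]
    simp only [Functor.map_comp, assoc]
    rfl
  have e : (fun g : (LTen₂ R').obj ((LBase φ).obj (DerivedCategory.Q.obj P₁),
        (LBase φ).obj (DerivedCategory.Q.obj P₂)) ⟶ M =>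
      mm φ (DerivedCategory.Q.obj P₁) (DerivedCategory.Q.obj P₂) ≫ (DRing.restrictD φ).map g) =
      (fun t => (ε R).app (P₁, P₂) ≫ t) ∘ ((baseAdj φ).homEquiv _ _) ∘ (fun g => J ≫ g) := by
    funext g
    exact key g
  rw [e]
  refine Function.Bijective.comp ?_ (Function.Bijective.comp (Equiv.bijective _) ?_)
  · exact bijective_precomp_iso _
  · exact bijective_precomp_iso _


theorem bijective_mm (X K : Dual.D R) (M : Dual.D R') :
    Function.Bijective (fun g : (LTen₂ R').obj ((LBase φ).obj X, (LBase φ).obj K) ⟶ M =>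
      mm φ X K ≫ (DRing.restrictD φ).map g) := by
  obtain ⟨P₁, -, -, hf₁, ⟨e₁⟩⟩ := exists_kproj_kflat_iso X
  obtain ⟨P₂, -, -, hf₂, ⟨e₂⟩⟩ := exists_kproj_kflat_iso K
  have hb := bijective_mm_Q φ P₁ P₂ hf₁ hf₂ M
  let a : (LTen₂ R).obj (DerivedCategory.Q.obj P₁, DerivedCategory.Q.obj P₂) ⟶ (LTen₂ R).obj (X, K) :=
    (LTen₂ R).map (Prod.mkHom e₁.hom e₂.hom)
  let b : (LTen₂ R').obj ((LBase φ).obj (DerivedCategory.Q.obj P₁),
      (LBase φ).obj (DerivedCategory.Q.obj P₂)) ⟶ (LTen₂ R').obj ((LBase φ).obj X, (LBase φ).obj K) :=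
    (LTen₂ R').map (Prod.mkHom ((LBase φ).map e₁.hom) ((LBase φ).map e₂.hom))
  haveI : IsIso (Prod.mkHom e₁.hom e₂.hom) := by
    rw [isIso_prod_iff]; exact ⟨inferInstance, inferInstance⟩
  haveI : IsIso (Prod.mkHom ((LBase φ).map e₁.hom) ((LBase φ).map e₂.hom)) := by
    rw [isIso_prod_iff]; exact ⟨inferInstance, inferInstance⟩
  haveI : IsIso a := by dsimp only [a]; infer_instance
  haveI : IsIso b := by dsimp only [b]; infer_instance
  have hn : a ≫ mm φ X K = mm φ _ _ ≫ (DRing.restrictD φ).map b := mm_naturality φ e₁.hom e₂.hom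
  have e : (fun g : (LTen₂ R').obj ((LBase φ).obj X, (LBase φ).obj K) ⟶ M =>
      mm φ X K ≫ (DRing.restrictD φ).map g) =
      (fun t => inv a ≫ t) ∘ (fun g => mm φ (DerivedCategory.Q.obj P₁) (DerivedCategory.Q.obj P₂) ≫
        (DRing.restrictD φ).map g) ∘ (fun g => b ≫ g) := by
    funext g
    dsimp
    rw [Functor.map_comp, ← reassoc_of% hn, IsIso.inv_hom_id_assoc]
  rw [e]
  exact (bijective_precomp_iso _).comp (hb.comp (bijective_precomp_iso _))

end Derived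


section Main

variable [HasLTen R] [HasLTen R'] [HasRHom R] [HasRHom R'] [HasLBase φ] [HasResTen φ] [ResLegIso φ]

lemma comp_rhomBCCore (K : Dual.D R) (M : Dual.D R') (W : Dual.D R)
    (f' : (LBase φ).obj W ⟶ (RHomR R' ((LBase φ).obj K)).obj M) :
    (tensorRightD R K).map ((baseAdj φ).homEquiv _ _ f') ≫ rhomBCCore φ K M =
      mm φ W K ≫ (DRing.restrictD φ).map
        ((rhomHomEquiv ((LBase φ).obj W) ((LBase φ).obj K) M).symm f') := by
  rw [Adjunction.homEquiv_unit, Adjunction.homEquiv_counit]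
  dsimp only [rhomBCCore, mm]
  have h1 := (resPF φ).naturality
    (Prod.mkHom f' (𝟙 ((LBase φ).obj K)) :
      ((LBase φ).obj W, (LBase φ).obj K) ⟶ ((RHomR R' ((LBase φ).obj K)).obj M, (LBase φ).obj K))
  dsimp at h1
  have h2 : (tensorRightD R K).map ((baseAdj φ).unit.app W ≫ (DRing.restrictD φ).map f') ≫
      (LTen₂ R).map (Prod.mkHom (𝟙 _) ((baseAdj φ).unit.app K)) =
      (LTen₂ R).map (Prod.mkHom ((baseAdj φ).unit.app W) ((baseAdj φ).unit.app K)) ≫
        (LTen₂ R).map (Prod.mkHom ((DRing.restrictD φ).map f')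
          ((DRing.restrictD φ).map (𝟙 ((LBase φ).obj K)))) := by
    change (LTen₂ R).map (Prod.mkHom _ (𝟙 K)) ≫ _ = _
    rw [← Functor.map_comp, ← Functor.map_comp]
    congr 1
    simp only [prod_comp, Prod.mkHom]
    refine Prod.ext ?_ ?_
    · dsimp
      rw [comp_id]
    · dsimp
      rw [id_comp, CategoryTheory.Functor.map_id, comp_id]
  rw [reassoc_of% h2, reassoc_of% h1, Functor.map_comp, assoc]
  rfl

theorem isIso_rhomBC (K : Dual.D R) (M : Dual.D R') : IsIso (rhomBC φ K M) := by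
  rw [isIso_iff_yoneda_map_bijective]
  intro W
  have e : (fun x : W ⟶ (DRing.restrictD φ).obj ((RHomR R' ((LBase φ).obj K)).obj M) =>
      x ≫ rhomBC φ K M) =
      (rhomHomEquiv W K ((DRing.restrictD φ).obj M)) ∘
        (fun g => mm φ W K ≫ (DRing.restrictD φ).map g) ∘
        (rhomHomEquiv ((LBase φ).obj W) ((LBase φ).obj K) M).symm ∘
        ((baseAdj φ).homEquiv _ _).symm := by
    funext x
    dsimp only [Function.comp_apply]
    rw [← comp_rhomBCCore, Equiv.apply_symm_apply]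
    dsimp only [rhomBC]
    exact ((rhomAdj R K).homEquiv_naturality_left x (rhomBCCore φ K M)).symm
  rw [e]
  exact (Equiv.bijective _).comp ((bijective_mm φ W K M).comp
    ((Equiv.bijective _).comp (Equiv.bijective _)))

end Main

end Groth.Agent.H4.RB1
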