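import Mathlib
import Groth.Prelude.Def_DTen5
import Groth.Prelude.Def_DTen6
import Groth.Agent.H4.RB1

open CategoryTheory Category Limits MonoidalCategory

universe u

namespace Groth.Agent.H4.RB2

open DTen
open Groth.Agent.H4.LK1 Groth.Agent.H4.LK2 Groth.Agent.H4.LK3 Groth.Agent.H4.LK4
open Groth.Agent.H4.LK6 Groth.Agent.H4.LK7 Groth.Agent.H4.LK8
open Groth.Agent.H4.TC3 Groth.Agent.H4.TC4 Groth.Agent.H4.RB1

attribute [local instance] HasDerivedCategory.standard

variable {R R' : Type u} [CommRing R] [CommRing R'] (φ : R →+* R')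

lemma htpyInv₂_resTen₂ : HtpyInv₂ (DTen.resTen₂ φ) := by
  intro K K' L L' f f' g g' h₁ h₂
  have h := tensorHomotopy h₁ h₂
  have h' : Homotopy ((resCx φ).map (f ▷ L ≫ K' ◁ g)) ((resCx φ).map (f' ▷ L ≫ K' ◁ g')) :=
    (ModuleCat.restrictScalars.{u} φ).mapHomotopy h
  exact Q_map_eq_of_homotopy h'

/-- the binder `HasResTen` holds. -/
theorem hasResTen : DTen.HasResTen φ := hasLeftDerivedFunctor₂ _ (htpyInv₂_resTen₂ φ)

theorem isIso_εRes_of_isKProjective [DTen.HasResTen φ] (P₁ P₂ : Cx R') [P₁.IsKProjective]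
    [P₂.IsKProjective] : IsIso ((DTen.εRes φ).app (P₁, P₂)) :=
  isIso_counit₂_of_isKProjective _ (htpyInv₂_resTen₂ φ) _ (DTen.εRes φ) P₁ P₂

/-- the binder `ResLegIso` holds. -/
theorem resLegIso [HasLTen R'] [HasResTen φ] : DTen.ResLegIso φ := by
  refine ⟨?_⟩
  haveI : ∀ X : Dual.D R' × Dual.D R', IsIso ((resLegB φ).app X) := by
    rintro ⟨E, E'⟩
    obtain ⟨P, hP, -, hPf, ⟨e₁⟩⟩ := exists_kproj_kflat_iso E
    obtain ⟨P', hP', -, hPf', ⟨e₂⟩⟩ := exists_kproj_kflat_iso E'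
    haveI := hP
    haveI := hP'
    let e : ((DerivedCategory.Q.obj P, DerivedCategory.Q.obj P') : Dual.D R' × Dual.D R') ≅ (E, E') :=
      Iso.prod e₁ e₂
    rw [← NatTrans.isIso_app_iff_of_iso (resLegB φ) e]
    have hfac := resLegB_fac φ (P, P')
    haveI := isIso_εRes_of_isKProjective φ P P'
    haveI : IsIso ((ε R').app (P, P')) := isIso_ε_of_isKProjective P P'
    haveI : IsIso ((resβB φ).app (P, P')) := by
      dsimp only [resβB]
      infer_instance
    have : (resLegB φ).app ((DTen.QQ R').obj (P, P')) =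
        (resβB φ).app (P, P') ≫ inv ((εRes φ).app (P, P')) := by
      rw [← hfac, assoc, IsIso.hom_inv_id, comp_id]
    change IsIso ((resLegB φ).app ((DTen.QQ R').obj (P, P')))
    rw [this]
    infer_instance
  exact NatIso.isIso_of_isIso_app _

section PF

variable [HasLTen R] [HasLTen R'] [HasLBase φ] [HasResTen φ] [ResLegIso φ]

lemma projPF_naturality {E E' : Dual.D R'} {K K' : Dual.D R} (f : E ⟶ E') (g : K ⟶ K') :
    (LTen₂ R).map (Prod.mkHom ((DRing.restrictD φ).map f) g) ≫ projPF φ E' K' =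
      projPF φ E K ≫ (DRing.restrictD φ).map
        ((LTen₂ R').map (Prod.mkHom f ((LBase φ).map g))) := by
  dsimp only [projPF]
  have h1 := (resPF φ).naturality
    (Prod.mkHom f ((LBase φ).map g) : (E, (LBase φ).obj K) ⟶ (E', (LBase φ).obj K'))
  have h3 := (baseAdj φ).unit.naturality g
  dsimp at h1 h3
  rw [assoc, ← h1, ← assoc, ← assoc, ← Functor.map_comp, ← Functor.map_comp]
  congr 2
  simp only [prod_comp, Prod.mkHom]
  refine Prod.ext ?_ ?_
  · dsimp
    rw [comp_id, id_comp]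
  · exact h3

lemma projPF_Q (Y : Cx R') (P : Cx R) :
    projPF φ (DerivedCategory.Q.obj Y) (DerivedCategory.Q.obj P) ≫
      (DRing.restrictD φ).map ((LTen₂ R').map
        (Prod.mkHom (𝟙 (DerivedCategory.Q.obj Y)) ((baseCmp φ).app P))) ≫
      (resβB φ).app (Y, (extCx φ).obj P) =
    (LTen₂ R).map (Prod.mkHom ((resFactors φ).hom.app Y) (𝟙 (DerivedCategory.Q.obj P))) ≫
      (ε R).app ((resCx φ).obj Y, P) ≫ DerivedCategory.Q.map (pfCx φ Y P) := by
  dsimp only [projPF]
  have h1 := (resPF φ).naturality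
    (Prod.mkHom (𝟙 (DerivedCategory.Q.obj Y)) ((baseCmp φ).app P) :
      (DerivedCategory.Q.obj Y, (LBase φ).obj (DerivedCategory.Q.obj P)) ⟶
        (DerivedCategory.Q.obj Y, DerivedCategory.Q.obj ((extCx φ).obj P)))
  have h2 := resPF_fac φ (Y, (extCx φ).obj P)
  have h4 := baseCmp_fac φ P
  have h5 := (ε R).naturality (Prod.mkHom (𝟙 ((resCx φ).obj Y)) ((unitCx φ).app P) :
    ((resCx φ).obj Y, P) ⟶ ((resCx φ).obj Y, (resCx φ).obj ((extCx φ).obj P)))
  dsimp at h1 h2 h4 h5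
  rw [assoc, ← reassoc_of% h1, h2]
  have h6 : ∀ P : Cx R, (baseγ φ).app P ≫ (resFactors φ).hom.app ((extCx φ).obj P) =
      DerivedCategory.Q.map ((unitCx φ).app P) := by
    intro P
    dsimp [baseγ]
    rw [assoc, Iso.inv_hom_id_app]
    exact comp_id _
  have h7 : (resβA φ).app (Y, (extCx φ).obj P) =
      (LTen₂ R).map (Prod.mkHom ((resFactors φ).hom.app Y)
        ((resFactors φ).hom.app ((extCx φ).obj P))) ≫
      (ε R).app ((resCx φ).obj Y, (resCx φ).obj ((extCx φ).obj P)) ≫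
      DerivedCategory.Q.map (resTenCx φ Y ((extCx φ).obj P)) := rfl
  rw [h7, ← assoc, ← assoc, ← Functor.map_comp, ← Functor.map_comp]
  have h8 : (Prod.mkHom (𝟙 ((DRing.restrictD φ).obj (DerivedCategory.Q.obj Y)))
        ((baseAdj φ).unit.app (DerivedCategory.Q.obj P)) ≫
      Prod.mkHom ((DRing.restrictD φ).map (𝟙 (DerivedCategory.Q.obj Y)))
        ((DRing.restrictD φ).map ((baseCmp φ).app P))) ≫
      Prod.mkHom ((resFactors φ).hom.app Y)
        ((resFactors φ).hom.app ((extCx φ).obj P)) =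
      Prod.mkHom ((resFactors φ).hom.app Y) (𝟙 (DerivedCategory.Q.obj P)) ≫
      Prod.mkHom (DerivedCategory.Q.map (𝟙 ((resCx φ).obj Y)))
        (DerivedCategory.Q.map ((unitCx φ).app P)) := by
    simp only [prod_comp, Prod.mkHom]
    refine Prod.ext ?_ ?_
    · dsimp
      rw [CategoryTheory.Functor.map_id, CategoryTheory.Functor.map_id, id_comp, id_comp, comp_id]
    · dsimp
      rw [h4, h6, id_comp]
  rw [h8, Functor.map_comp, assoc, reassoc_of% h5, ← Functor.map_comp]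
  congr 3
  dsimp only [pfCx]
  rw [MonoidalCategory.id_whiskerRight, id_comp]

theorem isIso_projPF_Q (Y : Cx R') (P : Cx R) (hP : KFlat P) :
    IsIso (projPF φ (DerivedCategory.Q.obj Y) (DerivedCategory.Q.obj P)) := by
  haveI i1 : IsIso ((baseCmp φ).app P) := isIso_baseCmp_of_kflat φ P hP
  haveI i4 : IsIso ((ε R).app ((resCx φ).obj Y, P)) := isIso_ε_of_kflat _ P (Or.inr hP)
  haveI i5 : IsIso ((ε R').app (Y, (extCx φ).obj P)) :=
    isIso_ε_of_kflat _ _ (Or.inr (kflat_extCx φ P hP))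
  haveI i6 : IsIso (Prod.mkHom (𝟙 (DerivedCategory.Q.obj Y)) ((baseCmp φ).app P)) := by
    rw [isIso_prod_iff]
    exact ⟨inferInstance, i1⟩
  haveI i7 : IsIso (Prod.mkHom ((resFactors φ).hom.app Y) (𝟙 (DerivedCategory.Q.obj P))) := by
    rw [isIso_prod_iff]
    exact ⟨inferInstance, inferInstance⟩
  haveI i8 : IsIso ((resβB φ).app (Y, (extCx φ).obj P)) := by
    dsimp only [resβB]
    infer_instance
  have h := projPF_Q φ Y P
  let I := (DRing.restrictD φ).map ((LTen₂ R').map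
        (Prod.mkHom (𝟙 (DerivedCategory.Q.obj Y)) ((baseCmp φ).app P))) ≫
      (resβB φ).app (Y, (extCx φ).obj P)
  haveI : IsIso I := by dsimp only [I]; infer_instance
  have h' : projPF φ (DerivedCategory.Q.obj Y) (DerivedCategory.Q.obj P) =
      ((LTen₂ R).map (Prod.mkHom ((resFactors φ).hom.app Y) (𝟙 (DerivedCategory.Q.obj P))) ≫
      (ε R).app ((resCx φ).obj Y, P) ≫ DerivedCategory.Q.map (pfCx φ Y P)) ≫ inv I := by
    rw [← h]
    change _ = (_ ≫ I) ≫ inv I
    rw [assoc, IsIso.hom_inv_id, comp_id]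
  rw [h']
  infer_instance

/-- **The projection formula.** -/
theorem isIso_projPF (E : Dual.D R') (K : Dual.D R) : IsIso (projPF φ E K) := by
  obtain ⟨P, -, -, hPf, ⟨e₂⟩⟩ := exists_kproj_kflat_iso K
  let Y := DerivedCategory.Q.objPreimage E
  let e₁ : DerivedCategory.Q.obj Y ≅ E := DerivedCategory.Q.objObjPreimageIso E
  haveI := isIso_projPF_Q φ Y P hPf
  have hn := projPF_naturality φ e₁.hom e₂.hom
  haveI : IsIso (Prod.mkHom ((DRing.restrictD φ).map e₁.hom) e₂.hom) := by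
    rw [isIso_prod_iff]; exact ⟨inferInstance, inferInstance⟩
  haveI : IsIso (Prod.mkHom e₁.hom ((LBase φ).map e₂.hom)) := by
    rw [isIso_prod_iff]; exact ⟨inferInstance, inferInstance⟩
  have : projPF φ E K = inv ((LTen₂ R).map (Prod.mkHom ((DRing.restrictD φ).map e₁.hom) e₂.hom)) ≫
      projPF φ _ _ ≫ (DRing.restrictD φ).map
        ((LTen₂ R').map (Prod.mkHom e₁.hom ((LBase φ).map e₂.hom))) := by
    rw [← hn, IsIso.inv_hom_id_assoc]
  rw [this]
  infer_instance

end PF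

end Groth.Agent.H4.RB2
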