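import Mathlib
import Groth.Prelude.Def_DTen5
import Groth.Prelude.Def_DTen6
import Groth.Agent.H4.RB2
import Groth.Agent.H4.Cpt3
import Groth.Agent.H4.EV3
import Groth.Agent.H4.KI8

open CategoryTheory Category Limits MonoidalCategory Pretriangulated

universe u

namespace Groth.Agent.H4.RB3

open DTen
open Groth.Agent.H4.LK1 Groth.Agent.H4.LK2 Groth.Agent.H4.LK3 Groth.Agent.H4.LK4
open Groth.Agent.H4.LK6 Groth.Agent.H4.LK7 Groth.Agent.H4.LK8
open Groth.Agent.H4.TC3 Groth.Agent.H4.TC4 Groth.Agent.H4.RB1 Groth.Agent.H4.RB2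
open Groth.Agent.H4.EV1 Groth.Agent.H4.Loc2 Groth.Agent.H4.Cpt1 Groth.Agent.H4.Cpt2 Groth.Agent.H4.Cpt3

attribute [local instance] HasDerivedCategory.standard

section YEx

variable {C D E : Type*} [Category C] [Category D] [Category E]
  [Preadditive C] [HasZeroObject C] [HasShift C ℤ] [∀ n : ℤ, (shiftFunctor C n).Additive] [Pretriangulated C]
  [Preadditive D] [HasZeroObject D] [HasShift D ℤ] [∀ n : ℤ, (shiftFunctor D n).Additive] [Pretriangulated D]
  [Preadditive E]

lemma yexact_of_isTriangulated (F : C ⥤ D) [F.CommShift ℤ] [F.IsTriangulated] : YExact F :=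
  fun T hT => YEx₂.of_distTriang _ (F.map_distinguished T hT)

lemma yexact_id : YExact (𝟭 C) := fun T hT => YEx₂.of_distTriang _ hT

lemma YExact.triangulated_comp (F : C ⥤ D) [F.CommShift ℤ] [F.IsTriangulated] {G : D ⥤ E}
    (hG : YExact G) : YExact (F ⋙ G) :=
  fun T hT => hG _ (F.map_distinguished T hT)

lemma yexact_leftAdjoint {F : C ⥤ D} {G : D ⥤ C} (adj : F ⊣ G) [G.CommShift ℤ] [G.IsTriangulated] :
    YExact F := by
  letI := adj.leftAdjointCommShift ℤ
  haveI := adj.commShift_of_rightAdjoint ℤ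
  haveI := adj.isTriangulated_leftAdjoint
  exact yexact_of_isTriangulated F

lemma YExact.leftAdjoint_comp {F : C ⥤ D} {G : D ⥤ C} (adj : F ⊣ G) [G.CommShift ℤ]
    [G.IsTriangulated] {H : D ⥤ E} (hH : YExact H) : YExact (F ⋙ H) := by
  letI := adj.leftAdjointCommShift ℤ
  haveI := adj.commShift_of_rightAdjoint ℤ
  haveI := adj.isTriangulated_leftAdjoint
  exact YExact.triangulated_comp F hH

lemma yexact_rightAdjoint {F : C ⥤ D} {G : D ⥤ C} (adj : F ⊣ G) [G.PreservesZeroMorphisms] :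
    YExact G :=
  YExact.of_iso (Functor.leftUnitor G) (YExact.comp_rightAdjoint yexact_id adj)

end YEx

section Main

variable {R A : Type u} [CommRing R] [CommRing A] (φ : R →+* A)
variable [HasLTen R] [HasLTen A] [HasLBase φ] [HasResTen φ] [ResLegIso φ] [HasRHomRel φ]

/-- the relative dualizing object `RHom(A, R)`. -/
noncomputable abbrev ω : Dual.D A := (RHomRel φ).obj (unit R)

/-- `K ↦ ω ⊗ (K ⊗ A)` -/
noncomputable abbrev Z : Dual.D R ⥤ Dual.D A := LBase φ ⋙ (LTen A).obj (ω φ)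

/-- the counit-type map `res (ω ⊗ LK) ⟶ K` -/
noncomputable def σ (K : Dual.D R) : (DRing.restrictD φ).obj ((Z φ).obj K) ⟶ K :=
  haveI := isIso_projPF φ (ω φ) K
  inv (projPF φ (ω φ) K) ≫ (LTen₂ R).map (Prod.mkHom (relEv φ (unit R)) (𝟙 K)) ≫ (unitL R).app K

lemma σ_naturality {K K' : Dual.D R} (g : K ⟶ K') :
    (DRing.restrictD φ).map ((Z φ).map g) ≫ σ φ K' = σ φ K ≫ g := by
  haveI := isIso_projPF φ (ω φ) K
  haveI := isIso_projPF φ (ω φ) K'
  dsimp only [σ]
  have h1 := projPF_naturality φ (𝟙 (ω φ)) g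
  have h2 : (DRing.restrictD φ).map ((Z φ).map g) ≫ inv (projPF φ (ω φ) K') =
      inv (projPF φ (ω φ) K) ≫
        (LTen₂ R).map (Prod.mkHom ((DRing.restrictD φ).map (𝟙 (ω φ))) g) := by
    rw [IsIso.eq_inv_comp, ← assoc, IsIso.comp_inv_eq]
    exact h1.symm
  have h3 := (unitL R).naturality g
  dsimp at h3
  rw [← assoc, h2, assoc, assoc, assoc, ← h3]
  congr 1
  rw [← assoc, ← assoc, ← Functor.map_comp, ← Functor.map_comp]
  congr 2
  simp only [prod_comp, Prod.mkHom]
  refine Prod.ext ?_ ?_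
  · dsimp
    rw [CategoryTheory.Functor.map_id, id_comp, comp_id]
  · dsimp
    rw [id_comp, comp_id]

/-- the comparison `ω ⊗ (K ⊗ A) ⟶ RHom(A, K)` -/
noncomputable def τ : Z φ ⟶ RHomRel φ where
  app K := (relAdj φ).homEquiv _ _ (σ φ K)
  naturality K K' g := by
    rw [← Adjunction.homEquiv_naturality_left, ← Adjunction.homEquiv_naturality_right,
      σ_naturality]

lemma homEquiv_symm_comp_τ (K : Dual.D R) (T : Dual.D A) (g : T ⟶ (Z φ).obj K) :
    ((relAdj φ).homEquiv _ _).symm (g ≫ (τ φ).app K) = (DRing.restrictD φ).map g ≫ σ φ K := by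
  dsimp only [τ]
  rw [← Adjunction.homEquiv_naturality_left, Equiv.symm_apply_apply]

lemma map_comp_σ (K : Dual.D R) (T' : Dual.D A) (g' : T' ⟶ ω φ) :
    haveI := isIso_projPF φ T' K
    (DRing.restrictD φ).map ((tensorRightD A ((LBase φ).obj K)).map g') ≫ σ φ K =
      inv (projPF φ T' K) ≫
        (tensorRightD R K).map (((relAdj φ).homEquiv _ _).symm g') ≫ (unitL R).app K := by
  haveI := isIso_projPF φ (ω φ) K
  haveI := isIso_projPF φ T' K
  dsimp only [σ]
  have h1 := projPF_naturality φ g' (𝟙 K)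
  have h2 : (DRing.restrictD φ).map ((tensorRightD A ((LBase φ).obj K)).map g') ≫
      inv (projPF φ (ω φ) K) =
      inv (projPF φ T' K) ≫ (LTen₂ R).map (Prod.mkHom ((DRing.restrictD φ).map g') (𝟙 K)) := by
    rw [CategoryTheory.Functor.map_id] at h1
    rw [IsIso.eq_inv_comp, ← assoc, IsIso.comp_inv_eq]
    exact h1.symm
  rw [← assoc, h2, assoc]
  congr 1
  rw [← assoc]
  congr 1
  rw [Adjunction.homEquiv_counit]
  change _ = (LTen₂ R).map (Prod.mkHom _ (𝟙 K))
  rw [← Functor.map_comp]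
  congr 1

/-- the base case: `τ` is an isomorphism on objects `K` such that tensoring with `K` and with
`K ⊗ A` are equivalences. -/
theorem isIso_τ_of_equivalence (K : Dual.D R) [(tensorRightD R K).Full] [(tensorRightD R K).Faithful]
    [(tensorRightD A ((LBase φ).obj K)).Full] [(tensorRightD A ((LBase φ).obj K)).Faithful]
    [(tensorRightD A ((LBase φ).obj K)).EssSurj] : IsIso ((τ φ).app K) := by
  rw [isIso_iff_yoneda_map_bijective]
  intro T
  suffices h : Function.Bijective (fun g : T ⟶ (Z φ).obj K => (DRing.restrictD φ).map g ≫ σ φ K) by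
    have e : (fun g : T ⟶ (Z φ).obj K => g ≫ (τ φ).app K) =
        ((relAdj φ).homEquiv _ _) ∘ (fun g => (DRing.restrictD φ).map g ≫ σ φ K) := by
      funext g
      dsimp only [Function.comp_apply]
      rw [← homEquiv_symm_comp_τ, Equiv.apply_symm_apply]
    rw [e]
    exact (Equiv.bijective _).comp h
  let Ψ := tensorRightD A ((LBase φ).obj K)
  let T' := Ψ.objPreimage T
  let e : Ψ.obj T' ≅ T := Ψ.objObjPreimageIso T
  haveI := isIso_projPF φ T' K
  haveI : IsIso ((unitL R).app K) := Groth.Agent.H4.KI7.isIso_unitL_app K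
  have h1 : Function.Bijective
      (fun g : Ψ.obj T' ⟶ (Z φ).obj K => (DRing.restrictD φ).map g ≫ σ φ K) := by
    have hΨ : Function.Bijective (fun g' : T' ⟶ ω φ => Ψ.map g') :=
      ⟨fun a b hab => Ψ.map_injective hab, fun g => Ψ.map_surjective g⟩
    rw [← Function.Bijective.of_comp_iff _ hΨ]
    have e2 : (fun g : Ψ.obj T' ⟶ (Z φ).obj K => (DRing.restrictD φ).map g ≫ σ φ K) ∘
        (fun g' : T' ⟶ ω φ => Ψ.map g') =
        (fun t => inv (projPF φ T' K) ≫ t) ∘ (fun t => t ≫ (unitL R).app K) ∘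
          (fun t => (tensorRightD R K).map t) ∘ ((relAdj φ).homEquiv _ _).symm := by
      funext g'
      exact map_comp_σ φ K T' g'
    rw [e2]
    refine (bijective_precomp_iso _).comp ((bijective_postcomp_iso _).comp
      (Function.Bijective.comp ?_ (Equiv.bijective _)))
    exact ⟨fun a b hab => (tensorRightD R K).map_injective hab,
      fun g => (tensorRightD R K).map_surjective g⟩
  have e3 : (fun g : T ⟶ (Z φ).obj K => (DRing.restrictD φ).map g ≫ σ φ K) =
      (fun t => (DRing.restrictD φ).map e.inv ≫ t) ∘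
        (fun g : Ψ.obj T' ⟶ (Z φ).obj K => (DRing.restrictD φ).map g ≫ σ φ K) ∘
        (fun g => e.hom ≫ g) := by
    funext g
    dsimp only [Function.comp_apply]
    rw [Functor.map_comp, ← assoc, ← assoc, ← Functor.map_comp, e.inv_hom_id,
      CategoryTheory.Functor.map_id, id_comp]
  rw [e3]
  exact (bijective_precomp_iso _).comp (h1.comp (bijective_precomp_iso _))

end Main

section Unit

variable {R A : Type u} [CommRing R] [CommRing A] (φ : R →+* A)

/-- base change of the unit complex -/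
noncomputable def extUnitIso : (extCx φ).obj (𝟙_ (DRing.Cx R)) ≅ 𝟙_ (DRing.Cx A) :=
  (HomologicalComplex.singleMapHomologicalComplex (extM φ) (ComplexShape.up ℤ) 0).app
      (𝟙_ (ModuleCat.{u} R)) ≪≫
    (HomologicalComplex.single _ _ 0).mapIso (Functor.Monoidal.εIso (extM φ)).symm

variable [HasLBase φ]

/-- derived base change of the unit -/
noncomputable def LBaseUnitIso : (LBase φ).obj (unit R) ≅ unit A :=
  haveI := isIso_baseCmp_of_kflat φ (𝟙_ (DRing.Cx R)) Groth.Agent.H4.EV3.kflat_unit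
  asIso ((baseCmp φ).app (𝟙_ (DRing.Cx R))) ≪≫ DerivedCategory.Q.mapIso (extUnitIso φ)

/-- derived base change of the shifted unit -/
noncomputable def LBaseUnitShiftIso (n : ℤ) :
    (LBase φ).obj ((Dual.inD R R)⟦n⟧) ≅ (unit A)⟦n⟧ :=
  letI := (baseAdj φ).leftAdjointCommShift ℤ
  (LBase φ).mapIso ((shiftFunctor (Dual.D R) n).mapIso Groth.Agent.H4.KI8.inDUnitIso) ≪≫
    ((LBase φ).commShiftIso n).app (unit R) ≪≫
    (shiftFunctor (Dual.D A) n).mapIso (LBaseUnitIso φ)

end Unit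

section Final

variable {R A : Type u} [CommRing R] [CommRing A] (φ : R →+* A)
variable [HasLTen R] [HasLTen A] [HasLBase φ] [HasResTen φ] [ResLegIso φ] [HasRHomRel φ]

lemma isEquivalence_tensorRightD_of_iso [HasLTen₃ A] [IsSymMonoidal A] (K : Dual.D A) (n : ℤ)
    (e : K ≅ (unit A)⟦n⟧) : (tensorRightD A K).IsEquivalence := by
  haveI := Groth.Agent.H4.EV3.isEquivalence_tensorRightD_unitShift (A := A) n
  exact Functor.isEquivalence_of_iso ((LTen A).flip.mapIso e.symm)

theorem isIso_τ_unitShift [HasLTen₃ R] [IsSymMonoidal R] [HasLTen₃ A] [IsSymMonoidal A] (n : ℤ) :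
    IsIso ((τ φ).app ((Dual.inD R R)⟦n⟧)) := by
  haveI := isEquivalence_tensorRightD_of_iso ((Dual.inD R R)⟦n⟧) n
    ((shiftFunctor (Dual.D R) n).mapIso Groth.Agent.H4.KI8.inDUnitIso)
  haveI := isEquivalence_tensorRightD_of_iso ((LBase φ).obj ((Dual.inD R R)⟦n⟧)) n
    (LBaseUnitShiftIso φ n)
  exact isIso_τ_of_equivalence φ _

lemma yexact_Z : YExact (Z φ) :=
  YExact.leftAdjoint_comp (baseAdj φ) (Groth.Agent.H4.EV3.yexact_LTen_obj (ω φ))

lemma yexact_RHomRel : YExact (RHomRel φ) := by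
  haveI : (RHomRel φ).Additive := (relAdj φ).right_adjoint_additive
  exact yexact_rightAdjoint (relAdj φ)

/-- `ω ⊗ -` and `- ⊗ ω` -/
noncomputable def flipIso (X : Dual.D A) : (LTen A).obj X ≅ tensorRightD A X :=
  NatIso.ofComponents (fun Y =>
    haveI := isIso_symm_app Y X
    asIso ((DTen.symm A).app (Y, X)))
    (fun {Y Y'} f => by
      have := (DTen.symm A).naturality (Prod.mkHom f (𝟙 X) : (Y, X) ⟶ (Y', X))
      exact this)

lemma presCoprod_Z [HasRHom A] : PresCoprod (Z φ) := by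
  have h1 : PresCoprod (LBase φ ⋙ tensorRightD A (ω φ)) :=
    presCoprod_of_adjunction ((baseAdj φ).comp (rhomAdj A (ω φ)))
  exact h1.of_iso (Functor.isoWhiskerLeft (LBase φ) (flipIso (ω φ)).symm)

open Groth.Agent.H4.AP1 Groth.Agent.H4.ProjAmp Groth.Agent.H4.DRing1 in
lemma isPerfect_res_W (hA : DRing.IsPerfect R ((DRing.restrictD φ).obj (unit A))) (i : ℤ) :
    DRing.IsPerfect R ((DRing.restrictD φ).obj (W A i)) := by
  have e1 : W A i ≅ (unit A)⟦-i⟧ :=
    (shI (ModuleCat.of A A) (-i) i (by simp)).symm ≪≫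
      (shiftFunctor (Dual.D A) (-i)).mapIso Groth.Agent.H4.KI8.inDUnitIso
  have e2 : (DRing.restrictD φ).obj (W A i) ≅ ((DRing.restrictD φ).obj (unit A))⟦-i⟧ :=
    (DRing.restrictD φ).mapIso e1 ≪≫ ((DRing.restrictD φ).commShiftIso (-i)).app (unit A)
  exact isPerfect_of_iso e2.symm (isPerfect_shift _ _ hA)

lemma presCoprod_RHomRel (hA : DRing.IsPerfect R ((DRing.restrictD φ).obj (unit A))) :
    PresCoprod (RHomRel φ) :=
  presCoprod_rightAdjoint (relAdj φ) (fun i => wc_of_isPerfect (isPerfect_res_W φ hA i))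

/-- **Main theorem**: for `A` perfect over `R`, `ω ⊗ (K ⊗ A) ⟶ RHom(A, K)` is an isomorphism. -/
theorem isIso_τ [HasLTen₃ R] [IsSymMonoidal R] [HasLTen₃ A] [IsSymMonoidal A] [HasRHom A]
    (hA : DRing.IsPerfect R ((DRing.restrictD φ).obj (unit A))) (K : Dual.D R) :
    IsIso ((τ φ).app K) :=
  isIso_app_of_localizing (yexact_Z φ) (yexact_RHomRel φ) (presCoprod_Z φ)
    (presCoprod_RHomRel φ hA) (τ φ) (isIso_τ_unitShift φ) K

/-- S13895 with all binders as instances. -/
theorem nonempty_RHomRel_iso [HasLTen₃ R] [IsSymMonoidal R] [HasLTen₃ A] [IsSymMonoidal A] [HasRHom A]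
    [HasLTenMix φ] (hA : DRing.IsPerfect R ((DRing.restrictD φ).obj (unit A))) :
    Nonempty (RHomRel φ ≅ (Functor.curry.obj (LTenMix φ)).flip.obj ((RHomRel φ).obj (unit R))) := by
  haveI : ∀ K, IsIso ((τ φ).app K) := isIso_τ φ hA
  haveI : IsIso (τ φ) := NatIso.isIso_of_isIso_app _
  let e1 : Z φ ≅ RHomRel φ := asIso (τ φ)
  let e2 : Z φ ≅ LBase φ ⋙ tensorRightD A (ω φ) := Functor.isoWhiskerLeft (LBase φ) (flipIso (ω φ))
  let e3 : LBase φ ⋙ tensorRightD A (ω φ) ≅ (Functor.curry.obj (LTenMix φ)).flip.obj (ω φ) :=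
    NatIso.ofComponents (fun K =>
      haveI := isIso_split_app φ K (ω φ)
      asIso ((split φ).app (K, ω φ)))
      (fun {K K'} g => by
        have := (split φ).naturality (Prod.mkHom g (𝟙 (ω φ)) : (K, ω φ) ⟶ (K', ω φ))
        exact this)
  exact ⟨e1.symm ≪≫ e2 ≪≫ e3⟩

end Final

end Groth.Agent.H4.RB3
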