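import Mathlib
import Groth.Prelude.Def_DTen5
import Groth.Prelude.Def_DTen6
import Groth.Agent.H4.RB3
import Groth.Agent.H4.EV6

open CategoryTheory Category Limits MonoidalCategory Pretriangulated Opposite

universe u

namespace Groth.Agent.H4.RB4

open DTen
open Groth.Agent.H4.LK1 Groth.Agent.H4.LK2 Groth.Agent.H4.LK3 Groth.Agent.H4.LK4
open Groth.Agent.H4.LK6 Groth.Agent.H4.LK7 Groth.Agent.H4.LK8
open Groth.Agent.H4.TC3 Groth.Agent.H4.TC4 Groth.Agent.H4.RB1 Groth.Agent.H4.RB2 Groth.Agent.H4.RB3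
open Groth.Agent.H4.EV1 Groth.Agent.H4.EV5

attribute [local instance] HasDerivedCategory.standard

variable {R R' : Type u} [CommRing R] [CommRing R'] (φ : R →+* R')
  [HasLTen R] [HasLTen R'] [HasRHom R] [HasRHom R'] [HasLBase φ] [HasResTen φ] [ResLegIso φ]

/-- the adjunct `L RHom(K, M) ⊗ L K ⟶ L M` of the base change map -/
noncomputable def bcFlat (K M : Dual.D R) [IsIso (rhomBC φ K ((LBase φ).obj M))] :
    (LTen₂ R').obj ((LBase φ).obj ((RHomR R K).obj M), (LBase φ).obj K) ⟶ (LBase φ).obj M :=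
  (rhomHomEquiv _ _ _).symm (bcRHom φ K M)

/-- the characterization (†) of the base change map -/
lemma mm_comp_bcFlat (K M : Dual.D R) [IsIso (rhomBC φ K ((LBase φ).obj M))] :
    mm φ ((RHomR R K).obj M) K ≫ (DRing.restrictD φ).map (bcFlat φ K M) =
      ev K M ≫ (baseAdj φ).unit.app M := by
  have h1 := comp_rhomBCCore φ K ((LBase φ).obj M) ((RHomR R K).obj M) (bcRHom φ K M)
  have h2 := bcRHom_fac φ K M
  have h3 := rhomBC_fac φ K ((LBase φ).obj M)
  have h4 := (rhomAdj R K).counit.naturality ((baseAdj φ).unit.app M)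
  dsimp only [bcFlat]
  rw [← h1, Adjunction.homEquiv_unit, h2, ← h3, ← assoc, ← Functor.map_comp, assoc,
    IsIso.inv_hom_id, comp_id]
  exact h4

section MonoidalL

omit [HasRHom R] [HasRHom R']

/-- the (op)lax monoidal comparison `L(X ⊗ K) ⟶ LX ⊗ LK` of derived base change -/
noncomputable def mmAdj (X K : Dual.D R) :
    (LBase φ).obj ((LTen₂ R).obj (X, K)) ⟶ (LTen₂ R').obj ((LBase φ).obj X, (LBase φ).obj K) :=
  ((baseAdj φ).homEquiv _ _).symm (mm φ X K)

lemma mmAdj_comp (X K : Dual.D R) (M : Dual.D R')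
    (g : (LTen₂ R').obj ((LBase φ).obj X, (LBase φ).obj K) ⟶ M) :
    mmAdj φ X K ≫ g = ((baseAdj φ).homEquiv _ _).symm (mm φ X K ≫ (DRing.restrictD φ).map g) := by
  dsimp only [mmAdj]
  rw [Adjunction.homEquiv_naturality_right_symm]

/-- derived base change is strong monoidal -/
instance isIso_mmAdj (X K : Dual.D R) : IsIso (mmAdj φ X K) := by
  rw [isIso_iff_coyoneda_map_bijective]
  intro M
  have e : (fun g : (LTen₂ R').obj ((LBase φ).obj X, (LBase φ).obj K) ⟶ M => mmAdj φ X K ≫ g) =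
      ((baseAdj φ).homEquiv _ _).symm ∘ (fun g => mm φ X K ≫ (DRing.restrictD φ).map g) := by
    funext g
    exact mmAdj_comp φ X K M g
  rw [e]
  exact (Equiv.bijective _).comp (bijective_mm φ X K M)

end MonoidalL

/-- `b♭ = δ⁻¹ ≫ L(ev)` -/
lemma mmAdj_comp_bcFlat (K M : Dual.D R) [IsIso (rhomBC φ K ((LBase φ).obj M))] :
    mmAdj φ ((RHomR R K).obj M) K ≫ bcFlat φ K M = (LBase φ).map (ev K M) := by
  rw [mmAdj_comp, mm_comp_bcFlat, Adjunction.homEquiv_counit, Functor.map_comp, assoc,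
    Adjunction.left_triangle_components, comp_id]

/-- the base case: the base change map is an isomorphism when tensoring with `K` and with `L K`
are equivalences. -/
theorem isIso_bcRHom_of_equivalence (K M : Dual.D R) [IsIso (rhomBC φ K ((LBase φ).obj M))]
    [(tensorRightD R K).IsEquivalence] [(tensorRightD R' ((LBase φ).obj K)).IsEquivalence] :
    IsIso (bcRHom φ K M) := by
  haveI : (RHomR R K).IsEquivalence := (rhomAdj R K).isEquivalence_right_of_isEquivalence_left
  haveI : IsIso (ev K M) := by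
    change IsIso ((rhomAdj R K).counit.app M)
    infer_instance
  haveI : IsIso (bcFlat φ K M) := by
    have h := mmAdj_comp_bcFlat φ K M
    have : bcFlat φ K M = inv (mmAdj φ ((RHomR R K).obj M) K) ≫ (LBase φ).map (ev K M) := by
      rw [← h, IsIso.inv_hom_id_assoc]
    rw [this]
    infer_instance
  have h2 : bcRHom φ K M = (rhomHomEquiv _ _ _) (bcFlat φ K M) := by
    dsimp only [bcFlat]
    rw [Equiv.apply_symm_apply]
  rw [h2]
  change IsIso ((rhomAdj R' ((LBase φ).obj K)).homEquiv _ _ (bcFlat φ K M))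
  rw [Adjunction.homEquiv_unit]
  infer_instance

lemma bcFlat_naturality {K₁ K₂ : Dual.D R} (k : K₁ ⟶ K₂) (M : Dual.D R)
    [IsIso (rhomBC φ K₁ ((LBase φ).obj M))] [IsIso (rhomBC φ K₂ ((LBase φ).obj M))] :
    (LTen₂ R').map (Prod.mkHom ((LBase φ).map (RHomMap k M)) (𝟙 ((LBase φ).obj K₁))) ≫
        bcFlat φ K₁ M =
      (LTen₂ R').map (Prod.mkHom (𝟙 ((LBase φ).obj ((RHomR R K₂).obj M))) ((LBase φ).map k)) ≫
        bcFlat φ K₂ M := by
  apply (bijective_mm φ ((RHomR R K₂).obj M) K₁ ((LBase φ).obj M)).1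
  dsimp only
  have h1 := mm_naturality φ (RHomMap k M) (𝟙 K₁)
  have h2 := mm_naturality φ (𝟙 ((RHomR R K₂).obj M)) k
  rw [CategoryTheory.Functor.map_id] at h1 h2
  rw [Functor.map_comp, Functor.map_comp, ← reassoc_of% h1, ← reassoc_of% h2, mm_comp_bcFlat,
    mm_comp_bcFlat, ← assoc, ← assoc, RHom_map_ev]

lemma bcRHom_naturality {K₁ K₂ : Dual.D R} (k : K₁ ⟶ K₂) (M : Dual.D R)
    [IsIso (rhomBC φ K₁ ((LBase φ).obj M))] [IsIso (rhomBC φ K₂ ((LBase φ).obj M))] :
    (LBase φ).map (RHomMap k M) ≫ bcRHom φ K₁ M =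
      bcRHom φ K₂ M ≫ RHomMap ((LBase φ).map k) ((LBase φ).obj M) := by
  apply (rhomHomEquiv _ _ _).symm.injective
  have h1 := bcFlat_naturality φ k M
  have e1 : (rhomHomEquiv _ _ _).symm ((LBase φ).map (RHomMap k M) ≫ bcRHom φ K₁ M) =
      (LTen₂ R').map (Prod.mkHom ((LBase φ).map (RHomMap k M)) (𝟙 ((LBase φ).obj K₁))) ≫
        bcFlat φ K₁ M :=
    (rhomAdj R' ((LBase φ).obj K₁)).homEquiv_naturality_left_symm _ _
  have e2 : (rhomHomEquiv _ _ _).symm
      (bcRHom φ K₂ M ≫ RHomMap ((LBase φ).map k) ((LBase φ).obj M)) =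
      (LTen₂ R').map (Prod.mkHom (𝟙 ((LBase φ).obj ((RHomR R K₂).obj M))) ((LBase φ).map k)) ≫
        bcFlat φ K₂ M := by
    have h3 := RHom_map_ev ((LBase φ).map k) ((LBase φ).obj M)
    have h4 : (rhomHomEquiv _ _ _).symm
        (bcRHom φ K₂ M ≫ RHomMap ((LBase φ).map k) ((LBase φ).obj M)) =
        (LTen₂ R').map (Prod.mkHom (bcRHom φ K₂ M) (𝟙 ((LBase φ).obj K₁))) ≫
          (LTen₂ R').map (Prod.mkHom (RHomMap ((LBase φ).map k) ((LBase φ).obj M))
            (𝟙 ((LBase φ).obj K₁))) ≫ ev _ _ := by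
      have := (rhomAdj R' ((LBase φ).obj K₁)).homEquiv_counit _ _
        (bcRHom φ K₂ M ≫ RHomMap ((LBase φ).map k) ((LBase φ).obj M))
      rw [Functor.map_comp, assoc] at this
      exact this
    rw [h4, h3]
    have h5 : bcFlat φ K₂ M =
        (LTen₂ R').map (Prod.mkHom (bcRHom φ K₂ M) (𝟙 ((LBase φ).obj K₂))) ≫ ev _ _ :=
      (rhomAdj R' ((LBase φ).obj K₂)).homEquiv_counit _ _ _
    rw [h5, ← assoc, ← assoc, ← Functor.map_comp, ← Functor.map_comp]
    congr 2
    simp only [prod_comp, Prod.mkHom]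
    refine Prod.ext ?_ ?_
    · dsimp
      rw [id_comp, comp_id]
    · dsimp
      rw [id_comp, comp_id]
  rw [e1, e2, h1]

section Perfect

open Groth.Agent.H4.EV2 Groth.Agent.H4.HC6

omit [HasLTen R] [HasLTen R'] [HasRHom R] [HasRHom R'] [HasLBase φ] [HasResTen φ] [ResLegIso φ] in
/-- A natural transformation between contravariant Yoneda-exact functors out of `D(R)ᵒᵖ` which is an
isomorphism on all shifts of `R[0]` is an isomorphism on every perfect object. -/
theorem isIso_app_of_isPerfect_op' {D : Type*} [Category D] [Preadditive D]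
    {F G : (Dual.D R)ᵒᵖ ⥤ D} (hF : YExactOp F)
    (hG : YExactOp G) (τ : F ⟶ G) (h1 : ∀ n : ℤ, IsIso (τ.app (op ((Dual.inD R R)⟦n⟧))))
    (K : Dual.D R) (hK : DRing.IsPerfect R K) : IsIso (τ.app (op K)) := by
  let P : Dual.D R → Prop := fun X => ∀ n : ℤ, IsIso (τ.app (op (X⟦n⟧)))
  have hP : ThickPred P :=
    { iso := fun {X Y} e hX n =>
        (NatTrans.isIso_app_iff_of_iso τ ((shiftFunctor (Dual.D R) n).mapIso e).symm.op).1 (hX n)
      shift := fun X m hX n =>
        (NatTrans.isIso_app_iff_of_iso τ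
          ((shiftFunctorAdd' (Dual.D R) m n _ rfl).app X).symm.op).1 (hX (m + n))
      ext₂ := fun T hT hX hZ n => by
        have hTn := Triangle.shift_distinguished T hT n
        refine isIso_app_obj₂_op hF hG τ _ hTn (hX n) (hZ n) ?_ ?_
        · exact (NatTrans.isIso_app_iff_of_iso τ
            ((shiftFunctorAdd' (Dual.D R) n 1 _ rfl).app T.obj₁).symm.op).1 (hX (n + 1))
        · exact (NatTrans.isIso_app_iff_of_iso τ
            ((shiftFunctorAdd' (Dual.D R) n (-1) _ rfl).app T.obj₃).symm.op).1 (hZ (n + -1))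
      retract := fun {X Y} i p hip hY n => by
        haveI := hY n
        refine ⟨G.map (p⟦n⟧').op ≫ inv (τ.app (op (Y⟦n⟧))) ≫ F.map (i⟦n⟧').op, ?_, ?_⟩
        · rw [← τ.naturality_assoc, IsIso.hom_inv_id_assoc, ← F.map_comp, ← op_comp,
            ← Functor.map_comp, hip, CategoryTheory.Functor.map_id, op_id,
            CategoryTheory.Functor.map_id]
        · rw [assoc, assoc, τ.naturality, IsIso.inv_hom_id_assoc, ← G.map_comp, ← op_comp,
            ← Functor.map_comp, hip, CategoryTheory.Functor.map_id, op_id,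
            CategoryTheory.Functor.map_id] }
  have := hP.of_isPerfect h1 hK 0
  exact (NatTrans.isIso_app_iff_of_iso τ ((shiftFunctorZero (Dual.D R) ℤ).app K).symm.op).1 this

/-- `K ↦ L RHom(K, M)` -/
noncomputable abbrev F₁ (M : Dual.D R) : (Dual.D R)ᵒᵖ ⥤ Dual.D R' :=
  (RHom R).flip.obj M ⋙ LBase φ

/-- `K ↦ RHom(L K, L M)` -/
noncomputable abbrev F₂ (M : Dual.D R) : (Dual.D R)ᵒᵖ ⥤ Dual.D R' :=
  (LBase φ).op ⋙ (RHom R').flip.obj ((LBase φ).obj M)

/-- the base change map as a natural transformation in `K` -/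
noncomputable def bcNat (M : Dual.D R) : F₁ φ M ⟶ F₂ φ M where
  app X :=
    haveI := isIso_rhomBC φ (unop X) ((LBase φ).obj M)
    bcRHom φ (unop X) M
  naturality X Y k := by
    haveI := isIso_rhomBC φ (unop X) ((LBase φ).obj M)
    haveI := isIso_rhomBC φ (unop Y) ((LBase φ).obj M)
    exact bcRHom_naturality φ k.unop M

lemma yexactOp_F₁ (M : Dual.D R) : YExactOp (F₁ φ M) := by
  letI := (baseAdj φ).leftAdjointCommShift ℤ
  haveI := (baseAdj φ).commShift_of_rightAdjoint ℤ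
  haveI := (baseAdj φ).isTriangulated_leftAdjoint
  intro T hT
  obtain ⟨w, hw⟩ := cpl_RHomMap T hT M
  exact YEx₂.of_distTriang _ ((LBase φ).map_distinguished _ hw)

lemma yexactOp_F₂ (M : Dual.D R) : YExactOp (F₂ φ M) := by
  letI := (baseAdj φ).leftAdjointCommShift ℤ
  haveI := (baseAdj φ).commShift_of_rightAdjoint ℤ
  haveI := (baseAdj φ).isTriangulated_leftAdjoint
  intro T hT
  exact (cpl_RHomMap _ ((LBase φ).map_distinguished T hT) ((LBase φ).obj M)).yex₂

/-- **S14264**: the base change map for `RHom` is an isomorphism for `K` perfect. -/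
theorem isIso_bcRHom_of_isPerfect [HasLTen₃ R] [IsSymMonoidal R] [HasLTen₃ R'] [IsSymMonoidal R']
    (K M : Dual.D R) [IsIso (rhomBC φ K ((LBase φ).obj M))] (hK : DRing.IsPerfect R K) :
    IsIso (bcRHom φ K M) := by
  have h := isIso_app_of_isPerfect_op' (yexactOp_F₁ φ M) (yexactOp_F₂ φ M) (bcNat φ M) (fun n => by
    haveI := isIso_rhomBC φ ((Dual.inD R R)⟦n⟧) ((LBase φ).obj M)
    haveI := isEquivalence_tensorRightD_of_iso ((Dual.inD R R)⟦n⟧) n
      ((shiftFunctor (Dual.D R) n).mapIso Groth.Agent.H4.KI8.inDUnitIso)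
    haveI := isEquivalence_tensorRightD_of_iso ((LBase φ).obj ((Dual.inD R R)⟦n⟧)) n
      (LBaseUnitShiftIso φ n)
    exact isIso_bcRHom_of_equivalence φ _ M) K hK
  exact h

end Perfect

end Groth.Agent.H4.RB4
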