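import Mathlib
import Groth.Agent.H4.LC1
import Groth.Agent.H4.RB4
import Groth.Agent.H4.SG2
import Groth.Agent.H4.CF6
import Groth.Agent.H4.US13
import Groth.Agent.Lib.Helper8.ExtScalarsBridge

set_option autoImplicit false
universe u
open CategoryTheory Category Limits Pretriangulated MonoidalCategory

namespace Groth.Agent.H4.INV1

attribute [local instance] HasDerivedCategory.standard
attribute [local instance] Groth.Agent.H4.LK4.hasLTen Groth.Agent.H4.LK5.hasLTen₃
  Groth.Agent.H4.KI7.isSymMonoidal Groth.Agent.H4.KI6.hasRHom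

open DRing DTen DerivedCategory Groth.Agent.H4.FB2 Groth.Agent.H4.FB3 Groth.Agent.H4.LC1 Groth.Agent.H4.SG1
  Groth.Agent.H4.RB4 Groth.Agent.H4.CF1 Groth.Agent.H4.DThick

open scoped TensorProduct

section base

variable {A B : Type u} [CommRing A] [CommRing B] [Algebra A B]
  [HasLBase (algebraMap A B)]

/-- derived base change of a flat module placed in degree 0 whose base change is free of rank one
is the unit -/
noncomputable def LBaseSg0Iso (P : Type u) [AddCommGroup P] [Module A P] [Module.Flat A P]
    (e : B ⊗[A] P ≃ₗ[B] B) :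
    (LBase (algebraMap A B)).obj (Q.obj (sg0 (ModuleCat.of A P))) ≅ unit B :=
  haveI := Groth.Agent.H4.LK6.isIso_baseCmp_of_kflat (algebraMap A B) (sg0 (ModuleCat.of A P))
    (Groth.Agent.H4.SG2.kflat_sg0 (ModuleCat.of A P))
  asIso ((baseCmp (algebraMap A B)).app (sg0 (ModuleCat.of A P))) ≪≫
    Q.mapIso ((HomologicalComplex.singleMapHomologicalComplex (extM (algebraMap A B))
      (ComplexShape.up ℤ) 0).app (ModuleCat.of A P) ≪≫
      (HomologicalComplex.single _ _ 0).mapIso
        (((Groth.Agent.H8.ExtBridge.extEquiv (A := A) (B := B) (ModuleCat.of A P)).trans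
          e).toModuleIso))

end base

section main

variable {A : Type u} [CommRing A] [IsNoetherianRing A]

/-- tensoring a dualizing complex with an invertible module gives a dualizing complex -/
theorem isDualizing_tensor_invertible (ω : Dual.D A) (hω : Dual.IsDualizing A ω)
    (P : Type u) [AddCommGroup P] [Module A P] [Module.Invertible A P] :
    Dual.IsDualizing A ((tensorRightD A (Q.obj (sg0 (ModuleCat.of A P)))).obj ω) := by
  obtain ⟨s, hs, hfree⟩ := Module.Invertible.exists_finset_free_localization A P
  refine isDualizing_of_local _ (fun q => ?_)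
  have hex : ∃ r ∈ s, r ∉ q.asIdeal := by
    by_contra hcon
    simp only [not_exists, not_and, not_not] at hcon
    have hle : Ideal.span (s : Set A) ≤ q.asIdeal := Ideal.span_le.2 (fun r hr => hcon r hr)
    rw [hs] at hle
    exact q.isPrime.ne_top (top_le_iff.1 hle)
  obtain ⟨r, hrs, hr⟩ := hex
  refine ⟨r, hr, ?_⟩
  haveI := hfree r hrs
  obtain ⟨e0⟩ := (Module.Invertible.free_iff_linearEquiv (R := Localization.Away r)
    (M := LocalizedModule.Away r P)).1 inferInstance
  let e1 : (Localization.Away r) ⊗[A] P ≃ₗ[Localization.Away r] LocalizedModule.Away r P :=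
    (IsLocalizedModule.isBaseChange (Submonoid.powers r) (Localization.Away r)
      (LocalizedModule.mkLinearMap (Submonoid.powers r) P)).equiv
  haveI : DRing.HasLBaseChange (algebraMap A (Localization.Away r)) :=
    Groth.Agent.H4.KProj.hasLBaseChange _
  haveI : DTen.HasLBase (algebraMap A (Localization.Away r)) :=
    ⟨(Groth.Agent.H4.KProj.adjLBaseChange (algebraMap A (Localization.Away r))).isRightAdjoint⟩
  haveI : DTen.HasResTen (algebraMap A (Localization.Away r)) := Groth.Agent.H4.RB2.hasResTen _
  haveI : DTen.ResLegIso (algebraMap A (Localization.Away r)) := Groth.Agent.H4.RB2.resLegIso _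
  haveI : Module.Flat A P := inferInstance
  let X : Dual.D A := Q.obj (sg0 (ModuleCat.of A P))
  let L := LBase (algebraMap A (Localization.Away r))
  let i1 : L.obj ((LTen₂ A).obj (ω, X)) ≅ (LTen₂ (Localization.Away r)).obj (L.obj ω, L.obj X) :=
    asIso (mmAdj (algebraMap A (Localization.Away r)) ω X)
  let i2 : L.obj X ≅ unit (Localization.Away r) := LBaseSg0Iso P (e1.trans e0)
  haveI := Groth.Agent.H4.KI7.isIso_unitR_app (L.obj ω)
  let i3 : (LTen₂ (Localization.Away r)).obj (L.obj ω, unit (Localization.Away r)) ≅ L.obj ω :=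
    asIso ((unitR (Localization.Away r)).app (L.obj ω))
  let i4 : L ≅ E A (Localization.Away r) :=
    (baseAdj (algebraMap A (Localization.Away r))).leftAdjointUniq (adjE A (Localization.Away r))
  have h1 : Dual.IsDualizing (Localization.Away r) ((E A (Localization.Away r)).obj ω) :=
    isDualizing_E_localization A (Submonoid.powers r) ω hω
  refine isDualizing_of_iso ?_ h1
  exact (i4.app ω).symm ≪≫ i3.symm ≪≫
    (LTen₂ (Localization.Away r)).mapIso (Iso.prod (Iso.refl (L.obj ω)) i2.symm) ≪≫ i1.symm ≪≫
    i4.app _

end main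

end Groth.Agent.H4.INV1
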