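import Mathlib
import Groth.Agent.H4.FR2
import Groth.Agent.H4.KosPerf

set_option autoImplicit false
universe u
open CategoryTheory Category Limits Pretriangulated TensorProduct

namespace Groth.Agent.H4.FR5

attribute [local instance] HasDerivedCategory.standard

open DRing DerivedCategory Groth.Agent.H4.DCompl1 Groth.Agent.H4.FB1 Groth.Agent.H4.FB2
  Groth.Agent.H4.FR1 Groth.Agent.H4.FR2

section perf

variable {A : Type u} [CommRing A]

/-- a finite projective module is perfect. -/
theorem isPerfect_inD_of_projective (M : Type u) [AddCommGroup M] [Module A M] [Module.Finite A M]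
    [Module.Projective A M] : IsPerfect A (Dual.inD A M) := by
  refine ⟨(CochainComplex.singleFunctor (ModuleCat.{u} A) 0).obj (ModuleCat.of A M), 0, 0,
    fun i hi => ?_, fun i => ?_,
    ⟨((singleFunctorIsoCompQ (ModuleCat.{u} A) 0).app (ModuleCat.of A M)).symm⟩⟩
  · exact HomologicalComplex.isZero_single_obj_X (ComplexShape.up ℤ) 0 (ModuleCat.of A M) i
      (by omega)
  · by_cases hi : i = 0
    · subst hi
      have e := (HomologicalComplex.singleObjXSelf (ComplexShape.up ℤ) 0 (ModuleCat.of A M))
      exact ⟨Module.Finite.equiv e.toLinearEquiv.symm,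
        Module.Projective.of_equiv e.toLinearEquiv.symm⟩
    · have hz : IsZero (((CochainComplex.singleFunctor (ModuleCat.{u} A) 0).obj
          (ModuleCat.of A M)).X i) :=
        HomologicalComplex.isZero_single_obj_X (ComplexShape.up ℤ) 0 (ModuleCat.of A M) i hi
      haveI := ModuleCat.subsingleton_of_isZero hz
      exact ⟨inferInstance, inferInstance⟩

end perf

section main

variable (P P' B B' : Type u) [CommRing P] [CommRing P'] [CommRing B] [CommRing B']
  [Algebra P P'] [Algebra P B] [Algebra P' B'] [Algebra B B'] [Algebra P B']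
  [IsScalarTower P P' B'] [IsScalarTower P B B'] [Algebra.IsPushout P P' B B']
  [Module.Flat P P'] [Module.Flat B B']
  (Rψ : Dual.D P ⥤ Dual.D B) (adj : Res P B ⊣ Rψ)
  (Rψ' : Dual.D P' ⥤ Dual.D B') (adj' : Res P' B' ⊣ Rψ')

theorem bijective_Theta'_of (M : Dual.D P) (c : ℤ)
    (hM : Function.Bijective (Psi (gammaE (B := P') M) ((Res P B).obj (G B c)))) :
    Function.Bijective (Theta' P P' B B' Rψ adj (G B c) M) := by
  letI : Module P (G B c ⟶ Rψ.obj M) := Module.compHom _ (algebraMap P B)
  haveI : IsScalarTower P B (G B c ⟶ Rψ.obj M) := ⟨fun p b x => by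
      change (p • b) • x = algebraMap P B p • (b • x)
      rw [Algebra.smul_def, mul_smul]⟩
  let cancel := Algebra.IsPushout.cancelBaseChange P P' B B' (G B c ⟶ Rψ.obj M)
  let hatLin : (G B c ⟶ Rψ.obj M) ≃ₗ[P] ((Res P B).obj (G B c) ⟶ M) :=
    { Groth.Agent.H4.US1.homAddEquiv Rψ adj (G B c) M with
      map_smul' := fun p g => Groth.Agent.H4.US1.homAddEquiv_smul Rψ adj (G B c) M p g }
  have key : ∀ t : P' ⊗[P] (G B c ⟶ Rψ.obj M),
      Theta' P P' B B' Rψ adj (G B c) M (PsiE (B := B') (G B c) (Rψ.obj M) (cancel.symm t)) =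
        PsiE (B := P') ((Res P B).obj (G B c)) M (hatLin.toLinearMap.lTensor P' t) := by
    intro t
    induction t using TensorProduct.induction_on with
    | zero => simp only [map_zero]
    | tmul p' g =>
      rw [Algebra.IsPushout.cancelBaseChange_symm_tmul, PsiE_tmul, Theta'_smul, Theta'_map,
        LinearMap.lTensor_tmul, PsiE_tmul]
      rfl
    | add x y hx hy => simp only [map_add, hx, hy]
  have h1 : Function.Bijective (PsiE (B := B') (G B c) (Rψ.obj M)) :=
    bijective_PsiE _ _ (bijective_Psi_G (gammaE (Rψ.obj M)) c (bijective_Theta_gammaE _ c))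
  have h2 : Function.Bijective (PsiE (B := P') ((Res P B).obj (G B c)) M) :=
    bijective_PsiE _ _ hM
  have h3 : Function.Bijective (hatLin.toLinearMap.lTensor P') :=
    (LinearEquiv.lTensor P' hatLin).bijective
  have h4 : Function.Bijective (fun t => PsiE (B := B') (G B c) (Rψ.obj M) (cancel.symm t)) :=
    h1.comp cancel.symm.bijective
  have h5 : (⇑(Theta' P P' B B' Rψ adj (G B c) M)) ∘
      (fun t => PsiE (B := B') (G B c) (Rψ.obj M) (cancel.symm t)) =
      (⇑(PsiE (B := P') ((Res P B).obj (G B c)) M)) ∘ ⇑(hatLin.toLinearMap.lTensor P') := by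
    funext t
    exact key t
  have h6 : Function.Bijective ((⇑(Theta' P P' B B' Rψ adj (G B c) M)) ∘
      (fun t => PsiE (B := B') (G B c) (Rψ.obj M) (cancel.symm t))) := by
    rw [h5]
    exact h2.comp h3
  exact (Function.Bijective.of_comp_iff _ h4).1 h6

theorem bijective_comp_tau_of (M : Dual.D P) (c : ℤ)
    (hM : Function.Bijective (Psi (gammaE (B := P') M) ((Res P B).obj (G B c)))) :
    Function.Bijective (fun φ : G B' c ⟶ (E B B').obj (Rψ.obj M) =>
      φ ≫ tau P P' B B' Rψ adj Rψ' adj' M) := by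
  have hΘ := bijective_Theta'_of P P' B B' Rψ adj M c hM
  have hformula : ∀ h : (E B B').obj (G B c) ⟶ (E B B').obj (Rψ.obj M),
      Theta' P P' B B' Rψ adj (G B c) M h = (beta P P' B B').hom.app (G B c) ≫
        (adj'.homEquiv _ _).symm (h ≫ tau P P' B B' Rψ adj Rψ' adj' M) := by
    intro h
    rw [symm_comp_tau, Theta'_apply]
  constructor
  · intro φ φ' hφ
    change φ ≫ _ = φ' ≫ _ at hφ
    have : (EGIso (A := B) (B := B') c).hom ≫ φ = (EGIso (A := B) (B := B') c).hom ≫ φ' := by
      apply hΘ.1
      rw [hformula, hformula, assoc, assoc, hφ]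
    exact (cancel_epi _).1 this
  · intro χ
    obtain ⟨h, hh⟩ := hΘ.2 ((beta P P' B B').hom.app (G B c) ≫
      (adj'.homEquiv _ _).symm ((EGIso (A := B) (B := B') c).hom ≫ χ))
    rw [hformula] at hh
    have hh' := (cancel_epi _).1 hh
    have hh'' := (adj'.homEquiv _ _).symm.injective hh'
    refine ⟨(EGIso (A := B) (B := B') c).inv ≫ h, ?_⟩
    change ((EGIso (A := B) (B := B') c).inv ≫ h) ≫ _ = χ
    rw [assoc, hh'', Iso.inv_hom_id_assoc]

theorem isIso_tau_of (M : Dual.D P)
    (hM : ∀ c : ℤ, Function.Bijective (Psi (gammaE (B := P') M) ((Res P B).obj (G B c)))) :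
    IsIso (tau P P' B B' Rψ adj Rψ' adj' M) :=
  isIso_of_homG _ (fun c => bijective_comp_tau_of P P' B B' Rψ adj Rψ' adj' M c (hM c))

lemma isPerfect_res_G [Module.Finite P B] [Module.Projective P B] (c : ℤ) :
    IsPerfect P ((Res P B).obj (G B c)) :=
  Groth.Agent.H4.DRing1.isPerfect_of_iso (Groth.Agent.H4.US1.resGIso P B c).symm
    (Groth.Agent.H4.DRing1.isPerfect_shift _ _ (isPerfect_inD_of_projective B))

include adj adj' in
/-- **Flat base change for the right adjoint of restriction of scalars along a finite projective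
map**, for arbitrary (unbounded) complexes. -/
theorem nonempty_iso_of_projective [Module.Finite P B] [Module.Projective P B] (M : Dual.D P) :
    Nonempty ((E B B').obj (Rψ.obj M) ≅ Rψ'.obj ((E P P').obj M)) :=
  haveI := isIso_tau_of P P' B B' Rψ adj Rψ' adj' M (fun c =>
    bijective_Psi_of_isPerfect (gammaE M) (fun c' => bijective_Theta_gammaE M c') _
      (isPerfect_res_G P B c))
  ⟨asIso (tau P P' B B' Rψ adj Rψ' adj' M)⟩

end main

end Groth.Agent.H4.FR5
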