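import Mathlib
import Groth.Agent.H4.INV1
import Groth.Agent.H4.DZ3
import Groth.Agent.H4.EV4
import Groth.Agent.H4.FR5

set_option autoImplicit false
universe u
open CategoryTheory Category Limits Pretriangulated MonoidalCategory

namespace Groth.Agent.H4.INV2

attribute [local instance] HasDerivedCategory.standard
attribute [local instance] Groth.Agent.H4.LK4.hasLTen Groth.Agent.H4.LK5.hasLTen₃
  Groth.Agent.H4.KI7.isSymMonoidal Groth.Agent.H4.KI6.hasRHom

open DRing DTen DerivedCategory Groth.Agent.H4.SG1 Groth.Agent.H4.DZ2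

variable {A : Type u} [CommRing A] [IsNoetherianRing A]

/-- `RHom(ω, ω ⊗ P) ≅ P[0]` for `P` finite projective -/
theorem nonempty_RHom_tensor_iso (ω : Dual.D A) (hω : Dual.IsDualizing A ω)
    (P : Type u) [AddCommGroup P] [Module A P] [Module.Finite A P] [Module.Projective A P] :
    Nonempty ((RHomR A ω).obj ((tensorRightD A (Q.obj (sg0 (ModuleCat.of A P)))).obj ω) ≅
      Dual.inD A P) := by
  let X : Dual.D A := Q.obj (sg0 (ModuleCat.of A P))
  let eX : X ≅ Dual.inD A P :=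
    ((singleFunctorIsoCompQ (ModuleCat.{u} A) 0).app (ModuleCat.of A P)).symm
  have hX : DRing.IsPerfect A X :=
    Groth.Agent.H4.DRing1.isPerfect_of_iso eX.symm
      (Groth.Agent.H4.FR5.isPerfect_inD_of_projective (A := A) P)
  haveI := Groth.Agent.H4.EV4.isIso_evalTen_of_isPerfect_left X ω ω hX
  haveI := Groth.Agent.H4.LK4.isIso_symm_app X ω
  obtain ⟨e0⟩ := Groth.Agent.H4.DZ3.nonempty_RHomR_self_iso ω hω
  haveI := Groth.Agent.H4.KI7.isIso_unitR_app X
  let i1 : (RHomR A ω).obj ((LTen₂ A).obj (ω, X)) ≅ (RHomR A ω).obj ((LTen₂ A).obj (X, ω)) :=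
    (RHomR A ω).mapIso
      (show (LTen₂ A).obj (ω, X) ≅ (LTen₂ A).obj (X, ω) from
        asIso ((DTen.symm A).app (X, ω)))
  let i2 : (LTen₂ A).obj (X, (RHomR A ω).obj ω) ≅ (RHomR A ω).obj ((LTen₂ A).obj (X, ω)) :=
    asIso (evalTen X ω ω)
  let i3 : (LTen₂ A).obj (X, (RHomR A ω).obj ω) ≅ (LTen₂ A).obj (X, unit A) :=
    (LTen₂ A).mapIso (Iso.prod (Iso.refl X) e0)
  let i4 : (LTen₂ A).obj (X, unit A) ≅ X := asIso ((unitR A).app X)
  exact ⟨i1 ≪≫ i2.symm ≪≫ i3 ≪≫ i4 ≪≫ eX⟩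

/-- `Hom(ω, (ω ⊗ P)[i]) ≃ H^i(P[0])` -/
theorem nonempty_hom_equiv (ω : Dual.D A) (hω : Dual.IsDualizing A ω)
    (P : Type u) [AddCommGroup P] [Module A P] [Module.Finite A P] [Module.Projective A P] (i : ℤ) :
    Nonempty ((ω ⟶ ((tensorRightD A (Q.obj (sg0 (ModuleCat.of A P)))).obj ω)⟦i⟧) ≃ₗ[A]
      Dual.HD A (Dual.inD A P) i) := by
  obtain ⟨e1⟩ := nonempty_extLinEquiv ω
    ((tensorRightD A (Q.obj (sg0 (ModuleCat.of A P)))).obj ω) i
  obtain ⟨e2⟩ := nonempty_RHom_tensor_iso ω hω P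
  exact ⟨e1.symm ≪≫ₗ ((homologyFunctor (ModuleCat.{u} A) i).mapIso e2).toLinearEquiv⟩

/-- `Hom(ω, ((ω ⊗ P)[n])[i]) ≃ H^{n+i}(P[0])` -/
theorem nonempty_hom_equiv' (ω : Dual.D A) (hω : Dual.IsDualizing A ω)
    (P : Type u) [AddCommGroup P] [Module A P] [Module.Finite A P] [Module.Projective A P]
    (n i m : ℤ) (h : n + i = m) :
    Nonempty ((ω ⟶ (((tensorRightD A (Q.obj (sg0 (ModuleCat.of A P)))).obj ω)⟦n⟧)⟦i⟧) ≃ₗ[A]
      Dual.HD A (Dual.inD A P) m) := by
  obtain ⟨e1⟩ := nonempty_hom_equiv ω hω P m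
  exact ⟨homIsoLinEquiv ω
    ((CategoryTheory.shiftFunctorAdd' (Dual.D A) n i m h).app _).symm ≪≫ₗ e1⟩

lemma subsingleton_HD_inD (P : Type u) [AddCommGroup P] [Module A P] (i : ℤ) (hi : i ≠ 0) :
    Subsingleton (Dual.HD A (Dual.inD A P) i) := by
  apply ModuleCat.subsingleton_of_isZero
  rcases lt_or_gt_of_ne hi with h' | h'
  · exact isZero_of_isGE (Dual.inD A P) 0 i h'
  · exact isZero_of_isLE (Dual.inD A P) 0 i h'

/-- `H^0(P[0]) ≃ P`. -/
noncomputable def HDInDEquiv (P : Type u) [AddCommGroup P] [Module A P] :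
    Dual.HD A (Dual.inD A P) 0 ≃ₗ[A] P :=
  ((singleFunctorCompHomologyFunctorIso (ModuleCat.{u} A) 0).app (ModuleCat.of A P)).toLinearEquiv

/-- uniqueness of the twist and the shift -/
theorem twist_unique [Nontrivial A] (ω : Dual.D A) (hω : Dual.IsDualizing A ω)
    (P P' : Type u) [AddCommGroup P] [Module A P] [Module.Invertible A P]
    [AddCommGroup P'] [Module A P'] [Module.Invertible A P'] (n n' : ℤ)
    (h : ((tensorRightD A (Q.obj (sg0 (ModuleCat.of A P)))).obj ω)⟦n⟧ ≅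
      ((tensorRightD A (Q.obj (sg0 (ModuleCat.of A P')))).obj ω)⟦n'⟧) :
    n = n' ∧ Nonempty (P ≃ₗ[A] P') := by
  have key : ∀ i m m' : ℤ, n + i = m → n' + i = m' →
      Nonempty (Dual.HD A (Dual.inD A P) m ≃ₗ[A] Dual.HD A (Dual.inD A P') m') := by
    intro i m m' hm hm'
    obtain ⟨e1⟩ := nonempty_hom_equiv' ω hω P n i m hm
    obtain ⟨e2⟩ := nonempty_hom_equiv' ω hω P' n' i m' hm'
    exact ⟨e1.symm ≪≫ₗ homIsoLinEquiv ω ((shiftFunctor (Dual.D A) i).mapIso h) ≪≫ₗ e2⟩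
  haveI : Nontrivial P := by
    by_contra hP
    rw [not_nontrivial_iff_subsingleton] at hP
    haveI := hP
    haveI : Subsingleton (TensorProduct A (Module.Dual A P) P) := by
      refine ⟨fun x y => ?_⟩
      have h0 : ∀ z : TensorProduct A (Module.Dual A P) P, z = 0 := by
        intro z
        induction z using TensorProduct.induction_on with
        | zero => rfl
        | tmul a b => rw [Subsingleton.elim b 0, TensorProduct.tmul_zero]
        | add a b ha hb => rw [ha, hb, add_zero]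
      rw [h0 x, h0 y]
    exact not_subsingleton A (Module.Invertible.linearEquiv A P).symm.toEquiv.subsingleton
  have hn : n = n' := by
    by_contra hne
    obtain ⟨e⟩ := key (-n) 0 (n' - n) (by ring) (by ring)
    haveI := subsingleton_HD_inD (A := A) P' (n' - n) (by omega)
    haveI : Subsingleton P := ((HDInDEquiv P).symm ≪≫ₗ e).toEquiv.subsingleton
    exact not_subsingleton P inferInstance
  refine ⟨hn, ?_⟩
  obtain ⟨e⟩ := key (-n) 0 0 (by ring) (by rw [← hn]; ring)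
  exact ⟨(HDInDEquiv P).symm ≪≫ₗ e ≪≫ₗ HDInDEquiv P'⟩

end Groth.Agent.H4.INV2
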