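import Mathlib
import Groth.Agent.H4.TV
import Groth.Agent.H4.KProj5
import Groth.Agent.Lib.Helper2.TorBalApps

set_option autoImplicit false
universe u
open CategoryTheory CategoryTheory.Limits MonoidalCategory

namespace Groth.Agent.H4.TorBridge

attribute [local instance] HasDerivedCategory.standard

open DerivedCategory DRing Groth.Agent.H4.LDer Groth.Agent.H4.PC Groth.Agent.H4.BC Groth.Agent.H4.TV

variable {A : Type u} [CommRing A]

/-- exactness of `G(R.cochainComplex)` in degree `-p` vs exactness of `G(R.complex)` in degree `p`. -/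
lemma exactAt_cochainComplex_iff {B : Type u} [CommRing B] (G : ModuleCat.{u} A ⥤ ModuleCat.{u} B)
    [G.Additive] {X : ModuleCat.{u} A} (R : ProjectiveResolution X) (p : ℕ) (hp : 1 ≤ p) :
    ((GC G).obj R.cochainComplex).ExactAt (-(p : ℤ)) ↔
      ((G.mapHomologicalComplex (ComplexShape.down ℕ)).obj R.complex).ExactAt p := by
  obtain ⟨q, rfl⟩ : ∃ q, p = q + 1 := ⟨p - 1, by omega⟩
  rw [HomologicalComplex.exactAt_iff' _ (-((q + 1 : ℕ) : ℤ) - 1) (-((q + 1 : ℕ) : ℤ))
    (-((q + 1 : ℕ) : ℤ) + 1) (by simp) (by simp),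
    HomologicalComplex.exactAt_iff' _ (q + 2) (q + 1) q (by simp) (by simp)]
  refine ShortComplex.exact_iff_of_iso (ShortComplex.isoMk
    (G.mapIso (R.cochainComplexXIso _ (q + 2) (by push_cast; ring)))
    (G.mapIso (R.cochainComplexXIso _ (q + 1) (by push_cast; ring)))
    (G.mapIso (R.cochainComplexXIso _ q (by push_cast; ring))) ?_ ?_)
  · change G.map _ ≫ G.map (R.complex.d (q + 2) (q + 1)) =
      G.map (R.cochainComplex.d _ _) ≫ G.map _
    rw [← G.map_comp, ← G.map_comp]
    congr 1
    rw [R.cochainComplex_d _ _ (q + 2) (q + 1) (by push_cast; ring) (by push_cast; ring)]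
    simp
  · change G.map _ ≫ G.map (R.complex.d (q + 1) q) =
      G.map (R.cochainComplex.d _ _) ≫ G.map _
    rw [← G.map_comp, ← G.map_comp]
    congr 1
    rw [R.cochainComplex_d _ _ (q + 1) q (by push_cast; ring) (by push_cast; ring)]
    simp

variable [∀ M : ModuleCat.{u} A, (Gh (tensorRight M)).HasLeftDerivedFunctor (WA A)]

/-- **Bridge**: vanishing of `H^{-p}(X ⊗^L M)` is vanishing of Mathlib's `Tor_p(X, M)`. -/
theorem HV_single_iff_isZero_tor (X M : ModuleCat.{u} A) (p : ℕ) (hp : 1 ≤ p) :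
    HV (tensorRight M) ((singleFunctor (ModuleCat.{u} A) 0).obj X) (-(p : ℤ)) ↔
      IsZero (((Tor (ModuleCat.{u} A) p).obj X).obj M) := by
  let R := projectiveResolution X
  have e : toD R.cochainComplex ≅ (singleFunctor (ModuleCat.{u} A) 0).obj X :=
    asIso (Q.map R.π') ≪≫ ((singleFunctorIsoCompQ (ModuleCat.{u} A) 0).app X).symm
  rw [HV_iff_TV R.cochainComplex e]
  unfold TV
  rw [exactAt_cochainComplex_iff (tensorRight M) R p hp,
    HomologicalComplex.exactAt_iff_isZero_homology]
  obtain ⟨i⟩ := Groth.Agent.H2.TorBal.nonempty_tor_iso X M R p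
  exact i.isZero_iff.symm

end Groth.Agent.H4.TorBridge
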