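import Mathlib
import Groth.Prelude.Def_DTen5
import Groth.Prelude.Def_DTen6
import Groth.Agent.H4.RB4
import Groth.Agent.H4.AP2
import Groth.Agent.H4.RestrPC
import Groth.Agent.S6946

open CategoryTheory Category Limits MonoidalCategory Pretriangulated Opposite

universe u

namespace Groth.Agent.H4.RB5

open DTen DRing DerivedCategory
open Groth.Agent.H4.LK1 Groth.Agent.H4.LK2 Groth.Agent.H4.LK3 Groth.Agent.H4.LK4
open Groth.Agent.H4.LK6 Groth.Agent.H4.LK7 Groth.Agent.H4.LK8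
open Groth.Agent.H4.TC3 Groth.Agent.H4.TC4 Groth.Agent.H4.RB1 Groth.Agent.H4.RB2 Groth.Agent.H4.RB3
  Groth.Agent.H4.RB4
open Groth.Agent.H4.EV1 Groth.Agent.H4.EV5 Groth.Agent.H4.AP1 Groth.Agent.H4.AP2
  Groth.Agent.H4.ProjAmp Groth.Agent.H4.DRing1

attribute [local instance] HasDerivedCategory.standard

set_option quotPrecheck false in
/-- notation for the object part of `⊗^L` -/
local notation:max "tO(" a ", " b ")" => (LTen₂ _).obj (a, b)

section Bounds

variable {R R' : Type u} [CommRing R] [CommRing R'] (φ : R →+* R')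

lemma isGE_restrictD_iff (K : Dual.D R') (b : ℤ) :
    ((restrictD φ).obj K).IsGE b ↔ K.IsGE b := by
  rw [isGE_iff, isGE_iff]
  refine forall_congr' (fun i => imp_congr_right (fun _ => ?_))
  rw [← Groth.Agent.H4.RestrPC.isZero_restrictScalars_iff φ]
  exact (Groth.Agent.H4.DComp.restrictHomologyIso φ K i).isZero_iff

variable [HasLTen R]

/-- `B ⊗^L D^{≥ m} ⊆ D^{≥ a + m}` for `B` of tor amplitude in `[a, b]`. -/
lemma isGE_tO_of_torAmp (B Y : Dual.D R) (a b m : ℤ) (hB : HasTorAmplitudeIn R a b B) [Y.IsGE m] :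
    tO(B, Y).IsGE (a + m) := by
  obtain ⟨E, hz, hfl, ⟨eB⟩⟩ := hB
  obtain ⟨Y', hY', ⟨e⟩⟩ := exists_iso_Q_obj_of_isGE Y m
  have hk : KFlat E := Groth.Agent.H4.TC6.kflat_of_boundedAbove E b (fun k hk => hz k (Or.inr hk)) hfl
  haveI := Groth.Agent.H4.LK4.isIso_ε_of_kflat E Y' (Or.inl hk)
  let e' : tO(B, Y) ≅ Q.obj (E ⊗ Y') :=
    (LTen₂ R).mapIso (Iso.prod eB.symm e) ≪≫ asIso ((ε R).app (E, Y'))
  haveI : (Q.obj (E ⊗ Y')).IsGE (a + m) := by
    rw [isGE_Q_obj_iff, CochainComplex.isGE_iff]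
    intro i hi
    exact HomologicalComplex.ExactAt.of_isZero
      (Groth.Agent.H4.TP1.isZero_tensor_X_of_lt E Y' i a m
        (fun k hk => hz k (Or.inl hk))
        (fun k hk => Y'.isZero_of_isStrictlyGE m k hk) hi)
  exact TStructure.t.isGE_of_iso e'.symm (a + m)

variable [HasLTen R'] [HasLBase φ] [HasResTen φ] [ResLegIso φ]

/-- `res (L Y) ≅ res(R') ⊗^L Y` -/
noncomputable def resLBaseIso [HasLTen₃ R'] [IsSymMonoidal R'] (Y : Dual.D R) :
    tO((restrictD φ).obj (unit R'), Y) ≅ (restrictD φ).obj ((LBase φ).obj Y) :=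
  haveI := isIso_projPF φ (unit R') Y
  asIso (projPF φ (unit R') Y) ≪≫ (restrictD φ).mapIso ((asIso (unitL R')).app ((LBase φ).obj Y))

/-- derived base change along a map of finite tor dimension is way-out right. -/
lemma isGE_LBase [HasLTen₃ R'] [IsSymMonoidal R'] (a : ℤ)
    (ha : HasTorAmplitudeIn R a 0 ((restrictD φ).obj (unit R'))) (Y : Dual.D R) (m : ℤ) [Y.IsGE m] :
    ((LBase φ).obj Y).IsGE (a + m) := by
  rw [← isGE_restrictD_iff φ]
  haveI := isGE_tO_of_torAmp ((restrictD φ).obj (unit R')) Y a 0 m ha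
  exact TStructure.t.isGE_of_iso (resLBaseIso φ Y) (a + m)

omit [HasLTen R] [HasLTen R'] [HasResTen φ] [ResLegIso φ] in
/-- derived base change is right t-exact. -/
lemma isLE_LBase (C : Dual.D R) (q : ℤ) [C.IsLE q] : ((LBase φ).obj C).IsLE q := by
  obtain ⟨E, hE, ⟨e⟩⟩ := Groth.Agent.H4.ResP.exists_iso_of_isLE C q
  have hk : KFlat E := Groth.Agent.H4.TC8.kflat_of_isBAF hE
  haveI := isIso_baseCmp_of_kflat φ E hk
  let e' : (LBase φ).obj C ≅ Q.obj ((extCx φ).obj E) :=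
    (LBase φ).mapIso e.symm ≪≫ asIso ((baseCmp φ).app E)
  haveI : (Q.obj ((extCx φ).obj E)).IsLE q := by
    rw [isLE_Q_obj_iff, CochainComplex.isLE_iff]
    intro i hi
    exact HomologicalComplex.ExactAt.of_isZero ((extM φ).map_isZero (hE.1 i hi))
  exact TStructure.t.isLE_of_iso e'.symm q

end Bounds

section ApproxOp

variable {A B : Type u} [CommRing A] [CommRing B]

lemma hom_W_eq_zero_of_isGE (X : Dual.D B) (m i : ℤ) (hi : i < m) [X.IsGE m] (φ : W B i ⟶ X) :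
    φ = 0 := by
  haveI : (W B i).IsLE i := by
    rw [isLE_Q_obj_iff, CochainComplex.isLE_iff]
    intro k hk
    exact HomologicalComplex.ExactAt.of_isZero
      (HomologicalComplex.isZero_single_obj_X _ _ _ _ (by omega))
  exact TStructure.t.zero_of_isLE_of_isGE φ i m hi inferInstance inferInstance

/-- the main step of the contravariant way-out criterion. -/
lemma bijective_comp_app_of_approx_op {F₁ F₂ : (Dual.D A)ᵒᵖ ⥤ Dual.D B} (hF₁ : YExactOp F₁)
    (hF₂ : YExactOp F₂) (τ : F₁ ⟶ F₂) (c₁ c₂ : ℤ)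
    (h₁ : ∀ (q : ℤ) (C : Dual.D A), C.IsLE q → (F₁.obj (op C)).IsGE (c₁ - q))
    (h₂ : ∀ (q : ℤ) (C : Dual.D A), C.IsLE q → (F₂.obj (op C)).IsGE (c₂ - q))
    (hperf : ∀ P : Dual.D A, IsPerfect A P → IsIso (τ.app (op P)))
    (K : Dual.D A) (hK : IsPseudoCoherent' A K) (i : ℤ) (V : Dual.D B)
    (hV : ∀ (X : Dual.D B) (m : ℤ), X.IsGE m → i < m → ∀ φ : V ⟶ X, φ = 0) :
    Function.Bijective (fun φ : V ⟶ F₁.obj (op K) => φ ≫ τ.app (op K)) := by
  obtain ⟨T, hT, e, hP, hC⟩ := exists_approx K hK (min c₁ c₂ - i - 2)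
  haveI := hC
  haveI := hperf _ hP
  -- reduce to `T.obj₂`
  suffices hb : Function.Bijective
      (fun φ : V ⟶ F₁.obj (op T.obj₂) => φ ≫ τ.app (op T.obj₂)) by
    have heq : (fun φ : V ⟶ F₁.obj (op K) => φ ≫ τ.app (op K)) =
        (fun φ => φ ≫ F₂.map e.inv.op) ∘
          ((fun φ : V ⟶ F₁.obj (op T.obj₂) => φ ≫ τ.app (op T.obj₂)) ∘
          (fun φ => φ ≫ F₁.map e.hom.op)) := by
      funext φ
      simp only [Function.comp_apply]
      rw [assoc, assoc, ← τ.naturality, ← F₁.map_comp_assoc, ← op_comp, e.inv_hom_id, op_id,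
        CategoryTheory.Functor.map_id, id_comp]
    rw [heq]
    exact ((F₂.mapIso e.symm.op).homToEquiv.bijective).comp
      (hb.comp ((F₁.mapIso e.op).homToEquiv.bijective))
  have key : ∀ (F : (Dual.D A)ᵒᵖ ⥤ Dual.D B) (hF : YExactOp F) (c : ℤ)
      (hc : ∀ (q : ℤ) (C : Dual.D A), C.IsLE q → (F.obj (op C)).IsGE (c - q))
      (hci : min c₁ c₂ ≤ c),
      Function.Bijective (fun φ : V ⟶ F.obj (op T.obj₂) => φ ≫ F.map T.mor₁.op) := by
    intro F hF c hc hci
    have hTi := inv_rot_of_distTriang T hT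
    constructor
    · intro φ₁ φ₂ h12
      rw [← sub_eq_zero]
      have h0 : (φ₁ - φ₂) ≫ F.map T.mor₁.op = 0 := by
        rw [Preadditive.sub_comp]
        exact sub_eq_zero.2 h12
      obtain ⟨ψ, hψ⟩ := (hF _ hT).2 _ (φ₁ - φ₂) h0
      have := hV (F.obj (op T.obj₃)) (c - (min c₁ c₂ - i - 2))
        (hc _ T.obj₃ inferInstance) (by omega) ψ
      rw [← hψ, this]
      exact zero_comp
    · intro ξ
      haveI : (T.obj₃⟦(-1 : ℤ)⟧).IsLE (min c₁ c₂ - i - 1) :=
        TStructure.t.isLE_shift T.obj₃ (min c₁ c₂ - i - 2) (-1) (min c₁ c₂ - i - 1) (by ring)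
      have h0 := hV (F.obj (op (T.obj₃⟦(-1 : ℤ)⟧))) (c - (min c₁ c₂ - i - 1))
        (hc _ (T.obj₃⟦(-1 : ℤ)⟧) inferInstance) (by omega)
        (ξ ≫ F.map T.invRotate.mor₁.op)
      obtain ⟨ψ, hψ⟩ := (hF _ hTi).2 _ ξ h0
      exact ⟨ψ, hψ⟩
  have k₁ := key F₁ hF₁ c₁ h₁ (min_le_left _ _)
  have k₂ := key F₂ hF₂ c₂ h₂ (min_le_right _ _)
  have hsq : (fun φ : V ⟶ F₂.obj (op T.obj₂) => φ ≫ F₂.map T.mor₁.op) ∘
      (fun φ : V ⟶ F₁.obj (op T.obj₂) => φ ≫ τ.app (op T.obj₂)) =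
      (fun φ : V ⟶ F₁.obj (op T.obj₁) => φ ≫ τ.app (op T.obj₁)) ∘
        (fun φ : V ⟶ F₁.obj (op T.obj₂) => φ ≫ F₁.map T.mor₁.op) := by
    funext φ
    simp only [Function.comp_apply]
    rw [assoc, assoc, τ.naturality]
  have hcomp : Function.Bijective ((fun φ : V ⟶ F₂.obj (op T.obj₂) => φ ≫ F₂.map T.mor₁.op) ∘
      (fun φ : V ⟶ F₁.obj (op T.obj₂) => φ ≫ τ.app (op T.obj₂))) := by
    rw [hsq]
    exact (asIso (τ.app (op T.obj₁))).homToEquiv.bijective.comp k₁
  exact (Function.Bijective.of_comp_iff' k₂ _).1 hcomp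

/-- **Contravariant way-out criterion**. -/
theorem isIso_app_of_isPseudoCoherent_op {F₁ F₂ : (Dual.D A)ᵒᵖ ⥤ Dual.D B} (hF₁ : YExactOp F₁)
    (hF₂ : YExactOp F₂) (τ : F₁ ⟶ F₂) (c₁ c₂ : ℤ)
    (h₁ : ∀ (q : ℤ) (C : Dual.D A), C.IsLE q → (F₁.obj (op C)).IsGE (c₁ - q))
    (h₂ : ∀ (q : ℤ) (C : Dual.D A), C.IsLE q → (F₂.obj (op C)).IsGE (c₂ - q))
    (hperf : ∀ P : Dual.D A, IsPerfect A P → IsIso (τ.app (op P)))
    (K : Dual.D A) (hK : IsPseudoCoherent' A K) : IsIso (τ.app (op K)) := by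
  apply isIso_of_forall_hom_W_bijective
  intro i
  exact bijective_comp_app_of_approx_op hF₁ hF₂ τ c₁ c₂ h₁ h₂ hperf K hK i (W B i)
    (fun X m hX hm φ => by
      haveI := hX
      exact hom_W_eq_zero_of_isGE X m i hm φ)

end ApproxOp

section Main

variable {R R' : Type u} [CommRing R] [CommRing R'] (φ : R →+* R')
  [HasLTen R] [HasLTen R'] [HasRHom R] [HasRHom R'] [HasLBase φ] [HasResTen φ] [ResLegIso φ]
  [HasLTen₃ R] [IsSymMonoidal R] [HasLTen₃ R'] [IsSymMonoidal R']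

/-- the base change map for `RHom` is an isomorphism for `K` pseudo-coherent, `M` bounded below and
`R'` of finite tor dimension over `R`. -/
theorem isIso_bcRHom_of_torAmp (a : ℤ)
    (ha : HasTorAmplitudeIn R a 0 ((restrictD φ).obj (unit R'))) (K M : Dual.D R)
    [IsIso (rhomBC φ K ((LBase φ).obj M))] (hK : IsPseudoCoherent' R K) (n : ℤ) [M.IsGE n] :
    IsIso (bcRHom φ K M) := by
  haveI : ((LBase φ).obj M).IsGE (a + n) := isGE_LBase φ a ha M n
  have h := isIso_app_of_isPseudoCoherent_op (yexactOp_F₁ φ M) (yexactOp_F₂ φ M) (bcNat φ M)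
    (a + n) (a + n) ?_ ?_ ?_ K hK
  · exact h
  · intro q C hC
    haveI := hC
    haveI : ((RHomR R C).obj M).IsGE (n - q) := isGE_RHom C M q n
    have := isGE_LBase φ a ha ((RHomR R C).obj M) (n - q)
    have e : a + (n - q) = a + n - q := by ring
    rw [e] at this
    exact this
  · intro q C hC
    haveI := hC
    haveI : ((LBase φ).obj C).IsLE q := isLE_LBase φ C q
    exact isGE_RHom ((LBase φ).obj C) ((LBase φ).obj M) q (a + n)
  · intro P hP
    haveI := isIso_rhomBC φ P ((LBase φ).obj M)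
    exact isIso_bcRHom_of_isPerfect φ P M hP

end Main

section Alg

variable (R R' : Type u) [CommRing R] [CommRing R'] [Algebra R R']

/-- `R'` as an `R`-module, in two ways -/
noncomputable def resSelfEquiv :
    ((ModuleCat.restrictScalars.{u} (algebraMap R R')).obj (ModuleCat.of R' R')) ≃ₗ[R] R' where
  toFun := fun x => x
  invFun := fun x => x
  map_add' := fun _ _ => rfl
  map_smul' := fun r x => (Algebra.smul_def r (show R' from x)).symm
  left_inv := fun _ => rfl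
  right_inv := fun _ => rfl

/-- `R'` as an `R`-module, in two ways -/
noncomputable def resSelfIso :
    (ModuleCat.restrictScalars.{u} (algebraMap R R')).obj (ModuleCat.of R' R') ≅ ModuleCat.of R R' :=
  (resSelfEquiv R R').toModuleIso

/-- `res (unit R') ≅ R'[0]` -/
noncomputable def resUnitIso :
    (restrictD (algebraMap R R')).obj (unit R') ≅ Dual.inD R R' :=
  (resFactors (algebraMap R R')).app (𝟙_ (DRing.Cx R')) ≪≫
    Q.mapIso ((HomologicalComplex.singleMapHomologicalComplex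
      (ModuleCat.restrictScalars.{u} (algebraMap R R')) (ComplexShape.up ℤ) 0).app
        (𝟙_ (ModuleCat.{u} R')) ≪≫
      (HomologicalComplex.single _ _ 0).mapIso (resSelfIso R R')) ≪≫
    ((singleFunctorIsoCompQ (ModuleCat.{u} R) 0).app (ModuleCat.of R R')).symm

variable {R R'}
variable [HasLTen R] [HasLTen R'] [HasRHom R] [HasRHom R'] [HasLBase (algebraMap R R')]
  [HasResTen (algebraMap R R')] [ResLegIso (algebraMap R R')]
  [HasLTen₃ R] [IsSymMonoidal R] [HasLTen₃ R'] [IsSymMonoidal R']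

/-- S14267 -/
theorem isIso_bcRHom_of_hasFiniteTorDim (K M : Dual.D R)
    [IsIso (rhomBC (algebraMap R R') K ((LBase (algebraMap R R')).obj M))]
    (hR' : DRing.HasFiniteTorDim R R') (hK : IsPseudoCoherent' R K) (n : ℤ) (hM : M.IsGE n) :
    IsIso (bcRHom (algebraMap R R') K M) := by
  obtain ⟨d, hd⟩ := hR'
  have h1 := (Groth.Agent.S6946.result R R' d).1.1 hd
  have h2 : HasTorAmplitudeIn R (-(d : ℤ)) 0 ((restrictD (algebraMap R R')).obj (unit R')) :=
    Groth.Agent.H4.TorAmp.hasTorAmp_of_iso (resUnitIso R R').symm h1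
  haveI := hM
  exact isIso_bcRHom_of_torAmp (algebraMap R R') _ h2 K M hK n

/-- S14266 -/
theorem isIso_bcRHom_of_flat [Module.Flat R R'] (K M : Dual.D R)
    [IsIso (rhomBC (algebraMap R R') K ((LBase (algebraMap R R')).obj M))]
    (hK : IsPseudoCoherent' R K) (n : ℤ) (hM : M.IsGE n) :
    IsIso (bcRHom (algebraMap R R') K M) :=
  isIso_bcRHom_of_hasFiniteTorDim K M ⟨0, (Groth.Agent.S6946.result R R' 0).2.2 inferInstance⟩ hK n hM

end Alg

end Groth.Agent.H4.RB5
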