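import Mathlib
import Groth.Agent.H4.RB5
import Groth.Agent.H4.DZ5
import Groth.Agent.H4.FB3
import Groth.Agent.H4.INV1
import Groth.Agent.H4.INV2

set_option autoImplicit false
universe u
open CategoryTheory Category Limits Pretriangulated

namespace Groth.Agent.H4.UQ1

attribute [local instance] HasDerivedCategory.standard
attribute [local instance] Groth.Agent.H4.LK4.hasLTen Groth.Agent.H4.LK5.hasLTen₃
  Groth.Agent.H4.KI7.isSymMonoidal Groth.Agent.H4.KI6.hasRHom

open DRing DTen DerivedCategory Groth.Agent.H4.FB2 Groth.Agent.H4.FB3 Groth.Agent.H4.HC6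
  Groth.Agent.H4.DCompl1

set_option quotPrecheck false in
/-- notation for the object part of `⊗^L` -/
local notation:max "tO(" a ", " b ")" => (LTen₂ _).obj (a, b)

section bc

variable {A B : Type u} [CommRing A] [CommRing B] [Algebra A B] [Module.Flat A B]

/-- flat base change for `RHom`, in terms of `E` -/
theorem nonempty_E_RHom_iso (K M : Dual.D A) (hK : IsPseudoCoherent' A K) (n : ℤ) [M.IsGE n] :
    Nonempty ((E A B).obj ((RHomR A K).obj M) ≅
      (RHomR B ((E A B).obj K)).obj ((E A B).obj M)) := by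
  haveI : DRing.HasLBaseChange (algebraMap A B) := Groth.Agent.H4.KProj.hasLBaseChange _
  haveI : DTen.HasLBase (algebraMap A B) :=
    ⟨(Groth.Agent.H4.KProj.adjLBaseChange (algebraMap A B)).isRightAdjoint⟩
  haveI : DTen.HasResTen (algebraMap A B) := Groth.Agent.H4.RB2.hasResTen _
  haveI : DTen.ResLegIso (algebraMap A B) := Groth.Agent.H4.RB2.resLegIso _
  haveI := Groth.Agent.H4.RB1.isIso_rhomBC (algebraMap A B) K ((LBase (algebraMap A B)).obj M)
  haveI := Groth.Agent.H4.RB5.isIso_bcRHom_of_flat (R := A) (R' := B) K M hK n inferInstance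
  let e0 : LBase (algebraMap A B) ≅ E A B := (baseAdj (algebraMap A B)).leftAdjointUniq (adjE A B)
  exact ⟨(e0.app _).symm ≪≫ asIso (bcRHom (algebraMap A B) K M) ≪≫
    RHomIso (e0.app K).symm _ ≪≫ (RHomR B ((E A B).obj K)).mapIso (e0.app M)⟩

end bc

section loc1

variable {A : Type u} [CommRing A] [IsNoetherianRing A]

/-- locally, `RHom(ω₁, ω₂)` is a shift of the structure sheaf -/
theorem exists_E_RHom_iso_G (ω₁ ω₂ : Dual.D A) (h₁ : Dual.IsDualizing A ω₁)
    (h₂ : Dual.IsDualizing A ω₂) (p : Ideal A) [p.IsPrime] :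
    ∃ c : ℤ, Nonempty ((E A (Localization.AtPrime p)).obj ((RHomR A ω₁).obj ω₂) ≅
      G (Localization.AtPrime p) c) := by
  obtain ⟨a, b, -, -, hpc⟩ := exists_bounds_of_isDualizing ω₁ h₁
  obtain ⟨a', b', hge, -, -⟩ := exists_bounds_of_isDualizing ω₂ h₂
  haveI := hge
  obtain ⟨e⟩ := nonempty_E_RHom_iso (B := Localization.AtPrime p) ω₁ ω₂ hpc a'
  haveI : IsNoetherianRing (Localization.AtPrime p) :=
    IsLocalization.isNoetherianRing p.primeCompl _ inferInstance
  have d₁ := isDualizing_E_localization A p.primeCompl ω₁ h₁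
  have d₂ := isDualizing_E_localization A p.primeCompl ω₂ h₂
  obtain ⟨n₁, hn₁⟩ := Groth.Agent.H4.DZ5.exists_extData _ d₁
  obtain ⟨n₂, hn₂⟩ := Groth.Agent.H4.DZ5.exists_extData _ d₂
  obtain ⟨g⟩ := Groth.Agent.H4.DZ5.nonempty_RHom_dualizing_iso _ _ d₁ d₂ n₁ n₂ hn₁ hn₂
  exact ⟨n₂ - n₁, ⟨e ≪≫ g.symm⟩⟩

end loc1

section loc2

variable {A : Type u} [CommRing A]

/-- the localized module vs extension of scalars -/
noncomputable def locEquivExt (p : Ideal A) [p.IsPrime] (N : ModuleCat.{u} A) :
    LocalizedModule p.primeCompl N ≃ₗ[Localization.AtPrime p]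
      ((ModuleCat.extendScalars.{u, u, u} (algebraMap A (Localization.AtPrime p))).obj N) :=
  (LocalizedModule.equivTensorProduct p.primeCompl N).trans
    (Groth.Agent.H8.ExtBridge.extEquiv (A := A) (B := Localization.AtPrime p) N).symm

lemma mem_support_iff_not_isZero (N : ModuleCat.{u} A) (p : PrimeSpectrum A) :
    p ∈ Module.support A N ↔
      ¬ IsZero ((ModuleCat.extendScalars.{u, u, u}
        (algebraMap A (Localization.AtPrime p.asIdeal))).obj N) := by
  rw [Module.mem_support_iff]
  constructor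
  · intro h hz
    haveI := ModuleCat.subsingleton_of_isZero hz
    haveI : Subsingleton (LocalizedModule p.asIdeal.primeCompl N) :=
      (locEquivExt p.asIdeal N).toEquiv.subsingleton
    exact not_subsingleton _ ‹_›
  · intro h
    by_contra hn
    rw [not_nontrivial_iff_subsingleton] at hn
    haveI := hn
    haveI : Subsingleton ((ModuleCat.extendScalars.{u, u, u}
        (algebraMap A (Localization.AtPrime p.asIdeal))).obj N) :=
      (locEquivExt p.asIdeal N).symm.toEquiv.subsingleton
    exact h (ModuleCat.isZero_of_subsingleton _)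

/-- homology of `G` -/
lemma isZero_homology_G (B : Type u) [CommRing B] (c i : ℤ) (hi : i ≠ c) :
    IsZero ((homologyFunctor (ModuleCat.{u} B) i).obj (G B c)) := by
  rcases lt_or_gt_of_ne hi with h | h
  · exact (G B c).isZero_of_isGE c i h
  · exact (G B c).isZero_of_isLE c i h

/-- homology of `G` -/
noncomputable def homologyGIso (B : Type u) [CommRing B] (c : ℤ) :
    (homologyFunctor (ModuleCat.{u} B) c).obj (G B c) ≅ ModuleCat.of B B :=
  (singleFunctorCompHomologyFunctorIso (ModuleCat.{u} B) c).app (ModuleCat.of B B)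

end loc2

section loc3

variable {A : Type u} [CommRing A] [IsNoetherianRing A]

/-- the extension of scalars functor to the local ring at `p` -/
noncomputable abbrev extP (p : PrimeSpectrum A) :
    ModuleCat.{u} A ⥤ ModuleCat.{u} (Localization.AtPrime p.asIdeal) :=
  ModuleCat.extendScalars.{u, u, u} (algebraMap A (Localization.AtPrime p.asIdeal))

/-- **global structure of `RHom(ω₁, ω₂)` over a connected base** -/
theorem exists_single_iso [ConnectedSpace (PrimeSpectrum A)] (ω₁ ω₂ : Dual.D A)
    (h₁ : Dual.IsDualizing A ω₁) (h₂ : Dual.IsDualizing A ω₂) :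
    ∃ (i₀ : ℤ) (P : ModuleCat.{u} A), Module.Finite A P ∧
      (∀ p : PrimeSpectrum A, Nonempty ((extP p).obj P ≅
        ModuleCat.of (Localization.AtPrime p.asIdeal) (Localization.AtPrime p.asIdeal))) ∧
      Nonempty ((RHomR A ω₁).obj ω₂ ≅ (singleFunctor (ModuleCat.{u} A) i₀).obj P) := by
  set M := (RHomR A ω₁).obj ω₂ with hM
  let H : ℤ → ModuleCat.{u} A := fun i => (homologyFunctor (ModuleCat.{u} A) i).obj M
  have hfin : ∀ i, Module.Finite A (H i) := fun i =>
    Groth.Agent.H4.DZ3.finite_HD_RHomR ω₂ h₂ ω₁ h₁.finite_cohomology i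
  -- bounds
  obtain ⟨a₁, b₁, hge₁, hle₁, -⟩ := exists_bounds_of_isDualizing ω₁ h₁
  obtain ⟨a₂, b₂, hge₂, hle₂, -⟩ := exists_bounds_of_isDualizing ω₂ h₂
  obtain ⟨a₃, b₃, hinj⟩ := Groth.Agent.H4.DZ3.exists_injAmp_of_isDualizing ω₂ h₂
  haveI := hge₁
  haveI := hle₁
  haveI := hge₂
  haveI : M.IsGE (a₂ - b₁) := Groth.Agent.H4.AP2.isGE_RHom ω₁ ω₂ b₁ a₂
  haveI : M.IsLE (b₃ - a₁) := Groth.Agent.H4.AP2.isLE_RHom_of_injAmp ω₁ ω₂ a₁ a₃ b₃ hinj
  have hbd : ∀ i, ¬ IsZero (H i) → i ∈ Finset.Icc (a₂ - b₁) (b₃ - a₁) := by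
    intro i hi
    rw [Finset.mem_Icc]
    by_contra hcon
    apply hi
    by_cases h1 : i < a₂ - b₁
    · exact M.isZero_of_isGE (a₂ - b₁) i h1
    · exact M.isZero_of_isLE (b₃ - a₁) i (by omega)
  -- local structure
  choose c hc using (fun p : PrimeSpectrum A => exists_E_RHom_iso_G ω₁ ω₂ h₁ h₂ p.asIdeal)
  have key1 : ∀ (p : PrimeSpectrum A) (i : ℤ), i ≠ c p → IsZero ((extP p).obj (H i)) := by
    intro p i hi
    obtain ⟨e⟩ := hc p
    exact ((isZero_homology_G _ (c p) i hi).of_iso
      ((homologyFunctor _ i).mapIso e)).of_iso (homologyEIso M i).symm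
  have key2 : ∀ p : PrimeSpectrum A, Nonempty ((extP p).obj (H (c p)) ≅
      ModuleCat.of (Localization.AtPrime p.asIdeal) (Localization.AtPrime p.asIdeal)) := by
    intro p
    obtain ⟨e⟩ := hc p
    exact ⟨(homologyEIso M (c p)).symm ≪≫ (homologyFunctor _ (c p)).mapIso e ≪≫
      homologyGIso _ (c p)⟩
  have hsupp : ∀ (p : PrimeSpectrum A) (i : ℤ), p ∈ Module.support A (H i) ↔ i = c p := by
    intro p i
    rw [mem_support_iff_not_isZero]
    constructor
    · intro h
      by_contra hne
      exact h (key1 p i hne)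
    · rintro rfl hz
      obtain ⟨e⟩ := key2 p
      have hz' := hz.of_iso e.symm
      haveI := ModuleCat.subsingleton_of_isZero hz'
      exact one_ne_zero (Subsingleton.elim (1 : Localization.AtPrime p.asIdeal) 0)
  have hclosed : ∀ i, IsClosed (Module.support A (H i)) := fun i =>
    haveI := hfin i
    Module.isClosed_support
  have hcompl : ∀ i, (Module.support A (H i))ᶜ =
      ⋃ j ∈ (Finset.Icc (a₂ - b₁) (b₃ - a₁)).erase i, Module.support A (H j) := by
    intro i
    ext p
    simp only [Set.mem_compl_iff, Set.mem_iUnion, Finset.mem_erase, exists_prop]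
    constructor
    · intro hp
      refine ⟨c p, ⟨?_, hbd (c p) ?_⟩, (hsupp p (c p)).2 rfl⟩
      · rintro h
        exact hp ((hsupp p i).2 h.symm)
      · intro hz
        have hmem : p ∈ Module.support A (H (c p)) := (hsupp p (c p)).2 rfl
        haveI := ModuleCat.subsingleton_of_isZero hz
        have hemp : Module.support A (H (c p)) = ∅ := Module.support_eq_empty
        rw [hemp] at hmem
        exact hmem
    · rintro ⟨j, ⟨hji, -⟩, hpj⟩ hpi
      exact hji (((hsupp p j).1 hpj).trans ((hsupp p i).1 hpi).symm)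
  have hopen : ∀ i, IsOpen (Module.support A (H i)) := by
    intro i
    rw [← isClosed_compl_iff, hcompl i]
    exact Set.Finite.isClosed_biUnion (Finset.finite_toSet _) (fun j _ => hclosed j)
  have hclopen : ∀ i, Module.support A (H i) = ∅ ∨ Module.support A (H i) = Set.univ :=
    fun i => isClopen_iff.1 ⟨hclosed i, hopen i⟩
  obtain ⟨p₀⟩ : Nonempty (PrimeSpectrum A) := inferInstance
  set i₀ := c p₀ with hi₀
  have huniv : Module.support A (H i₀) = Set.univ := by
    rcases hclopen i₀ with h | h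
    · have : p₀ ∈ Module.support A (H i₀) := (hsupp p₀ i₀).2 rfl
      rw [h] at this
      exact absurd this (Set.notMem_empty _)
    · exact h
  have hconst : ∀ p, c p = i₀ := by
    intro p
    have : p ∈ Module.support A (H i₀) := by rw [huniv]; trivial
    exact ((hsupp p i₀).1 this).symm
  have hzero : ∀ i, i ≠ i₀ → IsZero (H i) := by
    intro i hi
    have hemp : Module.support A (H i) = ∅ := by
      ext p
      simp only [Set.mem_empty_iff_false, iff_false]
      intro hp
      exact hi (((hsupp p i).1 hp).trans (hconst p))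
    rw [Module.support_eq_empty_iff] at hemp
    haveI := hemp
    exact ModuleCat.isZero_of_subsingleton _
  haveI : M.IsGE i₀ := by
    rw [isGE_iff]; intro i hi; exact hzero i (by omega)
  haveI : M.IsLE i₀ := by
    rw [isLE_iff]; intro i hi; exact hzero i (by omega)
  obtain ⟨Y, ⟨eY⟩⟩ := exists_iso_singleFunctor_obj_of_isGE_of_isLE M i₀
  have i1 : H i₀ ≅ Y :=
    (homologyFunctor (ModuleCat.{u} A) i₀).mapIso eY ≪≫
      (singleFunctorCompHomologyFunctorIso (ModuleCat.{u} A) i₀).app Y
  refine ⟨i₀, Y, ?_, fun p => ?_, ⟨eY⟩⟩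
  · haveI := hfin i₀
    exact Module.Finite.equiv i1.toLinearEquiv
  · obtain ⟨e⟩ := key2 p
    rw [hconst p] at e
    exact ⟨(extP p).mapIso i1.symm ≪≫ e⟩

end loc3

section proj

variable {A : Type u} [CommRing A] [IsNoetherianRing A]

/-- a finite module which is locally free of rank one is projective -/
lemma projective_of_locally_free (P : ModuleCat.{u} A) [Module.Finite A P]
    (h : ∀ p : PrimeSpectrum A, Nonempty ((extP p).obj P ≅
      ModuleCat.of (Localization.AtPrime p.asIdeal) (Localization.AtPrime p.asIdeal))) :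
    Module.Projective A P := by
  haveI : Module.FinitePresentation A P := Module.finitePresentation_of_finite A P
  refine Module.projective_of_localization_maximal (fun I hI => ?_)
  obtain ⟨e⟩ := h ⟨I, hI.isPrime⟩
  let e' : LocalizedModule I.primeCompl P ≃ₗ[Localization.AtPrime I] Localization.AtPrime I :=
    (locEquivExt I P).trans e.toLinearEquiv
  exact Module.Projective.of_equiv e'.symm

end proj

end Groth.Agent.H4.UQ1
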