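import Mathlib
import Groth.Agent.H4.UQ1
import Groth.Agent.H4.CH1
import Groth.Agent.H4.CF6
import Groth.Agent.H4.SG2
import Groth.Agent.H4.EV3

set_option autoImplicit false
universe u
open CategoryTheory Category Limits Pretriangulated

namespace Groth.Agent.H4.UQ2

attribute [local instance] HasDerivedCategory.standard
attribute [local instance] Groth.Agent.H4.LK4.hasLTen Groth.Agent.H4.LK5.hasLTen₃
  Groth.Agent.H4.KI7.isSymMonoidal Groth.Agent.H4.KI6.hasRHom

open DRing DTen DerivedCategory Groth.Agent.H4.FB2 Groth.Agent.H4.FB3 Groth.Agent.H4.HC6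
  Groth.Agent.H4.DCompl1 Groth.Agent.H4.UQ1

set_option quotPrecheck false in
/-- notation for the object part of `⊗^L` -/
local notation:max "tO(" a ", " b ")" => (LTen₂ _).obj (a, b)

section shifts

variable {A : Type u} [CommRing A]

/-- `X ⊗ Y[b] ≅ (X ⊗ Y)[b]` -/
theorem nonempty_tO_shift_right (X Y : Dual.D A) (b : ℤ) :
    Nonempty (tO(X, Y⟦b⟧) ≅ tO(X, Y)⟦b⟧) := by
  obtain ⟨e1⟩ := Groth.Agent.H4.CF4.nonempty_tO_unitShift_iso Y b
  obtain ⟨e2⟩ := Groth.Agent.H4.CF4.nonempty_tO_unitShift_iso tO(X, Y) b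
  exact ⟨(LTen₂ A).mapIso (Iso.prod (Iso.refl X) e1.symm) ≪≫
    (DTen.associator X Y ((Dual.inD A A)⟦b⟧)).symm ≪≫ e2⟩

/-- `X[a] ⊗ Y ≅ (X ⊗ Y)[a]` -/
theorem nonempty_tO_shift_left (X Y : Dual.D A) (a : ℤ) :
    Nonempty (tO(X⟦a⟧, Y) ≅ tO(X, Y)⟦a⟧) := by
  obtain ⟨e⟩ := nonempty_tO_shift_right Y X a
  exact ⟨DTen.braiding Y (X⟦a⟧) ≪≫ e ≪≫
    (shiftFunctor (Dual.D A) a).mapIso (DTen.braiding X Y)⟩

/-- a module in degree `i` as a shift -/
noncomputable def singleShiftIso (P : ModuleCat.{u} A) (i : ℤ) :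
    (singleFunctor (ModuleCat.{u} A) i).obj P ≅
      ((singleFunctor (ModuleCat.{u} A) 0).obj P)⟦-i⟧ :=
  (((singleFunctors (ModuleCat.{u} A)).shiftIso (-i) i 0 (by simp)).app P).symm

/-- tensor product of two modules in single degrees, the first one flat -/
theorem nonempty_tO_single_iso (P' P : ModuleCat.{u} A) [Module.Flat A P'] (i' i : ℤ) :
    Nonempty (tO((singleFunctor (ModuleCat.{u} A) i').obj P',
      (singleFunctor (ModuleCat.{u} A) i).obj P) ≅
      (singleFunctor (ModuleCat.{u} A) (i' + i)).obj (MonoidalCategory.tensorObj P' P)) := by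
  obtain ⟨e0⟩ := Groth.Agent.H4.SG2.nonempty_tO_sg0_iso P' P
  let X' : Dual.D A := (singleFunctor (ModuleCat.{u} A) 0).obj P'
  let X : Dual.D A := (singleFunctor (ModuleCat.{u} A) 0).obj P
  let N : ModuleCat.{u} A := MonoidalCategory.tensorObj P' P
  let e1 : tO(X', X) ≅ (singleFunctor (ModuleCat.{u} A) 0).obj N :=
    (LTen₂ A).mapIso (Iso.prod ((singleFunctorIsoCompQ (ModuleCat.{u} A) 0).app P')
      ((singleFunctorIsoCompQ (ModuleCat.{u} A) 0).app P)) ≪≫ e0 ≪≫
      ((singleFunctorIsoCompQ (ModuleCat.{u} A) 0).app N).symm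
  obtain ⟨e2⟩ := nonempty_tO_shift_left X' (X⟦-i⟧) (-i')
  obtain ⟨e3⟩ := nonempty_tO_shift_right X' X (-i)
  have hadd : -i + -i' = -(i' + i) := by ring
  exact ⟨(LTen₂ A).mapIso (Iso.prod (singleShiftIso P' i') (singleShiftIso P i)) ≪≫ e2 ≪≫
    (shiftFunctor (Dual.D A) (-i')).mapIso (e3 ≪≫ (shiftFunctor (Dual.D A) (-i)).mapIso e1) ≪≫
    ((shiftFunctorAdd' (Dual.D A) (-i) (-i') (-(i' + i)) hadd).app _).symm ≪≫
    (singleShiftIso N (i' + i)).symm⟩

end shifts

section main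

variable {A : Type u} [CommRing A]

/-- cohomology of a module in a single degree is finite -/
lemma finite_HD_single (N : ModuleCat.{u} A) [Module.Finite A N] (k j : ℤ) :
    Module.Finite A (Dual.HD A ((singleFunctor (ModuleCat.{u} A) k).obj N) j) := by
  by_cases h : j = k
  · subst h
    have e := ((singleFunctorCompHomologyFunctorIso (ModuleCat.{u} A) j).app N).toLinearEquiv
    exact Module.Finite.equiv (M := N) e.symm
  · have hz : IsZero ((homologyFunctor (ModuleCat.{u} A) j).obj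
        ((singleFunctor (ModuleCat.{u} A) k).obj N)) := by
      rcases lt_or_gt_of_ne h with h | h
      · exact ((singleFunctor (ModuleCat.{u} A) k).obj N).isZero_of_isGE k j h
      · exact ((singleFunctor (ModuleCat.{u} A) k).obj N).isZero_of_isLE k j h
    haveI := ModuleCat.subsingleton_of_isZero hz
    infer_instance

variable [IsNoetherianRing A] [ConnectedSpace (PrimeSpectrum A)]

/-- **uniqueness of dualizing complexes over a connected base** -/
theorem exists_invertible_shift_iso (ω ω' : Dual.D A) (hω : Dual.IsDualizing A ω)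
    (hω' : Dual.IsDualizing A ω') :
    ∃ (P : ModuleCat.{u} A) (_ : Module.Invertible A P) (n : ℤ),
      Nonempty (ω' ≅ (tO(ω, (singleFunctor (ModuleCat.{u} A) 0).obj P))⟦n⟧) := by
  obtain ⟨i, P, hPf, hPl, ⟨eL⟩⟩ := exists_single_iso ω' ω hω' hω
  obtain ⟨i', P', hP'f, hP'l, ⟨eL'⟩⟩ := exists_single_iso ω ω' hω hω'
  haveI := hPf
  haveI := hP'f
  haveI : Module.Projective A P' := projective_of_locally_free P' hP'l
  set L := (RHomR A ω').obj ω with hL
  set L' := (RHomR A ω).obj ω' with hL'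
  obtain ⟨b₁⟩ := Groth.Agent.H4.DZ3.nonempty_bidual_iso ω hω ω' hω'.finite_cohomology
  obtain ⟨b₂⟩ := Groth.Agent.H4.DZ3.nonempty_bidual_iso ω' hω' ω hω.finite_cohomology
  haveI := Groth.Agent.H4.CH1.isIso_curryHom L' L ω
  let c2 : (RHomR A tO(L', L)).obj ω ≅ ω :=
    asIso (curryHom L' L ω) ≪≫ (RHomR A L').mapIso b₁ ≪≫ b₂
  obtain ⟨t1⟩ := nonempty_tO_single_iso P' P i' i
  let N : ModuleCat.{u} A := MonoidalCategory.tensorObj P' P
  let tT : tO(L', L) ≅ (singleFunctor (ModuleCat.{u} A) (i' + i)).obj N :=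
    (LTen₂ A).mapIso (Iso.prod eL' eL) ≪≫ t1
  haveI : Module.Finite A N := by
    change Module.Finite A (TensorProduct A P' P)
    infer_instance
  have hTfin : ∀ j : ℤ, Module.Finite A (Dual.HD A tO(L', L) j) := fun j =>
    haveI := finite_HD_single N (i' + i) j
    Module.Finite.equiv ((homologyFunctor (ModuleCat.{u} A) j).mapIso tT).toLinearEquiv.symm
  obtain ⟨b₃⟩ := Groth.Agent.H4.DZ3.nonempty_bidual_iso ω hω tO(L', L) hTfin
  obtain ⟨r⟩ := Groth.Agent.H4.DZ3.nonempty_RHomR_self_iso ω hω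
  let eT : tO(L', L) ≅ DTen.unit A := b₃.symm ≪≫ RHomIso c2.symm ω ≪≫ r
  -- the degree
  let u : (singleFunctor (ModuleCat.{u} A) (i' + i)).obj N ≅ Dual.inD A A :=
    tT.symm ≪≫ eT ≪≫ Groth.Agent.H4.KI8.inDUnitIso.symm
  haveI : Nontrivial A := by
    obtain ⟨p₀⟩ : Nonempty (PrimeSpectrum A) := inferInstance
    exact PrimeSpectrum.nonempty_iff_nontrivial.1 ⟨p₀⟩
  have hk : i' + i = 0 := by
    by_contra hne
    have hz : IsZero ((homologyFunctor (ModuleCat.{u} A) 0).obj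
        ((singleFunctor (ModuleCat.{u} A) (i' + i)).obj N)) := by
      rcases lt_or_gt_of_ne hne with h | h
      · exact ((singleFunctor (ModuleCat.{u} A) (i' + i)).obj N).isZero_of_isLE (i' + i) 0 h
      · exact ((singleFunctor (ModuleCat.{u} A) (i' + i)).obj N).isZero_of_isGE (i' + i) 0 h
    have hz' := (hz.of_iso ((homologyFunctor (ModuleCat.{u} A) 0).mapIso u.symm)).of_iso
      ((singleFunctorCompHomologyFunctorIso (ModuleCat.{u} A) 0).app (ModuleCat.of A A)).symm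
    haveI : Subsingleton A := ModuleCat.subsingleton_of_isZero (M := ModuleCat.of A A) hz'
    exact one_ne_zero (Subsingleton.elim (1 : A) 0)
  -- the module isomorphism `P' ⊗ P ≃ A`
  have hN : Nonempty (N ≅ ModuleCat.of A A) := by
    have hk' : (singleFunctor (ModuleCat.{u} A) (i' + i)).obj N =
        (singleFunctor (ModuleCat.{u} A) 0).obj N := by rw [hk]
    let u' : (singleFunctor (ModuleCat.{u} A) 0).obj N ≅ Dual.inD A A := eqToIso hk'.symm ≪≫ u
    exact ⟨((singleFunctorCompHomologyFunctorIso (ModuleCat.{u} A) 0).app N).symm ≪≫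
      (homologyFunctor (ModuleCat.{u} A) 0).mapIso u' ≪≫
      (singleFunctorCompHomologyFunctorIso (ModuleCat.{u} A) 0).app (ModuleCat.of A A)⟩
  obtain ⟨eN⟩ := hN
  have hinv : Module.Invertible A P' :=
    Module.Invertible.left (R := A) (M := P') (N := P) eN.toLinearEquiv
  -- the final isomorphism
  let e₂ : tO(L', L) ≅ DTen.unit A := eT
  let e₁ : tO(L, L') ≅ DTen.unit A := DTen.braiding L' L ≪≫ eT
  let Eq : Dual.D A ≌ Dual.D A :=
    CategoryTheory.Equivalence.mk (tensorRightD A L) (tensorRightD A L')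
      (Groth.Agent.H4.EV3.rightCancelIso L L' e₁).symm (Groth.Agent.H4.EV3.rightCancelIso L' L e₂)
  let rh : RHomR A L ≅ tensorRightD A L' := (rhomAdj A L).rightAdjointUniq Eq.toAdjunction
  obtain ⟨s1⟩ := nonempty_tO_shift_right ω ((singleFunctor (ModuleCat.{u} A) 0).obj P') (-i')
  refine ⟨P', hinv, -i', ⟨b₁.symm ≪≫ rh.app ω ≪≫
    (LTen₂ A).mapIso (Iso.prod (Iso.refl ω) (eL' ≪≫ singleShiftIso P' i')) ≪≫ s1⟩⟩

end main

/-- **S12440** -/
theorem S12440 {A : Type u} [CommRing A] [IsNoetherianRing A] [ConnectedSpace (PrimeSpectrum A)]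
    (ω ω' : Dual.D A) (hω : Dual.IsDualizing A ω) (hω' : Dual.IsDualizing A ω') :
    ∃ (P : ModuleCat.{u} A) (_ : Module.Invertible A P) (n : ℤ),
      ∀ [DRing.HasLTensor A P], Nonempty (ω' ≅ ((DRing.LTensor A P).obj ω)⟦n⟧) := by
  obtain ⟨P, hP, n, ⟨e⟩⟩ := exists_invertible_shift_iso ω ω' hω hω'
  refine ⟨P, hP, n, ?_⟩
  intro _
  exact ⟨e ≪≫ (shiftFunctor (Dual.D A) n).mapIso
    ((LTen₂ A).mapIso (Iso.prod (Iso.refl ω)
      ((singleFunctorIsoCompQ (ModuleCat.{u} A) 0).app P)) ≪≫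
      ((Groth.Agent.H4.CF6.LTensorIso P).app ω).symm)⟩

end Groth.Agent.H4.UQ2
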