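import Mathlib
import Groth.Prelude.Def_DTen3
import Groth.Agent.H4.UQ2
import Groth.Agent.H4.US6
import Groth.Agent.H4.SG3
import Groth.Agent.H4.KI8
import Groth.Agent.H4.CF4
import Groth.Agent.H4.DCompl6
import Groth.Agent.Lib.Helper5.ExtCech.Hom
import Groth.Agent.Lib.Helper5.ExtCech.H0
set_option autoImplicit false
universe u
open CategoryTheory Category Limits MonoidalCategory Pretriangulated
open scoped TensorProduct

namespace Groth.Agent.H4.CechRH1

attribute [local instance] HasDerivedCategory.standard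
attribute [local instance] Groth.Agent.H4.LK4.hasLTen Groth.Agent.H4.LK5.hasLTen₃
  Groth.Agent.H4.KI7.isSymMonoidal Groth.Agent.H4.KI6.hasRHom

open DRing DTen DerivedCategory Groth.Agent.H4.DComp Groth.Agent.H4.DCompl1 Groth.Agent.H4.DCompl2
  Groth.Agent.H4.DCompl3 Groth.Agent.H4.DCompl4 Groth.Agent.H4.DCompl6 Groth.Agent.H4.EV5
  Groth.Agent.H4.HC6 Groth.Agent.H4.CF1 Groth.Agent.H4.TC4 Groth.Agent.H4.SG1 Groth.Agent.H4.SG3

set_option quotPrecheck false in
/-- notation for the object part of `⊗^L` -/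
local notation:max "tO(" a ", " b ")" => (LTen₂ _).obj (a, b)

variable {A : Type u} [CommRing A]

section Alg

lemma subsingleton_tensor_of_torsion (g : A) (K : Type u) [AddCommGroup K] [Module A K]
    (hK : ∀ k : K, ∃ n : ℕ, g ^ n • k = 0) : Subsingleton (K ⊗[A] Localization.Away g) := by
  refine ⟨fun x y => ?_⟩
  have h0 : ∀ z : K ⊗[A] Localization.Away g, z = 0 := by
    intro z
    induction z using TensorProduct.induction_on with
    | zero => rfl
    | tmul k l =>
      obtain ⟨n, hn⟩ := hK k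
      have hu : IsUnit (algebraMap A (Localization.Away g) (g ^ n)) := by
        rw [map_pow]
        exact (IsLocalization.Away.algebraMap_isUnit g).pow n
      obtain ⟨u, hu'⟩ := hu
      have hl : l = g ^ n • ((↑u⁻¹ : Localization.Away g) * l) := by
        rw [Algebra.smul_def, ← hu', ← mul_assoc, Units.mul_inv, one_mul]
      rw [hl, ← TensorProduct.smul_tmul, hn, TensorProduct.zero_tmul]
    | add a b ha hb => rw [ha, hb, add_zero]
  rw [h0 x, h0 y]

lemma inverts_tensorRight (g : A) :
    H5ExtCech.Inverts g (tensorRight (ModuleCat.of A (Localization.Away g))) := by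
  intro X Y ψ hψ
  have hbij : Function.Bijective (ψ.hom.rTensor (Localization.Away g)) := by
    constructor
    · rw [injective_iff_map_eq_zero]
      intro x hx
      have hex : Function.Exact ((LinearMap.ker ψ.hom).subtype.rTensor (Localization.Away g))
          (ψ.hom.rTensor (Localization.Away g)) :=
        Module.Flat.rTensor_exact (Localization.Away g) (LinearMap.exact_subtype_ker_map ψ.hom)
      obtain ⟨y, rfl⟩ := (hex x).1 hx
      haveI : Subsingleton ((LinearMap.ker ψ.hom) ⊗[A] Localization.Away g) :=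
        subsingleton_tensor_of_torsion g _ (by
          intro k
          obtain ⟨n, hn⟩ := hψ.1 k.1 k.2
          exact ⟨n, Subtype.ext hn⟩)
      rw [Subsingleton.elim y 0, map_zero]
    · intro y
      have hex : Function.Exact (ψ.hom.rTensor (Localization.Away g))
          ((LinearMap.range ψ.hom).mkQ.rTensor (Localization.Away g)) :=
        rTensor_exact (Localization.Away g) (LinearMap.exact_map_mkQ_range ψ.hom)
          (Submodule.mkQ_surjective _)
      haveI : Subsingleton ((Y ⧸ LinearMap.range ψ.hom) ⊗[A] Localization.Away g) :=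
        subsingleton_tensor_of_torsion g _ (by
          intro k
          obtain ⟨b, rfl⟩ := Submodule.mkQ_surjective _ k
          obtain ⟨n, a, hna⟩ := hψ.2 b
          refine ⟨n, ?_⟩
          rw [← map_smul, hna]
          exact (Submodule.Quotient.mk_eq_zero _).2 ⟨a, rfl⟩)
      exact (hex y).1 (Subsingleton.elim _ _)
  change IsIso (ψ ▷ ModuleCat.of A (Localization.Away g))
  exact (ConcreteCategory.isIso_iff_bijective _).2 hbij

end Alg

section Der

lemma isZero_Q_of_contractible (X : CochainComplex (ModuleCat.{u} A) ℤ)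
    (h : Nonempty (Homotopy (𝟙 X) 0)) : IsZero (Q.obj X) := by
  have hq : IsZero ((HomotopyCategory.quotient (ModuleCat.{u} A) (ComplexShape.up ℤ)).obj X) :=
    (HomotopyCategory.isZero_quotient_obj_iff X).2 h
  exact (Qh.map_isZero hq).of_iso ((quotientCompQhIso (ModuleCat.{u} A)).symm.app X)

/-- the extended Čech complex dies after tensoring with `A_g`, `g ∈ fs`. -/
theorem isZero_tO_Fo (g : A) (fs : List A) (hg : g ∈ fs) (n : ℤ) :
    IsZero tO((Fo g)⟦n⟧, Q.obj (DerCA.extCech (ModuleCat.of A A) fs)) := by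
  let Č := DerCA.extCech (ModuleCat.of A A) fs
  let L : ModuleCat.{u} A := ModuleCat.of A (Localization.Away g)
  haveI : Module.Flat A L := (inferInstance : Module.Flat A (Localization.Away g))
  have h1 : IsZero (Q.obj ((GCt L).obj Č)) :=
    isZero_Q_of_contractible _
      (H5ExtCech.contractible_map_extCech g _ fs hg (tensorRight L) (inverts_tensorRight g))
  have e1 : (GCt L).obj Č ≅ Č ⊗ sg0 L := (GCtIso L).app Č
  haveI := Groth.Agent.H4.LK4.isIso_ε_of_kflat Č (sg0 L)
    (Or.inr (Groth.Agent.H4.SG2.kflat_sg0 L))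
  let e2 : tO(Q.obj Č, Q.obj (sg0 L)) ≅ Q.obj (Č ⊗ sg0 L) := asIso ((ε A).app (Č, sg0 L))
  have h2 : IsZero tO(Q.obj Č, Q.obj (sg0 L)) := (h1.of_iso (Q.mapIso e1.symm)).of_iso e2
  let e3 : Fo g ≅ Q.obj (sg0 L) := (singleFunctorIsoCompQ (ModuleCat.{u} A) 0).app L
  have h3 : IsZero tO(Fo g, Q.obj Č) :=
    (h2.of_iso ((LTen₂ A).mapIso (Iso.prod (Iso.refl (Q.obj Č)) e3))).of_iso
      (DTen.braiding (Q.obj Č) (Fo g))
  obtain ⟨e4⟩ := Groth.Agent.H4.UQ2.nonempty_tO_shift_left (Fo g) (Q.obj Č) n
  exact ((shiftFunctor (Dual.D A) n).map_isZero h3).of_iso e4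

lemma mappingCocone_triangle_distinguished {K L : CochainComplex (ModuleCat.{u} A) ℤ}
    (φ : K ⟶ L) :
    (Q : CochainComplex (ModuleCat.{u} A) ℤ ⥤ _).mapTriangle.obj
      (CochainComplex.mappingCocone.triangle φ) ∈ distTriang (Dual.D A) := by
  rw [rotate_distinguished_triangle]
  refine isomorphic_distinguished _ (DerivedCategory.mappingCone_triangle_distinguished φ) _ ?_
  exact ((Q : CochainComplex (ModuleCat.{u} A) ℤ ⥤ _).mapTriangleRotateIso.app _ ≪≫
    (Q : CochainComplex (ModuleCat.{u} A) ℤ ⥤ _).mapTriangle.mapIso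
      (CochainComplex.mappingCocone.rotateTriangleIso φ))

lemma FInv_loc (f : A) (E : CochainComplex (ModuleCat.{u} A) ℤ) :
    FInv f (Q.obj ((DerCA.locCx (Submonoid.powers f)).obj E)) := by
  change IsIso (f • 𝟙 _)
  have h1 : f • 𝟙 (Q.obj ((DerCA.locCx (Submonoid.powers f)).obj E)) =
      Q.map (f • 𝟙 ((DerCA.locCx (Submonoid.powers f)).obj E)) := by
    rw [Functor.map_smul, CategoryTheory.Functor.map_id]
  rw [h1]
  haveI : IsIso (f • 𝟙 ((DerCA.locCx (Submonoid.powers f)).obj E)) := by
    haveI : ∀ n, IsIso ((f • 𝟙 ((DerCA.locCx (Submonoid.powers f)).obj E)).f n) := by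
      intro n
      apply H5ExtCech.isIso_of_bijective
      exact H5ExtCech.smulBij_loc_self f (E.X n)
    exact HomologicalComplex.Hom.isIso_of_components _
  infer_instance

/-- the projection of the extended Čech complex onto its degree-0 part `A[0]`. -/
noncomputable def proj : (fs : List A) →
    (DerCA.extCech (ModuleCat.of A A) fs ⟶ DerCA.extCech (ModuleCat.of A A) [])
  | [] => 𝟙 _
  | f :: fs =>
    CochainComplex.mappingCocone.fst
      (DerCA.locCxUnit (Submonoid.powers f) (DerCA.extCech (ModuleCat.of A A) fs)) ≫ proj fs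

lemma FInv_RHomR {f : A} {X : Dual.D A} (h : FInv f X) (K : Dual.D A) :
    FInv f ((RHomR A X).obj K) := by
  change IsIso (f • 𝟙 _)
  rw [← Groth.Agent.H4.US6.RHomMap_smul_id]
  haveI : IsIso (f • 𝟙 X) := h
  exact (RHomIso (asIso (f • 𝟙 X)) K).isIso_hom

theorem tower (K : Dual.D A) : ∀ (fs : List A) (C' : Dual.D A), (∀ f ∈ fs, LO f C') →
    Function.Bijective (fun ψ : (RHomR A (Q.obj (DerCA.extCech (ModuleCat.of A A) fs))).obj K ⟶ C' =>
      RHomMap (Q.map (proj fs)) K ≫ ψ) := by
  intro fs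
  induction fs with
  | nil =>
    intro C' _
    have : (fun ψ : (RHomR A (Q.obj (DerCA.extCech (ModuleCat.of A A) []))).obj K ⟶ C' =>
        RHomMap (Q.map (proj ([] : List A))) K ≫ ψ) = id := by
      funext ψ
      change RHomMap (Q.map (𝟙 _)) K ≫ ψ = ψ
      rw [CategoryTheory.Functor.map_id, RHomMap_id, id_comp]
    rw [this]
    exact Function.bijective_id
  | cons f fs ih =>
    intro C' hLO
    let E := DerCA.extCech (ModuleCat.of A A) fs
    let u := DerCA.locCxUnit (Submonoid.powers f) E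
    have hT := mappingCocone_triangle_distinguished u
    obtain ⟨w, hw⟩ : Cpl (RHomMap (Q.map u) K) (RHomMap (Q.map (CochainComplex.mappingCocone.fst u)) K) :=
      cpl_RHomMap _ hT K
    have hF : FInv f ((RHomR A (Q.obj ((DerCA.locCx (Submonoid.powers f)).obj E))).obj K) :=
      FInv_RHomR (FInv_loc f E) K
    have h2 := bijective_comp_of_triangle f _ _ w hw hF C' (hLO f List.mem_cons_self)
    have h1 := ih C' (fun f' hf' => hLO f' (List.mem_cons_of_mem _ hf'))
    have hcomp : (fun ψ : (RHomR A (Q.obj (DerCA.extCech (ModuleCat.of A A) (f :: fs)))).obj K ⟶ C' =>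
        RHomMap (Q.map (proj (f :: fs))) K ≫ ψ) =
        (fun χ : (RHomR A (Q.obj E)).obj K ⟶ C' => RHomMap (Q.map (proj fs)) K ≫ χ) ∘
          (fun ψ : (RHomR A (Q.obj (CochainComplex.mappingCocone u))).obj K ⟶ C' =>
            RHomMap (Q.map (CochainComplex.mappingCocone.fst u)) K ≫ ψ) := by
      funext ψ
      change RHomMap (Q.map (CochainComplex.mappingCocone.fst u ≫ proj fs)) K ≫ ψ = _
      rw [Functor.map_comp, RHomMap_comp, assoc]
      rfl
    rw [hcomp]
    exact h1.comp h2

theorem complete (K : Dual.D A) (fs : List A) (g : A) (hg : g ∈ fs) :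
    LO g ((RHomR A (Q.obj (DerCA.extCech (ModuleCat.of A A) fs))).obj K) := by
  apply LO_of_forall
  intro n φ
  have hz := isZero_tO_Fo g fs hg n
  apply ((rhomAdj A (Q.obj (DerCA.extCech (ModuleCat.of A A) fs))).homEquiv _ _).symm.injective
  exact hz.eq_of_src _ _

theorem main (fs : List A) (I : Ideal A)
    (hI : Ideal.span {x : A | x ∈ fs} = I) [DRing.HasDerivedCompletion I]
    [DRing.HasRHomCx (DerCA.extCech (ModuleCat.of A A) fs)] (K : Dual.D A) :
    Nonempty (((DRing.derivedCompletion I).obj K).obj ≅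
      (DRing.RHomCx (DerCA.extCech (ModuleCat.of A A) fs)).obj K) := by
  classical
  let c : Dual.D A := Q.obj (DerCA.extCech (ModuleCat.of A A) fs)
  let R : Dual.D A := (RHomR A c).obj K
  have hspan : Ideal.span ((fs.toFinset : Finset A) : Set A) = I := by
    rw [← hI]
    congr 1
    ext x
    simp
  have hR : IsDerivedComplete I R := by
    rw [← hspan, isDerivedComplete_span_iff]
    intro f hf
    exact complete K fs f (List.mem_toFinset.1 hf)
  let e0 : K ≅ (RHomR A (Q.obj (DerCA.extCech (ModuleCat.of A A) []))).obj K :=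
    ((Groth.Agent.H4.KI8.RHomRUnitIso (A := A)).app K).symm
  let q : K ⟶ R := e0.hom ≫ RHomMap (Q.map (proj fs)) K
  have huniv : ∀ C' : Dual.D A, IsDerivedComplete I C' →
      Function.Bijective (fun ψ : R ⟶ C' => q ≫ ψ) := by
    intro C' hC'
    have hLO : ∀ f ∈ fs, LO f C' := fun f hf =>
      (isDerivedComplete_iff_LO I C').1 hC' f (by rw [← hI]; exact Ideal.subset_span hf)
    have h1 := tower K fs C' hLO
    have h2 : Function.Bijective (fun χ : _ ⟶ C' => e0.hom ≫ χ) :=
      ⟨fun a b h => (cancel_epi e0.hom).1 h, fun b => ⟨e0.inv ≫ b, by simp⟩⟩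
    have h3 : (fun ψ : R ⟶ C' => q ≫ ψ) =
        (fun χ : _ ⟶ C' => e0.hom ≫ χ) ∘ (fun ψ : R ⟶ C' => RHomMap (Q.map (proj fs)) K ≫ ψ) := by
      funext ψ
      change (e0.hom ≫ RHomMap (Q.map (proj fs)) K) ≫ ψ = e0.hom ≫ RHomMap (Q.map (proj fs)) K ≫ ψ
      rw [assoc]
    rw [h3]
    exact h2.comp h1
  obtain ⟨e⟩ := nonempty_iso_of_universal I K R q hR huniv
  exact ⟨e ≪≫ ((Groth.Agent.H4.KI6.rhomCxIsoRHomR (DerCA.extCech (ModuleCat.of A A) fs)).app K).symm⟩

end Der

end Groth.Agent.H4.CechRH1
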