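import Mathlib
import Groth.Prelude.Def_Desc
import Groth.Prelude.Def_DescFam
import Groth.Agent.Lib.Helper3.FpqcCov.Basic
import Groth.Agent.Lib.Helper3.DescSh.Affine

/-! helper4: effectivity of affine descent data along a single fpqc covering (not nec. quasi-compact). -/

set_option autoImplicit false
set_option backward.isDefEq.respectTransparency false
set_option backward.isDefEq.respectTransparency.types false

universe u

open CategoryTheory CategoryTheory.Limits AlgebraicGeometry Opposite

namespace Groth.Agent.H4.CentA

open _root_.Desc Groth.Agent.H3.FpqcCov Groth.Agent.H3.DescSh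

theorem effective_of_cov {X S : Scheme.{u}} (p : X ⟶ S) (hp : Cov p) (D : SchDD p)
    [IsAffineHom D.obj.hom] : ∃ U : Over S, Nonempty ((toDD p).obj U ≅ D) := by
  have hmem : Presieve.ofArrows (fun _ : PUnit.{u + 1} => X) (fun _ => p) ∈
      Scheme.fpqcPrecoverage S := by
    rw [Presieve.ofArrows_pUnit]
    exact hp
  have heff := isEffective_of_fpqc_of_affine @IsAffineHom
    (prop_sigmaMap_fin_of_isZariskiLocalAtTarget @IsAffineHom)
    (fun X' S' p' hX' hS' hfl hsurj D' hD' => by
      have : IsAffine X' := hX'
      have : IsAffine S' := hS'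
      have : Flat p' := hfl
      have : Surjective p' := hsurj
      exact effective_of_isAffineHom p' D' hD')
    (fun _ : PUnit.{u + 1} => p) hmem ((SchDDFam.ofSchDD.{u} p).obj D)
    (fun _ => inferInstanceAs (IsAffineHom D.obj.hom))
  obtain ⟨Y, ⟨E⟩⟩ := heff
  exact ⟨Y, ⟨(SchDDFam.toSchDD.{u} p).mapIso E⟩⟩

end Groth.Agent.H4.CentA
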