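import Mathlib
import Groth.Prelude.Def_Desc
import Groth.Prelude.Def_ActBC
import Groth.Agent.Lib.Helper3.FpqcCov.Basic
import Groth.Agent.Lib.Helper9.Misc.KLF3
import Groth.Agent.H4.CentA

/-! helper4: descent of a subgroup scheme `Z' ⊆ G ×_S S'` along an fpqc covering `S' ⟶ S`. -/

set_option autoImplicit false

universe u

open CategoryTheory CategoryTheory.Limits MonoidalCategory CartesianMonoidalCategory MonObj GrpObj
  AlgebraicGeometry

namespace Groth.Agent.H4.CentB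

open Groth.Agent.H3.FpqcCov

section Gen

variable {C : Type*} [Category C] [CartesianMonoidalCategory C]

theorem isMonHom_of_comp_mono {A B D : C} [MonObj A] [MonObj B] [MonObj D] (a : A ⟶ B) (b : B ⟶ D)
    [Mono b] [IsMonHom b] [IsMonHom (a ≫ b)] : IsMonHom a where
  one_hom := by
    rw [← cancel_mono b, Category.assoc, IsMonHom.one_hom (f := a ≫ b), IsMonHom.one_hom]
  mul_hom := by
    rw [← cancel_mono b, Category.assoc, IsMonHom.mul_hom (f := a ≫ b), Category.assoc,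
      IsMonHom.mul_hom, ← tensorHom_comp_tensorHom_assoc]

end Gen

variable {S S' : Scheme.{u}} {f : S' ⟶ S} {G : Over S} {Z' : Over S'} (z' : Z' ⟶ Red.bc f G)

/-- the `G`-component of a point of `Z'` -/
noncomputable def gam : Z'.left ⟶ G.left := z'.left ≫ pullback.fst G.hom f

lemma zleft_snd : z'.left ≫ pullback.snd G.hom f = Z'.hom := Over.w z'

lemma gam_hom : gam z' ≫ G.hom = Z'.hom ≫ f := by
  unfold gam
  rw [Category.assoc, pullback.condition, ← Category.assoc, zleft_snd]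

lemma uniq [Mono z'] {T : Scheme.{u}} (v₁ v₂ : T ⟶ Z'.left) (h1 : v₁ ≫ Z'.hom = v₂ ≫ Z'.hom)
    (h2 : v₁ ≫ gam z' = v₂ ≫ gam z') : v₁ = v₂ := by
  rw [← cancel_mono z'.left]
  apply pullback.hom_ext
  · simpa only [gam, Category.assoc] using h2
  · rw [Category.assoc, Category.assoc, zleft_snd, h1]

/-- the descent condition on the subgroup `Z'` -/
def KProp : Prop :=
  ∀ ⦃T : Scheme.{u}⦄ (x₀ x₁ : T ⟶ S') (_ : x₀ ≫ f = x₁ ≫ f) (v : T ⟶ Z'.left), v ≫ Z'.hom = x₀ →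
    ∃ v' : T ⟶ Z'.left, v' ≫ Z'.hom = x₁ ∧ v' ≫ gam z' = v ≫ gam z'

variable {z'}

noncomputable def phiFun (hK : KProp z') {T : Scheme.{u}} (x₀ x₁ : T ⟶ S') (h : x₀ ≫ f = x₁ ≫ f)
    (v : Desc.Lifts Z' x₀) : Desc.Lifts Z' x₁ :=
  ⟨(hK x₀ x₁ h v.1 v.2).choose, (hK x₀ x₁ h v.1 v.2).choose_spec.1⟩

lemma phiFun_gam (hK : KProp z') {T : Scheme.{u}} (x₀ x₁ : T ⟶ S') (h : x₀ ≫ f = x₁ ≫ f)
    (v : Desc.Lifts Z' x₀) : (phiFun hK x₀ x₁ h v).1 ≫ gam z' = v.1 ≫ gam z' :=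
  (hK x₀ x₁ h v.1 v.2).choose_spec.2

lemma lifts_ext [Mono z'] {T : Scheme.{u}} {x : T ⟶ S'} (v w : Desc.Lifts Z' x)
    (h : v.1 ≫ gam z' = w.1 ≫ gam z') : v = w :=
  Subtype.ext (uniq z' v.1 w.1 (v.2.trans w.2.symm) h)

/-- the descent datum on `Z'` -/
noncomputable def DD [Mono z'] (hK : KProp z') : Desc.SchDD f where
  obj := Z'
  φ T x₀ x₁ h :=
    { toFun := phiFun hK x₀ x₁ h
      invFun := phiFun hK x₁ x₀ h.symm
      left_inv := fun v => lifts_ext _ _ (by rw [phiFun_gam, phiFun_gam])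
      right_inv := fun v => lifts_ext _ _ (by rw [phiFun_gam, phiFun_gam]) }
  φ_natural T T' g x₀ x₁ h h' v v' hv' := by
    change (phiFun hK (g ≫ x₀) (g ≫ x₁) h' v').1 = g ≫ (phiFun hK x₀ x₁ h v).1
    apply uniq z'
    · rw [(phiFun hK (g ≫ x₀) (g ≫ x₁) h' v').2, Category.assoc, (phiFun hK x₀ x₁ h v).2]
    · rw [phiFun_gam, Category.assoc, phiFun_gam, hv', Category.assoc]
  φ_self T x v := by
    change phiFun hK x x rfl v = v
    exact lifts_ext _ _ (phiFun_gam hK x x rfl v)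
  φ_comp T x₀ x₁ x₂ h₀₁ h₁₂ v := by
    change phiFun hK x₁ x₂ h₁₂ (phiFun hK x₀ x₁ h₀₁ v) = phiFun hK x₀ x₂ (h₀₁.trans h₁₂) v
    exact lifts_ext _ _ (by rw [phiFun_gam, phiFun_gam, phiFun_gam])

section Eff

variable [Mono z'] (hK : KProp z') (Zo : Over S) (E : (Desc.toDD f).obj Zo ≅ DD hK)

/-- the comparison `S' ×_S Zo ⟶ Z'` -/
noncomputable def eps : pullback f Zo.hom ⟶ Z'.left := E.hom.hom.left

noncomputable def epsInv : Z'.left ⟶ pullback f Zo.hom := E.inv.hom.left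

lemma eps_epsInv : eps hK Zo E ≫ epsInv hK Zo E = 𝟙 _ := by
  have h := congrArg (fun a : (Desc.toDD f).obj Zo ⟶ (Desc.toDD f).obj Zo => a.hom.left)
    E.hom_inv_id
  exact h

lemma epsInv_eps : epsInv hK Zo E ≫ eps hK Zo E = 𝟙 _ := by
  have h := congrArg (fun a : DD hK ⟶ DD hK => a.hom.left) E.inv_hom_id
  exact h

lemma eps_hom : eps hK Zo E ≫ Z'.hom = pullback.fst f Zo.hom := Over.w E.hom.hom

lemma eps_compat {T : Scheme.{u}} (a b : T ⟶ pullback f Zo.hom)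
    (hab : a ≫ pullback.snd f Zo.hom = b ≫ pullback.snd f Zo.hom) :
    a ≫ eps hK Zo E ≫ gam z' = b ≫ eps hK Zo E ≫ gam z' := by
  have h : (a ≫ pullback.fst f Zo.hom) ≫ f = (b ≫ pullback.fst f Zo.hom) ≫ f := by
    rw [Category.assoc, Category.assoc, pullback.condition, ← Category.assoc, hab, Category.assoc]
  have hw : (a ≫ eps hK Zo E) ≫ Z'.hom = a ≫ pullback.fst f Zo.hom := by
    rw [Category.assoc, eps_hom]
  have hc := E.hom.comm (a ≫ pullback.fst f Zo.hom) (b ≫ pullback.fst f Zo.hom) h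
    ⟨a, rfl⟩ ⟨a ≫ eps hK Zo E, hw⟩ rfl
  have hb : (((Desc.toDD f).obj Zo).φ (a ≫ pullback.fst f Zo.hom) (b ≫ pullback.fst f Zo.hom) h
      ⟨a, rfl⟩).1 = b := by
    change pullback.lift (b ≫ pullback.fst f Zo.hom) (a ≫ pullback.snd f Zo.hom) _ = b
    apply pullback.hom_ext
    · rw [pullback.lift_fst]
    · rw [pullback.lift_snd, hab]
  have hc' : (phiFun hK _ _ h ⟨a ≫ eps hK Zo E, hw⟩).1 = b ≫ eps hK Zo E :=
    hc.trans (congrArg (fun t => t ≫ eps hK Zo E) hb)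
  calc a ≫ eps hK Zo E ≫ gam z' = (a ≫ eps hK Zo E) ≫ gam z' := (Category.assoc _ _ _).symm
    _ = (phiFun hK _ _ h ⟨a ≫ eps hK Zo E, hw⟩).1 ≫ gam z' := (phiFun_gam hK _ _ h ⟨a ≫ eps hK Zo E, hw⟩).symm
    _ = (b ≫ eps hK Zo E) ≫ gam z' := by rw [hc']
    _ = b ≫ eps hK Zo E ≫ gam z' := Category.assoc _ _ _

variable (hf : Cov f)

include hf in
lemma cov_q : Cov (pullback.snd f Zo.hom) := Cov.pullback_snd f Zo.hom hf

/-- the descended morphism -/
noncomputable def zeta : Zo.left ⟶ G.left :=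
  haveI := (cov_q Zo hf).effectiveEpi
  EffectiveEpi.desc (pullback.snd f Zo.hom) (eps hK Zo E ≫ gam z')
    (fun a b hab => eps_compat hK Zo E a b hab)

lemma q_zeta : pullback.snd f Zo.hom ≫ zeta hK Zo E hf = eps hK Zo E ≫ gam z' :=
  haveI := (cov_q Zo hf).effectiveEpi
  EffectiveEpi.fac _ _ _

lemma zeta_hom : zeta hK Zo E hf ≫ G.hom = Zo.hom := by
  haveI := (cov_q Zo hf).epi
  rw [← cancel_epi (pullback.snd f Zo.hom), ← Category.assoc, q_zeta, Category.assoc, gam_hom,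
    ← Category.assoc, eps_hom, pullback.condition]

lemma zeta_mono : Mono (zeta hK Zo E hf) := by
  constructor
  intro T a b hab
  have ht : a ≫ Zo.hom = b ≫ Zo.hom := by
    rw [← zeta_hom hK Zo E hf, ← Category.assoc, hab, Category.assoc]
  have hc : Cov (pullback.snd f (a ≫ Zo.hom)) := Cov.pullback_snd f _ hf
  haveI := hc.epi
  rw [← cancel_epi (pullback.snd f (a ≫ Zo.hom))]
  obtain ⟨a', ha1, ha2⟩ : ∃ a' : pullback f (a ≫ Zo.hom) ⟶ pullback f Zo.hom,
      a' ≫ pullback.fst f Zo.hom = pullback.fst f (a ≫ Zo.hom) ∧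
      a' ≫ pullback.snd f Zo.hom = pullback.snd f (a ≫ Zo.hom) ≫ a :=
    ⟨pullback.lift (pullback.fst f (a ≫ Zo.hom)) (pullback.snd f (a ≫ Zo.hom) ≫ a)
      (by rw [pullback.condition, Category.assoc]), pullback.lift_fst _ _ _, pullback.lift_snd _ _ _⟩
  obtain ⟨b', hb1, hb2⟩ : ∃ b' : pullback f (a ≫ Zo.hom) ⟶ pullback f Zo.hom,
      b' ≫ pullback.fst f Zo.hom = pullback.fst f (a ≫ Zo.hom) ∧
      b' ≫ pullback.snd f Zo.hom = pullback.snd f (a ≫ Zo.hom) ≫ b :=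
    ⟨pullback.lift (pullback.fst f (a ≫ Zo.hom)) (pullback.snd f (a ≫ Zo.hom) ≫ b)
      (by rw [pullback.condition, Category.assoc, ht]), pullback.lift_fst _ _ _,
      pullback.lift_snd _ _ _⟩
  have h1 : a' ≫ eps hK Zo E = b' ≫ eps hK Zo E := by
    apply uniq z'
    · rw [Category.assoc, Category.assoc, eps_hom, ha1, hb1]
    · rw [Category.assoc, Category.assoc, ← q_zeta hK Zo E hf, ← Category.assoc, ← Category.assoc,
        ha2, hb2, Category.assoc, Category.assoc, hab]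
  have h2 : a' = b' := by
    have := congrArg (fun t => t ≫ epsInv hK Zo E) h1
    simpa only [Category.assoc, eps_epsInv, Category.comp_id] using this
  rw [← ha2, ← hb2, h2]

/-- factorisation criterion: a point of `G` which lies in `Z'` after an fpqc covering lies in `Zo` -/
theorem factor_of_cov {T T'' : Scheme.{u}} (g : T ⟶ G.left) (c : T'' ⟶ T) (hc : Cov c)
    (h' : T'' ⟶ Z'.left) (hh : h' ≫ gam z' = c ≫ g) :
    ∃ h : T ⟶ Zo.left, h ≫ zeta hK Zo E hf = g := by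
  haveI := hc.effectiveEpi
  haveI := hc.epi
  haveI := zeta_mono hK Zo E hf
  have h1 : (h' ≫ epsInv hK Zo E ≫ pullback.snd f Zo.hom) ≫ zeta hK Zo E hf = c ≫ g := by
    rw [Category.assoc, Category.assoc, q_zeta, ← Category.assoc (epsInv hK Zo E), epsInv_eps,
      Category.id_comp, hh]
  refine ⟨EffectiveEpi.desc c (h' ≫ epsInv hK Zo E ≫ pullback.snd f Zo.hom)
    (fun a b hab => ?_), ?_⟩
  · rw [← cancel_mono (zeta hK Zo E hf), Category.assoc, h1, Category.assoc, h1, ← Category.assoc,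
      hab, Category.assoc]
  · rw [← cancel_epi c, ← Category.assoc, EffectiveEpi.fac, h1]

/-- the identification `Zo ×_S S' ≅ Z'` -/
noncomputable def eIso : Red.bc f Zo ≅ Z' :=
  Over.isoMk (pullbackSymmetry Zo.hom f ≪≫
      ⟨eps hK Zo E, epsInv hK Zo E, eps_epsInv hK Zo E, epsInv_eps hK Zo E⟩)
    (by
      change ((pullbackSymmetry Zo.hom f).hom ≫ eps hK Zo E) ≫ Z'.hom = pullback.snd Zo.hom f
      rw [Category.assoc, eps_hom, pullbackSymmetry_hom_comp_fst])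

lemma eIso_hom_left :
    (eIso hK Zo E).hom.left = (pullbackSymmetry Zo.hom f).hom ≫ eps hK Zo E := rfl

/-- the descended subgroup inclusion -/
noncomputable def zHom : Zo ⟶ G := Over.homMk (zeta hK Zo E hf) (zeta_hom hK Zo E hf)

lemma eIso_z : (eIso hK Zo E).hom ≫ z' = (Over.pullback f).map (zHom hK Zo E hf) := by
  apply Over.OverMorphism.ext
  apply pullback.hom_ext
  · rw [ActBC.pullback_map_left_fst]
    change ((pullbackSymmetry Zo.hom f).hom ≫ eps hK Zo E) ≫ z'.left ≫ pullback.fst G.hom f =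
      pullback.fst Zo.hom f ≫ zeta hK Zo E hf
    rw [Category.assoc]
    change (pullbackSymmetry Zo.hom f).hom ≫ eps hK Zo E ≫ gam z' = _
    rw [← q_zeta hK Zo E hf, pullbackSymmetry_hom_comp_snd_assoc]
  · exact (Over.w _).trans (Over.w _).symm

instance zHom_mono : Mono (zHom hK Zo E hf) := by
  haveI : Mono (zHom hK Zo E hf).left := zeta_mono hK Zo E hf
  exact Over.mono_of_mono_left _

end Eff

section Grp

variable [GrpObj G] [GrpObj Z']

/-- the subgroup functor of points of `G` lying in `Z'` after base change -/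
noncomputable def Hsub (z' : Z' ⟶ Red.bc f G) [IsMonHom z'] (X : Over S) : Subgroup (X ⟶ G) where
  carrier := {g | ∃ k : Red.bc f X ⟶ Z', k ≫ z' = (Over.pullback f).map g}
  one_mem' := ⟨1, (MonObj.one_comp z').trans (Functor.map_one (Over.pullback f)).symm⟩
  mul_mem' := by
    rintro a b ⟨k₁, h₁⟩ ⟨k₂, h₂⟩
    refine ⟨k₁ * k₂, (MonObj.mul_comp k₁ k₂ z').trans ?_⟩
    rw [h₁, h₂]
    exact (Functor.map_mul (Over.pullback f) a b).symm
  inv_mem' := by
    rintro a ⟨k, h⟩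
    refine ⟨k⁻¹, (GrpObj.inv_comp k z').trans ?_⟩
    rw [h]
    exact (Functor.map_inv' (Over.pullback f) a).symm

variable [Mono z'] [IsMonHom z'] (hK : KProp z') (Zo : Over S)
  (E : (Desc.toDD f).obj Zo ≅ DD hK) (hf : Cov f)

lemma mem_Hsub_iff (X : Over S) (g : X ⟶ G) :
    (∃ h : X ⟶ Zo, h ≫ zHom hK Zo E hf = g) ↔ g ∈ Hsub z' X := by
  constructor
  · rintro ⟨h, rfl⟩
    refine ⟨(Over.pullback f).map h ≫ (eIso hK Zo E).hom, ?_⟩
    rw [Category.assoc, eIso_z hK Zo E hf, ← Functor.map_comp]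
  · rintro ⟨k, hk⟩
    have hc : Cov (pullback.fst X.hom f) := Cov.pullback_fst X.hom f hf
    have hh : k.left ≫ gam z' = pullback.fst X.hom f ≫ g.left := by
      have := congrArg (fun t => t.left ≫ pullback.fst G.hom f) hk
      simp only [Over.comp_left, Category.assoc] at this
      rw [ActBC.pullback_map_left_fst] at this
      exact this
    obtain ⟨h₀, hh₀⟩ := factor_of_cov hK Zo E hf g.left (pullback.fst X.hom f) hc k.left hh
    refine ⟨Over.homMk h₀ ?_, ?_⟩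
    · rw [← zeta_hom hK Zo E hf, ← Category.assoc, hh₀, Over.w g]
    · apply Over.OverMorphism.ext
      exact hh₀

include hf hK in
/-- **Descent of a subgroup scheme along an fpqc covering.** -/
theorem exists_descent [IsAffineHom Z'.hom] :
    ∃ (Zo : Over S) (_ : GrpObj Zo) (z : Zo ⟶ G) (e : Red.bc f Zo ≅ Z'), IsMonHom z ∧ Mono z ∧
      IsMonHom e.hom ∧ e.hom ≫ z' = (Over.pullback f).map z ∧
      ∀ ⦃T T'' : Scheme.{u}⦄ (g : T ⟶ G.left) (c : T'' ⟶ T), Cov c → ∀ h' : T'' ⟶ Z'.left,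
        h' ≫ gam z' = c ≫ g → ∃ h : T ⟶ Zo.left, h ≫ z.left = g := by
  haveI : IsAffineHom (DD hK).obj.hom := inferInstanceAs (IsAffineHom Z'.hom)
  obtain ⟨Zo, ⟨E⟩⟩ := Groth.Agent.H4.CentA.effective_of_cov f hf (DD hK)
  obtain ⟨inst, hz⟩ := Groth.Agent.H9.KL.exists_grpObj_of_subgroup (zHom hK Zo E hf) (Hsub z')
    (mem_Hsub_iff hK Zo E hf)
  refine ⟨Zo, inst, zHom hK Zo E hf, eIso hK Zo E, hz, inferInstance, ?_, eIso_z hK Zo E hf, ?_⟩
  · haveI := hz
    haveI : IsMonHom ((eIso hK Zo E).hom ≫ z') := by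
      rw [eIso_z hK Zo E hf]
      infer_instance
    exact isMonHom_of_comp_mono (eIso hK Zo E).hom z'
  · intro T T'' g c hc h' hh
    exact factor_of_cov hK Zo E hf g c hc h' hh

end Grp

end Groth.Agent.H4.CentB
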