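import Mathlib
import Groth.Prelude.Def_ActBC
import Groth.Prelude.Def_SGA3x
import Groth.Agent.H4.CentB
import Groth.Agent.H4.CentC

/-! helper4: descent of the reductive centre along an fpqc covering (S8439). -/

set_option autoImplicit false

universe u

open CategoryTheory CategoryTheory.Limits MonoidalCategory CartesianMonoidalCategory MonObj GrpObj
  AlgebraicGeometry

namespace Groth.Agent.H4.CentD

open Groth.Agent.H3.FpqcCov Groth.Agent.H4.CentB Groth.Agent.H4.CentC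

section Sq

variable {S S₁ S₂ T : Scheme.{u}} (a₁ : T ⟶ S₁) (b₁ : S₁ ⟶ S) (a₂ : T ⟶ S₂) (b₂ : S₂ ⟶ S)
  (h : a₁ ≫ b₁ = a₂ ≫ b₂) (X : Over S)

/-- comparison of the two iterated base changes along a commutative square -/
noncomputable def sqIso : Red.bc a₁ (Red.bc b₁ X) ≅ Red.bc a₂ (Red.bc b₂ X) :=
  ActBC.bcCompIso a₁ b₁ X rfl ≪≫ (ActBC.bcCompIso a₂ b₂ X h.symm).symm

lemma bcCompIso_inv_left_fst {S S' S'' : Scheme.{u}} (f : S'' ⟶ S') (g : S' ⟶ S) {d : S'' ⟶ S}
    (X : Over S) (h : f ≫ g = d) :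
    (ActBC.bcCompIso f g X h).inv.left ≫ pullback.fst _ f ≫ pullback.fst X.hom g =
      pullback.fst X.hom d := by
  rw [← ActBC.bcCompIso_hom_left_fst f g X h, ← Category.assoc, ← Over.comp_left, Iso.inv_hom_id,
    Over.id_left, Category.id_comp]

lemma sqIso_hom_left_fst_fst :
    (sqIso a₁ b₁ a₂ b₂ h X).hom.left ≫ pullback.fst _ a₂ ≫ pullback.fst X.hom b₂ =
      pullback.fst _ a₁ ≫ pullback.fst X.hom b₁ := by
  change ((ActBC.bcCompIso a₁ b₁ X rfl).hom ≫ (ActBC.bcCompIso a₂ b₂ X h.symm).inv).left ≫ _ = _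
  rw [Over.comp_left, Category.assoc, bcCompIso_inv_left_fst, ActBC.bcCompIso_hom_left_fst]

instance sqIso_isMonHom (G : Over S) [GrpObj G] : IsMonHom (sqIso a₁ b₁ a₂ b₂ h G).hom := by
  change IsMonHom ((ActBC.bcCompIso a₁ b₁ G rfl).hom ≫ (ActBC.bcCompIso a₂ b₂ G h.symm).inv)
  infer_instance

end Sq

lemma left_chase {W W' : Scheme.{u}} (t : W' ⟶ W) {A B : Over W} (k : A ⟶ B) {H : Over W'}
    (w : H ⟶ Red.bc t A) (v : H ⟶ Red.bc t B) (hw : w ≫ (Over.pullback t).map k = v) :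
    w.left ≫ pullback.fst A.hom t ≫ k.left = v.left ≫ pullback.fst B.hom t := by
  rw [← hw, Over.comp_left, Category.assoc, ActBC.pullback_map_left_fst]

section K

variable {S S' : Scheme.{u}} {f : S' ⟶ S} {G : Over S} [GrpObj G] {Z' : Over S'} [GrpObj Z']
  (z' : Z' ⟶ Red.bc f G) [IsMonHom z']

theorem klemma (hmt : SGA3x.IsMultTypeFT Z')
    (hcen : ∀ (X : Over S') (x : X ⟶ Z') (g : X ⟶ Red.bc f G), (x ≫ z') * g = g * (x ≫ z'))
    (huniv : ∀ (S'' : Scheme.{u}) (f' : S'' ⟶ S') (H : Over S'') [GrpObj H]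
        (v : H ⟶ Red.bc f' (Red.bc f G)) [IsMonHom v],
        SGA3x.IsMultTypeFT H →
        (∀ (X : Over S'') (x : X ⟶ H) (g : X ⟶ Red.bc f' (Red.bc f G)),
          (x ≫ v) * g = g * (x ≫ v)) →
        ∃ w : H ⟶ Red.bc f' Z', w ≫ (Over.pullback f').map z' = v) : KProp z' := by
  intro T x₀ x₁ hx v hv
  obtain ⟨w, hw⟩ := huniv T x₁ (Red.bc x₀ Z')
    ((Over.pullback x₀).map z' ≫ (sqIso x₀ f x₁ f hx G).hom) (isMultTypeFT_bc x₀ Z' hmt)
    (central_comp_iso _ (sqIso x₀ f x₁ f hx G) (central_bc x₀ z' hcen))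
  have hch := left_chase x₁ z' w _ hw
  obtain ⟨σ, hσ1, hσ2⟩ : ∃ σ : T ⟶ pullback Z'.hom x₀,
      σ ≫ pullback.fst Z'.hom x₀ = v ∧ σ ≫ pullback.snd Z'.hom x₀ = 𝟙 T :=
    ⟨pullback.lift v (𝟙 T) (by rw [hv, Category.id_comp]), pullback.lift_fst _ _ _,
      pullback.lift_snd _ _ _⟩
  refine ⟨σ ≫ w.left ≫ pullback.fst Z'.hom x₁, ?_, ?_⟩
  · have hw2 : w.left ≫ pullback.snd Z'.hom x₁ = pullback.snd Z'.hom x₀ := Over.w w
    rw [Category.assoc, Category.assoc, pullback.condition, ← Category.assoc w.left, hw2,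
      ← Category.assoc, hσ2, Category.id_comp]
  · have e1 : w.left ≫ pullback.fst Z'.hom x₁ ≫ z'.left ≫ pullback.fst G.hom f =
        ((Over.pullback x₀).map z').left ≫ (sqIso x₀ f x₁ f hx G).hom.left ≫
          pullback.fst _ x₁ ≫ pullback.fst G.hom f := by
      have := congrArg (fun t => t ≫ pullback.fst G.hom f) hch
      simpa only [Over.comp_left, Category.assoc] using this
    simp only [gam, Category.assoc]
    rw [e1, sqIso_hom_left_fst_fst, ← Category.assoc ((Over.pullback x₀).map z').left,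
      ActBC.pullback_map_left_fst, Category.assoc, ← Category.assoc σ, hσ1]

end K

section Main

theorem main (S : Scheme.{u}) (G : Over S) [GrpObj G]
    (h : (∃ (S' : Scheme.{u}) (f : S' ⟶ S), Flat f ∧ Surjective f ∧
      (∀ V : S.Opens, IsAffineOpen V → ∃ W : S'.Opens, IsCompact (W : Set ↥S') ∧ f.base '' (W : Set ↥S') = (V : Set ↥S)) ∧
      ∃ (Z' : Over S') (_ : GrpObj Z') (z' : Z' ⟶ Red.bc f G), (IsMonHom z' ∧ Mono z' ∧ SGA3x.IsMultTypeFT Z' ∧
      (∀ (X : Over S') (x : X ⟶ Z') (g : X ⟶ (Red.bc f G)), (x ≫ z') * g = g * (x ≫ z')) ∧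
      ∀ (S'' : Scheme.{u}) (f' : S'' ⟶ S') (H : Over S'') [GrpObj H] (v : H ⟶ Red.bc f' (Red.bc f G)) [IsMonHom v],
        SGA3x.IsMultTypeFT H →
        (∀ (X : Over S'') (x : X ⟶ H) (g : X ⟶ Red.bc f' (Red.bc f G)), (x ≫ v) * g = g * (x ≫ v)) →
        ∃ w : H ⟶ Red.bc f' Z', w ≫ (Over.pullback f').map z' = v))) :
    ∃ (Z : Over S) (_ : GrpObj Z) (z : Z ⟶ G), (IsMonHom z ∧ Mono z ∧ SGA3x.IsMultTypeFT Z ∧
      (∀ (X : Over S) (x : X ⟶ Z) (g : X ⟶ G), (x ≫ z) * g = g * (x ≫ z)) ∧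
      ∀ (S' : Scheme.{u}) (f : S' ⟶ S) (H : Over S') [GrpObj H] (v : H ⟶ Red.bc f G) [IsMonHom v],
        SGA3x.IsMultTypeFT H →
        (∀ (X : Over S') (x : X ⟶ H) (g : X ⟶ Red.bc f G), (x ≫ v) * g = g * (x ≫ v)) →
        ∃ w : H ⟶ Red.bc f Z, w ≫ (Over.pullback f).map z = v) := by
  obtain ⟨S', f, hflat, hsurj, hqc, Z', instZ', z', hmon, hmono, hmt, hcen, huniv⟩ := h
  haveI := hmon
  haveI := hmono
  have hf : Cov f := cov_of_cond f hsurj hflat hqc
  haveI : IsAffineHom Z'.hom := isAffineHom_of_isMultTypeFT Z' hmt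
  have hK : KProp z' := klemma z' hmt hcen huniv
  obtain ⟨Zo, instZo, z, e, hz1, hz2, he1, he2, hfac⟩ := exists_descent hK hf
  haveI := hz1
  haveI := he1
  refine ⟨Zo, instZo, z, hz1, hz2, isMultTypeFT_of_cov hf Zo Z' (Grp.mkIso' e) hmt, ?_, ?_⟩
  · intro X x g
    have hinj : ∀ (a b : X ⟶ G), (Over.pullback f).map a = (Over.pullback f).map b → a = b := by
      intro a b hab
      have hc : Cov (pullback.fst X.hom f) := Cov.pullback_fst X.hom f hf
      haveI := hc.epi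
      apply Over.OverMorphism.ext
      rw [← cancel_epi (pullback.fst X.hom f), ← ActBC.pullback_map_left_fst,
        ← ActBC.pullback_map_left_fst, hab]
    apply hinj
    rw [Functor.map_mul, Functor.map_mul, Functor.map_comp, ← he2, ← Category.assoc]
    exact hcen _ _ _
  · intro S₁ f₁ H instH v instv hH hvc
    have hg₁ : Cov (pullback.fst f₁ f) := Cov.pullback_fst f₁ f hf
    obtain ⟨w₁, hw₁⟩ := huniv (pullback f₁ f) (pullback.snd f₁ f) (Red.bc (pullback.fst f₁ f) H)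
      ((Over.pullback (pullback.fst f₁ f)).map v ≫
        (sqIso (pullback.fst f₁ f) f₁ (pullback.snd f₁ f) f pullback.condition G).hom)
      (isMultTypeFT_bc _ H hH)
      (central_comp_iso _ (sqIso (pullback.fst f₁ f) f₁ (pullback.snd f₁ f) f pullback.condition G)
        (central_bc _ v hvc))
    have hch := left_chase (pullback.snd f₁ f) z' w₁ _ hw₁
    have hc : Cov (pullback.fst H.hom (pullback.fst f₁ f)) := Cov.pullback_fst _ _ hg₁
    have hside : (w₁.left ≫ pullback.fst Z'.hom (pullback.snd f₁ f)) ≫ gam z' =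
        pullback.fst H.hom (pullback.fst f₁ f) ≫ v.left ≫ pullback.fst G.hom f₁ := by
      have e1 := congrArg (fun t => t ≫ pullback.fst G.hom f) hch
      simp only [Over.comp_left, Category.assoc] at e1
      simp only [gam, Category.assoc]
      rw [e1, sqIso_hom_left_fst_fst, ← Category.assoc, ActBC.pullback_map_left_fst,
        Category.assoc]
    obtain ⟨ω, hω⟩ := hfac (v.left ≫ pullback.fst G.hom f₁)
      (pullback.fst H.hom (pullback.fst f₁ f)) hc
      (w₁.left ≫ pullback.fst Z'.hom (pullback.snd f₁ f)) hside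
    have hcond : ω ≫ Zo.hom = H.hom ≫ f₁ := by
      have hv2 : v.left ≫ pullback.snd G.hom f₁ = H.hom := Over.w v
      rw [← Over.w z, ← Category.assoc, hω, Category.assoc, pullback.condition, ← Category.assoc,
        hv2]
    refine ⟨Over.homMk (pullback.lift ω H.hom hcond) (pullback.lift_snd _ _ _), ?_⟩
    apply Over.OverMorphism.ext
    apply pullback.hom_ext
    · rw [Over.comp_left, Category.assoc, ActBC.pullback_map_left_fst]
      change pullback.lift ω H.hom hcond ≫ pullback.fst Zo.hom f₁ ≫ z.left = _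
      rw [pullback.lift_fst_assoc, hω]
    · exact (Over.w _).trans (Over.w _).symm

end Main

end Groth.Agent.H4.CentD
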