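import Mathlib

set_option autoImplicit false
open TensorProduct Matrix

namespace Groth.Agent.H4.Compound

section Compound
variable {A : Type*} [CommRing A] {n : ℕ}

/-- index set of the compound matrix -/
abbrev Idx (n r : ℕ) := Set.powersetCard (Fin n) r

/-- the sorted enumeration of a subset -/
noncomputable def srt {n r : ℕ} (S : Idx n r) : Fin r ↪o Fin n :=
  Set.powersetCard.ofFinEmbEquiv.symm S

lemma srt_ofFinEmbEquiv {n r : ℕ} (ι₀ : Fin r ↪o Fin n) :
    srt (Set.powersetCard.ofFinEmbEquiv ι₀) = ι₀ :=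
  Equiv.symm_apply_apply _ _

/-- compound matrix of `r × r` minors -/
noncomputable def cmp (r : ℕ) (M : Matrix (Fin n) (Fin n) A) : Matrix (Idx n r) (Idx n r) A :=
  Matrix.of fun S T => (M.submatrix (srt S) (srt T)).det

lemma cmp_apply (r : ℕ) (M : Matrix (Fin n) (Fin n) A) (S T : Idx n r) :
    cmp r M S T = (M.submatrix (srt S) (srt T)).det := rfl

lemma cmp_map (r : ℕ) {A' : Type*} [CommRing A'] (f : A →+* A') (M : Matrix (Fin n) (Fin n) A) :
    cmp r (M.map f) = (cmp r M).map f := by
  ext S T
  simp only [cmp_apply, Matrix.map_apply]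
  rw [RingHom.map_det]
  rfl

lemma cmp_eq_toMatrix (r : ℕ) (M : Matrix (Fin n) (Fin n) A) :
    cmp r M = LinearMap.toMatrix ((Pi.basisFun A (Fin n)).exteriorPower r)
      ((Pi.basisFun A (Fin n)).exteriorPower r)
      (exteriorPower.map r (Matrix.toLin' M)) := by
  ext S T
  rw [LinearMap.toMatrix_apply, exteriorPower.basis_repr_apply, exteriorPower.basis_apply,
    exteriorPower.map_apply_ιMulti_family, exteriorPower.ιMulti_family,
    exteriorPower.ιMultiDual_apply_ιMulti, cmp_apply, ← Matrix.det_transpose]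
  congr 1
  ext i j
  simp [srt, Matrix.mulVec_single_one]

lemma cmp_mul (r : ℕ) (M N : Matrix (Fin n) (Fin n) A) :
    cmp r (M * N) = cmp r M * cmp r N := by
  rw [cmp_eq_toMatrix, cmp_eq_toMatrix, cmp_eq_toMatrix, Matrix.toLin'_mul, exteriorPower.map_comp,
    LinearMap.toMatrix_comp _ ((Pi.basisFun A (Fin n)).exteriorPower r)]

lemma cmp_one (r : ℕ) : cmp r (1 : Matrix (Fin n) (Fin n) A) = 1 := by
  rw [cmp_eq_toMatrix, Matrix.toLin'_one, exteriorPower.map_id, LinearMap.toMatrix_id]

end Compound

section Cramer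
variable {C : Type*} [CommRing C] {n r : ℕ}

lemma det_submatrix_eq_zero_of_injective (M : Matrix (Fin n) (Fin n) C) (ι₀ : Fin r ↪o Fin n)
    (h0 : ∀ S : Idx n r, S ≠ Set.powersetCard.ofFinEmbEquiv ι₀ →
      cmp r M S (Set.powersetCard.ofFinEmbEquiv ι₀) = 0)
    (f : Fin r → Fin n) (hf : Function.Injective f) (hne : ∃ l, f l ∉ Set.range ι₀) :
    (M.submatrix f ι₀).det = 0 := by
  classical
  set S : Idx n r := Set.powersetCard.ofFinEmb r (Fin n) ⟨f, hf⟩ with hSdef
  have hmem : ∀ l, f l ∈ S := by
    intro l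
    rw [hSdef, Set.powersetCard.mem_ofFinEmb_iff_mem_range]
    exact ⟨l, rfl⟩
  have hS : S ≠ Set.powersetCard.ofFinEmbEquiv ι₀ := by
    obtain ⟨l, hl⟩ := hne
    intro h
    apply hl
    have := hmem l
    rw [h, Set.powersetCard.mem_ofFinEmbEquiv_iff_mem_range] at this
    exact this
  have hex : ∀ l, ∃ m, srt S m = f l := by
    intro l
    exact (Set.powersetCard.mem_range_ofFinEmbEquiv_symm_iff_mem S (f l)).mpr (hmem l)
  choose σ hσ using hex
  have hinj : Function.Injective σ := by
    intro a b hab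
    apply hf
    rw [← hσ a, ← hσ b, hab]
  let σe : Equiv.Perm (Fin r) := Equiv.ofBijective σ (Finite.injective_iff_bijective.1 hinj)
  have hsub : M.submatrix f ι₀ = (M.submatrix (srt S) ι₀).submatrix σe id := by
    ext a b
    simp [σe, hσ]
  rw [hsub, Matrix.det_permute]
  have h1 : (M.submatrix (srt S) ι₀).det = cmp r M S (Set.powersetCard.ofFinEmbEquiv ι₀) := by
    rw [cmp_apply, srt_ofFinEmbEquiv]
  rw [h1, h0 S hS, mul_zero]

lemma entries_zero_of_cmp (M M' : Matrix (Fin n) (Fin n) C) (hM : M' * M = 1)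
    (ι₀ : Fin r ↪o Fin n)
    (h0 : ∀ S : Idx n r, S ≠ Set.powersetCard.ofFinEmbEquiv ι₀ →
      cmp r M S (Set.powersetCard.ofFinEmbEquiv ι₀) = 0)
    (i : Fin n) (hi : i ∉ Set.range ι₀) (j : Fin r) : M i (ι₀ j) = 0 := by
  classical
  set S₀ : Idx n r := Set.powersetCard.ofFinEmbEquiv ι₀ with hS₀
  -- the principal minor is a unit
  have hc : IsUnit (cmp r M S₀ S₀) := by
    have h1 : (cmp r M' * cmp r M) S₀ S₀ = 1 := by
      rw [← cmp_mul, hM, cmp_one, Matrix.one_apply_eq]
    rw [Matrix.mul_apply, Finset.sum_eq_single S₀] at h1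
    · exact IsUnit.of_mul_eq_one _ (by rw [mul_comm]; exact h1)
    · intro U _ hU
      rw [h0 U hU, mul_zero]
    · intro h
      exact absurd (Finset.mem_univ _) h
  set P : Matrix (Fin r) (Fin r) C := M.submatrix ι₀ ι₀ with hP
  have hdetP : P.det = cmp r M S₀ S₀ := by
    rw [cmp_apply, hS₀, srt_ofFinEmbEquiv]
  set x : Fin r → C := fun j => M i (ι₀ j) with hx
  have hcr : ∀ j', (P.updateRow j' x).det = 0 := by
    intro j'
    have hupd : P.updateRow j' x = M.submatrix (Function.update (⇑ι₀) j' i) ι₀ := by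
      ext a b
      by_cases hab : a = j'
      · subst hab
        simp [hx]
      · simp [Matrix.updateRow_ne hab, Function.update_of_ne hab, hP]
    rw [hupd]
    apply det_submatrix_eq_zero_of_injective M ι₀ h0
    · intro a b hab
      by_cases ha : a = j' <;> by_cases hb : b = j'
      · rw [ha, hb]
      · exfalso
        rw [ha, Function.update_self, Function.update_of_ne hb] at hab
        exact hi ⟨b, hab.symm⟩
      · exfalso
        rw [hb, Function.update_self, Function.update_of_ne ha] at hab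
        exact hi ⟨a, hab⟩
      · rw [Function.update_of_ne ha, Function.update_of_ne hb] at hab
        exact ι₀.injective hab
    · exact ⟨j', by rw [Function.update_self]; exact hi⟩
  have hcram : Matrix.cramer Pᵀ x = 0 := by
    funext j'
    rw [Matrix.cramer_transpose_apply]
    exact hcr j'
  have h2 := Matrix.mulVec_cramer Pᵀ x
  rw [hcram, Matrix.mulVec_zero, Matrix.det_transpose, hdetP] at h2
  have h3 := congrFun h2 j
  simp only [Pi.zero_apply, Pi.smul_apply, smul_eq_mul] at h3
  exact (hc.mul_right_eq_zero).1 h3.symm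

end Cramer

section FlatIndep

lemma eq_zero_of_sum_tmul {V : Type*} [CommRing V] {B₁ B₂ : Type*} [AddCommGroup B₁] [Module V B₁]
    [AddCommGroup B₂] [Module V B₂] [Module.Flat V B₂] {s : ℕ} (u : Fin s → B₁)
    (hu : LinearIndependent V u) (c : Fin s → B₂) (h : ∑ i, u i ⊗ₜ[V] c i = 0) (i : Fin s) :
    c i = 0 := by
  classical
  set ψ : (Fin s → V) →ₗ[V] B₁ := Fintype.linearCombination V u with hψdef
  have hψ : Function.Injective ψ := by
    rw [injective_iff_map_eq_zero]
    intro g hg
    rw [hψdef, Fintype.linearCombination_apply] at hg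
    funext l
    exact Fintype.linearIndependent_iff.1 hu g hg l
  set t : (Fin s → V) ⊗[V] B₂ := ∑ l, (Pi.single l (1 : V) : Fin s → V) ⊗ₜ[V] c l with ht
  have h1 : (ψ.rTensor B₂) t = 0 := by
    rw [ht, map_sum, ← h]
    apply Finset.sum_congr rfl
    intro l _
    rw [LinearMap.rTensor_tmul, hψdef, Fintype.linearCombination_apply_single, one_smul]
  have h2 : t = 0 :=
    Module.Flat.rTensor_preserves_injective_linearMap (M := B₂) ψ hψ (by rw [h1, map_zero])
  have h3 := congrArg ((TensorProduct.lid V B₂).toLinearMap ∘ₗ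
    ((LinearMap.proj i : (Fin s → V) →ₗ[V] V).rTensor B₂)) h2
  rw [map_zero, ht, map_sum] at h3
  simp only [LinearMap.comp_apply, LinearMap.rTensor_tmul, LinearMap.proj_apply,
    LinearEquiv.coe_coe, TensorProduct.lid_tmul, Pi.single_apply, ite_smul, one_smul, zero_smul,
    Finset.sum_ite_eq, Finset.mem_univ, if_true] at h3
  exact h3

end FlatIndep

section Adapted

variable {V : Type*} [CommRing V] [IsDomain V] [IsPrincipalIdealRing V]
  {W : Type*} [AddCommGroup W] [Module V W] [Module.Finite V W] [Module.IsTorsionFree V W]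
  {B : Type*} [AddCommGroup B] [Module V B] [Module.IsTorsionFree V B]

lemma exists_adapted_basis (p : W →ₗ[V] B) :
    ∃ (r s : ℕ) (w : Module.Basis (Fin (r + s)) V W),
      (∀ j : Fin r, p (w (Fin.castAdd s j)) = 0) ∧
      LinearIndependent V (fun i : Fin s => p (w (Fin.natAdd r i))) ∧
      (∀ x : W, p x = 0 →
        x ∈ Submodule.span V (Set.range fun j : Fin r => w (Fin.castAdd s j))) := by
  classical
  haveI : IsNoetherian V W := isNoetherian_of_isNoetherianRing_of_finite V W
  set K := LinearMap.ker p with hK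
  set Q := LinearMap.range p with hQ
  haveI : Module.Finite V K := Module.Finite.of_injective K.subtype K.injective_subtype
  haveI : Module.Finite V Q := inferInstance
  haveI : Module.Free V K := Module.free_of_finite_type_torsion_free'
  haveI : Module.Free V Q := Module.free_of_finite_type_torsion_free'
  let bK := Module.finBasis V K
  let bQ := Module.finBasis V Q
  set p' : W →ₗ[V] Q := p.rangeRestrict with hp'
  have hsurj : Function.Surjective p' := LinearMap.surjective_rangeRestrict p
  obtain ⟨σ, hσ⟩ := Module.projective_lifting_property p' LinearMap.id hsurj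
  have hσ' : ∀ q : Q, p' (σ q) = q := fun q => LinearMap.congr_fun hσ q
  have hmem : ∀ x : W, ((LinearMap.id : W →ₗ[V] W) - σ ∘ₗ p') x ∈ K := by
    intro x
    rw [hK, LinearMap.mem_ker]
    have h1 : p' (((LinearMap.id : W →ₗ[V] W) - σ ∘ₗ p') x) = 0 := by
      simp only [LinearMap.sub_apply, LinearMap.id_apply, LinearMap.comp_apply, map_sub, hσ',
        sub_self]
    have h2 := congrArg Subtype.val h1
    simpa [hp'] using h2
  let f : W →ₗ[V] K × Q := (LinearMap.codRestrict K ((LinearMap.id : W →ₗ[V] W) - σ ∘ₗ p') hmem).prod p'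
  let g : K × Q →ₗ[V] W := K.subtype.coprod σ
  have hKp : ∀ k : K, p' (k : W) = 0 := by
    intro k
    apply Subtype.ext
    have : p (k : W) = 0 := LinearMap.mem_ker.1 k.2
    simpa [hp'] using this
  have hfg : f ∘ₗ g = LinearMap.id := by
    apply LinearMap.ext
    rintro ⟨k, q⟩
    apply Prod.ext
    · apply Subtype.ext
      simp [f, g, hσ', hKp]
    · simp [f, g, hσ', hKp]
  have hgf : g ∘ₗ f = LinearMap.id := by
    apply LinearMap.ext
    intro x
    simp [f, g]
  let e : W ≃ₗ[V] K × Q := LinearEquiv.ofLinear f g hfg hgf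
  let w0 : Module.Basis (Fin (Module.finrank V K) ⊕ Fin (Module.finrank V Q)) V W :=
    (bK.prod bQ).map e.symm
  refine ⟨Module.finrank V K, Module.finrank V Q, w0.reindex finSumFinEquiv, ?_, ?_, ?_⟩
  · intro j
    have : (w0.reindex finSumFinEquiv) (Fin.castAdd _ j) = (bK j : W) := by
      simp [w0, e, g]
    rw [this]
    exact LinearMap.mem_ker.1 (bK j).2
  · have h1 : (fun i : Fin (Module.finrank V Q) =>
        p ((w0.reindex finSumFinEquiv) (Fin.natAdd _ i))) = fun i => ((bQ i : Q) : B) := by
      funext i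
      have : (w0.reindex finSumFinEquiv) (Fin.natAdd _ i) = σ (bQ i) := by
        simp [w0, e, g]
      rw [this]
      have := congrArg Subtype.val (hσ' (bQ i))
      simpa [hp'] using this
    rw [h1]
    exact bQ.linearIndependent.map' Q.subtype (Submodule.ker_subtype Q)
  · intro x hx
    have hxK : x ∈ K := by rw [hK, LinearMap.mem_ker]; exact hx
    have h1 := bK.mem_span ⟨x, hxK⟩
    have h2 := Submodule.apply_mem_span_image_of_mem_span K.subtype h1
    simp only [Submodule.subtype_apply] at h2
    refine Submodule.span_mono ?_ h2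
    rintro _ ⟨_, ⟨j, rfl⟩, rfl⟩
    refine ⟨j, ?_⟩
    simp [w0, e, g]

end Adapted

end Groth.Agent.H4.Compound
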