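import Mathlib
import Groth.Prelude.Def_HopfRep

set_option autoImplicit false
open TensorProduct

universe u

namespace Groth.Agent.H4.HopfGL

lemma lr_comm {R : Type*} [CommRing R] {M N P Q : Type*} [AddCommGroup M] [AddCommGroup N]
    [AddCommGroup P] [AddCommGroup Q] [Module R M] [Module R N] [Module R P] [Module R Q]
    (f : M →ₗ[R] P) (g : N →ₗ[R] Q) (t : M ⊗[R] N) :
    (g.lTensor P) ((f.rTensor N) t) = (f.rTensor Q) ((g.lTensor M) t) := by
  rw [← LinearMap.comp_apply, ← LinearMap.comp_apply, LinearMap.lTensor_comp_rTensor,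
    LinearMap.rTensor_comp_lTensor]

section LocFin

variable {R : Type u} [CommRing R] {A : Type u} [CommRing A] [Bialgebra R A]

/-- the largest subcomodule of the regular comodule contained in `W` -/
def core (W : Submodule R A) : Submodule R A :=
  Submodule.comap (CoalgebraStruct.comul (R := R) (A := A))
    (LinearMap.range (W.subtype.rTensor A))

lemma rid_mem (W : Submodule R A) (s : W ⊗[R] R) :
    TensorProduct.rid R A ((W.subtype.rTensor R) s) ∈ W := by
  induction s using TensorProduct.induction_on with
  | zero => simp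
  | tmul w r =>
    simp only [LinearMap.rTensor_tmul, Submodule.subtype_apply, TensorProduct.rid_tmul]
    exact W.smul_mem r w.2
  | add x y hx hy =>
    rw [map_add, map_add]
    exact W.add_mem hx hy

lemma core_le (W : Submodule R A) : core W ≤ W := by
  intro n hn
  obtain ⟨t, ht⟩ := hn
  have h1 : (CoalgebraStruct.counit (R := R) (A := A)).lTensor A
      (CoalgebraStruct.comul (R := R) n) = n ⊗ₜ[R] 1 := Coalgebra.lTensor_counit_comul n
  rw [← ht] at h1
  have h2 : (CoalgebraStruct.counit (R := R) (A := A)).lTensor A ((W.subtype.rTensor A) t) =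
      (W.subtype.rTensor R) ((CoalgebraStruct.counit (R := R) (A := A)).lTensor W t) :=
    lr_comm _ _ _
  rw [h2] at h1
  have h3 := rid_mem W ((CoalgebraStruct.counit (R := R) (A := A)).lTensor W t)
  rw [h1] at h3
  simpa using h3

variable [Module.Flat R A]

lemma core_isSub_aux (W : Submodule R A) (w : W) (z : A ⊗[R] A) :
    ((LinearMap.range (W.subtype.rTensor A)).mkQ.rTensor A)
      ((TensorProduct.assoc R A A A).symm ((w : A) ⊗ₜ[R] z)) = 0 := by
  induction z using TensorProduct.induction_on with
  | zero => simp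
  | tmul c d =>
    rw [TensorProduct.assoc_symm_tmul, LinearMap.rTensor_tmul]
    have : (LinearMap.range (W.subtype.rTensor A)).mkQ ((w : A) ⊗ₜ[R] c) = 0 := by
      rw [Submodule.mkQ_apply, Submodule.Quotient.mk_eq_zero]
      exact ⟨w ⊗ₜ[R] c, by simp⟩
    rw [this, TensorProduct.zero_tmul]
  | add x y hx hy =>
    rw [TensorProduct.tmul_add, map_add, map_add, hx, hy, add_zero]

lemma core_isSub_aux2 (W : Submodule R A) (t : W ⊗[R] A) :
    ((LinearMap.range (W.subtype.rTensor A)).mkQ.rTensor A)
      ((TensorProduct.assoc R A A A).symm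
        ((CoalgebraStruct.comul (R := R) (A := A)).lTensor A ((W.subtype.rTensor A) t))) = 0 := by
  induction t using TensorProduct.induction_on with
  | zero => simp
  | tmul w b =>
    rw [LinearMap.rTensor_tmul, LinearMap.lTensor_tmul, Submodule.subtype_apply]
    exact core_isSub_aux W w _
  | add x y hx hy =>
    simp only [map_add, hx, hy, add_zero]

lemma core_isSub (W : Submodule R A) (n : A) (hn : n ∈ core W) :
    CoalgebraStruct.comul (R := R) n ∈ LinearMap.range ((core W).subtype.rTensor A) := by
  set f : A →ₗ[R] _ := (LinearMap.range (W.subtype.rTensor A)).mkQ ∘ₗ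
    (CoalgebraStruct.comul (R := R) (A := A)) with hf
  have hker : LinearMap.ker f = core W := by
    ext x
    simp only [LinearMap.mem_ker, hf, LinearMap.comp_apply, Submodule.mkQ_apply,
      Submodule.Quotient.mk_eq_zero, core, Submodule.mem_comap]
  have key : ∀ N' : Submodule R A, N' = LinearMap.ker f →
      CoalgebraStruct.comul (R := R) n ∈ LinearMap.range (N'.subtype.rTensor A) := by
    rintro _ rfl
    have hex := Module.Flat.rTensor_exact A (LinearMap.exact_subtype_ker_map f)
    refine (hex _).1 ?_
    obtain ⟨t, ht⟩ := hn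
    rw [hf, LinearMap.rTensor_comp, LinearMap.comp_apply, ← Coalgebra.coassoc_symm_apply, ← ht]
    exact core_isSub_aux2 W t
  exact key _ hker.symm

end LocFin

section SubComod

variable {R : Type u} [CommRing R] {A : Type u} [CommRing A] [Bialgebra R A] [Module.Flat R A]
  (N : Submodule R A)
  (hN : ∀ n ∈ N, CoalgebraStruct.comul (R := R) n ∈ LinearMap.range (N.subtype.rTensor A))

lemma inj_j : Function.Injective (N.subtype.rTensor A) :=
  Module.Flat.rTensor_preserves_injective_linearMap _ N.injective_subtype

/-- the coaction on a subcomodule of the regular comodule -/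
noncomputable def subCoact : N →ₗ[R] N ⊗[R] A :=
  (LinearEquiv.ofInjective (N.subtype.rTensor A) (inj_j N)).symm.toLinearMap ∘ₗ
    (LinearMap.codRestrict (LinearMap.range (N.subtype.rTensor A))
      ((CoalgebraStruct.comul (R := R) (A := A)) ∘ₗ N.subtype) (fun n => hN n n.2))

lemma subCoact_spec (n : N) :
    (N.subtype.rTensor A) (subCoact N hN n) = CoalgebraStruct.comul (R := R) (n : A) := by
  have h := LinearEquiv.apply_symm_apply (LinearEquiv.ofInjective (N.subtype.rTensor A) (inj_j N))
    ((LinearMap.codRestrict (LinearMap.range (N.subtype.rTensor A))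
      ((CoalgebraStruct.comul (R := R) (A := A)) ∘ₗ N.subtype) (fun n => hN n n.2)) n)
  have h2 := congrArg Subtype.val h
  rw [LinearEquiv.ofInjective_apply] at h2
  exact h2

lemma assoc_nat (f : N →ₗ[R] A) :
    (f.rTensor (A ⊗[R] A)) ∘ₗ (TensorProduct.assoc R N A A).toLinearMap =
      (TensorProduct.assoc R A A A).toLinearMap ∘ₗ ((f.rTensor A).rTensor A) := by
  apply TensorProduct.ext_threefold
  intro x y z
  rfl

/-- the comodule structure on a subcomodule -/
@[reducible] noncomputable def subComod : HopfRep.Comod R A N where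
  coact := subCoact N hN
  coassoc := by
    apply LinearMap.ext
    intro n
    apply Module.Flat.rTensor_preserves_injective_linearMap (M := A ⊗[R] A) N.subtype
      N.injective_subtype
    simp only [LinearMap.comp_apply, LinearEquiv.coe_coe]
    have e1 := LinearMap.congr_fun (assoc_nat N N.subtype)
      ((subCoact N hN).rTensor A (subCoact N hN n))
    simp only [LinearMap.comp_apply, LinearEquiv.coe_coe] at e1
    rw [e1]
    have hcomp : (N.subtype.rTensor A) ∘ₗ subCoact N hN =
        (CoalgebraStruct.comul (R := R) (A := A)) ∘ₗ N.subtype :=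
      LinearMap.ext (subCoact_spec N hN)
    have e2 : ((N.subtype.rTensor A).rTensor A) ((subCoact N hN).rTensor A (subCoact N hN n)) =
        (CoalgebraStruct.comul (R := R) (A := A)).rTensor A
          ((N.subtype.rTensor A) (subCoact N hN n)) := by
      rw [← LinearMap.rTensor_comp_apply, hcomp, LinearMap.rTensor_comp_apply]
    rw [e2, subCoact_spec, Coalgebra.coassoc_apply, ← lr_comm, subCoact_spec]
  counit_comp := by
    apply LinearMap.ext
    intro n
    apply Module.Flat.rTensor_preserves_injective_linearMap (M := R) N.subtype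
      N.injective_subtype
    simp only [LinearMap.comp_apply]
    rw [← lr_comm, subCoact_spec, Coalgebra.lTensor_counit_comul]
    simp

end SubComod

section Coef

variable {R : Type u} [CommRing R] {A : Type u} [CommRing A] [HopfAlgebra R A]
  {E : Type u} [AddCommGroup E] [Module R E] [HopfRep.Comod R A E]
  {d : ℕ} (e : Fin d → E) (φ : Fin d → E →ₗ[R] R)

/-- apply the functional `φ k` to the first factor -/
noncomputable def app (X : Type*) [AddCommGroup X] [Module R X] (k : Fin d) : E ⊗[R] X →ₗ[R] X :=
  (TensorProduct.lid R X).toLinearMap ∘ₗ (φ k).rTensor X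

lemma app_tmul (X : Type*) [AddCommGroup X] [Module R X] (k : Fin d) (x : E) (y : X) :
    app φ X k (x ⊗ₜ[R] y) = φ k x • y := by
  simp [app]

/-- the matrix coefficients of the coaction in the "dual basis" `(e, φ)` -/
noncomputable def coef (i j : Fin d) : A :=
  app φ A i (HopfRep.Comod.coact (k := R) (A := A) (e j))

variable (hφ : ∀ x : E, ∑ i, φ i x • e i = x)

include hφ in
lemma expand (X : Type*) [AddCommGroup X] [Module R X] (y : E ⊗[R] X) :
    y = ∑ i, e i ⊗ₜ[R] app φ X i y := by
  induction y using TensorProduct.induction_on with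
  | zero => simp
  | tmul x b =>
    simp only [app_tmul, TensorProduct.tmul_smul, TensorProduct.smul_tmul']
    rw [← TensorProduct.sum_tmul, hφ]
  | add x y hx hy =>
    simp only [map_add, TensorProduct.tmul_add, Finset.sum_add_distrib]
    rw [← hx, ← hy]

include hφ in
lemma coact_e (j : Fin d) :
    HopfRep.Comod.coact (k := R) (A := A) (e j) = ∑ l, e l ⊗ₜ[R] coef (A := A) e φ l j :=
  expand e φ hφ A _

include hφ in
lemma coef_P_left (k j : Fin d) :
    coef (A := A) e φ k j = ∑ l, φ k (e l) • coef (A := A) e φ l j := by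
  conv_lhs => rw [coef, coact_e e φ hφ j]
  simp only [map_sum, app_tmul]

include hφ in
lemma coef_P_right (i j : Fin d) :
    coef (A := A) e φ i j = ∑ l, φ l (e j) • coef (A := A) e φ i l := by
  conv_lhs => rw [coef, ← hφ (e j)]
  simp only [map_sum, map_smul]
  rfl

include hφ in
lemma comul_coef (k j : Fin d) :
    CoalgebraStruct.comul (R := R) (coef (A := A) e φ k j) =
      ∑ l, coef (A := A) e φ k l ⊗ₜ[R] coef (A := A) e φ l j := by
  have h := LinearMap.congr_fun (HopfRep.Comod.coassoc (k := R) (A := A) (V := E)) (e j)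
  simp only [LinearMap.comp_apply, LinearEquiv.coe_coe] at h
  rw [coact_e e φ hφ j] at h
  simp only [map_sum, LinearMap.rTensor_tmul, LinearMap.lTensor_tmul] at h
  have h2 := congrArg (app φ (A ⊗[R] A) k) h
  simp only [map_sum, app_tmul] at h2
  -- RHS of h2 : ∑ l, φ k (e l) • comul (coef l j)
  have hR : ∑ l, φ k (e l) • CoalgebraStruct.comul (R := R) (coef (A := A) e φ l j) =
      CoalgebraStruct.comul (R := R) (coef (A := A) e φ k j) := by
    rw [coef_P_left e φ hφ k j]
    simp only [map_sum, map_smul]
  rw [hR] at h2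
  rw [← h2]
  apply Finset.sum_congr rfl
  intro l _
  rw [coact_e e φ hφ l]
  simp only [TensorProduct.sum_tmul, map_sum, TensorProduct.assoc_tmul, app_tmul]
  rw [coef_P_left e φ hφ k l, TensorProduct.sum_tmul]
  apply Finset.sum_congr rfl
  intro i _
  rw [TensorProduct.smul_tmul']

include hφ in
lemma counit_coef (i j : Fin d) :
    CoalgebraStruct.counit (R := R) (coef (A := A) e φ i j) = φ i (e j) := by
  have h := LinearMap.congr_fun (HopfRep.Comod.counit_comp (k := R) (A := A) (V := E)) (e j)
  simp only [LinearMap.comp_apply] at h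
  rw [coact_e e φ hφ j] at h
  simp only [map_sum, LinearMap.lTensor_tmul] at h
  have h2 := congrArg (app φ R i) h
  simp only [map_sum, app_tmul, LinearMap.flip_apply, TensorProduct.mk_apply, smul_eq_mul,
    mul_one] at h2
  rw [← h2, coef_P_left e φ hφ i j]
  simp only [map_sum, map_smul, smul_eq_mul]

/-- the complementary idempotent -/
def Qm (i j : Fin d) : R := (if i = j then 1 else 0) - φ i (e j)

include hφ in
lemma P_idem (i j : Fin d) : ∑ l, φ i (e l) * φ l (e j) = φ i (e j) := by
  conv_rhs => rw [← hφ (e j)]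
  simp only [map_sum, map_smul, smul_eq_mul]
  apply Finset.sum_congr rfl
  intro l _
  ring

include hφ in
lemma Q_idem (i j : Fin d) : ∑ l, Qm e φ i l * Qm e φ l j = Qm e φ i j := by
  simp only [Qm, sub_mul, mul_sub, Finset.sum_sub_distrib, ite_mul, one_mul, zero_mul, mul_ite,
    mul_one, mul_zero, Finset.sum_ite_eq, Finset.sum_ite_eq', Finset.mem_univ, if_true,
    P_idem e φ hφ]
  ring

include hφ in
lemma Q_coef_left (i j : Fin d) : ∑ l, Qm e φ i l • coef (A := A) e φ l j = 0 := by
  simp only [Qm, sub_smul, Finset.sum_sub_distrib, ite_smul, one_smul, zero_smul,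
    Finset.sum_ite_eq, Finset.mem_univ, if_true, ← coef_P_left e φ hφ i j, sub_self]

include hφ in
lemma Q_coef_right (i j : Fin d) : ∑ l, Qm e φ l j • coef (A := A) e φ i l = 0 := by
  simp only [Qm, sub_smul, Finset.sum_sub_distrib, ite_smul, one_smul, zero_smul,
    Finset.sum_ite_eq', Finset.mem_univ, if_true, ← coef_P_right e φ hφ i j, sub_self]

/-- the corrected matrix -/
noncomputable def amat : Matrix (Fin d) (Fin d) A :=
  Matrix.of fun i j => coef (A := A) e φ i j + algebraMap R A (Qm e φ i j)

include hφ in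
lemma comul_amat (i j : Fin d) :
    CoalgebraStruct.comul (R := R) (amat (A := A) e φ i j) =
      ∑ l, amat (A := A) e φ i l ⊗ₜ[R] amat (A := A) e φ l j := by
  simp only [amat, Matrix.of_apply, map_add, comul_coef e φ hφ,
    TensorProduct.add_tmul, TensorProduct.tmul_add, Finset.sum_add_distrib,
    Algebra.algebraMap_eq_smul_one, map_smul, Bialgebra.comul_one, Algebra.TensorProduct.one_def]
  have h1 : ∑ l, coef (A := A) e φ i l ⊗ₜ[R] (Qm e φ l j • (1 : A)) = 0 := by
    simp only [TensorProduct.tmul_smul, TensorProduct.smul_tmul']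
    rw [← TensorProduct.sum_tmul, Q_coef_right e φ hφ, TensorProduct.zero_tmul]
  have h2 : ∑ l, (Qm e φ i l • (1 : A)) ⊗ₜ[R] coef (A := A) e φ l j = 0 := by
    simp only [TensorProduct.smul_tmul]
    rw [← TensorProduct.tmul_sum, Q_coef_left e φ hφ, TensorProduct.tmul_zero]
  have h3 : ∑ l, (Qm e φ i l • (1 : A)) ⊗ₜ[R] (Qm e φ l j • (1 : A)) =
      Qm e φ i j • ((1 : A) ⊗ₜ[R] (1 : A)) := by
    simp only [TensorProduct.smul_tmul_smul]
    rw [← Finset.sum_smul, Q_idem e φ hφ]
  rw [h1, h2, h3]
  abel

include hφ in
lemma counit_amat (i j : Fin d) :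
    CoalgebraStruct.counit (R := R) (amat (A := A) e φ i j) = if i = j then 1 else 0 := by
  simp only [amat, Matrix.of_apply, map_add, counit_coef e φ hφ, Bialgebra.counit_algebraMap, Qm]
  ring

include hφ in
lemma amat_mul_antipode :
    amat (A := A) e φ * (amat (A := A) e φ).map (HopfAlgebraStruct.antipode R (A := A)) = 1 := by
  ext i j
  rw [Matrix.mul_apply]
  have h := HopfAlgebra.mul_antipode_lTensor_comul_apply (R := R) (amat (A := A) e φ i j)
  rw [comul_amat e φ hφ, counit_amat e φ hφ] at h
  simp only [map_sum, LinearMap.lTensor_tmul, LinearMap.mul'_apply] at h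
  rw [Matrix.one_apply]
  simp only [Matrix.map_apply]
  rw [h]
  split_ifs <;> simp

end Coef

section Main

variable (R : Type u) [CommRing R] [IsNoetherianRing R]
    (A : Type u) [CommRing A] [HopfAlgebra R A] [Module.Flat R A] [Algebra.FiniteType R A]

theorem main
    (hRE : ∀ (F : Type u) [AddCommGroup F] [Module R F] [HopfRep.Comod R A F] [Module.Finite R F],
      ∃ (E : Type u) (_ : AddCommGroup E) (_ : Module R E) (_ : HopfRep.Comod R A E) (π : E →ₗ[R] F),
        Module.Finite R E ∧ Module.Projective R E ∧ Function.Surjective π ∧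
        HopfRep.Comod.coact (k := R) (A := A) ∘ₗ π = π.rTensor A ∘ₗ HopfRep.Comod.coact (k := R) (A := A) (V := E)) :
    ∃ (d : ℕ) (a : Matrix (Fin d) (Fin d) A),
      (∀ i j, CoalgebraStruct.comul (R := R) (a i j) = ∑ l, a i l ⊗ₜ[R] a l j) ∧
      (∀ i j, CoalgebraStruct.counit (R := R) (a i j) = if i = j then 1 else 0) ∧
      ∃ u : A, u * a.det = 1 ∧ Algebra.adjoin R (Set.range (fun p : Fin d × Fin d => a p.1 p.2) ∪ {u}) = ⊤ := by
  classical
  obtain ⟨s, hs⟩ := (Algebra.FiniteType.out : (⊤ : Subalgebra R A).FG)
  obtain ⟨W, hWfin, hW⟩ := TensorProduct.exists_finite_submodule_left_of_setFinite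
    ((CoalgebraStruct.comul (R := R) (A := A)) '' (s : Set A)) (s.finite_toSet.image _)
  have hsN : ∀ x ∈ s, x ∈ core (R := R) W := by
    intro x hx
    exact hW ⟨x, hx, rfl⟩
  have hNW : core (R := R) W ≤ W := core_le W
  haveI : IsNoetherian R W := isNoetherian_of_isNoetherianRing_of_finite R W
  haveI : Module.Finite R (core (R := R) W) :=
    Module.Finite.of_injective (Submodule.inclusion hNW) (Submodule.inclusion_injective hNW)
  obtain ⟨E, _, _, _, π, hfin, hproj, hπ, hπeq⟩ :=
    @hRE (core (R := R) W) _ _ (subComod (core (R := R) W) (core_isSub W)) inferInstance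
  have hco : ∀ n : core (R := R) W, ((core (R := R) W).subtype.rTensor A)
      (@HopfRep.Comod.coact R A _ _ _ _ (core (R := R) W) _ _
        (subComod (core (R := R) W) (core_isSub W)) n) =
      CoalgebraStruct.comul (R := R) (n : A) :=
    fun n => subCoact_spec (core (R := R) W) (core_isSub W) n
  obtain ⟨d, f, hf⟩ := Module.Finite.exists_fin' R E
  obtain ⟨sec, hsec⟩ := Module.projective_lifting_property f LinearMap.id hf
  have hφ : ∀ x : E, ∑ i, ((LinearMap.proj i : (Fin d → R) →ₗ[R] R) ∘ₗ sec) x •
      (f (fun j => if i = j then 1 else 0)) = x := by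
    intro x
    have h1 : f (sec x) = x := LinearMap.congr_fun hsec x
    exact (LinearMap.pi_apply_eq_sum_univ f (sec x)).symm.trans h1
  generalize hedef : (fun i : Fin d => f (fun j => if i = j then 1 else 0)) = e at hφ
  generalize hφdef : (fun i : Fin d => (LinearMap.proj i : (Fin d → R) →ₗ[R] R) ∘ₗ sec) = φ at hφ
  have hφ' : ∀ x : E, ∑ i, φ i x • e i = x := by
    intro x
    have := hφ x
    subst hedef hφdef
    exact this
  refine ⟨d, amat (A := A) e φ, comul_amat e φ hφ', counit_amat e φ hφ',
    ((amat (A := A) e φ).map (HopfAlgebraStruct.antipode R (A := A))).det, ?_, ?_⟩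
  · rw [mul_comm, ← Matrix.det_mul, amat_mul_antipode e φ hφ', Matrix.det_one]
  · generalize hB : Algebra.adjoin R (Set.range (fun p : Fin d × Fin d => amat (A := A) e φ p.1 p.2) ∪
      {((amat (A := A) e φ).map (HopfAlgebraStruct.antipode R (A := A))).det}) = B
    have ha_mem : ∀ i j, amat (A := A) e φ i j ∈ B := by
      intro i j
      rw [← hB]
      exact Algebra.subset_adjoin (Or.inl ⟨(i, j), rfl⟩)
    have hcoef_mem : ∀ i j, coef (A := A) e φ i j ∈ B := by
      intro i j
      have : coef (A := A) e φ i j = amat (A := A) e φ i j - algebraMap R A (Qm e φ i j) := by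
        simp [amat]
      rw [this]
      exact B.sub_mem (ha_mem i j) (B.algebraMap_mem _)
    have hf_eq : ∀ j, ((π (e j) : core (R := R) W) : A) =
        ∑ l, CoalgebraStruct.counit (R := R) ((π (e l) : core (R := R) W) : A) •
          coef (A := A) e φ l j := by
      intro j
      have h1 := LinearMap.congr_fun hπeq (e j)
      simp only [LinearMap.comp_apply] at h1
      have h2 := congrArg ((core (R := R) W).subtype.rTensor A) h1
      rw [hco, coact_e e φ hφ' j] at h2
      simp only [map_sum, LinearMap.rTensor_tmul, Submodule.subtype_apply] at h2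
      have h3 := congrArg ((CoalgebraStruct.counit (R := R) (A := A)).rTensor A) h2
      rw [Coalgebra.rTensor_counit_comul] at h3
      simp only [map_sum, LinearMap.rTensor_tmul] at h3
      have h4 := congrArg (TensorProduct.lid R A) h3
      simpa using h4
    have hf_mem : ∀ j, ((π (e j) : core (R := R) W) : A) ∈ B := by
      intro j
      rw [hf_eq j]
      exact B.sum_mem (fun l _ => B.smul_mem (hcoef_mem l j) _)
    rw [eq_top_iff, ← hs]
    apply Algebra.adjoin_le
    intro x hx
    obtain ⟨y, hy⟩ := hπ ⟨x, hsN x hx⟩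
    have hx' : x = ∑ i, φ i y • ((π (e i) : core (R := R) W) : A) := by
      have h5 := congrArg (fun z : core (R := R) W => (z : A)) hy
      simp only at h5
      rw [← h5]
      conv_lhs => rw [← hφ' y]
      simp [map_sum, map_smul]
    rw [SetLike.mem_coe, hx']
    exact B.sum_mem (fun i _ => B.smul_mem (hf_mem i) _)

end Main

end Groth.Agent.H4.HopfGL
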