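import Mathlib
import Groth.Prelude.Def_HopfRep
import Groth.Agent.H4.HopfGL
import Groth.Agent.H4.Compound

set_option autoImplicit false
open TensorProduct Matrix

universe u

namespace Groth.Agent.H4.ChevDVR
open Groth.Agent.H4.HopfGL Groth.Agent.H4.Compound

section Corep

variable (R : Type*) [CommRing R] {A : Type*} [CommRing A] [HopfAlgebra R A]

/-- a matrix corepresentation -/
def IsCorep {ι : Type*} [Fintype ι] [DecidableEq ι] (a : Matrix ι ι A) : Prop :=
  (∀ i j, CoalgebraStruct.comul (R := R) (a i j) = ∑ l, a i l ⊗ₜ[R] a l j) ∧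
  (∀ i j, CoalgebraStruct.counit (R := R) (a i j) = if i = j then 1 else 0)

variable {R}

lemma IsCorep.mul_antipode {ι : Type*} [Fintype ι] [DecidableEq ι] {a : Matrix ι ι A}
    (h : IsCorep R a) : a * a.map (HopfAlgebraStruct.antipode R (A := A)) = 1 := by
  ext i j
  rw [Matrix.mul_apply]
  have h1 := HopfAlgebra.mul_antipode_lTensor_comul_apply (R := R) (a i j)
  rw [h.1, h.2] at h1
  simp only [map_sum, LinearMap.lTensor_tmul, LinearMap.mul'_apply] at h1
  rw [Matrix.one_apply]
  simp only [Matrix.map_apply]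
  rw [h1]
  split_ifs <;> simp

lemma IsCorep.reindex {ι ι' : Type*} [Fintype ι] [DecidableEq ι] [Fintype ι'] [DecidableEq ι']
    {a : Matrix ι ι A} (h : IsCorep R a) (e : ι ≃ ι') :
    IsCorep R (a.submatrix e.symm e.symm) := by
  constructor
  · intro i j
    simp only [Matrix.submatrix_apply]
    rw [h.1, ← Equiv.sum_comp e.symm]
  · intro i j
    simp only [Matrix.submatrix_apply]
    rw [h.2]
    simp only [e.symm.apply_eq_iff_eq]

lemma IsCorep.fromBlocks {ι₁ ι₂ : Type*} [Fintype ι₁] [DecidableEq ι₁] [Fintype ι₂]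
    [DecidableEq ι₂] {a₁ : Matrix ι₁ ι₁ A} {a₂ : Matrix ι₂ ι₂ A}
    (h₁ : IsCorep R a₁) (h₂ : IsCorep R a₂) :
    IsCorep R (Matrix.fromBlocks a₁ 0 0 a₂) := by
  constructor
  · rintro (i | i) (j | j)
    · simp [Fintype.sum_sum_type, h₁.1]
    · simp [Fintype.sum_sum_type]
    · simp [Fintype.sum_sum_type]
    · simp [Fintype.sum_sum_type, h₂.1]
  · rintro (i | i) (j | j)
    · simp [h₁.2]
    · simp
    · simp
    · simp [h₂.2]

lemma IsCorep.cmp {n : ℕ} {a : Matrix (Fin n) (Fin n) A} (h : IsCorep R a) (r : ℕ) :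
    IsCorep R (cmp r a) := by
  constructor
  · intro S T
    have hΔ : a.map (Bialgebra.comulAlgHom R A).toRingHom =
        a.map (Algebra.TensorProduct.includeLeft : A →ₐ[R] A ⊗[R] A).toRingHom *
          a.map (Algebra.TensorProduct.includeRight : A →ₐ[R] A ⊗[R] A).toRingHom := by
      ext i j
      simp only [Matrix.map_apply, Matrix.mul_apply, AlgHom.toRingHom_eq_coe, RingHom.coe_coe,
        Bialgebra.comulAlgHom_apply, Algebra.TensorProduct.includeLeft_apply,
        Algebra.TensorProduct.includeRight_apply, Algebra.TensorProduct.tmul_mul_tmul, mul_one,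
        one_mul]
      exact h.1 i j
    have h1 := congrFun₂ (cmp_map r (Bialgebra.comulAlgHom R A).toRingHom a) S T
    rw [hΔ, cmp_mul, cmp_map, cmp_map, Matrix.mul_apply] at h1
    simp only [Matrix.map_apply, AlgHom.toRingHom_eq_coe, RingHom.coe_coe,
      Bialgebra.comulAlgHom_apply, Algebra.TensorProduct.includeLeft_apply,
      Algebra.TensorProduct.includeRight_apply, Algebra.TensorProduct.tmul_mul_tmul, mul_one,
      one_mul] at h1
    exact h1.symm
  · intro S T
    have hε : a.map (Bialgebra.counitAlgHom R A).toRingHom = 1 := by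
      ext i j
      simp only [Matrix.map_apply, AlgHom.toRingHom_eq_coe, RingHom.coe_coe,
        Bialgebra.counitAlgHom_apply, Matrix.one_apply]
      exact h.2 i j
    have h1 := congrFun₂ (cmp_map r (Bialgebra.counitAlgHom R A).toRingHom a) S T
    rw [hε, cmp_one] at h1
    simp only [Matrix.map_apply, AlgHom.toRingHom_eq_coe, RingHom.coe_coe,
      Bialgebra.counitAlgHom_apply, Matrix.one_apply] at h1
    exact h1.symm

end Corep

section Main

variable {V : Type u} [CommRing V] [IsDomain V] [IsPrincipalIdealRing V]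
  {A : Type u} [CommRing A] [HopfAlgebra V A] [Module.Flat V A]
  {B : Type u} [CommRing B] [HopfAlgebra V B] [Module.Flat V B]

lemma natAdd_notMem_range {r s : ℕ} (i : Fin s) :
    Fin.natAdd r i ∉ Set.range (Fin.castAddOrderEmb s : Fin r ↪o Fin (r + s)) := by
  rintro ⟨j, hj⟩
  have := congrArg Fin.val hj
  simp at this
  omega

lemma exists_natAdd_of_notMem {r s : ℕ} (x : Fin (r + s))
    (hx : x ∉ Set.range (Fin.castAddOrderEmb s : Fin r ↪o Fin (r + s))) :
    ∃ i : Fin s, x = Fin.natAdd r i := by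
  induction x using Fin.addCases with
  | left j => exact absurd ⟨j, rfl⟩ hx
  | right i => exact ⟨i, rfl⟩

theorem chev_aux (π : A →ₐc[V] B) (N : Submodule V A)
    (hN : ∀ n ∈ N, CoalgebraStruct.comul (R := V) n ∈ LinearMap.range (N.subtype.rTensor A))
    [Module.Finite V N] (s gI : Finset A)
    (hs : Algebra.adjoin V (s : Set A) = ⊤) (hgI : Ideal.span (gI : Set A) = RingHom.ker π)
    (hsN : ∀ x ∈ s, x ∈ N) (hgN : ∀ x ∈ gI, x ∈ N) :
    ∃ (d : ℕ) (hd : 0 < d) (a : Matrix (Fin d) (Fin d) A),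
      (∀ i j, CoalgebraStruct.comul (R := V) (a i j) = ∑ l, a i l ⊗ₜ[V] a l j) ∧
      (∀ i j, CoalgebraStruct.counit (R := V) (a i j) = if i = j then 1 else 0) ∧
      (∃ u : A, u * a.det = 1 ∧
        Algebra.adjoin V (Set.range (fun p : Fin d × Fin d => a p.1 p.2) ∪ {u}) = ⊤) ∧
      RingHom.ker π =
        Ideal.span (Set.range (fun i : {i : Fin d // i ≠ ⟨0, hd⟩} => a i.1 ⟨0, hd⟩)) := by
  classical
  set pl : A →ₗ[V] B := (π : A →ₗ[V] B) with hpl
  have hpl_apply : ∀ x, pl x = π x := fun x => rfl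
  have hπΔ : ∀ x : A, TensorProduct.map pl pl (CoalgebraStruct.comul (R := V) x) =
      CoalgebraStruct.comul (R := V) (π x) :=
    fun x => CoalgHomClass.map_comp_comul_apply π x
  have hπε : ∀ x : A, CoalgebraStruct.counit (R := V) (π x) = CoalgebraStruct.counit (R := V) x :=
    fun x => CoalgHomClass.counit_comp_apply π x
  letI cN : HopfRep.Comod V A N := subComod N hN
  have hco : ∀ n : N, (N.subtype.rTensor A) (HopfRep.Comod.coact (k := V) (A := A) n) =
      CoalgebraStruct.comul (R := V) (n : A) := fun n => subCoact_spec N hN n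
  obtain ⟨r, s', w, hw1, hw2, hw3⟩ := exists_adapted_basis (pl ∘ₗ N.subtype)
  have hw1' : ∀ j : Fin r, π ((w (Fin.castAdd s' j) : N) : A) = 0 := fun j => hw1 j
  have hφ : ∀ x : N, ∑ i, (w.coord i) x • w i = x := fun x => w.sum_repr x
  set a : Matrix (Fin (r + s')) (Fin (r + s')) A :=
    Matrix.of fun i j => coef (A := A) (fun i => w i) (fun i => w.coord i) i j with ha
  have ha_co : IsCorep V a := by
    refine ⟨fun i j => comul_coef (fun i => w i) (fun i => w.coord i) hφ i j, fun i j => ?_⟩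
    rw [ha, Matrix.of_apply, counit_coef (fun i => w i) (fun i => w.coord i) hφ]
    simp [Module.Basis.coord_apply, Finsupp.single_apply, eq_comm]
  have hΔw : ∀ j, CoalgebraStruct.comul (R := V) ((w j : N) : A) =
      ∑ l, ((w l : N) : A) ⊗ₜ[V] a l j := by
    intro j
    have h := coact_e (A := A) (fun i => w i) (fun i => w.coord i) hφ j
    have h2 := congrArg (N.subtype.rTensor A) h
    rw [hco] at h2
    simp only [map_sum, LinearMap.rTensor_tmul, Submodule.subtype_apply] at h2
    exact h2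
  have hw_eq : ∀ j, ((w j : N) : A) =
      ∑ l, CoalgebraStruct.counit (R := V) ((w l : N) : A) • a l j := by
    intro j
    have h3 := congrArg ((CoalgebraStruct.counit (R := V) (A := A)).rTensor A) (hΔw j)
    rw [Coalgebra.rTensor_counit_comul] at h3
    simp only [map_sum, LinearMap.rTensor_tmul] at h3
    have h4 := congrArg (TensorProduct.lid V A) h3
    simpa using h4
  -- (D)
  have hD : ∀ (i : Fin s') (j : Fin r), π (a (Fin.natAdd r i) (Fin.castAdd s' j)) = 0 := by
    intro i j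
    have h1 := congrArg (TensorProduct.map pl pl) (hΔw (Fin.castAdd s' j))
    rw [hπΔ, hw1', map_zero, map_sum, Fin.sum_univ_add] at h1
    simp only [TensorProduct.map_tmul, hpl_apply, hw1', TensorProduct.zero_tmul,
      Finset.sum_const_zero, zero_add] at h1
    exact eq_zero_of_sum_tmul (fun i' => π ((w (Fin.natAdd r i') : N) : A)) hw2
      (fun i' => π (a (Fin.natAdd r i') (Fin.castAdd s' j))) h1.symm i
  -- (E)
  set J : Ideal A := Ideal.span (Set.range fun p : Fin s' × Fin r =>
    a (Fin.natAdd r p.1) (Fin.castAdd s' p.2)) with hJ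
  have hwJ : ∀ j : Fin r, ((w (Fin.castAdd s' j) : N) : A) ∈ J := by
    intro j
    rw [hw_eq, Fin.sum_univ_add]
    refine J.add_mem (J.sum_mem fun l _ => ?_) (J.sum_mem fun l _ => ?_)
    · rw [← hπε, hw1', map_zero, zero_smul]
      exact J.zero_mem
    · rw [Algebra.smul_def]
      exact J.mul_mem_left _ (Ideal.subset_span ⟨(l, j), rfl⟩)
  have hIJ : RingHom.ker π ≤ J := by
    rw [← hgI, Ideal.span_le]
    intro g hg
    have hgN' : g ∈ N := hgN g hg
    have hπg : π g = 0 := by
      have : g ∈ RingHom.ker π := by rw [← hgI]; exact Ideal.subset_span hg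
      exact RingHom.mem_ker.1 this
    have h1 := hw3 ⟨g, hgN'⟩ hπg
    have h2 : Submodule.span V (Set.range fun j : Fin r => w (Fin.castAdd s' j)) ≤
        (J.restrictScalars V).comap N.subtype := by
      rw [Submodule.span_le]
      rintro _ ⟨j, rfl⟩
      exact hwJ j
    exact h2 h1
  have hJI : J ≤ RingHom.ker π := by
    rw [hJ, Ideal.span_le]
    rintro _ ⟨⟨i, j⟩, rfl⟩
    exact RingHom.mem_ker.2 (hD i j)
  -- (F)
  set ι₀ : Fin r ↪o Fin (r + s') := Fin.castAddOrderEmb s' with hι₀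
  have hι₀_apply : ∀ j, ι₀ j = Fin.castAdd s' j := fun j => rfl
  set S₀ : Idx (r + s') r := Set.powersetCard.ofFinEmbEquiv ι₀ with hS₀
  set J' : Ideal A := Ideal.span (Set.range fun S : {S : Idx (r + s') r // S ≠ S₀} =>
    cmp r a S.1 S₀) with hJ'
  have hJ'I : J' ≤ RingHom.ker π := by
    rw [hJ', Ideal.span_le]
    rintro _ ⟨⟨S, hS⟩, rfl⟩
    rw [SetLike.mem_coe, RingHom.mem_ker]
    have h1 : π (cmp r a S S₀) = cmp r (a.map (π : A →+* B)) S S₀ := by
      rw [cmp_map]
      rfl
    rw [h1, cmp_apply, hS₀, srt_ofFinEmbEquiv]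
    obtain ⟨l, hl⟩ : ∃ l, srt S l ∉ Set.range ι₀ := by
      by_contra hcon
      push Not at hcon
      apply hS
      rw [Set.powersetCard.eq_iff_subset]
      intro x hx
      obtain ⟨l, rfl⟩ := (Set.powersetCard.mem_range_ofFinEmbEquiv_symm_iff_mem S x).mpr hx
      exact (Set.powersetCard.mem_ofFinEmbEquiv_iff_mem_range ι₀ _).mpr (hcon l)
    apply Matrix.det_eq_zero_of_row_eq_zero l
    intro j
    obtain ⟨i, hi⟩ := exists_natAdd_of_notMem _ hl
    simp only [Matrix.submatrix_apply, Matrix.map_apply, hi, hι₀_apply]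
    exact hD i j
  have hJJ' : J ≤ J' := by
    rw [hJ, Ideal.span_le]
    rintro _ ⟨⟨i, j⟩, rfl⟩
    rw [SetLike.mem_coe, ← Ideal.Quotient.eq_zero_iff_mem]
    have hM : (a.map (HopfAlgebraStruct.antipode V (A := A))).map (Ideal.Quotient.mk J') *
        a.map (Ideal.Quotient.mk J') = 1 := by
      have h1 : a.map (HopfAlgebraStruct.antipode V (A := A)) * a = 1 :=
        mul_eq_one_comm.1 ha_co.mul_antipode
      have h2 := congrArg (fun M : Matrix (Fin (r + s')) (Fin (r + s')) A =>
        M.map (Ideal.Quotient.mk J')) h1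
      simp only [Matrix.map_mul, Matrix.map_one, map_zero, map_one] at h2
      exact h2
    have h0 : ∀ S : Idx (r + s') r, S ≠ Set.powersetCard.ofFinEmbEquiv ι₀ →
        cmp r (a.map (Ideal.Quotient.mk J')) S (Set.powersetCard.ofFinEmbEquiv ι₀) = 0 := by
      intro S hS
      rw [cmp_map, Matrix.map_apply, Ideal.Quotient.eq_zero_iff_mem]
      exact Ideal.subset_span ⟨⟨S, hS⟩, rfl⟩
    have := entries_zero_of_cmp _ _ hM ι₀ h0 (Fin.natAdd r i) (natAdd_notMem_range i) j
    simpa [hι₀_apply] using this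
  -- (H)
  have hbig : IsCorep V (Matrix.fromBlocks (cmp r a) 0 0 a) := (ha_co.cmp r).fromBlocks ha_co
  have hd : 0 < Fintype.card (Idx (r + s') r ⊕ Fin (r + s')) :=
    Fintype.card_pos_iff.2 ⟨Sum.inl S₀⟩
  set e₀ := Fintype.equivFin (Idx (r + s') r ⊕ Fin (r + s')) with he₀
  set e : (Idx (r + s') r ⊕ Fin (r + s')) ≃ Fin (Fintype.card (Idx (r + s') r ⊕ Fin (r + s'))) :=
    e₀.trans (Equiv.swap (e₀ (Sum.inl S₀)) ⟨0, hd⟩) with he
  have he0 : e (Sum.inl S₀) = ⟨0, hd⟩ := by simp [he]
  have he0' : e.symm ⟨0, hd⟩ = Sum.inl S₀ := by rw [← he0, Equiv.symm_apply_apply]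
  have hcorep' := hbig.reindex e
  refine ⟨_, hd, (Matrix.fromBlocks (cmp r a) 0 0 a).submatrix e.symm e.symm, hcorep'.1,
    hcorep'.2, ⟨(((Matrix.fromBlocks (cmp r a) 0 0 a).submatrix e.symm e.symm).map
      (HopfAlgebraStruct.antipode V (A := A))).det, ?_, ?_⟩, ?_⟩
  · rw [mul_comm, ← Matrix.det_mul, hcorep'.mul_antipode, Matrix.det_one]
  · generalize hBs : Algebra.adjoin V (Set.range (fun p : Fin _ × Fin _ =>
      ((Matrix.fromBlocks (cmp r a) 0 0 a).submatrix e.symm e.symm) p.1 p.2) ∪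
      {(((Matrix.fromBlocks (cmp r a) 0 0 a).submatrix e.symm e.symm).map
        (HopfAlgebraStruct.antipode V (A := A))).det}) = Bs
    have ha_mem : ∀ i j, a i j ∈ Bs := by
      intro i j
      rw [← hBs]
      refine Algebra.subset_adjoin (Or.inl ⟨(e (Sum.inr i), e (Sum.inr j)), ?_⟩)
      simp
    have hw_mem : ∀ j, ((w j : N) : A) ∈ Bs := by
      intro j
      rw [hw_eq]
      exact Bs.sum_mem fun l _ => Bs.smul_mem (ha_mem l j) _
    rw [eq_top_iff, ← hs]
    apply Algebra.adjoin_le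
    intro x hx
    have hxN : x ∈ N := hsN x hx
    have h1 := congrArg (fun z : N => (z : A)) (w.sum_repr ⟨x, hxN⟩)
    simp only [Submodule.coe_sum, Submodule.coe_smul] at h1
    rw [SetLike.mem_coe, ← h1]
    exact Bs.sum_mem fun l _ => Bs.smul_mem (hw_mem l) _
  · apply le_antisymm
    · refine hIJ.trans (hJJ'.trans ?_)
      rw [hJ', Ideal.span_le]
      rintro _ ⟨⟨S, hS⟩, rfl⟩
      apply Ideal.subset_span
      refine ⟨⟨e (Sum.inl S), ?_⟩, ?_⟩
      · intro h
        apply hS
        have h2 := e.injective (h.trans he0.symm)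
        exact Sum.inl.inj h2
      · simp [he0']
    · rw [Ideal.span_le]
      rintro _ ⟨⟨i, hi⟩, rfl⟩
      simp only [Matrix.submatrix_apply, he0']
      rcases hei : e.symm i with S | j
      · have hS : S ≠ S₀ := by
          rintro rfl
          apply hi
          rw [← he0, ← hei, Equiv.apply_symm_apply]
        simp only [Matrix.fromBlocks_apply₁₁]
        exact hJ'I (Ideal.subset_span ⟨⟨S, hS⟩, rfl⟩)
      · simp only [Matrix.fromBlocks_apply₂₁, Matrix.zero_apply]
        exact (RingHom.ker π).zero_mem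

theorem chev [Algebra.FiniteType V A] (π : A →ₐc[V] B) :
    ∃ (d : ℕ) (hd : 0 < d) (a : Matrix (Fin d) (Fin d) A),
      (∀ i j, CoalgebraStruct.comul (R := V) (a i j) = ∑ l, a i l ⊗ₜ[V] a l j) ∧
      (∀ i j, CoalgebraStruct.counit (R := V) (a i j) = if i = j then 1 else 0) ∧
      (∃ u : A, u * a.det = 1 ∧
        Algebra.adjoin V (Set.range (fun p : Fin d × Fin d => a p.1 p.2) ∪ {u}) = ⊤) ∧
      RingHom.ker π =
        Ideal.span (Set.range (fun i : {i : Fin d // i ≠ ⟨0, hd⟩} => a i.1 ⟨0, hd⟩)) := by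
  classical
  haveI : IsNoetherianRing A := Algebra.FiniteType.isNoetherianRing V A
  obtain ⟨gI, hgI⟩ : (RingHom.ker π).FG := IsNoetherian.noetherian _
  obtain ⟨s, hs⟩ := (Algebra.FiniteType.out : (⊤ : Subalgebra V A).FG)
  obtain ⟨W₀, hW₀fin, hW₀⟩ := TensorProduct.exists_finite_submodule_left_of_setFinite
    ((CoalgebraStruct.comul (R := V) (A := A)) '' ((s ∪ gI : Finset A) : Set A))
    ((s ∪ gI).finite_toSet.image _)
  have hTN : ∀ x ∈ s ∪ gI, x ∈ core (R := V) W₀ :=
    fun x hx => hW₀ ⟨x, Finset.mem_coe.2 hx, rfl⟩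
  have hNW : core (R := V) W₀ ≤ W₀ := core_le W₀
  haveI : IsNoetherian V W₀ := isNoetherian_of_isNoetherianRing_of_finite V W₀
  haveI : Module.Finite V (core (R := V) W₀) :=
    Module.Finite.of_injective (Submodule.inclusion hNW) (Submodule.inclusion_injective hNW)
  exact chev_aux π (core (R := V) W₀) (core_isSub W₀) s gI hs hgI
    (fun x hx => hTN x (Finset.mem_union_left _ hx))
    (fun x hx => hTN x (Finset.mem_union_right _ hx))

end Main

end Groth.Agent.H4.ChevDVR
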