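import Mathlib

set_option autoImplicit false
set_option linter.style.haveILetI false
set_option linter.unusedSectionVars false
set_option linter.unusedVariables false

namespace Groth.Agent.H4.ChowF

open CategoryTheory CategoryTheory.Limits AlgebraicGeometry TopologicalSpace

universe u

noncomputable section

/-! ## separating a maximal point from a quasi-compact open -/

section Alg

lemma exists_mul_pow_eq_zero {R : Type*} [CommRing R] (p : Ideal R) [p.IsPrime]
    (hp : p ∈ minimalPrimes R) {a : R} (ha : a ∈ p) : ∃ c ∉ p, ∃ n : ℕ, c * a ^ n = 0 := by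
  have h := IsLocalization.AtPrime.radical_map_of_mem_minimalPrimes
    (A := Localization.AtPrime p) p ⊥ hp
  have h1 : algebraMap R (Localization.AtPrime p) a ∈ p.map (algebraMap R _) :=
    Ideal.mem_map_of_mem _ ha
  rw [← h, Ideal.map_bot] at h1
  obtain ⟨n, hn⟩ := h1
  rw [Ideal.mem_bot, ← map_pow] at hn
  obtain ⟨c, hc⟩ := (IsLocalization.map_eq_zero_iff p.primeCompl _ _).mp hn
  exact ⟨c.1, c.2, n, hc⟩

lemma exists_open_disjoint_of_minimal {R : Type*} [CommRing R] (x : PrimeSpectrum R)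
    (hx : x.asIdeal ∈ minimalPrimes R) (E : Set (PrimeSpectrum R)) (hEo : IsOpen E)
    (hEc : IsCompact E) (hxE : x ∉ E) :
    ∃ N : Set (PrimeSpectrum R), IsOpen N ∧ x ∈ N ∧ Disjoint N E := by
  classical
  have h1 : ∀ e : E, ∃ a ∈ x.asIdeal, a ∉ e.1.asIdeal := by
    intro e
    have : ¬ x.asIdeal ≤ e.1.asIdeal := by
      intro hle
      have : x ⤳ e.1 := (PrimeSpectrum.le_iff_specializes x e.1).mp hle
      exact hxE (this.mem_open hEo e.2)
    exact SetLike.not_le_iff_exists.mp this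
  choose a ha ha' using h1
  have h2 : ∀ e : E, ∃ c ∉ x.asIdeal, ∃ n : ℕ, c * (a e) ^ n = 0 :=
    fun e => exists_mul_pow_eq_zero x.asIdeal hx (ha e)
  choose c hc n hcn using h2
  obtain ⟨t, ht⟩ := hEc.elim_finite_subcover
    (fun e : E => (PrimeSpectrum.basicOpen (a e) : Set (PrimeSpectrum R)))
    (fun e => (PrimeSpectrum.basicOpen (a e)).isOpen)
    (fun y hy => Set.mem_iUnion.mpr ⟨⟨y, hy⟩, ha' ⟨y, hy⟩⟩)
  refine ⟨⋂ e ∈ t, (PrimeSpectrum.basicOpen (c e) : Set (PrimeSpectrum R)),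
    isOpen_biInter_finset (fun e _ => (PrimeSpectrum.basicOpen (c e)).isOpen), ?_, ?_⟩
  · exact Set.mem_iInter₂.mpr (fun e _ => hc e)
  · rw [Set.disjoint_left]
    intro y hyN hyE
    obtain ⟨e, hye⟩ := Set.mem_iUnion.mp (ht hyE)
    obtain ⟨het, hya⟩ := Set.mem_iUnion.mp hye
    have hyc : c e ∉ y.asIdeal := Set.mem_iInter₂.mp hyN e het
    have hya' : a e ∉ y.asIdeal := hya
    have : c e * (a e) ^ (n e) ∈ y.asIdeal := by rw [hcn e]; exact y.asIdeal.zero_mem
    rcases y.isPrime.mem_or_mem this with h | h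
    · exact hyc h
    · exact hya' (y.isPrime.mem_of_pow_mem _ h)

end Alg

section Sch

/-- In a quasi-separated scheme, a point without proper generizations can be separated from a
quasi-compact open not containing it. -/
lemma exists_open_disjoint {X : Scheme.{u}} [QuasiSeparatedSpace X] (ξ : X)
    (hξ : ∀ y : X, y ⤳ ξ → y = ξ) (G : X.Opens) (hG : IsCompact (G : Set X)) (hξG : ξ ∉ G) :
    ∃ N : X.Opens, ξ ∈ N ∧ Disjoint (N : Set X) (G : Set X) := by
  obtain ⟨_, ⟨A, hA0, rfl⟩, hξA, _⟩ :=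
    X.isBasis_affineOpens.exists_subset_of_mem_open (Set.mem_univ ξ) isOpen_univ
  have hA : IsAffineOpen A := hA0
  let x' : PrimeSpectrum Γ(X, A) := hA.primeIdealOf ⟨ξ, hξA⟩
  have hx' : hA.fromSpec x' = ξ := hA.fromSpec_primeIdealOf ⟨ξ, hξA⟩
  have hemb := hA.fromSpec.isOpenEmbedding
  have hmin : x'.asIdeal ∈ minimalPrimes Γ(X, A) := by
    refine ⟨⟨x'.isPrime, bot_le⟩, ?_⟩
    rintro q ⟨hq, _⟩ hle
    let y' : PrimeSpectrum Γ(X, A) := ⟨q, hq⟩
    have h1 : y' ⤳ x' := (PrimeSpectrum.le_iff_specializes y' x').mp hle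
    have h2 : hA.fromSpec y' ⤳ hA.fromSpec x' := h1.map hA.fromSpec.continuous
    rw [hx'] at h2
    have h3 : hA.fromSpec y' = hA.fromSpec x' := by rw [hx']; exact hξ _ h2
    have h4 : y' = x' := hemb.injective h3
    exact (congrArg PrimeSpectrum.asIdeal h4).ge
  let E : Set (PrimeSpectrum Γ(X, A)) := hA.fromSpec ⁻¹' (G : Set X)
  have hEo : IsOpen E := G.isOpen.preimage hA.fromSpec.continuous
  have hEc : IsCompact E := by
    have h1 : IsCompact ((G : Set X) ∩ (A : Set X)) :=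
      QuasiSeparatedSpace.inter_isCompact _ _ G.isOpen hG A.isOpen hA.isCompact
    have h2 : E = hA.fromSpec ⁻¹' ((G : Set X) ∩ (A : Set X)) := by
      rw [← hA.range_fromSpec, Set.preimage_inter_range]
      rfl
    rw [h2]
    refine (hemb.isInducing.isCompact_preimage_iff ?_).mpr h1
    rw [hA.range_fromSpec]
    exact Set.inter_subset_right
  have hxE : x' ∉ E := by
    intro h
    have : hA.fromSpec x' ∈ (G : Set X) := h
    rw [hx'] at this
    exact hξG this
  obtain ⟨N, hNo, hxN, hNE⟩ := exists_open_disjoint_of_minimal x' hmin E hEo hEc hxE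
  refine ⟨⟨hA.fromSpec '' N, hemb.isOpenMap N hNo⟩, ⟨x', hxN, hx'⟩, ?_⟩
  rw [Set.disjoint_left]
  rintro _ ⟨y', hy'N, rfl⟩ hyG
  exact Set.disjoint_left.mp hNE hy'N hyG

theorem exists_data_max {X : Scheme.{u}} [CompactSpace X] [QuasiSeparatedSpace X] [Nonempty X]
    {κ : Type*} [Finite κ] (Uk : κ → X.Opens)
    (hcover : (⋃ k, (Uk k : Set X)) = Set.univ) :
    ∃ (ξ : X) (Ω : X.Opens), IsAffineOpen Ω ∧ ξ ∈ Ω ∧ (∀ k, ξ ∈ Uk k → Ω ≤ Uk k) ∧
      closure (Ω : Set X) ⊆ ⋃ (k : {k // ξ ∈ Uk k}), (Uk k.1 : Set X) := by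
  classical
  obtain ⟨x0⟩ := ‹Nonempty X›
  have hZ : irreducibleComponent x0 ∈ irreducibleComponents X :=
    irreducibleComponent_mem_irreducibleComponents x0
  have hZirr : IsIrreducible (irreducibleComponent x0) := hZ.1
  have hZcl : IsClosed (irreducibleComponent x0) := isClosed_of_mem_irreducibleComponents _ hZ
  obtain ⟨ξ, hξZ⟩ : ∃ ξ : X, closure ({ξ} : Set X) = irreducibleComponent x0 :=
    ⟨hZirr.genericPoint, hZirr.closure_genericPoint hZcl⟩
  have hξmax : ∀ y : X, y ⤳ ξ → y = ξ := by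
    intro y hy
    have h1 : ξ ∈ closure ({y} : Set X) := specializes_iff_mem_closure.mp hy
    have h2 : irreducibleComponent x0 ⊆ closure ({y} : Set X) := by
      rw [← hξZ]
      exact closure_minimal (Set.singleton_subset_iff.mpr h1) isClosed_closure
    have h3 : closure ({y} : Set X) ⊆ irreducibleComponent x0 :=
      hZ.2 (isIrreducible_singleton.closure) h2
    have h4 : ξ ⤳ y := by
      rw [specializes_iff_mem_closure, hξZ]
      exact h3 (subset_closure rfl)
    exact (hy.antisymm h4).eq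
  have hξmem : ξ ∈ irreducibleComponent x0 := by
    rw [← hξZ]; exact subset_closure rfl
  -- the open `W` and its closed complement
  let W : Set X := ⋃ (k : {k // ξ ∈ Uk k}), (Uk k.1 : Set X)
  have hWo : IsOpen W := isOpen_iUnion (fun k => (Uk k.1).isOpen)
  have hZW : irreducibleComponent x0 ⊆ W := by
    intro z hz
    have : z ∈ ⋃ k, (Uk k : Set X) := by rw [hcover]; trivial
    obtain ⟨k, hk⟩ := Set.mem_iUnion.mp this
    have hzξ : ξ ⤳ z := by
      rw [specializes_iff_mem_closure, hξZ]; exact hz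
    exact Set.mem_iUnion.mpr ⟨⟨k, hzξ.mem_open (Uk k).isOpen hk⟩, hk⟩
  have hCc : IsCompact Wᶜ := hWo.isClosed_compl.isCompact
  -- separate each point of the complement
  have h1 : ∀ x : (Wᶜ : Set X), ∃ G : X.Opens, IsAffineOpen G ∧ x.1 ∈ G ∧ ξ ∉ G := by
    intro x
    have hx : x.1 ∈ (irreducibleComponent x0)ᶜ := fun h => x.2 (hZW h)
    obtain ⟨_, ⟨G, hG, rfl⟩, hxG, hGZ⟩ :=
      X.isBasis_affineOpens.exists_subset_of_mem_open hx hZcl.isOpen_compl
    exact ⟨G, hG, hxG, fun h => hGZ h hξmem⟩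
  choose G hG hxG hξG using h1
  have h2 : ∀ x : (Wᶜ : Set X), ∃ N : X.Opens, ξ ∈ N ∧ Disjoint (N : Set X) (G x : Set X) :=
    fun x => exists_open_disjoint ξ hξmax (G x) (hG x).isCompact (hξG x)
  choose N hξN hNG using h2
  obtain ⟨t, ht⟩ := hCc.elim_finite_subcover (fun x : (Wᶜ : Set X) => (G x : Set X))
    (fun x => (G x).isOpen) (fun y hy => Set.mem_iUnion.mpr ⟨⟨y, hy⟩, hxG ⟨y, hy⟩⟩)
  haveI := Fintype.ofFinite κ
  let T : Set X := (⋂ x ∈ t, (N x : Set X)) ∩ ⋂ k ∈ (Finset.univ.filter (fun k => ξ ∈ Uk k)),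
    (Uk k : Set X)
  have hTo : IsOpen T := (isOpen_biInter_finset (fun x _ => (N x).isOpen)).inter
    (isOpen_biInter_finset (fun k _ => (Uk k).isOpen))
  have hξT : ξ ∈ T := by
    refine ⟨Set.mem_iInter₂.mpr (fun x _ => hξN x), Set.mem_iInter₂.mpr (fun k hk => ?_)⟩
    exact (Finset.mem_filter.mp hk).2
  obtain ⟨_, ⟨Ω, hΩ, rfl⟩, hξΩ, hΩT⟩ :=
    X.isBasis_affineOpens.exists_subset_of_mem_open hξT hTo
  refine ⟨ξ, Ω, hΩ, hξΩ, ?_, ?_⟩
  · intro k hk y hy
    have := (hΩT hy).2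
    rw [Set.mem_iInter₂] at this
    exact this k (Finset.mem_filter.mpr ⟨Finset.mem_univ _, hk⟩)
  · have hdisj : Disjoint (Ω : Set X) (⋃ x ∈ t, (G x : Set X)) := by
      rw [Set.disjoint_left]
      intro y hyΩ hyG
      obtain ⟨x, hx⟩ := Set.mem_iUnion.mp hyG
      obtain ⟨hxt, hyGx⟩ := Set.mem_iUnion.mp hx
      have hyN : y ∈ (N x : Set X) := by
        have := (hΩT hyΩ).1
        rw [Set.mem_iInter₂] at this
        exact this x hxt
      exact Set.disjoint_left.mp (hNG x) hyN hyGx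
    have hopen : IsOpen (⋃ x ∈ t, (G x : Set X)) :=
      isOpen_biUnion (fun x _ => (G x).isOpen)
    have hdisj' := hdisj.closure_left hopen
    intro y hy
    by_contra hyW
    exact Set.disjoint_left.mp hdisj' hy (ht hyW)

end Sch

end

end Groth.Agent.H4.ChowF
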