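import Mathlib
import Groth.Agent.H4.ChowC
import Groth.Agent.H4.ChowD
import Groth.Agent.H4.ChowF

set_option autoImplicit false
set_option linter.style.haveILetI false
set_option linter.unusedSectionVars false
set_option linter.unusedVariables false

namespace Groth.Agent.H4.ChowG

open CategoryTheory CategoryTheory.Limits AlgebraicGeometry TopologicalSpace
open Groth.Agent.H4.ChowC Groth.Agent.H4.ChowD Groth.Agent.H4.ChowF

universe u

noncomputable section

theorem chow_max {X S : Scheme.{u}} (f : X ⟶ S) [CompactSpace S] [QuasiSeparatedSpace S]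
    [IsSeparated f] [LocallyOfFiniteType f] [QuasiCompact f] [Nonempty X] :
    ∃ (n : ℕ) (X' : Scheme.{u}) (π : X' ⟶ X) (j : X' ⟶ CohB1.ProjSpaceOver n S) (Ω : X.Opens),
      IsImmersion j ∧ QuasiCompact j ∧ j ≫ CohB1.ProjSpaceOver.toBase n S = π ≫ f ∧
      RelProj.IsHProjective π ∧ IsProper π ∧ (Ω : Set X).Nonempty ∧ IsAffineOpen Ω ∧
      Set.range π = closure (Ω : Set X) ∧
      Dense ((π ⁻¹ᵁ Ω : X'.Opens) : Set X') ∧ IsIso (π ∣_ Ω) ∧
      (IsReduced X → IsReduced X') ∧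
      RelProj.IsQuasiProjective (π ≫ f) ∧ RelProj.IsProjective π := by
  haveI : CompactSpace X := QuasiCompact.compactSpace_of_compactSpace f
  haveI : QuasiSeparatedSpace X := quasiSeparatedSpace_of_quasiSeparated f
  obtain ⟨κ, hκ, Uk, Vk, hUk, hVk, hUV, hcover⟩ := exists_affine_cover f
  haveI := hκ
  obtain ⟨ξ, Ω, hΩ, hξΩ, hΩU, hcl⟩ := exists_data_max Uk hcover
  haveI : CompactSpace (Ω : Scheme.{u}) := isCompact_iff_compactSpace.mp hΩ.isCompact
  haveI : QuasiCompact Ω.ι := inferInstance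
  obtain ⟨n, X', π, j, hj, hqc, hjb, hπ, hprop, hrange, hdense, hiso, hred, hirr, hqp, hp⟩ :=
    chow_main f (fun k : {k // ξ ∈ Uk k} => Uk k.1) (fun k => hUk _) (fun k => Vk k.1)
      (fun k => hVk _) (fun k => hUV _) Ω (fun _ => ⊥)
      (fun k => le_sup_of_le_left (hΩU k.1 k.2)) (fun k => inf_bot_eq _) hcl
  exact ⟨n, X', π, j, Ω, hj, hqc, hjb, hπ, hprop, ⟨ξ, hξΩ⟩, hΩ, hrange, hdense, hiso, hred, hqp,
    hp⟩

end

end Groth.Agent.H4.ChowG
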