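import Mathlib

set_option autoImplicit false
set_option linter.style.haveILetI false
set_option linter.unusedSectionVars false
set_option linter.unusedVariables false

namespace Groth.Agent.H4.FTImm1

open CategoryTheory CategoryTheory.Limits AlgebraicGeometry TopologicalSpace Opposite

universe u

/-- local structure of an immersion: it is a closed immersion into an open subscheme. -/
theorem exists_opens_of_isImmersion {X Z : Scheme.{u}} (f : X ⟶ Z) [IsImmersion f] :
    ∃ V : Z.Opens, (∀ x : X, f.base x ∈ V) ∧ ∀ T : Z.Opens, IsAffineOpen T → T ≤ V →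
      IsAffineOpen (f ⁻¹ᵁ T) ∧ Function.Surjective (f.app T).hom := by
  obtain ⟨Z', g₁, g₂, h₁, h₂, rfl⟩ := (IsImmersion.isImmersion_iff_exists (f := f)).mp inferInstance
  refine ⟨g₂.opensRange, fun x => ⟨g₁.base x, rfl⟩, fun T hT hTV => ?_⟩
  have hT' : IsAffineOpen (g₂ ⁻¹ᵁ T) := hT.preimage_of_isOpenImmersion g₂ hTV
  refine ⟨hT'.preimage g₁, ?_⟩
  rw [Scheme.Hom.comp_app]
  haveI := g₂.isIso_app T hTV
  have hb := ConcreteCategory.bijective_of_isIso (g₂.app T)
  have hs := g₁.app_surjective (g₂ ⁻¹ᵁ T) hT'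
  intro b
  obtain ⟨c, hc⟩ := hs b
  obtain ⟨d, hd⟩ := hb.2 c
  refine ⟨d, ?_⟩
  change (g₁.app (g₂ ⁻¹ᵁ T)).hom ((g₂.app T).hom d) = b
  exact (congrArg _ hd).trans hc

theorem isImmersion_resLE_of_surjective {X Z : Scheme.{u}} (f : X ⟶ Z) {D : Z.Opens}
    (hD : IsAffineOpen D) {W : X.Opens} (hW : IsAffineOpen W) (e : W ≤ f ⁻¹ᵁ D)
    (hs : Function.Surjective (f.appLE D W e).hom) : IsImmersion (f.resLE D W e) := by
  haveI : IsAffine D.toScheme := hD
  haveI : IsAffine W.toScheme := hW
  haveI : IsClosedImmersion (f.resLE D W e) := by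
    apply IsClosedImmersion.of_surjective_of_isAffine
    change Function.Surjective ((f.resLE D W e).app ⊤).hom
    rw [Scheme.Hom.resLE_app_top]
    intro b
    obtain ⟨b', hb'⟩ := (ConcreteCategory.bijective_of_isIso W.topIso.inv).2 b
    obtain ⟨c, hc⟩ := hs b'
    obtain ⟨d, hd⟩ := (ConcreteCategory.bijective_of_isIso D.topIso.hom).2 c
    refine ⟨d, ?_⟩
    change W.topIso.inv.hom ((f.appLE D W e).hom (D.topIso.hom.hom d)) = b
    exact (congrArg _ ((congrArg _ hd).trans hc)).trans hb'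
  infer_instance

theorem isImmersion_morphismRestrict_of_resLE {X Z : Scheme.{u}} (f : X ⟶ Z) (T : Z.Opens)
    (W : X.Opens) (hW : W = f ⁻¹ᵁ T) (e : W ≤ f ⁻¹ᵁ T) (h : IsImmersion (f.resLE T W e)) :
    IsImmersion (f ∣_ T) := by
  subst hW
  rwa [Scheme.Hom.resLE_eq_morphismRestrict] at h

/-- a subring containing the image of the base ring and generators of a finite type algebra is
everything. -/
theorem subring_eq_top_of_finiteType {A B : Type*} [CommRing A] [CommRing B] (g : A →+* B)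
    (R : Subring B) (hA : ∀ a, g a ∈ R) (s : Set B)
    (hs : @Algebra.adjoin A B _ _ g.toAlgebra s = ⊤) (hR : ∀ w ∈ s, w ∈ R) : R = ⊤ := by
  letI := g.toAlgebra
  let R' : Subalgebra A B := { R.toSubsemiring with algebraMap_mem' := fun a => hA a }
  have h1 : Algebra.adjoin A s ≤ R' := Algebra.adjoin_le (fun w hw => hR w hw)
  rw [hs] at h1
  rw [eq_top_iff]
  intro b _
  exact h1 (Algebra.mem_top : b ∈ (⊤ : Subalgebra A B))

end Groth.Agent.H4.FTImm1
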