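import Mathlib
import Groth.Agent.H4.PBundle3
import Groth.Agent.H4.ProjFunVal
import Groth.Agent.Lib.Lead.QC.HomAffine

set_option autoImplicit false
set_option linter.unusedSectionVars false
set_option linter.unusedVariables false
set_option linter.style.haveILetI false
universe u
open CategoryTheory CategoryTheory.Limits AlgebraicGeometry TopologicalSpace Opposite
open scoped HomogeneousIdeal

namespace Groth.Agent.H4.ProjPhi
noncomputable section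

open Groth.Agent.LD.QC Groth.Agent.H4.PBundle Groth.Agent.H4.PBundle2 Groth.Agent.H4.PBundle3
open Groth.Agent.H8.RelTwist Groth.Agent.H8.RelTilde Groth.Agent.H8.GTW Groth.Agent.H8.ProjTilde
open Groth.Agent.H4.ProjFunVal

variable {Y P : Scheme.{u}} {𝒮 : RelProj.QCGrAlg Y} {p : P ⟶ Y}
  {chart : ∀ (U : Y.Opens) (hU : IsAffineOpen U), (((p ⁻¹ᵁ U : P.Opens) : Scheme.{u}) ≅ Proj (𝒮.deg U hU))}
  {O1 : P.Modules}
  {lam : ∀ (U : Y.Opens) (hU : IsAffineOpen U),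
    O1 ⟶ (Scheme.Modules.pushforward (RelProj.emb p chart U hU)).obj (GrTwist.twist (𝒮.deg U hU) 1)}

/-- the section `s` of `O(1)` over `p⁻¹(U)` reads `g / 1` on the chart over `U`. -/
def Reads (lam : ∀ (U : Y.Opens) (hU : IsAffineOpen U),
    O1 ⟶ (Scheme.Modules.pushforward (RelProj.emb p chart U hU)).obj (GrTwist.twist (𝒮.deg U hU) 1))
    (U : Y.Opens) (hU : IsAffineOpen U) (g : 𝒮.presheaf.obj (op U)) (s : Γ(O1, p ⁻¹ᵁ U)) : Prop :=
  ∀ y : ↥(RelProj.emb p chart U hU ⁻¹ᵁ (p ⁻¹ᵁ U)),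
    GrTwist.val (V := RelProj.emb p chart U hU ⁻¹ᵁ (p ⁻¹ᵁ U)) ((lam U hU).app (p ⁻¹ᵁ U) s) y =
      algebraMap (𝒮.presheaf.obj (op U)) (GrTwist.Loc (𝒮.deg U hU) y.1) g

variable (hP : RelProj.IsRelProj 𝒮 p chart) (hO1 : RelProj.IsRelTwist 𝒮 p chart 1 O1 lam)

include hO1 in
lemma reads_unique (U : Y.Opens) (hU : IsAffineOpen U) (g : 𝒮.presheaf.obj (op U))
    (s s' : Γ(O1, p ⁻¹ᵁ U)) (h : Reads lam U hU g s) (h' : Reads lam U hU g s') : s = s' := by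
  apply (hO1.bijective U hU (p ⁻¹ᵁ U) le_rfl).1
  change (show GrTwist.sectN (𝒜 := 𝒮.deg U hU) 1 (op (RelProj.emb p chart U hU ⁻¹ᵁ (p ⁻¹ᵁ U))) from
    (lam U hU).app (p ⁻¹ᵁ U) s) = (lam U hU).app (p ⁻¹ᵁ U) s'
  refine sectN_ext fun y => ?_
  exact (h y).trans (h' y).symm

/-- the section reading `g / 1`. -/
def sec (hO1 : RelProj.IsRelTwist 𝒮 p chart 1 O1 lam) (U : Y.Opens) (hU : IsAffineOpen U)
    (g : 𝒮.presheaf.obj (op U)) (hg : g ∈ 𝒮.deg U hU 1) : Γ(O1, p ⁻¹ᵁ U) :=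
  (exists_section_reads hO1 U hU g hg).choose

lemma sec_reads (U : Y.Opens) (hU : IsAffineOpen U)
    (g : 𝒮.presheaf.obj (op U)) (hg : g ∈ 𝒮.deg U hU 1) : Reads lam U hU g (sec hO1 U hU g hg) :=
  (exists_section_reads hO1 U hU g hg).choose_spec

lemma sec_add (U : Y.Opens) (hU : IsAffineOpen U)
    (g g' : 𝒮.presheaf.obj (op U)) (hg : g ∈ 𝒮.deg U hU 1) (hg' : g' ∈ 𝒮.deg U hU 1) :
    sec hO1 U hU (g + g') (add_mem hg hg') = sec hO1 U hU g hg + sec hO1 U hU g' hg' := by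
  apply reads_unique hO1 U hU (g + g') _ _ (sec_reads hO1 U hU _ _)
  intro y
  rw [map_add, map_add]
  have h1 := sec_reads hO1 U hU g hg y
  have h2 := sec_reads hO1 U hU g' hg' y
  rw [← h1, ← h2]
  rfl


include hP in
lemma fun_val (U : Y.Opens) (hU : IsAffineOpen U) (r : Γ(Y, U))
    (y : ↥(RelProj.emb p chart U hU ⁻¹ᵁ (p ⁻¹ᵁ U))) :
    (((show GrTwist.O (𝒜 := 𝒮.deg U hU) (op (RelProj.emb p chart U hU ⁻¹ᵁ (p ⁻¹ᵁ U))) from
      ((RelProj.emb p chart U hU).app (p ⁻¹ᵁ U)).hom ((p.app U).hom r)).1 y).val :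
        GrTwist.Loc (𝒮.deg U hU) y.1) = Localization.mk ((𝒮.str.app (op U)).hom r) 1 := by
  have h := embp_appLE_val hP U hU (RelProj.emb p chart U hU ⁻¹ᵁ (p ⁻¹ᵁ U)) le_rfl r y
  have h0 : (RelProj.emb p chart U hU ≫ p).appLE U (RelProj.emb p chart U hU ⁻¹ᵁ (p ⁻¹ᵁ U)) le_rfl =
      p.app U ≫ (RelProj.emb p chart U hU).app (p ⁻¹ᵁ U) :=
    (Scheme.Hom.appLE_eq_app (RelProj.emb p chart U hU ≫ p)).trans (Scheme.Hom.comp_app _ _ _)
  rw [h0] at h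
  exact h

lemma str_mul_mem (U : Y.Opens) (hU : IsAffineOpen U) (r : Γ(Y, U))
    (g : 𝒮.presheaf.obj (op U)) (hg : g ∈ 𝒮.deg U hU 1) :
    (𝒮.str.app (op U)).hom r * g ∈ 𝒮.deg U hU 1 := by
  have := SetLike.mul_mem_graded (𝒮.str_mem U hU r) hg
  simpa using this

include hP in
lemma sec_smul (U : Y.Opens) (hU : IsAffineOpen U) (r : Γ(Y, U))
    (g : 𝒮.presheaf.obj (op U)) (hg : g ∈ 𝒮.deg U hU 1) :
    sec hO1 U hU ((𝒮.str.app (op U)).hom r * g) (str_mul_mem U hU r g hg) =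
      (p.app U).hom r • sec hO1 U hU g hg := by
  apply reads_unique hO1 U hU _ _ _ (sec_reads hO1 U hU _ _)
  intro y
  have e3 := (lam U hU).app_smul ((p.app U).hom r) (sec hO1 U hU g hg)
  rw [e3]
  have h1 := sec_reads hO1 U hU g hg y
  have h2 := fun_val hP U hU r y
  rw [map_mul, ← h1, ← Localization.mk_one_eq_algebraMap, ← h2]
  exact GrTwist.coe_smul_val 1 y.1 _ _


lemma res_mem {U V : Y.Opens} (hU : IsAffineOpen U) (hV : IsAffineOpen V) (i : V ≤ U)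
    (g : 𝒮.presheaf.obj (op U)) (hg : g ∈ 𝒮.deg U hU 1) :
    (𝒮.presheaf.map (homOfLE i).op).hom g ∈ 𝒮.deg V hV 1 :=
  (𝒮.res hU hV i).map_mem hg

include hP in
lemma sec_res_basic (U : Y.Opens) (hU : IsAffineOpen U) (r : Γ(Y, U))
    (g : 𝒮.presheaf.obj (op U)) (hg : g ∈ 𝒮.deg U hU 1) :
    O1.presheaf.map (homOfLE (p.preimage_mono (Y.basicOpen_le r))).op (sec hO1 U hU g hg) =
      sec hO1 (Y.basicOpen r) (hU.basicOpen r) _
        (res_mem hU (hU.basicOpen r) (Y.basicOpen_le r) g hg) := by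
  apply reads_unique hO1 (Y.basicOpen r) (hU.basicOpen r) _ _ _ ?_ (sec_reads hO1 _ _ _ _)
  intro y0
  obtain ⟨y1, hy⟩ := y0
  let y : ProjectiveSpectrum (𝒮.deg (Y.basicOpen r) (hU.basicOpen r)) := y1
  have hy' : (RelProj.emb p chart U hU).base (ProjectiveSpectrum.comap
      (𝒮.res hU (hU.basicOpen r) (Y.basicOpen_le r)) (𝒮.irrelevant_le_map U hU r) y) ∈
      p ⁻¹ᵁ (Y.basicOpen r) :=
    (congrArg (fun z => z ∈ p ⁻¹ᵁ (Y.basicOpen r)) (emb_comap hP U hU r y)).mpr hy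
  have hc := hO1.compat U hU r (p ⁻¹ᵁ (Y.basicOpen r))
    (O1.presheaf.map (homOfLE (p.preimage_mono (Y.basicOpen_le r))).op (sec hO1 U hU g hg))
    y hy hy'
  refine hc.trans ?_
  have h1 := val_lam_res U hU g (sec hO1 U hU g hg) (sec_reads hO1 U hU g hg)
    (p ⁻¹ᵁ (Y.basicOpen r)) (p.preimage_mono (Y.basicOpen_le r)) ⟨_, hy'⟩
  refine (congrArg _ h1).trans ((GrTwist.locMap_mk _ _ y g 1).trans ?_)
  rw [← Localization.mk_one_eq_algebraMap]
  congr 1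
  exact Subtype.ext (map_one _)


lemma sec_congr (U : Y.Opens) (hU : IsAffineOpen U)
    (g g' : 𝒮.presheaf.obj (op U)) (hg : g ∈ 𝒮.deg U hU 1) (e : g = g') :
    sec hO1 U hU g hg = sec hO1 U hU g' (e ▸ hg) := by
  subst e; rfl

include hP in
lemma sec_res_basic' (U : Y.Opens) (hU : IsAffineOpen U) (r : Γ(Y, U)) (W : Y.Opens)
    (hW : IsAffineOpen W) (e : W = Y.basicOpen r) (i : W ≤ U)
    (g : 𝒮.presheaf.obj (op U)) (hg : g ∈ 𝒮.deg U hU 1) :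
    O1.presheaf.map (homOfLE (p.preimage_mono i)).op (sec hO1 U hU g hg) =
      sec hO1 W hW _ (res_mem hU hW i g hg) := by
  subst e
  exact sec_res_basic hP hO1 U hU r g hg

include hP in
lemma sec_res {U V : Y.Opens} (hU : IsAffineOpen U) (hV : IsAffineOpen V) (i : V ≤ U)
    (g : 𝒮.presheaf.obj (op U)) (hg : g ∈ 𝒮.deg U hU 1) :
    O1.presheaf.map (homOfLE (p.preimage_mono i)).op (sec hO1 U hU g hg) =
      sec hO1 V hV _ (res_mem hU hV i g hg) := by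
  have key : ∀ x : V, ∃ (W : Y.Opens) (hW : IsAffineOpen W) (hWV : W ≤ V), x.1 ∈ W ∧
      O1.presheaf.map (homOfLE (p.preimage_mono hWV)).op
        (O1.presheaf.map (homOfLE (p.preimage_mono i)).op (sec hO1 U hU g hg)) =
      O1.presheaf.map (homOfLE (p.preimage_mono hWV)).op
        (sec hO1 V hV _ (res_mem hU hV i g hg)) := by
    intro x
    obtain ⟨f, g', hfg, hx⟩ := exists_basicOpen_le_affine_inter hU hV x.1 ⟨i x.2, x.2⟩
    have hWU : Y.basicOpen f ≤ U := Y.basicOpen_le f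
    have hWV : Y.basicOpen f ≤ V := hfg ▸ Y.basicOpen_le g'
    refine ⟨Y.basicOpen f, hU.basicOpen f, hWV, hx, ?_⟩
    rw [res_res, sec_res_basic' hP hO1 U hU f _ (hU.basicOpen f) rfl hWU g hg,
      sec_res_basic' hP hO1 V hV g' _ (hU.basicOpen f) hfg hWV _ (res_mem hU hV i g hg)]
    apply sec_congr
    rw [← CommRingCat.comp_apply, ← 𝒮.presheaf.map_comp]
    rfl
  choose W hW hWV hxW hres using key
  apply section_ext_of_cover O1 (fun x : V => p ⁻¹ᵁ (W x)) (fun x => p.preimage_mono (hWV x))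
  · intro z hz
    exact Opens.mem_iSup.mpr ⟨⟨p.base z, hz⟩, hxW ⟨p.base z, hz⟩⟩
  · intro x
    exact hres x


variable {E : Y.Modules} (j : E ⟶ 𝒮.toModule)
  (hj : ∀ (U : Y.Opens) (hU : IsAffineOpen U) (x : Γ(E, U)), (j.app U) x ∈ 𝒮.deg U hU 1)

/-- `j(e)` as an element of the ring `𝒮(U)`. -/
def jv (j : E ⟶ 𝒮.toModule) (U : Y.Opens) (e : Γ(E, U)) : 𝒮.presheaf.obj (op U) := (j.app U) e

lemma jv_smul (U : Y.Opens) (r : Γ(Y, U)) (e : Γ(E, U)) :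
    jv j U (r • e) = (𝒮.str.app (op U)).hom r * jv j U e :=
  j.app_smul r e

lemma jv_add (U : Y.Opens) (e e' : Γ(E, U)) :
    jv j U (e + e') = jv j U e + jv j U e' :=
  map_add (j.app U).hom e e'

lemma jv_res {U V : Y.Opens} (h : V ≤ U) (e : Γ(E, U)) :
    jv j V (E.presheaf.map (homOfLE h).op e) = (𝒮.presheaf.map (homOfLE h).op).hom (jv j U e) :=
  app_res j h e

include hj in
lemma jv_mem (U : Y.Opens) (hU : IsAffineOpen U) (e : Γ(E, U)) : jv j U e ∈ 𝒮.deg U hU 1 :=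
  hj U hU e

/-- the linear maps defining `φ`. -/
def phiLin (hP : RelProj.IsRelProj 𝒮 p chart) (hO1 : RelProj.IsRelTwist 𝒮 p chart 1 O1 lam)
    (j : E ⟶ 𝒮.toModule)
    (hj : ∀ (U : Y.Opens) (hU : IsAffineOpen U) (x : Γ(E, U)), (j.app U) x ∈ 𝒮.deg U hU 1)
    (U : Y.Opens) (hU : IsAffineOpen U) :
    Γ(E, U) →ₗ[Γ(Y, U)] Γ((Scheme.Modules.pushforward p).obj O1, U) where
  toFun e := (show Γ((Scheme.Modules.pushforward p).obj O1, U) from
    sec hO1 U hU (jv j U e) (jv_mem j hj U hU e))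
  map_add' e e' :=
    (sec_congr hO1 U hU _ _ _ (jv_add j U e e')).trans (sec_add hO1 U hU _ _ _ _)
  map_smul' r e :=
    (sec_congr hO1 U hU _ _ _ (jv_smul j U r e)).trans (sec_smul hP hO1 U hU r _ _)

/-- the canonical map `E ⟶ p_* O(1)`. -/
def phi (hP : RelProj.IsRelProj 𝒮 p chart) (hO1 : RelProj.IsRelTwist 𝒮 p chart 1 O1 lam)
    (j : E ⟶ 𝒮.toModule)
    (hj : ∀ (U : Y.Opens) (hU : IsAffineOpen U) (x : Γ(E, U)), (j.app U) x ∈ 𝒮.deg U hU 1) :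
    E ⟶ (Scheme.Modules.pushforward p).obj O1 :=
  homOfAffine E ((Scheme.Modules.pushforward p).obj O1) (fun U => phiLin hP hO1 j hj U.1 U.2)
    (by
      intro U V h s
      have h1 := sec_res hP hO1 U.2 V.2 h (jv j U.1 s) (jv_mem j hj U.1 U.2 s)
      have h2 := sec_congr hO1 V.1 V.2 _ _
        (res_mem U.2 V.2 h (jv j U.1 s) (jv_mem j hj U.1 U.2 s)) (jv_res j h s).symm
      exact h1.trans h2)

lemma phi_app (U : Y.Opens) (hU : IsAffineOpen U) (e : Γ(E, U)) :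
    ((phi hP hO1 j hj).app U) e = phiLin hP hO1 j hj U hU e :=
  homOfAffine_app E ((Scheme.Modules.pushforward p).obj O1)
    (fun U => phiLin hP hO1 j hj U.1 U.2) _ ⟨U, hU⟩ e

lemma phi_reads (U : Y.Opens) (hU : IsAffineOpen U) (e : Γ(E, U))
    (y : ↥(RelProj.emb p chart U hU ⁻¹ᵁ (p ⁻¹ᵁ U))) :
    GrTwist.val (V := RelProj.emb p chart U hU ⁻¹ᵁ (p ⁻¹ᵁ U))
        ((lam U hU).app (p ⁻¹ᵁ U) (((phi hP hO1 j hj).app U) e)) y =
      algebraMap (𝒮.presheaf.obj (op U)) (GrTwist.Loc (𝒮.deg U hU) y.1)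
        ((j.app U) e : 𝒮.presheaf.obj (op U)) := by
  have h := sec_reads hO1 U hU (jv j U e) (jv_mem j hj U hU e) y
  have h2 : (show Γ(O1, p ⁻¹ᵁ U) from ((phi hP hO1 j hj).app U) e) =
      sec hO1 U hU (jv j U e) (jv_mem j hj U hU e) := phi_app hP hO1 j hj U hU e
  rw [← h2] at h
  exact h

end
end Groth.Agent.H4.ProjPhi
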