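import Mathlib

set_option autoImplicit false
set_option linter.style.haveILetI false
set_option linter.unusedSectionVars false
set_option linter.unusedVariables false

namespace Groth.Agent.H4.ImmTr

open CategoryTheory CategoryTheory.Limits AlgebraicGeometry TopologicalSpace Opposite

universe u

instance : MorphismProperty.RespectsRight (@IsImmersion) (@IsOpenImmersion) where
  postcomp i hi f hf := by
    haveI : IsImmersion f := hf
    haveI : IsOpenImmersion i := hi
    exact (inferInstance : IsImmersion (f ≫ i))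

/-- a morphism which is an immersion over opens covering its range is an immersion. -/
theorem isImmersion_of_forall_exists_restrict {X Z : Scheme.{u}} (f : X ⟶ Z)
    (h : ∀ x : X, ∃ T : Z.Opens, f.base x ∈ T ∧ IsImmersion (f ∣_ T)) : IsImmersion f := by
  choose T hxT hT using h
  apply IsZariskiLocalAtTarget.of_range_subset_iSup (P := @IsImmersion) T
  · rintro y ⟨x, rfl⟩
    simp only [Opens.coe_iSup, Set.mem_iUnion, SetLike.mem_coe]
    exact ⟨x, hxT x⟩
  · exact hT

/-- transfer of the immersion property along a ring map of charts. -/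
theorem isImmersion_resLE_of_ringHom {X P P'' : Scheme.{u}} (i : X ⟶ P) (r : X ⟶ P'') [IsImmersion i]
    {D : P.Opens} (hD : IsAffineOpen D) {D'' : P''.Opens}
    (W : X.Opens) (e : W ≤ i ⁻¹ᵁ D) (e'' : W ≤ r ⁻¹ᵁ D'')
    (ψ : Γ(P, D) ⟶ Γ(P'', D'')) (hψ : ψ ≫ r.appLE D'' W e'' = i.appLE D W e) :
    IsImmersion (r.resLE D'' W e'') := by
  haveI : IsAffine D.toScheme := hD
  let ψ' : Γ(D.toScheme, ⊤) ⟶ Γ(D''.toScheme, ⊤) := D.topIso.hom ≫ ψ ≫ D''.topIso.inv
  let g : D''.toScheme ⟶ D.toScheme :=
    D''.toScheme.toSpecΓ ≫ Spec.map ψ' ≫ D.toScheme.isoSpec.inv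
  have key : r.resLE D'' W e'' ≫ g = i.resLE D W e := by
    rw [← cancel_mono D.toScheme.isoSpec.hom]
    simp only [g, Category.assoc, Iso.inv_hom_id, Category.comp_id]
    rw [Scheme.isoSpec_hom, Scheme.toSpecΓ_naturality, Scheme.toSpecΓ_naturality_assoc,
      ← Spec.map_comp]
    congr 2
    simp only [ψ', Scheme.Hom.appTop, Scheme.Hom.resLE_app_top, Category.assoc,
      Iso.inv_hom_id_assoc]
    rw [← Category.assoc ψ, hψ]
  haveI : IsImmersion (r.resLE D'' W e'' ≫ g) := by rw [key]; infer_instance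
  exact IsImmersion.of_comp _ g

end Groth.Agent.H4.ImmTr
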