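import Mathlib
import Groth.Agent.H4.PBLoc2
import Groth.Agent.H4.ProjBC2
import Groth.Agent.Lib.Helper6.SymSum

set_option autoImplicit false
set_option linter.style.haveILetI false
set_option linter.unusedSectionVars false
set_option linter.unusedVariables false

namespace Groth.Agent.H4.PBEx1

open CategoryTheory CategoryTheory.Limits AlgebraicGeometry TopologicalSpace Opposite
open HomogeneousLocalization
open Groth.Agent.H6.Sym Groth.Agent.H6 Groth.Agent.LD.QC Groth.Agent.H4.PBundle Groth.Agent.H4.PBundle2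
open Groth.Agent.H4.PBundle3 Groth.Agent.H4.PBLoc Groth.Agent.H4.PBLoc2
open scoped HomogeneousIdeal

universe u

noncomputable section

section MkU

variable {X Y : Scheme.{u}} (g : X ⟶ Y) {E : Y.Modules} [E.IsQuasicoherent] {𝒮 : RelProj.QCGrAlg Y}
  {j : E ⟶ 𝒮.toModule} {L : X.Modules} (𝒮L : RelProj.QCGrAlg X) (jL : L ⟶ 𝒮L.toModule)

/-- ring maps on affine opens attached to a semilinear map `E → g_* L`. -/
theorem exists_rho (hj : RelProj.IsGrSymAlg E 𝒮 j)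
    (σ : ∀ U : Y.Opens, Γ(E, U) → Γ(L, g ⁻¹ᵁ U))
    (σ_add : ∀ U m m', σ U (m + m') = σ U m + σ U m')
    (σ_smul : ∀ U (a : Γ(Y, U)) m, σ U (a • m) = (g.app U).hom a • σ U m)
    (U : Y.Opens) (hU : IsAffineOpen U) :
    ∃ ρ : 𝒮.presheaf.obj (op U) →+* 𝒮L.presheaf.obj (op (g ⁻¹ᵁ U)),
      (∀ r, ρ ((𝒮.str.app (op U)).hom r) =
        (𝒮L.str.app (op (g ⁻¹ᵁ U))).hom ((g.app U).hom r)) ∧
      ∀ m, ρ (QA.sec j U m) = QA.sec jL (g ⁻¹ᵁ U) (σ U m) := by
  refine exists_ringHom_sec hj.1 U hU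
    (((𝒮L.str.app (op (g ⁻¹ᵁ U))).hom).comp (g.app U).hom)
    (AddMonoidHom.mk' (fun m => QA.sec jL (g ⁻¹ᵁ U) (σ U m)) ?_) ?_
  · intro a b
    show QA.sec jL (g ⁻¹ᵁ U) (σ U (a + b)) = _
    rw [σ_add, QA.sec_add]
  · intro r m
    show QA.sec jL (g ⁻¹ᵁ U) (σ U (r • m)) = _
    rw [σ_smul, QA.sec_smul]
    rfl

theorem exists_qgrhom (hj : RelProj.IsGrSymAlg E 𝒮 j)
    (hjL1 : ∀ (V : X.Opens) (hV : IsAffineOpen V) (m : Γ(L, V)), QA.sec jL V m ∈ 𝒮L.deg V hV 1)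
    (σ : ∀ U : Y.Opens, Γ(E, U) → Γ(L, g ⁻¹ᵁ U))
    (σ_add : ∀ U m m', σ U (m + m') = σ U m + σ U m')
    (σ_smul : ∀ U (a : Γ(Y, U)) m, σ U (a • m) = (g.app U).hom a • σ U m)
    (σ_res : ∀ (U V : Y.Opens) (h : V ≤ U) (m : Γ(E, U)),
      σ V (E.presheaf.map (homOfLE h).op m) =
        L.presheaf.map (homOfLE (g.preimage_mono h)).op (σ U m)) :
    ∃ u : RelProj.QGrHom g 𝒮 𝒮L, ∀ (U : Y.Opens) (hU : IsAffineOpen U) (e : Γ(E, U)),
      (u.app U).hom (QA.sec j U e) = QA.sec jL (g ⁻¹ᵁ U) (σ U e) := by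
  choose ρ hρ1 hρ2 using fun U : Y.affineOpens =>
    exists_rho g 𝒮L jL hj σ σ_add σ_smul U.1 U.2
  -- naturality on affine opens
  have hnat : ∀ (U V : Y.affineOpens) (h : V.1 ≤ U.1),
      ((𝒮L.presheaf.map (homOfLE (g.preimage_mono h)).op).hom).comp (ρ U) =
        (ρ V).comp (𝒮.presheaf.map (homOfLE h).op).hom := by
    intro U V h
    apply ringHom_ext_sec hj.1 U.1 U.2
    · intro r
      simp only [RingHom.comp_apply]
      rw [hρ1, QA.str_res, QA.str_res, hρ1]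
      congr 1
      exact congrArg (fun t => t.hom r) (g.naturality (homOfLE h).op).symm
    · intro m
      simp only [RingHom.comp_apply]
      rw [hρ2, QA.sec_res, QA.sec_res, hρ2, σ_res]
  -- the morphism of presheaves on the basis of affine opens
  let B : Y.affineOpens → Opens Y := fun U => U.1
  have hB : Opens.IsBasis (Set.range B) := by
    have : Set.range B = Y.affineOpens := Subtype.range_coe
    rw [this]; exact Y.isBasis_affineOpens
  let F' : TopCat.Sheaf CommRingCat.{u} Y := ⟨g.base _* 𝒮L.presheaf,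
    TopCat.Sheaf.pushforward_sheaf_of_sheaf g.base 𝒮L.isSheaf⟩
  let α : (inducedFunctor B).op ⋙ 𝒮.presheaf ⟶ (inducedFunctor B).op ⋙ F'.1 :=
    { app := fun U => CommRingCat.ofHom (ρ U.unop)
      naturality := by
        intro U V f
        apply CommRingCat.hom_ext
        have h : V.unop.1 ≤ U.unop.1 := leOfHom f.unop.hom
        exact (hnat U.unop V.unop h).symm }
  let u₀ : 𝒮.presheaf ⟶ g.base _* 𝒮L.presheaf := TopCat.Sheaf.restrictHomEquivHom 𝒮.presheaf F' hB α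
  have hu₀ : ∀ U : Y.affineOpens, u₀.app (op U.1) = CommRingCat.ofHom (ρ U) := fun U =>
    TopCat.Sheaf.extend_hom_app 𝒮.presheaf F' hB α U
  have hstr : 𝒮.str ≫ u₀ = g.c ≫ (TopCat.Presheaf.pushforward CommRingCat.{u} g.base).map 𝒮L.str := by
    apply TopCat.Sheaf.hom_ext Y.presheaf F' hB
    intro U
    apply CommRingCat.hom_ext
    apply RingHom.ext
    intro r
    show (u₀.app (op U.1)).hom ((𝒮.str.app (op U.1)).hom r) = _
    rw [hu₀ U]
    exact hρ1 U r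
  have hmem : ∀ (U : Y.Opens) (hU : IsAffineOpen U) (U' : X.Opens) (hU' : IsAffineOpen U')
      (hle : U' ≤ g ⁻¹ᵁ U) {d : ℕ} {x : 𝒮.presheaf.obj (op U)}, x ∈ 𝒮.deg U hU d →
      (𝒮L.presheaf.map (homOfLE hle).op).hom ((u₀.app (op U)).hom x) ∈ 𝒮L.deg U' hU' d := by
    intro U hU U' hU' hle d x hx
    have e1 : u₀.app (op U) = CommRingCat.ofHom (ρ ⟨U, hU⟩) := hu₀ ⟨U, hU⟩
    rw [e1]
    refine sym_induction hj U hU (fun d x =>
      (𝒮L.presheaf.map (homOfLE hle).op).hom ((ρ ⟨U, hU⟩) x) ∈ 𝒮L.deg U' hU' d) ?_ ?_ ?_ d x hx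
    · intro c
      rw [hρ1 ⟨U, hU⟩, QA.str_res]
      exact 𝒮L.str_mem U' hU' _
    · intro n a b ha hb
      rw [map_add, map_add]
      exact add_mem ha hb
    · intro n e a ha
      rw [map_mul, map_mul, hρ2 ⟨U, hU⟩, QA.sec_res, add_comm]
      exact SetLike.mul_mem_graded (hjL1 U' hU' _) ha
  refine ⟨Groth.Agent.H4.ProjBC2.mkQGrHom g 𝒮 𝒮L u₀ hstr hmem, ?_⟩
  intro U hU e
  show (u₀.app (op U)).hom (QA.sec j U e) = _
  have e1 : u₀.app (op U) = CommRingCat.ofHom (ρ ⟨U, hU⟩) := hu₀ ⟨U, hU⟩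
  rw [e1]
  exact hρ2 ⟨U, hU⟩ e

end MkU

end

end Groth.Agent.H4.PBEx1
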