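import Groth.Agent.H4.ProjSymL2

set_option autoImplicit false
set_option linter.style.haveILetI false
set_option linter.unusedSectionVars false
set_option linter.unusedVariables false

namespace Groth.Agent.H4.ProjSymL5

open CategoryTheory CategoryTheory.Limits AlgebraicGeometry TopologicalSpace Opposite
open HomogeneousLocalization
open Groth.Agent.H4 Groth.Agent.H4.RelSpecLib Groth.Agent.H4.ConeImm Groth.Agent.H4.ConeInf
open Groth.Agent.H4.ConeRetrAlg Groth.Agent.H4.ConeRetr Groth.Agent.H4.ConeRetr2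
open Groth.Agent.H4.ProjQ Groth.Agent.H4.ProjQ2 Groth.Agent.H4.ProjBC Groth.Agent.H4.ProjSymL
open Groth.Agent.H4.ProjSymL2
open Groth.Agent.LD.QC Groth.Agent.H6.Sym
open scoped HomogeneousIdeal

universe u

section Sch

variable {Y X P PL : Scheme.{u}} {q : X ⟶ Y} {L : X.Modules}
  {𝒮 : RelProj.QCGrAlg Y} {𝒮L : RelProj.QCGrAlg X} {j : L ⟶ 𝒮L.toModule}
  (u : RelProj.QGrHom q 𝒮 𝒮L)
  {p : P ⟶ Y}
  (chart : ∀ (U : Y.Opens) (hU : IsAffineOpen U),
    (((p ⁻¹ᵁ U : P.Opens) : Scheme.{u}) ≅ Proj (𝒮.deg U hU)))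
  {pL : PL ⟶ X}
  (chartL : ∀ (U : X.Opens) (hU : IsAffineOpen U),
    (((pL ⁻¹ᵁ U : PL.Opens) : Scheme.{u}) ≅ Proj (𝒮L.deg U hU)))

theorem exists_y_of_mem_preimage' (hPL : RelProj.IsRelProj 𝒮L pL chartL)
    (r : ((RelProj.domQ u pL chartL : PL.Opens) : Scheme.{u}) ⟶ P)
    (hr : RelProj.IsProjQMapOn u p chart pL chartL (RelProj.domQ u pL chartL) r)
    (U : Y.Opens) (hU : IsAffineOpen U) {d : ℕ} (hd : 0 < d) (f : 𝒮.presheaf.obj (op U))
    (hf : f ∈ 𝒮.deg U hU d)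
    (e : ((RelProj.domQ u pL chartL : PL.Opens) : Scheme.{u}))
    (he : r.base e ∈ (RelProj.emb p chart U hU) ''ᵁ Proj.basicOpen (𝒮.deg U hU) f)
    (V : X.Opens) (hV : IsAffineOpen V) (hVU : V ≤ q ⁻¹ᵁ U)
    (hxV : pL.base ((RelProj.domQ u pL chartL).ι.base e) ∈ V) :
    ∃ y : Proj (𝒮L.deg V hV),
      (RelProj.emb pL chartL V hV).base y = (RelProj.domQ u pL chartL).ι.base e ∧
      (u.appLE U V hVU).hom f ∉ y.asHomogeneousIdeal := by
  have hr' := (isProjQMapOn_iff u p chart pL chartL r).mp hr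
  obtain ⟨z, hz, hze⟩ := he
  have hxV' : ((RelProj.domQ u pL chartL).ι ≫ pL).base e ∈ V := hxV
  obtain ⟨d', hd', f', hf', w', rfl⟩ :=
    cover_aq_over u pL chartL hPL e U hU V hV hVU hxV'
  have h3 := congrArg (fun t : Spec (CommRingCat.of (Away (𝒮L.deg V hV)
    ((u.gradedAt U hU V hV hVU) f'))) ⟶ P => t.base w')
    (hr' U hU V hV hVU d' hd' f' hf')
  have h4 : z = (Proj.awayι (𝒮.deg U hU) f' hf' hd').base
      ((Spec.map (CommRingCat.ofHom
        (Away.map (u.gradedAt U hU V hV hVU) f'))).base w') := by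
    apply (RelProj.emb p chart U hU).isOpenEmbedding.injective
    exact hze.trans h3
  have h5 : (Proj.awayι (𝒮.deg U hU) f' hf' hd').base
      ((Spec.map (CommRingCat.ofHom
        (Away.map (u.gradedAt U hU V hV hVU) f'))).base w') ∈
      Proj.basicOpen (𝒮.deg U hU) f := by
    rw [← h4]; exact hz
  have h6 := (mem_basicOpen_iff_ring (u.gradedAt U hU V hV hVU) hd hd' hf hf' w').mpr h5
  refine ⟨(Proj.awayι (𝒮L.deg V hV) _
    (Graded.map_mem (u.gradedAt U hU V hV hVU) hf') hd').base w', ?_, ?_⟩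
  · have k2 := congrArg (fun t : Spec (CommRingCat.of (Away (𝒮L.deg V hV)
      ((u.gradedAt U hU V hV hVU) f'))) ⟶ PL => t.base w')
      (aq_ι u pL chartL U hU V hV hVU hd' f' hf')
    exact k2.symm
  · exact (ProjectiveSpectrum.mem_basicOpen _ _ _).mp h6

theorem exists_e_of_notMem'
    (r : ((RelProj.domQ u pL chartL : PL.Opens) : Scheme.{u}) ⟶ P)
    (hr : RelProj.IsProjQMapOn u p chart pL chartL (RelProj.domQ u pL chartL) r)
    (U : Y.Opens) (hU : IsAffineOpen U) {d : ℕ} (hd : 0 < d) (f : 𝒮.presheaf.obj (op U))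
    (hf : f ∈ 𝒮.deg U hU d)
    (V : X.Opens) (hV : IsAffineOpen V) (hVU : V ≤ q ⁻¹ᵁ U) (y : Proj (𝒮L.deg V hV))
    (hy : (u.appLE U V hVU).hom f ∉ y.asHomogeneousIdeal) :
    ∃ e : ((RelProj.domQ u pL chartL : PL.Opens) : Scheme.{u}),
      (RelProj.domQ u pL chartL).ι.base e = (RelProj.emb pL chartL V hV).base y ∧
      r.base e ∈ (RelProj.emb p chart U hU) ''ᵁ Proj.basicOpen (𝒮.deg U hU) f := by
  have hr' := (isProjQMapOn_iff u p chart pL chartL r).mp hr
  obtain ⟨w, hw⟩ := exists_awayι_eq (𝒮L.deg V hV) hd _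
    (Graded.map_mem (u.gradedAt U hU V hV hVU) hf) y hy
  refine ⟨(aq u pL chartL U hU V hV hVU hd f hf).base w, ?_, ?_⟩
  · have k1 := congrArg (fun t : Spec (CommRingCat.of (Away (𝒮L.deg V hV)
      ((u.gradedAt U hU V hV hVU) f))) ⟶ PL => t.base w)
      (aq_ι u pL chartL U hU V hV hVU hd f hf)
    have k2 : (RelProj.awayEmb u pL chartL U hU V hV hVU hd f hf).base w =
        (RelProj.emb pL chartL V hV).base y := by
      show (RelProj.emb pL chartL V hV).base ((Proj.awayι _ _ _ _).base w) = _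
      rw [hw]
    exact k1.trans k2
  · have h3 := congrArg (fun t : Spec (CommRingCat.of (Away (𝒮L.deg V hV)
      ((u.gradedAt U hU V hV hVU) f))) ⟶ P => t.base w)
      (hr' U hU V hV hVU d hd f hf)
    exact ⟨_, awayι_mem_basicOpen (𝒮.deg U hU) hd f hf
      ((Spec.map (CommRingCat.ofHom
        (Away.map (u.gradedAt U hU V hV hVU) f))).base w), h3.symm⟩

theorem exists_nilpotent_of_forall_notMem' (hL : PicF.IsInvertible L) (hLq : Coh.IsQCoh L)
    (hj : RelProj.IsGrSymAlg L 𝒮L j) (hPL : RelProj.IsRelProj 𝒮L pL chartL)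
    (r : ((RelProj.domQ u pL chartL : PL.Opens) : Scheme.{u}) ⟶ P)
    (hr : RelProj.IsProjQMapOn u p chart pL chartL (RelProj.domQ u pL chartL) r)
    (U : Y.Opens) (hU : IsAffineOpen U) {m : ℕ} (hm : 0 < m) (g : 𝒮.presheaf.obj (op U))
    (hg : g ∈ 𝒮.deg U hU m)
    (hdis : ∀ e, r.base e ∉ (RelProj.emb p chart U hU) ''ᵁ Proj.basicOpen (𝒮.deg U hU) g)
    (x : X) (hxU : q.base x ∈ U) :
    ∃ (V : X.Opens) (_ : IsAffineOpen V) (hVU : V ≤ q ⁻¹ᵁ U), x ∈ V ∧
      IsNilpotent ((u.appLE U V hVU).hom g) := by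
  haveI : L.IsQuasicoherent := hLq
  haveI : IsIso pL := main_S12143 L hL hLq 𝒮L j hj pL chartL hPL
  obtain ⟨U₀, e₀, hxU₀, he₀⟩ := (isInvertible_iff_exists_isBasisOver L).mp hL x
  obtain ⟨V, hV, hxV, hle0⟩ := Opens.isBasis_iff_nbhd.mp X.isBasis_affineOpens
    (show x ∈ U₀ ⊓ q ⁻¹ᵁ U from ⟨hxU₀, hxU⟩)
  replace hV : IsAffineOpen V := hV
  have hle : V ≤ U₀ := hle0.trans inf_le_left
  have hVU : V ≤ q ⁻¹ᵁ U := hle0.trans inf_le_right
  have he := he₀.mono hle
  obtain ⟨N1, -⟩ := exists_N hj V hV _ he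
  refine ⟨V, hV, hVU, hxV, ?_⟩
  have hsdeg : (u.appLE U V hVU).hom g ∈ 𝒮L.deg V hV m :=
    u.map_mem U hU V hV hVU hg
  obtain ⟨a, ha⟩ := N1 m _ hsdeg
  have hanil : IsNilpotent a := by
    rw [Scheme.isNilpotent_iff_basicOpen_eq_bot_of_isCompact hV.isCompact a, eq_bot_iff]
    intro x₁ hx₁
    exfalso
    obtain ⟨x₁', hx₁'⟩ : ∃ x₁', pL.base x₁' = x₁ := pL.homeomorph.surjective x₁
    subst hx₁'
    have hx₁V : pL.base x₁' ∈ V := X.basicOpen_le a hx₁
    obtain ⟨y, rfl⟩ := exists_emb pL chartL x₁' V hV hx₁V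
    have hay := (pL_emb_mem_basicOpen_iff chartL hPL V hV y a).mp hx₁
    have hty : Groth.Agent.H6.QA.sec j V (L.presheaf.map (homOfLE hle).op e₀) ∉
        y.asHomogeneousIdeal := by
      refine notMem_of_deg_le_span hj V hV y one_pos _ ?_
      intro z hz
      obtain ⟨b, hb⟩ := N1 1 z hz
      show z ∈ Ideal.span {Groth.Agent.H6.QA.sec j V (L.presheaf.map (homOfLE hle).op e₀)}
      rw [Ideal.mem_span_singleton']
      exact ⟨(𝒮L.str.app (op V)).hom b, by rw [hb, pow_one]⟩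
    have hsy : (u.appLE U V hVU).hom g ∉ y.asHomogeneousIdeal := by
      rw [ha]
      intro hcon
      rcases y.isPrime.mem_or_mem hcon with h' | h'
      · exact hay h'
      · exact hty (y.isPrime.mem_of_pow_mem m h')
    obtain ⟨e, -, he2⟩ := exists_e_of_notMem' u chart chartL r hr U hU hm g hg V hV hVU y hsy
    exact hdis e he2
  obtain ⟨k, hk⟩ := hanil
  exact ⟨k, by rw [ha, mul_pow, ← map_pow, hk, map_zero, zero_mul]⟩

end Sch

/-- General (non-affine base) criterion for dominance of `r_{L,ψ}`. -/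
theorem isDominant_iff_forall_affine {Y X P PL : Scheme.{u}} (q : X ⟶ Y)
    (L : X.Modules) (hL : PicF.IsInvertible L) (hLq : Coh.IsQCoh L)
    (𝒮 : RelProj.QCGrAlg Y) (𝒮L : RelProj.QCGrAlg X) (j : L ⟶ 𝒮L.toModule) (hj : RelProj.IsGrSymAlg L 𝒮L j)
    (u : RelProj.QGrHom q 𝒮 𝒮L)
    (p : P ⟶ Y) (chart : ∀ (U : Y.Opens) (hU : IsAffineOpen U), (((p ⁻¹ᵁ U : P.Opens) : Scheme.{u}) ≅ Proj (𝒮.deg U hU)))
    (hP : RelProj.IsRelProj 𝒮 p chart)
    (pL : PL ⟶ X) (chartL : ∀ (U : X.Opens) (hU : IsAffineOpen U), (((pL ⁻¹ᵁ U : PL.Opens) : Scheme.{u}) ≅ Proj (𝒮L.deg U hU)))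
    (hPL : RelProj.IsRelProj 𝒮L pL chartL)
    (r : ((RelProj.domQ u pL chartL : PL.Opens) : Scheme.{u}) ⟶ P)
    (hr : RelProj.IsProjQMapOn u p chart pL chartL (RelProj.domQ u pL chartL) r) :
    IsDominant r ↔
      ∀ (U : Y.Opens) (hU : IsAffineOpen U) (n : ℕ), 0 < n → ∀ s ∈ 𝒮.deg U hU n,
        (∀ x : X, q.base x ∈ U → ∃ (V : X.Opens) (_ : IsAffineOpen V) (hVU : V ≤ q ⁻¹ᵁ U),
          x ∈ V ∧ IsNilpotent ((u.appLE U V hVU).hom s)) →
          IsNilpotent s := by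
  haveI : L.IsQuasicoherent := hLq
  have hover : r ≫ p = (RelProj.domQ u pL chartL).ι ≫ pL ≫ q :=
    v_over u p chart pL chartL hP hPL r ((isProjQMapOn_iff u p chart pL chartL r).mp hr)
  constructor
  · intro hdom U hU n hn s hs hloc
    have hempty : ∀ e, r.base e ∉
        (RelProj.emb p chart U hU) ''ᵁ Proj.basicOpen (𝒮.deg U hU) s := by
      intro e he
      have hqU : q.base (pL.base ((RelProj.domQ u pL chartL).ι.base e)) ∈ U := by
        obtain ⟨z, hz, hze⟩ := he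
        have h1 : p.base (r.base e) ∈ U := by
          rw [← hze]; exact emb_mem p chart U hU z
        have h2 := congrArg (fun t : ((RelProj.domQ u pL chartL : PL.Opens) : Scheme.{u}) ⟶ Y =>
          t.base e) hover
        have h3 : p.base (r.base e) =
            q.base (pL.base ((RelProj.domQ u pL chartL).ι.base e)) := h2
        rw [← h3]; exact h1
      obtain ⟨V, hV, hVU, hxV, hnil⟩ :=
        hloc (pL.base ((RelProj.domQ u pL chartL).ι.base e)) hqU
      obtain ⟨y, hy1, hy2⟩ :=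
        exists_y_of_mem_preimage' u chart chartL hPL r hr U hU hn s hs e he V hV hVU hxV
      apply hy2
      obtain ⟨k, hk⟩ := hnil
      have h0 : (u.appLE U V hVU).hom s ^ k = 0 := hk
      exact y.isPrime.mem_of_pow_mem k (by rw [h0]; exact Ideal.zero_mem _)
    have hbot : ∀ z : Proj (𝒮.deg U hU), z ∉ Proj.basicOpen (𝒮.deg U hU) s := by
      intro z hz
      have hden : Dense (Set.range r.base) := (isDominant_iff r).mp hdom
      obtain ⟨_, ⟨e, rfl⟩, he⟩ := hden.exists_mem_open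
        ((RelProj.emb p chart U hU) ''ᵁ Proj.basicOpen (𝒮.deg U hU) s).isOpen
        ⟨(RelProj.emb p chart U hU).base z, z, hz, rfl⟩
      exact hempty e he
    exact rl_isNilpotent_of_basicOpen_empty (𝒮.deg U hU) hn s hs hbot
  · intro hcond
    refine (isDominant_iff r).mpr (dense_iff_inter_open.mpr ?_)
    intro O hO hOne
    by_contra hcon
    obtain ⟨z', hz'⟩ := hOne
    obtain ⟨U, hU, hzU, -⟩ := Opens.isBasis_iff_nbhd.mp Y.isBasis_affineOpens
      (show p.base z' ∈ (⊤ : Y.Opens) from trivial)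
    replace hU : IsAffineOpen U := hU
    obtain ⟨z, rfl⟩ := exists_emb p chart z' U hU hzU
    have hzO' : z ∈ (RelProj.emb p chart U hU) ⁻¹ᵁ (⟨O, hO⟩ : P.Opens) := hz'
    obtain ⟨m, hm, g, hg, hzg, hgO⟩ := rl_exists_homog_basicOpen_le (𝒮.deg U hU) z _ hzO'
    have hdis : ∀ e, r.base e ∉
        (RelProj.emb p chart U hU) ''ᵁ Proj.basicOpen (𝒮.deg U hU) g := by
      rintro e ⟨z₁, hz₁, hz₁e⟩
      apply hcon
      refine ⟨r.base e, ?_, e, rfl⟩
      rw [← hz₁e]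
      exact hgO hz₁
    have hnil : IsNilpotent g := hcond U hU m hm g hg (fun x hxU =>
      exists_nilpotent_of_forall_notMem' u chart chartL hL hLq hj hPL r hr U hU hm g hg hdis x hxU)
    obtain ⟨k, hk⟩ := hnil
    exact (ProjectiveSpectrum.mem_basicOpen _ _ _).mp hzg
      (z.isPrime.mem_of_pow_mem k (by rw [hk]; exact Ideal.zero_mem _))

end Groth.Agent.H4.ProjSymL5
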