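import Groth.Agent.H4.ProjSymL3
import Groth.Agent.H4.ProjSymL5

set_option autoImplicit false
set_option linter.style.haveILetI false
set_option linter.unusedSectionVars false
set_option linter.unusedVariables false

namespace Groth.Agent.H4.ProjSymL6

open CategoryTheory CategoryTheory.Limits AlgebraicGeometry TopologicalSpace Opposite
open HomogeneousLocalization
open Groth.Agent.H4 Groth.Agent.H4.RelSpecLib Groth.Agent.H4.ConeImm Groth.Agent.H4.ConeInf
open Groth.Agent.H4.ConeRetrAlg Groth.Agent.H4.ConeRetr Groth.Agent.H4.ConeRetr2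
open Groth.Agent.H4.ProjQ Groth.Agent.H4.ProjQ2 Groth.Agent.H4.ProjBC Groth.Agent.H4.ProjBC2
open Groth.Agent.H4.ProjSymL Groth.Agent.H4.ProjSymL2 Groth.Agent.H4.ProjSymL3
open Groth.Agent.H4.ProjSymL5
open Groth.Agent.LD.QC Groth.Agent.H6.Sym
open scoped HomogeneousIdeal

universe u

section Sch

variable {Y X P PL : Scheme.{u}} {q : X ⟶ Y} {L : X.Modules}
  {𝒮 : RelProj.QCGrAlg Y} {𝒮L : RelProj.QCGrAlg X} {j : L ⟶ 𝒮L.toModule}
  (u : RelProj.QGrHom q 𝒮 𝒮L)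
  {p : P ⟶ Y}
  (chart : ∀ (U : Y.Opens) (hU : IsAffineOpen U),
    (((p ⁻¹ᵁ U : P.Opens) : Scheme.{u}) ≅ Proj (𝒮.deg U hU)))
  {pL : PL ⟶ X}
  (chartL : ∀ (U : X.Opens) (hU : IsAffineOpen U),
    (((pL ⁻¹ᵁ U : PL.Opens) : Scheme.{u}) ≅ Proj (𝒮L.deg U hU)))

/-- the open `X_f ⊆ q⁻¹U` where the section `u s` of `L^{⊗ n}` does not vanish, for `s ∈ 𝒮(U)`. -/
noncomputable def XFU (U : Y.Opens) (n : ℕ) (s : 𝒮.presheaf.obj (op U)) : X.Opens :=
  ⨆ V : {V : X.affineOpens // ∃ hVU : (V.1 : X.Opens) ≤ q ⁻¹ᵁ U,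
    ((𝒮L.deg V.1 V.2 n : AddSubgroup (𝒮L.presheaf.obj (op (V.1 : X.Opens)))) : Set (𝒮L.presheaf.obj (op (V.1 : X.Opens)))) ⊆
      (Ideal.span {(u.appLE U (V.1 : X.Opens) hVU).hom s} : Set (𝒮L.presheaf.obj (op (V.1 : X.Opens))))},
    (V.1.1 : X.Opens)

theorem mem_XFU (U : Y.Opens) (n : ℕ) (s : 𝒮.presheaf.obj (op U)) (x : X) :
    x ∈ XFU u U n s ↔ ∃ (V : X.Opens) (hV : IsAffineOpen V) (hVU : V ≤ q ⁻¹ᵁ U), x ∈ V ∧
      ((𝒮L.deg V hV n : AddSubgroup (𝒮L.presheaf.obj (op V))) : Set (𝒮L.presheaf.obj (op V))) ⊆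
        (Ideal.span {(u.appLE U V hVU).hom s} : Set (𝒮L.presheaf.obj (op V))) := by
  unfold XFU
  rw [Opens.mem_iSup]
  constructor
  · rintro ⟨⟨⟨V, hV⟩, hVU, hsub⟩, hx⟩
    exact ⟨V, hV, hVU, hx, hsub⟩
  · rintro ⟨V, hV, hVU, hx, hsub⟩
    exact ⟨⟨⟨V, hV⟩, hVU, hsub⟩, hx⟩

theorem XFU_le (U : Y.Opens) (n : ℕ) (s : 𝒮.presheaf.obj (op U)) : XFU u U n s ≤ q ⁻¹ᵁ U := by
  intro x hx
  obtain ⟨V, hV, hVU, hxV, -⟩ := (mem_XFU u U n s x).mp hx
  exact hVU hxV

theorem exists_affine_of_notMem' [L.IsQuasicoherent] (hL : PicF.IsInvertible L)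
    (hj : RelProj.IsGrSymAlg L 𝒮L j) (hPL : RelProj.IsRelProj 𝒮L pL chartL)
    (U : Y.Opens) (hU : IsAffineOpen U) (d : ℕ) (f : 𝒮.presheaf.obj (op U))
    (hf : f ∈ 𝒮.deg U hU d)
    (V : X.Opens) (hV : IsAffineOpen V) (hVU : V ≤ q ⁻¹ᵁ U) (y : Proj (𝒮L.deg V hV))
    (hy : (u.appLE U V hVU).hom f ∉ y.asHomogeneousIdeal) :
    ∃ (V' : X.Opens) (hV' : IsAffineOpen V') (hV'U : V' ≤ q ⁻¹ᵁ U),
      pL.base ((RelProj.emb pL chartL V hV).base y) ∈ V' ∧
      ((𝒮L.deg V' hV' d : AddSubgroup (𝒮L.presheaf.obj (op V'))) :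
          Set (𝒮L.presheaf.obj (op V'))) ⊆
        (Ideal.span {(u.appLE U V' hV'U).hom f} : Set (𝒮L.presheaf.obj (op V'))) := by
  have hxV : pL.base ((RelProj.emb pL chartL V hV).base y) ∈ V := emb_mem pL chartL V hV y
  obtain ⟨U₀, e₀, hxU₀, he₀⟩ := (isInvertible_iff_exists_isBasisOver L).mp hL
    (pL.base ((RelProj.emb pL chartL V hV).base y))
  obtain ⟨r, hrU₀, hxr⟩ := hV.exists_basicOpen_le ⟨_, hxU₀⟩ hxV
  have hW : IsAffineOpen (X.basicOpen r) := hV.basicOpen r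
  have hWV : X.basicOpen r ≤ V := X.basicOpen_le r
  have hWU : X.basicOpen r ≤ q ⁻¹ᵁ U := hWV.trans hVU
  have he : IsBasisOver L (X.basicOpen r) (L.presheaf.map (homOfLE hrU₀).op e₀) := he₀.mono hrU₀
  obtain ⟨N1, -⟩ := exists_N hj (X.basicOpen r) hW _ he
  have irr' := irr_res (𝒜 := 𝒮L) V (X.basicOpen r) hV hW hWV r rfl
  obtain ⟨w, hw⟩ := exists_emb pL chartL ((RelProj.emb pL chartL V hV).base y) (X.basicOpen r)
    hW hxr
  have e1 : (Proj.map (𝒮L.res hV hW hWV) irr').base w = y := by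
    apply (RelProj.emb pL chartL V hV).isOpenEmbedding.injective
    have k1 := congrArg (fun k : Proj (𝒮L.deg (X.basicOpen r) hW) ⟶ PL => k.base w)
      (emb_res pL chartL hPL V (X.basicOpen r) hV hW hWV r rfl irr')
    exact k1.trans hw
  have hsW : (𝒮L.presheaf.map (homOfLE hWV).op).hom ((u.appLE U V hVU).hom f) =
      (u.appLE U (X.basicOpen r) hWU).hom f :=
    congrArg (fun t : 𝒮.presheaf.obj (op U) ⟶ 𝒮L.presheaf.obj (op (X.basicOpen r)) => t.hom f)
      (u.appLE_map hVU hWV)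
  have hsw : (u.appLE U (X.basicOpen r) hWU).hom f ∉ w.asHomogeneousIdeal := by
    intro hcon
    apply hy
    have h5 : (𝒮L.res hV hW hWV) ((u.appLE U V hVU).hom f) ∈ w.asHomogeneousIdeal := by
      rw [RelProj.QCGrAlg.res_apply, hsW]
      exact hcon
    rw [← e1]
    exact h5
  have hsdeg : (u.appLE U (X.basicOpen r) hWU).hom f ∈ 𝒮L.deg (X.basicOpen r) hW d :=
    u.map_mem U hU (X.basicOpen r) hW hWU hf
  obtain ⟨a, ha⟩ := N1 d _ hsdeg
  have haw : (𝒮L.str.app (op (X.basicOpen r))).hom a ∉ w.asHomogeneousIdeal := by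
    intro hcon
    apply hsw
    rw [ha]
    exact Ideal.mul_mem_right _ w.asHomogeneousIdeal.toIdeal hcon
  have hxa : pL.base ((RelProj.emb pL chartL (X.basicOpen r) hW).base w) ∈ X.basicOpen a :=
    (pL_emb_mem_basicOpen_iff chartL hPL (X.basicOpen r) hW w a).mpr haw
  rw [hw] at hxa
  have hV' : IsAffineOpen (X.basicOpen a) := hW.basicOpen a
  have hV'W : X.basicOpen a ≤ X.basicOpen r := X.basicOpen_le a
  have hV'U : X.basicOpen a ≤ q ⁻¹ᵁ U := hV'W.trans hWU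
  refine ⟨X.basicOpen a, hV', hV'U, hxa, ?_⟩
  have he' : IsBasisOver L (X.basicOpen a)
      (L.presheaf.map (homOfLE hV'W).op (L.presheaf.map (homOfLE hrU₀).op e₀)) := he.mono hV'W
  obtain ⟨N1', -⟩ := exists_N hj (X.basicOpen a) hV' _ he'
  have hun : IsUnit ((X.presheaf.map (homOfLE hV'W).op).hom a) :=
    X.toRingedSpace.isUnit_res_basicOpen a
  obtain ⟨c, hc⟩ := hun.exists_right_inv
  have hs' : (u.appLE U (X.basicOpen a) hV'U).hom f =
      (𝒮L.str.app (op (X.basicOpen a))).hom ((X.presheaf.map (homOfLE hV'W).op).hom a) *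
        (Groth.Agent.H6.QA.sec j (X.basicOpen a)
          (L.presheaf.map (homOfLE hV'W).op (L.presheaf.map (homOfLE hrU₀).op e₀))) ^ d := by
    have h1 : (𝒮L.presheaf.map (homOfLE hV'W).op).hom
        ((u.appLE U (X.basicOpen r) hWU).hom f) =
        (u.appLE U (X.basicOpen a) hV'U).hom f :=
      congrArg (fun t : 𝒮.presheaf.obj (op U) ⟶ 𝒮L.presheaf.obj (op (X.basicOpen a)) => t.hom f)
        (u.appLE_map hWU hV'W)
    rw [← h1, ha, map_mul, map_pow, Groth.Agent.H6.QA.str_res, Groth.Agent.H6.QA.sec_res]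
  intro z hz
  obtain ⟨b, hb⟩ := N1' d z hz
  show z ∈ Ideal.span {(u.appLE U (X.basicOpen a) hV'U).hom f}
  rw [Ideal.mem_span_singleton']
  refine ⟨(𝒮L.str.app (op (X.basicOpen a))).hom (b * c), ?_⟩
  have h2 : (𝒮L.str.app (op (X.basicOpen a))).hom ((X.presheaf.map (homOfLE hV'W).op).hom a) *
      (𝒮L.str.app (op (X.basicOpen a))).hom c = 1 := by
    rw [← map_mul, hc, map_one]
  rw [hs', hb, map_mul]
  linear_combination ((𝒮L.str.app (op (X.basicOpen a))).hom b *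
    (Groth.Agent.H6.QA.sec j (X.basicOpen a)
      (L.presheaf.map (homOfLE hV'W).op (L.presheaf.map (homOfLE hrU₀).op e₀))) ^ d) * h2

variable (hL : PicF.IsInvertible L) (hLq : Coh.IsQCoh L) (hj : RelProj.IsGrSymAlg L 𝒮L j)
  (hP : RelProj.IsRelProj 𝒮 p chart) (hPL : RelProj.IsRelProj 𝒮L pL chartL)
  (r : ((RelProj.domQ u pL chartL : PL.Opens) : Scheme.{u}) ⟶ P)
  (hr : RelProj.IsProjQMapOn u p chart pL chartL (RelProj.domQ u pL chartL) r)

include hL hLq hj hP hPL hr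

theorem q_mem_of_mem_emb (U : Y.Opens) (hU : IsAffineOpen U)
    (e : ((RelProj.domQ u pL chartL : PL.Opens) : Scheme.{u}))
    (O : (Proj (𝒮.deg U hU)).Opens)
    (he : r.base e ∈ (RelProj.emb p chart U hU) ''ᵁ O) :
    q.base (pL.base ((RelProj.domQ u pL chartL).ι.base e)) ∈ U := by
  have hover : r ≫ p = (RelProj.domQ u pL chartL).ι ≫ pL ≫ q :=
    v_over u p chart pL chartL hP hPL r ((isProjQMapOn_iff u p chart pL chartL r).mp hr)
  obtain ⟨z, hz, hze⟩ := he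
  have h1 : p.base (r.base e) ∈ U := by
    rw [← hze]; exact emb_mem p chart U hU z
  have h2 := congrArg (fun t : ((RelProj.domQ u pL chartL : PL.Opens) : Scheme.{u}) ⟶ Y =>
    t.base e) hover
  have h3 : p.base (r.base e) =
      q.base (pL.base ((RelProj.domQ u pL chartL).ι.base e)) := h2
  rw [← h3]; exact h1

theorem preimage_eq_XFU (U : Y.Opens) (hU : IsAffineOpen U) {d : ℕ} (hd : 0 < d)
    (f : 𝒮.presheaf.obj (op U)) (hf : f ∈ 𝒮.deg U hU d) :
    (RelProj.domQ u pL chartL).ι ''ᵁ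
        (r ⁻¹ᵁ ((RelProj.emb p chart U hU) ''ᵁ Proj.basicOpen (𝒮.deg U hU) f)) =
      pL ⁻¹ᵁ XFU u U d f := by
  haveI : L.IsQuasicoherent := hLq
  refine SetLike.ext (fun x' => ⟨?_, ?_⟩)
  · rintro ⟨e, he, rfl⟩
    have hqU := q_mem_of_mem_emb u chart chartL hL hLq hj hP hPL r hr U hU e _ he
    obtain ⟨V, hV, hxV, hVU⟩ := Opens.isBasis_iff_nbhd.mp X.isBasis_affineOpens
      (show pL.base ((RelProj.domQ u pL chartL).ι.base e) ∈ q ⁻¹ᵁ U from hqU)
    replace hV : IsAffineOpen V := hV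
    obtain ⟨y, hy1, hy2⟩ :=
      exists_y_of_mem_preimage' u chart chartL hPL r hr U hU hd f hf e he V hV hVU hxV
    obtain ⟨V', hV', hV'U, hxV', hsub⟩ :=
      exists_affine_of_notMem' u chartL hL hj hPL U hU d f hf V hV hVU y hy2
    rw [hy1] at hxV'
    exact (mem_XFU u U d f _).mpr ⟨V', hV', hV'U, hxV', hsub⟩
  · intro hx'
    obtain ⟨V, hV, hVU, hxV, hsub⟩ := (mem_XFU u U d f (pL.base x')).mp hx'
    obtain ⟨y, rfl⟩ := exists_emb pL chartL x' V hV hxV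
    have hsy := notMem_of_deg_le_span hj V hV y hd _ hsub
    obtain ⟨e, he1, he2⟩ := exists_e_of_notMem' u chart chartL r hr U hU hd f hf V hV hVU y hsy
    exact ⟨e, he2, he1⟩

theorem mem_preimage_iff (U : Y.Opens) (hU : IsAffineOpen U) {d : ℕ} (hd : 0 < d) (f : 𝒮.presheaf.obj (op U))
    (hf : f ∈ 𝒮.deg U hU d) (e : ((RelProj.domQ u pL chartL : PL.Opens) : Scheme.{u})) :
    r.base e ∈ (RelProj.emb p chart U hU) ''ᵁ Proj.basicOpen (𝒮.deg U hU) f ↔
      pL.base ((RelProj.domQ u pL chartL).ι.base e) ∈ XFU u U d f := by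
  have h := preimage_eq_XFU u chart chartL hL hLq hj hP hPL r hr U hU hd f hf
  constructor
  · intro he
    have h1 : (RelProj.domQ u pL chartL).ι.base e ∈ (RelProj.domQ u pL chartL).ι ''ᵁ
        (r ⁻¹ᵁ ((RelProj.emb p chart U hU) ''ᵁ Proj.basicOpen (𝒮.deg U hU) f)) := ⟨e, he, rfl⟩
    rw [h] at h1
    exact h1
  · intro hx
    have h1 : (RelProj.domQ u pL chartL).ι.base e ∈ pL ⁻¹ᵁ XFU u U d f := hx
    rw [← h] at h1
    obtain ⟨e', he', hee⟩ := h1
    have h2 := (RelProj.domQ u pL chartL).ι.isOpenEmbedding.injective hee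
    subst h2
    exact he'

theorem notMem_of_mem_XFU (U : Y.Opens) (hU : IsAffineOpen U) {n : ℕ} (hn : 0 < n) (s : 𝒮.presheaf.obj (op U)) (V : X.Opens)
    (hV : IsAffineOpen V) (hVU : V ≤ q ⁻¹ᵁ U) (y : Proj (𝒮L.deg V hV))
    (hx : pL.base ((RelProj.emb pL chartL V hV).base y) ∈ XFU u U n s) :
    (u.appLE U V hVU).hom s ∉ y.asHomogeneousIdeal := by
  haveI : L.IsQuasicoherent := hLq
  obtain ⟨V', hV', hV'U, hxV', hsub⟩ := (mem_XFU u U n s _).mp hx
  have hxV : pL.base ((RelProj.emb pL chartL V hV).base y) ∈ V := emb_mem pL chartL V hV y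
  obtain ⟨f, g, hfg, hxf⟩ := exists_basicOpen_le_affine_inter hV hV' _ ⟨hxV, hxV'⟩
  have hW : IsAffineOpen (X.basicOpen f) := hV.basicOpen f
  have hWV : X.basicOpen f ≤ V := X.basicOpen_le f
  have hWV' : X.basicOpen f ≤ V' := by rw [hfg]; exact X.basicOpen_le g
  have irr := irr_res (𝒜 := 𝒮L) V (X.basicOpen f) hV hW hWV f rfl
  have irr' := irr_res (𝒜 := 𝒮L) V' (X.basicOpen f) hV' hW hWV' g hfg
  obtain ⟨w, hw⟩ := exists_emb pL chartL ((RelProj.emb pL chartL V hV).base y) (X.basicOpen f)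
    hW hxf
  have e1 : (Proj.map (𝒮L.res hV hW hWV) irr).base w = y := by
    apply (RelProj.emb pL chartL V hV).isOpenEmbedding.injective
    have k1 := congrArg (fun k : Proj (𝒮L.deg (X.basicOpen f) hW) ⟶ PL => k.base w)
      (emb_res pL chartL hPL V (X.basicOpen f) hV hW hWV f rfl irr)
    exact k1.trans hw
  have hsy' := notMem_of_deg_le_span hj V' hV'
    ((Proj.map (𝒮L.res hV' hW hWV') irr').base w) hn _ hsub
  have hsW' : (𝒮L.presheaf.map (homOfLE hWV').op).hom ((u.appLE U V' hV'U).hom s) =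
      (u.appLE U (X.basicOpen f) (hWV.trans hVU)).hom s :=
    congrArg (fun t : 𝒮.presheaf.obj (op U) ⟶ 𝒮L.presheaf.obj (op (X.basicOpen f)) => t.hom s)
      (u.appLE_map hV'U hWV')
  have hsW : (𝒮L.presheaf.map (homOfLE hWV).op).hom ((u.appLE U V hVU).hom s) =
      (u.appLE U (X.basicOpen f) (hWV.trans hVU)).hom s :=
    congrArg (fun t : 𝒮.presheaf.obj (op U) ⟶ 𝒮L.presheaf.obj (op (X.basicOpen f)) => t.hom s)
      (u.appLE_map hVU hWV)
  intro hcon
  apply hsy'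
  rw [← e1] at hcon
  have h5 : (𝒮L.res hV hW hWV) ((u.appLE U V hVU).hom s) ∈ w.asHomogeneousIdeal := hcon
  rw [RelProj.QCGrAlg.res_apply, hsW] at h5
  show (𝒮L.res hV' hW hWV') ((u.appLE U V' hV'U).hom s) ∈ w.asHomogeneousIdeal
  rw [RelProj.QCGrAlg.res_apply, hsW']
  exact h5

theorem forall_notMem (U : Y.Opens) (hU : IsAffineOpen U) {n : ℕ} (hn : 0 < n) (s : 𝒮.presheaf.obj (op U))
    (hT : IsAffineOpen (XFU u U n s)) (y : Proj (𝒮L.deg (XFU u U n s) hT)) :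
    (u.appLE U (XFU u U n s) (XFU_le u U n s)).hom s ∉ y.asHomogeneousIdeal :=
  notMem_of_mem_XFU u chart chartL hL hLq hj hP hPL r hr U hU hn s _ hT (XFU_le u U n s) y
    (emb_mem pL chartL _ hT y)

theorem opensRange_aq_eq (U : Y.Opens) (hU : IsAffineOpen U) {n : ℕ} (hn : 0 < n) (s : 𝒮.presheaf.obj (op U))
    (hs : s ∈ 𝒮.deg U hU n) (hT : IsAffineOpen (XFU u U n s)) :
    (aq u pL chartL U hU (XFU u U n s) hT (XFU_le u U n s) hn s hs).opensRange =
      r ⁻¹ᵁ ((RelProj.emb p chart U hU) ''ᵁ Proj.basicOpen (𝒮.deg U hU) s) := by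
  have hr' := (isProjQMapOn_iff u p chart pL chartL r).mp hr
  ext e
  constructor
  · rintro ⟨w, rfl⟩
    have h3 := congrArg (fun t : Spec (CommRingCat.of (Away (𝒮L.deg (XFU u U n s) hT)
      ((u.gradedAt U hU (XFU u U n s) hT (XFU_le u U n s)) s))) ⟶ P => t.base w)
      (hr' U hU (XFU u U n s) hT (XFU_le u U n s) n hn s hs)
    show r.base ((aq u pL chartL U hU (XFU u U n s) hT (XFU_le u U n s) hn s hs).base w) ∈
      (RelProj.emb p chart U hU) ''ᵁ Proj.basicOpen (𝒮.deg U hU) s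
    exact ⟨_, awayι_mem_basicOpen (𝒮.deg U hU) hn s hs
      ((Spec.map (CommRingCat.ofHom
        (Away.map (u.gradedAt U hU (XFU u U n s) hT (XFU_le u U n s)) s))).base w), h3.symm⟩
  · intro he
    have he' : r.base e ∈ (RelProj.emb p chart U hU) ''ᵁ Proj.basicOpen (𝒮.deg U hU) s := he
    have hx := (mem_preimage_iff u chart chartL hL hLq hj hP hPL r hr U hU hn s hs e).mp he'
    obtain ⟨y, hy⟩ := exists_emb pL chartL ((RelProj.domQ u pL chartL).ι.base e) (XFU u U n s) hT hx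
    have hsy := forall_notMem u chart chartL hL hLq hj hP hPL r hr U hU hn s hT y
    obtain ⟨w, hw⟩ := exists_awayι_eq (𝒮L.deg (XFU u U n s) hT) hn _
      (Graded.map_mem (u.gradedAt U hU (XFU u U n s) hT (XFU_le u U n s)) hs) y hsy
    refine ⟨w, ?_⟩
    apply (RelProj.domQ u pL chartL).ι.isOpenEmbedding.injective
    have k1 := congrArg (fun t : Spec (CommRingCat.of (Away (𝒮L.deg (XFU u U n s) hT)
      ((u.gradedAt U hU (XFU u U n s) hT (XFU_le u U n s)) s))) ⟶ PL => t.base w)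
      (aq_ι u pL chartL U hU (XFU u U n s) hT (XFU_le u U n s) hn s hs)
    have k2 : (RelProj.awayEmb u pL chartL U hU (XFU u U n s) hT (XFU_le u U n s) hn s hs).base w =
        (RelProj.emb pL chartL (XFU u U n s) hT).base y := by
      show (RelProj.emb pL chartL (XFU u U n s) hT).base ((Proj.awayι _ _ _ _).base w) = _
      rw [hw]
    exact (k1.trans k2).trans hy

theorem tau_bijective (U : Y.Opens) (hU : IsAffineOpen U) {n : ℕ} (hn : 0 < n) (s : 𝒮.presheaf.obj (op U))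
    (hs : s ∈ 𝒮.deg U hU n) (hT : IsAffineOpen (XFU u U n s)) :
    Function.Bijective (𝒮L.strZero (XFU u U n s) hT ≫
      CommRingCat.ofHom (fromZeroRingHom (𝒮L.deg (XFU u U n s) hT)
        (Submonoid.powers ((u.gradedAt U hU (XFU u U n s) hT (XFU_le u U n s)) s)))).hom := by
  haveI : IsIso pL := main_S12143 L hL hLq 𝒮L j hj pL chartL hPL
  rw [← isIso_SpecMap_iff]
  have hover := awayEmb_over u pL chartL hPL U hU (XFU u U n s) hT (XFU_le u U n s) hn s hs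
  haveI h1 : IsOpenImmersion (Spec.map (𝒮L.strZero (XFU u U n s) hT ≫
      CommRingCat.ofHom (fromZeroRingHom (𝒮L.deg (XFU u U n s) hT)
        (Submonoid.powers ((u.gradedAt U hU (XFU u U n s) hT (XFU_le u U n s)) s)))) ≫
      hT.fromSpec) := by
    rw [← hover]; infer_instance
  haveI h2 : IsOpenImmersion (Spec.map (𝒮L.strZero (XFU u U n s) hT ≫
      CommRingCat.ofHom (fromZeroRingHom (𝒮L.deg (XFU u U n s) hT)
        (Submonoid.powers ((u.gradedAt U hU (XFU u U n s) hT (XFU_le u U n s)) s))))) :=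
    IsOpenImmersion.of_comp _ hT.fromSpec
  rw [isIso_iff_isOpenImmersion_and_epi_base]
  refine ⟨h2, ?_⟩
  rw [TopCat.epi_iff_surjective]
  intro 𝔭
  have hxT : hT.fromSpec.base 𝔭 ∈ XFU u U n s := by
    have h3 : hT.fromSpec.base 𝔭 ∈ Set.range hT.fromSpec.base := ⟨𝔭, rfl⟩
    rw [hT.range_fromSpec] at h3
    exact h3
  obtain ⟨x', hx'⟩ : ∃ x', pL.base x' = hT.fromSpec.base 𝔭 := pL.homeomorph.surjective _
  obtain ⟨y, hy⟩ := exists_emb pL chartL x' (XFU u U n s) hT (by rw [hx']; exact hxT)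
  have hsy := forall_notMem u chart chartL hL hLq hj hP hPL r hr U hU hn s hT y
  obtain ⟨w, hw⟩ := exists_awayι_eq (𝒮L.deg (XFU u U n s) hT) hn _
    (Graded.map_mem (u.gradedAt U hU (XFU u U n s) hT (XFU_le u U n s)) hs) y hsy
  refine ⟨w, ?_⟩
  apply hT.fromSpec.isOpenEmbedding.injective
  have k1 := congrArg (fun t : Spec (CommRingCat.of (Away (𝒮L.deg (XFU u U n s) hT)
      ((u.gradedAt U hU (XFU u U n s) hT (XFU_le u U n s)) s))) ⟶ X => t.base w) hover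
  have k2 : (RelProj.awayEmb u pL chartL U hU (XFU u U n s) hT (XFU_le u U n s) hn s hs ≫ pL).base w =
      hT.fromSpec.base 𝔭 := by
    show pL.base ((RelProj.emb pL chartL (XFU u U n s) hT).base ((Proj.awayι _ _ _ _).base w)) = _
    rw [hw, hy, hx']
  exact k1.symm.trans k2

theorem isPullback_chart (U : Y.Opens) (hU : IsAffineOpen U) {n : ℕ} (hn : 0 < n) (s : 𝒮.presheaf.obj (op U))
    (hs : s ∈ 𝒮.deg U hU n) (hT : IsAffineOpen (XFU u U n s))
    {Z : Scheme.{u}} (m : Z ⟶ P) [IsOpenImmersion m]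
    (r' : ((RelProj.domQ u pL chartL : PL.Opens) : Scheme.{u}) ⟶ Z) (hr' : r' ≫ m = r)
    (k : Spec (CommRingCat.of (Away (𝒮.deg U hU) s)) ⟶ Z)
    (hk : k ≫ m = Proj.awayι (𝒮.deg U hU) s hs hn ≫ RelProj.emb p chart U hU) :
    IsPullback (Spec.map (CommRingCat.ofHom
        (Away.map (u.gradedAt U hU (XFU u U n s) hT (XFU_le u U n s)) s)))
      (aq u pL chartL U hU (XFU u U n s) hT (XFU_le u U n s) hn s hs) k r' := by
  have hr'' := (isProjQMapOn_iff u p chart pL chartL r).mp hr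
  haveI : IsOpenImmersion k := by
    haveI : IsOpenImmersion (k ≫ m) := by rw [hk]; infer_instance
    exact IsOpenImmersion.of_comp k m
  have a3 : ∀ v, m.base (k.base v) = (RelProj.emb p chart U hU).base
      ((Proj.awayι (𝒮.deg U hU) s hs hn).base v) := fun v =>
    congrArg (fun t : Spec (CommRingCat.of (Away (𝒮.deg U hU) s)) ⟶ P => t.base v) hk
  have a4 : ∀ e, m.base (r'.base e) = r.base e := fun e =>
    congrArg (fun t : ((RelProj.domQ u pL chartL : PL.Opens) : Scheme.{u}) ⟶ P => t.base e) hr'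
  apply IsOpenImmersion.isPullback
  · rw [← cancel_mono m, Category.assoc, Category.assoc, hr', hk]
    exact hr'' U hU (XFU u U n s) hT (XFU_le u U n s) n hn s hs
  · rw [opensRange_aq_eq u chart chartL hL hLq hj hP hPL r hr U hU hn s hs hT]
    ext e
    constructor
    · rintro ⟨v, hv⟩
      have hv' : k.base v = r'.base e := hv
      show r.base e ∈ (RelProj.emb p chart U hU) ''ᵁ Proj.basicOpen (𝒮.deg U hU) s
      rw [← a4 e, ← hv', a3 v]
      exact ⟨_, awayι_mem_basicOpen _ hn s hs v, rfl⟩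
    · rintro ⟨z, hz, hze⟩
      obtain ⟨v, rfl⟩ := exists_awayι_eq (𝒮.deg U hU) hn s hs z hz
      refine ⟨v, ?_⟩
      apply m.isOpenEmbedding.injective
      exact ((a3 v).trans hze).trans (a4 e).symm

theorem core_of_factor (U : Y.Opens) (hU : IsAffineOpen U) {Z : Scheme.{u}} (m : Z ⟶ P) [IsOpenImmersion m]
    (r' : ((RelProj.domQ u pL chartL : PL.Opens) : Scheme.{u}) ⟶ Z) (hr' : r' ≫ m = r)
    [IsClosedImmersion r']
    {n : ℕ} (hn : 0 < n) (s : 𝒮.presheaf.obj (op U)) (hs : s ∈ 𝒮.deg U hU n)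
    (hD : (RelProj.emb p chart U hU) ''ᵁ Proj.basicOpen (𝒮.deg U hU) s ≤ m.opensRange) :
    ∃ hT : IsAffineOpen (XFU u U n s),
      Function.Surjective (Away.map (u.gradedAt U hU (XFU u U n s) hT (XFU_le u U n s)) s) ∧
      (IsIso r' → Function.Injective
        (Away.map (u.gradedAt U hU (XFU u U n s) hT (XFU_le u U n s)) s)) := by
  haveI : IsIso pL := main_S12143 L hL hLq 𝒮L j hj pL chartL hPL
  have hS := preimage_eq_XFU u chart chartL hL hLq hj hP hPL r hr U hU hn s hs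
  have hjr : (Proj.awayι (𝒮.deg U hU) s hs hn ≫ RelProj.emb p chart U hU).opensRange =
      (RelProj.emb p chart U hU) ''ᵁ Proj.basicOpen (𝒮.deg U hU) s := by
    ext x
    constructor
    · rintro ⟨v, rfl⟩
      exact ⟨_, awayι_mem_basicOpen _ hn s hs v, rfl⟩
    · rintro ⟨z, hz, rfl⟩
      obtain ⟨v, rfl⟩ := exists_awayι_eq (𝒮.deg U hU) hn s hs z hz
      exact ⟨v, rfl⟩
  have hDaff : IsAffineOpen ((RelProj.emb p chart U hU) ''ᵁ
      Proj.basicOpen (𝒮.deg U hU) s) := by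
    rw [← hjr]; exact isAffineOpen_opensRange _
  have h1 : IsAffineOpen (r' ⁻¹ᵁ (m ⁻¹ᵁ ((RelProj.emb p chart U hU) ''ᵁ
      Proj.basicOpen (𝒮.deg U hU) s))) :=
    (hDaff.preimage_of_isOpenImmersion m hD).preimage r'
  have h2 : r' ⁻¹ᵁ (m ⁻¹ᵁ ((RelProj.emb p chart U hU) ''ᵁ
      Proj.basicOpen (𝒮.deg U hU) s)) =
      r ⁻¹ᵁ ((RelProj.emb p chart U hU) ''ᵁ Proj.basicOpen (𝒮.deg U hU) s) := by
    rw [← hr']; rfl
  rw [h2] at h1
  have h3 := h1.image_of_isOpenImmersion (RelProj.domQ u pL chartL).ι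
  rw [hS] at h3
  have h4 := h3.image_of_isOpenImmersion pL
  have h5 : pL ''ᵁ (pL ⁻¹ᵁ XFU u U n s) = XFU u U n s := by
    ext x
    constructor
    · rintro ⟨x', hx', rfl⟩
      exact hx'
    · intro hx
      obtain ⟨x', hx'⟩ : ∃ x', pL.base x' = x := pL.homeomorph.surjective x
      subst hx'
      exact ⟨x', hx, rfl⟩
  rw [h5] at h4
  have hrange : Set.range (Proj.awayι (𝒮.deg U hU) s hs hn ≫
      RelProj.emb p chart U hU).base ⊆ Set.range m.base := by
    rintro _ ⟨v, rfl⟩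
    exact hD ⟨_, awayι_mem_basicOpen _ hn s hs v, rfl⟩
  have sq := isPullback_chart u chart chartL hL hLq hj hP hPL r hr U hU hn s hs h4 m r' hr'
    (IsOpenImmersion.lift m _ hrange) (IsOpenImmersion.lift_fac _ _ _)
  refine ⟨h4, ?_, ?_⟩
  · haveI : IsClosedImmersion (Spec.map (CommRingCat.ofHom
        (Away.map (u.gradedAt U hU (XFU u U n s) h4 (XFU_le u U n s)) s))) :=
      MorphismProperty.of_isPullback (P := @IsClosedImmersion) sq.flip inferInstance
    exact surjective_of_isClosedImmersion_SpecMap (CommRingCat.ofHom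
      (Away.map (u.gradedAt U hU (XFU u U n s) h4 (XFU_le u U n s)) s))
  · intro hiso
    haveI := hiso
    have h6 : (MorphismProperty.isomorphisms Scheme.{u}) (Spec.map (CommRingCat.ofHom
        (Away.map (u.gradedAt U hU (XFU u U n s) h4 (XFU_le u U n s)) s))) :=
      MorphismProperty.of_isPullback (P := MorphismProperty.isomorphisms Scheme.{u}) sq.flip
        (MorphismProperty.isomorphisms.infer_property r')
    have h7 : IsIso (Spec.map (CommRingCat.ofHom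
        (Away.map (u.gradedAt U hU (XFU u U n s) h4 (XFU_le u U n s)) s))) :=
      (MorphismProperty.isomorphisms.iff _).mp h6
    exact (isIso_SpecMap_iff.mp h7).1

theorem mem_domQ_of_mem_XFU (U : Y.Opens) (hU : IsAffineOpen U) {n : ℕ} (hn : 0 < n)
    (s : 𝒮.presheaf.obj (op U)) (hs : s ∈ 𝒮.deg U hU n) (x' : PL)
    (hx : pL.base x' ∈ XFU u U n s) : x' ∈ RelProj.domQ u pL chartL := by
  haveI : L.IsQuasicoherent := hLq
  obtain ⟨V, hV, hVU, hxV, hsub⟩ := (mem_XFU u U n s _).mp hx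
  obtain ⟨y, rfl⟩ := exists_emb pL chartL x' V hV hxV
  show _ ∈ RelProj.domQ u pL chartL
  rw [mem_domQ_iff u pL chartL hPL U hU V hV hVU y, RelCone.mem_domOpen]
  exact ⟨s, HomogeneousIdeal.mem_irrelevant_of_mem _ hn hs,
    notMem_of_deg_le_span hj V hV y hn _ hsub⟩

theorem exists_family_of_factor' (hdom : RelProj.domQ u pL chartL = ⊤) {Z : Scheme.{u}}
    (m : Z ⟶ P) [IsOpenImmersion m]
    (r' : ((RelProj.domQ u pL chartL : PL.Opens) : Scheme.{u}) ⟶ Z) (hr' : r' ≫ m = r)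
    [IsClosedImmersion r'] :
    ∃ (ι : Type u) (U : ι → Y.Opens) (hU : ∀ a, IsAffineOpen (U a)) (n : ι → ℕ)
      (s : ∀ a, 𝒮.presheaf.obj (op (U a))),
      (∀ a, 0 < n a ∧ s a ∈ 𝒮.deg (U a) (hU a) (n a)) ∧
      (⨆ a, XFU u (U a) (n a) (s a)) = ⊤ ∧
      (∀ a, ∃ hT : IsAffineOpen (XFU u (U a) (n a) (s a)),
        Function.Surjective
          (Away.map (u.gradedAt (U a) (hU a) (XFU u (U a) (n a) (s a)) hT
            (XFU_le u (U a) (n a) (s a))) (s a))) := by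
  haveI : IsIso pL := main_S12143 L hL hLq 𝒮L j hj pL chartL hPL
  refine ⟨{a : Σ (U : {U : Y.Opens // IsAffineOpen U}), ℕ × 𝒮.presheaf.obj (op (U.1 : Y.Opens)) //
      0 < a.2.1 ∧ a.2.2 ∈ 𝒮.deg a.1.1 a.1.2 a.2.1 ∧
      (RelProj.emb p chart a.1.1 a.1.2) ''ᵁ Proj.basicOpen (𝒮.deg a.1.1 a.1.2) a.2.2 ≤
        m.opensRange},
    fun a => a.1.1.1, fun a => a.1.1.2, fun a => a.1.2.1, fun a => a.1.2.2,
    fun a => ⟨a.2.1, a.2.2.1⟩, ?_, ?_⟩
  · rw [eq_top_iff]
    intro x _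
    obtain ⟨x', hx'⟩ : ∃ x', pL.base x' = x := pL.homeomorph.surjective x
    have hx'd : x' ∈ RelProj.domQ u pL chartL := by rw [hdom]; trivial
    obtain ⟨e, he⟩ : ∃ e : ((RelProj.domQ u pL chartL : PL.Opens) : Scheme.{u}),
        (RelProj.domQ u pL chartL).ι.base e = x' := ⟨⟨x', hx'd⟩, rfl⟩
    have hre : r.base e ∈ m.opensRange := by
      have a4 : m.base (r'.base e) = r.base e :=
        congrArg (fun t : ((RelProj.domQ u pL chartL : PL.Opens) : Scheme.{u}) ⟶ P =>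
          t.base e) hr'
      rw [← a4]; exact ⟨_, rfl⟩
    obtain ⟨U, hU, hzU, -⟩ := Opens.isBasis_iff_nbhd.mp Y.isBasis_affineOpens
      (show p.base (r.base e) ∈ (⊤ : Y.Opens) from trivial)
    replace hU : IsAffineOpen U := hU
    obtain ⟨z, hz⟩ := exists_emb p chart (r.base e) U hU hzU
    have hzO : z ∈ (RelProj.emb p chart U hU) ⁻¹ᵁ m.opensRange := by
      show (RelProj.emb p chart U hU).base z ∈ m.opensRange
      rw [hz]; exact hre
    obtain ⟨k, hk, g, hg, hzg, hgO⟩ := rl_exists_homog_basicOpen_le (𝒮.deg U hU) z _ hzO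
    have hD : (RelProj.emb p chart U hU) ''ᵁ Proj.basicOpen (𝒮.deg U hU) g ≤ m.opensRange := by
      rintro _ ⟨z₁, hz₁, rfl⟩
      exact hgO hz₁
    refine Opens.mem_iSup.mpr ⟨⟨⟨⟨U, hU⟩, (k, g)⟩, hk, hg, hD⟩, ?_⟩
    show x ∈ XFU u U k g
    rw [← hx', ← he]
    exact (mem_preimage_iff u chart chartL hL hLq hj hP hPL r hr U hU hk g hg e).mp ⟨z, hzg, hz⟩
  · rintro ⟨⟨⟨U, hU⟩, k, g⟩, hk, hg, hD⟩
    have hk' : 0 < k := hk
    have hg' : g ∈ 𝒮.deg U hU k := hg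
    have hD' : (RelProj.emb p chart U hU) ''ᵁ Proj.basicOpen (𝒮.deg U hU) g ≤ m.opensRange := hD
    have key := core_of_factor u chart chartL hL hLq hj hP hPL r hr U hU
      m r' hr' hk' g hg' hD'
    obtain ⟨hT, hsurj, -⟩ := key
    exact ⟨hT, hsurj⟩

theorem exists_lift_of_family' {Pr : MorphismProperty Scheme.{u}} [IsZariskiLocalAtTarget Pr]
    {ι : Type u} (U : ι → Y.Opens) (hU : ∀ a, IsAffineOpen (U a)) (n : ι → ℕ)
    (s : ∀ a, 𝒮.presheaf.obj (op (U a)))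
    (hns : ∀ a, 0 < n a ∧ s a ∈ 𝒮.deg (U a) (hU a) (n a))
    (hcov : (⨆ a, XFU u (U a) (n a) (s a)) = ⊤)
    (hT : ∀ a, IsAffineOpen (XFU u (U a) (n a) (s a)))
    (hPr : ∀ a, Pr (Spec.map (CommRingCat.ofHom
      (Away.map (u.gradedAt (U a) (hU a) (XFU u (U a) (n a) (s a)) (hT a)
        (XFU_le u (U a) (n a) (s a))) (s a))))) :
    ∃ (O : P.Opens) (r' : ((RelProj.domQ u pL chartL : PL.Opens) : Scheme.{u}) ⟶
        (O : Scheme.{u})),
      r' ≫ O.ι = r ∧ Pr r' := by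
  obtain ⟨O, hO⟩ : ∃ O : P.Opens,
      O = ⨆ a, (RelProj.emb p chart (U a) (hU a)) ''ᵁ
        Proj.basicOpen (𝒮.deg (U a) (hU a)) (s a) := ⟨_, rfl⟩
  have hrange : Set.range r.base ⊆ Set.range O.ι.base := by
    rw [Scheme.Opens.range_ι]
    rintro _ ⟨e, rfl⟩
    have hx : pL.base ((RelProj.domQ u pL chartL).ι.base e) ∈
        (⨆ a, XFU u (U a) (n a) (s a)) := by
      rw [hcov]; trivial
    rw [Opens.mem_iSup] at hx
    obtain ⟨a, ha⟩ := hx
    have h1 := (mem_preimage_iff u chart chartL hL hLq hj hP hPL r hr (U a) (hU a) (hns a).1 (s a)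
      (hns a).2 e).mpr ha
    show r.base e ∈ O
    rw [hO]
    exact Opens.mem_iSup.mpr ⟨a, h1⟩
  have hfac : IsOpenImmersion.lift O.ι r hrange ≫ O.ι = r := IsOpenImmersion.lift_fac _ _ _
  have hjrange : ∀ a, Set.range (Proj.awayι (𝒮.deg (U a) (hU a)) (s a) (hns a).2 (hns a).1 ≫
      RelProj.emb p chart (U a) (hU a)).base ⊆ Set.range O.ι.base := by
    intro a
    rw [Scheme.Opens.range_ι]
    rintro _ ⟨v, rfl⟩
    show _ ∈ O
    rw [hO]
    exact Opens.mem_iSup.mpr ⟨a, _, awayι_mem_basicOpen _ (hns a).1 (s a) (hns a).2 v, rfl⟩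
  have hk : ∀ a, IsOpenImmersion.lift O.ι _ (hjrange a) ≫ O.ι =
      Proj.awayι (𝒮.deg (U a) (hU a)) (s a) (hns a).2 (hns a).1 ≫
        RelProj.emb p chart (U a) (hU a) :=
    fun a => IsOpenImmersion.lift_fac _ _ _
  have hko : ∀ a, IsOpenImmersion (IsOpenImmersion.lift O.ι _ (hjrange a)) := by
    intro a
    haveI : IsOpenImmersion (IsOpenImmersion.lift O.ι _ (hjrange a) ≫ O.ι) := by
      rw [hk a]; infer_instance
    exact IsOpenImmersion.of_comp _ O.ι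
  let 𝒰 : (O : Scheme.{u}).OpenCover := Scheme.Cover.mkOfCovers ι
    (fun a => Spec (CommRingCat.of (Away (𝒮.deg (U a) (hU a)) (s a))))
    (fun a => IsOpenImmersion.lift O.ι _ (hjrange a))
    (fun y => by
      have hy : O.ι.base y ∈ O := by
        have h3 : O.ι.base y ∈ Set.range O.ι.base := ⟨y, rfl⟩
        rw [Scheme.Opens.range_ι] at h3
        exact h3
      have hy' : O.ι.base y ∈ ⨆ a, (RelProj.emb p chart (U a) (hU a)) ''ᵁ
          Proj.basicOpen (𝒮.deg (U a) (hU a)) (s a) := hO.le hy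
      obtain ⟨a, z, hz, hzy⟩ := Opens.mem_iSup.mp hy'
      obtain ⟨v, rfl⟩ := exists_awayι_eq (𝒮.deg (U a) (hU a)) (hns a).1 (s a) (hns a).2 z hz
      refine ⟨a, v, ?_⟩
      apply O.ι.isOpenEmbedding.injective
      have a3 := congrArg (fun t : Spec (CommRingCat.of (Away (𝒮.deg (U a) (hU a)) (s a))) ⟶ P =>
        t.base v) (hk a)
      exact a3.trans hzy)
    (fun a => hko a)
  refine ⟨O, IsOpenImmersion.lift O.ι r hrange, hfac, ?_⟩
  exact ProjG.of_isPullback_openCover (P := Pr) (IsOpenImmersion.lift O.ι r hrange) 𝒰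
    (fun a => Spec (CommRingCat.of (Away (𝒮L.deg (XFU u (U a) (n a) (s a)) (hT a))
      ((u.gradedAt (U a) (hU a) (XFU u (U a) (n a) (s a)) (hT a)
        (XFU_le u (U a) (n a) (s a))) (s a)))))
    (fun a => Spec.map (CommRingCat.ofHom
      (Away.map (u.gradedAt (U a) (hU a) (XFU u (U a) (n a) (s a)) (hT a)
        (XFU_le u (U a) (n a) (s a))) (s a))))
    (fun a => aq u pL chartL (U a) (hU a) (XFU u (U a) (n a) (s a)) (hT a)
      (XFU_le u (U a) (n a) (s a)) (hns a).1 (s a) (hns a).2)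
    (fun a => isPullback_chart u chart chartL hL hLq hj hP hPL r hr (U a) (hU a) (hns a).1 (s a)
      (hns a).2 (hT a) O.ι (IsOpenImmersion.lift O.ι r hrange) hfac
      (IsOpenImmersion.lift O.ι _ (hjrange a)) (hk a))
    hPr

end Sch

/-- **General-base immersion criterion** (EGA II 3.8.3 over an arbitrary base, multi-chart form). -/
theorem imm_iff_family {Y X P PL : Scheme.{u}} (q : X ⟶ Y)
    (L : X.Modules) (hL : PicF.IsInvertible L) (hLq : Coh.IsQCoh L)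
    (𝒮 : RelProj.QCGrAlg Y) (𝒮L : RelProj.QCGrAlg X) (j : L ⟶ 𝒮L.toModule) (hj : RelProj.IsGrSymAlg L 𝒮L j)
    (u : RelProj.QGrHom q 𝒮 𝒮L)
    (p : P ⟶ Y) (chart : ∀ (U : Y.Opens) (hU : IsAffineOpen U), (((p ⁻¹ᵁ U : P.Opens) : Scheme.{u}) ≅ Proj (𝒮.deg U hU)))
    (hP : RelProj.IsRelProj 𝒮 p chart)
    (pL : PL ⟶ X) (chartL : ∀ (U : X.Opens) (hU : IsAffineOpen U), (((pL ⁻¹ᵁ U : PL.Opens) : Scheme.{u}) ≅ Proj (𝒮L.deg U hU)))
    (hPL : RelProj.IsRelProj 𝒮L pL chartL)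
    (r : ((RelProj.domQ u pL chartL : PL.Opens) : Scheme.{u}) ⟶ P)
    (hr : RelProj.IsProjQMapOn u p chart pL chartL (RelProj.domQ u pL chartL) r) :
    (RelProj.domQ u pL chartL = ⊤ ∧ IsImmersion r) ↔
      ∃ (ι : Type u) (U : ι → Y.Opens) (hU : ∀ a, IsAffineOpen (U a)) (n : ι → ℕ)
        (s : ∀ a, 𝒮.presheaf.obj (op (U a))) (XT : ι → X.Opens) (hXT : ∀ a, XT a ≤ q ⁻¹ᵁ (U a)),
        (∀ a, 0 < n a ∧ s a ∈ 𝒮.deg (U a) (hU a) (n a)) ∧
        (∀ a, XT a = XFU u (U a) (n a) (s a)) ∧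
        (⨆ a, XT a) = ⊤ ∧ (∀ a, IsAffineOpen (XT a)) ∧
        (∀ (a : ι) (t : X.presheaf.obj (op (XT a))), ∃ (m : ℕ) (_ : 0 < m)
            (s' : 𝒮.presheaf.obj (op (U a))) (_ : s' ∈ 𝒮.deg (U a) (hU a) (m * n a)),
            (𝒮L.str.app (op (XT a))).hom t * ((u.appLE (U a) (XT a) (hXT a)).hom (s a)) ^ m =
              (u.appLE (U a) (XT a) (hXT a)).hom s') := by
  haveI : L.IsQuasicoherent := hLq
  constructor
  · rintro ⟨hdom, himm⟩
    obtain ⟨Z, g₁, g₂, hg₁, hg₂, hfac⟩ := (IsImmersion.isImmersion_iff_exists (f := r)).mp himm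
    haveI := hg₁
    haveI := hg₂
    obtain ⟨ι, U, hU, n, s, hns, hcov, hcore⟩ :=
      exists_family_of_factor' u chart chartL hL hLq hj hP hPL r hr hdom g₂ g₁ hfac
    choose hT hsurj using hcore
    refine ⟨ι, U, hU, n, s, fun a => XFU u (U a) (n a) (s a),
      fun a => XFU_le u (U a) (n a) (s a), hns, fun a => rfl, hcov, hT, ?_⟩
    intro a t
    exact cond_of_awayMap_surjective (u.gradedAt (U a) (hU a) (XFU u (U a) (n a) (s a)) (hT a)
        (XFU_le u (U a) (n a) (s a)))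
      (s a) (hns a).2 (hsurj a) (𝒮L.str.app (op (XFU u (U a) (n a) (s a)))).hom
      (𝒮L.str_mem _ (hT a)) t
  · rintro ⟨ι, U, hU, n, s, XT, hXT, hns, hXTeq, hcov, hT, hiii⟩
    obtain rfl : XT = fun a => XFU u (U a) (n a) (s a) := funext hXTeq
    have hdom : RelProj.domQ u pL chartL = ⊤ := by
      rw [eq_top_iff]
      intro x' _
      have hx : pL.base x' ∈ (⨆ a, XFU u (U a) (n a) (s a)) := by rw [hcov]; trivial
      obtain ⟨a, ha⟩ := Opens.mem_iSup.mp hx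
      exact mem_domQ_of_mem_XFU u chart chartL hL hLq hj hP hPL r hr (U a) (hU a) (hns a).1 (s a)
        (hns a).2 x' ha
    refine ⟨hdom, ?_⟩
    have hPr : ∀ a, IsClosedImmersion (Spec.map (CommRingCat.ofHom
        (Away.map (u.gradedAt (U a) (hU a) (XFU u (U a) (n a) (s a)) (hT a)
          (XFU_le u (U a) (n a) (s a))) (s a)))) := by
      intro a
      apply IsClosedImmersion.spec_of_surjective
      exact awayMap_surjective_of_cond (u.gradedAt (U a) (hU a) (XFU u (U a) (n a) (s a)) (hT a)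
          (XFU_le u (U a) (n a) (s a)))
        (s a) (hns a).2 (𝒮L.str.app (op (XFU u (U a) (n a) (s a)))).hom (𝒮L.str_mem _ (hT a))
        (fun z => (tau_bijective u chart chartL hL hLq hj hP hPL r hr (U a) (hU a) (hns a).1 (s a)
          (hns a).2 (hT a)).2 z) (hiii a)
    obtain ⟨O, r', hfac, hcl⟩ := exists_lift_of_family' (Pr := @IsClosedImmersion)
      u chart chartL hL hLq hj hP hPL r hr U hU n s hns hcov hT hPr
    haveI : IsClosedImmersion r' := hcl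
    rw [← hfac]
    infer_instance

end Groth.Agent.H4.ProjSymL6
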