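import Mathlib
import Groth.Agent.H4.PBLoc2
import Groth.Agent.H4.ProjSymL6

set_option autoImplicit false
set_option linter.style.haveILetI false
set_option linter.unusedSectionVars false
set_option linter.unusedVariables false

namespace Groth.Agent.H4.PBLoc3

open CategoryTheory CategoryTheory.Limits AlgebraicGeometry TopologicalSpace Opposite
open HomogeneousLocalization
open Groth.Agent.H6.Sym Groth.Agent.H6 Groth.Agent.LD.QC Groth.Agent.H4.PBundle Groth.Agent.H4.PBundle2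
open Groth.Agent.H4.PBundle3 Groth.Agent.H4.PBLoc Groth.Agent.H4.PBLoc2
open Groth.Agent.H4.ConeImm Groth.Agent.H4.ProjSymL Groth.Agent.H4.ProjSymL2 Groth.Agent.H4.ProjSymL6
open Groth.Agent.H8.RelTwist Groth.Agent.H8.RelTilde Groth.Agent.H8.GTW Groth.Agent.H8.ProjTilde
open scoped HomogeneousIdeal

universe u

noncomputable section

section D

/-- preimages of affine opens inside the open part of an immersion are affine, and the
comorphism is surjective there. -/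
theorem affine_surj_of_factor {X Z P : Scheme.{u}} (i : X ⟶ P) (g₁ : X ⟶ Z) (g₂ : Z ⟶ P)
    [IsClosedImmersion g₁] [IsOpenImmersion g₂] (hfac : g₁ ≫ g₂ = i)
    (D : P.Opens) (hD : IsAffineOpen D) (hDle : D ≤ g₂.opensRange) :
    IsAffineOpen (i ⁻¹ᵁ D) ∧ Function.Surjective (i.app D).hom := by
  subst hfac
  have hV : IsAffineOpen (g₂ ⁻¹ᵁ D) := hD.preimage_of_isOpenImmersion g₂ hDle
  refine ⟨hV.preimage g₁, ?_⟩
  rw [Scheme.Hom.comp_app]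
  haveI : IsIso (g₂.app D) := g₂.isIso_app D hDle
  have h1 : Function.Surjective (g₂.app D).hom :=
    (ConcreteCategory.bijective_of_isIso (g₂.app D)).2
  have h2 : Function.Surjective (g₁.app (g₂ ⁻¹ᵁ D)).hom := g₁.app_surjective _ hV
  exact h2.comp h1

end D

section E

variable {Y P : Scheme.{u}} {𝒮 : RelProj.QCGrAlg Y} (p : P ⟶ Y)
  (chart : ∀ (U : Y.Opens) (hU : IsAffineOpen U),
    (((p ⁻¹ᵁ U : P.Opens) : Scheme.{u}) ≅ Proj (𝒮.deg U hU)))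

theorem fn_surjective (U : Y.Opens) (hU : IsAffineOpen U) (f : 𝒮.presheaf.obj (op U)) {n : ℕ}
    (hn : 0 < n) (hf : f ∈ 𝒮.deg U hU n) : Function.Surjective (fn p chart U hU f) := by
  unfold fn
  have h1 : Function.Surjective (Proj.awayToSection (𝒮.deg U hU) f).hom := by
    haveI : IsIso (Proj.awayToSection (𝒮.deg U hU) f) := by
      rw [← Proj.basicOpenIsoAway_hom (𝒮.deg U hU) f hf hn]
      infer_instance
    exact (ConcreteCategory.bijective_of_isIso (Proj.awayToSection (𝒮.deg U hU) f)).2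
  have h2 : Function.Surjective
      ((RelProj.emb p chart U hU).appIso (Proj.basicOpen (𝒮.deg U hU) f)).inv.hom :=
    (ConcreteCategory.bijective_of_isIso
      ((RelProj.emb p chart U hU).appIso (Proj.basicOpen (𝒮.deg U hU) f)).inv).2
  exact h2.comp h1

theorem isAffineOpen_Dp (U : Y.Opens) (hU : IsAffineOpen U) (f : 𝒮.presheaf.obj (op U)) {n : ℕ}
    (hn : 0 < n) (hf : f ∈ 𝒮.deg U hU n) : IsAffineOpen (Dp p chart U hU f) :=
  (Proj.isAffineOpen_basicOpen (𝒮.deg U hU) f hf hn).image_of_isOpenImmersion _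

end E

section Main

variable {X Y P PL P' : Scheme.{u}} {i : X ⟶ P'} {p' : P' ⟶ Y}
  {L : X.Modules} {𝒮L : RelProj.QCGrAlg X} {jL : L ⟶ 𝒮L.toModule}
  {pL : PL ⟶ X}
  (chartL : ∀ (U : X.Opens) (hU : IsAffineOpen U),
    (((pL ⁻¹ᵁ U : PL.Opens) : Scheme.{u}) ≅ Proj (𝒮L.deg U hU)))
  {𝒜 : RelProj.QCGrAlg Y} {jE : (Scheme.Modules.pushforward (i ≫ p')).obj L ⟶ 𝒜.toModule}
  (u : RelProj.QGrHom (i ≫ p') 𝒜 𝒮L)
  {p : P ⟶ Y}
  (chart : ∀ (U : Y.Opens) (hU : IsAffineOpen U),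
    (((p ⁻¹ᵁ U : P.Opens) : Scheme.{u}) ≅ Proj (𝒜.deg U hU)))
  {𝒮' : RelProj.QCGrAlg Y}
  {chart' : ∀ (U : Y.Opens) (hU : IsAffineOpen U),
    (((p' ⁻¹ᵁ U : P'.Opens) : Scheme.{u}) ≅ Proj (𝒮'.deg U hU))}
  {O1' : P'.Modules}
  {lam' : ∀ (U : Y.Opens) (hU : IsAffineOpen U),
    O1' ⟶ (Scheme.Modules.pushforward (RelProj.emb p' chart' U hU)).obj
      (GrTwist.twist (𝒮'.deg U hU) 1)}
  {θ : (Scheme.Modules.pullback i).obj O1' ≅ L}

theorem preimage_le_XFU (hLq : Coh.IsQCoh L) (hjL : RelProj.IsGrSymAlg L 𝒮L jL)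
    (hO1' : RelProj.IsRelTwist 𝒮' p' chart' 1 O1' lam')
    (U : Y.Opens) (hU : IsAffineOpen U) (h f : 𝒮'.presheaf.obj (op U)) (hh : h ∈ 𝒮'.deg U hU 1)
    (n : ℕ) (hf : f ∈ 𝒮'.deg U hU n)
    (hfh : Dp p' chart' U hU f ≤ Dp p' chart' U hU h)
    (sf : 𝒜.presheaf.obj (op U)) (hK : KF (lam := lam') i θ jL U hU n f ((u.app U).hom sf))
    (hW : IsAffineOpen (i ⁻¹ᵁ Dp p' chart' U hU f)) :
    i ⁻¹ᵁ Dp p' chart' U hU f ≤ XFU u U n sf := by
  haveI : L.IsQuasicoherent := hLq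
  intro x' hx'
  have e : i ⁻¹ᵁ Dp p' chart' U hU f ≤ i ⁻¹ᵁ Dp p' chart' U hU h := i.preimage_mono hfh
  have hWU : i ⁻¹ᵁ Dp p' chart' U hU f ≤ (i ≫ p') ⁻¹ᵁ U :=
    e.trans (i.preimage_mono (Dp_le p' chart' U hU h))
  rw [mem_XFU]
  refine ⟨_, hW, hWU, hx', ?_⟩
  obtain ⟨sh, hsh⟩ := exists_section_reads hO1' U hU h hh
  have hb := isBasisOver_lsec i θ hO1' U hU h hh sh hsh _ e
  obtain ⟨N1, -⟩ := exists_N hjL _ hW _ hb
  have hzf := Away.val_mk (𝒮'.deg U hU) n hh f (by simpa using hf)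
  have hKf := hK h hh sh hsh _ hzf _ e
  have hunit := isUnit_chi i U hU h f _ n hzf _ e le_rfl
  obtain ⟨c, hc⟩ := hunit.exists_right_inv
  intro x hx
  obtain ⟨r, rfl⟩ := N1 n x hx
  show _ ∈ Ideal.span _
  rw [Ideal.mem_span_singleton']
  refine ⟨(𝒮L.str.app (op _)).hom (r * c), ?_⟩
  have h3 : (u.appLE U _ hWU).hom sf = _ := hKf
  rw [h3, map_mul]
  have h2 := congrArg (𝒮L.str.app (op (i ⁻¹ᵁ Dp p' chart' U hU f))).hom hc
  rw [map_mul, map_one] at h2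
  linear_combination ((𝒮L.str.app (op (i ⁻¹ᵁ Dp p' chart' U hU f))).hom r *
    (QA.sec jL _ (L.presheaf.map (homOfLE (e.trans (i.preimage_mono (Dp_le p' chart' U hU h)))).op
      (lsec i θ U sh))) ^ n) * h2

theorem XFU_le_preimage (hL : PicF.IsInvertible L) (hLq : Coh.IsQCoh L)
    (hjL : RelProj.IsGrSymAlg L 𝒮L jL) (hP : RelProj.IsRelProj 𝒜 p chart)
    (hPL : RelProj.IsRelProj 𝒮L pL chartL)
    (r : ((RelProj.domQ u pL chartL : PL.Opens) : Scheme.{u}) ⟶ P)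
    (hr : RelProj.IsProjQMapOn u p chart pL chartL (RelProj.domQ u pL chartL) r)
    (hO1' : RelProj.IsRelTwist 𝒮' p' chart' 1 O1' lam') (hgen : 𝒮'.IsGenDegOne)
    (U : Y.Opens) (hU : IsAffineOpen U) (f : 𝒮'.presheaf.obj (op U))
    (n : ℕ) (hn : 0 < n) (hf : f ∈ 𝒮'.deg U hU n)
    (sf : 𝒜.presheaf.obj (op U)) (hK : KF (lam := lam') i θ jL U hU n f ((u.app U).hom sf)) :
    XFU u U n sf ≤ i ⁻¹ᵁ Dp p' chart' U hU f := by
  haveI : L.IsQuasicoherent := hLq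
  haveI : IsIso pL := main_S12143 L hL hLq 𝒮L jL hjL pL chartL hPL
  intro x' hx'
  have hq' : p'.base (i.base x') ∈ U := XFU_le u U n sf hx'
  obtain ⟨h₀, hh₀, hx₀⟩ := exists_degOne_mem_Dp (chart := chart') hgen U hU (i.base x') hq'
  obtain ⟨s₀, hs₀⟩ := exists_section_reads hO1' U hU h₀ hh₀
  have hx₀' : x' ∈ i ⁻¹ᵁ Dp p' chart' U hU h₀ := hx₀
  obtain ⟨V, hV, hxV, hVle⟩ := Opens.isBasis_iff_nbhd.mp X.isBasis_affineOpens hx₀'
  replace hV : IsAffineOpen V := hV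
  have hVU : V ≤ (i ≫ p') ⁻¹ᵁ U := hVle.trans (i.preimage_mono (Dp_le p' chart' U hU h₀))
  obtain ⟨x'', hx''⟩ : ∃ x'', pL.base x'' = x' := pL.homeomorph.surjective x'
  obtain ⟨y, hy⟩ := exists_emb pL chartL x'' V hV (by rw [hx'']; exact hxV)
  have hxy : pL.base ((RelProj.emb pL chartL V hV).base y) = x' := by rw [hy, hx'']
  have hnot := notMem_of_mem_XFU u chart chartL hL hLq hjL hP hPL r hr U hU hn sf V hV hVU y
    (by rw [hxy]; exact hx')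
  have hzf := Away.val_mk (𝒮'.deg U hU) n hh₀ f (by simpa using hf)
  have hKf := hK h₀ hh₀ s₀ hs₀ _ hzf V hVle
  have h3 : (u.appLE U V hVU).hom sf = _ := hKf
  rw [h3] at hnot
  have hnot' : (𝒮L.str.app (op V)).hom (chi i U hU h₀ V hVle
      (Away.mk (𝒮'.deg U hU) hh₀ n f (by simpa using hf))) ∉ y.asHomogeneousIdeal := by
    intro hcon
    exact hnot (Ideal.mul_mem_right _ y.asHomogeneousIdeal.toIdeal hcon)
  have hmem := (pL_emb_mem_basicOpen_iff chartL hPL V hV y _).mpr hnot'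
  rw [hxy] at hmem
  exact mem_Dp_of_mem_basicOpen_chi i U hU h₀ f _ n hzf V hVle x' hmem

theorem cond_iii {E' : Y.Modules} [E'.IsQuasicoherent] {j' : E' ⟶ 𝒮'.toModule}
    (hj' : RelProj.IsGrSymAlg E' 𝒮' j') (hP' : RelProj.IsRelProj 𝒮' p' chart')
    (hO1' : RelProj.IsRelTwist 𝒮' p' chart' 1 O1' lam')
    (h𝒜 : ∀ (U : Y.Opens) (hU : IsAffineOpen U)
      (m : Γ((Scheme.Modules.pushforward (i ≫ p')).obj L, U)), QA.sec jE U m ∈ 𝒜.deg U hU 1)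
    (hu : ∀ (U : Y.Opens) (x : Γ((Scheme.Modules.pushforward (i ≫ p')).obj L, U)),
      (u.app U).hom ((jE.app U) x) = (jL.app ((i ≫ p') ⁻¹ᵁ U)) x)
    (U : Y.Opens) (hU : IsAffineOpen U) (h f : 𝒮'.presheaf.obj (op U)) (hh : h ∈ 𝒮'.deg U hU 1)
    (n : ℕ) (hn : 0 < n) (hf : f ∈ 𝒮'.deg U hU n)
    (hfh : Dp p' chart' U hU f ≤ Dp p' chart' U hU h)
    (sf : 𝒜.presheaf.obj (op U)) (hK : KF (lam := lam') i θ jL U hU n f ((u.app U).hom sf))
    (hsurj : Function.Surjective (i.app (Dp p' chart' U hU f)).hom)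
    (hWU : i ⁻¹ᵁ Dp p' chart' U hU f ≤ (i ≫ p') ⁻¹ᵁ U)
    (t : Γ(X, i ⁻¹ᵁ Dp p' chart' U hU f)) :
    ∃ (m : ℕ) (_ : 0 < m) (s' : 𝒜.presheaf.obj (op U)) (_ : s' ∈ 𝒜.deg U hU (m * n)),
      (𝒮L.str.app (op (i ⁻¹ᵁ Dp p' chart' U hU f))).hom t *
        ((u.appLE U (i ⁻¹ᵁ Dp p' chart' U hU f) hWU).hom sf) ^ m =
      (u.appLE U (i ⁻¹ᵁ Dp p' chart' U hU f) hWU).hom s' := by
  obtain ⟨g, rfl⟩ := hsurj t
  obtain ⟨zz, rfl⟩ := fn_surjective p' chart' U hU f hn hf g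
  obtain ⟨m, b, hb, rfl⟩ := Away.mk_surjective (𝒮'.deg U hU) hf zz
  have hb' : b * f ∈ 𝒮'.deg U hU ((m + 1) * n) := by
    have h1 := SetLike.mul_mem_graded hb hf
    rw [show (m + 1) * n = m • n + n by rw [smul_eq_mul]; ring]
    exact h1
  have hzz : (Away.mk (𝒮'.deg U hU) hf m b hb).val =
      Localization.mk (b * f) (⟨f ^ (m + 1), m + 1, rfl⟩ : Submonoid.powers f) := by
    rw [Away.val_mk, Localization.mk_eq_mk_iff, Localization.r_iff_exists]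
    refine ⟨1, ?_⟩
    simp only [OneMemClass.coe_one, one_mul]
    ring
  obtain ⟨s', hs', hK'⟩ := exists_KF u hj' hP' hO1' h𝒜 hu U hU ((m + 1) * n) (b * f) hb'
  refine ⟨m + 1, Nat.succ_pos m, s', hs', ?_⟩
  obtain ⟨sh, hsh⟩ := exists_section_reads hO1' U hU h hh
  have e : i ⁻¹ᵁ Dp p' chart' U hU f ≤ i ⁻¹ᵁ Dp p' chart' U hU h := i.preimage_mono hfh
  have hzf := Away.val_mk (𝒮'.deg U hU) n hh f (by simpa using hf)
  have hzb := Away.val_mk (𝒮'.deg U hU) ((m + 1) * n) hh (b * f) (by simpa using hb')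
  have hKf : (u.appLE U _ hWU).hom sf = _ := hK h hh sh hsh _ hzf _ e
  have hKb : (u.appLE U _ hWU).hom s' = _ := hK' h hh sh hsh _ hzb _ e
  have hchi := chi_mul_pow i U hU h f (b * f) n (m + 1) _ _ _ hzz hzf hzb hfh _ le_rfl
  have ht : (i.app (Dp p' chart' U hU f)).hom
      (fn p' chart' U hU f (Away.mk (𝒮'.deg U hU) hf m b hb)) =
      chi i U hU f _ le_rfl (Away.mk (𝒮'.deg U hU) hf m b hb) := by
    unfold chi
    rw [Scheme.Hom.app_eq_appLE]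
    rfl
  rw [hKf, hKb, ← hchi, ht, map_mul, map_pow]
  ring

theorem exists_datum {E' : Y.Modules} [E'.IsQuasicoherent] {j' : E' ⟶ 𝒮'.toModule}
    (hL : PicF.IsInvertible L) (hLq : Coh.IsQCoh L)
    (hjL : RelProj.IsGrSymAlg L 𝒮L jL) (hP : RelProj.IsRelProj 𝒜 p chart)
    (hPL : RelProj.IsRelProj 𝒮L pL chartL)
    (r : ((RelProj.domQ u pL chartL : PL.Opens) : Scheme.{u}) ⟶ P)
    (hr : RelProj.IsProjQMapOn u p chart pL chartL (RelProj.domQ u pL chartL) r)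
    (hj' : RelProj.IsGrSymAlg E' 𝒮' j') (hP' : RelProj.IsRelProj 𝒮' p' chart')
    (hO1' : RelProj.IsRelTwist 𝒮' p' chart' 1 O1' lam')
    (h𝒜 : ∀ (U : Y.Opens) (hU : IsAffineOpen U)
      (m : Γ((Scheme.Modules.pushforward (i ≫ p')).obj L, U)), QA.sec jE U m ∈ 𝒜.deg U hU 1)
    (hu : ∀ (U : Y.Opens) (x : Γ((Scheme.Modules.pushforward (i ≫ p')).obj L, U)),
      (u.app U).hom ((jE.app U) x) = (jL.app ((i ≫ p') ⁻¹ᵁ U)) x)
    (hi : IsImmersion i) (θ' : (Scheme.Modules.pullback i).obj O1' ≅ L) (x : X) :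
    ∃ (U : Y.Opens) (hU : IsAffineOpen U) (n : ℕ) (s : 𝒜.presheaf.obj (op U)) (XT : X.Opens)
      (hXT : XT ≤ (i ≫ p') ⁻¹ᵁ U),
      (0 < n ∧ s ∈ 𝒜.deg U hU n) ∧ XT = XFU u U n s ∧ x ∈ XT ∧ IsAffineOpen XT ∧
      ∀ t : X.presheaf.obj (op XT), ∃ (m : ℕ) (_ : 0 < m) (s' : 𝒜.presheaf.obj (op U))
        (_ : s' ∈ 𝒜.deg U hU (m * n)),
        (𝒮L.str.app (op XT)).hom t * ((u.appLE U XT hXT).hom s) ^ m =
          (u.appLE U XT hXT).hom s' := by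
  have hgen : 𝒮'.IsGenDegOne := genDegOne_of_isGrSymAlg hj'
  obtain ⟨Z, g₁, g₂, hg₁, hg₂, hfac⟩ := (IsImmersion.isImmersion_iff_exists (f := i)).mp hi
  haveI := hg₁
  haveI := hg₂
  obtain ⟨U, hU, hxU, -⟩ := Opens.isBasis_iff_nbhd.mp Y.isBasis_affineOpens
    (show p'.base (i.base x) ∈ (⊤ : Y.Opens) from trivial)
  replace hU : IsAffineOpen U := hU
  obtain ⟨h, hh, hxh⟩ := exists_degOne_mem_Dp (chart := chart') hgen U hU (i.base x) hxU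
  obtain ⟨z, hzh, hz⟩ := hxh
  have hzO : z ∈ (RelProj.emb p' chart' U hU ⁻¹ᵁ g₂.opensRange) ⊓
      Proj.basicOpen (𝒮'.deg U hU) h := by
    refine ⟨?_, hzh⟩
    show (RelProj.emb p' chart' U hU).base z ∈ g₂.opensRange
    have h1 : (RelProj.emb p' chart' U hU).base z = i.base x := hz
    rw [h1, ← hfac]
    exact ⟨g₁.base x, rfl⟩
  obtain ⟨n, hn, f, hf, hzf, hfO⟩ := rl_exists_homog_basicOpen_le (𝒮'.deg U hU) z _ hzO
  have hfh : Dp p' chart' U hU f ≤ Dp p' chart' U hU h := by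
    rintro _ ⟨z₁, hz₁, rfl⟩
    exact ⟨z₁, (hfO hz₁).2, rfl⟩
  have hfΩ : Dp p' chart' U hU f ≤ g₂.opensRange := by
    rintro _ ⟨z₁, hz₁, rfl⟩
    exact (hfO hz₁).1
  have hDaff : IsAffineOpen (Dp p' chart' U hU f) := isAffineOpen_Dp p' chart' U hU f hn hf
  obtain ⟨hW, hsurj⟩ := affine_surj_of_factor i g₁ g₂ hfac _ hDaff hfΩ
  obtain ⟨sf, hsf, hK⟩ := exists_KF (θ := θ') u hj' hP' hO1' h𝒜 hu U hU n f hf
  have hWU : i ⁻¹ᵁ Dp p' chart' U hU f ≤ (i ≫ p') ⁻¹ᵁ U :=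
    i.preimage_mono (Dp_le p' chart' U hU f)
  refine ⟨U, hU, n, sf, i ⁻¹ᵁ Dp p' chart' U hU f, hWU, ⟨hn, hsf⟩, ?_, ?_, hW, ?_⟩
  · apply le_antisymm
    · exact preimage_le_XFU u hLq hjL hO1' U hU h f hh n hf hfh sf hK hW
    · exact XFU_le_preimage chartL u chart hL hLq hjL hP hPL r hr hO1' hgen U hU f n hn hf sf hK
  · show i.base x ∈ Dp p' chart' U hU f
    exact ⟨z, hzf, hz⟩
  · intro t
    exact cond_iii u hj' hP' hO1' h𝒜 hu U hU h f hh n hn hf hfh sf hK hsurj hWU t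

/-- **EGA II 4.4.4 (immersion part)**: if `L ≅ i^* O(1)` for an immersion `i : X ⟶ P(E')` over `Y`,
then `r_{L,σ} : X ⟶ P(q_* L)` is everywhere defined and an immersion. -/
theorem main {E' : Y.Modules} [E'.IsQuasicoherent] {j' : E' ⟶ 𝒮'.toModule}
    (hL : PicF.IsInvertible L) (hLq : Coh.IsQCoh L)
    (hjL : RelProj.IsGrSymAlg L 𝒮L jL) (hP : RelProj.IsRelProj 𝒜 p chart)
    (hPL : RelProj.IsRelProj 𝒮L pL chartL)
    (r : ((RelProj.domQ u pL chartL : PL.Opens) : Scheme.{u}) ⟶ P)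
    (hr : RelProj.IsProjQMapOn u p chart pL chartL (RelProj.domQ u pL chartL) r)
    (hj' : RelProj.IsGrSymAlg E' 𝒮' j') (hP' : RelProj.IsRelProj 𝒮' p' chart')
    (hO1' : RelProj.IsRelTwist 𝒮' p' chart' 1 O1' lam')
    (h𝒜 : ∀ (U : Y.Opens) (hU : IsAffineOpen U)
      (m : Γ((Scheme.Modules.pushforward (i ≫ p')).obj L, U)), QA.sec jE U m ∈ 𝒜.deg U hU 1)
    (hu : ∀ (U : Y.Opens) (x : Γ((Scheme.Modules.pushforward (i ≫ p')).obj L, U)),
      (u.app U).hom ((jE.app U) x) = (jL.app ((i ≫ p') ⁻¹ᵁ U)) x)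
    (hi : IsImmersion i) (θ' : (Scheme.Modules.pullback i).obj O1' ≅ L) :
    RelProj.domQ u pL chartL = ⊤ ∧ IsImmersion r := by
  refine (imm_iff_family (i ≫ p') L hL hLq 𝒜 𝒮L jL hjL u p chart hP pL chartL hPL r hr).mpr ?_
  choose U hU n s XT hXT h1 h2 h3 h4 h5 using
    exists_datum chartL u chart hL hLq hjL hP hPL r hr hj' hP' hO1' h𝒜 hu hi θ'
  refine ⟨X, U, hU, n, s, XT, hXT, h1, h2, ?_, h4, h5⟩
  rw [eq_top_iff]
  intro x _
  exact Opens.mem_iSup.mpr ⟨x, h3 x⟩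

end Main

end

end Groth.Agent.H4.PBLoc3
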