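import Mathlib
import Groth.Agent.H4.PBLoc2
import Groth.Agent.H4.PBLoc3

set_option autoImplicit false
set_option linter.style.haveILetI false
set_option linter.unusedSectionVars false
set_option linter.unusedVariables false

namespace Groth.Agent.H4.PBUniq

open CategoryTheory CategoryTheory.Limits AlgebraicGeometry TopologicalSpace Opposite
open HomogeneousLocalization
open Groth.Agent.H6.Sym Groth.Agent.H6 Groth.Agent.LD.QC Groth.Agent.H4.PBundle Groth.Agent.H4.PBundle2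
open Groth.Agent.H4.PBundle3 Groth.Agent.H4.PBLoc Groth.Agent.H4.PBLoc2 Groth.Agent.H4.PBLoc3
open Groth.Agent.H4.ConeImm
open Groth.Agent.H8.RelTwist Groth.Agent.H8.RelTilde Groth.Agent.H8.GTW Groth.Agent.H8.ProjTilde
open scoped HomogeneousIdeal

universe u

noncomputable section

section General

/-- two morphisms which send `U` into an affine open `D` and induce the same map on sections
`Γ(Y, D) → Γ(X, U)` agree on `U`. -/
theorem ι_comp_eq_of_appLE_eq {X Y : Scheme.{u}} (r r' : X ⟶ Y) {D : Y.Opens} (hD : IsAffineOpen D)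
    {U : X.Opens} (e : U ≤ r ⁻¹ᵁ D) (e' : U ≤ r' ⁻¹ᵁ D) (h : r.appLE D U e = r'.appLE D U e') :
    U.ι ≫ r = U.ι ≫ r' := by
  haveI : IsAffine D.toScheme := hD
  have h1 : r.resLE D U e = r'.resLE D U e' := by
    apply ext_of_isAffine
    change (r.resLE D U e).app ⊤ = (r'.resLE D U e').app ⊤
    rw [Scheme.Hom.resLE_app_top, Scheme.Hom.resLE_app_top, h]
  rw [← Scheme.Hom.resLE_comp_ι r e, ← Scheme.Hom.resLE_comp_ι r' e', h1]

lemma appLE_congr_hom {X Z : Scheme.{u}} (φ φ' : X ⟶ Z) (h : φ = φ') (U : Z.Opens) (V : X.Opens)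
    (e : V ≤ φ ⁻¹ᵁ U) (e' : V ≤ φ' ⁻¹ᵁ U) : φ.appLE U V e = φ'.appLE U V e' := by
  subst h; rfl

/-- morphisms agreeing on an open cover are equal. -/
theorem hom_ext_of_cover {X Y : Scheme.{u}} (r r' : X ⟶ Y)
    (h : ∀ x : X, ∃ W : X.Opens, x ∈ W ∧ W.ι ≫ r = W.ι ≫ r') : r = r' := by
  choose W hxW hW using h
  have hcov : IsOpenCover W := by
    rw [IsOpenCover, eq_top_iff]
    intro x _
    exact Opens.mem_iSup.mpr ⟨x, hxW x⟩
  exact (X.openCoverOfIsOpenCover W hcov).hom_ext _ _ (fun x => hW x)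

end General

section Uniq

variable {Y P X : Scheme.{u}} {𝒮 : RelProj.QCGrAlg Y} {p : P ⟶ Y}
  {chart : ∀ (U : Y.Opens) (hU : IsAffineOpen U),
    (((p ⁻¹ᵁ U : P.Opens) : Scheme.{u}) ≅ Proj (𝒮.deg U hU))}
  {O1 : P.Modules}
  {lam : ∀ (U : Y.Opens) (hU : IsAffineOpen U),
    O1 ⟶ (Scheme.Modules.pushforward (RelProj.emb p chart U hU)).obj (GrTwist.twist (𝒮.deg U hU) 1)}
  {E : Y.Modules} [E.IsQuasicoherent] {j : E ⟶ 𝒮.toModule}
  {L : X.Modules}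

/-- the chart ring maps of two morphisms with the same "coordinate sections" agree. -/
theorem chi_eq_of_lsec (hj : RelProj.IsGrSymAlg E 𝒮 j) (hP : RelProj.IsRelProj 𝒮 p chart)
    (hO1 : RelProj.IsRelTwist 𝒮 p chart 1 O1 lam)
    (U : Y.Opens) (hU : IsAffineOpen U)
    (φ : Γ(E, U) → Γ(O1, p ⁻¹ᵁ U))
    (hφ : ∀ e, Reads lam U hU (QA.sec j U e) (φ e))
    (r₁ r₂ : X ⟶ P) (hr : r₁ ≫ p = r₂ ≫ p)
    (θ₁ : (Scheme.Modules.pullback r₁).obj O1 ≅ L) (θ₂ : (Scheme.Modules.pullback r₂).obj O1 ≅ L)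
    (e₀ : Γ(E, U)) (W : X.Opens)
    (e₁ : W ≤ r₁ ⁻¹ᵁ Dp p chart U hU (QA.sec j U e₀))
    (e₂ : W ≤ r₂ ⁻¹ᵁ Dp p chart U hU (QA.sec j U e₀))
    (hσ : ∀ e : Γ(E, U),
      L.presheaf.map (homOfLE (e₁.trans (r₁.preimage_mono (Dp_le p chart U hU _)))).op
          (lsec r₁ θ₁ U (φ e)) =
        L.presheaf.map (homOfLE (e₂.trans (r₂.preimage_mono (Dp_le p chart U hU _)))).op
          (lsec r₂ θ₂ U (φ e))) :
    chi r₁ U hU (QA.sec j U e₀) W e₁ = chi r₂ U hU (QA.sec j U e₀) W e₂ := by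
  have hh : QA.sec j U e₀ ∈ 𝒮.deg U hU 1 := hj.2 U hU e₀
  have key : ∀ (n : ℕ) (a : 𝒮.presheaf.obj (op U)), a ∈ 𝒮.deg U hU n →
      (a ∈ 𝒮.deg U hU n ∧ ∀ z : Away (𝒮.deg U hU) (QA.sec j U e₀),
        z.val = Localization.mk a (⟨(QA.sec j U e₀) ^ n, n, rfl⟩ :
          Submonoid.powers (QA.sec j U e₀)) →
        chi r₁ U hU (QA.sec j U e₀) W e₁ z = chi r₂ U hU (QA.sec j U e₀) W e₂ z) := by
    intro n a ha
    refine sym_induction hj U hU (fun n a => a ∈ 𝒮.deg U hU n ∧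
      ∀ z : Away (𝒮.deg U hU) (QA.sec j U e₀),
        z.val = Localization.mk a (⟨(QA.sec j U e₀) ^ n, n, rfl⟩ :
          Submonoid.powers (QA.sec j U e₀)) →
        chi r₁ U hU (QA.sec j U e₀) W e₁ z = chi r₂ U hU (QA.sec j U e₀) W e₂ z) ?_ ?_ ?_ n a ha
    · intro c
      refine ⟨𝒮.str_mem U hU c, fun z hz => ?_⟩
      rw [chi_str hP r₁ U hU _ c z hz W e₁, chi_str hP r₂ U hU _ c z hz W e₂]
      exact congrArg (fun t => t.hom c) (appLE_congr_hom _ _ hr U W _ _)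
    · rintro n a b ⟨ha, hKa⟩ ⟨hb, hKb⟩
      refine ⟨add_mem ha hb, fun z hz => ?_⟩
      have hza := Away.val_mk (𝒮.deg U hU) n hh a (by simpa using ha)
      have hzb := Away.val_mk (𝒮.deg U hU) n hh b (by simpa using hb)
      have hzz : z = Away.mk (𝒮.deg U hU) hh n a (by simpa using ha) +
          Away.mk (𝒮.deg U hU) hh n b (by simpa using hb) := by
        apply HomogeneousLocalization.val_injective
        rw [HomogeneousLocalization.val_add, hz, hza, hzb, Localization.add_mk_self]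
      rw [hzz, map_add, map_add, hKa _ hza, hKb _ hzb]
    · rintro n e a ⟨ha, hKa⟩
      have he : QA.sec j U e ∈ 𝒮.deg U hU 1 := hj.2 U hU e
      have hdeg : QA.sec j U e * a ∈ 𝒮.deg U hU (n + 1) := by
        rw [add_comm]; exact SetLike.mul_mem_graded he ha
      refine ⟨hdeg, fun z hz => ?_⟩
      have hze := Away.val_mk (𝒮.deg U hU) 1 hh (QA.sec j U e) (by simpa using he)
      have hza := Away.val_mk (𝒮.deg U hU) n hh a (by simpa using ha)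
      have hzz : z = Away.mk (𝒮.deg U hU) hh 1 (QA.sec j U e) (by simpa using he) *
          Away.mk (𝒮.deg U hU) hh n a (by simpa using ha) := by
        apply HomogeneousLocalization.val_injective
        rw [HomogeneousLocalization.val_mul, hz, hze, hza, Localization.mk_mul]
        congr 1
        apply Subtype.ext
        show QA.sec j U e₀ ^ (n + 1) = QA.sec j U e₀ ^ 1 * QA.sec j U e₀ ^ n
        rw [pow_succ', pow_one]
      have k1 := lsec_res_eq_smul r₁ θ₁ hO1 U hU (QA.sec j U e₀) (QA.sec j U e) hh he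
        (φ e₀) (φ e) (hφ e₀) (hφ e) W e₁
      have k2 := lsec_res_eq_smul r₂ θ₂ hO1 U hU (QA.sec j U e₀) (QA.sec j U e) hh he
        (φ e₀) (φ e) (hφ e₀) (hφ e) W e₂
      have hb := isBasisOver_lsec r₁ θ₁ hO1 U hU (QA.sec j U e₀) hh (φ e₀) (hφ e₀) W e₁
      rw [← hσ e, ← hσ e₀, k1] at k2
      have k3 := hb.coord_injective k2
      rw [hzz, map_mul, map_mul, hKa _ hza, k3]
  apply RingHom.ext
  intro z
  obtain ⟨n, a, ha, rfl⟩ := Away.mk_surjective (𝒮.deg U hU) hh z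
  exact (key n a (by simpa using ha)).2 _ (Away.val_mk _ _ _ _ _)

theorem hom_eq_of_lsec (hj : RelProj.IsGrSymAlg E 𝒮 j) (hP : RelProj.IsRelProj 𝒮 p chart)
    (hO1 : RelProj.IsRelTwist 𝒮 p chart 1 O1 lam)
    (φ : ∀ (U : Y.Opens), Γ(E, U) → Γ(O1, p ⁻¹ᵁ U))
    (hφ : ∀ (U : Y.Opens) (hU : IsAffineOpen U) (e : Γ(E, U)),
      Reads lam U hU (QA.sec j U e) (φ U e))
    (r₁ r₂ : X ⟶ P) (hr : r₁ ≫ p = r₂ ≫ p)
    (θ₁ : (Scheme.Modules.pullback r₁).obj O1 ≅ L) (θ₂ : (Scheme.Modules.pullback r₂).obj O1 ≅ L)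
    (hσ : ∀ (U : Y.Opens) (hU : IsAffineOpen U) (e : Γ(E, U)) (W : X.Opens)
      (h₁ : W ≤ r₁ ⁻¹ᵁ (p ⁻¹ᵁ U)) (h₂ : W ≤ r₂ ⁻¹ᵁ (p ⁻¹ᵁ U)),
      L.presheaf.map (homOfLE h₁).op (lsec r₁ θ₁ U (φ U e)) =
        L.presheaf.map (homOfLE h₂).op (lsec r₂ θ₂ U (φ U e))) :
    r₁ = r₂ := by
  have hgen : 𝒮.IsGenDegOne := genDegOne_of_isGrSymAlg hj
  apply hom_ext_of_cover
  intro x
  obtain ⟨U, hU, hxU, -⟩ := Opens.isBasis_iff_nbhd.mp Y.isBasis_affineOpens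
    (show p.base (r₁.base x) ∈ (⊤ : Y.Opens) from trivial)
  replace hU : IsAffineOpen U := hU
  obtain ⟨z, hz⟩ := exists_emb p chart (r₁.base x) U hU hxU
  obtain ⟨e₀, he₀⟩ := exists_sec_basicOpen hj U hU z
  have hh : QA.sec j U e₀ ∈ 𝒮.deg U hU 1 := hj.2 U hU e₀
  have hxD : r₁.base x ∈ Dp p chart U hU (QA.sec j U e₀) := ⟨z, he₀, hz⟩
  have e₁ : r₁ ⁻¹ᵁ Dp p chart U hU (QA.sec j U e₀) ≤ r₁ ⁻¹ᵁ Dp p chart U hU (QA.sec j U e₀) :=
    le_rfl
  have hW₁ : r₁ ⁻¹ᵁ Dp p chart U hU (QA.sec j U e₀) ≤ r₁ ⁻¹ᵁ (p ⁻¹ᵁ U) :=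
    r₁.preimage_mono (Dp_le p chart U hU _)
  have hW₂ : r₁ ⁻¹ᵁ Dp p chart U hU (QA.sec j U e₀) ≤ r₂ ⁻¹ᵁ (p ⁻¹ᵁ U) := by
    intro x' hx'
    have h1 : p.base (r₁.base x') ∈ U := hW₁ hx'
    have h2 : p.base (r₂.base x') = p.base (r₁.base x') :=
      (congrArg (fun t : X ⟶ Y => t.base x') hr).symm
    show p.base (r₂.base x') ∈ U
    rw [h2]; exact h1
  have hb₁ := isBasisOver_lsec r₁ θ₁ hO1 U hU (QA.sec j U e₀) hh (φ U e₀) (hφ U hU e₀) _ e₁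
  have hb₂ : IsBasisOver L (r₁ ⁻¹ᵁ Dp p chart U hU (QA.sec j U e₀))
      (L.presheaf.map (homOfLE hW₂).op (lsec r₂ θ₂ U (φ U e₀))) := by
    rw [← hσ U hU e₀ _ hW₁ hW₂]; exact hb₁
  have e₂ : r₁ ⁻¹ᵁ Dp p chart U hU (QA.sec j U e₀) ≤ r₂ ⁻¹ᵁ Dp p chart U hU (QA.sec j U e₀) :=
    le_preimage_Dp_of_isBasisOver r₂ θ₂ hO1 hgen U hU (QA.sec j U e₀) hh (φ U e₀) (hφ U hU e₀)
      _ hW₂ hb₂
  have hchi := chi_eq_of_lsec hj hP hO1 U hU (φ U) (hφ U hU) r₁ r₂ hr θ₁ θ₂ e₀ _ e₁ e₂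
    (fun e => hσ U hU e _ _ _)
  refine ⟨r₁ ⁻¹ᵁ Dp p chart U hU (QA.sec j U e₀), hxD, ?_⟩
  apply ι_comp_eq_of_appLE_eq r₁ r₂ (isAffineOpen_Dp p chart U hU _ Nat.one_pos hh) e₁ e₂
  apply CommRingCat.hom_ext
  apply RingHom.ext
  intro a
  obtain ⟨zz, rfl⟩ := fn_surjective p chart U hU _ Nat.one_pos hh a
  exact congrArg (fun t : _ →+* _ => t zz) hchi

end Uniq

section Trace

variable {Y P X : Scheme.{u}}

/-- tracing a pulled back section through the composite `g^*E ≅ r^*p^*E ⟶ r^*O1`. -/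
theorem alpha_pbSec (E : Y.Modules) {O1 : P.Modules} (p : P ⟶ Y)
    (φ : E ⟶ (Scheme.Modules.pushforward p).obj O1) (g : X ⟶ Y) (r : X ⟶ P) (hr : r ≫ p = g)
    (U : Y.Opens) (e : Γ(E, U)) (W : X.Opens) (hW : W ≤ g ⁻¹ᵁ U) (hW' : W ≤ r ⁻¹ᵁ (p ⁻¹ᵁ U)) :
    ((Scheme.Modules.pullbackCongr hr).inv.app E ≫ (Scheme.Modules.pullbackComp r p).inv.app E ≫
        (Scheme.Modules.pullback r).map
          (((Scheme.Modules.pullbackPushforwardAdjunction p).homEquiv E O1).symm φ)).app W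
      (pbSec g E hW e) = pbSec r O1 hW' (φ.app U e) := by
  subst hr
  have h1 : ((Scheme.Modules.pullbackCongr (rfl : r ≫ p = r ≫ p)).inv.app E).app W
      (pbSec (r ≫ p) E hW e) = pbSec (r ≫ p) E hW e := by
    have k1 := pbSec_congr (h := (rfl : r ≫ p = r ≫ p)) E hW hW e
    have k2 : ((Scheme.Modules.pullbackCongr (rfl : r ≫ p = r ≫ p)).inv.app E).app W
        (((Scheme.Modules.pullbackCongr (rfl : r ≫ p = r ≫ p)).hom.app E).app W
          (pbSec (r ≫ p) E hW e)) = pbSec (r ≫ p) E hW e := by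
      have k3 : (Scheme.Modules.pullbackCongr (rfl : r ≫ p = r ≫ p)).hom.app E ≫
          (Scheme.Modules.pullbackCongr (rfl : r ≫ p = r ≫ p)).inv.app E = 𝟙 _ :=
        Iso.hom_inv_id_app _ E
      exact congrArg (fun t : (Scheme.Modules.pullback (r ≫ p)).obj E ⟶
        (Scheme.Modules.pullback (r ≫ p)).obj E => t.app W (pbSec (r ≫ p) E hW e)) k3
    rw [k1] at k2
    exact k2
  have h2 := pbSec_comp (j := r) (f := p) E hW' (le_refl (p ⁻¹ᵁ U)) hW e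
  have h3 := pbSec_naturality (f := r)
    (((Scheme.Modules.pullbackPushforwardAdjunction p).homEquiv E O1).symm φ) hW'
    (pbSec p E (le_refl (p ⁻¹ᵁ U)) e)
  have h4 := Groth.Agent.H8.RelTwist.adj_symm_app_pbSec (g := p) φ U e
  simp only [Scheme.Modules.Hom.comp_app]
  change ((Scheme.Modules.pullback r).map _).app W
    (((Scheme.Modules.pullbackComp r p).inv.app E).app W
      (((Scheme.Modules.pullbackCongr (rfl : r ≫ p = r ≫ p)).inv.app E).app W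
        (pbSec (r ≫ p) E hW e))) = _
  rw [h1, h2, h3, h4]

end Trace

section UniqMain

variable {Y P X : Scheme.{u}}

lemma lsec_res' {O1 : P.Modules} {p : P ⟶ Y} (r : X ⟶ P) {L : X.Modules}
    (θ : (Scheme.Modules.pullback r).obj O1 ≅ L) (U : Y.Opens) (x : Γ(O1, p ⁻¹ᵁ U)) (W : X.Opens)
    (hW : W ≤ r ⁻¹ᵁ (p ⁻¹ᵁ U)) :
    L.presheaf.map (homOfLE hW).op (lsec r θ U x) = θ.hom.app W (pbSec r O1 hW x) := by
  have h1 := lsec_res r θ U x (p ⁻¹ᵁ U) le_rfl W hW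
  rw [res_self] at h1
  exact h1

/-- **uniqueness** in the universal property of `P(E)`. -/
theorem uniq (E : Y.Modules) (hE : Coh.IsQCoh E)
    (𝒮 : RelProj.QCGrAlg Y) (j : E ⟶ 𝒮.toModule) (hj : RelProj.IsGrSymAlg E 𝒮 j) (p : P ⟶ Y)
    (chart : ∀ (U : Y.Opens) (hU : IsAffineOpen U),
      ((p ⁻¹ᵁ U : P.Opens) : Scheme.{u}) ≅ Proj (𝒮.deg U hU))
    (hP : RelProj.IsRelProj 𝒮 p chart) (O1 : P.Modules)
    (lam : ∀ (U : Y.Opens) (hU : IsAffineOpen U),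
      O1 ⟶ (Scheme.Modules.pushforward (RelProj.emb p chart U hU)).obj
        (GrTwist.twist (𝒮.deg U hU) 1))
    (hO1 : RelProj.IsRelTwist 𝒮 p chart 1 O1 lam)
    (φ : E ⟶ (Scheme.Modules.pushforward p).obj O1)
    (hφ : ∀ (U : Y.Opens) (hU : IsAffineOpen U) (e : Γ(E, U))
      (y : ↥(RelProj.emb p chart U hU ⁻¹ᵁ (p ⁻¹ᵁ U))),
      GrTwist.val (V := RelProj.emb p chart U hU ⁻¹ᵁ (p ⁻¹ᵁ U))
          ((lam U hU).app (p ⁻¹ᵁ U) ((φ.app U) e)) y =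
        algebraMap (𝒮.presheaf.obj (op U)) (GrTwist.Loc (𝒮.deg U hU) y.1)
          ((j.app U) e : 𝒮.presheaf.obj (op U)))
    (g : X ⟶ Y) (L : X.Modules)
    (s : (Scheme.Modules.pullback g).obj E ⟶ L) (r₁ r₂ : X ⟶ P)
    (h₁ : ∃ (hr : r₁ ≫ p = g) (τ : (Scheme.Modules.pullback r₁).obj O1 ≅ L),
      (Scheme.Modules.pullbackCongr hr).inv.app E ≫ (Scheme.Modules.pullbackComp r₁ p).inv.app E ≫
        (Scheme.Modules.pullback r₁).map
          (((Scheme.Modules.pullbackPushforwardAdjunction p).homEquiv E O1).symm φ) ≫ τ.hom = s)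
    (h₂ : ∃ (hr : r₂ ≫ p = g) (τ : (Scheme.Modules.pullback r₂).obj O1 ≅ L),
      (Scheme.Modules.pullbackCongr hr).inv.app E ≫ (Scheme.Modules.pullbackComp r₂ p).inv.app E ≫
        (Scheme.Modules.pullback r₂).map
          (((Scheme.Modules.pullbackPushforwardAdjunction p).homEquiv E O1).symm φ) ≫ τ.hom = s) :
    r₁ = r₂ := by
  haveI : E.IsQuasicoherent := hE
  obtain ⟨hr₁, τ₁, hc₁⟩ := h₁
  obtain ⟨hr₂, τ₂, hc₂⟩ := h₂
  refine hom_eq_of_lsec hj hP hO1 (fun U e => φ.app U e) (fun U hU e => hφ U hU e) r₁ r₂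
    (hr₁.trans hr₂.symm) τ₁ τ₂ ?_
  intro U hU e W k₁ k₂
  have hW : W ≤ g ⁻¹ᵁ U := by rw [← hr₁]; exact k₁
  refine (lsec_res' r₁ τ₁ U _ W k₁).trans ?_
  refine Eq.trans ?_ (lsec_res' r₂ τ₂ U _ W k₂).symm
  have a₁ := alpha_pbSec E p φ g r₁ hr₁ U e W hW k₁
  have a₂ := alpha_pbSec E p φ g r₂ hr₂ U e W hW k₂
  refine (congrArg (τ₁.hom.app W) a₁.symm).trans ?_
  refine Eq.trans ?_ (congrArg (τ₂.hom.app W) a₂)
  have b₁ := congrArg (fun t : (Scheme.Modules.pullback g).obj E ⟶ L => t.app W (pbSec g E hW e)) hc₁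
  have b₂ := congrArg (fun t : (Scheme.Modules.pullback g).obj E ⟶ L => t.app W (pbSec g E hW e)) hc₂
  simp only [Scheme.Modules.Hom.comp_app] at b₁ b₂ ⊢
  exact b₁.trans b₂.symm

end UniqMain

end

end Groth.Agent.H4.PBUniq
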