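import Mathlib
import Groth.Agent.H4.PBUniq
import Groth.Agent.H4.PBEx1
import Groth.Agent.Lib.Lead.QC.TensorPow
import Groth.Agent.Lib.Lead.QC.Gen
import Groth.Agent.Lib.Lead.QC.RelTwist
import Groth.Agent.Lib.Lead.QC.Pullback

set_option autoImplicit false
set_option linter.style.haveILetI false
set_option linter.unusedSectionVars false
set_option linter.unusedVariables false

namespace Groth.Agent.H4.PBEx2

open CategoryTheory CategoryTheory.Limits AlgebraicGeometry TopologicalSpace Opposite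
open HomogeneousLocalization
open Groth.Agent.H6.Sym Groth.Agent.H6 Groth.Agent.LD.QC Groth.Agent.H4.PBundle Groth.Agent.H4.PBundle2
open Groth.Agent.H4.PBundle3 Groth.Agent.H4.PBLoc Groth.Agent.H4.PBLoc2 Groth.Agent.H4.PBLoc3
open Groth.Agent.H4.ConeImm Groth.Agent.H4.ProjSymL Groth.Agent.H4.ProjSymL2 Groth.Agent.H4.ProjSymL6
open Groth.Agent.H4.PBUniq Groth.Agent.H4.PBEx1
open scoped HomogeneousIdeal

universe u

noncomputable section

section Sigma

variable {X Y : Scheme.{u}} (g : X ⟶ Y) {E : Y.Modules} {L : X.Modules}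
  (s : (Scheme.Modules.pullback g).obj E ⟶ L)

/-- the section of `L` over `g⁻¹ U` attached to a section of `E` over `U`. -/
def sig (U : Y.Opens) (e : Γ(E, U)) : Γ(L, g ⁻¹ᵁ U) := s.app (g ⁻¹ᵁ U) (pbSec g E le_rfl e)

lemma sig_add (U : Y.Opens) (m m' : Γ(E, U)) : sig g s U (m + m') = sig g s U m + sig g s U m' := by
  unfold sig
  rw [pbSec_add, map_add]

lemma sig_smul (U : Y.Opens) (a : Γ(Y, U)) (m : Γ(E, U)) :
    sig g s U (a • m) = (g.app U).hom a • sig g s U m := by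
  unfold sig
  rw [pbSec_smul, Scheme.Modules.Hom.app_smul]
  congr 1
  exact congrArg (fun t => t.hom a) (Scheme.Hom.app_eq_appLE (f := g) (U := U)).symm

lemma sig_res' (U : Y.Opens) (m : Γ(E, U)) (W : X.Opens) (hW : W ≤ g ⁻¹ᵁ U) :
    L.presheaf.map (homOfLE hW).op (sig g s U m) = s.app W (pbSec g E hW m) := by
  unfold sig
  rw [← app_res]
  congr 1
  have h1 := pbSec_res g E (le_refl (g ⁻¹ᵁ U)) hW hW le_rfl m
  rw [res_self] at h1
  exact h1.symm

lemma sig_res (U V : Y.Opens) (h : V ≤ U) (m : Γ(E, U)) :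
    sig g s V (E.presheaf.map (homOfLE h).op m) =
      L.presheaf.map (homOfLE (g.preimage_mono h)).op (sig g s U m) := by
  rw [sig_res' g s U m _ (g.preimage_mono h)]
  unfold sig
  congr 1
  exact pbSec_res g E (g.preimage_mono h) (le_refl (g ⁻¹ᵁ V)) le_rfl h m |>.trans (res_self _ _ _)

end Sigma

section Basis

variable {X Y : Scheme.{u}} (g : X ⟶ Y) {E : Y.Modules} [E.IsQuasicoherent] {L : X.Modules}
  (s : (Scheme.Modules.pullback g).obj E ⟶ L)

theorem exists_basis_of_epi (hL : PicF.IsInvertible L) [Epi s] (x : X) (U : Y.Opens)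
    (hU : IsAffineOpen U) (hxU : g.base x ∈ U) :
    ∃ (e : Γ(E, U)) (V : X.Opens) (hV : IsAffineOpen V) (hVU : V ≤ g ⁻¹ᵁ U), x ∈ V ∧
      IsBasisOver L V (L.presheaf.map (homOfLE hVU).op (sig g s U e)) := by
  haveI : L.IsQuasicoherent := qc_of_isInvertible L hL
  obtain ⟨U₀, ℓ₀, hxU₀, hℓ₀⟩ := (isInvertible_iff_exists_isBasisOver L).mp hL x
  obtain ⟨V, hV, hxV, hVle⟩ := Opens.isBasis_iff_nbhd.mp X.isBasis_affineOpens
    (show x ∈ U₀ ⊓ g ⁻¹ᵁ U from ⟨hxU₀, hxU⟩)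
  replace hV : IsAffineOpen V := hV
  have hVU : V ≤ g ⁻¹ᵁ U := hVle.trans inf_le_right
  have hbV := hℓ₀.mono (hVle.trans inf_le_left)
  have hsurj := epi_app_affine (M := (Scheme.Modules.pullback g).obj E) (N := L)
    (qc_pullback g E) inferInstance s hV
  obtain ⟨κ, hκ⟩ := hsurj (L.presheaf.map (homOfLE (hVle.trans inf_le_left)).op ℓ₀)
  have hspan := span_range_pbSec (f := g) hV hU hVU E
  have hmem : L.presheaf.map (homOfLE (hVle.trans inf_le_left)).op ℓ₀ ∈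
      Submodule.span Γ(X, V) (Set.range (fun e : Γ(E, U) => s.app V (pbSec g E hVU e))) := by
    rw [← hκ]
    have hκs : κ ∈ Submodule.span Γ(X, V) (Set.range (pbSec g E hVU)) := by
      rw [hspan]; trivial
    clear hκ
    induction hκs using Submodule.span_induction with
    | mem y hy =>
      obtain ⟨e, rfl⟩ := hy
      exact Submodule.subset_span ⟨e, rfl⟩
    | zero => rw [map_zero]; exact zero_mem _
    | add a b _ _ ha hb => rw [map_add]; exact add_mem ha hb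
    | smul a b _ hb => rw [Scheme.Modules.Hom.app_smul]; exact Submodule.smul_mem _ a hb
  obtain ⟨m, ⟨e, rfl⟩, b, hmb, hxb⟩ := exists_coord_mem_basicOpen_of_span L x hxV _ hbV _ hmem
  have hV' : IsAffineOpen (X.basicOpen b) := hV.basicOpen b
  have hV'V : X.basicOpen b ≤ V := X.basicOpen_le b
  refine ⟨e, X.basicOpen b, hV', hV'V.trans hVU, hxb, ?_⟩
  have h1 : L.presheaf.map (homOfLE (hV'V.trans hVU)).op (sig g s U e) =
      L.presheaf.map (homOfLE hV'V).op (s.app V (pbSec g E hVU e)) := by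
    rw [← sig_res' g s U e V hVU, res_res]
  have hmb' : s.app V (pbSec g E hVU e) =
      b • L.presheaf.map (homOfLE (hVle.trans inf_le_left)).op ℓ₀ := hmb
  rw [h1, hmb', Scheme.Modules.map_smul]
  have hb' := hbV.mono hV'V
  exact (hb'.smul_iff _).mpr (RingedSpace.isUnit_res_basicOpen X.toRingedSpace b)

end Basis

section Ex

variable {X Y P PL : Scheme.{u}} {g : X ⟶ Y} {E : Y.Modules} [E.IsQuasicoherent]
  {𝒮 : RelProj.QCGrAlg Y} {j : E ⟶ 𝒮.toModule}
  {L : X.Modules} {𝒮L : RelProj.QCGrAlg X} {jL : L ⟶ 𝒮L.toModule}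
  {pL : PL ⟶ X}
  (chartL : ∀ (U : X.Opens) (hU : IsAffineOpen U),
    (((pL ⁻¹ᵁ U : PL.Opens) : Scheme.{u}) ≅ Proj (𝒮L.deg U hU)))
  (u : RelProj.QGrHom g 𝒮 𝒮L) {p : P ⟶ Y}
  (chart : ∀ (U : Y.Opens) (hU : IsAffineOpen U),
    (((p ⁻¹ᵁ U : P.Opens) : Scheme.{u}) ≅ Proj (𝒮.deg U hU)))
  (σ : ∀ U : Y.Opens, Γ(E, U) → Γ(L, g ⁻¹ᵁ U))
  (hu : ∀ (U : Y.Opens) (hU : IsAffineOpen U) (e : Γ(E, U)),
    (u.app U).hom (QA.sec j U e) = QA.sec jL (g ⁻¹ᵁ U) (σ U e))

include hu in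
lemma appLE_sec (U : Y.Opens) (hU : IsAffineOpen U) (e : Γ(E, U)) (V : X.Opens)
    (hVU : V ≤ g ⁻¹ᵁ U) :
    (u.appLE U V hVU).hom (QA.sec j U e) =
      QA.sec jL V (L.presheaf.map (homOfLE hVU).op (σ U e)) := by
  rw [← QA.sec_res, ← hu U hU e]
  rfl

include hu in
theorem le_XFU_of_basis [L.IsQuasicoherent] (hjL : RelProj.IsGrSymAlg L 𝒮L jL)
    (U : Y.Opens) (hU : IsAffineOpen U) (e : Γ(E, U)) (V : X.Opens) (hV : IsAffineOpen V)
    (hVU : V ≤ g ⁻¹ᵁ U)
    (hb : IsBasisOver L V (L.presheaf.map (homOfLE hVU).op (σ U e))) :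
    V ≤ XFU u U 1 (QA.sec j U e) := by
  intro x hx
  rw [mem_XFU]
  refine ⟨V, hV, hVU, hx, ?_⟩
  intro t ht
  obtain ⟨r, rfl⟩ := (exists_N hjL V hV _ hb).1 1 t ht
  show _ ∈ Ideal.span _
  rw [Ideal.mem_span_singleton']
  refine ⟨(𝒮L.str.app (op V)).hom r, ?_⟩
  rw [appLE_sec u σ hu U hU e V hVU, pow_one]

end Ex

section FromSpec

lemma SpecMap_awayToSection_awayι {σ : Type u} {A : Type u} [CommRing A] [SetLike σ A]
    [AddSubgroupClass σ A] (𝒜 : ℕ → σ) [GradedRing 𝒜] (f : A) {m : ℕ} (hf : f ∈ 𝒜 m) (hm : 0 < m) :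
    Spec.map (Proj.awayToSection 𝒜 f) ≫ Proj.awayι 𝒜 f hf hm =
      (Proj.isAffineOpen_basicOpen 𝒜 f hf hm).fromSpec := by
  rw [← cancel_epi (Proj.isAffineOpen_basicOpen 𝒜 f hf hm).isoSpec.hom,
    IsAffineOpen.isoSpec_hom_fromSpec, IsAffineOpen.isoSpec_hom]
  have h1 : (Proj.basicOpen 𝒜 f).toSpecΓ ≫ Spec.map (Proj.awayToSection 𝒜 f) =
      (Proj.basicOpenIsoSpec 𝒜 f hf hm).hom := (Proj.basicOpenIsoSpec_hom 𝒜 f hf hm).symm
  rw [← Category.assoc, h1, Proj.awayι, Iso.hom_inv_id_assoc]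

variable {Y P : Scheme.{u}} {𝒮 : RelProj.QCGrAlg Y} (p : P ⟶ Y)
  (chart : ∀ (U : Y.Opens) (hU : IsAffineOpen U),
    (((p ⁻¹ᵁ U : P.Opens) : Scheme.{u}) ≅ Proj (𝒮.deg U hU)))

theorem SpecMap_fn (U : Y.Opens) (hU : IsAffineOpen U) (f : 𝒮.presheaf.obj (op U)) {n : ℕ}
    (hn : 0 < n) (hf : f ∈ 𝒮.deg U hU n) :
    Spec.map (Proj.awayToSection (𝒮.deg U hU) f ≫
        ((RelProj.emb p chart U hU).appIso (Proj.basicOpen (𝒮.deg U hU) f)).inv) ≫
      Proj.awayι (𝒮.deg U hU) f hf hn ≫ RelProj.emb p chart U hU =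
      (isAffineOpen_Dp p chart U hU f hn hf).fromSpec := by
  rw [Spec.map_comp, Category.assoc,
    ← Category.assoc (Spec.map (Proj.awayToSection (𝒮.deg U hU) f)),
    SpecMap_awayToSection_awayι (𝒮.deg U hU) f hf hn]
  have h2 := IsAffineOpen.SpecMap_appLE_fromSpec (RelProj.emb p chart U hU)
    (isAffineOpen_Dp p chart U hU f hn hf) (Proj.isAffineOpen_basicOpen (𝒮.deg U hU) f hf hn)
    ((RelProj.emb p chart U hU).preimage_image_eq _).ge
  rw [← h2, ← Category.assoc, ← Spec.map_comp]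
  have h3 : (RelProj.emb p chart U hU).appLE (Dp p chart U hU f)
      (Proj.basicOpen (𝒮.deg U hU) f) ((RelProj.emb p chart U hU).preimage_image_eq _).ge ≫
      ((RelProj.emb p chart U hU).appIso (Proj.basicOpen (𝒮.deg U hU) f)).inv = 𝟙 _ := by
    have h4 := Scheme.Hom.appIso_hom' (RelProj.emb p chart U hU) (Proj.basicOpen (𝒮.deg U hU) f)
    exact (congrArg (· ≫ ((RelProj.emb p chart U hU).appIso
      (Proj.basicOpen (𝒮.deg U hU) f)).inv) h4.symm).trans (Iso.hom_inv_id _)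
  rw [h3]
  erw [Spec.map_id]
  exact Category.id_comp _

/-- `fn` as a morphism of commutative rings. -/
def fnC (U : Y.Opens) (hU : IsAffineOpen U) (f : 𝒮.presheaf.obj (op U)) :
    CommRingCat.of (Away (𝒮.deg U hU) f) ⟶ Γ(P, Dp p chart U hU f) :=
  CommRingCat.ofHom (fn p chart U hU f)

theorem SpecMap_fnC (U : Y.Opens) (hU : IsAffineOpen U) (f : 𝒮.presheaf.obj (op U)) {n : ℕ}
    (hn : 0 < n) (hf : f ∈ 𝒮.deg U hU n) :
    Spec.map (fnC p chart U hU f) ≫ Proj.awayι (𝒮.deg U hU) f hf hn ≫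
        RelProj.emb p chart U hU =
      (isAffineOpen_Dp p chart U hU f hn hf).fromSpec :=
  SpecMap_fn p chart U hU f hn hf

end FromSpec

section ChartFormula

open Groth.Agent.H4.ProjQ Groth.Agent.H4.ProjBC2

variable {X Y P PL : Scheme.{u}} {g : X ⟶ Y}
  {𝒮 : RelProj.QCGrAlg Y} {𝒮L : RelProj.QCGrAlg X}
  {pL : PL ⟶ X}
  (chartL : ∀ (U : X.Opens) (hU : IsAffineOpen U),
    (((pL ⁻¹ᵁ U : PL.Opens) : Scheme.{u}) ≅ Proj (𝒮L.deg U hU)))
  (u : RelProj.QGrHom g 𝒮 𝒮L) {p : P ⟶ Y}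
  (chart : ∀ (U : Y.Opens) (hU : IsAffineOpen U),
    (((p ⁻¹ᵁ U : P.Opens) : Scheme.{u}) ≅ Proj (𝒮.deg U hU)))

/-- **the chart formula**: the ring map induced by `r` on a chart is `Away.map u f`, read through
the structure map of the chart of `PL`. -/
theorem chart_formula (hPL : RelProj.IsRelProj 𝒮L pL chartL)
    (r₀ : ((RelProj.domQ u pL chartL : PL.Opens) : Scheme.{u}) ⟶ P)
    (hr₀ : RelProj.IsProjQMapOn u p chart pL chartL (RelProj.domQ u pL chartL) r₀)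
    (r : X ⟶ P) (hκr : (RelProj.domQ u pL chartL).ι ≫ pL ≫ r = r₀)
    (U : Y.Opens) (hU : IsAffineOpen U) (V : X.Opens) (hV : IsAffineOpen V) (hle : V ≤ g ⁻¹ᵁ U)
    {d : ℕ} (hd : 0 < d) (f : 𝒮.presheaf.obj (op U)) (hf : f ∈ 𝒮.deg U hU d)
    (e : V ≤ r ⁻¹ᵁ Dp p chart U hU f) (z : Away (𝒮.deg U hU) f) :
    (𝒮L.strZero V hV ≫ CommRingCat.ofHom (fromZeroRingHom (𝒮L.deg V hV)
        (Submonoid.powers (u.gradedAt U hU V hV hle f)))).hom (chi r U hU f V e z) =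
      Away.map (u.gradedAt U hU V hV hle) f z := by
  have h1 := (isProjQMapOn_iff u p chart pL chartL r₀).mp hr₀ U hU V hV hle d hd f hf
  rw [← hκr, ← Category.assoc, aq_ι, ← Category.assoc,
    awayEmb_over u pL chartL hPL U hU V hV hle hd f hf] at h1
  have hD := isAffineOpen_Dp p chart U hU f hd hf
  have h4 := IsAffineOpen.SpecMap_appLE_fromSpec r hD hV e
  have h5 := SpecMap_fnC p chart U hU f hd hf
  unfold gq at h1
  simp only [Category.assoc] at h1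
  have key : Spec.map (fnC p chart U hU f ≫ r.appLE (Dp p chart U hU f) V e ≫
      (𝒮L.strZero V hV ≫ CommRingCat.ofHom (fromZeroRingHom (𝒮L.deg V hV)
        (Submonoid.powers (u.gradedAt U hU V hV hle f))))) ≫
      (Proj.awayι (𝒮.deg U hU) f hf hd ≫ RelProj.emb p chart U hU) =
      Spec.map (CommRingCat.ofHom (Away.map (u.gradedAt U hU V hV hle) f)) ≫
        (Proj.awayι (𝒮.deg U hU) f hf hd ≫ RelProj.emb p chart U hU) := by
    rw [Spec.map_comp, Spec.map_comp, Category.assoc, Category.assoc, h5, h4]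
    exact h1
  haveI : Mono (Proj.awayι (𝒮.deg U hU) f hf hd ≫ RelProj.emb p chart U hU) := inferInstance
  have h6 := (cancel_mono _).mp key
  have h7 := Spec.map_injective h6
  have h8 := congrArg (fun t => t.hom z) h7
  exact h8

end ChartFormula

section CoordK

open Groth.Agent.H4.ProjQ Groth.Agent.H4.ProjBC2

variable {X Y P PL : Scheme.{u}} {g : X ⟶ Y} {E : Y.Modules} [E.IsQuasicoherent]
  {𝒮 : RelProj.QCGrAlg Y} {j : E ⟶ 𝒮.toModule}
  {L : X.Modules} {𝒮L : RelProj.QCGrAlg X} {jL : L ⟶ 𝒮L.toModule}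
  {pL : PL ⟶ X}
  (chartL : ∀ (U : X.Opens) (hU : IsAffineOpen U),
    (((pL ⁻¹ᵁ U : PL.Opens) : Scheme.{u}) ≅ Proj (𝒮L.deg U hU)))
  (u : RelProj.QGrHom g 𝒮 𝒮L) {p : P ⟶ Y}
  (chart : ∀ (U : Y.Opens) (hU : IsAffineOpen U),
    (((p ⁻¹ᵁ U : P.Opens) : Scheme.{u}) ≅ Proj (𝒮.deg U hU)))
  (σ : ∀ U : Y.Opens, Γ(E, U) → Γ(L, g ⁻¹ᵁ U))
  (hu : ∀ (U : Y.Opens) (hU : IsAffineOpen U) (e : Γ(E, U)),
    (u.app U).hom (QA.sec j U e) = QA.sec jL (g ⁻¹ᵁ U) (σ U e))

include hu in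
/-- injectivity of the structure map of the chart where `σ e` is a basis. -/
lemma beta_injective [L.IsQuasicoherent] (hjL : RelProj.IsGrSymAlg L 𝒮L jL)
    (U : Y.Opens) (hU : IsAffineOpen U) (e : Γ(E, U)) (V : X.Opens) (hV : IsAffineOpen V)
    (hle : V ≤ g ⁻¹ᵁ U)
    (hb : IsBasisOver L V (L.presheaf.map (homOfLE hle).op (σ U e))) (a b : Γ(X, V))
    (hab : (𝒮L.strZero V hV ≫ CommRingCat.ofHom (fromZeroRingHom (𝒮L.deg V hV)
        (Submonoid.powers (u.gradedAt U hU V hV hle (QA.sec j U e))))).hom a =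
      (𝒮L.strZero V hV ≫ CommRingCat.ofHom (fromZeroRingHom (𝒮L.deg V hV)
        (Submonoid.powers (u.gradedAt U hU V hV hle (QA.sec j U e))))).hom b) : a = b := by
  have h1 := congrArg HomogeneousLocalization.val hab
  change Localization.mk ((𝒮L.str.app (op V)).hom a) 1 = Localization.mk ((𝒮L.str.app (op V)).hom b) 1 at h1
  rw [Localization.mk_eq_mk_iff, Localization.r_iff_exists] at h1
  obtain ⟨⟨_, k, rfl⟩, hk⟩ := h1
  simp only [OneMemClass.coe_one, one_mul] at hk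
  have hT : u.gradedAt U hU V hV hle (QA.sec j U e) =
      QA.sec jL V (L.presheaf.map (homOfLE hle).op (σ U e)) := appLE_sec u σ hu U hU e V hle
  rw [hT] at hk
  have h2 : (𝒮L.str.app (op V)).hom (a - b) *
      (QA.sec jL V (L.presheaf.map (homOfLE hle).op (σ U e))) ^ k = 0 := by
    rw [map_sub, sub_mul, mul_comm, hk, mul_comm, sub_self]
  have h3 := (exists_N hjL V hV _ hb).2 (a - b) k h2
  exact sub_eq_zero.mp h3

include hu in
/-- **the coordinates of the sections `σ e'` in the basis `σ e`** are given by the chart ring map of `r`. -/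
theorem sig_eq_chi_smul [L.IsQuasicoherent] (hjL : RelProj.IsGrSymAlg L 𝒮L jL)
    (hj : RelProj.IsGrSymAlg E 𝒮 j)
    (hPL : RelProj.IsRelProj 𝒮L pL chartL)
    (r₀ : ((RelProj.domQ u pL chartL : PL.Opens) : Scheme.{u}) ⟶ P)
    (hr₀ : RelProj.IsProjQMapOn u p chart pL chartL (RelProj.domQ u pL chartL) r₀)
    (r : X ⟶ P) (hκr : (RelProj.domQ u pL chartL).ι ≫ pL ≫ r = r₀)
    (U : Y.Opens) (hU : IsAffineOpen U) (e : Γ(E, U)) (V : X.Opens) (hV : IsAffineOpen V)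
    (hle : V ≤ g ⁻¹ᵁ U)
    (hb : IsBasisOver L V (L.presheaf.map (homOfLE hle).op (σ U e)))
    (eV : V ≤ r ⁻¹ᵁ Dp p chart U hU (QA.sec j U e)) (e' : Γ(E, U))
    (z : Away (𝒮.deg U hU) (QA.sec j U e))
    (hz : z.val = Localization.mk (QA.sec j U e')
      (⟨(QA.sec j U e) ^ 1, 1, rfl⟩ : Submonoid.powers (QA.sec j U e))) :
    L.presheaf.map (homOfLE hle).op (σ U e') =
      chi r U hU (QA.sec j U e) V eV z • L.presheaf.map (homOfLE hle).op (σ U e) := by
  obtain ⟨c, hc⟩ := hb.exists_coord (L.presheaf.map (homOfLE hle).op (σ U e'))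
  have hh : QA.sec j U e ∈ 𝒮.deg U hU 1 := hj.2 U hU e
  have hh' : QA.sec j U e' ∈ 𝒮.deg U hU 1 := hj.2 U hU e'
  have hzz : z = Away.mk (𝒮.deg U hU) hh 1 (QA.sec j U e') (by simpa using hh') := by
    apply HomogeneousLocalization.val_injective
    rw [hz, Away.val_mk]
  have hcf := chart_formula chartL u chart hPL r₀ hr₀ r hκr U hU V hV hle Nat.one_pos
    (QA.sec j U e) hh eV z
  have hT : u.gradedAt U hU V hV hle (QA.sec j U e) =
      QA.sec jL V (L.presheaf.map (homOfLE hle).op (σ U e)) := appLE_sec u σ hu U hU e V hle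
  have hT' : u.gradedAt U hU V hV hle (QA.sec j U e') =
      (𝒮L.str.app (op V)).hom c * QA.sec jL V (L.presheaf.map (homOfLE hle).op (σ U e)) := by
    have h1 : u.gradedAt U hU V hV hle (QA.sec j U e') = _ := appLE_sec u σ hu U hU e' V hle
    rw [h1, hc, QA.sec_smul]
  have hβc : (𝒮L.strZero V hV ≫ CommRingCat.ofHom (fromZeroRingHom (𝒮L.deg V hV)
        (Submonoid.powers (u.gradedAt U hU V hV hle (QA.sec j U e))))).hom c =
      Away.map (u.gradedAt U hU V hV hle) (QA.sec j U e) z := by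
    apply HomogeneousLocalization.val_injective
    rw [hzz, Away.map_mk, Away.val_mk]
    change Localization.mk ((𝒮L.str.app (op V)).hom c) 1 = _
    rw [Localization.mk_eq_mk_iff, Localization.r_iff_exists]
    refine ⟨1, ?_⟩
    simp only [OneMemClass.coe_one, one_mul]
    rw [hT', hT]
    ring
  have hchi := beta_injective u σ hu hjL U hU e V hV hle hb _ _ (hcf.trans hβc.symm)
  rw [hchi, hc]

end CoordK

end

end Groth.Agent.H4.PBEx2
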