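import Groth.Agent.H4.ProjQ2

set_option autoImplicit false

namespace Groth.Agent.H4.ProjQ3

open CategoryTheory CategoryTheory.Limits AlgebraicGeometry TopologicalSpace Opposite
open HomogeneousLocalization
open Groth.Agent.H4 Groth.Agent.H4.RelSpecLib Groth.Agent.H4.ConeImm Groth.Agent.H4.ConeInf
open Groth.Agent.H4.ConeRetrAlg Groth.Agent.H4.ConeRetr Groth.Agent.H4.ConeRetr2
open Groth.Agent.H4.ProjQ Groth.Agent.H4.ProjQ2
open scoped HomogeneousIdeal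

universe u

theorem main_S12139 {Y Y' P P' : Scheme.{u}} (g : Y' ⟶ Y)
    (𝒮 : RelProj.QCGrAlg Y) (𝒮' : RelProj.QCGrAlg Y') (u : RelProj.QGrHom g 𝒮 𝒮')
    (p : P ⟶ Y) (chart : ∀ (U : Y.Opens) (hU : IsAffineOpen U), (((p ⁻¹ᵁ U : P.Opens) : Scheme.{u}) ≅ Proj (𝒮.deg U hU)))
    (hP : RelProj.IsRelProj 𝒮 p chart)
    (p' : P' ⟶ Y') (chart' : ∀ (U : Y'.Opens) (hU : IsAffineOpen U), (((p' ⁻¹ᵁ U : P'.Opens) : Scheme.{u}) ≅ Proj (𝒮'.deg U hU)))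
    (hP' : RelProj.IsRelProj 𝒮' p' chart') :
    (∃! v : ((RelProj.domQ u p' chart' : P'.Opens) : Scheme.{u}) ⟶ P,
        RelProj.IsProjQMapOn u p chart p' chart' (RelProj.domQ u p' chart') v) ∧
      ∀ v : ((RelProj.domQ u p' chart' : P'.Opens) : Scheme.{u}) ⟶ P,
        RelProj.IsProjQMapOn u p chart p' chart' (RelProj.domQ u p' chart') v →
          v ≫ p = (RelProj.domQ u p' chart').ι ≫ p' ≫ g := by
  refine ⟨?_, fun v hv => v_over u p chart p' chart' hP hP' v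
    ((isProjQMapOn_iff u p chart p' chart' v).mp hv)⟩
  obtain ⟨v, hv⟩ := exists_v u p chart p' chart' hP hP'
  refine ⟨v, (isProjQMapOn_iff u p chart p' chart' v).mpr hv, fun w hw => ?_⟩
  have hw' := (isProjQMapOn_iff u p chart p' chart' w).mp hw
  exact hom_ext_Q u p' chart' w v fun U hU U' hU' hle d hd f hf => by
    rw [hw' U hU U' hU' hle d hd f hf, hv U hU U' hU' hle d hd f hf]

theorem main_S12140 {Y PA PB : Scheme.{u}} (𝒜 ℬ : RelProj.QCGrAlg Y)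
    (φ : 𝒜.toQCAlg ⟶ ℬ.toQCAlg) (hφ : RelProj.IsGradedHom φ)
    (pA : PA ⟶ Y) (chartA : ∀ (U : Y.Opens) (hU : IsAffineOpen U), (((pA ⁻¹ᵁ U : PA.Opens) : Scheme.{u}) ≅ Proj (𝒜.deg U hU)))
    (hA : RelProj.IsRelProj 𝒜 pA chartA)
    (pB : PB ⟶ Y) (chartB : ∀ (U : Y.Opens) (hU : IsAffineOpen U), (((pB ⁻¹ᵁ U : PB.Opens) : Scheme.{u}) ≅ Proj (ℬ.deg U hU)))
    (hB : RelProj.IsRelProj ℬ pB chartB)
    (Φ : ((RelProj.domQ (RelProj.QGrHom.ofHom φ hφ) pB chartB : PB.Opens) : Scheme.{u}) ⟶ PA)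
    (hΦ : RelProj.IsProjQMapOn (RelProj.QGrHom.ofHom φ hφ) pA chartA pB chartB
      (RelProj.domQ (RelProj.QGrHom.ofHom φ hφ) pB chartB) Φ) :
    IsAffineHom Φ ∧
      ∀ (U : Y.Opens) (hU : IsAffineOpen U),
        RelProj.domQ (RelProj.QGrHom.ofHom φ hφ) pB chartB ⊓ pB ⁻¹ᵁ U =
          (RelProj.emb pB chartB U hU) ''ᵁ RelCone.domOpen (RelProj.gradedHomAt φ hφ U hU) := by
  have hΦ' := (isProjQMapOn_iff (RelProj.QGrHom.ofHom φ hφ) pA chartA pB chartB Φ).mp hΦ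
  refine ⟨?_, ?_⟩
  · exact prop_of_charts (Pr := @IsAffineHom) φ hφ pA chartA pB chartB Φ hΦ' hA hB
      (fun U hU hle d hd f hf => inferInstance)
  · intro U hU
    ext x
    constructor
    · rintro ⟨hx1, hx2⟩
      obtain ⟨w, rfl⟩ := exists_emb pB chartB x U hU hx2
      have h1 := (mem_domQ_iff (RelProj.QGrHom.ofHom φ hφ) pB chartB hB U hU U hU (le_id U) w).mp hx1
      rw [mem_domOpen_ofHom φ hφ U hU (le_id U) w] at h1
      exact ⟨w, h1, rfl⟩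
    · rintro ⟨w, hw, rfl⟩
      refine ⟨?_, emb_mem pB chartB U hU w⟩
      show (RelProj.emb pB chartB U hU).base w ∈ RelProj.domQ (RelProj.QGrHom.ofHom φ hφ) pB chartB
      rw [mem_domQ_iff (RelProj.QGrHom.ofHom φ hφ) pB chartB hB U hU U hU (le_id U) w,
        mem_domOpen_ofHom φ hφ U hU (le_id U) w]
      exact hw

theorem main_S12163 {Y PB : Scheme.{u}} (𝒜 ℬ : RelProj.QCGrAlg Y)
    (φ : 𝒜.toQCAlg ⟶ ℬ.toQCAlg) (hφ : RelProj.IsGradedHom φ)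
    (pB : PB ⟶ Y) (chartB : ∀ (U : Y.Opens) (hU : IsAffineOpen U), (((pB ⁻¹ᵁ U : PB.Opens) : Scheme.{u}) ≅ Proj (ℬ.deg U hU)))
    (hB : RelProj.IsRelProj ℬ pB chartB)
    (hcov : ∀ y : Y, ∃ (U : Y.Opens) (hU : IsAffineOpen U), y ∈ U ∧
      (ℬ.deg U hU)₊ ≤ ((𝒜.deg U hU)₊).map (RelProj.gradedHomAt φ hφ U hU)) :
    RelProj.domQ (RelProj.QGrHom.ofHom φ hφ) pB chartB = ⊤ := by
  rw [eq_top_iff]
  intro x _
  show x ∈ RelProj.domQ (RelProj.QGrHom.ofHom φ hφ) pB chartB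
  obtain ⟨U, hU, hxU, hirr⟩ := hcov (pB.base x)
  obtain ⟨w, rfl⟩ := exists_emb pB chartB x U hU hxU
  rw [mem_domQ_iff (RelProj.QGrHom.ofHom φ hφ) pB chartB hB U hU U hU (le_id U) w,
    mem_domOpen_ofHom φ hφ U hU (le_id U) w, RelCone.mem_domOpen]
  by_contra hcon
  push Not at hcon
  apply w.not_irrelevant_le
  refine hirr.trans ?_
  rw [HomogeneousIdeal.map_le_iff_le_comap]
  intro a ha
  exact hcon a ha

theorem main_S12165 {Y PA PB : Scheme.{u}} (𝒜 ℬ : RelProj.QCGrAlg Y)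
    (φ : 𝒜.toQCAlg ⟶ ℬ.toQCAlg) (hφ : RelProj.IsGradedHom φ)
    (hTN : ∃ n : ℕ, ∀ k, n ≤ k → ∀ (U : Y.Opens) (hU : IsAffineOpen U), ∀ y ∈ ℬ.deg U hU k,
      ∃ x ∈ 𝒜.deg U hU k, (φ.hom.app (op U)).hom x = y)
    (pA : PA ⟶ Y) (chartA : ∀ (U : Y.Opens) (hU : IsAffineOpen U), (((pA ⁻¹ᵁ U : PA.Opens) : Scheme.{u}) ≅ Proj (𝒜.deg U hU)))
    (hA : RelProj.IsRelProj 𝒜 pA chartA)
    (pB : PB ⟶ Y) (chartB : ∀ (U : Y.Opens) (hU : IsAffineOpen U), (((pB ⁻¹ᵁ U : PB.Opens) : Scheme.{u}) ≅ Proj (ℬ.deg U hU)))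
    (hB : RelProj.IsRelProj ℬ pB chartB) :
    RelProj.domQ (RelProj.QGrHom.ofHom φ hφ) pB chartB = ⊤ ∧
      ∀ h : PB ⟶ PA, RelProj.IsProjQMap (RelProj.QGrHom.ofHom φ hφ) pA chartA pB chartB h →
        IsClosedImmersion h := by
  obtain ⟨n, hn⟩ := hTN
  refine ⟨domQ_eq_top_of_tn φ hφ pB chartB hB n hn, fun h hh => ?_⟩
  refine prop_of_isProjQMap (Pr := @IsClosedImmersion) φ hφ pA chartA pB chartB hA hB h hh ?_
  intro U hU hle d hd f hf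
  apply IsClosedImmersion.spec_of_surjective
  exact awayMap_surjective_of_tn _ n (fun k hk y hy => by
    obtain ⟨x, hx, hxy⟩ := hn k hk U hU y hy
    exact ⟨x, hx, (gradedAt_ofHom φ hφ U hU hle x).trans hxy⟩) hd f hf

theorem main_S12166 {Y PA PB : Scheme.{u}} (𝒜 ℬ : RelProj.QCGrAlg Y)
    (φ : 𝒜.toQCAlg ⟶ ℬ.toQCAlg) (hφ : RelProj.IsGradedHom φ)
    (hTN : ∃ n : ℕ, ∀ k, n ≤ k → ∀ (U : Y.Opens) (hU : IsAffineOpen U),
      (∀ x ∈ 𝒜.deg U hU k, (φ.hom.app (op U)).hom x = 0 → x = 0) ∧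
        ∀ y ∈ ℬ.deg U hU k, ∃ x ∈ 𝒜.deg U hU k, (φ.hom.app (op U)).hom x = y)
    (pA : PA ⟶ Y) (chartA : ∀ (U : Y.Opens) (hU : IsAffineOpen U), (((pA ⁻¹ᵁ U : PA.Opens) : Scheme.{u}) ≅ Proj (𝒜.deg U hU)))
    (hA : RelProj.IsRelProj 𝒜 pA chartA)
    (pB : PB ⟶ Y) (chartB : ∀ (U : Y.Opens) (hU : IsAffineOpen U), (((pB ⁻¹ᵁ U : PB.Opens) : Scheme.{u}) ≅ Proj (ℬ.deg U hU)))
    (hB : RelProj.IsRelProj ℬ pB chartB) :
    RelProj.domQ (RelProj.QGrHom.ofHom φ hφ) pB chartB = ⊤ ∧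
      ∀ h : PB ⟶ PA, RelProj.IsProjQMap (RelProj.QGrHom.ofHom φ hφ) pA chartA pB chartB h → IsIso h := by
  obtain ⟨n, hn⟩ := hTN
  refine ⟨domQ_eq_top_of_tn φ hφ pB chartB hB n (fun k hk U hU => (hn k hk U hU).2),
    fun h hh => ?_⟩
  have key : MorphismProperty.isomorphisms Scheme.{u} h := by
    refine prop_of_isProjQMap (Pr := MorphismProperty.isomorphisms Scheme.{u}) φ hφ pA chartA pB
      chartB hA hB h hh ?_
    intro U hU hle d hd f hf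
    have hb : Function.Bijective
        (Away.map ((RelProj.QGrHom.ofHom φ hφ).gradedAt U hU U hU hle) f) := by
      constructor
      · exact awayMap_injective_of_tn _ n (fun k hk x hx hx0 =>
          (hn k hk U hU).1 x hx ((gradedAt_ofHom φ hφ U hU hle x).symm.trans hx0)) hd f hf
      · exact awayMap_surjective_of_tn _ n (fun k hk y hy => by
          obtain ⟨x, hx, hxy⟩ := (hn k hk U hU).2 y hy
          exact ⟨x, hx, (gradedAt_ofHom φ hφ U hU hle x).trans hxy⟩) hd f hf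
    have hiso : IsIso (CommRingCat.ofHom
        (Away.map ((RelProj.QGrHom.ofHom φ hφ).gradedAt U hU U hU hle) f)) :=
      (ConcreteCategory.isIso_iff_bijective _).mpr hb
    change IsIso (Spec.map _)
    infer_instance
  exact (MorphismProperty.isomorphisms.iff h).mp key

end Groth.Agent.H4.ProjQ3
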