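import Mathlib
import Groth.Agent.H4.PBEx2
import Groth.Agent.H4.ProjQ3

set_option autoImplicit false
set_option linter.style.haveILetI false
set_option linter.unusedSectionVars false
set_option linter.unusedVariables false

namespace Groth.Agent.H4.PBEx3

open CategoryTheory CategoryTheory.Limits AlgebraicGeometry TopologicalSpace Opposite
open HomogeneousLocalization
open Groth.Agent.H6.Sym Groth.Agent.H6 Groth.Agent.LD.QC Groth.Agent.H4.PBundle Groth.Agent.H4.PBundle2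
open Groth.Agent.H4.PBundle3 Groth.Agent.H4.PBLoc Groth.Agent.H4.PBLoc2 Groth.Agent.H4.PBLoc3
open Groth.Agent.H4.ConeImm Groth.Agent.H4.ProjSymL Groth.Agent.H4.ProjSymL2 Groth.Agent.H4.ProjSymL6
open Groth.Agent.H4.PBUniq Groth.Agent.H4.PBEx1 Groth.Agent.H4.PBEx2
open Groth.Agent.H4.ProjQ Groth.Agent.H4.ProjQ3
open scoped HomogeneousIdeal

universe u

noncomputable section

section MkR

variable {X Y P PL : Scheme.{u}} {g : X ⟶ Y} {E : Y.Modules} [E.IsQuasicoherent]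
  {𝒮 : RelProj.QCGrAlg Y} {j : E ⟶ 𝒮.toModule}
  {L : X.Modules} {𝒮L : RelProj.QCGrAlg X} {jL : L ⟶ 𝒮L.toModule}
  {pL : PL ⟶ X}
  (chartL : ∀ (U : X.Opens) (hU : IsAffineOpen U),
    (((pL ⁻¹ᵁ U : PL.Opens) : Scheme.{u}) ≅ Proj (𝒮L.deg U hU)))
  (u : RelProj.QGrHom g 𝒮 𝒮L) {p : P ⟶ Y}
  (chart : ∀ (U : Y.Opens) (hU : IsAffineOpen U),
    (((p ⁻¹ᵁ U : P.Opens) : Scheme.{u}) ≅ Proj (𝒮.deg U hU)))
  (s : (Scheme.Modules.pullback g).obj E ⟶ L)

/-- the morphism `r : X ⟶ P(E)` attached to an invertible quotient of `g^* E`. -/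
theorem exists_r (hL : PicF.IsInvertible L) [Epi s] (hjL : RelProj.IsGrSymAlg L 𝒮L jL)
    (hj : RelProj.IsGrSymAlg E 𝒮 j) (hP : RelProj.IsRelProj 𝒮 p chart)
    (hPL : RelProj.IsRelProj 𝒮L pL chartL)
    (hu : ∀ (U : Y.Opens) (hU : IsAffineOpen U) (e : Γ(E, U)),
      (u.app U).hom (QA.sec j U e) = QA.sec jL (g ⁻¹ᵁ U) (sig g s U e)) :
    ∃ (r : X ⟶ P) (r₀ : ((RelProj.domQ u pL chartL : PL.Opens) : Scheme.{u}) ⟶ P),
      RelProj.IsProjQMapOn u p chart pL chartL (RelProj.domQ u pL chartL) r₀ ∧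
      (RelProj.domQ u pL chartL).ι ≫ pL ≫ r = r₀ ∧ r ≫ p = g ∧
      ∀ (U : Y.Opens) (hU : IsAffineOpen U) (e : Γ(E, U)) (V : X.Opens) (hV : IsAffineOpen V)
        (hle : V ≤ g ⁻¹ᵁ U),
        IsBasisOver L V (L.presheaf.map (homOfLE hle).op (sig g s U e)) →
          V ≤ r ⁻¹ᵁ Dp p chart U hU (QA.sec j U e) := by
  have hLq : L.IsQuasicoherent := qc_of_isInvertible L hL
  haveI := hLq
  obtain ⟨⟨r₀, hr₀, -⟩, hover⟩ := main_S12139 g 𝒮 𝒮L u p chart hP pL chartL hPL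
  have hdom : RelProj.domQ u pL chartL = ⊤ := by
    rw [eq_top_iff]
    intro x' _
    obtain ⟨U, hU, hxU, -⟩ := Opens.isBasis_iff_nbhd.mp Y.isBasis_affineOpens
      (show g.base (pL.base x') ∈ (⊤ : Y.Opens) from trivial)
    replace hU : IsAffineOpen U := hU
    obtain ⟨e, V, hV, hVU, hxV, hb⟩ := exists_basis_of_epi g s hL (pL.base x') U hU hxU
    have hX := le_XFU_of_basis u (sig g s) hu hjL U hU e V hV hVU hb hxV
    exact mem_domQ_of_mem_XFU u chart chartL hL hLq hjL hP hPL r₀ hr₀ U hU Nat.one_pos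
      (QA.sec j U e) (hj.2 U hU e) x' hX
  haveI : IsIso pL := main_S12143 L hL hLq 𝒮L jL hjL pL chartL hPL
  haveI : IsIso (RelProj.domQ u pL chartL).ι := isIso_ι_of_eq_top _ hdom
  have hκr : (RelProj.domQ u pL chartL).ι ≫ pL ≫
      (inv ((RelProj.domQ u pL chartL).ι ≫ pL) ≫ r₀) = r₀ := by
    rw [← Category.assoc, IsIso.hom_inv_id_assoc]
  refine ⟨inv ((RelProj.domQ u pL chartL).ι ≫ pL) ≫ r₀, r₀, hr₀, hκr, ?_, ?_⟩
  · rw [Category.assoc, hover r₀ hr₀, ← Category.assoc (RelProj.domQ u pL chartL).ι,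
      IsIso.inv_hom_id_assoc]
  · intro U hU e V hV hle hb x hxV
    have hX := le_XFU_of_basis u (sig g s) hu hjL U hU e V hV hle hb hxV
    have h1 : ((RelProj.domQ u pL chartL).ι ≫ pL).base
        ((inv ((RelProj.domQ u pL chartL).ι ≫ pL)).base x) = x := by
      have h2 : inv ((RelProj.domQ u pL chartL).ι ≫ pL) ≫ ((RelProj.domQ u pL chartL).ι ≫ pL) =
          𝟙 X := IsIso.inv_hom_id _
      exact congrArg (fun t : X ⟶ X => t.base x) h2
    have h3 := (mem_preimage_iff u chart chartL hL hLq hjL hP hPL r₀ hr₀ U hU Nat.one_pos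
      (QA.sec j U e) (hj.2 U hU e) ((inv ((RelProj.domQ u pL chartL).ι ≫ pL)).base x)).mpr
      (by
        have h4 : pL.base ((RelProj.domQ u pL chartL).ι.base
            ((inv ((RelProj.domQ u pL chartL).ι ≫ pL)).base x)) = x := h1
        rw [h4]; exact hX)
    exact h3

end MkR

end

end Groth.Agent.H4.PBEx3
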