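import Mathlib
import Groth.Agent.H4.PBEx3
import Groth.Agent.Lib.Lead.QC.TensorDescAll

set_option autoImplicit false
set_option linter.style.haveILetI false
set_option linter.unusedSectionVars false
set_option linter.unusedVariables false

namespace Groth.Agent.H4.PBEx4

open CategoryTheory CategoryTheory.Limits AlgebraicGeometry TopologicalSpace Opposite
open HomogeneousLocalization
open Groth.Agent.H6.Sym Groth.Agent.H6 Groth.Agent.LD.QC Groth.Agent.H4.PBundle Groth.Agent.H4.PBundle2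
open Groth.Agent.H4.PBundle3 Groth.Agent.H4.PBLoc Groth.Agent.H4.PBLoc2 Groth.Agent.H4.PBLoc3
open Groth.Agent.H4.ConeImm
open Groth.Agent.H4.PBUniq Groth.Agent.H4.PBEx1 Groth.Agent.H4.PBEx2
open Groth.Agent.H8.RelTwist
open scoped HomogeneousIdeal

universe u

noncomputable section

section SecExt

/-- sections of a module which agree locally are equal. -/
lemma sec_ext_local {X : Scheme.{u}} (T : X.Modules) (V : X.Opens) (s t : Γ(T, V))
    (h : ∀ x ∈ V, ∃ (W : X.Opens) (hW : W ≤ V), x ∈ W ∧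
      T.presheaf.map (homOfLE hW).op s = T.presheaf.map (homOfLE hW).op t) : s = t := by
  apply TopCat.Presheaf.section_ext (⟨T.presheaf, T.isSheaf⟩ : TopCat.Sheaf Ab X) V s t
  intro x hx
  obtain ⟨W, hW, hxW, heq⟩ := h x hx
  have h1 := TopCat.Presheaf.germ_res_apply T.presheaf (homOfLE hW) x hxW s
  have h2 := TopCat.Presheaf.germ_res_apply T.presheaf (homOfLE hW) x hxW t
  exact h1.symm.trans ((congrArg _ heq).trans h2)

end SecExt

section PB

variable {Y P X : Scheme.{u}} {𝒮 : RelProj.QCGrAlg Y} {p : P ⟶ Y}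
  {chart : ∀ (U : Y.Opens) (hU : IsAffineOpen U),
    (((p ⁻¹ᵁ U : P.Opens) : Scheme.{u}) ≅ Proj (𝒮.deg U hU))}
  {O1 : P.Modules}
  {lam : ∀ (U : Y.Opens) (hU : IsAffineOpen U),
    O1 ⟶ (Scheme.Modules.pushforward (RelProj.emb p chart U hU)).obj (GrTwist.twist (𝒮.deg U hU) 1)}
  (r : X ⟶ P)

theorem isBasisOver_pbSec (hO1 : RelProj.IsRelTwist 𝒮 p chart 1 O1 lam)
    (U : Y.Opens) (hU : IsAffineOpen U) (h : 𝒮.presheaf.obj (op U))
    (hh : h ∈ 𝒮.deg U hU 1) (s : Γ(O1, p ⁻¹ᵁ U)) (hs : Reads lam U hU h s) (W : X.Opens)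
    (e : W ≤ r ⁻¹ᵁ Dp p chart U hU h) :
    IsBasisOver ((Scheme.Modules.pullback r).obj O1) W
      (pbSec r O1 (e.trans (r.preimage_mono (Dp_le p chart U hU h))) s) := by
  have hb := isBasisOver_lsec r (Iso.refl ((Scheme.Modules.pullback r).obj O1)) hO1 U hU h hh s hs W e
  rw [lsec_res' r (Iso.refl _) U s W _] at hb
  exact hb

theorem pbSec_eq_chi_smul (hO1 : RelProj.IsRelTwist 𝒮 p chart 1 O1 lam)
    (U : Y.Opens) (hU : IsAffineOpen U) (h h' : 𝒮.presheaf.obj (op U))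
    (hh : h ∈ 𝒮.deg U hU 1) (hh' : h' ∈ 𝒮.deg U hU 1) (s s' : Γ(O1, p ⁻¹ᵁ U))
    (hs : Reads lam U hU h s) (hs' : Reads lam U hU h' s') (W : X.Opens)
    (e : W ≤ r ⁻¹ᵁ Dp p chart U hU h) :
    pbSec r O1 (e.trans (r.preimage_mono (Dp_le p chart U hU h))) s' =
      chi r U hU h W e (Away.mk (𝒮.deg U hU) hh 1 h' (by simpa using hh')) •
        pbSec r O1 (e.trans (r.preimage_mono (Dp_le p chart U hU h))) s := by
  have h1 := lsec_res_eq_smul r (Iso.refl ((Scheme.Modules.pullback r).obj O1)) hO1 U hU h h' hh hh'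
    s s' hs hs' W e
  rw [lsec_res' r (Iso.refl _) U s' W _, lsec_res' r (Iso.refl _) U s W _] at h1
  exact h1

end PB

section Tau

variable {Y P X : Scheme.{u}} {𝒮 : RelProj.QCGrAlg Y} {p : P ⟶ Y}
  {chart : ∀ (U : Y.Opens) (hU : IsAffineOpen U),
    (((p ⁻¹ᵁ U : P.Opens) : Scheme.{u}) ≅ Proj (𝒮.deg U hU))}
  {O1 : P.Modules}
  {lam : ∀ (U : Y.Opens) (hU : IsAffineOpen U),
    O1 ⟶ (Scheme.Modules.pushforward (RelProj.emb p chart U hU)).obj (GrTwist.twist (𝒮.deg U hU) 1)}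
  {E : Y.Modules} [E.IsQuasicoherent] {j : E ⟶ 𝒮.toModule}
  {L : X.Modules}
  (φ : E ⟶ (Scheme.Modules.pushforward p).obj O1)
  (g : X ⟶ Y) (s : (Scheme.Modules.pullback g).obj E ⟶ L) (r : X ⟶ P) (hr : r ≫ p = g)

/-- the composite `g^*E ≅ r^*p^*E ⟶ r^*O_P(1)`. -/
def alpha : (Scheme.Modules.pullback g).obj E ⟶ (Scheme.Modules.pullback r).obj O1 :=
  (Scheme.Modules.pullbackCongr hr).inv.app E ≫ (Scheme.Modules.pullbackComp r p).inv.app E ≫
    (Scheme.Modules.pullback r).map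
      (((Scheme.Modules.pullbackPushforwardAdjunction p).homEquiv E O1).symm φ)

lemma alpha_app_pbSec (U : Y.Opens) (e : Γ(E, U)) (W : X.Opens) (hW : W ≤ g ⁻¹ᵁ U)
    (hW' : W ≤ r ⁻¹ᵁ (p ⁻¹ᵁ U)) :
    (alpha φ g r hr).app W (pbSec g E hW e) = pbSec r O1 hW' (φ.app U e) :=
  alpha_pbSec E p φ g r hr U e W hW hW'

/-- on a good affine open both `α` and `s` are read by the same coordinate. -/
theorem local_coord (hj : RelProj.IsGrSymAlg E 𝒮 j)
    (hO1 : RelProj.IsRelTwist 𝒮 p chart 1 O1 lam)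
    (hφ : ∀ (U : Y.Opens) (hU : IsAffineOpen U) (e : Γ(E, U)),
      Reads lam U hU (QA.sec j U e) (φ.app U e))
    (U : Y.Opens) (hU : IsAffineOpen U) (e : Γ(E, U)) (V : X.Opens) (hV : IsAffineOpen V)
    (hle : V ≤ g ⁻¹ᵁ U) (eV : V ≤ r ⁻¹ᵁ Dp p chart U hU (QA.sec j U e))
    (hK : ∀ (e' : Γ(E, U)) (z : Away (𝒮.deg U hU) (QA.sec j U e)),
      z.val = Localization.mk (QA.sec j U e')
        (⟨(QA.sec j U e) ^ 1, 1, rfl⟩ : Submonoid.powers (QA.sec j U e)) →
      L.presheaf.map (homOfLE hle).op (sig g s U e') =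
        chi r U hU (QA.sec j U e) V eV z • L.presheaf.map (homOfLE hle).op (sig g s U e))
    (κ : Γ((Scheme.Modules.pullback g).obj E, V)) :
    ∃ c : Γ(X, V),
      (alpha φ g r hr).app V κ =
        c • pbSec r O1 (eV.trans (r.preimage_mono (Dp_le p chart U hU _))) (φ.app U e) ∧
      s.app V κ = c • L.presheaf.map (homOfLE hle).op (sig g s U e) := by
  have hh : QA.sec j U e ∈ 𝒮.deg U hU 1 := hj.2 U hU e
  have hspan := span_range_pbSec (f := g) hV hU hle E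
  have hκs : κ ∈ Submodule.span Γ(X, V) (Set.range (pbSec g E hle)) := by rw [hspan]; trivial
  induction hκs using Submodule.span_induction with
  | mem y hy =>
    obtain ⟨e', rfl⟩ := hy
    have hh' : QA.sec j U e' ∈ 𝒮.deg U hU 1 := hj.2 U hU e'
    refine ⟨chi r U hU (QA.sec j U e) V eV
      (Away.mk (𝒮.deg U hU) hh 1 (QA.sec j U e') (by simpa using hh')), ?_, ?_⟩
    · rw [alpha_app_pbSec φ g r hr U e' V hle
        (eV.trans (r.preimage_mono (Dp_le p chart U hU _)))]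
      exact pbSec_eq_chi_smul r hO1 U hU _ _ hh hh' _ _ (hφ U hU e) (hφ U hU e') V eV
    · rw [← sig_res' g s U e' V hle]
      exact hK e' _ (Away.val_mk _ _ _ _ _)
  | zero => exact ⟨0, by rw [map_zero, zero_smul], by rw [map_zero, zero_smul]⟩
  | add a b _ _ ha hb =>
    obtain ⟨ca, ha1, ha2⟩ := ha
    obtain ⟨cb, hb1, hb2⟩ := hb
    exact ⟨ca + cb, by rw [map_add, ha1, hb1, add_smul], by rw [map_add, ha2, hb2, add_smul]⟩
  | smul a b _ hb =>
    obtain ⟨cb, hb1, hb2⟩ := hb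
    exact ⟨a * cb, by rw [Scheme.Modules.Hom.app_smul, hb1, smul_smul],
      by rw [Scheme.Modules.Hom.app_smul, hb2, smul_smul]⟩

end Tau

section TauGlobal

variable {Y P X : Scheme.{u}} {𝒮 : RelProj.QCGrAlg Y} {p : P ⟶ Y}
  {chart : ∀ (U : Y.Opens) (hU : IsAffineOpen U),
    (((p ⁻¹ᵁ U : P.Opens) : Scheme.{u}) ≅ Proj (𝒮.deg U hU))}
  {O1 : P.Modules}
  {lam : ∀ (U : Y.Opens) (hU : IsAffineOpen U),
    O1 ⟶ (Scheme.Modules.pushforward (RelProj.emb p chart U hU)).obj (GrTwist.twist (𝒮.deg U hU) 1)}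
  {E : Y.Modules} [E.IsQuasicoherent] {j : E ⟶ 𝒮.toModule}
  {L : X.Modules}
  (φ : E ⟶ (Scheme.Modules.pushforward p).obj O1)
  (g : X ⟶ Y) (s : (Scheme.Modules.pullback g).obj E ⟶ L) (r : X ⟶ P) (hr : r ≫ p = g)

/-- existence of a good affine neighbourhood of a point. -/
theorem exists_good (hL : PicF.IsInvertible L) [Epi s] (W : X.Opens) (x : X) (hxW : x ∈ W) :
    ∃ (U : Y.Opens) (hU : IsAffineOpen U) (e : Γ(E, U)) (V : X.Opens) (hV : IsAffineOpen V)
      (hle : V ≤ g ⁻¹ᵁ U), V ≤ W ∧ x ∈ V ∧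
      IsBasisOver L V (L.presheaf.map (homOfLE hle).op (sig g s U e)) := by
  obtain ⟨U, hU, hxU, -⟩ := Opens.isBasis_iff_nbhd.mp Y.isBasis_affineOpens
    (show g.base x ∈ (⊤ : Y.Opens) from trivial)
  replace hU : IsAffineOpen U := hU
  obtain ⟨e, V₀, hV₀, hV₀U, hxV₀, hb₀⟩ := exists_basis_of_epi g s hL x U hU hxU
  obtain ⟨V, hV, hxV, hVle⟩ := Opens.isBasis_iff_nbhd.mp X.isBasis_affineOpens
    (show x ∈ V₀ ⊓ W from ⟨hxV₀, hxW⟩)
  replace hV : IsAffineOpen V := hV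
  have hVV₀ : V ≤ V₀ := hVle.trans inf_le_left
  refine ⟨U, hU, e, V, hV, hVV₀.trans hV₀U, hVle.trans inf_le_right, hxV, ?_⟩
  have h1 := hb₀.mono hVV₀
  rwa [res_res] at h1

/-- **the kernel of `α` is killed by `s`** (sectionwise). -/
theorem s_eq_zero_of_alpha_eq_zero (hL : PicF.IsInvertible L) [Epi s]
    (hj : RelProj.IsGrSymAlg E 𝒮 j)
    (hO1 : RelProj.IsRelTwist 𝒮 p chart 1 O1 lam)
    (hφ : ∀ (U : Y.Opens) (hU : IsAffineOpen U) (e : Γ(E, U)),
      Reads lam U hU (QA.sec j U e) (φ.app U e))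
    (hK : ∀ (U : Y.Opens) (hU : IsAffineOpen U) (e : Γ(E, U)) (V : X.Opens) (hV : IsAffineOpen V)
      (hle : V ≤ g ⁻¹ᵁ U), IsBasisOver L V (L.presheaf.map (homOfLE hle).op (sig g s U e)) →
      ∃ eV : V ≤ r ⁻¹ᵁ Dp p chart U hU (QA.sec j U e),
        ∀ (e' : Γ(E, U)) (z : Away (𝒮.deg U hU) (QA.sec j U e)),
          z.val = Localization.mk (QA.sec j U e')
            (⟨(QA.sec j U e) ^ 1, 1, rfl⟩ : Submonoid.powers (QA.sec j U e)) →
          L.presheaf.map (homOfLE hle).op (sig g s U e') =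
            chi r U hU (QA.sec j U e) V eV z • L.presheaf.map (homOfLE hle).op (sig g s U e))
    (W : X.Opens) (κ : Γ((Scheme.Modules.pullback g).obj E, W))
    (h0 : (alpha φ g r hr).app W κ = 0) : s.app W κ = 0 := by
  apply sec_ext_local L W _ 0
  intro x hxW
  obtain ⟨U, hU, e, V, hV, hle, hVW, hxV, hb⟩ := exists_good g s hL W x hxW
  obtain ⟨eV, hKV⟩ := hK U hU e V hV hle hb
  refine ⟨V, hVW, hxV, ?_⟩
  rw [map_zero, ← app_res]
  obtain ⟨c, hc1, hc2⟩ := local_coord φ g s r hr hj hO1 hφ U hU e V hV hle eV hKV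
    (((Scheme.Modules.pullback g).obj E).presheaf.map (homOfLE hVW).op κ)
  have h1 : (alpha φ g r hr).app V
      (((Scheme.Modules.pullback g).obj E).presheaf.map (homOfLE hVW).op κ) = 0 := by
    rw [app_res, h0, map_zero]
  have hbb := isBasisOver_pbSec r hO1 U hU (QA.sec j U e) (hj.2 U hU e) (φ.app U e) (hφ U hU e) V eV
  have hc0 : c = 0 := hbb.coord_injective (by rw [← hc1, h1, zero_smul])
  rw [hc2, hc0, zero_smul]

end TauGlobal

section TauIso

variable {Y P X : Scheme.{u}} {𝒮 : RelProj.QCGrAlg Y} {p : P ⟶ Y}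
  {chart : ∀ (U : Y.Opens) (hU : IsAffineOpen U),
    (((p ⁻¹ᵁ U : P.Opens) : Scheme.{u}) ≅ Proj (𝒮.deg U hU))}
  {O1 : P.Modules}
  {lam : ∀ (U : Y.Opens) (hU : IsAffineOpen U),
    O1 ⟶ (Scheme.Modules.pushforward (RelProj.emb p chart U hU)).obj (GrTwist.twist (𝒮.deg U hU) 1)}
  {E : Y.Modules} {j : E ⟶ 𝒮.toModule}
  {L : X.Modules}
  (φ : E ⟶ (Scheme.Modules.pushforward p).obj O1)
  (g : X ⟶ Y) (s : (Scheme.Modules.pullback g).obj E ⟶ L) (r : X ⟶ P) (hr : r ≫ p = g)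

theorem exists_tau (hE : Coh.IsQCoh E) (hL : PicF.IsInvertible L) [Epi s]
    (hj : RelProj.IsGrSymAlg E 𝒮 j) (hP : RelProj.IsRelProj 𝒮 p chart)
    (hO1 : RelProj.IsRelTwist 𝒮 p chart 1 O1 lam)
    (hφ : ∀ (U : Y.Opens) (hU : IsAffineOpen U) (e : Γ(E, U)),
      Reads lam U hU (QA.sec j U e) (φ.app U e))
    (hK : ∀ (U : Y.Opens) (hU : IsAffineOpen U) (e : Γ(E, U)) (V : X.Opens) (hV : IsAffineOpen V)
      (hle : V ≤ g ⁻¹ᵁ U), IsBasisOver L V (L.presheaf.map (homOfLE hle).op (sig g s U e)) →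
      ∃ eV : V ≤ r ⁻¹ᵁ Dp p chart U hU (QA.sec j U e),
        ∀ (e' : Γ(E, U)) (z : Away (𝒮.deg U hU) (QA.sec j U e)),
          z.val = Localization.mk (QA.sec j U e')
            (⟨(QA.sec j U e) ^ 1, 1, rfl⟩ : Submonoid.powers (QA.sec j U e)) →
          L.presheaf.map (homOfLE hle).op (sig g s U e') =
            chi r U hU (QA.sec j U e) V eV z • L.presheaf.map (homOfLE hle).op (sig g s U e)) :
    ∃ τ : (Scheme.Modules.pullback r).obj O1 ≅ L, alpha φ g r hr ≫ τ.hom = s := by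
  haveI : E.IsQuasicoherent := hE
  haveI : Epi (alpha φ g r hr) := by
    unfold alpha
    haveI : Epi (((Scheme.Modules.pullbackPushforwardAdjunction p).homEquiv E O1).symm φ) :=
      epi_adj_of_reads E hE 𝒮 j hj p chart hP O1 lam hO1 φ (fun U hU e => hφ U hU e)
    haveI : Epi ((Scheme.Modules.pullback r).map
        (((Scheme.Modules.pullbackPushforwardAdjunction p).homEquiv E O1).symm φ)) :=
      inferInstance
    infer_instance
  have hker : kernel.ι (alpha φ g r hr) ≫ s = 0 := by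
    apply Scheme.Modules.hom_ext
    intro W
    ext x
    have h1 : (alpha φ g r hr).app W ((kernel.ι (alpha φ g r hr)).app W x) = 0 := by
      have h2 := kernel.condition (alpha φ g r hr)
      exact congrArg (fun t : kernel (alpha φ g r hr) ⟶ (Scheme.Modules.pullback r).obj O1 =>
        t.app W x) h2
    exact s_eq_zero_of_alpha_eq_zero φ g s r hr hL hj hO1 hφ hK W _ h1
  have hτ₀ : alpha φ g r hr ≫ Abelian.epiDesc (alpha φ g r hr) s hker = s :=
    Abelian.comp_epiDesc _ _ _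
  haveI : IsIso (Abelian.epiDesc (alpha φ g r hr) s hker) := by
    apply isIso_of_forall_isBasisOver
    intro x
    obtain ⟨U, hU, e, V, hV, hle, -, hxV, hb⟩ := exists_good g s hL ⊤ x trivial
    obtain ⟨eV, hKV⟩ := hK U hU e V hV hle hb
    have hbb := isBasisOver_pbSec r hO1 U hU (QA.sec j U e) (hj.2 U hU e) (φ.app U e)
      (hφ U hU e) V eV
    refine ⟨V, _, hxV, hbb, ?_⟩
    have h1 : (Abelian.epiDesc (alpha φ g r hr) s hker).app V
        (pbSec r O1 (eV.trans (r.preimage_mono (Dp_le p chart U hU _))) (φ.app U e)) =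
        L.presheaf.map (homOfLE hle).op (sig g s U e) := by
      rw [← alpha_app_pbSec φ g r hr U e V hle _, sig_res' g s U e V hle]
      exact congrArg (fun t : (Scheme.Modules.pullback g).obj E ⟶ L =>
        t.app V (pbSec g E hle e)) hτ₀
    rw [h1]; exact hb
  exact ⟨asIso (Abelian.epiDesc (alpha φ g r hr) s hker), hτ₀⟩

end TauIso

section Main

open Groth.Agent.H4.RelProjEx Groth.Agent.H4.PBEx3

/-- **the universal property of `P(E)`** (EGA II 4.2.3). -/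
theorem main {Y P : Scheme.{u}} (E : Y.Modules) (hE : Coh.IsQCoh E)
    (𝒮 : RelProj.QCGrAlg Y) (j : E ⟶ 𝒮.toModule) (hj : RelProj.IsGrSymAlg E 𝒮 j) (p : P ⟶ Y)
    (chart : ∀ (U : Y.Opens) (hU : IsAffineOpen U), ((p ⁻¹ᵁ U : P.Opens) : Scheme.{u}) ≅ Proj (𝒮.deg U hU))
    (hP : RelProj.IsRelProj 𝒮 p chart) (O1 : P.Modules)
    (lam : ∀ (U : Y.Opens) (hU : IsAffineOpen U),
      O1 ⟶ (Scheme.Modules.pushforward (RelProj.emb p chart U hU)).obj (GrTwist.twist (𝒮.deg U hU) 1))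
    (hO1 : RelProj.IsRelTwist 𝒮 p chart 1 O1 lam)
    (φ : E ⟶ (Scheme.Modules.pushforward p).obj O1)
    (hφ : ∀ (U : Y.Opens) (hU : IsAffineOpen U) (e : Γ(E, U))
      (y : ↥(RelProj.emb p chart U hU ⁻¹ᵁ (p ⁻¹ᵁ U))),
      GrTwist.val (V := RelProj.emb p chart U hU ⁻¹ᵁ (p ⁻¹ᵁ U))
          ((lam U hU).app (p ⁻¹ᵁ U) ((φ.app U) e)) y =
        algebraMap (𝒮.presheaf.obj (op U)) (GrTwist.Loc (𝒮.deg U hU) y.1)
          ((j.app U) e : 𝒮.presheaf.obj (op U)))
    {X : Scheme.{u}} (g : X ⟶ Y) (L : X.Modules) (hL : PicF.IsInvertible L)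
    (s : (Scheme.Modules.pullback g).obj E ⟶ L) (hs : Epi s) :
    ∃! r : X ⟶ P, ∃ (hr : r ≫ p = g) (τ : (Scheme.Modules.pullback r).obj O1 ≅ L),
      (Scheme.Modules.pullbackCongr hr).inv.app E ≫ (Scheme.Modules.pullbackComp r p).inv.app E ≫
        (Scheme.Modules.pullback r).map
          (((Scheme.Modules.pullbackPushforwardAdjunction p).homEquiv E O1).symm φ) ≫ τ.hom = s := by
  haveI : E.IsQuasicoherent := hE
  haveI := hs
  have hLq : L.IsQuasicoherent := qc_of_isInvertible L hL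
  haveI := hLq
  have hjL := isGrSymAlg L
  obtain ⟨PL, pL, chartL, hPL⟩ := main_S8258 (symGrAlg L)
  obtain ⟨u, hu⟩ := exists_qgrhom g (symGrAlg L) (symJ L) hj (fun V hV m => hjL.2 V hV m)
    (sig g s) (sig_add g s) (sig_smul g s) (sig_res g s)
  obtain ⟨r, r₀, hr₀, hκr, hr, hB⟩ := exists_r chartL u chart s hL hjL hj hP hPL hu
  have hK : ∀ (U : Y.Opens) (hU : IsAffineOpen U) (e : Γ(E, U)) (V : X.Opens) (hV : IsAffineOpen V)
      (hle : V ≤ g ⁻¹ᵁ U), IsBasisOver L V (L.presheaf.map (homOfLE hle).op (sig g s U e)) →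
      ∃ eV : V ≤ r ⁻¹ᵁ Dp p chart U hU (QA.sec j U e),
        ∀ (e' : Γ(E, U)) (z : Away (𝒮.deg U hU) (QA.sec j U e)),
          z.val = Localization.mk (QA.sec j U e')
            (⟨(QA.sec j U e) ^ 1, 1, rfl⟩ : Submonoid.powers (QA.sec j U e)) →
          L.presheaf.map (homOfLE hle).op (sig g s U e') =
            chi r U hU (QA.sec j U e) V eV z • L.presheaf.map (homOfLE hle).op (sig g s U e) := by
    intro U hU e V hV hle hb
    refine ⟨hB U hU e V hV hle hb, ?_⟩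
    intro e' z hz
    exact sig_eq_chi_smul chartL u chart (sig g s) hu hjL hj hPL r₀ hr₀ r hκr U hU e V hV hle hb
      _ e' z hz
  obtain ⟨τ, hτ⟩ := exists_tau φ g s r hr hE hL hj hP hO1 (fun U hU e => hφ U hU e) hK
  have hτ' : (Scheme.Modules.pullbackCongr hr).inv.app E ≫
      (Scheme.Modules.pullbackComp r p).inv.app E ≫
        (Scheme.Modules.pullback r).map
          (((Scheme.Modules.pullbackPushforwardAdjunction p).homEquiv E O1).symm φ) ≫ τ.hom = s := by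
    rw [← hτ]
    unfold alpha
    simp only [Category.assoc]
  refine ⟨r, ⟨hr, τ, hτ'⟩, ?_⟩
  intro r' hr'
  exact uniq E hE 𝒮 j hj p chart hP O1 lam hO1 φ hφ g L s r' r hr' ⟨hr, τ, hτ'⟩

end Main

end

end Groth.Agent.H4.PBEx4
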