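import Mathlib
import Groth.Agent.H4.PBEx4
import Groth.Agent.H4.ImmTr

set_option autoImplicit false
set_option linter.style.haveILetI false
set_option linter.unusedSectionVars false
set_option linter.unusedVariables false

namespace Groth.Agent.H4.SegreCh

open CategoryTheory CategoryTheory.Limits AlgebraicGeometry TopologicalSpace Opposite
open HomogeneousLocalization
open Groth.Agent.H6.Sym Groth.Agent.H6 Groth.Agent.LD.QC Groth.Agent.H4.PBundle Groth.Agent.H4.PBundle2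
open Groth.Agent.H4.PBundle3 Groth.Agent.H4.PBLoc Groth.Agent.H4.PBLoc2 Groth.Agent.H4.PBLoc3
open Groth.Agent.H4.ConeImm
open Groth.Agent.H4.PBUniq Groth.Agent.H4.PBEx1 Groth.Agent.H4.PBEx2 Groth.Agent.H4.PBEx4
open Groth.Agent.H8.RelTwist
open scoped HomogeneousIdeal

universe u

noncomputable section

section FnEquiv

variable {Y P : Scheme.{u}} {𝒮 : RelProj.QCGrAlg Y} (p : P ⟶ Y)
  (chart : ∀ (U : Y.Opens) (hU : IsAffineOpen U),
    (((p ⁻¹ᵁ U : P.Opens) : Scheme.{u}) ≅ Proj (𝒮.deg U hU)))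

theorem fn_bijective (U : Y.Opens) (hU : IsAffineOpen U) (f : 𝒮.presheaf.obj (op U)) {n : ℕ}
    (hn : 0 < n) (hf : f ∈ 𝒮.deg U hU n) : Function.Bijective (fn p chart U hU f) := by
  unfold fn
  have h1 : Function.Bijective (Proj.awayToSection (𝒮.deg U hU) f).hom := by
    haveI : IsIso (Proj.awayToSection (𝒮.deg U hU) f) := by
      rw [← Proj.basicOpenIsoAway_hom (𝒮.deg U hU) f hf hn]
      infer_instance
    exact ConcreteCategory.bijective_of_isIso (Proj.awayToSection (𝒮.deg U hU) f)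
  have h2 : Function.Bijective
      ((RelProj.emb p chart U hU).appIso (Proj.basicOpen (𝒮.deg U hU) f)).inv.hom :=
    ConcreteCategory.bijective_of_isIso
      ((RelProj.emb p chart U hU).appIso (Proj.basicOpen (𝒮.deg U hU) f)).inv
  exact h2.comp h1

end FnEquiv

section AwayExt

variable {Y : Scheme.{u}} {𝒮 : RelProj.QCGrAlg Y} {E : Y.Modules} [E.IsQuasicoherent]
  {j : E ⟶ 𝒮.toModule}

/-- ring maps out of a degree-one chart ring of a symmetric algebra are determined by their values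
on functions of the base and on the degree-one fractions. -/
theorem away_ringHom_ext (hj : RelProj.IsGrSymAlg E 𝒮 j) (U : Y.Opens) (hU : IsAffineOpen U)
    (e₀ : Γ(E, U)) {R : Type*} [Semiring R]
    (φ₁ φ₂ : Away (𝒮.deg U hU) (QA.sec j U e₀) →+* R)
    (h0 : ∀ (c : Γ(Y, U)) (z : Away (𝒮.deg U hU) (QA.sec j U e₀)),
      z.val = Localization.mk ((𝒮.str.app (op U)).hom c)
        (⟨(QA.sec j U e₀) ^ 0, 0, rfl⟩ : Submonoid.powers (QA.sec j U e₀)) → φ₁ z = φ₂ z)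
    (h1 : ∀ (e : Γ(E, U)) (z : Away (𝒮.deg U hU) (QA.sec j U e₀)),
      z.val = Localization.mk (QA.sec j U e)
        (⟨(QA.sec j U e₀) ^ 1, 1, rfl⟩ : Submonoid.powers (QA.sec j U e₀)) → φ₁ z = φ₂ z) :
    φ₁ = φ₂ := by
  have hh : QA.sec j U e₀ ∈ 𝒮.deg U hU 1 := hj.2 U hU e₀
  have key : ∀ (n : ℕ) (a : 𝒮.presheaf.obj (op U)), a ∈ 𝒮.deg U hU n →
      (a ∈ 𝒮.deg U hU n ∧ ∀ z : Away (𝒮.deg U hU) (QA.sec j U e₀),
        z.val = Localization.mk a (⟨(QA.sec j U e₀) ^ n, n, rfl⟩ :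
          Submonoid.powers (QA.sec j U e₀)) → φ₁ z = φ₂ z) := by
    intro n a ha
    refine sym_induction hj U hU (fun n a => a ∈ 𝒮.deg U hU n ∧
      ∀ z : Away (𝒮.deg U hU) (QA.sec j U e₀),
        z.val = Localization.mk a (⟨(QA.sec j U e₀) ^ n, n, rfl⟩ :
          Submonoid.powers (QA.sec j U e₀)) → φ₁ z = φ₂ z) ?_ ?_ ?_ n a ha
    · intro c
      exact ⟨𝒮.str_mem U hU c, fun z hz => h0 c z hz⟩
    · rintro n a b ⟨ha, hKa⟩ ⟨hb, hKb⟩
      refine ⟨add_mem ha hb, fun z hz => ?_⟩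
      have hza := Away.val_mk (𝒮.deg U hU) n hh a (by simpa using ha)
      have hzb := Away.val_mk (𝒮.deg U hU) n hh b (by simpa using hb)
      have hzz : z = Away.mk (𝒮.deg U hU) hh n a (by simpa using ha) +
          Away.mk (𝒮.deg U hU) hh n b (by simpa using hb) := by
        apply HomogeneousLocalization.val_injective
        rw [HomogeneousLocalization.val_add, hz, hza, hzb, Localization.add_mk_self]
      rw [hzz, map_add, map_add, hKa _ hza, hKb _ hzb]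
    · rintro n e a ⟨ha, hKa⟩
      have he : QA.sec j U e ∈ 𝒮.deg U hU 1 := hj.2 U hU e
      have hdeg : QA.sec j U e * a ∈ 𝒮.deg U hU (n + 1) := by
        rw [add_comm]; exact SetLike.mul_mem_graded he ha
      refine ⟨hdeg, fun z hz => ?_⟩
      have hze := Away.val_mk (𝒮.deg U hU) 1 hh (QA.sec j U e) (by simpa using he)
      have hza := Away.val_mk (𝒮.deg U hU) n hh a (by simpa using ha)
      have hzz : z = Away.mk (𝒮.deg U hU) hh 1 (QA.sec j U e) (by simpa using he) *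
          Away.mk (𝒮.deg U hU) hh n a (by simpa using ha) := by
        apply HomogeneousLocalization.val_injective
        rw [HomogeneousLocalization.val_mul, hz, hze, hza, Localization.mk_mul]
        congr 1
        apply Subtype.ext
        show QA.sec j U e₀ ^ (n + 1) = QA.sec j U e₀ ^ 1 * QA.sec j U e₀ ^ n
        rw [pow_succ', pow_one]
      rw [hzz, map_mul, map_mul, hKa _ hza, h1 e _ hze]
  apply RingHom.ext
  intro z
  obtain ⟨n, a, ha, rfl⟩ := Away.mk_surjective (𝒮.deg U hU) hh z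
  exact (key n a (by simpa using ha)).2 _ (Away.val_mk _ _ _ _ _)

/-- functoriality of the graded symmetric algebra on sections over an affine open. -/
theorem exists_grHom (hj : RelProj.IsGrSymAlg E 𝒮 j) (𝒮'' : RelProj.QCGrAlg Y)
    (U : Y.Opens) (hU : IsAffineOpen U)
    (ℓ : Γ(E, U) →+ 𝒮''.presheaf.obj (op U))
    (hℓ : ∀ (r : Γ(Y, U)) (m : Γ(E, U)), ℓ (r • m) = (𝒮''.str.app (op U)).hom r * ℓ m)
    (hℓ1 : ∀ m, ℓ m ∈ 𝒮''.deg U hU 1) :
    ∃ Ξ : 𝒮.deg U hU →+*ᵍ 𝒮''.deg U hU,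
      (∀ r, Ξ ((𝒮.str.app (op U)).hom r) = (𝒮''.str.app (op U)).hom r) ∧
      ∀ m, Ξ (QA.sec j U m) = ℓ m := by
  obtain ⟨g, hg1, hg2⟩ := exists_ringHom_sec hj.1 U hU (𝒮''.str.app (op U)).hom ℓ hℓ
  have hmem : ∀ (n : ℕ) (a : 𝒮.presheaf.obj (op U)), a ∈ 𝒮.deg U hU n → g a ∈ 𝒮''.deg U hU n := by
    intro n a ha
    refine sym_induction hj U hU (fun n a => g a ∈ 𝒮''.deg U hU n) ?_ ?_ ?_ n a ha
    · intro c
      rw [hg1]; exact 𝒮''.str_mem U hU c
    · intro n a b ha hb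
      rw [map_add]; exact add_mem ha hb
    · intro n e a ha
      rw [map_mul, hg2, add_comm]
      exact SetLike.mul_mem_graded (hℓ1 e) ha
  exact ⟨{ g with map_mem := fun {i x} hx => hmem i x hx }, hg1, hg2⟩

end AwayExt

section ChartTransfer

variable {X Y P P'' : Scheme.{u}} {𝒮 𝒮'' : RelProj.QCGrAlg Y} {p : P ⟶ Y} {p'' : P'' ⟶ Y}
  {chart : ∀ (U : Y.Opens) (hU : IsAffineOpen U),
    (((p ⁻¹ᵁ U : P.Opens) : Scheme.{u}) ≅ Proj (𝒮.deg U hU))}
  {chart'' : ∀ (U : Y.Opens) (hU : IsAffineOpen U),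
    (((p'' ⁻¹ᵁ U : P''.Opens) : Scheme.{u}) ≅ Proj (𝒮''.deg U hU))}
  {E : Y.Modules} [E.IsQuasicoherent] {j : E ⟶ 𝒮.toModule}

/-- if the chart ring maps of two morphisms agree on degree-one fractions through a graded map
`Ξ` of symmetric algebras, they agree everywhere. -/
theorem chi_comp_awayMap (hj : RelProj.IsGrSymAlg E 𝒮 j) (hP : RelProj.IsRelProj 𝒮 p chart)
    (hP'' : RelProj.IsRelProj 𝒮'' p'' chart'')
    (U : Y.Opens) (hU : IsAffineOpen U) (Ξ : 𝒮.deg U hU →+*ᵍ 𝒮''.deg U hU)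
    (hΞstr : ∀ r, Ξ ((𝒮.str.app (op U)).hom r) = (𝒮''.str.app (op U)).hom r)
    (i : X ⟶ P) (r'' : X ⟶ P'') (hq : i ≫ p = r'' ≫ p'')
    (e₀ : Γ(E, U)) (W : X.Opens)
    (eW : W ≤ i ⁻¹ᵁ Dp p chart U hU (QA.sec j U e₀))
    (eW'' : W ≤ r'' ⁻¹ᵁ Dp p'' chart'' U hU (Ξ (QA.sec j U e₀)))
    (H : ∀ (e : Γ(E, U)) (z : Away (𝒮.deg U hU) (QA.sec j U e₀)),
      z.val = Localization.mk (QA.sec j U e)
        (⟨(QA.sec j U e₀) ^ 1, 1, rfl⟩ : Submonoid.powers (QA.sec j U e₀)) →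
      chi r'' U hU (Ξ (QA.sec j U e₀)) W eW'' (Away.map Ξ (QA.sec j U e₀) z) =
        chi i U hU (QA.sec j U e₀) W eW z)
    (z : Away (𝒮.deg U hU) (QA.sec j U e₀)) :
    chi r'' U hU (Ξ (QA.sec j U e₀)) W eW'' (Away.map Ξ (QA.sec j U e₀) z) =
      chi i U hU (QA.sec j U e₀) W eW z := by
  have hh : QA.sec j U e₀ ∈ 𝒮.deg U hU 1 := hj.2 U hU e₀
  have h := away_ringHom_ext hj U hU e₀
    ((chi r'' U hU (Ξ (QA.sec j U e₀)) W eW'').comp (Away.map Ξ (QA.sec j U e₀)))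
    (chi i U hU (QA.sec j U e₀) W eW) ?_ ?_
  · exact congrArg (fun t : Away (𝒮.deg U hU) (QA.sec j U e₀) →+* Γ(X, W) => t z) h
  · intro c z hz
    have hc : (𝒮.str.app (op U)).hom c ∈ 𝒮.deg U hU (0 • 1) := by
      simpa using 𝒮.str_mem U hU c
    have hzz : z = Away.mk (𝒮.deg U hU) hh 0 ((𝒮.str.app (op U)).hom c) hc := by
      apply HomogeneousLocalization.val_injective
      rw [hz, Away.val_mk]
    rw [RingHom.comp_apply, hzz, Away.map_mk]
    rw [chi_str hP'' r'' U hU _ c _ (by rw [Away.val_mk, hΞstr]) W eW'',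
      chi_str hP i U hU _ c _ (Away.val_mk _ _ _ _ _) W eW]
    exact congrArg (fun t => t.hom c) (appLE_congr_hom _ _ hq.symm U W _ _)
  · intro e z hz
    exact H e z hz

/-- **chart transfer of the immersion property.** -/
theorem isImmersion_restrict_of_chart (hj : RelProj.IsGrSymAlg E 𝒮 j)
    (hP : RelProj.IsRelProj 𝒮 p chart) (hP'' : RelProj.IsRelProj 𝒮'' p'' chart'')
    (U : Y.Opens) (hU : IsAffineOpen U) (Ξ : 𝒮.deg U hU →+*ᵍ 𝒮''.deg U hU)
    (hΞstr : ∀ r, Ξ ((𝒮.str.app (op U)).hom r) = (𝒮''.str.app (op U)).hom r)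
    (i : X ⟶ P) [IsImmersion i] (r'' : X ⟶ P'') (hq : i ≫ p = r'' ≫ p'')
    (e₀ : Γ(E, U))
    (eW : r'' ⁻¹ᵁ Dp p'' chart'' U hU (Ξ (QA.sec j U e₀)) ≤
      i ⁻¹ᵁ Dp p chart U hU (QA.sec j U e₀))
    (H : ∀ (e : Γ(E, U)) (z : Away (𝒮.deg U hU) (QA.sec j U e₀)),
      z.val = Localization.mk (QA.sec j U e)
        (⟨(QA.sec j U e₀) ^ 1, 1, rfl⟩ : Submonoid.powers (QA.sec j U e₀)) →
      chi r'' U hU (Ξ (QA.sec j U e₀)) _ le_rfl (Away.map Ξ (QA.sec j U e₀) z) =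
        chi i U hU (QA.sec j U e₀) _ eW z) :
    IsImmersion (r'' ∣_ Dp p'' chart'' U hU (Ξ (QA.sec j U e₀))) := by
  have hh : QA.sec j U e₀ ∈ 𝒮.deg U hU 1 := hj.2 U hU e₀
  rw [← Scheme.Hom.resLE_eq_morphismRestrict]
  have hbij := fn_bijective p chart U hU (QA.sec j U e₀) Nat.one_pos hh
  refine Groth.Agent.H4.ImmTr.isImmersion_resLE_of_ringHom i r''
    (isAffineOpen_Dp p chart U hU _ Nat.one_pos hh) _ eW le_rfl
    (CommRingCat.ofHom ((fn p'' chart'' U hU (Ξ (QA.sec j U e₀))).comp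
      ((Away.map Ξ (QA.sec j U e₀)).comp
        (RingEquiv.ofBijective (fn p chart U hU (QA.sec j U e₀)) hbij).symm.toRingHom))) ?_
  apply CommRingCat.hom_ext
  apply RingHom.ext
  intro a
  obtain ⟨z, rfl⟩ := hbij.2 a
  have h1 : (RingEquiv.ofBijective (fn p chart U hU (QA.sec j U e₀)) hbij).symm
      (fn p chart U hU (QA.sec j U e₀) z) = z :=
    (RingEquiv.ofBijective (fn p chart U hU (QA.sec j U e₀)) hbij).symm_apply_apply z
  have h2 := chi_comp_awayMap hj hP hP'' U hU Ξ hΞstr i r'' hq e₀ _ eW le_rfl H z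
  change (r''.appLE _ _ le_rfl).hom (fn p'' chart'' U hU (Ξ (QA.sec j U e₀))
    (Away.map Ξ (QA.sec j U e₀)
      ((RingEquiv.ofBijective (fn p chart U hU (QA.sec j U e₀)) hbij).symm
        (fn p chart U hU (QA.sec j U e₀) z)))) = _
  rw [h1]
  exact h2

end ChartTransfer

end

end Groth.Agent.H4.SegreCh
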