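import Mathlib
import Groth.Agent.H4.SegreCh
import Groth.Agent.Lib.Lead.LF.PullTensor
import Groth.Agent.Lib.Lead.QC.Epi
import Groth.Agent.Lib.Lead.QC.InvEpi

set_option autoImplicit false
set_option linter.style.haveILetI false
set_option linter.unusedSectionVars false
set_option linter.unusedVariables false

namespace Groth.Agent.H4.SegreVA

open CategoryTheory CategoryTheory.Limits AlgebraicGeometry TopologicalSpace Opposite
open HomogeneousLocalization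
open Groth.Agent.H6.Sym Groth.Agent.H6 Groth.Agent.LD.QC Groth.Agent.H4.PBundle Groth.Agent.H4.PBundle2
open Groth.Agent.H4.PBundle3 Groth.Agent.H4.PBLoc Groth.Agent.H4.PBLoc2 Groth.Agent.H4.PBLoc3
open Groth.Agent.H4.ConeImm
open Groth.Agent.H4.PBUniq Groth.Agent.H4.PBEx1 Groth.Agent.H4.PBEx2 Groth.Agent.H4.PBEx4
open Groth.Agent.H4.SegreCh
open Groth.Agent.H8.RelTwist
open scoped HomogeneousIdeal

universe u

noncomputable section

section TB

variable {X : Scheme.{u}}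

/-- if `a ⊗ b` is a basis of `L ⊗ L'` (both invertible) then `a` is a basis of `L`. -/
theorem isBasisOver_left_of_tmul {L L' : X.Modules} (hL : PicF.IsInvertible L)
    (hL' : PicF.IsInvertible L') {W : X.Opens} (a : Γ(L, W)) (b : Γ(L', W))
    (h : IsBasisOver (CohB1.tensorMod L L') W (SecTwist.tmul L L' W a b)) : IsBasisOver L W a := by
  apply isBasisOver_of_local a
  intro x hxW W' hxW'
  obtain ⟨U₁, a₀, hx₁, ha₀⟩ := (isInvertible_iff_exists_isBasisOver L).mp hL x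
  obtain ⟨U₂, b₀, hx₂, hb₀⟩ := (isInvertible_iff_exists_isBasisOver L').mp hL' x
  have hVW : W ⊓ W' ⊓ U₁ ⊓ U₂ ≤ W := inf_le_left.trans (inf_le_left.trans inf_le_left)
  have hVW' : W ⊓ W' ⊓ U₁ ⊓ U₂ ≤ W' := inf_le_left.trans (inf_le_left.trans inf_le_right)
  have hV1 : W ⊓ W' ⊓ U₁ ⊓ U₂ ≤ U₁ := inf_le_left.trans inf_le_right
  have hV2 : W ⊓ W' ⊓ U₁ ⊓ U₂ ≤ U₂ := inf_le_right
  refine ⟨W ⊓ W' ⊓ U₁ ⊓ U₂, hVW, ⟨⟨⟨hxW, hxW'⟩, hx₁⟩, hx₂⟩, hVW', ?_⟩
  have ba := ha₀.mono hV1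
  have bb := hb₀.mono hV2
  obtain ⟨c, hc⟩ := ba.exists_coord (L.presheaf.map (homOfLE hVW).op a)
  obtain ⟨d, hd⟩ := bb.exists_coord (L'.presheaf.map (homOfLE hVW).op b)
  have hT := h.mono hVW
  rw [tmul_res, hc, hd, tmul_smul_left, tmul_smul_right, smul_smul] at hT
  have hu : IsUnit (c * d) := ((ba.tmul bb).smul_iff (c * d)).mp hT
  have hcu : IsUnit c := isUnit_of_mul_isUnit_left hu
  have hbas : IsBasisOver L (W ⊓ W' ⊓ U₁ ⊓ U₂) (L.presheaf.map (homOfLE hVW).op a) := by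
    rw [hc]; exact (ba.smul_iff c).mpr hcu
  have h2 := hbas _ le_rfl
  simp only [res_self] at h2
  exact h2

end TB

section Sig

variable {X Y : Scheme.{u}} (q : X ⟶ Y) {E E' : Y.Modules} [E.IsQuasicoherent]
  [E'.IsQuasicoherent] {L L' : X.Modules}
  (s : (Scheme.Modules.pullback q).obj E ⟶ L) (s' : (Scheme.Modules.pullback q).obj E' ⟶ L')

/-- the tensor product of two quotients of pullbacks. -/
def tsig : (Scheme.Modules.pullback q).obj (CohB1.tensorMod E E') ⟶ CohB1.tensorMod L L' :=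
  (pbTensorIsoQC q E E').hom ≫ KoszTw.tensorMap s s'

lemma tsig_app_pbSec (U : Y.Opens) (hU : IsAffineOpen U) (e : Γ(E, U)) (e' : Γ(E', U))
    (W : X.Opens) (hW : W ≤ q ⁻¹ᵁ U) :
    (tsig q s s').app W (pbSec q _ hW (SecTwist.tmul E E' U e e')) =
      SecTwist.tmul L L' W (s.app W (pbSec q E hW e)) (s'.app W (pbSec q E' hW e')) := by
  unfold tsig
  have h1 := pbTensorHom_pbSec q E E' ⟨U, hU⟩ hW e e'
  change (KoszTw.tensorMap s s').app W ((pbTensorHom q E E').app W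
    (pbSec q _ hW (SecTwist.tmul E E' U e e'))) = _
  rw [h1, KoszTw.tensorMap_tmul]

lemma sig_tsig (U : Y.Opens) (hU : IsAffineOpen U) (e : Γ(E, U)) (e' : Γ(E', U)) :
    sig q (tsig q s s') U (SecTwist.tmul E E' U e e') =
      SecTwist.tmul L L' (q ⁻¹ᵁ U) (sig q s U e) (sig q s' U e') :=
  tsig_app_pbSec q s s' U hU e e' _ le_rfl

theorem epi_tsig (hL : PicF.IsInvertible L) (hL' : PicF.IsInvertible L') [Epi s] [Epi s'] :
    Epi (tsig q s s') := by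
  haveI : Epi (KoszTw.tensorMap s s') := by
    apply epi_of_local_lift
    intro U t x hx
    obtain ⟨U₁, ℓ, hx₁, hℓ⟩ := (isInvertible_iff_exists_isBasisOver L).mp hL x
    obtain ⟨U₂, ℓ', hx₂, hℓ'⟩ := (isInvertible_iff_exists_isBasisOver L').mp hL' x
    obtain ⟨W₁, hW₁, hxW₁, g, hg⟩ := exists_local_lift s inferInstance U₁ ℓ x hx₁
    obtain ⟨W₂, hW₂, hxW₂, g', hg'⟩ := exists_local_lift s' inferInstance U₂ ℓ' x hx₂
    have hVU : U ⊓ W₁ ⊓ W₂ ≤ U := inf_le_left.trans inf_le_left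
    have hV1 : U ⊓ W₁ ⊓ W₂ ≤ W₁ := inf_le_left.trans inf_le_right
    have hV2 : U ⊓ W₁ ⊓ W₂ ≤ W₂ := inf_le_right
    have b1 := hℓ.mono (hV1.trans hW₁)
    have b2 := hℓ'.mono (hV2.trans hW₂)
    obtain ⟨c, hc⟩ := (b1.tmul b2).exists_coord
      ((CohB1.tensorMod L L').presheaf.map (homOfLE hVU).op t)
    refine ⟨U ⊓ W₁ ⊓ W₂, hVU, ⟨⟨hx, hxW₁⟩, hxW₂⟩,
      SecTwist.tmul _ _ _
        (c • ((Scheme.Modules.pullback q).obj E).presheaf.map (homOfLE hV1).op g)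
        (((Scheme.Modules.pullback q).obj E').presheaf.map (homOfLE hV2).op g'), ?_⟩
    rw [KoszTw.tensorMap_tmul, Scheme.Modules.Hom.app_smul, app_res, app_res, hg, hg', res_res,
      res_res, tmul_smul_left]
    exact hc.symm
  unfold tsig
  infer_instance

end Sig

section LsecSig

variable {Y P X : Scheme.{u}} {p : P ⟶ Y} {O1 : P.Modules} {E : Y.Modules} [E.IsQuasicoherent]
  {L : X.Modules}

/-- the coordinate sections of a morphism with a compatible identification are the `sig`s. -/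
theorem lsec_res_eq_sig (φ : E ⟶ (Scheme.Modules.pushforward p).obj O1) (q : X ⟶ Y)
    (s : (Scheme.Modules.pullback q).obj E ⟶ L) (r : X ⟶ P) (hr : r ≫ p = q)
    (τ : (Scheme.Modules.pullback r).obj O1 ≅ L) (hτ : alpha φ q r hr ≫ τ.hom = s)
    (U : Y.Opens) (e : Γ(E, U)) (W : X.Opens) (hW : W ≤ q ⁻¹ᵁ U) (hW' : W ≤ r ⁻¹ᵁ (p ⁻¹ᵁ U)) :
    L.presheaf.map (homOfLE hW').op (lsec r τ U (φ.app U e)) =
      L.presheaf.map (homOfLE hW).op (sig q s U e) := by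
  refine (lsec_res' r τ U _ W hW').trans ?_
  refine Eq.trans ?_ (sig_res' q s U e W hW).symm
  refine (congrArg (τ.hom.app W) (alpha_app_pbSec φ q r hr U e W hW hW').symm).trans ?_
  exact congrArg (fun t : (Scheme.Modules.pullback q).obj E ⟶ L => t.app W (pbSec q E hW e)) hτ

end LsecSig

section Main

variable {X Y P P'' : Scheme.{u}} {𝒮 𝒮'' : RelProj.QCGrAlg Y} {p : P ⟶ Y} {p'' : P'' ⟶ Y}
  {chart : ∀ (U : Y.Opens) (hU : IsAffineOpen U),
    (((p ⁻¹ᵁ U : P.Opens) : Scheme.{u}) ≅ Proj (𝒮.deg U hU))}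
  {chart'' : ∀ (U : Y.Opens) (hU : IsAffineOpen U),
    (((p'' ⁻¹ᵁ U : P''.Opens) : Scheme.{u}) ≅ Proj (𝒮''.deg U hU))}
  {O1 : P.Modules} {O1'' : P''.Modules}
  {lam : ∀ (U : Y.Opens) (hU : IsAffineOpen U),
    O1 ⟶ (Scheme.Modules.pushforward (RelProj.emb p chart U hU)).obj (GrTwist.twist (𝒮.deg U hU) 1)}
  {lam'' : ∀ (U : Y.Opens) (hU : IsAffineOpen U),
    O1'' ⟶ (Scheme.Modules.pushforward (RelProj.emb p'' chart'' U hU)).obj
      (GrTwist.twist (𝒮''.deg U hU) 1)}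
  {E E' : Y.Modules} [E.IsQuasicoherent] [E'.IsQuasicoherent]
  {j : E ⟶ 𝒮.toModule} {j'' : CohB1.tensorMod E E' ⟶ 𝒮''.toModule}
  {L L' : X.Modules}

/-- **Segre-type transfer**: if `i : X ⟶ P(E)` is an immersion attached to `s : q^*E ⟶ L`, then the
morphism `X ⟶ P(E ⊗ E')` attached to `s ⊗ s'` is an immersion. -/
theorem isImmersion_of_tensor (hj : RelProj.IsGrSymAlg E 𝒮 j) (hP : RelProj.IsRelProj 𝒮 p chart)
    (hO1 : RelProj.IsRelTwist 𝒮 p chart 1 O1 lam)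
    (φ : E ⟶ (Scheme.Modules.pushforward p).obj O1)
    (hφ : ∀ (U : Y.Opens) (hU : IsAffineOpen U) (e : Γ(E, U)),
      Reads lam U hU (QA.sec j U e) (φ.app U e))
    (hj'' : RelProj.IsGrSymAlg (CohB1.tensorMod E E') 𝒮'' j'')
    (hP'' : RelProj.IsRelProj 𝒮'' p'' chart'')
    (hO1'' : RelProj.IsRelTwist 𝒮'' p'' chart'' 1 O1'' lam'')
    (φ'' : CohB1.tensorMod E E' ⟶ (Scheme.Modules.pushforward p'').obj O1'')
    (hφ'' : ∀ (U : Y.Opens) (hU : IsAffineOpen U) (e : Γ(CohB1.tensorMod E E', U)),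
      Reads lam'' U hU (QA.sec j'' U e) (φ''.app U e))
    (q : X ⟶ Y) (hL : PicF.IsInvertible L) (hL' : PicF.IsInvertible L')
    (s : (Scheme.Modules.pullback q).obj E ⟶ L) (s' : (Scheme.Modules.pullback q).obj E' ⟶ L')
    [Epi s] [Epi s']
    (i : X ⟶ P) [IsImmersion i] (hi : i ≫ p = q) (τ : (Scheme.Modules.pullback i).obj O1 ≅ L)
    (hτ : alpha φ q i hi ≫ τ.hom = s)
    (r'' : X ⟶ P'') (hr'' : r'' ≫ p'' = q)
    (τ'' : (Scheme.Modules.pullback r'').obj O1'' ≅ CohB1.tensorMod L L')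
    (hτ'' : alpha φ'' q r'' hr'' ≫ τ''.hom = tsig q s s') :
    IsImmersion r'' := by
  haveI : (CohB1.tensorMod E E').IsQuasicoherent := inferInstance
  have hgen : 𝒮.IsGenDegOne := genDegOne_of_isGrSymAlg hj
  have hgen'' : 𝒮''.IsGenDegOne := genDegOne_of_isGrSymAlg hj''
  apply Groth.Agent.H4.ImmTr.isImmersion_of_forall_exists_restrict
  intro x
  obtain ⟨U, hU, hxU, -⟩ := Opens.isBasis_iff_nbhd.mp Y.isBasis_affineOpens
    (show q.base x ∈ (⊤ : Y.Opens) from trivial)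
  replace hU : IsAffineOpen U := hU
  obtain ⟨e₀, V₁, hV₁, hV₁U, hxV₁, b₁⟩ := exists_basis_of_epi q s hL x U hU hxU
  obtain ⟨e', V₂, hV₂, hV₂U, hxV₂, b₂⟩ := exists_basis_of_epi q s' hL' x U hU hxU
  obtain ⟨Ξ, hΞ1, hΞ2⟩ := exists_grHom hj 𝒮'' U hU
    (AddMonoidHom.mk' (fun e => QA.sec j'' U (SecTwist.tmul E E' U e e'))
      (fun a b => by
        show QA.sec j'' U (SecTwist.tmul E E' U (a + b) e') = _
        rw [tmul_add_left]
        exact QA.sec_add j'' U _ _))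
    (fun r m => by
      show QA.sec j'' U (SecTwist.tmul E E' U (r • m) e') = _
      rw [tmul_smul_left]
      exact QA.sec_smul j'' U _ _)
    (fun m => hj''.2 U hU _)
  replace hΞ2 : ∀ e : Γ(E, U), Ξ (QA.sec j U e) = QA.sec j'' U (SecTwist.tmul E E' U e e') := hΞ2
  have hh : QA.sec j U e₀ ∈ 𝒮.deg U hU 1 := hj.2 U hU e₀
  have hh'' : Ξ (QA.sec j U e₀) ∈ 𝒮''.deg U hU 1 := GradedFunLike.map_mem Ξ hh
  have hrd₀ : Reads lam'' U hU (Ξ (QA.sec j U e₀)) (φ''.app U (SecTwist.tmul E E' U e₀ e')) := by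
    rw [hΞ2 e₀]; exact hφ'' U hU _
  refine ⟨Dp p'' chart'' U hU (Ξ (QA.sec j U e₀)), ?_, ?_⟩
  · -- membership
    have hVU : V₁ ⊓ V₂ ≤ q ⁻¹ᵁ U := inf_le_left.trans hV₁U
    have hVW'' : V₁ ⊓ V₂ ≤ r'' ⁻¹ᵁ (p'' ⁻¹ᵁ U) := by
      have h1 := hVU
      rw [← hr''] at h1
      exact h1
    have b₁' := b₁.mono (inf_le_left : V₁ ⊓ V₂ ≤ V₁)
    have b₂' := b₂.mono (inf_le_right : V₁ ⊓ V₂ ≤ V₂)
    rw [res_res] at b₁' b₂'
    have hb : IsBasisOver (CohB1.tensorMod L L') (V₁ ⊓ V₂)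
        ((CohB1.tensorMod L L').presheaf.map (homOfLE hVW'').op
          (lsec r'' τ'' U (φ''.app U (SecTwist.tmul E E' U e₀ e')))) := by
      have h1 := lsec_res_eq_sig φ'' q (tsig q s s') r'' hr'' τ'' hτ'' U
        (SecTwist.tmul E E' U e₀ e') _ hVU hVW''
      rw [sig_tsig q s s' U hU e₀ e', tmul_res] at h1
      rw [h1]
      exact b₁'.tmul b₂'
    exact le_preimage_Dp_of_isBasisOver r'' τ'' hO1'' hgen'' U hU _ hh''
      (φ''.app U (SecTwist.tmul E E' U e₀ e')) hrd₀ _ hVW'' hb ⟨hxV₁, hxV₂⟩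
  · -- immersion over the chart
    have hWp'' : r'' ⁻¹ᵁ Dp p'' chart'' U hU (Ξ (QA.sec j U e₀)) ≤ r'' ⁻¹ᵁ (p'' ⁻¹ᵁ U) :=
      r''.preimage_mono (Dp_le p'' chart'' U hU _)
    have hWq : r'' ⁻¹ᵁ Dp p'' chart'' U hU (Ξ (QA.sec j U e₀)) ≤ q ⁻¹ᵁ U := by
      have h1 := hWp''
      rw [← hr'']
      exact h1
    have hWp : r'' ⁻¹ᵁ Dp p'' chart'' U hU (Ξ (QA.sec j U e₀)) ≤ i ⁻¹ᵁ (p ⁻¹ᵁ U) := by
      have h1 := hWq
      rw [← hi] at h1
      exact h1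
    have bW'' := isBasisOver_lsec r'' τ'' hO1'' U hU (Ξ (QA.sec j U e₀)) hh''
      (φ''.app U (SecTwist.tmul E E' U e₀ e')) hrd₀ _ (le_refl _)
    have g0 := lsec_res_eq_sig φ'' q (tsig q s s') r'' hr'' τ'' hτ'' U
      (SecTwist.tmul E E' U e₀ e') _ hWq hWp''
    rw [sig_tsig q s s' U hU e₀ e', tmul_res] at g0
    have bW''' : IsBasisOver (CohB1.tensorMod L L')
        (r'' ⁻¹ᵁ Dp p'' chart'' U hU (Ξ (QA.sec j U e₀)))
        (SecTwist.tmul L L' _ (L.presheaf.map (homOfLE hWq).op (sig q s U e₀))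
          (L'.presheaf.map (homOfLE hWq).op (sig q s' U e'))) := by
      rw [← g0]; exact bW''
    have bW := isBasisOver_left_of_tmul hL hL' _ _ bW'''
    have eW : r'' ⁻¹ᵁ Dp p'' chart'' U hU (Ξ (QA.sec j U e₀)) ≤
        i ⁻¹ᵁ Dp p chart U hU (QA.sec j U e₀) :=
      le_preimage_Dp_of_isBasisOver i τ hO1 hgen U hU (QA.sec j U e₀) hh (φ.app U e₀)
        (hφ U hU e₀) _ hWp (by
          have h1 := lsec_res_eq_sig φ q s i hi τ hτ U e₀ _ hWq hWp
          rw [h1]; exact bW)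
    refine isImmersion_restrict_of_chart hj hP hP'' U hU Ξ hΞ1 i r'' (hi.trans hr''.symm) e₀ eW ?_
    intro e z hz
    have he : QA.sec j U e ∈ 𝒮.deg U hU 1 := hj.2 U hU e
    have hzz : z = Away.mk (𝒮.deg U hU) hh 1 (QA.sec j U e) (by simpa using he) := by
      apply HomogeneousLocalization.val_injective
      rw [hz, Away.val_mk]
    have hrd : Reads lam'' U hU (Ξ (QA.sec j U e)) (φ''.app U (SecTwist.tmul E E' U e e')) := by
      rw [hΞ2 e]; exact hφ'' U hU _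
    have k1 := lsec_res_eq_smul i τ hO1 U hU (QA.sec j U e₀) (QA.sec j U e) hh he
      (φ.app U e₀) (φ.app U e) (hφ U hU e₀) (hφ U hU e) _ eW
    have g1 := lsec_res_eq_sig φ q s i hi τ hτ U e _ hWq hWp
    have g2 := lsec_res_eq_sig φ q s i hi τ hτ U e₀ _ hWq hWp
    replace k1 := g1.symm.trans (k1.trans (congrArg (fun t => chi i U hU (QA.sec j U e₀) _ eW
      (Away.mk (𝒮.deg U hU) hh 1 (QA.sec j U e) (by simpa using he)) • t) g2))
    have k2 := lsec_res_eq_smul r'' τ'' hO1'' U hU (Ξ (QA.sec j U e₀)) (Ξ (QA.sec j U e)) hh''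
      (GradedFunLike.map_mem Ξ he) (φ''.app U (SecTwist.tmul E E' U e₀ e'))
      (φ''.app U (SecTwist.tmul E E' U e e')) hrd₀ hrd _ (le_refl _)
    have g3 := lsec_res_eq_sig φ'' q (tsig q s s') r'' hr'' τ'' hτ'' U
      (SecTwist.tmul E E' U e e') _ hWq hWp''
    rw [sig_tsig q s s' U hU e e', tmul_res] at g3
    replace k2 := g3.symm.trans (k2.trans (congrArg (fun t => chi r'' U hU (Ξ (QA.sec j U e₀)) _
      (le_refl _) (Away.mk (𝒮''.deg U hU) hh'' 1 (Ξ (QA.sec j U e))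
        (by simpa using GradedFunLike.map_mem Ξ he)) • t) g0))
    rw [k1, tmul_smul_left] at k2
    have k3 := bW'''.coord_injective k2
    rw [hzz, Away.map_mk]
    exact k3.symm

end Main

end

end Groth.Agent.H4.SegreVA
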