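import Mathlib
import Groth.Agent.H4.SegreVA
import Groth.Agent.H4.ProjPhi
import Groth.Agent.S8258
import Groth.Agent.S8284
import Groth.Agent.Lib.Lead.QC.TensorPow
import Groth.Agent.Lib.Lead.QC.TensorComm
import Groth.Agent.Lib.Lead.QC.TensorQC

set_option autoImplicit false
set_option linter.style.haveILetI false
set_option linter.unusedSectionVars false
set_option linter.unusedVariables false

namespace Groth.Agent.H4.TensVA

open CategoryTheory CategoryTheory.Limits AlgebraicGeometry TopologicalSpace Opposite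
open HomogeneousLocalization
open Groth.Agent.H6.Sym Groth.Agent.H6 Groth.Agent.LD.QC Groth.Agent.H4.PBundle Groth.Agent.H4.PBundle2
open Groth.Agent.H4.PBundle3 Groth.Agent.H4.PBLoc Groth.Agent.H4.PBLoc2 Groth.Agent.H4.PBLoc3
open Groth.Agent.H4.ConeImm
open Groth.Agent.H4.PBUniq Groth.Agent.H4.PBEx1 Groth.Agent.H4.PBEx2 Groth.Agent.H4.PBEx4
open Groth.Agent.H4.SegreCh Groth.Agent.H4.SegreVA Groth.Agent.H4.ProjPhi
open Groth.Agent.H8.RelTwist
open scoped HomogeneousIdeal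

universe u

noncomputable section

section EpiAlpha

variable {Y P X : Scheme.{u}} {𝒮 : RelProj.QCGrAlg Y} {p : P ⟶ Y}
  {chart : ∀ (U : Y.Opens) (hU : IsAffineOpen U),
    (((p ⁻¹ᵁ U : P.Opens) : Scheme.{u}) ≅ Proj (𝒮.deg U hU))}
  {O1 : P.Modules}
  {lam : ∀ (U : Y.Opens) (hU : IsAffineOpen U),
    O1 ⟶ (Scheme.Modules.pushforward (RelProj.emb p chart U hU)).obj (GrTwist.twist (𝒮.deg U hU) 1)}
  {E : Y.Modules} {j : E ⟶ 𝒮.toModule}

theorem epi_alpha (hE : Coh.IsQCoh E) (hj : RelProj.IsGrSymAlg E 𝒮 j)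
    (hP : RelProj.IsRelProj 𝒮 p chart) (hO1 : RelProj.IsRelTwist 𝒮 p chart 1 O1 lam)
    (φ : E ⟶ (Scheme.Modules.pushforward p).obj O1)
    (hφ : ∀ (U : Y.Opens) (hU : IsAffineOpen U) (e : Γ(E, U)),
      Groth.Agent.H4.PBLoc.Reads lam U hU (QA.sec j U e) (φ.app U e))
    (q : X ⟶ Y) (r : X ⟶ P) (hr : r ≫ p = q) : Epi (alpha φ q r hr) := by
  haveI : E.IsQuasicoherent := hE
  unfold alpha
  haveI : Epi (((Scheme.Modules.pullbackPushforwardAdjunction p).homEquiv E O1).symm φ) :=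
    epi_adj_of_reads E hE 𝒮 j hj p chart hP O1 lam hO1 φ (fun U hU e => hφ U hU e)
  haveI : Epi ((Scheme.Modules.pullback r).map
      (((Scheme.Modules.pullbackPushforwardAdjunction p).homEquiv E O1).symm φ)) :=
    inferInstance
  infer_instance

end EpiAlpha

section VA

variable {X Y : Scheme.{u}}

theorem isRelVeryAmple_of_iso (q : X ⟶ Y) {L M : X.Modules} (e : L ≅ M)
    (h : RelProj.IsRelVeryAmple q L) : RelProj.IsRelVeryAmple q M := by
  obtain ⟨E, hE, 𝒮, j, hj, P, p, chart, hP, O1, lam, hO1, i, hi_imm, hi, ⟨θ⟩⟩ := h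
  exact ⟨E, hE, 𝒮, j, hj, P, p, chart, hP, O1, lam, hO1, i, hi_imm, hi, ⟨e.symm ≪≫ θ⟩⟩

/-- a relatively very ample module is a quotient of the pullback of a quasi-coherent module. -/
theorem exists_epi_of_veryAmple (q : X ⟶ Y) (L : X.Modules) (h : RelProj.IsRelVeryAmple q L) :
    ∃ (E : Y.Modules) (_ : Coh.IsQCoh E) (s : (Scheme.Modules.pullback q).obj E ⟶ L), Epi s := by
  obtain ⟨E, hE, 𝒮, j, hj, P, p, chart, hP, O1, lam, hO1, i, hi_imm, hi, ⟨θ⟩⟩ := h
  haveI : E.IsQuasicoherent := hE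
  have hφ := phi_reads hP hO1 j hj.2
  haveI := epi_alpha hE hj hP hO1 (phi hP hO1 j hj.2) (fun U hU e => hφ U hU e) q i hi
  exact ⟨E, hE, alpha (phi hP hO1 j hj.2) q i hi ≫ θ.inv, inferInstance⟩

/-- **EGA II 4.4.8**: very ample ⊗ (quotient of a pullback) is very ample. -/
theorem veryAmple_tensor (q : X ⟶ Y) (L L' : X.Modules)
    (hL : PicF.IsInvertible L) (hva : RelProj.IsRelVeryAmple q L) (hL' : PicF.IsInvertible L')
    (E' : Y.Modules) (hE' : Coh.IsQCoh E') (φ' : (Scheme.Modules.pullback q).obj E' ⟶ L')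
    (hφ' : Epi φ') : RelProj.IsRelVeryAmple q (CohB1.tensorMod L L') := by
  obtain ⟨E, hE, 𝒮, j, hj, P, p, chart, hP, O1, lam, hO1, i, hi_imm, hi, ⟨θ⟩⟩ := hva
  haveI : E.IsQuasicoherent := hE
  haveI : E'.IsQuasicoherent := hE'
  haveI := hi_imm
  haveI := hφ'
  have hφ := phi_reads hP hO1 j hj.2
  haveI := epi_alpha hE hj hP hO1 (phi hP hO1 j hj.2) (fun U hU e => hφ U hU e) q i hi
  haveI : Epi (alpha (phi hP hO1 j hj.2) q i hi ≫ θ.inv) := inferInstance
  haveI hq'' : (CohB1.tensorMod E E').IsQuasicoherent := inferInstance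
  have hj'' := isGrSymAlg (CohB1.tensorMod E E')
  obtain ⟨P'', p'', chart'', hP''⟩ := Groth.Agent.S8258.result (symGrAlg (CohB1.tensorMod E E'))
  obtain ⟨O1'', lam'', hO1''⟩ :=
    Groth.Agent.S8284.result (symGrAlg (CohB1.tensorMod E E')) p'' chart'' hP'' 1
  have hφ'' := phi_reads hP'' hO1'' (symJ (CohB1.tensorMod E E')) hj''.2
  haveI : Epi (tsig q (alpha (phi hP hO1 j hj.2) q i hi ≫ θ.inv) φ') :=
    epi_tsig q _ φ' hL hL'
  obtain ⟨r'', ⟨hr'', τ'', hτ''⟩, -⟩ := Groth.Agent.H4.PBEx4.main (CohB1.tensorMod E E') hq''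
    (symGrAlg (CohB1.tensorMod E E')) (symJ (CohB1.tensorMod E E')) hj'' p'' chart'' hP'' O1''
    lam'' hO1'' (phi hP'' hO1'' (symJ (CohB1.tensorMod E E')) hj''.2) hφ'' q
    (CohB1.tensorMod L L') (isInvertible_tensorMod hL hL')
    (tsig q (alpha (phi hP hO1 j hj.2) q i hi ≫ θ.inv) φ') inferInstance
  have hτa : alpha (phi hP'' hO1'' (symJ (CohB1.tensorMod E E')) hj''.2) q r'' hr'' ≫ τ''.hom =
      tsig q (alpha (phi hP hO1 j hj.2) q i hi ≫ θ.inv) φ' := by
    rw [← hτ'']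
    unfold alpha
    simp only [Category.assoc]
  have himm : IsImmersion r'' :=
    isImmersion_of_tensor hj hP hO1 (phi hP hO1 j hj.2) (fun U hU e => hφ U hU e) hj'' hP'' hO1''
      (phi hP'' hO1'' (symJ (CohB1.tensorMod E E')) hj''.2) (fun U hU e => hφ'' U hU e) q hL hL'
      (alpha (phi hP hO1 j hj.2) q i hi ≫ θ.inv) φ' i hi θ.symm rfl r'' hr'' τ'' hτa
  exact ⟨CohB1.tensorMod E E', hq'', symGrAlg (CohB1.tensorMod E E'),
    symJ (CohB1.tensorMod E E'), hj'', P'', p'', chart'', hP'', O1'', lam'', hO1'', r'', himm, hr'',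
    ⟨τ''.symm⟩⟩

/-- **EGA II 4.4.10 (ii)**: the tensor product of two very ample modules is very ample. -/
theorem veryAmple_tensor_veryAmple (q : X ⟶ Y) (L L' : X.Modules)
    (hL : PicF.IsInvertible L) (hL' : PicF.IsInvertible L')
    (hva : RelProj.IsRelVeryAmple q L) (hva' : RelProj.IsRelVeryAmple q L') :
    RelProj.IsRelVeryAmple q (CohB1.tensorMod L L') := by
  obtain ⟨E', hE', φ', hφ'⟩ := exists_epi_of_veryAmple q L' hva'
  exact veryAmple_tensor q L L' hL hva hL' E' hE' φ' hφ'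

/-- tensor powers of a very ample module are very ample. -/
theorem veryAmple_tensorPow (q : X ⟶ Y) (L : X.Modules)
    (hL : PicF.IsInvertible L) (hva : RelProj.IsRelVeryAmple q L) :
    ∀ n : ℕ, RelProj.IsRelVeryAmple q (CohB1.tensorPow L (n + 1))
  | 0 => by
    haveI : L.IsQuasicoherent := qc_of_isInvertible L hL
    exact isRelVeryAmple_of_iso q (unitorL L).symm hva
  | n + 1 => by
    exact veryAmple_tensor_veryAmple q (CohB1.tensorPow L (n + 1)) L
      (isInvertible_tensorPow hL (n + 1)) hL (veryAmple_tensorPow q L hL hva n) hva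

/-- twisting a very ample module by the pullback of an invertible module of the base. -/
theorem veryAmple_tensor_pullback (q : X ⟶ Y) (L : X.Modules)
    (hL : PicF.IsInvertible L) (K : Y.Modules) (hK : PicF.IsInvertible K)
    (hva : RelProj.IsRelVeryAmple q L) :
    RelProj.IsRelVeryAmple q (CohB1.tensorMod L ((Scheme.Modules.pullback q).obj K)) :=
  veryAmple_tensor q L _ hL hva (isInvertible_pullback q hK) K (qc_of_isInvertible K hK)
    (𝟙 _) inferInstance

end VA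

end

end Groth.Agent.H4.TensVA
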