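import Mathlib
import Groth.Agent.H4.TensVA
import Groth.Agent.H4.FTImm1

set_option autoImplicit false
set_option linter.style.haveILetI false
set_option linter.unusedSectionVars false
set_option linter.unusedVariables false

namespace Groth.Agent.H4.FTImm2

open CategoryTheory CategoryTheory.Limits AlgebraicGeometry TopologicalSpace Opposite
open HomogeneousLocalization
open Groth.Agent.H6.Sym Groth.Agent.H6 Groth.Agent.LD.QC Groth.Agent.H4.PBundle Groth.Agent.H4.PBundle2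
open Groth.Agent.H4.PBundle3 Groth.Agent.H4.PBLoc Groth.Agent.H4.PBLoc2 Groth.Agent.H4.PBLoc3
open Groth.Agent.H4.ConeImm
open Groth.Agent.H4.PBUniq Groth.Agent.H4.PBEx1 Groth.Agent.H4.PBEx2 Groth.Agent.H4.PBEx4
open Groth.Agent.H4.SegreCh Groth.Agent.H4.SegreVA Groth.Agent.H4.ProjPhi Groth.Agent.H4.TensVA
open Groth.Agent.H4.FTImm1
open Groth.Agent.H8.RelTwist
open scoped HomogeneousIdeal

universe u

noncomputable section

section Supp

variable {Y : Scheme.{u}} {𝒮 : RelProj.QCGrAlg Y} {E : Y.Modules} [E.IsQuasicoherent]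

/-- `c ∈ 𝒮(U)_n` is a polynomial in the `j e`, `e ∈ S`: it lifts along every graded map whose
image contains these. -/
def Supp (j : E ⟶ 𝒮.toModule) (U : Y.Opens) (hU : IsAffineOpen U) (S : Set Γ(E, U)) (n : ℕ)
    (c : 𝒮.presheaf.obj (op U)) : Prop :=
  ∀ (𝒯 : RelProj.QCGrAlg Y) (Ξ : 𝒯.deg U hU →+*ᵍ 𝒮.deg U hU),
    (∀ r, Ξ ((𝒯.str.app (op U)).hom r) = (𝒮.str.app (op U)).hom r) →
    (∀ e ∈ S, ∃ t, t ∈ 𝒯.deg U hU 1 ∧ Ξ t = QA.sec j U e) →
    ∃ c', c' ∈ 𝒯.deg U hU n ∧ Ξ c' = c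

variable {j : E ⟶ 𝒮.toModule}

lemma Supp.mono {U : Y.Opens} {hU : IsAffineOpen U} {S S' : Set Γ(E, U)} {n : ℕ}
    {c : 𝒮.presheaf.obj (op U)} (h : S ⊆ S') (hc : Supp j U hU S n c) : Supp j U hU S' n c :=
  fun 𝒯 Ξ h1 h2 => hc 𝒯 Ξ h1 (fun e he => h2 e (h he))

lemma supp_str (U : Y.Opens) (hU : IsAffineOpen U) (S : Set Γ(E, U)) (c : Γ(Y, U)) :
    Supp j U hU S 0 ((𝒮.str.app (op U)).hom c) :=
  fun 𝒯 Ξ h1 _ => ⟨(𝒯.str.app (op U)).hom c, 𝒯.str_mem U hU c, h1 c⟩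

theorem exists_supp (hj : RelProj.IsGrSymAlg E 𝒮 j) (U : Y.Opens) (hU : IsAffineOpen U) (n : ℕ)
    (c : 𝒮.presheaf.obj (op U)) (hc : c ∈ 𝒮.deg U hU n) :
    ∃ S : Finset Γ(E, U), Supp j U hU (↑S) n c := by
  classical
  refine sym_induction hj U hU (fun n c => ∃ S : Finset Γ(E, U), Supp j U hU (↑S) n c)
    ?_ ?_ ?_ n c hc
  · intro r
    exact ⟨∅, supp_str U hU _ r⟩
  · rintro n a b ⟨Sa, ha⟩ ⟨Sb, hb⟩
    refine ⟨Sa ∪ Sb, fun 𝒯 Ξ h1 h2 => ?_⟩
    obtain ⟨a', ha', rfl⟩ := ha 𝒯 Ξ h1 (fun e he => h2 e (by simp [he]))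
    obtain ⟨b', hb', rfl⟩ := hb 𝒯 Ξ h1 (fun e he => h2 e (by simp [he]))
    exact ⟨a' + b', add_mem ha' hb', map_add Ξ a' b'⟩
  · rintro n e a ⟨Sa, ha⟩
    refine ⟨insert e Sa, fun 𝒯 Ξ h1 h2 => ?_⟩
    obtain ⟨a', ha', rfl⟩ := ha 𝒯 Ξ h1 (fun e' he' => h2 e' (by simp [he']))
    obtain ⟨t, ht, hte⟩ := h2 e (by simp)
    refine ⟨t * a', ?_, ?_⟩
    · rw [add_comm]; exact SetLike.mul_mem_graded ht ha'
    · rw [map_mul, hte]

end Supp

section LocalData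

variable {X Y P : Scheme.{u}} {𝒮 : RelProj.QCGrAlg Y} {p : P ⟶ Y}
  {chart : ∀ (U : Y.Opens) (hU : IsAffineOpen U),
    (((p ⁻¹ᵁ U : P.Opens) : Scheme.{u}) ≅ Proj (𝒮.deg U hU))}
  {E : Y.Modules} [E.IsQuasicoherent] {j : E ⟶ 𝒮.toModule}

/-- a degree zero fraction with denominator a power of the degree one element `h`. -/
def amk (U : Y.Opens) (hU : IsAffineOpen U) (h : 𝒮.presheaf.obj (op U)) (hh : h ∈ 𝒮.deg U hU 1)
    (n : ℕ) (c : 𝒮.presheaf.obj (op U)) (hc : c ∈ 𝒮.deg U hU n) : Away (𝒮.deg U hU) h :=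
  Away.mk (𝒮.deg U hU) hh n c (by simpa using hc)

lemma amk_surjective (U : Y.Opens) (hU : IsAffineOpen U) (h : 𝒮.presheaf.obj (op U))
    (hh : h ∈ 𝒮.deg U hU 1) (a : Away (𝒮.deg U hU) h) :
    ∃ (n : ℕ) (c : 𝒮.presheaf.obj (op U)) (hc : c ∈ 𝒮.deg U hU n), amk U hU h hh n c hc = a := by
  obtain ⟨n, c, hc, rfl⟩ := Away.mk_surjective (𝒮.deg U hU) hh a
  exact ⟨n, c, by simpa using hc, rfl⟩

/-- **local structure of an immersion into `P(E)` of a morphism locally of finite type.** -/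
theorem exists_local_data (hj : RelProj.IsGrSymAlg E 𝒮 j) (hP : RelProj.IsRelProj 𝒮 p chart)
    (q : X ⟶ Y) [LocallyOfFiniteType q] (i : X ⟶ P) [IsImmersion i] (hi : i ≫ p = q) (x : X) :
    ∃ (U : Y.Opens) (hU : IsAffineOpen U) (e₀ : Γ(E, U)) (W : X.Opens)
      (eW : W ≤ i ⁻¹ᵁ Dp p chart U hU (QA.sec j U e₀)) (na : ℕ) (ca : 𝒮.presheaf.obj (op U))
      (hca : ca ∈ 𝒮.deg U hU na) (S : Finset Γ(E, U)),
      q.base x ∈ U ∧ IsAffineOpen W ∧ x ∈ W ∧ Supp j U hU (↑S) na ca ∧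
      W = X.basicOpen (chi i U hU (QA.sec j U e₀) (i ⁻¹ᵁ Dp p chart U hU (QA.sec j U e₀)) le_rfl
        (amk U hU (QA.sec j U e₀) (hj.2 U hU e₀) na ca hca)) ∧
      ∀ R : Subring Γ(X, W),
        (∀ (n : ℕ) (c : 𝒮.presheaf.obj (op U)) (hc : c ∈ 𝒮.deg U hU n), Supp j U hU (↑S) n c →
          chi i U hU (QA.sec j U e₀) W eW (amk U hU (QA.sec j U e₀) (hj.2 U hU e₀) n c hc) ∈ R) →
        (∀ v : Γ(X, W), v * chi i U hU (QA.sec j U e₀) W eW
          (amk U hU (QA.sec j U e₀) (hj.2 U hU e₀) na ca hca) = 1 → v ∈ R) → R = ⊤ := by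
  classical
  obtain ⟨V, hV, hVT⟩ := exists_opens_of_isImmersion i
  obtain ⟨U, hU, hxU, -⟩ := Opens.isBasis_iff_nbhd.mp Y.isBasis_affineOpens
    (show q.base x ∈ (⊤ : Y.Opens) from trivial)
  replace hU : IsAffineOpen U := hU
  have hxp : p.base (i.base x) ∈ U := by
    have h1 : q.base x = p.base (i.base x) := by rw [← hi]; rfl
    rw [← h1]; exact hxU
  obtain ⟨z, hz⟩ := exists_emb p chart (i.base x) U hU hxp
  obtain ⟨e₀, he₀⟩ := exists_sec_basicOpen hj U hU z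
  have hh : QA.sec j U e₀ ∈ 𝒮.deg U hU 1 := hj.2 U hU e₀
  have hxD : i.base x ∈ Dp p chart U hU (QA.sec j U e₀) := ⟨z, he₀, hz⟩
  have hD : IsAffineOpen (Dp p chart U hU (QA.sec j U e₀)) :=
    isAffineOpen_Dp p chart U hU _ Nat.one_pos hh
  obtain ⟨g, hgle, hxg⟩ := hD.exists_basicOpen_le
    (V := Dp p chart U hU (QA.sec j U e₀) ⊓ V) ⟨i.base x, ⟨hxD, hV x⟩⟩ hxD
  obtain ⟨a, rfl⟩ := fn_surjective p chart U hU (QA.sec j U e₀) Nat.one_pos hh g
  obtain ⟨na, ca, hca, rfl⟩ := amk_surjective U hU (QA.sec j U e₀) hh a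
  have hT : IsAffineOpen (P.basicOpen (fn p chart U hU (QA.sec j U e₀)
      (amk U hU (QA.sec j U e₀) hh na ca hca))) := hD.basicOpen _
  have hTV : P.basicOpen (fn p chart U hU (QA.sec j U e₀)
      (amk U hU (QA.sec j U e₀) hh na ca hca)) ≤ V := hgle.trans inf_le_right
  have hTD : P.basicOpen (fn p chart U hU (QA.sec j U e₀)
      (amk U hU (QA.sec j U e₀) hh na ca hca)) ≤ Dp p chart U hU (QA.sec j U e₀) :=
    P.basicOpen_le _
  obtain ⟨hWaff, hsurj⟩ := hVT _ hT hTV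
  have eW : i ⁻¹ᵁ P.basicOpen (fn p chart U hU (QA.sec j U e₀)
      (amk U hU (QA.sec j U e₀) hh na ca hca)) ≤ i ⁻¹ᵁ Dp p chart U hU (QA.sec j U e₀) :=
    i.preimage_mono hTD
  have hWU : i ⁻¹ᵁ P.basicOpen (fn p chart U hU (QA.sec j U e₀)
      (amk U hU (QA.sec j U e₀) hh na ca hca)) ≤ q ⁻¹ᵁ U := by
    have h1 := eW.trans (i.preimage_mono (Dp_le p chart U hU _))
    rw [← hi]
    exact h1
  -- the key formula
  have key1 : ∀ b : Away (𝒮.deg U hU) (QA.sec j U e₀),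
      (i.app _).hom ((P.presheaf.map (homOfLE hTD).op).hom (fn p chart U hU (QA.sec j U e₀) b)) =
        chi i U hU (QA.sec j U e₀) _ eW b := by
    intro b
    have h1 : P.presheaf.map (homOfLE hTD).op ≫ i.appLE _ _ (le_refl _) =
        i.appLE _ _ eW := Scheme.Hom.map_appLE i (le_refl _) (homOfLE hTD).op
    rw [Scheme.Hom.appLE_eq_app] at h1
    exact congrArg (fun t => t.hom (fn p chart U hU (QA.sec j U e₀) b)) h1
  have hγ : IsUnit (chi i U hU (QA.sec j U e₀) _ eW (amk U hU (QA.sec j U e₀) hh na ca hca)) := by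
    rw [← key1]
    exact (RingedSpace.isUnit_res_basicOpen P.toRingedSpace _).map (i.app _).hom
  have hfin := HasRingHomProperty.appLE @LocallyOfFiniteType q inferInstance ⟨U, hU⟩
    ⟨_, hWaff⟩ hWU
  obtain ⟨s, hs⟩ := (@Algebra.FiniteType.out _ _ _ _ (q.appLE U _ hWU).hom.toAlgebra hfin)
  -- every function on `W` is a fraction
  have hfrac : ∀ w : Γ(X, i ⁻¹ᵁ P.basicOpen (fn p chart U hU (QA.sec j U e₀)
      (amk U hU (QA.sec j U e₀) hh na ca hca))), ∃ (d n : ℕ) (c : 𝒮.presheaf.obj (op U))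
      (hc : c ∈ 𝒮.deg U hU n),
      w * chi i U hU (QA.sec j U e₀) _ eW (amk U hU (QA.sec j U e₀) hh na ca hca) ^ d =
        chi i U hU (QA.sec j U e₀) _ eW (amk U hU (QA.sec j U e₀) hh n c hc) := by
    intro w
    obtain ⟨t, rfl⟩ := hsurj w
    haveI := hD.isLocalization_basicOpen (fn p chart U hU (QA.sec j U e₀)
      (amk U hU (QA.sec j U e₀) hh na ca hca))
    obtain ⟨⟨g, ⟨_, d, rfl⟩⟩, hg⟩ := IsLocalization.surj (Submonoid.powers
      (fn p chart U hU (QA.sec j U e₀) (amk U hU (QA.sec j U e₀) hh na ca hca))) t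
    obtain ⟨b, rfl⟩ := fn_surjective p chart U hU (QA.sec j U e₀) Nat.one_pos hh g
    obtain ⟨n, c, hc, rfl⟩ := amk_surjective U hU (QA.sec j U e₀) hh b
    refine ⟨d, n, c, hc, ?_⟩
    rw [← key1, ← key1, ← map_pow, ← map_pow, ← map_mul]
    exact congrArg (i.app _).hom hg
  choose dw nw cw hcw hw using hfrac
  choose Sw hSw using fun w => exists_supp hj U hU (nw w) (cw w) (hcw w)
  obtain ⟨Sa, hSa⟩ := exists_supp hj U hU na ca hca
  refine ⟨U, hU, e₀, _, eW, na, ca, hca, Sa ∪ s.biUnion Sw, hxU, hWaff, hxg, ?_, ?_, ?_⟩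
  · exact hSa.mono (by simp)
  · have h1 := Scheme.preimage_basicOpen i (fn p chart U hU (QA.sec j U e₀)
      (amk U hU (QA.sec j U e₀) hh na ca hca))
    rw [h1]
    congr 1
    unfold chi
    rw [RingHom.comp_apply, Scheme.Hom.appLE_eq_app]
  · intro R hR1 hR2
    obtain ⟨v, hv⟩ := hγ.exists_left_inv
    have hvR := hR2 v hv
    refine subring_eq_top_of_finiteType (q.appLE U _ hWU).hom R ?_ (↑s) hs ?_
    · intro c
      have h1 := hR1 0 ((𝒮.str.app (op U)).hom c) (𝒮.str_mem U hU c) (supp_str U hU _ c)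
      have h2 := chi_str hP i U hU (QA.sec j U e₀) c
        (amk U hU (QA.sec j U e₀) hh 0 ((𝒮.str.app (op U)).hom c) (𝒮.str_mem U hU c))
        (Away.val_mk _ _ _ _ _) _ eW
      rw [h2] at h1
      have h3 : (i ≫ p).appLE U _ (by rw [hi]; exact hWU) = q.appLE U _ hWU :=
        appLE_congr_hom _ _ hi U _ _ _
      rw [← h3]
      exact h1
    · intro w hwS
      have h1 := hR1 (nw w) (cw w) (hcw w) ((hSw w).mono (by
        intro e he
        simp only [Finset.coe_union, Finset.coe_biUnion, Set.mem_union, Set.mem_iUnion]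
        exact Or.inr ⟨w, hwS, he⟩))
      rw [← hw w] at h1
      have h2 : w = w * chi i U hU (QA.sec j U e₀) _ eW
          (amk U hU (QA.sec j U e₀) hh na ca hca) ^ dw w * v ^ dw w := by
        rw [mul_assoc, ← mul_pow, mul_comm _ v, hv, one_pow, mul_one]
      rw [h2]
      exact R.mul_mem h1 (R.pow_mem hvR _)

end LocalData

end

end Groth.Agent.H4.FTImm2
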