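import Mathlib
import Groth.Agent.H4.FTImm2
import Groth.Agent.Lib.Lead.QC.SubSup
import Groth.Agent.Lib.Lead.QC.PullbackUnit

set_option autoImplicit false
set_option linter.style.haveILetI false
set_option linter.unusedSectionVars false
set_option linter.unusedVariables false

namespace Groth.Agent.H4.FTImm3

open CategoryTheory CategoryTheory.Limits AlgebraicGeometry TopologicalSpace Opposite
open HomogeneousLocalization
open Groth.Agent.H6.Sym Groth.Agent.H6 Groth.Agent.LD.QC Groth.Agent.H4.PBundle Groth.Agent.H4.PBundle2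
open Groth.Agent.H4.PBundle3 Groth.Agent.H4.PBLoc Groth.Agent.H4.PBLoc2 Groth.Agent.H4.PBLoc3
open Groth.Agent.H4.ConeImm
open Groth.Agent.H4.PBUniq Groth.Agent.H4.PBEx1 Groth.Agent.H4.PBEx2 Groth.Agent.H4.PBEx4
open Groth.Agent.H4.SegreCh Groth.Agent.H4.SegreVA Groth.Agent.H4.ProjPhi Groth.Agent.H4.TensVA
open Groth.Agent.H4.FTImm1 Groth.Agent.H4.FTImm2
open Groth.Agent.H8.RelTwist
open scoped HomogeneousIdeal

universe u

noncomputable section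

section Helpers

variable {X Y P : Scheme.{u}} {𝒮 𝒯 : RelProj.QCGrAlg Y} {p : P ⟶ Y}
  {chart : ∀ (U : Y.Opens) (hU : IsAffineOpen U),
    (((p ⁻¹ᵁ U : P.Opens) : Scheme.{u}) ≅ Proj (𝒮.deg U hU))}

lemma chi_res (r : X ⟶ P) (U : Y.Opens) (hU : IsAffineOpen U) (h : 𝒮.presheaf.obj (op U))
    {W W' : X.Opens} (hWW : W' ≤ W) (e : W ≤ r ⁻¹ᵁ Dp p chart U hU h)
    (z : Away (𝒮.deg U hU) h) :
    (X.presheaf.map (homOfLE hWW).op).hom (chi r U hU h W e z) =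
      chi r U hU h W' (hWW.trans e) z := by
  unfold chi
  rw [RingHom.comp_apply, RingHom.comp_apply]
  have h1 := Scheme.Hom.appLE_map r e (homOfLE hWW).op
  exact congrArg (fun t => t.hom (fn p chart U hU h z)) h1

lemma chi_amk_congr (r : X ⟶ P) (U : Y.Opens) (hU : IsAffineOpen U)
    {h h' : 𝒮.presheaf.obj (op U)} (heq : h = h') (hh : h ∈ 𝒮.deg U hU 1)
    (hh' : h' ∈ 𝒮.deg U hU 1) (n : ℕ) {c c' : 𝒮.presheaf.obj (op U)} (hcc : c = c')
    (hc : c ∈ 𝒮.deg U hU n) (hc' : c' ∈ 𝒮.deg U hU n) (W : X.Opens)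
    (eW : W ≤ r ⁻¹ᵁ Dp p chart U hU h) (eW' : W ≤ r ⁻¹ᵁ Dp p chart U hU h') :
    chi r U hU h W eW (amk U hU h hh n c hc) = chi r U hU h' W eW' (amk U hU h' hh' n c' hc') := by
  subst heq hcc
  rfl

lemma awayMap_amk (U : Y.Opens) (hU : IsAffineOpen U) (Ξ : 𝒯.deg U hU →+*ᵍ 𝒮.deg U hU)
    (h : 𝒯.presheaf.obj (op U)) (hh : h ∈ 𝒯.deg U hU 1) (n : ℕ) (c : 𝒯.presheaf.obj (op U))
    (hc : c ∈ 𝒯.deg U hU n) :
    Away.map Ξ h (amk U hU h hh n c hc) =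
      amk U hU (Ξ h) (GradedFunLike.map_mem Ξ hh) n (Ξ c) (GradedFunLike.map_mem Ξ hc) :=
  Away.map_mk Ξ h hh n c _

lemma eq_of_mul_eq_one' {R : Type*} [CommRing R] (v g w : R) (hv : v * g = 1) (hw : w * g = 1) :
    v = w := by
  calc v = v * (w * g) := by rw [hw, mul_one]
    _ = w * (v * g) := by ring
    _ = w := by rw [hv, mul_one]

lemma dp_congr (U : Y.Opens) (hU : IsAffineOpen U) {h h' : 𝒮.presheaf.obj (op U)}
    (heq : h = h') : Dp p chart U hU h = Dp p chart U hU h' := by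
  subst heq; rfl

end Helpers

section Local

variable {X Y P PF : Scheme.{u}} {𝒮 𝒯 : RelProj.QCGrAlg Y} {p : P ⟶ Y} {pF : PF ⟶ Y}
  {chart : ∀ (U : Y.Opens) (hU : IsAffineOpen U),
    (((p ⁻¹ᵁ U : P.Opens) : Scheme.{u}) ≅ Proj (𝒮.deg U hU))}
  {chartF : ∀ (U : Y.Opens) (hU : IsAffineOpen U),
    (((pF ⁻¹ᵁ U : PF.Opens) : Scheme.{u}) ≅ Proj (𝒯.deg U hU))}
  {O1 : P.Modules} {O1F : PF.Modules}
  {lam : ∀ (U : Y.Opens) (hU : IsAffineOpen U),
    O1 ⟶ (Scheme.Modules.pushforward (RelProj.emb p chart U hU)).obj (GrTwist.twist (𝒮.deg U hU) 1)}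
  {lamF : ∀ (U : Y.Opens) (hU : IsAffineOpen U),
    O1F ⟶ (Scheme.Modules.pushforward (RelProj.emb pF chartF U hU)).obj
      (GrTwist.twist (𝒯.deg U hU) 1)}
  {E F : Y.Modules} [E.IsQuasicoherent] [F.IsQuasicoherent]
  {j : E ⟶ 𝒮.toModule} {k : F ⟶ 𝒯.toModule} {L : X.Modules}

lemma sig_map (q : X ⟶ Y) (u : F ⟶ E) (s : (Scheme.Modules.pullback q).obj E ⟶ L) (V : Y.Opens)
    (f : Γ(F, V)) :
    sig q ((Scheme.Modules.pullback q).map u ≫ s) V f = sig q s V (u.app V f) := by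
  unfold sig
  change s.app _ (((Scheme.Modules.pullback q).map u).app _ (pbSec q F le_rfl f)) = _
  rw [pbSec_naturality]

/-- **the local step**: over a good chart the morphism to `P(F)` is an immersion. -/
theorem local_immersion (hj : RelProj.IsGrSymAlg E 𝒮 j) (hP : RelProj.IsRelProj 𝒮 p chart)
    (hO1 : RelProj.IsRelTwist 𝒮 p chart 1 O1 lam)
    (φ : E ⟶ (Scheme.Modules.pushforward p).obj O1)
    (hφ : ∀ (U : Y.Opens) (hU : IsAffineOpen U) (e : Γ(E, U)),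
      Groth.Agent.H4.PBLoc.Reads lam U hU (QA.sec j U e) (φ.app U e))
    (hk : RelProj.IsGrSymAlg F 𝒯 k) (hPF : RelProj.IsRelProj 𝒯 pF chartF)
    (hO1F : RelProj.IsRelTwist 𝒯 pF chartF 1 O1F lamF)
    (φF : F ⟶ (Scheme.Modules.pushforward pF).obj O1F)
    (hφF : ∀ (U : Y.Opens) (hU : IsAffineOpen U) (e : Γ(F, U)),
      Groth.Agent.H4.PBLoc.Reads lamF U hU (QA.sec k U e) (φF.app U e))
    (u : F ⟶ E) (q : X ⟶ Y) (hL : PicF.IsInvertible L)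
    (s : (Scheme.Modules.pullback q).obj E ⟶ L)
    (i : X ⟶ P) (hi : i ≫ p = q) (τ : (Scheme.Modules.pullback i).obj O1 ≅ L)
    (hτ : alpha φ q i hi ≫ τ.hom = s)
    (rF : X ⟶ PF) (hrF : rF ≫ pF = q) (τF : (Scheme.Modules.pullback rF).obj O1F ≅ L)
    (hτF : alpha φF q rF hrF ≫ τF.hom = (Scheme.Modules.pullback q).map u ≫ s)
    (U : Y.Opens) (hU : IsAffineOpen U) (e₀ : Γ(E, U)) (W : X.Opens)
    (eW : W ≤ i ⁻¹ᵁ Dp p chart U hU (QA.sec j U e₀)) (na : ℕ) (ca : 𝒮.presheaf.obj (op U))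
    (hca : ca ∈ 𝒮.deg U hU na) (S : Finset Γ(E, U))
    (hWaff : IsAffineOpen W) (hSa : Supp j U hU (↑S) na ca)
    (hWeq : W = X.basicOpen (chi i U hU (QA.sec j U e₀)
      (i ⁻¹ᵁ Dp p chart U hU (QA.sec j U e₀)) le_rfl
        (amk U hU (QA.sec j U e₀) (hj.2 U hU e₀) na ca hca)))
    (hgenR : ∀ R : Subring Γ(X, W),
        (∀ (n : ℕ) (c : 𝒮.presheaf.obj (op U)) (hc : c ∈ 𝒮.deg U hU n), Supp j U hU (↑S) n c →
          chi i U hU (QA.sec j U e₀) W eW (amk U hU (QA.sec j U e₀) (hj.2 U hU e₀) n c hc) ∈ R) →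
        (∀ v : Γ(X, W), v * chi i U hU (QA.sec j U e₀) W eW
          (amk U hU (QA.sec j U e₀) (hj.2 U hU e₀) na ca hca) = 1 → v ∈ R) → R = ⊤)
    (hmem : ∀ e : Γ(E, U), e = e₀ ∨ e ∈ S → ∃ g : Γ(F, U), u.app U g = e) :
    ∃ T : PF.Opens, rF ⁻¹ᵁ T = W ∧ IsImmersion (rF ∣_ T) := by
  classical
  have hgen : 𝒮.IsGenDegOne := genDegOne_of_isGrSymAlg hj
  have hgenF : 𝒯.IsGenDegOne := genDegOne_of_isGrSymAlg hk
  obtain ⟨f₀, hf₀⟩ := hmem e₀ (Or.inl rfl)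
  obtain ⟨Ξ, hΞ1, hΞ2⟩ := exists_grHom hk 𝒮 U hU
    (AddMonoidHom.mk' (fun f => QA.sec j U (u.app U f))
      (fun a b => by
        show QA.sec j U (u.app U (a + b)) = _
        rw [map_add]
        exact QA.sec_add j U _ _))
    (fun r m => by
      show QA.sec j U (u.app U (r • m)) = _
      rw [Scheme.Modules.Hom.app_smul]
      exact QA.sec_smul j U _ _)
    (fun m => hj.2 U hU _)
  replace hΞ2 : ∀ f : Γ(F, U), Ξ (QA.sec k U f) = QA.sec j U (u.app U f) := hΞ2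
  have heq : Ξ (QA.sec k U f₀) = QA.sec j U e₀ := by rw [hΞ2, hf₀]
  have hcov : ∀ e ∈ (↑S : Set Γ(E, U)), ∃ t, t ∈ 𝒯.deg U hU 1 ∧ Ξ t = QA.sec j U e := by
    intro e he
    obtain ⟨g, hg⟩ := hmem e (Or.inr (Finset.mem_coe.mp he))
    exact ⟨QA.sec k U g, hk.2 U hU g, by rw [hΞ2, hg]⟩
  obtain ⟨ca', hca', hcaeq⟩ := hSa 𝒯 Ξ hΞ1 hcov
  have hhF : QA.sec k U f₀ ∈ 𝒯.deg U hU 1 := hk.2 U hU f₀
  have hh : QA.sec j U e₀ ∈ 𝒮.deg U hU 1 := hj.2 U hU e₀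
  have hhΞ : Ξ (QA.sec k U f₀) ∈ 𝒮.deg U hU 1 := GradedFunLike.map_mem Ξ hhF
  have hDeq : Dp p chart U hU (Ξ (QA.sec k U f₀)) = Dp p chart U hU (QA.sec j U e₀) :=
    dp_congr U hU heq
  -- the two loci agree
  have hΩF_p : rF ⁻¹ᵁ Dp pF chartF U hU (QA.sec k U f₀) ≤ rF ⁻¹ᵁ (pF ⁻¹ᵁ U) :=
    rF.preimage_mono (Dp_le pF chartF U hU _)
  have hΩF_q : rF ⁻¹ᵁ Dp pF chartF U hU (QA.sec k U f₀) ≤ q ⁻¹ᵁ U := by
    have h1 := hΩF_p
    rw [← hrF]
    exact h1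
  have hΩF_ip : rF ⁻¹ᵁ Dp pF chartF U hU (QA.sec k U f₀) ≤ i ⁻¹ᵁ (p ⁻¹ᵁ U) := by
    have h1 := hΩF_q
    rw [← hi] at h1
    exact h1
  have bF := isBasisOver_lsec rF τF hO1F U hU (QA.sec k U f₀) hhF (φF.app U f₀) (hφF U hU f₀) _
    (le_refl _)
  rw [lsec_res_eq_sig φF q _ rF hrF τF hτF U f₀ _ hΩF_q hΩF_p, sig_map, hf₀] at bF
  have hle1 : rF ⁻¹ᵁ Dp pF chartF U hU (QA.sec k U f₀) ≤ i ⁻¹ᵁ Dp p chart U hU (QA.sec j U e₀) :=
    le_preimage_Dp_of_isBasisOver i τ hO1 hgen U hU (QA.sec j U e₀) hh (φ.app U e₀)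
      (hφ U hU e₀) _ hΩF_ip (by
        rw [lsec_res_eq_sig φ q s i hi τ hτ U e₀ _ hΩF_q hΩF_ip]; exact bF)
  have hΩ_p : i ⁻¹ᵁ Dp p chart U hU (QA.sec j U e₀) ≤ i ⁻¹ᵁ (p ⁻¹ᵁ U) :=
    i.preimage_mono (Dp_le p chart U hU _)
  have hΩ_q : i ⁻¹ᵁ Dp p chart U hU (QA.sec j U e₀) ≤ q ⁻¹ᵁ U := by
    have h1 := hΩ_p
    rw [← hi]
    exact h1
  have hΩ_Fp : i ⁻¹ᵁ Dp p chart U hU (QA.sec j U e₀) ≤ rF ⁻¹ᵁ (pF ⁻¹ᵁ U) := by
    have h1 := hΩ_q
    rw [← hrF] at h1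
    exact h1
  have b := isBasisOver_lsec i τ hO1 U hU (QA.sec j U e₀) hh (φ.app U e₀) (hφ U hU e₀) _
    (le_refl _)
  rw [lsec_res_eq_sig φ q s i hi τ hτ U e₀ _ hΩ_q hΩ_p] at b
  have hle2 : i ⁻¹ᵁ Dp p chart U hU (QA.sec j U e₀) ≤ rF ⁻¹ᵁ Dp pF chartF U hU (QA.sec k U f₀) :=
    le_preimage_Dp_of_isBasisOver rF τF hO1F hgenF U hU (QA.sec k U f₀) hhF (φF.app U f₀)
      (hφF U hU f₀) _ hΩ_Fp (by
        rw [lsec_res_eq_sig φF q _ rF hrF τF hτF U f₀ _ hΩ_q hΩ_Fp, sig_map, hf₀]; exact b)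
  -- chart comparison
  have Hgen : ∀ (W' : X.Opens) (eF : W' ≤ rF ⁻¹ᵁ Dp pF chartF U hU (QA.sec k U f₀))
      (eΞ : W' ≤ i ⁻¹ᵁ Dp p chart U hU (Ξ (QA.sec k U f₀)))
      (z : Away (𝒯.deg U hU) (QA.sec k U f₀)),
      chi i U hU (Ξ (QA.sec k U f₀)) W' eΞ (Away.map Ξ (QA.sec k U f₀) z) =
        chi rF U hU (QA.sec k U f₀) W' eF z := by
    intro W' eF eΞ
    refine chi_comp_awayMap hk hPF hP U hU Ξ hΞ1 rF i (hrF.trans hi.symm) f₀ W' eF eΞ ?_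
    intro f z hz
    have hf : QA.sec k U f ∈ 𝒯.deg U hU 1 := hk.2 U hU f
    have hzz : z = Away.mk (𝒯.deg U hU) hhF 1 (QA.sec k U f) (by simpa using hf) := by
      apply HomogeneousLocalization.val_injective
      rw [hz, Away.val_mk]
    have hW'q : W' ≤ q ⁻¹ᵁ U := eF.trans hΩF_q
    have hW'Fp : W' ≤ rF ⁻¹ᵁ (pF ⁻¹ᵁ U) := eF.trans hΩF_p
    have hW'p : W' ≤ i ⁻¹ᵁ (p ⁻¹ᵁ U) := eF.trans hΩF_ip
    have hrd₀ : Groth.Agent.H4.PBLoc.Reads lam U hU (Ξ (QA.sec k U f₀)) (φ.app U e₀) := by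
      rw [heq]; exact hφ U hU e₀
    have hrd : Groth.Agent.H4.PBLoc.Reads lam U hU (Ξ (QA.sec k U f)) (φ.app U (u.app U f)) := by
      rw [hΞ2 f]; exact hφ U hU _
    have k1 := lsec_res_eq_smul rF τF hO1F U hU (QA.sec k U f₀) (QA.sec k U f) hhF hf
      (φF.app U f₀) (φF.app U f) (hφF U hU f₀) (hφF U hU f) W' eF
    have g1 := lsec_res_eq_sig φF q _ rF hrF τF hτF U f W' hW'q hW'Fp
    have g2 := lsec_res_eq_sig φF q _ rF hrF τF hτF U f₀ W' hW'q hW'Fp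
    rw [sig_map] at g1 g2
    rw [hf₀] at g2
    replace k1 := g1.symm.trans (k1.trans (congrArg (fun t => chi rF U hU (QA.sec k U f₀) W' eF
      (Away.mk (𝒯.deg U hU) hhF 1 (QA.sec k U f) (by simpa using hf)) • t) g2))
    have k2 := lsec_res_eq_smul i τ hO1 U hU (Ξ (QA.sec k U f₀)) (Ξ (QA.sec k U f)) hhΞ
      (GradedFunLike.map_mem Ξ hf) (φ.app U e₀) (φ.app U (u.app U f)) hrd₀ hrd W' eΞ
    have g3 := lsec_res_eq_sig φ q s i hi τ hτ U (u.app U f) W' hW'q hW'p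
    have g4 := lsec_res_eq_sig φ q s i hi τ hτ U e₀ W' hW'q hW'p
    replace k2 := g3.symm.trans (k2.trans (congrArg (fun t => chi i U hU (Ξ (QA.sec k U f₀)) W' eΞ
      (Away.mk (𝒮.deg U hU) hhΞ 1 (Ξ (QA.sec k U f))
        (by simpa using GradedFunLike.map_mem Ξ hf)) • t) g4))
    rw [k1] at k2
    have bW' := bF.mono eF
    rw [res_res] at bW'
    have k3 := bW'.coord_injective k2
    rw [hzz, Away.map_mk]
    exact k3.symm
  -- the preimage of the basic open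
  have hTD : PF.basicOpen (fn pF chartF U hU (QA.sec k U f₀)
      (amk U hU (QA.sec k U f₀) hhF na ca' hca')) ≤ Dp pF chartF U hU (QA.sec k U f₀) :=
    PF.basicOpen_le _
  have hDF : IsAffineOpen (Dp pF chartF U hU (QA.sec k U f₀)) :=
    isAffineOpen_Dp pF chartF U hU _ Nat.one_pos hhF
  have hTaff : IsAffineOpen (PF.basicOpen (fn pF chartF U hU (QA.sec k U f₀)
      (amk U hU (QA.sec k U f₀) hhF na ca' hca'))) := hDF.basicOpen _
  have hΩFΞ : rF ⁻¹ᵁ Dp pF chartF U hU (QA.sec k U f₀) ≤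
      i ⁻¹ᵁ Dp p chart U hU (Ξ (QA.sec k U f₀)) := by
    rw [hDeq]; exact hle1
  have hpre : rF ⁻¹ᵁ PF.basicOpen (fn pF chartF U hU (QA.sec k U f₀)
      (amk U hU (QA.sec k U f₀) hhF na ca' hca')) = W := by
    have h0 := Scheme.preimage_basicOpen rF (fn pF chartF U hU (QA.sec k U f₀)
      (amk U hU (QA.sec k U f₀) hhF na ca' hca'))
    have h0' : (rF.app (Dp pF chartF U hU (QA.sec k U f₀))).hom (fn pF chartF U hU (QA.sec k U f₀)
        (amk U hU (QA.sec k U f₀) hhF na ca' hca')) =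
        chi rF U hU (QA.sec k U f₀) _ (le_refl _) (amk U hU (QA.sec k U f₀) hhF na ca' hca') := by
      unfold chi
      rw [RingHom.comp_apply, Scheme.Hom.appLE_eq_app]
    have h1 : chi rF U hU (QA.sec k U f₀) _ (le_refl _) (amk U hU (QA.sec k U f₀) hhF na ca' hca') =
        (X.presheaf.map (homOfLE hle1).op).hom (chi i U hU (QA.sec j U e₀) _ (le_refl _)
          (amk U hU (QA.sec j U e₀) hh na ca hca)) := by
      rw [← Hgen _ (le_refl _) hΩFΞ, awayMap_amk, chi_res]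
      exact chi_amk_congr i U hU heq _ _ na hcaeq _ _ _ _ _
    rw [h0]
    change X.basicOpen ((rF.app (Dp pF chartF U hU (QA.sec k U f₀))).hom (fn pF chartF U hU
      (QA.sec k U f₀) (amk U hU (QA.sec k U f₀) hhF na ca' hca'))) = W
    rw [h0', h1, Scheme.basicOpen_res, hWeq]
    exact inf_eq_right.mpr ((X.basicOpen_le _).trans hle2)
  have eWT : W ≤ rF ⁻¹ᵁ PF.basicOpen (fn pF chartF U hU (QA.sec k U f₀)
      (amk U hU (QA.sec k U f₀) hhF na ca' hca')) := hpre.ge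
  have eWF : W ≤ rF ⁻¹ᵁ Dp pF chartF U hU (QA.sec k U f₀) := eW.trans hle2
  have eWΞ : W ≤ i ⁻¹ᵁ Dp p chart U hU (Ξ (QA.sec k U f₀)) := by
    rw [hDeq]; exact eW
  -- the ring map in terms of `chi`
  have key2 : ∀ b : Away (𝒯.deg U hU) (QA.sec k U f₀),
      (rF.appLE _ W eWT).hom ((PF.presheaf.map (homOfLE hTD).op).hom
        (fn pF chartF U hU (QA.sec k U f₀) b)) = chi rF U hU (QA.sec k U f₀) W eWF b := by
    intro b
    have h1 := Scheme.Hom.map_appLE rF eWT (homOfLE hTD).op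
    exact congrArg (fun t => t.hom (fn pF chartF U hU (QA.sec k U f₀) b)) h1
  have key3 : ∀ (n : ℕ) (c : 𝒮.presheaf.obj (op U)) (hc : c ∈ 𝒮.deg U hU n)
      (c' : 𝒯.presheaf.obj (op U)) (hc' : c' ∈ 𝒯.deg U hU n), Ξ c' = c →
      chi i U hU (QA.sec j U e₀) W eW (amk U hU (QA.sec j U e₀) hh n c hc) =
        chi rF U hU (QA.sec k U f₀) W eWF (amk U hU (QA.sec k U f₀) hhF n c' hc') := by
    intro n c hc c' hc' hcc
    rw [← Hgen W eWF eWΞ, awayMap_amk]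
    exact (chi_amk_congr i U hU heq _ _ n hcc _ _ W _ _).symm
  have hR := hgenR (rF.appLE _ W eWT).hom.range ?_ ?_
  · refine ⟨_, hpre, ?_⟩
    apply isImmersion_morphismRestrict_of_resLE rF _ W hpre.symm eWT
    apply isImmersion_resLE_of_surjective rF hTaff hWaff eWT
    intro w
    have hw : w ∈ (rF.appLE _ W eWT).hom.range := by rw [hR]; trivial
    exact hw
  · intro n c hc hsupp
    obtain ⟨c', hc', hcc⟩ := hsupp 𝒯 Ξ hΞ1 hcov
    rw [key3 n c hc c' hc' hcc, ← key2]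
    exact ⟨_, rfl⟩
  · intro v hv
    rw [key3 na ca hca ca' hca' hcaeq, ← key2] at hv
    have hunit : IsUnit ((PF.presheaf.map (homOfLE hTD).op).hom (fn pF chartF U hU (QA.sec k U f₀)
        (amk U hU (QA.sec k U f₀) hhF na ca' hca'))) :=
      RingedSpace.isUnit_res_basicOpen PF.toRingedSpace _
    obtain ⟨ginv, hginv⟩ := hunit.exists_left_inv
    have h2 := congrArg (rF.appLE _ W eWT).hom hginv
    rw [map_mul, map_one] at h2
    have h3 : v = (rF.appLE _ W eWT).hom ginv := eq_of_mul_eq_one' v _ _ hv h2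
    rw [h3]
    exact ⟨_, rfl⟩

end Local

section Main

/-- **EGA II 4.4.7**: for `q` of finite type over a quasi-compact quasi-separated base, a very
ample module comes from an immersion into `P(F)` with `F` of finite type. -/
theorem main {X Y : Scheme.{u}}
    (hY : (CompactSpace Y ∧ Y.IsSeparated) ∨ TopologicalSpace.NoetherianSpace Y) (q : X ⟶ Y)
    [QuasiCompact q] [LocallyOfFiniteType q] (L : X.Modules) (hL : PicF.IsInvertible L)
    (h : RelProj.IsRelVeryAmple q L) :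
    ∃ (E : Y.Modules) (𝒯 : RelProj.QCGrAlg Y) (j : E ⟶ 𝒯.toModule) (P : Scheme.{u}) (p : P ⟶ Y)
      (chart : ∀ (U : Y.Opens) (hU : IsAffineOpen U),
        ((p ⁻¹ᵁ U : P.Opens) : Scheme.{u}) ≅ Proj (𝒯.deg U hU))
      (O1 : P.Modules)
      (lam : ∀ (U : Y.Opens) (hU : IsAffineOpen U),
        O1 ⟶ (Scheme.Modules.pushforward (RelProj.emb p chart U hU)).obj
          (GrTwist.twist (𝒯.deg U hU) 1))
      (i : X ⟶ P),
      Coh.IsQCoh E ∧ CohB1.IsFT E ∧ RelProj.IsGrSymAlg E 𝒯 j ∧ RelProj.IsRelProj 𝒯 p chart ∧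
        RelProj.IsRelTwist 𝒯 p chart 1 O1 lam ∧ IsImmersion i ∧ i ≫ p = q ∧
        Nonempty (L ≅ (Scheme.Modules.pullback i).obj O1) := by
  classical
  haveI hYc : CompactSpace Y := by
    rcases hY with h | h
    · exact h.1
    · haveI := h; infer_instance
  haveI hYqs : QuasiSeparatedSpace Y := by
    rcases hY with h | h
    · haveI := h.2; infer_instance
    · haveI := h; infer_instance
  haveI : CompactSpace X := QuasiCompact.compactSpace_of_compactSpace q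
  obtain ⟨E, hE, 𝒮, j, hj, P, p, chart, hP, O1, lam, hO1, i, himm, hi, ⟨θ⟩⟩ := h
  haveI : E.IsQuasicoherent := hE
  haveI := himm
  have hgen : 𝒮.IsGenDegOne := genDegOne_of_isGrSymAlg hj
  have hφ := phi_reads hP hO1 j hj.2
  haveI := epi_alpha hE hj hP hO1 (phi hP hO1 j hj.2) (fun U hU e => hφ U hU e) q i hi
  choose U hU e₀ W eW na ca hca S hxU hWaff hxW hSa hWeq hgenR using
    exists_local_data hj hP q i hi
  obtain ⟨Z, hZcov⟩ := isCompact_univ.elim_finite_subcover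
    (fun x : X => ((W x : X.Opens) : Set X))
    (fun x => (W x).2) (fun x _ => Set.mem_iUnion.mpr ⟨x, hxW x⟩)
  obtain ⟨F, u, hu, hFq, hFft, hmem⟩ := exists_sub_finiteType_of_sections E
    (ι := Σ V : Y.affineOpens, Γ(E, V.1))
    (Z.biUnion (fun z => (insert (e₀ z) (S z)).image
      (fun e => (⟨⟨U z, hU z⟩, e⟩ : Σ V : Y.affineOpens, Γ(E, V.1)))))
    (fun a => a.1) (fun a => a.2)
  haveI := hFq
  have hmem' : ∀ z ∈ Z, ∀ e : Γ(E, U z), e = e₀ z ∨ e ∈ S z →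
      ∃ g : Γ(F, U z), u.app (U z) g = e := by
    intro z hz e he
    have h1 : (⟨⟨U z, hU z⟩, e⟩ : Σ V : Y.affineOpens, Γ(E, V.1)) ∈
        Z.biUnion (fun z => (insert (e₀ z) (S z)).image
          (fun e => (⟨⟨U z, hU z⟩, e⟩ : Σ V : Y.affineOpens, Γ(E, V.1)))) := by
      rw [Finset.mem_biUnion]
      refine ⟨z, hz, Finset.mem_image.mpr ⟨e, ?_, rfl⟩⟩
      rw [Finset.mem_insert]
      exact he
    exact hmem _ h1
  obtain ⟨PF, pF, chartF, hPF⟩ := Groth.Agent.S8258.result (symGrAlg F)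
  obtain ⟨O1F, lamF, hO1F⟩ := Groth.Agent.S8284.result (symGrAlg F) pF chartF hPF 1
  have hk := isGrSymAlg F
  have hφF := phi_reads hPF hO1F (symJ F) hk.2
  -- basis of `L` on the `W z`
  have hbW : ∀ z : X, IsBasisOver L (W z) (L.presheaf.map (homOfLE ((eW z).trans (by
      have h1 : i ⁻¹ᵁ Dp p chart (U z) (hU z) (QA.sec j (U z) (e₀ z)) ≤ i ⁻¹ᵁ (p ⁻¹ᵁ (U z)) :=
        i.preimage_mono (Dp_le p chart (U z) (hU z) _)
      rw [← hi]
      exact h1) : W z ≤ q ⁻¹ᵁ (U z))).op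
      (sig q (alpha (phi hP hO1 j hj.2) q i hi ≫ θ.inv) (U z) (e₀ z))) := by
    intro z
    have hWp : W z ≤ i ⁻¹ᵁ (p ⁻¹ᵁ (U z)) :=
      (eW z).trans (i.preimage_mono (Dp_le p chart (U z) (hU z) _))
    have hWq : W z ≤ q ⁻¹ᵁ (U z) := by
      have h1 := hWp
      rw [← hi]
      exact h1
    have b := isBasisOver_lsec i θ.symm hO1 (U z) (hU z) (QA.sec j (U z) (e₀ z))
      (hj.2 (U z) (hU z) (e₀ z)) ((phi hP hO1 j hj.2).app (U z) (e₀ z)) (hφ (U z) (hU z) (e₀ z))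
      (W z) (eW z)
    rw [lsec_res_eq_sig (phi hP hO1 j hj.2) q (alpha (phi hP hO1 j hj.2) q i hi ≫ θ.inv) i hi
      θ.symm rfl (U z) (e₀ z) (W z) hWq hWp] at b
    exact b
  haveI hsF : Epi ((Scheme.Modules.pullback q).map u ≫
      (alpha (phi hP hO1 j hj.2) q i hi ≫ θ.inv)) := by
    apply epi_of_local_lift
    intro V t x hx
    obtain ⟨z, hzZ, hxz⟩ := Set.mem_iUnion₂.mp (hZcov (Set.mem_univ x))
    obtain ⟨f₀, hf₀⟩ := hmem' z hzZ (e₀ z) (Or.inl rfl)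
    have hWq : W z ≤ q ⁻¹ᵁ (U z) := by
      have h1 : W z ≤ i ⁻¹ᵁ (p ⁻¹ᵁ (U z)) :=
        (eW z).trans (i.preimage_mono (Dp_le p chart (U z) (hU z) _))
      rw [← hi]
      exact h1
    have hVW : V ⊓ W z ≤ W z := inf_le_right
    have hVV : V ⊓ W z ≤ V := inf_le_left
    have b := (hbW z).mono hVW
    rw [res_res] at b
    obtain ⟨c, hc⟩ := b.exists_coord (L.presheaf.map (homOfLE hVV).op t)
    refine ⟨V ⊓ W z, hVV, ⟨hx, hxz⟩, c • pbSec q F (hVW.trans hWq) f₀, ?_⟩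
    rw [Scheme.Modules.Hom.app_smul, hc]
    congr 1
    change (alpha (phi hP hO1 j hj.2) q i hi ≫ θ.inv).app _
      (((Scheme.Modules.pullback q).map u).app _ (pbSec q F (hVW.trans hWq) f₀)) = _
    rw [pbSec_naturality, hf₀]
    exact (sig_res' q _ (U z) (e₀ z) _ (hVW.trans hWq)).symm
  obtain ⟨rF, ⟨hrF, τF, hτF⟩, -⟩ := Groth.Agent.H4.PBEx4.main F hFq (symGrAlg F) (symJ F) hk
    pF chartF hPF O1F lamF hO1F (phi hPF hO1F (symJ F) hk.2) hφF q L hL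
    ((Scheme.Modules.pullback q).map u ≫ (alpha (phi hP hO1 j hj.2) q i hi ≫ θ.inv)) hsF
  have hτFa : alpha (phi hPF hO1F (symJ F) hk.2) q rF hrF ≫ τF.hom =
      (Scheme.Modules.pullback q).map u ≫ (alpha (phi hP hO1 j hj.2) q i hi ≫ θ.inv) := by
    rw [← hτF]
    unfold alpha
    simp only [Category.assoc]
  refine ⟨F, symGrAlg F, symJ F, PF, pF, chartF, O1F, lamF, rF, hFq, hFft, hk, hPF, hO1F, ?_, hrF,
    ⟨τF.symm⟩⟩
  apply Groth.Agent.H4.ImmTr.isImmersion_of_forall_exists_restrict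
  intro x
  obtain ⟨z, hzZ, hxz⟩ := Set.mem_iUnion₂.mp (hZcov (Set.mem_univ x))
  obtain ⟨T, hT, himmT⟩ := local_immersion hj hP hO1 (phi hP hO1 j hj.2)
    (fun U hU e => hφ U hU e) hk hPF hO1F (phi hPF hO1F (symJ F) hk.2) (fun U hU e => hφF U hU e)
    u q hL (alpha (phi hP hO1 j hj.2) q i hi ≫ θ.inv) i hi θ.symm rfl rF hrF τF hτFa
    (U z) (hU z) (e₀ z) (W z) (eW z) (na z) (ca z) (hca z) (S z) (hWaff z) (hSa z) (hWeq z)
    (hgenR z) (hmem' z hzZ)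
  refine ⟨T, ?_, himmT⟩
  have h1 : x ∈ rF ⁻¹ᵁ T := by rw [hT]; exact hxz
  exact h1

end Main

end

end Groth.Agent.H4.FTImm3
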