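import Mathlib
import Groth.Agent.H4.FTImm3

set_option autoImplicit false
set_option linter.style.haveILetI false
set_option linter.unusedSectionVars false
set_option linter.unusedVariables false

namespace Groth.Agent.H4.FTImm4

open CategoryTheory CategoryTheory.Limits AlgebraicGeometry TopologicalSpace Opposite
open HomogeneousLocalization
open Groth.Agent.H6.Sym Groth.Agent.H6 Groth.Agent.LD.QC Groth.Agent.H4.PBundle Groth.Agent.H4.PBundle2
open Groth.Agent.H4.PBundle3 Groth.Agent.H4.PBLoc Groth.Agent.H4.PBLoc2 Groth.Agent.H4.PBLoc3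
open Groth.Agent.H4.ConeImm
open Groth.Agent.H4.PBUniq Groth.Agent.H4.PBEx1 Groth.Agent.H4.PBEx2 Groth.Agent.H4.PBEx4
open Groth.Agent.H4.SegreCh Groth.Agent.H4.SegreVA Groth.Agent.H4.ProjPhi Groth.Agent.H4.TensVA
open Groth.Agent.H4.FTImm1 Groth.Agent.H4.FTImm2 Groth.Agent.H4.FTImm3
open Groth.Agent.H8.RelTwist
open scoped HomogeneousIdeal

universe u

noncomputable section

section Main

/-- **EGA II 4.4.7**: for `q` of finite type over a quasi-compact quasi-separated base, a very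
ample module comes from an immersion into `P(F)` with `F` of finite type. -/
theorem main_qcqs {X Y : Scheme.{u}} [CompactSpace Y] [QuasiSeparatedSpace Y] (q : X ⟶ Y)
    [QuasiCompact q] [LocallyOfFiniteType q] (L : X.Modules) (hL : PicF.IsInvertible L)
    (h : RelProj.IsRelVeryAmple q L) :
    ∃ (E : Y.Modules) (𝒯 : RelProj.QCGrAlg Y) (j : E ⟶ 𝒯.toModule) (P : Scheme.{u}) (p : P ⟶ Y)
      (chart : ∀ (U : Y.Opens) (hU : IsAffineOpen U),
        ((p ⁻¹ᵁ U : P.Opens) : Scheme.{u}) ≅ Proj (𝒯.deg U hU))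
      (O1 : P.Modules)
      (lam : ∀ (U : Y.Opens) (hU : IsAffineOpen U),
        O1 ⟶ (Scheme.Modules.pushforward (RelProj.emb p chart U hU)).obj
          (GrTwist.twist (𝒯.deg U hU) 1))
      (i : X ⟶ P),
      Coh.IsQCoh E ∧ CohB1.IsFT E ∧ RelProj.IsGrSymAlg E 𝒯 j ∧ RelProj.IsRelProj 𝒯 p chart ∧
        RelProj.IsRelTwist 𝒯 p chart 1 O1 lam ∧ IsImmersion i ∧ i ≫ p = q ∧
        Nonempty (L ≅ (Scheme.Modules.pullback i).obj O1) := by
  classical
  haveI : CompactSpace X := QuasiCompact.compactSpace_of_compactSpace q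
  obtain ⟨E, hE, 𝒮, j, hj, P, p, chart, hP, O1, lam, hO1, i, himm, hi, ⟨θ⟩⟩ := h
  haveI : E.IsQuasicoherent := hE
  haveI := himm
  have hgen : 𝒮.IsGenDegOne := genDegOne_of_isGrSymAlg hj
  have hφ := phi_reads hP hO1 j hj.2
  haveI := epi_alpha hE hj hP hO1 (phi hP hO1 j hj.2) (fun U hU e => hφ U hU e) q i hi
  choose U hU e₀ W eW na ca hca S hxU hWaff hxW hSa hWeq hgenR using
    exists_local_data hj hP q i hi
  obtain ⟨Z, hZcov⟩ := isCompact_univ.elim_finite_subcover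
    (fun x : X => ((W x : X.Opens) : Set X))
    (fun x => (W x).2) (fun x _ => Set.mem_iUnion.mpr ⟨x, hxW x⟩)
  obtain ⟨F, u, hu, hFq, hFft, hmem⟩ := exists_sub_finiteType_of_sections E
    (ι := Σ V : Y.affineOpens, Γ(E, V.1))
    (Z.biUnion (fun z => (insert (e₀ z) (S z)).image
      (fun e => (⟨⟨U z, hU z⟩, e⟩ : Σ V : Y.affineOpens, Γ(E, V.1)))))
    (fun a => a.1) (fun a => a.2)
  haveI := hFq
  have hmem' : ∀ z ∈ Z, ∀ e : Γ(E, U z), e = e₀ z ∨ e ∈ S z →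
      ∃ g : Γ(F, U z), u.app (U z) g = e := by
    intro z hz e he
    have h1 : (⟨⟨U z, hU z⟩, e⟩ : Σ V : Y.affineOpens, Γ(E, V.1)) ∈
        Z.biUnion (fun z => (insert (e₀ z) (S z)).image
          (fun e => (⟨⟨U z, hU z⟩, e⟩ : Σ V : Y.affineOpens, Γ(E, V.1)))) := by
      rw [Finset.mem_biUnion]
      refine ⟨z, hz, Finset.mem_image.mpr ⟨e, ?_, rfl⟩⟩
      rw [Finset.mem_insert]
      exact he
    exact hmem _ h1
  obtain ⟨PF, pF, chartF, hPF⟩ := Groth.Agent.S8258.result (symGrAlg F)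
  obtain ⟨O1F, lamF, hO1F⟩ := Groth.Agent.S8284.result (symGrAlg F) pF chartF hPF 1
  have hk := isGrSymAlg F
  have hφF := phi_reads hPF hO1F (symJ F) hk.2
  -- basis of `L` on the `W z`
  have hbW : ∀ z : X, IsBasisOver L (W z) (L.presheaf.map (homOfLE ((eW z).trans (by
      have h1 : i ⁻¹ᵁ Dp p chart (U z) (hU z) (QA.sec j (U z) (e₀ z)) ≤ i ⁻¹ᵁ (p ⁻¹ᵁ (U z)) :=
        i.preimage_mono (Dp_le p chart (U z) (hU z) _)
      rw [← hi]
      exact h1) : W z ≤ q ⁻¹ᵁ (U z))).op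
      (sig q (alpha (phi hP hO1 j hj.2) q i hi ≫ θ.inv) (U z) (e₀ z))) := by
    intro z
    have hWp : W z ≤ i ⁻¹ᵁ (p ⁻¹ᵁ (U z)) :=
      (eW z).trans (i.preimage_mono (Dp_le p chart (U z) (hU z) _))
    have hWq : W z ≤ q ⁻¹ᵁ (U z) := by
      have h1 := hWp
      rw [← hi]
      exact h1
    have b := isBasisOver_lsec i θ.symm hO1 (U z) (hU z) (QA.sec j (U z) (e₀ z))
      (hj.2 (U z) (hU z) (e₀ z)) ((phi hP hO1 j hj.2).app (U z) (e₀ z)) (hφ (U z) (hU z) (e₀ z))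
      (W z) (eW z)
    rw [lsec_res_eq_sig (phi hP hO1 j hj.2) q (alpha (phi hP hO1 j hj.2) q i hi ≫ θ.inv) i hi
      θ.symm rfl (U z) (e₀ z) (W z) hWq hWp] at b
    exact b
  haveI hsF : Epi ((Scheme.Modules.pullback q).map u ≫
      (alpha (phi hP hO1 j hj.2) q i hi ≫ θ.inv)) := by
    apply epi_of_local_lift
    intro V t x hx
    obtain ⟨z, hzZ, hxz⟩ := Set.mem_iUnion₂.mp (hZcov (Set.mem_univ x))
    obtain ⟨f₀, hf₀⟩ := hmem' z hzZ (e₀ z) (Or.inl rfl)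
    have hWq : W z ≤ q ⁻¹ᵁ (U z) := by
      have h1 : W z ≤ i ⁻¹ᵁ (p ⁻¹ᵁ (U z)) :=
        (eW z).trans (i.preimage_mono (Dp_le p chart (U z) (hU z) _))
      rw [← hi]
      exact h1
    have hVW : V ⊓ W z ≤ W z := inf_le_right
    have hVV : V ⊓ W z ≤ V := inf_le_left
    have b := (hbW z).mono hVW
    rw [res_res] at b
    obtain ⟨c, hc⟩ := b.exists_coord (L.presheaf.map (homOfLE hVV).op t)
    refine ⟨V ⊓ W z, hVV, ⟨hx, hxz⟩, c • pbSec q F (hVW.trans hWq) f₀, ?_⟩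
    rw [Scheme.Modules.Hom.app_smul, hc]
    congr 1
    change (alpha (phi hP hO1 j hj.2) q i hi ≫ θ.inv).app _
      (((Scheme.Modules.pullback q).map u).app _ (pbSec q F (hVW.trans hWq) f₀)) = _
    rw [pbSec_naturality, hf₀]
    exact (sig_res' q _ (U z) (e₀ z) _ (hVW.trans hWq)).symm
  obtain ⟨rF, ⟨hrF, τF, hτF⟩, -⟩ := Groth.Agent.H4.PBEx4.main F hFq (symGrAlg F) (symJ F) hk
    pF chartF hPF O1F lamF hO1F (phi hPF hO1F (symJ F) hk.2) hφF q L hL
    ((Scheme.Modules.pullback q).map u ≫ (alpha (phi hP hO1 j hj.2) q i hi ≫ θ.inv)) hsF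
  have hτFa : alpha (phi hPF hO1F (symJ F) hk.2) q rF hrF ≫ τF.hom =
      (Scheme.Modules.pullback q).map u ≫ (alpha (phi hP hO1 j hj.2) q i hi ≫ θ.inv) := by
    rw [← hτF]
    unfold alpha
    simp only [Category.assoc]
  refine ⟨F, symGrAlg F, symJ F, PF, pF, chartF, O1F, lamF, rF, hFq, hFft, hk, hPF, hO1F, ?_, hrF,
    ⟨τF.symm⟩⟩
  apply Groth.Agent.H4.ImmTr.isImmersion_of_forall_exists_restrict
  intro x
  obtain ⟨z, hzZ, hxz⟩ := Set.mem_iUnion₂.mp (hZcov (Set.mem_univ x))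
  obtain ⟨T, hT, himmT⟩ := local_immersion hj hP hO1 (phi hP hO1 j hj.2)
    (fun U hU e => hφ U hU e) hk hPF hO1F (phi hPF hO1F (symJ F) hk.2) (fun U hU e => hφF U hU e)
    u q hL (alpha (phi hP hO1 j hj.2) q i hi ≫ θ.inv) i hi θ.symm rfl rF hrF τF hτFa
    (U z) (hU z) (e₀ z) (W z) (eW z) (na z) (ca z) (hca z) (S z) (hWaff z) (hSa z) (hWeq z)
    (hgenR z) (hmem' z hzZ)
  refine ⟨T, ?_, himmT⟩
  have h1 : x ∈ rF ⁻¹ᵁ T := by rw [hT]; exact hxz
  exact h1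

end Main

end

end Groth.Agent.H4.FTImm4
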