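import Mathlib
import Groth.Agent.H4.PBundle
import Groth.Agent.H4.PBLoc2
import Groth.Agent.H4.ClIm7
import Groth.Agent.Lib.Lead.QC.FinType
import Groth.Agent.Lib.Lead.QC.Closure
import Groth.Agent.Lib.Lead.QC.SubExt
import Groth.Agent.Lib.Lead.QC.Gen

set_option autoImplicit false
set_option linter.style.haveILetI false
set_option linter.unusedSectionVars false
set_option linter.unusedVariables false
universe u
open CategoryTheory CategoryTheory.Limits AlgebraicGeometry TopologicalSpace Opposite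
open Groth.Agent.LD.QC Groth.Agent.H6 Groth.Agent.H6.Sym Groth.Agent.H4.PBundle Groth.Agent.H4.PBLoc2
open scoped HomogeneousIdeal

namespace Groth.Agent.H4.PE
noncomputable section

/-! ## the degree one part of a quasi-coherent graded algebra, as a quasi-coherent module -/

section Deg1
variable {Y : Scheme.{u}} (𝒮 : RelProj.QCGrAlg Y)

def dOne : Y.Modules := kernel (𝟙 𝒮.toModule - proj1 𝒮)

def dOneι : dOne 𝒮 ⟶ 𝒮.toModule := kernel.ι _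

instance : Mono (dOneι 𝒮) :=
  inferInstanceAs (Mono (equalizer.ι (𝟙 𝒮.toModule - proj1 𝒮) 0))

lemma dOne_qc : (dOne 𝒮).IsQuasicoherent :=
  qc_kernel _ (QA.toModule_qc 𝒮.toQCAlg) (QA.toModule_qc 𝒮.toQCAlg)

lemma dOneι_mem (U : Y.Opens) (hU : IsAffineOpen U) (x : Γ(dOne 𝒮, U)) :
    ((dOneι 𝒮).app U) x ∈ 𝒮.deg U hU 1 := by
  have h0 : (𝟙 𝒮.toModule - proj1 𝒮).app U ((dOneι 𝒮).app U x) = 0 :=
    (mem_range_kernel_ι_iff (𝟙 𝒮.toModule - proj1 𝒮) U _).mp ⟨x, rfl⟩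
  have h1 : (dOneι 𝒮).app U x = (proj1 𝒮).app U ((dOneι 𝒮).app U x) := by
    have : (dOneι 𝒮).app U x - (proj1 𝒮).app U ((dOneι 𝒮).app U x) = 0 := h0
    exact sub_eq_zero.mp this
  have := proj1_mem 𝒮 U hU ((dOneι 𝒮).app U x)
  rwa [← h1] at this

lemma dOneι_surj (U : Y.Opens) (hU : IsAffineOpen U) (s : 𝒮.presheaf.obj (op U))
    (hs : s ∈ 𝒮.deg U hU 1) : ∃ x : Γ(dOne 𝒮, U), ((dOneι 𝒮).app U) x = s := by
  have h1 : (proj1 𝒮).app U (QA.ofRing 𝒮.toQCAlg U s) = QA.ofRing 𝒮.toQCAlg U s := by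
    have h := proj1_app 𝒮 U hU (QA.ofRing 𝒮.toQCAlg U s)
    exact h.trans (p1_of_mem 𝒮 U hU hs)
  exact (mem_range_kernel_ι_iff (𝟙 𝒮.toModule - proj1 𝒮) U (QA.ofRing 𝒮.toQCAlg U s)).mpr (by
    show QA.ofRing 𝒮.toQCAlg U s - (proj1 𝒮).app U (QA.ofRing 𝒮.toQCAlg U s) = 0
    rw [h1, sub_self])

lemma dOne_ft (hft : 𝒮.IsFTDeg 1) : (dOne 𝒮).IsFiniteType := by
  haveI := dOne_qc 𝒮
  rw [isFiniteType_iff_finite_sections]
  intro U hU
  obtain ⟨T, hTsub, hspan⟩ := hft U hU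
  classical
  let v : {t // t ∈ T} → Γ(dOne 𝒮, U) :=
    fun t => Classical.choose (dOneι_surj 𝒮 U hU t.1 (hTsub t.2))
  have hv : ∀ t : {t // t ∈ T}, QA.sec (dOneι 𝒮) U (v t) = t.1 :=
    fun t => Classical.choose_spec (dOneι_surj 𝒮 U hU t.1 (hTsub t.2))
  refine Module.Finite.of_surjective (Fintype.linearCombination Γ(Y, U) v) ?_
  intro x
  obtain ⟨c, hc⟩ := hspan (QA.sec (dOneι 𝒮) U x) (dOneι_mem 𝒮 U hU x)
  refine ⟨fun t => c t.1, ?_⟩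
  apply mono_app (dOneι 𝒮) U
  show QA.sec (dOneι 𝒮) U _ = QA.sec (dOneι 𝒮) U x
  rw [hc, Fintype.linearCombination_apply]
  have hsum : ∀ (s : Finset {t // t ∈ T}),
      QA.sec (dOneι 𝒮) U (∑ t ∈ s, c t.1 • v t) =
        ∑ t ∈ s, (𝒮.str.app (op U)).hom (c t.1) * t.1 := by
    intro s
    induction s using Finset.induction_on with
    | empty => simp [QA.sec_zero]
    | insert a s ha ih =>
      rw [Finset.sum_insert ha, Finset.sum_insert ha, QA.sec_add, QA.sec_smul, hv, ih]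
  rw [hsum]
  exact (Finset.sum_coe_sort T (fun t => (𝒮.str.app (op U)).hom (c t) * t))

end Deg1

/-! ## projective ⇒ closed subscheme of a projective bundle of a finite type module -/

section Main1

theorem exists_bundle_of_isProjective {X Y : Scheme.{u}} (f : X ⟶ Y)
    (hf : RelProj.IsProjective f) :
    ∃ (E : Y.Modules) (𝒯 : RelProj.QCGrAlg Y) (j : E ⟶ 𝒯.toModule) (P : Scheme.{u}) (p : P ⟶ Y)
      (chart : ∀ (U : Y.Opens) (hU : IsAffineOpen U),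
        ((p ⁻¹ᵁ U : P.Opens) : Scheme.{u}) ≅ Proj (𝒯.deg U hU))
      (i : X ⟶ P),
      Coh.IsQCoh E ∧ CohB1.IsFT E ∧ RelProj.IsGrSymAlg E 𝒯 j ∧ RelProj.IsRelProj 𝒯 p chart ∧
        IsClosedImmersion i ∧ i ≫ p = f := by
  obtain ⟨𝒮, P, p, chart, e, h𝒮, hft, hP, hep⟩ := hf
  haveI hE : (dOne 𝒮).IsQuasicoherent := dOne_qc 𝒮
  have hu1 := dOneι_mem 𝒮
  have husurj := dOneι_surj 𝒮
  have hT : RelProj.IsGrSymAlg (dOne 𝒮) (symGrAlg (dOne 𝒮)) (symJ (dOne 𝒮)) := isGrSymAlg (dOne 𝒮)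
  have hubar : RelProj.IsGradedHom (𝒜 := symGrAlg (dOne 𝒮)) (ℬ := 𝒮)
      (symLift (dOne 𝒮) 𝒮.toQCAlg (dOneι 𝒮)) := symLift_graded (dOne 𝒮) 𝒮 (dOneι 𝒮) hu1
  have hju : symJ (dOne 𝒮) ≫ RelSpec.QCAlg.Hom.toModuleMap
      (symLift (dOne 𝒮) 𝒮.toQCAlg (dOneι 𝒮)) = dOneι 𝒮 := symJ_symLift (dOne 𝒮) 𝒮.toQCAlg (dOneι 𝒮)
  have hirr := symLift_irr (dOne 𝒮) 𝒮 h𝒮 (dOneι 𝒮) hu1 husurj
  obtain ⟨PT, pT, chartT, hPT⟩ := Groth.Agent.S8258.result (symGrAlg (dOne 𝒮))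
  obtain ⟨⟨h, hh, -⟩, hover⟩ := Groth.Agent.S8262.result (𝒜 := symGrAlg (dOne 𝒮)) (ℬ := 𝒮)
    (symLift (dOne 𝒮) 𝒮.toQCAlg (dOneι 𝒮)) hubar hirr pT p chartT chart hPT hP
  haveI hci : IsClosedImmersion h :=
    Groth.Agent.S8292.result 𝒮 (symGrAlg (dOne 𝒮)) h𝒮 (dOne 𝒮) hE (dOneι 𝒮) hu1 husurj
      (symJ (dOne 𝒮)) hT (symLift (dOne 𝒮) 𝒮.toQCAlg (dOneι 𝒮)) hubar hju hirr pT p chartT chart
      hPT hP h hh
  refine ⟨dOne 𝒮, symGrAlg (dOne 𝒮), symJ (dOne 𝒮), PT, pT, chartT, e.hom ≫ h, hE, dOne_ft 𝒮 hft,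
    hT, hPT, inferInstance, ?_⟩
  rw [Category.assoc, hover h hh, hep]

end Main1

/-! ## closed subschemes of a projective bundle of a finite type module are projective -/

section Main2
variable {Y : Scheme.{u}} {E : Y.Modules} [E.IsQuasicoherent] {𝒯 : RelProj.QCGrAlg Y}
  {j : E ⟶ 𝒯.toModule}

theorem genDegOne_of_isGrSymAlg (hj : RelProj.IsGrSymAlg E 𝒯 j) : 𝒯.IsGenDegOne := by
  intro U hU
  rw [eq_top_iff]
  intro x _
  classical
  rw [← DirectSum.sum_support_decompose (𝒯.deg U hU) x]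
  refine Subring.sum_mem _ fun n _ => ?_
  exact sym_induction hj U hU
    (fun _ a => a ∈ Subring.closure ((𝒯.deg U hU 0 : Set (𝒯.presheaf.obj (op U))) ∪
      (𝒯.deg U hU 1 : Set (𝒯.presheaf.obj (op U)))))
    (fun c => Subring.subset_closure (Or.inl (𝒯.str_mem U hU c)))
    (fun n a b ha hb => Subring.add_mem _ ha hb)
    (fun n e a ha => Subring.mul_mem _ (Subring.subset_closure (Or.inr (hj.2 U hU e))) ha)
    n _ (SetLike.coe_mem _)

theorem deg_one_eq_sec (hj : RelProj.IsGrSymAlg E 𝒯 j) (U : Y.Opens) (hU : IsAffineOpen U)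
    (x : 𝒯.presheaf.obj (op U)) (hx : x ∈ 𝒯.deg U hU 1) : ∃ m : Γ(E, U), x = QA.sec j U m := by
  have key := sym_induction hj U hU
    (fun n a => (n = 0 → ∃ c : Γ(Y, U), a = (𝒯.str.app (op U)).hom c) ∧
      (n = 1 → ∃ m : Γ(E, U), a = QA.sec j U m)) ?_ ?_ ?_ 1 x hx
  · exact key.2 rfl
  · intro c
    exact ⟨fun _ => ⟨c, rfl⟩, fun h => absurd h (by norm_num)⟩
  · rintro n a b ⟨ha0, ha1⟩ ⟨hb0, hb1⟩
    refine ⟨fun h => ?_, fun h => ?_⟩
    · obtain ⟨c, rfl⟩ := ha0 h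
      obtain ⟨c', rfl⟩ := hb0 h
      exact ⟨c + c', (map_add _ _ _).symm⟩
    · obtain ⟨m, rfl⟩ := ha1 h
      obtain ⟨m', rfl⟩ := hb1 h
      exact ⟨m + m', (QA.sec_add j U m m').symm⟩
  · rintro n e a ⟨ha0, -⟩
    refine ⟨fun h => absurd h (Nat.succ_ne_zero n), fun h => ?_⟩
    have hn : n = 0 := by omega
    obtain ⟨c, rfl⟩ := ha0 hn
    exact ⟨c • e, by rw [QA.sec_smul, mul_comm]⟩

theorem ftDeg_of_isGrSymAlg (hj : RelProj.IsGrSymAlg E 𝒯 j) (hft : E.IsFiniteType) :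
    𝒯.IsFTDeg 1 := by
  intro U hU
  haveI : Module.Finite Γ(Y, U) Γ(E, U) := finite_sections_of_isFiniteType E hft hU
  obtain ⟨G, hG⟩ := (Module.Finite.fg_top : (⊤ : Submodule Γ(Y, U) Γ(E, U)).FG)
  classical
  refine ⟨G.image (QA.sec j U), ?_, ?_⟩
  · intro t ht
    obtain ⟨g, -, rfl⟩ := Finset.mem_image.mp (Finset.mem_coe.mp ht)
    exact hj.2 U hU g
  · intro x hx
    obtain ⟨m, rfl⟩ := deg_one_eq_sec hj U hU x hx
    have hm : m ∈ Submodule.span Γ(Y, U) (G : Set Γ(E, U)) := by rw [hG]; trivial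
    obtain ⟨c, -, hc⟩ := Submodule.mem_span_finset.mp hm
    refine ⟨fun t => ∑ g ∈ G with QA.sec j U g = t, c g, ?_⟩
    have hsum : ∀ (s : Finset Γ(E, U)),
        QA.sec j U (∑ g ∈ s, c g • g) = ∑ g ∈ s, (𝒯.str.app (op U)).hom (c g) * QA.sec j U g := by
      intro s
      induction s using Finset.induction_on with
      | empty => simp [QA.sec_zero]
      | insert a s ha ih =>
        rw [Finset.sum_insert ha, Finset.sum_insert ha, QA.sec_add, QA.sec_smul, ih]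
    rw [← hc, hsum]
    symm
    apply Finset.sum_image'
    intro i _
    rw [map_sum, Finset.sum_mul]
    refine Finset.sum_congr rfl fun g hg => ?_
    rw [(Finset.mem_filter.mp hg).2]

theorem isProjective_of_bundle {X P : Scheme.{u}} (f : X ⟶ Y) (p : P ⟶ Y)
    (chart : ∀ (U : Y.Opens) (hU : IsAffineOpen U),
      ((p ⁻¹ᵁ U : P.Opens) : Scheme.{u}) ≅ Proj (𝒯.deg U hU))
    (i : X ⟶ P) (hft : CohB1.IsFT E) (hj : RelProj.IsGrSymAlg E 𝒯 j)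
    (hP : RelProj.IsRelProj 𝒯 p chart) [IsClosedImmersion i] (hi : i ≫ p = f) :
    RelProj.IsProjective f := by
  have := Groth.Agent.H4.ClIm7.closed_isProjective 𝒯 (genDegOne_of_isGrSymAlg hj)
    (ftDeg_of_isGrSymAlg hj hft) p chart hP i
  rwa [hi] at this

end Main2

end

end Groth.Agent.H4.PE
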