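import Mathlib
import Groth.Agent.H4.ClIm7
import Groth.Agent.H4.FTImm4
import Groth.Agent.H4.PE
import Groth.Agent.S8284
import Groth.Agent.S8259
import Groth.Agent.Lib.Helper8.RelTwist.PullTwist

set_option autoImplicit false
set_option linter.style.haveILetI false
set_option linter.unusedSectionVars false
set_option linter.unusedVariables false
universe u
open CategoryTheory CategoryTheory.Limits AlgebraicGeometry TopologicalSpace Opposite
open Groth.Agent.H4.ClIm1 Groth.Agent.H4.ClIm3 Groth.Agent.H4.ClIm4 Groth.Agent.H4.ClIm6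
open Groth.Agent.H4.ClIm7
open scoped HomogeneousIdeal

namespace Groth.Agent.H4.ClIm8
noncomputable section

/-- A closed subscheme of the relative Proj of a quasi-coherent graded algebra generated in degree one
with finite type degree-one part is the relative Proj of a graded quotient; full data. -/
theorem closed_exists {Y P Z : Scheme.{u}} (𝒮 : RelProj.QCGrAlg Y) (hgen : 𝒮.IsGenDegOne)
    (hft : 𝒮.IsFTDeg 1) (p : P ⟶ Y)
    (chart : ∀ (U : Y.Opens) (hU : IsAffineOpen U),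
      (((p ⁻¹ᵁ U : P.Opens) : Scheme.{u}) ≅ Proj (𝒮.deg U hU)))
    (hP : RelProj.IsRelProj 𝒮 p chart) (i : Z ⟶ P) [IsClosedImmersion i] :
    ∃ (ℬ : RelProj.QCGrAlg Y) (φ : 𝒮.toQCAlg ⟶ ℬ.toQCAlg) (hφ : RelProj.IsGradedHom φ)
      (hirr : ∀ (U : Y.Opens) (hU : IsAffineOpen U),
        (ℬ.deg U hU)₊ ≤ ((𝒮.deg U hU)₊).map (RelProj.gradedHomAt φ hφ U hU))
      (PB : Scheme.{u}) (pB : PB ⟶ Y)
      (chartB : ∀ (U : Y.Opens) (hU : IsAffineOpen U),
        (((pB ⁻¹ᵁ U : PB.Opens) : Scheme.{u}) ≅ Proj (ℬ.deg U hU)))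
      (h : PB ⟶ P) (e : Z ≅ PB),
      ℬ.IsGenDegOne ∧ ℬ.IsFTDeg 1 ∧
        (∀ (U : Y.Opens), IsAffineOpen U → Function.Surjective (φ.hom.app (op U)).hom) ∧
        RelProj.IsRelProj ℬ pB chartB ∧ RelProj.IsRelProjMap φ hφ hirr chart chartB h ∧
        IsClosedImmersion h ∧ e.hom ≫ h = i ∧ h ≫ p = pB := by
  obtain ⟨PB, pB, chartB, hB⟩ := Groth.Agent.S8258.result (Bq i.ker hP hft)
  obtain ⟨⟨h, hh, -⟩, hover⟩ := Groth.Agent.S8262.result (qHomB i.ker hP hft)
    (isGradedHom_qHomB i.ker hP hft) (Bq_hirr i.ker hP hft) p pB chart chartB hP hB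
  haveI hci : IsClosedImmersion h := Groth.Agent.S8263.result (qHomB i.ker hP hft)
    (isGradedHom_qHomB i.ker hP hft) (qHomB_surjective i.ker hP hft) (Bq_hirr i.ker hP hft)
    p pB chart chartB hP hB h hh
  have hov := hover h hh
  have hker : h.ker = i.ker := by
    haveI : ∀ a : (Σ U : {U : Y.Opens // IsAffineOpen U}, {t : 𝒮.presheaf.obj (op U.1) // t ∈ 𝒮.deg U.1 U.2 1}),
        IsOpenImmersion (jc chart a.1.1 a.1.2 one_pos a.2.1 a.2.2) := fun a => inferInstance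
    refine ideal_ext_of_charts h.ker i.ker
      (ι := Σ U : {U : Y.Opens // IsAffineOpen U}, {t : 𝒮.presheaf.obj (op U.1) // t ∈ 𝒮.deg U.1 U.2 1})
      (fun a => CommRingCat.of (HomogeneousLocalization.Away (𝒮.deg a.1.1 a.1.2) a.2.1))
      (fun a => jc chart a.1.1 a.1.2 one_pos a.2.1 a.2.2) ?_ ?_
    · intro z
      obtain ⟨U, hU, hzU, -⟩ :=
        exists_isAffineOpen_mem_and_subset (x := p.base z) (U := ⊤) trivial
      obtain ⟨t, ht, hzt⟩ := exists_chart_deg_one chart hgen hft z U hU hzU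
      exact ⟨⟨⟨U, hU⟩, ⟨t, ht⟩⟩, hzt⟩
    · intro a
      show J chart h.ker a.1.1 a.1.2 one_pos a.2.1 a.2.2 =
        J chart i.ker a.1.1 a.1.2 one_pos a.2.1 a.2.2
      rw [cI_ker_chart (qHomB i.ker hP hft) (isGradedHom_qHomB i.ker hP hft)
        (Bq_hirr i.ker hP hft) h hh hov]
      exact ker_awayMap_eq i.ker hft a.1.1 a.1.2 ((Bq i.ker hP hft).deg a.1.1 a.1.2)
        (RelProj.gradedHomAt (qHomB i.ker hP hft) (isGradedHom_qHomB i.ker hP hft) a.1.1 a.1.2)
        (fun x => ψq_eq_zero_iff i.ker hP hft a.1.1 a.1.2 x) a.2.1 a.2.2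
  haveI := IsClosedImmersion.isIso_lift h i hker
  exact ⟨Bq i.ker hP hft, qHomB i.ker hP hft, isGradedHom_qHomB i.ker hP hft,
    Bq_hirr i.ker hP hft, PB, pB, chartB, h, asIso (IsClosedImmersion.lift h i hker.le),
    Bq_genDegOne i.ker hP hft hgen, Bq_ftDeg i.ker hP hft, qHomB_surjective i.ker hP hft, hB, hh,
    hci, IsClosedImmersion.lift_fac h i hker.le, hov⟩

/-- **EGA II 4.4.7 / 5.3**: a very ample module on a finite type scheme over a qcqs base comes from a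
dense open immersion into the Proj of an algebra generated by its finite type degree one part. -/
theorem open_dense_of_veryAmple {X Y : Scheme.{u}} [CompactSpace Y] [QuasiSeparatedSpace Y]
    (q : X ⟶ Y) [QuasiCompact q] [LocallyOfFiniteType q]
    (L : X.Modules) (hL : PicF.IsInvertible L) (h : RelProj.IsRelVeryAmple q L) :
    ∃ (𝒮 : RelProj.QCGrAlg Y) (P : Scheme.{u}) (p : P ⟶ Y)
      (chart : ∀ (U : Y.Opens) (hU : IsAffineOpen U),
        ((p ⁻¹ᵁ U : P.Opens) : Scheme.{u}) ≅ Proj (𝒮.deg U hU))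
      (O1 : P.Modules)
      (lam : ∀ (U : Y.Opens) (hU : IsAffineOpen U),
        O1 ⟶ (Scheme.Modules.pushforward (RelProj.emb p chart U hU)).obj
          (GrTwist.twist (𝒮.deg U hU) 1))
      (i : X ⟶ P),
      𝒮.IsGenDegOne ∧ 𝒮.IsFTDeg 1 ∧ RelProj.IsRelProj 𝒮 p chart ∧
        RelProj.IsRelTwist 𝒮 p chart 1 O1 lam ∧
        IsOpenImmersion i ∧ Dense (Set.range i.base) ∧ i ≫ p = q ∧
        Nonempty (L ≅ (Scheme.Modules.pullback i).obj O1) := by
  obtain ⟨E, 𝒯, j, P₀, p₀, chart₀, O1₀, lam₀, i₀, hE, hEft, hj, hP₀, hO1₀, himm, hip, ⟨θ⟩⟩ :=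
    Groth.Agent.H4.FTImm4.main_qcqs q L hL h
  haveI := himm
  haveI : E.IsQuasicoherent := hE
  have hgen := Groth.Agent.H4.PE.genDegOne_of_isGrSymAlg hj
  have hft := Groth.Agent.H4.PE.ftDeg_of_isGrSymAlg hj hEft
  haveI : IsSeparated p₀ := Groth.Agent.S8259.result 𝒯 p₀ chart₀ hP₀
  haveI : QuasiCompact (i₀ ≫ p₀) := by rw [hip]; infer_instance
  haveI : QuasiCompact i₀ := QuasiCompact.of_comp i₀ p₀
  obtain ⟨ℬ, φ, hφ, hirr, PB, pB, chartB, hh, e, hBgen, hBft, hsurj, hB, hhh, hci, heh, hov⟩ :=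
    closed_exists 𝒯 hgen hft p₀ chart₀ hP₀ i₀.imageι
  obtain ⟨O1B, lamB, hO1B⟩ := Groth.Agent.S8284.result ℬ pB chartB hB 1
  obtain ⟨τ⟩ := Groth.Agent.H8.RelTwist.nonempty_pullback_iso hP₀ hB hhh hgen hO1₀ hO1B
  have hfac : (i₀.toImage ≫ e.hom) ≫ hh = i₀ := by
    rw [Category.assoc, heh, Scheme.Hom.toImage_imageι]
  refine ⟨ℬ, PB, pB, chartB, O1B, lamB, i₀.toImage ≫ e.hom, hBgen, hBft, hB, hO1B, inferInstance,
    ?_, ?_, ⟨?_⟩⟩
  · have h1 : DenseRange i₀.toImage.base := (inferInstance : IsDominant i₀.toImage).denseRange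
    have h2 : DenseRange e.hom.base := e.hom.surjective.denseRange
    have h3 := h2.comp h1 e.hom.continuous
    have h4 : (i₀.toImage ≫ e.hom).base = e.hom.base ∘ i₀.toImage.base := by
      ext x; rfl
    show DenseRange (i₀.toImage ≫ e.hom).base
    rw [h4]
    exact h3
  · rw [← hov, ← Category.assoc, hfac, hip]
  · exact θ ≪≫ eqToIso (congrArg (fun t => (Scheme.Modules.pullback t).obj O1₀) hfac.symm) ≪≫
      ((Scheme.Modules.pullbackComp (i₀.toImage ≫ e.hom) hh).app O1₀).symm ≪≫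
      (Scheme.Modules.pullback (i₀.toImage ≫ e.hom)).mapIso τ

end

end Groth.Agent.H4.ClIm8
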