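import Mathlib

/-!
# Helper library: connected components as intersections of clopens (helper4)
-/

namespace Groth.Agent.H4.Spec

open Topology TopologicalSpace Set

variable {X : Type*} [TopologicalSpace X]

/-- Stacks 04PL: in a quasi-compact space with a basis of quasi-compact opens stable under finite
intersection, connected components are intersections of clopen sets. -/
theorem connectedComponent_eq_sInter_isClopen [CompactSpace X] [PrespectralSpace X]
    [QuasiSeparatedSpace X] (x : X) :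
    connectedComponent x = ⋂₀ {Z : Set X | IsClopen Z ∧ x ∈ Z} := by
  set T : Set X := ⋂₀ {Z : Set X | IsClopen Z ∧ x ∈ Z} with hT
  have hxT : x ∈ T := mem_sInter.mpr fun Z hZ => hZ.2
  apply Subset.antisymm
  · intro y hy
    rw [hT, mem_sInter]
    intro Z hZ
    exact hZ.1.connectedComponent_subset hZ.2 hy
  refine IsPreconnected.subset_connectedComponent ?_ hxT
  have hTcl : IsClosed T := isClosed_sInter fun Z hZ => hZ.1.1
  rw [isPreconnected_iff_subset_of_fully_disjoint_closed hTcl]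
  intro a b ha hb hab hdisj
  -- compact pieces
  have hB : IsCompact (T ∩ a) := (hTcl.inter ha).isCompact
  have hC : IsCompact (T ∩ b) := (hTcl.inter hb).isCompact
  have hBb : T ∩ a ⊆ bᶜ := fun y hy hyb => Set.disjoint_left.mp hdisj hy.2 hyb
  have hCa : T ∩ b ⊆ aᶜ := fun y hy hya => Set.disjoint_left.mp hdisj hya hy.2
  obtain ⟨U, hUc, hUo, hBU, hUb⟩ :=
    PrespectralSpace.exists_isCompact_and_isOpen_between hB hb.isOpen_compl hBb
  obtain ⟨V, hVc, hVo, hCV, hVa⟩ :=
    PrespectralSpace.exists_isCompact_and_isOpen_between hC ha.isOpen_compl hCa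
  have hTUV : T ⊆ U ∪ V := by
    intro y hy
    rcases hab hy with h | h
    · exact Or.inl (hBU ⟨hy, h⟩)
    · exact Or.inr (hCV ⟨hy, h⟩)
  have hTUV' : T ∩ (U ∩ V) = ∅ := by
    rw [Set.eq_empty_iff_forall_notMem]
    rintro y ⟨hy, hyU, hyV⟩
    rcases hab hy with h | h
    · exact hVa hyV h
    · exact hUb hyU h
  let ι := {Z : Set X // IsClopen Z ∧ x ∈ Z}
  have hTι : T = ⋂ i : ι, (i : Set X) := by
    rw [hT, sInter_eq_iInter]
    rfl
  -- first clopen: disjoint from U ∩ V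
  have hUVc : IsCompact (U ∩ V) := QuasiSeparatedSpace.inter_isCompact U V hUo hUc hVo hVc
  obtain ⟨u1, hu1⟩ := hUVc.elim_finite_subfamily_closed (fun i : ι => (i : Set X))
    (fun i => i.2.1.1) (by rw [← hTι, inter_comm]; exact hTUV')
  -- second clopen: inside U ∪ V
  have hcompl : IsCompact (U ∪ V)ᶜ := (hUo.union hVo).isClosed_compl.isCompact
  obtain ⟨u2, hu2⟩ := hcompl.elim_finite_subfamily_closed (fun i : ι => (i : Set X))
    (fun i => i.2.1.1) (by
      rw [← hTι, Set.eq_empty_iff_forall_notMem]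
      rintro y ⟨hy1, hy2⟩
      exact hy1 (hTUV hy2))
  set Z : Set X := (⋂ i ∈ u1, (i : Set X)) ∩ (⋂ i ∈ u2, (i : Set X)) with hZ
  have hZclopen : IsClopen Z :=
    (isClopen_biInter_finset fun i _ => i.2.1).inter (isClopen_biInter_finset fun i _ => i.2.1)
  have hxZ : x ∈ Z := ⟨mem_iInter₂.mpr fun i _ => i.2.2, mem_iInter₂.mpr fun i _ => i.2.2⟩
  have hZUV : Z ⊆ U ∪ V := by
    intro y hy
    by_contra hcon
    have : y ∈ (U ∪ V)ᶜ ∩ ⋂ i ∈ u2, (i : Set X) := ⟨hcon, hy.2⟩
    rw [hu2] at this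
    exact this
  have hZUV' : Disjoint (Z ∩ U) V := by
    rw [Set.disjoint_left]
    rintro y ⟨hyZ, hyU⟩ hyV
    have : y ∈ (U ∩ V) ∩ ⋂ i ∈ u1, (i : Set X) := ⟨⟨hyU, hyV⟩, hyZ.1⟩
    rw [hu1] at this
    exact this
  have hZU : IsClopen (Z ∩ U) := by
    refine ⟨?_, hZclopen.2.inter hUo⟩
    have : Z ∩ U = Z ∩ Vᶜ := by
      ext y
      constructor
      · rintro ⟨hyZ, hyU⟩
        exact ⟨hyZ, fun hyV => Set.disjoint_left.mp hZUV' ⟨hyZ, hyU⟩ hyV⟩
      · rintro ⟨hyZ, hyV⟩
        exact ⟨hyZ, (hZUV hyZ).resolve_right hyV⟩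
    rw [this]
    exact hZclopen.1.inter hVo.isClosed_compl
  have hZV : IsClopen (Z ∩ V) := by
    refine ⟨?_, hZclopen.2.inter hVo⟩
    have : Z ∩ V = Z ∩ Uᶜ := by
      ext y
      constructor
      · rintro ⟨hyZ, hyV⟩
        exact ⟨hyZ, fun hyU => Set.disjoint_left.mp hZUV' ⟨hyZ, hyU⟩ hyV⟩
      · rintro ⟨hyZ, hyU⟩
        exact ⟨hyZ, (hZUV hyZ).resolve_left hyU⟩
    rw [this]
    exact hZclopen.1.inter hUo.isClosed_compl
  rcases hZUV hxZ with hxU | hxV
  · left
    have hTsub : T ⊆ Z ∩ U := sInter_subset_of_mem (show Z ∩ U ∈ {Z : Set X | IsClopen Z ∧ x ∈ Z} from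
      ⟨hZU, hxZ, hxU⟩)
    intro y hy
    rcases hab hy with h | h
    · exact h
    · exact absurd h (hUb (hTsub hy).2)
  · right
    have hTsub : T ⊆ Z ∩ V := sInter_subset_of_mem (show Z ∩ V ∈ {Z : Set X | IsClopen Z ∧ x ∈ Z} from
      ⟨hZV, hxZ, hxV⟩)
    intro y hy
    rcases hab hy with h | h
    · exact absurd h (hVa (hTsub hy).2)
    · exact h

end Groth.Agent.H4.Spec
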