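import Mathlib

set_option autoImplicit false
set_option linter.unusedSectionVars false
universe u
open MeasureTheory

namespace Groth.Agent.H4.CocycDev

section General

variable {Z : Type*} [TopologicalSpace Z] [CompactSpace Z] [MeasurableSpace Z]

theorem measurable_of_adjoin (S : Set C(Z, ℝ)) (hS : ∀ f ∈ S, Measurable f)
    (hsep : ∀ x y : Z, x ≠ y → ∃ f ∈ S, f x ≠ f y) (f : C(Z, ℝ)) : Measurable f := by
  classical
  have hAm : ∀ g ∈ Algebra.adjoin ℝ S, Measurable g := by
    intro g hg
    refine Algebra.adjoin_induction (p := fun (g : C(Z, ℝ)) _ => Measurable (g : Z → ℝ)) ?_ ?_ ?_ ?_ hg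
    · intro x hx
      exact hS x hx
    · intro r
      have : ⇑(algebraMap ℝ C(Z, ℝ) r) = fun _ => r := by
        funext z; simp
      rw [this]; exact measurable_const
    · intro x y _ _ hx hy
      rw [ContinuousMap.coe_add]; exact hx.add hy
    · intro x y _ _ hx hy
      rw [ContinuousMap.coe_mul]; exact hx.mul hy
  have hsepA : (Algebra.adjoin ℝ S).SeparatesPoints := by
    intro x y hxy
    obtain ⟨g, hg, hne⟩ := hsep x y hxy
    exact ⟨g, ⟨g, Algebra.subset_adjoin hg, rfl⟩, hne⟩
  have htop := ContinuousMap.subalgebra_topologicalClosure_eq_top_of_separatesPoints _ hsepA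
  have hfmem : f ∈ closure ((Algebra.adjoin ℝ S : Subalgebra ℝ C(Z, ℝ)) : Set C(Z, ℝ)) := by
    have : f ∈ (Algebra.adjoin ℝ S).topologicalClosure := by rw [htop]; exact Algebra.mem_top
    exact this
  obtain ⟨x, hxA, hx⟩ := mem_closure_iff_seq_limit.1 hfmem
  refine measurable_of_tendsto_metrizable (f := fun n => ⇑(x n)) (fun n => hAm _ (hxA n)) ?_
  rw [tendsto_pi_nhds]
  intro z
  exact ((continuous_eval_const (F := C(Z, ℝ)) z).tendsto f).comp hx

theorem integrable_of_continuous (ν : Measure Z) [IsFiniteMeasure ν] (f : Z → ℝ)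
    (hc : Continuous f) (hm : Measurable f) : Integrable f ν := by
  obtain ⟨C, hC⟩ := isCompact_univ.exists_bound_of_continuousOn hc.continuousOn
  exact Integrable.of_bound hm.aestronglyMeasurable C
    (Filter.Eventually.of_forall fun z => hC z (Set.mem_univ z))

theorem continuous_integral_C (ν : Measure Z) [IsProbabilityMeasure ν]
    (hmeas : ∀ f : Z → ℝ, Continuous f → Measurable f) :
    Continuous (fun h : C(Z, ℝ) => ∫ z, h z ∂ν) := by
  refine LipschitzWith.continuous (K := 1) (LipschitzWith.mk_one fun h h' => ?_)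
  have i1 : Integrable (fun z => h z) ν :=
    integrable_of_continuous ν _ h.continuous (hmeas _ h.continuous)
  have i2 : Integrable (fun z => h' z) ν :=
    integrable_of_continuous ν _ h'.continuous (hmeas _ h'.continuous)
  rw [Real.dist_eq, ← integral_sub i1 i2, ← Real.norm_eq_abs]
  have := norm_integral_le_of_norm_le_const (μ := ν) (f := fun z => h z - h' z) (C := dist h h')
    (Filter.Eventually.of_forall fun z => by
      rw [← dist_eq_norm]; exact ContinuousMap.dist_apply_le_dist z)
  simpa using this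

variable {G : Type u} [TopologicalSpace G] [CompactSpace G] [T2Space G] [MeasurableSpace G]
  [BorelSpace G]

theorem measurable_of_separating {κ : Type*} (p : κ → Z → G) (hpc : ∀ k, Continuous (p k))
    (hpm : ∀ k, Measurable (p k)) (hsep : ∀ x y : Z, x ≠ y → ∃ k, p k x ≠ p k y)
    (f : Z → ℝ) (hf : Continuous f) : Measurable f := by
  let S : Set C(Z, ℝ) := {F | ∃ (k : κ) (h : C(G, ℝ)), F = h.comp ⟨p k, hpc k⟩}
  have hS : ∀ F ∈ S, Measurable F := by
    rintro F ⟨k, h, rfl⟩
    exact h.continuous.measurable.comp (hpm k)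
  have hsepS : ∀ x y : Z, x ≠ y → ∃ F ∈ S, F x ≠ F y := by
    intro x y hxy
    obtain ⟨k, hk⟩ := hsep x y hxy
    obtain ⟨h, h0, h1, -⟩ := exists_continuous_zero_one_of_isClosed
      (isClosed_singleton (x := p k x)) (isClosed_singleton (x := p k y))
      (Set.disjoint_singleton.2 hk)
    refine ⟨h.comp ⟨p k, hpc k⟩, ⟨k, h, rfl⟩, ?_⟩
    have e0 : h (p k x) = 0 := h0 (Set.mem_singleton _)
    have e1 : h (p k y) = 1 := h1 (Set.mem_singleton _)
    simp [e0, e1]
  exact measurable_of_adjoin S hS hsepS ⟨f, hf⟩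

theorem meas_pi {m : ℕ} (f : (Fin m → G) → ℝ) (hf : Continuous f) : Measurable f :=
  measurable_of_separating (κ := Fin m) (fun i z => z i) (fun i => continuous_apply i)
    (fun i => measurable_pi_apply i) (fun (x y : Fin m → G) hxy => Function.ne_iff.1 hxy) f hf

theorem meas_prod {m : ℕ} (f : G × (Fin m → G) → ℝ) (hf : Continuous f) : Measurable f := by
  refine measurable_of_separating (κ := Option (Fin m))
    (fun k z => k.elim z.1 (fun i => z.2 i)) ?_ ?_ ?_ f hf
  · rintro (_ | i)
    · exact continuous_fst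
    · exact (continuous_apply i).comp continuous_snd
  · rintro (_ | i)
    · exact measurable_fst
    · exact (measurable_pi_apply i).comp measurable_snd
  · intro x y hxy
    by_contra hcon
    have hcon' := not_exists.1 hcon
    apply hxy
    exact Prod.ext (not_not.1 (hcon' none)) (funext fun i => not_not.1 (hcon' (some i)))

end General

section Main

variable {G : Type u} [AddCommGroup G] [TopologicalSpace G] [IsTopologicalAddGroup G]
  [CompactSpace G] [T2Space G] [MeasurableSpace G] [BorelSpace G] (μ : Measure G)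
  [μ.IsAddHaarMeasure] [IsProbabilityMeasure μ] {m : ℕ} (ψ : (Fin (m + 1) → G) → ℝ)

def Cocycle (ψ : (Fin (m + 1) → G) → ℝ) : Prop :=
  ∀ (i j : Fin (m + 1)), i ≠ j → ∀ (x : Fin (m + 1) → G) (a b c : G),
    ψ (Function.update (Function.update x i (a + b)) j c) +
        ψ (Function.update (Function.update x i a) j b) =
      ψ (Function.update (Function.update x i a) j (b + c)) +
        ψ (Function.update (Function.update x i b) j c)

def pt (g : G) (y : Fin m → G) (C : Finset (Fin m)) (w : Fin m → G) : Fin (m + 1) → G :=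
  Fin.cons g (fun i => if i ∈ C then y i else w i)

theorem continuous_cons :
    Continuous (fun p : G × (Fin m → G) => (Fin.cons p.1 p.2 : Fin (m + 1) → G)) :=
  Continuous.finCons continuous_fst continuous_snd

theorem continuous_cons_right (g : G) :
    Continuous (fun w : Fin m → G => (Fin.cons g w : Fin (m + 1) → G)) :=
  Continuous.finCons continuous_const continuous_id

theorem continuous_pt (g : G) (y : Fin m → G) (C : Finset (Fin m)) : Continuous (pt g y C) := by
  unfold pt
  refine Continuous.finCons continuous_const (continuous_pi fun i => ?_)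
  by_cases h : i ∈ C
  · simp only [h, if_true]; exact continuous_const
  · simp only [h, if_false]; exact continuous_apply i

theorem integrable_pi (f : (Fin m → G) → ℝ) (hf : Continuous f) :
    Integrable f (Measure.pi (fun _ : Fin m => μ)) :=
  integrable_of_continuous _ f hf (meas_pi f hf)

theorem pt_eq1 (g a : G) (y : Fin m → G) (C : Finset (Fin m)) (w : Fin m → G) (j : Fin m)
    (hj : j ∉ C) :
    Function.update (Function.update (pt g y C w) 0 a) j.succ (w j) = pt a y C w := by
  unfold pt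
  rw [Fin.update_cons_zero, ← Fin.cons_update]
  congr 1
  funext i
  by_cases h : i = j
  · subst h; simp [hj]
  · simp [Function.update_of_ne h]

theorem pt_eq2 (g : G) (y : Fin m → G) (C : Finset (Fin m)) (w : Fin m → G) (j : Fin m) :
    Function.update (Function.update (pt g y C w) 0 g) j.succ (y j) = pt g y (insert j C) w := by
  unfold pt
  rw [Fin.update_cons_zero, ← Fin.cons_update]
  congr 1
  funext i
  by_cases h : i = j
  · subst h; simp
  · simp [Function.update_of_ne h, h]

theorem pt_eq3 (g : G) (y : Fin m → G) (C : Finset (Fin m)) (w : Fin m → G) (j : Fin m)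
    (hj : j ∉ C) :
    Function.update (Function.update (pt g y C w) 0 g) j.succ (y j + w j) =
      pt g y C (w + Pi.single j (y j)) := by
  unfold pt
  rw [Fin.update_cons_zero, ← Fin.cons_update]
  congr 1
  funext i
  by_cases h : i = j
  · subst h; simp [hj, add_comm]
  · simp [Function.update_of_ne h, Pi.single_eq_of_ne h]

noncomputable def F (C : Finset (Fin m)) (g : G) (y : Fin m → G) : ℝ :=
  ∫ w, ψ (pt g y C w) ∂(Measure.pi (fun _ : Fin m => μ))

theorem F_insert (hψc : Continuous ψ) (hψ : Cocycle ψ) (C : Finset (Fin m)) (j : Fin m)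
    (hj : j ∉ C) (g : G) (y : Fin m → G) :
    F μ ψ (insert j C) g y = F μ ψ C g y + F μ ψ C (y j) y - F μ ψ C (g + y j) y := by
  have hpt : ∀ w : Fin m → G, ψ (pt (g + y j) y C w) + ψ (pt g y (insert j C) w) =
      ψ (pt g y C (w + Pi.single j (y j))) + ψ (pt (y j) y C w) := by
    intro w
    have h := hψ 0 j.succ (Fin.succ_ne_zero j).symm (pt g y C w) g (y j) (w j)
    rw [pt_eq1 g (g + y j) y C w j hj, pt_eq2 g y C w j, pt_eq3 g y C w j hj,
      pt_eq1 g (y j) y C w j hj] at h
    exact h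
  have hint : ∀ (g' : G) (C' : Finset (Fin m)),
      Integrable (fun w => ψ (pt g' y C' w)) (Measure.pi fun _ : Fin m => μ) :=
    fun g' C' => integrable_pi μ _ (hψc.comp (continuous_pt g' y C'))
  have h3 : Integrable (fun w => ψ (pt g y C (w + Pi.single j (y j))))
      (Measure.pi fun _ : Fin m => μ) :=
    integrable_pi μ _ (hψc.comp ((continuous_pt g y C).comp (continuous_add_right _)))
  have e : ∫ w, (ψ (pt (g + y j) y C w) + ψ (pt g y (insert j C) w))
        ∂(Measure.pi fun _ : Fin m => μ) =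
      ∫ w, (ψ (pt g y C (w + Pi.single j (y j))) + ψ (pt (y j) y C w))
        ∂(Measure.pi fun _ : Fin m => μ) :=
    integral_congr_ae (Filter.Eventually.of_forall hpt)
  rw [integral_add (hint _ _) (hint _ _), integral_add h3 (hint _ _),
    integral_add_right_eq_self (fun w => ψ (pt g y C w)) (Pi.single j (y j))] at e
  unfold F
  linarith

noncomputable def phi (g : G) : ℝ :=
  (-1 : ℝ) ^ m * ∫ w, ψ (Fin.cons g w) ∂(Measure.pi (fun _ : Fin m => μ))

def cf (m k : ℕ) : ℝ := (-1 : ℝ) ^ (m + 1 + k)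

noncomputable def t1 (I : Finset (Fin m)) (y : Fin m → G) : ℝ :=
  if I = ∅ then 0 else cf m I.card * phi μ ψ (∑ i ∈ I, y i)

noncomputable def t2 (I : Finset (Fin m)) (g : G) (y : Fin m → G) : ℝ :=
  cf m (I.card + 1) * phi μ ψ (g + ∑ i ∈ I, y i)

theorem negpow_sq (m : ℕ) : (-1 : ℝ) ^ m * (-1 : ℝ) ^ m = 1 := by
  rw [← mul_pow]; norm_num

theorem t_insert (I : Finset (Fin m)) (j : Fin m) (hjI : j ∉ I) (g : G) (y : Fin m → G) :
    t2 μ ψ I (y j) y - t2 μ ψ I (g + y j) y =
      t1 μ ψ (insert j I) y + t2 μ ψ (insert j I) g y := by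
  unfold t1 t2 cf
  rw [if_neg (Finset.insert_ne_empty j I), Finset.card_insert_of_notMem hjI,
    Finset.sum_insert hjI, add_assoc g]
  have : (-1 : ℝ) ^ (m + 1 + (I.card + 1 + 1)) = - (-1 : ℝ) ^ (m + 1 + (I.card + 1)) := by
    rw [← add_assoc (m + 1) (I.card + 1) 1, pow_succ]; ring
  rw [this]; ring

theorem F_eq (hψc : Continuous ψ) (hψ : Cocycle ψ) (y : Fin m → G) (C : Finset (Fin m)) :
    ∀ g : G, F μ ψ C g y = ∑ I ∈ C.powerset, (t1 μ ψ I y + t2 μ ψ I g y) := by
  induction C using Finset.induction_on with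
  | empty =>
    intro g
    simp only [Finset.powerset_empty, Finset.sum_singleton]
    have hpt : ∀ w, pt g y ∅ w = Fin.cons g w := by
      intro w; unfold pt; simp
    have h3 : (-1 : ℝ) ^ (m + 1 + (0 + 1)) = (-1 : ℝ) ^ m := by
      rw [zero_add, pow_succ, pow_succ]; ring
    unfold F t1 t2 phi cf
    simp only [hpt, if_true, Finset.card_empty, Finset.sum_empty, add_zero, zero_add]
    rw [h3, ← mul_assoc, negpow_sq, one_mul]
  | insert j C hj ih =>
    intro g
    rw [F_insert μ ψ hψc hψ C j hj g y, ih g, ih (y j), ih (g + y j),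
      Finset.sum_powerset_insert hj, add_sub_assoc, ← Finset.sum_sub_distrib]
    congr 1
    refine Finset.sum_congr rfl (fun I hI => ?_)
    have hjI : j ∉ I := fun h => hj (Finset.mem_powerset.1 hI h)
    rw [← t_insert μ ψ I j hjI g y]; ring

theorem psi_eq (hψc : Continuous ψ) (hψ : Cocycle ψ) (g : G) (y : Fin m → G) :
    ψ (Fin.cons g y) =
      ∑ I ∈ (Finset.univ : Finset (Fin m)).powerset, (t1 μ ψ I y + t2 μ ψ I g y) := by
  rw [← F_eq μ ψ hψc hψ y Finset.univ g]
  unfold F
  have hpt : ∀ w, pt g y Finset.univ w = Fin.cons g y := by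
    intro w; unfold pt; simp
  simp only [hpt]
  simp [integral_const]

theorem sum_powerset_map {α β M : Type*} [AddCommMonoid M] (e : α ↪ β) (s : Finset α)
    (h : Finset β → M) :
    ∑ J ∈ (s.map e).powerset, h J = ∑ I ∈ s.powerset, h (I.map e) := by
  classical
  symm
  refine Finset.sum_nbij (fun I => I.map e) ?_ ?_ ?_ (fun _ _ => rfl)
  · intro I hI
    exact Finset.mem_powerset.2 (Finset.map_subset_map.2 (Finset.mem_powerset.1 hI))
  · exact (Finset.map_injective e).injOn
  · intro J hJ
    have hJ' : J ⊆ s.map e := Finset.mem_powerset.1 hJ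
    refine ⟨s.filter (fun a => e a ∈ J), ?_, ?_⟩
    · exact Finset.mem_coe.2 (Finset.mem_powerset.2 (Finset.filter_subset _ _))
    · ext b
      simp only [Finset.mem_map, Finset.mem_filter]
      constructor
      · rintro ⟨a, ⟨_, ha⟩, rfl⟩
        exact ha
      · intro hb
        obtain ⟨a, has, rfl⟩ := Finset.mem_map.1 (hJ' hb)
        exact ⟨a, ⟨has, hb⟩, rfl⟩

theorem sum_powerset_fin_succ {n : ℕ} {M : Type*} [AddCommMonoid M]
    (f : Finset (Fin (n + 1)) → M) :
    ∑ J ∈ (Finset.univ : Finset (Fin (n + 1))).powerset, f J =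
      ∑ I ∈ (Finset.univ : Finset (Fin n)).powerset,
        (f (I.map (Fin.succEmb n)) + f (insert 0 (I.map (Fin.succEmb n)))) := by
  have huniv : (Finset.univ : Finset (Fin (n + 1))) =
      insert 0 ((Finset.univ : Finset (Fin n)).map (Fin.succEmb n)) := by
    ext i
    simp only [Finset.mem_univ, Finset.mem_insert, Finset.mem_map, true_and, true_iff]
    rcases Fin.eq_zero_or_eq_succ i with h | ⟨k, h⟩
    · exact Or.inl h
    · exact Or.inr ⟨k, h.symm⟩
  have h0 : (0 : Fin (n + 1)) ∉ (Finset.univ : Finset (Fin n)).map (Fin.succEmb n) := by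
    simp [Fin.succ_ne_zero]
  rw [huniv, Finset.sum_powerset_insert h0, Finset.sum_add_distrib, sum_powerset_map,
    sum_powerset_map]

theorem part1 (hψc : Continuous ψ) (hψ : Cocycle ψ) (x : Fin (m + 1) → G) :
    ψ x = ∑ J ∈ ((Finset.univ : Finset (Fin (m + 1))).powerset.erase ∅),
      (-1 : ℝ) ^ (m + 1 + J.card) * ((-1 : ℝ) ^ m *
        ∫ w, ψ (Fin.cons (∑ i ∈ J, x i) w) ∂(Measure.pi (fun _ : Fin m => μ))) := by
  have hx : (Fin.cons (x 0) (fun i => x i.succ) : Fin (m + 1) → G) = x := Fin.cons_self_tail x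
  have h1 := psi_eq μ ψ hψc hψ (x 0) (fun i => x i.succ)
  rw [hx] at h1
  rw [h1]
  let T : Finset (Fin (m + 1)) → ℝ := fun J =>
    if J = ∅ then 0 else cf m J.card * phi μ ψ (∑ i ∈ J, x i)
  have hT : ∑ J ∈ ((Finset.univ : Finset (Fin (m + 1))).powerset.erase ∅),
      (-1 : ℝ) ^ (m + 1 + J.card) * ((-1 : ℝ) ^ m *
        ∫ w, ψ (Fin.cons (∑ i ∈ J, x i) w) ∂(Measure.pi (fun _ : Fin m => μ))) =
      ∑ J ∈ (Finset.univ : Finset (Fin (m + 1))).powerset, T J := by
    rw [← Finset.sum_erase (Finset.univ : Finset (Fin (m + 1))).powerset (f := T) (a := ∅)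
      (by simp [T])]
    refine Finset.sum_congr rfl (fun J hJ => ?_)
    have hne : J ≠ ∅ := (Finset.mem_erase.1 hJ).1
    simp only [T, if_neg hne]
    rfl
  rw [hT, sum_powerset_fin_succ]
  refine Finset.sum_congr rfl (fun I _ => ?_)
  congr 1
  · simp only [T, t1, Finset.map_eq_empty, Finset.card_map, Finset.sum_map, Fin.coe_succEmb]
  · have h0 : (0 : Fin (m + 1)) ∉ I.map (Fin.succEmb m) := by
      simp [Fin.succ_ne_zero]
    simp only [T, t2, if_neg (Finset.insert_ne_empty _ _), Finset.card_insert_of_notMem h0,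
      Finset.card_map, Finset.sum_insert h0, Finset.sum_map, Fin.coe_succEmb]

theorem part2 (hψc : Continuous ψ) :
    Continuous (fun g : G => (-1 : ℝ) ^ m *
      ∫ w, ψ (Fin.cons g w) ∂(Measure.pi (fun _ : Fin m => μ))) := by
  let ψ' : C(G × (Fin m → G), ℝ) :=
    ⟨fun p => ψ (Fin.cons p.1 p.2), hψc.comp continuous_cons⟩
  have h1 : Continuous (fun g : G => ψ'.curry g) := ψ'.curry.continuous
  have h2 := (continuous_integral_C (Measure.pi fun _ : Fin m => μ)
    (fun f hf => meas_pi f hf)).comp h1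
  refine continuous_const.mul (h2.congr (fun g => ?_))
  rfl

theorem integral_shift (f : G → ℝ) (hf : Continuous f) (g : G) (J : Finset (Fin (m + 1)))
    (k : Fin m) (hk : k.succ ∈ J) :
    ∫ w, f (∑ i ∈ J, (Fin.cons g w : Fin (m + 1) → G) i) ∂(Measure.pi (fun _ : Fin m => μ)) =
      ∫ v, f v ∂μ := by
  set s : (Fin m → G) → G := fun w => ∑ i ∈ J, (Fin.cons g w : Fin (m + 1) → G) i with hs
  have hsc : Continuous s :=
    continuous_finset_sum _ (fun i _ => (continuous_apply i).comp (continuous_cons_right g))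
  have hshift : ∀ (w : Fin m → G) (v : G), s (w + Pi.single k v) = s w + v := by
    intro w v
    have hpt : ∀ i : Fin (m + 1), (Fin.cons g (w + Pi.single k v) : Fin (m + 1) → G) i =
        (Fin.cons g w : Fin (m + 1) → G) i + if i = k.succ then v else 0 := by
      intro i
      refine Fin.cases ?_ (fun i' => ?_) i
      · simp [(Fin.succ_ne_zero k).symm]
      · simp [Pi.single_apply, Fin.succ_inj]
    simp only [hs, hpt, Finset.sum_add_distrib, Finset.sum_ite_eq', hk, if_true]
  have hA : ∀ v : G, ∫ w, f (s w) ∂(Measure.pi (fun _ : Fin m => μ)) =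
      ∫ w, f (s w + v) ∂(Measure.pi (fun _ : Fin m => μ)) := by
    intro v
    rw [← integral_add_right_eq_self (fun w => f (s w)) (Pi.single k v)]
    simp only [hshift]
  have hc : Continuous (Function.uncurry (fun (v : G) (w : Fin m → G) => f (s w + v))) :=
    hf.comp ((hsc.comp continuous_snd).add continuous_fst)
  have hmeas : Integrable (Function.uncurry (fun (v : G) (w : Fin m → G) => f (s w + v)))
      (μ.prod (Measure.pi fun _ : Fin m => μ)) :=
    integrable_of_continuous _ _ hc (meas_prod _ hc)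
  calc ∫ w, f (s w) ∂(Measure.pi (fun _ : Fin m => μ))
      = ∫ v, (∫ w, f (s w) ∂(Measure.pi (fun _ : Fin m => μ))) ∂μ := by simp [integral_const]
    _ = ∫ v, (∫ w, f (s w + v) ∂(Measure.pi (fun _ : Fin m => μ))) ∂μ :=
        integral_congr_ae (Filter.Eventually.of_forall fun v => hA v)
    _ = ∫ w, (∫ v, f (s w + v) ∂μ) ∂(Measure.pi (fun _ : Fin m => μ)) :=
        integral_integral_swap hmeas
    _ = ∫ w, (∫ v, f v ∂μ) ∂(Measure.pi (fun _ : Fin m => μ)) :=
        integral_congr_ae (Filter.Eventually.of_forall fun w =>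
          integral_add_left_eq_self f (s w))
    _ = ∫ v, f v ∂μ := by simp [integral_const]

theorem sum_cf (m : ℕ) :
    ∑ J ∈ (Finset.univ : Finset (Fin (m + 1))).powerset.erase ∅, (-1 : ℝ) ^ (m + 1 + J.card) =
      (-1 : ℝ) ^ m := by
  have h0 : ∑ J ∈ (Finset.univ : Finset (Fin (m + 1))).powerset, (-1 : ℝ) ^ J.card = 0 := by
    have := Finset.sum_powerset_neg_one_pow_card_of_nonempty
      (Finset.univ_nonempty (α := Fin (m + 1)))
    have h := congrArg (Int.cast : ℤ → ℝ) this
    push_cast at h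
    exact h
  have h1 : ∑ J ∈ (Finset.univ : Finset (Fin (m + 1))).powerset.erase ∅,
      (-1 : ℝ) ^ J.card = -1 := by
    have := Finset.add_sum_erase (Finset.univ : Finset (Fin (m + 1))).powerset
      (fun J => (-1 : ℝ) ^ J.card) (a := ∅) (by simp)
    simp only [Finset.card_empty, pow_zero] at this
    linarith
  have h2 : ∀ J : Finset (Fin (m + 1)),
      (-1 : ℝ) ^ (m + 1 + J.card) = (-1 : ℝ) ^ (m + 1) * (-1 : ℝ) ^ J.card :=
    fun J => pow_add _ _ _
  simp only [h2, ← Finset.mul_sum, h1]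
  rw [pow_succ]; ring

theorem uniq (φ' : G → ℝ) (hφ' : Continuous φ')
    (h : ∀ x : Fin (m + 1) → G, ψ x =
      ∑ J ∈ ((Finset.univ : Finset (Fin (m + 1))).powerset.erase ∅),
        (-1 : ℝ) ^ (m + 1 + J.card) * φ' (∑ i ∈ J, x i)) (g : G) :
    φ' g = (-1 : ℝ) ^ m * ∫ w, ψ (Fin.cons g w) ∂(Measure.pi (fun _ : Fin m => μ)) := by
  set c : ℝ := ∫ v, φ' v ∂μ with hc
  have hK : ∀ J ∈ (Finset.univ : Finset (Fin (m + 1))).powerset.erase ∅,
      ∫ w, φ' (∑ i ∈ J, (Fin.cons g w : Fin (m + 1) → G) i)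
        ∂(Measure.pi (fun _ : Fin m => μ)) = c + if J = {0} then φ' g - c else 0 := by
    intro J hJ
    have hJne : J ≠ ∅ := (Finset.mem_erase.1 hJ).1
    by_cases h0 : J = {0}
    · subst h0
      simp [integral_const]
    · rw [if_neg h0, add_zero]
      have hex : ∃ k : Fin m, k.succ ∈ J := by
        by_contra hno
        have hno' := not_exists.1 hno
        apply h0
        ext i
        simp only [Finset.mem_singleton]
        constructor
        · intro hi
          rcases Fin.eq_zero_or_eq_succ i with h | ⟨k, rfl⟩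
          · exact h
          · exact absurd hi (hno' k)
        · rintro rfl
          obtain ⟨i, hi⟩ := Finset.nonempty_iff_ne_empty.2 hJne
          rcases Fin.eq_zero_or_eq_succ i with h | ⟨k, rfl⟩
          · exact h ▸ hi
          · exact absurd hi (hno' k)
      obtain ⟨k, hk⟩ := hex
      exact integral_shift μ φ' hφ' g J k hk
  have hint : ∀ J : Finset (Fin (m + 1)), Integrable
      (fun w : Fin m → G => φ' (∑ i ∈ J, (Fin.cons g w : Fin (m + 1) → G) i))
      (Measure.pi (fun _ : Fin m => μ)) := by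
    intro J
    refine integrable_pi μ _ (hφ'.comp ?_)
    exact continuous_finset_sum _ (fun i _ => (continuous_apply i).comp (continuous_cons_right g))
  have e1 : ∫ w, ψ (Fin.cons g w) ∂(Measure.pi (fun _ : Fin m => μ)) =
      ∑ J ∈ (Finset.univ : Finset (Fin (m + 1))).powerset.erase ∅,
        (-1 : ℝ) ^ (m + 1 + J.card) * (c + if J = {0} then φ' g - c else 0) := by
    have hfun : (fun w : Fin m → G => ψ (Fin.cons g w)) = fun w =>
        ∑ J ∈ (Finset.univ : Finset (Fin (m + 1))).powerset.erase ∅,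
          (-1 : ℝ) ^ (m + 1 + J.card) * φ' (∑ i ∈ J, (Fin.cons g w : Fin (m + 1) → G) i) :=
      funext fun w => h _
    rw [hfun, integral_finset_sum _ (fun J _ => (hint J).const_mul _)]
    refine Finset.sum_congr rfl (fun J hJ => ?_)
    rw [integral_const_mul, hK J hJ]
  have hsingle : ∑ J ∈ (Finset.univ : Finset (Fin (m + 1))).powerset.erase ∅,
      (-1 : ℝ) ^ (m + 1 + J.card) * (if J = {0} then φ' g - c else 0) =
      (-1 : ℝ) ^ (m + 1 + 1) * (φ' g - c) := by
    rw [Finset.sum_eq_single_of_mem ({0} : Finset (Fin (m + 1))) (by simp)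
      (fun J _ hJ => by simp [hJ])]
    simp
  have h3 : (-1 : ℝ) ^ (m + 1 + 1) = (-1 : ℝ) ^ m := by
    rw [pow_succ, pow_succ]; ring
  rw [e1]
  simp only [mul_add, Finset.sum_add_distrib, ← Finset.sum_mul, sum_cf, hsingle, h3]
  linear_combination (-(φ' g)) * negpow_sq m

theorem main (hψc : Continuous ψ) (hψ : Cocycle ψ) :
    (∀ x : Fin (m + 1) → G,
      ψ x = ∑ I ∈ ((Finset.univ : Finset (Fin (m + 1))).powerset.erase ∅),
        (-1 : ℝ) ^ (m + 1 + I.card) * ((-1 : ℝ) ^ m *
          ∫ w, ψ (Fin.cons (∑ i ∈ I, x i) w) ∂(MeasureTheory.Measure.pi (fun _ : Fin m => μ)))) ∧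
    Continuous (fun g : G => (-1 : ℝ) ^ m *
      ∫ w, ψ (Fin.cons g w) ∂(MeasureTheory.Measure.pi (fun _ : Fin m => μ))) ∧
    (∀ φ : G → ℝ, Continuous φ → (∀ x : Fin (m + 1) → G,
      ψ x = ∑ I ∈ ((Finset.univ : Finset (Fin (m + 1))).powerset.erase ∅),
        (-1 : ℝ) ^ (m + 1 + I.card) * φ (∑ i ∈ I, x i)) →
      φ = fun g => (-1 : ℝ) ^ m *
        ∫ w, ψ (Fin.cons g w) ∂(MeasureTheory.Measure.pi (fun _ : Fin m => μ))) :=
  ⟨fun x => part1 μ ψ hψc hψ x, part2 μ ψ hψc,
    fun φ hφ h => funext fun g => uniq μ ψ φ hφ h g⟩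

end Main

end Groth.Agent.H4.CocycDev
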