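import Mathlib
import Groth.Agent.H4.US17
import Groth.Agent.S5155
import Groth.Agent.S0302

set_option autoImplicit false
universe u
open CategoryTheory Category Limits Pretriangulated

namespace Groth.Agent.H4.US19

attribute [local instance] HasDerivedCategory.standard
attribute [local instance] Groth.Agent.H4.LK4.hasLTen Groth.Agent.H4.LK5.hasLTen₃
  Groth.Agent.H4.KI7.isSymMonoidal Groth.Agent.H4.KI6.hasRHom

open DRing DTen DerivedCategory Groth.Agent.H4.DThick Groth.Agent.H4.DCompl1 Groth.Agent.H4.CF1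
  Groth.Agent.H4.InjAmp Groth.Agent.H4.DZ1 Groth.Agent.H4.DZ2 Groth.Agent.H4.DZ3 Groth.Agent.H4.DZ4
  Groth.Agent.H4.DZ5 Groth.Agent.H4.DZ6 Groth.Agent.H4.ProjAmp Groth.Agent.H4.US8 Groth.Agent.H4.US9
  Groth.Agent.H4.US10 Groth.Agent.H4.US11 Groth.Agent.H4.US12 Groth.Agent.H4.US13
  Groth.Agent.H4.US14 Groth.Agent.H4.US15 Groth.Agent.H4.US16 Groth.Agent.H4.US17
  Groth.Agent.H4.FB1 Groth.Agent.H4.FB2 Groth.Agent.H4.FB3

open scoped Pointwise TensorProduct

variable {A : Type u} [CommRing A]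

/-- `Hom_A(M, N) ≃ Hom_{D(A)}(M[0], N[0])`. -/
noncomputable def homSingleLinEquiv (M N : Type u) [AddCommGroup M] [Module A M]
    [AddCommGroup N] [Module A N] :
    (M →ₗ[A] N) ≃ₗ[A] (Dual.inD A M ⟶ Dual.inD A N) :=
  let e4 : (ModuleCat.of A M ⟶ ModuleCat.of A N) ≃ₗ[A] (Dual.inD A M ⟶ Dual.inD A N) :=
    LinearEquiv.ofBijective (Functor.mapLinearMap A (singleFunctor (ModuleCat.{u} A) 0))
      ⟨(singleFunctor (ModuleCat.{u} A) 0).map_injective,
        (singleFunctor (ModuleCat.{u} A) 0).map_surjective⟩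
  let e5 : (ModuleCat.of A M ⟶ ModuleCat.of A N) ≃ₗ[A] (M →ₗ[A] N) := ModuleCat.homLinearEquiv
  e5.symm ≪≫ₗ e4

/-- Baer's criterion through `Ext^1` in `D(A)`. -/
theorem injective_of_subsingleton_ext (W : Type u) [AddCommGroup W] [Module A W]
    (h : ∀ I : Ideal A, Subsingleton (Dual.inD A (A ⧸ I) ⟶ (Dual.inD A W)⟦(1 : ℤ)⟧)) :
    Module.Injective A W := by
  apply Module.Baer.injective
  intro I g
  let S : ShortComplex (ModuleCat.{u} A) :=
    ShortComplex.mk (ModuleCat.ofHom I.subtype) (ModuleCat.ofHom I.mkQ) (by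
      ext x
      change I.mkQ (I.subtype x) = 0
      rw [Submodule.mkQ_apply, Submodule.Quotient.mk_eq_zero]
      exact x.2)
  have hS : S.ShortExact := ModuleCat.shortComplex_shortExact S
    (by
      intro y
      change I.mkQ y = 0 ↔ y ∈ Set.range I.subtype
      rw [Submodule.mkQ_apply, Submodule.Quotient.mk_eq_zero]
      simp)
    (Submodule.injective_subtype I) (Submodule.mkQ_surjective I)
  have hT := hS.singleTriangle_distinguished
  have hT' := inv_rot_of_distTriang _ hT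
  let a : Dual.inD A I ⟶ Dual.inD A W :=
    (singleFunctor (ModuleCat.{u} A) 0).map (ModuleCat.ofHom g)
  haveI := h I
  have hsub : Subsingleton ((Dual.inD A (A ⧸ I))⟦(-1 : ℤ)⟧ ⟶ Dual.inD A W) :=
    (shiftHomLinEquiv (Dual.inD A (A ⧸ I)) (Dual.inD A W) (-1) 1 (by simp)).toEquiv.subsingleton
  have ha : hS.singleTriangle.invRotate.mor₁ ≫ a = 0 := @Subsingleton.elim _ hsub _ _
  obtain ⟨c, hc⟩ := Triangle.yoneda_exact₂ _ hT' a ha
  change Dual.inD A A ⟶ Dual.inD A W at c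
  obtain ⟨φ, hφ⟩ := (singleFunctor (ModuleCat.{u} A) 0).map_surjective c
  refine ⟨φ.hom, fun x hx => ?_⟩
  have h1 : (singleFunctor (ModuleCat.{u} A) 0).map (ModuleCat.ofHom g) =
      (singleFunctor (ModuleCat.{u} A) 0).map (ModuleCat.ofHom I.subtype ≫ φ) := by
    rw [Functor.map_comp, hφ]
    exact hc
  have h2 := (singleFunctor (ModuleCat.{u} A) 0).map_injective h1
  have h3 := congrArg (fun ψ => ψ.hom ⟨x, hx⟩) h2
  exact h3.symm

variable [IsLocalRing A] [IsNoetherianRing A]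

omit [IsNoetherianRing A] in
lemma isSimpleModule_residue : IsSimpleModule A (A ⧸ IsLocalRing.maximalIdeal A) := by
  rw [isSimpleModule_iff_isCoatom]
  exact (IsLocalRing.maximalIdeal.isMaximal A).out

theorem S0375 (h0 : ringKrullDim A = 0) (ω : Dual.D A) (hω : Dual.IsDualizing A ω)
    (hn : Dual.IsNormalized A ω) (E : Type u) [AddCommGroup E] [Module A E]
    (f : IsLocalRing.ResidueField A →ₗ[A] E) (hf : InjHull.IsInjectiveHull f) :
    Nonempty (ω ≅ Dual.inD A E) := by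
  have hn0 := extData_zero ω hω hn
  obtain ⟨δ, -, -, -, hr⟩ := cohomology_range ω hω 0 hn0 0 (by simpa using h0)
  have hz : ∀ i : ℤ, i ≠ 0 → IsZero ((homologyFunctor (ModuleCat.{u} A) i).obj ω) := by
    intro i hi
    rw [ModuleCat.isZero_iff_subsingleton]
    by_contra hcon
    rw [not_subsingleton_iff_nontrivial] at hcon
    obtain ⟨h1, h2⟩ := hr i hcon
    have : (0 : ℤ) - ((0 : ℕ) : ℤ) = 0 := by simp
    omega
  haveI : ω.IsGE 0 := by
    rw [isGE_iff]
    exact fun i hi => hz i (by omega)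
  haveI : ω.IsLE 0 := by
    rw [isLE_iff]
    exact fun i hi => hz i (by omega)
  obtain ⟨W, ⟨e⟩⟩ := exists_iso_singleFunctor_obj_of_isGE_of_isLE ω 0
  change ω ≅ Dual.inD A W at e
  -- injectivity
  have hinj : Module.Injective A W := by
    apply injective_of_subsingleton_ext
    intro I
    haveI := subsingleton_ext_of_pos ω hω hn 1 one_pos (A ⧸ I)
    exact (homIsoLinEquiv (Dual.inD A (A ⧸ I))
      ((shiftFunctor (Dual.D A) (1 : ℤ)).mapIso e)).symm.toEquiv.subsingleton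
  -- power torsion
  have htors : LocCoh.IsPowerTorsion (IsLocalRing.maximalIdeal A) W := by
    haveI : Ring.KrullDimLE 0 A := by
      rw [Ring.krullDimLE_iff]
      simp [h0]
    haveI : IsArtinianRing A := isArtinianRing_iff_isNoetherianRing_krullDimLE_zero.2 ⟨inferInstance, inferInstance⟩
    obtain ⟨n, hn'⟩ := IsArtinianRing.isNilpotent_jacobson_bot (R := A)
    rw [IsLocalRing.jacobson_eq_maximalIdeal ⊥ bot_ne_top] at hn'
    intro m
    refine ⟨n, fun a ha => ?_⟩
    rw [hn'] at ha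
    have : a = 0 := ha
    rw [this, zero_smul]
  -- simple socle
  have hsoc : IsSimpleModule A (IsLocalRing.ResidueField A →ₗ[A] W) := by
    obtain ⟨e0⟩ := hn0.top 0 rfl
    let e1 : (Sk A 0 ⟶ ω⟦(0 : ℤ)⟧) ≃ₗ[A] (Sk A 0 ⟶ Dual.inD A W) :=
      homIsoLinEquiv (Sk A 0) ((shiftFunctorZero (Dual.D A) ℤ).app ω ≪≫ e)
    let e2 : (IsLocalRing.ResidueField A →ₗ[A] W) ≃ₗ[A] (Sk A 0 ⟶ Dual.inD A W) :=
      homSingleLinEquiv (IsLocalRing.ResidueField A) W
    haveI := isSimpleModule_residue (A := A)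
    exact IsSimpleModule.congr ((e2.trans e1.symm).trans e0)
  obtain ⟨f', hf'⟩ := (Groth.Agent.S5155.result A W).2 ⟨hinj, htors, hsoc⟩
  obtain ⟨eW, -⟩ := Groth.Agent.S0302.result A (IsLocalRing.ResidueField A) W E f' hf' f hf
  exact ⟨e ≪≫ (singleFunctor (ModuleCat.{u} A) 0).mapIso eW.toModuleIso⟩

end Groth.Agent.H4.US19
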