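import Mathlib
import Groth.Agent.H4.US19
import Groth.Agent.H4.RAdj
import Groth.Agent.H4.US5
import Groth.Agent.S5157
import Groth.Agent.S0375

set_option autoImplicit false
universe u
open CategoryTheory Category Limits Pretriangulated

namespace Groth.Agent.H4.US24

attribute [local instance] HasDerivedCategory.standard
attribute [local instance] Groth.Agent.H4.LK4.hasLTen Groth.Agent.H4.LK5.hasLTen₃
  Groth.Agent.H4.KI7.isSymMonoidal Groth.Agent.H4.KI6.hasRHom

open DRing DTen DerivedCategory Groth.Agent.H4.DThick Groth.Agent.H4.DCompl1 Groth.Agent.H4.CF1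
  Groth.Agent.H4.InjAmp Groth.Agent.H4.DZ1 Groth.Agent.H4.DZ2 Groth.Agent.H4.DZ3 Groth.Agent.H4.DZ4
  Groth.Agent.H4.DZ5 Groth.Agent.H4.DZ6 Groth.Agent.H4.ProjAmp
  Groth.Agent.H4.FB1 Groth.Agent.H4.FB2 Groth.Agent.H4.FB3 Groth.Agent.H4.US19 Groth.Agent.H4.RAdj
  Groth.Agent.H4.US1

open scoped Pointwise TensorProduct

section alg

variable {A : Type u} [CommRing A] [IsLocalRing A]

/-- a module of finite length over a local ring is killed by a power of the maximal ideal. -/
theorem exists_pow_smul_eq_zero {N : Type*} [AddCommGroup N] [Module A N]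
    (hN : IsFiniteLength A N) :
    ∃ k : ℕ, 0 < k ∧ ∀ a ∈ IsLocalRing.maximalIdeal A ^ k, ∀ n : N, a • n = 0 := by
  induction hN with
  | of_subsingleton => exact ⟨1, one_pos, fun a _ n => Subsingleton.elim _ _⟩
  | @of_simple_quotient M _ _ N' _ _ ih =>
    obtain ⟨k, hk, hkN⟩ := ih
    refine ⟨k + 1, Nat.succ_pos _, fun a ha n => ?_⟩
    have hsimple : ∀ b ∈ IsLocalRing.maximalIdeal A, ∀ m : M, b • m ∈ N' := by
      intro b hb m
      have hann : Module.annihilator A (M ⧸ N') = IsLocalRing.maximalIdeal A :=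
        IsLocalRing.eq_maximalIdeal IsSimpleModule.annihilator_isMaximal
      have hb' : b ∈ Module.annihilator A (M ⧸ N') := hann ▸ hb
      have := Module.mem_annihilator.1 hb' (N'.mkQ m)
      rwa [← map_smul, Submodule.mkQ_apply, Submodule.Quotient.mk_eq_zero] at this
    rw [pow_succ] at ha
    refine Submodule.mul_induction_on ha (fun x hx y hy => ?_) (fun x y hx hy => ?_)
    · rw [mul_smul]
      have h1 := hkN x hx ⟨y • n, hsimple y hy n⟩
      exact congrArg Subtype.val h1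
    · rw [add_smul, hx, hy, add_zero]

/-- `A ⧸ 𝔪^k` has dimension zero. -/
theorem ringKrullDim_quotient_pow (k : ℕ) (hk : 0 < k) :
    ringKrullDim (A ⧸ IsLocalRing.maximalIdeal A ^ k) = 0 := by
  have hne : IsLocalRing.maximalIdeal A ^ k ≠ ⊤ := fun h =>
    (IsLocalRing.maximalIdeal.isMaximal A).ne_top
      (top_le_iff.1 (h ▸ Ideal.pow_le_self hk.ne'))
  haveI : Nontrivial (A ⧸ IsLocalRing.maximalIdeal A ^ k) := Ideal.Quotient.nontrivial_iff.2 hne
  rw [← ringKrullDimZero_iff_ringKrullDim_eq_zero]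
  refine Ring.KrullDimLE.mk₀ fun P hP => ?_
  have hsurj : Function.Surjective (Ideal.Quotient.mk (IsLocalRing.maximalIdeal A ^ k)) :=
    Ideal.Quotient.mk_surjective
  haveI : (P.comap (Ideal.Quotient.mk (IsLocalRing.maximalIdeal A ^ k))).IsPrime :=
    Ideal.comap_isPrime _ P
  have h1 : IsLocalRing.maximalIdeal A ^ k ≤
      P.comap (Ideal.Quotient.mk (IsLocalRing.maximalIdeal A ^ k)) := by
    intro x hx
    rw [Ideal.mem_comap, Ideal.Quotient.eq_zero_iff_mem.2 hx]
    exact P.zero_mem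
  have h2 : IsLocalRing.maximalIdeal A ≤
      P.comap (Ideal.Quotient.mk (IsLocalRing.maximalIdeal A ^ k)) :=
    (Ideal.IsPrime.pow_le_iff hk.ne').1 h1
  have h3 : P.comap (Ideal.Quotient.mk (IsLocalRing.maximalIdeal A ^ k)) =
      IsLocalRing.maximalIdeal A :=
    ((IsLocalRing.maximalIdeal.isMaximal A).eq_of_le (Ideal.IsPrime.ne_top inferInstance) h2).symm
  have h3' : (P.comap (Ideal.Quotient.mk (IsLocalRing.maximalIdeal A ^ k))).IsMaximal := by
    rw [h3]
    exact IsLocalRing.maximalIdeal.isMaximal A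
  have h4 := Ideal.map_eq_top_or_isMaximal_of_surjective _ hsurj h3'
  rw [Ideal.map_comap_of_surjective _ hsurj] at h4
  exact h4.resolve_left hP.ne_top

end alg

section inj

variable {B : Type u} [CommRing B]

/-- `Ext^i(M, J) = 0` for `i ≠ 0` and `J` injective. -/
lemma subsingleton_ext_injective (J : Type u) [AddCommGroup J] [Module B J]
    [Module.Injective B J] (M : ModuleCat.{u} B) (i : ℤ) (hi : i ≠ 0) :
    Subsingleton ((singleFunctor (ModuleCat.{u} B) 0).obj M ⟶ (Dual.inD B J)⟦i⟧) := by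
  haveI : Injective (ModuleCat.of B J) := Module.injective_object_of_injective_module B J
  refine ext_subsingleton_of_rep (sgl (ModuleCat.of B J) 0) 0 0 ?_
    (fun k => injective_sgl_X _ 0 k) _
    ((singleFunctorIsoCompQ (ModuleCat.{u} B) 0).symm.app (ModuleCat.of B J)) M i (by omega)
  intro k hk
  exact HomologicalComplex.isZero_single_obj_X _ _ _ _ (by omega)

end inj

section hom

variable {A : Type u} [CommRing A] (I : Ideal A) (N : Type u) [AddCommGroup N] [Module A N]
  [Module (A ⧸ I) N] [IsScalarTower A (A ⧸ I) N] (E : Type u) [AddCommGroup E] [Module A E]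

/-- `Hom_{A/I}(N, E[I]) = Hom_A(N, E)` for an `A/I`-module `N`. -/
noncomputable def homTorsionAddEquiv :
    (N →ₗ[A ⧸ I] LocCoh.torsionBy I E) ≃+ (N →ₗ[A] E) where
  toFun g := (LocCoh.torsionBy I E).subtype ∘ₗ (g.restrictScalars A)
  invFun h := LinearMap.extendScalarsOfSurjective
    (Ideal.Quotient.mk_surjective : Function.Surjective (algebraMap A (A ⧸ I)))
    (LinearMap.codRestrict (LocCoh.torsionBy I E) h (fun n => by
      rw [Submodule.mem_torsionBySet_iff]
      intro a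
      rw [← map_smul, ← algebraMap_smul (A ⧸ I) (a : A) n]
      have : algebraMap A (A ⧸ I) (a : A) = 0 := Ideal.Quotient.eq_zero_iff_mem.2 a.2
      rw [this, zero_smul, map_zero]))
  left_inv g := by
    ext n
    rfl
  right_inv h := by
    ext n
    rfl
  map_add' g g' := by
    ext n
    rfl

lemma homTorsionAddEquiv_smul (a : A) (g : N →ₗ[A ⧸ I] LocCoh.torsionBy I E) :
    homTorsionAddEquiv I N E (Ideal.Quotient.mk I a • g) = a • homTorsionAddEquiv I N E g := by
  ext n
  rfl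

end hom

section main

variable {A : Type u} [CommRing A] [IsLocalRing A] [IsNoetherianRing A]

theorem S1749 (ω : Dual.D A) (hω : Dual.IsDualizing A ω) (hn : Dual.IsNormalized A ω)
    (E : Type u) [AddCommGroup E] [Module A E] (f : IsLocalRing.ResidueField A →ₗ[A] E)
    (hf : InjHull.IsInjectiveHull f) (N : Type u) [AddCommGroup N] [Module A N]
    (hN : IsFiniteLength A N) :
    (∀ i : ℤ, i ≠ 0 → Subsingleton (Dual.inD A N ⟶ ω⟦i⟧)) ∧
      Nonempty ((Dual.inD A N ⟶ ω) ≃ₗ[A] (N →ₗ[A] E)) := by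
  obtain ⟨k, hk, hkN⟩ := exists_pow_smul_eq_zero hN
  obtain ⟨I, hI⟩ : ∃ I : Ideal A, I = IsLocalRing.maximalIdeal A ^ k := ⟨_, rfl⟩
  have hIne : I ≠ ⊤ := fun h =>
    (IsLocalRing.maximalIdeal.isMaximal A).ne_top
      (top_le_iff.1 (h ▸ hI ▸ Ideal.pow_le_self hk.ne'))
  haveI : Nontrivial (A ⧸ I) := Ideal.Quotient.nontrivial_iff.2 hIne
  haveI : IsLocalRing (A ⧸ I) :=
    IsLocalRing.of_surjective' (Ideal.Quotient.mk I) Ideal.Quotient.mk_surjective
  haveI : IsLocalHom (algebraMap A (A ⧸ I)) :=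
    IsLocalHom.of_surjective _ Ideal.Quotient.mk_surjective
  have hdim : ringKrullDim (A ⧸ I) = 0 := by
    rw [hI]
    exact ringKrullDim_quotient_pow k hk
  have htors : Module.IsTorsionBySet A N (I : Set A) := fun n a => hkN a.1 (hI ▸ a.2) n
  letI : Module (A ⧸ I) N := htors.module
  haveI : IsScalarTower A (A ⧸ I) N := htors.isScalarTower
  obtain ⟨hdB, hnB⟩ := Groth.Agent.H4.US5.S1773 (R₀ (algebraMap A (A ⧸ I)))
    (adjR₀ (algebraMap A (A ⧸ I))) ω hω hn
  obtain ⟨g, hg⟩ := Groth.Agent.S5157.result A I E f hf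
  obtain ⟨eB⟩ := Groth.Agent.S0375.result (A ⧸ I) hdim _ hdB hnB (LocCoh.torsionBy I E) g hg
  haveI : Module.Injective (A ⧸ I) (LocCoh.torsionBy I E) := hg.isInjective
  let NB : ModuleCat.{u} (A ⧸ I) := ModuleCat.of (A ⧸ I) N
  let eN : ModuleCat.of A N ≅ (ModuleCat.restrictScalars.{u} (algebraMap A (A ⧸ I))).obj NB :=
    LinearEquiv.toModuleIso
      (show N ≃ₗ[A] ((ModuleCat.restrictScalars.{u} (algebraMap A (A ⧸ I))).obj NB) from
        { toFun := fun x => x
          invFun := fun x => x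
          left_inv := fun _ => rfl
          right_inv := fun _ => rfl
          map_add' := fun _ _ => rfl
          map_smul' := fun a x => (algebraMap_smul (A ⧸ I) a (show N from x)).symm })
  let iN : Dual.inD A N ≅ (singleFunctor (ModuleCat.{u} A) 0).obj
      ((ModuleCat.restrictScalars.{u} (algebraMap A (A ⧸ I))).obj NB) :=
    (singleFunctor (ModuleCat.{u} A) 0).mapIso eN
  constructor
  · intro i hi
    have h1 := subsingleton_ext_injective (B := A ⧸ I) (LocCoh.torsionBy I E) NB i hi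
    have h2 : Subsingleton ((singleFunctor (ModuleCat.{u} (A ⧸ I)) 0).obj NB ⟶
        ((R₀ (algebraMap A (A ⧸ I))).obj ω)⟦i⟧) :=
      ((Iso.refl _).homCongr ((shiftFunctor (Dual.D (A ⧸ I)) i).mapIso eB)).subsingleton
    have h3 : Subsingleton ((singleFunctor (ModuleCat.{u} A) 0).obj
        ((ModuleCat.restrictScalars.{u} (algebraMap A (A ⧸ I))).obj NB) ⟶ ω⟦i⟧) :=
      (extAddEquiv (R₀ (algebraMap A (A ⧸ I))) (adjR₀ (algebraMap A (A ⧸ I)))
        NB ω i).symm.toEquiv.subsingleton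
    exact (iN.homCongr (Iso.refl _)).subsingleton
  · let e1 : (Dual.inD A N ⟶ ω) ≃ₗ[A] ((singleFunctor (ModuleCat.{u} A) 0).obj
        ((ModuleCat.restrictScalars.{u} (algebraMap A (A ⧸ I))).obj NB) ⟶ ω⟦(0 : ℤ)⟧) :=
      (isoHomLinEquiv iN ω).trans (homIsoLinEquiv _ ((shiftFunctorZero (Dual.D A) ℤ).app ω).symm)
    let e2 := extAddEquiv (R₀ (algebraMap A (A ⧸ I))) (adjR₀ (algebraMap A (A ⧸ I))) NB ω 0
    let e3 : ((singleFunctor (ModuleCat.{u} (A ⧸ I)) 0).obj NB ⟶
        ((R₀ (algebraMap A (A ⧸ I))).obj ω)⟦(0 : ℤ)⟧) ≃ₗ[A ⧸ I]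
        ((singleFunctor (ModuleCat.{u} (A ⧸ I)) 0).obj NB ⟶
          Dual.inD (A ⧸ I) (LocCoh.torsionBy I E)) :=
      homIsoLinEquiv _ ((shiftFunctorZero (Dual.D (A ⧸ I)) ℤ).app _ ≪≫ eB)
    let e4 := homSingleLinEquiv (A := A ⧸ I) N (LocCoh.torsionBy I E)
    let e5 := homTorsionAddEquiv I N E
    let Φ : (Dual.inD A N ⟶ ω) ≃+ (N →ₗ[A] E) :=
      e1.toAddEquiv.trans (e2.symm.trans (e3.toAddEquiv.trans (e4.symm.toAddEquiv.trans e5)))
    have he2 : ∀ (a : A) x, e2.symm (a • x) = algebraMap A (A ⧸ I) a • e2.symm x := by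
      intro a x
      apply e2.injective
      rw [AddEquiv.apply_symm_apply, extAddEquiv_smul, AddEquiv.apply_symm_apply]
    refine ⟨{ Φ with map_smul' := fun a φ => ?_ }⟩
    change e5 (e4.symm (e3 (e2.symm (e1 (a • φ))))) = a • e5 (e4.symm (e3 (e2.symm (e1 φ))))
    rw [map_smul, he2, map_smul, map_smul]
    exact homTorsionAddEquiv_smul I N E a _

end main

end Groth.Agent.H4.US24
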