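import Mathlib
import Groth.Agent.H4.US24

set_option autoImplicit false
universe u
open CategoryTheory Category Limits Pretriangulated

namespace Groth.Agent.H4.US25

attribute [local instance] HasDerivedCategory.standard
attribute [local instance] Groth.Agent.H4.LK4.hasLTen Groth.Agent.H4.LK5.hasLTen₃
  Groth.Agent.H4.KI7.isSymMonoidal Groth.Agent.H4.KI6.hasRHom

open DRing DTen DerivedCategory Groth.Agent.H4.DThick Groth.Agent.H4.DCompl1 Groth.Agent.H4.CF1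
  Groth.Agent.H4.InjAmp Groth.Agent.H4.DZ1 Groth.Agent.H4.DZ2 Groth.Agent.H4.DZ3 Groth.Agent.H4.DZ4
  Groth.Agent.H4.DZ5 Groth.Agent.H4.DZ6 Groth.Agent.H4.ProjAmp
  Groth.Agent.H4.FB1 Groth.Agent.H4.FB2 Groth.Agent.H4.FB3 Groth.Agent.H4.US19 Groth.Agent.H4.RAdj
  Groth.Agent.H4.US1

open scoped Pointwise TensorProduct

section general

variable {A : Type u} [CommRing A]

/-- an object with cohomology only in degree `0` is a module placed in degree `0`. -/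
theorem nonempty_iso_inD_of_HD (K : Dual.D A) (W : Type u) [AddCommGroup W] [Module A W]
    (h0 : ∀ j : ℤ, j ≠ 0 → Subsingleton (Dual.HD A K j)) (e : Dual.HD A K 0 ≃ₗ[A] W) :
    Nonempty (K ≅ Dual.inD A W) := by
  have hz : ∀ i : ℤ, i ≠ 0 → IsZero ((homologyFunctor (ModuleCat.{u} A) i).obj K) := by
    intro i hi
    haveI := h0 i hi
    exact ModuleCat.isZero_of_subsingleton _
  haveI : K.IsGE 0 := by
    rw [isGE_iff]
    exact fun i hi => hz i (by omega)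
  haveI : K.IsLE 0 := by
    rw [isLE_iff]
    exact fun i hi => hz i (by omega)
  obtain ⟨M, ⟨ι⟩⟩ := exists_iso_singleFunctor_obj_of_isGE_of_isLE K 0
  change K ≅ Dual.inD A M at ι
  obtain ⟨e1⟩ := nonempty_HD_inD_zero (A := A) M
  let e2 : Dual.HD A K 0 ≃ₗ[A] Dual.HD A (Dual.inD A M) 0 :=
    ((homologyFunctor (ModuleCat.{u} A) 0).mapIso ι).toLinearEquiv
  let eM : M ≃ₗ[A] W := (e1.symm.trans e2.symm).trans e
  exact ⟨ι ≪≫ (singleFunctor (ModuleCat.{u} A) 0).mapIso eM.toModuleIso⟩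

variable [IsNoetherianRing A]

/-- the cone of a map between objects with finite cohomology has finite cohomology. -/
theorem finite_HD_obj₃ (T : Triangle (Dual.D A)) (hT : T ∈ distTriang (Dual.D A))
    (h1 : ∀ i : ℤ, Module.Finite A (Dual.HD A T.obj₁ i))
    (h2 : ∀ i : ℤ, Module.Finite A (Dual.HD A T.obj₂ i)) (i : ℤ) :
    Module.Finite A (Dual.HD A T.obj₃ i) := by
  obtain ⟨e3⟩ := nonempty_homG_equiv i T.obj₃
  obtain ⟨e2⟩ := nonempty_homG_equiv i T.obj₂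
  obtain ⟨e1⟩ := nonempty_homG_equiv i (T.obj₁⟦(1 : ℤ)⟧)
  haveI := h2 i
  haveI : Module.Finite A (G A i ⟶ T.obj₂) := Module.Finite.equiv e2.symm
  haveI := finite_HD_shift T.obj₁ h1 1 i
  haveI : Module.Finite A (G A i ⟶ T.obj₁⟦(1 : ℤ)⟧) := Module.Finite.equiv e1.symm
  haveI : Module.Finite A (G A i ⟶ T.obj₃) := by
    refine finite_of_exact (Linear.rightComp A (G A i) T.mor₂) (Linear.rightComp A (G A i) T.mor₃) ?_
    intro y hy
    obtain ⟨x, hx⟩ := Triangle.coyoneda_exact₃ T hT y hy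
    exact ⟨x, hx.symm⟩
  exact Module.Finite.equiv e3

end general

section main

open Groth.Agent.H4.US2 Groth.Agent.H4.US3 Groth.Agent.H4.US4

variable {A : Type u} [CommRing A] [IsNoetherianRing A] (I : Ideal A)
  (R : Dual.D A ⥤ Dual.D (A ⧸ I)) (adj : Res A (A ⧸ I) ⊣ R)
  (ω : Dual.D A) (hω : Dual.IsDualizing A ω)

include hω in
/-- every map `R(ω)|_A ⟶ ω` is a multiple of the counit. -/
lemma hom_Res_eq (ψ : (Res A (A ⧸ I)).obj (R.obj ω) ⟶ ω) :
    ∃ a : A, ψ = a • adj.counit.app ω := by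
  obtain ⟨b, hb⟩ := (bijective_toEnd R adj ω hω).2 ((homAddEquiv R adj (R.obj ω) ω).symm ψ)
  obtain ⟨a, rfl⟩ := Ideal.Quotient.mk_surjective b
  refine ⟨a, ?_⟩
  have h1 : ψ = homAddEquiv R adj (R.obj ω) ω (algebraMap A (A ⧸ I) a • 𝟙 (R.obj ω)) := by
    have hb' : Ideal.Quotient.mk I a • 𝟙 (R.obj ω) =
        (homAddEquiv R adj (R.obj ω) ω).symm ψ := hb
    change _ = homAddEquiv R adj (R.obj ω) ω (Ideal.Quotient.mk I a • 𝟙 (R.obj ω))
    rw [hb', AddEquiv.apply_symm_apply]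
  rw [h1, homAddEquiv_smul, homAddEquiv_apply, CategoryTheory.Functor.map_id, id_comp]

include hω in
lemma smul_counit_eq_zero_iff (a : A) : a • adj.counit.app ω = 0 ↔ a ∈ I := by
  have h1 : a • adj.counit.app ω =
      homAddEquiv R adj (R.obj ω) ω (algebraMap A (A ⧸ I) a • 𝟙 (R.obj ω)) := by
    rw [homAddEquiv_smul, homAddEquiv_apply, CategoryTheory.Functor.map_id, id_comp]
  rw [h1, AddEquivClass.map_eq_zero_iff]
  have h2 : algebraMap A (A ⧸ I) a • 𝟙 (R.obj ω) = 0 ↔ algebraMap A (A ⧸ I) a = 0 := by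
    constructor
    · intro h
      apply (bijective_toEnd R adj ω hω).1
      change algebraMap A (A ⧸ I) a • 𝟙 (R.obj ω) = (0 : A ⧸ I) • 𝟙 (R.obj ω)
      rw [h, zero_smul]
    · intro h
      rw [h, zero_smul]
  rw [h2]
  exact Ideal.Quotient.eq_zero_iff_mem

include hω adj in
lemma subsingleton_hom_Res (j : ℤ) (hj : j ≠ 0) :
    Subsingleton ((Res A (A ⧸ I)).obj (R.obj ω) ⟶ ω⟦j⟧) := by
  haveI := subsingleton_ext_self R adj ω hω j hj
  exact (shiftExtAddEquiv R adj (R.obj ω) ω j).symm.subsingleton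

section cone

variable (C : Dual.D A) (v : ω ⟶ C) (w : C ⟶ ((Res A (A ⧸ I)).obj (R.obj ω))⟦(1 : ℤ)⟧)
  (hT : Triangle.mk (adj.counit.app ω) v w ∈ distTriang (Dual.D A))

include hω hT in
/-- the cone of the counit has no maps to `ω[j]` for `j ≠ 0`. -/
lemma subsingleton_hom_cone (j : ℤ) (hj : j ≠ 0) : Subsingleton (C ⟶ ω⟦j⟧) := by
  refine ⟨fun g g' => ?_⟩
  suffices key : ∀ g : C ⟶ ω⟦j⟧, g = 0 by rw [key g, key g']
  intro g
  haveI := hω.ext_self_subsingleton j hj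
  have h1 : v ≫ g = 0 := Subsingleton.elim _ _
  obtain ⟨g₁, hg₁⟩ := Triangle.yoneda_exact₃ _ hT g h1
  change ((Res A (A ⧸ I)).obj (R.obj ω))⟦(1 : ℤ)⟧ ⟶ ω⟦j⟧ at g₁
  change g = w ≫ g₁ at hg₁
  by_cases hj1 : j = 1
  · subst hj1
    obtain ⟨ψ, hψ⟩ := (shiftFunctor (Dual.D A) (1 : ℤ)).map_surjective g₁
    obtain ⟨a, ha⟩ := hom_Res_eq I R adj ω hω ψ
    have h2 : w ≫ (adj.counit.app ω)⟦(1 : ℤ)⟧' = 0 := comp_distTriang_mor_zero₃₁ _ hT
    rw [hg₁, ← hψ, ha, Functor.map_smul, Linear.comp_smul, h2, smul_zero]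
  · haveI := subsingleton_hom_Res I R adj ω hω (j - 1) (by omega)
    haveI : Subsingleton (((Res A (A ⧸ I)).obj (R.obj ω))⟦(1 : ℤ)⟧ ⟶ ω⟦j⟧) :=
      ((shiftHomLinEquiv ((Res A (A ⧸ I)).obj (R.obj ω)) (ω⟦j⟧) 1 (-1) (by simp)).trans
        (Groth.Agent.H4.US13.homShiftShiftLinEquiv _ ω j (-1) (j - 1) (by ring))).toEquiv.subsingleton
    rw [hg₁, Subsingleton.elim g₁ 0, comp_zero]

include hω hT in
/-- maps from the cone of the counit to `ω` form the ideal `I`. -/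
lemma nonempty_hom_cone_equiv : Nonempty ((C ⟶ ω) ≃ₗ[A] I) := by
  let t : A ≃ₗ[A] (ω ⟶ ω) := LinearEquiv.ofBijective (toEndLin ω) hω.toEnd_bijective
  let Λ : (C ⟶ ω) →ₗ[A] A := t.symm.toLinearMap ∘ₗ Linear.leftComp A ω v
  have hΛ : ∀ g : C ⟶ ω, v ≫ g = Λ g • 𝟙 ω := by
    intro g
    have : t (Λ g) = v ≫ g := t.apply_symm_apply _
    exact this.symm
  have hinj : Function.Injective Λ := by
    rw [← LinearMap.ker_eq_bot, LinearMap.ker_eq_bot']
    intro g hg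
    have h1 : v ≫ g = 0 := by rw [hΛ g, hg, zero_smul]
    obtain ⟨g₁, hg₁⟩ := Triangle.yoneda_exact₃ _ hT g h1
    change ((Res A (A ⧸ I)).obj (R.obj ω))⟦(1 : ℤ)⟧ ⟶ ω at g₁
    change g = w ≫ g₁ at hg₁
    haveI := subsingleton_hom_Res I R adj ω hω (-1) (by omega)
    haveI : Subsingleton (((Res A (A ⧸ I)).obj (R.obj ω))⟦(1 : ℤ)⟧ ⟶ ω) :=
      (shiftHomLinEquiv ((Res A (A ⧸ I)).obj (R.obj ω)) ω 1 (-1) (by simp)).toEquiv.subsingleton
    rw [hg₁, Subsingleton.elim g₁ 0, comp_zero]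
  have hcomp : ∀ a : A, adj.counit.app ω ≫ (a • 𝟙 ω) = a • adj.counit.app ω := by
    intro a
    rw [Linear.comp_smul]
    congr 1
    exact comp_id _
  have hrange : LinearMap.range Λ = I := by
    ext a
    rw [LinearMap.mem_range, ← smul_counit_eq_zero_iff I R adj ω hω a]
    constructor
    · rintro ⟨g, rfl⟩
      have h0 : adj.counit.app ω ≫ v = 0 := comp_distTriang_mor_zero₁₂ _ hT
      have : adj.counit.app ω ≫ (Λ g • 𝟙 ω) = 0 := by
        rw [← hΛ g, ← assoc, h0, zero_comp]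
      rwa [hcomp] at this
    · intro ha
      have h1 : adj.counit.app ω ≫ (a • 𝟙 ω) = 0 := by rw [hcomp, ha]
      obtain ⟨g, hg⟩ := Triangle.yoneda_exact₂ _ hT (a • 𝟙 ω) h1
      change C ⟶ ω at g
      change a • 𝟙 ω = v ≫ g at hg
      refine ⟨g, ?_⟩
      apply t.injective
      change t (Λ g) = a • 𝟙 ω
      rw [hg]
      exact t.apply_symm_apply _
  exact ⟨(LinearEquiv.ofInjective Λ hinj).trans (LinearEquiv.ofEq _ _ hrange)⟩

end cone

section final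

variable [IsLocalRing A]

include hω adj in
theorem triangle_quotient_finiteLength (hn : Dual.IsNormalized A ω) (hIl : IsFiniteLength A I)
    (E : Type u) [AddCommGroup E] [Module A E]
    (e : IsLocalRing.ResidueField A →ₗ[A] E) (he : InjHull.IsInjectiveHull e) :
    ∃ (u : (Res A (A ⧸ I)).obj (R.obj ω) ⟶ ω) (v : ω ⟶ Dual.inD A (I →ₗ[A] E))
      (w : Dual.inD A (I →ₗ[A] E) ⟶ ((Res A (A ⧸ I)).obj (R.obj ω))⟦(1 : ℤ)⟧),
      Triangle.mk u v w ∈ distTriang (Dual.D A) := by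
  obtain ⟨C, v, w, hT⟩ := distinguished_cocone_triangle (adj.counit.app ω)
  -- `D(C) ≅ I[0]`
  have hDC : Nonempty ((RHomR A C).obj ω ≅ Dual.inD A I) := by
    obtain ⟨e0⟩ := nonempty_extLinEquiv C ω 0
    obtain ⟨e1⟩ := nonempty_hom_cone_equiv I R adj ω hω C v w hT
    refine nonempty_iso_inD_of_HD _ I (fun j hj => ?_)
      ((e0.trans (homIsoLinEquiv C ((shiftFunctorZero (Dual.D A) ℤ).app ω))).trans e1)
    obtain ⟨ej⟩ := nonempty_extLinEquiv C ω j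
    haveI := subsingleton_hom_cone I R adj ω hω C v w hT j hj
    exact ej.toEquiv.subsingleton
  obtain ⟨eDC⟩ := hDC
  -- finite cohomology of `C`
  have hfinX : ∀ i : ℤ, Module.Finite A (Dual.HD A ((Res A (A ⧸ I)).obj (R.obj ω)) i) := by
    have hN : ∀ i : ℤ, Module.Finite A (Dual.HD A (NB A (A ⧸ I)) i) :=
      finite_HD_of_iso (jB A (A ⧸ I)) (fun i => finite_HD_inD (A ⧸ I) i)
    exact finite_HD_of_iso ((rho R adj).app ω).symm (fun i => finite_HD_RHomR ω hω _ hN i)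
  have hfinC : ∀ i : ℤ, Module.Finite A (Dual.HD A C i) :=
    finite_HD_obj₃ _ hT hfinX hω.finite_cohomology
  obtain ⟨ebi⟩ := nonempty_bidual_iso ω hω C hfinC
  -- `D(I[0]) ≅ Hom(I, E)[0]`
  obtain ⟨hv, ⟨eI⟩⟩ := Groth.Agent.H4.US24.S1749 ω hω hn E e he I hIl
  have hDI : Nonempty ((RHomR A (Dual.inD A I)).obj ω ≅ Dual.inD A (I →ₗ[A] E)) := by
    obtain ⟨e0⟩ := nonempty_extLinEquiv (Dual.inD A I) ω 0
    refine nonempty_iso_inD_of_HD _ _ (fun j hj => ?_)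
      ((e0.trans (homIsoLinEquiv _ ((shiftFunctorZero (Dual.D A) ℤ).app ω))).trans eI)
    obtain ⟨ej⟩ := nonempty_extLinEquiv (Dual.inD A I) ω j
    haveI := hv j hj
    exact ej.toEquiv.subsingleton
  obtain ⟨eDI⟩ := hDI
  let ιC : C ≅ Dual.inD A (I →ₗ[A] E) :=
    ebi.symm ≪≫ (((DTen.RHom A).mapIso eDC.op).app ω).symm ≪≫ eDI
  refine ⟨adj.counit.app ω, v ≫ ιC.hom, ιC.inv ≫ w, ?_⟩
  refine isomorphic_distinguished _ hT _
    (Triangle.isoMk _ _ (Iso.refl _) (Iso.refl _) ιC.symm ?_ ?_ ?_)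
  · change adj.counit.app ω ≫ 𝟙 _ = 𝟙 _ ≫ adj.counit.app ω
    rw [comp_id, id_comp]
  · change (v ≫ ιC.hom) ≫ ιC.inv = 𝟙 _ ≫ v
    rw [assoc, Iso.hom_inv_id, comp_id, id_comp]
  · change (ιC.inv ≫ w) ≫ (𝟙 _)⟦(1 : ℤ)⟧' = ιC.inv ≫ w
    rw [CategoryTheory.Functor.map_id, comp_id]

end final

end main

end Groth.Agent.H4.US25
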