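import Mathlib
import Groth.Prelude.Def_DualLC
import Groth.Agent.H4.GM5
import Groth.Agent.S7048
import Groth.Agent.S7050
import Groth.Agent.Lib.Helper9.ChevMod
import Groth.Agent.H4.US25

set_option autoImplicit false
universe u
open CategoryTheory Category Limits Pretriangulated Opposite ZeroObject

namespace Groth.Agent.H4.Cof1

attribute [local instance] HasDerivedCategory.standard

open DRing DerivedCategory Groth.Agent.H4.DComp Groth.Agent.H4.DCompl1 Groth.Agent.H4.DCompl2
  Groth.Agent.H4.DThick Groth.Agent.H4.ProjAmp Groth.Agent.H4.DCompl3 Groth.Agent.H4.DCompl4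
  Groth.Agent.H4.GM3 Groth.Agent.H4.GM4 Groth.Agent.H4.GM1 Groth.Agent.H4.GM5
  Groth.Agent.H4.DCompl6

variable {A : Type u} [CommRing A]

/-- objects with finite cohomology over an adically complete Noetherian ring are derived
complete. -/
theorem isDerivedComplete_of_finite [IsNoetherianRing A] (I : Ideal A) [IsAdicComplete I A]
    (X : Dual.D A) (hX : ∀ i : ℤ, Module.Finite A (Dual.HD A X i)) : IsDerivedComplete I X := by
  rw [Groth.Agent.S7050.result I X]
  intro i
  haveI := hX i
  haveI := Groth.Agent.H9.ChevMod.isAdicComplete_of_finite A I (Dual.HD A X i)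
  exact Groth.Agent.S7048.result I (Dual.HD A X i)

/-- the unit is an isomorphism on derived complete objects. -/
theorem isIso_unit_of_isDerivedComplete (I : Ideal A) [HasDerivedCompletion I] (X : Dual.D A)
    (hX : IsDerivedComplete I X) : IsIso (toDerivedCompletion I X) := by
  let Y : DComp I := ⟨X, hX⟩
  exact Adjunction.isIso_unit_app_of_iso (derivedCompletionAdj I) (X := Y) (Iso.refl _)

attribute [local instance] hasRgammaI

/-- Greenlees–May, first half: `RΓ_I(K → K^∧)` is an isomorphism. -/
theorem isIso_rgamma_map_unit [IsNoetherianRing A] (I : Ideal A) [DRing.HasRgammaI I]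
    [DRing.HasDerivedCompletion I] (K : Dual.D A) :
    IsIso ((DRing.RgammaI I).map (toDerivedCompletion I K)) := by
  obtain ⟨s, hs⟩ := (IsNoetherian.noetherian I : I.FG)
  subst hs
  obtain ⟨M, b, c, hT⟩ := distinguished_cocone_triangle
    (toDerivedCompletion (Ideal.span (s : Set A)) K)
  have hM : LOrth (Ideal.span (s : Set A)) M :=
    lorth_cone _ _ b c hT (fun C' hC' => unit_bijective _ K C' hC')
  have hM1 : IsZero ((DRing.RgammaI (Ideal.span (s : Set A))).obj M) :=
    (isZero_rgamma_iff_lorth s M).2 hM
  exact (isIso_map_mor₁_iff _ _ hT).2 hM1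

/-- Greenlees–May, second half: the completion of `RΓ_I K → K` is an isomorphism. -/
theorem isIso_completion_map_eps [IsNoetherianRing A] (I : Ideal A) [DRing.HasRgammaI I]
    [DRing.HasDerivedCompletion I] (K : Dual.D A) :
    IsIso ((derivedCompletion I).map ((DRing.RgammaIε I).app K)) := by
  obtain ⟨s, hs⟩ := (IsNoetherian.noetherian I : I.FG)
  subst hs
  set I : Ideal A := Ideal.span (s : Set A) with hI
  obtain ⟨E, b, c, hT⟩ := distinguished_cocone_triangle ((DRing.RgammaIε I).app K)
  have hE : IsZero ((DRing.RgammaI I).obj E) :=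
    (isIso_map_mor₁_iff I _ hT).1 (Groth.Agent.H4.RG11.isIso_map_eps I K)
  have hE' : LOrth I E := (isZero_rgamma_iff_lorth s E).1 hE
  have hEz : IsZero ((derivedCompletion I).obj E).obj := by
    have hη : toDerivedCompletion I E = 0 := hE' _ ((derivedCompletion I).obj E).property _
    rw [IsZero.iff_id_eq_zero]
    apply (unit_bijective I E _ ((derivedCompletion I).obj E).property).1
    change toDerivedCompletion I E ≫ 𝟙 _ = toDerivedCompletion I E ≫ 0
    rw [hη, zero_comp, zero_comp]
  obtain ⟨δ, hT'⟩ := exists_distinguished_completion I _ hT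
  haveI h1 : IsIso ((derivedCompletion I).map ((DRing.RgammaIε I).app K)).hom :=
    (Triangle.isZero₃_iff_isIso₁ _ hT').1 hEz
  haveI h2 : IsIso ((ObjectProperty.ι (IsDerivedComplete I)).map
      ((derivedCompletion I).map ((DRing.RgammaIε I).app K))) := h1
  exact isIso_of_fully_faithful (ObjectProperty.ι (IsDerivedComplete I)) _

section Pr

variable [IsNoetherianRing A] (I : Ideal A) [HasDerivedCompletion I]

/-- the completion has finite cohomology -/
def FinCompl (X : Dual.D A) : Prop :=
  ∀ i : ℤ, Module.Finite A (Dual.HD A ((derivedCompletion I).obj X).obj i)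

lemma isZero_completion_of_isZero {X : Dual.D A} (hX : IsZero X) :
    IsZero ((derivedCompletion I).obj X).obj := by
  rw [IsZero.iff_id_eq_zero]
  apply (unit_bijective I X _ ((derivedCompletion I).obj X).property).1
  exact hX.eq_of_src _ _

/-- completion commutes with shifts -/
lemma nonempty_completion_shift_iso (X : Dual.D A) (n : ℤ) :
    Nonempty (((derivedCompletion I).obj (X⟦n⟧)).obj ≅ (((derivedCompletion I).obj X).obj)⟦n⟧) := by
  letI : (derivedCompletion I).CommShift ℤ := (derivedCompletionAdj I).leftAdjointCommShift ℤ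
  exact ⟨(ObjectProperty.ι (IsDerivedComplete I)).mapIso
    (((derivedCompletion I).commShiftIso n).app X) ≪≫
    ((ObjectProperty.ι (IsDerivedComplete I)).commShiftIso n).app _⟩

theorem isTriSub_finCompl : IsTriSub (FinCompl I) where
  iso := fun {K K'} e h i => by
    haveI := h i
    let e' : Dual.HD A ((derivedCompletion I).obj K).obj i ≃ₗ[A]
        Dual.HD A ((derivedCompletion I).obj K').obj i :=
      ((homologyFunctor (ModuleCat.{u} A) i).mapIso
        ((ObjectProperty.ι (IsDerivedComplete I)).mapIso
          ((derivedCompletion I).mapIso e))).toLinearEquiv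
    exact Module.Finite.equiv e'
  zero := fun K hK i => by
    haveI : Subsingleton (Dual.HD A ((derivedCompletion I).obj K).obj i) :=
      ModuleCat.subsingleton_of_isZero
        ((homologyFunctor (ModuleCat.{u} A) i).map_isZero (isZero_completion_of_isZero I hK))
    infer_instance
  shift := fun K n h i => by
    obtain ⟨e⟩ := nonempty_completion_shift_iso I K n
    haveI := Groth.Agent.H4.DZ1.finite_HD_shift _ h n i
    exact Module.Finite.equiv ((homologyFunctor (ModuleCat.{u} A) i).mapIso e).toLinearEquiv.symm
  ext₂ := fun T hT h1 h3 i => by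
    obtain ⟨δ, hT'⟩ := exists_distinguished_completion I T hT
    exact Groth.Agent.H4.US25.finite_HD_obj₃ _ (inv_rot_of_distTriang _ hT')
      (fun j => Groth.Agent.H4.DZ1.finite_HD_shift _ h3 (-1) j) h1 i

end Pr

end Groth.Agent.H4.Cof1
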