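import Mathlib
import Groth.Agent.H4.PC1
import Groth.Agent.H4.DThick

set_option autoImplicit false
universe u
open CategoryTheory Category Limits Pretriangulated

namespace Groth.Agent.H4.LD2

section General

variable {C : Type*} [Category C] [HasZeroObject C] [Preadditive C] [HasShift C ℤ]
  [∀ n : ℤ, (shiftFunctor C n).Additive] [Pretriangulated C]
  {𝒜 : Type*} [Category 𝒜] [Abelian 𝒜]

/-- precomposing a homological functor with a shift gives a homological functor -/
lemma isHomological_shift_comp (F : C ⥤ 𝒜) [F.IsHomological] (n : ℤ) :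
    (shiftFunctor C n ⋙ F).IsHomological := by
  letI : F.ShiftSequence ℤ := Functor.ShiftSequence.tautological F ℤ
  haveI : (shiftFunctor C n ⋙ F).PreservesZeroMorphisms := inferInstance
  exact ⟨fun T hT => F.homologySequence_exact₂ T hT n⟩

variable {F G : C ⥤ 𝒜} [F.IsHomological] [G.IsHomological] (τ : F ⟶ G)

lemma map_comp_zero (F : C ⥤ 𝒜) [F.PreservesZeroMorphisms] {X Y Z : C} (f : X ⟶ Y) (g : Y ⟶ Z)
    (h : f ≫ g = 0) : F.map f ≫ F.map g = 0 := by
  rw [← F.map_comp, h, F.map_zero]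

lemma exact_map_of_dist (F : C ⥤ 𝒜) [F.IsHomological] (T : Triangle C) (hT : T ∈ distTriang C) :
    (ShortComplex.mk (F.map T.mor₁) (F.map T.mor₂)
      (by rw [← F.map_comp, comp_distTriang_mor_zero₁₂ _ hT, F.map_zero])).Exact :=
  F.map_distinguished_exact T hT

/-- five lemma for a natural transformation of homological functors -/
theorem isIso_app_obj₂ (T : Triangle C) (hT : T ∈ distTriang C)
    (h0 : Epi (τ.app (T.obj₃⟦(-1 : ℤ)⟧))) (h1 : IsIso (τ.app T.obj₁))
    (h3 : IsIso (τ.app T.obj₃)) (h4 : Mono (τ.app (T.obj₁⟦(1 : ℤ)⟧))) :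
    IsIso (τ.app T.obj₂) := by
  have hR := rot_of_distTriang T hT
  have hI := inv_rot_of_distTriang T hT
  haveI := h1
  haveI := h3
  haveI : Epi (τ.app T.obj₂) :=
    Groth.Agent.H4.PC.four_epi (F.map T.mor₁) (F.map T.mor₂) (F.map T.mor₃)
      (G.map T.mor₁) (G.map T.mor₂) (G.map T.mor₃)
      (τ.app T.obj₁) (τ.app T.obj₂) (τ.app T.obj₃) (τ.app (T.obj₁⟦(1 : ℤ)⟧))
      (τ.naturality _) (τ.naturality _) (τ.naturality _)
      (map_comp_zero F _ _ (comp_distTriang_mor_zero₂₃ _ hT))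
      (exact_map_of_dist F T.rotate hR)
      (map_comp_zero G _ _ (comp_distTriang_mor_zero₁₂ _ hT))
      (exact_map_of_dist G T hT)
      (map_comp_zero G _ _ (comp_distTriang_mor_zero₂₃ _ hT))
      (by infer_instance) (by infer_instance) h4
  haveI : Mono (τ.app T.obj₂) :=
    Groth.Agent.H4.PC.four_mono (F.map T.invRotate.mor₁) (F.map T.mor₁) (F.map T.mor₂)
      (G.map T.invRotate.mor₁) (G.map T.mor₁) (G.map T.mor₂)
      (τ.app (T.obj₃⟦(-1 : ℤ)⟧)) (τ.app T.obj₁) (τ.app T.obj₂) (τ.app T.obj₃)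
      (τ.naturality _) (τ.naturality _) (τ.naturality _)
      (map_comp_zero F _ _ (comp_distTriang_mor_zero₁₂ _ hI))
      (map_comp_zero F _ _ (comp_distTriang_mor_zero₁₂ _ hT))
      (exact_map_of_dist F T hT)
      (map_comp_zero G _ _ (comp_distTriang_mor_zero₁₂ _ hI))
      (exact_map_of_dist G T.invRotate hI)
      h0 (show Mono (τ.app T.obj₁) from inferInstance) (by infer_instance)
  exact isIso_of_mono_of_epi _

omit [F.IsHomological] [G.IsHomological] in
lemma isIso_app_of_iso {X Y : C} (e : X ≅ Y) (h : IsIso (τ.app X)) : IsIso (τ.app Y) := by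
  have : τ.app Y = F.map e.inv ≫ τ.app X ≫ G.map e.hom := by
    rw [τ.naturality_assoc, ← G.map_comp, e.inv_hom_id, G.map_id, comp_id]
  rw [this]
  infer_instance

omit [G.IsHomological] [F.IsHomological] in
lemma isIso_app_of_isZero [F.PreservesZeroMorphisms] [G.PreservesZeroMorphisms] {X : C}
    (hX : IsZero X) : IsIso (τ.app X) := by
  have h1 : IsZero (F.obj X) := F.map_isZero hX
  have h2 : IsZero (G.obj X) := G.map_isZero hX
  exact ⟨0, h1.eq_of_src _ _, h2.eq_of_src _ _⟩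

/-- the objects all of whose shifts are sent to isomorphisms by `τ` -/
def IsoOn (X : C) : Prop := ∀ j : ℤ, IsIso (τ.app (X⟦j⟧))

omit [F.IsHomological] [G.IsHomological] in
lemma IsoOn.of_iso {X Y : C} (e : X ≅ Y) (h : IsoOn τ X) : IsoOn τ Y := fun j =>
  isIso_app_of_iso τ ((shiftFunctor C j).mapIso e) (h j)

omit [F.IsHomological] [G.IsHomological] in
lemma IsoOn.shift {X : C} (h : IsoOn τ X) (n : ℤ) : IsoOn τ (X⟦n⟧) := fun j =>
  isIso_app_of_iso τ ((shiftFunctorAdd' C n j (n + j) rfl).app X) (h (n + j))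

lemma IsoOn.ext₂ (T : Triangle C) (hT : T ∈ distTriang C) (h1 : IsoOn τ T.obj₁)
    (h3 : IsoOn τ T.obj₃) : IsoOn τ T.obj₂ := by
  intro j
  haveI := isHomological_shift_comp F j
  haveI := isHomological_shift_comp G j
  have key := isIso_app_obj₂ (Functor.whiskerLeft (shiftFunctor C j) τ) T hT
  refine key ?_ (h1 j) (h3 j) ?_
  · haveI : IsIso (τ.app ((T.obj₃⟦(-1 : ℤ)⟧)⟦j⟧)) := (h3.shift τ (-1)) j
    change Epi (τ.app ((T.obj₃⟦(-1 : ℤ)⟧)⟦j⟧))
    infer_instance
  · haveI : IsIso (τ.app ((T.obj₁⟦(1 : ℤ)⟧)⟦j⟧)) := (h1.shift τ 1) j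
    change Mono (τ.app ((T.obj₁⟦(1 : ℤ)⟧)⟦j⟧))
    infer_instance

end General

section D

attribute [local instance] HasDerivedCategory.standard

variable {R : Type u} [CommRing R] {𝒜 : Type*} [Category 𝒜] [Abelian 𝒜]
  {F G : Dual.D R ⥤ 𝒜} [F.IsHomological] [G.IsHomological] (τ : F ⟶ G)

theorem isTriSub_isoOn : Groth.Agent.H4.DThick.IsTriSub (IsoOn τ) where
  iso e h := h.of_iso τ e
  zero _ hK := fun j => isIso_app_of_isZero τ ((shiftFunctor (Dual.D R) j).map_isZero hK)
  shift _ n h := h.shift τ n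
  ext₂ T hT h1 h3 := IsoOn.ext₂ τ T hT h1 h3

end D

end Groth.Agent.H4.LD2
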