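import Mathlib
import Groth.Prelude.Def_DualLC
import Groth.Agent.H4.DZ3
import Groth.Agent.H4.INV2

set_option autoImplicit false
universe u
open CategoryTheory Category Limits Pretriangulated

namespace Groth.Agent.H4.LD1

attribute [local instance] HasDerivedCategory.standard
attribute [local instance] Groth.Agent.H4.LK4.hasLTen Groth.Agent.H4.LK5.hasLTen₃
  Groth.Agent.H4.KI7.isSymMonoidal Groth.Agent.H4.KI6.hasRHom

open DerivedCategory DTen

variable {A : Type u} [CommRing A]

/-- the short complex associated to a submodule -/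
noncomputable def subSC {M : Type u} [AddCommGroup M] [Module A M] (N : Submodule A M) :
    ShortComplex (ModuleCat.{u} A) :=
  ShortComplex.mk (ModuleCat.ofHom N.subtype) (ModuleCat.ofHom N.mkQ) (by
    ext x
    simp)

lemma subSC_shortExact {M : Type u} [AddCommGroup M] [Module A M] (N : Submodule A M) :
    (subSC N).ShortExact := by
  refine ModuleCat.shortComplex_shortExact _ ?_ N.injective_subtype N.mkQ_surjective
  intro (x : M)
  change N.mkQ x = 0 ↔ x ∈ Set.range N.subtype
  rw [Submodule.mkQ_apply, Submodule.Quotient.mk_eq_zero]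
  simp

/-- Hom out of a distinguished triangle: exactness in the middle. -/
lemma subsingleton_hom_obj₂ {C : Type*} [Category C] [Preadditive C] [HasZeroObject C] [HasShift C ℤ]
    [∀ n : ℤ, (shiftFunctor C n).Additive] [Pretriangulated C]
    (T : Triangle C) (hT : T ∈ distTriang C) {Y : C}
    (h1 : Subsingleton (T.obj₁ ⟶ Y)) (h3 : Subsingleton (T.obj₃ ⟶ Y)) :
    Subsingleton (T.obj₂ ⟶ Y) := by
  refine ⟨fun f g => ?_⟩
  have key : ∀ f : T.obj₂ ⟶ Y, f = 0 := by
    intro f
    obtain ⟨g, rfl⟩ := Triangle.yoneda_exact₂ T hT f (Subsingleton.elim _ _)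
    rw [Subsingleton.elim g 0, comp_zero]
  rw [key f, key g]

section Local

variable [IsLocalRing A]

/-- a simple module over a local ring is isomorphic to the residue field -/
lemma nonempty_linearEquiv_residueField_of_isSimpleModule (S : Type u) [AddCommGroup S] [Module A S]
    [hS : IsSimpleModule A S] : Nonempty (S ≃ₗ[A] IsLocalRing.ResidueField A) := by
  obtain ⟨I, hI, ⟨e⟩⟩ := (isSimpleModule_iff_quot_maximal (R := A) (M := S)).1 hS
  obtain rfl := IsLocalRing.eq_maximalIdeal hI
  exact ⟨e⟩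

variable (ω : Dual.D A)

/-- for a normalized complex, maps from finite length modules to `ω[i]` vanish for `i ≠ 0` -/
theorem subsingleton_hom_of_isFiniteLength (hn : Dual.IsNormalized A ω) (N : Type u) [AddCommGroup N]
    [Module A N] (hN : IsFiniteLength A N) (i : ℤ) (hi : i ≠ 0) :
    Subsingleton (Dual.inD A N ⟶ ω⟦i⟧) := by
  induction hN with
  | of_subsingleton =>
    rename_i M _ _ _
    have hz : IsZero (Dual.inD A M) := (singleFunctor (ModuleCat.{u} A) 0).map_isZero
      (ModuleCat.isZero_of_subsingleton _)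
    exact ⟨fun f g => hz.eq_of_src f g⟩
  | @of_simple_quotient M _ _ N' _ hN' ih =>
    obtain ⟨e⟩ := nonempty_linearEquiv_residueField_of_isSimpleModule (A := A) (M ⧸ N')
    have hT := (subSC_shortExact N').singleTriangle_distinguished
    have h := hn i hi
    let e' : (singleFunctor (ModuleCat.{u} A) 0).obj (ModuleCat.of A (M ⧸ N')) ≅
        Dual.inD A (IsLocalRing.ResidueField A) :=
      (singleFunctor (ModuleCat.{u} A) 0).mapIso e.toModuleIso
    have h3 : Subsingleton ((singleFunctor (ModuleCat.{u} A) 0).obj (ModuleCat.of A (M ⧸ N')) ⟶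
        ω⟦i⟧) := by
      refine ⟨fun f g => ?_⟩
      rw [← cancel_epi e'.inv]
      exact Subsingleton.elim _ _
    exact subsingleton_hom_obj₂ _ hT ih h3

end Local

section Exact

variable (ω : Dual.D A)

/-- precomposition with `inD f`, as a linear map -/
noncomputable def preLin {X Y : ModuleCat.{u} A} (f : X ⟶ Y) :
    ((singleFunctor (ModuleCat.{u} A) 0).obj Y ⟶ ω) →ₗ[A]
      ((singleFunctor (ModuleCat.{u} A) 0).obj X ⟶ ω) :=
  Linear.leftComp A ω ((singleFunctor (ModuleCat.{u} A) 0).map f)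

@[simp] lemma preLin_apply {X Y : ModuleCat.{u} A} (f : X ⟶ Y)
    (φ : (singleFunctor (ModuleCat.{u} A) 0).obj Y ⟶ ω) :
    preLin ω f φ = (singleFunctor (ModuleCat.{u} A) 0).map f ≫ φ := rfl

variable {S : ShortComplex (ModuleCat.{u} A)} (hS : S.ShortExact)

include hS

lemma preLin_exact : Function.Exact (preLin ω S.g) (preLin ω S.f) := by
  intro φ
  constructor
  · intro h
    obtain ⟨g, hg⟩ := Triangle.yoneda_exact₂ _ hS.singleTriangle_distinguished φ h
    exact ⟨g, hg.symm⟩
  · rintro ⟨g, rfl⟩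
    change (singleFunctor (ModuleCat.{u} A) 0).map S.f ≫
      (singleFunctor (ModuleCat.{u} A) 0).map S.g ≫ g = 0
    rw [← Functor.map_comp_assoc, S.zero, Functor.map_zero, zero_comp]

lemma preLin_g_injective
    (h : Subsingleton ((singleFunctor (ModuleCat.{u} A) 0).obj S.X₁ ⟶ ω⟦(-1 : ℤ)⟧)) :
    Function.Injective (preLin ω S.g) := by
  rw [← LinearMap.ker_eq_bot, eq_bot_iff]
  intro φ hφ
  rw [LinearMap.mem_ker] at hφ
  obtain ⟨g, hg⟩ := Triangle.yoneda_exact₃ _ hS.singleTriangle_distinguished φ hφ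
  haveI : Subsingleton (((singleFunctor (ModuleCat.{u} A) 0).obj S.X₁)⟦(1 : ℤ)⟧ ⟶ ω) :=
    (Groth.Agent.H4.DZ2.shiftHomLinEquiv _ ω 1 (-1) (by simp)).toEquiv.subsingleton
  rw [Submodule.mem_bot, hg]
  have hg0 : g = 0 := this.elim _ _
  rw [hg0, comp_zero]
  rfl

lemma preLin_f_surjective
    (h : Subsingleton ((singleFunctor (ModuleCat.{u} A) 0).obj S.X₃ ⟶ ω⟦(1 : ℤ)⟧)) :
    Function.Surjective (preLin ω S.f) := by
  intro ψ
  have hT := inv_rot_of_distTriang _ hS.singleTriangle_distinguished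
  haveI : Subsingleton (((singleFunctor (ModuleCat.{u} A) 0).obj S.X₃)⟦(-1 : ℤ)⟧ ⟶ ω) :=
    (Groth.Agent.H4.DZ2.shiftHomLinEquiv _ ω (-1) 1 (by simp)).toEquiv.subsingleton
  obtain ⟨g, hg⟩ := Triangle.yoneda_exact₂ _ hT ψ (this.elim _ _)
  exact ⟨g, hg.symm⟩

lemma length_hom_eq_add
    (h1 : Subsingleton ((singleFunctor (ModuleCat.{u} A) 0).obj S.X₁ ⟶ ω⟦(-1 : ℤ)⟧))
    (h3 : Subsingleton ((singleFunctor (ModuleCat.{u} A) 0).obj S.X₃ ⟶ ω⟦(1 : ℤ)⟧)) :
    Module.length A ((singleFunctor (ModuleCat.{u} A) 0).obj S.X₂ ⟶ ω) =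
      Module.length A ((singleFunctor (ModuleCat.{u} A) 0).obj S.X₃ ⟶ ω) +
      Module.length A ((singleFunctor (ModuleCat.{u} A) 0).obj S.X₁ ⟶ ω) :=
  Module.length_eq_add_of_exact (preLin ω S.g) (preLin ω S.f) (preLin_g_injective ω hS h1)
    (preLin_f_surjective ω hS h3) (preLin_exact ω hS)

end Exact

section Length

variable [IsLocalRing A] (ω : Dual.D A)

/-- the length of `Hom(N, ω)` for finite length `N` -/
theorem length_hom_of_isFiniteLength (hn : Dual.IsNormalized A ω) (N : Type u) [AddCommGroup N]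
    [Module A N] (hN : IsFiniteLength A N) :
    Module.length A (Dual.inD A N ⟶ ω) =
      Module.length A (Dual.inD A (IsLocalRing.ResidueField A) ⟶ ω) * Module.length A N := by
  induction hN with
  | of_subsingleton =>
    rename_i M _ _ _
    have hz : IsZero (Dual.inD A M) := (singleFunctor (ModuleCat.{u} A) 0).map_isZero
      (ModuleCat.isZero_of_subsingleton _)
    haveI : Subsingleton (Dual.inD A M ⟶ ω) := ⟨fun f g => hz.eq_of_src f g⟩
    rw [Module.length_eq_zero, Module.length_eq_zero (R := A) (M := M), mul_zero]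
  | @of_simple_quotient M _ _ N' _ hN' ih =>
    obtain ⟨e⟩ := nonempty_linearEquiv_residueField_of_isSimpleModule (A := A) (M ⧸ N')
    have hQ : IsFiniteLength A (M ⧸ N') := by
      rw [← Module.length_ne_top_iff, Module.length_eq_one]
      exact ENat.one_ne_top
    have h1 := subsingleton_hom_of_isFiniteLength ω hn N' hN' (-1) (by omega)
    have h3 := subsingleton_hom_of_isFiniteLength ω hn (M ⧸ N') hQ 1 (by omega)
    have hlen := length_hom_eq_add ω (subSC_shortExact N') h1 h3
    let e' : (singleFunctor (ModuleCat.{u} A) 0).obj (ModuleCat.of A (M ⧸ N')) ≅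
        Dual.inD A (IsLocalRing.ResidueField A) :=
      (singleFunctor (ModuleCat.{u} A) 0).mapIso e.toModuleIso
    have hq : Module.length A ((singleFunctor (ModuleCat.{u} A) 0).obj (subSC N').X₃ ⟶ ω) =
        Module.length A (Dual.inD A (IsLocalRing.ResidueField A) ⟶ ω) :=
      (Groth.Agent.H4.DZ2.isoHomLinEquiv e' ω).length_eq
    have hM : Module.length A M = Module.length A N' + Module.length A (M ⧸ N') :=
      Module.length_eq_add_of_exact N'.subtype N'.mkQ N'.injective_subtype N'.mkQ_surjective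
        (LinearMap.exact_subtype_mkQ N')
    rw [Module.length_eq_one (R := A) (M := M ⧸ N')] at hM
    change Module.length A ((singleFunctor (ModuleCat.{u} A) 0).obj (subSC N').X₂ ⟶ ω) = _
    rw [hlen, hq, hM, mul_add, mul_one, add_comm]
    congr 1

/-- a finite module killed by the maximal ideal has finite length -/
lemma isFiniteLength_of_finite_of_torsion [IsNoetherianRing A] (V : Type u) [AddCommGroup V]
    [Module A V] [Module.Finite A V]
    (h : ∀ a ∈ IsLocalRing.maximalIdeal A, ∀ v : V, a • v = 0) : IsFiniteLength A V := by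
  have hM : Module.IsTorsionBySet A V (IsLocalRing.maximalIdeal A : Set A) := fun v a => h a a.2 v
  letI := hM.module
  letI : Field (A ⧸ IsLocalRing.maximalIdeal A) := Ideal.Quotient.field _
  haveI : IsScalarTower A (A ⧸ IsLocalRing.maximalIdeal A) V := hM.isScalarTower
  haveI : Module.Finite (A ⧸ IsLocalRing.maximalIdeal A) V :=
    Module.Finite.of_restrictScalars_finite A (A ⧸ IsLocalRing.maximalIdeal A) V
  haveI : IsArtinian (A ⧸ IsLocalRing.maximalIdeal A) V := inferInstance
  haveI : IsArtinian A V :=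
    isArtinian_of_surjective_algebraMap (S := A) (R := A ⧸ IsLocalRing.maximalIdeal A)
      Ideal.Quotient.mk_surjective
  rw [isFiniteLength_iff_isNoetherian_isArtinian]
  exact ⟨inferInstance, inferInstance⟩

end Length

section Conc

/-- an object with cohomology concentrated in degree `0` is a module -/
lemma nonempty_iso_inD_of_concentrated (X : Dual.D A)
    (h : ∀ i : ℤ, i ≠ 0 → Subsingleton (Dual.HD A X i)) :
    Nonempty (X ≅ Dual.inD A (Dual.HD A X 0)) := by
  haveI : X.IsGE 0 := by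
    rw [isGE_iff]
    intro i hi
    haveI := h i (by omega)
    exact ModuleCat.isZero_of_subsingleton _
  haveI : X.IsLE 0 := by
    rw [isLE_iff]
    intro i hi
    haveI := h i (by omega)
    exact ModuleCat.isZero_of_subsingleton _
  obtain ⟨Y, ⟨e⟩⟩ := exists_iso_singleFunctor_obj_of_isGE_of_isLE X 0
  let e1 : (homologyFunctor (ModuleCat.{u} A) 0).obj X ≅ Y :=
    (homologyFunctor (ModuleCat.{u} A) 0).mapIso e ≪≫
      (singleFunctorCompHomologyFunctorIso (ModuleCat.{u} A) 0).app Y
  exact ⟨e ≪≫ (singleFunctor (ModuleCat.{u} A) 0).mapIso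
    e1.symm⟩

/-- `H^0 RHom(X, Y) ≃ Hom(X, Y)` -/
lemma nonempty_HD_RHomR_zero_equiv (X Y : Dual.D A) :
    Nonempty (Dual.HD A ((RHomR A X).obj Y) 0 ≃ₗ[A] (X ⟶ Y)) := by
  obtain ⟨e⟩ := Groth.Agent.H4.DZ2.nonempty_extLinEquiv X Y 0
  exact ⟨e ≪≫ₗ Groth.Agent.H4.DZ2.homIsoLinEquiv X ((shiftFunctorZero (Dual.D A) ℤ).app Y)⟩

end Conc

section One

variable [IsLocalRing A] (ω : Dual.D A)

lemma smul_hom_residueField_eq_zero {Y : Dual.D A} (a : A) (ha : a ∈ IsLocalRing.maximalIdeal A)
    (φ : Dual.inD A (IsLocalRing.ResidueField A) ⟶ Y) : a • φ = 0 := by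
  have h0 : a • 𝟙 (ModuleCat.of A (IsLocalRing.ResidueField A)) = 0 := by
    ext x
    change a • x = 0
    obtain ⟨y, rfl⟩ := Ideal.Quotient.mk_surjective x
    change (Ideal.Quotient.mk _ (a * y)) = 0
    rw [Ideal.Quotient.eq_zero_iff_mem]
    exact Ideal.mul_mem_right _ _ ha
  have h1 : a • 𝟙 (Dual.inD A (IsLocalRing.ResidueField A)) = 0 := by
    change a • 𝟙 ((singleFunctor (ModuleCat.{u} A) 0).obj _) = 0
    rw [← CategoryTheory.Functor.map_id, ← Functor.map_smul, h0, Functor.map_zero]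
  rw [← id_comp φ, ← Linear.smul_comp, h1, zero_comp]

lemma finite_HD_inD [IsNoetherianRing A] (N : Type u) [AddCommGroup N] [Module A N] [Module.Finite A N] (i : ℤ) :
    Module.Finite A (Dual.HD A (Dual.inD A N) i) := by
  by_cases hi : i = 0
  · subst hi
    exact Module.Finite.equiv (Groth.Agent.H4.INV2.HDInDEquiv N).symm
  · haveI := Groth.Agent.H4.INV2.subsingleton_HD_inD (A := A) N i hi
    infer_instance

/-- `Hom(κ, ω)` has length one for a normalized dualizing complex. -/
theorem length_hom_residueField (hω : Dual.IsDualizing A ω) (hn : Dual.IsNormalized A ω) :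
    Module.length A (Dual.inD A (IsLocalRing.ResidueField A) ⟶ ω) = 1 := by
  haveI := hω.isNoetherianRing
  set κ := IsLocalRing.ResidueField A with hκ
  let R1 := (RHomR A (Dual.inD A κ)).obj ω
  let V := Dual.HD A R1 0
  obtain ⟨e0⟩ := nonempty_HD_RHomR_zero_equiv (Dual.inD A κ) ω
  have hconc : ∀ i : ℤ, i ≠ 0 → Subsingleton (Dual.HD A R1 i) := by
    intro i hi
    obtain ⟨e⟩ := Groth.Agent.H4.DZ2.nonempty_extLinEquiv (Dual.inD A κ) ω i
    haveI := hn i hi
    exact e.toEquiv.subsingleton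
  obtain ⟨e1⟩ := nonempty_iso_inD_of_concentrated R1 hconc
  haveI hVfin : Module.Finite A V :=
    Groth.Agent.H4.DZ3.finite_HD_RHomR ω hω (Dual.inD A κ) (finite_HD_inD κ) 0
  have hVtors : ∀ a ∈ IsLocalRing.maximalIdeal A, ∀ v : V, a • v = 0 := by
    intro a ha v
    apply e0.injective
    rw [map_smul, map_zero]
    exact smul_hom_residueField_eq_zero a ha _
  have hVfl : IsFiniteLength A V := isFiniteLength_of_finite_of_torsion V hVtors
  obtain ⟨e2⟩ := Groth.Agent.H4.DZ3.nonempty_bidual_iso ω hω (Dual.inD A κ) (finite_HD_inD κ)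
  let e3 : (RHomR A R1).obj ω ≅ (RHomR A (Dual.inD A V)).obj ω :=
    Groth.Agent.H4.HC6.RHomIso e1.symm ω
  obtain ⟨e4⟩ := nonempty_HD_RHomR_zero_equiv (Dual.inD A V) ω
  let e5 : κ ≃ₗ[A] (Dual.inD A V ⟶ ω) :=
    (Groth.Agent.H4.INV2.HDInDEquiv κ).symm ≪≫ₗ
      ((homologyFunctor (ModuleCat.{u} A) 0).mapIso (e2.symm ≪≫ e3)).toLinearEquiv ≪≫ₗ e4
  have hl1 := e5.length_eq
  rw [length_hom_of_isFiniteLength ω hn V hVfl, e0.length_eq] at hl1
  have hκ1 : Module.length A κ = 1 := by
    rw [Module.length_eq_one_iff]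
    exact isSimpleModule_iff_quot_maximal.2
      ⟨IsLocalRing.maximalIdeal A, inferInstance, ⟨LinearEquiv.refl A _⟩⟩
  rw [hκ1] at hl1
  generalize Module.length A (Dual.inD A κ ⟶ ω) = d at hl1
  cases d with
  | top => simp at hl1
  | coe d =>
    have : d * d = 1 := by exact_mod_cast hl1.symm
    have hd : d = 1 := by
      exact Nat.eq_one_of_mul_eq_one_right this
    rw [hd]
    rfl

end One

end Groth.Agent.H4.LD1
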