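import Mathlib
import Groth.Prelude.Def_DualLC
import Groth.Agent.H4.LD1
import Groth.Agent.H4.LD3
import Groth.Agent.Lib.Helper6.MatlisComplete

set_option autoImplicit false
universe u
open CategoryTheory Category Limits Pretriangulated Opposite

namespace Groth.Agent.H4.LD4

attribute [local instance] HasDerivedCategory.standard

open DerivedCategory Groth.Agent.H4.LD1 Groth.Agent.H4.LD3

variable {A : Type u} [CommRing A] [IsLocalRing A] (ω : Dual.D A)

variable {ω}

section Exact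

variable (hn : Dual.IsNormalized A ω)

include hn

/-- restriction along a surjection of finite length modules is injective -/
lemma pre_injective_of_surjective {N N'' : Type u} [AddCommGroup N] [Module A N]
    [AddCommGroup N''] [Module A N''] (p : N →ₗ[A] N'') (hp : Function.Surjective p)
    (hN : IsFiniteLength A N) {φ ψ : Dual.inD A N'' ⟶ ω} (h : inDMap p ≫ φ = inDMap p ≫ ψ) :
    φ = ψ := by
  have hK : IsFiniteLength A (LinearMap.ker p) :=
    hN.of_injective (f := (LinearMap.ker p).subtype) (LinearMap.ker p).injective_subtype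
  have h1 := subsingleton_hom_of_isFiniteLength ω hn (LinearMap.ker p) hK (-1) (by omega)
  exact preLin_g_injective ω (LinearMap.shortExact_shortComplexKer hp) h1 h

omit hn in
/-- exactness: a map killing the kernel of a surjection factors -/
lemma exists_factor_of_surjective {N N'' : Type u} [AddCommGroup N] [Module A N]
    [AddCommGroup N''] [Module A N''] (p : N →ₗ[A] N'') (hp : Function.Surjective p)
    (φ : Dual.inD A N ⟶ ω) (h : inDMap (LinearMap.ker p).subtype ≫ φ = 0) :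
    ∃ ψ : Dual.inD A N'' ⟶ ω, φ = inDMap p ≫ ψ := by
  obtain ⟨ψ, hψ⟩ := (preLin_exact ω (LinearMap.shortExact_shortComplexKer hp) φ).1 h
  exact ⟨ψ, hψ.symm⟩

/-- `φ` vanishes on the submodule `K` -/
def Kills {N : Type u} [AddCommGroup N] [Module A N] (φ : Dual.inD A N ⟶ ω)
    (K : Submodule A N) : Prop := inDMap K.subtype ≫ φ = 0

omit hn in
lemma Kills.mono {N : Type u} [AddCommGroup N] [Module A N] {φ : Dual.inD A N ⟶ ω}
    {K K' : Submodule A N} (h : Kills φ K) (hle : K' ≤ K) : Kills φ K' := by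
  unfold Kills at h ⊢
  have : K'.subtype = K.subtype ∘ₗ Submodule.inclusion hle := rfl
  rw [this, inDMap_comp, assoc, h, comp_zero]

omit hn in
lemma kills_bot {N : Type u} [AddCommGroup N] [Module A N] (φ : Dual.inD A N ⟶ ω) :
    Kills φ ⊥ := by
  unfold Kills
  have : (⊥ : Submodule A N).subtype = 0 := by
    ext ⟨x, hx⟩
    rw [Submodule.mem_bot] at hx
    simpa using hx
  rw [this, inDMap_zero, zero_comp]

lemma kills_range {P N : Type u} [AddCommGroup P] [Module A P] [AddCommGroup N] [Module A N]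
    (hP : IsFiniteLength A P) (p : P →ₗ[A] N) (φ : Dual.inD A N ⟶ ω) (h : inDMap p ≫ φ = 0) :
    Kills φ (LinearMap.range p) := by
  unfold Kills
  have hp : p = (LinearMap.range p).subtype ∘ₗ p.rangeRestrict := rfl
  rw [hp, inDMap_comp, assoc] at h
  refine pre_injective_of_surjective hn p.rangeRestrict p.surjective_rangeRestrict hP ?_
  rw [h, comp_zero]

lemma kills_sup {N : Type u} [AddCommGroup N] [Module A N] (hN : IsFiniteLength A N)
    {φ : Dual.inD A N ⟶ ω} {K₁ K₂ : Submodule A N} (h₁ : Kills φ K₁) (h₂ : Kills φ K₂) :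
    Kills φ (K₁ ⊔ K₂) := by
  unfold Kills at h₁ h₂ ⊢
  set K := K₁ ⊔ K₂ with hK
  set ψ := inDMap K.subtype ≫ φ with hψ
  -- `K₁` inside `K`
  let K₁' : Submodule A K := Submodule.comap K.subtype K₁
  let i₁ : K₁ →ₗ[A] K := Submodule.inclusion le_sup_left
  let i₂ : K₂ →ₗ[A] K := Submodule.inclusion le_sup_right
  have hker : LinearMap.ker K₁'.mkQ = K₁' := Submodule.ker_mkQ K₁'
  -- ψ kills K₁'
  have hψ1 : inDMap (LinearMap.ker K₁'.mkQ).subtype ≫ ψ = 0 := by
    have hfac : K.subtype ∘ₗ (LinearMap.ker K₁'.mkQ).subtype =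
        K₁.subtype ∘ₗ (LinearMap.codRestrict K₁ (K.subtype ∘ₗ (LinearMap.ker K₁'.mkQ).subtype)
          (fun x => by
            have hx : (x : K) ∈ K₁' := by
              have := x.2
              rw [LinearMap.mem_ker, Submodule.mkQ_apply, Submodule.Quotient.mk_eq_zero] at this
              exact this
            exact hx)) := rfl
    rw [hψ, ← assoc, ← inDMap_comp, hfac, inDMap_comp, assoc, h₁, comp_zero]
  obtain ⟨ψ'', hψ''⟩ := exists_factor_of_surjective K₁'.mkQ K₁'.mkQ_surjective ψ hψ1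
  have hsurj : Function.Surjective (K₁'.mkQ ∘ₗ i₂) := by
    intro y
    obtain ⟨⟨k, hk⟩, rfl⟩ := K₁'.mkQ_surjective y
    obtain ⟨k₁, hk₁, k₂, hk₂, rfl⟩ := Submodule.mem_sup.1 hk
    refine ⟨⟨k₂, hk₂⟩, ?_⟩
    rw [LinearMap.comp_apply, Submodule.mkQ_apply, Submodule.mkQ_apply, Submodule.Quotient.eq]
    change (⟨k₂, _⟩ : K) - ⟨k₁ + k₂, hk⟩ ∈ Submodule.comap K.subtype K₁
    rw [Submodule.mem_comap]
    change k₂ - (k₁ + k₂) ∈ K₁
    have : k₂ - (k₁ + k₂) = -k₁ := by abel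
    rw [this]
    exact K₁.neg_mem hk₁
  have hK₂ : IsFiniteLength A K₂ := hN.of_injective (f := K₂.subtype) K₂.injective_subtype
  have hz : ψ'' = 0 := by
    refine pre_injective_of_surjective hn (K₁'.mkQ ∘ₗ i₂) hsurj hK₂ ?_
    rw [comp_zero, inDMap_comp, assoc, ← hψ'', hψ, ← assoc, ← inDMap_comp]
    exact h₂
  rw [hψ'', hz, comp_zero]

lemma kills_sSup {N : Type u} [AddCommGroup N] [Module A N] (hN : IsFiniteLength A N)
    {φ : Dual.inD A N ⟶ ω} (S : Set (Submodule A N)) (hS : ∀ K ∈ S, Kills φ K) :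
    Kills φ (sSup S) := by
  haveI : IsNoetherian A N := (isFiniteLength_iff_isNoetherian_isArtinian.1 hN).1
  obtain ⟨t, ht, hsup⟩ := CompleteLattice.WellFoundedGT.isSupFiniteCompact (Submodule A N) S
  rw [hsup]
  classical
  have key : ∀ t : Finset (Submodule A N), (↑t ⊆ S) → Kills φ (t.sup id) := by
    intro t
    induction t using Finset.induction_on with
    | empty =>
      intro _
      rw [Finset.sup_empty]
      exact kills_bot φ
    | insert K t hK ih =>
      intro ht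
      rw [Finset.sup_insert]
      refine kills_sup hn hN (hS K (ht (Finset.mem_insert_self K t))) (ih ?_)
      exact fun x hx => ht (Finset.mem_insert_of_mem hx)
  exact key t ht

lemma kills_smul_top {N : Type u} [AddCommGroup N] [Module A N] (hN : IsFiniteLength A N)
    {φ : Dual.inD A N ⟶ ω} (J : Ideal A) (hJ : ∀ a ∈ J, a • φ = 0) :
    Kills φ (J • (⊤ : Submodule A N)) := by
  let S : Set (Submodule A N) :=
    {K | ∃ a ∈ J, K = LinearMap.range (a • (LinearMap.id : N →ₗ[A] N))}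
  have hS : ∀ K ∈ S, Kills φ K := by
    rintro K ⟨a, ha, rfl⟩
    refine kills_range hn hN _ φ ?_
    rw [inDMap_smul_id_comp, hJ a ha]
  refine (kills_sSup hn hN S hS).mono ?_
  rw [Submodule.smul_le]
  intro a ha x _
  have hmem : LinearMap.range (a • (LinearMap.id : N →ₗ[A] N)) ∈ S := ⟨a, ha, rfl⟩
  exact le_sSup hmem ⟨x, rfl⟩

end Exact

section EPrime

variable [IsNoetherianRing A]

local notation "𝔪" => IsLocalRing.maximalIdeal A

omit [IsLocalRing A] [IsNoetherianRing A] in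
lemma mem_ker_qProj (I : Ideal A) {n k : ℕ} (h : n ≤ k) (x : A ⧸ I ^ k)
    (hx : x ∈ LinearMap.ker (qProj I h)) :
    x ∈ (I ^ n) • (⊤ : Submodule A (A ⧸ I ^ k)) := by
  obtain ⟨a, rfl⟩ := Submodule.Quotient.mk_surjective _ x
  rw [LinearMap.mem_ker, qProj_mk, Submodule.Quotient.mk_eq_zero] at hx
  have : (Submodule.Quotient.mk a : A ⧸ I ^ k) = a • (Submodule.Quotient.mk 1 : A ⧸ I ^ k) := by
    rw [← Submodule.Quotient.mk_smul, smul_eq_mul, mul_one]
  rw [this]
  exact Submodule.smul_mem_smul hx Submodule.mem_top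

variable (hn : Dual.IsNormalized A ω)

include hn

/-- the maps `Hom(A/𝔪^n, ω) → E'` are injective -/
lemma hj_injective (n : ℕ) : Function.Injective (hj 𝔪 n ω) := by
  rw [injective_iff_map_eq_zero]
  intro x hx
  rw [hj_eq_zero_iff] at hx
  obtain ⟨k, hk, h0⟩ := hx
  refine pre_injective_of_surjective hn (qProj 𝔪 hk) (qProj_surjective 𝔪 hk)
    (Groth.Agent.H6.IH.isFiniteLength_quot_pow k) (φ := x) (ψ := 0) ?_
  exact h0.trans comp_zero.symm

/-- the `𝔪^n`-torsion of `E'` is `Hom(A/𝔪^n, ω)` -/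
lemma exists_hj_eq_of_torsion (n : ℕ) (ξ : (hdi 𝔪).obj ω) (h : ∀ a ∈ 𝔪 ^ n, a • ξ = 0) :
    ∃ x : Dual.inD A (A ⧸ 𝔪 ^ n) ⟶ ω, hj 𝔪 n ω x = ξ := by
  obtain ⟨N, φ, rfl⟩ := hj_surj ξ
  obtain ⟨k, hnk, hNk⟩ : ∃ k, n ≤ k ∧ N ≤ k := ⟨max n N, le_max_left n N, le_max_right n N⟩
  set φ' : Dual.inD A (A ⧸ 𝔪 ^ k) ⟶ ω := inDMap (qProj 𝔪 hNk) ≫ φ with hφ'
  have h1 : hj 𝔪 k ω φ' = hj 𝔪 N ω φ := hj_qProj hNk φ
  have h2 : ∀ a ∈ 𝔪 ^ n, a • φ' = 0 := by
    intro a ha
    apply hj_injective hn k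
    rw [map_smul, h1, h a ha, map_zero]
  have hfl := Groth.Agent.H6.IH.isFiniteLength_quot_pow (R := A) k
  have h3 : Kills φ' ((𝔪 ^ n) • ⊤) := kills_smul_top hn hfl (𝔪 ^ n) h2
  have h4 : Kills φ' (LinearMap.ker (qProj 𝔪 hnk)) :=
    h3.mono (fun x hx => mem_ker_qProj 𝔪 hnk x hx)
  obtain ⟨ψ, hψ⟩ := exists_factor_of_surjective (qProj 𝔪 hnk) (qProj_surjective 𝔪 hnk) φ' h4
  refine ⟨ψ, ?_⟩
  rw [← h1, hψ]
  exact (hj_qProj hnk ψ).symm

omit hn in
/-- `hdi X` is `𝔪`-power torsion -/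
lemma isPowerTorsion_hdi (X : Dual.D A) : LocCoh.IsPowerTorsion 𝔪 ((hdi 𝔪).obj X) := by
  intro ξ
  obtain ⟨n, x, rfl⟩ := hj_surj ξ
  exact ⟨n, fun a ha => smul_hj_eq_zero n a ha x⟩

/-- the `𝔪^n`-torsion of `E'` -/
lemma torsionBySet_eq_range (n : ℕ) :
    Submodule.torsionBySet A ((hdi 𝔪).obj ω) ((𝔪 ^ n : Ideal A) : Set A) =
      LinearMap.range (hj 𝔪 n ω) := by
  ext ξ
  rw [Submodule.mem_torsionBySet_iff]
  constructor
  · intro h
    obtain ⟨x, hx⟩ := exists_hj_eq_of_torsion hn n ξ (fun a ha => h ⟨a, ha⟩)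
    exact ⟨x, hx⟩
  · rintro ⟨x, rfl⟩ ⟨a, ha⟩
    exact smul_hj_eq_zero n a ha x

variable (hω : Dual.IsDualizing A ω)

include hω

lemma length_torsionBySet (n : ℕ) :
    Module.length A (Submodule.torsionBySet A ((hdi 𝔪).obj ω) ((𝔪 ^ n : Ideal A) : Set A)) =
      Module.length A (A ⧸ 𝔪 ^ n) := by
  rw [torsionBySet_eq_range hn n, ← (LinearEquiv.ofInjective _ (hj_injective hn n)).length_eq,
    length_hom_of_isFiniteLength ω hn (A ⧸ 𝔪 ^ n) (Groth.Agent.H6.IH.isFiniteLength_quot_pow n),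
    length_hom_residueField ω hω hn, one_mul]

omit hω hn [IsNoetherianRing A] in
lemma pow_one_torsion_eq (M : Type*) [AddCommGroup M] [Module A M] :
    Submodule.torsionBySet A M ((𝔪 ^ 1 : Ideal A) : Set A) =
      Submodule.torsionBySet A M ((𝔪 : Ideal A) : Set A) := by
  rw [pow_one]

/-- `colim_n Hom(A/𝔪^n, ω)` is an injective hull of the residue field -/
theorem nonempty_hdi_equiv_hull (E : Type u) [AddCommGroup E] [Module A E]
    (f : IsLocalRing.ResidueField A →ₗ[A] E) (hf : InjHull.IsInjectiveHull f) :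
    Nonempty ((hdi 𝔪).obj ω ≃ₗ[A] E) := by
  haveI := hf.isInjective
  set E' := (hdi 𝔪).obj ω with hE'
  let S : Submodule A E' := Submodule.torsionBySet A E' ((𝔪 : Ideal A) : Set A)
  -- the socle is simple
  have hS1 : Module.length A S = 1 := by
    have h1 := length_torsionBySet hn hω 1
    rw [pow_one_torsion_eq] at h1
    rw [h1]
    rw [Module.length_eq_one_iff]
    exact isSimpleModule_iff_quot_maximal.2
      ⟨𝔪, inferInstance, ⟨Submodule.quotEquivOfEq _ _ (pow_one 𝔪)⟩⟩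
  haveI hSs : IsSimpleModule A S := Module.length_eq_one_iff.1 hS1
  obtain ⟨I, hI, ⟨e⟩⟩ := (isSimpleModule_iff_quot_maximal (R := A) (M := S)).1 hSs
  obtain rfl := IsLocalRing.eq_maximalIdeal hI
  -- extend to `E'`
  obtain ⟨α, hα⟩ := Module.Injective.extension_property A E S E' S.subtype S.injective_subtype
    (f ∘ₗ e.toLinearMap)
  have hfe : Function.Injective (f ∘ₗ e.toLinearMap) := hf.injective.comp e.injective
  have hαinj : Function.Injective α := by
    rw [injective_iff_map_eq_zero]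
    intro ξ hξ
    by_contra hξ0
    obtain ⟨r, hr0, hrS⟩ := Groth.Agent.H6.IH.exists_smul_mem_torsionBySet 𝔪 hξ0
      (isPowerTorsion_hdi ω ξ)
    have h1 : α (r • ξ) = 0 := by rw [map_smul, hξ, smul_zero]
    have h2 : (f ∘ₗ e.toLinearMap) ⟨r • ξ, hrS⟩ = 0 := by
      rw [← hα]
      exact h1
    have h3 := hfe (h2.trans (map_zero _).symm)
    exact hr0 (congrArg Subtype.val h3)
  have hαsurj : Function.Surjective α := by
    intro y
    obtain ⟨n, hy⟩ := Groth.Agent.H6.IH.exists_mem_torsionBySet_pow hf y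
    let E'n := Submodule.torsionBySet A E' ((𝔪 ^ n : Ideal A) : Set A)
    let En := Submodule.torsionBySet A E ((𝔪 ^ n : Ideal A) : Set A)
    have hmaps : ∀ ξ ∈ E'n, α ξ ∈ En := by
      intro ξ hξ
      rw [Submodule.mem_torsionBySet_iff] at hξ ⊢
      intro a
      rw [← map_smul, hξ a, map_zero]
    let αn : E'n →ₗ[A] En := α.restrict hmaps
    have hαn : Function.Injective αn := by
      intro a b hab
      apply Subtype.ext
      apply hαinj
      exact congrArg Subtype.val hab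
    have hlenE : Module.length A En = Module.length A (A ⧸ 𝔪 ^ n) := by
      rw [← (Groth.Agent.H6.IH.homQuotEquiv (𝔪 ^ n) E).length_eq]
      exact Groth.Agent.H6.IH.length_hom_eq hf _ (Groth.Agent.H6.IH.isFiniteLength_quot_pow n)
    have hlenE' : Module.length A E'n = Module.length A (A ⧸ 𝔪 ^ n) :=
      length_torsionBySet hn hω n
    have hfin : Module.length A En ≠ ⊤ := by
      rw [hlenE, Module.length_ne_top_iff]
      exact Groth.Agent.H6.IH.isFiniteLength_quot_pow n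
    obtain ⟨ξ, hξ⟩ := Groth.Agent.H6.IH.surjective_of_injective_of_length_le αn hαn hfin
      (by rw [hlenE, hlenE']) ⟨y, hy⟩
    exact ⟨ξ.1, congrArg Subtype.val hξ⟩
  exact ⟨LinearEquiv.ofBijective α ⟨hαinj, hαsurj⟩⟩

omit hω in
lemma subsingleton_hdi_shift (i : ℤ) (hi : i ≠ 0) : Subsingleton ((hdi 𝔪).obj (ω⟦i⟧)) := by
  refine ⟨fun ξ ζ => ?_⟩
  have key : ∀ ξ : (hdi 𝔪).obj (ω⟦i⟧), ξ = 0 := by
    intro ξ
    obtain ⟨n, x, rfl⟩ := hj_surj ξ
    haveI := subsingleton_hom_of_isFiniteLength ω hn (A ⧸ 𝔪 ^ n)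
      (Groth.Agent.H6.IH.isFiniteLength_quot_pow n) i hi
    rw [Subsingleton.elim x 0, map_zero]
  rw [key ξ, key ζ]

theorem S1718 (E : Type u) [AddCommGroup E] [Module A E]
    (f : IsLocalRing.ResidueField A →ₗ[A] E) (hf : InjHull.IsInjectiveHull f) :
    Nonempty (Dual2.HDI A 𝔪 ω 0 ≃ₗ[A] E) ∧
      ∀ i : ℤ, i ≠ 0 → Subsingleton (Dual2.HDI A 𝔪 ω i) := by
  refine ⟨?_, fun i hi => subsingleton_hdi_shift hn i hi⟩
  obtain ⟨e⟩ := nonempty_hdi_equiv_hull hn hω E f hf
  exact ⟨((hdi 𝔪).mapIso ((shiftFunctorZero (Dual.D A) ℤ).app ω)).toLinearEquiv ≪≫ₗ e⟩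

end EPrime

end Groth.Agent.H4.LD4
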