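import Mathlib
import Groth.Prelude.Def_DualLC
import Groth.Agent.H4.LD2
import Groth.Agent.H4.LD4
import Groth.Agent.H4.DZ2

set_option autoImplicit false
universe u
open CategoryTheory Category Limits Pretriangulated Opposite

namespace Groth.Agent.H4.LD5

attribute [local instance] HasDerivedCategory.standard

open DerivedCategory Groth.Agent.H4.LD1 Groth.Agent.H4.LD2 Groth.Agent.H4.LD3 Groth.Agent.H4.LD4

variable {A : Type u} [CommRing A]

section DualFun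

variable (ω : Dual.D A) (B : Type (u + 1)) [AddCommGroup B] [Module A B]

/-- `X ↦ Hom_A(Hom(X, ω), B)` -/
noncomputable def dualFun : Dual.D A ⥤ ModuleCat.{u + 1} A where
  obj X := ModuleCat.of A ((X ⟶ ω) →ₗ[A] B)
  map {X Y} f := ModuleCat.ofHom (LinearMap.lcomp A B (Linear.leftComp A ω f))
  map_id X := by
    ext ψ y
    change ψ (𝟙 X ≫ y) = ψ y
    rw [id_comp]
  map_comp f g := by
    ext ψ y
    change ψ ((f ≫ g) ≫ y) = ψ (f ≫ g ≫ y)
    rw [assoc]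

lemma dualFun_map_apply {X Y : Dual.D A} (f : X ⟶ Y) (ψ : (X ⟶ ω) →ₗ[A] B)
    (y : Y ⟶ ω) :
    (show (Y ⟶ ω) →ₗ[A] B from ((dualFun ω B).map f).hom ψ) y = ψ (f ≫ y) := rfl

instance : (dualFun ω B).PreservesZeroMorphisms where
  map_zero X Y := by
    apply ModuleCat.hom_ext
    apply LinearMap.ext
    intro (ψ : (X ⟶ ω) →ₗ[A] B)
    apply LinearMap.ext
    intro (y : Y ⟶ ω)
    change ψ (0 ≫ y) = 0
    rw [zero_comp, map_zero]

lemma dualFun_exact [Module.Injective A B] (T : Triangle (Dual.D A))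
    (hT : T ∈ distTriang (Dual.D A)) (ψ : (T.obj₂ ⟶ ω) →ₗ[A] B)
    (hψ : ∀ z : T.obj₃ ⟶ ω, ψ (T.mor₂ ≫ z) = 0) :
    ∃ Ψ : (T.obj₁ ⟶ ω) →ₗ[A] B, ∀ y : T.obj₂ ⟶ ω, Ψ (T.mor₁ ≫ y) = ψ y := by
  let r : (T.obj₂ ⟶ ω) →ₗ[A] (T.obj₁ ⟶ ω) := Linear.leftComp A ω T.mor₁
  have hker : LinearMap.ker r ≤ LinearMap.ker ψ := by
    intro y hy
    rw [LinearMap.mem_ker] at hy ⊢
    obtain ⟨z, rfl⟩ := Triangle.yoneda_exact₂ T hT y hy
    exact hψ z
  let ψ' : (LinearMap.range r) →ₗ[A] B :=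
    ((LinearMap.ker r).liftQ ψ hker) ∘ₗ (r.quotKerEquivRange).symm.toLinearMap
  obtain ⟨Ψ, hΨ⟩ := Module.Injective.extension_property A B _ _ (LinearMap.range r).subtype
    (LinearMap.range r).injective_subtype ψ'
  refine ⟨Ψ, fun y => ?_⟩
  have h1 : Ψ (T.mor₁ ≫ y) = ψ' ⟨r y, ⟨y, rfl⟩⟩ := (LinearMap.congr_fun hΨ ⟨r y, ⟨y, rfl⟩⟩)
  rw [h1]
  change ((LinearMap.ker r).liftQ ψ hker) ((r.quotKerEquivRange).symm ⟨r y, ⟨y, rfl⟩⟩) = ψ y
  have h2 : (r.quotKerEquivRange).symm ⟨r y, ⟨y, rfl⟩⟩ = Submodule.Quotient.mk y := by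
    apply (r.quotKerEquivRange).injective
    rw [LinearEquiv.apply_symm_apply]
    rfl
  rw [h2]
  rfl

instance [Module.Injective A B] : (dualFun ω B).IsHomological where
  exact T hT := by
    rw [ShortComplex.moduleCat_exact_iff]
    intro (ψ : (T.obj₂ ⟶ ω) →ₗ[A] B) hψ
    obtain ⟨Ψ, hΨ⟩ := dualFun_exact ω B T hT ψ (fun z => LinearMap.congr_fun hψ z)
    refine ⟨Ψ, ?_⟩
    apply LinearMap.ext
    intro y
    exact hΨ y

end DualFun

section Theta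

variable (I : Ideal A) (ω : Dual.D A)

/-- the type `H^0_I(ω)` -/
abbrev EE : Type (u + 1) := ((hdi I).obj ω : ModuleCat.{u + 1} A)

noncomputable def thetaφ (X : Dual.D A) (n : ℕ) :
    (Dual.inD A (A ⧸ I ^ n) ⟶ X) →ₗ[A] ((X ⟶ ω) →ₗ[A] EE I ω) :=
  (Linear.comp (S := A) (Dual.inD A (A ⧸ I ^ n)) X ω).compr₂ (hj I n ω)

lemma thetaφ_apply (X : Dual.D A) (n : ℕ) (x : Dual.inD A (A ⧸ I ^ n) ⟶ X) (y : X ⟶ ω) :
    thetaφ I ω X n x y = hj I n ω (x ≫ y) := rfl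

lemma exists_thetaApp (X : Dual.D A) :
    ∃ Φ : (hdi I).obj X →ₗ[A] ((X ⟶ ω) →ₗ[A] EE I ω),
      ∀ n x y, Φ (hj I n X x) y = hj I n ω (x ≫ y) := by
  obtain ⟨Φ, hΦ⟩ := exists_hjlift (I := I) (X := X) (B := ((X ⟶ ω) →ₗ[A] EE I ω))
    (thetaφ I ω X) (by
      intro n m h x
      apply LinearMap.ext
      intro y
      rw [thetaφ_apply, thetaφ_apply, assoc, hj_qProj])
  exact ⟨Φ, fun n x y => by rw [hΦ]; rfl⟩

noncomputable def thetaApp (X : Dual.D A) :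
    (hdi I).obj X →ₗ[A] ((X ⟶ ω) →ₗ[A] EE I ω) := (exists_thetaApp I ω X).choose

lemma thetaApp_hj (X : Dual.D A) (n : ℕ) (x : Dual.inD A (A ⧸ I ^ n) ⟶ X) (y : X ⟶ ω) :
    thetaApp I ω X (hj I n X x) y = hj I n ω (x ≫ y) :=
  (exists_thetaApp I ω X).choose_spec n x y

noncomputable def Theta : hdi I ⟶ dualFun ω (EE I ω) where
  app X := ModuleCat.ofHom (thetaApp I ω X)
  naturality X Y f := by
    apply ModuleCat.hom_ext
    apply LinearMap.ext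
    intro ξ
    obtain ⟨n, x, rfl⟩ := hj_surj ξ
    apply LinearMap.ext
    intro (y : Y ⟶ ω)
    change thetaApp I ω Y (((hdi I).map f).hom (hj I n X x)) y =
      thetaApp I ω X (hj I n X x) (f ≫ y)
    rw [hdi_map_hj, thetaApp_hj, thetaApp_hj, assoc]

lemma Theta_app_hj (X : Dual.D A) (n : ℕ) (x : Dual.inD A (A ⧸ I ^ n) ⟶ X) (y : X ⟶ ω) :
    (show (X ⟶ ω) →ₗ[A] EE I ω from ((Theta I ω).app X).hom (hj I n X x)) y
      = hj I n ω (x ≫ y) := thetaApp_hj I ω X n x y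

end Theta


section OmegaIso

variable [IsLocalRing A] [IsNoetherianRing A] {ω : Dual.D A}
  (hn : Dual.IsNormalized A ω) (hω : Dual.IsDualizing A ω)

local notation "𝔪" => IsLocalRing.maximalIdeal A

include hn hω

/-- `H^0_𝔪(ω)` is an injective module -/
lemma injective_EE : Module.Injective A (EE 𝔪 ω) := by
  obtain ⟨E, _, _, f, hf⟩ :=
    Groth.Agent.H6.IH.exists_injectiveHull (R := A) (IsLocalRing.ResidueField A)
  obtain ⟨e⟩ := nonempty_hdi_equiv_hull hn hω E f hf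
  haveI := hf.isInjective
  exact Module.Baer.injective
    (Module.Baer.of_equiv e.symm (Module.Baer.of_injective (R := A) (Q := E) inferInstance))

omit hn in
/-- `Θ_ω` is bijective -/
lemma bijective_Theta_omega :
    Function.Bijective ((Theta 𝔪 ω).app ω).hom := by
  have hev : ∀ ξ : (hdi 𝔪).obj ω,
      (show (ω ⟶ ω) →ₗ[A] EE 𝔪 ω from ((Theta 𝔪 ω).app ω).hom ξ) (𝟙 ω) = ξ := by
    intro ξ
    obtain ⟨n, x, rfl⟩ := hj_surj ξ
    rw [Theta_app_hj, comp_id]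
  constructor
  · intro ξ ζ h
    rw [← hev ξ, ← hev ζ, h]
  · intro (ψ : (ω ⟶ ω) →ₗ[A] EE 𝔪 ω)
    refine ⟨ψ (𝟙 ω), ?_⟩
    apply LinearMap.ext
    intro (y : ω ⟶ ω)
    obtain ⟨a, rfl⟩ := hω.toEnd_bijective.2 y
    change (show (ω ⟶ ω) →ₗ[A] EE 𝔪 ω from ((Theta 𝔪 ω).app ω).hom (ψ (𝟙 ω))) (a • 𝟙 ω) = ψ (a • 𝟙 ω)
    rw [map_smul, map_smul, hev]

lemma isoOn_Theta_omega : IsoOn (Theta 𝔪 ω) ω := by
  intro j
  by_cases hj0 : j = 0
  · subst hj0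
    refine isIso_app_of_iso (Theta 𝔪 ω) ((shiftFunctorZero (Dual.D A) ℤ).app ω).symm ?_
    rw [ConcreteCategory.isIso_iff_bijective]
    exact bijective_Theta_omega hω
  · haveI h1 : Subsingleton ((hdi 𝔪).obj (ω⟦j⟧)) := subsingleton_hdi_shift hn j hj0
    haveI h2 : Subsingleton (ω ⟶ ω⟦-j⟧) := hω.ext_self_subsingleton (-j) (by omega)
    haveI h3 : Subsingleton (ω⟦j⟧ ⟶ ω) :=
      (Groth.Agent.H4.DZ2.shiftHomLinEquiv ω ω j (-j) (by omega)).toEquiv.subsingleton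
    haveI h4 : Subsingleton ((dualFun ω (EE 𝔪 ω)).obj (ω⟦j⟧)) := by
      change Subsingleton ((ω⟦j⟧ ⟶ ω) →ₗ[A] EE 𝔪 ω)
      refine ⟨fun a b => ?_⟩
      apply LinearMap.ext
      intro y
      rw [Subsingleton.elim y 0, map_zero, map_zero]
    rw [ConcreteCategory.isIso_iff_bijective]
    constructor
    · intro a b _
      exact Subsingleton.elim a b
    · intro b
      exact ⟨0, Subsingleton.elim _ _⟩

end OmegaIso

end Groth.Agent.H4.LD5
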