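import Mathlib
import Groth.Prelude.Def_DualLC
import Groth.Agent.H4.LD2
import Groth.Agent.H4.HC6
import Groth.Agent.H4.US6
import Groth.Agent.H4.EV2
import Groth.Agent.H4.KI8

set_option autoImplicit false
universe u
open CategoryTheory Category Limits Pretriangulated Opposite ZeroObject

namespace Groth.Agent.H4.LD6

attribute [local instance] HasDerivedCategory.standard
attribute [local instance] Groth.Agent.H4.LK4.hasLTen Groth.Agent.H4.LK5.hasLTen₃
  Groth.Agent.H4.KI7.isSymMonoidal Groth.Agent.H4.KI6.hasRHom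

open DRing DTen DerivedCategory Groth.Agent.H4.LD2 Groth.Agent.H4.HC6 Groth.Agent.H4.EV5
  Groth.Agent.H4.EV2

variable {A : Type u} [CommRing A]

section Thick

variable {P : Dual.D A → Prop} (h : ThickPred P)
include h

lemma ThickPred.ext₁ (T : Triangle (Dual.D A)) (hT : T ∈ distTriang (Dual.D A))
    (h2 : P T.obj₂) (h3 : P T.obj₃) : P T.obj₁ :=
  h.ext₂ T.invRotate (inv_rot_of_distTriang _ hT) (h.shift _ (-1) h3) h2

lemma ThickPred.ext₃ (T : Triangle (Dual.D A)) (hT : T ∈ distTriang (Dual.D A))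
    (h1 : P T.obj₁) (h2 : P T.obj₂) : P T.obj₃ :=
  h.ext₂ T.rotate (rot_of_distTriang _ hT) h2 (h.shift _ 1 h1)

end Thick

/-- `RHom(0, M) = 0` -/
lemma isZero_RHomR_of_isZero {K : Dual.D A} (hK : IsZero K) (M : Dual.D A) :
    IsZero ((RHomR A K).obj M) := by
  rw [IsZero.iff_id_eq_zero, ← RHomMap_id]
  have : 𝟙 K = (0 : A) • 𝟙 K := by rw [zero_smul]; exact hK.eq_of_src _ _
  rw [this, Groth.Agent.H4.US6.RHomMap_smul_id, zero_smul]

section Dual

variable {P : Dual.D A → Prop} (h : ThickPred P) (ω : Dual.D A)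
include h

/-- the dual predicate -/
def DualPred (P : Dual.D A → Prop) (ω : Dual.D A) (K : Dual.D A) : Prop :=
  P ((RHomR A K).obj ω)

lemma dualPred_shift_one (K : Dual.D A) {X₀ : Dual.D A} (h0 : P X₀) :
    DualPred P ω K ↔ DualPred P ω (K⟦(1 : ℤ)⟧) := by
  have hT := contractible_distinguished₂ K
  obtain ⟨w, hw⟩ := cpl_RHomMap _ hT ω
  have hz : P ((RHomR A (0 : Dual.D A)).obj ω) :=
    h.of_isZero h0 _ (isZero_RHomR_of_isZero (isZero_zero _) ω)
  constructor
  · intro hK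
    exact ThickPred.ext₁ h _ hw hz hK
  · intro hK
    exact ThickPred.ext₃ h _ hw hK hz

lemma dualPred_iso {K K' : Dual.D A} (e : K ≅ K') (hK : DualPred P ω K) : DualPred P ω K' :=
  h.iso (RHomIso e.symm ω) hK

lemma dualPred_shift {X₀ : Dual.D A} (h0 : P X₀) (K : Dual.D A) (hK : DualPred P ω K) (n : ℤ) :
    DualPred P ω (K⟦n⟧) := by
  induction n using Int.induction_on with
  | zero => exact dualPred_iso h ω ((shiftFunctorZero (Dual.D A) ℤ).app K).symm hK
  | succ n ih =>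
    have h1 := (dualPred_shift_one h ω (K⟦(n : ℤ)⟧) h0).1 ih
    exact dualPred_iso h ω ((shiftFunctorAdd' (Dual.D A) (n : ℤ) 1 _ rfl).app K).symm h1
  | pred n ih =>
    have e : (K⟦(-(n : ℤ) - 1)⟧)⟦(1 : ℤ)⟧ ≅ K⟦(-(n : ℤ))⟧ :=
      ((shiftFunctorAdd' (Dual.D A) (-(n : ℤ) - 1) 1 _ (by ring)).app K).symm
    exact (dualPred_shift_one h ω (K⟦(-(n : ℤ) - 1)⟧) h0).2 (dualPred_iso h ω e.symm ih)

theorem thickPred_dualPred {X₀ : Dual.D A} (h0 : P X₀) : ThickPred (DualPred P ω) where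
  iso e hK := dualPred_iso h ω e hK
  shift K n hK := dualPred_shift h ω h0 K hK n
  ext₂ T hT h1 h3 := by
    obtain ⟨w, hw⟩ := cpl_RHomMap T hT ω
    exact h.ext₂ _ hw h3 h1
  retract {X Y} i p hip hY := by
    refine h.retract (RHomMap p ω) (RHomMap i ω) ?_ hY
    rw [← RHomMap_comp, hip, RHomMap_id]

end Dual

section IsoOnThick

variable {𝒜 : Type*} [Category 𝒜] [Abelian 𝒜]
  {F G : Dual.D A ⥤ 𝒜} [F.IsHomological] [G.IsHomological] (τ : F ⟶ G)

omit [F.IsHomological] [G.IsHomological] in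
lemma IsoOn.retract {X Y : Dual.D A} (i : X ⟶ Y) (p : Y ⟶ X) (hip : i ≫ p = 𝟙 X)
    (hY : IsoOn τ Y) : IsoOn τ X := by
  intro n
  haveI := hY n
  refine ⟨G.map (i⟦n⟧') ≫ inv (τ.app (Y⟦n⟧)) ≫ F.map (p⟦n⟧'), ?_, ?_⟩
  · rw [← τ.naturality_assoc, IsIso.hom_inv_id_assoc, ← F.map_comp, ← Functor.map_comp, hip,
      CategoryTheory.Functor.map_id, CategoryTheory.Functor.map_id]
  · rw [assoc, assoc, τ.naturality, IsIso.inv_hom_id_assoc, ← G.map_comp,
      ← Functor.map_comp, hip, CategoryTheory.Functor.map_id,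
      CategoryTheory.Functor.map_id]

theorem thickPred_isoOn : ThickPred (IsoOn τ) where
  iso e hX := hX.of_iso τ e
  shift _ n hX := hX.shift τ n
  ext₂ T hT h1 h3 := IsoOn.ext₂ τ T hT h1 h3
  retract i p hip hY := IsoOn.retract τ i p hip hY

/-- `RHom(K, ω)` for `K` perfect lies in the thick subcategory generated by `ω` -/
theorem isoOn_RHomR_of_isPerfect (ω : Dual.D A) (hω : IsoOn τ ω) (K : Dual.D A)
    (hK : DRing.IsPerfect A K) : IsoOn τ ((RHomR A K).obj ω) := by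
  have h1 : DualPred (IsoOn τ) ω (Dual.inD A A) := by
    change IsoOn τ ((RHomR A (Dual.inD A A)).obj ω)
    exact hω.of_iso τ (RHomIso (Groth.Agent.H4.KI8.inDUnitIso (A := A)).symm ω ≪≫
      (Groth.Agent.H4.KI8.RHomRUnitIso (A := A)).app ω).symm
  exact (thickPred_dualPred (thickPred_isoOn τ) ω hω).of_isPerfect h1 hK

end IsoOnThick

end Groth.Agent.H4.LD6
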