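import Mathlib
import Groth.Prelude.Def_DualLC
import Groth.Agent.H4.LD6
import Groth.Agent.H4.AP1
import Groth.Agent.H4.AP2
import Groth.Agent.H4.DZ3

set_option autoImplicit false
universe u
open CategoryTheory Category Limits Pretriangulated Opposite ZeroObject

namespace Groth.Agent.H4.LD7

attribute [local instance] HasDerivedCategory.standard
attribute [local instance] Groth.Agent.H4.LK4.hasLTen Groth.Agent.H4.LK5.hasLTen₃
  Groth.Agent.H4.KI7.isSymMonoidal Groth.Agent.H4.KI6.hasRHom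

open DRing DTen DerivedCategory Groth.Agent.H4.LD2 Groth.Agent.H4.HC6 Groth.Agent.H4.EV5
  Groth.Agent.H4.EV2 Groth.Agent.H4.LD6 Groth.Agent.H4.DRing1

variable {A : Type u} [CommRing A]

section WayOut

variable {𝒜 : Type*} [Category 𝒜] [Abelian 𝒜]
  {F G : Dual.D A ⥤ 𝒜} [F.IsHomological] [G.IsHomological] (τ : F ⟶ G)

/-- way-out: `RHom(L, ω)` for `L` pseudo-coherent -/
theorem isoOn_RHomR_of_isPseudoCoherent (ω : Dual.D A) (a : ℤ) [ω.IsGE a] (t : ℤ)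
    (hF : ∀ X : Dual.D A, X.IsGE t → IsZero (F.obj X))
    (hG : ∀ X : Dual.D A, X.IsGE t → IsZero (G.obj X))
    (hω : IsoOn τ ω) (L : Dual.D A) (hL : IsPseudoCoherent' A L) :
    IsoOn τ ((RHomR A L).obj ω) := by
  intro j
  obtain ⟨T, hT, e, hP, hC⟩ := Groth.Agent.H4.AP1.exists_approx L hL (a - j - 1 - t)
  haveI := hC
  have hQ : IsoOn τ ((RHomR A T.obj₁).obj ω) := isoOn_RHomR_of_isPerfect τ ω hω _ hP
  obtain ⟨w, hw⟩ := cpl_RHomMap T hT ω
  haveI hW : ((RHomR A T.obj₃).obj ω).IsGE (j + 1 + t) := by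
    have := Groth.Agent.H4.AP2.isGE_RHom T.obj₃ ω (a - j - 1 - t) a
    have e : a - (a - j - 1 - t) = j + 1 + t := by ring
    rw [e] at this
    exact this
  haveI hW1 : (((RHomR A T.obj₃).obj ω)⟦j⟧).IsGE t := by
    haveI : (((RHomR A T.obj₃).obj ω)⟦j⟧).IsGE (1 + t) :=
      TStructure.t.isGE_shift ((RHomR A T.obj₃).obj ω) (j + 1 + t) j (1 + t) (by ring)
    exact TStructure.t.isGE_of_ge _ t (1 + t) (by omega)
  haveI hW2 : ((((RHomR A T.obj₃).obj ω)⟦(1 : ℤ)⟧)⟦j⟧).IsGE t := by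
    haveI : (((RHomR A T.obj₃).obj ω)⟦(1 : ℤ)⟧).IsGE (j + t) :=
      TStructure.t.isGE_shift ((RHomR A T.obj₃).obj ω) (j + 1 + t) 1 (j + t) (by ring)
    exact TStructure.t.isGE_shift (((RHomR A T.obj₃).obj ω)⟦(1 : ℤ)⟧) (j + t) j t (by ring)
  haveI := isHomological_shift_comp F j
  haveI := isHomological_shift_comp G j
  have key := isIso_app_obj₂ (Functor.whiskerLeft (shiftFunctor (Dual.D A) j) τ) _ hw
  have h2 : IsIso (τ.app (((RHomR A T.obj₂).obj ω)⟦j⟧)) := by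
    refine key ?_ ?_ (hQ j) ?_
    · haveI : IsIso (τ.app ((((RHomR A T.obj₁).obj ω)⟦(-1 : ℤ)⟧)⟦j⟧)) := (hQ.shift τ (-1)) j
      change Epi (τ.app ((((RHomR A T.obj₁).obj ω)⟦(-1 : ℤ)⟧)⟦j⟧))
      infer_instance
    · change IsIso (τ.app (((RHomR A T.obj₃).obj ω)⟦j⟧))
      exact ⟨0, (hF _ hW1).eq_of_src _ _, (hG _ hW1).eq_of_src _ _⟩
    · change Mono (τ.app ((((RHomR A T.obj₃).obj ω)⟦(1 : ℤ)⟧)⟦j⟧))
      exact ⟨fun f g _ => (hF _ hW2).eq_of_tgt f g⟩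
  exact isIso_app_of_iso τ ((shiftFunctor (Dual.D A) j).mapIso (RHomIso e ω)).symm h2

/-- objects of `D^+` with finite cohomology are in the class, if `ω` is dualizing -/
theorem isoOn_of_finite [IsNoetherianRing A] (ω : Dual.D A) (hω : Dual.IsDualizing A ω) (t : ℤ)
    (hF : ∀ X : Dual.D A, X.IsGE t → IsZero (F.obj X))
    (hG : ∀ X : Dual.D A, X.IsGE t → IsZero (G.obj X))
    (hω0 : IsoOn τ ω) (K : Dual.D A) (s : ℤ) [K.IsGE s]
    (hK : ∀ i : ℤ, Module.Finite A (Dual.HD A K i)) : IsoOn τ K := by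
  obtain ⟨a, b, hab⟩ := Groth.Agent.H4.DZ3.exists_injAmp_of_isDualizing ω hω
  haveI := Groth.Agent.H4.DZ3.isGE_of_injAmp ω a b hab
  haveI hLE : ((RHomR A K).obj ω).IsLE (b - s) :=
    Groth.Agent.H4.AP2.isLE_RHom_of_injAmp K ω s a b hab
  have hfin := Groth.Agent.H4.DZ3.finite_HD_RHomR ω hω K hK
  have hpc : IsPseudoCoherent' A ((RHomR A K).obj ω) := by
    refine Groth.Agent.H4.PC.isPC'_of_forall_isPC _ (fun m => ?_)
    rw [Groth.Agent.H4.PC.isPC_iff_of_noetherian]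
    exact ⟨⟨b - s, fun i hi => isZero_of_isLE _ (b - s) i hi⟩, fun i _ => hfin i⟩
  obtain ⟨e⟩ := Groth.Agent.H4.DZ3.nonempty_bidual_iso ω hω K hK
  exact (isoOn_RHomR_of_isPseudoCoherent τ ω a t hF hG hω0 _ hpc).of_iso τ e

end WayOut

end Groth.Agent.H4.LD7
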