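import Mathlib
import Groth.Prelude.Def_DualLC
import Groth.Agent.H4.LD5
import Groth.Agent.H4.LD7

set_option autoImplicit false
universe u
open CategoryTheory Category Limits Pretriangulated Opposite ZeroObject

namespace Groth.Agent.H4.LD8

attribute [local instance] HasDerivedCategory.standard
attribute [local instance] Groth.Agent.H4.LK4.hasLTen Groth.Agent.H4.LK5.hasLTen₃
  Groth.Agent.H4.KI7.isSymMonoidal Groth.Agent.H4.KI6.hasRHom

open DRing DTen DerivedCategory Groth.Agent.H4.LD1 Groth.Agent.H4.LD2 Groth.Agent.H4.LD3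
  Groth.Agent.H4.LD4 Groth.Agent.H4.LD5 Groth.Agent.H4.LD6 Groth.Agent.H4.LD7
  Groth.Agent.H4.DRing1

variable {A : Type u} [CommRing A]

/-- `H^0_I` vanishes on `D^{≥ 1}` -/
lemma isZero_hdi_of_isGE (I : Ideal A) (X : Dual.D A) [X.IsGE 1] : IsZero ((hdi I).obj X) := by
  haveI : Subsingleton ((hdi I).obj X) := by
    refine ⟨fun ξ ζ => ?_⟩
    have key : ∀ ξ : (hdi I).obj X, ξ = 0 := by
      intro ξ
      obtain ⟨n, x, rfl⟩ := hj_surj ξ
      haveI : (Dual.inD A (A ⧸ I ^ n)).IsLE 0 := by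
        change ((singleFunctor (ModuleCat.{u} A) 0).obj _).IsLE 0
        infer_instance
      rw [TStructure.t.zero x 0 1 (by omega), map_zero]
    rw [key ξ, key ζ]
  exact ModuleCat.isZero_of_subsingleton _

/-- the dual functor vanishes on `D^{≥ b + 1}` -/
lemma isZero_dualFun_of_isGE (ω : Dual.D A) (a b : ℤ) (hab : HasInjAmplitudeIn A a b ω)
    (B : Type (u + 1)) [AddCommGroup B] [Module A B] (X : Dual.D A) [X.IsGE (b + 1)] :
    IsZero ((dualFun ω B).obj X) := by
  haveI : Subsingleton ((dualFun ω B).obj X) := by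
    change Subsingleton ((X ⟶ ω) →ₗ[A] B)
    refine ⟨fun ψ ψ' => ?_⟩
    apply LinearMap.ext
    intro y
    rw [Groth.Agent.H4.AP2.hom_eq_zero_of_isGE_of_injAmp X ω (b + 1) a b hab (by omega) y,
      map_zero, map_zero]
  exact ModuleCat.isZero_of_subsingleton _

section Main

variable [IsLocalRing A] [IsNoetherianRing A] {ω : Dual.D A}
  (hn : Dual.IsNormalized A ω) (hω : Dual.IsDualizing A ω)

local notation "𝔪" => IsLocalRing.maximalIdeal A

include hn hω

/-- **local duality, derived form**: `Θ` is an isomorphism on `D^+_{fg}`. -/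
theorem isoOn_Theta_of_finite (K : Dual.D A) (s : ℤ) [K.IsGE s]
    (hK : ∀ i : ℤ, Module.Finite A (Dual.HD A K i)) : IsoOn (Theta 𝔪 ω) K := by
  haveI := injective_EE hn hω
  obtain ⟨a, b, hab⟩ := Groth.Agent.H4.DZ3.exists_injAmp_of_isDualizing ω hω
  refine isoOn_of_finite (Theta 𝔪 ω) ω hω (max 1 (b + 1)) ?_ ?_ (isoOn_Theta_omega hn hω) K s hK
  · intro X hX
    haveI : X.IsGE 1 := TStructure.t.isGE_of_ge X 1 (max 1 (b + 1)) (le_max_left _ _)
    exact isZero_hdi_of_isGE 𝔪 X
  · intro X hX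
    haveI : X.IsGE (b + 1) := TStructure.t.isGE_of_ge X (b + 1) (max 1 (b + 1)) (le_max_right _ _)
    exact isZero_dualFun_of_isGE ω a b hab _ X

end Main

end Groth.Agent.H4.LD8
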