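import Mathlib
import Groth.Prelude.Def_DualLC
import Groth.Agent.H4.LD3
import Groth.Agent.Lib.Helper6.LCLib

set_option autoImplicit false
universe u
open CategoryTheory Category Limits Pretriangulated Opposite ZeroObject CategoryTheory.Abelian

namespace Groth.Agent.H4.LD9

attribute [local instance] HasDerivedCategory.standard

open DerivedCategory Groth.Agent.H4.LD3 Groth.Agent.H6

variable {A : Type u} [CommRing A] (I : Ideal A) (i : ℕ) (M : Type u) [AddCommGroup M] [Module A M]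

/-- `Ext^i(A/I^n, M) ≃ Hom_{D(A)}(A/I^n, M[i])` -/
noncomputable def psi (n : ℕ) : Ext (LC.Q I n) (ModuleCat.of A M) i ≃ₗ[A]
    (Dual.inD A (A ⧸ I ^ n) ⟶ (Dual.inD A M)⟦(i : ℤ)⟧) :=
  Ext.homLinearEquiv (R := A)

lemma psi_proj {n m : ℕ} (h : n ≤ m) (x : Ext (LC.Q I n) (ModuleCat.of A M) i) :
    psi I i M m ((Ext.mk₀ (LC.proj I h)).comp x (zero_add i)) =
      inDMap (qProj I h) ≫ psi I i M n x := by
  change ((Ext.mk₀ (LC.proj I h)).comp x (zero_add i)).hom = _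
  rw [Ext.comp_hom, Ext.mk₀_hom, ShiftedHom.mk₀_comp]
  rfl

/-- the family of maps used to compare the two colimits -/
noncomputable def bridgeφ (n : ℕ) : (Dual.inD A (A ⧸ I ^ n) ⟶ (Dual.inD A M)⟦(i : ℤ)⟧) →ₗ[A]
    ULift.{u + 1} (LocCoh.H I i M) :=
  (ULift.moduleEquiv (R := A) (M := LocCoh.H I i M)).symm.toLinearMap ∘ₗ
    (LC.lcι I i (ModuleCat.of A M) n) ∘ₗ (psi I i M n).symm.toLinearMap

lemma bridgeφ_apply (n : ℕ) (x : Dual.inD A (A ⧸ I ^ n) ⟶ (Dual.inD A M)⟦(i : ℤ)⟧) :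
    (bridgeφ I i M n x).down = LC.lcι I i (ModuleCat.of A M) n ((psi I i M n).symm x) := rfl

lemma psi_symm_proj {n m : ℕ} (h : n ≤ m)
    (x : Dual.inD A (A ⧸ I ^ n) ⟶ (Dual.inD A M)⟦(i : ℤ)⟧) :
    (psi I i M m).symm (inDMap (qProj I h) ≫ x) =
      (Ext.mk₀ (LC.proj I h)).comp ((psi I i M n).symm x) (zero_add i) := by
  rw [LinearEquiv.symm_apply_eq, psi_proj, LinearEquiv.apply_symm_apply]

theorem exists_bridge : ∃ Φ : (hdi I).obj ((Dual.inD A M)⟦(i : ℤ)⟧) →ₗ[A]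
    ULift.{u + 1} (LocCoh.H I i M), ∀ n x, Φ (hj I n _ x) = bridgeφ I i M n x := by
  refine exists_hjlift (bridgeφ I i M) ?_
  intro n m h x
  apply ULift.ext
  rw [bridgeφ_apply, bridgeφ_apply, psi_symm_proj, LC.lcι_proj]

/-- **Mathlib's local cohomology is `H^0_I` of the shifted module in the derived category.** -/
theorem nonempty_H_equiv_hdi :
    Nonempty (LocCoh.H I i M ≃ₗ[A] (hdi I).obj ((Dual.inD A M)⟦(i : ℤ)⟧)) := by
  obtain ⟨Φ, hΦ⟩ := exists_bridge I i M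
  have hinj : Function.Injective Φ := by
    rw [← LinearMap.ker_eq_bot, LinearMap.ker_eq_bot']
    intro ξ hξ
    obtain ⟨n, x, rfl⟩ := hj_surj ξ
    rw [hΦ] at hξ
    have h0 : LC.lcι I i (ModuleCat.of A M) n ((psi I i M n).symm x) = 0 := by
      rw [← bridgeφ_apply, hξ]
      rfl
    rw [LC.lcι_eq_zero_iff] at h0
    obtain ⟨k, hn, hk⟩ := h0
    rw [hj_eq_zero_iff]
    refine ⟨k, hn, ?_⟩
    rw [← psi_symm_proj] at hk
    have := congrArg (psi I i M k) hk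
    rw [LinearEquiv.apply_symm_apply, map_zero] at this
    exact this
  have hsurj : Function.Surjective Φ := by
    intro ζ
    obtain ⟨n, y, hy⟩ := LC.lcι_surj ζ.down
    refine ⟨hj I n _ (psi I i M n y), ?_⟩
    rw [hΦ]
    apply ULift.ext
    rw [bridgeφ_apply, LinearEquiv.symm_apply_apply, hy]
  exact ⟨((LinearEquiv.ofBijective Φ ⟨hinj, hsurj⟩).trans ULift.moduleEquiv).symm⟩

end Groth.Agent.H4.LD9
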