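import Mathlib
import Groth.Prelude.Def_DualLC
import Groth.Agent.H4.LD8
import Groth.Agent.H4.LD9

set_option autoImplicit false
universe u
open CategoryTheory Category Limits Pretriangulated Opposite ZeroObject

namespace Groth.Agent.H4.LD10

attribute [local instance] HasDerivedCategory.standard

open DerivedCategory Groth.Agent.H4.LD1 Groth.Agent.H4.LD2 Groth.Agent.H4.LD3
  Groth.Agent.H4.LD4 Groth.Agent.H4.LD5 Groth.Agent.H4.LD8 Groth.Agent.H4.LD9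

variable {A : Type u} [CommRing A] [IsLocalRing A] [IsNoetherianRing A] {ω : Dual.D A}
  (hn : Dual.IsNormalized A ω) (hω : Dual.IsDualizing A ω)

local notation "𝔪" => IsLocalRing.maximalIdeal A

include hn hω

/-- `H^0_𝔪(K[j]) ≃ Hom_A(Hom(K, ω[-j]), E)` for `K ∈ D^+_{fg}`. -/
theorem nonempty_hdi_equiv_dual (E : Type u) [AddCommGroup E] [Module A E]
    (f : IsLocalRing.ResidueField A →ₗ[A] E) (hf : InjHull.IsInjectiveHull f)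
    (K : Dual.D A) (s : ℤ) [K.IsGE s]
    (hK : ∀ i : ℤ, Module.Finite A (Dual.HD A K i)) (j : ℤ) :
    Nonempty ((hdi 𝔪).obj (K⟦j⟧) ≃ₗ[A] ((K ⟶ ω⟦-j⟧) →ₗ[A] E)) := by
  haveI := isoOn_Theta_of_finite hn hω K s hK j
  obtain ⟨e'⟩ := nonempty_hdi_equiv_hull hn hω E f hf
  let e2 : (hdi 𝔪).obj (K⟦j⟧) ≃ₗ[A] ((K⟦j⟧ ⟶ ω) →ₗ[A] EE 𝔪 ω) :=
    (asIso ((Theta 𝔪 ω).app (K⟦j⟧))).toLinearEquiv
  let e3 : ((K⟦j⟧ ⟶ ω) →ₗ[A] EE 𝔪 ω) ≃ₗ[A] ((K ⟶ ω⟦-j⟧) →ₗ[A] E) :=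
    LinearEquiv.arrowCongr (Groth.Agent.H4.DZ2.shiftHomLinEquiv K ω j (-j) (by omega)) e'
  exact ⟨e2 ≪≫ₗ e3⟩

/-- **Local duality** (S11172). -/
theorem S11172 (E : Type u) [AddCommGroup E] [Module A E]
    (f : IsLocalRing.ResidueField A →ₗ[A] E) (hf : InjHull.IsInjectiveHull f)
    (M : Type u) [AddCommGroup M] [Module A M] [Module.Finite A M] (i : ℕ) :
    Nonempty (LocCoh.H 𝔪 i M ≃ₗ[A] ((Dual.inD A M ⟶ ω⟦(-(i : ℤ))⟧) →ₗ[A] E)) := by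
  obtain ⟨e1⟩ := nonempty_H_equiv_hdi 𝔪 i M
  haveI : (Dual.inD A M).IsGE 0 := by
    change ((singleFunctor (ModuleCat.{u} A) 0).obj _).IsGE 0
    infer_instance
  obtain ⟨e2⟩ := nonempty_hdi_equiv_dual hn hω E f hf (Dual.inD A M) 0 (finite_HD_inD M) (i : ℤ)
  exact ⟨e1 ≪≫ₗ e2⟩

end Groth.Agent.H4.LD10
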