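import Mathlib
import Groth.Prelude.Def_DualLC
import Groth.Agent.H4.LD10
import Groth.Agent.H4.DZ1
import Groth.Agent.Lib.Helper6.MatlisComplete

set_option autoImplicit false
universe u v
open CategoryTheory Category Limits Pretriangulated Opposite ZeroObject

namespace Groth.Agent.H4.LD12

attribute [local instance] HasDerivedCategory.standard

open DerivedCategory

variable {A : Type u} [CommRing A] [IsLocalRing A] [IsNoetherianRing A]

/-- a finite module in a higher universe has a model in the universe of the ring -/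
lemma exists_small_model (N : Type v) [AddCommGroup N] [Module A N] [Module.Finite A N] :
    ∃ (N' : Type u) (_ : AddCommGroup N') (_ : Module A N') (_ : Module.Finite A N'),
      Nonempty (N' ≃ₗ[A] N) := by
  obtain ⟨n, π, hπ⟩ := Module.Finite.exists_fin' A N
  exact ⟨(Fin n → A) ⧸ LinearMap.ker π, inferInstance, inferInstance, inferInstance,
    ⟨π.quotKerEquivOfSurjective hπ⟩⟩

/-- Matlis duality for finite modules over a complete local ring, any universe -/
theorem nonempty_equiv_bidual [IsAdicComplete (IsLocalRing.maximalIdeal A) A]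
    (E : Type u) [AddCommGroup E] [Module A E]
    (f : IsLocalRing.ResidueField A →ₗ[A] E) (hf : InjHull.IsInjectiveHull f)
    (N : Type v) [AddCommGroup N] [Module A N] [Module.Finite A N] :
    Nonempty (N ≃ₗ[A] ((N →ₗ[A] E) →ₗ[A] E)) := by
  obtain ⟨N', _, _, _, ⟨e0⟩⟩ := exists_small_model (A := A) N
  let ev : N' ≃ₗ[A] ((N' →ₗ[A] E) →ₗ[A] E) :=
    LinearEquiv.ofBijective _ (Groth.Agent.H6.IH.eval_bijective_of_finite hf N')
  exact ⟨e0.symm ≪≫ₗ ev ≪≫ₗ
    LinearEquiv.arrowCongr (LinearEquiv.arrowCongr e0 (LinearEquiv.refl A E)) (LinearEquiv.refl A E)⟩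

variable {ω : Dual.D A} (hn : Dual.IsNormalized A ω) (hω : Dual.IsDualizing A ω)

include hω in
lemma finite_hom_shift (K : Dual.D A) (hK : ∀ i : ℤ, Module.Finite A (Dual.HD A K i)) (j : ℤ) :
    Module.Finite A (K ⟶ ω⟦j⟧) := by
  obtain ⟨a, b, hab⟩ := Groth.Agent.H4.DZ3.exists_injAmp_of_isDualizing ω hω
  exact Groth.Agent.H4.DZ1.S1746 K ω hK hω.finite_cohomology ⟨a, b, hab⟩ j

include hn hω in
theorem S0374 [IsAdicComplete (IsLocalRing.maximalIdeal A) A]
    (E : Type u) [AddCommGroup E] [Module A E]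
    (f : IsLocalRing.ResidueField A →ₗ[A] E) (hf : InjHull.IsInjectiveHull f)
    (M : Type u) [AddCommGroup M] [Module A M] [Module.Finite A M] (i : ℕ) :
    Nonempty ((Dual.inD A M ⟶ ω⟦(-(i : ℤ))⟧) ≃ₗ[A]
      (LocCoh.H (IsLocalRing.maximalIdeal A) i M →ₗ[A] E)) := by
  obtain ⟨e⟩ := Groth.Agent.H4.LD10.S11172 hn hω E f hf M i
  haveI := finite_hom_shift hω (Dual.inD A M) (Groth.Agent.H4.LD1.finite_HD_inD M) (-(i : ℤ))
  obtain ⟨e1⟩ := nonempty_equiv_bidual E f hf (Dual.inD A M ⟶ ω⟦(-(i : ℤ))⟧)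
  exact ⟨e1 ≪≫ₗ (LinearEquiv.arrowCongr e (LinearEquiv.refl A E)).symm⟩

end Groth.Agent.H4.LD12
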