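import Mathlib
import Groth.Prelude.Def_DualLC
import Groth.Agent.H4.RG8
import Groth.Agent.H4.LD12
import Groth.Agent.H4.DRing2

set_option autoImplicit false
universe u
open CategoryTheory Category Limits Pretriangulated Opposite ZeroObject

namespace Groth.Agent.H4.RG9

attribute [local instance] HasDerivedCategory.standard

open DerivedCategory DRing Groth.Agent.H4.RG1 Groth.Agent.H4.RG2 Groth.Agent.H4.RG5
  Groth.Agent.H4.RG6 Groth.Agent.H4.RG7 Groth.Agent.H4.RG8 Groth.Agent.H4.LD3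
  Groth.Agent.H4.ProjAmp

variable {A : Type u} [CommRing A]

/-- `H^0_I` vanishes on `D^{≤ b}` for `b < -d`, `d` the number of generators of `I`. -/
theorem exists_cd [IsNoetherianRing A] (I : Ideal A) :
    ∃ d : ℕ, ∀ (Y : Dual.D A) (b : ℤ), Y.IsLE b → b + d < 0 →
      Subsingleton ((hdi I).obj Y) := by
  obtain ⟨s, rfl⟩ := (IsNoetherian.noetherian I : I.FG)
  refine ⟨s.card, fun Y b hY hb => ?_⟩
  obtain ⟨L, hL, hLinj, ⟨e⟩⟩ := exists_kinj_inj_iso Y
  haveI := hL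
  haveI : (Q.obj L).IsLE b := (tR A).isLE_of_iso e b
  haveI : L.IsLE b := (isLE_Q_obj_iff L b).1 inferInstance
  have hex : (GamL (Ideal.span (s : Set A)) L).ExactAt 0 :=
    exactAt_GamL_finset L (fun n =>
      haveI := hLinj n
      moduleInjective_of_injective _) s 0
      (fun j hj _ => L.exactAt_of_isLE b j (by omega))
  obtain ⟨e6⟩ := nonempty_homology_equiv_hdi (Ideal.span (s : Set A)) L
  haveI : Subsingleton ((GamL (Ideal.span (s : Set A)) L).homology 0) :=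
    ModuleCat.subsingleton_of_isZero hex.isZero_homology
  haveI : Subsingleton ((hdi (Ideal.span (s : Set A))).obj (Q.obj L)) := e6.symm.subsingleton
  exact (((hdi (Ideal.span (s : Set A))).mapIso e).toLinearEquiv).subsingleton

/-- if `H^0_I` vanishes on `T.obj₁` and `T.obj₁[1]`, then `H^0_I(T.mor₂)` is bijective. -/
lemma bijective_hdi_map_mor₂ (I : Ideal A) (T : Triangle (Dual.D A))
    (hT : T ∈ distTriang (Dual.D A))
    (h1 : Subsingleton ((hdi I).obj T.obj₁))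
    (h2 : Subsingleton ((hdi I).obj (T.obj₁⟦(1 : ℤ)⟧))) :
    Function.Bijective ((hdi I).map T.mor₂).hom := by
  constructor
  · rw [injective_iff_map_eq_zero]
    intro ξ hξ
    obtain ⟨ζ, rfl⟩ := hdi_exact (I := I) T hT ξ hξ
    rw [Subsingleton.elim ζ 0, map_zero]
  · intro η
    have h0 : ((hdi I).map T.rotate.mor₂).hom η = 0 :=
      @Subsingleton.elim _ h2 _ _
    obtain ⟨ζ, hζ⟩ := hdi_exact (I := I) T.rotate (rot_of_distTriang _ hT) η h0
    exact ⟨ζ, hζ⟩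

section Main

variable [IsLocalRing A] [IsNoetherianRing A] {ω : Dual.D A}
  (hn : Dual.IsNormalized A ω) (hω : Dual.IsDualizing A ω)

include hn hω

/-- local duality for unbounded complexes over a complete local ring, degree `0` form. -/
theorem nonempty_hom_equiv_dual_hdi [IsAdicComplete (IsLocalRing.maximalIdeal A) A]
    (E : Type u) [AddCommGroup E] [Module A E]
    (f : IsLocalRing.ResidueField A →ₗ[A] E) (hf : InjHull.IsInjectiveHull f)
    (K : Dual.D A) (hK : ∀ i : ℤ, Module.Finite A (Dual.HD A K i)) :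
    Nonempty ((K ⟶ ω) ≃ₗ[A] ((hdi (IsLocalRing.maximalIdeal A)).obj K →ₗ[A] E)) := by
  obtain ⟨a, b, hab⟩ := Groth.Agent.H4.DZ3.exists_injAmp_of_isDualizing ω hω
  haveI : ω.IsGE a := Groth.Agent.H4.DZ3.isGE_of_injAmp ω a b hab
  obtain ⟨d, hd⟩ := exists_cd (IsLocalRing.maximalIdeal A)
  obtain ⟨c, hc⟩ : ∃ c : ℤ, c = min a (-(d : ℤ)) := ⟨_, rfl⟩
  have hca : c ≤ a := hc ▸ min_le_left _ _
  have hcd : c ≤ -(d : ℤ) := hc ▸ min_le_right _ _
  set Y := ((tR A).truncLT c).obj K with hY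
  set Z := ((tR A).truncGE c).obj K with hZ
  let π : K ⟶ Z := ((tR A).truncGEπ c).app K
  have hT := triangleLTGE_dist c K
  haveI hY1 : Y.IsLE (c - 1) := inferInstanceAs ((tR A).IsLE (((tR A).truncLT c).obj K) (c - 1))
  haveI hY2 : (Y⟦(1 : ℤ)⟧).IsLE (c - 1 - 1) := (tR A).isLE_shift Y (c - 1) 1 (c - 1 - 1) (by omega)
  haveI hZ1 : Z.IsGE c := inferInstanceAs ((tR A).IsGE (((tR A).truncGE c).obj K) c)
  -- `Hom(Z, ω) ≃ Hom(K, ω)`
  have hb1 : Function.Bijective (Linear.leftComp A ω π) := by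
    constructor
    · rw [injective_iff_map_eq_zero]
      intro g hg
      obtain ⟨θ, hθ⟩ : ∃ θ : Y⟦(1 : ℤ)⟧ ⟶ ω, g = (((tR A).truncGEδLT c).app K) ≫ θ :=
        Triangle.yoneda_exact₃ _ hT g hg
      rw [hθ, (tR A).zero θ (c - 1 - 1) a (by omega), comp_zero]
    · intro φ
      have h0 : (((tR A).truncLTι c).app K) ≫ φ = 0 :=
        (tR A).zero ((((tR A).truncLTι c).app K) ≫ φ) (c - 1) a (by omega)
      obtain ⟨g, hg⟩ := Triangle.yoneda_exact₂ _ hT φ h0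
      exact ⟨g, hg.symm⟩
  let e1 : (Z ⟶ ω) ≃ₗ[A] (K ⟶ ω) := LinearEquiv.ofBijective _ hb1
  -- `H^0_𝔪(K) ≃ H^0_𝔪(Z)`
  have hb2 : Function.Bijective ((hdi (IsLocalRing.maximalIdeal A)).map π).hom :=
    bijective_hdi_map_mor₂ (IsLocalRing.maximalIdeal A) _ hT
      (hd Y (c - 1) hY1 (by omega)) (hd (Y⟦(1 : ℤ)⟧) (c - 1 - 1) hY2 (by omega))
  let e2 : (hdi (IsLocalRing.maximalIdeal A)).obj K ≃ₗ[A] (hdi (IsLocalRing.maximalIdeal A)).obj Z :=
    LinearEquiv.ofBijective _ hb2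
  -- finite cohomology of `Z`
  have hZfin : ∀ i : ℤ, Module.Finite A (Dual.HD A Z i) := by
    intro i
    by_cases hi : c ≤ i
    · haveI : (Triangle.mk (((tR A).truncLTι c).app K) (((tR A).truncGEπ c).app K)
          (((tR A).truncGEδLT c).app K)).obj₁.IsLE (c - 1) := hY1
      haveI : IsIso ((homologyFunctor (ModuleCat.{u} A) i).map π) :=
        Groth.Agent.H4.DRing1.isIso_homology_mor₂ _ hT c i hi
      haveI : Module.Finite A ((homologyFunctor (ModuleCat.{u} A) i).obj K) := hK i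
      exact Module.Finite.equiv
        (asIso ((homologyFunctor (ModuleCat.{u} A) i).map π)).toLinearEquiv
    · haveI : Subsingleton (Dual.HD A Z i) :=
        ModuleCat.subsingleton_of_isZero (DerivedCategory.isZero_of_isGE Z c i (by omega))
      infer_instance
  -- local duality for `Z`
  obtain ⟨e3⟩ := Groth.Agent.H4.LD10.nonempty_hdi_equiv_dual hn hω E f hf Z c hZfin 0
  haveI := Groth.Agent.H4.LD12.finite_hom_shift hω Z hZfin (-0)
  obtain ⟨e4⟩ := Groth.Agent.H4.LD12.nonempty_equiv_bidual E f hf (Z ⟶ ω⟦(-0 : ℤ)⟧)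
  let e5 : (Z ⟶ ω) ≃ₗ[A] (Z ⟶ ω⟦(-0 : ℤ)⟧) :=
    Linear.homCongr A (Iso.refl Z)
      ((shiftFunctorZero' (Dual.D A) (-0 : ℤ) (by simp)).app ω).symm
  let e6 : (hdi (IsLocalRing.maximalIdeal A)).obj (Z⟦(0 : ℤ)⟧) ≃ₗ[A]
      (hdi (IsLocalRing.maximalIdeal A)).obj Z :=
    ((hdi (IsLocalRing.maximalIdeal A)).mapIso
      ((shiftFunctorZero (Dual.D A) ℤ).app Z)).toLinearEquiv
  exact ⟨e1.symm ≪≫ₗ e5 ≪≫ₗ e4 ≪≫ₗ
    (LinearEquiv.arrowCongr e3 (LinearEquiv.refl A E)).symm ≪≫ₗ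
    LinearEquiv.arrowCongr e6 (LinearEquiv.refl A E) ≪≫ₗ
    (LinearEquiv.arrowCongr e2 (LinearEquiv.refl A E)).symm⟩

/-- **S1761** -/
theorem S1761 [IsAdicComplete (IsLocalRing.maximalIdeal A) A]
    (E : Type u) [AddCommGroup E] [Module A E]
    (f : IsLocalRing.ResidueField A →ₗ[A] E) (hf : InjHull.IsInjectiveHull f)
    (K : Dual.D A) (hK : ∀ i : ℤ, Module.Finite A (Dual.HD A K i)) (i : ℤ) :
    Nonempty ((K ⟶ ω⟦(-i)⟧) ≃ₗ[A]
      (Dual2.HDI A (IsLocalRing.maximalIdeal A) K i →ₗ[A] E)) := by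
  obtain ⟨e⟩ := nonempty_hom_equiv_dual_hdi hn hω E f hf (K⟦i⟧)
    (Groth.Agent.H4.DZ1.finite_HD_shift K hK i)
  exact ⟨(Groth.Agent.H4.DZ2.shiftHomLinEquiv K ω i (-i) (by omega)).symm ≪≫ₗ e⟩

end Main

end Groth.Agent.H4.RG9
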