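import Mathlib
import Groth.Prelude.Def_DualLC
import Groth.Agent.H4.Cof1
import Groth.Agent.S0315
import Groth.Agent.S0316
import Groth.Agent.S0317
import Groth.Agent.H4.LD10
import Groth.Agent.H4.DZ4
import Groth.Agent.H4.RG9
import Groth.Prelude.Def_DTen3

set_option autoImplicit false
universe u
open CategoryTheory Category Limits Pretriangulated Opposite ZeroObject

namespace Groth.Agent.H4.Cof2

attribute [local instance] HasDerivedCategory.standard
attribute [local instance] Groth.Agent.H4.LK4.hasLTen Groth.Agent.H4.LK5.hasLTen₃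
  Groth.Agent.H4.KI7.isSymMonoidal Groth.Agent.H4.KI6.hasRHom

open DRing DerivedCategory Groth.Agent.H4.DThick Groth.Agent.H4.Cof1 Groth.Agent.H4.LD3
  DTen

/-- cofinite modules -/
def Cofin (A : Type u) [CommRing A] [IsLocalRing A] (N : Type u) [AddCommGroup N] [Module A N] : Prop :=
  LocCoh.IsPowerTorsion (IsLocalRing.maximalIdeal A) N ∧
    Module.Finite A ↥(LocCoh.torsionBy (IsLocalRing.maximalIdeal A) N)

variable {A : Type u} [CommRing A] [IsLocalRing A] [IsNoetherianRing A]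

lemma cofin_iff_isArtinian (N : Type u) [AddCommGroup N] [Module A N] :
    Cofin A N ↔ IsArtinian A N := by
  unfold Cofin
  rw [Groth.Agent.S0315.result A N]
  refine and_congr Iff.rfl ?_
  constructor
  · intro h
    exact Module.Finite.of_restrictScalars_finite A _ _
  · intro h
    exact Module.Finite.trans (A ⧸ IsLocalRing.maximalIdeal A) _


section dual

variable [IsAdicComplete (IsLocalRing.maximalIdeal A) A]
  {ω : Dual.D A} (hn : Dual.IsNormalized A ω) (hω : Dual.IsDualizing A ω)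
  (E : Type u) [AddCommGroup E] [Module A E]
  (f : IsLocalRing.ResidueField A →ₗ[A] E) (hf : InjHull.IsInjectiveHull f)

local notation "𝔪" => IsLocalRing.maximalIdeal A

include hn hω hf

/-- `H^i(RΓ_m M)` is the Matlis dual of a finite module. -/
theorem nonempty_HD_rgamma_equiv_dual [DRing.HasRgammaI 𝔪] (M : Dual.D A) (s : ℤ) [M.IsGE s]
    (hM : ∀ i : ℤ, Module.Finite A (Dual.HD A M i)) (i : ℤ) :
    Nonempty (Dual.HD A ((DRing.RgammaI 𝔪).obj M) i ≃ₗ[A]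
      (Dual.HD A ((RHomR A M).obj ω) (-i) →ₗ[A] E)) := by
  obtain ⟨e1⟩ := Groth.Agent.H4.RG3.S1812 𝔪 M i
  obtain ⟨e2⟩ := Groth.Agent.H4.LD10.nonempty_hdi_equiv_dual hn hω E f hf M s hM i
  obtain ⟨e3⟩ := Groth.Agent.H4.DZ2.nonempty_extLinEquiv M ω (-i)
  exact ⟨e1 ≪≫ₗ e2 ≪≫ₗ (LinearEquiv.arrowCongr e3 (LinearEquiv.refl A E)).symm⟩

/-- (a2): `H^i(RΓ_m M)` is cofinite. -/
theorem cofin_HD_rgamma [DRing.HasRgammaI 𝔪] (M : Dual.D A) (s : ℤ) [M.IsGE s]
    (hM : ∀ i : ℤ, Module.Finite A (Dual.HD A M i)) (i : ℤ) :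
    Cofin A (Dual.HD A ((DRing.RgammaI 𝔪).obj M) i) := by
  obtain ⟨e⟩ := nonempty_HD_rgamma_equiv_dual hn hω E f hf M s hM i
  haveI := Groth.Agent.H4.DZ3.finite_HD_RHomR ω hω M hM (-i)
  haveI := (Groth.Agent.S0316.result A E f hf (Dual.HD A ((RHomR A M).obj ω) (-i))).1
  rw [cofin_iff_isArtinian]
  exact isArtinian_of_linearEquiv e.symm


/-- the `ω`-dual of the Matlis dual of an Artinian module. -/
noncomputable abbrev Kp (ω : Dual.D A) (E : Type u) [AddCommGroup E] [Module A E]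
    (N : Type u) [AddCommGroup N] [Module A N] : Dual.D A :=
  (RHomR A (Dual.inD A (N →ₗ[A] E))).obj ω

omit hn in
lemma finite_HD_Kp (N : Type u) [AddCommGroup N] [Module A N] [IsArtinian A N] (i : ℤ) :
    Module.Finite A (Dual.HD A (Kp ω E N) i) := by
  haveI := (Groth.Agent.S0317.result A E f hf N).1
  exact Groth.Agent.H4.DZ3.finite_HD_RHomR ω hω _
    (fun j => Groth.Agent.H4.DZ4.finite_HD_inD (N →ₗ[A] E) j) i

omit hn hf in
lemma exists_bounded_Kp (N : Type u) [AddCommGroup N] [Module A N] :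
    ∃ a b : ℤ, ∀ i : ℤ, (i < a ∨ b < i) → Subsingleton (Dual.HD A (Kp ω E N) i) := by
  obtain ⟨a, b, hab⟩ := hω.finite_injective_dimension
  refine ⟨a, b, fun i hi => ?_⟩
  obtain ⟨e⟩ := Groth.Agent.H4.DZ2.nonempty_extLinEquiv (Dual.inD A (N →ₗ[A] E)) ω i
  haveI := hab (N →ₗ[A] E) i hi
  exact e.toEquiv.subsingleton

/-- `RΓ_m` of `Kp` is `N` in degree `0`. -/
theorem nonempty_rgamma_Kp_iso [DRing.HasRgammaI 𝔪] (N : Type u) [AddCommGroup N] [Module A N]
    [IsArtinian A N] :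
    Nonempty ((DRing.RgammaI 𝔪).obj (Kp ω E N) ≅ Dual.inD A N) := by
  obtain ⟨a, b, hab⟩ := exists_bounded_Kp hω E N
  haveI : (Kp ω E N).IsGE a := by
    rw [isGE_iff]
    intro i hi
    haveI := hab i (Or.inl hi)
    exact ModuleCat.isZero_of_subsingleton _
  have hfin : ∀ i : ℤ, Module.Finite A (Dual.HD A (Kp ω E N) i) := finite_HD_Kp hω E f hf N
  have hPfin : ∀ j : ℤ, Module.Finite A (Dual.HD A (Dual.inD A (N →ₗ[A] E)) j) := by
    haveI := (Groth.Agent.S0317.result A E f hf N).1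
    exact fun j => Groth.Agent.H4.DZ4.finite_HD_inD (N →ₗ[A] E) j
  have key : ∀ i : ℤ, Nonempty (Dual.HD A ((DRing.RgammaI 𝔪).obj (Kp ω E N)) i ≃ₗ[A]
      (Dual.HD A (Dual.inD A (N →ₗ[A] E)) (-i) →ₗ[A] E)) := by
    intro i
    obtain ⟨e1⟩ := Groth.Agent.H4.RG3.S1812 𝔪 (Kp ω E N) i
    obtain ⟨e2⟩ := Groth.Agent.H4.LD10.nonempty_hdi_equiv_dual hn hω E f hf (Kp ω E N) a hfin i
    obtain ⟨e3⟩ := Groth.Agent.H4.DZ4.nonempty_hom_dual_equiv ω hω
      (Dual.inD A (N →ₗ[A] E)) hPfin (-i)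
    exact ⟨e1 ≪≫ₗ e2 ≪≫ₗ LinearEquiv.arrowCongr e3 (LinearEquiv.refl A E)⟩
  have key0 := key 0
  rw [neg_zero] at key0
  obtain ⟨e⟩ := key0
  obtain ⟨e0⟩ := Groth.Agent.H4.DZ4.nonempty_HD_inD_zero (A := A) (N →ₗ[A] E)
  have hbij := (Groth.Agent.S0317.result A E f hf N).2
  let e4 : N ≃ₗ[A] ((N →ₗ[A] E) →ₗ[A] E) := LinearEquiv.ofBijective _ hbij
  refine Groth.Agent.H4.US25.nonempty_iso_inD_of_HD _ N ?_
    (e ≪≫ₗ LinearEquiv.arrowCongr e0 (LinearEquiv.refl A E) ≪≫ₗ e4.symm)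
  intro j hj
  obtain ⟨e⟩ := key j
  haveI := Groth.Agent.H4.DZ4.subsingleton_HD_inD (A := A) (N →ₗ[A] E) (-j) (by omega)
  haveI : Subsingleton (Dual.HD A (Dual.inD A (N →ₗ[A] E)) (-j) →ₗ[A] E) :=
    ⟨fun φ ψ => LinearMap.ext fun x => by rw [Subsingleton.elim x 0, map_zero, map_zero]⟩
  exact e.toEquiv.subsingleton

end dual

end Groth.Agent.H4.Cof2
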