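import Mathlib
import Groth.Prelude.Def_DualLC
import Groth.Agent.H4.Cof2
import Groth.Agent.H4.LD8

set_option autoImplicit false
universe u
open CategoryTheory Category Limits Pretriangulated Opposite ZeroObject

namespace Groth.Agent.H4.Cof3

attribute [local instance] HasDerivedCategory.standard
attribute [local instance] Groth.Agent.H4.LK4.hasLTen Groth.Agent.H4.LK5.hasLTen₃
  Groth.Agent.H4.KI7.isSymMonoidal Groth.Agent.H4.KI6.hasRHom

open DRing DerivedCategory Groth.Agent.H4.DThick Groth.Agent.H4.Cof1 Groth.Agent.H4.LD3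
  DTen Groth.Agent.H4.Cof2 Groth.Agent.H4.ProjAmp

variable {A : Type u} [CommRing A] [IsLocalRing A] [IsNoetherianRing A]
  [IsAdicComplete (IsLocalRing.maximalIdeal A) A]
  {ω : Dual.D A} (hn : Dual.IsNormalized A ω) (hω : Dual.IsDualizing A ω)
  (E : Type u) [AddCommGroup E] [Module A E]
  (f : IsLocalRing.ResidueField A →ₗ[A] E) (hf : InjHull.IsInjectiveHull f)

local notation "𝔪" => IsLocalRing.maximalIdeal A

include hn hω hf

/-- the derived completion of an Artinian module in degree `0`. -/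
theorem nonempty_completion_inD_iso [DRing.HasRgammaI 𝔪] [DRing.HasDerivedCompletion 𝔪]
    (N : Type u) [AddCommGroup N] [Module A N] [IsArtinian A N] :
    Nonempty (((derivedCompletion 𝔪).obj (Dual.inD A N)).obj ≅ Kp ω E N) := by
  obtain ⟨e1⟩ := nonempty_rgamma_Kp_iso hn hω E f hf N
  haveI := isIso_completion_map_eps 𝔪 (Kp ω E N)
  have hc : IsDerivedComplete 𝔪 (Kp ω E N) :=
    isDerivedComplete_of_finite 𝔪 _ (finite_HD_Kp hω E f hf N)
  haveI := isIso_unit_of_isDerivedComplete 𝔪 _ hc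
  let e2 : (derivedCompletion 𝔪).obj (Dual.inD A N) ≅ (derivedCompletion 𝔪).obj (Kp ω E N) :=
    (derivedCompletion 𝔪).mapIso e1.symm ≪≫
      asIso ((derivedCompletion 𝔪).map ((DRing.RgammaIε 𝔪).app (Kp ω E N)))
  exact ⟨(ObjectProperty.ι (IsDerivedComplete 𝔪)).mapIso e2 ≪≫
    (asIso (toDerivedCompletion 𝔪 (Kp ω E N))).symm⟩

/-- (b1) -/
theorem finCompl_of_cofin [DRing.HasRgammaI 𝔪] [DRing.HasDerivedCompletion 𝔪] (K : Dual.D A)
    (hb : ∃ a b : ℤ, ∀ i : ℤ, (i < a ∨ b < i) → Subsingleton (Dual.HD A K i))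
    (hK : ∀ i : ℤ, Cofin A (Dual.HD A K i)) : FinCompl 𝔪 K := by
  refine (isTriSub_finCompl 𝔪).of_bounded_homology K hb (fun i j => ?_)
  haveI : IsArtinian A (Dual.HD A K i) := (cofin_iff_isArtinian _).1 (hK i)
  obtain ⟨e⟩ := nonempty_completion_inD_iso hn hω E f hf (Dual.HD A K i)
  haveI := finite_HD_Kp hω E f hf (Dual.HD A K i) j
  exact Module.Finite.equiv ((homologyFunctor (ModuleCat.{u} A) j).mapIso e).toLinearEquiv.symm

/-- (c) -/
theorem subsingleton_hom_completion [DRing.HasRgammaI 𝔪] [DRing.HasDerivedCompletion 𝔪]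
    (N : Type u) [AddCommGroup N] [Module A N] (hN : Cofin A N) (i : ℤ) (hi : i ≠ 0) :
    Subsingleton (((derivedCompletion 𝔪).obj (Dual.inD A N)).obj ⟶ ω⟦i⟧) := by
  haveI : IsArtinian A N := (cofin_iff_isArtinian _).1 hN
  obtain ⟨e⟩ := nonempty_completion_inD_iso hn hω E f hf N
  haveI := (Groth.Agent.S0317.result A E f hf N).1
  obtain ⟨e3⟩ := Groth.Agent.H4.DZ4.nonempty_hom_dual_equiv ω hω
    (Dual.inD A (N →ₗ[A] E)) (fun j => Groth.Agent.H4.DZ4.finite_HD_inD (N →ₗ[A] E) j) i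
  haveI := Groth.Agent.H4.DZ4.subsingleton_HD_inD (A := A) (N →ₗ[A] E) i hi
  haveI : Subsingleton (Kp ω E N ⟶ ω⟦i⟧) := e3.toEquiv.subsingleton
  exact ((e.homCongr (Iso.refl (ω⟦i⟧)))).subsingleton


omit hn hω hf [IsLocalRing A] [IsAdicComplete (IsLocalRing.maximalIdeal A) A] in
lemma isGE_of_bounded (K : Dual.D A) (a : ℤ)
    (h : ∀ i : ℤ, i < a → Subsingleton (Dual.HD A K i)) : K.IsGE a := by
  rw [isGE_iff]
  intro i hi
  haveI := h i hi
  exact ModuleCat.isZero_of_subsingleton _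

omit hn hω hf [IsLocalRing A] [IsAdicComplete (IsLocalRing.maximalIdeal A) A] in
lemma isLE_of_bounded (K : Dual.D A) (b : ℤ)
    (h : ∀ i : ℤ, b < i → Subsingleton (Dual.HD A K i)) : K.IsLE b := by
  rw [isLE_iff]
  intro i hi
  haveI := h i hi
  exact ModuleCat.isZero_of_subsingleton _

omit hn hω hf [IsLocalRing A] [IsAdicComplete (IsLocalRing.maximalIdeal A) A] in
/-- (a1) `RΓ_I` preserves boundedness. -/
theorem exists_bounded_rgamma (I : Ideal A) [DRing.HasRgammaI I] (M : Dual.D A)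
    (hb : ∃ a b : ℤ, ∀ i : ℤ, (i < a ∨ b < i) → Subsingleton (Dual.HD A M i)) :
    ∃ a b : ℤ, ∀ i : ℤ, (i < a ∨ b < i) →
      Subsingleton (Dual.HD A ((DRing.RgammaI I).obj M) i) := by
  obtain ⟨a, b, hab⟩ := hb
  obtain ⟨d, hd⟩ := Groth.Agent.H4.RG9.exists_cd I
  haveI : M.IsGE a := isGE_of_bounded M a (fun i hi => hab i (Or.inl hi))
  haveI : M.IsLE b := isLE_of_bounded M b (fun i hi => hab i (Or.inr hi))
  refine ⟨a, b + d, fun i hi => ?_⟩
  obtain ⟨e1⟩ := Groth.Agent.H4.RG3.S1812 I M i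
  rcases hi with hi | hi
  · haveI : (M⟦i⟧).IsGE 1 := by
      haveI : (M⟦i⟧).IsGE (a - i) := (tR A).isGE_shift M a i (a - i) (by omega)
      exact (tR A).isGE_of_ge _ 1 (a - i) (by omega)
    haveI : Subsingleton (Dual2.HDI A I M i) :=
      ModuleCat.subsingleton_of_isZero (Groth.Agent.H4.LD8.isZero_hdi_of_isGE I (M⟦i⟧))
    exact e1.toEquiv.subsingleton
  · haveI : (M⟦i⟧).IsLE (b - i) := (tR A).isLE_shift M b i (b - i) (by omega)
    haveI : Subsingleton (Dual2.HDI A I M i) := hd (M⟦i⟧) (b - i) inferInstance (by omega)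
    exact e1.toEquiv.subsingleton

omit hn hω hf [IsLocalRing A] [IsAdicComplete (IsLocalRing.maximalIdeal A) A] in
/-- (b2) derived completion preserves boundedness. -/
theorem exists_bounded_completion (I : Ideal A) [DRing.HasDerivedCompletion I] (K : Dual.D A)
    (hb : ∃ a b : ℤ, ∀ i : ℤ, (i < a ∨ b < i) → Subsingleton (Dual.HD A K i)) :
    ∃ a b : ℤ, ∀ i : ℤ, (i < a ∨ b < i) →
      Subsingleton (Dual.HD A ((derivedCompletion I).obj K).obj i) := by
  obtain ⟨a, b, hab⟩ := hb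
  obtain ⟨s, hs⟩ := (IsNoetherian.noetherian I : I.FG)
  haveI : K.IsGE a := isGE_of_bounded K a (fun i hi => hab i (Or.inl hi))
  haveI : K.IsLE b := isLE_of_bounded K b (fun i hi => hab i (Or.inr hi))
  haveI h1 := Groth.Agent.H4.DCompl6.isLE_completion I s hs K b inferInstance
  haveI h2 := Groth.Agent.H4.DCompl6.isGE_completion I s hs K a inferInstance
  refine ⟨a - s.card, b, fun i hi => ?_⟩
  rcases hi with hi | hi
  · exact ModuleCat.subsingleton_of_isZero (isZero_of_isGE _ (a - s.card) i hi)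
  · exact ModuleCat.subsingleton_of_isZero (isZero_of_isLE _ b i hi)

/-- **S19134** -/
theorem S19134 [DRing.HasRgammaI 𝔪] [DRing.HasDerivedCompletion 𝔪] :
    (∀ M : Dual.D A, (∀ i : ℤ, Module.Finite A (Dual.HD A M i)) →
      (∃ a b : ℤ, ∀ i : ℤ, (i < a ∨ b < i) → Subsingleton (Dual.HD A M i)) →
        (∃ a b : ℤ, ∀ i : ℤ, (i < a ∨ b < i) →
          Subsingleton (Dual.HD A ((DRing.RgammaI (IsLocalRing.maximalIdeal A)).obj M) i)) ∧
        (∀ i : ℤ, LocCoh.IsPowerTorsion (IsLocalRing.maximalIdeal A)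
            (Dual.HD A ((DRing.RgammaI (IsLocalRing.maximalIdeal A)).obj M) i) ∧
          Module.Finite A ↥(LocCoh.torsionBy (IsLocalRing.maximalIdeal A)
            (Dual.HD A ((DRing.RgammaI (IsLocalRing.maximalIdeal A)).obj M) i))) ∧
        IsIso ((DRing.derivedCompletion (IsLocalRing.maximalIdeal A)).map
          ((DRing.RgammaIε (IsLocalRing.maximalIdeal A)).app M)) ∧
        IsIso (DRing.toDerivedCompletion (IsLocalRing.maximalIdeal A) M)) ∧
    (∀ K : Dual.D A, (∃ a b : ℤ, ∀ i : ℤ, (i < a ∨ b < i) → Subsingleton (Dual.HD A K i)) →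
      (∀ i : ℤ, LocCoh.IsPowerTorsion (IsLocalRing.maximalIdeal A) (Dual.HD A K i) ∧
        Module.Finite A ↥(LocCoh.torsionBy (IsLocalRing.maximalIdeal A) (Dual.HD A K i))) →
        (∀ i : ℤ, Module.Finite A
          (Dual.HD A ((DRing.derivedCompletion (IsLocalRing.maximalIdeal A)).obj K).obj i)) ∧
        (∃ a b : ℤ, ∀ i : ℤ, (i < a ∨ b < i) → Subsingleton
          (Dual.HD A ((DRing.derivedCompletion (IsLocalRing.maximalIdeal A)).obj K).obj i)) ∧
        IsIso ((DRing.RgammaI (IsLocalRing.maximalIdeal A)).map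
          (DRing.toDerivedCompletion (IsLocalRing.maximalIdeal A) K)) ∧
        IsIso ((DRing.RgammaIε (IsLocalRing.maximalIdeal A)).app K)) ∧
    (∀ (N : Type u) [AddCommGroup N] [Module A N],
      LocCoh.IsPowerTorsion (IsLocalRing.maximalIdeal A) N →
      Module.Finite A ↥(LocCoh.torsionBy (IsLocalRing.maximalIdeal A) N) →
        ∀ i : ℤ, i ≠ 0 → Subsingleton
          (((DRing.derivedCompletion (IsLocalRing.maximalIdeal A)).obj (Dual.inD A N)).obj ⟶
            ω⟦i⟧)) := by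
  refine ⟨fun M hM hb => ⟨exists_bounded_rgamma 𝔪 M hb, ?_, isIso_completion_map_eps 𝔪 M,
      isIso_unit_of_isDerivedComplete 𝔪 M (isDerivedComplete_of_finite 𝔪 M hM)⟩,
    fun K hb hK => ⟨finCompl_of_cofin hn hω E f hf K hb hK, exists_bounded_completion 𝔪 K hb,
      isIso_rgamma_map_unit 𝔪 K, Groth.Agent.H4.RG10.S1813 𝔪 K (fun i => (hK i).1)⟩,
    fun N _ _ h1 h2 i hi => subsingleton_hom_completion hn hω E f hf N ⟨h1, h2⟩ i hi⟩
  obtain ⟨a, b, hab⟩ := hb
  haveI : M.IsGE a := isGE_of_bounded M a (fun i hi => hab i (Or.inl hi))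
  exact fun i => cofin_HD_rgamma hn hω E f hf M a hM i

end Groth.Agent.H4.Cof3
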