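import Mathlib
set_option autoImplicit false
universe u

namespace Groth.Agent.H4.Coh

variable {R : Type u} [CommRing R]

lemma fp_aux {M I Q : Type u} [AddCommGroup M] [Module R M] [AddCommGroup I] [Module R I]
    [AddCommGroup Q] [Module R Q] (f : M →ₗ[R] I) (hf : Function.Surjective f)
    [Module.FinitePresentation R I] [Module.Finite R M] (g : M →ₗ[R] Q)
    (hinj : ∀ x, f x = 0 → g x = 0 → x = 0)
    (hQ : ∀ N : Submodule R Q, N.FG → Module.FinitePresentation R N) :
    Module.FinitePresentation R M := by
  have hker : (LinearMap.ker f).FG := Module.FinitePresentation.fg_ker f hf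
  haveI : Module.Finite R (LinearMap.ker f) := Module.Finite.iff_fg.2 hker
  let g' : LinearMap.ker f →ₗ[R] Q := g.domRestrict (LinearMap.ker f)
  have hg' : Function.Injective g' := by
    refine LinearMap.ker_eq_bot.1 (LinearMap.ker_eq_bot'.2 (fun x hx => ?_))
    exact Subtype.ext (hinj x.1 x.2 hx)
  have hrange : (LinearMap.range g').FG := by
    rw [LinearMap.range_eq_map]
    exact Submodule.FG.map _ Module.Finite.fg_top
  haveI := hQ (LinearMap.range g') hrange
  haveI : Module.FinitePresentation R (LinearMap.ker f) :=
    Module.FinitePresentation.of_equiv (LinearEquiv.ofInjective g' hg').symm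
  exact Module.finitePresentation_of_ker f hf

/-- over a coherent ring, finitely generated submodules of finite free modules are finitely
presented. -/
theorem fp_of_fg_submodule_pi (hR : ∀ I : Ideal R, I.FG → Module.FinitePresentation R I) :
    ∀ (r : ℕ) (M : Submodule R (Fin r → R)), M.FG → Module.FinitePresentation R M := by
  intro r
  induction r with
  | zero =>
    intro M _
    haveI : Subsingleton M := by
      constructor
      intro x y
      ext i
      exact Fin.elim0 i
    infer_instance
  | succ r ih =>
    intro M hM
    haveI : Module.Finite R M := Module.Finite.iff_fg.2 hM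
    let π : (Fin (r + 1) → R) →ₗ[R] R := LinearMap.proj 0
    let tailL : (Fin (r + 1) → R) →ₗ[R] (Fin r → R) := LinearMap.funLeft R R Fin.succ
    let I : Ideal R := M.map π
    have hI : I.FG := hM.map π
    haveI := hR I hI
    refine fp_aux (π.submoduleMap M) (π.submoduleMap_surjective M) (tailL ∘ₗ M.subtype) ?_ ih
    intro x h1 h2
    have h1' : π x.1 = 0 := congrArg Subtype.val h1
    apply Subtype.ext
    funext i
    refine Fin.cases h1' (fun j => ?_) i
    exact congrFun h2 j

/-- over a coherent ring, finitely generated submodules of finitely presented modules are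
finitely presented. -/
theorem fp_of_fg_submodule (hR : ∀ I : Ideal R, I.FG → Module.FinitePresentation R I)
    (N : Type u) [AddCommGroup N] [Module R N] [Module.FinitePresentation R N]
    (M : Submodule R N) (hM : M.FG) : Module.FinitePresentation R M := by
  obtain ⟨r, p, hp⟩ := Module.Finite.exists_fin' R N
  have hk : (LinearMap.ker p).FG := Module.FinitePresentation.fg_ker p hp
  -- preimage of `M`
  let M' : Submodule R (Fin r → R) := M.comap p
  have hM' : M'.FG := by
    obtain ⟨s, hs⟩ := hM
    -- M' = ker p + span of lifts
    classical
    choose l hl using hp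
    have : M' = LinearMap.ker p ⊔ Submodule.span R ((s.image l : Finset (Fin r → R)) : Set _) := by
      apply le_antisymm
      · intro x hx
        have hx' : p x ∈ Submodule.span R (s : Set N) := by rw [hs]; exact hx
        have : p x ∈ (Submodule.span R ((s.image l : Finset (Fin r → R)) : Set _)).map p := by
          rw [Submodule.map_span, Finset.coe_image, Set.image_image]
          simp only [hl, Set.image_id']
          exact hx'
        obtain ⟨y, hy, hxy⟩ := this
        have : x - y ∈ LinearMap.ker p := by rw [LinearMap.mem_ker, map_sub, hxy, sub_self]
        have hxeq : x = (x - y) + y := by abel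
        rw [hxeq]
        exact Submodule.add_mem_sup this hy
      · refine sup_le ?_ ?_
        · intro x hx
          change p x ∈ M
          rw [LinearMap.mem_ker.1 hx]; exact M.zero_mem
        · rw [Submodule.span_le]
          intro x hx
          simp only [Finset.coe_image, Set.mem_image] at hx
          obtain ⟨y, hy, rfl⟩ := hx
          change p (l y) ∈ M
          rw [hl, ← hs]
          exact Submodule.subset_span hy
    rw [this]
    exact hk.sup (Submodule.fg_span (Finset.finite_toSet _))
  haveI := fp_of_fg_submodule_pi hR r M' hM'
  -- `M' → M` surjective with f.g. kernel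
  let q : M' →ₗ[R] M := p.restrict (fun x hx => hx)
  have hq : Function.Surjective q := by
    rintro ⟨y, hy⟩
    obtain ⟨x, rfl⟩ := hp y
    exact ⟨⟨x, hy⟩, rfl⟩
  have hkq : (LinearMap.ker q).FG := by
    have : LinearMap.ker q = (LinearMap.ker p).comap M'.subtype := by
      ext x
      simp only [LinearMap.mem_ker, Submodule.mem_comap, Submodule.subtype_apply]
      constructor
      · intro h; exact congrArg Subtype.val h
      · intro h; exact Subtype.ext h
    rw [this]
    have hle : LinearMap.ker p ≤ M' := by
      intro x hx
      change p x ∈ M
      rw [LinearMap.mem_ker.1 hx]; exact M.zero_mem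
    refine Submodule.fg_of_fg_map_injective M'.subtype Subtype.val_injective ?_
    rw [Submodule.map_comap_subtype, inf_eq_right.2 hle]
    exact hk
  exact Module.finitePresentation_of_surjective q hq hkq

end Groth.Agent.H4.Coh
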