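import Mathlib
import Groth.Agent.H4.FAmp2

set_option autoImplicit false
universe u
open CategoryTheory CategoryTheory.Limits AlgebraicGeometry Groth.Agent.LD.QC
open Groth.Agent.H1.CohLen Groth.Agent.H1.SchFlat

namespace Groth.Agent.H4.FAmp3

variable {X Y : Scheme.{u}}

/-- the stalk of the structure sheaf under an open immersion -/
noncomputable def stalkRingEquiv (j : Y ⟶ X) [IsOpenImmersion j] (y : Y) :
    Y.presheaf.stalk y ≃+* X.presheaf.stalk (j y) :=
  (asIso (j.stalkMap y)).symm.commRingCatIsoToRingEquiv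

lemma stalkRingEquiv_germ (j : Y ⟶ X) [IsOpenImmersion j] (y : Y) (W : Y.Opens) (hy : y ∈ W)
    (a : Γ(Y, W)) :
    stalkRingEquiv j y (Y.presheaf.germ W y hy a) =
      X.presheaf.germ (j ''ᵁ W) (j y) ⟨y, hy, rfl⟩ ((j.appIso W).inv a) := by
  have h1 : j.stalkMap y (X.presheaf.germ (j ''ᵁ W) (j y) ⟨y, hy, rfl⟩ ((j.appIso W).inv a)) =
      Y.presheaf.germ W y hy a := by
    rw [Scheme.Hom.germ_stalkMap_apply, Scheme.Hom.appIso_inv_app_apply]
    exact TopCat.Presheaf.germ_res_apply Y.presheaf _ y _ a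
  rw [← h1]
  exact (asIso (j.stalkMap y)).hom_inv_id_apply _

/-- the stalk of a restricted module -/
noncomputable def stalkRestrictAddEquiv (j : Y ⟶ X) [IsOpenImmersion j] (M : X.Modules) (y : Y) :
    (M.restrict j).presheaf.stalk y ≃+ M.presheaf.stalk (j y) :=
  ((Scheme.Modules.restrictStalkNatIso j y).app M).addCommGroupIsoToAddEquiv

lemma stalkRestrictAddEquiv_germ (j : Y ⟶ X) [IsOpenImmersion j] (M : X.Modules) (y : Y)
    (W : Y.Opens) (hy : y ∈ W) (s : Γ(M.restrict j, W)) :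
    stalkRestrictAddEquiv j M y ((M.restrict j).presheaf.germ W y hy s) =
      M.presheaf.germ (j ''ᵁ W) (j y) ⟨y, hy, rfl⟩ s :=
  congr($(Scheme.Modules.germ_restrictStalkNatIso_hom_app j y M hy) s)

lemma stalkRestrictAddEquiv_smul (j : Y ⟶ X) [IsOpenImmersion j] (M : X.Modules) (y : Y)
    (a : Y.presheaf.stalk y) (m : (M.restrict j).presheaf.stalk y) :
    stalkRestrictAddEquiv j M y (a • m) =
      stalkRingEquiv j y a • stalkRestrictAddEquiv j M y m := by
  obtain ⟨W₁, hyW₁, t, rfl⟩ := TopCat.Presheaf.exists_germ_eq (M.restrict j).presheaf m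
  obtain ⟨W₂, hyW₂, ρ, rfl⟩ := TopCat.Presheaf.exists_germ_eq Y.presheaf a
  let W := W₁ ⊓ W₂
  have hyW : y ∈ W := ⟨hyW₁, hyW₂⟩
  have h1 : (M.restrict j).presheaf.germ W₁ y hyW₁ t =
      (M.restrict j).presheaf.germ W y hyW ((M.restrict j).presheaf.map (homOfLE inf_le_left).op t) :=
    (germ_res (M.restrict j) y inf_le_left hyW t).symm
  have h2 : Y.presheaf.germ W₂ y hyW₂ ρ =
      Y.presheaf.germ W y hyW (Y.presheaf.map (homOfLE inf_le_right).op ρ) :=
    (sgerm_res y inf_le_right hyW ρ).symm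
  rw [h1, h2]
  set ρ' := Y.presheaf.map (homOfLE (inf_le_right : W ≤ W₂)).op ρ with hρ'
  set t' := (M.restrict j).presheaf.map (homOfLE (inf_le_left : W ≤ W₁)).op t with ht'
  rw [← germ_smul (M.restrict j) y W hyW ρ' t', stalkRestrictAddEquiv_germ,
    stalkRestrictAddEquiv_germ, stalkRingEquiv_germ]
  exact germ_smul M (j y) (j ''ᵁ W) ⟨y, hyW, rfl⟩ ((j.appIso W).inv ρ') t'

theorem isFlat_restrict (j : Y ⟶ X) [IsOpenImmersion j] (M : X.Modules) (hM : FlatMod.IsFlat M) :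
    FlatMod.IsFlat (M.restrict j) := by
  intro y
  exact (flat_iff_of_ringEquiv_semilinear (stalkRingEquiv j y) (stalkRestrictAddEquiv j M y)
    (stalkRestrictAddEquiv_smul j M y)).2 (hM (j y))

end Groth.Agent.H4.FAmp3
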