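import Mathlib
import Groth.Agent.H4.FAmp3

set_option autoImplicit false
universe u
attribute [local instance] HasDerivedCategory.standard
open CategoryTheory CategoryTheory.Limits AlgebraicGeometry Groth.Agent.LD.QC DerivedCategory
open Groth.Agent.H4.PSch1 Groth.Agent.H4.PSch2 Groth.Agent.H4.PSch3 Groth.Agent.H4.PSch4
open Groth.Agent.H4.PSch5 Groth.Agent.H4.PSch6 Groth.Agent.H4.TilD9 Groth.Agent.H4.TilD10
open Groth.Agent.H4.TilD11 Groth.Agent.H4.PCS6 Groth.Agent.H4.FAmp1 Groth.Agent.H4.FAmp2 Groth.Agent.H4.FAmp3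

namespace Groth.Agent.H4.FAmp4

section General

variable {C : Type*} [Category C] [Abelian C]

lemma quasiIso_truncGEMap_of_isWitCx {E F : CochainComplex C ℤ} (g : E ⟶ F) (a : ℤ)
    (hg : IsWitCx (a - 1) g) : QuasiIso (CochainComplex.truncGEMap g a) := by
  rw [CochainComplex.quasiIso_truncGEMap_iff]
  intro i hi
  rw [quasiIsoAt_iff_isIso_homologyMap]
  exact hg.1 i (by omega)

theorem nonempty_iso_truncGE [HasDerivedCategory C] {E F : CochainComplex C ℤ} (g : E ⟶ F) (a : ℤ)
    (hg : IsWitCx (a - 1) g) [F.IsGE a] : Nonempty (Q.obj F ≅ Q.obj (E.truncGE a)) := by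
  haveI := quasiIso_truncGEMap_of_isWitCx g a hg
  haveI : IsIso (Q.map (CochainComplex.truncGEMap g a)) := by
    rw [isIso_Q_map_iff_quasiIso]; infer_instance
  haveI : IsIso (Q.map (F.πTruncGE a)) := by
    rw [isIso_Q_map_iff_quasiIso]; infer_instance
  exact ⟨asIso (Q.map (F.πTruncGE a)) ≪≫ (asIso (Q.map (CochainComplex.truncGEMap g a))).symm⟩

end General

variable {X : Scheme.{u}}

lemma isStrictlyPerfect_truncGE (E : CochainComplex X.Modules ℤ) (hE : DCoh.IsStrictlyPerfect E)
    (a : ℤ) (hN : FlatMod.IsFinLocFree (E.opcycles a)) :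
    DCoh.IsStrictlyPerfect (E.truncGE a) := by
  obtain ⟨⟨a', b', hab⟩, hfree⟩ := hE
  refine ⟨⟨a, max a b', fun i hi => ?_⟩, fun i => ?_⟩
  · rcases hi with hi | hi
    · exact CochainComplex.isZero_of_isStrictlyGE (E.truncGE a) a i hi
    · exact (hab i (Or.inr (by omega))).of_iso (E.truncGEXIso a i (by omega))
  · rcases lt_trichotomy i a with h | h | h
    · exact isFinLocFree_of_isZero (CochainComplex.isZero_of_isStrictlyGE (E.truncGE a) a i h)
    · subst h; exact isFinLocFree_of_iso (E.truncGEXIsoOpcycles i).symm hN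
    · exact isFinLocFree_of_iso (E.truncGEXIso a i h).symm (hfree i)

lemma kerClosed_isFinLocFree : KerClosed (fun M : X.Modules => FlatMod.IsFinLocFree M) where
  iso e h := isFinLocFree_of_iso e h
  zero h := isFinLocFree_of_isZero h
  ker p _ hM hN := isFinLocFree_kernel p hM hN
  biprod hM hN := Groth.Agent.H3.SPerf.isFinLocFree_biprod _ _ hM hN

/-- the cokernel of a differential of a strictly perfect complex is finitely presented -/
lemma isFinitePresentation_opcycles (P : CochainComplex X.Modules ℤ)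
    (hP : ∀ n, FlatMod.IsFinLocFree (P.X n)) (a : ℤ) : (P.opcycles a).IsFinitePresentation :=
  isFinitePresentation_of_isCokernel (P.d (a - 1) a) (P.pOpcycles a) (P.d_pOpcycles _ _)
    (P.opcyclesIsCokernel (a - 1) a (by simp)) (hP _) (hP _)

/-- a finitely presented flat module is finite locally free -/
lemma isFinLocFree_of_isFlat (M : X.Modules) (hfp : M.IsFinitePresentation)
    (hM : FlatMod.IsFlat M) : FlatMod.IsFinLocFree M :=
  fun y => exists_restrict_iso_freeMod_of_flat_stalk M hfp y (hM y)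

/-- the core statement: flat amplitude in `[a, b]` and `(a - 1)`-pseudo-coherence at `x` give
perfectness at `x` -/
theorem perfAt_of_flat_of_pcAt (F : CochainComplex X.Modules ℤ) (a b : ℤ)
    (hF : DCoh.VanishesOutside F a b) (hflat : ∀ i, FlatMod.IsFlat (F.X i)) (x : X)
    (h : PCAt (a - 1) (Q.obj F) x) : PerfAt (Q.obj F) x := by
  obtain ⟨U, j, hj, hx, P, g, a', b', hP, hfree, hg⟩ := exists_locFreeWit_of_pcAt (a - 1) F x h
  have hPf : ∀ n, FlatMod.IsFinLocFree (P.X n) := fun n => by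
    obtain ⟨k, ⟨e⟩⟩ := hfree n
    exact isFinLocFree_of_iso e.symm (isFinLocFree_freeMod U k)
  have hPflat : ∀ n, FlatMod.IsFlat (P.X n) := fun n => isFlat_of_isFinLocFree _ (hPf n)
  have hF'flat : ∀ n, FlatMod.IsFlat (((resCx j).obj F).X n) := fun n =>
    isFlat_restrict j (F.X n) (hflat n)
  have hF'z : ∀ i, i < a ∨ b < i → IsZero (((resCx j).obj F).X i) := fun i hi =>
    (Scheme.Modules.restrictFunctor j).map_isZero (hF i hi)
  have hN : FlatMod.IsFlat (P.opcycles a) :=
    prop_opcycles kerClosed_isFlat g a (max b b') hPflat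
      (fun i hi => hP i (Or.inr (by omega))) hF'flat (fun i hi => hF'z i (Or.inl hi))
      (fun i hi => hF'z i (Or.inr (by omega))) hg
  have hNf : FlatMod.IsFinLocFree (P.opcycles a) :=
    isFinLocFree_of_isFlat _ (isFinitePresentation_opcycles P hPf a) hN
  have hPsp : DCoh.IsStrictlyPerfect P := ⟨⟨a', b', hP⟩, hPf⟩
  haveI : ((resCx j).obj F).IsStrictlyGE a := by
    rw [CochainComplex.isStrictlyGE_iff]
    exact fun i hi => hF'z i (Or.inl hi)
  obtain ⟨e⟩ := nonempty_iso_truncGE g a hg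
  exact ⟨U, j, hj, P.truncGE a, hx, isStrictlyPerfect_truncGE P hPsp a hNf, ⟨RDfac j F ≪≫ e⟩⟩

theorem S0913 (E : DCoh.D X) (a b : ℤ)
    (h1 : DCoh.HasFlatAmplitudeIn a b E) (h2 : DCoh.IsPseudoCoherentD (a - 1) E) :
    DCoh.IsPerfect E := by
  obtain ⟨F, hF, hflat, ⟨e⟩⟩ := h1
  rw [isPerfect_iff_perfAt]
  intro x
  rw [isPseudoCoherentD_iff_pcAt] at h2
  exact PerfAt.of_iso e x (perfAt_of_flat_of_pcAt F a b hF hflat x (PCAt.of_iso e.symm x (h2 x)))

end Groth.Agent.H4.FAmp4
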