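import Mathlib
import Groth.Agent.H4.FAmp4

set_option autoImplicit false
universe u
attribute [local instance] HasDerivedCategory.standard
open CategoryTheory CategoryTheory.Limits AlgebraicGeometry Groth.Agent.LD.QC DerivedCategory
open Groth.Agent.H4.PSch1 Groth.Agent.H4.PSch2 Groth.Agent.H4.PSch3 Groth.Agent.H4.PSch4
open Groth.Agent.H4.PSch5 Groth.Agent.H4.PSch6 Groth.Agent.H4.TilD9 Groth.Agent.H4.TilD10
open Groth.Agent.H4.TilD11 Groth.Agent.H4.PCS3 Groth.Agent.H4.PCS6 Groth.Agent.H4.FAmp1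
open Groth.Agent.H4.FAmp2 Groth.Agent.H4.FAmp3 Groth.Agent.H4.FAmp4

namespace Groth.Agent.H4.FAmp5

variable {X : Scheme.{u}}

lemma nonempty_RD_comp_obj' {W U : Scheme.{u}} (i : W ⟶ U) (j : U ⟶ X) (k : W ⟶ X)
    [IsOpenImmersion i] [IsOpenImmersion j] [IsOpenImmersion k] (h : k = i ≫ j) (K : DCoh.D X) :
    Nonempty ((RD k).obj K ≅ (RD i).obj ((RD j).obj K)) := by
  subst h
  exact ⟨(RDcomp i j).app K⟩

lemma PerfAt.of_restrict {U : Scheme.{u}} (j : U ⟶ X) [IsOpenImmersion j] (K : DCoh.D X)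
    (y : U) (h : PerfAt ((RD j).obj K) y) : PerfAt K (j y) := by
  obtain ⟨W, i, hi, E, ⟨w, rfl⟩, hE, ⟨e⟩⟩ := h
  exact ⟨W, i ≫ j, inferInstance, E, ⟨w, rfl⟩, hE, ⟨(RDcomp i j).app K ≪≫ e⟩⟩

lemma PCAt.restrict {m : ℤ} {U : Scheme.{u}} (j : U ⟶ X) [IsOpenImmersion j] (K : DCoh.D X)
    (y : U) (h : PCAt m K (j y)) : PCAt m ((RD j).obj K) y := by
  obtain ⟨U', j', hj', E, α, hx, hE, hα⟩ := h
  let p₁ : pullback j' j ⟶ U' := pullback.fst j' j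
  let p₂ : pullback j' j ⟶ U := pullback.snd j' j
  have hy : y ∈ Set.range p₂ := by
    rw [IsOpenImmersion.range_pullbackSnd]
    exact hx
  obtain ⟨e₁⟩ := nonempty_RD_comp_obj' p₁ j' (p₁ ≫ j') rfl K
  obtain ⟨e₂⟩ := nonempty_RD_comp_obj' p₂ j (p₁ ≫ j') pullback.condition K
  refine ⟨pullback j' j, p₂, inferInstance, (resCx p₁).obj E,
    (RDfac p₁ E).inv ≫ (RD p₁).map α ≫ (e₁.symm ≪≫ e₂).hom, hy,
    isStrictlyPerfect_restrict p₁ E hE, ?_⟩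
  rw [isWitD_iso_comp]
  exact hα.map _

theorem S0914 (E : DCoh.D X) :
    DCoh.IsPerfect E ↔ (∀ m : ℤ, DCoh.IsPseudoCoherentD m E) ∧ DCoh.LocHasFiniteTorDim E := by
  constructor
  · intro hE
    constructor
    · intro m x
      obtain ⟨V, hxV, hV⟩ := hE x
      refine ⟨V, hxV, fun F hF => ?_⟩
      obtain ⟨P, hP, ⟨e⟩⟩ := hV F hF
      exact ⟨P, e.inv, hP, fun i _ => inferInstance, inferInstance⟩
    · intro x
      obtain ⟨V₀, hxV₀, hV₀⟩ := hE x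
      let F₀ := Q.objPreimage E
      have eF₀ : Q.obj F₀ ≅ E := Q.objObjPreimageIso E
      obtain ⟨E₀, hE₀, ⟨e₀⟩⟩ := hV₀ F₀ ⟨eF₀⟩
      obtain ⟨⟨a, b, hab⟩, hfree⟩ := hE₀
      refine ⟨V₀, a, b, hxV₀, fun F' ⟨eF'⟩ => ⟨E₀, hab, fun i => ?_, ⟨?_⟩⟩⟩
      · exact isFlat_of_isFinLocFree (E₀.X i) (hfree i)
      · exact e₀.symm ≪≫ (RDfac V₀.ι F₀).symm ≪≫ (RD V₀.ι).mapIso (eF₀ ≪≫ eF'.symm) ≪≫
          RDfac V₀.ι F'
  · rintro ⟨hpc, htor⟩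
    rw [isPerfect_iff_perfAt]
    intro x
    obtain ⟨V, a, b, hxV, hV⟩ := htor x
    let F₀ := Q.objPreimage E
    have eF₀ : Q.obj F₀ ≅ E := Q.objObjPreimageIso E
    obtain ⟨G, hG, hGflat, ⟨eG⟩⟩ := hV F₀ ⟨eF₀⟩
    have h1 : PCAt (a - 1) E x := (isPseudoCoherentD_iff_pcAt (a - 1) E).1 (hpc (a - 1)) x
    let y : (V : Scheme.{u}) := ⟨x, hxV⟩
    have h2 : PCAt (a - 1) ((RD V.ι).obj E) y := PCAt.restrict V.ι E y h1
    have e : (RD V.ι).obj E ≅ Q.obj G :=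
      (RD V.ι).mapIso eF₀.symm ≪≫ RDfac V.ι F₀ ≪≫ eG.symm
    have h3 : PCAt (a - 1) (Q.obj G) y := PCAt.of_iso e y h2
    have h4 : PerfAt (Q.obj G) y := perfAt_of_flat_of_pcAt G a b hG hGflat y h3
    exact PerfAt.of_restrict V.ι E y (PerfAt.of_iso e.symm y h4)

end Groth.Agent.H4.FAmp5
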