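import Mathlib
import Groth.Agent.H4.FAmp5

set_option autoImplicit false
universe u
attribute [local instance] HasDerivedCategory.standard
open CategoryTheory CategoryTheory.Limits AlgebraicGeometry Groth.Agent.LD.QC DerivedCategory
open Groth.Agent.H4.PSch1 Groth.Agent.H4.PSch2 Groth.Agent.H4.PSch3 Groth.Agent.H4.PSch4
open Groth.Agent.H4.PSch5 Groth.Agent.H4.PSch6 Groth.Agent.H4.TilD9 Groth.Agent.H4.TilD10
open Groth.Agent.H4.TilD11 Groth.Agent.H4.PCS3 Groth.Agent.H4.PCS6 Groth.Agent.H4.FAmp1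
open Groth.Agent.H4.FAmp2 Groth.Agent.H4.FAmp3 Groth.Agent.H4.FAmp4 Groth.Agent.H4.FAmp5
open Groth.Agent.H4.PCS8 Groth.Agent.H4.PCS1 Groth.Agent.H3.SPerf

namespace Groth.Agent.H4.FAmp6

section Biprod

variable {C D : Type*} [Category C] [Category D] [Preadditive C] [Preadditive D]

lemma isIso_map_biprod_map (H : C ⥤ D) [H.Additive] {A₁ A₂ B₁ B₂ : C}
    [HasBinaryBiproduct A₁ A₂] [HasBinaryBiproduct B₁ B₂]
    (f₁ : A₁ ⟶ B₁) (f₂ : A₂ ⟶ B₂) [IsIso (H.map f₁)] [IsIso (H.map f₂)] :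
    IsIso (H.map (biprod.map f₁ f₂)) := by
  refine ⟨H.map biprod.fst ≫ inv (H.map f₁) ≫ H.map biprod.inl +
    H.map biprod.snd ≫ inv (H.map f₂) ≫ H.map biprod.inr, ?_, ?_⟩
  · rw [Preadditive.comp_add, ← H.map_comp_assoc, ← H.map_comp_assoc, biprod.map_fst,
      biprod.map_snd, H.map_comp, H.map_comp, Category.assoc, Category.assoc,
      IsIso.hom_inv_id_assoc, IsIso.hom_inv_id_assoc, ← H.map_comp, ← H.map_comp, ← H.map_add,
      biprod.total, H.map_id]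
  · rw [Preadditive.add_comp, Category.assoc, Category.assoc, Category.assoc, Category.assoc,
      ← H.map_comp, ← H.map_comp, biprod.inl_map, biprod.inr_map, H.map_comp, H.map_comp,
      IsIso.inv_hom_id_assoc, IsIso.inv_hom_id_assoc, ← H.map_comp, ← H.map_comp, ← H.map_add,
      biprod.total, H.map_id]

lemma epi_map_biprod_map (H : C ⥤ D) [H.Additive] {A₁ A₂ B₁ B₂ : C}
    [HasBinaryBiproduct A₁ A₂] [HasBinaryBiproduct B₁ B₂]
    (f₁ : A₁ ⟶ B₁) (f₂ : A₂ ⟶ B₂) [Epi (H.map f₁)] [Epi (H.map f₂)] :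
    Epi (H.map (biprod.map f₁ f₂)) := by
  refine ⟨fun {Z} u v huv => ?_⟩
  have e1 : H.map f₁ ≫ H.map biprod.inl = H.map biprod.inl ≫ H.map (biprod.map f₁ f₂) := by
    rw [← H.map_comp, ← H.map_comp, biprod.inl_map]
  have e2 : H.map f₂ ≫ H.map biprod.inr = H.map biprod.inr ≫ H.map (biprod.map f₁ f₂) := by
    rw [← H.map_comp, ← H.map_comp, biprod.inr_map]
  have h1 : H.map biprod.inl ≫ u = H.map biprod.inl ≫ v := by
    rw [← cancel_epi (H.map f₁), ← Category.assoc, ← Category.assoc, e1, Category.assoc,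
      Category.assoc, huv]
  have h2 : H.map biprod.inr ≫ u = H.map biprod.inr ≫ v := by
    rw [← cancel_epi (H.map f₂), ← Category.assoc, ← Category.assoc, e2, Category.assoc,
      Category.assoc, huv]
  have h3 : ∀ w : H.obj (B₁ ⊞ B₂) ⟶ Z, w = H.map biprod.fst ≫ H.map biprod.inl ≫ w +
      H.map biprod.snd ≫ H.map biprod.inr ≫ w := by
    intro w
    rw [← H.map_comp_assoc, ← H.map_comp_assoc, ← Preadditive.add_comp, ← H.map_add,
      biprod.total, H.map_id, Category.id_comp]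
  rw [h3 u, h3 v, h1, h2]

lemma IsWitF.biprod_map {H : ℤ → C ⥤ D} [∀ n, (H n).Additive] {m : ℤ} {A₁ A₂ B₁ B₂ : C}
    [HasBinaryBiproduct A₁ A₂] [HasBinaryBiproduct B₁ B₂]
    {f₁ : A₁ ⟶ B₁} {f₂ : A₂ ⟶ B₂} (h₁ : IsWitF H m f₁) (h₂ : IsWitF H m f₂) :
    IsWitF H m (biprod.map f₁ f₂) := by
  refine ⟨fun i hi => ?_, ?_⟩
  · haveI := h₁.1 i hi
    haveI := h₂.1 i hi
    exact isIso_map_biprod_map (H i) f₁ f₂
  · haveI := h₁.2
    haveI := h₂.2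
    exact epi_map_biprod_map (H m) f₁ f₂

end Biprod

section GE

variable {C : Type*} [Category C] [Abelian C] [HasDerivedCategory C]

lemma isGE_of_retract {K Y : DerivedCategory C} (i : K ⟶ Y) (p : Y ⟶ K) (hip : i ≫ p = 𝟙 K)
    (b : ℤ) [Y.IsGE b] : K.IsGE b := by
  rw [isGE_iff]
  intro j hj
  rw [IsZero.iff_id_eq_zero, ← CategoryTheory.Functor.map_id, ← hip, Functor.map_comp]
  have : (homologyFunctor C j).map i = 0 := (isZero_of_isGE Y b j hj).eq_of_tgt _ _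
  rw [this, zero_comp]

lemma IsWitD.biprod_map {m : ℤ} {A₁ A₂ B₁ B₂ : DerivedCategory C}
    {f₁ : A₁ ⟶ B₁} {f₂ : A₂ ⟶ B₂} (h₁ : IsWitD m f₁) (h₂ : IsWitD m f₂) :
    IsWitD m (biprod.map f₁ f₂) :=
  IsWitF.biprod_map (H := fun n => homologyFunctor C n) h₁ h₂

end GE

variable {X : Scheme.{u}}

lemma isStrictlyPerfect_biprod {U : Scheme.{u}} (E₁ E₂ : CochainComplex U.Modules ℤ)
    (h₁ : DCoh.IsStrictlyPerfect E₁) (h₂ : DCoh.IsStrictlyPerfect E₂) :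
    DCoh.IsStrictlyPerfect (E₁ ⊞ E₂) := by
  obtain ⟨⟨a₁, b₁, hab₁⟩, hf₁⟩ := h₁
  obtain ⟨⟨a₂, b₂, hab₂⟩, hf₂⟩ := h₂
  haveI : ∀ n, PreservesBinaryBiproducts
      (HomologicalComplex.eval U.Modules (ComplexShape.up ℤ) n) := fun n =>
    preservesBinaryBiproducts_of_preservesBiproducts _
  have iso : ∀ n, (E₁ ⊞ E₂).X n ≅ E₁.X n ⊞ E₂.X n := fun n =>
    (HomologicalComplex.eval _ _ n).mapBiprod E₁ E₂
  refine ⟨⟨min a₁ a₂, max b₁ b₂, fun i hi => ?_⟩, fun i => ?_⟩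
  · refine IsZero.of_iso ?_ (iso i)
    exact isZero_biprod (hab₁ i (by omega)) (hab₂ i (by omega))
  · exact isFinLocFree_of_iso (iso i).symm (isFinLocFree_biprod _ _ (hf₁ i) (hf₂ i))

theorem perfAt_of_biprod (K L : DCoh.D X) [HasBinaryBiproduct K L] (x : X)
    (h : PerfAt (K ⊞ L) x) : PerfAt K x := by
  obtain ⟨U₀, j₀, hj₀, P, hx₀, hP, ⟨e₀⟩⟩ := h
  obtain ⟨⟨a, b, hab⟩, hPfree⟩ := hP
  have hP : DCoh.IsStrictlyPerfect P := ⟨⟨a, b, hab⟩, hPfree⟩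
  have hpc : PCAt (a - 1) (K ⊞ L) x := ⟨U₀, j₀, hj₀, P, e₀.inv, hx₀, hP, IsWitD.of_isIso _⟩
  obtain ⟨hK, hL⟩ := pcAt_of_biprod (a - 1) K L x hpc
  let F₁ := Q.objPreimage K
  have e₁ : Q.obj F₁ ≅ K := Q.objObjPreimageIso K
  let F₂ := Q.objPreimage L
  have e₂ : Q.obj F₂ ≅ L := Q.objObjPreimageIso L
  obtain ⟨U₁, j₁, hj₁, hx₁, lw₁⟩ :=
    exists_locFreeWit_of_pcAt (a - 1) F₁ x (PCAt.of_iso e₁.symm x hK)
  obtain ⟨U₂, j₂, hj₂, hx₂, lw₂⟩ :=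
    exists_locFreeWit_of_pcAt (a - 1) F₂ x (PCAt.of_iso e₂.symm x hL)
  let W : X.Opens := j₁.opensRange ⊓ j₂.opensRange ⊓ j₀.opensRange
  have hxW : x ∈ W := ⟨⟨hx₁, hx₂⟩, hx₀⟩
  have hW₁ : Set.range W.ι ⊆ Set.range j₁ := by
    rw [Scheme.Opens.range_ι]; exact fun z hz => hz.1.1
  have hW₂ : Set.range W.ι ⊆ Set.range j₂ := by
    rw [Scheme.Opens.range_ι]; exact fun z hz => hz.1.2
  have hW₀ : Set.range W.ι ⊆ Set.range j₀ := by
    rw [Scheme.Opens.range_ι]; exact fun z hz => hz.2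
  let l₁ : (W : Scheme.{u}) ⟶ U₁ := IsOpenImmersion.lift j₁ W.ι hW₁
  have hl₁ : l₁ ≫ j₁ = W.ι := IsOpenImmersion.lift_fac _ _ _
  haveI : IsOpenImmersion l₁ := by
    haveI : IsOpenImmersion (l₁ ≫ j₁) := by rw [hl₁]; infer_instance
    exact IsOpenImmersion.of_comp l₁ j₁
  let l₂ : (W : Scheme.{u}) ⟶ U₂ := IsOpenImmersion.lift j₂ W.ι hW₂
  have hl₂ : l₂ ≫ j₂ = W.ι := IsOpenImmersion.lift_fac _ _ _
  haveI : IsOpenImmersion l₂ := by
    haveI : IsOpenImmersion (l₂ ≫ j₂) := by rw [hl₂]; infer_instance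
    exact IsOpenImmersion.of_comp l₂ j₂
  let l₀ : (W : Scheme.{u}) ⟶ U₀ := IsOpenImmersion.lift j₀ W.ι hW₀
  have hl₀ : l₀ ≫ j₀ = W.ι := IsOpenImmersion.lift_fac _ _ _
  haveI : IsOpenImmersion l₀ := by
    haveI : IsOpenImmersion (l₀ ≫ j₀) := by rw [hl₀]; infer_instance
    exact IsOpenImmersion.of_comp l₀ j₀
  obtain ⟨E₁, g₁, a₁, b₁, hE₁, hfree₁, hg₁⟩ := lw₁.shrink j₁ l₁ W.ι hl₁.symm
  obtain ⟨E₂, g₂, a₂, b₂, hE₂, hfree₂, hg₂⟩ := lw₂.shrink j₂ l₂ W.ι hl₂.symm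
  have hE₁sp : DCoh.IsStrictlyPerfect E₁ := ⟨⟨a₁, b₁, hE₁⟩, fun n => by
    obtain ⟨k, ⟨e⟩⟩ := hfree₁ n
    exact isFinLocFree_of_iso e.symm (isFinLocFree_freeMod _ k)⟩
  have hE₂sp : DCoh.IsStrictlyPerfect E₂ := ⟨⟨a₂, b₂, hE₂⟩, fun n => by
    obtain ⟨k, ⟨e⟩⟩ := hfree₂ n
    exact isFinLocFree_of_iso e.symm (isFinLocFree_freeMod _ k)⟩
  obtain ⟨e₀'⟩ := nonempty_RD_iso_shrink l₀ j₀ W.ι hl₀.symm (K ⊞ L) P e₀
  let P' := (resCx l₀).obj P
  have hP' : DCoh.IsStrictlyPerfect P' := isStrictlyPerfect_restrict l₀ P hP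
  have hab' : DCoh.VanishesOutside P' a b := fun n hn =>
    (Scheme.Modules.restrictFunctor l₀).map_isZero (hab n hn)
  -- derived-level map
  let β₁ : Q.obj E₁ ⟶ (RD W.ι).obj K := Q.map g₁ ≫ (RDfac W.ι F₁).inv ≫ (RD W.ι).map e₁.hom
  have hβ₁ : IsWitD (a - 1) β₁ := by
    have := (isWitD_iso_comp (m := a - 1) (𝟙 _) (Q.map g₁)
      ((RDfac W.ι F₁).inv ≫ (RD W.ι).map e₁.hom)).mpr ((isWitD_Q_map_iff g₁).2 hg₁)
    rwa [Category.id_comp] at this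
  let β₂ : Q.obj E₂ ⟶ (RD W.ι).obj L := Q.map g₂ ≫ (RDfac W.ι F₂).inv ≫ (RD W.ι).map e₂.hom
  have hβ₂ : IsWitD (a - 1) β₂ := by
    have := (isWitD_iso_comp (m := a - 1) (𝟙 _) (Q.map g₂)
      ((RDfac W.ι F₂).inv ≫ (RD W.ι).map e₂.hom)).mpr ((isWitD_Q_map_iff g₂).2 hg₂)
    rwa [Category.id_comp] at this
  haveI : PreservesBinaryBiproducts (RD W.ι) :=
    preservesBinaryBiproducts_of_preservesBiproducts _
  haveI : PreservesBinaryBiproducts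
      (Q : CochainComplex (W : Scheme.{u}).Modules ℤ ⥤ DerivedCategory (W : Scheme.{u}).Modules) :=
    preservesBinaryBiproducts_of_preservesBiproducts _
  let α : Q.obj (E₁ ⊞ E₂) ⟶ Q.obj P' :=
    (Q.mapBiprod E₁ E₂).hom ≫ biprod.map β₁ β₂ ≫ ((RD W.ι).mapBiprod K L).inv ≫ e₀'.hom
  have hα : IsWitD (a - 1) α :=
    (isWitD_iso_comp (m := a - 1) (Q.mapBiprod E₁ E₂).hom (biprod.map β₁ β₂)
      (((RD W.ι).mapBiprod K L).inv ≫ e₀'.hom)).mpr (IsWitD.biprod_map hβ₁ hβ₂)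
  let y : (W : Scheme.{u}) := ⟨x, hxW⟩
  have hE₁₂ := isStrictlyPerfect_biprod E₁ E₂ hE₁sp hE₂sp
  obtain ⟨W', i, hi, hyi, g, hg⟩ := exists_chainMap_restrict W y (E₁ ⊞ E₂) P' hE₁₂ α
  have hQg : IsWitD (a - 1) (Q.map g) := by
    have h1 : Q.map g = (RDfac i _).inv ≫ (RD i).map α ≫ (RDfac i _).hom := by
      rw [hg]; simp
    rw [h1, isWitD_iso_comp]
    exact hα.map _
  have hqg : IsWitCx (a - 1) g := (isWitD_Q_map_iff g).mp hQg
  obtain ⟨⟨a₃, b₃, hab₃⟩, hfree₃⟩ := isStrictlyPerfect_restrict i _ hE₁₂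
  have hP'' := isStrictlyPerfect_restrict i P' hP'
  have hab'' : ∀ n, n < a ∨ b < n → IsZero (((resCx i).obj P').X n) := fun n hn =>
    (Scheme.Modules.restrictFunctor i).map_isZero (hab' n hn)
  have hN : FlatMod.IsFinLocFree (((resCx i).obj (E₁ ⊞ E₂)).opcycles a) :=
    prop_opcycles kerClosed_isFinLocFree g a (max b b₃) hfree₃
      (fun n hn => hab₃ n (Or.inr (by omega))) hP''.2 (fun n hn => hab'' n (Or.inl hn))
      (fun n hn => hab'' n (Or.inr (by omega))) hqg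
  -- retract
  let ι₁ : (resCx i).obj E₁ ⟶ (resCx i).obj (E₁ ⊞ E₂) := (resCx i).map biprod.inl
  let π₁ : (resCx i).obj (E₁ ⊞ E₂) ⟶ (resCx i).obj E₁ := (resCx i).map biprod.fst
  have hιπ : ι₁ ≫ π₁ = 𝟙 _ := by
    rw [← Functor.map_comp, biprod.inl_fst, CategoryTheory.Functor.map_id]
  have hN₁ : FlatMod.IsFinLocFree (((resCx i).obj E₁).opcycles a) :=
    isFinLocFree_of_retract (HomologicalComplex.opcyclesMap ι₁ a)
      (HomologicalComplex.opcyclesMap π₁ a)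
      (by rw [← HomologicalComplex.opcyclesMap_comp, hιπ, HomologicalComplex.opcyclesMap_id]) hN
  -- final
  let G := (resCx i).obj ((resCx W.ι).obj F₁)
  let g₁' : (resCx i).obj E₁ ⟶ G := (resCx i).map g₁
  have hg₁' : IsWitCx (a - 1) g₁' := hg₁.map (Scheme.Modules.restrictFunctor i)
  have eG : (RD i).obj ((RD W.ι).obj K) ≅ Q.obj G :=
    (RD i).mapIso ((RD W.ι).mapIso e₁.symm ≪≫ RDfac W.ι F₁) ≪≫ RDfac i _
  haveI : G.IsGE a := by
    rw [← DerivedCategory.isGE_Q_obj_iff]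
    let Φ := RD W.ι ⋙ RD i
    haveI : ((resCx i).obj P').IsStrictlyGE a := by
      rw [CochainComplex.isStrictlyGE_iff]; exact fun n hn => hab'' n (Or.inl hn)
    haveI : (Q.obj ((resCx i).obj P')).IsGE a := by
      rw [DerivedCategory.isGE_Q_obj_iff]; infer_instance
    have eY : Φ.obj (K ⊞ L) ≅ Q.obj ((resCx i).obj P') := (RD i).mapIso e₀' ≪≫ RDfac i P'
    haveI : (Φ.obj (K ⊞ L)).IsGE a := TStructure.t.isGE_of_iso eY.symm a
    haveI : ((RD i).obj ((RD W.ι).obj K)).IsGE a := isGE_of_retract (Φ.map (biprod.inl : K ⟶ K ⊞ L)) (Φ.map (biprod.fst : K ⊞ L ⟶ K))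
      (by rw [← Φ.map_comp, biprod.inl_fst, Φ.map_id]) a
    exact TStructure.t.isGE_of_iso eG a
  obtain ⟨e⟩ := nonempty_iso_truncGE g₁' a hg₁'
  refine ⟨W', i ≫ W.ι, inferInstance, ((resCx i).obj E₁).truncGE a, ?_,
    isStrictlyPerfect_truncGE _ (isStrictlyPerfect_restrict i E₁ hE₁sp) a hN₁,
    ⟨(RDcomp i W.ι).app K ≪≫ eG ≪≫ e⟩⟩
  obtain ⟨w, hw⟩ := hyi
  exact ⟨w, by
    change W.ι (i w) = x
    rw [hw]
    rfl⟩

theorem S0924 (K L : DCoh.D X) [HasBinaryBiproduct K L]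
    (h : DCoh.IsPerfect (K ⊞ L)) : DCoh.IsPerfect K ∧ DCoh.IsPerfect L := by
  rw [isPerfect_iff_perfAt] at h
  constructor
  · rw [isPerfect_iff_perfAt]
    exact fun x => perfAt_of_biprod K L x (h x)
  · rw [isPerfect_iff_perfAt]
    intro x
    haveI : HasBinaryBiproduct L K := inferInstance
    exact perfAt_of_biprod L K x (PerfAt.of_iso (biprod.braiding K L) x (h x))

end Groth.Agent.H4.FAmp6
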