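import Mathlib
import Groth.Agent.H4.FAmp6

set_option autoImplicit false
universe u
open CategoryTheory CategoryTheory.Limits AlgebraicGeometry Groth.Agent.LD.QC
open Groth.Agent.H1.CohLen Groth.Agent.H1.SchFlat
open Groth.Agent.H4.PSch5 Groth.Agent.H4.PCS6 Groth.Agent.H4.FAmp2 Groth.Agent.H4.FAmp3

namespace Groth.Agent.H4.FAmp7

variable {X Y : Scheme.{u}}

/-- `M` is free of finite rank on a neighbourhood of `x` -/
def LFAt (M : X.Modules) (x : X) : Prop :=
  ∃ (V : X.Opens) (n : ℕ), x ∈ V ∧ Nonempty (M.restrict V.ι ≅ FlatMod.freeMod (↑V) n)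

lemma isFinLocFree_iff_lfAt (M : X.Modules) : FlatMod.IsFinLocFree M ↔ ∀ x, LFAt M x := Iff.rfl

lemma isFinLocFree_restrict_iff' (M : X.Modules) (j : Y ⟶ X) [IsOpenImmersion j] :
    FlatMod.IsFinLocFree (M.restrict j) ↔ ∀ y, LFAt M (j y) := isFinLocFree_restrict_iff M j

lemma LFAt.of_iso {M N : X.Modules} (e : M ≅ N) {x : X} (h : LFAt M x) : LFAt N x := by
  obtain ⟨W, n, hxW, ⟨e'⟩⟩ := h
  exact ⟨W, n, hxW, ⟨(Scheme.Modules.restrictFunctor W.ι).mapIso e.symm ≪≫ e'⟩⟩

lemma lfAt_of_isZero {M : X.Modules} (hM : IsZero M) (x : X) : LFAt M x :=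
  isFinLocFree_of_isZero hM x

lemma LFAt.of_restrict (j : Y ⟶ X) [IsOpenImmersion j] (M : X.Modules) (y : Y)
    (h : LFAt (M.restrict j) y) : LFAt M (j y) := by
  obtain ⟨W, n, hy, ⟨e⟩⟩ := h
  have h1 : FlatMod.IsFinLocFree ((M.restrict j).restrict W.ι) :=
    isFinLocFree_of_iso e.symm (isFinLocFree_freeMod _ n)
  have h2 : FlatMod.IsFinLocFree (M.restrict (W.ι ≫ j)) :=
    isFinLocFree_of_iso ((Scheme.Modules.restrictFunctorComp W.ι j).app M).symm h1
  exact (isFinLocFree_restrict_iff' M (W.ι ≫ j)).1 h2 ⟨y, hy⟩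

lemma LFAt.restrict (j : Y ⟶ X) [IsOpenImmersion j] (M : X.Modules) (y : Y)
    (h : LFAt M (j y)) : LFAt (M.restrict j) y := by
  obtain ⟨V, n, hyV, ⟨e⟩⟩ := h
  refine ⟨j ⁻¹ᵁ V, n, hyV, ?_⟩
  have hr : Set.range ((j ⁻¹ᵁ V).ι ≫ j) ⊆ Set.range V.ι := by
    rw [Scheme.Opens.range_ι]
    rintro _ ⟨w, rfl⟩
    exact w.2
  obtain ⟨e2⟩ := freeMod_of_range_subset M V.ι ((j ⁻¹ᵁ V).ι ≫ j) hr n e
  exact ⟨((Scheme.Modules.restrictFunctorComp (j ⁻¹ᵁ V).ι j).app M).symm ≪≫ e2⟩

lemma exists_common (M N : X.Modules) (x : X) (hM : LFAt M x) (hN : LFAt N x) :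
    ∃ W : X.Opens, x ∈ W ∧ FlatMod.IsFinLocFree (M.restrict W.ι) ∧
      FlatMod.IsFinLocFree (N.restrict W.ι) := by
  obtain ⟨V₁, n₁, hx₁, e₁⟩ := hM
  obtain ⟨V₂, n₂, hx₂, e₂⟩ := hN
  refine ⟨V₁ ⊓ V₂, ⟨hx₁, hx₂⟩, ?_, ?_⟩
  · rw [isFinLocFree_restrict_iff']
    exact fun y => ⟨V₁, n₁, y.2.1, e₁⟩
  · rw [isFinLocFree_restrict_iff']
    exact fun y => ⟨V₂, n₂, y.2.2, e₂⟩

lemma LFAt.kernel {M N : X.Modules} (p : M ⟶ N) [Epi p] {x : X} (hM : LFAt M x)
    (hN : LFAt N x) : LFAt (Limits.kernel p) x := by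
  obtain ⟨W, hxW, hM', hN'⟩ := exists_common M N x hM hN
  let R := Scheme.Modules.restrictFunctor W.ι
  haveI : Epi (R.map p) := R.map_epi p
  have h1 : FlatMod.IsFinLocFree (Limits.kernel (R.map p)) :=
    isFinLocFree_kernel (R.map p) hM' hN'
  have h2 : FlatMod.IsFinLocFree ((Limits.kernel p).restrict W.ι) :=
    isFinLocFree_of_iso (PreservesKernel.iso R p).symm h1
  exact (isFinLocFree_restrict_iff' (Limits.kernel p) W.ι).1 h2 ⟨x, hxW⟩

lemma flatAt_of_iso {M N : X.Modules} (e : M ≅ N) (x : X) (h : FlatMod.IsFlatAt M x) :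
    FlatMod.IsFlatAt N x := by
  haveI : Module.Flat (X.presheaf.stalk x) (M.presheaf.stalk x) := h
  let ℓ : M.presheaf.stalk x ≃ₗ[X.presheaf.stalk x] N.presheaf.stalk x :=
    LinearEquiv.ofBijective (stalkLin e.hom x)
      ⟨stalkFun_injective_of_mono e.hom x, stalkFun_surjective_of_epi e.hom x⟩
  exact Module.Flat.of_linearEquiv ℓ.symm

lemma flatAt_restrict (j : Y ⟶ X) [IsOpenImmersion j] (M : X.Modules) (y : Y)
    (h : FlatMod.IsFlatAt M (j y)) : FlatMod.IsFlatAt (M.restrict j) y :=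
  (flat_iff_of_ringEquiv_semilinear (stalkRingEquiv j y) (stalkRestrictAddEquiv j M y)
    (stalkRestrictAddEquiv_smul j M y)).2 h

lemma flatAt_of_restrict (j : Y ⟶ X) [IsOpenImmersion j] (M : X.Modules) (y : Y)
    (h : FlatMod.IsFlatAt (M.restrict j) y) : FlatMod.IsFlatAt M (j y) :=
  (flat_iff_of_ringEquiv_semilinear (stalkRingEquiv j y) (stalkRestrictAddEquiv j M y)
    (stalkRestrictAddEquiv_smul j M y)).1 h

lemma LFAt.cokernel {M N : X.Modules} (φ : M ⟶ N) {x : X} (hM : LFAt M x) (hN : LFAt N x)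
    (hflat : FlatMod.IsFlatAt (Limits.cokernel φ) x) : LFAt (Limits.cokernel φ) x := by
  obtain ⟨W, hxW, hM', hN'⟩ := exists_common M N x hM hN
  let R := Scheme.Modules.restrictFunctor W.ι
  have hfp : (Limits.cokernel (R.map φ)).IsFinitePresentation :=
    isFinitePresentation_of_isCokernel (R.map φ) (cokernel.π (R.map φ)) (cokernel.condition _)
      (cokernelIsCokernel _) hM' hN'
  have hfp' : ((Limits.cokernel φ).restrict W.ι).IsFinitePresentation :=
    isFinitePresentation_of_iso (PreservesCokernel.iso R φ).symm hfp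
  let y : (W : Scheme.{u}) := ⟨x, hxW⟩
  have hfl : FlatMod.IsFlatAt ((Limits.cokernel φ).restrict W.ι) y :=
    flatAt_restrict W.ι _ y hflat
  have h1 : LFAt ((Limits.cokernel φ).restrict W.ι) y :=
    exists_restrict_iso_freeMod_of_flat_stalk _ hfp' y hfl
  exact LFAt.of_restrict W.ι (Limits.cokernel φ) y h1

/-- descending induction: the cohomology sheaves of a bounded above complex, locally free at `x`,
whose cohomology has flat stalks at `x`, are free near `x` -/
theorem lfAt_kernel_d (P : CochainComplex X.Modules ℤ) (x : X) (b : ℤ)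
    (hP : ∀ i, LFAt (P.X i) x) (hb : ∀ i, b < i → IsZero (P.X i))
    (hflat : ∀ i, FlatMod.IsFlatAt (P.homology i) x) :
    ∀ i, LFAt (kernel (P.d i (i + 1))) x := by
  have key : ∀ k : ℕ, ∀ i, b + 1 - k ≤ i → LFAt (kernel (P.d i (i + 1))) x := by
    intro k
    induction k with
    | zero =>
      intro i hi
      have hz : IsZero (P.X i) := hb i (by simpa using hi)
      exact lfAt_of_isZero (IsZero.of_mono (kernel.ι _) hz) x
    | succ k ih =>
      intro i hi
      have IH := ih (i + 1) (by push_cast at hi; omega)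
      let S := P.sc' i (i + 1) (i + 1 + 1)
      have hcyc : LFAt S.cycles x := LFAt.of_iso S.cyclesIsoKernel.symm IH
      let f := S.toCycles
      have eH : P.homology (i + 1) ≅ cokernel f :=
        P.homologyIsoSc' i (i + 1) (i + 1 + 1) (by simp) (by simp) ≪≫
          IsColimit.coconePointUniqueUpToIso S.homologyIsCokernel (colimit.isColimit _)
      have hc : LFAt (cokernel f) x :=
        LFAt.cokernel f (hP i) hcyc (flatAt_of_iso eH x (hflat (i + 1)))
      have hB : LFAt (Abelian.image f) x := LFAt.kernel (cokernel.π f) hcyc hc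
      have h1 : LFAt (kernel (Abelian.factorThruImage f)) x :=
        LFAt.kernel (Abelian.factorThruImage f) (hP i) hB
      have e : kernel (Abelian.factorThruImage f) ≅ kernel (P.d i (i + 1)) :=
        (kernelCompMono (Abelian.factorThruImage f) (Abelian.image.ι f)).symm ≪≫
          kernelIsoOfEq (Abelian.image.fac f) ≪≫
          (kernelCompMono S.toCycles S.iCycles).symm ≪≫ kernelIsoOfEq S.toCycles_i
      exact LFAt.of_iso e h1
  intro i
  exact key (b + 1 - i).toNat i (by omega)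

theorem lfAt_homology (P : CochainComplex X.Modules ℤ) (x : X) (b : ℤ)
    (hP : ∀ i, LFAt (P.X i) x) (hb : ∀ i, b < i → IsZero (P.X i))
    (hflat : ∀ i, FlatMod.IsFlatAt (P.homology i) x) :
    ∀ i, LFAt (P.homology i) x := by
  intro i
  have hZ := lfAt_kernel_d P x b hP hb hflat i
  let S := P.sc' (i - 1) i (i + 1)
  have hcyc : LFAt S.cycles x := LFAt.of_iso S.cyclesIsoKernel.symm hZ
  let f := S.toCycles
  have eH : P.homology i ≅ cokernel f :=
    P.homologyIsoSc' (i - 1) i (i + 1) (by simp) (by simp) ≪≫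
      IsColimit.coconePointUniqueUpToIso S.homologyIsCokernel (colimit.isColimit _)
  exact LFAt.of_iso eH.symm
    (LFAt.cokernel f (hP (i - 1)) hcyc (flatAt_of_iso eH x (hflat i)))

end Groth.Agent.H4.FAmp7
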