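import Mathlib
import Groth.Agent.H4.FAmp7

set_option autoImplicit false
universe u
attribute [local instance] HasDerivedCategory.standard
open CategoryTheory CategoryTheory.Limits AlgebraicGeometry Groth.Agent.LD.QC DerivedCategory
open Groth.Agent.H1.CohLen Groth.Agent.H1.SchFlat
open Groth.Agent.H4.PSch1 Groth.Agent.H4.PSch2 Groth.Agent.H4.PSch3 Groth.Agent.H4.PSch4
open Groth.Agent.H4.PSch5 Groth.Agent.H4.PCS6 Groth.Agent.H4.FAmp2 Groth.Agent.H4.FAmp3
open Groth.Agent.H4.FAmp7

namespace Groth.Agent.H4.FAmp8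

section Semilinear

variable {R R' M M' : Type*} [CommRing R] [CommRing R'] [AddCommGroup M] [Module R M]
  [AddCommGroup M'] [Module R' M']

/-- a semilinear equivalence from a ring isomorphism and a compatible additive isomorphism -/
noncomputable def semilinearEquiv (e : R ≃+* R') (ψ : M ≃+ M')
    (hψ : ∀ (a : R) (m : M), ψ (a • m) = e a • ψ m) :
    letI : RingHomInvPair (e : R →+* R') (e.symm : R' →+* R) := RingHomInvPair.of_ringEquiv e
    letI : RingHomInvPair (e.symm : R' →+* R) (e : R →+* R') := RingHomInvPair.symm _ _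
    M ≃ₛₗ[(e : R →+* R')] M' :=
  letI : RingHomInvPair (e : R →+* R') (e.symm : R' →+* R) := RingHomInvPair.of_ringEquiv e
  letI : RingHomInvPair (e.symm : R' →+* R) (e : R →+* R') := RingHomInvPair.symm _ _
  { ψ with map_smul' := hψ }

lemma free_of_semilinear (e : R ≃+* R') (ψ : M ≃+ M')
    (hψ : ∀ (a : R) (m : M), ψ (a • m) = e a • ψ m) [Module.Free R M] : Module.Free R' M' := by
  letI : RingHomInvPair (e : R →+* R') (e.symm : R' →+* R) := RingHomInvPair.of_ringEquiv e
  letI : RingHomInvPair (e.symm : R' →+* R) (e : R →+* R') := RingHomInvPair.symm _ _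
  exact Module.Free.of_equiv (semilinearEquiv e ψ hψ)

lemma finite_of_semilinear (e : R ≃+* R') (ψ : M ≃+ M')
    (hψ : ∀ (a : R) (m : M), ψ (a • m) = e a • ψ m) [Module.Finite R M] : Module.Finite R' M' := by
  letI : RingHomInvPair (e : R →+* R') (e.symm : R' →+* R) := RingHomInvPair.of_ringEquiv e
  letI : RingHomInvPair (e.symm : R' →+* R) (e : R →+* R') := RingHomInvPair.symm _ _
  exact Module.Finite.of_surjective (semilinearEquiv e ψ hψ).toLinearMap
    (semilinearEquiv e ψ hψ).surjective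

end Semilinear

variable {X : Scheme.{u}}

lemma free_finite_stalk_of_lfAt (M : X.Modules) (x : X) (h : LFAt M x) :
    Module.Free (X.presheaf.stalk x) (M.presheaf.stalk x) ∧
      Module.Finite (X.presheaf.stalk x) (M.presheaf.stalk x) := by
  obtain ⟨V, n, hx, ⟨e⟩⟩ := h
  let F := M.restrict V.ι
  let y : (V : Scheme.{u}) := ⟨x, hx⟩
  have hF : FlatMod.IsFinLocFree F := isFinLocFree_of_iso e.symm (isFinLocFree_freeMod _ n)
  haveI : F.IsQuasicoherent := qc_of_isFinLocFree F hF
  have hfp : F.IsFinitePresentation := isFinitePresentation_of_isFinLocFree F hF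
  have hft : F.IsFiniteType := inferInstance
  haveI h1 : Module.Free ((V : Scheme.{u}).presheaf.stalk y) (F.presheaf.stalk y) :=
    free_stalk_of_isFinLocFree F hF y
  haveI h2 : Module.Finite ((V : Scheme.{u}).presheaf.stalk y) (F.presheaf.stalk y) :=
    finite_stalk F hft y
  exact ⟨free_of_semilinear (stalkRingEquiv V.ι y) (stalkRestrictAddEquiv V.ι M y)
      (stalkRestrictAddEquiv_smul V.ι M y),
    finite_of_semilinear (stalkRingEquiv V.ι y) (stalkRestrictAddEquiv V.ι M y)
      (stalkRestrictAddEquiv_smul V.ι M y)⟩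

theorem S0892 (E : DCoh.D X) (hE : DCoh.IsPerfect E) :
    ∃ U : X.Opens,
      (U : Set X) = {x : X | ∀ i : ℤ,
        Module.Free (X.presheaf.stalk x) ((DCoh.HD E i).presheaf.stalk x) ∧
        Module.Finite (X.presheaf.stalk x) ((DCoh.HD E i).presheaf.stalk x)} ∧
      (∀ i : ℤ, FlatMod.IsFinLocFree ((DCoh.HD E i).restrict U.ι)) ∧
      ∀ W : X.Opens, (∀ i : ℤ, FlatMod.IsFinLocFree ((DCoh.HD E i).restrict W.ι)) → W ≤ U := by
  rw [isPerfect_iff_perfAt] at hE
  let S : Set X := {x | ∀ i : ℤ, LFAt (DCoh.HD E i) x}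
  have hS : ∀ x, x ∈ S ↔ ∀ i : ℤ,
      Module.Free (X.presheaf.stalk x) ((DCoh.HD E i).presheaf.stalk x) ∧
      Module.Finite (X.presheaf.stalk x) ((DCoh.HD E i).presheaf.stalk x) := by
    intro x
    constructor
    · intro hx i
      exact free_finite_stalk_of_lfAt _ x (hx i)
    · intro hx
      obtain ⟨V, j, hj, P, ⟨y, rfl⟩, hP, ⟨e⟩⟩ := hE x
      obtain ⟨⟨a, b, hab⟩, hPf⟩ := hP
      have hflat : ∀ i, FlatMod.IsFlatAt (P.homology i) y := by
        intro i
        obtain ⟨eH⟩ := nonempty_homology_restrict_iso j E P e i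
        refine flatAt_of_iso eH y (flatAt_restrict j (DCoh.HD E i) y ?_)
        haveI := (hx i).1
        change Module.Flat (X.presheaf.stalk (j y)) ((DCoh.HD E i).presheaf.stalk (j y))
        infer_instance
      intro i
      obtain ⟨eH⟩ := nonempty_homology_restrict_iso j E P e i
      have h1 : LFAt (P.homology i) y :=
        lfAt_homology P y b (fun i => hPf i y) (fun i hi => hab i (Or.inr hi)) hflat i
      exact LFAt.of_restrict j (DCoh.HD E i) y (LFAt.of_iso eH.symm h1)
  have hopen : IsOpen S := by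
    rw [isOpen_iff_forall_mem_open]
    intro x hx
    obtain ⟨V, j, hj, P, hxj, hP, ⟨e⟩⟩ := hE x
    obtain ⟨⟨a, b, hab⟩, hPf⟩ := hP
    choose Vi ni hxi ei using hx
    refine ⟨Set.range j ∩ ⋂ i ∈ Finset.Icc a b, (Vi i : Set X), ?_, ?_, ?_⟩
    · rintro z ⟨⟨y, rfl⟩, hz⟩ i
      by_cases hi : i ∈ Finset.Icc a b
      · have : j y ∈ (Vi i : Set X) := by
          simp only [Set.mem_iInter] at hz
          exact hz i hi
        exact ⟨Vi i, ni i, this, ei i⟩
      · obtain ⟨eH⟩ := nonempty_homology_restrict_iso j E P e i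
        have hz0 : IsZero (P.homology i) := by
          apply ShortComplex.isZero_homology_of_isZero_X₂
          exact hab i (by rw [Finset.mem_Icc] at hi; omega)
        have h1 : FlatMod.IsFinLocFree ((DCoh.HD E i).restrict j) :=
          isFinLocFree_of_isZero (hz0.of_iso eH)
        exact (isFinLocFree_restrict_iff' _ j).1 h1 y
    · refine IsOpen.inter j.isOpenEmbedding.isOpen_range ?_
      exact isOpen_biInter_finset (fun i _ => (Vi i).isOpen)
    · refine ⟨hxj, ?_⟩
      simp only [Set.mem_iInter]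
      exact fun i _ => hxi i
  refine ⟨⟨S, hopen⟩, ?_, ?_, ?_⟩
  · ext x
    exact hS x
  · intro i
    rw [isFinLocFree_restrict_iff']
    exact fun y => y.2 i
  · intro W hW y hy i
    exact (isFinLocFree_restrict_iff' _ W.ι).1 (hW i) ⟨y, hy⟩

end Groth.Agent.H4.FAmp8
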