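import Mathlib
import Groth.Prelude.Def_DRing2
import Groth.Agent.Lib.Helper2.TorBalLin
import Groth.Agent.Lib.Helper2.TorOne

set_option autoImplicit false
universe u
open CategoryTheory CategoryTheory.Limits
open Groth.Agent.H2.TorBal Groth.Agent.H2.TorOne

namespace Groth.Agent.H4.FAmp9

variable {R : Type u} [CommRing R]

lemma hasTorDimLE_of_retract {M M' : Type u} [AddCommGroup M] [Module R M] [AddCommGroup M']
    [Module R M'] (i : M →ₗ[R] M') (p : M' →ₗ[R] M) (hip : p ∘ₗ i = LinearMap.id) (n : ℕ)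
    (h : DRing.HasTorDimLE R n M') : DRing.HasTorDimLE R n M := by
  intro N _ _ q hq
  haveI := h N q hq
  let a : torObj q (ModuleCat.of R M) (ModuleCat.of R N) ⟶
      torObj q (ModuleCat.of R M') (ModuleCat.of R N) :=
    ((Tor (ModuleCat.{u} R) q).map (ModuleCat.ofHom i)).app (ModuleCat.of R N)
  let b : torObj q (ModuleCat.of R M') (ModuleCat.of R N) ⟶
      torObj q (ModuleCat.of R M) (ModuleCat.of R N) :=
    ((Tor (ModuleCat.{u} R) q).map (ModuleCat.ofHom p)).app (ModuleCat.of R N)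
  have hab : a ≫ b = 𝟙 _ := by
    dsimp only [a, b]
    rw [← NatTrans.comp_app, ← Functor.map_comp, ← ModuleCat.ofHom_comp, hip]
    simp
    rfl
  refine ⟨fun u v => ?_⟩
  have h1 : a u = a v := Subsingleton.elim (α := DRing.Tor R q M' N) _ _
  have h2 : ∀ w, b (a w) = w := fun w => by
    have := congrArg (fun f => f.hom w) hab
    simpa using this
  rw [← h2 u, ← h2 v, h1]

theorem exists_uniform_torDim
    (h : ∀ (M : Type u) [AddCommGroup M] [Module R M], DRing.HasFiniteTorDim R M) :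
    ∃ n : ℕ, ∀ (M : Type u) [AddCommGroup M] [Module R M] [Module.Finite R M],
      DRing.HasTorDimLE R n M := by
  classical
  let ι := Σ k : ℕ, Submodule R (Fin k → R)
  let Qf : ι → Type u := fun i => (Fin i.1 → R) ⧸ i.2
  obtain ⟨n, hn⟩ := h (DirectSum ι Qf)
  refine ⟨n, fun M _ _ _ => ?_⟩
  obtain ⟨k, f, hf⟩ := Module.Finite.exists_fin' R M
  let i : ι := ⟨k, LinearMap.ker f⟩
  let e : Qf i ≃ₗ[R] M := f.quotKerEquivOfSurjective hf
  refine hasTorDimLE_of_retract ((DirectSum.lof R ι Qf i) ∘ₗ e.symm.toLinearMap)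
    (e.toLinearMap ∘ₗ (DirectSum.component R ι Qf i)) ?_ n hn
  ext m
  simp [DirectSum.component.lof_self]

theorem flat_of_hasTorDimLE_zero (M : Type u) [AddCommGroup M] [Module R M]
    (h : DRing.HasTorDimLE R 0 M) : Module.Flat R M := by
  rw [Module.Flat.iff_lTensor_injectiveₛ]
  intro P _ _ N
  letI : AddCommGroup P := Module.addCommMonoidToAddCommGroup R
  haveI := h (P ⧸ N) 1 (by norm_num)
  have hz : IsZero (((Tor (ModuleCat.{u} R) 1).obj (ModuleCat.of R M)).obj
      (ModuleCat.of R (P ⧸ N))) := ModuleCat.isZero_of_subsingleton _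
  exact lTensor_injective_of_isZero_tor_one M (P ⧸ N) hz N.subtype N.mkQ
    (Submodule.subtype_injective _) (LinearMap.exact_subtype_mkQ N) (Submodule.mkQ_surjective N)

theorem hasTorDimLE_of_ses {A B C : Type u} [AddCommGroup A] [Module R A] [AddCommGroup B]
    [Module R B] [AddCommGroup C] [Module R C] (f : A →ₗ[R] B) (g : B →ₗ[R] C)
    (hf : Function.Injective f) (hfg : Function.Exact f g) (hg : Function.Surjective g)
    [Module.Flat R B] (k : ℕ) (h : DRing.HasTorDimLE R (k + 1) C) : DRing.HasTorDimLE R k A := by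
  intro N _ _ p hp
  let T := scOfLinearMaps f g hfg
  have hT : T.ShortExact := scOfLinearMaps_shortExact f g hf hfg hg
  obtain ⟨p', rfl⟩ : ∃ p', p = p' + 1 := ⟨p - 1, by omega⟩
  haveI := h N (p' + 1 + 1) (by omega)
  have h3 : IsZero (torObj (p' + 1 + 1) (ModuleCat.of R C) (ModuleCat.of R N)) :=
    ModuleCat.isZero_of_subsingleton _
  haveI : Module.Flat R T.X₂ := inferInstanceAs (Module.Flat R B)
  have h2 : IsZero (torObj (p' + 1) T.X₂ (ModuleCat.of R N)) :=
    isZero_tor_succ_of_flat_left _ _ p'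
  exact ModuleCat.subsingleton_of_isZero (isZero_tor_X₁_left T hT (ModuleCat.of R N) (p' + 1) h3 h2)

end Groth.Agent.H4.FAmp9
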