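import Mathlib

set_option autoImplicit false
universe u
open Polynomial TensorProduct

namespace Groth.Agent.H4.PolySES

variable {A : Type u} [CommRing A] (N : Type u) [AddCommGroup N] [Module A N] [Module A[X] N]
  [IsScalarTower A A[X] N]

/-- multiplication by `X` as an `A`-linear endomorphism. -/
noncomputable def mulX : N →ₗ[A] N := (LinearMap.lsmul A[X] N (X : A[X])).restrictScalars A

lemma mulX_apply (n : N) : mulX (A := A) N n = (X : A[X]) • n := rfl

/-- `μ = X ⊗ 1 - 1 ⊗ X`. -/
noncomputable def mu : A[X] ⊗[A] N →ₗ[A[X]] A[X] ⊗[A] N :=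
  (X : A[X]) • LinearMap.id - (mulX (A := A) N).baseChange A[X]

/-- the action map. -/
noncomputable def eps : A[X] ⊗[A] N →ₗ[A[X]] N := (LinearMap.id (R := A) (M := N)).liftBaseChange A[X]

lemma eps_tmul (p : A[X]) (n : N) : eps (A := A) N (p ⊗ₜ n) = p • n := by
  simp [eps]

lemma mu_tmul (p : A[X]) (n : N) :
    mu (A := A) N (p ⊗ₜ n) = (X * p) ⊗ₜ n - p ⊗ₜ ((X : A[X]) • n) := by
  simp [mu, mulX, TensorProduct.smul_tmul']

lemma eps_mu (t : A[X] ⊗[A] N) : eps (A := A) N (mu N t) = 0 := by
  induction t using TensorProduct.induction_on with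
  | zero => simp
  | add a b ha hb => simp only [map_add, ha, hb, add_zero]
  | tmul p n =>
    rw [mu_tmul, map_sub, eps_tmul, eps_tmul, mul_comm, mul_smul, sub_self]

lemma eps_surjective : Function.Surjective (eps (A := A) N) := fun n =>
  ⟨1 ⊗ₜ n, by rw [eps_tmul, one_smul]⟩

lemma pow_mem (i : ℕ) : ∀ n : N, ((X : A[X]) ^ i) ⊗ₜ[A] n - (1 : A[X]) ⊗ₜ[A] (((X : A[X]) ^ i) • n) ∈
    LinearMap.range (mu (A := A) N) := by
  induction i with
  | zero => intro n; simp
  | succ i ih =>
    intro n
    have h1 := ih ((X : A[X]) • n)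
    have h2 : ((X : A[X]) ^ (i + 1)) ⊗ₜ[A] n - (1 : A[X]) ⊗ₜ[A] (((X : A[X]) ^ (i + 1)) • n) =
        mu N (((X : A[X]) ^ i) ⊗ₜ[A] n) +
          (((X : A[X]) ^ i) ⊗ₜ[A] ((X : A[X]) • n) -
            (1 : A[X]) ⊗ₜ[A] (((X : A[X]) ^ i) • ((X : A[X]) • n))) := by
      rw [mu_tmul, pow_succ, mul_smul, mul_comm]
      abel
    rw [h2]
    exact Submodule.add_mem _ ⟨_, rfl⟩ h1

lemma sub_mem (t : A[X] ⊗[A] N) :
    t - (1 : A[X]) ⊗ₜ[A] (eps (A := A) N t) ∈ LinearMap.range (mu (A := A) N) := by
  induction t using TensorProduct.induction_on with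
  | zero => simp
  | add a b ha hb =>
    have : a + b - (1 : A[X]) ⊗ₜ[A] (eps (A := A) N (a + b)) =
        (a - (1 : A[X]) ⊗ₜ[A] (eps (A := A) N a)) + (b - (1 : A[X]) ⊗ₜ[A] (eps (A := A) N b)) := by
      rw [map_add, TensorProduct.tmul_add]; abel
    rw [this]
    exact Submodule.add_mem _ ha hb
  | tmul p n =>
    rw [eps_tmul]
    induction p using Polynomial.induction_on' with
    | add p q hp hq =>
      have : (p + q) ⊗ₜ[A] n - (1 : A[X]) ⊗ₜ[A] ((p + q) • n) =
          (p ⊗ₜ[A] n - (1 : A[X]) ⊗ₜ[A] (p • n)) + (q ⊗ₜ[A] n - (1 : A[X]) ⊗ₜ[A] (q • n)) := by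
        rw [TensorProduct.add_tmul, add_smul, TensorProduct.tmul_add]; abel
      rw [this]
      exact Submodule.add_mem _ hp hq
    | monomial i a =>
      have h1 : (monomial i a : A[X]) = a • (X : A[X]) ^ i := by
        rw [← Polynomial.C_mul_X_pow_eq_monomial, Polynomial.smul_eq_C_mul]
      have h2 : (monomial i a : A[X]) ⊗ₜ[A] n - (1 : A[X]) ⊗ₜ[A] ((monomial i a : A[X]) • n) =
          ((X : A[X]) ^ i) ⊗ₜ[A] (a • n) - (1 : A[X]) ⊗ₜ[A] (((X : A[X]) ^ i) • (a • n)) := by
        rw [h1, TensorProduct.smul_tmul, smul_assoc, smul_comm]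
      rw [h2]
      exact pow_mem N i _

lemma exact_mu_eps : Function.Exact (mu (A := A) N) (eps (A := A) N) := by
  intro t
  constructor
  · intro h
    have := sub_mem N t
    rwa [h, TensorProduct.tmul_zero, sub_zero] at this
  · rintro ⟨s, rfl⟩
    exact eps_mu N s


noncomputable abbrev ee : A[X] ⊗[A] N ≃ₗ[A[X]] PolynomialModule A N :=
  PolynomialModule.polynomialTensorProductLEquivPolynomialModule A N

lemma ee_tmul (p : A[X]) (n : N) : ee (A := A) N (p ⊗ₜ n) = p • PolynomialModule.single A 0 n := by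
  simp [ee, PolynomialModule.polynomialTensorProductLEquivPolynomialModule]
  rfl

lemma ee_baseChange (f : N →ₗ[A] N) (t : A[X] ⊗[A] N) :
    ee (A := A) N (f.baseChange A[X] t) = PolynomialModule.map A f (ee N t) := by
  induction t using TensorProduct.induction_on with
  | zero => simp
  | add a b ha hb => simp only [map_add, ha, hb]
  | tmul p n =>
    rw [LinearMap.baseChange_tmul, ee_tmul, ee_tmul, PolynomialModule.map_smul,
      PolynomialModule.map_single]
    simp

lemma coeff_map (f : N →ₗ[A] N) (q : PolynomialModule A N) (k : ℕ) :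
    (PolynomialModule.map A f q).coeff k = f (q.coeff k) := by
  induction q using PolynomialModule.induction_linear with
  | zero => simp
  | add a b ha hb => simp [ha, hb]
  | single i m =>
    rw [PolynomialModule.map_single, PolynomialModule.coeff_single, PolynomialModule.coeff_single,
      Finsupp.single_apply, Finsupp.single_apply]
    split_ifs <;> simp

lemma coeff_sub' (x y : PolynomialModule A N) : (x - y).coeff = x.coeff - y.coeff :=
  map_sub (PolynomialModule.coeffAddEquiv (R := A) (M := N)) x y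

lemma coeff_X_smul_succ (q : PolynomialModule A N) (k : ℕ) :
    ((X : A[X]) • q).coeff (k + 1) = q.coeff k := by
  have := PolynomialModule.monomial_smul_apply 1 (1 : A) q (k + 1)
  rw [Polynomial.monomial_one_one_eq_X] at this
  simpa using this

lemma coeff_X_smul_zero (q : PolynomialModule A N) :
    ((X : A[X]) • q).coeff 0 = 0 := by
  have := PolynomialModule.monomial_smul_apply 1 (1 : A) q 0
  rw [Polynomial.monomial_one_one_eq_X] at this
  simpa using this

lemma ee_mu (t : A[X] ⊗[A] N) :
    ee (A := A) N (mu N t) = (X : A[X]) • ee N t - PolynomialModule.map A (mulX N) (ee N t) := by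
  simp only [mu, LinearMap.sub_apply, LinearMap.smul_apply, LinearMap.id_coe, id_eq, map_sub,
    map_smul, ee_baseChange]

lemma mu_injective : Function.Injective (mu (A := A) N) := by
  rw [← LinearMap.ker_eq_bot, LinearMap.ker_eq_bot']
  intro t ht
  have h0 : ee (A := A) N (mu N t) = 0 := by rw [ht, map_zero]
  rw [ee_mu] at h0
  set q := ee (A := A) N t with hq
  have hrec : ∀ k, q.coeff k = (X : A[X]) • q.coeff (k + 1) := by
    intro k
    have := congrArg (fun z => z.coeff (k + 1)) h0
    simp only [coeff_sub', Finsupp.sub_apply, coeff_X_smul_succ, coeff_map, mulX_apply,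
      PolynomialModule.coeff_zero, Finsupp.zero_apply] at this
    exact sub_eq_zero.mp this
  obtain ⟨D, hD⟩ : ∃ D : ℕ, ∀ k, D ≤ k → q.coeff k = 0 := by
    refine ⟨q.coeff.support.sup id + 1, fun k hk => ?_⟩
    by_contra hne
    have : k ∈ q.coeff.support := Finsupp.mem_support_iff.mpr hne
    have := Finset.le_sup (f := id) this
    simp at this
    omega
  have hall : ∀ j k, D ≤ k + j → q.coeff k = 0 := by
    intro j
    induction j with
    | zero => intro k hk; exact hD k (by omega)
    | succ j ih =>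
      intro k hk
      rw [hrec k, ih (k + 1) (by omega), smul_zero]
  have hq0 : q = 0 := by
    apply PolynomialModule.coeff_injective
    ext k
    simpa using hall D k (by omega)
  exact (ee (A := A) N).injective (by rw [← hq, hq0, map_zero])


end Groth.Agent.H4.PolySES
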