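import Mathlib
import Groth.Prelude.Def_DRing2
import Groth.Agent.H4.PolySES
import Groth.Agent.Lib.Helper2.TorFlatBC
import Groth.Agent.Lib.Helper2.TorBalLin

set_option autoImplicit false
universe u
open Polynomial TensorProduct CategoryTheory CategoryTheory.Limits

namespace Groth.Agent.H4.PolyTor

open Groth.Agent.H4.PolySES Groth.Agent.H2.TorBal Groth.Agent.H2.TorBC

variable {A : Type u} [CommRing A]

/-- Tor vanishing transfers: `Tor_q^A(M, N') = 0` implies `Tor_q^{A'}(M, A' ⊗ N') = 0` for flat `A'`. -/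
theorem isZero_tor_baseChange {A' : Type u} [CommRing A'] [Algebra A A'] [Module.Flat A A']
    (M : Type u) [AddCommGroup M] [Module A M] [Module A' M] [IsScalarTower A A' M]
    (N' : Type u) [AddCommGroup N'] [Module A N'] (q : ℕ)
    (h : IsZero (torObj q (ModuleCat.of A M) (ModuleCat.of A N'))) :
    IsZero (torObj q (ModuleCat.of A' M) (ModuleCat.of A' (A' ⊗[A] N'))) := by
  obtain ⟨s1⟩ := nonempty_tor_symm (ModuleCat.of A M) (ModuleCat.of A N') q
  obtain ⟨s2⟩ := nonempty_tor_symm (ModuleCat.of A' M) (ModuleCat.of A' (A' ⊗[A] N')) q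
  obtain ⟨φ, hφ⟩ := slb_tor (A := A) (A' := A') (Q' := M) q N' (torIndep_of_flat N')
  have h1 : IsZero (torObj q (ModuleCat.of A N') (ModuleCat.of A M)) := h.of_iso s1.symm
  haveI := ModuleCat.subsingleton_of_isZero h1
  haveI : Subsingleton (torObj q (ModuleCat.of A' (A' ⊗[A] N')) (ModuleCat.of A' M)) :=
    hφ.2.subsingleton
  exact (ModuleCat.isZero_of_subsingleton _).of_iso s2

theorem hasTorDimLE_polynomial (M : Type u) [AddCommGroup M] [Module A M] [Module A[X] M]
    [IsScalarTower A A[X] M] (d : ℕ) (h : DRing.HasTorDimLE A d M) :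
    DRing.HasTorDimLE A[X] (d + 1) M := by
  intro N _ _ p hp
  letI : Module A N := Module.compHom N (C : A →+* A[X])
  haveI : IsScalarTower A A[X] N := ⟨fun a p n => by
    change (a • p) • n = (C a) • (p • n)
    rw [Polynomial.smul_eq_C_mul, mul_smul]⟩
  obtain ⟨n, rfl⟩ : ∃ n, p = n + 1 := ⟨p - 1, by omega⟩
  have hz : ∀ q, d < q → IsZero (torObj q (ModuleCat.of A[X] M)
      (ModuleCat.of A[X] (A[X] ⊗[A] N))) := by
    intro q hq
    apply isZero_tor_baseChange
    haveI := h N q hq
    exact ModuleCat.isZero_of_subsingleton _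
  have hT := scOfLinearMaps_shortExact (mu (A := A) N) (eps (A := A) N) (mu_injective N)
    (exact_mu_eps N) (eps_surjective N)
  have := isZero_tor_X₃_right _ hT (ModuleCat.of A[X] M) n (hz (n + 1) (by omega)) (hz n (by omega))
  exact ModuleCat.subsingleton_of_isZero this

end Groth.Agent.H4.PolyTor

namespace Groth.Agent.H4.PolyTor

open Groth.Agent.H4.PolySES Groth.Agent.H2.TorBal Groth.Agent.H2.TorBC

theorem hasTorDimLE_of_ringEquiv {P P' : Type u} [CommRing P] [CommRing P'] (e : P ≃+* P')
    (M : Type u) [AddCommGroup M] [Module P M] [Module P' M]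
    (hc : ∀ (p : P) (m : M), e p • m = p • m) (k : ℕ) (h : DRing.HasTorDimLE P k M) :
    DRing.HasTorDimLE P' k M := by
  intro N _ _ p hp
  letI : Algebra P P' := e.toRingHom.toAlgebra
  have hal : ∀ x : P, algebraMap P P' x = e x := fun _ => rfl
  let e' : P' ≃ₗ[P] P :=
    { e.symm.toAddEquiv with
      map_smul' := fun x y => by
        change e.symm (x • y) = x • e.symm y
        rw [Algebra.smul_def, hal, map_mul, e.symm_apply_apply, smul_eq_mul] }
  haveI : Module.Flat P P' := Module.Flat.of_linearEquiv e'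
  letI : Module P N := Module.compHom N (algebraMap P P')
  haveI : IsScalarTower P P' N := ⟨fun x y n => by
    change (x • y) • n = (algebraMap P P' x) • (y • n)
    rw [Algebra.smul_def, mul_smul]⟩
  haveI : IsScalarTower P P' M := ⟨fun x y m => by
    rw [Algebra.smul_def, mul_smul, hal, hc]⟩
  obtain ⟨φ, hφ⟩ := slb_tor (A := P) (A' := P') (Q' := N) p M (torIndep_of_flat M)
  haveI := h N p hp
  haveI : Subsingleton (torObj p (ModuleCat.of P' (P' ⊗[P] M)) (ModuleCat.of P' N)) :=
    hφ.2.subsingleton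
  -- `P' ⊗[P] M ≃ M`
  let g : P' ⊗[P] M →ₗ[P'] M := (LinearMap.id (R := P) (M := M)).liftBaseChange P'
  have hg : ∀ (x : P') (m : M), g (x ⊗ₜ m) = x • m := fun x m => by simp [g]
  have hbij : Function.Bijective g := by
    constructor
    · rw [← LinearMap.ker_eq_bot, LinearMap.ker_eq_bot']
      intro t ht
      have key : ∀ t : P' ⊗[P] M, t = (1 : P') ⊗ₜ[P] g t := by
        intro t
        induction t using TensorProduct.induction_on with
        | zero => simp
        | add a b ha hb => rw [map_add, TensorProduct.tmul_add, ← ha, ← hb]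
        | tmul x m =>
          rw [hg]
          have hx : x = (e.symm x) • (1 : P') := by
            rw [Algebra.smul_def, hal, e.apply_symm_apply, mul_one]
          conv_lhs => rw [hx]
          rw [TensorProduct.smul_tmul, ← hc, e.apply_symm_apply]
      rw [key t, ht, TensorProduct.tmul_zero]
    · intro m
      exact ⟨1 ⊗ₜ m, by rw [hg, one_smul]⟩
  let i : ModuleCat.of P' (P' ⊗[P] M) ≅ ModuleCat.of P' M :=
    (LinearEquiv.ofBijective g hbij).toModuleIso
  exact ((ModuleCat.isZero_of_subsingleton _).of_iso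
    (((Tor (ModuleCat.{u} P') p).mapIso i).app (ModuleCat.of P' N)).symm) |>
    ModuleCat.subsingleton_of_isZero

end Groth.Agent.H4.PolyTor

namespace Groth.Agent.H4.PolyTor

theorem hasTorDimLE_mvPolynomial {A : Type u} [CommRing A] : ∀ (n : ℕ) (M : Type u) [AddCommGroup M] [Module A M]
    [Module (MvPolynomial (Fin n) A) M] [IsScalarTower A (MvPolynomial (Fin n) A) M] (d : ℕ),
    DRing.HasTorDimLE A d M → DRing.HasTorDimLE (MvPolynomial (Fin n) A) (d + n) M
  | 0, M, _, _, _, _, d, h => by
    refine hasTorDimLE_of_ringEquiv (MvPolynomial.isEmptyRingEquiv A (Fin 0)).symm M ?_ d h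
    intro p m
    have : (MvPolynomial.isEmptyRingEquiv A (Fin 0)).symm p = algebraMap A _ p := rfl
    rw [this, algebraMap_smul]
  | n + 1, M, _, _, _, _, d, h => by
    let e := MvPolynomial.finSuccEquiv A n
    letI m1 : Module (MvPolynomial (Fin n) A)[X] M :=
      Module.compHom M (e.symm : (MvPolynomial (Fin n) A)[X] →+* MvPolynomial (Fin (n + 1)) A)
    letI m2 : Module (MvPolynomial (Fin n) A) M :=
      Module.compHom M ((e.symm : (MvPolynomial (Fin n) A)[X] →+* MvPolynomial (Fin (n + 1)) A).comp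
        (C : MvPolynomial (Fin n) A →+* (MvPolynomial (Fin n) A)[X]))
    have hm1 : ∀ (f : (MvPolynomial (Fin n) A)[X]) (m : M), f • m = e.symm f • m := fun _ _ => rfl
    have hm2 : ∀ (q : MvPolynomial (Fin n) A) (m : M), q • m = e.symm (C q) • m := fun _ _ => rfl
    haveI : IsScalarTower (MvPolynomial (Fin n) A) (MvPolynomial (Fin n) A)[X] M := ⟨fun q f m => by
      rw [hm1, hm2, hm1, Polynomial.smul_eq_C_mul, map_mul, mul_smul]⟩
    haveI : IsScalarTower A (MvPolynomial (Fin n) A) M := ⟨fun a q m => by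
      rw [hm2, hm2, Algebra.smul_def, map_mul, map_mul, mul_smul]
      have : e.symm (C (algebraMap A (MvPolynomial (Fin n) A) a)) =
          algebraMap A (MvPolynomial (Fin (n + 1)) A) a := by
        have h1 : (C (algebraMap A (MvPolynomial (Fin n) A) a) : (MvPolynomial (Fin n) A)[X]) =
            algebraMap A (MvPolynomial (Fin n) A)[X] a := rfl
        rw [h1, e.symm.commutes]
      rw [this, algebraMap_smul]⟩
    have h1 := hasTorDimLE_mvPolynomial n M d h
    have h2 := hasTorDimLE_polynomial (A := MvPolynomial (Fin n) A) M (d + n) h1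
    exact hasTorDimLE_of_ringEquiv (e.symm : (MvPolynomial (Fin n) A)[X] ≃+* _) M
      (fun f m => rfl) (d + n + 1) h2

end Groth.Agent.H4.PolyTor
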