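import Mathlib
import Groth.Agent.H4.FAmp8
import Groth.Agent.H4.FAmp9
import Groth.Agent.H4.PolyTor

set_option autoImplicit false
universe u
attribute [local instance] HasDerivedCategory.standard
open CategoryTheory CategoryTheory.Limits AlgebraicGeometry Groth.Agent.LD.QC DerivedCategory
open Groth.Agent.H1.CohLen Groth.Agent.H1.SchFlat
open Groth.Agent.H4.PSch1 Groth.Agent.H4.PSch2 Groth.Agent.H4.PSch3 Groth.Agent.H4.PSch4
open Groth.Agent.H4.PSch5 Groth.Agent.H4.PCS6 Groth.Agent.H4.TilD9 Groth.Agent.H4.TilD10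
open Groth.Agent.H4.TilD11 Groth.Agent.H4.FAmp2 Groth.Agent.H4.FAmp3 Groth.Agent.H4.FAmp4
open Groth.Agent.H4.FAmp5 Groth.Agent.H4.FAmp7 Groth.Agent.H4.FAmp8 Groth.Agent.H4.FAmp9

namespace Groth.Agent.H4.FAmp10

section Opc

variable {C : Type*} [Category C] [Abelian C]

lemma mono_fromOpcycles (K : CochainComplex C ℤ) (i j : ℤ) (hij : i + 1 = j)
    (hex : K.ExactAt i) : Mono (K.fromOpcycles i j) := by
  have hz : IsZero (K.homology i) := (K.exactAt_iff_isZero_homology i).1 hex
  apply Preadditive.mono_of_cancel_zero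
  intro Z g hg
  have hl := K.homologyIsKernel i j (by simp [← hij])
  obtain ⟨l, hl'⟩ := KernelFork.IsLimit.lift' hl g hg
  rw [← hl', hz.eq_of_tgt l 0, zero_comp]

/-- the short complex `opcycles i ⟶ X j ⟶ opcycles j` -/
noncomputable def opcSC (K : CochainComplex C ℤ) (i j : ℤ) : ShortComplex C :=
  ShortComplex.mk (K.fromOpcycles i j) (K.pOpcycles j) (by
    rw [← cancel_epi (K.pOpcycles i), HomologicalComplex.p_fromOpcycles_assoc, comp_zero,
      HomologicalComplex.d_pOpcycles])

lemma opcSC_shortExact (K : CochainComplex C ℤ) (i j : ℤ) (hij : i + 1 = j)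
    (hex : K.ExactAt i) : (opcSC K i j).ShortExact := by
  haveI : Mono (opcSC K i j).f := mono_fromOpcycles K i j hij hex
  haveI : Epi (opcSC K i j).g := inferInstanceAs (Epi (K.pOpcycles j))
  let S₀ : ShortComplex C := ShortComplex.mk (K.d i j) (K.pOpcycles j) (K.d_pOpcycles i j)
  have hS₀ : S₀.Exact :=
    ShortComplex.exact_of_g_is_cokernel _ (K.opcyclesIsCokernel i j (by simp [← hij]))
  let φ : S₀ ⟶ opcSC K i j :=
    { τ₁ := K.pOpcycles i
      τ₂ := 𝟙 _
      τ₃ := 𝟙 _
      comm₁₂ := by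
        dsimp [S₀, opcSC]
        rw [HomologicalComplex.p_fromOpcycles, Category.comp_id]
      comm₂₃ := by
        dsimp [S₀, opcSC]
        rw [Category.comp_id, Category.id_comp] }
  haveI : Epi φ.τ₁ := inferInstanceAs (Epi (K.pOpcycles i))
  haveI : IsIso φ.τ₂ := inferInstanceAs (IsIso (𝟙 _))
  haveI : Mono φ.τ₃ := inferInstanceAs (Mono (𝟙 _))
  exact ⟨(ShortComplex.exact_iff_of_epi_of_isIso_of_mono φ).1 hS₀⟩

end Opc

variable {X : Scheme.{u}}

/-- dimension shifting on stalks -/
lemma hasTorDimLE_stalk_of_ses (T : ShortComplex X.Modules) (hT : T.ShortExact) (x : X)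
    (hflat : FlatMod.IsFlatAt T.X₂ x) (k : ℕ)
    (h : DRing.HasTorDimLE (X.presheaf.stalk x) (k + 1) (T.X₃.presheaf.stalk x)) :
    DRing.HasTorDimLE (X.presheaf.stalk x) k (T.X₁.presheaf.stalk x) := by
  haveI := hT.mono_f
  haveI := hT.epi_g
  exact @hasTorDimLE_of_ses _ _ _ _ _ _ _ _ _ _ _ (stalkLin T.f x) (stalkLin T.g x)
    (stalkFun_injective_of_mono T.f x) (stalkFun_exact T hT x)
    (stalkFun_surjective_of_epi T.g x) hflat k h

lemma hasTorDimLE_opcycles (P : CochainComplex X.Modules ℤ) (x : X) (c : ℤ) (n : ℕ)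
    (hflat : ∀ i, FlatMod.IsFlatAt (P.X i) x)
    (hex : ∀ i : ℤ, c - n ≤ i → i < c → P.ExactAt i)
    (h : DRing.HasTorDimLE (X.presheaf.stalk x) n ((P.opcycles c).presheaf.stalk x)) :
    ∀ t : ℕ, t ≤ n → ∀ i : ℤ, i = c - t → DRing.HasTorDimLE (X.presheaf.stalk x) (n - t)
      ((P.opcycles i).presheaf.stalk x) := by
  intro t
  induction t with
  | zero =>
    intro _ i hi
    have : i = c := by simpa using hi
    subst this
    simpa using h
  | succ t ih =>
    intro ht i hi
    have IH := ih (by omega) (c - t) rfl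
    have hT := opcSC_shortExact P i (c - t) (by rw [hi]; push_cast; ring)
      (hex _ (by rw [hi]; push_cast; omega) (by rw [hi]; push_cast; omega))
    have h1 : n - t = (n - (t + 1)) + 1 := by omega
    rw [h1] at IH
    exact hasTorDimLE_stalk_of_ses (opcSC P i (c - t)) hT x (hflat _)
      (n - (t + 1)) IH

theorem S6194
    (hX : ∀ (x : X) (M : Type u) [AddCommGroup M] [Module (X.presheaf.stalk x) M],
      DRing.HasFiniteTorDim (X.presheaf.stalk x) M)
    (F : CochainComplex X.Modules ℤ) (c d : ℤ) [(DCoh.toD X F).IsGE c] [(DCoh.toD X F).IsLE d] :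
    (∀ m : ℤ, DCoh.IsPseudoCoherentD m (DCoh.toD X F)) ↔ DCoh.IsPerfect (DCoh.toD X F) := by
  constructor
  · intro hpc
    rw [isPerfect_iff_perfAt]
    intro x
    obtain ⟨n, hn⟩ := exists_uniform_torDim (hX x)
    have h1 : PCAt (c - 1 - n) (Q.obj F) x := (isPseudoCoherentD_iff_pcAt _ _).1 (hpc _) x
    obtain ⟨U, j, hj, ⟨y, rfl⟩, P, g, a', b', hP, hfree, hg⟩ :=
      exists_locFreeWit_of_pcAt _ F _ h1
    have hPf : ∀ i, FlatMod.IsFinLocFree (P.X i) := fun i => by
      obtain ⟨k, ⟨e⟩⟩ := hfree i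
      exact isFinLocFree_of_iso e.symm (isFinLocFree_freeMod U k)
    have hPsp : DCoh.IsStrictlyPerfect P := ⟨⟨a', b', hP⟩, hPf⟩
    have hPflat : ∀ i, FlatMod.IsFlatAt (P.X i) y := fun i => isFlat_of_isFinLocFree _ (hPf i) y
    -- exactness of the target below `c`
    haveI : F.IsGE c := (DerivedCategory.isGE_Q_obj_iff F c).1 inferInstance
    have hFex : ∀ i, i < c → ((resCx j).obj F).ExactAt i := fun i hi =>
      exactAt_restrict j F i (F.exactAt_of_isGE c i hi)
    have hex : ∀ i : ℤ, c - n ≤ i → i < c → P.ExactAt i := by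
      intro i hi1 hi2
      haveI : IsIso (HomologicalComplex.homologyMap g i) := hg.1 i (by omega)
      rw [HomologicalComplex.exactAt_iff_isZero_homology]
      exact ((HomologicalComplex.exactAt_iff_isZero_homology _ _).1 (hFex i hi2)).of_iso
        (asIso (HomologicalComplex.homologyMap g i))
    -- tor dimension of the stalk of the cokernel
    let N := P.opcycles c
    have hNfp : N.IsFinitePresentation := isFinitePresentation_opcycles P hPf c
    have hNft : N.IsFiniteType := inferInstance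
    haveI : N.IsQuasicoherent := inferInstance
    haveI hfin : Module.Finite (U.presheaf.stalk y) (N.presheaf.stalk y) := finite_stalk N hNft y
    have htd : DRing.HasTorDimLE (U.presheaf.stalk y) n (N.presheaf.stalk y) := by
      let e := stalkRingEquiv j y
      letI : Module (X.presheaf.stalk (j y)) (N.presheaf.stalk y) :=
        Module.compHom _ (e.symm : X.presheaf.stalk (j y) →+* U.presheaf.stalk y)
      haveI : Module.Finite (X.presheaf.stalk (j y)) (N.presheaf.stalk y) :=
        finite_of_semilinear e (AddEquiv.refl _) (fun a m => by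
          change a • m = e.symm (e a) • m
          rw [RingEquiv.symm_apply_apply])
      have hR := hn (N.presheaf.stalk y)
      exact Groth.Agent.H4.PolyTor.hasTorDimLE_of_ringEquiv e.symm (N.presheaf.stalk y)
        (fun _ _ => rfl) n hR
    have h0 := hasTorDimLE_opcycles P y c n hPflat hex htd n le_rfl (c - n) rfl
    rw [Nat.sub_self] at h0
    have hfl : FlatMod.IsFlatAt (P.opcycles (c - n)) y := flat_of_hasTorDimLE_zero _ h0
    obtain ⟨W, k, hyW, ⟨eW⟩⟩ := exists_restrict_iso_freeMod_of_flat_stalk _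
      (isFinitePresentation_opcycles P hPf (c - n)) y hfl
    -- restrict to `W`
    let P' := (resCx W.ι).obj P
    have hP' : DCoh.IsStrictlyPerfect P' := isStrictlyPerfect_restrict W.ι P hPsp
    have eopc : P'.opcycles (c - n) ≅
        (Scheme.Modules.restrictFunctor W.ι).obj (P.opcycles (c - n)) :=
      (P.sc (c - n)).mapOpcyclesIso (Scheme.Modules.restrictFunctor W.ι)
    have hflf : FlatMod.IsFinLocFree (P'.opcycles (c - n)) :=
      isFinLocFree_of_iso (eW.symm ≪≫ eopc.symm) (isFinLocFree_freeMod _ k)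
    let g' : P' ⟶ (resCx W.ι).obj ((resCx j).obj F) := (resCx W.ι).map g
    have hcn : c - 1 - (n : ℤ) = c - n - 1 := by ring
    have hg' : IsWitCx (c - n - 1) g' := by
      rw [← hcn]
      exact hg.map (Scheme.Modules.restrictFunctor W.ι)
    haveI : ((resCx W.ι).obj ((resCx j).obj F)).IsGE (c - n) := by
      rw [CochainComplex.isGE_iff]
      intro i hi
      exact exactAt_restrict W.ι _ i (hFex i (by omega))
    obtain ⟨e⟩ := nonempty_iso_truncGE g' (c - n) hg'
    exact ⟨W, W.ι ≫ j, inferInstance, P'.truncGE (c - n), ⟨⟨y, hyW⟩, rfl⟩,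
      isStrictlyPerfect_truncGE P' hP' (c - n) hflf,
      ⟨RDfac (W.ι ≫ j) F ≪≫ Q.mapIso ((resCxComp W.ι j).app F) ≪≫ e⟩⟩
  · intro h
    exact ((Groth.Agent.H4.FAmp5.S0914 _).1 h).1

end Groth.Agent.H4.FAmp10
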