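import Groth.Agent.H4.DRing3
import Groth.Agent.Lib.Helper6.PdReg
set_option autoImplicit false
universe u
attribute [local instance] HasDerivedCategory.standard
open CategoryTheory CategoryTheory.Limits DerivedCategory DRing Groth.Agent.H4.DRing1
namespace Groth.Agent.H4.RegPerf

variable {R : Type u} [CommRing R]

lemma isPerfectModule_of_finite_projective (M : Type u) [AddCommGroup M] [Module R M]
    [Module.Finite R M] [Module.Projective R M] : IsPerfectModule R M := by
  refine ⟨(CochainComplex.singleFunctor (ModuleCat.{u} R) 0).obj (ModuleCat.of R M), 0, 0,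
    fun i hi => ?_, fun i => ?_, ⟨((singleFunctorIsoCompQ (ModuleCat.{u} R) 0).app _).symm⟩⟩
  · exact HomologicalComplex.isZero_single_obj_X (ComplexShape.up ℤ) 0 (ModuleCat.of R M) i
      (by omega)
  · by_cases hi : i = 0
    · subst hi
      have e := (HomologicalComplex.singleObjXSelf (ComplexShape.up ℤ) 0 (ModuleCat.of R M))
      exact ⟨Module.Finite.equiv e.toLinearEquiv.symm,
        Module.Projective.of_equiv e.toLinearEquiv.symm⟩
    · have hz : IsZero (((CochainComplex.singleFunctor (ModuleCat.{u} R) 0).obj
          (ModuleCat.of R M)).X i) :=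
        HomologicalComplex.isZero_single_obj_X (ComplexShape.up ℤ) 0 (ModuleCat.of R M) i hi
      haveI := ModuleCat.subsingleton_of_isZero hz
      exact ⟨inferInstance, inferInstance⟩

lemma isPerfect_single_X₃ (S : ShortComplex (ModuleCat.{u} R)) (hS : S.ShortExact)
    (h1 : IsPerfect R ((singleFunctor (ModuleCat.{u} R) 0).obj S.X₁))
    (h2 : IsPerfect R ((singleFunctor (ModuleCat.{u} R) 0).obj S.X₂)) :
    IsPerfect R ((singleFunctor (ModuleCat.{u} R) 0).obj S.X₃) :=
  (isPerfect_two_out_of_three _ hS.singleTriangle_distinguished).1 h1 h2

theorem isPerfectModule_of_hasProjectiveDimensionLE [IsNoetherianRing R] :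
    ∀ (d : ℕ) (M : Type u) [AddCommGroup M] [Module R M] [Module.Finite R M],
      HasProjectiveDimensionLE (ModuleCat.of R M) d → IsPerfectModule R M := by
  intro d
  induction d with
  | zero =>
    intro M _ _ _ h
    have hp : Projective (ModuleCat.of R M) := by
      rw [projective_iff_hasProjectiveDimensionLT_one]
      exact h
    haveI : Module.Projective R M := (IsProjective.iff_projective (R := R) (P := M)).mpr hp
    exact isPerfectModule_of_finite_projective M
  | succ d ih =>
    intro M _ _ _ h
    obtain ⟨n, f, hf⟩ := Module.Finite.exists_fin' R M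
    let S : ShortComplex (ModuleCat.{u} R) := f.shortComplexKer
    have hS : S.ShortExact := LinearMap.shortExact_shortComplexKer hf
    haveI : Projective S.X₂ := by
      rw [← IsProjective.iff_projective]
      change Module.Projective R (Fin n → R)
      infer_instance
    have h1 : HasProjectiveDimensionLT S.X₁ (d + 1) := by
      have := (hS.hasProjectiveDimensionLT_X₃_iff d inferInstance).mp h
      exact this
    have hX1 : IsPerfectModule R (LinearMap.ker f) := ih (LinearMap.ker f) h1
    have hX2 : IsPerfectModule R (Fin n → R) := isPerfectModule_of_finite_projective _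
    exact isPerfect_single_X₃ S hS hX1 hX2

theorem isPerfectModule_of_finite_of_isRegularRing [IsRegularRing R]
    (M : Type u) [AddCommGroup M] [Module R M] [Module.Finite R M] : IsPerfectModule R M := by
  obtain ⟨d, hd⟩ := Groth.Agent.H6.PdReg.exists_bound R M
  exact isPerfectModule_of_hasProjectiveDimensionLE d M hd

end Groth.Agent.H4.RegPerf
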