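import Mathlib
import Groth.Agent.H4.TilD4
import Groth.Agent.S6962
import Groth.Agent.Lib.Lead.QC.Flat

set_option autoImplicit false
universe u
attribute [local instance] HasDerivedCategory.standard
open CategoryTheory CategoryTheory.Limits AlgebraicGeometry Groth.Agent.LD.QC DerivedCategory
open Groth.Agent.H4.PSch1 Groth.Agent.H4.PSch2 Groth.Agent.H4.PSch3 Groth.Agent.H4.PSch4
open Groth.Agent.H4.PSch5 Groth.Agent.H4.PSch6
open Groth.Agent.H4.TilD1 Groth.Agent.H4.TilD2 Groth.Agent.H4.TilD3 Groth.Agent.H4.TilD4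
open Groth.Agent.H2.KThick Groth.Agent.H4.K0Coh

namespace Groth.Agent.H4.TilD5

section Tilde

variable (R : CommRingCat.{u})

lemma isStrictlyPerfect_tildeCx (E : CochainComplex (ModuleCat.{u} R) ℤ) (a b : ℤ)
    (hab : DRing.VanishesOutside E a b) (hfp : DRing.TermwiseFiniteProjective E) :
    DCoh.IsStrictlyPerfect ((tildeCx R).obj E) := by
  refine ⟨⟨a, b, fun n hn => (tilde.functor R).map_isZero (hab n hn)⟩, fun n => ?_⟩
  haveI := (hfp n).1
  haveI := (hfp n).2
  exact isFinLocFree_tilde R (E.X n)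

/-- the sheaf associated with a perfect module is a strictly perfect complex in `D(O_{Spec R})` -/
lemma exists_isStrictlyPerfect_iso_tilde (N : ModuleCat.{u} R)
    (hN : DRing.IsPerfect R ((DerivedCategory.singleFunctor (ModuleCat.{u} R) 0).obj N)) :
    ∃ E' : CochainComplex (Spec R).Modules ℤ, DCoh.IsStrictlyPerfect E' ∧
      Nonempty ((DerivedCategory.singleFunctor (Spec R).Modules 0).obj ((tilde.functor R).obj N) ≅
        Q.obj E') := by
  haveI := Groth.Agent.H5.AG.tilde_preservesFiniteLimits R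
  obtain ⟨E, a, b, hab, hfp, ⟨e⟩⟩ := hN
  refine ⟨(tildeCx R).obj E, isStrictlyPerfect_tildeCx R E a b hab hfp, ⟨?_⟩⟩
  exact (((tilde.functor R).mapDerivedCategorySingleFunctor 0).app N).symm ≪≫
    (tilde.functor R).mapDerivedCategory.mapIso e.symm ≪≫
    (tilde.functor R).mapDerivedCategoryFactors.app E

end Tilde

section Regular

variable {X : Scheme.{u}}

lemma isRegularLocalRing_localization_sections
    (hreg : ∀ x : X, IsRegularLocalRing (X.presheaf.stalk x)) {U : X.Opens} (hU : IsAffineOpen U)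
    (p : PrimeSpectrum Γ(X, U)) : IsRegularLocalRing (Localization.AtPrime p.asIdeal) := by
  have hx : hU.fromSpec p ∈ U := fromSpec_mem hU p
  letI : Algebra Γ(X, U) (X.presheaf.stalk (hU.fromSpec p)) :=
    TopCat.Presheaf.algebra_section_stalk X.presheaf ⟨hU.fromSpec p, hx⟩
  haveI h1 := hU.isLocalization_stalk ⟨hU.fromSpec p, hx⟩
  rw [primeIdealOf_fromSpec hU p hx] at h1
  haveI := hreg (hU.fromSpec p)
  exact IsRegularLocalRing.of_ringEquiv
    (IsLocalization.algEquiv p.asIdeal.primeCompl (X.presheaf.stalk (hU.fromSpec p))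
      (Localization.AtPrime p.asIdeal)).toRingEquiv

variable [IsLocallyNoetherian X]

theorem isPerfect_inD_of_isCoh (hreg : ∀ x : X, IsRegularLocalRing (X.presheaf.stalk x))
    (G : X.Modules) (hG : Coh.IsCoh G) : DCoh.IsPerfect (DCoh.inD X G) := by
  rw [isPerfect_iff_perfAt]
  intro x
  obtain ⟨U, hU, hxU, -⟩ := exists_isAffineOpen_mem_and_subset (x := x) (U := ⊤) trivial
  haveI := hG.1
  haveI : IsNoetherianRing Γ(X, U) := IsLocallyNoetherian.component_noetherian ⟨U, hU⟩
  let N : ModuleCat.{u} Γ(X, U) := (moduleSpecΓFunctor (R := Γ(X, U))).obj (G.restrict hU.fromSpec)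
  have hfin : Module.Finite Γ(X, U) N := by
    haveI := finite_sections_of_isFiniteType G hG.2 hU
    exact Module.Finite.equiv (affineΓEquiv G hU).symm
  have hperf : DRing.IsPerfectModule Γ(X, U) N :=
    (Groth.Agent.S6962.result Γ(X, U) (isRegularLocalRing_localization_sections hreg hU) N).mpr hfin
  obtain ⟨E', hE', ⟨e'⟩⟩ := exists_isStrictlyPerfect_iso_tilde Γ(X, U) N hperf
  haveI : (G.restrict hU.fromSpec).IsQuasicoherent := qc_restrict _ _
  have e1 : G.restrict hU.fromSpec ≅ (tilde.functor Γ(X, U)).obj N :=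
    (asIso (G.restrict hU.fromSpec).fromTildeΓ).symm
  refine ⟨Spec Γ(X, U), hU.fromSpec, inferInstance, E', ?_, hE', ⟨?_⟩⟩
  · rw [hU.range_fromSpec]; exact hxU
  · exact ((Scheme.Modules.restrictFunctor hU.fromSpec).mapDerivedCategorySingleFunctor 0).app G ≪≫
      (DerivedCategory.singleFunctor _ 0).mapIso e1 ≪≫ e'

theorem S1005 (X : Scheme.{u}) [IsLocallyNoetherian X]
    (hreg : ∀ x : X, IsRegularLocalRing (X.presheaf.stalk x))
    (K : DCoh.D X) (a b : ℤ) [K.IsGE a] [K.IsLE b] (hK : DCoh.IsCohD K) : DCoh.IsPerfect K :=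
  isPerfect_of_Q_aux (PCoh X) (fun G hG => isPerfect_inD_of_isCoh hreg G hG) (b - a + 1).toNat K a b
    inferInstance inferInstance (by omega) ⟨hK, a, b, inferInstance, inferInstance⟩

end Regular

end Groth.Agent.H4.TilD5
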