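import Mathlib
import Groth.Agent.H4.FAmp10
import Groth.Agent.H4.TilD5
import Groth.Agent.H4.TilD11
import Groth.Agent.H4.PC9
import Groth.Agent.H4.PCS8

set_option autoImplicit false
universe u
attribute [local instance] HasDerivedCategory.standard
open CategoryTheory CategoryTheory.Limits AlgebraicGeometry Groth.Agent.LD.QC DerivedCategory
open Groth.Agent.H4.PSch1 Groth.Agent.H4.PSch2 Groth.Agent.H4.PSch3 Groth.Agent.H4.PSch4
open Groth.Agent.H4.PSch5 Groth.Agent.H4.PSch6 Groth.Agent.H4.TilD9 Groth.Agent.H4.TilD10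
open Groth.Agent.H4.TilD11 Groth.Agent.H4.PCS3 Groth.Agent.H4.PCS6 Groth.Agent.H4.PCS7
open Groth.Agent.H4.PCS8 Groth.Agent.H4.PCS1 Groth.Agent.H4.PCS4 Groth.Agent.H4.PCS5
open Groth.Agent.H4.TilD1 Groth.Agent.H4.TilD2 Groth.Agent.H4.TilD3 Groth.Agent.H4.TilD4
open Groth.Agent.H4.TilD5 Pretriangulated

namespace Groth.Agent.H4.CohPC1

variable {X : Scheme.{u}}

theorem pcAt_inD_of_isCoh [IsLocallyNoetherian X] (G : X.Modules) (hG : Coh.IsCoh G) (m : ℤ)
    (x : X) : PCAt m (DCoh.inD X G) x := by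
  obtain ⟨U, hU, hxU, -⟩ := exists_isAffineOpen_mem_and_subset (x := x) (U := ⊤) trivial
  haveI := hG.1
  haveI : IsNoetherianRing Γ(X, U) := IsLocallyNoetherian.component_noetherian ⟨U, hU⟩
  let N : ModuleCat.{u} Γ(X, U) := (moduleSpecΓFunctor (R := Γ(X, U))).obj (G.restrict hU.fromSpec)
  have hfin : Module.Finite Γ(X, U) N := by
    haveI := finite_sections_of_isFiniteType G hG.2 hU
    exact Module.Finite.equiv (affineΓEquiv G hU).symm
  haveI := Groth.Agent.H5.AG.tilde_preservesFiniteLimits Γ(X, U)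
  have hpc : DRing.IsPseudoCoherent Γ(X, U) m
      ((DerivedCategory.singleFunctor (ModuleCat.{u} Γ(X, U)) 0).obj N) :=
    Groth.Agent.H4.PC.isPC_single_of_finite_of_noetherian N m
  have h1 := (S1004 Γ(X, U) ((DerivedCategory.singleFunctor (ModuleCat.{u} Γ(X, U)) 0).obj N) m).mpr hpc
  rw [isPseudoCoherentD_iff_pcAt] at h1
  haveI : (G.restrict hU.fromSpec).IsQuasicoherent := qc_restrict _ _
  have e1 : G.restrict hU.fromSpec ≅ (tilde.functor Γ(X, U)).obj N :=
    (asIso (G.restrict hU.fromSpec).fromTildeΓ).symm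
  have hx' : x ∈ Set.range hU.fromSpec := by
    rw [hU.range_fromSpec]; exact hxU
  obtain ⟨y, rfl⟩ := hx'
  apply PCAt.of_restrict hU.fromSpec
  refine PCAt.of_iso ?_ y (h1 y)
  exact ((tilde.functor Γ(X, U)).mapDerivedCategorySingleFunctor 0).app N ≪≫
    (DerivedCategory.singleFunctor _ 0).mapIso e1.symm ≪≫ (RDinD hU.fromSpec G).symm

open Groth.Agent.H2.DTrunc Groth.Agent.H2.KThick in
theorem pcAt_of_coh_aux [IsLocallyNoetherian X] (x : X) (n : ℕ) :
    ∀ (K : DCoh.D X) (m b : ℤ) (_ : tt.IsLE K b) (_ : b < m + n)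
      (_ : ∀ i : ℤ, m ≤ i → Coh.IsCoh (DCoh.HD K i)), PCAt m K x := by
  induction n with
  | zero =>
    intro K m b _ hb _
    haveI : K.IsLE (m - 1) := TStructure.t.isLE_of_le K b (m - 1) (by push_cast at hb; omega)
    exact PCAt.of_isLE m K x
  | succ n ih =>
    intro K m b _ hb hK
    by_cases hbm : b < m
    · haveI : K.IsLE (m - 1) := TStructure.t.isLE_of_le K b (m - 1) (by omega)
      exact PCAt.of_isLE m K x
    have hT := tt.triangleLTGE_distinguished b K
    have e₁ : PCAt m ((tt.truncLT b).obj K) x := by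
      refine ih _ m (b - 1) inferInstance (by push_cast at hb; omega) (fun i hi => ?_)
      by_cases hi' : i < b
      · have := isIso_homology_truncLTι K b i hi'
        exact isCoh_of_iso (asIso ((homologyFunctor _ i).map ((tt.truncLTι b).app K))).symm (hK i hi)
      · exact Groth.Agent.H4.K0Coh.isCoh_of_isZero (isZero_of_isLE _ (b - 1) i (by omega))
    obtain ⟨Y, ⟨e⟩⟩ := exists_iso_singleFunctor_obj_of_isGE_of_isLE ((tt.truncGE b).obj K) b
    have hY : Coh.IsCoh Y := by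
      have := isIso_homology_truncGEπ K b b le_rfl
      have h3 : Coh.IsCoh ((homologyFunctor _ b).obj ((tt.truncGE b).obj K)) :=
        isCoh_of_iso (asIso ((homologyFunctor _ b).map ((tt.truncGEπ b).app K))) (hK b (by omega))
      exact isCoh_of_iso ((homologyFunctor _ b).mapIso e ≪≫ homologySingleIso Y b) h3
    have hY0 : PCAt (m - b) ((DerivedCategory.singleFunctor X.Modules 0).obj Y) x :=
      pcAt_inD_of_isCoh Y hY (m - b) x
    have eY : ((DerivedCategory.singleFunctor X.Modules 0).obj Y)⟦-b⟧ ≅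
        (DerivedCategory.singleFunctor X.Modules b).obj Y :=
      ((DerivedCategory.singleFunctors X.Modules).shiftIso (-b) b 0 (by omega)).app Y
    have e₃ : PCAt m ((tt.truncGE b).obj K) x := by
      have := PCAt.shift _ x (-b) hY0
      rw [show m - b - -b = m by omega] at this
      exact PCAt.of_iso (eY ≪≫ e.symm) x this
    exact PCAt.obj₂ _ hT m x e₁ e₃

theorem isLE_of_pc [CompactSpace X] (m : ℤ) (E : DCoh.D X) (hE : ∀ x, PCAt m E x) :
    ∃ b : ℤ, E.IsLE b := by
  choose U j hj P α hx hP hα using hE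
  have hab : ∀ x, ∃ a b : ℤ, DCoh.VanishesOutside (P x) a b := fun x => (hP x).1
  choose a b hab using hab
  obtain ⟨t, ht⟩ := isCompact_univ.elim_finite_subcover (fun x : X => ((j x).opensRange : Set X))
    (fun x => (j x).opensRange.isOpen) (fun x _ => Set.mem_iUnion.mpr ⟨x, hx x⟩)
  obtain ⟨b₀, hb₀⟩ := (t.image b).exists_le
  refine ⟨max b₀ m, ?_⟩
  rw [DerivedCategory.isLE_iff]
  intro i hi
  apply isZero_of_local
  intro y
  obtain ⟨x, hxt, hy⟩ : ∃ x ∈ t, y ∈ Set.range (j x) := by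
    have := ht (Set.mem_univ y)
    simpa using this
  obtain ⟨π, hπ, -⟩ := exists_homology_map (j x) E (P x) (α x) i
  haveI := hπ ((hα x).1 i (lt_of_le_of_lt (le_max_right _ _) hi))
  refine ⟨U x, j x, hj x, hy, IsZero.of_iso ?_ (asIso π).symm⟩
  have h2 : b x ≤ b₀ := hb₀ _ (Finset.mem_image_of_mem _ hxt)
  have hz : IsZero ((P x).X i) := hab x i (Or.inr (lt_of_le_of_lt (h2.trans (le_max_left _ _)) hi))
  exact ShortComplex.isZero_homology_of_isZero_X₂ _ hz

theorem isCoh_HD_of_pc [IsLocallyNoetherian X] (m : ℤ) (E : DCoh.D X) (hq : DCoh.IsQCohD E)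
    (hE : ∀ x, PCAt m E x) (i : ℤ) (hi : m ≤ i) : Coh.IsCoh (DCoh.HD E i) := by
  refine ⟨hq i, ?_⟩
  apply isFiniteType_of_local
  intro x
  obtain ⟨U, j, hj, P, α, hx, hP, hα⟩ := hE x
  obtain ⟨π, -, hπ⟩ := exists_homology_map j E P α i
  haveI : Epi π := by
    apply hπ
    rcases eq_or_lt_of_le hi with rfl | h
    · exact hα.2
    · haveI := hα.1 i h
      infer_instance
  haveI : IsLocallyNoetherian U := isLocallyNoetherian_of_isOpenImmersion j
  exact ⟨U, j, hj, hx, isFiniteType_of_epi' π (isCoh_homology_of_isStrictlyPerfect P hP i).2⟩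

theorem S1039 (X : Scheme.{u}) [IsNoetherian X] (E : DCoh.D X) (hE : DCoh.IsQCohD E) (m : ℤ) :
    DCoh.IsPseudoCoherentD m E ↔
      (∀ i : ℤ, m ≤ i → Coh.IsCoh (DCoh.HD E i)) ∧ ∃ b : ℤ, E.IsLE b := by
  rw [isPseudoCoherentD_iff_pcAt]
  constructor
  · intro h
    exact ⟨fun i hi => isCoh_HD_of_pc m E hE h i hi, isLE_of_pc m E h⟩
  · rintro ⟨h1, b, hb⟩ x
    exact pcAt_of_coh_aux x (b - m + 1).toNat E m b hb (by omega) h1

end Groth.Agent.H4.CohPC1
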