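import Mathlib
set_option autoImplicit false
universe u
namespace Groth.Agent.H4.Cok

section LemmaL

variable {B : Type*} [CommRing B] (S : Submonoid B) (O : Type*) [CommRing O] [Algebra B O]
  [IsLocalization S O]
  {M0 M1 N O' N' : Type*} [AddCommGroup M0] [Module B M0] [AddCommGroup M1] [Module B M1]
  [AddCommGroup N] [Module B N]
  [CommRing O'] [Algebra O O'] [Module B O'] [IsScalarTower B O O']
  [AddCommGroup N'] [Module B N'] [Module O N'] [IsScalarTower B O N']

theorem exists_linearEquiv_quot_of_exact
    (g : M0 →ₗ[B] M1) (h : M1 →ₗ[B] N) (hex : Function.Exact g h) (hsurj : Function.Surjective h)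
    (f0 : M0 →ₗ[B] O) [IsLocalizedModule S f0]
    (f1 : M1 →ₗ[B] O') [IsLocalizedModule S f1] (f2 : N →ₗ[B] N') [IsLocalizedModule S f2]
    (hcompat : ∀ m : M0, f1 (g m) = algebraMap O O' (f0 m)) :
    Nonempty (N' ≃ₗ[O] (O' ⧸ LinearMap.range (Algebra.linearMap O O'))) := by
  let g' : O →ₗ[B] O' := IsLocalizedModule.map S f0 f1 g
  let h' : O' →ₗ[B] N' := IsLocalizedModule.map S f1 f2 h
  have hex' : Function.Exact g' h' := IsLocalizedModule.map_exact S f0 f1 f2 g h hex
  have hsurj' : Function.Surjective h' := IsLocalizedModule.map_surjective S f1 f2 h hsurj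
  have hg' : g' = (Algebra.linearMap O O').restrictScalars B := by
    apply IsLocalizedModule.ext S f0 (IsLocalizedModule.map_units f1)
    ext m
    simp only [LinearMap.coe_comp, Function.comp_apply, LinearMap.coe_restrictScalars,
      Algebra.linearMap_apply]
    rw [show g' (f0 m) = f1 (g m) from IsLocalizedModule.map_apply S f0 f1 g m, hcompat]
  let h'O : O' →ₗ[O] N' := h'.extendScalarsOfIsLocalization S O
  have hker : LinearMap.ker h'O = LinearMap.range (Algebra.linearMap O O') := by
    ext x
    rw [LinearMap.mem_ker, LinearMap.mem_range]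
    change h' x = 0 ↔ _
    rw [hex' x, hg']
    rfl
  have hsurjO : Function.Surjective h'O := hsurj'
  exact ⟨(h'O.quotKerEquivOfSurjective hsurjO).symm.trans (Submodule.quotEquivOfEq _ _ hker)⟩

end LemmaL

section LemmaM

variable {B : Type*} [CommRing B] (p : Ideal B) [p.IsPrime] (O : Type*) [CommRing O] [Algebra B O]
  [IsLocalization.AtPrime O p] {K : Type*} [Field K] [Algebra O K] [Algebra B K] [IsScalarTower B O K]

/-- the inclusion of the integral closure of `B` into the integral closure of `O` -/
noncomputable def inclIC : integralClosure B K →ₗ[B] integralClosure O K where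
  toFun x := ⟨x.1, IsIntegral.tower_top x.2⟩
  map_add' _ _ := rfl
  map_smul' b x := by
    apply Subtype.ext
    change b • x.1 = b • x.1
    rfl

lemma inclIC_apply (x : integralClosure B K) : ((inclIC O x : integralClosure O K) : K) = x.1 := rfl

include p in
theorem isLocalizedModule_inclIC :
    IsLocalizedModule p.primeCompl (inclIC (B := B) O (K := K)) := by
  refine ⟨?_, ?_, ?_⟩
  · intro s
    obtain ⟨u, hu⟩ := IsLocalization.map_units O s
    rw [Module.End.isUnit_iff]
    refine ⟨fun a b hab => ?_, fun b => ⟨(↑u⁻¹ : O) • b, ?_⟩⟩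
    · have h1 : (u : O) • a = (u : O) • b := by
        rw [hu]
        simpa [algebraMap_smul] using hab
      have := congrArg (fun z => (↑u⁻¹ : O) • z) h1
      simpa [smul_smul] using this
    · change (s : B) • ((↑u⁻¹ : O) • b) = b
      rw [← algebraMap_smul O (s : B), ← hu, smul_smul, Units.mul_inv, one_smul]
  · intro y
    obtain ⟨m, hm⟩ := IsIntegral.exists_multiple_integral_of_isLocalization p.primeCompl y.1 y.2
    refine ⟨⟨⟨m • y.1, hm⟩, m⟩, ?_⟩
    apply Subtype.ext
    rfl
  · intro a b h
    refine ⟨1, ?_⟩
    rw [one_smul, one_smul]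
    apply Subtype.ext
    have h1 : ((inclIC O a : integralClosure O K) : K) = ((inclIC O b : integralClosure O K) : K) :=
      congrArg Subtype.val h
    exact h1

end LemmaM

end Groth.Agent.H4.Cok

namespace Groth.Agent.H4.Cok

section Theta
variable {B B'' : Type u} [CommRing B] [IsDomain B] [CommRing B''] (φ : B →+* B'')
  (e : B'' ≃+* integralClosure B (FractionRing B))
  (he : ∀ b, e (φ b) = algebraMap B (integralClosure B (FractionRing B)) b)
  (K : Type*) [Field K] [Algebra B K] [IsFractionRing B K]

/-- transport of the normalization to the integral closure in another fraction field -/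
noncomputable def thetaEquiv : B'' ≃+* integralClosure B K :=
  e.trans (AlgEquiv.mapIntegralClosure (FractionRing.algEquiv B K)).toRingEquiv

include he in
lemma thetaEquiv_apply (b : B) :
    thetaEquiv e K (φ b) = algebraMap B (integralClosure B K) b := by
  change (AlgEquiv.mapIntegralClosure (FractionRing.algEquiv B K)) (e (φ b)) = _
  rw [he]
  exact (AlgEquiv.mapIntegralClosure (FractionRing.algEquiv B K)).commutes b

end Theta

end Groth.Agent.H4.Cok

namespace Groth.Agent.H4.Cok

section FracLoc
variable {B : Type*} [CommRing B] [IsDomain B] (p : Ideal B) [p.IsPrime] (O : Type*) [CommRing O]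
  [Algebra B O] [IsLocalization.AtPrime O p] (K : Type*) [Field K] [Algebra O K] [Algebra B K]
  [IsScalarTower B O K] [IsFractionRing O K]

include p O in
theorem isFractionRing_of_atPrime : IsFractionRing B K := by
  have hinj1 : Function.Injective (algebraMap B O) :=
    IsLocalization.injective O p.primeCompl_le_nonZeroDivisors
  have hinj2 : Function.Injective (algebraMap O K) := IsFractionRing.injective O K
  haveI : FaithfulSMul B K := by
    rw [faithfulSMul_iff_algebraMap_injective, IsScalarTower.algebraMap_eq B O K]
    exact hinj2.comp hinj1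
  apply IsFractionRing.of_field
  intro z
  obtain ⟨o1, o2, ho2, rfl⟩ := IsFractionRing.div_surjective (A := O) z
  obtain ⟨⟨b1, s1⟩, h1⟩ := IsLocalization.surj p.primeCompl o1
  obtain ⟨⟨b2, s2⟩, h2⟩ := IsLocalization.surj p.primeCompl o2
  refine ⟨b1 * s2, b2 * s1, ?_⟩
  have hs1 : algebraMap B K s1 ≠ 0 := by
    rw [Ne, map_eq_zero_iff _ (FaithfulSMul.algebraMap_injective B K)]
    intro h
    exact s1.2 (by rw [h]; exact zero_mem _)
  have hs2 : algebraMap B K s2 ≠ 0 := by
    rw [Ne, map_eq_zero_iff _ (FaithfulSMul.algebraMap_injective B K)]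
    intro h
    exact s2.2 (by rw [h]; exact zero_mem _)
  have ho2' : algebraMap O K o2 ≠ 0 := by
    rw [Ne, map_eq_zero_iff _ hinj2]
    haveI : Nontrivial O := hinj1.nontrivial
    exact nonZeroDivisors.ne_zero ho2
  have e1 : algebraMap O K o1 * algebraMap B K s1 = algebraMap B K b1 := by
    rw [IsScalarTower.algebraMap_apply B O K, IsScalarTower.algebraMap_apply B O K, ← map_mul, h1]
  have e2 : algebraMap O K o2 * algebraMap B K s2 = algebraMap B K b2 := by
    rw [IsScalarTower.algebraMap_apply B O K, IsScalarTower.algebraMap_apply B O K, ← map_mul, h2]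
  rw [map_mul, map_mul, ← e1, ← e2]
  field_simp

end FracLoc

end Groth.Agent.H4.Cok
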