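import Mathlib
import Groth.Prelude.Def_Curv2
import Groth.Agent.Lib.Helper8.KrullAkizuki
set_option autoImplicit false
universe u
open CategoryTheory CategoryTheory.Limits AlgebraicGeometry TopologicalSpace Opposite

/-! Normalization of an integral scheme (`Curv2.normalization`): local description by integral
closures, and the one-dimensional locally Noetherian case (Krull–Akizuki). -/

namespace Groth.Agent.H4.NormInt

section Local
variable (X : Scheme.{u}) [IsIntegral X]

lemma genericPoint_mem (U : X.Opens) (hne : (U : Set X).Nonempty) : genericPoint X ∈ U :=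
  ((genericPoint_spec X).mem_open_set_iff U.isOpen).mpr (by simpa using hne)

lemma preimage_eq_top (U : X.Opens) (hne : (U : Set X).Nonempty) :
    (X.fromSpecStalk (genericPoint X)) ⁻¹ᵁ U = ⊤ :=
  Scheme.preimage_eq_top_of_closedPoint_mem _
    (by rw [Scheme.fromSpecStalk_closedPoint]; exact genericPoint_mem X U hne)

/-- the sections of `Spec K(X)` over the preimage of a nonempty affine open form a fraction ring -/
lemma isFractionRing_app (U : X.Opens) (hU : IsAffineOpen U) (hne : (U : Set X).Nonempty) :
    letI := ((X.fromSpecStalk (genericPoint X)).app U).hom.toAlgebra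
    IsFractionRing Γ(X, U) Γ(Spec (X.presheaf.stalk (genericPoint X)), (X.fromSpecStalk (genericPoint X)) ⁻¹ᵁ U) := by
  letI := ((X.fromSpecStalk (genericPoint X)).app U).hom.toAlgebra
  haveI : Nonempty U := ⟨⟨_, hne.some_mem⟩⟩
  have hξ := genericPoint_mem X U hne
  have h1 := functionField_isFractionRing_of_isAffineOpen X U hU
  have htop := preimage_eq_top X U hne
  -- the iso K ≅ Γ(Spec K, f⁻¹U)
  let i1 : X.presheaf.stalk (genericPoint X) ≅ Γ(Spec (X.presheaf.stalk (genericPoint X)), (X.fromSpecStalk (genericPoint X)) ⁻¹ᵁ U) :=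
    (Scheme.ΓSpecIso (X.presheaf.stalk (genericPoint X))).symm ≪≫
      (Spec (X.presheaf.stalk (genericPoint X))).presheaf.mapIso (eqToIso htop).op
  have hcomp : (X.fromSpecStalk (genericPoint X)).app U = X.presheaf.germ U (genericPoint X) hξ ≫ i1.hom := by
    rw [Scheme.fromSpecStalk_app hξ]
    rfl
  let e : X.functionField ≃ₐ[Γ(X, U)] Γ(Spec (X.presheaf.stalk (genericPoint X)), (X.fromSpecStalk (genericPoint X)) ⁻¹ᵁ U) :=
    { i1.commRingCatIsoToRingEquiv with
      commutes' := fun a => by
        change i1.hom.hom ((X.presheaf.germ U (genericPoint X) hξ).hom a) =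
          ((X.fromSpecStalk (genericPoint X)).app U).hom a
        rw [hcomp]
        rfl }
  exact IsLocalization.isLocalization_of_algEquiv _ e


variable [QuasiCompact (X.fromSpecStalk (genericPoint X))] [QuasiSeparated (X.fromSpecStalk (genericPoint X))]

theorem exists_sectionsEquiv (U : X.Opens) (hU : IsAffineOpen U) (hne : (U : Set X).Nonempty) :
    ∃ e : Γ(Curv2.normalization X, Curv2.normalizationι X ⁻¹ᵁ U) ≃+*
        integralClosure Γ(X, U) (FractionRing Γ(X, U)),
      ∀ a : Γ(X, U), e (((Curv2.normalizationι X).app U).hom a) = algebraMap _ _ a := by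
  letI := ((X.fromSpecStalk (genericPoint X)).app U).hom.toAlgebra
  haveI := isFractionRing_app X U hU hne
  let i0 := (X.fromSpecStalk (genericPoint X)).normalizationObjIso hU
  have h0 := (X.fromSpecStalk (genericPoint X)).fromNormalization_app hU
  let σ : Γ(Spec (X.presheaf.stalk (genericPoint X)), (X.fromSpecStalk (genericPoint X)) ⁻¹ᵁ U) ≃ₐ[Γ(X, U)]
      FractionRing Γ(X, U) := (FractionRing.algEquiv Γ(X, U) _).symm
  refine ⟨i0.commRingCatIsoToRingEquiv.trans σ.mapIntegralClosure.toRingEquiv, fun a => ?_⟩
  change σ.mapIntegralClosure (i0.hom.hom (((X.fromSpecStalk (genericPoint X)).fromNormalization.app U).hom a)) = _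
  rw [h0]
  have : i0.hom.hom ((CommRingCat.ofHom (algebraMap Γ(X, U) _) ≫ i0.inv).hom a) = algebraMap Γ(X, U) _ a := by
    change (i0.inv ≫ i0.hom).hom _ = _
    rw [Iso.inv_hom_id]; rfl
  rw [this]
  exact σ.mapIntegralClosure.commutes a


end Local

section Algebra
variable (A : Type u) [CommRing A] [IsDomain A] [IsNoetherianRing A] [Ring.KrullDimLE 1 A]
variable (K : Type u) [Field K] [Algebra A K] [IsFractionRing A K]

lemma isNoetherianRing_integralClosure : IsNoetherianRing (integralClosure A K) :=
  Groth.Agent.H8.KA.isNoetherianRing_overring (integralClosure A K)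

lemma dimensionLEOne : Ring.DimensionLEOne A :=
  ⟨fun {p} hp hp' => (Ring.krullDimLE_one_iff_of_noZeroDivisors.mp inferInstance) p hp hp'⟩

theorem isDedekindDomain_integralClosure : IsDedekindDomain (integralClosure A K) := by
  haveI := dimensionLEOne A
  haveI := isNoetherianRing_integralClosure A K
  haveI : IsIntegrallyClosed (integralClosure A K) :=
    integralClosure.isIntegrallyClosedOfFiniteExtension K
  haveI : Ring.DimensionLEOne (integralClosure A K) := inferInstance
  exact { }

/-- finite fibres -/
theorem finite_fibre (p : PrimeSpectrum A) :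
    Finite {P : PrimeSpectrum (integralClosure A K) //
      P.comap (algebraMap A (integralClosure A K)) = p} := by
  haveI := isDedekindDomain_integralClosure A K
  by_cases hp : p.asIdeal = ⊥
  · have : Subsingleton {P : PrimeSpectrum (integralClosure A K) //
        P.comap (algebraMap A (integralClosure A K)) = p} := by
      refine ⟨fun P Q => Subtype.ext (PrimeSpectrum.ext ?_)⟩
      have h1 : P.1.asIdeal = ⊥ := by
        apply Ideal.eq_bot_of_comap_eq_bot (R := A)
        have := congrArg PrimeSpectrum.asIdeal P.2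
        rw [hp] at this
        exact this
      have h2 : Q.1.asIdeal = ⊥ := by
        apply Ideal.eq_bot_of_comap_eq_bot (R := A)
        have := congrArg PrimeSpectrum.asIdeal Q.2
        rw [hp] at this
        exact this
      rw [h1, h2]
    infer_instance
  · obtain ⟨a, hap, ha0⟩ := Submodule.exists_mem_ne_zero_of_ne_bot hp
    let I : Ideal (integralClosure A K) := Ideal.span {algebraMap A (integralClosure A K) a}
    have hI0 : algebraMap A (integralClosure A K) a ≠ 0 := by
      intro h
      apply ha0
      have : Function.Injective (algebraMap A (integralClosure A K)) :=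
        FaithfulSMul.algebraMap_injective A (integralClosure A K)
      exact this (by rw [h, map_zero])
    have hfin := Ideal.finite_minimalPrimes_of_isNoetherianRing (integralClosure A K) I
    let g : {P : PrimeSpectrum (integralClosure A K) //
        P.comap (algebraMap A (integralClosure A K)) = p} → I.minimalPrimes := fun P =>
      ⟨P.1.asIdeal, by
        have haP : algebraMap A (integralClosure A K) a ∈ P.1.asIdeal := by
          have := congrArg PrimeSpectrum.asIdeal P.2
          change Ideal.comap _ P.1.asIdeal = p.asIdeal at this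
          have h2 : a ∈ Ideal.comap (algebraMap A (integralClosure A K)) P.1.asIdeal := by
            rw [this]; exact hap
          exact h2
        refine ⟨⟨P.1.isPrime, (Ideal.span_singleton_le_iff_mem _).mpr haP⟩, ?_⟩
        rintro Q ⟨hQ, hIQ⟩ hQP
        have hQ0 : Q ≠ ⊥ := by
          intro h
          rw [h] at hIQ
          exact hI0 (by simpa [I] using hIQ)
        have hQmax := Ring.DimensionLEOne.maximalOfPrime hQ0 hQ
        exact (hQmax.eq_of_le P.1.isPrime.ne_top hQP).ge⟩
    haveI : Finite I.minimalPrimes := hfin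
    apply Finite.of_injective g
    intro P Q hPQ
    apply Subtype.ext
    apply PrimeSpectrum.ext
    exact congrArg Subtype.val hPQ

/-- quotient by a nonzero element of the base is finite over the base -/
theorem finite_quotient (a : A) (ha : a ≠ 0) :
    Module.Finite A (integralClosure A K ⧸ Ideal.span {algebraMap A (integralClosure A K) a}) := by
  have h1 := Groth.Agent.H8.KA.length_quot_le (integralClosure A K) ha
  have h2 : Ring.ord A a ≠ ⊤ := Ring.ord_ne_top (mem_nonZeroDivisors_of_ne_zero ha)
  have h3 : Module.length A (integralClosure A K ⧸ Ideal.span {algebraMap A (integralClosure A K) a}) ≠ ⊤ :=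
    ne_top_of_le_ne_top h2 h1
  rw [Module.length_ne_top_iff] at h3
  haveI := (isFiniteLength_iff_isNoetherian_isArtinian.mp h3).1
  infer_instance
end Algebra


section NormOf
variable {A B : Type u} [CommRing A] [CommRing B]

/-- `φ : A → B` identifies `B` with the integral closure of `A` in its total fraction ring -/
def IsNormOf (φ : A →+* B) : Prop :=
  ∃ e : B ≃+* integralClosure A (FractionRing A), ∀ a, e (φ a) = algebraMap A _ a

variable {φ : A →+* B}

lemma IsNormOf.symm_apply (h : IsNormOf φ) : ∃ e : B ≃+* integralClosure A (FractionRing A),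
    (∀ a, e (φ a) = algebraMap A _ a) ∧ ∀ a, e.symm (algebraMap A _ a) = φ a := by
  obtain ⟨e, he⟩ := h
  exact ⟨e, he, fun a => by rw [← he, e.symm_apply_apply]⟩

lemma IsNormOf.isIntegral (h : IsNormOf φ) : φ.IsIntegral := by
  obtain ⟨e, he, he'⟩ := h.symm_apply
  intro b
  have h1 : IsIntegral A (e b) := integralClosure.isIntegral (e b)
  obtain ⟨p, hp, hp0⟩ := h1
  refine ⟨p, hp, ?_⟩
  have h3 := congrArg (e.symm.toRingHom) hp0
  rw [Polynomial.hom_eval₂, map_zero] at h3
  have h2 : (e.symm.toRingHom.comp (algebraMap A (integralClosure A (FractionRing A)))) = φ :=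
    RingHom.ext he'
  rw [h2] at h3
  simpa using h3

lemma IsNormOf.injective [IsDomain A] (h : IsNormOf φ) : Function.Injective φ := by
  obtain ⟨e, he⟩ := h
  intro a b hab
  have := congrArg e hab
  rw [he, he] at this
  exact FaithfulSMul.algebraMap_injective A (integralClosure A (FractionRing A)) this

/-- every element of `B` is a fraction of elements of `A` -/
lemma IsNormOf.exists_mul_eq [IsDomain A] (h : IsNormOf φ) (b : B) :
    ∃ c d : A, d ≠ 0 ∧ φ d * b = φ c := by
  obtain ⟨e, he, he'⟩ := h.symm_apply
  obtain ⟨c, d, hd, hcd⟩ := IsFractionRing.div_surjective (A := A) ((e b : integralClosure A (FractionRing A)) : FractionRing A)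
  have hd0 : d ≠ 0 := nonZeroDivisors.ne_zero hd
  refine ⟨c, d, hd0, ?_⟩
  apply e.injective
  rw [map_mul, he, he]
  apply Subtype.ext
  have hdK : algebraMap A (FractionRing A) d ≠ 0 := by
    simpa using hd0
  change algebraMap A (FractionRing A) d * (e b : FractionRing A) = algebraMap A (FractionRing A) c
  rw [← hcd]
  field_simp

variable [IsDomain A] [IsNoetherianRing A] [Ring.KrullDimLE 1 A]

lemma IsNormOf.isDedekindDomain (h : IsNormOf φ) : IsDedekindDomain B := by
  obtain ⟨e, he⟩ := h
  haveI := isDedekindDomain_integralClosure A (FractionRing A)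
  haveI : IsDomain B := e.toMulEquiv.isDomain (integralClosure A (FractionRing A))
  haveI : IsNoetherianRing B := isNoetherianRing_of_ringEquiv _ e.symm
  haveI : Ring.DimensionLEOne B := Ring.DimensionLEOne.of_ringEquiv e
  haveI : IsIntegrallyClosed B := IsIntegrallyClosed.of_equiv e.symm
  exact { }

lemma IsNormOf.finite_fibre (h : IsNormOf φ) (p : PrimeSpectrum A) :
    Finite {P : PrimeSpectrum B // P.comap φ = p} := by
  obtain ⟨e, he, he'⟩ := h.symm_apply
  haveI := NormInt.finite_fibre A (FractionRing A) p
  let g : {P : PrimeSpectrum B // P.comap φ = p} → {P : PrimeSpectrum (integralClosure A (FractionRing A)) //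
      P.comap (algebraMap A (integralClosure A (FractionRing A))) = p} := fun P =>
    ⟨P.1.comap e.symm.toRingHom, by
      have hP := P.2
      apply PrimeSpectrum.ext
      ext a
      have h1 : a ∈ p.asIdeal ↔ φ a ∈ P.1.asIdeal := by
        have := congrArg (fun q : PrimeSpectrum A => a ∈ q.asIdeal) hP
        exact (iff_of_eq this).symm
      rw [h1]
      change e.symm (algebraMap A _ a) ∈ P.1.asIdeal ↔ φ a ∈ P.1.asIdeal
      rw [he']⟩
  apply Finite.of_injective g
  intro P Q hPQ
  apply Subtype.ext
  have h1 : (g P).1 = (g Q).1 := congrArg Subtype.val hPQ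
  have h2 := congrArg (PrimeSpectrum.comap e.toRingHom) h1
  have h3 : ∀ P : PrimeSpectrum B, PrimeSpectrum.comap e.toRingHom (P.comap e.symm.toRingHom) = P := by
    intro P
    apply PrimeSpectrum.ext
    ext b
    change e.symm (e b) ∈ P.asIdeal ↔ _
    rw [e.symm_apply_apply]
  change PrimeSpectrum.comap e.toRingHom (P.1.comap e.symm.toRingHom) =
    PrimeSpectrum.comap e.toRingHom (Q.1.comap e.symm.toRingHom) at h2
  rw [h3, h3] at h2
  exact h2

lemma IsNormOf.finite_quotient (h : IsNormOf φ) (a : A) (ha : a ≠ 0) :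
    letI := φ.toAlgebra
    Module.Finite A (B ⧸ Ideal.span {φ a}) := by
  letI := φ.toAlgebra
  obtain ⟨e, he, he'⟩ := h.symm_apply
  haveI := NormInt.finite_quotient A (FractionRing A) a ha
  let ψ : integralClosure A (FractionRing A) →ₐ[A] B :=
    { e.symm.toRingHom with commutes' := he' }
  have hIJ : Ideal.span {algebraMap A (integralClosure A (FractionRing A)) a} ≤
      (Ideal.span {φ a}).comap ψ := by
    rw [Ideal.span_le, Set.singleton_subset_iff]
    change ψ (algebraMap A (integralClosure A (FractionRing A)) a) ∈ Ideal.span {φ a}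
    rw [ψ.commutes]
    exact Ideal.subset_span rfl
  refine Module.Finite.of_surjective (Ideal.quotientMapₐ _ ψ hIJ).toLinearMap ?_
  exact Ideal.quotientMap_surjective (f := ψ.toRingHom) (H := hIJ) e.symm.surjective
end NormOf


lemma exists_evaluation_frac {Y : Scheme.{u}} {W : Y.Opens} (hW : IsAffineOpen W) (y : Y) (hy : y ∈ W)
    (z : Y.residueField y) :
    ∃ a b : Γ(Y, W), (Y.evaluation W y hy).hom b ≠ 0 ∧
      z * (Y.evaluation W y hy).hom b = (Y.evaluation W y hy).hom a := by
  obtain ⟨s, rfl⟩ := Y.residue_surjective y z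
  letI := TopCat.Presheaf.algebra_section_stalk Y.presheaf (U := W) ⟨y, hy⟩
  haveI := hW.isLocalization_stalk ⟨y, hy⟩
  obtain ⟨⟨a, b⟩, hab⟩ := IsLocalization.surj (hW.primeIdealOf ⟨y, hy⟩).asIdeal.primeCompl s
  have hunit : IsUnit (algebraMap Γ(Y, W) (Y.presheaf.stalk y) b) :=
    IsLocalization.map_units _ b
  refine ⟨a, b, ?_, ?_⟩
  · have h2 := hunit.map (Y.residue y).hom
    exact h2.ne_zero
  · have := congrArg (Y.residue y).hom hab
    rw [map_mul] at this
    exact this

lemma finite_of_fractions {k L : Type*} [Field k] [Field L] [Algebra k L] (E : Set L) (T : Set L)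
    (hT : T.Finite) (hint : ∀ t ∈ T, IsIntegral k t) (hE : E ⊆ IntermediateField.adjoin k T)
    (hfrac : ∀ z : L, ∃ a ∈ E, ∃ b ∈ E, b ≠ 0 ∧ z * b = a) : Module.Finite k L := by
  haveI : FiniteDimensional k (IntermediateField.adjoin k T) := by
    haveI := hT.to_subtype
    exact IntermediateField.finiteDimensional_adjoin (fun t ht => hint t ht)
  have htop : IntermediateField.adjoin k T = ⊤ := by
    rw [eq_top_iff]
    intro z _
    obtain ⟨a, ha, b, hb, hb0, hab⟩ := hfrac z
    have : z = a / b := by field_simp; exact hab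
    rw [this]
    exact div_mem (hE ha) (hE hb)
  rw [htop] at this
  exact Module.Finite.equiv (IntermediateField.topEquiv (F := k) (E := L)).toLinearEquiv


section Sch
variable (X : Scheme.{u}) [IsIntegral X]
  [QuasiCompact (X.fromSpecStalk (genericPoint X))] [QuasiSeparated (X.fromSpecStalk (genericPoint X))]

instance : IsIntegralHom (Curv2.normalizationι X) :=
  inferInstanceAs (IsIntegralHom (X.fromSpecStalk (genericPoint X)).fromNormalization)

instance : IsIntegral (Curv2.normalization X) :=
  inferInstanceAs (IsIntegral (X.fromSpecStalk (genericPoint X)).normalization)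

theorem isNormOf_app (U : X.Opens) (hU : IsAffineOpen U) (hne : (U : Set X).Nonempty) :
    IsNormOf ((Curv2.normalizationι X).app U).hom := exists_sectionsEquiv X U hU hne

lemma isAffineOpen_preimage {U : X.Opens} (hU : IsAffineOpen U) :
    IsAffineOpen (Curv2.normalizationι X ⁻¹ᵁ U) := hU.preimage _

variable {X}

lemma krullDimLE_one (hdim : topologicalKrullDim X ≤ 1) (U : X.Opens) (hU : IsAffineOpen U) :
    Ring.KrullDimLE 1 Γ(X, U) := by
  rw [Ring.krullDimLE_iff, ← PrimeSpectrum.topologicalKrullDim_eq_ringKrullDim Γ(X, U)]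
  change topologicalKrullDim (Spec Γ(X, U)) ≤ 1
  rw [← IsHomeomorph.topologicalKrullDim_eq _ hU.isoSpec.hom.homeomorph.isHomeomorph]
  exact (topologicalKrullDim_subspace_le X U).trans hdim

variable [IsLocallyNoetherian X]

lemma isDedekindDomain_preimage (hdim : topologicalKrullDim X ≤ 1) (U : X.Opens) (hU : IsAffineOpen U)
    (hne : (U : Set X).Nonempty) :
    IsDedekindDomain Γ(Curv2.normalization X, Curv2.normalizationι X ⁻¹ᵁ U) := by
  haveI : Nonempty U := ⟨⟨_, hne.some_mem⟩⟩
  haveI := krullDimLE_one hdim U hU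
  haveI : IsNoetherianRing Γ(X, U) := IsLocallyNoetherian.component_noetherian ⟨U, hU⟩
  exact (isNormOf_app X U hU hne).isDedekindDomain

lemma exists_affine_nhd (x : X) : ∃ U : X.Opens, IsAffineOpen U ∧ x ∈ U := by
  obtain ⟨_, ⟨V, hV, rfl⟩, hxV, -⟩ :=
    X.isBasis_affineOpens.exists_subset_of_mem_open (Set.mem_univ x) isOpen_univ
  exact ⟨V, hV, hxV⟩

lemma isLocallyNoetherian_normalization (hdim : topologicalKrullDim X ≤ 1) :
    IsLocallyNoetherian (Curv2.normalization X) := by
  refine isLocallyNoetherian_of_affine_cover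
    (S := fun U : {U : X.affineOpens // (U.1 : Set X).Nonempty} =>
      ⟨Curv2.normalizationι X ⁻¹ᵁ U.1.1, isAffineOpen_preimage X U.1.2⟩) ?_ ?_
  · rw [eq_top_iff]
    intro x' _
    obtain ⟨U, hU, hxU⟩ := exists_affine_nhd ((Curv2.normalizationι X).base x')
    rw [Opens.mem_iSup]
    exact ⟨⟨⟨U, hU⟩, ⟨_, hxU⟩⟩, hxU⟩
  · intro U
    haveI := isDedekindDomain_preimage hdim U.1.1 U.1.2 U.2
    change IsNoetherianRing Γ(Curv2.normalization X, Curv2.normalizationι X ⁻¹ᵁ U.1.1)
    infer_instance

lemma isDedekindDomain_of_ringEquiv {B A' : Type*} [CommRing B] [CommRing A'] (e : B ≃+* A')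
    [IsDedekindDomain A'] : IsDedekindDomain B := by
  haveI : IsDomain B := e.toMulEquiv.isDomain A'
  haveI : IsNoetherianRing B := isNoetherianRing_of_ringEquiv _ e.symm
  haveI : Ring.DimensionLEOne B := Ring.DimensionLEOne.of_ringEquiv e
  haveI : IsIntegrallyClosed B := IsIntegrallyClosed.of_equiv e.symm
  exact { }

lemma isDedekindDomain_stalk (hdim : topologicalKrullDim X ≤ 1) (y : Curv2.normalization X) :
    IsDedekindDomain ((Curv2.normalization X).presheaf.stalk y) := by
  obtain ⟨U, hU, hyU⟩ := exists_affine_nhd ((Curv2.normalizationι X).base y)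
  have hW := isAffineOpen_preimage X hU
  haveI := isDedekindDomain_preimage hdim U hU ⟨_, hyU⟩
  letI := TopCat.Presheaf.algebra_section_stalk (Curv2.normalization X).presheaf
    (U := Curv2.normalizationι X ⁻¹ᵁ U) ⟨y, hyU⟩
  haveI := hW.isLocalization_stalk ⟨y, hyU⟩
  exact IsLocalization.AtPrime.isDedekindDomain Γ(Curv2.normalization X, Curv2.normalizationι X ⁻¹ᵁ U)
    (hW.primeIdealOf ⟨y, hyU⟩).asIdeal _

lemma isDedekindDomain_of_isAffineOpen (hdim : topologicalKrullDim X ≤ 1)
    (V : (Curv2.normalization X).Opens) (hV : IsAffineOpen V)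
    (hne : (V : Set (Curv2.normalization X)).Nonempty) :
    IsDedekindDomain Γ(Curv2.normalization X, V) := by
  haveI := isLocallyNoetherian_normalization hdim
  haveI : Nonempty V := ⟨⟨_, hne.some_mem⟩⟩
  haveI : IsNoetherianRing Γ(Curv2.normalization X, V) :=
    IsLocallyNoetherian.component_noetherian ⟨V, hV⟩
  suffices IsDedekindDomainDvr Γ(Curv2.normalization X, V) from inferInstance
  refine ⟨fun P hP0 hPprime => ?_⟩
  have hnf := IsLocalization.AtPrime.not_isField Γ(Curv2.normalization X, V) hP0 (Localization.AtPrime P)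
  refine ((IsDiscreteValuationRing.TFAE _ hnf).out 0 2).mpr ?_
  have hy : hV.fromSpec ⟨P, hPprime⟩ ∈ V := by
    have := Set.mem_range_self (f := hV.fromSpec.base) ⟨P, hPprime⟩
    rw [hV.range_fromSpec] at this
    exact this
  letI := TopCat.Presheaf.algebra_section_stalk (Curv2.normalization X).presheaf ⟨hV.fromSpec ⟨P, hPprime⟩, hy⟩
  haveI : IsLocalization.AtPrime
      ((Curv2.normalization X).presheaf.stalk (hV.fromSpec ⟨P, hPprime⟩)) P :=
    hV.isLocalization_stalk' ⟨P, hPprime⟩ hy
  haveI := isDedekindDomain_stalk hdim (hV.fromSpec ⟨P, hPprime⟩)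
  exact isDedekindDomain_of_ringEquiv
    (IsLocalization.algEquiv P.primeCompl (Localization.AtPrime P)
      ((Curv2.normalization X).presheaf.stalk (hV.fromSpec ⟨P, hPprime⟩))).toRingEquiv

lemma finite_fibre_sch (hdim : topologicalKrullDim X ≤ 1) (x : X) :
    Finite {x' : Curv2.normalization X // (Curv2.normalizationι X).base x' = x} := by
  obtain ⟨U, hU, hxU⟩ := exists_affine_nhd x
  have hW := isAffineOpen_preimage X hU
  haveI : Nonempty U := ⟨⟨x, hxU⟩⟩
  haveI := krullDimLE_one hdim U hU
  haveI : IsNoetherianRing Γ(X, U) := IsLocallyNoetherian.component_noetherian ⟨U, hU⟩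
  have hN := isNormOf_app X U hU ⟨x, hxU⟩
  haveI := hN.finite_fibre (hU.primeIdealOf ⟨x, hxU⟩)
  have hmem : ∀ x' : {x' : Curv2.normalization X // (Curv2.normalizationι X).base x' = x},
      x'.1 ∈ Curv2.normalizationι X ⁻¹ᵁ U := fun x' => by
    change (Curv2.normalizationι X).base x'.1 ∈ U
    rw [x'.2]; exact hxU
  let g : {x' : Curv2.normalization X // (Curv2.normalizationι X).base x' = x} →
      {P : PrimeSpectrum Γ(Curv2.normalization X, Curv2.normalizationι X ⁻¹ᵁ U) //
        P.comap ((Curv2.normalizationι X).app U).hom = hU.primeIdealOf ⟨x, hxU⟩} := fun x' =>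
    ⟨hW.primeIdealOf ⟨x'.1, hmem x'⟩, by
      have h1 := IsAffineOpen.comap_primeIdealOf_appLE (f := Curv2.normalizationι X) (x := x'.1)
        U hU _ hW le_rfl (hmem x')
      rw [← Scheme.Hom.app_eq_appLE] at h1
      rw [h1]
      congr 1
      exact Subtype.ext x'.2⟩
  apply Finite.of_injective g
  intro x' y' hxy
  apply Subtype.ext
  have h1 : hW.primeIdealOf ⟨x'.1, hmem x'⟩ = hW.primeIdealOf ⟨y'.1, hmem y'⟩ :=
    congrArg Subtype.val hxy
  have h2 := congrArg (fun P => hW.fromSpec.base P) h1
  simp only [hW.fromSpec_primeIdealOf] at h2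
  exact h2

lemma finite_residueField (hdim : topologicalKrullDim X ≤ 1) (x' : Curv2.normalization X) :
    letI := ((Curv2.normalizationι X).residueFieldMap x').hom.toAlgebra
    Module.Finite (X.residueField ((Curv2.normalizationι X).base x'))
      ((Curv2.normalization X).residueField x') := by
  letI := ((Curv2.normalizationι X).residueFieldMap x').hom.toAlgebra
  obtain ⟨U, hU, hxU⟩ := exists_affine_nhd ((Curv2.normalizationι X).base x')
  have hW := isAffineOpen_preimage X hU
  have hx'W : x' ∈ Curv2.normalizationι X ⁻¹ᵁ U := hxU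
  haveI : Nonempty U := ⟨⟨_, hxU⟩⟩
  haveI := krullDimLE_one hdim U hU
  haveI : IsNoetherianRing Γ(X, U) := IsLocallyNoetherian.component_noetherian ⟨U, hU⟩
  have hN := isNormOf_app X U hU ⟨_, hxU⟩
  obtain ⟨evU, hevU⟩ : ∃ evU : Γ(X, U) →+* X.residueField ((Curv2.normalizationι X).base x'),
      evU = (X.evaluation U _ hxU).hom := ⟨_, rfl⟩
  obtain ⟨evW, hevW⟩ : ∃ evW : Γ(Curv2.normalization X, Curv2.normalizationι X ⁻¹ᵁ U) →+*
      (Curv2.normalization X).residueField x',
      evW = ((Curv2.normalization X).evaluation _ x' hx'W).hom := ⟨_, rfl⟩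
  obtain ⟨φ, hφ⟩ : ∃ φ : Γ(X, U) →+* Γ(Curv2.normalization X, Curv2.normalizationι X ⁻¹ᵁ U),
      φ = ((Curv2.normalizationι X).app U).hom := ⟨_, rfl⟩
  rw [← hφ] at hN
  have hnat : ∀ a, algebraMap (X.residueField ((Curv2.normalizationι X).base x'))
      ((Curv2.normalization X).residueField x') (evU a) = evW (φ a) := fun a => by
    rw [hevU, hevW, hφ]
    exact Scheme.evaluation_naturality_apply (Curv2.normalizationι X) x' hxU a
  have hfrac : ∀ z : (Curv2.normalization X).residueField x', ∃ a ∈ Set.range evW, ∃ b ∈ Set.range evW,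
      b ≠ 0 ∧ z * b = a := fun z => by
    obtain ⟨a, b, hb, hab⟩ := exists_evaluation_frac hW x' hx'W z
    rw [← hevW] at hb hab
    exact ⟨_, ⟨a, rfl⟩, _, ⟨b, rfl⟩, hb, hab⟩
  by_cases hker : ∀ a, evU a = 0 → a = 0
  · refine finite_of_fractions (Set.range evW) ∅ Set.finite_empty (by simp) ?_ hfrac
    rintro _ ⟨b, rfl⟩
    obtain ⟨c, d, hd, hcd⟩ := hN.exists_mul_eq b
    have hd' : evU d ≠ 0 := fun h => hd (hker d h)
    have h1 := congrArg evW hcd
    rw [map_mul, ← hnat, ← hnat] at h1
    have hd'' : algebraMap (X.residueField ((Curv2.normalizationι X).base x'))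
      ((Curv2.normalization X).residueField x') (evU d) ≠ 0 := by
      rw [Ne, map_eq_zero]; exact hd'
    have h2 : evW b = algebraMap (X.residueField ((Curv2.normalizationι X).base x'))
      ((Curv2.normalization X).residueField x') (evU c / evU d) := by
      rw [map_div₀, eq_div_iff hd'', mul_comm]; exact h1
    rw [h2]
    exact IntermediateField.algebraMap_mem _ _
  · push Not at hker
    obtain ⟨a0, ha0, ha00⟩ := hker
    letI : Algebra Γ(X, U) Γ(Curv2.normalization X, Curv2.normalizationι X ⁻¹ᵁ U) := φ.toAlgebra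
    haveI := hN.finite_quotient a0 ha00
    letI : Algebra Γ(X, U) (X.residueField ((Curv2.normalizationι X).base x')) := evU.toAlgebra
    letI : Algebra Γ(X, U) ((Curv2.normalization X).residueField x') :=
      ((algebraMap (X.residueField ((Curv2.normalizationι X).base x'))
        ((Curv2.normalization X).residueField x')).comp evU).toAlgebra
    haveI : IsScalarTower Γ(X, U) (X.residueField ((Curv2.normalizationι X).base x'))
      ((Curv2.normalization X).residueField x') := IsScalarTower.of_algebraMap_eq (fun _ => rfl)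
    let evWa : Γ(Curv2.normalization X, Curv2.normalizationι X ⁻¹ᵁ U) →ₐ[Γ(X, U)]
        (Curv2.normalization X).residueField x' :=
      { evW with commutes' := fun a => (hnat a).symm }
    have hle : ∀ b ∈ Ideal.span {φ a0}, evWa b = 0 := by
      intro b hb
      rw [Ideal.mem_span_singleton'] at hb
      obtain ⟨c, rfl⟩ := hb
      change evW (c * φ a0) = 0
      rw [map_mul, ← hnat, ha0, map_zero, mul_zero]
    let q : (Γ(Curv2.normalization X, Curv2.normalizationι X ⁻¹ᵁ U) ⧸ Ideal.span {φ a0}) →ₐ[Γ(X, U)]
        (Curv2.normalization X).residueField x' := Ideal.Quotient.liftₐ _ evWa hle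
    have hfg : (LinearMap.range q.toLinearMap).FG := by
      rw [LinearMap.range_eq_map]
      exact Submodule.FG.map _ Module.Finite.fg_top
    obtain ⟨T, hT⟩ := hfg
    have hrange : ∀ b, evW b ∈ Submodule.span Γ(X, U) (T : Set ((Curv2.normalization X).residueField x')) := by
      intro b
      rw [hT]
      exact ⟨Ideal.Quotient.mk _ b, rfl⟩
    refine finite_of_fractions (Set.range evW) (T : Set _) T.finite_toSet ?_ ?_ hfrac
    · intro t ht
      have ht' : t ∈ LinearMap.range q.toLinearMap := by
        rw [← hT]; exact Submodule.subset_span ht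
      obtain ⟨y, rfl⟩ := ht'
      obtain ⟨b, rfl⟩ := Ideal.Quotient.mk_surjective y
      have hb : IsIntegral Γ(X, U) b := hN.isIntegral b
      have h2 : IsIntegral Γ(X, U) (evWa b) := hb.map evWa
      exact h2.tower_top
    · rintro _ ⟨b, rfl⟩
      refine Submodule.span_induction (p := fun y _ => y ∈ IntermediateField.adjoin
        (X.residueField ((Curv2.normalizationι X).base x')) (T : Set ((Curv2.normalization X).residueField x')))
        ?_ ?_ ?_ ?_ (hrange b)
      · intro y hy
        exact IntermediateField.subset_adjoin _ _ hy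
      · exact zero_mem _
      · intro y z _ _ hy hz
        exact add_mem hy hz
      · intro a y _ hy
        rw [Algebra.smul_def]
        exact mul_mem (IntermediateField.algebraMap_mem _ _) hy

end Sch


end Groth.Agent.H4.NormInt
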