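import Mathlib
import Groth.Prelude.Def_Curv2
import Groth.Prelude.Def_Pi1
import Groth.Agent.H4.NormInt
set_option autoImplicit false
universe u
open CategoryTheory CategoryTheory.Limits AlgebraicGeometry TopologicalSpace Opposite

namespace Groth.Agent.H4.NormInt

section NormOf
variable {A B : Type u} [CommRing A] [CommRing B] {φ : A →+* B}

lemma IsNormOf.isDomain [IsDomain A] (h : IsNormOf φ) : IsDomain B := by
  obtain ⟨e, -⟩ := h
  exact e.toMulEquiv.isDomain (integralClosure A (FractionRing A))

lemma IsNormOf.isIntegrallyClosed [IsDomain A] (h : IsNormOf φ) : IsIntegrallyClosed B := by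
  obtain ⟨e, -⟩ := h
  haveI : IsIntegrallyClosed (integralClosure A (FractionRing A)) :=
    integralClosure.isIntegrallyClosedOfFiniteExtension (FractionRing A)
  exact IsIntegrallyClosed.of_equiv e.symm

end NormOf

section Sch
variable (X : Scheme.{u}) [IsIntegral X]
  [QuasiCompact (X.fromSpecStalk (genericPoint X))] [QuasiSeparated (X.fromSpecStalk (genericPoint X))]

lemma exists_affine_nhd' {Y : Scheme.{u}} (x : Y) : ∃ U : Y.Opens, IsAffineOpen U ∧ x ∈ U := by
  obtain ⟨_, ⟨V, hV, rfl⟩, hxV, -⟩ :=
    Y.isBasis_affineOpens.exists_subset_of_mem_open (Set.mem_univ x) isOpen_univ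
  exact ⟨V, hV, hxV⟩

theorem isNormalScheme_normalization : Pi1.IsNormalScheme (Curv2.normalization X) := by
  intro y
  refine ⟨inferInstance, ?_⟩
  obtain ⟨U, hU, hyU⟩ := exists_affine_nhd' ((Curv2.normalizationι X).base y)
  have hW := isAffineOpen_preimage X hU
  haveI : Nonempty U := ⟨⟨_, hyU⟩⟩
  have hN := isNormOf_app X U hU ⟨_, hyU⟩
  haveI := hN.isIntegrallyClosed
  haveI := hN.isDomain
  letI := TopCat.Presheaf.algebra_section_stalk (Curv2.normalization X).presheaf
    (U := Curv2.normalizationι X ⁻¹ᵁ U) ⟨y, hyU⟩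
  haveI := hW.isLocalization_stalk ⟨y, hyU⟩
  exact isIntegrallyClosed_of_isLocalization _ (hW.primeIdealOf ⟨y, hyU⟩).asIdeal.primeCompl
    (hW.primeIdealOf ⟨y, hyU⟩).asIdeal.primeCompl_le_nonZeroDivisors

instance : IsDominant (X.fromSpecStalk (genericPoint X)) := by
  constructor
  intro x
  have hξ : genericPoint X ∈ Set.range (X.fromSpecStalk (genericPoint X)).base :=
    ⟨IsLocalRing.closedPoint _, Scheme.fromSpecStalk_closedPoint⟩
  have h1 : x ∈ closure {genericPoint X} := by rw [(genericPoint_spec X).def]; trivial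
  exact closure_mono (Set.singleton_subset_iff.mpr hξ) h1

instance : IsDominant (Curv2.normalizationι X) := by
  have h1 : IsDominant ((X.fromSpecStalk (genericPoint X)).toNormalization ≫
      (X.fromSpecStalk (genericPoint X)).fromNormalization) := by
    rw [Scheme.Hom.toNormalization_fromNormalization]; infer_instance
  exact IsDominant.of_comp (X.fromSpecStalk (genericPoint X)).toNormalization
    (X.fromSpecStalk (genericPoint X)).fromNormalization

theorem surjective_normalizationι : Surjective (Curv2.normalizationι X) :=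
  surjective_of_isDominant_of_isClosed_range _ (Curv2.normalizationι X).isClosedMap.isClosed_range

theorem normalizationι_genericPoint :
    (Curv2.normalizationι X).base (genericPoint (Curv2.normalization X)) = genericPoint X := by
  have h1 := (genericPoint_spec (Curv2.normalization X)).image (Curv2.normalizationι X).continuous
  have h2 : closure ((Curv2.normalizationι X).base '' (Set.univ : Set (Curv2.normalization X))) = ⊤ := by
    rw [Set.image_univ]
    exact (Curv2.normalizationι X).denseRange.closure_range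
  rw [h2] at h1
  exact h1.eq (genericPoint_spec X)

lemma surjective_residueFieldMap_of_ker (x' : Curv2.normalization X) (U : X.Opens) (hU : IsAffineOpen U)
    (hxU : (Curv2.normalizationι X).base x' ∈ U)
    (hker : ∀ a : Γ(X, U), (X.evaluation U _ hxU).hom a = 0 → a = 0) :
    Function.Surjective ((Curv2.normalizationι X).residueFieldMap x').hom := by
  have hW := isAffineOpen_preimage X hU
  have hx'W : x' ∈ Curv2.normalizationι X ⁻¹ᵁ U := hxU
  haveI : Nonempty U := ⟨⟨_, hxU⟩⟩
  have hN := isNormOf_app X U hU ⟨_, hxU⟩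
  obtain ⟨evU, hevU⟩ : ∃ evU : Γ(X, U) →+* X.residueField ((Curv2.normalizationι X).base x'),
      evU = (X.evaluation U _ hxU).hom := ⟨_, rfl⟩
  obtain ⟨evW, hevW⟩ : ∃ evW : Γ(Curv2.normalization X, Curv2.normalizationι X ⁻¹ᵁ U) →+*
      (Curv2.normalization X).residueField x',
      evW = ((Curv2.normalization X).evaluation _ x' hx'W).hom := ⟨_, rfl⟩
  obtain ⟨φ, hφ⟩ : ∃ φ : Γ(X, U) →+* Γ(Curv2.normalization X, Curv2.normalizationι X ⁻¹ᵁ U),
      φ = ((Curv2.normalizationι X).app U).hom := ⟨_, rfl⟩
  obtain ⟨ρ, hρ⟩ : ∃ ρ : X.residueField ((Curv2.normalizationι X).base x') →+*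
      (Curv2.normalization X).residueField x', ρ = ((Curv2.normalizationι X).residueFieldMap x').hom :=
    ⟨_, rfl⟩
  rw [← hφ] at hN
  rw [← hevU] at hker
  rw [← hρ]
  have hnat : ∀ a, ρ (evU a) = evW (φ a) := fun a => by
    rw [hevU, hevW, hφ, hρ]
    exact Scheme.evaluation_naturality_apply (Curv2.normalizationι X) x' hxU a
  have hrange : ∀ b, ∃ r, ρ r = evW b := by
    intro b
    obtain ⟨c, d, hd, hcd⟩ := hN.exists_mul_eq b
    have hd' : evU d ≠ 0 := fun h => hd (hker d h)
    have h1 := congrArg evW hcd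
    rw [map_mul, ← hnat, ← hnat] at h1
    have hd'' : ρ (evU d) ≠ 0 := by
      rw [Ne, map_eq_zero]; exact hd'
    refine ⟨evU c / evU d, ?_⟩
    rw [map_div₀, div_eq_iff hd'', mul_comm]; exact h1.symm
  intro z
  obtain ⟨a, b, hb, hab⟩ := exists_evaluation_frac hW x' hx'W z
  rw [← hevW] at hb hab
  obtain ⟨ra, hra⟩ := hrange a
  obtain ⟨rb, hrb⟩ := hrange b
  refine ⟨ra / rb, ?_⟩
  rw [map_div₀, hra, hrb, div_eq_iff hb]
  exact hab.symm

theorem bijective_residueFieldMap_genericPoint :
    Function.Bijective ((Curv2.normalizationι X).residueFieldMap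
      (genericPoint (Curv2.normalization X))).hom := by
  refine ⟨RingHom.injective _, ?_⟩
  obtain ⟨U, hU, hxU⟩ := exists_affine_nhd'
    ((Curv2.normalizationι X).base (genericPoint (Curv2.normalization X)))
  refine surjective_residueFieldMap_of_ker X _ U hU hxU ?_
  intro a ha
  have h1 := (X.evaluation_eq_zero_iff_notMem_basicOpen _ hxU a).mp ha
  rw [normalizationι_genericPoint] at h1
  have h2 : X.basicOpen a = ⊥ := by
    by_contra hne
    apply h1
    have : ((X.basicOpen a : X.Opens) : Set X).Nonempty := by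
      rw [Set.nonempty_iff_ne_empty]
      intro h
      exact hne (TopologicalSpace.Opens.ext h)
    exact genericPoint_mem X _ this
  exact (AlgebraicGeometry.basicOpen_eq_bot_iff a).mp h2

end Sch

end Groth.Agent.H4.NormInt
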