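import Mathlib
import Groth.Prelude.Def_Curv2
import Groth.Prelude.Def_Found
import Groth.Agent.H4.NormInt2
set_option autoImplicit false
universe u
open CategoryTheory CategoryTheory.Limits AlgebraicGeometry TopologicalSpace Opposite

namespace Groth.Agent.H4.NormInt

lemma IsNormOf.finite {A B : Type u} [CommRing A] [CommRing B] {φ : A →+* B} (h : IsNormOf φ)
    (hfin : Module.Finite A (integralClosure A (FractionRing A))) : φ.Finite := by
  letI := φ.toAlgebra
  obtain ⟨e, he, he'⟩ := h.symm_apply
  let ψ : integralClosure A (FractionRing A) →ₐ[A] B :=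
    { e.symm.toRingHom with commutes' := he' }
  change Module.Finite A B
  exact Module.Finite.of_surjective ψ.toLinearMap e.symm.surjective

theorem isFinite_normalizationι_of_finite (X : Scheme.{u}) [IsIntegral X]
    [QuasiCompact (X.fromSpecStalk (genericPoint X))] [QuasiSeparated (X.fromSpecStalk (genericPoint X))]
    (hfin : ∀ U : X.Opens, IsAffineOpen U → (U : Set X).Nonempty →
      Module.Finite Γ(X, U) (integralClosure Γ(X, U) (FractionRing Γ(X, U)))) :
    IsFinite (Curv2.normalizationι X) := by
  refine ⟨fun U hU => ?_⟩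
  by_cases hne : (U : Set X).Nonempty
  · exact (isNormOf_app X U hU hne).finite (hfin U hU hne)
  · have hU0 : U = ⊥ := by
      apply TopologicalSpace.Opens.ext
      exact Set.not_nonempty_iff_eq_empty.mp hne
    subst hU0
    letI := ((Curv2.normalizationι X).app ⊥).hom.toAlgebra
    change Module.Finite Γ(X, ⊥) Γ(Curv2.normalization X, Curv2.normalizationι X ⁻¹ᵁ ⊥)
    haveI : Subsingleton Γ(Curv2.normalization X, Curv2.normalizationι X ⁻¹ᵁ ⊥) :=
      inferInstanceAs (Subsingleton Γ(Curv2.normalization X, ⊥))
    infer_instance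

end Groth.Agent.H4.NormInt
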