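import Mathlib
import Groth.Agent.H4.NormInt3
set_option autoImplicit false
universe u
open CategoryTheory CategoryTheory.Limits AlgebraicGeometry TopologicalSpace Opposite

namespace Groth.Agent.H4.NormInt

lemma local_quot {A D : Type*} [CommRing A] [IsDomain A] [CommRing D] [IsDomain D]
    [IsIntegrallyClosed D] (ι : A →+* D) (hι : Function.Injective ι) (β : FractionRing A)
    (hβ : IsIntegral A β) (c d : A)
    (hrel : algebraMap A (FractionRing A) d * β = algebraMap A (FractionRing A) c) :
    ∃ y : D, ι d * y = ι c := by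
  have hinjL : Function.Injective ((algebraMap D (FractionRing D)).comp ι) :=
    (IsFractionRing.injective _ _).comp hι
  obtain ⟨ℓ, hℓ⟩ : ∃ ℓ : FractionRing A →+* FractionRing D,
      ∀ x, ℓ (algebraMap A (FractionRing A) x) = algebraMap D (FractionRing D) (ι x) :=
    ⟨IsFractionRing.lift (K := FractionRing A) hinjL, fun x => IsFractionRing.lift_algebraMap hinjL x⟩
  have h4 : ℓ.comp (algebraMap A (FractionRing A)) = (algebraMap D (FractionRing D)).comp ι :=
    RingHom.ext hℓ
  have htint : IsIntegral D (ℓ β) := by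
    obtain ⟨p, hp, hp0⟩ := hβ
    have h3 := congrArg ℓ hp0
    rw [Polynomial.hom_eval₂, map_zero, h4, ← Polynomial.eval₂_map] at h3
    exact ⟨p.map ι, hp.map _, h3⟩
  obtain ⟨y, hy⟩ := IsIntegrallyClosed.isIntegral_iff.mp htint
  refine ⟨y, ?_⟩
  have hrel2 := congrArg ℓ hrel
  rw [map_mul, hℓ, hℓ, ← hy, ← map_mul] at hrel2
  exact IsFractionRing.injective D (FractionRing D) hrel2

section RL
variable {A B C : Type u} [CommRing A] [IsDomain A] [CommRing B] [CommRing C] {φ : A →+* B}
  (hN : IsNormOf φ) (γ : A →+* C)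

/-- the hypothesis on the target ring -/
def LocNormal (γ : A →+* C) : Prop :=
  ∀ (P : Ideal C) [P.IsMaximal], IsDomain (Localization.AtPrime P) ∧
    IsIntegrallyClosed (Localization.AtPrime P) ∧
    Function.Injective ((algebraMap C (Localization.AtPrime P)).comp γ)

variable {γ}

lemma LocNormal.nzd (hC : LocNormal γ) (d : A) (hd : d ≠ 0) (s : C) (hs : γ d * s = 0) : s = 0 := by
  apply eq_zero_of_localization
  intro P hP
  obtain ⟨hdom, -, hinj⟩ := hC P
  have h1 : algebraMap C (Localization.AtPrime P) (γ d) * algebraMap C _ s = 0 := by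
    rw [← map_mul, hs, map_zero]
  have h2 : algebraMap C (Localization.AtPrime P) (γ d) ≠ 0 := fun h =>
    hd (hinj (by rw [RingHom.comp_apply, h, map_zero]))
  exact (mul_eq_zero.mp h1).resolve_left h2

lemma LocNormal.cancel (hC : LocNormal γ) (d : A) (hd : d ≠ 0) (s t : C) (hs : γ d * s = γ d * t) :
    s = t := by
  have := hC.nzd d hd (s - t) (by rw [mul_sub, hs, sub_self])
  exact sub_eq_zero.mp this

include hN in
lemma LocNormal.exists_quot (hC : LocNormal γ) (b : B) (c d : A)
    (hcd : φ d * b = φ c) : ∃ s : C, γ d * s = γ c := by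
  obtain ⟨e, he⟩ := hN
  have hrel : algebraMap A (FractionRing A) d * (e b : FractionRing A) =
      algebraMap A (FractionRing A) c := by
    have h5 := congrArg e hcd
    rw [map_mul, he, he] at h5
    exact congrArg (Subtype.val) h5
  have hmem : γ c ∈ Ideal.span {γ d} := by
    apply Ideal.mem_of_localization_maximal
    intro P hP
    obtain ⟨hdom, hic, hinj⟩ := hC P
    obtain ⟨y, hy⟩ := local_quot _ hinj (e b : FractionRing A) (e b).2 c d hrel
    simp only [RingHom.comp_apply] at hy
    rw [← hy]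
    exact Ideal.mul_mem_right _ _ (Ideal.mem_map_of_mem _ (Ideal.subset_span rfl))
  obtain ⟨s, hs⟩ := Ideal.mem_span_singleton'.mp hmem
  exact ⟨s, by rw [mul_comm]; exact hs⟩

include hN in
lemma LocNormal.key (hC : LocNormal γ) (b : B) :
    ∃ s : C, ∀ c d : A, d ≠ 0 → φ d * b = φ c → γ d * s = γ c := by
  obtain ⟨c0, d0, hd0, h0⟩ := hN.exists_mul_eq b
  obtain ⟨s, hs⟩ := hC.exists_quot hN b c0 d0 h0
  refine ⟨s, fun c d hd hcd => ?_⟩
  have h1 : d * c0 = d0 * c := by
    apply hN.injective
    rw [map_mul, map_mul, ← h0, ← hcd]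
    ring
  apply hC.cancel d0 hd0
  calc γ d0 * (γ d * s) = γ d * (γ d0 * s) := by ring
    _ = γ (d * c0) := by rw [hs, map_mul]
    _ = γ (d0 * c) := by rw [h1]
    _ = γ d0 * γ c := by rw [map_mul]

include hN in
theorem LocNormal.existsUnique_lift (hC : LocNormal γ) : ∃! θ : B →+* C, θ.comp φ = γ := by
  choose θ hθ using hC.key hN
  have huniq : ∀ (b : B) (s : C) (c d : A), d ≠ 0 → φ d * b = φ c → γ d * s = γ c → s = θ b := by
    intro b s c d hd hcd hs
    apply hC.cancel d hd
    rw [hs, hθ b c d hd hcd]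
  have hφ : ∀ a, θ (φ a) = γ a := fun a => by
    have := hθ (φ a) a 1 one_ne_zero (by rw [map_one, one_mul])
    rw [map_one, one_mul] at this
    exact this
  let Θ : B →+* C :=
    { toFun := θ
      map_one' := by
        have := hφ 1
        rw [map_one, map_one] at this
        exact this
      map_zero' := by
        have := hφ 0
        rw [map_zero, map_zero] at this
        exact this
      map_mul' := fun b1 b2 => by
        obtain ⟨c1, d1, hd1, h1⟩ := hN.exists_mul_eq b1
        obtain ⟨c2, d2, hd2, h2⟩ := hN.exists_mul_eq b2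
        symm
        apply huniq (b1 * b2) _ (c1 * c2) (d1 * d2) (mul_ne_zero hd1 hd2)
        · rw [map_mul, map_mul, ← h1, ← h2]; ring
        · rw [map_mul, map_mul, ← hθ b1 c1 d1 hd1 h1, ← hθ b2 c2 d2 hd2 h2]; ring
      map_add' := fun b1 b2 => by
        obtain ⟨c1, d1, hd1, h1⟩ := hN.exists_mul_eq b1
        obtain ⟨c2, d2, hd2, h2⟩ := hN.exists_mul_eq b2
        symm
        apply huniq (b1 + b2) _ (d2 * c1 + d1 * c2) (d1 * d2) (mul_ne_zero hd1 hd2)
        · rw [map_mul, map_add, map_mul, map_mul, ← h1, ← h2]; ring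
        · rw [map_mul, map_add, map_mul, map_mul, ← hθ b1 c1 d1 hd1 h1, ← hθ b2 c2 d2 hd2 h2]; ring }
  refine ⟨Θ, RingHom.ext hφ, fun θ' hθ' => ?_⟩
  ext b
  obtain ⟨c, d, hd, hcd⟩ := hN.exists_mul_eq b
  apply huniq b _ c d hd hcd
  have h1 : ∀ a, θ' (φ a) = γ a := fun a => by rw [← hθ']; rfl
  rw [← h1, ← h1, ← map_mul, hcd]

end RL

end Groth.Agent.H4.NormInt
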