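import Mathlib
import Groth.Agent.H4.NormInt4
import Groth.Prelude.Def_Pi1
set_option autoImplicit false
universe u
open CategoryTheory CategoryTheory.Limits AlgebraicGeometry TopologicalSpace Opposite

namespace Groth.Agent.H4.NormInt

section Lift
variable (X : Scheme.{u}) [IsIntegral X]

/-- morphisms `Z ⟶ X` from a normal scheme which are injective on stalks -/
def Good {Z : Scheme.{u}} (g : Z ⟶ X) : Prop :=
  (∀ z : Z, IsDomain (Z.presheaf.stalk z) ∧ IsIntegrallyClosed (Z.presheaf.stalk z)) ∧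
  ∀ z : Z, Function.Injective (g.stalkMap z).hom

variable {X}

lemma Good.comp_isOpenImmersion {T Z : Scheme.{u}} (j : T ⟶ Z) [IsOpenImmersion j] {g : Z ⟶ X}
    (hg : Good X g) : Good X (j ≫ g) := by
  refine ⟨fun t => ?_, fun t => ?_⟩
  · obtain ⟨h1, h2⟩ := hg.1 (j.base t)
    let e : Z.presheaf.stalk (j.base t) ≃+* T.presheaf.stalk t :=
      (asIso (j.stalkMap t)).commRingCatIsoToRingEquiv
    exact ⟨e.symm.toMulEquiv.isDomain _, IsIntegrallyClosed.of_equiv e⟩
  · rw [Scheme.Hom.stalkMap_comp]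
    have h1 : Function.Bijective (j.stalkMap t).hom :=
      (ConcreteCategory.isIso_iff_bijective (j.stalkMap t)).mp inferInstance
    exact h1.1.comp (hg.2 (j.base t))

lemma Good.locNormal {Z : Scheme.{u}} {g : Z ⟶ X} (hg : Good X g) (U : X.Opens)
    (V : Z.Opens) (hV : IsAffineOpen V) (hVU : V ≤ g ⁻¹ᵁ U) :
    LocNormal (g.appLE U V hVU).hom := by
  intro P hP
  have hPprime : P.IsPrime := hP.isPrime
  have hy : hV.fromSpec ⟨P, hPprime⟩ ∈ V := by
    have := Set.mem_range_self (f := hV.fromSpec.base) ⟨P, hPprime⟩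
    rw [hV.range_fromSpec] at this
    exact this
  obtain ⟨y, hy'⟩ : ∃ y : Z, y = hV.fromSpec ⟨P, hPprime⟩ := ⟨_, rfl⟩
  rw [← hy'] at hy
  letI := TopCat.Presheaf.algebra_section_stalk Z.presheaf ⟨y, hy⟩
  haveI : IsLocalization.AtPrime (Z.presheaf.stalk y) P := by
    subst hy'
    exact hV.isLocalization_stalk' ⟨P, hPprime⟩ hy
  obtain ⟨h1, h2⟩ := hg.1 y
  let ε : Z.presheaf.stalk y ≃ₐ[Γ(Z, V)] Localization.AtPrime P :=
    IsLocalization.algEquiv P.primeCompl _ _
  refine ⟨ε.symm.toMulEquiv.isDomain _, IsIntegrallyClosed.of_equiv ε.toRingEquiv, ?_⟩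
  have hyU : g.base y ∈ U := hVU hy
  have hne : (U : Set X).Nonempty := ⟨_, hyU⟩
  have hcomp : ∀ a, algebraMap Γ(Z, V) (Localization.AtPrime P) ((g.appLE U V hVU).hom a) =
      ε ((g.stalkMap y).hom ((X.presheaf.germ U (g.base y) hyU).hom a)) := by
    intro a
    rw [← ε.commutes]
    congr 1
    change (Z.presheaf.germ V y hy).hom ((g.appLE U V hVU).hom a) = _
    have := Scheme.Hom.germ_stalkMap_apply g U y hyU a
    rw [this]
    change _ = (Z.presheaf.germ (g ⁻¹ᵁ U) y hyU).hom ((g.app U).hom a)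
    rw [Scheme.Hom.appLE]
    exact (TopCat.Presheaf.germ_res_apply Z.presheaf (homOfLE hVU) y hy _)
  intro a b hab
  simp only [RingHom.comp_apply] at hab
  rw [hcomp, hcomp] at hab
  exact germ_injective_of_isIntegral X (g.base y) hyU (hg.2 y (ε.injective hab))

variable [QuasiCompact (X.fromSpecStalk (genericPoint X))] [QuasiSeparated (X.fromSpecStalk (genericPoint X))]

lemma isoSpec_hom_fromSpec {Y : Scheme.{u}} {V : Y.Opens} (hV : IsAffineOpen V) :
    hV.isoSpec.hom ≫ hV.fromSpec = V.ι := by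
  rw [IsAffineOpen.fromSpec, Iso.hom_inv_id_assoc]

lemma appLE_congr' {Z Y : Scheme.{u}} {f g : Z ⟶ Y} (e : f = g) (U : Y.Opens) (V : Z.Opens)
    (h : V ≤ f ⁻¹ᵁ U) (h' : V ≤ g ⁻¹ᵁ U) : f.appLE U V h = g.appLE U V h' := by
  subst e; rfl

theorem Good.lift_unique {Z : Scheme.{u}} {g : Z ⟶ X} (hg : Good X g)
    (h1 h2 : Z ⟶ Curv2.normalization X) (e1 : h1 ≫ Curv2.normalizationι X = g)
    (e2 : h2 ≫ Curv2.normalizationι X = g) : h1 = h2 := by
  subst e1
  apply Scheme.hom_ext_of_forall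
  intro z
  obtain ⟨U, hU, hzU⟩ := exists_affine_nhd' ((h1 ≫ Curv2.normalizationι X).base z)
  obtain ⟨_, ⟨V, hV, rfl⟩, hzV, hVU⟩ := Z.isBasis_affineOpens.exists_subset_of_mem_open
    (show z ∈ ((h1 ≫ Curv2.normalizationι X) ⁻¹ᵁ U : Set Z) from hzU)
    ((h1 ≫ Curv2.normalizationι X) ⁻¹ᵁ U).isOpen
  refine ⟨V, hzV, ?_⟩
  have hW := isAffineOpen_preimage X hU
  have hVW1 : V ≤ h1 ⁻¹ᵁ (Curv2.normalizationι X ⁻¹ᵁ U) := hVU
  have hVW2 : V ≤ h2 ⁻¹ᵁ (Curv2.normalizationι X ⁻¹ᵁ U) := by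
    rw [← Scheme.Hom.comp_preimage, e2]; exact hVU
  have hN := isNormOf_app X U hU ⟨_, hzU⟩
  have hL := hg.locNormal U V hV hVU
  haveI : Nonempty U := ⟨⟨_, hzU⟩⟩
  obtain ⟨θ, -, hθ⟩ := hL.existsUnique_lift hN
  have k1 : (h1.appLE _ V hVW1).hom = θ := by
    apply hθ
    rw [← CommRingCat.hom_comp, Scheme.Hom.app_eq_appLE, Scheme.Hom.appLE_comp_appLE]
  have k2 : (h2.appLE _ V hVW2).hom = θ := by
    apply hθ
    rw [← CommRingCat.hom_comp, Scheme.Hom.app_eq_appLE, Scheme.Hom.appLE_comp_appLE]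
    exact congrArg CommRingCat.Hom.hom (appLE_congr' e2 _ _ _ _)
  have k3 : h1.appLE _ V hVW1 = h2.appLE _ V hVW2 := CommRingCat.hom_ext (k1.trans k2.symm)
  have f1 := IsAffineOpen.SpecMap_appLE_fromSpec h1 hW hV hVW1
  have f2 := IsAffineOpen.SpecMap_appLE_fromSpec h2 hW hV hVW2
  have f3 : hV.fromSpec ≫ h1 = hV.fromSpec ≫ h2 := by rw [← f1, ← f2, k3]
  rw [← isoSpec_hom_fromSpec hV, Category.assoc, Category.assoc, f3]

/-- general gluing of local lifts which are unique on open subschemes -/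
lemma exists_lift_of_local {X' Y Z : Scheme.{u}} (ν : X' ⟶ Y) (g : Z ⟶ Y)
    (huniq : ∀ (T : Scheme.{u}) (j : T ⟶ Z) [IsOpenImmersion j] (h1 h2 : T ⟶ X'),
      h1 ≫ ν = j ≫ g → h2 ≫ ν = j ≫ g → h1 = h2)
    (hloc : ∀ z : Z, ∃ (V : Z.Opens) (h : V.toScheme ⟶ X'), z ∈ V ∧ h ≫ ν = V.ι ≫ g) :
    ∃ h : Z ⟶ X', h ≫ ν = g := by
  choose V h hzV hh using hloc
  let 𝒰 : Z.OpenCover := {
    I₀ := Z, X i := (V i), f i := (V i).ι,
    mem₀ := by
      rw [Scheme.presieve₀_mem_precoverage_iff]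
      refine ⟨fun x ↦ ⟨x, by simpa using hzV x⟩, inferInstance⟩ }
  have hcompat : ∀ x y : Z, pullback.fst (𝒰.f x) (𝒰.f y) ≫ h x = pullback.snd _ _ ≫ h y := by
    intro x y
    apply huniq _ (pullback.fst (𝒰.f x) (𝒰.f y) ≫ 𝒰.f x)
    · rw [Category.assoc, hh, Category.assoc]
    · rw [Category.assoc, hh, Category.assoc]
      exact (pullback.condition_assoc (f := 𝒰.f x) (g := 𝒰.f y) g).symm
  refine ⟨𝒰.glueMorphisms h hcompat, ?_⟩
  apply 𝒰.hom_ext
  intro x
  rw [← Category.assoc, 𝒰.ι_glueMorphisms]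
  exact hh x

theorem Good.exists_lift {Z : Scheme.{u}} {g : Z ⟶ X} (hg : Good X g) :
    ∃ h : Z ⟶ Curv2.normalization X, h ≫ Curv2.normalizationι X = g := by
  apply exists_lift_of_local
  · intro T j _ h1 h2 e1 e2
    exact (hg.comp_isOpenImmersion j).lift_unique h1 h2 e1 e2
  · intro z
    obtain ⟨U, hU, hzU⟩ := exists_affine_nhd' (g.base z)
    obtain ⟨_, ⟨V, hV, rfl⟩, hzV, hVU⟩ := Z.isBasis_affineOpens.exists_subset_of_mem_open
      (show z ∈ (g ⁻¹ᵁ U : Set Z) from hzU) (g ⁻¹ᵁ U).isOpen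
    have hW := isAffineOpen_preimage X hU
    have hN := isNormOf_app X U hU ⟨_, hzU⟩
    have hL := hg.locNormal U V hV hVU
    haveI : Nonempty U := ⟨⟨_, hzU⟩⟩
    obtain ⟨θ, hθ, -⟩ := hL.existsUnique_lift hN
    refine ⟨V, hV.isoSpec.hom ≫ Spec.map (CommRingCat.ofHom θ) ≫ hW.fromSpec, hzV, ?_⟩
    have f1 := IsAffineOpen.SpecMap_appLE_fromSpec (Curv2.normalizationι X) hU hW le_rfl
    have f2 := IsAffineOpen.SpecMap_appLE_fromSpec g hU hV hVU
    have f3 : (Curv2.normalizationι X).appLE U _ le_rfl ≫ CommRingCat.ofHom θ = g.appLE U V hVU := by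
      apply CommRingCat.hom_ext
      rw [CommRingCat.hom_comp, ← Scheme.Hom.app_eq_appLE]
      exact hθ
    rw [Category.assoc, Category.assoc, ← f1, ← Spec.map_comp_assoc, f3, f2,
      ← Category.assoc, isoSpec_hom_fromSpec]

theorem Good.existsUnique_lift {Z : Scheme.{u}} {g : Z ⟶ X} (hg : Good X g) :
    ∃! h : Z ⟶ Curv2.normalization X, h ≫ Curv2.normalizationι X = g := by
  obtain ⟨h, hh⟩ := hg.exists_lift
  exact ⟨h, hh, fun h' hh' => hg.lift_unique h' h hh' hh⟩

omit [QuasiCompact (X.fromSpecStalk (genericPoint X))]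
  [QuasiSeparated (X.fromSpecStalk (genericPoint X))] in
lemma stalkSpecializes_injective {x x' : X} (h : x' ⤳ x) :
    Function.Injective (X.presheaf.stalkSpecializes h).hom := by
  have h1 : Function.Injective (X.presheaf.stalkSpecializes
      (((genericPoint_spec X).specializes trivial : genericPoint X ⤳ x').trans h)).hom :=
    IsFractionRing.injective (X.presheaf.stalk x) X.functionField
  rw [← TopCat.Presheaf.stalkSpecializes_comp X.presheaf
    ((genericPoint_spec X).specializes trivial : genericPoint X ⤳ x') h, CommRingCat.hom_comp] at h1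
  exact Function.Injective.of_comp h1

omit [QuasiCompact (X.fromSpecStalk (genericPoint X))]
  [QuasiSeparated (X.fromSpecStalk (genericPoint X))] in
theorem good_of_dominant {Z : Scheme.{u}} (g : Z ⟶ X) (hZ : Pi1.IsNormalScheme Z)
    (hdom : ∀ z : Z, closure {z} ∈ irreducibleComponents Z → g.base z = genericPoint X) :
    Good X g := by
  refine ⟨hZ, fun z => ?_⟩
  obtain ⟨η, hη⟩ := QuasiSober.sober (isIrreducible_irreducibleComponent (x := z))
    isClosed_irreducibleComponent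
  have hηz : η ⤳ z := hη.specializes mem_irreducibleComponent
  have hgη : g.base η = genericPoint X := by
    apply hdom
    rw [hη.def]
    exact irreducibleComponent_mem_irreducibleComponents z
  have hfield : IsField (X.presheaf.stalk (g.base η)) := by
    rw [hgη]
    exact Field.toIsField X.functionField
  letI := hfield.toField
  have hinjη : Function.Injective (g.stalkMap η).hom := (g.stalkMap η).hom.injective
  rw [injective_iff_map_eq_zero]
  intro a ha
  have h1 := Scheme.Hom.stalkSpecializes_stalkMap_apply g η z hηz a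
  rw [ha, map_zero] at h1
  have h2 := hinjη (h1.trans (map_zero _).symm)
  exact stalkSpecializes_injective _ (h2.trans (map_zero _).symm)

end Lift

end Groth.Agent.H4.NormInt
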