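import Mathlib
import Groth.Agent.H4.NormInt5
set_option autoImplicit false
universe u
open CategoryTheory CategoryTheory.Limits AlgebraicGeometry TopologicalSpace Opposite

namespace Groth.Agent.H4.NormInt

section Bir
variable (X : Scheme.{u}) [IsIntegral X]
  [QuasiCompact (X.fromSpecStalk (genericPoint X))] [QuasiSeparated (X.fromSpecStalk (genericPoint X))]

/-- the fibre of the normalization over the generic point -/
theorem eq_genericPoint_of_normalizationι_eq (x' : Curv2.normalization X)
    (hx' : (Curv2.normalizationι X).base x' = genericPoint X) :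
    x' = genericPoint (Curv2.normalization X) := by
  obtain ⟨U, hU, hxU⟩ := exists_affine_nhd' (genericPoint X)
  have hW := isAffineOpen_preimage X hU
  haveI : Nonempty U := ⟨⟨_, hxU⟩⟩
  have hN := isNormOf_app X U hU ⟨_, hxU⟩
  have hx'W : x' ∈ Curv2.normalizationι X ⁻¹ᵁ U := by
    change (Curv2.normalizationι X).base x' ∈ U
    rw [hx']; exact hxU
  haveI : Nonempty ↥(Curv2.normalizationι X ⁻¹ᵁ U) := ⟨⟨x', hx'W⟩⟩
  have hξ'W : genericPoint (Curv2.normalization X) ∈ Curv2.normalizationι X ⁻¹ᵁ U :=
    genericPoint_mem _ _ ⟨x', hx'W⟩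
  haveI := hN.isDomain
  -- the prime of x' is ⊥
  have h1 := IsAffineOpen.comap_primeIdealOf_appLE (f := Curv2.normalizationι X) (x := x')
    U hU _ hW le_rfl hx'W
  rw [← Scheme.Hom.app_eq_appLE] at h1
  have h2 : hU.primeIdealOf ⟨(Curv2.normalizationι X).base x', hx'W⟩ = ⊥ := by
    have h3 := hU.primeIdealOf_genericPoint
    rw [genericPoint_eq_bot_of_affine] at h3
    rw [← h3]
    congr 1
    exact Subtype.ext hx'
  rw [h2] at h1
  have h4 : (hW.primeIdealOf ⟨x', hx'W⟩).asIdeal = ⊥ := by
    letI := ((Curv2.normalizationι X).app U).hom.toAlgebra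
    haveI : Algebra.IsIntegral Γ(X, U) Γ(Curv2.normalization X, Curv2.normalizationι X ⁻¹ᵁ U) :=
      ⟨hN.isIntegral⟩
    apply Ideal.eq_bot_of_comap_eq_bot (R := Γ(X, U))
    exact congrArg PrimeSpectrum.asIdeal h1
  have h5 : hW.primeIdealOf ⟨x', hx'W⟩ = hW.primeIdealOf ⟨genericPoint (Curv2.normalization X), hξ'W⟩ := by
    have h6 := hW.primeIdealOf_genericPoint (h := ⟨⟨x', hx'W⟩⟩)
    rw [genericPoint_eq_bot_of_affine] at h6
    rw [h6]
    exact PrimeSpectrum.ext h4
  have h7 := congrArg (fun P => hW.fromSpec.base P) h5
  simp only [hW.fromSpec_primeIdealOf] at h7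
  exact h7

theorem isIso_stalkMap_genericPoint :
    IsIso ((Curv2.normalizationι X).stalkMap (genericPoint (Curv2.normalization X))) := by
  rw [ConcreteCategory.isIso_iff_bijective]
  have hfield : IsField (X.presheaf.stalk
      ((Curv2.normalizationι X).base (genericPoint (Curv2.normalization X)))) := by
    rw [normalizationι_genericPoint]
    exact Field.toIsField X.functionField
  letI := hfield.toField
  refine ⟨((Curv2.normalizationι X).stalkMap (genericPoint (Curv2.normalization X))).hom.injective, ?_⟩
  intro s
  obtain ⟨r, hr⟩ := (bijective_residueFieldMap_genericPoint X).2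
    (((Curv2.normalization X).residue (genericPoint (Curv2.normalization X))).hom s)
  obtain ⟨t, rfl⟩ := X.residue_surjective _ r
  refine ⟨t, ?_⟩
  have h0 := Scheme.residue_residueFieldMap (Curv2.normalizationι X)
    (genericPoint (Curv2.normalization X))
  have h1 : ((Curv2.normalization X).residue (genericPoint (Curv2.normalization X))).hom
      (((Curv2.normalizationι X).stalkMap (genericPoint (Curv2.normalization X))).hom t) =
      ((Curv2.normalization X).residue (genericPoint (Curv2.normalization X))).hom s := by
    rw [← hr]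
    exact (congrArg (fun φ => φ.hom t) h0).symm
  letI : Field ((Curv2.normalization X).presheaf.stalk (genericPoint (Curv2.normalization X))) :=
    inferInstanceAs (Field (Curv2.normalization X).functionField)
  exact ((Curv2.normalization X).residue (genericPoint (Curv2.normalization X))).hom.injective h1

theorem good_normalizationι : Good X (Curv2.normalizationι X) := by
  apply good_of_dominant _ (isNormalScheme_normalization X)
  intro z hz
  rw [irreducibleComponents_eq_singleton, Set.mem_singleton_iff] at hz
  have hz' : z = genericPoint (Curv2.normalization X) :=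
    (isGenericPoint_def.mpr hz : IsGenericPoint z Set.univ).eq (genericPoint_spec _)
  rw [hz']
  exact normalizationι_genericPoint X

variable {X}

/-- a normal integral scheme, integral and birational over `X`, is the normalization -/
theorem exists_iso_of_birational {Y : Scheme.{u}} (f : Y ⟶ X) (hY : Pi1.IsNormalScheme Y)
    [IsIntegralHom f] [IrreducibleSpace Y]
    (hfib : f.base ⁻¹' {genericPoint X} = {genericPoint Y})
    (hiso : IsIso (f.stalkMap (genericPoint Y))) :
    ∃ e : Y ≅ Curv2.normalization X, e.hom ≫ Curv2.normalizationι X = f := by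
  haveI : ∀ y : Y, _root_.IsReduced (Y.presheaf.stalk y) := fun y => by
    haveI := (hY y).1
    infer_instance
  haveI : IsReduced Y := isReduced_of_isReduced_stalk Y
  haveI : IsIntegral Y := isIntegral_of_irreducibleSpace_of_isReduced Y
  -- `f` is good
  have hgood : Good X f := by
    refine ⟨hY, fun y => ?_⟩
    have hηy : genericPoint Y ⤳ y := (genericPoint_spec Y).specializes trivial
    have hinjη : Function.Injective (f.stalkMap (genericPoint Y)).hom :=
      ((ConcreteCategory.isIso_iff_bijective _).mp hiso).1
    rw [injective_iff_map_eq_zero]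
    intro a ha
    have h1 := Scheme.Hom.stalkSpecializes_stalkMap_apply f (genericPoint Y) y hηy a
    rw [ha, map_zero] at h1
    have h2 := hinjη (h1.trans (map_zero _).symm)
    exact stalkSpecializes_injective _ (h2.trans (map_zero _).symm)
  obtain ⟨h, hh⟩ := hgood.exists_lift
  -- the map `Spec K(X) ⟶ Y`
  have hs : genericPoint X ⤳ f.base (genericPoint Y) := (genericPoint_spec X).specializes trivial
  let ψ : Y.presheaf.stalk (genericPoint Y) ⟶ X.presheaf.stalk (genericPoint X) :=
    inv (f.stalkMap (genericPoint Y)) ≫ X.presheaf.stalkSpecializes hs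
  let f₁ : Spec (X.presheaf.stalk (genericPoint X)) ⟶ Y := Spec.map ψ ≫ Y.fromSpecStalk (genericPoint Y)
  have H : X.fromSpecStalk (genericPoint X) = f₁ ≫ f := by
    change _ = (Spec.map ψ ≫ Y.fromSpecStalk (genericPoint Y)) ≫ f
    rw [Category.assoc, ← Scheme.SpecMap_stalkMap_fromSpecStalk, ← Spec.map_comp_assoc]
    change _ = Spec.map (f.stalkMap (genericPoint Y) ≫ inv (f.stalkMap (genericPoint Y)) ≫
      X.presheaf.stalkSpecializes hs) ≫ _
    rw [IsIso.hom_inv_id_assoc, Scheme.SpecMap_stalkSpecializes_fromSpecStalk]
  let d : Curv2.normalization X ⟶ Y :=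
    (X.fromSpecStalk (genericPoint X)).normalizationDesc f₁ f H
  have hd : d ≫ f = Curv2.normalizationι X :=
    (X.fromSpecStalk (genericPoint X)).normalizationDesc_comp f₁ f H
  have hdh : d ≫ h = 𝟙 _ := by
    apply (good_normalizationι X).lift_unique
    · rw [Category.assoc, hh, hd]
    · rw [Category.id_comp]
  -- `d` is dominant
  have hdξ : d.base (genericPoint (Curv2.normalization X)) = genericPoint Y := by
    have h3 : d.base (genericPoint (Curv2.normalization X)) ∈ f.base ⁻¹' {genericPoint X} := by
      change f.base (d.base _) = _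
      rw [← Scheme.Hom.comp_apply, hd]
      exact normalizationι_genericPoint X
    rw [hfib] at h3
    exact h3
  haveI : IsDominant d := by
    constructor
    intro y
    have h4 : y ∈ closure {genericPoint Y} := by rw [(genericPoint_spec Y).def]; trivial
    have h5 : genericPoint Y ∈ Set.range d.base := ⟨_, hdξ⟩
    exact closure_mono (Set.singleton_subset_iff.mpr h5) h4
  have hhd : h ≫ d = 𝟙 _ := by
    apply ext_of_isDominant_of_isSeparated f _ d
    · rw [← Category.assoc, hdh, Category.id_comp, Category.comp_id]
    · rw [Category.assoc, hd, hh, Category.id_comp]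
  exact ⟨⟨h, d, hhd, hdh⟩, hh⟩

theorem birational_of_iso {Y : Scheme.{u}} (f : Y ⟶ X) (e : Y ≅ Curv2.normalization X)
    (he : e.hom ≫ Curv2.normalizationι X = f) :
    Pi1.IsNormalScheme Y ∧ IsIntegralHom f ∧ ∃ _ : IrreducibleSpace Y,
      f.base ⁻¹' {genericPoint X} = {genericPoint Y} ∧ IsIso (f.stalkMap (genericPoint Y)) := by
  subst he
  haveI : Nonempty Y := ⟨e.inv.base (genericPoint (Curv2.normalization X))⟩
  haveI : IsIntegral Y := isIntegral_of_isOpenImmersion e.hom
  have hgen : e.hom.base (genericPoint Y) = genericPoint (Curv2.normalization X) :=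
    genericPoint_eq_of_isOpenImmersion e.hom
  refine ⟨(Good.comp_isOpenImmersion e.hom (good_normalizationι X)).1, inferInstance, inferInstance,
    ?_, ?_⟩
  · ext y
    simp only [Set.mem_preimage, Set.mem_singleton_iff]
    constructor
    · intro hy
      have h1 : e.hom.base y = genericPoint (Curv2.normalization X) :=
        eq_genericPoint_of_normalizationι_eq X _ hy
      have h2 : e.hom.base y = e.hom.base (genericPoint Y) := h1.trans hgen.symm
      have h3 := congrArg e.inv.base h2
      simpa using h3
    · rintro rfl
      change (Curv2.normalizationι X).base (e.hom.base (genericPoint Y)) = _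
      rw [hgen]
      exact normalizationι_genericPoint X
  · rw [Scheme.Hom.stalkMap_comp]
    have h4 : ∀ p, p = genericPoint (Curv2.normalization X) →
        IsIso ((Curv2.normalizationι X).stalkMap p) := by
      rintro p rfl
      exact isIso_stalkMap_genericPoint X
    exact @IsIso.comp_isIso _ _ _ _ _ _ _ (h4 _ hgen) inferInstance

end Bir

end Groth.Agent.H4.NormInt
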