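import Mathlib
import Groth.Agent.H4.NormInt6
set_option autoImplicit false
universe u
open CategoryTheory CategoryTheory.Limits AlgebraicGeometry TopologicalSpace Opposite

namespace Groth.Agent.H4.NormInt

section NormalLocus
variable (X : Scheme.{u}) [IsIntegral X]
  [QuasiCompact (X.fromSpecStalk (genericPoint X))] [QuasiSeparated (X.fromSpecStalk (genericPoint X))]

omit [QuasiCompact (X.fromSpecStalk (genericPoint X))]
  [QuasiSeparated (X.fromSpecStalk (genericPoint X))] in
lemma good_ι (V : X.Opens) (hV : ∀ x ∈ V, IsIntegrallyClosed (X.presheaf.stalk x)) :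
    Good X V.ι := by
  refine ⟨fun v => ?_, fun v => ?_⟩
  · let e : X.presheaf.stalk (V.ι.base v) ≃+* V.toScheme.presheaf.stalk v :=
      (asIso (V.ι.stalkMap v)).commRingCatIsoToRingEquiv
    haveI : IsIntegrallyClosed (X.presheaf.stalk (V.ι.base v)) := hV v.1 v.2
    exact ⟨e.symm.toMulEquiv.isDomain _, IsIntegrallyClosed.of_equiv e⟩
  · exact ((ConcreteCategory.isIso_iff_bijective (V.ι.stalkMap v)).mp inferInstance).1

/-- the normalization is an isomorphism over the normal locus -/
theorem isIso_morphismRestrict_of_normal (V : X.Opens)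
    (hV : ∀ x ∈ V, IsIntegrallyClosed (X.presheaf.stalk x)) :
    IsIso (Curv2.normalizationι X ∣_ V) := by
  obtain ⟨s, hs⟩ := (good_ι X V hV).exists_lift
  have hrange : Set.range s.base ⊆ Set.range (Curv2.normalizationι X ⁻¹ᵁ V).ι.base := by
    rintro _ ⟨v, rfl⟩
    rw [Scheme.Opens.range_ι]
    change (Curv2.normalizationι X).base (s.base v) ∈ V
    rw [← Scheme.Hom.comp_apply, hs]
    exact v.2
  let s' : V.toScheme ⟶ (Curv2.normalizationι X ⁻¹ᵁ V).toScheme :=
    IsOpenImmersion.lift (Curv2.normalizationι X ⁻¹ᵁ V).ι s hrange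
  have hs' : s' ≫ (Curv2.normalizationι X ⁻¹ᵁ V).ι = s := IsOpenImmersion.lift_fac _ _ _
  refine ⟨s', ?_, ?_⟩
  · rw [← cancel_mono (Curv2.normalizationι X ⁻¹ᵁ V).ι, Category.assoc, hs', Category.id_comp]
    apply (Good.comp_isOpenImmersion (Curv2.normalizationι X ⁻¹ᵁ V).ι
      (good_normalizationι X)).lift_unique
    · rw [Category.assoc, hs, morphismRestrict_ι]
    · rfl
  · rw [← cancel_mono V.ι, Category.assoc, morphismRestrict_ι, ← Category.assoc, hs', hs,
      Category.id_comp]

variable {X}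

theorem dense_iso_of_iso (hV : ∃ V : X.Opens, (V : Set X).Nonempty ∧
      ∀ x ∈ V, IsIntegrallyClosed (X.presheaf.stalk x))
    {Y : Scheme.{u}} (f : Y ⟶ X) (e : Y ≅ Curv2.normalization X)
    (he : e.hom ≫ Curv2.normalizationι X = f) :
    Pi1.IsNormalScheme Y ∧ IsIntegralHom f ∧
      ∃ U : X.Opens, Dense (U : Set X) ∧ Dense ((f ⁻¹ᵁ U : Y.Opens) : Set Y) ∧ IsIso (f ∣_ U) := by
  obtain ⟨hn, hint, hirr, hfib, -⟩ := birational_of_iso f e he
  obtain ⟨V, hVne, hV⟩ := hV
  refine ⟨hn, hint, V, V.isOpen.dense hVne, ?_, ?_⟩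
  · apply (f ⁻¹ᵁ V).isOpen.dense
    refine ⟨genericPoint Y, ?_⟩
    have h1 : genericPoint Y ∈ f.base ⁻¹' {genericPoint X} := by rw [hfib]; rfl
    change f.base (genericPoint Y) ∈ V
    rw [h1]
    exact genericPoint_mem X V hVne
  · subst he
    rw [morphismRestrict_comp]
    have h2 := isIso_morphismRestrict_of_normal X V hV
    have h3 : IsIso (e.hom ∣_ (Curv2.normalizationι X ⁻¹ᵁ V) ≫ Curv2.normalizationι X ∣_ V) :=
      inferInstance
    exact h3

theorem exists_iso_of_dense_iso {Y : Scheme.{u}} (f : Y ⟶ X) (hY : Pi1.IsNormalScheme Y)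
    [IsIntegralHom f] (U : X.Opens) (hU : Dense (U : Set X))
    (hfU : Dense ((f ⁻¹ᵁ U : Y.Opens) : Set Y)) (hiso : IsIso (f ∣_ U)) :
    ∃ e : Y ≅ Curv2.normalization X, e.hom ≫ Curv2.normalizationι X = f := by
  have hUne : (U : Set X).Nonempty := hU.nonempty
  haveI : Nonempty U := ⟨⟨_, hUne.some_mem⟩⟩
  have y0 : ↥(f ⁻¹ᵁ U) := (inv (f ∣_ U)).base ⟨_, hUne.some_mem⟩
  have hfUne : ((f ⁻¹ᵁ U : Y.Opens) : Set Y).Nonempty := ⟨y0.1, y0.2⟩
  haveI : Nonempty ↥(f ⁻¹ᵁ U).toScheme := ⟨y0⟩
  haveI : IsIntegral (f ⁻¹ᵁ U).toScheme := isIntegral_of_isOpenImmersion (f ∣_ U)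
  haveI : IrreducibleSpace Y := by
    rw [irreducibleSpace_def]
    have h1 : IsIrreducible (Set.univ : Set ↥(f ⁻¹ᵁ U)) :=
      IrreducibleSpace.isIrreducible_univ ↥(f ⁻¹ᵁ U).toScheme
    have h2 := (h1.image Subtype.val continuous_subtype_val.continuousOn).closure
    rw [Set.image_univ, Subtype.range_coe] at h2
    rwa [hfU.closure_eq] at h2
  haveI : ∀ y : Y, _root_.IsReduced (Y.presheaf.stalk y) := fun y => by
    haveI := (hY y).1
    infer_instance
  haveI : IsReduced Y := isReduced_of_isReduced_stalk Y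
  haveI : IsIntegral Y := isIntegral_of_irreducibleSpace_of_isReduced Y
  have hξU : genericPoint Y ∈ f ⁻¹ᵁ U := genericPoint_mem Y _ hfUne
  have hbij : Function.Bijective (f ∣_ U).base :=
    (f ∣_ U).homeomorph.bijective
  -- the generic point maps to the generic point
  have hfξ : f.base (genericPoint Y) = genericPoint X := by
    have h1 := (genericPoint_spec Y).image f.continuous
    have h2 : closure (f.base '' (Set.univ : Set Y)) = ⊤ := by
      rw [Set.image_univ, Set.top_eq_univ, ← Set.univ_subset_iff, ← hU.closure_eq]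
      apply closure_mono
      intro x hx
      obtain ⟨y, hy⟩ := hbij.2 ⟨x, hx⟩
      refine ⟨y.1, ?_⟩
      rw [← morphismRestrict_base_coe f U y, hy]
    rw [h2] at h1
    exact h1.eq (genericPoint_spec X)
  apply exists_iso_of_birational f hY
  · ext y
    simp only [Set.mem_preimage, Set.mem_singleton_iff]
    constructor
    · intro hy
      have hyU : y ∈ f ⁻¹ᵁ U := by
        change f.base y ∈ U
        rw [hy]
        exact genericPoint_mem X U hUne
      have h3 : (f ∣_ U).base ⟨y, hyU⟩ = (f ∣_ U).base ⟨genericPoint Y, hξU⟩ := by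
        apply Subtype.ext
        rw [morphismRestrict_base_coe, morphismRestrict_base_coe]
        exact hy.trans hfξ.symm
      exact congrArg Subtype.val (hbij.1 h3)
    · rintro rfl
      exact hfξ
  · have h4 : IsIso ((f ∣_ U).stalkMap ⟨genericPoint Y, hξU⟩) := inferInstance
    exact ((MorphismProperty.isomorphisms CommRingCat).arrow_mk_iso_iff
      (morphismRestrictStalkMap f U ⟨genericPoint Y, hξU⟩)).mp h4

end NormalLocus

end Groth.Agent.H4.NormInt
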