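import Groth.Agent.H4.Cok1
import Groth.Agent.H4.NormInt7
import Groth.Agent.Lib.Lead.QC.IdealMod
import Groth.Agent.Lib.Lead.QC.Stalk
import Groth.Agent.Lib.Lead.QC.SubExt
import Groth.Prelude.Def_FlatMod2
set_option autoImplicit false
universe u
open CategoryTheory Limits AlgebraicGeometry TopologicalSpace Opposite
open Groth.Agent.LD.QC
namespace Groth.Agent.H4.Cok

section Push
variable {X Y : Scheme.{u}} (f : Y ⟶ X)

/-- the pushforward of the structure sheaf -/
noncomputable abbrev pushO : X.Modules :=
  (Scheme.Modules.pushforward f).obj (Coh.structureModule Y)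

/-- the cokernel of `O_X → f_* O_Y` -/
noncomputable abbrev cokO : X.Modules := cokernel (ClSub.unitToPush f)

instance qc_pushO [QuasiCompact f] [QuasiSeparated f] : (pushO f).IsQuasicoherent :=
  qc_pushforward f (Coh.structureModule Y)

instance qc_cokO [QuasiCompact f] [QuasiSeparated f] : (cokO f).IsQuasicoherent :=
  qc_cokernel (ClSub.unitToPush f) inferInstance inferInstance

lemma unitToPush_app (U : X.Opens) (s : Γ(X, U)) :
    (ClSub.unitToPush f).app U s = f.app U s := rfl


lemma π_app_surjective [QuasiCompact f] [QuasiSeparated f] {U : X.Opens} (hU : IsAffineOpen U) :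
    Function.Surjective ((cokernel.π (ClSub.unitToPush f)).app U) :=
  epi_app_affine inferInstance inferInstance _ hU

lemma exact_app [Mono (ClSub.unitToPush f)] (U : X.Opens) :
    Function.Exact (appLinear (ClSub.unitToPush f) U)
      (appLinear (cokernel.π (ClSub.unitToPush f)) U) := by
  intro t
  constructor
  · intro ht
    let S : ShortComplex X.Modules :=
      ShortComplex.mk (ClSub.unitToPush f) (cokernel.π (ClSub.unitToPush f)) (cokernel.condition _)
    have hS : S.Exact := ShortComplex.exact_of_g_is_cokernel S (cokernelIsCokernel _)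
    haveI : Mono S.f := inferInstanceAs (Mono (ClSub.unitToPush f))
    exact exact_sections' S hS U t ht
  · rintro ⟨s, rfl⟩
    have h := cokernel.condition (ClSub.unitToPush f)
    exact congr($(h).app U s)

end Push

section Norm
variable (X : Scheme.{u}) [IsIntegral X]
  [QuasiCompact (X.fromSpecStalk (genericPoint X))] [QuasiSeparated (X.fromSpecStalk (genericPoint X))]

open Groth.Agent.H4.NormInt

theorem app_injective (W : X.Opens) :
    Function.Injective ((Curv2.normalizationι X).app W).hom := by
  by_cases hne : (W : Set X).Nonempty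
  · rw [injective_iff_map_eq_zero]
    intro s hs
    have hη : (Curv2.normalizationι X).base (genericPoint (Curv2.normalization X)) ∈ W := by
      rw [normalizationι_genericPoint]
      exact genericPoint_mem X W hne
    have h1 := Scheme.Hom.germ_stalkMap_apply (Curv2.normalizationι X) W
      (genericPoint (Curv2.normalization X)) hη s
    rw [hs, map_zero] at h1
    haveI := isIso_stalkMap_genericPoint X
    have hinj : Function.Injective
        ((Curv2.normalizationι X).stalkMap (genericPoint (Curv2.normalization X))).hom :=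
      ((ConcreteCategory.isIso_iff_bijective _).mp inferInstance).1
    have h2 : (X.presheaf.germ W _ hη).hom s = 0 := hinj (by rw [map_zero]; exact h1)
    exact germ_injective_of_isIntegral X _ hη (by rw [map_zero]; exact h2)
  · have hW0 : W = ⊥ := by
      apply TopologicalSpace.Opens.ext
      exact Set.not_nonempty_iff_eq_empty.mp hne
    subst hW0
    intro a b _
    exact Subsingleton.elim a b

instance mono_unitToPush : Mono (ClSub.unitToPush (Curv2.normalizationι X)) :=
  mono_of_injective_app _ (fun W => app_injective X W)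

theorem length_stalk_cokO (x : X) :
    Module.length (X.presheaf.stalk x) ((cokO (Curv2.normalizationι X)).presheaf.stalk x) =
      Curv2.deltaInv (X.presheaf.stalk x) := by
  obtain ⟨U, hU, hxU⟩ := exists_affine_nhd' x
  have hW := isAffineOpen_preimage X hU
  letI : Algebra Γ(X, U) (X.presheaf.stalk x) :=
    TopCat.Presheaf.algebra_section_stalk X.presheaf ⟨x, hxU⟩
  haveI := hU.isLocalization_stalk ⟨x, hxU⟩
  haveI : Nonempty U := ⟨⟨x, hxU⟩⟩
  haveI : IsDomain Γ(X, U) := inferInstance
  haveI : IsScalarTower Γ(X, U) (X.presheaf.stalk x) (FractionRing (X.presheaf.stalk x)) :=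
    inferInstance
  haveI : IsFractionRing Γ(X, U) (FractionRing (X.presheaf.stalk x)) :=
    isFractionRing_of_atPrime (hU.primeIdealOf ⟨x, hxU⟩).asIdeal (X.presheaf.stalk x)
      (FractionRing (X.presheaf.stalk x))
  obtain ⟨e, he, -⟩ := (isNormOf_app X U hU ⟨x, hxU⟩).symm_apply
  have hθ := thetaEquiv_apply ((Curv2.normalizationι X).app U).hom e he
    (FractionRing (X.presheaf.stalk x))
  let θlin : Γ(pushO (Curv2.normalizationι X), U) ≃ₗ[Γ(X, U)]
      integralClosure Γ(X, U) (FractionRing (X.presheaf.stalk x)) :=
    { toFun := fun t => thetaEquiv e (FractionRing (X.presheaf.stalk x))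
        (show Γ(Curv2.normalization X, Curv2.normalizationι X ⁻¹ᵁ U) from t)
      invFun := fun t => (thetaEquiv e (FractionRing (X.presheaf.stalk x))).symm t
      left_inv := fun t => (thetaEquiv e (FractionRing (X.presheaf.stalk x))).symm_apply_apply _
      right_inv := fun t => (thetaEquiv e (FractionRing (X.presheaf.stalk x))).apply_symm_apply _
      map_add' := fun s t => map_add (thetaEquiv e (FractionRing (X.presheaf.stalk x))) _ _
      map_smul' := fun r t => by
        change thetaEquiv e (FractionRing (X.presheaf.stalk x))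
          (((Curv2.normalizationι X).app U).hom r *
            (show Γ(Curv2.normalization X, Curv2.normalizationι X ⁻¹ᵁ U) from t)) =
            r • thetaEquiv e _ (show Γ(Curv2.normalization X, Curv2.normalizationι X ⁻¹ᵁ U) from t)
        rw [map_mul, hθ, Algebra.smul_def] }
  haveI hloc1 : IsLocalizedModule (hU.primeIdealOf ⟨x, hxU⟩).asIdeal.primeCompl
      (inclIC (B := Γ(X, U)) (X.presheaf.stalk x) (K := FractionRing (X.presheaf.stalk x))) :=
    isLocalizedModule_inclIC (hU.primeIdealOf ⟨x, hxU⟩).asIdeal (X.presheaf.stalk x)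
  let f1 : Γ(pushO (Curv2.normalizationι X), U) →ₗ[Γ(X, U)]
      integralClosure (X.presheaf.stalk x) (FractionRing (X.presheaf.stalk x)) :=
    (inclIC (B := Γ(X, U)) (X.presheaf.stalk x) (K := FractionRing (X.presheaf.stalk x))).comp
      θlin.toLinearMap
  haveI hloc1' : IsLocalizedModule (hU.primeIdealOf ⟨x, hxU⟩).asIdeal.primeCompl f1 :=
    IsLocalizedModule.of_linearEquiv_right _ _ θlin
  let f0 : Γ(Coh.structureModule X, U) →ₗ[Γ(X, U)] X.presheaf.stalk x :=
    Algebra.linearMap Γ(X, U) (X.presheaf.stalk x)
  haveI hloc0 : IsLocalizedModule (hU.primeIdealOf ⟨x, hxU⟩).asIdeal.primeCompl f0 :=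
    inferInstanceAs (IsLocalizedModule (hU.primeIdealOf ⟨x, hxU⟩).asIdeal.primeCompl
      (Algebra.linearMap Γ(X, U) (X.presheaf.stalk x)))
  letI := stalkΓModule (cokO (Curv2.normalizationι X)) x U hxU
  haveI hloc2 := isLocalizedModule_germ (cokO (Curv2.normalizationι X)) hU x hxU
  haveI : IsScalarTower Γ(X, U) (X.presheaf.stalk x)
      ((cokO (Curv2.normalizationι X)).presheaf.stalk x) :=
    ⟨fun r o m => by
      change (X.presheaf.germ U x hxU r * o) • m = X.presheaf.germ U x hxU r • (o • m)
      rw [mul_smul]⟩
  obtain ⟨Λ⟩ := exists_linearEquiv_quot_of_exact (hU.primeIdealOf ⟨x, hxU⟩).asIdeal.primeCompl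
    (X.presheaf.stalk x)
    (appLinear (ClSub.unitToPush (Curv2.normalizationι X)) U)
    (appLinear (cokernel.π (ClSub.unitToPush (Curv2.normalizationι X))) U)
    (exact_app (Curv2.normalizationι X) U) (π_app_surjective (Curv2.normalizationι X) hU)
    f0 f1 (germLinear (cokO (Curv2.normalizationι X)) x U hxU)
    (fun s => by
      apply Subtype.ext
      change ((thetaEquiv e (FractionRing (X.presheaf.stalk x))
        (((Curv2.normalizationι X).app U).hom s) :
          integralClosure Γ(X, U) (FractionRing (X.presheaf.stalk x))) :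
            FractionRing (X.presheaf.stalk x)) = _
      rw [hθ]
      rfl)
  exact Λ.length_eq

end Norm

end Groth.Agent.H4.Cok
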