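import Mathlib
import Groth.Prelude.Def_Found
import Groth.Agent.H4.Brn1
set_option autoImplicit false
universe u
open scoped nonZeroDivisors
namespace Groth.Agent.H4.Cok

section Nagata
open Groth.Agent.H4.Brn

theorem finite_integralClosure_of_isNagata (B : Type u) [CommRing B] [IsDomain B]
    (hN : CAlg.IsNagata B) : Module.Finite B (integralClosure B (FractionRing B)) := by
  haveI : (⊥ : Ideal B).IsPrime := Ideal.isPrime_bot
  have h1 : Module.Finite (B ⧸ (⊥ : Ideal B))
      (integralClosure (B ⧸ (⊥ : Ideal B)) (FractionRing (B ⧸ (⊥ : Ideal B)))) :=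
    hN.2 ⊥ (FractionRing (B ⧸ (⊥ : Ideal B))) inferInstance
  let e0 : B ≃+* B ⧸ (⊥ : Ideal B) := (RingEquiv.quotientBot B).symm
  haveI : Module.Finite B (B ⧸ (⊥ : Ideal B)) := inferInstance
  haveI h2 : Module.Finite B
      (integralClosure (B ⧸ (⊥ : Ideal B)) (FractionRing (B ⧸ (⊥ : Ideal B)))) :=
    Module.Finite.trans (B ⧸ (⊥ : Ideal B)) _
  obtain ⟨E, hE⟩ : ∃ E : integralClosure (B ⧸ (⊥ : Ideal B)) (FractionRing (B ⧸ (⊥ : Ideal B))) ≃+*
      integralClosure B (FractionRing B), E = (icEquiv e0).symm := ⟨_, rfl⟩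
  let ψ : integralClosure (B ⧸ (⊥ : Ideal B)) (FractionRing (B ⧸ (⊥ : Ideal B))) →ₗ[B]
      integralClosure B (FractionRing B) :=
    { toFun := fun y => E y
      map_add' := fun a b => E.map_add a b
      map_smul' := fun b y => by
        simp only [RingHom.id_apply]
        rw [Algebra.smul_def, Algebra.smul_def, E.map_mul]
        congr 1
        rw [hE]
        apply (icEquiv e0).injective
        rw [RingEquiv.apply_symm_apply, icEquiv_algebraMap]
        rfl }
  exact Module.Finite.of_surjective ψ E.surjective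

end Nagata

section Conductor
variable {B : Type u} [CommRing B] [IsDomain B]

lemma exists_conductor_aux (K : Type*) [Field K] [Algebra B K] [IsFractionRing B K]
    (hfin : Module.Finite B (integralClosure B K)) :
    ∃ s : B, s ≠ 0 ∧ ∀ y : K, IsIntegral B y → ∃ b : B, algebraMap B K b = algebraMap B K s * y := by
  classical
  obtain ⟨T, hT⟩ := hfin.fg_top
  obtain ⟨s, hs⟩ := IsLocalization.exist_integer_multiples_of_finset (nonZeroDivisors B)
    (T.image (fun t : integralClosure B K => (t : K)))
  refine ⟨s.1, nonZeroDivisors.ne_zero s.2, ?_⟩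
  intro y hy
  have hmem : (⟨y, hy⟩ : integralClosure B K) ∈ Submodule.span B (T : Set (integralClosure B K)) := by
    rw [hT]; trivial
  have key : ∀ z : integralClosure B K, z ∈ Submodule.span B (T : Set (integralClosure B K)) →
      ∃ b : B, algebraMap B K b = algebraMap B K s.1 * (z : K) := by
    intro z hz
    induction hz using Submodule.span_induction with
    | mem t ht =>
      obtain ⟨b, hb⟩ := hs (t : K) (Finset.mem_image_of_mem _ ht)
      refine ⟨b, ?_⟩
      rw [hb, Algebra.smul_def]
    | zero => exact ⟨0, by simp⟩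
    | add u v _ _ hu hv =>
      obtain ⟨a, ha⟩ := hu
      obtain ⟨b, hb⟩ := hv
      refine ⟨a + b, ?_⟩
      rw [map_add, ha, hb]
      change _ = algebraMap B K s.1 * ((u : K) + (v : K))
      ring
    | smul c u _ hu =>
      obtain ⟨a, ha⟩ := hu
      refine ⟨c * a, ?_⟩
      rw [map_mul, ha]
      change _ = algebraMap B K s.1 * (c • (u : K))
      rw [Algebra.smul_def]
      ring
  exact key ⟨y, hy⟩ hmem

theorem exists_conductor (hfin : Module.Finite B (integralClosure B (FractionRing B))) :
    ∃ s : B, s ≠ 0 ∧ ∀ (K : Type u) [Field K] [Algebra B K] [IsFractionRing B K] (y : K),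
      IsIntegral B y → ∃ b : B, algebraMap B K b = algebraMap B K s * y := by
  obtain ⟨s, hs0, hs⟩ := exists_conductor_aux (FractionRing B) hfin
  refine ⟨s, hs0, ?_⟩
  intro K _ _ _ y hy
  let e : K ≃ₐ[B] FractionRing B := (FractionRing.algEquiv B K).symm
  obtain ⟨b, hb⟩ := hs (e y) (hy.map e)
  refine ⟨b, ?_⟩
  apply e.injective
  rw [map_mul, e.commutes, e.commutes, hb]

include B in
theorem isIntegrallyClosed_of_conductor (s : B)
    (hs : ∀ (K : Type u) [Field K] [Algebra B K] [IsFractionRing B K] (y : K),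
      IsIntegral B y → ∃ b : B, algebraMap B K b = algebraMap B K s * y)
    (p : Ideal B) [p.IsPrime] (hsp : s ∉ p) (O : Type u) [CommRing O] [IsDomain O] [Algebra B O]
    [IsLocalization.AtPrime O p] (K : Type u) [Field K] [Algebra O K] [Algebra B K]
    [IsScalarTower B O K] [IsFractionRing O K] [IsFractionRing B K] :
    IsIntegrallyClosed O := by
  rw [isIntegrallyClosed_iff K]
  intro x hx
  obtain ⟨m, hm⟩ := IsIntegral.exists_multiple_integral_of_isLocalization p.primeCompl x hx
  obtain ⟨b, hb⟩ := hs K (m • x) hm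
  have hsm : s * m.1 ∈ p.primeCompl := Submonoid.mul_mem _ hsp m.2
  refine ⟨IsLocalization.mk' O b ⟨s * m.1, hsm⟩, ?_⟩
  have hunit : algebraMap B K (s * m.1) ≠ 0 := by
    rw [Ne, map_eq_zero_iff _ (IsFractionRing.injective B K)]
    intro h
    exact hsm (by rw [h]; exact zero_mem _)
  have h1 : algebraMap O K (IsLocalization.mk' O b ⟨s * m.1, hsm⟩) * algebraMap B K (s * m.1) =
      algebraMap B K b := by
    rw [IsScalarTower.algebraMap_apply B O K, IsScalarTower.algebraMap_apply B O K, ← map_mul]
    congr 1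
    exact IsLocalization.mk'_spec O b ⟨s * m.1, hsm⟩
  rw [hb, Submonoid.smul_def, Algebra.smul_def, map_mul] at h1
  have h2 : algebraMap O K (IsLocalization.mk' O b ⟨s * m.1, hsm⟩) * (algebraMap B K s * algebraMap B K m.1) =
      x * (algebraMap B K s * algebraMap B K m.1) := by
    rw [h1]; ring
  rw [← map_mul] at h2
  exact mul_right_cancel₀ hunit h2

end Conductor

end Groth.Agent.H4.Cok
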