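import Groth.Agent.H4.TotFrac
import Groth.Prelude.Def_Curv2
set_option autoImplicit false
universe u
open scoped nonZeroDivisors

namespace Groth.Agent.H4.TotFrac

variable {A : Type u} [CommRing A]

/-- `deltaInv A = 0` iff every element of the total fraction ring integral over `A` is in `A`. -/
lemma deltaInv_eq_zero_iff : Curv2.deltaInv A = 0 ↔
    ∀ x : FractionRing A, IsIntegral A x → ∃ a : A, algebraMap A (FractionRing A) a = x := by
  rw [Curv2.deltaInv, Module.length_eq_zero_iff, Submodule.Quotient.subsingleton_iff]
  constructor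
  · intro h x hx
    have h1 : (⟨x, hx⟩ : integralClosure A (FractionRing A)) ∈
        LinearMap.range (Algebra.linearMap A (integralClosure A (FractionRing A))) := by
      rw [h]; trivial
    obtain ⟨a, ha⟩ := h1
    exact ⟨a, congrArg Subtype.val ha⟩
  · intro h
    rw [eq_top_iff]
    intro x _
    obtain ⟨a, ha⟩ := h x.1 x.2
    exact ⟨a, Subtype.ext ha⟩

/-- an idempotent in a local ring is 0 or 1 -/
lemma idem_local [IsLocalRing A] {a : A} (ha : a * a = a) : a = 0 ∨ a = 1 := by
  rcases IsLocalRing.isUnit_or_isUnit_one_sub_self a with h | h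
  · right
    have : a * a = a * 1 := by rw [ha, mul_one]
    exact h.mul_left_cancel this
  · left
    have : (1 - a) * a = (1 - a) * 0 := by rw [mul_zero, sub_mul, one_mul, ha, sub_self]
    exact h.mul_left_cancel this

variable [IsReduced A]

lemma subsingleton_minP [IsLocalRing A] [Finite (MinP A)]
    (h : ∀ x : FractionRing A, IsIntegral A x → ∃ a : A, algebraMap A (FractionRing A) a = x) :
    Subsingleton (MinP A) := by
  classical
  constructor
  intro p q
  by_contra hpq
  obtain ⟨e, he⟩ := Φ_surjective (A := A) (Pi.single p 1)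
  have hee : e * e = e := by
    apply Φ_injective
    rw [map_mul, he, ← Pi.single_mul, mul_one]
  have hint : IsIntegral A e := by
    refine ⟨Polynomial.X ^ 2 - Polynomial.X, ?_, ?_⟩
    · exact Polynomial.monic_X_pow_sub (by simp [Polynomial.degree_X])
    · simp [pow_two, hee]
  obtain ⟨a, ha⟩ := h e hint
  have hinj : Function.Injective (algebraMap A (FractionRing A)) :=
    IsLocalization.injective _ (le_refl _)
  have haa : a * a = a := by
    apply hinj
    rw [map_mul, ha, hee]
  rcases idem_local haa with h0 | h1
  · have := congrFun he p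
    rw [← ha, h0, map_zero, map_zero, Pi.single_eq_same] at this
    exact zero_ne_one this
  · have := congrFun he q
    rw [← ha, h1, map_one, map_one, Pi.single_eq_of_ne (Ne.symm hpq)] at this
    exact one_ne_zero this

lemma isDomain_of_closed [IsLocalRing A] [Finite (MinP A)]
    (h : ∀ x : FractionRing A, IsIntegral A x → ∃ a : A, algebraMap A (FractionRing A) a = x) :
    IsDomain A := by
  haveI := subsingleton_minP h
  obtain ⟨p, hp, -⟩ := Ideal.exists_minimalPrimes_le (I := (⊥ : Ideal A))
    (J := IsLocalRing.maximalIdeal A) bot_le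
  have hp' : p ∈ minimalPrimes A := hp
  have hbot : p = ⊥ := by
    rw [eq_bot_iff]
    intro a ha
    apply eq_zero_of_forall_mem
    intro q
    rw [Subsingleton.elim q ⟨p, hp'⟩]
    exact ha
  haveI : (⊥ : Ideal A).IsPrime := hbot ▸ hp'.1.1
  exact IsDomain.of_bot_isPrime A

end Groth.Agent.H4.TotFrac
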