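import Groth.Agent.H4.Cok2
import Groth.Agent.H4.Cok3
import Groth.Agent.H4.NormInt3
import Groth.Agent.H4.TotFrac2
set_option autoImplicit false
universe u
open CategoryTheory Limits AlgebraicGeometry TopologicalSpace Opposite
open Groth.Agent.LD.QC
namespace Groth.Agent.H4.Cok

section Norm2
variable (X : Scheme.{u}) [IsIntegral X]
  [QuasiCompact (X.fromSpecStalk (genericPoint X))] [QuasiSeparated (X.fromSpecStalk (genericPoint X))]

open Groth.Agent.H4.NormInt

theorem isFinite_of_nagata (hN : ∀ U : X.affineOpens, CAlg.IsNagata Γ(X, (U : X.Opens))) :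
    IsFinite (Curv2.normalizationι X) :=
  isFinite_normalizationι_of_finite X (fun U hU hne => by
    haveI : Nonempty U := hne.to_subtype
    exact finite_integralClosure_of_isNagata _ (hN ⟨U, hU⟩))

omit [QuasiCompact (X.fromSpecStalk (genericPoint X))]
  [QuasiSeparated (X.fromSpecStalk (genericPoint X))] in
theorem exists_nonempty_normal_open (hN : ∀ U : X.affineOpens, CAlg.IsNagata Γ(X, (U : X.Opens))) :
    ∃ U : X.Opens, (U : Set X).Nonempty ∧ ∀ x ∈ U, IsIntegrallyClosed (X.presheaf.stalk x) := by
  obtain ⟨V, hV, hηV⟩ := exists_affine_nhd' (genericPoint X)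
  haveI : Nonempty V := ⟨⟨_, hηV⟩⟩
  haveI : IsDomain Γ(X, V) := inferInstance
  have hfin := finite_integralClosure_of_isNagata _ (hN ⟨V, hV⟩)
  obtain ⟨s, hs0, hs⟩ := exists_conductor hfin
  refine ⟨X.basicOpen s, ⟨genericPoint X, ?_⟩, ?_⟩
  · rw [SetLike.mem_coe, X.mem_basicOpen s (genericPoint X) hηV]
    letI : Field (X.presheaf.stalk (genericPoint X)) := inferInstanceAs (Field X.functionField)
    rw [isUnit_iff_ne_zero]
    intro h0
    exact hs0 (germ_injective_of_isIntegral X _ hηV (by rw [map_zero]; exact h0))
  · intro x hx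
    have hxV : x ∈ V := X.basicOpen_le s hx
    letI : Algebra Γ(X, V) (X.presheaf.stalk x) :=
      TopCat.Presheaf.algebra_section_stalk X.presheaf ⟨x, hxV⟩
    haveI := hV.isLocalization_stalk ⟨x, hxV⟩
    haveI : IsScalarTower Γ(X, V) (X.presheaf.stalk x) (FractionRing (X.presheaf.stalk x)) :=
      inferInstance
    haveI : IsFractionRing Γ(X, V) (FractionRing (X.presheaf.stalk x)) :=
      isFractionRing_of_atPrime (hV.primeIdealOf ⟨x, hxV⟩).asIdeal (X.presheaf.stalk x)
        (FractionRing (X.presheaf.stalk x))
    exact isIntegrallyClosed_of_conductor s hs (hV.primeIdealOf ⟨x, hxV⟩).asIdeal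
      (mem_primeCompl_of_mem_basicOpen hV x hxV s hx) (X.presheaf.stalk x)
      (FractionRing (X.presheaf.stalk x))

theorem exists_dense_open_iso (hN : ∀ U : X.affineOpens, CAlg.IsNagata Γ(X, (U : X.Opens))) :
    ∃ U : X.Opens, Dense ((U : Set X)) ∧ IsIso (Curv2.normalizationι X ∣_ U) := by
  obtain ⟨U, hne, hU⟩ := exists_nonempty_normal_open X hN
  exact ⟨U, U.isOpen.dense hne, isIso_morphismRestrict_of_normal X U hU⟩

omit [QuasiCompact (X.fromSpecStalk (genericPoint X))]
  [QuasiSeparated (X.fromSpecStalk (genericPoint X))] in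
lemma eq_genericPoint_of_not_isClosed (hdim : topologicalKrullDim X = 1) (x : X)
    (hx : ¬ IsClosed ({x} : Set X)) : x = genericPoint X := by
  by_contra hne
  have h1 : ∃ y ∈ closure ({x} : Set X), y ≠ x := by
    by_contra hcon
    push Not at hcon
    apply hx
    have : closure ({x} : Set X) = {x} := by
      apply Set.Subset.antisymm
      · intro y hy
        exact hcon y hy
      · exact subset_closure
    rw [← this]
    exact isClosed_closure
  obtain ⟨y, hy, hyx⟩ := h1
  let Z0 : IrreducibleCloseds X := ⟨closure {y}, isIrreducible_singleton.closure, isClosed_closure⟩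
  let Z1 : IrreducibleCloseds X := ⟨closure {x}, isIrreducible_singleton.closure, isClosed_closure⟩
  let Z2 : IrreducibleCloseds X :=
    ⟨closure {genericPoint X}, isIrreducible_singleton.closure, isClosed_closure⟩
  have hxy : x ⤳ y := specializes_iff_mem_closure.mpr hy
  have hηx : genericPoint X ⤳ x := (genericPoint_spec X).specializes (Set.mem_univ x)
  have h01 : Z0 < Z1 := by
    refine lt_of_le_of_ne ?_ ?_
    · change closure {y} ⊆ closure {x}
      exact hxy.closure_subset
    · intro h
      have h2 : x ∈ closure ({y} : Set X) := by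
        have : (Z0 : Set X) = Z1 := congrArg _ h
        change closure {y} = closure {x} at this
        rw [this]; exact subset_closure rfl
      exact hyx (hxy.antisymm (specializes_iff_mem_closure.mpr h2)).eq.symm
  have h12 : Z1 < Z2 := by
    refine lt_of_le_of_ne ?_ ?_
    · change closure {x} ⊆ closure {genericPoint X}
      exact hηx.closure_subset
    · intro h
      have h2 : genericPoint X ∈ closure ({x} : Set X) := by
        have : (Z1 : Set X) = Z2 := congrArg _ h
        change closure {x} = closure {genericPoint X} at this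
        rw [this]; exact subset_closure rfl
      exact hne (hηx.antisymm (specializes_iff_mem_closure.mpr h2)).eq.symm
  have hle : Order.krullDim (IrreducibleCloseds X) ≤ 1 := hdim.le
  rw [Order.krullDim_le_one_iff] at hle
  rcases hle Z1 with h | h
  · exact (h.not_lt h01)
  · exact (h.not_lt h12)

theorem subsingleton_stalk_cokO_of_not_isClosed (hdim : topologicalKrullDim X = 1) (x : X)
    (hx : ¬ IsClosed ({x} : Set X)) :
    Subsingleton ((cokO (Curv2.normalizationι X)).presheaf.stalk x) := by
  have hxη := eq_genericPoint_of_not_isClosed X hdim x hx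
  subst hxη
  rw [← Module.length_eq_zero_iff (R := X.presheaf.stalk (genericPoint X)), length_stalk_cokO,
    Groth.Agent.H4.TotFrac.deltaInv_eq_zero_iff]
  letI : Field (X.presheaf.stalk (genericPoint X)) := inferInstanceAs (Field X.functionField)
  intro y hy
  exact IsIntegrallyClosed.algebraMap_eq_of_integral hy

end Norm2

end Groth.Agent.H4.Cok
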