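import Mathlib
import Groth.Prelude
import Groth.Agent.Lib.Helper2.ComoduleGen

set_option autoImplicit false
universe u
open TensorProduct

namespace Groth.Agent.H4.ComodDesc

section Defs

variable (A : Type u) [CommRing A] (C : Type u) [AddCommGroup C] [Module A C]
  (B : Type u) [CommRing B] [Algebra A B]

/-- restriction of a `B`-linear functional on `B ⊗ C` to `C`. -/
noncomputable def res (f : Module.Dual B (B ⊗[A] C)) : C →ₗ[A] B :=
  (f.restrictScalars A) ∘ₗ (TensorProduct.mk A B C 1)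

lemma res_apply (f : Module.Dual B (B ⊗[A] C)) (c : C) :
    res A C B f c = f ((1 : B) ⊗ₜ[A] c) := rfl

variable (X : Type u) [AddCommGroup X] [Module A X]

/-- `x ⊗ c ↦ (1 ⊗ x) ⊗ (1 ⊗ c)`. -/
noncomputable def kap : X ⊗[A] C →ₗ[A] (B ⊗[A] X) ⊗[B] (B ⊗[A] C) :=
  ((AlgebraTensorModule.distribBaseChange A B X C).toLinearMap.restrictScalars A) ∘ₗ
    (TensorProduct.mk A B (X ⊗[A] C) 1)

lemma kap_tmul (x : X) (c : C) :
    kap A C B X (x ⊗ₜ[A] c) = ((1 : B) ⊗ₜ[A] x) ⊗ₜ[B] ((1 : B) ⊗ₜ[A] c) := by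
  simp [kap]

lemma kap_injective [Module.FaithfullyFlat A B] : Function.Injective (kap A C B X) := by
  intro a b h
  have h' : (AlgebraTensorModule.distribBaseChange A B X C) ((1 : B) ⊗ₜ[A] a) =
      (AlgebraTensorModule.distribBaseChange A B X C) ((1 : B) ⊗ₜ[A] b) := h
  exact Module.FaithfullyFlat.tensorProduct_mk_injective (A := A) (B := B) (X ⊗[A] C)
    ((AlgebraTensorModule.distribBaseChange A B X C).injective h')

variable {X} in
lemma kap_natural {Y : Type u} [AddCommGroup Y] [Module A Y] (φ : X →ₗ[A] Y) (z : X ⊗[A] C) :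
    (LinearMap.rTensor (B ⊗[A] C) (φ.baseChange B)) (kap A C B X z) =
      kap A C B Y (φ.rTensor C z) := by
  induction z using TensorProduct.induction_on with
  | zero => simp
  | tmul x c => simp [kap_tmul]
  | add a b ha hb => rw [map_add, map_add, map_add, map_add, ha, hb]

variable (V : Type u) [AddCommGroup V] [Module A V]

/-- `v ⊗ d ↦ φ d ⊗ v`. -/
noncomputable def Sl {D : Type u} [AddCommGroup D] [Module A D] (φ : D →ₗ[A] B) :
    V ⊗[A] D →ₗ[A] B ⊗[A] V :=
  (TensorProduct.comm A V B).toLinearMap ∘ₗ (φ.lTensor V)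

lemma Sl_tmul {D : Type u} [AddCommGroup D] [Module A D] (φ : D →ₗ[A] B) (v : V) (d : D) :
    Sl A B V φ (v ⊗ₜ[A] d) = φ d ⊗ₜ[A] v := by
  simp [Sl]

lemma Sl_lTensor {D D' : Type u} [AddCommGroup D] [Module A D] [AddCommGroup D'] [Module A D']
    (χ : D' →ₗ[A] B) (g : D →ₗ[A] D') (z : V ⊗[A] D) :
    Sl A B V χ (g.lTensor V z) = Sl A B V (χ ∘ₗ g) z := by
  induction z using TensorProduct.induction_on with
  | zero => simp
  | tmul v d => simp [Sl_tmul]
  | add a b ha hb => rw [map_add, map_add, map_add, ha, hb]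

lemma slice_kap (f : Module.Dual B (B ⊗[A] C)) (z : V ⊗[A] C) :
    Groth.Agent.H2.slice f (kap A C B V z) = Sl A B V (res A C B f) z := by
  induction z using TensorProduct.induction_on with
  | zero => simp
  | tmul v c =>
    rw [kap_tmul, Groth.Agent.H2.slice_tmul, Sl_tmul, res_apply, TensorProduct.smul_tmul',
      smul_eq_mul, mul_one]
  | add a b ha hb => rw [map_add, map_add, map_add, ha, hb]

/-- `(v ⊗ c') ⊗ c ↦ (ψ c' * φ c) ⊗ v`. -/
noncomputable def Sl2 (ψ φ : C →ₗ[A] B) : (V ⊗[A] C) ⊗[A] C →ₗ[A] B ⊗[A] V :=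
  Sl A B V (LinearMap.mul' A B ∘ₗ TensorProduct.map ψ φ) ∘ₗ
    (TensorProduct.assoc A V C C).toLinearMap

lemma Sl2_tmul (ψ φ : C →ₗ[A] B) (v : V) (c' c : C) :
    Sl2 A C B V ψ φ ((v ⊗ₜ[A] c') ⊗ₜ[A] c) = (ψ c' * φ c) ⊗ₜ[A] v := by
  simp [Sl2, Sl_tmul]

lemma smul_Sl (ψ φ : C →ₗ[A] B) (c : C) (u : V ⊗[A] C) :
    φ c • Sl A B V ψ u = Sl2 A C B V ψ φ (u ⊗ₜ[A] c) := by
  induction u using TensorProduct.induction_on with
  | zero => simp
  | tmul v c' =>
    rw [Sl_tmul, Sl2_tmul, TensorProduct.smul_tmul', smul_eq_mul, mul_comm]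
  | add a b ha hb => rw [map_add, smul_add, ha, hb, TensorProduct.add_tmul, map_add]

/-- the twisted slice `t ⊗ (b ⊗ c) ↦ (b • t) ⊗ f (1 ⊗ c)`. -/
noncomputable def Xi (f : Module.Dual B (B ⊗[A] C)) :
    (B ⊗[A] V) ⊗[B] (B ⊗[A] C) →ₗ[B] (B ⊗[A] V) ⊗[A] B :=
  TensorProduct.lift
    { toFun := fun t =>
        LinearMap.liftBaseChange B ((TensorProduct.mk A (B ⊗[A] V) B t) ∘ₗ (res A C B f))
      map_add' := fun t t' => by
        apply TensorProduct.AlgebraTensorModule.ext
        intro b c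
        simp
      map_smul' := fun b' t => by
        apply TensorProduct.AlgebraTensorModule.ext
        intro b c
        simp only [LinearMap.liftBaseChange_tmul, LinearMap.comp_apply, TensorProduct.mk_apply,
          RingHom.id_apply, LinearMap.smul_apply]
        rw [← TensorProduct.smul_tmul', smul_comm] }

lemma Xi_tmul (f : Module.Dual B (B ⊗[A] C)) (t : B ⊗[A] V) (b : B) (c : C) :
    Xi A C B V f (t ⊗ₜ[B] (b ⊗ₜ[A] c)) = (b • t) ⊗ₜ[A] (f ((1 : B) ⊗ₜ[A] c)) := by
  simp [Xi, res_apply, TensorProduct.smul_tmul']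

lemma comm_Xi_kap (f : Module.Dual B (B ⊗[A] C)) (z : V ⊗[A] C) :
    (TensorProduct.comm A (B ⊗[A] V) B) (Xi A C B V f (kap A C B V z)) =
      (TensorProduct.mk A B V 1).baseChange B (Sl A B V (res A C B f) z) := by
  induction z using TensorProduct.induction_on with
  | zero => simp
  | tmul v c =>
    rw [kap_tmul, Xi_tmul, one_smul, TensorProduct.comm_tmul, Sl_tmul, LinearMap.baseChange_tmul,
      res_apply]
    rfl
  | add a b ha hb => simp only [map_add, ha, hb]

lemma comm_Xi_mem (N : Submodule B (B ⊗[A] V)) (f : Module.Dual B (B ⊗[A] C))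
    (η : N ⊗[B] (B ⊗[A] C)) :
    (TensorProduct.comm A (B ⊗[A] V) B) (Xi A C B V f ((N.subtype.rTensor (B ⊗[A] C)) η)) ∈
      LinearMap.range ((N.restrictScalars A).subtype.baseChange B) := by
  induction η using TensorProduct.induction_on with
  | zero => simp
  | tmul t p =>
    induction p using TensorProduct.induction_on with
    | zero => simp
    | tmul b c =>
      rw [LinearMap.rTensor_tmul, Submodule.subtype_apply, Xi_tmul, TensorProduct.comm_tmul]
      exact ⟨f ((1 : B) ⊗ₜ[A] c) ⊗ₜ[A]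
        (⟨b • (t : B ⊗[A] V), N.smul_mem b t.2⟩ : N.restrictScalars A), rfl⟩
    | add p q hp hq =>
      rw [TensorProduct.tmul_add, map_add, map_add, map_add]
      exact Submodule.add_mem _ hp hq
  | add a b ha hb =>
    rw [map_add, map_add, map_add]
    exact Submodule.add_mem _ ha hb

/-- descent of submodules along a flat map, given the one-sided cocycle inclusion. -/
theorem descent [Module.Flat A B] (N : Submodule B (B ⊗[A] V))
    (hθ : ∀ n ∈ N, (TensorProduct.mk A B V 1).baseChange B n ∈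
        LinearMap.range ((N.restrictScalars A).subtype.baseChange B)) :
    N ≤ (Submodule.comap (TensorProduct.mk A B V 1) (N.restrictScalars A)).baseChange B := by
  obtain ⟨W, hW⟩ : ∃ W : Submodule A V,
      W = Submodule.comap (TensorProduct.mk A B V 1) (N.restrictScalars A) := ⟨_, rfl⟩
  rw [← hW]
  intro n hn
  let πA : (B ⊗[A] V) →ₗ[A] ((B ⊗[A] V) ⧸ N) := (N.mkQ).restrictScalars A
  let g : V →ₗ[A] ((B ⊗[A] V) ⧸ N) := πA ∘ₗ (TensorProduct.mk A B V 1)
  have hg : W ≤ LinearMap.ker g := by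
    intro w hw
    rw [hW] at hw
    exact (Submodule.Quotient.mk_eq_zero N).2 hw
  have hg' : LinearMap.ker g ≤ W := by
    intro v hv
    rw [hW]
    exact (Submodule.Quotient.mk_eq_zero N).1 hv
  let j : (V ⧸ W) →ₗ[A] ((B ⊗[A] V) ⧸ N) := W.liftQ g hg
  have hj : Function.Injective j := by
    rw [← LinearMap.ker_eq_bot]
    exact Submodule.ker_liftQ_eq_bot _ _ _ hg'
  have hjB : Function.Injective (j.lTensor B) :=
    Module.Flat.lTensor_preserves_injective_linearMap j hj
  have hπ : πA ∘ₗ (N.restrictScalars A).subtype = 0 := by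
    ext x
    exact (Submodule.Quotient.mk_eq_zero N).2 x.2
  have key : (W.mkQ.lTensor B) n = 0 := by
    apply hjB
    rw [map_zero, ← LinearMap.comp_apply, ← LinearMap.lTensor_comp]
    have h1 : j ∘ₗ W.mkQ = g := Submodule.liftQ_mkQ W g hg
    rw [h1]
    show (LinearMap.lTensor B (πA ∘ₗ TensorProduct.mk A B V 1)) n = 0
    rw [LinearMap.lTensor_comp, LinearMap.comp_apply]
    obtain ⟨η, hη⟩ := hθ n hn
    have h2 : (LinearMap.lTensor B (TensorProduct.mk A B V 1)) n =
        ((N.restrictScalars A).subtype.lTensor B) η := hη.symm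
    rw [h2, ← LinearMap.comp_apply, ← LinearMap.lTensor_comp, hπ, LinearMap.lTensor_zero,
      LinearMap.zero_apply]
  have hex := lTensor_exact B (LinearMap.exact_subtype_mkQ W) (Submodule.mkQ_surjective W)
  obtain ⟨η, hη⟩ := (hex n).1 key
  exact ⟨η, hη⟩

end Defs

section Comod

variable (A : Type u) [CommRing A] (C : Type u) [AddCommGroup C] [Module A C] [Coalgebra A C]
  (B : Type u) [CommRing B] [Algebra A B]
  (V : Type u) [AddCommGroup V] [Module A V] [HopfRep.Comod A C V]

local notation "ρ" => (HopfRep.Comod.coact (k := A) (A := C) (V := V))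

/-- the base-changed coaction. -/
noncomputable def coactB : (B ⊗[A] V) →ₗ[B] (B ⊗[A] V) ⊗[B] (B ⊗[A] C) :=
  LinearMap.liftBaseChange B ((kap A C B V) ∘ₗ ρ)

lemma coactB_tmul (b : B) (v : V) :
    coactB A C B V (b ⊗ₜ[A] v) = b • kap A C B V (ρ v) := rfl

lemma coactB_one_tmul (v : V) :
    coactB A C B V ((1 : B) ⊗ₜ[A] v) = kap A C B V (ρ v) := by
  rw [coactB_tmul, one_smul]

lemma slice_coactB_one (h : Module.Dual B (B ⊗[A] C)) (m : V) :
    Groth.Agent.H2.slice h (coactB A C B V ((1 : B) ⊗ₜ[A] m)) =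
      Sl A B V (res A C B h) (ρ m) := by
  rw [coactB_one_tmul, slice_kap]

lemma slice_coactB_Sl (h : Module.Dual B (B ⊗[A] C)) (φ : C →ₗ[A] B) (z : V ⊗[A] C) :
    Groth.Agent.H2.slice h (coactB A C B V (Sl A B V φ z)) =
      Sl2 A C B V (res A C B h) φ ((ρ).rTensor C z) := by
  induction z using TensorProduct.induction_on with
  | zero => simp
  | tmul v c =>
    rw [Sl_tmul, coactB_tmul, map_smul, slice_kap, LinearMap.rTensor_tmul, smul_Sl]
  | add a b ha hb => simp only [map_add, ha, hb]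

/-- convolution of functionals. -/
noncomputable def conv (h f : Module.Dual B (B ⊗[A] C)) : Module.Dual B (B ⊗[A] C) :=
  LinearMap.liftBaseChange B
    ((LinearMap.mul' A B) ∘ₗ (TensorProduct.map (res A C B h) (res A C B f)) ∘ₗ
      (CoalgebraStruct.comul (R := A) (A := C)))

lemma res_conv (h f : Module.Dual B (B ⊗[A] C)) :
    res A C B (conv A C B h f) =
      (LinearMap.mul' A B) ∘ₗ (TensorProduct.map (res A C B h) (res A C B f)) ∘ₗ
        (CoalgebraStruct.comul (R := A) (A := C)) := by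
  ext c
  simp [res_apply, conv]

lemma key (h f : Module.Dual B (B ⊗[A] C)) (m : V) :
    Groth.Agent.H2.slice h (coactB A C B V (Sl A B V (res A C B f) (ρ m))) =
      Sl A B V (res A C B (conv A C B h f)) (ρ m) := by
  rw [slice_coactB_Sl, Sl2, LinearMap.comp_apply, LinearEquiv.coe_coe]
  have hco := LinearMap.congr_fun (HopfRep.Comod.coassoc (k := A) (A := C) (V := V)) m
  simp only [LinearMap.coe_comp, Function.comp_apply, LinearEquiv.coe_coe] at hco
  rw [hco, Sl_lTensor, res_conv]
  rfl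

/-- generators of the base-changed generated subcomodule. -/
def genSet (M : Submodule A V) : Set (B ⊗[A] V) :=
  {x | ∃ (f : Module.Dual B (B ⊗[A] C)) (m : V), m ∈ M ∧ x = Sl A B V (res A C B f) (ρ m)}

/-- the `B`-submodule of `B ⊗ V` generated by slices. -/
noncomputable def NN (M : Submodule A V) : Submodule B (B ⊗[A] V) :=
  Submodule.span B (genSet A C B V M)

lemma exists_T [Module.Projective B (B ⊗[A] C)] (M : Submodule A V) {m : V} (hm : m ∈ M) :
    ∃ T : Submodule B (B ⊗[A] V), T.FG ∧ T ≤ NN A C B V M ∧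
      coactB A C B V ((1 : B) ⊗ₜ[A] m) ∈ LinearMap.range (T.subtype.rTensor (B ⊗[A] C)) ∧
      ∀ h : Module.Dual B (B ⊗[A] C),
        Groth.Agent.H2.slice h (coactB A C B V ((1 : B) ⊗ₜ[A] m)) ∈ T := by
  obtain ⟨T, hfg, hyT, hmin⟩ := Groth.Agent.H2.exists_fg_minimal (R := B) (C := B ⊗[A] C)
    (V := B ⊗[A] V) (coactB A C B V ((1 : B) ⊗ₜ[A] m))
  refine ⟨T, hfg, hmin _ (fun h => ?_), hyT, fun h => ?_⟩
  · rw [slice_coactB_one]
    exact Submodule.subset_span ⟨h, m, hm, rfl⟩
  · obtain ⟨y, hy⟩ := hyT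
    rw [← hy]
    exact Groth.Agent.H2.slice_rTensor_mem h T y

theorem NN_isSub [Module.Projective B (B ⊗[A] C)] (M : Submodule A V) (n : B ⊗[A] V)
    (hn : n ∈ NN A C B V M) :
    coactB A C B V n ∈ LinearMap.range ((NN A C B V M).subtype.rTensor (B ⊗[A] C)) := by
  induction hn using Submodule.span_induction with
  | mem x hx =>
    obtain ⟨f, m, hm, rfl⟩ := hx
    obtain ⟨T, -, hyT, hTmin⟩ := Groth.Agent.H2.exists_fg_minimal (R := B) (C := B ⊗[A] C)
      (V := B ⊗[A] V) (coactB A C B V (Sl A B V (res A C B f) (ρ m)))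
    refine Groth.Agent.H2.range_rTensor_mono (hTmin _ fun h => ?_) hyT
    rw [key]
    exact Submodule.subset_span ⟨conv A C B h f, m, hm, rfl⟩
  | zero => rw [map_zero]; exact Submodule.zero_mem _
  | add x y _ _ hx hy => rw [map_add]; exact Submodule.add_mem _ hx hy
  | smul b x _ hx => rw [map_smul]; exact Submodule.smul_mem _ b hx

theorem theta_mem [Module.Projective B (B ⊗[A] C)] (M : Submodule A V) (n : B ⊗[A] V)
    (hn : n ∈ NN A C B V M) :
    (TensorProduct.mk A B V 1).baseChange B n ∈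
      LinearMap.range (((NN A C B V M).restrictScalars A).subtype.baseChange B) := by
  induction hn using Submodule.span_induction with
  | mem x hx =>
    obtain ⟨f, m, hm, rfl⟩ := hx
    obtain ⟨T, -, hTN, hyT, -⟩ := exists_T A C B V M hm
    obtain ⟨η, hη⟩ := Groth.Agent.H2.range_rTensor_mono hTN hyT
    rw [← comm_Xi_kap, ← coactB_one_tmul, ← hη]
    exact comm_Xi_mem A C B V _ f η
  | zero => rw [map_zero]; exact Submodule.zero_mem _
  | add x y _ _ hx hy => rw [map_add]; exact Submodule.add_mem _ hx hy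
  | smul b x _ hx => rw [map_smul]; exact Submodule.smul_mem _ b hx

/-- the descended submodule. -/
noncomputable def WW (M : Submodule A V) : Submodule A V :=
  Submodule.comap (TensorProduct.mk A B V 1) ((NN A C B V M).restrictScalars A)

lemma mem_WW (M : Submodule A V) (v : V) :
    v ∈ WW A C B V M ↔ (1 : B) ⊗ₜ[A] v ∈ NN A C B V M := Iff.rfl

lemma baseChange_WW_le (M : Submodule A V) :
    (WW A C B V M).baseChange B ≤ NN A C B V M := by
  rw [Submodule.baseChange_eq_span, Submodule.span_le]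
  rintro _ ⟨w, hw, rfl⟩
  exact hw

lemma NN_le_baseChange_WW [Module.Flat A B] [Module.Projective B (B ⊗[A] C)]
    (M : Submodule A V) : NN A C B V M ≤ (WW A C B V M).baseChange B :=
  descent A B V (NN A C B V M) (theta_mem A C B V M)

lemma le_WW (M : Submodule A V) : M ≤ WW A C B V M := by
  intro m hm
  rw [mem_WW]
  let εB : Module.Dual B (B ⊗[A] C) :=
    LinearMap.liftBaseChange B ((Algebra.linearMap A B) ∘ₗ (CoalgebraStruct.counit (R := A) (A := C)))
  have hres : res A C B εB = (Algebra.linearMap A B) ∘ₗ (CoalgebraStruct.counit (R := A) (A := C)) := by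
    ext c
    simp [res_apply, εB]
  have h0 : ∀ z : V ⊗[A] C,
      Sl A B V ((Algebra.linearMap A B) ∘ₗ (CoalgebraStruct.counit (R := A) (A := C))) z =
        (1 : B) ⊗ₜ[A] (TensorProduct.rid A V
          ((CoalgebraStruct.counit (R := A) (A := C)).lTensor V z)) := by
    intro z
    induction z using TensorProduct.induction_on with
    | zero => simp
    | tmul v c =>
      rw [Sl_tmul, LinearMap.lTensor_tmul, TensorProduct.rid_tmul, LinearMap.comp_apply,
        Algebra.linearMap_apply, Algebra.algebraMap_eq_smul_one, TensorProduct.smul_tmul]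
    | add a b ha hb => rw [map_add, map_add, map_add, TensorProduct.tmul_add, ha, hb]
  have h1 : Sl A B V (res A C B εB) (ρ m) = (1 : B) ⊗ₜ[A] m := by
    rw [hres, h0, Groth.Agent.H2.rid_counit_coact]
  rw [← h1]
  exact Submodule.subset_span ⟨εB, m, hm, rfl⟩

lemma NN_le_of_isSubcomod (M W' : Submodule A V)
    (hW' : HopfRep.IsSubcomod (k := A) (A := C) W') (h : M ≤ W') :
    NN A C B V M ≤ W'.baseChange B := by
  have keyy : ∀ (φ : C →ₗ[A] B) (y : W' ⊗[A] C),
      Sl A B V φ ((W'.subtype.rTensor C) y) ∈ W'.baseChange B := by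
    intro φ y
    induction y using TensorProduct.induction_on with
    | zero => simp
    | tmul w c =>
      rw [LinearMap.rTensor_tmul, Sl_tmul]
      exact Submodule.tmul_mem_baseChange_of_mem _ w.2
    | add a b ha hb => rw [map_add, map_add]; exact Submodule.add_mem _ ha hb
  rw [NN, Submodule.span_le]
  rintro x ⟨f, m, hm, rfl⟩
  obtain ⟨y, hy⟩ := hW' m (h hm)
  rw [← hy]
  exact keyy _ y

lemma WW_le [Module.FaithfullyFlat A B] (M W' : Submodule A V)
    (hW' : HopfRep.IsSubcomod (k := A) (A := C) W') (h : M ≤ W') : WW A C B V M ≤ W' :=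
  (Submodule.baseChange_le_iff (A := B)).1
    ((baseChange_WW_le A C B V M).trans (NN_le_of_isSubcomod A C B V M W' hW' h))

theorem WW_isSub [Module.FaithfullyFlat A B] [Module.Projective B (B ⊗[A] C)]
    (M : Submodule A V) : HopfRep.IsSubcomod (k := A) (A := C) (WW A C B V M) := by
  intro w hw
  have hex := rTensor_exact C (LinearMap.exact_subtype_mkQ (WW A C B V M))
    (Submodule.mkQ_surjective (WW A C B V M))
  have h0 : ((WW A C B V M).mkQ.rTensor C) (ρ w) = 0 := by
    apply kap_injective A C B (V ⧸ WW A C B V M)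
    rw [map_zero, ← kap_natural]
    obtain ⟨η, hη⟩ := NN_isSub A C B V M ((1 : B) ⊗ₜ[A] w) hw
    rw [← coactB_one_tmul, ← hη, ← LinearMap.comp_apply, ← LinearMap.rTensor_comp]
    have hz : ((WW A C B V M).mkQ.baseChange B) ∘ₗ (NN A C B V M).subtype = 0 := by
      ext ⟨n, hn⟩
      obtain ⟨ζ, hζ⟩ := NN_le_baseChange_WW A C B V M hn
      show ((WW A C B V M).mkQ.baseChange B) n = 0
      rw [← hζ, ← LinearMap.comp_apply, ← LinearMap.baseChange_comp]
      have : (WW A C B V M).mkQ ∘ₗ (WW A C B V M).subtype = 0 := by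
        ext x
        simp
      rw [this, LinearMap.baseChange_zero]
      rfl
    rw [hz, LinearMap.rTensor_zero, LinearMap.zero_apply]
  exact (hex _).1 h0

theorem NN_fg [Module.Projective B (B ⊗[A] C)] (M : Submodule A V) (hM : M.FG) :
    (NN A C B V M).FG := by
  classical
  obtain ⟨S, hS⟩ := hM
  choose T hTfg hTN hyT hTsl using fun m : {m : V // m ∈ M} => exists_T A C B V M m.2
  have hSM : ∀ s ∈ S, s ∈ M := fun s hs => hS ▸ Submodule.subset_span hs
  have heq : NN A C B V M = S.attach.sup (fun s => T ⟨s.1, hSM s.1 s.2⟩) := by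
    apply le_antisymm
    · rw [NN, Submodule.span_le]
      rintro x ⟨f, m, hm, rfl⟩
      have hle : Submodule.span A (S : Set V) ≤ Submodule.comap ((Sl A B V (res A C B f)) ∘ₗ ρ)
          ((S.attach.sup (fun s => T ⟨s.1, hSM s.1 s.2⟩)).restrictScalars A) := by
        rw [Submodule.span_le]
        intro s hs
        show Sl A B V (res A C B f) (ρ s) ∈ S.attach.sup (fun s => T ⟨s.1, hSM s.1 s.2⟩)
        rw [← slice_coactB_one]
        exact (Finset.le_sup (f := fun s : {x // x ∈ S} => T ⟨s.1, hSM s.1 s.2⟩)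
          (Finset.mem_attach S ⟨s, hs⟩)) (hTsl ⟨s, hSM s hs⟩ f)
      exact hle (hS.symm ▸ hm)
    · exact Finset.sup_le fun s _ => hTN _
  rw [heq]
  exact Submodule.fg_finset_sup _ _ fun s _ => hTfg _

theorem WW_fg [Module.FaithfullyFlat A B] [Module.Projective B (B ⊗[A] C)]
    (M : Submodule A V) (hM : M.FG) : (WW A C B V M).FG := by
  have hN : (NN A C B V M).FG := NN_fg A C B V M hM
  have heq : (WW A C B V M).baseChange B = NN A C B V M :=
    le_antisymm (baseChange_WW_le A C B V M) (NN_le_baseChange_WW A C B V M)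
  have hinj : Function.Injective ((WW A C B V M).subtype.baseChange B) :=
    Module.Flat.lTensor_preserves_injective_linearMap _ (Submodule.injective_subtype _)
  have htop : (⊤ : Submodule B (B ⊗[A] (WW A C B V M))).FG := by
    apply Submodule.fg_of_fg_map_injective _ hinj
    rw [Submodule.map_top,
      show LinearMap.range ((WW A C B V M).subtype.baseChange B) = NN A C B V M from heq]
    exact hN
  have : Module.Finite B (B ⊗[A] (WW A C B V M)) := ⟨htop⟩
  have : Module.Finite A (WW A C B V M) :=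
    Module.Finite.of_finite_tensorProduct_of_faithfullyFlat B
  exact Module.Finite.iff_fg.mp inferInstance

theorem main [Module.FaithfullyFlat A B] [Module.Projective B (B ⊗[A] C)] (M : Submodule A V) :
    ∃ W : Submodule A V, HopfRep.IsSubcomod (k := A) (A := C) W ∧ M ≤ W ∧
      (∀ W' : Submodule A V, HopfRep.IsSubcomod (k := A) (A := C) W' → M ≤ W' → W ≤ W') ∧
      (M.FG → W.FG) :=
  ⟨WW A C B V M, WW_isSub A C B V M, le_WW A C B V M,
    fun W' hW' h => WW_le A C B V M W' hW' h, WW_fg A C B V M⟩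

end Comod

end Groth.Agent.H4.ComodDesc
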