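import Mathlib
import Groth.Prelude.Def_VecGrp
import Groth.Prelude.Def_HopfRep

set_option autoImplicit false
universe u
open CategoryTheory MonObj GrpObj AlgebraicGeometry
open scoped TensorProduct
open WithConv

namespace Groth.Agent.H4.ComodGMod

section Core
variable {R : Type u} [CommRing R] {A : Type u} [CommRing A] [Bialgebra R A]
  {E : Type u} [AddCommGroup E] [Module R E]
  {B : Type u} [CommRing B] [Algebra R B]

/-- `y ⊗ a ↦ f a ⊗ y`. -/
noncomputable def theta (f : A →ₐ[R] B) : E ⊗[R] A →ₗ[R] B ⊗[R] E :=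
  (TensorProduct.comm R E B).toLinearMap ∘ₗ LinearMap.lTensor E f.toLinearMap

@[simp] lemma theta_tmul (f : A →ₐ[R] B) (y : E) (a : A) :
    theta f (y ⊗ₜ[R] a) = f a ⊗ₜ[R] y := by simp [theta]

/-- the `B`-linear endomorphism of `B ⊗ E` attached to `δ` and a point `f`. -/
noncomputable def act (δ : E →ₗ[R] E ⊗[R] A) (f : A →ₐ[R] B) : B ⊗[R] E →ₗ[B] B ⊗[R] E :=
  LinearMap.liftBaseChange B (theta f ∘ₗ δ)

lemma act_tmul (δ : E →ₗ[R] E ⊗[R] A) (f : A →ₐ[R] B) (b : B) (x : E) :
    act δ f (b ⊗ₜ[R] x) = b • theta f (δ x) := by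
  simp [act]

lemma act_one_tmul (δ : E →ₗ[R] E ⊗[R] A) (f : A →ₐ[R] B) (x : E) :
    act δ f ((1 : B) ⊗ₜ[R] x) = theta f (δ x) := by
  rw [act_tmul, one_smul]

lemma blin_ext {N : Type*} [AddCommGroup N] [Module B N] {F G : B ⊗[R] E →ₗ[B] N}
    (h : ∀ x : E, F ((1 : B) ⊗ₜ[R] x) = G ((1 : B) ⊗ₜ[R] x)) : F = G := by
  apply LinearMap.ext
  intro z
  induction z using TensorProduct.induction_on with
  | zero => simp
  | tmul b x =>
    have : b ⊗ₜ[R] x = b • ((1 : B) ⊗ₜ[R] x) := by
      rw [TensorProduct.smul_tmul', smul_eq_mul, _root_.mul_one]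
    rw [this, map_smul, map_smul, h]
  | add z w hz hw => rw [map_add, map_add, hz, hw]

lemma Wmap_theta {B' : Type u} [CommRing B'] [Algebra R B'] (φ : B →ₐ[R] B') (f : A →ₐ[R] B)
    (t : E ⊗[R] A) :
    VecGrp.Wmap φ (theta f t) = theta (φ.comp f) t := by
  induction t using TensorProduct.induction_on with
  | zero => simp
  | tmul y a => simp
  | add z w hz hw => simp only [map_add, hz, hw]

lemma Wmap_comm (f : A →ₐ[R] B) (t : E ⊗[R] A) :
    VecGrp.Wmap f (TensorProduct.comm R E A t) = theta f t := by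
  induction t using TensorProduct.induction_on with
  | zero => simp
  | tmul y a => simp
  | add z w hz hw => simp only [map_add, hz, hw]

lemma Wmap_act {B' : Type u} [CommRing B'] [Algebra R B'] (φ : B →ₐ[R] B')
    (δ : E →ₗ[R] E ⊗[R] A) (f : A →ₐ[R] B) (z : B ⊗[R] E) :
    VecGrp.Wmap φ (act δ f z) = act δ (φ.comp f) (VecGrp.Wmap φ z) := by
  induction z using TensorProduct.induction_on with
  | zero => simp
  | tmul b x => rw [act_tmul, VecGrp.Wmap_smul, Wmap_theta, VecGrp.Wmap_tmul, act_tmul]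
  | add z w hz hw => simp only [map_add, hz, hw]

/-- `y ⊗ (a' ⊗ a) ↦ (f a' * g a) ⊗ y`. -/
noncomputable def Phi (f g : A →ₐ[R] B) : E ⊗[R] (A ⊗[R] A) →ₗ[R] B ⊗[R] E :=
  (TensorProduct.comm R E B).toLinearMap ∘ₗ
    LinearMap.lTensor E
      ((Algebra.TensorProduct.lmul' R).comp (Algebra.TensorProduct.map f g)).toLinearMap

lemma Phi_tmul (f g : A →ₐ[R] B) (y : E) (t : A ⊗[R] A) :
    Phi f g (y ⊗ₜ[R] t) =
      (Algebra.TensorProduct.lmul' R (Algebra.TensorProduct.map f g t)) ⊗ₜ[R] y := by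
  simp only [Phi, LinearMap.comp_apply, LinearMap.lTensor_tmul, LinearEquiv.coe_coe,
    TensorProduct.comm_tmul]
  rfl

lemma theta_convMul (f g : A →ₐ[R] B) (t : E ⊗[R] A) :
    theta (toConv f * toConv g).ofConv t =
      Phi f g (LinearMap.lTensor E (CoalgebraStruct.comul (R := R) (A := A)) t) := by
  induction t using TensorProduct.induction_on with
  | zero => simp
  | tmul y a =>
    rw [theta_tmul, LinearMap.lTensor_tmul, Phi_tmul]
    rfl
  | add z w hz hw => simp only [map_add, hz, hw]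

lemma act_theta (δ : E →ₗ[R] E ⊗[R] A) (f g : A →ₐ[R] B) (t : E ⊗[R] A) :
    act δ f (theta g t) =
      Phi f g ((TensorProduct.assoc R E A A) (LinearMap.rTensor A δ t)) := by
  induction t using TensorProduct.induction_on with
  | zero => simp
  | tmul y a =>
    rw [theta_tmul, act_tmul, LinearMap.rTensor_tmul]
    generalize δ y = s
    induction s using TensorProduct.induction_on with
    | zero => simp
    | tmul y' a' =>
      rw [theta_tmul, TensorProduct.assoc_tmul, Phi_tmul, TensorProduct.smul_tmul', smul_eq_mul]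
      simp [mul_comm]
    | add z w hz hw => simp only [map_add, smul_add, TensorProduct.add_tmul, hz, hw]
  | add z w hz hw => simp only [map_add, hz, hw]

lemma act_convMul (δ : E →ₗ[R] E ⊗[R] A)
    (hco : (TensorProduct.assoc R E A A).toLinearMap ∘ₗ δ.rTensor A ∘ₗ δ =
      (CoalgebraStruct.comul (R := R) (A := A)).lTensor E ∘ₗ δ) (f g : A →ₐ[R] B) :
    act δ (toConv f * toConv g).ofConv = act δ f ∘ₗ act δ g := by
  apply blin_ext
  intro x
  rw [LinearMap.comp_apply, act_one_tmul, act_one_tmul, theta_convMul, act_theta]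
  have := LinearMap.congr_fun hco x
  simp only [LinearMap.comp_apply, LinearEquiv.coe_coe] at this
  rw [this]

lemma theta_convOne (t : E ⊗[R] A) :
    theta (1 : WithConv (A →ₐ[R] B)).ofConv t =
      (TensorProduct.comm R E B) (LinearMap.lTensor E (Algebra.linearMap R B)
        (LinearMap.lTensor E (CoalgebraStruct.counit (R := R) (A := A)) t)) := by
  induction t using TensorProduct.induction_on with
  | zero => simp
  | tmul y a =>
    rw [theta_tmul, LinearMap.lTensor_tmul, LinearMap.lTensor_tmul, TensorProduct.comm_tmul]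
    rfl
  | add z w hz hw => simp only [map_add, hz, hw]

lemma act_convOne (δ : E →ₗ[R] E ⊗[R] A)
    (hcu : (CoalgebraStruct.counit (R := R) (A := A)).lTensor E ∘ₗ δ =
      (TensorProduct.mk R E R).flip 1) :
    act δ (1 : WithConv (A →ₐ[R] B)).ofConv = LinearMap.id := by
  apply blin_ext
  intro x
  rw [act_one_tmul, theta_convOne]
  have := LinearMap.congr_fun hcu x
  simp only [LinearMap.comp_apply, LinearMap.flip_apply, TensorProduct.mk_apply] at this
  rw [this]
  simp

end Core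

section Sch

variable (R : Type u) [CommRing R] (A : Type u) [CommRing A] [HopfAlgebra R A]
  {E : Type u} [AddCommGroup E] [Module R E]

/-- The affine group scheme `Spec A` over `Spec R`. -/
noncomputable abbrev GG : Over (Spec (CommRingCat.of R)) :=
  (Spec (CommRingCat.of A)).asOver (Spec (CommRingCat.of R))

variable {R A}
variable {B : Type u} [CommRing B] [Algebra R B]

/-- the algebra map of a point. -/
noncomputable def algOf (g : VecGrp.pt R B ⟶ GG R A) : A →ₐ[R] B :=
  (Spec.mapMulEquiv.symm g).ofConv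

/-- the point of an algebra map. -/
noncomputable def ptOf (f : A →ₐ[R] B) : VecGrp.pt R B ⟶ GG R A :=
  Spec.mapMulEquiv (toConv f)

lemma ptOf_algOf (g : VecGrp.pt R B ⟶ GG R A) : ptOf (algOf g) = g :=
  Spec.mapMulEquiv.apply_symm_apply g

lemma algOf_ptOf (f : A →ₐ[R] B) : algOf (ptOf f) = f :=
  congrArg WithConv.ofConv (Spec.mapMulEquiv.symm_apply_apply (toConv f))

lemma ptOf_comp {B' : Type u} [CommRing B'] [Algebra R B'] (φ : B →ₐ[R] B') (f : A →ₐ[R] B) :
    ptOf (φ.comp f) = VecGrp.ptMap φ ≫ ptOf f := by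
  apply Over.OverMorphism.ext
  change Spec.map (CommRingCat.ofHom (φ.comp f).toRingHom) =
    Spec.map (CommRingCat.ofHom φ.toRingHom) ≫ Spec.map (CommRingCat.ofHom f.toRingHom)
  rw [← Spec.map_comp]
  rfl

lemma algOf_ptMap_comp {B' : Type u} [CommRing B'] [Algebra R B'] (φ : B →ₐ[R] B')
    (g : VecGrp.pt R B ⟶ GG R A) :
    algOf (VecGrp.ptMap φ ≫ g) = φ.comp (algOf g) := by
  rw [← algOf_ptOf (φ.comp (algOf g)), ptOf_comp, ptOf_algOf]

lemma algOf_mul (g h : VecGrp.pt R B ⟶ GG R A) :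
    algOf (g * h) = (toConv (algOf g) * toConv (algOf h)).ofConv := by
  have := Spec.mapMulEquiv.symm.map_mul g h
  exact congrArg WithConv.ofConv this

lemma algOf_one : algOf (1 : VecGrp.pt R B ⟶ GG R A) = (1 : WithConv (A →ₐ[R] B)).ofConv := by
  have := Spec.mapMulEquiv.symm.map_one (M := VecGrp.pt R B ⟶ GG R A)
  exact congrArg WithConv.ofConv this

lemma ptOf_mul (f f' : A →ₐ[R] B) :
    ptOf (toConv f * toConv f').ofConv = (ptOf f * ptOf f' : VecGrp.pt R B ⟶ GG R A) := by
  have := Spec.mapMulEquiv.map_mul (toConv f) (toConv f')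
    (N := VecGrp.pt R B ⟶ GG R A)
  exact this

/-- the monoid hom to endomorphisms. -/
noncomputable def rhoEnd (δ : E →ₗ[R] E ⊗[R] A)
    (hco : (TensorProduct.assoc R E A A).toLinearMap ∘ₗ δ.rTensor A ∘ₗ δ =
      (CoalgebraStruct.comul (R := R) (A := A)).lTensor E ∘ₗ δ)
    (hcu : (CoalgebraStruct.counit (R := R) (A := A)).lTensor E ∘ₗ δ =
      (TensorProduct.mk R E R).flip 1)
    (B : Type u) [CommRing B] [Algebra R B] :
    (VecGrp.pt R B ⟶ GG R A) →* Module.End B (B ⊗[R] E) where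
  toFun g := act δ (algOf g)
  map_one' := by
    rw [algOf_one]
    exact act_convOne δ hcu
  map_mul' g h := by
    rw [algOf_mul]
    exact act_convMul δ hco _ _

/-- the `G`-module of a comodule. -/
noncomputable def gmodOf (δ : E →ₗ[R] E ⊗[R] A)
    (hco : (TensorProduct.assoc R E A A).toLinearMap ∘ₗ δ.rTensor A ∘ₗ δ =
      (CoalgebraStruct.comul (R := R) (A := A)).lTensor E ∘ₗ δ)
    (hcu : (CoalgebraStruct.counit (R := R) (A := A)).lTensor E ∘ₗ δ =
      (TensorProduct.mk R E R).flip 1) : VecGrp.GMod (GG R A) E where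
  ρ B _ _ := (LinearMap.GeneralLinearGroup.generalLinearEquiv B (B ⊗[R] E)).toMonoidHom.comp
      (rhoEnd δ hco hcu B).toHomUnits
  naturality φ g x := by
    change VecGrp.Wmap φ (act δ (algOf g) x) = act δ (algOf (VecGrp.ptMap φ ≫ g)) (VecGrp.Wmap φ x)
    rw [Wmap_act, algOf_ptMap_comp]

lemma gmodOf_apply (δ : E →ₗ[R] E ⊗[R] A)
    (hco : (TensorProduct.assoc R E A A).toLinearMap ∘ₗ δ.rTensor A ∘ₗ δ =
      (CoalgebraStruct.comul (R := R) (A := A)).lTensor E ∘ₗ δ)
    (hcu : (CoalgebraStruct.counit (R := R) (A := A)).lTensor E ∘ₗ δ =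
      (TensorProduct.mk R E R).flip 1) (g : VecGrp.pt R B ⟶ GG R A) (z : B ⊗[R] E) :
    (gmodOf δ hco hcu).ρ B g z = act δ (algOf g) z := rfl

lemma gmod_ext {m₁ m₂ : VecGrp.GMod (GG R A) E}
    (h : ∀ (B : Type u) [CommRing B] [Algebra R B] (g : VecGrp.pt R B ⟶ GG R A) (x : E),
      m₁.ρ B g ((1 : B) ⊗ₜ[R] x) = m₂.ρ B g ((1 : B) ⊗ₜ[R] x)) : m₁ = m₂ := by
  cases m₁ with
  | mk ρ₁ n₁ =>
  cases m₂ with
  | mk ρ₂ n₂ =>
  have : ρ₁ = ρ₂ := by
    funext B _ _
    apply MonoidHom.ext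
    intro g
    apply LinearEquiv.toLinearMap_injective
    apply blin_ext
    intro x
    exact h B g x
  subst this
  rfl

/-- the universal point. -/
noncomputable def gu : VecGrp.pt R A ⟶ GG R A := ptOf (AlgHom.id R A)

/-- the coaction of a `G`-module. -/
noncomputable def deltaOf (m : VecGrp.GMod (GG R A) E) : E →ₗ[R] E ⊗[R] A :=
  (TensorProduct.comm R A E).toLinearMap ∘ₗ
    ((m.ρ A gu).toLinearMap.restrictScalars R) ∘ₗ (TensorProduct.mk R A E 1)

lemma comm_deltaOf (m : VecGrp.GMod (GG R A) E) (x : E) :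
    (TensorProduct.comm R E A) (deltaOf m x) = m.ρ A gu ((1 : A) ⊗ₜ[R] x) := by
  simp [deltaOf]

lemma formula (m : VecGrp.GMod (GG R A) E) (g : VecGrp.pt R B ⟶ GG R A) (x : E) :
    m.ρ B g ((1 : B) ⊗ₜ[R] x) = theta (algOf g) (deltaOf m x) := by
  have h1 : VecGrp.ptMap (algOf g) ≫ gu = g := by
    rw [gu, ← ptOf_comp, AlgHom.comp_id, ptOf_algOf]
  have h2 := m.naturality (algOf g) gu ((1 : A) ⊗ₜ[R] x)
  rw [h1, VecGrp.Wmap_tmul, map_one] at h2
  rw [← h2, ← comm_deltaOf, Wmap_comm]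

lemma rho_eq_act (m : VecGrp.GMod (GG R A) E) (g : VecGrp.pt R B ⟶ GG R A) :
    (m.ρ B g).toLinearMap = act (deltaOf m) (algOf g) := by
  apply blin_ext
  intro x
  rw [act_one_tmul]
  exact formula m g x

lemma lmul'_map_include :
    (Algebra.TensorProduct.lmul' R).comp
      (Algebra.TensorProduct.map (Algebra.TensorProduct.includeLeft : A →ₐ[R] A ⊗[R] A)
        (Algebra.TensorProduct.includeRight : A →ₐ[R] A ⊗[R] A)) = AlgHom.id R (A ⊗[R] A) := by
  apply Algebra.TensorProduct.ext'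
  intro a b
  simp

lemma Phi_include (s : E ⊗[R] (A ⊗[R] A)) :
    Phi (Algebra.TensorProduct.includeLeft : A →ₐ[R] A ⊗[R] A)
      (Algebra.TensorProduct.includeRight : A →ₐ[R] A ⊗[R] A) s =
      TensorProduct.comm R E (A ⊗[R] A) s := by
  simp only [Phi, lmul'_map_include]
  simp

lemma deltaOf_coassoc (m : VecGrp.GMod (GG R A) E) :
    (TensorProduct.assoc R E A A).toLinearMap ∘ₗ (deltaOf m).rTensor A ∘ₗ deltaOf m =
      (CoalgebraStruct.comul (R := R) (A := A)).lTensor E ∘ₗ deltaOf m := by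
  apply LinearMap.ext
  intro x
  simp only [LinearMap.comp_apply, LinearEquiv.coe_coe]
  set f₁ : A →ₐ[R] A ⊗[R] A := Algebra.TensorProduct.includeLeft
  set f₂ : A →ₐ[R] A ⊗[R] A := Algebra.TensorProduct.includeRight
  have hmul := m.ρ (A ⊗[R] A) |>.map_mul (ptOf f₁) (ptOf f₂)
  have h3 := congrArg (fun e => e ((1 : A ⊗[R] A) ⊗ₜ[R] x)) hmul
  simp only [LinearEquiv.mul_apply] at h3
  rw [← ptOf_mul, formula, formula, algOf_ptOf, algOf_ptOf] at h3
  have h4 : (m.ρ (A ⊗[R] A) (ptOf f₁)) (theta f₂ (deltaOf m x)) =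
      act (deltaOf m) f₁ (theta f₂ (deltaOf m x)) := by
    have := rho_eq_act m (ptOf f₁ : VecGrp.pt R (A ⊗[R] A) ⟶ GG R A)
    rw [algOf_ptOf] at this
    exact LinearMap.congr_fun this _
  rw [h4, theta_convMul, act_theta, Phi_include, Phi_include] at h3
  exact ((TensorProduct.comm R E (A ⊗[R] A)).injective h3).symm

lemma deltaOf_counit (m : VecGrp.GMod (GG R A) E) :
    (CoalgebraStruct.counit (R := R) (A := A)).lTensor E ∘ₗ deltaOf m =
      (TensorProduct.mk R E R).flip 1 := by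
  apply LinearMap.ext
  intro x
  simp only [LinearMap.comp_apply, LinearMap.flip_apply, TensorProduct.mk_apply]
  have h1 := (m.ρ R).map_one
  have h3 := congrArg (fun e => e ((1 : R) ⊗ₜ[R] x)) h1
  simp only [LinearEquiv.coe_one, id_eq] at h3
  rw [formula, algOf_one, theta_convOne] at h3
  have h5 : Algebra.linearMap R R = LinearMap.id := by
    ext; simp
  rw [h5, LinearMap.lTensor_id, LinearMap.id_apply] at h3
  have := congrArg (TensorProduct.comm R E R).symm h3
  simpa using this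

theorem main (R : Type u) [CommRing R] (A : Type u) [CommRing A] [HopfAlgebra R A]
    (E : Type u) [AddCommGroup E] [Module R E] :
    (∀ [HopfRep.Comod R A E], ∃! m : VecGrp.GMod ((Spec (CommRingCat.of A)).asOver (Spec (CommRingCat.of R))) E,
        (∀ (B : Type u) [CommRing B] [Algebra R B] (g : VecGrp.pt R B ⟶ ((Spec (CommRingCat.of A)).asOver (Spec (CommRingCat.of R)))) (x : E),
          m.ρ B g ((1 : B) ⊗ₜ[R] x) =
            (TensorProduct.comm R E B) (LinearMap.lTensor E (Spec.mapMulEquiv.symm g).ofConv.toLinearMap (HopfRep.Comod.coact (k := R) (A := A) x)))) ∧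
    (∀ m : VecGrp.GMod ((Spec (CommRingCat.of A)).asOver (Spec (CommRingCat.of R))) E, ∃! δ : E →ₗ[R] E ⊗[R] A,
        ((TensorProduct.assoc R E A A).toLinearMap ∘ₗ δ.rTensor A ∘ₗ δ =
            (CoalgebraStruct.comul (R := R) (A := A)).lTensor E ∘ₗ δ ∧
          (CoalgebraStruct.counit (R := R) (A := A)).lTensor E ∘ₗ δ = (TensorProduct.mk R E R).flip 1) ∧
        (∀ (B : Type u) [CommRing B] [Algebra R B] (g : VecGrp.pt R B ⟶ ((Spec (CommRingCat.of A)).asOver (Spec (CommRingCat.of R)))) (x : E),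
          m.ρ B g ((1 : B) ⊗ₜ[R] x) =
            (TensorProduct.comm R E B) (LinearMap.lTensor E (Spec.mapMulEquiv.symm g).ofConv.toLinearMap (δ x)))) := by
  constructor
  · intro inst
    refine ⟨gmodOf (HopfRep.Comod.coact (k := R) (A := A) (V := E)) HopfRep.Comod.coassoc
      HopfRep.Comod.counit_comp, ?_, ?_⟩
    · intro B _ _ g x
      rw [gmodOf_apply, act_one_tmul]
      rfl
    · intro m' hm'
      apply gmod_ext
      intro B _ _ g x
      rw [hm' B g x, gmodOf_apply, act_one_tmul]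
      rfl
  · intro m
    refine ⟨deltaOf m, ⟨⟨deltaOf_coassoc m, deltaOf_counit m⟩, ?_⟩, ?_⟩
    · intro B _ _ g x
      rw [formula]
      rfl
    · rintro δ' ⟨-, hδ'⟩
      apply LinearMap.ext
      intro x
      have h1 := hδ' A gu x
      have h2 := formula m (gu : VecGrp.pt R A ⟶ GG R A) x
      rw [h1] at h2
      have h3 : (Spec.mapMulEquiv.symm (gu : VecGrp.pt R A ⟶ GG R A)).ofConv = AlgHom.id R A :=
        algOf_ptOf _
      have h4 : algOf (gu : VecGrp.pt R A ⟶ GG R A) = AlgHom.id R A := algOf_ptOf _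
      rw [h3, h4] at h2
      simp only [theta, LinearMap.comp_apply, LinearEquiv.coe_coe] at h2
      have h5 : (AlgHom.id R A).toLinearMap = LinearMap.id := rfl
      rw [h5, LinearMap.lTensor_id, LinearMap.id_apply, LinearMap.id_apply] at h2
      exact (TensorProduct.comm R E A).injective h2

end Sch

end Groth.Agent.H4.ComodGMod
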