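import Mathlib
import Groth.Prelude
import Groth.Agent.S7881

set_option autoImplicit false
universe u u' v
open CategoryTheory CategoryTheory.Limits

namespace Groth.Agent.H4.CompactAdj
open CohDer

section compact
variable {D : Type u} [Category.{v} D] [Preadditive D] [HasCoproducts.{v} D]

/-- the projections of a coproduct -/
noncomputable def sigmaπ {κ : Type v} (X : κ → D) (k : κ) : ∐ X ⟶ X k := by
  classical
  exact Sigma.desc (fun j => if h : j = k then eqToHom (by rw [h]) else 0)

lemma ι_sigmaπ_self {κ : Type v} (X : κ → D) (k : κ) : Sigma.ι X k ≫ sigmaπ X k = 𝟙 _ := by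
  classical
  unfold sigmaπ
  rw [Sigma.ι_desc, dif_pos rfl, eqToHom_refl]

lemma ι_sigmaπ_ne {κ : Type v} (X : κ → D) (j k : κ) (h : j ≠ k) :
    Sigma.ι X j ≫ sigmaπ X k = 0 := by
  classical
  unfold sigmaπ
  rw [Sigma.ι_desc, dif_neg h]

open Classical in
lemma homSum_of (K : D) {κ : Type v} (X : κ → D) (k : κ) (g : K ⟶ X k) :
    homSumToHomCoprod K X (DirectSum.of (fun i => K ⟶ X i) k g) = g ≫ Sigma.ι X k := by
  classical
  unfold homSumToHomCoprod
  rw [DirectSum.toAddMonoid_of]
  rfl

lemma homSum_comp_sigmaπ (K : D) {κ : Type v} (X : κ → D) (k : κ)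
    (x : DirectSum κ (fun i => K ⟶ X i)) :
    homSumToHomCoprod K X x ≫ sigmaπ X k = x k := by
  classical
  let φ : DirectSum κ (fun i => K ⟶ X i) →+ (K ⟶ X k) :=
    (Preadditive.rightComp K (sigmaπ X k)).comp (homSumToHomCoprod K X)
  let ψ : DirectSum κ (fun i => K ⟶ X i) →+ (K ⟶ X k) := DFinsupp.evalAddMonoidHom k
  have hφψ : φ = ψ := by
    refine DirectSum.addHom_ext (fun j y => ?_)
    show homSumToHomCoprod K X (DirectSum.of (fun i => K ⟶ X i) j y) ≫ sigmaπ X k =
      (DirectSum.of (fun i => K ⟶ X i) j y) k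
    rw [homSum_of, Category.assoc]
    by_cases hjk : j = k
    · subst hjk
      rw [ι_sigmaπ_self, Category.comp_id, DirectSum.of_eq_same]
    · rw [ι_sigmaπ_ne X j k hjk, comp_zero, DirectSum.of_eq_of_ne _ _ _ (Ne.symm hjk)]
  exact DFunLike.congr_fun hφψ x

lemma homSum_eq_sum (K : D) {κ : Type v} (X : κ → D) (x : DirectSum κ (fun i => K ⟶ X i)) :
    ∃ s : Finset κ, homSumToHomCoprod K X x = ∑ k ∈ s, x k ≫ Sigma.ι X k := by
  classical
  refine ⟨DFinsupp.support x, ?_⟩
  have h := congrArg (homSumToHomCoprod K X) (DirectSum.sum_support_of x)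
  rw [map_sum] at h
  rw [← h]
  exact Finset.sum_congr rfl (fun k _ => homSum_of K X k (x k))

lemma isCompact_iff (K : D) : IsCompactObject K ↔ ∀ (κ : Type v) (X : κ → D) (f : K ⟶ ∐ X),
    ∃ (s : Finset κ) (g : ∀ k, K ⟶ X k), f = ∑ k ∈ s, g k ≫ Sigma.ι X k := by
  classical
  constructor
  · intro h κ X f
    obtain ⟨x, rfl⟩ := (h κ X).2 f
    obtain ⟨s, hs⟩ := homSum_eq_sum K X x
    exact ⟨s, fun k => x k, hs⟩
  · intro h κ X
    constructor
    · rw [injective_iff_map_eq_zero]
      intro x hx
      refine DFinsupp.ext (fun k => ?_)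
      have := homSum_comp_sigmaπ K X k x
      rw [hx, zero_comp] at this
      exact this.symm
    · intro f
      obtain ⟨s, g, rfl⟩ := h κ X f
      refine ⟨∑ k ∈ s, DirectSum.of _ k (g k), ?_⟩
      rw [map_sum]
      exact Finset.sum_congr rfl (fun k _ => homSum_of K X k (g k))

lemma eq_zero_of_sum_comp_ι_eq_zero {K : D} {κ : Type v} (X : κ → D) (s : Finset κ)
    (a : ∀ k, K ⟶ X k) (h : ∑ k ∈ s, a k ≫ Sigma.ι X k = 0) : ∀ k ∈ s, a k = 0 := by
  classical
  intro k hk
  have h1 : (∑ j ∈ s, a j ≫ Sigma.ι X j) ≫ sigmaπ X k = 0 := by rw [h, zero_comp]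
  rw [Preadditive.sum_comp, Finset.sum_eq_single k] at h1
  · rwa [Category.assoc, ι_sigmaπ_self, Category.comp_id] at h1
  · intro j _ hj
    rw [Category.assoc, ι_sigmaπ_ne X j k hj, comp_zero]
  · intro hk'
    exact absurd hk hk'

lemma isCompact_of_iso {K K' : D} (e : K ≅ K') (h : IsCompactObject K) : IsCompactObject K' := by
  rw [isCompact_iff] at h ⊢
  intro κ X f
  obtain ⟨s, g, hg⟩ := h κ X (e.hom ≫ f)
  refine ⟨s, fun k => e.inv ≫ g k, ?_⟩
  have : f = e.inv ≫ (e.hom ≫ f) := by rw [Iso.inv_hom_id_assoc]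
  rw [this, hg, Preadditive.comp_sum]
  exact Finset.sum_congr rfl (fun k _ => (Category.assoc _ _ _).symm)

section adj
variable {E : Type u'} [Category.{v} E] [Preadditive E] [HasCoproducts.{v} E]
  {F : D ⥤ E} {G : E ⥤ D} (adj : F ⊣ G) [F.Additive]

include adj in
lemma isCompact_map_of_preserves [∀ κ : Type v, PreservesColimitsOfShape (Discrete κ) G] {K : D}
    (h : IsCompactObject K) : IsCompactObject (F.obj K) := by
  rw [isCompact_iff] at h ⊢
  intro κ X f
  obtain ⟨s, g, hg⟩ := h κ (fun k => G.obj (X k))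
    (adj.homEquiv _ _ f ≫ inv (sigmaComparison G X))
  refine ⟨s, fun k => (adj.homEquiv _ _).symm (g k), ?_⟩
  have h1 : adj.homEquiv _ _ f = ∑ k ∈ s, g k ≫ G.map (Sigma.ι X k) := by
    have : adj.homEquiv _ _ f =
        (adj.homEquiv _ _ f ≫ inv (sigmaComparison G X)) ≫ sigmaComparison G X := by
      rw [Category.assoc, IsIso.inv_hom_id, Category.comp_id]
    rw [this, hg, Preadditive.sum_comp]
    refine Finset.sum_congr rfl (fun k _ => ?_)
    rw [Category.assoc, ι_comp_sigmaComparison]
  apply (adj.homEquiv _ _).injective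
  rw [h1]
  have := map_sum (adj.homAddEquiv K (∐ X))
    (fun k => (adj.homEquiv _ _).symm (g k) ≫ Sigma.ι X k) s
  simp only [Adjunction.homAddEquiv_apply] at this
  rw [this]
  refine Finset.sum_congr rfl (fun k _ => ?_)
  rw [Adjunction.homEquiv_naturality_right, Equiv.apply_symm_apply]

include adj in
lemma bijective_comp_sigmaComparison {T : D} (hT : IsCompactObject T)
    (hFT : IsCompactObject (F.obj T)) {κ : Type v} (X : κ → E) :
    Function.Bijective
      (fun g : T ⟶ ∐ (fun k => G.obj (X k)) => g ≫ sigmaComparison G X) := by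
  rw [isCompact_iff] at hT hFT
  constructor
  · intro g g' hgg
    have h0 : (g - g') ≫ sigmaComparison G X = 0 := by
      rw [Preadditive.sub_comp]
      exact sub_eq_zero.2 hgg
    obtain ⟨s, b, hb⟩ := hT κ _ (g - g')
    rw [hb, Preadditive.sum_comp] at h0
    have h1 : ∑ k ∈ s, (adj.homEquiv _ _).symm (b k) ≫ Sigma.ι X k = 0 := by
      apply (adj.homEquiv _ _).injective
      have := map_sum (adj.homAddEquiv T (∐ X))
        (fun k => (adj.homEquiv _ _).symm (b k) ≫ Sigma.ι X k) s
      simp only [Adjunction.homAddEquiv_apply] at this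
      rw [this, Adjunction.homAddEquiv_zero, ← h0]
      refine Finset.sum_congr rfl (fun k _ => ?_)
      rw [Adjunction.homEquiv_naturality_right, Equiv.apply_symm_apply, Category.assoc,
        ι_comp_sigmaComparison]
    have h2 := eq_zero_of_sum_comp_ι_eq_zero X s _ h1
    have h3 : g - g' = 0 := by
      rw [hb]
      refine Finset.sum_eq_zero (fun k hk => ?_)
      have hbk : b k = 0 := by
        have := congrArg (adj.homEquiv _ _) (h2 k hk)
        rwa [Equiv.apply_symm_apply, Adjunction.homAddEquiv_zero] at this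
      rw [hbk, zero_comp]
    exact sub_eq_zero.1 h3
  · intro h
    obtain ⟨s, a, ha⟩ := hFT κ X ((adj.homEquiv _ _).symm h)
    refine ⟨∑ k ∈ s, adj.homEquiv _ _ (a k) ≫ Sigma.ι (fun k => G.obj (X k)) k, ?_⟩
    show (∑ k ∈ s, adj.homEquiv _ _ (a k) ≫ Sigma.ι (fun k => G.obj (X k)) k) ≫
      sigmaComparison G X = h
    rw [Preadditive.sum_comp]
    have hh : h = adj.homEquiv _ _ ((adj.homEquiv _ _).symm h) :=
      (Equiv.apply_symm_apply _ _).symm
    rw [hh, ha]
    have := map_sum (adj.homAddEquiv T (∐ X)) (fun k => a k ≫ Sigma.ι X k) s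
    simp only [Adjunction.homAddEquiv_apply] at this
    rw [this]
    refine Finset.sum_congr rfl (fun k _ => ?_)
    rw [Category.assoc, ι_comp_sigmaComparison, Adjunction.homEquiv_naturality_right]

end adj

lemma isCompact_shift [HasShift D ℤ] [∀ n : ℤ, (shiftFunctor D n).Additive] (K : D)
    (h : IsCompactObject K) (m : ℤ) : IsCompactObject ((shiftFunctor D m).obj K) := by
  have sa : shiftFunctor D m ⊣ shiftFunctor D (-m) :=
    (shiftEquiv' D m (-m) (by omega)).toAdjunction
  have sb : shiftFunctor D (-m) ⊣ shiftFunctor D m :=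
    (shiftEquiv' D (-m) m (by omega)).toAdjunction
  haveI : PreservesColimitsOfSize.{v, v} (shiftFunctor D (-m)) := sb.leftAdjoint_preservesColimits
  exact isCompact_map_of_preserves sa h

end compact

theorem main
    {D : Type u} [Category.{v} D] [Preadditive D] [HasZeroObject D] [HasShift D ℤ]
    [∀ n : ℤ, (shiftFunctor D n).Additive] [Pretriangulated D] [IsTriangulated D]
    [HasCoproducts.{v} D]
    {E : Type u'} [Category.{v} E] [Preadditive E] [HasZeroObject E] [HasShift E ℤ]
    [∀ n : ℤ, (shiftFunctor E n).Additive] [Pretriangulated E] [IsTriangulated E]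
    [HasCoproducts.{v} E]
    {ι : Type v} (S : ι → D) (hSc : ∀ i, CohDer.IsCompactObject (S i)) (hSg : CohDer.Generates S)
    (F : D ⥤ E) [F.CommShift ℤ] [F.IsTriangulated]
    (G : E ⥤ D) (adj : F ⊣ G) :
    (∀ (κ : Type v), PreservesColimitsOfShape (Discrete κ) G) ↔
      ∀ i, CohDer.IsCompactObject (F.obj (S i)) := by
  constructor
  · intro hG i
    exact isCompact_map_of_preserves adj (hSc i)
  · intro hc κ
    haveI : ∀ X : κ → E, PreservesColimit (Discrete.functor X) G := by
      intro X
      haveI : IsIso (sigmaComparison G X) := by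
        rw [Groth.Agent.S7881.result S hSg]
        intro i n
        have hT : IsCompactObject ((shiftFunctor D (-n)).obj (S i)) :=
          isCompact_shift (S i) (hSc i) (-n)
        have hFT : IsCompactObject (F.obj ((shiftFunctor D (-n)).obj (S i))) :=
          isCompact_of_iso ((F.commShiftIso (-n)).app (S i)).symm
            (isCompact_shift (F.obj (S i)) (hc i) (-n))
        have hb := bijective_comp_sigmaComparison adj hT hFT X
        have sa : shiftFunctor D (-n) ⊣ shiftFunctor D n :=
          (shiftEquiv' D (-n) n (by omega)).toAdjunction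
        have hfun : (fun g : S i ⟶ (shiftFunctor D n).obj (∐ fun k => G.obj (X k)) =>
            g ≫ (shiftFunctor D n).map (sigmaComparison G X)) =
            (sa.homEquiv _ _) ∘ (fun g => g ≫ sigmaComparison G X) ∘ (sa.homEquiv _ _).symm := by
          funext g
          simp only [Function.comp_apply]
          rw [Adjunction.homEquiv_naturality_right, Equiv.apply_symm_apply]
        rw [hfun]
        exact (sa.homEquiv _ _).bijective.comp (hb.comp (sa.homEquiv _ _).symm.bijective)
      exact PreservesCoproduct.of_iso_comparison G X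
    exact preservesColimitsOfShape_of_discrete G

end Groth.Agent.H4.CompactAdj
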