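import Mathlib
import Groth.Prelude.Def_FSch3
import Groth.Agent.Lib.Helper5.AdicLimFin.A
import Groth.Agent.Lib.Helper9.Misc.AdicLe

set_option linter.unusedSectionVars false
set_option linter.unusedVariables false
set_option linter.style.haveILetI false
set_option autoImplicit false

universe u

noncomputable section

namespace Groth.Agent.H4.ComplFin

open AdicCompletion TensorProduct

section Compl
variable {S T : Type u} [CommRing S] [CommRing T]

lemma evalₐ_complMap (I : Ideal S) (K : Ideal T) (g : S →+* T) (h : I.map g ≤ K) (k : ℕ)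
    (x : AdicCompletion I S) :
    evalₐ K k (FSch.complMap I K g h x) =
      Ideal.quotientMap (K ^ k) g (FSch.pow_le_comap_pow_of_map_le I K g h k) (evalₐ I k x) := by
  unfold FSch.complMap
  generalize_proofs
  exact AdicCompletion.evalₐ_liftRingHom K _ (by assumption) k x

lemma evalₐ_complMap_mk (I : Ideal S) (K : Ideal T) (g : S →+* T) (h : I.map g ≤ K) (k : ℕ)
    (f : AdicCauchySequence I S) :
    evalₐ K k (FSch.complMap I K g h (AdicCompletion.mk I S f)) =
      Ideal.Quotient.mk (K ^ k) (g (f.val k)) := by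
  rw [evalₐ_complMap, evalₐ_mk, Ideal.quotientMap_mk]

theorem complMap_id_bijective (I K : Ideal S) (h' : I.map (RingHom.id S) ≤ K) (t : ℕ) (ht : 1 ≤ t)
    (hKI : K ^ t ≤ I) : Function.Bijective (FSch.complMap I K (RingHom.id S) h') := by
  have hpow : ∀ k, K ^ (t * k) ≤ I ^ k := fun k => by
    rw [pow_mul]; exact Ideal.pow_right_mono hKI k
  have hmem : ∀ {J : Ideal S} {k : ℕ} {a b : S},
      a ≡ b [SMOD (J ^ k • ⊤ : Submodule S S)] ↔ a - b ∈ J ^ k := by
    intro J k a b
    rw [SModEq.sub_mem]; simp
  constructor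
  · rw [injective_iff_map_eq_zero]
    intro x hx
    obtain ⟨f, rfl⟩ := AdicCompletion.mk_surjective I S x
    apply ext_evalₐ
    intro k
    rw [_root_.map_zero, evalₐ_mk, Ideal.Quotient.eq_zero_iff_mem]
    have h1 : f.val (t * k) ∈ K ^ (t * k) := by
      have := congrArg (evalₐ K (t * k)) hx
      rw [evalₐ_complMap_mk, _root_.map_zero, Ideal.Quotient.eq_zero_iff_mem] at this
      simpa using this
    have h2 : f.val k - f.val (t * k) ∈ I ^ k :=
      hmem.1 (f.property (Nat.le_mul_of_pos_left k ht))
    have := (I ^ k).add_mem h2 (hpow k h1)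
    simpa using this
  · intro y
    obtain ⟨f, rfl⟩ := AdicCompletion.mk_surjective K S y
    have hf' : IsAdicCauchy I S (fun k => f.val (t * k)) := by
      intro m n hmn
      rw [hmem]
      have : f.val (t * m) - f.val (t * n) ∈ K ^ (t * m) :=
        hmem.1 (f.property (Nat.mul_le_mul_left t hmn))
      exact hpow m this
    refine ⟨AdicCompletion.mk I S ⟨_, hf'⟩, ?_⟩
    · apply ext_evalₐ
      intro k
      rw [evalₐ_mk]
      refine (evalₐ_complMap_mk I K (RingHom.id S) h' k ⟨_, hf'⟩).trans ?_
      rw [RingHom.id_apply, Ideal.Quotient.eq]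
      have h3 : f.val k - f.val (t * k) ∈ K ^ k :=
        hmem.1 (f.property (Nat.le_mul_of_pos_left k ht))
      have := (K ^ k).neg_mem h3
      simpa using this

end Compl

section StepA
variable (R S : Type u) [CommRing R] [CommRing S] [IsLocalRing R] [IsLocalRing S] [Algebra R S]

def e0 : (R ⧸ IsLocalRing.maximalIdeal R) ≃ₗ[R] (IsLocalRing.maximalIdeal R).ResidueField :=
  LinearEquiv.ofBijective
    (IsScalarTower.toAlgHom R (R ⧸ IsLocalRing.maximalIdeal R)
      (IsLocalRing.maximalIdeal R).ResidueField).toLinearMap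
    (Ideal.bijective_algebraMap_quotient_residueField _)

def fibEquiv : ((IsLocalRing.maximalIdeal R).Fiber S) ≃ₗ[R]
    S ⧸ (IsLocalRing.maximalIdeal R • ⊤ : Submodule R S) :=
  (TensorProduct.congr (e0 R).symm (LinearEquiv.refl R S)) ≪≫ₗ
    TensorProduct.quotTensorEquivQuotSMul S (IsLocalRing.maximalIdeal R)

lemma fibEquiv_one_tmul (s : S) :
    fibEquiv R S ((1 : (IsLocalRing.maximalIdeal R).ResidueField) ⊗ₜ[R] s) =
      Submodule.Quotient.mk s := by
  have h1 : (e0 R).symm 1 = Ideal.Quotient.mk _ 1 := by
    rw [LinearEquiv.symm_apply_eq, _root_.map_one]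
    exact (_root_.map_one (IsScalarTower.toAlgHom R (R ⧸ IsLocalRing.maximalIdeal R)
      (IsLocalRing.maximalIdeal R).ResidueField)).symm
  simp only [fibEquiv, LinearEquiv.trans_apply, TensorProduct.congr_tmul, LinearEquiv.refl_apply, h1]
  rw [TensorProduct.quotTensorEquivQuotSMul_mk_tmul, one_smul]

lemma finite_quot (hfib : Module.Finite (IsLocalRing.maximalIdeal R).ResidueField
      ((IsLocalRing.maximalIdeal R).Fiber S)) :
    Module.Finite R (S ⧸ (IsLocalRing.maximalIdeal R • ⊤ : Submodule R S)) := by
  haveI : Module.Finite R ((IsLocalRing.maximalIdeal R).Fiber S) :=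
    Module.Finite.trans (IsLocalRing.maximalIdeal R).ResidueField _
  exact Module.Finite.equiv (fibEquiv R S)

lemma mem_map_of_tmul_eq_zero (s : S)
    (h : ((1 : (IsLocalRing.maximalIdeal R).ResidueField) ⊗ₜ[R] s :
      (IsLocalRing.maximalIdeal R).Fiber S) = 0) :
    s ∈ (IsLocalRing.maximalIdeal R).map (algebraMap R S) := by
  have := congrArg (fibEquiv R S) h
  rw [fibEquiv_one_tmul, _root_.map_zero, Submodule.Quotient.mk_eq_zero, Ideal.smul_top_eq_map] at this
  exact this

lemma exists_pow_le (hfib : Module.Finite (IsLocalRing.maximalIdeal R).ResidueField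
      ((IsLocalRing.maximalIdeal R).Fiber S)) :
    ∃ t : ℕ, 1 ≤ t ∧
      (IsLocalRing.maximalIdeal S) ^ t ≤ (IsLocalRing.maximalIdeal R).map (algebraMap R S) := by
  haveI : IsArtinianRing ((IsLocalRing.maximalIdeal R).Fiber S) :=
    IsArtinianRing.of_finite (IsLocalRing.maximalIdeal R).ResidueField _
  obtain ⟨t, ht⟩ := IsArtinianRing.isNilpotent_jacobson_bot (R := (IsLocalRing.maximalIdeal R).Fiber S)
  let ψ : S →ₐ[R] (IsLocalRing.maximalIdeal R).Fiber S := Algebra.TensorProduct.includeRight
  have hψ : Function.Surjective ψ :=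
    Algebra.TensorProduct.includeRight_surjective S (Ideal.algebraMap_residueField_surjective _)
  have h1 : (IsLocalRing.maximalIdeal S).map ψ ≤ Ideal.jacobson ⊥ := by
    rw [Ideal.map_le_iff_le_comap]
    intro s hs
    rw [Ideal.mem_comap, Ideal.jacobson, Ideal.mem_sInf]
    rintro M ⟨-, hM⟩
    haveI := hM
    have hc : (M.comap ψ).IsMaximal := Ideal.comap_isMaximal_of_surjective ψ hψ
    have h2 := IsLocalRing.eq_maximalIdeal hc
    have hs' : s ∈ M.comap ψ := h2 ▸ hs
    exact hs'
  refine ⟨t + 1, by omega, fun s hs => ?_⟩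
  have hs' : s ∈ IsLocalRing.maximalIdeal S ^ t := Ideal.pow_le_pow_right (Nat.le_succ t) hs
  apply mem_map_of_tmul_eq_zero
  have h2 : ψ s ∈ (Ideal.jacobson ⊥ : Ideal ((IsLocalRing.maximalIdeal R).Fiber S)) ^ t := by
    have := Ideal.mem_map_of_mem ψ hs'
    rw [Ideal.map_pow] at this
    exact Ideal.pow_right_mono h1 t this
  rw [ht] at h2
  have h3 : ψ s = 0 := by simpa using h2
  exact h3

end StepA

section Fin
variable (R S : Type u) [CommRing R] [CommRing S] [Algebra R S]

lemma isAdicComplete_restrict (I : Ideal R) (M : Type u) [AddCommGroup M] [Module R M] [Module S M]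
    [IsScalarTower R S M] [IsAdicComplete (I.map (algebraMap R S)) M] : IsAdicComplete I M := by
  have key : ∀ (k : ℕ) (x : M), x ∈ (I ^ k • ⊤ : Submodule R M) ↔
      x ∈ ((I.map (algebraMap R S)) ^ k • ⊤ : Submodule S M) := by
    intro k x
    have h1 : ((I.map (algebraMap R S)) ^ k • ⊤ : Submodule S M).restrictScalars R =
        (I ^ k • ⊤ : Submodule R M) := by
      rw [← Ideal.map_pow, Ideal.smul_restrictScalars, Submodule.restrictScalars_top]
    rw [← h1, Submodule.restrictScalars_mem]
  refine { toIsHausdorff := ⟨?_⟩, toIsPrecomplete := ⟨?_⟩ }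
  · intro x hx
    apply IsHausdorff.haus' (I := I.map (algebraMap R S)) x
    intro n
    have := hx n
    rw [SModEq.sub_mem, sub_zero] at this ⊢
    exact (key n x).1 this
  · intro f hf
    obtain ⟨L, hL⟩ := IsPrecomplete.prec' (I := I.map (algebraMap R S)) f (fun {m n} hmn => by
      have := hf hmn
      rw [SModEq.sub_mem] at this ⊢
      exact (key m _).1 this)
    exact ⟨L, fun n => by
      have := hL n
      rw [SModEq.sub_mem] at this ⊢
      exact (key n _).2 this⟩

theorem finite_complMap (m : Ideal R) (hm : m.FG)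
    [Module.Finite R (S ⧸ (m • ⊤ : Submodule R S))] :
    (FSch.complMap m (m.map (algebraMap R S)) (algebraMap R S) le_rfl).Finite := by
  set I := m.map (algebraMap R S) with hI
  have hIfg : I.FG := hm.map _
  set φ := FSch.complMap m I (algebraMap R S) le_rfl with hφ
  letI : Algebra (AdicCompletion m R) (AdicCompletion I S) := φ.toAlgebra
  haveI : IsScalarTower R (AdicCompletion m R) (AdicCompletion I S) := by
    refine IsScalarTower.of_algebraMap_eq fun r => ?_
    change algebraMap R (AdicCompletion I S) r = φ (algebraMap R (AdicCompletion m R) r)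
    apply ext_evalₐ
    intro k
    rw [AdicCompletion.algebraMap_apply, AdicCompletion.algebraMap_apply, evalₐ_of, hφ,
      evalₐ_complMap, evalₐ_of, Ideal.quotientMap_mk]
    rfl
  haveI : IsScalarTower R S (AdicCompletion I S) := IsScalarTower.of_algebraMap_smul fun r x => by
    rw [Algebra.smul_def, Algebra.smul_def, AdicCompletion.algebraMap_apply,
      AdicCompletion.algebraMap_apply]
    rfl
  haveI : IsAdicComplete I (AdicCompletion I S) := AdicCompletion.isAdicComplete hIfg
  haveI : IsAdicComplete m (AdicCompletion I S) := isAdicComplete_restrict R S m (AdicCompletion I S)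
  haveI : Module.Finite R (AdicCompletion I S ⧸ (m • ⊤ : Submodule R (AdicCompletion I S))) := by
    let ofR : S →ₗ[R] AdicCompletion I S := (AdicCompletion.of I S).restrictScalars R
    have hle : (m • ⊤ : Submodule R S) ≤
        (m • ⊤ : Submodule R (AdicCompletion I S)).comap ofR := by
      rw [Submodule.smul_le]
      intro r hr s _
      rw [Submodule.mem_comap, map_smul]
      exact Submodule.smul_mem_smul hr trivial
    let q : (S ⧸ (m • ⊤ : Submodule R S)) →ₗ[R]
        (AdicCompletion I S ⧸ (m • ⊤ : Submodule R (AdicCompletion I S))) :=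
      Submodule.mapQ _ _ ofR hle
    refine Module.Finite.of_surjective q ?_
    intro y
    obtain ⟨x, rfl⟩ := Submodule.Quotient.mk_surjective _ y
    obtain ⟨s, hs⟩ := Submodule.Quotient.mk_surjective _ (AdicCompletion.eval I S 1 x)
    refine ⟨Submodule.Quotient.mk s, ?_⟩
    rw [Submodule.mapQ_apply, Submodule.Quotient.eq]
    have h1 : AdicCompletion.of I S s - x ∈ (I ^ 1 • ⊤ : Submodule S (AdicCompletion I S)) := by
      rw [AdicCompletion.pow_smul_top_eq_ker_eval hIfg, LinearMap.mem_ker, map_sub, sub_eq_zero,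
        AdicCompletion.eval_of]
      exact hs
    have h2 := Ideal.smul_restrictScalars (S := S) m (⊤ : Submodule S (AdicCompletion I S))
    rw [Submodule.restrictScalars_top] at h2
    rw [← h2, Submodule.restrictScalars_mem]
    rw [pow_one] at h1
    exact h1
  exact Groth.Agent.Lib.Helper5.AdicLimFin.finite_of_complete m (AdicCompletion I S) hm

end Fin

theorem main (R S : Type u) [CommRing R] [CommRing S]
    [IsLocalRing R] [IsLocalRing S] [Algebra R S] [IsLocalHom (algebraMap R S)]
    (hm : (IsLocalRing.maximalIdeal R).FG) (hn : (IsLocalRing.maximalIdeal S).FG)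
    (hfib : Module.Finite (IsLocalRing.maximalIdeal R).ResidueField ((IsLocalRing.maximalIdeal R).Fiber S))
    (h : (IsLocalRing.maximalIdeal R).map (algebraMap R S) ≤ IsLocalRing.maximalIdeal S)
    (h' : ((IsLocalRing.maximalIdeal R).map (algebraMap R S)).map (RingHom.id S) ≤ IsLocalRing.maximalIdeal S) :
    Function.Bijective (FSch.complMap ((IsLocalRing.maximalIdeal R).map (algebraMap R S))
        (IsLocalRing.maximalIdeal S) (RingHom.id S) h') ∧
      (FSch.complMap (IsLocalRing.maximalIdeal R) (IsLocalRing.maximalIdeal S) (algebraMap R S) h).Finite := by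
  obtain ⟨t, ht1, ht⟩ := exists_pow_le R S hfib
  have hbij := complMap_id_bijective ((IsLocalRing.maximalIdeal R).map (algebraMap R S))
    (IsLocalRing.maximalIdeal S) h' t ht1 ht
  refine ⟨hbij, ?_⟩
  haveI := finite_quot R S hfib
  have hfin := finite_complMap R S (IsLocalRing.maximalIdeal R) hm
  have hcomp : FSch.complMap (IsLocalRing.maximalIdeal R) (IsLocalRing.maximalIdeal S) (algebraMap R S) h =
      (FSch.complMap ((IsLocalRing.maximalIdeal R).map (algebraMap R S))
        (IsLocalRing.maximalIdeal S) (RingHom.id S) h').comp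
      (FSch.complMap (IsLocalRing.maximalIdeal R) ((IsLocalRing.maximalIdeal R).map (algebraMap R S))
        (algebraMap R S) le_rfl) := by
    refine RingHom.ext fun x => ?_
    apply ext_evalₐ
    intro k
    rw [RingHom.comp_apply, evalₐ_complMap, evalₐ_complMap, evalₐ_complMap]
    obtain ⟨r, hr⟩ := Ideal.Quotient.mk_surjective (evalₐ (IsLocalRing.maximalIdeal R) k x)
    rw [← hr, Ideal.quotientMap_mk, Ideal.quotientMap_mk, Ideal.quotientMap_mk]
    rfl
  rw [hcomp]
  exact RingHom.Finite.comp (RingHom.Finite.of_surjective _ hbij.2) hfin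

end Groth.Agent.H4.ComplFin

end
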