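import Mathlib
import Groth.Prelude
import Groth.Agent.Lib.Helper5.FunFld.LocRingFinite
import Groth.Agent.Lib.Helper5.FunFld.Fibre

set_option autoImplicit false

namespace Groth.Agent.H4.CondLoc

open FunFld WithZero

variable {k K : Type*} [Field k] [Field K] [Algebra k K] {ι : Type*}

/-- a common denominator for a finitely generated subspace -/
theorem exists_common_denom (A : Subalgebra k K)
    (hfrac : ∀ x : K, ∃ r ∈ A, ∃ s ∈ A, s ≠ 0 ∧ x * s = r)
    (G : Submodule k K) (hG : G.FG) :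
    ∃ c ∈ A, c ≠ 0 ∧ ∀ m ∈ Submodule.span A (G : Set K), c * m ∈ A := by
  classical
  obtain ⟨T, hT⟩ := hG
  choose r hr s hs hs0 hrs using hfrac
  have h1 : ∀ t ∈ T, (∏ t' ∈ T, s t') * t ∈ A := by
    intro t ht
    have e : (∏ t' ∈ T, s t') * t = r t * ∏ t' ∈ T.erase t, s t' := by
      rw [← Finset.mul_prod_erase T _ ht, ← hrs t]; ring
    rw [e]
    exact A.mul_mem (hr t) (Subalgebra.prod_mem _ (fun t' _ => hs t'))
  have h2 : ∀ g ∈ G, (∏ t' ∈ T, s t') * g ∈ A := by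
    intro g hg
    rw [← hT] at hg
    refine Submodule.span_induction (p := fun x _ => (∏ t' ∈ T, s t') * x ∈ A) ?_ ?_ ?_ ?_ hg
    · intro x hx; exact h1 x hx
    · rw [mul_zero]; exact A.zero_mem
    · intro x y _ _ hx hy; rw [mul_add]; exact A.add_mem hx hy
    · intro a x _ hx; rw [mul_smul_comm]; exact A.smul_mem hx a
  refine ⟨∏ t ∈ T, s t, Subalgebra.prod_mem _ (fun t _ => hs t),
    Finset.prod_ne_zero_iff.2 (fun t _ => hs0 t), ?_⟩
  intro m hm
  refine Submodule.span_induction (p := fun x _ => (∏ t' ∈ T, s t') * x ∈ A) ?_ ?_ ?_ ?_ hm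
  · intro x hx; exact h2 x hx
  · rw [mul_zero]; exact A.zero_mem
  · intro x y _ _ hx hy; rw [mul_add]; exact A.add_mem hx hy
  · intro a x _ hx
    show (∏ t' ∈ T, s t') * ((a : K) * x) ∈ A
    rw [mul_left_comm]
    exact A.mul_mem a.2 hx

theorem exists_frac_of_bir {φ : ι → K} (j : ι) (hj0 : φ j ≠ 0) (i0 : ι) (hφ0 : φ i0 ≠ 0)
    (hbir : IntermediateField.adjoin k (Set.range fun i => φ i / φ i0) = ⊤) (x : K) :
    ∃ r ∈ affRing k φ j, ∃ s ∈ affRing k φ j, s ≠ 0 ∧ x * s = r := by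
  have htop : IntermediateField.adjoin k (Set.range fun i => φ i / φ j) = ⊤ := by
    rw [eq_top_iff, ← hbir, IntermediateField.adjoin_le_iff]
    rintro _ ⟨i, rfl⟩
    have h1 : φ i / φ i0 = (φ i / φ j) / (φ i0 / φ j) := by field_simp
    show φ i / φ i0 ∈ IntermediateField.adjoin k (Set.range fun i => φ i / φ j)
    rw [h1]
    exact div_mem (IntermediateField.subset_adjoin k _ ⟨i, rfl⟩)
      (IntermediateField.subset_adjoin k _ ⟨i0, rfl⟩)
  have hx : x ∈ IntermediateField.adjoin k (Set.range fun i => φ i / φ j) := by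
    rw [htop]; trivial
  obtain ⟨r, hr, s, hs, rfl⟩ := IntermediateField.mem_adjoin_iff_div.1 hx
  by_cases hs0 : s = 0
  · exact ⟨0, Subalgebra.zero_mem _, 1, Subalgebra.one_mem _, one_ne_zero,
      by rw [hs0, _root_.div_zero, zero_mul]⟩
  · exact ⟨r, hr, s, hs, hs0, div_mul_cancel₀ r hs0⟩

section

variable [IsAlgClosed k] (hK : IsFunctionField k K)

include hK in
/-- a function in the affine ring separating two places with different images -/
theorem exists_sep {φ : ι → K} {P Q : Place k K} {j : ι} (hjP : IsLeast φ P j)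
    (hjQ : IsLeast φ Q j) (hne : ¬ SameImage φ P Q) :
    ∃ w ∈ affRing k φ j, P.1 w = 1 ∧ Q.1 w < 1 := by
  have hdP := Place.deg_eq_one_of_isAlgClosed hK P
  have hdQ := Place.deg_eq_one_of_isAlgClosed hK Q
  have h1 : ¬ ∀ i, ∃ c : k, P.1 (φ i / φ j - algebraMap k K c) < 1 ∧
      Q.1 (φ i / φ j - algebraMap k K c) < 1 :=
    fun h => hne ⟨j, hjP.1, hjP.2, hjQ.2, h⟩
  obtain ⟨i, hi⟩ := not_forall.1 h1
  obtain ⟨cP, hcP⟩ := P.exists_const_sub_lt hdP (hjP.v_ratio_le i)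
  obtain ⟨cQ, hcQ⟩ := Q.exists_const_sub_lt hdQ (hjQ.v_ratio_le i)
  have hd : cP - cQ ≠ 0 := by
    intro h0
    have : cP = cQ := sub_eq_zero.1 h0
    subst this
    exact hi ⟨cP, hcP, hcQ⟩
  refine ⟨(φ i / φ j - algebraMap k K cQ) * algebraMap k K (cP - cQ)⁻¹,
    Subalgebra.mul_mem _ (Subalgebra.sub_mem _ (ratio_mem_affRing φ j i)
      (Subalgebra.algebraMap_mem _ _)) (Subalgebra.algebraMap_mem _ _), ?_, ?_⟩
  · have e1 : φ i / φ j - algebraMap k K cQ =
        (φ i / φ j - algebraMap k K cP) + algebraMap k K (cP - cQ) := by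
      rw [map_sub]; ring
    have hPd : P.1 (algebraMap k K (cP - cQ)) = 1 := P.v_algebraMap hd
    have hP1 : P.1 (φ i / φ j - algebraMap k K cQ) = 1 := by
      rw [e1, Valuation.map_add_eq_of_lt_right]
      · exact hPd
      · rw [hPd]; exact hcP
    rw [map_mul, hP1, P.v_algebraMap (inv_ne_zero hd), one_mul]
  · rw [map_mul, Q.v_algebraMap (inv_ne_zero hd), mul_one]
    exact hcQ

include hK in
/-- Clearing the poles of an element integral on the whole fibre with a unit of the local ring. -/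
theorem exists_mul_mem_regular' [Fintype ι] [Nonempty ι] {φ : ι → K} (hφ : ∀ i, φ i ≠ 0)
    {P : Place k K} {j : ι} (hj : IsLeast φ P j) {y : K}
    (hy : ∀ Q : Place k K, SameImage φ P Q → Q.1 y ≤ 1) :
    ∃ w ∈ affRing k φ j, P.1 w = 1 ∧
      ∀ Q : Place k K, mapDiv k (fun i => φ i / φ j) Q = 0 → Q.1 (y * w) ≤ 1 := by
  classical
  set E := mapDiv k (fun i => φ i / φ j) with hE
  have hA : ∀ Q : Place k K, E Q = 0 → ∀ a ∈ affRing k φ j, Q.1 a ≤ 1 := fun Q hQ a ha =>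
    (isLeast_of_mapDiv_eq_zero hK hj.1 hφ hQ).v_le_one_of_mem ha
  have hw : ∀ Q : Place k K, ∃ w ∈ affRing k φ j, P.1 w = 1 ∧
      (E Q = 0 → ¬ SameImage φ P Q → Q.1 w < 1) := by
    intro Q
    by_cases hQ : E Q = 0 ∧ ¬ SameImage φ P Q
    · obtain ⟨w, hwA, hw1, hwQ⟩ :=
        exists_sep hK hj (isLeast_of_mapDiv_eq_zero hK hj.1 hφ hQ.1) hQ.2
      exact ⟨w, hwA, hw1, fun _ _ => hwQ⟩
    · exact ⟨1, Subalgebra.one_mem _, map_one _, fun h1 h2 => absurd ⟨h1, h2⟩ hQ⟩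
  choose wQ hwA hwP hwQ using hw
  rcases eq_or_ne y 0 with rfl | hy0
  · exact ⟨1, Subalgebra.one_mem _, map_one _, fun Q _ => by simp⟩
  set S := (div k y).support with hS
  set w := ∏ Q ∈ S, wQ Q ^ (-(Q.ord y)).toNat with hw
  refine ⟨w, Subalgebra.prod_mem _ (fun Q _ => Subalgebra.pow_mem _ (hwA Q) _), ?_, ?_⟩
  · rw [hw, map_prod]
    refine Finset.prod_eq_one (fun Q _ => ?_)
    rw [map_pow, hwP, one_pow]
  · intro Q' hQ'
    have hwle : ∀ T : Finset (Place k K), Q'.1 (∏ Q ∈ T, wQ Q ^ (-(Q.ord y)).toNat) ≤ 1 := by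
      intro T
      rw [map_prod]
      refine Finset.prod_le_one' (fun Q _ => ?_)
      rw [map_pow]
      exact pow_le_one' (hA Q' hQ' _ (hwA Q)) _
    by_cases hQP : SameImage φ P Q'
    · rw [map_mul]
      calc Q'.1 y * Q'.1 w ≤ 1 * 1 := mul_le_mul' (hy Q' hQP) (hwle S)
        _ = 1 := one_mul 1
    by_cases hord : 0 ≤ Q'.ord y
    · rw [map_mul]
      calc Q'.1 y * Q'.1 w ≤ 1 * 1 := mul_le_mul' ((Q'.v_le_one_iff hy0).2 hord) (hwle S)
        _ = 1 := one_mul 1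
    · rw [not_le] at hord
      have hmem : Q' ∈ S := by
        rw [hS, Finsupp.mem_support_iff, div_apply hK]
        omega
      rw [hw, ← Finset.mul_prod_erase S _ hmem, map_mul, map_mul, map_pow]
      have h1 : Q'.1 (wQ Q') ≤ exp (-1) :=
        Q'.v_le_exp_neg_one_of_lt_one (hwQ Q' hQ' hQP)
      have h2 : Q'.1 y = exp ((-(Q'.ord y)).toNat : ℤ) := by
        rw [Q'.v_eq_exp_neg_ord hy0, Int.toNat_of_nonneg (by omega)]
      calc Q'.1 y * (Q'.1 (wQ Q') ^ (-(Q'.ord y)).toNat * Q'.1 (∏ Q ∈ S.erase Q', _))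
          ≤ exp ((-(Q'.ord y)).toNat : ℤ) * (exp (-1) ^ (-(Q'.ord y)).toNat * 1) := by
            rw [h2]
            exact mul_le_mul' le_rfl (mul_le_mul' (pow_le_pow_left' h1 _) (hwle _))
        _ = 1 := by
            rw [mul_one, ← exp_nsmul, ← exp_add]
            simp

include hK in
theorem main {n : ℕ} (hn : 1 ≤ n) (φ : Fin (n + 1) → K) (hφ : LinearIndependent k φ)
    (hbir : IntermediateField.adjoin k (Set.range fun i => φ i / φ 0) = ⊤) (P : Place k K) :
    ∃ N : ℕ, ∀ z : K,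
      (∀ Q : Place k K, SameImage φ P Q → Q.1 z ≤ exp (-(N : ℤ))) → InLocRing φ P z := by
  classical
  have hφ0 : ∀ i, φ i ≠ 0 := fun i => hφ.ne_zero i
  have hnc : ∀ j, ∃ i, φ i / φ j ∉ Set.range (algebraMap k K) := by
    intro j
    obtain ⟨i, hij⟩ : ∃ i : Fin (n + 1), i ≠ j := by
      by_cases hj : j = 0
      · exact ⟨1, by rw [hj]; intro h; have := congrArg Fin.val h; simp at this; omega⟩
      · exact ⟨0, fun h => hj h.symm⟩
    refine ⟨i, ?_⟩
    rintro ⟨c, hc⟩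
    have h1 : φ i = c • φ j := by
      rw [Algebra.smul_def, hc, div_mul_cancel₀ _ (hφ0 j)]
    have h2 := hφ.notMem_span_image (s := {j}) (x := i) (by simpa using hij)
    apply h2
    rw [Set.image_singleton, h1]
    exact Submodule.smul_mem _ _ (Submodule.subset_span rfl)
  obtain ⟨j, hj⟩ := exists_isLeast φ hφ0 P
  set ψ : Fin (n + 1) → K := fun i => φ i / φ j with hψ
  have hψj : ψ j = 1 := div_self hj.1
  obtain ⟨m0, hm0⟩ := exists_fg_bound hK ψ hψj (hnc j)
  have hfinG : (L (m0 • mapDiv k ψ) : Submodule k K).FG := by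
    haveI : FiniteDimensional k (L (m0 • mapDiv k ψ)) := finiteDimensional_L hK _
    exact (Submodule.fg_iff_finiteDimensional _).2 inferInstance
  obtain ⟨c, hcA, hc0, hc⟩ := exists_common_denom (affRing k φ j)
    (exists_frac_of_bir j hj.1 0 (hφ0 0) hbir) _ hfinG
  have hfib := finite_fibre hK φ hnc P
  set F := hfib.toFinset with hF
  refine ⟨F.sup (fun Q => (Q.ord c).toNat), fun z hz => ?_⟩
  set N := F.sup (fun Q => (Q.ord c).toNat) with hN
  have hyint : ∀ Q : Place k K, SameImage φ P Q → Q.1 (z / c) ≤ 1 := by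
    intro Q hQ
    have hQF : Q ∈ F := hfib.mem_toFinset.2 hQ
    have h1 : (Q.ord c).toNat ≤ N := Finset.le_sup (f := fun Q => (Q.ord c).toNat) hQF
    have h2 := hz Q hQ
    rw [map_div₀, div_le_one₀ (pos_iff_ne_zero.2 (Q.v_ne_zero hc0))]
    refine h2.trans ?_
    rw [Q.v_eq_exp_neg_ord hc0, exp_le_exp]
    have h3 : Q.ord c ≤ (Q.ord c).toNat := Int.self_le_toNat _
    omega
  obtain ⟨w, hwA, hw1, hw⟩ := exists_mul_mem_regular' hK hφ0 hj hyint
  have h1 := hm0 (z / c * w) hw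
  have h2 := hc _ h1
  have h3 : c * (z / c * w) = z * w := by field_simp
  rw [h3] at h2
  exact (inLocRing_iff φ P z).2 ⟨j, hj, z * w, h2, w, hwA, hw1, rfl⟩

end

end Groth.Agent.H4.CondLoc
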