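import Mathlib
import Groth.Agent.H4.ProjG

set_option autoImplicit false

namespace Groth.Agent.H4.ConeAlg

open AlgebraicGeometry CategoryTheory HomogeneousLocalization Polynomial
open scoped HomogeneousIdeal

universe u

section Loc

variable {B : Type u} [CommRing B] (z : B)

/-- the inverse of `z` in the localization -/
noncomputable def uz : Localization.Away z := Localization.mk 1 ⟨z, Submonoid.mem_powers _⟩

theorem uz_mul : uz z * algebraMap B (Localization.Away z) z = 1 := by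
  rw [uz, ← Localization.mk_one_eq_algebraMap, Localization.mk_mul, one_mul, mul_one]
  exact Localization.mk_self ⟨z, Submonoid.mem_powers _⟩

theorem mk_eq (k : ℕ) (b : B) :
    Localization.mk b (⟨z ^ k, pow_mem (Submonoid.mem_powers z) k⟩ : Submonoid.powers z) =
      uz z ^ k * algebraMap B (Localization.Away z) b := by
  rw [uz, Localization.mk_pow, one_pow, ← Localization.mk_one_eq_algebraMap, Localization.mk_mul,
    one_mul, mul_one]
  rfl

end Loc

section Graded

variable {A : Type u} [CommRing A] (𝒜 : ℕ → AddSubgroup A) [GradedRing 𝒜]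

theorem proj_mem (k : ℕ) (a : A) : GradedRing.proj 𝒜 k a ∈ 𝒜 k := by
  rw [GradedRing.proj_apply]; exact SetLike.coe_mem _

theorem proj_of_mem {k : ℕ} {a : A} (ha : a ∈ 𝒜 k) : GradedRing.proj 𝒜 k a = a := by
  rw [GradedRing.proj_apply, DirectSum.decompose_of_mem_same _ ha]

theorem proj_of_mem_ne {k m : ℕ} {a : A} (ha : a ∈ 𝒜 k) (h : k ≠ m) :
    GradedRing.proj 𝒜 m a = 0 := by
  rw [GradedRing.proj_apply, DirectSum.decompose_of_mem_ne _ ha h]

theorem exists_homog_notMem (I : Ideal A) {f : A}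
    (hf : f ∈ (HomogeneousIdeal.irrelevant 𝒜).toIdeal) (hfI : f ∉ I) :
    ∃ d, 0 < d ∧ ∃ g ∈ 𝒜 d, g ∉ I := by
  classical
  by_contra hcon
  push Not at hcon
  apply hfI
  rw [← DirectSum.sum_support_decompose 𝒜 f]
  refine Ideal.sum_mem _ fun d _ => ?_
  rcases Nat.eq_zero_or_pos d with rfl | hd
  · have h0 : GradedRing.proj 𝒜 0 f = 0 := hf
    rw [GradedRing.proj_apply] at h0
    rw [h0]; exact Ideal.zero_mem _
  · exact hcon d hd _ (SetLike.coe_mem _)

theorem awayMk_congr {f : A} {d : ℕ} (hf : f ∈ 𝒜 d) (n : ℕ) {x y : A} (h : x = y)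
    (hx : x ∈ 𝒜 (n • d)) (hy : y ∈ 𝒜 (n • d)) : Away.mk 𝒜 hf n x hx = Away.mk 𝒜 hf n y hy := by
  subst h; rfl

end Graded

section Alg

variable {A B : Type u} [CommRing A] [CommRing B] {𝒜 : ℕ → AddSubgroup A} {ℬ : ℕ → AddSubgroup B}
  [GradedRing 𝒜] [GradedRing ℬ] (ι : 𝒜 →+*ᵍ ℬ) (z : B) (hz : z ∈ ℬ 1)

theorem val_mk_eq (k : ℕ) (b : B) (hb : b ∈ ℬ (k • 1)) :
    (Away.mk ℬ hz k b hb).val = uz z ^ k * algebraMap B (Localization.Away z) b :=
  (Away.val_mk ℬ k hz b hb).trans (mk_eq z k b)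

include hz in
theorem pow_mem_deg (j : ℕ) : z ^ j ∈ ℬ j := by
  have := SetLike.pow_mem_graded j hz
  rwa [smul_eq_mul, mul_one] at this

theorem proj_ι (n : ℕ) (a : A) :
    GradedRing.proj ℬ n (ι a) = ι (GradedRing.proj 𝒜 n a) := by
  rw [GradedRing.proj_apply, GradedRing.proj_apply, GradedRingHom.map_directSumDecompose]

include hz in
theorem proj_mul_pow (a : A) (j n : ℕ) :
    GradedRing.proj ℬ n (ι a * z ^ j) =
      if j ≤ n then ι (GradedRing.proj 𝒜 (n - j) a) * z ^ j else 0 := by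
  have hzj : z ^ j ∈ ℬ j := pow_mem_deg z hz j
  split_ifs with h
  · rw [GradedRing.proj_apply, DirectSum.coe_decompose_mul_of_right_mem_of_le ℬ hzj h,
      ← GradedRing.proj_apply, proj_ι]
  · rw [GradedRing.proj_apply, DirectSum.coe_decompose_mul_of_right_mem_of_not_le ℬ hzj h]

include hz in
theorem proj_eval₂ (p : A[X]) (n : ℕ) :
    GradedRing.proj ℬ n (p.eval₂ ι.toRingHom z) =
      ∑ j ∈ Finset.range (n + 1), ι (GradedRing.proj 𝒜 (n - j) (p.coeff j)) * z ^ j := by
  induction p using Polynomial.induction_on' with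
  | add p q hp hq =>
    rw [eval₂_add, map_add, hp, hq, ← Finset.sum_add_distrib]
    refine Finset.sum_congr rfl fun j _ => ?_
    rw [coeff_add, map_add, map_add, add_mul]
  | monomial j a =>
    rw [eval₂_monomial]
    change GradedRing.proj ℬ n (ι a * z ^ j) = _
    rw [proj_mul_pow ι z hz]
    split_ifs with h
    · rw [Finset.sum_eq_single j]
      · rw [coeff_monomial, if_pos rfl]
      · intro b _ hb
        rw [coeff_monomial, if_neg (Ne.symm hb), map_zero, map_zero, zero_mul]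
      · intro hj
        exact absurd (Finset.mem_range.mpr (Nat.lt_succ_of_le h)) hj
    · symm
      refine Finset.sum_eq_zero fun b hb => ?_
      have hne : j ≠ b := by
        rintro rfl
        exact h (Nat.lt_succ_iff.mp (Finset.mem_range.mp hb))
      rw [coeff_monomial, if_neg hne, map_zero, map_zero, zero_mul]

include hz in
theorem eq_sum_of_mem (p : A[X]) (n : ℕ) (hp : p.eval₂ ι.toRingHom z ∈ ℬ n) :
    p.eval₂ ι.toRingHom z =
      ∑ j ∈ Finset.range (n + 1), ι (GradedRing.proj 𝒜 (n - j) (p.coeff j)) * z ^ j := by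
  rw [← proj_eval₂ ι z hz p n, proj_of_mem ℬ hp]

/-- the generator `ι(a_k) / z^k` of the degree zero localization -/
noncomputable def gk (k : ℕ) (a : A) : Away ℬ z :=
  Away.mk ℬ hz k (ι (GradedRing.proj 𝒜 k a)) (by
    rw [smul_eq_mul, mul_one]
    exact ι.map_mem (proj_mem 𝒜 k a))

theorem val_gk (k : ℕ) (a : A) :
    (gk ι z hz k a).val =
      uz z ^ k * algebraMap B (Localization.Away z) (ι (GradedRing.proj 𝒜 k a)) :=
  val_mk_eq z hz k _ _

theorem gk_eq_zero (k : ℕ) (a : A) (h : GradedRing.proj 𝒜 k a = 0) : gk ι z hz k a = 0 := by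
  apply HomogeneousLocalization.val_injective
  rw [val_gk, h, map_zero, map_zero, mul_zero, HomogeneousLocalization.val_zero]

theorem val_sum (s : Finset ℕ) (f : ℕ → Away ℬ z) :
    (∑ k ∈ s, f k).val = ∑ k ∈ s, (f k).val := by
  classical
  induction s using Finset.induction_on with
  | empty => simp
  | insert a s ha ih =>
    rw [Finset.sum_insert ha, Finset.sum_insert ha, HomogeneousLocalization.val_add, ih]

theorem gen (hsurj : Function.Surjective (eval₂RingHom ι.toRingHom z)) (q : Away ℬ z) :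
    ∃ (n : ℕ) (c : ℕ → A), q = ∑ k ∈ Finset.range (n + 1), gk ι z hz k (c k) := by
  obtain ⟨n, y, hy, rfl⟩ := Away.mk_surjective ℬ hz q
  have hy' : y ∈ ℬ n := by rwa [smul_eq_mul, mul_one] at hy
  obtain ⟨p, hp⟩ := hsurj y
  rw [coe_eval₂RingHom] at hp
  have hy2 := eq_sum_of_mem ι z hz p n (hp ▸ hy')
  refine ⟨n, fun k => p.coeff (n - k), ?_⟩
  apply HomogeneousLocalization.val_injective
  have hrefl := Finset.sum_range_reflect (fun k => (gk ι z hz k (p.coeff (n - k))).val) (n + 1)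
  rw [val_mk_eq, val_sum, ← hrefl, ← hp, hy2, map_sum, Finset.mul_sum]
  refine Finset.sum_congr rfl fun j hj => ?_
  have hjn : j ≤ n := Nat.lt_succ_iff.mp (Finset.mem_range.mp hj)
  have e1 : n + 1 - 1 - j = n - j := by omega
  have e2 : n - (n - j) = j := by omega
  simp only [e1, e2]
  rw [val_gk, map_mul, map_pow]
  have e3 : uz z ^ n = uz z ^ (n - j) * uz z ^ j := by
    rw [← pow_add]; congr 1; omega
  have e4 : uz z ^ j * algebraMap B (Localization.Away z) z ^ j = 1 := by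
    rw [← mul_pow, uz_mul, one_pow]
  rw [e3]
  calc uz z ^ (n - j) * uz z ^ j *
        (algebraMap B (Localization.Away z) (ι (GradedRing.proj 𝒜 (n - j) (p.coeff j))) *
          algebraMap B (Localization.Away z) z ^ j)
      = uz z ^ (n - j) * algebraMap B (Localization.Away z) (ι (GradedRing.proj 𝒜 (n - j) (p.coeff j))) *
          (uz z ^ j * algebraMap B (Localization.Away z) z ^ j) := by ring
    _ = _ := by rw [e4, mul_one]

section Theta

variable (θ : Away ℬ z →+* A)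
  (hθ : ∀ (k : ℕ) (a : A), θ (gk ι z hz k a) = GradedRing.proj 𝒜 k a)

include hθ in
theorem θ_surjective : Function.Surjective θ := by
  intro a
  classical
  refine ⟨∑ k ∈ (DirectSum.decompose 𝒜 a).support, gk ι z hz k a, ?_⟩
  rw [map_sum]
  simp_rw [hθ, GradedRing.proj_apply]
  exact DirectSum.sum_support_decompose 𝒜 a

include hθ in
theorem θ_injective (hsurj : Function.Surjective (eval₂RingHom ι.toRingHom z)) :
    Function.Injective θ := by
  rw [injective_iff_map_eq_zero]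
  intro q hq
  obtain ⟨n, c, rfl⟩ := gen ι z hz hsurj q
  rw [map_sum] at hq
  simp_rw [hθ] at hq
  refine Finset.sum_eq_zero fun k hk => gk_eq_zero ι z hz k (c k) ?_
  have h1 := congrArg (GradedRing.proj 𝒜 k) hq
  rw [map_sum, map_zero, Finset.sum_eq_single k] at h1
  · rwa [proj_of_mem 𝒜 (proj_mem 𝒜 k (c k))] at h1
  · intro b _ hb
    exact proj_of_mem_ne 𝒜 (proj_mem 𝒜 b (c b)) hb
  · intro h; exact absurd hk h

end Theta

section Nat

variable {A' B' : Type u} [CommRing A'] [CommRing B'] {𝒜' : ℕ → AddSubgroup A'}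
  {ℬ' : ℕ → AddSubgroup B'} [GradedRing 𝒜'] [GradedRing ℬ'] (ι' : 𝒜' →+*ᵍ ℬ')
  (ρA : 𝒜 →+*ᵍ 𝒜') (ρB : ℬ →+*ᵍ ℬ') (hρ : ∀ a, ρB (ι a) = ι' (ρA a))

include hρ in
theorem awayMap_gk (k : ℕ) (a : A) :
    Away.map ρB z (gk ι z hz k a) = gk ι' (ρB z) (ρB.map_mem hz) k (ρA a) := by
  unfold gk
  rw [Away.map_mk]
  exact awayMk_congr ℬ' _ k (by rw [hρ, proj_ι ρA]) _ _

include hρ in
theorem spec_nat (hsurj : Function.Surjective (eval₂RingHom ι.toRingHom z))
    (z' : B') (hzz : ρB z = z') (hz' : z' ∈ ℬ' 1) (hirr : ℬ'₊ ≤ ℬ₊.map ρB)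
    (θ : Away ℬ z →+* A) (hθ : ∀ (k : ℕ) (a : A), θ (gk ι z hz k a) = GradedRing.proj 𝒜 k a)
    (θ' : Away ℬ' z' →+* A')
    (hθ' : ∀ (k : ℕ) (a : A'), θ' (gk ι' z' hz' k a) = GradedRing.proj 𝒜' k a) :
    Spec.map (CommRingCat.ofHom θ') ≫ Proj.awayι ℬ' z' hz' one_pos ≫ Proj.map ρB hirr =
      Spec.map (CommRingCat.ofHom ρA.toRingHom) ≫ Spec.map (CommRingCat.ofHom θ) ≫
        Proj.awayι ℬ z hz one_pos := by
  subst hzz
  have key : CommRingCat.ofHom (Away.map ρB z) ≫ CommRingCat.ofHom θ' =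
      CommRingCat.ofHom θ ≫ CommRingCat.ofHom ρA.toRingHom := by
    ext q
    change θ' (Away.map ρB z q) = ρA (θ q)
    obtain ⟨n, c, rfl⟩ := gen ι z hz hsurj q
    rw [map_sum, map_sum, map_sum, map_sum]
    refine Finset.sum_congr rfl fun k _ => ?_
    rw [awayMap_gk ι z hz ι' ρA ρB hρ, hθ', hθ, proj_ι ρA]
  rw [Proj.awayι_comp_map ρB hirr one_pos z hz, ← Spec.map_comp_assoc, ← Spec.map_comp_assoc, key]

end Nat

section Inf

variable (θg : ℬ →+*ᵍ 𝒜) (hθι : ∀ a, θg (ι a) = a) (hθz : θg z = 0)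

include hθι hθz in
theorem sub_mem_span (hsurj : Function.Surjective (eval₂RingHom ι.toRingHom z)) (b : B) :
    b - ι (θg b) ∈ Ideal.span {z} := by
  obtain ⟨p, rfl⟩ := hsurj b
  rw [coe_eval₂RingHom]
  induction p using Polynomial.induction_on' with
  | add p q hp hq =>
    rw [eval₂_add, map_add, map_add]
    have e : p.eval₂ ι.toRingHom z + q.eval₂ ι.toRingHom z -
        (ι (θg (p.eval₂ ι.toRingHom z)) + ι (θg (q.eval₂ ι.toRingHom z))) =
        (p.eval₂ ι.toRingHom z - ι (θg (p.eval₂ ι.toRingHom z))) +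
          (q.eval₂ ι.toRingHom z - ι (θg (q.eval₂ ι.toRingHom z))) := by ring
    rw [e]; exact Ideal.add_mem _ hp hq
  | monomial j a =>
    rw [eval₂_monomial]
    change ι a * z ^ j - ι (θg (ι a * z ^ j)) ∈ _
    rcases Nat.eq_zero_or_pos j with rfl | hj
    · rw [pow_zero, mul_one, hθι, sub_self]; exact Ideal.zero_mem _
    · have h0 : θg (ι a * z ^ j) = 0 := by
        rw [map_mul, map_pow, hθz, zero_pow hj.ne', mul_zero]
      rw [h0, map_zero, sub_zero]
      obtain ⟨j', rfl⟩ := Nat.exists_eq_succ_of_ne_zero hj.ne'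
      rw [pow_succ, ← mul_assoc]
      exact Ideal.mul_mem_left _ _ (Ideal.mem_span_singleton_self z)

include hθι hθz in
theorem range_map_θg (hsurj : Function.Surjective (eval₂RingHom ι.toRingHom z))
    (hirr : 𝒜₊ ≤ ℬ₊.map θg) :
    Set.range (Proj.map θg hirr).base = {y : Proj ℬ | z ∈ y.asHomogeneousIdeal} := by
  ext y
  constructor
  · rintro ⟨w, rfl⟩
    change θg z ∈ w.asHomogeneousIdeal
    rw [hθz]; exact zero_mem _
  · intro hy
    have hy' : z ∈ y.asHomogeneousIdeal := hy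
    have hsub : ∀ b, b ∈ y.asHomogeneousIdeal ↔ ι (θg b) ∈ y.asHomogeneousIdeal := by
      intro b
      have h1 : b - ι (θg b) ∈ y.asHomogeneousIdeal.toIdeal :=
        ((Ideal.span_singleton_le_iff_mem _).mpr hy') (sub_mem_span ι z θg hθι hθz hsurj b)
      constructor
      · intro hb
        have h2 := Ideal.sub_mem _ hb h1
        rwa [sub_sub_cancel] at h2
      · intro hb
        have h2 := Ideal.add_mem _ h1 hb
        rwa [sub_add_cancel] at h2
    let w : ProjectiveSpectrum 𝒜 :=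
      { asHomogeneousIdeal := y.asHomogeneousIdeal.comap ι
        isPrime := y.isPrime.comap ι
        not_irrelevant_le := fun le => y.not_irrelevant_le (by
          rw [HomogeneousIdeal.irrelevant_le]
          intro d hd b hb
          have hb' : b ∈ ℬ d := hb
          change b ∈ y.asHomogeneousIdeal
          rw [hsub b]
          exact le (HomogeneousIdeal.mem_irrelevant_of_mem _ hd (θg.map_mem hb'))) }
    refine ⟨w, ?_⟩
    refine ProjectiveSpectrum.ext ?_
    refine HomogeneousIdeal.toIdeal_injective (Ideal.ext fun b => ?_)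
    exact (hsub b).symm

end Inf

include hz in
theorem mem_of_z_mem (hsurj : Function.Surjective (eval₂RingHom ι.toRingHom z)) (I : Ideal B)
    (hzI : z ∈ I) (hI : ∀ d, 0 < d → ∀ a ∈ 𝒜 d, ι a ∈ I) {d : ℕ} (hd : 0 < d) {b : B}
    (hb : b ∈ ℬ d) : b ∈ I := by
  obtain ⟨p, rfl⟩ := hsurj b
  rw [coe_eval₂RingHom] at hb ⊢
  rw [eq_sum_of_mem ι z hz p d hb]
  refine Ideal.sum_mem _ fun j _ => ?_
  rcases Nat.eq_zero_or_pos j with rfl | hj0
  · rw [pow_zero, mul_one, Nat.sub_zero]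
    exact hI d hd _ (proj_mem 𝒜 d _)
  · obtain ⟨j', rfl⟩ := Nat.exists_eq_succ_of_ne_zero hj0.ne'
    rw [pow_succ, ← mul_assoc]
    exact Ideal.mul_mem_left _ _ hzI

theorem z_mem_nonZeroDivisors (hinj : Function.Injective (eval₂RingHom ι.toRingHom z))
    (hsurj : Function.Surjective (eval₂RingHom ι.toRingHom z)) : z ∈ nonZeroDivisors B := by
  rw [mem_nonZeroDivisors_iff_right]
  intro b hb
  obtain ⟨p, rfl⟩ := hsurj b
  have hX : eval₂RingHom ι.toRingHom z X = z := by
    rw [coe_eval₂RingHom, eval₂_X]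
  have hb' : eval₂RingHom ι.toRingHom z (p * X) = 0 := by
    rw [map_mul, hX]; exact hb
  have h2 := hinj (hb'.trans (map_zero _).symm)
  have h3 : p = 0 := by
    by_contra hp
    exact hp ((Polynomial.monic_X.mul_left_eq_zero_iff).mp h2)
  rw [h3, map_zero]

theorem awayι_mem_basicOpen_iff (θ : Away ℬ z →+* A)
    (hθ : ∀ (k : ℕ) (a : A), θ (gk ι z hz k a) = GradedRing.proj 𝒜 k a)
    {d : ℕ} (hd : 0 < d) {f : A} (hf : f ∈ 𝒜 d) (u : Spec (CommRingCat.of A)) :
    (Spec.map (CommRingCat.ofHom θ) ≫ Proj.awayι ℬ z hz one_pos).base u ∈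
      Proj.basicOpen ℬ (ι f) ↔ f ∉ u.asIdeal := by
  have h1 := Proj.awayι_preimage_basicOpen ℬ hz one_pos (Graded.map_mem ι hf) hd
  have h2 : (Spec.map (CommRingCat.ofHom θ) ≫ Proj.awayι ℬ z hz one_pos).base u ∈
      Proj.basicOpen ℬ (ι f) ↔ (Spec.map (CommRingCat.ofHom θ)).base u ∈
        Proj.awayι ℬ z hz one_pos ⁻¹ᵁ Proj.basicOpen ℬ (ι f) := Iff.rfl
  rw [h2, h1]
  have h3 : θ (Away.isLocalizationElem hz (Graded.map_mem ι hf)) = f := by
    have h4 : Away.isLocalizationElem hz (Graded.map_mem ι hf) = gk ι z hz d f := by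
      unfold gk Away.isLocalizationElem
      exact awayMk_congr ℬ hz d (by rw [pow_one, proj_of_mem 𝒜 hf]) _ _
    rw [h4, hθ, proj_of_mem 𝒜 hf]
  change θ (Away.isLocalizationElem hz (Graded.map_mem ι hf)) ∉ u.asIdeal ↔ _
  rw [h3]

end Alg

end Groth.Agent.H4.ConeAlg
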