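import Mathlib
import Groth.Agent.Lib.Helper2.ConeG

open CategoryTheory CategoryTheory.Limits AlgebraicGeometry HomogeneousLocalization

universe u

namespace Groth.Agent.H4.ConeFib

section General

theorem fibre_iso {E X : Scheme.{u}} (π : E ⟶ X) (x : X) {R₀ R₁ : CommRingCat.{u}}
    (j : Spec R₀ ⟶ X) [IsOpenImmersion j] (c : Spec R₁ ⟶ E) [IsOpenImmersion c]
    (α : R₀ ⟶ R₁) (hc : c ≫ π = Spec.map α ≫ j) (hx : x ∈ Set.range j)
    (hr : π ⁻¹ᵁ j.opensRange = c.opensRange)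
    (L : CommRingCat.{u}) (γ : X.residueField x ⟶ L)
    (hL : ∀ φ : R₀ ⟶ X.residueField x, ∃ β : R₁ ⟶ L, IsPushout α φ β γ) :
    ∃ e : pullback π (X.fromSpecResidueField x) ≅ Spec L,
      e.hom ≫ Spec.map γ = pullback.snd π (X.fromSpecResidueField x) := by
  have hsub : Set.range (X.fromSpecResidueField x) ⊆ Set.range j := by
    rw [Scheme.range_fromSpecResidueField]
    exact Set.singleton_subset_iff.mpr hx
  obtain ⟨s, hs⟩ : ∃ s : Spec (X.residueField x) ⟶ Spec R₀, s ≫ j = X.fromSpecResidueField x :=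
    ⟨IsOpenImmersion.lift j (X.fromSpecResidueField x) hsub, IsOpenImmersion.lift_fac _ _ _⟩
  obtain ⟨φ, rfl⟩ : ∃ φ : R₀ ⟶ X.residueField x, Spec.map φ = s :=
    ⟨Spec.preimage s, Spec.map_preimage s⟩
  obtain ⟨β, hβ⟩ := hL φ
  have h1 : IsPullback (Spec.map β) (Spec.map γ) (Spec.map α) (Spec.map φ) :=
    isPullback_SpecMap_of_isPushout _ _ _ _ hβ
  have h2 : IsPullback c (Spec.map α) π j :=
    (IsOpenImmersion.isPullback (Spec.map α) c j π hc hr).flip
  have h3 := h1.paste_horiz h2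
  rw [hs] at h3
  exact ⟨h3.isoPullback.symm, h3.isoPullback_inv_snd⟩

theorem loft_of_charts {E X : Scheme.{u}} (π : E ⟶ X) {J : Type u} (R₀ R₁ : J → CommRingCat.{u})
    (j : ∀ i, Spec (R₀ i) ⟶ X) [∀ i, IsOpenImmersion (j i)]
    (c : ∀ i, Spec (R₁ i) ⟶ E) [∀ i, IsOpenImmersion (c i)]
    (α : ∀ i, R₀ i ⟶ R₁ i) (hc : ∀ i, c i ≫ π = Spec.map (α i) ≫ j i)
    (hcov : ∀ p : E, ∃ i, p ∈ Set.range (c i)) (hft : ∀ i, (α i).hom.FiniteType) :
    LocallyOfFiniteType π := by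
  let 𝒰 : E.OpenCover := Scheme.Cover.mkOfCovers J (fun i => Spec (R₁ i)) c
    (fun p => by obtain ⟨i, y, hy⟩ := hcov p; exact ⟨i, y, hy⟩)
  apply IsZariskiLocalAtSource.of_openCover (P := @LocallyOfFiniteType) 𝒰
  intro i
  change LocallyOfFiniteType (c i ≫ π)
  rw [hc]
  have : LocallyOfFiniteType (Spec.map (α i)) :=
    (HasRingHomProperty.Spec_iff (P := @LocallyOfFiniteType)).mpr (hft i)
  infer_instance

end General

section Alg

noncomputable def fu {A : Type u} [CommRing A] (f : A) : (Localization.Away f)ˣ :=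
  (IsLocalization.Away.algebraMap_isUnit (S := Localization.Away f) f).unit

lemma fu_val {A : Type u} [CommRing A] (f : A) :
    ((fu f : (Localization.Away f)ˣ) : Localization.Away f) = algebraMap A _ f :=
  IsUnit.unit_spec _

noncomputable def θ {R A : Type u} [CommRing R] [CommRing A] [Algebra R A]
    (𝒜 : ℕ → Submodule R A) [GradedAlgebra 𝒜] (f : A) :
    LaurentPolynomial (Away 𝒜 f) →+* Localization.Away f :=
  LaurentPolynomial.eval₂ (algebraMap (Away 𝒜 f) (Localization.Away f)) (fu f)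

variable {R A : Type u} [CommRing R] [CommRing A] [Algebra R A] (𝒜 : ℕ → Submodule R A)
  [GradedAlgebra 𝒜] {f : A} (hf : f ∈ 𝒜 1)

lemma θ_C (c : Away 𝒜 f) : θ 𝒜 f (LaurentPolynomial.C c) = c.val := by
  unfold θ
  rw [LaurentPolynomial.eval₂_C]
  rfl

lemma θ_C_mul_T_n (c : Away 𝒜 f) (n : ℕ) :
    θ 𝒜 f (LaurentPolynomial.C c * LaurentPolynomial.T n) =
      c.val * (algebraMap A (Localization.Away f) f) ^ n := by
  unfold θ
  rw [LaurentPolynomial.eval₂_C_mul_T_n, fu_val]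
  rfl

lemma θ_T_one : θ 𝒜 f (LaurentPolynomial.T 1) = algebraMap A (Localization.Away f) f := by
  unfold θ
  rw [LaurentPolynomial.eval₂_T, zpow_one, fu_val]

/-- `a / f^i` for `a ∈ 𝒜 i`. -/
noncomputable def frac (i : ℕ) (a : A) (ha : a ∈ 𝒜 i) : Away 𝒜 f :=
  Away.mk 𝒜 hf i a (by rwa [smul_eq_mul, mul_one])

lemma val_frac (i : ℕ) (a : A) (ha : a ∈ 𝒜 i) :
    (frac 𝒜 hf i a ha).val = Localization.mk a (⟨f ^ i, i, rfl⟩ : Submonoid.powers f) := rfl

lemma frac_zero (i : ℕ) : frac 𝒜 hf i 0 (zero_mem _) = 0 := by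
  apply HomogeneousLocalization.val_injective
  rw [val_frac, val_zero, Localization.mk_zero]

lemma frac_add (i : ℕ) (a b : A) (ha : a ∈ 𝒜 i) (hb : b ∈ 𝒜 i) :
    frac 𝒜 hf i (a + b) (add_mem ha hb) = frac 𝒜 hf i a ha + frac 𝒜 hf i b hb := by
  apply HomogeneousLocalization.val_injective
  rw [val_add, val_frac, val_frac, val_frac, Localization.add_mk_self]

lemma frac_mul (i j : ℕ) (a b : A) (ha : a ∈ 𝒜 i) (hb : b ∈ 𝒜 j) :
    frac 𝒜 hf (i + j) (a * b) (SetLike.mul_mem_graded ha hb) =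
      frac 𝒜 hf i a ha * frac 𝒜 hf j b hb := by
  apply HomogeneousLocalization.val_injective
  rw [val_mul, val_frac, val_frac, val_frac, Localization.mk_mul]
  congr 1
  exact Subtype.ext (pow_add f i j)

lemma frac_one : frac 𝒜 hf 0 1 (SetLike.one_mem_graded 𝒜) = 1 := by
  apply HomogeneousLocalization.val_injective
  have h : (⟨f ^ 0, 0, rfl⟩ : Submonoid.powers f) = 1 := Subtype.ext (pow_zero f)
  rw [val_frac, val_one, h, Localization.mk_one]

lemma frac_self : frac 𝒜 hf 1 f hf = 1 := by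
  apply HomogeneousLocalization.val_injective
  have h : (⟨f ^ 1, 1, rfl⟩ : Submonoid.powers f) = ⟨f, 1, pow_one f⟩ := Subtype.ext (pow_one f)
  rw [val_frac, val_one, h]
  exact Localization.mk_self (⟨f, 1, pow_one f⟩ : Submonoid.powers f)

noncomputable def g (i : ℕ) : 𝒜 i →+ LaurentPolynomial (Away 𝒜 f) where
  toFun a := LaurentPolynomial.C (frac 𝒜 hf i a.1 a.2) * LaurentPolynomial.T i
  map_zero' := by
    show LaurentPolynomial.C (frac 𝒜 hf i 0 _) * _ = 0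
    rw [frac_zero, map_zero, zero_mul]
  map_add' a b := by
    show LaurentPolynomial.C (frac 𝒜 hf i (a.1 + b.1) _) * _ = _
    rw [frac_add 𝒜 hf i a.1 b.1 a.2 b.2, map_add, add_mul]

lemma g_one : (g 𝒜 hf 0) (GradedMonoid.GOne.one (A := fun i => 𝒜 i)) = 1 := by
  show LaurentPolynomial.C (frac 𝒜 hf 0 1 _) * LaurentPolynomial.T ((0 : ℕ) : ℤ) = 1
  rw [frac_one, map_one, one_mul, Nat.cast_zero, LaurentPolynomial.T_zero]

lemma g_mul {i j : ℕ} (ai : 𝒜 i) (aj : 𝒜 j) :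
    (g 𝒜 hf (i + j)) (GradedMonoid.GMul.mul (A := fun i => 𝒜 i) ai aj) =
      (g 𝒜 hf i) ai * (g 𝒜 hf j) aj := by
  show LaurentPolynomial.C (frac 𝒜 hf (i + j) (ai.1 * aj.1) _) *
      LaurentPolynomial.T ((i + j : ℕ) : ℤ) =
    (LaurentPolynomial.C (frac 𝒜 hf i ai.1 ai.2) * LaurentPolynomial.T i) *
      (LaurentPolynomial.C (frac 𝒜 hf j aj.1 aj.2) * LaurentPolynomial.T j)
  rw [frac_mul 𝒜 hf i j ai.1 aj.1 ai.2 aj.2, map_mul, Nat.cast_add, LaurentPolynomial.T_add]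
  ring

noncomputable def ψ0 : (DirectSum ℕ fun i => 𝒜 i) →+* LaurentPolynomial (Away 𝒜 f) :=
  DirectSum.toSemiring (g 𝒜 hf) (g_one 𝒜 hf) (g_mul 𝒜 hf)

noncomputable def ψ : A →+* LaurentPolynomial (Away 𝒜 f) :=
  (ψ0 𝒜 hf).comp (DirectSum.decomposeRingEquiv 𝒜).toRingHom

lemma ψ_of_mem {i : ℕ} {a : A} (ha : a ∈ 𝒜 i) :
    ψ 𝒜 hf a = LaurentPolynomial.C (frac 𝒜 hf i a ha) * LaurentPolynomial.T i := by
  show ψ0 𝒜 hf (DirectSum.decompose 𝒜 a) = _
  rw [DirectSum.decompose_of_mem 𝒜 ha]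
  unfold ψ0
  rw [DirectSum.toSemiring_of]
  rfl

lemma ψ_f : ψ 𝒜 hf f = LaurentPolynomial.T 1 := by
  rw [ψ_of_mem 𝒜 hf hf, frac_self, map_one, one_mul, Nat.cast_one]

lemma isUnit_ψ_f : IsUnit (ψ 𝒜 hf f) := by
  rw [ψ_f]
  exact LaurentPolynomial.isUnit_T 1

noncomputable def ψt : Localization.Away f →+* LaurentPolynomial (Away 𝒜 f) :=
  IsLocalization.Away.lift f (isUnit_ψ_f 𝒜 hf)

lemma ψt_algebraMap (a : A) :
    ψt 𝒜 hf (algebraMap A (Localization.Away f) a) = ψ 𝒜 hf a :=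
  IsLocalization.Away.lift_eq f (isUnit_ψ_f 𝒜 hf) a

lemma ψt_mk (n : ℕ) (a : A) :
    ψt 𝒜 hf (Localization.mk a (⟨f ^ n, n, rfl⟩ : Submonoid.powers f)) * LaurentPolynomial.T n = ψ 𝒜 hf a := by
  have h1 : Localization.mk a (⟨f ^ n, n, rfl⟩ : Submonoid.powers f) *
      algebraMap A (Localization.Away f) (f ^ n) = algebraMap A _ a := by
    rw [Localization.mk_eq_mk']
    exact IsLocalization.mk'_spec _ a (⟨f ^ n, n, rfl⟩ : Submonoid.powers f)
  have h2 := congrArg (ψt 𝒜 hf) h1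
  rw [map_mul, ψt_algebraMap, ψt_algebraMap, map_pow, ψ_f, LaurentPolynomial.T_pow, mul_one] at h2
  exact h2

lemma ψt_val (c : Away 𝒜 f) : ψt 𝒜 hf c.val = LaurentPolynomial.C c := by
  obtain ⟨n, a, ha, rfl⟩ := Away.mk_surjective 𝒜 hf c
  have ha' : a ∈ 𝒜 n := by rwa [smul_eq_mul, mul_one] at ha
  rw [← (LaurentPolynomial.isUnit_T (n : ℤ)).mul_left_inj, Away.val_mk, ψt_mk,
    ψ_of_mem 𝒜 hf ha']
  rfl

lemma θ_ψ (a : A) : θ 𝒜 f (ψ 𝒜 hf a) = algebraMap A (Localization.Away f) a := by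
  refine DirectSum.Decomposition.inductionOn 𝒜
    (motive := fun a => θ 𝒜 f (ψ 𝒜 hf a) = algebraMap A (Localization.Away f) a) ?_ ?_ ?_ a
  · rw [map_zero, map_zero, map_zero]
  · intro i m
    rw [ψ_of_mem 𝒜 hf m.2, θ_C_mul_T_n, val_frac, ← map_pow, Localization.mk_eq_mk']
    exact IsLocalization.mk'_spec _ _ (⟨f ^ i, i, rfl⟩ : Submonoid.powers f)
  · intro a b ha hb
    rw [map_add, map_add, ha, hb, map_add]

lemma θ_ψt : (θ 𝒜 f).comp (ψt 𝒜 hf) = RingHom.id _ := by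
  apply IsLocalization.ringHom_ext (Submonoid.powers f)
  ext a
  simp only [RingHom.comp_apply, RingHom.id_apply]
  rw [ψt_algebraMap, θ_ψ]

lemma ψt_θ : (ψt 𝒜 hf).comp (θ 𝒜 f) = RingHom.id _ := by
  apply IsLocalization.ringHom_ext (Submonoid.powers (Polynomial.X : Polynomial (Away 𝒜 f)))
  apply Polynomial.ringHom_ext
  · intro c
    simp only [RingHom.comp_apply, RingHom.id_apply, LaurentPolynomial.algebraMap_eq_toLaurent,
      Polynomial.toLaurent_C]
    rw [θ_C, ψt_val]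
  · simp only [RingHom.comp_apply, RingHom.id_apply, LaurentPolynomial.algebraMap_eq_toLaurent,
      Polynomial.toLaurent_X]
    rw [θ_T_one, ψt_algebraMap, ψ_f]

/-- `A_f ≃ A_(f)[T, T⁻¹]` for `f` of degree one. -/
noncomputable def e : Localization.Away f ≃+* LaurentPolynomial (Away 𝒜 f) :=
  RingEquiv.ofRingHom (ψt 𝒜 hf) (θ 𝒜 f) (ψt_θ 𝒜 hf) (θ_ψt 𝒜 hf)

include hf in
lemma finiteType_algebraMap :
    (algebraMap (Away 𝒜 f) (Localization.Away f)).FiniteType := by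
  have h1 : algebraMap (Away 𝒜 f) (Localization.Away f) =
      (θ 𝒜 f).comp (LaurentPolynomial.C) := by
    ext c
    rw [RingHom.comp_apply, θ_C]
    rfl
  rw [h1]
  refine RingHom.FiniteType.comp (RingHom.FiniteType.of_surjective _ ?_) ?_
  · intro y
    exact ⟨ψt 𝒜 hf y, congrArg (fun k => k y) (θ_ψt 𝒜 hf)⟩
  · have h2 : (LaurentPolynomial.C : Away 𝒜 f →+* _) =
        algebraMap (Away 𝒜 f) (LaurentPolynomial (Away 𝒜 f)) :=
      RingHom.ext fun c => LaurentPolynomial.C_eq_algebraMap c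
    rw [h2]
    exact RingHom.finiteType_algebraMap.mpr inferInstance

open scoped AlgebraMonoidAlgebra in
include hf in
lemma exists_pushout {K : CommRingCat.{u}} (φ : CommRingCat.of (Away 𝒜 f) ⟶ K) :
    ∃ β : CommRingCat.of (Localization.Away f) ⟶ CommRingCat.of (LaurentPolynomial K),
      IsPushout (CommRingCat.ofHom (algebraMap (Away 𝒜 f) (Localization.Away f))) φ β
        (CommRingCat.ofHom (algebraMap K (LaurentPolynomial K))) := by
  let _ : Algebra (Away 𝒜 f) K := φ.hom.toAlgebra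
  have hbase := CommRingCat.isPushout_of_isPushout (Away 𝒜 f) (LaurentPolynomial (Away 𝒜 f)) K
    (LaurentPolynomial K)
  let e₂ : CommRingCat.of (LaurentPolynomial (Away 𝒜 f)) ≅ CommRingCat.of (Localization.Away f) :=
    (e 𝒜 hf).symm.toCommRingCatIso
  refine ⟨e₂.inv ≫ CommRingCat.ofHom (algebraMap (LaurentPolynomial (Away 𝒜 f))
    (LaurentPolynomial K)), ?_⟩
  refine hbase.of_iso (Iso.refl _) e₂ (Iso.refl _) (Iso.refl _) ?_ ?_ ?_ ?_
  · ext c
    show (e 𝒜 hf).symm (algebraMap _ _ c) = algebraMap _ _ c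
    rw [← LaurentPolynomial.C_eq_algebraMap]
    exact θ_C 𝒜 c
  · ext c
    rfl
  · simp
  · simp

end Alg

section Main

variable {R A : Type u} [CommRing R] [CommRing A] [Algebra R A] (𝒜 : ℕ → Submodule R A)
  [GradedAlgebra 𝒜]

lemma exists_deg_one_notMem
    (hgen : (HomogeneousIdeal.irrelevant 𝒜).toIdeal = Ideal.span (𝒜 1 : Set A)) (x : Proj 𝒜) :
    ∃ f, ∃ _ : f ∈ 𝒜 1, f ∉ x.asHomogeneousIdeal := by
  by_contra hcon
  push Not at hcon
  apply x.not_irrelevant_le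
  intro a ha
  have ha' : a ∈ (HomogeneousIdeal.irrelevant 𝒜).toIdeal := ha
  rw [hgen] at ha'
  exact (Ideal.span_le.mpr (fun b hb => hcon b hb)) ha'

lemma exists_chart_deg_one
    (hgen : (HomogeneousIdeal.irrelevant 𝒜).toIdeal = Ideal.span (𝒜 1 : Set A))
    (p : (_root_.Cone.pointed 𝒜 : Scheme.{u})) :
    ∃ f, ∃ hf : f ∈ 𝒜 1, p ∈ Set.range (_root_.Cone.chart hf one_pos) := by
  have hp : ((_root_.Cone.pointed 𝒜).ι p : PrimeSpectrum A) ∈
      (PrimeSpectrum.zeroLocus ((HomogeneousIdeal.irrelevant 𝒜).toIdeal : Set A))ᶜ := p.2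
  by_contra hcon
  push Not at hcon
  apply hp
  rw [PrimeSpectrum.mem_zeroLocus, hgen, SetLike.coe_subset_coe, Ideal.span_le]
  intro b hb
  by_contra hb'
  exact hcon b hb ((Groth.Agent.H2.Cone.mem_range_chart_iff hb one_pos p).mpr hb')

theorem main_S3576 {R A : Type u} [CommRing R] [CommRing A] [Algebra R A] (𝒜 : ℕ → Submodule R A) [GradedAlgebra 𝒜]
    (hgen : (HomogeneousIdeal.irrelevant 𝒜).toIdeal = Ideal.span (𝒜 1 : Set A))
    (π : (Cone.pointed 𝒜 : Scheme.{u}) ⟶ Proj 𝒜)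
    (hπ : ∀ (d : ℕ) (f : A) (hd : 0 < d) (hf : f ∈ 𝒜 d),
        Cone.chart hf hd ≫ π =
          Spec.map (CommRingCat.ofHom (algebraMap (HomogeneousLocalization.Away 𝒜 f) (Localization.Away f))) ≫
            Proj.awayι 𝒜 f hf hd)
    (x : Proj 𝒜) :
    LocallyOfFiniteType π ∧ QuasiCompact π ∧
      ∃ e : pullback π ((Proj 𝒜).fromSpecResidueField x) ≅
          Spec (CommRingCat.of (LaurentPolynomial ((Proj 𝒜).residueField x))),
        e.hom ≫ Spec.map (CommRingCat.ofHom (algebraMap ((Proj 𝒜).residueField x)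
          (LaurentPolynomial ((Proj 𝒜).residueField x)))) = pullback.snd π ((Proj 𝒜).fromSpecResidueField x) := by
  have haff : IsAffineHom π := Groth.Agent.H2.Cone.isAffineHom_π 𝒜 π hπ
  refine ⟨?_, inferInstance, ?_⟩
  · refine loft_of_charts π (J := {f : A // f ∈ 𝒜 1})
      (fun f => CommRingCat.of (Away 𝒜 f.1)) (fun f => CommRingCat.of (Localization.Away f.1))
      (fun f => Proj.awayι 𝒜 f.1 f.2 one_pos) (fun f => _root_.Cone.chart f.2 one_pos)
      (fun f => CommRingCat.ofHom (algebraMap (Away 𝒜 f.1) (Localization.Away f.1)))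
      (fun f => hπ 1 f.1 one_pos f.2) ?_ ?_
    · intro p
      obtain ⟨f, hf, hp⟩ := exists_chart_deg_one 𝒜 hgen p
      exact ⟨⟨f, hf⟩, hp⟩
    · intro f
      exact finiteType_algebraMap 𝒜 f.2
  · obtain ⟨f, hf, hfx⟩ := exists_deg_one_notMem 𝒜 hgen x
    refine fibre_iso π x (Proj.awayι 𝒜 f hf one_pos) (_root_.Cone.chart hf one_pos)
      (CommRingCat.ofHom (algebraMap (Away 𝒜 f) (Localization.Away f))) (hπ 1 f one_pos hf) ?_ ?_
      (CommRingCat.of (LaurentPolynomial ((Proj 𝒜).residueField x)))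
      (CommRingCat.ofHom (algebraMap ((Proj 𝒜).residueField x)
        (LaurentPolynomial ((Proj 𝒜).residueField x)))) ?_
    · have : x ∈ (Proj.awayι 𝒜 f hf one_pos).opensRange := by
        rw [Proj.opensRange_awayι]
        exact (Proj.mem_basicOpen 𝒜 f x).mpr hfx
      exact this
    · rw [Proj.opensRange_awayι, Groth.Agent.H2.Cone.π_preimage_basicOpen 𝒜 π hπ hf,
        Groth.Agent.H2.Cone.ι_preimage_coneOpen_eq_opensRange 𝒜 hf one_pos]
    · intro φ
      exact exists_pushout 𝒜 hf φ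

end Main

end Groth.Agent.H4.ConeFib
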