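import Groth.Agent.H4.ConeImm

set_option autoImplicit false

namespace Groth.Agent.H4.ConeInf

open CategoryTheory CategoryTheory.Limits AlgebraicGeometry TopologicalSpace Opposite
open HomogeneousLocalization
open Groth.Agent.H4 Groth.Agent.H4.RelSpecLib Groth.Agent.H4.ConeImm
open scoped HomogeneousIdeal

universe u

section Cone

variable {Y : Scheme.{u}} {𝒮 Sh : RelProj.QCGrAlg Y} {ι : 𝒮.toQCAlg ⟶ Sh.toQCAlg}
  {z : Sh.presheaf.obj (op ⊤)} (hz : RelCone.IsPolyOver 𝒮 Sh ι z)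

theorem rule_awayZToBase :
    Rule hz (fun U hU => CommRingCat.ofHom (hz.awayZToBase U hU)) := by
  intro U hU k a
  change hz.awayZToBase U hU (ConeAlg.gk (RelProj.gradedHomAt ι hz.graded U hU)
    (RelCone.restrictTop Sh z U) (hz.deg_z U hU) k a) = _
  rw [hz.awayZToBase_of_val U hU _
    ((RelProj.gradedHomAt ι hz.graded U hU) (GradedRing.proj (𝒮.deg U hU) k a)) k rfl]
  exact hz.evalOne_ι U hU _

variable {PC : Scheme.{u}} (pC : PC ⟶ Y)
  (chartC : ∀ (U : Y.Opens) (hU : IsAffineOpen U),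
    (((pC ⁻¹ᵁ U : PC.Opens) : Scheme.{u}) ≅ Proj (Sh.deg U hU)))

section Infinity

variable (ρ : Sh.toQCAlg ⟶ 𝒮.toQCAlg) (hρ : RelProj.IsGradedHom ρ)

include hz in
theorem ρ_ι (hιρ : ι ≫ ρ = 𝟙 _) (U : Y.Opens) (hU : IsAffineOpen U) (a : 𝒮.presheaf.obj (op U)) :
    (RelProj.gradedHomAt ρ hρ U hU) ((RelProj.gradedHomAt ι hz.graded U hU) a) = a :=
  congrArg (fun t : 𝒮.toQCAlg ⟶ 𝒮.toQCAlg => (t.hom.app (op U)).hom a) hιρ

theorem ρ_z (hρz : (ρ.hom.app (op ⊤)).hom z = 0) (U : Y.Opens) (hU : IsAffineOpen U) :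
    (RelProj.gradedHomAt ρ hρ U hU) (RelCone.restrictTop Sh z U) = 0 := by
  have h1 := congrArg (fun t => t.hom z) (ρ.hom.naturality (homOfLE (le_top : U ≤ ⊤)).op)
  have h2 : (ρ.hom.app (op U)).hom ((Sh.presheaf.map (homOfLE (le_top : U ≤ ⊤)).op).hom z) =
      (𝒮.presheaf.map (homOfLE (le_top : U ≤ ⊤)).op).hom ((ρ.hom.app (op ⊤)).hom z) := h1
  change (ρ.hom.app (op U)).hom ((Sh.presheaf.map (homOfLE (le_top : U ≤ ⊤)).op).hom z) = 0
  rw [h2, hρz, map_zero]

variable (hirr : ∀ (U : Y.Opens) (hU : IsAffineOpen U),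
      (𝒮.deg U hU)₊ ≤ ((Sh.deg U hU)₊).map (RelProj.gradedHomAt ρ hρ U hU))
  {P : Scheme.{u}} (p : P ⟶ Y)
  (chart : ∀ (U : Y.Opens) (hU : IsAffineOpen U),
    (((p ⁻¹ᵁ U : P.Opens) : Scheme.{u}) ≅ Proj (𝒮.deg U hU)))
  (j : P ⟶ PC) (hj : RelProj.IsRelProjMap ρ hρ hirr chartC chart j)

include hj in
theorem emb_comp_j (U : Y.Opens) (hU : IsAffineOpen U) :
    RelProj.emb p chart U hU ≫ j =
      Proj.map (RelProj.gradedHomAt ρ hρ U hU) (hirr U hU) ≫ RelProj.emb pC chartC U hU := by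
  unfold RelProj.emb
  rw [Category.assoc, hj U hU, Iso.inv_hom_id_assoc]

include hj in
theorem emb_mem_range_j_iff (hP : RelProj.IsRelProj 𝒮 p chart)
    (hPC : RelProj.IsRelProj Sh pC chartC) (U : Y.Opens) (hU : IsAffineOpen U)
    (y : Proj (Sh.deg U hU)) :
    (RelProj.emb pC chartC U hU).base y ∈ Set.range j.base ↔
      y ∈ Set.range (Proj.map (RelProj.gradedHomAt ρ hρ U hU) (hirr U hU)).base := by
  constructor
  · rintro ⟨c, hc⟩
    have hover : j ≫ pC = p := RelProjLib.relProjMap_over ρ hρ hirr hPC hP hj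
    have hcU : p.base c ∈ U := by
      rw [← hover]
      show pC.base (j.base c) ∈ U
      rw [hc]; exact emb_mem pC chartC U hU y
    obtain ⟨w, rfl⟩ := exists_emb p chart c U hU hcU
    refine ⟨w, ?_⟩
    apply (RelProj.emb pC chartC U hU).isOpenEmbedding.injective
    rw [← hc]
    exact congrArg (fun k : Proj (𝒮.deg U hU) ⟶ PC => k.base w)
      (emb_comp_j pC chartC ρ hρ hirr p chart j hj U hU).symm
  · rintro ⟨w, rfl⟩
    exact ⟨(RelProj.emb p chart U hU).base w, congrArg (fun k : Proj (𝒮.deg U hU) ⟶ PC => k.base w)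
      (emb_comp_j pC chartC ρ hρ hirr p chart j hj U hU)⟩

include hj in
theorem main_S8297 (hPC : RelProj.IsRelProj Sh pC chartC)
    (i : 𝒮.toQCAlg.spec ⟶ PC) (hi : RelCone.IsConeImm 𝒮 hz pC chartC i)
    (hιρ : ι ≫ ρ = 𝟙 _) (hρz : (ρ.hom.app (op ⊤)).hom z = 0)
    (hP : RelProj.IsRelProj 𝒮 p chart) :
    Set.range i.base = (Set.range j.base)ᶜ := by
  have hrule := rule_awayZToBase hz
  ext x
  obtain ⟨U, hU, hxU, -⟩ := Opens.isBasis_iff_nbhd.mp Y.isBasis_affineOpens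
    (show pC.base x ∈ (⊤ : Y.Opens) from trivial)
  obtain ⟨y, rfl⟩ := exists_emb pC chartC x U hU hxU
  rw [emb_mem_range_iff hz _ hrule pC chartC i hi hPC U hU y, Set.mem_compl_iff,
    emb_mem_range_j_iff pC chartC ρ hρ hirr p chart j hj hP hPC U hU y,
    ConeAlg.range_map_θg (RelProj.gradedHomAt ι hz.graded U hU) (RelCone.restrictTop Sh z U)
      (RelProj.gradedHomAt ρ hρ U hU) (ρ_ι hz ρ hρ hιρ U hU) (ρ_z ρ hρ hρz U hU) (hsurj hz U hU)
      (hirr U hU)]
  exact Iff.rfl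

end Infinity

section Vertex

include hz in
theorem domOpen_res_basic (U : Y.Opens) (hU : IsAffineOpen U) (r : Γ(Y, U))
    (w : Proj (Sh.deg (Y.basicOpen r) (hU.basicOpen r))) :
    w ∈ RelCone.domOpen (RelProj.gradedHomAt ι hz.graded (Y.basicOpen r) (hU.basicOpen r)) ↔
      (Proj.map (Sh.res hU (hU.basicOpen r) (Y.basicOpen_le r)) (Sh.irrelevant_le_map U hU r)).base w ∈
        RelCone.domOpen (RelProj.gradedHomAt ι hz.graded U hU) := by
  rw [RelCone.mem_domOpen, RelCone.mem_domOpen]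
  constructor
  · rintro ⟨g, hg, hgw⟩
    by_contra hcon
    push Not at hcon
    apply hgw
    have h1 := 𝒮.irrelevant_le_map U hU r hg
    have h2 : Ideal.map (𝒮.res hU (hU.basicOpen r) (Y.basicOpen_le r))
        ((HomogeneousIdeal.irrelevant (𝒮.deg U hU)).toIdeal) ≤
        Ideal.comap (RelProj.gradedHomAt ι hz.graded (Y.basicOpen r) (hU.basicOpen r))
          w.asHomogeneousIdeal.toIdeal := by
      rw [Ideal.map_le_iff_le_comap]
      intro f hf
      have h3 := hcon f hf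
      show (RelProj.gradedHomAt ι hz.graded (Y.basicOpen r) (hU.basicOpen r))
        ((𝒮.res hU (hU.basicOpen r) (Y.basicOpen_le r)) f) ∈ w.asHomogeneousIdeal
      rw [← ι_res hz hU (hU.basicOpen r) (Y.basicOpen_le r) f]
      exact h3
    exact h2 h1
  · rintro ⟨f, hf, hfw⟩
    refine ⟨(𝒮.res hU (hU.basicOpen r) (Y.basicOpen_le r)) f,
      ConeLib.gradedHom_mem_irrelevant _ hf, ?_⟩
    rw [← ι_res hz hU (hU.basicOpen r) (Y.basicOpen_le r) f]
    exact hfw

include hz in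
theorem domOpen_res (U W : Y.Opens) (hU : IsAffineOpen U) (hW : IsAffineOpen W) (hWU : W ≤ U)
    (r : Γ(Y, U)) (hr : W = Y.basicOpen r)
    (hirr : (Sh.deg W hW)₊ ≤ ((Sh.deg U hU)₊).map (Sh.res hU hW hWU)) (w : Proj (Sh.deg W hW)) :
    w ∈ RelCone.domOpen (RelProj.gradedHomAt ι hz.graded W hW) ↔
      (Proj.map (Sh.res hU hW hWU) hirr).base w ∈
        RelCone.domOpen (RelProj.gradedHomAt ι hz.graded U hU) := by
  subst hr
  exact domOpen_res_basic hz U hU r w

theorem mem_pointedProjCone_iff (hPC : RelProj.IsRelProj Sh pC chartC) (U : Y.Opens)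
    (hU : IsAffineOpen U) (y : Proj (Sh.deg U hU)) :
    (RelProj.emb pC chartC U hU).base y ∈ RelCone.pointedProjCone 𝒮 hz pC chartC ↔
      y ∈ RelCone.domOpen (RelProj.gradedHomAt ι hz.graded U hU) := by
  constructor
  · intro h
    unfold RelCone.pointedProjCone at h
    rw [Opens.mem_iSup] at h
    obtain ⟨⟨U₁, hU₁⟩, y₁, hy₁, he⟩ := h
    have hs : pC.base ((RelProj.emb pC chartC U hU).base y) ∈ U ⊓ U₁ :=
      ⟨emb_mem pC chartC U hU y, by rw [← he]; exact emb_mem pC chartC U₁ hU₁ y₁⟩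
    obtain ⟨f, g, hfg, hxf⟩ := exists_basicOpen_le_affine_inter hU hU₁ _ hs
    have hW : IsAffineOpen (Y.basicOpen f) := hU.basicOpen f
    have hW1 : Y.basicOpen f ≤ U₁ := hfg ▸ Y.basicOpen_le g
    obtain ⟨w, hw⟩ := exists_emb pC chartC _ (Y.basicOpen f) hW hxf
    have irr1 := irr_res (𝒜 := Sh) U (Y.basicOpen f) hU hW (Y.basicOpen_le f) f rfl
    have irr2 := irr_res (𝒜 := Sh) U₁ (Y.basicOpen f) hU₁ hW hW1 g hfg
    have he' : (RelProj.emb pC chartC U₁ hU₁).base y₁ = (RelProj.emb pC chartC U hU).base y := he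
    have e1 : (Proj.map (Sh.res hU hW (Y.basicOpen_le f)) irr1).base w = y := by
      apply (RelProj.emb pC chartC U hU).isOpenEmbedding.injective
      have k1 := congrArg (fun k : Proj (Sh.deg (Y.basicOpen f) hW) ⟶ PC => k.base w)
        (emb_res pC chartC hPC U (Y.basicOpen f) hU hW (Y.basicOpen_le f) f rfl irr1)
      exact k1.trans hw
    have e2 : (Proj.map (Sh.res hU₁ hW hW1) irr2).base w = y₁ := by
      apply (RelProj.emb pC chartC U₁ hU₁).isOpenEmbedding.injective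
      have k1 := congrArg (fun k : Proj (Sh.deg (Y.basicOpen f) hW) ⟶ PC => k.base w)
        (emb_res pC chartC hPC U₁ (Y.basicOpen f) hU₁ hW hW1 g hfg irr2)
      exact (k1.trans hw).trans he'.symm
    rw [← e1, ← domOpen_res hz U (Y.basicOpen f) hU hW (Y.basicOpen_le f) f rfl irr1,
      domOpen_res hz U₁ (Y.basicOpen f) hU₁ hW hW1 g hfg irr2, e2]
    exact hy₁
  · intro hy
    unfold RelCone.pointedProjCone
    rw [Opens.mem_iSup]
    exact ⟨⟨U, hU⟩, y, hy, rfl⟩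

variable (θ : ∀ (U : Y.Opens) (hU : IsAffineOpen U),
    CommRingCat.of (Away (Sh.deg U hU) (RelCone.restrictTop Sh z U)) ⟶ 𝒮.presheaf.obj (op U))
  (hθ : Rule hz θ)

include hθ in
theorem mem_domOpen_iff (U : Y.Opens) (hU : IsAffineOpen U)
    (v : Spec (𝒮.presheaf.obj (op U))) :
    (Spec.map (θ U hU) ≫ Proj.awayι (Sh.deg U hU) (RelCone.restrictTop Sh z U)
        (hz.deg_z U hU) one_pos).base v ∈
      RelCone.domOpen (RelProj.gradedHomAt ι hz.graded U hU) ↔
        v ∈ RelCone.vertexCompl (𝒮.deg U hU) := by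
  rw [RelCone.mem_domOpen, ConeLib.mem_vertexCompl_iff]
  constructor
  · rintro ⟨f, hf, hfy⟩
    obtain ⟨d, hd, g, hg, hgI⟩ := ConeAlg.exists_homog_notMem (𝒮.deg U hU)
      (Ideal.comap (RelProj.gradedHomAt ι hz.graded U hU)
        ((Spec.map (θ U hU) ≫ Proj.awayι (Sh.deg U hU) (RelCone.restrictTop Sh z U)
          (hz.deg_z U hU) one_pos).base v).asHomogeneousIdeal.toIdeal) hf hfy
    refine ⟨g, HomogeneousIdeal.mem_irrelevant_of_mem _ hd hg, ?_⟩
    exact (ConeAlg.awayι_mem_basicOpen_iff (RelProj.gradedHomAt ι hz.graded U hU) _ (hz.deg_z U hU)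
      (θ U hU).hom (hθ U hU) hd hg v).mp hgI
  · rintro ⟨f, hf, hfv⟩
    obtain ⟨d, hd, g, hg, hgI⟩ := ConeAlg.exists_homog_notMem (𝒮.deg U hU) v.asIdeal hf hfv
    refine ⟨g, HomogeneousIdeal.mem_irrelevant_of_mem _ hd hg, ?_⟩
    exact (ConeAlg.awayι_mem_basicOpen_iff (RelProj.gradedHomAt ι hz.graded U hU) _ (hz.deg_z U hU)
      (θ U hU).hom (hθ U hU) hd hg v).mpr hgI

theorem main_S8298 (h0 : RelCone.StrZeroBij 𝒮) (hPC : RelProj.IsRelProj Sh pC chartC)
    (aug : 𝒮.toQCAlg ⟶ RelSpec.QCAlg.unit Y) (haug : RelCone.IsAugmentation 𝒮 aug)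
    (ε : Y ⟶ 𝒮.toQCAlg.spec) (hε : RelCone.IsVertex 𝒮 aug ε)
    (i : 𝒮.toQCAlg.spec ⟶ PC) (hi : RelCone.IsConeImm 𝒮 hz pC chartC i) :
    ((RelCone.pointedProjCone 𝒮 hz pC chartC : PC.Opens) : Set PC) =
      (Set.range (ε ≫ i).base)ᶜ := by
  have hrule := rule_awayZToBase hz
  have hopen : IsOpenImmersion i := isOpenImmersion_i hz _ hrule pC chartC i hi hPC
  ext x
  obtain ⟨U, hU, hxU, -⟩ := Opens.isBasis_iff_nbhd.mp Y.isBasis_affineOpens
    (show pC.base x ∈ (⊤ : Y.Opens) from trivial)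
  obtain ⟨y, rfl⟩ := exists_emb pC chartC x U hU hxU
  rw [SetLike.mem_coe, mem_pointedProjCone_iff hz pC chartC hPC U hU y, Set.mem_compl_iff]
  by_cases hzy : RelCone.restrictTop Sh z U ∈ y.asHomogeneousIdeal
  · have h1 : y ∈ RelCone.domOpen (RelProj.gradedHomAt ι hz.graded U hU) := by
      rw [RelCone.mem_domOpen]
      by_contra hcon
      push Not at hcon
      apply y.not_irrelevant_le
      rw [HomogeneousIdeal.irrelevant_le]
      intro d hd b hb
      exact ConeAlg.mem_of_z_mem (RelProj.gradedHomAt ι hz.graded U hU) _ (hz.deg_z U hU)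
        (hsurj hz U hU) y.asHomogeneousIdeal.toIdeal hzy
        (fun d' hd' a ha => hcon a (HomogeneousIdeal.mem_irrelevant_of_mem _ hd' ha)) hd hb
    have h2 : (RelProj.emb pC chartC U hU).base y ∉ Set.range (ε ≫ i).base := by
      rintro ⟨s, hs⟩
      have h3 : (RelProj.emb pC chartC U hU).base y ∈ Set.range i.base := ⟨ε.base s, hs⟩
      rw [emb_mem_range_iff hz _ hrule pC chartC i hi hPC U hU y] at h3
      exact h3 hzy
    exact ⟨fun _ => h2, fun _ => h1⟩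
  · obtain ⟨v, rfl⟩ := exists_of_mem_basicOpen hz _ hrule U hU y hzy
    have hx : (RelProj.emb pC chartC U hU).base
        ((Spec.map (CommRingCat.ofHom (hz.awayZToBase U hU)) ≫
          Proj.awayι (Sh.deg U hU) (RelCone.restrictTop Sh z U) (hz.deg_z U hU) one_pos).base v) =
        i.base ((𝒮.toQCAlg.ι U hU).base v) :=
      (congrArg (fun k : Spec (𝒮.presheaf.obj (op U)) ⟶ PC => k.base v) (hi U hU)).symm
    rw [mem_domOpen_iff hz _ hrule U hU v, hx]
    have h3 := Groth.Agent.S8296.mem_range_iff 𝒮 h0 aug haug ε hε U hU v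
    constructor
    · rintro hv ⟨s, hs⟩
      have h4 : (𝒮.toQCAlg.ι U hU).base v ∈ Set.range ε.base :=
        ⟨s, i.isOpenEmbedding.injective hs⟩
      exact (h3.mp h4) hv
    · intro hx2
      by_contra hv
      obtain ⟨s, hs⟩ := h3.mpr hv
      exact hx2 ⟨s, congrArg i.base hs⟩

end Vertex

end Cone

end Groth.Agent.H4.ConeInf
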