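import Groth.Agent.H4.ConeRetr

set_option autoImplicit false

namespace Groth.Agent.H4.ConeRetr2

open CategoryTheory CategoryTheory.Limits AlgebraicGeometry TopologicalSpace Opposite
open HomogeneousLocalization
open Groth.Agent.H4 Groth.Agent.H4.RelSpecLib Groth.Agent.H4.ConeImm Groth.Agent.H4.ConeInf
open Groth.Agent.H4.ConeRetrAlg Groth.Agent.H4.ConeRetr
open scoped HomogeneousIdeal

universe u

section ProjAux

variable {A : Type u} [CommRing A] (𝒜 : ℕ → AddSubgroup A) [GradedRing 𝒜]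

theorem proj_le_of_pos (y₁ y₂ : Proj 𝒜)
    (h : ∀ e : ℕ, 0 < e → ∀ a ∈ 𝒜 e,
      (a ∈ y₁.asHomogeneousIdeal.toIdeal → a ∈ y₂.asHomogeneousIdeal.toIdeal)) :
    y₁.asHomogeneousIdeal.toIdeal ≤ y₂.asHomogeneousIdeal.toIdeal := by
  classical
  intro a ha
  obtain ⟨d, hd, g, hg, hyg⟩ := exists_homog_basicOpen 𝒜 y₂
  rw [← DirectSum.sum_support_decompose 𝒜 a]
  refine Ideal.sum_mem _ fun k _ => ?_
  have hk : (DirectSum.decompose 𝒜 a k : A) ∈ y₁.asHomogeneousIdeal.toIdeal :=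
    y₁.asHomogeneousIdeal.isHomogeneous k ha
  rcases Nat.eq_zero_or_pos k with rfl | hk0
  · have h1 : (DirectSum.decompose 𝒜 a 0 : A) * g ∈ y₁.asHomogeneousIdeal.toIdeal :=
      Ideal.mul_mem_right _ _ hk
    have h2 : (DirectSum.decompose 𝒜 a 0 : A) * g ∈ 𝒜 (0 + d) :=
      SetLike.mul_mem_graded (SetLike.coe_mem _) hg
    have h3 := h (0 + d) (by omega) _ h2 h1
    exact (y₂.isPrime.mem_or_mem h3).resolve_right hyg
  · exact h k hk0 _ (SetLike.coe_mem _) hk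

theorem proj_ext_pos (y₁ y₂ : Proj 𝒜)
    (h : ∀ e : ℕ, 0 < e → ∀ a ∈ 𝒜 e,
      (y₁ ∈ Proj.basicOpen 𝒜 a ↔ y₂ ∈ Proj.basicOpen 𝒜 a)) : y₁ = y₂ := by
  have h' : ∀ e : ℕ, 0 < e → ∀ a ∈ 𝒜 e,
      (a ∈ y₁.asHomogeneousIdeal.toIdeal ↔ a ∈ y₂.asHomogeneousIdeal.toIdeal) := by
    intro e he a ha
    have h1 := h e he a ha
    rw [Proj.mem_basicOpen, Proj.mem_basicOpen] at h1
    exact not_iff_not.mp h1
  apply ProjectiveSpectrum.ext
  apply HomogeneousIdeal.toIdeal_injective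
  exact le_antisymm (proj_le_of_pos 𝒜 y₁ y₂ fun e he a ha => (h' e he a ha).mp)
    (proj_le_of_pos 𝒜 y₂ y₁ fun e he a ha => (h' e he a ha).mpr)

end ProjAux

section Cone9

variable {Y : Scheme.{u}} {𝒮 Sh : RelProj.QCGrAlg Y} {ι : 𝒮.toQCAlg ⟶ Sh.toQCAlg}
  {z : Sh.presheaf.obj (op ⊤)} (hz : RelCone.IsPolyOver 𝒮 Sh ι z)
  {PC : Scheme.{u}} (pC : PC ⟶ Y)
  (chartC : ∀ (U : Y.Opens) (hU : IsAffineOpen U),
    (((pC ⁻¹ᵁ U : PC.Opens) : Scheme.{u}) ≅ Proj (Sh.deg U hU)))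
  {P : Scheme.{u}} (p : P ⟶ Y)
  (chart : ∀ (U : Y.Opens) (hU : IsAffineOpen U),
    (((p ⁻¹ᵁ U : P.Opens) : Scheme.{u}) ≅ Proj (𝒮.deg U hU)))
  (i : 𝒮.toQCAlg.spec ⟶ PC) (hi : RelCone.IsConeImm 𝒮 hz pC chartC i)

theorem exists_ι_eq (x : 𝒮.toQCAlg.spec) :
    ∃ (U : Y.Opens) (hU : IsAffineOpen U) (v : Spec (𝒮.presheaf.obj (op U))),
      (𝒮.toQCAlg.ι U hU).base v = x := by
  obtain ⟨U, hU, hxU, -⟩ := Opens.isBasis_iff_nbhd.mp Y.isBasis_affineOpens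
    (show 𝒮.toQCAlg.π.base x ∈ (⊤ : Y.Opens) from trivial)
  have hx : x ∈ 𝒮.toQCAlg.π ⁻¹ᵁ U := hxU
  rw [𝒮.toQCAlg.π_preimage U hU] at hx
  obtain ⟨v, hv⟩ := hx
  exact ⟨U, hU, v, hv⟩

include hi in
theorem i_ι_apply (U : Y.Opens) (hU : IsAffineOpen U) (v : Spec (𝒮.presheaf.obj (op U))) :
    i.base ((𝒮.toQCAlg.ι U hU).base v) =
      (RelProj.emb pC chartC U hU).base
        ((Spec.map (CommRingCat.ofHom (hz.awayZToBase U hU)) ≫
          Proj.awayι (Sh.deg U hU) (RelCone.restrictTop Sh z U) (hz.deg_z U hU) one_pos).base v) :=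
  congrArg (fun k : Spec (𝒮.presheaf.obj (op U)) ⟶ PC => k.base v) (hi U hU)

include hi in
theorem i_mem_iff (hPC : RelProj.IsRelProj Sh pC chartC) (U : Y.Opens) (hU : IsAffineOpen U)
    (v : Spec (𝒮.presheaf.obj (op U))) :
    i.base ((𝒮.toQCAlg.ι U hU).base v) ∈ RelCone.pointedProjCone 𝒮 hz pC chartC ↔
      v ∈ RelCone.vertexCompl (𝒮.deg U hU) := by
  rw [i_ι_apply hz pC chartC i hi U hU v, mem_pointedProjCone_iff hz pC chartC hPC U hU]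
  exact mem_domOpen_iff hz _ (rule_awayZToBase hz) U hU v

include hi in
theorem preimage_eq (hPC : RelProj.IsRelProj Sh pC chartC) :
    i ⁻¹ᵁ RelCone.pointedProjCone 𝒮 hz pC chartC = RelCone.pointedCone 𝒮 := by
  ext x
  obtain ⟨U, hU, v, rfl⟩ := exists_ι_eq x
  exact (i_mem_iff hz pC chartC i hi hPC U hU v).trans
    (ConeLib.mem_pointedCone_iff 𝒮 U hU v).symm

variable (r : ((RelCone.pointedProjCone 𝒮 hz pC chartC : PC.Opens) : Scheme.{u}) ⟶ P)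
  (hr : ∀ (U : Y.Opens) (hU : IsAffineOpen U) (d : ℕ) (hd : 0 < d) (f : 𝒮.presheaf.obj (op U))
    (hf : f ∈ 𝒮.deg U hU d),
    aj hz pC chartC U hU hd f hf ≫ r = gj hz p chart U hU hd f hf)
  (i' : ((RelCone.pointedCone 𝒮 : 𝒮.toQCAlg.spec.Opens) : Scheme.{u}) ⟶
    ((RelCone.pointedProjCone 𝒮 hz pC chartC : PC.Opens) : Scheme.{u}))
  (hi' : i' ≫ (RelCone.pointedProjCone 𝒮 hz pC chartC).ι = (RelCone.pointedCone 𝒮).ι ≫ i)

include hi hi' in
theorem isAffineHom_i' (hPC : RelProj.IsRelProj Sh pC chartC) : IsAffineHom i' := by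
  have hrule := rule_awayZToBase hz
  have haff : IsAffineHom i := isAffineHom_i hz _ hrule pC chartC i hi hPC
  have hpb : IsPullback i' (RelCone.pointedCone 𝒮).ι
      (RelCone.pointedProjCone 𝒮 hz pC chartC).ι i := by
    apply IsOpenImmersion.isPullback
    · exact hi'.symm
    · rw [Scheme.Opens.opensRange_ι, Scheme.Opens.opensRange_ι]
      exact preimage_eq hz pC chartC i hi hPC
  exact MorphismProperty.of_isPullback (P := @IsAffineHom) hpb.flip haff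

include hi hi' hr in
theorem pi_surjective : Function.Surjective (i' ≫ r).base := by
  have hrule := rule_awayZToBase hz
  intro x
  obtain ⟨U, hU, hxU, -⟩ := Opens.isBasis_iff_nbhd.mp Y.isBasis_affineOpens
    (show p.base x ∈ (⊤ : Y.Opens) from trivial)
  obtain ⟨y, rfl⟩ := exists_emb p chart x U hU hxU
  obtain ⟨d, hd, g, hg, hyg⟩ := exists_homog_basicOpen (𝒮.deg U hU) y
  obtain ⟨q, hq⟩ : ∃ q : Spec (𝒮.presheaf.obj (op U)), q.asIdeal = y.asHomogeneousIdeal.toIdeal :=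
    ⟨⟨y.asHomogeneousIdeal.toIdeal, y.isPrime⟩, rfl⟩
  have hgq : g ∉ q.asIdeal := by rw [hq]; exact hyg
  have hqv : q ∈ RelCone.vertexCompl (𝒮.deg U hU) := by
    rw [ConeLib.mem_vertexCompl_iff]
    exact ⟨g, HomogeneousIdeal.mem_irrelevant_of_mem _ hd hg, hgq⟩
  have hqE : (𝒮.toQCAlg.ι U hU).base q ∈ RelCone.pointedCone 𝒮 :=
    (ConeLib.mem_pointedCone_iff 𝒮 U hU q).mpr hqv
  obtain ⟨𝔓, h𝔓⟩ : ∃ 𝔓 : Proj (Sh.deg U hU), 𝔓 =
      (Spec.map (CommRingCat.ofHom (hz.awayZToBase U hU)) ≫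
        Proj.awayι (Sh.deg U hU) (RelCone.restrictTop Sh z U) (hz.deg_z U hU) one_pos).base q :=
    ⟨_, rfl⟩
  have hmem : ∀ {e' : ℕ} (he' : 0 < e') {a : 𝒮.presheaf.obj (op U)} (ha : a ∈ 𝒮.deg U hU e'),
      𝔓 ∈ Proj.basicOpen (Sh.deg U hU) ((RelProj.gradedHomAt ι hz.graded U hU) a) ↔
        a ∉ q.asIdeal := by
    intro e' he' a ha
    rw [h𝔓]
    exact ConeAlg.awayι_mem_basicOpen_iff (RelProj.gradedHomAt ι hz.graded U hU) _
      (hz.deg_z U hU) (CommRingCat.ofHom (hz.awayZToBase U hU)).hom (hrule U hU) he' ha q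
  obtain ⟨w, hw⟩ := exists_awayι_eq (Sh.deg U hU) hd _ (Graded.map_mem _ hg) 𝔓
    ((hmem hd hg).mpr hgq)
  refine ⟨(⟨(𝒮.toQCAlg.ι U hU).base q, hqE⟩ :
    ((RelCone.pointedCone 𝒮 : 𝒮.toQCAlg.spec.Opens) : Scheme.{u})), ?_⟩
  have h1 : i'.base (⟨(𝒮.toQCAlg.ι U hU).base q, hqE⟩ :
      ((RelCone.pointedCone 𝒮 : 𝒮.toQCAlg.spec.Opens) : Scheme.{u})) =
      (aj hz pC chartC U hU hd g hg).base w := by
    apply (RelCone.pointedProjCone 𝒮 hz pC chartC).ι.isOpenEmbedding.injective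
    have k1 := congrArg (fun t : ((RelCone.pointedCone 𝒮 : 𝒮.toQCAlg.spec.Opens) : Scheme.{u}) ⟶ PC =>
      t.base ⟨(𝒮.toQCAlg.ι U hU).base q, hqE⟩) hi'
    have k2 := congrArg (fun t : Spec (CommRingCat.of (Away (Sh.deg U hU)
      ((RelProj.gradedHomAt ι hz.graded U hU) g))) ⟶ PC => t.base w)
      (aj_ι hz pC chartC U hU hd g hg)
    have k3 : (bj hz pC chartC U hU hd g hg).base w = (RelProj.emb pC chartC U hU).base 𝔓 :=
      congrArg (RelProj.emb pC chartC U hU).base hw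
    have k4 : i.base ((𝒮.toQCAlg.ι U hU).base q) = (RelProj.emb pC chartC U hU).base 𝔓 := by
      rw [h𝔓]; exact i_ι_apply hz pC chartC i hi U hU q
    exact k1.trans (k4.trans (k3.symm.trans k2.symm))
  have h2 := congrArg (fun t : Spec (CommRingCat.of (Away (Sh.deg U hU)
    ((RelProj.gradedHomAt ι hz.graded U hU) g))) ⟶ P => t.base w) (hr U hU d hd g hg)
  have h4 : (Proj.awayι (𝒮.deg U hU) g hg hd).base
      ((Spec.map (CommRingCat.ofHom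
        (Away.map (RelProj.gradedHomAt ι hz.graded U hU) g))).base w) = y := by
    apply proj_ext_pos
    intro e' he' a ha
    rw [← mem_basicOpen_iff_ring (RelProj.gradedHomAt ι hz.graded U hU) he' hd ha hg w, hw,
      hmem he' ha, hq]
    rfl
  show r.base (i'.base _) = _
  rw [h1]
  exact h2.trans (congrArg (RelProj.emb p chart U hU).base h4)

end Cone9

theorem main_S8309 {Y PC P : Scheme.{u}} (𝒮 𝒮h : RelProj.QCGrAlg Y) (h0 : RelCone.StrZeroBij 𝒮)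
    (ι : 𝒮.toQCAlg ⟶ 𝒮h.toQCAlg) (z : 𝒮h.presheaf.obj (op ⊤)) (hz : RelCone.IsPolyOver 𝒮 𝒮h ι z)
    (pC : PC ⟶ Y)
    (chartC : ∀ (U : Y.Opens) (hU : IsAffineOpen U), (((pC ⁻¹ᵁ U : PC.Opens) : Scheme.{u}) ≅ Proj (𝒮h.deg U hU)))
    (hPC : RelProj.IsRelProj 𝒮h pC chartC)
    (p : P ⟶ Y)
    (chart : ∀ (U : Y.Opens) (hU : IsAffineOpen U), (((p ⁻¹ᵁ U : P.Opens) : Scheme.{u}) ≅ Proj (𝒮.deg U hU)))
    (hP : RelProj.IsRelProj 𝒮 p chart)
    (i : 𝒮.toQCAlg.spec ⟶ PC) (hi : RelCone.IsConeImm 𝒮 hz pC chartC i)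
    (r : ((RelCone.pointedProjCone 𝒮 hz pC chartC : PC.Opens) : Scheme.{u}) ⟶ P)
    (hr : (∀ (U : Y.Opens) (hU : IsAffineOpen U) (d : ℕ) (hd : 0 < d) (f : 𝒮.presheaf.obj (op U)) (hf : f ∈ 𝒮.deg U hU d)
        (g : Spec (CommRingCat.of (HomogeneousLocalization.Away (𝒮h.deg U hU) ((RelProj.gradedHomAt ι hz.graded U hU) f))) ⟶
          ((RelCone.pointedProjCone 𝒮 hz pC chartC : PC.Opens) : Scheme.{u})),
        g ≫ (RelCone.pointedProjCone 𝒮 hz pC chartC).ι =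
            Proj.awayι (𝒮h.deg U hU) ((RelProj.gradedHomAt ι hz.graded U hU) f) ((RelProj.gradedHomAt ι hz.graded U hU).2 hf) hd ≫
              RelProj.emb pC chartC U hU →
          g ≫ r =
            Spec.map (CommRingCat.ofHom (HomogeneousLocalization.Away.map (RelProj.gradedHomAt ι hz.graded U hU) f)) ≫
              Proj.awayι (𝒮.deg U hU) f hf hd ≫ RelProj.emb p chart U hU)) :
    (RelCone.pointedCone 𝒮 : 𝒮.toQCAlg.spec.Opens) ≤ i ⁻¹ᵁ (RelCone.pointedProjCone 𝒮 hz pC chartC) ∧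
      ∀ i' : ((RelCone.pointedCone 𝒮 : 𝒮.toQCAlg.spec.Opens) : Scheme.{u}) ⟶ ((RelCone.pointedProjCone 𝒮 hz pC chartC : PC.Opens) : Scheme.{u}),
        i' ≫ (RelCone.pointedProjCone 𝒮 hz pC chartC).ι = (RelCone.pointedCone 𝒮).ι ≫ i →
          IsAffineHom (i' ≫ r) ∧ Function.Surjective (i' ≫ r).base := by
  have hr' := (cond_iff hz pC chartC p chart r).mp hr
  refine ⟨le_of_eq (preimage_eq hz pC chartC i hi hPC).symm, fun i' hi' => ⟨?_, ?_⟩⟩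
  · have h1 := isAffineHom_i' hz pC chartC i hi i' hi' hPC
    have h2 := r_affine hz pC chartC p chart r hr' hPC hP
    infer_instance
  · exact pi_surjective hz pC chartC p chart i hi r hr' i' hi'

end Groth.Agent.H4.ConeRetr2
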