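import Mathlib
set_option autoImplicit false
universe w v u
open CategoryTheory CategoryTheory.Limits HomologicalComplex

namespace Groth.Agent.H4.ConeTrick

section General

/-- an additive functor commutes with binary biproducts -/
noncomputable def isoOfAdditive {C : Type*} {D : Type*} [Category C] [Category D]
    [Preadditive C] [Preadditive D] (F : C ⥤ D) [F.Additive] (X Y : C)
    [HasBinaryBiproduct X Y] [HasBinaryBiproduct (F.obj X) (F.obj Y)] :
    F.obj (X ⊞ Y) ≅ F.obj X ⊞ F.obj Y where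
  hom := biprod.lift (F.map biprod.fst) (F.map biprod.snd)
  inv := biprod.desc (F.map biprod.inl) (F.map biprod.inr)
  hom_inv_id := by
    rw [biprod.lift_desc, ← F.map_comp, ← F.map_comp, ← F.map_add, biprod.total, F.map_id]
  inv_hom_id := by
    ext <;> simp [← F.map_comp]

lemma exists_section {ι : Type*} {c : ComplexShape ι} {A : Type*} [Category A] [Preadditive A]
    {B Q : HomologicalComplex A c} (q : B ⟶ Q)
    (σ : ∀ n, Q.X n ⟶ B.X n) (hσ : ∀ n, σ n ≫ q.f n = 𝟙 _) (h : Homotopy (𝟙 Q) 0) :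
    ∃ s : Q ⟶ B, s ≫ q = 𝟙 Q := by
  refine ⟨Homotopy.nullHomotopicMap (fun i j => h.hom i j ≫ σ j), ?_⟩
  rw [Homotopy.nullHomotopicMap_comp]
  have : (fun i j => (h.hom i j ≫ σ j) ≫ q.f j) = h.hom := by
    funext i j
    rw [Category.assoc, hσ, Category.comp_id]
  rw [this]
  ext i
  have h1 := h.comm i
  rw [HomologicalComplex.zero_f_apply, add_zero] at h1
  exact h1.symm

lemma key_d {A : Type*} [Category A] [Preadditive A] (K : CochainComplex A ℤ)
    (h : Homotopy (𝟙 K) 0) (i : ℤ) :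
    K.d i (i+1) ≫ h.hom (i+1) i ≫ K.d i (i+1) = K.d i (i+1) := by
  have h1 := h.comm i
  rw [dNext_eq h.hom (show (ComplexShape.up ℤ).Rel i (i+1) from rfl),
    prevD_eq h.hom (show (ComplexShape.up ℤ).Rel (i-1) i by simp),
    HomologicalComplex.zero_f_apply, add_zero, HomologicalComplex.id_f] at h1
  have h2 : (𝟙 (K.X i)) ≫ K.d i (i+1) = K.d i (i+1) := Category.id_comp _
  rw [h1, Preadditive.add_comp, Category.assoc, Category.assoc, K.d_comp_d, comp_zero,
    add_zero] at h2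
  exact h2

end General

section
variable {C : Type u} [Category.{v} C] [Abelian C]

lemma exists_quasiIso_of_iso [HasDerivedCategory.{w} C] (M N : CochainComplex C ℤ)
    [M.IsKProjective]
    (e : DerivedCategory.Q.obj M ≅ DerivedCategory.Q.obj N) : ∃ φ : M ⟶ N, QuasiIso φ := by
  obtain ⟨g, hg⟩ := (CochainComplex.IsKProjective.Qh_map_bijective M
    ((HomotopyCategory.quotient _ _).obj N)).2
    ((DerivedCategory.quotientCompQhIso C).hom.app M ≫ e.hom ≫
      (DerivedCategory.quotientCompQhIso C).inv.app N)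
  obtain ⟨φ, rfl⟩ := (HomotopyCategory.quotient _ _).map_surjective g
  refine ⟨φ, ?_⟩
  rw [← DerivedCategory.isIso_Q_map_iff_quasiIso]
  have h1 := DerivedCategory.quotientCompQhIso_hom_naturality φ
  rw [hg] at h1
  have h3 : ((DerivedCategory.quotientCompQhIso C).hom.app M ≫ e.hom ≫
      (DerivedCategory.quotientCompQhIso C).inv.app N) ≫
      (DerivedCategory.quotientCompQhIso C).hom.app N =
      (DerivedCategory.quotientCompQhIso C).hom.app M ≫ e.hom := by simp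
  rw [h3] at h1
  have h2 : e.hom = DerivedCategory.Q.map φ := (cancel_epi _).1 h1
  rw [← h2]
  infer_instance

variable (M N : CochainComplex C ℤ)

/-- the cone of the identity of `M` -/
noncomputable abbrev T : CochainComplex C ℤ := CochainComplex.mappingCone (𝟙 M)

/-- the cone of the identity is contractible -/
noncomputable def hT : Homotopy (𝟙 (T M)) 0 := CochainComplex.mappingCone.homotopyToZeroOfId M

variable {M N} (φ₀ : M ⟶ N)

/-- the degreewise split monomorphism `M ⟶ N ⊞ cone(id_M)` -/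
noncomputable def φ : M ⟶ N ⊞ T M := biprod.lift φ₀ (CochainComplex.mappingCone.inr (𝟙 M))

variable (M N) in
/-- degreewise retraction -/
noncomputable def ρ (n : ℤ) : (N ⊞ T M).X n ⟶ M.X n :=
  (biprod.snd : N ⊞ T M ⟶ T M).f n ≫ (CochainComplex.mappingCone.snd (𝟙 M)).v n n (add_zero n)

lemma φ_ρ (n : ℤ) : (φ φ₀).f n ≫ ρ M N n = 𝟙 (M.X n) := by
  have h1 : (φ φ₀).f n ≫ (biprod.snd : N ⊞ T M ⟶ T M).f n =
      (CochainComplex.mappingCone.inr (𝟙 M)).f n := by
    rw [← HomologicalComplex.comp_f, φ, biprod.lift_snd]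
  rw [ρ, ← Category.assoc, h1]
  exact CochainComplex.mappingCone.inr_f_snd_v (𝟙 M) n

instance mono_φ : Mono (φ φ₀) :=
  HomologicalComplex.mono_of_mono_f _ (fun n => mono_of_mono_fac (φ_ρ φ₀ n))

variable (M N) in
/-- `N ⊞ cone(id_M)` is homotopy equivalent to `N` -/
noncomputable def fstEquiv : HomotopyEquiv (N ⊞ T M) N where
  hom := biprod.fst
  inv := biprod.inl
  homotopyHomInvId := by
    have h2 : Homotopy ((biprod.snd : N ⊞ T M ⟶ T M) ≫ 𝟙 (T M) ≫ (biprod.inr : T M ⟶ N ⊞ T M))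
        (biprod.snd ≫ 0 ≫ biprod.inr) := ((hT M).compRight biprod.inr).compLeft biprod.snd
    have h3 := (Homotopy.refl ((biprod.fst : N ⊞ T M ⟶ N) ≫ biprod.inl)).add h2
    refine (Homotopy.ofEq ?_).trans (h3.symm.trans (Homotopy.ofEq ?_))
    · simp
    · simp
  homotopyInvHomId := Homotopy.ofEq (by simp)

lemma quasiIso_φ [QuasiIso φ₀] : QuasiIso (φ φ₀) := by
  haveI : QuasiIso (biprod.fst : N ⊞ T M ⟶ N) := by
    have := HomotopyEquiv.quasiIso_hom (fstEquiv M N)
    exact this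
  haveI : QuasiIso (φ φ₀ ≫ (biprod.fst : N ⊞ T M ⟶ N)) := by
    have : φ φ₀ ≫ (biprod.fst : N ⊞ T M ⟶ N) = φ₀ := by rw [φ, biprod.lift_fst]
    rw [this]; infer_instance
  exact quasiIso_of_comp_right (φ φ₀) (biprod.fst : N ⊞ T M ⟶ N)

/-- the cokernel complex -/
noncomputable def Qc : CochainComplex C ℤ := cokernel (φ φ₀)
/-- the projection -/
noncomputable def q : N ⊞ T M ⟶ Qc φ₀ := cokernel.π (φ φ₀)
lemma φ_q : φ φ₀ ≫ q φ₀ = 0 := cokernel.condition _
/-- the short exact sequence of complexes -/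
noncomputable def S : ShortComplex (CochainComplex C ℤ) := ShortComplex.mk (φ φ₀) (q φ₀) (φ_q φ₀)

lemma hS : (S φ₀).ShortExact :=
  ShortComplex.ShortExact.mk' (ShortComplex.exact_cokernel (φ φ₀))
    (inferInstanceAs (Mono (φ φ₀))) (inferInstanceAs (Epi (cokernel.π (φ φ₀))))

lemma hSn (n : ℤ) :
    ((S φ₀).map (HomologicalComplex.eval C (ComplexShape.up ℤ) n)).ShortExact :=
  (hS φ₀).map_of_exact _

/-- degreewise splitting -/
noncomputable def spl (n : ℤ) :
    ((S φ₀).map (HomologicalComplex.eval C (ComplexShape.up ℤ) n)).Splitting :=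
  ShortComplex.Splitting.ofExactOfRetraction _ (hSn φ₀ n).exact (ρ M N n) (φ_ρ φ₀ n)
    (hSn φ₀ n).epi_g

/-- degreewise section -/
noncomputable def σ (n : ℤ) : (Qc φ₀).X n ⟶ (N ⊞ T M).X n := (spl φ₀ n).s
lemma σ_q (n : ℤ) : σ φ₀ n ≫ (q φ₀).f n = 𝟙 _ := (spl φ₀ n).s_g

/-- closure properties -/
structure RC (P : C → Prop) : Prop where
  iso : ∀ {X Y : C}, (X ≅ Y) → P X → P Y
  biprod : ∀ {X Y : C}, P X → P Y → P (X ⊞ Y)
  retract : ∀ {X Y : C}, Retract X Y → P Y → P X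

lemma RC.T_X {P : C → Prop} (hP : RC P) (M : CochainComplex C ℤ) (n : ℤ)
    (h1 : P (M.X (n+1))) (h2 : P (M.X n)) : P ((T M).X n) := by
  have := HasHomotopyCofiber.hasBinaryBiproduct (𝟙 M) n (n + 1) rfl
  have e : (T M).X n ≅ M.X (n+1) ⊞ M.X n := homotopyCofiber.XIsoBiprod (𝟙 M) n (n+1) rfl
  exact hP.iso e.symm (hP.biprod h1 h2)

lemma RC.B_X {P : C → Prop} (hP : RC P) (N K : CochainComplex C ℤ) (n : ℤ)
    (h1 : P (N.X n)) (h2 : P (K.X n)) : P ((N ⊞ K).X n) :=
  hP.iso (HomologicalComplex.biprodXIso N K n).symm (hP.biprod h1 h2)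

lemma RC.Qc_X {P : C → Prop} (hP : RC P) (n : ℤ) (h : P ((N ⊞ T M).X n)) :
    P ((Qc φ₀).X n) :=
  hP.retract ⟨σ φ₀ n, (q φ₀).f n, σ_q φ₀ n⟩ h

lemma RC.Qc_X' {P : C → Prop} (hP : RC P) (n : ℤ) (h1 : P (N.X n)) (h2 : P (M.X (n+1)))
    (h3 : P (M.X n)) : P ((Qc φ₀).X n) :=
  hP.Qc_X φ₀ n (hP.B_X N (T M) n h1 (hP.T_X M n h2 h3))

lemma rc_projective : RC (fun X : C => Projective X) where
  iso e h := Projective.of_iso e h
  biprod h1 h2 := by haveI := h1; haveI := h2; infer_instance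
  retract r h := by haveI := h; exact r.projective

lemma rc_isZero : RC (fun X : C => IsZero X) where
  iso e h := h.of_iso e.symm
  biprod h1 h2 := (biprod_isZero_iff _ _).2 ⟨h1, h2⟩
  retract r h := by
    rw [IsZero.iff_id_eq_zero, ← r.retract, h.eq_of_tgt r.i 0, zero_comp]

theorem main [QuasiIso φ₀] (b : ℤ) [M.IsStrictlyLE b] [N.IsStrictlyLE b]
    [∀ n, Projective (M.X n)] [∀ n, Projective (N.X n)] :
    Nonempty (Homotopy (𝟙 (Qc φ₀)) 0) ∧ Nonempty (N ⊞ T M ≅ M ⊞ Qc φ₀) := by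
  have hqi : QuasiIso (φ φ₀) := quasiIso_φ φ₀
  have hacyc : (Qc φ₀).Acyclic := (hS φ₀).acyclic_X₃ hqi
  haveI : ∀ n, Projective ((Qc φ₀).X n) := fun n =>
    rc_projective.Qc_X' φ₀ n inferInstance inferInstance inferInstance
  haveI : (Qc φ₀).IsStrictlyLE b := by
    rw [CochainComplex.isStrictlyLE_iff]
    intro i hi
    exact rc_isZero.Qc_X' φ₀ i (N.isZero_of_isStrictlyLE b i hi)
      (M.isZero_of_isStrictlyLE b (i+1) (by omega)) (M.isZero_of_isStrictlyLE b i hi)
  haveI : (Qc φ₀).IsKProjective := CochainComplex.isKProjective_of_projective _ b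
  obtain ⟨h⟩ := CochainComplex.IsKProjective.nonempty_homotopy_zero (𝟙 (Qc φ₀)) hacyc
  obtain ⟨s, hs⟩ := exists_section (q φ₀) (σ φ₀) (σ_q φ₀) h
  let spl' := ShortComplex.Splitting.ofExactOfSection (S φ₀) (hS φ₀).exact s hs (hS φ₀).mono_f
  exact ⟨⟨h⟩, ⟨spl'.isoBinaryBiproduct⟩⟩

end

end Groth.Agent.H4.ConeTrick
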