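import Mathlib
import Groth.Prelude
import Groth.Agent.Lib.Helper5.FunFld.Ext
import Groth.Agent.Lib.Helper5.FunFld.Weak.Div

set_option autoImplicit false
universe u u₂ v w
open TensorProduct

namespace Groth.Agent.H4.ConstPl2

open FunFld

variable {k : Type u} {kbar : Type u₂} {K : Type v} {Kbar : Type w} [Field k] [Field kbar] [Field K] [Field Kbar]
  [Algebra k kbar] [Algebra k K] [Algebra K Kbar] [Algebra kbar Kbar] [Algebra k Kbar]
  [IsScalarTower k kbar Kbar] [IsScalarTower k K Kbar]

/-- induction principle for elements of `Kbar = kbar · K` -/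
theorem induction_Kbar
    (h : Function.Surjective (Algebra.TensorProduct.productMap
      (IsScalarTower.toAlgHom k kbar Kbar) (IsScalarTower.toAlgHom k K Kbar)))
    (p : Kbar → Prop) (h0 : p 0)
    (hmul : ∀ (c : kbar) (x : K), p (algebraMap kbar Kbar c * algebraMap K Kbar x))
    (hadd : ∀ a b, p a → p b → p (a + b)) (w : Kbar) : p w := by
  obtain ⟨t, rfl⟩ := h w
  induction t using TensorProduct.induction_on with
  | zero => rw [map_zero]; exact h0
  | tmul c x =>
    rw [Algebra.TensorProduct.productMap_apply_tmul]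
    exact hmul c x
  | add a b ha hb => rw [map_add]; exact hadd _ _ ha hb

theorem isAlgebraic_Kbar [Algebra.IsAlgebraic k kbar]
    (h : Function.Surjective (Algebra.TensorProduct.productMap
      (IsScalarTower.toAlgHom k kbar Kbar) (IsScalarTower.toAlgHom k K Kbar))) :
    Algebra.IsAlgebraic K Kbar := by
  refine ⟨fun w => ?_⟩
  refine induction_Kbar h (fun w => IsAlgebraic K w) isAlgebraic_zero ?_ (fun a b ha hb => ha.add hb) w
  intro c x
  refine IsAlgebraic.mul ?_ (isAlgebraic_algebraMap x)
  have h1 : IsAlgebraic k (algebraMap kbar Kbar c) :=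
    (Algebra.IsAlgebraic.isAlgebraic c).algebraMap
  exact h1.extendScalars (FaithfulSMul.algebraMap_injective k K)

theorem essFiniteType_Kbar [Algebra.EssFiniteType k K]
    (h : Function.Surjective (Algebra.TensorProduct.productMap
      (IsScalarTower.toAlgHom k kbar Kbar) (IsScalarTower.toAlgHom k K Kbar))) :
    Algebra.EssFiniteType kbar Kbar := by
  let g : kbar ⊗[k] K →ₐ[kbar] Kbar :=
    Algebra.TensorProduct.productLeftAlgHom (Algebra.ofId kbar Kbar) (IsScalarTower.toAlgHom k K Kbar)
  have hg : ∀ t, g t = Algebra.TensorProduct.productMap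
      (IsScalarTower.toAlgHom k kbar Kbar) (IsScalarTower.toAlgHom k K Kbar) t := by
    intro t
    induction t using TensorProduct.induction_on with
    | zero => simp
    | tmul c x => simp [g]
    | add a b ha hb => rw [map_add, map_add, ha, hb]
  refine Algebra.EssFiniteType.of_surjective g ?_
  intro w
  obtain ⟨t, ht⟩ := h w
  exact ⟨t, (hg t).trans ht⟩

theorem isFF1_Kbar [Algebra.IsAlgebraic k kbar] (hK : IsFunctionField k K)
    (h : Function.Surjective (Algebra.TensorProduct.productMap
      (IsScalarTower.toAlgHom k kbar Kbar) (IsScalarTower.toAlgHom k K Kbar))) :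
    IsFF1 kbar Kbar := by
  haveI : Algebra.EssFiniteType k K := hK.essFiniteType
  haveI := isAlgebraic_Kbar h
  refine IsFF1.of_trdeg_essFiniteType ?_ (essFiniteType_Kbar h)
  have h1 : Algebra.trdeg K Kbar = 0 := trdeg_eq_zero_iff.2 inferInstance
  have h2 := lift_trdeg_add_eq k K Kbar
  rw [h1, hK.trdeg_eq_one] at h2
  simp only [Cardinal.lift_one, Cardinal.lift_zero, add_zero] at h2
  have h2' : Algebra.trdeg k Kbar = 1 :=
    Cardinal.lift_injective (h2.symm.trans Cardinal.lift_one.symm)
  have h3 : Algebra.trdeg k kbar = 0 := trdeg_eq_zero_iff.2 inferInstance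
  have h4 := lift_trdeg_add_eq k kbar Kbar
  rw [h3, h2'] at h4
  simp only [Cardinal.lift_one, Cardinal.lift_zero, zero_add] at h4
  exact Cardinal.lift_injective (h4.trans Cardinal.lift_one.symm)

/-- every element of `Kbar` lies in `K[c_1, …, c_n]` for finitely many constants. -/
theorem exists_finset_mem
    (h : Function.Surjective (Algebra.TensorProduct.productMap
      (IsScalarTower.toAlgHom k kbar Kbar) (IsScalarTower.toAlgHom k K Kbar))) (w : Kbar) :
    ∃ s : Finset kbar, w ∈ Algebra.adjoin K ((algebraMap kbar Kbar) '' (s : Set kbar)) := by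
  classical
  refine induction_Kbar h (fun w => ∃ s : Finset kbar,
    w ∈ Algebra.adjoin K ((algebraMap kbar Kbar) '' (s : Set kbar))) ⟨∅, zero_mem _⟩ ?_ ?_ w
  · intro c x
    refine ⟨{c}, mul_mem (Algebra.subset_adjoin ⟨c, by simp, rfl⟩) (Subalgebra.algebraMap_mem _ x)⟩
  · rintro a b ⟨s1, h1⟩ ⟨s2, h2⟩
    refine ⟨s1 ∪ s2, add_mem (Algebra.adjoin_mono ?_ h1) (Algebra.adjoin_mono ?_ h2)⟩
    · exact Set.image_mono (by simp)
    · exact Set.image_mono (by simp)

theorem exists_finset_forall_mem
    (h : Function.Surjective (Algebra.TensorProduct.productMap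
      (IsScalarTower.toAlgHom k kbar Kbar) (IsScalarTower.toAlgHom k K Kbar))) (W : Finset Kbar) :
    ∃ s : Finset kbar, ∀ w ∈ W, w ∈ Algebra.adjoin K ((algebraMap kbar Kbar) '' (s : Set kbar)) := by
  classical
  induction W using Finset.induction_on with
  | empty => exact ⟨∅, fun w hw => absurd hw (Finset.notMem_empty w)⟩
  | insert a W ha ih =>
    obtain ⟨s1, h1⟩ := ih
    obtain ⟨s2, h2⟩ := exists_finset_mem h a
    refine ⟨s1 ∪ s2, fun w hw => ?_⟩
    rcases Finset.mem_insert.1 hw with rfl | hw
    · exact Algebra.adjoin_mono (Set.image_mono (by simp)) h2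
    · exact Algebra.adjoin_mono (Set.image_mono (by simp)) (h1 w hw)

theorem main [IsAlgClosure k kbar]
    (h : Function.Bijective (Algebra.TensorProduct.productMap
      (IsScalarTower.toAlgHom k kbar Kbar) (IsScalarTower.toAlgHom k K Kbar)))
    (hK : FunFld.IsFunctionField k K) (Q : FunFld.Place kbar Kbar) :
    ∃ k' : IntermediateField k kbar, FiniteDimensional k k' ∧
      (∃ z ∈ Algebra.adjoin K (Set.range fun c : k' => algebraMap kbar Kbar c), Q.1 z = WithZero.exp (-1)) ∧
      ∀ Q' : FunFld.Place kbar Kbar,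
        (∃ e : ℕ, ∀ z ∈ Algebra.adjoin K (Set.range fun c : k' => algebraMap kbar Kbar c),
          Q'.1 z = Q.1 z ^ e) → Q' = Q := by
  classical
  haveI : Algebra.IsAlgebraic k kbar := IsAlgClosure.isAlgebraic
  have hs := h.2
  have hFF : IsFF1 kbar Kbar := isFF1_Kbar hK hs
  -- a nonconstant element of K with positive order at Q
  have ht : ∃ t : K, t ≠ 0 ∧ Q.1 (algebraMap K Kbar t) < 1 := by
    by_contra hcon
    push Not at hcon
    have hK1 : ∀ t : K, Q.1 (algebraMap K Kbar t) ≤ 1 := by
      intro t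
      rcases eq_or_ne t 0 with rfl | ht0
      · simp
      · have h1 := hcon t⁻¹ (inv_ne_zero ht0)
        rw [map_inv₀, map_inv₀] at h1
        have hpos : 0 < Q.1 (algebraMap K Kbar t) :=
          pos_iff_ne_zero.2 (Q.v_ne_zero ((map_ne_zero _).2 ht0))
        exact (one_le_inv₀ hpos).1 h1
    have hall : ∀ w : Kbar, Q.1 w ≤ 1 := by
      intro w
      refine induction_Kbar hs (fun w => Q.1 w ≤ 1) (by simp) ?_ ?_ w
      · intro c x
        rw [map_mul]
        exact mul_le_one' (Q.v_algebraMap_le c) (hK1 x)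
      · intro a b ha hb
        exact (Q.1.map_add a b).trans (max_le ha hb)
    obtain ⟨w, hw⟩ := Q.exists_v_eq 1
    have h1 := hall w
    rw [hw, ← WithZero.exp_zero, WithZero.exp_le_exp] at h1
    omega
  obtain ⟨t, ht0, ht1⟩ := ht
  have htb0 : algebraMap K Kbar t ≠ 0 := (map_ne_zero _).2 ht0
  have httr : Transcendental kbar (algebraMap K Kbar t) :=
    transcendental_of_v_lt_one _ Q.v_algebraMap_le htb0 ht1
  have hZ : {Q' : Place kbar Kbar | Q'.1 (algebraMap K Kbar t) < 1}.Finite :=
    FunFld.W.finite_zeros hFF httr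
  obtain ⟨z0, hz0⟩ := Q.exists_uniformizer
  -- separating elements
  let Y : Place kbar Kbar → Kbar := fun Q'' =>
    if hne : Q ≠ Q'' then Classical.choose (Place.exists_v_le_one_and_one_lt hne) else 0
  have hY : ∀ Q'' : Place kbar Kbar, Q ≠ Q'' → Q.1 (Y Q'') ≤ 1 ∧ 1 < Q''.1 (Y Q'') := by
    intro Q'' hne
    simp only [Y, dif_pos hne]
    exact Classical.choose_spec (Place.exists_v_le_one_and_one_lt hne)
  obtain ⟨s, hsW⟩ := exists_finset_forall_mem hs (insert z0 (hZ.toFinset.image Y))
  refine ⟨IntermediateField.adjoin k (s : Set kbar), ?_, ?_, ?_⟩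
  · exact IntermediateField.finiteDimensional_adjoin
      (fun x _ => (Algebra.IsAlgebraic.isAlgebraic x).isIntegral)
  · have hle : Algebra.adjoin K ((algebraMap kbar Kbar) '' (s : Set kbar)) ≤
        Algebra.adjoin K (Set.range fun c : IntermediateField.adjoin k (s : Set kbar) =>
          algebraMap kbar Kbar c) := by
      apply Algebra.adjoin_mono
      rintro _ ⟨c, hc, rfl⟩
      exact ⟨⟨c, IntermediateField.subset_adjoin k _ hc⟩, rfl⟩
    exact ⟨z0, hle (hsW z0 (Finset.mem_insert_self _ _)), hz0⟩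
  · have hle : Algebra.adjoin K ((algebraMap kbar Kbar) '' (s : Set kbar)) ≤
        Algebra.adjoin K (Set.range fun c : IntermediateField.adjoin k (s : Set kbar) =>
          algebraMap kbar Kbar c) := by
      apply Algebra.adjoin_mono
      rintro _ ⟨c, hc, rfl⟩
      exact ⟨⟨c, IntermediateField.subset_adjoin k _ hc⟩, rfl⟩
    rintro Q' ⟨e, he⟩
    have he0 : e ≠ 0 := by
      rintro rfl
      have h1 := he 0 (zero_mem _)
      rw [map_zero, map_zero, pow_zero] at h1
      exact zero_ne_one h1
    have hQ't : Q'.1 (algebraMap K Kbar t) < 1 := by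
      rw [he _ (Subalgebra.algebraMap_mem _ t)]
      exact pow_lt_one' ht1 he0
    by_contra hne
    have hne' : Q ≠ Q' := fun h => hne h.symm
    obtain ⟨h1, h2⟩ := hY Q' hne'
    have hmem : Y Q' ∈ insert z0 (hZ.toFinset.image Y) :=
      Finset.mem_insert_of_mem (Finset.mem_image_of_mem Y (hZ.mem_toFinset.2 hQ't))
    rw [he _ (hle (hsW _ hmem))] at h2
    exact absurd h2 (not_lt.2 (pow_le_one' h1 e))

end Groth.Agent.H4.ConstPl2
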