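import Groth.Agent.H4.Spectral5

/-!
# Helper library: constructible sets (helper4)
-/

namespace Groth.Agent.H4.Spec

open Topology TopologicalSpace Set

variable {X : Type*} [tX : TopologicalSpace X]

/-- A quasi-compact open of a subspace of a prespectral space is the trace of a quasi-compact open. -/
theorem exists_isCompact_isOpen_preimage_val_eq [PrespectralSpace X] (T : Set X) {V : Set T}
    (hVo : IsOpen V) (hVc : IsCompact V) :
    ∃ W : Set X, IsOpen W ∧ IsCompact W ∧ V = (Subtype.val : T → X) ⁻¹' W := by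
  obtain ⟨V', hV', rfl⟩ := isOpen_induced_iff.mp hVo
  obtain ⟨S, hS, rfl⟩ := (PrespectralSpace.isTopologicalBasis (X := X)).open_eq_sUnion hV'
  have hcov : (Subtype.val : T → X) ⁻¹' ⋃₀ S ⊆ ⋃ s ∈ S, (Subtype.val : T → X) ⁻¹' s := by
    intro x hx
    obtain ⟨s, hs, hxs⟩ := hx
    exact mem_biUnion hs hxs
  obtain ⟨F, hFS, hFfin, hF⟩ := hVc.elim_finite_subcover_image
    (fun s hs => (hS hs).1.preimage continuous_subtype_val) hcov
  refine ⟨⋃ s ∈ F, s, isOpen_biUnion fun s hs => (hS (hFS hs)).1,
    hFfin.isCompact_biUnion fun s hs => (hS (hFS hs)).2, ?_⟩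
  apply subset_antisymm
  · intro x hx
    have := hF hx
    simp only [mem_iUnion, mem_preimage] at this ⊢
    exact this
  · intro x hx
    simp only [mem_iUnion, mem_preimage] at hx
    obtain ⟨s, hs, hxs⟩ := hx
    exact ⟨s, hFS hs, hxs⟩

/-- The trace of a retrocompact open on a retrocompact subset of a prespectral space is retrocompact. -/
theorem isRetrocompact_preimage_val [PrespectralSpace X] {T : Set X} (hT : IsRetrocompact T)
    {s : Set X} (hso : IsOpen s) (hs : IsRetrocompact s) :
    IsRetrocompact ((Subtype.val : T → X) ⁻¹' s) := by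
  intro V hVc hVo
  obtain ⟨W, hWo, hWc, rfl⟩ := exists_isCompact_isOpen_preimage_val_eq T hVo hVc
  rw [← preimage_inter]
  have h1 : IsCompact (s ∩ W) := hs hWc hWo
  have h2 : IsCompact (T ∩ (s ∩ W)) := hT h1 (hso.inter hWo)
  have : (Subtype.val : T → X) ⁻¹' (s ∩ W) = (Subtype.val : T → X) ⁻¹' (T ∩ (s ∩ W)) := by
    ext x
    simp
  rw [this]
  apply IsInducing.subtypeVal.isCompact_preimage' h2
  rw [Subtype.range_coe]
  exact inter_subset_left

theorem isConstructible_preimage_val [PrespectralSpace X] {T : Set X} (hT : IsRetrocompact T)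
    {E : Set X} (hE : IsConstructible E) : IsConstructible ((Subtype.val : T → X) ⁻¹' E) :=
  hE.preimage continuous_subtype_val fun _ hso hs => isRetrocompact_preimage_val hT hso hs

/-- A locally closed quasi-compact set with retrocompact complement is constructible. -/
theorem isConstructible_of_isLocallyClosed_isCompact [CompactSpace X] [PrespectralSpace X]
    [QuasiSeparatedSpace X] {T : Set X} (hT : IsLocallyClosed T) (hTc : IsCompact T)
    (hTr : IsRetrocompact Tᶜ) : IsConstructible T := by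
  obtain ⟨U, Z, hU, hZ, rfl⟩ := hT
  obtain ⟨U', hU'c, hU'o, hTU', hU'U⟩ :=
    PrespectralSpace.exists_isCompact_and_isOpen_between hTc hU inter_subset_left
  have h1 : IsCompact ((U ∩ Z)ᶜ ∩ U') := hTr hU'c hU'o
  have h2 : (U ∩ Z)ᶜ ∩ U' = U' \ Z := by
    ext x
    simp only [mem_inter_iff, mem_compl_iff, not_and, mem_sdiff]
    constructor
    · rintro ⟨h, hx⟩
      exact ⟨hx, h (hU'U hx)⟩
    · rintro ⟨hx, hxZ⟩
      exact ⟨fun _ => hxZ, hx⟩
  have h3 : IsOpen (U' \ Z) := hU'o.sdiff hZ
  have h4 : U ∩ Z = U' \ (U' \ Z) := by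
    ext x
    simp only [mem_inter_iff, mem_sdiff, not_and, not_not]
    constructor
    · intro hx
      exact ⟨hTU' hx, fun _ => hx.2⟩
    · rintro ⟨hx, h⟩
      exact ⟨hU'U hx, h hx⟩
  rw [h4]
  exact (hU'c.isConstructible hU'o).sdiff ((h2 ▸ h1).isConstructible h3)

end Groth.Agent.H4.Spec
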