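import Groth.Agent.H4.Constr

/-!
# Helper library: constructible sets, transitivity (helper4)
-/

namespace Groth.Agent.H4.Spec

open Topology TopologicalSpace Set

variable {X : Type*} [tX : TopologicalSpace X]

/-- Induction principle: constructible sets are finite unions of differences of retrocompact
opens. -/
theorem isConstructible_sdiff_union_induction {p : Set X → Prop}
    (sdiff : ∀ U V : Set X, IsOpen U → IsRetrocompact U → IsOpen V → IsRetrocompact V → p (U \ V))
    (union : ∀ s t : Set X, IsConstructible s → IsConstructible t → p s → p t → p (s ∪ t))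
    {s : Set X} (hs : IsConstructible s) : p s := by
  have key : ∀ (s : Set X) (hs : s ∈ BooleanSubalgebra.closure {U : Set X | IsOpen U ∧ IsRetrocompact U}),
      p s := by
    intro s hs
    induction s, hs using BooleanSubalgebra.closure_sdiff_sup_induction with
    | isSublattice =>
      exact ⟨fun s hs t ht ↦ ⟨hs.1.union ht.1, hs.2.union ht.2⟩,
        fun s hs t ht ↦ ⟨hs.1.inter ht.1, hs.2.inter_isOpen ht.2 ht.1⟩⟩
    | bot_mem => exact ⟨isOpen_empty, .empty⟩
    | top_mem => exact ⟨isOpen_univ, .univ⟩
    | sdiff U hU V hV => exact sdiff U V hU.1 hU.2 hV.1 hV.2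
    | sup s hs t ht hs' ht' => exact union s t hs ht hs' ht'
  exact key s hs

/-- Constructible sets are retrocompact (Stacks 09YH). -/
theorem isRetrocompact_of_isConstructible {s : Set X} (hs : IsConstructible s) :
    IsRetrocompact s := by
  refine isConstructible_sdiff_union_induction (p := fun s => IsRetrocompact s) ?_ ?_ hs
  · intro U V hUo hU hVo hV
    intro W hWc hWo
    have h1 : IsCompact (U ∩ W) := hU hWc hWo
    have h2 : (U \ V) ∩ W = (U ∩ W) ∩ Vᶜ := by
      ext x
      simp only [mem_inter_iff, mem_sdiff, mem_compl_iff]
      tauto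
    rw [h2]
    exact h1.inter_right hVo.isClosed_compl
  · intro s t _ _ hs ht
    exact hs.union ht

theorem prespectralSpace_of_isRetrocompact [PrespectralSpace X] {T : Set X}
    (hT : IsRetrocompact T) : PrespectralSpace T :=
  PrespectralSpace.of_isInducing (Subtype.val : T → X) IsInducing.subtypeVal
    (IsRetrocompact_iff_isSpectralMap_subtypeVal.1 hT)

/-- Stacks 09YF for embeddings. -/
theorem isConstructible_preimage_of_isEmbedding {Y : Type*} [TopologicalSpace Y]
    [PrespectralSpace X] {g : Y → X} (hg : IsEmbedding g) (hr : IsRetrocompact (range g))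
    {E : Set X} (hE : IsConstructible E) : IsConstructible (g ⁻¹' E) := by
  have h1 : IsConstructible ((Subtype.val : range g → X) ⁻¹' E) :=
    isConstructible_preimage_val hr hE
  have h2 := h1.preimage_of_isOpenEmbedding hg.toHomeomorph.isOpenEmbedding
  have h3 : hg.toHomeomorph ⁻¹' ((Subtype.val : range g → X) ⁻¹' E) = g ⁻¹' E := by
    ext y
    simp
  rwa [h3] at h2

/-- Stacks 09YJ: a constructible subset of a constructible subset is constructible. -/
theorem isConstructible_image_val_of_isConstructible [PrespectralSpace X] {E : Set X}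
    (hE : IsConstructible E) : ∀ F : Set E, IsConstructible F →
      IsConstructible ((Subtype.val : E → X) '' F) := by
  refine isConstructible_sdiff_union_induction (p := fun E => ∀ F : Set E, IsConstructible F →
      IsConstructible ((Subtype.val : E → X) '' F)) ?_ ?_ hE
  · intro U V hUo hU hVo hV
    intro F hF
    let g : ↥(U \ V) → U := Set.inclusion sdiff_subset
    have hgr : range g = ((Subtype.val : U → X) ⁻¹' V)ᶜ := by
      rw [Set.range_inclusion]
      ext x
      simp only [mem_sdiff, mem_ofPred_eq, mem_compl_iff, mem_preimage]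
      exact ⟨fun h => h.2, fun h => ⟨x.2, h⟩⟩
    have hg : IsClosedEmbedding g := by
      refine ⟨IsEmbedding.inclusion _, ?_⟩
      rw [hgr]
      exact (hVo.preimage continuous_subtype_val).isClosed_compl
    have hgc : IsRetrocompact (range g)ᶜ := by
      rw [hgr, compl_compl]
      exact isRetrocompact_preimage_val hU hVo hV
    have h1 : IsConstructible (g '' F) := hF.image_of_isClosedEmbedding hg hgc
    have h2 : IsConstructible ((Subtype.val : U → X) '' (g '' F)) :=
      h1.image_of_isOpenEmbedding hUo.isOpenEmbedding_subtypeVal
        (by rw [Subtype.range_coe]; exact hU)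
    have h3 : (Subtype.val : U → X) '' (g '' F) = (Subtype.val : ↥(U \ V) → X) '' F := by
      rw [Set.image_image]
    rwa [h3] at h2
  · intro s t hsc htc hs ht
    intro F hF
    have hst : IsRetrocompact (s ∪ t) := isRetrocompact_of_isConstructible (hsc.union htc)
    have hZ : PrespectralSpace ↥(s ∪ t) := prespectralSpace_of_isRetrocompact hst
    have aux : ∀ (r : Set X) (hr : r ⊆ s ∪ t) (hrc : IsConstructible r),
        IsConstructible (Set.inclusion hr ⁻¹' F) := by
      intro r hr hrc
      apply isConstructible_preimage_of_isEmbedding (IsEmbedding.inclusion hr) _ hF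
      rw [Set.range_inclusion]
      exact isRetrocompact_of_isConstructible (isConstructible_preimage_val hst hrc)
    have h1 := hs _ (aux s subset_union_left hsc)
    have h2 := ht _ (aux t subset_union_right htc)
    have h3 : (Subtype.val : ↥(s ∪ t) → X) '' F =
        (Subtype.val : s → X) '' (Set.inclusion subset_union_left ⁻¹' F) ∪
        (Subtype.val : t → X) '' (Set.inclusion subset_union_right ⁻¹' F) := by
      ext x
      simp only [mem_image, mem_union, mem_preimage]
      constructor
      · rintro ⟨y, hy, rfl⟩
        rcases y.2 with h | h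
        · exact Or.inl ⟨⟨y.1, h⟩, hy, rfl⟩
        · exact Or.inr ⟨⟨y.1, h⟩, hy, rfl⟩
      · rintro (⟨y, hy, rfl⟩ | ⟨y, hy, rfl⟩)
        · exact ⟨_, hy, rfl⟩
        · exact ⟨_, hy, rfl⟩
    rw [h3]
    exact h1.union h2

end Groth.Agent.H4.Spec
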