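import Mathlib

set_option autoImplicit false
universe u v
open CategoryTheory CategoryTheory.Limits Opposite

namespace Groth.Agent.H4.CorepInd

theorem main {C : Type u} [Category.{v} C] [HasLimitsOfSize.{v, v} C] (F : C ⥤ Type v) :
    F.IsCorepresentable ↔
      IsIndObject (unopUnop C ⋙ F) ∧ PreservesLimitsOfSize.{v, v} F := by
  constructor
  · intro h
    constructor
    · let h' := F.corepresentableBy
      let r : (unopUnop C ⋙ F).RepresentableBy (op F.coreprX) :=
        { homEquiv := fun {W} => (opEquiv W (op F.coreprX)).trans h'.homEquiv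
          homEquiv_comp := by
            intro W W' f g
            exact h'.homEquiv_comp f.unop g.unop }
      exact (isIndObject_yoneda (op F.coreprX)).map r.toIso.hom
    · exact preservesLimits_of_natIso F.coreprW
  · rintro ⟨⟨⟨P⟩⟩, hF⟩
    haveI := hF
    let B : P.I → F.Elements := fun i =>
      ⟨(P.F.obj i).unop, (P.ι.app i).app (op (P.F.obj i)) (𝟙 (P.F.obj i))⟩
    have hB : ∀ e : F.Elements, ∃ i, Nonempty (B i ⟶ e) := by
      rintro ⟨Y, y⟩
      have hc := isColimitOfPreserves ((evaluation (Cᵒᵖ)ᵒᵖ (Type v)).obj (op (op Y))) P.isColimit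
      obtain ⟨i, g, hg⟩ := Types.jointly_surjective_of_isColimit hc y
      let g' : op Y ⟶ P.F.obj i := g
      refine ⟨i, ⟨⟨g'.unop, ?_⟩⟩⟩
      have nat := (P.ι.app i).naturality_apply g'.op (𝟙 (P.F.obj i))
      have e1 : (ConcreteCategory.hom (((P.F ⋙ yoneda).obj i).map g'.op)) (𝟙 (P.F.obj i)) = g' := by
        simp
      rw [e1] at nat
      exact nat.symm.trans hg
    obtain ⟨T, hT⟩ := has_weakly_initial_of_weakly_initial_set_and_hasProducts hB
    haveI := hasInitial_of_weakly_initial_and_hasWideEqualizers hT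
    exact Functor.Elements.isCorepresentable_of_hasInitial F

end Groth.Agent.H4.CorepInd
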