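import Mathlib.Topology.Separation.Hausdorff
import Mathlib.Topology.Compactness.LocallyCompact
import Mathlib.Topology.Separation.Regular

/-!
# Helper library: shrinking coverings with control on intersections (helper4)
-/

namespace Groth.Agent.H4.Spec

open Topology TopologicalSpace Set

universe u

theorem exists_opens_lifting_cover_core {X : Type*} [TopologicalSpace X] (Z T : Set X)
    (hZ : IsCompact Z) {ι : Type*} (U : ι → Set X) (p : ℕ)
    (W : (Fin (p + 1) → ι) → Set X) (hWo : ∀ t, IsOpen (W t))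
    (hWZ : ∀ t, (⋂ l, U (t l)) ∩ Z ⊆ W t)
    (hloc : ∀ z ∈ Z, ∃ (i : ι) (N : Set X), IsOpen N ∧ z ∈ N ∧ N ⊆ U i ∧ closure N ∩ T ⊆ U i)
    (hZT : Z ⊆ T) :
    ∃ V : ι → Set X, (∀ i, IsOpen (V i)) ∧ (Z ⊆ ⋃ i, V i) ∧ (∀ i, V i ⊆ U i) ∧
      (∀ i, closure (V i) ∩ T ⊆ U i) ∧ (∀ t : Fin (p + 1) → ι, (⋂ l, V (t l)) ⊆ W t) := by
  classical
  choose i N hNo hzN hNU hNcl using fun z : Z => hloc z.1 z.2
  obtain ⟨t, ht⟩ := hZ.elim_nhds_subcover' (fun z hz => N ⟨z, hz⟩)
    (fun z hz => (hNo ⟨z, hz⟩).mem_nhds (hzN ⟨z, hz⟩))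
  let V' : ι → Set X := fun j => ⋃ z ∈ t.filter (fun z => i z = j), N z
  have hV'o : ∀ j, IsOpen (V' j) := fun j => isOpen_biUnion fun z _ => hNo z
  have hV'U : ∀ j, V' j ⊆ U j := by
    intro j x hx
    simp only [V', mem_iUnion] at hx
    obtain ⟨z, hz, hxz⟩ := hx
    rw [Finset.mem_filter] at hz
    rw [← hz.2]
    exact hNU z hxz
  have hV'cl : ∀ j, closure (V' j) ∩ T ⊆ U j := by
    intro j x hx
    simp only [V'] at hx
    rw [Finset.closure_biUnion] at hx
    obtain ⟨hx1, hxT⟩ := hx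
    simp only [mem_iUnion] at hx1
    obtain ⟨z, hz, hxz⟩ := hx1
    rw [Finset.mem_filter] at hz
    rw [← hz.2]
    exact hNcl z ⟨hxz, hxT⟩
  let J : Finset ι := t.image i
  have hV'empty : ∀ j, j ∉ J → V' j = ∅ := by
    intro j hj
    simp only [V']
    have : t.filter (fun z => i z = j) = ∅ := by
      rw [Finset.filter_eq_empty_iff]
      intro z hz hzj
      exact hj (hzj ▸ Finset.mem_image_of_mem i hz)
    rw [this]
    simp
  let C : (Fin (p + 1) → ι) → Set X := fun t' => (⋂ l, closure (V' (t' l))) \ W t'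
  have hCcl : ∀ t', IsClosed (C t') := fun t' =>
    (isClosed_iInter fun l => isClosed_closure).sdiff (hWo t')
  let Cset : Set X := ⋃ t' ∈ {t' : Fin (p + 1) → ι | ∀ l, t' l ∈ J}, C t'
  have hfin : {t' : Fin (p + 1) → ι | ∀ l, t' l ∈ J}.Finite := by
    refine (Fintype.piFinset fun _ : Fin (p + 1) => J).finite_toSet.subset ?_
    intro t' ht'
    simpa [Fintype.mem_piFinset] using ht'
  have hCsetcl : IsClosed Cset := hfin.isClosed_biUnion fun t' _ => hCcl t'
  have hCsub : ∀ t', C t' ⊆ Cset := by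
    intro t' x hx
    by_cases h : ∀ l, t' l ∈ J
    · exact mem_biUnion h hx
    · exfalso
      push_neg at h
      obtain ⟨l, hl⟩ := h
      have h1 := mem_iInter.1 hx.1 l
      rw [hV'empty _ hl, closure_empty] at h1
      exact h1
  have hCZ : ∀ x ∈ Z, x ∉ Cset := by
    intro x hxZ hxC
    simp only [Cset, mem_iUnion] at hxC
    obtain ⟨t', -, hx⟩ := hxC
    apply hx.2
    apply hWZ t'
    refine ⟨mem_iInter.2 fun l => ?_, hxZ⟩
    exact hV'cl (t' l) ⟨mem_iInter.1 hx.1 l, hZT hxZ⟩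
  refine ⟨fun j => V' j \ Cset, fun j => (hV'o j).sdiff hCsetcl, ?_, ?_, ?_, ?_⟩
  · intro x hx
    have := ht hx
    simp only [mem_iUnion] at this
    obtain ⟨z, hz, hxz⟩ := this
    refine mem_iUnion.2 ⟨i z, ⟨?_, hCZ x hx⟩⟩
    simp only [V', mem_iUnion]
    exact ⟨z, Finset.mem_filter.2 ⟨hz, rfl⟩, hxz⟩
  · intro j x hx
    exact hV'U j hx.1
  · intro j x hx
    exact hV'cl j ⟨closure_mono sdiff_subset hx.1, hx.2⟩
  · intro t' x hx
    by_contra hxW
    have h1 : x ∈ C t' := by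
      refine ⟨mem_iInter.2 fun l => subset_closure (mem_iInter.1 hx l).1, hxW⟩
    exact (mem_iInter.1 hx 0).2 (hCsub t' h1)

end Groth.Agent.H4.Spec
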