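import Mathlib

set_option autoImplicit false
universe w v u

open CategoryTheory Limits HomologicalComplex

namespace Groth.Agent.H4.SigmaCx

variable {C : Type u} [Category.{v} C] [Abelian C] {ι : Type*} {c : ComplexShape ι}
variable {J : Type w}

/-- a family of complexes as a complex of functors on the discrete category -/
@[reducible] def famCx (X : J → HomologicalComplex C c) : HomologicalComplex (Discrete J ⥤ C) c where
  X i := Discrete.functor (fun n => (X n).X i)
  d i j := Discrete.natTrans (fun n => (X n.as).d i j)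
  shape i j h := by
    ext ⟨n⟩
    simpa using (X n).shape i j h
  d_comp_d' i j k _ _ := by
    ext ⟨n⟩
    simp

/-- a family of morphisms as a morphism of complexes of functors -/
def famMap {X Y : J → HomologicalComplex C c} (f : ∀ n, X n ⟶ Y n) : famCx X ⟶ famCx Y where
  f i := Discrete.natTrans (fun n => (f n.as).f i)
  comm' i j _ := by
    ext ⟨n⟩
    simp [famCx]

section

variable [HasColimitsOfShape (Discrete J) C]

/-- the coproduct complex -/
noncomputable def S (X : J → HomologicalComplex C c) : HomologicalComplex C c :=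
  ((colim : (Discrete J ⥤ C) ⥤ C).mapHomologicalComplex c).obj (famCx X)

@[reassoc]
lemma ι_d (X : J → HomologicalComplex C c) (n : J) (i j : ι) :
    Sigma.ι (fun n => (X n).X i) n ≫ (S X).d i j =
      (X n).d i j ≫ Sigma.ι (fun n => (X n).X j) n := by
  show colimit.ι (Discrete.functor fun n => (X n).X i) ⟨n⟩ ≫ colim.map ((famCx X).d i j) =
    (X n).d i j ≫ colimit.ι (Discrete.functor fun n => (X n).X j) ⟨n⟩
  rw [colimit.ι_map]
  rfl

/-- the inclusions into the coproduct complex -/
noncomputable def ιS (X : J → HomologicalComplex C c) (n : J) : X n ⟶ S X where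
  f i := Sigma.ι (fun n => (X n).X i) n
  comm' i j _ := ι_d X n i j

/-- morphisms out of a term of the coproduct complex -/
noncomputable def descX (X : J → HomologicalComplex C c) (i : ι) {Z : C}
    (p : ∀ n, (X n).X i ⟶ Z) : (S X).X i ⟶ Z :=
  (Sigma.desc p : (∐ fun n => (X n).X i) ⟶ Z)

@[reassoc (attr := simp)]
lemma ι_descX (X : J → HomologicalComplex C c) (i : ι) {Z : C}
    (p : ∀ n, (X n).X i ⟶ Z) (n : J) : (ιS X n).f i ≫ descX X i p = p n :=
  Sigma.ι_desc p n

lemma hom_ext_X (X : J → HomologicalComplex C c) (i : ι) {Z : C} {a b : (S X).X i ⟶ Z}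
    (h : ∀ n, (ιS X n).f i ≫ a = (ιS X n).f i ≫ b) : a = b :=
  Sigma.hom_ext (f := fun n => (X n).X i) a b h

/-- morphisms out of the coproduct complex -/
noncomputable def descS {X : J → HomologicalComplex C c} {M : HomologicalComplex C c}
    (g : ∀ n, X n ⟶ M) : S X ⟶ M where
  f i := descX X i (fun n => (g n).f i)
  comm' i j _ := by
    apply hom_ext_X
    intro n
    rw [ι_descX_assoc, ← Category.assoc, (ιS X n).comm i j, Category.assoc, ι_descX, (g n).comm]

@[reassoc (attr := simp)]
lemma ι_descS {X : J → HomologicalComplex C c} {M : HomologicalComplex C c}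
    (g : ∀ n, X n ⟶ M) (n : J) : ιS X n ≫ descS g = g n := by
  ext i
  exact ι_descX X i _ n

lemma S_hom_ext {X : J → HomologicalComplex C c} {M : HomologicalComplex C c}
    {a b : S X ⟶ M} (h : ∀ n, ιS X n ≫ a = ιS X n ≫ b) : a = b := by
  ext i
  apply hom_ext_X
  intro n
  exact congrArg (fun φ => φ.f i) (h n)

/-- functoriality of the coproduct complex -/
noncomputable def mapS {X Y : J → HomologicalComplex C c} (f : ∀ n, X n ⟶ Y n) : S X ⟶ S Y :=
  ((colim : (Discrete J ⥤ C) ⥤ C).mapHomologicalComplex c).map (famMap f)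

@[reassoc]
lemma ι_mapS {X Y : J → HomologicalComplex C c} (f : ∀ n, X n ⟶ Y n) (n : J) :
    ιS X n ≫ mapS f = f n ≫ ιS Y n := by
  ext i
  show colimit.ι (Discrete.functor fun n => (X n).X i) ⟨n⟩ ≫ colim.map ((famMap f).f i) =
    (f n).f i ≫ colimit.ι (Discrete.functor fun n => (Y n).X i) ⟨n⟩
  rw [colimit.ι_map]
  rfl

/-- null-homotopies out of the coproduct complex -/
noncomputable def homotopyDescS {X : J → HomologicalComplex C c} {M : HomologicalComplex C c}
    (g : S X ⟶ M) (h : ∀ n, Homotopy (ιS X n ≫ g) 0) : Homotopy g 0 where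
  hom i j := descX X i (fun n => (h n).hom i j)
  zero i j hij := by
    apply hom_ext_X
    intro n
    rw [ι_descX, (h n).zero i j hij, comp_zero]
  comm i := by
    apply hom_ext_X
    intro n
    have e := (h n).comm i
    have e1 : (ιS X n).f i ≫ dNext (C := S X) (D := M) i
        (fun i j => descX X i (fun n => (h n).hom i j)) = dNext i (h n).hom := by
      show (ιS X n).f i ≫ ((S X).d i (c.next i) ≫
        descX X (c.next i) (fun n => (h n).hom (c.next i) i)) =
        (X n).d i (c.next i) ≫ (h n).hom (c.next i) i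
      rw [← Category.assoc, (ιS X n).comm, Category.assoc, ι_descX]
    have e2 : (ιS X n).f i ≫ prevD (C := S X) (D := M) i
        (fun i j => descX X i (fun n => (h n).hom i j)) = prevD i (h n).hom := by
      show (ιS X n).f i ≫ (descX X i (fun n => (h n).hom i (c.prev i)) ≫ M.d (c.prev i) i) =
        (h n).hom i (c.prev i) ≫ M.d (c.prev i) i
      rw [ι_descX_assoc]
    rw [Preadditive.comp_add, Preadditive.comp_add, e1, e2, HomologicalComplex.zero_f, comp_zero,
      add_zero]
    rw [HomologicalComplex.zero_f, add_zero] at e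
    exact e

end

section qis

variable [HasColimitsOfShape (Discrete J) C]

lemma quasiIso_famMap {X Y : J → HomologicalComplex C c} (f : ∀ n, X n ⟶ Y n)
    (hf : ∀ n, QuasiIso (f n)) : QuasiIso (famMap f) := by
  rw [quasiIso_iff]
  intro i
  rw [quasiIsoAt_iff]
  have γ : ShortComplex.LeftHomologyMapData
      ((shortComplexFunctor (Discrete J ⥤ C) c i).map (famMap f))
      ((famCx X).sc i).leftHomologyData ((famCx Y).sc i).leftHomologyData := default
  rw [γ.quasiIso_iff, NatTrans.isIso_iff_isIso_app]
  rintro ⟨n⟩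
  haveI : PreservesFiniteLimits ((evaluation (Discrete J) C).obj ⟨n⟩) :=
    ⟨fun _ _ _ => inferInstance⟩
  haveI : PreservesFiniteColimits ((evaluation (Discrete J) C).obj ⟨n⟩) :=
    ⟨fun _ _ _ => inferInstance⟩
  have hn : ShortComplex.QuasiIso ((shortComplexFunctor C c i).map (f n)) := by
    rw [← quasiIsoAt_iff]
    haveI := hf n
    infer_instance
  have hn' : ShortComplex.QuasiIso
      (((evaluation (Discrete J) C).obj ⟨n⟩).mapShortComplex.map
        ((shortComplexFunctor (Discrete J ⥤ C) c i).map (famMap f))) := hn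
  have h3 := ((γ.map ((evaluation (Discrete J) C).obj ⟨n⟩)).quasiIso_iff).1 hn'
  rw [ShortComplex.LeftHomologyMapData.map_φH] at h3
  exact h3

variable [HasExactColimitsOfShape (Discrete J) C]

lemma quasiIso_mapS {X Y : J → HomologicalComplex C c} (f : ∀ n, X n ⟶ Y n)
    (hf : ∀ n, QuasiIso (f n)) : QuasiIso (mapS f) := by
  haveI : QuasiIso (famMap f) := quasiIso_famMap f hf
  exact quasiIso_map_of_preservesHomology (famMap f) (colim : (Discrete J ⥤ C) ⥤ C)

end qis

end Groth.Agent.H4.SigmaCx
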