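import Mathlib
import Groth.Agent.H4.SigmaCx

set_option autoImplicit false
universe w₁ w₂ w v u

open CategoryTheory Limits DerivedCategory

namespace Groth.Agent.H4.DCoprod

open Groth.Agent.H4.SigmaCx

variable {C : Type u} [Category.{v} C] [Abelian C] [HasDerivedCategory.{w} C]

/-- a morphism of complexes killed by `Q` becomes null-homotopic after precomposition with a
quasi-isomorphism -/
lemma exists_homotopy_of_Q_map_eq_zero {A B : CochainComplex C ℤ} (φ : A ⟶ B)
    (h : Q.map φ = 0) :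
    ∃ (A' : CochainComplex C ℤ) (s : A' ⟶ A) (_ : QuasiIso s),
      Nonempty (Homotopy (s ≫ φ) 0) := by
  have h' : Qh.map ((HomotopyCategory.quotient C (ComplexShape.up ℤ)).map φ) =
      Qh.map ((HomotopyCategory.quotient C (ComplexShape.up ℤ)).map 0) := by
    rw [← cancel_mono ((quotientCompQhIso C).hom.app B), quotientCompQhIso_hom_naturality,
      quotientCompQhIso_hom_naturality, h, Q.map_zero]
  obtain ⟨A', s, hs, fac⟩ := (MorphismProperty.map_eq_iff_precomp Qh
    (HomotopyCategory.quasiIso C (ComplexShape.up ℤ)) _ _).1 h'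
  obtain ⟨A', rfl⟩ := HomotopyCategory.quotient_obj_surjective A'
  obtain ⟨s, rfl⟩ := (HomotopyCategory.quotient _ _).map_surjective s
  refine ⟨A', s, ?_, ⟨HomotopyCategory.homotopyOfEq _ _ ?_⟩⟩
  · exact (HomotopyCategory.quotient_map_mem_quasiIso_iff s).1 hs
  · rw [Functor.map_comp, fac, ← Functor.map_comp, comp_zero]

variable {J : Type w₁} [HasColimitsOfShape (Discrete J) C] [HasExactColimitsOfShape (Discrete J) C]

lemma exists_descQ (X : J → CochainComplex C ℤ) (M : DerivedCategory C)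
    (a : ∀ n, Q.obj (X n) ⟶ M) :
    ∃ b : Q.obj (S X) ⟶ M, ∀ n, Q.map (ιS X n) ≫ b = a n := by
  obtain ⟨e⟩ : Nonempty (Q.obj (Q.objPreimage M) ≅ M) := ⟨Q.objObjPreimageIso M⟩
  choose X' s hs g hg using fun n => right_fac (a n ≫ e.inv)
  have hq : ∀ n, QuasiIso (s n) := fun n => (isIso_Q_map_iff_quasiIso C (s n)).1 (hs n)
  haveI : QuasiIso (mapS s) := quasiIso_mapS s hq
  refine ⟨inv (Q.map (mapS s)) ≫ Q.map (descS g) ≫ e.hom, fun n => ?_⟩
  haveI := hs n
  have e1 : Q.map (ιS X n) ≫ inv (Q.map (mapS s)) = inv (Q.map (s n)) ≫ Q.map (ιS X' n) := by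
    rw [IsIso.comp_inv_eq, Category.assoc, IsIso.eq_inv_comp, ← Q.map_comp, ← Q.map_comp, ι_mapS]
  rw [← Category.assoc, e1, Category.assoc, ← Q.map_comp_assoc, ι_descS, ← Category.assoc,
    ← hg n, Category.assoc, e.inv_hom_id, Category.comp_id]

lemma eq_zero_of_ι_comp_eq_zero (X : J → CochainComplex C ℤ) (M : DerivedCategory C)
    (b : Q.obj (S X) ⟶ M) (hb : ∀ n, Q.map (ιS X n) ≫ b = 0) : b = 0 := by
  obtain ⟨e⟩ : Nonempty (Q.obj (Q.objPreimage M) ≅ M) := ⟨Q.objObjPreimageIso M⟩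
  obtain ⟨Y', g, t, ht, hfac⟩ := left_fac (b ≫ e.inv)
  have hg : Q.map g = (b ≫ e.inv) ≫ Q.map t := by
    rw [hfac, Category.assoc, IsIso.inv_hom_id, Category.comp_id]
  have h0 : ∀ n, Q.map (ιS X n ≫ g) = 0 := by
    intro n
    rw [Q.map_comp, hg, ← Category.assoc, ← Category.assoc, hb n, zero_comp, zero_comp]
  choose A' s hs H using fun n => exists_homotopy_of_Q_map_eq_zero _ (h0 n)
  haveI : QuasiIso (mapS s) := quasiIso_mapS s hs
  have h1 : Q.map (mapS s ≫ g) = 0 := by
    have hh : Homotopy (mapS s ≫ g) 0 := homotopyDescS _ (fun n =>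
      (Homotopy.ofEq (by rw [ι_mapS_assoc])).trans (H n).some)
    rw [Q_map_eq_of_homotopy C hh, Q.map_zero]
  have h2 : Q.map g = 0 := by
    rw [Q.map_comp] at h1
    exact (cancel_epi (Q.map (mapS s))).1 (by rw [h1, comp_zero])
  have h3 : b ≫ e.inv = 0 := by rw [hfac, h2, zero_comp]
  exact (cancel_mono e.inv).1 (by rw [h3, zero_comp])

end Groth.Agent.H4.DCoprod

namespace Groth.Agent.H4.DCoprod

open Groth.Agent.H4.SigmaCx

variable {C : Type u} [Category.{v} C] [Abelian C] [HasDerivedCategory.{w} C]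
  [HasColimitsOfShape (Discrete (ULift.{w₁} ℕ)) C]
  [HasExactColimitsOfShape (Discrete (ULift.{w₁} ℕ)) C]

/-- the cofan in the derived category given by the coproduct complex -/
noncomputable def cofanQ (X : ℕ → CochainComplex C ℤ) :
    Cofan (fun i : ULift.{w₂} ℕ => Q.obj (X i.down)) :=
  Cofan.mk (Q.obj (S (fun n : ULift.{w₁} ℕ => X n.down)))
    (fun i => Q.map (ιS (fun n : ULift.{w₁} ℕ => X n.down) ⟨i.down⟩))

/-- the coproduct complex gives a coproduct in the derived category -/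
noncomputable def isColimitCofanQ (X : ℕ → CochainComplex C ℤ) :
    IsColimit (cofanQ.{w₁, w₂} X) :=
  Cofan.IsColimit.mk _
    (fun t => (exists_descQ (fun n : ULift.{w₁} ℕ => X n.down) t.pt
      (fun n => t.inj ⟨n.down⟩)).choose)
    (fun t j => (exists_descQ (fun n : ULift.{w₁} ℕ => X n.down) t.pt
      (fun n => t.inj ⟨n.down⟩)).choose_spec ⟨j.down⟩)
    (fun t m hm => by
      have key : ∀ (m' : Q.obj (S (fun n : ULift.{w₁} ℕ => X n.down)) ⟶ t.pt),
          (∀ n : ULift.{w₁} ℕ, Q.map (ιS (fun n : ULift.{w₁} ℕ => X n.down) n) ≫ m' =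
            t.inj ⟨n.down⟩) →
          m' = (exists_descQ (fun n : ULift.{w₁} ℕ => X n.down) t.pt
            (fun n => t.inj ⟨n.down⟩)).choose := by
        intro m' hm'
        rw [← sub_eq_zero]
        apply eq_zero_of_ι_comp_eq_zero
        intro n
        rw [Preadditive.comp_sub, sub_eq_zero, hm' n]
        exact ((exists_descQ (fun n : ULift.{w₁} ℕ => X n.down) t.pt
          (fun n => t.inj ⟨n.down⟩)).choose_spec n).symm
      exact key m (fun n => hm ⟨n.down⟩))

end Groth.Agent.H4.DCoprod
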