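import Mathlib
import Groth.Prelude.Def_DRing2
import Groth.Prelude.Def_CohDer
import Groth.Agent.H4.SigmaCx
import Groth.Agent.H4.DCoprod

set_option autoImplicit false
universe w v u

open CategoryTheory Limits

namespace Groth.Agent.H4.SeqCompact

/-! ### Part A : algebra of sequential direct sums of Hom groups -/

section Algebra

variable {D : Type u} [Category.{v} D] [Preadditive D]

/-- the canonical map `⊕ Hom(K, E i) → Hom(K, cf.pt)` for a cofan -/
noncomputable def Φ {I : Type w} [DecidableEq I] (K : D) {E : I → D} (cf : Cofan E) :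
    (DirectSum I (fun i => (K ⟶ E i))) →+ (K ⟶ cf.pt) :=
  DirectSum.toAddMonoid (fun i => Preadditive.rightComp K (cf.inj i))

lemma Φ_of {I : Type w} [DecidableEq I] (K : D) {E : I → D} (cf : Cofan E) (i : I)
    (a : K ⟶ E i) :
    Φ K cf (DirectSum.of (fun i => (K ⟶ E i)) i a) = a ≫ cf.inj i := by
  unfold Φ
  rw [DirectSum.toAddMonoid_of]
  rfl

lemma bijective_Φ {I : Type v} [dec : DecidableEq I] (K : D) {E : I → D} (cf : Cofan E)
    (hcf : IsColimit cf)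
    (h : ∀ [HasCoproduct E], Function.Bijective (CohDer.homSumToHomCoprod K E)) :
    Function.Bijective (Φ K cf) := by
  haveI : HasCoproduct E := ⟨⟨⟨cf, hcf⟩⟩⟩
  obtain ⟨e, he⟩ : ∃ e : ∐ E ≅ cf.pt, ∀ i, Sigma.ι E i ≫ e.hom = cf.inj i :=
    ⟨(colimit.isColimit _).coconePointUniqueUpToIso hcf, fun i =>
      IsColimit.comp_coconePointUniqueUpToIso_hom _ _ _⟩
  have key : Φ K cf = (Preadditive.rightComp K e.hom).comp (CohDer.homSumToHomCoprod K E) := by
    obtain rfl : dec = fun a b => Classical.propDecidable (a = b) := Subsingleton.elim _ _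
    classical
    apply DirectSum.addHom_ext
    intro i a
    rw [Φ_of]
    show _ = (CohDer.homSumToHomCoprod K E (DirectSum.of _ i a)) ≫ e.hom
    unfold CohDer.homSumToHomCoprod
    rw [DirectSum.toAddMonoid_of]
    show a ≫ cf.inj i = (a ≫ Sigma.ι E i) ≫ e.hom
    rw [Category.assoc, he]
  rw [key]
  have hb : Function.Bijective (Preadditive.rightComp K e.hom) :=
    ⟨fun a b hab => (cancel_mono e.hom).1 hab, fun b => ⟨b ≫ e.inv, by
      show (b ≫ e.inv) ≫ e.hom = b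
      rw [Category.assoc, e.inv_hom_id, Category.comp_id]⟩⟩
  exact hb.comp h

section Seq

variable (F : ℕ ⥤ D) (K : D) [dec : DecidableEq (ULift.{w} ℕ)]

/-- the shift map on the direct sum -/
noncomputable def σA : (DirectSum (ULift.{w} ℕ) (fun i => (K ⟶ F.obj i.down))) →+
    (DirectSum (ULift.{w} ℕ) (fun i => (K ⟶ F.obj i.down))) :=
  DirectSum.toAddMonoid (fun i =>
    (DirectSum.of (fun i : ULift.{w} ℕ => (K ⟶ F.obj i.down)) ⟨i.down + 1⟩).comp
      (Preadditive.rightComp K (F.map (homOfLE (Nat.le_succ i.down)))))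

lemma σA_of (i : ULift.{w} ℕ) (a : K ⟶ F.obj i.down) :
    σA F K (DirectSum.of (fun i : ULift.{w} ℕ => (K ⟶ F.obj i.down)) i a) =
      DirectSum.of (fun i : ULift.{w} ℕ => (K ⟶ F.obj i.down)) ⟨i.down + 1⟩
        (a ≫ F.map (homOfLE (Nat.le_succ i.down))) := by
  unfold σA
  rw [DirectSum.toAddMonoid_of]
  rfl

lemma σA_apply_zero (x : DirectSum (ULift.{w} ℕ) (fun i => (K ⟶ F.obj i.down))) :
    (σA F K x) ⟨0⟩ = 0 := by
  induction x using DirectSum.induction_on with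
  | zero => simp
  | of i a =>
    rw [σA_of]
    exact DirectSum.of_eq_of_ne _ _ _ (by
      intro h
      have := congrArg ULift.down h
      simp at this)
  | add x y hx hy => rw [map_add, DirectSum.add_apply, hx, hy, add_zero]

lemma σA_apply_succ (x : DirectSum (ULift.{w} ℕ) (fun i => (K ⟶ F.obj i.down))) (k : ℕ) :
    (σA F K x) ⟨k + 1⟩ = (x ⟨k⟩) ≫ F.map (homOfLE (Nat.le_succ k)) := by
  induction x using DirectSum.induction_on with
  | zero => simp
  | of i a =>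
    obtain ⟨i⟩ := i
    rw [σA_of]
    by_cases h : i = k
    · subst h
      rw [DirectSum.of_eq_same, DirectSum.of_eq_same]
    · rw [DirectSum.of_eq_of_ne, DirectSum.of_eq_of_ne, zero_comp]
      · intro h'
        exact h (congrArg ULift.down h').symm
      · intro h'
        have := congrArg ULift.down h'
        simp at this
        exact h this.symm
  | add x y hx hy =>
    rw [map_add, DirectSum.add_apply, DirectSum.add_apply, hx, hy, Preadditive.add_comp]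

lemma eq_zero_of_sub_σA_eq_zero (x : DirectSum (ULift.{w} ℕ) (fun i => (K ⟶ F.obj i.down)))
    (hx : x - σA F K x = 0) : x = 0 := by
  have hx' : x = σA F K x := sub_eq_zero.1 hx
  have h : ∀ k : ℕ, x ⟨k⟩ = 0 := by
    intro k
    induction k with
    | zero =>
      have := DFunLike.congr_fun hx' ⟨0⟩
      rw [this, σA_apply_zero]
    | succ k ih =>
      have := DFunLike.congr_fun hx' ⟨k + 1⟩
      rw [this, σA_apply_succ, ih, zero_comp]
  refine DFunLike.ext _ _ (fun i => ?_)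
  obtain ⟨k⟩ := i
  rw [h k]
  rfl

/-- the sum of the transition maps to level `m` -/
noncomputable def ψ (m : ℕ) : (DirectSum (ULift.{w} ℕ) (fun i => (K ⟶ F.obj i.down))) →+
    (K ⟶ F.obj m) :=
  DirectSum.toAddMonoid (fun i =>
    if h : i.down ≤ m then Preadditive.rightComp K (F.map (homOfLE h)) else 0)

lemma ψ_of_le (m : ℕ) (i : ULift.{w} ℕ) (h : i.down ≤ m) (a : K ⟶ F.obj i.down) :
    ψ F K m (DirectSum.of (fun i : ULift.{w} ℕ => (K ⟶ F.obj i.down)) i a) =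
      a ≫ F.map (homOfLE h) := by
  unfold ψ
  rw [DirectSum.toAddMonoid_of, dif_pos h]
  rfl

lemma ψ_σA_of (m : ℕ) (i : ULift.{w} ℕ) (h : i.down + 1 ≤ m) (a : K ⟶ F.obj i.down) :
    ψ F K m (σA F K (DirectSum.of (fun i : ULift.{w} ℕ => (K ⟶ F.obj i.down)) i a)) =
      ψ F K m (DirectSum.of (fun i : ULift.{w} ℕ => (K ⟶ F.obj i.down)) i a) := by
  rw [σA_of, ψ_of_le F K m ⟨i.down + 1⟩ h, ψ_of_le F K m i (Nat.le_of_succ_le h),
    Category.assoc, ← F.map_comp]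
  exact congrArg (fun f => a ≫ F.map f) (Subsingleton.elim _ _)

lemma exists_bound (x : DirectSum (ULift.{w} ℕ) (fun i => (K ⟶ F.obj i.down))) :
    ∃ M : ℕ, ∀ m, M ≤ m → ψ F K m (σA F K x) = ψ F K m x := by
  induction x using DirectSum.induction_on with
  | zero => exact ⟨0, fun m _ => by rw [map_zero]⟩
  | of i a => exact ⟨i.down + 1, fun m hm => ψ_σA_of F K m i hm a⟩
  | add x y hx hy =>
    obtain ⟨M1, h1⟩ := hx
    obtain ⟨M2, h2⟩ := hy
    exact ⟨max M1 M2, fun m hm => by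
      rw [map_add, map_add, map_add, h1 m (le_trans (le_max_left _ _) hm),
        h2 m (le_trans (le_max_right _ _) hm)]⟩

lemma exists_map_eq_zero (x : DirectSum (ULift.{w} ℕ) (fun i => (K ⟶ F.obj i.down))) (n : ℕ)
    (y : K ⟶ F.obj n)
    (hx : x - σA F K x = DirectSum.of (fun i : ULift.{w} ℕ => (K ⟶ F.obj i.down)) ⟨n⟩ y) :
    ∃ (m : ℕ) (h : n ≤ m), y ≫ F.map (homOfLE h) = 0 := by
  obtain ⟨M, hM⟩ := exists_bound F K x
  refine ⟨max M n, le_max_right _ _, ?_⟩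
  have h1 := congrArg (ψ F K (max M n)) hx
  rw [map_sub, hM _ (le_max_left _ _), sub_self] at h1
  rw [ψ_of_le F K (max M n) ⟨n⟩ (le_max_right _ _)] at h1
  exact h1.symm

variable (cf : Cofan (fun i : ULift.{w} ℕ => F.obj i.down)) (σ : cf.pt ⟶ cf.pt)
  (hσ : ∀ k : ℕ, cf.inj ⟨k⟩ ≫ σ = F.map (homOfLE (Nat.le_succ k)) ≫ cf.inj ⟨k + 1⟩)

include hσ in
lemma Φ_σA (x : DirectSum (ULift.{w} ℕ) (fun i => (K ⟶ F.obj i.down))) :
    Φ K cf (σA F K x) = Φ K cf x ≫ σ := by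
  induction x using DirectSum.induction_on with
  | zero => rw [map_zero, map_zero, zero_comp]
  | of i a =>
    obtain ⟨i⟩ := i
    rw [σA_of, Φ_of, Φ_of, Category.assoc, Category.assoc, hσ]
  | add x y hx hy => rw [map_add, map_add, map_add, hx, hy, Preadditive.add_comp]

include hσ in
lemma eq_zero_of_comp_sub_σ (hΦ : Function.Bijective (Φ K cf)) (v : K ⟶ cf.pt)
    (hv : v ≫ (𝟙 _ - σ) = 0) : v = 0 := by
  obtain ⟨x, rfl⟩ := hΦ.2 v
  have h1 : Φ K cf (x - σA F K x) = 0 := by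
    rw [map_sub, Φ_σA F K cf σ hσ, ← hv, Preadditive.comp_sub, Category.comp_id]
  have h0 : x - σA F K x = 0 := hΦ.1 (by rw [h1, map_zero])
  rw [eq_zero_of_sub_σA_eq_zero F K x h0, map_zero]

include hσ in
lemma exists_map_eq_zero' (hΦ : Function.Bijective (Φ K cf)) (n : ℕ) (y : K ⟶ F.obj n)
    (z : K ⟶ cf.pt) (hz : z ≫ (𝟙 _ - σ) = y ≫ cf.inj ⟨n⟩) :
    ∃ (m : ℕ) (h : n ≤ m), y ≫ F.map (homOfLE h) = 0 := by
  obtain ⟨x, rfl⟩ := hΦ.2 z
  apply exists_map_eq_zero F K x n y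
  apply hΦ.1
  rw [map_sub, Φ_σA F K cf σ hσ, Φ_of, ← hz, Preadditive.comp_sub, Category.comp_id]

omit dec in
lemma exists_factor [DecidableEq (ULift.{w} ℕ)] {Z : D} (p : cf.pt ⟶ Z) (γ : ∀ k, F.obj k ⟶ Z)
    (hγ : ∀ (k l : ℕ) (h : k ≤ l), F.map (homOfLE h) ≫ γ l = γ k)
    (hp : ∀ k : ℕ, cf.inj ⟨k⟩ ≫ p = γ k)
    (x : DirectSum (ULift.{w} ℕ) (fun i => (K ⟶ F.obj i.down))) :
    ∃ (N : ℕ) (y : K ⟶ F.obj N), Φ K cf x ≫ p = y ≫ γ N := by
  induction x using DirectSum.induction_on with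
  | zero => exact ⟨0, 0, by rw [map_zero, zero_comp, zero_comp]⟩
  | of i a =>
    obtain ⟨i⟩ := i
    exact ⟨i, a, by rw [Φ_of, Category.assoc, hp]⟩
  | add x y hx hy =>
    obtain ⟨N1, y1, h1⟩ := hx
    obtain ⟨N2, y2, h2⟩ := hy
    refine ⟨max N1 N2, y1 ≫ F.map (homOfLE (le_max_left _ _)) +
      y2 ≫ F.map (homOfLE (le_max_right _ _)), ?_⟩
    rw [map_add, Preadditive.add_comp, h1, h2, Preadditive.add_comp, Category.assoc,
      Category.assoc, hγ, hγ]

end Seq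

end Algebra


/-! ### Part B : the short exact sequence `0 → ⊕ L_n → ⊕ L_n → colim L_n → 0` -/

section SES

open Groth.Agent.H4.SigmaCx

variable {R : Type u} [CommRing R] (L : ℕ ⥤ CochainComplex (ModuleCat.{u} R) ℤ)

/-- the family of complexes indexed by `ULift ℕ` -/
abbrev XX : ULift.{u} ℕ → CochainComplex (ModuleCat.{u} R) ℤ := fun n => L.obj n.down

/-- the direct sum complex -/
noncomputable abbrev SS : CochainComplex (ModuleCat.{u} R) ℤ := S (XX L)

/-- the shift map -/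
noncomputable def σ : SS L ⟶ SS L :=
  descS (fun n => L.map (homOfLE (Nat.le_succ n.down)) ≫ ιS (XX L) ⟨n.down + 1⟩)

lemma ι_σ (k : ℕ) : ιS (XX L) ⟨k⟩ ≫ σ L =
    L.map (homOfLE (Nat.le_succ k)) ≫ ιS (XX L) ⟨k + 1⟩ :=
  ι_descS _ _

variable (c : Cocone L)

/-- the projection to the colimit -/
noncomputable def π : SS L ⟶ c.pt := descS (fun n => c.ι.app n.down)

lemma ι_π (k : ℕ) : ιS (XX L) ⟨k⟩ ≫ π L c = c.ι.app k := ι_descS _ _

lemma d_π : (𝟙 (SS L) - σ L) ≫ π L c = 0 := by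
  apply S_hom_ext
  rintro ⟨k⟩
  rw [Preadditive.sub_comp, Category.id_comp, Preadditive.comp_sub, ι_π, ← Category.assoc, ι_σ,
    Category.assoc, ι_π, comp_zero, sub_eq_zero]
  exact (c.w (homOfLE (Nat.le_succ k))).symm

lemma ι_comp_eq {Z : CochainComplex (ModuleCat.{u} R) ℤ} (g' : SS L ⟶ Z)
    (h : (𝟙 (SS L) - σ L) ≫ g' = 0) (k : ℕ) :
    L.map (homOfLE (Nat.le_succ k)) ≫ ιS (XX L) ⟨k + 1⟩ ≫ g' = ιS (XX L) ⟨k⟩ ≫ g' := by
  have h' : g' = σ L ≫ g' := by
    rw [Preadditive.sub_comp, Category.id_comp, sub_eq_zero] at h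
    exact h
  conv_rhs => rw [h', ← Category.assoc, ι_σ, Category.assoc]

/-- the cocone induced by a map killing `1 - σ` -/
noncomputable def cokerCocone {Z : CochainComplex (ModuleCat.{u} R) ℤ} (g' : SS L ⟶ Z)
    (h : (𝟙 (SS L) - σ L) ≫ g' = 0) : Cocone L :=
  Cocone.mk Z (NatTrans.ofSequence (fun k => ιS (XX L) ⟨k⟩ ≫ g')
    (fun k => (ι_comp_eq L g' h k).trans (Category.comp_id _).symm))

variable {c} (hc : IsColimit c)

/-- `π` is a cokernel of `1 - σ` -/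
noncomputable def isCokernel : IsColimit (CokernelCofork.ofπ (π L c) (d_π L c)) :=
  CokernelCofork.IsColimit.ofπ _ _
    (fun g' h => hc.desc (cokerCocone L g' h))
    (fun g' h => by
      apply S_hom_ext
      rintro ⟨k⟩
      rw [← Category.assoc, ι_π]
      exact hc.fac (cokerCocone L g' h) k)
    (fun g' h m hm => by
      apply hc.uniq (cokerCocone L g' h)
      intro k
      show c.ι.app k ≫ m = ιS (XX L) ⟨k⟩ ≫ g'
      rw [← hm, ← Category.assoc, ι_π])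

/-- projection onto the `k`-th summand -/
noncomputable def qq (k : ℕ) : SS L ⟶ L.obj k :=
  descS (fun m => if h : m.down = k then L.map (homOfLE (le_of_eq h)) else 0)

lemma ι_qq (k : ℕ) (m : ULift.{u} ℕ) : ιS (XX L) m ≫ qq L k =
    if h : m.down = k then L.map (homOfLE (le_of_eq h)) else 0 :=
  ι_descS _ _

lemma σ_qq_zero : σ L ≫ qq L 0 = 0 := by
  apply S_hom_ext
  rintro ⟨m⟩
  rw [← Category.assoc, ι_σ, Category.assoc, ι_qq, dif_neg (Nat.succ_ne_zero m), comp_zero,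
    comp_zero]

lemma σ_qq_succ (k : ℕ) : σ L ≫ qq L (k + 1) = qq L k ≫ L.map (homOfLE (Nat.le_succ k)) := by
  apply S_hom_ext
  rintro ⟨m⟩
  rw [← Category.assoc, ι_σ, Category.assoc, ι_qq, ← Category.assoc (ιS _ _), ι_qq]
  by_cases h : m = k
  · subst h
    rw [dif_pos rfl, dif_pos rfl, ← L.map_comp, ← L.map_comp]
    exact congrArg L.map (Subsingleton.elim _ _)
  · rw [dif_neg (by simpa using h), dif_neg h, comp_zero, zero_comp]

lemma eq_zero_of_qq (i : ℤ) (x : (SS L).X i) (hx : ∀ k, (qq L k).f i x = 0) : x = 0 := by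
  classical
  obtain ⟨Z, hZ⟩ : ∃ Z : ULift.{u} ℕ → ModuleCat.{u} R, Z = fun n => (L.obj n.down).X i :=
    ⟨_, rfl⟩
  subst hZ
  obtain ⟨e, he⟩ : ∃ e : (SS L).X i ≅
      ModuleCat.of R (DirectSum (ULift.{u} ℕ) (fun n => (L.obj n.down).X i)),
      ∀ m : ULift.{u} ℕ, ModuleCat.ofHom (DirectSum.lof R (ULift.{u} ℕ)
        (fun n => (L.obj n.down).X i) m) ≫ e.inv = (ιS (XX L) m).f i :=
    ⟨ModuleCat.coprodIsoDirectSum.{u, u, u} (fun n : ULift.{u} ℕ => (L.obj n.down).X i),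
      fun m => ModuleCat.lof_coprodIsoDirectSum_inv.{u, u, u} _ m⟩
  have key : ∀ (k : ℕ) (y : DirectSum (ULift.{u} ℕ) (fun n => (L.obj n.down).X i)),
      (qq L k).f i (e.inv y) = y ⟨k⟩ := by
    intro k y
    induction y using DirectSum.induction_on with
    | zero => simp
    | of m z =>
      have h1 : (ιS (XX L) m ≫ qq L k).f i z = (qq L k).f i (e.inv (DirectSum.of _ m z)) := by
        rw [← DirectSum.lof_eq_of R]
        have := congrArg (fun φ => (qq L k).f i (φ.hom z)) (he m)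
        exact this.symm
      rw [← h1, ι_qq]
      obtain ⟨m⟩ := m
      by_cases h : m = k
      · subst h
        rw [dif_pos rfl, DirectSum.of_eq_same]
        have : homOfLE (le_of_eq (rfl : m = m)) = 𝟙 m := Subsingleton.elim _ _
        rw [this, L.map_id]
        rfl
      · rw [dif_neg h, DirectSum.of_eq_of_ne]
        · rfl
        · intro h'
          exact h (congrArg ULift.down h').symm
    | add y y' hy hy' => rw [map_add, map_add, DirectSum.add_apply, hy, hy']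
  have hy : e.hom x = 0 := by
    refine DFunLike.ext _ _ (fun j => ?_)
    obtain ⟨k⟩ := j
    rw [← key k (e.hom x)]
    have : e.inv (e.hom x) = x := by
      rw [← ConcreteCategory.comp_apply, e.hom_inv_id]
      rfl
    rw [this, hx k]
    rfl
  have : e.inv (e.hom x) = x := by
    rw [← ConcreteCategory.comp_apply, e.hom_inv_id]
    rfl
  rw [← this, hy, map_zero]

lemma mono_d : Mono (𝟙 (SS L) - σ L) := by
  apply HomologicalComplex.mono_of_mono_f
  intro i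
  rw [ModuleCat.mono_iff_injective]
  refine (injective_iff_map_eq_zero (ModuleCat.Hom.hom ((𝟙 (SS L) - σ L).f i))).2 ?_
  intro x hx
  have hx' : x = (σ L).f i x := by
    have h1 : (ModuleCat.Hom.hom ((𝟙 (SS L) - σ L).f i)) x = x - (σ L).f i x := by
      rw [HomologicalComplex.sub_f_apply, HomologicalComplex.id_f]
      rfl
    rw [h1] at hx
    exact sub_eq_zero.1 hx
  apply eq_zero_of_qq L i x
  intro k
  induction k with
  | zero =>
    rw [hx']
    have := congrArg (fun φ => (φ.f i).hom x) (σ_qq_zero L)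
    exact this
  | succ k ih =>
    rw [hx']
    have := congrArg (fun φ => (φ.f i).hom x) (σ_qq_succ L k)
    refine Eq.trans this ?_
    show ((L.map (homOfLE (Nat.le_succ k))).f i) ((qq L k).f i x) = 0
    rw [ih, map_zero]

/-- the short complex `⊕ L_n → ⊕ L_n → colim L_n` -/
noncomputable def SC (c : Cocone L) : ShortComplex (CochainComplex (ModuleCat.{u} R) ℤ) :=
  ShortComplex.mk (𝟙 (SS L) - σ L) (π L c) (d_π L c)

include hc in
lemma SC_shortExact : (SC L c).ShortExact := by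
  haveI : Mono (SC L c).f := mono_d L
  haveI : Epi (SC L c).g := epi_of_isColimit_cofork (isCokernel L hc)
  exact ShortComplex.ShortExact.mk' (ShortComplex.exact_of_g_is_cokernel _ (isCokernel L hc))
    inferInstance inferInstance

end SES


/-! ### Part C : the main theorem -/

section Main

open DerivedCategory Pretriangulated Groth.Agent.H4.SigmaCx Groth.Agent.H4.DCoprod

attribute [local instance] HasDerivedCategory.standard

variable {R : Type u} [CommRing R] (K : DerivedCategory (ModuleCat.{u} R))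
  (L : ℕ ⥤ CochainComplex (ModuleCat.{u} R) ℤ) {c : Cocone L} (hc : IsColimit c)

/-- the cofan `Q(⊕ L_n)` of the `Q(L_n)` -/
noncomputable abbrev cf : Cofan (fun i : ULift.{u + 1} ℕ => (L ⋙ Q).obj i.down) :=
  cofanQ.{u, u + 1} (fun k => L.obj k)

/-- it is a coproduct -/
noncomputable def hcf : IsColimit (cf L) := isColimitCofanQ.{u, u + 1} (fun k => L.obj k)

lemma hσD (k : ℕ) : (cf L).inj ⟨k⟩ ≫ Q.map (σ L) =
    (L ⋙ Q).map (homOfLE (Nat.le_succ k)) ≫ (cf L).inj ⟨k + 1⟩ := by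
  show Q.map (ιS (XX L) ⟨k⟩) ≫ Q.map (σ L) =
    Q.map (L.map (homOfLE (Nat.le_succ k))) ≫ Q.map (ιS (XX L) ⟨k + 1⟩)
  rw [← Q.map_comp, ← Q.map_comp, ι_σ]

/-- the shifted cofan -/
noncomputable abbrev cf' : Cofan (fun i : ULift.{u + 1} ℕ =>
    (L ⋙ Q ⋙ shiftFunctor (DerivedCategory (ModuleCat.{u} R)) (1 : ℤ)).obj i.down) :=
  Cofan.mk ((Q.obj (SS L))⟦(1 : ℤ)⟧) (fun i => (Q.map (ιS (XX L) ⟨i.down⟩))⟦(1 : ℤ)⟧')

/-- it is a coproduct -/
noncomputable def hcf' : IsColimit (cf' L) :=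
  isColimitCofanMkObjOfIsColimit (shiftFunctor (DerivedCategory (ModuleCat.{u} R)) (1 : ℤ)) _ _
    (hcf L)

lemma hσD' (k : ℕ) : (cf' L).inj ⟨k⟩ ≫ (Q.map (σ L))⟦(1 : ℤ)⟧' =
    (L ⋙ Q ⋙ shiftFunctor (DerivedCategory (ModuleCat.{u} R)) (1 : ℤ)).map
      (homOfLE (Nat.le_succ k)) ≫ (cf' L).inj ⟨k + 1⟩ := by
  show (Q.map (ιS (XX L) ⟨k⟩))⟦(1 : ℤ)⟧' ≫ (Q.map (σ L))⟦(1 : ℤ)⟧' =
    (Q.map (L.map (homOfLE (Nat.le_succ k))))⟦(1 : ℤ)⟧' ≫ (Q.map (ιS (XX L) ⟨k + 1⟩))⟦(1 : ℤ)⟧'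
  rw [← (shiftFunctor (DerivedCategory (ModuleCat.{u} R)) (1 : ℤ)).map_comp,
    ← (shiftFunctor (DerivedCategory (ModuleCat.{u} R)) (1 : ℤ)).map_comp, ← Q.map_comp,
    ← Q.map_comp, ι_σ]

include hc in
theorem main
    (hK : ∀ (E : ℕ → DerivedCategory (ModuleCat.{u} R))
      [HasCoproduct fun i : ULift.{u + 1} ℕ => E i.down],
      Function.Bijective (CohDer.homSumToHomCoprod K (fun i : ULift.{u + 1} ℕ => E i.down))) :
    (∀ x : K ⟶ Q.obj c.pt, ∃ (n : ℕ) (y : K ⟶ Q.obj (L.obj n)),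
        y ≫ Q.map (c.ι.app n) = x) ∧
    (∀ (n : ℕ) (y : K ⟶ Q.obj (L.obj n)), y ≫ Q.map (c.ι.app n) = 0 →
        ∃ (m : ℕ) (h : n ≤ m), y ≫ Q.map (L.map (homOfLE h)) = 0) := by
  classical
  have hS := SC_shortExact L hc
  have hT := triangleOfSES_distinguished hS
  have hΦ : Function.Bijective (Φ K (cf L)) :=
    bijective_Φ K (cf L) (hcf L) (hK (fun k => (L ⋙ Q).obj k))
  have hΦ' : Function.Bijective (Φ K (cf' L)) :=
    bijective_Φ K (cf' L) (hcf' L)
      (hK (fun k => (L ⋙ Q ⋙ shiftFunctor (DerivedCategory (ModuleCat.{u} R)) (1 : ℤ)).obj k))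
  constructor
  · intro x
    obtain ⟨δ, hδ⟩ : ∃ δ : Q.obj c.pt ⟶ (Q.obj (SS L))⟦(1 : ℤ)⟧,
        δ = (triangleOfSES hS).mor₃ := ⟨_, rfl⟩
    have h31 : δ ≫ (Q.map (𝟙 (SS L) - σ L))⟦(1 : ℤ)⟧' = 0 := by
      rw [hδ]
      exact comp_distTriang_mor_zero₃₁ _ hT
    have e : (Q.map (𝟙 (SS L) - σ L))⟦(1 : ℤ)⟧' =
        𝟙 ((Q.obj (SS L))⟦(1 : ℤ)⟧) - (Q.map (σ L))⟦(1 : ℤ)⟧' := by
      rw [Functor.map_sub, Functor.map_sub, CategoryTheory.Functor.map_id,
        CategoryTheory.Functor.map_id]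
    have hv : (x ≫ δ) ≫ (𝟙 ((Q.obj (SS L))⟦(1 : ℤ)⟧) - (Q.map (σ L))⟦(1 : ℤ)⟧') = 0 := by
      rw [Category.assoc, ← e, h31, comp_zero]
    have h0 : x ≫ (triangleOfSES hS).mor₃ = 0 := by
      rw [← hδ]
      exact eq_zero_of_comp_sub_σ
        (L ⋙ Q ⋙ shiftFunctor (DerivedCategory (ModuleCat.{u} R)) (1 : ℤ)) K (cf' L)
        ((Q.map (σ L))⟦(1 : ℤ)⟧') (hσD' L) hΦ' (x ≫ δ) hv
    obtain ⟨x', hx'⟩ := (triangleOfSES hS).coyoneda_exact₃ hT x h0
    obtain ⟨w, hw⟩ := hΦ.2 x'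
    obtain ⟨N, y, hy⟩ := exists_factor (L ⋙ Q) K (cf L) (Q.map (π L c))
      (fun k => Q.map (c.ι.app k))
      (fun k l h => by
        show Q.map (L.map (homOfLE h)) ≫ Q.map (c.ι.app l) = Q.map (c.ι.app k)
        rw [← Q.map_comp, c.w])
      (fun k => by
        show Q.map (ιS (XX L) ⟨k⟩) ≫ Q.map (π L c) = Q.map (c.ι.app k)
        rw [← Q.map_comp, ι_π]) w
    refine ⟨N, y, ?_⟩
    rw [← hy, hw]
    exact hx'.symm
  · intro n y hy
    have h0 : (y ≫ Q.map (ιS (XX L) ⟨n⟩)) ≫ (triangleOfSES hS).mor₂ = 0 := by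
      show (y ≫ Q.map (ιS (XX L) ⟨n⟩)) ≫ Q.map (π L c) = 0
      rw [Category.assoc, ← Q.map_comp, ι_π, hy]
    obtain ⟨z, hz⟩ := (triangleOfSES hS).coyoneda_exact₂ hT _ h0
    have e : (triangleOfSES hS).mor₁ = 𝟙 (Q.obj (SS L)) - Q.map (σ L) := by
      show Q.map (𝟙 (SS L) - σ L) = _
      rw [Functor.map_sub, CategoryTheory.Functor.map_id]
    have hz' : (z : K ⟶ Q.obj (SS L)) ≫ (𝟙 (Q.obj (SS L)) - Q.map (σ L)) =
        y ≫ Q.map (ιS (XX L) ⟨n⟩) := by
      rw [← e]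
      exact hz.symm
    exact exists_map_eq_zero' (L ⋙ Q) K (cf L) (Q.map (σ L)) (hσD L) hΦ n y z hz'

end Main

end Groth.Agent.H4.SeqCompact
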