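import Mathlib
import Groth.Agent.H4.Cpt2
import Groth.Agent.H4.SeqCompact
import Groth.Agent.Lib.Helper6.Cpt1
set_option autoImplicit false
universe u
open CategoryTheory CategoryTheory.Limits

/-!
# Translating between the compactness condition on `D(R)` and weak compactness
-/

namespace Groth.Agent.H4.CptP

attribute [local instance] HasDerivedCategory.standard
open DRing DerivedCategory Groth.Agent.H4.Cpt1

variable {R : Type u} [CommRing R]

/-- the compactness condition (families indexed by `u`-small types). -/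
def CptHyp (K : Dual.D R) : Prop :=
  ∀ (I : Type u) (E : I → Dual.D R) [HasCoproduct fun i : ULift.{u + 1} I => E i.down],
    Function.Bijective (CohDer.homSumToHomCoprod K (fun i : ULift.{u + 1} I => E i.down))

theorem wc_of_cptHyp {K : Dual.D R} (h : CptHyp K) : WC.{u} K := by
  classical
  intro J X c hc α
  let c' : Cofan (fun i : ULift.{u + 1} J => X i.down) := Cofan.mk c.pt (fun i => c.inj i.down)
  have hc' : IsColimit c' := (Cofan.isColimitEquivOfEquiv (Equiv.ulift.{u + 1, u}) c) hc
  obtain ⟨x, hx⟩ := (Groth.Agent.H4.SeqCompact.bijective_Φ K c' hc' (h J X)).2 α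
  rw [mem_FF_iff]
  refine ⟨(DFinsupp.support x).map ⟨ULift.down, ULift.down_injective⟩, fun k => x ⟨k⟩, ?_⟩
  rw [Finset.sum_map, ← hx]
  conv_lhs => rw [← DirectSum.sum_support_of x]
  rw [map_sum]
  refine Finset.sum_congr rfl (fun i _ => ?_)
  rw [Groth.Agent.H4.SeqCompact.Φ_of]
  rfl

theorem bijective_of_wc {K : Dual.D R} (h : WC.{u} K) {J : Type u} {J' : Type (u + 1)} (e : J ≃ J')
    (M : J' → Dual.D R) [HasCoproduct M] :
    Function.Bijective (CohDer.homSumToHomCoprod K M) := by
  classical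
  apply Groth.Agent.H6.Cpt.bijective_homSumToHomCoprod
  intro y
  let c : Cofan M := Cofan.mk (∐ M) (Sigma.ι M)
  have hc : IsColimit c := coproductIsCoproduct M
  have hc₀ := (Cofan.isColimitEquivOfEquiv e c) hc
  have hy := h J _ _ hc₀ y
  rw [mem_FF_iff] at hy
  obtain ⟨S, x, hx⟩ := hy
  refine ⟨S.map e.toEmbedding, e.piCongrLeft (fun j' => K ⟶ M j') x, ?_⟩
  rw [Finset.sum_map, hx]
  refine Finset.sum_congr rfl (fun k _ => ?_)
  simp
  rfl

theorem cptHyp_of_wc {K : Dual.D R} (h : WC.{u} K) : CptHyp K := fun I E _ =>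
  bijective_of_wc h (Equiv.ulift.{u + 1, u}).symm _

theorem seqHyp_of_wc {K : Dual.D R} (h : WC.{u} K)
    (E : ℕ → Dual.D R) [HasCoproduct fun i : ULift.{u + 1} ℕ => E i.down] :
    Function.Bijective (CohDer.homSumToHomCoprod K (fun i : ULift.{u + 1} ℕ => E i.down)) :=
  bijective_of_wc h ((Equiv.ulift.{u, 0}).trans (Equiv.ulift.{u + 1, 0}).symm) _

end Groth.Agent.H4.CptP
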