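import Mathlib
import Groth.Agent.H4.Cpt2
import Groth.Agent.H4.GK4
import Groth.Agent.H4.DRing2
set_option autoImplicit false
universe u
open CategoryTheory CategoryTheory.Limits CategoryTheory.Pretriangulated ZeroObject

/-!
# Maps from weakly compact objects to bounded complexes of free modules factor through perfect
objects
-/

namespace Groth.Agent.H4.CptP

attribute [local instance] HasDerivedCategory.standard
open DRing DerivedCategory Groth.Agent.H4.Cpt1 Groth.Agent.H4.Cpt2 Groth.Agent.H4.DRing1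
  Groth.Agent.H4.ProjAmp Groth.Agent.H4.AP1 Groth.Agent.H4.PCS2
  Groth.Agent.H4.GK4

variable {R : Type u} [CommRing R]

lemma isPerfect_biprod (X Y : Dual.D R) (hX : IsPerfect R X) (hY : IsPerfect R Y) :
    IsPerfect R (X ⊞ Y) :=
  (isPerfect_two_out_of_three _ (binaryBiproductTriangle_distinguished X Y)).2.1 hX hY

/-- a perfect object carrying the idempotent onto finitely many summands. -/
lemma exists_split_finset {J : Type u} {X : J → Dual.D R} {c : Cofan X} (hc : IsColimit c)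
    (hX : ∀ j, IsPerfect R (X j)) (S : Finset J) :
    ∃ (Z : Dual.D R) (_ : IsPerfect R Z) (ι : Z ⟶ c.pt) (π : c.pt ⟶ Z),
      π ≫ ι = ∑ k ∈ S, proj hc k ≫ c.inj k := by
  classical
  induction S using Finset.induction_on with
  | empty =>
    exact ⟨0, isPerfect_of_isZero _ (isZero_zero _), 0, 0, by simp⟩
  | insert a S ha ih =>
    obtain ⟨Z, hZ, ι, π, h⟩ := ih
    refine ⟨Z ⊞ X a, isPerfect_biprod _ _ hZ (hX a), biprod.desc ι (c.inj a),
      biprod.lift π (proj hc a), ?_⟩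
    rw [biprod.lift_desc, h, Finset.sum_insert ha, add_comm]

/-- maps from weakly compact objects into a coproduct of perfect objects. -/
lemma finFac0 {J : Type u} {X : J → Dual.D R} {c : Cofan X} (hc : IsColimit c)
    (hX : ∀ j, IsPerfect R (X j)) {C : Dual.D R} (hC : WC.{u} C) (α : C ⟶ c.pt) :
    ∃ (Z : Dual.D R) (_ : IsPerfect R Z) (ι : Z ⟶ c.pt) (π : c.pt ⟶ Z), α ≫ π ≫ ι = α := by
  have hα := hC J X c hc α
  rw [mem_FF_iff] at hα
  obtain ⟨S, x, rfl⟩ := hα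
  obtain ⟨Z, hZ, ι, π, h⟩ := exists_split_finset hc hX S
  refine ⟨Z, hZ, ι, π, ?_⟩
  rw [h, Preadditive.sum_comp]
  refine Finset.sum_congr rfl (fun k hk => ?_)
  rw [Category.assoc, inj_comp_sum_proj hc S k hk]

/-- maps from weakly compact objects into the shift of a coproduct of perfect objects. -/
lemma finFac1 {J : Type u} {X : J → Dual.D R} {c : Cofan X} (hc : IsColimit c)
    (hX : ∀ j, IsPerfect R (X j)) {C : Dual.D R} (hC : WC.{u} C) (α : C ⟶ (c.pt)⟦(1 : ℤ)⟧) :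
    ∃ (Z : Dual.D R) (_ : IsPerfect R Z) (ι : Z ⟶ c.pt) (π : c.pt ⟶ Z),
      α ≫ π⟦(1 : ℤ)⟧' ≫ ι⟦(1 : ℤ)⟧' = α := by
  let c1 : Cofan (fun j => (X j)⟦(1 : ℤ)⟧) :=
    Cofan.mk ((c.pt)⟦(1 : ℤ)⟧) (fun j => (c.inj j)⟦(1 : ℤ)⟧')
  have hc1 : IsColimit c1 := (Cofan.isColimitMapCoconeEquiv (shiftFunctor (Dual.D R) (1 : ℤ)) X c)
    (isColimitOfPreserves (shiftFunctor (Dual.D R) (1 : ℤ)) hc)
  have hα := hC J _ c1 hc1 α
  rw [mem_FF_iff] at hα
  obtain ⟨S, x, hx⟩ := hα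
  obtain ⟨Z, hZ, ι, π, h⟩ := exists_split_finset hc hX S
  refine ⟨Z, hZ, ι, π, ?_⟩
  rw [← Functor.map_comp, h]
  conv_lhs => rw [hx]
  conv_rhs => rw [hx]
  rw [Preadditive.sum_comp]
  refine Finset.sum_congr rfl (fun k hk => ?_)
  rw [Category.assoc]
  change x k ≫ (c.inj k)⟦(1 : ℤ)⟧' ≫ _ = x k ≫ (c.inj k)⟦(1 : ℤ)⟧'
  rw [← Functor.map_comp, inj_comp_sum_proj hc S k hk]

/-- a free module placed in one degree is a coproduct of copies of `R[-b]` in `D(R)`. -/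
lemma exists_cofan_sgl_free (b : ℤ) (F : ModuleCat.{u} R) [Module.Free R F] :
    ∃ (J : Type u) (c : Cofan (fun _ : J => W R b)) (_ : IsColimit c),
      Nonempty (c.pt ≅ Q.obj (sgl F b)) := by
  let J := Module.Free.ChooseBasisIndex R F
  let β := Module.Free.chooseBasis R F
  let c₀ := ModuleCat.finsuppCocone R R J
  have hc₀ : IsColimit c₀ := ModuleCat.finsuppCoconeIsColimit R R J
  have hc₁ := isColimitOfPreserves
    (HomologicalComplex.single (ModuleCat.{u} R) (ComplexShape.up ℤ) b) hc₀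
  let c₁ : Cofan (fun _ : J => (HomologicalComplex.single (ModuleCat.{u} R)
      (ComplexShape.up ℤ) b).obj (ModuleCat.of R R)) :=
    Cofan.mk ((HomologicalComplex.single (ModuleCat.{u} R) (ComplexShape.up ℤ) b).obj c₀.pt)
      (fun j => (HomologicalComplex.single (ModuleCat.{u} R) (ComplexShape.up ℤ) b).map (c₀.inj j))
  have hc₁' : IsColimit c₁ := (isColimitMapCoconeCofanMkEquiv _ _ _) hc₁
  have hc₂ := Groth.Agent.H2.DCoprod.isColimitMapCofan hc₁'
  exact ⟨J, _, hc₂, ⟨Q.mapIso ((HomologicalComplex.single (ModuleCat.{u} R)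
    (ComplexShape.up ℤ) b).mapIso (β.repr.symm.toModuleIso))⟩⟩

lemma isPerfect_W (b : ℤ) : IsPerfect R (W R b) := by
  refine ⟨sgl (ModuleCat.of R R) b, b, b, ?_, ?_, ⟨Iso.refl _⟩⟩
  · intro i hi
    exact HomologicalComplex.isZero_single_obj_X _ _ _ _ (by omega)
  · intro i
    by_cases hi : i = b
    · subst hi
      have e := (HomologicalComplex.singleObjXSelf (ComplexShape.up ℤ) i
        (ModuleCat.of R R)).toLinearEquiv
      exact ⟨Module.Finite.equiv e.symm, Module.Projective.of_equiv e.symm⟩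
    · haveI := ModuleCat.subsingleton_of_isZero (HomologicalComplex.isZero_single_obj_X
        (ComplexShape.up ℤ) b (ModuleCat.of R R) i hi)
      exact ⟨inferInstance, inferInstance⟩

/-- the comparison of `σ_{≥ b} L` with `L^b[-b]`. -/
noncomputable def toSgl (L : Cx R) (b : ℤ) : sigmaGE L b ⟶ sgl (L.X b) b :=
  HomologicalComplex.mkHomToSingle (sigmaGEXIso L b b le_rfl).hom (fun i hi =>
    (sigmaGE_isZero L b i (by
      simp only [ComplexShape.up_Rel] at hi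
      omega)).eq_of_src _ _)

lemma isIso_toSgl (L : Cx R) (b : ℤ) (hL : ∀ i, b < i → IsZero (L.X i)) : IsIso (toSgl L b) := by
  haveI : ∀ i, IsIso ((toSgl L b).f i) := by
    intro i
    by_cases hi : i = b
    · subst hi
      rw [toSgl, HomologicalComplex.mkHomToSingle_f]
      infer_instance
    · have hs : IsZero ((sigmaGE L b).X i) := by
        rcases lt_or_gt_of_ne hi with h | h
        · exact sigmaGE_isZero L b i h
        · exact sigmaGE_isZero' L b i (hL i h)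
      have ht : IsZero ((sgl (L.X b) b).X i) := HomologicalComplex.isZero_single_obj_X _ _ _ _ hi
      exact ⟨⟨0, hs.eq_of_src _ _, ht.eq_of_src _ _⟩⟩
  exact HomologicalComplex.Hom.isIso_of_components _

lemma sigmaSC_shortExact' (L : Cx R) (b : ℤ) : (sigmaSC L b).ShortExact := by
  rw [HomologicalComplex.shortExact_iff_degreewise_shortExact]
  intro i
  exact (sigmaSplitting L b i).shortExact

/-- the finite factorization properties of `σ_{≥ b} L` for `L` free and vanishing above `b`. -/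
lemma finFac_sigmaGE (L : Cx R) (b : ℤ) (hL : ∀ i, b < i → IsZero (L.X i))
    [Module.Free R (L.X b)] :
    (∀ (C : Dual.D R), WC.{u} C → ∀ α : C ⟶ Q.obj (sigmaGE L b),
      ∃ (Z : Dual.D R) (_ : IsPerfect R Z) (ι : Z ⟶ Q.obj (sigmaGE L b))
        (π : Q.obj (sigmaGE L b) ⟶ Z), α ≫ π ≫ ι = α) ∧
    (∀ (C : Dual.D R), WC.{u} C → ∀ α : C ⟶ (Q.obj (sigmaGE L b))⟦(1 : ℤ)⟧,
      ∃ (Z : Dual.D R) (_ : IsPerfect R Z) (ι : Z ⟶ Q.obj (sigmaGE L b))
        (π : Q.obj (sigmaGE L b) ⟶ Z), α ≫ π⟦(1 : ℤ)⟧' ≫ ι⟦(1 : ℤ)⟧' = α) := by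
  obtain ⟨J, c, hc, ⟨e₁⟩⟩ := exists_cofan_sgl_free b (L.X b)
  haveI := isIso_toSgl L b hL
  let e : c.pt ≅ Q.obj (sigmaGE L b) := e₁ ≪≫ (asIso (Q.map (toSgl L b))).symm
  constructor
  · intro C hC α
    obtain ⟨Z, hZ, ι, π, h⟩ := finFac0 hc (fun _ => isPerfect_W b) hC (α ≫ e.inv)
    refine ⟨Z, hZ, ι ≫ e.hom, e.inv ≫ π, ?_⟩
    have h' := congrArg (fun t => t ≫ e.hom) h
    simp only [Category.assoc, Iso.inv_hom_id, Category.comp_id] at h'
    simp only [Category.assoc]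
    exact h'
  · intro C hC α
    obtain ⟨Z, hZ, ι, π, h⟩ := finFac1 hc (fun _ => isPerfect_W b) hC (α ≫ e.inv⟦(1 : ℤ)⟧')
    refine ⟨Z, hZ, ι ≫ e.hom, e.inv ≫ π, ?_⟩
    rw [Functor.map_comp, Functor.map_comp]
    have h' := congrArg (fun t => t ≫ e.hom⟦(1 : ℤ)⟧') h
    simp only [Category.assoc] at h' ⊢
    rw [h', ← Functor.map_comp, e.inv_hom_id, CategoryTheory.Functor.map_id, Category.comp_id]

lemma isZero_toD_of_lt (L : Cx R) (a b : ℤ) (hL : VanishesOutside L a b) (hab : b < a) :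
    IsZero (toD L) := by
  have hz : IsZero L := by
    rw [IsZero.iff_id_eq_zero]
    apply HomologicalComplex.hom_ext
    intro i
    exact (hL i (by omega)).eq_of_src _ _
  exact Q.map_isZero hz

/-- **Neeman's lemma** for bounded complexes of free modules: a map from a weakly compact object
factors through a perfect object. -/
theorem neeman (m : ℕ) : ∀ (a b : ℤ) (L : Cx R), VanishesOutside L a b →
    (∀ i, Module.Free R (L.X i)) → b - a < m → ∀ (C : Dual.D R), WC.{u} C → ∀ φ : C ⟶ toD L,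
    ∃ (Y : Dual.D R) (_ : IsPerfect R Y) (ψ : C ⟶ Y) (g : Y ⟶ toD L), ψ ≫ g = φ := by
  induction m with
  | zero =>
    intro a b L hL hF hab C hC φ
    have hz := isZero_toD_of_lt L a b hL (by omega)
    exact ⟨0, isPerfect_of_isZero _ (isZero_zero _), 0, 0, hz.eq_of_tgt _ _⟩
  | succ m ih =>
    intro a b L hL hF hab C hC φ
    by_cases hba : b < a
    · have hz := isZero_toD_of_lt L a b hL hba
      exact ⟨0, isPerfect_of_isZero _ (isZero_zero _), 0, 0, hz.eq_of_tgt _ _⟩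
    have hS := sigmaSC_shortExact' L b
    obtain ⟨u, v, w, hu, hv, hT⟩ : ∃ (u : Q.obj (sigmaGE L b) ⟶ toD L)
        (v : toD L ⟶ toD (sigmaLT L b))
        (w : toD (sigmaLT L b) ⟶ (Q.obj (sigmaGE L b))⟦(1 : ℤ)⟧),
        u = Q.map (sigmaGEι L b) ∧ v = Q.map (sigmaLTπ L b) ∧
          Triangle.mk u v w ∈ distinguishedTriangles :=
      ⟨_, _, (triangleOfSES hS).mor₃, rfl, rfl, triangleOfSES_distinguished hS⟩
    have hL'' : VanishesOutside (sigmaLT L b) a (b - 1) := by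
      intro i hi
      rcases hi with hi | hi
      · exact sigmaLT_isZero' L b i (hL i (Or.inl hi))
      · exact sigmaLT_isZero L b i (by omega)
    have hF'' : ∀ i, Module.Free R ((sigmaLT L b).X i) := by
      intro i
      by_cases hi : i < b
      · haveI := hF i
        exact Module.Free.of_equiv (sigmaLTXIso L b i hi).toLinearEquiv.symm
      · haveI := ModuleCat.subsingleton_of_isZero (sigmaLT_isZero L b i (by omega))
        infer_instance
    obtain ⟨Y'', hY'', ψ'', g'', h''⟩ := ih a (b - 1) (sigmaLT L b) hL'' hF'' (by omega) C hC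
      (φ ≫ v)
    haveI := hF b
    obtain ⟨ff0, ff1⟩ := finFac_sigmaGE L b (fun i hi => hL i (Or.inr hi))
    obtain ⟨Z₁, hZ₁, ι₁, π₁, h1⟩ := ff1 Y'' (wc_of_isPerfect hY'') (g'' ≫ w)
    obtain ⟨Y₀, p, q, hT₀⟩ := distinguished_cocone_triangle₂ (g'' ≫ w ≫ π₁⟦(1 : ℤ)⟧')
    have hY₀ : IsPerfect R Y₀ := (isPerfect_two_out_of_three _ hT₀).2.1 hZ₁ hY''
    obtain ⟨g₀, hg1, hg2'⟩ : ∃ g₀ : Y₀ ⟶ toD L, p ≫ g₀ = ι₁ ≫ u ∧ q ≫ g'' = g₀ ≫ v :=
      complete_distinguished_triangle_morphism₂ _ (Triangle.mk u v w) hT₀ hT ι₁ g'' (by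
        change (g'' ≫ w ≫ π₁⟦(1 : ℤ)⟧') ≫ ι₁⟦(1 : ℤ)⟧' = g'' ≫ w
        simp only [Category.assoc] at h1 ⊢
        exact h1)
    have hvw : v ≫ w = 0 := comp_distTriang_mor_zero₂₃ _ hT
    have hw : ψ'' ≫ (g'' ≫ w ≫ π₁⟦(1 : ℤ)⟧') = 0 := by
      rw [← Category.assoc, h'', Category.assoc, ← Category.assoc v, hvw, zero_comp, comp_zero]
    obtain ⟨ψ₀, hψ₀'⟩ : ∃ ψ₀ : C ⟶ Y₀, ψ'' = ψ₀ ≫ q := Triangle.coyoneda_exact₃ _ hT₀ ψ'' hw
    have hδ : (φ - ψ₀ ≫ g₀) ≫ v = 0 := by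
      rw [Preadditive.sub_comp, Category.assoc, ← hg2', ← Category.assoc, ← hψ₀', h'', sub_self]
    obtain ⟨δ, hδ''⟩ : ∃ δ : C ⟶ Q.obj (sigmaGE L b), φ - ψ₀ ≫ g₀ = δ ≫ u :=
      Triangle.coyoneda_exact₂ _ hT (φ - ψ₀ ≫ g₀) hδ
    obtain ⟨Z₂, hZ₂, ι₂, π₂, h2⟩ := ff0 C hC δ
    refine ⟨Y₀ ⊞ Z₂, isPerfect_biprod _ _ hY₀ hZ₂, biprod.lift ψ₀ (δ ≫ π₂),
      biprod.desc g₀ (ι₂ ≫ u), ?_⟩
    have h3 : (δ ≫ π₂) ≫ ι₂ ≫ u = φ - ψ₀ ≫ g₀ := by
      rw [hδ'', ← h2]
      simp only [Category.assoc]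
      rw [← Category.assoc π₂ ι₂, ← Category.assoc δ (π₂ ≫ ι₂), h2]
    rw [biprod.lift_desc, h3]
    abel

end Groth.Agent.H4.CptP
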