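import Mathlib
import Groth.Agent.H4.CptP1
import Groth.Agent.H4.CptP2
import Groth.Agent.H4.KProj3
import Groth.Agent.H4.ResP2
import Groth.Agent.H4.PC8
import Groth.Agent.H4.KProj5
import Groth.Agent.S7019
set_option autoImplicit false
universe u
open CategoryTheory CategoryTheory.Limits CategoryTheory.Pretriangulated ZeroObject

/-!
# Compact objects of `D(R)` are perfect
-/

namespace Groth.Agent.H4.CptP3

attribute [local instance] HasDerivedCategory.standard
open DRing DerivedCategory Groth.Agent.H4.Cpt1 Groth.Agent.H4.Cpt2 Groth.Agent.H4.DRing1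
  Groth.Agent.H4.ProjAmp Groth.Agent.H4.AP1 Groth.Agent.H4.PCS2 Groth.Agent.H4.GK4
  Groth.Agent.H4.CptP

variable {R : Type u} [CommRing R]

/-- a retract of a perfect object is perfect. -/
lemma isPerfect_of_retract {K Y : Dual.D R} (i : K ⟶ Y) (p : Y ⟶ K) (hip : i ≫ p = 𝟙 K)
    (hY : IsPerfect R Y) : IsPerfect R K := by
  obtain ⟨Cn, j, k, hT⟩ := distinguished_cocone_triangle i
  have hk : k = 0 := by
    have h1 : k ≫ i⟦(1 : ℤ)⟧' = 0 := comp_distTriang_mor_zero₃₁ _ hT
    have h2 := congrArg (fun t => t ≫ p⟦(1 : ℤ)⟧') h1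
    simp only [Category.assoc, ← Functor.map_comp, hip, CategoryTheory.Functor.map_id,
      Category.comp_id, zero_comp] at h2
    exact h2
  obtain ⟨e, -, -⟩ := exists_iso_binaryBiproduct_of_distTriang _ hT hk
  haveI : ∀ M : ModuleCat.{u} R, DRing.HasLTensor R M := fun M => Groth.Agent.H4.KProj.hasLTensor M
  exact (Groth.Agent.S7019.result R K Cn (isPerfect_of_iso e hY)).1

/-- weakly compact objects are bounded above. -/
lemma exists_isLE_of_wc {K : Dual.D R} (hK : WC.{u} K) : ∃ b : ℤ, K.IsLE b := by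
  let X := Q.objPreimage K
  let e : Q.obj X ≅ K := Q.objObjPreimageIso K
  obtain ⟨n, y, hy⟩ := (Groth.Agent.H4.SeqCompact.main K (Groth.Agent.H4.KProj.tower X)
    (Groth.Agent.H4.KProj.isColimitTowerCocone X) (fun E _ => seqHyp_of_wc hK E)).1 e.inv
  refine ⟨n, ?_⟩
  haveI : (Q.obj ((Groth.Agent.H4.KProj.tower X).obj n)).IsLE n :=
    Groth.Agent.H4.PC.isLE_of_forall_isZero _ n (fun i hi =>
      Groth.Agent.H4.PC.isZero_homology_toD_of_isZero _ i (Groth.Agent.H4.KProj.isZero_tr_X X hi))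
  exact Groth.Agent.H4.PC.isLE_of_retract y
    (Q.map ((Groth.Agent.H4.KProj.towerCocone X).ι.app n) ≫ e.hom) (by
      have h : (y ≫ Q.map ((Groth.Agent.H4.KProj.towerCocone X).ι.app n)) ≫ e.hom = 𝟙 K := by
        rw [hy]
        exact e.inv_hom_id
      exact (Category.assoc _ _ _).symm.trans h) n

/-- weakly compact objects are retracts of bounded complexes of free modules. -/
lemma exists_retract_bounded_free {K : Dual.D R} (hK : WC.{u} K) :
    ∃ (a b : ℤ) (L : Cx R), VanishesOutside L a b ∧ (∀ i, Module.Free R (L.X i)) ∧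
      ∃ (i : K ⟶ toD L) (p : toD L ⟶ K), i ≫ p = 𝟙 K := by
  obtain ⟨b, hb⟩ := exists_isLE_of_wc hK
  obtain ⟨P, hP, ⟨e⟩⟩ := Groth.Agent.H4.ResP.exists_iso_of_isLE K b
  obtain ⟨n, y, hy⟩ := (Groth.Agent.H4.SeqCompact.main K (sigmaSeq P b)
    (isColimitSigmaCocone P b) (fun E _ => seqHyp_of_wc hK E)).1 e.inv
  refine ⟨b - n, b, sigmaGE P (b - n), ?_, ?_, y, Q.map (sigmaGEι P (b - n)) ≫ e.hom, ?_⟩
  · intro i hi
    rcases hi with hi | hi
    · exact sigmaGE_isZero P _ i hi
    · exact sigmaGE_isZero' P _ i (hP.1 i hi)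
  · intro i
    by_cases hi : b - n ≤ i
    · haveI := hP.2 i
      exact Module.Free.of_equiv (sigmaGEXIso P (b - n) i hi).toLinearEquiv.symm
    · haveI := ModuleCat.subsingleton_of_isZero (sigmaGE_isZero P (b - n) i (by omega))
      infer_instance
  · have h : (y ≫ Q.map ((sigmaCocone P b).ι.app n)) ≫ e.hom = 𝟙 K := by
      rw [hy]
      exact e.inv_hom_id
    exact (Category.assoc _ _ _).symm.trans h

theorem isPerfect_of_wc {K : Dual.D R} (hK : WC.{u} K) : IsPerfect R K := by
  obtain ⟨a, b, L, hL, hF, i, p, hip⟩ := exists_retract_bounded_free hK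
  obtain ⟨Y, hY, ψ, g, h⟩ := neeman (b - a + 1).toNat a b L hL hF (by
    have := Int.self_le_toNat (b - a + 1)
    omega) K hK i
  exact isPerfect_of_retract ψ (g ≫ p) (by rw [← Category.assoc, h, hip]) hY

theorem main (R : Type u) [CommRing R] (K : Dual.D R) :
    DRing.IsPerfect R K ↔
      ∀ (I : Type u) (E : I → Dual.D R) [HasCoproduct fun i : ULift.{u + 1} I => E i.down],
        Function.Bijective (CohDer.homSumToHomCoprod K (fun i : ULift.{u + 1} I => E i.down)) :=
  ⟨fun h => cptHyp_of_wc (wc_of_isPerfect h), fun h => isPerfect_of_wc (wc_of_cptHyp h)⟩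

end Groth.Agent.H4.CptP3
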