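import Mathlib
import Groth.Prelude.Def_W4c5m1nsnscurvesU

set_option linter.unusedSectionVars false
set_option linter.unusedVariables false
set_option linter.style.haveILetI false
set_option autoImplicit false

universe u
open W4c5m1nsnscurves MvPolynomial

noncomputable section
namespace Groth.Agent.H4.UCot

section Rel
variable (R : Type u) [CommRing R] (m : ℕ)

lemma mk_eq_zero_of_mem {p : MvPolynomial (UGen m) R} (hp : p ∈ URel R m) :
    Ideal.Quotient.mk (Ideal.span (URel R m)) p = 0 :=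
  Ideal.Quotient.eq_zero_iff_mem.2 (Ideal.subset_span hp)

lemma rel_lin (i j : Fin m) (h : i ≠ j) :
    ugen R m (.cij i j h) + ugen R m (.cij j i h.symm) =
      ugen R m .a + ugen R m (.ci i) + ugen R m (.cbi i) + ugen R m (.ci j) + ugen R m (.cbi j) := by
  have := mk_eq_zero_of_mem R m (p := _)
    (Or.inl (Or.inl (Or.inl ⟨(⟨(i, j), h⟩ : DPair m), rfl⟩)))
  simp only [map_add, map_sub] at this
  exact sub_eq_zero.1 this

lemma rel_c (i j : Fin m) (h : i ≠ j) :
    ugen R m .c = ugen R m (.cij j i h.symm) * ugen R m (.ci j) +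
      ugen R m (.cij i j h) * ugen R m (.ci i) - ugen R m (.ci i) * ugen R m (.ci j) := by
  have := mk_eq_zero_of_mem R m (p := _)
    (Or.inl (Or.inl (Or.inr ⟨(⟨(i, j), h⟩ : DPair m), rfl⟩)))
  simp only [map_add, map_sub, map_mul] at this
  exact (sub_eq_zero.1 this).symm

lemma rel_cb (i j : Fin m) (h : i ≠ j) :
    ugen R m .cb = ugen R m (.cij j i h.symm) * ugen R m (.cbi i) +
      ugen R m (.cij i j h) * ugen R m (.cbi j) - ugen R m (.cbi i) * ugen R m (.cbi j) := by
  have := mk_eq_zero_of_mem R m (p := _)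
    (Or.inl (Or.inr ⟨(⟨(i, j), h⟩ : DPair m), rfl⟩))
  simp only [map_add, map_sub, map_mul] at this
  exact (sub_eq_zero.1 this).symm

end Rel

section Gen
variable (m : ℕ)

abbrev genSet : Set (URing ℤ m) :=
  {ugen ℤ m .a} ∪ Set.range (fun i : Fin m => ugen ℤ m (.ci i)) ∪
    Set.range (fun i : Fin m => ugen ℤ m (.cbi i)) ∪
    Set.range (fun q : {q : Fin m × Fin m // q.1 < q.2} =>
      ugen ℤ m (.cij q.1.1 q.1.2 (ne_of_lt q.2)))

theorem adjoin_top (hm : 2 ≤ m) : Algebra.adjoin ℤ (genSet m) = ⊤ := by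
  have ha : ugen ℤ m .a ∈ Algebra.adjoin ℤ (genSet m) :=
    Algebra.subset_adjoin (Or.inl (Or.inl (Or.inl rfl)))
  have hci : ∀ i, ugen ℤ m (.ci i) ∈ Algebra.adjoin ℤ (genSet m) := fun i =>
    Algebra.subset_adjoin (Or.inl (Or.inl (Or.inr ⟨i, rfl⟩)))
  have hcbi : ∀ i, ugen ℤ m (.cbi i) ∈ Algebra.adjoin ℤ (genSet m) := fun i =>
    Algebra.subset_adjoin (Or.inl (Or.inr ⟨i, rfl⟩))
  have hlt : ∀ i j (h : i < j), ugen ℤ m (.cij i j (ne_of_lt h)) ∈ Algebra.adjoin ℤ (genSet m) :=
    fun i j h => Algebra.subset_adjoin (Or.inr ⟨⟨(i, j), h⟩, rfl⟩)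
  have hij : ∀ i j (h : i ≠ j), ugen ℤ m (.cij i j h) ∈ Algebra.adjoin ℤ (genSet m) := by
    intro i j h
    rcases lt_or_gt_of_ne h with h1 | h1
    · exact hlt i j h1
    · have e := rel_lin ℤ m i j h
      have : ugen ℤ m (.cij i j h) = ugen ℤ m .a + ugen ℤ m (.ci i) + ugen ℤ m (.cbi i) +
          ugen ℤ m (.ci j) + ugen ℤ m (.cbi j) - ugen ℤ m (.cij j i h.symm) := eq_sub_of_add_eq e
      rw [this]
      exact Subalgebra.sub_mem _ (Subalgebra.add_mem _ (Subalgebra.add_mem _ (Subalgebra.add_mem _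
        (Subalgebra.add_mem _ ha (hci i)) (hcbi i)) (hci j)) (hcbi j)) (hlt j i h1)
  have h01 : (⟨0, by omega⟩ : Fin m) ≠ ⟨1, by omega⟩ := by simp [Fin.ext_iff]
  have hc : ugen ℤ m .c ∈ Algebra.adjoin ℤ (genSet m) := by
    rw [rel_c ℤ m _ _ h01]
    exact Subalgebra.sub_mem _ (Subalgebra.add_mem _ (Subalgebra.mul_mem _ (hij _ _ _) (hci _))
      (Subalgebra.mul_mem _ (hij _ _ _) (hci _))) (Subalgebra.mul_mem _ (hci _) (hci _))
  have hcb : ugen ℤ m .cb ∈ Algebra.adjoin ℤ (genSet m) := by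
    rw [rel_cb ℤ m _ _ h01]
    exact Subalgebra.sub_mem _ (Subalgebra.add_mem _ (Subalgebra.mul_mem _ (hij _ _ _) (hcbi _))
      (Subalgebra.mul_mem _ (hij _ _ _) (hcbi _))) (Subalgebra.mul_mem _ (hcbi _) (hcbi _))
  have hall : ∀ g, ugen ℤ m g ∈ Algebra.adjoin ℤ (genSet m) := by
    intro g
    cases g with
    | a => exact ha
    | c => exact hc
    | cb => exact hcb
    | ci i => exact hci i
    | cbi i => exact hcbi i
    | cij i j h => exact hij i j h
  rw [eq_top_iff]
  rintro x -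
  obtain ⟨p, rfl⟩ := Ideal.Quotient.mk_surjective x
  induction p using MvPolynomial.induction_on with
  | C z => exact Subalgebra.algebraMap_mem _ z
  | add p q hp hq => rw [map_add]; exact Subalgebra.add_mem _ hp hq
  | mul_X p g hp => rw [map_mul]; exact Subalgebra.mul_mem _ hp (hall g)

end Gen

section Cot
variable (k : Type u) [Field k] (m : ℕ)

abbrev B (m : ℕ) : Type := Unit ⊕ (Fin m ⊕ (Fin m ⊕ {q : Fin m × Fin m // q.1 < q.2}))

abbrev V := B m → k

def eA : V k m := Pi.single (Sum.inl ()) 1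
def eC (i : Fin m) : V k m := Pi.single (Sum.inr (Sum.inl i)) 1
def eCb (i : Fin m) : V k m := Pi.single (Sum.inr (Sum.inr (Sum.inl i))) 1
def eP (q : {q : Fin m × Fin m // q.1 < q.2}) : V k m :=
  Pi.single (Sum.inr (Sum.inr (Sum.inr q))) 1

def v : UGen m → V k m
  | .a => eA k m
  | .c => 0
  | .cb => 0
  | .ci i => eC k m i
  | .cbi i => eCb k m i
  | .cij i j h => if hlt : i < j then eP k m ⟨(i, j), hlt⟩ else
      eA k m + eC k m i + eCb k m i + eC k m j + eCb k m j -
        eP k m ⟨(j, i), lt_of_le_of_ne (not_lt.1 hlt) h.symm⟩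

lemma v_lin (i j : Fin m) (h : i ≠ j) :
    v k m (.cij i j h) + v k m (.cij j i h.symm) =
      v k m .a + v k m (.ci i) + v k m (.cbi i) + v k m (.ci j) + v k m (.cbi j) := by
  rcases lt_or_gt_of_ne h with h1 | h1
  · have h2 : ¬ j < i := not_lt.2 h1.le
    simp only [v, dif_pos h1, dif_neg h2]; abel
  · have h2 : ¬ i < j := not_lt.2 h1.le
    simp only [v, dif_pos h1, dif_neg h2]; abel

def Lam : MvPolynomial (UGen m) k →ₐ[k] TrivSqZeroExt k (V k m) :=
  aeval (fun g => TrivSqZeroExt.inr (v k m g))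

lemma Lam_X (g : UGen m) : Lam k m (X g) = TrivSqZeroExt.inr (v k m g) := aeval_X _ _

lemma Lam_rel (p : MvPolynomial (UGen m) k) (hp : p ∈ URel k m) : Lam k m p = 0 := by
  rcases hp with ((⟨q, rfl⟩ | ⟨q, rfl⟩) | ⟨q, rfl⟩) | ⟨q, rfl⟩
  · simp only [map_add, map_sub, Lam_X, ← TrivSqZeroExt.inr_add, ← TrivSqZeroExt.inr_sub]
    rw [v_lin k m q.1.1 q.1.2 q.2, sub_self, TrivSqZeroExt.inr_zero]
  · simp only [map_add, map_sub, map_mul, Lam_X, TrivSqZeroExt.inr_mul_inr]
    simp [v]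
  · simp only [map_add, map_sub, map_mul, Lam_X, TrivSqZeroExt.inr_mul_inr]
    simp [v]
  · simp only [map_add, map_sub, map_mul, Lam_X, ← TrivSqZeroExt.inr_add,
      TrivSqZeroExt.inr_mul_inr]
    simp [v]

def lam : URing k m →ₐ[k] TrivSqZeroExt k (V k m) :=
  Ideal.Quotient.liftₐ (Ideal.span (URel k m)) (Lam k m) (fun p hp => by
    have : Ideal.span (URel k m) ≤ RingHom.ker (Lam k m).toRingHom :=
      Ideal.span_le.2 (fun p hp => Lam_rel k m p hp)
    exact RingHom.mem_ker.1 (this hp))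

lemma lam_ugen (g : UGen m) : lam k m (ugen k m g) = TrivSqZeroExt.inr (v k m g) := by
  unfold lam ugen
  exact Lam_X k m g

lemma lam_fst_of_mem (x : URing k m) (hx : x ∈ uorigin k m) : (lam k m x).fst = 0 := by
  have : uorigin k m ≤ RingHom.ker
      ((TrivSqZeroExt.fstHom k k (V k m)).toRingHom.comp (lam k m).toRingHom) := by
    unfold uorigin
    rw [Ideal.span_le]
    rintro _ ⟨g, rfl⟩
    show (TrivSqZeroExt.fstHom k k (V k m)) (lam k m (ugen k m g)) = 0
    rw [lam_ugen]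
    simp
  exact this hx

def psi0 : (uorigin k m) →ₗ[k] V k m where
  toFun x := (lam k m x.1).snd
  map_add' x y := by simp
  map_smul' c x := by simp

lemma psi0_mul (x y : uorigin k m) : psi0 k m (x * y) = 0 := by
  show (lam k m (x.1 * y.1)).snd = 0
  rw [map_mul, TrivSqZeroExt.snd_mul, lam_fst_of_mem k m x.1 x.2, lam_fst_of_mem k m y.1 y.2]
  simp

def psi : (uorigin k m).Cotangent →ₗ[k] V k m := Ideal.Cotangent.lift (psi0 k m) (psi0_mul k m)

def gen : B m → UGen m :=
  Sum.elim (fun _ => .a) (Sum.elim .ci (Sum.elim .cbi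
    (fun q => .cij q.1.1 q.1.2 (ne_of_lt q.2))))

def ug (g : UGen m) : uorigin k m := ⟨ugen k m g, Ideal.subset_span ⟨g, rfl⟩⟩

def tg (g : UGen m) : (uorigin k m).Cotangent := (uorigin k m).toCotangent (ug k m g)

lemma psi_tg (g : UGen m) : psi k m (tg k m g) = v k m g := by
  unfold psi tg
  rw [Ideal.Cotangent.lift_toCotangent]
  show (lam k m (ugen k m g)).snd = _
  rw [lam_ugen, TrivSqZeroExt.snd_inr]

lemma v_gen (b : B m) : v k m (gen m b) = Pi.single b 1 := by
  rcases b with _ | i | i | q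
  · rfl
  · rfl
  · rfl
  · show v k m (.cij q.1.1 q.1.2 _) = _
    simp only [v, dif_pos q.2]; rfl

def phi : (B m → k) →ₗ[k] (uorigin k m).Cotangent :=
  Fintype.linearCombination k (fun b => tg k m (gen m b))

lemma psi_phi (f : B m → k) : psi k m (phi k m f) = f := by
  unfold phi
  rw [Fintype.linearCombination_apply, map_sum]
  simp only [map_smul, psi_tg, v_gen]
  ext b'
  simp [Finset.sum_apply, Pi.single_apply]

end Cot

section Span
variable (k : Type u) [Field k] (m : ℕ)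

lemma exists_const (a : URing k m) : ∃ c : k, a - algebraMap k (URing k m) c ∈ uorigin k m := by
  obtain ⟨p, rfl⟩ := Ideal.Quotient.mk_surjective a
  induction p using MvPolynomial.induction_on with
  | C z =>
    refine ⟨z, ?_⟩
    rw [show algebraMap k (URing k m) z = Ideal.Quotient.mk _ (C z) from rfl, sub_self]
    exact Ideal.zero_mem _
  | add p q hp hq =>
    obtain ⟨c, hc⟩ := hp
    obtain ⟨d, hd⟩ := hq
    refine ⟨c + d, ?_⟩
    rw [map_add, map_add]
    have := Ideal.add_mem _ hc hd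
    convert this using 1
    ring
  | mul_X p g hp =>
    refine ⟨0, ?_⟩
    rw [map_zero, sub_zero, map_mul]
    exact Ideal.mul_mem_left _ _ (Ideal.subset_span ⟨g, rfl⟩)

/-- the k-span of the classes of all generators -/
def Wsp : Submodule k (uorigin k m).Cotangent := Submodule.span k (Set.range (tg k m))

lemma toCotangent_mem_Wsp (y : URing k m) (hy : y ∈ uorigin k m) :
    (uorigin k m).toCotangent ⟨y, hy⟩ ∈ Wsp k m := by
  unfold uorigin at hy
  induction hy using Submodule.span_induction with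
  | mem y h =>
    obtain ⟨g, rfl⟩ := h
    exact Submodule.subset_span ⟨g, rfl⟩
  | zero => exact (Wsp k m).zero_mem
  | add y z hy hz ihy ihz =>
    have : (⟨y + z, Ideal.add_mem _ hy hz⟩ : uorigin k m) = ⟨y, hy⟩ + ⟨z, hz⟩ := rfl
    rw [this, map_add]
    exact (Wsp k m).add_mem ihy ihz
  | smul a y hy ihy =>
    obtain ⟨c, hc⟩ := exists_const k m a
    have h1 : (uorigin k m).toCotangent ⟨a • y, Ideal.mul_mem_left _ a hy⟩ =
        (uorigin k m).toCotangent (c • (⟨y, hy⟩ : uorigin k m)) := by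
      rw [Ideal.toCotangent_eq]
      show a • y - c • y ∈ _
      have : a • y - c • y = (a - algebraMap k (URing k m) c) * y := by
        have e1 : c • y = algebraMap k (URing k m) c * y := Algebra.smul_def c y
        rw [sub_mul, smul_eq_mul, e1]
      rw [this, pow_two]
      exact Ideal.mul_mem_mul hc hy
    have h3 : (uorigin k m).toCotangent (c • (⟨y, hy⟩ : uorigin k m)) =
        c • (uorigin k m).toCotangent ⟨y, hy⟩ := rfl
    rw [h1, h3]
    exact (Wsp k m).smul_mem c ihy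

lemma tg_add (x y : uorigin k m) :
    (uorigin k m).toCotangent (x + y) = (uorigin k m).toCotangent x + (uorigin k m).toCotangent y :=
  map_add _ _ _

lemma tg_lin (i j : Fin m) (h : i ≠ j) :
    tg k m (.cij i j h) = tg k m .a + tg k m (.ci i) + tg k m (.cbi i) + tg k m (.ci j) +
      tg k m (.cbi j) - tg k m (.cij j i h.symm) := by
  have e : ug k m (.cij i j h) + ug k m (.cij j i h.symm) =
      ug k m .a + ug k m (.ci i) + ug k m (.cbi i) + ug k m (.ci j) + ug k m (.cbi j) :=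
    Subtype.ext (rel_lin k m i j h)
  have e2 := congrArg (uorigin k m).toCotangent e
  simp only [map_add] at e2
  exact eq_sub_of_add_eq e2

lemma sq_mem (x y : URing k m) (hx : x ∈ uorigin k m) (hy : y ∈ uorigin k m) :
    x * y ∈ (uorigin k m) ^ 2 := by
  rw [pow_two]; exact Ideal.mul_mem_mul hx hy

lemma ugen_mem (g : UGen m) : ugen k m g ∈ uorigin k m := Ideal.subset_span ⟨g, rfl⟩

lemma tg_c (hm : 2 ≤ m) : tg k m .c = 0 := by
  have h01 : (⟨0, by omega⟩ : Fin m) ≠ ⟨1, by omega⟩ := by simp [Fin.ext_iff]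
  unfold tg
  rw [Ideal.toCotangent_eq_zero]
  show ugen k m .c ∈ _
  rw [rel_c k m _ _ h01]
  exact Ideal.sub_mem _ (Ideal.add_mem _ (sq_mem k m _ _ (ugen_mem k m _) (ugen_mem k m _))
    (sq_mem k m _ _ (ugen_mem k m _) (ugen_mem k m _)))
    (sq_mem k m _ _ (ugen_mem k m _) (ugen_mem k m _))

lemma tg_cb (hm : 2 ≤ m) : tg k m .cb = 0 := by
  have h01 : (⟨0, by omega⟩ : Fin m) ≠ ⟨1, by omega⟩ := by simp [Fin.ext_iff]
  unfold tg
  rw [Ideal.toCotangent_eq_zero]
  show ugen k m .cb ∈ _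
  rw [rel_cb k m _ _ h01]
  exact Ideal.sub_mem _ (Ideal.add_mem _ (sq_mem k m _ _ (ugen_mem k m _) (ugen_mem k m _))
    (sq_mem k m _ _ (ugen_mem k m _) (ugen_mem k m _)))
    (sq_mem k m _ _ (ugen_mem k m _) (ugen_mem k m _))

/-- the k-span of the basis classes -/
def Wb : Submodule k (uorigin k m).Cotangent :=
  Submodule.span k (Set.range (fun b => tg k m (gen m b)))

lemma tg_mem_Wb (hm : 2 ≤ m) (g : UGen m) : tg k m g ∈ Wb k m := by
  have hA : tg k m .a ∈ Wb k m := Submodule.subset_span ⟨Sum.inl (), rfl⟩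
  have hC : ∀ i, tg k m (.ci i) ∈ Wb k m := fun i =>
    Submodule.subset_span ⟨Sum.inr (Sum.inl i), rfl⟩
  have hCb : ∀ i, tg k m (.cbi i) ∈ Wb k m := fun i =>
    Submodule.subset_span ⟨Sum.inr (Sum.inr (Sum.inl i)), rfl⟩
  have hP : ∀ i j (h : i < j), tg k m (.cij i j (ne_of_lt h)) ∈ Wb k m := fun i j h =>
    Submodule.subset_span ⟨Sum.inr (Sum.inr (Sum.inr ⟨(i, j), h⟩)), rfl⟩
  cases g with
  | a => exact hA
  | c => rw [tg_c k m hm]; exact (Wb k m).zero_mem
  | cb => rw [tg_cb k m hm]; exact (Wb k m).zero_mem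
  | ci i => exact hC i
  | cbi i => exact hCb i
  | cij i j h =>
    rcases lt_or_gt_of_ne h with h1 | h1
    · exact hP i j h1
    · rw [tg_lin k m i j h]
      exact (Wb k m).sub_mem ((Wb k m).add_mem ((Wb k m).add_mem ((Wb k m).add_mem
        ((Wb k m).add_mem hA (hC i)) (hCb i)) (hC j)) (hCb j)) (hP j i h1)

lemma Wb_eq_top (hm : 2 ≤ m) : Wb k m = ⊤ := by
  rw [eq_top_iff]
  rintro x -
  obtain ⟨⟨y, hy⟩, rfl⟩ := (uorigin k m).toCotangent_surjective x
  have h1 := toCotangent_mem_Wsp k m y hy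
  have h2 : Wsp k m ≤ Wb k m := Submodule.span_le.2 (by
    rintro _ ⟨g, rfl⟩
    exact tg_mem_Wb k m hm g)
  exact h2 h1

lemma card_pairs : Fintype.card {q : Fin m × Fin m // q.1 < q.2} * 2 = m * (m - 1) := by
  let e : {q : Fin m × Fin m // q.1 < q.2} ≃ Σ j : Fin m, Fin (j : ℕ) :=
    { toFun := fun q => ⟨q.1.2, ⟨q.1.1, q.2⟩⟩
      invFun := fun x => ⟨(⟨x.2, lt_trans x.2.2 x.1.2⟩, x.1), x.2.2⟩
      left_inv := fun q => rfl
      right_inv := fun x => rfl }
  rw [Fintype.card_congr e, Fintype.card_sigma]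
  simp only [Fintype.card_fin]
  rw [Fin.sum_univ_eq_sum_range (fun j => j) m, Finset.sum_range_id_mul_two]

lemma card_B : Fintype.card (B m) = (m + 2) * (m + 1) / 2 := by
  have h := card_pairs m
  simp only [B, Fintype.card_sum, Fintype.card_unit, Fintype.card_fin]
  symm
  apply Nat.div_eq_of_eq_mul_left (by norm_num)
  rcases m with _ | n
  · simp at h ⊢
  · simp only [Nat.add_sub_cancel] at h
    nlinarith [h]

theorem finrank_cot (hm : 2 ≤ m) :
    Module.finrank k (uorigin k m).Cotangent = (m + 2) * (m + 1) / 2 := by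
  have hsurj : Function.Surjective (phi k m) := by
    rw [← LinearMap.range_eq_top, phi, Fintype.range_linearCombination]
    exact Wb_eq_top k m hm
  have hinj : Function.Injective (phi k m) :=
    Function.LeftInverse.injective (psi_phi k m)
  have e := LinearEquiv.ofBijective (phi k m) ⟨hinj, hsurj⟩
  rw [← e.finrank_eq, Module.finrank_fintype_fun_eq_card, card_B]

end Span

end Groth.Agent.H4.UCot
end
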