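import Mathlib
import Groth.Prelude.Def_W4c5m1nsnscurvesC
import Groth.Prelude.Def_W4c5m1nsnscurvesI
import Groth.Agent.H4.UCot

set_option autoImplicit false
universe u
open W4c5m1nsnscurves MvPolynomial
open Groth.Agent.H4.UCot

noncomputable section
namespace Groth.Agent.H4.CuA

variable (R : Type u) [CommRing R] (m : ℕ)

lemma rel_t (i j k : Fin m) (hij : i ≠ j) (hjk : j ≠ k) (hik : i ≠ k) :
    ugen R m (.cij i j hij) * ugen R m (.cij j k hjk) +
      ugen R m (.cij j i hij.symm) * ugen R m (.cij i k hik) -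
      ugen R m (.cij i k hik) * ugen R m (.cij j k hjk) +
      (ugen R m .a + ugen R m (.ci k) + ugen R m (.cbi k)) * ugen R m (.ci k) = ugen R m .c := by
  have := mk_eq_zero_of_mem R m (p := _)
    (Or.inr ⟨(⟨(i, j, k), ⟨hij, hjk, hik⟩⟩ : DTriple m), rfl⟩)
  simp only [map_add, map_sub, map_mul] at this
  exact sub_eq_zero.1 this

lemma uincl_ugen (g : UGen m) : uincl R m (ugen R m g) = ugen R (m + 1) (UGen.castSucc g) := by
  simp [uincl, ugen, Ideal.Quotient.liftₐ_apply, rename_X]

/-- values of the variables under the forward map -/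
def wfun : CVar m → URing R (m + 1)
  | .x2 => ugen R (m + 1) (.ci (Fin.last m))
  | .x3 => ugen R (m + 1) .a + ugen R (m + 1) (.ci (Fin.last m)) + ugen R (m + 1) (.cbi (Fin.last m))
  | .xi i => ugen R (m + 1) (.cij i.castSucc (Fin.last m) (Fin.castSucc_lt_last i).ne)

def phi0 : MvPolynomial (CVar m) (URing R m) →+* URing R (m + 1) :=
  eval₂Hom (uincl R m : URing R m →+* URing R (m + 1)) (wfun R m)

lemma phi0_rel (p : MvPolynomial (CVar m) (URing R m))
    (hp : p ∈ Ideal.span (CRel (URing R m) m (ugen R m))) : phi0 R m p = 0 := by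
  have hle : Ideal.span (CRel (URing R m) m (ugen R m)) ≤ RingHom.ker (phi0 R m) := by
    rw [Ideal.span_le]
    intro p hp
    rw [SetLike.mem_coe, RingHom.mem_ker]
    rcases hp with (⟨i, rfl⟩ | ⟨i, rfl⟩) | ⟨q, rfl⟩
    · simp only [phi0, map_sub, map_add, map_mul, eval₂Hom_X', eval₂Hom_C, wfun, RingHom.coe_coe,
        uincl_ugen, UGen.castSucc]
      have hne : i.castSucc ≠ Fin.last m := (Fin.castSucc_lt_last i).ne
      have hL := rel_lin R (m + 1) i.castSucc (Fin.last m) hne
      have hQ := rel_c R (m + 1) i.castSucc (Fin.last m) hne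
      linear_combination (ugen R (m + 1) (.ci (Fin.last m))) * hL + hQ
    · simp only [phi0, map_sub, map_add, map_mul, eval₂Hom_X', eval₂Hom_C, wfun, RingHom.coe_coe,
        uincl_ugen, UGen.castSucc]
      have hne : i.castSucc ≠ Fin.last m := (Fin.castSucc_lt_last i).ne
      have hL := rel_lin R (m + 1) i.castSucc (Fin.last m) hne
      have hQ := rel_c R (m + 1) i.castSucc (Fin.last m) hne
      have hB := rel_cb R (m + 1) i.castSucc (Fin.last m) hne
      linear_combination -hB + hQ +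
        (ugen R (m + 1) (.ci (Fin.last m)) - ugen R (m + 1) (.cbi i.castSucc)) * hL
    · obtain ⟨⟨i, j⟩, hij⟩ := q
      simp only [phi0, map_sub, map_add, map_mul, eval₂Hom_X', eval₂Hom_C, wfun, RingHom.coe_coe,
        uincl_ugen, UGen.castSucc]
      have hT := rel_t R (m + 1) i.castSucc j.castSucc (Fin.last m)
        (fun e => hij (Fin.castSucc_injective _ e)) (Fin.castSucc_lt_last j).ne
        (Fin.castSucc_lt_last i).ne
      linear_combination -hT
  exact hle hp

def phi : CurveAlg (URing R m) m (ugen R m) →+* URing R (m + 1) :=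
  Ideal.Quotient.lift _ (phi0 R m) (phi0_rel R m)


section Psi

local notation "𝓘" => Ideal.span (CRel (URing R m) m (ugen R m))

abbrev CA : Type u := CurveAlg (URing R m) m (ugen R m)

def al : URing R m →+* CA R m := (Ideal.Quotient.mk 𝓘).comp C
def x2 : CA R m := Ideal.Quotient.mk 𝓘 (X CVar.x2)
def x3 : CA R m := Ideal.Quotient.mk 𝓘 (X CVar.x3)
def xi (i : Fin m) : CA R m := Ideal.Quotient.mk 𝓘 (X (CVar.xi i))

local notation "α" => al R m
local notation "υ" => ugen R m
local notation "ξ2" => x2 R m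
local notation "ξ3" => x3 R m
local notation "ξ" => xi R m

lemma mkC_eq_zero {p : MvPolynomial (CVar m) (URing R m)}
    (hp : p ∈ CRel (URing R m) m (ugen R m)) : Ideal.Quotient.mk 𝓘 p = 0 :=
  Ideal.Quotient.eq_zero_iff_mem.2 (Ideal.subset_span hp)

lemma cr1 (i : Fin m) :
    ξ2 * ξ i = ξ2 * ξ3 + α (υ (.ci i)) * ξ i + α (υ (.cbi i)) * ξ2 - α (υ .c) := by
  have h := mkC_eq_zero R m (p := _) (Or.inl (Or.inl ⟨i, rfl⟩))
  simp only [map_sub, map_add, map_mul] at h
  exact sub_eq_zero.1 h

lemma cr2 (i : Fin m) :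
    ξ3 * ξ i = ξ2 * ξ3 + (α (υ .a) + α (υ (.ci i)) + α (υ (.cbi i))) * (ξ i - α (υ (.cbi i))) +
      α (υ .cb) - α (υ .c) := by
  have h := mkC_eq_zero R m (p := _) (Or.inl (Or.inr ⟨i, rfl⟩))
  simp only [map_sub, map_add, map_mul] at h
  exact sub_eq_zero.1 h

lemma cr3 (i j : Fin m) (h : i ≠ j) :
    ξ i * ξ j = ξ2 * ξ3 + α (υ (.cij i j h)) * ξ j + α (υ (.cij j i h.symm)) * ξ i - α (υ .c) := by
  have h := mkC_eq_zero R m (p := _) (Or.inr ⟨(⟨(i, j), h⟩ : DPair m), rfl⟩)
  simp only [map_sub, map_add, map_mul] at h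
  exact sub_eq_zero.1 h

lemma al_lin (i j : Fin m) (h : i ≠ j) :
    α (υ (.cij i j h)) + α (υ (.cij j i h.symm)) =
      α (υ .a) + α (υ (.ci i)) + α (υ (.cbi i)) + α (υ (.ci j)) + α (υ (.cbi j)) := by
  have := congrArg (al R m) (rel_lin R m i j h)
  simpa only [map_add] using this

lemma al_c (i j : Fin m) (h : i ≠ j) :
    α (υ .c) = α (υ (.cij j i h.symm)) * α (υ (.ci j)) + α (υ (.cij i j h)) * α (υ (.ci i)) -
      α (υ (.ci i)) * α (υ (.ci j)) := by
  have := congrArg (al R m) (rel_c R m i j h)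
  simpa only [map_add, map_sub, map_mul] using this

lemma al_cb (i j : Fin m) (h : i ≠ j) :
    α (υ .cb) = α (υ (.cij j i h.symm)) * α (υ (.cbi i)) + α (υ (.cij i j h)) * α (υ (.cbi j)) -
      α (υ (.cbi i)) * α (υ (.cbi j)) := by
  have := congrArg (al R m) (rel_cb R m i j h)
  simpa only [map_add, map_sub, map_mul] using this

lemma al_t (i j k : Fin m) (hij : i ≠ j) (hjk : j ≠ k) (hik : i ≠ k) :
    α (υ (.cij i j hij)) * α (υ (.cij j k hjk)) +
      α (υ (.cij j i hij.symm)) * α (υ (.cij i k hik)) -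
      α (υ (.cij i k hik)) * α (υ (.cij j k hjk)) +
      (α (υ .a) + α (υ (.ci k)) + α (υ (.cbi k))) * α (υ (.ci k)) = α (υ .c) := by
  have := congrArg (al R m) (rel_t R m i j k hij hjk hik)
  simpa only [map_add, map_sub, map_mul] using this

/-- the value of `c_{ij}` under the backward map -/
def tC (i j : Fin (m + 1)) : CA R m :=
  Fin.lastCases
    (Fin.lastCases 0 (fun j' => α (υ (.ci j')) + α (υ (.cbi j')) + ξ3 - ξ j') j)
    (fun i' => Fin.lastCases (ξ i')
      (fun j' => if h : i' = j' then 0 else α (υ (.cij i' j' h))) j) i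

lemma tC_last_cs (j : Fin m) :
    tC R m (Fin.last m) j.castSucc = α (υ (.ci j)) + α (υ (.cbi j)) + ξ3 - ξ j := by
  simp only [tC, Fin.lastCases_last, Fin.lastCases_castSucc]

lemma tC_cs_last (i : Fin m) : tC R m i.castSucc (Fin.last m) = ξ i := by
  simp only [tC, Fin.lastCases_last, Fin.lastCases_castSucc]

lemma tC_cs_cs (i j : Fin m) (h : i ≠ j) :
    tC R m i.castSucc j.castSucc = α (υ (.cij i j h)) := by
  simp only [tC, Fin.lastCases_castSucc, dif_neg h]

/-- values of the generators under the backward map -/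
def tfun : UGen (m + 1) → CA R m
  | .a => α (υ .a)
  | .c => α (υ .c)
  | .cb => α (υ .cb)
  | .ci i => Fin.lastCases ξ2 (fun i' => α (υ (.ci i'))) i
  | .cbi i => Fin.lastCases (ξ3 - α (υ .a) - ξ2) (fun i' => α (υ (.cbi i'))) i
  | .cij i j _ => tC R m i j

lemma psi_L (i j : Fin (m + 1)) (h : i ≠ j) :
    tfun R m (.cij i j h) + tfun R m (.cij j i h.symm) -
      (tfun R m .a + tfun R m (.ci i) + tfun R m (.cbi i) + tfun R m (.ci j) +
        tfun R m (.cbi j)) = 0 := by
  rcases Fin.eq_castSucc_or_eq_last i with ⟨i', rfl⟩ | rfl <;>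
  rcases Fin.eq_castSucc_or_eq_last j with ⟨j', rfl⟩ | rfl
  · have h' : i' ≠ j' := fun e => h (by rw [e])
    simp only [tfun, tC_cs_cs R m _ _ h', tC_cs_cs R m _ _ h'.symm, Fin.lastCases_castSucc]
    linear_combination al_lin R m i' j' h'
  · simp only [tfun, tC_cs_last, tC_last_cs, Fin.lastCases_castSucc, Fin.lastCases_last]
    ring
  · simp only [tfun, tC_cs_last, tC_last_cs, Fin.lastCases_castSucc, Fin.lastCases_last]
    ring
  · exact absurd rfl h

lemma psi_Qc (i j : Fin (m + 1)) (h : i ≠ j) :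
    tfun R m (.cij j i h.symm) * tfun R m (.ci j) + tfun R m (.cij i j h) * tfun R m (.ci i) -
      tfun R m (.ci i) * tfun R m (.ci j) - tfun R m .c = 0 := by
  rcases Fin.eq_castSucc_or_eq_last i with ⟨i', rfl⟩ | rfl <;>
  rcases Fin.eq_castSucc_or_eq_last j with ⟨j', rfl⟩ | rfl
  · have h' : i' ≠ j' := fun e => h (by rw [e])
    simp only [tfun, tC_cs_cs R m _ _ h', tC_cs_cs R m _ _ h'.symm, Fin.lastCases_castSucc]
    linear_combination -(al_c R m i' j' h')
  · simp only [tfun, tC_cs_last, tC_last_cs, Fin.lastCases_castSucc, Fin.lastCases_last]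
    linear_combination -(cr1 R m i')
  · simp only [tfun, tC_cs_last, tC_last_cs, Fin.lastCases_castSucc, Fin.lastCases_last]
    linear_combination -(cr1 R m j')
  · exact absurd rfl h

lemma psi_Qb (i j : Fin (m + 1)) (h : i ≠ j) :
    tfun R m (.cij j i h.symm) * tfun R m (.cbi i) + tfun R m (.cij i j h) * tfun R m (.cbi j) -
      tfun R m (.cbi i) * tfun R m (.cbi j) - tfun R m .cb = 0 := by
  rcases Fin.eq_castSucc_or_eq_last i with ⟨i', rfl⟩ | rfl <;>
  rcases Fin.eq_castSucc_or_eq_last j with ⟨j', rfl⟩ | rfl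
  · have h' : i' ≠ j' := fun e => h (by rw [e])
    simp only [tfun, tC_cs_cs R m _ _ h', tC_cs_cs R m _ _ h'.symm, Fin.lastCases_castSucc]
    linear_combination -(al_cb R m i' j' h')
  · simp only [tfun, tC_cs_last, tC_last_cs, Fin.lastCases_castSucc, Fin.lastCases_last]
    linear_combination cr2 R m i' - cr1 R m i'
  · simp only [tfun, tC_cs_last, tC_last_cs, Fin.lastCases_castSucc, Fin.lastCases_last]
    linear_combination cr2 R m j' - cr1 R m j'
  · exact absurd rfl h

lemma psi_T (i j k : Fin (m + 1)) (hij : i ≠ j) (hjk : j ≠ k) (hik : i ≠ k) :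
    tfun R m (.cij i j hij) * tfun R m (.cij j k hjk) +
      tfun R m (.cij j i hij.symm) * tfun R m (.cij i k hik) -
      tfun R m (.cij i k hik) * tfun R m (.cij j k hjk) +
      (tfun R m .a + tfun R m (.ci k) + tfun R m (.cbi k)) * tfun R m (.ci k) -
      tfun R m .c = 0 := by
  rcases Fin.eq_castSucc_or_eq_last i with ⟨i', rfl⟩ | rfl <;>
  rcases Fin.eq_castSucc_or_eq_last j with ⟨j', rfl⟩ | rfl <;>
  rcases Fin.eq_castSucc_or_eq_last k with ⟨k', rfl⟩ | rfl
  · -- c c c
    have hij' : i' ≠ j' := fun e => hij (by rw [e])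
    have hjk' : j' ≠ k' := fun e => hjk (by rw [e])
    have hik' : i' ≠ k' := fun e => hik (by rw [e])
    simp only [tfun, tC_cs_cs R m _ _ hij', tC_cs_cs R m _ _ hij'.symm, tC_cs_cs R m _ _ hjk',
      tC_cs_cs R m _ _ hik', Fin.lastCases_castSucc]
    linear_combination al_t R m i' j' k' hij' hjk' hik'
  · -- c c l
    have hij' : i' ≠ j' := fun e => hij (by rw [e])
    simp only [tfun, tC_cs_cs R m _ _ hij', tC_cs_cs R m _ _ hij'.symm, tC_cs_last, tC_last_cs,
      Fin.lastCases_castSucc, Fin.lastCases_last]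
    linear_combination -(cr3 R m i' j' hij')
  · -- c l c
    have hik' : i' ≠ k' := fun e => hik (by rw [e])
    simp only [tfun, tC_cs_cs R m _ _ hik', tC_cs_last, tC_last_cs,
      Fin.lastCases_castSucc, Fin.lastCases_last]
    linear_combination cr2 R m i' - cr3 R m i' k' hik' - ξ i' * al_lin R m i' k' hik' +
      al_cb R m i' k' hik' - al_c R m i' k' hik' +
      (α (υ (.cbi i')) - α (υ (.ci k'))) * al_lin R m i' k' hik'
  · exact absurd rfl hjk
  · -- l c c
    have hjk' : j' ≠ k' := fun e => hjk (by rw [e])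
    simp only [tfun, tC_cs_cs R m _ _ hjk', tC_cs_last, tC_last_cs,
      Fin.lastCases_castSucc, Fin.lastCases_last]
    linear_combination cr2 R m j' - cr3 R m j' k' hjk' - ξ j' * al_lin R m j' k' hjk' +
      al_cb R m j' k' hjk' - al_c R m j' k' hjk' +
      (α (υ (.cbi j')) - α (υ (.ci k'))) * al_lin R m j' k' hjk'
  · exact absurd rfl hik
  · exact absurd rfl hij
  · exact absurd rfl hij

def psi0 : MvPolynomial (UGen (m + 1)) R →+* CA R m :=
  eval₂Hom ((al R m).comp (algebraMap R (URing R m))) (tfun R m)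

lemma psi0_rel (p : MvPolynomial (UGen (m + 1)) R)
    (hp : p ∈ Ideal.span (URel R (m + 1))) : psi0 R m p = 0 := by
  have hle : Ideal.span (URel R (m + 1)) ≤ RingHom.ker (psi0 R m) := by
    rw [Ideal.span_le]
    intro p hp
    rw [SetLike.mem_coe, RingHom.mem_ker]
    rcases hp with ((⟨q, rfl⟩ | ⟨q, rfl⟩) | ⟨q, rfl⟩) | ⟨q, rfl⟩
    · obtain ⟨⟨i, j⟩, h⟩ := q
      simp only [psi0, map_sub, map_add, map_mul, eval₂Hom_X']
      exact psi_L R m i j h
    · obtain ⟨⟨i, j⟩, h⟩ := q
      simp only [psi0, map_sub, map_add, map_mul, eval₂Hom_X']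
      exact psi_Qc R m i j h
    · obtain ⟨⟨i, j⟩, h⟩ := q
      simp only [psi0, map_sub, map_add, map_mul, eval₂Hom_X']
      exact psi_Qb R m i j h
    · obtain ⟨⟨i, j, k⟩, hij, hjk, hik⟩ := q
      simp only [psi0, map_sub, map_add, map_mul, eval₂Hom_X']
      exact psi_T R m i j k hij hjk hik
  exact hle hp

def psi : URing R (m + 1) →+* CA R m :=
  Ideal.Quotient.lift _ (psi0 R m) (psi0_rel R m)

lemma psi_ugen (g : UGen (m + 1)) : psi R m (ugen R (m + 1) g) = tfun R m g := by
  show psi R m (Ideal.Quotient.mk _ (X g)) = _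
  rw [psi, Ideal.Quotient.lift_mk, psi0, eval₂Hom_X']

lemma phi_mk (p : MvPolynomial (CVar m) (URing R m)) :
    phi R m (Ideal.Quotient.mk _ p) = phi0 R m p := Ideal.Quotient.lift_mk _ _ _

lemma phi_al (b : URing R m) : phi R m (al R m b) = uincl R m b := by
  show phi R m (Ideal.Quotient.mk _ (C b)) = _
  rw [phi_mk, phi0, eval₂Hom_C]
  rfl

lemma phi_x2 : phi R m (x2 R m) = ugen R (m + 1) (.ci (Fin.last m)) := by
  show phi R m (Ideal.Quotient.mk _ (X CVar.x2)) = _
  rw [phi_mk, phi0, eval₂Hom_X']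
  rfl

lemma phi_x3 : phi R m (x3 R m) =
    ugen R (m + 1) .a + ugen R (m + 1) (.ci (Fin.last m)) + ugen R (m + 1) (.cbi (Fin.last m)) := by
  show phi R m (Ideal.Quotient.mk _ (X CVar.x3)) = _
  rw [phi_mk, phi0, eval₂Hom_X']
  rfl

lemma phi_xi (i : Fin m) : phi R m (xi R m i) =
    ugen R (m + 1) (.cij i.castSucc (Fin.last m) (Fin.castSucc_lt_last i).ne) := by
  show phi R m (Ideal.Quotient.mk _ (X (CVar.xi i))) = _
  rw [phi_mk, phi0, eval₂Hom_X']
  rfl

lemma tfun_castSucc (g : UGen m) : tfun R m (UGen.castSucc g) = al R m (ugen R m g) := by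
  cases g with
  | a => rfl
  | c => rfl
  | cb => rfl
  | ci i => simp only [UGen.castSucc, tfun, Fin.lastCases_castSucc]
  | cbi i => simp only [UGen.castSucc, tfun, Fin.lastCases_castSucc]
  | cij i j h => simp only [UGen.castSucc, tfun, tC_cs_cs R m i j h]

lemma psi_uincl (b : URing R m) : psi R m (uincl R m b) = al R m b := by
  have key : (psi R m).comp (uincl R m : URing R m →+* URing R (m + 1)) = al R m := by
    apply Ideal.Quotient.ringHom_ext
    apply MvPolynomial.ringHom_ext
    · intro r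
      show psi R m (uincl R m (algebraMap R (URing R m) r)) = al R m (algebraMap R (URing R m) r)
      rw [AlgHom.commutes]
      show psi R m (Ideal.Quotient.mk _ (C r)) = _
      rw [psi, Ideal.Quotient.lift_mk, psi0, eval₂Hom_C]
      rfl
    · intro g
      show psi R m (uincl R m (ugen R m g)) = al R m (ugen R m g)
      rw [uincl_ugen, psi_ugen, tfun_castSucc]
  exact DFunLike.congr_fun key b

lemma psi_phi : (psi R m).comp (phi R m) = RingHom.id _ := by
  apply Ideal.Quotient.ringHom_ext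
  apply MvPolynomial.ringHom_ext
  · intro b
    show psi R m (phi R m (al R m b)) = al R m b
    rw [phi_al, psi_uincl]
  · intro v
    cases v with
    | x2 =>
      show psi R m (phi R m (x2 R m)) = x2 R m
      rw [phi_x2, psi_ugen]
      simp only [tfun, Fin.lastCases_last]
    | x3 =>
      show psi R m (phi R m (x3 R m)) = x3 R m
      rw [phi_x3, map_add, map_add, psi_ugen, psi_ugen, psi_ugen]
      simp only [tfun, Fin.lastCases_last]
      ring
    | xi i =>
      show psi R m (phi R m (xi R m i)) = xi R m i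
      rw [phi_xi, psi_ugen]
      simp only [tfun, tC_cs_last]

lemma phi_tfun (g : UGen (m + 1)) : phi R m (tfun R m g) = ugen R (m + 1) g := by
  cases g with
  | a =>
    show phi R m (al R m (ugen R m .a)) = _
    rw [phi_al, uincl_ugen]; rfl
  | c =>
    show phi R m (al R m (ugen R m .c)) = _
    rw [phi_al, uincl_ugen]; rfl
  | cb =>
    show phi R m (al R m (ugen R m .cb)) = _
    rw [phi_al, uincl_ugen]; rfl
  | ci i =>
    rcases Fin.eq_castSucc_or_eq_last i with ⟨i', rfl⟩ | rfl
    · simp only [tfun, Fin.lastCases_castSucc]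
      rw [phi_al, uincl_ugen]; rfl
    · simp only [tfun, Fin.lastCases_last]
      exact phi_x2 R m
  | cbi i =>
    rcases Fin.eq_castSucc_or_eq_last i with ⟨i', rfl⟩ | rfl
    · simp only [tfun, Fin.lastCases_castSucc]
      rw [phi_al, uincl_ugen]; rfl
    · simp only [tfun, Fin.lastCases_last]
      rw [map_sub, map_sub, phi_x3, phi_al, uincl_ugen, phi_x2]
      simp only [UGen.castSucc]
      ring
  | cij i j h =>
    rcases Fin.eq_castSucc_or_eq_last i with ⟨i', rfl⟩ | rfl <;>
    rcases Fin.eq_castSucc_or_eq_last j with ⟨j', rfl⟩ | rfl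
    · have h' : i' ≠ j' := fun e => h (by rw [e])
      simp only [tfun, tC_cs_cs R m i' j' h']
      rw [phi_al, uincl_ugen]; rfl
    · simp only [tfun, tC_cs_last]
      exact phi_xi R m i'
    · simp only [tfun, tC_last_cs]
      rw [map_sub, map_add, map_add, phi_al, phi_al, phi_x3, phi_xi, uincl_ugen, uincl_ugen]
      simp only [UGen.castSucc]
      have := rel_lin R (m + 1) j'.castSucc (Fin.last m) (Fin.castSucc_lt_last j').ne
      linear_combination -this
    · exact absurd rfl h

lemma phi_psi : (phi R m).comp (psi R m) = RingHom.id _ := by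
  apply Ideal.Quotient.ringHom_ext
  apply MvPolynomial.ringHom_ext
  · intro r
    show phi R m (psi R m (Ideal.Quotient.mk _ (C r))) = Ideal.Quotient.mk _ (C r)
    rw [psi, Ideal.Quotient.lift_mk, psi0, eval₂Hom_C, RingHom.comp_apply, phi_al]
    exact (uincl R m).commutes r
  · intro g
    show phi R m (psi R m (ugen R (m + 1) g)) = ugen R (m + 1) g
    rw [psi_ugen, phi_tfun]

theorem main :
    ∃ e : CurveAlg (URing R m) m (ugen R m) ≃+* URing R (m + 1),
      (∀ r : URing R m, e (algebraMap (URing R m) (CurveAlg (URing R m) m (ugen R m)) r) = uincl R m r) ∧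
      e (Ideal.Quotient.mk (Ideal.span (CRel (URing R m) m (ugen R m))) (MvPolynomial.X CVar.x2)) =
        ugen R (m + 1) (UGen.ci (Fin.last m)) ∧
      e (Ideal.Quotient.mk (Ideal.span (CRel (URing R m) m (ugen R m))) (MvPolynomial.X CVar.x3)) =
        ugen R (m + 1) UGen.a + ugen R (m + 1) (UGen.ci (Fin.last m)) + ugen R (m + 1) (UGen.cbi (Fin.last m)) ∧
      ∀ i : Fin m, e (Ideal.Quotient.mk (Ideal.span (CRel (URing R m) m (ugen R m))) (MvPolynomial.X (CVar.xi i))) =
        ugen R (m + 1) (UGen.cij i.castSucc (Fin.last m) (Fin.castSucc_lt_last i).ne) := by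
  refine ⟨RingEquiv.ofRingHom (phi R m) (psi R m) (phi_psi R m) (psi_phi R m), ?_, ?_, ?_, ?_⟩
  · intro r
    exact phi_al R m r
  · exact phi_x2 R m
  · exact phi_x3 R m
  · intro i
    exact phi_xi R m i

end Psi

end Groth.Agent.H4.CuA
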