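import Mathlib
import Groth.Agent.H4.DComp4

/-!
# Power series action on a module which is derived complete along one element
-/

set_option autoImplicit false
universe u

namespace Groth.Agent.H4.DCF1

open Groth.Agent.H4.DComp PowerSeries

variable {A : Type u} [CommRing A] (f : A) {M : Type u} [AddCommGroup M] [Module A M]
  (hf : Function.Bijective (Psi f M))

/-- the solution operator of `z_k - f z_{k+1} = c_k`. -/
noncomputable def Zl : (ℕ → M) →ₗ[A] (ℕ → M) :=
  (LinearEquiv.ofBijective (Psi f M) hf).symm.toLinearMap

lemma Zl_spec (c : ℕ → M) (k : ℕ) : Zl f hf c k - f • Zl f hf c (k + 1) = c k := by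
  have h := (LinearEquiv.ofBijective (Psi f M) hf).apply_symm_apply c
  exact congrFun h k

lemma Zl_unique (c z : ℕ → M) (hz : ∀ k, z k - f • z (k + 1) = c k) : Zl f hf c = z := by
  have h : Psi f M z = c := funext hz
  subst h
  exact (LinearEquiv.ofBijective (Psi f M) hf).symm_apply_apply z

/-- the action of power series: `P • m = ∑ P_k f^k m`. -/
noncomputable def act (P : A⟦X⟧) (m : M) : M := Zl f hf (fun k => coeff k P • m) 0

lemma act_add_left (P Q : A⟦X⟧) (m : M) :
    act f hf (P + Q) m = act f hf P m + act f hf Q m := by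
  unfold act
  have : (fun k => coeff k (P + Q) • m) = (fun k => coeff k P • m) + (fun k => coeff k Q • m) := by
    funext k; simp [add_smul]
  rw [this, map_add]; rfl

lemma act_add_right (P : A⟦X⟧) (m m' : M) :
    act f hf P (m + m') = act f hf P m + act f hf P m' := by
  unfold act
  have : (fun k => coeff k P • (m + m')) = (fun k => coeff k P • m) + (fun k => coeff k P • m') := by
    funext k; simp [smul_add]
  rw [this, map_add]; rfl

lemma act_zero_left (m : M) : act f hf 0 m = 0 := by
  unfold act
  have : (fun k => coeff k (0 : A⟦X⟧) • m) = 0 := by funext k; simp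
  rw [this, map_zero]; rfl

lemma act_zero_right (P : A⟦X⟧) : act f hf P (0 : M) = 0 := by
  unfold act
  have : (fun k => coeff k P • (0 : M)) = 0 := by funext k; simp
  rw [this, map_zero]; rfl

lemma Zl_single0 (m : M) :
    Zl f hf (fun k => if k = 0 then m else 0) = fun k => if k = 0 then m else 0 := by
  apply Zl_unique
  intro k
  by_cases hk : k = 0
  · subst hk; simp
  · simp [hk]

lemma act_C (a : A) (m : M) : act f hf (C a) m = a • m := by
  unfold act
  have : (fun k => coeff k (C a : A⟦X⟧) • m) = fun k => if k = 0 then a • m else 0 := by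
    funext k; rw [coeff_C]; split_ifs <;> simp
  rw [this, Zl_single0]; simp

lemma act_one (m : M) : act f hf 1 m = m := by
  have := act_C f hf 1 m
  rwa [map_one, one_smul] at this

lemma act_X (m : M) : act f hf X m = f • m := by
  unfold act
  have h1 : (fun k => coeff k (X : A⟦X⟧) • m) = fun k => if k = 1 then m else 0 := by
    funext k; rw [coeff_X]; split_ifs <;> simp
  rw [h1]
  have h2 : Zl f hf (fun k => if k = 1 then m else 0) =
      fun k => if k = 0 then f • m else if k = 1 then m else 0 := by
    apply Zl_unique
    intro k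
    rcases k with _ | _ | k
    · simp
    · simp
    · simp
  rw [h2]; simp

lemma act_mul (P Q : A⟦X⟧) (m : M) : act f hf (P * Q) m = act f hf P (act f hf Q m) := by
  set w := Zl f hf (fun j => coeff j Q • m) with hw
  have hw' : ∀ j, w j - f • w (j + 1) = coeff j Q • m := Zl_spec f hf _
  set S := Zl f hf (fun i => coeff i P • w 0) with hS
  have hS' : ∀ i, S i - f • S (i + 1) = coeff i P • w 0 := Zl_spec f hf _
  let z : ℕ → M := fun k => ∑ i ∈ Finset.range k, coeff i P • w (k - i) + S k
  have hz : ∀ k, z k - f • z (k + 1) = coeff k (P * Q) • m := by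
    intro k
    have h1 : z (k + 1) = ∑ i ∈ Finset.range k, coeff i P • w (k - i + 1) + coeff k P • w 1
        + S (k + 1) := by
      change ∑ i ∈ Finset.range (k + 1), coeff i P • w (k + 1 - i) + S (k + 1) = _
      rw [Finset.sum_range_succ]
      have e0 : k + 1 - k = 1 := by omega
      rw [e0]
      congr 2
      apply Finset.sum_congr rfl
      intro i hi
      rw [Finset.mem_range] at hi
      have : k + 1 - i = k - i + 1 := by omega
      rw [this]
    have hsum : ∑ i ∈ Finset.range k, (coeff i P * coeff (k - i) Q) • m =
        ∑ i ∈ Finset.range k, coeff i P • w (k - i) -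
          f • ∑ i ∈ Finset.range k, coeff i P • w (k - i + 1) := by
      rw [Finset.smul_sum, ← Finset.sum_sub_distrib]
      apply Finset.sum_congr rfl
      intro i _
      rw [mul_smul, ← hw' (k - i), smul_sub, smul_comm (coeff i P) f]
    have hSk : S k = coeff k P • w 0 + f • S (k + 1) := by rw [← hS' k]; abel
    have hlast : (coeff k P * coeff 0 Q) • m = coeff k P • w 0 - coeff k P • f • w 1 := by
      rw [mul_smul, ← hw' 0, smul_sub]
    rw [coeff_mul, Finset.Nat.sum_antidiagonal_eq_sum_range_succ
      (fun i j => coeff i P * coeff j Q), Finset.sum_range_succ, add_smul, Finset.sum_smul,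
      Nat.sub_self, hsum, hlast, h1]
    change (∑ i ∈ Finset.range k, coeff i P • w (k - i) + S k) - _ = _
    rw [hSk]
    module
  have hZ := Zl_unique f hf _ z hz
  change Zl f hf (fun k => coeff k (P * Q) • m) 0 = Zl f hf (fun i => coeff i P • w 0) 0
  rw [hZ]
  change ∑ i ∈ Finset.range 0, coeff i P • w (0 - i) + S 0 = S 0
  rw [Finset.sum_range_zero, zero_add]

/-- the module structure over power series. -/
@[reducible] noncomputable def sigmaModule : Module A⟦X⟧ M where
  smul P m := act f hf P m
  one_smul := act_one f hf
  mul_smul := act_mul f hf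
  smul_zero := act_zero_right f hf
  smul_add := act_add_right f hf
  add_smul := act_add_left f hf
  zero_smul := act_zero_left f hf

/-- generation modulo `f` lifts to generation over power series. -/
lemma gen_step {n r : ℕ} (g' : Fin r → A) (x : Fin n → M)
    (H : ∀ m : M, ∃ (a : Fin n → A) (y : Fin r → M) (m' : M),
      m = ∑ i, a i • x i + ∑ j, g' j • y j + f • m') (m : M) :
    ∃ (P : Fin n → A⟦X⟧) (y : Fin r → M),
      m = ∑ i, act f hf (P i) (x i) + ∑ j, act f hf (C (g' j)) (y j) := by
  choose a y m' hdec using H
  let s : ℕ → M := fun k => Nat.rec m (fun _ z => m' z) k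
  have hs : ∀ k, s (k + 1) = m' (s k) := fun k => rfl
  let c : ℕ → M := fun k => ∑ i, a (s k) i • x i + ∑ j, g' j • y (s k) j
  have hc : ∀ k, s k - f • s (k + 1) = c k := by
    intro k
    rw [hs k, sub_eq_iff_eq_add]
    exact hdec (s k)
  have hZ := Zl_unique f hf c s hc
  refine ⟨fun i => PowerSeries.mk (fun k => a (s k) i),
    fun j => Zl f hf (fun k => y (s k) j) 0, ?_⟩
  have hm : m = Zl f hf c 0 := by rw [hZ]; rfl
  rw [hm]
  have hcdec : c = ∑ i, (fun k => a (s k) i • x i) + ∑ j, g' j • (fun k => y (s k) j) := by
    funext k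
    simp [c, Finset.sum_apply]
  rw [hcdec, map_add, map_sum, map_sum]
  simp only [Pi.add_apply, Finset.sum_apply, map_smul, Pi.smul_apply]
  congr 1
  · apply Finset.sum_congr rfl
    intro i _
    unfold act
    simp only [coeff_mk]
  · apply Finset.sum_congr rfl
    intro j _
    rw [act_C]

end Groth.Agent.H4.DCF1
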