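import Mathlib
import Groth.Agent.H4.DCF1

/-!
# Derived complete modules with finite reduction over a Noetherian ring are adically complete
-/

set_option autoImplicit false
universe u

namespace Groth.Agent.H4.DCF2

open Groth.Agent.H4.DComp Groth.Agent.H4.DCF1 PowerSeries

lemma exists_sum_of_mem_span_range_smul_top {A : Type u} [CommRing A] {M : Type u} [AddCommGroup M]
    [Module A M] {r : ℕ} (g : Fin r → A) (m : M)
    (h : m ∈ Ideal.span (Set.range g) • (⊤ : Submodule A M)) :
    ∃ y : Fin r → M, ∑ j, g j • y j = m := by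
  refine Submodule.smul_induction_on h ?_ ?_
  · intro a ha n _
    obtain ⟨c, rfl⟩ := Ideal.mem_span_range_iff_exists_fun.1 ha
    refine ⟨fun j => c j • n, ?_⟩
    rw [Finset.sum_smul]
    apply Finset.sum_congr rfl
    intro j _
    rw [mul_smul, smul_comm]
  · rintro _ _ ⟨y, rfl⟩ ⟨y', rfl⟩
    refine ⟨fun j => y j + y' j, ?_⟩
    simp only [smul_add, Finset.sum_add_distrib]

set_option maxHeartbeats 800000 in
theorem iInf_eq_bot : ∀ (r : ℕ) (A : Type u) [CommRing A] [IsNoetherianRing A] (J₀ : Ideal A),
    J₀ ≤ Ideal.jacobson ⊥ → ∀ (g : Fin r → A) (M : Type u) [AddCommGroup M] [Module A M],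
    (∀ j, Function.Bijective (Psi (g j) M)) → ∀ (n : ℕ) (x : Fin n → M),
    (∀ m : M, ∃ (a : Fin n → A) (y : Fin r → M), m = ∑ i, a i • x i + ∑ j, g j • y j) →
    (⨅ k : ℕ, (J₀ ⊔ Ideal.span (Set.range g)) ^ k • (⊤ : Submodule A M)) = ⊥ := by
  intro r
  induction r with
  | zero =>
    intro A _ _ J₀ hJ g M _ _ _ n x hgen
    haveI : Module.Finite A M := by
      refine Module.Finite.of_surjective (Fintype.linearCombination A x) ?_
      intro m
      obtain ⟨a, y, hm⟩ := hgen m
      refine ⟨a, ?_⟩
      rw [hm, Fintype.linearCombination_apply]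
      simp
    have hg : Ideal.span (Set.range g) = ⊥ := by
      rw [Ideal.span_eq_bot]
      rintro _ ⟨j, _⟩
      exact j.elim0
    rw [hg, sup_bot_eq]
    exact Ideal.iInf_pow_smul_eq_bot_of_le_jacobson J₀ hJ
  | succ r ih =>
    intro A _ _ J₀ hJ g M _ _ hPsi n x hgen
    have hf := hPsi 0
    letI inst : Module A⟦X⟧ M := sigmaModule (g 0) hf
    have hsm : ∀ (P : A⟦X⟧) (m : M), P • m = act (g 0) hf P m := fun _ _ => rfl
    have hC : ∀ (a : A) (m : M), (C a : A⟦X⟧) • m = a • m :=
      fun a m => (hsm _ _).trans (act_C (g 0) hf a m)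
    have hXs : ∀ (m : M), (X : A⟦X⟧) • m = g 0 • m :=
      fun m => (hsm _ _).trans (act_X (g 0) hf m)
    let J₀' : Ideal A⟦X⟧ := J₀.map (C : A →+* A⟦X⟧) ⊔ Ideal.span {X}
    have hJ' : J₀' ≤ Ideal.jacobson ⊥ := by
      apply sup_le
      · rw [Ideal.map_le_iff_le_comap]
        intro j hj
        rw [Ideal.mem_comap, Ideal.mem_jacobson_bot]
        intro y
        rw [PowerSeries.isUnit_iff_constantCoeff]
        have := Ideal.mem_jacobson_bot.1 (hJ hj) (constantCoeff y)
        simpa using this
      · rw [Ideal.span_le, Set.singleton_subset_iff, SetLike.mem_coe, Ideal.mem_jacobson_bot]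
        intro y
        rw [PowerSeries.isUnit_iff_constantCoeff]
        simp
    let g' : Fin r → A⟦X⟧ := fun j => C (g j.succ)
    have hPsi' : ∀ j, Function.Bijective (Psi (g' j) M) := by
      intro j
      have : ⇑(Psi (g' j) M) = ⇑(Psi (g j.succ) M) := by
        funext z k
        simp only [Psi_apply]
        rw [hC]
      rw [this]
      exact hPsi j.succ
    have hgen' : ∀ m : M, ∃ (P : Fin n → A⟦X⟧) (y : Fin r → M),
        m = ∑ i, P i • x i + ∑ j, g' j • y j := by
      intro m
      have H : ∀ m : M, ∃ (a : Fin n → A) (y : Fin r → M) (m' : M),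
          m = ∑ i, a i • x i + ∑ j, g j.succ • y j + g 0 • m' := by
        intro m
        obtain ⟨a, y, hm⟩ := hgen m
        refine ⟨a, fun j => y j.succ, y 0, ?_⟩
        rw [Fin.sum_univ_succ] at hm
        rw [hm]
        abel
      obtain ⟨P, y, hm⟩ := gen_step (g 0) hf (fun j => g j.succ) x H m
      exact ⟨P, y, hm⟩
    have key := ih A⟦X⟧ J₀' hJ' g' M hPsi' n x hgen'
    -- comparison of scalars
    have exists_b : ∀ a ∈ J₀ ⊔ Ideal.span (Set.range g),
        ∃ b ∈ J₀' ⊔ Ideal.span (Set.range g'), ∀ m : M, a • m = b • m := by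
      intro a ha
      obtain ⟨j, hj, s, hs, rfl⟩ := Submodule.mem_sup.1 ha
      obtain ⟨c, rfl⟩ := Ideal.mem_span_range_iff_exists_fun.1 hs
      refine ⟨C j + (C (c 0) * X + ∑ i : Fin r, C (c i.succ) * g' i), ?_, ?_⟩
      · refine Submodule.add_mem _ ?_ (Submodule.add_mem _ ?_ ?_)
        · exact Submodule.mem_sup_left (Submodule.mem_sup_left (Ideal.mem_map_of_mem _ hj))
        · exact Submodule.mem_sup_left (Submodule.mem_sup_right
            (Ideal.mul_mem_left _ _ (Ideal.subset_span (Set.mem_singleton _))))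
        · refine Submodule.mem_sup_right (Submodule.sum_mem _ fun i _ => ?_)
          exact Ideal.mul_mem_left _ _ (Ideal.subset_span ⟨i, rfl⟩)
      · intro m
        have hR : (C j + (C (c 0) * X + ∑ i : Fin r, C (c i.succ) * g' i)) • m =
            j • m + (c 0 • g 0 • m + ∑ i : Fin r, c i.succ • g i.succ • m) := by
          simp only [add_smul, Finset.sum_smul, mul_smul, hC, hXs, g']
        rw [hR]
        simp only [add_smul, Fin.sum_univ_succ, Finset.sum_smul, mul_smul]
    have transfer : ∀ (k : ℕ) (m : M),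
        m ∈ (J₀ ⊔ Ideal.span (Set.range g)) ^ k • (⊤ : Submodule A M) →
        m ∈ (J₀' ⊔ Ideal.span (Set.range g')) ^ k • (⊤ : Submodule A⟦X⟧ M) := by
      intro k
      induction k with
      | zero =>
        intro m _
        rw [pow_zero, Ideal.one_eq_top, Submodule.top_smul]
        trivial
      | succ k ihk =>
        intro m hm
        rw [pow_succ', Submodule.mul_smul] at hm ⊢
        refine Submodule.smul_induction_on hm ?_ ?_
        · intro a ha n hn
          obtain ⟨b, hb, hab⟩ := exists_b a ha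
          rw [hab n]
          exact Submodule.smul_mem_smul hb (ihk n hn)
        · intro y y' hy hy'
          exact Submodule.add_mem _ hy hy'
    rw [eq_bot_iff]
    intro m hm
    rw [Submodule.mem_iInf] at hm
    have hm' : m ∈ ⨅ k : ℕ, (J₀' ⊔ Ideal.span (Set.range g')) ^ k • (⊤ : Submodule A⟦X⟧ M) := by
      rw [Submodule.mem_iInf]
      intro k
      exact transfer k m (hm k)
    rw [key] at hm'
    exact (Submodule.mem_bot A).2 ((Submodule.mem_bot A⟦X⟧).1 hm')

theorem finite_completion {A : Type u} [CommRing A] (I : Ideal A) (M : Type u) [AddCommGroup M]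
    [Module A M] (hf : Module.Finite A (M ⧸ I • (⊤ : Submodule A M))) :
    Module.Finite (AdicCompletion I A) (AdicCompletion I M) := by
  obtain ⟨n, g, hg⟩ := Module.Finite.exists_fin' A (M ⧸ I • (⊤ : Submodule A M))
  obtain ⟨φ, hφ⟩ := Module.projective_lifting_property (Submodule.mkQ (I • (⊤ : Submodule A M))) g
    (Submodule.mkQ_surjective _)
  have hs : Function.Surjective ((Submodule.mkQ (I • (⊤ : Submodule A M))) ∘ₗ φ) := by
    rw [hφ]; exact hg
  have h1 := AdicCompletion.map_surjective_of_mkQ_comp_surjective hs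
  haveI : Module.Finite (AdicCompletion I A) (AdicCompletion I (Fin n → A)) :=
    Module.Finite.of_surjective (AdicCompletion.ofTensorProduct I (Fin n → A))
      (AdicCompletion.ofTensorProduct_surjective_of_finite I _)
  exact Module.Finite.of_surjective (AdicCompletion.map I φ) h1

theorem main {A : Type u} [CommRing A] [IsNoetherianRing A] (I : Ideal A) (M : Type u)
    [AddCommGroup M] [Module A M]
    (hc : ∀ f ∈ I, Function.Bijective (Psi f M))
    (hf : Module.Finite A (M ⧸ I • (⊤ : Submodule A M))) :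
    IsAdicComplete I M ∧ Module.Finite (AdicCompletion I A) (AdicCompletion I M) := by
  refine ⟨?_, finite_completion I M hf⟩
  obtain ⟨r, g, hI⟩ := Submodule.fg_iff_exists_fin_generating_family.1
    ((isNoetherianRing_iff_ideal_fg A).1 inferInstance I)
  have hI' : Ideal.span (Set.range g) = I := hI
  have hgI : ∀ j, g j ∈ I := fun j => hI' ▸ Ideal.subset_span ⟨j, rfl⟩
  haveI : IsPrecomplete I M := by
    classical
    have h := isPrecomplete_span (M := M) (Finset.univ.image g) (fun f hf' => by
      obtain ⟨j, _, rfl⟩ := Finset.mem_image.1 hf'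
      exact (hc _ (hgI j)).2)
    rw [Finset.coe_image, Finset.coe_univ, Set.image_univ, hI'] at h
    exact h
  haveI : IsHausdorff I M := by
    obtain ⟨n, φ, hφ⟩ := Module.Finite.exists_fin' A (M ⧸ I • (⊤ : Submodule A M))
    choose x hx using fun i : Fin n =>
      Submodule.mkQ_surjective (I • (⊤ : Submodule A M)) (φ (fun j => if i = j then 1 else 0))
    have hgen : ∀ m : M, ∃ (a : Fin n → A) (y : Fin r → M),
        m = ∑ i, a i • x i + ∑ j, g j • y j := by
      intro m
      obtain ⟨a, ha⟩ := hφ (Submodule.mkQ _ m)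
      have h1 : m - ∑ i, a i • x i ∈ I • (⊤ : Submodule A M) := by
        rw [← Submodule.ker_mkQ (I • (⊤ : Submodule A M)), LinearMap.mem_ker, map_sub, map_sum]
        simp only [map_smul, hx]
        rw [← ha, ← LinearMap.pi_apply_eq_sum_univ, sub_self]
      rw [← hI'] at h1
      obtain ⟨y, hy⟩ := exists_sum_of_mem_span_range_smul_top g _ h1
      exact ⟨a, y, by rw [hy]; abel⟩
    have key := iInf_eq_bot r A ⊥ bot_le g M (fun j => hc _ (hgI j)) n x hgen
    rw [bot_sup_eq, hI'] at key
    rw [isHausdorff_iff]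
    intro m hm
    have h2 : m ∈ ⨅ k : ℕ, I ^ k • (⊤ : Submodule A M) := by
      rw [Submodule.mem_iInf]
      intro k
      have := hm k
      rwa [SModEq.zero] at this
    rw [key] at h2
    exact (Submodule.mem_bot A).1 h2
  exact { }

end Groth.Agent.H4.DCF2
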