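import Mathlib
import Groth.Agent.H4.DComp11
set_option autoImplicit false
universe u

namespace Groth.Agent.H4.DComp

variable {A : Type u} [CommRing A]

/-- the core of S7043: `f`-divisible scalars kill `f`-divisible elements of a module on which
`Psi f` is injective. -/
lemma smul_eq_zero_of_divisible (f : A) {M : Type*} [AddCommGroup M] [Module A M]
    (hinj : Function.Injective (Psi f M)) (a : A) (x : M)
    (ha : ∀ n : ℕ, ∃ c, a = f ^ n * c) (hx : ∀ n : ℕ, ∃ z : M, x = f ^ n • z) : a • x = 0 := by
  choose c hc' using ha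
  choose z hz using hx
  have h0 : (fun n => c n • x) = 0 := by
    apply (Psi_injective_iff f).1 hinj
    funext n
    simp only [Psi_apply, Pi.zero_apply]
    rw [smul_smul, ← sub_smul]
    have h1 : f ^ n * (c n - f * c (n + 1)) = 0 := by
      rw [mul_sub, ← hc' n, ← mul_assoc, ← pow_succ, ← hc' (n + 1), sub_self]
    conv_lhs => rw [hz n]
    rw [smul_smul, mul_comm, h1, zero_smul]
  have h2 := congrFun h0 0
  simp only [Pi.zero_apply] at h2
  have h3 : a = c 0 := by
    have := hc' 0
    simpa using this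
  rw [h3]
  exact h2

lemma pow_add_le (f : A) (I' : Ideal A) (k : ℕ) : ∀ n : ℕ,
    (Ideal.span {f} ⊔ I') ^ (n + k) ≤ I' ^ n ⊔ Ideal.span {f ^ k} := by
  induction k with
  | zero =>
    intro n
    rw [pow_zero, Ideal.span_singleton_one]
    exact le_sup_of_le_right le_top
  | succ k ih =>
    intro n
    refine (pow_succ_le f I' (n + k)).trans ?_
    apply sup_le
    · refine (Ideal.mul_mono_right (ih n)).trans ?_
      rw [Ideal.mul_sup]
      apply sup_le
      · exact le_sup_of_le_left Ideal.mul_le_right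
      · rw [Ideal.span_singleton_mul_span_singleton, ← pow_succ']
        exact le_sup_right
    · exact le_sup_of_le_left (Ideal.pow_le_pow_right (by omega))

/-- the quotient ring `R/(f^k)` is complete along the image of `g` when `R` is complete along `g`. -/
lemma Psi_bijective_quotient (f g : A) (k : ℕ) (hg : Function.Bijective (Psi g A)) :
    Function.Bijective (Psi (Ideal.Quotient.mk (Ideal.span {f ^ k}) g) (A ⧸ Ideal.span {f ^ k})) := by
  let u : A →ₗ[A] A := (f ^ k) • LinearMap.id
  have h1 := Psi_bijective_coker g u hg hg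
  have hr : LinearMap.range u = Ideal.span {f ^ k} := by
    ext x
    rw [Ideal.mem_span_singleton]
    constructor
    · rintro ⟨y, rfl⟩
      exact ⟨y, rfl⟩
    · rintro ⟨y, rfl⟩
      exact ⟨y, rfl⟩
  have h2 : Function.Bijective (Psi g (A ⧸ Ideal.span {f ^ k})) :=
    Psi_bijective_of_linearEquiv g (Submodule.quotEquivOfEq _ _ hr) h1
  have : ⇑(Psi (Ideal.Quotient.mk (Ideal.span {f ^ k}) g) (A ⧸ Ideal.span {f ^ k})) =
      ⇑(Psi g (A ⧸ Ideal.span {f ^ k})) := by
    funext x n
    simp only [Psi_apply]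
    rw [Algebra.smul_def]
    rfl
  rw [this]
  exact h2

/-- the `f`-divisible ideal has square zero in a ring complete along `f`. -/
lemma iInf_span_pow_mul_self {A : Type u} [CommRing A] (f : A)
    (hinj : Function.Injective (Psi f A)) :
    (⨅ k : ℕ, Ideal.span {f ^ k}) * (⨅ k : ℕ, Ideal.span {f ^ k}) = (⊥ : Ideal A) := by
  rw [eq_bot_iff]
  apply Ideal.mul_le.2
  intro a ha b hb
  rw [Ideal.mem_bot]
  have h : ∀ (x : A), x ∈ (⨅ k : ℕ, Ideal.span {f ^ k}) → ∀ n : ℕ, ∃ c, x = f ^ n * c := by
    intro x hx n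
    have := (Submodule.mem_iInf _).1 hx n
    rwa [Ideal.mem_span_singleton] at this
  exact smul_eq_zero_of_divisible f hinj a b (h a ha) (h b hb)

theorem iInf_pow_pow_eq_bot (r : ℕ) : ∀ (R : Type u) [CommRing R] (s : Finset R), s.card ≤ r →
    (∀ g ∈ s, Function.Bijective (Psi g R)) →
    (⨅ n : ℕ, (Ideal.span (s : Set R)) ^ n) ^ (2 ^ r) = ⊥ := by
  classical
  induction r with
  | zero =>
    intro R _ s hs _
    have : s = ∅ := Finset.card_eq_zero.1 (Nat.le_zero.1 hs)
    subst this
    rw [pow_zero, pow_one, eq_bot_iff]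
    refine (iInf_le _ 1).trans ?_
    simp
  | succ r ih =>
    intro R _ s hs hR
    by_cases hcard : s.card ≤ r
    · have := ih R s hcard hR
      rw [eq_bot_iff, ← this]
      exact Ideal.pow_le_pow_right (Nat.pow_le_pow_right (by omega) (Nat.le_succ r))
    have hne : s.Nonempty := by
      rw [Finset.nonempty_iff_ne_empty]
      rintro rfl
      simp at hcard
    obtain ⟨f, hf⟩ := hne
    set s' := s.erase f with hs'
    have hcard' : s'.card ≤ r := by
      rw [hs', Finset.card_erase_of_mem hf]
      omega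
    have hI : Ideal.span (s : Set R) = Ideal.span {f} ⊔ Ideal.span (s' : Set R) := by
      conv_lhs => rw [← Finset.insert_erase hf, Finset.coe_insert, Ideal.span_insert]
    set J := ⨅ n : ℕ, (Ideal.span (s : Set R)) ^ n with hJ
    -- `J^(2^r)` lies in every `(f^k)`
    have key : ∀ k : ℕ, J ^ (2 ^ r) ≤ Ideal.span {f ^ k} := by
      intro k
      let q := Ideal.Quotient.mk (Ideal.span {f ^ k})
      have h1 := ih (R ⧸ Ideal.span {f ^ k}) (s'.image q)
        (Finset.card_image_le.trans hcard') (by
          intro g hg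
          obtain ⟨g', hg', rfl⟩ := Finset.mem_image.1 hg
          exact Psi_bijective_quotient f g' k (hR g' (Finset.mem_of_mem_erase hg')))
      have h2 : J.map q ≤ ⨅ n : ℕ, (Ideal.span ((s'.image q : Finset _) : Set (R ⧸ Ideal.span {f ^ k}))) ^ n := by
        apply le_iInf
        intro n
        have h3 : J ≤ (Ideal.span (s' : Set R)) ^ n ⊔ Ideal.span {f ^ k} := by
          refine (iInf_le _ (n + k)).trans ?_
          rw [hI]
          exact pow_add_le f _ k n
        refine (Ideal.map_mono h3).trans ?_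
        rw [Ideal.map_sup, Ideal.map_pow, Ideal.map_span, Finset.coe_image,
          Ideal.map_quotient_self, sup_bot_eq]
      have h4 : (J ^ (2 ^ r)).map q = ⊥ := by
        rw [eq_bot_iff, Ideal.map_pow, ← h1]
        exact Ideal.pow_right_mono h2 _
      rw [Ideal.map_eq_bot_iff_le_ker, Ideal.mk_ker] at h4
      exact h4
    have h5 : J ^ (2 ^ r) ≤ ⨅ k : ℕ, Ideal.span {f ^ k} := le_iInf key
    rw [pow_succ, pow_mul, pow_two, eq_bot_iff, ← iInf_span_pow_mul_self f (hR f hf).1]
    exact Ideal.mul_mono h5 h5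

end Groth.Agent.H4.DComp
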