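import Mathlib
import Groth.Agent.H4.DComp12
set_option autoImplicit false
universe u

namespace Groth.Agent.H4.DComp

open Polynomial

variable {A : Type u} [CommRing A]

/-- `1 + g` is a unit when `A` is complete along `g`. -/
lemma isUnit_one_add (g : A) (hg : Function.Bijective (Psi (-g) A)) : IsUnit (1 + g) := by
  obtain ⟨x, hx⟩ := hg.2 (fun _ => 1)
  have hshift : (fun n => x (n + 1)) = x := by
    apply hg.1
    rw [hx]
    funext n
    exact congrFun hx (n + 1)
  have h0 := congrFun hx 0
  have h1 := congrFun hshift 0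
  simp only [Psi_apply, zero_add, smul_eq_mul] at h0 h1
  rw [h1] at h0
  refine isUnit_iff_exists_inv.2 ⟨x 0, ?_⟩
  have : (1 + g) * x 0 = x 0 - -g * x 0 := by ring
  rw [this, h0]

/-- an ideal along which `A` is derived complete lies in the Jacobson radical. -/
lemma le_jacobson_bot (I : Ideal A) (h : ∀ g ∈ I, Function.Bijective (Psi g A)) :
    I ≤ Ideal.jacobson ⊥ := by
  intro g hg
  rw [Ideal.mem_jacobson_bot]
  intro y
  have := isUnit_one_add (g * y) (h _ (by
    rw [← neg_mul]
    exact I.mul_mem_right _ (I.neg_mem hg)))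
  rwa [add_comm] at this

lemma isUnit_of_isUnit_mk (I : Ideal A) (hI : I ≤ Ideal.jacobson ⊥) (x : A)
    (hx : IsUnit (Ideal.Quotient.mk I x)) : IsUnit x := by
  obtain ⟨y', hy'⟩ := isUnit_iff_exists_inv.1 hx
  obtain ⟨y, rfl⟩ := Ideal.Quotient.mk_surjective y'
  rw [← map_mul, ← map_one (Ideal.Quotient.mk I), Ideal.Quotient.eq] at hy'
  have h1 := (Ideal.mem_jacobson_bot.1 (hI hy')) 1
  rw [mul_one, sub_add_cancel] at h1
  exact isUnit_of_mul_isUnit_left h1

/-- the `f`-divisible ideal. -/
abbrev Jf (f : A) : Ideal A := ⨅ k : ℕ, Ideal.span {f ^ k}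

lemma isAdicComplete_quotient (f : A) (hf : Function.Bijective (Psi f A)) :
    IsAdicComplete (Ideal.span {Ideal.Quotient.mk (Jf f) f}) (A ⧸ Jf f) := by
  classical
  set q := Ideal.Quotient.mk (Jf f) with hq
  haveI : IsPrecomplete (Ideal.span {q f}) (A ⧸ Jf f) := by
    have := isPrecomplete_span (A := A ⧸ Jf f) (M := A ⧸ Jf f) ({q f} : Finset (A ⧸ Jf f)) (by
      intro g hg
      rw [Finset.mem_singleton] at hg
      subst hg
      intro y
      have hy : ∀ n, ∃ z, q z = y n := fun n => Ideal.Quotient.mk_surjective (y n)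
      choose z hz using hy
      obtain ⟨x, hx⟩ := hf.2 z
      refine ⟨fun n => q (x n), ?_⟩
      funext n
      have := congrArg q (congrFun hx n)
      simp only [Psi_apply, smul_eq_mul, map_sub, map_mul] at this ⊢
      rw [this, hz])
    simpa using this
  haveI : IsHausdorff (Ideal.span {q f}) (A ⧸ Jf f) := by
    rw [isHausdorff_iff]
    intro x hx
    obtain ⟨a, rfl⟩ := Ideal.Quotient.mk_surjective x
    rw [Ideal.Quotient.eq_zero_iff_mem]
    apply (Submodule.mem_iInf _).2
    intro n
    have := hx n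
    rw [SModEq.sub_mem, sub_zero, smul_eq_mul, Ideal.mul_top, Ideal.span_singleton_pow,
      Ideal.mem_span_singleton] at this
    obtain ⟨c', hc'⟩ := this
    obtain ⟨c, rfl⟩ := Ideal.Quotient.mk_surjective c'
    rw [← map_pow, ← map_mul, Ideal.Quotient.eq] at hc'
    have h2 : a - f ^ n * c ∈ Ideal.span {f ^ n} := (Submodule.mem_iInf _).1 hc' n
    have h3 : f ^ n * c ∈ Ideal.span {f ^ n} := Ideal.mul_mem_right _ _ (Ideal.subset_span rfl)
    have := Ideal.add_mem _ h2 h3
    rwa [sub_add_cancel] at this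
  exact { }

/-- a ring derived complete along an ideal `I` is henselian along `I`. -/
theorem henselianRing_of_complete (I : Ideal A) (h : ∀ g ∈ I, Function.Bijective (Psi g A)) :
    HenselianRing A I where
  jac := le_jacobson_bot I h
  is_henselian := by
    intro F hF a₀ h₁ h₂
    have hjac := le_jacobson_bot I h
    set f := F.eval a₀ with hf
    have hfc := h f h₁
    set q := Ideal.Quotient.mk (Jf f) with hq
    haveI := isAdicComplete_quotient f hfc
    -- Hensel in the quotient
    have hu₀ : IsUnit (F.derivative.eval a₀) := isUnit_of_isUnit_mk I hjac _ h₂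
    obtain ⟨abar, habar, hdiff⟩ := HenselianRing.is_henselian (R := A ⧸ Jf f)
      (I := Ideal.span {q f}) (F.map q) (hF.map q) (q a₀) (by
        rw [eval_map_apply]
        exact Ideal.subset_span rfl) (by
        rw [derivative_map, eval_map_apply]
        exact (hu₀.map q).map _)
    -- lift the root to `a₁ ≡ a₀ mod f`
    rw [Ideal.mem_span_singleton] at hdiff
    obtain ⟨cbar, hc⟩ := hdiff
    obtain ⟨c, rfl⟩ := Ideal.Quotient.mk_surjective cbar
    set a₁ := a₀ + f * c with ha₁
    have hqa₁ : q a₁ = abar := by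
      rw [ha₁, map_add, map_mul, ← hc]
      ring
    have hFa₁ : F.eval a₁ ∈ Jf f := by
      rw [← Ideal.Quotient.eq_zero_iff_mem, ← eval_map_apply]
      change eval (q a₁) (F.map q) = 0
      rw [hqa₁]
      exact habar
    have ha₁I : a₁ - a₀ ∈ I := by
      rw [ha₁, add_sub_cancel_left]
      exact I.mul_mem_right _ h₁
    have hu₁ : IsUnit (F.derivative.eval a₁) := by
      apply isUnit_of_isUnit_mk I hjac
      have : Ideal.Quotient.mk I (F.derivative.eval a₁) =
          Ideal.Quotient.mk I (F.derivative.eval a₀) := by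
        rw [← eval_map_apply, ← eval_map_apply]
        congr 1
        exact Ideal.Quotient.eq.2 ha₁I
      rw [this]
      exact h₂
    -- one Newton step
    obtain ⟨u, hu⟩ := hu₁
    set x := -(F.eval a₁ * ↑u⁻¹) with hx
    have hxJ : x ∈ Jf f := (Jf f).neg_mem ((Jf f).mul_mem_right _ hFa₁)
    have hx2 : x ^ 2 = 0 := by
      have : x * x ∈ Jf f * Jf f := Ideal.mul_mem_mul hxJ hxJ
      rw [iInf_span_pow_mul_self f hfc.1, Ideal.mem_bot] at this
      rw [pow_two, this]
    refine ⟨a₁ + x, ?_, ?_⟩
    · change eval (a₁ + x) F = 0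
      rw [eval_add_of_sq_eq_zero F a₁ x hx2, ← hu, hx]
      have : (u : A) * ↑u⁻¹ = 1 := u.mul_inv
      linear_combination (-(eval a₁ F)) * this
    · have hxI : x ∈ I := by
        have h1 : x ∈ Ideal.span {f ^ 1} := (Submodule.mem_iInf _).1 hxJ 1
        rw [pow_one, Ideal.mem_span_singleton] at h1
        obtain ⟨d, hd⟩ := h1
        rw [hd]
        exact I.mul_mem_right _ h₁
      have : a₁ + x - a₀ = (a₁ - a₀) + x := by ring
      rw [this]
      exact I.add_mem ha₁I hxI

end Groth.Agent.H4.DComp
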