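import Mathlib
import Groth.Agent.H4.DCompl6
set_option autoImplicit false
universe u
open CategoryTheory CategoryTheory.Limits CategoryTheory.Pretriangulated

namespace Groth.Agent.H4.DCompl7

attribute [local instance] HasDerivedCategory.standard

variable {A : Type u} [CommRing A]

open ZeroObject DRing DerivedCategory Groth.Agent.H4.DCompl6

theorem S7832 (I : Ideal A) (r : ℕ)
    (hI : ∃ s : Finset A, s.card ≤ r ∧ Ideal.span (s : Set A) = I) [DRing.HasDerivedCompletion I]
    (K : Dual.D A) (a : WithBot ℤ) (b : WithTop ℤ)
    (hKa : ∀ i : ℤ, (i : WithBot ℤ) < a → Subsingleton (Dual.HD A K i))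
    (hKb : ∀ i : ℤ, b < (i : WithTop ℤ) → Subsingleton (Dual.HD A K i)) (i : ℤ)
    (hi : ((i + r : ℤ) : WithBot ℤ) < a ∨ b < (i : WithTop ℤ)) :
    Subsingleton (Dual.HD A ((DRing.derivedCompletion I).obj K).obj i) := by
  obtain ⟨s, hsr, hs⟩ := hI
  rcases hi with hi | hi
  · -- lower bound
    induction a using WithBot.recBotCoe with
    | bot => exact absurd hi (not_lt_bot)
    | coe a' =>
      have hi' : i + r < a' := WithBot.coe_lt_coe.1 hi
      have hK : K.IsGE a' := by
        rw [isGE_iff]
        intro j hj
        haveI := hKa j (WithBot.coe_lt_coe.2 hj)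
        exact ModuleCat.isZero_of_subsingleton _
      haveI := isGE_completion I s hs K a' hK
      have hz := isZero_of_isGE (((derivedCompletion I).obj K).obj) (a' - s.card) i
        (by have : (s.card : ℤ) ≤ r := by exact_mod_cast hsr
            omega)
      exact ModuleCat.subsingleton_of_isZero hz
  · induction b using WithTop.recTopCoe with
    | top => exact absurd hi (not_top_lt)
    | coe b' =>
      have hi' : b' < i := WithTop.coe_lt_coe.1 hi
      have hK : K.IsLE b' := by
        rw [isLE_iff]
        intro j hj
        haveI := hKb j (WithTop.coe_lt_coe.2 hj)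
        exact ModuleCat.isZero_of_subsingleton _
      haveI := isLE_completion I s hs K b' hK
      have hz := isZero_of_isLE (((derivedCompletion I).obj K).obj) b' i hi'
      exact ModuleCat.subsingleton_of_isZero hz

end Groth.Agent.H4.DCompl7
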