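import Mathlib.RingTheory.DividedPowers.RatAlgebra
import Mathlib.NumberTheory.Padics.PadicVal.Basic
import Mathlib.Algebra.MvPolynomial.CommRing
import Mathlib.Combinatorics.Enumerative.Bell
import Mathlib.Tactic

set_option autoImplicit false
set_option linter.unusedSectionVars false
set_option linter.unusedVariables false

namespace Groth.Agent.H4.DPowA
open scoped Nat

section NT
variable (p : ℕ) [hp : Fact p.Prime]

/-- `V n = v_p(n!)`. -/
noncomputable def V (n : ℕ) : ℕ := padicValNat p n !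

lemma V_zero : V p 0 = 0 := by simp [V]
lemma V_one : V p 1 = 0 := by simp [V]

lemma V_mul_add (k r : ℕ) (hr : r < p) : V p (p * k + r) = k + V p k := by
  unfold V
  rw [padicValNat_factorial_mul_add k hr, padicValNat_factorial_mul, add_comm]

lemma V_mul (k : ℕ) : V p (p * k) = k + V p k := by
  simpa using V_mul_add p k 0 hp.out.pos

lemma V_eq (n : ℕ) : V p n = n / p + V p (n / p) := by
  conv_lhs => rw [← Nat.div_add_mod n p]
  exact V_mul_add p (n / p) (n % p) (Nat.mod_lt _ hp.out.pos)

lemma V_self : V p p = 1 := by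
  have := V_mul p 1
  rw [mul_one, V_one] at this
  exact this

/-- prime-to-`p` part of `n!`. -/
noncomputable def M (n : ℕ) : ℕ := n ! / p ^ V p n

lemma pow_V_mul_M (n : ℕ) : p ^ V p n * M p n = n ! :=
  Nat.mul_div_cancel' pow_padicValNat_dvd

lemma not_dvd_M (n : ℕ) : ¬ p ∣ M p n := by
  intro h
  apply pow_succ_padicValNat_not_dvd (p := p) (Nat.factorial_ne_zero n)
  obtain ⟨c, hc⟩ := h
  have h1 : n ! = p ^ (V p n + 1) * c := by
    calc n ! = p ^ V p n * M p n := (pow_V_mul_M p n).symm
      _ = p ^ (V p n + 1) * c := by rw [hc]; ring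
  exact ⟨c, h1⟩

lemma M_zero : M p 0 = 1 := by simp [M, V_zero]
lemma M_one : M p 1 = 1 := by simp [M, V_one]
lemma M_self : M p p = (p - 1)! := by
  have h := pow_V_mul_M p p
  rw [V_self, pow_one, ← Nat.mul_factorial_pred hp.out.pos.ne'] at h
  exact Nat.eq_of_mul_eq_mul_left hp.out.pos h

end NT

section W
variable {R : Type*} [CommSemiring R] (p : ℕ) (d : R → R)

/-- `w n x = x^(n % p) * w (n / p) (d x)`: the "monomial" `x^n / (p!)^{v_p(n!)}`. -/
def w (n : ℕ) (x : R) : R :=
  if h : n = 0 ∨ p ≤ 1 then 1 else x ^ (n % p) * w (n / p) (d x)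
termination_by n
decreasing_by
  push Not at h
  exact Nat.div_lt_self (Nat.pos_of_ne_zero h.1) h.2

variable [hp : Fact p.Prime]

lemma w_zero (x : R) : w p d 0 x = 1 := by
  rw [w]; simp

lemma w_of_ne {n : ℕ} (hn : n ≠ 0) (x : R) :
    w p d n x = x ^ (n % p) * w p d (n / p) (d x) := by
  conv_lhs => rw [w]
  have : ¬ (n = 0 ∨ p ≤ 1) := by
    have := hp.out.one_lt
    omega
  rw [dif_neg this]

lemma w_eq (n : ℕ) (x : R) : w p d n x = x ^ (n % p) * w p d (n / p) (d x) := by
  rcases eq_or_ne n 0 with rfl | hn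
  · simp [w_zero]
  · exact w_of_ne p d hn x

lemma w_mul_add (k r : ℕ) (hr : r < p) (x : R) :
    w p d (p * k + r) x = x ^ r * w p d k (d x) := by
  rw [w_eq]
  have h1 : (p * k + r) % p = r := by rw [Nat.mul_add_mod]; exact Nat.mod_eq_of_lt hr
  have h2 : (p * k + r) / p = k := by
    rw [Nat.mul_add_div hp.out.pos, Nat.div_eq_of_lt hr, add_zero]
  rw [h1, h2]

lemma w_one (x : R) : w p d 1 x = x := by
  simpa [w_zero] using w_mul_add p d 0 1 hp.out.one_lt x

lemma w_mul_p (n : ℕ) (x : R) : w p d (p * n) x = w p d n (d x) := by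
  simpa using w_mul_add p d n 0 hp.out.pos x

lemma w_self (x : R) : w p d p x = d x := by
  have := w_mul_p p d 1 x
  rw [mul_one, w_one] at this
  exact this

end W

section A
variable {A : Type*} [CommRing A]

/-- The hypotheses of the statement, bundled. -/
structure Hyp (p : ℕ) (I : Ideal A) (d : A → A) : Prop where
  hA : ∀ n : ℕ, ¬ p ∣ n → IsUnit (n : A)
  hdI : ∀ x ∈ I, d x ∈ I
  h1 : ∀ x ∈ I, (p.factorial : A) * d x = x ^ p
  h2 : ∀ (a x : A), x ∈ I → d (a * x) = a ^ p * d x
  h3 : ∀ x ∈ I, ∀ y ∈ I, d (x + y) = d x + d y +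
      ((Finset.antidiagonal p).filter fun k => 0 < k.1 ∧ 0 < k.2).sum
        fun k => Ring.inverse ((k.1.factorial * k.2.factorial : ℕ) : A) * x ^ k.1 * y ^ k.2

variable (p : ℕ) [hp : Fact p.Prime] {I : Ideal A} (d : A → A)

lemma Hyp.d_zero (H : Hyp p I d) : d 0 = 0 := by
  have := H.h2 0 0 I.zero_mem
  rw [mul_zero, zero_pow hp.out.ne_zero, zero_mul] at this
  exact this

lemma w_mem (H : Hyp p I d) : ∀ (n : ℕ), n ≠ 0 → ∀ x ∈ I, w p d n x ∈ I := by
  intro n
  induction n using Nat.strong_induction_on with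
  | _ n ih =>
    intro hn x hx
    rw [w_eq]
    by_cases hr : n % p = 0
    · have hk : n / p ≠ 0 := by
        intro h0
        have := Nat.div_add_mod n p
        rw [h0, hr, mul_zero, add_zero] at this
        exact hn this.symm
      have hlt : n / p < n := Nat.div_lt_self (Nat.pos_of_ne_zero hn) hp.out.one_lt
      exact I.mul_mem_left _ (ih _ hlt hk _ (H.hdI x hx))
    · exact I.mul_mem_right _ (I.pow_mem_of_mem hx _ (Nat.pos_of_ne_zero hr))

lemma w_smul (H : Hyp p I d) : ∀ (n : ℕ) (a x : A), x ∈ I →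
    w p d n (a * x) = a ^ n * w p d n x := by
  intro n
  induction n using Nat.strong_induction_on with
  | _ n ih =>
    intro a x hx
    rcases eq_or_ne n 0 with rfl | hn
    · simp [w_zero]
    · have hlt : n / p < n := Nat.div_lt_self (Nat.pos_of_ne_zero hn) hp.out.one_lt
      rw [w_eq p d n (a * x), w_eq p d n x, H.h2 a x hx, ih _ hlt _ _ (H.hdI x hx)]
      have hn' : a ^ n = a ^ (n % p) * (a ^ p) ^ (n / p) := by
        rw [← pow_mul, ← pow_add, add_comm, Nat.div_add_mod]
      rw [hn', mul_pow]; ring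

lemma w_pow_p (H : Hyp p I d) : ∀ (n : ℕ) (x : A), x ∈ I →
    ∃ e, e + p * V p n = n + V p n ∧
      (w p d n x) ^ p = ((p ! ^ e : ℕ) : A) * w p d (p * n) x := by
  intro n
  induction n using Nat.strong_induction_on with
  | _ n ih =>
    intro x hx
    rcases eq_or_ne n 0 with rfl | hn
    · exact ⟨0, by simp [V_zero], by simp [w_zero]⟩
    · obtain ⟨k, r, hr, rfl⟩ : ∃ k r, r < p ∧ n = p * k + r :=
        ⟨n / p, n % p, Nat.mod_lt _ hp.out.pos, (Nat.div_add_mod n p).symm⟩
      have h2k := Nat.mul_le_mul_right k hp.out.two_le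
      have hlt : k < p * k + r := by omega
      obtain ⟨e, he, hw⟩ := ih k hlt (d x) (H.hdI x hx)
      refine ⟨r + e, ?_, ?_⟩
      · rw [V_mul_add p k r hr]
        have : p * (k + V p k) = p * k + p * V p k := Nat.mul_add _ _ _
        omega
      · rw [w_mul_add p d k r hr x, mul_pow, hw, ← pow_mul, mul_comm r p, pow_mul, ← H.h1 x hx,
          w_mul_p, w_mul_p, w_mul_add p d k r hr (d x)]
        push_cast
        ring

lemma w_mul_w (H : Hyp p I d) : ∀ (s m n : ℕ), m + n = s → ∀ x ∈ I,
    ∃ e, e + V p m + V p n = V p (m + n) ∧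
      w p d m x * w p d n x = ((p ! ^ e : ℕ) : A) * w p d (m + n) x := by
  intro s
  induction s using Nat.strong_induction_on with
  | _ s ih =>
    intro m n hmn x hx
    rcases Nat.eq_zero_or_pos s with rfl | hs
    · obtain ⟨rfl, rfl⟩ : m = 0 ∧ n = 0 := by omega
      exact ⟨0, by simp [V_zero], by simp [w_zero]⟩
    · obtain ⟨m', r, hr, rfl⟩ : ∃ k r, r < p ∧ m = p * k + r :=
        ⟨m / p, m % p, Nat.mod_lt _ hp.out.pos, (Nat.div_add_mod m p).symm⟩
      obtain ⟨n', r', hr', rfl⟩ : ∃ k r, r < p ∧ n = p * k + r :=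
        ⟨n / p, n % p, Nat.mod_lt _ hp.out.pos, (Nat.div_add_mod n p).symm⟩
      have h2m := Nat.mul_le_mul_right m' hp.out.two_le
      have h2n := Nat.mul_le_mul_right n' hp.out.two_le
      have hp2 := hp.out.two_le
      have hdx := H.hdI x hx
      obtain ⟨e', he', hw'⟩ := ih (m' + n') (by omega) m' n' rfl (d x) hdx
      by_cases hc : r + r' < p
      · have e1 : p * m' + r + (p * n' + r') = p * (m' + n') + (r + r') := by ring
        refine ⟨e', ?_, ?_⟩
        · rw [e1, V_mul_add p _ _ hc, V_mul_add p _ _ hr, V_mul_add p _ _ hr']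
          omega
        · rw [e1, w_mul_add p d _ _ hc, w_mul_add p d _ _ hr, w_mul_add p d _ _ hr']
          calc x ^ r * w p d m' (d x) * (x ^ r' * w p d n' (d x))
              = x ^ (r + r') * (w p d m' (d x) * w p d n' (d x)) := by ring
            _ = _ := by rw [hw']; ring
      · obtain ⟨e'', he'', hw''⟩ := ih (1 + (m' + n')) (by omega) 1 (m' + n') rfl (d x) hdx
        rw [V_one] at he''
        rw [w_one] at hw''
        have e1 : p * m' + r + (p * n' + r') = p * (1 + (m' + n')) + (r + r' - p) := by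
          have : p * (1 + (m' + n')) = p + p * m' + p * n' := by ring
          omega
        have hlt : r + r' - p < p := by omega
        refine ⟨e' + 1 + e'', ?_, ?_⟩
        · rw [e1, V_mul_add p _ _ hlt, V_mul_add p _ _ hr, V_mul_add p _ _ hr']
          omega
        · rw [e1, w_mul_add p d _ _ hlt, w_mul_add p d _ _ hr, w_mul_add p d _ _ hr']
          have hxp : x ^ (r + r') = x ^ (r + r' - p) * ((p ! : A) * d x) := by
            rw [H.h1 x hx, ← pow_add]; congr 1; omega
          calc x ^ r * w p d m' (d x) * (x ^ r' * w p d n' (d x))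
              = x ^ (r + r') * (w p d m' (d x) * w p d n' (d x)) := by ring
            _ = x ^ (r + r' - p) * ((p ! : A) * ((p ! ^ e' : ℕ) : A)) *
                  (d x * w p d (m' + n') (d x)) := by rw [hxp, hw']; ring
            _ = _ := by rw [hw'']; push_cast; ring

lemma d_w (H : Hyp p I d) : ∀ (n : ℕ), n ≠ 0 → ∀ x ∈ I,
    ∃ e, e + 1 + p * V p n = n + V p n ∧
      d (w p d n x) = ((p ! ^ e : ℕ) : A) * w p d (p * n) x := by
  intro n
  induction n using Nat.strong_induction_on with
  | _ n ih =>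
    intro hn x hx
    obtain ⟨k, r, hr, rfl⟩ : ∃ k r, r < p ∧ n = p * k + r :=
      ⟨n / p, n % p, Nat.mod_lt _ hp.out.pos, (Nat.div_add_mod n p).symm⟩
    have h2k := Nat.mul_le_mul_right k hp.out.two_le
    have hdx := H.hdI x hx
    have hVd : p * (k + V p k) = p * k + p * V p k := Nat.mul_add _ _ _
    rcases Nat.eq_zero_or_pos r with rfl | hrpos
    · have hk : k ≠ 0 := by rintro rfl; exact hn (by simp)
      obtain ⟨e, he, hw⟩ := ih k (by omega) hk (d x) hdx
      refine ⟨e, ?_, ?_⟩
      · rw [V_mul_add p k 0 hr]; omega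
      · rw [add_zero, w_mul_p p d k x, hw, w_mul_p p d (p * k) x]
    · obtain ⟨e, he, hw⟩ := w_pow_p p d H k (d x) hdx
      obtain ⟨r', rfl⟩ : ∃ r', r = r' + 1 := ⟨r - 1, by omega⟩
      refine ⟨r' + e, ?_, ?_⟩
      · rw [V_mul_add p k _ hr]; omega
      · rw [w_mul_add p d k _ hr x]
        have e1 : x ^ (r' + 1) * w p d k (d x) = (x ^ r' * w p d k (d x)) * x := by ring
        rw [e1, H.h2 _ x hx, mul_pow, hw, ← pow_mul, mul_comm r' p, pow_mul, ← H.h1 x hx,
          w_mul_p, w_mul_p, w_mul_add p d k _ hr (d x)]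
        push_cast
        ring

end A


section Uniq
variable (p : ℕ) [hp : Fact p.Prime]

lemma not_dvd_uniformBell (k : ℕ) : ¬ p ∣ Nat.uniformBell k p := by
  have hp0 : p ≠ 0 := hp.out.ne_zero
  have h := Nat.uniformBell_mul_eq k hp0
  have hB : Nat.uniformBell k p ≠ 0 := by
    intro h0
    rw [h0, zero_mul, zero_mul] at h
    exact Nat.factorial_ne_zero _ h.symm
  have hv := congrArg (padicValNat p) h
  rw [padicValNat.mul (mul_ne_zero hB (pow_ne_zero _ (Nat.factorial_ne_zero _)))
      (Nat.factorial_ne_zero _),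
    padicValNat.mul hB (pow_ne_zero _ (Nat.factorial_ne_zero _)), padicValNat.pow] at hv
  have h1 : padicValNat p (p !) = 1 := V_self p
  have h2 : padicValNat p (k * p)! = k + padicValNat p k ! := by
    rw [mul_comm]; exact V_mul p k
  rw [h1, h2] at hv
  have h0 : padicValNat p (Nat.uniformBell k p) = 0 := by omega
  rcases padicValNat.eq_zero_iff.mp h0 with h | h | h
  · exact absurd h hp.out.ne_one
  · exact absurd h hB
  · exact h

variable {A : Type*} [CommRing A] {I : Ideal A}

lemma dpow_unique (hA : ∀ n : ℕ, ¬ p ∣ n → IsUnit (n : A)) (γ γ' : DividedPowers I)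
    (h : ∀ x ∈ I, γ.dpow p x = γ'.dpow p x) :
    ∀ n : ℕ, ∀ x ∈ I, γ.dpow n x = γ'.dpow n x := by
  intro n
  induction n using Nat.strong_induction_on with
  | _ n ih =>
    intro x hx
    rcases eq_or_ne n 0 with rfl | hn
    · rw [γ.dpow_zero hx, γ'.dpow_zero hx]
    by_cases hpn : p ∣ n
    · obtain ⟨k, rfl⟩ := hpn
      have hk : k ≠ 0 := by rintro rfl; exact hn (mul_zero p)
      have h2k := Nat.mul_le_mul_right k hp.out.two_le
      have hklt : k < p * k := by omega
      have hB := hA _ (not_dvd_uniformBell p k)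
      have e1 := γ.dpow_comp (m := k) (hp.out.ne_zero) hx
      have e2 := γ'.dpow_comp (m := k) (hp.out.ne_zero) hx
      rw [mul_comm k p] at e1 e2
      apply hB.mul_left_cancel
      rw [← e1, ← e2, h x hx]
      exact ih k hklt _ (γ'.dpow_mem hp.out.ne_zero hx)
    · have hu := hA n hpn
      have e1 := γ.mul_dpow (m := 1) (n := n - 1) hx
      have e2 := γ'.mul_dpow (m := 1) (n := n - 1) hx
      have hn1 : 1 + (n - 1) = n := by omega
      rw [hn1, Nat.choose_one_right, γ.dpow_one hx] at e1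
      rw [hn1, Nat.choose_one_right, γ'.dpow_one hx] at e2
      apply hu.mul_left_cancel
      rw [← e1, ← e2, ih (n - 1) (by omega) x hx]

end Uniq

end Groth.Agent.H4.DPowA
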