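import Groth.Agent.H4.DPowA
import Mathlib.Data.Nat.Prime.Factorial

set_option autoImplicit false
set_option linter.unusedSectionVars false
set_option linter.unusedVariables false

namespace Groth.Agent.H4.DPowB
open scoped Nat
open Groth.Agent.H4.DPowA

abbrev T := MvPolynomial (Fin 2) ℚ

/-- `E n t = t^n / n!` -/
noncomputable def E (n : ℕ) (t : T) : T := (((n ! : ℕ) : ℚ))⁻¹ • t ^ n

lemma E_zero (t : T) : E 0 t = 1 := by simp [E]
lemma E_one (t : T) : E 1 t = t := by simp [E]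

open Classical in
noncomputable def hT : DividedPowers (⊤ : Ideal T) := DividedPowers.RatAlgebra.dividedPowers ⊤

lemma hT_dpow (n : ℕ) (t : T) : hT.dpow n t = E n t := by
  rw [DividedPowers.RatAlgebra.dpow_eq_inv_fact_smul ⊤ hT (Submodule.mem_top),
    Ring.inverse_eq_inv']
  rfl

lemma E_add (n : ℕ) (t t' : T) :
    E n (t + t') = ∑ k ∈ Finset.antidiagonal n, E k.1 t * E k.2 t' := by
  have := hT.dpow_add (n := n) (x := t) (y := t') Submodule.mem_top Submodule.mem_top
  simpa only [hT_dpow] using this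

lemma E_mul (m n : ℕ) (t : T) :
    E m t * E n t = ((Nat.choose (m + n) m : ℕ) : ℚ) • E (m + n) t := by
  have := hT.mul_dpow (m := m) (n := n) (x := t) Submodule.mem_top
  simp only [hT_dpow] at this
  rw [this, Nat.cast_smul_eq_nsmul ℚ, nsmul_eq_mul]

lemma E_comp (m n : ℕ) (hn : n ≠ 0) (t : T) :
    E m (E n t) = ((Nat.uniformBell m n : ℕ) : ℚ) • E (m * n) t := by
  have := hT.dpow_comp (m := m) (n := n) (x := t) hn Submodule.mem_top
  simp only [hT_dpow] at this
  rw [this, Nat.cast_smul_eq_nsmul ℚ, nsmul_eq_mul]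

lemma sum_antidiagonal_split {M : Type*} [AddCommMonoid M] (p : ℕ) (hp : p ≠ 0)
    (F : ℕ × ℕ → M) :
    ∑ k ∈ Finset.antidiagonal p, F k = F (0, p) + F (p, 0) +
      ∑ k ∈ (Finset.antidiagonal p).filter (fun k => 0 < k.1 ∧ 0 < k.2), F k := by
  rw [← Finset.sum_filter_add_sum_filter_not (Finset.antidiagonal p)
    (fun k => 0 < k.1 ∧ 0 < k.2), add_comm]
  congr 1
  have : (Finset.antidiagonal p).filter (fun k => ¬ (0 < k.1 ∧ 0 < k.2)) =
      {(0, p), (p, 0)} := by
    ext ⟨i, j⟩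
    simp only [Finset.mem_filter, Finset.mem_antidiagonal, Finset.mem_insert,
      Finset.mem_singleton, Prod.mk.injEq]
    omega
  rw [this, Finset.sum_pair]
  intro h
  exact hp (Prod.mk.inj h).2

lemma qhelp1 (P : ℚ) (hP : P ≠ 0) (e a b c : ℕ) (h : e + a + b = c) :
    (P ^ a)⁻¹ * (P ^ b)⁻¹ = P ^ e * (P ^ c)⁻¹ := by
  subst h
  rw [pow_add, pow_add]
  field_simp

lemma qhelp2 (P : ℚ) (hP : P ≠ 0) (e a c q : ℕ) (h : e + 1 + q * a = c) :
    P⁻¹ * ((P ^ a)⁻¹) ^ q = P ^ e * (P ^ c)⁻¹ := by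
  subst h
  rw [pow_add, pow_add, pow_one, pow_mul', inv_pow]
  field_simp

section
variable (p : ℕ)

noncomputable def VV (a : Fin 2 →₀ ℕ) : ℕ := V p (a 0) + V p (a 1)

noncomputable def xi (a : Fin 2 →₀ ℕ) : T :=
  MvPolynomial.monomial a ((((p ! : ℕ) : ℚ)) ^ VV p a)⁻¹

lemma xi_mul_xi (a b : Fin 2 →₀ ℕ) (e : ℕ) (he : e + VV p a + VV p b = VV p (a + b)) :
    xi p a * xi p b = (((p ! ^ e : ℕ) : ℚ)) • xi p (a + b) := by
  unfold xi
  rw [MvPolynomial.monomial_mul, MvPolynomial.smul_monomial, smul_eq_mul]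
  congr 1
  push_cast
  exact qhelp1 _ (Nat.cast_ne_zero.mpr (Nat.factorial_ne_zero p)) e _ _ _ he

lemma E_p_xi (a : Fin 2 →₀ ℕ) (e : ℕ) (he : e + 1 + p * VV p a = VV p (p • a)) :
    E p (xi p a) = (((p ! ^ e : ℕ) : ℚ)) • xi p (p • a) := by
  unfold E xi
  rw [MvPolynomial.monomial_pow, MvPolynomial.smul_monomial, MvPolynomial.smul_monomial,
    smul_eq_mul, smul_eq_mul]
  congr 1
  push_cast
  exact qhelp2 _ (Nat.cast_ne_zero.mpr (Nat.factorial_ne_zero p)) e _ _ p he

lemma VV_smul [hp : Fact p.Prime] (a : Fin 2 →₀ ℕ) :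
    VV p (p • a) = (a 0 + V p (a 0)) + (a 1 + V p (a 1)) := by
  simp only [VV, Finsupp.smul_apply, smul_eq_mul, V_mul]

variable {A : Type*} [CommRing A] (d : A → A)

def W (x y : A) (a : Fin 2 →₀ ℕ) : A := w p d (a 0) x * w p d (a 1) y

inductive Rel (x y : A) : T → A → Prop
  | base (a : Fin 2 →₀ ℕ) (ha : a ≠ 0) : Rel x y (xi p a) (W p d x y a)
  | zero : Rel x y 0 0
  | add {t t' : T} {z z' : A} : Rel x y t z → Rel x y t' z' → Rel x y (t + t') (z + z')
  | smul (n N : ℕ) (hN : ¬ p ∣ N) {t : T} {z : A} : Rel x y t z →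
      Rel x y (((n : ℚ) / (N : ℚ)) • t) ((n : A) * Ring.inverse (N : A) * z)

variable [hp : Fact p.Prime] {I : Ideal A}

lemma W_mem (H : Hyp p I d) {x y : A} (hx : x ∈ I) (hy : y ∈ I) (a : Fin 2 →₀ ℕ)
    (ha : a ≠ 0) : W p d x y a ∈ I := by
  unfold W
  by_cases h0 : a 0 = 0
  · have h1 : a 1 ≠ 0 := fun h1 => ha (Finsupp.ext (Fin.forall_fin_two.mpr ⟨h0, h1⟩))
    exact I.mul_mem_left _ (w_mem p d H _ h1 y hy)
  · exact I.mul_mem_right _ (w_mem p d H _ h0 x hx)

lemma W_mul_W (H : Hyp p I d) {x y : A} (hx : x ∈ I) (hy : y ∈ I) (a b : Fin 2 →₀ ℕ) :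
    ∃ e, e + VV p a + VV p b = VV p (a + b) ∧
      W p d x y a * W p d x y b = ((p ! ^ e : ℕ) : A) * W p d x y (a + b) := by
  obtain ⟨e0, he0, hw0⟩ := w_mul_w p d H _ (a 0) (b 0) rfl x hx
  obtain ⟨e1, he1, hw1⟩ := w_mul_w p d H _ (a 1) (b 1) rfl y hy
  refine ⟨e0 + e1, ?_, ?_⟩
  · simp only [VV, Finsupp.add_apply]; omega
  · simp only [W, Finsupp.add_apply]
    calc w p d (a 0) x * w p d (a 1) y * (w p d (b 0) x * w p d (b 1) y)
        = (w p d (a 0) x * w p d (b 0) x) * (w p d (a 1) y * w p d (b 1) y) := by ring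
      _ = _ := by rw [hw0, hw1]; push_cast; ring

lemma d_W (H : Hyp p I d) {x y : A} (hx : x ∈ I) (hy : y ∈ I) (a : Fin 2 →₀ ℕ)
    (ha : a ≠ 0) :
    ∃ e, e + 1 + p * VV p a = VV p (p • a) ∧
      d (W p d x y a) = ((p ! ^ e : ℕ) : A) * W p d x y (p • a) := by
  have hVd : p * (V p (a 0) + V p (a 1)) = p * V p (a 0) + p * V p (a 1) := Nat.mul_add _ _ _
  by_cases h0 : a 0 = 0
  · have h1 : a 1 ≠ 0 := fun h1 => ha (Finsupp.ext (Fin.forall_fin_two.mpr ⟨h0, h1⟩))
    obtain ⟨e1, he1, hd1⟩ := d_w p d H (a 1) h1 y hy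
    obtain ⟨e0, he0, hw0⟩ := w_pow_p p d H (a 0) x hx
    refine ⟨e0 + e1, ?_, ?_⟩
    · rw [VV_smul]; unfold VV; omega
    · simp only [W, Finsupp.smul_apply, smul_eq_mul]
      rw [H.h2 _ _ (w_mem p d H _ h1 y hy), hw0, hd1]
      push_cast; ring
  · obtain ⟨e0, he0, hd0⟩ := d_w p d H (a 0) h0 x hx
    obtain ⟨e1, he1, hw1⟩ := w_pow_p p d H (a 1) y hy
    refine ⟨e0 + e1, ?_, ?_⟩
    · rw [VV_smul]; unfold VV; omega
    · simp only [W, Finsupp.smul_apply, smul_eq_mul]
      rw [mul_comm (w p d (a 0) x), H.h2 _ _ (w_mem p d H _ h0 x hx), hw1, hd0]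
      push_cast; ring

variable {p d}
variable {x y : A}

lemma Rel.nsmul (n : ℕ) {t : T} {z : A} (h : Rel p d x y t z) :
    Rel p d x y ((n : ℚ) • t) ((n : A) * z) := by
  have := Rel.smul n 1 (Nat.Prime.not_dvd_one hp.out) h
  rw [Nat.cast_one, div_one, Nat.cast_one, Ring.inverse_one, mul_one] at this
  exact this

lemma Rel.mem (H : Hyp p I d) (hx : x ∈ I) (hy : y ∈ I) {t : T} {z : A}
    (h : Rel p d x y t z) : z ∈ I := by
  induction h with
  | base a ha => exact W_mem p d H hx hy a ha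
  | zero => exact I.zero_mem
  | add _ _ ih1 ih2 => exact I.add_mem ih1 ih2
  | smul n N hN _ ih => exact I.mul_mem_left _ ih

lemma Rel.sum {ι : Type*} (s : Finset ι) (f : ι → T) (g : ι → A)
    (h : ∀ i ∈ s, Rel p d x y (f i) (g i)) :
    Rel p d x y (∑ i ∈ s, f i) (∑ i ∈ s, g i) := by
  classical
  induction s using Finset.induction_on with
  | empty => simpa using (Rel.zero : Rel p d x y 0 0)
  | insert i s hi ih =>
    rw [Finset.sum_insert hi, Finset.sum_insert hi]
    exact Rel.add (h i (Finset.mem_insert_self i s))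
      (ih fun j hj => h j (Finset.mem_insert_of_mem hj))

lemma Rel.base_mul_base (H : Hyp p I d) (hx : x ∈ I) (hy : y ∈ I) (a b : Fin 2 →₀ ℕ)
    (ha : a ≠ 0) : Rel p d x y (xi p a * xi p b) (W p d x y a * W p d x y b) := by
  obtain ⟨e, he, hW⟩ := W_mul_W p d H hx hy a b
  rw [xi_mul_xi p a b e he, hW]
  have hab : a + b ≠ 0 := by
    intro h
    apply ha
    ext i
    have := DFunLike.congr_fun h i
    simp only [Finsupp.add_apply, Finsupp.coe_zero, Pi.zero_apply] at this ⊢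
    omega
  exact Rel.nsmul _ (Rel.base (a + b) hab)

lemma Rel.mul (H : Hyp p I d) (hx : x ∈ I) (hy : y ∈ I) {t t' : T} {z z' : A}
    (h : Rel p d x y t z) (h' : Rel p d x y t' z') : Rel p d x y (t * t') (z * z') := by
  induction h with
  | base a ha =>
    induction h' with
    | base b hb => exact Rel.base_mul_base H hx hy a b ha
    | zero => rw [mul_zero, mul_zero]; exact Rel.zero
    | add _ _ ih1 ih2 => rw [mul_add, mul_add]; exact Rel.add ih1 ih2
    | @smul n N hN t₁ z₁ _ ih =>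
      rw [mul_smul_comm, mul_left_comm (W p d x y a) _ z₁]
      exact Rel.smul n N hN ih
  | zero => rw [zero_mul, zero_mul]; exact Rel.zero
  | add _ _ ih1 ih2 => rw [add_mul, add_mul]; exact Rel.add ih1 ih2
  | @smul n N hN t₁ z₁ _ ih =>
    rw [smul_mul_assoc, mul_assoc _ z₁ z']
    exact Rel.smul n N hN ih

lemma Rel.pow (H : Hyp p I d) (hx : x ∈ I) (hy : y ∈ I) {t : T} {z : A}
    (h : Rel p d x y t z) : ∀ n : ℕ, n ≠ 0 → Rel p d x y (t ^ n) (z ^ n)
  | 0, h0 => absurd rfl h0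
  | 1, _ => by rw [pow_one, pow_one]; exact h
  | (n + 2), _ => by
    rw [pow_succ t, pow_succ z]
    exact Rel.mul H hx hy (Rel.pow H hx hy h (n + 1) (Nat.succ_ne_zero n)) h

lemma Rel.clEp (H : Hyp p I d) (hx : x ∈ I) (hy : y ∈ I) {t : T} {z : A}
    (h : Rel p d x y t z) : Rel p d x y (E p t) (d z) := by
  induction h with
  | base a ha =>
    obtain ⟨e, he, hd⟩ := d_W p d H hx hy a ha
    rw [E_p_xi p a e he, hd]
    have hpa : p • a ≠ 0 := by
      intro h
      apply ha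
      ext i
      have := DFunLike.congr_fun h i
      simp only [Finsupp.smul_apply, smul_eq_mul, Finsupp.coe_zero, Pi.zero_apply,
        mul_eq_zero] at this ⊢
      rcases this with h | h
      · exact absurd h hp.out.ne_zero
      · exact h
    exact Rel.nsmul _ (Rel.base (p • a) hpa)
  | zero =>
    have : E p (0 : T) = 0 := by
      unfold E; rw [zero_pow hp.out.ne_zero, smul_zero]
    rw [this, H.d_zero]; exact Rel.zero
  | @add t₁ t₂ z₁ z₂ h₁ h₂ ih₁ ih₂ =>
    have hz₁ := h₁.mem H hx hy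
    have hz₂ := h₂.mem H hx hy
    rw [H.h3 z₁ hz₁ z₂ hz₂, E_add, sum_antidiagonal_split p hp.out.ne_zero]
    simp only [E_zero, one_mul, mul_one]
    rw [add_comm (E p t₂) (E p t₁)]
    refine Rel.add (Rel.add ih₁ ih₂) (Rel.sum _ _ _ ?_)
    intro k hk
    rw [Finset.mem_filter, Finset.mem_antidiagonal] at hk
    obtain ⟨hk0, hk1, hk2⟩ := hk
    have hN : ¬ p ∣ k.1 ! * k.2 ! := by
      intro hd
      rcases (Nat.Prime.dvd_mul hp.out).mp hd with h | h
      · have := (Nat.Prime.dvd_factorial hp.out).mp h; omega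
      · have := (Nat.Prime.dvd_factorial hp.out).mp h; omega
    have hr := Rel.smul 1 (k.1 ! * k.2 !) hN
      (Rel.mul H hx hy (h₁.pow H hx hy k.1 (by omega)) (h₂.pow H hx hy k.2 (by omega)))
    convert hr using 1
    · unfold E
      rw [smul_mul_smul_comm]
      congr 1
      push_cast
      rw [one_div, mul_inv]
    · push_cast; ring
  | @smul n N hN t₁ z₁ h₁ ih =>
    have hz := h₁.mem H hx hy
    have e1 : E p (((n : ℚ) / (N : ℚ)) • t₁) =
        (((n ^ p : ℕ) : ℚ) / ((N ^ p : ℕ) : ℚ)) • E p t₁ := by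
      unfold E
      rw [smul_pow, smul_smul, smul_smul]
      congr 1
      push_cast
      rw [div_pow]; ring
    have e2 : d ((n : A) * Ring.inverse (N : A) * z₁) =
        ((n ^ p : ℕ) : A) * Ring.inverse ((N ^ p : ℕ) : A) * d z₁ := by
      rw [H.h2 _ _ hz, mul_pow, Ring.inverse_pow]; push_cast; rfl
    rw [e1, e2]
    exact Rel.smul _ _ (fun hd => hN (Nat.Prime.dvd_of_dvd_pow hp.out hd)) ih

lemma Rel.clw (H : Hyp p I d) (hx : x ∈ I) (hy : y ∈ I) :
    ∀ n : ℕ, n ≠ 0 → ∀ {t : T} {z : A}, Rel p d x y t z →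
      Rel p d x y (w p (E p) n t) (w p d n z) := by
  intro n
  induction n using Nat.strong_induction_on with
  | _ n ih =>
    intro hn t z h
    rw [w_eq p (E p) n t, w_eq p d n z]
    have hlt : n / p < n := Nat.div_lt_self (Nat.pos_of_ne_zero hn) hp.out.one_lt
    by_cases hk : n / p = 0
    · rw [hk, w_zero, w_zero, mul_one, mul_one]
      have hr : n % p ≠ 0 := by
        intro h0
        have := Nat.div_add_mod n p
        rw [hk, h0, mul_zero, add_zero] at this
        exact hn this.symm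
      exact h.pow H hx hy _ hr
    · have h1 := ih _ hlt hk (h.clEp H hx hy)
      by_cases hr : n % p = 0
      · rw [hr, pow_zero, pow_zero, one_mul, one_mul]; exact h1
      · exact Rel.mul H hx hy (h.pow H hx hy _ hr) h1

end


section Main
variable (p : ℕ) [hp : Fact p.Prime] {A : Type*} [CommRing A] (d : A → A) {I : Ideal A}

lemma wT_eq : ∀ (n : ℕ) (t : T),
    w p (E p) n t = ((((p ! : ℕ) : ℚ) ^ V p n)⁻¹) • t ^ n := by
  intro n
  induction n using Nat.strong_induction_on with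
  | _ n ih =>
    intro t
    rcases eq_or_ne n 0 with rfl | hn
    · simp [w_zero, V_zero]
    · have hlt : n / p < n := Nat.div_lt_self (Nat.pos_of_ne_zero hn) hp.out.one_lt
      rw [w_eq, ih _ hlt, V_eq p n]
      have hs : (((p ! : ℕ) : ℚ) ^ (n / p + V p (n / p)))⁻¹ =
          (((p ! : ℕ) : ℚ) ^ V p (n / p))⁻¹ * ((((p ! : ℕ) : ℚ))⁻¹) ^ (n / p) := by
        rw [pow_add, mul_inv, inv_pow, mul_comm]
      rw [hs]
      unfold E
      rw [smul_pow, ← pow_mul, mul_smul_comm, mul_smul_comm, smul_smul, ← pow_add,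
        Nat.mod_add_div]

/-- numerator of the unit `(p!)^{v_p(n!)}/n!`. -/
noncomputable def cN (n : ℕ) : ℕ := (p - 1)! ^ V p n

/-- the divided power `γ_n(z) = ((p!)^{v_p(n!)}/n!) w_n(z)`. -/
noncomputable def gam (n : ℕ) (z : A) : A :=
  ((cN p n : ℕ) : A) * Ring.inverse ((M p n : ℕ) : A) * w p d n z

lemma E_eq (n : ℕ) (t : T) :
    E n t = (((cN p n : ℕ) : ℚ) / ((M p n : ℕ) : ℚ)) • w p (E p) n t := by
  rw [wT_eq, smul_smul]
  unfold E
  congr 1
  have h1 : ((n ! : ℕ) : ℚ) = (p : ℚ) ^ V p n * ((M p n : ℕ) : ℚ) := by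
    exact_mod_cast (pow_V_mul_M p n).symm
  have h2 : ((p ! : ℕ) : ℚ) = (p : ℚ) * (((p - 1)! : ℕ) : ℚ) := by
    exact_mod_cast (Nat.mul_factorial_pred hp.out.pos.ne').symm
  have hp0 : (p : ℚ) ≠ 0 := Nat.cast_ne_zero.mpr hp.out.ne_zero
  have hM0 : ((M p n : ℕ) : ℚ) ≠ 0 := by
    have : M p n ≠ 0 := by intro h; exact not_dvd_M p n (h ▸ dvd_zero p)
    exact_mod_cast this
  have hQ0 : (((p - 1)! : ℕ) : ℚ) ≠ 0 := Nat.cast_ne_zero.mpr (Nat.factorial_ne_zero _)
  rw [h1, h2, cN]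
  push_cast
  rw [mul_pow]
  field_simp

lemma Rel.clE (H : Hyp p I d) {x y : A} (hx : x ∈ I) (hy : y ∈ I) {t : T} {z : A}
    (h : Rel p d x y t z) (n : ℕ) (hn : n ≠ 0) : Rel p d x y (E n t) (gam p d n z) := by
  rw [E_eq p n t]
  exact Rel.smul _ _ (not_dvd_M p n) (Rel.clw H hx hy n hn h)

lemma coeff_Psi (f : (Fin 2 →₀ ℕ) →₀ ℕ) (a : Fin 2 →₀ ℕ) :
    MvPolynomial.coeff a (Finsupp.linearCombination ℕ (xi p) f) =
      (f a : ℚ) * ((((p ! : ℕ) : ℚ)) ^ VV p a)⁻¹ := by
  induction f using Finsupp.induction_linear with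
  | zero => simp
  | add f g hf hg =>
    rw [map_add, MvPolynomial.coeff_add, hf, hg, Finsupp.add_apply]; push_cast; ring
  | single b c =>
    rw [Finsupp.linearCombination_single]
    unfold xi
    rw [← Nat.cast_smul_eq_nsmul ℚ, MvPolynomial.coeff_smul, MvPolynomial.coeff_monomial,
      Finsupp.single_apply]
    by_cases hba : b = a
    · subst hba; simp
    · simp [hba]

lemma Psi_inj {f g : (Fin 2 →₀ ℕ) →₀ ℕ}
    (h : Finsupp.linearCombination ℕ (xi p) f = Finsupp.linearCombination ℕ (xi p) g) :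
    f = g := by
  ext a
  have := congrArg (MvPolynomial.coeff a) h
  rw [coeff_Psi, coeff_Psi] at this
  have hq : ((((p ! : ℕ) : ℚ)) ^ VV p a)⁻¹ ≠ 0 :=
    inv_ne_zero (pow_ne_zero _ (Nat.cast_ne_zero.mpr (Nat.factorial_ne_zero p)))
  exact_mod_cast mul_right_cancel₀ hq this

lemma Rel.normal (H : Hyp p I d) {x y : A} {t : T} {z : A} (h : Rel p d x y t z) :
    ∃ (N : ℕ) (f : (Fin 2 →₀ ℕ) →₀ ℕ), ¬ p ∣ N ∧
      N • t = Finsupp.linearCombination ℕ (xi p) f ∧
      N • z = Finsupp.linearCombination ℕ (W p d x y) f := by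
  induction h with
  | base a ha =>
    refine ⟨1, Finsupp.single a 1, Nat.Prime.not_dvd_one hp.out, ?_, ?_⟩
    · rw [Finsupp.linearCombination_single]
    · rw [Finsupp.linearCombination_single]
  | zero =>
    exact ⟨1, 0, Nat.Prime.not_dvd_one hp.out, by simp, by simp⟩
  | @add t₁ t₂ z₁ z₂ _ _ ih1 ih2 =>
    obtain ⟨N1, f1, hN1, e1, e1'⟩ := ih1
    obtain ⟨N2, f2, hN2, e2, e2'⟩ := ih2
    refine ⟨N1 * N2, N2 • f1 + N1 • f2, ?_, ?_, ?_⟩
    · intro hd
      rcases (Nat.Prime.dvd_mul hp.out).mp hd with h | h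
      · exact hN1 h
      · exact hN2 h
    · have ha : (N1 * N2) • t₁ = N2 • (N1 • t₁) := by rw [mul_comm, mul_smul]
      have hb : (N1 * N2) • t₂ = N1 • (N2 • t₂) := mul_smul _ _ _
      rw [smul_add, ha, hb, e1, e2, map_add, map_nsmul, map_nsmul]
    · have ha : (N1 * N2) • z₁ = N2 • (N1 • z₁) := by rw [mul_comm, mul_smul]
      have hb : (N1 * N2) • z₂ = N1 • (N2 • z₂) := mul_smul _ _ _
      rw [smul_add, ha, hb, e1', e2', map_add, map_nsmul, map_nsmul]
  | @smul n N₀ hN₀ t₁ z₁ _ ih =>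
    obtain ⟨N, f, hN, e1, e2⟩ := ih
    have hN0 : (N₀ : ℚ) ≠ 0 := by
      have : N₀ ≠ 0 := by rintro rfl; exact hN₀ (dvd_zero p)
      exact_mod_cast this
    have hu : (N₀ : A) * Ring.inverse (N₀ : A) = 1 :=
      Ring.mul_inverse_cancel _ (H.hA N₀ hN₀)
    refine ⟨N * N₀, n • f, ?_, ?_, ?_⟩
    · intro hd
      rcases (Nat.Prime.dvd_mul hp.out).mp hd with h | h
      · exact hN h
      · exact hN₀ h
    · rw [map_nsmul, ← e1, ← Nat.cast_smul_eq_nsmul ℚ (N * N₀), ← Nat.cast_smul_eq_nsmul ℚ n,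
        ← Nat.cast_smul_eq_nsmul ℚ N, smul_smul, smul_smul]
      congr 1
      push_cast
      field_simp
    · rw [map_nsmul, ← e2]
      simp only [nsmul_eq_mul]
      push_cast
      calc (N : A) * (N₀ : A) * ((n : A) * Ring.inverse (N₀ : A) * z₁)
          = ((N₀ : A) * Ring.inverse (N₀ : A)) * ((n : A) * ((N : A) * z₁)) := by ring
        _ = (n : A) * ((N : A) * z₁) := by rw [hu, one_mul]

lemma Rel.functional (H : Hyp p I d) {x y : A} {t : T} {z z' : A}
    (h : Rel p d x y t z) (h' : Rel p d x y t z') : z = z' := by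
  obtain ⟨N, f, hN, e1, e2⟩ := Rel.normal p d H h
  obtain ⟨N', f', hN', e1', e2'⟩ := Rel.normal p d H h'
  have hf : N' • f = N • f' := by
    apply Psi_inj p
    rw [map_nsmul, map_nsmul, ← e1, ← e1', smul_comm]
  have hz : N' • (N • z) = N • (N' • z') := by
    rw [e2, e2', ← map_nsmul, ← map_nsmul, hf]
  have hu : IsUnit ((N * N' : ℕ) : A) := H.hA _ (by
    intro hd
    rcases (Nat.Prime.dvd_mul hp.out).mp hd with h | h
    · exact hN h
    · exact hN' h)
  apply hu.mul_left_cancel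
  simp only [nsmul_eq_mul] at hz
  push_cast
  linear_combination hz

noncomputable def uu : T := xi p (Finsupp.single 0 1)
noncomputable def vv : T := xi p (Finsupp.single 1 1)

lemma Rel_u (x y : A) : Rel p d x y (uu p) x := by
  have h := Rel.base (p := p) (d := d) (x := x) (y := y) (Finsupp.single 0 1) (by
    intro h
    have := DFunLike.congr_fun h 0
    simp at this)
  have hW : W p d x y (Finsupp.single 0 1) = x := by
    simp [W, w_one, w_zero, Finsupp.single_apply]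
  rw [hW] at h
  exact h

lemma Rel_v (x y : A) : Rel p d x y (vv p) y := by
  have h := Rel.base (p := p) (d := d) (x := x) (y := y) (Finsupp.single 1 1) (by
    intro h
    have := DFunLike.congr_fun h 1
    simp at this)
  have hW : W p d x y (Finsupp.single 1 1) = y := by
    simp [W, w_one, w_zero, Finsupp.single_apply]
  rw [hW] at h
  exact h

lemma gam_zero (z : A) : gam p d 0 z = 1 := by
  simp [gam, cN, V_zero, M_zero, w_zero]

lemma gam_one (z : A) : gam p d 1 z = z := by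
  simp [gam, cN, V_one, M_one, w_one]

lemma gam_self (H : Hyp p I d) (z : A) : gam p d p z = d z := by
  unfold gam cN
  rw [V_self, pow_one, M_self, w_self]
  have hu : IsUnit (((p - 1)! : ℕ) : A) := H.hA _ (by
    intro h
    have := (Nat.Prime.dvd_factorial hp.out).mp h
    have := hp.out.pos
    omega)
  rw [Ring.mul_inverse_cancel _ hu, one_mul]

lemma gam_mem (H : Hyp p I d) {n : ℕ} (hn : n ≠ 0) {z : A} (hz : z ∈ I) :
    gam p d n z ∈ I :=
  I.mul_mem_left _ (w_mem p d H n hn z hz)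

lemma gam_smul (H : Hyp p I d) (n : ℕ) (a z : A) (hz : z ∈ I) :
    gam p d n (a * z) = a ^ n * gam p d n z := by
  unfold gam; rw [w_smul p d H n a z hz]; ring

lemma gam_add (H : Hyp p I d) {x y : A} (hx : x ∈ I) (hy : y ∈ I) (n : ℕ) :
    gam p d n (x + y) = ∑ k ∈ Finset.antidiagonal n, gam p d k.1 x * gam p d k.2 y := by
  rcases eq_or_ne n 0 with rfl | hn
  · simp [gam_zero]
  · have hu := Rel_u p d x y
    have hv := Rel_v p d x y
    have R1 := Rel.clE p d H hx hy (Rel.add hu hv) n hn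
    have R2 : Rel p d x y (∑ k ∈ Finset.antidiagonal n, E k.1 (uu p) * E k.2 (vv p))
        (∑ k ∈ Finset.antidiagonal n, gam p d k.1 x * gam p d k.2 y) := by
      apply Rel.sum
      intro k hk
      rw [Finset.mem_antidiagonal] at hk
      rcases Nat.eq_zero_or_pos k.1 with h1 | h1
      · have h2 : k.2 ≠ 0 := by omega
        rw [h1, E_zero, gam_zero, one_mul, one_mul]
        exact Rel.clE p d H hx hy hv _ h2
      · rcases Nat.eq_zero_or_pos k.2 with h2 | h2
        · rw [h2, E_zero, gam_zero, mul_one, mul_one]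
          exact Rel.clE p d H hx hy hu _ (by omega)
        · exact Rel.mul H hx hy (Rel.clE p d H hx hy hu _ (by omega))
            (Rel.clE p d H hx hy hv _ (by omega))
    rw [E_add] at R1
    exact Rel.functional p d H R1 R2

lemma gam_mul (H : Hyp p I d) {x : A} (hx : x ∈ I) (m n : ℕ) :
    gam p d m x * gam p d n x = ((Nat.choose (m + n) m : ℕ) : A) * gam p d (m + n) x := by
  rcases eq_or_ne m 0 with rfl | hm
  · simp [gam_zero]
  rcases eq_or_ne n 0 with rfl | hn
  · simp [gam_zero]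
  have hu := Rel_u p d x x
  have R1 := Rel.mul H hx hx (Rel.clE p d H hx hx hu m hm) (Rel.clE p d H hx hx hu n hn)
  have R2 := Rel.nsmul (Nat.choose (m + n) m) (Rel.clE p d H hx hx hu (m + n) (by omega))
  rw [E_mul] at R1
  exact Rel.functional p d H R1 R2

lemma gam_comp (H : Hyp p I d) {x : A} (hx : x ∈ I) (m n : ℕ) (hn : n ≠ 0) :
    gam p d m (gam p d n x) = ((Nat.uniformBell m n : ℕ) : A) * gam p d (m * n) x := by
  rcases eq_or_ne m 0 with rfl | hm
  · simp [gam_zero, Nat.uniformBell_zero_left]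
  have hu := Rel_u p d x x
  have R1 := Rel.clE p d H hx hx (Rel.clE p d H hx hx hu n hn) m hm
  have R2 := Rel.nsmul (Nat.uniformBell m n)
    (Rel.clE p d H hx hx hu (m * n) (Nat.mul_ne_zero hm hn))
  rw [E_comp m n hn] at R1
  exact Rel.functional p d H R1 R2

open Classical in
/-- The divided power structure with `γ_p = d`. -/
noncomputable def gamma (H : Hyp p I d) : DividedPowers I where
  dpow n x := if x ∈ I then gam p d n x else 0
  dpow_null := fun hx => if_neg hx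
  dpow_zero := fun hx => by rw [if_pos hx]; exact gam_zero p d _
  dpow_one := fun hx => by rw [if_pos hx]; exact gam_one p d _
  dpow_mem := fun hn hx => by rw [if_pos hx]; exact gam_mem p d H hn hx
  dpow_add := fun {n x y} hx hy => by
    rw [if_pos (I.add_mem hx hy)]
    simp only [if_pos hx, if_pos hy]
    exact gam_add p d H hx hy n
  dpow_mul := fun {n a x} hx => by
    rw [if_pos hx, if_pos (I.mul_mem_left a hx)]
    exact gam_smul p d H n a x hx
  mul_dpow := fun {m n x} hx => by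
    simp only [if_pos hx]
    exact gam_mul p d H hx m n
  dpow_comp := fun {m n x} hn hx => by
    simp only [if_pos hx, if_pos (gam_mem p d H hn hx)]
    exact gam_comp p d H hx m n hn

open Classical in
lemma gamma_dpow (H : Hyp p I d) (n : ℕ) {x : A} (hx : x ∈ I) :
    (gamma p d H).dpow n x = gam p d n x := if_pos hx

end Main

universe u

theorem main {A : Type u} [CommRing A] (p : ℕ) (hp : p.Prime)
    (hA : ∀ n : ℕ, ¬ p ∣ n → IsUnit (n : A)) {I : Ideal A} (d : A → A)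
    (hdI : ∀ x ∈ I, d x ∈ I) (h1 : ∀ x ∈ I, (p.factorial : A) * d x = x ^ p)
    (h2 : ∀ (a x : A), x ∈ I → d (a * x) = a ^ p * d x)
    (h3 : ∀ x ∈ I, ∀ y ∈ I, d (x + y) = d x + d y +
      ((Finset.antidiagonal p).filter fun k => 0 < k.1 ∧ 0 < k.2).sum
        fun k => Ring.inverse ((k.1.factorial * k.2.factorial : ℕ) : A) * x ^ k.1 * y ^ k.2) :
    ∃! γ : DividedPowers I, ∀ x ∈ I, γ.dpow p x = d x := by
  haveI : Fact p.Prime := ⟨hp⟩
  have H : Hyp p I d := ⟨hA, hdI, h1, h2, h3⟩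
  refine ⟨gamma p d H, ?_, ?_⟩
  · intro x hx
    rw [gamma_dpow p d H p hx, gam_self p d H]
  · intro γ' hγ'
    apply DividedPowers.ext
    intro n x hx
    exact dpow_unique p hA γ' (gamma p d H) (fun x hx => by
      rw [hγ' x hx, gamma_dpow p d H p hx, gam_self p d H]) n x hx

end Groth.Agent.H4.DPowB
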