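import Mathlib
import Groth.Prelude.Def_DCoh3
import Groth.Agent.Lib.Helper2.DCoprod1
import Groth.Agent.Lib.Helper1.SheafOfModulesGrothendieck
import Groth.Agent.Lib.Lead.QC.Closure

set_option autoImplicit false
universe w v u
attribute [local instance] HasDerivedCategory.standard
open CategoryTheory CategoryTheory.Limits AlgebraicGeometry DerivedCategory
open Groth.Agent.H2.CoprodCx Groth.Agent.H2.DCoprod

namespace Groth.Agent.H4.DSum1

section General

variable {A : Type u} [Category.{v} A] [Abelian A] {J : Type w}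
  [HasColimitsOfShape (Discrete J) A] [HasExactColimitsOfShape (Discrete J) A]

/-- the homology of the family complex, evaluated at `j` -/
noncomputable def famHomologyIso (K : J → CochainComplex A ℤ) (n : ℤ) (j : J) :
    ((fam K).homology n).obj ⟨j⟩ ≅ (K j).homology n :=
  (((fam K).sc n).mapHomologyIso ((evaluation (Discrete J) A).obj ⟨j⟩)).symm

/-- the homology of the termwise coproduct -/
noncomputable def sigHomologyIso (K : J → CochainComplex A ℤ) (n : ℤ) :
    (sig K).homology n ≅ colimit ((fam K).homology n) :=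
  ((fam K).sc n).mapHomologyIso (colim : (Discrete J ⥤ A) ⥤ A)

lemma prop_homology_sig (P : A → Prop) (hiso : ∀ {M N : A}, (M ≅ N) → P M → P N)
    (hP : ∀ G : Discrete J ⥤ A, (∀ j, P (G.obj j)) → P (colimit G))
    (K : J → CochainComplex A ℤ) (n : ℤ) (h : ∀ j, P ((K j).homology n)) :
    P ((sig K).homology n) := by
  refine hiso (sigHomologyIso K n).symm (hP _ ?_)
  rintro ⟨j⟩
  exact hiso (famHomologyIso K n j).symm (h j)

end General

theorem S1040 (X : Scheme.{u}) {ι : Type u} (K : ι → DCoh.D X) (hK : ∀ i, DCoh.IsQCohD (K i))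
    [HasCoproduct K] : DCoh.IsQCohD (∐ K) := by
  haveI : IsGrothendieckAbelian.{u} X.Modules :=
    Groth.Agent.H1.sheafOfModules_isGrothendieckAbelian
      (Opens.grothendieckTopology X) X.ringCatSheaf
  haveI : HasExactColimitsOfShape (Discrete ι) X.Modules :=
    (IsGrothendieckAbelian.ab4OfSize.{u} (C := X.Modules)).ofShape ι
  let F : ι → CochainComplex X.Modules ℤ := fun i => Q.objPreimage (K i)
  have e : ∀ i, Q.obj (F i) ≅ K i := fun i => Q.objObjPreimageIso (K i)
  have hc := isColimitMapCofan (isColimitSigCofan F)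
  let e' : ∐ K ≅ Q.obj (sig F) :=
    IsColimit.coconePointsIsoOfNatIso (colimit.isColimit (Discrete.functor K)) hc
      (Discrete.natIso (fun ⟨i⟩ => (e i).symm))
  intro n
  have h1 : ((sig F).homology n).IsQuasicoherent := by
    refine prop_homology_sig (fun M : X.Modules => M.IsQuasicoherent)
      (fun e h => Groth.Agent.LD.QC.qc_of_iso e h)
      (fun G hG => Groth.Agent.LD.QC.qc_colimit G hG) F n (fun j => ?_)
    exact Groth.Agent.LD.QC.qc_of_iso ((homologyFunctor X.Modules n).mapIso (e j).symm ≪≫
      (homologyFunctorFactors X.Modules n).app (F j)) (hK j n)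
  exact Groth.Agent.LD.QC.qc_of_iso (((homologyFunctorFactors X.Modules n).app (sig F)).symm ≪≫
    (homologyFunctor X.Modules n).mapIso e'.symm) h1

end Groth.Agent.H4.DSum1
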