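import Mathlib
set_option autoImplicit false
universe u
namespace Groth.Agent.H4.ValExt

section VR
variable (B : Type u) (L : Type u) [CommRing B] [IsDomain B] [ValuationRing B] [Field L] [Algebra B L]
  [IsFractionRing B L]

theorem v_le_one_iff (x : L) :
    ValuationRing.valuation B L x ≤ 1 ↔ ∃ b : B, algebraMap B L b = x := by
  rw [← ValuationRing.mem_integer_iff, Valuation.mem_integer_iff]

theorem v_algebraMap_le_one (b : B) : ValuationRing.valuation B L (algebraMap B L b) ≤ 1 :=
  (v_le_one_iff B L _).mpr ⟨b, rfl⟩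

theorem v_eq_one_iff (x : L) :
    ValuationRing.valuation B L x = 1 ↔ ∃ u : Bˣ, algebraMap B L (u : B) = x := by
  constructor
  · intro h
    have hx0 : x ≠ 0 := by
      intro h0
      rw [h0, map_zero] at h
      exact zero_ne_one h
    obtain ⟨b, hb⟩ := (v_le_one_iff B L x).mp h.le
    have h' : ValuationRing.valuation B L x⁻¹ ≤ 1 := by
      rw [map_inv₀, h, inv_one]
    obtain ⟨b', hb'⟩ := (v_le_one_iff B L x⁻¹).mp h'
    have hbb : b * b' = 1 := by
      apply IsFractionRing.injective B L
      rw [map_mul, hb, hb', map_one, mul_inv_cancel₀ hx0]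
    exact ⟨⟨b, b', hbb, by rw [mul_comm]; exact hbb⟩, hb⟩
  · rintro ⟨u, rfl⟩
    apply le_antisymm (v_algebraMap_le_one B L _)
    have h1 := v_algebraMap_le_one B L ((u⁻¹ : Bˣ) : B)
    have h2 : ValuationRing.valuation B L (algebraMap B L (u : B)) *
        ValuationRing.valuation B L (algebraMap B L ((u⁻¹ : Bˣ) : B)) = 1 := by
      rw [← map_mul, ← map_mul, Units.mul_inv, map_one, map_one]
    calc (1 : ValuationRing.ValueGroup B L) = _ := h2.symm
      _ ≤ ValuationRing.valuation B L (algebraMap B L (u : B)) * 1 := by gcongr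
      _ = _ := mul_one _

theorem v_lt_one_of_not_isUnit (b : B) (hb : ¬ IsUnit b) :
    ValuationRing.valuation B L (algebraMap B L b) < 1 := by
  refine lt_of_le_of_ne (v_algebraMap_le_one B L b) ?_
  intro h
  obtain ⟨u, hu⟩ := (v_eq_one_iff B L _).mp h
  have := IsFractionRing.injective B L hu
  exact hb (this ▸ u.isUnit)

theorem v_isUnit (b : B) (hb : IsUnit b) :
    ValuationRing.valuation B L (algebraMap B L b) = 1 :=
  (v_eq_one_iff B L _).mpr ⟨hb.unit, rfl⟩

/-- a finite sum of nonzero elements with pairwise distinct valuations is nonzero -/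
theorem sum_ne_zero_of_distinct {ι : Type*} (s : Finset ι) (hs : s.Nonempty) (t : ι → L)
    (ht : ∀ i ∈ s, t i ≠ 0)
    (hd : ∀ i ∈ s, ∀ j ∈ s, ValuationRing.valuation B L (t i) = ValuationRing.valuation B L (t j) → i = j) :
    ∑ i ∈ s, t i ≠ 0 := by
  classical
  obtain ⟨j, hj, hmax⟩ := Finset.exists_max_image s (fun i => ValuationRing.valuation B L (t i)) hs
  have h1 : ValuationRing.valuation B L (∑ i ∈ s, t i) = ValuationRing.valuation B L (t j) := by
    refine Valuation.map_sum_eq_of_lt _ hj ?_
    intro i hi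
    rw [Finset.mem_sdiff, Finset.mem_singleton] at hi
    refine lt_of_le_of_ne (hmax i hi.1) ?_
    intro h
    exact hi.2 (hd i hi.1 j hj h)
  intro h0
  rw [h0, map_zero] at h1
  exact ht j hj ((Valuation.zero_iff _).mp h1.symm)

end VR

section Ext
variable (A B K L : Type u) [CommRing A] [IsDomain A]
    [ValuationRing A] [CommRing B] [IsDomain B] [ValuationRing B] [Field K] [Field L]
    [Algebra A K] [IsFractionRing A K] [Algebra B L] [IsFractionRing B L] [Algebra A B] [Algebra K L]
    [Algebra A L] [IsScalarTower A K L] [IsScalarTower A B L]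
    [IsLocalHom (algebraMap A B)]

theorem sub1 {ι : Type*} [Fintype ι] (f : ι → K) (ω : ι → B)
    (hω : LinearIndependent (IsLocalRing.ResidueField A) (fun i => IsLocalRing.residue B (ω i)))
    (hf : ∃ i, f i ≠ 0) :
    ∃ i₀, f i₀ ≠ 0 ∧
      ValuationRing.valuation B L (∑ i, algebraMap K L (f i) * algebraMap B L (ω i)) =
        ValuationRing.valuation B L (algebraMap K L (f i₀)) := by
  classical
  obtain ⟨i₁, hi₁⟩ := hf
  obtain ⟨i₀, -, hmax⟩ := Finset.exists_max_image Finset.univ
    (fun i => ValuationRing.valuation A K (f i)) ⟨i₁, Finset.mem_univ _⟩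
  have hi₀ : f i₀ ≠ 0 := by
    intro h0
    have := hmax i₁ (Finset.mem_univ _)
    simp only [h0, map_zero, le_zero_iff, Valuation.zero_iff] at this
    exact hi₁ this
  have hv0 : ValuationRing.valuation A K (f i₀) ≠ 0 := (Valuation.ne_zero_iff _).mpr hi₀
  have hα : ∀ i, ∃ α : A, algebraMap A K α = f i / f i₀ := by
    intro i
    rw [← v_le_one_iff A K, map_div₀]
    exact div_le_one_of_le₀ (hmax i (Finset.mem_univ _)) zero_le
  choose α hα using hα
  have hα0 : α i₀ = 1 := by
    apply IsFractionRing.injective A K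
    rw [hα, div_self hi₀, map_one]
  let β : B := ∑ i, algebraMap A B (α i) * ω i
  have hβ : IsUnit β := by
    by_contra hnu
    have hres : IsLocalRing.residue B β = 0 := by
      rw [IsLocalRing.residue_eq_zero_iff]
      exact hnu
    have h2 : ∑ i, IsLocalRing.residue A (α i) • IsLocalRing.residue B (ω i) = 0 := by
      rw [← hres, map_sum]
      refine Finset.sum_congr rfl (fun i _ => ?_)
      rw [map_mul, Algebra.smul_def, IsLocalRing.ResidueField.algebraMap_residue]
    have h3 := Fintype.linearIndependent_iff.mp hω _ h2 i₀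
    rw [hα0, map_one] at h3
    exact one_ne_zero h3
  refine ⟨i₀, hi₀, ?_⟩
  have hsum : ∑ i, algebraMap K L (f i) * algebraMap B L (ω i) =
      algebraMap K L (f i₀) * algebraMap B L β := by
    rw [map_sum, Finset.mul_sum]
    refine Finset.sum_congr rfl (fun i _ => ?_)
    have e1 : f i = f i₀ * (f i / f i₀) := by field_simp
    rw [map_mul, ← IsScalarTower.algebraMap_apply A B L, IsScalarTower.algebraMap_apply A K L, hα]
    conv_lhs => rw [e1, map_mul]
    ring
  rw [hsum, map_mul, v_isUnit B L β hβ, mul_one]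

theorem core {ι J : Type*} [Fintype ι] [Fintype J] (ω : ι → B)
    (hω : LinearIndependent (IsLocalRing.ResidueField A) (fun i => IsLocalRing.residue B (ω i)))
    (π : J → Lˣ)
    (hπ : ∀ j j', (∃ (a : Kˣ) (u : Bˣ),
      (π j : L) = π j' * algebraMap K L a * algebraMap B L (u : B)) → j = j') :
    LinearIndependent K (fun p : ι × J => algebraMap B L (ω p.1) * (π p.2 : L)) := by
  classical
  rw [Fintype.linearIndependent_iff]
  intro g hg
  by_contra hne
  push Not at hne
  obtain ⟨⟨i₁, j₁⟩, hij⟩ := hne
  let c : J → L := fun j => ∑ i, algebraMap K L (g (i, j)) * algebraMap B L (ω i)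
  have hsum : ∑ j, c j * (π j : L) = 0 := by
    rw [← hg, Fintype.sum_prod_type_right]
    refine Finset.sum_congr rfl (fun j _ => ?_)
    rw [Finset.sum_mul]
    refine Finset.sum_congr rfl (fun i _ => ?_)
    rw [Algebra.smul_def]; ring
  let s : Finset J := Finset.univ.filter (fun j => ∃ i, g (i, j) ≠ 0)
  have hs : s.Nonempty := ⟨j₁, by
    simp only [s, Finset.mem_filter, Finset.mem_univ, true_and]
    exact ⟨i₁, hij⟩⟩
  have hc0 : ∀ j, j ∉ s → c j = 0 := by
    intro j hj
    simp only [s, Finset.mem_filter, Finset.mem_univ, true_and, not_exists, not_not] at hj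
    simp [c, hj]
  have hcv : ∀ j ∈ s, ∃ a : K, a ≠ 0 ∧
      ValuationRing.valuation B L (c j) = ValuationRing.valuation B L (algebraMap K L a) := by
    intro j hj
    simp only [s, Finset.mem_filter, Finset.mem_univ, true_and] at hj
    obtain ⟨i₀, h1, h2⟩ := sub1 A B K L (fun i => g (i, j)) ω hω hj
    exact ⟨_, h1, h2⟩
  have hsum' : ∑ j ∈ s, c j * (π j : L) = 0 := by
    rw [← hsum]
    exact Finset.sum_subset (Finset.subset_univ _) (fun j _ hj => by rw [hc0 j hj, zero_mul])
  have hKL : ∀ a : K, a ≠ 0 → algebraMap K L a ≠ 0 := fun a ha =>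
    (map_ne_zero_iff _ (algebraMap K L).injective).mpr ha
  refine sum_ne_zero_of_distinct B L s hs (fun j => c j * (π j : L)) ?_ ?_ hsum'
  · intro j hj
    obtain ⟨a, ha, hv⟩ := hcv j hj
    have : c j ≠ 0 := by
      intro h0
      rw [h0, map_zero] at hv
      exact hKL a ha ((Valuation.zero_iff _).mp hv.symm)
    exact mul_ne_zero this (π j).ne_zero
  · intro j hj j' hj' hv
    apply hπ
    obtain ⟨a, ha, hva⟩ := hcv j hj
    obtain ⟨a', ha', hva'⟩ := hcv j' hj'
    simp only [map_mul, hva, hva'] at hv
    have hz : ValuationRing.valuation B L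
        ((π j : L) * algebraMap K L a * ((π j' : L) * algebraMap K L a')⁻¹) = 1 := by
      rw [map_mul, map_inv₀, map_mul, map_mul, mul_comm (ValuationRing.valuation B L (π j : L)), hv,
        mul_comm (ValuationRing.valuation B L (π j' : L))]
      refine mul_inv_cancel₀ ?_
      rw [← map_mul, Valuation.ne_zero_iff]
      exact mul_ne_zero (hKL a' ha') (π j').ne_zero
    obtain ⟨u, hu⟩ := (v_eq_one_iff B L _).mp hz
    refine ⟨Units.mk0 (a' / a) (div_ne_zero ha' ha), u, ?_⟩
    rw [hu, Units.val_mk0, map_div₀]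
    have h1 := hKL a ha
    have h2 := hKL a' ha'
    have h3 := (π j').ne_zero
    field_simp

/-- units of `B` inside `Lˣ` -/
abbrev UB : Subgroup Lˣ := (Units.map (algebraMap B L).toMonoidHom).range

/-- image of `Kˣ` in `Lˣ ⧸ UB` -/
abbrev ΓA : Subgroup (Lˣ ⧸ UB B L) :=
  ((QuotientGroup.mk' (UB B L)).comp (Units.map (algebraMap K L).toMonoidHom)).range

theorem bound {ι J : Type*} [Fintype ι] [Fintype J] [FiniteDimensional K L] (ω : ι → B)
    (hω : LinearIndependent (IsLocalRing.ResidueField A) (fun i => IsLocalRing.residue B (ω i)))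
    (π : J → Lˣ)
    (hπ : Function.Injective (fun j => (QuotientGroup.mk (s := ΓA B K L)
      (QuotientGroup.mk (s := UB B L) (π j))))) :
    Fintype.card ι * Fintype.card J ≤ Module.finrank K L := by
  have h := core A B K L ω hω π ?_
  · have := h.fintype_card_le_finrank
    rwa [Fintype.card_prod] at this
  · rintro j j' ⟨a, u, hau⟩
    apply hπ
    show (QuotientGroup.mk (s := ΓA B K L) (QuotientGroup.mk (s := UB B L) (π j))) =
      (QuotientGroup.mk (s := ΓA B K L) (QuotientGroup.mk (s := UB B L) (π j')))
    have e : π j = π j' * Units.map (algebraMap K L).toMonoidHom a *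
        Units.map (algebraMap B L).toMonoidHom u := by
      apply Units.ext
      simpa using hau
    rw [QuotientGroup.eq]
    refine ⟨a⁻¹, ?_⟩
    show (QuotientGroup.mk (s := UB B L) (Units.map (algebraMap K L).toMonoidHom a⁻¹)) =
      (QuotientGroup.mk (s := UB B L) (π j))⁻¹ * QuotientGroup.mk (s := UB B L) (π j')
    rw [← QuotientGroup.mk_inv, ← QuotientGroup.mk_mul, QuotientGroup.eq, e]
    refine ⟨u⁻¹, ?_⟩
    rw [map_inv, map_inv]
    apply Units.ext
    simp only [Units.val_mul, Units.val_inv_eq_inv_val, Units.coe_map, MonoidHom.coe_coe,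
      RingHom.toMonoidHom_eq_coe, mul_inv_rev, inv_inv]
    have h1 := (π j').ne_zero
    have h2 : (algebraMap K L) (a : K) ≠ 0 :=
      (map_ne_zero_iff _ (algebraMap K L).injective).mpr a.ne_zero
    have h3 : (algebraMap B L) (u : B) ≠ 0 :=
      (map_ne_zero_iff _ (IsFractionRing.injective B L)).mpr u.ne_zero
    field_simp

end Ext

theorem main (A B K L : Type u) [CommRing A] [IsDomain A]
    [ValuationRing A] [CommRing B] [IsDomain B] [ValuationRing B] [Field K] [Field L]
    [Algebra A K] [IsFractionRing A K] [Algebra B L] [IsFractionRing B L] [Algebra A B] [Algebra K L]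
    [Algebra A L] [IsScalarTower A K L] [IsScalarTower A B L] (hinj : Function.Injective (algebraMap A B))
    [IsLocalHom (algebraMap A B)] [FiniteDimensional K L] :
    let UB : Subgroup Lˣ := (Units.map (algebraMap B L).toMonoidHom).range
    let ΓA : Subgroup (Lˣ ⧸ UB) := ((QuotientGroup.mk' UB).comp (Units.map (algebraMap K L).toMonoidHom)).range
    Module.Finite (IsLocalRing.ResidueField A) (IsLocalRing.ResidueField B) ∧ ΓA.index ≠ 0 ∧
      ΓA.index * Module.finrank (IsLocalRing.ResidueField A) (IsLocalRing.ResidueField B) ≤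
        Module.finrank K L := by
  intro UB' ΓA'
  show Module.Finite (IsLocalRing.ResidueField A) (IsLocalRing.ResidueField B) ∧
    (ΓA B K L).index ≠ 0 ∧
      (ΓA B K L).index * Module.finrank (IsLocalRing.ResidueField A) (IsLocalRing.ResidueField B) ≤
        Module.finrank K L
  classical
  set n := Module.finrank K L with hn
  -- (1) finiteness of the residue extension
  have hfin : Module.Finite (IsLocalRing.ResidueField A) (IsLocalRing.ResidueField B) := by
    by_contra hnf
    have hrank : ((n + 1 : ℕ) : Cardinal) ≤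
        Module.rank (IsLocalRing.ResidueField A) (IsLocalRing.ResidueField B) := by
      by_contra hlt
      push Not at hlt
      exact hnf (Module.rank_lt_aleph0_iff.mp (hlt.trans Cardinal.natCast_lt_aleph0))
    obtain ⟨f, hf⟩ := exists_linearIndependent_of_le_rank hrank
    choose ω hω using fun i => IsLocalRing.residue_surjective (f i)
    have hω' : LinearIndependent (IsLocalRing.ResidueField A)
        (fun i => IsLocalRing.residue B (ω i)) := by
      convert hf using 1
      ext i; exact hω i
    have := bound A B K L ω hω' (fun _ : Unit => (1 : Lˣ)) (fun _ _ _ => rfl)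
    simp only [Fintype.card_fin, Fintype.card_unit, mul_one] at this
    omega
  -- a single residue class
  have hω1 : LinearIndependent (IsLocalRing.ResidueField A)
      (fun _ : Unit => IsLocalRing.residue B (1 : B)) := by
    rw [map_one]
    exact LinearIndependent.of_subsingleton () one_ne_zero
  -- (2) finite index
  have hidx : (ΓA B K L).index ≠ 0 := by
    intro h0
    rw [Subgroup.index_eq_zero_iff_infinite] at h0
    let emb := Infinite.natEmbedding ((Lˣ ⧸ UB B L) ⧸ ΓA B K L)
    have hsurj : ∀ x : (Lˣ ⧸ UB B L) ⧸ ΓA B K L, ∃ y : Lˣ,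
        (QuotientGroup.mk (s := ΓA B K L) (QuotientGroup.mk (s := UB B L) y)) = x := by
      intro x
      obtain ⟨x', rfl⟩ := QuotientGroup.mk_surjective x
      obtain ⟨y, rfl⟩ := QuotientGroup.mk_surjective x'
      exact ⟨y, rfl⟩
    choose sec hsec using hsurj
    have := bound A B K L (fun _ : Unit => (1 : B)) hω1 (fun j : Fin (n + 1) => sec (emb j)) (by
      intro j j' hjj
      simp only [hsec] at hjj
      exact Fin.val_injective (emb.injective hjj))
    simp only [Fintype.card_fin, Fintype.card_unit, one_mul] at this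
    omega
  refine ⟨hfin, hidx, ?_⟩
  -- (3) the inequality
  haveI := hfin
  haveI : Finite ((Lˣ ⧸ UB B L) ⧸ ΓA B K L) := by
    by_contra hinf
    rw [not_finite_iff_infinite, ← Subgroup.index_eq_zero_iff_infinite] at hinf
    exact hidx hinf
  haveI : Fintype ((Lˣ ⧸ UB B L) ⧸ ΓA B K L) := Fintype.ofFinite _
  let b := Module.finBasis (IsLocalRing.ResidueField A) (IsLocalRing.ResidueField B)
  choose ω hω using fun i => IsLocalRing.residue_surjective (b i)
  have hω' : LinearIndependent (IsLocalRing.ResidueField A)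
      (fun i => IsLocalRing.residue B (ω i)) := by
    convert b.linearIndependent using 1
    ext i; exact hω i
  have hsurj : ∀ x : (Lˣ ⧸ UB B L) ⧸ ΓA B K L, ∃ y : Lˣ,
      (QuotientGroup.mk (s := ΓA B K L) (QuotientGroup.mk (s := UB B L) y)) = x := by
    intro x
    obtain ⟨x', rfl⟩ := QuotientGroup.mk_surjective x
    obtain ⟨y, rfl⟩ := QuotientGroup.mk_surjective x'
    exact ⟨y, rfl⟩
  choose sec hsec using hsurj
  have := bound A B K L ω hω' sec (by
    intro j j' hjj
    simpa only [hsec] using hjj)
  rw [Fintype.card_fin] at this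
  have hcard : (ΓA B K L).index = Fintype.card ((Lˣ ⧸ UB B L) ⧸ ΓA B K L) := by
    rw [Subgroup.index, Nat.card_eq_fintype_card]
  rw [hcard, mul_comm]
  exact this

end Groth.Agent.H4.ValExt
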