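import Mathlib
import Groth.Agent.H4.ValExt
set_option autoImplicit false
universe u
namespace Groth.Agent.H4.DVRExt
open Groth.Agent.H4.ValExt

theorem setup (A B K L : Type u) [CommRing A] [IsDomain A]
    [IsDiscreteValuationRing A] [CommRing B] [IsDomain B] [IsDiscreteValuationRing B] [Algebra A B]
    (hinj : Function.Injective (algebraMap A B)) [IsLocalHom (algebraMap A B)]
    [Field K] [Field L] [Algebra A K] [IsFractionRing A K] [Algebra B L] [IsFractionRing B L]
    [Algebra K L] [Algebra A L] [IsScalarTower A K L] [IsScalarTower A B L] :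
    ∃ (ϖ : B) (e : ℕ), Irreducible ϖ ∧ e ≠ 0 ∧
      Ideal.ramificationIdx' (IsLocalRing.maximalIdeal A) (IsLocalRing.maximalIdeal B) = e ∧
      ∀ a : K, a ≠ 0 → ∃ k : ℤ, ValuationRing.valuation B L (algebraMap K L a) =
        ValuationRing.valuation B L (algebraMap B L ϖ) ^ ((e : ℤ) * k) := by
  obtain ⟨πA, hπA⟩ := IsDiscreteValuationRing.exists_irreducible A
  obtain ⟨ϖ, hϖ⟩ := IsDiscreteValuationRing.exists_irreducible B
  have hπA0 : algebraMap A B πA ≠ 0 := by
    rw [Ne, map_eq_zero_iff _ hinj]; exact hπA.ne_zero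
  obtain ⟨e, u0, hu0⟩ := IsDiscreteValuationRing.eq_unit_mul_pow_irreducible hπA0 hϖ
  have he : e ≠ 0 := by
    rintro rfl
    rw [pow_zero, mul_one] at hu0
    have : IsUnit (algebraMap A B πA) := hu0 ▸ u0.isUnit
    exact hπA.not_isUnit (isUnit_of_map_unit (algebraMap A B) _ this)
  set t := ValuationRing.valuation B L (algebraMap B L ϖ) with ht
  have ht0 : t ≠ 0 := by
    rw [ht, Valuation.ne_zero_iff, Ne, map_eq_zero_iff _ (IsFractionRing.injective B L)]
    exact hϖ.ne_zero
  have hmap : (IsLocalRing.maximalIdeal A).map (algebraMap A B) = IsLocalRing.maximalIdeal B ^ e := by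
    rw [hπA.maximalIdeal_eq, hϖ.maximalIdeal_eq, Ideal.map_span, Set.image_singleton, hu0,
      Ideal.span_singleton_pow]
    exact Ideal.span_singleton_mul_left_unit u0.isUnit _
  have hvA : ∀ x : A, x ≠ 0 → ∃ n : ℕ,
      ValuationRing.valuation B L (algebraMap B L (algebraMap A B x)) = t ^ (e * n) := by
    intro x hx
    obtain ⟨n, u, rfl⟩ := IsDiscreteValuationRing.eq_unit_mul_pow_irreducible hx hπA
    refine ⟨n, ?_⟩
    rw [map_mul, map_pow, hu0, map_mul, map_pow, map_mul, map_pow, map_mul, map_pow, map_mul,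
      map_pow, v_isUnit B L _ u0.isUnit, v_isUnit B L _ ((u.isUnit).map (algebraMap A B)), one_mul,
      one_mul, ← pow_mul]
  refine ⟨ϖ, e, hϖ, he, ?_, ?_⟩
  · refine Ideal.ramificationIdx'_spec hmap.le ?_
    rw [hmap, hϖ.maximalIdeal_eq, Ideal.span_singleton_pow, Ideal.span_singleton_pow,
      Ideal.span_singleton_le_span_singleton, pow_dvd_pow_iff hϖ.ne_zero hϖ.not_isUnit]
    omega
  · intro a ha
    obtain ⟨x, y, hy, rfl⟩ := IsFractionRing.div_surjective (A := A) a
    have hy0 : y ≠ 0 := nonZeroDivisors.ne_zero hy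
    have hx0 : x ≠ 0 := by
      rintro rfl
      simp at ha
    obtain ⟨n, hn⟩ := hvA x hx0
    obtain ⟨m, hm⟩ := hvA y hy0
    refine ⟨(n : ℤ) - m, ?_⟩
    rw [map_div₀, map_div₀, ← IsScalarTower.algebraMap_apply A K L,
      ← IsScalarTower.algebraMap_apply A K L, IsScalarTower.algebraMap_apply A B L,
      IsScalarTower.algebraMap_apply A B L y, hn, hm, mul_sub, zpow_sub₀ ht0]
    congr 1


theorem setup' (A B K L : Type u) [CommRing A] [IsDomain A]
    [IsDiscreteValuationRing A] [CommRing B] [IsDomain B] [IsDiscreteValuationRing B] [Algebra A B]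
    (hinj : Function.Injective (algebraMap A B)) [IsLocalHom (algebraMap A B)]
    [Field K] [Field L] [Algebra A K] [IsFractionRing A K] [Algebra B L] [IsFractionRing B L]
    [Algebra K L] [Algebra A L] [IsScalarTower A K L] [IsScalarTower A B L] :
    ∃ (ϖ : B) (e : ℕ), Irreducible ϖ ∧ e ≠ 0 ∧
      Ideal.ramificationIdx' (IsLocalRing.maximalIdeal A) (IsLocalRing.maximalIdeal B) = e ∧
      ∀ (n : ℤ) (a : K) (u : Bˣ), a ≠ 0 →
        algebraMap B L ϖ ^ n = algebraMap K L a * algebraMap B L (u : B) → (e : ℤ) ∣ n := by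
  obtain ⟨ϖ, e, hϖ, he, hram, hv⟩ := setup A B K L hinj
  refine ⟨ϖ, e, hϖ, he, hram, ?_⟩
  intro n a u ha h
  obtain ⟨k, hk⟩ := hv a ha
  have h2 := congrArg (ValuationRing.valuation B L) h
  rw [map_zpow₀, map_mul, hk, v_isUnit B L _ u.isUnit, mul_one] at h2
  have ht1 : ValuationRing.valuation B L (algebraMap B L ϖ) < 1 :=
    v_lt_one_of_not_isUnit B L ϖ hϖ.not_isUnit
  have ht0 : 0 < ValuationRing.valuation B L (algebraMap B L ϖ) := by
    rw [Valuation.pos_iff, Ne, map_eq_zero_iff _ (IsFractionRing.injective B L)]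
    exact hϖ.ne_zero
  have := zpow_right_injective₀ ht0 ht1.ne h2
  exact ⟨k, this⟩

theorem main7132 (A B K L : Type u) [CommRing A] [IsDomain A]
    [IsDiscreteValuationRing A] [CommRing B] [IsDomain B] [IsDiscreteValuationRing B] [Algebra A B]
    (hinj : Function.Injective (algebraMap A B)) [IsLocalHom (algebraMap A B)]
    [Field K] [Field L] [Algebra A K] [IsFractionRing A K] [Algebra B L] [IsFractionRing B L]
    [Algebra K L] [Algebra A L] [IsScalarTower A K L] [IsScalarTower A B L] [FiniteDimensional K L] :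
    Module.Finite (IsLocalRing.ResidueField A) (IsLocalRing.ResidueField B) ∧
      Ideal.ramificationIdx' (IsLocalRing.maximalIdeal A) (IsLocalRing.maximalIdeal B) *
          Module.finrank (IsLocalRing.ResidueField A) (IsLocalRing.ResidueField B) ≤
        Module.finrank K L := by
  classical
  obtain ⟨hfin, -, -⟩ := Groth.Agent.H4.ValExt.main A B K L hinj
  obtain ⟨ϖ, e, hϖ, he, hram, hv⟩ := setup' A B K L hinj
  refine ⟨hfin, ?_⟩
  haveI := hfin
  rw [hram]
  let b := Module.finBasis (IsLocalRing.ResidueField A) (IsLocalRing.ResidueField B)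
  choose ω hω using fun i => IsLocalRing.residue_surjective (b i)
  have hω' : LinearIndependent (IsLocalRing.ResidueField A)
      (fun i => IsLocalRing.residue B (ω i)) := by
    convert b.linearIndependent using 1
    ext i; exact hω i
  have hϖ0 : algebraMap B L ϖ ≠ 0 := by
    rw [Ne, map_eq_zero_iff _ (IsFractionRing.injective B L)]
    exact hϖ.ne_zero
  have h := core A B K L ω hω' (fun j : Fin e => Units.mk0 (algebraMap B L ϖ ^ (j : ℕ))
    (pow_ne_zero _ hϖ0)) ?_
  · have := h.fintype_card_le_finrank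
    rw [Fintype.card_prod, Fintype.card_fin, Fintype.card_fin, mul_comm] at this
    exact this
  · rintro j j' ⟨a, u, hau⟩
    simp only [Units.val_mk0] at hau
    have h1 : algebraMap B L ϖ ^ ((j : ℤ) - (j' : ℤ)) =
        algebraMap K L (a : K) * algebraMap B L (u : B) := by
      rw [zpow_sub₀ hϖ0, zpow_natCast, zpow_natCast, hau]
      field_simp
    obtain ⟨k, hk⟩ := hv _ a u a.ne_zero h1
    have hj := j.isLt
    have hj' := j'.isLt
    apply Fin.ext
    have hk0 : k = 0 := by
      by_contra hne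
      rcases lt_or_gt_of_ne hne with h | h
      · have : (e : ℤ) * k ≤ (e : ℤ) * (-1) := by
          apply mul_le_mul_of_nonneg_left (by omega) (by omega)
        omega
      · have : (e : ℤ) * 1 ≤ (e : ℤ) * k := by
          apply mul_le_mul_of_nonneg_left (by omega) (by omega)
        omega
    rw [hk0, mul_zero] at hk
    omega

theorem main7133 (A B K L : Type u) [CommRing A] [IsDomain A]
    [IsDiscreteValuationRing A] [CommRing B] [IsDomain B] [IsDiscreteValuationRing B] [Algebra A B]
    (hinj : Function.Injective (algebraMap A B)) [IsLocalHom (algebraMap A B)]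
    [Field K] [Field L] [Algebra A K] [IsFractionRing A K] [Algebra B L] [IsFractionRing B L]
    [Algebra K L] [Algebra A L] [IsScalarTower A K L] [IsScalarTower A B L]
    (p : ℕ) (hp : p.Prime) [CharP K p] [IsPurelyInseparable K L] :
    ∃ k : ℕ, Ideal.ramificationIdx' (IsLocalRing.maximalIdeal A) (IsLocalRing.maximalIdeal B) =
      p ^ k := by
  obtain ⟨ϖ, e, hϖ, he, hram, hv⟩ := setup' A B K L hinj
  haveI : Fact p.Prime := ⟨hp⟩
  haveI : ExpChar K p := ExpChar.prime hp
  obtain ⟨s, a, ha⟩ := IsPurelyInseparable.pow_mem K p (algebraMap B L ϖ)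
  have hϖ0 : algebraMap B L ϖ ≠ 0 := by
    rw [Ne, map_eq_zero_iff _ (IsFractionRing.injective B L)]
    exact hϖ.ne_zero
  have ha0 : a ≠ 0 := by
    rintro rfl
    rw [map_zero] at ha
    exact pow_ne_zero _ hϖ0 ha.symm
  have h1 : algebraMap B L ϖ ^ ((p ^ s : ℕ) : ℤ) =
      algebraMap K L a * algebraMap B L ((1 : Bˣ) : B) := by
    rw [zpow_natCast, ← ha, Units.val_one, map_one, mul_one]
  have h2 := hv _ a 1 ha0 h1
  have h3 : e ∣ p ^ s := by exact_mod_cast h2
  obtain ⟨j, -, hj⟩ := (Nat.dvd_prime_pow hp).mp h3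
  exact ⟨j, hram.trans hj⟩

end Groth.Agent.H4.DVRExt
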