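import Groth.Agent.Lib.Helper8.DVRDominate
set_option autoImplicit false
universe u
open Polynomial Algebra
namespace Groth.Agent.H4.DVRInt

lemma closure_eq_top (A : Type u) [CommRing A] [IsDomain A]
    (K : Type u) [Field K] [Algebra A K] [IsFractionRing A K]
    (L : Type u) [Field L] [Algebra K L] [Algebra A L] [IsScalarTower A K L]
    (s : Finset L) (hs : IntermediateField.adjoin K (s : Set L) = ⊤) :
    Subfield.closure (Set.range (algebraMap A L) ∪ s) = ⊤ := by
  rw [_root_.eq_top_iff]
  intro x _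
  have hx : x ∈ IntermediateField.adjoin K (s : Set L) := by rw [hs]; trivial
  have hle : (IntermediateField.adjoin K (s : Set L)).toSubfield ≤
      Subfield.closure (Set.range (algebraMap A L) ∪ s) := by
    unfold IntermediateField.adjoin
    apply Subfield.closure_le.mpr
    rintro y (⟨k, rfl⟩ | hy)
    · obtain ⟨a, b, hb, rfl⟩ := IsFractionRing.div_surjective (A := A) k
      rw [map_div₀, ← IsScalarTower.algebraMap_apply, ← IsScalarTower.algebraMap_apply]
      exact Subfield.div_mem _ (Subfield.subset_closure (Or.inl ⟨a, rfl⟩))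
        (Subfield.subset_closure (Or.inl ⟨b, rfl⟩))
    · exact Subfield.subset_closure (Or.inr hy)
  exact hle hx

/-- if `x⁻¹` is a unit of `A[x⁻¹]` then `x` is integral over `A` -/
lemma isIntegral_of_span_inv_eq_top {A L : Type u} [CommRing A] [Field L] [Algebra A L] [Nontrivial A]
    (x : L) (hx0 : x ≠ 0)
    (h : Ideal.span {(⟨x⁻¹, subset_adjoin rfl⟩ : Algebra.adjoin A {x⁻¹})} = ⊤) : IsIntegral A x := by
  letI : Invertible x⁻¹ := invertibleOfNonzero (inv_ne_zero hx0)
  obtain ⟨p, hp, hpx⟩ := exists_aeval_invOf_eq_zero_of_idealMap_adjoin_sup_span_eq_top x⁻¹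
      (⊥ : Ideal A) bot_ne_top (top_unique <| h.ge.trans le_sup_right)
  refine ⟨p, by simpa [Monic, sub_eq_zero] using hp, ?_⟩
  have : (⅟ (x⁻¹) : L) = x := by
    rw [invOf_eq_inv, inv_inv]
  rw [this] at hpx
  exact hpx

end Groth.Agent.H4.DVRInt
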