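import Mathlib
set_option autoImplicit false
universe u
open scoped Pointwise
open Polynomial

namespace Groth.Agent.H4.DecompGrp

section group

variable {G R : Type u} [Group G] [Finite G] [CommRing R] [MulSemiringAction G R]

/-- if all conjugates of `y` lie in `q`, then `y ^ |G|` lies in `(q ∩ R^G) R`. -/
theorem pow_card_mem (q : Ideal R) (y : R) (hy : ∀ g : G, g • y ∈ q) :
    y ^ (Nat.card G) ∈ Ideal.map (FixedPoints.subring R G).subtype
      (Ideal.comap (FixedPoints.subring R G).subtype q) := by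
  classical
  rcases subsingleton_or_nontrivial R with hsub | hnon
  · rw [Subsingleton.elim (y ^ Nat.card G) 0]; exact Ideal.zero_mem _
  haveI : Fintype G := Fintype.ofFinite G
  obtain ⟨P, hP⟩ : ∃ P, P = MulSemiringAction.charpoly G y := ⟨_, rfl⟩
  have hmonic : P.Monic := hP ▸ MulSemiringAction.monic_charpoly G y
  have hdeg : P.natDegree = Nat.card G := by
    rw [hP, MulSemiringAction.charpoly_eq, natDegree_prod_of_monic _ _ (fun g _ => monic_X_sub_C _)]
    simp [Nat.card_eq_fintype_card]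
  have hq : ∀ k, k < Nat.card G → P.coeff k ∈ q := by
    intro k hk
    have h1 : P.map (Ideal.Quotient.mk q) = X ^ (Nat.card G) := by
      rw [hP, MulSemiringAction.charpoly_eq, Polynomial.map_prod]
      have : ∀ g : G, (X - C (g • y)).map (Ideal.Quotient.mk q) = X := by
        intro g
        rw [Polynomial.map_sub, Polynomial.map_X, Polynomial.map_C,
          Ideal.Quotient.eq_zero_iff_mem.mpr (hy g), C_0, sub_zero]
      simp [this, Nat.card_eq_fintype_card]
    have h2 : (P.map (Ideal.Quotient.mk q)).coeff k = 0 := by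
      rw [h1, coeff_X_pow, if_neg (Nat.ne_of_lt hk)]
    rw [coeff_map] at h2
    exact Ideal.Quotient.eq_zero_iff_mem.mp h2
  have hinv : ∀ k, P.coeff k ∈ FixedPoints.subring R G := by
    intro k g
    rw [hP]
    exact MulSemiringAction.smul_coeff_charpoly y k g
  have heval : P.eval y = 0 := hP ▸ MulSemiringAction.eval_charpoly G y
  rw [eval_eq_sum_range, hdeg, Finset.sum_range_succ] at heval
  have hlead : P.coeff (Nat.card G) = 1 := by rw [← hdeg]; exact hmonic.coeff_natDegree
  rw [hlead, one_mul] at heval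
  have h3 : y ^ Nat.card G = - ∑ k ∈ Finset.range (Nat.card G), P.coeff k * y ^ k :=
    eq_neg_of_add_eq_zero_right heval
  rw [h3]
  refine neg_mem (Ideal.sum_mem _ fun k hk => ?_)
  refine Ideal.mul_mem_right _ _ ?_
  have hk' := Finset.mem_range.mp hk
  exact Ideal.mem_map_of_mem (FixedPoints.subring R G).subtype
    (show (⟨P.coeff k, hinv k⟩ : FixedPoints.subring R G) ∈
      Ideal.comap (FixedPoints.subring R G).subtype q from hq k hk')

theorem exists_e (H : Subgroup G) (q : Ideal R) [hq : q.IsPrime]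
    (hD : MulAction.stabilizer G q ≤ H) :
    ∃ e : R, (∀ h ∈ H, h • e = e) ∧ (∀ g : G, g ∉ H → g • e ∈ q) ∧ e ∉ q := by
  classical
  haveI : Fintype G := Fintype.ofFinite G
  let P : G → Ideal R := fun g => Ideal.comap (MulSemiringAction.toRingHom G R g) q
  have hPmem : ∀ g x, x ∈ P g ↔ g • x ∈ q := fun g x => Iff.rfl
  have hPprime : ∀ g, (P g).IsPrime := fun g => Ideal.comap_isPrime _ _
  let sH : Finset G := Finset.univ.filter (· ∈ H)
  let sN : Finset G := Finset.univ.filter (· ∉ H)
  have key : ∃ e0 : R, (∀ g, g ∉ H → g • e0 ∈ q) ∧ ∀ h ∈ H, h • e0 ∉ q := by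
    by_contra hcon
    push_neg at hcon
    have hsub : ((sN.inf P : Ideal R) : Set R) ⊆ ⋃ i ∈ (↑sH : Set G), (P i : Set R) := by
      intro x hx
      have hx' : ∀ g, g ∉ H → g • x ∈ q := by
        intro g hg
        have h1 : x ∈ sN.inf P := hx
        rw [Submodule.mem_finsetInf] at h1
        exact h1 g (by simp [sN, hg])
      obtain ⟨h, hh, hxq⟩ := hcon x hx'
      simp only [Set.mem_iUnion]
      exact ⟨h, by simp [sH, hh], hxq⟩
    obtain ⟨h, hh, hle⟩ :=
      (Ideal.subset_union_prime (1 : G) (1 : G) (fun i _ _ _ => hPprime i)).mp hsub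
    have hh' : h ∈ H := by simpa [sH] using hh
    obtain ⟨g, hg, hgle⟩ := (hPprime h).inf_le'.mp hle
    have hg' : g ∉ H := by simpa [sN] using hg
    obtain ⟨k, hk⟩ : ∃ k, k = h * g⁻¹ := ⟨_, rfl⟩
    have hkq : ∀ z ∈ q, k • z ∈ q := by
      intro z hz
      have h1 : g⁻¹ • z ∈ P g := by rw [hPmem, smul_inv_smul]; exact hz
      have h2 := hgle h1
      rw [hPmem, ← mul_smul, ← hk] at h2
      exact h2
    have hkpow : ∀ (j : ℕ) z, z ∈ q → (k ^ j) • z ∈ q := by
      intro j
      induction j with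
      | zero => intro z hz; simpa using hz
      | succ j ih => intro z hz; rw [pow_succ, mul_smul]; exact ih _ (hkq z hz)
    have hkinv : ∀ z ∈ q, k⁻¹ • z ∈ q := by
      intro z hz
      have hpos : 0 < orderOf k := orderOf_pos k
      have h1 : k⁻¹ = k ^ (orderOf k - 1) := by
        apply inv_eq_of_mul_eq_one_right
        rw [← pow_succ', Nat.sub_add_cancel hpos, pow_orderOf_eq_one]
      rw [h1]
      exact hkpow _ z hz
    have hkstab : k ∈ MulAction.stabilizer G q := by
      rw [MulAction.mem_stabilizer_iff]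
      ext x
      rw [Ideal.mem_pointwise_smul_iff_inv_smul_mem]
      constructor
      · intro hx
        have := hkq _ hx
        rwa [smul_inv_smul] at this
      · intro hx
        exact hkinv x hx
    have hkH : k ∈ H := hD hkstab
    apply hg'
    have h1 : g = k⁻¹ * h := by rw [hk]; group
    rw [h1]
    exact H.mul_mem (H.inv_mem hkH) hh'
  obtain ⟨e0, he0N, he0H⟩ := key
  haveI : Fintype H := Fintype.ofFinite H
  refine ⟨∏ h : H, (h : G) • e0, ?_, ?_, ?_⟩
  · intro h' hh'
    have h1 : h' • (∏ h : H, (h : G) • e0) = ∏ h : H, h' • ((h : G) • e0) := Finset.smul_prod'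
    rw [h1]
    exact Fintype.prod_equiv (Equiv.mulLeft (⟨h', hh'⟩ : H)) _ _ (fun h => by simp [mul_smul])
  · intro g hg
    have h1 : g • (∏ h : H, (h : G) • e0) = ∏ h : H, g • ((h : G) • e0) := Finset.smul_prod'
    rw [h1]
    have h2 : g • (((1 : H) : G) • e0) ∈ q := by
      rw [Subgroup.coe_one, one_smul]; exact he0N g hg
    exact Ideal.mem_of_dvd q
      (Finset.dvd_prod_of_mem (fun h : H => g • ((h : G) • e0)) (Finset.mem_univ (1 : H))) h2
  · intro hmem
    rw [Ideal.IsPrime.prod_mem_iff] at hmem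
    obtain ⟨h, -, hh⟩ := hmem
    exact he0H h h.2 hh

end group

section trace

variable {G R : Type u} [Group G] [CommRing R] [MulSemiringAction G R] (H : Subgroup G)
  [Fintype (G ⧸ H)]

/-- relative trace for `H ≤ G`. -/
noncomputable def tr (x : R) : R := ∑ c : G ⧸ H, (Quotient.out c : G) • x

theorem out_smul {x : R} (hx : ∀ h ∈ H, h • x = x) (a : G) :
    (Quotient.out (QuotientGroup.mk a : G ⧸ H) : G) • x = a • x := by
  obtain ⟨h, hh⟩ := QuotientGroup.mk_out_eq_mul H a
  rw [hh, mul_smul, hx h h.2]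

theorem tr_smul {x : R} (hx : ∀ h ∈ H, h • x = x) (g : G) : g • tr H x = tr H x := by
  unfold tr
  rw [Finset.smul_sum]
  have h1 : ∀ c : G ⧸ H, g • ((Quotient.out c : G) • x) = (Quotient.out (g • c) : G) • x := by
    intro c
    rw [← MulAction.Quotient.mk_smul_out, out_smul H hx, smul_eq_mul, mul_smul]
  simp_rw [h1]
  exact Equiv.sum_comp (MulAction.toPerm g) (fun c : G ⧸ H => (Quotient.out c : G) • x)

theorem tr_add (x y : R) : tr H (x + y) = tr H x + tr H y := by
  unfold tr; simp_rw [smul_add]; exact Finset.sum_add_distrib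

theorem tr_lin {b : R} (hb : ∀ g : G, g • b = b) (x : R) : tr H (b * x) = b * tr H x := by
  unfold tr; rw [Finset.mul_sum]; refine Finset.sum_congr rfl fun c _ => ?_; rw [smul_mul', hb]

theorem out_notMem {c : G ⧸ H} (hc : c ≠ QuotientGroup.mk 1) : (Quotient.out c : G) ∉ H := by
  intro h
  apply hc
  rw [← QuotientGroup.out_eq' c]
  exact QuotientGroup.eq.mpr (by simpa using h)

theorem tr_eq [DecidableEq (G ⧸ H)] {x : R} (hx : ∀ h ∈ H, h • x = x) :
    tr H x = x + ∑ c ∈ Finset.univ.erase (QuotientGroup.mk 1 : G ⧸ H), (Quotient.out c : G) • x := by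
  unfold tr
  rw [← Finset.add_sum_erase Finset.univ _ (Finset.mem_univ (QuotientGroup.mk 1 : G ⧸ H))]
  congr 1
  rw [out_smul H hx 1, one_smul]

end trace

section AR

theorem artinRees {R : Type u} [CommRing R] (B R' : Subring R) (hle : B ≤ R')
    [IsNoetherianRing B] [Module.Finite B R] (p : Ideal B) :
    ∃ c : ℕ, ∀ (n : ℕ) (x : R'), (x : R) ∈ Ideal.map B.subtype (p ^ (n + c)) →
        x ∈ Ideal.map (Subring.inclusion hle) (p ^ n) := by
  let N : Submodule B R :=
    { carrier := {x | x ∈ R'}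
      add_mem' := fun ha hb => R'.add_mem ha hb
      zero_mem' := R'.zero_mem
      smul_mem' := fun b x hx => by
        change b • x ∈ R'
        rw [Subring.smul_def, smul_eq_mul]
        exact R'.mul_mem (hle b.2) hx }
  obtain ⟨c, hc⟩ := Ideal.exists_pow_inf_eq_pow_smul p N
  refine ⟨c, fun n x hx => ?_⟩
  have h1 : (x : R) ∈ (p ^ (n + c)) • (⊤ : Submodule B R) := by
    rw [Ideal.smul_top_eq_map]
    exact hx
  have h2 : (x : R) ∈ (p ^ (n + c)) • (⊤ : Submodule B R) ⊓ N := ⟨h1, x.2⟩
  rw [hc (n + c) (Nat.le_add_left c n), Nat.add_sub_cancel] at h2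
  have h3' : p ^ n • (p ^ c • (⊤ : Submodule B R) ⊓ N) ≤ p ^ n • N := smul_mono_right _ inf_le_right
  have h3 : (x : R) ∈ p ^ n • N := h3' h2
  have key : ∀ z ∈ p ^ n • N, ∃ hz : z ∈ R',
      (⟨z, hz⟩ : R') ∈ Ideal.map (Subring.inclusion hle) (p ^ n) := by
    intro z hz
    refine Submodule.smul_induction_on hz ?_ ?_
    · intro r hr m hm
      have hm' : m ∈ R' := hm
      have hrm : r • m ∈ R' := by
        rw [Subring.smul_def, smul_eq_mul]; exact R'.mul_mem (hle r.2) hm'
      refine ⟨hrm, ?_⟩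
      have h4 : (⟨r • m, hrm⟩ : R') = Subring.inclusion hle r * ⟨m, hm'⟩ :=
        Subtype.ext (show r • m = (r : R) * m by rw [Subring.smul_def, smul_eq_mul])
      rw [h4]
      exact Ideal.mul_mem_right _ _ (Ideal.mem_map_of_mem _ hr)
    · rintro a b ⟨ha, ha'⟩ ⟨hb, hb'⟩
      refine ⟨R'.add_mem ha hb, ?_⟩
      have h4 : (⟨a + b, R'.add_mem ha hb⟩ : R') = ⟨a, ha⟩ + ⟨b, hb⟩ := rfl
      rw [h4]
      exact Ideal.add_mem _ ha' hb'
  obtain ⟨hz, hz'⟩ := key _ h3
  exact hz'

end AR

section part3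

theorem bookkeeping {R : Type u} [CommRing R] (B R' : Subring R) (hle : B ≤ R') (q : Ideal R)
    [q.IsPrime] (tr : R → R) {ι' : Type u} (T : Finset ι') (σ : ι' → R →+* R)
    (t_mem : ∀ x ∈ R', tr x ∈ B) (t_add : ∀ x y, tr (x + y) = tr x + tr y)
    (t_lin : ∀ b ∈ B, ∀ x, tr (b * x) = b * tr x)
    (t_split : ∀ x ∈ R', tr x = x + ∑ i ∈ T, σ i x)
    (hK : ∀ N : ℕ, ∃ E ∈ R', E ∉ q ∧ (∀ i ∈ T, σ i E ∈ q) ∧
        ∀ i ∈ T, E * σ i E ∈ Ideal.map B.subtype ((Ideal.comap B.subtype q) ^ N))
    (hAR : ∃ c : ℕ, ∀ (n : ℕ) (x : R'),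
        (x : R) ∈ Ideal.map B.subtype ((Ideal.comap B.subtype q) ^ (n + c)) →
        x ∈ Ideal.map (Subring.inclusion hle) ((Ideal.comap B.subtype q) ^ n))
    (n : ℕ) :
    Function.Surjective ((Ideal.Quotient.mk (IsLocalRing.maximalIdeal
        (Localization.AtPrime (Ideal.comap R'.subtype q)) ^ n)).comp
        (Localization.localRingHom (Ideal.comap (Subring.inclusion hle) (Ideal.comap R'.subtype q))
          (Ideal.comap R'.subtype q) (Subring.inclusion hle) rfl)) ∧
      Ideal.comap (Localization.localRingHom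
          (Ideal.comap (Subring.inclusion hle) (Ideal.comap R'.subtype q))
          (Ideal.comap R'.subtype q) (Subring.inclusion hle) rfl)
        (IsLocalRing.maximalIdeal (Localization.AtPrime (Ideal.comap R'.subtype q)) ^ n) =
        IsLocalRing.maximalIdeal (Localization.AtPrime
          (Ideal.comap (Subring.inclusion hle) (Ideal.comap R'.subtype q))) ^ n := by
  classical
  obtain ⟨q', hq'⟩ : ∃ q' : Ideal R', q' = Ideal.comap R'.subtype q := ⟨_, rfl⟩
  obtain ⟨ι, hι⟩ : ∃ ι : B →+* R', ι = Subring.inclusion hle := ⟨_, rfl⟩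
  haveI hq'prime : q'.IsPrime := hq' ▸ Ideal.comap_isPrime _ _
  have hpq : Ideal.comap B.subtype q = Ideal.comap ι q' := by rw [hι, hq']; rfl
  simp only [hpq] at hK hAR
  simp only [← hι] at hAR
  obtain ⟨c, hAR⟩ := hAR
  have hιcoe : ∀ b : B, ((ι b : R') : R) = (b : R) := fun b => by rw [hι]; rfl
  have hq'mem : ∀ x : R', x ∈ q' ↔ (x : R) ∈ q := fun x => by rw [hq']; rfl
  have hpmem : ∀ b : B, b ∈ Ideal.comap ι q' ↔ (b : R) ∈ q := fun b => by
    rw [Ideal.mem_comap, hq'mem, hιcoe]
  suffices hmain : ∀ (φ : Localization.AtPrime (Ideal.comap ι q') →+* Localization.AtPrime q')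
      (_ : IsLocalHom φ)
      (_ : ∀ b : B, φ (algebraMap B (Localization.AtPrime (Ideal.comap ι q')) b) =
        algebraMap R' (Localization.AtPrime q') (ι b)),
      Function.Surjective ((Ideal.Quotient.mk (IsLocalRing.maximalIdeal
        (Localization.AtPrime q') ^ n)).comp φ) ∧
      Ideal.comap φ (IsLocalRing.maximalIdeal (Localization.AtPrime q') ^ n) =
        IsLocalRing.maximalIdeal (Localization.AtPrime (Ideal.comap ι q')) ^ n by
    subst hq' hι
    exact hmain _ (Localization.isLocalHom_localRingHom _ _ _ _)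
      (fun b => Localization.localRingHom_to_map _ _ _ _ b)
  intro φ hφloc hφ
  have hm' : IsLocalRing.maximalIdeal (Localization.AtPrime q') =
      Ideal.map (algebraMap R' (Localization.AtPrime q')) q' :=
    Localization.AtPrime.map_eq_maximalIdeal.symm
  have hmp : IsLocalRing.maximalIdeal (Localization.AtPrime (Ideal.comap ι q')) =
      Ideal.map (algebraMap B (Localization.AtPrime (Ideal.comap ι q'))) (Ideal.comap ι q') :=
    Localization.AtPrime.map_eq_maximalIdeal.symm
  have hunit' : ∀ t : R', t ∉ q' → IsUnit (algebraMap R' (Localization.AtPrime q') t) :=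
    fun t ht => IsLocalization.map_units (Localization.AtPrime q') (⟨t, ht⟩ : q'.primeCompl)
  have hunit : ∀ s : B, s ∉ Ideal.comap ι q' →
      IsUnit (algebraMap B (Localization.AtPrime (Ideal.comap ι q')) s) :=
    fun s hs => IsLocalization.map_units (Localization.AtPrime (Ideal.comap ι q'))
      (⟨s, hs⟩ : (Ideal.comap ι q').primeCompl)
  obtain ⟨PP, hPPdef⟩ : ∃ PP : ℕ → Ideal (Localization.AtPrime q'), ∀ k, PP k =
      Ideal.map (algebraMap R' (Localization.AtPrime q')) (Ideal.map ι ((Ideal.comap ι q') ^ k)) :=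
    ⟨_, fun k => rfl⟩
  have htr0 : tr 0 = 0 := by
    have h := t_add 0 0
    rw [add_zero] at h
    exact add_eq_left.mp h.symm
  have hsumq : ∀ (E : R), (∀ i ∈ T, σ i E ∈ q) → ∀ x : R, (∑ i ∈ T, σ i (x * E)) ∈ q := by
    intro E hE x
    refine Ideal.sum_mem _ fun i hi => ?_
    rw [map_mul]; exact Ideal.mul_mem_left _ _ (hE i hi)
  -- Step Z
  have stepZ : ∀ (k : ℕ) (E : R'), E ∉ q' →
      (∀ i ∈ T, (E : R) * σ i E ∈ Ideal.map B.subtype ((Ideal.comap ι q') ^ (k + c))) →
      ∀ x : R', ∃ b : B, (b : R) = tr ((x : R) * E) ∧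
        algebraMap R' (Localization.AtPrime q') (ι b - x * E) ∈ PP k := by
    intro k E hE hEE x
    have hxE : ((x : R) * E) ∈ R' := R'.mul_mem x.2 E.2
    refine ⟨⟨tr ((x : R) * E), t_mem _ hxE⟩, rfl, ?_⟩
    have hz : ((E * (ι ⟨tr ((x : R) * E), t_mem _ hxE⟩ - x * E) : R') : R) ∈
        Ideal.map B.subtype ((Ideal.comap ι q') ^ (k + c)) := by
      have h1 : ((E * (ι ⟨tr ((x : R) * E), t_mem _ hxE⟩ - x * E) : R') : R) =
          ∑ i ∈ T, σ i x * ((E : R) * σ i E) := by
        have h2 := t_split _ hxE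
        have h3 : ((E * (ι ⟨tr ((x : R) * E), t_mem _ hxE⟩ - x * E) : R') : R) =
            (E : R) * (tr ((x : R) * E) - (x : R) * E) := by
          rw [Subring.coe_mul, AddSubgroupClass.coe_sub, hιcoe, Subring.coe_mul]
        rw [h3, h2, add_sub_cancel_left, Finset.mul_sum]
        refine Finset.sum_congr rfl fun i _ => ?_
        rw [map_mul]; ring
      rw [h1]
      exact Ideal.sum_mem _ fun i hi => Ideal.mul_mem_left _ _ (hEE i hi)
    have hz' := hAR k _ hz
    have h4 : algebraMap R' (Localization.AtPrime q')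
        (E * (ι ⟨tr ((x : R) * E), t_mem _ hxE⟩ - x * E)) ∈ PP k := by
      rw [hPPdef]; exact Ideal.mem_map_of_mem _ hz'
    rw [map_mul] at h4
    exact (Ideal.unit_mul_mem_iff_mem _ (hunit' E hE)).mp h4
  have hPPpow : ∀ k, PP k = (PP 1) ^ k := by
    intro k; simp only [hPPdef, pow_one, Ideal.map_pow]
  have hPP1le : PP 1 ≤ IsLocalRing.maximalIdeal (Localization.AtPrime q') := by
    rw [hm', hPPdef, pow_one]
    exact Ideal.map_mono Ideal.map_comap_le
  have hK' : ∀ N : ℕ, ∃ E : R', E ∉ q' ∧ (∀ i ∈ T, σ i E ∈ q) ∧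
      ∀ i ∈ T, (E : R) * σ i E ∈ Ideal.map B.subtype ((Ideal.comap ι q') ^ N) := by
    intro N
    obtain ⟨E, hE, h1, h2, h3⟩ := hK N
    exact ⟨⟨E, hE⟩, fun h => h1 ((hq'mem _).mp h), h2, h3⟩
  have stepU : IsLocalRing.maximalIdeal (Localization.AtPrime q') ≤ PP 1 := by
    rw [hm', Ideal.map_le_iff_le_comap]
    intro x hx
    rw [Ideal.mem_comap]
    obtain ⟨E, hEq, hσE, hEE⟩ := hK' (1 + c)
    obtain ⟨b, hb, hz⟩ := stepZ 1 E hEq hEE x
    have hbp : b ∈ Ideal.comap ι q' := by
      rw [hpmem, hb, t_split _ (R'.mul_mem x.2 E.2)]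
      exact Ideal.add_mem _ (Ideal.mul_mem_right _ _ ((hq'mem x).mp hx)) (hsumq E hσE x)
    have h1 : algebraMap R' (Localization.AtPrime q') (ι b) ∈ PP 1 := by
      rw [hPPdef, pow_one]
      exact Ideal.mem_map_of_mem _ (Ideal.mem_map_of_mem _ hbp)
    have h2 : algebraMap R' (Localization.AtPrime q') (x * E) ∈ PP 1 := by
      have := Ideal.sub_mem _ h1 hz
      rwa [← map_sub, sub_sub_cancel] at this
    rw [map_mul] at h2
    exact (Ideal.mul_unit_mem_iff_mem _ (hunit' E hEq)).mp h2
  have hmeq : IsLocalRing.maximalIdeal (Localization.AtPrime q') = PP 1 :=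
    le_antisymm stepU hPP1le
  have hmpow : IsLocalRing.maximalIdeal (Localization.AtPrime q') ^ n = PP n := by
    rw [hmeq, ← hPPpow]
  have hnotp : ∀ (E : R'), E ∉ q' → (∀ i ∈ T, σ i E ∈ q) → ∀ (t : R') (b : B), t ∉ q' →
      (b : R) = tr ((t : R) * E) → b ∉ Ideal.comap ι q' := by
    intro E hEq hσE t b ht hb hmem
    have h1 : (b : R) ∈ q := (hpmem b).mp hmem
    rw [hb, t_split _ (R'.mul_mem t.2 E.2)] at h1
    have h2 := hsumq E hσE (t : R)
    have h3 : (t : R) * (E : R) ∈ q := (Ideal.add_mem_iff_left _ h2).mp h1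
    rcases Ideal.IsPrime.mem_or_mem inferInstance h3 with h4 | h4
    · exact ht ((hq'mem t).mpr h4)
    · exact hEq ((hq'mem E).mpr h4)
  have stepS : ∀ x : R', ∃ a : Localization.AtPrime (Ideal.comap ι q'),
      φ a - algebraMap R' (Localization.AtPrime q') x ∈ PP n := by
    intro x
    obtain ⟨E, hEq, hσE, hEE⟩ := hK' (n + c)
    obtain ⟨b, hb, hz⟩ := stepZ n E hEq hEE x
    obtain ⟨b₁, hb₁, hz₁⟩ := stepZ n E hEq hEE 1
    have h1q : (1 : R') ∉ q' := fun h => hq'prime.ne_top ((Ideal.eq_top_iff_one _).mpr h)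
    have hb₁p : b₁ ∉ Ideal.comap ι q' := hnotp E hEq hσE 1 b₁ h1q hb₁
    refine ⟨IsLocalization.mk' (Localization.AtPrime (Ideal.comap ι q')) b
      (⟨b₁, hb₁p⟩ : (Ideal.comap ι q').primeCompl), ?_⟩
    have hu : IsUnit (algebraMap R' (Localization.AtPrime q') (ι b₁)) := hunit' _ hb₁p
    rw [← Ideal.mul_unit_mem_iff_mem _ hu, sub_mul]
    have h5 : φ (IsLocalization.mk' (Localization.AtPrime (Ideal.comap ι q')) b
        (⟨b₁, hb₁p⟩ : (Ideal.comap ι q').primeCompl)) *
        algebraMap R' (Localization.AtPrime q') (ι b₁) =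
        algebraMap R' (Localization.AtPrime q') (ι b) := by
      rw [← hφ, ← hφ, ← map_mul]
      congr 1
      exact IsLocalization.mk'_spec _ b (⟨b₁, hb₁p⟩ : (Ideal.comap ι q').primeCompl)
    rw [h5, ← map_mul, ← map_sub]
    have h6 : ι b - x * ι b₁ = (ι b - x * E) - x * (ι b₁ - 1 * E) := by ring
    rw [h6, map_sub, map_mul]
    exact Ideal.sub_mem _ hz (Ideal.mul_mem_left _ _ hz₁)
  refine ⟨?_, ?_⟩
  · intro y
    obtain ⟨y₀, rfl⟩ := Ideal.Quotient.mk_surjective y
    suffices h : ∃ a : Localization.AtPrime (Ideal.comap ι q'),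
        φ a - y₀ ∈ IsLocalRing.maximalIdeal (Localization.AtPrime q') ^ n by
      obtain ⟨a, ha⟩ := h
      exact ⟨a, by rw [RingHom.comp_apply]; exact Ideal.Quotient.eq.mpr ha⟩
    rcases Nat.eq_zero_or_pos n with hn | hn
    · subst hn; exact ⟨0, by simp⟩
    obtain ⟨x, t, rfl⟩ := IsLocalization.exists_mk'_eq q'.primeCompl y₀
    obtain ⟨ax, hax⟩ := stepS x
    obtain ⟨a_t, hat⟩ := stepS (t : R')
    rw [← hmpow] at hax hat
    have hle1 : IsLocalRing.maximalIdeal (Localization.AtPrime q') ^ n ≤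
        IsLocalRing.maximalIdeal (Localization.AtPrime q') :=
      Ideal.pow_le_self (Nat.pos_iff_ne_zero.mp hn)
    have hut : IsUnit (algebraMap R' (Localization.AtPrime q') (t : R')) := hunit' _ t.2
    have huφ : IsUnit (φ a_t) := by
      rw [← IsLocalRing.notMem_maximalIdeal]
      intro hmem
      have h1 : algebraMap R' (Localization.AtPrime q') (t : R') ∈
          IsLocalRing.maximalIdeal (Localization.AtPrime q') := by
        have := Ideal.sub_mem _ hmem (hle1 hat)
        rwa [sub_sub_cancel] at this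
      exact (IsLocalRing.notMem_maximalIdeal.mpr hut) h1
    have huat : IsUnit a_t := isUnit_of_map_unit φ a_t huφ
    obtain ⟨v, hv⟩ := huat
    refine ⟨ax * ↑v⁻¹, ?_⟩
    rw [← Ideal.mul_unit_mem_iff_mem _ huφ, sub_mul, ← map_mul, ← hv]
    have h7 : ax * ↑v⁻¹ * ↑v = ax := by rw [mul_assoc, Units.inv_mul, mul_one]
    rw [h7]
    have h8 : IsLocalization.mk' (Localization.AtPrime q') x t *
        algebraMap R' (Localization.AtPrime q') (t : R') =
        algebraMap R' (Localization.AtPrime q') x := IsLocalization.mk'_spec _ x t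
    have h9 : φ ax - IsLocalization.mk' (Localization.AtPrime q') x t * φ ↑v =
        (φ ax - algebraMap R' (Localization.AtPrime q') x) -
          IsLocalization.mk' (Localization.AtPrime q') x t *
            (φ ↑v - algebraMap R' (Localization.AtPrime q') (t : R')) := by
      rw [mul_sub, h8]; ring
    rw [h9]
    exact Ideal.sub_mem _ hax (Ideal.mul_mem_left _ _ (hv ▸ hat))
  · have hcomp : φ.comp (algebraMap B (Localization.AtPrime (Ideal.comap ι q'))) =
        (algebraMap R' (Localization.AtPrime q')).comp ι := RingHom.ext fun b => hφ b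
    have hmapφ : Ideal.map φ (IsLocalRing.maximalIdeal
        (Localization.AtPrime (Ideal.comap ι q')) ^ n) =
        IsLocalRing.maximalIdeal (Localization.AtPrime q') ^ n := by
      rw [hmp, ← Ideal.map_pow, Ideal.map_map, hcomp, ← Ideal.map_map, hmpow, hPPdef]
    apply le_antisymm
    · intro a ha
      rw [Ideal.mem_comap, hmpow] at ha
      obtain ⟨b, s, rfl⟩ := IsLocalization.exists_mk'_eq (Ideal.comap ι q').primeCompl a
      have h1 : algebraMap R' (Localization.AtPrime q') (ι b) ∈ PP n := by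
        have h2 : φ (IsLocalization.mk' (Localization.AtPrime (Ideal.comap ι q')) b s) *
            algebraMap R' (Localization.AtPrime q') (ι (s : B)) =
            algebraMap R' (Localization.AtPrime q') (ι b) := by
          rw [← hφ, ← hφ, ← map_mul]; congr 1; exact IsLocalization.mk'_spec _ b s
        rw [← h2]; exact Ideal.mul_mem_right _ _ ha
      rw [hPPdef, IsLocalization.algebraMap_mem_map_algebraMap_iff q'.primeCompl] at h1
      obtain ⟨t, ht, htb⟩ := h1
      obtain ⟨E, hEq, hσE, -⟩ := hK' 0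
      have htr : ∀ w ∈ Ideal.map ι ((Ideal.comap ι q') ^ n), ∀ a' : R',
          ∃ r ∈ (Ideal.comap ι q') ^ n, (r : R) = tr ((a' : R) * (w : R)) := by
        intro w hw
        have hw' : w ∈ Submodule.span R' (ι '' ((Ideal.comap ι q') ^ n : Ideal B)) := hw
        refine Submodule.span_induction
          (p := fun (w : R') _ => ∀ a' : R', ∃ r ∈ (Ideal.comap ι q') ^ n,
            (r : R) = tr ((a' : R) * (w : R))) ?_ ?_ ?_ ?_ hw'
        · rintro _ ⟨r, hr, rfl⟩ a'
          refine ⟨r * ⟨tr (a' : R), t_mem _ a'.2⟩, Ideal.mul_mem_right _ _ hr, ?_⟩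
          have h3 : ((a' : R) * ((ι r : R') : R)) = (r : R) * (a' : R) := by rw [hιcoe]; ring
          rw [h3, t_lin _ r.2]; rfl
        · intro a'
          exact ⟨0, Ideal.zero_mem _, by simp [htr0]⟩
        · intro w₁ w₂ _ _ h₁ h₂ a'
          obtain ⟨r₁, hr₁, hr₁'⟩ := h₁ a'
          obtain ⟨r₂, hr₂, hr₂'⟩ := h₂ a'
          refine ⟨r₁ + r₂, Ideal.add_mem _ hr₁ hr₂, ?_⟩
          rw [Subring.coe_add, Subring.coe_add, mul_add, t_add, hr₁', hr₂']
        · intro a'' w _ h a'
          obtain ⟨r, hr, hrr⟩ := h (a' * a'')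
          refine ⟨r, hr, ?_⟩
          rw [hrr, smul_eq_mul, Subring.coe_mul, Subring.coe_mul, mul_assoc]
      obtain ⟨r, hr, hrr⟩ := htr _ htb E
      have htE : ((t : R) * (E : R)) ∈ R' := R'.mul_mem t.2 E.2
      obtain ⟨u, hu⟩ : ∃ u : B, (u : R) = tr ((t : R) * (E : R)) := ⟨⟨_, t_mem _ htE⟩, rfl⟩
      have hup : u ∉ Ideal.comap ι q' := hnotp E hEq hσE t u ht hu
      have hru : r = b * u := by
        apply Subtype.ext
        have h5 : (E : R) * ((t * ι b : R') : R) = (b : R) * ((t : R) * (E : R)) := by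
          rw [Subring.coe_mul, hιcoe]; ring
        rw [hrr, h5, t_lin _ b.2, ← hu]; rfl
      have h4 : algebraMap B (Localization.AtPrime (Ideal.comap ι q')) b ∈
          Ideal.map (algebraMap B (Localization.AtPrime (Ideal.comap ι q')))
            ((Ideal.comap ι q') ^ n) := by
        rw [← Ideal.mul_unit_mem_iff_mem _ (hunit u hup), ← map_mul, ← hru]
        exact Ideal.mem_map_of_mem _ hr
      rw [hmp, ← Ideal.map_pow, ← Ideal.mul_unit_mem_iff_mem _ (hunit s s.2),
        IsLocalization.mk'_spec]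
      exact h4
    · intro a ha
      rw [Ideal.mem_comap, ← hmapφ]
      exact Ideal.mem_map_of_mem φ ha

end part3

section main

theorem main (G R : Type u) [Group G] [Finite G] [CommRing R] [MulSemiringAction G R]
    [IsNoetherianRing (FixedPoints.subring R G)] [Module.Finite (FixedPoints.subring R G) R]
    (H : Subgroup G) (q : Ideal R) [q.IsPrime] (hD : MulAction.stabilizer G q ≤ H)
    (hle : FixedPoints.subring R G ≤ FixedPoints.subring R H) (n : ℕ) :
    Function.Surjective ((Ideal.Quotient.mk (IsLocalRing.maximalIdeal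
        (Localization.AtPrime (Ideal.comap (FixedPoints.subring R H).subtype q)) ^ n)).comp
        (Localization.localRingHom (Ideal.comap (Subring.inclusion hle)
            (Ideal.comap (FixedPoints.subring R H).subtype q))
          (Ideal.comap (FixedPoints.subring R H).subtype q) (Subring.inclusion hle) rfl)) ∧
      Ideal.comap (Localization.localRingHom
          (Ideal.comap (Subring.inclusion hle) (Ideal.comap (FixedPoints.subring R H).subtype q))
          (Ideal.comap (FixedPoints.subring R H).subtype q) (Subring.inclusion hle) rfl)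
        (IsLocalRing.maximalIdeal
          (Localization.AtPrime (Ideal.comap (FixedPoints.subring R H).subtype q)) ^ n) =
        IsLocalRing.maximalIdeal (Localization.AtPrime
          (Ideal.comap (Subring.inclusion hle)
            (Ideal.comap (FixedPoints.subring R H).subtype q))) ^ n := by
  classical
  letI : Fintype (G ⧸ H) := Fintype.ofFinite _
  have hB : ∀ x : R, x ∈ FixedPoints.subring R G ↔ ∀ g : G, g • x = x := fun x => Iff.rfl
  have hR' : ∀ x : R, x ∈ FixedPoints.subring R H ↔ ∀ h ∈ H, h • x = x := by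
    intro x; constructor
    · intro hx h hh; exact hx ⟨h, hh⟩
    · intro hx h; exact hx h h.2
  refine bookkeeping (FixedPoints.subring R G) (FixedPoints.subring R H) hle q (tr H)
    (Finset.univ.erase (QuotientGroup.mk 1 : G ⧸ H))
    (fun c => MulSemiringAction.toRingHom G R (Quotient.out c))
    ?_ (tr_add H) ?_ ?_ ?_ ?_ n
  · intro x hx; exact (hB _).mpr (tr_smul H ((hR' x).mp hx))
  · intro b hb x; exact tr_lin H ((hB b).mp hb) x
  · intro x hx; simpa using tr_eq H ((hR' x).mp hx)
  · intro N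
    obtain ⟨e, he1, he2, he3⟩ := exists_e H q hD
    refine ⟨e ^ (Nat.card G * N + 1), ?_, ?_, ?_, ?_⟩
    · rw [hR']; intro h hh; rw [smul_pow', he1 h hh]
    · intro hmem; exact he3 (Ideal.IsPrime.mem_of_pow_mem inferInstance _ hmem)
    · intro c hc
      have hc' : c ≠ QuotientGroup.mk 1 := (Finset.mem_erase.mp hc).1
      rw [MulSemiringAction.toRingHom_apply, smul_pow']
      exact Ideal.pow_mem_of_mem _ (he2 _ (out_notMem H hc')) _ (Nat.succ_pos _)
    · intro c hc
      have hc' : c ≠ QuotientGroup.mk 1 := (Finset.mem_erase.mp hc).1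
      obtain ⟨s, hs'⟩ : ∃ s : G, s = (Quotient.out c : G) := ⟨_, rfl⟩
      have hs : s ∉ H := hs' ▸ out_notMem H hc'
      rw [MulSemiringAction.toRingHom_apply, ← hs', smul_pow', ← mul_pow]
      have hy : ∀ g : G, g • (e * s • e) ∈ q := by
        intro g
        rw [smul_mul', ← mul_smul]
        by_cases hg : g ∈ H
        · have : g * s ∉ H := fun h => hs (by simpa using H.mul_mem (H.inv_mem hg) h)
          exact Ideal.mul_mem_left _ _ (he2 _ this)
        · exact Ideal.mul_mem_right _ _ (he2 _ hg)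
      have h1 := pow_card_mem q (e * s • e) hy
      rw [pow_succ, pow_mul, Ideal.map_pow]
      exact Ideal.mul_mem_right _ _ (Ideal.pow_mem_pow h1 N)
  · exact artinRees _ _ hle _

end main

end Groth.Agent.H4.DecompGrp
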