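import Mathlib
import Groth.Prelude.Def_AlgSt
import Groth.Agent.Lib.Helper3.StackFibrewise
import Groth.Agent.Lib.Helper3.StkAux

set_option autoImplicit false

universe v₄ u₄ v₃ u₃ v₂ u₂ v u

open CategoryTheory CategoryTheory.Functor

namespace Groth.Agent.H4.StackComp

open Groth.Agent.H3.FibCatAux Groth.Agent.H3.StackDescent

section Helpers

variable {𝒮 : Type u} [Category.{v} 𝒮] {𝒵 : Type u₂} [Category.{v₂} 𝒵] (p : 𝒵 ⥤ 𝒮)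

lemma lift_comp' {R S T : 𝒮} {a b c : 𝒵} (f : R ⟶ S) (g : S ⟶ T) (φ : a ⟶ b) (ψ : b ⟶ c)
    (hφ : p.IsHomLift f φ) (hψ : p.IsHomLift g ψ) : p.IsHomLift (f ≫ g) (φ ≫ ψ) := inferInstance

lemma lift_id_comp' {S T : 𝒮} {a b c : 𝒵} (f : S ⟶ T) (φ : a ⟶ b) (ψ : b ⟶ c)
    (hφ : p.IsHomLift (𝟙 S) φ) (hψ : p.IsHomLift f ψ) : p.IsHomLift f (φ ≫ ψ) := inferInstance

lemma lift_comp_id' {S T : 𝒮} {a b c : 𝒵} (f : S ⟶ T) (φ : a ⟶ b) (ψ : b ⟶ c)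
    (hφ : p.IsHomLift f φ) (hψ : p.IsHomLift (𝟙 T) ψ) : p.IsHomLift f (φ ≫ ψ) := inferInstance

lemma lift_of_eq {R S : 𝒮} {a b : 𝒵} {f f' : R ⟶ S} (φ : a ⟶ b) (h : p.IsHomLift f φ)
    (e : f = f') : p.IsHomLift f' φ := e ▸ h

lemma map_eq_of_isHomLift {b : 𝒵} {V : 𝒮} (f : V ⟶ p.obj b) {a : 𝒵} (φ : a ⟶ b)
    (h : p.IsHomLift f φ) (ha : p.obj a = V) : p.map φ = eqToHom ha ≫ f := by
  subst ha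
  have h' := IsHomLift.fac p f φ
  simp only [eqToHom_refl, Category.id_comp, Category.comp_id] at h'
  rw [eqToHom_refl, Category.id_comp]
  exact h'.symm

lemma sc_ext' {R S : 𝒮} {a b : 𝒵} (f : R ⟶ S) (φ : a ⟶ b) (hφ : p.IsStronglyCartesian f φ)
    {R' : 𝒮} {a' : 𝒵} (g : R' ⟶ R) (ψ ψ' : a' ⟶ a) (hψ : p.IsHomLift g ψ)
    (hψ' : p.IsHomLift g ψ') (h : ψ ≫ φ = ψ' ≫ φ) : ψ = ψ' :=
  IsStronglyCartesian.ext p f φ g h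

noncomputable def scMap {R S : 𝒮} {a b : 𝒵} (f : R ⟶ S) (φ : a ⟶ b)
    (hφ : p.IsStronglyCartesian f φ) {R' : 𝒮} {a' : 𝒵} (g : R' ⟶ R) (f' : R' ⟶ S)
    (hf' : f' = g ≫ f) (φ' : a' ⟶ b) (hφ' : p.IsHomLift f' φ') : a' ⟶ a :=
  IsStronglyCartesian.map p f φ hf' φ'

lemma scMap_isHomLift {R S : 𝒮} {a b : 𝒵} (f : R ⟶ S) (φ : a ⟶ b)
    (hφ : p.IsStronglyCartesian f φ) {R' : 𝒮} {a' : 𝒵} (g : R' ⟶ R) (f' : R' ⟶ S)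
    (hf' : f' = g ≫ f) (φ' : a' ⟶ b) (hφ' : p.IsHomLift f' φ') :
    p.IsHomLift g (scMap p f φ hφ g f' hf' φ' hφ') :=
  IsStronglyCartesian.map_isHomLift p f φ hf' φ'

lemma scMap_fac {R S : 𝒮} {a b : 𝒵} (f : R ⟶ S) (φ : a ⟶ b)
    (hφ : p.IsStronglyCartesian f φ) {R' : 𝒮} {a' : 𝒵} (g : R' ⟶ R) (f' : R' ⟶ S)
    (hf' : f' = g ≫ f) (φ' : a' ⟶ b) (hφ' : p.IsHomLift f' φ') :
    scMap p f φ hφ g f' hf' φ' hφ' ≫ φ = φ' :=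
  IsStronglyCartesian.fac p f φ hf' φ'

lemma isIso_of_lift_id' (h : FibCat.IsFibGrpd p) {U : 𝒮} {a b : 𝒵} (φ : a ⟶ b)
    (hφ : p.IsHomLift (𝟙 U) φ) : IsIso φ := isIso_of_isHomLift_id p h (U := U) φ

lemma isIso_of_lift_iso' (h : FibCat.IsFibGrpd p) {R S : 𝒮} (f : R ⟶ S) (hf : IsIso f) {a b : 𝒵}
    (φ : a ⟶ b) (hφ : p.IsHomLift f φ) : IsIso φ := isIso_of_isHomLift_iso p h f φ

lemma isHomLift_map_of_comp' {𝒜 : Type u₄} [Category.{v₄} 𝒜] (F : 𝒜 ⥤ 𝒵) {R' S' : 𝒮}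
    (f : R' ⟶ S') {a b : 𝒜} (φ : a ⟶ b) (h : (F ⋙ p).IsHomLift f φ) : p.IsHomLift f (F.map φ) :=
  isHomLift_map_of_comp F p f φ

lemma isHomLift_comp_of'' {𝒜 : Type u₄} [Category.{v₄} 𝒜] (F : 𝒜 ⥤ 𝒵) {R S : 𝒵} (g : R ⟶ S)
    {a b : 𝒜} (φ : a ⟶ b) {R' S' : 𝒮} (f : R' ⟶ S') (h1 : F.IsHomLift g φ)
    (h2 : p.IsHomLift f g) : (F ⋙ p).IsHomLift f φ :=
  isHomLift_comp_of F p g φ f

end Helpers

section Raw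

variable {C : Type u} [Category.{v} C] {𝒵 : BasedCategory.{v₂, u₂} C}

lemma unique_raw (h𝒵 : FibCat.IsFibGrpd 𝒵.p) {U : C} {S : Sieve U}
    (hpre : Stk.IsPrestackFor S 𝒵) (D : Stk.sieveCat S ⥤ᵇ 𝒵)
    (pt₁ pt₂ : 𝒵.obj) (h₁ : 𝒵.p.obj pt₁ = U) (h₂ : 𝒵.p.obj pt₂ = U)
    (ι₁ : ∀ a : S.arrows.category, D.obj a ⟶ pt₁) (ι₂ : ∀ a : S.arrows.category, D.obj a ⟶ pt₂)
    (l₁ : ∀ a : S.arrows.category, 𝒵.p.IsHomLift a.obj.hom (ι₁ a))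
    (l₂ : ∀ a : S.arrows.category, 𝒵.p.IsHomLift a.obj.hom (ι₂ a))
    (w₁ : ∀ ⦃a b : S.arrows.category⦄ (f : a ⟶ b), D.map f ≫ ι₁ b = ι₁ a)
    (w₂ : ∀ ⦃a b : S.arrows.category⦄ (f : a ⟶ b), D.map f ≫ ι₂ b = ι₂ a) :
    ∃! φ : pt₁ ⟶ pt₂, 𝒵.p.IsHomLift (𝟙 U) φ ∧ ∀ a, ι₁ a ≫ φ = ι₂ a :=
  (isPrestackFor_iff h𝒵).mp hpre D ⟨pt₁, h₁, ι₁, l₁, w₁⟩ ⟨pt₂, h₂, ι₂, l₂, w₂⟩

end Raw

section Strict

variable {B : Type u} [Category.{v} B] {A : Type u₄} [Category.{v₄} A] (pA : A ⥤ B)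
  {𝒴 : BasedCategory.{v₃, u₃} B} (h𝒴 : FibCat.IsFibGrpd 𝒴.p) (G : A ⥤ 𝒴.obj)
  (θ : ∀ b : A, pA.obj b ⟶ 𝒴.p.obj (G.obj b))
  (hθ : ∀ ⦃b b' : A⦄ (w : b ⟶ b'), pA.map w ≫ θ b' = θ b ≫ 𝒴.p.map (G.map w))

include h𝒴 in
lemma exists_sLam (b : A) : ∃ (y : 𝒴.obj) (φ : y ⟶ G.obj b), 𝒴.p.IsHomLift (θ b) φ :=
  h𝒴.exists_lift (θ b)

noncomputable def sObj (b : A) : 𝒴.obj := (exists_sLam pA h𝒴 G θ b).choose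

noncomputable def sLam (b : A) : sObj pA h𝒴 G θ b ⟶ G.obj b :=
  (exists_sLam pA h𝒴 G θ b).choose_spec.choose

lemma sLam_isHomLift (b : A) : 𝒴.p.IsHomLift (θ b) (sLam pA h𝒴 G θ b) :=
  (exists_sLam pA h𝒴 G θ b).choose_spec.choose_spec

lemma sObj_proj (b : A) : 𝒴.p.obj (sObj pA h𝒴 G θ b) = pA.obj b :=
  haveI := sLam_isHomLift pA h𝒴 G θ b
  IsHomLift.domain_eq 𝒴.p (θ b) (sLam pA h𝒴 G θ b)

lemma sLam_sc (b : A) : 𝒴.p.IsStronglyCartesian (θ b) (sLam pA h𝒴 G θ b) :=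
  haveI := sLam_isHomLift pA h𝒴 G θ b
  isStronglyCartesian_of_isHomLift 𝒴.p h𝒴 (θ b) _

include hθ in
lemma sMap_aux ⦃b b' : A⦄ (w : b ⟶ b') :
    𝒴.p.IsHomLift (pA.map w ≫ θ b') (sLam pA h𝒴 G θ b ≫ G.map w) := by
  rw [hθ w]
  exact lift_comp' 𝒴.p _ _ _ _ (sLam_isHomLift pA h𝒴 G θ b) (IsHomLift.map 𝒴.p (G.map w))

noncomputable def sMap ⦃b b' : A⦄ (w : b ⟶ b') : sObj pA h𝒴 G θ b ⟶ sObj pA h𝒴 G θ b' :=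
  scMap 𝒴.p (θ b') (sLam pA h𝒴 G θ b') (sLam_sc pA h𝒴 G θ b') (pA.map w) (pA.map w ≫ θ b') rfl
    (sLam pA h𝒴 G θ b ≫ G.map w) (sMap_aux pA h𝒴 G θ hθ w)

lemma sMap_isHomLift ⦃b b' : A⦄ (w : b ⟶ b') :
    𝒴.p.IsHomLift (pA.map w) (sMap pA h𝒴 G θ hθ w) :=
  scMap_isHomLift 𝒴.p (θ b') (sLam pA h𝒴 G θ b') (sLam_sc pA h𝒴 G θ b') (pA.map w)
    (pA.map w ≫ θ b') rfl (sLam pA h𝒴 G θ b ≫ G.map w) (sMap_aux pA h𝒴 G θ hθ w)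

lemma sMap_fac ⦃b b' : A⦄ (w : b ⟶ b') :
    sMap pA h𝒴 G θ hθ w ≫ sLam pA h𝒴 G θ b' = sLam pA h𝒴 G θ b ≫ G.map w :=
  scMap_fac 𝒴.p (θ b') (sLam pA h𝒴 G θ b') (sLam_sc pA h𝒴 G θ b') (pA.map w)
    (pA.map w ≫ θ b') rfl (sLam pA h𝒴 G θ b ≫ G.map w) (sMap_aux pA h𝒴 G θ hθ w)

lemma sMap_uniq ⦃b b' : A⦄ (w : b ⟶ b') (m : sObj pA h𝒴 G θ b ⟶ sObj pA h𝒴 G θ b')
    (hm : 𝒴.p.IsHomLift (pA.map w) m)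
    (hfac : m ≫ sLam pA h𝒴 G θ b' = sLam pA h𝒴 G θ b ≫ G.map w) :
    m = sMap pA h𝒴 G θ hθ w := by
  apply sc_ext' 𝒴.p (θ b') (sLam pA h𝒴 G θ b') (sLam_sc pA h𝒴 G θ b') (pA.map w) _ _ hm
    (sMap_isHomLift pA h𝒴 G θ hθ w)
  rw [hfac, sMap_fac]

lemma sMap_id (b : A) : sMap pA h𝒴 G θ hθ (𝟙 b) = 𝟙 _ := by
  symm
  apply sMap_uniq
  · rw [pA.map_id]; exact IsHomLift.id (sObj_proj pA h𝒴 G θ b)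
  · rw [G.map_id, Category.id_comp, Category.comp_id]

lemma sMap_comp ⦃b b' b'' : A⦄ (w : b ⟶ b') (w' : b' ⟶ b'') :
    sMap pA h𝒴 G θ hθ (w ≫ w') = sMap pA h𝒴 G θ hθ w ≫ sMap pA h𝒴 G θ hθ w' := by
  symm
  apply sMap_uniq
  · rw [pA.map_comp]
    exact lift_comp' 𝒴.p _ _ _ _ (sMap_isHomLift pA h𝒴 G θ hθ w) (sMap_isHomLift pA h𝒴 G θ hθ w')
  · rw [Category.assoc, sMap_fac, ← Category.assoc, sMap_fac, Category.assoc, G.map_comp]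

noncomputable def sFun : A ⥤ 𝒴.obj where
  obj := sObj pA h𝒴 G θ
  map := fun w => sMap pA h𝒴 G θ hθ w
  map_id := sMap_id pA h𝒴 G θ hθ
  map_comp := fun w w' => sMap_comp pA h𝒴 G θ hθ w w'

lemma sFun_w : sFun pA h𝒴 G θ hθ ⋙ 𝒴.p = pA :=
  CategoryTheory.Functor.ext (sObj_proj pA h𝒴 G θ) (fun b b' w => by
    have := sMap_isHomLift pA h𝒴 G θ hθ w
    exact IsHomLift.fac' 𝒴.p (pA.map w) (sMap pA h𝒴 G θ hθ w))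

end Strict

section Core

variable {C : Type u} [Category.{v} C]

/-- a descent datum `Dq` in `𝒴` over `R`, whose image in `𝒳` has been glued to `x` -/
structure Setup (𝒳 : BasedCategory.{v₂, u₂} C) (𝒴 : BasedCategory.{v₃, u₃} 𝒳.obj) where
  x : 𝒳.obj
  R : Sieve (𝒳.p.obj x)
  Dq : R.arrows.category ⥤ 𝒴.obj
  hD : Dq ⋙ 𝒴.p ⋙ 𝒳.p = R.arrows.diagram
  ι : ∀ a : R.arrows.category, 𝒴.p.obj (Dq.obj a) ⟶ x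
  hι : ∀ a : R.arrows.category, 𝒳.p.IsHomLift a.obj.hom (ι a)
  hw : ∀ ⦃a a' : R.arrows.category⦄ (f : a ⟶ a'), 𝒴.p.map (Dq.map f) ≫ ι a' = ι a

variable {𝒳 : BasedCategory.{v₂, u₂} C} {𝒴 : BasedCategory.{v₃, u₃} 𝒳.obj}

namespace Setup

variable (T : Setup 𝒳 𝒴)

lemma hD_obj (a : T.R.arrows.category) : 𝒳.p.obj (𝒴.p.obj (T.Dq.obj a)) = a.obj.left :=
  Functor.congr_obj T.hD a

lemma hD_map ⦃a a' : T.R.arrows.category⦄ (f : a ⟶ a') :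
    𝒳.p.IsHomLift f.hom.left (𝒴.p.map (T.Dq.map f)) := by
  apply IsHomLift.of_fac' 𝒳.p f.hom.left _ (T.hD_obj a) (T.hD_obj a')
  exact Functor.congr_hom T.hD f

end Setup

/-- the pulled back sieve on `x` -/
abbrev SS {x : 𝒳.obj} (R : Sieve (𝒳.p.obj x)) : Sieve x := R.functorPullback 𝒳.p

/-- the projection from the pulled back sieve -/
def aF {x : 𝒳.obj} (R : Sieve (𝒳.p.obj x)) : (SS R).arrows.category ⥤ R.arrows.category where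
  obj b := ⟨Over.mk (𝒳.p.map b.obj.hom), b.property⟩
  map {b b'} w := ObjectProperty.homMk (Over.homMk (𝒳.p.map w.hom.left) (by
    change 𝒳.p.map w.hom.left ≫ 𝒳.p.map b'.obj.hom = 𝒳.p.map b.obj.hom
    rw [← 𝒳.p.map_comp, Over.w]))
  map_id b := by
    apply ObjectProperty.hom_ext
    apply Over.OverMorphism.ext
    exact 𝒳.p.map_id _
  map_comp w w' := by
    apply ObjectProperty.hom_ext
    apply Over.OverMorphism.ext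
    exact 𝒳.p.map_comp _ _

variable (h𝒳 : FibCat.IsFibGrpd 𝒳.p) (h𝒴 : FibCat.IsFibGrpd 𝒴.p) (T : Setup 𝒳 𝒴)

include h𝒳 in
lemma ι_sc (a : T.R.arrows.category) : 𝒳.p.IsStronglyCartesian a.obj.hom (T.ι a) :=
  haveI := T.hι a
  isStronglyCartesian_of_isHomLift 𝒳.p h𝒳 a.obj.hom (T.ι a)

include h𝒳 in
lemma ι_sc' (b : (SS T.R).arrows.category) :
    𝒳.p.IsStronglyCartesian (𝒳.p.map b.obj.hom) (T.ι ((aF T.R).obj b)) :=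
  ι_sc h𝒳 T ((aF T.R).obj b)

/-- the canonical identification of the source of `b` with the image of `Dq (aF b)` -/
noncomputable def θ (b : (SS T.R).arrows.category) :
    b.obj.left ⟶ 𝒴.p.obj (T.Dq.obj ((aF T.R).obj b)) :=
  scMap 𝒳.p (𝒳.p.map b.obj.hom) (T.ι ((aF T.R).obj b)) (ι_sc' h𝒳 T b) (𝟙 (𝒳.p.obj b.obj.left))
    (𝒳.p.map b.obj.hom) (Category.id_comp _).symm b.obj.hom (IsHomLift.map 𝒳.p b.obj.hom)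

lemma θ_isHomLift (b : (SS T.R).arrows.category) :
    𝒳.p.IsHomLift (𝟙 (𝒳.p.obj b.obj.left)) (θ h𝒳 T b) :=
  scMap_isHomLift 𝒳.p (𝒳.p.map b.obj.hom) (T.ι ((aF T.R).obj b)) (ι_sc' h𝒳 T b)
    (𝟙 (𝒳.p.obj b.obj.left)) (𝒳.p.map b.obj.hom) (Category.id_comp _).symm b.obj.hom
    (IsHomLift.map 𝒳.p b.obj.hom)

lemma θ_fac (b : (SS T.R).arrows.category) :
    θ h𝒳 T b ≫ T.ι ((aF T.R).obj b) = b.obj.hom :=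
  scMap_fac 𝒳.p (𝒳.p.map b.obj.hom) (T.ι ((aF T.R).obj b)) (ι_sc' h𝒳 T b)
    (𝟙 (𝒳.p.obj b.obj.left)) (𝒳.p.map b.obj.hom) (Category.id_comp _).symm b.obj.hom
    (IsHomLift.map 𝒳.p b.obj.hom)

lemma θ_nat ⦃b b' : (SS T.R).arrows.category⦄ (w : b ⟶ b') :
    w.hom.left ≫ θ h𝒳 T b' = θ h𝒳 T b ≫ 𝒴.p.map (T.Dq.map ((aF T.R).map w)) := by
  have h4 : 𝒳.p.IsHomLift (𝒳.p.map w.hom.left) (𝒴.p.map (T.Dq.map ((aF T.R).map w))) :=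
    T.hD_map ((aF T.R).map w)
  have h5 : 𝒳.p.IsHomLift (𝒳.p.map w.hom.left) (w.hom.left ≫ θ h𝒳 T b') :=
    lift_comp_id' 𝒳.p _ _ _ (IsHomLift.map 𝒳.p w.hom.left) (θ_isHomLift h𝒳 T b')
  have h6 : 𝒳.p.IsHomLift (𝒳.p.map w.hom.left)
      (θ h𝒳 T b ≫ 𝒴.p.map (T.Dq.map ((aF T.R).map w))) :=
    lift_id_comp' 𝒳.p _ _ _ (θ_isHomLift h𝒳 T b) h4
  apply sc_ext' 𝒳.p (𝒳.p.map b'.obj.hom) (T.ι ((aF T.R).obj b')) (ι_sc' h𝒳 T b')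
    (𝒳.p.map w.hom.left) _ _ h5 h6
  rw [Category.assoc, θ_fac, Category.assoc, T.hw, θ_fac]
  exact Over.w w.hom

/-- the strictified datum on the pulled back sieve, as a functor -/
noncomputable def D'F : (SS T.R).arrows.category ⥤ 𝒴.obj :=
  sFun (SS T.R).arrows.diagram h𝒴 (aF T.R ⋙ T.Dq) (θ h𝒳 T) (θ_nat h𝒳 T)

/-- the strictified datum on the pulled back sieve -/
noncomputable def D' : Stk.sieveCat (SS T.R) ⥤ᵇ 𝒴 where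
  toFunctor := D'F h𝒳 h𝒴 T
  w := sFun_w (SS T.R).arrows.diagram h𝒴 (aF T.R ⋙ T.Dq) (θ h𝒳 T) (θ_nat h𝒳 T)

noncomputable def lam (b : (SS T.R).arrows.category) :
    (D'F h𝒳 h𝒴 T).obj b ⟶ T.Dq.obj ((aF T.R).obj b) :=
  sLam (SS T.R).arrows.diagram h𝒴 (aF T.R ⋙ T.Dq) (θ h𝒳 T) b

lemma lam_isHomLift (b : (SS T.R).arrows.category) :
    𝒴.p.IsHomLift (θ h𝒳 T b) (lam h𝒳 h𝒴 T b) :=
  sLam_isHomLift (SS T.R).arrows.diagram h𝒴 (aF T.R ⋙ T.Dq) (θ h𝒳 T) b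

lemma lam_fac ⦃b b' : (SS T.R).arrows.category⦄ (w : b ⟶ b') :
    (D'F h𝒳 h𝒴 T).map w ≫ lam h𝒳 h𝒴 T b' = lam h𝒳 h𝒴 T b ≫ T.Dq.map ((aF T.R).map w) :=
  sMap_fac (SS T.R).arrows.diagram h𝒴 (aF T.R ⋙ T.Dq) (θ h𝒳 T) (θ_nat h𝒳 T) w

lemma bObj_mem (a : T.R.arrows.category) : T.R (𝒳.p.map (T.ι a)) := by
  rw [map_eq_of_isHomLift 𝒳.p a.obj.hom (T.ι a) (T.hι a) (T.hD_obj a)]
  exact T.R.downward_closed a.property _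

/-- the glued leg as an object of the pulled back sieve -/
def bObj (a : T.R.arrows.category) : (SS T.R).arrows.category :=
  ⟨Over.mk (T.ι a), bObj_mem T a⟩

def bMap ⦃a a' : T.R.arrows.category⦄ (f : a ⟶ a') : bObj T a ⟶ bObj T a' :=
  ObjectProperty.homMk (Over.homMk (𝒴.p.map (T.Dq.map f)) (T.hw f))

def uHom (a : T.R.arrows.category) : (aF T.R).obj (bObj T a) ⟶ a :=
  ObjectProperty.homMk (Over.homMk (eqToHom (T.hD_obj a))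
    (map_eq_of_isHomLift 𝒳.p a.obj.hom (T.ι a) (T.hι a) (T.hD_obj a)).symm)

lemma u_nat ⦃a a' : T.R.arrows.category⦄ (f : a ⟶ a') :
    (aF T.R).map (bMap T f) ≫ uHom T a' = uHom T a ≫ f := by
  apply ObjectProperty.hom_ext
  apply Over.OverMorphism.ext
  have h : 𝒳.p.map (𝒴.p.map (T.Dq.map f)) =
      eqToHom (T.hD_obj a) ≫ f.hom.left ≫ eqToHom (T.hD_obj a').symm :=
    Functor.congr_hom T.hD f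
  change 𝒳.p.map (𝒴.p.map (T.Dq.map f)) ≫ eqToHom (T.hD_obj a') =
    eqToHom (T.hD_obj a) ≫ f.hom.left
  rw [h]
  simp

lemma θ_u (a : T.R.arrows.category) :
    θ h𝒳 T (bObj T a) ≫ 𝒴.p.map (T.Dq.map (uHom T a)) = 𝟙 (𝒴.p.obj (T.Dq.obj a)) := by
  have h2 : 𝒳.p.IsHomLift (𝟙 (𝒳.p.obj (𝒴.p.obj (T.Dq.obj a)))) (θ h𝒳 T (bObj T a)) :=
    θ_isHomLift h𝒳 T (bObj T a)
  have h3 : 𝒳.p.IsHomLift (eqToHom (T.hD_obj a)) (𝒴.p.map (T.Dq.map (uHom T a))) :=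
    T.hD_map (uHom T a)
  have h4 : 𝒳.p.IsHomLift (eqToHom (T.hD_obj a))
      (θ h𝒳 T (bObj T a) ≫ 𝒴.p.map (T.Dq.map (uHom T a))) :=
    lift_id_comp' 𝒳.p _ _ _ h2 h3
  have h5 : 𝒳.p.IsHomLift (eqToHom (T.hD_obj a)) (𝟙 (𝒴.p.obj (T.Dq.obj a))) :=
    IsHomLift.id_lift_eqToHom_domain (T.hD_obj a) rfl
  apply sc_ext' 𝒳.p a.obj.hom (T.ι a) (ι_sc h𝒳 T a) (eqToHom (T.hD_obj a)) _ _ h4 h5
  rw [Category.assoc, T.hw]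
  exact (θ_fac h𝒳 T (bObj T a)).trans (Category.id_comp (T.ι a)).symm

/-- comparison of the strictified datum at the glued leg with the original datum -/
noncomputable def μ (a : T.R.arrows.category) : (D'F h𝒳 h𝒴 T).obj (bObj T a) ⟶ T.Dq.obj a :=
  lam h𝒳 h𝒴 T (bObj T a) ≫ T.Dq.map (uHom T a)

lemma μ_isHomLift (a : T.R.arrows.category) :
    𝒴.p.IsHomLift (𝟙 (𝒴.p.obj (T.Dq.obj a))) (μ h𝒳 h𝒴 T a) :=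
  lift_of_eq 𝒴.p _ (lift_comp' 𝒴.p _ _ _ _ (lam_isHomLift h𝒳 h𝒴 T (bObj T a))
    (IsHomLift.map 𝒴.p (T.Dq.map (uHom T a)))) (θ_u h𝒳 T a)

lemma μ_isIso (a : T.R.arrows.category) : IsIso (μ h𝒳 h𝒴 T a) :=
  isIso_of_lift_id' 𝒴.p h𝒴 _ (μ_isHomLift h𝒳 h𝒴 T a)

noncomputable def ν (a : T.R.arrows.category) : T.Dq.obj a ⟶ (D'F h𝒳 h𝒴 T).obj (bObj T a) :=
  haveI := μ_isIso h𝒳 h𝒴 T a
  inv (μ h𝒳 h𝒴 T a)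

lemma μ_ν (a : T.R.arrows.category) : μ h𝒳 h𝒴 T a ≫ ν h𝒳 h𝒴 T a = 𝟙 _ := by
  haveI := μ_isIso h𝒳 h𝒴 T a
  exact IsIso.hom_inv_id (μ h𝒳 h𝒴 T a)

lemma ν_μ (a : T.R.arrows.category) : ν h𝒳 h𝒴 T a ≫ μ h𝒳 h𝒴 T a = 𝟙 _ := by
  haveI := μ_isIso h𝒳 h𝒴 T a
  exact IsIso.inv_hom_id (μ h𝒳 h𝒴 T a)

lemma ν_isHomLift (a : T.R.arrows.category) :
    𝒴.p.IsHomLift (𝟙 (𝒴.p.obj (T.Dq.obj a))) (ν h𝒳 h𝒴 T a) := by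
  haveI := μ_isIso h𝒳 h𝒴 T a
  haveI := μ_isHomLift h𝒳 h𝒴 T a
  exact IsHomLift.lift_id_inv_isIso 𝒴.p (𝒴.p.obj (T.Dq.obj a)) (μ h𝒳 h𝒴 T a)

lemma μ_nat ⦃a a' : T.R.arrows.category⦄ (f : a ⟶ a') :
    μ h𝒳 h𝒴 T a ≫ T.Dq.map f = (D'F h𝒳 h𝒴 T).map (bMap T f) ≫ μ h𝒳 h𝒴 T a' := by
  unfold μ
  rw [Category.assoc, ← T.Dq.map_comp, ← u_nat T f, T.Dq.map_comp, ← Category.assoc, ← lam_fac,
    Category.assoc]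

lemma ν_nat ⦃a a' : T.R.arrows.category⦄ (f : a ⟶ a') :
    T.Dq.map f ≫ ν h𝒳 h𝒴 T a' = ν h𝒳 h𝒴 T a ≫ (D'F h𝒳 h𝒴 T).map (bMap T f) := by
  have h := μ_nat h𝒳 h𝒴 T f
  have h1 := μ_ν h𝒳 h𝒴 T a'
  have h2 := ν_μ h𝒳 h𝒴 T a
  calc T.Dq.map f ≫ ν h𝒳 h𝒴 T a'
      = (ν h𝒳 h𝒴 T a ≫ μ h𝒳 h𝒴 T a) ≫ T.Dq.map f ≫ ν h𝒳 h𝒴 T a' := by
        rw [h2, Category.id_comp]
    _ = ν h𝒳 h𝒴 T a ≫ (μ h𝒳 h𝒴 T a ≫ T.Dq.map f) ≫ ν h𝒳 h𝒴 T a' := by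
        simp only [Category.assoc]
    _ = ν h𝒳 h𝒴 T a ≫ ((D'F h𝒳 h𝒴 T).map (bMap T f) ≫ μ h𝒳 h𝒴 T a') ≫ ν h𝒳 h𝒴 T a' := by
        rw [h]
    _ = ν h𝒳 h𝒴 T a ≫ (D'F h𝒳 h𝒴 T).map (bMap T f) ≫ (μ h𝒳 h𝒴 T a' ≫ ν h𝒳 h𝒴 T a') := by
        simp only [Category.assoc]
    _ = ν h𝒳 h𝒴 T a ≫ (D'F h𝒳 h𝒴 T).map (bMap T f) := by
        rw [h1, Category.comp_id]

/-- existence: a cocone of the strictified datum gives a cocone of the original datum -/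
lemma exists_raw (c' : Cocone (D' h𝒳 h𝒴 T)) :
    ∃ (pt : 𝒴.obj) (_ : 𝒳.p.obj (𝒴.p.obj pt) = 𝒳.p.obj T.x)
      (leg : ∀ a : T.R.arrows.category, T.Dq.obj a ⟶ pt),
      (∀ a : T.R.arrows.category, (𝒴.p ⋙ 𝒳.p).IsHomLift a.obj.hom (leg a)) ∧
      ∀ ⦃a a' : T.R.arrows.category⦄ (f : a ⟶ a'), T.Dq.map f ≫ leg a' = leg a := by
  refine ⟨c'.pt, congrArg 𝒳.p.obj c'.pt_proj, fun a => ν h𝒳 h𝒴 T a ≫ c'.ι (bObj T a), ?_, ?_⟩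
  · intro a
    have h1 : 𝒴.p.IsHomLift (T.ι a) (c'.ι (bObj T a)) := c'.ι_lift (bObj T a)
    have h2 : 𝒴.p.IsHomLift (T.ι a) (ν h𝒳 h𝒴 T a ≫ c'.ι (bObj T a)) :=
      lift_id_comp' 𝒴.p _ _ _ (ν_isHomLift h𝒳 h𝒴 T a) h1
    exact isHomLift_comp_of'' 𝒳.p 𝒴.p (T.ι a) _ a.obj.hom h2 (T.hι a)
  · intro a a' f
    rw [← Category.assoc, ν_nat, Category.assoc]
    congr 1
    exact c'.w (bMap T f)

end Core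

section Uniq

variable {C : Type u} [Category.{v} C]

/-- a descent datum `Dq` in `𝒴` over `R` with a cocone with vertex `yt` -/
structure TSetup (𝒳 : BasedCategory.{v₂, u₂} C) (𝒴 : BasedCategory.{v₃, u₃} 𝒳.obj) where
  yt : 𝒴.obj
  R : Sieve (𝒳.p.obj (𝒴.p.obj yt))
  Dq : R.arrows.category ⥤ 𝒴.obj
  hD : Dq ⋙ 𝒴.p ⋙ 𝒳.p = R.arrows.diagram
  ιt : ∀ a : R.arrows.category, Dq.obj a ⟶ yt
  hιt : ∀ a : R.arrows.category, (𝒴.p ⋙ 𝒳.p).IsHomLift a.obj.hom (ιt a)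
  hwt : ∀ ⦃a a' : R.arrows.category⦄ (f : a ⟶ a'), Dq.map f ≫ ιt a' = ιt a

variable {𝒳 : BasedCategory.{v₂, u₂} C} {𝒴 : BasedCategory.{v₃, u₃} 𝒳.obj}

lemma TSetup.hwt' (W : TSetup 𝒳 𝒴) ⦃a a' : W.R.arrows.category⦄ (f : a ⟶ a') :
    𝒴.p.map (W.Dq.map f) ≫ 𝒴.p.map (W.ιt a') = 𝒴.p.map (W.ιt a) := by
  rw [← 𝒴.p.map_comp, W.hwt f]

lemma TSetup.hwt_assoc (W : TSetup 𝒳 𝒴) ⦃a a' : W.R.arrows.category⦄ (f : a ⟶ a') {y : 𝒴.obj}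
    (h : W.yt ⟶ y) : W.Dq.map f ≫ W.ιt a' ≫ h = W.ιt a ≫ h := by
  rw [← Category.assoc, W.hwt f]

@[reducible] def TSetup.toSetup (W : TSetup 𝒳 𝒴) : Setup 𝒳 𝒴 where
  x := 𝒴.p.obj W.yt
  R := W.R
  Dq := W.Dq
  hD := W.hD
  ι a := 𝒴.p.map (W.ιt a)
  hι a := isHomLift_map_of_comp' 𝒳.p 𝒴.p a.obj.hom (W.ιt a) (W.hιt a)
  hw _ _ f := W.hwt' f

/-- a second cocone of the same datum -/
structure SData (W : TSetup 𝒳 𝒴) where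
  ys : 𝒴.obj
  hys : 𝒳.p.obj (𝒴.p.obj ys) = 𝒳.p.obj (𝒴.p.obj W.yt)
  ιs : ∀ a : W.R.arrows.category, W.Dq.obj a ⟶ ys
  hιs : ∀ a : W.R.arrows.category, (𝒴.p ⋙ 𝒳.p).IsHomLift a.obj.hom (ιs a)
  hws : ∀ ⦃a a' : W.R.arrows.category⦄ (f : a ⟶ a'), W.Dq.map f ≫ ιs a' = ιs a

lemma SData.hws' {W : TSetup 𝒳 𝒴} (Z : SData W) ⦃a a' : W.R.arrows.category⦄ (f : a ⟶ a') :
    𝒴.p.map (W.Dq.map f) ≫ 𝒴.p.map (Z.ιs a') = 𝒴.p.map (Z.ιs a) := by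
  rw [← 𝒴.p.map_comp, Z.hws f]

lemma SData.hws_assoc {W : TSetup 𝒳 𝒴} (Z : SData W) ⦃a a' : W.R.arrows.category⦄ (f : a ⟶ a')
    {y : 𝒴.obj} (h : Z.ys ⟶ y) : W.Dq.map f ≫ Z.ιs a' ≫ h = Z.ιs a ≫ h := by
  rw [← Category.assoc, Z.hws f]

/-- the image datum in `𝒳` -/
def Dx (W : TSetup 𝒳 𝒴) : Stk.sieveCat W.R ⥤ᵇ 𝒳 where
  toFunctor := W.Dq ⋙ 𝒴.p
  w := W.hD

theorem uniq_raw (h𝒳 : FibCat.IsFibGrpd 𝒳.p) (h𝒴 : FibCat.IsFibGrpd 𝒴.p) (W : TSetup 𝒳 𝒴)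
    (hpre : Stk.IsPrestackFor W.R 𝒳) (hstk : Stk.IsPrestackFor (SS W.R) 𝒴) (Z : SData W) :
    ∃! φ : Z.ys ⟶ W.yt, (𝒴.p ⋙ 𝒳.p).IsHomLift (𝟙 (𝒳.p.obj (𝒴.p.obj W.yt))) φ ∧
      ∀ a : W.R.arrows.category, Z.ιs a ≫ φ = W.ιt a := by
  -- step (a): the morphism downstairs
  obtain ⟨ψ, ⟨hψ, hψ₀⟩, hψu₀⟩ := unique_raw h𝒳 hpre (Dx W) (𝒴.p.obj Z.ys) (𝒴.p.obj W.yt) Z.hys rfl
    (fun a => 𝒴.p.map (Z.ιs a)) (fun a => 𝒴.p.map (W.ιt a))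
    (fun a => isHomLift_map_of_comp' 𝒳.p 𝒴.p a.obj.hom (Z.ιs a) (Z.hιs a))
    (fun a => isHomLift_map_of_comp' 𝒳.p 𝒴.p a.obj.hom (W.ιt a) (W.hιt a))
    (fun _ _ f => Z.hws' f) (fun _ _ f => W.hwt' f)
  have hψ' : ∀ a : W.R.arrows.category, 𝒴.p.map (Z.ιs a) ≫ ψ = 𝒴.p.map (W.ιt a) := hψ₀
  have hψu : ∀ ψ' : 𝒴.p.obj Z.ys ⟶ 𝒴.p.obj W.yt,
      𝒳.p.IsHomLift (𝟙 (𝒳.p.obj (𝒴.p.obj W.yt))) ψ' →
      (∀ a : W.R.arrows.category, 𝒴.p.map (Z.ιs a) ≫ ψ' = 𝒴.p.map (W.ιt a)) → ψ' = ψ :=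
    fun ψ' h1 h2 => hψu₀ ψ' ⟨h1, h2⟩
  have hψi : IsIso ψ := isIso_of_lift_id' 𝒳.p h𝒳 ψ hψ
  -- step (c): transport `ys` along `ψ`
  obtain ⟨s', ρ, hρ⟩ := h𝒴.exists_lift (x := Z.ys) (inv ψ)
  have hρi : IsIso ρ := isIso_of_lift_iso' 𝒴.p h𝒴 (inv ψ) inferInstance ρ hρ
  have hs' : 𝒴.p.obj s' = 𝒴.p.obj W.yt := IsHomLift.domain_eq 𝒴.p (inv ψ) ρ
  have hρinv : 𝒴.p.IsHomLift ψ (inv ρ) :=
    lift_of_eq 𝒴.p _ (IsHomLift.inv 𝒴.p (inv ψ) ρ) IsIso.inv_inv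
  have hkey : ∀ b : (SS W.R).arrows.category,
      θ h𝒳 W.toSetup b ≫ 𝒴.p.map (Z.ιs ((aF W.R).obj b)) ≫ ψ = b.obj.hom := by
    intro b
    rw [hψ']
    exact θ_fac h𝒳 W.toSetup b
  -- the two cocones of the strictified datum
  have hσ_lift : ∀ b : (SS W.R).arrows.category, 𝒴.p.IsHomLift b.obj.hom
      (lam h𝒳 h𝒴 W.toSetup b ≫ Z.ιs ((aF W.R).obj b) ≫ inv ρ) := by
    intro b
    refine lift_of_eq 𝒴.p _ (lift_comp' 𝒴.p _ _ _ _ (lam_isHomLift h𝒳 h𝒴 W.toSetup b)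
      (lift_comp' 𝒴.p _ _ _ _ (IsHomLift.map 𝒴.p (Z.ιs ((aF W.R).obj b))) hρinv)) ?_
    exact hkey b
  have hτ_lift : ∀ b : (SS W.R).arrows.category, 𝒴.p.IsHomLift b.obj.hom
      (lam h𝒳 h𝒴 W.toSetup b ≫ W.ιt ((aF W.R).obj b)) := by
    intro b
    refine lift_of_eq 𝒴.p _ (lift_comp' 𝒴.p _ _ _ _ (lam_isHomLift h𝒳 h𝒴 W.toSetup b)
      (IsHomLift.map 𝒴.p (W.ιt ((aF W.R).obj b)))) ?_
    exact θ_fac h𝒳 W.toSetup b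
  have hσ_w : ∀ ⦃b b' : (SS W.R).arrows.category⦄ (w : b ⟶ b'),
      (D' h𝒳 h𝒴 W.toSetup).map w ≫ lam h𝒳 h𝒴 W.toSetup b' ≫ Z.ιs ((aF W.R).obj b') ≫ inv ρ =
        lam h𝒳 h𝒴 W.toSetup b ≫ Z.ιs ((aF W.R).obj b) ≫ inv ρ := by
    intro b b' w
    have e := lam_fac h𝒳 h𝒴 W.toSetup w
    have e' := Z.hws_assoc ((aF W.R).map w) (inv ρ)
    calc (D' h𝒳 h𝒴 W.toSetup).map w ≫ lam h𝒳 h𝒴 W.toSetup b' ≫ Z.ιs ((aF W.R).obj b') ≫ inv ρ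
        = ((D'F h𝒳 h𝒴 W.toSetup).map w ≫ lam h𝒳 h𝒴 W.toSetup b') ≫
            Z.ιs ((aF W.R).obj b') ≫ inv ρ := (Category.assoc _ _ _).symm
      _ = (lam h𝒳 h𝒴 W.toSetup b ≫ W.Dq.map ((aF W.R).map w)) ≫
            Z.ιs ((aF W.R).obj b') ≫ inv ρ := by rw [e]
      _ = lam h𝒳 h𝒴 W.toSetup b ≫ W.Dq.map ((aF W.R).map w) ≫
            Z.ιs ((aF W.R).obj b') ≫ inv ρ := Category.assoc _ _ _
      _ = lam h𝒳 h𝒴 W.toSetup b ≫ Z.ιs ((aF W.R).obj b) ≫ inv ρ := by rw [e']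
  have hτ_w : ∀ ⦃b b' : (SS W.R).arrows.category⦄ (w : b ⟶ b'),
      (D' h𝒳 h𝒴 W.toSetup).map w ≫ lam h𝒳 h𝒴 W.toSetup b' ≫ W.ιt ((aF W.R).obj b') =
        lam h𝒳 h𝒴 W.toSetup b ≫ W.ιt ((aF W.R).obj b) := by
    intro b b' w
    have e := lam_fac h𝒳 h𝒴 W.toSetup w
    have e' := W.hwt ((aF W.R).map w)
    calc (D' h𝒳 h𝒴 W.toSetup).map w ≫ lam h𝒳 h𝒴 W.toSetup b' ≫ W.ιt ((aF W.R).obj b')
        = ((D'F h𝒳 h𝒴 W.toSetup).map w ≫ lam h𝒳 h𝒴 W.toSetup b') ≫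
            W.ιt ((aF W.R).obj b') := (Category.assoc _ _ _).symm
      _ = (lam h𝒳 h𝒴 W.toSetup b ≫ W.Dq.map ((aF W.R).map w)) ≫
            W.ιt ((aF W.R).obj b') := by rw [e]
      _ = lam h𝒳 h𝒴 W.toSetup b ≫ W.Dq.map ((aF W.R).map w) ≫
            W.ιt ((aF W.R).obj b') := Category.assoc _ _ _
      _ = lam h𝒳 h𝒴 W.toSetup b ≫ W.ιt ((aF W.R).obj b) := by rw [e']
  obtain ⟨Φ, ⟨hΦ, hΦ₀⟩, hΦu₀⟩ := unique_raw h𝒴 hstk (D' h𝒳 h𝒴 W.toSetup) s' W.yt hs' rfl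
    (fun b => lam h𝒳 h𝒴 W.toSetup b ≫ Z.ιs ((aF W.R).obj b) ≫ inv ρ)
    (fun b => lam h𝒳 h𝒴 W.toSetup b ≫ W.ιt ((aF W.R).obj b))
    hσ_lift hτ_lift hσ_w hτ_w
  have hΦ' : ∀ b : (SS W.R).arrows.category,
      (lam h𝒳 h𝒴 W.toSetup b ≫ Z.ιs ((aF W.R).obj b) ≫ inv ρ) ≫ Φ =
        lam h𝒳 h𝒴 W.toSetup b ≫ W.ιt ((aF W.R).obj b) := hΦ₀
  have hΦu : ∀ Φ' : s' ⟶ W.yt, 𝒴.p.IsHomLift (𝟙 (𝒴.p.obj W.yt)) Φ' →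
      (∀ b : (SS W.R).arrows.category,
        (lam h𝒳 h𝒴 W.toSetup b ≫ Z.ιs ((aF W.R).obj b) ≫ inv ρ) ≫ Φ' =
          lam h𝒳 h𝒴 W.toSetup b ≫ W.ιt ((aF W.R).obj b)) → Φ' = Φ :=
    fun Φ' h1 h2 => hΦu₀ Φ' ⟨h1, h2⟩
  refine ⟨inv ρ ≫ Φ, ⟨?_, ?_⟩, ?_⟩
  · exact isHomLift_comp_of'' 𝒳.p 𝒴.p ψ (inv ρ ≫ Φ) _ (lift_comp_id' 𝒴.p _ _ _ hρinv hΦ) hψ
  · intro a
    have hi := μ_isIso h𝒳 h𝒴 W.toSetup a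
    have e1 : μ h𝒳 h𝒴 W.toSetup a ≫ Z.ιs a =
        lam h𝒳 h𝒴 W.toSetup (bObj W.toSetup a) ≫
          Z.ιs ((aF W.R).obj (bObj W.toSetup a)) := by
      unfold μ
      rw [Category.assoc]
      congr 1
      exact Z.hws (uHom W.toSetup a)
    have e2 : μ h𝒳 h𝒴 W.toSetup a ≫ W.ιt a =
        lam h𝒳 h𝒴 W.toSetup (bObj W.toSetup a) ≫
          W.ιt ((aF W.R).obj (bObj W.toSetup a)) := by
      unfold μ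
      rw [Category.assoc]
      congr 1
      exact W.hwt (uHom W.toSetup a)
    have e3 := hΦ' (bObj W.toSetup a)
    apply (cancel_epi (μ h𝒳 h𝒴 W.toSetup a)).mp
    rw [← Category.assoc, e1, e2, Category.assoc]
    simpa only [Category.assoc] using e3
  · rintro φ' ⟨h1, h2⟩
    have hq : 𝒴.p.map φ' = ψ := by
      apply hψu
      · exact isHomLift_map_of_comp' 𝒳.p 𝒴.p _ φ' h1
      · intro a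
        rw [← 𝒴.p.map_comp, h2 a]
    have hΦ2 : ρ ≫ φ' = Φ := by
      apply hΦu
      · refine lift_of_eq 𝒴.p _ (lift_comp' 𝒴.p _ _ _ _ hρ (IsHomLift.map 𝒴.p φ')) ?_
        rw [hq, IsIso.inv_hom_id]
      · intro b
        simp only [Category.assoc, IsIso.inv_hom_id_assoc]
        rw [h2]
    rw [← hΦ2, IsIso.inv_hom_id_assoc]

end Uniq

section Final

variable {C : Type u} [Category.{v} C] (J : GrothendieckTopology C)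
  {𝒳 : BasedCategory.{v, max u v} C}

lemma SS_mem (h𝒳 : FibCat.IsFibGrpd 𝒳.p) {x : 𝒳.obj} (R : Sieve (𝒳.p.obj x))
    (hR : R ∈ J (𝒳.p.obj x)) : SS R ∈ 𝒳.p.restrictedTopology J x := by
  rw [Groth.Agent.H3.StkAux.mem_restrictedTopology_iff 𝒳.p h𝒳 J]
  refine J.superset_covering ?_ hR
  intro V f hf
  obtain ⟨z, m, hm⟩ := h𝒳.exists_lift (x := x) f
  have hz : 𝒳.p.obj z = V := IsHomLift.domain_eq 𝒳.p f m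
  have e := map_eq_of_isHomLift 𝒳.p f m hm hz
  subst hz
  rw [eqToHom_refl, Category.id_comp] at e
  refine ⟨z, m, 𝟙 _, ?_, ?_⟩
  · show R (𝒳.p.map m)
    rw [e]; exact hf
  · rw [Category.id_comp, e]

/-- the image in `𝒳` of a descent datum of the composite -/
def pushD {𝒴 : BasedCategory.{v, max u v} 𝒳.obj} {U : C} {R : Sieve U}
    (D : Stk.sieveCat R ⥤ᵇ BasedCategory.ofFunctor (𝒴.p ⋙ 𝒳.p)) : Stk.sieveCat R ⥤ᵇ 𝒳 where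
  toFunctor := D.toFunctor ⋙ 𝒴.p
  w := D.w

@[reducible] def mkSetup {𝒴 : BasedCategory.{v, max u v} 𝒳.obj} {x : 𝒳.obj}
    {R : Sieve (𝒳.p.obj x)} (D : Stk.sieveCat R ⥤ᵇ BasedCategory.ofFunctor (𝒴.p ⋙ 𝒳.p))
    (ι : ∀ a : R.arrows.category, 𝒴.p.obj (D.obj a) ⟶ x)
    (hι : ∀ a : R.arrows.category, 𝒳.p.IsHomLift a.obj.hom (ι a))
    (hw : ∀ ⦃a a' : R.arrows.category⦄ (f : a ⟶ a'), 𝒴.p.map (D.map f) ≫ ι a' = ι a) :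
    Setup 𝒳 𝒴 :=
  ⟨x, R, D.toFunctor, D.w, ι, hι, hw⟩

theorem isStack_comp (h𝒳 : Stk.IsStack J 𝒳) (𝒴 : BasedCategory.{v, max u v} 𝒳.obj)
    (h𝒴 : Stk.IsStack (𝒳.p.restrictedTopology J) 𝒴) :
    Stk.IsStack J (BasedCategory.ofFunctor (𝒴.p ⋙ 𝒳.p)) := by
  have hZ : FibCat.IsFibGrpd (𝒴.p ⋙ 𝒳.p) := X6416 𝒴.p 𝒳.p h𝒴.1 h𝒳.1
  refine ⟨hZ, ?_⟩
  intro U R hR
  refine (isStackFor_iff (𝒳 := BasedCategory.ofFunctor (𝒴.p ⋙ 𝒳.p)) hZ).mpr ⟨?_, ?_⟩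
  · intro D
    obtain ⟨⟨x, hx, ι, hι, hw⟩⟩ := ((isStackFor_iff h𝒳.1).mp (h𝒳.2 R hR)).1 (pushD D)
    subst hx
    obtain ⟨c'⟩ := ((isStackFor_iff h𝒴.1).mp (h𝒴.2 (SS R) (SS_mem J h𝒳.1 R hR))).1
      (D' h𝒳.1 h𝒴.1 (mkSetup D ι hι hw))
    obtain ⟨pt, hpt, leg, hleg, hlegw⟩ := exists_raw h𝒳.1 h𝒴.1 (mkSetup D ι hι hw) c'
    exact ⟨⟨pt, hpt, leg, hleg, hlegw⟩⟩
  · intro D s t
    obtain ⟨yt, hy, ιt, hιt, hwt⟩ := t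
    obtain ⟨ys, hys, ιs, hιs, hws⟩ := s
    subst hy
    exact uniq_raw h𝒳.1 h𝒴.1 ⟨yt, R, D.toFunctor, D.w, ιt, hιt, hwt⟩
      (isPrestackFor_of_isStackFor (h𝒳.2 R hR))
      (isPrestackFor_of_isStackFor (h𝒴.2 _ (SS_mem J h𝒳.1 R hR))) ⟨ys, hys, ιs, hιs, hws⟩

end Final

end Groth.Agent.H4.StackComp
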