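import Mathlib
import Groth.Prelude.Def_AlgSt
import Groth.Agent.Lib.Helper3.StackFibrewise
import Groth.Agent.Lib.Helper3.StkAux
import Groth.Agent.H4.StackComp

set_option autoImplicit false

universe w' w v₃ u₃ v₂ u₂ v u

open CategoryTheory CategoryTheory.Functor

namespace Groth.Agent.H4.DescentIdx

open Groth.Agent.H3.FibCatAux Groth.Agent.H3.StackDescent Groth.Agent.H4.StackComp

variable {D : Type u₂} [Category.{v₂} D] {X : D}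

/-- an index category `I` mapping to `Over X`, with images in the sieve `R'`, through which every
arrow of `R'` factors, and with binary products preserved by the functor -/
structure IdxData (R' : Sieve X) (I : Type w) [Category.{w'} I] where
  Φ : I ⥤ Over X
  mem : ∀ i : I, R' (Φ.obj i).hom
  surj : ∀ b : Over X, R' b.hom → ∃ i : I, Nonempty (b ⟶ Φ.obj i)
  P : I → I → I
  π₁ : ∀ i j : I, P i j ⟶ i
  π₂ : ∀ i j : I, P i j ⟶ j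
  pairI : ∀ {k i j : I} (_ : k ⟶ i) (_ : k ⟶ j), k ⟶ P i j
  pairI_fst : ∀ {k i j : I} (m : k ⟶ i) (m' : k ⟶ j), pairI m m' ≫ π₁ i j = m
  pairI_snd : ∀ {k i j : I} (m : k ⟶ i) (m' : k ⟶ j), pairI m m' ≫ π₂ i j = m'
  pairΦ : ∀ {b : Over X} {i j : I} (_ : b ⟶ Φ.obj i) (_ : b ⟶ Φ.obj j), b ⟶ Φ.obj (P i j)
  pairΦ_fst : ∀ {b : Over X} {i j : I} (h : b ⟶ Φ.obj i) (h' : b ⟶ Φ.obj j),
    pairΦ h h' ≫ Φ.map (π₁ i j) = h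
  pairΦ_snd : ∀ {b : Over X} {i j : I} (h : b ⟶ Φ.obj i) (h' : b ⟶ Φ.obj j),
    pairΦ h h' ≫ Φ.map (π₂ i j) = h'
  pairΦ_ext : ∀ {b : Over X} {i j : I} (l l' : b ⟶ Φ.obj (P i j)),
    l ≫ Φ.map (π₁ i j) = l' ≫ Φ.map (π₁ i j) → l ≫ Φ.map (π₂ i j) = l' ≫ Φ.map (π₂ i j) → l = l'

variable {R' : Sieve X} {I : Type w} [Category.{w'} I] (N : IdxData R' I)
  {𝒮 : BasedCategory.{v₃, u₃} D} (h𝒮 : FibCat.IsFibGrpd 𝒮.p) (E : I ⥤ 𝒮.obj)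
  (hE : E ⋙ 𝒮.p = N.Φ ⋙ Over.forget X)

include hE in
lemma E_obj (i : I) : 𝒮.p.obj (E.obj i) = (N.Φ.obj i).left := Functor.congr_obj hE i

include hE in
lemma E_lift {i j : I} (m : i ⟶ j) : 𝒮.p.IsHomLift (N.Φ.map m).left (E.map m) := by
  apply IsHomLift.of_fac' 𝒮.p (N.Φ.map m).left _ (E_obj N E hE i) (E_obj N E hE j)
  exact Functor.congr_hom hE m

include h𝒮 hE in
lemma E_sc {i j : I} (m : i ⟶ j) : 𝒮.p.IsStronglyCartesian (N.Φ.map m).left (E.map m) :=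
  haveI := E_lift N E hE m
  isStronglyCartesian_of_isHomLift 𝒮.p h𝒮 _ _

/-- compatible families of morphisms from `x` to the `E i`, indexed by the factorisations of `b` -/
structure Fam (b : Over X) (x : 𝒮.obj) {Wx : D} (w : Wx ⟶ b.left) where
  κ : ∀ (i : I) (_ : b ⟶ N.Φ.obj i), x ⟶ E.obj i
  lift : ∀ (i : I) (h : b ⟶ N.Φ.obj i), 𝒮.p.IsHomLift (w ≫ h.left) (κ i h)
  nat : ∀ {i j : I} (h : b ⟶ N.Φ.obj i) (m : i ⟶ j), κ j (h ≫ N.Φ.map m) = κ i h ≫ E.map m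

variable {N E}

def Fam.cast {b : Over X} {x : 𝒮.obj} {Wx : D} {w w' : Wx ⟶ b.left} (κ : Fam N E b x w)
    (hw : w = w') : Fam N E b x w' where
  κ := κ.κ
  lift i h := hw ▸ κ.lift i h
  nat := κ.nat

def Fam.precomp {b : Over X} {x : 𝒮.obj} {Wx : D} {w : Wx ⟶ b.left} (κ : Fam N E b x w)
    {x' : 𝒮.obj} {Wx' : D} (v : Wx' ⟶ Wx) (t : x' ⟶ x) (ht : 𝒮.p.IsHomLift v t) :
    Fam N E b x' (v ≫ w) where
  κ i h := t ≫ κ.κ i h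
  lift i h := lift_of_eq 𝒮.p _ (lift_comp' 𝒮.p _ _ _ _ ht (κ.lift i h)) (Category.assoc _ _ _).symm
  nat h m := by
    show t ≫ κ.κ _ (h ≫ N.Φ.map m) = (t ≫ κ.κ _ h) ≫ E.map m
    rw [κ.nat, Category.assoc]

def Fam.push {b' b : Over X} {x : 𝒮.obj} {Wx : D} {w : Wx ⟶ b'.left} (κ : Fam N E b' x w)
    (k : b' ⟶ b) : Fam N E b x (w ≫ k.left) where
  κ i h := κ.κ i (k ≫ h)
  lift i h := lift_of_eq 𝒮.p _ (κ.lift i (k ≫ h)) (by simp)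
  nat h m := by
    show κ.κ _ (k ≫ h ≫ N.Φ.map m) = κ.κ _ (k ≫ h) ≫ E.map m
    rw [← κ.nat, Category.assoc]

variable (N E)

include h𝒮 hE in
lemma Fam.eq_of_eq {b : Over X} {x : 𝒮.obj} {Wx : D} {w : Wx ⟶ b.left} (κ κ' : Fam N E b x w)
    (i₀ : I) (h₀ : b ⟶ N.Φ.obj i₀) (e : κ.κ i₀ h₀ = κ'.κ i₀ h₀) (i : I) (h : b ⟶ N.Φ.obj i) :
    κ.κ i h = κ'.κ i h := by
  have e1 : κ.κ (N.P i₀ i) (N.pairΦ h₀ h) = κ'.κ (N.P i₀ i) (N.pairΦ h₀ h) := by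
    apply sc_ext' 𝒮.p (N.Φ.map (N.π₁ i₀ i)).left (E.map (N.π₁ i₀ i)) (E_sc N h𝒮 E hE _)
      (w ≫ (N.pairΦ h₀ h).left) _ _ (κ.lift _ _) (κ'.lift _ _)
    rw [← κ.nat, ← κ'.nat, N.pairΦ_fst]
    exact e
  have e2 := κ.nat (N.pairΦ h₀ h) (N.π₂ i₀ i)
  have e3 := κ'.nat (N.pairΦ h₀ h) (N.π₂ i₀ i)
  rw [N.pairΦ_snd] at e2 e3
  rw [e2, e3, e1]

section mk₀

variable {b : Over X} {x : 𝒮.obj} {Wx : D} (w : Wx ⟶ b.left) (i₀ : I) (h₀ : b ⟶ N.Φ.obj i₀)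
  (κ₀ : x ⟶ E.obj i₀) (hκ₀ : 𝒮.p.IsHomLift (w ≫ h₀.left) κ₀)

lemma ζ_aux (i : I) (h : b ⟶ N.Φ.obj i) :
    w ≫ h₀.left = (w ≫ (N.pairΦ h₀ h).left) ≫ (N.Φ.map (N.π₁ i₀ i)).left := by
  rw [Category.assoc, ← Over.comp_left, N.pairΦ_fst]

noncomputable def ζ (i : I) (h : b ⟶ N.Φ.obj i) : x ⟶ E.obj (N.P i₀ i) :=
  scMap 𝒮.p (N.Φ.map (N.π₁ i₀ i)).left (E.map (N.π₁ i₀ i)) (E_sc N h𝒮 E hE _)
    (w ≫ (N.pairΦ h₀ h).left) (w ≫ h₀.left) (ζ_aux N w i₀ h₀ i h) κ₀ hκ₀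

lemma ζ_lift (i : I) (h : b ⟶ N.Φ.obj i) :
    𝒮.p.IsHomLift (w ≫ (N.pairΦ h₀ h).left) (ζ N h𝒮 E hE w i₀ h₀ κ₀ hκ₀ i h) :=
  scMap_isHomLift 𝒮.p (N.Φ.map (N.π₁ i₀ i)).left (E.map (N.π₁ i₀ i)) (E_sc N h𝒮 E hE _)
    (w ≫ (N.pairΦ h₀ h).left) (w ≫ h₀.left) (ζ_aux N w i₀ h₀ i h) κ₀ hκ₀

lemma ζ_fac (i : I) (h : b ⟶ N.Φ.obj i) :
    ζ N h𝒮 E hE w i₀ h₀ κ₀ hκ₀ i h ≫ E.map (N.π₁ i₀ i) = κ₀ :=
  scMap_fac 𝒮.p (N.Φ.map (N.π₁ i₀ i)).left (E.map (N.π₁ i₀ i)) (E_sc N h𝒮 E hE _)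
    (w ≫ (N.pairΦ h₀ h).left) (w ≫ h₀.left) (ζ_aux N w i₀ h₀ i h) κ₀ hκ₀

lemma ζ_uniq (i : I) (h : b ⟶ N.Φ.obj i) (z : x ⟶ E.obj (N.P i₀ i))
    (hz : 𝒮.p.IsHomLift (w ≫ (N.pairΦ h₀ h).left) z) (hfac : z ≫ E.map (N.π₁ i₀ i) = κ₀) :
    z = ζ N h𝒮 E hE w i₀ h₀ κ₀ hκ₀ i h := by
  apply sc_ext' 𝒮.p (N.Φ.map (N.π₁ i₀ i)).left (E.map (N.π₁ i₀ i)) (E_sc N h𝒮 E hE _)
    (w ≫ (N.pairΦ h₀ h).left) _ _ hz (ζ_lift N h𝒮 E hE w i₀ h₀ κ₀ hκ₀ i h)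
  rw [hfac, ζ_fac]

lemma pair_nat {i j : I} (h : b ⟶ N.Φ.obj i) (m : i ⟶ j) :
    N.pairΦ h₀ (h ≫ N.Φ.map m) =
      N.pairΦ h₀ h ≫ N.Φ.map (N.pairI (N.π₁ i₀ i) (N.π₂ i₀ i ≫ m)) := by
  apply N.pairΦ_ext
  · rw [N.pairΦ_fst, Category.assoc, ← N.Φ.map_comp, N.pairI_fst, N.pairΦ_fst]
  · rw [N.pairΦ_snd, Category.assoc, ← N.Φ.map_comp, N.pairI_snd, N.Φ.map_comp, ← Category.assoc,
      N.pairΦ_snd]

lemma pair_diag : N.pairΦ h₀ h₀ = h₀ ≫ N.Φ.map (N.pairI (𝟙 i₀) (𝟙 i₀)) := by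
  apply N.pairΦ_ext
  · rw [N.pairΦ_fst, Category.assoc, ← N.Φ.map_comp, N.pairI_fst, N.Φ.map_id, Category.comp_id]
  · rw [N.pairΦ_snd, Category.assoc, ← N.Φ.map_comp, N.pairI_snd, N.Φ.map_id, Category.comp_id]

lemma ζ_nat {i j : I} (h : b ⟶ N.Φ.obj i) (m : i ⟶ j) :
    ζ N h𝒮 E hE w i₀ h₀ κ₀ hκ₀ j (h ≫ N.Φ.map m) =
      ζ N h𝒮 E hE w i₀ h₀ κ₀ hκ₀ i h ≫ E.map (N.pairI (N.π₁ i₀ i) (N.π₂ i₀ i ≫ m)) := by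
  symm
  apply ζ_uniq
  · refine lift_of_eq 𝒮.p _ (lift_comp' 𝒮.p _ _ _ _ (ζ_lift N h𝒮 E hE w i₀ h₀ κ₀ hκ₀ i h)
      (E_lift N E hE _)) ?_
    rw [Category.assoc, ← Over.comp_left, ← pair_nat]
  · rw [Category.assoc, ← E.map_comp, N.pairI_fst, ζ_fac]

/-- the family with prescribed value at one factorisation -/
noncomputable def Fam.mk₀ : Fam N E b x w where
  κ i h := ζ N h𝒮 E hE w i₀ h₀ κ₀ hκ₀ i h ≫ E.map (N.π₂ i₀ i)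
  lift i h := by
    refine lift_of_eq 𝒮.p _ (lift_comp' 𝒮.p _ _ _ _ (ζ_lift N h𝒮 E hE w i₀ h₀ κ₀ hκ₀ i h)
      (E_lift N E hE (N.π₂ i₀ i))) ?_
    rw [Category.assoc, ← Over.comp_left, N.pairΦ_snd]
  nat {i j} h m := by
    show ζ N h𝒮 E hE w i₀ h₀ κ₀ hκ₀ j (h ≫ N.Φ.map m) ≫ E.map (N.π₂ i₀ j) =
      (ζ N h𝒮 E hE w i₀ h₀ κ₀ hκ₀ i h ≫ E.map (N.π₂ i₀ i)) ≫ E.map m
    rw [ζ_nat, Category.assoc, ← E.map_comp, N.pairI_snd, E.map_comp, Category.assoc]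

lemma Fam.mk₀_κ : (Fam.mk₀ N h𝒮 E hE w i₀ h₀ κ₀ hκ₀).κ i₀ h₀ = κ₀ := by
  have hz : ζ N h𝒮 E hE w i₀ h₀ κ₀ hκ₀ i₀ h₀ = κ₀ ≫ E.map (N.pairI (𝟙 i₀) (𝟙 i₀)) := by
    symm
    apply ζ_uniq
    · refine lift_of_eq 𝒮.p _ (lift_comp' 𝒮.p _ _ _ _ hκ₀ (E_lift N E hE _)) ?_
      rw [Category.assoc, ← Over.comp_left, ← pair_diag]
    · rw [Category.assoc, ← E.map_comp, N.pairI_fst, E.map_id, Category.comp_id]
  show ζ N h𝒮 E hE w i₀ h₀ κ₀ hκ₀ i₀ h₀ ≫ E.map (N.π₂ i₀ i₀) = κ₀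
  rw [hz, Category.assoc, ← E.map_comp, N.pairI_snd, E.map_id, Category.comp_id]

end mk₀

section Construct

lemma exists_fact (b : R'.arrows.category) : ∃ i : I, Nonempty (b.obj ⟶ N.Φ.obj i) :=
  N.surj b.obj b.property

noncomputable def iOf (b : R'.arrows.category) : I := (exists_fact N b).choose

noncomputable def hOf (b : R'.arrows.category) : b.obj ⟶ N.Φ.obj (iOf N b) :=
  (exists_fact N b).choose_spec.some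

include h𝒮 hE in
lemma exists_Flam (b : R'.arrows.category) :
    ∃ (y : 𝒮.obj) (φ : y ⟶ E.obj (iOf N b)), 𝒮.p.IsHomLift (hOf N b).left φ :=
  Groth.Agent.H3.StkAux.exists_lift'' h𝒮 (hOf N b).left (E.obj (iOf N b)) (E_obj N E hE _)

noncomputable def FObj (b : R'.arrows.category) : 𝒮.obj := (exists_Flam N h𝒮 E hE b).choose

noncomputable def Flam (b : R'.arrows.category) : FObj N h𝒮 E hE b ⟶ E.obj (iOf N b) :=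
  (exists_Flam N h𝒮 E hE b).choose_spec.choose

lemma Flam_lift (b : R'.arrows.category) :
    𝒮.p.IsHomLift (hOf N b).left (Flam N h𝒮 E hE b) :=
  (exists_Flam N h𝒮 E hE b).choose_spec.choose_spec

lemma FObj_proj (b : R'.arrows.category) : 𝒮.p.obj (FObj N h𝒮 E hE b) = b.obj.left :=
  haveI := Flam_lift N h𝒮 E hE b
  IsHomLift.domain_eq 𝒮.p (hOf N b).left (Flam N h𝒮 E hE b)

lemma Flam_sc (b : R'.arrows.category) :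
    𝒮.p.IsStronglyCartesian (hOf N b).left (Flam N h𝒮 E hE b) :=
  haveI := Flam_lift N h𝒮 E hE b
  isStronglyCartesian_of_isHomLift 𝒮.p h𝒮 _ _

/-- the canonical family out of `F b` -/
noncomputable def κb (b : R'.arrows.category) :
    Fam N E b.obj (FObj N h𝒮 E hE b) (𝟙 b.obj.left) :=
  Fam.mk₀ N h𝒮 E hE (𝟙 b.obj.left) (iOf N b) (hOf N b) (Flam N h𝒮 E hE b)
    (lift_of_eq 𝒮.p _ (Flam_lift N h𝒮 E hE b) (Category.id_comp _).symm)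

lemma κb_self (b : R'.arrows.category) :
    (κb N h𝒮 E hE b).κ (iOf N b) (hOf N b) = Flam N h𝒮 E hE b :=
  Fam.mk₀_κ N h𝒮 E hE (𝟙 b.obj.left) (iOf N b) (hOf N b) (Flam N h𝒮 E hE b) _

lemma FMap_aux ⦃b' b : R'.arrows.category⦄ (k : b' ⟶ b) :
    𝟙 b'.obj.left ≫ (k.hom ≫ hOf N b).left = k.hom.left ≫ (hOf N b).left := by
  rw [Category.id_comp, Over.comp_left]

noncomputable def FMap ⦃b' b : R'.arrows.category⦄ (k : b' ⟶ b) :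
    FObj N h𝒮 E hE b' ⟶ FObj N h𝒮 E hE b :=
  scMap 𝒮.p (hOf N b).left (Flam N h𝒮 E hE b) (Flam_sc N h𝒮 E hE b) k.hom.left
    (𝟙 b'.obj.left ≫ (k.hom ≫ hOf N b).left) (FMap_aux N k)
    ((κb N h𝒮 E hE b').κ (iOf N b) (k.hom ≫ hOf N b)) ((κb N h𝒮 E hE b').lift _ _)

lemma FMap_lift ⦃b' b : R'.arrows.category⦄ (k : b' ⟶ b) :
    𝒮.p.IsHomLift k.hom.left (FMap N h𝒮 E hE k) :=
  scMap_isHomLift 𝒮.p (hOf N b).left (Flam N h𝒮 E hE b) (Flam_sc N h𝒮 E hE b) k.hom.left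
    (𝟙 b'.obj.left ≫ (k.hom ≫ hOf N b).left) (FMap_aux N k)
    ((κb N h𝒮 E hE b').κ (iOf N b) (k.hom ≫ hOf N b)) ((κb N h𝒮 E hE b').lift _ _)

lemma FMap_fac ⦃b' b : R'.arrows.category⦄ (k : b' ⟶ b) :
    FMap N h𝒮 E hE k ≫ Flam N h𝒮 E hE b = (κb N h𝒮 E hE b').κ (iOf N b) (k.hom ≫ hOf N b) :=
  scMap_fac 𝒮.p (hOf N b).left (Flam N h𝒮 E hE b) (Flam_sc N h𝒮 E hE b) k.hom.left
    (𝟙 b'.obj.left ≫ (k.hom ≫ hOf N b).left) (FMap_aux N k)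
    ((κb N h𝒮 E hE b').κ (iOf N b) (k.hom ≫ hOf N b)) ((κb N h𝒮 E hE b').lift _ _)

lemma FMap_κ ⦃b' b : R'.arrows.category⦄ (k : b' ⟶ b) (i : I) (h : b.obj ⟶ N.Φ.obj i) :
    FMap N h𝒮 E hE k ≫ (κb N h𝒮 E hE b).κ i h = (κb N h𝒮 E hE b').κ i (k.hom ≫ h) := by
  have hw : k.hom.left ≫ 𝟙 b.obj.left = 𝟙 b'.obj.left ≫ k.hom.left := by
    rw [Category.comp_id, Category.id_comp]
  have key := Fam.eq_of_eq N h𝒮 E hE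
    (((κb N h𝒮 E hE b).precomp k.hom.left (FMap N h𝒮 E hE k) (FMap_lift N h𝒮 E hE k)).cast hw)
    ((κb N h𝒮 E hE b').push k.hom) (iOf N b) (hOf N b) ?_ i h
  · exact key
  · show FMap N h𝒮 E hE k ≫ (κb N h𝒮 E hE b).κ (iOf N b) (hOf N b) =
      (κb N h𝒮 E hE b').κ (iOf N b) (k.hom ≫ hOf N b)
    rw [κb_self, FMap_fac]

lemma FMap_id (b : R'.arrows.category) : FMap N h𝒮 E hE (𝟙 b) = 𝟙 _ := by
  apply sc_ext' 𝒮.p (hOf N b).left (Flam N h𝒮 E hE b) (Flam_sc N h𝒮 E hE b) (𝟙 b.obj.left) _ _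
    (FMap_lift N h𝒮 E hE (𝟙 b)) (IsHomLift.id (FObj_proj N h𝒮 E hE b))
  rw [FMap_fac, Category.id_comp]
  have e : (𝟙 b : b ⟶ b).hom ≫ hOf N b = hOf N b := Category.id_comp _
  rw [e, κb_self]

lemma FMap_comp ⦃b'' b' b : R'.arrows.category⦄ (k' : b'' ⟶ b') (k : b' ⟶ b) :
    FMap N h𝒮 E hE (k' ≫ k) = FMap N h𝒮 E hE k' ≫ FMap N h𝒮 E hE k := by
  apply sc_ext' 𝒮.p (hOf N b).left (Flam N h𝒮 E hE b) (Flam_sc N h𝒮 E hE b) (k' ≫ k).hom.left _ _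
    (FMap_lift N h𝒮 E hE (k' ≫ k))
    (lift_comp' 𝒮.p _ _ _ _ (FMap_lift N h𝒮 E hE k') (FMap_lift N h𝒮 E hE k))
  rw [FMap_fac, Category.assoc, FMap_fac, FMap_κ]
  have e : (k' ≫ k).hom ≫ hOf N b = k'.hom ≫ k.hom ≫ hOf N b := Category.assoc _ _ _
  rw [e]

/-- the descent datum on `R'` built from `E` -/
noncomputable def FD : Stk.sieveCat R' ⥤ᵇ 𝒮 :=
  mkDatum (FObj N h𝒮 E hE) (FObj_proj N h𝒮 E hE) (fun _ _ k => FMap N h𝒮 E hE k)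
    (fun _ _ k => FMap_lift N h𝒮 E hE k) (FMap_id N h𝒮 E hE)
    (fun _ _ _ k' k => FMap_comp N h𝒮 E hE k' k)

end Construct

/-- cocones of `E` over `X` -/
structure ECocone where
  pt : 𝒮.obj
  pt_proj : 𝒮.p.obj pt = X
  ℓ : ∀ i : I, E.obj i ⟶ pt
  ℓ_lift : ∀ i : I, 𝒮.p.IsHomLift (N.Φ.obj i).hom (ℓ i)
  w : ∀ {i j : I} (m : i ⟶ j), E.map m ≫ ℓ j = ℓ i

section Thm

variable {N E}

lemma leg_indep (s : ECocone N E) (b : R'.arrows.category) (i : I) (h : b.obj ⟶ N.Φ.obj i)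
    (j : I) (h' : b.obj ⟶ N.Φ.obj j) :
    (κb N h𝒮 E hE b).κ i h ≫ s.ℓ i = (κb N h𝒮 E hE b).κ j h' ≫ s.ℓ j := by
  have e1 := (κb N h𝒮 E hE b).nat (N.pairΦ h h') (N.π₁ i j)
  have e2 := (κb N h𝒮 E hE b).nat (N.pairΦ h h') (N.π₂ i j)
  rw [N.pairΦ_fst] at e1
  rw [N.pairΦ_snd] at e2
  rw [e1, e2, Category.assoc, Category.assoc, s.w, s.w]

lemma cleg_lift (s : ECocone N E) (b : R'.arrows.category) :
    𝒮.p.IsHomLift b.obj.hom (Flam N h𝒮 E hE b ≫ s.ℓ (iOf N b)) :=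
  lift_of_eq 𝒮.p _ (lift_comp' 𝒮.p _ _ _ _ (Flam_lift N h𝒮 E hE b) (s.ℓ_lift _))
    (Over.w (hOf N b))

lemma cleg_eq (s : ECocone N E) (b : R'.arrows.category) (i : I) (h : b.obj ⟶ N.Φ.obj i) :
    Flam N h𝒮 E hE b ≫ s.ℓ (iOf N b) = (κb N h𝒮 E hE b).κ i h ≫ s.ℓ i := by
  rw [← κb_self]
  exact leg_indep h𝒮 hE s b _ _ _ _

lemma cleg_w (s : ECocone N E) ⦃b' b : R'.arrows.category⦄ (k : b' ⟶ b) :
    (FD N h𝒮 E hE).map k ≫ Flam N h𝒮 E hE b ≫ s.ℓ (iOf N b) =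
      Flam N h𝒮 E hE b' ≫ s.ℓ (iOf N b') := by
  show FMap N h𝒮 E hE k ≫ Flam N h𝒮 E hE b ≫ s.ℓ (iOf N b) = _
  rw [← Category.assoc, FMap_fac]
  exact (cleg_eq h𝒮 hE s b' _ _).symm

/-- the object of `R'` given by an index -/
def bOf (i : I) : R'.arrows.category := ⟨N.Φ.obj i, N.mem i⟩

variable (N E) in
/-- comparison of `F (Φ i)` with `E i` -/
noncomputable def κI (i : I) : FObj N h𝒮 E hE (bOf (N := N) i) ⟶ E.obj i :=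
  (κb N h𝒮 E hE (bOf (N := N) i)).κ i (𝟙 _)

lemma κI_lift (i : I) : 𝒮.p.IsHomLift (𝟙 (N.Φ.obj i).left) (κI N h𝒮 E hE i) :=
  lift_of_eq 𝒮.p _ ((κb N h𝒮 E hE (bOf (N := N) i)).lift i (𝟙 _)) (by
    show 𝟙 (N.Φ.obj i).left ≫ (𝟙 (N.Φ.obj i) : N.Φ.obj i ⟶ N.Φ.obj i).left = 𝟙 (N.Φ.obj i).left
    rw [Over.id_left, Category.id_comp])

lemma κI_isIso (i : I) : IsIso (κI N h𝒮 E hE i) :=
  isIso_of_lift_id' 𝒮.p h𝒮 _ (κI_lift h𝒮 hE i)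

/-- the morphism of `R'` given by a morphism of indices -/
def bMapΦ {i j : I} (m : i ⟶ j) : bOf (N := N) i ⟶ bOf (N := N) j :=
  ObjectProperty.homMk (N.Φ.map m)

lemma κI_nat {i j : I} (m : i ⟶ j) :
    FMap N h𝒮 E hE (bMapΦ (N := N) m) ≫ κI N h𝒮 E hE j = κI N h𝒮 E hE i ≫ E.map m := by
  unfold κI
  rw [FMap_κ, ← (κb N h𝒮 E hE (bOf (N := N) i)).nat]
  congr 1
  show N.Φ.map m ≫ 𝟙 _ = 𝟙 _ ≫ N.Φ.map m
  rw [Category.comp_id, Category.id_comp]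

include h𝒮 hE in
theorem ecocone_unique (hpre : Stk.IsPrestackFor R' 𝒮) (s t : ECocone N E) :
    ∃! φ : s.pt ⟶ t.pt, 𝒮.p.IsHomLift (𝟙 X) φ ∧ ∀ i, s.ℓ i ≫ φ = t.ℓ i := by
  obtain ⟨φ, ⟨hφ, hφ₀⟩, hφu₀⟩ := unique_raw h𝒮 hpre (FD N h𝒮 E hE) s.pt t.pt s.pt_proj t.pt_proj
    (fun b => Flam N h𝒮 E hE b ≫ s.ℓ (iOf N b)) (fun b => Flam N h𝒮 E hE b ≫ t.ℓ (iOf N b))
    (cleg_lift h𝒮 hE s) (cleg_lift h𝒮 hE t) (cleg_w h𝒮 hE s) (cleg_w h𝒮 hE t)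
  have hφ' : ∀ b : R'.arrows.category, (Flam N h𝒮 E hE b ≫ s.ℓ (iOf N b)) ≫ φ =
      Flam N h𝒮 E hE b ≫ t.ℓ (iOf N b) := hφ₀
  refine ⟨φ, ⟨hφ, ?_⟩, ?_⟩
  · intro i
    have hi := κI_isIso h𝒮 hE i
    have e := hφ' (bOf (N := N) i)
    rw [cleg_eq h𝒮 hE s (bOf (N := N) i) i (𝟙 _), cleg_eq h𝒮 hE t (bOf (N := N) i) i (𝟙 _),
      Category.assoc] at e
    exact (cancel_epi (κI N h𝒮 E hE i)).mp e
  · rintro φ' ⟨h1, h2⟩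
    apply hφu₀
    refine ⟨h1, fun b => ?_⟩
    show (Flam N h𝒮 E hE b ≫ s.ℓ (iOf N b)) ≫ φ' = Flam N h𝒮 E hE b ≫ t.ℓ (iOf N b)
    rw [Category.assoc, h2]

include h𝒮 hE in
theorem ecocone_exists (hex : ∀ D₁ : Stk.sieveCat R' ⥤ᵇ 𝒮, Nonempty (Cocone D₁)) :
    Nonempty (ECocone N E) := by
  obtain ⟨c⟩ := hex (FD N h𝒮 E hE)
  have hi : ∀ i, IsIso (κI N h𝒮 E hE i) := κI_isIso h𝒮 hE
  refine ⟨{ pt := c.pt
            pt_proj := c.pt_proj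
            ℓ := fun i => inv (κI N h𝒮 E hE i) ≫ c.ι (bOf (N := N) i)
            ℓ_lift := fun i => ?_
            w := fun {i j} m => ?_ }⟩
  · have h1 : 𝒮.p.IsHomLift (𝟙 (N.Φ.obj i).left) (inv (κI N h𝒮 E hE i)) := by
      haveI := κI_lift h𝒮 hE i
      exact IsHomLift.lift_id_inv_isIso 𝒮.p _ (κI N h𝒮 E hE i)
    have h2 : 𝒮.p.IsHomLift (N.Φ.obj i).hom (c.ι (bOf (N := N) i)) := c.ι_lift (bOf (N := N) i)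
    exact lift_id_comp' 𝒮.p _ _ _ h1 h2
  · have e1 := κI_nat h𝒮 hE m
    have e2 : FMap N h𝒮 E hE (bMapΦ (N := N) m) ≫ c.ι (bOf (N := N) j) = c.ι (bOf (N := N) i) :=
      c.w (bMapΦ (N := N) m)
    have e3 : E.map m ≫ inv (κI N h𝒮 E hE j) =
        inv (κI N h𝒮 E hE i) ≫ FMap N h𝒮 E hE (bMapΦ (N := N) m) := by
      rw [IsIso.eq_inv_comp, ← Category.assoc, ← e1, Category.assoc, IsIso.hom_inv_id,
        Category.comp_id]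
    rw [← Category.assoc, e3, Category.assoc, e2]

end Thm

end Groth.Agent.H4.DescentIdx
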