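import Mathlib
import Groth.Prelude.Def_SGA4hB
import Groth.Agent.Lib.Helper3.PerfAux

set_option autoImplicit false
universe u
open CategoryTheory CategoryTheory.Limits CategoryTheory.Pretriangulated Polynomial TensorProduct

namespace Groth.Agent.H4.DetQis

attribute [local instance] HasDerivedCategory.standard

open SGA4h
open CochainComplex (mappingCone)
open CochainComplex.HomComplex

section LinAlg

theorem det_one_sub_comm {R : Type*} [CommRing R] {M N : Type*} [AddCommGroup M] [Module R M]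
    [AddCommGroup N] [Module R N] [Module.Finite R M] [Module.Free R M] [Module.Finite R N]
    [Module.Free R N] (a : M →ₗ[R] N) (b : N →ₗ[R] M) :
    LinearMap.det (LinearMap.id - b ∘ₗ a) = LinearMap.det (LinearMap.id - a ∘ₗ b) := by
  classical
  let bM := Module.Free.chooseBasis R M
  let bN := Module.Free.chooseBasis R N
  rw [← LinearMap.det_toMatrix bM, ← LinearMap.det_toMatrix bN]
  have h1 : LinearMap.toMatrix bM bM (LinearMap.id - b ∘ₗ a) =
      1 - LinearMap.toMatrix bN bM b * LinearMap.toMatrix bM bN a := by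
    rw [map_sub, LinearMap.toMatrix_id, LinearMap.toMatrix_comp bM bN bM]
  have h2 : LinearMap.toMatrix bN bN (LinearMap.id - a ∘ₗ b) =
      1 - LinearMap.toMatrix bM bN a * LinearMap.toMatrix bN bM b := by
    rw [map_sub, LinearMap.toMatrix_id, LinearMap.toMatrix_comp bN bM bN]
  rw [h1, h2]
  exact Matrix.det_one_sub_mul_comm _ _

theorem ring_factor {E : Type*} [Ring E] (x y z : E) (hxy : x * y = 0) (hxz : x * z = 0)
    (hyz : y * z = 0) : (1 - x) * (1 - y) * (1 - z) = 1 - (x + y + z) := by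
  have h1 : (1 - x) * (1 - y) = 1 - y - x := by
    rw [sub_mul, one_mul, mul_sub, mul_one, hxy, sub_zero]
  have h3 : (1 - y - x) * z = z := by
    rw [sub_mul, sub_mul, one_mul, hyz, hxz, sub_zero, sub_zero]
  rw [h1, mul_sub, mul_one, h3]
  abel

end LinAlg

section Finprod

variable {M : Type*} [CommMonoid M]

theorem finite_mulSupport_subtype (p : ℤ → Prop) (g : ℤ → M)
    (hg : (Function.mulSupport g).Finite) :
    (Function.mulSupport (fun i : {i : ℤ // p i} => g i.1)).Finite := by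
  refine Set.Finite.subset (hg.preimage (Subtype.val_injective.injOn)) ?_
  intro x hx
  exact hx

theorem finite_mulSupport_shift (g : ℤ → M) (hg : (Function.mulSupport g).Finite) :
    (Function.mulSupport (fun i : ℤ => g (i + 1))).Finite := by
  refine Set.Finite.subset (hg.preimage ((add_left_injective (1 : ℤ)).injOn)) ?_
  intro x hx
  exact hx

theorem finprod_even_shift (g : ℤ → M) :
    ∏ᶠ i : {i : ℤ // Even i}, g (i.1 + 1) = ∏ᶠ j : {j : ℤ // Odd j}, g j.1 := by
  refine finprod_eq_of_bijective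
    (fun i : {i : ℤ // Even i} => (⟨i.1 + 1, Even.add_one i.2⟩ : {j : ℤ // Odd j}))
    ⟨?_, ?_⟩ (fun _ => rfl)
  · intro x y hxy
    have h := congrArg Subtype.val hxy
    have h' : x.1 + 1 = y.1 + 1 := h
    exact Subtype.ext (by omega)
  · intro j
    obtain ⟨k, hk⟩ := j.2
    exact ⟨⟨j.1 - 1, ⟨k, by omega⟩⟩, Subtype.ext (by simp)⟩

theorem finprod_odd_shift (g : ℤ → M) :
    ∏ᶠ i : {i : ℤ // Odd i}, g (i.1 + 1) = ∏ᶠ j : {j : ℤ // Even j}, g j.1 := by
  refine finprod_eq_of_bijective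
    (fun i : {i : ℤ // Odd i} => (⟨i.1 + 1, Odd.add_one i.2⟩ : {j : ℤ // Even j}))
    ⟨?_, ?_⟩ (fun _ => rfl)
  · intro x y hxy
    have h := congrArg Subtype.val hxy
    have h' : x.1 + 1 = y.1 + 1 := h
    exact Subtype.ext (by omega)
  · intro j
    obtain ⟨k, hk⟩ := j.2
    exact ⟨⟨j.1 - 1, ⟨k - 1, by omega⟩⟩, Subtype.ext (by simp)⟩

theorem finprod_even_mul (P f g : ℤ → M) (hf : (Function.mulSupport f).Finite)
    (hg : (Function.mulSupport g).Finite) (hP : ∀ i, P i = f (i + 1) * g i) :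
    ∏ᶠ i : {i : ℤ // Even i}, P i.1 =
      (∏ᶠ j : {j : ℤ // Odd j}, f j.1) * ∏ᶠ i : {i : ℤ // Even i}, g i.1 := by
  rw [← finprod_even_shift f,
    ← finprod_mul_distrib (finite_mulSupport_subtype _ (fun i => f (i + 1))
      (finite_mulSupport_shift f hf)) (finite_mulSupport_subtype _ g hg)]
  exact finprod_congr (fun i => hP i.1)

theorem finprod_odd_mul (P f g : ℤ → M) (hf : (Function.mulSupport f).Finite)
    (hg : (Function.mulSupport g).Finite) (hP : ∀ i, P i = f (i + 1) * g i) :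
    ∏ᶠ i : {i : ℤ // Odd i}, P i.1 =
      (∏ᶠ j : {j : ℤ // Even j}, f j.1) * ∏ᶠ i : {i : ℤ // Odd i}, g i.1 := by
  rw [← finprod_odd_shift f,
    ← finprod_mul_distrib (finite_mulSupport_subtype _ (fun i => f (i + 1))
      (finite_mulSupport_shift f hf)) (finite_mulSupport_subtype _ g hg)]
  exact finprod_congr (fun i => hP i.1)

theorem finprod_even_eq_odd (P β : ℤ → M) (hβ : (Function.mulSupport β).Finite)
    (hP : ∀ i, P i = β (i + 1) * β i) :
    ∏ᶠ i : {i : ℤ // Even i}, P i.1 = ∏ᶠ i : {i : ℤ // Odd i}, P i.1 := by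
  rw [finprod_even_mul P β β hβ hβ hP, finprod_odd_mul P β β hβ hβ hP, mul_comm]

theorem finite_mulSupport_of_bounds (g : ℤ → M) (a b : ℤ) (hg : ∀ i, i < a ∨ b < i → g i = 1) :
    (Function.mulSupport g).Finite := by
  refine (Set.finite_Icc a b).subset ?_
  intro i hi
  by_contra hcon
  apply hi
  apply hg
  simp only [Set.mem_Icc, not_and_or, not_le] at hcon
  exact hcon

end Finprod

variable {A : Type u} [CommRing A]

section DetOneSub

theorem detOneSub_zero (M : ModuleCat.{u} A) : detOneSub M (0 : M ⟶ M) = 1 := by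
  unfold detOneSub
  rw [ModuleCat.hom_zero, LinearMap.baseChange_zero, smul_zero]
  have h : ∀ g : A[X] ⊗[A] M →ₗ[A[X]] A[X] ⊗[A] M, g - 0 = g := fun g => sub_zero g
  rw [h, LinearMap.det_id]

theorem detOneSub_of_isZero (M : ModuleCat.{u} A) (hM : IsZero M) (f : M ⟶ M) :
    detOneSub M f = 1 := by
  rw [hM.eq_of_src f 0, detOneSub_zero]

theorem detOneSub_comm (M N : ModuleCat.{u} A) [Module.Finite A M] [Module.Free A M]
    [Module.Finite A N] [Module.Free A N] (a : M ⟶ N) (b : N ⟶ M) :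
    detOneSub M (a ≫ b) = detOneSub N (b ≫ a) := by
  unfold detOneSub
  rw [ModuleCat.hom_comp, ModuleCat.hom_comp, LinearMap.baseChange_comp,
    LinearMap.baseChange_comp]
  have h := det_one_sub_comm (R := A[X]) (a.hom.baseChange A[X])
    ((X : A[X]) • b.hom.baseChange A[X])
  rw [LinearMap.smul_comp, LinearMap.comp_smul] at h
  exact h

theorem detOneSub_factor (M : ModuleCat.{u} A) [Module.Finite A M] [Module.Free A M]
    (p q w : M ⟶ M) (hpq : p + q = 𝟙 M) (h1 : p ≫ q = 0) (h2 : p ≫ w ≫ q = 0) :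
    detOneSub M w = detOneSub M (q ≫ w ≫ q) * detOneSub M (p ≫ w ≫ p) := by
  let B : (M ⟶ M) → Module.End A[X] (A[X] ⊗[A] M) := fun f => f.hom.baseChange A[X]
  have hB_comp : ∀ f g : M ⟶ M, B (f ≫ g) = B g * B f := fun f g => by
    show (f ≫ g).hom.baseChange A[X] = _
    rw [ModuleCat.hom_comp, LinearMap.baseChange_comp]
    rfl
  have hB_add : ∀ f g : M ⟶ M, B (f + g) = B f + B g := fun f g => by
    show (f + g).hom.baseChange A[X] = _
    rw [ModuleCat.hom_add, LinearMap.baseChange_add]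
  have hB_zero : B 0 = 0 := by
    show (0 : M ⟶ M).hom.baseChange A[X] = _
    rw [ModuleCat.hom_zero, LinearMap.baseChange_zero]
  have hN : detOneSub M (q ≫ w ≫ p) = 1 := by
    have h := detOneSub_comm M M (q ≫ w) p
    rw [Category.assoc] at h
    rw [h, ← Category.assoc, h1, Limits.zero_comp, detOneSub_zero]
  have hw : w = q ≫ w ≫ q + q ≫ w ≫ p + p ≫ w ≫ p := by
    calc w = (p + q) ≫ w ≫ (p + q) := by rw [hpq, Category.id_comp, Category.comp_id]
      _ = _ := by
        simp only [Preadditive.add_comp, Preadditive.comp_add, h2, zero_add]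
        abel
  have e1 : (q ≫ w ≫ p) ≫ (q ≫ w ≫ q) = 0 := by
    simp only [Category.assoc, reassoc_of% h1, Limits.zero_comp, Limits.comp_zero]
  have e2 : (p ≫ w ≫ p) ≫ (q ≫ w ≫ q) = 0 := by
    simp only [Category.assoc, reassoc_of% h1, Limits.zero_comp, Limits.comp_zero]
  have e3 : (p ≫ w ≫ p) ≫ (q ≫ w ≫ p) = 0 := by
    simp only [Category.assoc, reassoc_of% h1, Limits.zero_comp, Limits.comp_zero]
  have hxy : ((X : A[X]) • B (q ≫ w ≫ q)) * ((X : A[X]) • B (q ≫ w ≫ p)) = 0 := by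
    rw [smul_mul_smul_comm, ← hB_comp, e1, hB_zero, smul_zero]
  have hxz : ((X : A[X]) • B (q ≫ w ≫ q)) * ((X : A[X]) • B (p ≫ w ≫ p)) = 0 := by
    rw [smul_mul_smul_comm, ← hB_comp, e2, hB_zero, smul_zero]
  have hyz : ((X : A[X]) • B (q ≫ w ≫ p)) * ((X : A[X]) • B (p ≫ w ≫ p)) = 0 := by
    rw [smul_mul_smul_comm, ← hB_comp, e3, hB_zero, smul_zero]
  have hsum : (X : A[X]) • B (q ≫ w ≫ q) + (X : A[X]) • B (q ≫ w ≫ p) +
      (X : A[X]) • B (p ≫ w ≫ p) = (X : A[X]) • B w := by
    rw [← smul_add, ← smul_add, ← hB_add, ← hB_add, ← hw]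
  have hfac := ring_factor (E := Module.End A[X] (A[X] ⊗[A] M)) _ _ _ hxy hxz hyz
  rw [hsum] at hfac
  calc detOneSub M w = LinearMap.det (1 - (X : A[X]) • B w) := rfl
    _ = LinearMap.det ((1 - (X : A[X]) • B (q ≫ w ≫ q)) * (1 - (X : A[X]) • B (q ≫ w ≫ p)) *
          (1 - (X : A[X]) • B (p ≫ w ≫ p))) := by rw [hfac]
    _ = LinearMap.det (1 - (X : A[X]) • B (q ≫ w ≫ q)) *
          LinearMap.det (1 - (X : A[X]) • B (q ≫ w ≫ p)) *
          LinearMap.det (1 - (X : A[X]) • B (p ≫ w ≫ p)) := by rw [map_mul, map_mul]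
    _ = detOneSub M (q ≫ w ≫ q) * detOneSub M (q ≫ w ≫ p) * detOneSub M (p ≫ w ≫ p) := rfl
    _ = _ := by rw [hN, mul_one]

end DetOneSub

section Complexes

theorem contractible_factor (C : CochainComplex (ModuleCat.{u} A) ℤ)
    (hC : ∀ i, Module.Finite A (C.X i) ∧ Module.Free A (C.X i))
    (h : Homotopy (𝟙 C) 0) (w : C ⟶ C) (i : ℤ) :
    detOneSub (C.X i) (w.f i) =
      detOneSub (C.X (i + 1)) (prevD (i + 1) h.hom ≫ w.f (i + 1) ≫ prevD (i + 1) h.hom) *
      detOneSub (C.X i) (prevD i h.hom ≫ w.f i ≫ prevD i h.hom) := by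
  haveI := (hC i).1
  haveI := (hC i).2
  haveI := (hC (i + 1)).1
  haveI := (hC (i + 1)).2
  have hcomm := h.comm i
  rw [HomologicalComplex.id_f, HomologicalComplex.zero_f, add_zero] at hcomm
  have hq : dNext i h.hom = C.d i (i + 1) ≫ h.hom (i + 1) i :=
    dNext_eq h.hom (show (ComplexShape.up ℤ).Rel i (i + 1) from rfl)
  have hp : prevD i h.hom = h.hom i (i - 1) ≫ C.d (i - 1) i :=
    prevD_eq h.hom (show (ComplexShape.up ℤ).Rel (i - 1) i from by simp)
  have hp' : prevD (i + 1) h.hom = h.hom (i + 1) i ≫ C.d i (i + 1) :=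
    prevD_eq h.hom (show (ComplexShape.up ℤ).Rel i (i + 1) from rfl)
  have hpq : prevD i h.hom + dNext i h.hom = 𝟙 (C.X i) := by
    rw [hcomm]
    exact add_comm _ _
  have h1 : prevD i h.hom ≫ dNext i h.hom = 0 := by
    rw [hp, hq, Category.assoc, C.d_comp_d_assoc, Limits.zero_comp, Limits.comp_zero]
  have h2 : prevD i h.hom ≫ w.f i ≫ dNext i h.hom = 0 := by
    rw [hp, hq, Category.assoc, w.comm_assoc, C.d_comp_d_assoc, Limits.zero_comp, Limits.comp_zero]
  rw [detOneSub_factor (C.X i) _ _ (w.f i) hpq h1 h2]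
  congr 1
  rw [hq, hp']
  have e1 : (C.d i (i + 1) ≫ h.hom (i + 1) i) ≫ w.f i ≫ C.d i (i + 1) ≫ h.hom (i + 1) i =
      C.d i (i + 1) ≫ (h.hom (i + 1) i ≫ w.f i ≫ C.d i (i + 1) ≫ h.hom (i + 1) i) := by
    simp only [Category.assoc]
  have e2 : (h.hom (i + 1) i ≫ w.f i ≫ C.d i (i + 1) ≫ h.hom (i + 1) i) ≫ C.d i (i + 1) =
      (h.hom (i + 1) i ≫ C.d i (i + 1)) ≫ w.f (i + 1) ≫ h.hom (i + 1) i ≫ C.d i (i + 1) := by
    simp only [Category.assoc, HomologicalComplex.Hom.comm_assoc]
  rw [e1, detOneSub_comm, e2]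

theorem cone_finite_free {K K' : CochainComplex (ModuleCat.{u} A) ℤ}
    (hK : ∀ i, Module.Finite A (K.X i) ∧ Module.Free A (K.X i))
    (hK' : ∀ i, Module.Finite A (K'.X i) ∧ Module.Free A (K'.X i))
    (f : K ⟶ K') (i : ℤ) :
    Module.Finite A ((mappingCone f).X i) ∧ Module.Free A ((mappingCone f).X i) := by
  haveI := (hK (i + 1)).1
  haveI := (hK (i + 1)).2
  haveI := (hK' i).1
  haveI := (hK' i).2
  let e : (mappingCone f).X i ≅ ModuleCat.of A (K.X (i + 1) × K'.X i) :=
    (HomologicalComplex.homotopyCofiber.XIsoBiprod f i (i + 1) rfl) ≪≫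
      ModuleCat.biprodIsoProd _ _
  let e' : (K.X (i + 1) × K'.X i) ≃ₗ[A] (mappingCone f).X i := e.toLinearEquiv.symm
  exact ⟨Module.Finite.equiv e', Module.Free.of_equiv e'⟩

theorem cone_factor {K K' : CochainComplex (ModuleCat.{u} A) ℤ}
    (hK : ∀ i, Module.Finite A (K.X i) ∧ Module.Free A (K.X i))
    (hK' : ∀ i, Module.Finite A (K'.X i) ∧ Module.Free A (K'.X i))
    (f : K ⟶ K') (u : K ⟶ K) (u' : K' ⟶ K') (H : Homotopy (f ≫ u') (u ≫ f)) (i : ℤ) :
    detOneSub ((mappingCone f).X i) ((mappingCone.mapOfHomotopy H).f i) =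
      detOneSub (K.X (i + 1)) (u.f (i + 1)) * detOneSub (K'.X i) (u'.f i) := by
  haveI := (hK (i + 1)).1
  haveI := (hK (i + 1)).2
  haveI := (hK' i).1
  haveI := (hK' i).2
  haveI := (cone_finite_free hK hK' f i).1
  haveI := (cone_finite_free hK hK' f i).2
  set w := (mappingCone.mapOfHomotopy H).f i with hwdef
  let fst' : (mappingCone f).X i ⟶ K.X (i + 1) := (mappingCone.fst f).1.v i (i + 1) rfl
  let snd' : (mappingCone f).X i ⟶ K'.X i := (mappingCone.snd f).v i i (add_zero i)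
  let inl' : K.X (i + 1) ⟶ (mappingCone f).X i := (mappingCone.inl f).v (i + 1) i (by omega)
  let inr' : K'.X i ⟶ (mappingCone f).X i := (mappingCone.inr f).f i
  have r1 : inr' ≫ fst' = 0 := mappingCone.inr_f_fst_v f i (i + 1) rfl
  have r2 : inr' ≫ snd' = 𝟙 _ := mappingCone.inr_f_snd_v f i
  have r3 : inl' ≫ fst' = 𝟙 _ := mappingCone.inl_v_fst_v f (i + 1) i rfl
  have hpq : snd' ≫ inr' + fst' ≫ inl' = 𝟙 _ := by
    rw [add_comm]
    exact mappingCone.id_X f i (i + 1) rfl
  have hw1 : inr' ≫ w = u'.f i ≫ inr' := by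
    have := HomologicalComplex.congr_hom (mappingCone.triangleMapOfHomotopy_comm₂ H) i
    simpa using this
  have hw2 : inl' ≫ w ≫ fst' = u.f (i + 1) := by
    simp [hwdef, inl', fst', mappingCone.mapOfHomotopy]
  have h1 : (snd' ≫ inr') ≫ (fst' ≫ inl') = 0 := by
    simp only [Category.assoc, reassoc_of% r1, Limits.zero_comp, Limits.comp_zero]
  have h2 : (snd' ≫ inr') ≫ w ≫ (fst' ≫ inl') = 0 := by
    simp only [Category.assoc, reassoc_of% hw1, reassoc_of% r1, Limits.zero_comp, Limits.comp_zero]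
  rw [detOneSub_factor ((mappingCone f).X i) (snd' ≫ inr') (fst' ≫ inl') w hpq h1 h2]
  congr 1
  · have e1 : (fst' ≫ inl') ≫ w ≫ fst' ≫ inl' = fst' ≫ (inl' ≫ w ≫ fst' ≫ inl') := by
      simp only [Category.assoc]
    have e2 : (inl' ≫ w ≫ fst' ≫ inl') ≫ fst' = u.f (i + 1) := by
      simp only [Category.assoc, r3, Category.comp_id, hw2]
    rw [e1, detOneSub_comm, e2]
  · have e1 : (snd' ≫ inr') ≫ w ≫ snd' ≫ inr' = snd' ≫ (inr' ≫ w ≫ snd' ≫ inr') := by
      simp only [Category.assoc]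
    have e2 : (inr' ≫ w ≫ snd' ≫ inr') ≫ snd' = u'.f i := by
      simp only [Category.assoc, r2, Category.comp_id, reassoc_of% hw1]
    rw [e1, detOneSub_comm, e2]

theorem homotopy_of_Q_map_eq_zero (M K : CochainComplex (ModuleCat.{u} A) ℤ) [M.IsKProjective]
    (f : M ⟶ K) (hf : DerivedCategory.Q.map f = 0) : Nonempty (Homotopy f 0) := by
  have h3 := DerivedCategory.quotientCompQhIso_hom_naturality f
  rw [hf, Limits.comp_zero] at h3
  have h4 : DerivedCategory.Qh.map ((HomotopyCategory.quotient _ _).map f) =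
      DerivedCategory.Qh.map ((HomotopyCategory.quotient _ _).map (0 : M ⟶ K)) := by
    rw [Functor.map_zero, Functor.map_zero]
    exact (cancel_mono ((DerivedCategory.quotientCompQhIso (ModuleCat.{u} A)).hom.app K)).1
      (h3.trans Limits.zero_comp.symm)
  exact ⟨HomotopyCategory.homotopyOfEq _ _
    ((CochainComplex.IsKProjective.Qh_map_bijective M _).1 h4)⟩

theorem main (K K' : CochainComplex (ModuleCat.{u} A) ℤ) (a b : ℤ)
    [K.IsStrictlyGE a] [K.IsStrictlyLE b] [K'.IsStrictlyGE a] [K'.IsStrictlyLE b]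
    (hK : ∀ i : ℤ, Module.Finite A (K.X i) ∧ Module.Free A (K.X i))
    (hK' : ∀ i : ℤ, Module.Finite A (K'.X i) ∧ Module.Free A (K'.X i))
    (u : K ⟶ K) (u' : K' ⟶ K') (φ : DerivedCategory.Q.obj K ≅ DerivedCategory.Q.obj K')
    (hφ : DerivedCategory.Q.map u ≫ φ.hom = φ.hom ≫ DerivedCategory.Q.map u') :
    SGA4h.detEven K u * SGA4h.detOdd K' u' = SGA4h.detOdd K u * SGA4h.detEven K' u' := by
  haveI : ∀ n, Projective (K.X n) := fun n => by
    haveI := (hK n).2
    exact ModuleCat.projective_of_categoryTheory_projective (K.X n)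
  haveI : K.IsKProjective := CochainComplex.isKProjective_of_projective K b
  obtain ⟨f, hf⟩ := Groth.Agent.H3.PerfAux.exists_map_of_isKProjective K K' φ.hom
  have h0 : DerivedCategory.Q.map (f ≫ u' - u ≫ f) = 0 := by
    rw [Functor.map_sub, Functor.map_comp, Functor.map_comp, hf, hφ, sub_self]
  obtain ⟨H0⟩ := homotopy_of_Q_map_eq_zero K K' (f ≫ u' - u ≫ f) h0
  have H : Homotopy (f ≫ u') (u ≫ f) := Homotopy.equivSubZero.symm H0
  haveI : IsIso (DerivedCategory.Q.map f) := by
    rw [hf]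
    infer_instance
  have hCzero : IsZero (DerivedCategory.Q.obj (mappingCone f)) := by
    have hT := DerivedCategory.mappingCone_triangle_distinguished f
    exact (Triangle.isZero₃_iff_isIso₁ _ hT).2 ‹_›
  haveI : (mappingCone f).IsStrictlyLE b := by
    rw [CochainComplex.isStrictlyLE_iff]
    intro i hi
    rw [mappingCone.isZero_X_iff]
    exact ⟨K.isZero_of_isStrictlyLE b _ (by omega), K'.isZero_of_isStrictlyLE b _ hi⟩
  haveI : ∀ n, Projective ((mappingCone f).X n) := fun n => by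
    obtain ⟨_, h2⟩ := cone_finite_free hK hK' f n
    exact ModuleCat.projective_of_categoryTheory_projective ((mappingCone f).X n)
  haveI : (mappingCone f).IsKProjective :=
    CochainComplex.isKProjective_of_projective (mappingCone f) b
  obtain ⟨hc⟩ := homotopy_of_Q_map_eq_zero (mappingCone f) (mappingCone f) (𝟙 _)
    (hCzero.eq_of_src _ _)
  let w := mappingCone.mapOfHomotopy H
  let PK : ℤ → A[X] := fun i => detOneSub (K.X i) (u.f i)
  let PK' : ℤ → A[X] := fun i => detOneSub (K'.X i) (u'.f i)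
  let PC : ℤ → A[X] := fun i => detOneSub ((mappingCone f).X i) (w.f i)
  let β : ℤ → A[X] := fun i =>
    detOneSub ((mappingCone f).X i) (prevD i hc.hom ≫ w.f i ≫ prevD i hc.hom)
  have hPC1 : ∀ i, PC i = PK (i + 1) * PK' i := fun i => cone_factor hK hK' f u u' H i
  have hPC2 : ∀ i, PC i = β (i + 1) * β i := fun i =>
    contractible_factor (mappingCone f) (cone_finite_free hK hK' f) hc w i
  have hPKfin : (Function.mulSupport PK).Finite := by
    refine finite_mulSupport_of_bounds PK a b ?_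
    rintro i (hi | hi)
    · exact detOneSub_of_isZero _ (K.isZero_of_isStrictlyGE a _ hi) _
    · exact detOneSub_of_isZero _ (K.isZero_of_isStrictlyLE b _ hi) _
  have hPK'fin : (Function.mulSupport PK').Finite := by
    refine finite_mulSupport_of_bounds PK' a b ?_
    rintro i (hi | hi)
    · exact detOneSub_of_isZero _ (K'.isZero_of_isStrictlyGE a _ hi) _
    · exact detOneSub_of_isZero _ (K'.isZero_of_isStrictlyLE b _ hi) _
  have hβfin : (Function.mulSupport β).Finite := by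
    refine finite_mulSupport_of_bounds β (a - 1) b ?_
    rintro i (hi | hi)
    · refine detOneSub_of_isZero _ ?_ _
      rw [mappingCone.isZero_X_iff]
      exact ⟨K.isZero_of_isStrictlyGE a _ (by omega), K'.isZero_of_isStrictlyGE a _ (by omega)⟩
    · refine detOneSub_of_isZero _ ?_ _
      rw [mappingCone.isZero_X_iff]
      exact ⟨K.isZero_of_isStrictlyLE b _ (by omega), K'.isZero_of_isStrictlyLE b _ (by omega)⟩
  have key := finprod_even_eq_odd PC β hβfin hPC2
  have hE := finprod_even_mul PC PK PK' hPKfin hPK'fin hPC1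
  have hO := finprod_odd_mul PC PK PK' hPKfin hPK'fin hPC1
  exact hO.symm.trans (key.symm.trans hE)

end Complexes

end Groth.Agent.H4.DetQis
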