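import Groth.Agent.H4.Dim
import Mathlib

/-!
# Krull dimension: incomparability, families of generalizing maps, etale and integral morphisms (helper4)
-/

universe u

namespace Groth.Agent.H4.Spec

open Topology TopologicalSpace Set Order

variable {X Y : Type*} [TopologicalSpace X] [TopologicalSpace Y]

/-- Incomparability: if no two distinct points of a fibre of `f` specialize to each other, then
`dim X ≤ dim Y`. -/
theorem topologicalKrullDim_le_of_inc [QuasiSober X] [T0Space Y] {f : X → Y} (hf : Continuous f)
    (hinc : ∀ x x' : X, x' ⤳ x → f x' = f x → x' = x) :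
    topologicalKrullDim X ≤ topologicalKrullDim Y := by
  refine krullDim_le_of_strictMono (IrreducibleCloseds.map f hf) ?_
  intro A B hlt
  refine lt_of_le_of_ne (IrreducibleCloseds.map_mono hf hlt.le) ?_
  intro hAB
  have key : ∀ C : IrreducibleCloseds X,
      (IrreducibleCloseds.map f hf C : Set Y) = closure {f (gp C)} := by
    intro C
    rw [IrreducibleCloseds.coe_map, ← (isGenericPoint_gp C).def, closure_image_closure hf,
      image_singleton]
  have h1 : closure {f (gp A)} = closure {f (gp B)} := by
    rw [← key, ← key, hAB]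
  have h2 : f (gp B) = f (gp A) := by
    have : Inseparable (f (gp A)) (f (gp B)) := inseparable_iff_closure_eq.mpr h1
    exact this.eq.symm
  have h3 : gp B = gp A := hinc _ _ (gp_specializes_of_le hlt.le) h2
  apply hlt.ne
  apply IrreducibleCloseds.ext
  rw [← (isGenericPoint_gp A).def, ← (isGenericPoint_gp B).def, h3]

section

variable [QuasiSober Y]

/-- Lifting a chain of irreducible closed subsets along a generalizing map, starting from a point
over the generic point of the smallest member. -/
theorem exists_ltSeries_of_generalizingMap {f : X → Y} (hf : Continuous f)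
    (hgen : GeneralizingMap f) (p : LTSeries (IrreducibleCloseds Y)) (x0 : X)
    (hx0 : f x0 = gp (p 0)) :
    ∃ q : LTSeries (IrreducibleCloseds X), q.length = p.length := by
  let n := p.length
  let y : ℕ → Y := fun k => gp (p ⟨min k n, by omega⟩)
  have hy : ∀ k, y (k + 1) ⤳ y k := by
    intro k
    apply gp_specializes_of_le
    apply p.monotone
    rw [Fin.mk_le_mk]
    omega
  have hx0' : f x0 = y 0 := by
    rw [hx0]
    rfl
  obtain ⟨x, hxy, hx⟩ := exists_seq_lift f (fun a b => b ⤳ a) (fun a b => b ⤳ a)
    (fun a b hab => hgen hab) y hy x0 hx0'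
  have hxmono : ∀ k k', k ≤ k' → x k' ⤳ x k := by
    intro k k' hkk'
    induction k', hkk' using Nat.le_induction with
    | base => exact specializes_rfl
    | succ k' _ ih => exact (hx k').trans ih
  refine ⟨LTSeries.mk n (fun i => pointClosure (x i)) ?_, rfl⟩
  intro i j hij
  rw [lt_iff_le_not_ge]
  constructor
  · rw [pointClosure_le_iff]
    apply hxmono
    exact le_of_lt hij
  · rw [pointClosure_le_iff]
    intro hs
    have h1 := hs.map hf
    rw [hxy, hxy] at h1
    have hi : (⟨min (i : ℕ) n, by omega⟩ : Fin (n + 1)) = i := Fin.ext (by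
      have := i.2
      simp only
      omega)
    have hj : (⟨min (j : ℕ) n, by omega⟩ : Fin (n + 1)) = j := Fin.ext (by
      have := j.2
      simp only
      omega)
    simp only [y, hi, hj] at h1
    exact not_gp_specializes_of_lt (p.strictMono hij) h1

/-- A jointly surjective family of continuous generalizing maps: `dim Y ≤ sup dim X_k`. -/
theorem topologicalKrullDim_le_iSup_of_generalizingMap {ι : Type*} {Xk : ι → Type*}
    [∀ k, TopologicalSpace (Xk k)] (f : ∀ k, Xk k → Y) (hf : ∀ k, Continuous (f k))
    (hgen : ∀ k, GeneralizingMap (f k)) (hsurj : ∀ y : Y, ∃ k x, f k x = y) :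
    topologicalKrullDim Y ≤ ⨆ k, topologicalKrullDim (Xk k) := by
  unfold topologicalKrullDim
  refine iSup_le fun p => ?_
  obtain ⟨k, x0, hx0⟩ := hsurj (gp (p 0))
  obtain ⟨q, hq⟩ := exists_ltSeries_of_generalizingMap (hf k) (hgen k) p x0 hx0
  rw [← hq]
  exact le_trans q.length_le_krullDim (le_iSup (fun k => krullDim (IrreducibleCloseds (Xk k))) k)

end

end Groth.Agent.H4.Spec

namespace Groth.Agent.H4.SchDim

open CategoryTheory AlgebraicGeometry Topology TopologicalSpace Groth.Agent.H4.Spec

/-- A locally quasi-finite morphism has no specializations inside a fibre. -/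
theorem inc_of_locallyQuasiFinite {A B : Scheme.{u}} (e : A ⟶ B) [LocallyQuasiFinite e]
    (x x' : A) (hs : x' ⤳ x) (h : e x' = e x) : x' = x := by
  have hd := e.isDiscrete_preimage_singleton (e x)
  have hx : x ∈ e ⁻¹' {e x} := rfl
  have hx' : x' ∈ e ⁻¹' {e x} := h
  obtain ⟨O, hO, hOx⟩ := (isDiscrete_iff_forall_mem_exists_isOpen.mp hd) x hx
  have hxO : x ∈ O := (hOx.ge (Set.mem_singleton x)).1
  have hx'O : x' ∈ O := hs.mem_open hO hxO
  have : x' ∈ O ∩ e ⁻¹' {e x} := ⟨hx'O, hx'⟩
  rw [hOx] at this
  exact this

theorem topologicalKrullDim_le_of_locallyQuasiFinite {A B : Scheme.{u}} (e : A ⟶ B)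
    [LocallyQuasiFinite e] : topologicalKrullDim A ≤ topologicalKrullDim B :=
  topologicalKrullDim_le_of_inc e.continuous (inc_of_locallyQuasiFinite e)

/-- An integral ring map has incomparability. -/
theorem inc_of_isIntegral {R T : Type u} [CommRing R] [CommRing T] (φ : R →+* T) (hφ : φ.IsIntegral)
    (q q' : PrimeSpectrum T) (hs : q' ⤳ q) (h : PrimeSpectrum.comap φ q' = PrimeSpectrum.comap φ q) :
    q' = q := by
  algebraize [φ]
  have : Algebra.IsIntegral R T := ⟨hφ⟩
  rw [← PrimeSpectrum.le_iff_specializes] at hs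
  by_contra hne
  have hlt : q'.asIdeal < q.asIdeal := lt_of_le_of_ne hs (fun h' => hne (PrimeSpectrum.ext h'))
  have := Ideal.IsIntegral.comap_lt_comap (R := R) hlt
  have h2 : (PrimeSpectrum.comap φ q').asIdeal = (PrimeSpectrum.comap φ q).asIdeal := by rw [h]
  exact this.ne h2

theorem topologicalKrullDim_le_of_isIntegral_SpecMap {R T : CommRingCat.{u}} (φ : R ⟶ T)
    (hφ : φ.hom.IsIntegral) : topologicalKrullDim (Spec T) ≤ topologicalKrullDim (Spec R) := by
  refine topologicalKrullDim_le_of_inc (Spec.map φ).continuous ?_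
  intro q q' hs h
  exact inc_of_isIntegral φ.hom hφ q q' hs h

theorem topologicalKrullDim_le_of_isIntegralHom {W Z : Scheme.{u}} [IsAffine W] [IsAffine Z]
    (i : W ⟶ Z) [IsIntegralHom i] : topologicalKrullDim W ≤ topologicalKrullDim Z := by
  have h1 : topologicalKrullDim W = topologicalKrullDim (Spec Γ(W, ⊤)) :=
    IsHomeomorph.topologicalKrullDim_eq _ W.isoSpec.hom.homeomorph.isHomeomorph
  have h2 : topologicalKrullDim Z = topologicalKrullDim (Spec Γ(Z, ⊤)) :=
    IsHomeomorph.topologicalKrullDim_eq _ Z.isoSpec.hom.homeomorph.isHomeomorph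
  rw [h1, h2]
  apply topologicalKrullDim_le_of_isIntegral_SpecMap
  exact ((HasAffineProperty.iff_of_isAffine (P := @IsIntegralHom) (f := i)).mp inferInstance).2

end Groth.Agent.H4.SchDim
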