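import Mathlib.RingTheory.KrullDimension.Basic
import Mathlib.RingTheory.Ideal.MinimalPrime.Basic
import Mathlib.RingTheory.Localization.AtPrime.Basic
import Mathlib.RingTheory.Finiteness.Ideal
import Mathlib.RingTheory.Noetherian.Basic
import Mathlib.RingTheory.LocalRing.MaximalIdeal.Basic
import Mathlib.Algebra.Ring.GeomSum

/-!
# One-dimensional Noetherian local rings (helper4)
-/

namespace Groth.Agent.H4.DimOne

variable {A : Type*} [CommRing A] [IsLocalRing A] [IsNoetherianRing A]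

/-- an element killed at every minimal prime is killed by a power of the maximal ideal -/
theorem exists_pow_mul_eq_zero (hdim : ringKrullDim A ≤ 1) (d : A)
    (hd : ∀ p ∈ minimalPrimes A, ∃ s ∉ p, s * d = 0) :
    ∃ N : ℕ, ∀ x ∈ IsLocalRing.maximalIdeal A ^ N, x * d = 0 := by
  let I : Ideal A := LinearMap.ker (LinearMap.mulRight A d)
  have hI : ∀ x, x ∈ I ↔ x * d = 0 := fun x => by
    simp only [I, LinearMap.mem_ker, LinearMap.mulRight_apply]
  have hdim' : Ring.KrullDimLE 1 A := Ring.krullDimLE_iff.2 hdim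
  have hrad : IsLocalRing.maximalIdeal A ≤ I.radical := by
    rw [Ideal.radical_eq_sInf]
    refine le_sInf ?_
    rintro q ⟨hIq, hq⟩
    rcases Ring.krullDimLE_one_iff.1 hdim' q hq with hmin | hmax
    · obtain ⟨s, hs, hsd⟩ := hd q hmin
      exact absurd (hIq ((hI s).2 hsd)) hs
    · rw [IsLocalRing.eq_maximalIdeal hmax]
  obtain ⟨N, hN⟩ := Ideal.exists_pow_le_of_le_radical_of_fg hrad
    (IsNoetherian.noetherian (IsLocalRing.maximalIdeal A))
  exact ⟨N, fun x hx => (hI x).1 (hN hx)⟩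

omit [IsLocalRing A] [IsNoetherianRing A] in
theorem geom_sum₂_mem_pow (I : Ideal A) {a b : A} (ha : a ∈ I) (hb : b ∈ I) (N : ℕ) :
    ∑ i ∈ Finset.range (N + 1), a ^ i * b ^ (N + 1 - 1 - i) ∈ I ^ N := by
  refine Submodule.sum_mem _ fun i hi => ?_
  have hi' : i ≤ N := Nat.lt_succ_iff.1 (Finset.mem_range.1 hi)
  have e : I ^ N = I ^ i * I ^ (N + 1 - 1 - i) := by
    rw [← pow_add]
    congr 1
    omega
  rw [e]
  exact Ideal.mul_mem_mul (Ideal.pow_mem_pow ha i) (Ideal.pow_mem_pow hb _)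

theorem exists_pow_eq_pow (hdim : ringKrullDim A ≤ 1) (a₁ a₂ : A)
    (h₁ : a₁ ∈ IsLocalRing.maximalIdeal A) (h₂ : a₂ ∈ IsLocalRing.maximalIdeal A)
    (hd : ∀ p ∈ minimalPrimes A, ∃ s ∉ p, s * (a₁ - a₂) = 0) :
    ∃ n : ℕ, 0 < n ∧ a₁ ^ n = a₂ ^ n := by
  obtain ⟨N, hN⟩ := exists_pow_mul_eq_zero hdim (a₁ - a₂) hd
  refine ⟨N + 1, Nat.succ_pos N, ?_⟩
  rw [← sub_eq_zero, ← geom_sum₂_mul]
  exact hN _ (geom_sum₂_mem_pow _ h₁ h₂ N)

end Groth.Agent.H4.DimOne
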