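import Mathlib
import Groth.Agent.H4.LimGlue
import Groth.Agent.Lib.Lead.QC.AmpleExt
import Groth.Agent.Lib.Lead.QC.Affine

set_option autoImplicit false
universe u
open CategoryTheory CategoryTheory.Limits AlgebraicGeometry Opposite TopologicalSpace

namespace Groth.Agent.H4.TildeE
open Groth.Agent.LD.QC
open AlgebraicGeometry.StructureSheaf

/-! ## elementary algebra on the structure sheaf of a module -/
section Alg
variable {R R' : Type u} [CommRing R] [CommRing R'] {N N' : Type u} [AddCommGroup N] [Module R N]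
  [AddCommGroup N'] [Module R' N'] {σ : R →+* R'} (r : N →ₛₗ[σ] N')

lemma comapₗ_toOpenₗ (O : Opens (PrimeSpectrum.Top R)) (O' : Opens (PrimeSpectrum.Top R'))
    (hOO' : O'.1 ⊆ PrimeSpectrum.comap σ ⁻¹' O.1) (n : N) :
    comapₗ r O O' hOO' (toOpenₗ R N O n) = toOpenₗ R' N' O' (r n) := by
  apply Subtype.ext
  funext y
  show Localizations.comapFun r y.1 (LocalizedModule.mk n 1) = LocalizedModule.mk (r n) 1
  rw [Localizations.comapFun_mk]
  congr 1
  exact Subtype.ext (map_one σ)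

lemma sec_units (h : R) (k : ℕ) :
    Function.Bijective (fun p : (structureSheafInType R N).obj.obj
      (op (PrimeSpectrum.basicOpen h)) => h ^ k • p) := by
  have := IsLocalizedModule.map_units (toOpenₗ R N (PrimeSpectrum.basicOpen h))
    (⟨h ^ k, k, rfl⟩ : Submonoid.powers h)
  rw [Module.End.isUnit_iff] at this
  exact this

lemma sec_surj_of_eq (h : R) (O : Opens (PrimeSpectrum.Top R))
    (hO : O = PrimeSpectrum.basicOpen h) (p : (structureSheafInType R N).obj.obj (op O)) :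
    ∃ (k : ℕ) (n : N), h ^ k • p = toOpenₗ R N O n := by
  subst hO
  obtain ⟨⟨n, ⟨_, k, rfl⟩⟩, hk⟩ := IsLocalizedModule.surj (Submonoid.powers h)
    (toOpenₗ R N (PrimeSpectrum.basicOpen h)) p
  exact ⟨k, n, hk⟩

lemma sec_zero_of_eq (h : R) (O : Opens (PrimeSpectrum.Top R))
    (hO : O = PrimeSpectrum.basicOpen h) (n : N) (hn : toOpenₗ R N O n = 0) :
    ∃ k : ℕ, h ^ k • n = 0 := by
  subst hO
  obtain ⟨⟨_, k, rfl⟩, hk⟩ := (IsLocalizedModule.eq_zero_iff (Submonoid.powers h)
    (toOpenₗ R N (PrimeSpectrum.basicOpen h))).mp hn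
  exact ⟨k, hk⟩

lemma toOpenₗ_bijective_of_eq_top (O : Opens (PrimeSpectrum.Top R)) (hO : O = ⊤) :
    Function.Bijective (toOpenₗ R N O) := by
  subst hO
  exact toOpenₗ_top_bijective

theorem comapₗ_bijective_basic (a h : R) (m₀ : ℕ) (c : R) (hm : h ^ m₀ = a * c)
    (hsurj : ∀ n' : N', ∃ (k : ℕ) (n : N), r n = σ a ^ k • n')
    (hker : ∀ n : N, r n = 0 → ∃ k : ℕ, a ^ k • n = 0)
    (hOO' : (PrimeSpectrum.basicOpen (σ h)).1 ⊆
      PrimeSpectrum.comap σ ⁻¹' (PrimeSpectrum.basicOpen h).1) :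
    Function.Bijective
      (comapₗ r (PrimeSpectrum.basicOpen h) (PrimeSpectrum.basicOpen (σ h)) hOO') := by
  set θ₁ := toOpenₗ R N (PrimeSpectrum.basicOpen h) with hθ₁
  set θ₂ := toOpenₗ R' N' (PrimeSpectrum.basicOpen (σ h)) with hθ₂
  set γ := comapₗ r (PrimeSpectrum.basicOpen h) (PrimeSpectrum.basicOpen (σ h)) hOO' with hγ
  have hγθ : ∀ n, γ (θ₁ n) = θ₂ (r n) := fun n => comapₗ_toOpenₗ r _ _ hOO' n
  have hu₁ : ∀ k : ℕ, Function.Bijective (fun p : (structureSheafInType R N).obj.obj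
      (op (PrimeSpectrum.basicOpen h)) => h ^ k • p) := sec_units h
  have hu₂ : ∀ k : ℕ, Function.Bijective (fun p : (structureSheafInType R' N').obj.obj
      (op (PrimeSpectrum.basicOpen (σ h))) => σ h ^ k • p) := sec_units (σ h)
  have hinj₁ : ∀ (k : ℕ) (p : (structureSheafInType R N).obj.obj
      (op (PrimeSpectrum.basicOpen h))), h ^ k • p = 0 → p = 0 := by
    intro k p hp
    apply (hu₁ k).1
    show h ^ k • p = h ^ k • 0
    rw [hp, smul_zero]
  have hainj : ∀ (k : ℕ) (p : (structureSheafInType R N).obj.obj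
      (op (PrimeSpectrum.basicOpen h))), a ^ k • p = 0 → p = 0 := by
    intro k p hp
    apply hinj₁ (m₀ * k) p
    rw [pow_mul, hm, mul_pow, mul_comm, mul_smul, hp, smul_zero]
  constructor
  · refine (injective_iff_map_eq_zero γ).mpr ?_
    intro p hp
    obtain ⟨⟨n, ⟨_, k, rfl⟩⟩, hk⟩ := IsLocalizedModule.surj (Submonoid.powers h) θ₁ p
    have hk' : h ^ k • p = θ₁ n := hk
    have h1 : θ₂ (r n) = 0 := by
      rw [← hγθ, ← hk', map_smulₛₗ, hp, smul_zero]
    obtain ⟨⟨_, l, rfl⟩, hl⟩ :=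
      (IsLocalizedModule.eq_zero_iff (Submonoid.powers (σ h)) θ₂).mp h1
    have hl' : σ h ^ l • r n = 0 := hl
    have h2 : r (h ^ l • n) = 0 := by rw [map_smulₛₗ, map_pow, hl']
    obtain ⟨q, hq⟩ := hker _ h2
    have h3 : a ^ q • (h ^ l • (h ^ k • p)) = 0 := by
      rw [hk', ← map_smul, ← map_smul, hq, map_zero]
    exact hinj₁ k p (hinj₁ l _ (hainj q _ h3))
  · intro p₂
    obtain ⟨⟨n', ⟨_, k, rfl⟩⟩, hk⟩ := IsLocalizedModule.surj (Submonoid.powers (σ h)) θ₂ p₂
    have hk' : σ h ^ k • p₂ = θ₂ n' := hk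
    obtain ⟨l, n, hn⟩ := hsurj n'
    have e : h ^ (m₀ * l + k) = c ^ l * (a ^ l * h ^ k) := by
      rw [pow_add, pow_mul, hm, mul_pow]; ring
    obtain ⟨q, hq⟩ := (hu₁ (m₀ * l + k)).2 (c ^ l • θ₁ n)
    have hq' : h ^ (m₀ * l + k) • q = c ^ l • θ₁ n := hq
    refine ⟨q, ?_⟩
    apply (hu₂ (m₀ * l + k)).1
    show σ h ^ (m₀ * l + k) • γ q = σ h ^ (m₀ * l + k) • p₂
    have e1 : σ h ^ (m₀ * l + k) • γ q = γ (h ^ (m₀ * l + k) • q) := by
      rw [map_smulₛₗ, map_pow]
    rw [e1, hq', map_smulₛₗ, hγθ, hn, map_smul, ← hk']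
    have e2 : σ h ^ (m₀ * l + k) = σ c ^ l * (σ a ^ l * σ h ^ k) := by
      rw [← map_pow, e]; simp only [map_mul, map_pow]
    rw [e2, mul_smul, mul_smul, map_pow]

theorem comapₗ_bijective (a h : R) (m₀ : ℕ) (c : R) (hm : h ^ m₀ = a * c)
    (hsurj : ∀ n' : N', ∃ (k : ℕ) (n : N), r n = σ a ^ k • n')
    (hker : ∀ n : N, r n = 0 → ∃ k : ℕ, a ^ k • n = 0)
    (O : Opens (PrimeSpectrum.Top R)) (O' : Opens (PrimeSpectrum.Top R'))
    (hO : O = PrimeSpectrum.basicOpen h) (hO' : O' = PrimeSpectrum.basicOpen (σ h))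
    (hOO' : O'.1 ⊆ PrimeSpectrum.comap σ ⁻¹' O.1) :
    Function.Bijective (comapₗ r O O' hOO') := by
  subst hO hO'
  exact comapₗ_bijective_basic r a h m₀ c hm hsurj hker hOO'

end Alg

/-! ## sections of `tilde N` -/
section Spec
variable {R : CommRingCat.{u}} {N : ModuleCat.{u} R}

/-- value of a section of `tilde N` at a point -/
def tval {O : (Spec R).Opens} (s : Γ(tilde N, O)) (x : O) :
    LocalizedModule x.1.asIdeal.primeCompl N :=
  (show (structureSheafInType R N).obj.obj (op O) from s).1 x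

/-- value of a function at a point -/
def cval {O : (Spec R).Opens} (c : Γ(Spec R, O)) (x : O) : Localizations (↑R) x.1 :=
  (show (structureSheafInType R R).obj.obj (op O) from c).1 x

lemma tval_ext {O : (Spec R).Opens} (s s' : Γ(tilde N, O)) (h : ∀ x, tval s x = tval s' x) :
    s = s' := by
  apply Subtype.ext
  funext x
  exact h x

lemma tval_smul {O : (Spec R).Opens} (c : Γ(Spec R, O)) (s : Γ(tilde N, O)) (x : O) :
    tval (c • s) x = cval c x • tval s x := rfl

/-- the section attached to an element -/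
noncomputable def tO (N : ModuleCat.{u} R) (O : (Spec R).Opens) (n : N) : Γ(tilde N, O) :=
  show (structureSheafInType R N).obj.obj (op O) from toOpenₗ R N O n

lemma tval_transport {O : (Spec R).Opens} (s : Γ(tilde N, O)) {P : Type*} (x x' : O)
    (hx : x.1 = x'.1)
    (g : LocalizedModule x.1.asIdeal.primeCompl N → P)
    (g' : LocalizedModule x'.1.asIdeal.primeCompl N → P)
    (hg : ∀ (n : N) (t : R) (ht : t ∈ x.1.asIdeal.primeCompl)
      (ht' : t ∈ x'.1.asIdeal.primeCompl),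
      g (LocalizedModule.mk n ⟨t, ht⟩) = g' (LocalizedModule.mk n ⟨t, ht'⟩)) :
    g (tval s x) = g' (tval s x') := by
  obtain ⟨x, hxO⟩ := x
  obtain ⟨x', hxO'⟩ := x'
  dsimp only at hx
  subst hx
  generalize tval s ⟨x, hxO⟩ = m
  induction m using LocalizedModule.induction_on with | h n t =>
  exact hg n t.1 t.2 t.2

end Spec

section Comap
variable {R R' : CommRingCat.{u}} {N : ModuleCat.{u} R} {N' : ModuleCat.{u} R'}
  (φ : R ⟶ R') (r : N →ₛₗ[φ.hom] N')

lemma comapFun_smul (y : PrimeSpectrum.Top R')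
    (c : Localizations (↑R) (y.comap φ.hom)) (m : Localizations (↑N) (y.comap φ.hom)) :
    Localizations.comapFun r y (c • m) =
      Localizations.comapFun φ.hom.toSemilinearMap y c • Localizations.comapFun r y m := by
  induction c using LocalizedModule.induction_on with | h a s =>
  induction m using LocalizedModule.induction_on with | h n t =>
  rw [Localizations.comapFun_mk, Localizations.comapFun_mk]
  change Localizations.comapFun r y (Localization.mk a s • LocalizedModule.mk n t) =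
    Localization.mk (φ.hom a) ⟨φ.hom s.1, s.2⟩ • LocalizedModule.mk (r n) ⟨φ.hom t.1, t.2⟩
  rw [LocalizedModule.mk_smul_mk, LocalizedModule.mk_smul_mk, Localizations.comapFun_mk]
  congr 1
  · simp
  · exact Subtype.ext (map_mul φ.hom _ _)

/-- the comparison morphism of tildes attached to a semilinear map. -/
noncomputable def tildeComap :
    tilde N ⟶ (Scheme.Modules.pushforward (Spec.map φ)).obj (tilde N') :=
  ⟨PresheafOfModules.homMk
    { app := fun O => AddCommGrpCat.ofHom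
        (comapₗ r O.unop (Spec.map φ ⁻¹ᵁ O.unop) le_rfl).toAddMonoidHom
      naturality := fun O O' i => by
        ext s
        rfl }
    (fun O c s => by
      apply Subtype.ext
      funext y
      exact comapFun_smul φ r y.1 _ _)⟩

end Comap

/-! ## the module on `X` attached to a module over the sections on an affine open -/
section E
variable {X : Scheme.{u}}

/-- extension by direct image of the module attached to `N` on the affine open `U`. -/
noncomputable def E {U : X.Opens} (hU : IsAffineOpen U) (N : ModuleCat.{u} Γ(X, U)) : X.Modules :=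
  (Scheme.Modules.pushforward hU.fromSpec).obj (tilde N)

lemma E_ext {U : X.Opens} (hU : IsAffineOpen U) (N : ModuleCat.{u} Γ(X, U)) (W W' : X.Opens)
    (h : W' ≤ W) (h' : W ⊓ U ≤ W') :
    Function.Bijective ((E hU N).presheaf.map (homOfLE h).op) := by
  have h2 : hU.fromSpec ⁻¹ᵁ W ≤ hU.fromSpec ⁻¹ᵁ W' := by
    intro y hy
    refine h' ⟨hy, ?_⟩
    have : hU.fromSpec.base y ∈ hU.fromSpec.opensRange := ⟨y, rfl⟩
    rwa [hU.opensRange_fromSpec] at this
  exact Groth.Agent.H4.LimGlue.res_bijective_of_le_of_le (tilde N)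
    (hU.fromSpec.preimage_mono h) h2

lemma fromSpec_app_val {U : X.Opens} (hU : IsAffineOpen U) {W : X.Opens} (hW : W ≤ U)
    (g : Γ(X, U)) (x : (hU.fromSpec ⁻¹ᵁ W : (Spec Γ(X, U)).Opens)) :
    cval (hU.fromSpec.app W (X.presheaf.map (homOfLE hW).op g)) x =
      algebraMap Γ(X, U) (Localizations (↑Γ(X, U)) x.1) g := by
  have nat := hU.fromSpec.naturality (homOfLE hW).op
  have h1 := congr($nat g)
  have h2 : hU.fromSpec.app W (X.presheaf.map (homOfLE hW).op g) =
      (Spec Γ(X, U)).presheaf.map ((Opens.map hU.fromSpec.base).map (homOfLE hW)).op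
        (hU.fromSpec.app U g) := h1
  rw [h2, hU.fromSpec_app_self]
  rfl

section trans
variable {U V : X.Opens} (hU : IsAffineOpen U) (hV : IsAffineOpen V) (h : V ≤ U)
  {N : ModuleCat.{u} Γ(X, U)} {N' : ModuleCat.{u} Γ(X, V)}
  (r : N →ₛₗ[(X.presheaf.map (homOfLE h).op).hom] N')

/-- the transition morphism attached to a semilinear map over the restriction of functions. -/
noncomputable def trans : E hU N ⟶ E hV N' :=
  (Scheme.Modules.pushforward hU.fromSpec).map (tildeComap (X.presheaf.map (homOfLE h).op) r) ≫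
    (Scheme.Modules.pushforwardComp (Spec.map (X.presheaf.map (homOfLE h).op))
      hU.fromSpec).hom.app _ ≫
    (Scheme.Modules.pushforwardCongr (hU.map_fromSpec hV (homOfLE h).op)).hom.app _

lemma fromSpec_comap (y : Spec Γ(X, V)) :
    hU.fromSpec.base (PrimeSpectrum.comap (X.presheaf.map (homOfLE h).op).hom y) =
      hV.fromSpec.base y := by
  have := hU.map_fromSpec hV (homOfLE h).op
  exact congrArg (fun g : Spec Γ(X, V) ⟶ X => g.base y) this

lemma preimage_subset (W : X.Opens) :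
    (hV.fromSpec ⁻¹ᵁ W).1 ⊆ PrimeSpectrum.comap (X.presheaf.map (homOfLE h).op).hom ⁻¹'
      (hU.fromSpec ⁻¹ᵁ W).1 := by
  intro y hy
  show hU.fromSpec.base (PrimeSpectrum.comap (X.presheaf.map (homOfLE h).op).hom y) ∈ W
  rw [fromSpec_comap hU hV h y]
  exact hy

lemma trans_val (W : X.Opens) (s : Γ(E hU N, W)) (y : Spec Γ(X, V))
    (hy : hV.fromSpec.base y ∈ W)
    (hy' : hU.fromSpec.base (PrimeSpectrum.comap (X.presheaf.map (homOfLE h).op).hom y) ∈ W) :
    tval (N := N') (O := hV.fromSpec ⁻¹ᵁ W) ((trans hU hV h r).app W s) ⟨y, hy⟩ =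
      Localizations.comapFun r y (tval (N := N) (O := hU.fromSpec ⁻¹ᵁ W) s
        ⟨PrimeSpectrum.comap (X.presheaf.map (homOfLE h).op).hom y, hy'⟩) := rfl

lemma trans_app_eq (W : X.Opens) (s : Γ(E hU N, W)) :
    (trans hU hV h r).app W s =
      (show Γ(E hV N', W) from comapₗ r (hU.fromSpec ⁻¹ᵁ W) (hV.fromSpec ⁻¹ᵁ W)
        (preimage_subset hU hV h W) s) := rfl

lemma trans_bijective_of (W : X.Opens)
    (hb : Function.Bijective (comapₗ r (hU.fromSpec ⁻¹ᵁ W) (hV.fromSpec ⁻¹ᵁ W)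
      (preimage_subset hU hV h W))) :
    Function.Bijective ((trans hU hV h r).app W) := by
  refine ⟨fun s s' hss => ?_, fun t => ?_⟩
  · rw [trans_app_eq, trans_app_eq] at hss
    exact hb.1 hss
  · obtain ⟨s, hs⟩ := hb.2 t
    exact ⟨s, (trans_app_eq hU hV h r W s).trans hs⟩

lemma trans_tO (W : X.Opens) (n : N) :
    (trans hU hV h r).app W (tO N (hU.fromSpec ⁻¹ᵁ W) n) = tO N' (hV.fromSpec ⁻¹ᵁ W) (r n) := by
  rw [trans_app_eq]
  exact comapₗ_toOpenₗ r _ _ _ n

end trans

lemma trans_eq_id {U : X.Opens} (hU : IsAffineOpen U) (h : U ≤ U) {N : ModuleCat.{u} Γ(X, U)}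
    (r : N →ₛₗ[(X.presheaf.map (homOfLE h).op).hom] N) (hr : ∀ n, r n = n) :
    trans hU hU h r = 𝟙 (E hU N) := by
  refine Scheme.Modules.hom_ext _ _ fun W => ?_
  ext s
  refine tval_ext (N := N) (O := hU.fromSpec ⁻¹ᵁ W) _ _ fun y => ?_
  obtain ⟨y, hy⟩ := y
  have hσ : ∀ a : Γ(X, U), (X.presheaf.map (homOfLE h).op).hom a = a := fun a => by
    have : (homOfLE h).op = 𝟙 (op U) := rfl
    rw [this, X.presheaf.map_id]
    rfl
  have hy' : hU.fromSpec.base (PrimeSpectrum.comap (X.presheaf.map (homOfLE h).op).hom y) ∈ W := by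
    rw [fromSpec_comap hU hU h y]; exact hy
  refine (trans_val hU hU h r W s y hy hy').trans ?_
  refine tval_transport (N := N) (O := hU.fromSpec ⁻¹ᵁ W) s ⟨_, hy'⟩ ⟨y, hy⟩ ?_
    (fun m => Localizations.comapFun r y m) id ?_
  · refine PrimeSpectrum.ext (Ideal.ext fun a => ?_)
    show (X.presheaf.map (homOfLE h).op).hom a ∈ y.asIdeal ↔ a ∈ y.asIdeal
    rw [hσ]
  · intro n t ht ht'
    rw [Localizations.comapFun_mk]
    show LocalizedModule.mk (r n) _ = LocalizedModule.mk n _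
    congr 1
    · exact hr n
    · exact Subtype.ext (hσ t)

lemma trans_comp {U V V' : X.Opens} (hU : IsAffineOpen U) (hV : IsAffineOpen V)
    (hV' : IsAffineOpen V') (h : V ≤ U) (h' : V' ≤ V)
    {N : ModuleCat.{u} Γ(X, U)} {N' : ModuleCat.{u} Γ(X, V)} {N'' : ModuleCat.{u} Γ(X, V')}
    (r : N →ₛₗ[(X.presheaf.map (homOfLE h).op).hom] N')
    (r' : N' →ₛₗ[(X.presheaf.map (homOfLE h').op).hom] N'')
    (r'' : N →ₛₗ[(X.presheaf.map (homOfLE (h'.trans h)).op).hom] N'')
    (hr : ∀ n, r'' n = r' (r n)) :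
    trans hU hV' (h'.trans h) r'' = trans hU hV h r ≫ trans hV hV' h' r' := by
  refine Scheme.Modules.hom_ext _ _ fun W => ?_
  ext s
  refine tval_ext (N := N'') (O := hV'.fromSpec ⁻¹ᵁ W) _ _ fun z => ?_
  obtain ⟨z, hz⟩ := z
  have hσ : ∀ a : Γ(X, U), (X.presheaf.map (homOfLE h').op).hom
      ((X.presheaf.map (homOfLE h).op).hom a) =
      (X.presheaf.map (homOfLE (h'.trans h)).op).hom a := fun a => sres_res h h' a
  have hz2 : hV.fromSpec.base (PrimeSpectrum.comap (X.presheaf.map (homOfLE h').op).hom z) ∈ W := by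
    rw [fromSpec_comap hV hV' h' z]; exact hz
  have hz3 : hU.fromSpec.base (PrimeSpectrum.comap (X.presheaf.map (homOfLE h).op).hom
      (PrimeSpectrum.comap (X.presheaf.map (homOfLE h').op).hom z)) ∈ W := by
    rw [fromSpec_comap hU hV h]; exact hz2
  have hz1 : hU.fromSpec.base
      (PrimeSpectrum.comap (X.presheaf.map (homOfLE (h'.trans h)).op).hom z) ∈ W := by
    rw [fromSpec_comap hU hV' (h'.trans h) z]; exact hz
  refine (trans_val hU hV' (h'.trans h) r'' W s z hz hz1).trans ?_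
  refine Eq.trans ?_ (trans_val hV hV' h' r' W ((trans hU hV h r).app W s) z hz hz2).symm
  refine Eq.trans ?_ (congrArg (fun m => Localizations.comapFun r' z m)
    (trans_val hU hV h r W s _ hz2 hz3)).symm
  refine tval_transport (N := N) (O := hU.fromSpec ⁻¹ᵁ W) s ⟨_, hz1⟩ ⟨_, hz3⟩ ?_
    (fun m => Localizations.comapFun r'' z m)
    (fun m => Localizations.comapFun r' z (Localizations.comapFun r _ m)) ?_
  · refine PrimeSpectrum.ext (Ideal.ext fun a => ?_)
    show (X.presheaf.map (homOfLE (h'.trans h)).op).hom a ∈ z.asIdeal ↔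
      (X.presheaf.map (homOfLE h').op).hom ((X.presheaf.map (homOfLE h).op).hom a) ∈ z.asIdeal
    rw [hσ]
  · intro n t ht ht'
    rw [Localizations.comapFun_mk, Localizations.comapFun_mk, Localizations.comapFun_mk]
    congr 1
    · exact hr n
    · exact Subtype.ext (hσ t).symm

end E

/-! ## bijectivity from a basis -/
section Basis
variable {X : Scheme.{u}}

theorem bijective_of_basis {A B : X.Modules} (φ : A ⟶ B) (W₀ : X.Opens) (𝔅 : Set X.Opens)
    (hbasis : ∀ W : X.Opens, W ≤ W₀ → ∀ x ∈ W, ∃ V ∈ 𝔅, x ∈ V ∧ V ≤ W)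
    (hφ : ∀ V ∈ 𝔅, Function.Bijective (φ.app V)) (W : X.Opens) (hW : W ≤ W₀) :
    Function.Bijective (φ.app W) := by
  have hinj : ∀ W : X.Opens, W ≤ W₀ → Function.Injective (φ.app W) := by
    intro W hW s s' hss
    choose V hV𝔅 hxV hVW using fun x : W => hbasis W hW x.1 x.2
    refine section_ext_of_cover A (fun x : W => V x) (fun x => hVW x)
      (fun x hx => Opens.mem_iSup.mpr ⟨⟨x, hx⟩, hxV ⟨x, hx⟩⟩) s s' fun x => ?_
    apply (hφ (V x) (hV𝔅 x)).1
    rw [app_res, app_res, hss]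
  refine ⟨hinj W hW, fun t => ?_⟩
  choose V hV𝔅 hxV hVW using fun x : W => hbasis W hW x.1 x.2
  choose sf hsf using fun x : W => (hφ (V x) (hV𝔅 x)).2 (B.presheaf.map (homOfLE (hVW x)).op t)
  obtain ⟨σ, hσ⟩ := exists_glue_section A (fun x : W => V x) W hVW
    (fun x hx => Opens.mem_iSup.mpr ⟨⟨x, hx⟩, hxV ⟨x, hx⟩⟩) sf (fun x y => by
      apply hinj (V x ⊓ V y) (inf_le_left.trans ((hVW x).trans hW))
      rw [app_res, app_res, hsf, hsf, res_res, res_res])
  refine ⟨σ, ?_⟩
  refine section_ext_of_cover B (fun x : W => V x) (fun x => hVW x)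
    (fun x hx => Opens.mem_iSup.mpr ⟨⟨x, hx⟩, hxV ⟨x, hx⟩⟩) _ _ fun x => ?_
  rw [← app_res, hσ, hsf]

end Basis

end Groth.Agent.H4.TildeE
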