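import Mathlib
import Groth.Prelude.Def_RelSpec2
import Groth.Agent.H4.TildeE
import Groth.Agent.Lib.Lead.QC.AModT
import Groth.Agent.Lib.Lead.QC.HomAffine
import Groth.Agent.Lib.Helper8.ProjTilde.QCCrit

set_option autoImplicit false
universe u
open CategoryTheory CategoryTheory.Limits AlgebraicGeometry Opposite TopologicalSpace

namespace Groth.Agent.H4.DirImgEss
open Groth.Agent.LD.QC Groth.Agent.H4.TildeE Groth.Agent.H4.LimGlue
open AlgebraicGeometry.StructureSheaf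

section EX
variable {X : Scheme.{u}}

lemma E_smul {U : X.Opens} (hU : IsAffineOpen U) (N : ModuleCat.{u} Γ(X, U)) {W : X.Opens}
    (hW : W ≤ U) (g : Γ(X, U)) (t : Γ(E hU N, W)) :
    (X.presheaf.map (homOfLE hW).op g) • t =
      (show Γ(E hU N, W) from (g • (show (structureSheafInType Γ(X, U) N).obj.obj
        (op (hU.fromSpec ⁻¹ᵁ W)) from t))) := by
  refine tval_ext (N := N) (O := hU.fromSpec ⁻¹ᵁ W) _ _ fun x => ?_
  show cval (hU.fromSpec.app W (X.presheaf.map (homOfLE hW).op g)) x •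
      tval (N := N) (O := hU.fromSpec ⁻¹ᵁ W) t x =
    g • tval (N := N) (O := hU.fromSpec ⁻¹ᵁ W) t x
  rw [fromSpec_app_val hU hW g x]
  exact IsScalarTower.algebraMap_smul (Localizations (↑Γ(X, U)) x.1) g _

lemma E_smul_self {U : X.Opens} (hU : IsAffineOpen U) (N : ModuleCat.{u} Γ(X, U))
    (g : Γ(X, U)) (t : Γ(E hU N, U)) :
    g • t = (show Γ(E hU N, U) from (g • (show (structureSheafInType Γ(X, U) N).obj.obj
        (op (hU.fromSpec ⁻¹ᵁ U)) from t))) := by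
  have e : X.presheaf.map (homOfLE (le_refl U)).op g = g := by
    change X.presheaf.map (𝟙 _) g = g
    rw [X.presheaf.map_id]; rfl
  have := E_smul hU N (le_refl U) g t
  rwa [e] at this

lemma E_surj {U : X.Opens} (hU : IsAffineOpen U) (N : ModuleCat.{u} Γ(X, U)) (a : Γ(X, U))
    (t : Γ(E hU N, X.basicOpen a)) :
    ∃ (k : ℕ) (n : N), (X.presheaf.map (homOfLE (X.basicOpen_le a)).op a) ^ k • t =
      tO N (hU.fromSpec ⁻¹ᵁ X.basicOpen a) n := by
  obtain ⟨k, n, hk⟩ := sec_surj_of_eq (N := N) a (hU.fromSpec ⁻¹ᵁ X.basicOpen a)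
    (hU.fromSpec_preimage_basicOpen a) t
  refine ⟨k, n, ?_⟩
  rw [← map_pow, E_smul hU N (X.basicOpen_le a) (a ^ k) t]
  exact hk

end EX

variable {X S : Scheme.{u}} (f : X ⟶ S) [IsAffineHom f] (M : AMod (RelSpec.QCAlg.directImage f))

/-- sections of `M` over `U` as a module over the functions on `f⁻¹U`. -/
noncomputable def NU (U : S.Opens) : ModuleCat.{u} Γ(X, f ⁻¹ᵁ U) :=
  @ModuleCat.of Γ(X, f ⁻¹ᵁ U) _ (M.val.obj (op U)) _
    (inferInstanceAs (Module ((AMod.ringSheaf (RelSpec.QCAlg.directImage f)).obj.obj (op U))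
      (M.val.obj (op U))))

/-- restriction maps of `M`, as semilinear maps. -/
noncomputable def rM {U V : S.Opens} (h : V ≤ U) :
    NU f M U →ₛₗ[(X.presheaf.map (homOfLE (f.preimage_mono h)).op).hom] NU f M V where
  toFun n := M.val.map (homOfLE h).op n
  map_add' a b := map_add _ a b
  map_smul' c n := PresheafOfModules.map_smul M.val (homOfLE h).op c n

lemma rM_self {U : S.Opens} (h : U ≤ U) (n : NU f M U) : rM f M h n = n :=
  res_self ((AMod.toOS (RelSpec.QCAlg.directImage f)).obj M) h n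

lemma rM_rM {U V W : S.Opens} (h : V ≤ U) (h' : W ≤ V) (n : NU f M U) :
    rM f M h' (rM f M h n) = rM f M (h'.trans h) n :=
  res_res ((AMod.toOS (RelSpec.QCAlg.directImage f)).obj M) h h' n

lemma app_res_fn {U V : S.Opens} (h : V ≤ U) (r₀ : Γ(S, U)) :
    (f.app V).hom (S.presheaf.map (homOfLE h).op r₀) =
      (X.presheaf.map (homOfLE (f.preimage_mono h)).op).hom ((f.app U).hom r₀) := by
  have nat := f.naturality (homOfLE h).op
  exact congr($nat r₀)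

section qc
variable (hM : Coh.IsQCoh ((AMod.toOS (RelSpec.QCAlg.directImage f)).obj M))
include hM

lemma rM_surj {U : S.Opens} (hU : IsAffineOpen U) (r₀ : Γ(S, U))
    (n' : NU f M (S.basicOpen r₀)) :
    ∃ (k : ℕ) (n : NU f M U), rM f M (S.basicOpen_le r₀) n =
      ((X.presheaf.map (homOfLE (f.preimage_mono (S.basicOpen_le r₀))).op).hom
        ((f.app U).hom r₀)) ^ k • n' := by
  haveI : ((AMod.toOS (RelSpec.QCAlg.directImage f)).obj M).IsQuasicoherent := hM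
  obtain ⟨k, s, hs⟩ := affine_surj ((AMod.toOS (RelSpec.QCAlg.directImage f)).obj M) hU r₀ n'
  refine ⟨k, s, ?_⟩
  rw [← app_res_fn f (S.basicOpen_le r₀) r₀, ← map_pow]
  exact hs

lemma rM_ker {U : S.Opens} (hU : IsAffineOpen U) (r₀ : Γ(S, U)) (n : NU f M U)
    (hn : rM f M (S.basicOpen_le r₀) n = 0) : ∃ k : ℕ, ((f.app U).hom r₀) ^ k • n = 0 := by
  haveI : ((AMod.toOS (RelSpec.QCAlg.directImage f)).obj M).IsQuasicoherent := hM
  obtain ⟨k, hk⟩ := affine_inj ((AMod.toOS (RelSpec.QCAlg.directImage f)).obj M) hU r₀ n hn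
  refine ⟨k, ?_⟩
  rw [← map_pow]
  exact hk

end qc

/-- the transition morphisms. -/
noncomputable def β {V U : S.AffineZariskiSite} (i : V ⟶ U) :
    E (U.2.preimage f) (NU f M U.1) ⟶ E (V.2.preimage f) (NU f M V.1) :=
  trans (U.2.preimage f) (V.2.preimage f)
    (f.preimage_mono (Scheme.AffineZariskiSite.toOpens_mono i.le))
    (rM f M (Scheme.AffineZariskiSite.toOpens_mono i.le))

lemma β_id (U : S.AffineZariskiSite) : β f M (𝟙 U) = 𝟙 _ :=
  trans_eq_id _ _ _ (fun n => rM_self f M _ n)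

lemma β_comp {V' V U : S.AffineZariskiSite} (c : V' ⟶ V) (b : V ⟶ U) :
    β f M (c ≫ b) = β f M b ≫ β f M c :=
  trans_comp _ _ _ _ _ _ _ _ (fun n => (rM_rM f M _ _ n).symm)

/-- the diagram of extended modules. -/
noncomputable def D : (S.AffineZariskiSite)ᵒᵖ ⥤ X.Modules where
  obj U := E (U.unop.2.preimage f) (NU f M U.unop.1)
  map i := β f M i.unop
  map_id U := β_id f M U.unop
  map_comp i j := β_comp f M j.unop i.unop

lemma D_ext (U : S.AffineZariskiSite) (W W' : X.Opens) (h : W' ≤ W)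
    (hle : W ⊓ f ⁻¹ᵁ U.1 ≤ W') :
    Function.Bijective (((D f M).obj (op U)).presheaf.map (homOfLE h).op) :=
  E_ext _ _ W W' h hle

section qc2
variable (hM : Coh.IsQCoh ((AMod.toOS (RelSpec.QCAlg.directImage f)).obj M))
include hM

lemma β_bij {V U : S.AffineZariskiSite} (i : V ⟶ U) (W : X.Opens) (hW : W ≤ f ⁻¹ᵁ V.1) :
    Function.Bijective ((β f M i).app W) := by
  obtain ⟨V1, hV⟩ := V
  obtain ⟨U1, hU⟩ := U
  obtain ⟨r₀, hr₀⟩ := i.le
  change S.basicOpen r₀ = V1 at hr₀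
  subst hr₀
  have hVa : f ⁻¹ᵁ S.basicOpen r₀ = X.basicOpen ((f.app U1).hom r₀) :=
    Scheme.preimage_basicOpen f r₀
  refine bijective_of_basis (β f M i) (f ⁻¹ᵁ S.basicOpen r₀)
    {B | ∃ h : Γ(X, f ⁻¹ᵁ U1), B = X.basicOpen h ∧ B ≤ f ⁻¹ᵁ S.basicOpen r₀} ?_ ?_ W hW
  · intro W' hW' x hx
    have hxU : x ∈ f ⁻¹ᵁ U1 := f.preimage_mono (S.basicOpen_le r₀) (hW' hx)
    obtain ⟨h, hle, hxh⟩ := (hU.preimage f).exists_basicOpen_le ⟨x, hx⟩ hxU
    exact ⟨X.basicOpen h, ⟨h, rfl, hle.trans hW'⟩, hxh, hle⟩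
  · rintro B ⟨h, rfl, hB⟩
    have hBa : X.basicOpen h ≤ X.basicOpen ((f.app U1).hom r₀) := hVa ▸ hB
    have hDh : (hU.preimage f).fromSpec ⁻¹ᵁ X.basicOpen h = PrimeSpectrum.basicOpen h :=
      (hU.preimage f).fromSpec_preimage_basicOpen h
    have hDa : (hU.preimage f).fromSpec ⁻¹ᵁ X.basicOpen ((f.app U1).hom r₀) =
        PrimeSpectrum.basicOpen ((f.app U1).hom r₀) :=
      (hU.preimage f).fromSpec_preimage_basicOpen _
    have hle : PrimeSpectrum.basicOpen h ≤ PrimeSpectrum.basicOpen ((f.app U1).hom r₀) := by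
      rw [← hDh, ← hDa]; exact (hU.preimage f).fromSpec.preimage_mono hBa
    obtain ⟨m₀, hm₀⟩ := Ideal.mem_radical_iff.mp
      ((PrimeSpectrum.basicOpen_le_basicOpen_iff h ((f.app U1).hom r₀)).mp hle)
    obtain ⟨c, hc⟩ := Ideal.mem_span_singleton'.mp hm₀
    unfold β
    refine trans_bijective_of _ _ _ _ (X.basicOpen h) ?_
    refine comapₗ_bijective (rM f M _) ((f.app U1).hom r₀) h m₀ c (by rw [← hc, mul_comm])
      ?_ ?_ _ _ hDh ?_ _
    · intro n'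
      exact rM_surj f M hM hU r₀ n'
    · intro n hn
      exact rM_ker f M hM hU r₀ n hn
    · have e : X.basicOpen h = X.basicOpen
          ((X.presheaf.map (homOfLE (f.preimage_mono (S.basicOpen_le r₀))).op) h) := by
        rw [Scheme.basicOpen_res]; exact (inf_eq_right.mpr hB).symm
      rw [e]
      exact (hV.preimage f).fromSpec_preimage_basicOpen _

lemma π_bij (U : S.AffineZariskiSite) (W : X.Opens) (hW : W ≤ f ⁻¹ᵁ U.1) :
    Function.Bijective ((limit.π (D f M) (op U)).app W) :=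
  limit_π_bijective f (D f M) (fun i W hW => β_bij f M hM i W hW)
    (fun U W W' h hle => D_ext f M U W W' h hle) U W hW

lemma F_surj (U : S.AffineZariskiSite) (a : Γ(X, f ⁻¹ᵁ U.1))
    (t : Γ(limit (D f M), X.basicOpen a)) :
    ∃ (k : ℕ) (s : Γ(limit (D f M), f ⁻¹ᵁ U.1)),
      (limit (D f M)).presheaf.map (homOfLE (X.basicOpen_le a)).op s =
        (X.presheaf.map (homOfLE (X.basicOpen_le a)).op a) ^ k • t := by
  have hb1 := π_bij f M hM U (f ⁻¹ᵁ U.1) le_rfl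
  have hb2 := π_bij f M hM U (X.basicOpen a) (X.basicOpen_le a)
  obtain ⟨k, n, hk⟩ := E_surj (U.2.preimage f) (NU f M U.1) a
    ((limit.π (D f M) (op U)).app _ t)
  obtain ⟨s, hs⟩ := hb1.2 (tO (NU f M U.1) ((U.2.preimage f).fromSpec ⁻¹ᵁ (f ⁻¹ᵁ U.1)) n)
  refine ⟨k, s, ?_⟩
  apply hb2.1
  rw [app_res, hs, Scheme.Modules.Hom.app_smul]
  exact hk.symm

lemma F_inj (U : S.AffineZariskiSite) (a : Γ(X, f ⁻¹ᵁ U.1))
    (s : Γ(limit (D f M), f ⁻¹ᵁ U.1))
    (hs : (limit (D f M)).presheaf.map (homOfLE (X.basicOpen_le a)).op s = 0) :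
    ∃ k : ℕ, a ^ k • s = 0 := by
  have hb1 := π_bij f M hM U (f ⁻¹ᵁ U.1) le_rfl
  obtain ⟨n, hn⟩ := (toOpenₗ_bijective_of_eq_top (N := NU f M U.1)
    ((U.2.preimage f).fromSpec ⁻¹ᵁ (f ⁻¹ᵁ U.1)) (U.2.preimage f).fromSpec_preimage_self).2
    ((limit.π (D f M) (op U)).app _ s)
  have h0 : toOpenₗ Γ(X, f ⁻¹ᵁ U.1) (NU f M U.1)
      ((U.2.preimage f).fromSpec ⁻¹ᵁ X.basicOpen a) n = 0 := by
    have h1 := app_res (limit.π (D f M) (op U)) (X.basicOpen_le a) s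
    rw [hs, map_zero] at h1
    have h2 : ((D f M).obj (op U)).presheaf.map (homOfLE (X.basicOpen_le a)).op
        ((limit.π (D f M) (op U)).app (f ⁻¹ᵁ U.1) s) =
        (show Γ((D f M).obj (op U), X.basicOpen a) from toOpenₗ Γ(X, f ⁻¹ᵁ U.1) (NU f M U.1)
          ((U.2.preimage f).fromSpec ⁻¹ᵁ X.basicOpen a) n) := by
      rw [← hn]; rfl
    exact (h2.symm.trans h1.symm)
  obtain ⟨k, hk⟩ := sec_zero_of_eq a _ ((U.2.preimage f).fromSpec_preimage_basicOpen a) n h0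
  refine ⟨k, hb1.1 ?_⟩
  rw [Scheme.Modules.Hom.app_smul, map_zero]
  refine (E_smul_self (U.2.preimage f) (NU f M U.1) (a ^ k) _).trans ?_
  show (a ^ k • (show (structureSheafInType Γ(X, f ⁻¹ᵁ U.1) (NU f M U.1)).obj.obj
    (op ((U.2.preimage f).fromSpec ⁻¹ᵁ (f ⁻¹ᵁ U.1))) from
      (limit.π (D f M) (op U)).app (f ⁻¹ᵁ U.1) s)) = 0
  rw [← hn, ← map_smul, hk, map_zero]

theorem F_qc : (limit (D f M)).IsQuasicoherent := by
  have hcov : IsOpenCover (fun U : S.AffineZariskiSite => f ⁻¹ᵁ U.1) := by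
    rw [IsOpenCover, eq_top_iff]
    intro x _
    obtain ⟨U, hU, hxU, -⟩ := exists_isAffineOpen_mem_and_subset (x := f.base x) (U := ⊤) trivial
    exact Opens.mem_iSup.mpr ⟨⟨U, hU⟩, hxU⟩
  exact Groth.Agent.H8.ProjTilde.qc_of_affine_localizing (limit (D f M))
    (fun U : S.AffineZariskiSite => f ⁻¹ᵁ U.1) (fun U => U.2.preimage f) hcov
    (fun U a t => F_surj f M hM U a t) (fun U a s hs => F_inj f M hM U a s hs)

/-- the comparison on affine opens. -/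
noncomputable def κ (U : S.AffineZariskiSite) (n : NU f M U.1) : Γ(limit (D f M), f ⁻¹ᵁ U.1) :=
  (Equiv.ofBijective _ (π_bij f M hM U (f ⁻¹ᵁ U.1) le_rfl)).symm
    (tO (NU f M U.1) ((U.2.preimage f).fromSpec ⁻¹ᵁ (f ⁻¹ᵁ U.1)) n)

lemma π_κ (U : S.AffineZariskiSite) (n : NU f M U.1) :
    (limit.π (D f M) (op U)).app (f ⁻¹ᵁ U.1) (κ f M hM U n) =
      tO (NU f M U.1) ((U.2.preimage f).fromSpec ⁻¹ᵁ (f ⁻¹ᵁ U.1)) n :=
  (Equiv.ofBijective _ (π_bij f M hM U (f ⁻¹ᵁ U.1) le_rfl)).apply_symm_apply _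

lemma κ_add (U : S.AffineZariskiSite) (n n' : NU f M U.1) :
    κ f M hM U (n + n') = κ f M hM U n + κ f M hM U n' := by
  apply (π_bij f M hM U (f ⁻¹ᵁ U.1) le_rfl).1
  rw [map_add, π_κ, π_κ, π_κ]
  exact map_add (toOpenₗ Γ(X, f ⁻¹ᵁ U.1) (NU f M U.1)
    ((U.2.preimage f).fromSpec ⁻¹ᵁ (f ⁻¹ᵁ U.1))) n n'

lemma κ_smul (U : S.AffineZariskiSite) (b : Γ(X, f ⁻¹ᵁ U.1)) (n : NU f M U.1) :
    κ f M hM U (b • n) = b • κ f M hM U n := by
  apply (π_bij f M hM U (f ⁻¹ᵁ U.1) le_rfl).1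
  rw [Scheme.Modules.Hom.app_smul, π_κ, π_κ]
  refine Eq.trans ?_ (E_smul_self (U.2.preimage f) (NU f M U.1) b _).symm
  exact map_smul (toOpenₗ Γ(X, f ⁻¹ᵁ U.1) (NU f M U.1)
    ((U.2.preimage f).fromSpec ⁻¹ᵁ (f ⁻¹ᵁ U.1))) b n

lemma κ_bij (U : S.AffineZariskiSite) : Function.Bijective (κ f M hM U) := by
  have h1 := toOpenₗ_bijective_of_eq_top (N := NU f M U.1)
    ((U.2.preimage f).fromSpec ⁻¹ᵁ (f ⁻¹ᵁ U.1)) (U.2.preimage f).fromSpec_preimage_self
  have hb := π_bij f M hM U (f ⁻¹ᵁ U.1) le_rfl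
  refine ⟨fun n n' h => ?_, fun x => ?_⟩
  · have h2 := congrArg ((limit.π (D f M) (op U)).app (f ⁻¹ᵁ U.1)) h
    rw [π_κ, π_κ] at h2
    exact h1.1 h2
  · obtain ⟨n, hn⟩ := h1.2 ((limit.π (D f M) (op U)).app (f ⁻¹ᵁ U.1) x)
    refine ⟨n, hb.1 ?_⟩
    rw [π_κ]
    exact hn

lemma κ_res {V U : S.AffineZariskiSite} (i : V ⟶ U) (n : NU f M U.1) :
    (limit (D f M)).presheaf.map
        (homOfLE (f.preimage_mono (Scheme.AffineZariskiSite.toOpens_mono i.le))).op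
        (κ f M hM U n) =
      κ f M hM V (rM f M (Scheme.AffineZariskiSite.toOpens_mono i.le) n) := by
  apply (π_bij f M hM V (f ⁻¹ᵁ V.1) le_rfl).1
  rw [π_κ, app_res]
  have h1 : (limit.π (D f M) (op V)).app (f ⁻¹ᵁ U.1) (κ f M hM U n) =
      (β f M i).app (f ⁻¹ᵁ U.1) ((limit.π (D f M) (op U)).app (f ⁻¹ᵁ U.1) (κ f M hM U n)) :=
    (π_map (D f M) (f ⁻¹ᵁ U.1) i.op (κ f M hM U n)).symm
  rw [h1, π_κ]
  unfold β
  rw [trans_tO]
  rfl

lemma κ_res' (U V : S.AffineZariskiSite) (h : V.1 ≤ U.1) (n : NU f M U.1) :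
    (limit (D f M)).presheaf.map (homOfLE (f.preimage_mono h)).op (κ f M hM U n) =
      κ f M hM V (rM f M h n) := by
  have hloc : ∀ y : V.1, ∃ (W : S.AffineZariskiSite) (_ : W ⟶ V) (_ : W ⟶ U), y.1 ∈ W.1 :=
    fun y => exists_refine V U y.1 y.2 (h y.2)
  choose Wy cV cU hy using hloc
  refine section_ext_of_cover (limit (D f M)) (fun y : V.1 => f ⁻¹ᵁ (Wy y).1)
    (fun y => f.preimage_mono (Scheme.AffineZariskiSite.toOpens_mono (cV y).le)) ?_ _ _
    fun y => ?_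
  · intro x hx
    exact Opens.mem_iSup.mpr ⟨⟨f.base x, hx⟩, hy ⟨f.base x, hx⟩⟩
  · refine (res_res _ _ _ _).trans ?_
    refine (κ_res f M hM (cU y) n).trans ?_
    refine Eq.trans ?_ (κ_res f M hM (cV y) (rM f M h n)).symm
    rw [rM_rM]

/-- the comparison as linear maps on affine opens. -/
noncomputable def κL (U : S.affineOpens) :
    Γ((AMod.toOS (RelSpec.QCAlg.directImage f)).obj M, U.1) →ₗ[Γ(S, U.1)]
      Γ((Scheme.Modules.pushforward f).obj (limit (D f M)), U.1) where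
  toFun n := κ f M hM ⟨U.1, U.2⟩ n
  map_add' n n' := κ_add f M hM ⟨U.1, U.2⟩ n n'
  map_smul' c n := κ_smul f M hM ⟨U.1, U.2⟩ ((f.app U.1).hom c) n

lemma κL_nat (U V : S.affineOpens) (h : V.1 ≤ U.1)
    (s : Γ((AMod.toOS (RelSpec.QCAlg.directImage f)).obj M, U.1)) :
    ((Scheme.Modules.pushforward f).obj (limit (D f M))).presheaf.map (homOfLE h).op
        (κL f M hM U s) =
      κL f M hM V (((AMod.toOS (RelSpec.QCAlg.directImage f)).obj M).presheaf.map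
        (homOfLE h).op s) :=
  κ_res' f M hM ⟨U.1, U.2⟩ ⟨V.1, V.2⟩ h s

/-- the comparison as a morphism of abelian presheaves. -/
noncomputable def pre :
    ((AMod.toOS (RelSpec.QCAlg.directImage f)).obj M).presheaf ⟶
      ((Scheme.Modules.pushforward f).obj (limit (D f M))).presheaf :=
  homOfAffinePre _ _ (κL f M hM) (κL_nat f M hM)

lemma pre_smul_aux (U : S.Opens) (b : Γ(X, f ⁻¹ᵁ U)) (m : NU f M U) :
    (pre f M hM).app (op U) (b • m) =
      (b • (show Γ(limit (D f M), f ⁻¹ᵁ U) from (pre f M hM).app (op U) m) :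
        Γ(limit (D f M), f ⁻¹ᵁ U)) := by
  refine section_ext_of_cover (limit (D f M))
    (fun V : {V : S.affineOpens // V.1 ≤ U} => f ⁻¹ᵁ V.1.1) (fun V => f.preimage_mono V.2) ?_ _ _
    fun V => ?_
  · intro x hx
    obtain ⟨V, hV, hxV, hVU⟩ := exists_isAffineOpen_mem_and_subset (x := f.base x) (U := U) hx
    exact Opens.mem_iSup.mpr ⟨⟨⟨V, hV⟩, hVU⟩, hxV⟩
  · have e1 : ∀ m' : NU f M U, (limit (D f M)).presheaf.map
        (homOfLE (f.preimage_mono V.2)).op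
          (show Γ(limit (D f M), f ⁻¹ᵁ U) from (pre f M hM).app (op U) m') =
        κ f M hM ⟨V.1.1, V.1.2⟩ (rM f M V.2 m') := by
      intro m'
      have h1 := homOfAffinePre_res ((AMod.toOS (RelSpec.QCAlg.directImage f)).obj M)
        ((Scheme.Modules.pushforward f).obj (limit (D f M))) (pre f M hM) V.2 m'
      refine h1.trans ?_
      exact homOfAffinePre_app _ _ (κL f M hM) (κL_nat f M hM) V.1 _
    rw [e1, Scheme.Modules.map_smul, e1]
    have e2 : rM f M V.2 (b • m) =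
        (X.presheaf.map (homOfLE (f.preimage_mono V.2)).op).hom b • rM f M V.2 m :=
      (rM f M V.2).map_smulₛₗ b m
    rw [e2]
    exact κ_smul f M hM _ _ _

/-- the comparison morphism. -/
noncomputable def θ : M ⟶ (AMod.dirImg f).obj (limit (D f M)) :=
  ⟨PresheafOfModules.homMk (pre f M hM) (fun Y b m => pre_smul_aux f M hM Y.unop b m)⟩

theorem θ_iso : IsIso (θ f M hM) := by
  apply isIso_of_isIso_toOS
  apply isIso_of_bijective_affine
  intro U
  have e : ∀ s, ((AMod.toOS (RelSpec.QCAlg.directImage f)).map (θ f M hM)).app U.1 s =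
      κ f M hM ⟨U.1, U.2⟩ s := fun s =>
    homOfAffinePre_app _ _ (κL f M hM) (κL_nat f M hM) U s
  have hb := κ_bij f M hM ⟨U.1, U.2⟩
  refine ⟨fun s s' h => hb.1 ?_, fun x => ?_⟩
  · rw [← e, ← e]; exact h
  · obtain ⟨s, hs⟩ := hb.2 x
    exact ⟨s, (e s).trans hs⟩

end qc2

theorem main_S8301 {X S : Scheme.{u}} (f : X ⟶ S) [IsAffineHom f]
    (M : AMod (RelSpec.QCAlg.directImage f))
    (hM : Coh.IsQCoh ((AMod.toOS (RelSpec.QCAlg.directImage f)).obj M)) :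
    ∃ F : X.Modules, Coh.IsQCoh F ∧ Nonempty ((AMod.dirImg f).obj F ≅ M) := by
  have := θ_iso f M hM
  exact ⟨limit (D f M), F_qc f M hM, ⟨(asIso (θ f M hM)).symm⟩⟩

end Groth.Agent.H4.DirImgEss
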