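import Mathlib
import Groth.Agent.Lib.Lead.QC.Push
import Groth.Agent.Lib.Lead.QC.InvBasis
import Groth.Agent.Lib.Lead.QC.SheafIso
import Groth.Agent.Lib.Lead.QC.HomAffine
import Groth.Agent.Lib.Lead.QC.AModT
import Groth.Prelude.Def_RelSpec2

universe u
open CategoryTheory Limits AlgebraicGeometry TopologicalSpace Opposite
open Groth.Agent.LD.QC

namespace Groth.Agent.H4.DirImgFF

/-! ## an algebraic lemma: extending a linear map to localizations, element-wise -/

theorem exists_loc_map {R R' : Type*} [CommRing R] [CommRing R'] (ρ : R →+* R') (a : R)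
    {M N M' N' : Type*} [AddCommGroup M] [AddCommGroup N] [AddCommGroup M'] [AddCommGroup N']
    [Module R M] [Module R N] [Module R' M'] [Module R' N']
    (rM : M →+ M') (rN : N →+ N')
    (hrM : ∀ (r : R) (m : M), rM (r • m) = ρ r • rM m)
    (hrN : ∀ (r : R) (m : N), rN (r • m) = ρ r • rN m)
    (hu : IsUnit (ρ a))
    (hs : ∀ x : M', ∃ (n : ℕ) (m : M), rM m = ρ a ^ n • x)
    (hi : ∀ m : M, rM m = 0 → ∃ k : ℕ, a ^ k • m = 0)
    (hR : ∀ r' : R', ∃ (n : ℕ) (r : R), ρ r = ρ a ^ n * r')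
    (θ : M →+ N) (hθ : ∀ (r : R) (m : M), θ (r • m) = r • θ m) :
    ∃ l : M' →+ N', (∀ (r' : R') (x : M'), l (r' • x) = r' • l x) ∧
      ∀ m, l (rM m) = rN (θ m) := by
  obtain ⟨u, hu'⟩ := hu
  rw [← hu'] at hs hR
  have hbk : ∀ k : ℕ, ρ (a ^ k) = (u : R') ^ k := fun k => by rw [map_pow, hu']
  have hc : ∀ (k : ℕ) (y y' : N'), (u : R') ^ k • y = (u : R') ^ k • y' → y = y' :=
    fun k y y' h => ((u.isUnit.pow k).smul_left_cancel).mp h
  choose n m hnm using hs
  have hex : ∀ x : M', ∃ y : N', (u : R') ^ n x • y = rN (θ (m x)) := by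
    intro x
    refine ⟨((u⁻¹ ^ n x : R'ˣ) : R') • rN (θ (m x)), ?_⟩
    rw [smul_smul, ← Units.val_pow_eq_pow_val, ← Units.val_mul, ← mul_pow, mul_inv_cancel,
      one_pow, Units.val_one, one_smul]
  choose l₀ hA using hex
  have hK : ∀ (x : M') (k : ℕ) (m₁ : M), rM m₁ = (u : R') ^ k • x →
      (u : R') ^ k • l₀ x = rN (θ m₁) := by
    intro x k m₁ h
    have h0 : rM (a ^ n x • m₁ - a ^ k • m x) = 0 := by
      rw [map_sub, hrM, hrM, hbk, hbk, h, hnm x, smul_smul, smul_smul, mul_comm, sub_self]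
    obtain ⟨p, hp⟩ := hi _ h0
    have h1 : rN (θ (a ^ p • (a ^ n x • m₁ - a ^ k • m x))) = 0 := by
      rw [hp, map_zero, map_zero]
    rw [hθ, hrN, map_sub, hθ, hθ, map_sub, hrN, hrN, hbk, hbk, hbk] at h1
    have h2 := sub_eq_zero.mp ((u.isUnit.pow p).smul_eq_zero.mp h1)
    apply hc (n x)
    rw [h2, ← hA x]
    exact smul_comm _ _ _
  have hadd : ∀ x y, l₀ (x + y) = l₀ x + l₀ y := by
    intro x y
    apply hc (n x + n y)
    have h1 : rM (a ^ n y • m x + a ^ n x • m y) = (u : R') ^ (n x + n y) • (x + y) := by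
      rw [map_add, hrM, hrM, hbk, hbk, hnm x, hnm y]
      module
    rw [hK _ _ _ h1, map_add, map_add, hθ, hθ, hrN, hrN, hbk, hbk, ← hA x, ← hA y]
    module
  have hsmul : ∀ (r' : R') (x : M'), l₀ (r' • x) = r' • l₀ x := by
    intro r' x
    obtain ⟨k, r, hr⟩ := hR r'
    apply hc (k + n x)
    have h1 : rM (r • m x) = (u : R') ^ (k + n x) • (r' • x) := by
      rw [hrM, hr, hnm x]
      module
    rw [hK _ _ _ h1, hθ, hrN, hr, ← hA x]
    module
  have hres : ∀ m₁ : M, l₀ (rM m₁) = rN (θ m₁) := by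
    intro m₁
    have := hK (rM m₁) 0 m₁ (by rw [pow_zero, one_smul])
    rwa [pow_zero, one_smul] at this
  exact ⟨AddMonoidHom.mk' l₀ hadd, fun r' x => hsmul r' x, fun m₁ => hres m₁⟩

/-! ## gluing morphisms of modules from a basis of opens -/

section Basis
variable {X : Scheme.{u}} (F G : X.Modules) {ι : Type*} (B : ι → X.Opens)

noncomputable def basisNatTrans
    (φ : ∀ i, Γ(F, B i) →+ Γ(G, B i))
    (nat : ∀ (i j : ι) (h : B j ≤ B i) (s : Γ(F, B i)),
      G.presheaf.map (homOfLE h).op (φ i s) = φ j (F.presheaf.map (homOfLE h).op s)) :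
    (inducedFunctor B).op ⋙ F.presheaf ⟶ (inducedFunctor B).op ⋙ G.presheaf where
  app i := AddCommGrpCat.ofHom (φ i.unop)
  naturality i j g := by
    ext s
    exact (nat i.unop j.unop (leOfHom ((inducedFunctor B).map g.unop)) s).symm

noncomputable def homOfBasisPre (hB : Opens.IsBasis (Set.range B))
    (φ : ∀ i, Γ(F, B i) →+ Γ(G, B i))
    (nat : ∀ (i j : ι) (h : B j ≤ B i) (s : Γ(F, B i)),
      G.presheaf.map (homOfLE h).op (φ i s) = φ j (F.presheaf.map (homOfLE h).op s)) :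
    F.presheaf ⟶ G.presheaf :=
  TopCat.Sheaf.restrictHomEquivHom F.presheaf ⟨G.presheaf, G.isSheaf⟩ (B := B) hB
    (basisNatTrans F G B φ nat)

lemma homOfBasisPre_app (hB : Opens.IsBasis (Set.range B))
    (φ : ∀ i, Γ(F, B i) →+ Γ(G, B i))
    (nat : ∀ (i j : ι) (h : B j ≤ B i) (s : Γ(F, B i)),
      G.presheaf.map (homOfLE h).op (φ i s) = φ j (F.presheaf.map (homOfLE h).op s))
    (i : ι) (s : Γ(F, B i)) :
    (homOfBasisPre F G B hB φ nat).app (op (B i)) s = φ i s := by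
  have h := TopCat.Sheaf.extend_hom_app F.presheaf ⟨G.presheaf, G.isSheaf⟩ (B := B) hB
    (basisNatTrans F G B φ nat) i
  exact congr($h s)

lemma le_iSup_basis (hB : Opens.IsBasis (Set.range B)) (U : X.Opens) :
    U ≤ ⨆ i : {i : ι // B i ≤ U}, B i.1 := by
  intro x hx
  obtain ⟨V, ⟨i, rfl⟩, hxV, hVU⟩ := Opens.isBasis_iff_nbhd.mp hB hx
  exact Opens.mem_iSup.mpr ⟨⟨i, hVU⟩, hxV⟩

lemma homOfBasisPre_smul (hB : Opens.IsBasis (Set.range B))
    (φ : ∀ i, Γ(F, B i) →+ Γ(G, B i))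
    (nat : ∀ (i j : ι) (h : B j ≤ B i) (s : Γ(F, B i)),
      G.presheaf.map (homOfLE h).op (φ i s) = φ j (F.presheaf.map (homOfLE h).op s))
    (lin : ∀ (i : ι) (r : Γ(X, B i)) (m : Γ(F, B i)), φ i (r • m) = r • φ i m)
    (U : X.Opens) (r : Γ(X, U)) (m : Γ(F, U)) :
    (homOfBasisPre F G B hB φ nat).app (op U) (r • m) =
      r • (homOfBasisPre F G B hB φ nat).app (op U) m := by
  apply section_ext_of_cover G (fun V : {i : ι // B i ≤ U} => B V.1)
    (fun V => V.2) (le_iSup_basis B hB U)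
  intro V
  rw [homOfAffinePre_res, Scheme.Modules.map_smul, Scheme.Modules.map_smul, homOfAffinePre_res,
    homOfBasisPre_app, homOfBasisPre_app, lin]

noncomputable def homOfBasis (hB : Opens.IsBasis (Set.range B))
    (φ : ∀ i, Γ(F, B i) →+ Γ(G, B i))
    (nat : ∀ (i j : ι) (h : B j ≤ B i) (s : Γ(F, B i)),
      G.presheaf.map (homOfLE h).op (φ i s) = φ j (F.presheaf.map (homOfLE h).op s))
    (lin : ∀ (i : ι) (r : Γ(X, B i)) (m : Γ(F, B i)), φ i (r • m) = r • φ i m) :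
    F ⟶ G :=
  ⟨PresheafOfModules.homMk (homOfBasisPre F G B hB φ nat)
    (fun U r m => homOfBasisPre_smul F G B hB φ nat lin U.unop r m)⟩

lemma homOfBasis_app (hB : Opens.IsBasis (Set.range B))
    (φ : ∀ i, Γ(F, B i) →+ Γ(G, B i))
    (nat : ∀ (i j : ι) (h : B j ≤ B i) (s : Γ(F, B i)),
      G.presheaf.map (homOfLE h).op (φ i s) = φ j (F.presheaf.map (homOfLE h).op s))
    (lin : ∀ (i : ι) (r : Γ(X, B i)) (m : Γ(F, B i)), φ i (r • m) = r • φ i m)
    (i : ι) (s : Γ(F, B i)) :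
    (homOfBasis F G B hB φ nat lin).app (B i) s = φ i s :=
  homOfBasisPre_app F G B hB φ nat i s

end Basis

/-! ## basic facts on sections over basic opens -/

section Sec
variable {X : Scheme.{u}}

lemma sres_self {U : X.Opens} (h : U ≤ U) (r : Γ(X, U)) :
    X.presheaf.map (homOfLE h).op r = r := by
  have : (homOfLE h).op = 𝟙 (op U) := rfl
  rw [this, X.presheaf.map_id]
  rfl

theorem exists_num {W : X.Opens} (hW : IsAffineOpen W) (a : Γ(X, W))
    (r' : Γ(X, X.basicOpen a)) :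
    ∃ (n : ℕ) (r : Γ(X, W)), X.presheaf.map (homOfLE (X.basicOpen_le a)).op r =
      (X.presheaf.map (homOfLE (X.basicOpen_le a)).op a) ^ n * r' := by
  have hloc := hW.isLocalization_basicOpen a
  obtain ⟨⟨r, s⟩, hrs⟩ := IsLocalization.surj (Submonoid.powers a) r'
  obtain ⟨n, hn⟩ := (Submonoid.mem_powers_iff _ _).mp s.2
  refine ⟨n, r, ?_⟩
  have h1 : algebraMap Γ(X, W) Γ(X, X.basicOpen a) r =
      algebraMap Γ(X, W) Γ(X, X.basicOpen a) a ^ n * r' := by
    rw [← map_pow, hn, mul_comm]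
    exact hrs.symm
  exact h1

theorem ul {F G : X.Modules} [F.IsQuasicoherent] {W : X.Opens} (hW : IsAffineOpen W)
    (a : Γ(X, W)) {D' : X.Opens} (hD' : D' ≤ X.basicOpen a)
    (α β : Γ(F, X.basicOpen a) →+ Γ(G, D'))
    (hα : ∀ (r : Γ(X, X.basicOpen a)) (x : Γ(F, X.basicOpen a)),
      α (r • x) = X.presheaf.map (homOfLE hD').op r • α x)
    (hβ : ∀ (r : Γ(X, X.basicOpen a)) (x : Γ(F, X.basicOpen a)),
      β (r • x) = X.presheaf.map (homOfLE hD').op r • β x)
    (hαβ : ∀ m : Γ(F, W), α (F.presheaf.map (homOfLE (X.basicOpen_le a)).op m) =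
      β (F.presheaf.map (homOfLE (X.basicOpen_le a)).op m)) :
    α = β := by
  ext x
  obtain ⟨n, m, hm⟩ := affine_surj F hW a x
  have h1 := hαβ m
  rw [hm, hα, hβ] at h1
  have hu0 : IsUnit (X.presheaf.map (homOfLE (X.basicOpen_le a)).op a) :=
    RingedSpace.isUnit_res_basicOpen _ a
  have hu : IsUnit (X.presheaf.map (homOfLE hD').op
      ((X.presheaf.map (homOfLE (X.basicOpen_le a)).op a) ^ n)) :=
    (hu0.pow n).map (X.presheaf.map (homOfLE hD').op).hom
  exact hu.smul_left_cancel.mp h1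

end Sec

/-! ## the data of a homomorphism of direct images -/

section Push
variable {X S : Scheme.{u}}

structure PushData (f : X ⟶ S) (F G : X.Modules) where
  app : ∀ U : S.Opens, Γ(F, f ⁻¹ᵁ U) →+ Γ(G, f ⁻¹ᵁ U)
  smul : ∀ (U : S.Opens) (r : Γ(X, f ⁻¹ᵁ U)) (m : Γ(F, f ⁻¹ᵁ U)), app U (r • m) = r • app U m
  res : ∀ (U V : S.Opens) (h : V ≤ U) (m : Γ(F, f ⁻¹ᵁ U)),
    G.presheaf.map (homOfLE (f.preimage_mono h)).op (app U m) =
      app V (F.presheaf.map (homOfLE (f.preimage_mono h)).op m)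

structure BIdx (f : X ⟶ S) where
  U : S.Opens
  hU : IsAffineOpen U
  a : Γ(X, f ⁻¹ᵁ U)

abbrev BIdx.D {f : X ⟶ S} (i : BIdx f) : X.Opens := X.basicOpen i.a

structure LocIdx (f : X ⟶ S) (U U' : S.Opens) (D : X.Opens) where
  W : S.Opens
  hW : IsAffineOpen W
  hWU : W ≤ U
  hWU' : W ≤ U'
  a : Γ(X, f ⁻¹ᵁ W)
  ha : X.basicOpen a ≤ D

variable {f : X ⟶ S} [IsAffineHom f] {F G : X.Modules} [F.IsQuasicoherent] [G.IsQuasicoherent]

theorem isBasis_BIdx (f : X ⟶ S) [IsAffineHom f] :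
    Opens.IsBasis (Set.range (fun i : BIdx f => i.D)) := by
  rw [Opens.isBasis_iff_nbhd]
  intro V x hxV
  obtain ⟨U, hU, hxU, -⟩ := exists_isAffineOpen_mem_and_subset (x := f x) (U := ⊤) trivial
  have hW : IsAffineOpen (f ⁻¹ᵁ U) := hU.preimage f
  have hxW : x ∈ f ⁻¹ᵁ U := hxU
  obtain ⟨a, haV, hxa⟩ := hW.exists_basicOpen_le ⟨x, hxV⟩ hxW
  exact ⟨_, ⟨⟨U, hU, a⟩, rfl⟩, hxa, haV⟩

theorem loc_zero (T : PushData f F G) {U : S.Opens} (hU : IsAffineOpen U) (a : Γ(X, f ⁻¹ᵁ U))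
    (m : Γ(F, f ⁻¹ᵁ U)) (hm : F.presheaf.map (homOfLE (X.basicOpen_le a)).op m = 0) :
    G.presheaf.map (homOfLE (X.basicOpen_le a)).op (T.app U m) = 0 := by
  obtain ⟨k, hk⟩ := affine_inj F (hU.preimage f) a m hm
  have h1 : a ^ k • T.app U m = 0 := by rw [← T.smul, hk, map_zero]
  have h2 := congrArg (G.presheaf.map (homOfLE (X.basicOpen_le a)).op) h1
  rw [Scheme.Modules.map_smul, map_zero, map_pow] at h2
  have hu0 : IsUnit (X.presheaf.map (homOfLE (X.basicOpen_le a)).op a) :=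
    RingedSpace.isUnit_res_basicOpen _ a
  exact (hu0.pow k).smul_eq_zero.mp h2

theorem loc_eq (T : PushData f F G) {U U' : S.Opens} {D : X.Opens} (hD : D ≤ f ⁻¹ᵁ U)
    (hD' : D ≤ f ⁻¹ᵁ U') (m : Γ(F, f ⁻¹ᵁ U)) (m' : Γ(F, f ⁻¹ᵁ U'))
    (hmm : F.presheaf.map (homOfLE hD).op m = F.presheaf.map (homOfLE hD').op m') :
    G.presheaf.map (homOfLE hD).op (T.app U m) = G.presheaf.map (homOfLE hD').op (T.app U' m') := by
  refine section_ext_of_cover G (fun i : LocIdx f U U' D => X.basicOpen i.a) (fun i => i.ha)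
    ?_ _ _ ?_
  · intro x hx
    have hfx : f x ∈ U ⊓ U' := Opens.mem_inf.mpr ⟨hD hx, hD' hx⟩
    obtain ⟨W, hW, hxW, hWUU'⟩ :=
      exists_isAffineOpen_mem_and_subset (x := f x) (U := U ⊓ U') hfx
    have hWle : W ≤ U ⊓ U' := hWUU'
    have hxW' : x ∈ f ⁻¹ᵁ W := hxW
    obtain ⟨a, haD, hxa⟩ := (hW.preimage f).exists_basicOpen_le ⟨x, hx⟩ hxW'
    exact Opens.mem_iSup.mpr
      ⟨⟨W, hW, le_trans hWle inf_le_left, le_trans hWle inf_le_right, a, haD⟩, hxa⟩
  · intro i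
    have hWU : f ⁻¹ᵁ i.W ≤ f ⁻¹ᵁ U := f.preimage_mono i.hWU
    have hWU' : f ⁻¹ᵁ i.W ≤ f ⁻¹ᵁ U' := f.preimage_mono i.hWU'
    have hb : X.basicOpen i.a ≤ f ⁻¹ᵁ i.W := X.basicOpen_le i.a
    have e1 : G.presheaf.map (homOfLE i.ha).op (G.presheaf.map (homOfLE hD).op (T.app U m)) =
        G.presheaf.map (homOfLE hb).op (T.app i.W (F.presheaf.map (homOfLE hWU).op m)) := by
      rw [← T.res U i.W i.hWU m, res_res, res_res]
    have e2 : G.presheaf.map (homOfLE i.ha).op (G.presheaf.map (homOfLE hD').op (T.app U' m')) =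
        G.presheaf.map (homOfLE hb).op (T.app i.W (F.presheaf.map (homOfLE hWU').op m')) := by
      rw [← T.res U' i.W i.hWU' m', res_res, res_res]
    rw [e1, e2]
    have e3 : F.presheaf.map (homOfLE hb).op (F.presheaf.map (homOfLE hWU).op m -
        F.presheaf.map (homOfLE hWU').op m') = 0 := by
      rw [map_sub, res_res, res_res, sub_eq_zero]
      have := congrArg (F.presheaf.map (homOfLE i.ha).op) hmm
      rwa [res_res, res_res] at this
    have e4 := loc_zero T i.hW i.a _ e3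
    rw [map_sub, map_sub, sub_eq_zero] at e4
    exact e4

theorem exists_lam (T : PushData f F G) (i : BIdx f) : ∃ l : Γ(F, i.D) →+ Γ(G, i.D),
    (∀ (r' : Γ(X, i.D)) (x : Γ(F, i.D)), l (r' • x) = r' • l x) ∧
    ∀ m : Γ(F, f ⁻¹ᵁ i.U), l (F.presheaf.map (homOfLE (X.basicOpen_le i.a)).op m) =
      G.presheaf.map (homOfLE (X.basicOpen_le i.a)).op (T.app i.U m) := by
  have hu0 : IsUnit (X.presheaf.map (homOfLE (X.basicOpen_le i.a)).op i.a) :=
    RingedSpace.isUnit_res_basicOpen _ i.a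
  exact exists_loc_map (ρ := (X.presheaf.map (homOfLE (X.basicOpen_le i.a)).op).hom) (a := i.a)
    (rM := (F.presheaf.map (homOfLE (X.basicOpen_le i.a)).op).hom)
    (rN := (G.presheaf.map (homOfLE (X.basicOpen_le i.a)).op).hom)
    (fun r m => Scheme.Modules.map_smul F (homOfLE (X.basicOpen_le i.a)) r m)
    (fun r m => Scheme.Modules.map_smul G (homOfLE (X.basicOpen_le i.a)) r m)
    hu0 (affine_surj F (i.hU.preimage f) i.a) (affine_inj F (i.hU.preimage f) i.a)
    (exists_num (i.hU.preimage f) i.a) (T.app i.U) (T.smul i.U)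

noncomputable def lam (T : PushData f F G) (i : BIdx f) : Γ(F, i.D) →+ Γ(G, i.D) :=
  (exists_lam T i).choose

theorem lam_smul (T : PushData f F G) (i : BIdx f) (r' : Γ(X, i.D)) (x : Γ(F, i.D)) :
    lam T i (r' • x) = r' • lam T i x := (exists_lam T i).choose_spec.1 r' x

theorem lam_res (T : PushData f F G) (i : BIdx f) (m : Γ(F, f ⁻¹ᵁ i.U)) :
    lam T i (F.presheaf.map (homOfLE (X.basicOpen_le i.a)).op m) =
      G.presheaf.map (homOfLE (X.basicOpen_le i.a)).op (T.app i.U m) :=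
  (exists_lam T i).choose_spec.2 m

theorem lam_loc (T : PushData f F G) (j : BIdx f) (U : S.Opens) (hDU : j.D ≤ f ⁻¹ᵁ U)
    (m : Γ(F, f ⁻¹ᵁ U)) :
    lam T j (F.presheaf.map (homOfLE hDU).op m) =
      G.presheaf.map (homOfLE hDU).op (T.app U m) := by
  obtain ⟨n, m', hm'⟩ := affine_surj F (j.hU.preimage f) j.a (F.presheaf.map (homOfLE hDU).op m)
  have hD2 : j.D ≤ f ⁻¹ᵁ (U ⊓ j.U) :=
    (le_inf hDU (X.basicOpen_le j.a) : j.D ≤ f ⁻¹ᵁ U ⊓ f ⁻¹ᵁ j.U)
  have hUU : U ⊓ j.U ≤ U := inf_le_left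
  have hUj : U ⊓ j.U ≤ j.U := inf_le_right
  have h1 : F.presheaf.map (homOfLE hD2).op
      ((X.presheaf.map (homOfLE (f.preimage_mono hUj)).op j.a) ^ n •
        F.presheaf.map (homOfLE (f.preimage_mono hUU)).op m) =
      F.presheaf.map (homOfLE (X.basicOpen_le j.a)).op m' := by
    rw [hm', Scheme.Modules.map_smul, map_pow, sres_res, res_res]
  have h2 := loc_eq T hD2 (X.basicOpen_le j.a) _ m' h1
  have h3 : G.presheaf.map (homOfLE hD2).op (T.app (U ⊓ j.U)
      ((X.presheaf.map (homOfLE (f.preimage_mono hUj)).op j.a) ^ n •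
        F.presheaf.map (homOfLE (f.preimage_mono hUU)).op m)) =
      (X.presheaf.map (homOfLE (X.basicOpen_le j.a)).op j.a) ^ n •
        G.presheaf.map (homOfLE hDU).op (T.app U m) := by
    rw [T.smul, Scheme.Modules.map_smul, map_pow, sres_res, ← T.res U (U ⊓ j.U) hUU m, res_res]
  have h4 : lam T j ((X.presheaf.map (homOfLE (X.basicOpen_le j.a)).op j.a) ^ n •
      F.presheaf.map (homOfLE hDU).op m) =
      (X.presheaf.map (homOfLE (X.basicOpen_le j.a)).op j.a) ^ n •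
        lam T j (F.presheaf.map (homOfLE hDU).op m) := lam_smul T j _ _
  have h5 : lam T j ((X.presheaf.map (homOfLE (X.basicOpen_le j.a)).op j.a) ^ n •
      F.presheaf.map (homOfLE hDU).op m) =
      G.presheaf.map (homOfLE (X.basicOpen_le j.a)).op (T.app j.U m') := by
    rw [← hm', lam_res]
  have hu0 : IsUnit (X.presheaf.map (homOfLE (X.basicOpen_le j.a)).op j.a) :=
    RingedSpace.isUnit_res_basicOpen _ j.a
  apply (hu0.pow n).smul_left_cancel.mp
  rw [← h4, h5, ← h2, h3]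

theorem lam_nat (T : PushData f F G) (i j : BIdx f) (h : j.D ≤ i.D) (s : Γ(F, i.D)) :
    G.presheaf.map (homOfLE h).op (lam T i s) = lam T j (F.presheaf.map (homOfLE h).op s) := by
  have hα : ∀ (r : Γ(X, X.basicOpen i.a)) (x : Γ(F, X.basicOpen i.a)),
      G.presheaf.map (homOfLE h).op (lam T i (r • x)) =
        X.presheaf.map (homOfLE h).op r • G.presheaf.map (homOfLE h).op (lam T i x) := by
    intro r x
    rw [lam_smul, Scheme.Modules.map_smul]
  have hβ : ∀ (r : Γ(X, X.basicOpen i.a)) (x : Γ(F, X.basicOpen i.a)),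
      lam T j (F.presheaf.map (homOfLE h).op (r • x)) =
        X.presheaf.map (homOfLE h).op r • lam T j (F.presheaf.map (homOfLE h).op x) := by
    intro r x
    rw [Scheme.Modules.map_smul, lam_smul]
  have hαβ : ∀ m : Γ(F, f ⁻¹ᵁ i.U),
      G.presheaf.map (homOfLE h).op (lam T i (F.presheaf.map (homOfLE (X.basicOpen_le i.a)).op m)) =
      lam T j (F.presheaf.map (homOfLE h).op
        (F.presheaf.map (homOfLE (X.basicOpen_le i.a)).op m)) := by
    intro m
    rw [lam_res T i m, res_res, res_res, lam_loc T j i.U (h.trans (X.basicOpen_le i.a)) m]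
  exact DFunLike.congr_fun (ul (F := F) (G := G) (i.hU.preimage f) i.a h
    ((G.presheaf.map (homOfLE h).op).hom.comp (lam T i))
    ((lam T j).comp (F.presheaf.map (homOfLE h).op).hom) hα hβ hαβ) s

noncomputable def lift (T : PushData f F G) : F ⟶ G :=
  homOfBasis F G (fun i : BIdx f => i.D) (isBasis_BIdx f) (lam T)
    (fun i j h s => lam_nat T i j h s) (fun i r m => lam_smul T i r m)

theorem lift_app_basis (T : PushData f F G) (j : BIdx f) (s : Γ(F, j.D)) :
    (lift T).app j.D s = lam T j s :=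
  homOfBasis_app F G (fun i : BIdx f => i.D) (isBasis_BIdx f) (lam T)
    (fun i j h s => lam_nat T i j h s) (fun i r m => lam_smul T i r m) j s

theorem lift_app (T : PushData f F G) (U : S.Opens) (x : Γ(F, f ⁻¹ᵁ U)) :
    (lift T).app (f ⁻¹ᵁ U) x = T.app U x := by
  refine section_ext_of_cover G (fun j : {j : BIdx f // j.D ≤ f ⁻¹ᵁ U} => j.1.D) (fun j => j.2)
    (le_iSup_basis (fun i : BIdx f => i.D) (isBasis_BIdx f) (f ⁻¹ᵁ U)) _ _ ?_
  intro j
  rw [← app_res, lift_app_basis]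
  exact lam_loc T j.1 U j.2 x

theorem hom_ext_preimage (f : X ⟶ S) [IsAffineHom f] (φ ψ : F ⟶ G)
    (h : ∀ (U : S.Opens) (x : Γ(F, f ⁻¹ᵁ U)), φ.app (f ⁻¹ᵁ U) x = ψ.app (f ⁻¹ᵁ U) x) :
    φ = ψ := by
  apply Scheme.Modules.hom_ext
  intro V
  ext s
  refine section_ext_of_cover G (fun j : {j : BIdx f // j.D ≤ V} => j.1.D) (fun j => j.2)
    (le_iSup_basis (fun i : BIdx f => i.D) (isBasis_BIdx f) V) _ _ ?_
  intro j
  rw [← app_res, ← app_res]
  have hα : ∀ (r : Γ(X, X.basicOpen j.1.a)) (x : Γ(F, X.basicOpen j.1.a)),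
      φ.app j.1.D (r • x) = X.presheaf.map (homOfLE (le_refl j.1.D)).op r • φ.app j.1.D x := by
    intro r x
    rw [sres_self, Scheme.Modules.Hom.app_smul]
  have hβ : ∀ (r : Γ(X, X.basicOpen j.1.a)) (x : Γ(F, X.basicOpen j.1.a)),
      ψ.app j.1.D (r • x) = X.presheaf.map (homOfLE (le_refl j.1.D)).op r • ψ.app j.1.D x := by
    intro r x
    rw [sres_self, Scheme.Modules.Hom.app_smul]
  have hαβ : ∀ m : Γ(F, f ⁻¹ᵁ j.1.U),
      φ.app j.1.D (F.presheaf.map (homOfLE (X.basicOpen_le j.1.a)).op m) =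
      ψ.app j.1.D (F.presheaf.map (homOfLE (X.basicOpen_le j.1.a)).op m) := by
    intro m
    rw [app_res, app_res, h]
  exact DFunLike.congr_fun (ul (F := F) (G := G) (j.1.hU.preimage f) j.1.a (le_refl j.1.D)
    (φ.app j.1.D).hom (ψ.app j.1.D).hom hα hβ hαβ) _

instance toOS_faithful (B : RelSpec.QCAlg S) : (AMod.toOS B).Faithful := by
  refine ⟨fun {M N} φ ψ hφψ => ?_⟩
  apply (SheafOfModules.toSheaf (AMod.ringSheaf B)).map_injective
  exact congrArg (fun χ => (SheafOfModules.toSheaf S.ringCatSheaf).map χ) hφψ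

noncomputable def pushData (f : X ⟶ S) [IsAffineHom f] {F G : X.Modules}
    (θ : (AMod.dirImg f).obj F ⟶ (AMod.dirImg f).obj G) : PushData f F G where
  app U := (((AMod.toOS (RelSpec.QCAlg.directImage f)).map θ).app U).hom
  smul U r m := (θ.val.app (op U)).hom.map_smul r m
  res U V h m := (app_res ((AMod.toOS (RelSpec.QCAlg.directImage f)).map θ) h m).symm

end Push

theorem main_S8302 {X S : Scheme.{u}} (f : X ⟶ S) [IsAffineHom f]
    (F G : X.Modules) (hF : Coh.IsQCoh F) (hG : Coh.IsQCoh G) :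
    Function.Bijective
      ((AMod.dirImg f).map : (F ⟶ G) → ((AMod.dirImg f).obj F ⟶ (AMod.dirImg f).obj G)) := by
  haveI : F.IsQuasicoherent := hF
  haveI : G.IsQuasicoherent := hG
  constructor
  · intro φ ψ h
    apply hom_ext_preimage f
    intro U x
    have h' := congrArg (fun χ => (AMod.toOS (RelSpec.QCAlg.directImage f)).map χ) h
    exact congrArg (fun χ : (Scheme.Modules.pushforward f).obj F ⟶
      (Scheme.Modules.pushforward f).obj G => χ.app U x) h'
  · intro θ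
    refine ⟨lift (pushData f θ), ?_⟩
    apply (AMod.toOS (RelSpec.QCAlg.directImage f)).map_injective
    apply Scheme.Modules.hom_ext
    intro U
    ext x
    exact lift_app (pushData f θ) U x

end Groth.Agent.H4.DirImgFF
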