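import Mathlib
import Groth.Agent.Lib.Lead.QC.Push
import Groth.Agent.Lib.Lead.QC.InvBasis
import Groth.Agent.Lib.Lead.QC.SheafIso
import Groth.Agent.Lib.Lead.QC.HomAffine
import Groth.Agent.Lib.Helper3.AffAlgIso

universe u
open CategoryTheory Limits AlgebraicGeometry TopologicalSpace Opposite
open Groth.Agent.LD.QC

namespace Groth.Agent.H4.DirImgLib
variable {X : Scheme.{u}}

theorem bijective_basicOpen {F H : X.Modules} [F.IsQuasicoherent] [H.IsQuasicoherent] (v : F ⟶ H)
    {V : X.Opens} (hV : IsAffineOpen V) (a : Γ(X, V)) (hbij : Function.Bijective (v.app V)) :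
    Function.Bijective (v.app (X.basicOpen a)) := by
  have hu : IsUnit (X.presheaf.map (homOfLE (X.basicOpen_le a)).op a) :=
    RingedSpace.isUnit_res_basicOpen _ a
  have hinj0 : ∀ x : Γ(F, X.basicOpen a), v.app (X.basicOpen a) x = 0 → x = 0 := by
    intro x hx
    obtain ⟨n, m, hm⟩ := affine_surj F hV a x
    have h1 : H.presheaf.map (homOfLE (X.basicOpen_le a)).op (v.app V m) = 0 := by
      rw [← app_res, hm, Scheme.Modules.Hom.app_smul, hx, smul_zero]
    obtain ⟨k, hk⟩ := affine_inj H hV a _ h1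
    have h2 : a ^ k • m = 0 := by
      apply hbij.1
      rw [Scheme.Modules.Hom.app_smul, hk, map_zero]
    have h3 := congrArg (F.presheaf.map (homOfLE (X.basicOpen_le a)).op) h2
    rw [Scheme.Modules.map_smul, hm, map_zero, map_pow, smul_smul] at h3
    exact ((hu.pow _).mul (hu.pow _)).smul_eq_zero.mp h3
  constructor
  · intro x x' hxx'
    have : v.app (X.basicOpen a) (x - x') = 0 := by rw [map_sub, hxx', sub_self]
    exact sub_eq_zero.mp (hinj0 _ this)
  · intro y
    obtain ⟨n, m', hm'⟩ := affine_surj H hV a y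
    obtain ⟨m, rfl⟩ := hbij.2 m'
    obtain ⟨u, hu'⟩ := hu
    refine ⟨((↑(u⁻¹ ^ n) : Γ(X, X.basicOpen a))) •
      F.presheaf.map (homOfLE (X.basicOpen_le a)).op m, ?_⟩
    rw [Scheme.Modules.Hom.app_smul, app_res, hm', ← hu', smul_smul, ← Units.val_pow_eq_pow_val,
      ← Units.val_mul, ← mul_pow, inv_mul_cancel, one_pow, Units.val_one, one_smul]

theorem isIso_of_isIso_pushforward {S : Scheme.{u}} (f : X ⟶ S) [IsAffineHom f] {F H : X.Modules}
    [F.IsQuasicoherent] [H.IsQuasicoherent] (v : F ⟶ H)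
    (hv : IsIso ((Scheme.Modules.pushforward f).map v)) : IsIso v := by
  apply isIso_of_local_bijective
  intro x W hxW
  obtain ⟨U, hU, hxU, -⟩ := exists_isAffineOpen_mem_and_subset (x := f x) (U := ⊤) trivial
  have hV : IsAffineOpen (f ⁻¹ᵁ U) := hU.preimage f
  have hxV : x ∈ f ⁻¹ᵁ U := hxU
  obtain ⟨a, haW, hxa⟩ := hV.exists_basicOpen_le ⟨x, hxW⟩ hxV
  refine ⟨X.basicOpen a, hxa, haW, ?_⟩
  have hbij : Function.Bijective (v.app (f ⁻¹ᵁ U)) :=
    app_bijective_of_isIso ((Scheme.Modules.pushforward f).map v) U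
  exact bijective_basicOpen v hV a hbij

theorem main_S8305 {X Y S : Scheme.{u}} (gX : X ⟶ S) [IsAffineHom gX]
    (gY : Y ⟶ S) [IsAffineHom gY] (h : Y ⟶ X) (hh : h ≫ gX = gY)
    (F : X.Modules) (G : Y.Modules) (hF : Coh.IsQCoh F) (hG : Coh.IsQCoh G)
    (v : F ⟶ (Scheme.Modules.pushforward h).obj G) :
    (IsIso h ∧ IsIso v) ↔
      (IsIso (AffAlg.algHom gX gY h hh) ∧ IsIso ((Scheme.Modules.pushforward gX).map v)) := by
  constructor
  · rintro ⟨h1, h2⟩
    exact ⟨(Groth.Agent.H3.AffAlgIso.isIso_iff gX gY h hh).mp h1, inferInstance⟩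
  · rintro ⟨h1, h2⟩
    have hiso : IsIso h := (Groth.Agent.H3.AffAlgIso.isIso_iff gX gY h hh).mpr h1
    refine ⟨hiso, ?_⟩
    haveI : F.IsQuasicoherent := hF
    haveI : G.IsQuasicoherent := hG
    haveI : ((Scheme.Modules.pushforward h).obj G).IsQuasicoherent := qc_pushforward h G
    exact isIso_of_isIso_pushforward gX v h2

end Groth.Agent.H4.DirImgLib
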