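import Mathlib
import Groth.Prelude.Def_RelSpec2
import Groth.Agent.Lib.Lead.QC.AModPush

set_option autoImplicit false
universe u
open CategoryTheory CategoryTheory.Limits AlgebraicGeometry Opposite TopologicalSpace

namespace Groth.Agent.H4.DirImgSigma
open CoproductsFromFiniteFiltered

section Abstract
universe w v₁ v₂ u₁ u₂
variable {C : Type u₁} [Category.{v₁} C] {D : Type u₂} [Category.{v₂} D]
  [HasFiniteCoproducts C] [HasFiniteCoproducts D] (G : C ⥤ D) [PreservesFiniteCoproducts G]
  {α : Type w}

/-- comparison of the diagrams of finite subcoproducts. -/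
noncomputable def τ (F : Discrete α ⥤ C) : liftToFinsetObj (F ⋙ G) ⟶ liftToFinsetObj F ⋙ G where
  app S := sigmaComparison G (fun x : S => F.obj x)
  naturality S T h := by
    apply Sigma.hom_ext
    intro x
    simp [liftToFinsetObj, ← G.map_comp]

instance (F : Discrete α ⥤ C) : IsIso (τ G F) := by
  have : ∀ S, IsIso ((τ G F).app S) := fun S => by
    have : PreservesColimitsOfShape (Discrete ↥S) G := inferInstance
    have : PreservesColimit (Discrete.functor fun x : ↥S => F.obj x) G := inferInstance
    have h : IsIso (sigmaComparison G (fun x : ↥S => F.obj x)) := inferInstance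
    exact h
  exact NatIso.isIso_of_isIso_app _

variable [HasColimitsOfShape (Finset (Discrete α)) C] [HasColimitsOfShape (Finset (Discrete α)) D]
  [PreservesColimitsOfShape (Finset (Discrete α)) G]

theorem preservesColimit_discrete (F : Discrete α ⥤ C) : PreservesColimit F G := by
  have hG : IsColimit (G.mapCocone (colimit.cocone (liftToFinsetObj F))) :=
    isColimitOfPreserves G (colimit.isColimit (liftToFinsetObj F))
  have hc' : IsColimit ((Cocone.precompose (τ G F)).obj
      (G.mapCocone (colimit.cocone (liftToFinsetObj F)))) :=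
    (IsColimit.precomposeHomEquiv (asIso (τ G F)) _).symm hG
  apply preservesColimit_of_preserves_colimit_cocone (liftToFinsetColimitCocone F).isColimit
  refine IsColimit.ofIsoColimit (liftToFinsetColimitCocone (F ⋙ G)).isColimit
    (Cocone.ext ((colimit.isColimit (liftToFinsetObj (F ⋙ G))).coconePointUniqueUpToIso hc') ?_)
  intro j
  dsimp [liftToFinsetColimitCocone]
  rw [Category.assoc]
  erw [IsColimit.comp_coconePointUniqueUpToIso_hom (colimit.isColimit (liftToFinsetObj (F ⋙ G))) hc']
  dsimp [τ]
  have h1 := ι_comp_sigmaComparison G (fun x : ↥({j} : Finset (Discrete α)) => F.obj x)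
    ⟨j, Finset.mem_singleton_self j⟩
  rw [G.map_comp]
  refine Eq.trans ?_ (congrArg (fun φ => φ ≫ G.map (colimit.ι (liftToFinsetObj F) {j})) h1)
  exact (Category.assoc _ _ _).symm

end Abstract

variable {X S : Scheme.{u}} (f : X ⟶ S) [IsAffineHom f]

instance : (AMod.dirImg f).Additive := ⟨by intros; rfl⟩

theorem main_S8315 {X S : Scheme.{u}} (f : X ⟶ S) [IsAffineHom f]
    {ι : Type u} (F : ι → X.Modules) (hF : ∀ i, Coh.IsQCoh (F i)) :
    IsIso (sigmaComparison (AMod.dirImg f) F) := by
  have : PreservesColimitsOfShape (Finset (Discrete ι)) (AMod.dirImg f) := ⟨fun {K} => by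
    have : IsIso (colimit.post K (AMod.dirImg f)) :=
      Groth.Agent.LD.QC.isIso_colimit_desc_dirImg f K
    exact preservesColimit_of_isIso_post _ _⟩
  have : PreservesColimit (Discrete.functor F) (AMod.dirImg f) :=
    preservesColimit_discrete _ _
  infer_instance

end Groth.Agent.H4.DirImgSigma
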