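import Mathlib
import Groth.Prelude.Def_W4c1extbt610Disp

set_option autoImplicit false

open Module

namespace Groth.Agent.H4.DispExA

section VD

variable {W : Type*} [CommRing W]

/-- abstract Verschiebung data -/
structure VData (σ : W →+* W) (V : W →+ W) : Prop where
  inj : Function.Injective V
  mul : ∀ x y : W, V (x * σ y) = V x * y

variable {σ : W →+* W} {V : W →+ W}

lemma VData.mem_span_iff (h : VData σ V) (a : W) :
    a ∈ Ideal.span (Set.range V) ↔ ∃ c, V c = a := by
  constructor
  · intro ha
    refine Submodule.span_induction (p := fun a _ => ∃ c, V c = a) ?_ ?_ ?_ ?_ ha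
    · rintro _ ⟨c, rfl⟩
      exact ⟨c, rfl⟩
    · exact ⟨0, map_zero V⟩
    · rintro x y _ _ ⟨c, rfl⟩ ⟨d, rfl⟩
      exact ⟨c + d, map_add V c d⟩
    · rintro w x _ ⟨c, rfl⟩
      exact ⟨c * σ w, by rw [h.mul, smul_eq_mul, mul_comm]⟩
  · rintro ⟨c, rfl⟩
    exact Ideal.subset_span ⟨c, rfl⟩

/-- a left inverse of `V` -/
noncomputable def Vi (V : W →+ W) (a : W) : W := by
  classical exact if h : ∃ c, V c = a then h.choose else 0

lemma VData.Vi_V (h : VData σ V) (c : W) : Vi V (V c) = c := by
  have hex : ∃ c', V c' = V c := ⟨c, rfl⟩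
  unfold Vi
  rw [dif_pos hex]
  exact h.inj hex.choose_spec

theorem exists_div {M N : Type*} [AddCommGroup M] [Module W M] [Module.Finite W M]
    [Module.Projective W M] [AddCommGroup N] [Module W N] (h : VData σ V) (φ : M →ₛₗ[σ] N) :
    ∃ Ψ : ↥(Ideal.span (Set.range V) • (⊤ : Submodule W M)) →ₛₗ[σ] N,
      ∀ (c : W) (m : M) (hm : V c • m ∈ Ideal.span (Set.range V) • (⊤ : Submodule W M)),
        Ψ ⟨V c • m, hm⟩ = c • φ m := by
  classical
  obtain ⟨n, f, g, -, -, hfg⟩ := Module.Finite.exists_comp_eq_id_of_projective W M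
  have hcoef : ∀ x ∈ Ideal.span (Set.range V) • (⊤ : Submodule W M), ∀ j, ∃ c, V c = g x j := by
    intro x hx j
    rw [← h.mem_span_iff]
    refine Submodule.smul_induction_on hx (fun a ha m _ => ?_) (fun x y hx hy => ?_)
    · rw [map_smul, Pi.smul_apply, smul_eq_mul]
      exact Ideal.mul_mem_right _ _ ha
    · rw [map_add, Pi.add_apply]
      exact Ideal.add_mem _ hx hy
  refine ⟨{ toFun := fun x => ∑ j, Vi V (g x.1 j) • φ (f (fun k => if j = k then 1 else 0))
            map_add' := ?_
            map_smul' := ?_ }, ?_⟩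
  · intro x y
    rw [← Finset.sum_add_distrib]
    refine Finset.sum_congr rfl (fun j _ => ?_)
    obtain ⟨c, hc⟩ := hcoef x.1 x.2 j
    obtain ⟨d, hd⟩ := hcoef y.1 y.2 j
    have hxy : g (x + y).1 j = V (c + d) := by
      rw [Submodule.coe_add, map_add, Pi.add_apply, ← hc, ← hd, map_add]
    rw [hxy, ← hc, ← hd, h.Vi_V, h.Vi_V, h.Vi_V, add_smul]
  · intro w x
    rw [Finset.smul_sum]
    refine Finset.sum_congr rfl (fun j _ => ?_)
    obtain ⟨c, hc⟩ := hcoef x.1 x.2 j
    have hwx : g (w • x).1 j = V (c * σ w) := by
      rw [Submodule.coe_smul, map_smul, Pi.smul_apply, smul_eq_mul, ← hc, h.mul, mul_comm]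
    rw [hwx, ← hc, h.Vi_V, h.Vi_V, smul_smul, mul_comm]
  · intro c m hm
    show ∑ j, Vi V (g (V c • m) j) • φ (f (fun k => if j = k then 1 else 0)) = c • φ m
    have hm' : m = f (g m) := (LinearMap.congr_fun hfg m).symm
    conv_rhs => rw [hm', LinearMap.pi_apply_eq_sum_univ f (g m), map_sum, Finset.smul_sum]
    refine Finset.sum_congr rfl (fun j _ => ?_)
    rw [map_smul, Pi.smul_apply, smul_eq_mul, ← h.mul, h.Vi_V, LinearMap.map_smulₛₗ, smul_smul]

end VD

section EXP

variable {W : Type*} [CommRing W] {P N : Type*} [AddCommGroup P] [Module W P]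
  [AddCommGroup N] [Module W N] {r : ℕ}

lemma comp_update' {ι α β : Type*} [DecidableEq ι] (Φ : α → β) (m : ι → α) (i : ι) (z : α) :
    (fun k => Φ (Function.update m i z k)) = Function.update (fun k => Φ (m k)) i (Φ z) := by
  funext k
  by_cases hk : k = i
  · subst hk
    rw [Function.update_self, Function.update_self]
  · rw [Function.update_of_ne hk, Function.update_of_ne hk]

lemma alt_zero_of_two (f : P [⋀^Fin r]→ₗ[W] N) (t₀ : P) (x : Fin r → P) (i j : Fin r)
    (hij : i ≠ j) (a b : W) (hi : x i = a • t₀) (hj : x j = b • t₀) : f x = 0 := by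
  classical
  have h1 : x = Function.update x i (a • t₀) := by rw [← hi, Function.update_eq_self]
  rw [h1, f.map_update_smul]
  have hy : Function.update x i t₀ j = b • t₀ := by rw [Function.update_of_ne hij.symm, hj]
  have h2 : Function.update x i t₀ = Function.update (Function.update x i t₀) j (b • t₀) := by
    rw [← hy, Function.update_eq_self]
  rw [h2, f.map_update_smul]
  have hz : Function.update (Function.update x i t₀) j t₀ i =
      Function.update (Function.update x i t₀) j t₀ j := by
    rw [Function.update_of_ne hij, Function.update_self, Function.update_self]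
  rw [f.map_eq_zero_of_eq _ hz hij, smul_zero, smul_zero]

lemma exp_aux (f : P [⋀^Fin r]→ₗ[W] N) (t₀ : P) (u : Fin r → P)
    (hu : ∀ i, ∃ c : W, u i = c • t₀) (S : Finset (Fin r)) : ∀ l : Fin r → P,
    f (S.piecewise (l + u) l) = f l + ∑ i ∈ S, f (Function.update l i (u i)) := by
  classical
  induction S using Finset.induction_on with
  | empty =>
    intro l
    simp
  | insert j S hj ih =>
    intro l
    rw [Finset.piecewise_insert, Finset.sum_insert hj]
    have hxj : S.piecewise (l + u) l j = l j := Finset.piecewise_eq_of_notMem _ _ _ hj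
    have hsplit : Function.update (S.piecewise (l + u) l) j ((l + u) j) =
        Function.update (S.piecewise (l + u) l) j (l j + u j) := rfl
    rw [hsplit, f.map_update_add]
    have h1 : Function.update (S.piecewise (l + u) l) j (l j) = S.piecewise (l + u) l := by
      rw [← hxj, Function.update_eq_self]
    have h2 : Function.update (S.piecewise (l + u) l) j (u j) =
        S.piecewise (Function.update l j (u j) + u) (Function.update l j (u j)) := by
      funext k
      by_cases hk : k = j
      · subst hk
        rw [Function.update_self, Finset.piecewise_eq_of_notMem _ _ _ hj, Function.update_self]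
      · rw [Function.update_of_ne hk]
        by_cases hkS : k ∈ S
        · rw [Finset.piecewise_eq_of_mem _ _ _ hkS, Finset.piecewise_eq_of_mem _ _ _ hkS,
            Pi.add_apply, Pi.add_apply, Function.update_of_ne hk]
        · rw [Finset.piecewise_eq_of_notMem _ _ _ hkS, Finset.piecewise_eq_of_notMem _ _ _ hkS,
            Function.update_of_ne hk]
    rw [h1, h2, ih l, ih (Function.update l j (u j))]
    have hz : ∑ i ∈ S, f (Function.update (Function.update l j (u j)) i (u i)) = 0 := by
      refine Finset.sum_eq_zero (fun i hi => ?_)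
      have hij : i ≠ j := fun h => hj (h ▸ hi)
      obtain ⟨a, ha⟩ := hu i
      obtain ⟨b, hb⟩ := hu j
      refine alt_zero_of_two f t₀ _ i j hij a b ?_ ?_
      · rw [Function.update_self, ha]
      · rw [Function.update_of_ne hij.symm, Function.update_self, hb]
    rw [hz, add_zero]
    abel

theorem exp_formula (f : P [⋀^Fin r]→ₗ[W] N) (t₀ : P) (l u : Fin r → P)
    (hu : ∀ i, ∃ c : W, u i = c • t₀) :
    f (l + u) = f l + ∑ i, f (Function.update l i (u i)) := by
  classical
  have h := exp_aux f t₀ u hu Finset.univ l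
  rwa [Finset.piecewise_univ] at h

end EXP

section Lam

variable {W : Type*} [CommRing W] (σ : W →+* W) {P : Type*} [AddCommGroup P] [Module W P] (r : ℕ)

/-- twisted copy of a module -/
def Tw (_σ : W →+* W) (M : Type*) := M

instance instACGTw {M : Type*} [AddCommGroup M] : AddCommGroup (Tw σ M) :=
  inferInstanceAs (AddCommGroup M)

instance instModTw {M : Type*} [AddCommGroup M] [Module W M] : Module W (Tw σ M) :=
  Module.compHom M σ

/-- the alternating map `v ↦ Φ v₁ ∧ … ∧ Φ v_r` into the twisted exterior power -/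
noncomputable def lamAlt (Φ : P →ₛₗ[σ] P) : P [⋀^Fin r]→ₗ[W] Tw σ (⋀[W]^r P) :=
  { toFun := fun v => (exteriorPower.ιMulti W r (fun i => Φ (v i)) : ⋀[W]^r P)
    map_update_add' := by
      intro _ m i x y
      show exteriorPower.ιMulti W r (fun k => Φ (Function.update m i (x + y) k)) =
        exteriorPower.ιMulti W r (fun k => Φ (Function.update m i x k)) +
        exteriorPower.ιMulti W r (fun k => Φ (Function.update m i y k))
      rw [comp_update', comp_update', comp_update', map_add, AlternatingMap.map_update_add]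
    map_update_smul' := by
      intro _ m i c x
      show exteriorPower.ιMulti W r (fun k => Φ (Function.update m i (c • x) k)) =
        σ c • exteriorPower.ιMulti W r (fun k => Φ (Function.update m i x k))
      rw [comp_update', comp_update', LinearMap.map_smulₛₗ, AlternatingMap.map_update_smul]
    map_eq_zero_of_eq' := by
      intro v i j hv hij
      show exteriorPower.ιMulti W r (fun k => Φ (v k)) = 0
      exact (exteriorPower.ιMulti W r).map_eq_zero_of_eq _ (congrArg Φ hv) hij }

/-- the semilinear map `⋀^r Φ` -/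
noncomputable def lam (Φ : P →ₛₗ[σ] P) : (⋀[W]^r P) →ₛₗ[σ] (⋀[W]^r P) :=
  { toFun := fun x => (exteriorPower.alternatingMapLinearEquiv (lamAlt σ r Φ) x : Tw σ (⋀[W]^r P))
    map_add' := fun x y => map_add (exteriorPower.alternatingMapLinearEquiv (lamAlt σ r Φ)) x y
    map_smul' := fun c x =>
      map_smul (exteriorPower.alternatingMapLinearEquiv (lamAlt σ r Φ)) c x }

theorem lam_ιMulti (Φ : P →ₛₗ[σ] P) (v : Fin r → P) :
    lam σ r Φ (exteriorPower.ιMulti W r v) = exteriorPower.ιMulti W r (fun i => Φ (v i)) :=
  exteriorPower.alternatingMapLinearEquiv_apply_ιMulti (lamAlt σ r Φ) v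

theorem extPow_projective [Module.Finite W P] [Module.Projective W P] :
    Module.Projective W (⋀[W]^r P) := by
  obtain ⟨n, f, g, -, -, hfg⟩ := Module.Finite.exists_comp_eq_id_of_projective W P
  refine Module.Projective.of_split (exteriorPower.map r g) (exteriorPower.map r f) ?_
  rw [← exteriorPower.map_comp, hfg, exteriorPower.map_id]

end Lam

end Groth.Agent.H4.DispExA
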