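import Mathlib
import Groth.Prelude.Def_W4c1extbt610Disp
import Groth.Agent.H4.DispExA

set_option autoImplicit false

open Module Groth.Agent.H4.DispExA

namespace Groth.Agent.H4.DispExB

section core

variable {W : Type*} [CommRing W] {σ : W →+* W} {V : W →+ W} {π : W}
  {P : Type*} [AddCommGroup P] [Module W P] {L Q : Submodule W P} {t : P} {κ : P →ₗ[W] W}
  {F : P →ₛₗ[σ] P} {Vinv : Q →ₛₗ[σ] P} (r : ℕ)

/-- the abstract hypotheses of the construction -/
structure Setup (σ : W →+* W) (V : W →+ W) (π : W) (L Q : Submodule W P) (t : P)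
    (κ : P →ₗ[W] W) (F : P →ₛₗ[σ] P) (Vinv : Q →ₛₗ[σ] P) : Prop where
  hV : VData σ V
  hFV : ∀ x, σ (V x) = x * π
  k1 : ∀ x, x - κ x • t ∈ L
  k2 : κ t = 1
  k3 : ∀ l ∈ L, κ l = 0
  q1 : ∀ q ∈ Q, κ q ∈ Ideal.span (Set.range V)
  q2 : L ≤ Q
  q3 : ∀ a ∈ Ideal.span (Set.range V), a • t ∈ Q
  d1 : ∀ (w : W) (x : P) (hx : V w • x ∈ Q), Vinv ⟨V w • x, hx⟩ = w • F x
  d2 : Submodule.span W (Set.range Vinv) = ⊤

/-- projection onto `L` along `t` -/
def piL (t : P) (κ : P →ₗ[W] W) : P →ₗ[W] P := LinearMap.id - κ.smulRight t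

lemma piL_apply (t : P) (κ : P →ₗ[W] W) (x : P) : piL t κ x = x - κ x • t := rfl

variable (S : Setup σ V π L Q t κ F Vinv)
include S

lemma piL_mem (x : P) : piL t κ x ∈ L := S.k1 x

lemma piL_of_mem {l : P} (hl : l ∈ L) : piL t κ l = l := by
  rw [piL_apply, S.k3 l hl, zero_smul, sub_zero]

lemma piL_t : piL t κ t = 0 := by
  rw [piL_apply, S.k2, one_smul, sub_self]

lemma piL_idem : piL t κ ∘ₗ piL t κ = piL t κ :=
  LinearMap.ext fun x => piL_of_mem S (piL_mem S x)

omit S

/-- `⋀^r` of the projection -/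
noncomputable def AA (t : P) (κ : P →ₗ[W] W) : (⋀[W]^r P) →ₗ[W] (⋀[W]^r P) :=
  exteriorPower.map r (piL t κ)

lemma AA_ιMulti (x : Fin r → P) :
    AA r t κ (exteriorPower.ιMulti W r x) = exteriorPower.ιMulti W r (fun i => piL t κ (x i)) :=
  exteriorPower.map_apply_ιMulti _ _

/-- the complementary projection -/
noncomputable def BB (t : P) (κ : P →ₗ[W] W) : (⋀[W]^r P) →ₗ[W] (⋀[W]^r P) :=
  LinearMap.id - AA r t κ

lemma BB_apply (y : ⋀[W]^r P) : BB r t κ y = y - AA r t κ y := rfl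

/-- wedges with `t` in slot `i` -/
noncomputable def tau (t : P) (κ : P →ₗ[W] W) (x : Fin r → P) (i : Fin r) : ⋀[W]^r P :=
  exteriorPower.ιMulti W r (Function.update (fun k => piL t κ (x k)) i t)

/-- the span of wedges of elements of `Q` -/
def QE (Q : Submodule W P) : Submodule W (⋀[W]^r P) :=
  Submodule.span W (Set.range fun q : Fin r → Q => exteriorPower.ιMulti W r (fun i => (q i : P)))

include S

lemma AA_idem : AA r t κ ∘ₗ AA r t κ = AA r t κ := by
  rw [AA, ← exteriorPower.map_comp, piL_idem S]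

lemma AA_tau (x : Fin r → P) (i : Fin r) : AA r t κ (tau r t κ x i) = 0 := by
  classical
  rw [tau, AA_ιMulti]
  refine (exteriorPower.ιMulti W r).map_coord_zero i ?_
  show piL t κ (Function.update (fun k => piL t κ (x k)) i t i) = 0
  rw [Function.update_self, piL_t S]

lemma decomp (x : Fin r → P) :
    exteriorPower.ιMulti W r x =
      AA r t κ (exteriorPower.ιMulti W r x) + ∑ i, κ (x i) • tau r t κ x i := by
  classical
  have hx : x = (fun k => piL t κ (x k)) + (fun k => κ (x k) • t) := by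
    funext k
    simp only [Pi.add_apply, piL_apply, sub_add_cancel]
  have h := exp_formula (exteriorPower.ιMulti W r) t (fun k => piL t κ (x k))
    (fun k => κ (x k) • t) (fun i => ⟨κ (x i), rfl⟩)
  rw [← hx] at h
  conv_lhs => rw [h]
  rw [AA_ιMulti]
  congr 1
  refine Finset.sum_congr rfl (fun i _ => ?_)
  show exteriorPower.ιMulti W r (Function.update (fun k => piL t κ (x k)) i (κ (x i) • t)) = _
  rw [AlternatingMap.map_update_smul]
  rfl

lemma QE_le : QE r Q ≤ LinearMap.range (AA r t κ) ⊔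
    Ideal.span (Set.range V) • LinearMap.ker (AA r t κ) := by
  rw [QE, Submodule.span_le]
  rintro _ ⟨q, rfl⟩
  show exteriorPower.ιMulti W r (fun i => (q i : P)) ∈ LinearMap.range (AA r t κ) ⊔
    Ideal.span (Set.range V) • LinearMap.ker (AA r t κ)
  rw [decomp r S (fun i => (q i : P))]
  refine Submodule.add_mem _ (Submodule.mem_sup_left (LinearMap.mem_range_self _ _))
    (Submodule.mem_sup_right ?_)
  refine Submodule.sum_mem _ (fun i _ => ?_)
  exact Submodule.smul_mem_smul (S.q1 _ (q i).2) (LinearMap.mem_ker.mpr (AA_tau r S _ i))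

lemma range_le : LinearMap.range (AA r t κ) ≤ QE r Q := by
  rw [LinearMap.range_eq_map, ← exteriorPower.ιMulti_span W r P, Submodule.map_span,
    Submodule.span_le]
  rintro _ ⟨_, ⟨x, rfl⟩, rfl⟩
  show AA r t κ (exteriorPower.ιMulti W r x) ∈ QE r Q
  rw [AA_ιMulti]
  exact Submodule.subset_span ⟨fun i => ⟨piL t κ (x i), S.q2 (S.k1 _)⟩, rfl⟩

lemma ker_le_tauSpan : LinearMap.ker (AA r t κ) ≤
    Submodule.span W (Set.range fun xi : (Fin r → P) × Fin r => tau r t κ xi.1 xi.2) := by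
  intro y hy
  have hy0 : AA r t κ y = 0 := hy
  have h1 : y = BB r t κ y := by rw [BB_apply, hy0, sub_zero]
  have h2 : (⊤ : Submodule W (⋀[W]^r P)) ≤
      (Submodule.span W (Set.range fun xi : (Fin r → P) × Fin r =>
        tau r t κ xi.1 xi.2)).comap (BB r t κ) := by
    rw [← exteriorPower.ιMulti_span W r P, Submodule.span_le]
    rintro _ ⟨x, rfl⟩
    show BB r t κ (exteriorPower.ιMulti W r x) ∈ Submodule.span W
      (Set.range fun xi : (Fin r → P) × Fin r => tau r t κ xi.1 xi.2)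
    have hd := decomp r S x
    have hsub : BB r t κ (exteriorPower.ιMulti W r x) = ∑ i, κ (x i) • tau r t κ x i := by
      rw [BB_apply, sub_eq_iff_eq_add']
      exact hd
    rw [hsub]
    exact Submodule.sum_mem _ (fun i _ =>
      Submodule.smul_mem _ _ (Submodule.subset_span ⟨(x, i), rfl⟩))
  rw [h1]
  exact h2 Submodule.mem_top

lemma smul_ker_le : Ideal.span (Set.range V) • LinearMap.ker (AA r t κ) ≤ QE r Q := by
  classical
  refine le_trans (Submodule.smul_mono le_rfl (ker_le_tauSpan r S)) ?_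
  rw [Submodule.smul_le]
  intro a ha y hy
  have hle : Submodule.span W (Set.range fun xi : (Fin r → P) × Fin r =>
      tau r t κ xi.1 xi.2) ≤ (QE r Q).comap (LinearMap.lsmul W _ a) := by
    rw [Submodule.span_le]
    rintro _ ⟨⟨x, i⟩, rfl⟩
    show a • tau r t κ x i ∈ QE r Q
    have hupd : a • tau r t κ x i = exteriorPower.ιMulti W r
        (Function.update (fun k => piL t κ (x k)) i (a • t)) := by
      rw [AlternatingMap.map_update_smul]
      rfl
    have hmem : ∀ k, Function.update (fun k => piL t κ (x k)) i (a • t) k ∈ Q := by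
      intro k
      by_cases hk : k = i
      · rw [hk, Function.update_self]
        exact S.q3 a ha
      · rw [Function.update_of_ne hk]
        exact S.q2 (S.k1 _)
    rw [hupd]
    exact Submodule.subset_span ⟨fun k => ⟨_, hmem k⟩, rfl⟩
  exact hle hy

lemma QE_eq : QE r Q = LinearMap.range (AA r t κ) ⊔
    Ideal.span (Set.range V) • LinearMap.ker (AA r t κ) :=
  le_antisymm (QE_le r S) (sup_le (range_le r S) (smul_ker_le r S))

lemma isCompl_AA : IsCompl (LinearMap.range (AA r t κ)) (LinearMap.ker (AA r t κ)) :=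
  LinearMap.IsIdempotentElem.isCompl (AA_idem r S)

lemma IV_le : Ideal.span (Set.range V) • (⊤ : Submodule W (⋀[W]^r P)) ≤ QE r Q := by
  rw [← (isCompl_AA r S).sup_eq_top, Submodule.smul_sup]
  exact sup_le (le_trans Submodule.smul_le_right (range_le r S)) (smul_ker_le r S)

/-- the semilinear map `Φ = Vinv ∘ π_L + F ∘ π_T` -/
noncomputable def Phi : P →ₛₗ[σ] P :=
  Vinv.comp ((piL t κ).codRestrict Q (fun x => S.q2 (S.k1 x))) + F.comp (κ.smulRight t)

lemma Phi_apply (x : P) :
    Phi S x = Vinv ⟨piL t κ x, S.q2 (S.k1 x)⟩ + F (κ x • t) := rfl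

lemma Phi_of_mem (l : P) (hl : l ∈ L) : Phi S l = Vinv ⟨l, S.q2 hl⟩ := by
  have h1 : F (κ l • t) = 0 := by rw [S.k3 l hl, zero_smul, map_zero]
  have h2 : (⟨piL t κ l, S.q2 (S.k1 l)⟩ : Q) = ⟨l, S.q2 hl⟩ := Subtype.ext (piL_of_mem S hl)
  rw [Phi_apply, h1, add_zero, h2]

lemma Phi_t : Phi S t = F t := by
  have h2 : (⟨piL t κ t, S.q2 (S.k1 t)⟩ : Q) = 0 := Subtype.ext (piL_t S)
  rw [Phi_apply, h2, map_zero, zero_add, S.k2, one_smul]

lemma Vinv_eq (q : Q) (c : W) (hc : V c = κ (q : P)) :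
    Vinv q = Phi S (piL t κ q) + c • F t := by
  have hmem : V c • t ∈ Q := S.q3 _ (Ideal.subset_span ⟨c, rfl⟩)
  have hq : q = ⟨piL t κ q, S.q2 (S.k1 _)⟩ + ⟨V c • t, hmem⟩ := by
    apply Subtype.ext
    show (q : P) = piL t κ q + V c • t
    rw [piL_apply, hc, sub_add_cancel]
  rw [Phi_of_mem S (piL t κ q) (piL_mem S _)]
  conv_lhs => rw [hq]
  rw [map_add, S.d1 c t hmem]

end core

end Groth.Agent.H4.DispExB
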