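import Mathlib
import Groth.Prelude.Def_W4c1extbt610Disp

set_option autoImplicit false

open Module W4c1extbt610

namespace Groth.Agent.H4.DispUniv

universe u v w

variable {p : ℕ} [Fact p.Prime] {R : Type u} [CommRing R]

lemma V1_mem {P : Type v} [AddCommGroup P] [Module (WittVector p R) P] (D : Display3n p R P)
    (x : P) : WittVector.verschiebung (1 : WittVector p R) • x ∈ D.Q :=
  D.IV_smul_le (Submodule.smul_mem_smul (verschiebung_mem_IV p R 1) Submodule.mem_top)

lemma F_eq {P : Type v} [AddCommGroup P] [Module (WittVector p R) P] (D : Display3n p R P)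
    (x : P) : D.F x = D.Vinv ⟨WittVector.verschiebung (1 : WittVector p R) • x, V1_mem D x⟩ := by
  have h := D.Vinv_verschiebung_smul 1 x
  rw [one_smul] at h
  exact h.symm

variable {P : Type v} [AddCommGroup P] [Module (WittVector p R) P]

lemma wedge_mem (D : Display3n p R P) (r : ℕ) (E : Display3n p R (⋀[WittVector p R]^r P))
    (hE : IsExtPow D r E) (q : Fin r → D.Q) :
    exteriorPower.ιMulti (WittVector p R) r (fun i => (q i : P)) ∈ E.Q := by
  rw [hE.1]
  exact Submodule.subset_span ⟨q, rfl⟩

theorem isAltMult (D : Display3n p R P) (r : ℕ) (E : Display3n p R (⋀[WittVector p R]^r P))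
    (hE : IsExtPow D r E) :
    IsAltMult D E (exteriorPower.ιMulti (WittVector p R) r) where
  mapsTo := wedge_mem D r E hE
  vCond := fun q => hE.2 q _
  fCond := by
    classical
    intro i x q
    have hx : WittVector.verschiebung (1 : WittVector p R) • x ∈ D.Q := V1_mem D x
    have h1 : (fun j => ((Function.update q i ⟨_, hx⟩ j : D.Q) : P)) =
        Function.update (fun j => ((q j : D.Q) : P)) i
          (WittVector.verschiebung (1 : WittVector p R) • x) := by
      funext j
      by_cases hj : j = i
      · rw [hj, Function.update_self, Function.update_self]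
      · rw [Function.update_of_ne hj, Function.update_of_ne hj]
    have h2 : (fun j => D.Vinv (Function.update q i ⟨_, hx⟩ j)) =
        Function.update (fun j => D.Vinv (q j)) i (D.F x) := by
      funext j
      by_cases hj : j = i
      · rw [hj, Function.update_self, Function.update_self, F_eq D x]
      · rw [Function.update_of_ne hj, Function.update_of_ne hj]
    have h3 := hE.2 (Function.update q i ⟨_, hx⟩) (wedge_mem D r E hE _)
    rw [h2] at h3
    rw [F_eq E, ← h3]
    congr 1
    apply Subtype.ext
    show WittVector.verschiebung (1 : WittVector p R) •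
        exteriorPower.ιMulti (WittVector p R) r (Function.update (fun j => ((q j : D.Q) : P)) i x) =
      exteriorPower.ιMulti (WittVector p R) r
        (fun j => ((Function.update q i ⟨_, hx⟩ j : D.Q) : P))
    rw [h1, AlternatingMap.map_update_smul]

theorem univ (D : Display3n p R P) (r : ℕ) (E : Display3n p R (⋀[WittVector p R]^r P))
    (hE : IsExtPow D r E)
    (P' : Type w) [AddCommGroup P'] [Module (WittVector p R) P'] (D' : Display3n p R P')
    (φ : P [⋀^Fin r]→ₗ[WittVector p R] P') (hφ : IsAltMult D D' φ) :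
    ∃! ψ : ⋀[WittVector p R]^r P →ₗ[WittVector p R] P',
      IsHom E D' ψ ∧ ψ.compAlternatingMap (exteriorPower.ιMulti (WittVector p R) r) = φ := by
  classical
  set ψ : ⋀[WittVector p R]^r P →ₗ[WittVector p R] P' :=
    exteriorPower.alternatingMapLinearEquiv φ with hψ
  have hψι : ∀ a : Fin r → P, ψ (exteriorPower.ιMulti (WittVector p R) r a) = φ a :=
    fun a => exteriorPower.alternatingMapLinearEquiv_apply_ιMulti φ a
  have hmaps : ∀ y : ⋀[WittVector p R]^r P, y ∈ E.Q → ψ y ∈ D'.Q := by
    have hle : E.Q ≤ D'.Q.comap ψ := by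
      rw [hE.1, Submodule.span_le]
      rintro _ ⟨q, rfl⟩
      show ψ (exteriorPower.ιMulti (WittVector p R) r (fun i => (q i : P))) ∈ D'.Q
      rw [hψι]
      exact hφ.mapsTo q
    exact fun y hy => hle hy
  have hspan : Submodule.span (WittVector p R) (Set.range (fun q : Fin r → D.Q =>
      (⟨exteriorPower.ιMulti (WittVector p R) r (fun i => (q i : P)), wedge_mem D r E hE q⟩ : E.Q)))
      = ⊤ := by
    apply Submodule.map_injective_of_injective E.Q.injective_subtype
    rw [Submodule.map_span, Submodule.map_subtype_top, ← Set.range_comp]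
    exact hE.1.symm
  have hV : ∀ y : E.Q, ψ (E.Vinv y) = D'.Vinv ⟨ψ y, hmaps y y.2⟩ := by
    have heq : (ψ.comp E.Vinv : E.Q →ₛₗ[(WittVector.frobenius : WittVector p R →+* WittVector p R)] P')
        = D'.Vinv.comp (ψ.restrict hmaps) := by
      apply LinearMap.ext_on_range hspan
      intro q
      show ψ (E.Vinv ⟨_, _⟩) = D'.Vinv ⟨ψ _, _⟩
      rw [hE.2 q _, hψι]
      rw [← hφ.vCond q]
      congr 1
      apply Subtype.ext
      exact (hψι _).symm
    intro y
    exact LinearMap.congr_fun heq y
  have hF : ∀ y : ⋀[WittVector p R]^r P, ψ (E.F y) = D'.F (ψ y) := by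
    intro y
    rw [F_eq E, F_eq D', hV]
    congr 1
    apply Subtype.ext
    exact map_smul ψ _ y
  refine ⟨ψ, ⟨⟨hmaps, hF, hV⟩, exteriorPower.alternatingMapLinearEquiv_comp_ιMulti φ⟩, ?_⟩
  rintro ψ' ⟨_, hψ'⟩
  apply exteriorPower.linearMap_ext
  rw [hψ', exteriorPower.alternatingMapLinearEquiv_comp_ιMulti]

end Groth.Agent.H4.DispUniv
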