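import Mathlib
import Groth.Prelude.Def_W4c1extbt610Disp
import Groth.Agent.H4.DispExA
import Groth.Agent.H4.DispExB
import Groth.Agent.H4.DispUniv

set_option autoImplicit false

open Module Groth.Agent.H4.DispExA Groth.Agent.H4.DispExB

namespace Groth.Agent.H4.DispExC

section core

variable {W : Type*} [CommRing W] {σ : W →+* W} {V : W →+ W} {π : W}
  {P : Type*} [AddCommGroup P] [Module W P] {L Q : Submodule W P} {t : P} {κ : P →ₗ[W] W}
  {F : P →ₛₗ[σ] P} {Vinv : Q →ₛₗ[σ] P} (r : ℕ)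

theorem core [Module.Finite W P] [Module.Projective W P] (S : Setup σ V π L Q t κ F Vinv) :
    ∃ (FE : (⋀[W]^r P) →ₛₗ[σ] (⋀[W]^r P)) (VE : ↥(QE r Q) →ₛₗ[σ] (⋀[W]^r P)),
      Ideal.span (Set.range V) • (⊤ : Submodule W (⋀[W]^r P)) ≤ QE r Q ∧
      (∃ L' T' : Submodule W (⋀[W]^r P), IsCompl L' T' ∧
        QE r Q = L' ⊔ Ideal.span (Set.range V) • T') ∧
      Submodule.span W (Set.range VE) = ⊤ ∧
      (∀ (w : W) (x : ⋀[W]^r P) (hx : V w • x ∈ QE r Q), VE ⟨V w • x, hx⟩ = w • FE x) ∧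
      (∀ (q : Fin r → Q) (hq : exteriorPower.ιMulti W r (fun i => (q i : P)) ∈ QE r Q),
        VE ⟨_, hq⟩ = exteriorPower.ιMulti W r (fun i => Vinv (q i))) := by
  classical
  haveI : Module.Projective W (⋀[W]^r P) := extPow_projective r
  obtain ⟨Ψ, hΨ⟩ := exists_div S.hV (lam σ r (Phi S))
  have hAA : ∀ y, AA r t κ (AA r t κ y) = AA r t κ y :=
    fun y => LinearMap.congr_fun (AA_idem r S) y
  have hQEle := QE_le r S
  have hB : ∀ y ∈ QE r Q,
      BB r t κ y ∈ Ideal.span (Set.range V) • (⊤ : Submodule W (⋀[W]^r P)) := by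
    intro y hy
    obtain ⟨y1, ⟨z, rfl⟩, w, hw, rfl⟩ := Submodule.mem_sup.mp (hQEle hy)
    have hw0 : AA r t κ w = 0 := LinearMap.mem_ker.mp (Submodule.smul_le_right hw)
    have hBw : BB r t κ (AA r t κ z + w) = w := by
      rw [BB_apply, map_add, hAA, hw0, add_zero, add_sub_cancel_left]
    rw [hBw]
    exact Submodule.smul_mono le_rfl le_top hw
  let VE : ↥(QE r Q) →ₛₗ[σ] (⋀[W]^r P) :=
    (lam σ r (Phi S)).comp ((AA r t κ).comp (QE r Q).subtype) +
    Ψ.comp (((BB r t κ).comp (QE r Q).subtype).codRestrict _ (fun y => hB y.1 y.2))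
  have hVE : ∀ (y : ⋀[W]^r P) (hy : y ∈ QE r Q),
      VE ⟨y, hy⟩ = lam σ r (Phi S) (AA r t κ y) + Ψ ⟨BB r t κ y, hB y hy⟩ := fun y hy => rfl
  have hIV := IV_le r S
  have hV1 : ∀ x : ⋀[W]^r P, V 1 • x ∈ QE r Q := fun x =>
    hIV (Submodule.smul_mem_smul (Ideal.subset_span ⟨1, rfl⟩) Submodule.mem_top)
  let FE : (⋀[W]^r P) →ₛₗ[σ] (⋀[W]^r P) :=
    VE.comp ((LinearMap.lsmul W (⋀[W]^r P) (V 1)).codRestrict (QE r Q) hV1)
  have hFE : ∀ x, FE x = VE ⟨V 1 • x, hV1 x⟩ := fun x => rfl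
  have hG : ∀ (w : W) (x : ⋀[W]^r P) (hx : V w • x ∈ QE r Q),
      VE ⟨V w • x, hx⟩ =
        (w * π) • lam σ r (Phi S) (AA r t κ x) + w • lam σ r (Phi S) (BB r t κ x) := by
    intro w x hx
    rw [hVE]
    have e1 : lam σ r (Phi S) (AA r t κ (V w • x)) =
        (w * π) • lam σ r (Phi S) (AA r t κ x) := by
      rw [map_smul, LinearMap.map_smulₛₗ, S.hFV]
    have hmem : V w • BB r t κ x ∈
        Ideal.span (Set.range V) • (⊤ : Submodule W (⋀[W]^r P)) :=
      Submodule.smul_mem_smul (Ideal.subset_span ⟨w, rfl⟩) Submodule.mem_top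
    have e2 : (⟨BB r t κ (V w • x), hB _ hx⟩ :
        ↥(Ideal.span (Set.range V) • (⊤ : Submodule W (⋀[W]^r P)))) = ⟨V w • BB r t κ x, hmem⟩ :=
      Subtype.ext (map_smul (BB r t κ) (V w) x)
    rw [e1, e2, hΨ]
  have hW : ∀ (q : Fin r → Q)
      (hq : exteriorPower.ιMulti W r (fun i => (q i : P)) ∈ QE r Q),
      VE ⟨_, hq⟩ = exteriorPower.ιMulti W r (fun i => Vinv (q i)) := by
    intro q hq
    have hcs : ∀ i, ∃ c, V c = κ ((q i : Q) : P) :=
      fun i => (S.hV.mem_span_iff _).mp (S.q1 _ (q i).2)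
    choose c hc using hcs
    rw [hVE]
    have e1 : lam σ r (Phi S) (AA r t κ (exteriorPower.ιMulti W r (fun i => (q i : P)))) =
        exteriorPower.ιMulti W r (fun k => Phi S (piL t κ (q k))) := by
      rw [AA_ιMulti, lam_ιMulti]
    have hBx : BB r t κ (exteriorPower.ιMulti W r (fun i => (q i : P))) =
        ∑ i, V (c i) • tau r t κ (fun i => (q i : P)) i := by
      have hd := decomp r S (fun i => ((q i : Q) : P))
      rw [BB_apply, sub_eq_iff_eq_add']
      refine hd.trans ?_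
      congr 1
      exact Finset.sum_congr rfl (fun i _ => by rw [hc i])
    have hmem : ∀ i, V (c i) • tau r t κ (fun i => (q i : P)) i ∈
        Ideal.span (Set.range V) • (⊤ : Submodule W (⋀[W]^r P)) :=
      fun i => Submodule.smul_mem_smul (Ideal.subset_span ⟨c i, rfl⟩) Submodule.mem_top
    have e2 : (⟨BB r t κ (exteriorPower.ιMulti W r (fun i => (q i : P))), hB _ hq⟩ :
        ↥(Ideal.span (Set.range V) • (⊤ : Submodule W (⋀[W]^r P)))) =
        ∑ i, ⟨V (c i) • tau r t κ (fun i => (q i : P)) i, hmem i⟩ := by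
      apply Subtype.ext
      rw [Submodule.coe_sum]
      exact hBx
    have e3 : ∀ i, lam σ r (Phi S) (tau r t κ (fun i => (q i : P)) i) =
        exteriorPower.ιMulti W r
          (Function.update (fun k => Phi S (piL t κ (q k))) i (F t)) := by
      intro i
      rw [tau, lam_ιMulti, comp_update', Phi_t S]
    have e4 : ∑ i, Ψ ⟨V (c i) • tau r t κ (fun i => (q i : P)) i, hmem i⟩ =
        ∑ i, c i • exteriorPower.ιMulti W r
          (Function.update (fun k => Phi S (piL t κ (q k))) i (F t)) :=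
      Finset.sum_congr rfl (fun i _ => by rw [hΨ, e3])
    rw [e1, e2, map_sum, e4]
    have hR : (fun i => Vinv (q i)) =
        (fun k => Phi S (piL t κ (q k))) + (fun k => c k • F t) := by
      funext k
      exact Vinv_eq S (q k) (c k) (hc k)
    rw [hR, exp_formula (exteriorPower.ιMulti W r) (F t) _ _ (fun i => ⟨c i, rfl⟩)]
    congr 1
    refine Finset.sum_congr rfl (fun i _ => ?_)
    show c i • _ = exteriorPower.ιMulti W r
      (Function.update (fun k => Phi S (piL t κ (q k))) i (c i • F t))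
    rw [AlternatingMap.map_update_smul]
  have hspan : Submodule.span W (Set.range VE) = ⊤ := by
    rw [eq_top_iff, ← exteriorPower.ιMulti_span_of_span W r P S.d2, Submodule.span_le]
    rintro _ ⟨a, ha, rfl⟩
    have ha' : ∀ i, ∃ q : Q, Vinv q = a i := fun i => ha ⟨i, rfl⟩
    choose q hq using ha'
    have hmemq : exteriorPower.ιMulti W r (fun i => (q i : P)) ∈ QE r Q :=
      Submodule.subset_span ⟨q, rfl⟩
    refine Submodule.subset_span ⟨⟨_, hmemq⟩, ?_⟩
    rw [hW q hmemq]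
    congr 1
    funext i
    exact hq i
  refine ⟨FE, VE, hIV, ⟨LinearMap.range (AA r t κ), LinearMap.ker (AA r t κ),
    isCompl_AA r S, QE_eq r S⟩, hspan, ?_, hW⟩
  intro w x hx
  rw [hG w x hx, hFE, hG 1 x (hV1 x), smul_add, smul_smul, smul_smul, one_mul, mul_one]

end core

end Groth.Agent.H4.DispExC
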