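import Mathlib
import Groth.Prelude.Def_W4c1extbt610Disp
import Groth.Agent.H4.DispExA
import Groth.Agent.H4.DispExB
import Groth.Agent.H4.DispExC
import Groth.Agent.H4.DispUniv

set_option autoImplicit false

open Module W4c1extbt610 Groth.Agent.H4.DispExA Groth.Agent.H4.DispExB Groth.Agent.H4.DispExC
  Groth.Agent.H4.DispUniv

namespace Groth.Agent.H4.DispExD

universe u v

variable {p : ℕ} [Fact p.Prime] {R : Type u} [CommRing R]

theorem display_ext {M : Type v} [AddCommGroup M] [Module (WittVector p R) M]
    (E E' : Display3n p R M) (hQ : E.Q = E'.Q)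
    (hV : ∀ (y : M) (h : y ∈ E.Q) (h' : y ∈ E'.Q), E.Vinv ⟨y, h⟩ = E'.Vinv ⟨y, h'⟩) :
    E = E' := by
  have hF : E.F = E'.F := LinearMap.ext fun x => by
    rw [F_eq E, F_eq E']
    exact hV _ _ _
  obtain ⟨Q, F, Vinv, h1, h2, h3, h4, h5, h6⟩ := E
  obtain ⟨Q', F', Vinv', h1', h2', h3', h4', h5', h6'⟩ := E'
  dsimp only at hQ hF hV
  subst hQ
  subst hF
  have hV' : Vinv = Vinv' := LinearMap.ext fun y => hV y.1 y.2 y.2
  subst hV'
  rfl

variable {P : Type v} [AddCommGroup P] [Module (WittVector p R) P]

theorem extPow_unique (D : Display3n p R P) (r : ℕ)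
    (E E' : Display3n p R (⋀[WittVector p R]^r P))
    (hE : IsExtPow D r E) (hE' : IsExtPow D r E') : E' = E := by
  have hQ : E'.Q = E.Q := hE'.1.trans hE.1.symm
  have hspan : Submodule.span (WittVector p R) (Set.range (fun q : Fin r → D.Q =>
      (⟨exteriorPower.ιMulti (WittVector p R) r (fun i => (q i : P)), wedge_mem D r E hE q⟩ : E.Q)))
      = ⊤ := by
    apply Submodule.map_injective_of_injective E.Q.injective_subtype
    rw [Submodule.map_span, Submodule.map_subtype_top, ← Set.range_comp]
    exact hE.1.symm
  have heq : E.Vinv = E'.Vinv.comp (Submodule.inclusion (le_of_eq hQ.symm)) := by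
    apply LinearMap.ext_on_range hspan
    intro q
    show E.Vinv ⟨_, _⟩ = E'.Vinv ⟨exteriorPower.ιMulti (WittVector p R) r (fun i => (q i : P)),
      wedge_mem D r E' hE' q⟩
    rw [hE.2 q _, hE'.2 q _]
  apply display_ext E' E hQ
  intro y h' h
  exact (LinearMap.congr_fun heq ⟨y, h⟩).symm

theorem exists_extPow (D : Display3n p R P)
    (hT : ∃ L T : Submodule (WittVector p R) P, IsCompl L T ∧ D.Q = L ⊔ IV p R • T ∧
      Nonempty (T ≃ₗ[WittVector p R] WittVector p R)) (r : ℕ) :
    ∃ E : Display3n p R (⋀[WittVector p R]^r P), IsExtPow D r E := by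
  classical
  obtain ⟨L, T, hLT, hQ, ⟨e⟩⟩ := hT
  haveI := D.finite
  haveI := D.projective
  have hprojt : ∀ x : P,
      (e (Submodule.projectionOnto T L hLT.symm x)) • ((e.symm 1 : T) : P) =
        ((Submodule.projectionOnto T L hLT.symm x : T) : P) := by
    intro x
    rw [← Submodule.coe_smul, ← LinearEquiv.map_smul, smul_eq_mul, mul_one,
      LinearEquiv.symm_apply_apply]
  have S : Setup (WittVector.frobenius : WittVector p R →+* WittVector p R)
      (WittVector.verschiebung : WittVector p R →+ WittVector p R) (p : WittVector p R) L D.Q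
      ((e.symm 1 : T) : P)
      (e.toLinearMap ∘ₗ Submodule.projectionOnto T L hLT.symm) D.F D.Vinv :=
    { hV := ⟨WittVector.verschiebung_injective p R,
        fun x y => WittVector.verschiebung_mul_frobenius x y⟩
      hFV := fun x => WittVector.frobenius_verschiebung x
      k1 := by
        intro x
        show x - (e (Submodule.projectionOnto T L hLT.symm x)) • ((e.symm 1 : T) : P) ∈ L
        rw [hprojt, ← Submodule.projectionOnto_apply_eq_zero_iff hLT.symm, map_sub,
          Submodule.projectionOnto_apply_left, sub_self]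
      k2 := by
        show e (Submodule.projectionOnto T L hLT.symm ((e.symm 1 : T) : P)) = 1
        rw [Submodule.projectionOnto_apply_left, LinearEquiv.apply_symm_apply]
      k3 := by
        intro l hl
        show e (Submodule.projectionOnto T L hLT.symm l) = 0
        rw [Submodule.projectionOnto_apply_of_mem_right hLT.symm hl, map_zero]
      q1 := by
        intro q hq
        rw [hQ] at hq
        obtain ⟨l, hl, y, hy, rfl⟩ := Submodule.mem_sup.mp hq
        have hl0 : (e.toLinearMap ∘ₗ Submodule.projectionOnto T L hLT.symm) l = 0 := by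
          show e (Submodule.projectionOnto T L hLT.symm l) = 0
          rw [Submodule.projectionOnto_apply_of_mem_right hLT.symm hl, map_zero]
        rw [map_add, hl0, zero_add]
        refine Submodule.smul_induction_on hy (fun a ha t' _ => ?_) (fun x y hx hy => ?_)
        · rw [map_smul, smul_eq_mul]
          exact Ideal.mul_mem_right _ _ ha
        · rw [map_add]
          exact Ideal.add_mem _ hx hy
      q2 := by
        rw [hQ]
        exact le_sup_left
      q3 := by
        intro a ha
        rw [hQ]
        exact Submodule.mem_sup_right (Submodule.smul_mem_smul ha (e.symm 1).2)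
      d1 := fun w x hx => D.Vinv_verschiebung_smul w x
      d2 := D.span_range_Vinv }
  obtain ⟨FE, VE, hIV, hnorm, hspan, hVs, hW⟩ := core r S
  exact ⟨{ Q := QE r D.Q
           F := FE
           Vinv := VE
           finite := inferInstance
           projective := extPow_projective r
           IV_smul_le := hIV
           exists_normal := hnorm
           span_range_Vinv := hspan
           Vinv_verschiebung_smul := fun w x => hVs w x _ }, rfl, fun q hq => hW q hq⟩

theorem main (D : Display3n p R P)
    (hT : ∃ L T : Submodule (WittVector p R) P, IsCompl L T ∧ D.Q = L ⊔ IV p R • T ∧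
      Nonempty (T ≃ₗ[WittVector p R] WittVector p R)) (r : ℕ) :
    ∃ E : Display3n p R (⋀[WittVector p R]^r P), IsExtPow D r E ∧
      ∀ E' : Display3n p R (⋀[WittVector p R]^r P), IsExtPow D r E' → E' = E := by
  obtain ⟨E, hE⟩ := exists_extPow D hT r
  exact ⟨E, hE, fun E' hE' => extPow_unique D r E E' hE hE'⟩

end Groth.Agent.H4.DispExD
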