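import Mathlib
import Groth.Prelude.Def_W4c1extbt610Disp

set_option autoImplicit false

open Module

namespace Groth.Agent.H4.DispExt

section core

variable {W : Type*} [CommRing W] {P : Type*} [AddCommGroup P] [Module W P]
variable {I : Type*} [LinearOrder I] [Fintype I]

lemma emb_mem {r : ℕ} (s : Set.powersetCard I r) (j : Fin r) :
    (Set.powersetCard.ofFinEmbEquiv.symm s) j ∈ s :=
  (Set.powersetCard.mem_range_ofFinEmbEquiv_symm_iff_mem s _).mp ⟨j, rfl⟩

lemma repr_mem (b : Basis I W P) (star : I) (𝔞 : Ideal W) (r : ℕ) (q : Fin r → P)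
    (hq : ∀ i, b.repr (q i) star ∈ 𝔞) (s : Set.powersetCard I r) (hs : star ∈ s) :
    (b.exteriorPower r).repr (exteriorPower.ιMulti W r q) s ∈ 𝔞 := by
  rw [exteriorPower.basis_repr_apply, exteriorPower.ιMultiDual_apply_ιMulti]
  obtain ⟨k, hk⟩ := (Set.powersetCard.mem_range_ofFinEmbEquiv_symm_iff_mem s star).mpr hs
  rw [← Ideal.Quotient.eq_zero_iff_mem, RingHom.map_det]
  apply Matrix.det_eq_zero_of_column_eq_zero k
  intro i
  rw [RingHom.mapMatrix_apply, Matrix.map_apply, Matrix.of_apply, hk, Basis.coord_apply,
    Ideal.Quotient.eq_zero_iff_mem]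
  exact hq i

lemma wedge_mem (b : Basis I W P) (star : I) (𝔞 : Ideal W) (r : ℕ) (q : Fin r → P)
    (hq : ∀ i, b.repr (q i) star ∈ 𝔞) :
    exteriorPower.ιMulti W r q ∈
      Submodule.span W (Set.range fun s : ↥({s | star ∉ s} : Set (Set.powersetCard I r)) =>
        b.exteriorPower r s) ⊔
      𝔞 • Submodule.span W (Set.range fun s : ↥({s | star ∈ s} : Set (Set.powersetCard I r)) =>
        b.exteriorPower r s) := by
  classical
  have hsum := (b.exteriorPower r).sum_repr (exteriorPower.ιMulti W r q)
  rw [← hsum]
  refine Submodule.sum_mem _ (fun s _ => ?_)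
  by_cases hs : star ∈ s
  · exact Submodule.mem_sup_right (Submodule.smul_mem_smul (repr_mem b star 𝔞 r q hq s hs)
      (Submodule.subset_span ⟨⟨s, hs⟩, rfl⟩))
  · exact Submodule.mem_sup_left (Submodule.smul_mem _ _ (Submodule.subset_span ⟨⟨s, hs⟩, rfl⟩))

theorem span_wedge_eq (b : Basis I W P) (star : I) (𝔞 : Ideal W) (L T Q : Submodule W P) (r : ℕ)
    (h1 : ∀ i, i ≠ star → b i ∈ L) (h2 : b star ∈ T) (h3 : ∀ x ∈ L, b.repr x star = 0)
    (hQ : Q = L ⊔ 𝔞 • T) :
    Submodule.span W (Set.range fun q : Fin r → Q =>
        exteriorPower.ιMulti W r (fun i => (q i : P))) =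
      Submodule.span W (Set.range fun s : ↥({s | star ∉ s} : Set (Set.powersetCard I r)) =>
        b.exteriorPower r s) ⊔
      𝔞 • Submodule.span W (Set.range fun s : ↥({s | star ∈ s} : Set (Set.powersetCard I r)) =>
        b.exteriorPower r s) := by
  classical
  have hLQ : L ≤ Q := hQ ▸ le_sup_left
  have hTQ : 𝔞 • T ≤ Q := hQ ▸ le_sup_right
  apply le_antisymm
  · rw [Submodule.span_le]
    rintro _ ⟨q, rfl⟩
    have hq : ∀ i, b.repr (q i : P) star ∈ 𝔞 := by
      intro i
      have hqi : (q i : P) ∈ L ⊔ 𝔞 • T := hQ ▸ (q i).2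
      obtain ⟨l, hl, u, hu, hlu⟩ := Submodule.mem_sup.mp hqi
      rw [← hlu, map_add, Finsupp.add_apply, h3 l hl, zero_add]
      refine Submodule.smul_induction_on hu (fun a ha t _ => ?_) (fun x y hx hy => ?_)
      · rw [map_smul, Finsupp.smul_apply, smul_eq_mul]
        exact 𝔞.mul_mem_right _ ha
      · rw [map_add, Finsupp.add_apply]
        exact 𝔞.add_mem hx hy
    exact wedge_mem b star 𝔞 r (fun i => (q i : P)) hq
  · refine sup_le ?_ ?_
    · rw [Submodule.span_le]
      rintro _ ⟨⟨s, hs⟩, rfl⟩
      have hmem : ∀ j, b ((Set.powersetCard.ofFinEmbEquiv.symm s) j) ∈ Q := fun j =>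
        hLQ (h1 _ (fun h => hs (h ▸ emb_mem s j)))
      refine Submodule.subset_span ⟨fun j => ⟨_, hmem j⟩, ?_⟩
      exact (exteriorPower.basis_apply W r b s).symm
    · rw [Submodule.smul_le]
      intro a ha x hx
      have hle : Submodule.span W (Set.range fun s : ↥({s | star ∈ s} :
            Set (Set.powersetCard I r)) => b.exteriorPower r s) ≤
          (Submodule.span W (Set.range fun q : Fin r → Q =>
            exteriorPower.ιMulti W r (fun i => (q i : P)))).comap (LinearMap.lsmul W _ a) := by
        rw [Submodule.span_le]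
        rintro _ ⟨⟨s, hs⟩, rfl⟩
        show a • (b.exteriorPower r s) ∈ Submodule.span W _
        obtain ⟨k, hk⟩ := (Set.powersetCard.mem_range_ofFinEmbEquiv_symm_iff_mem s star).mpr hs
        have hupd : a • b.exteriorPower r s =
            exteriorPower.ιMulti W r (Function.update
              (fun j => b ((Set.powersetCard.ofFinEmbEquiv.symm s) j)) k
              (a • b ((Set.powersetCard.ofFinEmbEquiv.symm s) k))) := by
          rw [AlternatingMap.map_update_smul, Function.update_eq_self]
          exact congrArg (a • ·) (exteriorPower.basis_apply W r b s)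
        have hmem : ∀ j, Function.update
              (fun j => b ((Set.powersetCard.ofFinEmbEquiv.symm s) j)) k
              (a • b ((Set.powersetCard.ofFinEmbEquiv.symm s) k)) j ∈ Q := by
          intro j
          by_cases hj : j = k
          · rw [hj, Function.update_self, hk]
            exact hTQ (Submodule.smul_mem_smul ha h2)
          · rw [Function.update_of_ne hj]
            refine hLQ (h1 _ (fun h => hj ?_))
            exact (Set.powersetCard.ofFinEmbEquiv.symm s).injective (h.trans hk.symm)
        rw [hupd]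
        exact Submodule.subset_span ⟨fun j => ⟨_, hmem j⟩, rfl⟩
      exact hle hx

theorem isCompl_parts (b : Basis I W P) (star : I) (r : ℕ) :
    IsCompl
      (Submodule.span W (Set.range fun s : ↥({s | star ∉ s} : Set (Set.powersetCard I r)) =>
        b.exteriorPower r s))
      (Submodule.span W (Set.range fun s : ↥({s | star ∈ s} : Set (Set.powersetCard I r)) =>
        b.exteriorPower r s)) := by
  constructor
  · have hd := (b.exteriorPower r).linearIndependent.disjoint_span_image
      (s := ({s | star ∉ s} : Set (Set.powersetCard I r))) (t := {s | star ∈ s})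
      (Set.disjoint_left.mpr (fun s h1 h2 => h1 h2))
    rw [Set.image_eq_range, Set.image_eq_range] at hd
    exact hd
  · rw [codisjoint_iff, ← Submodule.span_union, eq_top_iff, ← (b.exteriorPower r).span_eq]
    apply Submodule.span_mono
    rintro _ ⟨s, rfl⟩
    by_cases hs : star ∈ s
    · exact Or.inr ⟨⟨s, hs⟩, rfl⟩
    · exact Or.inl ⟨⟨s, hs⟩, rfl⟩

lemma card_star (star : I) (r m : ℕ) (hr : 1 ≤ r) (hI : Fintype.card I = m + 1) :
    Nat.card ↥({s | star ∈ s} : Set (Set.powersetCard I r)) = m.choose (r - 1) := by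
  classical
  let e : ↥({s | star ∈ s} : Set (Set.powersetCard I r)) ≃
      {t : Finset I // t.card = r ∧ star ∈ t} :=
    { toFun := fun s => ⟨s.1.1, Set.powersetCard.mem_iff.mp s.1.2, s.2⟩
      invFun := fun t => ⟨⟨t.1, Set.powersetCard.mem_iff.mpr t.2.1⟩, t.2.2⟩
      left_inv := fun s => rfl
      right_inv := fun t => rfl }
  rw [Nat.card_congr e, Nat.card_eq_fintype_card,
    Fintype.card_of_subtype (((Finset.univ : Finset I).powersetCard r).filter (fun t => star ∈ t))
      (fun t => by
        simp only [Finset.mem_filter, Finset.mem_powersetCard, Finset.subset_univ, true_and])]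
  have hsplit := Finset.card_filter_add_card_filter_not
    (s := (Finset.univ : Finset I).powersetCard r) (fun t => star ∈ t)
  have hneg : ((Finset.univ : Finset I).powersetCard r).filter (fun t => ¬ star ∈ t) =
      ((Finset.univ : Finset I).erase star).powersetCard r := by
    ext t
    simp only [Finset.mem_filter, Finset.mem_powersetCard, Finset.subset_erase]
    tauto
  rw [hneg, Finset.card_powersetCard, Finset.card_powersetCard,
    Finset.card_erase_of_mem (Finset.mem_univ _), Finset.card_univ, hI] at hsplit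
  obtain ⟨k, rfl⟩ : ∃ k, r = k + 1 := ⟨r - 1, by omega⟩
  rw [Nat.add_sub_cancel] at hsplit ⊢
  rw [Nat.choose_succ_succ'] at hsplit
  omega

theorem free_finrank_with [Nontrivial W] (b : Basis I W P) (star : I) (r m : ℕ) (hr : 1 ≤ r)
    (hI : Fintype.card I = m + 1) :
    Module.Free W ↥(Submodule.span W (Set.range fun s : ↥({s | star ∈ s} :
        Set (Set.powersetCard I r)) => b.exteriorPower r s)) ∧
    Module.finrank W ↥(Submodule.span W (Set.range fun s : ↥({s | star ∈ s} :
        Set (Set.powersetCard I r)) => b.exteriorPower r s)) = m.choose (r - 1) := by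
  have hli : LinearIndependent W (fun s : ↥({s | star ∈ s} : Set (Set.powersetCard I r)) =>
      b.exteriorPower r s) :=
    (b.exteriorPower r).linearIndependent.comp _ Subtype.val_injective
  exact ⟨Module.Free.of_basis (Basis.span hli),
    (Module.finrank_eq_nat_card_basis (Basis.span hli)).trans (card_star star r m hr hI)⟩

end core

open W4c1extbt610

theorem main (p : ℕ) [Fact p.Prime] (R : Type*) [CommRing R] [Nontrivial R]
    (P : Type*) [AddCommGroup P] [Module (WittVector p R) P] (D : Display3n p R P) (m : ℕ)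
    (L T : Submodule (WittVector p R) P) (hLT : IsCompl L T) (hQ : D.Q = L ⊔ IV p R • T)
    (hL : Module.Free (WittVector p R) L) (hLr : Module.finrank (WittVector p R) L = m)
    (hT : Nonempty (T ≃ₗ[WittVector p R] WittVector p R))
    (r : ℕ) (hr : 1 ≤ r) (E : Display3n p R (⋀[WittVector p R]^r P)) (hE : IsExtPow D r E) :
    ∃ L' T' : Submodule (WittVector p R) (⋀[WittVector p R]^r P), IsCompl L' T' ∧
      E.Q = L' ⊔ IV p R • T' ∧ Module.Free (WittVector p R) T' ∧
      Module.finrank (WittVector p R) T' = m.choose (r - 1) := by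
  classical
  haveI := D.finite
  haveI : Module.Finite (WittVector p R) L :=
    Module.Finite.of_surjective (Submodule.projectionOnto L T hLT)
      (Submodule.projectionOnto_surjective hLT)
  obtain ⟨e⟩ := hT
  let bL : Basis (Fin m) (WittVector p R) L := Module.finBasisOfFinrankEq _ _ hLr
  let bT : Basis (Fin 1) (WittVector p R) T :=
    (Basis.singleton (Fin 1) (WittVector p R)).map e.symm
  let b : Basis (Fin (m + 1)) (WittVector p R) P :=
    ((bL.prod bT).map (Submodule.prodEquivOfIsCompl L T hLT)).reindex finSumFinEquiv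
  let star : Fin (m + 1) := finSumFinEquiv (Sum.inr 0)
  have h1 : ∀ i, i ≠ star → b i ∈ L := by
    intro i hi
    obtain ⟨x, rfl⟩ := finSumFinEquiv.surjective i
    rcases x with j | k
    · have hbj : b (finSumFinEquiv (Sum.inl j)) = (bL j : P) := by
        simp [b]
      rw [hbj]
      exact (bL j).2
    · exfalso
      apply hi
      have hk0 : k = 0 := Subsingleton.elim _ _
      rw [hk0]
  have h2 : b star ∈ T := by
    have hbs : b star = (bT 0 : P) := by
      simp [b, star]
    rw [hbs]
    exact (bT 0).2
  have h3 : ∀ x ∈ L, b.repr x star = 0 := by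
    intro x hx
    have hsx : (Submodule.prodEquivOfIsCompl L T hLT).symm x = (⟨x, hx⟩, 0) :=
      Submodule.prodEquivOfIsCompl_symm_apply_left L T hLT ⟨x, hx⟩
    simp [b, star, hsx]
  refine ⟨_, _, isCompl_parts b star r, ?_, ?_⟩
  · rw [hE.1]
    exact span_wedge_eq b star (IV p R) L T D.Q r h1 h2 h3 hQ
  · exact free_finrank_with b star r m hr (by simp)

end Groth.Agent.H4.DispExt
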