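import Mathlib
import Groth.Prelude.Def_TrivBC
import Groth.Prelude.Def_DTen4

set_option autoImplicit false
universe u
open CategoryTheory Category Limits

namespace Groth.Agent.H4.TB1

attribute [local instance] HasDerivedCategory.standard

open DRing DerivedCategory

section General

variable {R A R' A' : Type u} [CommRing R] [CommRing A] [CommRing R'] [CommRing A']
  {φ : R →+* A} {ρ : R →+* R'} {α : A →+* A'} {φ' : R' →+* A'}
  (h : α.comp φ = φ'.comp ρ)

/-- the comparison map for arbitrary left adjoints of the restriction functors. -/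
noncomputable def cmpG {Lρ : Dual.D R ⥤ Dual.D R'} {Lα : Dual.D A ⥤ Dual.D A'}
    (adjρ : Lρ ⊣ DRing.restrictD ρ) (adjα : Lα ⊣ DRing.restrictD α) (K : Dual.D A) :
    Lρ.obj ((DRing.restrictD φ).obj K) ⟶ (DRing.restrictD φ').obj (Lα.obj K) :=
  (adjρ.homEquiv _ _).symm
    ((DRing.restrictD φ).map (adjα.unit.app K) ≫ (TrivBC.resComm h).hom.app (Lα.obj K))

lemma cmp_eq_cmpG [DRing.HasLBaseChange ρ] [DRing.HasLBaseChange α]
    (adjρ : DRing.LBaseChange ρ ⊣ DRing.restrictD ρ) (adjα : DRing.LBaseChange α ⊣ DRing.restrictD α)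
    (K : Dual.D A) : TrivBC.cmp adjρ adjα h K = cmpG h adjρ adjα K := rfl

lemma homEquiv_cmpG {Lρ : Dual.D R ⥤ Dual.D R'} {Lα : Dual.D A ⥤ Dual.D A'}
    (adjρ : Lρ ⊣ DRing.restrictD ρ) (adjα : Lα ⊣ DRing.restrictD α) (K : Dual.D A) :
    adjρ.homEquiv _ _ (cmpG h adjρ adjα K) =
      (DRing.restrictD φ).map (adjα.unit.app K) ≫ (TrivBC.resComm h).hom.app (Lα.obj K) :=
  Equiv.apply_symm_apply _ _

lemma unit_comp_cmpG {Lρ : Dual.D R ⥤ Dual.D R'} {Lα : Dual.D A ⥤ Dual.D A'}
    (adjρ : Lρ ⊣ DRing.restrictD ρ) (adjα : Lα ⊣ DRing.restrictD α) (K : Dual.D A) :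
    adjρ.unit.app _ ≫ (DRing.restrictD ρ).map (cmpG h adjρ adjα K) =
      (DRing.restrictD φ).map (adjα.unit.app K) ≫ (TrivBC.resComm h).hom.app (Lα.obj K) := by
  have := homEquiv_cmpG h adjρ adjα K
  rw [Adjunction.homEquiv_unit] at this
  exact this

/-- naturality of the comparison map. -/
lemma cmpG_naturality {Lρ : Dual.D R ⥤ Dual.D R'} {Lα : Dual.D A ⥤ Dual.D A'}
    (adjρ : Lρ ⊣ DRing.restrictD ρ) (adjα : Lα ⊣ DRing.restrictD α) {K K' : Dual.D A} (f : K ⟶ K') :
    Lρ.map ((DRing.restrictD φ).map f) ≫ cmpG h adjρ adjα K' =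
      cmpG h adjρ adjα K ≫ (DRing.restrictD φ').map (Lα.map f) := by
  apply (adjρ.homEquiv _ _).injective
  rw [Adjunction.homEquiv_naturality_left, Adjunction.homEquiv_naturality_right, homEquiv_cmpG,
    homEquiv_cmpG]
  have h1 := adjα.unit.naturality f
  have h2 := (TrivBC.resComm h).hom.naturality (Lα.map f)
  dsimp at h1 h2
  rw [← assoc, ← Functor.map_comp, h1, Functor.map_comp, assoc, assoc, h2]

/-- the comparison as a natural transformation. -/
noncomputable def cmpNat {Lρ : Dual.D R ⥤ Dual.D R'} {Lα : Dual.D A ⥤ Dual.D A'}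
    (adjρ : Lρ ⊣ DRing.restrictD ρ) (adjα : Lα ⊣ DRing.restrictD α) :
    DRing.restrictD φ ⋙ Lρ ⟶ Lα ⋙ DRing.restrictD φ' where
  app K := cmpG h adjρ adjα K
  naturality _ _ f := cmpG_naturality h adjρ adjα f

/-- change of the adjunction data. -/
lemma cmpG_change {Lρ Lρ₂ : Dual.D R ⥤ Dual.D R'} {Lα Lα₂ : Dual.D A ⥤ Dual.D A'}
    (adjρ : Lρ ⊣ DRing.restrictD ρ) (adjα : Lα ⊣ DRing.restrictD α)
    (adjρ₂ : Lρ₂ ⊣ DRing.restrictD ρ) (adjα₂ : Lα₂ ⊣ DRing.restrictD α) (K : Dual.D A) :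
    cmpG h adjρ₂ adjα₂ K =
      (adjρ₂.leftAdjointUniq adjρ).hom.app _ ≫ cmpG h adjρ adjα K ≫
        (DRing.restrictD φ').map ((adjα.leftAdjointUniq adjα₂).hom.app K) := by
  apply (adjρ₂.homEquiv _ _).injective
  rw [homEquiv_cmpG, Adjunction.homEquiv_unit, Functor.map_comp, Functor.map_comp,
    Adjunction.unit_leftAdjointUniq_hom_app_assoc, ← assoc, unit_comp_cmpG]
  have h2 := (TrivBC.resComm h).hom.naturality ((adjα.leftAdjointUniq adjα₂).hom.app K)
  dsimp at h2
  rw [assoc, ← h2, ← assoc, ← Functor.map_comp, Adjunction.unit_leftAdjointUniq_hom_app]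

lemma isIso_cmpG_iff {Lρ Lρ₂ : Dual.D R ⥤ Dual.D R'} {Lα Lα₂ : Dual.D A ⥤ Dual.D A'}
    (adjρ : Lρ ⊣ DRing.restrictD ρ) (adjα : Lα ⊣ DRing.restrictD α)
    (adjρ₂ : Lρ₂ ⊣ DRing.restrictD ρ) (adjα₂ : Lα₂ ⊣ DRing.restrictD α) (K : Dual.D A) :
    IsIso (cmpG h adjρ₂ adjα₂ K) ↔ IsIso (cmpG h adjρ adjα K) := by
  rw [cmpG_change h adjρ adjα adjρ₂ adjα₂ K]
  constructor
  · intro hh
    have h1 := (isIso_comp_left_iff _ _).1 hh
    exact (isIso_comp_right_iff _ _).1 h1
  · intro hh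
    infer_instance

end General

section ResComm

variable {R A R' A' : Type u} [CommRing R] [CommRing A] [CommRing R'] [CommRing A']
  {φ : R →+* A} {ρ : R →+* R'} {α : A →+* A'} {φ' : R' →+* A'}
  (h : α.comp φ = φ'.comp ρ)

/-- the complex-level commutation of restrictions. -/
noncomputable def cCx (Z : DRing.Cx A') :
    (DTen.resCx φ).obj ((DTen.resCx α).obj Z) ⟶ (DTen.resCx ρ).obj ((DTen.resCx φ').obj Z) :=
  ((Functor.mapHomologicalComplexCompIso (TrivBC.resCommMod h) (ComplexShape.up ℤ)).hom.app Z) ≫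
    ((Functor.mapHomologicalComplexCompIso
      (Iso.refl (ModuleCat.restrictScalars.{u} φ' ⋙ ModuleCat.restrictScalars.{u} ρ))
        (ComplexShape.up ℤ)).inv.app Z)

lemma cCx_f (Z : DRing.Cx A') (i : ℤ) :
    (cCx h Z).f i = (TrivBC.resCommMod h).hom.app (Z.X i) := by
  dsimp [cCx]
  erw [comp_id]
  rfl

lemma resCommCx_hom_app (Z : DRing.Cx A') :
    (TrivBC.resCommCx h).hom.app Z = DerivedCategory.Q.map (cCx h Z) := by
  dsimp [TrivBC.resCommCx, cCx]
  simp

lemma liftingRes₂_iso_hom_app {B C E : Type u} [CommRing B] [CommRing C] [CommRing E] (g : C →+* E)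
    (f : B →+* C) (Z : DRing.Cx E) :
    (@Localization.Lifting.iso _ _ _ _ _ _ (DerivedCategory.Q (C := ModuleCat.{u} E))
      (HomologicalComplex.quasiIso (ModuleCat.{u} E) (ComplexShape.up ℤ)) _ _
      (TrivBC.liftingRes₂ g f)).hom.app Z =
      (DRing.restrictD f).map ((DTen.resFactors g).hom.app Z) ≫
        (DTen.resFactors f).hom.app ((DTen.resCx g).obj Z) := by
  change ((Functor.associator _ _ _).symm ≪≫
    Functor.isoWhiskerRight (ModuleCat.restrictScalars.{u} g).mapDerivedCategoryFactors _ ≪≫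
      Functor.associator _ _ _ ≪≫
        Functor.isoWhiskerLeft _ (ModuleCat.restrictScalars.{u} f).mapDerivedCategoryFactors).hom.app Z = _
  dsimp
  rw [id_comp, id_comp]

lemma liftingRes₂_iso_inv_app {B C E : Type u} [CommRing B] [CommRing C] [CommRing E] (g : C →+* E)
    (f : B →+* C) (Z : DRing.Cx E) :
    (@Localization.Lifting.iso _ _ _ _ _ _ (DerivedCategory.Q (C := ModuleCat.{u} E))
      (HomologicalComplex.quasiIso (ModuleCat.{u} E) (ComplexShape.up ℤ)) _ _
      (TrivBC.liftingRes₂ g f)).inv.app Z =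
      (DTen.resFactors f).inv.app ((DTen.resCx g).obj Z) ≫
        (DRing.restrictD f).map ((DTen.resFactors g).inv.app Z) := by
  change ((Functor.associator _ _ _).symm ≪≫
    Functor.isoWhiskerRight (ModuleCat.restrictScalars.{u} g).mapDerivedCategoryFactors _ ≪≫
      Functor.associator _ _ _ ≪≫
        Functor.isoWhiskerLeft _ (ModuleCat.restrictScalars.{u} f).mapDerivedCategoryFactors).inv.app Z = _
  dsimp
  rw [comp_id, comp_id]

lemma resComm_hom_app_Q (Z : DRing.Cx A') :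
    (TrivBC.resComm h).hom.app (DerivedCategory.Q.obj Z) =
      (DRing.restrictD φ).map ((DTen.resFactors α).hom.app Z) ≫
        (DTen.resFactors φ).hom.app ((DTen.resCx α).obj Z) ≫
        DerivedCategory.Q.map (cCx h Z) ≫
        (DTen.resFactors ρ).inv.app ((DTen.resCx φ').obj Z) ≫
        (DRing.restrictD ρ).map ((DTen.resFactors φ').inv.app Z) := by
  dsimp only [TrivBC.resComm, Localization.liftNatIso]
  rw [Localization.liftNatTrans_app, resCommCx_hom_app]
  erw [liftingRes₂_iso_hom_app, liftingRes₂_iso_inv_app]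
  simp only [assoc]

end ResComm

section P0

variable {R A R' A' : Type u} [CommRing R] [CommRing A] [CommRing R'] [CommRing A']
  {φ : R →+* A} {ρ : R →+* R'} {α : A →+* A'} {φ' : R' →+* A'}
  (h : α.comp φ = φ'.comp ρ)

/-- the unit characterisation of the module-level comparison `sqτ₀`. -/
lemma sqτ₀_unit (M : ModuleCat.{u} A) :
    (ModuleCat.extendRestrictScalarsAdj.{u, u, u} ρ).unit.app
        ((ModuleCat.restrictScalars.{u} φ).obj M) ≫
      (ModuleCat.restrictScalars.{u} ρ).map ((DTen.sqτ₀ φ ρ φ' α h).app M) =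
    (ModuleCat.restrictScalars.{u} φ).map
        ((ModuleCat.extendRestrictScalarsAdj.{u, u, u} α).unit.app M) ≫
      (TrivBC.resCommMod h).hom.app ((ModuleCat.extendScalars.{u, u, u} α).obj M) := by
  have h1 := (((ModuleCat.extendRestrictScalarsAdj.{u, u, u} ρ).whiskerRight
    (ModuleCat.{u} A)).homEquiv (ModuleCat.restrictScalars.{u} φ)
      (ModuleCat.extendScalars.{u, u, u} α ⋙ ModuleCat.restrictScalars.{u} φ')).apply_symm_apply
    ((ModuleCat.restrictScalars.{u} φ).leftUnitor.inv ≫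
      Functor.whiskerRight (ModuleCat.extendRestrictScalarsAdj.{u, u, u} α).unit
        (ModuleCat.restrictScalars.{u} φ) ≫
      (Functor.associator _ _ _).hom ≫
      Functor.whiskerLeft (ModuleCat.extendScalars.{u, u, u} α)
        ((ModuleCat.restrictScalarsComp' φ α (α.comp φ) rfl).inv ≫
          (ModuleCat.restrictScalarsComp' ρ φ' (α.comp φ) h).hom) ≫
      (Functor.associator _ _ _).inv)
  rw [Adjunction.homEquiv_unit] at h1
  have h2 := NatTrans.congr_app h1 M
  dsimp [DTen.sqτ₀, Adjunction.whiskerRight, TrivBC.resCommMod] at h2 ⊢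
  simpa using h2

/-- the complex-level identity behind `cmp₀_Q`. -/
lemma unitCx_sqτ (K₀ : DRing.Cx A) :
    (DTen.unitCx ρ).app ((DTen.resCx φ).obj K₀) ≫
      (DTen.resCx ρ).map ((DTen.sqτ φ ρ φ' α h).app K₀) =
    (DTen.resCx φ).map ((DTen.unitCx α).app K₀) ≫ cCx h ((DTen.extCx α).obj K₀) := by
  refine HomologicalComplex.hom_ext _ _ (fun i => ?_)
  rw [HomologicalComplex.comp_f, HomologicalComplex.comp_f, cCx_f]
  exact sqτ₀_unit h (K₀.X i)

end P0


section P0b

variable {R A R' A' : Type u} [CommRing R] [CommRing A] [CommRing R'] [CommRing A']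
  {φ : R →+* A} {ρ : R →+* R'} {α : A →+* A'} {φ' : R' →+* A'}
  (h : α.comp φ = φ'.comp ρ)

lemma baseγ_resFactors {R A : Type u} [CommRing R] [CommRing A] (φ : R →+* A) [DTen.HasLBase φ]
    (P : DRing.Cx R) :
    (DTen.baseγ φ).app P ≫ (DTen.resFactors φ).hom.app ((DTen.extCx φ).obj P) =
      DerivedCategory.Q.map ((DTen.unitCx φ).app P) := by
  dsimp [DTen.baseγ]
  rw [assoc, Iso.inv_hom_id_app]
  exact comp_id _

lemma homEquiv_baseCmp {R A : Type u} [CommRing R] [CommRing A] (φ : R →+* A) [DTen.HasLBase φ]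
    (P : DRing.Cx R) :
    (DTen.baseAdj φ).homEquiv _ _ ((DTen.baseCmp φ).app P) = (DTen.baseγ φ).app P := by
  rw [Adjunction.homEquiv_unit]
  exact DTen.baseCmp_fac φ P

/-- the comparison map on `Q`-objects, in terms of the termwise comparison. -/
lemma cmp₀_Q [DTen.HasLBase ρ] [DTen.HasLBase α] (K₀ : DRing.Cx A) :
    cmpG h (DTen.baseAdj ρ) (DTen.baseAdj α) (DerivedCategory.Q.obj K₀) ≫
      (DTen.sqβ₂ φ' α).app K₀ = (DTen.sqβ₁ φ ρ φ' α h).app K₀ := by
  apply ((DTen.baseAdj ρ).homEquiv _ _).injective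
  rw [Adjunction.homEquiv_naturality_right, homEquiv_cmpG]
  dsimp only [DTen.sqβ₁, DTen.sqβ₂]
  rw [Adjunction.homEquiv_naturality_left, Adjunction.homEquiv_naturality_right]
  erw [homEquiv_baseCmp]
  have h1 := (TrivBC.resComm h).hom.naturality ((DTen.baseCmp α).app K₀)
  dsimp at h1
  rw [Functor.map_comp, assoc, ← reassoc_of% h1, ← Functor.map_comp_assoc]
  have h2 := DTen.baseCmp_fac α K₀
  dsimp at h2
  rw [h2, resComm_hom_app_Q]
  have h3 : (DTen.baseγ α).app K₀ = DerivedCategory.Q.map ((DTen.unitCx α).app K₀) ≫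
      (DTen.resFactors α).inv.app ((DTen.extCx α).obj K₀) := rfl
  have h4 : (DTen.baseγ ρ).app ((DTen.resCx φ).obj K₀) =
      DerivedCategory.Q.map ((DTen.unitCx ρ).app ((DTen.resCx φ).obj K₀)) ≫
      (DTen.resFactors ρ).inv.app ((DTen.extCx ρ).obj ((DTen.resCx φ).obj K₀)) := rfl
  rw [h3, h4]
  simp only [assoc]
  rw [← Functor.map_comp_assoc (DRing.restrictD φ), assoc, Iso.inv_hom_id_app]
  erw [comp_id]
  rw [← Functor.map_comp (DRing.restrictD ρ), Iso.inv_hom_id_app]
  erw [CategoryTheory.Functor.map_id, comp_id]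
  have h5 := (DTen.resFactors φ).hom.naturality ((DTen.unitCx α).app K₀)
  have h6 := (DTen.resFactors ρ).inv.naturality ((DTen.sqτ φ ρ φ' α h).app K₀)
  dsimp at h5 h6
  rw [reassoc_of% h5, ← h6, ← Functor.map_comp_assoc, ← Functor.map_comp_assoc, unitCx_sqτ]

end P0b

end Groth.Agent.H4.TB1
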