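import Mathlib
import Groth.Agent.H4.LK7
import Groth.Agent.H4.RB2

/-!
# The right-handed projection formula
-/

open CategoryTheory Category Limits MonoidalCategory

universe u

namespace Groth.Agent.H4.TB5

variable {R A : Type u} [CommRing R] [CommRing A] (φ : R →+* A)

open DTen Groth.Agent.H4.LK7

/-- the right-handed projection-formula map on modules -/
noncomputable def pfR (N : ModuleCat.{u} R) (M : ModuleCat.{u} A) :
    N ⊗ (resM φ).obj M ⟶ (resM φ).obj ((ModuleCat.extendScalars.{u, u, u} φ).obj N ⊗ M) :=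
  ((ModuleCat.extendRestrictScalarsAdj.{u, u, u} φ).unit.app N ▷ (resM φ).obj M) ≫
    resTen₀app φ ((ModuleCat.extendScalars.{u, u, u} φ).obj N) M

lemma pfR_eq (N : ModuleCat.{u} R) (M : ModuleCat.{u} A) :
    pfR φ N M = (β_ N ((resM φ).obj M)).hom ≫ pf φ M N ≫
      (resM φ).map (β_ M ((ModuleCat.extendScalars.{u, u, u} φ).obj N)).hom :=
  ModuleCat.hom_ext (TensorProduct.ext' (fun _ _ => rfl))

instance isIso_pfR (N : ModuleCat.{u} R) (M : ModuleCat.{u} A) : IsIso (pfR φ N M) := by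
  rw [pfR_eq]
  infer_instance

section Complexes

open Groth.Agent.H4.TC3 Groth.Agent.H4.TC4

/-- the right-handed projection formula map on complexes -/
noncomputable def pfCxR (K : Cx R) (L : Cx A) :
    K ⊗ (resCx φ).obj L ⟶ (resCx φ).obj ((extCx φ).obj K ⊗ L) :=
  ((unitCx φ).app K ▷ (resCx φ).obj L) ≫ resTenCx φ ((extCx φ).obj K) L

lemma ι_pfCxR (K : Cx R) (L : Cx A) (p q n : ℤ) (h : p + q = n) :
    HomologicalComplex.ιTensorObj K ((resCx φ).obj L) p q n h ≫ (pfCxR φ K L).f n =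
      pfR φ (K.X p) (L.X q) ≫
        (resM φ).map (HomologicalComplex.ιTensorObj ((extCx φ).obj K) L p q n h) := by
  dsimp only [pfCxR]
  rw [HomologicalComplex.comp_f]
  have h1 : HomologicalComplex.ιTensorObj K ((resCx φ).obj L) p q n h ≫
      ((unitCx φ).app K ▷ (resCx φ).obj L).f n =
      (((unitCx φ).app K).f p ▷ ((resCx φ).obj L).X q) ≫
        HomologicalComplex.ιTensorObj ((resCx φ).obj ((extCx φ).obj K)) ((resCx φ).obj L) p q n h := by
    have := HomologicalComplex.ι_mapBifunctorMap ((unitCx φ).app K) (𝟙 ((resCx φ).obj L))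
      (curriedTensor (ModuleCat.{u} R)) (ComplexShape.up ℤ) p q n h
    rw [HomologicalComplex.id_f, CategoryTheory.Functor.map_id, id_comp] at this
    exact this
  rw [reassoc_of% h1, ι_resTenCx φ ((extCx φ).obj K) L p q n h]
  exact (assoc _ _ _).symm

/-- the tensor bicomplex of `(K, res L)` -/
noncomputable abbrev B₁R (K : Cx R) (L : Cx A) :
    HomologicalComplex₂ (ModuleCat.{u} R) (ComplexShape.up ℤ) (ComplexShape.up ℤ) :=
  tenBicx K ((resCx φ).obj L)

/-- `res` of the tensor bicomplex of `(ext K, L)` -/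
noncomputable abbrev B₂R (K : Cx R) (L : Cx A) :
    HomologicalComplex₂ (ModuleCat.{u} R) (ComplexShape.up ℤ) (ComplexShape.up ℤ) :=
  (TotMap.map₂ (resM φ) (ComplexShape.up ℤ) (ComplexShape.up ℤ)).obj
    (tenBicx ((extCx φ).obj K) L)

/-- the termwise isomorphism of graded objects -/
noncomputable def γR (K : Cx R) (L : Cx A) :
    (B₁R φ K L).toGradedObject ≅ (B₂R φ K L).toGradedObject :=
  GradedObject.isoMk _ _ (fun i => @asIso _ _ _ _ (pfR φ (K.X i.1) (L.X i.2)) (isIso_pfR φ _ _))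

lemma γR_hom (K : Cx R) (L : Cx A) (p q : ℤ) :
    (γR φ K L).hom (p, q) = pfR φ (K.X p) (L.X q) := rfl

lemma pfCxR_f_eq (K : Cx R) (L : Cx A) (n : ℤ) :
    (pfCxR φ K L).f n =
      GradedObject.mapMap (γR φ K L).hom
        (ComplexShape.π (ComplexShape.up ℤ) (ComplexShape.up ℤ) (ComplexShape.up ℤ)) n ≫
      (TotMap.mapTotalXIso (resM φ) (tenBicx ((extCx φ).obj K) L) (ComplexShape.up ℤ) n).inv := by
  refine HomologicalComplex.mapBifunctor.hom_ext (fun p q h => ?_)
  have h1 := ι_pfCxR φ K L p q n h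
  refine h1.trans ?_
  have h2 := GradedObject.ι_mapMap (γR φ K L).hom
    (ComplexShape.π (ComplexShape.up ℤ) (ComplexShape.up ℤ) (ComplexShape.up ℤ)) ⟨p, q⟩ n h
  have h3 := TotMap.ιTotal_mapTotalXIso_inv (resM φ) (tenBicx ((extCx φ).obj K) L)
    (ComplexShape.up ℤ) p q n h
  erw [reassoc_of% h2]
  erw [h3]
  rw [γR_hom]
  rfl

lemma isIso_mapMap_γR (K : Cx R) (L : Cx A) (n : ℤ) :
    IsIso (GradedObject.mapMap (γR φ K L).hom
      (ComplexShape.π (ComplexShape.up ℤ) (ComplexShape.up ℤ) (ComplexShape.up ℤ)) n) := by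
  refine ⟨GradedObject.mapMap (γR φ K L).inv
      (ComplexShape.π (ComplexShape.up ℤ) (ComplexShape.up ℤ) (ComplexShape.up ℤ)) n, ?_, ?_⟩
  · have := congrFun (GradedObject.mapMap_comp (γR φ K L).hom (γR φ K L).inv
      (ComplexShape.π (ComplexShape.up ℤ) (ComplexShape.up ℤ) (ComplexShape.up ℤ))) n
    rw [Iso.hom_inv_id] at this
    exact this.symm.trans (congrFun (GradedObject.mapMap_id _ _) n)
  · have := congrFun (GradedObject.mapMap_comp (γR φ K L).inv (γR φ K L).hom
      (ComplexShape.π (ComplexShape.up ℤ) (ComplexShape.up ℤ) (ComplexShape.up ℤ))) n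
    rw [Iso.inv_hom_id] at this
    exact this.symm.trans (congrFun (GradedObject.mapMap_id _ _) n)

instance isIso_pfCxR_f (K : Cx R) (L : Cx A) (n : ℤ) : IsIso ((pfCxR φ K L).f n) := by
  rw [pfCxR_f_eq]
  haveI := isIso_mapMap_γR φ K L n
  infer_instance

instance isIso_pfCxR (K : Cx R) (L : Cx A) : IsIso (pfCxR φ K L) :=
  HomologicalComplex.Hom.isIso_of_components _

end Complexes


section PFr

open DTen
open Groth.Agent.H4.LK1 Groth.Agent.H4.LK2 Groth.Agent.H4.LK3 Groth.Agent.H4.LK4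
open Groth.Agent.H4.LK6 Groth.Agent.H4.LK7 Groth.Agent.H4.LK8
open Groth.Agent.H4.TC3 Groth.Agent.H4.TC4 Groth.Agent.H4.RB1 Groth.Agent.H4.RB2

attribute [local instance] HasDerivedCategory.standard

variable {R R' : Type u} [CommRing R] [CommRing R'] (φ : R →+* R')
variable [HasLTen R] [HasLTen R'] [HasLBase φ] [HasResTen φ] [ResLegIso φ]

/-- the right-handed projection formula map `K ⊗ res E ⟶ res (LK ⊗ E)`. -/
noncomputable def projPFr (K : Dual.D R) (E : Dual.D R') :
    (LTen₂ R).obj (K, (DRing.restrictD φ).obj E) ⟶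
      (DRing.restrictD φ).obj ((LTen₂ R').obj ((LBase φ).obj K, E)) :=
  (LTen₂ R).map (Prod.mkHom ((baseAdj φ).unit.app K) (𝟙 _)) ≫ (resPF φ).app ((LBase φ).obj K, E)

lemma projPFr_naturality {E E' : Dual.D R'} {K K' : Dual.D R} (g : K ⟶ K') (f : E ⟶ E') :
    (LTen₂ R).map (Prod.mkHom g ((DRing.restrictD φ).map f)) ≫ projPFr φ K' E' =
      projPFr φ K E ≫ (DRing.restrictD φ).map
        ((LTen₂ R').map (Prod.mkHom ((LBase φ).map g) f)) := by
  dsimp only [projPFr]
  have h1 := (resPF φ).naturality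
    (Prod.mkHom ((LBase φ).map g) f : ((LBase φ).obj K, E) ⟶ ((LBase φ).obj K', E'))
  have h3 := (baseAdj φ).unit.naturality g
  dsimp at h1 h3
  rw [assoc, ← h1, ← assoc, ← assoc, ← Functor.map_comp, ← Functor.map_comp]
  congr 2
  simp only [prod_comp, Prod.mkHom]
  refine Prod.ext ?_ ?_
  · exact h3
  · dsimp
    rw [comp_id, id_comp]

lemma projPFr_Q (P : Cx R) (Y : Cx R') :
    projPFr φ (DerivedCategory.Q.obj P) (DerivedCategory.Q.obj Y) ≫
      (DRing.restrictD φ).map ((LTen₂ R').map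
        (Prod.mkHom ((baseCmp φ).app P) (𝟙 (DerivedCategory.Q.obj Y)))) ≫
      (resβB φ).app ((extCx φ).obj P, Y) =
    (LTen₂ R).map (Prod.mkHom (𝟙 (DerivedCategory.Q.obj P)) ((resFactors φ).hom.app Y)) ≫
      (ε R).app (P, (resCx φ).obj Y) ≫ DerivedCategory.Q.map (pfCxR φ P Y) := by
  dsimp only [projPFr]
  have h1 := (resPF φ).naturality
    (Prod.mkHom ((baseCmp φ).app P) (𝟙 (DerivedCategory.Q.obj Y)) :
      ((LBase φ).obj (DerivedCategory.Q.obj P), DerivedCategory.Q.obj Y) ⟶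
        (DerivedCategory.Q.obj ((extCx φ).obj P), DerivedCategory.Q.obj Y))
  have h2 := resPF_fac φ ((extCx φ).obj P, Y)
  have h4 := baseCmp_fac φ P
  have h5 := (ε R).naturality (Prod.mkHom ((unitCx φ).app P) (𝟙 ((resCx φ).obj Y)) :
    (P, (resCx φ).obj Y) ⟶ ((resCx φ).obj ((extCx φ).obj P), (resCx φ).obj Y))
  dsimp at h1 h2 h4 h5
  rw [assoc, ← reassoc_of% h1, h2]
  have h6 : ∀ P : Cx R, (baseγ φ).app P ≫ (resFactors φ).hom.app ((extCx φ).obj P) =
      DerivedCategory.Q.map ((unitCx φ).app P) := by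
    intro P
    dsimp [baseγ]
    rw [assoc, Iso.inv_hom_id_app]
    exact comp_id _
  have h7 : (resβA φ).app ((extCx φ).obj P, Y) =
      (LTen₂ R).map (Prod.mkHom ((resFactors φ).hom.app ((extCx φ).obj P))
        ((resFactors φ).hom.app Y)) ≫
      (ε R).app ((resCx φ).obj ((extCx φ).obj P), (resCx φ).obj Y) ≫
      DerivedCategory.Q.map (resTenCx φ ((extCx φ).obj P) Y) := rfl
  rw [h7, ← assoc, ← assoc, ← Functor.map_comp, ← Functor.map_comp]
  have h8 : (Prod.mkHom ((baseAdj φ).unit.app (DerivedCategory.Q.obj P))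
        (𝟙 ((DRing.restrictD φ).obj (DerivedCategory.Q.obj Y))) ≫
      Prod.mkHom ((DRing.restrictD φ).map ((baseCmp φ).app P))
        ((DRing.restrictD φ).map (𝟙 (DerivedCategory.Q.obj Y)))) ≫
      Prod.mkHom ((resFactors φ).hom.app ((extCx φ).obj P))
        ((resFactors φ).hom.app Y) =
      Prod.mkHom (𝟙 (DerivedCategory.Q.obj P)) ((resFactors φ).hom.app Y) ≫
      Prod.mkHom (DerivedCategory.Q.map ((unitCx φ).app P))
        (DerivedCategory.Q.map (𝟙 ((resCx φ).obj Y))) := by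
    simp only [prod_comp, Prod.mkHom]
    refine Prod.ext ?_ ?_
    · dsimp
      rw [h4, h6, id_comp]
    · dsimp
      rw [CategoryTheory.Functor.map_id, CategoryTheory.Functor.map_id, id_comp, id_comp, comp_id]
  rw [h8, Functor.map_comp, assoc, reassoc_of% h5, ← Functor.map_comp]
  congr 3
  dsimp only [pfCxR]
  rw [MonoidalCategory.whiskerLeft_id, comp_id]

theorem isIso_projPFr_Q (P : Cx R) (Y : Cx R') (hP : KFlat P) :
    IsIso (projPFr φ (DerivedCategory.Q.obj P) (DerivedCategory.Q.obj Y)) := by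
  haveI i1 : IsIso ((baseCmp φ).app P) := isIso_baseCmp_of_kflat φ P hP
  haveI i4 : IsIso ((ε R).app (P, (resCx φ).obj Y)) := isIso_ε_of_kflat P _ (Or.inl hP)
  haveI i5 : IsIso ((ε R').app ((extCx φ).obj P, Y)) :=
    isIso_ε_of_kflat _ _ (Or.inl (kflat_extCx φ P hP))
  haveI i6 : IsIso (Prod.mkHom ((baseCmp φ).app P) (𝟙 (DerivedCategory.Q.obj Y))) := by
    rw [isIso_prod_iff]
    exact ⟨i1, inferInstance⟩
  haveI i7 : IsIso (Prod.mkHom (𝟙 (DerivedCategory.Q.obj P)) ((resFactors φ).hom.app Y)) := by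
    rw [isIso_prod_iff]
    exact ⟨inferInstance, inferInstance⟩
  haveI i8 : IsIso ((resβB φ).app ((extCx φ).obj P, Y)) := by
    dsimp only [resβB]
    infer_instance
  have h := projPFr_Q φ P Y
  let I := (DRing.restrictD φ).map ((LTen₂ R').map
        (Prod.mkHom ((baseCmp φ).app P) (𝟙 (DerivedCategory.Q.obj Y)))) ≫
      (resβB φ).app ((extCx φ).obj P, Y)
  haveI : IsIso I := by dsimp only [I]; infer_instance
  have h' : projPFr φ (DerivedCategory.Q.obj P) (DerivedCategory.Q.obj Y) =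
      ((LTen₂ R).map (Prod.mkHom (𝟙 (DerivedCategory.Q.obj P)) ((resFactors φ).hom.app Y)) ≫
      (ε R).app (P, (resCx φ).obj Y) ≫ DerivedCategory.Q.map (pfCxR φ P Y)) ≫ inv I := by
    rw [← h]
    change _ = (_ ≫ I) ≫ inv I
    rw [assoc, IsIso.hom_inv_id, comp_id]
  rw [h']
  infer_instance

/-- **The right-handed projection formula.** -/
theorem isIso_projPFr (K : Dual.D R) (E : Dual.D R') : IsIso (projPFr φ K E) := by
  obtain ⟨P, -, -, hPf, ⟨e₂⟩⟩ := exists_kproj_kflat_iso K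
  let Y := DerivedCategory.Q.objPreimage E
  let e₁ : DerivedCategory.Q.obj Y ≅ E := DerivedCategory.Q.objObjPreimageIso E
  haveI := isIso_projPFr_Q φ P Y hPf
  have hn := projPFr_naturality φ e₂.hom e₁.hom
  haveI : IsIso (Prod.mkHom e₂.hom ((DRing.restrictD φ).map e₁.hom)) := by
    rw [isIso_prod_iff]; exact ⟨inferInstance, inferInstance⟩
  haveI : IsIso (Prod.mkHom ((LBase φ).map e₂.hom) e₁.hom) := by
    rw [isIso_prod_iff]; exact ⟨inferInstance, inferInstance⟩
  have : projPFr φ K E = inv ((LTen₂ R).map (Prod.mkHom e₂.hom ((DRing.restrictD φ).map e₁.hom))) ≫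
      projPFr φ _ _ ≫ (DRing.restrictD φ).map
        ((LTen₂ R').map (Prod.mkHom ((LBase φ).map e₂.hom) e₁.hom)) := by
    rw [← hn, IsIso.inv_hom_id_assoc]
  rw [this]
  infer_instance

end PFr

end Groth.Agent.H4.TB5
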