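import Mathlib
import Groth.Agent.H4.TB5
import Groth.Agent.H4.KI7

/-!
# The module action on restrictions and `res RHom(A, K) ≅ RHom_R(A, K)`
-/

open CategoryTheory Category Limits MonoidalCategory

universe u

namespace Groth.Agent.H4.TB6

open DTen Groth.Agent.H4.TB5 Groth.Agent.H4.RB1

attribute [local instance] HasDerivedCategory.standard

variable {R A : Type u} [CommRing R] [CommRing A] (φ : R →+* A)
variable [HasLTen R] [HasLTen A] [HasLBase φ] [HasResTen φ] [ResLegIso φ]

/-- the module action `res X ⊗ res A ⟶ res X`. -/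
noncomputable def act (X : Dual.D A) :
    (LTen₂ R).obj ((DRing.restrictD φ).obj X, (DRing.restrictD φ).obj (unit A)) ⟶
      (DRing.restrictD φ).obj X :=
  (resPF φ).app (X, unit A) ≫ (DRing.restrictD φ).map ((unitR A).app X)

omit [HasLBase φ] in
lemma act_naturality {X Y : Dual.D A} (f : X ⟶ Y) :
    (LTen₂ R).map (Prod.mkHom ((DRing.restrictD φ).map f)
      (𝟙 ((DRing.restrictD φ).obj (unit A)))) ≫ act φ Y =
      act φ X ≫ (DRing.restrictD φ).map f := by
  dsimp only [act]
  have h1 := (resPF φ).naturality (Prod.mkHom f (𝟙 (unit A)) : (X, unit A) ⟶ (Y, unit A))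
  have h2 := (unitR A).naturality f
  dsimp at h1 h2
  rw [CategoryTheory.Functor.map_id] at h1
  rw [reassoc_of% h1, assoc, ← Functor.map_comp, ← Functor.map_comp]
  congr 2

/-- the right-handed projection formula `Z ⊗ res A ⟶ res (LZ)`. -/
noncomputable def lam (Z : Dual.D R) :
    (LTen₂ R).obj (Z, (DRing.restrictD φ).obj (unit A)) ⟶
      (DRing.restrictD φ).obj ((LBase φ).obj Z) :=
  (LTen₂ R).map (Prod.mkHom ((baseAdj φ).unit.app Z) (𝟙 _)) ≫ act φ ((LBase φ).obj Z)

lemma lam_eq (Z : Dual.D R) :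
    lam φ Z = projPFr φ Z (unit A) ≫ (DRing.restrictD φ).map ((unitR A).app ((LBase φ).obj Z)) := by
  dsimp only [lam, act, projPFr]
  rw [assoc]

instance isIso_lam (Z : Dual.D R) : IsIso (lam φ Z) := by
  rw [lam_eq]
  haveI := isIso_projPFr φ Z (unit A)
  haveI := Groth.Agent.H4.KI7.isIso_unitR_app ((LBase φ).obj Z)
  infer_instance

section Kappa

variable [HasRHom R] {Rφ : Dual.D R ⥤ Dual.D A} (adj : DRing.restrictD φ ⊣ Rφ)

/-- the comparison `res (Rφ K) ⟶ RHom_R(res A, K)`. -/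
noncomputable def kap (K : Dual.D R) :
    (DRing.restrictD φ).obj (Rφ.obj K) ⟶ (RHomR R ((DRing.restrictD φ).obj (unit A))).obj K :=
  rhomHomEquiv _ _ _ (act φ (Rφ.obj K) ≫ adj.counit.app K)

omit [HasLBase φ] in
lemma kap_fac (K : Dual.D R) :
    (rhomHomEquiv _ _ _).symm (kap φ adj K) = act φ (Rφ.obj K) ≫ adj.counit.app K :=
  Equiv.symm_apply_apply _ _

lemma kap_key (K : Dual.D R) (Z : Dual.D R) (g : Z ⟶ (DRing.restrictD φ).obj (Rφ.obj K)) :
    (rhomHomEquiv _ _ _).symm (g ≫ kap φ adj K) =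
      lam φ Z ≫ (adj.homEquiv _ _).symm (((baseAdj φ).homEquiv _ _).symm g) := by
  have h0 : (rhomHomEquiv Z ((DRing.restrictD φ).obj (unit A)) K).symm (g ≫ kap φ adj K) =
      (LTen₂ R).map (Prod.mkHom g (𝟙 ((DRing.restrictD φ).obj (unit A)))) ≫
        (rhomHomEquiv _ _ _).symm (kap φ adj K) :=
    (rhomAdj R ((DRing.restrictD φ).obj (unit A))).homEquiv_naturality_left_symm g (kap φ adj K)
  rw [h0, kap_fac]
  set g' := ((baseAdj φ).homEquiv _ _).symm g with hg'
  have hg : g = (baseAdj φ).unit.app Z ≫ (DRing.restrictD φ).map g' := by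
    have := (baseAdj φ).homEquiv_unit (f := g')
    rw [← this, hg', Equiv.apply_symm_apply]
  rw [Adjunction.homEquiv_counit]
  dsimp only [lam]
  have h1 := act_naturality φ g'
  have h2 : Prod.mkHom g (𝟙 ((DRing.restrictD φ).obj (unit A))) =
      Prod.mkHom ((baseAdj φ).unit.app Z) (𝟙 ((DRing.restrictD φ).obj (unit A))) ≫
        Prod.mkHom ((DRing.restrictD φ).map g') (𝟙 ((DRing.restrictD φ).obj (unit A))) := by
    simp only [prod_comp, Prod.mkHom]
    refine Prod.ext ?_ ?_
    · exact hg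
    · dsimp
      rw [comp_id]
  rw [h2, Functor.map_comp, assoc, reassoc_of% h1, assoc]

theorem isIso_kap (K : Dual.D R) : IsIso (kap φ adj K) := by
  rw [isIso_iff_yoneda_map_bijective]
  intro Z
  have e : (fun g : Z ⟶ (DRing.restrictD φ).obj (Rφ.obj K) => g ≫ kap φ adj K) =
      (rhomHomEquiv _ _ _) ∘ (fun t => lam φ Z ≫ t) ∘ (adj.homEquiv _ _).symm ∘
        ((baseAdj φ).homEquiv _ _).symm := by
    funext g
    dsimp only [Function.comp_apply]
    rw [← kap_key, Equiv.apply_symm_apply]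
  rw [e]
  exact (Equiv.bijective _).comp ((bijective_precomp_iso _).comp
    ((Equiv.bijective _).comp (Equiv.bijective _)))

end Kappa

end Groth.Agent.H4.TB6
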