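import Mathlib
import Groth.Agent.H4.TB1
import Groth.Agent.H4.TB6

/-!
# `resComm` is monoidal
-/

open CategoryTheory Category Limits MonoidalCategory

universe u

set_option backward.isDefEq.respectTransparency false

namespace Groth.Agent.H4.TB7

open DTen Groth.Agent.H4.TB1

attribute [local instance] HasDerivedCategory.standard

section Level0

variable {R A R' A' : Type u} [CommRing R] [CommRing A] [CommRing R'] [CommRing A']
  {φ : R →+* A} {ρ : R →+* R'} {α : A →+* A'} {φ' : R' →+* A'}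
  (h : α.comp φ = φ'.comp ρ)

/-- module level -/
lemma heart₀ (M N : ModuleCat.{u} A') :
    ((TrivBC.resCommMod h).hom.app M ⊗ₘ (TrivBC.resCommMod h).hom.app N) ≫
      resTen₀app ρ ((resM φ').obj M) ((resM φ').obj N) ≫ (resM ρ).map (resTen₀app φ' M N) =
    resTen₀app φ ((resM α).obj M) ((resM α).obj N) ≫ (resM φ).map (resTen₀app α M N) ≫
      (TrivBC.resCommMod h).hom.app (M ⊗ N) :=
  ModuleCat.hom_ext (TensorProduct.ext' (fun _ _ => rfl))

/-- complex level -/
lemma heartCx (V W : DRing.Cx A') :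
    (cCx h V ⊗ₘ cCx h W) ≫ resTenCx ρ ((resCx φ').obj V) ((resCx φ').obj W) ≫
      (resCx ρ).map (resTenCx φ' V W) =
    resTenCx φ ((resCx α).obj V) ((resCx α).obj W) ≫ (resCx φ).map (resTenCx α V W) ≫
      cCx h (V ⊗ W) := by
  refine HomologicalComplex.hom_ext _ _ (fun n => HomologicalComplex.mapBifunctor.hom_ext (fun p q hpq => ?_))
  change HomologicalComplex.ιTensorObj _ _ p q n hpq ≫ _ = HomologicalComplex.ιTensorObj _ _ p q n hpq ≫ _
  rw [HomologicalComplex.comp_f, HomologicalComplex.comp_f, HomologicalComplex.comp_f,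
    HomologicalComplex.comp_f]
  have h1 : HomologicalComplex.ιTensorObj ((resCx φ).obj ((resCx α).obj V))
      ((resCx φ).obj ((resCx α).obj W)) p q n hpq ≫ (cCx h V ⊗ₘ cCx h W).f n =
      ((cCx h V).f p ⊗ₘ (cCx h W).f q) ≫
        HomologicalComplex.ιTensorObj ((resCx ρ).obj ((resCx φ').obj V))
          ((resCx ρ).obj ((resCx φ').obj W)) p q n hpq := by
    refine (HomologicalComplex.ι_mapBifunctorMap (cCx h V) (cCx h W)
      (curriedTensor (ModuleCat.{u} R)) (ComplexShape.up ℤ) p q n hpq).trans ?_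
    rw [MonoidalCategory.tensorHom_def, assoc]
    rfl
  rw [reassoc_of% h1, ι_resTenCx_assoc ρ _ _ p q n hpq, ι_resTenCx_assoc φ _ _ p q n hpq]
  have h2 : ((resCx ρ).map (resTenCx φ' V W)).f n = (resM ρ).map ((resTenCx φ' V W).f n) := rfl
  have h3 : ((resCx φ).map (resTenCx α V W)).f n = (resM φ).map ((resTenCx α V W).f n) := rfl
  rw [h2, h3, ← Functor.map_comp, ← Functor.map_comp_assoc, ι_resTenCx φ' V W p q n hpq,
    ι_resTenCx α V W p q n hpq, cCx_f, cCx_f, cCx_f, Functor.map_comp, Functor.map_comp, assoc]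
  have h4 := (TrivBC.resCommMod h).hom.naturality (HomologicalComplex.ιTensorObj V W p q n hpq)
  dsimp at h4
  erw [h4]
  have h5 := heart₀ h (V.X p) (W.X q)
  rw [← assoc, ← assoc] at h5 ⊢
  erw [h5]
  simp only [assoc]
  rfl

end Level0


section Derived

variable {R A R' A' : Type u} [CommRing R] [CommRing A] [CommRing R'] [CommRing A']
  {φ : R →+* A} {ρ : R →+* R'} {α : A →+* A'} {φ' : R' →+* A'}
  (h : α.comp φ = φ'.comp ρ)
variable [HasLTen R] [HasLTen A] [HasLTen R'] [HasLTen A']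
  [HasResTen φ] [ResLegIso φ] [HasResTen ρ] [ResLegIso ρ]
  [HasResTen α] [ResLegIso α] [HasResTen φ'] [ResLegIso φ']

/-- left side of the monoidality of `resComm`. -/
noncomputable def heartL (V W : Dual.D A') :
    (LTen₂ R).obj ((DRing.restrictD φ).obj ((DRing.restrictD α).obj V),
      (DRing.restrictD φ).obj ((DRing.restrictD α).obj W)) ⟶
    (DRing.restrictD ρ).obj ((DRing.restrictD φ').obj ((LTen₂ A').obj (V, W))) :=
  (LTen₂ R).map (Prod.mkHom ((TrivBC.resComm h).hom.app V) ((TrivBC.resComm h).hom.app W)) ≫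
    (resPF ρ).app ((DRing.restrictD φ').obj V, (DRing.restrictD φ').obj W) ≫
    (DRing.restrictD ρ).map ((resPF φ').app (V, W))

/-- right side of the monoidality of `resComm`. -/
noncomputable def heartR (V W : Dual.D A') :
    (LTen₂ R).obj ((DRing.restrictD φ).obj ((DRing.restrictD α).obj V),
      (DRing.restrictD φ).obj ((DRing.restrictD α).obj W)) ⟶
    (DRing.restrictD ρ).obj ((DRing.restrictD φ').obj ((LTen₂ A').obj (V, W))) :=
  (resPF φ).app ((DRing.restrictD α).obj V, (DRing.restrictD α).obj W) ≫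
    (DRing.restrictD φ).map ((resPF α).app (V, W)) ≫
    (TrivBC.resComm h).hom.app ((LTen₂ A').obj (V, W))

omit [HasLTen A] [HasResTen φ] [ResLegIso φ] [HasResTen α] [ResLegIso α] in
lemma heartL_naturality {V V' W W' : Dual.D A'} (f : V ⟶ V') (g : W ⟶ W') :
    (LTen₂ R).map (Prod.mkHom ((DRing.restrictD φ).map ((DRing.restrictD α).map f))
      ((DRing.restrictD φ).map ((DRing.restrictD α).map g))) ≫ heartL h V' W' =
    heartL h V W ≫ (DRing.restrictD ρ).map ((DRing.restrictD φ').map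
      ((LTen₂ A').map (Prod.mkHom f g))) := by
  dsimp only [heartL]
  have h1 := (TrivBC.resComm h).hom.naturality f
  have h2 := (TrivBC.resComm h).hom.naturality g
  have h3 := (resPF ρ).naturality (Prod.mkHom ((DRing.restrictD φ').map f) ((DRing.restrictD φ').map g) :
    ((DRing.restrictD φ').obj V, (DRing.restrictD φ').obj W) ⟶
      ((DRing.restrictD φ').obj V', (DRing.restrictD φ').obj W'))
  have h4 := (resPF φ').naturality (Prod.mkHom f g : (V, W) ⟶ (V', W'))
  dsimp at h1 h2 h3 h4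
  rw [assoc, assoc, ← Functor.map_comp, ← h4, Functor.map_comp, ← reassoc_of% h3,
    ← Functor.map_comp_assoc, ← Functor.map_comp_assoc]
  congr 2
  simp only [prod_comp, Prod.mkHom]
  exact Prod.ext h1 h2

omit [HasLTen R'] [HasResTen ρ] [ResLegIso ρ] [HasResTen φ'] [ResLegIso φ'] in
lemma heartR_naturality {V V' W W' : Dual.D A'} (f : V ⟶ V') (g : W ⟶ W') :
    (LTen₂ R).map (Prod.mkHom ((DRing.restrictD φ).map ((DRing.restrictD α).map f))
      ((DRing.restrictD φ).map ((DRing.restrictD α).map g))) ≫ heartR h V' W' =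
    heartR h V W ≫ (DRing.restrictD ρ).map ((DRing.restrictD φ').map
      ((LTen₂ A').map (Prod.mkHom f g))) := by
  dsimp only [heartR]
  have h1 := (TrivBC.resComm h).hom.naturality ((LTen₂ A').map (Prod.mkHom f g : (V, W) ⟶ (V', W')))
  have h3 := (resPF φ).naturality (Prod.mkHom ((DRing.restrictD α).map f) ((DRing.restrictD α).map g) :
    ((DRing.restrictD α).obj V, (DRing.restrictD α).obj W) ⟶
      ((DRing.restrictD α).obj V', (DRing.restrictD α).obj W'))
  have h4 := (resPF α).naturality (Prod.mkHom f g : (V, W) ⟶ (V', W'))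
  dsimp at h1 h3 h4
  rw [assoc, assoc, ← h1, ← Functor.map_comp_assoc, ← h4, Functor.map_comp_assoc, ← reassoc_of% h3]

end Derived


section DerivedQ

variable {R A R' A' : Type u} [CommRing R] [CommRing A] [CommRing R'] [CommRing A']
  {φ : R →+* A} {ρ : R →+* R'} {α : A →+* A'} {φ' : R' →+* A'}
  (h : α.comp φ = φ'.comp ρ)
variable [HasLTen R] [HasLTen A] [HasLTen R'] [HasLTen A']
  [HasResTen φ] [ResLegIso φ] [HasResTen ρ] [ResLegIso ρ]
  [HasResTen α] [ResLegIso α] [HasResTen φ'] [ResLegIso φ']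

/-- the identification used to test the equality. -/
noncomputable def JJ (V₀ W₀ : DRing.Cx A') :
    (DRing.restrictD ρ).obj ((DRing.restrictD φ').obj
      ((LTen₂ A').obj (DerivedCategory.Q.obj V₀, DerivedCategory.Q.obj W₀))) ⟶
    DerivedCategory.Q.obj ((resCx ρ).obj ((resCx φ').obj (V₀ ⊗ W₀))) :=
  (DRing.restrictD ρ).map ((resβB φ').app (V₀, W₀)) ≫
    (resFactors ρ).hom.app ((resCx φ').obj (V₀ ⊗ W₀))

/-- `res res Q ≅ Q res res` -/
noncomputable def aa (V₀ : DRing.Cx A') :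
    (DRing.restrictD φ).obj ((DRing.restrictD α).obj (DerivedCategory.Q.obj V₀)) ⟶
      DerivedCategory.Q.obj ((resCx φ).obj ((resCx α).obj V₀)) :=
  (DRing.restrictD φ).map ((resFactors α).hom.app V₀) ≫ (resFactors φ).hom.app ((resCx α).obj V₀)

omit [HasLTen R] [HasLTen A] [HasLTen R'] [HasLTen A']
  [HasResTen φ] [ResLegIso φ] [HasResTen ρ] [ResLegIso ρ]
  [HasResTen α] [ResLegIso α] [HasResTen φ'] [ResLegIso φ'] in
lemma resComm_aa (V₀ : DRing.Cx A') :
    (TrivBC.resComm h).hom.app (DerivedCategory.Q.obj V₀) ≫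
      (DRing.restrictD ρ).map ((resFactors φ').hom.app V₀) ≫
      (resFactors ρ).hom.app ((resCx φ').obj V₀) =
    aa (φ := φ) (α := α) V₀ ≫ DerivedCategory.Q.map (cCx h V₀) := by
  rw [resComm_hom_app_Q]
  dsimp only [aa]
  simp only [assoc]
  rw [← Functor.map_comp_assoc (DRing.restrictD ρ), Iso.inv_hom_id_app]
  erw [CategoryTheory.Functor.map_id, id_comp, Iso.inv_hom_id_app, comp_id]

omit [HasLTen A] [HasResTen φ] [ResLegIso φ] [HasResTen α] [ResLegIso α] in
lemma heartL_Q (V₀ W₀ : DRing.Cx A') :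
    heartL h (DerivedCategory.Q.obj V₀) (DerivedCategory.Q.obj W₀) ≫ JJ V₀ W₀ =
    (LTen₂ R).map (Prod.mkHom (aa (φ := φ) (α := α) V₀) (aa (φ := φ) (α := α) W₀)) ≫
      (ε R).app ((resCx φ).obj ((resCx α).obj V₀), (resCx φ).obj ((resCx α).obj W₀)) ≫
      DerivedCategory.Q.map ((cCx h V₀ ⊗ₘ cCx h W₀) ≫
        resTenCx ρ ((resCx φ').obj V₀) ((resCx φ').obj W₀) ≫
        (resCx ρ).map (resTenCx φ' V₀ W₀)) := by
  dsimp only [heartL, JJ]
  -- step 1: `resPF_fac` for `φ'`
  have s1 := resPF_fac φ' (V₀, W₀)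
  dsimp only [Functor.prod_obj] at s1
  rw [assoc, assoc, ← Functor.map_comp_assoc (DRing.restrictD ρ)]
  erw [s1]
  -- step 2: unfold `resβA φ'`
  have s2 : (resβA φ').app (V₀, W₀) =
      (LTen₂ R').map (Prod.mkHom ((resFactors φ').hom.app V₀) ((resFactors φ').hom.app W₀)) ≫
      (ε R').app ((resCx φ').obj V₀, (resCx φ').obj W₀) ≫
      DerivedCategory.Q.map (resTenCx φ' V₀ W₀) := rfl
  rw [s2, Functor.map_comp, Functor.map_comp, assoc, assoc]
  -- step 3: naturality of `resPF ρ`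
  have s3 := (resPF ρ).naturality
    (Prod.mkHom ((resFactors φ').hom.app V₀) ((resFactors φ').hom.app W₀) :
      ((DRing.restrictD φ').obj (DerivedCategory.Q.obj V₀),
        (DRing.restrictD φ').obj (DerivedCategory.Q.obj W₀)) ⟶
      (DerivedCategory.Q.obj ((resCx φ').obj V₀), DerivedCategory.Q.obj ((resCx φ').obj W₀)))
  dsimp at s3
  rw [← reassoc_of% s3]
  -- step 4: naturality of `resFactors ρ` and `resPF_fac` for `ρ`
  have s4 := (resFactors ρ).hom.naturality (resTenCx φ' V₀ W₀)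
  dsimp at s4
  rw [s4]
  have s5 := resPF_fac ρ ((resCx φ').obj V₀, (resCx φ').obj W₀)
  dsimp only [Functor.prod_obj, resβB] at s5
  erw [reassoc_of% s5]
  have s6 : (resβA ρ).app ((resCx φ').obj V₀, (resCx φ').obj W₀) =
      (LTen₂ R).map (Prod.mkHom ((resFactors ρ).hom.app ((resCx φ').obj V₀))
        ((resFactors ρ).hom.app ((resCx φ').obj W₀))) ≫
      (ε R).app ((resCx ρ).obj ((resCx φ').obj V₀), (resCx ρ).obj ((resCx φ').obj W₀)) ≫
      DerivedCategory.Q.map (resTenCx ρ ((resCx φ').obj V₀) ((resCx φ').obj W₀)) := rfl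
  rw [s6]
  simp only [assoc]
  rw [← Functor.map_comp_assoc (LTen₂ R), ← Functor.map_comp_assoc (LTen₂ R)]
  have s7 : (Prod.mkHom ((TrivBC.resComm h).hom.app (DerivedCategory.Q.obj V₀))
        ((TrivBC.resComm h).hom.app (DerivedCategory.Q.obj W₀)) ≫
      Prod.mkHom ((DRing.restrictD ρ).map ((resFactors φ').hom.app V₀))
        ((DRing.restrictD ρ).map ((resFactors φ').hom.app W₀))) ≫
      Prod.mkHom ((resFactors ρ).hom.app ((resCx φ').obj V₀))
        ((resFactors ρ).hom.app ((resCx φ').obj W₀)) =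
      Prod.mkHom (aa (φ := φ) (α := α) V₀) (aa (φ := φ) (α := α) W₀) ≫
      Prod.mkHom (DerivedCategory.Q.map (cCx h V₀)) (DerivedCategory.Q.map (cCx h W₀)) := by
    simp only [prod_comp, Prod.mkHom]
    refine Prod.ext ?_ ?_
    · dsimp
      rw [assoc]
      exact resComm_aa h V₀
    · dsimp
      rw [assoc]
      exact resComm_aa h W₀
  rw [s7, Functor.map_comp, assoc]
  have s8 := (ε R).naturality (Prod.mkHom (cCx h V₀) (cCx h W₀) :
    ((resCx φ).obj ((resCx α).obj V₀), (resCx φ).obj ((resCx α).obj W₀)) ⟶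
      ((resCx ρ).obj ((resCx φ').obj V₀), (resCx ρ).obj ((resCx φ').obj W₀)))
  dsimp at s8
  rw [reassoc_of% s8, ← Functor.map_comp, ← Functor.map_comp, MonoidalCategory.tensorHom_def]

end DerivedQ


section DerivedQ2

variable {R A R' A' : Type u} [CommRing R] [CommRing A] [CommRing R'] [CommRing A']
  {φ : R →+* A} {ρ : R →+* R'} {α : A →+* A'} {φ' : R' →+* A'}
  (h : α.comp φ = φ'.comp ρ)
variable [HasLTen R] [HasLTen A] [HasLTen R'] [HasLTen A']
  [HasResTen φ] [ResLegIso φ] [HasResTen ρ] [ResLegIso ρ]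
  [HasResTen α] [ResLegIso α] [HasResTen φ'] [ResLegIso φ']

omit [HasLTen R'] [HasResTen ρ] [ResLegIso ρ] [HasResTen φ'] [ResLegIso φ'] in
lemma heartR_Q (V₀ W₀ : DRing.Cx A') :
    heartR h (DerivedCategory.Q.obj V₀) (DerivedCategory.Q.obj W₀) ≫ JJ (ρ := ρ) (φ' := φ') V₀ W₀ =
    (LTen₂ R).map (Prod.mkHom (aa (φ := φ) (α := α) V₀) (aa (φ := φ) (α := α) W₀)) ≫
      (ε R).app ((resCx φ).obj ((resCx α).obj V₀), (resCx φ).obj ((resCx α).obj W₀)) ≫
      DerivedCategory.Q.map (resTenCx φ ((resCx α).obj V₀) ((resCx α).obj W₀) ≫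
        (resCx φ).map (resTenCx α V₀ W₀) ≫ cCx h (V₀ ⊗ W₀)) := by
  -- the part after `resPF`s
  have r1 := (TrivBC.resComm h).hom.naturality ((ε A').app (V₀, W₀))
  dsimp at r1
  have r2 := resComm_aa h (V₀ ⊗ W₀)
  have e1 : (TrivBC.resComm h).hom.app
        ((LTen₂ A').obj (DerivedCategory.Q.obj V₀, DerivedCategory.Q.obj W₀)) ≫
        JJ (ρ := ρ) (φ' := φ') V₀ W₀ =
      (DRing.restrictD φ).map ((DRing.restrictD α).map ((ε A').app (V₀, W₀)) ≫
        (resFactors α).hom.app (V₀ ⊗ W₀)) ≫ (resFactors φ).hom.app ((resCx α).obj (V₀ ⊗ W₀)) ≫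
        DerivedCategory.Q.map (cCx h (V₀ ⊗ W₀)) := by
    dsimp only [JJ, resβB]
    rw [Functor.map_comp, assoc, ← reassoc_of% r1]
    erw [r2]
    dsimp only [aa]
    rw [Functor.map_comp, assoc, assoc]
  have s1 := resPF_fac α (V₀, W₀)
  dsimp only [Functor.prod_obj, resβB] at s1
  have e2 : (DRing.restrictD φ).map ((resPF α).app (DerivedCategory.Q.obj V₀, DerivedCategory.Q.obj W₀)) ≫
      (DRing.restrictD φ).map ((DRing.restrictD α).map ((ε A').app (V₀, W₀)) ≫
        (resFactors α).hom.app (V₀ ⊗ W₀)) =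
      (DRing.restrictD φ).map ((resβA α).app (V₀, W₀)) := by
    rw [← Functor.map_comp]
    exact congrArg (DRing.restrictD φ).map s1
  have s2 : (resβA α).app (V₀, W₀) =
      (LTen₂ A).map (Prod.mkHom ((resFactors α).hom.app V₀) ((resFactors α).hom.app W₀)) ≫
      (ε A).app ((resCx α).obj V₀, (resCx α).obj W₀) ≫
      DerivedCategory.Q.map (resTenCx α V₀ W₀) := rfl
  have s3 := (resPF φ).naturality
    (Prod.mkHom ((resFactors α).hom.app V₀) ((resFactors α).hom.app W₀) :
      ((DRing.restrictD α).obj (DerivedCategory.Q.obj V₀),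
        (DRing.restrictD α).obj (DerivedCategory.Q.obj W₀)) ⟶
      (DerivedCategory.Q.obj ((resCx α).obj V₀), DerivedCategory.Q.obj ((resCx α).obj W₀)))
  dsimp at s3
  have s4 := (resFactors φ).hom.naturality (resTenCx α V₀ W₀)
  dsimp at s4
  have s5 := resPF_fac φ ((resCx α).obj V₀, (resCx α).obj W₀)
  dsimp only [Functor.prod_obj, resβB] at s5
  have s6 : (resβA φ).app ((resCx α).obj V₀, (resCx α).obj W₀) =
      (LTen₂ R).map (Prod.mkHom ((resFactors φ).hom.app ((resCx α).obj V₀))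
        ((resFactors φ).hom.app ((resCx α).obj W₀))) ≫
      (ε R).app ((resCx φ).obj ((resCx α).obj V₀), (resCx φ).obj ((resCx α).obj W₀)) ≫
      DerivedCategory.Q.map (resTenCx φ ((resCx α).obj V₀) ((resCx α).obj W₀)) := rfl
  dsimp only [heartR]
  rw [assoc, assoc, e1, reassoc_of% e2, s2, Functor.map_comp, Functor.map_comp, assoc, assoc,
    ← reassoc_of% s3]
  erw [reassoc_of% s4, reassoc_of% s5]
  rw [s6]
  simp only [assoc]
  rw [← Functor.map_comp_assoc (LTen₂ R), ← Functor.map_comp, ← Functor.map_comp]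
  rfl

end DerivedQ2


section Heart

variable {R A R' A' : Type u} [CommRing R] [CommRing A] [CommRing R'] [CommRing A']
  {φ : R →+* A} {ρ : R →+* R'} {α : A →+* A'} {φ' : R' →+* A'}
  (h : α.comp φ = φ'.comp ρ)
variable [HasLTen R] [HasLTen A] [HasLTen R'] [HasLTen A']
  [HasResTen φ] [ResLegIso φ] [HasResTen ρ] [ResLegIso ρ]
  [HasResTen α] [ResLegIso α] [HasResTen φ'] [ResLegIso φ']

lemma heart_Q (V₀ W₀ : DRing.Cx A') (hV : Groth.Agent.H4.TC4.KFlat V₀) :
    heartL h (DerivedCategory.Q.obj V₀) (DerivedCategory.Q.obj W₀) =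
      heartR h (DerivedCategory.Q.obj V₀) (DerivedCategory.Q.obj W₀) := by
  haveI : IsIso ((ε A').app (V₀, W₀)) := Groth.Agent.H4.LK4.isIso_ε_of_kflat V₀ W₀ (Or.inl hV)
  haveI : IsIso (JJ (ρ := ρ) (φ' := φ') V₀ W₀) := by
    dsimp only [JJ, resβB]
    infer_instance
  rw [← cancel_mono (JJ (ρ := ρ) (φ' := φ') V₀ W₀), heartL_Q, heartR_Q, heartCx]

/-- **`resComm` is a monoidal natural isomorphism.** -/
theorem heart (V W : Dual.D A') : heartL h V W = heartR h V W := by
  obtain ⟨V₀, -, -, hV, ⟨e₁⟩⟩ := Groth.Agent.H4.LK4.exists_kproj_kflat_iso V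
  obtain ⟨W₀, -, -, -, ⟨e₂⟩⟩ := Groth.Agent.H4.LK4.exists_kproj_kflat_iso W
  have hQ := heart_Q h V₀ W₀ hV
  have nL := heartL_naturality h e₁.hom e₂.hom
  have nR := heartR_naturality h e₁.hom e₂.hom
  haveI : IsIso (Prod.mkHom ((DRing.restrictD φ).map ((DRing.restrictD α).map e₁.hom))
      ((DRing.restrictD φ).map ((DRing.restrictD α).map e₂.hom))) := by
    rw [isIso_prod_iff]; exact ⟨inferInstance, inferInstance⟩
  rw [← cancel_epi ((LTen₂ R).map (Prod.mkHom ((DRing.restrictD φ).map ((DRing.restrictD α).map e₁.hom))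
      ((DRing.restrictD φ).map ((DRing.restrictD α).map e₂.hom)))), nL, nR, hQ]

end Heart

end Groth.Agent.H4.TB7
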