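import Mathlib
import Groth.Agent.H4.TB7
import Groth.Agent.H4.RB3

/-!
# Unitality of the lax monoidal structure of restriction
-/

open CategoryTheory Category Limits MonoidalCategory

universe u

set_option backward.isDefEq.respectTransparency false

namespace Groth.Agent.H4.TB8

open DTen Groth.Agent.H4.TB1 Groth.Agent.H4.TB6 Groth.Agent.H4.RB3

attribute [local instance] HasDerivedCategory.standard

section Level0

variable {A A' : Type u} [CommRing A] [CommRing A'] (α : A →+* A')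

/-- the unit map `A ⟶ A'` of complexes. -/
noncomputable def u₀ : 𝟙_ (DRing.Cx A) ⟶ (resCx α).obj (𝟙_ (DRing.Cx A')) :=
  (unitCx α).app (𝟙_ (DRing.Cx A)) ≫ (resCx α).map (extUnitIso α).hom

/-- the unit map `A ⟶ A'` of modules. -/
noncomputable def uMod : 𝟙_ (ModuleCat.{u} A) ⟶ (resM α).obj (𝟙_ (ModuleCat.{u} A')) :=
  (ModuleCat.extendRestrictScalarsAdj.{u, u, u} α).unit.app (𝟙_ (ModuleCat.{u} A)) ≫
    (resM α).map (Functor.Monoidal.εIso (extM α)).inv

lemma u₀_f_zero :
    (HomologicalComplex.singleObjXSelf (ComplexShape.up ℤ) 0 (𝟙_ (ModuleCat.{u} A))).inv ≫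
      (u₀ α).f 0 =
    uMod α ≫ (resM α).map
      (HomologicalComplex.singleObjXSelf (ComplexShape.up ℤ) 0 (𝟙_ (ModuleCat.{u} A'))).inv := by
  dsimp only [u₀, uMod, extUnitIso]
  rw [HomologicalComplex.comp_f]
  have h1 : ((resCx α).map ((HomologicalComplex.singleMapHomologicalComplex (extM α)
      (ComplexShape.up ℤ) 0).app (𝟙_ (ModuleCat.{u} A)) ≪≫
      (HomologicalComplex.single _ _ 0).mapIso (Functor.Monoidal.εIso (extM α)).symm).hom).f 0 =
      (resM α).map ((extM α).map (HomologicalComplex.singleObjXSelf (ComplexShape.up ℤ) 0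
          (𝟙_ (ModuleCat.{u} A))).hom ≫ (Functor.Monoidal.εIso (extM α)).inv ≫
        (HomologicalComplex.singleObjXSelf (ComplexShape.up ℤ) 0 (𝟙_ (ModuleCat.{u} A'))).inv) := by
    change (resM α).map _ = _
    congr 1
    dsimp only [Iso.trans_hom, Iso.app_hom, Functor.mapIso_hom, Iso.symm_hom]
    rw [HomologicalComplex.comp_f, HomologicalComplex.singleMapHomologicalComplex_hom_app_self,
      HomologicalComplex.single_map_f_self, assoc, Iso.inv_hom_id_assoc]
  rw [h1]
  have h2 := (ModuleCat.extendRestrictScalarsAdj.{u, u, u} α).unit.naturality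
    (HomologicalComplex.singleObjXSelf (ComplexShape.up ℤ) 0 (𝟙_ (ModuleCat.{u} A))).inv
  dsimp at h2
  have h3 : ((unitCx α).app (𝟙_ (DRing.Cx A))).f 0 =
      (ModuleCat.extendRestrictScalarsAdj.{u, u, u} α).unit.app ((𝟙_ (DRing.Cx A)).X 0) := rfl
  rw [h3]
  erw [reassoc_of% h2]

lemma uMod_one : (uMod α).hom (1 : A) = (1 : A') := by
  dsimp only [uMod]
  change ((Functor.Monoidal.εIso (extM α)).inv).hom
    (((ModuleCat.extendRestrictScalarsAdj.{u, u, u} α).unit.app (𝟙_ (ModuleCat.{u} A))).hom (1 : A)) = _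
  rw [ModuleCat.extendRestrictScalarsAdj_unit_app_apply]
  change (Functor.OplaxMonoidal.η (extM α)).hom _ = _
  rw [ModuleCat.extendScalars_η]
  letI := α.toAlgebra
  erw [TensorProduct.AlgebraTensorModule.rid_tmul]
  rw [one_smul]

end Level0


section Level0b

variable {A A' : Type u} [CommRing A] [CommRing A'] (α : A →+* A')

lemma unital₀₀ (M : ModuleCat.{u} A') :
    (ρ_ ((resM α).obj M)).inv ≫ ((resM α).obj M ◁ uMod α) ≫
      resTen₀app α M (𝟙_ (ModuleCat.{u} A')) = (resM α).map (ρ_ M).inv := by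
  apply ModuleCat.hom_ext
  apply LinearMap.ext
  intro m
  change (resTen₀app α M (𝟙_ (ModuleCat.{u} A'))).hom
    (((resM α).obj M ◁ uMod α).hom ((ρ_ ((resM α).obj M)).inv.hom m)) = _
  rw [ModuleCat.MonoidalCategory.rightUnitor_inv_apply, ModuleCat.MonoidalCategory.whiskerLeft_apply,
    uMod_one]
  rfl

/-- module level unitality -/
lemma unital₀ (M : ModuleCat.{u} A') :
    (ρ_ ((resM α).obj M)).inv ≫
      ((resM α).obj M ◁ ((HomologicalComplex.singleObjXSelf (ComplexShape.up ℤ) 0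
        (𝟙_ (ModuleCat.{u} A))).inv ≫ (u₀ α).f 0)) ≫
      resTen₀app α M ((𝟙_ (DRing.Cx A')).X 0) =
    (resM α).map ((ρ_ M).inv ≫ (M ◁ (HomologicalComplex.singleObjXSelf (ComplexShape.up ℤ) 0
        (𝟙_ (ModuleCat.{u} A'))).inv)) := by
  rw [u₀_f_zero, MonoidalCategory.whiskerLeft_comp, assoc]
  have h1 := resTen₀app_naturality α (𝟙 M)
    (HomologicalComplex.singleObjXSelf (ComplexShape.up ℤ) 0 (𝟙_ (ModuleCat.{u} A'))).inv
  rw [CategoryTheory.Functor.map_id, MonoidalCategory.id_tensorHom,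
    MonoidalCategory.id_tensorHom] at h1
  erw [h1]
  rw [← assoc, ← assoc, Functor.map_comp]
  congr 1
  rw [assoc]
  exact unital₀₀ α M

end Level0b


section Level0c

variable {A A' : Type u} [CommRing A] [CommRing A'] (α : A →+* A')

lemma rightUnitor_inv_f {B : Type u} [CommRing B] (K : DRing.Cx B) (i : ℤ) :
    (ρ_ K).inv.f i = (ρ_ (K.X i)).inv ≫
      (K.X i ◁ (HomologicalComplex.singleObjXSelf (ComplexShape.up ℤ) 0 (𝟙_ (ModuleCat.{u} B))).inv) ≫
      HomologicalComplex.ιTensorObj K (𝟙_ (DRing.Cx B)) i 0 i (add_zero i) :=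
  HomologicalComplex.rightUnitor'_inv K i

/-- complex level unitality -/
lemma unitalCx (Y : DRing.Cx A') :
    (ρ_ ((resCx α).obj Y)).inv ≫ ((resCx α).obj Y ◁ u₀ α) ≫ resTenCx α Y (𝟙_ (DRing.Cx A')) =
      (resCx α).map (ρ_ Y).inv := by
  refine HomologicalComplex.hom_ext _ _ (fun i => ?_)
  rw [HomologicalComplex.comp_f, HomologicalComplex.comp_f, rightUnitor_inv_f]
  have h0 : ((resCx α).map (ρ_ Y).inv).f i = (resM α).map ((ρ_ Y).inv.f i) := rfl
  rw [h0, rightUnitor_inv_f]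
  have h1 : HomologicalComplex.ιTensorObj ((resCx α).obj Y) (𝟙_ (DRing.Cx A)) i 0 i (add_zero i) ≫
      ((resCx α).obj Y ◁ u₀ α).f i =
      (((resCx α).obj Y).X i ◁ (u₀ α).f 0) ≫
        HomologicalComplex.ιTensorObj ((resCx α).obj Y) ((resCx α).obj (𝟙_ (DRing.Cx A'))) i 0 i
          (add_zero i) := by
    have := HomologicalComplex.ι_mapBifunctorMap (𝟙 ((resCx α).obj Y)) (u₀ α)
      (curriedTensor (ModuleCat.{u} A)) (ComplexShape.up ℤ) i 0 i (add_zero i)
    rw [HomologicalComplex.id_f, CategoryTheory.Functor.map_id, NatTrans.id_app, id_comp] at this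
    exact this
  simp only [assoc]
  rw [reassoc_of% h1, ι_resTenCx α Y (𝟙_ (DRing.Cx A')) i 0 i (add_zero i)]
  have h2 := unital₀ α (Y.X i)
  rw [MonoidalCategory.whiskerLeft_comp, assoc] at h2
  erw [reassoc_of% h2]
  rw [← Functor.map_comp]
  simp only [assoc]

end Level0c


section DerivedU

variable {A A' : Type u} [CommRing A] [CommRing A'] (α : A →+* A')
variable [HasLTen A] [HasLTen A'] [HasLBase α] [HasResTen α] [ResLegIso α]

/-- the unit map `A ⟶ res A'` in the derived category -/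
noncomputable def uD : unit A ⟶ (DRing.restrictD α).obj (unit A') :=
  (baseAdj α).unit.app (unit A) ≫ (DRing.restrictD α).map (LBaseUnitIso α).hom

omit [HasLTen A] [HasLTen A'] [HasResTen α] [ResLegIso α] in
lemma uD_resFactors :
    uD α ≫ (resFactors α).hom.app (𝟙_ (DRing.Cx A')) = DerivedCategory.Q.map (u₀ α) := by
  dsimp only [uD, LBaseUnitIso, u₀]
  have h1 := baseCmp_fac α (𝟙_ (DRing.Cx A))
  have h2 := (resFactors α).hom.naturality (extUnitIso α).hom
  dsimp at h1 h2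
  rw [Iso.trans_hom, Functor.map_comp, asIso_hom, Functor.mapIso_hom]
  simp only [assoc]
  erw [reassoc_of% h1]
  dsimp only [baseγ]
  simp only [assoc]
  erw [h2]
  rw [Iso.inv_hom_id_app_assoc, ← Functor.map_comp]

omit [HasLBase α] in
lemma act_Q (Y₀ : DRing.Cx A') :
    act α (DerivedCategory.Q.obj Y₀) ≫ (resFactors α).hom.app Y₀ =
      (LTen₂ A).map (Prod.mkHom ((resFactors α).hom.app Y₀)
        ((resFactors α).hom.app (𝟙_ (DRing.Cx A')))) ≫
      (ε A).app ((resCx α).obj Y₀, (resCx α).obj (𝟙_ (DRing.Cx A'))) ≫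
      DerivedCategory.Q.map (resTenCx α Y₀ (𝟙_ (DRing.Cx A')) ≫ (resCx α).map (ρ_ Y₀).hom) := by
  dsimp only [act]
  rw [unitR_app, Functor.map_comp, assoc, assoc]
  have h2 := (resFactors α).hom.naturality (ρ_ Y₀).hom
  dsimp at h2
  rw [h2]
  have s5 := resPF_fac α (Y₀, 𝟙_ (DRing.Cx A'))
  dsimp only [Functor.prod_obj, resβB] at s5
  erw [reassoc_of% s5]
  have s6 : (resβA α).app (Y₀, 𝟙_ (DRing.Cx A')) =
      (LTen₂ A).map (Prod.mkHom ((resFactors α).hom.app Y₀)
        ((resFactors α).hom.app (𝟙_ (DRing.Cx A')))) ≫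
      (ε A).app ((resCx α).obj Y₀, (resCx α).obj (𝟙_ (DRing.Cx A'))) ≫
      DerivedCategory.Q.map (resTenCx α Y₀ (𝟙_ (DRing.Cx A'))) := rfl
  rw [s6]
  simp only [assoc, Functor.map_comp]

theorem unital_Q (Y₀ : DRing.Cx A') :
    (LTen₂ A).map (Prod.mkHom (𝟙 ((DRing.restrictD α).obj (DerivedCategory.Q.obj Y₀))) (uD α)) ≫
      act α (DerivedCategory.Q.obj Y₀) =
    (unitR A).app ((DRing.restrictD α).obj (DerivedCategory.Q.obj Y₀)) := by
  rw [← cancel_mono ((resFactors α).hom.app Y₀), assoc, act_Q, ← Functor.map_comp_assoc]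
  have h1 : Prod.mkHom (𝟙 ((DRing.restrictD α).obj (DerivedCategory.Q.obj Y₀))) (uD α) ≫
      Prod.mkHom ((resFactors α).hom.app Y₀) ((resFactors α).hom.app (𝟙_ (DRing.Cx A'))) =
      Prod.mkHom ((resFactors α).hom.app Y₀) (𝟙 (unit A)) ≫
      Prod.mkHom (DerivedCategory.Q.map (𝟙 ((resCx α).obj Y₀))) (DerivedCategory.Q.map (u₀ α)) := by
    simp only [prod_comp, Prod.mkHom]
    refine Prod.ext ?_ ?_
    · dsimp
      rw [CategoryTheory.Functor.map_id, id_comp, comp_id]
    · dsimp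
      rw [id_comp]
      exact uD_resFactors α
  rw [h1, Functor.map_comp, assoc]
  have h2 := (ε A).naturality (Prod.mkHom (𝟙 ((resCx α).obj Y₀)) (u₀ α) :
    ((resCx α).obj Y₀, 𝟙_ (DRing.Cx A)) ⟶ ((resCx α).obj Y₀, (resCx α).obj (𝟙_ (DRing.Cx A'))))
  dsimp at h2
  rw [reassoc_of% h2, ← Functor.map_comp]
  have h3 := (unitR A).naturality ((resFactors α).hom.app Y₀)
  dsimp at h3
  rw [← h3, unitR_app]
  congr 2
  rw [MonoidalCategory.id_whiskerRight, id_comp]
  have h4 := unitalCx α Y₀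
  have h5 : ((resCx α).obj Y₀ ◁ u₀ α) ≫ resTenCx α Y₀ (𝟙_ (DRing.Cx A')) =
      (ρ_ ((resCx α).obj Y₀)).hom ≫ (resCx α).map (ρ_ Y₀).inv := by
    rw [← h4, Iso.hom_inv_id_assoc]
  rw [← assoc, h5, assoc, ← Functor.map_comp, Iso.inv_hom_id, CategoryTheory.Functor.map_id, comp_id]

end DerivedU


section DerivedU2

variable {A A' : Type u} [CommRing A] [CommRing A'] (α : A →+* A')
variable [HasLTen A] [HasLTen A'] [HasLBase α] [HasResTen α] [ResLegIso α]

/-- **unitality** of the lax monoidal structure of restriction of scalars. -/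
theorem unital (Y : Dual.D A') :
    (LTen₂ A).map (Prod.mkHom (𝟙 ((DRing.restrictD α).obj Y)) (uD α)) ≫ act α Y =
      (unitR A).app ((DRing.restrictD α).obj Y) := by
  let Y₀ := DerivedCategory.Q.objPreimage Y
  let e : DerivedCategory.Q.obj Y₀ ≅ Y := DerivedCategory.Q.objObjPreimageIso Y
  have h := unital_Q α Y₀
  have n1 := act_naturality α e.hom
  have n2 := (unitR A).naturality ((DRing.restrictD α).map e.hom)
  dsimp at n2
  haveI : IsIso (Prod.mkHom ((DRing.restrictD α).map e.hom) (𝟙 (unit A))) := by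
    rw [isIso_prod_iff]; exact ⟨inferInstance, inferInstance⟩
  rw [← cancel_epi ((LTen₂ A).map (Prod.mkHom ((DRing.restrictD α).map e.hom) (𝟙 (unit A)))), n2, ← h,
    assoc, ← n1, ← Functor.map_comp_assoc, ← Functor.map_comp_assoc]
  congr 2
  simp only [prod_comp, Prod.mkHom]
  refine Prod.ext ?_ ?_
  · dsimp
    rw [comp_id, id_comp]
  · dsimp
    rw [comp_id, id_comp]

end DerivedU2

end Groth.Agent.H4.TB8
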