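import Mathlib
import Groth.Agent.H4.TB8

open CategoryTheory Category Limits MonoidalCategory

universe u

set_option backward.isDefEq.respectTransparency false

namespace Groth.Agent.H4.TB11

open DTen

attribute [local instance] HasDerivedCategory.standard

section Level0

variable {R R' : Type u} [CommRing R] [CommRing R'] (φ : R →+* R')

/-- module level associativity of the lax structure -/
lemma assoc₀ (M N P : ModuleCat.{u} R') :
    (resTen₀app φ M N ▷ (resM φ).obj P) ≫ resTen₀app φ (M ⊗ N) P ≫ (resM φ).map (α_ M N P).hom =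
      (α_ ((resM φ).obj M) ((resM φ).obj N) ((resM φ).obj P)).hom ≫
        ((resM φ).obj M ◁ resTen₀app φ N P) ≫ resTen₀app φ M (N ⊗ P) := by
  apply ModuleCat.hom_ext
  apply TensorProduct.ext_threefold
  intro m n p
  rfl

variable {B : Type u} [CommRing B]

/-- the triple inclusion, left bracketing -/
lemma ι₁₂_eq (X Y W : DRing.Cx B) (p q s pq j : ℤ) (h₁ : p + q = pq) (h₂ : pq + s = j) :
    HomologicalComplex.mapBifunctor₁₂.ι (curriedTensor (ModuleCat.{u} B))
      (curriedTensor (ModuleCat.{u} B)) X Y W (ComplexShape.up ℤ) (ComplexShape.up ℤ) p q s j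
      (by subst h₁ h₂; rfl) =
    (HomologicalComplex.ιTensorObj X Y p q pq h₁ ▷ W.X s) ≫
      HomologicalComplex.ιTensorObj (X ⊗ Y) W pq s j h₂ :=
  HomologicalComplex.mapBifunctor₁₂.ι_eq _ _ X Y W (ComplexShape.up ℤ) (ComplexShape.up ℤ)
    p q s pq j h₁ h₂

lemma ι₂₃_eq (X Y W : DRing.Cx B) (p q s qs j : ℤ) (h₁ : q + s = qs) (h₂ : p + qs = j) :
    HomologicalComplex.mapBifunctor₂₃.ι (curriedTensor (ModuleCat.{u} B))
      (curriedTensor (ModuleCat.{u} B)) X Y W (ComplexShape.up ℤ) (ComplexShape.up ℤ)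
      (ComplexShape.up ℤ) p q s j
      (by subst h₁ h₂; exact (add_assoc p q s)) =
    (X.X p ◁ HomologicalComplex.ιTensorObj Y W q s qs h₁) ≫
      HomologicalComplex.ιTensorObj X (Y ⊗ W) p qs j h₂ :=
  HomologicalComplex.mapBifunctor₂₃.ι_eq _ _ X Y W (ComplexShape.up ℤ) (ComplexShape.up ℤ)
    (ComplexShape.up ℤ) p q s qs j h₁ h₂

@[reassoc]
lemma ι_assoc (X Y W : DRing.Cx B) (p q s j : ℤ) (h : p + q + s = j) :
    HomologicalComplex.mapBifunctor₁₂.ι (curriedTensor (ModuleCat.{u} B))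
      (curriedTensor (ModuleCat.{u} B)) X Y W (ComplexShape.up ℤ) (ComplexShape.up ℤ) p q s j h ≫
      (α_ X Y W).hom.f j =
    (α_ (X.X p) (Y.X q) (W.X s)).hom ≫
      HomologicalComplex.mapBifunctor₂₃.ι (curriedTensor (ModuleCat.{u} B))
      (curriedTensor (ModuleCat.{u} B)) X Y W (ComplexShape.up ℤ) (ComplexShape.up ℤ)
      (ComplexShape.up ℤ) p q s j h :=
  HomologicalComplex.ι_mapBifunctorAssociatorX_hom (curriedAssociatorNatIso (ModuleCat.{u} B))
    X Y W (ComplexShape.up ℤ) (ComplexShape.up ℤ) (ComplexShape.up ℤ) p q s j h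

end Level0


section Level1

variable {R R' : Type u} [CommRing R] [CommRing R'] (φ : R →+* R')

@[reassoc]
lemma ι_whiskerRight_f {B : Type u} [CommRing B] {X X' : DRing.Cx B} (f : X ⟶ X') (W : DRing.Cx B)
    (p s j : ℤ) (h : p + s = j) :
    HomologicalComplex.ιTensorObj X W p s j h ≫ (f ▷ W).f j =
      (f.f p ▷ W.X s) ≫ HomologicalComplex.ιTensorObj X' W p s j h := by
  have := HomologicalComplex.ι_mapBifunctorMap f (𝟙 W)
    (curriedTensor (ModuleCat.{u} B)) (ComplexShape.up ℤ) p s j h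
  rw [HomologicalComplex.id_f, CategoryTheory.Functor.map_id, id_comp] at this
  exact this

@[reassoc]
lemma ι_whiskerLeft_f {B : Type u} [CommRing B] (X : DRing.Cx B) {W W' : DRing.Cx B} (g : W ⟶ W')
    (p s j : ℤ) (h : p + s = j) :
    HomologicalComplex.ιTensorObj X W p s j h ≫ (X ◁ g).f j =
      (X.X p ◁ g.f s) ≫ HomologicalComplex.ιTensorObj X W' p s j h := by
  have := HomologicalComplex.ι_mapBifunctorMap (𝟙 X) g
    (curriedTensor (ModuleCat.{u} B)) (ComplexShape.up ℤ) p s j h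
  rw [HomologicalComplex.id_f, CategoryTheory.Functor.map_id, NatTrans.id_app, id_comp] at this
  exact this

@[reassoc]
lemma resTen₀app_natL {M M' : ModuleCat.{u} R'} (a : M ⟶ M') (N : ModuleCat.{u} R') :
    ((resM φ).map a ▷ (resM φ).obj N) ≫ resTen₀app φ M' N =
      resTen₀app φ M N ≫ (resM φ).map (a ▷ N) :=
  ModuleCat.hom_ext (TensorProduct.ext' (fun _ _ => rfl))

@[reassoc]
lemma resTen₀app_natR (M : ModuleCat.{u} R') {N N' : ModuleCat.{u} R'} (b : N ⟶ N') :
    ((resM φ).obj M ◁ (resM φ).map b) ≫ resTen₀app φ M N' =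
      resTen₀app φ M N ≫ (resM φ).map (M ◁ b) :=
  ModuleCat.hom_ext (TensorProduct.ext' (fun _ _ => rfl))

/-- complex level associativity of the lax structure -/
theorem assocCx (X Y W : DRing.Cx R') :
    (resTenCx φ X Y ▷ (resCx φ).obj W) ≫ resTenCx φ (X ⊗ Y) W ≫ (resCx φ).map (α_ X Y W).hom =
      (α_ ((resCx φ).obj X) ((resCx φ).obj Y) ((resCx φ).obj W)).hom ≫
        ((resCx φ).obj X ◁ resTenCx φ Y W) ≫ resTenCx φ X (Y ⊗ W) := by
  refine HomologicalComplex.hom_ext _ _ (fun j => ?_)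
  refine HomologicalComplex.mapBifunctor₁₂.hom_ext (fun p q s h => ?_)
  have h' : p + q + s = j := h
  have h'' : p + (q + s) = j := by rw [← h', add_assoc]
  rw [HomologicalComplex.comp_f, HomologicalComplex.comp_f, HomologicalComplex.comp_f,
    HomologicalComplex.comp_f]
  change HomologicalComplex.mapBifunctor₁₂.ι (curriedTensor (ModuleCat.{u} R))
      (curriedTensor (ModuleCat.{u} R)) ((resCx φ).obj X) ((resCx φ).obj Y) ((resCx φ).obj W)
      (ComplexShape.up ℤ) (ComplexShape.up ℤ) p q s j h' ≫ _ =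
    HomologicalComplex.mapBifunctor₁₂.ι (curriedTensor (ModuleCat.{u} R))
      (curriedTensor (ModuleCat.{u} R)) ((resCx φ).obj X) ((resCx φ).obj Y) ((resCx φ).obj W)
      (ComplexShape.up ℤ) (ComplexShape.up ℤ) p q s j h' ≫ _
  -- RHS
  rw [ι_assoc_assoc ((resCx φ).obj X) ((resCx φ).obj Y) ((resCx φ).obj W) p q s j h']
  rw [ι₂₃_eq ((resCx φ).obj X) ((resCx φ).obj Y) ((resCx φ).obj W) p q s (q + s) j rfl h'']
  rw [ι₁₂_eq ((resCx φ).obj X) ((resCx φ).obj Y) ((resCx φ).obj W) p q s (p + q) j rfl h']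
  simp only [assoc]
  rw [ι_whiskerLeft_f_assoc]
  erw [ι_resTenCx φ X (Y ⊗ W) p (q + s) j h'']
  rw [← MonoidalCategory.whiskerLeft_comp_assoc, ι_resTenCx φ Y W q s (q + s) rfl]
  -- LHS
  rw [ι_whiskerRight_f_assoc]
  erw [ι_resTenCx_assoc φ (X ⊗ Y) W (p + q) s j h']
  rw [← MonoidalCategory.comp_whiskerRight_assoc, ι_resTenCx φ X Y p q (p + q) rfl]
  rw [MonoidalCategory.comp_whiskerRight, MonoidalCategory.whiskerLeft_comp]
  simp only [assoc]
  have e1 := resTen₀app_natL φ (HomologicalComplex.ιTensorObj X Y p q (p + q) rfl) (W.X s)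
  have e2 := resTen₀app_natR φ (X.X p) (HomologicalComplex.ιTensorObj Y W q s (q + s) rfl)
  erw [reassoc_of% e1, reassoc_of% e2]
  have e3 : ((resCx φ).map (α_ X Y W).hom).f j = (resM φ).map ((α_ X Y W).hom.f j) := rfl
  rw [e3, ← Functor.map_comp, ← Functor.map_comp, ← Functor.map_comp]
  have e4 : (HomologicalComplex.ιTensorObj X Y p q (p + q) rfl ▷ W.X s) ≫
      HomologicalComplex.ιTensorObj (X ⊗ Y) W (p + q) s j h' ≫ (α_ X Y W).hom.f j =
      (α_ (X.X p) (Y.X q) (W.X s)).hom ≫ (X.X p ◁ HomologicalComplex.ιTensorObj Y W q s (q + s) rfl) ≫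
        HomologicalComplex.ιTensorObj X (Y ⊗ W) p (q + s) j h'' := by
    rw [← ι₂₃_eq X Y W p q s (q + s) j rfl h'', ← ι_assoc X Y W p q s j h',
      ι₁₂_eq X Y W p q s (p + q) j rfl h', assoc]
  rw [e4, Functor.map_comp]
  have e5 := assoc₀ φ (X.X p) (Y.X q) (W.X s)
  rw [← assoc, ← assoc] at e5 ⊢
  erw [e5]
  simp only [assoc]
  rfl

end Level1

section Level2

variable {R R' : Type u} [CommRing R] [CommRing R'] (φ : R →+* R')

/-- the left action of `res 𝟙` at the complex level -/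
noncomputable def aL (X : DRing.Cx R') :
    (resCx φ).obj (𝟙_ (DRing.Cx R')) ⊗ (resCx φ).obj X ⟶ (resCx φ).obj X :=
  resTenCx φ (𝟙_ (DRing.Cx R')) X ≫ (resCx φ).map (λ_ X).hom

/-- complex level: the lax structure is linear for the left action -/
theorem daggerCx (X Y : DRing.Cx R') :
    (aL φ X ▷ (resCx φ).obj Y) ≫ resTenCx φ X Y =
      (α_ ((resCx φ).obj (𝟙_ (DRing.Cx R'))) ((resCx φ).obj X) ((resCx φ).obj Y)).hom ≫
        ((resCx φ).obj (𝟙_ (DRing.Cx R')) ◁ resTenCx φ X Y) ≫ aL φ (X ⊗ Y) := by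
  dsimp only [aL]
  have h1 := resTenCx_naturality φ (λ_ X).hom (𝟙 Y)
  rw [CategoryTheory.Functor.map_id, MonoidalCategory.tensorHom_id, MonoidalCategory.tensorHom_id] at h1
  have h2 := assocCx φ (𝟙_ (DRing.Cx R')) X Y
  have h3 : (λ_ X).hom ▷ Y = (α_ (𝟙_ (DRing.Cx R')) X Y).hom ≫ (λ_ (X ⊗ Y)).hom :=
    (MonoidalCategory.leftUnitor_tensor_hom X Y).symm ▸ by simp
  rw [MonoidalCategory.comp_whiskerRight, assoc, h1, h3, Functor.map_comp, ← assoc, ← assoc]
  rw [← assoc, ← assoc] at h2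
  rw [h2]
  simp only [assoc]

end Level2
end Groth.Agent.H4.TB11
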