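import Mathlib
import Groth.Prelude.Def_DRing2
import Groth.Agent.H4.TB11

open CategoryTheory Category Limits MonoidalCategory HomologicalComplex

universe u

set_option backward.isDefEq.respectTransparency false

namespace Groth.Agent.H4.DualCx

open Groth.Agent.H4.TB11

attribute [local instance] HasDerivedCategory.standard

variable {R : Type u} [CommRing R]

/-- induction principle for elements of a tensor product of complexes -/
lemma tensor_induction (K L : DRing.Cx R) (n : ℤ) {P : (K ⊗ L).X n → Prop}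
    (h0 : P 0) (hadd : ∀ x y, P x → P y → P (x + y)) (hsmul : ∀ (a : R) x, P x → P (a • x))
    (hι : ∀ (p q : ℤ) (h : p + q = n) (t : (K.X p ⊗ L.X q : ModuleCat.{u} R)),
      P (ιTensorObj K L p q n h t)) : ∀ z, P z := by
  let W : Submodule R ((K ⊗ L).X n) := Submodule.span R
    {z | ∃ (p q : ℤ) (h : p + q = n) (t : (K.X p ⊗ L.X q : ModuleCat.{u} R)),
      z = ιTensorObj K L p q n h t}
  have htop : W = ⊤ := by
    have hq : ModuleCat.ofHom W.mkQ = 0 := by
      refine mapBifunctor.hom_ext (fun p q hpq => ?_)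
      rw [comp_zero]
      ext x
      rw [ModuleCat.comp_apply]
      change Submodule.Quotient.mk _ = 0
      rw [Submodule.Quotient.mk_eq_zero]
      exact Submodule.subset_span ⟨p, q, hpq, x, rfl⟩
    have hk : LinearMap.ker W.mkQ = ⊤ := by
      have := congrArg ModuleCat.Hom.hom hq
      rw [ModuleCat.hom_ofHom] at this
      rw [this]
      exact LinearMap.ker_zero
    rwa [Submodule.ker_mkQ] at hk
  intro z
  have hz : z ∈ W := htop ▸ Submodule.mem_top
  induction hz using Submodule.span_induction with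
  | mem x hx => obtain ⟨p, q, h, t, rfl⟩ := hx; exact hι p q h t
  | zero => exact h0
  | add x y _ _ hx hy => exact hadd x y hx hy
  | smul a x _ hx => exact hsmul a x hx

/-- the iso `(𝟙_ Cx).X 0 ≅ R` -/
noncomputable def unitIso : (𝟙_ (DRing.Cx R)).X 0 ≅ 𝟙_ (ModuleCat.{u} R) :=
  singleObjXSelf (ComplexShape.up ℤ) 0 (𝟙_ (ModuleCat.{u} R))

lemma leftUnitor_inv_f (K : DRing.Cx R) (j : ℤ) :
    (λ_ K).inv.f j = (λ_ (K.X j)).inv ≫ ((unitIso (R := R)).inv ▷ K.X j) ≫
      ιTensorObj (𝟙_ (DRing.Cx R)) K 0 j j (zero_add j) :=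
  leftUnitor'_inv K j

lemma rightUnitor_inv_f (K : DRing.Cx R) (j : ℤ) :
    (ρ_ K).inv.f j = (ρ_ (K.X j)).inv ≫ (K.X j ◁ (unitIso (R := R)).inv) ≫
      ιTensorObj K (𝟙_ (DRing.Cx R)) j 0 j (add_zero j) :=
  rightUnitor'_inv K j

lemma ι_leftUnitor_hom (K : DRing.Cx R) (j : ℤ) :
    ιTensorObj (𝟙_ (DRing.Cx R)) K 0 j j (zero_add j) ≫ (λ_ K).hom.f j =
      ((unitIso (R := R)).hom ▷ K.X j) ≫ (λ_ (K.X j)).hom := by
  have h := leftUnitor_inv_f K j
  have h2 : (λ_ K).inv.f j ≫ (λ_ K).hom.f j = 𝟙 _ := by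
    rw [← comp_f, Iso.inv_hom_id, id_f]
  have h3 : ιTensorObj (𝟙_ (DRing.Cx R)) K 0 j j (zero_add j) =
      ((unitIso (R := R)).hom ▷ K.X j) ≫ (λ_ (K.X j)).hom ≫ (λ_ K).inv.f j := by
    rw [h, Iso.hom_inv_id_assoc, ← comp_whiskerRight_assoc, Iso.hom_inv_id, id_whiskerRight,
      id_comp]
  rw [h3, assoc, assoc, h2, comp_id]

lemma ι_rightUnitor_hom (K : DRing.Cx R) (j : ℤ) :
    ιTensorObj K (𝟙_ (DRing.Cx R)) j 0 j (add_zero j) ≫ (ρ_ K).hom.f j =
      (K.X j ◁ (unitIso (R := R)).hom) ≫ (ρ_ (K.X j)).hom := by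
  have h := rightUnitor_inv_f K j
  have h2 : (ρ_ K).inv.f j ≫ (ρ_ K).hom.f j = 𝟙 _ := by
    rw [← comp_f, Iso.inv_hom_id, id_f]
  have h3 : ιTensorObj K (𝟙_ (DRing.Cx R)) j 0 j (add_zero j) =
      (K.X j ◁ (unitIso (R := R)).hom) ≫ (ρ_ (K.X j)).hom ≫ (ρ_ K).inv.f j := by
    rw [h, Iso.hom_inv_id_assoc, ← MonoidalCategory.whiskerLeft_comp_assoc, Iso.hom_inv_id,
      MonoidalCategory.whiskerLeft_id, id_comp]
  rw [h3, assoc, assoc, h2, comp_id]

lemma finite_projective_of_id_mem_range (P : Type u) [AddCommGroup P] [Module R P]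
    (h : (LinearMap.id : P →ₗ[R] P) ∈ LinearMap.range (dualTensorHom R P P)) :
    Module.Finite R P ∧ Module.Projective R P := by
  obtain ⟨w, hw⟩ := h
  obtain ⟨S, hS⟩ := TensorProduct.exists_finset w
  have hid : ∀ m : P, m = ∑ i ∈ S, i.1 m • i.2 := by
    intro m
    have := LinearMap.congr_fun hw m
    rw [hS, map_sum, LinearMap.sum_apply] at this
    simp only [dualTensorHom_apply, LinearMap.id_apply] at this
    exact this.symm
  let s : (S → R) →ₗ[R] P := Fintype.linearCombination R (fun i : S => i.1.2)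
  let ι : P →ₗ[R] (S → R) := LinearMap.pi (fun i : S => i.1.1)
  have hsi : s.comp ι = LinearMap.id := by
    ext m
    simp only [LinearMap.comp_apply, LinearMap.id_apply, s, ι, Fintype.linearCombination_apply,
      LinearMap.pi_apply]
    rw [Finset.sum_coe_sort S (fun i => i.1 m • i.2)]
    exact (hid m).symm
  refine ⟨Module.Finite.of_surjective s ?_, Module.Projective.of_split ι s hsi⟩
  intro m
  exact ⟨ι m, LinearMap.congr_fun hsi m⟩

@[reassoc]
lemma ι_assoc_inv (X Y W : DRing.Cx R) (p q s j : ℤ) (h : p + q + s = j) :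
    mapBifunctor₂₃.ι (curriedTensor (ModuleCat.{u} R))
      (curriedTensor (ModuleCat.{u} R)) X Y W (ComplexShape.up ℤ) (ComplexShape.up ℤ)
      (ComplexShape.up ℤ) p q s j h ≫ (α_ X Y W).inv.f j =
    (α_ (X.X p) (Y.X q) (W.X s)).inv ≫
      mapBifunctor₁₂.ι (curriedTensor (ModuleCat.{u} R))
      (curriedTensor (ModuleCat.{u} R)) X Y W (ComplexShape.up ℤ) (ComplexShape.up ℤ) p q s j h := by
  have h1 := ι_assoc X Y W p q s j h
  have h2 : (α_ X Y W).hom.f j ≫ (α_ X Y W).inv.f j = 𝟙 _ := by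
    rw [← comp_f, Iso.hom_inv_id, id_f]
  rw [← cancel_epi (α_ (X.X p) (Y.X q) (W.X s)).hom, Iso.hom_inv_id_assoc, ← reassoc_of% h1, h2]
  exact comp_id _

section Pairing

variable (M N : DRing.Cx R) [ExactPairing M N]

/-- the unit element of `(𝟙_ Cx).X 0` -/
noncomputable def uElt : (𝟙_ (DRing.Cx R)).X 0 := (unitIso (R := R)).inv.hom (1 : R)

/-- the coevaluation element -/
noncomputable def eElt : (M ⊗ N).X 0 := (η_ M N).f 0 uElt

/-! ### The `M` side -/

noncomputable def Fmor (j : ℤ) : ((M ⊗ N).X 0 ⊗ M.X j : ModuleCat.{u} R) ⟶ M.X j :=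
  ιTensorObj (M ⊗ N) M 0 j j (zero_add j) ≫ (α_ M N M).hom.f j ≫ (M ◁ ε_ M N).f j ≫
    (ρ_ M).hom.f j

lemma Fmor_eElt (j : ℤ) (m : M.X j) : Fmor M N j (eElt M N ⊗ₜ[R] m) = m := by
  have htri := ExactPairing.evaluation_coevaluation M N
  have h1 : (λ_ M).inv.f j m =
      ιTensorObj (𝟙_ (DRing.Cx R)) M 0 j j (zero_add j) (uElt ⊗ₜ[R] m) := by
    rw [leftUnitor_inv_f, ModuleCat.comp_apply, ModuleCat.comp_apply,
      ModuleCat.MonoidalCategory.leftUnitor_inv_apply,
      ModuleCat.MonoidalCategory.whiskerRight_apply]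
    rfl
  have h2 : (η_ M N ▷ M).f j (ιTensorObj (𝟙_ (DRing.Cx R)) M 0 j j (zero_add j) (uElt ⊗ₜ[R] m)) =
      ιTensorObj (M ⊗ N) M 0 j j (zero_add j) (eElt M N ⊗ₜ[R] m) := by
    have := congrArg (fun φ => (ConcreteCategory.hom φ) (uElt ⊗ₜ[R] m))
      (ι_whiskerRight_f (η_ M N) M 0 j j (zero_add j))
    simp only [ModuleCat.comp_apply] at this
    exact this
  have h3 := congrArg (fun φ => φ.f j) htri
  simp only [comp_f] at h3
  have hA : (λ_ M).inv.f j ≫ ((η_ M N ▷ M).f j ≫ (α_ M N M).hom.f j ≫ (M ◁ ε_ M N).f j) ≫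
      (ρ_ M).hom.f j = 𝟙 _ := by
    rw [h3, assoc, ← comp_f (ρ_ M).inv, Iso.inv_hom_id, id_f, comp_id, ← comp_f, Iso.inv_hom_id,
      id_f]
  have hB := congrArg (fun φ : M.X j ⟶ M.X j => φ m) hA
  simp only [ModuleCat.comp_apply, ModuleCat.id_apply] at hB
  rw [h1, h2] at hB
  simp only [Fmor, ModuleCat.comp_apply]
  exact hB

lemma key_M_zero (p q j : ℤ) (h : p + q = 0) (hqj : q + j ≠ 0) :
    (ιTensorObj M N p q 0 h ▷ M.X j) ≫ Fmor M N j = 0 := by
  have hpj : p + (q + j) = j := by omega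
  unfold Fmor
  rw [← assoc, ← ι₁₂_eq M N M p q j 0 j h (zero_add j), ι_assoc_assoc,
    ι₂₃_eq M N M p q j (q + j) j rfl hpj, assoc, ι_whiskerLeft_f_assoc]
  have hz : (ε_ M N).f (q + j) = 0 :=
    (isZero_single_obj_X (ComplexShape.up ℤ) 0 _ (q + j) hqj).eq_of_tgt _ _
  rw [hz, MonoidalPreadditive.whiskerLeft_zero, zero_comp, comp_zero, comp_zero]

lemma key_M_diag (q j : ℤ) (h : j + q = 0) (hqj : q + j = 0) :
    (ιTensorObj M N j q 0 h ▷ M.X j) ≫ Fmor M N j =
      (α_ (M.X j) (N.X q) (M.X j)).hom ≫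
        (M.X j ◁ (ιTensorObj N M q j 0 hqj ≫ (ε_ M N).f 0 ≫ (unitIso (R := R)).hom)) ≫
          (ρ_ (M.X j)).hom := by
  unfold Fmor
  rw [← assoc, ← ι₁₂_eq M N M j q j 0 j h (zero_add j), ι_assoc_assoc,
    ι₂₃_eq M N M j q j 0 j hqj (add_zero j), assoc, ι_whiskerLeft_f_assoc, ι_rightUnitor_hom]
  simp only [MonoidalCategory.whiskerLeft_comp, assoc]

noncomputable def Theta (j : ℤ) : (M ⊗ N).X 0 →ₗ[R] (M.X j →ₗ[R] M.X j) :=
  TensorProduct.curry (Fmor M N j).hom

lemma Theta_apply (j : ℤ) (z : (M ⊗ N).X 0) (m : M.X j) :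
    Theta M N j z m = Fmor M N j (z ⊗ₜ[R] m) := rfl

lemma Theta_ι_zero (p q j : ℤ) (h : p + q = 0) (hqj : q + j ≠ 0)
    (t : (M.X p ⊗ N.X q : ModuleCat.{u} R)) :
    Theta M N j (ιTensorObj M N p q 0 h t) = 0 := by
  ext m
  rw [Theta_apply, LinearMap.zero_apply]
  have := congrArg (fun φ => (ConcreteCategory.hom φ) (t ⊗ₜ[R] m)) (key_M_zero M N p q j h hqj)
  simp only [ModuleCat.comp_apply] at this
  exact this

lemma Theta_ι_diag (q j : ℤ) (h : j + q = 0) (a : M.X j) (b : N.X q) :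
    Theta M N j (ιTensorObj M N j q 0 h (a ⊗ₜ[R] b)) ∈
      LinearMap.range (dualTensorHom R (M.X j) (M.X j)) := by
  have hqj : q + j = 0 := by omega
  let g : (N.X q ⊗ M.X j : ModuleCat.{u} R) ⟶ 𝟙_ (ModuleCat.{u} R) :=
    ιTensorObj N M q j 0 hqj ≫ (ε_ M N).f 0 ≫ (unitIso (R := R)).hom
  let f : Module.Dual R (M.X j) := TensorProduct.curry g.hom b
  refine ⟨f ⊗ₜ[R] a, ?_⟩
  ext m
  rw [dualTensorHom_apply, Theta_apply]
  have := congrArg (fun φ => (ConcreteCategory.hom φ) ((a ⊗ₜ[R] b) ⊗ₜ[R] m))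
    (key_M_diag M N q j h hqj)
  simp only [ModuleCat.comp_apply] at this
  rw [ModuleCat.MonoidalCategory.associator_hom_apply, ModuleCat.MonoidalCategory.whiskerLeft_apply,
    ModuleCat.MonoidalCategory.rightUnitor_hom_apply] at this
  exact this.symm

lemma Theta_mem (j : ℤ) (z : (M ⊗ N).X 0) :
    Theta M N j z ∈ LinearMap.range (dualTensorHom R (M.X j) (M.X j)) := by
  refine tensor_induction M N 0
    (P := fun z => Theta M N j z ∈ LinearMap.range (dualTensorHom R (M.X j) (M.X j)))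
    ?_ ?_ ?_ ?_ z
  · rw [map_zero]; exact zero_mem _
  · intro x y hx hy; rw [map_add]; exact add_mem hx hy
  · intro a x hx; rw [map_smul]; exact Submodule.smul_mem _ a hx
  · intro p q h t
    by_cases hqj : q + j = 0
    · obtain rfl : p = j := by omega
      have key : ∀ t : TensorProduct R (M.X p) (N.X q),
          Theta M N p (ιTensorObj M N p q 0 h t) ∈
            LinearMap.range (dualTensorHom R (M.X p) (M.X p)) := by
        intro t
        induction t using TensorProduct.induction_on with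
        | zero => rw [map_zero, map_zero]; exact zero_mem _
        | tmul a b => exact Theta_ι_diag M N q _ h a b
        | add x y hx hy => rw [map_add, map_add]; exact add_mem hx hy
      exact key t
    · rw [Theta_ι_zero M N p q j h hqj t]; exact zero_mem _

lemma Theta_support (z : (M ⊗ N).X 0) :
    ∃ S : Finset ℤ, ∀ j, j ∉ S → Theta M N j z = 0 := by
  refine tensor_induction M N 0
    (P := fun z => ∃ S : Finset ℤ, ∀ j, j ∉ S → Theta M N j z = 0) ?_ ?_ ?_ ?_ z
  · exact ⟨∅, fun j _ => map_zero _⟩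
  · rintro x y ⟨S, hS⟩ ⟨T, hT⟩
    refine ⟨S ∪ T, fun j hj => ?_⟩
    rw [Finset.mem_union, not_or] at hj
    rw [map_add, hS j hj.1, hT j hj.2, add_zero]
  · rintro a x ⟨S, hS⟩
    exact ⟨S, fun j hj => by rw [map_smul, hS j hj, smul_zero]⟩
  · intro p q h t
    refine ⟨{p}, fun j hj => ?_⟩
    rw [Finset.mem_singleton] at hj
    exact Theta_ι_zero M N p q j h (by omega) t

lemma vanishes_of_support {K : DRing.Cx R} (S : Finset ℤ)
    (h : ∀ j, j ∉ S → (LinearMap.id : K.X j →ₗ[R] K.X j) = 0) :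
    ∃ a b : ℤ, DRing.VanishesOutside K a b := by
  refine ⟨-(S.sup Int.natAbs : ℕ), (S.sup Int.natAbs : ℕ), ?_⟩
  intro i hi
  have hiS : i ∉ S := by
    intro hmem
    have := Finset.le_sup (f := Int.natAbs) hmem
    omega
  have h0 := h i hiS
  have : Subsingleton (K.X i) := ⟨fun x y => by
    have hx := LinearMap.congr_fun h0 x
    have hy := LinearMap.congr_fun h0 y
    simp only [LinearMap.id_apply, LinearMap.zero_apply] at hx hy
    rw [hx, hy]⟩
  exact ModuleCat.isZero_of_subsingleton _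

theorem M_side (M N : DRing.Cx R) [ExactPairing M N] : (∃ a b : ℤ, DRing.VanishesOutside M a b) ∧ DRing.TermwiseFiniteProjective M := by
  have hid : ∀ j, Theta M N j (eElt M N) = LinearMap.id := fun j => by
    ext m
    rw [Theta_apply, Fmor_eElt]
    rfl
  constructor
  · obtain ⟨S, hS⟩ := Theta_support M N (eElt M N)
    exact vanishes_of_support S (fun j hj => by rw [← hid j, hS j hj])
  · intro j
    have := Theta_mem M N j (eElt M N)
    rw [hid j] at this
    exact finite_projective_of_id_mem_range (M.X j) this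

/-! ### The `N` side -/

noncomputable def Gmor (j : ℤ) : (N.X j ⊗ (M ⊗ N).X 0 : ModuleCat.{u} R) ⟶ N.X j :=
  ιTensorObj N (M ⊗ N) j 0 j (add_zero j) ≫ (α_ N M N).inv.f j ≫ (ε_ M N ▷ N).f j ≫
    (λ_ N).hom.f j

lemma Gmor_eElt (j : ℤ) (n : N.X j) : Gmor M N j (n ⊗ₜ[R] eElt M N) = n := by
  have htri := ExactPairing.coevaluation_evaluation M N
  have h1 : (ρ_ N).inv.f j n =
      ιTensorObj N (𝟙_ (DRing.Cx R)) j 0 j (add_zero j) (n ⊗ₜ[R] uElt) := by
    rw [rightUnitor_inv_f, ModuleCat.comp_apply, ModuleCat.comp_apply,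
      ModuleCat.MonoidalCategory.rightUnitor_inv_apply,
      ModuleCat.MonoidalCategory.whiskerLeft_apply]
    rfl
  have h2 : (N ◁ η_ M N).f j (ιTensorObj N (𝟙_ (DRing.Cx R)) j 0 j (add_zero j) (n ⊗ₜ[R] uElt)) =
      ιTensorObj N (M ⊗ N) j 0 j (add_zero j) (n ⊗ₜ[R] eElt M N) := by
    have := congrArg (fun φ => (ConcreteCategory.hom φ) (n ⊗ₜ[R] uElt))
      (ι_whiskerLeft_f N (η_ M N) j 0 j (add_zero j))
    simp only [ModuleCat.comp_apply] at this
    exact this
  have h3 := congrArg (fun φ => φ.f j) htri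
  simp only [comp_f] at h3
  have hA : (ρ_ N).inv.f j ≫ ((N ◁ η_ M N).f j ≫ (α_ N M N).inv.f j ≫ (ε_ M N ▷ N).f j) ≫
      (λ_ N).hom.f j = 𝟙 _ := by
    rw [h3, assoc, ← comp_f (λ_ N).inv, Iso.inv_hom_id, id_f, comp_id, ← comp_f, Iso.inv_hom_id,
      id_f]
  have hB := congrArg (fun φ : N.X j ⟶ N.X j => φ n) hA
  simp only [ModuleCat.comp_apply, ModuleCat.id_apply] at hB
  rw [h1, h2] at hB
  simp only [Gmor, ModuleCat.comp_apply]
  exact hB

lemma key_N_zero (p q j : ℤ) (h : p + q = 0) (hjp : j + p ≠ 0) :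
    (N.X j ◁ ιTensorObj M N p q 0 h) ≫ Gmor M N j = 0 := by
  have hjq : (j + p) + q = j := by omega
  unfold Gmor
  rw [← assoc, ← ι₂₃_eq N M N j p q 0 j h (add_zero j), ι_assoc_inv_assoc,
    ι₁₂_eq N M N j p q (j + p) j rfl hjq, assoc, ι_whiskerRight_f_assoc]
  have hz : (ε_ M N).f (j + p) = 0 :=
    (isZero_single_obj_X (ComplexShape.up ℤ) 0 _ (j + p) hjp).eq_of_tgt _ _
  rw [hz, MonoidalPreadditive.zero_whiskerRight, zero_comp, comp_zero, comp_zero]

lemma key_N_diag (p j : ℤ) (h : p + j = 0) (hjp : j + p = 0) :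
    (N.X j ◁ ιTensorObj M N p j 0 h) ≫ Gmor M N j =
      (α_ (N.X j) (M.X p) (N.X j)).inv ≫
        ((ιTensorObj N M j p 0 hjp ≫ (ε_ M N).f 0 ≫ (unitIso (R := R)).hom) ▷ N.X j) ≫
          (λ_ (N.X j)).hom := by
  unfold Gmor
  rw [← assoc, ← ι₂₃_eq N M N j p j 0 j h (add_zero j), ι_assoc_inv_assoc,
    ι₁₂_eq N M N j p j 0 j hjp (zero_add j), assoc, ι_whiskerRight_f_assoc, ι_leftUnitor_hom]
  simp only [MonoidalCategory.comp_whiskerRight, assoc]

noncomputable def Theta' (j : ℤ) : (M ⊗ N).X 0 →ₗ[R] (N.X j →ₗ[R] N.X j) :=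
  (TensorProduct.curry (Gmor M N j).hom).flip

lemma Theta'_apply (j : ℤ) (z : (M ⊗ N).X 0) (n : N.X j) :
    Theta' M N j z n = Gmor M N j (n ⊗ₜ[R] z) := rfl

lemma Theta'_ι_zero (p q j : ℤ) (h : p + q = 0) (hjp : j + p ≠ 0)
    (t : (M.X p ⊗ N.X q : ModuleCat.{u} R)) :
    Theta' M N j (ιTensorObj M N p q 0 h t) = 0 := by
  ext n
  rw [Theta'_apply, LinearMap.zero_apply]
  have := congrArg (fun φ => (ConcreteCategory.hom φ) (n ⊗ₜ[R] t)) (key_N_zero M N p q j h hjp)
  simp only [ModuleCat.comp_apply] at this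
  exact this

lemma Theta'_ι_diag (p j : ℤ) (h : p + j = 0) (a : M.X p) (b : N.X j) :
    Theta' M N j (ιTensorObj M N p j 0 h (a ⊗ₜ[R] b)) ∈
      LinearMap.range (dualTensorHom R (N.X j) (N.X j)) := by
  have hjp : j + p = 0 := by omega
  let g : (N.X j ⊗ M.X p : ModuleCat.{u} R) ⟶ 𝟙_ (ModuleCat.{u} R) :=
    ιTensorObj N M j p 0 hjp ≫ (ε_ M N).f 0 ≫ (unitIso (R := R)).hom
  let f : Module.Dual R (N.X j) := (TensorProduct.curry g.hom).flip a
  refine ⟨f ⊗ₜ[R] b, ?_⟩
  ext n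
  rw [dualTensorHom_apply, Theta'_apply]
  have := congrArg (fun φ => (ConcreteCategory.hom φ) (n ⊗ₜ[R] (a ⊗ₜ[R] b)))
    (key_N_diag M N p j h hjp)
  simp only [ModuleCat.comp_apply] at this
  rw [ModuleCat.MonoidalCategory.associator_inv_apply, ModuleCat.MonoidalCategory.whiskerRight_apply,
    ModuleCat.MonoidalCategory.leftUnitor_hom_apply] at this
  exact this.symm

lemma Theta'_mem (j : ℤ) (z : (M ⊗ N).X 0) :
    Theta' M N j z ∈ LinearMap.range (dualTensorHom R (N.X j) (N.X j)) := by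
  refine tensor_induction M N 0
    (P := fun z => Theta' M N j z ∈ LinearMap.range (dualTensorHom R (N.X j) (N.X j)))
    ?_ ?_ ?_ ?_ z
  · rw [map_zero]; exact zero_mem _
  · intro x y hx hy; rw [map_add]; exact add_mem hx hy
  · intro a x hx; rw [map_smul]; exact Submodule.smul_mem _ a hx
  · intro p q h t
    by_cases hjp : j + p = 0
    · obtain rfl : q = j := by omega
      have key : ∀ t : TensorProduct R (M.X p) (N.X q),
          Theta' M N q (ιTensorObj M N p q 0 h t) ∈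
            LinearMap.range (dualTensorHom R (N.X q) (N.X q)) := by
        intro t
        induction t using TensorProduct.induction_on with
        | zero => rw [map_zero, map_zero]; exact zero_mem _
        | tmul a b => exact Theta'_ι_diag M N p _ h a b
        | add x y hx hy => rw [map_add, map_add]; exact add_mem hx hy
      exact key t
    · rw [Theta'_ι_zero M N p q j h hjp t]; exact zero_mem _

lemma Theta'_support (z : (M ⊗ N).X 0) :
    ∃ S : Finset ℤ, ∀ j, j ∉ S → Theta' M N j z = 0 := by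
  refine tensor_induction M N 0
    (P := fun z => ∃ S : Finset ℤ, ∀ j, j ∉ S → Theta' M N j z = 0) ?_ ?_ ?_ ?_ z
  · exact ⟨∅, fun j _ => map_zero _⟩
  · rintro x y ⟨S, hS⟩ ⟨T, hT⟩
    refine ⟨S ∪ T, fun j hj => ?_⟩
    rw [Finset.mem_union, not_or] at hj
    rw [map_add, hS j hj.1, hT j hj.2, add_zero]
  · rintro a x ⟨S, hS⟩
    exact ⟨S, fun j hj => by rw [map_smul, hS j hj, smul_zero]⟩
  · intro p q h t
    refine ⟨{q}, fun j hj => ?_⟩
    rw [Finset.mem_singleton] at hj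
    exact Theta'_ι_zero M N p q j h (by omega) t

theorem N_side (M N : DRing.Cx R) [ExactPairing M N] : (∃ a b : ℤ, DRing.VanishesOutside N a b) ∧ DRing.TermwiseFiniteProjective N := by
  have hid : ∀ j, Theta' M N j (eElt M N) = LinearMap.id := fun j => by
    ext n
    rw [Theta'_apply, Gmor_eElt]
    rfl
  constructor
  · obtain ⟨S, hS⟩ := Theta'_support M N (eElt M N)
    exact vanishes_of_support S (fun j hj => by rw [← hid j, hS j hj])
  · intro j
    have := Theta'_mem M N j (eElt M N)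
    rw [hid j] at this
    exact finite_projective_of_id_mem_range (N.X j) this

theorem main (M N : DRing.Cx R) [ExactPairing M N] : (∃ a b : ℤ, DRing.VanishesOutside M a b) ∧ (∃ a b : ℤ, DRing.VanishesOutside N a b) ∧
    DRing.TermwiseFiniteProjective M ∧ DRing.TermwiseFiniteProjective N :=
  ⟨(M_side M N).1, (N_side M N).1, (M_side M N).2, (N_side M N).2⟩

end Pairing

end Groth.Agent.H4.DualCx
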