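import Groth.Prelude.Def_RDer
import Mathlib

/-! `RDer.edgeIn Φ Ψ q X` is an isomorphism when `Φ` is left exact, preserves injectives and `R^q Φ X = 0` for `q > 0`. -/

universe v₁ v₂ v₃ u₁ u₂ u₃

open CategoryTheory CategoryTheory.Limits HomologicalComplex

noncomputable section

namespace Groth.Agent.H4.EdgeIn

variable {A : Type u₁} [Category.{v₁} A] [Abelian A] [HasInjectiveResolutions A]
  {B : Type u₂} [Category.{v₂} B] [Abelian B] [HasInjectiveResolutions B]
  {C : Type u₃} [Category.{v₃} C] [Abelian C]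

/-- `Φ I` is a resolution of `Φ X` when `Φ` is left exact and `X` is `Φ`-acyclic. -/
theorem quasiIso_mapAug (Φ : A ⥤ B) [Φ.Additive] [PreservesFiniteLimits Φ] (X : A) (I : InjectiveResolution X)
    (h : ∀ q : ℕ, 0 < q → IsZero ((Φ.rightDerived q).obj X)) :
    QuasiIso (RDer.mapAug Φ I.ι) := by
  refine ⟨fun n => ?_⟩
  cases n with
  | zero =>
    rw [CochainComplex.quasiIsoAt₀_iff, ShortComplex.quasiIso_iff_of_zeros]
    · have hk : IsLimit (KernelFork.ofι (Φ.map (I.ι.f 0))
          (by rw [← Φ.map_comp, I.ι_f_zero_comp_complex_d, Φ.map_zero] :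
            Φ.map (I.ι.f 0) ≫ Φ.map (I.cocomplex.d 0 1) = 0)) :=
        KernelFork.mapIsLimit _ (I.isLimitKernelFork) Φ
      have h1 := (ShortComplex.exact_and_mono_f_iff_f_is_kernel
        (ShortComplex.mk (Φ.map (I.ι.f 0)) (Φ.map (I.cocomplex.d 0 1))
          (by rw [← Φ.map_comp, I.ι_f_zero_comp_complex_d, Φ.map_zero]))).2 ⟨hk⟩
      refine (ShortComplex.exact_and_mono_f_iff_of_iso ?_).2 h1
      refine ShortComplex.isoMk
        (Iso.refl _) (Iso.refl _) (Iso.refl _) ?_ ?_
      · simp [HomologicalComplex.singleMapHomologicalComplex_inv_app_self]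
        repeat erw [Category.id_comp]
        repeat erw [Category.comp_id]
        try rfl
      · simp
        repeat erw [Category.id_comp]
        repeat erw [Category.comp_id]
        try rfl
    all_goals first | rfl | (simp; done) | (simp; rfl)
  | succ n =>
    rw [quasiIsoAt_iff_exactAt]
    · rw [HomologicalComplex.exactAt_iff_isZero_homology]
      exact IsZero.of_iso (h (n + 1) (Nat.succ_pos n)) (I.isoRightDerivedObj Φ (n + 1)).symm
    · apply CochainComplex.exactAt_succ_single_obj

/-- The injective resolution `Φ I` of `Φ X`. -/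
def mapRes (Φ : A ⥤ B) [Φ.Additive] [Φ.PreservesInjectiveObjects] [PreservesFiniteLimits Φ] (X : A)
    (I : InjectiveResolution X) (h : ∀ q : ℕ, 0 < q → IsZero ((Φ.rightDerived q).obj X)) :
    InjectiveResolution (Φ.obj X) where
  cocomplex := (Φ.mapHomologicalComplex _).obj I.cocomplex
  injective n := Φ.injective_obj _
  ι := RDer.mapAug Φ I.ι
  quasiIso := quasiIso_mapAug Φ X I h

theorem isIso_edgeIn (Φ : A ⥤ B) [Φ.Additive] [Φ.PreservesInjectiveObjects] [PreservesFiniteLimits Φ]
    (Ψ : B ⥤ C) [Ψ.Additive] (X : A)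
    (h : ∀ q : ℕ, 0 < q → IsZero ((Φ.rightDerived q).obj X)) (p : ℕ) :
    IsIso (RDer.edgeIn Φ Ψ p X) := by
  dsimp only [RDer.edgeIn]
  set J := injectiveResolution (Φ.obj X)
  set I := injectiveResolution X
  let R := mapRes Φ X I h
  set g := RDer.descToInjectives (𝟙 (Φ.obj X)) J.cocomplex J.ι
    ((Φ.mapHomologicalComplex _).obj I.cocomplex) (RDer.mapAug Φ I.ι) with hg
  have hgc : J.ι ≫ (g : J.cocomplex ⟶ R.cocomplex) = (CochainComplex.single₀ B).map (𝟙 _) ≫ R.ι := by
    apply HomologicalComplex.from_single_hom_ext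
    have := RDer.ι_descToInjectives_f_zero (𝟙 (Φ.obj X)) J.cocomplex J.ι
      ((Φ.mapHomologicalComplex _).obj I.cocomplex) (RDer.mapAug Φ I.ι)
    simp only [HomologicalComplex.comp_f, CategoryTheory.Functor.map_id, HomologicalComplex.id_f]
    exact this
  let e := InjectiveResolution.homotopyEquiv J R
  have hh : Homotopy (g : J.cocomplex ⟶ R.cocomplex) e.hom :=
    InjectiveResolution.descHomotopy (I := J) (J := R) (𝟙 (Φ.obj X)) g e.hom hgc (by
      rw [CategoryTheory.Functor.map_id, Category.id_comp]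
      exact InjectiveResolution.homotopyEquiv_hom_ι J R)
  have h1 : (HomologicalComplex.homologyFunctor C _ p).map ((Ψ.mapHomologicalComplex _).map g) =
      (HomologicalComplex.homologyFunctor C _ p).map ((Ψ.mapHomologicalComplex _).map e.hom) :=
    (Ψ.mapHomotopy hh).homologyMap_eq p
  have h2 : IsIso ((HomologicalComplex.homologyFunctor C _ p).map ((Ψ.mapHomologicalComplex _).map e.hom)) := by
    exact ((Ψ.mapHomotopyEquiv e).toHomologyIso p).isIso_hom
  rw [h1]
  have h3 : IsIso ((homologyFunctor C (ComplexShape.up ℕ) p).map ((Ψ.mapHomologicalComplex (ComplexShape.up ℕ)).map e.hom) ≫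
        ((injectiveResolution X).isoRightDerivedObj (Φ ⋙ Ψ) p).inv) :=
    IsIso.comp_isIso' h2 (Iso.isIso_inv _)
  exact IsIso.comp_isIso' (Iso.isIso_hom _) h3

end Groth.Agent.H4.EdgeIn
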