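import Mathlib
import Groth.Prelude

set_option autoImplicit false
universe w v u
open CategoryTheory Opposite AlgebraicGeometry

namespace Groth.Agent.H4.EssDimBC

section field
variable {k K L : Type u} [Field k] [Field K] [Field L] [Algebra k K] [Algebra K L] [Algebra k L]
  [IsScalarTower k K L]

lemma trdeg_adjoin_le (F : IntermediateField k L) :
    Algebra.trdeg K (IntermediateField.adjoin K (F : Set L)) ≤ Algebra.trdeg k F := by
  classical
  have hFE : ∀ x : L, x ∈ F → x ∈ IntermediateField.adjoin K (F : Set L) :=
    fun x hx => IntermediateField.subset_adjoin K _ hx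
  obtain ⟨s, hs⟩ := exists_isTranscendenceBasis k F
  let g : F →+* IntermediateField.adjoin K (F : Set L) :=
    { toFun := fun x => ⟨x.1, hFE x.1 x.2⟩
      map_one' := rfl
      map_mul' := fun _ _ => rfl
      map_zero' := rfl
      map_add' := fun _ _ => rfl }
  let s' : Set (IntermediateField.adjoin K (F : Set L)) := g '' s
  have hcard : Cardinal.mk s' ≤ Cardinal.mk s := Cardinal.mk_image_le
  have halgF : Algebra.IsAlgebraic (Algebra.adjoin k (Set.range ((↑) : s → F))) F := hs.isAlgebraic
  have hmem : ∀ x : F, x ∈ Algebra.adjoin k (Set.range ((↑) : s → F)) →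
      g x ∈ Algebra.adjoin K s' := by
    intro x hx
    induction hx using Algebra.adjoin_induction with
    | mem y hy =>
      obtain ⟨⟨z, hz⟩, rfl⟩ := hy
      exact Algebra.subset_adjoin ⟨z, hz, rfl⟩
    | algebraMap c =>
      have : g (algebraMap k F c) =
          algebraMap K (IntermediateField.adjoin K (F : Set L)) (algebraMap k K c) := by
        apply Subtype.ext
        show (algebraMap k L c) = algebraMap K L (algebraMap k K c)
        exact IsScalarTower.algebraMap_apply k K L c
      rw [this]
      exact Subalgebra.algebraMap_mem _ _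
    | add x y _ _ hx hy => rw [map_add]; exact add_mem hx hy
    | mul x y _ _ hx hy => rw [map_mul]; exact mul_mem hx hy
  let f : Algebra.adjoin k (Set.range ((↑) : s → F)) →+* Algebra.adjoin K s' :=
    { toFun := fun x => ⟨g x.1, hmem x.1 x.2⟩
      map_one' := Subtype.ext (map_one g)
      map_mul' := fun x y => Subtype.ext (map_mul g x.1 y.1)
      map_zero' := Subtype.ext (map_zero g)
      map_add' := fun x y => Subtype.ext (map_add g x.1 y.1) }
  have hf : Function.Injective f := by
    intro x y hxy
    have h1 : g x.1 = g y.1 := congrArg Subtype.val hxy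
    have h2 : ((g x.1 : IntermediateField.adjoin K (F : Set L)) : L) = (g y.1 : _) :=
      congrArg Subtype.val h1
    exact Subtype.ext (Subtype.ext h2)
  have hcomp : RingHom.comp (algebraMap (Algebra.adjoin K s')
      (IntermediateField.adjoin K (F : Set L))) f =
      RingHom.comp g (algebraMap (Algebra.adjoin k (Set.range ((↑) : s → F))) F) := by
    ext x; rfl
  haveI : Algebra.IsAlgebraic (Algebra.adjoin K s') (IntermediateField.adjoin K (F : Set L)) := by
    constructor
    rintro ⟨x, hx⟩
    induction hx using IntermediateField.adjoin_induction with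
    | mem y hy =>
      have h1 : IsAlgebraic (Algebra.adjoin k (Set.range ((↑) : s → F))) (⟨y, hy⟩ : F) :=
        halgF.isAlgebraic _
      exact h1.ringHom_of_comp_eq f g hf hcomp
    | algebraMap c =>
      exact isAlgebraic_algebraMap (R := Algebra.adjoin K s')
        (A := IntermediateField.adjoin K (F : Set L)) (algebraMap K (Algebra.adjoin K s') c)
    | add x y hx hy h1 h2 =>
      exact (Subalgebra.algebraicClosure (Algebra.adjoin K s')
        (IntermediateField.adjoin K (F : Set L))).add_mem h1 h2
    | inv x hx h1 => exact IsAlgebraic.inv h1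
    | mul x y hx hy h1 h2 =>
      exact (Subalgebra.algebraicClosure (Algebra.adjoin K s')
        (IntermediateField.adjoin K (F : Set L))).mul_mem h1 h2
  calc Algebra.trdeg K (IntermediateField.adjoin K (F : Set L)) ≤ Cardinal.mk s' :=
        Algebra.IsAlgebraic.trdeg_le_cardinalMk K s'
    _ ≤ Cardinal.mk s := hcard
    _ = Algebra.trdeg k F := hs.cardinalMk_eq_trdeg

end field

section cat
variable (k K : Type u) [Field k] [Field K] [Algebra k K]

/-- the structure morphism `Spec K ⟶ Spec k` -/
noncomputable abbrev φ : Spec (CommRingCat.of K) ⟶ Spec (CommRingCat.of k) :=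
  Spec.map (CommRingCat.ofHom (algebraMap k K))

/-- `Spec M` over `Spec K` viewed over `Spec k` is `Spec M` over `Spec k`. -/
noncomputable def θ (M : Type u) [Field M] [Algebra K M] [Algebra k M] [IsScalarTower k K M] :
    (Over.map (φ k K)).obj (SGA7.pt (K := K) M) ≅ SGA7.pt (K := k) M :=
  Over.isoMk (Iso.refl _) (by
    show 𝟙 _ ≫ Spec.map (CommRingCat.ofHom (algebraMap k M)) =
      Spec.map (CommRingCat.ofHom (algebraMap K M)) ≫ Spec.map (CommRingCat.ofHom (algebraMap k K))
    rw [Category.id_comp, ← Spec.map_comp, ← CommRingCat.ofHom_comp,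
      ← IsScalarTower.algebraMap_eq])

lemma θ_nat {M M' : Type u} [Field M] [Algebra K M] [Algebra k M] [IsScalarTower k K M]
    [Field M'] [Algebra K M'] [Algebra k M'] [IsScalarTower k K M'] (f : M →ₐ[K] M') :
    (Over.map (φ k K)).map (EssDim.resPt f) ≫ (θ k K M).hom =
      (θ k K M').hom ≫ EssDim.resPt (f.restrictScalars k) := by
  ext : 1
  show Spec.map (CommRingCat.ofHom (f : M →+* M')) ≫ 𝟙 _ =
    𝟙 _ ≫ Spec.map (CommRingCat.ofHom ((f.restrictScalars k : M →ₐ[k] M') : M →+* M'))
  rw [Category.comp_id, Category.id_comp]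
  rfl

end cat

theorem main (k : Type u) [Field k] (K : Type u) [Field K] [Algebra k K]
    (P : (Over (Spec (CommRingCat.of k)))ᵒᵖ ⥤ Type w) :
    EssDim.ed (k := K) ((Over.map (Spec.map (CommRingCat.ofHom (algebraMap k K)))).op ⋙ P) ≤
      EssDim.ed P := by
  conv_lhs => unfold EssDim.ed
  refine iSup_le (fun L => iSup_le (fun _ => iSup_le (fun _ => iSup_le (fun ξ => ?_))))
  letI algkL : Algebra k L := ((algebraMap K L).comp (algebraMap k K)).toAlgebra
  haveI : IsScalarTower k K L := IsScalarTower.of_algebraMap_eq (fun _ => rfl)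
  let ξ' : EssDim.FPt P L := P.map (θ k K L).inv.op ξ
  have h1 : (EssDim.edAt P ξ' : WithBot ℕ∞) ≤ EssDim.ed P := EssDim.edAt_le_ed ξ'
  refine le_trans (WithBot.coe_le_coe.2 ?_) h1
  have hle : ∀ F : {F : IntermediateField k L // EssDim.Descends P ξ' F},
      EssDim.edAt (k := K) ((Over.map (φ k K)).op ⋙ P) ξ ≤
        Cardinal.toENat (Algebra.trdeg k F.1) := by
    rintro ⟨F, ζ₀, hζ₀⟩
    have hdesc : EssDim.Descends (k := K) ((Over.map (φ k K)).op ⋙ P) ξ
        (IntermediateField.adjoin K (F : Set L)) := by
      let j : F →ₐ[k] IntermediateField.adjoin K (F : Set L) :=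
        { toFun := fun x => ⟨x.1, IntermediateField.subset_adjoin K _ x.2⟩
          map_one' := rfl
          map_mul' := fun _ _ => rfl
          map_zero' := rfl
          map_add' := fun _ _ => rfl
          commutes' := fun _ => rfl }
      have hj : ((IntermediateField.adjoin K (F : Set L)).val.restrictScalars k).comp j = F.val := by
        ext x; rfl
      have key : (Over.map (φ k K)).map (EssDim.resPt (IntermediateField.adjoin K (F : Set L)).val) ≫
          (θ k K (IntermediateField.adjoin K (F : Set L))).hom ≫ EssDim.resPt j =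
          (θ k K L).hom ≫ EssDim.resPt F.val := by
        rw [← Category.assoc, θ_nat, Category.assoc, ← EssDim.resPt_comp, hj]
      refine ⟨P.map (θ k K (IntermediateField.adjoin K (F : Set L))).hom.op
        (P.map (EssDim.resPt j).op ζ₀), ?_⟩
      show P.map ((Over.map (φ k K)).map
          (EssDim.resPt (IntermediateField.adjoin K (F : Set L)).val)).op
        (P.map (θ k K (IntermediateField.adjoin K (F : Set L))).hom.op
          (P.map (EssDim.resPt j).op ζ₀)) = ξ
      rw [← Functor.map_comp_apply, ← Functor.map_comp_apply, ← op_comp, ← op_comp,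
        Category.assoc, key, op_comp, Functor.map_comp_apply]
      have hζ : P.map (EssDim.resPt F.val).op ζ₀ = ξ' := hζ₀
      rw [hζ]
      show P.map (θ k K L).hom.op (P.map (θ k K L).inv.op ξ) = ξ
      rw [← Functor.map_comp_apply, ← op_comp, Iso.hom_inv_id, op_id, Functor.map_id_apply]
    refine le_trans (EssDim.edAt_le_of_descends hdesc) ?_
    exact OrderHomClass.mono Cardinal.toENat (trdeg_adjoin_le F)
  exact le_iInf hle

end Groth.Agent.H4.EssDimBC
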