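import Mathlib
import Groth.Agent.Lib.Helper2.DimFG
import Groth.Agent.Lib.Helper6.RelNN

set_option autoImplicit false
set_option linter.unusedSectionVars false
set_option linter.unusedVariables false
set_option linter.style.haveILetI false

namespace Groth.Agent.H4.NoethChain

universe u

open MvPolynomial

/-! ### generalities -/

theorem cast_N {P : ℕ → Prop} {a b : ℕ} (e : a = b) (h : P a) : P b := e ▸ h

theorem comap_map_mk {A : Type*} [CommRing A] {I J : Ideal A} (h : I ≤ J) :
    (J.map (Ideal.Quotient.mk I)).comap (Ideal.Quotient.mk I) = J := by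
  rw [Ideal.comap_map_of_surjective _ Ideal.Quotient.mk_surjective, ← RingHom.ker_eq_comap_bot,
    Ideal.mk_ker, sup_eq_left.mpr h]

theorem withBot_lt_of_add_one_le {b : WithBot ℕ∞} {n : ℕ} (h : b + 1 ≤ (n : WithBot ℕ∞)) :
    b < (n : WithBot ℕ∞) := by
  induction b using WithBot.recBotCoe with
  | bot => exact_mod_cast WithBot.bot_lt_coe (n : ℕ∞)
  | coe m =>
    have h' : m + 1 ≤ (n : ℕ∞) := by exact_mod_cast h
    have hm : m ≠ ⊤ := by rintro rfl; simp at h'
    have : m < (n : ℕ∞) := (ENat.add_one_le_iff hm).mp h'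
    exact_mod_cast this

theorem dim_quot_lt {R : Type*} [CommRing R] {p p' : Ideal R} [p.IsPrime] (hlt : p < p') (n : ℕ)
    (hn : ringKrullDim (R ⧸ p) = n) : ringKrullDim (R ⧸ p') < n := by
  obtain ⟨x, hx', hx⟩ := SetLike.exists_of_lt hlt
  have hxb0 : Ideal.Quotient.mk p x ≠ 0 := fun h0 => hx (Ideal.Quotient.eq_zero_iff_mem.mp h0)
  have h1 := ringKrullDim_quotient_succ_le_of_nonZeroDivisor (mem_nonZeroDivisors_of_ne_zero hxb0)
  rw [hn] at h1
  let g : (R ⧸ p) ⧸ Ideal.span {Ideal.Quotient.mk p x} →+* R ⧸ p' :=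
    Ideal.Quotient.lift _ (Ideal.Quotient.factor hlt.le) (by
      intro a ha
      obtain ⟨c, rfl⟩ := Ideal.mem_span_singleton'.mp ha
      rw [map_mul, Ideal.Quotient.factor_mk, Ideal.Quotient.eq_zero_iff_mem.mpr hx', mul_zero])
  have hg : Function.Surjective g := by
    intro y
    obtain ⟨y', rfl⟩ := Ideal.Quotient.mk_surjective y
    exact ⟨Ideal.Quotient.mk _ (Ideal.Quotient.mk p y'), by simp [g]⟩
  have h2 := ringKrullDim_le_of_surjective g hg
  exact lt_of_le_of_lt h2 (withBot_lt_of_add_one_le h1)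

theorem dim_quot_under {R S : Type*} [CommRing R] [CommRing S] [Algebra R S]
    [Algebra.IsIntegral R S] (Q : Ideal S) :
    ringKrullDim (S ⧸ Q) = ringKrullDim (R ⧸ Q.under R) :=
  Groth.Agent.H2.DimFG.ringKrullDim_eq_of_integral_injective (R ⧸ Q.under R) (S ⧸ Q)
    (FaithfulSMul.algebraMap_injective _ _)

/-! ### the ideals `(T_l : l < j)` of a polynomial ring -/

section Poly

variable (k : Type u) [Field k]

/-- the ideal `(T_l : l < j)` -/
noncomputable def pI (d j : ℕ) : Ideal (MvPolynomial (Fin d) k) :=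
  Ideal.span (MvPolynomial.X '' {l : Fin d | (l : ℕ) < j})

abbrev Idx (d j : ℕ) := {l : Fin d // ¬ (l : ℕ) < j}

theorem val_inj (d j : ℕ) : Function.Injective (Subtype.val : Idx d j → Fin d) :=
  Subtype.val_injective

theorem killCompl_X_of_lt (d j : ℕ) (l : Fin d) (hl : (l : ℕ) < j) :
    MvPolynomial.killCompl (R := k) (val_inj d j) (X l) = 0 := by
  rw [MvPolynomial.killCompl, MvPolynomial.aeval_X, dif_neg]
  rintro ⟨⟨l', hl'⟩, rfl⟩
  exact hl' hl

theorem killCompl_X_of_not_lt (d j : ℕ) (l : Fin d) (hl : ¬ (l : ℕ) < j) :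
    MvPolynomial.killCompl (R := k) (val_inj d j) (X l) = X ⟨l, hl⟩ := by
  have := MvPolynomial.killCompl_rename_app (R := k) (val_inj d j) (X ⟨l, hl⟩)
  rwa [MvPolynomial.rename_X] at this

noncomputable def toPoly (d j : ℕ) :
    (MvPolynomial (Fin d) k ⧸ pI k d j) →ₐ[k] MvPolynomial (Idx d j) k :=
  Ideal.Quotient.liftₐ (pI k d j) (MvPolynomial.killCompl (val_inj d j)) (by
    intro a ha
    have hle : pI k d j ≤ RingHom.ker (MvPolynomial.killCompl (R := k) (val_inj d j)).toRingHom := by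
      apply Ideal.span_le.mpr
      rintro _ ⟨l, hl, rfl⟩
      exact killCompl_X_of_lt k d j l hl
    exact hle ha)

theorem toPoly_mk (d j : ℕ) (y : MvPolynomial (Fin d) k) :
    toPoly k d j (Ideal.Quotient.mk _ y) = MvPolynomial.killCompl (val_inj d j) y := rfl

noncomputable def ofPoly (d j : ℕ) :
    MvPolynomial (Idx d j) k →ₐ[k] (MvPolynomial (Fin d) k ⧸ pI k d j) :=
  (Ideal.Quotient.mkₐ k (pI k d j)).comp (MvPolynomial.rename Subtype.val)

theorem ofPoly_apply (d j : ℕ) (x : MvPolynomial (Idx d j) k) :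
    ofPoly k d j x = Ideal.Quotient.mk _ (MvPolynomial.rename Subtype.val x) := rfl

theorem toPoly_ofPoly (d j : ℕ) (x : MvPolynomial (Idx d j) k) :
    toPoly k d j (ofPoly k d j x) = x := by
  rw [ofPoly_apply, toPoly_mk]
  exact MvPolynomial.killCompl_rename_app _ x

theorem ofPoly_toPoly (d j : ℕ) (x : MvPolynomial (Fin d) k ⧸ pI k d j) :
    ofPoly k d j (toPoly k d j x) = x := by
  obtain ⟨y, rfl⟩ := Ideal.Quotient.mk_surjective x
  have key : ((ofPoly k d j).comp ((toPoly k d j).comp (Ideal.Quotient.mkₐ k (pI k d j))))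
      = Ideal.Quotient.mkₐ k (pI k d j) := by
    apply MvPolynomial.algHom_ext
    intro l
    show ofPoly k d j (toPoly k d j (Ideal.Quotient.mk _ (X l))) = Ideal.Quotient.mk _ (X l)
    rw [toPoly_mk]
    by_cases hl : (l : ℕ) < j
    · rw [killCompl_X_of_lt k d j l hl, map_zero]
      symm
      exact Ideal.Quotient.eq_zero_iff_mem.mpr (Ideal.subset_span ⟨l, hl, rfl⟩)
    · rw [killCompl_X_of_not_lt k d j l hl, ofPoly_apply, MvPolynomial.rename_X]
  exact DFunLike.congr_fun key y

noncomputable def quotEquiv (d j : ℕ) :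
    (MvPolynomial (Fin d) k ⧸ pI k d j) ≃ₐ[k] MvPolynomial (Idx d j) k :=
  AlgEquiv.ofAlgHom (toPoly k d j) (ofPoly k d j) (AlgHom.ext (toPoly_ofPoly k d j))
    (AlgHom.ext (ofPoly_toPoly k d j))

instance pI_isDomain (d j : ℕ) : IsDomain (MvPolynomial (Fin d) k ⧸ pI k d j) :=
  (quotEquiv k d j).toRingEquiv.toMulEquiv.isDomain _

theorem pI_isPrime (d j : ℕ) : (pI k d j).IsPrime :=
  (Ideal.Quotient.isDomain_iff_prime _).mp (pI_isDomain k d j)

instance pI_intClosed (d j : ℕ) : IsIntegrallyClosed (MvPolynomial (Fin d) k ⧸ pI k d j) :=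
  IsIntegrallyClosed.of_equiv (quotEquiv k d j).symm.toRingEquiv

theorem card_Idx (d j : ℕ) (hj : j ≤ d) : Nat.card (Idx d j) = d - j := by
  rw [Nat.card_eq_fintype_card, Fintype.card_subtype_compl, Fintype.card_fin]
  congr 1
  rw [Fintype.card_subtype]
  have : (Finset.univ.filter (fun l : Fin d => (l : ℕ) < j)).map Fin.valEmbedding
      = Finset.range j := by
    ext x
    simp only [Finset.mem_map, Finset.mem_filter, Finset.mem_univ, true_and,
      Fin.valEmbedding_apply, Finset.mem_range]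
    constructor
    · rintro ⟨l, hl, rfl⟩; exact hl
    · intro hx; exact ⟨⟨x, by omega⟩, hx, rfl⟩
  rw [← Finset.card_map, this, Finset.card_range]

theorem pI_dim (d j : ℕ) (hj : j ≤ d) :
    ringKrullDim (MvPolynomial (Fin d) k ⧸ pI k d j) = ((d - j : ℕ) : WithBot ℕ∞) := by
  rw [ringKrullDim_eq_of_ringEquiv (quotEquiv k d j).toRingEquiv,
    MvPolynomial.ringKrullDim_of_isNoetherianRing, ringKrullDim_eq_zero_of_field,
    card_Idx d j hj]
  simp

theorem pI_mono (d : ℕ) : Monotone (pI k d) := by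
  intro i j hij
  apply Ideal.span_mono
  apply Set.image_mono
  intro l hl
  exact lt_of_lt_of_le hl hij

theorem pI_zero (d : ℕ) : pI k d 0 = ⊥ := by
  simp [pI]

theorem pI_ne (d j : ℕ) (hj : j < d) : pI k d j ≠ pI k d (j + 1) := by
  intro heq
  have h1 : (X ⟨j, hj⟩ : MvPolynomial (Fin d) k) ∈ pI k d (j + 1) :=
    Ideal.subset_span ⟨⟨j, hj⟩, by simp, rfl⟩
  rw [← heq] at h1
  have h2 : toPoly k d j (Ideal.Quotient.mk _ (X ⟨j, hj⟩)) = 0 := by
    rw [Ideal.Quotient.eq_zero_iff_mem.mpr h1, map_zero]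
  rw [toPoly_mk, killCompl_X_of_not_lt k d j ⟨j, hj⟩ (by simp)] at h2
  exact MvPolynomial.X_ne_zero _ h2

end Poly


/-! ### counting by dimension -/

section Count

variable (k : Type u) [Field k]

theorem count_le {A : Type*} [CommRing A] [Algebra k A] (N : ℕ)
    (φ : MvPolynomial (Fin N) k →ₐ[k] A) (hint : φ.toRingHom.IsIntegral) :
    ringKrullDim A ≤ (N : WithBot ℕ∞) ∧
      (ringKrullDim A = (N : WithBot ℕ∞) → Function.Injective φ) ∧
      (Function.Injective φ → ringKrullDim A = (N : WithBot ℕ∞)) := by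
  have hN := Groth.Agent.H2.DimFG.ringKrullDim_mvPolynomial_fin k N
  have h3 : Function.Injective φ → ringKrullDim A = (N : WithBot ℕ∞) := by
    intro hinj
    letI : Algebra (MvPolynomial (Fin N) k) A := φ.toRingHom.toAlgebra
    haveI : Algebra.IsIntegral (MvPolynomial (Fin N) k) A := ⟨hint⟩
    rw [Groth.Agent.H2.DimFG.ringKrullDim_eq_of_integral_injective (MvPolynomial (Fin N) k) A hinj,
      hN]
  set K := RingHom.ker φ.toRingHom with hK
  let ψ : MvPolynomial (Fin N) k ⧸ K →+* A := RingHom.kerLift φ.toRingHom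
  have hψinj : Function.Injective ψ := RingHom.kerLift_injective _
  have hψint : ψ.IsIntegral := by
    apply RingHom.IsIntegral.tower_top (Ideal.Quotient.mk K) ψ
    have : ψ.comp (Ideal.Quotient.mk K) = φ.toRingHom := RingHom.ext fun x => rfl
    rw [this]
    exact hint
  letI : Algebra (MvPolynomial (Fin N) k ⧸ K) A := ψ.toAlgebra
  haveI : Algebra.IsIntegral (MvPolynomial (Fin N) k ⧸ K) A := ⟨hψint⟩
  have hdim := Groth.Agent.H2.DimFG.ringKrullDim_eq_of_integral_injective
    (MvPolynomial (Fin N) k ⧸ K) A hψinj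
  refine ⟨?_, fun heq => ?_, h3⟩
  · rw [hdim, ← hN]
    exact ringKrullDim_quotient_le K
  · by_contra hni
    have hKne : K ≠ ⊥ := fun h0 => hni ((RingHom.injective_iff_ker_eq_bot _).mpr h0)
    have hlt : (⊥ : Ideal (MvPolynomial (Fin N) k)) < K := bot_lt_iff_ne_bot.mpr hKne
    have hbot : ringKrullDim (MvPolynomial (Fin N) k ⧸ (⊥ : Ideal (MvPolynomial (Fin N) k)))
        = N := by
      rw [ringKrullDim_eq_of_ringEquiv (RingEquiv.quotientBot _), hN]
    have := dim_quot_lt hlt N hbot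
    rw [← hdim, heq] at this
    exact lt_irrefl _ this

/-- integrality of `A` over the first `N` members of a family -/
def IntN {A : Type*} [CommRing A] [Algebra k A] (N : ℕ) (s : ℕ → A) : Prop :=
  (aeval (fun l : Fin N => s l) : MvPolynomial (Fin N) k →ₐ[k] A).toRingHom.IsIntegral

theorem loop {A : Type*} [CommRing A] [Algebra k A] (q : Ideal A) (m : ℕ) :
    ∀ (n : ℕ) (s : ℕ → A), IntN k (n + m) s → (∀ l, l < n → s l ∈ q) →
      ∃ (n' : ℕ) (s' : ℕ → A), n' ≤ n ∧ IntN k (n' + m) s' ∧ (∀ l, l < n' → s' l ∈ q) ∧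
        (∀ j, s' (n' + j) - s (n + j) ∈ q) ∧
        (n' = 0 ∨ Function.Injective
          (aeval (fun l : Fin (n' + m) => s' l) : MvPolynomial (Fin (n' + m)) k →ₐ[k] A)) := by
  intro n
  induction n with
  | zero =>
    intro s hint hmem
    exact ⟨0, s, le_rfl, hint, fun l hl => absurd hl (Nat.not_lt_zero _), fun j => by simp,
      Or.inl rfl⟩
  | succ n ih =>
    intro s hint hmem
    by_cases hinj : Function.Injective
        (aeval (fun l : Fin (n + 1 + m) => s l) : MvPolynomial (Fin (n + 1 + m)) k →ₐ[k] A)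
    · exact ⟨n + 1, s, le_rfl, hint, hmem, fun j => by simp, Or.inr hinj⟩
    · have e : n + 1 + m = n + m + 1 := by omega
      have hint' : IntN k (n + m + 1) s := cast_N (P := fun N => IntN k N s) e hint
      have hinj' : ¬ Function.Injective
          (aeval (fun l : Fin (n + m + 1) => s l) : MvPolynomial (Fin (n + m + 1)) k →ₐ[k] A) := by
        intro hh
        exact hinj (cast_N (P := fun N => Function.Injective
          (aeval (fun l : Fin N => s l) : MvPolynomial (Fin N) k →ₐ[k] A)) e.symm hh)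
      rw [injective_iff_map_eq_zero] at hinj'
      push Not at hinj'
      obtain ⟨g, hg0, hgne⟩ := hinj'
      have hU : 1 < 2 + g.totalDegree := by omega
      have hdeg : ∀ v ∈ g.support, ∀ i, v i < 2 + g.totalDegree := by
        intro v hv i
        have h1 := (MvPolynomial.monomial_le_degreeOf i hv).trans
          (MvPolynomial.degreeOf_le_totalDegree g i)
        omega
      have key := Groth.Agent.H6.RelNN.step_field (F := k) (S := A)
        (fun l : Fin (n + m + 1) => s l) g hgne hg0 (2 + g.totalDegree) hU hdeg hint'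
      let s₁ : ℕ → A := fun j => s (j + 1) - s 0 ^ (2 + g.totalDegree) ^ (j + 1)
      have hint₁ : IntN k (n + m) s₁ := key
      have hpos : ∀ j : ℕ, 0 < (2 + g.totalDegree) ^ (j + 1) := fun j => pow_pos (by omega) _
      obtain ⟨n', s', hn', hint'', hmem', hcong, hfin⟩ := ih s₁ hint₁ (fun l hl =>
        q.sub_mem (hmem (l + 1) (by omega))
          (Ideal.pow_mem_of_mem q (hmem 0 (by omega)) _ (hpos l)))
      refine ⟨n', s', by omega, hint'', hmem', fun j => ?_, hfin⟩
      have e2 : n + 1 + j = n + j + 1 := by omega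
      rw [e2]
      have e3 : s' (n' + j) - s (n + j + 1)
          = (s' (n' + j) - s₁ (n + j)) - s 0 ^ (2 + g.totalDegree) ^ (n + j + 1) := by
        simp only [s₁]
        ring
      rw [e3]
      exact q.sub_mem (hcong j) (Ideal.pow_mem_of_mem q (hmem 0 (by omega)) _ (hpos (n + j)))

theorem int_of_gens {A : Type*} [CommRing A] [Algebra k A] (N : ℕ) (t : Fin N → A) (M : ℕ)
    (a : Fin M → A)
    (hgen : Function.Surjective (aeval a : MvPolynomial (Fin M) k →ₐ[k] A))
    (hint : ∀ j, (aeval t : MvPolynomial (Fin N) k →ₐ[k] A).toRingHom.IsIntegralElem (a j)) :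
    (aeval t : MvPolynomial (Fin N) k →ₐ[k] A).toRingHom.IsIntegral := by
  intro x
  obtain ⟨p, rfl⟩ := hgen x
  induction p using MvPolynomial.induction_on with
  | C c =>
    have e : aeval a (C c : MvPolynomial (Fin M) k)
        = (aeval t : MvPolynomial (Fin N) k →ₐ[k] A).toRingHom (C c) := by
      simp
    rw [e]
    exact RingHom.isIntegralElem_map _
  | add p q hp hq =>
    rw [map_add]
    exact RingHom.IsIntegralElem.add _ hp hq
  | mul_X p i hp =>
    rw [map_mul, aeval_X]
    exact RingHom.IsIntegralElem.mul _ hp (hint i)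

theorem exists_x {A : Type*} [CommRing A] [Algebra k A] (q : Ideal A) (e : ℕ) (y : ℕ → A)
    (hint : IntN k e (fun l => Ideal.Quotient.mk q (y l))) (a : A) :
    ∃ x ∈ q, ∃ p : Polynomial (MvPolynomial (Fin e) k), p.Monic ∧ 0 < p.natDegree ∧
      Polynomial.eval₂
        (aeval (fun l : Fin e => y l) : MvPolynomial (Fin e) k →ₐ[k] A).toRingHom a p = x := by
  obtain ⟨p, hp, hpe⟩ := hint (Ideal.Quotient.mk q a)
  have hcomp : (Ideal.Quotient.mk q).comp
      (aeval (fun l : Fin e => y l) : MvPolynomial (Fin e) k →ₐ[k] A).toRingHom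
      = (aeval (fun l : Fin e => Ideal.Quotient.mk q (y l)) :
          MvPolynomial (Fin e) k →ₐ[k] A ⧸ q).toRingHom := by
    apply MvPolynomial.ringHom_ext
    · intro c
      simp only [RingHom.comp_apply, AlgHom.toRingHom_eq_coe, RingHom.coe_coe, aeval_C]
      rfl
    · intro l
      simp
  refine ⟨_, ?_, p * Polynomial.X, hp.mul Polynomial.monic_X, ?_, rfl⟩
  · rw [← Ideal.Quotient.eq_zero_iff_mem, Polynomial.hom_eval₂, hcomp, Polynomial.eval₂_mul, hpe,
      zero_mul]
  · rw [hp.natDegree_mul Polynomial.monic_X, Polynomial.natDegree_X]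
    omega

theorem int_elem {A : Type*} [CommRing A] [Algebra k A] (M e : ℕ) (s : ℕ → A) (y : ℕ → A)
    (hy : ∀ l, s (M + l) = y l) (j : ℕ) (hj : j < M) (a : A)
    (p : Polynomial (MvPolynomial (Fin e) k)) (hp : p.Monic) (hd : 0 < p.natDegree)
    (hpe : Polynomial.eval₂
      (aeval (fun l : Fin e => y l) : MvPolynomial (Fin e) k →ₐ[k] A).toRingHom a p = s j) :
    (aeval (fun l : Fin (M + e) => s l) :
      MvPolynomial (Fin (M + e)) k →ₐ[k] A).toRingHom.IsIntegralElem a := by
  set ρ : MvPolynomial (Fin e) k →+* MvPolynomial (Fin (M + e)) k :=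
    (MvPolynomial.rename (Fin.natAdd M) : MvPolynomial (Fin e) k →ₐ[k] _).toRingHom with hρ
  have hcomp : (aeval (fun l : Fin (M + e) => s l) :
      MvPolynomial (Fin (M + e)) k →ₐ[k] A).toRingHom.comp ρ
      = (aeval (fun l : Fin e => y l) : MvPolynomial (Fin e) k →ₐ[k] A).toRingHom := by
    apply MvPolynomial.ringHom_ext
    · intro c
      simp [hρ]
    · intro l
      simp [hρ, hy]
  refine ⟨p.map ρ - Polynomial.C (X ⟨j, by omega⟩), ?_, ?_⟩
  · refine (hp.map ρ).sub_of_left ?_
    refine lt_of_le_of_lt Polynomial.degree_C_le ?_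
    rw [hp.degree_map, Polynomial.degree_eq_natDegree hp.ne_zero]
    exact_mod_cast hd
  · rw [Polynomial.eval₂_sub, Polynomial.eval₂_map, Polynomial.eval₂_C, hcomp, hpe]
    simp


theorem nn_chain : ∀ (r : ℕ) (A : Type u) [CommRing A] [IsDomain A] [Algebra k A]
    [Algebra.FiniteType k A] (d : ℕ) (hd : ringKrullDim A = (d : WithBot ℕ∞))
    (q : Fin r → PrimeSpectrum A) (hq : StrictMono q) (h : Fin r → ℕ) (hh : ∀ i, h i ≤ d)
    (hdim : ∀ i, ringKrullDim (A ⧸ (q i).asIdeal) = ((d - h i : ℕ) : WithBot ℕ∞)),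
    ∃ z : ℕ → A, IntN k d z ∧ ∀ i l, l < h i → z l ∈ (q i).asIdeal := by
  intro r
  induction r with
  | zero =>
    intro A _ _ _ _ d hd q hq h hh hdim
    obtain ⟨M, f, hf⟩ := Algebra.FiniteType.iff_quotient_mvPolynomial''.mp
      (inferInstance : Algebra.FiniteType k A)
    let s : ℕ → A := fun l => if hl : l < M then f (X ⟨l, hl⟩) else 0
    have hs : (aeval (fun l : Fin M => s l) : MvPolynomial (Fin M) k →ₐ[k] A) = f := by
      apply MvPolynomial.algHom_ext
      intro i
      simp [s, i.2]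
    have hint : IntN k (M + 0) s := by
      show (aeval (fun l : Fin M => s l) : MvPolynomial (Fin M) k →ₐ[k] A).toRingHom.IsIntegral
      rw [hs]
      exact RingHom.isIntegral_of_surjective _ hf
    obtain ⟨n', s', hn', hint', -, -, hfin⟩ := loop k (⊤ : Ideal A) 0 M s hint
      (fun _ _ => Submodule.mem_top)
    have hc := count_le k (n' + 0) _ hint'
    have hnd : n' + 0 = d := by
      rcases hfin with h0 | hinj
      · have h1 := hc.1
        rw [hd, h0] at h1
        have h2 : d ≤ 0 + 0 := by exact_mod_cast h1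
        omega
      · have h1 := hc.2.2 hinj
        rw [hd] at h1
        have h2 : d = n' + 0 := by exact_mod_cast h1
        omega
    exact ⟨s', cast_N (P := fun N => IntN k N s') hnd hint', fun i => i.elim0⟩
  | succ r ih =>
    intro A _ _ _ _ d hd q hq h hh hdim
    haveI hq0p : (q 0).asIdeal.IsPrime := (q 0).isPrime
    have hle : ∀ i : Fin r, (q 0).asIdeal ≤ (q i.succ).asIdeal := fun i =>
      (PrimeSpectrum.asIdeal_le_asIdeal _ _).mpr (hq.monotone (Fin.zero_le _))
    have hh0 : ∀ i : Fin r, h 0 ≤ h i.succ := by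
      intro i
      have h1 : ringKrullDim (A ⧸ (q i.succ).asIdeal) ≤ ringKrullDim (A ⧸ (q 0).asIdeal) :=
        ringKrullDim_le_of_surjective (Ideal.Quotient.factor (hle i))
          (Ideal.Quotient.factor_surjective (hle i))
      rw [hdim, hdim] at h1
      have h2 : d - h i.succ ≤ d - h 0 := by exact_mod_cast h1
      have := hh i.succ
      have := hh 0
      omega
    haveI hFT : Algebra.FiniteType k (A ⧸ (q 0).asIdeal) :=
      Algebra.FiniteType.of_surjective (Ideal.Quotient.mkₐ k (q 0).asIdeal)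
        (Ideal.Quotient.mkₐ_surjective k _)
    let qb : Fin r → PrimeSpectrum (A ⧸ (q 0).asIdeal) := fun i =>
      ⟨(q i.succ).asIdeal.map (Ideal.Quotient.mk (q 0).asIdeal),
        Ideal.map_isPrime_of_surjective Ideal.Quotient.mk_surjective
          (by rw [Ideal.mk_ker]; exact hle i)⟩
    have hqb : StrictMono qb := by
      intro i j hij
      have hlt : (q i.succ).asIdeal < (q j.succ).asIdeal :=
        (PrimeSpectrum.asIdeal_lt_asIdeal _ _).mpr (hq (Fin.succ_lt_succ_iff.mpr hij))
      rw [← PrimeSpectrum.asIdeal_lt_asIdeal]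
      show (q i.succ).asIdeal.map (Ideal.Quotient.mk (q 0).asIdeal)
        < (q j.succ).asIdeal.map (Ideal.Quotient.mk (q 0).asIdeal)
      refine lt_of_le_of_ne (Ideal.map_mono hlt.le) fun heq => ?_
      have h1 := congrArg (Ideal.comap (Ideal.Quotient.mk (q 0).asIdeal)) heq
      rw [comap_map_mk (hle i), comap_map_mk (hle j)] at h1
      exact hlt.ne h1
    have hdimb : ∀ i, ringKrullDim ((A ⧸ (q 0).asIdeal) ⧸ (qb i).asIdeal)
        = ((d - h 0 - (h i.succ - h 0) : ℕ) : WithBot ℕ∞) := by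
      intro i
      show ringKrullDim ((A ⧸ (q 0).asIdeal) ⧸
        (q i.succ).asIdeal.map (Ideal.Quotient.mk (q 0).asIdeal)) = _
      rw [ringKrullDim_eq_of_ringEquiv (DoubleQuot.quotQuotEquivQuotOfLE (hle i)), hdim]
      have := hh0 i
      have := hh i.succ
      congr 1
      omega
    obtain ⟨zb, hzb_int, hzb_mem⟩ := ih (A ⧸ (q 0).asIdeal) (d - h 0) (hdim 0) qb hqb
      (fun i => h i.succ - h 0) (fun i => by have := hh i.succ; have := hh0 i; omega) hdimb
    choose y hy using fun l => Ideal.Quotient.mk_surjective (zb l)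
    have hzb : zb = fun l => Ideal.Quotient.mk (q 0).asIdeal (y l) :=
      funext fun l => (hy l).symm
    subst hzb
    obtain ⟨M, f, hf⟩ := Algebra.FiniteType.iff_quotient_mvPolynomial''.mp
      (inferInstance : Algebra.FiniteType k A)
    choose x hxq p hpm hpd hpe using fun j : Fin M =>
      exists_x k (q 0).asIdeal (d - h 0) y hzb_int (f (X j))
    let s : ℕ → A := fun l => if hl : l < M then x ⟨l, hl⟩ else y (l - M)
    have hsy : ∀ l, s (M + l) = y l := by
      intro l
      simp [s]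
    have hfa : (aeval (fun j : Fin M => f (X j)) : MvPolynomial (Fin M) k →ₐ[k] A) = f := by
      apply MvPolynomial.algHom_ext
      intro i
      simp
    have hint_s : IntN k (M + (d - h 0)) s := by
      apply int_of_gens k (M + (d - h 0)) (fun l : Fin (M + (d - h 0)) => s l) M
        (fun j => f (X j))
      · rw [hfa]
        exact hf
      · intro j
        refine int_elem k M (d - h 0) s y hsy j j.2 (f (X j)) (p j) (hpm j) (hpd j) ?_
        rw [hpe j]
        simp [s, j.2]
    obtain ⟨n', s', hn', hint', hmem', hcong, hfin⟩ := loop k (q 0).asIdeal (d - h 0) M s hint_s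
      (fun l hl => by simp only [s, dif_pos hl]; exact hxq _)
    have hc := count_le k (n' + (d - h 0)) _ hint'
    have hh00 := hh 0
    have hn0 : n' = h 0 := by
      rcases hfin with h0 | hinj
      · have h1 := hc.1
        rw [hd, h0] at h1
        have h2 : d ≤ 0 + (d - h 0) := by exact_mod_cast h1
        omega
      · have h1 := hc.2.2 hinj
        rw [hd] at h1
        have h2 : d = n' + (d - h 0) := by exact_mod_cast h1
        omega
    have hnd : n' + (d - h 0) = d := by omega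
    refine ⟨s', cast_N (P := fun N => IntN k N s') hnd hint', ?_⟩
    intro i l hl
    obtain rfl | ⟨i', rfl⟩ := Fin.eq_zero_or_eq_succ i
    · exact hmem' l (by omega)
    · by_cases hl' : l < n'
      · exact hle i' (hmem' l hl')
      · obtain ⟨j, rfl⟩ : ∃ j, l = n' + j := ⟨l - n', by omega⟩
        have hj : j < h i'.succ - h 0 := by omega
        have h1 : y j ∈ (q i'.succ).asIdeal :=
          (Ideal.mem_quotient_iff_mem (hle i')).mp (hzb_mem i' j hj)
        have h2 := hle i' (hcong j)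
        rw [hsy] at h2
        have e : s' (n' + j) = (s' (n' + j) - y j) + y j := by ring
        rw [e]
        exact Ideal.add_mem _ h2 h1

theorem part1 (A : Type u) [CommRing A] [IsDomain A] [Algebra k A] [Algebra.FiniteType k A]
    (d : ℕ) (hd : ringKrullDim A = (d : WithBot ℕ∞)) (r : ℕ) (q : Fin r → PrimeSpectrum A)
    (hq : StrictMono q) (h : Fin r → ℕ) (hh : ∀ i, h i ≤ d)
    (hdim : ∀ i, ringKrullDim (A ⧸ (q i).asIdeal) = ((d - h i : ℕ) : WithBot ℕ∞)) :
    ∃ φ : MvPolynomial (Fin d) k →ₐ[k] A, φ.toRingHom.Finite ∧ Function.Injective φ ∧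
      ∀ i, (q i).asIdeal.comap φ = pI k d (h i) := by
  obtain ⟨z, hz, hzm⟩ := nn_chain k r A d hd q hq h hh hdim
  set φ : MvPolynomial (Fin d) k →ₐ[k] A := aeval (fun l : Fin d => z l) with hφ
  have hint : φ.toRingHom.IsIntegral := hz
  have hc := count_le k d φ hint
  have hinj : Function.Injective φ := hc.2.1 hd
  have hfin : φ.toRingHom.Finite := by
    have hcomp : algebraMap k A = φ.toRingHom.comp (algebraMap k (MvPolynomial (Fin d) k)) := by
      ext c
      simp
    exact hint.to_finite ((hcomp ▸ RingHom.finiteType_algebraMap.mpr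
      (inferInstance : Algebra.FiniteType k A)).of_comp_finiteType)
  refine ⟨φ, hfin, hinj, fun i => ?_⟩
  letI : Algebra (MvPolynomial (Fin d) k) A := φ.toRingHom.toAlgebra
  haveI : Algebra.IsIntegral (MvPolynomial (Fin d) k) A := ⟨hint⟩
  have hle : pI k d (h i) ≤ (q i).asIdeal.comap φ := by
    apply Ideal.span_le.mpr
    rintro _ ⟨l, hl, rfl⟩
    show φ (X l) ∈ (q i).asIdeal
    rw [hφ, aeval_X]
    exact hzm i l hl
  by_contra hne
  have hlt : pI k d (h i) < (q i).asIdeal.comap φ := lt_of_le_of_ne hle (Ne.symm hne)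
  haveI := pI_isPrime k d (h i)
  have h1 := dim_quot_lt hlt (d - h i) (pI_dim k d (h i) (hh i))
  have h2 : ringKrullDim (A ⧸ (q i).asIdeal) = ringKrullDim (MvPolynomial (Fin d) k ⧸
      (q i).asIdeal.under (MvPolynomial (Fin d) k)) := dim_quot_under _
  have h3 : (q i).asIdeal.under (MvPolynomial (Fin d) k) = (q i).asIdeal.comap φ := rfl
  rw [h3, hdim i] at h2
  rw [← h2] at h1
  exact lt_irrefl _ h1

end Count

/-! ### going down in quotients and chain extension -/

section GD

variable {R S : Type*} [CommRing R] [CommRing S] [Algebra R S] [Algebra.IsIntegral R S]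

theorem gd_step (p₁ p₂ p₃ : Ideal R) [p₁.IsPrime] [p₂.IsPrime] [p₃.IsPrime] (h12 : p₁ ≤ p₂)
    (h23 : p₂ ≤ p₃) [IsIntegrallyClosed (R ⧸ p₁)] (Q Q' : Ideal S) [Q.IsPrime] [Q'.IsPrime]
    (hQQ' : Q ≤ Q') (hQ : Q.under R = p₁) (hQ' : Q'.under R = p₃) :
    ∃ Q'' : Ideal S, Q''.IsPrime ∧ Q ≤ Q'' ∧ Q'' ≤ Q' ∧ Q''.under R = p₂ := by
  haveI : Q.LiesOver p₁ := ⟨hQ.symm⟩
  have h13 := h12.trans h23
  haveI : (p₂.map (Ideal.Quotient.mk p₁)).IsPrime :=
    Ideal.map_isPrime_of_surjective Ideal.Quotient.mk_surjective (by rw [Ideal.mk_ker]; exact h12)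
  haveI : (p₃.map (Ideal.Quotient.mk p₁)).IsPrime :=
    Ideal.map_isPrime_of_surjective Ideal.Quotient.mk_surjective (by rw [Ideal.mk_ker]; exact h13)
  haveI : (Q'.map (Ideal.Quotient.mk Q)).IsPrime :=
    Ideal.map_isPrime_of_surjective Ideal.Quotient.mk_surjective (by rw [Ideal.mk_ker]; exact hQQ')
  have key1 : ∀ x : R, Ideal.Quotient.mk p₁ x ∈ (Q'.map (Ideal.Quotient.mk Q)).under (R ⧸ p₁)
      ↔ x ∈ p₃ := by
    intro x
    rw [Ideal.under_def, Ideal.mem_comap, Ideal.Quotient.algebraMap_mk_of_liesOver,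
      Ideal.mem_quotient_iff_mem hQQ', ← hQ']
    rfl
  haveI : (Q'.map (Ideal.Quotient.mk Q)).LiesOver (p₃.map (Ideal.Quotient.mk p₁)) := by
    constructor
    ext xb
    obtain ⟨x, rfl⟩ := Ideal.Quotient.mk_surjective xb
    rw [Ideal.mem_quotient_iff_mem h13, key1]
  obtain ⟨Pb, hPble, hPbprime, hPbover⟩ :=
    Ideal.exists_ideal_le_liesOver_of_le (p := p₂.map (Ideal.Quotient.mk p₁))
      (q := p₃.map (Ideal.Quotient.mk p₁)) (Q'.map (Ideal.Quotient.mk Q)) (Ideal.map_mono h23)
  refine ⟨Pb.comap (Ideal.Quotient.mk Q), Ideal.comap_isPrime _ _, ?_, ?_, ?_⟩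
  · intro x hx
    rw [Ideal.mem_comap, Ideal.Quotient.eq_zero_iff_mem.mpr hx]
    exact Pb.zero_mem
  · calc Pb.comap (Ideal.Quotient.mk Q)
        ≤ (Q'.map (Ideal.Quotient.mk Q)).comap (Ideal.Quotient.mk Q) := Ideal.comap_mono hPble
      _ = Q' := comap_map_mk hQQ'
  · ext x
    have e1 : p₂.map (Ideal.Quotient.mk p₁) = Pb.under (R ⧸ p₁) := hPbover.over
    rw [← Ideal.mem_quotient_iff_mem h12 (x := x), e1, Ideal.under_def, Ideal.mem_comap,
      Ideal.mem_comap, Ideal.mem_comap, Ideal.Quotient.algebraMap_mk_of_liesOver]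

variable (p : ℕ → Ideal R) (hprime : ∀ j, (p j).IsPrime)
  (hic : ∀ j, IsIntegrallyClosed (R ⧸ p j)) (hmono : Monotone p)

include hprime hic hmono in
theorem seg (a : ℕ) (Qlo : PrimeSpectrum S) (hlo : Qlo.asIdeal.under R = p a) :
    ∀ (n : ℕ) (Qhi : PrimeSpectrum S), Qlo ≤ Qhi → Qhi.asIdeal.under R = p (a + n) →
      ∃ F : ℕ → PrimeSpectrum S, F a = Qlo ∧ F (a + n) = Qhi ∧
        (∀ t, t ≤ n → (F (a + t)).asIdeal.under R = p (a + t)) ∧
        (∀ t, t < n → F (a + t) ≤ F (a + t + 1)) := by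
  intro n
  induction n with
  | zero =>
    intro Qhi hle hhi
    have heq : Qlo = Qhi := by
      by_contra hne
      have hlt : Qlo.asIdeal < Qhi.asIdeal :=
        lt_of_le_of_ne ((PrimeSpectrum.asIdeal_le_asIdeal _ _).mpr hle)
          (fun e => hne (PrimeSpectrum.ext e))
      have h1 := Ideal.IsIntegral.comap_lt_comap (R := R) hlt
      rw [show Qlo.asIdeal.comap (algebraMap R S) = p a from hlo,
        show Qhi.asIdeal.comap (algebraMap R S) = p a from hhi] at h1
      exact lt_irrefl _ h1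
    subst heq
    refine ⟨fun _ => Qlo, rfl, rfl, fun t ht => ?_, fun t ht => absurd ht (Nat.not_lt_zero _)⟩
    have : t = 0 := by omega
    subst this
    exact hlo
  | succ n ih =>
    intro Qhi hle hhi
    haveI := hprime a
    haveI := hprime (a + n)
    haveI := hprime (a + (n + 1))
    haveI := hic a
    obtain ⟨Q'', hQ''p, h1, h2, h3⟩ := gd_step (p a) (p (a + n)) (p (a + (n + 1)))
      (hmono (by omega)) (hmono (by omega)) Qlo.asIdeal Qhi.asIdeal
      ((PrimeSpectrum.asIdeal_le_asIdeal _ _).mpr hle) hlo hhi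
    obtain ⟨F', hF'a, hF'n, hF'over, hF'step⟩ := ih ⟨Q'', hQ''p⟩
      ((PrimeSpectrum.asIdeal_le_asIdeal _ _).mp h1) h3
    refine ⟨fun j => if j = a + (n + 1) then Qhi else F' j, ?_, ?_, ?_, ?_⟩
    · dsimp only
      rw [if_neg (by omega)]
      exact hF'a
    · dsimp only
      rw [if_pos rfl]
    · intro t ht
      dsimp only
      by_cases htn : t = n + 1
      · subst htn
        rw [if_pos rfl]
        exact hhi
      · rw [if_neg (by omega)]
        exact hF'over t (by omega)
    · intro t ht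
      dsimp only
      by_cases htn : t = n
      · subst htn
        rw [if_neg (by omega), if_pos (by omega), hF'n]
        exact (PrimeSpectrum.asIdeal_le_asIdeal _ _).mp h2
      · rw [if_neg (by omega), if_neg (by omega)]
        exact hF'step t (by omega)

include hprime hic hmono in
theorem chain_ext (d : ℕ) : ∀ (r : ℕ) (a : ℕ) (ha : a ≤ d) (Qlo : PrimeSpectrum S)
    (hlo : Qlo.asIdeal.under R = p a) (q : Fin r → PrimeSpectrum S) (h : Fin r → ℕ)
    (hq : Monotone q) (hh : ∀ i, h i ≤ d) (hhm : StrictMono h) (hqa : ∀ i, Qlo ≤ q i)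
    (hha : ∀ i, a ≤ h i) (hover : ∀ i, (q i).asIdeal.under R = p (h i)),
    ∃ F : ℕ → PrimeSpectrum S, F a = Qlo ∧
      (∀ j, a ≤ j → j ≤ d → (F j).asIdeal.under R = p j) ∧
      (∀ j, a ≤ j → j < d → F j ≤ F (j + 1)) ∧ (∀ i, F (h i) = q i) := by
  intro r
  induction r with
  | zero =>
    intro a ha Qlo hlo q h hq hh hhm hqa hha hover
    haveI := hprime d
    obtain ⟨M, hM, hMp, hMover⟩ := Ideal.exists_ideal_over_prime_of_isIntegral_of_isPrime (p d)
      Qlo.asIdeal
      (by rw [show Qlo.asIdeal.comap (algebraMap R S) = p a from hlo]; exact hmono ha)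
    obtain ⟨F, hFa, hFd, hFover, hFstep⟩ := seg p hprime hic hmono a Qlo hlo (d - a) ⟨M, hMp⟩
      ((PrimeSpectrum.asIdeal_le_asIdeal _ _).mp hM)
      (by rw [show a + (d - a) = d by omega]; exact hMover)
    refine ⟨F, hFa, ?_, ?_, fun i => i.elim0⟩
    · intro j haj hjd
      have h1 := hFover (j - a) (by omega)
      rwa [show a + (j - a) = j by omega] at h1
    · intro j haj hjd
      have h1 := hFstep (j - a) (by omega)
      rwa [show a + (j - a) = j by omega] at h1
  | succ r ih =>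
    intro a ha Qlo hlo q h hq hh hhm hqa hha hover
    have hah := hha 0
    obtain ⟨F₁, hF₁a, hF₁h, hF₁over, hF₁step⟩ := seg p hprime hic hmono a Qlo hlo (h 0 - a) (q 0)
      (hqa 0) (by rw [show a + (h 0 - a) = h 0 by omega]; exact hover 0)
    obtain ⟨F₂, hF₂a, hF₂over, hF₂step, hF₂q⟩ := ih (h 0) (hh 0) (q 0) (hover 0)
      (fun i => q i.succ) (fun i => h i.succ)
      (fun i j hij => hq (Fin.succ_le_succ_iff.mpr hij)) (fun i => hh i.succ)
      (fun i j hij => hhm (Fin.succ_lt_succ_iff.mpr hij)) (fun i => hq (Fin.zero_le _))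
      (fun i => (hhm (Fin.succ_pos i)).le) (fun i => hover i.succ)
    rw [show a + (h 0 - a) = h 0 by omega] at hF₁h
    refine ⟨fun j => if j ≤ h 0 then F₁ j else F₂ j, ?_, ?_, ?_, ?_⟩
    · dsimp only
      rw [if_pos hah]
      exact hF₁a
    · intro j haj hjd
      dsimp only
      by_cases hj : j ≤ h 0
      · rw [if_pos hj]
        have h1 := hF₁over (j - a) (by omega)
        rwa [show a + (j - a) = j by omega] at h1
      · rw [if_neg hj]
        exact hF₂over j (by omega) hjd
    · intro j haj hjd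
      dsimp only
      by_cases hj : j + 1 ≤ h 0
      · rw [if_pos (by omega), if_pos hj]
        have h1 := hF₁step (j - a) (by omega)
        rwa [show a + (j - a) = j by omega] at h1
      · by_cases hj' : j = h 0
        · rw [if_pos (by omega), if_neg (by omega), hj', hF₁h]
          have h1 := hF₂step (h 0) le_rfl (by omega)
          rwa [hF₂a] at h1
        · rw [if_neg (by omega), if_neg (by omega)]
          exact hF₂step j (by omega) hjd
    · intro i
      dsimp only
      obtain rfl | ⟨i', rfl⟩ := Fin.eq_zero_or_eq_succ i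
      · rw [if_pos le_rfl]
        exact hF₁h
      · rw [if_neg (by have := hhm (Fin.succ_pos i'); omega)]
        exact hF₂q i'

end GD

section Final

variable (k : Type u) [Field k]

theorem part2 (A : Type u) [CommRing A] [IsDomain A] [Algebra k A] (d : ℕ) (r : ℕ)
    (q : Fin r → PrimeSpectrum A) (hq : StrictMono q) (h : Fin r → ℕ) (hh : ∀ i, h i ≤ d)
    (φ : MvPolynomial (Fin d) k →ₐ[k] A) (hfin : φ.toRingHom.Finite)
    (hinj : Function.Injective φ)
    (hcomap : ∀ i, (q i).asIdeal.comap φ = pI k d (h i)) :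
    ∃ Q : ℕ → PrimeSpectrum A,
      (∀ j, j ≤ d → (Q j).asIdeal.comap φ = pI k d j) ∧
      (∀ j, j < d → Q j < Q (j + 1)) ∧ (∀ i, Q (h i) = q i) := by
  letI : Algebra (MvPolynomial (Fin d) k) A := φ.toRingHom.toAlgebra
  haveI : Algebra.IsIntegral (MvPolynomial (Fin d) k) A := ⟨RingHom.IsIntegral.of_finite hfin⟩
  have hu : ∀ Q : Ideal A, Q.under (MvPolynomial (Fin d) k) = Q.comap φ := fun Q => rfl
  have hhm : StrictMono h := by
    intro i j hij
    have hlt : (q i).asIdeal < (q j).asIdeal :=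
      (PrimeSpectrum.asIdeal_lt_asIdeal _ _).mpr (hq hij)
    have h1 := Ideal.IsIntegral.comap_lt_comap (R := MvPolynomial (Fin d) k) hlt
    rw [show (q i).asIdeal.comap (algebraMap (MvPolynomial (Fin d) k) A) = pI k d (h i)
        from hcomap i,
      show (q j).asIdeal.comap (algebraMap (MvPolynomial (Fin d) k) A) = pI k d (h j)
        from hcomap j] at h1
    by_contra hnlt
    exact absurd (pI_mono k d (not_lt.mp hnlt)) (not_le_of_gt h1)
  let bot : PrimeSpectrum A := ⟨⊥, inferInstance⟩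
  obtain ⟨F, hF0, hFover, hFstep, hFq⟩ := chain_ext (pI k d) (pI_isPrime k d)
    (fun j => pI_intClosed k d j) (pI_mono k d) d r 0 (Nat.zero_le _) bot
    (by rw [hu, pI_zero]; exact Ideal.comap_bot_of_injective φ hinj) q h hq.monotone hh hhm
    (fun i => (PrimeSpectrum.asIdeal_le_asIdeal _ _).mp bot_le) (fun i => Nat.zero_le _)
    (fun i => by rw [hu]; exact hcomap i)
  refine ⟨F, fun j hj => by rw [← hu]; exact hFover j (Nat.zero_le _) hj, fun j hj => ?_, hFq⟩
  refine lt_of_le_of_ne (hFstep j (Nat.zero_le _) hj) fun heq => ?_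
  have h1 := hFover j (Nat.zero_le _) hj.le
  have h2 := hFover (j + 1) (Nat.zero_le _) hj
  rw [heq, h2] at h1
  exact pI_ne k d j hj h1.symm

theorem main (A : Type u) [CommRing A] [IsDomain A] [Algebra k A] [Algebra.FiniteType k A]
    (d : ℕ) (hd : ringKrullDim A = (d : WithBot ℕ∞))
    (r : ℕ) (q : Fin r → PrimeSpectrum A) (hq : StrictMono q) (h : Fin r → ℕ)
    (hh : ∀ i, h i ≤ d)
    (hdim : ∀ i, ringKrullDim (A ⧸ (q i).asIdeal) = ((d - h i : ℕ) : WithBot ℕ∞)) :
    (∃ φ : MvPolynomial (Fin d) k →ₐ[k] A, φ.toRingHom.Finite ∧ Function.Injective φ ∧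
      ∀ i, (q i).asIdeal.comap φ
        = Ideal.span (MvPolynomial.X '' {l : Fin d | (l : ℕ) < h i})) ∧
    (∀ φ : MvPolynomial (Fin d) k →ₐ[k] A, φ.toRingHom.Finite → Function.Injective φ →
      (∀ i, (q i).asIdeal.comap φ
        = Ideal.span (MvPolynomial.X '' {l : Fin d | (l : ℕ) < h i})) →
      ∃ Q : ℕ → PrimeSpectrum A,
        (∀ j, j ≤ d → (Q j).asIdeal.comap φ
          = Ideal.span (MvPolynomial.X '' {l : Fin d | (l : ℕ) < j})) ∧
        (∀ j, j < d → Q j < Q (j + 1)) ∧ (∀ i, Q (h i) = q i)) :=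
  ⟨part1 k A d hd r q hq h hh hdim,
    fun φ hfin hinj hcomap => part2 k A d r q hq h hh φ hfin hinj hcomap⟩

end Final

end Groth.Agent.H4.NoethChain
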