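import Mathlib
import Groth.Agent.H4.NoethChain
import Groth.Agent.Lib.Helper6.RelNN

set_option autoImplicit false
set_option linter.unusedSectionVars false
set_option linter.unusedVariables false
set_option linter.style.haveILetI false

namespace Groth.Agent.H4.EtaleFinP

universe u

open MvPolynomial KaehlerDifferential TensorProduct
open Groth.Agent.H4.NoethChain

theorem dim_le_of_quasiFinite (R S : Type*) [CommRing R] [CommRing S] [Algebra R S]
    [Algebra.QuasiFinite R S] : ringKrullDim S ≤ ringKrullDim R := by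
  unfold ringKrullDim
  apply Order.krullDim_le_of_strictMono (PrimeSpectrum.comap (algebraMap R S))
  intro P Q hPQ
  rw [← PrimeSpectrum.asIdeal_lt_asIdeal] at hPQ ⊢
  refine lt_of_le_of_ne (Ideal.comap_mono hPQ.le) fun heq => hPQ.ne ?_
  exact Algebra.QuasiFinite.eq_of_le_of_under_eq (R := R) P.asIdeal Q.asIdeal hPQ.le heq

theorem exists_basis_of_etale (k : Type*) [CommRing k] (σ : Type*) (C : Type*) [CommRing C]
    [Algebra k C] [Algebra (MvPolynomial σ k) C] [IsScalarTower k (MvPolynomial σ k) C]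
    [Algebra.FormallyEtale (MvPolynomial σ k) C] :
    ∃ b : Module.Basis σ C Ω[C⁄k],
      ∀ i, b i = D k C (algebraMap (MvPolynomial σ k) C (X i)) := by
  refine ⟨((Algebra.TensorProduct.basis C (mvPolynomialBasis k σ)).map
    (tensorKaehlerEquivOfFormallyEtale k (MvPolynomial σ k) C)), fun i => ?_⟩
  rw [Module.Basis.map_apply, Algebra.TensorProduct.basis_apply,
    tensorKaehlerEquivOfFormallyEtale_apply, mapBaseChange_tmul, one_smul,
    mvPolynomialBasis_apply, map_D]

theorem formallyEtale_of_basis (k : Type*) [CommRing k] (σ : Type*) (C : Type*) [CommRing C]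
    [Algebra k C] [Algebra (MvPolynomial σ k) C] [IsScalarTower k (MvPolynomial σ k) C]
    (hH1 : Subsingleton (Algebra.H1Cotangent k C))
    (b : Module.Basis σ C Ω[C⁄k])
    (hb : ∀ i, b i = D k C (algebraMap (MvPolynomial σ k) C (X i))) :
    Algebra.FormallyEtale (MvPolynomial σ k) C := by
  let b' : Module.Basis σ C (C ⊗[MvPolynomial σ k] Ω[MvPolynomial σ k⁄k]) :=
    Algebra.TensorProduct.basis C (mvPolynomialBasis k σ)
  have hmap : mapBaseChange k (MvPolynomial σ k) C = (b'.equiv b (Equiv.refl σ)).toLinearMap := by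
    apply b'.ext
    intro i
    rw [LinearEquiv.coe_coe, Module.Basis.equiv_apply, Equiv.refl_apply, hb]
    simp only [b', Algebra.TensorProduct.basis_apply, mapBaseChange_tmul, one_smul,
      mvPolynomialBasis_apply, map_D]
  have hbij : Function.Bijective (mapBaseChange k (MvPolynomial σ k) C) := by
    rw [hmap]
    exact (b'.equiv b (Equiv.refl σ)).bijective
  have hΩ : Subsingleton Ω[C⁄MvPolynomial σ k] := by
    have h0 : ∀ a : Ω[C⁄MvPolynomial σ k], a = 0 := by
      intro a
      obtain ⟨ω, rfl⟩ := KaehlerDifferential.map_surjective k (MvPolynomial σ k) C a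
      obtain ⟨t, rfl⟩ := hbij.2 ω
      exact (KaehlerDifferential.exact_mapBaseChange_map k (MvPolynomial σ k) C _).mpr ⟨t, rfl⟩
    exact ⟨fun a a' => by rw [h0 a, h0 a']⟩
  have hH : Subsingleton (Algebra.H1Cotangent (MvPolynomial σ k) C) := by
    have h0 : ∀ a : Algebra.H1Cotangent (MvPolynomial σ k) C, a = 0 := by
      intro a
      have h1 : mapBaseChange k (MvPolynomial σ k) C
          (Algebra.H1Cotangent.δ k (MvPolynomial σ k) C a) = 0 :=
        (Algebra.H1Cotangent.exact_δ_mapBaseChange k (MvPolynomial σ k) C _).mpr ⟨a, rfl⟩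
      have h2 : Algebra.H1Cotangent.δ k (MvPolynomial σ k) C a = 0 :=
        hbij.1 (by rw [h1, map_zero])
      obtain ⟨a₀, rfl⟩ := (Algebra.H1Cotangent.exact_map_δ k (MvPolynomial σ k) C a).mp h2
      rw [Subsingleton.elim a₀ 0, map_zero]
    exact ⟨fun a a' => by rw [h0 a, h0 a']⟩
  haveI : Algebra.FormallyUnramified (MvPolynomial σ k) C := ⟨hΩ⟩
  haveI : Algebra.FormallySmooth (MvPolynomial σ k) C := ⟨inferInstance, hH⟩
  exact Algebra.FormallyEtale.iff_formallyUnramified_and_formallySmooth.mpr
    ⟨inferInstance, inferInstance⟩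

section Main

variable (k : Type u) [Field k] (p : ℕ) [Fact p.Prime] [CharP k p]

theorem D_pow_eq_zero {C : Type*} [CommRing C] [Algebra k C] (c : C) (M : ℕ) (hM : p ∣ M) :
    D k C (c ^ M) = 0 := by
  rw [Derivation.leibniz_pow]
  have h0 : (M : C) = 0 := by
    obtain ⟨M', rfl⟩ := hM
    have h1 : ((p * M' : ℕ) : k) = 0 := by rw [Nat.cast_mul, CharP.cast_eq_zero, zero_mul]
    have h2 := congrArg (algebraMap k C) h1
    rwa [map_natCast, map_zero] at h2
  rw [← Nat.cast_smul_eq_nsmul C, h0, zero_smul]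

include p in
theorem elim_loop {C : Type u} [CommRing C] [Algebra k C] (n : ℕ)
    (hdim : ringKrullDim C ≤ (n : WithBot ℕ∞)) :
    ∀ (t : ℕ) (s : ℕ → C), IntN k (t + n) s →
      ∃ s' : ℕ → C, IntN k (0 + n) s' ∧ ∀ j, D k C (s' j) = D k C (s (t + j)) := by
  intro t
  induction t with
  | zero =>
    intro s hs
    exact ⟨s, hs, fun j => by rw [Nat.zero_add]⟩
  | succ t ih =>
    intro s hs
    have e : t + 1 + n = t + n + 1 := by omega
    have hs' : IntN k (t + n + 1) s := cast_N (P := fun N => IntN k N s) e hs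
    have hninj : ¬ Function.Injective (aeval (fun l : Fin (t + n + 1) => s l) :
        MvPolynomial (Fin (t + n + 1)) k →ₐ[k] C) := by
      intro hinj
      have h1 := (count_le k (t + n + 1) _ hs').2.2 hinj
      rw [h1] at hdim
      have h2 : t + n + 1 ≤ n := by exact_mod_cast hdim
      omega
    rw [injective_iff_map_eq_zero] at hninj
    push Not at hninj
    obtain ⟨g, hg0, hgne⟩ := hninj
    have hp2 : 2 ≤ p := (Fact.out : p.Prime).two_le
    have hU1 : 1 < p ^ (g.totalDegree + 1) := Nat.one_lt_pow (by omega) (by omega)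
    have hdeg : ∀ v ∈ g.support, ∀ i, v i < p ^ (g.totalDegree + 1) := by
      intro v hv i
      have h1 := (MvPolynomial.monomial_le_degreeOf i hv).trans
        (MvPolynomial.degreeOf_le_totalDegree g i)
      have h2 : g.totalDegree + 1 < p ^ (g.totalDegree + 1) := Nat.lt_pow_self (by omega)
      omega
    have key := Groth.Agent.H6.RelNN.step_field (F := k) (S := C)
      (fun l : Fin (t + n + 1) => s l) g hgne hg0 (p ^ (g.totalDegree + 1)) hU1 hdeg hs'
    let s₁ : ℕ → C := fun j => s (j + 1) - s 0 ^ (p ^ (g.totalDegree + 1)) ^ (j + 1)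
    have hs₁ : IntN k (t + n) s₁ := key
    obtain ⟨s', hs'int, hs'D⟩ := ih s₁ hs₁
    refine ⟨s', hs'int, fun j => ?_⟩
    rw [hs'D j]
    show D k C (s (t + j + 1) - s 0 ^ (p ^ (g.totalDegree + 1)) ^ (t + j + 1))
      = D k C (s (t + 1 + j))
    rw [map_sub, D_pow_eq_zero k p _ _ (dvd_pow (dvd_pow_self p (by omega)) (by omega)), sub_zero,
      show t + j + 1 = t + 1 + j by omega]

include p in
theorem main (n : ℕ) (C : Type u) [CommRing C] [Algebra (MvPolynomial (Fin n) k) C] [Algebra k C]
    [IsScalarTower k (MvPolynomial (Fin n) k) C] [Algebra.Etale (MvPolynomial (Fin n) k) C] :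
    ∃ φ : MvPolynomial (Fin n) k →ₐ[k] C, φ.toRingHom.Finite ∧ φ.toRingHom.Etale := by
  haveI hFPold : Algebra.FinitePresentation k C :=
    Algebra.FinitePresentation.trans k (MvPolynomial (Fin n) k) C
  haveI hFS : Algebra.FormallySmooth k C :=
    Algebra.FormallySmooth.comp k (MvPolynomial (Fin n) k) C
  have hH1 : Subsingleton (Algebra.H1Cotangent k C) := inferInstance
  obtain ⟨b, hb⟩ := exists_basis_of_etale k (Fin n) C
  have hdim : ringKrullDim C ≤ (n : WithBot ℕ∞) := by
    have h1 := dim_le_of_quasiFinite (MvPolynomial (Fin n) k) C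
    rwa [Groth.Agent.H2.DimFG.ringKrullDim_mvPolynomial_fin] at h1
  have hFT : Algebra.FiniteType k C := inferInstance
  obtain ⟨M, f, hf⟩ := Algebra.FiniteType.iff_quotient_mvPolynomial''.mp hFT
  let x : ℕ → C := fun j =>
    if hj : j < n then algebraMap (MvPolynomial (Fin n) k) C (X ⟨j, hj⟩) else 0
  let s : ℕ → C := fun l => if hl : l < M then f (X ⟨l, hl⟩) else x (l - M)
  have hfa : (aeval (fun j : Fin M => f (X j)) : MvPolynomial (Fin M) k →ₐ[k] C) = f := by
    apply MvPolynomial.algHom_ext
    intro i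
    simp
  have hs : IntN k (M + n) s := by
    apply int_of_gens k (M + n) (fun l : Fin (M + n) => s l) M (fun j => f (X j))
    · rw [hfa]
      exact hf
    · intro j
      have e1 : f (X j) = (aeval (fun l : Fin (M + n) => s l) :
          MvPolynomial (Fin (M + n)) k →ₐ[k] C).toRingHom (X ⟨j, by omega⟩) := by
        simp [s, j.2]
      rw [e1]
      exact RingHom.isIntegralElem_map _
  obtain ⟨s', hs'int, hs'D⟩ := elim_loop k p n hdim M s hs
  have hs'n : IntN k n s' := cast_N (P := fun N => IntN k N s') (Nat.zero_add n) hs'int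
  set φ : MvPolynomial (Fin n) k →ₐ[k] C := aeval (fun l : Fin n => s' l) with hφ
  have hint : φ.toRingHom.IsIntegral := hs'n
  have hfin : φ.toRingHom.Finite := by
    have hcomp : algebraMap k C = φ.toRingHom.comp (algebraMap k (MvPolynomial (Fin n) k)) := by
      ext c
      simp
    exact hint.to_finite ((hcomp ▸ RingHom.finiteType_algebraMap.mpr hFT).of_comp_finiteType)
  refine ⟨φ, hfin, ?_⟩
  have hD : ∀ i : Fin n, b i = D k C (φ (X i)) := by
    intro i
    rw [hφ, aeval_X, hs'D, hb]
    simp [s, x, i.2]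
  letI inst2 : Algebra (MvPolynomial (Fin n) k) C := φ.toRingHom.toAlgebra
  haveI : IsScalarTower k (MvPolynomial (Fin n) k) C :=
    IsScalarTower.of_algebraMap_eq (fun c => (φ.commutes c).symm)
  haveI : Algebra.FormallyEtale (MvPolynomial (Fin n) k) C :=
    formallyEtale_of_basis k (Fin n) C hH1 b hD
  haveI : Algebra.FinitePresentation (MvPolynomial (Fin n) k) C :=
    Algebra.FinitePresentation.of_restrict_scalars_finitePresentation k (MvPolynomial (Fin n) k) C
  exact (⟨inferInstance, inferInstance⟩ :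
    @Algebra.Etale (MvPolynomial (Fin n) k) C _ _ φ.toRingHom.toAlgebra)

end Main

end Groth.Agent.H4.EtaleFinP
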