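import Mathlib
import Groth.Agent.H4.NoethChain
import Groth.Agent.H4.EtaleFinP
import Groth.Agent.Lib.Helper6.RelNN
import Groth.Agent.Lib.Helper5.CA.EtaleLiftQuot

set_option autoImplicit false
set_option linter.unusedSectionVars false
set_option linter.unusedVariables false
set_option linter.style.haveILetI false

namespace Groth.Agent.H4.EtaleFinQ

universe u

open MvPolynomial KaehlerDifferential TensorProduct
open Groth.Agent.H4.NoethChain Groth.Agent.H4.EtaleFinP

section Main

variable (k : Type u) [Field k] (p : ℕ) [Fact p.Prime] [CharP k p]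

include p in
theorem elim_loop2 {C : Type u} [CommRing C] [Algebra k C] (n : ℕ)
    (hdim : ringKrullDim C ≤ (n : WithBot ℕ∞)) (q : Ideal C) :
    ∀ (t : ℕ) (s : ℕ → C), IntN k (t + n) s → (∀ l, l < t → s l ∈ q) →
      ∃ s' : ℕ → C, IntN k (0 + n) s' ∧
        ∀ j, D k C (s' j) = D k C (s (t + j)) ∧ s' j - s (t + j) ∈ q := by
  intro t
  induction t with
  | zero =>
    intro s hs _
    exact ⟨s, hs, fun j => by rw [Nat.zero_add]; exact ⟨rfl, by simp⟩⟩
  | succ t ih =>
    intro s hs hmem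
    have e : t + 1 + n = t + n + 1 := by omega
    have hs' : IntN k (t + n + 1) s := cast_N (P := fun N => IntN k N s) e hs
    have hninj : ¬ Function.Injective (aeval (fun l : Fin (t + n + 1) => s l) :
        MvPolynomial (Fin (t + n + 1)) k →ₐ[k] C) := by
      intro hinj
      have h1 := (count_le k (t + n + 1) _ hs').2.2 hinj
      rw [h1] at hdim
      have h2 : t + n + 1 ≤ n := by exact_mod_cast hdim
      omega
    rw [injective_iff_map_eq_zero] at hninj
    push Not at hninj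
    obtain ⟨g, hg0, hgne⟩ := hninj
    have hp2 : 2 ≤ p := (Fact.out : p.Prime).two_le
    have hU1 : 1 < p ^ (g.totalDegree + 1) := Nat.one_lt_pow (by omega) (by omega)
    have hdeg : ∀ v ∈ g.support, ∀ i, v i < p ^ (g.totalDegree + 1) := by
      intro v hv i
      have h1 := (MvPolynomial.monomial_le_degreeOf i hv).trans
        (MvPolynomial.degreeOf_le_totalDegree g i)
      have h2 : g.totalDegree + 1 < p ^ (g.totalDegree + 1) := Nat.lt_pow_self (by omega)
      omega
    have key := Groth.Agent.H6.RelNN.step_field (F := k) (S := C)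
      (fun l : Fin (t + n + 1) => s l) g hgne hg0 (p ^ (g.totalDegree + 1)) hU1 hdeg hs'
    let s₁ : ℕ → C := fun j => s (j + 1) - s 0 ^ (p ^ (g.totalDegree + 1)) ^ (j + 1)
    have hs₁ : IntN k (t + n) s₁ := key
    have hpos : ∀ j : ℕ, 0 < (p ^ (g.totalDegree + 1)) ^ (j + 1) :=
      fun j => pow_pos (by omega) _
    have hs0 : ∀ j : ℕ, s 0 ^ (p ^ (g.totalDegree + 1)) ^ (j + 1) ∈ q := fun j =>
      Ideal.pow_mem_of_mem q (hmem 0 (by omega)) _ (hpos j)
    obtain ⟨s', hs'int, hs'D⟩ := ih s₁ hs₁ (fun l hl => q.sub_mem (hmem (l + 1) (by omega)) (hs0 l))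
    refine ⟨s', hs'int, fun j => ?_⟩
    obtain ⟨h1, h2⟩ := hs'D j
    have e2 : t + 1 + j = t + j + 1 := by omega
    rw [e2]
    constructor
    · rw [h1]
      show D k C (s (t + j + 1) - s 0 ^ (p ^ (g.totalDegree + 1)) ^ (t + j + 1))
        = D k C (s (t + j + 1))
      rw [map_sub, D_pow_eq_zero k p _ _ (dvd_pow (dvd_pow_self p (by omega)) (by omega)),
        sub_zero]
    · have e3 : s' j - s (t + j + 1)
          = (s' j - s₁ (t + j)) - s 0 ^ (p ^ (g.totalDegree + 1)) ^ (t + j + 1) := by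
        simp only [s₁]
        ring
      rw [e3]
      exact q.sub_mem h2 (hs0 (t + j))

include p in
theorem core (n : ℕ) (Q : Type u) [CommRing Q] [Algebra (MvPolynomial (Fin n) k) Q] [Algebra k Q]
    [IsScalarTower k (MvPolynomial (Fin n) k) Q] [Algebra.Etale (MvPolynomial (Fin n) k) Q]
    (q : Ideal Q)
    (hq : ∀ z : Q, ∃ F : Polynomial (MvPolynomial (Fin n) k), F.Monic ∧ 0 < F.natDegree ∧
      Polynomial.eval₂ (algebraMap (MvPolynomial (Fin n) k) Q) z F ∈ q) :
    ∃ φ : MvPolynomial (Fin n) k →ₐ[k] Q, φ.toRingHom.Finite ∧ φ.toRingHom.Etale ∧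
      ∀ i, φ (X i) - algebraMap (MvPolynomial (Fin n) k) Q (X i) ∈ q := by
  haveI hFPold : Algebra.FinitePresentation k Q :=
    Algebra.FinitePresentation.trans k (MvPolynomial (Fin n) k) Q
  haveI hFS : Algebra.FormallySmooth k Q :=
    Algebra.FormallySmooth.comp k (MvPolynomial (Fin n) k) Q
  have hH1 : Subsingleton (Algebra.H1Cotangent k Q) := inferInstance
  obtain ⟨b, hb⟩ := exists_basis_of_etale k (Fin n) Q
  have hdim : ringKrullDim Q ≤ (n : WithBot ℕ∞) := by
    have h1 := dim_le_of_quasiFinite (MvPolynomial (Fin n) k) Q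
    rwa [Groth.Agent.H2.DimFG.ringKrullDim_mvPolynomial_fin] at h1
  have hFT : Algebra.FiniteType k Q := inferInstance
  obtain ⟨M, f, hf⟩ := Algebra.FiniteType.iff_quotient_mvPolynomial''.mp hFT
  choose F hFm hFd hFq using fun j : Fin M => hq (f (X j))
  let x : ℕ → Q := fun j =>
    if hj : j < n then algebraMap (MvPolynomial (Fin n) k) Q (X ⟨j, hj⟩) else 0
  let s : ℕ → Q := fun l =>
    if hl : l < M then
      Polynomial.eval₂ (algebraMap (MvPolynomial (Fin n) k) Q) (f (X ⟨l, hl⟩)) (F ⟨l, hl⟩)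
    else x (l - M)
  have hsx : ∀ l, s (M + l) = x l := by
    intro l
    simp [s]
  have hfa : (aeval (fun j : Fin M => f (X j)) : MvPolynomial (Fin M) k →ₐ[k] Q) = f := by
    apply MvPolynomial.algHom_ext
    intro i
    simp
  have hax : (aeval (fun l : Fin n => x l) : MvPolynomial (Fin n) k →ₐ[k] Q).toRingHom
      = algebraMap (MvPolynomial (Fin n) k) Q := by
    have h1 : (aeval (fun l : Fin n => x l) : MvPolynomial (Fin n) k →ₐ[k] Q)
        = IsScalarTower.toAlgHom k (MvPolynomial (Fin n) k) Q := by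
      apply MvPolynomial.algHom_ext
      intro i
      simp [x, i.2]
    rw [h1]
    rfl
  have hs : IntN k (M + n) s := by
    apply int_of_gens k (M + n) (fun l : Fin (M + n) => s l) M (fun j => f (X j))
    · rw [hfa]
      exact hf
    · intro j
      refine int_elem k M n s x hsx j j.2 (f (X j)) (F j) (hFm j) (hFd j) ?_
      rw [hax]
      simp [s, j.2]
  obtain ⟨s', hs'int, hs'D⟩ := elim_loop2 k p n hdim q M s hs
    (fun l hl => by simp only [s, dif_pos hl]; exact hFq _)
  have hs'n : IntN k n s' := cast_N (P := fun N => IntN k N s') (Nat.zero_add n) hs'int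
  set φ : MvPolynomial (Fin n) k →ₐ[k] Q := aeval (fun l : Fin n => s' l) with hφ
  have hint : φ.toRingHom.IsIntegral := hs'n
  have hfin : φ.toRingHom.Finite := by
    have hcomp : algebraMap k Q = φ.toRingHom.comp (algebraMap k (MvPolynomial (Fin n) k)) := by
      ext c
      simp
    exact hint.to_finite ((hcomp ▸ RingHom.finiteType_algebraMap.mpr hFT).of_comp_finiteType)
  have hxi : ∀ i : Fin n, s (M + i) = algebraMap (MvPolynomial (Fin n) k) Q (X i) := by
    intro i
    rw [hsx]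
    simp [x, i.2]
  have hthird : ∀ i, φ (X i) - algebraMap (MvPolynomial (Fin n) k) Q (X i) ∈ q := by
    intro i
    rw [hφ, aeval_X, ← hxi]
    exact (hs'D i).2
  refine ⟨φ, hfin, ?_, hthird⟩
  have hD : ∀ i : Fin n, b i = D k Q (φ (X i)) := by
    intro i
    rw [hφ, aeval_X, (hs'D i).1, hb, hxi]
  letI inst2 : Algebra (MvPolynomial (Fin n) k) Q := φ.toRingHom.toAlgebra
  haveI : IsScalarTower k (MvPolynomial (Fin n) k) Q :=
    IsScalarTower.of_algebraMap_eq (fun c => (φ.commutes c).symm)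
  haveI : Algebra.FormallyEtale (MvPolynomial (Fin n) k) Q :=
    formallyEtale_of_basis k (Fin n) Q hH1 b hD
  haveI : Algebra.FinitePresentation (MvPolynomial (Fin n) k) Q :=
    Algebra.FinitePresentation.of_restrict_scalars_finitePresentation k (MvPolynomial (Fin n) k) Q
  exact (⟨inferInstance, inferInstance⟩ :
    @Algebra.Etale (MvPolynomial (Fin n) k) Q _ _ φ.toRingHom.toAlgebra)


theorem mem_map_of_tmul_eq_zero {P : Type*} [CommRing P] (I : Ideal P) (Q : Type*) [CommRing Q]
    [Algebra P Q] (z : Q) (hz : (1 : P ⧸ I) ⊗ₜ[P] z = 0) : z ∈ I.map (algebraMap P Q) := by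
  have h1 := congrArg (TensorProduct.quotTensorEquivQuotSMul Q I) hz
  rw [TensorProduct.quotTensorEquivQuotSMul_mk_one_tmul, map_zero,
    Submodule.Quotient.mk_eq_zero, Ideal.smul_top_eq_map] at h1
  exact h1

theorem exists_monic_mem {P : Type u} [CommRing P] [Nontrivial P] (I : Ideal P) (Q : Type u)
    [CommRing Q] [Algebra P Q] [Algebra.IsIntegral (P ⧸ I) ((P ⧸ I) ⊗[P] Q)] (z : Q) :
    ∃ F : Polynomial P, F.Monic ∧ 0 < F.natDegree ∧
      Polynomial.eval₂ (algebraMap P Q) z F ∈ I.map (algebraMap P Q) := by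
  obtain ⟨Fb, hFb, hFbe⟩ := Algebra.IsIntegral.isIntegral (R := P ⧸ I) ((1 : P ⧸ I) ⊗ₜ[P] z)
  obtain ⟨F, hF1, hF2, hF3⟩ := Polynomial.lifts_and_natDegree_eq_and_monic
    (Polynomial.mem_lifts_of_surjective (f := Ideal.Quotient.mk I) Ideal.Quotient.mk_surjective Fb)
    hFb
  have hmem : Polynomial.eval₂ (algebraMap P Q) z F ∈ I.map (algebraMap P Q) := by
    apply mem_map_of_tmul_eq_zero
    have hcomp : (Algebra.TensorProduct.includeRight : Q →ₐ[P] (P ⧸ I) ⊗[P] Q).toRingHom.comp
        (algebraMap P Q)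
        = (algebraMap (P ⧸ I) ((P ⧸ I) ⊗[P] Q)).comp (Ideal.Quotient.mk I) := by
      ext a
      simp only [RingHom.comp_apply, AlgHom.toRingHom_eq_coe, RingHom.coe_coe, AlgHom.commutes]
      exact IsScalarTower.algebraMap_apply P (P ⧸ I) ((P ⧸ I) ⊗[P] Q) a
    have h1 : (1 : P ⧸ I) ⊗ₜ[P] Polynomial.eval₂ (algebraMap P Q) z F
        = (Algebra.TensorProduct.includeRight : Q →ₐ[P] (P ⧸ I) ⊗[P] Q).toRingHom
          (Polynomial.eval₂ (algebraMap P Q) z F) := rfl
    rw [h1, Polynomial.hom_eval₂, hcomp, ← Polynomial.eval₂_map, hF1]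
    exact hFbe
  refine ⟨F * Polynomial.X, hF3.mul Polynomial.monic_X, ?_, ?_⟩
  · rw [hF3.natDegree_mul Polynomial.monic_X, Polynomial.natDegree_X]
    omega
  · rw [Polynomial.eval₂_mul, Polynomial.eval₂_X]
    exact Ideal.mul_mem_right _ _ hmem

include p in
theorem main281 (n : ℕ) (I : Ideal (MvPolynomial (Fin n) k)) (B : Type u) [CommRing B]
    [Algebra (MvPolynomial (Fin n) k ⧸ I) B] [Module.Finite (MvPolynomial (Fin n) k ⧸ I) B]
    [Algebra.Etale (MvPolynomial (Fin n) k ⧸ I) B] :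
    ∃ (C : Type u) (_ : CommRing C) (_ : Algebra (MvPolynomial (Fin n) k) C),
      Module.Finite (MvPolynomial (Fin n) k) C ∧ Algebra.Etale (MvPolynomial (Fin n) k) C ∧
      ∃ ψ : (MvPolynomial (Fin n) k ⧸ I) ⊗[MvPolynomial (Fin n) k] C
          →ₐ[MvPolynomial (Fin n) k ⧸ I] B, Function.Surjective ψ := by
  obtain ⟨Q, _, _, hQet, ⟨e⟩⟩ :=
    Groth.Agent.H5.CA.exists_etale_lift_quotient (MvPolynomial (Fin n) k) I B
  letI algkQ : Algebra k Q :=
    ((algebraMap (MvPolynomial (Fin n) k) Q).comp (algebraMap k _)).toAlgebra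
  haveI : IsScalarTower k (MvPolynomial (Fin n) k) Q :=
    IsScalarTower.of_algebraMap_eq (fun _ => rfl)
  haveI : Module.Finite (MvPolynomial (Fin n) k ⧸ I)
      ((MvPolynomial (Fin n) k ⧸ I) ⊗[MvPolynomial (Fin n) k] Q) :=
    Module.Finite.equiv e.symm.toLinearEquiv
  haveI : Algebra.IsIntegral (MvPolynomial (Fin n) k ⧸ I)
      ((MvPolynomial (Fin n) k ⧸ I) ⊗[MvPolynomial (Fin n) k] Q) :=
    Algebra.IsIntegral.of_finite _ _
  obtain ⟨φ, hfin, het, hφq⟩ := core k p n Q (I.map (algebraMap (MvPolynomial (Fin n) k) Q))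
    (fun z => exists_monic_mem I Q z)
  let g : Q →+* B := (e : _ →+* B).comp
    (Algebra.TensorProduct.includeRight :
      Q →ₐ[MvPolynomial (Fin n) k] (MvPolynomial (Fin n) k ⧸ I) ⊗[MvPolynomial (Fin n) k] Q).toRingHom
  have hg_surj : Function.Surjective g :=
    e.surjective.comp (Algebra.TensorProduct.includeRight_surjective _
      Ideal.Quotient.mk_surjective)
  have hg_alg : ∀ a : MvPolynomial (Fin n) k,
      g (algebraMap (MvPolynomial (Fin n) k) Q a)
        = algebraMap (MvPolynomial (Fin n) k ⧸ I) B (Ideal.Quotient.mk I a) := by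
    intro a
    show e ((Algebra.TensorProduct.includeRight :
      Q →ₐ[MvPolynomial (Fin n) k] (MvPolynomial (Fin n) k ⧸ I) ⊗[MvPolynomial (Fin n) k] Q)
        (algebraMap (MvPolynomial (Fin n) k) Q a)) = _
    rw [AlgHom.commutes, IsScalarTower.algebraMap_apply (MvPolynomial (Fin n) k)
      (MvPolynomial (Fin n) k ⧸ I), AlgEquiv.commutes]
    rfl
  have hg_kill : ∀ z ∈ I.map (algebraMap (MvPolynomial (Fin n) k) Q), g z = 0 := by
    have hle : I.map (algebraMap (MvPolynomial (Fin n) k) Q) ≤ RingHom.ker g := by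
      rw [Ideal.map_le_iff_le_comap]
      intro a ha
      rw [Ideal.mem_comap, RingHom.mem_ker, hg_alg, Ideal.Quotient.eq_zero_iff_mem.mpr ha,
        map_zero]
    exact fun z hz => hle hz
  have hgφ : ∀ a : MvPolynomial (Fin n) k,
      g (φ a) = algebraMap (MvPolynomial (Fin n) k ⧸ I) B (Ideal.Quotient.mk I a) := by
    have h1 : g.comp φ.toRingHom
        = (algebraMap (MvPolynomial (Fin n) k ⧸ I) B).comp (Ideal.Quotient.mk I) := by
      apply MvPolynomial.ringHom_ext
      · intro c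
        have e1 : φ (C c) = algebraMap (MvPolynomial (Fin n) k) Q (C c) := by
          rw [← MvPolynomial.algebraMap_eq, φ.commutes]
          rfl
        simp only [RingHom.comp_apply, AlgHom.toRingHom_eq_coe, RingHom.coe_coe]
        rw [e1, hg_alg]
      · intro i
        simp only [RingHom.comp_apply, AlgHom.toRingHom_eq_coe, RingHom.coe_coe]
        have e2 : φ (X i) = (φ (X i) - algebraMap (MvPolynomial (Fin n) k) Q (X i))
            + algebraMap (MvPolynomial (Fin n) k) Q (X i) := by ring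
        rw [e2, map_add, hg_kill _ (hφq i), zero_add, hg_alg]
    exact fun a => RingHom.congr_fun h1 a
  letI inst2 : Algebra (MvPolynomial (Fin n) k) Q := φ.toRingHom.toAlgebra
  letI algPB : Algebra (MvPolynomial (Fin n) k) B :=
    ((algebraMap (MvPolynomial (Fin n) k ⧸ I) B).comp (Ideal.Quotient.mk I)).toAlgebra
  haveI : IsScalarTower (MvPolynomial (Fin n) k) (MvPolynomial (Fin n) k ⧸ I) B :=
    IsScalarTower.of_algebraMap_eq (R := MvPolynomial (Fin n) k)
      (S := MvPolynomial (Fin n) k ⧸ I) (A := B) (fun _ => rfl)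
  let gA : Q →ₐ[MvPolynomial (Fin n) k] B := { g with commutes' := fun a => hgφ a }
  let ψ : (MvPolynomial (Fin n) k ⧸ I) ⊗[MvPolynomial (Fin n) k] Q
      →ₐ[MvPolynomial (Fin n) k ⧸ I] B :=
    Algebra.TensorProduct.lift (Algebra.ofId (MvPolynomial (Fin n) k ⧸ I) B) gA
      (fun _ _ => Commute.all _ _)
  refine ⟨Q, inferInstance, inst2, hfin, het, ψ, ?_⟩
  intro b
  obtain ⟨z, rfl⟩ := hg_surj b
  refine ⟨1 ⊗ₜ z, ?_⟩
  show Algebra.TensorProduct.lift (Algebra.ofId (MvPolynomial (Fin n) k ⧸ I) B) gA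
      (fun _ _ => Commute.all _ _) (1 ⊗ₜ z) = g z
  rw [Algebra.TensorProduct.lift_tmul, map_one, one_mul]
  rfl

end Main

end Groth.Agent.H4.EtaleFinQ
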