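import Mathlib
import Groth.Agent.H4.EtaleFinQ

set_option autoImplicit false
set_option linter.unusedSectionVars false
set_option linter.unusedVariables false
set_option linter.style.haveILetI false

universe u
open scoped TensorProduct

namespace Groth.Agent.H4.EtaleFinR

/-- Transport of the "finite étale cover dominated by a finite étale cover of `P`" statement from
quotients `P ⧸ I` to arbitrary surjections `P → A₁`. -/
theorem transport {P : Type u} [CommRing P]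
    (H : ∀ (I : Ideal P) (B : Type u) [CommRing B] [Algebra (P ⧸ I) B] [Module.Finite (P ⧸ I) B]
      [Algebra.Etale (P ⧸ I) B],
      ∃ (C : Type u) (_ : CommRing C) (_ : Algebra P C), Module.Finite P C ∧ Algebra.Etale P C ∧
        ∃ ψ : (P ⧸ I) ⊗[P] C →ₐ[P ⧸ I] B, Function.Surjective ψ)
    (A₁ : Type u) [CommRing A₁] [Algebra P A₁] (hs : Function.Surjective (algebraMap P A₁))
    (B₁ : Type u) [CommRing B₁] [Algebra A₁ B₁] [Module.Finite A₁ B₁] [Algebra.Etale A₁ B₁] :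
    ∃ (C : Type u) (_ : CommRing C) (_ : Algebra P C), Module.Finite P C ∧ Algebra.Etale P C ∧
        ∃ ψ : A₁ ⊗[P] C →ₐ[A₁] B₁, Function.Surjective ψ := by
  let eq : (P ⧸ RingHom.ker (algebraMap P A₁)) ≃+* A₁ := RingHom.quotientKerEquivOfSurjective hs
  have heq : ∀ x : P, eq (Ideal.Quotient.mk _ x) = algebraMap P A₁ x := fun x =>
    RingHom.quotientKerEquivOfSurjective_apply_mk hs x
  letI algQA : Algebra (P ⧸ RingHom.ker (algebraMap P A₁)) A₁ := eq.toRingHom.toAlgebra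
  letI algQB : Algebra (P ⧸ RingHom.ker (algebraMap P A₁)) B₁ :=
    ((algebraMap A₁ B₁).comp eq.toRingHom).toAlgebra
  haveI : IsScalarTower (P ⧸ RingHom.ker (algebraMap P A₁)) A₁ B₁ :=
    IsScalarTower.of_algebraMap_eq (fun _ => rfl)
  haveI : Module.Finite (P ⧸ RingHom.ker (algebraMap P A₁)) A₁ :=
    Module.Finite.of_surjective (Algebra.linearMap (P ⧸ RingHom.ker (algebraMap P A₁)) A₁)
      eq.surjective
  haveI : Module.Finite (P ⧸ RingHom.ker (algebraMap P A₁)) B₁ := Module.Finite.trans A₁ B₁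
  haveI : Algebra.Etale (P ⧸ RingHom.ker (algebraMap P A₁)) A₁ :=
    Algebra.Etale.of_equiv (AlgEquiv.ofRingEquiv (f := eq) (fun _ => rfl))
  haveI : Algebra.Etale (P ⧸ RingHom.ker (algebraMap P A₁)) B₁ :=
    Algebra.Etale.comp (P ⧸ RingHom.ker (algebraMap P A₁)) A₁ B₁
  obtain ⟨C, _, _, hfin, het, ψ', hψ'⟩ := H (RingHom.ker (algebraMap P A₁)) B₁
  letI algPB : Algebra P B₁ := ((algebraMap A₁ B₁).comp (algebraMap P A₁)).toAlgebra
  haveI : IsScalarTower P A₁ B₁ := IsScalarTower.of_algebraMap_eq (fun _ => rfl)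
  haveI : IsScalarTower P (P ⧸ RingHom.ker (algebraMap P A₁)) B₁ :=
    IsScalarTower.of_algebraMap_eq (R := P) (S := P ⧸ RingHom.ker (algebraMap P A₁)) (A := B₁)
      (fun x => by
        show algebraMap A₁ B₁ (algebraMap P A₁ x) = algebraMap A₁ B₁ (eq (Ideal.Quotient.mk _ x))
        rw [heq])
  let g : C →ₐ[P] B₁ := (ψ'.restrictScalars P).comp Algebra.TensorProduct.includeRight
  let ψ : A₁ ⊗[P] C →ₐ[A₁] B₁ :=
    Algebra.TensorProduct.lift (Algebra.ofId A₁ B₁) g (fun _ _ => Commute.all _ _)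
  refine ⟨C, inferInstance, inferInstance, hfin, het, ψ, ?_⟩
  intro b
  obtain ⟨y, rfl⟩ := hψ' b
  induction y using TensorProduct.induction_on with
  | zero => exact ⟨0, by simp⟩
  | tmul q c =>
    refine ⟨eq q ⊗ₜ c, ?_⟩
    show Algebra.TensorProduct.lift (Algebra.ofId A₁ B₁) g (fun _ _ => Commute.all _ _)
      (eq q ⊗ₜ c) = _
    rw [Algebra.TensorProduct.lift_tmul]
    have h1 : q ⊗ₜ[P] c = q • ((1 : P ⧸ RingHom.ker (algebraMap P A₁)) ⊗ₜ[P] c) := by
      rw [TensorProduct.smul_tmul', smul_eq_mul, mul_one]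
    rw [h1, map_smul, Algebra.smul_def]
    rfl
  | add x y hx hy =>
    obtain ⟨x', hx'⟩ := hx
    obtain ⟨y', hy'⟩ := hy
    exact ⟨x' + y', by rw [map_add, map_add, hx', hy']⟩

/-- Base change of a dominating cover. -/
theorem baseChange_surj {P R A A₁ B B₁ C : Type*} [CommRing P] [CommRing R] [CommRing A]
    [CommRing A₁] [CommRing B] [CommRing B₁] [CommRing C]
    [Algebra P R] [Algebra R A] [Algebra P A] [IsScalarTower P R A]
    [Algebra P A₁] [Algebra A₁ A] [IsScalarTower P A₁ A]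
    [Algebra A B] [Algebra A₁ B₁] [Algebra P C]
    (e : B ≃ₐ[A] A ⊗[A₁] B₁) (ψ₁ : A₁ ⊗[P] C →ₐ[A₁] B₁) (hψ₁ : Function.Surjective ψ₁) :
    ∃ Ψ : A ⊗[R] (R ⊗[P] C) →ₐ[A] B, Function.Surjective Ψ := by
  let h : C →+* B := (e.symm : A ⊗[A₁] B₁ →+* B).comp
    ((Algebra.TensorProduct.includeRight : B₁ →ₐ[A₁] A ⊗[A₁] B₁).toRingHom.comp
      ((ψ₁ : A₁ ⊗[P] C →+* B₁).comp
        (Algebra.TensorProduct.includeRight : C →ₐ[P] A₁ ⊗[P] C).toRingHom))
  have hh : ∀ c, h c = e.symm ((1 : A) ⊗ₜ[A₁] ψ₁ ((1 : A₁) ⊗ₜ[P] c)) := fun c => rfl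
  have hcomm : ∀ x : P, h (algebraMap P C x) = algebraMap A B (algebraMap P A x) := by
    intro x
    rw [hh]
    have h1 : (1 : A₁) ⊗ₜ[P] (algebraMap P C x)
        = algebraMap A₁ (A₁ ⊗[P] C) (algebraMap P A₁ x) :=
      (Algebra.TensorProduct.tmul_one_eq_one_tmul x).symm
    rw [h1, AlgHom.commutes]
    have h2 : (1 : A) ⊗ₜ[A₁] (algebraMap A₁ B₁ (algebraMap P A₁ x))
        = algebraMap A (A ⊗[A₁] B₁) (algebraMap A₁ A (algebraMap P A₁ x)) :=
      (Algebra.TensorProduct.tmul_one_eq_one_tmul _).symm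
    rw [h2, AlgEquiv.commutes, ← IsScalarTower.algebraMap_apply P A₁ A]
  letI algPB : Algebra P B := ((algebraMap A B).comp (algebraMap P A)).toAlgebra
  letI algRB : Algebra R B := ((algebraMap A B).comp (algebraMap R A)).toAlgebra
  haveI : IsScalarTower P A B := IsScalarTower.of_algebraMap_eq (fun _ => rfl)
  haveI : IsScalarTower R A B := IsScalarTower.of_algebraMap_eq (fun _ => rfl)
  haveI : IsScalarTower P R B := IsScalarTower.of_algebraMap_eq (fun x => by
    show algebraMap A B (algebraMap P A x) = algebraMap A B (algebraMap R A (algebraMap P R x))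
    rw [← IsScalarTower.algebraMap_apply P R A])
  let hA : C →ₐ[P] B := { h with commutes' := hcomm }
  let g : R ⊗[P] C →ₐ[R] B :=
    Algebra.TensorProduct.lift (Algebra.ofId R B) hA (fun _ _ => Commute.all _ _)
  let Ψ : A ⊗[R] (R ⊗[P] C) →ₐ[A] B :=
    Algebra.TensorProduct.lift (Algebra.ofId A B) g (fun _ _ => Commute.all _ _)
  have hΨ : ∀ (a : A) (c : C), Ψ (a ⊗ₜ ((1 : R) ⊗ₜ c)) = a • h c := by
    intro a c
    show Algebra.TensorProduct.lift (Algebra.ofId A B) g (fun _ _ => Commute.all _ _) _ = _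
    rw [Algebra.TensorProduct.lift_tmul]
    show _ * Algebra.TensorProduct.lift (Algebra.ofId R B) hA (fun _ _ => Commute.all _ _) _ = _
    rw [Algebra.TensorProduct.lift_tmul, map_one, one_mul, Algebra.smul_def]
    rfl
  refine ⟨Ψ, ?_⟩
  have key : ∀ b₁ : B₁, e.symm ((1 : A) ⊗ₜ[A₁] b₁) ∈ Ψ.range := by
    intro b₁
    obtain ⟨y, rfl⟩ := hψ₁ b₁
    induction y using TensorProduct.induction_on with
    | zero =>
      rw [map_zero, TensorProduct.tmul_zero, map_zero]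
      exact Ψ.range.zero_mem
    | tmul a₁ c =>
      have e1 : a₁ ⊗ₜ[P] c = a₁ • ((1 : A₁) ⊗ₜ[P] c) := by
        rw [TensorProduct.smul_tmul', smul_eq_mul, mul_one]
      have e2 : (1 : A) ⊗ₜ[A₁] (a₁ • ψ₁ ((1 : A₁) ⊗ₜ[P] c))
          = (algebraMap A₁ A a₁) • ((1 : A) ⊗ₜ[A₁] ψ₁ ((1 : A₁) ⊗ₜ[P] c)) := by
        rw [TensorProduct.tmul_smul, algebraMap_smul]
      rw [e1, map_smul, e2, map_smul]
      exact ⟨(algebraMap A₁ A a₁) ⊗ₜ ((1 : R) ⊗ₜ c), hΨ _ _⟩
    | add x y hx hy =>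
      rw [map_add, TensorProduct.tmul_add, map_add]
      exact Ψ.range.add_mem hx hy
  intro b
  obtain ⟨w, rfl⟩ := e.symm.surjective b
  induction w using TensorProduct.induction_on with
  | zero => exact ⟨0, by simp⟩
  | tmul a b₁ =>
    have h1 : a ⊗ₜ[A₁] b₁ = a • ((1 : A) ⊗ₜ[A₁] b₁) := by
      rw [TensorProduct.smul_tmul', smul_eq_mul, mul_one]
    rw [h1, map_smul]
    exact Ψ.range.smul_mem (key b₁) a
  | add x y hx hy =>
    obtain ⟨x', hx'⟩ := hx
    obtain ⟨y', hy'⟩ := hy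
    exact ⟨x' + y', by rw [map_add, map_add, hx', hy']⟩

/-- Descent of a finite étale algebra to a finitely generated subalgebra, keeping finiteness. -/
theorem fin_descent (k : Type*) [CommRing k] (A B : Type u) [CommRing A] [CommRing B]
    [Algebra k A] [Algebra A B] [Module.Finite A B] [Algebra.Etale A B] :
    ∃ (A₁ : Subalgebra k A) (B₁ : Type u) (_ : CommRing B₁) (_ : Algebra A₁ B₁),
      A₁.FG ∧ Module.Finite A₁ B₁ ∧ Algebra.Etale A₁ B₁ ∧ Nonempty (B ≃ₐ[A] A ⊗[A₁] B₁) := by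
  classical
  obtain ⟨A₀, B₀, _, _, hfg, hEt, ⟨e⟩⟩ := Algebra.Etale.exists_subalgebra_fg k A B
  haveI : Module.Finite A (A ⊗[A₀] B₀) := Module.Finite.equiv e.toLinearEquiv
  haveI : Algebra.IsIntegral A (A ⊗[A₀] B₀) := Algebra.IsIntegral.of_finite _ _
  have hint : ∀ b : B₀, ∃ f : Polynomial A, f.Monic ∧
      Polynomial.eval₂ (algebraMap A (A ⊗[A₀] B₀)) ((1 : A) ⊗ₜ[A₀] b) f = 0 :=
    fun b => Algebra.IsIntegral.isIntegral (R := A) ((1 : A) ⊗ₜ[A₀] b)
  choose f hfm hf0 using hint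
  obtain ⟨t, ht⟩ := (inferInstance : Algebra.FiniteType A₀ B₀).out
  let S : Finset A := t.biUnion (fun b => (f b).coeffs)
  let A₁ : Subalgebra k A := A₀ ⊔ Algebra.adjoin k (S : Set A)
  have hA₁fg : A₁.FG := hfg.sup (Subalgebra.fg_adjoin_finset S)
  have h01 : A₀ ≤ A₁ := le_sup_left
  have hS : (S : Set A) ⊆ A₁ := fun x hx => (le_sup_right : _ ≤ A₁) (Algebra.subset_adjoin hx)
  letI alg01 : Algebra A₀ A₁ := (Subalgebra.inclusion h01).toRingHom.toAlgebra
  haveI : IsScalarTower A₀ A₁ A := IsScalarTower.of_algebraMap_eq (fun _ => rfl)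
  let ι : A₁ ⊗[A₀] B₀ →ₐ[A₁] A ⊗[A₀] B₀ :=
    Algebra.TensorProduct.map (Algebra.ofId A₁ A) (AlgHom.id A₀ B₀)
  have hιinj : Function.Injective ι := by
    haveI hfl : Module.Flat A₀ B₀ := inferInstance
    let j : A₁ →ₗ[A₀] A := (IsScalarTower.toAlgHom A₀ A₁ A).toLinearMap
    have hj : Function.Injective j := fun x y h => Subtype.ext h
    have hι : ⇑ι = ⇑(LinearMap.rTensor B₀ j) := by
      funext x
      induction x using TensorProduct.induction_on with
      | zero => simp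
      | tmul a b => rfl
      | add x y hx hy => rw [map_add, map_add, hx, hy]
    rw [hι]
    exact Module.Flat.rTensor_preserves_injective_linearMap j hj
  have hι1 : ∀ b : B₀, ι ((1 : A₁) ⊗ₜ[A₀] b) = (1 : A) ⊗ₜ[A₀] b := by
    intro b
    show Algebra.TensorProduct.map (Algebra.ofId A₁ A) (AlgHom.id A₀ B₀) ((1 : A₁) ⊗ₜ[A₀] b) = _
    rw [Algebra.TensorProduct.map_tmul, map_one]
    rfl
  have hgen : ∀ b ∈ t, IsIntegral A₁ ((1 : A₁) ⊗ₜ[A₀] b) := by
    intro b hb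
    have hlift : f b ∈ Polynomial.lifts (algebraMap A₁ A) := by
      rw [Polynomial.lifts_iff_coeff_lifts]
      intro m
      by_cases hm : (f b).coeff m = 0
      · exact ⟨0, by rw [map_zero, hm]⟩
      · have hmem : (f b).coeff m ∈ (S : Set A) := by
          simp only [S, Finset.coe_biUnion, Set.mem_iUnion]
          exact ⟨b, hb, Polynomial.coeff_mem_coeffs hm⟩
        exact ⟨⟨_, hS hmem⟩, rfl⟩
    obtain ⟨g, hg1, hg2, hg3⟩ := Polynomial.lifts_and_natDegree_eq_and_monic hlift (hfm b)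
    refine ⟨g, hg3, ?_⟩
    apply hιinj
    rw [map_zero]
    have h1 : ι.toRingHom.comp (algebraMap A₁ (A₁ ⊗[A₀] B₀))
        = (algebraMap A (A ⊗[A₀] B₀)).comp (algebraMap A₁ A) := by
      ext x
      simp only [RingHom.comp_apply, AlgHom.toRingHom_eq_coe, RingHom.coe_coe, AlgHom.commutes]
      exact IsScalarTower.algebraMap_apply A₁ A (A ⊗[A₀] B₀) x
    have h2 : ι (Polynomial.eval₂ (algebraMap A₁ (A₁ ⊗[A₀] B₀)) ((1 : A₁) ⊗ₜ[A₀] b) g)
        = ι.toRingHom (Polynomial.eval₂ (algebraMap A₁ (A₁ ⊗[A₀] B₀)) ((1 : A₁) ⊗ₜ[A₀] b) g) := rfl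
    rw [h2, Polynomial.hom_eval₂, h1, ← Polynomial.eval₂_map, hg1]
    have h3 : ι.toRingHom ((1 : A₁) ⊗ₜ[A₀] b) = (1 : A) ⊗ₜ[A₀] b := hι1 b
    rw [h3]
    exact hf0 b
  haveI : Algebra.IsIntegral A₁ (A₁ ⊗[A₀] B₀) := by
    have h1 : ∀ b : B₀, (1 : A₁) ⊗ₜ[A₀] b ∈ integralClosure A₁ (A₁ ⊗[A₀] B₀) := by
      intro b
      have hb : b ∈ Algebra.adjoin A₀ (t : Set B₀) := by
        rw [ht]
        trivial
      induction hb using Algebra.adjoin_induction with
      | mem x hx => exact hgen x hx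
      | algebraMap r =>
        have h5 : (1 : A₁) ⊗ₜ[A₀] (algebraMap A₀ B₀ r)
            = algebraMap A₁ (A₁ ⊗[A₀] B₀) (algebraMap A₀ A₁ r) :=
          (Algebra.TensorProduct.tmul_one_eq_one_tmul r).symm
        rw [h5]
        exact (integralClosure A₁ (A₁ ⊗[A₀] B₀)).algebraMap_mem _
      | add x y _ _ hx hy =>
        rw [TensorProduct.tmul_add]
        exact (integralClosure A₁ (A₁ ⊗[A₀] B₀)).add_mem hx hy
      | mul x y _ _ hx hy =>
        have h6 : (1 : A₁) ⊗ₜ[A₀] (x * y) = ((1 : A₁) ⊗ₜ[A₀] x) * ((1 : A₁) ⊗ₜ[A₀] y) := by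
          rw [Algebra.TensorProduct.tmul_mul_tmul, one_mul]
        rw [h6]
        exact (integralClosure A₁ (A₁ ⊗[A₀] B₀)).mul_mem hx hy
    constructor
    intro x
    induction x using TensorProduct.induction_on with
    | zero => exact isIntegral_zero
    | tmul a b =>
      have h7 : a ⊗ₜ[A₀] b = a • ((1 : A₁) ⊗ₜ[A₀] b) := by
        rw [TensorProduct.smul_tmul', smul_eq_mul, mul_one]
      rw [h7]
      exact (integralClosure A₁ (A₁ ⊗[A₀] B₀)).smul_mem (h1 b) a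
    | add x y hx hy => exact hx.add hy
  haveI : Module.Finite A₁ (A₁ ⊗[A₀] B₀) := Algebra.IsIntegral.finite
  refine ⟨A₁, A₁ ⊗[A₀] B₀, inferInstance, inferInstance, hA₁fg, inferInstance, inferInstance,
    ⟨e.trans (Algebra.TensorProduct.cancelBaseChange A₀ A₁ A A B₀).symm⟩⟩

theorem main_k (k : Type u) [Field k] (p : ℕ) [Fact p.Prime] [CharP k p] (R A B : Type u)
    [CommRing R] [CommRing A] [CommRing B] [Algebra k R] [Algebra R A] [Algebra k A]
    [IsScalarTower k R A]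
    (hRA : Function.Surjective (algebraMap R A)) [Algebra A B] [Module.Finite A B]
    [Algebra.Etale A B] :
    ∃ (C : Type u) (_ : CommRing C) (_ : Algebra R C), Module.Finite R C ∧ Algebra.Etale R C ∧
      ∃ ψ : A ⊗[R] C →ₐ[A] B, Function.Surjective ψ := by
  obtain ⟨A₁, B₁, _, _, hfg, hfin, het, ⟨e⟩⟩ := fin_descent k A B
  haveI hFT : Algebra.FiniteType k A₁ := (Subalgebra.fg_iff_finiteType A₁).mp hfg
  obtain ⟨n, φ₁, hφ₁⟩ := Algebra.FiniteType.iff_quotient_mvPolynomial''.mp hFT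
  choose r hr using fun i : Fin n => hRA ((φ₁ (MvPolynomial.X i) : A₁) : A)
  let π : MvPolynomial (Fin n) k →ₐ[k] R := MvPolynomial.aeval r
  have hπ : ∀ x, algebraMap R A (π x) = ((φ₁ x : A₁) : A) := by
    intro x
    have h1 : (IsScalarTower.toAlgHom k R A).comp π = A₁.val.comp φ₁ := by
      apply MvPolynomial.algHom_ext
      intro i
      simp [π, hr]
    exact AlgHom.congr_fun h1 x
  letI algPR : Algebra (MvPolynomial (Fin n) k) R := π.toRingHom.toAlgebra
  letI algPA : Algebra (MvPolynomial (Fin n) k) A := (A₁.val.comp φ₁).toRingHom.toAlgebra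
  letI algPA₁ : Algebra (MvPolynomial (Fin n) k) A₁ := φ₁.toRingHom.toAlgebra
  haveI : IsScalarTower (MvPolynomial (Fin n) k) R A :=
    IsScalarTower.of_algebraMap_eq (fun x => (hπ x).symm)
  haveI : IsScalarTower (MvPolynomial (Fin n) k) A₁ A :=
    IsScalarTower.of_algebraMap_eq (fun x => rfl)
  have hsurj : Function.Surjective (algebraMap (MvPolynomial (Fin n) k) A₁) := hφ₁
  obtain ⟨C, _, _, hCfin, hCet, ψ₁, hψ₁⟩ :=
    transport (P := MvPolynomial (Fin n) k)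
      (fun I B' _ _ _ _ => Groth.Agent.H4.EtaleFinQ.main281 k p n I B') A₁ hsurj B₁
  obtain ⟨Ψ, hΨ⟩ := baseChange_surj (P := MvPolynomial (Fin n) k) (R := R) (A := A) (A₁ := A₁)
    e ψ₁ hψ₁
  exact ⟨R ⊗[MvPolynomial (Fin n) k] C, inferInstance, inferInstance, inferInstance, inferInstance,
    Ψ, hΨ⟩

theorem main (p : ℕ) [Fact p.Prime] (R A B : Type u)
    [CommRing R] [CommRing A] [CommRing B] [CharP R p] [Algebra R A]
    (hRA : Function.Surjective (algebraMap R A)) [Algebra A B] [Module.Finite A B]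
    [Algebra.Etale A B] :
    ∃ (C : Type u) (_ : CommRing C) (_ : Algebra R C), Module.Finite R C ∧ Algebra.Etale R C ∧
      ∃ ψ : A ⊗[R] C →ₐ[A] B, Function.Surjective ψ := by
  letI algkR : Algebra (ULift.{u} (ZMod p)) R :=
    ((ZMod.castHom (dvd_refl p) R).comp
      (ULift.ringEquiv : ULift.{u} (ZMod p) ≃+* ZMod p).toRingHom).toAlgebra
  letI algkA : Algebra (ULift.{u} (ZMod p)) A :=
    ((algebraMap R A).comp (algebraMap (ULift.{u} (ZMod p)) R)).toAlgebra
  haveI : IsScalarTower (ULift.{u} (ZMod p)) R A := IsScalarTower.of_algebraMap_eq (fun _ => rfl)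
  exact main_k (ULift.{u} (ZMod p)) p R A B hRA

end Groth.Agent.H4.EtaleFinR
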