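import Mathlib
import Groth.Agent.H4.WEtSep

set_option autoImplicit false
open TensorProduct Polynomial
universe u

namespace Groth.Agent.H4.EtsA

open Groth.Agent.H4.WEtSep

section Semilinear

theorem isSeparable_semilinear {F F' C C' : Type*} [Field F] [Field F'] [CommRing C] [CommRing C']
    [Algebra F C] [Algebra F' C'] (g : F →+* F') (j : C →+* C')
    (hj : ∀ c, j (algebraMap F C c) = algebraMap F' C' (g c)) {x : C} (hx : IsSeparable F x) :
    IsSeparable F' (j x) := by
  have h1 : aeval (j x) ((minpoly F x).map g) = 0 := by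
    have h2 : (algebraMap F' C').comp g = j.comp (algebraMap F C) :=
      RingHom.ext (fun c => (hj c).symm)
    rw [aeval_def, eval₂_map, h2, ← hom_eval₂, ← aeval_def, minpoly.aeval, map_zero]
  exact Separable.of_dvd (Polynomial.Separable.map (f := g) hx) (minpoly.dvd F' _ h1)

theorem exists_poly_of_not_li {F E : Type*} [Field F] [CommRing E] [Algebra F E] (x : E) (n : ℕ)
    (h : ¬ LinearIndependent F (fun i : Fin (n+1) => x ^ (i : ℕ))) :
    ∃ p : F[X], p ≠ 0 ∧ p.natDegree ≤ n ∧ aeval x p = 0 := by
  rw [Fintype.not_linearIndependent_iff] at h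
  obtain ⟨g, hg, i0, hi0⟩ := h
  refine ⟨∑ i : Fin (n+1), C (g i) * X ^ (i : ℕ), ?_, ?_, ?_⟩
  · intro h0
    apply hi0
    have h1 := congrArg (fun p => p.coeff (i0 : ℕ)) h0
    simp only [finsetSum_coeff, coeff_C_mul_X_pow, coeff_zero] at h1
    rw [Finset.sum_eq_single i0] at h1
    · simpa using h1
    · intro b _ hb
      rw [if_neg]
      intro h
      exact hb (Fin.ext h.symm)
    · intro h
      exact absurd (Finset.mem_univ _) h
  · apply natDegree_sum_le_of_forall_le
    intro i _
    exact (natDegree_C_mul_X_pow_le _ _).trans (Nat.lt_succ_iff.mp i.2)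
  · simp only [map_sum, map_mul, aeval_C, map_pow, aeval_X]
    rw [← hg]
    apply Finset.sum_congr rfl
    intro i _
    rw [Algebra.smul_def]

theorem not_li_of_poly {F E : Type*} [Field F] [CommRing E] [Algebra F E] (x : E) (n : ℕ)
    (p : F[X]) (hp : p ≠ 0) (hdeg : p.natDegree < n) (h0 : aeval x p = 0) :
    ¬ LinearIndependent F (fun i : Fin n => x ^ (i : ℕ)) := by
  rw [Fintype.not_linearIndependent_iff]
  refine ⟨fun i => p.coeff i, ?_, ⟨⟨p.natDegree, hdeg⟩, ?_⟩⟩
  · rw [Fin.sum_univ_eq_sum_range (fun i => p.coeff i • x ^ i) n, ← aeval_eq_sum_range' hdeg, h0]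
  · exact Polynomial.leadingCoeff_ne_zero.mpr hp

theorem isSeparable_of_LI {F F' C C' : Type*} [Field F] [Field F'] [Algebra F F'] [CommRing C]
    [CommRing C'] [Algebra F C] [Algebra F' C'] [Algebra F C'] [IsScalarTower F F' C']
    (j : C →ₐ[F] C')
    (hLI : ∀ (n : ℕ) (v : Fin n → C), LinearIndependent F v →
      LinearIndependent F' (fun i => j (v i)))
    {x : C} (hx : IsSeparable F' (j x)) : IsSeparable F x := by
  have hq0 : minpoly F' (j x) ≠ 0 := Separable.ne_zero hx
  have hqx : aeval (j x) (minpoly F' (j x)) = 0 := minpoly.aeval _ _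
  have key : ∃ p : F[X], p ≠ 0 ∧ p.natDegree ≤ (minpoly F' (j x)).natDegree ∧ aeval x p = 0 := by
    apply exists_poly_of_not_li
    intro hli
    have h2 := hLI _ _ hli
    simp only [map_pow] at h2
    exact not_li_of_poly (j x) _ _ hq0 (Nat.lt_succ_self _) hqx h2
  obtain ⟨p, hp0, hpdeg, hpx⟩ := key
  have hint : IsIntegral F x := IsAlgebraic.isIntegral ⟨p, hp0, hpx⟩
  have h1 : aeval (j x) ((minpoly F x).map (algebraMap F F')) = 0 := by
    rw [aeval_map_algebraMap, aeval_algHom_apply, minpoly.aeval, map_zero]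
  have hdvd : minpoly F' (j x) ∣ (minpoly F x).map (algebraMap F F') := minpoly.dvd _ _ h1
  have hdeg : ((minpoly F x).map (algebraMap F F')).natDegree ≤ (minpoly F' (j x)).natDegree := by
    rw [natDegree_map]
    exact (natDegree_le_natDegree (minpoly.degree_le_of_ne_zero F x hp0 hpx)).trans hpdeg
  have hmon : ((minpoly F x).map (algebraMap F F')).Monic := (minpoly.monic hint).map _
  have hintj : IsIntegral F' (j x) := IsSeparable.isIntegral hx
  have heq := eq_of_monic_of_dvd_of_natDegree_le (minpoly.monic hintj) hmon hdvd hdeg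
  have h3 : ((minpoly F x).map (algebraMap F F')).Separable := heq ▸ hx
  exact (separable_map (algebraMap F F')).mp h3

theorem li_tmul {K L A : Type*} [Field K] [Field L] [Algebra K L] [CommRing A] [Algebra K A]
    {n : ℕ} (v : Fin n → A) (hv : LinearIndependent K v) :
    LinearIndependent L (fun i => (1 : L) ⊗ₜ[K] v i) := by
  classical
  let I : Set A := hv.linearIndepOn_id.extend (Set.subset_univ _)
  let b : Module.Basis I K A := Module.Basis.extend hv.linearIndepOn_id
  let b' : Module.Basis I L (L ⊗[K] A) := b.baseChange L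
  let v' (i : Fin n) : I := ⟨v i, hv.linearIndepOn_id.subset_extend _ (Set.mem_range_self i)⟩
  have hv' : (fun i => (1 : L) ⊗ₜ[K] v i) = b' ∘ v' := by
    ext i
    show (1 : L) ⊗ₜ[K] v i = b.baseChange L (v' i)
    rw [Module.Basis.baseChange_apply]
    show (1 : L) ⊗ₜ[K] v i = (1 : L) ⊗ₜ[K] (Module.Basis.extend hv.linearIndepOn_id) (v' i)
    rw [Module.Basis.extend_apply_self]
  have h_inj : Function.Injective v' := fun i j hij =>
    hv.injective (by simpa [v'] using congrArg Subtype.val hij)
  rw [hv']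
  exact b'.linearIndependent.comp _ h_inj

theorem isSeparable_of_tmul {K L A : Type*} [Field K] [Field L] [Algebra K L] [CommRing A]
    [Algebra K A] {a : A} (h : IsSeparable L ((1 : L) ⊗ₜ[K] a)) : IsSeparable K a :=
  isSeparable_of_LI (Algebra.TensorProduct.includeRight : A →ₐ[K] L ⊗[K] A)
    (fun _ v hv => li_tmul v hv) h

end Semilinear

section Co

variable (K : Type u) [Field K] (A : Type u) [CommRing A] [Algebra K A]

/-- the `L`-subalgebra generated by `1 ⊗ (separable elements of A)` -/
noncomputable def gen (L : Type u) [Field L] [Algebra K L] : Subalgebra L (L ⊗[K] A) :=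
  Algebra.adjoin L
    ((Algebra.TensorProduct.includeRight : A →ₐ[K] L ⊗[K] A) '' (sepSub K A : Set A))

/-- the statement: separable elements of `L ⊗ A` lie in `gen` -/
def Good (L : Type u) [Field L] [Algebra K L] : Prop :=
  ∀ x : L ⊗[K] A, IsSeparable L x → x ∈ gen K A L

theorem isSeparable_one_tmul (L : Type u) [Field L] [Algebra K L] {b : A}
    (hb : IsSeparable K b) : IsSeparable L ((1 : L) ⊗ₜ[K] b) := by
  have hj : ∀ c : K, (Algebra.TensorProduct.includeRight : A →ₐ[K] L ⊗[K] A).toRingHom
      (algebraMap K A c) = algebraMap L (L ⊗[K] A) (algebraMap K L c) := by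
    intro c
    show (Algebra.TensorProduct.includeRight : A →ₐ[K] L ⊗[K] A) (algebraMap K A c) = _
    rw [AlgHom.commutes, IsScalarTower.algebraMap_apply K L (L ⊗[K] A)]
  exact isSeparable_semilinear (algebraMap K L) _ hj hb

theorem gen_le (L : Type u) [Field L] [Algebra K L] : gen K A L ≤ sepSub L (L ⊗[K] A) := by
  apply Algebra.adjoin_le
  rintro _ ⟨b, hb, rfl⟩
  exact isSeparable_one_tmul K A L hb

/-- the quotient of `A` by the separable elements -/
abbrev Qt : Type u := A ⧸ (Subalgebra.toSubmodule (sepSub K A))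

/-- the quotient map -/
abbrev qmk : A →ₗ[K] Qt K A := (Subalgebra.toSubmodule (sepSub K A)).mkQ

/-- index of the chosen basis -/
abbrev JJ : Type u := Module.Free.ChooseBasisIndex K (Qt K A)

/-- a basis of the quotient -/
noncomputable def bQ : Module.Basis (JJ K A) K (Qt K A) := Module.Free.chooseBasis K (Qt K A)

/-- the coordinates of the image of `x ∈ R ⊗ A` in `R ⊗ (A / B)` -/
noncomputable def co (R : Type u) [CommRing R] [Algebra K R] :
    R ⊗[K] A →ₗ[R] (JJ K A →₀ R) :=
  ((bQ K A).baseChange R).repr.toLinearMap ∘ₗ ((qmk K A).baseChange R)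

theorem co_tmul (R : Type u) [CommRing R] [Algebra K R] (r : R) (a : A) (j : JJ K A) :
    co K A R (r ⊗ₜ a) j = (bQ K A).repr (qmk K A a) j • r := by
  simp [co]

theorem co_eq_zero_iff (R : Type u) [CommRing R] [Algebra K R] (x : R ⊗[K] A) :
    co K A R x = 0 ↔ (qmk K A).baseChange R x = 0 := by
  simp [co]

theorem co_map {R R' : Type u} [CommRing R] [Algebra K R] [CommRing R'] [Algebra K R']
    (f : R →ₐ[K] R') (x : R ⊗[K] A) (j : JJ K A) :
    co K A R' (Algebra.TensorProduct.map f (AlgHom.id K A) x) j = f (co K A R x j) := by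
  induction x using TensorProduct.induction_on with
  | zero => simp
  | tmul r a => simp [co_tmul]
  | add x y hx hy => simp only [map_add, Finsupp.add_apply, hx, hy]

theorem co_map_val (L : Type u) [Field L] [Algebra K L] (t : L ⊗[K] (sepSub K A)) :
    co K A L (Algebra.TensorProduct.map (AlgHom.id L L) (sepSub K A).val t) = 0 := by
  induction t using TensorProduct.induction_on with
  | zero => simp
  | tmul l b =>
    ext j
    have hb : qmk K A (b : A) = 0 := (Submodule.Quotient.mk_eq_zero _).mpr b.2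
    simp [co_tmul, hb]
  | add x y hx hy => simp only [map_add, hx, hy, add_zero]

theorem lTensor_mem_gen (L : Type u) [Field L] [Algebra K L] (t : L ⊗[K] (sepSub K A)) :
    (LinearMap.lTensor L (Subalgebra.toSubmodule (sepSub K A)).subtype) t ∈ gen K A L := by
  induction t using TensorProduct.induction_on with
  | zero => simp
  | tmul l b =>
    have h2 : (LinearMap.lTensor L (Subalgebra.toSubmodule (sepSub K A)).subtype) (l ⊗ₜ b) =
        l • ((1 : L) ⊗ₜ[K] (b : A)) := by
      simp [TensorProduct.smul_tmul']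
    rw [h2]
    have h3 : ((1 : L) ⊗ₜ[K] (b : A)) ∈ gen K A L :=
      Algebra.subset_adjoin (Set.mem_image_of_mem _ b.2)
    exact Subalgebra.smul_mem _ h3 l
  | add x y hx hy =>
    rw [map_add]
    exact Subalgebra.add_mem _ hx hy

theorem mem_gen_iff (L : Type u) [Field L] [Algebra K L] (x : L ⊗[K] A) :
    x ∈ gen K A L ↔ co K A L x = 0 := by
  constructor
  · intro hx
    have h1 : gen K A L ≤
        (Algebra.TensorProduct.map (AlgHom.id L L) (sepSub K A).val).range := by
      apply Algebra.adjoin_le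
      rintro _ ⟨b, hb, rfl⟩
      exact ⟨(1 : L) ⊗ₜ ⟨b, hb⟩, by simp⟩
    obtain ⟨t, rfl⟩ := h1 hx
    exact co_map_val K A L t
  · intro hx
    rw [co_eq_zero_iff] at hx
    have hex := lTensor_exact L (LinearMap.exact_subtype_mkQ (Subalgebra.toSubmodule (sepSub K A)))
      (Submodule.mkQ_surjective _)
    have hx' : (LinearMap.lTensor L (qmk K A)) x = 0 := hx
    obtain ⟨t, rfl⟩ := (hex x).mp hx'
    exact lTensor_mem_gen K A L t

/-- descent: if the statement holds for `Ω ⊇ L` it holds for `L` -/
theorem good_desc (L Ω : Type u) [Field L] [Algebra K L] [Field Ω] [Algebra K Ω] [Algebra L Ω]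
    [IsScalarTower K L Ω] (h : Good K A Ω) : Good K A L := by
  intro x hx
  rw [mem_gen_iff]
  have hj : ∀ c : L, (Algebra.TensorProduct.map (IsScalarTower.toAlgHom K L Ω)
      (AlgHom.id K A)).toRingHom (algebraMap L (L ⊗[K] A) c) =
      algebraMap Ω (Ω ⊗[K] A) (algebraMap L Ω c) := by
    intro c
    simp [Algebra.TensorProduct.algebraMap_apply]
  have h1 := isSeparable_semilinear (algebraMap L Ω) _ hj hx
  have h2 := (mem_gen_iff K A Ω _).mp (h _ h1)
  ext j
  have h3 := congrArg (fun f => f j) h2
  simp only [RingHom.coe_coe, AlgHom.toRingHom_eq_coe] at h3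
  rw [co_map] at h3
  exact (algebraMap L Ω).injective (by simpa using h3)

end Co

end Groth.Agent.H4.EtsA
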