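import Mathlib
import Groth.Agent.H4.EtsA

set_option autoImplicit false
open TensorProduct Polynomial
universe u

namespace Groth.Agent.H4.EtsB

open Groth.Agent.H4.WEtSep Groth.Agent.H4.EtsA

section LemmaD

variable (F : Type u) [Field F] (C : Type u) [CommRing C] [Algebra F C] (Ω : Type u) [Field Ω]
  [Algebra F Ω]

/-- `σ ⊗ id` -/
noncomputable abbrev sig (σ : Ω →ₐ[F] Ω) : Ω ⊗[F] C →ₐ[F] Ω ⊗[F] C :=
  Algebra.TensorProduct.map σ (AlgHom.id F C)

theorem isSeparable_sig (σ : Ω →ₐ[F] Ω) {x : Ω ⊗[F] C} (hx : IsSeparable Ω x) :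
    IsSeparable Ω (sig F C Ω σ x) := by
  have hj : ∀ c : Ω, (sig F C Ω σ).toRingHom (algebraMap Ω (Ω ⊗[F] C) c) =
      algebraMap Ω (Ω ⊗[F] C) (σ.toRingHom c) := by
    intro c
    simp [Algebra.TensorProduct.algebraMap_apply]
  exact isSeparable_semilinear σ.toRingHom _ hj hx

theorem co_eq_zero_of_rational (x : Ω ⊗[F] C) (hx : IsSeparable Ω x)
    (hrat : ∀ j, co F C Ω x j ∈ (algebraMap F Ω).range) : co F C Ω x = 0 := by
  have hg0 : Function.invFun (algebraMap F Ω) 0 = 0 := by
    have h := Function.leftInverse_invFun (algebraMap F Ω).injective 0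
    rwa [map_zero] at h
  let f : JJ F C →₀ F := (co F C Ω x).mapRange (Function.invFun (algebraMap F Ω)) hg0
  have hf : ∀ j, algebraMap F Ω (f j) = co F C Ω x j := by
    intro j
    simp only [f, Finsupp.mapRange_apply]
    exact Function.invFun_eq (RingHom.mem_range.mp (hrat j))
  obtain ⟨c, hc⟩ := Submodule.mkQ_surjective (Subalgebra.toSubmodule (sepSub F C))
    ((bQ F C).repr.symm f)
  have hco : co F C Ω ((1 : Ω) ⊗ₜ[F] c) = co F C Ω x := by
    ext j
    rw [co_tmul]
    have : (bQ F C).repr (qmk F C c) j = f j := by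
      show (bQ F C).repr ((Subalgebra.toSubmodule (sepSub F C)).mkQ c) j = f j
      rw [hc, LinearEquiv.apply_symm_apply]
    rw [this, ← hf j, Algebra.algebraMap_eq_smul_one]
  have h1 : x - (1 : Ω) ⊗ₜ[F] c ∈ gen F C Ω := by
    rw [mem_gen_iff, map_sub, hco, sub_self]
  have h2 : IsSeparable Ω ((1 : Ω) ⊗ₜ[F] c) := by
    have h : (1 : Ω) ⊗ₜ[F] c = x - (x - (1 : Ω) ⊗ₜ[F] c) := by abel
    rw [h]
    exact Subalgebra.sub_mem (sepSub Ω _) hx (gen_le F C Ω h1)
  have h3 : IsSeparable F c := isSeparable_of_tmul h2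
  have h4 : qmk F C c = 0 := (Submodule.Quotient.mk_eq_zero _).mpr h3
  rw [← hco]
  ext j
  rw [co_tmul, h4]
  simp

/-- Galois descent: if the fixed field of all `F`-endomorphisms of `Ω` is `F`, the statement holds
for `Ω / F`. -/
theorem good_of_fix
    (hfix : ∀ α : Ω, (∀ σ : Ω →ₐ[F] Ω, σ α = α) → α ∈ (algebraMap F Ω).range) : Good F C Ω := by
  intro x hx
  rw [mem_gen_iff]
  suffices H : ∀ n, ∀ x : Ω ⊗[F] C, IsSeparable Ω x → (co F C Ω x).support.card = n →
      co F C Ω x = 0 from H _ x hx rfl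
  intro n
  induction n using Nat.strong_induction_on with
  | _ n ih =>
  intro x hx hn
  by_contra hne
  obtain ⟨j1, hj1⟩ : ∃ j, co F C Ω x j ≠ 0 := by
    by_contra h
    push Not at h
    exact hne (Finsupp.ext h)
  have hx' : IsSeparable Ω ((co F C Ω x j1)⁻¹ • x) := Subalgebra.smul_mem (sepSub Ω _) hx _
  have hco' : ∀ j, co F C Ω ((co F C Ω x j1)⁻¹ • x) j = (co F C Ω x j1)⁻¹ * co F C Ω x j := by
    intro j
    rw [map_smul, Finsupp.smul_apply, smul_eq_mul]
  have h1 : co F C Ω ((co F C Ω x j1)⁻¹ • x) j1 = 1 := by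
    rw [hco', inv_mul_cancel₀ hj1]
  have hsupp : (co F C Ω ((co F C Ω x j1)⁻¹ • x)).support = (co F C Ω x).support := by
    ext j
    simp only [Finsupp.mem_support_iff, hco', ne_eq, mul_eq_zero, inv_eq_zero, hj1, false_or]
  have hfixed : ∀ (σ : Ω →ₐ[F] Ω) j, σ (co F C Ω ((co F C Ω x j1)⁻¹ • x) j) =
      co F C Ω ((co F C Ω x j1)⁻¹ • x) j := by
    intro σ
    have hy : IsSeparable Ω (sig F C Ω σ ((co F C Ω x j1)⁻¹ • x) - (co F C Ω x j1)⁻¹ • x) :=
      Subalgebra.sub_mem (sepSub Ω _) (isSeparable_sig F C Ω σ hx') hx'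
    have hcoy : ∀ j, co F C Ω (sig F C Ω σ ((co F C Ω x j1)⁻¹ • x) - (co F C Ω x j1)⁻¹ • x) j =
        σ (co F C Ω ((co F C Ω x j1)⁻¹ • x) j) - co F C Ω ((co F C Ω x j1)⁻¹ • x) j := by
      intro j
      rw [map_sub, Finsupp.sub_apply, co_map]
    have hsub : (co F C Ω (sig F C Ω σ ((co F C Ω x j1)⁻¹ • x) -
        (co F C Ω x j1)⁻¹ • x)).support ⊆
        (co F C Ω ((co F C Ω x j1)⁻¹ • x)).support.erase j1 := by
      intro j hj
      rw [Finsupp.mem_support_iff, hcoy] at hj
      rw [Finset.mem_erase, Finsupp.mem_support_iff]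
      refine ⟨?_, ?_⟩
      · rintro rfl
        apply hj
        rw [h1, map_one, sub_self]
      · intro h0
        apply hj
        rw [h0, map_zero, sub_self]
    have hlt : (co F C Ω (sig F C Ω σ ((co F C Ω x j1)⁻¹ • x) -
        (co F C Ω x j1)⁻¹ • x)).support.card < n := by
      calc _ ≤ ((co F C Ω ((co F C Ω x j1)⁻¹ • x)).support.erase j1).card :=
            Finset.card_le_card hsub
        _ < (co F C Ω ((co F C Ω x j1)⁻¹ • x)).support.card :=
            Finset.card_erase_lt_of_mem (by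
              rw [Finsupp.mem_support_iff, h1]
              exact one_ne_zero)
        _ = n := by rw [hsupp, hn]
    have h0 := ih _ hlt _ hy rfl
    intro j
    have h2 := congrArg (fun f => f j) h0
    simp only [hcoy, Finsupp.zero_apply] at h2
    exact sub_eq_zero.mp h2
  have hx'0 : co F C Ω ((co F C Ω x j1)⁻¹ • x) = 0 :=
    co_eq_zero_of_rational F C Ω _ hx' (fun j => hfix _ (fun σ => hfixed σ j))
  have h3 := congrArg (fun f => f j1) hx'0
  simp only [h1, Finsupp.zero_apply] at h3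
  exact one_ne_zero h3

end LemmaD

section Trans

variable (K : Type u) [Field K] (A : Type u) [CommRing A] [Algebra K A]
  (F M : Type u) [Field F] [Field M] [Algebra K F] [Algebra F M] [Algebra K M]
  [IsScalarTower K F M]

/-- the map `F ⊗ A → M ⊗ A` -/
noncomputable abbrev jm : F ⊗[K] A →ₐ[K] M ⊗[K] A :=
  Algebra.TensorProduct.map (IsScalarTower.toAlgHom K F M) (AlgHom.id K A)

theorem cancel_one_tmul (z : F ⊗[K] A) :
    Algebra.TensorProduct.cancelBaseChange K F M M A ((1 : M) ⊗ₜ[F] z) = jm K A F M z := by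
  induction z using TensorProduct.induction_on with
  | zero => simp
  | tmul f a =>
    simp [Algebra.algebraMap_eq_smul_one]
  | add x y hx hy =>
    rw [TensorProduct.tmul_add, map_add, map_add, hx, hy]

theorem jm_mem_gen {z : F ⊗[K] A} (hz : z ∈ gen K A F) : jm K A F M z ∈ gen K A M := by
  unfold gen at hz
  induction hz using Algebra.adjoin_induction with
  | mem z hz =>
    obtain ⟨b, hb, rfl⟩ := hz
    have h : jm K A F M ((Algebra.TensorProduct.includeRight : A →ₐ[K] F ⊗[K] A) b) =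
        (Algebra.TensorProduct.includeRight : A →ₐ[K] M ⊗[K] A) b := by
      simp
    rw [h]
    exact Algebra.subset_adjoin (Set.mem_image_of_mem _ hb)
  | algebraMap f =>
    have h : jm K A F M (algebraMap F (F ⊗[K] A) f) =
        algebraMap M (M ⊗[K] A) (algebraMap F M f) := by
      simp [Algebra.TensorProduct.algebraMap_apply]
    rw [h]
    exact Subalgebra.algebraMap_mem _ _
  | add x y _ _ hx hy =>
    rw [map_add]
    exact Subalgebra.add_mem _ hx hy
  | mul x y _ _ hx hy =>
    rw [map_mul]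
    exact Subalgebra.mul_mem _ hx hy

theorem good_trans (h1 : Good K A F) (h2 : Good F (F ⊗[K] A) M) : Good K A M := by
  intro x hx
  have hx' : IsSeparable M ((Algebra.TensorProduct.cancelBaseChange K F M M A).symm x) :=
    isSeparable_map (Algebra.TensorProduct.cancelBaseChange K F M M A).symm.toAlgHom hx
  have h3 := h2 _ hx'
  have key : ∀ y : M ⊗[F] (F ⊗[K] A), y ∈ gen F (F ⊗[K] A) M →
      Algebra.TensorProduct.cancelBaseChange K F M M A y ∈ gen K A M := by
    intro y hy
    unfold gen at hy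
    induction hy using Algebra.adjoin_induction with
    | mem y hy =>
      obtain ⟨z, hz, rfl⟩ := hy
      have h : (Algebra.TensorProduct.cancelBaseChange K F M M A)
          ((Algebra.TensorProduct.includeRight : F ⊗[K] A →ₐ[F] M ⊗[F] (F ⊗[K] A)) z) =
          jm K A F M z := cancel_one_tmul K A F M z
      rw [h]
      exact jm_mem_gen K A F M (h1 z hz)
    | algebraMap m =>
      rw [AlgEquiv.commutes]
      exact Subalgebra.algebraMap_mem _ _
    | add x y _ _ hx hy =>
      rw [map_add]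
      exact Subalgebra.add_mem _ hx hy
    | mul x y _ _ hx hy =>
      rw [map_mul]
      exact Subalgebra.mul_mem _ hx hy
  have h4 := key _ h3
  rwa [AlgEquiv.apply_symm_apply] at h4

end Trans

end Groth.Agent.H4.EtsB
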