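import Mathlib
import Groth.Agent.H4.EtsB

set_option autoImplicit false
open TensorProduct Polynomial
universe u

namespace Groth.Agent.H4.EtsC

open Groth.Agent.H4.WEtSep Groth.Agent.H4.EtsA Groth.Agent.H4.EtsB

section LemmaE

theorem mem_adjoin_pow {F E : Type*} [Field F] [CommRing E] [Algebra F E] (p : ℕ) [ExpChar F p]
    (n : ℕ) {x : E} (hx : IsSeparable F x) : x ∈ Algebra.adjoin F {x ^ p ^ n} := by
  have hxi : IsIntegral F x := IsSeparable.isIntegral hx
  have hyi : IsIntegral F (x ^ p ^ n) := hxi.pow _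
  have h1 : aeval x (expand F (p ^ n) (minpoly F (x ^ p ^ n))) = 0 := by
    rw [expand_aeval, minpoly.aeval]
  have hdvd : minpoly F x ∣ expand F (p ^ n) (minpoly F (x ^ p ^ n)) := minpoly.dvd _ _ h1
  have hne : expand F (p ^ n) (minpoly F (x ^ p ^ n)) ≠ 0 := by
    rw [Ne, expand_eq_zero (expChar_pow_pos F p n)]
    exact minpoly.ne_zero hyi
  have hdeg : (minpoly F x).natDegree ≤ (minpoly F (x ^ p ^ n)).natDegree := by
    calc (minpoly F x).natDegree = (minpoly F x).natSepDegree :=
          (Separable.natSepDegree_eq_natDegree (show (minpoly F x).Separable from hx)).symm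
      _ ≤ (expand F (p ^ n) (minpoly F (x ^ p ^ n))).natSepDegree :=
          natSepDegree_le_of_dvd _ _ hdvd hne
      _ = (minpoly F (x ^ p ^ n)).natSepDegree := natSepDegree_expand _ p
      _ ≤ _ := natSepDegree_le_natDegree _
  have hle : Algebra.adjoin F {x ^ p ^ n} ≤ Algebra.adjoin F {x} := by
    apply Algebra.adjoin_le
    rintro _ rfl
    exact Subalgebra.pow_mem _ (Algebra.self_mem_adjoin_singleton F x) _
  have hfx : Module.finrank F (Algebra.adjoin F {x}) = (minpoly F x).natDegree :=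
    (Algebra.adjoin.powerBasis hxi).finrank
  have hfy : Module.finrank F (Algebra.adjoin F {x ^ p ^ n}) =
      (minpoly F (x ^ p ^ n)).natDegree := (Algebra.adjoin.powerBasis hyi).finrank
  haveI : FiniteDimensional F (Algebra.adjoin F {x}) := (Algebra.adjoin.powerBasis hxi).finite
  have heq : Algebra.adjoin F {x ^ p ^ n} = Algebra.adjoin F {x} :=
    Subalgebra.eq_of_le_of_finrank_le hle (by rw [hfx, hfy]; exact hdeg)
  rw [heq]
  exact Algebra.self_mem_adjoin_singleton F x

end LemmaE

section PI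

variable (K : Type u) [Field K] (A : Type u) [CommRing A] [Algebra K A] (F : Type u) [Field F]
  [Algebra K F]

theorem exists_pow_eq_tmul (p : ℕ) [ExpChar K p]
    (hpi : ∀ c : F, ∃ n, c ^ p ^ n ∈ (algebraMap K F).range) [Nontrivial (F ⊗[K] A)]
    (x : F ⊗[K] A) : ∃ (n : ℕ) (a : A), x ^ p ^ n = (1 : F) ⊗ₜ[K] a := by
  haveI : ExpChar F p := expChar_of_injective_algebraMap (algebraMap K F).injective p
  haveI : ExpChar (F ⊗[K] A) p :=
    expChar_of_injective_algebraMap (algebraMap F (F ⊗[K] A)).injective p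
  induction x using TensorProduct.induction_on with
  | zero => exact ⟨0, 0, by simp⟩
  | tmul c a =>
    obtain ⟨n, k, hk⟩ := hpi c
    refine ⟨n, k • a ^ p ^ n, ?_⟩
    rw [Algebra.TensorProduct.tmul_pow, ← hk, Algebra.algebraMap_eq_smul_one,
      TensorProduct.smul_tmul]
  | add x y hx hy =>
    obtain ⟨n1, a1, h1⟩ := hx
    obtain ⟨n2, a2, h2⟩ := hy
    refine ⟨n1 + n2, a1 ^ p ^ n2 + a2 ^ p ^ n1, ?_⟩
    have e1 : x ^ p ^ (n1 + n2) = (1 : F) ⊗ₜ[K] (a1 ^ p ^ n2) := by
      rw [pow_add, pow_mul, h1, Algebra.TensorProduct.tmul_pow, one_pow]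
    have e2 : y ^ p ^ (n1 + n2) = (1 : F) ⊗ₜ[K] (a2 ^ p ^ n1) := by
      rw [pow_add, mul_comm, pow_mul, h2, Algebra.TensorProduct.tmul_pow, one_pow]
    rw [add_pow_expChar_pow, e1, e2, TensorProduct.tmul_add]

/-- the purely inseparable case -/
theorem good_of_pi (p : ℕ) [ExpChar K p]
    (hpi : ∀ c : F, ∃ n, c ^ p ^ n ∈ (algebraMap K F).range) : Good K A F := by
  intro x hx
  rcases subsingleton_or_nontrivial (F ⊗[K] A) with hs | hn
  · rw [Subsingleton.elim x 0]
    exact Subalgebra.zero_mem _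
  haveI : ExpChar F p := expChar_of_injective_algebraMap (algebraMap K F).injective p
  obtain ⟨n, a, hna⟩ := exists_pow_eq_tmul K A F p hpi x
  have h1 : IsSeparable F (x ^ p ^ n) := Subalgebra.pow_mem (sepSub F _) hx _
  rw [hna] at h1
  have h2 : IsSeparable K a := isSeparable_of_tmul h1
  have h3 : x ^ p ^ n ∈ gen K A F := by
    rw [hna]
    exact Algebra.subset_adjoin (Set.mem_image_of_mem _ h2)
  have h4 : Algebra.adjoin F {x ^ p ^ n} ≤ gen K A F :=
    Algebra.adjoin_le (by rintro _ rfl; exact h3)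
  exact h4 (mem_adjoin_pow p n hx)

end PI

section Fixed

theorem pow_mem_of_fixed {K Ω : Type*} [Field K] [Field Ω] [Algebra K Ω] [IsAlgClosed Ω]
    [Algebra.IsAlgebraic K Ω] (p : ℕ) [ExpChar K p] (c : Ω)
    (hc : ∀ σ : Ω ≃ₐ[K] Ω, σ c = c) : ∃ n, c ^ p ^ n ∈ (algebraMap K Ω).range := by
  classical
  haveI : IsAlgClosure K Ω := ⟨inferInstance, inferInstance⟩
  haveI : Normal K Ω := IsAlgClosure.normal K Ω
  rw [← minpoly.natSepDegree_eq_one_iff_pow_mem p]
  rw [natSepDegree_eq_of_isAlgClosed Ω]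
  have hint : IsIntegral K c := (Algebra.IsAlgebraic.isAlgebraic c).isIntegral
  have h0 : ((minpoly K c).aroots Ω).toFinset = {c} := by
    ext β
    simp only [Multiset.mem_toFinset, Finset.mem_singleton]
    rw [mem_aroots]
    constructor
    · rintro ⟨_, hβ⟩
      have h1 : minpoly K c = minpoly K β :=
        minpoly.eq_of_irreducible_of_monic (minpoly.irreducible hint) hβ (minpoly.monic hint)
      obtain ⟨σ, hσ⟩ := (Normal.minpoly_eq_iff_mem_orbit Ω).mp h1.symm
      rw [← hσ]
      exact hc σ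
    · rintro rfl
      exact ⟨minpoly.ne_zero hint, minpoly.aeval K β⟩
  rw [h0, Finset.card_singleton]

end Fixed

section Alg

variable (K : Type u) [Field K] (A : Type u) [CommRing A] [Algebra K A]

/-- the algebraic case -/
theorem good_of_algebraic (L : Type u) [Field L] [Algebra K L] [Algebra.IsAlgebraic K L] :
    Good K A L := by
  obtain ⟨p, hp⟩ := ExpChar.exists K
  haveI : Algebra.IsAlgebraic K (AlgebraicClosure L) := Algebra.IsAlgebraic.trans K L _
  apply good_desc K A L (AlgebraicClosure L)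
  have hF1 : Good K A (IntermediateField.fixedField
      (⊤ : Subgroup (AlgebraicClosure L ≃ₐ[K] AlgebraicClosure L))) := by
    apply good_of_pi K A _ p
    intro c
    obtain ⟨n, k, hk⟩ := pow_mem_of_fixed (K := K) p (c : AlgebraicClosure L)
      (fun σ => (IntermediateField.mem_fixedField_iff _ _).mp c.2 σ (Subgroup.mem_top σ))
    refine ⟨n, k, ?_⟩
    apply Subtype.ext
    simpa using hk
  have hF2 : Good (IntermediateField.fixedField
      (⊤ : Subgroup (AlgebraicClosure L ≃ₐ[K] AlgebraicClosure L)))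
      ((IntermediateField.fixedField
      (⊤ : Subgroup (AlgebraicClosure L ≃ₐ[K] AlgebraicClosure L))) ⊗[K] A)
      (AlgebraicClosure L) := by
    apply good_of_fix
    intro α hα
    have hmem : α ∈ IntermediateField.fixedField
        (⊤ : Subgroup (AlgebraicClosure L ≃ₐ[K] AlgebraicClosure L)) := by
      rw [IntermediateField.mem_fixedField_iff]
      intro τ _
      exact hα { (τ : AlgebraicClosure L →+* AlgebraicClosure L) with
        commutes' := fun c =>
          (IntermediateField.mem_fixedField_iff _ _).mp c.2 τ (Subgroup.mem_top τ) }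
    exact ⟨⟨α, hmem⟩, rfl⟩
  exact good_trans K A _ (AlgebraicClosure L) hF1 hF2

end Alg

end Groth.Agent.H4.EtsC
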