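import Mathlib
import Groth.Agent.H4.EtsC

set_option autoImplicit false
open TensorProduct Polynomial
universe u

namespace Groth.Agent.H4.EtsD

open Groth.Agent.H4.WEtSep Groth.Agent.H4.EtsA Groth.Agent.H4.EtsB Groth.Agent.H4.EtsC

section Spec

variable (K : Type u) [Field K] (A : Type u) [CommRing A] [Algebra K A]

/-- compatibility of polynomial evaluation with base change of the coefficient algebra -/
theorem aeval_map_tensor {R R' : Type u} [CommRing R] [Algebra K R] [CommRing R'] [Algebra K R']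
    (f : R →ₐ[K] R') (t : R ⊗[K] A) (q : R[X]) :
    aeval (Algebra.TensorProduct.map f (AlgHom.id K A) t) (q.map (f : R →+* R')) =
      Algebra.TensorProduct.map f (AlgHom.id K A) (aeval t q) := by
  have h2 : (algebraMap R' (R' ⊗[K] A)).comp (f : R →+* R') =
      ((Algebra.TensorProduct.map f (AlgHom.id K A) : R ⊗[K] A →ₐ[K] R' ⊗[K] A) :
        R ⊗[K] A →+* R' ⊗[K] A).comp (algebraMap R (R ⊗[K] A)) := by
    ext r
    simp [Algebra.TensorProduct.algebraMap_apply]
  rw [aeval_def, eval₂_map, h2, aeval_def]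
  exact (hom_eval₂ q (algebraMap R (R ⊗[K] A))
    ((Algebra.TensorProduct.map f (AlgHom.id K A) : R ⊗[K] A →ₐ[K] R' ⊗[K] A) :
        R ⊗[K] A →+* R' ⊗[K] A) t).symm

variable (L : Type u) [Field L] [Algebra K L]

/-- the map `R ⊗ A → L ⊗ A` for a subalgebra `R ≤ L` -/
noncomputable abbrev iR (R : Subalgebra K L) : R ⊗[K] A →ₐ[K] L ⊗[K] A :=
  Algebra.TensorProduct.map R.val (AlgHom.id K A)

theorem iR_injective (R : Subalgebra K L) : Function.Injective (iR K A L R) := by
  have h1 : Function.Injective (LinearMap.rTensor A R.val.toLinearMap) :=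
    Module.Flat.rTensor_preserves_injective_linearMap _ Subtype.val_injective
  have h2 : ∀ t, iR K A L R t = LinearMap.rTensor A R.val.toLinearMap t := by
    intro t
    induction t using TensorProduct.induction_on with
    | zero => simp
    | tmul r a => simp
    | add x y hx hy => simp only [map_add, hx, hy]
  intro a b hab
  apply h1
  rw [← h2, ← h2, hab]

theorem iR_mono {R1 R2 : Subalgebra K L} (h : R1 ≤ R2) (t : R1 ⊗[K] A) :
    ∃ t' : R2 ⊗[K] A, iR K A L R2 t' = iR K A L R1 t := by
  refine ⟨Algebra.TensorProduct.map (Subalgebra.inclusion h) (AlgHom.id K A) t, ?_⟩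
  induction t using TensorProduct.induction_on with
  | zero => simp
  | tmul r a => simp
  | add x y hx hy => simp only [map_add, hx, hy]

theorem exists_finset_tensor (x : L ⊗[K] A) :
    ∃ s : Finset L, ∃ t : (Algebra.adjoin K (s : Set L)) ⊗[K] A,
      iR K A L (Algebra.adjoin K (s : Set L)) t = x := by
  classical
  induction x using TensorProduct.induction_on with
  | zero => exact ⟨∅, 0, map_zero _⟩
  | tmul l a =>
    exact ⟨{l}, (⟨l, Algebra.subset_adjoin (by simp)⟩ : Algebra.adjoin K (({l} : Finset L) : Set L))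
      ⊗ₜ a, by simp⟩
  | add x y hx hy =>
    obtain ⟨s1, t1, h1⟩ := hx
    obtain ⟨s2, t2, h2⟩ := hy
    have hle1 : Algebra.adjoin K (s1 : Set L) ≤ Algebra.adjoin K ((s1 ∪ s2 : Finset L) : Set L) :=
      Algebra.adjoin_mono (by simp)
    have hle2 : Algebra.adjoin K (s2 : Set L) ≤ Algebra.adjoin K ((s1 ∪ s2 : Finset L) : Set L) :=
      Algebra.adjoin_mono (by simp)
    obtain ⟨t1', h1'⟩ := iR_mono K A L hle1 t1
    obtain ⟨t2', h2'⟩ := iR_mono K A L hle2 t2
    exact ⟨s1 ∪ s2, t1' + t2', by rw [map_add, h1', h2', h1, h2]⟩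

omit [CommRing A] [Algebra K A] in
theorem exists_lift_poly (R : Subalgebra K L) (q : L[X]) (h : ∀ c ∈ q.coeffs, c ∈ R) :
    ∃ qR : R[X], qR.map (R.val : R →+* L) = q := by
  rw [← mem_lifts, lifts_iff_coeff_lifts]
  intro n
  by_cases h0 : q.coeff n = 0
  · exact ⟨0, by rw [h0, map_zero]⟩
  · exact ⟨⟨q.coeff n, h _ (coeff_mem_coeffs h0)⟩, rfl⟩

/-- specialization: the statement for all finite extensions implies it for all extensions -/
theorem good_of_finite
    (h : ∀ (κ : Type u) [Field κ] [Algebra K κ] [Module.Finite K κ], Good K A κ) :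
    Good K A L := by
  classical
  intro x hx
  rw [mem_gen_iff]
  obtain ⟨u, v, huv⟩ : IsCoprime (minpoly L x) (derivative (minpoly L x)) := hx
  obtain ⟨s0, t0, ht0⟩ := exists_finset_tensor K A L x
  obtain ⟨s, hs⟩ : ∃ s : Finset L, s = s0 ∪ (minpoly L x).coeffs ∪ u.coeffs ∪ v.coeffs := ⟨_, rfl⟩
  obtain ⟨R, hR⟩ : ∃ R : Subalgebra K L, R = Algebra.adjoin K (s : Set L) := ⟨_, rfl⟩
  have hle : Algebra.adjoin K (s0 : Set L) ≤ R := by
    rw [hR]
    apply Algebra.adjoin_mono
    rw [hs]
    intro c hc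
    simp only [Finset.coe_union, Set.mem_union, Finset.mem_coe]
    exact Or.inl (Or.inl (Or.inl hc))
  obtain ⟨t, ht⟩ := iR_mono K A L hle t0
  rw [ht0] at ht
  obtain ⟨qR, hq⟩ := exists_lift_poly K L R (minpoly L x) (fun c hc => by
    rw [hR]
    apply Algebra.subset_adjoin
    rw [hs]
    simp only [Finset.coe_union, Set.mem_union, Finset.mem_coe]
    exact Or.inl (Or.inl (Or.inr hc)))
  obtain ⟨uR, hu⟩ := exists_lift_poly K L R u (fun c hc => by
    rw [hR]
    apply Algebra.subset_adjoin
    rw [hs]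
    simp only [Finset.coe_union, Set.mem_union, Finset.mem_coe]
    exact Or.inl (Or.inr hc))
  obtain ⟨vR, hv⟩ := exists_lift_poly K L R v (fun c hc => by
    rw [hR]
    apply Algebra.subset_adjoin
    rw [hs]
    simp only [Finset.coe_union, Set.mem_union, Finset.mem_coe]
    exact Or.inr hc)
  have hinj : Function.Injective (R.val : R →+* L) := Subtype.val_injective
  have hsep : qR.Separable := by
    refine ⟨uR, vR, ?_⟩
    apply map_injective _ hinj
    rw [Polynomial.map_add, Polynomial.map_mul, Polynomial.map_mul, ← derivative_map, hq, hu, hv,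
      Polynomial.map_one]
    exact huv
  have hqt : aeval t qR = 0 := by
    apply iR_injective K A L R
    rw [map_zero, ← aeval_map_tensor, hq, ht, minpoly.aeval]
  haveI : Algebra.FiniteType K R := by
    rw [hR]
    exact (Subalgebra.fg_iff_finiteType _).mp (Subalgebra.fg_adjoin_finset s)
  haveI : IsJacobsonRing R := isJacobsonRing_of_finiteType (A := K) (B := R)
  ext j
  rw [← ht, co_map, Finsupp.zero_apply]
  have hzero : co K A R t j = 0 := by
    have hjac : co K A R t j ∈ Ideal.jacobson (⊥ : Ideal R) := by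
      rw [Ideal.jacobson, Ideal.mem_sInf]
      rintro m ⟨_, hm⟩
      haveI := hm
      letI : Field (R ⧸ m) := Ideal.Quotient.field m
      haveI : Algebra.FiniteType K (R ⧸ m) :=
        Algebra.FiniteType.of_surjective (Ideal.Quotient.mkₐ K m) (Ideal.Quotient.mkₐ_surjective K m)
      haveI : Module.Finite K (R ⧸ m) := finite_of_finite_type_of_isJacobsonRing K (R ⧸ m)
      have hg := h (R ⧸ m)
      have h0 : aeval (Algebra.TensorProduct.map (Ideal.Quotient.mkₐ K m) (AlgHom.id K A) t)
          (qR.map ((Ideal.Quotient.mkₐ K m : R →ₐ[K] R ⧸ m) : R →+* R ⧸ m)) = 0 := by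
        rw [aeval_map_tensor, hqt, map_zero]
      have hsepκ : IsSeparable (R ⧸ m)
          (Algebra.TensorProduct.map (Ideal.Quotient.mkₐ K m) (AlgHom.id K A) t) :=
        Separable.of_dvd (hsep.map) (minpoly.dvd _ _ h0)
      have h1 := (mem_gen_iff K A (R ⧸ m) _).mp (hg _ hsepκ)
      have h2 := congrArg (fun f => f j) h1
      simp only [Finsupp.zero_apply] at h2
      rw [co_map] at h2
      exact Ideal.Quotient.eq_zero_iff_mem.mp h2
    rw [IsJacobsonRing.out inferInstance (Ideal.radical_eq_iff.mp Ideal.radical_bot_of_isReduced)] at hjac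
    exact (Ideal.mem_bot).mp hjac
  rw [hzero, map_zero]

theorem good_all : Good K A L :=
  good_of_finite K A L (fun κ _ _ _ => good_of_algebraic K A κ)

theorem main : EtAlgD.maxWeaklyEtale L (L ⊗[K] A) =
    Algebra.adjoin L ((Algebra.TensorProduct.includeRight : A →ₐ[K] L ⊗[K] A) ''
      (EtAlgD.maxWeaklyEtale K A : Set A)) := by
  rw [maxWeaklyEtale_eq, maxWeaklyEtale_eq]
  exact le_antisymm (fun x hx => good_all K A L x hx) (gen_le K A L)

end Spec

end Groth.Agent.H4.EtsD
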