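import Mathlib

set_option autoImplicit false
universe u v
open TensorProduct

namespace Groth.Agent.H4.ExtAR

variable {A : Type u} [CommRing A]

lemma smul_top_map_le' {J : Ideal A} {M M' : Type*} [AddCommGroup M] [Module A M] [AddCommGroup M']
    [Module A M'] (f : M →ₗ[A] M') {x : M} (hx : x ∈ J • (⊤ : Submodule A M)) :
    f x ∈ J • (⊤ : Submodule A M') := by
  have h2 : f x ∈ (J • (⊤ : Submodule A M)).map f := ⟨x, hx, rfl⟩
  rw [Submodule.map_smul''] at h2
  exact Submodule.smul_mono (le_refl J) le_top h2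

/-- easy direction: a map in `J • Hom(F, M)` has values in `J M`. -/
lemma apply_mem_of_mem_smul_top {J : Ideal A} {F M : Type*} [AddCommGroup F] [Module A F]
    [AddCommGroup M] [Module A M] {φ : F →ₗ[A] M}
    (h : φ ∈ J • (⊤ : Submodule A (F →ₗ[A] M))) (y : F) : φ y ∈ J • (⊤ : Submodule A M) :=
  smul_top_map_le' (LinearMap.applyₗ y) h

/-- hard direction: a map from a finite free module with values in `J M` lies in `J • Hom(F, M)`. -/
lemma mem_smul_top_of_apply_mem {J : Ideal A} {F M : Type*} [AddCommGroup F] [Module A F]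
    [Module.Free A F] [Module.Finite A F]
    [AddCommGroup M] [Module A M] {φ : F →ₗ[A] M}
    (h : ∀ y, φ y ∈ J • (⊤ : Submodule A M)) : φ ∈ J • (⊤ : Submodule A (F →ₗ[A] M)) := by
  classical
  let b := Module.Free.chooseBasis A F
  have key : φ = ∑ k, (LinearMap.smulRightₗ (b.coord k)) (φ (b k)) := by
    refine b.ext (fun j => ?_)
    rw [LinearMap.sum_apply]
    have h1 : ∀ k, (LinearMap.smulRightₗ (b.coord k)) (φ (b k)) (b j) =
        (if j = k then φ (b k) else 0) := by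
      intro k
      change (b.coord k) (b j) • φ (b k) = _
      rw [Module.Basis.coord_apply, Module.Basis.repr_self, Finsupp.single_apply]
      split_ifs with h1
      · rw [one_smul]
      · rw [zero_smul]
    simp only [h1]
    rw [Finset.sum_ite_eq Finset.univ j]
    simp
  rw [key]
  exact Submodule.sum_mem _ (fun k _ => smul_top_map_le' _ (h (b k)))


section KC

variable [IsNoetherianRing A] (I : Ideal A)
  {F0 F1 F2 M : Type u} [AddCommGroup F0] [Module A F0] [AddCommGroup F1] [Module A F1]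
  [AddCommGroup F2] [Module A F2] [AddCommGroup M] [Module A M]
  [Module.Free A F1] [Module.Finite A F1] [Module.Free A F2] [Module.Finite A F2]
  [Module.Finite A M] (d0 : F0 →ₗ[A] F1) (d1 : F1 →ₗ[A] F2)

theorem key_claim
    (tors : ∀ (c : ℕ) (z : F1 →ₗ[A] ↥(I ^ c • (⊤ : Submodule A M))), z ∘ₗ d0 = 0 →
      ∃ n : ℕ, ∀ x ∈ I ^ n, ∃ ψ : F2 →ₗ[A] ↥(I ^ c • (⊤ : Submodule A M)), ψ ∘ₗ d1 = x • z) :
    ∃ c t : ℕ, ∀ n : ℕ, c ≤ n → ∀ φ : F1 →ₗ[A] M, φ ∘ₗ d0 = 0 →
      (∀ y, φ y ∈ I ^ (n + t) • (⊤ : Submodule A M)) →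
      ∃ ψ : F2 →ₗ[A] M, (∀ y, ψ y ∈ I ^ n • (⊤ : Submodule A M)) ∧ ψ ∘ₗ d1 = φ := by
  classical
  let W := F1 →ₗ[A] M
  let Wu := F2 →ₗ[A] M
  let δ1 : W →ₗ[A] (F0 →ₗ[A] M) := LinearMap.lcomp A M d0
  let δ0 : Wu →ₗ[A] W := LinearMap.lcomp A M d1
  let Z : Submodule A W := LinearMap.ker δ1
  let B : Submodule A W := LinearMap.range δ0
  obtain ⟨c, hAR⟩ := Ideal.exists_pow_inf_eq_pow_smul I Z
  let Zc : Submodule A W := I ^ c • ⊤ ⊓ Z
  -- pointwise torsion
  have hpt : ∀ z ∈ Zc, ∃ n : ℕ, ∀ x ∈ I ^ n, x • z ∈ I ^ c • B := by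
    intro z hz
    have hz1 : ∀ y, z y ∈ I ^ c • (⊤ : Submodule A M) := apply_mem_of_mem_smul_top hz.1
    have hz2 : z ∘ₗ d0 = 0 := hz.2
    let zt : F1 →ₗ[A] ↥(I ^ c • (⊤ : Submodule A M)) := z.codRestrict _ hz1
    have hzt : zt ∘ₗ d0 = 0 := by
      refine LinearMap.ext (fun y => Subtype.ext ?_)
      exact LinearMap.congr_fun hz2 y
    obtain ⟨n, hn⟩ := tors c zt hzt
    refine ⟨n, fun x hx => ?_⟩
    obtain ⟨ψ, hψ⟩ := hn x hx
    let ψ' : Wu := (I ^ c • (⊤ : Submodule A M)).subtype ∘ₗ ψ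
    have h1 : ψ' ∈ I ^ c • (⊤ : Submodule A Wu) :=
      mem_smul_top_of_apply_mem (fun y => (ψ y).2)
    have h2 : δ0 ψ' = x • z := by
      refine LinearMap.ext (fun y => ?_)
      have := congrArg Subtype.val (LinearMap.congr_fun hψ y)
      exact this
    have h3 : δ0 ψ' ∈ (I ^ c • (⊤ : Submodule A Wu)).map δ0 := ⟨ψ', h1, rfl⟩
    rw [Submodule.map_smul'', Submodule.map_top] at h3
    rwa [h2] at h3
  -- uniform torsion
  have hfg : Zc.FG := IsNoetherian.noetherian Zc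
  obtain ⟨S, hS⟩ := hfg
  have hSmem : ∀ s ∈ S, s ∈ Zc := fun s hs => hS ▸ Submodule.subset_span hs
  choose! nn hnn using hpt
  let t := S.sup nn
  have hunif : I ^ t • Zc ≤ I ^ c • B := by
    rw [Submodule.smul_le]
    intro x hx z hz
    rw [← hS] at hz
    induction hz using Submodule.span_induction with
    | mem s hs =>
      exact hnn s (hSmem s hs) x (Ideal.pow_le_pow_right (Finset.le_sup hs) hx)
    | zero => rw [smul_zero]; exact Submodule.zero_mem _
    | add a b _ _ ha hb => rw [smul_add]; exact Submodule.add_mem _ ha hb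
    | smul r a _ ha => rw [smul_comm]; exact Submodule.smul_mem _ _ ha
  refine ⟨c, t, fun n hn φ hφ hval => ?_⟩
  have h1 : φ ∈ I ^ (n + t) • (⊤ : Submodule A W) ⊓ Z :=
    ⟨mem_smul_top_of_apply_mem hval, hφ⟩
  rw [hAR (n + t) (by omega)] at h1
  have h2 : I ^ (n + t - c) • Zc ≤ I ^ n • B := by
    have e1 : n + t - c = (n - c) + t := by omega
    rw [e1, pow_add, Submodule.mul_smul]
    refine (Submodule.smul_mono (le_refl _) hunif).trans ?_
    rw [← Submodule.mul_smul, ← pow_add]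
    have e2 : n - c + c = n := by omega
    rw [e2]
  have h3 : φ ∈ I ^ n • B := h2 h1
  have h4 : I ^ n • B = (I ^ n • (⊤ : Submodule A Wu)).map δ0 := by
    rw [Submodule.map_smul'', Submodule.map_top]
  rw [h4] at h3
  obtain ⟨ψ, hψ1, hψ2⟩ := h3
  exact ⟨ψ, apply_mem_of_mem_smul_top hψ1, hψ2⟩

end KC

end Groth.Agent.H4.ExtAR
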