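import Mathlib
import Groth.Agent.Lib.Helper3.PerfAux
import Groth.Prelude.Def_DRing2

set_option autoImplicit false
universe u
open CategoryTheory CategoryTheory.Limits CochainComplex CochainComplex.HomComplex

namespace Groth.Agent.H4.ExtBr

attribute [local instance] HasDerivedCategory.standard
open DerivedCategory DRing

variable {A : Type u} [CommRing A]

/-- the target `N[i]` -/
noncomputable abbrev tgt (N : ModuleCat.{u} A) (i : ℤ) : Dual.D A :=
  ((DerivedCategory.singleFunctor (ModuleCat.{u} A) 0).obj N)⟦i⟧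

/-- the single complex -/
noncomputable abbrev sg (N : ModuleCat.{u} A) : Cx A :=
  (CochainComplex.singleFunctor (ModuleCat.{u} A) 0).obj N

/-- the comparison iso `Q(N[0]⟦i⟧) ≅ N[i]`. -/
noncomputable def cmp (N : ModuleCat.{u} A) (i : ℤ) : Q.obj ((sg N)⟦i⟧) ≅ tgt N i :=
  (Q.commShiftIso i).app (sg N)

lemma cmp_nat {N N' : ModuleCat.{u} A} (g : N ⟶ N') (i : ℤ) :
    Q.map (((CochainComplex.singleFunctor (ModuleCat.{u} A) 0).map g)⟦i⟧') ≫ (cmp N' i).hom =
      (cmp N i).hom ≫ ((DerivedCategory.singleFunctor (ModuleCat.{u} A) 0).map g)⟦i⟧' :=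
  (Q.commShiftIso i).hom.naturality ((CochainComplex.singleFunctor (ModuleCat.{u} A) 0).map g)

lemma Q_map_eq_zero_iff {P : Cx A} [P.IsKProjective] {L : Cx A} (g : P ⟶ L) :
    Q.map g = 0 ↔ (HomotopyCategory.quotient _ _).map g = 0 := by
  constructor
  · intro h
    have hb := (CochainComplex.IsKProjective.Qh_map_bijective P
      ((HomotopyCategory.quotient _ _).obj L)).injective
    apply hb
    rw [Functor.map_zero]
    have h1 : Qh.map ((HomotopyCategory.quotient _ _).map g) =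
        (quotientCompQhIso _).hom.app P ≫ Q.map g ≫ (quotientCompQhIso _).inv.app L := by
      have := (quotientCompQhIso (ModuleCat.{u} A)).hom.naturality g
      simp only [Functor.comp_map] at this
      rw [← Category.assoc, ← this, Category.assoc, Iso.hom_inv_id_app, Category.comp_id]
    rw [h1, h, zero_comp, comp_zero]
  · intro h
    have h1 : Q.map g = (quotientCompQhIso _).inv.app P ≫
        Qh.map ((HomotopyCategory.quotient _ _).map g) ≫ (quotientCompQhIso _).hom.app L := by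
      have := (quotientCompQhIso (ModuleCat.{u} A)).hom.naturality g
      simp only [Functor.comp_map] at this
      rw [this, Iso.inv_hom_id_app_assoc]
    rw [h1, h, Functor.map_zero, zero_comp, comp_zero]

section Bridge

variable (P : Cx A) (N : ModuleCat.{u} A) (i p p' p'' : ℤ) (hp : p + i = 0) (hp' : p' + 1 = p)
  (hp'' : p + 1 = p'')

/-- the chain map `P ⟶ N[0]⟦i⟧` attached to `φ : P^p ⟶ N` vanishing on boundaries. -/
noncomputable def chainOf (φ : P.X p ⟶ N) (hφ : P.d p' p ≫ φ = 0) : P ⟶ (sg N)⟦i⟧ :=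
  Cocycle.equivHomShift.symm (Cocycle.toSingleMk φ hp p' hp' hφ)

/-- the class in `Hom_{D(A)}(P, N[i])` of `φ : P^p ⟶ N` vanishing on boundaries. -/
noncomputable def cls (φ : P.X p ⟶ N) (hφ : P.d p' p ≫ φ = 0) : toD P ⟶ tgt N i :=
  Q.map (chainOf P N i p p' hp hp' φ hφ) ≫ (cmp N i).hom

variable {P N i p p' p''}

lemma cls_surjective [P.IsKProjective] (e : toD P ⟶ tgt N i) :
    ∃ (φ : P.X p ⟶ N) (hφ : P.d p' p ≫ φ = 0), cls P N i p p' hp hp' φ hφ = e := by
  obtain ⟨g, hg⟩ := Groth.Agent.H3.PerfAux.exists_map_of_isKProjective P _ (e ≫ (cmp N i).inv)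
  obtain ⟨φ, hφ, h⟩ := Cocycle.toSingleMk_surjective (Cocycle.equivHomShift g) p hp p' hp'
  refine ⟨φ, hφ, ?_⟩
  unfold cls chainOf
  rw [h, AddEquiv.symm_apply_apply, hg, Category.assoc, Iso.inv_hom_id, Category.comp_id]

include hp'' in
lemma cls_eq_zero_iff [P.IsKProjective] (φ : P.X p ⟶ N) (hφ : P.d p' p ≫ φ = 0) :
    cls P N i p p' hp hp' φ hφ = 0 ↔ ∃ ψ : P.X p'' ⟶ N, P.d p p'' ≫ ψ = φ := by
  rw [← Cocycle.toSingleMk_mem_coboundaries_iff φ hp p' hp' hφ p'' hp'',
    ← CohomologyClass.toHom_mk_eq_zero_iff, CohomologyClass.toHom_mk]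
  unfold cls
  rw [← Q_map_eq_zero_iff]
  constructor
  · intro h
    have := congrArg (fun t => t ≫ (cmp N i).inv) h
    simp only [Category.assoc, Iso.hom_inv_id, Category.comp_id, zero_comp] at this
    exact this
  · intro h
    unfold chainOf
    rw [h, zero_comp]

lemma cls_add (φ φ' : P.X p ⟶ N) (hφ : P.d p' p ≫ φ = 0) (hφ' : P.d p' p ≫ φ' = 0) :
    cls P N i p p' hp hp' (φ + φ') (by rw [Preadditive.comp_add, hφ, hφ', add_zero]) =
      cls P N i p p' hp hp' φ hφ + cls P N i p p' hp hp' φ' hφ' := by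
  unfold cls chainOf
  rw [Cocycle.toSingleMk_add φ φ' hp p' hp' hφ hφ', map_add, Functor.map_add,
    Preadditive.add_comp]

lemma cls_sub (φ φ' : P.X p ⟶ N) (hφ : P.d p' p ≫ φ = 0) (hφ' : P.d p' p ≫ φ' = 0) :
    cls P N i p p' hp hp' (φ - φ') (by rw [Preadditive.comp_sub, hφ, hφ', sub_zero]) =
      cls P N i p p' hp hp' φ hφ - cls P N i p p' hp hp' φ' hφ' := by
  unfold cls chainOf
  rw [Cocycle.toSingleMk_sub φ φ' hp p' hp' hφ hφ', map_sub, Functor.map_sub,
    Preadditive.sub_comp]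

lemma cls_comp (φ : P.X p ⟶ N) (hφ : P.d p' p ≫ φ = 0) {N' : ModuleCat.{u} A} (g : N ⟶ N') :
    cls P N' i p p' hp hp' (φ ≫ g) (by rw [← Category.assoc, hφ, zero_comp]) =
      cls P N i p p' hp hp' φ hφ ≫
        ((DerivedCategory.singleFunctor (ModuleCat.{u} A) 0).map g)⟦i⟧' := by
  unfold cls chainOf
  rw [Cocycle.toSingleMk_postcomp φ hp p' hp' hφ g, Cocycle.equivHomShift_symm_postcomp,
    Functor.map_comp, Category.assoc, Category.assoc, cmp_nat]


lemma smul_cls (x : A) (φ : P.X p ⟶ N) (hφ : P.d p' p ≫ φ = 0) :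
    x • cls P N i p p' hp hp' φ hφ =
      cls P N i p p' hp hp' (x • φ) (by rw [Linear.comp_smul, hφ, smul_zero]) := by
  have h1 : x • φ = φ ≫ (x • 𝟙 N) := by rw [Linear.comp_smul, Category.comp_id]
  have h2 : cls P N i p p' hp hp' (x • φ) (by rw [Linear.comp_smul, hφ, smul_zero]) =
      cls P N i p p' hp hp' (φ ≫ (x • 𝟙 N)) (by rw [← Category.assoc, hφ, zero_comp]) := by
    congr 1
  rw [h2, cls_comp hp hp' φ hφ (x • 𝟙 N), Functor.map_smul, Functor.map_smul,
    Linear.comp_smul, CategoryTheory.Functor.map_id, CategoryTheory.Functor.map_id,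
    Category.comp_id]

end Bridge

end Groth.Agent.H4.ExtBr
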