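import Mathlib

set_option autoImplicit false
universe u

namespace Groth.Agent.H4.ExtPowQuot

open exteriorPower

section
variable {A : Type u} [CommRing A] (K : Ideal A) (M : Type u) [AddCommGroup M] [Module A M]
  [Module (A ⧸ K) M] [IsScalarTower A (A ⧸ K) M]

lemma mk_smul' (a : A) (x : M) : (Ideal.Quotient.mk K a) • x = a • x := by
  rw [← Ideal.Quotient.algebraMap_eq]
  exact algebraMap_smul (A ⧸ K) a x

/-- `K` kills `⋀^(n+1)_A M`. -/
lemma smul_eq_zero_of_mem (n : ℕ) (a : A) (ha : a ∈ K) (x : ⋀[A]^(n + 1) M) : a • x = 0 := by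
  have hx : x ∈ Submodule.span A (Set.range (ιMulti A (n + 1) (M := M))) := by
    rw [ιMulti_span]; trivial
  refine Submodule.span_induction (p := fun x _ => a • x = 0) ?_ ?_ ?_ ?_ hx
  · rintro _ ⟨v, rfl⟩
    have h0 : a • v 0 = 0 := by
      rw [← mk_smul' K M a (v 0), Ideal.Quotient.eq_zero_iff_mem.2 ha, zero_smul]
    have h1 : a • ιMulti A (n + 1) v = ιMulti A (n + 1) (Function.update v 0 (a • v 0)) := by
      rw [AlternatingMap.map_update_smul, Function.update_eq_self]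
    rw [h1, h0]
    exact (ιMulti A (n + 1)).map_coord_zero 0 (Function.update_self 0 0 v)
  · exact smul_zero a
  · intro x y _ _ hx hy
    rw [smul_add, hx, hy, add_zero]
  · intro r x _ hx
    rw [smul_comm, hx, smul_zero]

lemma isTorsionBySet (n : ℕ) : Module.IsTorsionBySet A (⋀[A]^(n + 1) M) (K : Set A) := by
  intro x a
  exact smul_eq_zero_of_mem K M n a.1 a.2 x

theorem nonempty_extPow_equiv (n : ℕ) :
    Nonempty (⋀[A]^(n + 1) M ≃ₗ[A] ⋀[A ⧸ K]^(n + 1) M) := by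
  letI : Module (A ⧸ K) (⋀[A]^(n + 1) M) := (isTorsionBySet K M n).module
  have hmk : ∀ (a : A) (y : ⋀[A]^(n + 1) M), (Ideal.Quotient.mk K a) • y = a • y := fun a y => rfl
  haveI : IsScalarTower A (A ⧸ K) (⋀[A]^(n + 1) M) := ⟨fun a c y => by
    obtain ⟨b, rfl⟩ := Ideal.Quotient.mk_surjective c
    have : a • (Ideal.Quotient.mk K b) = Ideal.Quotient.mk K (a * b) := rfl
    rw [this, hmk, hmk, mul_smul]⟩
  let aA : M [⋀^Fin (n + 1)]→ₗ[A] ⋀[A ⧸ K]^(n + 1) M :=
    { ((ιMulti (A ⧸ K) (n + 1) (M := M)).toMultilinearMap.restrictScalars A) with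
      map_eq_zero_of_eq' := fun v i j hv hij =>
        (ιMulti (A ⧸ K) (n + 1) (M := M)).map_eq_zero_of_eq v hv hij }
  let φ : ⋀[A]^(n + 1) M →ₗ[A] ⋀[A ⧸ K]^(n + 1) M := alternatingMapLinearEquiv aA
  let aC : M [⋀^Fin (n + 1)]→ₗ[A ⧸ K] ⋀[A]^(n + 1) M :=
    { toFun := ιMulti A (n + 1)
      map_update_add' := by
        intro _ v i x y
        exact (ιMulti A (n + 1) (M := M)).map_update_add v i x y
      map_update_smul' := by
        intro _ v i c x
        obtain ⟨a, rfl⟩ := Ideal.Quotient.mk_surjective c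
        rw [mk_smul' K M a x, hmk]
        exact (ιMulti A (n + 1) (M := M)).map_update_smul v i a x
      map_eq_zero_of_eq' := fun v i j hv hij =>
        (ιMulti A (n + 1) (M := M)).map_eq_zero_of_eq v hv hij }
  let ψ : ⋀[A ⧸ K]^(n + 1) M →ₗ[A ⧸ K] ⋀[A]^(n + 1) M := alternatingMapLinearEquiv aC
  have hφ : ∀ v, φ (ιMulti A (n + 1) v) = ιMulti (A ⧸ K) (n + 1) v := fun v =>
    alternatingMapLinearEquiv_apply_ιMulti aA v
  have hψ : ∀ v, ψ (ιMulti (A ⧸ K) (n + 1) v) = ιMulti A (n + 1) v := fun v =>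
    alternatingMapLinearEquiv_apply_ιMulti aC v
  have hsurj : Function.Surjective (algebraMap A (A ⧸ K)) := Ideal.Quotient.mk_surjective
  let φC : ⋀[A]^(n + 1) M →ₗ[A ⧸ K] ⋀[A ⧸ K]^(n + 1) M := φ.extendScalarsOfSurjective hsurj
  have h1 : φC ∘ₗ ψ = LinearMap.id := by
    apply exteriorPower.linearMap_ext
    refine AlternatingMap.ext fun v => ?_
    show φ (ψ (ιMulti _ _ v)) = ιMulti _ _ v
    rw [hψ, hφ]
  have h2 : (ψ.restrictScalars A) ∘ₗ φ = LinearMap.id := by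
    apply exteriorPower.linearMap_ext
    refine AlternatingMap.ext fun v => ?_
    show ψ (φ (ιMulti _ _ v)) = ιMulti _ _ v
    rw [hφ, hψ]
  exact ⟨LinearEquiv.ofLinearMap φ (ψ.restrictScalars A)
    (LinearMap.ext fun x => congrArg (fun (l : _ →ₗ[A ⧸ K] _) => l x) h1) h2⟩

end

section
variable {A : Type u} [CommRing A]

theorem nonempty_extPow_pi (K : Ideal A) (m n : ℕ) :
    Nonempty (⋀[A]^(n + 1) (Fin m → A ⧸ K) ≃ₗ[A] (Fin (m.choose (n + 1)) → A ⧸ K)) := by
  obtain ⟨e1⟩ := nonempty_extPow_equiv K (Fin m → A ⧸ K) n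
  let b := (Pi.basisFun (A ⧸ K) (Fin m)).exteriorPower (n + 1)
  let e2 : ⋀[A ⧸ K]^(n + 1) (Fin m → A ⧸ K) ≃ₗ[A ⧸ K]
      (Set.powersetCard (Fin m) (n + 1) → A ⧸ K) := b.equivFun
  have hc : Nat.card (Set.powersetCard (Fin m) (n + 1)) = m.choose (n + 1) := by
    rw [Set.powersetCard.card, Nat.card_fin]
  let e3 : Set.powersetCard (Fin m) (n + 1) ≃ Fin (m.choose (n + 1)) := Finite.equivFinOfCardEq hc
  let e4 : (Set.powersetCard (Fin m) (n + 1) → A ⧸ K) ≃ₗ[A ⧸ K]
      (Fin (m.choose (n + 1)) → A ⧸ K) := LinearEquiv.funCongrLeft (A ⧸ K) (A ⧸ K) e3.symm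
  exact ⟨e1 ≪≫ₗ (e2 ≪≫ₗ e4).restrictScalars A⟩

/-- functoriality of exterior powers for linear equivalences. -/
noncomputable def extPowCongr {M N : Type u} [AddCommGroup M] [Module A M] [AddCommGroup N]
    [Module A N] (n : ℕ) (e : M ≃ₗ[A] N) : ⋀[A]^n M ≃ₗ[A] ⋀[A]^n N :=
  LinearEquiv.ofLinearMap (exteriorPower.map n e.toLinearMap) (exteriorPower.map n e.symm.toLinearMap)
    (by
      have h : e.toLinearMap ∘ₗ e.symm.toLinearMap = LinearMap.id :=
        LinearMap.ext fun x => e.apply_symm_apply x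
      rw [← exteriorPower.map_comp, h, exteriorPower.map_id])
    (by
      have h : e.symm.toLinearMap ∘ₗ e.toLinearMap = LinearMap.id :=
        LinearMap.ext fun x => e.symm_apply_apply x
      rw [← exteriorPower.map_comp, h, exteriorPower.map_id])

end

end Groth.Agent.H4.ExtPowQuot
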