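import Mathlib
import Groth.Prelude.Def_DualLC
import Groth.Agent.H4.RG10
import Groth.Agent.H4.DZ1

set_option autoImplicit false
universe u
open CategoryTheory Category Limits Pretriangulated Opposite ZeroObject

namespace Groth.Agent.H4.Rob2

attribute [local instance] HasDerivedCategory.standard

open DerivedCategory DRing Groth.Agent.H4.RG1 Groth.Agent.H4.RG2 Groth.Agent.H4.RG5
  Groth.Agent.H4.RG6 Groth.Agent.H4.RG7 Groth.Agent.H4.RG8 Groth.Agent.H4.RG10 Groth.Agent.H4.LD3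

variable {A : Type u} [CommRing A]

/-- `H^0_I(K) ≅ H^0(K)` when `K` has `I`-power torsion cohomology. -/
theorem nonempty_hdi_equiv_HD_zero [IsNoetherianRing A] (I : Ideal A) (K : Dual.D A)
    (hK : ∀ i : ℤ, LocCoh.IsPowerTorsion I (Dual.HD A K i)) :
    Nonempty ((hdi I).obj K ≃ₗ[A] Dual.HD A K 0) := by
  obtain ⟨L, hL, hLinj, ⟨e⟩⟩ := exists_kinj_inj_iso K
  haveI := hL
  have hLinj' : ∀ n, Module.Injective A (L.X n) := fun n =>
    haveI := hLinj n
    moduleInjective_of_injective _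
  haveI hqis : QuasiIso (gamIncl I L) := quasiIso_gamIncl I L hLinj'
    (fun f hf o p r h1 h2 => htorsElt_of_isPowerTorsion I K L e hK f hf o p r h1 h2)
  obtain ⟨e6⟩ := nonempty_homology_equiv_hdi I L
  let e1 : (GamL I L).homology 0 ≅ L.homology 0 :=
    asIso (HomologicalComplex.homologyMap (gamIncl I L) 0)
  let e2 : (homologyFunctor (ModuleCat.{u} A) 0).obj (Q.obj L) ≅ L.homology 0 :=
    (homologyFunctorFactors (ModuleCat.{u} A) 0).app L
  let e3 : (homologyFunctor (ModuleCat.{u} A) 0).obj K ≅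
      (homologyFunctor (ModuleCat.{u} A) 0).obj (Q.obj L) :=
    (homologyFunctor (ModuleCat.{u} A) 0).mapIso e
  exact ⟨((hdi I).mapIso e).toLinearEquiv ≪≫ₗ e6.symm ≪≫ₗ
    (e1 ≪≫ e2.symm ≪≫ e3.symm).toLinearEquiv⟩

/-- `H^0_I(K[j]) ≅ H^j(K)` when `K` has `I`-power torsion cohomology. -/
theorem nonempty_hdi_equiv_HD [IsNoetherianRing A] (I : Ideal A) (K : Dual.D A)
    (hK : ∀ i : ℤ, LocCoh.IsPowerTorsion I (Dual.HD A K i)) (j : ℤ) :
    Nonempty ((hdi I).obj (K⟦j⟧) ≃ₗ[A] Dual.HD A K j) := by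
  have hKj : ∀ i : ℤ, LocCoh.IsPowerTorsion I (Dual.HD A (K⟦j⟧) i) := by
    intro i x
    let ε : Dual.HD A (K⟦j⟧) i ≃ₗ[A] Dual.HD A K (j + i) :=
      (((homologyFunctor (ModuleCat.{u} A) 0).shiftIso j i (j + i) rfl).app K).toLinearEquiv
    obtain ⟨n, hn⟩ := hK (j + i) (ε x)
    refine ⟨n, fun a ha => ?_⟩
    apply ε.injective
    rw [map_smul, hn a ha, map_zero]
  obtain ⟨e⟩ := nonempty_hdi_equiv_HD_zero I (K⟦j⟧) hKj
  exact ⟨e ≪≫ₗ
    (((homologyFunctor (ModuleCat.{u} A) 0).shiftIso j 0 j (by simp)).app K).toLinearEquiv⟩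

/-- a module of finite length over a local ring is killed by a power of the maximal ideal. -/
lemma isPowerTorsion_of_isFiniteLength [IsLocalRing A] (N : Type u) [AddCommGroup N] [Module A N]
    (hN : IsFiniteLength A N) : LocCoh.IsPowerTorsion (IsLocalRing.maximalIdeal A) N := by
  rw [isFiniteLength_iff_isNoetherian_isArtinian] at hN
  obtain ⟨hNoeth, hArt⟩ := hN
  let c : ℕ →o (Submodule A N)ᵒᵈ :=
    ⟨fun n => OrderDual.toDual ((IsLocalRing.maximalIdeal A) ^ n • (⊤ : Submodule A N)), by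
      intro n m hnm
      change (IsLocalRing.maximalIdeal A) ^ m • (⊤ : Submodule A N) ≤
        (IsLocalRing.maximalIdeal A) ^ n • (⊤ : Submodule A N)
      exact Submodule.smul_mono_left (Ideal.pow_le_pow_right hnm)⟩
  obtain ⟨n, hn⟩ := IsArtinian.monotone_stabilizes c
  have h1 : (IsLocalRing.maximalIdeal A) ^ n • (⊤ : Submodule A N) =
      (IsLocalRing.maximalIdeal A) ^ (n + 1) • (⊤ : Submodule A N) := hn (n + 1) (Nat.le_succ n)
  have h2 : (IsLocalRing.maximalIdeal A) ^ n • (⊤ : Submodule A N) = ⊥ := by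
    apply Submodule.eq_bot_of_le_smul_of_le_jacobson_bot (IsLocalRing.maximalIdeal A) _
      (IsNoetherian.noetherian _)
    · conv_lhs => rw [h1]
      rw [pow_succ', mul_smul]
    · exact (IsLocalRing.maximalIdeal_le_jacobson ⊥)
  intro x
  refine ⟨n, fun a ha => ?_⟩
  have : a • x ∈ (IsLocalRing.maximalIdeal A) ^ n • (⊤ : Submodule A N) :=
    Submodule.smul_mem_smul ha trivial
  rw [h2] at this
  exact (Submodule.mem_bot A).1 this

end Groth.Agent.H4.Rob2
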