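import Mathlib
import Groth.Prelude.Def_DualLC
import Groth.Agent.H4.LD3

set_option autoImplicit false
universe u w
open CategoryTheory Category Limits Opposite

namespace Groth.Agent.H4.TL1

section Colim

variable {R : Type u} [CommRing R] {J : Type u} [Category.{u} J] [IsFiltered J]

noncomputable instance forgetPreservesFilt (F : J ⥤ ModuleCat.{u + 1} R) :
    PreservesColimit F (forget (ModuleCat.{u + 1} R)) := by
  have h1 : PreservesFilteredColimitsOfSize.{u, u} (forget AddCommGrpCat.{u + 1}) :=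
    preservesFilteredColimitsOfSize_shrink.{u, u + 1, u, u + 1} _
  have h2 : PreservesColimit F (forget₂ (ModuleCat.{u + 1} R) AddCommGrpCat.{u + 1}) := inferInstance
  have h3 : PreservesColimit (F ⋙ forget₂ (ModuleCat.{u + 1} R) AddCommGrpCat.{u + 1})
      (forget AddCommGrpCat.{u + 1}) := inferInstance
  have : PreservesColimit F (forget₂ (ModuleCat.{u + 1} R) AddCommGrpCat.{u + 1} ⋙
      forget AddCommGrpCat.{u + 1}) := inferInstance
  exact this

variable (F : J ⥤ ModuleCat.{u + 1} R)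

/-- The canonical map from the stage `j`. -/
noncomputable def cι (j : J) : F.obj j →ₗ[R] (colimit F : ModuleCat.{u + 1} R) :=
  (colimit.ι F j).hom

variable {F}

theorem cι_surj (x : (colimit F : ModuleCat.{u + 1} R)) : ∃ j y, cι F j y = x :=
  Concrete.isColimit_exists_rep F (colimit.isColimit F) x

theorem cι_eq_iff {i j : J} (x : F.obj i) (y : F.obj j) :
    cι F i x = cι F j y ↔ ∃ (k : J) (a : i ⟶ k) (b : j ⟶ k), (F.map a).hom x = (F.map b).hom y :=
  Concrete.isColimit_rep_eq_iff_exists F (colimit.isColimit F) x y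

theorem cι_map {i j : J} (a : i ⟶ j) (x : F.obj i) :
    cι F j ((F.map a).hom x) = cι F i x := by
  have h1 := colimit.w F a
  have h2 := congrArg (fun φ => φ.hom x) h1
  exact h2

theorem cι_eq_zero_iff {i : J} (x : F.obj i) :
    cι F i x = 0 ↔ ∃ (k : J) (a : i ⟶ k), (F.map a).hom x = 0 := by
  rw [← (cι F i).map_zero, cι_eq_iff]
  constructor
  · rintro ⟨k, a, b, h⟩
    exact ⟨k, a, by rw [h, map_zero]⟩
  · rintro ⟨k, a, h⟩
    exact ⟨k, a, a, by rw [h, map_zero]⟩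

end Colim

section HDT

attribute [local instance] HasDerivedCategory.standard

open Pretriangulated Groth.Agent.H4.LD3

variable {A : Type u} [CommRing A] (T : Set (PrimeSpectrum A))

/-- constructor for objects of `IdealsIn T` -/
def mkI (J : Ideal A) (hJ : PrimeSpectrum.zeroLocus (J : Set A) ⊆ T) : Dual2.IdealsIn T := ⟨J, hJ⟩

/-- constructor for morphisms of `IdealsIn T` -/
def homI {J' J : Ideal A} (h : J' ≤ J) (hJ' : PrimeSpectrum.zeroLocus (J' : Set A) ⊆ T)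
    (hJ : PrimeSpectrum.zeroLocus (J : Set A) ⊆ T) : mkI T J' hJ' ⟶ mkI T J hJ :=
  ObjectProperty.homMk (homOfLE h)

instance (X Y : Dual2.IdealsIn T) : Subsingleton (X ⟶ Y) :=
  ⟨fun f g => ObjectProperty.hom_ext _ (Subsingleton.elim _ _)⟩

lemma zeroLocus_inf_subset {J J' : Ideal A} (hJ : PrimeSpectrum.zeroLocus (J : Set A) ⊆ T)
    (hJ' : PrimeSpectrum.zeroLocus (J' : Set A) ⊆ T) :
    PrimeSpectrum.zeroLocus ((J ⊓ J' : Ideal A) : Set A) ⊆ T := by
  rw [PrimeSpectrum.zeroLocus_inf]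
  exact Set.union_subset hJ hJ'

instance : IsCofiltered (Dual2.IdealsIn T) where
  cone_objs X Y := ⟨mkI T (X.obj ⊓ Y.obj) (zeroLocus_inf_subset T X.property Y.property),
    ObjectProperty.homMk (homOfLE inf_le_left), ObjectProperty.homMk (homOfLE inf_le_right), trivial⟩
  cone_maps X _ _ _ := ⟨X, 𝟙 X, Subsingleton.elim _ _⟩
  nonempty := ⟨mkI T ⊤ (by simp)⟩

/-- `A/J` in `D(A)` -/
noncomputable abbrev qDT : Dual2.IdealsIn T ⥤ Dual.D A :=
  localCohomology.ringModIdeals (Dual2.idealsInDiagram T) ⋙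
    DerivedCategory.singleFunctor (ModuleCat.{u} A) 0

/-- the diagram whose colimit is `HDT` -/
noncomputable def hdtDiag : Dual.D A ⥤ ((Dual2.IdealsIn T)ᵒᵖ ⥤ ModuleCat.{u + 1} A) :=
  linearYoneda A (Dual.D A) ⋙ (Functor.whiskeringLeft _ _ _).obj (qDT T).op

/-- `K ↦ colim_J Hom(A/J, K)` -/
noncomputable def hdt : Dual.D A ⥤ ModuleCat.{u + 1} A := hdtDiag T ⋙ colim

lemma HDT_eq (K : Dual.D A) (i : ℤ) : Dual2.HDT A T K i = (hdt T).obj (K⟦i⟧) := rfl

/-- the canonical map `Hom(A/J, X) → hdt X` -/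
noncomputable def tj (J : Ideal A) (hJ : PrimeSpectrum.zeroLocus (J : Set A) ⊆ T) (X : Dual.D A) :
    (Dual.inD A (A ⧸ J) ⟶ X) →ₗ[A] (hdt T).obj X :=
  cι ((hdtDiag T).obj X) (op (mkI T J hJ))

/-- the projection `A/J' → A/J` -/
noncomputable abbrev qPr {J' J : Ideal A} (h : J' ≤ J) : (A ⧸ J') →ₗ[A] (A ⧸ J) :=
  Submodule.mapQ J' J LinearMap.id h

variable {T}

lemma tj_surj {X : Dual.D A} (ξ : (hdt T).obj X) : ∃ J hJ x, tj T J hJ X x = ξ := by
  obtain ⟨j, y, hy⟩ := cι_surj (F := (hdtDiag T).obj X) ξ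
  exact ⟨j.unop.obj, j.unop.property, y, hy⟩

lemma tj_proj {X : Dual.D A} {J' J : Ideal A} (h : J' ≤ J)
    (hJ' : PrimeSpectrum.zeroLocus (J' : Set A) ⊆ T)
    (hJ : PrimeSpectrum.zeroLocus (J : Set A) ⊆ T) (x : Dual.inD A (A ⧸ J) ⟶ X) :
    tj T J' hJ' X (inDMap (qPr h) ≫ x) = tj T J hJ X x :=
  cι_map (F := (hdtDiag T).obj X) (homI T h hJ' hJ).op x

lemma tj_eq_zero_iff {X : Dual.D A} {J : Ideal A}
    (hJ : PrimeSpectrum.zeroLocus (J : Set A) ⊆ T) (x : Dual.inD A (A ⧸ J) ⟶ X) :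
    tj T J hJ X x = 0 ↔ ∃ (J' : Ideal A) (hJ' : PrimeSpectrum.zeroLocus (J' : Set A) ⊆ T)
      (h : J' ≤ J), inDMap (qPr h) ≫ x = 0 := by
  have h0 := cι_eq_zero_iff (F := (hdtDiag T).obj X) (i := op (mkI T J hJ)) x
  refine h0.trans ?_
  constructor
  · rintro ⟨k, a, h⟩
    exact ⟨k.unop.obj, k.unop.property, leOfHom a.unop.hom, h⟩
  · rintro ⟨J', hJ', h, h0⟩
    exact ⟨op (mkI T J' hJ'), (homI T h hJ' hJ).op, h0⟩

lemma hdt_map_tj {X Y : Dual.D A} (f : X ⟶ Y) {J : Ideal A}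
    (hJ : PrimeSpectrum.zeroLocus (J : Set A) ⊆ T) (x : Dual.inD A (A ⧸ J) ⟶ X) :
    ((hdt T).map f).hom (tj T J hJ X x) = tj T J hJ Y (x ≫ f) := by
  have h := colimit.ι_map ((hdtDiag T).map f) (op (mkI T J hJ))
  have h2 := congrArg (fun ψ => ψ.hom x) h
  exact h2

instance : (hdt T).PreservesZeroMorphisms where
  map_zero X Y := by
    ext ξ
    obtain ⟨J, hJ, x, rfl⟩ := tj_surj ξ
    rw [hdt_map_tj, comp_zero, map_zero]
    rfl

lemma hdt_exact (Tr : Triangle (Dual.D A)) (hT : Tr ∈ distTriang (Dual.D A))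
    (ξ : (hdt T).obj Tr.obj₂) (hξ : ((hdt T).map Tr.mor₂).hom ξ = 0) :
    ∃ ζ : (hdt T).obj Tr.obj₁, ((hdt T).map Tr.mor₁).hom ζ = ξ := by
  obtain ⟨J, hJ, y, rfl⟩ := tj_surj ξ
  rw [hdt_map_tj, tj_eq_zero_iff] at hξ
  obtain ⟨J', hJ', h, h0⟩ := hξ
  rw [← assoc] at h0
  obtain ⟨x, hx⟩ := Triangle.coyoneda_exact₂ Tr hT _ h0
  refine ⟨tj T J' hJ' Tr.obj₁ x, ?_⟩
  rw [hdt_map_tj, ← hx, tj_proj]

instance : (hdt T).IsHomological where
  exact Tr hT := by
    rw [ShortComplex.moduleCat_exact_iff]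
    intro ξ hξ
    exact hdt_exact Tr hT ξ hξ

/-- elements of `J` kill the image of `Hom(A/J, X)` -/
lemma smul_tj_eq_zero {X : Dual.D A} {J : Ideal A}
    (hJ : PrimeSpectrum.zeroLocus (J : Set A) ⊆ T) (a : A) (ha : a ∈ J)
    (x : Dual.inD A (A ⧸ J) ⟶ X) : a • tj T J hJ X x = 0 := by
  have h0 : a • (LinearMap.id : (A ⧸ J) →ₗ[A] (A ⧸ J)) = 0 := by
    apply LinearMap.ext
    intro y
    change a • y = 0
    obtain ⟨z, rfl⟩ := Ideal.Quotient.mk_surjective y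
    change (Ideal.Quotient.mk _ (a * z)) = 0
    rw [Ideal.Quotient.eq_zero_iff_mem]
    exact Ideal.mul_mem_right _ _ ha
  rw [← map_smul, ← inDMap_smul_id_comp, h0, inDMap_zero, zero_comp, map_zero]

end HDT

end Groth.Agent.H4.TL1
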