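import Mathlib
import Groth.Agent.H4.TL1
import Groth.Agent.H4.ProjAmp4

set_option autoImplicit false
universe u w
open CategoryTheory Category Limits Opposite Pretriangulated

namespace Groth.Agent.H4.TL2

attribute [local instance] HasDerivedCategory.standard

open DerivedCategory Groth.Agent.H4.LD3 Groth.Agent.H4.ProjAmp

variable {A : Type u} [CommRing A]

/-- `P ≃ H^0(P[0])` -/
noncomputable def sig (P : Type u) [AddCommGroup P] [Module A P] :
    P ≃ₗ[A] Dual.HD A (Dual.inD A P) 0 :=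
  ((singleFunctorCompHomologyFunctorIso (ModuleCat.{u} A) 0).app (ModuleCat.of A P)).symm.toLinearEquiv

lemma sig_naturality {P P' : Type u} [AddCommGroup P] [Module A P] [AddCommGroup P'] [Module A P']
    (g : P →ₗ[A] P') (x : P) :
    ((homologyFunctor (ModuleCat.{u} A) 0).map (inDMap g)).hom (sig P x) = sig P' (g x) := by
  have h := (singleFunctorCompHomologyFunctorIso (ModuleCat.{u} A) 0).inv.naturality (ModuleCat.ofHom g)
  have h2 := congrArg (fun ψ => ψ.hom x) h
  exact h2.symm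

/-- the comparison map `Hom_{D(A)}(P[0], K) → Hom_A(P, H^0 K)` -/
noncomputable def heartMap (K : Dual.D A) (P : Type u) [AddCommGroup P] [Module A P]
    (φ : Dual.inD A P ⟶ K) : P →ₗ[A] Dual.HD A K 0 :=
  ((homologyFunctor (ModuleCat.{u} A) 0).map φ).hom ∘ₗ (sig P).toLinearMap

lemma heartMap_apply (K : Dual.D A) (P : Type u) [AddCommGroup P] [Module A P]
    (φ : Dual.inD A P ⟶ K) (x : P) :
    heartMap K P φ x = ((homologyFunctor (ModuleCat.{u} A) 0).map φ).hom (sig P x) := rfl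

lemma heartMap_comp_left {K : Dual.D A} {P P' : Type u} [AddCommGroup P] [Module A P]
    [AddCommGroup P'] [Module A P'] (y : P' →ₗ[A] P) (φ : Dual.inD A P ⟶ K) :
    heartMap K P' (inDMap y ≫ φ) = heartMap K P φ ∘ₗ y := by
  ext x
  rw [heartMap_apply, LinearMap.comp_apply, heartMap_apply, Functor.map_comp, ModuleCat.hom_comp,
    LinearMap.comp_apply, sig_naturality]

lemma heartMap_comp_right {K K' : Dual.D A} {P : Type u} [AddCommGroup P] [Module A P]
    (φ : Dual.inD A P ⟶ K) (g : K ⟶ K') :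
    heartMap K' P (φ ≫ g) =
      ((homologyFunctor (ModuleCat.{u} A) 0).map g).hom ∘ₗ heartMap K P φ := by
  ext x
  rw [heartMap_apply, LinearMap.comp_apply, heartMap_apply, Functor.map_comp, ModuleCat.hom_comp,
    LinearMap.comp_apply]

lemma heartMap_zero (K : Dual.D A) (P : Type u) [AddCommGroup P] [Module A P] :
    heartMap K P 0 = 0 := by
  ext x
  rw [heartMap_apply, Functor.map_zero]
  rfl

/-- the case of a module -/
lemma heartMap_inD_bijective (Y : ModuleCat.{u} A) (P : Type u) [AddCommGroup P] [Module A P] :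
    Function.Bijective (heartMap ((singleFunctor (ModuleCat.{u} A) 0).obj Y) P) := by
  let τ : Dual.HD A ((singleFunctor (ModuleCat.{u} A) 0).obj Y) 0 ≃ₗ[A] Y :=
    ((singleFunctorCompHomologyFunctorIso (ModuleCat.{u} A) 0).app Y).toLinearEquiv
  have key : ∀ g : ModuleCat.of A P ⟶ Y,
      heartMap ((singleFunctor (ModuleCat.{u} A) 0).obj Y) P
        ((singleFunctor (ModuleCat.{u} A) 0).map g) = τ.symm.toLinearMap ∘ₗ g.hom := by
    intro g
    ext x
    have h := (singleFunctorCompHomologyFunctorIso (ModuleCat.{u} A) 0).inv.naturality g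
    have h2 := congrArg (fun ψ => ψ.hom x) h
    exact h2.symm
  constructor
  · intro φ φ' h
    obtain ⟨g, rfl⟩ := (singleFunctor (ModuleCat.{u} A) 0).map_surjective φ
    obtain ⟨g', rfl⟩ := (singleFunctor (ModuleCat.{u} A) 0).map_surjective φ'
    rw [key, key] at h
    have h3 : g.hom = g'.hom := by
      ext x
      have := congrArg (fun ψ => τ (ψ x)) h
      simpa using this
    rw [ModuleCat.hom_ext h3]
  · intro ψ
    refine ⟨(singleFunctor (ModuleCat.{u} A) 0).map (ModuleCat.ofHom (τ.toLinearMap ∘ₗ ψ)), ?_⟩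
    rw [key]
    ext x
    simp

lemma bijective_postcomp_linearEquiv {P X Y : Type*} [AddCommGroup P] [Module A P]
    [AddCommGroup X] [Module A X] [AddCommGroup Y] [Module A Y] (ε : X ≃ₗ[A] Y) :
    Function.Bijective (fun ψ : P →ₗ[A] X => ε.toLinearMap ∘ₗ ψ) := by
  constructor
  · intro ψ ψ' hh
    ext x
    have := congrArg (fun χ => ε.symm (χ x)) hh
    simpa using this
  · intro χ
    refine ⟨ε.symm.toLinearMap ∘ₗ χ, ?_⟩
    ext x
    simp

/-- transport along an isomorphism -/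
lemma heartMap_bijective_of_iso {K K' : Dual.D A} (e : K ≅ K') (P : Type u) [AddCommGroup P]
    [Module A P] (h : Function.Bijective (heartMap K P)) : Function.Bijective (heartMap K' P) := by
  let ε : Dual.HD A K 0 ≃ₗ[A] Dual.HD A K' 0 :=
    ((homologyFunctor (ModuleCat.{u} A) 0).mapIso e).toLinearEquiv
  have key : heartMap K' P = (fun ψ => ε.toLinearMap ∘ₗ ψ) ∘ heartMap K P ∘ (fun φ => φ ≫ e.inv) := by
    funext φ
    change _ = ε.toLinearMap ∘ₗ heartMap K P (φ ≫ e.inv)
    have h1 := heartMap_comp_right (φ ≫ e.inv) e.hom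
    rw [assoc, e.inv_hom_id, comp_id] at h1
    exact h1
  rw [key]
  refine Function.Bijective.comp (bijective_postcomp_linearEquiv ε) (h.comp ?_)
  constructor
  · intro φ φ' hh
    exact (cancel_mono e.inv).1 hh
  · intro φ
    exact ⟨φ ≫ e.hom, by simp⟩

lemma heartMap_bijective_aux {K₀ K K₁ : Dual.D A} (u : K₀ ⟶ K) (v : K ⟶ K₁)
    (w : K₁ ⟶ K₀⟦(1 : ℤ)⟧) (hT : Triangle.mk u v w ∈ distTriang (Dual.D A))
    (hK : K.IsGE 0) (h1 : K₀.IsLE 0) (h3 : K₁.IsGE 1)
    (P : Type u) [AddCommGroup P] [Module A P] :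
    Function.Bijective (heartMap K P) := by
  -- `K₀ ∈ D^{≥ 0}`
  haveI h1' : K₀.IsGE 0 := by
    rw [isGE_iff]
    intro i hi
    have ex := HomologySequence.exact₁ _ hT (i - 1) i (by omega)
    refine ex.isZero_X₂ ?_ ?_
    · exact (isZero_of_isGE K₁ 1 (i - 1) (by omega)).eq_of_src _ _
    · exact (isZero_of_isGE K 0 i hi).eq_of_tgt _ _
  obtain ⟨Y, ⟨e⟩⟩ := exists_iso_singleFunctor_obj_of_isGE_of_isLE K₀ 0
  have hb1 : Function.Bijective (heartMap K₀ P) :=
    heartMap_bijective_of_iso e.symm P (heartMap_inD_bijective Y P)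
  -- `H^0(K₀) ≅ H^0(K)`
  haveI hiso : IsIso ((homologyFunctor (ModuleCat.{u} A) 0).map u) := by
    haveI : Mono ((homologyFunctor (ModuleCat.{u} A) 0).map u) := by
      have := (HomologySequence.mono_homologyMap_mor₁_iff _ hT (-1) 0 (by omega)).2
        ((isZero_of_isGE K₁ 1 (-1) (by omega)).eq_of_src _ _)
      exact this
    haveI : Epi ((homologyFunctor (ModuleCat.{u} A) 0).map u) := by
      have := (HomologySequence.epi_homologyMap_mor₁_iff _ hT 0).2
        ((isZero_of_isGE K₁ 1 0 (by omega)).eq_of_tgt _ _)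
      exact this
    exact isIso_of_mono_of_epi _
  let ε : Dual.HD A K₀ 0 ≃ₗ[A] Dual.HD A K 0 :=
    (asIso ((homologyFunctor (ModuleCat.{u} A) 0).map u)).toLinearEquiv
  -- `Hom(P, K₀) ≅ Hom(P, K)`
  haveI : (Dual.inD A P).IsLE 0 :=
    inferInstanceAs (((singleFunctor (ModuleCat.{u} A) 0).obj _).IsLE 0)
  have hb2 : Function.Bijective (fun φ : Dual.inD A P ⟶ K₀ => φ ≫ u) := by
    constructor
    · intro φ φ' hh
      change φ ≫ u = φ' ≫ u at hh
      have h0 : (φ - φ') ≫ u = 0 := by rw [Preadditive.sub_comp, hh, sub_self]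
      have hT' := inv_rot_of_distTriang _ hT
      obtain ⟨g, hg⟩ := Triangle.coyoneda_exact₂ _ hT' (φ - φ') h0
      change Dual.inD A P ⟶ K₁⟦(-1 : ℤ)⟧ at g
      haveI : (K₁⟦(-1 : ℤ)⟧).IsGE 2 := (tR A).isGE_shift K₁ 1 (-1) 2 (by omega)
      have hg0 : g = 0 := (tR A).zero g 0 2 (by omega)
      subst hg0
      exact sub_eq_zero.1 (hg.trans zero_comp)
    · intro φ
      have h0 : φ ≫ v = 0 := (tR A).zero _ 0 1 (by omega)
      obtain ⟨g, hg⟩ := Triangle.coyoneda_exact₂ _ hT φ h0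
      exact ⟨g, hg.symm⟩
  have key : heartMap K P = (fun ψ => ε.toLinearMap ∘ₗ ψ) ∘ heartMap K₀ P ∘
      (Equiv.ofBijective _ hb2).symm := by
    funext φ
    obtain ⟨φ₀, rfl⟩ := hb2.2 φ
    change heartMap K P (φ₀ ≫ u) = ε.toLinearMap ∘ₗ heartMap K₀ P ((Equiv.ofBijective _ hb2).symm
      ((Equiv.ofBijective _ hb2) φ₀))
    rw [Equiv.symm_apply_apply, heartMap_comp_right]
    rfl
  rw [key]
  exact Function.Bijective.comp (bijective_postcomp_linearEquiv ε) (hb1.comp (Equiv.bijective _))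

/-- **Heart lemma**: for `K ∈ D^{≥0}`, `Hom_{D(A)}(P[0], K) = Hom_A(P, H^0 K)`. -/
theorem heartMap_bijective (K : Dual.D A) [hK : K.IsGE 0] (P : Type u) [AddCommGroup P]
    [Module A P] : Function.Bijective (heartMap K P) := by
  let Tr := ((tR A).triangleLTGE 1).obj K
  have hT : Tr ∈ distTriang (Dual.D A) := (tR A).triangleLTGE_distinguished 1 K
  have h3 : Tr.obj₃.IsGE 1 := inferInstanceAs ((tR A).IsGE Tr.obj₃ 1)
  have h1 : Tr.obj₁.IsLE 0 :=
    inferInstanceAs ((tR A).IsLE (((tR A).truncLT 1).obj K) (1 - 1))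
  exact heartMap_bijective_aux Tr.mor₁ Tr.mor₂ Tr.mor₃ hT hK h1 h3 P

end Groth.Agent.H4.TL2
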