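import Mathlib
import Groth.Agent.H4.TL2
import Groth.Agent.H4.DZ1
import Groth.Agent.H4.DZ4
import Groth.Agent.H4.Rob2

set_option autoImplicit false
universe u w
open CategoryTheory Category Limits Opposite Pretriangulated

namespace Groth.Agent.H4.TL3

attribute [local instance] HasDerivedCategory.standard

open DerivedCategory Groth.Agent.H4.LD3 Groth.Agent.H4.ProjAmp Groth.Agent.H4.TL1 Groth.Agent.H4.TL2

variable {A : Type u} [CommRing A] (T : Set (PrimeSpectrum A))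

/-- the submodule of sections with support in `T` -/
def gamT (Y : Type*) [AddCommGroup Y] [Module A Y] : Submodule A Y where
  carrier := {y | ∃ J : Ideal A, PrimeSpectrum.zeroLocus (J : Set A) ⊆ T ∧ ∀ a ∈ J, a • y = 0}
  add_mem' := by
    rintro y y' ⟨J, hJ, h⟩ ⟨J', hJ', h'⟩
    refine ⟨J ⊓ J', zeroLocus_inf_subset T hJ hJ', fun a ha => ?_⟩
    rw [smul_add, h a ha.1, h' a ha.2, add_zero]
  zero_mem' := ⟨⊤, by simp, fun a _ => smul_zero a⟩
  smul_mem' := by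
    rintro c y ⟨J, hJ, h⟩
    exact ⟨J, hJ, fun a ha => by rw [smul_comm, h a ha, smul_zero]⟩

variable {T}

lemma mem_gamT {Y : Type*} [AddCommGroup Y] [Module A Y] (y : Y) :
    y ∈ gamT T Y ↔ ∃ J : Ideal A, PrimeSpectrum.zeroLocus (J : Set A) ⊆ T ∧ ∀ a ∈ J, a • y = 0 :=
  Iff.rfl

/-- a single ideal kills a finitely generated submodule of `Γ_T` -/
lemma exists_ideal_kills {Y : Type*} [AddCommGroup Y] [Module A Y] (N : Submodule A Y)
    (hN : N.FG) (hle : N ≤ gamT T Y) :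
    ∃ J : Ideal A, PrimeSpectrum.zeroLocus (J : Set A) ⊆ T ∧ ∀ a ∈ J, ∀ y ∈ N, a • y = 0 := by
  revert hle
  refine Submodule.fg_induction (motive := fun N _ => N ≤ gamT T Y → ∃ J : Ideal A,
    PrimeSpectrum.zeroLocus (J : Set A) ⊆ T ∧ ∀ a ∈ J, ∀ y ∈ N, a • y = 0) ?_ ?_ N hN
  · intro x hx
    obtain ⟨J, hJ, h⟩ := hx (Submodule.mem_span_singleton_self x)
    refine ⟨J, hJ, fun a ha y hy => ?_⟩
    obtain ⟨c, rfl⟩ := Submodule.mem_span_singleton.1 hy
    rw [smul_comm, h a ha, smul_zero]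
  · intro N₁ N₂ _ _ h1 h2 hle
    obtain ⟨J₁, hJ₁, k1⟩ := h1 (le_sup_left.trans hle)
    obtain ⟨J₂, hJ₂, k2⟩ := h2 (le_sup_right.trans hle)
    refine ⟨J₁ ⊓ J₂, zeroLocus_inf_subset T hJ₁ hJ₂, fun a ha y hy => ?_⟩
    obtain ⟨y₁, hy₁, y₂, hy₂, rfl⟩ := Submodule.mem_sup.1 hy
    rw [smul_add, k1 a ha.1 y₁ hy₁, k2 a ha.2 y₂ hy₂, add_zero]

lemma exists_ideal_kills_gamT [IsNoetherianRing A] (Y : Type*) [AddCommGroup Y] [Module A Y]
    [Module.Finite A Y] :
    ∃ J : Ideal A, PrimeSpectrum.zeroLocus (J : Set A) ⊆ T ∧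
      ∀ a ∈ J, ∀ y ∈ gamT T Y, a • y = 0 := by
  haveI : IsNoetherian A Y := isNoetherian_of_isNoetherianRing_of_finite A Y
  exact exists_ideal_kills (gamT T Y) (IsNoetherian.noetherian _) le_rfl

/-- vanishing below the bound -/
lemma subsingleton_hdt_of_isGE (X : Dual.D A) [X.IsGE 1] : Subsingleton ((hdt T).obj X) := by
  refine ⟨fun ξ ζ => ?_⟩
  have hz : ∀ ξ : (hdt T).obj X, ξ = 0 := by
    intro ξ
    obtain ⟨J, hJ, x, rfl⟩ := tj_surj ξ
    haveI : (Dual.inD A (A ⧸ J)).IsLE 0 :=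
      inferInstanceAs (((singleFunctor (ModuleCat.{u} A) 0).obj _).IsLE 0)
    have : x = 0 := (tR A).zero x 0 1 (by omega)
    rw [this, map_zero]
  rw [hz ξ, hz ζ]

/-- the image of `1` under `heartMap` lies in `Γ_T` -/
lemma heartMap_one_mem_gamT {K : Dual.D A} {J : Ideal A}
    (hJ : PrimeSpectrum.zeroLocus (J : Set A) ⊆ T) (x : Dual.inD A (A ⧸ J) ⟶ K) :
    heartMap K (A ⧸ J) x 1 ∈ gamT T (Dual.HD A K 0) := by
  refine ⟨J, hJ, fun a ha => ?_⟩
  rw [← map_smul]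
  have : a • (1 : A ⧸ J) = 0 := by
    change (Ideal.Quotient.mk J a) * 1 = 0
    rw [mul_one, Ideal.Quotient.eq_zero_iff_mem]
    exact ha
  rw [this, map_zero]

/-- maps out of a cyclic module are determined by the image of `1` -/
lemma linearMap_quot_ext {J : Ideal A} {Y : Type*} [AddCommGroup Y] [Module A Y]
    (f g : (A ⧸ J) →ₗ[A] Y) (h : f 1 = g 1) : f = g := by
  apply LinearMap.ext
  intro x
  obtain ⟨a, rfl⟩ := Ideal.Quotient.mk_surjective x
  have : (Ideal.Quotient.mk J a) = a • (1 : A ⧸ J) := by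
    change _ = (Ideal.Quotient.mk J a) * 1
    rw [mul_one]
  rw [this, map_smul, map_smul, h]

lemma qPr_one {J' J : Ideal A} (h : J' ≤ J) : qPr h (1 : A ⧸ J') = 1 := rfl

/-- the map `A/J → Y`, `1 ↦ y` for `y` killed by `J` -/
noncomputable def quotLift (J : Ideal A) {Y : Type*} [AddCommGroup Y] [Module A Y] (y : Y)
    (h : ∀ a ∈ J, a • y = 0) : (A ⧸ J) →ₗ[A] Y :=
  Submodule.liftQ J (LinearMap.toSpanSingleton A Y y) (fun a ha => by
    rw [LinearMap.mem_ker, LinearMap.toSpanSingleton_apply]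
    exact h a ha)

lemma quotLift_one (J : Ideal A) {Y : Type*} [AddCommGroup Y] [Module A Y] (y : Y)
    (h : ∀ a ∈ J, a • y = 0) : quotLift J y h 1 = y := by
  change Submodule.liftQ J (LinearMap.toSpanSingleton A Y y) _ (Submodule.Quotient.mk 1) = y
  rw [Submodule.liftQ_apply, LinearMap.toSpanSingleton_apply, one_smul]

/-- **Key**: elements of `H^0_T(K)` with the same value at `1` agree. -/
lemma tj_eq_of_heartMap_one_eq (K : Dual.D A) [K.IsGE 0] {J J' : Ideal A}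
    (hJ : PrimeSpectrum.zeroLocus (J : Set A) ⊆ T) (hJ' : PrimeSpectrum.zeroLocus (J' : Set A) ⊆ T)
    (x : Dual.inD A (A ⧸ J) ⟶ K) (x' : Dual.inD A (A ⧸ J') ⟶ K)
    (h : heartMap K (A ⧸ J) x 1 = heartMap K (A ⧸ J') x' 1) :
    tj T J hJ K x = tj T J' hJ' K x' := by
  have h1 : inDMap (qPr (inf_le_left : J ⊓ J' ≤ J)) ≫ x =
      inDMap (qPr (inf_le_right : J ⊓ J' ≤ J')) ≫ x' := by
    apply (heartMap_bijective K (A ⧸ (J ⊓ J'))).1
    rw [heartMap_comp_left, heartMap_comp_left]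
    apply linearMap_quot_ext
    rw [LinearMap.comp_apply, LinearMap.comp_apply, qPr_one, qPr_one, h]
  rw [← tj_proj (inf_le_left : J ⊓ J' ≤ J) (zeroLocus_inf_subset T hJ hJ') hJ x,
    ← tj_proj (inf_le_right : J ⊓ J' ≤ J') (zeroLocus_inf_subset T hJ hJ') hJ' x', h1]

section Noeth

variable [IsNoetherianRing A]

/-- **`H^0_T(K)` is finite** for `K ∈ D^{≥0}` with finite cohomology. -/
theorem finite_hdt (K : Dual.D A) [K.IsGE 0] (hfin : ∀ i : ℤ, Module.Finite A (Dual.HD A K i)) :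
    Module.Finite A ((hdt T).obj K) := by
  haveI := hfin 0
  obtain ⟨Js, hJs, kill⟩ := exists_ideal_kills_gamT (T := T) (Dual.HD A K 0)
  haveI : Module.Finite A (Dual.inD A (A ⧸ Js) ⟶ K) :=
    Groth.Agent.H4.DZ1.finite_hom_of_iso ((shiftFunctorZero (Dual.D A) ℤ).app _) K
      (Groth.Agent.H4.DZ1.FH_module K hfin 0 (A ⧸ Js) 0)
  refine Module.Finite.of_surjective (tj T Js hJs K) ?_
  intro ξ
  obtain ⟨J, hJ, x, rfl⟩ := tj_surj ξ
  have hy := heartMap_one_mem_gamT hJ x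
  obtain ⟨xs, hxs⟩ := (heartMap_bijective K (A ⧸ Js)).2
    (quotLift Js (heartMap K (A ⧸ J) x 1) (fun a ha => kill a ha _ hy))
  refine ⟨xs, ?_⟩
  apply tj_eq_of_heartMap_one_eq
  rw [hxs, quotLift_one]

omit [IsNoetherianRing A] in
/-- if `H^0_T(K) = 0` then `H^0(K)` has no sections supported in `T` -/
theorem gamT_eq_bot_of_subsingleton_hdt (K : Dual.D A) [K.IsGE 0]
    (h : Subsingleton ((hdt T).obj K)) : gamT T (Dual.HD A K 0) = ⊥ := by
  rw [eq_bot_iff]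
  rintro y ⟨J, hJ, hy⟩
  obtain ⟨x, hx⟩ := (heartMap_bijective K (A ⧸ J)).2 (quotLift J y hy)
  have h0 : tj T J hJ K x = 0 := Subsingleton.elim _ _
  rw [tj_eq_zero_iff] at h0
  obtain ⟨J', hJ', hle, h1⟩ := h0
  have h2 := congrArg (fun φ => heartMap K (A ⧸ J') φ 1) h1
  simp only [heartMap_comp_left, heartMap_zero, LinearMap.comp_apply, LinearMap.zero_apply,
    qPr_one, hx, quotLift_one] at h2
  rw [Submodule.mem_bot]
  exact h2

omit [IsNoetherianRing A] in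
/-- surjectivity on `H^0_T` of a map realising a submodule containing `Γ_T` -/
theorem hdt_map_surjective (K : Dual.D A) [K.IsGE 0] (N : Submodule A (Dual.HD A K 0))
    (hN : gamT T (Dual.HD A K 0) ≤ N) (ι : Dual.inD A N ⟶ K)
    (hι : heartMap K N ι = N.subtype) : Function.Surjective ((hdt T).map ι).hom := by
  intro ξ
  obtain ⟨J, hJ, x, rfl⟩ := tj_surj ξ
  have hy := hN (heartMap_one_mem_gamT hJ x)
  obtain ⟨J₂, hJ₂, hkill⟩ := heartMap_one_mem_gamT hJ x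
  have hkill' : ∀ a ∈ J, a • (⟨heartMap K (A ⧸ J) x 1, hy⟩ : N) = 0 := by
    intro a ha
    apply Subtype.ext
    change a • heartMap K (A ⧸ J) x 1 = 0
    rw [← map_smul]
    have : a • (1 : A ⧸ J) = 0 := by
      change (Ideal.Quotient.mk J a) * 1 = 0
      rw [mul_one, Ideal.Quotient.eq_zero_iff_mem]
      exact ha
    rw [this, map_zero]
  let ψ : (A ⧸ J) →ₗ[A] N := quotLift J ⟨heartMap K (A ⧸ J) x 1, hy⟩ hkill'
  refine ⟨tj T J hJ _ (inDMap ψ), ?_⟩
  rw [hdt_map_tj]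
  apply tj_eq_of_heartMap_one_eq
  rw [heartMap_comp_left, hι, LinearMap.comp_apply, quotLift_one]
  rfl

/-- higher local cohomology of a module supported in `T` vanishes -/
theorem subsingleton_hdt_inD_shift (N : Type u) [AddCommGroup N] [Module A N] (J₀ : Ideal A)
    (hJ₀ : PrimeSpectrum.zeroLocus (J₀ : Set A) ⊆ T) (hN : ∀ a ∈ J₀, ∀ y : N, a • y = 0)
    (j : ℤ) (hj0 : j ≠ 0) : Subsingleton ((hdt T).obj ((Dual.inD A N)⟦j⟧)) := by
  rcases lt_or_gt_of_ne hj0 with hneg | hpos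
  · haveI : (Dual.inD A N).IsGE 0 :=
      inferInstanceAs (((singleFunctor (ModuleCat.{u} A) 0).obj _).IsGE 0)
    haveI : ((Dual.inD A N)⟦j⟧).IsGE (-j) := (tR A).isGE_shift (Dual.inD A N) 0 j (-j) (by omega)
    haveI : ((Dual.inD A N)⟦j⟧).IsGE 1 := (tR A).isGE_of_ge _ 1 (-j) (by omega)
    exact subsingleton_hdt_of_isGE _
  · refine ⟨fun ξ ζ => ?_⟩
    suffices hz : ∀ ξ : (hdt T).obj ((Dual.inD A N)⟦j⟧), ξ = 0 by rw [hz ξ, hz ζ]
    intro ξ
    obtain ⟨J, hJ, x, rfl⟩ := tj_surj ξ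
    set J₁ := J ⊓ J₀ with hJ₁def
    have hJ₁ : PrimeSpectrum.zeroLocus (J₁ : Set A) ⊆ T := zeroLocus_inf_subset T hJ hJ₀
    have hK : ∀ i : ℤ, LocCoh.IsPowerTorsion J₁ (Dual.HD A (Dual.inD A N) i) := by
      intro i y
      by_cases hi : i = 0
      · subst hi
        obtain ⟨e⟩ := Groth.Agent.H4.DZ4.nonempty_HD_inD_zero (A := A) N
        refine ⟨1, fun a ha => ?_⟩
        rw [pow_one] at ha
        apply e.injective
        rw [map_smul, hN a ha.2, map_zero]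
      · haveI := Groth.Agent.H4.DZ4.subsingleton_HD_inD (A := A) N i hi
        exact ⟨0, fun a _ => by rw [Subsingleton.elim y 0, smul_zero]⟩
    obtain ⟨e⟩ := Groth.Agent.H4.Rob2.nonempty_hdi_equiv_HD J₁ (Dual.inD A N) hK j
    haveI := Groth.Agent.H4.DZ4.subsingleton_HD_inD (A := A) N j hj0
    haveI : Subsingleton ((hdi J₁).obj ((Dual.inD A N)⟦j⟧)) := e.toEquiv.subsingleton
    have h1 : J₁ ^ 1 ≤ J := by rw [pow_one]; exact inf_le_left
    have h0 : hj J₁ 1 _ (inDMap (qPr h1) ≫ x) = 0 := Subsingleton.elim _ _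
    rw [hj_eq_zero_iff] at h0
    obtain ⟨k, hk, h2⟩ := h0
    have h3 : J₁ ^ k ≤ J := (Ideal.pow_le_pow_right hk).trans h1
    have h4 : inDMap (qPr h3) ≫ x = 0 := by
      have : qPr h3 = qPr h1 ∘ₗ qProj J₁ hk := by
        apply linearMap_quot_ext
        rfl
      rw [this, inDMap_comp, assoc, h2]
    have hJk : PrimeSpectrum.zeroLocus ((J₁ ^ k : Ideal A) : Set A) ⊆ T := by
      rw [PrimeSpectrum.zeroLocus_pow _ (by omega : k ≠ 0)]
      exact hJ₁
    rw [← tj_proj h3 hJk hJ x, h4, map_zero]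

end Noeth

end Groth.Agent.H4.TL3
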