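import Mathlib
import Groth.Agent.H4.TL3
import Groth.Agent.H4.LD2
import Groth.Agent.H4.FB1
import Groth.Agent.H4.US25
import Groth.Agent.Lib.Helper6.LCArtinian

set_option autoImplicit false
universe u w
open CategoryTheory Category Limits Opposite Pretriangulated

namespace Groth.Agent.H4.TL4

attribute [local instance] HasDerivedCategory.standard

open DerivedCategory Groth.Agent.H4.LD3 Groth.Agent.H4.ProjAmp Groth.Agent.H4.TL1 Groth.Agent.H4.TL2
  Groth.Agent.H4.TL3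

variable {A : Type u} [CommRing A] {T : Set (PrimeSpectrum A)}

/-- the ideal `J` kills the module `X` -/
def Kills (J : Ideal A) (X : Type*) [AddCommGroup X] [Module A X] : Prop :=
  ∀ a ∈ J, ∀ ξ : X, a • ξ = 0

lemma Kills.of_equiv {J : Ideal A} {X Y : Type*} [AddCommGroup X] [Module A X] [AddCommGroup Y]
    [Module A Y] (e : X ≃ₗ[A] Y) (h : Kills J X) : Kills J Y := by
  intro a ha ξ
  rw [← e.apply_symm_apply ξ, ← map_smul, h a ha, map_zero]

lemma Kills.of_subsingleton (J : Ideal A) (X : Type*) [AddCommGroup X] [Module A X]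
    [Subsingleton X] : Kills J X := fun _ _ _ => Subsingleton.elim _ _

lemma Kills.mul {J₁ J₃ : Ideal A} {X : Type*} [AddCommGroup X] [Module A X]
    (h : ∀ a ∈ J₁, ∀ b ∈ J₃, ∀ ξ : X, (a * b) • ξ = 0) : Kills (J₁ * J₃) X := by
  intro c hc ξ
  refine Submodule.mul_induction_on hc (fun a ha b hb => h a ha b hb ξ) ?_
  intro x y hx hy
  rw [add_smul, hx, hy, add_zero]

/-- exactness of `H^i_T` along distinguished triangles, elementwise -/
lemma Ht_exact (i : ℤ) (Tr : Triangle (Dual.D A)) (hT : Tr ∈ distTriang (Dual.D A))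
    (ξ : (hdt T).obj (Tr.obj₂⟦i⟧)) (h : ((hdt T).map (Tr.mor₂⟦i⟧')).hom ξ = 0) :
    ∃ ζ : (hdt T).obj (Tr.obj₁⟦i⟧), ((hdt T).map (Tr.mor₁⟦i⟧')).hom ζ = ξ := by
  haveI := Groth.Agent.H4.LD2.isHomological_shift_comp (hdt T) i
  have ex := (shiftFunctor (Dual.D A) i ⋙ hdt T).map_distinguished_exact Tr hT
  rw [ShortComplex.moduleCat_exact_iff] at ex
  exact ex ξ h

lemma hdt_map_smul {X Y : Dual.D A} (a : A) (φ : X ⟶ Y) (ξ : (hdt T).obj X) :
    ((hdt T).map (a • φ)).hom ξ = a • ((hdt T).map φ).hom ξ := by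
  obtain ⟨J, hJ, x, rfl⟩ := tj_surj ξ
  rw [hdt_map_tj, hdt_map_tj, Linear.comp_smul, map_smul]

lemma hdt_map_smul_id {X : Dual.D A} (a : A) (ξ : (hdt T).obj X) :
    ((hdt T).map (a • 𝟙 X)).hom ξ = a • ξ := by
  rw [hdt_map_smul, CategoryTheory.Functor.map_id]
  rfl

lemma kills_obj₂ (i : ℤ) (Tr : Triangle (Dual.D A)) (hT : Tr ∈ distTriang (Dual.D A))
    {J₁ J₃ : Ideal A} (h1 : Kills J₁ ((hdt T).obj (Tr.obj₁⟦i⟧)))
    (h3 : Kills J₃ ((hdt T).obj (Tr.obj₃⟦i⟧))) :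
    Kills (J₁ * J₃) ((hdt T).obj (Tr.obj₂⟦i⟧)) := by
  apply Kills.mul
  intro a ha b hb ξ
  have h0 : ((hdt T).map (Tr.mor₂⟦i⟧')).hom (b • ξ) = 0 := by
    rw [map_smul, h3 b hb]
  obtain ⟨ζ, hζ⟩ := Ht_exact i Tr hT (b • ξ) h0
  rw [mul_smul, ← hζ, ← map_smul, h1 a ha, map_zero]

lemma finite_obj₂ [IsNoetherianRing A] (i : ℤ) (Tr : Triangle (Dual.D A))
    (hT : Tr ∈ distTriang (Dual.D A))
    (h1 : Module.Finite A ((hdt T).obj (Tr.obj₁⟦i⟧)))
    (h3 : Module.Finite A ((hdt T).obj (Tr.obj₃⟦i⟧))) :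
    Module.Finite A ((hdt T).obj (Tr.obj₂⟦i⟧)) :=
  Groth.Agent.H4.DZ1.finite_of_exact ((hdt T).map (Tr.mor₁⟦i⟧')).hom
    ((hdt T).map (Tr.mor₂⟦i⟧')).hom (fun y hy => Ht_exact i Tr hT y hy)

/-- `H^i_T(X[1]) ≅ H^{i+1}_T(X)` -/
noncomputable def HtShiftEquiv (X : Dual.D A) (i j : ℤ) (h : 1 + i = j) :
    (hdt T).obj ((X⟦(1 : ℤ)⟧)⟦i⟧) ≃ₗ[A] (hdt T).obj (X⟦j⟧) :=
  ((hdt T).mapIso ((shiftFunctorAdd' (Dual.D A) (1 : ℤ) i j h).app X).symm).toLinearEquiv

/-- `H^0_T(X) ≅ H_T(X[0])` -/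
noncomputable def HtZeroEquiv (X : Dual.D A) :
    (hdt T).obj (X⟦(0 : ℤ)⟧) ≃ₗ[A] (hdt T).obj X :=
  ((hdt T).mapIso ((shiftFunctorZero (Dual.D A) ℤ).app X)).toLinearEquiv

section Noeth

variable [IsNoetherianRing A]

/-- killing `Γ_T(H^0 K)` -/
theorem exists_torsionfree_cone (K : Dual.D A) [K.IsGE 0]
    (hfin : ∀ i : ℤ, Module.Finite A (Dual.HD A K i)) :
    ∃ (K' : Dual.D A), K'.IsGE 0 ∧ (∀ i : ℤ, Module.Finite A (Dual.HD A K' i)) ∧
      Subsingleton ((hdt T).obj K') ∧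
      (∀ (i : ℤ), 1 ≤ i → ∀ J : Ideal A, Kills J ((hdt T).obj (K⟦i⟧)) →
        Kills J ((hdt T).obj (K'⟦i⟧))) ∧
      (∀ (i : ℤ), 1 ≤ i → Module.Finite A ((hdt T).obj (K'⟦i⟧)) →
        Module.Finite A ((hdt T).obj (K⟦i⟧))) := by
  haveI := hfin 0
  haveI : IsNoetherian A (Dual.HD A K 0) := isNoetherian_of_isNoetherianRing_of_finite A _
  set N : Submodule A (Dual.HD A K 0) := gamT T (Dual.HD A K 0) with hN
  obtain ⟨J₀, hJ₀, kill⟩ := exists_ideal_kills_gamT (T := T) (Dual.HD A K 0)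
  have killN : ∀ a ∈ J₀, ∀ y : N, a • y = 0 := fun a ha y =>
    Subtype.ext (kill a ha y.1 y.2)
  obtain ⟨ι, hι⟩ := (heartMap_bijective K N).2 N.subtype
  obtain ⟨K', b, c, hT⟩ := distinguished_cocone_triangle ι
  -- vanishing of `H_T` on shifts of `N`
  have hNz : ∀ j : ℤ, j ≠ 0 → Subsingleton ((hdt T).obj ((Dual.inD A N)⟦j⟧)) :=
    fun j hj => subsingleton_hdt_inD_shift N J₀ hJ₀ killN j hj
  have hNz1 : ∀ i : ℤ, 0 ≤ i → Subsingleton ((hdt T).obj (((Dual.inD A N)⟦(1 : ℤ)⟧)⟦i⟧)) := by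
    intro i hi
    haveI := hNz (1 + i) (by omega)
    exact (HtShiftEquiv (T := T) (Dual.inD A N) i (1 + i) rfl).toEquiv.subsingleton
  -- `H^0(ι)` is injective
  have hmono : Mono ((homologyFunctor (ModuleCat.{u} A) 0).map ι) := by
    rw [ModuleCat.mono_iff_injective]
    intro x y hxy
    have h1 : ∀ z, ((homologyFunctor (ModuleCat.{u} A) 0).map ι).hom z =
        N.subtype ((sig N).symm z) := by
      intro z
      rw [← hι, heartMap_apply, LinearEquiv.apply_symm_apply]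
    have h2 := (h1 x).symm.trans (hxy.trans (h1 y))
    exact (sig N).symm.injective (Subtype.ext h2)
  have hK'ge : K'.IsGE 0 := by
    rw [isGE_iff]
    intro i hi
    have ex := HomologySequence.exact₃ _ hT i (i + 1) rfl
    refine ex.isZero_X₂ ?_ ?_
    · exact (isZero_of_isGE K 0 i hi).eq_of_src _ _
    · by_cases hi1 : i + 1 = 0
      · have hi' : i = -1 := by omega
        subst hi'
        have hδ := HomologySequence.δ_comp _ hT (-1) 0 (by omega)
        exact (cancel_mono ((homologyFunctor (ModuleCat.{u} A) 0).map ι)).1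
          (hδ.trans zero_comp.symm)
      · haveI := Groth.Agent.H4.DZ4.subsingleton_HD_inD (A := A) N (i + 1) hi1
        have hz : IsZero ((homologyFunctor (ModuleCat.{u} A) (i + 1)).obj (Dual.inD A N)) :=
          ModuleCat.isZero_of_subsingleton _
        exact hz.eq_of_tgt _ _
  have hK'fin : ∀ i : ℤ, Module.Finite A (Dual.HD A K' i) :=
    fun i => Groth.Agent.H4.US25.finite_HD_obj₃ _ hT
      (fun j => Groth.Agent.H4.DZ4.finite_HD_inD (A := A) N j) hfin i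
  refine ⟨K', hK'ge, hK'fin, ?_, ?_, ?_⟩
  · -- `H^0_T(K') = 0`
    refine ⟨fun ξ ζ => ?_⟩
    suffices hz : ∀ ξ : (hdt T).obj K', ξ = 0 by rw [hz ξ, hz ζ]
    intro ξ
    have hR := rot_of_distTriang _ hT
    have hs1 : Subsingleton ((hdt T).obj ((Dual.inD A N)⟦(1 : ℤ)⟧)) := hNz 1 (by omega)
    obtain ⟨η, hη⟩ := hdt_exact _ hR ξ (@Subsingleton.elim _ hs1 _ _)
    change ((hdt T).map b).hom η = ξ at hη
    obtain ⟨ζ, hζ⟩ := hdt_map_surjective K N le_rfl ι hι η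
    have h12 : ι ≫ b = 0 := comp_distTriang_mor_zero₁₂ _ hT
    rw [← hη, ← hζ]
    change ((hdt T).map ι ≫ (hdt T).map b).hom ζ = 0
    rw [← Functor.map_comp, h12, Functor.map_zero]
    rfl
  · intro i hi J hJ
    have hR := rot_of_distTriang _ hT
    haveI := hNz1 i (by omega)
    have hk3 : Kills (⊤ : Ideal A) ((hdt T).obj (((Dual.inD A N)⟦(1 : ℤ)⟧)⟦i⟧)) :=
      Kills.of_subsingleton _ _
    have h := kills_obj₂ (T := T) i _ hR (J₁ := J) (J₃ := ⊤) hJ hk3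
    rwa [Ideal.mul_top] at h
  · intro i hi hf
    haveI := hNz i (by omega)
    have h1f : Module.Finite A ((hdt T).obj ((Dual.inD A N)⟦i⟧)) := inferInstance
    exact finite_obj₂ (T := T) i _ hT h1f hf

/-- a regular element on `H^0(K')` inside `J` -/
theorem exists_regular (K' : Dual.D A) [K'.IsGE 0] (hfin0 : Module.Finite A (Dual.HD A K' 0))
    (hz : Subsingleton ((hdt T).obj K')) (J : Ideal A)
    (hJ : PrimeSpectrum.zeroLocus (J : Set A) ⊆ T) :
    ∃ f ∈ J, IsSMulRegular (Dual.HD A K' 0) f := by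
  have h0 := gamT_eq_bot_of_subsingleton_hdt K' hz
  apply Groth.Agent.H6.LC.exists_isSMulRegular_of_torsionSub_eq_bot J (Dual.HD A K' 0)
  rw [eq_bot_iff]
  rintro y ⟨n, hn⟩
  rw [← h0]
  refine ⟨J ^ n, ?_, hn⟩
  by_cases hn0 : n = 0
  · subst hn0
    rw [pow_zero, Ideal.one_eq_top]
    simp
  · rw [PrimeSpectrum.zeroLocus_pow _ hn0]
    exact hJ

/-- the cone of a regular element -/
theorem step_cone (K' : Dual.D A) [K'.IsGE 0] (hfin : ∀ i : ℤ, Module.Finite A (Dual.HD A K' i))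
    (f : A) (hreg : IsSMulRegular (Dual.HD A K' 0) f) :
    ∃ C : Dual.D A, C.IsGE 0 ∧ (∀ i : ℤ, Module.Finite A (Dual.HD A C i)) ∧
      (∀ (i : ℤ) (J₁ J₃ : Ideal A), Kills J₁ ((hdt T).obj (K'⟦i⟧)) →
        Kills J₃ ((hdt T).obj (K'⟦i + 1⟧)) → Kills (J₁ * J₃) ((hdt T).obj (C⟦i⟧))) ∧
      (∀ (i : ℤ), (∀ ξ : (hdt T).obj (K'⟦i + 1⟧), f • ξ = 0) →
        Module.Finite A ((hdt T).obj (C⟦i⟧)) → Module.Finite A ((hdt T).obj (K'⟦i + 1⟧))) := by
  obtain ⟨C, v, w, hT⟩ := distinguished_cocone_triangle (f • 𝟙 K')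
  have hmono : Mono ((homologyFunctor (ModuleCat.{u} A) 0).map (f • 𝟙 K')) := by
    rw [ModuleCat.mono_iff_injective]
    intro x y hxy
    rw [Groth.Agent.H4.FB1.homology_map_smul_id_apply,
      Groth.Agent.H4.FB1.homology_map_smul_id_apply] at hxy
    exact hreg hxy
  have hCge : C.IsGE 0 := by
    rw [isGE_iff]
    intro i hi
    have ex := HomologySequence.exact₃ _ hT i (i + 1) rfl
    refine ex.isZero_X₂ ?_ ?_
    · exact (isZero_of_isGE K' 0 i hi).eq_of_src _ _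
    · by_cases hi1 : i + 1 = 0
      · have hi' : i = -1 := by omega
        subst hi'
        have hδ := HomologySequence.δ_comp _ hT (-1) 0 (by omega)
        exact (cancel_mono ((homologyFunctor (ModuleCat.{u} A) 0).map (f • 𝟙 K'))).1
          (hδ.trans zero_comp.symm)
      · exact (isZero_of_isGE K' 0 (i + 1) (by omega)).eq_of_tgt _ _
  have hCfin : ∀ i : ℤ, Module.Finite A (Dual.HD A C i) :=
    fun i => Groth.Agent.H4.US25.finite_HD_obj₃ _ hT hfin hfin i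
  have hR := rot_of_distTriang _ hT
  have hRR := rot_of_distTriang _ hR
  refine ⟨C, hCge, hCfin, ?_, ?_⟩
  · intro i J₁ J₃ h1 h3
    have h3' : Kills J₃ ((hdt T).obj ((K'⟦(1 : ℤ)⟧)⟦i⟧)) :=
      Kills.of_equiv (HtShiftEquiv (T := T) K' i (i + 1) (by omega)).symm h3
    exact kills_obj₂ (T := T) i _ hR h1 h3'
  · intro i hf hfinC
    let e := HtShiftEquiv (T := T) K' i (i + 1) (by omega)
    have hsurj : Function.Surjective ((hdt T).map (w⟦i⟧')).hom := by
      intro ξ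
      have h0 : ((hdt T).map ((-(f • 𝟙 K')⟦(1 : ℤ)⟧')⟦i⟧')).hom ξ = 0 := by
        have h1 : (-(f • 𝟙 K')⟦(1 : ℤ)⟧')⟦i⟧' = (-f) • 𝟙 ((K'⟦(1 : ℤ)⟧)⟦i⟧) := by
          rw [Functor.map_smul, Functor.map_neg, Functor.map_smul, CategoryTheory.Functor.map_id,
            CategoryTheory.Functor.map_id, neg_smul]
        rw [h1, hdt_map_smul_id, neg_smul, neg_eq_zero]
        apply e.injective
        rw [map_smul, hf, map_zero]
      exact Ht_exact i _ hRR ξ h0
    haveI := hfinC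
    haveI : Module.Finite A ((hdt T).obj ((K'⟦(1 : ℤ)⟧)⟦i⟧)) :=
      Module.Finite.of_surjective _ hsurj
    exact Module.Finite.equiv e

/-- **Main induction**: annihilation by an ideal supported in `T` implies finiteness. -/
theorem finite_of_kills : ∀ (d : ℕ) (K : Dual.D A) [K.IsGE 0]
    (_ : ∀ i : ℤ, Module.Finite A (Dual.HD A K i)) (J : Ideal A)
    (_ : PrimeSpectrum.zeroLocus (J : Set A) ⊆ T),
    (∀ i : ℕ, i ≤ d → Kills J ((hdt T).obj (K⟦(i : ℤ)⟧))) →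
    ∀ i : ℕ, i ≤ d → Module.Finite A ((hdt T).obj (K⟦(i : ℤ)⟧)) := by
  intro d
  induction d with
  | zero =>
    intro K _ hfin J hJ hkill i hi
    obtain rfl : i = 0 := by omega
    haveI := finite_hdt (T := T) K hfin
    exact Module.Finite.equiv (HtZeroEquiv (T := T) K).symm
  | succ d ih =>
    intro K _ hfin J hJ hkill i hi
    rcases Nat.eq_zero_or_pos i with rfl | hipos
    · haveI := finite_hdt (T := T) K hfin
      exact Module.Finite.equiv (HtZeroEquiv (T := T) K).symm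
    obtain ⟨K', hK'ge, hK'fin, hz, hk, hf⟩ := exists_torsionfree_cone (T := T) K hfin
    haveI := hK'ge
    -- annihilation for `K'`
    have hkill' : ∀ j : ℕ, j ≤ d + 1 → Kills J ((hdt T).obj (K'⟦(j : ℤ)⟧)) := by
      intro j hj
      rcases Nat.eq_zero_or_pos j with rfl | hjpos
      · haveI := hz
        haveI : Subsingleton ((hdt T).obj (K'⟦((0 : ℕ) : ℤ)⟧)) :=
          (HtZeroEquiv (T := T) K').toEquiv.subsingleton
        exact Kills.of_subsingleton _ _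
      · exact hk j (by exact_mod_cast hjpos) J (hkill j hj)
    obtain ⟨f, hfJ, hreg⟩ := exists_regular K' (hK'fin 0) hz J hJ
    obtain ⟨C, hCge, hCfin, c1, c2⟩ := step_cone (T := T) K' hK'fin f hreg
    haveI := hCge
    have hkillC : ∀ j : ℕ, j ≤ d → Kills (J * J) ((hdt T).obj (C⟦(j : ℤ)⟧)) := by
      intro j hj
      refine c1 j J J (hkill' j (by omega)) ?_
      have := hkill' (j + 1) (by omega)
      rwa [Nat.cast_succ] at this
    have hJJ : PrimeSpectrum.zeroLocus ((J * J : Ideal A) : Set A) ⊆ T := by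
      rw [PrimeSpectrum.zeroLocus_mul, Set.union_self]
      exact hJ
    have hCf := ih C hCfin (J * J) hJJ hkillC
    obtain ⟨i', rfl⟩ : ∃ i', i = i' + 1 := ⟨i - 1, by omega⟩
    have h1 : Module.Finite A ((hdt T).obj (K'⟦((i' : ℕ) : ℤ) + 1⟧)) := by
      refine c2 i' ?_ (hCf i' (by omega))
      intro ξ
      have := hkill' (i' + 1) hi
      rw [Nat.cast_succ] at this
      exact this f hfJ ξ
    have h2 := hf (((i' : ℕ) : ℤ) + 1) (by omega) h1
    rwa [← Nat.cast_succ] at h2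

/-- finitely many finite `H_T` are killed by a common ideal -/
lemma exists_ideal_kills_of_finite (X : Dual.D A) (hf : Module.Finite A ((hdt T).obj X)) :
    ∃ J : Ideal A, PrimeSpectrum.zeroLocus (J : Set A) ⊆ T ∧ Kills J ((hdt T).obj X) := by
  obtain ⟨J, hJ, h⟩ := exists_ideal_kills (T := T) (⊤ : Submodule A ((hdt T).obj X))
    hf.1 (by
      rintro ξ -
      obtain ⟨J, hJ, x, rfl⟩ := tj_surj ξ
      exact ⟨J, hJ, fun a ha => smul_tj_eq_zero hJ a ha x⟩)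
  exact ⟨J, hJ, fun a ha ξ => h a ha ξ trivial⟩

lemma exists_common_kill (X : ℕ → Dual.D A) : ∀ d : ℕ,
    (∀ i : ℕ, i ≤ d → Module.Finite A ((hdt T).obj (X i))) →
    ∃ J : Ideal A, PrimeSpectrum.zeroLocus (J : Set A) ⊆ T ∧
      ∀ i : ℕ, i ≤ d → Kills J ((hdt T).obj (X i)) := by
  intro d
  induction d with
  | zero =>
    intro h
    obtain ⟨J, hJ, hk⟩ := exists_ideal_kills_of_finite (T := T) (X 0) (h 0 le_rfl)
    refine ⟨J, hJ, fun i hi => ?_⟩
    obtain rfl : i = 0 := by omega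
    exact hk
  | succ d ih =>
    intro h
    obtain ⟨J₁, hJ₁, hk₁⟩ := ih (fun i hi => h i (by omega))
    obtain ⟨J₂, hJ₂, hk₂⟩ := exists_ideal_kills_of_finite (T := T) (X (d + 1)) (h (d + 1) le_rfl)
    refine ⟨J₁ ⊓ J₂, zeroLocus_inf_subset T hJ₁ hJ₂, fun i hi => ?_⟩
    by_cases hid : i ≤ d
    · exact fun a ha ξ => hk₁ i hid a ha.1 ξ
    · obtain rfl : i = d + 1 := by omega
      exact fun a ha ξ => hk₂ a ha.2 ξ

end Noeth

end Groth.Agent.H4.TL4
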