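import Mathlib
import Groth.Agent.H4.TL4
import Groth.Agent.H4.DZ2

set_option autoImplicit false
universe u w
open CategoryTheory Category Limits Opposite Pretriangulated

namespace Groth.Agent.H4.FA1

attribute [local instance] HasDerivedCategory.standard

open DerivedCategory Groth.Agent.H4.LD3 Groth.Agent.H4.ProjAmp Groth.Agent.H4.TL1 Groth.Agent.H4.TL2
  Groth.Agent.H4.TL3 Groth.Agent.H4.TL4

variable {A : Type u} [CommRing A] {T : Set (PrimeSpectrum A)}

section sums

lemma inDMap_add {N N' : Type u} [AddCommGroup N] [Module A N] [AddCommGroup N']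
    [Module A N'] (f g : N →ₗ[A] N') : inDMap (f + g) = inDMap f + inDMap g := by
  unfold inDMap
  have : ModuleCat.ofHom (f + g) = ModuleCat.ofHom f + ModuleCat.ofHom g := rfl
  rw [this, Functor.map_add]

lemma inDMap_sum {N N' : Type u} [AddCommGroup N] [Module A N] [AddCommGroup N']
    [Module A N'] {ι : Type} (s : Finset ι) (f : ι → (N →ₗ[A] N')) :
    inDMap (∑ k ∈ s, f k) = ∑ k ∈ s, inDMap (f k) := by
  classical
  induction s using Finset.induction_on with
  | empty => simp [inDMap_zero]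
  | insert a s ha ih => rw [Finset.sum_insert ha, Finset.sum_insert ha, inDMap_add, ih]

/-- a map out of a finite power vanishes as soon as its components do -/
lemma eq_zero_of_comp_single (P : Type u) [AddCommGroup P] [Module A P] (r : ℕ) (Y : Dual.D A)
    (y : Dual.inD A (Fin r → P) ⟶ Y)
    (h : ∀ k : Fin r, inDMap (LinearMap.single A (fun _ : Fin r => P) k) ≫ y = 0) : y = 0 := by
  have hid : (LinearMap.id : (Fin r → P) →ₗ[A] (Fin r → P)) =
      ∑ k : Fin r, (LinearMap.single A (fun _ : Fin r => P) k) ∘ₗ (LinearMap.proj k) := by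
    apply LinearMap.ext
    intro v
    funext j
    simp [Finset.sum_apply, Pi.single_apply]
  have h1 : y = inDMap (LinearMap.id : (Fin r → P) →ₗ[A] (Fin r → P)) ≫ y := by
    rw [inDMap_id, id_comp]
  rw [h1, hid, inDMap_sum, Preadditive.sum_comp]
  apply Finset.sum_eq_zero
  intro k _
  rw [inDMap_comp, assoc, h k, comp_zero]

end sums

section cover

variable (N : Type u) [AddCommGroup N] [Module A N]

/-- the map `A/J' → N`, `1 ↦ y` for `y` killed by `J'` -/
noncomputable def phiQ (J' : Ideal A) (hN : ∀ a ∈ J', ∀ y : N, a • y = 0) (y : N) :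
    (A ⧸ J') →ₗ[A] N :=
  Submodule.liftQ J' (LinearMap.toSpanSingleton A N y) (fun a ha => by
    rw [LinearMap.mem_ker, LinearMap.toSpanSingleton_apply]
    exact hN a ha y)

lemma phiQ_mk (J' : Ideal A) (hN : ∀ a ∈ J', ∀ y : N, a • y = 0) (y : N) (a : A) :
    phiQ N J' hN y (Submodule.Quotient.mk a) = a • y := by
  unfold phiQ
  rw [Submodule.liftQ_apply, LinearMap.toSpanSingleton_apply]

lemma phiQ_comp_qPr {J' J'' : Ideal A} (h : J'' ≤ J') (hN : ∀ a ∈ J', ∀ y : N, a • y = 0)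
    (y : N) :
    phiQ N J' hN y ∘ₗ qPr h = phiQ N J'' (fun a ha => hN a (h ha)) y := by
  apply LinearMap.ext
  intro z
  obtain ⟨a, rfl⟩ := Submodule.Quotient.mk_surjective _ z
  rw [LinearMap.comp_apply, phiQ_mk]
  change phiQ N J' hN y (Submodule.Quotient.mk a) = _
  rw [phiQ_mk]

/-- the cover `(A/J')^r → N` attached to `r` elements of `N` -/
noncomputable def piQ (J' : Ideal A) (hN : ∀ a ∈ J', ∀ y : N, a • y = 0) {r : ℕ} (g : Fin r → N) :
    (Fin r → A ⧸ J') →ₗ[A] N :=
  ∑ k : Fin r, (phiQ N J' hN (g k)) ∘ₗ (LinearMap.proj k)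

lemma piQ_comp_single (J' : Ideal A) (hN : ∀ a ∈ J', ∀ y : N, a • y = 0) {r : ℕ} (g : Fin r → N)
    (k : Fin r) :
    piQ N J' hN g ∘ₗ LinearMap.single A (fun _ : Fin r => A ⧸ J') k = phiQ N J' hN (g k) := by
  apply LinearMap.ext
  intro z
  unfold piQ
  rw [LinearMap.comp_apply, LinearMap.sum_apply]
  rw [Finset.sum_eq_single k]
  · simp
  · intro j _ hj
    simp [hj]
  · intro hk
    exact absurd (Finset.mem_univ k) hk

lemma piQ_surjective (J' : Ideal A) (hN : ∀ a ∈ J', ∀ y : N, a • y = 0) {r : ℕ} (g : Fin r → N)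
    (hg : Submodule.span A (Set.range g) = ⊤) : Function.Surjective (piQ N J' hN g) := by
  intro y
  have hy : y ∈ Submodule.span A (Set.range g) := by rw [hg]; exact Submodule.mem_top
  rw [Submodule.mem_span_range_iff_exists_fun] at hy
  obtain ⟨c, rfl⟩ := hy
  refine ⟨fun k => Submodule.Quotient.mk (c k), ?_⟩
  unfold piQ
  rw [LinearMap.sum_apply]
  apply Finset.sum_congr rfl
  intro k _
  rw [LinearMap.comp_apply, LinearMap.proj_apply, phiQ_mk]

end cover

section main

variable [IsNoetherianRing A]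

lemma qPr_comp {J J' J'' : Ideal A} (h : J'' ≤ J') (h' : J' ≤ J) :
    (qPr h' : (A ⧸ J') →ₗ[A] (A ⧸ J)) ∘ₗ (qPr h : (A ⧸ J'') →ₗ[A] (A ⧸ J')) = qPr (h.trans h') := by
  apply LinearMap.ext
  intro z
  obtain ⟨a, rfl⟩ := Submodule.Quotient.mk_surjective _ z
  rfl

/-- finitely many classes dying in the colimit die at a common stage -/
lemma exists_common_stage {Y : Dual.D A} {J₁ : Ideal A}
    (hJ₁ : PrimeSpectrum.zeroLocus (J₁ : Set A) ⊆ T) (r : ℕ)
    (x : Fin r → (Dual.inD A (A ⧸ J₁) ⟶ Y)) (hx : ∀ k, tj T J₁ hJ₁ Y (x k) = 0) :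
    ∃ (J₂ : Ideal A) (_ : PrimeSpectrum.zeroLocus (J₂ : Set A) ⊆ T) (h : J₂ ≤ J₁),
      ∀ k, inDMap (qPr h) ≫ x k = 0 := by
  have h1 : ∀ k, ∃ (J' : Ideal A) (_ : PrimeSpectrum.zeroLocus (J' : Set A) ⊆ T) (h : J' ≤ J₁),
      inDMap (qPr h) ≫ x k = 0 := fun k => (tj_eq_zero_iff hJ₁ (x k)).1 (hx k)
  choose J' hJ' hle h0 using h1
  refine ⟨J₁ ⊓ Finset.univ.inf J', ?_, inf_le_left, fun k => ?_⟩
  · intro p hp
    rw [PrimeSpectrum.mem_zeroLocus, SetLike.coe_subset_coe] at hp
    rcases (Ideal.IsPrime.inf_le p.isPrime).1 hp with h | h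
    · exact hJ₁ (by rwa [PrimeSpectrum.mem_zeroLocus, SetLike.coe_subset_coe])
    · obtain ⟨k, -, hk⟩ := (Ideal.IsPrime.inf_le' p.isPrime).1 h
      exact hJ' k (by rwa [PrimeSpectrum.mem_zeroLocus, SetLike.coe_subset_coe])
  · have hk : J₁ ⊓ Finset.univ.inf J' ≤ J' k := inf_le_right.trans (Finset.inf_le (Finset.mem_univ k))
    have : (qPr (inf_le_left : J₁ ⊓ Finset.univ.inf J' ≤ J₁)) = qPr (hle k) ∘ₗ qPr hk :=
      (qPr_comp hk (hle k)).symm
    rw [this, inDMap_comp, assoc, h0 k, comp_zero]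

/-- **uniform annihilation**: if `J` kills `H^i_T(K)` for all `i ≤ 0`, then `J^d` kills
`Hom(N, K)` for every finite `T`-supported module `N`, where `K ∈ D^{≥ 1-d}`. -/
theorem uniform_kill (J : Ideal A) : ∀ (d : ℕ) (K : Dual.D A), K.IsGE (1 - (d : ℤ)) →
    (∀ j : ℕ, Kills J ((hdt T).obj (K⟦(-(j : ℤ))⟧))) →
    ∀ (N : Type u) [AddCommGroup N] [Module A N] [Module.Finite A N] (J₁ : Ideal A)
      (_ : PrimeSpectrum.zeroLocus (J₁ : Set A) ⊆ T) (_ : ∀ a ∈ J₁, ∀ y : N, a • y = 0)
      (x : Dual.inD A N ⟶ K), ∀ a ∈ J ^ d, a • x = 0 := by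
  intro d
  induction d with
  | zero =>
    intro K hK _ N _ _ _ J₁ _ _ x a _
    haveI : K.IsGE 1 := by simpa using hK
    haveI : (Dual.inD A N).IsLE 0 :=
      inferInstanceAs (((singleFunctor (ModuleCat.{u} A) 0).obj _).IsLE 0)
    have : x = 0 := (tR A).zero x 0 1 (by omega)
    rw [this, smul_zero]
  | succ d ih =>
    intro K hK hkill N _ _ _ J₁ hJ₁ hN x c hc
    haveI : K.IsGE (-(d : ℤ)) := by
      have e : (1 : ℤ) - ((d + 1 : ℕ) : ℤ) = -(d : ℤ) := by push_cast; ring
      rwa [e] at hK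
    -- the key claim for elements of `J`
    have key : ∀ a ∈ J, ∀ b ∈ J ^ d, b • (a • x) = 0 := by
      intro a ha b hb
      -- `J` kills `H_T(K)`
      have hk0 : Kills J ((hdt T).obj K) := by
        have h0 := hkill 0
        let e0 : K⟦(-((0 : ℕ) : ℤ))⟧ ≅ K :=
          (shiftFunctorZero' (Dual.D A) (-((0 : ℕ) : ℤ)) (by simp)).app K
        exact h0.of_equiv ((hdt T).mapIso e0).toLinearEquiv
      obtain ⟨r, g, hg⟩ := Module.Finite.exists_fin (R := A) (M := N)
      -- the components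
      obtain ⟨J₂, hJ₂, hle, h0⟩ := exists_common_stage hJ₁ r
        (fun k => a • (inDMap (phiQ N J₁ hN (g k)) ≫ x)) (fun k => by
          rw [map_smul]
          exact hk0 a ha _)
      have hN₂ : ∀ a ∈ J₂, ∀ y : N, a • y = 0 := fun a ha => hN a (hle ha)
      let π₂ := piQ N J₂ hN₂ g
      have hπ₂ : Function.Surjective π₂ := piQ_surjective N J₂ hN₂ g hg
      -- `a • x` dies on the cover
      have hcov : inDMap π₂ ≫ (a • x) = 0 := by
        apply eq_zero_of_comp_single
        intro k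
        rw [← assoc, ← inDMap_comp, piQ_comp_single, ← phiQ_comp_qPr N hle hN, inDMap_comp, assoc,
          Linear.comp_smul]
        exact h0 k
      -- the kernel
      let N₂ := LinearMap.ker π₂
      let S : ShortComplex (ModuleCat.{u} A) :=
        ShortComplex.mk (ModuleCat.ofHom N₂.subtype) (ModuleCat.ofHom π₂) (by
          ext y
          exact y.2)
      have hex : Function.Exact N₂.subtype π₂ := by
        intro y
        constructor
        · intro hy
          exact ⟨⟨y, hy⟩, rfl⟩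
        · rintro ⟨z, rfl⟩
          exact z.2
      have hS : S.ShortExact :=
        ModuleCat.shortComplex_shortExact S hex (Submodule.injective_subtype _) hπ₂
      have hT := hS.singleTriangle_distinguished
      obtain ⟨y, hy⟩ := Triangle.yoneda_exact₃ _ hT (a • x) hcov
      -- move to `K⟦-1⟧`
      let e := Groth.Agent.H4.DZ2.shiftHomLinEquiv (Dual.inD A N₂) K 1 (-1) (by norm_num)
      have hK' : (K⟦(-1 : ℤ)⟧).IsGE (1 - (d : ℤ)) :=
        (tR A).isGE_shift K (-(d : ℤ)) (-1) (1 - (d : ℤ)) (by ring)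
      have hkill' : ∀ j : ℕ, Kills J ((hdt T).obj ((K⟦(-1 : ℤ)⟧)⟦(-(j : ℤ))⟧)) := by
        intro j
        let e1 : K⟦(-((j + 1 : ℕ) : ℤ))⟧ ≅ (K⟦(-1 : ℤ)⟧)⟦(-(j : ℤ))⟧ :=
          (shiftFunctorAdd' (Dual.D A) (-1 : ℤ) (-(j : ℤ)) (-((j + 1 : ℕ) : ℤ))
            (by push_cast; ring)).app K
        exact (hkill (j + 1)).of_equiv ((hdt T).mapIso e1).toLinearEquiv
      have hN₂kill : ∀ a ∈ J₂, ∀ z : N₂, a • z = 0 := by
        intro a ha z
        apply Subtype.ext
        funext k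
        change a • (z.1 k) = 0
        obtain ⟨w, hw⟩ := Submodule.Quotient.mk_surjective _ (z.1 k)
        rw [← hw]
        change Submodule.Quotient.mk (a • w) = (0 : A ⧸ J₂)
        rw [Submodule.Quotient.mk_eq_zero]
        exact J₂.mul_mem_right _ ha
      let y' : (Dual.inD A N₂)⟦(1 : ℤ)⟧ ⟶ K := y
      have h1 := ih (K⟦(-1 : ℤ)⟧) hK' hkill' N₂ J₂ hJ₂ hN₂kill (e y') b hb
      have h2 : b • y' = 0 := by
        apply e.injective
        rw [LinearEquiv.map_smul, h1, LinearEquiv.map_zero]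
      have h3 : b • y = 0 := h2
      rw [hy]
      exact ((Linear.comp_smul _ _ _ hS.singleTriangle.mor₃ b y).symm).trans
        (by rw [h3]; exact comp_zero)
    rw [pow_succ] at hc
    refine Submodule.mul_induction_on hc (fun b hb a ha => ?_) (fun y z hy hz => ?_)
    · rw [mul_smul]
      exact key a ha b hb
    · rw [add_smul, hy, hz, add_zero]

end main

end Groth.Agent.H4.FA1
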