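import Mathlib
import Groth.Agent.H4.US14
import Groth.Agent.Lib.Helper6.SkQuot
import Groth.Agent.Lib.Helper6.SkKit
import Groth.Agent.Lib.Helper6.DepthInf

set_option autoImplicit false
universe u
open CategoryTheory Category Limits Pretriangulated

namespace Groth.Agent.H4.FA10

attribute [local instance] HasDerivedCategory.standard

open Groth.Agent.H6

variable {A : Type u} [CommRing A] [IsNoetherianRing A]

/-- the "bad" primes: depth exactly `k` but larger support dimension -/
def bad (M : Type u) [AddCommGroup M] [Module A M] (k : ℕ) : Set (PrimeSpectrum A) :=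
  {p | LocCoh.depth (Localization.AtPrime p.asIdeal) (LocalizedModule p.asIdeal.primeCompl M) = k ∧
    (k : WithBot ℕ∞) < Module.supportDim (Localization.AtPrime p.asIdeal)
      (LocalizedModule p.asIdeal.primeCompl M)}

lemma depth_eq_zero_of_mem_ass (M : Type u) [AddCommGroup M] [Module A M] [Module.Finite A M]
    (p : PrimeSpectrum A) (hp : p.asIdeal ∈ associatedPrimes A M) :
    LocCoh.depth (Localization.AtPrime p.asIdeal) (LocalizedModule p.asIdeal.primeCompl M) = 0 := by
  by_contra h
  have h1 : ((1 : ℕ) : ℕ∞) ≤ LocCoh.depth (Localization.AtPrime p.asIdeal)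
      (LocalizedModule p.asIdeal.primeCompl M) := by
    rw [Nat.cast_one]
    exact Order.one_le_iff_pos.2 (pos_iff_ne_zero.2 h)
  rw [← Depth.locDepthGE_iff] at h1
  exact Depth.not_mem_associatedPrimes_of_locDepthGE M p.asIdeal h1 hp

lemma mem_ass_of_depth_eq_zero (M : Type u) [AddCommGroup M] [Module A M] [Module.Finite A M]
    (p : PrimeSpectrum A)
    (hp : LocCoh.depth (Localization.AtPrime p.asIdeal)
      (LocalizedModule p.asIdeal.primeCompl M) = 0) : p.asIdeal ∈ associatedPrimes A M := by
  by_contra h
  have h1 := Depth.locDepthGE_one_of_not_mem_associatedPrimes M p.asIdeal h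
  rw [Depth.locDepthGE_iff, hp] at h1
  simp at h1

lemma finite_bad_zero (M : Type u) [AddCommGroup M] [Module A M] [Module.Finite A M] :
    (bad (A := A) M 0).Finite := by
  have hfin : {p : PrimeSpectrum A | p.asIdeal ∈ associatedPrimes A M}.Finite := by
    have := (associatedPrimes.finite A M).preimage
      (f := fun p : PrimeSpectrum A => p.asIdeal) (fun p _ q _ h => PrimeSpectrum.ext h)
    exact this
  refine hfin.subset ?_
  rintro p ⟨hp, -⟩
  exact mem_ass_of_depth_eq_zero M p (by exact_mod_cast hp)


/-- the bad primes of `M` for `k+1` containing a regular element `f` are bad primes of `M/fM`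
for `k`. -/
lemma bad_succ_subset (M : Type u) [AddCommGroup M] [Module A M] [Module.Finite A M] (k : ℕ)
    (f : A) (hreg : IsSMulRegular M f) (p : PrimeSpectrum A) (hfp : f ∈ p.asIdeal)
    (hp : p ∈ bad (A := A) M (k + 1)) : p ∈ bad (A := A) (QuotSMulTop f M) k := by
  obtain ⟨hd, hdim⟩ := hp
  haveI : IsNoetherianRing (Localization.AtPrime p.asIdeal) :=
    IsLocalization.isNoetherianRing p.asIdeal.primeCompl _ inferInstance
  haveI : Module.Finite (Localization.AtPrime p.asIdeal)
      (LocalizedModule p.asIdeal.primeCompl M) :=
    Module.Finite.of_isLocalizedModule p.asIdeal.primeCompl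
      (LocalizedModule.mkLinearMap p.asIdeal.primeCompl M)
  constructor
  · have h1 : Depth.LocDepthGE M p.asIdeal (k + 1) := by
      rw [Depth.locDepthGE_iff, hd]
    have h2 := Depth.locDepthGE_quotSMulTop M p.asIdeal k f hreg h1
    rw [Depth.locDepthGE_iff] at h2
    have h3 : ¬ (((k + 1 : ℕ) : ℕ∞) ≤ LocCoh.depth (Localization.AtPrime p.asIdeal)
        (LocalizedModule p.asIdeal.primeCompl (QuotSMulTop f M))) := by
      intro h3
      rw [← Depth.locDepthGE_iff] at h3
      have h4 := Depth.locDepthGE_succ_of_quotSMulTop M p.asIdeal (k + 1) f hfp hreg h3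
      rw [Depth.locDepthGE_iff, hd] at h4
      have : k + 1 + 1 ≤ k + 1 := by exact_mod_cast h4
      omega
    generalize LocCoh.depth (Localization.AtPrime p.asIdeal)
        (LocalizedModule p.asIdeal.primeCompl (QuotSMulTop f M)) = D at h2 h3
    induction D using ENat.recTopCoe with
    | top => exact absurd le_top h3
    | coe d =>
      have h2' : k ≤ d := by exact_mod_cast h2
      have h3' : ¬ (k + 1 ≤ d) := by
        intro h
        apply h3
        exact_mod_cast h
      have : d = k := by omega
      rw [this]
  · rw [Sk.supportDim_localized_quotSMulTop]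
    haveI : Module.Flat A (Localization.AtPrime p.asIdeal) :=
      IsLocalization.flat _ p.asIdeal.primeCompl
    have hreg' : IsSMulRegular (LocalizedModule p.asIdeal.primeCompl M)
        (algebraMap A (Localization.AtPrime p.asIdeal) f) :=
      hreg.of_flat_of_isBaseChange (IsLocalizedModule.isBaseChange p.asIdeal.primeCompl
        (Localization.AtPrime p.asIdeal) (LocalizedModule.mkLinearMap p.asIdeal.primeCompl M))
    have hmem : algebraMap A (Localization.AtPrime p.asIdeal) f ∈
        IsLocalRing.maximalIdeal (Localization.AtPrime p.asIdeal) :=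
      (IsLocalization.AtPrime.to_map_mem_maximal_iff (Localization.AtPrime p.asIdeal)
        p.asIdeal f).mpr hfp
    rw [← Module.supportDim_quotSMulTop_succ_eq_supportDim hreg' hmem] at hdim
    generalize Module.supportDim (Localization.AtPrime p.asIdeal)
      (QuotSMulTop (algebraMap A (Localization.AtPrime p.asIdeal) f)
        (LocalizedModule p.asIdeal.primeCompl M)) = D at hdim
    induction D using WithBot.recBotCoe with
    | bot =>
      rw [WithBot.bot_add] at hdim
      exact absurd hdim (not_lt_bot)
    | coe D =>
      induction D using ENat.recTopCoe with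
      | top =>
        change ((k : ℕ∞) : WithBot ℕ∞) < ((⊤ : ℕ∞) : WithBot ℕ∞)
        rw [WithBot.coe_lt_coe]
        exact ENat.coe_lt_top k
      | coe d =>
        have h : k + 1 < d + 1 := by exact_mod_cast hdim
        have : k < d := by omega
        exact_mod_cast this


theorem finite_bad (hA : ∃ ω : Dual.D A, Dual.IsDualizing A ω) : ∀ (k : ℕ) (M : Type u)
    [AddCommGroup M] [Module A M] [Module.Finite A M], LocCoh.HasSk k A M →
    (bad (A := A) M k).Finite := by
  intro k
  induction k with
  | zero =>
    intro M _ _ _ _
    exact finite_bad_zero M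
  | succ k ih =>
    intro M _ _ _ hM
    obtain ⟨hopen, -⟩ := Groth.Agent.H4.US14.S1716 (A := A) M hA
    obtain ⟨a, ha⟩ := (PrimeSpectrum.isClosed_iff_zeroLocus_ideal _).1 hopen.isClosed_compl
    -- associated primes are Cohen–Macaulay points
    have hass : ∀ P ∈ associatedPrimes A M, ¬ a ≤ P := by
      intro P hP haP
      haveI hPp : P.IsPrime := hP.isPrime
      let p : PrimeSpectrum A := ⟨P, hPp⟩
      have hpz : p ∈ PrimeSpectrum.zeroLocus (a : Set A) := by
        rw [PrimeSpectrum.mem_zeroLocus, SetLike.coe_subset_coe]
        exact haP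
      rw [← ha] at hpz
      apply hpz
      right
      have hd := depth_eq_zero_of_mem_ass M p hP
      have hS := hM P
      have hsupp : p ∈ Module.support A M := by
        rw [Module.mem_support_iff_of_finite, ← Submodule.annihilator_top]
        exact IsAssociatedPrime.annihilator_le hP
      haveI : Nontrivial (LocalizedModule P.primeCompl M) := Module.mem_support_iff.1 hsupp
      have hne : Module.supportDim (Localization.AtPrime P) (LocalizedModule P.primeCompl M) ≠ ⊥ :=
        Module.supportDim_ne_bot_of_nontrivial _ _
      unfold LocCoh.IsCohenMacaulayModule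
      change Module.supportDim (Localization.AtPrime P) (LocalizedModule P.primeCompl M) =
        ((LocCoh.depth (Localization.AtPrime P) (LocalizedModule P.primeCompl M) : ℕ∞) :
          WithBot ℕ∞)
      have hd' : LocCoh.depth (Localization.AtPrime P) (LocalizedModule P.primeCompl M) = 0 := hd
      rw [hd'] at hS ⊢
      generalize Module.supportDim (Localization.AtPrime P) (LocalizedModule P.primeCompl M) = D
        at hS hne
      induction D using WithBot.recBotCoe with
      | bot => exact absurd rfl hne
      | coe D =>
        rw [min_le_iff] at hS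
        rcases hS with hS | hS
        · exfalso
          have : ((k + 1 : ℕ) : ℕ∞) ≤ (0 : ℕ∞) := by exact_mod_cast hS
          simp at this
        · have : D ≤ 0 := by exact_mod_cast hS
          have : D = 0 := le_antisymm this bot_le
          rw [this]
    -- prime avoidance
    have havoid : ¬ ((a : Set A) ⊆ ⋃ P ∈ associatedPrimes A M, (P : Set A)) := by
      intro hsub
      have h1 : ((a : Set A) ⊆ ⋃ P ∈ (((associatedPrimes.finite A M).toFinset : Finset (Ideal A)) :
          Set (Ideal A)), ((id P : Ideal A) : Set A)) := by
        intro x hx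
        have := hsub hx
        simp only [Set.mem_iUnion, exists_prop] at this ⊢
        obtain ⟨P, hP, hxP⟩ := this
        exact ⟨P, by simpa using hP, hxP⟩
      rw [Ideal.subset_union_prime (⊤ : Ideal A) (⊤ : Ideal A) (fun P hP _ _ => by
        have hP' : P ∈ associatedPrimes A M := by simpa using hP
        exact hP'.isPrime)] at h1
      obtain ⟨P, hP, haP⟩ := h1
      have hP' : P ∈ associatedPrimes A M := by simpa using hP
      exact hass P hP' haP
    obtain ⟨f, hfa, hf⟩ := Set.not_subset.1 havoid
    have hreg : IsSMulRegular M f := by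
      rw [biUnion_associatedPrimes_eq_zero_divisors] at hf
      intro x y hxy
      by_contra hne
      apply hf
      refine ⟨x - y, sub_ne_zero.2 hne, ?_⟩
      rw [smul_sub]
      exact sub_eq_zero.2 hxy
    have hS' := Sk.hasSk_quotSMulTop k M f hreg hM
    refine (ih (QuotSMulTop f M) hS').subset ?_
    intro p hp
    have hfp : f ∈ p.asIdeal := by
      by_contra hfp
      have hpU : p ∉ PrimeSpectrum.zeroLocus (a : Set A) := by
        intro h
        rw [PrimeSpectrum.mem_zeroLocus] at h
        exact hfp (h hfa)
      rw [← ha, Set.mem_compl_iff, not_not] at hpU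
      obtain ⟨hd, hdim⟩ := hp
      rcases hpU with h | h
      · have htop : LocCoh.depth (Localization.AtPrime p.asIdeal)
            (LocalizedModule p.asIdeal.primeCompl M) = ⊤ := by
          unfold LocCoh.depth LocCoh.idealDepth
          rw [if_pos (Subsingleton.elim _ _)]
        rw [htop] at hd
        exact ENat.top_ne_coe _ hd
      · unfold LocCoh.IsCohenMacaulayModule at h
        rw [h, hd] at hdim
        exact lt_irrefl _ hdim
    exact bad_succ_subset M k f hreg p hfp hp

theorem S1715 (A : Type u) [CommRing A] [IsNoetherianRing A]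
    (hA : ∃ ω : Dual.D A, Dual.IsDualizing A ω) (M : Type u) [AddCommGroup M] [Module A M]
    [Module.Finite A M] (k : ℕ) (hM : LocCoh.HasSk k A M) :
    Set.Finite {p : PrimeSpectrum A | LocCoh.depth (Localization.AtPrime p.asIdeal)
      (LocalizedModule p.asIdeal.primeCompl M) = k ∧
      (k : WithBot ℕ∞) < Module.supportDim (Localization.AtPrime p.asIdeal)
        (LocalizedModule p.asIdeal.primeCompl M)} :=
  finite_bad hA k M hM

end Groth.Agent.H4.FA10
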