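import Mathlib
import Groth.Agent.H4.LD9
import Groth.Agent.H4.DComp1

set_option autoImplicit false
universe u
open CategoryTheory Category Limits Pretriangulated

namespace Groth.Agent.H4.FA11

attribute [local instance] HasDerivedCategory.standard

open DerivedCategory Groth.Agent.H4.LD3

variable {A : Type u} [CommRing A]

/-- `ξ : M → K[k]` is universal for maps from `M` to `k`-fold shifts of objects of `D^{≤0}`. -/
def Univ (M : Type u) [AddCommGroup M] [Module A M] (k : ℤ) (K : Type u) [AddCommGroup K]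
    [Module A K] (ξ : Dual.inD A M ⟶ (Dual.inD A K)⟦k⟧) : Prop :=
  ∀ (Y : Dual.D A) [Y.IsLE 0] (φ : Dual.inD A M ⟶ Y⟦k⟧),
    ∃ g : Dual.inD A K ⟶ Y, φ = ξ ≫ g⟦k⟧'

lemma univ_zero (M : Type u) [AddCommGroup M] [Module A M] :
    Univ M 0 M ((shiftFunctorZero (Dual.D A) ℤ).inv.app (Dual.inD A M)) := by
  intro Y _ φ
  refine ⟨φ ≫ (shiftFunctorZero (Dual.D A) ℤ).hom.app Y, ?_⟩
  have := (shiftFunctorZero (Dual.D A) ℤ).inv.naturality
    (φ ≫ (shiftFunctorZero (Dual.D A) ℤ).hom.app Y)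
  simp only [Functor.id_map] at this
  erw [← this]
  simp

theorem univ_succ [IsNoetherianRing A] (M : Type u) [AddCommGroup M] [Module A M] (k : ℤ)
    (K : Type u) [AddCommGroup K] [Module A K] [Module.Finite A K]
    (ξ : Dual.inD A M ⟶ (Dual.inD A K)⟦k⟧) (hξ : Univ M k K ξ) :
    ∃ (K' : Type u) (_ : AddCommGroup K') (_ : Module A K') (_ : Module.Finite A K')
      (ξ' : Dual.inD A M ⟶ (Dual.inD A K')⟦k + 1⟧), Univ M (k + 1) K' ξ' := by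
  obtain ⟨r, π, hπ⟩ := Module.Finite.exists_fin' A K
  let S : ShortComplex (ModuleCat.{u} A) :=
    ShortComplex.mk (ModuleCat.ofHom (LinearMap.ker π).subtype) (ModuleCat.ofHom π) (by
      ext x
      exact x.2)
  have hS : S.ShortExact := by
    refine ModuleCat.shortComplex_shortExact S ?_ (Submodule.injective_subtype _) hπ
    intro x
    constructor
    · intro hx
      exact ⟨⟨x, hx⟩, rfl⟩
    · rintro ⟨y, rfl⟩
      exact y.2
  have hT := hS.singleTriangle_distinguished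
  let δ : Dual.inD A K ⟶ (Dual.inD A (LinearMap.ker π))⟦(1 : ℤ)⟧ := hS.singleδ
  refine ⟨LinearMap.ker π, inferInstance, inferInstance, inferInstance,
    ξ ≫ δ⟦k⟧' ≫ (shiftFunctorAdd' (Dual.D A) 1 k (k + 1) (by ring)).inv.app _, ?_⟩
  intro Y _ φ
  haveI h1 : (Y⟦(1 : ℤ)⟧).IsLE (0 - 1) := TStructure.t.isLE_shift Y 0 1 (0 - 1) (by ring)
  haveI h0 : (Y⟦(1 : ℤ)⟧).IsLE 0 := TStructure.t.isLE_of_le _ (0 - 1) 0 (by omega)
  obtain ⟨g', hg'⟩ := hξ (Y⟦(1 : ℤ)⟧)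
    (φ ≫ (shiftFunctorAdd' (Dual.D A) 1 k (k + 1) (by ring)).hom.app Y)
  have hz : hS.singleTriangle.mor₂ ≫ g' = 0 :=
    Groth.Agent.H4.DComp.hom_single_projective_eq_zero (ModuleCat.of A (Fin r → A)) 0 _ _
  obtain ⟨g₁, hg₁⟩ := Triangle.yoneda_exact₃ _ hT g' hz
  let g₁' : (Dual.inD A (LinearMap.ker π))⟦(1 : ℤ)⟧ ⟶ Y⟦(1 : ℤ)⟧ := g₁
  obtain ⟨g, hg⟩ := (shiftFunctor (Dual.D A) (1 : ℤ)).map_surjective g₁'
  refine ⟨g, ?_⟩
  have hnat := (shiftFunctorAdd' (Dual.D A) 1 k (k + 1) (by ring)).inv.naturality g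
  simp only [Functor.comp_map] at hnat
  have e1 : φ = (φ ≫ (shiftFunctorAdd' (Dual.D A) 1 k (k + 1) (by ring)).hom.app Y) ≫
      (shiftFunctorAdd' (Dual.D A) 1 k (k + 1) (by ring)).inv.app Y := by
    rw [assoc, Iso.hom_inv_id_app, comp_id]
  rw [e1, hg', hg₁]
  have e2 : hS.singleTriangle.mor₃ ≫ g₁ = δ ≫ g⟦(1 : ℤ)⟧' := by
    rw [hg]
    rfl
  rw [e2, Functor.map_comp, assoc, assoc, assoc, assoc]
  erw [hnat]


theorem exists_univ [IsNoetherianRing A] (M : Type u) [AddCommGroup M] [Module A M]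
    [Module.Finite A M] : ∀ (j : ℕ),
    ∃ (K : Type u) (_ : AddCommGroup K) (_ : Module A K) (_ : Module.Finite A K)
      (ξ : Dual.inD A M ⟶ (Dual.inD A K)⟦(j : ℤ)⟧), Univ M (j : ℤ) K ξ := by
  intro j
  induction j with
  | zero => exact ⟨M, inferInstance, inferInstance, inferInstance, _, univ_zero M⟩
  | succ j ih =>
    obtain ⟨K, _, _, _, ξ, hξ⟩ := ih
    obtain ⟨K', i1, i2, i3, ξ', hξ'⟩ := univ_succ M (j : ℤ) K ξ hξ
    refine ⟨K', i1, i2, i3, ?_⟩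
    have e : ((j + 1 : ℕ) : ℤ) = (j : ℤ) + 1 := by push_cast; ring
    rw [e]
    exact ⟨ξ', hξ'⟩

theorem S1744 (A : Type u) [CommRing A] [IsNoetherianRing A] (I : Ideal A) (e : ℕ)
    (he : LocCoh.CdLE A I e) (n : ℕ) (hn : 1 ≤ n) :
    ∃ (m : ℕ) (hm : n < m), ∀ (N : Type u) [AddCommGroup N] [Module A N] (i : ℕ), e < i →
      ∀ φ : Dual.inD A (A ⧸ I ^ n) ⟶ (Dual.inD A N)⟦(i : ℤ)⟧,
      (DerivedCategory.singleFunctor (ModuleCat.{u} A) 0).map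
        (ModuleCat.ofHom (Submodule.mapQ (I ^ m) (I ^ n) LinearMap.id
          (Ideal.pow_le_pow_right (Nat.le_of_lt hm)))) ≫ φ = 0 := by
  obtain ⟨K, _, _, _, ξ, hξ⟩ := exists_univ (A := A) (A ⧸ I ^ n) (e + 1)
  haveI hsub : Subsingleton (LocCoh.H I (e + 1) K) := he K (e + 1) (by omega)
  obtain ⟨eq⟩ := Groth.Agent.H4.LD9.nonempty_H_equiv_hdi I (e + 1) K
  have h0 : hj I n _ ξ = 0 := by
    apply eq.symm.injective
    exact Subsingleton.elim _ _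
  rw [hj_eq_zero_iff] at h0
  obtain ⟨m₀, hm₀, hz⟩ := h0
  refine ⟨m₀ + 1, by omega, ?_⟩
  intro N _ _ i hi φ
  have hfac : qProj I (show n ≤ m₀ + 1 by omega) =
      (qProj I hm₀) ∘ₗ (qProj I (show m₀ ≤ m₀ + 1 by omega)) := by
    apply LinearMap.ext
    intro y
    obtain ⟨a, rfl⟩ := Submodule.Quotient.mk_surjective _ y
    rfl
  change inDMap (qProj I (show n ≤ m₀ + 1 by omega)) ≫ φ = 0
  -- factor `φ` through `ξ`
  let Y : Dual.D A := (Dual.inD A N)⟦((i : ℤ) - ((e + 1 : ℕ) : ℤ))⟧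
  haveI : (Dual.inD A N).IsLE 0 :=
    inferInstanceAs (((singleFunctor (ModuleCat.{u} A) 0).obj _).IsLE 0)
  haveI hY1 : Y.IsLE (-((i : ℤ) - ((e + 1 : ℕ) : ℤ))) :=
    TStructure.t.isLE_shift (Dual.inD A N) 0 _ _ (by ring)
  haveI hY : Y.IsLE 0 := TStructure.t.isLE_of_le Y (-((i : ℤ) - ((e + 1 : ℕ) : ℤ))) 0 (by
    push_cast
    omega)
  let ι := (shiftFunctorAdd' (Dual.D A) ((i : ℤ) - ((e + 1 : ℕ) : ℤ)) ((e + 1 : ℕ) : ℤ) (i : ℤ)
    (by ring)).app (Dual.inD A N)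
  obtain ⟨g, hg⟩ := hξ Y (φ ≫ ι.hom)
  have e1 : φ = (φ ≫ ι.hom) ≫ ι.inv := by rw [assoc, Iso.hom_inv_id, comp_id]
  rw [e1, hg, hfac, inDMap_comp]
  simp only [assoc]
  rw [reassoc_of% hz, zero_comp, comp_zero]

end Groth.Agent.H4.FA11
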