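import Mathlib
import Groth.Prelude.Def_DualLC
import Groth.Agent.H4.LD10

set_option autoImplicit false
universe u v
open CategoryTheory Category Limits Pretriangulated Opposite ZeroObject

namespace Groth.Agent.H4.LD11

attribute [local instance] HasDerivedCategory.standard

open DerivedCategory

variable {A : Type u} [CommRing A] [IsLocalRing A]

/-- the annihilator of the Matlis dual -/
theorem annihilator_dual (E : Type u) [AddCommGroup E] [Module A E]
    (f : IsLocalRing.ResidueField A →ₗ[A] E) (hf : InjHull.IsInjectiveHull f)
    (N : Type v) [AddCommGroup N] [Module A N] :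
    Module.annihilator A (N →ₗ[A] E) = Module.annihilator A N := by
  haveI := hf.isInjective
  ext a
  rw [Module.mem_annihilator, Module.mem_annihilator]
  constructor
  · intro h x
    by_contra hx
    obtain ⟨φ, hφ⟩ := Groth.Agent.H6.IH.exists_hom_apply_ne_zero f hf.injective hx
    apply hφ
    rw [map_smul]
    exact LinearMap.congr_fun (h φ) x
  · intro h φ
    apply LinearMap.ext
    intro x
    rw [LinearMap.smul_apply, ← map_smul, h x, map_zero, LinearMap.zero_apply]

variable [IsNoetherianRing A] {ω : Dual.D A}
  (hn : Dual.IsNormalized A ω) (hω : Dual.IsDualizing A ω)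

include hn hω in
theorem S1713 (M : Type u) [AddCommGroup M] [Module A M] [Module.Finite A M] (i : ℕ) :
    Module.annihilator A (Dual.inD A M ⟶ ω⟦(-(i : ℤ))⟧) =
      Module.annihilator A (LocCoh.H (IsLocalRing.maximalIdeal A) i M) := by
  obtain ⟨E, _, _, f, hf⟩ :=
    Groth.Agent.H6.IH.exists_injectiveHull (R := A) (IsLocalRing.ResidueField A)
  obtain ⟨e⟩ := Groth.Agent.H4.LD10.S11172 hn hω E f hf M i
  rw [e.annihilator_eq, annihilator_dual E f hf]

end Groth.Agent.H4.LD11
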