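import Mathlib
import Groth.Agent.H4.US15
import Groth.Agent.H4.LD11
import Groth.Agent.H4.AP2

set_option autoImplicit false
universe u
open CategoryTheory Category Limits Pretriangulated

namespace Groth.Agent.H4.FA2

attribute [local instance] HasDerivedCategory.standard
attribute [local instance] Groth.Agent.H4.LK4.hasLTen Groth.Agent.H4.LK5.hasLTen₃
  Groth.Agent.H4.KI7.isSymMonoidal Groth.Agent.H4.KI6.hasRHom

open DRing DTen DerivedCategory Groth.Agent.H4.DThick Groth.Agent.H4.DCompl1 Groth.Agent.H4.CF1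
  Groth.Agent.H4.InjAmp Groth.Agent.H4.DZ1 Groth.Agent.H4.DZ2 Groth.Agent.H4.DZ3 Groth.Agent.H4.DZ4
  Groth.Agent.H4.DZ5 Groth.Agent.H4.DZ6 Groth.Agent.H4.ProjAmp Groth.Agent.H4.US8 Groth.Agent.H4.US9
  Groth.Agent.H4.US10 Groth.Agent.H4.US11 Groth.Agent.H4.US12 Groth.Agent.H4.US13
  Groth.Agent.H4.US14 Groth.Agent.H4.FB1 Groth.Agent.H4.FB2 Groth.Agent.H4.FB3
  Groth.Agent.H4.DRing1

open scoped Pointwise TensorProduct

variable {A : Type u} [CommRing A]

section flat

variable {B : Type u} [CommRing B] [Algebra A B] [Module.Flat A B]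

/-- flat base change is `t`-exact (bounded below part) -/
lemma isGE_E (K : Dual.D A) (a : ℤ) [K.IsGE a] : ((E A B).obj K).IsGE a := by
  rw [isGE_iff]
  intro i hi
  have hz : IsZero ((homologyFunctor (ModuleCat.{u} A) i).obj K) :=
    (isGE_iff K a).1 inferInstance i hi
  exact IsZero.of_iso
    ((ModuleCat.extendScalars.{u, u, u} (algebraMap A B)).map_isZero hz) (homologyEIso K i)

/-- annihilation of `Hom(M, K)` passes to `Hom(E M, E K)` -/
lemma smul_hom_E_eq_zero [IsNoetherianRing A] (K : Dual.D A) (a : ℤ) [K.IsGE a] (M : Dual.D A)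
    (hM : IsPseudoCoherent' A M) (f : A) (h : ∀ x : M ⟶ K, f • x = 0)
    (g : (E A B).obj M ⟶ (E A B).obj K) : algebraMap A B f • g = 0 := by
  have hb := bijective_Psi_gammaE (B := B) K a M hM
  apply ((adjE A B).homEquiv M ((E A B).obj K)).injective
  rw [homEquiv_apply, homEquiv_apply, Res_map_smul, Linear.comp_smul, Functor.map_zero, comp_zero]
  have hft : ∀ t : B ⊗[A] (M ⟶ K), f • t = 0 := by
    intro t
    induction t using TensorProduct.induction_on with
    | zero => simp
    | tmul b x => rw [TensorProduct.smul_tmul', TensorProduct.smul_tmul, h x, TensorProduct.tmul_zero]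
    | add x y hx hy => rw [smul_add, hx, hy, add_zero]
  obtain ⟨t, ht⟩ := hb.2 ((adjE A B).unit.app M ≫ (Res A B).map g)
  rw [← ht, ← map_smul, hft t, map_zero]

/-- **flat base change for `Hom(M, Y)`, `M` with finite cohomology and `Y` of finite injective
dimension (before and after base change)** -/
theorem bijective_Psi_of_finite [IsNoetherianRing A] (Y : Dual.D A) (a : ℤ) [Y.IsGE a]
    (hY : HasFiniteInjDim A Y) (hY' : HasFiniteInjDim B ((E A B).obj Y)) (M : Dual.D A)
    (hM : ∀ i : ℤ, Module.Finite A (Dual.HD A M i)) :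
    Function.Bijective (Psi (gammaE (B := B) Y) M) := by
  obtain ⟨a₁, b₁, h₁⟩ := hY
  obtain ⟨a₂, b₂, h₂⟩ := hY'
  have key3 : ∀ (X : Dual.D A) (s : ℤ), X.IsGE s → max b₁ b₂ < s →
      Function.Bijective (Psi (gammaE (B := B) Y) X) := by
    intro X s hX hs
    haveI := hX
    have s1 : Subsingleton (X ⟶ Y) :=
      ⟨fun f g => (Groth.Agent.H4.AP2.hom_eq_zero_of_isGE_of_injAmp X Y s a₁ b₁ h₁
        (lt_of_le_of_lt (le_max_left _ _) hs) f).trans
        (Groth.Agent.H4.AP2.hom_eq_zero_of_isGE_of_injAmp X Y s a₁ b₁ h₁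
        (lt_of_le_of_lt (le_max_left _ _) hs) g).symm⟩
    have s2 : Subsingleton (X ⟶ (Res A B).obj ((E A B).obj Y)) := by
      haveI := isGE_E (B := B) X s
      haveI : Subsingleton ((E A B).obj X ⟶ (E A B).obj Y) :=
        ⟨fun f g => (Groth.Agent.H4.AP2.hom_eq_zero_of_isGE_of_injAmp _ _ s a₂ b₂ h₂
          (lt_of_le_of_lt (le_max_right _ _) hs) f).trans
          (Groth.Agent.H4.AP2.hom_eq_zero_of_isGE_of_injAmp _ _ s a₂ b₂ h₂
          (lt_of_le_of_lt (le_max_right _ _) hs) g).symm⟩
      exact ((adjE A B).homEquiv X ((E A B).obj Y)).symm.subsingleton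
    have s3 : Subsingleton (B ⊗[A] (X ⟶ Y)) := by
      refine ⟨fun x y => ?_⟩
      have hz : ∀ t : B ⊗[A] (X ⟶ Y), t = 0 := by
        intro t
        induction t using TensorProduct.induction_on with
        | zero => rfl
        | tmul b x => rw [Subsingleton.elim x 0, TensorProduct.tmul_zero]
        | add x y hx hy => rw [hx, hy, add_zero]
      rw [hz x, hz y]
    exact ⟨fun x y _ => Subsingleton.elim _ _, fun y => ⟨0, Subsingleton.elim _ _⟩⟩
  let n : ℤ := max b₁ b₂ + 2
  let T := ((tR A).triangleLTGE n).obj M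
  have hT : T ∈ distinguishedTriangles := (tR A).triangleLTGE_distinguished n M
  haveI : T.obj₃.IsGE n := inferInstanceAs ((tR A).IsGE (((tR A).truncGE n).obj M) n)
  haveI : T.obj₁.IsLE (n - 1) := inferInstanceAs ((tR A).IsLE (((tR A).truncLT n).obj M) (n - 1))
  have hfin : ∀ i : ℤ, Module.Finite A ((homologyFunctor (ModuleCat.{u} A) i).obj T.obj₁) := by
    intro i
    by_cases hi : i < n
    · haveI := Groth.Agent.H4.DRing1.isIso_homology_mor₁ T hT n i hi
      have e1 : (homologyFunctor (ModuleCat.{u} A) i).obj T.obj₁ ≅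
          (homologyFunctor (ModuleCat.{u} A) i).obj T.obj₂ :=
        asIso ((homologyFunctor (ModuleCat.{u} A) i).map T.mor₁)
      haveI : Module.Finite A ((homologyFunctor (ModuleCat.{u} A) i).obj T.obj₂) := hM i
      exact Module.Finite.equiv e1.symm.toLinearEquiv
    · haveI := ModuleCat.subsingleton_of_isZero (isZero_of_isLE T.obj₁ (n - 1) i (by omega))
      infer_instance
  have hpc : IsPseudoCoherent' A T.obj₁ := isPC'_of_finite T.obj₁ hfin (n - 1)
  have hres : Function.Bijective (Psi (gammaE (B := B) Y) T.obj₂) := by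
    refine bijective_Psi_of_triangle (gammaE Y) T hT ?_ ?_ ?_ ?_
    · exact bijective_Psi_gammaE Y a T.obj₁ hpc
    · exact key3 T.obj₃ n inferInstance (by omega)
    · exact (bijective_Psi_gammaE Y a (T.obj₁⟦(1 : ℤ)⟧) (isPseudoCoherent'_shift _ 1 hpc)).2
    · have : (T.obj₃⟦(-1 : ℤ)⟧).IsGE (n + 1) := (tR A).isGE_shift T.obj₃ n (-1) (n + 1) (by ring)
      exact (key3 (T.obj₃⟦(-1 : ℤ)⟧) (n + 1) this (by omega)).1
  exact hres

end flat

section prime

variable [IsNoetherianRing A] (ω : Dual.D A) (hω : Dual.IsDualizing A ω) (q : PrimeSpectrum A)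

include hω in
/-- flat base change to the local ring at `q` for `Hom(K, ω[j])`, `K` with finite cohomology -/
theorem bijective_Psi_dualizing (K : Dual.D A) (hK : ∀ i : ℤ, Module.Finite A (Dual.HD A K i))
    (j : ℤ) :
    Function.Bijective (Psi (gammaE (B := Localization.AtPrime q.asIdeal) (ω⟦j⟧)) K) := by
  haveI : IsNoetherianRing (Localization.AtPrime q.asIdeal) :=
    IsLocalization.isNoetherianRing q.asIdeal.primeCompl _ inferInstance
  obtain ⟨a, b, ha, -, -⟩ := exists_bounds_of_isDualizing ω hω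
  haveI := ha
  haveI : (ω⟦j⟧).IsGE (a - j) := TStructure.t.isGE_shift ω a j (a - j) (by ring)
  have hd := isDualizing_shift ω hω j
  exact bijective_Psi_of_finite (ω⟦j⟧) (a - j) (exists_injAmp_of_isDualizing _ hd)
    (exists_injAmp_of_isDualizing _
      (isDualizing_E_localization A q.asIdeal.primeCompl (ω⟦j⟧) hd)) K hK

include hω in
/-- `Hom` over the localization at `q` is nonzero iff `q` is in the support of `Hom` over `A`. -/
theorem nontrivial_hom_E_iff' (K : Dual.D A) (hK : ∀ i : ℤ, Module.Finite A (Dual.HD A K i))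
    (j : ℤ) :
    Nontrivial ((E A (Localization.AtPrime q.asIdeal)).obj K ⟶
      (E A (Localization.AtPrime q.asIdeal)).obj (ω⟦j⟧)) ↔
      q ∈ Module.support A (K ⟶ ω⟦j⟧) := by
  have hb := bijective_Psi_dualizing ω hω q K hK j
  let e1 := (adjE A (Localization.AtPrime q.asIdeal)).homEquiv K
    ((E A (Localization.AtPrime q.asIdeal)).obj (ω⟦j⟧))
  let e2 := Equiv.ofBijective _ hb
  let e3 := (IsLocalizedModule.isBaseChange q.asIdeal.primeCompl (Localization.AtPrime q.asIdeal)
    (LocalizedModule.mkLinearMap q.asIdeal.primeCompl (K ⟶ ω⟦j⟧))).equiv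
  rw [Module.mem_support_iff, e1.nontrivial_congr, ← e2.nontrivial_congr,
    e3.toEquiv.nontrivial_congr]

include hω in
/-- if `f` kills `Hom` over the localization at `q`, then the support of `Hom` over `A` does not
meet `D(f) ∩ Spec A_q`. -/
theorem not_mem_support_of_smul_eq_zero (K : Dual.D A)
    (hK : ∀ i : ℤ, Module.Finite A (Dual.HD A K i)) (j : ℤ) (f : A)
    (h : ∀ g : (E A (Localization.AtPrime q.asIdeal)).obj K ⟶
      (E A (Localization.AtPrime q.asIdeal)).obj (ω⟦j⟧),
      algebraMap A (Localization.AtPrime q.asIdeal) f • g = 0)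
    (p : PrimeSpectrum A) (hpq : p ≤ q) (hf : f ∉ p.asIdeal) :
    p ∉ Module.support A (K ⟶ ω⟦j⟧) := by
  intro hp
  rw [Module.mem_support_iff_exists_annihilator] at hp
  obtain ⟨x, hx⟩ := hp
  have hb := bijective_Psi_dualizing ω hω q K hK j
  -- the class of `x` over the localization
  let g := ((adjE A (Localization.AtPrime q.asIdeal)).homEquiv K
    ((E A (Localization.AtPrime q.asIdeal)).obj (ω⟦j⟧))).symm
      (Psi (gammaE (B := Localization.AtPrime q.asIdeal) (ω⟦j⟧)) K ((1 : Localization.AtPrime q.asIdeal) ⊗ₜ[A] x))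
  have h1 : (adjE A (Localization.AtPrime q.asIdeal)).homEquiv K _
      (algebraMap A (Localization.AtPrime q.asIdeal) f • g) =
      Psi (gammaE (B := Localization.AtPrime q.asIdeal) (ω⟦j⟧)) K
        ((1 : Localization.AtPrime q.asIdeal) ⊗ₜ[A] (f • x)) := by
    rw [homEquiv_apply, Res_map_smul, Linear.comp_smul, ← homEquiv_apply, Equiv.apply_symm_apply,
      ← map_smul, TensorProduct.smul_tmul', TensorProduct.smul_tmul]
  rw [h g, homEquiv_apply, Functor.map_zero, comp_zero] at h1
  have h2 : (1 : Localization.AtPrime q.asIdeal) ⊗ₜ[A] (f • x) = 0 := by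
    apply hb.1
    rw [← h1, map_zero]
  have h3 : TensorProduct.mk A (Localization.AtPrime q.asIdeal) (K ⟶ ω⟦j⟧) 1 (f • x) = 0 := h2
  rw [IsLocalizedModule.eq_zero_iff q.asIdeal.primeCompl] at h3
  obtain ⟨t, ht⟩ := h3
  have h4 : (t : A) * f ∈ (Submodule.span A {x}).annihilator := by
    rw [Submodule.mem_annihilator_span_singleton, mul_smul]
    exact ht
  have h5 := hx h4
  rcases p.isPrime.mem_or_mem h5 with h6 | h6
  · exact t.2 (hpq h6)
  · exact hf h6

end prime

section localdual

variable {B : Type u} [CommRing B] [IsLocalRing B] [IsNoetherianRing B]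

/-- local duality over a local ring, in annihilator form, for an unnormalized dualizing complex -/
theorem annihilator_hdi_eq (ωB : Dual.D B) (hωB : Dual.IsDualizing B ωB) (n : ℤ)
    (hn : ExtData ωB n) (K : Dual.D B) (s : ℤ) [K.IsGE s]
    (hK : ∀ i : ℤ, Module.Finite B (Dual.HD B K i)) (i : ℤ) :
    Module.annihilator B ((Groth.Agent.H4.LD3.hdi (IsLocalRing.maximalIdeal B)).obj (K⟦i⟧)) =
      Module.annihilator B (K ⟶ ωB⟦n - i⟧) := by
  have hd := isDualizing_shift ωB hωB n
  have hnorm := isNormalized_shift ωB n hn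
  obtain ⟨E, _, _, f, hf⟩ :=
    Groth.Agent.H6.IH.exists_injectiveHull (R := B) (IsLocalRing.ResidueField B)
  obtain ⟨e⟩ := Groth.Agent.H4.LD10.nonempty_hdi_equiv_dual hnorm hd E f hf K s hK i
  rw [e.annihilator_eq, Groth.Agent.H4.LD11.annihilator_dual E f hf]
  exact (homShiftShiftLinEquiv K ωB n (-i) (n - i) (by ring)).annihilator_eq

end localdual

section prime2

variable [IsNoetherianRing A] (ω : Dual.D A) (hω : Dual.IsDualizing A ω)
  (n : PrimeSpectrum A → ℤ)
  (hn : ∀ (p : PrimeSpectrum A) (i : ℤ),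
    p ∈ Module.support A (Dual.inD A (A ⧸ p.asIdeal) ⟶ ω⟦i⟧) ↔ i = n p)
  (q : PrimeSpectrum A)

include hω hn in
lemma extData_E : ExtData ((E A (Localization.AtPrime q.asIdeal)).obj ω) (n q) := by
  have hB : Dual.IsDualizing (Localization.AtPrime q.asIdeal)
      ((E A (Localization.AtPrime q.asIdeal)).obj ω) :=
    isDualizing_E_localization A q.asIdeal.primeCompl ω hω
  haveI : IsNoetherianRing (Localization.AtPrime q.asIdeal) :=
    IsLocalization.isNoetherianRing q.asIdeal.primeCompl _ inferInstance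
  obtain ⟨n', hn'⟩ := exists_extData _ hB
  have h1 := (hn q (n q)).2 rfl
  have h2 := (Groth.Agent.H4.US15.mem_support_iff_of_extData q ω hω n' hn' (n q)).1 h1
  rw [h2]
  exact hn'

include hω hn in
/-- **local duality at the prime `q`**, annihilator form -/
theorem annihilator_hdi_E (K : Dual.D A) (s : ℤ) [K.IsGE s]
    (hK : ∀ i : ℤ, Module.Finite A (Dual.HD A K i)) (i : ℤ) :
    Module.annihilator (Localization.AtPrime q.asIdeal)
      ((Groth.Agent.H4.LD3.hdi (IsLocalRing.maximalIdeal (Localization.AtPrime q.asIdeal))).obj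
        (((E A (Localization.AtPrime q.asIdeal)).obj K)⟦i⟧)) =
      Module.annihilator (Localization.AtPrime q.asIdeal)
        ((E A (Localization.AtPrime q.asIdeal)).obj K ⟶
          (E A (Localization.AtPrime q.asIdeal)).obj (ω⟦n q - i⟧)) := by
  have hB : Dual.IsDualizing (Localization.AtPrime q.asIdeal)
      ((E A (Localization.AtPrime q.asIdeal)).obj ω) :=
    isDualizing_E_localization A q.asIdeal.primeCompl ω hω
  haveI : IsNoetherianRing (Localization.AtPrime q.asIdeal) :=
    IsLocalization.isNoetherianRing q.asIdeal.primeCompl _ inferInstance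
  haveI := isGE_E (B := Localization.AtPrime q.asIdeal) K s
  have hKB : ∀ i : ℤ, Module.Finite (Localization.AtPrime q.asIdeal)
      (Dual.HD (Localization.AtPrime q.asIdeal)
        ((E A (Localization.AtPrime q.asIdeal)).obj K) i) := by
    intro i
    haveI := hK i
    exact finite_HD_E K i
  rw [annihilator_hdi_eq _ hB (n q) (extData_E ω hω n hn q) _ s hKB i]
  exact (homIsoLinEquiv ((E A (Localization.AtPrime q.asIdeal)).obj K)
    (EShiftIso (B := Localization.AtPrime q.asIdeal) ω (n q - i)).symm).annihilator_eq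

include hω hn in
/-- **local duality at the prime `q`**, vanishing form -/
theorem subsingleton_hdi_E_iff (K : Dual.D A) (s : ℤ) [K.IsGE s]
    (hK : ∀ i : ℤ, Module.Finite A (Dual.HD A K i)) (i : ℤ) :
    Subsingleton
      ((Groth.Agent.H4.LD3.hdi (IsLocalRing.maximalIdeal (Localization.AtPrime q.asIdeal))).obj
        (((E A (Localization.AtPrime q.asIdeal)).obj K)⟦i⟧)) ↔
      q ∉ Module.support A (K ⟶ ω⟦n q - i⟧) := by
  rw [← nontrivial_hom_E_iff' ω hω q K hK (n q - i), not_nontrivial_iff_subsingleton,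
    ← Module.annihilator_eq_top_iff (R := Localization.AtPrime q.asIdeal),
    ← Module.annihilator_eq_top_iff (R := Localization.AtPrime q.asIdeal),
    annihilator_hdi_E ω hω n hn q K s hK i]

end prime2

end Groth.Agent.H4.FA2
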