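import Mathlib
import Groth.Agent.H4.FA1
import Groth.Agent.H4.FA2

set_option autoImplicit false
universe u
open CategoryTheory Category Limits Pretriangulated

namespace Groth.Agent.H4.FA3

attribute [local instance] HasDerivedCategory.standard
attribute [local instance] Groth.Agent.H4.LK4.hasLTen Groth.Agent.H4.LK5.hasLTen₃
  Groth.Agent.H4.KI7.isSymMonoidal Groth.Agent.H4.KI6.hasRHom

open DRing DTen DerivedCategory Groth.Agent.H4.DThick Groth.Agent.H4.DCompl1 Groth.Agent.H4.CF1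
  Groth.Agent.H4.InjAmp Groth.Agent.H4.DZ1 Groth.Agent.H4.DZ2 Groth.Agent.H4.DZ3 Groth.Agent.H4.DZ4
  Groth.Agent.H4.DZ5 Groth.Agent.H4.DZ6 Groth.Agent.H4.ProjAmp Groth.Agent.H4.US8 Groth.Agent.H4.US9
  Groth.Agent.H4.US10 Groth.Agent.H4.US11 Groth.Agent.H4.US12 Groth.Agent.H4.US13
  Groth.Agent.H4.US14 Groth.Agent.H4.FB1 Groth.Agent.H4.FB2 Groth.Agent.H4.FB3
  Groth.Agent.H4.DRing1 Groth.Agent.H4.TL1 Groth.Agent.H4.TL3 Groth.Agent.H4.TL4
  Groth.Agent.H4.FA1 Groth.Agent.H4.FA2 Groth.Agent.H4.LD3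

open scoped Pointwise TensorProduct

variable {A : Type u} [CommRing A] [IsNoetherianRing A]

/-- transport of annihilation along an equality of ideals -/
lemma smul_hom_quot_congr {B : Type u} [CommRing B] (Y : Dual.D B) (I I' : Ideal B) (h : I = I')
    (b : B) (hb : ∀ g : Dual.inD B (B ⧸ I) ⟶ Y, b • g = 0) :
    ∀ g : Dual.inD B (B ⧸ I') ⟶ Y, b • g = 0 := by
  subst h
  exact hb

variable (ω : Dual.D A) (hω : Dual.IsDualizing A ω)
  (n : PrimeSpectrum A → ℤ)
  (hn : ∀ (p : PrimeSpectrum A) (i : ℤ),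
    p ∈ Module.support A (Dual.inD A (A ⧸ p.asIdeal) ⟶ ω⟦i⟧) ↔ i = n p)
  {T : Set (PrimeSpectrum A)}

include hω hn in
/-- **(1) ⇒ (2')**: if `J` kills `H^i_T(K)` for `i ≤ s`, then for `q ∈ T`, the modules
`Ext^j(K, ω)`, `j ≥ n q - s`, vanish at the primes `p ⊆ q` not containing `J`. -/
theorem not_mem_support_of_kills (hT : StableUnderSpecialization T) (K : Dual.D A) (a : ℤ)
    [K.IsGE a] (hK : ∀ i : ℤ, Module.Finite A (Dual.HD A K i)) (J : Ideal A) (s : ℤ)
    (hJ : ∀ i : ℤ, i ≤ s → Kills J ((hdt T).obj (K⟦i⟧))) (q : PrimeSpectrum A) (hq : q ∈ T)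
    (p : PrimeSpectrum A) (hpq : p ≤ q) (hpJ : ¬ J ≤ p.asIdeal) (j : ℤ) (hj : n q - s ≤ j) :
    p ∉ Module.support A (K ⟶ ω⟦j⟧) := by
  obtain ⟨f, hfJ, hfp⟩ := Set.not_subset.1 hpJ
  -- the index
  obtain ⟨i, rfl⟩ : ∃ i : ℤ, j = n q - i := ⟨n q - j, by ring⟩
  have his : i ≤ s := by omega
  let d : ℕ := (1 - (a - i)).toNat
  haveI hKi : (K⟦i⟧).IsGE (a - i) := TStructure.t.isGE_shift K a i (a - i) (by ring)
  have hKd : (K⟦i⟧).IsGE (1 - (d : ℤ)) :=
    (tR A).isGE_of_ge _ (1 - (d : ℤ)) (a - i) (by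
      have := Int.self_le_toNat (1 - (a - i))
      omega)
  have hkill : ∀ j' : ℕ, Kills J ((hdt T).obj ((K⟦i⟧)⟦(-(j' : ℤ))⟧)) := by
    intro j'
    let e1 : K⟦i - j'⟧ ≅ (K⟦i⟧)⟦(-(j' : ℤ))⟧ :=
      (shiftFunctorAdd' (Dual.D A) i (-(j' : ℤ)) (i - j') (by ring)).app K
    exact (hJ (i - j') (by omega)).of_equiv ((hdt T).mapIso e1).toLinearEquiv
  have hV : ∀ k : ℕ, PrimeSpectrum.zeroLocus ((q.asIdeal ^ k : Ideal A) : Set A) ⊆ T := by
    intro k r hr
    by_cases hk : k = 0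
    · subst hk
      rw [pow_zero, Ideal.one_eq_top, PrimeSpectrum.mem_zeroLocus, SetLike.coe_subset_coe] at hr
      exact absurd (top_le_iff.1 hr) r.isPrime.ne_top
    · rw [PrimeSpectrum.zeroLocus_pow _ hk, PrimeSpectrum.mem_zeroLocus,
        SetLike.coe_subset_coe] at hr
      exact hT ((PrimeSpectrum.le_iff_specializes q r).1 hr) hq
  have hc : f ^ d ∈ J ^ d := Ideal.pow_mem_pow hfJ d
  have hcp : f ^ d ∉ p.asIdeal := fun h => hfp (p.isPrime.mem_of_pow_mem d h)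
  have hunif : ∀ (k : ℕ) (x : Dual.inD A (A ⧸ q.asIdeal ^ k) ⟶ K⟦i⟧), (f ^ d) • x = 0 := by
    intro k x
    exact uniform_kill J d (K⟦i⟧) hKd hkill (A ⧸ q.asIdeal ^ k) (q.asIdeal ^ k) (hV k)
      (fun a ha y => by
        obtain ⟨w, rfl⟩ := Submodule.Quotient.mk_surjective _ y
        change Submodule.Quotient.mk (a • w) = (0 : A ⧸ q.asIdeal ^ k)
        rw [Submodule.Quotient.mk_eq_zero]
        exact Ideal.mul_mem_right _ _ ha) x (f ^ d) hc
  -- pass to the local ring at `q`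
  haveI : IsNoetherianRing (Localization.AtPrime q.asIdeal) :=
    IsLocalization.isNoetherianRing q.asIdeal.primeCompl _ inferInstance
  have hloc : ∀ (k : ℕ) (g : Dual.inD (Localization.AtPrime q.asIdeal)
      (Localization.AtPrime q.asIdeal ⧸ IsLocalRing.maximalIdeal (Localization.AtPrime q.asIdeal) ^ k) ⟶
      ((E A (Localization.AtPrime q.asIdeal)).obj K)⟦i⟧),
      algebraMap A (Localization.AtPrime q.asIdeal) (f ^ d) • g = 0 := by
    intro k
    refine smul_hom_quot_congr _ ((q.asIdeal ^ k).map (algebraMap A (Localization.AtPrime q.asIdeal)))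
      _ (by rw [Ideal.map_pow, Localization.AtPrime.map_eq_maximalIdeal]) _ (fun g => ?_)
    have h1 := smul_hom_E_eq_zero (B := Localization.AtPrime q.asIdeal) (K⟦i⟧) (a - i)
      (Dual.inD A (A ⧸ q.asIdeal ^ k)) (isPC'_inD _) (f ^ d) (hunif k)
      ((EQuotIso (q.asIdeal ^ k)).hom ≫ g ≫ (EShiftIso K i).inv)
    rw [← Linear.comp_smul, ← Linear.smul_comp] at h1
    have h2 : (algebraMap A (Localization.AtPrime q.asIdeal) (f ^ d) • g) ≫ (EShiftIso K i).inv = 0 := by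
      rw [← cancel_epi (EQuotIso (B := Localization.AtPrime q.asIdeal) (q.asIdeal ^ k)).hom, h1,
        comp_zero]
    rw [← cancel_mono (EShiftIso (B := Localization.AtPrime q.asIdeal) K i).inv, h2, zero_comp]
  have hann : algebraMap A (Localization.AtPrime q.asIdeal) (f ^ d) ∈
      Module.annihilator (Localization.AtPrime q.asIdeal)
        ((hdi (IsLocalRing.maximalIdeal (Localization.AtPrime q.asIdeal))).obj
          (((E A (Localization.AtPrime q.asIdeal)).obj K)⟦i⟧)) := by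
    rw [Module.mem_annihilator]
    intro ξ
    obtain ⟨k, x, rfl⟩ := hj_surj ξ
    rw [← map_smul, hloc k x, map_zero]
  rw [annihilator_hdi_E ω hω n hn q K a hK i, Module.mem_annihilator] at hann
  exact not_mem_support_of_smul_eq_zero ω hω q K hK (n q - i) (f ^ d) hann p hpq hcp

end Groth.Agent.H4.FA3
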