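import Mathlib
import Groth.Agent.H4.FA3

set_option autoImplicit false
universe u
open CategoryTheory Category Limits Pretriangulated

namespace Groth.Agent.H4.FA4

attribute [local instance] HasDerivedCategory.standard
attribute [local instance] Groth.Agent.H4.LK4.hasLTen Groth.Agent.H4.LK5.hasLTen₃
  Groth.Agent.H4.KI7.isSymMonoidal Groth.Agent.H4.KI6.hasRHom

open DRing DTen DerivedCategory Groth.Agent.H4.DThick Groth.Agent.H4.DCompl1 Groth.Agent.H4.CF1
  Groth.Agent.H4.InjAmp Groth.Agent.H4.DZ1 Groth.Agent.H4.DZ2 Groth.Agent.H4.DZ3 Groth.Agent.H4.DZ4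
  Groth.Agent.H4.DZ5 Groth.Agent.H4.DZ6 Groth.Agent.H4.ProjAmp Groth.Agent.H4.US8 Groth.Agent.H4.US9
  Groth.Agent.H4.US10 Groth.Agent.H4.US11 Groth.Agent.H4.US12 Groth.Agent.H4.US13
  Groth.Agent.H4.US14 Groth.Agent.H4.FB1 Groth.Agent.H4.FB2 Groth.Agent.H4.FB3
  Groth.Agent.H4.DRing1 Groth.Agent.H4.TL1 Groth.Agent.H4.TL3 Groth.Agent.H4.TL4
  Groth.Agent.H4.FA1 Groth.Agent.H4.FA2 Groth.Agent.H4.FA3 Groth.Agent.H4.LD3

open scoped Pointwise TensorProduct

variable {A : Type u} [CommRing A]

section dev

variable [IsNoetherianRing A]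

/-- **dévissage by supports**: `Hom(N, Z) = 0` for all finite `N` supported in `S` as soon as this
holds for the `A/q`, `q ∈ S`. -/
theorem subsingleton_hom_of_support (S : Set (PrimeSpectrum A)) (Z : Dual.D A)
    (h : ∀ q ∈ S, Subsingleton (Dual.inD A (A ⧸ q.asIdeal) ⟶ Z))
    (N : Type u) [AddCommGroup N] [Module A N] [hN : Module.Finite A N] :
    Module.support A N ⊆ S → Subsingleton (Dual.inD A N ⟶ Z) := by
  induction hN using IsNoetherianRing.induction_on_isQuotientEquivQuotientPrime A with
  | subsingleton N =>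
    intro _
    exact subsingleton_hom_of_subsingleton Z N
  | quotient N p' e =>
    intro hS
    have hp' : p' ∈ Module.support A N := by
      rw [e.support_eq, Module.support_eq_zeroLocus, Ideal.annihilator_quotient,
        PrimeSpectrum.mem_zeroLocus]
    exact subsingleton_hom_of_linearEquiv Z e (h p' (hS hp'))
  | exact N₁ N₂ N₃ f g hf hg hfg h1 h3 =>
    intro hS
    exact subsingleton_hom_of_exact Z N₁ N₂ N₃ f g hf hg hfg
      (h1 ((Module.support_subset_of_injective f hf).trans hS))
      (h3 ((Module.support_subset_of_surjective g hg).trans hS))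

end dev

section kb

variable {T : Set (PrimeSpectrum A)}

/-- an element killing a module kills the corresponding single object -/
lemma smul_id_single_eq_zero (n : ℤ) (M : ModuleCat.{u} A) (a : A) (h : ∀ y : M, a • y = 0) :
    a • 𝟙 ((singleFunctor (ModuleCat.{u} A) n).obj M) = 0 := by
  have h0 : a • 𝟙 M = 0 := by
    ext y
    exact h y
  rw [← CategoryTheory.Functor.map_id, ← Functor.map_smul, h0, Functor.map_zero]

lemma kills_hdt_of_smul_id_eq_zero (J : Ideal A) (Z : Dual.D A) (h : ∀ a ∈ J, a • 𝟙 Z = 0)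
    (i : ℤ) : Kills J ((hdt T).obj (Z⟦i⟧)) := by
  intro a ha ξ
  rw [← hdt_map_smul_id]
  have : a • 𝟙 (Z⟦i⟧) = 0 := by
    rw [← CategoryTheory.Functor.map_id, ← Functor.map_smul, h a ha, Functor.map_zero]
  rw [this, Functor.map_zero]
  rfl

/-- a bounded object whose cohomology is killed by `J` has local cohomology killed by a power of
`J`. -/
theorem kills_hdt_of_kills_homology (J : Ideal A) : ∀ (d : ℕ) (Y : Dual.D A) (u : ℤ), Y.IsGE u →
    Y.IsLE (u + d - 1) → (∀ k : ℤ, Kills J (Dual.HD A Y k)) →
    ∀ i : ℤ, Kills (J ^ d) ((hdt T).obj (Y⟦i⟧)) := by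
  intro d
  induction d with
  | zero =>
    intro Y u hge hle _ i
    haveI := hge
    haveI : Y.IsLE (u - 1) := by simpa using hle
    have hz : IsZero Y := (tR A).isZero Y (u - 1) u (by omega)
    have hz' : IsZero ((hdt T).obj (Y⟦i⟧)) :=
      (hdt T).map_isZero ((shiftFunctor (Dual.D A) i).map_isZero hz)
    haveI := ModuleCat.subsingleton_of_isZero hz'
    exact Kills.of_subsingleton _ _
  | succ d ih =>
    intro Y u hge hle hk i
    haveI := hge
    haveI : Y.IsLE (u + d) := by
      have e : u + ((d + 1 : ℕ) : ℤ) - 1 = u + d := by push_cast; ring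
      rwa [e] at hle
    let n : ℤ := u + d
    let Tr := ((tR A).triangleLTGE n).obj Y
    have hT : Tr ∈ distinguishedTriangles := (tR A).triangleLTGE_distinguished n Y
    haveI : Tr.obj₃.IsGE n := inferInstanceAs ((tR A).IsGE (((tR A).truncGE n).obj Y) n)
    haveI : Tr.obj₃.IsLE n := inferInstanceAs ((tR A).IsLE (((tR A).truncGE n).obj Y) n)
    haveI h1le : Tr.obj₁.IsLE (n - 1) :=
      inferInstanceAs ((tR A).IsLE (((tR A).truncLT n).obj Y) (n - 1))
    haveI h1ge : Tr.obj₁.IsGE u := inferInstanceAs ((tR A).IsGE (((tR A).truncLT n).obj Y) u)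
    have h1 : Kills (J ^ d) ((hdt T).obj (Tr.obj₁⟦i⟧)) := by
      refine ih Tr.obj₁ u h1ge (by simpa [n] using h1le) (fun k => ?_) i
      by_cases hkn : k < n
      · have hiso : IsIso ((homologyFunctor (ModuleCat.{u} A) k).map Tr.mor₁) :=
          isIso_homology_mor₁ Tr hT n k hkn
        let e1 : (homologyFunctor (ModuleCat.{u} A) k).obj Tr.obj₁ ≅
            (homologyFunctor (ModuleCat.{u} A) k).obj Y :=
          @asIso _ _ _ _ ((homologyFunctor (ModuleCat.{u} A) k).map Tr.mor₁) hiso
        exact (hk k).of_equiv e1.toLinearEquiv.symm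
      · haveI := ModuleCat.subsingleton_of_isZero (isZero_of_isLE Tr.obj₁ (n - 1) k (by omega))
        exact Kills.of_subsingleton _ _
    have h3 : Kills J ((hdt T).obj (Tr.obj₃⟦i⟧)) := by
      obtain ⟨e⟩ := Groth.Agent.H4.PC.exists_iso_single Tr.obj₃ n
      have hiso : IsIso ((homologyFunctor (ModuleCat.{u} A) n).map Tr.mor₂) :=
        isIso_homology_mor₂ Tr hT n n le_rfl
      let e2 : (homologyFunctor (ModuleCat.{u} A) n).obj Y ≅
          (homologyFunctor (ModuleCat.{u} A) n).obj Tr.obj₃ :=
        @asIso _ _ _ _ ((homologyFunctor (ModuleCat.{u} A) n).map Tr.mor₂) hiso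
      have hk3 : Kills J ((homologyFunctor (ModuleCat.{u} A) n).obj Tr.obj₃) :=
        (hk n).of_equiv e2.toLinearEquiv
      refine kills_hdt_of_smul_id_eq_zero J Tr.obj₃ (fun a ha => ?_) i
      have h0 := smul_id_single_eq_zero n ((homologyFunctor (ModuleCat.{u} A) n).obj Tr.obj₃) a
        (hk3 a ha)
      rw [← cancel_epi e.inv, ← cancel_mono e.hom, comp_zero, zero_comp, Linear.comp_smul,
        Linear.smul_comp, comp_id, e.inv_hom_id]
      exact h0
    have := kills_obj₂ i Tr hT h1 h3
    rw [pow_succ]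
    exact this

end kb

section dp

variable [IsNoetherianRing A] {T : Set (PrimeSpectrum A)}

/-- transport of vanishing along an equality of ideals -/
lemma subsingleton_hom_quot_congr {B : Type u} [CommRing B] (Y : Dual.D B) (I I' : Ideal B)
    (h : I = I') (hs : Subsingleton (Dual.inD B (B ⧸ I) ⟶ Y)) :
    Subsingleton (Dual.inD B (B ⧸ I') ⟶ Y) := by
  subst h
  exact hs

lemma support_quotient_prime_subset (hT : StableUnderSpecialization T) (q : PrimeSpectrum A)
    (hq : q ∈ T) : Module.support A (A ⧸ q.asIdeal) ⊆ T := by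
  intro r hr
  rw [Module.support_eq_zeroLocus, Ideal.annihilator_quotient, PrimeSpectrum.mem_zeroLocus,
    SetLike.coe_subset_coe] at hr
  exact hT ((PrimeSpectrum.le_iff_specializes q r).1 hr) hq

/-- **depth can be tested at the primes of `T`**: if the local cohomology of `Y_q` at the maximal
ideal vanishes in degrees `≤ s` for all `q ∈ T`, then `Ext^i(P, Y) = 0` for `i ≤ s` and all finite
modules `P` supported in `T`. -/
theorem subsingleton_hom_of_depth (hT : StableUnderSpecialization T) (Y : Dual.D A) (a : ℤ)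
    [Y.IsGE a] (s : ℤ)
    (hdepth : ∀ q ∈ T, ∀ i : ℤ, i ≤ s → Subsingleton
      ((hdi (IsLocalRing.maximalIdeal (Localization.AtPrime q.asIdeal))).obj
        (((E A (Localization.AtPrime q.asIdeal)).obj Y)⟦i⟧))) :
    ∀ (d : ℕ) (i : ℤ), i ≤ s → i < a + d → ∀ (P : Type u) [AddCommGroup P] [Module A P]
      [Module.Finite A P], Module.support A P ⊆ T → Subsingleton (Dual.inD A P ⟶ Y⟦i⟧) := by
  intro d
  induction d with
  | zero =>
    intro i _ hid P _ _ _ _
    haveI : (Y⟦i⟧).IsGE (a - i) := TStructure.t.isGE_shift Y a i (a - i) (by ring)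
    haveI : (Y⟦i⟧).IsGE 1 := (tR A).isGE_of_ge _ 1 (a - i) (by simp at hid; omega)
    haveI : (Dual.inD A P).IsLE 0 :=
      inferInstanceAs (((singleFunctor (ModuleCat.{u} A) 0).obj _).IsLE 0)
    exact ⟨fun f g => ((tR A).zero f 0 1 (by omega)).trans ((tR A).zero g 0 1 (by omega)).symm⟩
  | succ d ih =>
    intro i his hid P _ _ _ hP
    haveI hYi : (Y⟦i⟧).IsGE (a - i) := TStructure.t.isGE_shift Y a i (a - i) (by ring)
    refine subsingleton_hom_of_support T (Y⟦i⟧) ?_ P hP
    have hwf : WellFounded ((· > ·) : PrimeSpectrum A → PrimeSpectrum A → Prop) :=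
      InvImage.wf (fun c : PrimeSpectrum A => c.asIdeal) (wellFounded_gt (α := Ideal A))
    intro q
    induction q using hwf.induction with
    | _ q ihq =>
    intro hq
    by_contra hns
    rw [not_subsingleton_iff_nontrivial] at hns
    obtain ⟨x, hx⟩ := exists_ne (0 : Dual.inD A (A ⧸ q.asIdeal) ⟶ Y⟦i⟧)
    haveI := q.isPrime
    -- B1: elements outside `q` act injectively
    have hinj : ∀ f : A, f ∉ q.asIdeal → ∀ φ : Dual.inD A (A ⧸ q.asIdeal) ⟶ Y⟦i⟧,
        f • φ = 0 → φ = 0 := by
      intro f hf φ hφ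
      refine eq_zero_of_smul_eq_zero (Y⟦i⟧) (A ⧸ q.asIdeal) f
        (isSMulRegular_quotient_prime q.asIdeal f hf) ?_ φ hφ
      refine subsingleton_hom_of_support {q' | q < q'} (Y⟦i⟧)
        (fun q' hq' => ihq q' hq'
          (hT ((PrimeSpectrum.le_iff_specializes q q').1 (le_of_lt hq')) hq)) _ ?_
      intro r hr
      rw [mem_support_quotSMulTop_quotient] at hr
      refine lt_of_le_of_ne hr.1 ?_
      rintro rfl
      exact hf hr.2
    -- B2
    have hsupp : q ∈ Module.support A (Dual.inD A (A ⧸ q.asIdeal) ⟶ Y⟦i⟧) := by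
      rw [Module.mem_support_iff_exists_annihilator]
      refine ⟨x, fun f hf => ?_⟩
      by_contra hfq
      rw [Submodule.mem_annihilator_span_singleton] at hf
      exact hx (hinj f hfq x hf)
    -- B3, B4
    haveI : IsNoetherianRing (Localization.AtPrime q.asIdeal) :=
      IsLocalization.isNoetherianRing q.asIdeal.primeCompl _ inferInstance
    have hnt := (nontrivial_hom_E_iff q (Dual.inD A (A ⧸ q.asIdeal)) (Y⟦i⟧) (a - i)
      (isPC'_inD _)).2 hsupp
    rw [((EQuotIso (B := Localization.AtPrime q.asIdeal) q.asIdeal).homCongr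
      (EShiftIso Y i)).nontrivial_congr,
      nontrivial_hom_congr_of_eq _ _
        (IsLocalRing.maximalIdeal (Localization.AtPrime q.asIdeal) ^ 1)
        (by rw [pow_one, Localization.AtPrime.map_eq_maximalIdeal])] at hnt
    obtain ⟨x', hx'⟩ := exists_ne (0 : Dual.inD (Localization.AtPrime q.asIdeal)
      (Localization.AtPrime q.asIdeal ⧸
        IsLocalRing.maximalIdeal (Localization.AtPrime q.asIdeal) ^ 1) ⟶
      ((E A (Localization.AtPrime q.asIdeal)).obj Y)⟦i⟧)
    -- B5
    have hne : hj (IsLocalRing.maximalIdeal (Localization.AtPrime q.asIdeal)) 1 _ x' ≠ 0 := by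
      intro h0
      obtain ⟨k, h1k, hk0⟩ := (hj_eq_zero_iff x').1 h0
      -- the short exact sequence `0 → L → B/m^k → B/m → 0`
      let π := qProj (IsLocalRing.maximalIdeal (Localization.AtPrime q.asIdeal)) h1k
      let L := LinearMap.ker π
      let S : ShortComplex (ModuleCat.{u} (Localization.AtPrime q.asIdeal)) :=
        ShortComplex.mk (ModuleCat.ofHom L.subtype) (ModuleCat.ofHom π) (by
          ext y
          exact y.2)
      have hex : Function.Exact L.subtype π := by
        intro y
        constructor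
        · intro hy
          exact ⟨⟨y, hy⟩, rfl⟩
        · rintro ⟨z, rfl⟩
          exact z.2
      have hS : S.ShortExact :=
        ModuleCat.shortComplex_shortExact S hex (Submodule.injective_subtype _)
          (qProj_surjective _ h1k)
      have hTr := hS.singleTriangle_distinguished
      obtain ⟨y, hy⟩ := Triangle.yoneda_exact₃ _ hTr x' hk0
      -- `Hom(L[1], (E Y)[i]) = 0`
      let ZB : Dual.D (Localization.AtPrime q.asIdeal) :=
        (((E A (Localization.AtPrime q.asIdeal)).obj Y)⟦i⟧)⟦(-1 : ℤ)⟧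
      haveI : IsNoetherian (Localization.AtPrime q.asIdeal)
          (Localization.AtPrime q.asIdeal ⧸
            IsLocalRing.maximalIdeal (Localization.AtPrime q.asIdeal) ^ k) :=
        isNoetherian_of_isNoetherianRing_of_finite _ _
      haveI : Module.Finite (Localization.AtPrime q.asIdeal) L := Module.IsNoetherian.finite _ _
      have hLsupp : Module.support (Localization.AtPrime q.asIdeal) L ⊆
          {IsLocalRing.closedPoint (Localization.AtPrime q.asIdeal)} := by
        intro r hr
        have hr' := Module.support_subset_of_injective L.subtype (Submodule.injective_subtype _) hr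
        rw [Module.support_eq_zeroLocus, Ideal.annihilator_quotient,
          PrimeSpectrum.zeroLocus_pow _ (by omega : k ≠ 0), PrimeSpectrum.mem_zeroLocus,
          SetLike.coe_subset_coe] at hr'
        rw [Set.mem_singleton_iff]
        exact le_antisymm (IsLocalRing.le_maximalIdeal r.isPrime.ne_top) hr'
      have hκ : Subsingleton (Dual.inD (Localization.AtPrime q.asIdeal)
          (Localization.AtPrime q.asIdeal ⧸
            (IsLocalRing.closedPoint (Localization.AtPrime q.asIdeal)).asIdeal) ⟶ ZB) := by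
        have h1 : Subsingleton (Dual.inD A (A ⧸ q.asIdeal) ⟶ Y⟦i - 1⟧) :=
          ih (i - 1) (by omega) (by push_cast at hid; omega) (A ⧸ q.asIdeal)
            (support_quotient_prime_subset hT q hq)
        haveI : (Y⟦i - 1⟧).IsGE (a - (i - 1)) :=
          TStructure.t.isGE_shift Y a (i - 1) (a - (i - 1)) (by ring)
        have h2 := subsingleton_hom_E (B := Localization.AtPrime q.asIdeal) (Y⟦i - 1⟧)
          (a - (i - 1)) (Dual.inD A (A ⧸ q.asIdeal)) (isPC'_inD _) h1
        let e1 : (E A (Localization.AtPrime q.asIdeal)).obj (Y⟦i - 1⟧) ≅ ZB :=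
          EShiftIso Y (i - 1) ≪≫ (shiftFunctorAdd' (Dual.D (Localization.AtPrime q.asIdeal)) i (-1)
            (i - 1) (by ring)).app _
        have h3 : Subsingleton (Dual.inD (Localization.AtPrime q.asIdeal)
            (Localization.AtPrime q.asIdeal ⧸
              q.asIdeal.map (algebraMap A (Localization.AtPrime q.asIdeal))) ⟶ ZB) :=
          ((EQuotIso (B := Localization.AtPrime q.asIdeal) q.asIdeal).homCongr e1).symm.subsingleton
        exact subsingleton_hom_quot_congr ZB _ _ Localization.AtPrime.map_eq_maximalIdeal h3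
      have hLZ : Subsingleton (Dual.inD (Localization.AtPrime q.asIdeal) L ⟶ ZB) :=
        subsingleton_hom_of_support {IsLocalRing.closedPoint (Localization.AtPrime q.asIdeal)} ZB
          (fun r hr => by
            rw [Set.mem_singleton_iff] at hr
            subst hr
            exact hκ) L hLsupp
      let y' : (Dual.inD (Localization.AtPrime q.asIdeal) L)⟦(1 : ℤ)⟧ ⟶
        ((E A (Localization.AtPrime q.asIdeal)).obj Y)⟦i⟧ := y
      have hy0 : y' = 0 := by
        apply (Groth.Agent.H4.DZ2.shiftHomLinEquiv (Dual.inD (Localization.AtPrime q.asIdeal) L)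
          (((E A (Localization.AtPrime q.asIdeal)).obj Y)⟦i⟧) 1 (-1) (by norm_num)).injective
        exact @Subsingleton.elim _ hLZ _ _
      have hy0' : y = 0 := hy0
      apply hx'
      rw [hy, hy0']
      exact comp_zero
    haveI := hdepth q hq i his
    exact hne (Subsingleton.elim _ _)

end dp

end Groth.Agent.H4.FA4
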