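import Mathlib
import Groth.Agent.H4.FA4

set_option autoImplicit false
universe u
open CategoryTheory Category Limits Pretriangulated

namespace Groth.Agent.H4.FA5

attribute [local instance] HasDerivedCategory.standard
attribute [local instance] Groth.Agent.H4.LK4.hasLTen Groth.Agent.H4.LK5.hasLTen₃
  Groth.Agent.H4.KI7.isSymMonoidal Groth.Agent.H4.KI6.hasRHom

open DRing DTen DerivedCategory Groth.Agent.H4.DThick Groth.Agent.H4.DCompl1 Groth.Agent.H4.CF1
  Groth.Agent.H4.InjAmp Groth.Agent.H4.DZ1 Groth.Agent.H4.DZ2 Groth.Agent.H4.DZ3 Groth.Agent.H4.DZ4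
  Groth.Agent.H4.DZ5 Groth.Agent.H4.DZ6 Groth.Agent.H4.ProjAmp Groth.Agent.H4.US8 Groth.Agent.H4.US9
  Groth.Agent.H4.US10 Groth.Agent.H4.US11 Groth.Agent.H4.US12 Groth.Agent.H4.US13
  Groth.Agent.H4.US14 Groth.Agent.H4.FB1 Groth.Agent.H4.FB2 Groth.Agent.H4.FB3
  Groth.Agent.H4.DRing1 Groth.Agent.H4.TL1 Groth.Agent.H4.TL3 Groth.Agent.H4.TL4
  Groth.Agent.H4.FA1 Groth.Agent.H4.FA2 Groth.Agent.H4.FA3 Groth.Agent.H4.FA4 Groth.Agent.H4.LD3
  Groth.Agent.H4.HC6

open scoped Pointwise TensorProduct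

variable {A : Type u} [CommRing A] [IsNoetherianRing A]

section torsion

variable {T' : Set (PrimeSpectrum A)}

/-- the quotient by the `T'`-torsion is `T'`-torsion free -/
lemma gamT_quotient_eq_bot (N : Type u) [AddCommGroup N] [Module A N] [Module.Finite A N] :
    gamT T' (N ⧸ gamT T' N) = ⊥ := by
  rw [eq_bot_iff]
  intro xb hxb
  obtain ⟨x, rfl⟩ := Submodule.Quotient.mk_surjective _ xb
  obtain ⟨J, hJ, hJx⟩ := hxb
  obtain ⟨J₀, hJ₀, hJ₀k⟩ := exists_ideal_kills_gamT (T := T') N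
  rw [Submodule.mem_bot, Submodule.Quotient.mk_eq_zero]
  refine ⟨J₀ * J, ?_, fun c hc => ?_⟩
  · rw [PrimeSpectrum.zeroLocus_mul]
    exact Set.union_subset hJ₀ hJ
  · refine Submodule.mul_induction_on hc (fun a ha b hb => ?_) (fun y z hy hz => ?_)
    · have h1 : b • x ∈ gamT T' N := by
        have := hJx b hb
        rwa [← Submodule.Quotient.mk_smul, Submodule.Quotient.mk_eq_zero] at this
      rw [mul_smul]
      exact hJ₀k a ha _ h1
    · rw [add_smul, hy, hz, add_zero]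

/-- the support of the torsion free quotient: every point of the support has a generization in
the support outside `T'`. -/
lemma exists_le_not_mem_of_mem_support (hT' : StableUnderSpecialization T')
    (N : Type u) [AddCommGroup N] [Module A N] [Module.Finite A N] (q : PrimeSpectrum A)
    (hq : q ∈ Module.support A (N ⧸ gamT T' N)) :
    ∃ p : PrimeSpectrum A, p ≤ q ∧ p ∉ T' ∧ p ∈ Module.support A N := by
  rw [Module.mem_support_iff_of_finite] at hq
  obtain ⟨p, hpmin, hpq⟩ := Ideal.exists_minimalPrimes_le hq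
  have hass := Module.associatedPrimes.minimalPrimes_annihilator_subset_associatedPrimes A
    (N ⧸ gamT T' N) hpmin
  have hpp : p.IsPrime := hpmin.1.1
  rw [AssociatedPrimes.mem_iff, isAssociatedPrime_iff] at hass
  obtain ⟨-, x, hx⟩ := hass
  refine ⟨⟨p, hpp⟩, hpq, fun hpT' => ?_, ?_⟩
  · -- `x` is `T'`-torsion
    have hx0 : x ∈ gamT T' (N ⧸ gamT T' N) := by
      refine ⟨p, ?_, fun a ha => ?_⟩
      · intro r hr
        rw [PrimeSpectrum.mem_zeroLocus, SetLike.coe_subset_coe] at hr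
        exact hT' ((PrimeSpectrum.le_iff_specializes ⟨p, hpp⟩ r).1 hr) hpT'
      · rw [hx, Submodule.mem_colon_singleton, Submodule.mem_bot] at ha
        exact ha
    rw [gamT_quotient_eq_bot, Submodule.mem_bot] at hx0
    rw [hx0] at hx
    have : p = ⊤ := by
      rw [hx, Ideal.eq_top_iff_one, Submodule.mem_colon_singleton, smul_zero]
      exact Submodule.zero_mem _
    exact hpp.ne_top this
  · have h1 : (⟨p, hpp⟩ : PrimeSpectrum A) ∈ Module.support A (N ⧸ gamT T' N) := by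
      rw [Module.mem_support_iff_of_finite]
      exact hpmin.1.2
    exact Module.support_subset_of_surjective _ (Submodule.mkQ_surjective (gamT T' N)) h1

end torsion

section single

/-- the shifted module `N[-n₀]` -/
noncomputable abbrev sh (A : Type u) [CommRing A] (N : Type u) [AddCommGroup N] [Module A N]
    (n₀ : ℤ) : Dual.D A :=
  (Dual.inD A N)⟦(-n₀ : ℤ)⟧

omit [IsNoetherianRing A] in
lemma subsingleton_HD_sh (N : Type u) [AddCommGroup N] [Module A N] (n₀ j : ℤ) (hj : j ≠ n₀) :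
    Subsingleton (Dual.HD A (sh A N n₀) j) := by
  haveI : Subsingleton (((homologyFunctor (ModuleCat.{u} A) 0).shift (-n₀ + j)).obj
      (Dual.inD A N)) := subsingleton_HD_inD N (-n₀ + j) (by omega)
  exact (((homologyFunctor (ModuleCat.{u} A) 0).shiftIso (-n₀) j (-n₀ + j)
    rfl).app (Dual.inD A N)).toLinearEquiv.toEquiv.subsingleton

omit [IsNoetherianRing A] in
lemma nonempty_HD_sh_equiv (N : Type u) [AddCommGroup N] [Module A N] (n₀ : ℤ) :
    Nonempty (Dual.HD A (sh A N n₀) n₀ ≃ₗ[A] N) := by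
  obtain ⟨e⟩ := nonempty_HD_inD_zero (A := A) N
  exact ⟨(((homologyFunctor (ModuleCat.{u} A) 0).shiftIso (-n₀) n₀ 0
    (by omega)).app (Dual.inD A N)).toLinearEquiv ≪≫ₗ e⟩

omit [IsNoetherianRing A] in
lemma finite_HD_sh (N : Type u) [AddCommGroup N] [Module A N] [Module.Finite A N] (n₀ j : ℤ) :
    Module.Finite A (Dual.HD A (sh A N n₀) j) :=
  finite_HD_shift (Dual.inD A N) (finite_HD_inD N) (-n₀) j

omit [IsNoetherianRing A] in
lemma isLE_sh (N : Type u) [AddCommGroup N] [Module A N] (n₀ : ℤ) : (sh A N n₀).IsLE n₀ := by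
  haveI : (Dual.inD A N).IsLE 0 :=
    inferInstanceAs (((singleFunctor (ModuleCat.{u} A) 0).obj _).IsLE 0)
  exact (tR A).isLE_shift (Dual.inD A N) 0 (-n₀) n₀ (by omega)

omit [IsNoetherianRing A] in
lemma isGE_sh (N : Type u) [AddCommGroup N] [Module A N] (n₀ : ℤ) : (sh A N n₀).IsGE n₀ := by
  haveI : (Dual.inD A N).IsGE 0 :=
    inferInstanceAs (((singleFunctor (ModuleCat.{u} A) 0).obj _).IsGE 0)
  exact (tR A).isGE_shift (Dual.inD A N) 0 (-n₀) n₀ (by omega)

omit [IsNoetherianRing A] in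
lemma smul_id_sh_eq_zero (N : Type u) [AddCommGroup N] [Module A N] (n₀ : ℤ) (a : A)
    (h : ∀ y : N, a • y = 0) : a • 𝟙 (sh A N n₀) = 0 := by
  have h0 := smul_id_single_eq_zero 0 (ModuleCat.of A N) a h
  change a • 𝟙 ((shiftFunctor (Dual.D A) (-n₀)).obj (Dual.inD A N)) = 0
  rw [← CategoryTheory.Functor.map_id, ← Functor.map_smul]
  have : a • 𝟙 (Dual.inD A N) = 0 := h0
  rw [this, Functor.map_zero]

end single

section dual

variable (ω : Dual.D A) (hω : Dual.IsDualizing A ω)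
  (n : PrimeSpectrum A → ℤ)
  (hn : ∀ (p : PrimeSpectrum A) (i : ℤ),
    p ∈ Module.support A (Dual.inD A (A ⧸ p.asIdeal) ⟶ ω⟦i⟧) ↔ i = n p)
  {T T' : Set (PrimeSpectrum A)}

/-- `D X = RHom(X, ω)` -/
noncomputable abbrev Dd (ω X : Dual.D A) : Dual.D A := (RHomR A X).obj ω

omit [IsNoetherianRing A] in
lemma zeroLocus_pow_subset (J : Ideal A) (d : ℕ)
    (hJ : PrimeSpectrum.zeroLocus (J : Set A) ⊆ T') :
    PrimeSpectrum.zeroLocus ((J ^ d : Ideal A) : Set A) ⊆ T' := by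
  by_cases hd : d = 0
  · subst hd
    rw [pow_zero, Ideal.one_eq_top]
    intro r hr
    rw [PrimeSpectrum.mem_zeroLocus, SetLike.coe_subset_coe] at hr
    exact absurd (top_le_iff.1 hr) r.isPrime.ne_top
  · rw [PrimeSpectrum.zeroLocus_pow _ hd]
    exact hJ

include hω in
/-- the torsion part: the dual of a module killed by `J'` has local cohomology killed by a power
of `J'`. -/
theorem kills_dual_torsion (N' : Type u) [AddCommGroup N'] [Module A N'] [Module.Finite A N']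
    (n₀ : ℤ) (J' : Ideal A) (hJ' : ∀ a ∈ J', ∀ y : N', a • y = 0) :
    ∃ d : ℕ, ∀ i : ℤ, Kills (J' ^ d) ((hdt T).obj ((Dd ω (sh A N' n₀))⟦i⟧)) := by
  obtain ⟨a, b, hab⟩ := exists_injAmp_of_isDualizing ω hω
  haveI := isGE_of_injAmp ω a b hab
  haveI := isLE_sh (A := A) N' n₀
  haveI := isGE_sh (A := A) N' n₀
  haveI h1 : (Dd ω (sh A N' n₀)).IsGE (a - n₀) := Groth.Agent.H4.AP2.isGE_RHom _ ω n₀ a
  haveI h2 : (Dd ω (sh A N' n₀)).IsLE (b - n₀) :=
    Groth.Agent.H4.AP2.isLE_RHom_of_injAmp _ ω n₀ a b hab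
  let d : ℕ := (b - a + 1).toNat
  refine ⟨d, kills_hdt_of_kills_homology J' d _ (a - n₀) h1 ?_ (fun k => ?_)⟩
  · exact (tR A).isLE_of_le _ (b - n₀) _ (by
      have := Int.self_le_toNat (b - a + 1)
      omega)
  · obtain ⟨e⟩ := nonempty_extLinEquiv (sh A N' n₀) ω k
    refine Kills.of_equiv e.symm ?_
    intro c hc φ
    have h0 := smul_id_sh_eq_zero N' n₀ c (hJ' c hc)
    have : c • φ = (c • 𝟙 (sh A N' n₀)) ≫ φ := by rw [Linear.smul_comp, id_comp]
    rw [this, h0, zero_comp]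

include hω hn in
/-- the torsion free part: vanishing of the local cohomology of the dual. -/
theorem subsingleton_hdt_dual (hT : StableUnderSpecialization T) (N : Type u) [AddCommGroup N]
    [Module A N] [Module.Finite A N] (n₀ s : ℤ)
    (hsupp : ∀ q ∈ T, q ∈ Module.support A N → n₀ + s < n q) (i : ℤ) (hi : i ≤ s) :
    Subsingleton ((hdt T).obj ((Dd ω (sh A N n₀))⟦i⟧)) := by
  obtain ⟨a, b, hab⟩ := exists_injAmp_of_isDualizing ω hω
  haveI := isGE_of_injAmp ω a b hab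
  haveI := isLE_sh (A := A) N n₀
  haveI h1 : (Dd ω (sh A N n₀)).IsGE (a - n₀) := Groth.Agent.H4.AP2.isGE_RHom _ ω n₀ a
  have hfin : ∀ k : ℤ, Module.Finite A (Dual.HD A (sh A N n₀) k) := finite_HD_sh N n₀
  have hYfin : ∀ k : ℤ, Module.Finite A (Dual.HD A (Dd ω (sh A N n₀)) k) :=
    finite_HD_RHomR ω hω _ hfin
  obtain ⟨eb⟩ := nonempty_bidual_iso ω hω (sh A N n₀) hfin
  -- depth at the primes of `T`
  have hdepth : ∀ q ∈ T, ∀ i : ℤ, i ≤ s → Subsingleton
      ((hdi (IsLocalRing.maximalIdeal (Localization.AtPrime q.asIdeal))).obj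
        (((E A (Localization.AtPrime q.asIdeal)).obj (Dd ω (sh A N n₀)))⟦i⟧)) := by
    intro q hq i hi
    rw [subsingleton_hdi_E_iff ω hω n hn q (Dd ω (sh A N n₀)) (a - n₀) hYfin i]
    obtain ⟨e1⟩ := nonempty_extLinEquiv (Dd ω (sh A N n₀)) ω (n q - i)
    let e2 : Dual.HD A (Dd ω (Dd ω (sh A N n₀))) (n q - i) ≃ₗ[A] Dual.HD A (sh A N n₀) (n q - i) :=
      ((homologyFunctor (ModuleCat.{u} A) (n q - i)).mapIso eb).toLinearEquiv
    rw [(e1.symm ≪≫ₗ e2).support_eq]
    by_cases hj : n q - i = n₀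
    · rw [hj]
      obtain ⟨e3⟩ := nonempty_HD_sh_equiv (A := A) N n₀
      rw [e3.support_eq]
      intro hqN
      have := hsupp q hq hqN
      omega
    · haveI := subsingleton_HD_sh (A := A) N n₀ (n q - i) hj
      rw [Module.support_eq_empty]
      exact Set.notMem_empty q
  refine ⟨fun ξ ζ => ?_⟩
  have hz : ∀ ξ : (hdt T).obj ((Dd ω (sh A N n₀))⟦i⟧), ξ = 0 := by
    intro ξ
    obtain ⟨J₁, hJ₁, x, rfl⟩ := tj_surj ξ
    have hs := subsingleton_hom_of_depth hT (Dd ω (sh A N n₀)) (a - n₀) s hdepth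
      (i - (a - n₀) + 1).toNat i hi (by
        have := Int.self_le_toNat (i - (a - n₀) + 1)
        omega) (A ⧸ J₁) (by
        rw [Module.support_eq_zeroLocus, Ideal.annihilator_quotient]
        exact hJ₁)
    rw [@Subsingleton.elim _ hs x 0, map_zero]
  rw [hz ξ, hz ζ]

end dual

section main

variable (ω : Dual.D A) (hω : Dual.IsDualizing A ω)
  (n : PrimeSpectrum A → ℤ)
  (hn : ∀ (p : PrimeSpectrum A) (i : ℤ),
    p ∈ Module.support A (Dual.inD A (A ⧸ p.asIdeal) ⟶ ω⟦i⟧) ↔ i = n p)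
  {T T' : Set (PrimeSpectrum A)}

include hω hn in
/-- the case of a single module placed in degree `n₀` -/
theorem exists_kill_single (hT : StableUnderSpecialization T)
    (hT' : StableUnderSpecialization T') (N : Type u) [AddCommGroup N] [Module A N]
    [Module.Finite A N] (n₀ s : ℤ)
    (cond : ∀ q ∈ T, ∀ p : PrimeSpectrum A, p ≤ q → p ∉ T' → n q - s ≤ n₀ →
      p ∉ Module.support A N) :
    ∃ J : Ideal A, PrimeSpectrum.zeroLocus (J : Set A) ⊆ T' ∧
      ∀ i : ℤ, i ≤ s → Kills J ((hdt T).obj ((Dd ω (sh A N n₀))⟦i⟧)) := by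
  haveI : IsNoetherian A N := isNoetherian_of_isNoetherianRing_of_finite A N
  let N' := gamT T' N
  obtain ⟨J', hJ', hJ'k⟩ := exists_ideal_kills_gamT (T := T') N
  have hkill' : ∀ a ∈ J', ∀ y : N', a • y = 0 := fun a ha y => Subtype.ext (hJ'k a ha y.1 y.2)
  obtain ⟨d, hd⟩ := kills_dual_torsion (T := T) ω hω N' n₀ J' hkill'
  -- the torsion free quotient
  have hsupp : ∀ q ∈ T, q ∈ Module.support A (N ⧸ N') → n₀ + s < n q := by
    intro q hq hqN
    by_contra hcon
    obtain ⟨p, hpq, hpT', hpN⟩ := exists_le_not_mem_of_mem_support hT' N q hqN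
    exact cond q hq p hpq hpT' (by omega) hpN
  -- the triangle
  let S : ShortComplex (ModuleCat.{u} A) :=
    ShortComplex.mk (ModuleCat.ofHom N'.subtype) (ModuleCat.ofHom N'.mkQ) (by
      ext y
      change N'.mkQ y.1 = 0
      rw [Submodule.mkQ_apply, Submodule.Quotient.mk_eq_zero]
      exact y.2)
  have hex : Function.Exact N'.subtype N'.mkQ := by
    rw [LinearMap.exact_iff, Submodule.ker_mkQ, Submodule.range_subtype]
  have hS : S.ShortExact :=
    ModuleCat.shortComplex_shortExact S hex (Submodule.injective_subtype _)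
      (Submodule.mkQ_surjective _)
  have hTr := Triangle.shift_distinguished _ hS.singleTriangle_distinguished (-n₀)
  obtain ⟨w, hw⟩ := cpl_RHomMap _ hTr ω
  refine ⟨⊤ * J' ^ d, ?_, fun i hi => ?_⟩
  · rw [PrimeSpectrum.zeroLocus_mul]
    refine Set.union_subset ?_ (zeroLocus_pow_subset J' d hJ')
    intro r hr
    rw [PrimeSpectrum.mem_zeroLocus, SetLike.coe_subset_coe] at hr
    exact absurd (top_le_iff.1 hr) r.isPrime.ne_top
  · have h1 : Kills (⊤ : Ideal A) ((hdt T).obj ((Dd ω (sh A (N ⧸ N') n₀))⟦i⟧)) := by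
      haveI := subsingleton_hdt_dual ω hω n hn hT (N ⧸ N') n₀ s hsupp i hi
      exact Kills.of_subsingleton _ _
    exact kills_obj₂ i _ hw h1 (hd i)

end main

section main2

variable (ω : Dual.D A) (hω : Dual.IsDualizing A ω)
  (n : PrimeSpectrum A → ℤ)
  (hn : ∀ (p : PrimeSpectrum A) (i : ℤ),
    p ∈ Module.support A (Dual.inD A (A ⧸ p.asIdeal) ⟶ ω⟦i⟧) ↔ i = n p)
  {T T' : Set (PrimeSpectrum A)}

omit [IsNoetherianRing A] in
lemma kills_of_iso_dual {X X' : Dual.D A} (e : X' ≅ X) (J : Ideal A) (i : ℤ)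
    (h : Kills J ((hdt T).obj ((Dd ω X)⟦i⟧))) : Kills J ((hdt T).obj ((Dd ω X')⟦i⟧)) :=
  h.of_equiv ((hdt T).mapIso ((shiftFunctor (Dual.D A) i).mapIso (RHomIso e ω))).toLinearEquiv

include hω hn in
/-- bounded complexes, by induction on the amplitude -/
theorem exists_kill_of_bounded (hT : StableUnderSpecialization T)
    (hT' : StableUnderSpecialization T') (s : ℤ) : ∀ (d : ℕ) (X : Dual.D A) (c₀ : ℤ),
    X.IsGE c₀ → X.IsLE (c₀ + d - 1) → (∀ k : ℤ, Module.Finite A (Dual.HD A X k)) →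
    (∀ q ∈ T, ∀ p : PrimeSpectrum A, p ≤ q → p ∉ T' → ∀ j : ℤ, n q - s ≤ j →
      p ∉ Module.support A (Dual.HD A X j)) →
    ∃ J : Ideal A, PrimeSpectrum.zeroLocus (J : Set A) ⊆ T' ∧
      ∀ i : ℤ, i ≤ s → Kills J ((hdt T).obj ((Dd ω X)⟦i⟧)) := by
  intro d
  induction d with
  | zero =>
    intro X c₀ hge hle _ _
    haveI := hge
    haveI : X.IsLE (c₀ - 1) := by simpa using hle
    have hz : IsZero X := (tR A).isZero X (c₀ - 1) c₀ (by omega)
    have hzD : IsZero (Dd ω X) := by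
      apply isZero_of_forall_subsingleton_HD
      intro k
      obtain ⟨e⟩ := nonempty_extLinEquiv X ω k
      haveI : Subsingleton (X ⟶ ω⟦k⟧) := ⟨fun f g => hz.eq_of_src f g⟩
      exact e.toEquiv.subsingleton
    refine ⟨⊤, by simp, fun i _ => ?_⟩
    have hz' : IsZero ((hdt T).obj ((Dd ω X)⟦i⟧)) :=
      (hdt T).map_isZero ((shiftFunctor (Dual.D A) i).map_isZero hzD)
    haveI := ModuleCat.subsingleton_of_isZero hz'
    exact Kills.of_subsingleton _ _
  | succ d ih =>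
    intro X c₀ hge hle hfin cond
    haveI := hge
    haveI : X.IsLE (c₀ + d) := by
      have e : c₀ + ((d + 1 : ℕ) : ℤ) - 1 = c₀ + d := by push_cast; ring
      rwa [e] at hle
    let m : ℤ := c₀ + d
    let Tr := ((tR A).triangleLTGE m).obj X
    have hTr : Tr ∈ distinguishedTriangles := (tR A).triangleLTGE_distinguished m X
    haveI : Tr.obj₃.IsGE m := inferInstanceAs ((tR A).IsGE (((tR A).truncGE m).obj X) m)
    haveI : Tr.obj₃.IsLE m := inferInstanceAs ((tR A).IsLE (((tR A).truncGE m).obj X) m)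
    haveI h1le : Tr.obj₁.IsLE (m - 1) :=
      inferInstanceAs ((tR A).IsLE (((tR A).truncLT m).obj X) (m - 1))
    haveI h1ge : Tr.obj₁.IsGE c₀ := inferInstanceAs ((tR A).IsGE (((tR A).truncLT m).obj X) c₀)
    -- the first vertex
    have hiso1 : ∀ k : ℤ, k < m → Nonempty (Dual.HD A Tr.obj₁ k ≃ₗ[A] Dual.HD A X k) := by
      intro k hk
      have hiso : IsIso ((homologyFunctor (ModuleCat.{u} A) k).map Tr.mor₁) :=
        isIso_homology_mor₁ Tr hTr m k hk
      exact ⟨(@asIso _ _ _ _ ((homologyFunctor (ModuleCat.{u} A) k).map Tr.mor₁)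
        hiso).toLinearEquiv⟩
    have hsub1 : ∀ k : ℤ, ¬ k < m → Subsingleton (Dual.HD A Tr.obj₁ k) := fun k hk =>
      ModuleCat.subsingleton_of_isZero (isZero_of_isLE Tr.obj₁ (m - 1) k (by omega))
    obtain ⟨J₁, hJ₁, hk₁⟩ := ih Tr.obj₁ c₀ h1ge (by simpa [m] using h1le)
      (fun k => by
        by_cases hk : k < m
        · obtain ⟨e⟩ := hiso1 k hk
          haveI := hfin k
          exact Module.Finite.equiv e.symm
        · haveI := hsub1 k hk
          infer_instance)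
      (fun q hq p hpq hpT' j hj => by
        by_cases hk : j < m
        · obtain ⟨e⟩ := hiso1 j hk
          rw [e.support_eq]
          exact cond q hq p hpq hpT' j hj
        · haveI := hsub1 j hk
          rw [Module.support_eq_empty]
          exact Set.notMem_empty p)
    -- the third vertex
    have hiso3 : IsIso ((homologyFunctor (ModuleCat.{u} A) m).map Tr.mor₂) :=
      isIso_homology_mor₂ Tr hTr m m le_rfl
    let e3 : Dual.HD A X m ≃ₗ[A] Dual.HD A Tr.obj₃ m :=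
      (@asIso _ _ _ _ ((homologyFunctor (ModuleCat.{u} A) m).map Tr.mor₂) hiso3).toLinearEquiv
    haveI : Module.Finite A (Dual.HD A Tr.obj₃ m) := by
      haveI := hfin m
      exact Module.Finite.equiv e3
    obtain ⟨es⟩ := Groth.Agent.H4.PC.exists_iso_single Tr.obj₃ m
    let e₃ : Tr.obj₃ ≅ sh A (Dual.HD A Tr.obj₃ m) m :=
      es ≪≫ (((singleFunctors (ModuleCat.{u} A)).shiftIso (-m) m 0 (by omega)).app
        ((homologyFunctor (ModuleCat.{u} A) m).obj Tr.obj₃)).symm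
    obtain ⟨J₃, hJ₃, hk₃⟩ := exists_kill_single ω hω n hn hT hT' (Dual.HD A Tr.obj₃ m) m s
      (fun q hq p hpq hpT' hj => by
        rw [← e3.support_eq]
        exact cond q hq p hpq hpT' m hj)
    obtain ⟨w, hw⟩ := cpl_RHomMap Tr hTr ω
    refine ⟨J₃ * J₁, ?_, fun i hi => ?_⟩
    · rw [PrimeSpectrum.zeroLocus_mul]
      exact Set.union_subset hJ₃ hJ₁
    · have h3 := kills_of_iso_dual (T := T) ω e₃ J₃ i (hk₃ i hi)
      exact kills_obj₂ i _ hw h3 (hk₁ i hi)

include hω hn in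
/-- **(2') ⇒ (1)**. -/
theorem exists_kill_of_support_cond (hT : StableUnderSpecialization T)
    (hT' : StableUnderSpecialization T') (K : Dual.D A) (a : ℤ) [K.IsGE a]
    (hK : ∀ i : ℤ, Module.Finite A (Dual.HD A K i)) (s : ℤ)
    (cond : ∀ q ∈ T, ∀ p : PrimeSpectrum A, p ≤ q → p ∉ T' → ∀ j : ℤ, n q - s ≤ j →
      p ∉ Module.support A (K ⟶ ω⟦j⟧)) :
    ∃ J : Ideal A, PrimeSpectrum.zeroLocus (J : Set A) ⊆ T' ∧
      ∀ i : ℤ, i ≤ s → Kills J ((hdt T).obj (K⟦i⟧)) := by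
  obtain ⟨aω, b, hab⟩ := exists_injAmp_of_isDualizing ω hω
  haveI := isGE_of_injAmp ω aω b hab
  let E := Dd ω K
  have hEfin : ∀ k : ℤ, Module.Finite A (Dual.HD A E k) := finite_HD_RHomR ω hω K hK
  haveI hEle : E.IsLE (b - a) := Groth.Agent.H4.AP2.isLE_RHom_of_injAmp K ω a aω b hab
  obtain ⟨eb⟩ := nonempty_bidual_iso ω hω K hK
  let c₀ : ℤ := aω - s
  let Tr := ((tR A).triangleLTGE c₀).obj E
  have hTr : Tr ∈ distinguishedTriangles := (tR A).triangleLTGE_distinguished c₀ E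
  haveI h3ge : Tr.obj₃.IsGE c₀ := inferInstanceAs ((tR A).IsGE (((tR A).truncGE c₀).obj E) c₀)
  haveI h3le : Tr.obj₃.IsLE (b - a) :=
    inferInstanceAs ((tR A).IsLE (((tR A).truncGE c₀).obj E) (b - a))
  haveI h1le : Tr.obj₁.IsLE (c₀ - 1) :=
    inferInstanceAs ((tR A).IsLE (((tR A).truncLT c₀).obj E) (c₀ - 1))
  let d : ℕ := (b - a - c₀ + 1).toNat
  have hiso3 : ∀ k : ℤ, c₀ ≤ k → Nonempty (Dual.HD A E k ≃ₗ[A] Dual.HD A Tr.obj₃ k) := by
    intro k hk
    have hiso : IsIso ((homologyFunctor (ModuleCat.{u} A) k).map Tr.mor₂) :=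
      isIso_homology_mor₂ Tr hTr c₀ k hk
    exact ⟨(@asIso _ _ _ _ ((homologyFunctor (ModuleCat.{u} A) k).map Tr.mor₂)
      hiso).toLinearEquiv⟩
  have hsub3 : ∀ k : ℤ, ¬ c₀ ≤ k → Subsingleton (Dual.HD A Tr.obj₃ k) := fun k hk =>
    ModuleCat.subsingleton_of_isZero (isZero_of_isGE Tr.obj₃ c₀ k (by omega))
  obtain ⟨J₃, hJ₃, hk₃⟩ := exists_kill_of_bounded ω hω n hn hT hT' s d Tr.obj₃ c₀ h3ge
    ((tR A).isLE_of_le _ (b - a) _ (by
      have := Int.self_le_toNat (b - a - c₀ + 1)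
      omega))
    (fun k => by
      by_cases hk : c₀ ≤ k
      · obtain ⟨e⟩ := hiso3 k hk
        haveI := hEfin k
        exact Module.Finite.equiv e
      · haveI := hsub3 k hk
        infer_instance)
    (fun q hq p hpq hpT' j hj => by
      by_cases hk : c₀ ≤ j
      · obtain ⟨e⟩ := hiso3 j hk
        obtain ⟨e'⟩ := nonempty_extLinEquiv K ω j
        rw [← e.support_eq, e'.support_eq]
        exact cond q hq p hpq hpT' j hj
      · haveI := hsub3 j hk
        rw [Module.support_eq_empty]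
        exact Set.notMem_empty p)
  obtain ⟨w, hw⟩ := cpl_RHomMap Tr hTr ω
  refine ⟨J₃ * ⊤, ?_, fun i hi => ?_⟩
  · rw [PrimeSpectrum.zeroLocus_mul]
    refine Set.union_subset hJ₃ ?_
    intro r hr
    rw [PrimeSpectrum.mem_zeroLocus, SetLike.coe_subset_coe] at hr
    exact absurd (top_le_iff.1 hr) r.isPrime.ne_top
  · have h1 : Kills (⊤ : Ideal A) ((hdt T).obj ((Dd ω Tr.obj₁)⟦i⟧)) := by
      haveI hD1 : (Dd ω Tr.obj₁).IsGE (aω - (c₀ - 1)) :=
        Groth.Agent.H4.AP2.isGE_RHom Tr.obj₁ ω (c₀ - 1) aω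
      haveI : ((Dd ω Tr.obj₁)⟦i⟧).IsGE (aω - (c₀ - 1) - i) :=
        (tR A).isGE_shift _ (aω - (c₀ - 1)) i (aω - (c₀ - 1) - i) (by ring)
      haveI : ((Dd ω Tr.obj₁)⟦i⟧).IsGE 1 :=
        (tR A).isGE_of_ge _ 1 (aω - (c₀ - 1) - i) (by simp only [c₀]; omega)
      haveI := subsingleton_hdt_of_isGE (T := T) ((Dd ω Tr.obj₁)⟦i⟧)
      exact Kills.of_subsingleton _ _
    have h2 : Kills (J₃ * ⊤) ((hdt T).obj ((Dd ω E)⟦i⟧)) := kills_obj₂ i _ hw (hk₃ i hi) h1
    exact h2.of_equiv ((hdt T).mapIso ((shiftFunctor (Dual.D A) i).mapIso eb)).toLinearEquiv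

end main2

end Groth.Agent.H4.FA5
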