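import Mathlib
import Groth.Agent.H4.FA5

set_option autoImplicit false
universe u
open CategoryTheory Category Limits Pretriangulated

namespace Groth.Agent.H4.FA6

attribute [local instance] HasDerivedCategory.standard
attribute [local instance] Groth.Agent.H4.LK4.hasLTen Groth.Agent.H4.LK5.hasLTen₃
  Groth.Agent.H4.KI7.isSymMonoidal Groth.Agent.H4.KI6.hasRHom

open DRing DTen DerivedCategory Groth.Agent.H4.DThick Groth.Agent.H4.DCompl1 Groth.Agent.H4.CF1
  Groth.Agent.H4.InjAmp Groth.Agent.H4.DZ1 Groth.Agent.H4.DZ2 Groth.Agent.H4.DZ3 Groth.Agent.H4.DZ4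
  Groth.Agent.H4.DZ5 Groth.Agent.H4.DZ6 Groth.Agent.H4.ProjAmp Groth.Agent.H4.US8 Groth.Agent.H4.US9
  Groth.Agent.H4.US10 Groth.Agent.H4.US11 Groth.Agent.H4.US12 Groth.Agent.H4.US13
  Groth.Agent.H4.US14 Groth.Agent.H4.FB1 Groth.Agent.H4.FB2 Groth.Agent.H4.FB3
  Groth.Agent.H4.DRing1 Groth.Agent.H4.TL1 Groth.Agent.H4.TL3 Groth.Agent.H4.TL4
  Groth.Agent.H4.FA1 Groth.Agent.H4.FA2 Groth.Agent.H4.FA3 Groth.Agent.H4.FA4 Groth.Agent.H4.FA5
  Groth.Agent.H4.LD3 Groth.Agent.H4.HC6

open scoped Pointwise TensorProduct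

variable {A : Type u} [CommRing A] [IsNoetherianRing A]

section height

variable (ω : Dual.D A) (hω : Dual.IsDualizing A ω)
  (n : PrimeSpectrum A → ℤ)
  (hn : ∀ (p : PrimeSpectrum A) (i : ℤ),
    p ∈ Module.support A (Dual.inD A (A ⧸ p.asIdeal) ⟶ ω⟦i⟧) ↔ i = n p)

include hω hn in
lemma degree_lt (p q : PrimeSpectrum A) (hpq : p < q) : n p < n q := by
  haveI := q.isPrime
  obtain ⟨h, hh⟩ : ∃ h : ℕ, q.asIdeal.height = h :=
    ⟨_, (ENat.natCast_toNat (Ideal.height_ne_top (by exact q.isPrime.ne_top))).symm⟩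
  exact degree_strictMono ω hω n hn h q hh p hpq

include hω hn in
lemma degree_le (p q : PrimeSpectrum A) (hpq : p ≤ q) : n p ≤ n q := by
  rcases eq_or_lt_of_le hpq with h | h
  · rw [h]
  · exact le_of_lt (degree_lt ω hω n hn p q h)

include hω hn in
/-- the height of `q` among the primes containing `p` is the difference of the degrees. -/
theorem height_Ici_eq (p : PrimeSpectrum A) : ∀ (k : ℕ) (x : Set.Ici p),
    n x.1 - n p = k → Order.height x = k := by
  intro k
  induction k using Nat.strong_induction_on with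
  | _ k ih =>
  intro x hx
  apply le_antisymm
  · rw [Order.height_le_coe_iff]
    intro y hy
    have h1 : n y.1 < n x.1 := degree_lt ω hω n hn y.1 x.1 hy
    have h2 : n p ≤ n y.1 := degree_le ω hω n hn p y.1 y.2
    have hk' : (n y.1 - n p).toNat < k := by omega
    rw [ih _ hk' y (by omega)]
    exact_mod_cast hk'
  · rcases Nat.eq_zero_or_pos k with hk | hk
    · subst hk
      exact bot_le
    · have hpx : p < x.1 := by
        refine lt_of_le_of_ne x.2 ?_
        intro h
        rw [← h] at hx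
        omega
      -- a maximal element of `[p, x)`
      let S : Set (PrimeSpectrum A) := {c | p ≤ c ∧ c < x.1}
      have hwf : WellFounded ((· > ·) : PrimeSpectrum A → PrimeSpectrum A → Prop) :=
        InvImage.wf (fun c : PrimeSpectrum A => c.asIdeal) (wellFounded_gt (α := Ideal A))
      obtain ⟨c, ⟨hpc, hcx⟩, hcmax⟩ := hwf.has_min S ⟨p, le_rfl, hpx⟩
      have hcov : c ⋖ x.1 := by
        refine ⟨hcx, fun c' hcc' hc'x => ?_⟩
        exact hcmax c' ⟨hpc.trans hcc'.le, hc'x⟩ hcc'
      have h1 := degree_of_covBy ω hω n hn c x.1 hcov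
      have h2 := ih (k - 1) (by omega) ⟨c, hpc⟩ (by
        change n c - n p = ((k - 1 : ℕ) : ℤ)
        omega)
      have h3 : (⟨c, hpc⟩ : Set.Ici p) < x := hcx
      have h4 := Order.height_add_one_le h3
      rw [h2] at h4
      refine le_trans ?_ h4
      have : ((k - 1 : ℕ) : ℕ∞) + 1 = (k : ℕ∞) := by
        have : k - 1 + 1 = k := by omega
        exact_mod_cast this
      rw [this]

end height

section assembly

variable (ω : Dual.D A) (hω : Dual.IsDualizing A ω)
  (n : PrimeSpectrum A → ℤ)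
  (hn : ∀ (p : PrimeSpectrum A) (i : ℤ),
    p ∈ Module.support A (Dual.inD A (A ⧸ p.asIdeal) ⟶ ω⟦i⟧) ↔ i = n p)

include hω hn in
/-- local duality at `p` for the derived base change -/
theorem subsingleton_HDI_LBC_iff (p : PrimeSpectrum A)
    [DRing.HasLBaseChange (algebraMap A (Localization.AtPrime p.asIdeal))]
    (K : Dual.D A) (a : ℤ) [K.IsGE a] (hK : ∀ i : ℤ, Module.Finite A (Dual.HD A K i)) (i : ℤ) :
    Subsingleton (Dual2.HDI (Localization.AtPrime p.asIdeal)
      (IsLocalRing.maximalIdeal (Localization.AtPrime p.asIdeal))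
      ((DRing.LBaseChange (algebraMap A (Localization.AtPrime p.asIdeal))).obj K) i) ↔
      p ∉ Module.support A (K ⟶ ω⟦n p - i⟧) := by
  rw [← subsingleton_hdi_E_iff ω hω n hn p K a hK i]
  exact ((hdi (IsLocalRing.maximalIdeal (Localization.AtPrime p.asIdeal))).mapIso
    ((shiftFunctor (Dual.D (Localization.AtPrime p.asIdeal)) i).mapIso
      (LBCIso (B := Localization.AtPrime p.asIdeal) K))).toLinearEquiv.toEquiv.subsingleton_congr

theorem S1791 (A : Type u) [CommRing A] [IsNoetherianRing A]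
    (hA : ∃ ω : Dual.D A, Dual.IsDualizing A ω) (T T' : Set (PrimeSpectrum A))
    (hT : StableUnderSpecialization T) (hT' : StableUnderSpecialization T') (hTT' : T ⊆ T')
    (s : ℤ) (K : Dual.D A) (a : ℤ) (hKa : ∀ i : ℤ, i < a → Subsingleton (Dual.HD A K i))
    (hK : ∀ i : ℤ, Module.Finite A (Dual.HD A K i))
    [∀ p : PrimeSpectrum A, DRing.HasLBaseChange (algebraMap A (Localization.AtPrime p.asIdeal))] :
    (∃ J : Ideal A, PrimeSpectrum.zeroLocus (J : Set A) ⊆ T' ∧
      ∀ i : ℤ, i ≤ s → ∀ a ∈ J, ∀ x : Dual2.HDT A T K i, a • x = 0) ↔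
    (∀ (p q : PrimeSpectrum A) (hpq : p ≤ q), p ∉ T' → q ∈ T → ∀ h : ℕ,
      Order.height (⟨q, hpq⟩ : Set.Ici p) = h → ∀ i : ℤ, i ≤ s - h →
      Subsingleton (Dual2.HDI (Localization.AtPrime p.asIdeal)
        (IsLocalRing.maximalIdeal (Localization.AtPrime p.asIdeal))
        ((DRing.LBaseChange (algebraMap A (Localization.AtPrime p.asIdeal))).obj K) i)) := by
  obtain ⟨ω, hω⟩ := hA
  choose n hn using fun p : PrimeSpectrum A => exists_degree p ω hω
  haveI : K.IsGE a := by
    rw [isGE_iff]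
    intro i hi
    haveI := hKa i hi
    exact ModuleCat.isZero_of_subsingleton _
  constructor
  · rintro ⟨J, hJ, hkill⟩ p q hpq hpT' hq h hh i hi
    rw [subsingleton_HDI_LBC_iff ω hω n hn p K a hK i]
    have hhq := height_Ici_eq ω hω n hn p (n q - n p).toNat ⟨q, hpq⟩ (by
      have := degree_le ω hω n hn p q hpq
      change n q - n p = _
      omega)
    rw [hh] at hhq
    have hh' : h = (n q - n p).toNat := by exact_mod_cast hhq
    have hle := degree_le ω hω n hn p q hpq
    refine not_mem_support_of_kills ω hω n hn hT K a hK J s hkill q hq p hpq ?_ (n p - i)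
      (by omega)
    intro hJp
    exact hpT' (hJ (by
      rw [PrimeSpectrum.mem_zeroLocus, SetLike.coe_subset_coe]
      exact hJp))
  · intro h2
    refine exists_kill_of_support_cond ω hω n hn hT hT' K a hK s ?_
    intro q hq p hpq hpT' j hj
    have hle := degree_le ω hω n hn p q hpq
    have hhq := height_Ici_eq ω hω n hn p (n q - n p).toNat ⟨q, hpq⟩ (by
      change n q - n p = _
      omega)
    have := h2 p q hpq hpT' hq (n q - n p).toNat hhq (n p - j) (by omega)
    rw [subsingleton_HDI_LBC_iff ω hω n hn p K a hK (n p - j)] at this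
    have e : n p - (n p - j) = j := by ring
    rwa [e] at this

end assembly

end Groth.Agent.H4.FA6
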