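import Mathlib
import Groth.Agent.H4.TL4

set_option autoImplicit false
universe u w
open CategoryTheory Category Limits Opposite Pretriangulated

namespace Groth.Agent.H4.TL5

attribute [local instance] HasDerivedCategory.standard

open DerivedCategory Groth.Agent.H4.LD3 Groth.Agent.H4.ProjAmp Groth.Agent.H4.TL1 Groth.Agent.H4.TL2
  Groth.Agent.H4.TL3 Groth.Agent.H4.TL4

variable {A : Type u} [CommRing A] [IsNoetherianRing A] {T : Set (PrimeSpectrum A)}

/-- `H_T((K[a])[j]) ≅ H_T(K[i])` for `a + j = i` -/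
noncomputable def HtAddEquiv (K : Dual.D A) (a j i : ℤ) (h : a + j = i) :
    (hdt T).obj ((K⟦a⟧)⟦j⟧) ≃ₗ[A] (hdt T).obj (K⟦i⟧) :=
  ((hdt T).mapIso ((shiftFunctorAdd' (Dual.D A) a j i h).app K).symm).toLinearEquiv

/-- **S1764** -/
theorem S1764 (K : Dual.D A) (a : ℤ) (hKa : ∀ i : ℤ, i < a → Subsingleton (Dual.HD A K i))
    (hK : ∀ i : ℤ, Module.Finite A (Dual.HD A K i)) (n : ℤ) :
    (∀ i : ℤ, i ≤ n → Module.Finite A (Dual2.HDT A T K i)) ↔
      ∃ J : Ideal A, PrimeSpectrum.zeroLocus (J : Set A) ⊆ T ∧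
        ∀ i : ℤ, i ≤ n → ∀ x : A, x ∈ J → ∀ y : Dual2.HDT A T K i, x • y = 0 := by
  haveI hKge : K.IsGE a := by
    rw [isGE_iff]
    intro i hi
    haveI := hKa i hi
    exact ModuleCat.isZero_of_subsingleton _
  haveI hK₀ : (K⟦a⟧).IsGE 0 := (tR A).isGE_shift K a a 0 (by omega)
  have hfin₀ : ∀ i : ℤ, Module.Finite A (Dual.HD A (K⟦a⟧) i) :=
    fun i => Groth.Agent.H4.DZ1.finite_HD_shift K hK a i
  -- vanishing below `a`
  have hlow : ∀ i : ℤ, i < a → Subsingleton ((hdt T).obj (K⟦i⟧)) := by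
    intro i hi
    haveI : (K⟦i⟧).IsGE (a - i) := (tR A).isGE_shift K a i (a - i) (by omega)
    haveI : (K⟦i⟧).IsGE 1 := (tR A).isGE_of_ge _ 1 (a - i) (by omega)
    exact subsingleton_hdt_of_isGE _
  by_cases hna : n < a
  · constructor
    · intro _
      refine ⟨⊤, by simp, fun i hi x _ y => ?_⟩
      have hs := hlow i (by omega)
      exact @Subsingleton.elim _ hs _ _
    · intro _ i hi
      haveI := hlow i (by omega)
      change Module.Finite A ((hdt T).obj (K⟦i⟧))
      infer_instance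
  push Not at hna
  obtain ⟨d, hd⟩ : ∃ d : ℕ, (d : ℤ) = n - a := ⟨(n - a).toNat, Int.toNat_of_nonneg (by omega)⟩
  constructor
  · intro hf
    obtain ⟨J, hJ, hk⟩ := exists_common_kill (T := T) (fun j : ℕ => (K⟦a⟧)⟦(j : ℤ)⟧) d (by
      intro j hj
      haveI : Module.Finite A ((hdt T).obj (K⟦a + (j : ℤ)⟧)) := hf (a + j) (by omega)
      exact Module.Finite.equiv (HtAddEquiv (T := T) K a j (a + j) rfl).symm)
    refine ⟨J, hJ, fun i hi x hx y => ?_⟩
    by_cases hia : i < a
    · have hs := hlow i hia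
      exact @Subsingleton.elim _ hs _ _
    · push Not at hia
      obtain ⟨j, hj⟩ : ∃ j : ℕ, (j : ℤ) = i - a := ⟨(i - a).toNat, Int.toNat_of_nonneg (by omega)⟩
      have h1 := Kills.of_equiv (HtAddEquiv (T := T) K a j i (by omega)) (hk j (by omega))
      exact h1 x hx y
  · rintro ⟨J, hJ, hk⟩ i hi
    by_cases hia : i < a
    · haveI := hlow i hia
      change Module.Finite A ((hdt T).obj (K⟦i⟧))
      infer_instance
    · push Not at hia
      obtain ⟨j, hj⟩ : ∃ j : ℕ, (j : ℤ) = i - a := ⟨(i - a).toNat, Int.toNat_of_nonneg (by omega)⟩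
      have h1 := finite_of_kills (T := T) d (K⟦a⟧) hfin₀ J hJ (by
        intro j' hj'
        refine Kills.of_equiv (HtAddEquiv (T := T) K a j' (a + j') rfl).symm ?_
        intro x hx y
        exact hk (a + j') (by omega) x hx y) j (by omega)
      exact Module.Finite.equiv (HtAddEquiv (T := T) K a j i (by omega))

end Groth.Agent.H4.TL5
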