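import Mathlib
import Groth.Agent.H4.TL5
import Groth.Agent.Lib.Helper6.ExtCmp

set_option autoImplicit false
set_option backward.isDefEq.respectTransparency false
universe u
open CategoryTheory CategoryTheory.Limits Opposite CategoryTheory.Abelian

namespace Groth.Agent.H4.TL6

section CNg

variable {R : Type u} [Ring R] {Jc : Type u} [Category.{u} Jc] [IsFiltered Jc]

variable (F : Jc ⥤ ModuleCat.{u} R ⥤ ModuleCat.{u} R)

/-- The evaluated diagram. -/
noncomputable abbrev evalDiagram (M : ModuleCat.{u} R) : Jc ⥤ ModuleCat.{u} R :=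
  F ⋙ (evaluation _ _).obj M

/-- The evaluated colimit cocone. -/
noncomputable def evalCocone (M : ModuleCat.{u} R) : Cocone (evalDiagram F M) :=
  ((evaluation _ _).obj M).mapCocone (colimit.cocone F)

noncomputable def evalIsColimit (M : ModuleCat.{u} R) : IsColimit (evalCocone F M) :=
  isColimitOfPreserves ((evaluation _ _).obj M) (colimit.isColimit F)

/-- The canonical map from the stage `j`. -/
noncomputable def gι (M : ModuleCat.{u} R) (j : Jc) :
    (F.obj j).obj M →ₗ[R] (colimit F).obj M :=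
  ((colimit.ι F j).app M).hom

variable {F}

theorem gι_surj {M : ModuleCat.{u} R} (x : (colimit F).obj M) : ∃ j y, gι F M j y = x :=
  Concrete.isColimit_exists_rep (evalDiagram F M) (evalIsColimit F M) x

theorem gι_eq_iff {M : ModuleCat.{u} R} {i j : Jc} (x : (F.obj i).obj M) (y : (F.obj j).obj M) :
    gι F M i x = gι F M j y ↔ ∃ (k : Jc) (a : i ⟶ k) (b : j ⟶ k),
      ((F.map a).app M).hom x = ((F.map b).app M).hom y :=
  Concrete.isColimit_rep_eq_iff_exists (evalDiagram F M) (evalIsColimit F M) x y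

theorem gι_map {M : ModuleCat.{u} R} {i j : Jc} (a : i ⟶ j) (x : (F.obj i).obj M) :
    gι F M j (((F.map a).app M).hom x) = gι F M i x := by
  have h1 := colimit.w F a
  have h2 := congrArg (fun φ => (φ.app M).hom x) h1
  exact h2

theorem gι_eq_zero_iff {M : ModuleCat.{u} R} {i : Jc} (x : (F.obj i).obj M) :
    gι F M i x = 0 ↔ ∃ (k : Jc) (a : i ⟶ k), ((F.map a).app M).hom x = 0 := by
  rw [← (gι F M i).map_zero, gι_eq_iff]
  constructor
  · rintro ⟨k, a, b, h⟩
    exact ⟨k, a, by rw [h, map_zero]⟩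
  · rintro ⟨k, a, h⟩
    exact ⟨k, a, a, by rw [h, map_zero]⟩

end CNg

section HTsec

open Groth.Agent.H4.TL1 Groth.Agent.H6

variable {A : Type u} [CommRing A] (T : Set (PrimeSpectrum A)) (i : ℕ)

/-- The diagram defining `H^i_T`. -/
noncomputable abbrev diagT : (Dual2.IdealsIn T)ᵒᵖ ⥤ ModuleCat.{u} A ⥤ ModuleCat.{u} A :=
  localCohomology.diagram (Dual2.idealsInDiagram T) i

/-- `A/J` as an object. -/
abbrev QJ (J : Ideal A) : ModuleCat.{u} A := ModuleCat.of A (A ⧸ J)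

/-- The projection `A/J' → A/J` for `J' ≤ J`. -/
def projJ {J' J : Ideal A} (h : J' ≤ J) : QJ J' ⟶ QJ J :=
  ModuleCat.ofHom (Submodule.mapQ _ _ LinearMap.id h)

/-- The stage at `J` of the diagram is the old `Ext` (definitionally), hence the new one. -/
noncomputable def stageCmpT (M : ModuleCat.{u} A) (J : Ideal A)
    (hJ : PrimeSpectrum.zeroLocus (J : Set A) ⊆ T) :
    ((diagT T i).obj (op (mkI T J hJ))).obj M ≃ₗ[A] Ext (QJ J) M i :=
  (show ((diagT T i).obj (op (mkI T J hJ))).obj M ≃ₗ[A] ExtCmp.oldExt i (QJ J) M from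
    LinearEquiv.refl A _).trans (ExtCmp.cmp i (QJ J) M)

theorem stageCmpT_tr (M : ModuleCat.{u} A) {J' J : Ideal A} (h : J' ≤ J)
    (hJ' : PrimeSpectrum.zeroLocus (J' : Set A) ⊆ T)
    (hJ : PrimeSpectrum.zeroLocus (J : Set A) ⊆ T)
    (x : ((diagT T i).obj (op (mkI T J hJ))).obj M) :
    stageCmpT T i M J' hJ' ((((diagT T i).map (homI T h hJ' hJ).op).app M).hom x) =
      (Ext.mk₀ (projJ h)).comp (stageCmpT T i M J hJ x) (zero_add i) :=
  ExtCmp.cmp_mapLeft i (projJ h) M x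

/-- The canonical map `Ext^i(A/J, M) → H^i_T(M)`. -/
noncomputable def lcιT (M : ModuleCat.{u} A) (J : Ideal A)
    (hJ : PrimeSpectrum.zeroLocus (J : Set A) ⊆ T) :
    Ext (QJ J) M i →ₗ[A] (localCohomology.ofDiagram (Dual2.idealsInDiagram T) i).obj M :=
  gι (diagT T i) M (op (mkI T J hJ)) ∘ₗ (stageCmpT T i M J hJ).symm.toLinearMap

variable {T i}

theorem lcιT_apply {M : ModuleCat.{u} A} {J : Ideal A}
    (hJ : PrimeSpectrum.zeroLocus (J : Set A) ⊆ T) (x : Ext (QJ J) M i) :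
    lcιT T i M J hJ x = gι (diagT T i) M (op (mkI T J hJ)) ((stageCmpT T i M J hJ).symm x) := rfl

theorem lcιT_surj {M : ModuleCat.{u} A}
    (x : (localCohomology.ofDiagram (Dual2.idealsInDiagram T) i).obj M) :
    ∃ J hJ y, lcιT T i M J hJ y = x := by
  obtain ⟨j, y, hy⟩ := gι_surj (F := diagT T i) x
  refine ⟨j.unop.obj, j.unop.property, stageCmpT T i M j.unop.obj j.unop.property y, ?_⟩
  rw [lcιT_apply, LinearEquiv.symm_apply_apply]
  exact hy

theorem stageCmpT_symm_comp {M : ModuleCat.{u} A} {J' J : Ideal A} (h : J' ≤ J)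
    (hJ' : PrimeSpectrum.zeroLocus (J' : Set A) ⊆ T)
    (hJ : PrimeSpectrum.zeroLocus (J : Set A) ⊆ T) (x : Ext (QJ J) M i) :
    (((diagT T i).map (homI T h hJ' hJ).op).app M).hom ((stageCmpT T i M J hJ).symm x) =
      (stageCmpT T i M J' hJ').symm ((Ext.mk₀ (projJ h)).comp x (zero_add i)) := by
  rw [LinearEquiv.eq_symm_apply, stageCmpT_tr, LinearEquiv.apply_symm_apply]

theorem lcιT_proj {M : ModuleCat.{u} A} {J' J : Ideal A} (h : J' ≤ J)
    (hJ' : PrimeSpectrum.zeroLocus (J' : Set A) ⊆ T)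
    (hJ : PrimeSpectrum.zeroLocus (J : Set A) ⊆ T) (x : Ext (QJ J) M i) :
    lcιT T i M J' hJ' ((Ext.mk₀ (projJ h)).comp x (zero_add i)) = lcιT T i M J hJ x := by
  rw [lcιT_apply, lcιT_apply, ← stageCmpT_symm_comp h hJ' hJ, gι_map]

theorem lcιT_eq_zero_iff {M : ModuleCat.{u} A} {J : Ideal A}
    (hJ : PrimeSpectrum.zeroLocus (J : Set A) ⊆ T) (x : Ext (QJ J) M i) :
    lcιT T i M J hJ x = 0 ↔ ∃ (J' : Ideal A) (hJ' : PrimeSpectrum.zeroLocus (J' : Set A) ⊆ T)
      (h : J' ≤ J), (Ext.mk₀ (projJ h)).comp x (zero_add i) = 0 := by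
  rw [lcιT_apply, gι_eq_zero_iff]
  constructor
  · rintro ⟨k, a, h0⟩
    have hle : k.unop.obj ≤ J := leOfHom a.unop.hom
    refine ⟨k.unop.obj, k.unop.property, hle, ?_⟩
    have h1 := stageCmpT_symm_comp (M := M) hle k.unop.property hJ x
    have h2 : (((diagT T i).map (homI T hle k.unop.property hJ).op).app M).hom
        ((stageCmpT T i M J hJ).symm x) = 0 := h0
    rw [h1] at h2
    have := congrArg (stageCmpT T i M k.unop.obj k.unop.property) h2
    rwa [LinearEquiv.apply_symm_apply, map_zero] at this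
  · rintro ⟨J', hJ', h, h0⟩
    refine ⟨op (mkI T J' hJ'), (homI T h hJ' hJ).op, ?_⟩
    rw [stageCmpT_symm_comp, h0, map_zero]

end HTsec

section Bridge

attribute [local instance] HasDerivedCategory.standard

open DerivedCategory Groth.Agent.H4.LD3 Groth.Agent.H4.TL1 Groth.Agent.H4.TL4 Groth.Agent.H4.TL5
  Pretriangulated

variable {A : Type u} [CommRing A] (T : Set (PrimeSpectrum A)) (i : ℕ)
  (M : Type u) [AddCommGroup M] [Module A M]

/-- Descend a compatible family of linear maps to `hdt X`. -/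
theorem exists_tlift {X : Dual.D A} {B : Type (u + 1)} [AddCommGroup B] [Module A B]
    (φ : ∀ (J : Ideal A), PrimeSpectrum.zeroLocus (J : Set A) ⊆ T →
      (Dual.inD A (A ⧸ J) ⟶ X) →ₗ[A] B)
    (hφ : ∀ (J' J : Ideal A) (h : J' ≤ J) (hJ' : PrimeSpectrum.zeroLocus (J' : Set A) ⊆ T)
      (hJ : PrimeSpectrum.zeroLocus (J : Set A) ⊆ T) (x : Dual.inD A (A ⧸ J) ⟶ X),
      φ J' hJ' (inDMap (qPr h) ≫ x) = φ J hJ x) :
    ∃ Φ : (hdt T).obj X →ₗ[A] B, ∀ J hJ x, Φ (tj T J hJ X x) = φ J hJ x := by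
  let c : Cocone ((hdtDiag T).obj X) :=
    { pt := ModuleCat.of A B
      ι :=
        { app := fun j => ModuleCat.ofHom (φ j.unop.obj j.unop.property)
          naturality := by
            intro j j' f
            ext x
            simp only [Functor.const_obj_obj, Functor.const_obj_map, Category.comp_id]
            exact hφ j'.unop.obj j.unop.obj (leOfHom f.unop.hom) j'.unop.property
              j.unop.property x } }
  refine ⟨(colimit.desc ((hdtDiag T).obj X) c).hom, fun J hJ x => ?_⟩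
  have h := colimit.ι_desc c (op (mkI T J hJ))
  have h2 := congrArg (fun ψ => ψ.hom x) h
  exact h2

/-- `Ext^i(A/J, M) ≃ Hom_{D(A)}(A/J, M[i])` -/
noncomputable def psiT (J : Ideal A) : Ext (QJ J) (ModuleCat.of A M) i ≃ₗ[A]
    (Dual.inD A (A ⧸ J) ⟶ (Dual.inD A M)⟦(i : ℤ)⟧) :=
  Ext.homLinearEquiv (R := A)

lemma psiT_proj {J' J : Ideal A} (h : J' ≤ J) (x : Ext (QJ J) (ModuleCat.of A M) i) :
    psiT i M J' ((Ext.mk₀ (projJ h)).comp x (zero_add i)) =
      inDMap (qPr h) ≫ psiT i M J x := by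
  change ((Ext.mk₀ (projJ h)).comp x (zero_add i)).hom = _
  rw [Ext.comp_hom, Ext.mk₀_hom, ShiftedHom.mk₀_comp]
  rfl

lemma psiT_symm_proj {J' J : Ideal A} (h : J' ≤ J)
    (x : Dual.inD A (A ⧸ J) ⟶ (Dual.inD A M)⟦(i : ℤ)⟧) :
    (psiT i M J').symm (inDMap (qPr h) ≫ x) =
      (Ext.mk₀ (projJ h)).comp ((psiT i M J).symm x) (zero_add i) := by
  rw [LinearEquiv.symm_apply_eq, psiT_proj, LinearEquiv.apply_symm_apply]

/-- the family of maps used to compare the two colimits -/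
noncomputable def bridgeT (J : Ideal A) (hJ : PrimeSpectrum.zeroLocus (J : Set A) ⊆ T) :
    (Dual.inD A (A ⧸ J) ⟶ (Dual.inD A M)⟦(i : ℤ)⟧) →ₗ[A] ULift.{u + 1} (Dual2.HT T i M) :=
  (ULift.moduleEquiv (R := A) (M := Dual2.HT T i M)).symm.toLinearMap ∘ₗ
    (lcιT T i (ModuleCat.of A M) J hJ) ∘ₗ (psiT i M J).symm.toLinearMap

lemma bridgeT_apply (J : Ideal A) (hJ : PrimeSpectrum.zeroLocus (J : Set A) ⊆ T)
    (x : Dual.inD A (A ⧸ J) ⟶ (Dual.inD A M)⟦(i : ℤ)⟧) :
    (bridgeT T i M J hJ x).down = lcιT T i (ModuleCat.of A M) J hJ ((psiT i M J).symm x) := rfl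

theorem exists_bridgeT : ∃ Φ : (hdt T).obj ((Dual.inD A M)⟦(i : ℤ)⟧) →ₗ[A]
    ULift.{u + 1} (Dual2.HT T i M), ∀ J hJ x, Φ (tj T J hJ _ x) = bridgeT T i M J hJ x := by
  refine exists_tlift T (bridgeT T i M) ?_
  intro J' J h hJ' hJ x
  apply ULift.ext
  rw [bridgeT_apply, bridgeT_apply, psiT_symm_proj, lcιT_proj]

/-- **`H^i_T(M)` via `Ext` is `H^i_T` of `M[0]` in the derived category.** -/
theorem nonempty_HT_equiv_hdt :
    Nonempty (Dual2.HT T i M ≃ₗ[A] (hdt T).obj ((Dual.inD A M)⟦(i : ℤ)⟧)) := by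
  obtain ⟨Φ, hΦ⟩ := exists_bridgeT T i M
  have hinj : Function.Injective Φ := by
    rw [← LinearMap.ker_eq_bot, LinearMap.ker_eq_bot']
    intro ξ hξ
    obtain ⟨J, hJ, x, rfl⟩ := tj_surj ξ
    rw [hΦ] at hξ
    have h0 : lcιT T i (ModuleCat.of A M) J hJ ((psiT i M J).symm x) = 0 := by
      rw [← bridgeT_apply, hξ]
      rfl
    rw [lcιT_eq_zero_iff] at h0
    obtain ⟨J', hJ', h, hk⟩ := h0
    rw [tj_eq_zero_iff]
    refine ⟨J', hJ', h, ?_⟩
    rw [← psiT_symm_proj] at hk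
    have := congrArg (psiT i M J') hk
    rw [LinearEquiv.apply_symm_apply, map_zero] at this
    exact this
  have hsurj : Function.Surjective Φ := by
    intro ζ
    obtain ⟨J, hJ, y, hy⟩ := lcιT_surj ζ.down
    refine ⟨tj T J hJ _ (psiT i M J y), ?_⟩
    rw [hΦ]
    apply ULift.ext
    rw [bridgeT_apply, LinearEquiv.symm_apply_apply, hy]
  exact ⟨((LinearEquiv.ofBijective Φ ⟨hinj, hsurj⟩).trans ULift.moduleEquiv).symm⟩

/-- **S1751** -/
theorem S1751 [IsNoetherianRing A] [Module.Finite A M] (n : ℕ) :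
    (∀ i : ℕ, i ≤ n → Module.Finite A (Dual2.HT T i M)) ↔
      ∃ J : Ideal A, PrimeSpectrum.zeroLocus (J : Set A) ⊆ T ∧
        ∀ i : ℕ, i ≤ n → ∀ a ∈ J, ∀ x : Dual2.HT T i M, a • x = 0 := by
  have hlow : ∀ i : ℤ, i < 0 → Subsingleton ((hdt T).obj ((Dual.inD A M)⟦i⟧)) := by
    intro i hi
    haveI : (Dual.inD A M).IsGE 0 :=
      inferInstanceAs (((singleFunctor (ModuleCat.{u} A) 0).obj _).IsGE 0)
    haveI : ((Dual.inD A M)⟦i⟧).IsGE (-i) :=
      (Groth.Agent.H4.ProjAmp.tR A).isGE_shift (Dual.inD A M) 0 i (-i) (by omega)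
    haveI : ((Dual.inD A M)⟦i⟧).IsGE 1 :=
      (Groth.Agent.H4.ProjAmp.tR A).isGE_of_ge _ 1 (-i) (by omega)
    exact Groth.Agent.H4.TL3.subsingleton_hdt_of_isGE _
  have key := S1764 (T := T) (Dual.inD A M) 0
    (fun i hi => Groth.Agent.H4.DZ4.subsingleton_HD_inD (A := A) M i (by omega))
    (fun i => Groth.Agent.H4.DZ4.finite_HD_inD (A := A) M i) (n : ℤ)
  constructor
  · intro hf
    obtain ⟨J, hJ, hk⟩ := key.1 (by
      intro i hi
      change Module.Finite A ((hdt T).obj ((Dual.inD A M)⟦i⟧))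
      by_cases hi0 : i < 0
      · haveI := hlow i hi0
        infer_instance
      · obtain ⟨j, rfl⟩ : ∃ j : ℕ, (j : ℤ) = i := ⟨i.toNat, Int.toNat_of_nonneg (by omega)⟩
        obtain ⟨e⟩ := nonempty_HT_equiv_hdt T j M
        haveI := hf j (by omega)
        exact Module.Finite.equiv e)
    refine ⟨J, hJ, fun i hi a ha x => ?_⟩
    obtain ⟨e⟩ := nonempty_HT_equiv_hdt T i M
    apply e.injective
    rw [map_smul, map_zero]
    exact hk (i : ℤ) (by omega) a ha (e x)
  · rintro ⟨J, hJ, hk⟩ i hi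
    have h1 := key.2 ⟨J, hJ, by
      intro j hj a ha y
      by_cases hj0 : j < 0
      · have hs := hlow j hj0
        exact @Subsingleton.elim _ hs _ _
      · obtain ⟨j', rfl⟩ : ∃ j' : ℕ, (j' : ℤ) = j := ⟨j.toNat, Int.toNat_of_nonneg (by omega)⟩
        obtain ⟨e⟩ := nonempty_HT_equiv_hdt T j' M
        have h2 := hk j' (by omega) a ha (e.symm y)
        rw [← map_smul] at h2
        have h3 := congrArg e h2
        rwa [LinearEquiv.apply_symm_apply, map_zero] at h3⟩ (i : ℤ) (by omega)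
    obtain ⟨e⟩ := nonempty_HT_equiv_hdt T i M
    haveI : Module.Finite A ((hdt T).obj ((Dual.inD A M)⟦(i : ℤ)⟧)) := h1
    exact Module.Finite.equiv e.symm

end Bridge

end Groth.Agent.H4.TL6
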