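import Mathlib
import Groth.Agent.H4.FA6
import Groth.Agent.H4.US15
import Groth.Agent.H4.TL6

set_option autoImplicit false
universe u
open CategoryTheory Category Limits Pretriangulated

namespace Groth.Agent.H4.FA8

attribute [local instance] HasDerivedCategory.standard
attribute [local instance] Groth.Agent.H4.LK4.hasLTen Groth.Agent.H4.LK5.hasLTen₃
  Groth.Agent.H4.KI7.isSymMonoidal Groth.Agent.H4.KI6.hasRHom

open DRing DTen DerivedCategory Groth.Agent.H4.DThick Groth.Agent.H4.DCompl1 Groth.Agent.H4.CF1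
  Groth.Agent.H4.InjAmp Groth.Agent.H4.DZ1 Groth.Agent.H4.DZ2 Groth.Agent.H4.DZ3 Groth.Agent.H4.DZ4
  Groth.Agent.H4.DZ5 Groth.Agent.H4.DZ6 Groth.Agent.H4.ProjAmp Groth.Agent.H4.US8 Groth.Agent.H4.US9
  Groth.Agent.H4.US10 Groth.Agent.H4.US11 Groth.Agent.H4.US12 Groth.Agent.H4.US13
  Groth.Agent.H4.US14 Groth.Agent.H4.FB1 Groth.Agent.H4.FB2 Groth.Agent.H4.FB3
  Groth.Agent.H4.DRing1 Groth.Agent.H4.TL1 Groth.Agent.H4.TL3 Groth.Agent.H4.TL4
  Groth.Agent.H4.FA1 Groth.Agent.H4.FA2 Groth.Agent.H4.FA3 Groth.Agent.H4.FA4 Groth.Agent.H4.FA5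
  Groth.Agent.H4.FA6 Groth.Agent.H4.LD3 Groth.Agent.H4.HC6

open scoped Pointwise TensorProduct

variable {A : Type u} [CommRing A] [IsNoetherianRing A]

section general

variable (ω : Dual.D A) (hω : Dual.IsDualizing A ω)
  (n : PrimeSpectrum A → ℤ)
  (hn : ∀ (p : PrimeSpectrum A) (i : ℤ),
    p ∈ Module.support A (Dual.inD A (A ⧸ p.asIdeal) ⟶ ω⟦i⟧) ↔ i = n p)
  {T T' : Set (PrimeSpectrum A)}

include hω hn in
/-- the annihilator theorem, in terms of the supports of `Ext^j(K, ω)`. -/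
theorem kills_iff_support_cond (hT : StableUnderSpecialization T)
    (hT' : StableUnderSpecialization T') (K : Dual.D A) (a : ℤ) [K.IsGE a]
    (hK : ∀ i : ℤ, Module.Finite A (Dual.HD A K i)) (s : ℤ) :
    (∃ J : Ideal A, PrimeSpectrum.zeroLocus (J : Set A) ⊆ T' ∧
      ∀ i : ℤ, i ≤ s → Kills J ((hdt T).obj (K⟦i⟧))) ↔
    (∀ q ∈ T, ∀ p : PrimeSpectrum A, p ≤ q → p ∉ T' → ∀ j : ℤ, n q - s ≤ j →
      p ∉ Module.support A (K ⟶ ω⟦j⟧)) := by
  constructor
  · rintro ⟨J, hJ, hkill⟩ q hq p hpq hpT' j hj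
    refine not_mem_support_of_kills ω hω n hn hT K a hK J s hkill q hq p hpq ?_ j hj
    intro hJp
    exact hpT' (hJ (by
      rw [PrimeSpectrum.mem_zeroLocus, SetLike.coe_subset_coe]
      exact hJp))
  · intro h2
    exact exists_kill_of_support_cond ω hω n hn hT hT' K a hK s h2

/-- the interval `[p, q]` as the lower set of `q` among the primes containing `p`. -/
def IccIso (p q : PrimeSpectrum A) (hpq : p ≤ q) :
    Set.Iic (⟨q, hpq⟩ : Set.Ici p) ≃o Set.Icc p q where
  toFun x := ⟨x.1.1, x.1.2, x.2⟩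
  invFun y := ⟨⟨y.1, y.2.1⟩, y.2.2⟩
  left_inv _ := rfl
  right_inv _ := rfl
  map_rel_iff' := Iff.rfl

include hω hn in
theorem krullDim_Icc_eq (p q : PrimeSpectrum A) (hpq : p ≤ q) :
    Order.krullDim (Set.Icc p q) = (((n q - n p).toNat : ℕ) : WithBot ℕ∞) := by
  have hle := degree_le ω hω n hn p q hpq
  have hhq := height_Ici_eq ω hω n hn p (n q - n p).toNat ⟨q, hpq⟩ (by
    change n q - n p = _
    omega)
  rw [← Order.krullDim_eq_of_orderIso (IccIso p q hpq), ← Order.height_eq_krullDim_Iic, hhq]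
  rfl

include hω hn in
/-- the depth of `M_p` from the supports of `Ext^j(M, ω)`. -/
theorem depth_gt_iff (p : PrimeSpectrum A) (M : Type u) [AddCommGroup M] [Module A M]
    [Module.Finite A M] (k : ℤ) :
    (∀ j : ℤ, n p - k ≤ j → p ∉ Module.support A (Dual.inD A M ⟶ ω⟦j⟧)) ↔
      ∀ δ : ℕ, LocCoh.depth (Localization.AtPrime p.asIdeal)
        (LocalizedModule p.asIdeal.primeCompl M) = δ → k < δ := by
  have hB : Dual.IsDualizing (Localization.AtPrime p.asIdeal)
      ((E A (Localization.AtPrime p.asIdeal)).obj ω) :=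
    isDualizing_E_localization A p.asIdeal.primeCompl ω hω
  haveI : IsNoetherianRing (Localization.AtPrime p.asIdeal) :=
    IsLocalization.isNoetherianRing p.asIdeal.primeCompl _ inferInstance
  haveI : Module.Finite (Localization.AtPrime p.asIdeal)
      (LocalizedModule p.asIdeal.primeCompl M) :=
    Module.Finite.of_isLocalizedModule p.asIdeal.primeCompl
      (LocalizedModule.mkLinearMap p.asIdeal.primeCompl M)
  by_cases hp : p ∈ Module.support A M
  · haveI : Nontrivial (LocalizedModule p.asIdeal.primeCompl M) := Module.mem_support_iff.1 hp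
    have hnp := extData_E ω hω n hn p
    obtain ⟨d, hd⟩ := exists_supportDim_eq (A := Localization.AtPrime p.asIdeal)
      (LocalizedModule p.asIdeal.primeCompl M)
    obtain ⟨δ, hdep, -, h2, h3⟩ := ext_range _ hB _ hnp
      (LocalizedModule p.asIdeal.primeCompl M) d hd
    rw [hdep]
    constructor
    · intro h δ' hδ'
      have hδ : δ = δ' := by exact_mod_cast hδ'
      subst hδ
      by_contra hcon
      apply h (n p - δ) (by omega)
      rw [← nontrivial_ext_loc_iff p M ω hω]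
      exact h2
    · intro h j hj hmem
      rw [← nontrivial_ext_loc_iff p M ω hω] at hmem
      have := (h3 _ hmem).2
      have := h δ rfl
      omega
  · constructor
    · intro _ δ hδ
      exfalso
      rw [Module.mem_support_iff, not_nontrivial_iff_subsingleton] at hp
      have htop : LocCoh.depth (Localization.AtPrime p.asIdeal)
          (LocalizedModule p.asIdeal.primeCompl M) = ⊤ := by
        unfold LocCoh.depth LocCoh.idealDepth
        rw [if_pos (Subsingleton.elim _ _)]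
      rw [htop] at hδ
      exact ENat.top_ne_coe _ hδ
    · intro _ j _
      exact not_mem_support_hom_of_not_mem_support p M _ hp

end general


section modules

variable (ω : Dual.D A) (hω : Dual.IsDualizing A ω)
  (n : PrimeSpectrum A → ℤ)
  (hn : ∀ (p : PrimeSpectrum A) (i : ℤ),
    p ∈ Module.support A (Dual.inD A (A ⧸ p.asIdeal) ⟶ ω⟦i⟧) ↔ i = n p)
  {T T' : Set (PrimeSpectrum A)}

omit [IsNoetherianRing A] in
/-- bridge: killing `H^i_T(M)` for `i ≤ s` in the two languages. -/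
theorem kills_HT_iff (T : Set (PrimeSpectrum A)) (M : Type u) [AddCommGroup M] [Module A M]
    (s : ℕ) (J : Ideal A) :
    (∀ i : ℕ, i ≤ s → ∀ a ∈ J, ∀ x : Dual2.HT T i M, a • x = 0) ↔
      ∀ i : ℤ, i ≤ (s : ℤ) → Kills J ((hdt T).obj ((Dual.inD A M)⟦i⟧)) := by
  have hlow : ∀ i : ℤ, i < 0 → Subsingleton ((hdt T).obj ((Dual.inD A M)⟦i⟧)) := by
    intro i hi
    haveI : (Dual.inD A M).IsGE 0 :=
      inferInstanceAs (((singleFunctor (ModuleCat.{u} A) 0).obj _).IsGE 0)
    haveI : ((Dual.inD A M)⟦i⟧).IsGE (-i) :=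
      (Groth.Agent.H4.ProjAmp.tR A).isGE_shift (Dual.inD A M) 0 i (-i) (by omega)
    haveI : ((Dual.inD A M)⟦i⟧).IsGE 1 :=
      (Groth.Agent.H4.ProjAmp.tR A).isGE_of_ge _ 1 (-i) (by omega)
    exact Groth.Agent.H4.TL3.subsingleton_hdt_of_isGE _
  constructor
  · intro hk j hj a ha y
    by_cases hj0 : j < 0
    · have hs := hlow j hj0
      exact @Subsingleton.elim _ hs _ _
    · obtain ⟨j', rfl⟩ : ∃ j' : ℕ, (j' : ℤ) = j := ⟨j.toNat, Int.toNat_of_nonneg (by omega)⟩
      obtain ⟨e⟩ := Groth.Agent.H4.TL6.nonempty_HT_equiv_hdt T j' M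
      have h2 := hk j' (by omega) a ha (e.symm y)
      rw [← map_smul] at h2
      have h3 := congrArg e h2
      rwa [LinearEquiv.apply_symm_apply, map_zero] at h3
  · intro hk i hi a ha x
    obtain ⟨e⟩ := Groth.Agent.H4.TL6.nonempty_HT_equiv_hdt T i M
    apply e.injective
    rw [map_smul, map_zero]
    exact hk (i : ℤ) (by omega) a ha (e x)

include hω hn in
/-- the numerical condition at a pair `p ≤ q`. -/
theorem depth_add_dim_iff (p q : PrimeSpectrum A) (hpq : p ≤ q) (M : Type u) [AddCommGroup M]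
    [Module A M] [Module.Finite A M] (s : ℕ) :
    ((s : WithBot ℕ∞) < ((LocCoh.depth (Localization.AtPrime p.asIdeal)
        (LocalizedModule p.asIdeal.primeCompl M) : ℕ∞) : WithBot ℕ∞) +
        Order.krullDim (Set.Icc p q)) ↔
      ∀ j : ℤ, n q - s ≤ j → p ∉ Module.support A (Dual.inD A M ⟶ ω⟦j⟧) := by
  have hle := degree_le ω hω n hn p q hpq
  rw [krullDim_Icc_eq ω hω n hn p q hpq]
  have e1 : n q - (s : ℤ) = n p - ((s : ℤ) - (n q - n p)) := by ring
  rw [e1, depth_gt_iff ω hω n hn p M ((s : ℤ) - (n q - n p))]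
  obtain ⟨h, hh⟩ : ∃ h : ℕ, (h : ℤ) = n q - n p := ⟨(n q - n p).toNat, by omega⟩
  have hh' : (n q - n p).toNat = h := by omega
  rw [hh', ← hh]
  generalize LocCoh.depth (Localization.AtPrime p.asIdeal)
        (LocalizedModule p.asIdeal.primeCompl M) = D
  induction D using ENat.recTopCoe with
  | top =>
    constructor
    · intro _ δ hδ
      exact absurd hδ (ENat.top_ne_coe _)
    · intro _
      have h' : ((⊤ : ℕ∞) : WithBot ℕ∞) + ((h : ℕ) : WithBot ℕ∞) = ((⊤ : ℕ∞) : WithBot ℕ∞) := by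
        change ((⊤ : ℕ∞) : WithBot ℕ∞) + (((h : ℕ) : ℕ∞) : WithBot ℕ∞) = _
        rw [← WithBot.coe_add, top_add]
      rw [h']
      change (((s : ℕ) : ℕ∞) : WithBot ℕ∞) < _
      rw [WithBot.coe_lt_coe]
      exact ENat.coe_lt_top s
  | coe δ =>
    have hcast : (((s : ℕ) : WithBot ℕ∞) < (((δ : ℕ) : ℕ∞) : WithBot ℕ∞) + ((h : ℕ) : WithBot ℕ∞))
        ↔ s < δ + h := by
      constructor
      · intro h
        exact_mod_cast h
      · intro h
        exact_mod_cast h
    rw [hcast]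
    constructor
    · intro h1 δ' hδ'
      have : δ = δ' := by exact_mod_cast hδ'
      subst this
      omega
    · intro h1
      have := h1 δ rfl
      omega

include hω hn in
theorem S1711_aux (hT : StableUnderSpecialization T) (hT' : StableUnderSpecialization T')
    (s : ℕ) (M : Type u) [AddCommGroup M] [Module A M] [Module.Finite A M] :
    (∃ J : Ideal A, PrimeSpectrum.zeroLocus (J : Set A) ⊆ T' ∧
      ∀ i : ℕ, i ≤ s → ∀ a ∈ J, ∀ x : Dual2.HT T i M, a • x = 0) ↔
    (∀ p q : PrimeSpectrum A, p ∉ T' → q ∈ T → p ≤ q →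
      (s : WithBot ℕ∞) < ((LocCoh.depth (Localization.AtPrime p.asIdeal)
        (LocalizedModule p.asIdeal.primeCompl M) : ℕ∞) : WithBot ℕ∞) +
        Order.krullDim (Set.Icc p q)) := by
  haveI : (Dual.inD A M).IsGE 0 :=
    inferInstanceAs (((singleFunctor (ModuleCat.{u} A) 0).obj _).IsGE 0)
  have key := kills_iff_support_cond ω hω n hn hT hT' (Dual.inD A M) 0
    (fun i => Groth.Agent.H4.DZ4.finite_HD_inD (A := A) M i) (s : ℤ)
  constructor
  · rintro ⟨J, hJ, hk⟩ p q hpT' hq hpq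
    rw [depth_add_dim_iff ω hω n hn p q hpq M s]
    exact key.1 ⟨J, hJ, (kills_HT_iff T M s J).1 hk⟩ q hq p hpq hpT'
  · intro h
    obtain ⟨J, hJ, hk⟩ := key.2 (by
      intro q hq p hpq hpT'
      rw [← depth_add_dim_iff ω hω n hn p q hpq M s]
      exact h p q hpT' hq hpq)
    exact ⟨J, hJ, (kills_HT_iff T M s J).2 hk⟩

end modules

theorem S1711 (A : Type u) [CommRing A] [IsNoetherianRing A]
    (hA : ∃ ω : Dual.D A, Dual.IsDualizing A ω) (T T' : Set (PrimeSpectrum A))
    (hT : StableUnderSpecialization T) (hT' : StableUnderSpecialization T')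
    (s : ℕ) (M : Type u) [AddCommGroup M] [Module A M] [Module.Finite A M] :
    (∃ J : Ideal A, PrimeSpectrum.zeroLocus (J : Set A) ⊆ T' ∧
      ∀ i : ℕ, i ≤ s → ∀ a ∈ J, ∀ x : Dual2.HT T i M, a • x = 0) ↔
    (∀ p q : PrimeSpectrum A, p ∉ T' → q ∈ T → p ≤ q →
      (s : WithBot ℕ∞) < ((LocCoh.depth (Localization.AtPrime p.asIdeal)
        (LocalizedModule p.asIdeal.primeCompl M) : ℕ∞) : WithBot ℕ∞) +
        Order.krullDim (Set.Icc p q)) := by
  obtain ⟨ω, hω⟩ := hA
  choose n hn using fun p : PrimeSpectrum A => exists_degree p ω hω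
  exact S1711_aux ω hω n hn hT hT' s M

theorem S1727 (A : Type u) [CommRing A] [IsNoetherianRing A]
    (hA : ∃ ω : Dual.D A, Dual.IsDualizing A ω) (T : Set (PrimeSpectrum A))
    (hT : StableUnderSpecialization T) (s : ℕ) (M : Type u) [AddCommGroup M] [Module A M]
    [Module.Finite A M] :
    (∀ i : ℕ, i ≤ s → Module.Finite A (Dual2.HT T i M)) ↔
    (∀ p q : PrimeSpectrum A, p ∉ T → q ∈ T → p ≤ q →
      (s : WithBot ℕ∞) < ((LocCoh.depth (Localization.AtPrime p.asIdeal)
        (LocalizedModule p.asIdeal.primeCompl M) : ℕ∞) : WithBot ℕ∞) +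
        Order.krullDim (Set.Icc p q)) := by
  rw [Groth.Agent.H4.TL6.S1751 T M s]
  exact S1711 A hA T T hT hT s M

end Groth.Agent.H4.FA8
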