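import Mathlib
import Groth.Agent.H4.FA12
import Groth.Agent.Lib.Helper6.SkKit

set_option autoImplicit false
universe u
open CategoryTheory Category Limits Pretriangulated

namespace Groth.Agent.H4.FA13

attribute [local instance] HasDerivedCategory.standard
attribute [local instance] Groth.Agent.H4.LK4.hasLTen Groth.Agent.H4.LK5.hasLTen₃
  Groth.Agent.H4.KI7.isSymMonoidal Groth.Agent.H4.KI6.hasRHom

open DRing DTen DerivedCategory
  Groth.Agent.H4.US12 Groth.Agent.H4.US13
  Groth.Agent.H4.US14 Groth.Agent.H4.FB1 Groth.Agent.H4.FB2 Groth.Agent.H4.FB3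
  Groth.Agent.H4.FA2 Groth.Agent.H4.FA6 Groth.Agent.H4.FA8 Groth.Agent.H4.FA12

open scoped Pointwise TensorProduct

variable {A : Type u} [CommRing A]

/-- the dimension of the support of a module bounds the coheights of the primes of the support. -/
theorem supportDim_le_iff (N : Type*) [AddCommGroup N] [Module A N] (c : ℕ) :
    Module.supportDim A N ≤ (c : WithBot ℕ∞) ↔
      ∀ p ∈ Module.support A N, Order.coheight p ≤ (c : ℕ∞) := by
  constructor
  · intro h p hp
    have h1 : (Order.coheight p : WithBot ℕ∞) ≤ Module.supportDim A N := by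
      rw [Order.coheight_eq_krullDim_Ici]
      unfold Module.supportDim
      refine Order.krullDim_le_of_strictMono
        (fun x : Set.Ici p => (⟨x.1, Module.mem_support_mono x.2 hp⟩ : Module.support A N)) ?_
      intro x y hxy
      exact hxy
    have := h1.trans h
    exact_mod_cast this
  · intro h
    unfold Module.supportDim
    rw [Order.krullDim_eq_iSup_coheight]
    refine iSup_le ?_
    rintro ⟨p, hp⟩
    have h1 := Order.coheight_le_coheight_apply_of_strictMono
      (fun x : Module.support A N => x.1) (fun x y hxy => hxy) ⟨p, hp⟩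
    have h2 := h1.trans (h p hp)
    exact_mod_cast h2

/-- at a minimal prime of the support the localized module has zero-dimensional support. -/
theorem supportDim_localized_of_minimal (M : Type u) [AddCommGroup M] [Module A M]
    [Module.Finite A M] (p : PrimeSpectrum A)
    (hp : p.asIdeal ∈ (Module.annihilator A M).minimalPrimes) :
    Module.supportDim (Localization.AtPrime p.asIdeal)
      (LocalizedModule p.asIdeal.primeCompl M) = 0 := by
  have hpS : p ∈ Module.support A M := by
    rw [Module.mem_support_iff_of_finite]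
    exact hp.1.2
  haveI : Nontrivial (LocalizedModule p.asIdeal.primeCompl M) := Module.mem_support_iff.1 hpS
  haveI : Module.Finite (Localization.AtPrime p.asIdeal)
      (LocalizedModule p.asIdeal.primeCompl M) :=
    Module.Finite.of_isLocalizedModule p.asIdeal.primeCompl
      (LocalizedModule.mkLinearMap p.asIdeal.primeCompl M)
  unfold Module.supportDim
  haveI : Nonempty (Module.support (Localization.AtPrime p.asIdeal)
      (LocalizedModule p.asIdeal.primeCompl M)) := by
    have := (Module.nonempty_support_iff (R := Localization.AtPrime p.asIdeal)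
      (M := LocalizedModule p.asIdeal.primeCompl M)).2 inferInstance
    exact this.to_subtype
  haveI : Subsingleton (Module.support (Localization.AtPrime p.asIdeal)
      (LocalizedModule p.asIdeal.primeCompl M)) := by
    have key : ∀ Q ∈ Module.support (Localization.AtPrime p.asIdeal)
        (LocalizedModule p.asIdeal.primeCompl M), Q = IsLocalRing.closedPoint _ := by
      intro Q hQ
      rw [Groth.Agent.H6.Sk.mem_support_localizedModule_iff] at hQ
      rw [Module.mem_support_iff_of_finite] at hQ
      have hle : (PrimeSpectrum.comap (algebraMap A (Localization.AtPrime p.asIdeal)) Q).asIdeal ≤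
          p.asIdeal := by
        have h1 : Q.asIdeal ≤ IsLocalRing.maximalIdeal (Localization.AtPrime p.asIdeal) :=
          IsLocalRing.le_maximalIdeal Q.isPrime.ne_top
        have h2 := Ideal.comap_mono (f := algebraMap A (Localization.AtPrime p.asIdeal)) h1
        have h3 : Ideal.comap (algebraMap A (Localization.AtPrime p.asIdeal))
            (IsLocalRing.maximalIdeal (Localization.AtPrime p.asIdeal)) = p.asIdeal :=
          IsLocalization.AtPrime.under_maximalIdeal (Localization.AtPrime p.asIdeal) p.asIdeal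
        rw [h3] at h2
        exact h2
      have heq := le_antisymm hle (hp.2 ⟨(PrimeSpectrum.comap _ Q).isPrime, hQ⟩ hle)
      apply PrimeSpectrum.ext
      have h3 : Q.asIdeal = Ideal.map (algebraMap A (Localization.AtPrime p.asIdeal))
          (Ideal.comap (algebraMap A (Localization.AtPrime p.asIdeal)) Q.asIdeal) :=
        (IsLocalization.map_comap p.asIdeal.primeCompl _ Q.asIdeal).symm
      rw [h3]
      change Ideal.map _ (PrimeSpectrum.comap (algebraMap A (Localization.AtPrime p.asIdeal))
        Q).asIdeal = _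
      rw [heq]
      exact Localization.AtPrime.map_eq_maximalIdeal
    constructor
    rintro ⟨Q, hQ⟩ ⟨Q', hQ'⟩
    apply Subtype.ext
    change Q = Q'
    rw [key Q hQ, key Q' hQ']
  exact Order.krullDim_eq_zero


section main

variable [IsNoetherianRing A] [IsLocalRing A]

theorem S18717 (ω : Dual.D A) (hω : Dual.IsDualizing A ω) (hnorm : Dual.IsNormalized A ω)
    (M : Type u) [AddCommGroup M] [Module A M] [Module.Finite A M] [Nontrivial M]
    (hM : EGA4.IsEquidimModule A M) (δ : ℕ) (hδ : Module.supportDim A M = δ) (k : ℕ)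
    (hk : 1 ≤ k) :
    LocCoh.HasSk k A M ↔
      ∀ j : ℤ, j ≠ -(δ : ℤ) →
        (-j - (k : ℤ) < 0 → Subsingleton (Dual.inD A M ⟶ ω⟦j⟧)) ∧
        (0 ≤ -j - (k : ℤ) → Module.supportDim A (Dual.inD A M ⟶ ω⟦j⟧) ≤
          ((-j - (k : ℤ)).toNat : WithBot ℕ∞)) := by
  choose n hn using fun p : PrimeSpectrum A => exists_degree p ω hω
  have hn0 := Groth.Agent.H4.US8.extData_zero ω hω hnorm
  -- the degree function is minus the coheight
  have hdeg : ∀ p : PrimeSpectrum A, ∃ c : ℕ, Order.coheight p = c ∧ n p = -(c : ℤ) := by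
    intro p
    obtain ⟨c, hc⟩ : ∃ c : ℕ, Order.coheight p = c :=
      ⟨_, (ENat.natCast_toNat (Order.coheight_lt_top p).ne).symm⟩
    refine ⟨c, hc, ?_⟩
    have h1 := Groth.Agent.H4.US11.mem_support_ext_quotient_prime ω hω hnorm c p hc
    exact ((hn p _).1 h1).symm
  -- F1: the Ext modules vanish below `-δ`
  have hF1 : ∀ (l : ℤ) (p : PrimeSpectrum A), p ∈ Module.support A (Dual.inD A M ⟶ ω⟦l⟧) →
      -(δ : ℤ) ≤ l := by
    intro l p hp
    obtain ⟨δ', -, -, -, h3⟩ := ext_range ω hω 0 hn0 M δ hδ
    haveI : Nontrivial (Dual.inD A M ⟶ ω⟦l⟧) := by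
      by_contra hnt
      rw [not_nontrivial_iff_subsingleton] at hnt
      rw [Module.support_eq_empty] at hp
      exact hp
    have := (h3 l inferInstance).1
    omega
  -- F2: the local dimensions
  have hF2 : ∀ p : PrimeSpectrum A, p ∈ Module.support A M →
      p ∈ Module.support A (Dual.inD A M ⟶ ω⟦(-(δ : ℤ))⟧) ∧
      ∃ d : ℕ, Module.supportDim (Localization.AtPrime p.asIdeal)
        (LocalizedModule p.asIdeal.primeCompl M) = d ∧ (d : ℤ) = n p + δ := by
    intro p hp
    have hann : Module.annihilator A M ≤ p.asIdeal := (Module.mem_support_iff_of_finite).1 hp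
    obtain ⟨P₀, hP₀, hP₀p⟩ := Ideal.exists_minimalPrimes_le hann
    let p₀ : PrimeSpectrum A := ⟨P₀, hP₀.1.1⟩
    have hp₀S : p₀ ∈ Module.support A M := (Module.mem_support_iff_of_finite).2 hP₀.1.2
    have hd₀ := supportDim_localized_of_minimal M p₀ hP₀
    obtain ⟨d₀, δ₀, hd₀', -, h1₀, -, -⟩ := ext_range_at ω hω n hn M p₀ hp₀S
    have hd₀z : d₀ = 0 := by
      rw [hd₀] at hd₀'
      exact_mod_cast hd₀'.symm
    subst hd₀z
    obtain ⟨c₀, hc₀, hnc₀⟩ := hdeg p₀
    have hc₀δ : c₀ = δ := by
      have h1 := hM P₀ hP₀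
      rw [hδ, ← Module.supportDim_quotient_eq_ringKrullDim,
        Groth.Agent.H4.US11.supportDim_quotient_prime p₀, hc₀] at h1
      exact_mod_cast h1
    have hp₀δ : p₀ ∈ Module.support A (Dual.inD A M ⟶ ω⟦(-(δ : ℤ))⟧) := by
      have e : n p₀ - ((0 : ℕ) : ℤ) = -(δ : ℤ) := by
        rw [hnc₀, hc₀δ]
        simp
      rw [e] at h1₀
      exact h1₀
    have hpδ : p ∈ Module.support A (Dual.inD A M ⟶ ω⟦(-(δ : ℤ))⟧) :=
      Module.mem_support_mono (show p₀ ≤ p from hP₀p) hp₀δ
    refine ⟨hpδ, ?_⟩
    obtain ⟨d, δ', hd, -, h1, -, h3⟩ := ext_range_at ω hω n hn M p hp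
    refine ⟨d, hd, ?_⟩
    have h4 := (h3 _ hpδ).1
    have h5 := hF1 _ p h1
    omega
  have hsuppM : ∀ (l : ℤ) (p : PrimeSpectrum A), p ∈ Module.support A (Dual.inD A M ⟶ ω⟦l⟧) →
      p ∈ Module.support A M := by
    intro l p hp
    by_contra hnot
    exact not_mem_support_hom_of_not_mem_support p M _ hnot hp
  rw [S18716 A ω hω M k hk]
  constructor
  · intro h j hj
    have key : ∀ p ∈ Module.support A (Dual.inD A M ⟶ ω⟦j⟧), (j : ℤ) + k ≤ n p := by
      intro p hp
      have hpM := hsuppM j p hp
      obtain ⟨hpδ, d, hd, hdn⟩ := hF2 p hpM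
      have hjδ : -(δ : ℤ) < j := lt_of_le_of_ne (hF1 j p hp) (Ne.symm hj)
      have h1 := h j (-(δ : ℤ)) hjδ p hp hpδ
      rw [hd] at h1
      have h2 : ((k : ℤ) + j - -(δ : ℤ)).toNat ≤ d := by exact_mod_cast h1
      omega
    constructor
    · intro hneg
      rw [← Module.support_eq_empty_iff (R := A), Set.eq_empty_iff_forall_notMem]
      intro p hp
      have h1 := key p hp
      obtain ⟨c, -, hc⟩ := hdeg p
      omega
    · intro hpos
      rw [supportDim_le_iff]
      intro p hp
      have h1 := key p hp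
      obtain ⟨c, hc, hnc⟩ := hdeg p
      rw [hc]
      have : c ≤ (-j - (k : ℤ)).toNat := by omega
      exact_mod_cast this
  · intro h i j hji p hi hj
    have hpM := hsuppM j p hj
    obtain ⟨hpδ, d, hd, hdn⟩ := hF2 p hpM
    have hjδ := hF1 j p hj
    have hiδ : i ≠ -(δ : ℤ) := by omega
    obtain ⟨h1, h2⟩ := h i hiδ
    have hpos : 0 ≤ -i - (k : ℤ) := by
      by_contra hneg
      haveI := h1 (not_le.1 hneg)
      rw [Module.support_eq_empty] at hi
      exact hi
    have h3 := (supportDim_le_iff _ _).1 (h2 hpos) p hi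
    obtain ⟨c, hc, hnc⟩ := hdeg p
    rw [hc] at h3
    have h4 : c ≤ (-i - (k : ℤ)).toNat := by exact_mod_cast h3
    rw [hd]
    have : ((k : ℤ) + i - j).toNat ≤ d := by omega
    exact_mod_cast this

end main

end Groth.Agent.H4.FA13
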