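import Mathlib
import Groth.Agent.H4.FA13

set_option autoImplicit false
universe u
open CategoryTheory Category Limits Pretriangulated

namespace Groth.Agent.H4.FA14

attribute [local instance] HasDerivedCategory.standard
attribute [local instance] Groth.Agent.H4.LK4.hasLTen Groth.Agent.H4.LK5.hasLTen₃
  Groth.Agent.H4.KI7.isSymMonoidal Groth.Agent.H4.KI6.hasRHom

open DRing DTen DerivedCategory
  Groth.Agent.H4.US12 Groth.Agent.H4.US13
  Groth.Agent.H4.US14 Groth.Agent.H4.FB1 Groth.Agent.H4.FB2 Groth.Agent.H4.FB3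
  Groth.Agent.H4.FA2 Groth.Agent.H4.FA6 Groth.Agent.H4.FA8 Groth.Agent.H4.FA12
  Groth.Agent.H4.FA13

open scoped Pointwise TensorProduct

variable {A : Type u} [CommRing A]

/-- localizing does not increase the dimension of the support. -/
theorem supportDim_localized_le (M : Type u) [AddCommGroup M] [Module A M] (p : Ideal A)
    [p.IsPrime] :
    Module.supportDim (Localization.AtPrime p) (LocalizedModule p.primeCompl M) ≤
      Module.supportDim A M := by
  unfold Module.supportDim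
  refine Order.krullDim_le_of_strictMono
    (fun Q : Module.support (Localization.AtPrime p) (LocalizedModule p.primeCompl M) =>
      (⟨PrimeSpectrum.comap (algebraMap A (Localization.AtPrime p)) Q.1,
        (Groth.Agent.H6.Sk.mem_support_localizedModule_iff M p Q.1).1 Q.2⟩ :
        Module.support A M)) ?_
  rintro ⟨Q, hQ⟩ ⟨Q', hQ'⟩ hlt
  have h1 : Q.asIdeal < Q'.asIdeal := hlt
  exact (IsLocalization.orderEmbedding p.primeCompl (Localization.AtPrime p)).strictMono h1

section global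

variable [IsNoetherianRing A] (ω : Dual.D A) (hω : Dual.IsDualizing A ω)
  (n : PrimeSpectrum A → ℤ)
  (hn : ∀ (p : PrimeSpectrum A) (i : ℤ),
    p ∈ Module.support A (Dual.inD A (A ⧸ p.asIdeal) ⟶ ω⟦i⟧) ↔ i = n p)
  (hnorm : ∀ (m : Ideal A) (_ : m.IsMaximal) (i : ℤ), i ≠ 0 →
    Subsingleton (Dual.inD A (A ⧸ m) ⟶ ω⟦i⟧))

include hn hnorm in
lemma degree_maximal (m : PrimeSpectrum A) (hm : m.asIdeal.IsMaximal) : n m = 0 := by
  by_contra h
  have h1 := (hn m (n m)).2 rfl
  haveI := hnorm m.asIdeal hm (n m) h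
  rw [Module.support_eq_empty] at h1
  exact h1

include hω hn hnorm in
lemma degree_nonpos (p : PrimeSpectrum A) : n p ≤ 0 := by
  obtain ⟨m, hm, hpm⟩ := Ideal.exists_le_maximal p.asIdeal p.isPrime.ne_top
  have h1 := degree_le ω hω n hn p ⟨m, hm.isPrime⟩ hpm
  rw [degree_maximal ω n hn hnorm ⟨m, hm.isPrime⟩ hm] at h1
  exact h1

include hω hn hnorm in
lemma coheight_eq (p : PrimeSpectrum A) : ∃ c : ℕ, Order.coheight p = c ∧ n p = -(c : ℤ) := by
  have hnp := degree_nonpos ω hω n hn hnorm p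
  refine ⟨(-n p).toNat, ?_, by omega⟩
  have h0 : (Order.coheight p : WithBot ℕ∞) = (((-n p).toNat : ℕ) : WithBot ℕ∞) := by
    rw [Order.coheight_eq_krullDim_Ici, Order.krullDim_eq_iSup_height]
    apply le_antisymm
    · refine iSup_le ?_
      intro x
      have hle := degree_le ω hω n hn p x.1 x.2
      have hx0 := degree_nonpos ω hω n hn hnorm x.1
      rw [height_Ici_eq ω hω n hn p (n x.1 - n p).toNat x (by omega)]
      have : (n x.1 - n p).toNat ≤ (-n p).toNat := by omega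
      exact_mod_cast this
    · obtain ⟨m, hm, hpm⟩ := Ideal.exists_le_maximal p.asIdeal p.isPrime.ne_top
      have hm0 := degree_maximal ω n hn hnorm ⟨m, hm.isPrime⟩ hm
      have h1 := height_Ici_eq ω hω n hn p (-n p).toNat ⟨⟨m, hm.isPrime⟩, hpm⟩ (by
        change n ⟨m, hm.isPrime⟩ - n p = _
        omega)
      have h2 := le_iSup (fun a : Set.Ici p => (Order.height a : WithBot ℕ∞))
        ⟨⟨m, hm.isPrime⟩, hpm⟩
      rw [h1] at h2
      exact h2
  exact_mod_cast h0

end global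


section global2

variable [IsNoetherianRing A]

theorem Sk_iff_global (ω : Dual.D A) (hω : Dual.IsDualizing A ω)
    (hnorm : ∀ (m : Ideal A) (_ : m.IsMaximal) (i : ℤ), i ≠ 0 →
      Subsingleton (Dual.inD A (A ⧸ m) ⟶ ω⟦i⟧))
    (M : Type u) [AddCommGroup M] [Module A M] [Module.Finite A M]
    (hM : EGA4.IsEquidimModule A M) (δ : ℕ) (hδ : Module.supportDim A M = δ) (k : ℕ)
    (hk : 1 ≤ k) :
    (∀ (l : ℤ) (p : PrimeSpectrum A), p ∈ Module.support A (Dual.inD A M ⟶ ω⟦l⟧) →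
      -(δ : ℤ) ≤ l ∧ l ≤ 0) ∧
    (LocCoh.HasSk k A M ↔
      ∀ j : ℤ, j ≠ -(δ : ℤ) →
        (-j - (k : ℤ) < 0 → Subsingleton (Dual.inD A M ⟶ ω⟦j⟧)) ∧
        (0 ≤ -j - (k : ℤ) → Module.supportDim A (Dual.inD A M ⟶ ω⟦j⟧) ≤
          ((-j - (k : ℤ)).toNat : WithBot ℕ∞))) := by
  choose n hn using fun p : PrimeSpectrum A => exists_degree p ω hω
  have hdeg := coheight_eq ω hω n hn hnorm
  have hsuppM : ∀ (l : ℤ) (p : PrimeSpectrum A), p ∈ Module.support A (Dual.inD A M ⟶ ω⟦l⟧) →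
      p ∈ Module.support A M := by
    intro l p hp
    by_contra hnot
    exact not_mem_support_hom_of_not_mem_support p M _ hnot hp
  -- F1: the Ext modules vanish below `-δ`
  have hF1 : ∀ (l : ℤ) (p : PrimeSpectrum A), p ∈ Module.support A (Dual.inD A M ⟶ ω⟦l⟧) →
      -(δ : ℤ) ≤ l := by
    intro l p hp
    obtain ⟨m, hm, hpm⟩ := Ideal.exists_le_maximal p.asIdeal p.isPrime.ne_top
    let 𝔪 : PrimeSpectrum A := ⟨m, hm.isPrime⟩
    have hm0 : n 𝔪 = 0 := degree_maximal ω n hn hnorm 𝔪 hm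
    have h𝔪 : 𝔪 ∈ Module.support A (Dual.inD A M ⟶ ω⟦l⟧) :=
      Module.mem_support_mono (show p ≤ 𝔪 from hpm) hp
    obtain ⟨d, δ', hd, -, -, -, h3⟩ := ext_range_at ω hω n hn M 𝔪 (hsuppM l 𝔪 h𝔪)
    have h4 := (h3 l h𝔪).1
    have h5 := supportDim_localized_le M m
    rw [hδ] at h5
    have h6 : Module.supportDim (Localization.AtPrime m) (LocalizedModule m.primeCompl M) = d := hd
    rw [h6] at h5
    have h7 : d ≤ δ := by exact_mod_cast h5
    omega
  have hF0 : ∀ (l : ℤ) (p : PrimeSpectrum A), p ∈ Module.support A (Dual.inD A M ⟶ ω⟦l⟧) →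
      l ≤ 0 := by
    intro l p hp
    obtain ⟨d, δ', -, -, -, -, h3⟩ := ext_range_at ω hω n hn M p (hsuppM l p hp)
    have h4 := (h3 l hp).2
    have h5 := degree_nonpos ω hω n hn hnorm p
    omega
  refine ⟨fun l p hp => ⟨hF1 l p hp, hF0 l p hp⟩, ?_⟩
  -- F2: the local dimensions
  have hF2 : ∀ p : PrimeSpectrum A, p ∈ Module.support A M →
      p ∈ Module.support A (Dual.inD A M ⟶ ω⟦(-(δ : ℤ))⟧) ∧
      ∃ d : ℕ, Module.supportDim (Localization.AtPrime p.asIdeal)
        (LocalizedModule p.asIdeal.primeCompl M) = d ∧ (d : ℤ) = n p + δ := by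
    intro p hp
    have hann : Module.annihilator A M ≤ p.asIdeal := (Module.mem_support_iff_of_finite).1 hp
    obtain ⟨P₀, hP₀, hP₀p⟩ := Ideal.exists_minimalPrimes_le hann
    let p₀ : PrimeSpectrum A := ⟨P₀, hP₀.1.1⟩
    have hp₀S : p₀ ∈ Module.support A M := (Module.mem_support_iff_of_finite).2 hP₀.1.2
    have hd₀ := supportDim_localized_of_minimal M p₀ hP₀
    obtain ⟨d₀, δ₀, hd₀', -, h1₀, -, -⟩ := ext_range_at ω hω n hn M p₀ hp₀S
    have hd₀z : d₀ = 0 := by
      rw [hd₀] at hd₀'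
      exact_mod_cast hd₀'.symm
    subst hd₀z
    obtain ⟨c₀, hc₀, hnc₀⟩ := hdeg p₀
    have hc₀δ : c₀ = δ := by
      have h1 := hM P₀ hP₀
      rw [hδ, ← Module.supportDim_quotient_eq_ringKrullDim,
        Groth.Agent.H4.US11.supportDim_quotient_prime p₀, hc₀] at h1
      exact_mod_cast h1
    have hp₀δ : p₀ ∈ Module.support A (Dual.inD A M ⟶ ω⟦(-(δ : ℤ))⟧) := by
      have e : n p₀ - ((0 : ℕ) : ℤ) = -(δ : ℤ) := by
        rw [hnc₀, hc₀δ]
        simp
      rw [e] at h1₀
      exact h1₀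
    have hpδ : p ∈ Module.support A (Dual.inD A M ⟶ ω⟦(-(δ : ℤ))⟧) :=
      Module.mem_support_mono (show p₀ ≤ p from hP₀p) hp₀δ
    refine ⟨hpδ, ?_⟩
    obtain ⟨d, δ', hd, -, h1, -, h3⟩ := ext_range_at ω hω n hn M p hp
    refine ⟨d, hd, ?_⟩
    have h4 := (h3 _ hpδ).1
    have h5 := hF1 _ p h1
    omega
  rw [S18716 A ω hω M k hk]
  constructor
  · intro h j hj
    have key : ∀ p ∈ Module.support A (Dual.inD A M ⟶ ω⟦j⟧), (j : ℤ) + k ≤ n p := by
      intro p hp
      have hpM := hsuppM j p hp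
      obtain ⟨hpδ, d, hd, hdn⟩ := hF2 p hpM
      have hjδ : -(δ : ℤ) < j := lt_of_le_of_ne (hF1 j p hp) (Ne.symm hj)
      have h1 := h j (-(δ : ℤ)) hjδ p hp hpδ
      rw [hd] at h1
      have h2 : ((k : ℤ) + j - -(δ : ℤ)).toNat ≤ d := by exact_mod_cast h1
      omega
    constructor
    · intro hneg
      rw [← Module.support_eq_empty_iff (R := A), Set.eq_empty_iff_forall_notMem]
      intro p hp
      have h1 := key p hp
      obtain ⟨c, -, hc⟩ := hdeg p
      omega
    · intro hpos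
      rw [supportDim_le_iff]
      intro p hp
      have h1 := key p hp
      obtain ⟨c, hc, hnc⟩ := hdeg p
      rw [hc]
      have : c ≤ (-j - (k : ℤ)).toNat := by omega
      exact_mod_cast this
  · intro h i j hji p hi hj
    have hpM := hsuppM j p hj
    obtain ⟨hpδ, d, hd, hdn⟩ := hF2 p hpM
    have hjδ := hF1 j p hj
    have hiδ : i ≠ -(δ : ℤ) := by omega
    obtain ⟨h1, h2⟩ := h i hiδ
    have hpos : 0 ≤ -i - (k : ℤ) := by
      by_contra hneg
      haveI := h1 (not_le.1 hneg)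
      rw [Module.support_eq_empty] at hi
      exact hi
    have h3 := (supportDim_le_iff _ _).1 (h2 hpos) p hi
    obtain ⟨c, hc, hnc⟩ := hdeg p
    rw [hc] at h3
    have h4 : c ≤ (-i - (k : ℤ)).toNat := by exact_mod_cast h3
    rw [hd]
    have : ((k : ℤ) + i - j).toNat ≤ d := by omega
    exact_mod_cast this

end global2


theorem S18721 (k A : Type u) [Field k] [CommRing A]
    [Algebra k A] (hft : Algebra.FiniteType k A) [IsNoetherianRing A]
    (hEq : EGA4.IsEquidim A) (n : ℕ) (hd : ringKrullDim A = n)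
    (ω : Dual.D A) (hω : Dual.IsDualizing A ω)
    (hnorm : ∀ (m : Ideal A) (_ : m.IsMaximal) (i : ℤ), i ≠ 0 →
      Subsingleton (Dual.inD A (A ⧸ m) ⟶ ω⟦i⟧)) :
    (∀ i : ℕ, n < i → Subsingleton (Dual.HD A ω (-(i : ℤ)))) ∧
    ∀ k' : ℕ, 1 ≤ k' →
      (LocCoh.HasSk k' A A ↔
        ∀ i : ℕ, i ≠ n →
          (i < k' → Subsingleton (Dual.HD A ω (-(i : ℤ)))) ∧
          (k' ≤ i → Module.supportDim A (Dual.HD A ω (-(i : ℤ))) ≤
            ((i - k' : ℕ) : WithBot ℕ∞))) := by
  have hδ : Module.supportDim A A = (n : WithBot ℕ∞) := by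
    rw [Module.supportDim_self_eq_ringKrullDim, hd]
  have hM : EGA4.IsEquidimModule A A := by
    intro p hp
    have hann : Module.annihilator A A = ⊥ := by
      rw [eq_bot_iff]
      intro a ha
      have := (Module.mem_annihilator.1 ha) (1 : A)
      simpa using this
    rw [hann] at hp
    rw [Module.supportDim_self_eq_ringKrullDim]
    exact hEq p hp
  have he : ∀ j : ℤ, Nonempty (Dual.HD A ω j ≃ₗ[A] (Dual.inD A A ⟶ ω⟦j⟧)) :=
    fun j => Groth.Agent.H4.US7.nonempty_HD_equiv ω j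
  have hsub_iff : ∀ j : ℤ, Subsingleton (Dual.HD A ω j) ↔ Subsingleton (Dual.inD A A ⟶ ω⟦j⟧) := by
    intro j
    obtain ⟨e⟩ := he j
    exact e.toEquiv.subsingleton_congr
  have hdim_eq : ∀ j : ℤ, Module.supportDim A (Dual.HD A ω j) =
      Module.supportDim A (Dual.inD A A ⟶ ω⟦j⟧) := by
    intro j
    obtain ⟨e⟩ := he j
    unfold Module.supportDim
    rw [e.support_eq]
  -- vanishing of the Ext modules outside `[-n, 0]`
  have hvan : ∀ l : ℤ, (l < -(n : ℤ) ∨ 0 < l) → Subsingleton (Dual.inD A A ⟶ ω⟦l⟧) := by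
    intro l hl
    obtain ⟨h1, -⟩ := Sk_iff_global ω hω hnorm A hM n hδ 1 le_rfl
    rw [← Module.support_eq_empty_iff (R := A), Set.eq_empty_iff_forall_notMem]
    intro p hp
    have := h1 l p hp
    omega
  refine ⟨fun i hi => (hsub_iff _).2 (hvan _ (Or.inl (by omega))), ?_⟩
  intro k' hk'
  obtain ⟨-, h2⟩ := Sk_iff_global ω hω hnorm A hM n hδ k' hk'
  rw [h2]
  constructor
  · intro h i hi
    obtain ⟨h3, h4⟩ := h (-(i : ℤ)) (by omega)
    constructor
    · intro hik
      rw [hsub_iff]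
      exact h3 (by omega)
    · intro hik
      rw [hdim_eq]
      have h5 := h4 (by omega)
      have e : (-(-(i : ℤ)) - (k' : ℤ)).toNat = i - k' := by omega
      rw [e] at h5
      exact h5
  · intro h j hj
    by_cases hj0 : 0 < j
    · haveI := hvan j (Or.inr hj0)
      refine ⟨fun _ => inferInstance, fun hpos => ?_⟩
      rw [Module.supportDim_eq_bot_of_subsingleton]
      exact bot_le
    · obtain ⟨i, rfl⟩ : ∃ i : ℕ, j = -(i : ℤ) := ⟨(-j).toNat, by omega⟩
      obtain ⟨h3, h4⟩ := h i (by omega)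
      constructor
      · intro hneg
        rw [← hsub_iff]
        exact h3 (by omega)
      · intro hpos
        rw [← hdim_eq]
        have h5 := h4 (by omega)
        have e : (-(-(i : ℤ)) - (k' : ℤ)).toNat = i - k' := by omega
        rw [e]
        exact h5

end Groth.Agent.H4.FA14
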