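import Mathlib
import Groth.Agent.H4.FA14
import Groth.Agent.Lib.Helper1.DepthConn
import Groth.Agent.Lib.Helper5.DepthSeq.A
import Groth.Agent.Lib.Helper6.SkQuot

set_option autoImplicit false
universe u
open CategoryTheory Category Limits Pretriangulated

namespace Groth.Agent.H4.FA15

attribute [local instance] HasDerivedCategory.standard

variable {A : Type u} [CommRing A] [IsNoetherianRing A]

/-- Hartshorne's connectedness theorem, for the primes strictly below a prime `p`. -/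
theorem depth_lt_two_of_disconnected (p : PrimeSpectrum A) (Z₁ Z₂ : Set (PrimeSpectrum A))
    (hZ₁ : IsClosed Z₁) (hZ₂ : IsClosed Z₂)
    (hcov : ∀ q : PrimeSpectrum A, q < p → q ∈ Z₁ ∨ q ∈ Z₂)
    (hdisj : ∀ q : PrimeSpectrum A, q < p → q ∈ Z₁ → q ∈ Z₂ → False)
    (q₁ q₂ : PrimeSpectrum A) (h₁ : q₁ < p) (h₁' : q₁ ∈ Z₁) (h₂ : q₂ < p) (h₂' : q₂ ∈ Z₂) :
    ¬ ((2 : ℕ∞) ≤ LocCoh.depth (Localization.AtPrime p.asIdeal)
      (Localization.AtPrime p.asIdeal)) := by
  intro hdepth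
  haveI : IsNoetherianRing (Localization.AtPrime p.asIdeal) :=
    IsLocalization.isNoetherianRing p.asIdeal.primeCompl _ inferInstance
  have hconn := Groth.Agent.H1.DepthConn.isPreconnected_punctured
    (Localization.AtPrime p.asIdeal) hdepth
  let f : PrimeSpectrum (Localization.AtPrime p.asIdeal) → PrimeSpectrum A :=
    PrimeSpectrum.comap (algebraMap A (Localization.AtPrime p.asIdeal))
  have hf : Continuous f := PrimeSpectrum.continuous_comap _
  have hle : ∀ Q, f Q ≤ p := by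
    intro Q
    have h1 : Q.asIdeal ≤ IsLocalRing.maximalIdeal (Localization.AtPrime p.asIdeal) :=
      IsLocalRing.le_maximalIdeal Q.isPrime.ne_top
    have h2 := Ideal.comap_mono (f := algebraMap A (Localization.AtPrime p.asIdeal)) h1
    have h3 : Ideal.comap (algebraMap A (Localization.AtPrime p.asIdeal))
        (IsLocalRing.maximalIdeal (Localization.AtPrime p.asIdeal)) = p.asIdeal :=
      IsLocalization.AtPrime.under_maximalIdeal (Localization.AtPrime p.asIdeal) p.asIdeal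
    rw [h3] at h2
    exact h2
  have hinj : Function.Injective f :=
    PrimeSpectrum.localization_comap_injective (Localization.AtPrime p.asIdeal)
      p.asIdeal.primeCompl
  have hfc : f (IsLocalRing.closedPoint _) = p := by
    apply PrimeSpectrum.ext
    exact IsLocalization.AtPrime.under_maximalIdeal (Localization.AtPrime p.asIdeal) p.asIdeal
  have hlt : ∀ Q, Q ∈ ({IsLocalRing.closedPoint _}ᶜ :
      Set (PrimeSpectrum (Localization.AtPrime p.asIdeal))) → f Q < p := by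
    intro Q hQ
    refine lt_of_le_of_ne (hle Q) ?_
    intro h
    apply hQ
    rw [← hfc] at h
    exact hinj h
  have hex : ∀ q : PrimeSpectrum A, q < p → ∃ Q, Q ∈ ({IsLocalRing.closedPoint _}ᶜ :
      Set (PrimeSpectrum (Localization.AtPrime p.asIdeal))) ∧ f Q = q := by
    intro q hq
    have hr : q ∈ Set.range f := by
      rw [PrimeSpectrum.localization_comap_range (Localization.AtPrime p.asIdeal)
        p.asIdeal.primeCompl]
      change Disjoint _ _
      rw [Set.disjoint_left]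
      intro x hx hxq
      exact hx (hq.le hxq)
    obtain ⟨Q, rfl⟩ := hr
    refine ⟨Q, ?_, rfl⟩
    intro h
    rw [Set.mem_singleton_iff] at h
    rw [h, hfc] at hq
    exact lt_irrefl _ hq
  rw [isPreconnected_closed_iff] at hconn
  obtain ⟨Q₁, hQ₁, hQ₁'⟩ := hex q₁ h₁
  obtain ⟨Q₂, hQ₂, hQ₂'⟩ := hex q₂ h₂
  obtain ⟨Q, hQ, hQ1, hQ2⟩ := hconn (f ⁻¹' Z₁) (f ⁻¹' Z₂) (hZ₁.preimage hf) (hZ₂.preimage hf)
    (fun Q hQ => hcov (f Q) (hlt Q hQ))
    ⟨Q₁, hQ₁, by rw [Set.mem_preimage, hQ₁']; exact h₁'⟩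
    ⟨Q₂, hQ₂, by rw [Set.mem_preimage, hQ₂']; exact h₂'⟩
  exact hdisj (f Q) (hlt Q hQ) hQ1 hQ2


section equidim

open Groth.Agent.H4.US12 Groth.Agent.H4.FA6 Groth.Agent.H4.FA12

variable (ω : Dual.D A) (hω : Dual.IsDualizing A ω)
  (n : PrimeSpectrum A → ℤ)
  (hn : ∀ (p : PrimeSpectrum A) (i : ℤ),
    p ∈ Module.support A (Dual.inD A (A ⧸ p.asIdeal) ⟶ ω⟦i⟧) ↔ i = n p)

include hω hn in
/-- over an `(S₂)` ring with a dualizing complex, two minimal primes contained in a common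
prime have the same degree. (Connectedness in codimension one.) -/
theorem degree_minimal_eq (hS : LocCoh.HasSk 2 A A) (m : PrimeSpectrum A)
    (p₀ p₀' : PrimeSpectrum A)
    (h₀ : p₀.asIdeal ∈ minimalPrimes A) (h₀' : p₀'.asIdeal ∈ minimalPrimes A)
    (h₀m : p₀ ≤ m) (h₀m' : p₀' ≤ m) : n p₀ = n p₀' := by
  by_contra hne
  let c := n p₀
  let B : Set (PrimeSpectrum A) := {q | q.asIdeal ∈ minimalPrimes A ∧ n q = c}
  let B' : Set (PrimeSpectrum A) := {q | q.asIdeal ∈ minimalPrimes A ∧ n q ≠ c}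
  have hmin_eq : ∀ ξ q : PrimeSpectrum A, q.asIdeal ∈ minimalPrimes A → ξ ≤ q → ξ = q := by
    intro ξ q hq hξq
    exact le_antisymm hξq (hq.2 ⟨ξ.isPrime, bot_le⟩ hξq)
  have hYc : IsClosed {q : PrimeSpectrum A | ∃ p₁ ∈ B, p₁ ≤ q} :=
    isClosed_spec_closure Set.univ B isClosed_univ (Set.subset_univ _) (by
      intro ξ q _ hq hξq
      rw [hmin_eq ξ q hq.1 hξq]
      exact hq)
  have hYc' : IsClosed {q : PrimeSpectrum A | ∃ p₁ ∈ B', p₁ ≤ q} :=
    isClosed_spec_closure Set.univ B' isClosed_univ (Set.subset_univ _) (by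
      intro ξ q _ hq hξq
      rw [hmin_eq ξ q hq.1 hξq]
      exact hq)
  obtain ⟨a, ha⟩ := (PrimeSpectrum.isClosed_iff_zeroLocus_ideal _).1 (hYc.inter hYc')
  have hmY : m ∈ {q : PrimeSpectrum A | ∃ p₁ ∈ B, p₁ ≤ q} ∩
      {q : PrimeSpectrum A | ∃ p₁ ∈ B', p₁ ≤ q} :=
    ⟨⟨p₀, ⟨h₀, rfl⟩, h₀m⟩, ⟨p₀', ⟨h₀', fun h => hne h.symm⟩, h₀m'⟩⟩
  rw [ha, PrimeSpectrum.mem_zeroLocus, SetLike.coe_subset_coe] at hmY
  obtain ⟨P, hP, hPm⟩ := Ideal.exists_minimalPrimes_le hmY
  let p : PrimeSpectrum A := ⟨P, hP.1.1⟩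
  have hpY : p ∈ {q : PrimeSpectrum A | ∃ p₁ ∈ B, p₁ ≤ q} ∩
      {q : PrimeSpectrum A | ∃ p₁ ∈ B', p₁ ≤ q} := by
    rw [ha, PrimeSpectrum.mem_zeroLocus, SetLike.coe_subset_coe]
    exact hP.1.2
  obtain ⟨⟨p₁, hp₁B, hp₁p⟩, ⟨p₁', hp₁B', hp₁p'⟩⟩ := hpY
  have hne1 : p₁ ≠ p₁' := by
    intro h
    rw [← h] at hp₁B'
    exact hp₁B'.2 hp₁B.2
  have hlt1 : p₁ < p := by
    refine lt_of_le_of_ne hp₁p ?_
    intro h
    rw [← h] at hp₁p'
    exact hne1 (hmin_eq p₁' p₁ hp₁B.1 hp₁p').symm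
  have hlt1' : p₁' < p := by
    refine lt_of_le_of_ne hp₁p' ?_
    intro h
    rw [← h] at hp₁p
    exact hne1 (hmin_eq p₁ p₁' hp₁B'.1 hp₁p)
  have hdepth := depth_lt_two_of_disconnected p _ _ hYc hYc'
    (by
      intro q _
      obtain ⟨Q, hQ, hQq⟩ := Ideal.exists_minimalPrimes_le (show (⊥ : Ideal A) ≤ q.asIdeal from bot_le)
      by_cases hc : n ⟨Q, hQ.1.1⟩ = c
      · exact Or.inl ⟨⟨Q, hQ.1.1⟩, ⟨hQ, hc⟩, hQq⟩
      · exact Or.inr ⟨⟨Q, hQ.1.1⟩, ⟨hQ, hc⟩, hQq⟩)
    (by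
      intro q hqp hq1 hq2
      have hq : q ∈ PrimeSpectrum.zeroLocus (a : Set A) := by
        rw [← ha]
        exact ⟨hq1, hq2⟩
      rw [PrimeSpectrum.mem_zeroLocus, SetLike.coe_subset_coe] at hq
      exact not_le_of_gt hqp (hP.2 ⟨q.isPrime, hq⟩ hqp.le))
    p₁ p₁' hlt1 ⟨p₁, hp₁B, le_rfl⟩ hlt1' ⟨p₁', hp₁B', le_rfl⟩
  -- hence `p` has height one
  have hht : P.height ≤ 1 := by
    haveI hPp : P.IsPrime := hP.1.1
    have hS' := hS P
    rw [Groth.Agent.H6.Sk.supportDim_localizedModule_self] at hS'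
    have e : LocalizedModule P.primeCompl A ≃ₗ[Localization.AtPrime P] Localization.AtPrime P :=
      (IsLocalizedModule.iso P.primeCompl
        (Algebra.linearMap A (Localization.AtPrime P))).extendScalarsOfIsLocalization P.primeCompl
          (Localization.AtPrime P)
    rw [Groth.Agent.Lib.Helper5.DepthSeq.depth_congr e] at hS'
    have hd : LocCoh.depth (Localization.AtPrime P) (Localization.AtPrime P) < 2 :=
      not_le.1 hdepth
    by_contra hcon
    have h2 : (2 : ℕ∞) ≤ P.height := by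
      have := Order.add_one_le_of_lt (not_le.1 hcon)
      exact_mod_cast this
    have hc2 : ((2 : ℕ) : WithBot ℕ∞) = (((2 : ℕ) : ℕ∞) : WithBot ℕ∞) := rfl
    have h3 : ((2 : ℕ) : WithBot ℕ∞) ≤ min ((2 : ℕ) : WithBot ℕ∞) ((P.height : ℕ∞) : WithBot ℕ∞) := by
      rw [le_min_iff]
      refine ⟨le_rfl, ?_⟩
      rw [hc2, WithBot.coe_le_coe]
      exact_mod_cast h2
    have h4 := h3.trans hS'
    rw [hc2, WithBot.coe_le_coe] at h4
    have h5 : (2 : ℕ∞) ≤ LocCoh.depth (Localization.AtPrime P) (Localization.AtPrime P) := by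
      exact_mod_cast h4
    exact hdepth h5
  have hcov : ∀ q₁ : PrimeSpectrum A, q₁ < p → q₁ ⋖ p := by
    intro q₁ hq₁
    refine ⟨hq₁, fun q hq₁q hqp => ?_⟩
    have h1 : q₁.asIdeal.height < q.asIdeal.height :=
      Ideal.height_strict_mono_of_isPrime (show q₁.asIdeal < q.asIdeal from hq₁q)
    have h2 : q.asIdeal.height < P.height :=
      Ideal.height_strict_mono_of_isPrime (show q.asIdeal < P from hqp)
    have h3 : (1 : ℕ∞) ≤ q.asIdeal.height := Order.one_le_iff_pos.2 (lt_of_le_of_lt bot_le h1)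
    have h4 := lt_of_le_of_lt h3 h2
    exact not_le_of_gt h4 hht
  have e1 := degree_of_covBy ω hω n hn p₁ p (hcov p₁ hlt1)
  have e2 := degree_of_covBy ω hω n hn p₁' p (hcov p₁' hlt1')
  apply hp₁B'.2
  rw [← hp₁B.2, e1, e2]

end equidim


section local_

open Groth.Agent.H4.US12 Groth.Agent.H4.FA6 Groth.Agent.H4.FA12

variable [IsLocalRing A] (ω : Dual.D A) (hω : Dual.IsDualizing A ω)
  (n : PrimeSpectrum A → ℤ)
  (hn : ∀ (p : PrimeSpectrum A) (i : ℤ),
    p ∈ Module.support A (Dual.inD A (A ⧸ p.asIdeal) ⟶ ω⟦i⟧) ↔ i = n p)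

include hω hn in
lemma coheight_eq_local (p : PrimeSpectrum A) :
    Order.coheight p = ((n (IsLocalRing.closedPoint A) - n p).toNat : ℕ∞) := by
  have hpm : p ≤ IsLocalRing.closedPoint A := IsLocalRing.le_maximalIdeal p.isPrime.ne_top
  have hnp := degree_le ω hω n hn p _ hpm
  have h0 : (Order.coheight p : WithBot ℕ∞) =
      (((n (IsLocalRing.closedPoint A) - n p).toNat : ℕ) : WithBot ℕ∞) := by
    rw [Order.coheight_eq_krullDim_Ici, Order.krullDim_eq_iSup_height]
    apply le_antisymm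
    · refine iSup_le ?_
      intro x
      have hle := degree_le ω hω n hn p x.1 x.2
      have hx0 := degree_le ω hω n hn x.1 (IsLocalRing.closedPoint A)
        (IsLocalRing.le_maximalIdeal x.1.isPrime.ne_top)
      rw [height_Ici_eq ω hω n hn p (n x.1 - n p).toNat x (by omega)]
      have : (n x.1 - n p).toNat ≤ (n (IsLocalRing.closedPoint A) - n p).toNat := by omega
      exact_mod_cast this
    · have h1 := height_Ici_eq ω hω n hn p (n (IsLocalRing.closedPoint A) - n p).toNat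
        ⟨IsLocalRing.closedPoint A, hpm⟩ (by
        change n (IsLocalRing.closedPoint A) - n p = _
        omega)
      have h2 := le_iSup (fun a : Set.Ici p => (Order.height a : WithBot ℕ∞))
        ⟨IsLocalRing.closedPoint A, hpm⟩
      rw [h1] at h2
      exact h2
  exact_mod_cast h0

include hω hn in
/-- a local `(S₂)` ring with a dualizing complex is equidimensional. -/
theorem isEquidim_of_S2_aux (hS : LocCoh.HasSk 2 A A) : EGA4.IsEquidim A := by
  intro P₀ hP₀
  let p₀ : PrimeSpectrum A := ⟨P₀, hP₀.1.1⟩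
  have hq : ∀ q : PrimeSpectrum A, Order.coheight q ≤ Order.coheight p₀ := by
    intro q
    obtain ⟨Q, hQ, hQq⟩ := Ideal.exists_minimalPrimes_le (show (⊥ : Ideal A) ≤ q.asIdeal from bot_le)
    let q₀ : PrimeSpectrum A := ⟨Q, hQ.1.1⟩
    have h1 : Order.coheight q ≤ Order.coheight q₀ := Order.coheight_anti (show q₀ ≤ q from hQq)
    have h2 : n q₀ = n p₀ := degree_minimal_eq ω hω n hn hS (IsLocalRing.closedPoint A) q₀ p₀ hQ hP₀
      (IsLocalRing.le_maximalIdeal q₀.isPrime.ne_top) (IsLocalRing.le_maximalIdeal p₀.isPrime.ne_top)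
    rw [coheight_eq_local ω hω n hn q₀, h2, ← coheight_eq_local ω hω n hn p₀] at h1
    exact h1
  rw [← Module.supportDim_quotient_eq_ringKrullDim,
    Groth.Agent.H4.US11.supportDim_quotient_prime p₀]
  apply le_antisymm
  · exact Order.coheight_le_krullDim p₀
  · unfold ringKrullDim
    rw [Order.krullDim_eq_iSup_coheight]
    refine iSup_le ?_
    intro q
    exact_mod_cast hq q

end local_

theorem isEquidim_of_S2 (A : Type u) [CommRing A] [IsNoetherianRing A] [IsLocalRing A]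
    (hA : ∃ ω : Dual.D A, Dual.IsDualizing A ω) (hS : LocCoh.HasSk 2 A A) : EGA4.IsEquidim A := by
  obtain ⟨ω, hω⟩ := hA
  choose n hn using fun p : PrimeSpectrum A => Groth.Agent.H4.US12.exists_degree p ω hω
  exact isEquidim_of_S2_aux ω hω n hn hS

end Groth.Agent.H4.FA15
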