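import Mathlib
import Groth.Agent.H4.FA15

set_option autoImplicit false
universe u
open CategoryTheory Category Limits Pretriangulated

namespace Groth.Agent.H4.FA16

attribute [local instance] HasDerivedCategory.standard
attribute [local instance] Groth.Agent.H4.LK4.hasLTen Groth.Agent.H4.LK5.hasLTen₃
  Groth.Agent.H4.KI7.isSymMonoidal Groth.Agent.H4.KI6.hasRHom

open DRing DTen DerivedCategory Groth.Agent.H4.DThick Groth.Agent.H4.DCompl1 Groth.Agent.H4.CF1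
  Groth.Agent.H4.InjAmp Groth.Agent.H4.DZ1 Groth.Agent.H4.DZ2 Groth.Agent.H4.DZ3 Groth.Agent.H4.DZ4
  Groth.Agent.H4.DZ5 Groth.Agent.H4.DZ6 Groth.Agent.H4.ProjAmp Groth.Agent.H4.US8 Groth.Agent.H4.US9
  Groth.Agent.H4.US10 Groth.Agent.H4.US11 Groth.Agent.H4.US12 Groth.Agent.H4.US13
  Groth.Agent.H4.US14 Groth.Agent.H4.FB1 Groth.Agent.H4.FB2 Groth.Agent.H4.FB3
  Groth.Agent.H4.DRing1

open scoped Pointwise TensorProduct

variable {A : Type u} [CommRing A] [IsNoetherianRing A] [IsLocalRing A]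
  (ω : Dual.D A) (hω : Dual.IsDualizing A ω) (hnorm : Dual.IsNormalized A ω)

include hω hnorm in
/-- `Ext^l(N, ω) = 0` for `l < - dim N`. -/
lemma subsingleton_ext_of_supportDim_le (N : Type u) [AddCommGroup N] [Module A N]
    [Module.Finite A N] (c : ℕ) (h : Module.supportDim A N ≤ (c : WithBot ℕ∞)) (l : ℤ)
    (hl : l < -(c : ℤ)) : Subsingleton (Dual.inD A N ⟶ ω⟦l⟧) := by
  by_cases hN : Subsingleton N
  · exact subsingleton_hom_of_subsingleton _ N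
  · rw [not_subsingleton_iff_nontrivial] at hN
    obtain ⟨d, hd⟩ := exists_supportDim_eq (A := A) N
    obtain ⟨δ, -, -, -, h3⟩ := ext_range ω hω 0 (extData_zero ω hω hnorm) N d hd
    rw [hd] at h
    have hdc : d ≤ c := by exact_mod_cast h
    by_contra hnt
    rw [not_subsingleton_iff_nontrivial] at hnt
    have := (h3 l hnt).1
    omega

include hω hnorm in
lemma isGE_omega (n : ℕ) (hd : ringKrullDim A = n) : ω.IsGE (-(n : ℤ)) := by
  rw [isGE_iff]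
  intro i hi
  have hsd : Module.supportDim A A ≤ (n : WithBot ℕ∞) := by
    rw [Module.supportDim_self_eq_ringKrullDim, hd]
  haveI := subsingleton_ext_of_supportDim_le ω hω hnorm A n hsd i hi
  obtain ⟨e⟩ := Groth.Agent.H4.US7.nonempty_HD_equiv ω i
  haveI : Subsingleton (Dual.HD A ω i) := e.toEquiv.subsingleton
  exact ModuleCat.isZero_of_subsingleton _


include hω hnorm in
/-- under `(S_k)`, the truncation `τ_{> -n} ω` has no maps to `ω[i]` for `i < k`. -/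
theorem subsingleton_hom_truncGE (n : ℕ) (hd : ringKrullDim A = n) (k : ℕ) (hk : 1 ≤ k)
    (hS : LocCoh.HasSk k A A) (hEq : EGA4.IsEquidim A) (i : ℤ) (hi : i < k) :
    Subsingleton ((((tR A).truncGE (-(n : ℤ) + 1)).obj ω) ⟶ ω⟦i⟧) := by
  obtain ⟨a, b, ha, hb, -⟩ := exists_bounds_of_isDualizing ω hω
  haveI := hb
  let c₀ : ℤ := -(n : ℤ) + 1
  let Tr := ((tR A).triangleLTGE c₀).obj ω
  have hTr : Tr ∈ distinguishedTriangles := (tR A).triangleLTGE_distinguished c₀ ω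
  haveI h3ge : Tr.obj₃.IsGE c₀ := inferInstanceAs ((tR A).IsGE (((tR A).truncGE c₀).obj ω) c₀)
  haveI h3le : Tr.obj₃.IsLE b :=
    inferInstanceAs ((tR A).IsLE (((tR A).truncGE c₀).obj ω) b)
  haveI h1le : Tr.obj₁.IsLE (c₀ - 1) :=
    inferInstanceAs ((tR A).IsLE (((tR A).truncLT c₀).obj ω) (c₀ - 1))
  -- the (S_k) data
  have hδ : Module.supportDim A A = (n : WithBot ℕ∞) := by
    rw [Module.supportDim_self_eq_ringKrullDim, hd]
  have hM : EGA4.IsEquidimModule A A := by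
    intro p hp
    have hann : Module.annihilator A A = ⊥ := by
      rw [eq_bot_iff]
      intro x hx
      have := (Module.mem_annihilator.1 hx) (1 : A)
      simpa using this
    rw [hann] at hp
    rw [Module.supportDim_self_eq_ringKrullDim]
    exact hEq p hp
  have hdata := (Groth.Agent.H4.FA13.S18717 ω hω hnorm A hM n hδ k hk).1 hS
  change Subsingleton (Tr.obj₃ ⟶ ω⟦i⟧)
  refine subsingleton_hom_of_homology (ω⟦i⟧) c₀ (b - c₀ + 1).toNat Tr.obj₃ h3ge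
    ((tR A).isLE_of_le _ b _ (by
      have := Int.self_le_toNat (b - c₀ + 1)
      omega)) ?_
  intro j
  by_cases hj : j < c₀
  · have hz : IsZero ((homologyFunctor (ModuleCat.{u} A) j).obj Tr.obj₃) :=
      isZero_of_isGE Tr.obj₃ c₀ j hj
    have hz' := (singleFunctor (ModuleCat.{u} A) j).map_isZero hz
    exact ⟨fun f g => hz'.eq_of_src f g⟩
  · have hiso : IsIso ((homologyFunctor (ModuleCat.{u} A) j).map Tr.mor₂) :=
      isIso_homology_mor₂ Tr hTr c₀ j (by omega)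
    let e1 : (homologyFunctor (ModuleCat.{u} A) j).obj ω ≅
        (homologyFunctor (ModuleCat.{u} A) j).obj Tr.obj₃ :=
      @asIso _ _ _ _ ((homologyFunctor (ModuleCat.{u} A) j).map Tr.mor₂) hiso
    let H := Dual.HD A ω j
    haveI : Module.Finite A H := hω.finite_cohomology j
    let e2 : (Dual.inD A H)⟦-j⟧ ≅ (singleFunctor (ModuleCat.{u} A) j).obj
        ((homologyFunctor (ModuleCat.{u} A) j).obj Tr.obj₃) :=
      ((singleFunctors (ModuleCat.{u} A)).shiftIso (-j) j 0 (by omega)).app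
        ((homologyFunctor (ModuleCat.{u} A) j).obj ω) ≪≫
        (singleFunctor (ModuleCat.{u} A) j).mapIso e1
    have hsub : Subsingleton (Dual.inD A H ⟶ ω⟦i + j⟧) := by
      obtain ⟨h1, h2⟩ := hdata j (by omega)
      obtain ⟨e⟩ := Groth.Agent.H4.US7.nonempty_HD_equiv ω j
      by_cases hneg : -j - (k : ℤ) < 0
      · haveI := h1 hneg
        haveI : Subsingleton H := e.toEquiv.subsingleton
        exact subsingleton_hom_of_subsingleton _ H
      · have h3 := h2 (not_lt.1 hneg)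
        have h4 : Module.supportDim A H ≤ (((-j - (k : ℤ)).toNat : ℕ) : WithBot ℕ∞) := by
          unfold Module.supportDim at h3 ⊢
          rw [e.support_eq]
          exact h3
        exact subsingleton_ext_of_supportDim_le ω hω hnorm H _ h4 (i + j) (by omega)
    have e3 : ((Dual.inD A H)⟦-j⟧ ⟶ ω⟦i⟧) ≃ₗ[A] (Dual.inD A H ⟶ ω⟦i + j⟧) :=
      (shiftHomLinEquiv (Dual.inD A H) (ω⟦i⟧) (-j) j (by omega)).trans
        (homShiftShiftLinEquiv (Dual.inD A H) ω i j (i + j) rfl)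
    haveI : Subsingleton ((Dual.inD A H)⟦-j⟧ ⟶ ω⟦i⟧) := e3.toEquiv.subsingleton
    exact (e2.homCongr (Iso.refl (ω⟦i⟧))).symm.subsingleton


omit [IsNoetherianRing A] [IsLocalRing A] in
/-- abstract triangle lemma: if `Hom(C, ω) = Hom(C[-1], ω) = 0 = Hom(X, C) = Hom(X, C[-1])` in a
distinguished triangle `X → ω → C → X[1]`, and `A → End(ω)` is bijective, so is `A → End(X)`. -/
theorem bijective_smul_id_obj₁ (Tr : Triangle (Dual.D A)) (hTr : Tr ∈ distTriang (Dual.D A))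
    (h1 : Subsingleton (Tr.obj₃ ⟶ Tr.obj₂))
    (h2 : Subsingleton (Tr.obj₃⟦(-1 : ℤ)⟧ ⟶ Tr.obj₂))
    (h4 : Subsingleton (Tr.obj₁ ⟶ Tr.obj₃⟦(-1 : ℤ)⟧))
    (hbij : Function.Bijective (fun a : A => a • 𝟙 Tr.obj₂)) :
    Function.Bijective (fun a : A => a • 𝟙 Tr.obj₁) := by
  have hTr' := inv_rot_of_distTriang _ hTr
  -- `Φ : End(ω) → Hom(X, ω)` is bijective
  have hΦinj : ∀ g : Tr.obj₂ ⟶ Tr.obj₂, Tr.mor₁ ≫ g = 0 → g = 0 := by
    intro g hg
    obtain ⟨g', hg'⟩ := Triangle.yoneda_exact₂ _ hTr g hg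
    rw [hg', Subsingleton.elim g' 0, comp_zero]
  have hΦsurj : ∀ f : Tr.obj₁ ⟶ Tr.obj₂, ∃ g : Tr.obj₂ ⟶ Tr.obj₂, f = Tr.mor₁ ≫ g := by
    intro f
    have hz : Tr.invRotate.mor₁ ≫ f = 0 := by
      have : Subsingleton (Tr.invRotate.obj₁ ⟶ Tr.obj₂) := h2
      exact Subsingleton.elim _ _
    obtain ⟨g, hg⟩ := Triangle.yoneda_exact₂ _ hTr' f hz
    exact ⟨g, hg⟩
  -- `Ψ : End(X) → Hom(X, ω)` is injective
  have hΨinj : ∀ h : Tr.obj₁ ⟶ Tr.obj₁, h ≫ Tr.mor₁ = 0 → h = 0 := by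
    intro h hh
    have hz : h ≫ Tr.invRotate.mor₂ = 0 := hh
    obtain ⟨g, hg⟩ := Triangle.coyoneda_exact₂ _ hTr' h hz
    have : Subsingleton (Tr.obj₁ ⟶ Tr.invRotate.obj₁) := h4
    have hg0 : g = 0 := Subsingleton.elim _ _
    exact hg.trans ((congrArg (· ≫ Tr.invRotate.mor₁) hg0).trans zero_comp)
  constructor
  · intro a a' haa
    apply hbij.1
    change a • 𝟙 Tr.obj₂ = a' • 𝟙 Tr.obj₂
    have h5 : Tr.mor₁ ≫ (a • 𝟙 Tr.obj₂ - a' • 𝟙 Tr.obj₂) = 0 := by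
      have h6 : (a • 𝟙 Tr.obj₁ - a' • 𝟙 Tr.obj₁) ≫ Tr.mor₁ = 0 := by
        have : a • 𝟙 Tr.obj₁ = a' • 𝟙 Tr.obj₁ := haa
        rw [this, sub_self, zero_comp]
      rw [Preadditive.comp_sub, Linear.comp_smul, Linear.comp_smul, comp_id]
      rw [Preadditive.sub_comp, Linear.smul_comp, Linear.smul_comp, id_comp] at h6
      exact h6
    exact sub_eq_zero.1 (hΦinj _ h5)
  · intro h
    obtain ⟨g, hg⟩ := hΦsurj (h ≫ Tr.mor₁)
    obtain ⟨a, ha⟩ := hbij.2 g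
    refine ⟨a, ?_⟩
    change a • 𝟙 Tr.obj₁ = h
    have h5 : (a • 𝟙 Tr.obj₁ - h) ≫ Tr.mor₁ = 0 := by
      rw [Preadditive.sub_comp, Linear.smul_comp, id_comp, hg, ← ha]
      change a • Tr.mor₁ - Tr.mor₁ ≫ (a • 𝟙 Tr.obj₂) = 0
      rw [Linear.comp_smul, comp_id, sub_self]
    exact sub_eq_zero.1 (hΨinj _ h5)


omit [IsNoetherianRing A] [IsLocalRing A] in
/-- abstract triangle lemma for `Ext¹`. -/
theorem subsingleton_ext_one_obj₁ (Tr : Triangle (Dual.D A)) (hTr : Tr ∈ distTriang (Dual.D A))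
    (h1 : Subsingleton (Tr.obj₂ ⟶ Tr.obj₂⟦(1 : ℤ)⟧))
    (h2 : Subsingleton (Tr.obj₃⟦(-1 : ℤ)⟧ ⟶ Tr.obj₂⟦(1 : ℤ)⟧))
    (h3 : Subsingleton (Tr.obj₁ ⟶ Tr.obj₃)) :
    Subsingleton (Tr.obj₁ ⟶ Tr.obj₁⟦(1 : ℤ)⟧) := by
  have hTr' := inv_rot_of_distTriang _ hTr
  have key : ∀ h : Tr.obj₁ ⟶ Tr.obj₁⟦(1 : ℤ)⟧, h = 0 := by
    intro h
    have hf : h ≫ Tr.mor₁⟦(1 : ℤ)⟧' = 0 := by
      have hz : Tr.invRotate.mor₁ ≫ (h ≫ Tr.mor₁⟦(1 : ℤ)⟧') = 0 := by
        have : Subsingleton (Tr.invRotate.obj₁ ⟶ Tr.obj₂⟦(1 : ℤ)⟧) := h2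
        exact Subsingleton.elim _ _
      obtain ⟨g, hg⟩ := Triangle.yoneda_exact₂ _ hTr' (h ≫ Tr.mor₁⟦(1 : ℤ)⟧') hz
      have : Subsingleton (Tr.invRotate.obj₃ ⟶ Tr.obj₂⟦(1 : ℤ)⟧) := h1
      have hg0 : g = 0 := Subsingleton.elim _ _
      exact hg.trans ((congrArg (Tr.invRotate.mor₂ ≫ ·) hg0).trans comp_zero)
    obtain ⟨g, hg⟩ := Triangle.coyoneda_exact₁ _ hTr h hf
    rw [hg, Subsingleton.elim g 0, zero_comp]
  exact ⟨fun f g => (key f).trans (key g).symm⟩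


omit [IsNoetherianRing A] [IsLocalRing A] in
lemma hasSk_mono {k l : ℕ} (hkl : k ≤ l) {M : Type u} [AddCommGroup M]
    [Module A M] (h : LocCoh.HasSk l A M) : LocCoh.HasSk k A M := by
  intro p hp
  refine le_trans (min_le_min ?_ le_rfl) (h p)
  exact_mod_cast hkl

include hω hnorm in
theorem S18719_aux (n : ℕ) (hd : ringKrullDim A = n) :
    (LocCoh.HasSk 2 A A →
      Function.Bijective (fun r : A => r • (LinearMap.id :
        Dual.HD A ω (-(n : ℤ)) →ₗ[A] Dual.HD A ω (-(n : ℤ))))) ∧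
    (LocCoh.HasSk 3 A A →
      Subsingleton (Dual.inD A (Dual.HD A ω (-(n : ℤ))) ⟶
        (Dual.inD A (Dual.HD A ω (-(n : ℤ))))⟦(1 : ℤ)⟧)) := by
  haveI hωge := isGE_omega ω hω hnorm n hd
  let c₀ : ℤ := -(n : ℤ) + 1
  let Tr := ((tR A).triangleLTGE c₀).obj ω
  have hTr : Tr ∈ distinguishedTriangles := (tR A).triangleLTGE_distinguished c₀ ω
  haveI h3ge : Tr.obj₃.IsGE c₀ := inferInstanceAs ((tR A).IsGE (((tR A).truncGE c₀).obj ω) c₀)
  haveI h1le : Tr.obj₁.IsLE (c₀ - 1) :=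
    inferInstanceAs ((tR A).IsLE (((tR A).truncLT c₀).obj ω) (c₀ - 1))
  haveI h1le' : Tr.obj₁.IsLE (-(n : ℤ)) := (tR A).isLE_of_le _ (c₀ - 1) _ (by omega)
  have hisoH : ∀ j : ℤ, j < c₀ → IsIso ((homologyFunctor (ModuleCat.{u} A) j).map Tr.mor₁) :=
    fun j hj => isIso_homology_mor₁ Tr hTr c₀ j hj
  haveI h1ge : Tr.obj₁.IsGE (-(n : ℤ)) := by
    rw [isGE_iff]
    intro j hj
    have hi := hisoH j (by omega)
    exact (isZero_of_isGE ω (-(n : ℤ)) j hj).of_iso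
      (@asIso _ _ _ _ ((homologyFunctor (ModuleCat.{u} A) j).map Tr.mor₁) hi)
  -- `X ≅ K[n]`
  obtain ⟨eX0⟩ := Groth.Agent.H4.PC.exists_iso_single Tr.obj₁ (-(n : ℤ))
  have hiK := hisoH (-(n : ℤ)) (by omega)
  let eK : (homologyFunctor (ModuleCat.{u} A) (-(n : ℤ))).obj Tr.obj₁ ≅
      (homologyFunctor (ModuleCat.{u} A) (-(n : ℤ))).obj ω :=
    @asIso _ _ _ _ ((homologyFunctor (ModuleCat.{u} A) (-(n : ℤ))).map Tr.mor₁) hiK
  let K := Dual.HD A ω (-(n : ℤ))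
  let S : Dual.D A := (singleFunctor (ModuleCat.{u} A) (-(n : ℤ))).obj (ModuleCat.of A K)
  let eX : Tr.obj₁ ≅ S := eX0 ≪≫ (singleFunctor (ModuleCat.{u} A) (-(n : ℤ))).mapIso eK
  -- the t-structure vanishing
  have h4 : Subsingleton (Tr.obj₁ ⟶ Tr.obj₃⟦(-1 : ℤ)⟧) := by
    haveI : (Tr.obj₃⟦(-1 : ℤ)⟧).IsGE (c₀ + 1) := (tR A).isGE_shift Tr.obj₃ c₀ (-1) (c₀ + 1) (by ring)
    exact ⟨fun f g => ((tR A).zero f (c₀ - 1) (c₀ + 1) (by omega)).trans
      ((tR A).zero g (c₀ - 1) (c₀ + 1) (by omega)).symm⟩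
  have h3 : Subsingleton (Tr.obj₁ ⟶ Tr.obj₃) :=
    ⟨fun f g => ((tR A).zero f (c₀ - 1) c₀ (by omega)).trans
      ((tR A).zero g (c₀ - 1) c₀ (by omega)).symm⟩
  have hshift : ∀ i : ℤ, Subsingleton (Tr.obj₃ ⟶ ω⟦i + 1⟧) →
      Subsingleton (Tr.obj₃⟦(-1 : ℤ)⟧ ⟶ ω⟦i⟧) := by
    intro i hs
    have e : (Tr.obj₃⟦(-1 : ℤ)⟧ ⟶ ω⟦i⟧) ≃ₗ[A] (Tr.obj₃ ⟶ ω⟦i + 1⟧) :=
      (shiftHomLinEquiv Tr.obj₃ (ω⟦i⟧) (-1) 1 (by omega)).trans
        (homShiftShiftLinEquiv Tr.obj₃ ω i 1 (i + 1) rfl)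
    exact e.toEquiv.subsingleton
  have hzero : ∀ X : Dual.D A, Subsingleton (X ⟶ ω⟦(0 : ℤ)⟧) → Subsingleton (X ⟶ ω) := by
    intro X hs
    exact ((Iso.refl X).homCongr ((shiftFunctorZero (Dual.D A) ℤ).app ω)).symm.subsingleton
  constructor
  · intro hS
    have hEq := Groth.Agent.H4.FA15.isEquidim_of_S2 A ⟨ω, hω⟩ hS
    have hv := subsingleton_hom_truncGE ω hω hnorm n hd 2 (by omega) hS hEq
    have h1 : Subsingleton (Tr.obj₃ ⟶ Tr.obj₂) := hzero _ (hv 0 (by norm_num))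
    have h2 : Subsingleton (Tr.obj₃⟦(-1 : ℤ)⟧ ⟶ Tr.obj₂) :=
      hzero _ (hshift 0 (hv (0 + 1) (by norm_num)))
    have hbX := bijective_smul_id_obj₁ Tr hTr h1 h2 h4 hω.toEnd_bijective
    -- transfer to `S`
    have hbS : Function.Bijective (fun a : A => a • 𝟙 S) := by
      have : (fun a : A => a • 𝟙 S) = (fun f : Tr.obj₁ ⟶ Tr.obj₁ => eX.inv ≫ f ≫ eX.hom) ∘
          (fun a : A => a • 𝟙 Tr.obj₁) := by
        funext a
        change a • 𝟙 S = eX.inv ≫ (a • 𝟙 Tr.obj₁) ≫ eX.hom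
        rw [Linear.smul_comp, Linear.comp_smul, id_comp, Iso.inv_hom_id]
      rw [this]
      refine Function.Bijective.comp ?_ hbX
      have hc : (fun f : Tr.obj₁ ⟶ Tr.obj₁ => eX.inv ≫ f ≫ eX.hom) = ⇑eX.conj := by
        funext f
        rw [Iso.conj_apply]
      rw [hc]
      exact eX.conj.bijective
    -- transfer to `ModuleCat`
    have hbM : Function.Bijective (fun a : A => a • 𝟙 (ModuleCat.of A K)) := by
      have hff := (Functor.FullyFaithful.ofFullyFaithful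
        (singleFunctor (ModuleCat.{u} A) (-(n : ℤ)))).map_bijective (ModuleCat.of A K)
        (ModuleCat.of A K)
      have hcomp : (fun a : A => a • 𝟙 S) =
          (fun f : ModuleCat.of A K ⟶ ModuleCat.of A K =>
            (singleFunctor (ModuleCat.{u} A) (-(n : ℤ))).map f) ∘
          (fun a : A => a • 𝟙 (ModuleCat.of A K)) := by
        funext a
        change a • 𝟙 S = (singleFunctor (ModuleCat.{u} A) (-(n : ℤ))).map (a • 𝟙 (ModuleCat.of A K))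
        rw [Functor.map_smul, CategoryTheory.Functor.map_id]
      rw [hcomp] at hbS
      constructor
      · exact Function.Injective.of_comp hbS.1
      · intro f
        obtain ⟨a, ha⟩ := hbS.2 ((singleFunctor (ModuleCat.{u} A) (-(n : ℤ))).map f)
        exact ⟨a, hff.1 ha⟩
    constructor
    · intro a a' haa
      apply hbM.1
      apply ModuleCat.hom_ext
      exact haa
    · intro f
      obtain ⟨a, ha⟩ := hbM.2 (ModuleCat.ofHom f)
      refine ⟨a, ?_⟩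
      have := congrArg ModuleCat.Hom.hom ha
      exact this
  · intro hS3
    have hS := hasSk_mono (A := A) (show 2 ≤ 3 by norm_num) hS3
    have hEq := Groth.Agent.H4.FA15.isEquidim_of_S2 A ⟨ω, hω⟩ hS
    have hv := subsingleton_hom_truncGE ω hω hnorm n hd 3 (by omega) hS3 hEq
    have h1 : Subsingleton (Tr.obj₂ ⟶ Tr.obj₂⟦(1 : ℤ)⟧) := hω.ext_self_subsingleton 1 one_ne_zero
    have h2 : Subsingleton (Tr.obj₃⟦(-1 : ℤ)⟧ ⟶ Tr.obj₂⟦(1 : ℤ)⟧) :=
      hshift 1 (hv (1 + 1) (by norm_num))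
    have hX := subsingleton_ext_one_obj₁ Tr hTr h1 h2 h3
    -- transfer
    let Z := Dual.inD A K
    let s : ℤ := -(-(n : ℤ))
    let eZ : Z⟦s⟧ ≅ S :=
      ((singleFunctors (ModuleCat.{u} A)).shiftIso (-(-(n : ℤ))) (-(n : ℤ)) 0 (by omega)).app
        (ModuleCat.of A K)
    let eXZ : Tr.obj₁ ≅ Z⟦s⟧ := eX ≪≫ eZ.symm
    haveI : Subsingleton (Z⟦s⟧ ⟶ (Z⟦s⟧)⟦(1 : ℤ)⟧) :=
      (eXZ.homCongr ((shiftFunctor (Dual.D A) (1 : ℤ)).mapIso eXZ)).symm.subsingleton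
    constructor
    intro f g
    have h5 : f⟦s⟧' ≫ (shiftComm Z (1 : ℤ) s).hom = g⟦s⟧' ≫ (shiftComm Z (1 : ℤ) s).hom :=
      Subsingleton.elim _ _
    have h6 := (cancel_mono _).1 h5
    exact (shiftFunctor (Dual.D A) s).map_injective h6

end Groth.Agent.H4.FA16
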