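import Mathlib
import Groth.Agent.H4.FA16

set_option autoImplicit false
universe u
open CategoryTheory Category Limits Pretriangulated

namespace Groth.Agent.H4.FA17

attribute [local instance] HasDerivedCategory.standard
attribute [local instance] Groth.Agent.H4.LK4.hasLTen Groth.Agent.H4.LK5.hasLTen₃
  Groth.Agent.H4.KI7.isSymMonoidal Groth.Agent.H4.KI6.hasRHom

open DRing DTen DerivedCategory Groth.Agent.H4.DThick Groth.Agent.H4.DCompl1 Groth.Agent.H4.CF1
  Groth.Agent.H4.InjAmp Groth.Agent.H4.DZ1 Groth.Agent.H4.DZ2 Groth.Agent.H4.DZ3 Groth.Agent.H4.DZ4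
  Groth.Agent.H4.DZ5 Groth.Agent.H4.DZ6 Groth.Agent.H4.ProjAmp Groth.Agent.H4.US8 Groth.Agent.H4.US9
  Groth.Agent.H4.US10 Groth.Agent.H4.US11 Groth.Agent.H4.US12 Groth.Agent.H4.US13
  Groth.Agent.H4.US14 Groth.Agent.H4.FB1 Groth.Agent.H4.FB2 Groth.Agent.H4.FB3
  Groth.Agent.H4.DRing1

open scoped Pointwise TensorProduct

variable {A : Type u} [CommRing A]

/-- exactness for supports, in a distinguished triangle -/
lemma not_mem_support_hom_obj₂ (p : PrimeSpectrum A) (Y : Dual.D A) (T : Triangle (Dual.D A))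
    (hT : T ∈ distTriang (Dual.D A)) (h1 : p ∉ Module.support A (T.obj₁ ⟶ Y))
    (h3 : p ∉ Module.support A (T.obj₃ ⟶ Y)) : p ∉ Module.support A (T.obj₂ ⟶ Y) := by
  rw [Module.notMem_support_iff'] at h1 h3 ⊢
  intro a
  obtain ⟨r, hr, hra⟩ := h1 (T.mor₁ ≫ a)
  have ha : T.mor₁ ≫ (r • a) = 0 := by
    rw [Linear.comp_smul]
    exact hra
  obtain ⟨g, hg⟩ := Triangle.yoneda_exact₂ _ hT (r • a) ha
  obtain ⟨s, hs, hsg⟩ := h3 g
  refine ⟨s * r, p.isPrime.mul_notMem hs hr, ?_⟩
  rw [mul_smul, hg, ← Linear.comp_smul, hsg, comp_zero]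

/-- dévissage for supports: a bounded object has no maps to `Y` near `p` as soon as its shifted
cohomology modules have none -/
theorem not_mem_support_hom_of_homology (p : PrimeSpectrum A) (Y : Dual.D A) (c : ℤ) :
    ∀ (d : ℕ) (N : Dual.D A), N.IsGE c → N.IsLE (c + d - 1) →
    (∀ j : ℤ, p ∉ Module.support A ((singleFunctor (ModuleCat.{u} A) j).obj
      ((homologyFunctor (ModuleCat.{u} A) j).obj N) ⟶ Y)) → p ∉ Module.support A (N ⟶ Y) := by
  intro d
  induction d with
  | zero =>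
    intro N hge hle _
    haveI := hge
    haveI : N.IsLE (c - 1) := by simpa using hle
    have hz : IsZero N := (tR A).isZero N (c - 1) c (by omega)
    haveI : Subsingleton (N ⟶ Y) := ⟨fun f g => hz.eq_of_src f g⟩
    rw [Module.support_eq_empty]
    exact Set.notMem_empty _
  | succ d ih =>
    intro N hge hle h
    haveI := hge
    haveI : N.IsLE (c + d) := by
      have e : c + ((d + 1 : ℕ) : ℤ) - 1 = c + d := by push_cast; ring
      rwa [e] at hle
    let n : ℤ := c + d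
    let T := ((tR A).triangleLTGE n).obj N
    have hT : T ∈ distinguishedTriangles := (tR A).triangleLTGE_distinguished n N
    haveI : T.obj₃.IsGE n := inferInstanceAs ((tR A).IsGE (((tR A).truncGE n).obj N) n)
    haveI : T.obj₃.IsLE n := inferInstanceAs ((tR A).IsLE (((tR A).truncGE n).obj N) n)
    haveI h1le : T.obj₁.IsLE (n - 1) :=
      inferInstanceAs ((tR A).IsLE (((tR A).truncLT n).obj N) (n - 1))
    haveI h1ge : T.obj₁.IsGE c := inferInstanceAs ((tR A).IsGE (((tR A).truncLT n).obj N) c)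
    -- the first vertex
    have h1 : p ∉ Module.support A (T.obj₁ ⟶ Y) := by
      refine ih T.obj₁ h1ge (by simpa [n] using h1le) (fun j => ?_)
      by_cases hj : j < n
      · have hiso : IsIso ((homologyFunctor (ModuleCat.{u} A) j).map T.mor₁) :=
          isIso_homology_mor₁ T hT n j hj
        let e1 : (homologyFunctor (ModuleCat.{u} A) j).obj T.obj₁ ≅
            (homologyFunctor (ModuleCat.{u} A) j).obj N :=
          @asIso _ _ _ _ ((homologyFunctor (ModuleCat.{u} A) j).map T.mor₁) hiso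
        rw [(isoHomLinEquiv ((singleFunctor (ModuleCat.{u} A) j).mapIso e1) Y).support_eq]
        exact h j
      · have hz : IsZero ((singleFunctor (ModuleCat.{u} A) j).obj
            ((homologyFunctor (ModuleCat.{u} A) j).obj T.obj₁)) :=
          (singleFunctor (ModuleCat.{u} A) j).map_isZero
            (isZero_of_isLE T.obj₁ (n - 1) j (by omega))
        haveI : Subsingleton ((singleFunctor (ModuleCat.{u} A) j).obj
            ((homologyFunctor (ModuleCat.{u} A) j).obj T.obj₁) ⟶ Y) :=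
          ⟨fun f g => hz.eq_of_src f g⟩
        rw [Module.support_eq_empty]
        exact Set.notMem_empty _
    -- the third vertex
    have h3 : p ∉ Module.support A (T.obj₃ ⟶ Y) := by
      obtain ⟨e⟩ := Groth.Agent.H4.PC.exists_iso_single T.obj₃ n
      have hiso : IsIso ((homologyFunctor (ModuleCat.{u} A) n).map T.mor₂) :=
        isIso_homology_mor₂ T hT n n le_rfl
      let e2 : (homologyFunctor (ModuleCat.{u} A) n).obj N ≅
          (homologyFunctor (ModuleCat.{u} A) n).obj T.obj₃ :=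
        @asIso _ _ _ _ ((homologyFunctor (ModuleCat.{u} A) n).map T.mor₂) hiso
      rw [(isoHomLinEquiv (e ≪≫ (singleFunctor (ModuleCat.{u} A) n).mapIso e2.symm)
        Y).support_eq]
      exact h n
    exact not_mem_support_hom_obj₂ p Y T hT h1 h3


section main

open Groth.Agent.H4.FA2 Groth.Agent.H4.FA6 Groth.Agent.H4.FA8 Groth.Agent.H4.FA12
  Groth.Agent.H4.FA13 Groth.Agent.H4.FA14 Groth.Agent.H4.FA15 Groth.Agent.H4.FA16

variable [IsNoetherianRing A]
  (ω : Dual.D A) (hω : Dual.IsDualizing A ω)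
  (ν : PrimeSpectrum A → ℤ)
  (hν : ∀ (p : PrimeSpectrum A) (i : ℤ),
    p ∈ Module.support A (Dual.inD A (A ⧸ p.asIdeal) ⟶ ω⟦i⟧) ↔ i = ν p)

include hω hν in
/-- `Ext^l(N, ω)_p = 0` for `l > ν p`. -/
lemma not_mem_support_ext_of_gt (N : Type u) [AddCommGroup N] [Module A N] [Module.Finite A N]
    (p : PrimeSpectrum A) (l : ℤ) (hl : ν p < l) :
    p ∉ Module.support A (Dual.inD A N ⟶ ω⟦l⟧) := by
  by_cases hp : p ∈ Module.support A N
  · obtain ⟨d, δ, -, -, -, -, h3⟩ := ext_range_at ω hω ν hν N p hp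
    intro hmem
    have := (h3 l hmem).2
    omega
  · exact not_mem_support_hom_of_not_mem_support p N _ hp

include hω hν in
/-- the lowest cohomology module `L = H^0(ω)` of a dualizing complex in `D^{≥ 0}`:
`Ext^j(L, ω)_p = 0` for `j ≥ ν p - 1`, `j ≠ 0`. -/
theorem not_mem_support_ext_lowest [ω.IsGE 0] (p : PrimeSpectrum A) (j : ℤ) (hj : ν p - 1 ≤ j)
    (hj0 : j ≠ 0) :
    p ∉ Module.support A (Dual.inD A (Dual.HD A ω 0) ⟶ ω⟦j⟧) := by
  obtain ⟨a, b, ha, hb, -⟩ := exists_bounds_of_isDualizing ω hω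
  haveI := hb
  let Tr := ((tR A).triangleLTGE 1).obj ω
  have hTr : Tr ∈ distinguishedTriangles := (tR A).triangleLTGE_distinguished 1 ω
  haveI h3ge : Tr.obj₃.IsGE 1 := inferInstanceAs ((tR A).IsGE (((tR A).truncGE 1).obj ω) 1)
  haveI h3le : Tr.obj₃.IsLE b := inferInstanceAs ((tR A).IsLE (((tR A).truncGE 1).obj ω) b)
  haveI h1le : Tr.obj₁.IsLE (1 - 1) :=
    inferInstanceAs ((tR A).IsLE (((tR A).truncLT 1).obj ω) (1 - 1))
  haveI h1le' : Tr.obj₁.IsLE 0 := (tR A).isLE_of_le _ (1 - 1) _ (by omega)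
  haveI h1ge : Tr.obj₁.IsGE 0 := inferInstanceAs ((tR A).IsGE (((tR A).truncLT 1).obj ω) 0)
  obtain ⟨eX0⟩ := Groth.Agent.H4.PC.exists_iso_single Tr.obj₁ 0
  have hiK : IsIso ((homologyFunctor (ModuleCat.{u} A) 0).map Tr.mor₁) :=
    isIso_homology_mor₁ Tr hTr 1 0 (by omega)
  let eK : (homologyFunctor (ModuleCat.{u} A) 0).obj Tr.obj₁ ≅
      (homologyFunctor (ModuleCat.{u} A) 0).obj ω :=
    @asIso _ _ _ _ ((homologyFunctor (ModuleCat.{u} A) 0).map Tr.mor₁) hiK
  let eX : Tr.obj₁ ≅ Dual.inD A (Dual.HD A ω 0) :=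
    eX0 ≪≫ (singleFunctor (ModuleCat.{u} A) 0).mapIso eK
  rw [← (isoHomLinEquiv eX (ω⟦j⟧)).support_eq]
  -- the triangle `C[-1] → X → ω`
  have hTr' := inv_rot_of_distTriang _ hTr
  refine not_mem_support_hom_obj₂ p (ω⟦j⟧) Tr.invRotate hTr' ?_ ?_
  · -- `Hom(C[-1], ω[j]) ≃ Hom(C, ω[j+1])`
    have e : (Tr.obj₃⟦(-1 : ℤ)⟧ ⟶ ω⟦j⟧) ≃ₗ[A] (Tr.obj₃ ⟶ ω⟦j + 1⟧) :=
      (shiftHomLinEquiv Tr.obj₃ (ω⟦j⟧) (-1) 1 (by omega)).trans
        (homShiftShiftLinEquiv Tr.obj₃ ω j 1 (j + 1) rfl)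
    change p ∉ Module.support A (Tr.obj₃⟦(-1 : ℤ)⟧ ⟶ ω⟦j⟧)
    rw [e.support_eq]
    refine not_mem_support_hom_of_homology p (ω⟦j + 1⟧) 1 (b - 1 + 1).toNat Tr.obj₃ h3ge
      ((tR A).isLE_of_le _ b _ (by
        have := Int.self_le_toNat (b - 1 + 1)
        omega)) ?_
    intro i
    by_cases hi : i < 1
    · have hz : IsZero ((homologyFunctor (ModuleCat.{u} A) i).obj Tr.obj₃) :=
        isZero_of_isGE Tr.obj₃ 1 i hi
      have hz' := (singleFunctor (ModuleCat.{u} A) i).map_isZero hz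
      haveI : Subsingleton ((singleFunctor (ModuleCat.{u} A) i).obj
          ((homologyFunctor (ModuleCat.{u} A) i).obj Tr.obj₃) ⟶ ω⟦j + 1⟧) :=
        ⟨fun f g => hz'.eq_of_src f g⟩
      rw [Module.support_eq_empty]
      exact Set.notMem_empty _
    · have hiso : IsIso ((homologyFunctor (ModuleCat.{u} A) i).map Tr.mor₂) :=
        isIso_homology_mor₂ Tr hTr 1 i (by omega)
      let e1 : (homologyFunctor (ModuleCat.{u} A) i).obj ω ≅
          (homologyFunctor (ModuleCat.{u} A) i).obj Tr.obj₃ :=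
        @asIso _ _ _ _ ((homologyFunctor (ModuleCat.{u} A) i).map Tr.mor₂) hiso
      let H := Dual.HD A ω i
      haveI : Module.Finite A H := hω.finite_cohomology i
      let e2 : (Dual.inD A H)⟦-i⟧ ≅ (singleFunctor (ModuleCat.{u} A) i).obj
          ((homologyFunctor (ModuleCat.{u} A) i).obj Tr.obj₃) :=
        ((singleFunctors (ModuleCat.{u} A)).shiftIso (-i) i 0 (by omega)).app
          ((homologyFunctor (ModuleCat.{u} A) i).obj ω) ≪≫
          (singleFunctor (ModuleCat.{u} A) i).mapIso e1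
      have e3 : ((Dual.inD A H)⟦-i⟧ ⟶ ω⟦j + 1⟧) ≃ₗ[A] (Dual.inD A H ⟶ ω⟦j + 1 + i⟧) :=
        (shiftHomLinEquiv (Dual.inD A H) (ω⟦j + 1⟧) (-i) i (by omega)).trans
          (homShiftShiftLinEquiv (Dual.inD A H) ω (j + 1) i (j + 1 + i) rfl)
      rw [← (isoHomLinEquiv e2 (ω⟦j + 1⟧)).support_eq, e3.support_eq]
      exact not_mem_support_ext_of_gt ω hω ν hν H p _ (by omega)
  · haveI : Subsingleton (ω ⟶ ω⟦j⟧) := hω.ext_self_subsingleton j hj0
    change p ∉ Module.support A (ω ⟶ ω⟦j⟧)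
    rw [Module.support_eq_empty]
    exact Set.notMem_empty _

end main


section main2

open Groth.Agent.H4.FA2 Groth.Agent.H4.FA6 Groth.Agent.H4.FA8 Groth.Agent.H4.FA12
  Groth.Agent.H4.FA13 Groth.Agent.H4.FA14 Groth.Agent.H4.FA15 Groth.Agent.H4.FA16

variable [IsNoetherianRing A]
  (ω : Dual.D A) (hω : Dual.IsDualizing A ω)
  (ν : PrimeSpectrum A → ℤ)
  (hν : ∀ (p : PrimeSpectrum A) (i : ℤ),
    p ∈ Module.support A (Dual.inD A (A ⧸ p.asIdeal) ⟶ ω⟦i⟧) ↔ i = ν p)

omit [IsNoetherianRing A] in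
/-- `Ext^l(L, ω) = 0` for `l < 0` when `ω ∈ D^{≥0}`. -/
lemma subsingleton_ext_neg [ω.IsGE 0] (N : Type u) [AddCommGroup N] [Module A N] (l : ℤ)
    (hl : l < 0) : Subsingleton (Dual.inD A N ⟶ ω⟦l⟧) := by
  haveI : (Dual.inD A N).IsLE 0 :=
    inferInstanceAs (((singleFunctor (ModuleCat.{u} A) 0).obj _).IsLE 0)
  haveI : (ω⟦l⟧).IsGE (-l) := (tR A).isGE_shift ω 0 l (-l) (by ring)
  exact ⟨fun f g => ((tR A).zero f 0 (-l) (by omega)).trans ((tR A).zero g 0 (-l) (by omega)).symm⟩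

include hω hν in
/-- local data for `L = H^0(ω)`: at a prime of its support, the dimension is at most `ν p`,
and the depth is at least `2` or equal to `ν p`. -/
theorem lowest_local_data [ω.IsGE 0] (p : PrimeSpectrum A)
    (hp : p ∈ Module.support A (Dual.HD A ω 0)) :
    haveI : Module.Finite A (Dual.HD A ω 0) := hω.finite_cohomology 0
    ∃ d δ : ℕ, Module.supportDim (Localization.AtPrime p.asIdeal)
        (LocalizedModule p.asIdeal.primeCompl (Dual.HD A ω 0)) = d ∧
      LocCoh.depth (Localization.AtPrime p.asIdeal)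
        (LocalizedModule p.asIdeal.primeCompl (Dual.HD A ω 0)) = δ ∧
      (d : ℤ) ≤ ν p ∧ (2 ≤ δ ∨ (δ : ℤ) = ν p) ∧ δ ≤ d := by
  haveI : Module.Finite A (Dual.HD A ω 0) := hω.finite_cohomology 0
  obtain ⟨d, δ, hd, hδ, h1, h2, h3⟩ := ext_range_at ω hω ν hν (Dual.HD A ω 0) p hp
  refine ⟨d, δ, hd, hδ, ?_, ?_, ?_⟩
  · by_contra hcon
    haveI := subsingleton_ext_neg ω (Dual.HD A ω 0) (ν p - d) (by omega)
    rw [Module.support_eq_empty] at h1
    exact h1
  · by_cases h0 : ν p - (δ : ℤ) = 0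
    · right
      omega
    · left
      by_contra hcon
      exact not_mem_support_ext_lowest ω hω ν hν p (ν p - δ) (by omega) h0 h2
  · have := (h3 _ h1).2
    omega

include hω hν in
theorem hasSk_two_lowest [ω.IsGE 0] : LocCoh.HasSk 2 A (Dual.HD A ω 0) := by
  haveI : Module.Finite A (Dual.HD A ω 0) := hω.finite_cohomology 0
  intro P hP
  let p : PrimeSpectrum A := ⟨P, hP⟩
  by_cases hp : p ∈ Module.support A (Dual.HD A ω 0)
  · obtain ⟨d, δ, hd, hδ, h1, h2, h3⟩ := lowest_local_data ω hω ν hν p hp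
    have hd' : Module.supportDim (Localization.AtPrime P)
        (LocalizedModule P.primeCompl (Dual.HD A ω 0)) = d := hd
    have hδ' : LocCoh.depth (Localization.AtPrime P)
        (LocalizedModule P.primeCompl (Dual.HD A ω 0)) = δ := hδ
    rw [hd', hδ']
    have : min 2 d ≤ δ := by
      rcases h2 with h2 | h2
      · exact (min_le_left _ _).trans h2
      · have : d ≤ δ := by omega
        exact (min_le_right _ _).trans this
    rw [min_le_iff] at this ⊢
    rcases this with h | h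
    · left
      have h' : ((2 : ℕ) : ℕ∞) ≤ (δ : ℕ∞) := by exact_mod_cast h
      have hc2 : ((2 : ℕ) : WithBot ℕ∞) = (((2 : ℕ) : ℕ∞) : WithBot ℕ∞) := rfl
      rw [hc2, WithBot.coe_le_coe]
      exact h'
    · right
      have h' : ((d : ℕ) : ℕ∞) ≤ (δ : ℕ∞) := by exact_mod_cast h
      have hcd : ((d : ℕ) : WithBot ℕ∞) = (((d : ℕ) : ℕ∞) : WithBot ℕ∞) := rfl
      rw [hcd, WithBot.coe_le_coe]
      exact h'
  · exact skIneq_of_not_mem_support (Dual.HD A ω 0) 2 p hp

end main2


section local_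

open Groth.Agent.H4.FA2 Groth.Agent.H4.FA6 Groth.Agent.H4.FA8 Groth.Agent.H4.FA12
  Groth.Agent.H4.FA13 Groth.Agent.H4.FA14 Groth.Agent.H4.FA15 Groth.Agent.H4.FA16

variable [IsNoetherianRing A] [IsLocalRing A]
  (ω : Dual.D A) (hω : Dual.IsDualizing A ω)
  (ν : PrimeSpectrum A → ℤ)
  (hν : ∀ (p : PrimeSpectrum A) (i : ℤ),
    p ∈ Module.support A (Dual.inD A (A ⧸ p.asIdeal) ⟶ ω⟦i⟧) ↔ i = ν p)

include hω hν in
/-- the degree of the closed point is the index of `Ext(κ, ω)`. -/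
lemma extData_degree : ExtData ω (ν (IsLocalRing.closedPoint A)) := by
  obtain ⟨nE, hE⟩ := exists_extData ω hω
  have h1 := (hν (IsLocalRing.closedPoint A) (ν (IsLocalRing.closedPoint A))).2 rfl
  have : nE = ν (IsLocalRing.closedPoint A) := by
    by_contra h
    have hs : Subsingleton (Sk A 0 ⟶ ω⟦ν (IsLocalRing.closedPoint A)⟧) :=
      hE.van (ν (IsLocalRing.closedPoint A)) (Ne.symm h)
    have hs' : Subsingleton (Dual.inD A (A ⧸ (IsLocalRing.closedPoint A).asIdeal) ⟶
        ω⟦ν (IsLocalRing.closedPoint A)⟧) := hs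
    rw [Module.support_eq_empty] at h1
    exact h1
  rw [← this]
  exact hE

include hω hν in
/-- if all minimal primes have the same degree, the ring is equidimensional. -/
theorem isEquidim_of_degree_const
    (h : ∀ p₀ q₀ : PrimeSpectrum A, p₀.asIdeal ∈ minimalPrimes A → q₀.asIdeal ∈ minimalPrimes A →
      ν q₀ = ν p₀) : EGA4.IsEquidim A := by
  intro P₀ hP₀
  let p₀ : PrimeSpectrum A := ⟨P₀, hP₀.1.1⟩
  have hq : ∀ q : PrimeSpectrum A, Order.coheight q ≤ Order.coheight p₀ := by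
    intro q
    obtain ⟨Q, hQ, hQq⟩ := Ideal.exists_minimalPrimes_le (show (⊥ : Ideal A) ≤ q.asIdeal from bot_le)
    let q₀ : PrimeSpectrum A := ⟨Q, hQ.1.1⟩
    have h1 : Order.coheight q ≤ Order.coheight q₀ := Order.coheight_anti (show q₀ ≤ q from hQq)
    have h2 : ν q₀ = ν p₀ := h p₀ q₀ hP₀ hQ
    rw [coheight_eq_local ω hω ν hν q₀, h2, ← coheight_eq_local ω hω ν hν p₀] at h1
    exact h1
  rw [← Module.supportDim_quotient_eq_ringKrullDim,
    Groth.Agent.H4.US11.supportDim_quotient_prime p₀]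
  apply le_antisymm
  · exact Order.coheight_le_krullDim p₀
  · unfold ringKrullDim
    rw [Order.krullDim_eq_iSup_coheight]
    refine iSup_le ?_
    intro q
    exact_mod_cast hq q

theorem S18720 (A : Type u) [CommRing A] [IsNoetherianRing A]
    [IsLocalRing A] (ω : Dual.D A) (hω : Dual.IsDualizing A ω) (n : ℕ) (hd : ringKrullDim A = n)
    (J : Ideal A) (hJ : 1 ≤ J.height)
    (hoff : ∀ p : PrimeSpectrum A, ¬ J ≤ p.asIdeal → ∀ i : ℤ, i ≠ 0 →
      p ∉ Module.support A (Dual.HD A ω i)) :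
    (EGA4.IsEquidim A ∧ Dual.IsNormalized A (ω⟦(n : ℤ)⟧) ∧ LocCoh.HasSk 2 A (Dual.HD A ω 0)) ∧
    (2 ≤ J.height → 2 ≤ LocCoh.idealDepth J (Dual.HD A ω 0)) := by
  choose ν hν using fun p : PrimeSpectrum A => exists_degree p ω hω
  haveI : Module.Finite A (Dual.HD A ω 0) := hω.finite_cohomology 0
  have hann : Module.annihilator A A = ⊥ := by
    rw [eq_bot_iff]
    intro x hx
    have := (Module.mem_annihilator.1 hx) (1 : A)
    simpa using this
  have hsuppA : ∀ p : PrimeSpectrum A, p ∈ Module.support A A := by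
    intro p
    rw [Module.mem_support_iff_of_finite, hann]
    exact bot_le
  have hHD : ∀ (l : ℤ), Module.support A (Dual.inD A A ⟶ ω⟦l⟧) =
      Module.support A (Dual.HD A ω l) := by
    intro l
    obtain ⟨e⟩ := Groth.Agent.H4.US7.nonempty_HD_equiv ω l
    exact e.support_eq.symm
  -- Step 1: minimal primes have degree zero
  have hmin : ∀ p₀ : PrimeSpectrum A, p₀.asIdeal ∈ minimalPrimes A → ν p₀ = 0 := by
    intro p₀ hp₀
    have hJp : ¬ J ≤ p₀.asIdeal := by
      intro hle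
      have h1 := Ideal.height_mono hle
      rw [Ideal.height_eq_zero_iff.2 hp₀] at h1
      have := hJ.trans h1
      simp at this
    obtain ⟨d, δ, hd', -, h1, -, -⟩ := ext_range_at ω hω ν hν A p₀ (hsuppA p₀)
    have hd0 : d = 0 := by
      have h0 := supportDim_localized_of_minimal A p₀ (by rw [hann]; exact hp₀)
      rw [h0] at hd'
      exact_mod_cast hd'.symm
    subst hd0
    rw [hHD] at h1
    by_contra hne
    exact hoff p₀ hJp _ (by simpa using hne) h1
  -- Step 2
  have hEq : EGA4.IsEquidim A := isEquidim_of_degree_const ω hω ν hν (by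
    intro p₀ q₀ hp₀ hq₀
    rw [hmin p₀ hp₀, hmin q₀ hq₀])
  have hνm : ν (IsLocalRing.closedPoint A) = n := by
    obtain ⟨P₀, hP₀, -⟩ := Ideal.exists_minimalPrimes_le
      (show (⊥ : Ideal A) ≤ (IsLocalRing.closedPoint A).asIdeal from bot_le)
    let p₀ : PrimeSpectrum A := ⟨P₀, hP₀.1.1⟩
    have h1 := hEq P₀ hP₀
    rw [hd, ← Module.supportDim_quotient_eq_ringKrullDim,
      Groth.Agent.H4.US11.supportDim_quotient_prime p₀, coheight_eq_local ω hω ν hν p₀,
      hmin p₀ hP₀] at h1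
    have h2 : (ν (IsLocalRing.closedPoint A) - 0).toNat = n := by exact_mod_cast h1
    have h3 := degree_le ω hω ν hν p₀ (IsLocalRing.closedPoint A)
      (IsLocalRing.le_maximalIdeal p₀.isPrime.ne_top)
    rw [hmin p₀ hP₀] at h3
    omega
  have hE := extData_degree ω hω ν hν
  rw [hνm] at hE
  have hnorm : Dual.IsNormalized A (ω⟦(n : ℤ)⟧) := isNormalized_shift ω n hE
  -- Step 4
  haveI hge : ω.IsGE 0 := by
    rw [isGE_iff]
    intro i hi
    have hsd : Module.supportDim A A = (n : WithBot ℕ∞) := by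
      rw [Module.supportDim_self_eq_ringKrullDim, hd]
    obtain ⟨δ, -, -, -, h3⟩ := ext_range ω hω n hE A n hsd
    haveI : Subsingleton (Dual.inD A A ⟶ ω⟦i⟧) := by
      by_contra hnt
      rw [not_subsingleton_iff_nontrivial] at hnt
      have := (h3 i hnt).1
      omega
    obtain ⟨e⟩ := Groth.Agent.H4.US7.nonempty_HD_equiv ω i
    haveI : Subsingleton (Dual.HD A ω i) := e.toEquiv.subsingleton
    exact ModuleCat.isZero_of_subsingleton _
  refine ⟨⟨hEq, hnorm, hasSk_two_lowest ω hω ν hν⟩, ?_⟩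
  intro hJ2
  rw [Groth.Agent.H6.Depth.idealDepth_eq_iInf]
  refine le_iInf₂ ?_
  intro p hJp
  by_cases hp : p ∈ Module.support A (Dual.HD A ω 0)
  · obtain ⟨d, δ, -, hδ, -, h2, -⟩ := lowest_local_data ω hω ν hν p hp
    rw [hδ]
    have : 2 ≤ δ := by
      rcases h2 with h2 | h2
      · exact h2
      · -- `ν p ≥ ht p ≥ 2`
        obtain ⟨d', δ', hd', -, h1', -, -⟩ := ext_range_at ω hω ν hν A p (hsuppA p)
        have hd'' : Module.supportDim (Localization.AtPrime p.asIdeal)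
            (LocalizedModule p.asIdeal.primeCompl A) = ((p.asIdeal.height : ℕ∞) : WithBot ℕ∞) :=
          Groth.Agent.H6.Sk.supportDim_localizedModule_self p.asIdeal
        rw [hd''] at hd'
        have hht : p.asIdeal.height = (d' : ℕ∞) := by exact_mod_cast hd'
        have h3 : (2 : ℕ∞) ≤ (d' : ℕ∞) := by
          rw [← hht]
          exact hJ2.trans (Ideal.height_mono hJp)
        have h4 : 2 ≤ d' := by exact_mod_cast h3
        have h5 : 0 ≤ ν p - d' := by
          by_contra hcon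
          haveI := subsingleton_ext_neg ω A (ν p - d') (by omega)
          rw [Module.support_eq_empty] at h1'
          exact h1'
        omega
    exact_mod_cast this
  · rw [Module.mem_support_iff, not_nontrivial_iff_subsingleton] at hp
    have htop : LocCoh.depth (Localization.AtPrime p.asIdeal)
        (LocalizedModule p.asIdeal.primeCompl (Dual.HD A ω 0)) = ⊤ := by
      unfold LocCoh.depth LocCoh.idealDepth
      rw [if_pos (Subsingleton.elim _ _)]
    rw [htop]
    exact le_top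

end local_

end Groth.Agent.H4.FA17
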