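import Mathlib
import Groth.Agent.H4.FA17
import Groth.Agent.Lib.Helper6.ReflLoc
import Groth.Agent.Lib.Helper6.HomKer
import Groth.Agent.Lib.Helper6.DepthInf
import Groth.Agent.Lib.Helper6.SkQuot

set_option autoImplicit false
universe u
open CategoryTheory
attribute [local instance] HasDerivedCategory.standard

namespace Groth.Agent.H4.FA18

theorem le_idealDepth_self_of_hasSk (A : Type u) [CommRing A] [IsNoetherianRing A] (k : ℕ)
    (hS : LocCoh.HasSk k A A) (J : Ideal A) (hJ : (k : ℕ∞) ≤ J.height) :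
    (k : ℕ∞) ≤ LocCoh.idealDepth J A := by
  rw [Groth.Agent.H6.Depth.idealDepth_eq_iInf]
  refine le_iInf₂ fun p hp => ?_
  haveI := p.2
  have h1 := hS p.asIdeal
  rw [Groth.Agent.H6.Sk.supportDim_localizedModule_self] at h1
  have h2 : (k : ℕ∞) ≤ p.asIdeal.height := hJ.trans (Ideal.height_mono hp)
  have h3 : min ((k : ℕ) : WithBot ℕ∞) ((p.asIdeal.height : ℕ∞) : WithBot ℕ∞) = ((k : ℕ) : WithBot ℕ∞) := by
    apply min_eq_left
    have hc2 : ((k:ℕ) : WithBot ℕ∞) = (((k:ℕ):ℕ∞) : WithBot ℕ∞) := rfl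
    rw [hc2, WithBot.coe_le_coe]
    exact h2
  rw [h3] at h1
  have hc2 : ((k:ℕ) : WithBot ℕ∞) = (((k:ℕ):ℕ∞) : WithBot ℕ∞) := rfl
  rw [hc2, WithBot.coe_le_coe] at h1
  exact h1

theorem S18723 (A : Type u) [CommRing A] [IsNoetherianRing A]
    [IsLocalRing A] (ω : Dual.D A) (hω : Dual.IsDualizing A ω) (n : ℕ) (hd : ringKrullDim A = n)
    (J : Ideal A) (hJ : 2 ≤ J.height)
    (hoff : ∀ p : PrimeSpectrum A, ¬ J ≤ p.asIdeal →
      (∀ i : ℤ, i ≠ 0 → p ∉ Module.support A (Dual.HD A ω i)) ∧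
      Module.Free (Localization.AtPrime p.asIdeal) (LocalizedModule p.asIdeal.primeCompl (Dual.HD A ω 0)) ∧
      Module.finrank (Localization.AtPrime p.asIdeal) (LocalizedModule p.asIdeal.primeCompl (Dual.HD A ω 0)) = 1) :
    (LocCoh.HasSk 1 A A →
      (EGA4.IsEquidim A ∧ Dual.IsNormalized A (ω⟦(n : ℤ)⟧)) ∧
      Module.IsReflexive A (Dual.HD A ω 0) ∧ LocCoh.HasSk 2 A (Dual.HD A ω 0)) ∧
    (LocCoh.HasSk 2 A A → ∀ m : ℕ,
      LocCoh.HasSk 2 A (Module.Dual A (Module.Dual A (TensorPower A m (Dual.HD A ω 0)))) ∧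
      2 ≤ LocCoh.idealDepth J (Module.Dual A (Module.Dual A (TensorPower A m (Dual.HD A ω 0))))) := by
  haveI : Module.Finite A (Dual.HD A ω 0) := hω.finite_cohomology 0
  have hJ1 : (1 : ℕ∞) ≤ J.height := le_trans (by norm_num) hJ
  obtain ⟨⟨hE, hN, hS2L⟩, hdep⟩ := Groth.Agent.H4.FA17.S18720 A ω hω n hd J hJ1
    (fun p hp => (hoff p hp).1)
  refine ⟨fun hS1 => ⟨⟨hE, hN⟩, ?_, hS2L⟩, fun hS2 m => ?_⟩
  · have hA : 1 ≤ LocCoh.idealDepth J A := by
      have := le_idealDepth_self_of_hasSk A 1 hS1 J (by exact_mod_cast hJ1)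
      exact_mod_cast this
    refine Groth.Agent.H6.Refl.isReflexive_of_depth J hA (Dual.HD A ω 0) ?_ (hdep hJ)
    intro p hp
    haveI := p.2
    obtain ⟨_, hfree, _⟩ := hoff p hp
    haveI := hfree
    haveI : Module.Finite (Localization.AtPrime p.asIdeal)
        (LocalizedModule p.asIdeal.primeCompl (Dual.HD A ω 0)) :=
      Module.Finite.of_isLocalizedModule p.asIdeal.primeCompl
        (LocalizedModule.mkLinearMap p.asIdeal.primeCompl (Dual.HD A ω 0))
    exact Module.IsReflexive.of_finite_of_free _ _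
  · haveI : Module.Finite A (TensorPower A m (Dual.HD A ω 0)) := inferInstance
    haveI : IsNoetherian A (Module.Dual A (TensorPower A m (Dual.HD A ω 0))) :=
      isNoetherian_linearMap A A (TensorPower A m (Dual.HD A ω 0))
    haveI : Module.Finite A (Module.Dual A (TensorPower A m (Dual.HD A ω 0))) :=
      Module.IsNoetherian.finite A _
    have h2A : 2 ≤ LocCoh.idealDepth J A := by
      have := le_idealDepth_self_of_hasSk A 2 hS2 J (by exact_mod_cast hJ)
      exact_mod_cast this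
    exact ⟨(Groth.Agent.H6.HomKer.hasSk_hom (Module.Dual A (TensorPower A m (Dual.HD A ω 0))) A).2 hS2,
      (Groth.Agent.H6.HomKer.idealDepth_hom J (Module.Dual A (TensorPower A m (Dual.HD A ω 0))) A).2 h2A⟩

end Groth.Agent.H4.FA18
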