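import Mathlib
import Groth.Agent.H4.FA6
import Groth.Agent.H4.TL5

set_option autoImplicit false
universe u
open CategoryTheory Category Limits Pretriangulated

namespace Groth.Agent.H4.FA7

attribute [local instance] HasDerivedCategory.standard

open DRing DerivedCategory

theorem S1796 (A : Type u) [CommRing A] [IsNoetherianRing A]
    (hA : ∃ ω : Dual.D A, Dual.IsDualizing A ω) (T : Set (PrimeSpectrum A))
    (hT : StableUnderSpecialization T) (s : ℤ) (K : Dual.D A) (a : ℤ)
    (hKa : ∀ i : ℤ, i < a → Subsingleton (Dual.HD A K i))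
    (hK : ∀ i : ℤ, Module.Finite A (Dual.HD A K i))
    [∀ p : PrimeSpectrum A, DRing.HasLBaseChange (algebraMap A (Localization.AtPrime p.asIdeal))] :
    (∀ i : ℤ, i ≤ s → Module.Finite A (Dual2.HDT A T K i)) ↔
    (∀ (p q : PrimeSpectrum A) (hpq : p ≤ q), p ∉ T → q ∈ T → ∀ h : ℕ,
      Order.height (⟨q, hpq⟩ : Set.Ici p) = h → ∀ i : ℤ, i ≤ s - h →
      Subsingleton (Dual2.HDI (Localization.AtPrime p.asIdeal)
        (IsLocalRing.maximalIdeal (Localization.AtPrime p.asIdeal))
        ((DRing.LBaseChange (algebraMap A (Localization.AtPrime p.asIdeal))).obj K) i)) := by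
  rw [Groth.Agent.H4.TL5.S1764 (T := T) K a hKa hK s,
    ← Groth.Agent.H4.FA6.S1791 A hA T T hT hT subset_rfl s K a hKa hK]

end Groth.Agent.H4.FA7
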