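import Mathlib
import Groth.Agent.H4.FA8
import Groth.Agent.H4.LD9

set_option autoImplicit false
universe u
open CategoryTheory Category Limits Pretriangulated

namespace Groth.Agent.H4.FA9

attribute [local instance] HasDerivedCategory.standard
attribute [local instance] Groth.Agent.H4.LK4.hasLTen Groth.Agent.H4.LK5.hasLTen₃
  Groth.Agent.H4.KI7.isSymMonoidal Groth.Agent.H4.KI6.hasRHom

open DRing DTen DerivedCategory Groth.Agent.H4.DThick Groth.Agent.H4.DCompl1 Groth.Agent.H4.CF1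
  Groth.Agent.H4.InjAmp Groth.Agent.H4.DZ1 Groth.Agent.H4.DZ2 Groth.Agent.H4.DZ3 Groth.Agent.H4.DZ4
  Groth.Agent.H4.DZ5 Groth.Agent.H4.DZ6 Groth.Agent.H4.ProjAmp Groth.Agent.H4.US8 Groth.Agent.H4.US9
  Groth.Agent.H4.US10 Groth.Agent.H4.US11 Groth.Agent.H4.US12 Groth.Agent.H4.US13
  Groth.Agent.H4.US14 Groth.Agent.H4.FB1 Groth.Agent.H4.FB2 Groth.Agent.H4.FB3
  Groth.Agent.H4.DRing1 Groth.Agent.H4.TL1 Groth.Agent.H4.TL3 Groth.Agent.H4.TL4
  Groth.Agent.H4.FA1 Groth.Agent.H4.FA2 Groth.Agent.H4.FA3 Groth.Agent.H4.FA4 Groth.Agent.H4.FA5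
  Groth.Agent.H4.FA6 Groth.Agent.H4.FA8 Groth.Agent.H4.LD3 Groth.Agent.H4.HC6

open scoped Pointwise TensorProduct

variable {A : Type u} [CommRing A] [IsNoetherianRing A]

/-- an element killing `H_{V(I)}(X)` kills `H_I(X)`. -/
theorem kills_hdi_of_kills_hdt (I : Ideal A) (X : Dual.D A) (f : A)
    (hf : ∀ ξ : (hdt (PrimeSpectrum.zeroLocus (I : Set A))).obj X, f • ξ = 0) :
    ∀ ξ : (hdi I).obj X, f • ξ = 0 := by
  intro ξ
  obtain ⟨m, x, rfl⟩ := hj_surj ξ
  rw [← map_smul, hj_eq_zero_iff]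
  have hIm : PrimeSpectrum.zeroLocus ((I ^ m : Ideal A) : Set A) ⊆
      PrimeSpectrum.zeroLocus (I : Set A) := zeroLocus_pow_subset I m subset_rfl
  have h1 := hf (tj _ (I ^ m) hIm X x)
  rw [← map_smul, tj_eq_zero_iff] at h1
  obtain ⟨J', hJ', hle, h0⟩ := h1
  have hrad : I ≤ J'.radical := (PrimeSpectrum.zeroLocus_subset_zeroLocus_iff J' I).1 hJ'
  obtain ⟨k, hk⟩ := Ideal.exists_pow_le_of_le_radical_of_fg hrad (IsNoetherian.noetherian I)
  have hk' : I ^ (max m k) ≤ J' := (Ideal.pow_le_pow_right (le_max_right m k)).trans hk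
  refine ⟨max m k, le_max_left m k, ?_⟩
  have hfac : qProj I (le_max_left m k) = (qPr hle) ∘ₗ (qPr hk') := by
    apply LinearMap.ext
    intro y
    obtain ⟨a, rfl⟩ := Submodule.Quotient.mk_surjective _ y
    rfl
  rw [hfac, inDMap_comp, assoc, h0, comp_zero]


theorem S1765 (A : Type u) [CommRing A] [IsNoetherianRing A]
    (hA : ∃ ω : Dual.D A, Dual.IsDualizing A ω) (I : Ideal A) (M : Type u) [AddCommGroup M]
    [Module A M] [Module.Finite A M] (p : PrimeSpectrum A) (hp : ¬ I ≤ p.asIdeal) (s : ℕ)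
    (h : ∀ p' q : PrimeSpectrum A, p' ≤ p → I ≤ q.asIdeal → p' ≤ q →
      (s : WithBot ℕ∞) < ((LocCoh.depth (Localization.AtPrime p'.asIdeal)
        (LocalizedModule p'.asIdeal.primeCompl M) : ℕ∞) : WithBot ℕ∞) +
        Order.krullDim (Set.Icc p' q)) :
    ∃ f : A, f ∉ p.asIdeal ∧ ∀ i : ℕ, i ≤ s → ∀ x : LocCoh.H I i M, f • x = 0 := by
  obtain ⟨ω, hω⟩ := hA
  choose n hn using fun p : PrimeSpectrum A => exists_degree p ω hω
  let T : Set (PrimeSpectrum A) := PrimeSpectrum.zeroLocus (I : Set A)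
  let T' : Set (PrimeSpectrum A) := {q | ¬ q ≤ p}
  have hT : StableUnderSpecialization T :=
    (PrimeSpectrum.isClosed_zeroLocus (I : Set A)).stableUnderSpecialization
  have hT' : StableUnderSpecialization T' := by
    intro q q' hqq' hq hq'
    rw [← PrimeSpectrum.le_iff_specializes] at hqq'
    exact hq (hqq'.trans hq')
  obtain ⟨J, hJ, hk⟩ := (S1711_aux ω hω n hn hT hT' s M).2 (by
    intro p' q hp' hq hp'q
    have hp'p : p' ≤ p := not_not.1 hp'
    exact h p' q hp'p (by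
      have : q ∈ PrimeSpectrum.zeroLocus (I : Set A) := hq
      rwa [PrimeSpectrum.mem_zeroLocus, SetLike.coe_subset_coe] at this) hp'q)
  have hJp : ¬ J ≤ p.asIdeal := by
    intro hJp
    have : p ∈ T' := hJ (by
      rw [PrimeSpectrum.mem_zeroLocus, SetLike.coe_subset_coe]
      exact hJp)
    exact this le_rfl
  obtain ⟨f, hfJ, hfp⟩ := Set.not_subset.1 hJp
  refine ⟨f, hfp, fun i hi x => ?_⟩
  have hk' := (kills_HT_iff T M s J).1 hk (i : ℤ) (by omega)
  have h1 := kills_hdi_of_kills_hdt I ((Dual.inD A M)⟦(i : ℤ)⟧) f (fun ξ => hk' f hfJ ξ)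
  obtain ⟨e⟩ := Groth.Agent.H4.LD9.nonempty_H_equiv_hdi I i M
  apply e.injective
  rw [map_smul, map_zero]
  exact h1 (e x)

end Groth.Agent.H4.FA9
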