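import Mathlib
import Groth.Agent.H4.FB7
import Groth.Agent.S0543

set_option autoImplicit false
universe u
open CategoryTheory Category Limits Pretriangulated TensorProduct

namespace Groth.Agent.H4.FB8

attribute [local instance] HasDerivedCategory.standard

open DRing DerivedCategory Groth.Agent.H4.FB2 Groth.Agent.H4.FB3 Groth.Agent.H4.FB7

variable (A : Type u) [CommRing A] [IsNoetherianRing A] (I : Ideal A)

theorem S1779 [DRing.HasLBaseChange (algebraMap A (AdicCompletion I A))] (ω : Dual.D A)
    (hω : Dual.IsDualizing A ω) :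
    Dual.IsDualizing (AdicCompletion I A)
      ((DRing.LBaseChange (algebraMap A (AdicCompletion I A))).obj ω) := by
  haveI : IsNoetherianRing (AdicCompletion I A) := Groth.Agent.S0543.result A I
  have hfg : I.FG := IsNoetherian.noetherian I
  refine Groth.Agent.H4.FB7.S1778 I ?_ ?_ ?_ ω hω
  · intro x
    obtain ⟨b, rfl⟩ := Ideal.Quotient.mk_surjective x
    obtain ⟨a, ha⟩ := Ideal.Quotient.mk_surjective (AdicCompletion.evalOneₐ I b)
    refine ⟨a, ?_⟩
    change Ideal.Quotient.mk _ (algebraMap A (AdicCompletion I A) a) = Ideal.Quotient.mk _ b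
    rw [Ideal.Quotient.eq, ← AdicCompletion.ker_evalOneₐ_eq_map I hfg, RingHom.mem_ker]
    change AdicCompletion.evalOneₐ I (algebraMap A (AdicCompletion I A) a - b) = 0
    rw [map_sub, ← ha, sub_eq_zero]
    exact AdicCompletion.evalOneₐ_of I a
  · ext a
    rw [RingHom.mem_ker]
    change Ideal.Quotient.mk _ (algebraMap A (AdicCompletion I A) a) = 0 ↔ _
    rw [Ideal.Quotient.eq_zero_iff_mem, ← AdicCompletion.ker_evalOneₐ_eq_map I hfg, RingHom.mem_ker]
    change AdicCompletion.evalOneₐ I (algebraMap A (AdicCompletion I A) a) = 0 ↔ _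
    have : AdicCompletion.evalOneₐ I (algebraMap A (AdicCompletion I A) a) =
        Ideal.Quotient.mk I a := AdicCompletion.evalOneₐ_of I a
    rw [this, Ideal.Quotient.eq_zero_iff_mem]
  · haveI : IsAdicComplete I (AdicCompletion I A) := AdicCompletion.isAdicComplete hfg
    haveI : IsAdicComplete (I.map (algebraMap A (AdicCompletion I A))) (AdicCompletion I A) :=
      (IsAdicComplete.map_algebraMap_iff I (AdicCompletion I A)).2 inferInstance
    exact IsAdicComplete.le_jacobson_bot _

end Groth.Agent.H4.FB8
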