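import Mathlib
import Groth.Agent.H4.FB7
import Groth.Agent.S0507
import Groth.Agent.S0509
import Groth.Agent.S0538
import Groth.Agent.S0539

set_option autoImplicit false
universe u
open CategoryTheory Category Limits Pretriangulated TensorProduct

namespace Groth.Agent.H4.FB9

attribute [local instance] HasDerivedCategory.standard

open DRing DerivedCategory Groth.Agent.H4.FB2 Groth.Agent.H4.FB3 Groth.Agent.H4.FB7

variable (A B : Type u) [CommRing A] [IsLocalRing A] [IsNoetherianRing A] [CommRing B]
  [IsLocalRing B] [IsNoetherianRing B] [Algebra A B] [IsLocalHom (algebraMap A B)]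

theorem S1825 [Hensel.IsHenselization A B] [DRing.HasLBaseChange (algebraMap A B)] (ω : Dual.D A)
    (hω : Dual.IsDualizing A ω) :
    Dual.IsDualizing B ((DRing.LBaseChange (algebraMap A B)).obj ω) := by
  haveI : Module.FaithfullyFlat A B := Groth.Agent.S0509.result A B
  have hm := Groth.Agent.S0507.result A B
  refine isDualizing_of_iso (LBCIso ω).symm
    (isDualizing_E_of_maximal_extended (fun n hn => ?_) ω hω)
  exact ⟨IsLocalRing.maximalIdeal A, by rw [hm, IsLocalRing.eq_maximalIdeal hn]⟩

theorem S1826 [Hensel.IsStrictHenselization A B] [DRing.HasLBaseChange (algebraMap A B)]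
    (ω : Dual.D A) (hω : Dual.IsDualizing A ω) :
    Dual.IsDualizing B ((DRing.LBaseChange (algebraMap A B)).obj ω) := by
  haveI : Module.FaithfullyFlat A B := Groth.Agent.S0539.result A B
  have hm := Groth.Agent.S0538.result A B
  refine isDualizing_of_iso (LBCIso ω).symm
    (isDualizing_E_of_maximal_extended (fun n hn => ?_) ω hω)
  exact ⟨IsLocalRing.maximalIdeal A, by rw [hm, IsLocalRing.eq_maximalIdeal hn]⟩

end Groth.Agent.H4.FB9
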