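import Mathlib
import Groth.Prelude.Def_FlatCA
import Groth.Prelude.Def_EGA4b
import Groth.Prelude.Def_DRing3
import Groth.Agent.Lib.Helper6.FlatDepth
import Groth.Agent.Lib.Helper6.DepthKer
import Groth.Agent.Lib.Helper6.DepthLocalHom
import Groth.Agent.Lib.Helper1.LocalCriterion

set_option autoImplicit false
universe u
open TensorProduct Function

namespace Groth.Agent.H4.FD1

section Basic

variable {A B : Type u} [CommRing A] [CommRing B] [Algebra A B]
  (M : Type u) [AddCommGroup M] [Module B M] [Module A M] [IsScalarTower A B M]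

theorem lTensor_smul {N' N : Type u} [AddCommGroup N'] [Module A N'] [AddCommGroup N] [Module A N]
    (f : N' →ₗ[A] N) (b : B) (y : M ⊗[A] N') : f.lTensor M (b • y) = b • f.lTensor M y := by
  induction y using TensorProduct.induction_on with
  | zero => simp
  | add a c ha hc => rw [smul_add, map_add, map_add, smul_add, ha, hc]
  | tmul m n => rw [smul_tmul', LinearMap.lTensor_tmul, LinearMap.lTensor_tmul, smul_tmul']

theorem tmul_one_eq_zero_iff (I : Ideal A) (y : M) :
    y ⊗ₜ[A] (1 : A ⧸ I) = 0 ↔ y ∈ (I.map (algebraMap A B)) • (⊤ : Submodule B M) := by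
  rw [Groth.Agent.H6.FlatDepth.mem_map_smul_top_iff]
  have h1 : (tensorQuotEquivQuotSMul M I).symm (Submodule.Quotient.mk y) = y ⊗ₜ[A] (1 : A ⧸ I) := rfl
  rw [← h1, LinearEquiv.map_eq_zero_iff, Submodule.Quotient.mk_eq_zero]

theorem exists_tmul_one (I : Ideal A) (x : M ⊗[A] (A ⧸ I)) : ∃ y : M, x = y ⊗ₜ[A] (1 : A ⧸ I) := by
  induction x using TensorProduct.induction_on with
  | zero => exact ⟨0, by simp⟩
  | add a c ha hc =>
    obtain ⟨y1, rfl⟩ := ha
    obtain ⟨y2, rfl⟩ := hc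
    exact ⟨y1 + y2, by rw [add_tmul]⟩
  | tmul m n =>
    obtain ⟨a, rfl⟩ := Ideal.Quotient.mk_surjective n
    refine ⟨a • m, ?_⟩
    have : (Ideal.Quotient.mk I a) = a • (1 : A ⧸ I) := by
      rw [Algebra.smul_def, mul_one]; rfl
    rw [this, tmul_smul, smul_tmul']

end Basic


section NoTors

variable {A B : Type u} [CommRing A] [CommRing B] [Algebra A B] [IsLocalRing A]
  (J : Ideal B) (M : Type u) [AddCommGroup M] [Module B M] [Module A M] [IsScalarTower A B M]

theorem exists_equiv_pi_of_smul_eq_zero (A : Type u) [CommRing A] [IsLocalRing A]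
    (G : Type u) [AddCommGroup G] [Module A G] [Module.Finite A G]
    (hG : ∀ a ∈ IsLocalRing.maximalIdeal A, ∀ g : G, a • g = 0) :
    ∃ r : ℕ, Nonempty (G ≃ₗ[A] (Fin r → A ⧸ IsLocalRing.maximalIdeal A)) := by
  have htors : Module.IsTorsionBySet A G (IsLocalRing.maximalIdeal A : Set A) := by
    intro g a
    exact hG a.1 a.2 g
  letI : Field (A ⧸ IsLocalRing.maximalIdeal A) := Ideal.Quotient.field _
  letI : Module (A ⧸ IsLocalRing.maximalIdeal A) G := htors.module
  haveI : IsScalarTower A (A ⧸ IsLocalRing.maximalIdeal A) G := htors.isScalarTower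
  haveI : Module.Finite (A ⧸ IsLocalRing.maximalIdeal A) G := Module.Finite.of_restrictScalars_finite A _ G
  let b := Module.finBasis (A ⧸ IsLocalRing.maximalIdeal A) G
  exact ⟨_, ⟨b.equivFun.restrictScalars A⟩⟩

/-- `M ⊗ k` has no `J`-power torsion if the closed fibre has none. -/
theorem eq_zero_of_torsion_residue (htors : DRing.torsionSub J (EGA4.FibMod A B M) = ⊥)
    (x : M ⊗[A] (A ⧸ IsLocalRing.maximalIdeal A)) (hx : ∃ k : ℕ, ∀ b ∈ J ^ k, b • x = 0) : x = 0 := by
  obtain ⟨y, rfl⟩ := exists_tmul_one M (IsLocalRing.maximalIdeal A) x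
  obtain ⟨k, hk⟩ := hx
  rw [tmul_one_eq_zero_iff (B := B)]
  have hmem : (Submodule.Quotient.mk y : EGA4.FibMod A B M) ∈ DRing.torsionSub J (EGA4.FibMod A B M) := by
    refine ⟨k, fun b hb => ?_⟩
    rw [← Submodule.Quotient.mk_smul, Submodule.Quotient.mk_eq_zero, ← tmul_one_eq_zero_iff (B := B),
      ← smul_tmul']
    exact hk b hb
  rw [htors, Submodule.mem_bot, Submodule.Quotient.mk_eq_zero] at hmem
  exact hmem

/-- `M ⊗ G` has no `J`-power torsion for finite `G` killed by the maximal ideal. -/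
theorem eq_zero_of_torsion (htors : DRing.torsionSub J (EGA4.FibMod A B M) = ⊥)
    (G : Type u) [AddCommGroup G] [Module A G] [Module.Finite A G]
    (hG : ∀ a ∈ IsLocalRing.maximalIdeal A, ∀ g : G, a • g = 0)
    (x : M ⊗[A] G) (hx : ∃ k : ℕ, ∀ b ∈ J ^ k, b • x = 0) : x = 0 := by
  obtain ⟨r, ⟨e⟩⟩ := exists_equiv_pi_of_smul_eq_zero A G hG
  obtain ⟨k, hk⟩ := hx
  have hcomp : ∀ i : Fin r, ((LinearMap.proj i).comp e.toLinearMap).lTensor M x = 0 := by
    intro i
    apply eq_zero_of_torsion_residue J M htors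
    refine ⟨k, fun b hb => ?_⟩
    rw [← lTensor_smul, hk b hb, map_zero]
  have hinj : Injective (e.toLinearMap.lTensor M) := by
    have : Injective (e.lTensor M) := (e.lTensor M).injective
    exact this
  apply hinj
  rw [map_zero]
  apply (piRight A A M (fun _ : Fin r => A ⧸ IsLocalRing.maximalIdeal A)).injective
  rw [map_zero]
  funext i
  have hgen : ∀ z : M ⊗[A] G, (piRight A A M (fun _ : Fin r => A ⧸ IsLocalRing.maximalIdeal A))
      (e.toLinearMap.lTensor M z) i = ((LinearMap.proj i).comp e.toLinearMap).lTensor M z := by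
    intro z
    induction z using TensorProduct.induction_on with
    | zero => simp
    | add a c ha hc => simp only [map_add, Pi.add_apply, ha, hc]
    | tmul m g => simp [piRight_apply, piRightHom_tmul]
  rw [hgen, hcomp]
  rfl

end NoTors

section Tors

variable {A B : Type u} [CommRing A] [CommRing B] [Algebra A B] [IsNoetherianRing B]
  (J : Ideal B) (M : Type u) [AddCommGroup M] [Module B M] [Module A M] [IsScalarTower A B M]

/-- If `M` is `A`-flat off `V(J)`, then `Tor₁ᴬ(M, -)` is `J`-power torsion: every element of the kernel of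
`M ⊗ N' → M ⊗ N` (for `N' → N` injective) is killed by a power of `J`. -/
theorem exists_pow_smul_eq_zero_of_lTensor_eq_zero
    (hU : ∀ q : PrimeSpectrum B, ¬ J ≤ q.asIdeal → FlatCA.FlatAt A q.asIdeal M)
    {N' N : Type u} [AddCommGroup N'] [Module A N'] [AddCommGroup N] [Module A N]
    (ι : N' →ₗ[A] N) (hι : Injective ι) (x : M ⊗[A] N') (hx : ι.lTensor M x = 0) :
    ∃ k : ℕ, ∀ b ∈ J ^ k, b • x = 0 := by
  set I : Ideal B := LinearMap.ker (LinearMap.toSpanSingleton B (M ⊗[A] N') x) with hI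
  have hmem : ∀ b : B, b ∈ I ↔ b • x = 0 := by
    intro b
    rw [hI, LinearMap.mem_ker, LinearMap.toSpanSingleton_apply]
  have hrad : J ≤ I.radical := by
    rw [Ideal.radical_eq_sInf]
    refine le_sInf ?_
    rintro q ⟨hIq, hq⟩
    by_contra hJq
    have hfl : Module.Flat A (LocalizedModule q.primeCompl M) := hU ⟨q, hq⟩ hJq
    let mk : M →ₗ[B] LocalizedModule q.primeCompl M := LocalizedModule.mkLinearMap q.primeCompl M
    have hinj : Injective (ι.lTensor (LocalizedModule q.primeCompl M)) :=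
      Module.Flat.lTensor_preserves_injective_linearMap ι hι
    have h1 : (AlgebraTensorModule.rTensor A N' mk) x = 0 := by
      apply hinj
      rw [map_zero]
      have hcomm : ∀ y : M ⊗[A] N', ι.lTensor (LocalizedModule q.primeCompl M)
          ((AlgebraTensorModule.rTensor A N' mk) y) =
          (AlgebraTensorModule.rTensor A N mk) (ι.lTensor M y) := by
        intro y
        induction y using TensorProduct.induction_on with
        | zero => simp
        | add a b ha hb => simp only [map_add, ha, hb]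
        | tmul m n => simp
      rw [hcomm, hx, map_zero]
    obtain ⟨⟨s, hs⟩, hc⟩ := (IsLocalizedModule.eq_zero_iff q.primeCompl
      (AlgebraTensorModule.rTensor A N' mk)).mp h1
    exact hs (hIq ((hmem s).mpr hc))
  obtain ⟨k, hk⟩ := Ideal.exists_pow_le_of_le_radical_of_fg hrad (IsNoetherian.noetherian J)
  exact ⟨k, fun b hb => (hmem b).mp (hk hb)⟩

end Tors

section Main

variable {A B : Type u} [CommRing A] [CommRing B] [Algebra A B] [IsLocalRing A]
  [IsNoetherianRing A] [IsNoetherianRing B]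
  (J : Ideal B) (M : Type u) [AddCommGroup M] [Module B M] [Module A M] [IsScalarTower A B M]

local notation "𝔪" => IsLocalRing.maximalIdeal A

/-- the inclusion `𝔪ⁿ⁺¹ → 𝔪ⁿ` -/
noncomputable def incl (n : ℕ) : ↥(𝔪 ^ (n + 1)) →ₗ[A] ↥(𝔪 ^ n) :=
  Submodule.inclusion (Ideal.pow_le_pow_right (Nat.le_succ n))

theorem subtype_comp_incl (n : ℕ) :
    (Submodule.subtype (𝔪 ^ n)).comp (incl (A := A) n) = Submodule.subtype (𝔪 ^ (n + 1)) := by
  ext x; rfl

/-- the key lifting step -/
theorem exists_lift_of_lTensor_eq_zero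
    (hU : ∀ q : PrimeSpectrum B, ¬ J ≤ q.asIdeal → FlatCA.FlatAt A q.asIdeal M)
    (htors : DRing.torsionSub J (EGA4.FibMod A B M) = ⊥) (n : ℕ)
    (x : M ⊗[A] ↥(𝔪 ^ n)) (hx : (Submodule.subtype (𝔪 ^ n)).lTensor M x = 0) :
    ∃ y : M ⊗[A] ↥(𝔪 ^ (n + 1)), (incl (A := A) n).lTensor M y = x ∧
      (Submodule.subtype (𝔪 ^ (n + 1))).lTensor M y = 0 := by
  obtain ⟨k, hk⟩ := exists_pow_smul_eq_zero_of_lTensor_eq_zero J M hU
    (Submodule.subtype (𝔪 ^ n)) (Submodule.injective_subtype _) x hx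
  let G := ↥(𝔪 ^ n) ⧸ LinearMap.range (incl (A := A) n)
  have hGk : ∀ a ∈ 𝔪, ∀ g : G, a • g = 0 := by
    intro a ha g
    obtain ⟨z, rfl⟩ := Submodule.Quotient.mk_surjective _ g
    rw [← Submodule.Quotient.mk_smul, Submodule.Quotient.mk_eq_zero]
    refine ⟨⟨a * z.1, ?_⟩, ?_⟩
    · rw [pow_succ']
      exact Ideal.mul_mem_mul ha z.2
    · apply Subtype.ext
      rfl
  have hex : Exact (incl (A := A) n) (LinearMap.range (incl (A := A) n)).mkQ :=
    LinearMap.exact_map_mkQ_range _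
  have hexT := lTensor_exact M hex (Submodule.mkQ_surjective _)
  have h0 : (LinearMap.range (incl (A := A) n)).mkQ.lTensor M x = 0 := by
    apply eq_zero_of_torsion J M htors G hGk
    refine ⟨k, fun b hb => ?_⟩
    rw [← lTensor_smul, hk b hb, map_zero]
  obtain ⟨y, hy⟩ := (hexT x).mp h0
  refine ⟨y, hy, ?_⟩
  rw [← subtype_comp_incl, LinearMap.lTensor_comp, LinearMap.comp_apply, hy, hx]

/-- iterate -/
theorem exists_lift_pow
    (hU : ∀ q : PrimeSpectrum B, ¬ J ≤ q.asIdeal → FlatCA.FlatAt A q.asIdeal M)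
    (htors : DRing.torsionSub J (EGA4.FibMod A B M) = ⊥)
    (x : M ⊗[A] ↥(𝔪 ^ 1)) (hx : (Submodule.subtype (𝔪 ^ 1)).lTensor M x = 0) (n : ℕ) :
    ∃ y : M ⊗[A] ↥(𝔪 ^ (n + 1)),
      (Submodule.inclusion (Ideal.pow_le_pow_right (Nat.le_add_left 1 n))).lTensor M y = x ∧
      (Submodule.subtype (𝔪 ^ (n + 1))).lTensor M y = 0 := by
  induction n with
  | zero =>
    refine ⟨x, ?_, hx⟩
    have : (Submodule.inclusion (Ideal.pow_le_pow_right (Nat.le_add_left 1 0)) :
        ↥(𝔪 ^ (0 + 1)) →ₗ[A] ↥(𝔪 ^ 1)) = LinearMap.id := by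
      ext z; rfl
    rw [this, LinearMap.lTensor_id, LinearMap.id_apply]
  | succ n ih =>
    obtain ⟨y, hy1, hy2⟩ := ih
    obtain ⟨y', hy'1, hy'2⟩ := exists_lift_of_lTensor_eq_zero J M hU htors (n + 1) y hy2
    refine ⟨y', ?_, hy'2⟩
    have : (Submodule.inclusion (Ideal.pow_le_pow_right (Nat.le_add_left 1 (n + 1))) :
        ↥(𝔪 ^ (n + 1 + 1)) →ₗ[A] ↥(𝔪 ^ 1)) =
        (Submodule.inclusion (Ideal.pow_le_pow_right (Nat.le_add_left 1 n))).comp
          (incl (A := A) (n + 1)) := by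
      ext z; rfl
    rw [this, LinearMap.lTensor_comp, LinearMap.comp_apply, hy'1, hy1]

theorem mem_pow_smul_top_of_lift [IsLocalRing B] [IsLocalHom (algebraMap A B)] (n : ℕ)
    (y : M ⊗[A] ↥(𝔪 ^ (n + 1))) :
    (Submodule.inclusion (Ideal.pow_le_pow_right (Nat.le_add_left 1 n)) :
      ↥(𝔪 ^ (n + 1)) →ₗ[A] ↥(𝔪 ^ 1)).lTensor M y ∈
      ((𝔪).map (algebraMap A B)) ^ n • (⊤ : Submodule B (M ⊗[A] ↥(𝔪 ^ 1))) := by
  induction y using TensorProduct.induction_on with
  | zero => rw [map_zero]; exact Submodule.zero_mem _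
  | add a c ha hc => rw [map_add]; exact Submodule.add_mem _ ha hc
  | tmul m' z =>
    rw [LinearMap.lTensor_tmul]
    apply Groth.Agent.H1.tmul_mem_map_pow_smul_top
    obtain ⟨z, hz⟩ := z
    have h1 : z ∈ 𝔪 ^ n • 𝔪 ^ 1 := by
      rw [smul_eq_mul, ← pow_add]
      exact hz
    have h3 : 𝔪 ^ n • 𝔪 ^ 1 = Submodule.map (Submodule.subtype (𝔪 ^ 1))
        (𝔪 ^ n • (⊤ : Submodule A ↥(𝔪 ^ 1))) := by
      rw [Submodule.map_smul'', Submodule.map_subtype_top]
    rw [h3] at h1
    obtain ⟨j', hj', hjj'⟩ := h1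
    have : j' = Submodule.inclusion (Ideal.pow_le_pow_right (Nat.le_add_left 1 n)) ⟨z, hz⟩ :=
      Subtype.ext hjj'
    rwa [← this]

/-- **S18705**: flatness from flatness off `V(J)` and `depth_J ≥ 1` of the closed fibre -/
theorem flat_of_flatOff_of_depth [IsLocalRing B] [IsLocalHom (algebraMap A B)] [Module.Finite B M]
    (hU : ∀ q : PrimeSpectrum B, ¬ J ≤ q.asIdeal → FlatCA.FlatAt A q.asIdeal M)
    (htors : DRing.torsionSub J (EGA4.FibMod A B M) = ⊥) : Module.Flat A M := by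
  have hne : 𝔪 ^ 1 ≠ ⊤ := by
    rw [pow_one]; exact (IsLocalRing.maximalIdeal.isMaximal A).ne_top
  have hI := Groth.Agent.H1.map_le_jacobson_of_isLocalHom (S := B) (𝔪) (IsLocalRing.maximalIdeal.isMaximal A).ne_top
  haveI : Module.Finite B (M ⊗[A] ↥(𝔪 ^ 1)) := Groth.Agent.H1.finite_tensor_of_finite _
  have hkrull := Ideal.iInf_pow_smul_eq_bot_of_le_jacobson (M := M ⊗[A] ↥(𝔪 ^ 1)) _ hI
  have hinj : Injective ((Submodule.subtype (𝔪 ^ 1)).lTensor M) := by
    rw [injective_iff_map_eq_zero]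
    intro x hx
    have hmem : x ∈ (⨅ i : ℕ, ((𝔪).map (algebraMap A B)) ^ i • ⊤ : Submodule B (M ⊗[A] ↥(𝔪 ^ 1))) := by
      rw [Submodule.mem_iInf]
      intro n
      obtain ⟨y, hy1, -⟩ := exists_lift_pow J M hU htors x hx n
      rw [← hy1]
      exact mem_pow_smul_top_of_lift M n y
    rw [hkrull] at hmem
    exact hmem
  haveI : (𝔪 ^ 1).IsMaximal := by rw [pow_one]; infer_instance
  letI : Field (A ⧸ 𝔪 ^ 1) := Ideal.Quotient.field _
  haveI : Module.Flat (A ⧸ 𝔪 ^ 1) ((A ⧸ 𝔪 ^ 1) ⊗[A] M) := inferInstance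
  exact Groth.Agent.H1.flat_of_isLocalHom_of_rTensor_injective (S := B) (𝔪 ^ 1) hne
    ((LinearMap.lTensor_inj_iff_rTensor_inj _ _).mp hinj)

end Main

end Groth.Agent.H4.FD1
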