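import Mathlib
import Groth.Agent.H4.FD1
import Groth.Agent.Lib.Helper6.HomKer
import Groth.Agent.Lib.Helper6.DepthKit

set_option autoImplicit false
universe u
open TensorProduct Function

namespace Groth.Agent.H4.FD2

open Groth.Agent.H4.FD1

section Quot

variable {A B : Type u} [CommRing A] [CommRing B] [Algebra A B]
  (M : Type u) [AddCommGroup M] [Module B M] [Module A M] [IsScalarTower A B M]

/-- `y ↦ y ⊗ 1` as a `B`-linear map -/
noncomputable def tmulOne (I : Ideal A) : M →ₗ[B] M ⊗[A] (A ⧸ I) where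
  toFun y := y ⊗ₜ[A] (1 : A ⧸ I)
  map_add' y z := add_tmul y z 1
  map_smul' b y := (smul_tmul' b y (1 : A ⧸ I)).symm

theorem tmulOne_surjective (I : Ideal A) : Surjective (tmulOne (B := B) M I) := by
  intro x
  obtain ⟨y, rfl⟩ := exists_tmul_one M I x
  exact ⟨y, rfl⟩

theorem ker_tmulOne (I : Ideal A) :
    LinearMap.ker (tmulOne (B := B) M I) = (I.map (algebraMap A B)) • (⊤ : Submodule B M) := by
  ext y
  rw [LinearMap.mem_ker]
  exact tmul_one_eq_zero_iff M I y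

/-- `M/IM ≃ M ⊗ A/I`, `B`-linearly -/
noncomputable def quotEquiv (I : Ideal A) :
    (M ⧸ ((I.map (algebraMap A B)) • (⊤ : Submodule B M))) ≃ₗ[B] M ⊗[A] (A ⧸ I) :=
  (Submodule.quotEquivOfEq _ _ (ker_tmulOne M I).symm).trans
    ((tmulOne (B := B) M I).quotKerEquivOfSurjective (tmulOne_surjective M I))

end Quot

section Pi

variable {A B : Type u} [CommRing A] [CommRing B] [Algebra A B] [IsLocalRing A] [IsNoetherianRing B]
  (J : Ideal B) (M : Type u) [AddCommGroup M] [Module B M] [Module A M] [IsScalarTower A B M]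
  [Module.Finite B M]

theorem le_idealDepth_pi (k : ℕ) (N : Type u) [AddCommGroup N] [Module B N] [Module.Finite B N]
    (h : (k : ℕ∞) ≤ LocCoh.idealDepth J N) (r : ℕ) :
    (k : ℕ∞) ≤ LocCoh.idealDepth J (Fin r → N) := by
  rw [Groth.Agent.H6.HomKer.idealDepth_congr J (Module.piEquiv (Fin r) B N)]
  exact Groth.Agent.H6.HomKer.idealDepth_homPi_ge J k h r

/-- depth of `M ⊗ G` for `G` a finite module killed by the maximal ideal -/
theorem le_idealDepth_tensor (k : ℕ) (h : (k : ℕ∞) ≤ LocCoh.idealDepth J (EGA4.FibMod A B M))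
    (G : Type u) [AddCommGroup G] [Module A G] [Module.Finite A G]
    (hG : ∀ a ∈ IsLocalRing.maximalIdeal A, ∀ g : G, a • g = 0) :
    (k : ℕ∞) ≤ LocCoh.idealDepth J (M ⊗[A] G) := by
  obtain ⟨r, ⟨e⟩⟩ := exists_equiv_pi_of_smul_eq_zero A G hG
  let E : (M ⊗[A] G) ≃ₗ[B] (Fin r → EGA4.FibMod A B M) :=
    (AlgebraTensorModule.congr (LinearEquiv.refl B M) e).trans
      ((piRight A B M (fun _ : Fin r => A ⧸ IsLocalRing.maximalIdeal A)).trans
        (LinearEquiv.piCongrRight (fun _ => (quotEquiv M (IsLocalRing.maximalIdeal A)).symm)))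
  rw [Groth.Agent.H6.HomKer.idealDepth_congr J E]
  exact le_idealDepth_pi J k _ h r

end Pi

section Ses

variable {A : Type u} [CommRing A] [IsLocalRing A]

local notation "𝔪" => IsLocalRing.maximalIdeal A

/-- `𝔪ⁿ/𝔪ⁿ⁺¹` -/
abbrev Gr (A : Type u) [CommRing A] [IsLocalRing A] (n : ℕ) : Type u :=
  ↥((IsLocalRing.maximalIdeal A) ^ n) ⧸ LinearMap.range (incl (A := A) n)

theorem gr_smul_eq_zero (n : ℕ) : ∀ a ∈ 𝔪, ∀ g : Gr A n, a • g = 0 := by
  intro a ha g
  obtain ⟨z, rfl⟩ := Submodule.Quotient.mk_surjective _ g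
  rw [← Submodule.Quotient.mk_smul, Submodule.Quotient.mk_eq_zero]
  refine ⟨⟨a * z.1, ?_⟩, ?_⟩
  · rw [pow_succ']
    exact Ideal.mul_mem_mul ha z.2
  · apply Subtype.ext
    rfl

/-- `𝔪ⁿ/𝔪ⁿ⁺¹ → A/𝔪ⁿ⁺¹` -/
noncomputable def grMap (n : ℕ) : Gr A n →ₗ[A] A ⧸ 𝔪 ^ (n + 1) :=
  Submodule.liftQ _ ((Submodule.mkQ (𝔪 ^ (n + 1))).comp (Submodule.subtype (𝔪 ^ n))) (by
    rintro _ ⟨y, rfl⟩
    rw [LinearMap.mem_ker, LinearMap.comp_apply, Submodule.mkQ_apply, Submodule.Quotient.mk_eq_zero]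
    exact y.2)

theorem grMap_mk (n : ℕ) (z : ↥(𝔪 ^ n)) :
    grMap n (Submodule.Quotient.mk z) = Submodule.Quotient.mk (z : A) := rfl

theorem grMap_injective (n : ℕ) : Injective (grMap (A := A) n) := by
  rw [injective_iff_map_eq_zero]
  intro g hg
  obtain ⟨z, rfl⟩ := Submodule.Quotient.mk_surjective _ g
  rw [grMap_mk, Submodule.Quotient.mk_eq_zero] at hg
  rw [Submodule.Quotient.mk_eq_zero]
  exact ⟨⟨z.1, hg⟩, Subtype.ext rfl⟩

/-- `A/𝔪ⁿ⁺¹ → A/𝔪ⁿ` -/
noncomputable def quotMap (n : ℕ) : (A ⧸ 𝔪 ^ (n + 1)) →ₗ[A] A ⧸ 𝔪 ^ n :=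
  Submodule.mapQ _ _ LinearMap.id (by
    intro a ha
    exact Ideal.pow_le_pow_right (Nat.le_succ n) ha)

theorem quotMap_mk (n : ℕ) (a : A) :
    quotMap n (Submodule.Quotient.mk a : A ⧸ 𝔪 ^ (n + 1)) = Submodule.Quotient.mk a := rfl

theorem quotMap_surjective (n : ℕ) : Surjective (quotMap (A := A) n) := by
  intro y
  obtain ⟨a, rfl⟩ := Submodule.Quotient.mk_surjective _ y
  exact ⟨Submodule.Quotient.mk a, rfl⟩

theorem exact_grMap_quotMap (n : ℕ) : Exact (grMap (A := A) n) (quotMap n) := by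
  intro y
  obtain ⟨a, rfl⟩ := Submodule.Quotient.mk_surjective _ y
  rw [quotMap_mk, Submodule.Quotient.mk_eq_zero]
  constructor
  · intro ha
    exact ⟨Submodule.Quotient.mk ⟨a, ha⟩, rfl⟩
  · rintro ⟨g, hg⟩
    obtain ⟨z, rfl⟩ := Submodule.Quotient.mk_surjective _ g
    rw [grMap_mk, Submodule.Quotient.eq] at hg
    have h1 : (z : A) - a ∈ 𝔪 ^ n := Ideal.pow_le_pow_right (Nat.le_succ n) hg
    have h2 := Submodule.sub_mem _ z.2 h1
    rwa [sub_sub_cancel] at h2

end Ses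

section MainDepth

variable {A B : Type u} [CommRing A] [CommRing B] [Algebra A B] [IsLocalRing A]
  [IsNoetherianRing A] [IsNoetherianRing B]
  (J : Ideal B) (M : Type u) [AddCommGroup M] [Module B M] [Module A M] [IsScalarTower A B M]
  [Module.Finite B M]

local notation "𝔪" => IsLocalRing.maximalIdeal A

theorem idealDepth_eq_top_of_subsingleton (X : Type u) [AddCommGroup X] [Module B X] [Subsingleton X] :
    LocCoh.idealDepth J X = ⊤ := by
  unfold LocCoh.idealDepth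
  rw [if_pos (Subsingleton.elim _ _)]

/-- depth of the infinitesimal neighbourhoods of the closed fibre, for flat `M` -/
theorem two_le_idealDepth_tensor_quot_pow [Module.Flat A M]
    (h2 : 2 ≤ LocCoh.idealDepth J (EGA4.FibMod A B M)) (n : ℕ) :
    2 ≤ LocCoh.idealDepth J (M ⊗[A] (A ⧸ 𝔪 ^ n)) := by
  induction n with
  | zero =>
    haveI : Subsingleton (A ⧸ 𝔪 ^ 0) := by
      rw [pow_zero, Ideal.one_eq_top]
      exact Ideal.Quotient.subsingleton_iff.mpr rfl
    haveI : Subsingleton (M ⊗[A] (A ⧸ 𝔪 ^ 0)) := inferInstance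
    rw [idealDepth_eq_top_of_subsingleton]
    exact le_top
  | succ n ih =>
    haveI : Module.Finite B (M ⊗[A] Gr A n) := Groth.Agent.H1.finite_tensor_of_finite _
    haveI : Module.Finite B (M ⊗[A] (A ⧸ 𝔪 ^ (n + 1))) := Groth.Agent.H1.finite_tensor_of_finite _
    haveI : Module.Finite B (M ⊗[A] (A ⧸ 𝔪 ^ n)) := Groth.Agent.H1.finite_tensor_of_finite _
    have hG : 2 ≤ LocCoh.idealDepth J (M ⊗[A] Gr A n) := by
      have := le_idealDepth_tensor J M 2 (by exact_mod_cast h2) (Gr A n) (gr_smul_eq_zero n)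
      exact_mod_cast this
    rw [Groth.Agent.H6.Depth.two_le_idealDepth_iff] at hG ih ⊢
    have hf : Injective (AlgebraTensorModule.lTensor B M (grMap (A := A) n)) :=
      Module.Flat.lTensor_preserves_injective_linearMap _ (grMap_injective n)
    have hg : Surjective (AlgebraTensorModule.lTensor B M (quotMap (A := A) n)) :=
      LinearMap.lTensor_surjective M (quotMap_surjective n)
    have hex : Exact (AlgebraTensorModule.lTensor B M (grMap (A := A) n))
        (AlgebraTensorModule.lTensor B M (quotMap (A := A) n)) :=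
      lTensor_exact M (exact_grMap_quotMap n) (quotMap_surjective n)
    exact ⟨Groth.Agent.H6.Depth.subsingleton_mid _ _ J 0 hf hg hex hG.1 ih.1,
      Groth.Agent.H6.Depth.subsingleton_mid _ _ J 1 hf hg hex hG.2 ih.2⟩

/-- **S18706** -/
theorem two_le_idealDepth_quot_pow [IsLocalRing B] [IsLocalHom (algebraMap A B)]
    (hU : ∀ q : PrimeSpectrum B, ¬ J ≤ q.asIdeal → FlatCA.FlatAt A q.asIdeal M)
    (h2 : 2 ≤ LocCoh.idealDepth J (EGA4.FibMod A B M)) (n : ℕ) :
    2 ≤ LocCoh.idealDepth J (M ⧸ ((EGA4.mB A B) ^ n • (⊤ : Submodule B M))) := by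
  have h1 : 1 ≤ LocCoh.idealDepth J (EGA4.FibMod A B M) := le_trans one_le_two h2
  rw [Groth.Agent.H6.Depth.one_le_idealDepth_iff, Groth.Agent.H6.Depth.subsingleton_H_zero_iff] at h1
  haveI : Module.Flat A M := flat_of_flatOff_of_depth J M hU h1
  have heq : (EGA4.mB A B) ^ n • (⊤ : Submodule B M) =
      ((𝔪 ^ n).map (algebraMap A B)) • (⊤ : Submodule B M) := by
    rw [Ideal.map_pow]
  rw [Groth.Agent.H6.HomKer.idealDepth_congr J
    ((Submodule.quotEquivOfEq _ _ heq).trans (quotEquiv M (𝔪 ^ n)))]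
  exact two_le_idealDepth_tensor_quot_pow J M h2 n

end MainDepth

end Groth.Agent.H4.FD2
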