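import Mathlib
import Groth.Agent.H4.FD2
import Groth.Agent.Lib.Helper1.FlatRegularElement
import Groth.Agent.Lib.Helper1.FibreFree
import Groth.Agent.Lib.Helper1.LocalCriterion2

set_option autoImplicit false
universe u
open TensorProduct Function

namespace Groth.Agent.H4.FD3

open Groth.Agent.H4.FD1 Groth.Agent.H4.FD2

section Gen

variable {A B : Type u} [CommRing A] [CommRing B] [Algebra A B] [IsNoetherianRing B]
  (J : Ideal B)

theorem exists_pow_of_forall_prime {X : Type u} [AddCommGroup X] [Module B X] (x : X)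
    (h : ∀ q : Ideal B, q.IsPrime → ¬ J ≤ q → ∃ s : B, s ∉ q ∧ s • x = 0) :
    ∃ k : ℕ, ∀ b ∈ J ^ k, b • x = 0 := by
  set I : Ideal B := LinearMap.ker (LinearMap.toSpanSingleton B X x) with hI
  have hmem : ∀ b : B, b ∈ I ↔ b • x = 0 := by
    intro b
    rw [hI, LinearMap.mem_ker, LinearMap.toSpanSingleton_apply]
  have hrad : J ≤ I.radical := by
    rw [Ideal.radical_eq_sInf]
    refine le_sInf ?_
    rintro q ⟨hIq, hq⟩
    by_contra hJq
    obtain ⟨s, hs, hsx⟩ := h q hq hJq
    exact hs (hIq ((hmem s).mpr hsx))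
  obtain ⟨k, hk⟩ := Ideal.exists_pow_le_of_le_radical_of_fg hrad (IsNoetherian.noetherian J)
  exact ⟨k, fun b hb => (hmem b).mp (hk hb)⟩

variable {K E C : Type u} [AddCommGroup K] [Module B K] [Module A K] [IsScalarTower A B K]
  [AddCommGroup E] [Module B E] [Module A E] [IsScalarTower A B E]
  [AddCommGroup C] [Module B C] [Module A C] [IsScalarTower A B C]
  (g₁ : K →ₗ[B] E) (g₂ : E →ₗ[B] C)

/-- flatness at a prime passes to kernels -/
theorem flatAt_ker (hg₁ : Injective g₁) (hex : Exact g₁ g₂) (hg₂ : Surjective g₂)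
    (q : Ideal B) [q.IsPrime] (hE : FlatCA.FlatAt A q E) (hC : FlatCA.FlatAt A q C) :
    FlatCA.FlatAt A q K := by
  unfold FlatCA.FlatAt at hE hC ⊢
  let S := q.primeCompl
  let mkK := LocalizedModule.mkLinearMap S K
  let mkE := LocalizedModule.mkLinearMap S E
  let mkC := LocalizedModule.mkLinearMap S C
  let g₁' := IsLocalizedModule.map S mkK mkE g₁
  let g₂' := IsLocalizedModule.map S mkE mkC g₂
  have h1 : Injective g₁' := IsLocalizedModule.map_injective S mkK mkE g₁ hg₁
  have h2 : Surjective g₂' := IsLocalizedModule.map_surjective S mkE mkC g₂ hg₂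
  have h3 : Exact g₁' g₂' := IsLocalizedModule.map_exact S mkK mkE mkC g₁ g₂ hex
  exact Groth.Agent.H1.flat_of_exact_of_flat_of_flat (g₁'.restrictScalars A) (g₂'.restrictScalars A)
    h1 h3 h2

/-- `Tor₁ᴬ(C, N)` is `J`-power torsion when `C` is flat off `V(J)` (in terms of a presentation) -/
theorem exists_pow_smul_eq_zero_of_rTensor_eq_zero
    (hg₁ : Injective g₁) (hex : Exact g₁ g₂) (hg₂ : Surjective g₂)
    (hU : ∀ q : PrimeSpectrum B, ¬ J ≤ q.asIdeal → FlatCA.FlatAt A q.asIdeal C)
    (N : Type u) [AddCommGroup N] [Module A N] (x : K ⊗[A] N)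
    (hx : (AlgebraTensorModule.rTensor A N g₁) x = 0) :
    ∃ k : ℕ, ∀ b ∈ J ^ k, b • x = 0 := by
  apply exists_pow_of_forall_prime
  intro q hq hJq
  have hfl : Module.Flat A (LocalizedModule q.primeCompl C) := hU ⟨q, hq⟩ hJq
  let S := q.primeCompl
  let mkK := LocalizedModule.mkLinearMap S K
  let mkE := LocalizedModule.mkLinearMap S E
  let mkC := LocalizedModule.mkLinearMap S C
  let g₁' := IsLocalizedModule.map S mkK mkE g₁
  let g₂' := IsLocalizedModule.map S mkE mkC g₂
  have h1 : Injective g₁' := IsLocalizedModule.map_injective S mkK mkE g₁ hg₁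
  have h2 : Surjective g₂' := IsLocalizedModule.map_surjective S mkE mkC g₂ hg₂
  have h3 : Exact g₁' g₂' := IsLocalizedModule.map_exact S mkK mkE mkC g₁ g₂ hex
  have h4 : Injective ((g₁'.restrictScalars A).lTensor N) :=
    Groth.Agent.H1.lTensor_injective_of_exact_of_flat (g₁'.restrictScalars A)
      (g₂'.restrictScalars A) h1 h3 h2 N
  have h5 : Injective ((g₁'.restrictScalars A).rTensor N) :=
    (LinearMap.lTensor_inj_iff_rTensor_inj _ _).mp h4
  have h6 : (AlgebraTensorModule.rTensor A N mkK) x = 0 := by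
    apply h5
    rw [map_zero]
    have hcomm : ∀ y : K ⊗[A] N, (g₁'.restrictScalars A).rTensor N
        ((AlgebraTensorModule.rTensor A N mkK) y) =
        (AlgebraTensorModule.rTensor A N mkE) ((AlgebraTensorModule.rTensor A N g₁) y) := by
      intro y
      induction y using TensorProduct.induction_on with
      | zero => simp
      | add a b ha hb => simp only [map_add, ha, hb]
      | tmul m n =>
        simp only [AlgebraTensorModule.rTensor_tmul, LinearMap.rTensor_tmul,
          LinearMap.coe_restrictScalars]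
        rw [IsLocalizedModule.map_apply]
    rw [hcomm, hx, map_zero]
  obtain ⟨⟨s, hs⟩, hc⟩ := (IsLocalizedModule.eq_zero_iff S
    (AlgebraTensorModule.rTensor A N mkK)).mp h6
  exact ⟨s, hs, hc⟩

end Gen

section Main

variable {A B : Type u} [CommRing A] [CommRing B] [Algebra A B] [IsLocalRing A] [IsLocalRing B]
  [IsNoetherianRing A] [IsNoetherianRing B] [IsLocalHom (algebraMap A B)] (J : Ideal B)

local notation "κ" => (A ⧸ IsLocalRing.maximalIdeal A)

theorem idealDepth_fib_eq (X : Type u) [AddCommGroup X] [Module B X] [Module A X]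
    [IsScalarTower A B X] :
    LocCoh.idealDepth J (EGA4.FibMod A B X) = LocCoh.idealDepth J (X ⊗[A] κ) :=
  Groth.Agent.H6.HomKer.idealDepth_congr J (quotEquiv X (IsLocalRing.maximalIdeal A))

variable {K E C : Type u} [AddCommGroup K] [Module B K] [Module A K] [IsScalarTower A B K]
  [AddCommGroup E] [Module B E] [Module A E] [IsScalarTower A B E]
  [AddCommGroup C] [Module B C] [Module A C] [IsScalarTower A B C]
  [Module.Finite B K]
  (g₁ : K →ₗ[B] E) (g₂ : E →ₗ[B] C)

/-- P1 -/
theorem flat_coker_of_depth [Module.Flat A E]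
    (hg₁ : Injective g₁) (hex : Exact g₁ g₂) (hg₂ : Surjective g₂)
    (hU : ∀ q : PrimeSpectrum B, ¬ J ≤ q.asIdeal → FlatCA.FlatAt A q.asIdeal C)
    (hK : 1 ≤ LocCoh.idealDepth J (K ⊗[A] κ)) :
    Injective (AlgebraTensorModule.rTensor A κ g₁) ∧ Module.Flat A C := by
  haveI : Module.Finite B (K ⊗[A] κ) := Groth.Agent.H1.finite_tensor_of_finite _
  rw [Groth.Agent.H6.Depth.one_le_idealDepth_iff, Groth.Agent.H6.Depth.subsingleton_H_zero_iff] at hK
  have hinj : Injective (AlgebraTensorModule.rTensor A κ g₁) := by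
    rw [injective_iff_map_eq_zero]
    intro x hx
    have hmem : x ∈ DRing.torsionSub J (K ⊗[A] κ) :=
      exists_pow_smul_eq_zero_of_rTensor_eq_zero J g₁ g₂ hg₁ hex hg₂ hU κ x hx
    rw [hK] at hmem
    exact hmem
  refine ⟨hinj, ?_⟩
  have h : Injective ((g₁.restrictScalars A).lTensor κ) :=
    (LinearMap.lTensor_inj_iff_rTensor_inj _ _).mpr hinj
  exact Groth.Agent.H1.flat_of_exact_of_lTensor_residue_injective B (g₁.restrictScalars A) h
    (g₂.restrictScalars A) hex hg₂

omit [Module.Finite B K] in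
theorem rTensor_exact' (hex : Exact g₁ g₂) (hg₂ : Surjective g₂) :
    Exact (AlgebraTensorModule.rTensor A κ g₁) (AlgebraTensorModule.rTensor A κ g₂) :=
  rTensor_exact κ (f := g₁.restrictScalars A) (g := g₂.restrictScalars A) hex hg₂

omit [Module.Finite B K] in
theorem rTensor_surjective' (hg₂ : Surjective g₂) :
    Surjective (AlgebraTensorModule.rTensor A κ g₂) :=
  LinearMap.rTensor_surjective κ (g := g₂.restrictScalars A) hg₂

omit [Module.Finite B K] in
theorem rTensor_injective_of_flat [Module.Flat A C]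
    (hg₁ : Injective g₁) (hex : Exact g₁ g₂) (hg₂ : Surjective g₂) :
    Injective (AlgebraTensorModule.rTensor A κ g₁) := by
  have e1 : Injective (g₁.restrictScalars A) := hg₁
  have e2 : Exact (g₁.restrictScalars A) (g₂.restrictScalars A) := hex
  have e3 : Surjective (g₂.restrictScalars A) := hg₂
  have h4 : Injective ((g₁.restrictScalars A).lTensor κ) :=
    Groth.Agent.H1.lTensor_injective_of_exact_of_flat (g₁.restrictScalars A)
      (g₂.restrictScalars A) e1 e2 e3 κ
  have h5 : Injective ((g₁.restrictScalars A).rTensor κ) :=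
    (LinearMap.lTensor_inj_iff_rTensor_inj _ _).mp h4
  exact h5

omit [Module.Finite B K] [IsNoetherianRing A] [IsNoetherianRing B] [IsLocalRing B]
  [IsLocalHom (algebraMap A B)] in
theorem flatAt_of_flat (X : Type u) [AddCommGroup X] [Module B X] [Module A X]
    [IsScalarTower A B X] [Module.Flat A X] (q : Ideal B) [q.IsPrime] : FlatCA.FlatAt A q X :=
  Groth.Agent.H1.FibreFree.flat_localizedModule_of_flat q.primeCompl

end Main

section S18708

theorem S18708 (A B : Type u) [CommRing A] [CommRing B]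
    [IsNoetherianRing A] [IsNoetherianRing B] [IsLocalRing A] [IsLocalRing B] [Algebra A B]
    [IsLocalHom (algebraMap A B)] (J : Ideal B)
    (F E0 E1 G : Type u) [AddCommGroup F] [Module B F] [Module A F] [IsScalarTower A B F] [Module.Finite B F]
    [AddCommGroup E0] [Module B E0] [Module A E0] [IsScalarTower A B E0] [Module.Finite B E0] [Module.Flat A E0]
    [AddCommGroup E1] [Module B E1] [Module A E1] [IsScalarTower A B E1] [Module.Finite B E1] [Module.Flat A E1]
    [AddCommGroup G] [Module B G] [Module A G] [IsScalarTower A B G] [Module.Finite B G]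
    (f : F →ₗ[B] E0) (u : E0 →ₗ[B] E1) (v : E1 →ₗ[B] G)
    (hf : Function.Injective f) (hfu : Function.Exact f u) (huv : Function.Exact u v) (hv : Function.Surjective v)
    (hGU : ∀ q : PrimeSpectrum B, ¬ J ≤ q.asIdeal → FlatCA.FlatAt A q.asIdeal G)
    (h0 : 2 ≤ LocCoh.idealDepth J (EGA4.FibMod A B E0)) (h1 : 1 ≤ LocCoh.idealDepth J (EGA4.FibMod A B E1)) :
    (2 ≤ LocCoh.idealDepth J (EGA4.FibMod A B F) ↔ Module.Flat A G) ∧
    (Module.Flat A G ↔ ∀ n : ℕ, 2 ≤ LocCoh.idealDepth J (F ⧸ ((EGA4.mB A B) ^ (n + 1) • (⊤ : Submodule B F)))) ∧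
    (Module.Flat A G → Module.Flat A F) := by
  -- the image
  let Z := LinearMap.range u
  let u' : E0 →ₗ[B] Z := u.rangeRestrict
  let ι : Z →ₗ[B] E1 := Z.subtype
  have hu' : Surjective u' := u.surjective_rangeRestrict
  have hι : Injective ι := Submodule.injective_subtype _
  have hfu' : Exact f u' := by
    intro y
    rw [← hfu y]
    constructor
    · intro h
      exact congrArg Subtype.val h
    · intro h
      exact Subtype.ext h
  have hιv : Exact ι v := by
    intro z
    rw [huv z]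
    constructor
    · rintro ⟨y, rfl⟩
      exact ⟨⟨u y, ⟨y, rfl⟩⟩, rfl⟩
    · rintro ⟨⟨_, ⟨y, rfl⟩⟩, rfl⟩
      exact ⟨y, rfl⟩
  have hZU : ∀ q : PrimeSpectrum B, ¬ J ≤ q.asIdeal → FlatCA.FlatAt A q.asIdeal Z := by
    intro q hq
    haveI := q.2
    exact flatAt_ker ι v hι hιv hv q.asIdeal (flatAt_of_flat E1 q.asIdeal) (hGU q hq)
  have hFU : ∀ q : PrimeSpectrum B, ¬ J ≤ q.asIdeal → FlatCA.FlatAt A q.asIdeal F := by
    intro q hq
    haveI := q.2
    exact flatAt_ker f u' hf hfu' hu' q.asIdeal (flatAt_of_flat E0 q.asIdeal) (hZU q hq)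
  rw [idealDepth_fib_eq] at h0 h1
  haveI : Module.Finite B (F ⊗[A] (A ⧸ IsLocalRing.maximalIdeal A)) := Groth.Agent.H1.finite_tensor_of_finite _
  haveI : Module.Finite B (E0 ⊗[A] (A ⧸ IsLocalRing.maximalIdeal A)) := Groth.Agent.H1.finite_tensor_of_finite _
  haveI : Module.Finite B (E1 ⊗[A] (A ⧸ IsLocalRing.maximalIdeal A)) := Groth.Agent.H1.finite_tensor_of_finite _
  haveI : Module.Finite B (Z ⊗[A] (A ⧸ IsLocalRing.maximalIdeal A)) := Groth.Agent.H1.finite_tensor_of_finite _
  rw [Groth.Agent.H6.Depth.two_le_idealDepth_iff] at h0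
  rw [Groth.Agent.H6.Depth.one_le_idealDepth_iff] at h1
  -- (iii) and more
  have hflat : Module.Flat A G → Module.Flat A Z ∧ Module.Flat A F := by
    intro hG
    haveI : Module.Flat A Z := Groth.Agent.H1.flat_of_exact_of_flat_of_flat
      (ι.restrictScalars A) (v.restrictScalars A) hι hιv hv
    exact ⟨inferInstance, Groth.Agent.H1.flat_of_exact_of_flat_of_flat
      (f.restrictScalars A) (u'.restrictScalars A) hf hfu' hu'⟩
  have hi : 2 ≤ LocCoh.idealDepth J (EGA4.FibMod A B F) ↔ Module.Flat A G := by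
    rw [idealDepth_fib_eq, Groth.Agent.H6.Depth.two_le_idealDepth_iff]
    constructor
    · rintro ⟨hF0, hF1⟩
      have hF1' : 1 ≤ LocCoh.idealDepth J (F ⊗[A] (A ⧸ IsLocalRing.maximalIdeal A)) := by
        rw [Groth.Agent.H6.Depth.one_le_idealDepth_iff]; exact hF0
      obtain ⟨hfT, hZfl⟩ := flat_coker_of_depth J f u' hf hfu' hu' hZU hF1'
      have hZ0 : Subsingleton (LocCoh.H J 0 (Z ⊗[A] (A ⧸ IsLocalRing.maximalIdeal A))) :=
        Groth.Agent.H6.Depth.subsingleton_right _ _ J 0 hfT (rTensor_surjective' u' hu')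
          (rTensor_exact' f u' hfu' hu') h0.1 hF1
      have hZ1' : 1 ≤ LocCoh.idealDepth J (Z ⊗[A] (A ⧸ IsLocalRing.maximalIdeal A)) := by
        rw [Groth.Agent.H6.Depth.one_le_idealDepth_iff]; exact hZ0
      exact (flat_coker_of_depth J ι v hι hιv hv hGU hZ1').2
    · intro hG
      obtain ⟨hZfl, hFfl⟩ := hflat hG
      have hιT : Injective (AlgebraTensorModule.rTensor A (A ⧸ IsLocalRing.maximalIdeal A) ι) :=
        rTensor_injective_of_flat ι v hι hιv hv
      have hZ0 : Subsingleton (LocCoh.H J 0 (Z ⊗[A] (A ⧸ IsLocalRing.maximalIdeal A))) :=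
        Groth.Agent.H6.Depth.subsingleton_left_zero _ J hιT h1
      have hfT : Injective (AlgebraTensorModule.rTensor A (A ⧸ IsLocalRing.maximalIdeal A) f) :=
        rTensor_injective_of_flat f u' hf hfu' hu'
      exact ⟨Groth.Agent.H6.Depth.subsingleton_left_zero _ J hfT h0.1,
        Groth.Agent.H6.Depth.subsingleton_left_succ _ _ J 0 hfT (rTensor_surjective' u' hu')
          (rTensor_exact' f u' hfu' hu') h0.2 hZ0⟩
  refine ⟨hi, ⟨fun hG n => ?_, fun h => ?_⟩, fun hG => (hflat hG).2⟩
  · exact two_le_idealDepth_quot_pow J F hFU (hi.mpr hG) (n + 1)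
  · apply hi.mp
    have heq : (EGA4.mB A B) ^ (0 + 1) • (⊤ : Submodule B F) = (EGA4.mB A B) • (⊤ : Submodule B F) := by
      rw [zero_add, pow_one]
    rw [← Groth.Agent.H6.HomKer.idealDepth_congr J (Submodule.quotEquivOfEq _ _ heq)]
    exact h 0

end S18708

end Groth.Agent.H4.FD3
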