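import Mathlib
import Groth.Agent.H4.FD3
import Groth.Agent.Lib.Helper6.LCTorsion
import Groth.Agent.Lib.Helper6.LCProps

set_option autoImplicit false
universe u
open TensorProduct Function

namespace Groth.Agent.H4.FD4

open Groth.Agent.H4.FD1 Groth.Agent.H4.FD2 Groth.Agent.H4.FD3

section Gen

variable {B : Type u} [CommRing B] [IsNoetherianRing B] (J : Ideal B)

/-- passing to the image of a map with `J`-power torsion kernel -/
theorem subsingleton_H_range {X Y : Type u} [AddCommGroup X] [Module B X] [AddCommGroup Y]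
    [Module B Y] (g : X →ₗ[B] Y)
    (hker : ∀ x : X, g x = 0 → ∃ k : ℕ, ∀ b ∈ J ^ k, b • x = 0) (i : ℕ)
    (h : Subsingleton (LocCoh.H J i X)) : Subsingleton (LocCoh.H J i (LinearMap.range g)) := by
  have hT : ∀ t : ModuleCat.of B (LinearMap.ker g),
      t ∈ DRing.torsionSub J (ModuleCat.of B (LinearMap.ker g)) := by
    rintro ⟨t, ht⟩
    obtain ⟨k, hk⟩ := hker t (LinearMap.mem_ker.mp ht)
    exact ⟨k, fun a ha => Subtype.ext (hk a ha)⟩
  have h1 : Subsingleton (LocCoh.H J (i + 1) (LinearMap.ker g)) :=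
    Groth.Agent.H6.LC.subsingleton_of_torsion J i (ModuleCat.of B (LinearMap.ker g)) hT
  refine Groth.Agent.H6.Depth.subsingleton_right (LinearMap.ker g).subtype g.rangeRestrict J i
    (Submodule.injective_subtype _) g.surjective_rangeRestrict ?_ h h1
  intro x
  constructor
  · intro hx
    have : g x = 0 := congrArg Subtype.val hx
    exact ⟨⟨x, LinearMap.mem_ker.mpr this⟩, rfl⟩
  · rintro ⟨⟨y, hy⟩, rfl⟩
    exact Subtype.ext (LinearMap.mem_ker.mp hy)

/-- the cokernel of the image -/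
theorem subsingleton_H_of_range {X Y W : Type u} [AddCommGroup X] [Module B X] [AddCommGroup Y]
    [Module B Y] [AddCommGroup W] [Module B W] (g : X →ₗ[B] Y) (p : Y →ₗ[B] W)
    (hex : Exact g p) (hp : Surjective p) (i : ℕ)
    (h2 : Subsingleton (LocCoh.H J i Y))
    (h1 : Subsingleton (LocCoh.H J (i + 1) (LinearMap.range g))) :
    Subsingleton (LocCoh.H J i W) := by
  refine Groth.Agent.H6.Depth.subsingleton_right (LinearMap.range g).subtype p J i
    (Submodule.injective_subtype _) hp ?_ h2 h1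
  intro y
  rw [hex y]
  constructor
  · rintro ⟨x, rfl⟩
    exact ⟨⟨g x, ⟨x, rfl⟩⟩, rfl⟩
  · rintro ⟨⟨_, ⟨x, rfl⟩⟩, rfl⟩
    exact ⟨x, rfl⟩

end Gen

section S18726

theorem S18726 (A B : Type u) [CommRing A] [CommRing B]
    [IsNoetherianRing A] [IsNoetherianRing B] [IsLocalRing A] [IsLocalRing B] [Algebra A B]
    [IsLocalHom (algebraMap A B)] (J : Ideal B)
    (F E0 E1 G : Type u) [AddCommGroup F] [Module B F] [Module A F] [IsScalarTower A B F] [Module.Finite B F]
    [AddCommGroup E0] [Module B E0] [Module A E0] [IsScalarTower A B E0] [Module.Finite B E0] [Module.Flat A E0]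
    [AddCommGroup E1] [Module B E1] [Module A E1] [IsScalarTower A B E1] [Module.Finite B E1] [Module.Flat A E1]
    [AddCommGroup G] [Module B G] [Module A G] [IsScalarTower A B G] [Module.Finite B G]
    (f : F →ₗ[B] E0) (u : E0 →ₗ[B] E1) (v : E1 →ₗ[B] G)
    (hf : Function.Injective f) (hfu : Function.Exact f u) (huv : Function.Exact u v) (hv : Function.Surjective v)
    (hGU : ∀ q : PrimeSpectrum B, ¬ J ≤ q.asIdeal → FlatCA.FlatAt A q.asIdeal G)
    (h0 : 2 ≤ LocCoh.idealDepth J (EGA4.FibMod A B E0)) (h1 : 1 ≤ LocCoh.idealDepth J (EGA4.FibMod A B E1))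
    (hH2 : Subsingleton (LocCoh.H J 2 (EGA4.FibMod A B F))) :
    Module.Flat A F ∧ Module.Flat A G ∧ 2 ≤ LocCoh.idealDepth J (EGA4.FibMod A B F) := by
  obtain ⟨hi, -, hiii⟩ := S18708 A B J F E0 E1 G f u v hf hfu huv hv hGU h0 h1
  suffices hG : Module.Flat A G from ⟨hiii hG, hG, hi.mpr hG⟩
  -- the image
  let Z := LinearMap.range u
  let u' : E0 →ₗ[B] Z := u.rangeRestrict
  let ι : Z →ₗ[B] E1 := Z.subtype
  have hu' : Surjective u' := u.surjective_rangeRestrict
  have hι : Injective ι := Submodule.injective_subtype _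
  have hfu' : Exact f u' := by
    intro y
    rw [← hfu y]
    constructor
    · intro h
      exact congrArg Subtype.val h
    · intro h
      exact Subtype.ext h
  have hιv : Exact ι v := by
    intro z
    rw [huv z]
    constructor
    · rintro ⟨y, rfl⟩
      exact ⟨⟨u y, ⟨y, rfl⟩⟩, rfl⟩
    · rintro ⟨⟨_, ⟨y, rfl⟩⟩, rfl⟩
      exact ⟨y, rfl⟩
  have hZU : ∀ q : PrimeSpectrum B, ¬ J ≤ q.asIdeal → FlatCA.FlatAt A q.asIdeal Z := by
    intro q hq
    haveI := q.2
    exact flatAt_ker ι v hι hιv hv q.asIdeal (flatAt_of_flat E1 q.asIdeal) (hGU q hq)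
  rw [idealDepth_fib_eq] at h0 h1
  haveI : Module.Finite B (E0 ⊗[A] (A ⧸ IsLocalRing.maximalIdeal A)) := Groth.Agent.H1.finite_tensor_of_finite _
  haveI : Module.Finite B (E1 ⊗[A] (A ⧸ IsLocalRing.maximalIdeal A)) := Groth.Agent.H1.finite_tensor_of_finite _
  rw [Groth.Agent.H6.Depth.two_le_idealDepth_iff] at h0
  rw [Groth.Agent.H6.Depth.one_le_idealDepth_iff] at h1
  -- transport the hypothesis
  have hF2 : Subsingleton (LocCoh.H J 2 (F ⊗[A] (A ⧸ IsLocalRing.maximalIdeal A))) :=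
    Groth.Agent.H6.LC.subsingleton_of_linearEquiv (quotEquiv F (IsLocalRing.maximalIdeal A)) hH2
  -- step 2
  have hFbar : Subsingleton (LocCoh.H J 2 (LinearMap.range
      (AlgebraTensorModule.rTensor A (A ⧸ IsLocalRing.maximalIdeal A) f))) :=
    subsingleton_H_range J _ (fun x hx =>
      exists_pow_smul_eq_zero_of_rTensor_eq_zero J f u' hf hfu' hu' hZU _ x hx) 2 hF2
  -- step 3
  have hZ1 : Subsingleton (LocCoh.H J 1 (Z ⊗[A] (A ⧸ IsLocalRing.maximalIdeal A))) :=
    subsingleton_H_of_range J _ _ (rTensor_exact' f u' hfu' hu') (rTensor_surjective' u' hu') 1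
      h0.2 hFbar
  -- step 4
  have hZbar : Subsingleton (LocCoh.H J 1 (LinearMap.range
      (AlgebraTensorModule.rTensor A (A ⧸ IsLocalRing.maximalIdeal A) ι))) :=
    subsingleton_H_range J _ (fun x hx =>
      exists_pow_smul_eq_zero_of_rTensor_eq_zero J ι v hι hιv hv hGU _ x hx) 1 hZ1
  -- step 5
  have hG0 : Subsingleton (LocCoh.H J 0 (G ⊗[A] (A ⧸ IsLocalRing.maximalIdeal A))) :=
    subsingleton_H_of_range J _ _ (rTensor_exact' ι v hιv hv) (rTensor_surjective' v hv) 0
      h1 hZbar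
  -- step 6
  have hG0' : Subsingleton (LocCoh.H J 0 (EGA4.FibMod A B G)) :=
    Groth.Agent.H6.LC.subsingleton_of_linearEquiv (quotEquiv G (IsLocalRing.maximalIdeal A)).symm hG0
  rw [Groth.Agent.H6.Depth.subsingleton_H_zero_iff] at hG0'
  exact flat_of_flatOff_of_depth J G hGU hG0'

end S18726

end Groth.Agent.H4.FD4
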