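import Mathlib
import Groth.Agent.Lib.Helper6.FibLoc
import Groth.Agent.Lib.Helper6.FlatLoc
import Groth.Agent.Lib.Helper6.FiberDict
import Groth.Agent.Lib.Helper6.DepthInf
import Groth.Agent.Lib.Helper6.DepthKer
import Groth.Agent.Lib.Helper6.ReflLoc
import Groth.Agent.Lib.Helper6.HomKer
import Groth.Prelude.Def_FlatCA

set_option autoImplicit false
universe u
open TensorProduct Function

namespace Groth.Agent.H4.FD5

section Fib

variable (A B : Type u) [CommRing A] [CommRing B] [Algebra A B] (q : Ideal B) [q.IsPrime]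

theorem map_fibLocRing_eq :
    q.map (algebraMap B (EGA4.FibLocRing A B q)) = IsLocalRing.maximalIdeal (EGA4.FibLocRing A B q) := by
  have h1 : algebraMap B (EGA4.FibLocRing A B q) =
      (Ideal.Quotient.mk _).comp (algebraMap B (Localization.AtPrime q)) := rfl
  rw [h1, ← Ideal.map_map, Localization.AtPrime.map_eq_maximalIdeal]
  apply IsLocalRing.eq_maximalIdeal
  apply Ideal.IsMaximal.map_of_surjective_of_ker_le Ideal.Quotient.mk_surjective
  · rw [Ideal.mk_ker]
    exact Groth.Agent.H6.FibLoc.fibIdeal_le A B q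

variable [IsNoetherianRing A] [IsNoetherianRing B]
  (E : Type u) [AddCommGroup E] [Module B E] [Module A E] [IsScalarTower A B E]
  [Module.Finite B E] [Module.Flat A E]

/-- the depth of a flat module at a prime is at least the depth of the fibre stalk -/
theorem fibre_depth_le :
    LocCoh.idealDepth (q.map (algebraMap B (EGA4.FibLocRing A B q))) (EGA4.FibLocMod A B q E) ≤
      LocCoh.depth (Localization.AtPrime q) (LocalizedModule q.primeCompl E) := by
  rw [map_fibLocRing_eq]
  have h1 := (Groth.Agent.H6.FibLoc.depth_and_dim_eq A B q E).1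
  unfold LocCoh.depth at h1
  rw [h1]
  have h2 := (Groth.Agent.H6.FlatLoc.depth_and_dim_localized_tensor (A := A) (B := B) A E q).1
  -- `(E ⊗ A)_q ≃ E_q`
  let e0 : E ⊗[A] A ≃ₗ[B] E := AlgebraTensorModule.rid A B E
  let e1 : LocalizedModule q.primeCompl (E ⊗[A] A) ≃ₗ[Localization.AtPrime q]
      LocalizedModule q.primeCompl E :=
    LinearEquiv.extendScalarsOfIsLocalization q.primeCompl (Localization.AtPrime q)
      (IsLocalizedModule.linearEquiv q.primeCompl
        (LocalizedModule.mkLinearMap q.primeCompl (E ⊗[A] A))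
        ((LocalizedModule.mkLinearMap q.primeCompl E).comp e0.toLinearMap))
  unfold LocCoh.depth at h2 ⊢
  rw [← Groth.Agent.H6.HomKer.idealDepth_congr _ e1, h2]
  exact le_add_self

end Fib

section Self

variable (A B : Type u) [CommRing A] [CommRing B] [Algebra A B] (q : Ideal B) [q.IsPrime]
  [IsNoetherianRing A] [IsNoetherianRing B] [Module.Flat A B]

/-- the depth of `B_q` is at least the depth of the fibre local ring -/
theorem fibre_depth_le_self :
    LocCoh.idealDepth (q.map (algebraMap B (EGA4.FibLocRing A B q))) (EGA4.FibLocRing A B q) ≤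
      LocCoh.depth (Localization.AtPrime q) (LocalizedModule q.primeCompl B) := by
  refine le_trans (le_of_eq ?_) (fibre_depth_le A B q B)
  rw [map_fibLocRing_eq]
  haveI : Module.Finite (Localization.AtPrime q) (EGA4.FibLocRing A B q) :=
    Module.Finite.of_surjective (Algebra.linearMap _ _) Ideal.Quotient.mk_surjective
  have h1 := Groth.Agent.H6.Depth.depth_eq_of_isLocalHom_of_finite (A := Localization.AtPrime q)
    (B := EGA4.FibLocRing A B q) (EGA4.FibLocRing A B q)
  have h2 := (Groth.Agent.H6.FiberDict.depth_and_dim_self (A := A) q).1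
  have h3 := (Groth.Agent.H6.FibLoc.depth_and_dim_eq A B q B).1
  unfold LocCoh.depth at h1 h2 h3
  rw [← h1, ← h2, h3]

end Self

section Thms

theorem S18707 (A B : Type u) [CommRing A] [CommRing B]
    [IsNoetherianRing A] [IsNoetherianRing B] [Algebra A B] (J : Ideal B)
    (F E0 E1 G : Type u) [AddCommGroup F] [Module B F] [Module.Finite B F]
    [AddCommGroup E0] [Module B E0] [Module A E0] [IsScalarTower A B E0] [Module.Finite B E0] [Module.Flat A E0]
    [AddCommGroup E1] [Module B E1] [Module A E1] [IsScalarTower A B E1] [Module.Finite B E1] [Module.Flat A E1]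
    [AddCommGroup G] [Module B G] [Module A G] [IsScalarTower A B G] [Module.Finite B G]
    (f : F →ₗ[B] E0) (u : E0 →ₗ[B] E1) (v : E1 →ₗ[B] G)
    (hf : Function.Injective f) (hfu : Function.Exact f u) (huv : Function.Exact u v) (hv : Function.Surjective v)
    (hGU : ∀ q : PrimeSpectrum B, ¬ J ≤ q.asIdeal → FlatCA.FlatAt A q.asIdeal G)
    (h0 : ∀ q : PrimeSpectrum B, J ≤ q.asIdeal →
      2 ≤ LocCoh.idealDepth (q.asIdeal.map (algebraMap B (EGA4.FibLocRing A B q.asIdeal))) (EGA4.FibLocMod A B q.asIdeal E0))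
    (h1 : ∀ q : PrimeSpectrum B, J ≤ q.asIdeal →
      1 ≤ LocCoh.idealDepth (q.asIdeal.map (algebraMap B (EGA4.FibLocRing A B q.asIdeal))) (EGA4.FibLocMod A B q.asIdeal E1)) :
    2 ≤ LocCoh.idealDepth J F := by
  have hE0 : 2 ≤ LocCoh.idealDepth J E0 := by
    rw [Groth.Agent.H6.Depth.idealDepth_eq_iInf]
    refine le_iInf₂ fun q hq => ?_
    haveI := q.2
    exact (h0 q hq).trans (fibre_depth_le A B q.asIdeal E0)
  have hE1 : 1 ≤ LocCoh.idealDepth J E1 := by
    rw [Groth.Agent.H6.Depth.idealDepth_eq_iInf]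
    refine le_iInf₂ fun q hq => ?_
    haveI := q.2
    exact (h1 q hq).trans (fibre_depth_le A B q.asIdeal E1)
  have hker := Groth.Agent.H6.Depth.two_le_idealDepth_ker J u hE0 hE1
  let g : F →ₗ[B] LinearMap.ker u :=
    f.codRestrict (LinearMap.ker u) (fun x => LinearMap.mem_ker.mpr ((hfu (f x)).mpr ⟨x, rfl⟩))
  have hg : Bijective g := by
    constructor
    · intro x y hxy
      apply hf
      exact congrArg Subtype.val hxy
    · rintro ⟨y, hy⟩
      obtain ⟨x, rfl⟩ := (hfu y).mp (LinearMap.mem_ker.mp hy)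
      exact ⟨x, rfl⟩
  rw [Groth.Agent.H6.HomKer.idealDepth_congr J (LinearEquiv.ofBijective g hg)]
  exact hker

theorem S18722 (A B : Type u) [CommRing A] [CommRing B]
    [IsNoetherianRing A] [IsNoetherianRing B] [Algebra A B] [Module.Flat A B] (J : Ideal B)
    (hZ1 : ∀ q : PrimeSpectrum B, J ≤ q.asIdeal →
      1 ≤ LocCoh.idealDepth (q.asIdeal.map (algebraMap B (EGA4.FibLocRing A B q.asIdeal))) (EGA4.FibLocRing A B q.asIdeal))
    (F : Type u) [AddCommGroup F] [Module B F] [Module.Finite B F] :
    ((∀ q : PrimeSpectrum B, ¬ J ≤ q.asIdeal →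
        Module.IsReflexive (Localization.AtPrime q.asIdeal) (LocalizedModule q.asIdeal.primeCompl F)) →
      2 ≤ LocCoh.idealDepth J F → Module.IsReflexive B F) ∧
    (Module.IsReflexive B F →
      (∀ q : PrimeSpectrum B, J ≤ q.asIdeal →
        2 ≤ LocCoh.idealDepth (q.asIdeal.map (algebraMap B (EGA4.FibLocRing A B q.asIdeal))) (EGA4.FibLocRing A B q.asIdeal)) →
      2 ≤ LocCoh.idealDepth J F) := by
  refine ⟨fun hU hG => ?_, fun hR hZ2 => ?_⟩
  · have hA : 1 ≤ LocCoh.idealDepth J B := by
      rw [Groth.Agent.H6.Depth.idealDepth_eq_iInf]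
      refine le_iInf₂ fun q hq => ?_
      haveI := q.2
      exact (hZ1 q hq).trans (fibre_depth_le_self A B q.asIdeal)
    exact Groth.Agent.H6.Refl.isReflexive_of_depth J hA F hU hG
  · have hA : 2 ≤ LocCoh.idealDepth J B := by
      rw [Groth.Agent.H6.Depth.idealDepth_eq_iInf]
      refine le_iInf₂ fun q hq => ?_
      haveI := q.2
      exact (hZ2 q hq).trans (fibre_depth_le_self A B q.asIdeal)
    haveI : IsNoetherian B (Module.Dual B F) := isNoetherian_linearMap B B F
    haveI : Module.Finite B (Module.Dual B F) := Module.IsNoetherian.finite B _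
    have h2 := (Groth.Agent.H6.HomKer.idealDepth_hom J (Module.Dual B F) B).2 hA
    rw [Groth.Agent.H6.HomKer.idealDepth_congr J (Module.evalEquiv B F)]
    exact h2

end Thms

end Groth.Agent.H4.FD5
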