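import Mathlib
import Groth.Agent.H4.FD4
import Groth.Agent.H4.FD5
import Groth.Agent.Lib.Helper6.SkLoc
import Groth.Agent.Lib.Helper1.FlatLocusNoeth

set_option autoImplicit false
universe u
open TensorProduct Function

namespace Groth.Agent.H4.FD6

open Groth.Agent.H4.FD1 Groth.Agent.H4.FD2 Groth.Agent.H4.FD3 Groth.Agent.H4.FD5

section Double

variable (A B : Type u) [CommRing A] [CommRing B] [Algebra A B]
  (q : Ideal B) [q.IsPrime]
  (G : Type u) [AddCommGroup G] [Module B G] [Module A G] [IsScalarTower A B G]
  (Q : Ideal (Localization.AtPrime q)) [Q.IsPrime]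

/-- the double localization is the localization at the contracted prime -/
theorem nonempty_double_equiv :
    Nonempty (LocalizedModule (Q.comap (algebraMap B (Localization.AtPrime q))).primeCompl G ≃ₗ[B]
      LocalizedModule Q.primeCompl (LocalizedModule q.primeCompl G)) := by
  set q'' := Q.comap (algebraMap B (Localization.AtPrime q)) with hq''
  have hb1 : IsBaseChange (Localization.AtPrime q) (LocalizedModule.mkLinearMap q.primeCompl G) :=
    IsLocalizedModule.isBaseChange q.primeCompl _ _
  have hb2 : IsBaseChange (Localization.AtPrime Q)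
      (LocalizedModule.mkLinearMap Q.primeCompl (LocalizedModule q.primeCompl G)) :=
    IsLocalizedModule.isBaseChange Q.primeCompl _ _
  have hb := hb1.comp hb2
  haveI : IsLocalization q''.primeCompl (Localization.AtPrime Q) :=
    IsLocalization.isLocalization_atPrime_localization_atPrime q.primeCompl Q
  haveI := (isLocalizedModule_iff_isBaseChange q''.primeCompl (Localization.AtPrime Q) _).mpr hb
  exact ⟨IsLocalizedModule.linearEquiv q''.primeCompl (LocalizedModule.mkLinearMap q''.primeCompl G)
    (((LocalizedModule.mkLinearMap Q.primeCompl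
      (LocalizedModule q.primeCompl G)).restrictScalars B).comp
        (LocalizedModule.mkLinearMap q.primeCompl G))⟩

theorem flat_double
    (h : Module.Flat A (LocalizedModule (Q.comap (algebraMap B (Localization.AtPrime q))).primeCompl G)) :
    Module.Flat A (LocalizedModule Q.primeCompl (LocalizedModule q.primeCompl G)) := by
  obtain ⟨e⟩ := nonempty_double_equiv B q G Q
  exact Module.Flat.of_linearEquiv (e.restrictScalars A).symm

end Double

section Wrap

variable (A B : Type u) [CommRing A] [CommRing B] [Algebra A B] [IsNoetherianRing A]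
  [IsNoetherianRing B] (q : Ideal B) [q.IsPrime] (J : Ideal B)

theorem local_flat_iff
    (F E0 E1 G : Type u) [AddCommGroup F] [Module B F] [Module A F] [IsScalarTower A B F] [Module.Finite B F]
    [AddCommGroup E0] [Module B E0] [Module A E0] [IsScalarTower A B E0] [Module.Finite B E0] [Module.Flat A E0]
    [AddCommGroup E1] [Module B E1] [Module A E1] [IsScalarTower A B E1] [Module.Finite B E1] [Module.Flat A E1]
    [AddCommGroup G] [Module B G] [Module A G] [IsScalarTower A B G] [Module.Finite B G]
    (f : F →ₗ[B] E0) (u : E0 →ₗ[B] E1) (v : E1 →ₗ[B] G)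
    (hf : Function.Injective f) (hfu : Function.Exact f u) (huv : Function.Exact u v) (hv : Function.Surjective v)
    (hGU : ∀ q : PrimeSpectrum B, ¬ J ≤ q.asIdeal → FlatCA.FlatAt A q.asIdeal G)
    (h0 : 2 ≤ LocCoh.idealDepth (J.map (algebraMap B (Localization.AtPrime q))) (EGA4.FibLocMod A B q E0))
    (h1 : 1 ≤ LocCoh.idealDepth (J.map (algebraMap B (Localization.AtPrime q))) (EGA4.FibLocMod A B q E1)) :
    2 ≤ LocCoh.idealDepth (J.map (algebraMap B (Localization.AtPrime q))) (EGA4.FibLocMod A B q F) ↔
      FlatCA.FlatAt A q G := by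
  set p := q.comap (algebraMap A B) with hp
  haveI : q.LiesOver p := ⟨rfl⟩
  letI : Algebra (Localization.AtPrime p) (Localization.AtPrime q) :=
    Localization.AtPrime.algebraOfLiesOver p q
  haveI : IsLocalHom (algebraMap (Localization.AtPrime p) (Localization.AtPrime q)) := by
    rw [RingHom.algebraMap_toAlgebra]
    exact Localization.isLocalHom_localRingHom p q (algebraMap A B) Ideal.LiesOver.over
  haveI : IsNoetherianRing (Localization.AtPrime p) :=
    IsLocalization.isNoetherianRing p.primeCompl _ inferInstance
  haveI : IsNoetherianRing (Localization.AtPrime q) :=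
    IsLocalization.isNoetherianRing q.primeCompl _ inferInstance
  -- module structures
  letI mF : Module (Localization.AtPrime p) (LocalizedModule q.primeCompl F) :=
    Module.compHom _ (algebraMap (Localization.AtPrime p) (Localization.AtPrime q))
  letI mE0 : Module (Localization.AtPrime p) (LocalizedModule q.primeCompl E0) :=
    Module.compHom _ (algebraMap (Localization.AtPrime p) (Localization.AtPrime q))
  letI mE1 : Module (Localization.AtPrime p) (LocalizedModule q.primeCompl E1) :=
    Module.compHom _ (algebraMap (Localization.AtPrime p) (Localization.AtPrime q))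
  letI mG : Module (Localization.AtPrime p) (LocalizedModule q.primeCompl G) :=
    Module.compHom _ (algebraMap (Localization.AtPrime p) (Localization.AtPrime q))
  haveI tF : IsScalarTower (Localization.AtPrime p) (Localization.AtPrime q)
      (LocalizedModule q.primeCompl F) := IsScalarTower.of_algebraMap_smul fun _ _ => rfl
  haveI tE0 : IsScalarTower (Localization.AtPrime p) (Localization.AtPrime q)
      (LocalizedModule q.primeCompl E0) := IsScalarTower.of_algebraMap_smul fun _ _ => rfl
  haveI tE1 : IsScalarTower (Localization.AtPrime p) (Localization.AtPrime q)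
      (LocalizedModule q.primeCompl E1) := IsScalarTower.of_algebraMap_smul fun _ _ => rfl
  haveI tG : IsScalarTower (Localization.AtPrime p) (Localization.AtPrime q)
      (LocalizedModule q.primeCompl G) := IsScalarTower.of_algebraMap_smul fun _ _ => rfl
  have hsm : ∀ (a : A), algebraMap (Localization.AtPrime p) (Localization.AtPrime q)
      (algebraMap A (Localization.AtPrime p) a) = algebraMap A (Localization.AtPrime q) a := by
    intro a
    rw [← IsScalarTower.algebraMap_apply A (Localization.AtPrime p) (Localization.AtPrime q)]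
  haveI sF : IsScalarTower A (Localization.AtPrime p) (LocalizedModule q.primeCompl F) :=
    IsScalarTower.of_algebraMap_smul fun a x => by
      change algebraMap (Localization.AtPrime p) (Localization.AtPrime q)
        (algebraMap A (Localization.AtPrime p) a) • x = a • x
      rw [hsm, algebraMap_smul]
  haveI sE0 : IsScalarTower A (Localization.AtPrime p) (LocalizedModule q.primeCompl E0) :=
    IsScalarTower.of_algebraMap_smul fun a x => by
      change algebraMap (Localization.AtPrime p) (Localization.AtPrime q)
        (algebraMap A (Localization.AtPrime p) a) • x = a • x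
      rw [hsm, algebraMap_smul]
  haveI sE1 : IsScalarTower A (Localization.AtPrime p) (LocalizedModule q.primeCompl E1) :=
    IsScalarTower.of_algebraMap_smul fun a x => by
      change algebraMap (Localization.AtPrime p) (Localization.AtPrime q)
        (algebraMap A (Localization.AtPrime p) a) • x = a • x
      rw [hsm, algebraMap_smul]
  haveI sG : IsScalarTower A (Localization.AtPrime p) (LocalizedModule q.primeCompl G) :=
    IsScalarTower.of_algebraMap_smul fun a x => by
      change algebraMap (Localization.AtPrime p) (Localization.AtPrime q)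
        (algebraMap A (Localization.AtPrime p) a) • x = a • x
      rw [hsm, algebraMap_smul]
  -- flatness
  haveI : Module.Flat A (LocalizedModule q.primeCompl E0) :=
    Groth.Agent.H1.FibreFree.flat_localizedModule_of_flat q.primeCompl
  haveI : Module.Flat A (LocalizedModule q.primeCompl E1) :=
    Groth.Agent.H1.FibreFree.flat_localizedModule_of_flat q.primeCompl
  haveI fE0 : Module.Flat (Localization.AtPrime p) (LocalizedModule q.primeCompl E0) :=
    (Module.flat_iff_of_isLocalization (Localization.AtPrime p) p.primeCompl
      (LocalizedModule q.primeCompl E0)).mpr inferInstance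
  haveI fE1 : Module.Flat (Localization.AtPrime p) (LocalizedModule q.primeCompl E1) :=
    (Module.flat_iff_of_isLocalization (Localization.AtPrime p) p.primeCompl
      (LocalizedModule q.primeCompl E1)).mpr inferInstance
  -- the localized maps
  let f' : LocalizedModule q.primeCompl F →ₗ[Localization.AtPrime q] LocalizedModule q.primeCompl E0 :=
    (IsLocalizedModule.map q.primeCompl (LocalizedModule.mkLinearMap q.primeCompl F)
      (LocalizedModule.mkLinearMap q.primeCompl E0) f).extendScalarsOfIsLocalization q.primeCompl _
  let u' : LocalizedModule q.primeCompl E0 →ₗ[Localization.AtPrime q] LocalizedModule q.primeCompl E1 :=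
    (IsLocalizedModule.map q.primeCompl (LocalizedModule.mkLinearMap q.primeCompl E0)
      (LocalizedModule.mkLinearMap q.primeCompl E1) u).extendScalarsOfIsLocalization q.primeCompl _
  let v' : LocalizedModule q.primeCompl E1 →ₗ[Localization.AtPrime q] LocalizedModule q.primeCompl G :=
    (IsLocalizedModule.map q.primeCompl (LocalizedModule.mkLinearMap q.primeCompl E1)
      (LocalizedModule.mkLinearMap q.primeCompl G) v).extendScalarsOfIsLocalization q.primeCompl _
  have hf' : Injective f' := IsLocalizedModule.map_injective q.primeCompl _ _ f hf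
  have hfu' : Exact f' u' := IsLocalizedModule.map_exact q.primeCompl _ _ _ f u hfu
  have huv' : Exact u' v' := IsLocalizedModule.map_exact q.primeCompl _ _ _ u v huv
  have hv' : Surjective v' := IsLocalizedModule.map_surjective q.primeCompl _ _ v hv
  -- flatness off `V(J B_q)`
  have hGU' : ∀ Q : PrimeSpectrum (Localization.AtPrime q),
      ¬ J.map (algebraMap B (Localization.AtPrime q)) ≤ Q.asIdeal →
      FlatCA.FlatAt (Localization.AtPrime p) Q.asIdeal (LocalizedModule q.primeCompl G) := by
    intro Q hQ
    haveI := Q.2
    unfold FlatCA.FlatAt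
    have hq'' : ¬ J ≤ Q.asIdeal.comap (algebraMap B (Localization.AtPrime q)) := by
      intro h
      exact hQ (Ideal.map_le_iff_le_comap.mpr h)
    have h1 : Module.Flat A (LocalizedModule Q.asIdeal.primeCompl (LocalizedModule q.primeCompl G)) :=
      flat_double A B q G Q.asIdeal
        (hGU ⟨Q.asIdeal.comap (algebraMap B (Localization.AtPrime q)), inferInstance⟩ hq'')
    exact (Module.flat_iff_of_isLocalization (Localization.AtPrime p) p.primeCompl _).mpr h1
  -- the fibres
  have hI : EGA4.mB (Localization.AtPrime p) (Localization.AtPrime q) =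
      p.map (algebraMap A (Localization.AtPrime q)) := by
    unfold EGA4.mB
    rw [← Localization.AtPrime.map_eq_maximalIdeal, Ideal.map_map,
      ← IsScalarTower.algebraMap_eq]
  have hcongr : ∀ (X : Type u) [AddCommGroup X] [Module B X],
      LocCoh.idealDepth (J.map (algebraMap B (Localization.AtPrime q)))
        (EGA4.FibMod (Localization.AtPrime p) (Localization.AtPrime q) (LocalizedModule q.primeCompl X)) =
      LocCoh.idealDepth (J.map (algebraMap B (Localization.AtPrime q))) (EGA4.FibLocMod A B q X) := by
    intro X _ _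
    exact Groth.Agent.H6.HomKer.idealDepth_congr _ (Submodule.quotEquivOfEq _ _ (by rw [hI]))
  haveI : Module.Finite (Localization.AtPrime q) (LocalizedModule q.primeCompl F) :=
    Module.Finite.of_isLocalizedModule q.primeCompl (LocalizedModule.mkLinearMap q.primeCompl F)
  haveI : Module.Finite (Localization.AtPrime q) (LocalizedModule q.primeCompl E0) :=
    Module.Finite.of_isLocalizedModule q.primeCompl (LocalizedModule.mkLinearMap q.primeCompl E0)
  haveI : Module.Finite (Localization.AtPrime q) (LocalizedModule q.primeCompl E1) :=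
    Module.Finite.of_isLocalizedModule q.primeCompl (LocalizedModule.mkLinearMap q.primeCompl E1)
  haveI : Module.Finite (Localization.AtPrime q) (LocalizedModule q.primeCompl G) :=
    Module.Finite.of_isLocalizedModule q.primeCompl (LocalizedModule.mkLinearMap q.primeCompl G)
  have key := (S18708 (Localization.AtPrime p) (Localization.AtPrime q)
    (J.map (algebraMap B (Localization.AtPrime q)))
    (LocalizedModule q.primeCompl F) (LocalizedModule q.primeCompl E0)
    (LocalizedModule q.primeCompl E1) (LocalizedModule q.primeCompl G) f' u' v' hf' hfu' huv' hv'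
    hGU' (by rw [hcongr]; exact h0) (by rw [hcongr]; exact h1)).1
  rw [hcongr] at key
  rw [key]
  exact Module.flat_iff_of_isLocalization (Localization.AtPrime p) p.primeCompl _

end Wrap

section PW

variable (A B : Type u) [CommRing A] [CommRing B] [Algebra A B] [IsNoetherianRing B]
  (q : Ideal B) [q.IsPrime] (J : Ideal B)
  (X : Type u) [AddCommGroup X] [Module B X] [Module.Finite B X]

/-- from the `J`-depth to the depth at the closed point of the fibre -/
theorem idealDepth_map_le (hJ : J ≤ q) :
    LocCoh.idealDepth (J.map (algebraMap B (Localization.AtPrime q))) (EGA4.FibLocMod A B q X) ≤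
      LocCoh.idealDepth (q.map (algebraMap B (EGA4.FibLocRing A B q))) (EGA4.FibLocMod A B q X) := by
  rw [map_fibLocRing_eq]
  have h1 := (Groth.Agent.H6.FibLoc.depth_and_dim_eq A B q X).1
  unfold LocCoh.depth at h1
  rw [h1]
  apply Groth.Agent.H6.Depth.idealDepth_mono
  rw [← Localization.AtPrime.map_eq_maximalIdeal]
  exact Ideal.map_mono hJ

/-- localization of the fibre quotient -/
noncomputable def fibQuotEquiv (I : Ideal B) :
    LocalizedModule q.primeCompl (X ⧸ (I • ⊤ : Submodule B X)) ≃ₗ[Localization.AtPrime q]
      (LocalizedModule q.primeCompl X ⧸ I.map (algebraMap B (Localization.AtPrime q)) •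
        (⊤ : Submodule (Localization.AtPrime q) (LocalizedModule q.primeCompl X))) :=
  (localizedQuotientEquiv _ _).symm ≪≫ₗ
    Submodule.quotEquivOfEq _ _ (by rw [Submodule.localized,
      Submodule.localized'_smul, Ideal.localized'_eq_map, Submodule.localized'_top])

theorem depth_eq_top_of_subsingleton' {R : Type u} [CommRing R] [IsLocalRing R] (Y : Type u)
    [AddCommGroup Y] [Module R Y] [Subsingleton Y] : LocCoh.depth R Y = ⊤ := by
  unfold LocCoh.depth LocCoh.idealDepth
  rw [if_pos (Subsingleton.elim _ _)]

/-- pointwise fibre depth gives `J`-depth of the fibre at `q` -/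
theorem le_idealDepth_map_of_pointwise [IsNoetherianRing A] (k : ℕ)
    (h : ∀ q'' : PrimeSpectrum B, q''.asIdeal ≤ q → J ≤ q''.asIdeal →
      (k : ℕ∞) ≤ LocCoh.idealDepth (q''.asIdeal.map (algebraMap B (EGA4.FibLocRing A B q''.asIdeal)))
        (EGA4.FibLocMod A B q''.asIdeal X)) :
    (k : ℕ∞) ≤ LocCoh.idealDepth (J.map (algebraMap B (Localization.AtPrime q)))
      (EGA4.FibLocMod A B q X) := by
  haveI : IsNoetherianRing (Localization.AtPrime q) :=
    IsLocalization.isNoetherianRing q.primeCompl _ inferInstance
  haveI : Module.Finite (Localization.AtPrime q) (LocalizedModule q.primeCompl X) :=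
    Module.Finite.of_isLocalizedModule q.primeCompl (LocalizedModule.mkLinearMap q.primeCompl X)
  set p := q.comap (algebraMap A B) with hp
  set I : Ideal B := p.map (algebraMap A B) with hI
  let W := X ⧸ (I • ⊤ : Submodule B X)
  have hIeq : I.map (algebraMap B (Localization.AtPrime q)) =
      p.map (algebraMap A (Localization.AtPrime q)) := by
    rw [hI, Ideal.map_map, ← IsScalarTower.algebraMap_eq]
  let e : LocalizedModule q.primeCompl W ≃ₗ[Localization.AtPrime q] EGA4.FibLocMod A B q X :=
    (fibQuotEquiv B q X I).trans (Submodule.quotEquivOfEq _ _ (by rw [hIeq]))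
  rw [Groth.Agent.H6.Depth.idealDepth_eq_iInf]
  refine le_iInf₂ fun Q hQ => ?_
  haveI := Q.2
  haveI : Module.Finite (Localization.AtPrime q) (LocalizedModule q.primeCompl W) :=
    Module.Finite.of_isLocalizedModule q.primeCompl (LocalizedModule.mkLinearMap q.primeCompl W)
  rw [← (Groth.Agent.H6.SkLoc.depth_and_dim_congr (LocalizedModule q.primeCompl W) e Q.asIdeal).1,
    (Groth.Agent.H6.SkLoc.depth_and_dim_double W q Q.asIdeal).1]
  set q'' := Q.asIdeal.comap (algebraMap B (Localization.AtPrime q)) with hq''
  have hq''q : q'' ≤ q := by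
    have h1 : Q.asIdeal ≤ IsLocalRing.maximalIdeal (Localization.AtPrime q) :=
      IsLocalRing.le_maximalIdeal Q.2.ne_top
    have h2 : Ideal.comap (algebraMap B (Localization.AtPrime q))
        (IsLocalRing.maximalIdeal (Localization.AtPrime q)) = q :=
      IsLocalization.AtPrime.under_maximalIdeal (Localization.AtPrime q) q
    rw [← h2]
    exact Ideal.comap_mono h1
  have hJq'' : J ≤ q'' := Ideal.map_le_iff_le_comap.mp hQ
  by_cases hIq : I ≤ q''
  · -- the fibre over the same prime
    have hpq : q''.comap (algebraMap A B) = p := by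
      apply le_antisymm
      · rw [hp]; exact Ideal.comap_mono hq''q
      · exact Ideal.map_le_iff_le_comap.mp hIq
    have hIeq2 : I.map (algebraMap B (Localization.AtPrime q'')) =
        (q''.comap (algebraMap A B)).map (algebraMap A (Localization.AtPrime q'')) := by
      rw [hpq, hI, Ideal.map_map, ← IsScalarTower.algebraMap_eq]
    let e2 : LocalizedModule q''.primeCompl W ≃ₗ[Localization.AtPrime q''] EGA4.FibLocMod A B q'' X :=
      (fibQuotEquiv B q'' X I).trans (Submodule.quotEquivOfEq _ _ (by rw [hIeq2]))
    have h3 := h ⟨q'', inferInstance⟩ hq''q hJq''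
    rw [map_fibLocRing_eq] at h3
    have h4 := (Groth.Agent.H6.FibLoc.depth_and_dim_eq A B q'' X).1
    unfold LocCoh.depth at h4 ⊢
    rw [h4, ← Groth.Agent.H6.HomKer.idealDepth_congr _ e2] at h3
    exact h3
  · -- the localization vanishes
    obtain ⟨b, hbI, hbq⟩ := SetLike.not_le_iff_exists.mp hIq
    haveI : Subsingleton (LocalizedModule q''.primeCompl W) := by
      rw [LocalizedModule.subsingleton_iff]
      intro w
      refine ⟨b, hbq, ?_⟩
      obtain ⟨x, rfl⟩ := Submodule.Quotient.mk_surjective _ w
      rw [← Submodule.Quotient.mk_smul, Submodule.Quotient.mk_eq_zero]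
      exact Submodule.smul_mem_smul hbI Submodule.mem_top
    rw [depth_eq_top_of_subsingleton']
    exact le_top

end PW

section S18725

theorem S18725 (A B : Type u) [CommRing A] [CommRing B]
    [IsNoetherianRing A] [IsNoetherianRing B] [Algebra A B] (hft : Algebra.FiniteType A B) (J : Ideal B)
    (F E0 E1 G : Type u) [AddCommGroup F] [Module B F] [Module A F] [IsScalarTower A B F] [Module.Finite B F]
    [AddCommGroup E0] [Module B E0] [Module A E0] [IsScalarTower A B E0] [Module.Finite B E0] [Module.Flat A E0]
    [AddCommGroup E1] [Module B E1] [Module A E1] [IsScalarTower A B E1] [Module.Finite B E1] [Module.Flat A E1]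
    [AddCommGroup G] [Module B G] [Module A G] [IsScalarTower A B G] [Module.Finite B G]
    (f : F →ₗ[B] E0) (u : E0 →ₗ[B] E1) (v : E1 →ₗ[B] G)
    (hf : Function.Injective f) (hfu : Function.Exact f u) (huv : Function.Exact u v) (hv : Function.Surjective v)
    (hGU : ∀ q : PrimeSpectrum B, ¬ J ≤ q.asIdeal → FlatCA.FlatAt A q.asIdeal G)
    (h0 : ∀ q : PrimeSpectrum B, J ≤ q.asIdeal →
      2 ≤ LocCoh.idealDepth (q.asIdeal.map (algebraMap B (EGA4.FibLocRing A B q.asIdeal))) (EGA4.FibLocMod A B q.asIdeal E0))
    (h1 : ∀ q : PrimeSpectrum B, J ≤ q.asIdeal →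
      1 ≤ LocCoh.idealDepth (q.asIdeal.map (algebraMap B (EGA4.FibLocRing A B q.asIdeal))) (EGA4.FibLocMod A B q.asIdeal E1))
    (n : PrimeSpectrum B) :
    FlatCA.FlatAt A n.asIdeal G ↔
      ∃ s : B, s ∉ n.asIdeal ∧ ∀ q : PrimeSpectrum B, s ∉ q.asIdeal →
        FlatCA.FlatAt A q.asIdeal F ∧
        (J ≤ q.asIdeal →
          2 ≤ LocCoh.idealDepth (q.asIdeal.map (algebraMap B (EGA4.FibLocRing A B q.asIdeal))) (EGA4.FibLocMod A B q.asIdeal F)) := by
  -- the `J`-depths of the fibres of `E0`, `E1` at every prime
  have h0J : ∀ q : PrimeSpectrum B, 2 ≤ LocCoh.idealDepth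
      (J.map (algebraMap B (Localization.AtPrime q.asIdeal))) (EGA4.FibLocMod A B q.asIdeal E0) := by
    intro q
    have := le_idealDepth_map_of_pointwise A B q.asIdeal J E0 2
      (fun q'' _ hJ => by exact_mod_cast h0 q'' hJ)
    exact_mod_cast this
  have h1J : ∀ q : PrimeSpectrum B, 1 ≤ LocCoh.idealDepth
      (J.map (algebraMap B (Localization.AtPrime q.asIdeal))) (EGA4.FibLocMod A B q.asIdeal E1) := by
    intro q
    have := le_idealDepth_map_of_pointwise A B q.asIdeal J E1 1
      (fun q'' _ hJ => by exact_mod_cast h1 q'' hJ)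
    exact_mod_cast this
  have hloc : ∀ q : PrimeSpectrum B, 2 ≤ LocCoh.idealDepth
      (J.map (algebraMap B (Localization.AtPrime q.asIdeal))) (EGA4.FibLocMod A B q.asIdeal F) ↔
      FlatCA.FlatAt A q.asIdeal G := fun q =>
    local_flat_iff A B q.asIdeal J F E0 E1 G f u v hf hfu huv hv hGU (h0J q) (h1J q)
  -- the image
  let Z := LinearMap.range u
  let u' : E0 →ₗ[B] Z := u.rangeRestrict
  let ι : Z →ₗ[B] E1 := Z.subtype
  have hu' : Surjective u' := u.surjective_rangeRestrict
  have hι : Injective ι := Submodule.injective_subtype _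
  have hfu' : Exact f u' := by
    intro y
    rw [← hfu y]
    constructor
    · intro h
      exact congrArg Subtype.val h
    · intro h
      exact Subtype.ext h
  have hιv : Exact ι v := by
    intro z
    rw [huv z]
    constructor
    · rintro ⟨y, rfl⟩
      exact ⟨⟨u y, ⟨y, rfl⟩⟩, rfl⟩
    · rintro ⟨⟨_, ⟨y, rfl⟩⟩, rfl⟩
      exact ⟨y, rfl⟩
  have hFflat : ∀ q : PrimeSpectrum B, FlatCA.FlatAt A q.asIdeal G → FlatCA.FlatAt A q.asIdeal F := by
    intro q hG
    haveI := q.2
    have hZ : FlatCA.FlatAt A q.asIdeal Z :=
      flatAt_ker ι v hι hιv hv q.asIdeal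
        (Groth.Agent.H1.FibreFree.flat_localizedModule_of_flat (A := A) (M := E1) q.asIdeal.primeCompl) hG
    exact flatAt_ker f u' hf hfu' hu' q.asIdeal
      (Groth.Agent.H1.FibreFree.flat_localizedModule_of_flat (A := A) (M := E0) q.asIdeal.primeCompl) hZ
  constructor
  · intro hn
    haveI := hft
    have hopen := Groth.Agent.H1.FlatLocus.isOpen_flatLocus_of_noetherian (A := A) (B := B) (M := G)
    obtain ⟨_, ⟨s, rfl⟩, hns, hsub⟩ :=
      PrimeSpectrum.isTopologicalBasis_basic_opens.exists_subset_of_mem_open
        (show n ∈ {q : PrimeSpectrum B | Module.Flat A (LocalizedModule q.asIdeal.primeCompl G)} from hn)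
        hopen
    refine ⟨s, hns, fun q hq => ?_⟩
    have hGq : FlatCA.FlatAt A q.asIdeal G := hsub hq
    refine ⟨hFflat q hGq, fun hJq => ?_⟩
    haveI := q.2
    exact ((hloc q).mpr hGq).trans (idealDepth_map_le A B q.asIdeal J F hJq)
  · rintro ⟨s, hsn, hs⟩
    by_cases hJn : J ≤ n.asIdeal
    · apply (hloc n).mp
      have := le_idealDepth_map_of_pointwise A B n.asIdeal J F 2
        (fun q'' hq''n hJ => by
          have hsq : s ∉ q''.asIdeal := fun h => hsn (hq''n h)
          exact_mod_cast (hs q'' hsq).2 hJ)
      exact_mod_cast this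
    · exact hGU n hJn

end S18725

end Groth.Agent.H4.FD6
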