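import Mathlib

set_option autoImplicit false
universe u
open CategoryTheory CategoryTheory.Limits

namespace Groth.Agent.H4.FFColim

variable {R : Type u} [CommRing R] {J : Type u} [SmallCategory J] [IsFiltered J]
  (G : J ⥤ ModuleCat.{u} R) (c : Cocone G) (hc : IsColimit c)

include hc in
/-- a map from a finite free module to a filtered colimit factors through a stage. -/
theorem exists_factor (F0 : ModuleCat.{u} R) [Module.Free R F0] [Module.Finite R F0]
    (φ : F0 ⟶ c.pt) : ∃ (j : J) (φj : F0 ⟶ G.obj j), φj ≫ c.ι.app j = φ := by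
  classical
  let b := Module.Free.chooseBasis R F0
  have key : ∀ S : Finset (Module.Free.ChooseBasisIndex R F0), ∃ j : J, ∀ k ∈ S,
      ∃ y : G.obj j, c.ι.app j y = φ (b k) := by
    intro S
    induction S using Finset.induction_on with
    | empty => exact ⟨IsFiltered.nonempty.some, fun k hk => absurd hk (Finset.notMem_empty k)⟩
    | insert k0 S _ ih =>
      obtain ⟨j, hj⟩ := ih
      obtain ⟨j0, y0, hy0⟩ := Concrete.isColimit_exists_rep G hc (φ (b k0))
      refine ⟨IsFiltered.max j j0, fun k hk => ?_⟩
      rcases Finset.mem_insert.1 hk with rfl | hk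
      · refine ⟨G.map (IsFiltered.rightToMax j j0) y0, ?_⟩
        rw [← hy0, ← c.w (IsFiltered.rightToMax j j0)]
        rfl
      · obtain ⟨y, hy⟩ := hj k hk
        refine ⟨G.map (IsFiltered.leftToMax j j0) y, ?_⟩
        rw [← hy, ← c.w (IsFiltered.leftToMax j j0)]
        rfl
  obtain ⟨j, hj⟩ := key Finset.univ
  choose y hy using fun k => hj k (Finset.mem_univ k)
  refine ⟨j, ModuleCat.ofHom (b.constr R y), ModuleCat.hom_ext (b.ext fun k => ?_)⟩
  change c.ι.app j (b.constr R y (b k)) = φ (b k)
  rw [Module.Basis.constr_basis, hy]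

include hc in
/-- a map from a finite free module to a stage which vanishes in the filtered colimit vanishes at a
later stage. -/
theorem exists_eq_zero (F0 : ModuleCat.{u} R) [Module.Free R F0] [Module.Finite R F0]
    (j : J) (ψ : F0 ⟶ G.obj j) (h : ψ ≫ c.ι.app j = 0) :
    ∃ (j' : J) (f : j ⟶ j'), ψ ≫ G.map f = 0 := by
  classical
  let b := Module.Free.chooseBasis R F0
  have key : ∀ S : Finset (Module.Free.ChooseBasisIndex R F0), ∃ (j' : J) (f : j ⟶ j'), ∀ k ∈ S,
      G.map f (ψ (b k)) = 0 := by
    intro S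
    induction S using Finset.induction_on with
    | empty => exact ⟨j, 𝟙 j, fun k hk => absurd hk (Finset.notMem_empty k)⟩
    | insert k0 S _ ih =>
      obtain ⟨j', f, hf⟩ := ih
      have h0 : c.ι.app j' (G.map f (ψ (b k0))) = c.ι.app j' (0 : G.obj j') := by
        rw [map_zero]
        have h1 : c.ι.app j' (G.map f (ψ (b k0))) = (ψ ≫ c.ι.app j) (b k0) := by
          rw [← c.w f]; rfl
        rw [h1, h]
        rfl
      obtain ⟨j'', g, g', hg⟩ := Concrete.isColimit_exists_of_rep_eq G hc _ _ h0
      rw [map_zero] at hg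
      refine ⟨j'', f ≫ g, fun k hk => ?_⟩
      rcases Finset.mem_insert.1 hk with rfl | hk
      · rw [G.map_comp]; exact hg
      · rw [G.map_comp]
        change G.map g (G.map f (ψ (b k))) = 0
        rw [hf k hk, map_zero]
  obtain ⟨j', f, hf⟩ := key Finset.univ
  refine ⟨j', f, ModuleCat.hom_ext (b.ext fun k => ?_)⟩
  exact hf k (Finset.mem_univ k)

end Groth.Agent.H4.FFColim
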