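import Mathlib
import Groth.Prelude.Def_PBC
set_option autoImplicit false
universe u
open CategoryTheory CategoryTheory.Limits
namespace Groth.Agent.H4.FGColim

section FG
variable (K B : Type u) [CommRing K] [CommRing B] [Algebra K B]

/-- finitely generated subalgebras -/
abbrev JFG := {S : Subalgebra K B // S.FG}

instance : Nonempty (JFG K B) := ⟨⟨⊥, Subalgebra.fg_bot⟩⟩

instance : IsDirected (JFG K B) (· ≤ ·) :=
  ⟨fun S T => ⟨⟨S.1 ⊔ T.1, S.2.sup T.2⟩, le_sup_left (a := S.1), le_sup_right (b := T.1)⟩⟩

noncomputable def D : JFG K B ⥤ Under (CommRingCat.of K) where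
  obj S := Under.mk (CommRingCat.ofHom (algebraMap K S.1))
  map {S T} f := Under.homMk (CommRingCat.ofHom (Subalgebra.inclusion (leOfHom f)).toRingHom) (by
    ext x; rfl)
  map_id S := by ext x; rfl
  map_comp f g := by ext x; rfl

noncomputable def cc : Cocone (D K B) where
  pt := Under.mk (CommRingCat.ofHom (algebraMap K B))
  ι :=
    { app := fun S => Under.homMk (CommRingCat.ofHom S.1.val.toRingHom) (by ext x; rfl)
      naturality := fun S T f => by ext x; rfl }


variable {K B}

/-- the singleton-generated stage -/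
noncomputable def sing (b : B) : JFG K B := ⟨Algebra.adjoin K {b}, by
  classical
  simpa using Subalgebra.fg_adjoin_finset (R := K) ({b} : Finset B)⟩

theorem mem_sing (b : B) : b ∈ (sing (K := K) b).1 := Algebra.subset_adjoin rfl

/-- value of the descended map -/
noncomputable def val (s : Cocone (D K B)) (b : B) : s.pt.right :=
  (s.ι.app (sing b)).right ⟨b, mem_sing b⟩

theorem val_eq (s : Cocone (D K B)) (S : JFG K B) (b : B) (hb : b ∈ S.1) :
    (s.ι.app S).right ⟨b, hb⟩ = val s b := by
  have hle : sing (K := K) b ≤ S := Algebra.adjoin_le (by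
    intro x hx
    rw [Set.mem_singleton_iff] at hx
    subst hx
    exact hb)
  have h1 : (D K B).map (homOfLE hle) ≫ s.ι.app S = s.ι.app (sing b) := s.w (homOfLE hle)
  have h2 : ((D K B).map (homOfLE hle)).right ≫ (s.ι.app S).right = (s.ι.app (sing b)).right := by
    rw [← Under.comp_right, h1]
  have h3 := congrArg (fun φ => φ.hom ⟨b, mem_sing b⟩) h2
  exact h3

/-- a stage containing two elements -/
noncomputable def pair (b b' : B) : JFG K B :=
  ⟨Algebra.adjoin K {b, b'}, by
    classical
    simpa using Subalgebra.fg_adjoin_finset (R := K) ({b, b'} : Finset B)⟩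

theorem mem_pair_left (b b' : B) : b ∈ (pair (K := K) b b').1 :=
  Algebra.subset_adjoin (by simp)

theorem mem_pair_right (b b' : B) : b' ∈ (pair (K := K) b b').1 :=
  Algebra.subset_adjoin (by simp)

noncomputable def φ (s : Cocone (D K B)) : B →+* s.pt.right where
  toFun := val s
  map_one' := by
    rw [← val_eq s (sing (1 : B)) 1 (sing (K := K) (1 : B)).1.one_mem]
    exact map_one (s.ι.app (sing (1 : B))).right.hom
  map_zero' := by
    rw [← val_eq s (sing (0 : B)) 0 (sing (K := K) (0 : B)).1.zero_mem]
    exact map_zero (s.ι.app (sing (0 : B))).right.hom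
  map_mul' b b' := by
    rw [← val_eq s (pair b b') b (mem_pair_left b b'),
      ← val_eq s (pair b b') b' (mem_pair_right b b'),
      ← val_eq s (pair b b') (b * b') ((pair (K := K) b b').1.mul_mem (mem_pair_left b b')
        (mem_pair_right b b'))]
    exact map_mul (s.ι.app (pair b b')).right.hom ⟨b, mem_pair_left b b'⟩ ⟨b', mem_pair_right b b'⟩
  map_add' b b' := by
    rw [← val_eq s (pair b b') b (mem_pair_left b b'),
      ← val_eq s (pair b b') b' (mem_pair_right b b'),
      ← val_eq s (pair b b') (b + b') ((pair (K := K) b b').1.add_mem (mem_pair_left b b')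
        (mem_pair_right b b'))]
    exact map_add (s.ι.app (pair b b')).right.hom ⟨b, mem_pair_left b b'⟩ ⟨b', mem_pair_right b b'⟩

theorem φ_algebraMap (s : Cocone (D K B)) (a : K) : φ s (algebraMap K B a) = s.pt.hom.hom a := by
  show val s (algebraMap K B a) = _
  rw [← val_eq s (sing (0 : B)) _ ((sing (K := K) (0 : B)).1.algebraMap_mem a)]
  have h1 : ((D K B).obj (sing (0 : B))).hom ≫ (s.ι.app (sing (0 : B))).right = s.pt.hom :=
    Under.w (s.ι.app (sing (0 : B)))
  exact congrArg (fun ψ => ψ.hom a) h1

noncomputable def isCol : IsColimit (cc K B) where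
  desc s := Under.homMk (CommRingCat.ofHom (φ s)) (by
    ext a
    exact φ_algebraMap s a)
  fac s S := by
    ext x
    exact (val_eq s S x.1 x.2).symm
  uniq s m hm := by
    apply Under.UnderMorphism.ext
    apply CommRingCat.hom_ext
    apply RingHom.ext
    intro (b : B)
    show m.right b = val s b
    have h1 : (cc K B).ι.app (sing b) ≫ m = s.ι.app (sing b) := hm (sing b)
    have h2 : ((cc K B).ι.app (sing b)).right ≫ m.right = (s.ι.app (sing b)).right := by
      rw [← Under.comp_right, h1]
    exact congrArg (fun ψ => ψ.hom ⟨b, mem_sing (K := K) b⟩) h2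

end FG

end Groth.Agent.H4.FGColim
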