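import Mathlib
import Groth.Agent.Lib.Helper3.GradTriv

/-! Pure algebra behind "free actions of diagonalisable groups have closed graph":
for a coaction `α : A → A[N]` (N a commutative group) which is free on points, the subring of `A[N]`
generated by `α(A)` and `A` is everything. (helper4) -/

set_option autoImplicit false
universe u

namespace Groth.Agent.H4.FGrA

open Groth.Agent.H3.GradTriv

variable {A : Type u} [CommRing A] {N : Type} [CommGroup N]

/-- homogeneous elements of degree `n` for the coaction `α`. -/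
def Hg (α : A →+* MonoidAlgebra A N) (n : N) : Set A := {a | α a = MonoidAlgebra.single n a}

theorem one_mem_Hg (α : A →+* MonoidAlgebra A N) : (1 : A) ∈ Hg α 1 := by
  change α 1 = MonoidAlgebra.single 1 1
  rw [map_one, MonoidAlgebra.one_def]

theorem mul_mem_Hg (α : A →+* MonoidAlgebra A N) {n m : N} {a b : A} (ha : a ∈ Hg α n)
    (hb : b ∈ Hg α m) : a * b ∈ Hg α (n * m) := by
  change α (a * b) = MonoidAlgebra.single (n * m) (a * b)
  have ha' : α a = MonoidAlgebra.single n a := ha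
  have hb' : α b = MonoidAlgebra.single m b := hb
  rw [map_mul, ha', hb', MonoidAlgebra.single_mul_single]

theorem coeff_mul_of_mem_Hg (α : A →+* MonoidAlgebra A N) {k : N} {a : A} (ha : a ∈ Hg α k)
    (b : A) (m : N) : (α (b * a)).coeff m = (α b).coeff (m * k⁻¹) * a := by
  have ha' : α a = MonoidAlgebra.single k a := ha
  rw [map_mul, ha', MonoidAlgebra.coeff_mul_single_apply]

section Main

variable [DecidableEq N] (α : A →+* MonoidAlgebra A N)
  (h1 : ∀ f, (α f).coeff.sum (fun _ c => c) = f)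
  (h3 : ∀ f n m, (α ((α f).coeff n)).coeff m = if n = m then (α f).coeff n else 0)
  (free : ∀ (C : Type u) [CommRing C] (ξ : A →+* C) (χ : N →* C),
    (MonoidAlgebra.liftNCRingHom ξ χ (fun _ _ => Commute.all _ _)).comp α = ξ → χ = 1)

include h3 in
theorem coeff_mem_Hg (f : A) (n : N) : (α f).coeff n ∈ Hg α n := by
  change α ((α f).coeff n) = MonoidAlgebra.single n ((α f).coeff n)
  apply MonoidAlgebra.ext
  ext m
  rw [h3, MonoidAlgebra.coeff_single, Finsupp.single_apply]

theorem lift_eq {C : Type u} [CommRing C] (ξ : A →+* C) (χ : N →* C) (x : MonoidAlgebra A N)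
    (hx : ∀ k, ξ (x.coeff k) * χ k = ξ (x.coeff k)) :
    MonoidAlgebra.liftNCRingHom ξ χ (fun _ _ => Commute.all _ _) x =
      ξ (x.coeff.sum fun _ c => c) := by
  have e1 : MonoidAlgebra.liftNCRingHom ξ χ (fun _ _ => Commute.all _ _) x =
      MonoidAlgebra.liftNCRingHom ξ χ (fun _ _ => Commute.all _ _)
        (x.coeff.sum MonoidAlgebra.single) := by
    rw [MonoidAlgebra.sum_coeff_single]
  rw [e1, map_finsuppSum, map_finsuppSum]
  refine Finsupp.sum_congr fun k _ => ?_
  rw [MonoidAlgebra.liftNCRingHom_single]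
  exact hx k

include h1 h3 free in
theorem span_Hg_eq_top (n : N) : Ideal.span (Hg α n) = ⊤ := by
  classical
  by_contra hne
  obtain ⟨𝔪, hmax, hle⟩ := Ideal.exists_le_maximal _ hne
  have hprime : 𝔪.IsPrime := hmax.isPrime
  have h1m : (1 : A) ∉ 𝔪 := (Ideal.ne_top_iff_one 𝔪).1 hprime.ne_top
  let Sg : Set N := {k | ∃ a ∈ Hg α k, a ∉ 𝔪}
  have hS1 : (1 : N) ∈ Sg := ⟨1, one_mem_Hg α, h1m⟩
  have hSmul : ∀ {k k' : N}, k ∈ Sg → k' ∈ Sg → k * k' ∈ Sg := by
    rintro k k' ⟨a, ha, ha'⟩ ⟨b, hb, hb'⟩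
    exact ⟨a * b, mul_mem_Hg α ha hb, fun h => (hprime.mem_or_mem h).elim ha' hb'⟩
  have hSnot : ∀ {k : N}, k ∉ Sg → ∀ a ∈ Hg α k, a ∈ 𝔪 := by
    intro k hk a ha
    by_contra h
    exact hk ⟨a, ha, h⟩
  have hn : n ∉ Sg := by
    rintro ⟨a, ha, ha'⟩
    exact ha' (hle (Ideal.subset_span ha))
  let H : Subgroup N :=
    { carrier := {k | k ∈ Sg ∧ k⁻¹ ∈ Sg}
      mul_mem' := fun {a b} ha hb => ⟨hSmul ha.1 hb.1, by rw [mul_inv]; exact hSmul ha.2 hb.2⟩
      one_mem' := ⟨hS1, by rw [inv_one]; exact hS1⟩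
      inv_mem' := fun {a} ha => ⟨ha.2, by rw [inv_inv]; exact ha.1⟩ }
  have hHmem : ∀ k, k ∈ H ↔ (k ∈ Sg ∧ k⁻¹ ∈ Sg) := fun k => Iff.rfl
  have hnH : n ∉ H := fun h => hn ((hHmem n).1 h).1
  let J : Ideal A := Ideal.span {a | ∃ k, k ∉ H ∧ a ∈ Hg α k}
  have hJ : ∀ x ∈ J, ∀ b : A, (α (b * x)).coeff 1 ∈ 𝔪 := by
    intro x hx
    refine Submodule.span_induction (p := fun x _ => ∀ b : A, (α (b * x)).coeff 1 ∈ 𝔪)
      ?_ ?_ ?_ ?_ hx
    · rintro a ⟨k, hk, ha⟩ b
      rw [coeff_mul_of_mem_Hg α ha, one_mul]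
      by_cases hkS : k ∈ Sg
      · have hk' : k⁻¹ ∉ Sg := fun h => hk ((hHmem k).2 ⟨hkS, h⟩)
        exact 𝔪.mul_mem_right _ (hSnot hk' _ (coeff_mem_Hg α h3 b k⁻¹))
      · exact 𝔪.mul_mem_left _ (hSnot hkS a ha)
    · intro b
      rw [mul_zero, map_zero]
      exact 𝔪.zero_mem
    · intro x y _ _ hx hy b
      rw [mul_add, map_add, MonoidAlgebra.coeff_add, Finsupp.add_apply]
      exact 𝔪.add_mem (hx b) (hy b)
    · intro c x _ hx b
      rw [smul_eq_mul, ← mul_assoc]
      exact hx (b * c)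
  have hJne : J ≠ ⊤ := by
    intro h
    have h2 := hJ 1 (h ▸ Submodule.mem_top) 1
    rw [mul_one, map_one α, MonoidAlgebra.coeff_one_one] at h2
    exact h1m h2
  haveI : Nontrivial (A ⧸ J) := Ideal.Quotient.nontrivial_iff.2 hJne
  let ξ : A →+* MonoidAlgebra (A ⧸ J) (N ⧸ H) :=
    (MonoidAlgebra.singleOneRingHom).comp (Ideal.Quotient.mk J)
  let χ : N →* MonoidAlgebra (A ⧸ J) (N ⧸ H) :=
    (MonoidAlgebra.of (A ⧸ J) (N ⧸ H)).comp (QuotientGroup.mk' H)
  have hfix : (MonoidAlgebra.liftNCRingHom ξ χ (fun _ _ => Commute.all _ _)).comp α = ξ := by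
    refine RingHom.ext fun f => ?_
    rw [RingHom.comp_apply, lift_eq ξ χ (α f), h1]
    intro k
    by_cases hk : k ∈ H
    · have : χ k = 1 := by
        change MonoidAlgebra.of (A ⧸ J) (N ⧸ H) (QuotientGroup.mk' H k) = 1
        rw [QuotientGroup.mk'_apply, (QuotientGroup.eq_one_iff k).2 hk, map_one]
      rw [this, mul_one]
    · have hmem : (α f).coeff k ∈ J := Ideal.subset_span ⟨k, hk, coeff_mem_Hg α h3 f k⟩
      have : ξ ((α f).coeff k) = 0 := by
        change MonoidAlgebra.singleOneRingHom (Ideal.Quotient.mk J ((α f).coeff k)) = 0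
        rw [Ideal.Quotient.eq_zero_iff_mem.2 hmem, map_zero]
      rw [this, zero_mul]
  have hχ := free _ ξ χ hfix
  have h2 : χ n = 1 := by rw [hχ]; rfl
  have h3' : MonoidAlgebra.of (A ⧸ J) (N ⧸ H) (QuotientGroup.mk' H n) =
      MonoidAlgebra.of (A ⧸ J) (N ⧸ H) 1 := by
    rw [map_one]
    exact h2
  have h4 := MonoidAlgebra.of_injective h3'
  exact hnH ((QuotientGroup.eq_one_iff n).1 h4)

include h1 h3 free in
/-- the subring generated by the image of the coaction and the constants is everything. -/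
theorem subring_eq_top (T : Subring (MonoidAlgebra A N)) (hα : ∀ a, α a ∈ T)
    (hι : ∀ a, MonoidAlgebra.single 1 a ∈ T) (q : MonoidAlgebra A N) : q ∈ T := by
  have key : ∀ n : N, ∀ x ∈ Ideal.span (Hg α n), MonoidAlgebra.single n x ∈ T := by
    intro n x hx
    refine Submodule.span_induction (p := fun x _ => MonoidAlgebra.single n x ∈ T) ?_ ?_ ?_ ?_ hx
    · intro a ha
      have ha' : α a = MonoidAlgebra.single n a := ha
      rw [← ha']
      exact hα a
    · rw [MonoidAlgebra.single_zero]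
      exact T.zero_mem
    · intro x y _ _ hx hy
      rw [MonoidAlgebra.single_add]
      exact T.add_mem hx hy
    · intro c x _ hx
      have : MonoidAlgebra.single n (c • x) =
          MonoidAlgebra.single 1 c * MonoidAlgebra.single n x := by
        rw [MonoidAlgebra.single_mul_single, one_mul, smul_eq_mul]
      rw [this]
      exact T.mul_mem (hι c) hx
  have hn : ∀ n : N, MonoidAlgebra.single n (1 : A) ∈ T := fun n =>
    key n 1 (by rw [span_Hg_eq_top α h1 h3 free n]; exact Submodule.mem_top)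
  induction q using MonoidAlgebra.induction_linear with
  | zero => exact T.zero_mem
  | add x y hx hy => exact T.add_mem hx hy
  | single k c =>
    have : MonoidAlgebra.single k c = MonoidAlgebra.single 1 c * MonoidAlgebra.single k 1 := by
      rw [MonoidAlgebra.single_mul_single, one_mul, mul_one]
    rw [this]
    exact T.mul_mem (hι c) (hn k)

end Main

/-- ring-hom form. -/
theorem subring_eq_top' (α : A →+* MonoidAlgebra A N)
    (h1 : (aug (A := A) (G := N)).comp α = RingHom.id A)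
    (h3 : (diagHom (A := A) (G := N)).comp α = (MonoidAlgebra.mapRingHom N α).comp α)
    (free : ∀ (C : Type u) [CommRing C] (ξ : A →+* C) (χ : N →* C),
      (MonoidAlgebra.liftNCRingHom ξ χ (fun _ _ => Commute.all _ _)).comp α = ξ → χ = 1)
    (T : Subring (MonoidAlgebra A N)) (hα : ∀ a, α a ∈ T)
    (hι : ∀ a, MonoidAlgebra.single 1 a ∈ T) (q : MonoidAlgebra A N) : q ∈ T := by
  classical
  refine subring_eq_top α ?_ ?_ free T hα hι q
  · intro f
    rw [← aug_apply]
    exact RingHom.congr_fun h1 f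
  · intro f n m
    have := RingHom.congr_fun h3 f
    simp only [RingHom.comp_apply] at this
    rw [← MonoidAlgebra.coeff_mapRingHom, ← this, coeff_diagHom]

end Groth.Agent.H4.FGrA
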