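import Groth.Agent.H4.GrpdLib2
import Mathlib.AlgebraicGeometry.Sites.Fpqc
import Mathlib.AlgebraicGeometry.Sites.Etale
import Mathlib.AlgebraicGeometry.Morphisms.Smooth

set_option autoImplicit false

namespace Groth.Agent.H4.GrpdLib

open CategoryTheory CategoryTheory.Limits AlgebraicGeometry Grpd MorphismProperty

universe u

section general

variable {P : MorphismProperty Scheme.{u}}

/-- `P` only depends on the pullback square -/
theorem iff_of_isPullback [P.RespectsIso] {X Y Z W W' : Scheme.{u}} {f : X ⟶ Z} {c : Y ⟶ Z}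
    {a : W ⟶ X} {b : W ⟶ Y} {a' : W' ⟶ X} {b' : W' ⟶ Y}
    (h : IsPullback a b f c) (h' : IsPullback a' b' f c) : P b ↔ P b' := by
  have e : b = (h.isoIsPullback _ _ h').hom ≫ b' := by simp
  rw [e, P.cancel_left_of_respectsIso]

theorem iff_pullbackSnd_of_singleton {K : Precoverage Scheme.{u}} [P.IsLocalAtTarget K]
    {X Y V : Scheme.{u}} (f : X ⟶ Y) (h : V ⟶ Y) (hK : Presieve.singleton h ∈ K Y) :
    P f ↔ P (pullback.snd f h) := by
  refine ⟨fun hf => IsLocalAtTarget.pullbackSnd hK (Presieve.singleton.mk) hf, fun hf => ?_⟩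
  refine IsLocalAtTarget.of_forall_pullbackSnd hK ?_
  rintro U g _ ⟨⟩
  exact hf

theorem iff_restrict_of_cover {K : Precoverage Scheme.{u}} [P.IsLocalAtTarget K]
    {X Y X' Y' : Scheme.{u}} {f : X ⟶ Y} {g : Y' ⟶ Y} {f' : X' ⟶ Y'} {g' : X' ⟶ X}
    (sq : IsPullback g' f' f g) (V : Y.Opens) (O : Y'.Opens) (hle : O ≤ g ⁻¹ᵁ V)
    (hK : Presieve.singleton (g.resLE V O hle) ∈ K V) : P (f ∣_ V) ↔ P (f' ∣_ O) := by
  have s1 : P (f ∣_ V) ↔ P (pullback.snd f V.ι) :=
    iff_of_isPullback (isPullback_morphismRestrict f V).flip (IsPullback.of_hasPullback f V.ι)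
  have s2 := iff_pullbackSnd_of_singleton (P := P) (pullback.snd f V.ι) (g.resLE V O hle) hK
  have sqa := (IsPullback.of_hasPullback (pullback.snd f V.ι) (g.resLE V O hle)).paste_horiz
    (IsPullback.of_hasPullback f V.ι)
  rw [Scheme.Hom.resLE_comp_ι] at sqa
  have sqb := (isPullback_morphismRestrict f' O).flip.paste_horiz sq
  exact s1.trans (s2.trans (iff_of_isPullback sqa sqb))

/-- restriction of a covering morphism to opens is covering -/
theorem singleton_resLE_mem_precoverage (Q : MorphismProperty Scheme.{u})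
    [Q.IsStableUnderComposition] [Q.IsStableUnderBaseChange]
    (hQ : @IsOpenImmersion ≤ Q) {Y Y' : Scheme.{u}} (g : Y' ⟶ Y) (hg : Q g)
    (V : Y.Opens) (O : Y'.Opens) (hle : O ≤ g ⁻¹ᵁ V) (hsurj : (V : Set Y) ⊆ g '' (O : Set Y')) :
    Presieve.singleton (g.resLE V O hle) ∈ Scheme.precoverage Q V := by
  rw [Scheme.singleton_mem_precoverage_iff]
  refine ⟨?_, ?_⟩
  · intro v
    obtain ⟨o, ho, hov⟩ := hsurj v.2
    refine ⟨⟨o, ho⟩, ?_⟩
    apply V.ι.isOpenEmbedding.injective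
    change (g.resLE V O hle ≫ V.ι) ⟨o, ho⟩ = V.ι v
    rw [Scheme.Hom.resLE_comp_ι]
    exact hov
  · unfold Scheme.Hom.resLE
    apply Q.comp_mem
    · exact hQ _ inferInstance
    · exact Q.of_isPullback (isPullback_morphismRestrict g V).flip hg

end general

section grpd

variable {S : Scheme.{u}} (G : Grpd.GroupoidScheme S)

theorem isPullback_c_snd : IsPullback G.c (pullback.snd G.s G.t) G.s G.s := by
  refine IsPullback.of_iso_pullback ⟨c_s G⟩
    ⟨pullback.lift G.c (pullback.snd G.s G.t) (c_s G),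
      pullback.lift (comp G (pullback.fst G.s G.s) (pullback.snd G.s G.s ≫ G.i)
        (by rw [Category.assoc, G.i_t, pullback.condition])) (pullback.snd G.s G.s)
        (by rw [comp_s, Category.assoc, G.i_s]), ?_, ?_⟩ ?_ ?_
  · apply pullback.hom_ext
    · rw [Category.assoc, pullback.lift_fst, precomp_comp, Category.id_comp]
      rw [comp_congr G _ (pullback.lift_fst _ _ _)
        (by rw [← Category.assoc, pullback.lift_snd])]
      rw [comp_congr G _ (c_eq_comp G) rfl]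
      exact comp_comp_i G _ _ pullback.condition
    · rw [Category.assoc, pullback.lift_snd, pullback.lift_snd, Category.id_comp]
  · apply pullback.hom_ext
    · rw [Category.assoc, pullback.lift_fst, Category.id_comp, c_eq_comp, precomp_comp]
      rw [comp_congr G _ (pullback.lift_fst _ _ _) (pullback.lift_snd _ _ _)]
      exact comp_i_comp' G _ _ pullback.condition
    · rw [Category.assoc, pullback.lift_snd, pullback.lift_snd, Category.id_comp]
  · exact pullback.lift_fst _ _ _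
  · exact pullback.lift_snd _ _ _

/-- invariance of the maximal open where a base-changed morphism has `P`: general form.
`f : X ⟶ U` is a morphism whose base changes along `s` and `t` are isomorphic over `R`. -/
theorem invariant_of_maximal (Q : MorphismProperty Scheme.{u})
    [Q.IsStableUnderComposition] [Q.IsStableUnderBaseChange]
    (hQ : @IsOpenImmersion ≤ Q) (hopen : ∀ {X Y : Scheme.{u}} (g : X ⟶ Y), Q g → IsOpenMap g)
    (P : MorphismProperty Scheme.{u}) [P.IsLocalAtTarget (Scheme.precoverage Q)]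
    (hs : Presieve.singleton G.s ∈ Scheme.precoverage Q G.U)
    (ht : Presieve.singleton G.t ∈ Scheme.precoverage Q G.U)
    {X X' : Scheme.{u}} (f : X ⟶ G.U) (f' : X' ⟶ G.R) (a b : X' ⟶ X)
    (sqs : IsPullback a f' f G.s) (sqt : IsPullback b f' f G.t)
    (W : G.U.Opens) (hW : P (f ∣_ W)) (hmax : ∀ W' : G.U.Opens, P (f ∣_ W') → W' ≤ W) :
    G.s ⁻¹ᵁ W = G.t ⁻¹ᵁ W := by
  rw [Scheme.singleton_mem_precoverage_iff] at hs ht
  obtain ⟨hs1, hs2⟩ := hs
  obtain ⟨ht1, ht2⟩ := ht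
  apply le_antisymm
  · -- `O = s⁻¹ W`
    have h1 : P (f' ∣_ (G.s ⁻¹ᵁ W)) :=
      (iff_restrict_of_cover sqs W (G.s ⁻¹ᵁ W) le_rfl
        (singleton_resLE_mem_precoverage Q hQ G.s hs2 W _ le_rfl (by
          intro w hw
          obtain ⟨r, rfl⟩ := hs1 w
          exact ⟨r, hw, rfl⟩))).mp hW
    let V : G.U.Opens := ⟨G.t '' (G.s ⁻¹ᵁ W : Set G.R), hopen G.t ht2 _ (G.s ⁻¹ᵁ W).2⟩
    have hle : G.s ⁻¹ᵁ W ≤ G.t ⁻¹ᵁ V := fun r hr => ⟨r, hr, rfl⟩
    have h2 : P (f ∣_ V) :=
      (iff_restrict_of_cover sqt V (G.s ⁻¹ᵁ W) hle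
        (singleton_resLE_mem_precoverage Q hQ G.t ht2 V _ hle (fun w hw => hw))).mpr h1
    have h3 := hmax V h2
    intro r hr
    exact h3 ⟨r, hr, rfl⟩
  · have h1 : P (f' ∣_ (G.t ⁻¹ᵁ W)) :=
      (iff_restrict_of_cover sqt W (G.t ⁻¹ᵁ W) le_rfl
        (singleton_resLE_mem_precoverage Q hQ G.t ht2 W _ le_rfl (by
          intro w hw
          obtain ⟨r, rfl⟩ := ht1 w
          exact ⟨r, hw, rfl⟩))).mp hW
    let V : G.U.Opens := ⟨G.s '' (G.t ⁻¹ᵁ W : Set G.R), hopen G.s hs2 _ (G.t ⁻¹ᵁ W).2⟩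
    have hle : G.t ⁻¹ᵁ W ≤ G.s ⁻¹ᵁ V := fun r hr => ⟨r, hr, rfl⟩
    have h2 : P (f ∣_ V) :=
      (iff_restrict_of_cover sqs V (G.t ⁻¹ᵁ W) hle
        (singleton_resLE_mem_precoverage Q hQ G.s hs2 V _ hle (fun w hw => hw))).mpr h1
    have h3 := hmax V h2
    intro r hr
    exact h3 ⟨r, hr, rfl⟩

end grpd

end Groth.Agent.H4.GrpdLib
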