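import Mathlib
import Groth.Agent.Lib.Helper3.RigidAct
import Groth.Agent.Lib.Helper3.FpqcLocal3
import Groth.Agent.H4.GrpdLib3
import Groth.Agent.H4.FGrA

/-! Free actions of diagonalisable groups on schemes affine over the base have closed graph
(local model). (helper4) -/

set_option autoImplicit false
universe u

open CategoryTheory MonoidalCategory CartesianMonoidalCategory MonObj GrpObj AlgebraicGeometry Limits
open Groth.Agent.H3.DSKit Groth.Agent.H3.RigidAct Groth.Agent.H3.GradTriv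

namespace Groth.Agent.H4.FGrB

local notation "RRep" => Groth.Agent.H3.RigidAct.Rep

section Cover

theorem closedImm_of_cover {P Q : Scheme.{u}} (f : P ⟶ Q) {I : Type*} (V : I → Scheme.{u})
    (j : ∀ i, V i ⟶ Q) (hcov : Presieve.ofArrows V j ∈ Scheme.fpqcPrecoverage Q)
    (h : ∀ i, ∃ (PV : Scheme.{u}) (fP : PV ⟶ P) (fV : PV ⟶ V i),
      IsPullback fP fV f (j i) ∧ IsClosedImmersion fV) :
    IsClosedImmersion f := by
  apply MorphismProperty.IsLocalAtTarget.of_forall_pullbackSnd (P := @IsClosedImmersion)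
    (K := Scheme.fpqcPrecoverage) hcov
  intro T g _ hg
  obtain ⟨i⟩ := hg
  obtain ⟨PV, fP, fV, hpb, hcl⟩ := h i
  exact (Groth.Agent.H4.GrpdLib.iff_of_isPullback (P := @IsClosedImmersion) hpb
    (IsPullback.of_hasPullback f (j i))).1 hcl

theorem closedImm_of_zariski_local {P Q : Scheme.{u}} (f : P ⟶ Q)
    (hloc : ∀ y : Q, ∃ (V PV : Scheme.{u}) (j : V ⟶ Q) (fP : PV ⟶ P) (fV : PV ⟶ V),
      IsOpenImmersion j ∧ y ∈ Set.range j ∧ IsPullback fP fV f j ∧ IsClosedImmersion fV) :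
    IsClosedImmersion f := by
  choose V PV j fP fV hj hy hpb hcl using hloc
  have hcov : Presieve.ofArrows V j ∈ Scheme.fpqcPrecoverage Q :=
    Scheme.zariskiPrecoverage_le_fpqcPrecoverage _
      ((Scheme.ofArrows_mem_precoverage_iff _).2 ⟨fun y => ⟨y, hy y⟩, hj⟩)
  exact closedImm_of_cover f V j hcov (fun y => ⟨PV y, fP y, fV y, hpb y, hcl y⟩)

end Cover

section Basic

variable {W : Scheme.{u}} {X : Over W} {U : X.left.Opens} (hU : IsAffineOpen U)

theorem exists_rep {C : CommRingCat.{u}} {s : Spec C ⟶ W} (y : Over.mk s ⟶ X)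
    (hy : ∀ c, y.left c ∈ U) : ∃ ξ : Γ(X.left, U) ⟶ C, RRep hU y ξ := by
  have hrange : Set.range y.left ⊆ Set.range hU.fromSpec := by
    rintro _ ⟨c, rfl⟩
    rw [hU.range_fromSpec]
    exact hy c
  let l : Spec C ⟶ Spec Γ(X.left, U) := IsOpenImmersion.lift hU.fromSpec y.left hrange
  have hl : l ≫ hU.fromSpec = y.left := IsOpenImmersion.lift_fac _ _ _
  refine ⟨Spec.preimage l, ?_⟩
  change _ = Spec.map (Spec.preimage l) ≫ hU.fromSpec
  rw [Spec.map_preimage, hl]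

/-- points of `X` over a test object lying over `V` land in the preimage of `V`. -/
theorem lands_of_hom (V : W.Opens) {T : Over W} (hT : ∀ t, T.hom t ∈ V) (x : T ⟶ X)
    (t : T.left) : x.left t ∈ X.hom ⁻¹ᵁ V := by
  change X.hom (x.left t) ∈ V
  rw [← Scheme.Hom.comp_apply, Over.w x]
  exact hT t

theorem s1_mem (V : W.Opens) (hU : IsAffineOpen (X.hom ⁻¹ᵁ V)) (M : Type) [AddCommGroup M]
    (c : Spec (C1 (X.hom ⁻¹ᵁ V) M)) : (s1 hU M) c ∈ V := by
  have h : hU.fromSpec ((Spec.map (ι1 M)) c) ∈ Set.range hU.fromSpec := ⟨_, rfl⟩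
  rw [hU.range_fromSpec] at h
  have e : (s1 hU M) c = X.hom (hU.fromSpec ((Spec.map (ι1 M)) c)) := by
    unfold s1
    simp only [Scheme.Hom.comp_apply]
  rw [e]
  exact h

end Basic

section Univ

variable {W : Scheme.{u}} {G X : Over W} [GrpObj G] {U : X.left.Opens} (hU : IsAffineOpen U)
  (M : Type) [AddCommGroup M] (e : Grp.mk G ≅ Grp.mk (Red.DS W M))
  (gu : Over.mk (s1 hU M) ⟶ G) (hgu : ∀ m, chC e gu m = MonoidAlgebra.single m 1)

include hgu in
/-- every point `(g, x)` with `x` landing in `U` comes from the universal family. -/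
theorem exists_factor {T : Over W} (g : T ⟶ G) (x : T ⟶ X) (hx : ∀ t, x.left t ∈ U) :
    ∃ ψ : T ⟶ Over.mk (s1 hU M), ψ ≫ x1 hU M = x ∧ ψ ≫ gu = g := by
  have hle : (⊤ : T.left.Opens) ≤ x.left ⁻¹ᵁ U := fun t _ => hx t
  let ξx : Γ(X.left, U) ⟶ Γ(T.left, ⊤) := x.left.appLE U ⊤ hle
  let χ : Multiplicative M →* Γ(T.left, ⊤) := chr (g ≫ eh e)
  have hlamR : ∀ (m : Multiplicative M) (a : Γ(X.left, U)),
      MonoidAlgebra.liftNCRingHom ξx.hom χ (fun _ _ => Commute.all _ _)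
        (MonoidAlgebra.single m a) = ξx.hom a * χ m :=
    fun m a => MonoidAlgebra.liftNCRingHom_single _ _ _ _ _
  let lam : C1 U M ⟶ Γ(T.left, ⊤) :=
    CommRingCat.ofHom (MonoidAlgebra.liftNCRingHom ξx.hom χ (fun _ _ => Commute.all _ _))
  have hlam : ι1 M ≫ lam = ξx := by
    refine CommRingCat.hom_ext (RingHom.ext fun a => ?_)
    exact (hlamR 1 a).trans (by rw [map_one, _root_.mul_one])
  have key : T.left.toSpecΓ ≫ Spec.map ξx ≫ hU.fromSpec = x.left :=
    toSpecΓ_appLE_fromSpec hU x.left hle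
  let ψ : T.left ⟶ Spec (C1 U M) := T.left.toSpecΓ ≫ Spec.map lam
  have hψx : ψ ≫ Spec.map (ι1 M) ≫ hU.fromSpec = x.left := by
    simp only [ψ, Category.assoc]
    rw [← Spec.map_comp_assoc, hlam, key]
  have hψ : ψ ≫ s1 hU M = T.hom := by
    change ψ ≫ Spec.map (ι1 M) ≫ hU.fromSpec ≫ X.hom = _
    rw [← Category.assoc, ← Category.assoc, Category.assoc ψ, hψx]
    exact Over.w x
  let Ψ : T ⟶ Over.mk (s1 hU M) := Over.homMk ψ hψ
  have hΨx : Ψ ≫ x1 hU M = x := Over.OverMorphism.ext hψx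
  have hΨg : Ψ ≫ gu = g := by
    have h1 : (Ψ ≫ gu) ≫ eh e = g ≫ eh e := by
      apply chr_injective
      refine MonoidHom.ext fun m => ?_
      rw [Category.assoc, chr_precomp]
      have hz : chr (gu ≫ eh e) m =
          (Scheme.ΓSpecIso (C1 U M)).inv.hom (MonoidAlgebra.single m 1) := by
        have := hgu m
        rw [chC_apply] at this
        have h5 := congrArg (Scheme.ΓSpecIso (C1 U M)).inv.hom this
        rw [← CommRingCat.comp_apply, Iso.hom_inv_id] at h5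
        exact h5
      rw [hz]
      change (ψ.appTop).hom _ = χ m
      simp only [ψ, Scheme.Hom.comp_appTop, CommRingCat.comp_apply]
      rw [← CommRingCat.comp_apply (Scheme.ΓSpecIso (C1 U M)).inv,
        ← Scheme.ΓSpecIso_inv_naturality, CommRingCat.comp_apply, Scheme.toSpecΓ_appTop,
        ← CommRingCat.comp_apply, Iso.inv_hom_id]
      exact (hlamR m 1).trans (by rw [map_one, _root_.one_mul])
    have h2 := congrArg (· ≫ ei e) h1
    simpa [Category.assoc, eh_ei] using h2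
  exact ⟨Ψ, hΨx, hΨg⟩

include hgu in
/-- uniqueness of the factorisation through the universal family, for affine test objects. -/
theorem factor_unique {C : CommRingCat.{u}} {s : Spec C ⟶ W}
    (ψ ψ' : Over.mk s ⟶ Over.mk (s1 hU M))
    (hx : ψ ≫ x1 hU M = ψ' ≫ x1 hU M) (hg : ψ ≫ gu = ψ' ≫ gu) : ψ = ψ' := by
  have hs : Spec.map (Spec.preimage ψ.left) ≫ s1 hU M = s := by
    rw [Spec.map_preimage]
    exact Over.w ψ
  have hs' : Spec.map (Spec.preimage ψ'.left) ≫ s1 hU M = s := by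
    rw [Spec.map_preimage]
    exact Over.w ψ'
  have hψ : bcHom (s1 hU M) s (Spec.preimage ψ.left) hs = ψ :=
    Over.OverMorphism.ext (Spec.map_preimage _)
  have hψ' : bcHom (s1 hU M) s (Spec.preimage ψ'.left) hs' = ψ' :=
    Over.OverMorphism.ext (Spec.map_preimage _)
  have r1 := Rep.bc hU (rep_x1 hU M) (Spec.preimage ψ.left) hs
  have r2 := Rep.bc hU (rep_x1 hU M) (Spec.preimage ψ'.left) hs'
  rw [hψ] at r1
  rw [hψ', ← hx] at r2
  have h1 : ι1 M ≫ Spec.preimage ψ.left = ι1 M ≫ Spec.preimage ψ'.left :=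
    Rep.unique hU r1 r2
  have h2 : ∀ m : Multiplicative M, (Spec.preimage ψ.left).hom (MonoidAlgebra.single m 1) =
      (Spec.preimage ψ'.left).hom (MonoidAlgebra.single m 1) := by
    intro m
    have a1 := chC_bcHom e (s1 hU M) s (Spec.preimage ψ.left) hs gu m
    have a2 := chC_bcHom e (s1 hU M) s (Spec.preimage ψ'.left) hs' gu m
    rw [hψ, hgu] at a1
    rw [hψ', ← hg, hgu] at a2
    exact a1.symm.trans a2
  have h3 : Spec.preimage ψ.left = Spec.preimage ψ'.left := by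
    refine CommRingCat.hom_ext (MonoidAlgebra.ringHom_ext (fun a => ?_) h2)
    exact congrArg (fun φ => φ.hom a) h1
  apply Over.OverMorphism.ext
  rw [← Spec.map_preimage ψ.left, h3, Spec.map_preimage]

variable (pa : PtAction G X)

include hgu in
theorem coact_counit (α : Γ(X.left, U) ⟶ C1 U M) (hα : RRep hU (pa.smul gu (x1 hU M)) α) :
    (aug (A := Γ(X.left, U)) (G := Multiplicative M)).comp α.hom = RingHom.id _ := by
  let ε : C1 U M ⟶ Γ(X.left, U) := CommRingCat.ofHom aug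
  let σ := bcHom (s1 hU M) (Spec.map ε ≫ s1 hU M) ε rfl
  have hsg : σ ≫ gu = 1 := by
    apply chC_injective e
    intro m
    rw [chC_bcHom, hgu, chC_one]
    exact aug_single m 1
  have e1 : σ ≫ pa.smul gu (x1 hU M) = σ ≫ x1 hU M := by
    rw [pa.comp_smul, hsg, pa.one_smul]
  have r1 := Rep.bc hU hα ε rfl
  have r2 := Rep.bc hU (rep_x1 hU M) ε rfl
  rw [e1] at r1
  have h3 : α ≫ ε = ι1 M ≫ ε := Rep.unique hU r1 r2
  have h4 : ι1 M ≫ ε = 𝟙 _ := by
    refine CommRingCat.hom_ext (RingHom.ext fun a => ?_)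
    exact aug_single 1 a
  rw [h4] at h3
  exact congrArg (fun φ => φ.hom) h3

include hgu in
theorem coact_coassoc (α : Γ(X.left, U) ⟶ C1 U M) (hα : RRep hU (pa.smul gu (x1 hU M)) α) :
    (diagHom (A := Γ(X.left, U)) (G := Multiplicative M)).comp α.hom =
      (MonoidAlgebra.mapRingHom (Multiplicative M) α.hom).comp α.hom := by
  let C2 : CommRingCat.{u} := CommRingCat.of
    (MonoidAlgebra (MonoidAlgebra Γ(X.left, U) (Multiplicative M)) (Multiplicative M))
  let r₂ : C1 U M ⟶ C2 := CommRingCat.ofHom MonoidAlgebra.singleOneRingHom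
  let d : C1 U M ⟶ C2 := CommRingCat.ofHom diagHom
  let φ : C1 U M ⟶ C2 := CommRingCat.ofHom (MonoidAlgebra.mapRingHom (Multiplicative M) α.hom)
  have hd : ι1 M ≫ d = ι1 M ≫ r₂ := by
    refine CommRingCat.hom_ext (RingHom.ext fun a => ?_)
    exact diagHom_single 1 a
  have hφ : ι1 M ≫ φ = α ≫ r₂ := by
    refine CommRingCat.hom_ext (RingHom.ext fun a => ?_)
    exact MonoidAlgebra.mapRingHom_single _ _ _
  let s2 : Spec C2 ⟶ W := Spec.map r₂ ≫ s1 hU M
  have hsD : Spec.map d ≫ s1 hU M = s2 := by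
    change Spec.map d ≫ Spec.map (ι1 M) ≫ _ = Spec.map r₂ ≫ Spec.map (ι1 M) ≫ _
    rw [← Spec.map_comp_assoc, ← Spec.map_comp_assoc, hd]
  have hsΦ : Spec.map φ ≫ s1 hU M = s2 := by
    change Spec.map φ ≫ Spec.map (ι1 M) ≫ _ = Spec.map r₂ ≫ s1 hU M
    rw [← Spec.map_comp_assoc, hφ, Spec.map_comp_assoc, Rep.hom hU hα]
  let Rr := bcHom (s1 hU M) s2 r₂ rfl
  let D := bcHom (s1 hU M) s2 d hsD
  let Φ := bcHom (s1 hU M) s2 φ hsΦ
  have hDx : D ≫ x1 hU M = Rr ≫ x1 hU M := by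
    have r1 := Rep.bc hU (rep_x1 hU M) d hsD
    rw [hd] at r1
    exact Rep.ext hU r1 (Rep.bc hU (rep_x1 hU M) r₂ rfl)
  have hΦx : Φ ≫ x1 hU M = Rr ≫ pa.smul gu (x1 hU M) := by
    have r1 := Rep.bc hU (rep_x1 hU M) φ hsΦ
    rw [hφ] at r1
    exact Rep.ext hU r1 (Rep.bc hU hα r₂ rfl)
  have hmul : D ≫ gu = (Φ ≫ gu) * (Rr ≫ gu) := by
    apply chC_injective e
    intro m
    rw [chC_mul, chC_bcHom, chC_bcHom, chC_bcHom, hgu]
    change diagHom (MonoidAlgebra.single m 1) =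
      MonoidAlgebra.mapRingHom (Multiplicative M) α.hom (MonoidAlgebra.single m 1) *
        MonoidAlgebra.single 1 (MonoidAlgebra.single m 1)
    rw [diagHom_single, MonoidAlgebra.mapRingHom_single, map_one,
      MonoidAlgebra.single_mul_single, _root_.mul_one, _root_.one_mul]
  have e1 : D ≫ pa.smul gu (x1 hU M) = Φ ≫ pa.smul gu (x1 hU M) := by
    rw [pa.comp_smul, hmul, hDx, pa.mul_smul, ← pa.comp_smul, ← hΦx, ← pa.comp_smul]
  have r1 := Rep.bc hU hα d hsD
  have r2 := Rep.bc hU hα φ hsΦ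
  rw [e1] at r1
  have h4 : α ≫ d = α ≫ φ := Rep.unique hU r1 r2
  exact congrArg (fun ψ => ψ.hom) h4

include hgu in
theorem coact_free (hfree : ∀ (T : Over W) (g : T ⟶ G) (x : T ⟶ X), pa.smul g x = x → g = 1)
    (α : Γ(X.left, U) ⟶ C1 U M) (hα : RRep hU (pa.smul gu (x1 hU M)) α) :
    ∀ (C : Type u) [CommRing C] (ξ : Γ(X.left, U) →+* C) (χ : Multiplicative M →* C),
      (MonoidAlgebra.liftNCRingHom ξ χ (fun _ _ => Commute.all _ _)).comp α.hom = ξ → χ = 1 := by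
  intro C _ ξ χ h
  let ξ' : Γ(X.left, U) ⟶ CommRingCat.of C := CommRingCat.ofHom ξ
  let s : Spec (CommRingCat.of C) ⟶ W := Spec.map ξ' ≫ hU.fromSpec ≫ X.hom
  let x : Over.mk s ⟶ X := Over.homMk (Spec.map ξ' ≫ hU.fromSpec) (by simp [s])
  have hx : RRep hU x ξ' := rfl
  obtain ⟨g, hg⟩ := chC_surjective e s χ
  let lam : C1 U M ⟶ CommRingCat.of C :=
    CommRingCat.ofHom (MonoidAlgebra.liftNCRingHom ξ χ (fun _ _ => Commute.all _ _))
  have hlamR : ∀ (m : Multiplicative M) (a : Γ(X.left, U)),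
      MonoidAlgebra.liftNCRingHom ξ χ (fun _ _ => Commute.all _ _)
        (MonoidAlgebra.single m a) = ξ a * χ m :=
    fun m a => MonoidAlgebra.liftNCRingHom_single _ _ _ _ _
  have hlam : ι1 M ≫ lam = ξ' := by
    refine CommRingCat.hom_ext (RingHom.ext fun a => ?_)
    exact (hlamR 1 a).trans (by rw [map_one, _root_.mul_one]; rfl)
  have hs : Spec.map lam ≫ s1 hU M = s := by
    change Spec.map lam ≫ Spec.map (ι1 M) ≫ _ = Spec.map ξ' ≫ _
    rw [← Spec.map_comp_assoc, hlam]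
  let σ := bcHom (s1 hU M) s lam hs
  have hσx : σ ≫ x1 hU M = x := by
    have r1 := Rep.bc hU (rep_x1 hU M) lam hs
    rw [hlam] at r1
    exact Rep.ext hU r1 hx
  have hσg : σ ≫ gu = g := by
    apply chC_injective e
    intro m
    rw [chC_bcHom, hgu, hg]
    exact (hlamR m 1).trans (by rw [map_one, _root_.one_mul])
  have hsm : pa.smul g x = σ ≫ pa.smul gu (x1 hU M) := by
    rw [pa.comp_smul, hσx, hσg]
  have hαlam : α ≫ lam = ξ' := by
    refine CommRingCat.hom_ext ?_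
    exact h
  have r2 := Rep.bc hU hα lam hs
  rw [hαlam, ← hsm] at r2
  have hfix : pa.smul g x = x := Rep.ext hU r2 hx
  have hg1 := hfree _ g x hfix
  refine MonoidHom.ext fun m => ?_
  rw [← hg m, hg1, chC_one]
  rfl

end Univ

section Iso

variable {W : Scheme.{u}} {G X : Over W} [GrpObj G] (V : W.Opens)
  (hU : IsAffineOpen (X.hom ⁻¹ᵁ V))
  (M : Type) [AddCommGroup M] (e : Grp.mk G ≅ Grp.mk (Red.DS W M))
  (gu : Over.mk (s1 hU M) ⟶ G) (hgu : ∀ m, chC e gu m = MonoidAlgebra.single m 1)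

include hgu in
/-- the universal family is the preimage of `V` in `G × X`. -/
theorem univ_open (u : Over.mk (s1 hU M) ⟶ G ⊗ X) (hu1 : u ≫ fst G X = gu)
    (hu2 : u ≫ snd G X = x1 hU M) :
    IsOpenImmersion u.left ∧ Set.range u.left = (((G ⊗ X).hom ⁻¹ᵁ V : (G ⊗ X).left.Opens) : Set (G ⊗ X).left) := by
  let T : Over W := Over.mk (((G ⊗ X).hom ⁻¹ᵁ V).ι ≫ (G ⊗ X).hom)
  let π : T ⟶ G ⊗ X := Over.homMk ((G ⊗ X).hom ⁻¹ᵁ V).ι rfl
  have hT : ∀ t, T.hom t ∈ V := fun t => t.2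
  obtain ⟨ψ, hψx, hψg⟩ := exists_factor hU M e gu hgu (π ≫ fst G X) (π ≫ snd G X)
    (fun t => lands_of_hom V hT _ t)
  have hψu : ψ ≫ u = π := by
    apply CartesianMonoidalCategory.hom_ext
    · rw [Category.assoc, hu1, hψg]
    · rw [Category.assoc, hu2, hψx]
  have hrange : Set.range u.left ⊆ Set.range ((G ⊗ X).hom ⁻¹ᵁ V).ι := by
    rintro _ ⟨c, rfl⟩
    rw [Scheme.Opens.range_ι]
    change (G ⊗ X).hom (u.left c) ∈ V
    rw [← Scheme.Hom.comp_apply, Over.w u]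
    exact s1_mem V hU M c
  let l : Spec (C1 (X.hom ⁻¹ᵁ V) M) ⟶ ((G ⊗ X).hom ⁻¹ᵁ V : Scheme.{u}) :=
    IsOpenImmersion.lift ((G ⊗ X).hom ⁻¹ᵁ V).ι u.left hrange
  have hl : l ≫ ((G ⊗ X).hom ⁻¹ᵁ V).ι = u.left := IsOpenImmersion.lift_fac _ _ _
  let u' : Over.mk (s1 hU M) ⟶ T := Over.homMk l (by
    change l ≫ ((G ⊗ X).hom ⁻¹ᵁ V).ι ≫ (G ⊗ X).hom = s1 hU M
    rw [← Category.assoc, hl]
    exact Over.w u)
  have hu' : u' ≫ π = u := Over.OverMorphism.ext hl
  have h1 : ψ ≫ u' = 𝟙 T := by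
    apply Over.OverMorphism.ext
    have h3 : ((ψ ≫ u') ≫ π).left = π.left := by rw [Category.assoc, hu', hψu]
    have h4 : (𝟙 T : T ⟶ T).left ≫ ((G ⊗ X).hom ⁻¹ᵁ V).ι = ((G ⊗ X).hom ⁻¹ᵁ V).ι := by
      rw [Over.id_left]
      exact Category.id_comp _
    have h2 : (ψ ≫ u').left ≫ ((G ⊗ X).hom ⁻¹ᵁ V).ι =
        (𝟙 T : T ⟶ T).left ≫ ((G ⊗ X).hom ⁻¹ᵁ V).ι := h3.trans h4.symm
    exact (cancel_mono _).mp h2
  have h2 : u' ≫ ψ = 𝟙 _ := factor_unique hU M e gu hgu (u' ≫ ψ) (𝟙 _)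
    (by rw [Category.assoc, hψx, ← Category.assoc, hu', hu2, Category.id_comp])
    (by rw [Category.assoc, hψg, ← Category.assoc, hu', hu1, Category.id_comp])
  haveI : IsIso l := ⟨⟨ψ.left, congrArg (fun m => Over.Hom.left m) h2,
    congrArg (fun m => Over.Hom.left m) h1⟩⟩
  have hul : u.left = l ≫ ((G ⊗ X).hom ⁻¹ᵁ V).ι := hl.symm
  refine ⟨by rw [hul]; infer_instance, ?_⟩
  rw [hul, Scheme.Hom.comp_base, TopCat.coe_comp, Set.range_comp,
    Set.range_eq_univ.2 (ConcreteCategory.bijective_of_isIso l.base).2, Set.image_univ,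
    Scheme.Opens.range_ι]

end Iso

/-- **Local model**: a free pointwise action of a diagonalisable group on a scheme affine over
the base has closed graph. -/
theorem local_graph_closed {W : Scheme.{u}} {G X : Over W} [GrpObj G] (pa : PtAction G X)
    (M : Type) [AddCommGroup M] (e : Grp.mk G ≅ Grp.mk (Red.DS W M)) [IsAffineHom X.hom]
    (hfree : ∀ (T : Over W) (g : T ⟶ G) (x : T ⟶ X), pa.smul g x = x → g = 1) :
    IsClosedImmersion (lift (pa.smul (fst G X) (snd G X)) (snd G X)).left := by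
  haveI : IsAffineHom (X ⊗ X).hom := by
    rw [Over.tensorObj_hom]
    haveI : IsAffineHom (pullback.fst X.hom X.hom) :=
      MorphismProperty.pullback_fst (P := @IsAffineHom) _ _ inferInstance
    exact MorphismProperty.comp_mem (W := @IsAffineHom) _ _ inferInstance inferInstance
  apply closedImm_of_zariski_local
  intro y
  obtain ⟨V, hV, hyV⟩ : ∃ V : W.Opens, IsAffineOpen V ∧ (X ⊗ X).hom y ∈ V := by
    obtain ⟨_, ⟨V, hV, rfl⟩, hy, -⟩ := W.isBasis_affineOpens.exists_subset_of_mem_open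
      (Set.mem_univ ((X ⊗ X).hom y)) isOpen_univ
    exact ⟨V, hV, hy⟩
  have hU : IsAffineOpen (X.hom ⁻¹ᵁ V) := hV.preimage X.hom
  have hV' : IsAffineOpen ((X ⊗ X).hom ⁻¹ᵁ V) := hV.preimage (X ⊗ X).hom
  obtain ⟨gu, hgu0⟩ := chC_surjective e (s1 hU M)
    (MonoidAlgebra.of Γ(X.left, X.hom ⁻¹ᵁ V) (Multiplicative M))
  have hgu : ∀ m, chC e gu m = MonoidAlgebra.single m 1 := fun m => by rw [hgu0]; rfl
  obtain ⟨hopen, hrange⟩ := univ_open V hU M e gu hgu (lift gu (x1 hU M)) (lift_fst _ _)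
    (lift_snd _ _)
  obtain ⟨α, hα⟩ := exists_rep hU (pa.smul gu (x1 hU M))
    (fun c => lands_of_hom V (s1_mem V hU M) _ c)
  obtain ⟨β, hβ⟩ := exists_rep hV'
    (lift gu (x1 hU M) ≫ lift (pa.smul (fst G X) (snd G X)) (snd G X))
    (fun c => lands_of_hom V (s1_mem V hU M) _ c)
  have hβ' : (lift gu (x1 hU M)).left ≫ (lift (pa.smul (fst G X) (snd G X)) (snd G X)).left =
      Spec.map β ≫ hV'.fromSpec := hβ
  have hle1 : (X ⊗ X).hom ⁻¹ᵁ V ≤ (fst X X).left ⁻¹ᵁ (X.hom ⁻¹ᵁ V) := by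
    intro q hq
    change X.hom ((fst X X).left q) ∈ V
    rw [← Scheme.Hom.comp_apply, Over.w (fst X X)]
    exact hq
  have hle2 : (X ⊗ X).hom ⁻¹ᵁ V ≤ (snd X X).left ⁻¹ᵁ (X.hom ⁻¹ᵁ V) := by
    intro q hq
    change X.hom ((snd X X).left q) ∈ V
    rw [← Scheme.Hom.comp_apply, Over.w (snd X X)]
    exact hq
  have hα' : α = (fst X X).left.appLE (X.hom ⁻¹ᵁ V) ((X ⊗ X).hom ⁻¹ᵁ V) hle1 ≫ β := by
    apply Rep.unique hU hα
    change (pa.smul gu (x1 hU M)).left = Spec.map (_ ≫ β) ≫ hU.fromSpec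
    rw [Spec.map_comp, Category.assoc,
      IsAffineOpen.SpecMap_appLE_fromSpec (fst X X).left hU hV' hle1, ← Category.assoc, ← hβ']
    have h1 : lift gu (x1 hU M) ≫ lift (pa.smul (fst G X) (snd G X)) (snd G X) ≫ fst X X =
        pa.smul gu (x1 hU M) := by
      rw [lift_fst, pa.comp_smul, lift_fst, lift_snd]
    rw [← h1]
    simp only [Over.comp_left, Category.assoc]
  have hι' : ι1 M = (snd X X).left.appLE (X.hom ⁻¹ᵁ V) ((X ⊗ X).hom ⁻¹ᵁ V) hle2 ≫ β := by
    apply Rep.unique hU (rep_x1 hU M)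
    change (x1 hU M).left = Spec.map (_ ≫ β) ≫ hU.fromSpec
    rw [Spec.map_comp, Category.assoc,
      IsAffineOpen.SpecMap_appLE_fromSpec (snd X X).left hU hV' hle2, ← Category.assoc, ← hβ']
    have h1 : lift gu (x1 hU M) ≫ lift (pa.smul (fst G X) (snd G X)) (snd G X) ≫ snd X X =
        x1 hU M := by
      rw [lift_snd, lift_snd]
    conv_lhs => rw [← h1]
    simp only [Over.comp_left, Category.assoc]
  have hsurj : Function.Surjective β.hom := by
    intro q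
    have h1 := coact_counit hU M e gu hgu pa α hα
    have h3 := coact_coassoc hU M e gu hgu pa α hα
    have hf := coact_free hU M e gu hgu pa hfree α hα
    have := Groth.Agent.H4.FGrA.subring_eq_top' α.hom h1 h3 hf β.hom.range
      (fun a => ⟨((fst X X).left.appLE (X.hom ⁻¹ᵁ V) ((X ⊗ X).hom ⁻¹ᵁ V) hle1).hom a, by
        rw [hα']; rfl⟩)
      (fun a => ⟨((snd X X).left.appLE (X.hom ⁻¹ᵁ V) ((X ⊗ X).hom ⁻¹ᵁ V) hle2).hom a, by
        have := congrArg (fun φ => φ.hom a) hι'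
        exact this.symm⟩) q
    exact this
  refine ⟨Spec Γ((X ⊗ X).left, (X ⊗ X).hom ⁻¹ᵁ V), Spec (C1 (X.hom ⁻¹ᵁ V) M), hV'.fromSpec,
    (lift gu (x1 hU M)).left, Spec.map β, inferInstance, ?_, ?_,
    IsClosedImmersion.spec_of_surjective β hsurj⟩
  · rw [hV'.range_fromSpec]
    exact hyV
  · haveI := hopen
    refine (IsOpenImmersion.isPullback (Spec.map β) (lift gu (x1 hU M)).left hV'.fromSpec
      (lift (pa.smul (fst G X) (snd G X)) (snd G X)).left hβ' ?_).flip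
    rw [hV'.opensRange_fromSpec]
    apply TopologicalSpace.Opens.ext
    rw [Scheme.Hom.coe_opensRange, hrange,
      ← Over.w (lift (pa.smul (fst G X) (snd G X)) (snd G X))]
    rfl

end Groth.Agent.H4.FGrB
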