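import Mathlib
import Groth.Agent.H4.FGrB
import Groth.Agent.Lib.Helper3.FpqcCov.Basic

/-! Free actions of groups of multiplicative type on schemes affine over the base have closed
graph and closed orbit maps: fpqc descent from the local model. (helper4) -/

set_option autoImplicit false
universe u

open CategoryTheory MonoidalCategory CartesianMonoidalCategory MonObj GrpObj AlgebraicGeometry Limits
open Groth.Agent.H3.DSKit Groth.Agent.H3.RigidAct

namespace Groth.Agent.H4.FGrC

section BC

variable {S U : Scheme.{u}} (w : U ⟶ S)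

/-- base change of a morphism over `S`, as a cartesian square of schemes. -/
theorem isPullback_map_left {P Q : Over S} (Ψ : P ⟶ Q) :
    IsPullback (pullback.fst P.hom w) ((Over.pullback w).map Ψ).left Ψ.left
      (pullback.fst Q.hom w) := by
  have hfst : ((Over.pullback w).map Ψ).left ≫ pullback.fst Q.hom w =
      pullback.fst P.hom w ≫ Ψ.left := by
    simp only [Over.pullback_map_left]
    exact pullback.lift_fst _ _ _
  have hsnd : ((Over.pullback w).map Ψ).left ≫ pullback.snd Q.hom w = pullback.snd P.hom w := by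
    simp only [Over.pullback_map_left]
    exact pullback.lift_snd _ _ _
  refine IsPullback.of_bot ?_ hfst.symm (IsPullback.of_hasPullback Q.hom w)
  rw [hsnd, Over.w Ψ]
  exact IsPullback.of_hasPullback P.hom w

theorem tp_map {Z Z' : Over S} (h : Z ⟶ Z') :
    tp w Z' ((Over.pullback w).map h) = tp w Z (𝟙 (Red.bc w Z)) ≫ h := by
  have := (Over.mapPullbackAdj w).homEquiv_naturality_right_symm (𝟙 ((Over.pullback w).obj Z)) h
  rw [Category.id_comp] at this
  exact this

theorem tpInv_counit {Z Z' : Over S} (h : Z ⟶ Z') :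
    tpInv w Z' (tp w Z (𝟙 (Red.bc w Z)) ≫ h) = (Over.pullback w).map h := by
  have := (Over.mapPullbackAdj w).homEquiv_naturality_right (tp w Z (𝟙 (Red.bc w Z))) h
  have h2 : tpInv w Z (tp w Z (𝟙 (Red.bc w Z))) = 𝟙 _ := tpInv_tp w Z _
  unfold tpInv at h2 ⊢
  rw [this, h2, Category.id_comp]

variable {G X : Over S} [GrpObj G] (pa : PtAction G X)

theorem map_graph :
    (Over.pullback w).map (lift (pa.smul (fst G X) (snd G X)) (snd G X)) ≫
        CartesianMonoidalCategory.prodComparison (Over.pullback w) X X =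
      CartesianMonoidalCategory.prodComparison (Over.pullback w) G X ≫
        lift ((pa.bc w).smul (fst (Red.bc w G) (Red.bc w X)) (snd (Red.bc w G) (Red.bc w X)))
          (snd (Red.bc w G) (Red.bc w X)) := by
  apply CartesianMonoidalCategory.hom_ext
  · rw [Category.assoc, CartesianMonoidalCategory.prodComparison_fst, ← Functor.map_comp, lift_fst,
      Category.assoc, lift_fst, (pa.bc w).comp_smul,
      CartesianMonoidalCategory.prodComparison_fst, CartesianMonoidalCategory.prodComparison_snd,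
      PtAction.bc_smul, tp_map, tp_map, ← pa.comp_smul, tpInv_counit]
  · rw [Category.assoc, CartesianMonoidalCategory.prodComparison_snd, ← Functor.map_comp, lift_snd,
      Category.assoc, lift_snd, CartesianMonoidalCategory.prodComparison_snd]

theorem free_bc
    (hfree : ∀ (Y : Over S) (g : Y ⟶ G) (x : Y ⟶ X), pa.smul g x = x → g = 1) :
    ∀ (T : Over U) (g : T ⟶ Red.bc w G) (x : T ⟶ Red.bc w X),
      (pa.bc w).smul g x = x → g = 1 := by
  intro T g x h
  rw [PtAction.bc_smul] at h
  have h2 := congrArg (tp w X) h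
  rw [tp_tpInv] at h2
  have h3 := hfree _ _ _ h2
  have h4 := congrArg (tpInv w G) h3
  rw [tpInv_tp] at h4
  rw [h4, ← tp_one (G := G) w, tpInv_tp]

end BC

/-- **Graph of a free action of a group of multiplicative type is a closed immersion.** -/
theorem graph_closed {S : Scheme.{u}} (G X : Over S) [GrpObj G]
    (hG : TwC.Locally S TwC.Topology.fpqc (fun S' f => ∃ (M : Type) (_ : AddCommGroup M),
      Nonempty (Grp.mk (Red.bc f G) ≅ Grp.mk (Red.DS S' M))))
    [IsAffineHom X.hom] (pa : PtAction G X)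
    (hfree : ∀ (Y : Over S) (g : Y ⟶ G) (x : Y ⟶ X), pa.smul g x = x → g = 1) :
    IsClosedImmersion (lift (pa.smul (fst G X) (snd G X)) (snd G X)).left := by
  obtain ⟨S', f, hflat, hsurj, hqc, hloc⟩ := hG
  choose O hO M hM e using hloc
  have hcovf : Presieve.ofArrows (fun _ : PUnit.{u + 1} => S') (fun _ => f) ∈
      Scheme.fpqcPrecoverage S := by
    rw [Groth.Agent.H3.FpqcCov.ofArrows_const]
    exact Groth.Agent.H3.FpqcCov.cov_of_cond f hsurj hflat hqc
  have hcovO : Presieve.ofArrows (fun s' : S' => (O s' : Scheme.{u})) (fun s' => (O s').ι) ∈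
      Scheme.fpqcPrecoverage S' :=
    Scheme.zariskiPrecoverage_le_fpqcPrecoverage _
      ((Scheme.ofArrows_mem_precoverage_iff _).2
        ⟨fun y => ⟨y, by rw [Scheme.Opens.range_ι]; exact hO y⟩, fun _ => inferInstance⟩)
  have hcov := Precoverage.comp_mem_coverings (J := Scheme.fpqcPrecoverage)
    (fun _ : PUnit.{u + 1} => f) hcovf (σ := fun _ => S')
    (Y := fun _ s' => (O s' : Scheme.{u})) (fun _ s' => (O s').ι) (fun _ => hcovO)
  have hcovQ := Precoverage.mem_coverings_of_isPullback (J := Scheme.fpqcPrecoverage) _ hcov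
    (X ⊗ X).hom
    (P := fun p : (Σ _ : PUnit.{u + 1}, S') => pullback (X ⊗ X).hom ((O p.2).ι ≫ f))
    (fun p => pullback.fst (X ⊗ X).hom ((O p.2).ι ≫ f))
    (fun p => pullback.snd (X ⊗ X).hom ((O p.2).ι ≫ f))
    (fun p => IsPullback.of_hasPullback _ _)
  refine Groth.Agent.H4.FGrB.closedImm_of_cover (lift (pa.smul (fst G X) (snd G X)) (snd G X)).left _ _ hcovQ ?_
  intro p
  refine ⟨_, _, _, isPullback_map_left ((O p.2).ι ≫ f)
    (lift (pa.smul (fst G X) (snd G X)) (snd G X)), ?_⟩
  letI : AddCommGroup (M p.2) := hM p.2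
  have e' : Grp.mk (Red.bc ((O p.2).ι ≫ f) G) ≅ Grp.mk (Red.DS (O p.2) (M p.2)) := (e p.2).some
  haveI : IsAffineHom (Red.bc ((O p.2).ι ≫ f) X).hom :=
    MorphismProperty.pullback_snd (P := @IsAffineHom) _ _ inferInstance
  have hcl := Groth.Agent.H4.FGrB.local_graph_closed (pa.bc ((O p.2).ι ≫ f)) (M p.2) e'
    (free_bc ((O p.2).ι ≫ f) pa hfree)
  have hcomp := map_graph ((O p.2).ι ≫ f) pa
  have hmap : (Over.pullback ((O p.2).ι ≫ f)).map (lift (pa.smul (fst G X) (snd G X)) (snd G X)) =
      CartesianMonoidalCategory.prodComparison (Over.pullback ((O p.2).ι ≫ f)) G X ≫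
        lift ((pa.bc ((O p.2).ι ≫ f)).smul (fst _ _) (snd _ _)) (snd _ _) ≫
        inv (CartesianMonoidalCategory.prodComparison (Over.pullback ((O p.2).ι ≫ f)) X X) := by
    rw [← Category.assoc, ← hcomp, Category.assoc, IsIso.hom_inv_id, Category.comp_id]
  rw [hmap, Over.comp_left, Over.comp_left]
  haveI : IsIso (CartesianMonoidalCategory.prodComparison
      (Over.pullback ((O p.2).ι ≫ f)) G X).left :=
    inferInstanceAs (IsIso ((Over.forget _).map
      (CartesianMonoidalCategory.prodComparison (Over.pullback ((O p.2).ι ≫ f)) G X)))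
  haveI : IsIso (inv (CartesianMonoidalCategory.prodComparison
      (Over.pullback ((O p.2).ι ≫ f)) X X)).left :=
    inferInstanceAs (IsIso ((Over.forget _).map
      (inv (CartesianMonoidalCategory.prodComparison (Over.pullback ((O p.2).ι ≫ f)) X X))))
  haveI := hcl
  infer_instance

/-- orbit maps are closed immersions once the graph is. -/
theorem orbit_closed {S : Scheme.{u}} {G X : Over S} [IsSeparated X.hom] (act : G ⊗ X ⟶ X)
    (σ : 𝟙_ (Over S) ⟶ X) (h : IsClosedImmersion (lift act (snd G X)).left) :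
    IsClosedImmersion (lift (𝟙 G) (toUnit G ≫ σ) ≫ act).left := by
  have hij : lift (𝟙 G) (toUnit G ≫ σ) ≫ lift act (snd G X) =
      (lift (𝟙 G) (toUnit G ≫ σ) ≫ act) ≫ lift (𝟙 X) (toUnit X ≫ σ) := by
    apply CartesianMonoidalCategory.hom_ext
    · rw [Category.assoc, lift_fst, Category.assoc, lift_fst, Category.comp_id]
    · calc (lift (𝟙 G) (toUnit G ≫ σ) ≫ lift act (snd G X)) ≫ snd X X
          = lift (𝟙 G) (toUnit G ≫ σ) ≫ (lift act (snd G X) ≫ snd X X) := Category.assoc _ _ _
        _ = toUnit G ≫ σ := by rw [lift_snd, lift_snd]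
        _ = ((lift (𝟙 G) (toUnit G ≫ σ) ≫ act) ≫ toUnit X) ≫ σ := by
            congr 1
            exact toUnit_unique _ _
        _ = (lift (𝟙 G) (toUnit G ≫ σ) ≫ act) ≫ (lift (𝟙 X) (toUnit X ≫ σ) ≫ snd X X) := by
            rw [lift_snd, Category.assoc]
        _ = ((lift (𝟙 G) (toUnit G ≫ σ) ≫ act) ≫ lift (𝟙 X) (toUnit X ≫ σ)) ≫ snd X X :=
            (Category.assoc _ _ _).symm
  haveI : IsSeparated (fst G X).left := by
    rw [Over.fst_left]
    exact MorphismProperty.pullback_fst (P := @IsSeparated) _ _ inferInstance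
  have hi : IsClosedImmersion (lift (𝟙 G) (toUnit G ≫ σ)).left := by
    have h1 : (lift (𝟙 G) (toUnit G ≫ σ)).left ≫ (fst G X).left = 𝟙 _ := by
      rw [← Over.comp_left, lift_fst]
      rfl
    haveI : IsClosedImmersion ((lift (𝟙 G) (toUnit G ≫ σ)).left ≫ (fst G X).left) := by
      rw [h1]
      infer_instance
    exact IsClosedImmersion.of_comp (lift (𝟙 G) (toUnit G ≫ σ)).left (fst G X).left
  haveI : IsSeparated (lift (𝟙 X) (toUnit X ≫ σ)).left := by
    haveI : Mono (lift (𝟙 X) (toUnit X ≫ σ)).left := by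
      have h1 : (lift (𝟙 X) (toUnit X ≫ σ)).left ≫ (fst X X).left = 𝟙 _ := by
        rw [← Over.comp_left, lift_fst]
        rfl
      exact mono_of_mono_fac h1
    infer_instance
  haveI : IsClosedImmersion ((lift (𝟙 G) (toUnit G ≫ σ) ≫ act).left ≫
      (lift (𝟙 X) (toUnit X ≫ σ)).left) := by
    rw [← Over.comp_left, ← hij, Over.comp_left]
    haveI := hi
    haveI := h
    infer_instance
  exact IsClosedImmersion.of_comp (lift (𝟙 G) (toUnit G ≫ σ) ≫ act).left
    (lift (𝟙 X) (toUnit X ≫ σ)).left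

end Groth.Agent.H4.FGrC
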