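import Mathlib
import Groth.Prelude.Def_FSch2
import Groth.Agent.Lib.Helper2.FSchCompl
import Groth.Agent.Lib.Helper3.SmSrc.Lifting

set_option autoImplicit false
universe u
open CategoryTheory CategoryTheory.Limits AlgebraicGeometry

namespace Groth.Agent.H4.FLift1

open Groth.Agent.H2.FSchAff Groth.Agent.H2.FSchCompl

section PbSys

variable {S : Scheme.{u}} (𝒥 : S.IdealSheafData) {T : Scheme.{u}} (g : T ⟶ S)

/-- Base change of the completion of `S` along `𝒥` to `T`. -/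
@[reducible] noncomputable def pbSys : FSch.Sys.{u} where
  X n := pullback g (FSch.completionToX S 𝒥 n)
  ι n := pullback.lift (pullback.fst _ _) (pullback.snd _ _ ≫ (FSch.completionAlong S 𝒥).ι n)
    (by rw [Category.assoc, completionAlong_ι_toX, pullback.condition])

theorem pbSys_ι_fst (n : ℕ) :
    (pbSys 𝒥 g).ι n ≫ pullback.fst g (FSch.completionToX S 𝒥 (n + 1)) =
      pullback.fst g (FSch.completionToX S 𝒥 n) :=
  pullback.lift_fst _ _ _

theorem pbSys_ι_snd (n : ℕ) :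
    (pbSys 𝒥 g).ι n ≫ pullback.snd g (FSch.completionToX S 𝒥 (n + 1)) =
      pullback.snd g (FSch.completionToX S 𝒥 n) ≫ (FSch.completionAlong S 𝒥).ι n :=
  pullback.lift_snd _ _ _

/-- The projection to the completion. -/
noncomputable def pbProj : pbSys 𝒥 g ⟶ FSch.completionAlong S 𝒥 :=
  (⟨fun n => pullback.snd g (FSch.completionToX S 𝒥 n), fun n => (pbSys_ι_snd 𝒥 g n).symm⟩ :
    FSch.Hom (pbSys 𝒥 g) (FSch.completionAlong S 𝒥))

theorem pbProj_app (n : ℕ) :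
    (pbProj 𝒥 g : FSch.Hom _ _).app n = pullback.snd g (FSch.completionToX S 𝒥 n) := rfl

theorem isAdicHom_pbProj : FSch.IsAdicHom (pbProj 𝒥 g) := by
  intro n
  have t : IsPullback (pullback.fst g (FSch.completionToX S 𝒥 (n + 1)))
      (pullback.snd g (FSch.completionToX S 𝒥 (n + 1))) g (FSch.completionToX S 𝒥 (n + 1)) :=
    IsPullback.of_hasPullback _ _
  have s : IsPullback (pullback.fst g (FSch.completionToX S 𝒥 n))
      (pullback.snd g (FSch.completionToX S 𝒥 n)) g (FSch.completionToX S 𝒥 n) :=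
    IsPullback.of_hasPullback _ _
  refine IsPullback.of_right ?_ (pbSys_ι_snd 𝒥 g n) t
  rw [pbSys_ι_fst, completionAlong_ι_toX]
  exact s

theorem smooth_pbProj [Smooth g] (n : ℕ) : Smooth ((pbProj 𝒥 g : FSch.Hom _ _).app n) := by
  change Smooth (pullback.snd g (FSch.completionToX S 𝒥 n))
  infer_instance

instance instCI (n : ℕ) : IsClosedImmersion (FSch.completionToX S 𝒥 n) :=
  inferInstanceAs (IsClosedImmersion ((𝒥 ^ (n + 1)).subschemeι))

end PbSys

section Chart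

/-- A smooth morphism has standard smooth charts over any prescribed affine open of the base. -/
theorem exists_chart {X Y : Scheme.{u}} (g : X ⟶ Y) [Smooth g] (x : X) (U : Y.Opens)
    (hU : IsAffineOpen U) (N : X.Opens) (hxN : x ∈ N) (hN : N ≤ g ⁻¹ᵁ U) :
    ∃ (V : X.Opens) (_ : IsAffineOpen V) (_ : x ∈ V) (_ : V ≤ N) (e : V ≤ g ⁻¹ᵁ U),
      (g.appLE U V e).hom.IsStandardSmooth := by
  obtain ⟨V', hV', hxV', hV'N⟩ :=
    TopologicalSpace.Opens.isBasis_iff_nbhd.mp X.isBasis_affineOpens hxN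
  have e' : V' ≤ g ⁻¹ᵁ U := hV'N.trans hN
  have h := Smooth.smooth_appLE g hU hV' e'
  rw [RingHom.smooth_iff_locally_isStandardSmooth,
    RingHom.locally_iff_isLocalization RingHom.isStandardSmooth_respectsIso] at h
  obtain ⟨s, hs, hfs⟩ := h
  apply iSup_basicOpen_of_span_eq_top at hs
  have h1 : x ∈ (⨆ i ∈ (s : Set Γ(X, V')), X.basicOpen i) := hs.symm ▸ hxV'
  have h2 : ∃ r ∈ s, x ∈ X.basicOpen r := by simpa using h1
  obtain ⟨r, hr, hrs⟩ := h2
  refine ⟨X.basicOpen r, hV'.basicOpen r, hrs, (X.basicOpen_le r).trans hV'N,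
    (X.basicOpen_le r).trans e', ?_⟩
  rw [← g.appLE_map e' (homOfLE (X.basicOpen_le r)).op]
  have : IsLocalization.Away r Γ(X, X.basicOpen r) := hV'.isLocalization_basicOpen r
  exact hfs r hr _

end Chart

section Alg

/-- Compatible liftings along a tower of square-zero thickenings. -/
theorem exists_compatible_lifts {R A B : Type u} [CommRing R] [CommRing A] [CommRing B]
    [Algebra R A] [Algebra R B] [Algebra.FormallySmooth R A]
    (K : ℕ → Ideal B) (hK : ∀ n, K (n + 1) ≤ K n) (hK2 : ∀ n, K n ^ 2 ≤ K (n + 1))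
    (φ0 : A →ₐ[R] B ⧸ K 0) :
    ∃ φ : ∀ n, A →ₐ[R] B ⧸ K n, φ 0 = φ0 ∧
      ∀ n, (Ideal.Quotient.factorₐ R (hK n)).comp (φ (n + 1)) = φ n := by
  have hsurj : ∀ n, Function.Surjective (Ideal.Quotient.factorₐ R (hK n)) :=
    fun n => Ideal.Quotient.factor_surjective (hK n)
  have hnil : ∀ n, IsNilpotent (RingHom.ker
      ((Ideal.Quotient.factorₐ R (hK n) : (B ⧸ K (n + 1)) →ₐ[R] (B ⧸ K n)) :
        (B ⧸ K (n + 1)) →+* (B ⧸ K n))) := by
    intro n
    refine ⟨2, ?_⟩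
    rw [Ideal.Quotient.coe_factorₐ, Ideal.Quotient.factor_ker, ← Ideal.map_pow, Ideal.zero_eq_bot,
      Ideal.map_eq_bot_iff_le_ker, Ideal.mk_ker]
    exact hK2 n
  let φ : ∀ n, A →ₐ[R] B ⧸ K n := fun n =>
    Nat.rec (motive := fun n => A →ₐ[R] B ⧸ K n) φ0
      (fun n ih => Algebra.FormallySmooth.liftOfSurjective ih (Ideal.Quotient.factorₐ R (hK n))
        (hsurj n) (hnil n)) n
  exact ⟨φ, rfl, fun n => Algebra.FormallySmooth.comp_liftOfSurjective _ _ _ _⟩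

end Alg

section Level

variable {S : Scheme.{u}} (𝒥 : S.IdealSheafData) (W : S.affineOpens) {E : Type u} [CommRing E]
  (φ : Γ(S, W.1) →+* E)

/-- The structure morphism `Spec E ⟶ S` of an algebra over the sections on an affine open. -/
noncomputable abbrev gOf : Spec (CommRingCat.of E) ⟶ S :=
  Spec.map (CommRingCat.ofHom φ) ≫ W.2.fromSpec

/-- The ideal of `E` generated by the sections of `𝒥 ^ (n+1)` over `W`. -/
abbrev lvlIdeal (n : ℕ) : Ideal E := ((𝒥 ^ (n + 1)).ideal W).map φ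

theorem comap_gOf (𝓘 : S.IdealSheafData) :
    𝓘.comap (gOf W φ) = specIdeal E ((𝓘.ideal W).map φ) := by
  rw [Scheme.IdealSheafData.comap_comp, comap_fromSpec]
  exact specIdeal_comap φ (𝓘.ideal W)

theorem lvlIdeal_succ_le (n : ℕ) : lvlIdeal 𝒥 W φ (n + 1) ≤ lvlIdeal 𝒥 W φ n :=
  Ideal.map_mono (FSch.pow_succ_le S 𝒥 n W)

theorem lvlIdeal_sq_le (n : ℕ) : lvlIdeal 𝒥 W φ n ^ 2 ≤ lvlIdeal 𝒥 W φ (n + 1) := by
  rw [lvlIdeal, ← Ideal.map_pow]
  refine Ideal.map_mono ?_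
  have h1 : ((𝒥 ^ (n + 1)).ideal W) ^ 2 = ((𝒥 ^ (n + 1)) ^ 2).ideal W := rfl
  rw [h1, ← pow_mul]
  have h2 : 𝒥 ^ ((n + 1) * 2) ≤ 𝒥 ^ (n + 1 + 1) :=
    pow_le_pow_of_le_one bot_le le_top (by omega)
  exact h2 W

theorem ker_fst_eq (n : ℕ) :
    (pullback.fst (gOf W φ) (FSch.completionToX S 𝒥 n)).ker =
      (Spec.map (CommRingCat.ofHom (Ideal.Quotient.mk (lvlIdeal 𝒥 W φ n)))).ker := by
  rw [Scheme.IdealSheafData.ker_fst_of_isClosedImmersion, ker_specMap, Ideal.mk_ker]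
  have : (FSch.completionToX S 𝒥 n).ker = 𝒥 ^ (n + 1) := Scheme.IdealSheafData.ker_subschemeι _
  rw [this]
  exact comap_gOf W φ _

/-- The identification of `Spec (E ⧸ 𝒥^{n+1}E)` with the `n`-th level of the pulled back system. -/
noncomputable def θ (n : ℕ) :
    Spec (CommRingCat.of (E ⧸ lvlIdeal 𝒥 W φ n)) ⟶
      pullback (gOf W φ) (FSch.completionToX S 𝒥 n) :=
  IsClosedImmersion.lift (pullback.fst (gOf W φ) (FSch.completionToX S 𝒥 n))
    (Spec.map (CommRingCat.ofHom (Ideal.Quotient.mk (lvlIdeal 𝒥 W φ n)))) (ker_fst_eq 𝒥 W φ n).le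

instance (n : ℕ) : IsIso (θ 𝒥 W φ n) :=
  IsClosedImmersion.isIso_lift _ _ (ker_fst_eq 𝒥 W φ n)

theorem θ_fst (n : ℕ) :
    θ 𝒥 W φ n ≫ pullback.fst (gOf W φ) (FSch.completionToX S 𝒥 n) =
      Spec.map (CommRingCat.ofHom (Ideal.Quotient.mk (lvlIdeal 𝒥 W φ n))) :=
  IsClosedImmersion.lift_fac _ _ _

theorem inv_θ_mk (n : ℕ) :
    inv (θ 𝒥 W φ n) ≫ Spec.map (CommRingCat.ofHom (Ideal.Quotient.mk (lvlIdeal 𝒥 W φ n))) =
      pullback.fst (gOf W φ) (FSch.completionToX S 𝒥 n) := by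
  rw [IsIso.inv_comp_eq, θ_fst]

theorem θ_ι (n : ℕ) :
    θ 𝒥 W φ n ≫ (pbSys 𝒥 (gOf W φ)).ι n =
      Spec.map (CommRingCat.ofHom (Ideal.Quotient.factor (lvlIdeal_succ_le 𝒥 W φ n))) ≫
        θ 𝒥 W φ (n + 1) := by
  rw [← cancel_mono (pullback.fst (gOf W φ) (FSch.completionToX S 𝒥 (n + 1)))]
  rw [Category.assoc, Category.assoc, pbSys_ι_fst, θ_fst, θ_fst, ← Spec.map_comp,
    ← CommRingCat.ofHom_comp, Ideal.Quotient.factor_comp_mk]

theorem ι_inv_θ (n : ℕ) :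
    (pbSys 𝒥 (gOf W φ)).ι n ≫ inv (θ 𝒥 W φ (n + 1)) =
      inv (θ 𝒥 W φ n) ≫
        Spec.map (CommRingCat.ofHom (Ideal.Quotient.factor (lvlIdeal_succ_le 𝒥 W φ n))) := by
  rw [IsIso.eq_inv_comp, ← Category.assoc, θ_ι, Category.assoc, IsIso.hom_inv_id, Category.comp_id]

/-- A closed subscheme of `Spec E` cut out by `𝒥^{n+1}E` is the base change of the `n`-th level. -/
theorem isPullback_level (n : ℕ) {Z : Scheme.{u}} (c : Z ⟶ Spec (CommRingCat.of E))
    [IsClosedImmersion c] (d : Z ⟶ (FSch.completionAlong S 𝒥).X n)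
    (h : c ≫ gOf W φ = d ≫ FSch.completionToX S 𝒥 n)
    (hk : c.ker = specIdeal E (lvlIdeal 𝒥 W φ n)) :
    IsPullback c d (gOf W φ) (FSch.completionToX S 𝒥 n) := by
  refine isPullback_of_isClosedImmersion c _ d _ h ?_
  have : (FSch.completionToX S 𝒥 n).ker = 𝒥 ^ (n + 1) := Scheme.IdealSheafData.ker_subschemeι _
  rw [this, comap_gOf, hk]

end Level

end Groth.Agent.H4.FLift1
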