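import Mathlib
import Groth.Prelude.Def_FSch2
import Groth.Agent.H4.FLift1

set_option autoImplicit false
universe u
open CategoryTheory CategoryTheory.Limits AlgebraicGeometry

namespace Groth.Agent.H4.FLift2

open Groth.Agent.H2.FSchAff Groth.Agent.H2.FSchCompl Groth.Agent.H4.FLift1

section LiftChart

/-- Lift a standard smooth chart over the bottom level to a standard smooth algebra over `Γ(S, W)`. -/
theorem exists_lift_chart {S : Scheme.{u}} (𝒥 : S.IdealSheafData) (W : S.affineOpens)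
    {Z : Scheme.{u}} (c : Z ⟶ (FSch.completionAlong S 𝒥).X 0) (V : Z.Opens)
    (e : V ≤ (c ≫ FSch.completionToX S 𝒥 0) ⁻¹ᵁ W.1)
    (hsm : (c.appLE ((FSch.completionToX S 𝒥 0) ⁻¹ᵁ W.1) V e).hom.IsStandardSmooth) :
    ∃ (E : Type u) (_ : CommRing E) (φ : Γ(S, W.1) →+* E) (ψ : E →+* Γ(Z, V)),
      φ.IsStandardSmooth ∧ Function.Surjective ψ ∧
      ψ.comp φ = ((c ≫ FSch.completionToX S 𝒥 0).appLE W.1 V e).hom ∧
      RingHom.ker ψ = lvlIdeal 𝒥 W φ 0 := by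
  classical
  letI : Algebra Γ(S, W.1) Γ((FSch.completionAlong S 𝒥).X 0, (FSch.completionToX S 𝒥 0) ⁻¹ᵁ W.1) :=
    ((FSch.completionToX S 𝒥 0).app W.1).hom.toAlgebra
  letI : Algebra Γ((FSch.completionAlong S 𝒥).X 0, (FSch.completionToX S 𝒥 0) ⁻¹ᵁ W.1) Γ(Z, V) :=
    (c.appLE ((FSch.completionToX S 𝒥 0) ⁻¹ᵁ W.1) V e).hom.toAlgebra
  letI : Algebra Γ(S, W.1) Γ(Z, V) :=
    ((c ≫ FSch.completionToX S 𝒥 0).appLE W.1 V e).hom.toAlgebra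
  haveI : IsScalarTower Γ(S, W.1)
      Γ((FSch.completionAlong S 𝒥).X 0, (FSch.completionToX S 𝒥 0) ⁻¹ᵁ W.1) Γ(Z, V) := by
    refine .of_algebraMap_eq' ?_
    change ((c ≫ FSch.completionToX S 𝒥 0).appLE W.1 V e).hom =
      (c.appLE ((FSch.completionToX S 𝒥 0) ⁻¹ᵁ W.1) V e).hom.comp
        ((FSch.completionToX S 𝒥 0).app W.1).hom
    rw [Scheme.Hom.comp_appLE]
    rfl
  have hsurj : Function.Surjective (algebraMap Γ(S, W.1)
      Γ((FSch.completionAlong S 𝒥).X 0, (FSch.completionToX S 𝒥 0) ⁻¹ᵁ W.1)) :=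
    Scheme.IdealSheafData.subschemeι_app_surjective (𝒥 ^ (0 + 1)) W
  haveI : Algebra.IsStandardSmooth
      Γ((FSch.completionAlong S 𝒥).X 0, (FSch.completionToX S 𝒥 0) ⁻¹ᵁ W.1) Γ(Z, V) := hsm
  obtain ⟨E, _, _, hE, ψ, hψs, hψk⟩ := Groth.Agent.H3.SmSrc.exists_standardSmooth_lift
    (R := Γ(S, W.1))
    (B := Γ((FSch.completionAlong S 𝒥).X 0, (FSch.completionToX S 𝒥 0) ⁻¹ᵁ W.1))
    (C := Γ(Z, V)) hsurj
  refine ⟨E, inferInstance, algebraMap Γ(S, W.1) E, ψ.toRingHom,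
    RingHom.isStandardSmooth_algebraMap.mpr hE, hψs, ?_, ?_⟩
  · ext r
    exact ψ.commutes r
  · have hk' : RingHom.ker (ψ : E →+* Γ(Z, V)) = RingHom.ker ψ := by
      ext y
      simp only [RingHom.mem_ker]
      rfl
    change RingHom.ker (ψ : E →+* Γ(Z, V)) = _
    rw [hk', hψk]
    congr 1
    exact Scheme.IdealSheafData.ker_subschemeι_app (𝒥 ^ (0 + 1)) W

end LiftChart

section ChartPB

variable {S : Scheme.{u}} (𝒥 : S.IdealSheafData) (W : S.affineOpens) {Z : Scheme.{u}}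
  (c : Z ⟶ (FSch.completionAlong S 𝒥).X 0) (V : Z.Opens) (hV : IsAffineOpen V)
  (e : V ≤ (c ≫ FSch.completionToX S 𝒥 0) ⁻¹ᵁ W.1)
  {E : Type u} [CommRing E] (φ : Γ(S, W.1) →+* E) (ψ : E →+* Γ(Z, V))

/-- The closed immersion of the chart into its lift. -/
noncomputable def chartEmb : V.toScheme ⟶ Spec (CommRingCat.of E) :=
  hV.isoSpec.hom ≫ Spec.map (CommRingCat.ofHom ψ)

theorem isClosedImmersion_chartEmb (hψ : Function.Surjective ψ) :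
    IsClosedImmersion (chartEmb V hV ψ) := by
  haveI : IsClosedImmersion (Spec.map (CommRingCat.ofHom ψ)) :=
    IsClosedImmersion.spec_of_surjective _ hψ
  unfold chartEmb
  infer_instance

theorem chartEmb_gOf
    (hc : ψ.comp φ = ((c ≫ FSch.completionToX S 𝒥 0).appLE W.1 V e).hom) :
    chartEmb V hV ψ ≫ gOf W φ = (V.ι ≫ c) ≫ FSch.completionToX S 𝒥 0 := by
  unfold chartEmb gOf
  rw [Category.assoc, ← Category.assoc (Spec.map _), ← Spec.map_comp, ← CommRingCat.ofHom_comp, hc,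
    CommRingCat.ofHom_hom, IsAffineOpen.SpecMap_appLE_fromSpec _ W.2 hV e, ← Category.assoc,
    hV.isoSpec_hom_fromSpec, Category.assoc]

theorem isPullback_chart (hψ : Function.Surjective ψ)
    (hc : ψ.comp φ = ((c ≫ FSch.completionToX S 𝒥 0).appLE W.1 V e).hom)
    (hk : RingHom.ker ψ = lvlIdeal 𝒥 W φ 0) :
    IsPullback (chartEmb V hV ψ) (V.ι ≫ c) (gOf W φ) (FSch.completionToX S 𝒥 0) := by
  haveI := isClosedImmersion_chartEmb V hV ψ hψ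
  refine isPullback_level 𝒥 W φ 0 _ _ (chartEmb_gOf 𝒥 W c V hV e φ ψ hc) ?_
  unfold chartEmb
  rw [Scheme.Hom.ker_comp_of_isIso, ker_specMap, hk]

end ChartPB

section Core

theorem isoSpec_hom_SpecMap_appLE {X Y : Scheme.{u}} (f : X ⟶ Y) {U : X.Opens} {V : Y.Opens}
    (hU : IsAffineOpen U) (hV : IsAffineOpen V) (e : U ≤ f ⁻¹ᵁ V) :
    hU.isoSpec.hom ≫ Spec.map (f.appLE V U e) = f.resLE V U e ≫ hV.isoSpec.hom := by
  rw [← cancel_mono hV.fromSpec, Category.assoc, Category.assoc,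
    IsAffineOpen.SpecMap_appLE_fromSpec f hV hU e, ← Category.assoc, hU.isoSpec_hom_fromSpec,
    hV.isoSpec_hom_fromSpec, Scheme.Hom.resLE_comp_ι]

theorem core {S : Scheme.{u}} (𝒥 : S.IdealSheafData) (W : S.affineOpens) {X₀ Y₀ : Scheme.{u}}
    (b : Y₀ ⟶ (FSch.completionAlong S 𝒥).X 0) (f : X₀ ⟶ Y₀)
    (U₀ : X₀.Opens) (V₀ : Y₀.Opens) (hU : IsAffineOpen U₀) (hV : IsAffineOpen V₀)
    (hUV : U₀ ≤ f ⁻¹ᵁ V₀)
    (eV : V₀ ≤ (b ≫ FSch.completionToX S 𝒥 0) ⁻¹ᵁ W.1)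
    (eU : U₀ ≤ ((f ≫ b) ≫ FSch.completionToX S 𝒥 0) ⁻¹ᵁ W.1)
    {EV : Type u} [CommRing EV] (φV : Γ(S, W.1) →+* EV) (ψV : EV →+* Γ(Y₀, V₀))
    (hφV : φV.IsStandardSmooth) (hψV : Function.Surjective ψV)
    (hcV : ψV.comp φV = ((b ≫ FSch.completionToX S 𝒥 0).appLE W.1 V₀ eV).hom)
    (hkV : RingHom.ker ψV = lvlIdeal 𝒥 W φV 0)
    {EU : Type u} [CommRing EU] (φU : Γ(S, W.1) →+* EU) (ψU : EU →+* Γ(X₀, U₀))
    (hφU : φU.IsStandardSmooth) (hψU : Function.Surjective ψU)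
    (hcU : ψU.comp φU = (((f ≫ b) ≫ FSch.completionToX S 𝒥 0).appLE W.1 U₀ eU).hom)
    (hkU : RingHom.ker ψU = lvlIdeal 𝒥 W φU 0) :
    ∃ (𝔘 𝔙 : FSch.Sys.{u}) (p : 𝔘 ⟶ FSch.completionAlong S 𝒥)
      (q : 𝔙 ⟶ FSch.completionAlong S 𝒥)
      (Φ : 𝔘 ⟶ 𝔙) (eU' : 𝔘.X 0 ≅ U₀.toScheme) (eV' : 𝔙.X 0 ≅ V₀.toScheme),
      Φ ≫ q = p ∧ FSch.IsAdicHom p ∧ FSch.IsAdicHom q ∧
      (∀ n : ℕ, Smooth ((p : FSch.Hom 𝔘 _).app n)) ∧
      (∀ n : ℕ, Smooth ((q : FSch.Hom 𝔙 _).app n)) ∧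
      eU'.hom ≫ U₀.ι ≫ (f ≫ b) = (p : FSch.Hom 𝔘 _).app 0 ∧
      eV'.hom ≫ V₀.ι ≫ b = (q : FSch.Hom 𝔙 _).app 0 ∧
      (Φ : FSch.Hom 𝔘 𝔙).app 0 ≫ eV'.hom = eU'.hom ≫ f.resLE V₀ U₀ hUV := by
  classical
  have PBU := isPullback_chart 𝒥 W (f ≫ b) U₀ hU eU φU ψU hψU hcU hkU
  have PBV := isPullback_chart 𝒥 W b V₀ hV eV φV ψV hψV hcV hkV
  -- smoothness of the structure maps
  haveI smU : Smooth (gOf W φU) := by
    haveI : Smooth (Spec.map (CommRingCat.ofHom φU)) :=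
      (HasRingHomProperty.Spec_iff (P := @Smooth)).mpr hφU.smooth
    infer_instance
  haveI smV : Smooth (gOf W φV) := by
    haveI : Smooth (Spec.map (CommRingCat.ofHom φV)) :=
      (HasRingHomProperty.Spec_iff (P := @Smooth)).mpr hφV.smooth
    infer_instance
  -- algebra structures
  letI : Algebra Γ(S, W.1) EV := φV.toAlgebra
  letI : Algebra Γ(S, W.1) EU := φU.toAlgebra
  haveI : Algebra.IsStandardSmooth Γ(S, W.1) EV := hφV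
  haveI : Algebra.FormallySmooth Γ(S, W.1) EV := inferInstance
  -- the isomorphism `EU ⧸ 𝒥 EU ≃ Γ(U₀)`
  let ψbar : (EU ⧸ lvlIdeal 𝒥 W φU 0) ≃+* Γ(X₀, U₀) :=
    (Ideal.quotEquivOfEq hkU.symm).trans (RingHom.quotientKerEquivOfSurjective hψU)
  have hψbar : ∀ y, ψbar (Ideal.Quotient.mk _ y) = ψU y := fun y => by
    simp [ψbar]
  have hψbar' : ψbar.toRingHom.comp (Ideal.Quotient.mk (lvlIdeal 𝒥 W φU 0)) = ψU :=
    RingHom.ext hψbar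
  let φ0r : EV →+* EU ⧸ lvlIdeal 𝒥 W φU 0 :=
    ψbar.symm.toRingHom.comp ((f.appLE V₀ U₀ hUV).hom.comp ψV)
  have hφ0r : ψbar.toRingHom.comp φ0r = (f.appLE V₀ U₀ hUV).hom.comp ψV := by
    ext y
    simp [φ0r]
  have happ : ((b ≫ FSch.completionToX S 𝒥 0).appLE W.1 V₀ eV) ≫ f.appLE V₀ U₀ hUV =
      ((f ≫ b) ≫ FSch.completionToX S 𝒥 0).appLE W.1 U₀ eU := by
    rw [Scheme.Hom.appLE_comp_appLE]
    rfl
  have hφ0 : ∀ r, φ0r (φV r) = Ideal.Quotient.mk (lvlIdeal 𝒥 W φU 0) (φU r) := by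
    intro r
    apply ψbar.injective
    rw [hψbar]
    have h1 : ψbar (φ0r (φV r)) = (f.appLE V₀ U₀ hUV).hom (ψV (φV r)) :=
      congrArg (fun g => g (φV r)) hφ0r
    rw [h1]
    have h2 : ψV (φV r) = ((b ≫ FSch.completionToX S 𝒥 0).appLE W.1 V₀ eV).hom r :=
      congrArg (fun g => g r) hcV
    have h3 : ψU (φU r) = (((f ≫ b) ≫ FSch.completionToX S 𝒥 0).appLE W.1 U₀ eU).hom r :=
      congrArg (fun g => g r) hcU
    rw [h2, h3, ← happ]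
    rfl
  let φ0 : EV →ₐ[Γ(S, W.1)] EU ⧸ lvlIdeal 𝒥 W φU 0 := { φ0r with commutes' := hφ0 }
  obtain ⟨φ, hφz, hφc⟩ := exists_compatible_lifts (lvlIdeal 𝒥 W φU) (lvlIdeal_succ_le 𝒥 W φU)
    (lvlIdeal_sq_le 𝒥 W φU) φ0
  -- the maps to `Spec EV`
  let h : ∀ n, pullback (gOf W φU) (FSch.completionToX S 𝒥 n) ⟶ Spec (CommRingCat.of EV) :=
    fun n => inv (θ 𝒥 W φU n) ≫ Spec.map (CommRingCat.ofHom (φ n).toRingHom)
  have hcomm : ∀ n, (φ n).toRingHom.comp φV = (Ideal.Quotient.mk (lvlIdeal 𝒥 W φU n)).comp φU := by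
    intro n
    ext r
    exact (φ n).commutes r
  have hh : ∀ n, h n ≫ gOf W φV =
      pullback.fst (gOf W φU) (FSch.completionToX S 𝒥 n) ≫ gOf W φU := by
    intro n
    change (inv (θ 𝒥 W φU n) ≫ Spec.map (CommRingCat.ofHom (φ n).toRingHom)) ≫
        Spec.map (CommRingCat.ofHom φV) ≫ W.2.fromSpec =
      pullback.fst (gOf W φU) (FSch.completionToX S 𝒥 n) ≫
        Spec.map (CommRingCat.ofHom φU) ≫ W.2.fromSpec
    rw [Category.assoc, ← Category.assoc (Spec.map _), ← Spec.map_comp, ← CommRingCat.ofHom_comp,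
      hcomm n, CommRingCat.ofHom_comp, Spec.map_comp, Category.assoc, ← Category.assoc (inv _),
      inv_θ_mk]
  have hfac : ∀ n, (Ideal.Quotient.factor (lvlIdeal_succ_le 𝒥 W φU n)).comp (φ (n + 1)).toRingHom =
      (φ n).toRingHom := by
    intro n
    have := hφc n
    ext y
    exact congrArg (fun g => g y) this
  have hι : ∀ n, (pbSys 𝒥 (gOf W φU)).ι n ≫ h (n + 1) = h n := by
    intro n
    simp only [h]
    rw [← Category.assoc, ι_inv_θ, Category.assoc, ← Spec.map_comp, ← CommRingCat.ofHom_comp, hfac]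
  let Φ : pbSys 𝒥 (gOf W φU) ⟶ pbSys 𝒥 (gOf W φV) :=
    (⟨fun n => pullback.lift (h n) (pullback.snd _ _) ((hh n).trans pullback.condition),
      fun n => by
        apply pullback.hom_ext
        · rw [Category.assoc, pbSys_ι_fst, pullback.lift_fst, Category.assoc, pullback.lift_fst,
            hι]
        · rw [Category.assoc, pbSys_ι_snd, pullback.lift_snd_assoc, Category.assoc,
            pullback.lift_snd, pbSys_ι_snd]⟩ :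
      FSch.Hom (pbSys 𝒥 (gOf W φU)) (pbSys 𝒥 (gOf W φV)))
  refine ⟨pbSys 𝒥 (gOf W φU), pbSys 𝒥 (gOf W φV), pbProj 𝒥 (gOf W φU), pbProj 𝒥 (gOf W φV), Φ,
    PBU.isoPullback.symm, PBV.isoPullback.symm, ?_, isAdicHom_pbProj _ _, isAdicHom_pbProj _ _,
    fun n => smooth_pbProj _ _ n, fun n => smooth_pbProj _ _ n, ?_, ?_, ?_⟩
  · apply FSch.Hom.ext
    funext n
    exact pullback.lift_snd _ _ _
  · change PBU.isoPullback.inv ≫ U₀.ι ≫ (f ≫ b) = pullback.snd _ _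
    rw [Iso.inv_comp_eq, IsPullback.isoPullback_hom_snd]
  · change PBV.isoPullback.inv ≫ V₀.ι ≫ b = pullback.snd _ _
    rw [Iso.inv_comp_eq, IsPullback.isoPullback_hom_snd]
  · have hΦ1 : (Φ : FSch.Hom _ _).app 0 ≫ pullback.fst _ _ = h 0 := pullback.lift_fst _ _ _
    have hΦ2 : (Φ : FSch.Hom _ _).app 0 ≫ pullback.snd _ _ = pullback.snd _ _ :=
      pullback.lift_snd _ _ _
    generalize (Φ : FSch.Hom _ _).app 0 = Φ0 at hΦ1 hΦ2 ⊢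
    change Φ0 ≫ PBV.isoPullback.inv = PBU.isoPullback.inv ≫ f.resLE V₀ U₀ hUV
    rw [Iso.comp_inv_eq, Category.assoc, Iso.eq_inv_comp]
    apply pullback.hom_ext
    · rw [Category.assoc, hΦ1, Category.assoc, IsPullback.isoPullback_hom_fst]
      -- key identity
      have key : PBU.isoPullback.hom ≫ inv (θ 𝒥 W φU 0) =
          hU.isoSpec.hom ≫ Spec.map (CommRingCat.ofHom ψbar.toRingHom) := by
        haveI : Mono (Spec.map (CommRingCat.ofHom (Ideal.Quotient.mk (lvlIdeal 𝒥 W φU 0)))) :=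
          inferInstance
        rw [← cancel_mono (Spec.map (CommRingCat.ofHom (Ideal.Quotient.mk (lvlIdeal 𝒥 W φU 0)))),
          Category.assoc, inv_θ_mk, IsPullback.isoPullback_hom_fst, Category.assoc, ← Spec.map_comp,
          ← CommRingCat.ofHom_comp, hψbar']
        rfl
      simp only [h]
      rw [← Category.assoc, key, Category.assoc, ← Spec.map_comp, ← CommRingCat.ofHom_comp,
        hφz]
      change hU.isoSpec.hom ≫ Spec.map (CommRingCat.ofHom (ψbar.toRingHom.comp φ0r)) = _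
      rw [hφ0r, CommRingCat.ofHom_comp, Spec.map_comp, CommRingCat.ofHom_hom, ← Category.assoc,
        isoSpec_hom_SpecMap_appLE f hU hV hUV, Category.assoc]
      rfl
    · rw [Category.assoc, hΦ2, IsPullback.isoPullback_hom_snd, Category.assoc,
        IsPullback.isoPullback_hom_snd, Scheme.Hom.resLE_comp_ι_assoc]

end Core

section Main

theorem main {S : Scheme.{u}} (𝒥 : S.IdealSheafData) {X₀ Y₀ : Scheme.{u}}
    (b : Y₀ ⟶ (FSch.completionAlong S 𝒥).X 0) [Smooth b] (f : X₀ ⟶ Y₀) [Smooth (f ≫ b)]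
    (x : X₀) :
    ∃ (U₀ : X₀.Opens) (V₀ : Y₀.Opens) (_ : x ∈ U₀) (hUV : U₀ ≤ f ⁻¹ᵁ V₀)
      (𝔘 𝔙 : FSch.Sys.{u}) (p : 𝔘 ⟶ FSch.completionAlong S 𝒥)
      (q : 𝔙 ⟶ FSch.completionAlong S 𝒥)
      (Φ : 𝔘 ⟶ 𝔙) (eU : 𝔘.X 0 ≅ U₀.toScheme) (eV : 𝔙.X 0 ≅ V₀.toScheme),
      Φ ≫ q = p ∧ FSch.IsAdicHom p ∧ FSch.IsAdicHom q ∧
      (∀ n : ℕ, Smooth ((p : FSch.Hom 𝔘 _).app n)) ∧
      (∀ n : ℕ, Smooth ((q : FSch.Hom 𝔙 _).app n)) ∧
      eU.hom ≫ U₀.ι ≫ (f ≫ b) = (p : FSch.Hom 𝔘 _).app 0 ∧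
      eV.hom ≫ V₀.ι ≫ b = (q : FSch.Hom 𝔙 _).app 0 ∧
      (Φ : FSch.Hom 𝔘 𝔙).app 0 ≫ eV.hom = eU.hom ≫ f.resLE V₀ U₀ hUV := by
  obtain ⟨W, hW, hsW, -⟩ := TopologicalSpace.Opens.isBasis_iff_nbhd.mp S.isBasis_affineOpens
    (TopologicalSpace.Opens.mem_top ((FSch.completionToX S 𝒥 0) (b (f x))))
  have hW₀ : IsAffineOpen ((FSch.completionToX S 𝒥 0) ⁻¹ᵁ W) := hW.preimage _
  obtain ⟨V₀, hV, hfxV, -, eV, hsmV⟩ := exists_chart b (f x) ((FSch.completionToX S 𝒥 0) ⁻¹ᵁ W)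
    hW₀ (b ⁻¹ᵁ ((FSch.completionToX S 𝒥 0) ⁻¹ᵁ W)) hsW le_rfl
  obtain ⟨U₀, hU, hxU, hUN, eU, hsmU⟩ := exists_chart (f ≫ b) x
    ((FSch.completionToX S 𝒥 0) ⁻¹ᵁ W) hW₀ (f ⁻¹ᵁ V₀) hfxV (fun y hy => eV hy)
  obtain ⟨EV, _, φV, ψV, hφV, hψV, hcV, hkV⟩ := exists_lift_chart 𝒥 ⟨W, hW⟩ b V₀ eV hsmV
  obtain ⟨EU, _, φU, ψU, hφU, hψU, hcU, hkU⟩ := exists_lift_chart 𝒥 ⟨W, hW⟩ (f ≫ b) U₀ eU hsmU
  obtain ⟨𝔘, 𝔙, p, q, Φ, eU', eV', h⟩ := core 𝒥 ⟨W, hW⟩ b f U₀ V₀ hU hV hUN eV eU φV ψV hφV hψV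
    hcV hkV φU ψU hφU hψU hcU hkU
  exact ⟨U₀, V₀, hxU, hUN, 𝔘, 𝔙, p, q, Φ, eU', eV', h⟩

end Main

end Groth.Agent.H4.FLift2
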