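import Mathlib
import Groth.Agent.H4.IndEtCrit

set_option autoImplicit false
universe u
open CategoryTheory CategoryTheory.Limits TensorProduct

namespace Groth.Agent.H4.FPColim

open Groth.Agent.H4.IndEtCrit

/-- A class of finitely presented `A`-algebras (with maps to `B`) closed under the operations
needed to write `B` as a filtered colimit of members. -/
structure Cls (A B : Type u) [CommRing A] [CommRing B] [Algebra A B] where
  P : ∀ (C : Type u) [CommRing C] [Algebra A C], Prop
  of_equiv : ∀ {C C' : Type u} [CommRing C] [CommRing C'] [Algebra A C] [Algebra A C'],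
    (C ≃ₐ[A] C') → P C → P C'
  tensor : ∀ {C C' : Type u} [CommRing C] [CommRing C'] [Algebra A C] [Algebra A C']
    [Algebra.FinitePresentation A C] [Algebra.FinitePresentation A C'],
    (C →ₐ[A] B) → (C' →ₐ[A] B) → P C → P C' → P (C ⊗[A] C')
  quot : ∀ {C : Type u} [CommRing C] [Algebra A C] [Algebra.FinitePresentation A C]
    (g : C →ₐ[A] B) (J : Ideal C), J.FG → (∀ x ∈ J, g x = 0) → P C → P (C ⧸ J)
  base : P A

section Cat
variable {A B : Type u} [CommRing A] [CommRing B] [Algebra A B] (𝒞 : Cls A B)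

/-- Objects: quotients of polynomial rings by f.g. ideals, in the class, mapping to `B`. -/
structure PObj where
  n : ℕ
  I : Ideal (MvPolynomial (Fin n) A)
  hI : I.FG
  hP : 𝒞.P (MvPolynomial (Fin n) A ⧸ I)
  g : (MvPolynomial (Fin n) A ⧸ I) →ₐ[A] B

variable {𝒞}

abbrev PObj.R (X : PObj 𝒞) : Type u := MvPolynomial (Fin X.n) A ⧸ X.I

instance (X : PObj 𝒞) : Algebra.FinitePresentation A X.R :=
  Algebra.FinitePresentation.quotient X.hI

noncomputable instance : Category (PObj 𝒞) where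
  Hom X Y := {h : X.R →ₐ[A] Y.R // Y.g.comp h = X.g}
  id X := ⟨AlgHom.id A _, AlgHom.comp_id _⟩
  comp f g := ⟨g.1.comp f.1, by rw [← AlgHom.comp_assoc, g.2, f.2]⟩
  id_comp f := Subtype.ext (AlgHom.comp_id _)
  comp_id f := Subtype.ext (AlgHom.id_comp _)
  assoc f g h := Subtype.ext (AlgHom.comp_assoc _ _ _).symm

lemma exists_pobj (C : Type u) [CommRing C] [Algebra A C] [Algebra.FinitePresentation A C]
    (hC : 𝒞.P C) (g : C →ₐ[A] B) :
    ∃ (X : PObj 𝒞) (e : X.R ≃ₐ[A] C), g.comp e.toAlgHom = X.g := by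
  obtain ⟨n, f, hf, hfg⟩ := Algebra.FinitePresentation.out (R := A) (A := C)
  let e : (MvPolynomial (Fin n) A ⧸ RingHom.ker f) ≃ₐ[A] C :=
    Ideal.quotientKerAlgEquivOfSurjective hf
  exact ⟨⟨n, RingHom.ker f, hfg, 𝒞.of_equiv e.symm hC, g.comp e.toAlgHom⟩, e, rfl⟩

instance : IsFiltered (PObj 𝒞) where
  nonempty := by
    obtain ⟨X, -, -⟩ := exists_pobj (𝒞 := 𝒞) A 𝒞.base (Algebra.ofId A B)
    exact ⟨X⟩
  cocone_objs X Y := by
    haveI : Algebra.FinitePresentation A (X.R ⊗[A] Y.R) :=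
      Algebra.FinitePresentation.trans A X.R (X.R ⊗[A] Y.R)
    obtain ⟨Z, e, he⟩ := exists_pobj (𝒞 := 𝒞) (X.R ⊗[A] Y.R) (𝒞.tensor X.g Y.g X.hP Y.hP)
      (Algebra.TensorProduct.lift X.g Y.g (fun _ _ => Commute.all _ _))
    refine ⟨Z, ⟨e.symm.toAlgHom.comp Algebra.TensorProduct.includeLeft, ?_⟩,
      ⟨e.symm.toAlgHom.comp Algebra.TensorProduct.includeRight, ?_⟩, trivial⟩
    · rw [← he]; ext x; simp
    · rw [← he]; ext x; simp
  cocone_maps {X Y} f g := by
    classical
    -- the ideal generated by the differences on the generators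
    let J : Ideal Y.R := Ideal.span (Set.range fun i : Fin X.n =>
      f.1 (Ideal.Quotient.mk _ (MvPolynomial.X i)) - g.1 (Ideal.Quotient.mk _ (MvPolynomial.X i)))
    have hJfg : J.FG := ⟨Finset.univ.image fun i : Fin X.n =>
      f.1 (Ideal.Quotient.mk _ (MvPolynomial.X i)) - g.1 (Ideal.Quotient.mk _ (MvPolynomial.X i)),
      by simp [J]⟩
    have hker : ∀ a ∈ J, Y.g a = 0 := by
      intro a ha
      have : J ≤ RingHom.ker Y.g.toRingHom := by
        rw [Ideal.span_le]
        rintro _ ⟨i, rfl⟩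
        have h1 := congrArg (fun φ => φ (Ideal.Quotient.mk _ (MvPolynomial.X i))) f.2
        have h2 := congrArg (fun φ => φ (Ideal.Quotient.mk _ (MvPolynomial.X i))) g.2
        simp only [AlgHom.comp_apply] at h1 h2
        simp [RingHom.mem_ker, map_sub, h1, h2]
      exact this ha
    -- the two composites to the quotient agree
    have hcoeq : (Ideal.Quotient.mkₐ A J).comp f.1 = (Ideal.Quotient.mkₐ A J).comp g.1 := by
      have hsurj : Function.Surjective (Ideal.Quotient.mkₐ A X.I) :=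
        Ideal.Quotient.mkₐ_surjective A X.I
      apply (AlgHom.cancel_right hsurj).mp
      apply MvPolynomial.algHom_ext
      intro i
      simp only [AlgHom.comp_apply, Ideal.Quotient.mkₐ_eq_mk]
      rw [Ideal.Quotient.eq]
      exact Ideal.subset_span ⟨i, rfl⟩
    haveI : Algebra.FinitePresentation A (Y.R ⧸ J) := Algebra.FinitePresentation.quotient hJfg
    obtain ⟨Z, e, he⟩ := exists_pobj (𝒞 := 𝒞) (Y.R ⧸ J) (𝒞.quot Y.g J hJfg hker Y.hP)
      (Ideal.Quotient.liftₐ J Y.g hker)
    refine ⟨Z, ⟨e.symm.toAlgHom.comp (Ideal.Quotient.mkₐ A J), ?_⟩, ?_⟩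
    · rw [← he]; ext x; simp
    · apply Subtype.ext
      show (e.symm.toAlgHom.comp (Ideal.Quotient.mkₐ A J)).comp f.1 =
        (e.symm.toAlgHom.comp (Ideal.Quotient.mkₐ A J)).comp g.1
      rw [AlgHom.comp_assoc, AlgHom.comp_assoc, hcoeq]

variable (𝒞) in
noncomputable def Dfun : PObj 𝒞 ⥤ Under (CommRingCat.of A) where
  obj X := Under.mk (CommRingCat.ofHom (algebraMap A X.R))
  map {X Y} f := Under.homMk (CommRingCat.ofHom f.1.toRingHom) (by
    ext a
    exact f.1.commutes a)
  map_id X := by ext x; rfl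
  map_comp f g := by ext x; rfl

variable (𝒞) in
noncomputable def cocone : Cocone (Dfun 𝒞) where
  pt := Under.mk (CommRingCat.ofHom (algebraMap A B))
  ι :=
    { app := fun X => Under.homMk (CommRingCat.ofHom X.g.toRingHom) (by
        ext a
        exact X.g.commutes a)
      naturality := fun X Y f => by
        ext x
        exact congrArg (fun φ => φ x) f.2 }

noncomputable def isCol
    (hlift : ∀ b : B, ∃ (C : Type u) (_ : CommRing C) (_ : Algebra A C)
      (_ : Algebra.FinitePresentation A C) (_ : 𝒞.P C) (g : C →ₐ[A] B) (c : C), g c = b) :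
    IsColimit (cocone 𝒞) := by
  refine isColimit_of_elementwise (Dfun 𝒞) (cocone 𝒞) ?_ ?_
  · intro (b : B)
    obtain ⟨C, _, _, _, hC, g, c, hc⟩ := hlift b
    obtain ⟨X, e, he⟩ := exists_pobj (𝒞 := 𝒞) C hC g
    refine ⟨X, e.symm c, ?_⟩
    show X.g (e.symm c) = b
    rw [← he]
    simp [hc]
  · intro X (y : X.R) (y' : X.R) (hy : X.g y = X.g y')
    have h0 : X.g (y - y') = 0 := by rw [map_sub, hy, sub_self]
    let J : Ideal X.R := Ideal.span {y - y'}
    have hker : ∀ a ∈ J, X.g a = 0 := by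
      intro a ha
      obtain ⟨r, rfl⟩ := Ideal.mem_span_singleton'.mp ha
      rw [map_mul, h0, mul_zero]
    have hJfg : J.FG := ⟨{y - y'}, by simp [J]⟩
    haveI : Algebra.FinitePresentation A (X.R ⧸ J) := Algebra.FinitePresentation.quotient hJfg
    obtain ⟨Z, e, he⟩ := exists_pobj (𝒞 := 𝒞) (X.R ⧸ J)
      (𝒞.quot X.g J hJfg hker X.hP) (Ideal.Quotient.liftₐ J X.g hker)
    refine ⟨Z, ⟨e.symm.toAlgHom.comp (Ideal.Quotient.mkₐ A J), ?_⟩, ?_⟩
    · rw [← he]; ext x; simp
    · show e.symm (Ideal.Quotient.mk J y) = e.symm (Ideal.Quotient.mk J y')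
      congr 1
      rw [Ideal.Quotient.eq]
      exact Ideal.subset_span rfl

/-- `B` is a filtered colimit of finitely presented members of the class. -/
theorem exists_filtered_colimit
    (hlift : ∀ b : B, ∃ (C : Type u) (_ : CommRing C) (_ : Algebra A C)
      (_ : Algebra.FinitePresentation A C) (_ : 𝒞.P C) (g : C →ₐ[A] B) (c : C), g c = b) :
    ∃ (J : Type u) (_ : SmallCategory J) (_ : IsFiltered J) (F : J ⥤ Under (CommRingCat.of A))
      (c : Limits.Cocone F) (_ : Limits.IsColimit c),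
      (∀ j, ∃ (_ : Algebra A (F.obj j).right), algebraMap A (F.obj j).right = (F.obj j).hom.hom ∧
        Algebra.FinitePresentation A (F.obj j).right ∧ 𝒞.P (F.obj j).right) ∧
      Nonempty (c.pt ≅ Under.mk (CommRingCat.ofHom (algebraMap A B))) :=
  ⟨PObj 𝒞, inferInstance, inferInstance, Dfun 𝒞, cocone 𝒞, isCol hlift,
    fun X => ⟨(inferInstance : Algebra A X.R), rfl,
      (inferInstance : Algebra.FinitePresentation A X.R), X.hP⟩, ⟨Iso.refl _⟩⟩

end Cat

end Groth.Agent.H4.FPColim
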