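import Mathlib
import Groth.Agent.H4.FR2
import Groth.Agent.H4.KD4
import Groth.Agent.H4.FB7

set_option autoImplicit false
universe u
open CategoryTheory Category Limits Pretriangulated TensorProduct

namespace Groth.Agent.H4.FR3

attribute [local instance] HasDerivedCategory.standard

open DRing DerivedCategory Groth.Agent.H4.FB2 Groth.Agent.H4.RD Groth.Agent.H4.US21

lemma flat_of_isPushout (R S R' S' : Type u) [CommRing R] [CommRing S] [CommRing R'] [CommRing S']
    [Algebra R S] [Algebra R R'] [Algebra S S'] [Algebra R' S'] [Algebra R S']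
    [IsScalarTower R S S'] [IsScalarTower R R' S'] [Algebra.IsPushout R S R' S']
    [Module.Flat R R'] : Module.Flat S S' :=
  Module.Flat.isBaseChange (R := R) (M := R') (S := S) S' Algebra.IsPushout.out

section S1800

variable (R R' A : Type u) [CommRing R] [CommRing R'] [CommRing A] [Algebra R R'] [Algebra R A]

attribute [local instance] MvPolynomial.algebraMvPolynomial Algebra.TensorProduct.rightAlgebra

/-- the canonical presentation of the base change. -/
noncomputable def psiBC (n : ℕ) (ψ : MvPolynomial (Fin n) R →ₐ[R] A) :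
    MvPolynomial (Fin n) R' →ₐ[R'] (R' ⊗[R] A) :=
  MvPolynomial.aeval (fun i => (1 : R') ⊗ₜ[R] ψ (MvPolynomial.X i))

lemma psiBC_map (n : ℕ) (ψ : MvPolynomial (Fin n) R →ₐ[R] A) (p : MvPolynomial (Fin n) R) :
    psiBC R R' A n ψ (MvPolynomial.map (algebraMap R R') p) = (1 : R') ⊗ₜ[R] ψ p := by
  have key : (psiBC R R' A n ψ).toRingHom.comp (MvPolynomial.map (algebraMap R R')) =
      (Algebra.TensorProduct.includeRight : A →ₐ[R] R' ⊗[R] A).toRingHom.comp ψ.toRingHom := by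
    refine MvPolynomial.ringHom_ext (fun r => ?_) (fun i => ?_)
    · change psiBC R R' A n ψ (MvPolynomial.map (algebraMap R R') (MvPolynomial.C r)) =
        (1 : R') ⊗ₜ[R] ψ (MvPolynomial.C r)
      rw [MvPolynomial.map_C, ← MvPolynomial.algebraMap_eq, ← MvPolynomial.algebraMap_eq,
        AlgHom.commutes, AlgHom.commutes, Algebra.TensorProduct.algebraMap_apply,
        Algebra.algebraMap_self, RingHom.id_apply, Algebra.algebraMap_eq_smul_one r,
        Algebra.algebraMap_eq_smul_one r, TensorProduct.tmul_smul, TensorProduct.smul_tmul']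
    · change psiBC R R' A n ψ (MvPolynomial.map (algebraMap R R') (MvPolynomial.X i)) =
        (1 : R') ⊗ₜ[R] ψ (MvPolynomial.X i)
      rw [MvPolynomial.map_X]
      exact MvPolynomial.aeval_X _ i
  exact RingHom.congr_fun key p

lemma psiBC_surjective (n : ℕ) (ψ : MvPolynomial (Fin n) R →ₐ[R] A)
    (hψ : Function.Surjective ψ) : Function.Surjective (psiBC R R' A n ψ) := by
  intro t
  induction t using TensorProduct.induction_on with
  | zero => exact ⟨0, map_zero _⟩
  | tmul r' a =>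
    obtain ⟨p, rfl⟩ := hψ a
    refine ⟨r' • MvPolynomial.map (algebraMap R R') p, ?_⟩
    rw [map_smul, psiBC_map, TensorProduct.smul_tmul', smul_eq_mul, mul_one]
  | add x y hx hy =>
    obtain ⟨p, rfl⟩ := hx
    obtain ⟨q, rfl⟩ := hy
    exact ⟨p + q, map_add _ _ _⟩

end S1800

section main

variable (R R' A : Type u) [CommRing R] [CommRing R'] [CommRing A] [IsNoetherianRing R]
  [Algebra R R'] [Module.Flat R R'] [Algebra R A]
  (n : ℕ) (ψ : MvPolynomial (Fin n) R →ₐ[R] A) (hψ : Function.Surjective ψ)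
  (Rψ : Dual.D (MvPolynomial (Fin n) R) ⥤ Dual.D A) (adj : DRing.restrictD ψ.toRingHom ⊣ Rψ)
  (Rψ₁ : Dual.D (MvPolynomial (Fin n) R') ⥤ Dual.D (R' ⊗[R] A))
  (adj₁ : DRing.restrictD (psiBC R R' A n ψ).toRingHom ⊣ Rψ₁)

attribute [local instance] MvPolynomial.algebraMvPolynomial Algebra.TensorProduct.rightAlgebra

instance flat_right : Module.Flat A (R' ⊗[R] A) := flat_of_isPushout R A R' (R' ⊗[R] A)

include hψ adj adj₁ in
theorem key (K : Dual.D R) (c : ℤ) [K.IsGE c] :
    Nonempty ((E A (R' ⊗[R] A)).obj (Rψ.obj ((E R (MvPolynomial (Fin n) R)).obj K)) ≅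
      Rψ₁.obj ((E R' (MvPolynomial (Fin n) R')).obj ((E R R').obj K))) := by
  letI : Algebra (MvPolynomial (Fin n) R) A := ψ.toRingHom.toAlgebra
  letI : Algebra (MvPolynomial (Fin n) R') (R' ⊗[R] A) := (psiBC R R' A n ψ).toRingHom.toAlgebra
  letI : Algebra (MvPolynomial (Fin n) R) (R' ⊗[R] A) :=
    ((algebraMap A (R' ⊗[R] A)).comp ψ.toRingHom).toAlgebra
  haveI : IsScalarTower (MvPolynomial (Fin n) R) A (R' ⊗[R] A) :=
    IsScalarTower.of_algebraMap_eq (fun p => rfl)
  haveI : IsScalarTower (MvPolynomial (Fin n) R) (MvPolynomial (Fin n) R') (R' ⊗[R] A) :=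
    IsScalarTower.of_algebraMap_eq (fun p => (psiBC_map R R' A n ψ p).symm)
  haveI : IsScalarTower R (MvPolynomial (Fin n) R) A :=
    IsScalarTower.of_algebraMap_eq (fun r => (ψ.commutes r).symm)
  haveI : IsScalarTower R' (MvPolynomial (Fin n) R') (R' ⊗[R] A) :=
    IsScalarTower.of_algebraMap_eq (fun r => ((psiBC R R' A n ψ).commutes r).symm)
  haveI : IsScalarTower R A (R' ⊗[R] A) := inferInstance
  haveI : IsScalarTower R (MvPolynomial (Fin n) R') (R' ⊗[R] A) := by
    refine IsScalarTower.of_algebraMap_eq (fun r => ?_)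
    rw [IsScalarTower.algebraMap_apply R R' (R' ⊗[R] A),
      IsScalarTower.algebraMap_apply R R' (MvPolynomial (Fin n) R'),
      ← IsScalarTower.algebraMap_apply R' (MvPolynomial (Fin n) R') (R' ⊗[R] A)]
  haveI : Algebra.IsPushout (MvPolynomial (Fin n) R) (MvPolynomial (Fin n) R') A (R' ⊗[R] A) := by
    have h1 : Algebra.IsPushout R A R' (R' ⊗[R] A) := inferInstance
    have h2 : Algebra.IsPushout (MvPolynomial (Fin n) R) A (MvPolynomial (Fin n) R')
        (R' ⊗[R] A) :=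
      (Algebra.IsPushout.comp_iff R (MvPolynomial (Fin n) R) R' (MvPolynomial (Fin n) R')
        (T := A) (T' := R' ⊗[R] A)).1 h1
    exact h2.symm
  haveI : Module.Flat (MvPolynomial (Fin n) R) (MvPolynomial (Fin n) R') :=
    flat_of_isPushout R (MvPolynomial (Fin n) R) R' (MvPolynomial (Fin n) R')
  haveI : Module.Finite (MvPolynomial (Fin n) R) A :=
    Module.Finite.of_surjective (Algebra.linearMap (MvPolynomial (Fin n) R) A) hψ
  haveI : Module.Flat R (MvPolynomial (Fin n) R') :=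
    Module.Flat.trans R R' (MvPolynomial (Fin n) R')
  haveI : ((E R (MvPolynomial (Fin n) R)).obj K).IsGE c := Groth.Agent.H4.FB7.isGE_E K c
  obtain ⟨e⟩ := Groth.Agent.H4.FR2.nonempty_iso (MvPolynomial (Fin n) R) (MvPolynomial (Fin n) R') A (R' ⊗[R] A)
    Rψ adj Rψ₁ adj₁ ((E R (MvPolynomial (Fin n) R)).obj K) c
  exact ⟨e ≪≫ Rψ₁.mapIso
    ((ETowerIso R (MvPolynomial (Fin n) R) (MvPolynomial (Fin n) R') K).symm ≪≫
      ETowerIso R R' (MvPolynomial (Fin n) R') K)⟩

include hψ adj in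
theorem S1800 [IsNoetherianRing R'] [IsNoetherianRing A] [IsNoetherianRing (R' ⊗[R] A)]
    [DRing.HasLBaseChange (algebraMap R (MvPolynomial (Fin n) R))]
    (m : ℕ) (ψ' : MvPolynomial (Fin m) R' →ₐ[R'] (R' ⊗[R] A)) (hψ' : Function.Surjective ψ')
    [DRing.HasLBaseChange (algebraMap R' (MvPolynomial (Fin m) R'))]
    (Rψ' : Dual.D (MvPolynomial (Fin m) R') ⥤ Dual.D (R' ⊗[R] A))
    (adj' : DRing.restrictD ψ'.toRingHom ⊣ Rψ')
    [DRing.HasLBaseChange (Algebra.TensorProduct.includeRight : A →ₐ[R] R' ⊗[R] A).toRingHom]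
    [DRing.HasLBaseChange (algebraMap R R')] (K : Dual.D R) (c : ℤ)
    (hK : ∀ i : ℤ, i < c → Subsingleton (Dual.HD R K i)) :
    Nonempty ((DRing.LBaseChange
        (Algebra.TensorProduct.includeRight : A →ₐ[R] R' ⊗[R] A).toRingHom).obj
          (Dual2.shriekVia n Rψ K) ≅
      Dual2.shriekVia m Rψ' ((DRing.LBaseChange (algebraMap R R')).obj K)) := by
  haveI : K.IsGE c := by
    rw [isGE_iff]
    intro j hj
    haveI := hK j hj
    exact ModuleCat.isZero_of_subsingleton _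
  haveI : DRing.HasLBaseChange (algebraMap A (R' ⊗[R] A)) :=
    ‹DRing.HasLBaseChange (Algebra.TensorProduct.includeRight : A →ₐ[R] R' ⊗[R] A).toRingHom›
  let ψ₁ := psiBC R R' A n ψ
  let Rψ₁ := Groth.Agent.H4.RAdj.R₀ ψ₁.toRingHom
  let adj₁ : DRing.restrictD ψ₁.toRingHom ⊣ Rψ₁ := Groth.Agent.H4.RAdj.adjR₀ ψ₁.toRingHom
  obtain ⟨e1⟩ := key R R' A n ψ hψ Rψ adj Rψ₁ adj₁ K c
  obtain ⟨e2⟩ := Groth.Agent.H4.KD4.nonempty_iso_presentations R' (R' ⊗[R] A) n ψ₁
    (psiBC_surjective R R' A n ψ hψ) Rψ₁ adj₁ m ψ' hψ' Rψ' adj' ((E R R').obj K)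
  have e0 : (DRing.LBaseChange
      (Algebra.TensorProduct.includeRight : A →ₐ[R] R' ⊗[R] A).toRingHom).obj
        (Dual2.shriekVia n Rψ K) ≅ (E A (R' ⊗[R] A)).obj (Dual2.shriekVia n Rψ K) :=
    LBCIso (A := A) (B := R' ⊗[R] A) (Dual2.shriekVia n Rψ K)
  exact ⟨e0 ≪≫
    (E A (R' ⊗[R] A)).mapIso ((shiftFunctor _ (n : ℤ)).mapIso (Rψ.mapIso (LBCIso K))) ≪≫
    EShiftIso _ (n : ℤ) ≪≫ (shiftFunctor _ (n : ℤ)).mapIso e1 ≪≫ e2 ≪≫
    (shiftFunctor _ (m : ℤ)).mapIso (Rψ'.mapIso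
      ((E R' (MvPolynomial (Fin m) R')).mapIso (LBCIso K).symm ≪≫ (LBCIso _).symm))⟩

end main

end Groth.Agent.H4.FR3
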