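import Mathlib
import Groth.Agent.H4.FlatFam2
import Groth.Agent.H4.BC2
import Groth.Agent.H4.KProj5
import Groth.Agent.H4.LocalPerf2
import Groth.Agent.H4.FlatAcyc3
import Groth.Agent.H4.Perf1

/-!
# Perfectness and tor amplitude from the fibres at maximal ideals (Stacks 068V), with
transitivity of derived base change, Nakayama-type detection of boundedness above
-/


set_option autoImplicit false
universe u
open CategoryTheory CategoryTheory.Limits MonoidalCategory TensorProduct

namespace Groth.Agent.H4.FibPerf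

attribute [local instance] HasDerivedCategory.standard
open DerivedCategory DRing Groth.Agent.H4.LDer Groth.Agent.H4.PC Groth.Agent.H4.BC
  Groth.Agent.H4.PCDesc Groth.Agent.H4.FlatFam

variable {A B C : Type u} [CommRing A] [CommRing B] [CommRing C]

/-- extension of scalars along a composite, on complexes. -/
noncomputable def extCompCx (φ : A →+* B) (ψ : B →+* C) (X : Cx A) :
    (GC (ModuleCat.extendScalars.{u, u, u} (ψ.comp φ))).obj X ≅
      (GC (ModuleCat.extendScalars.{u, u, u} ψ)).obj
        ((GC (ModuleCat.extendScalars.{u, u, u} φ)).obj X) :=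
  HomologicalComplex.Hom.isoOfComponents
    (fun i => (ModuleCat.extendScalarsComp φ ψ).app (X.X i))
    (fun i j _ => by
      have := (ModuleCat.extendScalarsComp φ ψ).hom.naturality (X.d i j)
      exact this.symm)

/-- transitivity of derived base change. -/
theorem nonempty_LBCComp (φ : A →+* B) (ψ : B →+* C) [DRing.HasLBaseChange φ]
    [DRing.HasLBaseChange ψ] [DRing.HasLBaseChange (ψ.comp φ)] (K : Dual.D A) :
    Nonempty ((DRing.LBaseChange ψ).obj ((DRing.LBaseChange φ).obj K) ≅
      (DRing.LBaseChange (ψ.comp φ)).obj K) := by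
  obtain ⟨P, hP, ⟨e⟩⟩ := Groth.Agent.H4.KProj.exists_kproj_iso K
  have e1 := isoOfIso (ModuleCat.extendScalars.{u, u, u} φ) P e
  have e2 := isoOfIso (ModuleCat.extendScalars.{u, u, u} ψ) _ e1.symm
  have e3 := isoOfIso (ModuleCat.extendScalars.{u, u, u} (ψ.comp φ)) P e
  exact ⟨e2 ≪≫ Q.mapIso (extCompCx φ ψ P).symm ≪≫ e3.symm⟩

/-- flat base change preserves vanishing of cohomology. -/
theorem isZero_homology_LBC_of_flat (ψ : B →+* C) (hψ : ψ.Flat) [DRing.HasLBaseChange ψ]
    (L : Dual.D B) (i : ℤ) (h : IsZero ((homologyFunctor (ModuleCat.{u} B) i).obj L)) :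
    IsZero ((homologyFunctor (ModuleCat.{u} C) i).obj ((DRing.LBaseChange ψ).obj L)) := by
  let X := Q.objPreimage L
  let e : toD X ≅ L := Q.objObjPreimageIso L
  haveI := preservesFiniteLimits_extendScalars ψ hψ
  have e1 : (DRing.LBaseChange ψ).obj L ≅
      toD ((GC (ModuleCat.extendScalars.{u, u, u} ψ)).obj X) :=
    (DRing.LBaseChange ψ).mapIso e.symm ≪≫ isoOfFlatMap ψ hψ X
  have h1 : IsZero (X.homology i) :=
    (h.of_iso ((homologyFunctor (ModuleCat.{u} B) i).mapIso e)).of_iso (homologyToDIso X i).symm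
  have h2 : IsZero (((GC (ModuleCat.extendScalars.{u, u, u} ψ)).obj X).homology i) :=
    ((ModuleCat.extendScalars.{u, u, u} ψ).map_isZero h1).of_iso
      ((X.sc i).mapHomologyIso (ModuleCat.extendScalars.{u, u, u} ψ))
  exact (h2.of_iso (homologyToDIso _ i)).of_iso
    ((homologyFunctor (ModuleCat.{u} C) i).mapIso e1)

/-- for `E` vanishing above `b`, vanishing of `H^b(C ⊗ E)` implies that of `C ⊗ H^b(E)`. -/
lemma isZero_ext_homology_top (φ : A →+* B) (E : Cx A) (b : ℤ) (hE : ∀ i, b < i → IsZero (E.X i))
    (h : IsZero (((GC (ModuleCat.extendScalars.{u, u, u} φ)).obj E).homology b)) :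
    IsZero ((ModuleCat.extendScalars.{u, u, u} φ).obj (E.homology b)) := by
  set G := ModuleCat.extendScalars.{u, u, u} φ with hG
  set E' := (GC G).obj E with hE'
  have hd : E.d b (b + 1) = 0 := (hE (b + 1) (by omega)).eq_of_tgt _ _
  have hd' : E'.d b (b + 1) = 0 := (G.map_isZero (hE (b + 1) (by omega))).eq_of_tgt _ _
  have e1 : E.homology b ≅ E.opcycles b := E.isoHomologyι b (b + 1) (by simp) hd
  have e2 : E'.homology b ≅ E'.opcycles b := E'.isoHomologyι b (b + 1) (by simp) hd'
  let k : E'.opcycles b ⟶ G.obj (E.opcycles b) :=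
    E'.descOpcycles (G.map (E.pOpcycles b)) (b - 1) (by simp) (by
      change G.map (E.d (b - 1) b) ≫ G.map (E.pOpcycles b) = 0
      rw [← G.map_comp, E.d_pOpcycles, G.map_zero])
  have hk : E'.pOpcycles b ≫ k = G.map (E.pOpcycles b) := E'.p_descOpcycles _ _ _ _
  haveI : Epi (E'.pOpcycles b ≫ k) := by rw [hk]; exact epi_extendScalars_map φ _
  haveI : Epi k := epi_of_epi (E'.pOpcycles b) k
  have h1 : IsZero (E'.opcycles b) := h.of_iso e2.symm
  have h2 : IsZero (G.obj (E.opcycles b)) := IsZero.of_epi k h1
  exact h2.of_iso (G.mapIso e1)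

/-- top-degree base change: vanishing of `H^b(K ⊗^L B)` implies that of `B ⊗ H^b(K)`
for `K ∈ D^{≤ b}`. -/
lemma isZero_ext_top (ψ : A →+* B) [DRing.HasLBaseChange ψ] (K : Dual.D A) (b : ℤ) [K.IsLE b]
    (h1 : IsZero ((homologyFunctor (ModuleCat.{u} B) b).obj ((DRing.LBaseChange ψ).obj K))) :
    IsZero ((ModuleCat.extendScalars.{u, u, u} ψ).obj
      ((homologyFunctor (ModuleCat.{u} A) b).obj K)) := by
  set G := ModuleCat.extendScalars.{u, u, u} ψ with hG
  obtain ⟨P, hP, ⟨e⟩⟩ := Groth.Agent.H4.ResP.exists_iso_of_isLE K b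
  haveI := hP.isKProjective
  have e1 := isoOfIso G P e
  have h2 : IsZero (((GC G).obj P).homology b) :=
    (h1.of_iso ((homologyFunctor (ModuleCat.{u} B) b).mapIso e1.symm)).of_iso
      (homologyToDIso _ b).symm
  have h3 := isZero_ext_homology_top ψ P b hP.1 h2
  have e2 : P.homology b ≅ (homologyFunctor (ModuleCat.{u} A) b).obj K :=
    (homologyToDIso P b).symm ≪≫ (homologyFunctor (ModuleCat.{u} A) b).mapIso e
  exact h3.of_iso (G.mapIso e2.symm)

/-- a pseudo-coherent object of `D^{≤ b}` is represented by a complex of finite free modules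
vanishing above `b`. -/
theorem exists_rep_of_isLE (K : Dual.D A) (h : ∀ m : ℤ, IsPseudoCoherent A m K) (b : ℤ) [K.IsLE b] :
    ∃ E : Cx A, VanishesAbove E b ∧ TermwiseFiniteFree E ∧ Nonempty (toD E ≅ K) := by
  let X := Q.objPreimage K
  let e : toD X ≅ K := Q.objObjPreimageIso K
  have hX : ∀ m : ℤ, IsPseudoCoherent A m (toD X) := fun m => isPC_of_iso e.symm (h m)
  have hb : ∀ i : ℤ, b < i → IsZero ((homologyFunctor (ModuleCat.{u} A) i).obj (toD X)) :=
    fun i hi => (isZero_of_isLE K b i hi).of_iso ((homologyFunctor (ModuleCat.{u} A) i).mapIso e)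
  haveI := quasiIso_ainf hX hb
  exact ⟨Einf hX hb, Einf_isZero hX hb, Einf_finiteFree hX hb,
    ⟨asIso (Q.map (ainf hX hb)) ≪≫ e⟩⟩

/-- detection of boundedness above by a family of base changes satisfying Nakayama's lemma. -/
theorem isLE_of_isLE_LBC_of_nakayama {ι : Type*} {B : ι → Type u} [∀ j, CommRing (B j)]
    (ψ : ∀ j, A →+* B j) [∀ j, DRing.HasLBaseChange (ψ j)]
    (hnak : ∀ M : ModuleCat.{u} A, Module.Finite A M →
      (∀ j, IsZero ((ModuleCat.extendScalars.{u, u, u} (ψ j)).obj M)) → IsZero M)
    (K : Dual.D A) (hK : ∀ m : ℤ, IsPseudoCoherent A m K) (b : ℤ)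
    (h : ∀ j, ((DRing.LBaseChange (ψ j)).obj K).IsLE b) : K.IsLE b := by
  have key : ∀ (d : ℕ) (t : ℤ), t ≤ b + d → K.IsLE t → K.IsLE b := by
    intro d
    induction d with
    | zero =>
      intro t ht hKt
      exact TStructure.t.isLE_of_le K t b (by simpa using ht)
    | succ d ih =>
      intro t ht hKt
      by_cases htb : t ≤ b
      · exact TStructure.t.isLE_of_le K t b htb
      · have hfin : Module.Finite A ((homologyFunctor (ModuleCat.{u} A) t).obj K) :=
          finite_homology K t (hK t) (fun i hi => isZero_of_isLE K t i hi)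
        have hz : IsZero ((homologyFunctor (ModuleCat.{u} A) t).obj K) := by
          refine hnak _ hfin (fun j => ?_)
          haveI := h j
          exact isZero_ext_top (ψ j) K t (isZero_of_isLE _ b t (by omega))
        refine ih (t - 1) (by push_cast at ht; omega) ?_
        refine isLE_of_forall_isZero K (t - 1) (fun i hi => ?_)
        by_cases hit : i = t
        · subst hit; exact hz
        · exact isZero_of_isLE K t i (by omega)
  obtain ⟨b', hb'⟩ := exists_bound_of_isPC (hK 0)
  have hK' : K.IsLE b' := isLE_of_forall_isZero K b' hb'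
  exact key (b' - b).toNat b' (by have := Int.self_le_toNat (b' - b); omega) hK'

/-- Nakayama over a local ring, in `ModuleCat` form. -/
theorem isZero_of_isZero_ext_residue (R : Type u) [CommRing R] [IsLocalRing R] (M : ModuleCat.{u} R)
    (hM : Module.Finite R M)
    (h : IsZero ((ModuleCat.extendScalars.{u, u, u} (IsLocalRing.residue R)).obj M)) : IsZero M := by
  haveI : Subsingleton (IsLocalRing.ResidueField R ⊗[R] M) :=
    (Groth.Agent.H8.ExtBridge.extEquiv (A := R) (B := IsLocalRing.ResidueField R)
      M).symm.toEquiv.subsingleton_congr.2 (ModuleCat.subsingleton_of_isZero h)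
  haveI : Subsingleton M := (IsLocalRing.subsingleton_tensorProduct (R := R) (M := M)).1 inferInstance
  exact ModuleCat.isZero_of_subsingleton M

/-- global Nakayama: a finite module all of whose fibres at maximal ideals vanish is zero. -/
theorem isZero_of_isZero_ext_maximal (R : Type u) [CommRing R] (M : ModuleCat.{u} R)
    (hM : Module.Finite R M)
    (h : ∀ m : Ideal R, m.IsMaximal →
      IsZero ((ModuleCat.extendScalars.{u, u, u} (Ideal.Quotient.mk m)).obj M)) : IsZero M := by
  have hann : (Module.annihilator R M) = ⊤ := by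
    by_contra hne
    obtain ⟨m, hm, hle⟩ := Ideal.exists_le_maximal _ hne
    haveI : Subsingleton ((R ⧸ m) ⊗[R] M) :=
      (Groth.Agent.H8.ExtBridge.extEquiv (A := R) (B := R ⧸ m)
        M).symm.toEquiv.subsingleton_congr.2 (ModuleCat.subsingleton_of_isZero (h m hm))
    haveI : Subsingleton (M ⧸ (m • (⊤ : Submodule R M))) :=
      (TensorProduct.quotTensorEquivQuotSMul M m).symm.toEquiv.subsingleton_congr.2 inferInstance
    have htop : m • (⊤ : Submodule R M) = ⊤ := Submodule.Quotient.subsingleton_iff.1 inferInstance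
    obtain ⟨r, hr1, hr2⟩ := Submodule.exists_sub_one_mem_and_smul_eq_zero_of_fg_of_le_smul m
      (⊤ : Submodule R M) hM.fg_top (by rw [htop])
    have hr : r ∈ Module.annihilator R M := by
      rw [Module.mem_annihilator]
      exact fun x => hr2 x trivial
    have h1 : (1 : R) ∈ m := by
      have := m.sub_mem (hle hr) hr1
      simpa using this
    exact hm.ne_top ((Ideal.eq_top_iff_one m).2 h1)
  haveI : Subsingleton M := by
    refine ⟨fun x y => ?_⟩
    have h1 : (1 : R) ∈ Module.annihilator R M := by rw [hann]; trivial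
    rw [Module.mem_annihilator] at h1
    rw [← one_smul R x, ← one_smul R y, h1 x, h1 y]
  exact ModuleCat.isZero_of_subsingleton M

open Groth.Agent.H4.LocalPerf Groth.Agent.H4.DRing1 in
/-- the residue field, as an `R`-module through restriction of scalars, is the residue field. -/
noncomputable def resEquiv (R : Type u) [CommRing R] [IsLocalRing R] :
    ((ModuleCat.restrictScalars (IsLocalRing.residue R)).obj
      (ModuleCat.of (IsLocalRing.ResidueField R) (IsLocalRing.ResidueField R))) ≃ₗ[R]
      IsLocalRing.ResidueField R where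
  toFun x := x
  invFun x := x
  left_inv _ := rfl
  right_inv _ := rfl
  map_add' _ _ := rfl
  map_smul' r x := by
    rw [ModuleCat.restrictScalars.smul_def, RingHom.id_apply, Algebra.smul_def]
    rfl

open Groth.Agent.H4.LocalPerf Groth.Agent.H4.DRing1 in
/-- over a local ring, a pseudo-coherent object of `D^{≤ b}` whose fibre has no cohomology in degrees
`< a` is perfect of tor amplitude in `[a, b]`. -/
theorem isPerfect_of_local (R : Type u) [CommRing R] [IsLocalRing R]
    [DRing.HasLBaseChange (IsLocalRing.residue R)] (K : Dual.D R)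
    (hK : ∀ m : ℤ, IsPseudoCoherent R m K) (a b : ℤ) [K.IsLE b]
    (h : ∀ i : ℤ, i < a → IsZero ((homologyFunctor (ModuleCat.{u} (IsLocalRing.ResidueField R)) i).obj
      ((DRing.LBaseChange (IsLocalRing.residue R)).obj K))) :
    IsPerfect R K ∧ HasTorAmplitudeIn R a b K := by
  obtain ⟨E, hb, hE, ⟨e⟩⟩ := exists_rep_of_isLE K hK b
  haveI : E.IsKProjective := isKProjective_of_vanishesAbove_projective E b hb
    (fun i => by haveI := (hE i).2; infer_instance)
  have e' := isoOfIso (ModuleCat.extendScalars (IsLocalRing.residue R)) E e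
  have hex : ∀ i : ℤ, i < a →
      ((GC (ModuleCat.extendScalars (IsLocalRing.residue R))).obj E).ExactAt i := by
    intro i hi
    rw [HomologicalComplex.exactAt_iff_isZero_homology]
    exact ((h i hi).of_iso ((homologyFunctor _ i).mapIso e'.symm)).of_iso (homologyToDIso _ i).symm
  have key : ∀ i j k : ℤ, i + 1 = j → j + 1 = k → j < a →
      Function.Exact (E.d i j).hom (E.d j k).hom ∧
        Module.Free R (E.X k ⧸ LinearMap.range (E.d j k).hom) := by
    intro i j k hij hjk hj
    haveI := (hE j).1
    haveI := (hE k).1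
    haveI := (hE k).2
    refine exact_and_free_coker' (E.d i j).hom (E.d j k).hom ?_ _ (resEquiv R) ?_
    · rw [← ModuleCat.hom_comp, E.d_comp_d]; rfl
    · exact Groth.Agent.H4.FlatAcyc.exact_d_of_exactAt _ i j k hij hjk (hex j hj)
  have hfree := (key (a - 2) (a - 1) a (by omega) (by omega) (by omega)).2
  have hres := isPerfect_of_exactAt E a b hb
    (fun i => ⟨(hE i).1, by haveI := (hE i).2; infer_instance⟩)
    (fun i hi => Groth.Agent.H4.FlatAcyc.exactAt_of_exact_d E (i - 1) i (i + 1) (by omega) rfl
      (key (i - 1) i (i + 1) (by omega) rfl hi).1) inferInstance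
  exact ⟨isPerfect_of_iso e hres.1, Groth.Agent.H4.TorAmp.hasTorAmp_of_iso e hres.2⟩

/-- localizations at all maximal ideals form a jointly faithfully flat family. -/
theorem jff_maximal (R : Type u) [CommRing R] :
    JFF (B := fun m : MaximalSpectrum R => Localization.AtPrime m.asIdeal)
      (fun m => algebraMap R (Localization.AtPrime m.asIdeal)) where
  flat := fun m => (RingHom.flat_algebraMap_iff).2
    (IsLocalization.flat _ m.asIdeal.primeCompl)
  refl := fun Q h => by
    haveI : Subsingleton Q := by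
      refine Module.subsingleton_of_localization_maximal
        (fun P _ => Localization.AtPrime P ⊗[R] Q)
        (fun P _ => TensorProduct.mk R (Localization.AtPrime P) Q 1) (fun P hP => ?_)
      exact (Groth.Agent.H8.ExtBridge.extEquiv (A := R) (B := Localization.AtPrime P)
          Q).symm.toEquiv.subsingleton_congr.2 (ModuleCat.subsingleton_of_isZero (h ⟨P, hP⟩))
    exact ModuleCat.isZero_of_subsingleton Q

section TorAmp

open Groth.Agent.H4.TV

variable {ι : Type*} {B : ι → Type u} [∀ i, CommRing (B i)] {φ : ∀ i, A →+* B i}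
  [∀ i, DRing.HasLBaseChange (φ i)]

/-- **Descent of tor amplitude** along a jointly faithfully flat family (any index type). -/
theorem hasTorAmp_of_jff (hφ : JFF φ) (K : Dual.D A) (a b : ℤ)
    (h : ∀ i, HasTorAmplitudeIn (B i) a b ((DRing.LBaseChange (φ i)).obj K)) :
    HasTorAmplitudeIn A a b K := by
  haveI : ∀ M : ModuleCat.{u} A, (Gh (tensorRight M)).HasLeftDerivedFunctor (WA A) :=
    fun M => Groth.Agent.H4.KProj.hasLeftDerivedFunctor _
  haveI : ∀ i, ∀ M : ModuleCat.{u} (B i), (Gh (tensorRight M)).HasLeftDerivedFunctor (WA (B i)) :=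
    fun i M => Groth.Agent.H4.KProj.hasLeftDerivedFunctor _
  rw [Groth.Agent.H4.TorAmp.hasTorAmp_iff]
  intro M j hj
  obtain ⟨T, hT, hf, ⟨e⟩⟩ := Groth.Agent.H4.KProj.exists_kproj_free_iso K
  rw [HV_iff_TV T e]
  refine hφ.exactAt _ j (fun i => ?_)
  refine exactAt_of_iso (extTensIso (φ i) T M).symm j ?_
  have e' : toD ((GC (ModuleCat.extendScalars.{u, u, u} (φ i))).obj T) ≅
      (DRing.LBaseChange (φ i)).obj K := (isoOfIso (ModuleCat.extendScalars.{u, u, u} (φ i)) T e).symm
  have h1 := (Groth.Agent.H4.TorAmp.hasTorAmp_iff _ a b).1 (h i)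
    ((ModuleCat.extendScalars.{u, u, u} (φ i)).obj M) j hj
  exact (HV_iff_TV _ e' _ j).1 h1

end TorAmp

section Fibres

/-- derived base change exists (local instance). -/
local instance instHasLBC {A B : Type u} [CommRing A] [CommRing B] (φ : A →+* B) :
    DRing.HasLBaseChange φ := Groth.Agent.H4.KProj.hasLBaseChange φ

lemma nonempty_LBC_congr {f g : A →+* B} (h : f = g) (K : Dual.D A) :
    Nonempty ((DRing.LBaseChange f).obj K ≅ (DRing.LBaseChange g).obj K) := by
  subst h
  exact ⟨Iso.refl _⟩

/-- vanishing of the cohomology of the fibre at a maximal ideal passes to the localization. -/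
theorem isZero_homology_fibre_localization (R : Type u) [CommRing R] (K : Dual.D R) (m : Ideal R)
    [hm : m.IsMaximal] (i : ℤ)
    (h : IsZero ((homologyFunctor (ModuleCat.{u} (R ⧸ m)) i).obj
      ((DRing.LBaseChange (Ideal.Quotient.mk m)).obj K))) :
    IsZero ((homologyFunctor (ModuleCat.{u}
        (IsLocalRing.ResidueField (Localization.AtPrime m))) i).obj
      ((DRing.LBaseChange (IsLocalRing.residue (Localization.AtPrime m))).obj
        ((DRing.LBaseChange (algebraMap R (Localization.AtPrime m))).obj K))) := by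
  let f : R →+* IsLocalRing.ResidueField (Localization.AtPrime m) :=
    (IsLocalRing.residue (Localization.AtPrime m)).comp (algebraMap R (Localization.AtPrime m))
  have hf : ∀ x : R, x ∈ m → f x = 0 := by
    intro x hx
    change IsLocalRing.residue _ (algebraMap R (Localization.AtPrime m) x) = 0
    rw [IsLocalRing.residue_eq_zero_iff]
    exact (IsLocalization.AtPrime.to_map_mem_maximal_iff (Localization.AtPrime m) m x).2 hx
  let ρ : R ⧸ m →+* IsLocalRing.ResidueField (Localization.AtPrime m) := Ideal.Quotient.lift m f hf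
  have hρ : ρ.comp (Ideal.Quotient.mk m) = f := Ideal.Quotient.lift_comp_mk m f hf
  letI : Field (R ⧸ m) := Ideal.Quotient.field m
  have hfl : ρ.Flat := by
    letI := ρ.toAlgebra
    change Module.Flat (R ⧸ m) (IsLocalRing.ResidueField (Localization.AtPrime m))
    infer_instance
  obtain ⟨e1⟩ := nonempty_LBCComp (algebraMap R (Localization.AtPrime m))
    (IsLocalRing.residue (Localization.AtPrime m)) K
  obtain ⟨e2⟩ := nonempty_LBC_congr hρ.symm K
  obtain ⟨e3⟩ := nonempty_LBCComp (Ideal.Quotient.mk m) ρ K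
  have h1 := isZero_homology_LBC_of_flat ρ hfl _ i h
  exact h1.of_iso ((homologyFunctor _ i).mapIso (e1 ≪≫ e2 ≪≫ e3.symm))

/-- **Stacks 068V**: a pseudo-coherent object whose fibres at all maximal ideals have cohomology
only in `[a, b]` is perfect of tor amplitude in `[a, b]`. -/
theorem isPerfect_of_fibres (R : Type u) [CommRing R] (K : Dual.D R)
    (hK : IsPseudoCoherent' R K) (a b : ℤ)
    (h : ∀ (m : Ideal R), m.IsMaximal → ∀ i : ℤ, (i < a ∨ b < i) →
      IsZero ((homologyFunctor (ModuleCat.{u} (R ⧸ m)) i).obj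
        ((DRing.LBaseChange (Ideal.Quotient.mk m)).obj K))) :
    IsPerfect R K ∧ HasTorAmplitudeIn R a b K := by
  have hKm : ∀ j : ℤ, IsPseudoCoherent R j K := isPC_of_isPC' K hK
  haveI hle : K.IsLE b := by
    refine isLE_of_isLE_LBC_of_nakayama
      (B := fun m : MaximalSpectrum R => R ⧸ m.asIdeal)
      (fun m => Ideal.Quotient.mk m.asIdeal) ?_ K hKm b (fun m => ?_)
    · intro M hM hz
      exact isZero_of_isZero_ext_maximal R M hM (fun m hm => hz ⟨m, hm⟩)
    · exact isLE_of_forall_isZero _ b (fun i hi => h m.asIdeal m.isMaximal i (Or.inr hi))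
  have htor : HasTorAmplitudeIn R a b K := by
    refine hasTorAmp_of_jff (jff_maximal R) K a b (fun m => ?_)
    haveI : ((DRing.LBaseChange (algebraMap R (Localization.AtPrime m.asIdeal))).obj K).IsLE b :=
      isLE_LG _ K b
    refine (isPerfect_of_local (Localization.AtPrime m.asIdeal) _
      (fun j => isPC_LBaseChange _ j K (hKm j)) a b (fun i hi => ?_)).2
    exact isZero_homology_fibre_localization R K m.asIdeal i
      (h m.asIdeal m.isMaximal i (Or.inl hi))
  exact ⟨Groth.Agent.H4.Perf.isPerfect_of_isPC'_of_hasTorAmp hK htor, htor⟩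

end Fibres

end Groth.Agent.H4.FibPerf
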