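import Mathlib
import Groth.Agent.H4.TorBridge
import Groth.Agent.H4.TorAmp4
import Groth.Agent.H4.PCDesc1
import Groth.Agent.H4.RestrPC
import Groth.Agent.S6946

set_option autoImplicit false
universe u
open CategoryTheory CategoryTheory.Limits
attribute [local instance] HasDerivedCategory.standard
open DRing

namespace Groth.Agent.H4.TorRestr

open MonoidalCategory DerivedCategory Groth.Agent.H4.LDer Groth.Agent.H4.PC Groth.Agent.H4.TV
  Groth.Agent.H4.TorBridge Groth.Agent.H4.TorAmp Groth.Agent.H4.PCDesc Groth.Agent.H4.BC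
  Groth.Agent.H4.RestrPC

variable {A B : Type u} [CommRing A] [CommRing B] [Algebra A B]

lemma isZero_tor_of_iso_left {X X' : ModuleCat.{u} A} (e : X ≅ X') (M : ModuleCat.{u} A) (p : ℕ)
    (h : IsZero (((Tor (ModuleCat.{u} A) p).obj X).obj M)) :
    IsZero (((Tor (ModuleCat.{u} A) p).obj X').obj M) :=
  h.of_iso (((Tor (ModuleCat.{u} A) p).mapIso e).app M).symm

/-- restrictions to `A` of flat `B`-modules have tor dimension `≤ d` if `B` has. -/
theorem hasTorAmp_single_restrict_flat (d : ℕ)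
    (hB : DRing.HasTorAmplitudeIn A (-(d : ℤ)) 0 (Dual.inD A B)) (N : ModuleCat.{u} B)
    [Module.Flat B N] :
    HasTorAmplitudeIn A (-(d : ℤ)) 0 ((singleFunctor (ModuleCat.{u} A) 0).obj
      ((ModuleCat.restrictScalars.{u} (algebraMap A B)).obj N)) := by
  haveI : ∀ M : ModuleCat.{u} A, (Gh (tensorRight M)).HasLeftDerivedFunctor (WA A) :=
    fun M => Groth.Agent.H4.KProj.hasLeftDerivedFunctor _
  haveI : ∀ M : ModuleCat.{u} B, (Gh (tensorRight M)).HasLeftDerivedFunctor (WA B) :=
    fun M => Groth.Agent.H4.KProj.hasLeftDerivedFunctor _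
  set φ := algebraMap A B with hφ
  have hB' := (Groth.Agent.S6946.result A B d).1.2 hB
  rw [hasTorAmp_iff]
  intro M j hj
  rcases hj with hj | hj
  · obtain ⟨p, rfl⟩ : ∃ p : ℕ, j = -(p : ℤ) := ⟨(-j).toNat, by
      have := Int.toNat_of_nonneg (show 0 ≤ -j by omega); omega⟩
    have hp : 1 ≤ p := by omega
    -- `Tor_p(B, M) = 0`
    haveI := hB' M p (by omega)
    have h1 : IsZero (((Tor (ModuleCat.{u} A) p).obj (ModuleCat.of A B)).obj M) :=
      ModuleCat.isZero_of_subsingleton _
    have h2 := isZero_tor_of_iso_left (ofIsoRestrict (A := A) (B := B)) M p h1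
    obtain ⟨s1⟩ := Groth.Agent.H2.TorBal.nonempty_tor_symm
      ((ModuleCat.restrictScalars.{u} φ).obj (ModuleCat.of B B)) M p
    have h3 := h2.of_iso s1.symm
    rw [← HV_single_iff_isZero_tor _ _ p hp] at h3
    -- a K-projective free resolution of `M`
    obtain ⟨T, hT, hf, ⟨e⟩⟩ := Groth.Agent.H4.KProj.exists_kproj_free_iso
      ((singleFunctor (ModuleCat.{u} A) 0).obj M)
    rw [HV_iff_TV T e, ← TV_restrict_iff] at h3
    have h4 : ((GC (ModuleCat.extendScalars.{u, u, u} φ)).obj T).ExactAt (-(p : ℤ)) :=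
      exactAt_of_iso (GCUnitIso B _) _ h3
    have h5 : TV ((GC (ModuleCat.extendScalars.{u, u, u} φ)).obj T) N (-(p : ℤ)) := by
      unfold TV
      rw [HomologicalComplex.exactAt_iff] at h4 ⊢
      exact Module.Flat.rTensor_shortComplex_exact N _ h4
    rw [TV_restrict_iff, ← HV_iff_TV T e, HV_single_iff_isZero_tor _ _ p hp] at h5
    obtain ⟨s2⟩ := Groth.Agent.H2.TorBal.nonempty_tor_symm
      ((ModuleCat.restrictScalars.{u} φ).obj N) M p
    rw [HV_single_iff_isZero_tor _ _ p hp]
    exact h5.of_iso s2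
  · haveI := isLE_LG (tensorRight M) ((singleFunctor (ModuleCat.{u} A) 0).obj
      ((ModuleCat.restrictScalars.{u} φ).obj N)) 0
    exact isZero_of_isLE _ 0 j hj

end Groth.Agent.H4.TorRestr
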