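import Mathlib
import Groth.Prelude.Def_DualSh
import Groth.Prelude.Def_DRing4
import Groth.Agent.H4.RB5
import Groth.Agent.H4.CF6
import Groth.Agent.H4.CF4
import Groth.Agent.H4.FibPerf
import Groth.Agent.H4.FB3
import Groth.Agent.H4.RAdj
import Groth.Agent.H4.KProj7
import Groth.Agent.S7066

set_option autoImplicit false
universe u
open CategoryTheory Category Limits MonoidalCategory Pretriangulated

namespace Groth.Agent.H4.RD2

open DRing DTen DerivedCategory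

attribute [local instance] HasDerivedCategory.standard
attribute [local instance] Groth.Agent.H4.LK4.hasLTen Groth.Agent.H4.LK5.hasLTen₃
  Groth.Agent.H4.KI7.isSymMonoidal Groth.Agent.H4.KI6.hasRHom

set_option quotPrecheck false in
/-- notation for the object part of `⊗^L` -/
local notation:max "tO(" a ", " b ")" => (LTen₂ _).obj (a, b)

section Shift

variable {A : Type u} [CommRing A]

/-- `X ⊗^L Y[n] ≅ (X ⊗^L Y)[n]` -/
theorem nonempty_tO_shift_right (X Y : Dual.D A) (n : ℤ) :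
    Nonempty (tO(X, Y⟦n⟧) ≅ tO(X, Y)⟦n⟧) := by
  obtain ⟨e1⟩ := Groth.Agent.H4.CF4.nonempty_tO_unitShift_iso Y n
  obtain ⟨e2⟩ := Groth.Agent.H4.CF4.nonempty_tO_unitShift_iso tO(X, Y) n
  exact ⟨((LTen A).obj X).mapIso e1.symm ≪≫ (associator X Y ((Dual.inD A A)⟦n⟧)).symm ≪≫ e2⟩

end Shift

section Perf

variable (R A : Type u) [CommRing R] [CommRing A] [IsNoetherianRing R] [Algebra R A]
  [Module.Flat R A] (n : ℕ) (ψ : MvPolynomial (Fin n) R →ₐ[R] A)

/-- a flat algebra of finite type over a Noetherian ring is perfect over a polynomial ring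
presenting it. -/
theorem isPerfectModule_of_flat (hψ : Function.Surjective ψ) :
    letI := ψ.toRingHom.toAlgebra
    DRing.IsPerfectModule (MvPolynomial (Fin n) R) A := by
  letI := ψ.toRingHom.toAlgebra
  haveI : Module.Finite (MvPolynomial (Fin n) R) A :=
    Module.Finite.of_surjective (Algebra.linearMap (MvPolynomial (Fin n) R) A) hψ
  refine (Groth.Agent.S7066.core n ψ).2 ⟨Groth.Agent.H4.FB3.isPC'_inD A, 0, ?_⟩
  exact (Groth.Agent.S6946.result R A 0).2.2 inferInstance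

end Perf

section Main

variable (R A : Type u) [CommRing R] [CommRing A] [IsNoetherianRing R] [Algebra R A]
  [Module.Flat R A] (n : ℕ) (ψ : MvPolynomial (Fin n) R →ₐ[R] A) (hψ : Function.Surjective ψ)
  [DRing.HasLBaseChange (algebraMap R (MvPolynomial (Fin n) R))]
  (Rψ : Dual.D (MvPolynomial (Fin n) R) ⥤ Dual.D A) (adj : DRing.restrictD ψ.toRingHom ⊣ Rψ)

include hψ adj in
/-- `Rψ M ≅ (M ⊗^L_P A) ⊗^L_A Rψ(P)` for `A` flat of finite type over `R`. -/
theorem nonempty_Rψ_iso [DRing.HasLBaseChange ψ.toRingHom] (M : Dual.D (MvPolynomial (Fin n) R)) :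
    Nonempty (Rψ.obj M ≅
      tO((DRing.LBaseChange ψ.toRingHom).obj M, Rψ.obj (DTen.unit (MvPolynomial (Fin n) R)))) := by
  letI := ψ.toRingHom.toAlgebra
  haveI : DTen.HasLBase ψ.toRingHom :=
    ⟨(Groth.Agent.H4.KProj.adjLBaseChange ψ.toRingHom).isRightAdjoint⟩
  haveI : DTen.HasResTen ψ.toRingHom := Groth.Agent.H4.RB2.hasResTen _
  haveI : DTen.ResLegIso ψ.toRingHom := Groth.Agent.H4.RB2.resLegIso _
  haveI : DTen.HasLTenMix ψ.toRingHom := Groth.Agent.H4.LK6.hasLTenMix _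
  haveI : DTen.HasRHomRel ψ.toRingHom := ⟨adj.isLeftAdjoint⟩
  have hA : DRing.IsPerfect (MvPolynomial (Fin n) R)
      ((DRing.restrictD ψ.toRingHom).obj (DTen.unit A)) :=
    Groth.Agent.H4.DRing1.isPerfect_of_iso
      (Groth.Agent.H4.RB5.resUnitIso (MvPolynomial (Fin n) R) A).symm
      (isPerfectModule_of_flat R A n ψ hψ)
  obtain ⟨e1⟩ := Groth.Agent.H4.RB3.nonempty_RHomRel_iso ψ.toRingHom hA
  let eR : Rψ ≅ DTen.RHomRel ψ.toRingHom := adj.rightAdjointUniq (DTen.relAdj ψ.toRingHom)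
  haveI := Groth.Agent.H4.LK6.isIso_split_app ψ.toRingHom M
    ((DTen.RHomRel ψ.toRingHom).obj (DTen.unit (MvPolynomial (Fin n) R)))
  let e2 := asIso ((DTen.split ψ.toRingHom).app
    (M, (DTen.RHomRel ψ.toRingHom).obj (DTen.unit (MvPolynomial (Fin n) R))))
  let e3 : DRing.LBaseChange ψ.toRingHom ≅ DTen.LBase ψ.toRingHom :=
    (Groth.Agent.H4.KProj.adjLBaseChange ψ.toRingHom).leftAdjointUniq (DTen.baseAdj ψ.toRingHom)
  exact ⟨eR.app M ≪≫ e1.app M ≪≫ e2.symm ≪≫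
    (LTen₂ A).mapIso (Iso.prod (e3.app M).symm (eR.app _).symm)⟩

end Main

section Main2

variable (R A : Type u) [CommRing R] [CommRing A] [IsNoetherianRing R] [Algebra R A]
  [Module.Flat R A] (n : ℕ) (ψ : MvPolynomial (Fin n) R →ₐ[R] A) (hψ : Function.Surjective ψ)
  [DRing.HasLBaseChange (algebraMap R (MvPolynomial (Fin n) R))]
  (Rψ : Dual.D (MvPolynomial (Fin n) R) ⥤ Dual.D A) (adj : DRing.restrictD ψ.toRingHom ⊣ Rψ)

/-- `R ⊗^L_R P ≅ P`. -/
theorem nonempty_LBC_unit_iso {R P : Type u} [CommRing R] [CommRing P] (φ : R →+* P)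
    [DRing.HasLBaseChange φ] :
    Nonempty ((DRing.LBaseChange φ).obj (Dual.inD R R) ≅ DTen.unit P) := by
  haveI : DTen.HasLBase φ := ⟨(Groth.Agent.H4.KProj.adjLBaseChange φ).isRightAdjoint⟩
  let e3 : DRing.LBaseChange φ ≅ DTen.LBase φ :=
    (Groth.Agent.H4.KProj.adjLBaseChange φ).leftAdjointUniq (DTen.baseAdj φ)
  exact ⟨e3.app _ ≪≫ (DTen.LBase φ).mapIso Groth.Agent.H4.KI8.inDUnitIso ≪≫
    Groth.Agent.H4.RB3.LBaseUnitIso φ⟩

include hψ adj in
/-- **S1820 (core)**: `φ^!(K) ≅ (K ⊗^L_R A) ⊗^L_A φ^!(R)` for `φ` flat of finite type. -/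
theorem nonempty_shriek_iso [DRing.HasLBaseChange (algebraMap R A)] (K : Dual.D R) :
    Nonempty (Dual2.shriekVia n Rψ K ≅
      tO((DRing.LBaseChange (algebraMap R A)).obj K, Dual2.shriekVia n Rψ (Dual.inD R R))) := by
  haveI : DRing.HasLBaseChange ψ.toRingHom := Groth.Agent.H4.KProj.hasLBaseChange _
  haveI : DRing.HasLBaseChange (ψ.toRingHom.comp (algebraMap R (MvPolynomial (Fin n) R))) :=
    Groth.Agent.H4.KProj.hasLBaseChange _
  obtain ⟨e1⟩ := nonempty_Rψ_iso R A n ψ hψ Rψ adj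
    ((DRing.LBaseChange (algebraMap R (MvPolynomial (Fin n) R))).obj K)
  obtain ⟨e2⟩ := Groth.Agent.H4.FibPerf.nonempty_LBCComp
    (algebraMap R (MvPolynomial (Fin n) R)) ψ.toRingHom K
  have hcomp : ψ.toRingHom.comp (algebraMap R (MvPolynomial (Fin n) R)) = algebraMap R A :=
    RingHom.ext (fun r => ψ.commutes r)
  obtain ⟨e3⟩ := Groth.Agent.H4.FibPerf.nonempty_LBC_congr hcomp K
  obtain ⟨e4⟩ := nonempty_LBC_unit_iso (algebraMap R (MvPolynomial (Fin n) R))
  obtain ⟨e5⟩ := nonempty_tO_shift_right ((DRing.LBaseChange (algebraMap R A)).obj K)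
    (Rψ.obj ((DRing.LBaseChange (algebraMap R (MvPolynomial (Fin n) R))).obj (Dual.inD R R))) (n : ℤ)
  refine ⟨(shiftFunctor (Dual.D A) (n : ℤ)).mapIso
    (e1 ≪≫ (LTen₂ A).mapIso (Iso.prod (e2 ≪≫ e3) (Rψ.mapIso e4.symm))) ≪≫ e5.symm⟩

end Main2

end Groth.Agent.H4.RD2
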