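import Mathlib
import Groth.Agent.H4.TB1
import Groth.Agent.H4.FR1

set_option autoImplicit false
universe u
open CategoryTheory Category Limits TensorProduct

namespace Groth.Agent.H4.TB2

attribute [local instance] HasDerivedCategory.standard

open DRing DerivedCategory Groth.Agent.H4.TB1

section D

variable (R R' A A' : Type u) [CommRing R] [CommRing R'] [CommRing A] [CommRing A']
  [Algebra R R'] [Algebra R A] [Algebra R' A'] [Algebra A A'] [Algebra R A']
  [IsScalarTower R R' A'] [IsScalarTower R A A'] [Algebra.IsPushout R R' A A']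

open ChangeOfRings in
lemma sqτ₀_app_eq_nuIso
    (h : (algebraMap A A').comp (algebraMap R A) = (algebraMap R' A').comp (algebraMap R R'))
    (M : ModuleCat.{u} A) :
    (DTen.sqτ₀ (algebraMap R A) (algebraMap R R') (algebraMap R' A') (algebraMap A A') h).app M =
      (Groth.Agent.H4.FR1.nuIso R R' A A' M).hom := by
  apply ((ModuleCat.extendRestrictScalarsAdj.{u, u, u} (algebraMap R R')).homEquiv _ _).injective
  rw [Adjunction.homEquiv_unit, Adjunction.homEquiv_unit]
  erw [sqτ₀_unit]
  apply ModuleCat.hom_ext; apply LinearMap.ext; intro m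
  have h1 : ((ModuleCat.extendRestrictScalarsAdj.{u, u, u} (algebraMap R R')).unit.app
      ((ModuleCat.restrictScalars.{u} (algebraMap R A)).obj M) ≫
      (ModuleCat.restrictScalars.{u} (algebraMap R R')).map
        (Groth.Agent.H4.FR1.nuIso R R' A A' M).hom).hom m =
      (Groth.Agent.H4.FR1.nuIso R R' A A' M).hom
        ((1 : R') ⊗ₜ[R, algebraMap R R'] m) := rfl
  rw [h1, Groth.Agent.H4.FR1.nuIso_hom_tmul, map_one]
  rfl

instance isIso_sqτ₀_app
    (h : (algebraMap A A').comp (algebraMap R A) = (algebraMap R' A').comp (algebraMap R R'))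
    (M : ModuleCat.{u} A) :
    IsIso ((DTen.sqτ₀ (algebraMap R A) (algebraMap R R') (algebraMap R' A') (algebraMap A A') h).app M) := by
  rw [sqτ₀_app_eq_nuIso]
  infer_instance

instance isIso_sqτ_app
    (h : (algebraMap A A').comp (algebraMap R A) = (algebraMap R' A').comp (algebraMap R R'))
    (K : DRing.Cx A) :
    IsIso ((DTen.sqτ (algebraMap R A) (algebraMap R R') (algebraMap R' A') (algebraMap A A') h).app K) := by
  haveI : ∀ i, IsIso (((DTen.sqτ (algebraMap R A) (algebraMap R R') (algebraMap R' A')
      (algebraMap A A') h).app K).f i) := fun i => isIso_sqτ₀_app R R' A A' h (K.X i)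
  exact HomologicalComplex.Hom.isIso_of_components _

end D

end Groth.Agent.H4.TB2
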