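import Mathlib
import Groth.Agent.H4.TorRestr

set_option autoImplicit false
universe u
attribute [local instance] HasDerivedCategory.standard
open CategoryTheory CategoryTheory.Limits MonoidalCategory DerivedCategory DRing Groth.Agent.H4.LDer Groth.Agent.H4.PC Groth.Agent.H4.TV Groth.Agent.H4.TorBridge Groth.Agent.H4.TorAmp Groth.Agent.H4.PCDesc Groth.Agent.H4.BC Groth.Agent.H4.RestrPC Groth.Agent.H4.TorRestr

namespace Groth.Agent.H4.TorIndBC

variable {A B : Type u} [CommRing A] [CommRing B]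

/-- top homology commutes with right exact functors. -/
theorem nonempty_homologyTopIso (G : ModuleCat.{u} A ⥤ ModuleCat.{u} B) [G.Additive]
    [PreservesFiniteColimits G] (E : Cx A) (b : ℤ) (hE : IsZero (E.X (b + 1))) :
    Nonempty (((GC G).obj E).homology b ≅ G.obj (E.homology b)) := by
  set E' := (GC G).obj E with hE'
  have hd : E.d b (b + 1) = 0 := hE.eq_of_tgt _ _
  have hd' : E'.d b (b + 1) = 0 := (G.map_isZero hE).eq_of_tgt _ _
  have e1 : E.homology b ≅ E.opcycles b := E.isoHomologyι b (b + 1) (by simp) hd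
  have e2 : E'.homology b ≅ E'.opcycles b := E'.isoHomologyι b (b + 1) (by simp) hd'
  have c1 := E.opcyclesIsCokernel (b - 1) b (by simp)
  have c2 := E'.opcyclesIsCokernel (b - 1) b (by simp)
  have c3 := CokernelCofork.mapIsColimit _ c1 G
  exact ⟨e2 ≪≫ IsColimit.coconePointUniqueUpToIso c2 c3 ≪≫ G.mapIso e1.symm⟩

/-- **Tor-independent base change of a module**: if `Tor_p^A(M, B) = 0` for `p ≥ 1`, then
`M ⊗^L_A B = M ⊗_A B`. -/
theorem nonempty_LBC_single_iso (φ : A →+* B) [DRing.HasLBaseChange φ] (M : ModuleCat.{u} A)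
    (h : ∀ p : ℕ, 1 ≤ p → IsZero (((Tor (ModuleCat.{u} A) p).obj M).obj
      ((ModuleCat.restrictScalars.{u} φ).obj (ModuleCat.of B B)))) :
    Nonempty ((DRing.LBaseChange φ).obj ((singleFunctor (ModuleCat.{u} A) 0).obj M) ≅
      (singleFunctor (ModuleCat.{u} B) 0).obj ((ModuleCat.extendScalars.{u, u, u} φ).obj M)) := by
  haveI : ∀ M : ModuleCat.{u} A, (Gh (tensorRight M)).HasLeftDerivedFunctor (WA A) :=
    fun M => Groth.Agent.H4.KProj.hasLeftDerivedFunctor _
  set G := ModuleCat.extendScalars.{u, u, u} φ with hG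
  let R := projectiveResolution M
  let T := R.cochainComplex
  have e : toD T ≅ (singleFunctor (ModuleCat.{u} A) 0).obj M :=
    asIso (Q.map R.π') ≪≫ ((singleFunctorIsoCompQ (ModuleCat.{u} A) 0).app M).symm
  have e1 : (DRing.LBaseChange φ).obj ((singleFunctor (ModuleCat.{u} A) 0).obj M) ≅
      toD ((GC G).obj T) := isoOfIso G T e
  have hT : ∀ i : ℤ, 0 < i → IsZero (T.X i) := fun i hi =>
    CochainComplex.isZero_of_isStrictlyLE T 0 i hi
  have hex : ∀ i : ℤ, i ≠ 0 → ((GC G).obj T).ExactAt i := by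
    intro i hi
    rcases lt_or_gt_of_ne hi with hi | hi
    · obtain ⟨p, rfl⟩ : ∃ p : ℕ, i = -(p : ℤ) := ⟨(-i).toNat, by
        have := Int.toNat_of_nonneg (show 0 ≤ -i by omega); omega⟩
      have hp : 1 ≤ p := by omega
      have h3 := h p hp
      rw [← HV_single_iff_isZero_tor _ _ p hp, HV_iff_TV T e, ← TV_restrict_iff] at h3
      exact exactAt_of_iso (GCUnitIso B _) _ h3
    · exact ShortComplex.exact_of_isZero_X₂ _ (G.map_isZero (hT i hi))
  set K' := toD ((GC G).obj T) with hK'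
  have hK'z : ∀ i : ℤ, i ≠ 0 → IsZero ((homologyFunctor (ModuleCat.{u} B) i).obj K') := fun i hi =>
    ((HomologicalComplex.exactAt_iff_isZero_homology _ _).1 (hex i hi)).of_iso
      (homologyToDIso _ i)
  haveI : K'.IsLE 0 := by
    rw [isLE_iff]; intro i hi; exact hK'z i (by omega)
  haveI : K'.IsGE 0 := by
    rw [isGE_iff]; intro i hi; exact hK'z i (by omega)
  obtain ⟨Y, ⟨eY⟩⟩ := exists_iso_singleFunctor_obj_of_isGE_of_isLE K' 0
  -- identify `Y`
  have i1 : (homologyFunctor (ModuleCat.{u} B) 0).obj K' ≅ Y :=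
    (homologyFunctor (ModuleCat.{u} B) 0).mapIso eY ≪≫
      (singleFunctorCompHomologyFunctorIso (ModuleCat.{u} B) 0).app Y
  have i2 : (homologyFunctor (ModuleCat.{u} B) 0).obj K' ≅ ((GC G).obj T).homology 0 :=
    homologyToDIso _ 0
  obtain ⟨i3⟩ := nonempty_homologyTopIso G T 0 (hT _ (by omega))
  have i4 : T.homology 0 ≅ M :=
    isoOfQuasiIsoAt R.π' 0 ≪≫
      HomologicalComplex.singleObjHomologySelfIso _ _ _
  have i5 : Y ≅ G.obj M := i1.symm ≪≫ i2 ≪≫ i3 ≪≫ G.mapIso i4
  exact ⟨e1 ≪≫ eY ≪≫ (singleFunctor (ModuleCat.{u} B) 0).mapIso i5⟩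

end Groth.Agent.H4.TorIndBC
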