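import Mathlib
import Groth.Agent.H4.TorIndBC
import Groth.Agent.H4.LK6

set_option autoImplicit false
universe u
attribute [local instance] HasDerivedCategory.standard
open CategoryTheory CategoryTheory.Limits MonoidalCategory DerivedCategory DRing Groth.Agent.H4.LDer Groth.Agent.H4.PC Groth.Agent.H4.TV Groth.Agent.H4.TorBridge Groth.Agent.H4.TorAmp Groth.Agent.H4.PCDesc Groth.Agent.H4.BC Groth.Agent.H4.RestrPC Groth.Agent.H4.TorRestr

namespace Groth.Agent.H4.TB3

variable {A B : Type u} [CommRing A] [CommRing B]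

/-- exactness of the termwise base change of a projective resolution in nonzero degrees,
under Tor vanishing. -/
theorem exactAt_ext_resolution (φ : A →+* B) (M : ModuleCat.{u} A)
    (h : ∀ p : ℕ, 1 ≤ p → IsZero (((Tor (ModuleCat.{u} A) p).obj M).obj
      ((ModuleCat.restrictScalars.{u} φ).obj (ModuleCat.of B B))))
    (i : ℤ) (hi : i ≠ 0) :
    ((DTen.extCx φ).obj (projectiveResolution M).cochainComplex).ExactAt i := by
  haveI : ∀ M : ModuleCat.{u} A, (Gh (tensorRight M)).HasLeftDerivedFunctor (WA A) :=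
    fun M => Groth.Agent.H4.KProj.hasLeftDerivedFunctor _
  set G := ModuleCat.extendScalars.{u, u, u} φ with hG
  let R := projectiveResolution M
  let T := R.cochainComplex
  have e : toD T ≅ (singleFunctor (ModuleCat.{u} A) 0).obj M :=
    asIso (Q.map R.π') ≪≫ ((singleFunctorIsoCompQ (ModuleCat.{u} A) 0).app M).symm
  have hT : ∀ i : ℤ, 0 < i → IsZero (T.X i) := fun i hi =>
    CochainComplex.isZero_of_isStrictlyLE T 0 i hi
  rcases lt_or_gt_of_ne hi with hi | hi
  · obtain ⟨p, rfl⟩ : ∃ p : ℕ, i = -(p : ℤ) := ⟨(-i).toNat, by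
      have := Int.toNat_of_nonneg (show 0 ≤ -i by omega); omega⟩
    have hp : 1 ≤ p := by omega
    have h3 := h p hp
    rw [← HV_single_iff_isZero_tor _ _ p hp, HV_iff_TV T e, ← TV_restrict_iff] at h3
    exact exactAt_of_iso (GCUnitIso B _) _ h3
  · exact ShortComplex.exact_of_isZero_X₂ _ (G.map_isZero (hT i hi))

/-- the termwise base change of a projective resolution `T → M[0]` is a quasi-isomorphism
under Tor vanishing. -/
theorem quasiIso_ext_π' (φ : A →+* B) (M : ModuleCat.{u} A)
    (h : ∀ p : ℕ, 1 ≤ p → IsZero (((Tor (ModuleCat.{u} A) p).obj M).obj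
      ((ModuleCat.restrictScalars.{u} φ).obj (ModuleCat.of B B)))) :
    QuasiIso ((DTen.extCx φ).map (projectiveResolution M).π') := by
  set G := ModuleCat.extendScalars.{u, u, u} φ with hG
  let R := projectiveResolution M
  let T := R.cochainComplex
  rw [quasiIso_iff]
  intro i
  by_cases hi : i = 0
  · subst hi
    rw [quasiIsoAt_iff' _ (-1) 0 1 (by simp) (by simp)]
    have hq : QuasiIsoAt R.π' 0 := inferInstance
    rw [quasiIsoAt_iff' _ (-1) 0 1 (by simp) (by simp)] at hq
    have hT1 : IsZero (T.X 1) := CochainComplex.isZero_of_isStrictlyLE T 0 1 (by omega)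
    rw [ShortComplex.quasiIso_iff_of_zeros' _ (hT1.eq_of_tgt _ _)
      (by simp; rfl) (by simp; rfl)] at hq
    rw [ShortComplex.quasiIso_iff_of_zeros' _ ((G.map_isZero hT1).eq_of_tgt _ _)
      (by simp; rfl) (by simp; rfl)]
    obtain ⟨hq1, hq2⟩ := hq
    refine ⟨?_, ?_⟩
    · exact hq1.map_of_epi_of_preservesCokernel G hq2 inferInstance
    · haveI : Epi (R.π'.f 0) := hq2
      exact (inferInstance : Epi (G.map (R.π'.f 0)))
  · rw [quasiIsoAt_iff_exactAt _ _ (exactAt_ext_resolution φ M h i hi)]
    refine ShortComplex.exact_of_isZero_X₂ _ (G.map_isZero ?_)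
    exact HomologicalComplex.isZero_single_obj_X _ _ _ _ hi

end Groth.Agent.H4.TB3
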