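import Mathlib
import Groth.Agent.H4.TB1
import Groth.Agent.H4.TB2
import Groth.Agent.H4.TB3
import Groth.Agent.H4.RB3
import Groth.Agent.H4.RAdj
import Groth.Agent.H4.RB5

set_option autoImplicit false
universe u
open CategoryTheory Category Limits MonoidalCategory

namespace Groth.Agent.H4.TB4

attribute [local instance] HasDerivedCategory.standard

open DRing DerivedCategory Groth.Agent.H4.TB1 Groth.Agent.H4.TB2 Groth.Agent.H4.TB3
open Groth.Agent.H4.EV1 Groth.Agent.H4.Loc2 Groth.Agent.H4.RB3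

section Res

variable {R A : Type u} [CommRing R] [CommRing A] (φ : R →+* A)

/-- `baseCmp` is an isomorphism at `K` as soon as `K` has a K-projective resolution whose
termwise base change is still a quasi-isomorphism. -/
theorem isIso_baseCmp_of_resolution [DTen.HasLBase φ] {T K : DRing.Cx R} (a : T ⟶ K)
    [T.IsKProjective] [QuasiIso a] (hext : QuasiIso ((DTen.extCx φ).map a)) :
    IsIso ((DTen.baseCmp φ).app K) := by
  haveI := Groth.Agent.H4.LK6.isIso_baseCmp_of_isKProjective φ T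
  haveI := hext
  have hnat := (DTen.baseCmp φ).naturality a
  dsimp at hnat
  have : (DTen.baseCmp φ).app K = inv ((DTen.LBase φ).map (DerivedCategory.Q.map a)) ≫
      (DTen.baseCmp φ).app T ≫ DerivedCategory.Q.map ((DTen.extCx φ).map a) := by
    rw [← hnat, IsIso.inv_hom_id_assoc]
  rw [this]
  infer_instance

/-- quasi-isomorphisms after an additive functor and shifts. -/
lemma quasiIso_map_shift_iff {B : Type u} [CommRing B] (G : ModuleCat.{u} R ⥤ ModuleCat.{u} B)
    [G.Additive] {X Y : DRing.Cx R} (f : X ⟶ Y) (n : ℤ) :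
    QuasiIso ((G.mapHomologicalComplex (ComplexShape.up ℤ)).map (f⟦n⟧')) ↔
      QuasiIso ((G.mapHomologicalComplex (ComplexShape.up ℤ)).map f) := by
  have e := Arrow.isoOfNatIso ((G.mapHomologicalComplex (ComplexShape.up ℤ)).commShiftIso n)
    (Arrow.mk f)
  exact (quasiIso_iff_of_arrow_mk_iso _ _ e).trans (CochainComplex.quasiIso_shift_iff _ n)

end Res


section Gen

variable {R A R' : Type u} [CommRing R] [CommRing A] [CommRing R'] (φ : R →+* A) (ρ : R →+* R')

theorem isIso_baseCmp_res_S [DTen.HasLBase ρ]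
    (htor : ∀ p : ℕ, 1 ≤ p → IsZero (((Tor (ModuleCat.{u} R) p).obj
      ((ModuleCat.restrictScalars.{u} φ).obj (𝟙_ (ModuleCat.{u} A)))).obj
      ((ModuleCat.restrictScalars.{u} ρ).obj (ModuleCat.of R' R')))) (n : ℤ) :
    IsIso ((DTen.baseCmp ρ).app ((DTen.resCx φ).obj (Groth.Agent.H4.EV3.S A n))) := by
  let M := (ModuleCat.restrictScalars.{u} φ).obj (𝟙_ (ModuleCat.{u} A))
  let PR := projectiveResolution M
  let iso₁ : (CochainComplex.singleFunctor (ModuleCat.{u} R) 0).obj M ≅
      (DTen.resCx φ).obj (𝟙_ (DRing.Cx A)) :=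
    ((HomologicalComplex.singleMapHomologicalComplex (ModuleCat.restrictScalars.{u} φ)
      (ComplexShape.up ℤ) 0).app (𝟙_ (ModuleCat.{u} A))).symm
  let iso₂ : ((DTen.resCx φ).obj (𝟙_ (DRing.Cx A)))⟦n⟧ ≅
      (DTen.resCx φ).obj ((𝟙_ (DRing.Cx A))⟦n⟧) :=
    (((DTen.resCx φ).commShiftIso n).app _).symm
  let a : PR.cochainComplex⟦n⟧ ⟶ (DTen.resCx φ).obj (Groth.Agent.H4.EV3.S A n) :=
    PR.π'⟦n⟧' ≫ iso₁.hom⟦n⟧' ≫ iso₂.hom
  haveI : QuasiIso a := by
    dsimp only [a]
    infer_instance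
  refine isIso_baseCmp_of_resolution ρ a ?_
  have h1 : QuasiIso ((DTen.extCx ρ).map (PR.π'⟦n⟧')) :=
    (quasiIso_map_shift_iff _ _ n).2 (quasiIso_ext_π' ρ M htor)
  have h2 : (DTen.extCx ρ).map a = (DTen.extCx ρ).map (PR.π'⟦n⟧') ≫
      (DTen.extCx ρ).map (iso₁.hom⟦n⟧' ≫ iso₂.hom) := by
    rw [← Functor.map_comp]
  rw [h2]
  infer_instance

end Gen

section Main

variable (R R' A A' : Type u) [CommRing R] [CommRing R'] [CommRing A] [CommRing A']
  [Algebra R R'] [Algebra R A] [Algebra R' A'] [Algebra A A'] [Algebra R A']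
  [IsScalarTower R R' A'] [IsScalarTower R A A'] [Algebra.IsPushout R R' A A']

/-- **Tor-independent base change**: the comparison `(K|_R) ⊗^L_R R' ⟶ (K ⊗^L_A A')|_{R'}` is an
isomorphism for a Tor-independent pushout square. -/
theorem isIso_cmpG_of_isPushout
    (h : (algebraMap A A').comp (algebraMap R A) = (algebraMap R' A').comp (algebraMap R R'))
    (htor : ∀ p : ℕ, 1 ≤ p → IsZero (((Tor (ModuleCat.{u} R) p).obj
      ((ModuleCat.restrictScalars.{u} (algebraMap R A)).obj (𝟙_ (ModuleCat.{u} A)))).obj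
      ((ModuleCat.restrictScalars.{u} (algebraMap R R')).obj (ModuleCat.of R' R'))))
    [DTen.HasLBase (algebraMap R R')] [DTen.HasLBase (algebraMap A A')] (K : Dual.D A) :
    IsIso (cmpG h (DTen.baseAdj (algebraMap R R')) (DTen.baseAdj (algebraMap A A')) K) := by
  have hF : YExact (DRing.restrictD (algebraMap R A) ⋙ DTen.LBase (algebraMap R R')) :=
    YExact.triangulated_comp (DRing.restrictD (algebraMap R A))
      (yexact_leftAdjoint (DTen.baseAdj (algebraMap R R')))
  have hG : YExact (DTen.LBase (algebraMap A A') ⋙ DRing.restrictD (algebraMap R' A')) :=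
    YExact.leftAdjoint_comp (DTen.baseAdj (algebraMap A A'))
      (yexact_of_isTriangulated (DRing.restrictD (algebraMap R' A')))
  have cF : PresCoprod (DRing.restrictD (algebraMap R A) ⋙ DTen.LBase (algebraMap R R')) :=
    presCoprod_of_adjunction
      ((Groth.Agent.H4.RAdj.adjR₀ (algebraMap R A)).comp (DTen.baseAdj (algebraMap R R')))
  have cG : PresCoprod (DTen.LBase (algebraMap A A') ⋙ DRing.restrictD (algebraMap R' A')) :=
    presCoprod_of_adjunction
      ((DTen.baseAdj (algebraMap A A')).comp (Groth.Agent.H4.RAdj.adjR₀ (algebraMap R' A')))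
  refine isIso_app_of_localizing hF hG cF cG
    (cmpNat h (DTen.baseAdj (algebraMap R R')) (DTen.baseAdj (algebraMap A A'))) (fun n => ?_) K
  let e : (Dual.inD A A)⟦n⟧ ≅ DerivedCategory.Q.obj (Groth.Agent.H4.EV3.S A n) :=
    (shiftFunctor (Dual.D A) n).mapIso (Groth.Agent.H4.KI8.inDUnitIso (A := A)) ≪≫
      Groth.Agent.H4.EV3.unitShiftIso n
  rw [NatTrans.isIso_app_iff_of_iso _ e]
  change IsIso (cmpG h (DTen.baseAdj (algebraMap R R')) (DTen.baseAdj (algebraMap A A'))
    (DerivedCategory.Q.obj (Groth.Agent.H4.EV3.S A n)))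
  have hP0 := cmp₀_Q h (Groth.Agent.H4.EV3.S A n)
  haveI i1 : IsIso ((DTen.baseCmp (algebraMap A A')).app (Groth.Agent.H4.EV3.S A n)) :=
    Groth.Agent.H4.LK6.isIso_baseCmp_of_kflat _ _ (Groth.Agent.H4.EV3.kflat_S n)
  haveI i2 : IsIso ((DTen.baseCmp (algebraMap R R')).app
      ((DTen.resCx (algebraMap R A)).obj (Groth.Agent.H4.EV3.S A n))) :=
    isIso_baseCmp_res_S (algebraMap R A) (algebraMap R R') htor n
  haveI i3 := isIso_sqτ_app R R' A A' h (Groth.Agent.H4.EV3.S A n)
  haveI i4 : IsIso ((DTen.sqβ₂ (algebraMap R' A') (algebraMap A A')).app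
      (Groth.Agent.H4.EV3.S A n)) := by
    dsimp only [DTen.sqβ₂]
    infer_instance
  haveI i5 : IsIso ((DTen.sqβ₁ (algebraMap R A) (algebraMap R R') (algebraMap R' A')
      (algebraMap A A') h).app (Groth.Agent.H4.EV3.S A n)) := by
    dsimp only [DTen.sqβ₁]
    infer_instance
  have : cmpG h (DTen.baseAdj (algebraMap R R')) (DTen.baseAdj (algebraMap A A'))
      (DerivedCategory.Q.obj (Groth.Agent.H4.EV3.S A n)) =
      (DTen.sqβ₁ (algebraMap R A) (algebraMap R R') (algebraMap R' A')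
        (algebraMap A A') h).app (Groth.Agent.H4.EV3.S A n) ≫
      inv ((DTen.sqβ₂ (algebraMap R' A') (algebraMap A A')).app (Groth.Agent.H4.EV3.S A n)) := by
    rw [← hP0, assoc, IsIso.hom_inv_id, comp_id]
  rw [this]
  infer_instance

end Main


section Final

variable (R A R' A' : Type u) [CommRing R] [CommRing A] [CommRing R'] [CommRing A']
    [Algebra R A] [Algebra R R'] [Algebra A A'] [Algebra R' A'] [Algebra R A'] [IsScalarTower R A A']
    [IsScalarTower R R' A'] [Algebra.IsPushout R A R' A']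

lemma isZero_tor_of_subsingleton
    (htor : ∀ p : ℕ, 1 ≤ p → Subsingleton (DRing.Tor R p A R')) (p : ℕ) (hp : 1 ≤ p) :
    IsZero (((Tor (ModuleCat.{u} R) p).obj
      ((ModuleCat.restrictScalars.{u} (algebraMap R A)).obj (𝟙_ (ModuleCat.{u} A)))).obj
      ((ModuleCat.restrictScalars.{u} (algebraMap R R')).obj (ModuleCat.of R' R'))) := by
  haveI := htor p hp
  have h1 : IsZero (((Tor (ModuleCat.{u} R) p).obj (ModuleCat.of R A)).obj (ModuleCat.of R R')) :=
    ModuleCat.isZero_of_subsingleton _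
  refine h1.of_iso ?_
  exact ((Tor (ModuleCat.{u} R) p).mapIso (Groth.Agent.H4.RB5.resSelfIso R A)).app _ ≪≫
    ((Tor (ModuleCat.{u} R) p).obj _).mapIso (Groth.Agent.H4.RB5.resSelfIso R R')

/-- S13563 -/
theorem isIso_cmp_of_isPushout
    (htor : ∀ p : ℕ, 1 ≤ p → Subsingleton (DRing.Tor R p A R'))
    [DRing.HasLBaseChange (algebraMap R R')] [DRing.HasLBaseChange (algebraMap A A')]
    (adjρ : DRing.LBaseChange (algebraMap R R') ⊣ DRing.restrictD (algebraMap R R'))
    (adjα : DRing.LBaseChange (algebraMap A A') ⊣ DRing.restrictD (algebraMap A A'))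
    (h : (algebraMap A A').comp (algebraMap R A) = (algebraMap R' A').comp (algebraMap R R'))
    (K : Dual.D A) : IsIso (TrivBC.cmp adjρ adjα h K) := by
  haveI : Algebra.IsPushout R R' A A' := Algebra.IsPushout.symm inferInstance
  haveI : DTen.HasLBase (algebraMap R R') := ⟨adjρ.isRightAdjoint⟩
  haveI : DTen.HasLBase (algebraMap A A') := ⟨adjα.isRightAdjoint⟩
  rw [cmp_eq_cmpG, isIso_cmpG_iff h (DTen.baseAdj _) (DTen.baseAdj _) adjρ adjα K]
  exact isIso_cmpG_of_isPushout R R' A A' h (isZero_tor_of_subsingleton R A R' htor) K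

end Final

end Groth.Agent.H4.TB4
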