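import Mathlib
import Groth.Agent.H4.TB8
import Groth.Agent.H4.RB4

/-!
# The comparison map is compatible with the module actions
-/

open CategoryTheory Category Limits MonoidalCategory

universe u

namespace Groth.Agent.H4.TB9

open DTen Groth.Agent.H4.TB1 Groth.Agent.H4.TB6 Groth.Agent.H4.TB7 Groth.Agent.H4.TB8
open Groth.Agent.H4.RB1 Groth.Agent.H4.RB3 Groth.Agent.H4.RB4

attribute [local instance] HasDerivedCategory.standard

section ACT

variable {R A R' A' : Type u} [CommRing R] [CommRing A] [CommRing R'] [CommRing A']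
  {φ : R →+* A} {ρ : R →+* R'} {α : A →+* A'} {φ' : R' →+* A'}
  (h : α.comp φ = φ'.comp ρ)
variable [HasLTen R] [HasLTen A] [HasLTen R'] [HasLTen A']
  [HasResTen φ] [ResLegIso φ] [HasResTen ρ] [ResLegIso ρ]
  [HasResTen α] [ResLegIso α] [HasResTen φ'] [ResLegIso φ']
  [HasLBase ρ] [HasLBase α]

/-- the comparison `L_ρ (res_φ A) ⟶ res_φ' A'`. -/
noncomputable def mu : (LBase ρ).obj ((DRing.restrictD φ).obj (unit A)) ⟶
    (DRing.restrictD φ').obj (unit A') :=
  cmpG h (baseAdj ρ) (baseAdj α) (unit A) ≫ (DRing.restrictD φ').map (LBaseUnitIso α).hom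

omit [HasLTen R] [HasLTen A] [HasLTen R'] [HasLTen A']
  [HasResTen φ] [ResLegIso φ] [HasResTen ρ] [ResLegIso ρ]
  [HasResTen α] [ResLegIso α] [HasResTen φ'] [ResLegIso φ'] in
lemma unit_mu :
    (baseAdj ρ).unit.app ((DRing.restrictD φ).obj (unit A)) ≫ (DRing.restrictD ρ).map (mu h) =
      (DRing.restrictD φ).map (uD α) ≫ (TrivBC.resComm h).hom.app (unit A') := by
  dsimp only [mu, uD]
  have h1 := unit_comp_cmpG h (baseAdj ρ) (baseAdj α) (unit A)
  have h2 := (TrivBC.resComm h).hom.naturality (LBaseUnitIso α).hom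
  dsimp at h2
  rw [Functor.map_comp, ← assoc, h1, assoc, ← h2, Functor.map_comp, assoc]

theorem act_cmp (X : Dual.D A) :
    (LBase ρ).map (act φ X) ≫ cmpG h (baseAdj ρ) (baseAdj α) X =
      mmAdj ρ ((DRing.restrictD φ).obj X) ((DRing.restrictD φ).obj (unit A)) ≫
        (LTen₂ R').map (Prod.mkHom (cmpG h (baseAdj ρ) (baseAdj α) X) (mu h)) ≫
        act φ' ((LBase α).obj X) := by
  apply ((baseAdj ρ).homEquiv _ _).injective
  rw [Adjunction.homEquiv_naturality_left, homEquiv_cmpG, mmAdj_comp, Equiv.apply_symm_apply]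
  -- the right hand side
  dsimp only [mm]
  have n1 := (resPF ρ).naturality (Prod.mkHom (cmpG h (baseAdj ρ) (baseAdj α) X) (mu h) :
    ((LBase ρ).obj ((DRing.restrictD φ).obj X), (LBase ρ).obj ((DRing.restrictD φ).obj (unit A))) ⟶
      ((DRing.restrictD φ').obj ((LBase α).obj X), (DRing.restrictD φ').obj (unit A')))
  dsimp at n1
  rw [Functor.map_comp, assoc, ← reassoc_of% n1, ← Functor.map_comp_assoc]
  have e1 : Prod.mkHom ((baseAdj ρ).unit.app ((DRing.restrictD φ).obj X))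
        ((baseAdj ρ).unit.app ((DRing.restrictD φ).obj (unit A))) ≫
      Prod.mkHom ((DRing.restrictD ρ).map (cmpG h (baseAdj ρ) (baseAdj α) X))
        ((DRing.restrictD ρ).map (mu h)) =
      Prod.mkHom ((DRing.restrictD φ).map ((baseAdj α).unit.app X))
        ((DRing.restrictD φ).map (uD α)) ≫
      Prod.mkHom ((TrivBC.resComm h).hom.app ((LBase α).obj X))
        ((TrivBC.resComm h).hom.app (unit A')) := by
    simp only [prod_comp, Prod.mkHom]
    refine Prod.ext ?_ ?_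
    · exact unit_comp_cmpG h (baseAdj ρ) (baseAdj α) X
    · exact unit_mu h
  rw [e1, Functor.map_comp, assoc]
  have hh := heart h ((LBase α).obj X) (unit A')
  dsimp only [heartL, heartR] at hh
  dsimp only [act]
  rw [Functor.map_comp, ← assoc ((resPF ρ).app _), ← assoc ((LTen₂ R).map _) (_ ≫ _), hh]
  simp only [assoc]
  have n2 := (resPF φ).naturality (Prod.mkHom ((baseAdj α).unit.app X) (uD α) :
    (X, unit A) ⟶ ((DRing.restrictD α).obj ((LBase α).obj X), (DRing.restrictD α).obj (unit A')))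
  dsimp at n2
  rw [reassoc_of% n2]
  have n3 := (TrivBC.resComm h).hom.naturality ((unitR A').app ((LBase α).obj X))
  dsimp at n3
  rw [← n3, ← Functor.map_comp_assoc, ← Functor.map_comp_assoc, ← Functor.map_comp_assoc]
  congr 2
  -- now in `D(A)`
  have u1 := unital α ((LBase α).obj X)
  dsimp only [act] at u1
  have n4 := (unitR A).naturality ((baseAdj α).unit.app X)
  dsimp at n4
  rw [← n4, ← u1, ← Functor.map_comp_assoc]
  have e2 : Prod.mkHom ((baseAdj α).unit.app X) (𝟙 (unit A)) ≫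
      Prod.mkHom (𝟙 ((DRing.restrictD α).obj ((LBase α).obj X))) (uD α) =
      Prod.mkHom ((baseAdj α).unit.app X) (uD α) := by
    simp only [prod_comp, Prod.mkHom]
    refine Prod.ext ?_ ?_
    · dsimp
      rw [comp_id]
    · dsimp
      rw [id_comp]
  rw [e2, assoc]

end ACT


section Bridge

variable {R A R' A' : Type u} [CommRing R] [CommRing A] [CommRing R'] [CommRing A']
  {φ : R →+* A} {ρ : R →+* R'} {α : A →+* A'} {φ' : R' →+* A'}
  (h : α.comp φ = φ'.comp ρ)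

/-- the base change map of trivial duality for arbitrary adjunction data. -/
noncomputable def bcMapG {Lρ : Dual.D R ⥤ Dual.D R'} {Lα : Dual.D A ⥤ Dual.D A'}
    (adjρ : Lρ ⊣ DRing.restrictD ρ) (adjα : Lα ⊣ DRing.restrictD α)
    {Rφ : Dual.D R ⥤ Dual.D A} (adj : DRing.restrictD φ ⊣ Rφ)
    {Rφ' : Dual.D R' ⥤ Dual.D A'} (adj' : DRing.restrictD φ' ⊣ Rφ') (K : Dual.D R)
    (hc : IsIso (cmpG h adjρ adjα (Rφ.obj K))) :
    Lα.obj (Rφ.obj K) ⟶ Rφ'.obj (Lρ.obj K) :=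
  haveI := hc
  adj'.homEquiv _ _ (inv (cmpG h adjρ adjα (Rφ.obj K)) ≫ Lρ.map (adj.counit.app K))

lemma bcMap_eq_bcMapG [DRing.HasLBaseChange ρ] [DRing.HasLBaseChange α]
    (adjρ : DRing.LBaseChange ρ ⊣ DRing.restrictD ρ) (adjα : DRing.LBaseChange α ⊣ DRing.restrictD α)
    {Rφ : Dual.D R ⥤ Dual.D A} (adj : DRing.restrictD φ ⊣ Rφ)
    {Rφ' : Dual.D R' ⥤ Dual.D A'} (adj' : DRing.restrictD φ' ⊣ Rφ') (K : Dual.D R)
    (hc : IsIso (TrivBC.cmp adjρ adjα h (Rφ.obj K))) :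
    TrivBC.bcMap adjρ adjα h adj adj' K hc = bcMapG h adjρ adjα adj adj' K hc := rfl

lemma map_bcMapG_counit {Lρ : Dual.D R ⥤ Dual.D R'} {Lα : Dual.D A ⥤ Dual.D A'}
    (adjρ : Lρ ⊣ DRing.restrictD ρ) (adjα : Lα ⊣ DRing.restrictD α)
    {Rφ : Dual.D R ⥤ Dual.D A} (adj : DRing.restrictD φ ⊣ Rφ)
    {Rφ' : Dual.D R' ⥤ Dual.D A'} (adj' : DRing.restrictD φ' ⊣ Rφ') (K : Dual.D R)
    (hc : IsIso (cmpG h adjρ adjα (Rφ.obj K))) :
    haveI := hc
    (DRing.restrictD φ').map (bcMapG h adjρ adjα adj adj' K hc) ≫ adj'.counit.app (Lρ.obj K) =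
      inv (cmpG h adjρ adjα (Rφ.obj K)) ≫ Lρ.map (adj.counit.app K) := by
  haveI := hc
  have := adj'.homEquiv_counit (g := bcMapG h adjρ adjα adj adj' K hc)
  rw [← this]
  exact Equiv.symm_apply_apply _ _

variable [HasLTen R] [HasLTen A] [HasLTen R'] [HasLTen A']
  [HasResTen φ] [ResLegIso φ] [HasResTen ρ] [ResLegIso ρ]
  [HasResTen α] [ResLegIso α] [HasResTen φ'] [ResLegIso φ']
  [HasLBase ρ] [HasLBase α] [HasRHom R] [HasRHom R']

omit [HasLTen A] [HasLTen A'] [HasResTen φ] [ResLegIso φ] [HasResTen α] [ResLegIso α]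
  [HasResTen φ'] [ResLegIso φ'] [HasLBase α] [HasRHom R] [HasRHom R'] in
lemma mmAdj_naturality {X X' K K' : Dual.D R} (f : X ⟶ X') (g : K ⟶ K') :
    (LBase ρ).map ((LTen₂ R).map (Prod.mkHom f g)) ≫ mmAdj ρ X' K' =
      mmAdj ρ X K ≫ (LTen₂ R').map (Prod.mkHom ((LBase ρ).map f) ((LBase ρ).map g)) := by
  rw [mmAdj_comp]
  dsimp only [mmAdj]
  rw [← Adjunction.homEquiv_naturality_left_symm, mm_naturality]

omit [HasLTen A] [HasLTen A'] [HasResTen φ] [ResLegIso φ] [HasResTen ρ] [ResLegIso ρ]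
  [HasResTen α] [ResLegIso α] [HasResTen φ'] [ResLegIso φ'] [HasLBase ρ] [HasLBase α] [HasLTen R']
  [HasRHom R'] in
lemma rhom_symm_eq {L Z N : Dual.D R} (f : Z ⟶ (RHomR R L).obj N) :
    (rhomHomEquiv Z L N).symm f = (LTen₂ R).map (Prod.mkHom f (𝟙 L)) ≫ ev L N :=
  (rhomAdj R L).homEquiv_counit _ _ _

omit [HasLTen A] [HasLTen A'] [HasResTen φ] [ResLegIso φ] [HasResTen ρ] [ResLegIso ρ]
  [HasResTen α] [ResLegIso α] [HasResTen φ'] [ResLegIso φ'] [HasLBase ρ] [HasLBase α] [HasLTen R']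
  [HasRHom R'] in
lemma rhom_symm_comp_RHomMap {L L' : Dual.D R} (g : L' ⟶ L) {Z N : Dual.D R}
    (f : Z ⟶ (RHomR R L).obj N) :
    (rhomHomEquiv Z L' N).symm (f ≫ RHomMap g N) = (LTen₂ R).map (Prod.mkHom f g) ≫ ev L N := by
  rw [rhom_symm_eq]
  have h1 : Prod.mkHom (f ≫ RHomMap g N) (𝟙 L') =
      (Prod.mkHom f (𝟙 L') : (Z, L') ⟶ ((RHomR R L).obj N, L')) ≫
        Prod.mkHom (RHomMap g N) (𝟙 L') := by
    simp only [prod_comp, Prod.mkHom]
    refine Prod.ext rfl ?_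
    dsimp
    rw [comp_id]
  have h2 : Prod.mkHom f g =
      (Prod.mkHom f (𝟙 L') : (Z, L') ⟶ ((RHomR R L).obj N, L')) ≫
        Prod.mkHom (𝟙 ((RHomR R L).obj N)) g := by
    simp only [prod_comp, Prod.mkHom]
    refine Prod.ext ?_ ?_
    · dsimp
      rw [comp_id]
    · dsimp
      rw [id_comp]
  rw [h1, h2, Functor.map_comp, Functor.map_comp, assoc, assoc, RHom_map_ev]

/-- **The bridge**: the base change map of trivial duality corresponds to the base change map for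
`RHom`. -/
theorem bridge {Rφ : Dual.D R ⥤ Dual.D A} (adj : DRing.restrictD φ ⊣ Rφ)
    {Rφ' : Dual.D R' ⥤ Dual.D A'} (adj' : DRing.restrictD φ' ⊣ Rφ') (K : Dual.D R)
    (hc : IsIso (cmpG h (baseAdj ρ) (baseAdj α) (Rφ.obj K)))
    [IsIso (rhomBC ρ ((DRing.restrictD φ).obj (unit A)) ((LBase ρ).obj K))] :
    (LBase ρ).map (kap φ adj K) ≫ bcRHom ρ ((DRing.restrictD φ).obj (unit A)) K =
      cmpG h (baseAdj ρ) (baseAdj α) (Rφ.obj K) ≫
        (DRing.restrictD φ').map (bcMapG h (baseAdj ρ) (baseAdj α) adj adj' K hc) ≫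
        kap φ' adj' ((LBase ρ).obj K) ≫ RHomMap (mu h) ((LBase ρ).obj K) := by
  haveI := hc
  apply (rhomHomEquiv _ _ _).symm.injective
  rw [← cancel_epi (mmAdj ρ ((DRing.restrictD φ).obj (Rφ.obj K)) ((DRing.restrictD φ).obj (unit A)))]
  -- left hand side
  have L1 : (rhomHomEquiv _ _ _).symm ((LBase ρ).map (kap φ adj K) ≫
      bcRHom ρ ((DRing.restrictD φ).obj (unit A)) K) =
      (LTen₂ R').map (Prod.mkHom ((LBase ρ).map (kap φ adj K))
        (𝟙 ((LBase ρ).obj ((DRing.restrictD φ).obj (unit A))))) ≫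
        bcFlat ρ ((DRing.restrictD φ).obj (unit A)) K :=
    (rhomAdj R' ((LBase ρ).obj ((DRing.restrictD φ).obj (unit A)))).homEquiv_naturality_left_symm _ _
  have L2 := mmAdj_naturality (ρ := ρ) (kap φ adj K) (𝟙 ((DRing.restrictD φ).obj (unit A)))
  rw [CategoryTheory.Functor.map_id] at L2
  have L3 := mmAdj_comp_bcFlat ρ ((DRing.restrictD φ).obj (unit A)) K
  have L4 : (LTen₂ R).map (Prod.mkHom (kap φ adj K) (𝟙 ((DRing.restrictD φ).obj (unit A)))) ≫
      ev ((DRing.restrictD φ).obj (unit A)) K = act φ (Rφ.obj K) ≫ adj.counit.app K := by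
    rw [← kap_fac φ adj K, rhom_symm_eq]
  rw [L1, ← reassoc_of% L2, L3, ← Functor.map_comp, L4]
  -- right hand side
  have R1 : (rhomHomEquiv _ _ _).symm (cmpG h (baseAdj ρ) (baseAdj α) (Rφ.obj K) ≫
        (DRing.restrictD φ').map (bcMapG h (baseAdj ρ) (baseAdj α) adj adj' K hc) ≫
        kap φ' adj' ((LBase ρ).obj K) ≫ RHomMap (mu h) ((LBase ρ).obj K)) =
      (LTen₂ R').map (Prod.mkHom (cmpG h (baseAdj ρ) (baseAdj α) (Rφ.obj K) ≫
        (DRing.restrictD φ').map (bcMapG h (baseAdj ρ) (baseAdj α) adj adj' K hc) ≫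
        kap φ' adj' ((LBase ρ).obj K)) (mu h)) ≫
        ev ((DRing.restrictD φ').obj (unit A')) ((LBase ρ).obj K) := by
    rw [← assoc, ← assoc, assoc (cmpG h (baseAdj ρ) (baseAdj α) (Rφ.obj K))]
    exact rhom_symm_comp_RHomMap (mu h) _
  rw [R1]
  have R2 : Prod.mkHom (cmpG h (baseAdj ρ) (baseAdj α) (Rφ.obj K) ≫
        (DRing.restrictD φ').map (bcMapG h (baseAdj ρ) (baseAdj α) adj adj' K hc) ≫
        kap φ' adj' ((LBase ρ).obj K)) (mu h) =
      Prod.mkHom (cmpG h (baseAdj ρ) (baseAdj α) (Rφ.obj K)) (mu h) ≫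
      Prod.mkHom ((DRing.restrictD φ').map (bcMapG h (baseAdj ρ) (baseAdj α) adj adj' K hc))
        (𝟙 ((DRing.restrictD φ').obj (unit A'))) ≫
      Prod.mkHom (kap φ' adj' ((LBase ρ).obj K)) (𝟙 ((DRing.restrictD φ').obj (unit A'))) := by
    simp only [prod_comp, Prod.mkHom]
    refine Prod.ext ?_ ?_
    · rfl
    · dsimp
      rw [comp_id, comp_id]
  have R3 : (LTen₂ R').map (Prod.mkHom (kap φ' adj' ((LBase ρ).obj K))
        (𝟙 ((DRing.restrictD φ').obj (unit A')))) ≫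
      ev ((DRing.restrictD φ').obj (unit A')) ((LBase ρ).obj K) =
      act φ' (Rφ'.obj ((LBase ρ).obj K)) ≫ adj'.counit.app ((LBase ρ).obj K) := by
    rw [← kap_fac φ' adj' ((LBase ρ).obj K), rhom_symm_eq]
  have R4 := act_naturality φ' (bcMapG h (baseAdj ρ) (baseAdj α) adj adj' K hc)
  have R5 := map_bcMapG_counit h (baseAdj ρ) (baseAdj α) adj adj' K hc
  have R6 := act_cmp h (Rφ.obj K)
  rw [R2, Functor.map_comp (LTen₂ R'), Functor.map_comp (LTen₂ R'), assoc, assoc, R3,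
    reassoc_of% R4, R5, ← reassoc_of% R6, IsIso.hom_inv_id_assoc, Functor.map_comp]

end Bridge

end Groth.Agent.H4.TB9
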