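import Mathlib
import Groth.Agent.H4.TB4
import Groth.Agent.H4.TB9
import Groth.Agent.H4.DComp10
import Groth.Agent.H4.RB5
import Groth.Agent.H4.KProj7

/-!
# Base change for trivial duality
-/

open CategoryTheory Category Limits MonoidalCategory ZeroObject

universe u

namespace Groth.Agent.H4.TB10

open DTen Groth.Agent.H4.TB1 Groth.Agent.H4.TB4 Groth.Agent.H4.TB6 Groth.Agent.H4.TB9
open Groth.Agent.H4.RB1 Groth.Agent.H4.RB3 Groth.Agent.H4.RB4

attribute [local instance] HasDerivedCategory.standard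

section Conservative

variable {A B : Type u} [CommRing A] [CommRing B] (φ : A →+* B)

lemma isZero_of_isZero_homology (Z : Dual.D B)
    (hZ : ∀ n : ℤ, IsZero ((DerivedCategory.homologyFunctor (ModuleCat.{u} B) n).obj Z)) : IsZero Z := by
  have h0 : IsZero (0 : Dual.D B) := isZero_zero _
  haveI : IsIso (0 : Z ⟶ 0) := by
    rw [DerivedCategory.isIso_iff]
    intro n
    exact isIso_of_source_target_iso_zero _ (hZ n).isoZero
      (((DerivedCategory.homologyFunctor (ModuleCat.{u} B) n).map_isZero h0).isoZero)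
  exact h0.of_iso (asIso (0 : Z ⟶ 0))

lemma isZero_of_isZero_restrictD (Z : Dual.D B) (hZ : IsZero ((DRing.restrictD φ).obj Z)) :
    IsZero Z := by
  refine isZero_of_isZero_homology Z (fun n => ?_)
  rw [← Groth.Agent.H4.RestrPC.isZero_restrictScalars_iff φ]
  refine IsZero.of_iso ?_ (Groth.Agent.H4.DComp.restrictHomologyIso φ Z n).symm
  exact (DerivedCategory.homologyFunctor (ModuleCat.{u} A) n).map_isZero hZ

/-- restriction of scalars is conservative on derived categories. -/
theorem isIso_of_isIso_restrictD {X Y : Dual.D B} (f : X ⟶ Y)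
    (hf : IsIso ((DRing.restrictD φ).map f)) : IsIso f := by
  obtain ⟨Z, g, k, hT⟩ := Pretriangulated.distinguished_cocone_triangle f
  have hT' := (DRing.restrictD φ).map_distinguished _ hT
  have h1 : IsZero ((DRing.restrictD φ).obj Z) :=
    (Pretriangulated.Triangle.isZero₃_iff_isIso₁ _ hT').2 hf
  have h2 := isZero_of_isZero_restrictD φ Z h1
  exact (Pretriangulated.Triangle.isZero₃_iff_isIso₁ _ hT).1 h2

end Conservative


section Change

variable {R A R' A' : Type u} [CommRing R] [CommRing A] [CommRing R'] [CommRing A']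
  {φ : R →+* A} {ρ : R →+* R'} {α : A →+* A'} {φ' : R' →+* A'}
  (h : α.comp φ = φ'.comp ρ)

/-- change of the adjunction data in the base change map. -/
lemma bcMapG_change {Lρ Lρ₂ : Dual.D R ⥤ Dual.D R'} {Lα Lα₂ : Dual.D A ⥤ Dual.D A'}
    (adjρ : Lρ ⊣ DRing.restrictD ρ) (adjα : Lα ⊣ DRing.restrictD α)
    (adjρ₂ : Lρ₂ ⊣ DRing.restrictD ρ) (adjα₂ : Lα₂ ⊣ DRing.restrictD α)
    {Rφ : Dual.D R ⥤ Dual.D A} (adj : DRing.restrictD φ ⊣ Rφ)
    {Rφ' : Dual.D R' ⥤ Dual.D A'} (adj' : DRing.restrictD φ' ⊣ Rφ') (K : Dual.D R)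
    (hc : IsIso (cmpG h adjρ adjα (Rφ.obj K))) (hc₂ : IsIso (cmpG h adjρ₂ adjα₂ (Rφ.obj K))) :
    bcMapG h adjρ₂ adjα₂ adj adj' K hc₂ =
      (adjα.leftAdjointUniq adjα₂).inv.app (Rφ.obj K) ≫ bcMapG h adjρ adjα adj adj' K hc ≫
        Rφ'.map ((adjρ₂.leftAdjointUniq adjρ).inv.app K) := by
  haveI := hc
  haveI := hc₂
  dsimp only [bcMapG]
  rw [← Adjunction.homEquiv_naturality_right, ← Adjunction.homEquiv_naturality_left]
  congr 1
  have h1 := cmpG_change h adjρ adjα adjρ₂ adjα₂ (Rφ.obj K)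
  have h2 : inv (cmpG h adjρ₂ adjα₂ (Rφ.obj K)) =
      (DRing.restrictD φ').map ((adjα.leftAdjointUniq adjα₂).inv.app (Rφ.obj K)) ≫
        inv (cmpG h adjρ adjα (Rφ.obj K)) ≫
        (adjρ₂.leftAdjointUniq adjρ).inv.app ((DRing.restrictD φ).obj (Rφ.obj K)) := by
    apply IsIso.inv_eq_of_hom_inv_id
    rw [h1]
    simp only [assoc]
    rw [← Functor.map_comp_assoc, Iso.hom_inv_id_app, CategoryTheory.Functor.map_id, id_comp,
      IsIso.hom_inv_id_assoc, Iso.hom_inv_id_app]
  have h3 := (adjρ₂.leftAdjointUniq adjρ).inv.naturality (adj.counit.app K)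
  dsimp at h3
  rw [h2, assoc, assoc, assoc, ← h3]

lemma isIso_bcMapG_change_iff {Lρ Lρ₂ : Dual.D R ⥤ Dual.D R'} {Lα Lα₂ : Dual.D A ⥤ Dual.D A'}
    (adjρ : Lρ ⊣ DRing.restrictD ρ) (adjα : Lα ⊣ DRing.restrictD α)
    (adjρ₂ : Lρ₂ ⊣ DRing.restrictD ρ) (adjα₂ : Lα₂ ⊣ DRing.restrictD α)
    {Rφ : Dual.D R ⥤ Dual.D A} (adj : DRing.restrictD φ ⊣ Rφ)
    {Rφ' : Dual.D R' ⥤ Dual.D A'} (adj' : DRing.restrictD φ' ⊣ Rφ') (K : Dual.D R)
    (hc : IsIso (cmpG h adjρ adjα (Rφ.obj K))) (hc₂ : IsIso (cmpG h adjρ₂ adjα₂ (Rφ.obj K))) :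
    IsIso (bcMapG h adjρ₂ adjα₂ adj adj' K hc₂) ↔ IsIso (bcMapG h adjρ adjα adj adj' K hc) := by
  rw [bcMapG_change h adjρ adjα adjρ₂ adjα₂ adj adj' K hc hc₂]
  constructor
  · intro hh
    have h1 := (isIso_comp_left_iff _ _).1 hh
    exact (isIso_comp_right_iff _ _).1 h1
  · intro hh
    infer_instance

end Change


section Final

attribute [local instance] Groth.Agent.H4.LK4.hasLTen Groth.Agent.H4.LK5.hasLTen₃
  Groth.Agent.H4.KI7.isSymMonoidal Groth.Agent.H4.KI6.hasRHom
  Groth.Agent.H4.RB2.hasResTen Groth.Agent.H4.RB2.resLegIso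

variable (R A R' A' : Type u) [CommRing R] [CommRing A] [CommRing R'] [CommRing A']
    [Algebra R A] [Algebra R R'] [Algebra A A'] [Algebra R' A'] [Algebra R A'] [IsScalarTower R A A']
    [IsScalarTower R R' A'] [Algebra.IsPushout R A R' A']

omit [Algebra R A'] [IsScalarTower R A A'] [IsScalarTower R R' A'] [Algebra.IsPushout R A R' A'] in
lemma isIso_RHomMap {B : Type u} [CommRing B] {L L' : Dual.D B} (g : L' ⟶ L) [IsIso g]
    (M : Dual.D B) : IsIso (RHomMap g M) := by
  dsimp only [RHomMap]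
  haveI : IsIso g.op := inferInstance
  haveI : IsIso ((RHom B).map g.op) := inferInstance
  exact NatIso.isIso_app_of_isIso ((RHom B).map g.op) M

/-- the base change map of trivial duality is an isomorphism iff the base change map for `RHom`
is. -/
theorem isIso_bcMapG_iff
    (htor : ∀ p : ℕ, 1 ≤ p → Subsingleton (DRing.Tor R p A R'))
    [HasLBase (algebraMap R R')] [HasLBase (algebraMap A A')]
    (h : (algebraMap A A').comp (algebraMap R A) = (algebraMap R' A').comp (algebraMap R R'))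
    {Rφ : Dual.D R ⥤ Dual.D A} (adj : DRing.restrictD (algebraMap R A) ⊣ Rφ)
    {Rφ' : Dual.D R' ⥤ Dual.D A'} (adj' : DRing.restrictD (algebraMap R' A') ⊣ Rφ')
    (K : Dual.D R)
    (hc : IsIso (cmpG h (baseAdj (algebraMap R R')) (baseAdj (algebraMap A A')) (Rφ.obj K)))
    [IsIso (rhomBC (algebraMap R R') ((DRing.restrictD (algebraMap R A)).obj (unit A))
      ((LBase (algebraMap R R')).obj K))] :
    IsIso (bcMapG h (baseAdj (algebraMap R R')) (baseAdj (algebraMap A A')) adj adj' K hc) ↔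
      IsIso (bcRHom (algebraMap R R') ((DRing.restrictD (algebraMap R A)).obj (unit A)) K) := by
  haveI : Algebra.IsPushout R R' A A' := Algebra.IsPushout.symm inferInstance
  haveI : DRing.HasLBaseChange (algebraMap R A) := Groth.Agent.H4.KProj.hasLBaseChange _
  haveI : DRing.HasLBaseChange (algebraMap R' A') := Groth.Agent.H4.KProj.hasLBaseChange _
  haveI : HasLBase (algebraMap R A) :=
    ⟨(Groth.Agent.H4.KProj.adjLBaseChange (algebraMap R A)).isRightAdjoint⟩
  haveI : HasLBase (algebraMap R' A') :=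
    ⟨(Groth.Agent.H4.KProj.adjLBaseChange (algebraMap R' A')).isRightAdjoint⟩
  haveI := hc
  haveI i1 : IsIso (mu h) := by
    dsimp only [mu]
    haveI := isIso_cmpG_of_isPushout R R' A A' h (isZero_tor_of_subsingleton R A R' htor) (unit A)
    infer_instance
  haveI i2 := isIso_kap (algebraMap R A) adj K
  haveI i3 := isIso_kap (algebraMap R' A') adj' ((LBase (algebraMap R R')).obj K)
  haveI i4 := isIso_RHomMap (mu h) ((LBase (algebraMap R R')).obj K)
  have hb := bridge h adj adj' K hc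
  constructor
  · intro hh
    haveI := hh
    have : bcRHom (algebraMap R R') ((DRing.restrictD (algebraMap R A)).obj (unit A)) K =
        inv ((LBase (algebraMap R R')).map (kap (algebraMap R A) adj K)) ≫
        (cmpG h (baseAdj (algebraMap R R')) (baseAdj (algebraMap A A')) (Rφ.obj K) ≫
        (DRing.restrictD (algebraMap R' A')).map
          (bcMapG h (baseAdj (algebraMap R R')) (baseAdj (algebraMap A A')) adj adj' K hc) ≫
        kap (algebraMap R' A') adj' ((LBase (algebraMap R R')).obj K) ≫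
        RHomMap (mu h) ((LBase (algebraMap R R')).obj K)) := by
      rw [← hb, IsIso.inv_hom_id_assoc]
    rw [this]
    infer_instance
  · intro hh
    haveI := hh
    apply isIso_of_isIso_restrictD (algebraMap R' A')
    have : (DRing.restrictD (algebraMap R' A')).map
          (bcMapG h (baseAdj (algebraMap R R')) (baseAdj (algebraMap A A')) adj adj' K hc) =
        inv (cmpG h (baseAdj (algebraMap R R')) (baseAdj (algebraMap A A')) (Rφ.obj K)) ≫
        ((LBase (algebraMap R R')).map (kap (algebraMap R A) adj K) ≫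
          bcRHom (algebraMap R R') ((DRing.restrictD (algebraMap R A)).obj (unit A)) K) ≫
        inv (kap (algebraMap R' A') adj' ((LBase (algebraMap R R')).obj K) ≫
          RHomMap (mu h) ((LBase (algebraMap R R')).obj K)) := by
      rw [hb]
      simp only [assoc, IsIso.hom_inv_id, comp_id, IsIso.inv_hom_id_assoc]
    rw [this]
    infer_instance

end Final


section Statements

attribute [local instance] Groth.Agent.H4.LK4.hasLTen Groth.Agent.H4.LK5.hasLTen₃
  Groth.Agent.H4.KI7.isSymMonoidal Groth.Agent.H4.KI6.hasRHom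
  Groth.Agent.H4.RB2.hasResTen Groth.Agent.H4.RB2.resLegIso

variable (R A R' A' : Type u) [CommRing R] [CommRing A] [CommRing R'] [CommRing A']
    [Algebra R A] [Algebra R R'] [Algebra A A'] [Algebra R' A'] [Algebra R A'] [IsScalarTower R A A']
    [IsScalarTower R R' A'] [Algebra.IsPushout R A R' A']

/-- reduction of the statement about `TrivBC.bcMap` to the base change map for `RHom`. -/
theorem isIso_bcMap_iff
    (htor : ∀ p : ℕ, 1 ≤ p → Subsingleton (DRing.Tor R p A R'))
    [DRing.HasLBaseChange (algebraMap R R')] [DRing.HasLBaseChange (algebraMap A A')]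
    (adjρ : DRing.LBaseChange (algebraMap R R') ⊣ DRing.restrictD (algebraMap R R'))
    (adjα : DRing.LBaseChange (algebraMap A A') ⊣ DRing.restrictD (algebraMap A A'))
    (h : (algebraMap A A').comp (algebraMap R A) = (algebraMap R' A').comp (algebraMap R R'))
    (Rφ : Dual.D R ⥤ Dual.D A) (adj : DRing.restrictD (algebraMap R A) ⊣ Rφ)
    (Rφ' : Dual.D R' ⥤ Dual.D A') (adj' : DRing.restrictD (algebraMap R' A') ⊣ Rφ')
    (K : Dual.D R) (hc : IsIso (TrivBC.cmp adjρ adjα h (Rφ.obj K)))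
    [HasLBase (algebraMap R R')]
    [IsIso (rhomBC (algebraMap R R') ((DRing.restrictD (algebraMap R A)).obj (unit A))
      ((LBase (algebraMap R R')).obj K))] :
    IsIso (TrivBC.bcMap adjρ adjα h adj adj' K hc) ↔
      IsIso (bcRHom (algebraMap R R') ((DRing.restrictD (algebraMap R A)).obj (unit A)) K) := by
  haveI : HasLBase (algebraMap A A') := ⟨adjα.isRightAdjoint⟩
  rw [bcMap_eq_bcMapG]
  have hc' : IsIso (cmpG h (baseAdj (algebraMap R R')) (baseAdj (algebraMap A A')) (Rφ.obj K)) :=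
    (isIso_cmpG_iff h (baseAdj _) (baseAdj _) adjρ adjα _).1 hc
  rw [isIso_bcMapG_change_iff h (baseAdj _) (baseAdj _) adjρ adjα adj adj' K hc' hc]
  exact isIso_bcMapG_iff R A R' A' htor h adj adj' K hc'

omit [Algebra R A'] [IsScalarTower R A A'] [IsScalarTower R R' A'] [Algebra.IsPushout R A R' A']
  [Algebra R R'] [Algebra A A'] [Algebra R' A'] [CommRing R'] [CommRing A'] in
lemma isPerfect_res_unit (hperf : DRing.IsPerfectModule R A) :
    DRing.IsPerfect R ((DRing.restrictD (algebraMap R A)).obj (unit A)) := by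
  obtain ⟨E, a, b, h1, h2, ⟨e⟩⟩ := hperf
  exact ⟨E, a, b, h1, h2, ⟨e ≪≫ (Groth.Agent.H4.RB5.resUnitIso R A).symm⟩⟩

omit [Algebra R A'] [IsScalarTower R A A'] [IsScalarTower R R' A'] [Algebra.IsPushout R A R' A']
  [Algebra R R'] [Algebra A A'] [Algebra R' A'] [CommRing R'] [CommRing A'] in
lemma isPseudoCoherent'_res_unit (hpc : DRing.IsPseudoCoherentModule' R A) :
    DRing.IsPseudoCoherent' R ((DRing.restrictD (algebraMap R A)).obj (unit A)) := by
  obtain ⟨E, b, h1, h2, ⟨e⟩⟩ := hpc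
  exact ⟨E, b, h1, h2, ⟨e ≪≫ (Groth.Agent.H4.RB5.resUnitIso R A).symm⟩⟩

/-- S13549 -/
theorem isIso_bcMap_of_isPerfect (hperf : DRing.IsPerfectModule R A)
    (htor : ∀ p : ℕ, 1 ≤ p → Subsingleton (DRing.Tor R p A R'))
    [DRing.HasLBaseChange (algebraMap R R')] [DRing.HasLBaseChange (algebraMap A A')]
    (adjρ : DRing.LBaseChange (algebraMap R R') ⊣ DRing.restrictD (algebraMap R R'))
    (adjα : DRing.LBaseChange (algebraMap A A') ⊣ DRing.restrictD (algebraMap A A'))
    (h : (algebraMap A A').comp (algebraMap R A) = (algebraMap R' A').comp (algebraMap R R'))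
    (Rφ : Dual.D R ⥤ Dual.D A) (adj : DRing.restrictD (algebraMap R A) ⊣ Rφ)
    (Rφ' : Dual.D R' ⥤ Dual.D A') (adj' : DRing.restrictD (algebraMap R' A') ⊣ Rφ')
    (K : Dual.D R) (hc : IsIso (TrivBC.cmp adjρ adjα h (Rφ.obj K))) :
    IsIso (TrivBC.bcMap adjρ adjα h adj adj' K hc) := by
  haveI : HasLBase (algebraMap R R') := ⟨adjρ.isRightAdjoint⟩
  haveI := isIso_rhomBC (algebraMap R R') ((DRing.restrictD (algebraMap R A)).obj (unit A))
    ((LBase (algebraMap R R')).obj K)
  rw [isIso_bcMap_iff R A R' A' htor adjρ adjα h Rφ adj Rφ' adj' K hc]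
  exact isIso_bcRHom_of_isPerfect (algebraMap R R') _ K (isPerfect_res_unit R A hperf)

/-- S13550 -/
theorem isIso_bcMap_of_isPseudoCoherent (hpc : DRing.IsPseudoCoherentModule' R A)
    (hfd : DRing.HasFiniteTorDim R R')
    (htor : ∀ p : ℕ, 1 ≤ p → Subsingleton (DRing.Tor R p A R'))
    [DRing.HasLBaseChange (algebraMap R R')] [DRing.HasLBaseChange (algebraMap A A')]
    (adjρ : DRing.LBaseChange (algebraMap R R') ⊣ DRing.restrictD (algebraMap R R'))
    (adjα : DRing.LBaseChange (algebraMap A A') ⊣ DRing.restrictD (algebraMap A A'))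
    (h : (algebraMap A A').comp (algebraMap R A) = (algebraMap R' A').comp (algebraMap R R'))
    (Rφ : Dual.D R ⥤ Dual.D A) (adj : DRing.restrictD (algebraMap R A) ⊣ Rφ)
    (Rφ' : Dual.D R' ⥤ Dual.D A') (adj' : DRing.restrictD (algebraMap R' A') ⊣ Rφ')
    (K : Dual.D R) (n : ℤ) [K.IsGE n] (hc : IsIso (TrivBC.cmp adjρ adjα h (Rφ.obj K))) :
    IsIso (TrivBC.bcMap adjρ adjα h adj adj' K hc) := by
  haveI : HasLBase (algebraMap R R') := ⟨adjρ.isRightAdjoint⟩
  haveI := isIso_rhomBC (algebraMap R R') ((DRing.restrictD (algebraMap R A)).obj (unit A))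
    ((LBase (algebraMap R R')).obj K)
  rw [isIso_bcMap_iff R A R' A' htor adjρ adjα h Rφ adj Rφ' adj' K hc]
  exact Groth.Agent.H4.RB5.isIso_bcRHom_of_hasFiniteTorDim _ K hfd
    (isPseudoCoherent'_res_unit R A hpc) n inferInstance

end Statements

end Groth.Agent.H4.TB10
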