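import Mathlib
import Groth.Agent.H4.FR3
import Groth.Agent.H4.TB10
import Groth.Agent.H4.RD2
import Groth.Agent.H4.PolyTor

set_option autoImplicit false
universe u
open CategoryTheory Category Limits Pretriangulated TensorProduct

namespace Groth.Agent.H4.FR7

attribute [local instance] HasDerivedCategory.standard

open DRing DerivedCategory Groth.Agent.H4.FB2 Groth.Agent.H4.RD Groth.Agent.H4.US21
  Groth.Agent.H4.FR3

section main

variable (R R' A : Type u) [CommRing R] [CommRing R'] [CommRing A] [IsNoetherianRing R]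
  [Algebra R R'] [Algebra R A] [Module.Flat R A]
  (n : ℕ) (ψ : MvPolynomial (Fin n) R →ₐ[R] A) (hψ : Function.Surjective ψ)

attribute [local instance] MvPolynomial.algebraMvPolynomial Algebra.TensorProduct.rightAlgebra

omit [IsNoetherianRing R] in
lemma subsingleton_tor (p : ℕ) (hp : 1 ≤ p) :
    letI := ψ.toRingHom.toAlgebra
    Subsingleton (DRing.Tor (MvPolynomial (Fin n) R) p A (MvPolynomial (Fin n) R')) := by
  letI : Algebra (MvPolynomial (Fin n) R) A := ψ.toRingHom.toAlgebra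
  haveI : IsScalarTower R (MvPolynomial (Fin n) R) A :=
    IsScalarTower.of_algebraMap_eq (fun r => (ψ.commutes r).symm)
  have h0 : DRing.HasTorDimLE R 0 A := (Groth.Agent.S6946.result R A 0).2.2 inferInstance
  haveI := h0 R' p hp
  have h1 : IsZero (Groth.Agent.H2.TorBal.torObj p (ModuleCat.of R A) (ModuleCat.of R R')) :=
    ModuleCat.isZero_of_subsingleton _
  have h2 := Groth.Agent.H4.PolyTor.isZero_tor_baseChange (A := R)
    (A' := MvPolynomial (Fin n) R) A R' p h1
  have hb : IsBaseChange (MvPolynomial (Fin n) R)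
      (IsScalarTower.toAlgHom R R' (MvPolynomial (Fin n) R')).toLinearMap :=
    (inferInstance : Algebra.IsPushout R (MvPolynomial (Fin n) R) R'
      (MvPolynomial (Fin n) R')).out
  have e : ModuleCat.of (MvPolynomial (Fin n) R) (MvPolynomial (Fin n) R ⊗[R] R') ≅
      ModuleCat.of (MvPolynomial (Fin n) R) (MvPolynomial (Fin n) R') := hb.equiv.toModuleIso
  have h3 := h2.of_iso
    (((Tor (ModuleCat.{u} (MvPolynomial (Fin n) R)) p).obj (ModuleCat.of _ A)).mapIso e.symm)
  exact ModuleCat.subsingleton_of_isZero h3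

end main


section key

variable (R R' A : Type u) [CommRing R] [CommRing R'] [CommRing A] [IsNoetherianRing R]
  [Algebra R R'] [Algebra R A] [Module.Flat R A]
  (n : ℕ) (ψ : MvPolynomial (Fin n) R →ₐ[R] A) (hψ : Function.Surjective ψ)
  (Rψ : Dual.D (MvPolynomial (Fin n) R) ⥤ Dual.D A) (adj : DRing.restrictD ψ.toRingHom ⊣ Rψ)
  (Rψ₁ : Dual.D (MvPolynomial (Fin n) R') ⥤ Dual.D (R' ⊗[R] A))
  (adj₁ : DRing.restrictD (psiBC R R' A n ψ).toRingHom ⊣ Rψ₁)

attribute [local instance] MvPolynomial.algebraMvPolynomial Algebra.TensorProduct.rightAlgebra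

/-- derived base change exists (local instance). -/
local instance instHasLBC {A B : Type u} [CommRing A] [CommRing B] (φ : A →+* B) :
    DRing.HasLBaseChange φ := Groth.Agent.H4.KProj.hasLBaseChange φ

include hψ adj adj₁ in
theorem key (K : Dual.D R) :
    Nonempty ((DRing.LBaseChange (algebraMap A (R' ⊗[R] A))).obj
        (Rψ.obj ((DRing.LBaseChange (algebraMap R (MvPolynomial (Fin n) R))).obj K)) ≅
      Rψ₁.obj ((DRing.LBaseChange (algebraMap R' (MvPolynomial (Fin n) R'))).obj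
        ((DRing.LBaseChange (algebraMap R R')).obj K))) := by
  letI : Algebra (MvPolynomial (Fin n) R) A := ψ.toRingHom.toAlgebra
  letI : Algebra (MvPolynomial (Fin n) R') (R' ⊗[R] A) := (psiBC R R' A n ψ).toRingHom.toAlgebra
  letI : Algebra (MvPolynomial (Fin n) R) (R' ⊗[R] A) :=
    ((algebraMap A (R' ⊗[R] A)).comp ψ.toRingHom).toAlgebra
  haveI : IsScalarTower (MvPolynomial (Fin n) R) A (R' ⊗[R] A) :=
    IsScalarTower.of_algebraMap_eq (fun p => rfl)
  haveI : IsScalarTower (MvPolynomial (Fin n) R) (MvPolynomial (Fin n) R') (R' ⊗[R] A) :=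
    IsScalarTower.of_algebraMap_eq (fun p => (psiBC_map R R' A n ψ p).symm)
  haveI : IsScalarTower R (MvPolynomial (Fin n) R) A :=
    IsScalarTower.of_algebraMap_eq (fun r => (ψ.commutes r).symm)
  haveI : IsScalarTower R' (MvPolynomial (Fin n) R') (R' ⊗[R] A) :=
    IsScalarTower.of_algebraMap_eq (fun r => ((psiBC R R' A n ψ).commutes r).symm)
  haveI : IsScalarTower R A (R' ⊗[R] A) := inferInstance
  haveI : IsScalarTower R (MvPolynomial (Fin n) R') (R' ⊗[R] A) := by
    refine IsScalarTower.of_algebraMap_eq (fun r => ?_)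
    rw [IsScalarTower.algebraMap_apply R R' (R' ⊗[R] A),
      IsScalarTower.algebraMap_apply R R' (MvPolynomial (Fin n) R'),
      ← IsScalarTower.algebraMap_apply R' (MvPolynomial (Fin n) R') (R' ⊗[R] A)]
  haveI h2 : Algebra.IsPushout (MvPolynomial (Fin n) R) A (MvPolynomial (Fin n) R')
      (R' ⊗[R] A) := by
    have h1 : Algebra.IsPushout R A R' (R' ⊗[R] A) := inferInstance
    exact (Algebra.IsPushout.comp_iff R (MvPolynomial (Fin n) R) R' (MvPolynomial (Fin n) R')
        (T := A) (T' := R' ⊗[R] A)).1 h1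
  have hperf : DRing.IsPerfectModule (MvPolynomial (Fin n) R) A :=
    Groth.Agent.H4.RD2.isPerfectModule_of_flat R A n ψ hψ
  have htor : ∀ p : ℕ, 1 ≤ p →
      Subsingleton (DRing.Tor (MvPolynomial (Fin n) R) p A (MvPolynomial (Fin n) R')) :=
    fun p hp => subsingleton_tor R R' A n ψ p hp
  let adjρ := Groth.Agent.H4.KProj.adjLBaseChange
    (algebraMap (MvPolynomial (Fin n) R) (MvPolynomial (Fin n) R'))
  let adjα := Groth.Agent.H4.KProj.adjLBaseChange (algebraMap A (R' ⊗[R] A))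
  have h : (algebraMap A (R' ⊗[R] A)).comp (algebraMap (MvPolynomial (Fin n) R) A) =
      (algebraMap (MvPolynomial (Fin n) R') (R' ⊗[R] A)).comp
        (algebraMap (MvPolynomial (Fin n) R) (MvPolynomial (Fin n) R')) := by
    ext p
    · exact (psiBC_map R R' A n ψ _).symm
    · exact (psiBC_map R R' A n ψ _).symm
  let L := (DRing.LBaseChange (algebraMap R (MvPolynomial (Fin n) R))).obj K
  have hc := Groth.Agent.H4.TB4.isIso_cmp_of_isPushout (MvPolynomial (Fin n) R) A
    (MvPolynomial (Fin n) R') (R' ⊗[R] A) htor adjρ adjα h (Rψ.obj L)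
  haveI := Groth.Agent.H4.TB10.isIso_bcMap_of_isPerfect (MvPolynomial (Fin n) R) A
    (MvPolynomial (Fin n) R') (R' ⊗[R] A) hperf htor adjρ adjα h Rψ adj Rψ₁ adj₁ L hc
  obtain ⟨e1⟩ := Groth.Agent.H4.FibPerf.nonempty_LBCComp
    (algebraMap R (MvPolynomial (Fin n) R))
    (algebraMap (MvPolynomial (Fin n) R) (MvPolynomial (Fin n) R')) K
  obtain ⟨e2⟩ := Groth.Agent.H4.FibPerf.nonempty_LBCComp
    (algebraMap R R') (algebraMap R' (MvPolynomial (Fin n) R')) K
  have hcomp : (algebraMap (MvPolynomial (Fin n) R) (MvPolynomial (Fin n) R')).comp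
      (algebraMap R (MvPolynomial (Fin n) R)) =
      (algebraMap R' (MvPolynomial (Fin n) R')).comp (algebraMap R R') := by
    ext r
    simp [MvPolynomial.algebraMap_eq]
  obtain ⟨e3⟩ := Groth.Agent.H4.FibPerf.nonempty_LBC_congr hcomp K
  exact ⟨asIso (TrivBC.bcMap adjρ adjα h adj adj₁ L hc) ≪≫ Rψ₁.mapIso (e1 ≪≫ e3 ≪≫ e2.symm)⟩

end key


section S1807

variable (R R' A : Type u) [CommRing R] [CommRing R'] [CommRing A] [IsNoetherianRing R]
  [Algebra R R'] [Algebra R A] [Module.Flat R A]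
  (n : ℕ) (ψ : MvPolynomial (Fin n) R →ₐ[R] A) (hψ : Function.Surjective ψ)
  (Rψ : Dual.D (MvPolynomial (Fin n) R) ⥤ Dual.D A) (adj : DRing.restrictD ψ.toRingHom ⊣ Rψ)

attribute [local instance] MvPolynomial.algebraMvPolynomial Algebra.TensorProduct.rightAlgebra

/-- derived base change exists (local instance). -/
local instance instHasLBC' {A B : Type u} [CommRing A] [CommRing B] (φ : A →+* B) :
    DRing.HasLBaseChange φ := Groth.Agent.H4.KProj.hasLBaseChange φ

include hψ adj in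
theorem S1807 [IsNoetherianRing R'] [IsNoetherianRing A] [IsNoetherianRing (R' ⊗[R] A)]
    [DRing.HasLBaseChange (algebraMap R (MvPolynomial (Fin n) R))]
    (m : ℕ) (ψ' : MvPolynomial (Fin m) R' →ₐ[R'] (R' ⊗[R] A)) (hψ' : Function.Surjective ψ')
    [DRing.HasLBaseChange (algebraMap R' (MvPolynomial (Fin m) R'))]
    (Rψ' : Dual.D (MvPolynomial (Fin m) R') ⥤ Dual.D (R' ⊗[R] A))
    (adj' : DRing.restrictD ψ'.toRingHom ⊣ Rψ')
    [DRing.HasLBaseChange (Algebra.TensorProduct.includeRight : A →ₐ[R] R' ⊗[R] A).toRingHom]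
    [DRing.HasLBaseChange (algebraMap R R')] (K : Dual.D R) :
    Nonempty ((DRing.LBaseChange
        (Algebra.TensorProduct.includeRight : A →ₐ[R] R' ⊗[R] A).toRingHom).obj
          (Dual2.shriekVia n Rψ K) ≅
      Dual2.shriekVia m Rψ' ((DRing.LBaseChange (algebraMap R R')).obj K)) := by
  haveI : DRing.HasLBaseChange (algebraMap A (R' ⊗[R] A)) :=
    ‹DRing.HasLBaseChange (Algebra.TensorProduct.includeRight : A →ₐ[R] R' ⊗[R] A).toRingHom›
  let ψ₁ := psiBC R R' A n ψ
  let Rψ₁ := Groth.Agent.H4.RAdj.R₀ ψ₁.toRingHom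
  let adj₁ : DRing.restrictD ψ₁.toRingHom ⊣ Rψ₁ := Groth.Agent.H4.RAdj.adjR₀ ψ₁.toRingHom
  obtain ⟨e1⟩ := key R R' A n ψ hψ Rψ adj Rψ₁ adj₁ K
  obtain ⟨e2⟩ := Groth.Agent.H4.KD4.nonempty_iso_presentations R' (R' ⊗[R] A) n ψ₁
    (psiBC_surjective R R' A n ψ hψ) Rψ₁ adj₁ m ψ' hψ' Rψ' adj'
    ((DRing.LBaseChange (algebraMap R R')).obj K)
  let adjα := Groth.Agent.H4.KProj.adjLBaseChange (algebraMap A (R' ⊗[R] A))
  letI := adjα.leftAdjointCommShift ℤ
  have e0 : (DRing.LBaseChange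
      (Algebra.TensorProduct.includeRight : A →ₐ[R] R' ⊗[R] A).toRingHom).obj
        (Dual2.shriekVia n Rψ K) ≅
      ((DRing.LBaseChange (algebraMap A (R' ⊗[R] A))).obj
        (Rψ.obj ((DRing.LBaseChange (algebraMap R (MvPolynomial (Fin n) R))).obj K)))⟦(n : ℤ)⟧ :=
    ((DRing.LBaseChange (algebraMap A (R' ⊗[R] A))).commShiftIso (n : ℤ)).app _
  exact ⟨e0 ≪≫ (shiftFunctor _ (n : ℤ)).mapIso
      (e1 ≪≫ Rψ₁.mapIso (LBCIso _)) ≪≫ e2 ≪≫
    (shiftFunctor _ (m : ℤ)).mapIso (Rψ'.mapIso (LBCIso _).symm)⟩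

end S1807

end Groth.Agent.H4.FR7
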