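import Mathlib

set_option autoImplicit false
universe u
open TensorProduct

namespace Groth.Agent.H4.IK1

variable (R A : Type u) [CommRing R] [CommRing A] [Algebra R A]

/-- the kernel ideal -/
abbrev I : Ideal R := RingHom.ker (algebraMap R A)

/-- restriction `Hom(R,R) → Hom(I,R)` -/
noncomputable abbrev resI : (R →ₗ[R] R) →ₗ[R] ((I R A) →ₗ[R] R) :=
  LinearMap.lcomp R R (I R A).subtype

/-- postcomposition `Hom(I,R) → Hom(I,A)` -/
noncomputable abbrev postI : ((I R A) →ₗ[R] R) →ₗ[R] ((I R A) →ₗ[R] A) :=
  LinearMap.compRight R (Algebra.linearMap R A)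

variable {R A}

lemma postI_surjective (hφ : Function.Surjective (algebraMap R A))
    [Module.Projective R (I R A)] : Function.Surjective (postI R A) := by
  intro g
  obtain ⟨f, hf⟩ := Module.projective_lifting_property (Algebra.linearMap R A) g hφ
  exact ⟨f, hf⟩

lemma ker_postI [Module.Invertible R (I R A)] :
    LinearMap.ker (postI R A) = LinearMap.range (resI R A) := by
  ext f
  rw [LinearMap.mem_ker, LinearMap.mem_range]
  constructor
  · intro hf
    have hmem : ∀ x, f x ∈ I R A := by
      intro x
      have := LinearMap.congr_fun hf x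
      exact this
    let f' : (I R A) →ₗ[R] (I R A) := LinearMap.codRestrict (I R A) f hmem
    obtain ⟨r, hr⟩ := (Module.Invertible.toModuleEnd_bijective R (I R A)).2 f'
    refine ⟨r • LinearMap.id, ?_⟩
    ext x
    have h1 := LinearMap.congr_fun hr x
    have h2 : ((r • (x : I R A) : I R A) : R) = f x := by
      have : (f' x : R) = f x := rfl
      rw [← this, ← h1]
      rfl
    simp only [LinearMap.lcomp_apply', LinearMap.comp_apply, Submodule.subtype_apply,
      LinearMap.smul_apply, LinearMap.id_apply]
    rw [← h2]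
    rfl
  · rintro ⟨g, rfl⟩
    ext x
    simp only [LinearMap.compRight_apply, LinearMap.lcomp_apply', LinearMap.comp_apply,
      Submodule.subtype_apply, Algebra.linearMap_apply, LinearMap.zero_apply]
    have h1 : g (x : R) = (x : R) * g 1 := by
      have := g.map_smul (x : R) 1
      rw [smul_eq_mul, mul_one] at this
      rw [this, smul_eq_mul]
    rw [h1, map_mul]
    have hx : algebraMap R A (x : R) = 0 := x.2
    rw [hx, zero_mul]

/-- `Hom(I,R)/Hom(R,R) ≃ Hom(I,A)` -/
noncomputable def quotEquiv (hφ : Function.Surjective (algebraMap R A))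
    [Module.Invertible R (I R A)] :
    (((I R A) →ₗ[R] R) ⧸ LinearMap.range (resI R A)) ≃ₗ[R] ((I R A) →ₗ[R] A) :=
  (Submodule.quotEquivOfEq _ _ (ker_postI (R := R) (A := A)).symm).trans
    ((postI R A).quotKerEquivOfSurjective (postI_surjective hφ))

variable (N : Type u) [AddCommGroup N] [Module A N]

/-- `N ≃ Hom_R(I, A)` -/
noncomputable def invEquiv (e : (A ⊗[R] (I R A)) ⊗[A] N ≃ₗ[A] A) :
    N ≃ₗ[A] ((I R A) →ₗ[R] A) :=
  (Module.Invertible.linearEquivDual ((TensorProduct.comm A N (A ⊗[R] (I R A))).trans e)).trans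
    (LinearMap.liftBaseChangeEquiv A).symm

end Groth.Agent.H4.IK1
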