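import Mathlib
import Groth.Agent.H4.IK1
import Groth.Agent.H4.DComp1
import Groth.Agent.H4.FR5
import Groth.Agent.H4.DRing1

set_option autoImplicit false
universe u
open CategoryTheory Category Limits Pretriangulated

namespace Groth.Agent.H4.IK2

attribute [local instance] HasDerivedCategory.standard
open DerivedCategory Groth.Agent.H4.IK1

variable (R A : Type u) [CommRing R] [CommRing A] [Algebra R A]

/-- the short complex `I → R → A` -/
noncomputable def S : ShortComplex (ModuleCat.{u} R) :=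
  ShortComplex.mk (ModuleCat.ofHom (I R A).subtype)
    (ModuleCat.ofHom (Algebra.linearMap R A : R →ₗ[R] A)) (by
      apply ModuleCat.hom_ext
      apply LinearMap.ext
      intro x
      exact x.2)

variable {R A}

lemma hS (hφ : Function.Surjective (algebraMap R A)) : (S R A).ShortExact := by
  refine ModuleCat.shortComplex_shortExact (S R A) ?_ (Submodule.injective_subtype _) hφ
  intro x
  constructor
  · intro hx
    exact ⟨⟨x, hx⟩, rfl⟩
  · rintro ⟨y, rfl⟩
    exact y.2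

/-- `Hom(P[0], M[i]) = 0` for `P` projective, `i ≠ 0` -/
lemma hom_proj_eq_zero (P M : Type u) [AddCommGroup P] [Module R P] [Module.Projective R P]
    [AddCommGroup M] [Module R M] (i : ℤ) (hi : i ≠ 0)
    (f : Dual.inD R P ⟶ (Dual.inD R M)⟦i⟧) : f = 0 := by
  rcases lt_or_gt_of_ne hi with h | h
  · haveI : ((Dual.inD R M)⟦i⟧).IsGE 1 := by
      haveI : (Dual.inD R M).IsGE 0 := inferInstance
      haveI : ((Dual.inD R M)⟦i⟧).IsGE (-i) :=
        TStructure.t.isGE_shift (Dual.inD R M) 0 i (-i) (by omega)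
      exact TStructure.t.isGE_of_ge _ 1 (-i) (by omega)
    exact TStructure.t.zero f 0 1 (by omega)
  · haveI : ((Dual.inD R M)⟦i⟧).IsLE (0 - 1) := by
      haveI : (Dual.inD R M).IsLE 0 := inferInstance
      haveI : ((Dual.inD R M)⟦i⟧).IsLE (-i) :=
        TStructure.t.isLE_shift (Dual.inD R M) 0 i (-i) (by omega)
      exact TStructure.t.isLE_of_le _ (-i) (0 - 1) (by omega)
    exact Groth.Agent.H4.DComp.hom_single_projective_eq_zero (ModuleCat.of R P) 0 _ f


/-- the `Ext` groups `Hom(A[0], R[i])` -/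
abbrev E (R A : Type u) [CommRing R] [CommRing A] [Algebra R A] (i : ℤ) : Type (u + 1) :=
  Dual.inD R A ⟶ (Dual.inD R R)⟦i⟧

/-- `Hom_R(A, R) = 0` when `I` is faithful. -/
lemma linearMap_eq_zero (hφ : Function.Surjective (algebraMap R A)) [FaithfulSMul R (I R A)]
    (g : A →ₗ[R] R) : g = 0 := by
  have h1 : g 1 = 0 := by
    have h2 : ∀ x : I R A, (x : R) * g 1 = 0 := by
      intro x
      have h3 := g.map_smul (x : R) 1
      rw [smul_eq_mul] at h3
      rw [← h3, Algebra.smul_def, mul_one]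
      have hx : algebraMap R A (x : R) = 0 := x.2
      rw [hx, map_zero]
    have h4 : g 1 = (0 : R) := by
      apply FaithfulSMul.eq_of_smul_eq_smul (α := (I R A))
      intro x
      apply Subtype.ext
      change g 1 * (x : R) = 0 * (x : R)
      rw [mul_comm, h2, zero_mul]
    exact h4
  ext a
  obtain ⟨r, rfl⟩ := hφ a
  have h5 := g.map_smul r 1
  rw [Algebra.smul_def, mul_one] at h5
  rw [h5, h1, smul_zero]
  rfl

section tri

variable (hφ : Function.Surjective (algebraMap R A))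

/-- the triangle `I → R → A → I[1]` -/
noncomputable abbrev Tr : Triangle (Dual.D R) := (hS hφ).singleTriangle

lemma Tr_dist : Tr hφ ∈ distTriang (Dual.D R) := (hS hφ).singleTriangle_distinguished

/-- maps `X[1] → Y[i]` vanish if maps `X → Y[i-1]` do -/
lemma shift_hom_eq_zero {X Y : Dual.D R} (i : ℤ) (h : ∀ f : X ⟶ Y⟦i - 1⟧, f = 0)
    (g : X⟦(1 : ℤ)⟧ ⟶ Y⟦i⟧) : g = 0 := by
  let e : Y⟦i⟧ ≅ (Y⟦i - 1⟧)⟦(1 : ℤ)⟧ :=
    (CategoryTheory.shiftFunctorAdd' (Dual.D R) (i - 1) 1 i (by omega)).app Y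
  obtain ⟨g', hg'⟩ := (shiftFunctor (Dual.D R) (1 : ℤ)).map_surjective (g ≫ e.hom)
  rw [h g', Functor.map_zero] at hg'
  rw [← cancel_mono e.hom, zero_comp, ← hg']

include hφ in
lemma E_eq_zero [Module.Projective R (I R A)] (i : ℤ) (h0 : i ≠ 0) (h1 : i ≠ 1) (f : E R A i) :
    f = 0 := by
  have hT := Tr_dist hφ
  have h1' : (Tr hφ).mor₂ ≫ f = 0 := hom_proj_eq_zero R R i h0 _
  obtain ⟨g, hg⟩ := Triangle.yoneda_exact₃ _ hT f h1'
  have hg0 : g = 0 := shift_hom_eq_zero i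
    (fun f' => hom_proj_eq_zero (I R A) R (i - 1) (by omega) f') g
  rw [hg, hg0]
  exact comp_zero

include hφ in
lemma E_zero_eq_zero [FaithfulSMul R (I R A)] (f : E R A 0) : f = 0 := by
  let e : (Dual.inD R R)⟦(0 : ℤ)⟧ ≅ Dual.inD R R :=
    (CategoryTheory.shiftFunctorZero (Dual.D R) ℤ).app _
  obtain ⟨g, hg⟩ := (DerivedCategory.singleFunctor (ModuleCat.{u} R) 0).map_surjective (f ≫ e.hom)
  have hg0 : g = 0 := by
    apply ModuleCat.hom_ext
    exact linearMap_eq_zero hφ g.hom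
  rw [hg0, Functor.map_zero] at hg
  rw [← cancel_mono e.hom, zero_comp, ← hg]

/-- the map `Hom_R(I, R) → Ext^1(A, R)` -/
noncomputable def Θ : ((I R A) →ₗ[R] R) →ₗ[R] E R A 1 :=
  (Linear.leftComp R ((Dual.inD R R)⟦(1 : ℤ)⟧) (Tr hφ).mor₃) ∘ₗ
    ((shiftFunctor (Dual.D R) (1 : ℤ)).mapLinearMap R) ∘ₗ
    ((DerivedCategory.singleFunctor (ModuleCat.{u} R) 0).mapLinearMap R) ∘ₗ
    (ModuleCat.homLinearEquiv (S := R) (M := ModuleCat.of R (I R A))
      (N := ModuleCat.of R R)).symm.toLinearMap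

lemma Θ_apply (f : (I R A) →ₗ[R] R) :
    Θ hφ f = (Tr hφ).mor₃ ≫
      ((DerivedCategory.singleFunctor (ModuleCat.{u} R) 0).map (ModuleCat.ofHom f))⟦(1 : ℤ)⟧' := rfl

lemma Θ_surjective : Function.Surjective (Θ hφ) := by
  intro x
  have hT := Tr_dist hφ
  have h1' : (Tr hφ).mor₂ ≫ x = 0 := hom_proj_eq_zero R R 1 (by omega) _
  obtain ⟨g, hg⟩ := Triangle.yoneda_exact₃ _ hT x h1'
  obtain ⟨g', hg'⟩ := (shiftFunctor (Dual.D R) (1 : ℤ)).map_surjective g
  obtain ⟨g'', hg''⟩ := (DerivedCategory.singleFunctor (ModuleCat.{u} R) 0).map_surjective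
    (X := ModuleCat.of R (I R A)) (Y := ModuleCat.of R R) g'
  refine ⟨g''.hom, ?_⟩
  rw [Θ_apply, hg]
  congr 1
  rw [← hg', ← hg'']
  rfl

omit hφ in
lemma aux1 {X Y Z : ModuleCat.{u} R} (a : X ⟶ Y) (b : Y ⟶ Z) :
    (-((DerivedCategory.singleFunctor (ModuleCat.{u} R) 0).map a)⟦(1 : ℤ)⟧') ≫
      ((DerivedCategory.singleFunctor (ModuleCat.{u} R) 0).map b)⟦(1 : ℤ)⟧' =
    ((DerivedCategory.singleFunctor (ModuleCat.{u} R) 0).map (-(a ≫ b)))⟦(1 : ℤ)⟧' := by
  rw [Preadditive.neg_comp, ← Functor.map_comp, ← Functor.map_comp, Functor.map_neg,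
    Functor.map_neg]

omit hφ in
lemma aux2 {X Y Z : ModuleCat.{u} R} (a : X ⟶ Y) (b : Y ⟶ Z) {W : Dual.D R}
    (δ : W ⟶ ((DerivedCategory.singleFunctor (ModuleCat.{u} R) 0).obj X)⟦(1 : ℤ)⟧)
    (h : δ ≫ ((DerivedCategory.singleFunctor (ModuleCat.{u} R) 0).map a)⟦(1 : ℤ)⟧' = 0) :
    δ ≫ ((DerivedCategory.singleFunctor (ModuleCat.{u} R) 0).map (a ≫ b))⟦(1 : ℤ)⟧' = 0 := by
  rw [Functor.map_comp, Functor.map_comp, ← assoc, h, zero_comp]

lemma ker_Θ : LinearMap.ker (Θ hφ) = LinearMap.range (resI R A) := by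
  ext f
  rw [LinearMap.mem_ker, LinearMap.mem_range, Θ_apply]
  have hT := Tr_dist hφ
  constructor
  · intro hf
    obtain ⟨g, hg⟩ := Triangle.yoneda_exact₃ _ (rot_of_distTriang _ hT) _ hf
    obtain ⟨g', hg'⟩ := (shiftFunctor (Dual.D R) (1 : ℤ)).map_surjective g
    obtain ⟨g'', hg''⟩ := (DerivedCategory.singleFunctor (ModuleCat.{u} R) 0).map_surjective
      (X := ModuleCat.of R R) (Y := ModuleCat.of R R) g'
    refine ⟨-g''.hom, ?_⟩
    have hm : (Tr hφ).rotate.mor₃ =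
        -((DerivedCategory.singleFunctor (ModuleCat.{u} R) 0).map (S R A).f)⟦(1 : ℤ)⟧' := rfl
    have h2 : ((DerivedCategory.singleFunctor (ModuleCat.{u} R) 0).map
          (ModuleCat.ofHom f))⟦(1 : ℤ)⟧' =
        ((DerivedCategory.singleFunctor (ModuleCat.{u} R) 0).map
          (-((S R A).f ≫ g'')))⟦(1 : ℤ)⟧' := by
      refine hg.trans ?_
      rw [hm, ← hg', ← hg'']
      exact aux1 (S R A).f g''
    have h3 := (DerivedCategory.singleFunctor (ModuleCat.{u} R) 0).map_injective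
      ((shiftFunctor (Dual.D R) (1 : ℤ)).map_injective h2)
    have h4 := congrArg ModuleCat.Hom.hom h3
    exact h4.symm
  · rintro ⟨g, rfl⟩
    exact aux2 (S R A).f (ModuleCat.ofHom g) (Tr hφ).mor₃ (comp_distTriang_mor_zero₃₁ _ hT)

/-- `Ext^1(A, R) ≃ Hom(I,R)/Hom(R,R)` -/
noncomputable def E1Equiv :
    (((I R A) →ₗ[R] R) ⧸ LinearMap.range (resI R A)) ≃ₗ[R] E R A 1 :=
  (Submodule.quotEquivOfEq _ _ (ker_Θ hφ).symm).trans
    ((Θ hφ).quotKerEquivOfSurjective (Θ_surjective hφ))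

include hφ in
/-- `A` is perfect over `R` -/
lemma isPerfect_inD [Module.Finite R (I R A)] [Module.Projective R (I R A)] :
    DRing.IsPerfect R (Dual.inD R A) :=
  (Groth.Agent.H4.DRing1.isPerfect_two_out_of_three _ (Tr_dist hφ)).1
    (Groth.Agent.H4.FR5.isPerfect_inD_of_projective (A := R) (I R A))
    (Groth.Agent.H4.FR5.isPerfect_inD_of_projective (A := R) R)

end tri

end Groth.Agent.H4.IK2
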