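import Mathlib
import Groth.Agent.H4.IK2
import Groth.Agent.H4.KS2
import Groth.Agent.H4.RB3
import Groth.Agent.H4.RB5
import Groth.Agent.H4.DZ2

set_option autoImplicit false
universe u
open CategoryTheory Category Limits Pretriangulated

namespace Groth.Agent.H4.IK3

attribute [local instance] HasDerivedCategory.standard
attribute [local instance] Groth.Agent.H4.LK4.hasLTen Groth.Agent.H4.LK5.hasLTen₃
  Groth.Agent.H4.KI7.isSymMonoidal Groth.Agent.H4.KI6.hasRHom

open DRing DTen DerivedCategory Groth.Agent.H4.HC6 Groth.Agent.H4.US6 Groth.Agent.H4.FB2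
  Groth.Agent.H4.IK1 Groth.Agent.H4.IK2

section single

variable {T B : Type u} [CommRing T] [CommRing B] [Algebra T B]

/-- **single degree trick, general module**: an object of `D(B)` whose restriction to `T` has
cohomology only in degree `c`, `T`-linearly isomorphic to `N`, is `N[-c]`, if `T → B` is
surjective. -/
theorem nonempty_iso_single_of_res (hs : Function.Surjective (algebraMap T B)) (Y : Dual.D B)
    (c : ℤ) (N : Type u) [AddCommGroup N] [Module B N]
    (hz : ∀ i : ℤ, i ≠ c → Subsingleton (Dual.HD T ((Res T B).obj Y) i))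
    (ψ : Dual.HD T ((Res T B).obj Y) c ≃+ N)
    (hψ : ∀ (t : T) (x : Dual.HD T ((Res T B).obj Y) c), ψ (t • x) = algebraMap T B t • ψ x) :
    Nonempty (Y ≅ (singleFunctor (ModuleCat.{u} B) c).obj (ModuleCat.of B N)) := by
  have hres : ∀ i : ℤ, (homologyFunctor (ModuleCat.{u} T) i).obj ((Res T B).obj Y) ≅
      (ModuleCat.restrictScalars.{u} (algebraMap T B)).obj
        ((homologyFunctor (ModuleCat.{u} B) i).obj Y) :=
    fun i => Groth.Agent.H4.DComp.restrictHomologyIso (algebraMap T B) Y i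
  have hz' : ∀ i : ℤ, i ≠ c → IsZero ((homologyFunctor (ModuleCat.{u} B) i).obj Y) := by
    intro i hi
    haveI := hz i hi
    have h1 : IsZero ((homologyFunctor (ModuleCat.{u} T) i).obj ((Res T B).obj Y)) :=
      ModuleCat.isZero_of_subsingleton _
    have h2 := h1.of_iso (hres i).symm
    haveI := ModuleCat.subsingleton_of_isZero h2
    haveI : Subsingleton ((homologyFunctor (ModuleCat.{u} B) i).obj Y) :=
      inferInstanceAs (Subsingleton ((ModuleCat.restrictScalars.{u} (algebraMap T B)).obj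
        ((homologyFunctor (ModuleCat.{u} B) i).obj Y)))
    exact ModuleCat.isZero_of_subsingleton _
  haveI : Y.IsLE c := by
    rw [DerivedCategory.isLE_iff]; intro i hi; exact hz' i (by omega)
  haveI : Y.IsGE c := by
    rw [DerivedCategory.isGE_iff]; intro i hi; exact hz' i (by omega)
  obtain ⟨N', ⟨eN⟩⟩ := exists_iso_singleFunctor_obj_of_isGE_of_isLE Y c
  have i1 : (homologyFunctor (ModuleCat.{u} B) c).obj Y ≅ N' :=
    (homologyFunctor (ModuleCat.{u} B) c).mapIso eN ≪≫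
      (singleFunctorCompHomologyFunctorIso (ModuleCat.{u} B) c).app N'
  have i2 : (ModuleCat.restrictScalars.{u} (algebraMap T B)).obj N' ≅
      (homologyFunctor (ModuleCat.{u} T) c).obj ((Res T B).obj Y) :=
    (ModuleCat.restrictScalars.{u} (algebraMap T B)).mapIso i1.symm ≪≫ (hres c).symm
  let α₀ : ((ModuleCat.restrictScalars.{u} (algebraMap T B)).obj N') ≃ₗ[T]
      Dual.HD T ((Res T B).obj Y) c := i2.toLinearEquiv
  let α : N' ≃+ Dual.HD T ((Res T B).obj Y) c := α₀.toAddEquiv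
  have hα : ∀ (t : T) (x : N'), α (algebraMap T B t • x) = t • α x := fun t x => α₀.map_smul t x
  let φ : N' ≃ₗ[B] N :=
    { (α.trans ψ) with
      map_smul' := fun b x => by
        obtain ⟨t, rfl⟩ := hs b
        change ψ (α (algebraMap T B t • x)) = algebraMap T B t • ψ (α x)
        rw [hα, hψ] }
  exact ⟨eN ≪≫ (singleFunctor (ModuleCat.{u} B) c).mapIso φ.toModuleIso⟩

end single

section final

open scoped TensorProduct

variable (R A : Type u) [CommRing R] [CommRing A] [Algebra R A]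
variable [DTen.HasRHomRel (algebraMap R A)]

/-- cohomology of `res ω` as `Ext` -/
lemma nonempty_HD_equiv_E (i : ℤ) :
    Nonempty (Dual.HD R ((Res R A).obj ((RHomRel (algebraMap R A)).obj (unit R))) i ≃ₗ[R]
      E R A i) := by
  let e1 : (Res R A).obj ((RHomRel (algebraMap R A)).obj (unit R)) ≅
      (RHomR R (Groth.Agent.H4.US2.NB R A)).obj (unit R) :=
    (Groth.Agent.H4.US3.rho (RHomRel (algebraMap R A)) (relAdj (algebraMap R A))).app (unit R)
  obtain ⟨e2⟩ := Groth.Agent.H4.DZ2.nonempty_extLinEquiv (Groth.Agent.H4.US2.NB R A) (unit R) i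
  let e0 : Dual.HD R ((Res R A).obj ((RHomRel (algebraMap R A)).obj (unit R))) i ≃ₗ[R]
      Dual.HD R ((RHomR R (Groth.Agent.H4.US2.NB R A)).obj (unit R)) i :=
    ((homologyFunctor (ModuleCat.{u} R) i).mapIso e1).toLinearEquiv
  let e3 : (Groth.Agent.H4.US2.NB R A ⟶ (unit R)⟦i⟧) ≃ₗ[R] (Dual.inD R A ⟶ (unit R)⟦i⟧) :=
    Groth.Agent.H4.DZ2.isoHomLinEquiv (Groth.Agent.H4.US4.jB R A).symm _
  let e4 : (Dual.inD R A ⟶ (unit R)⟦i⟧) ≃ₗ[R] (Dual.inD R A ⟶ (Dual.inD R R)⟦i⟧) :=
    Groth.Agent.H4.DZ2.homIsoLinEquiv _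
      ((shiftFunctor (Dual.D R) i).mapIso Groth.Agent.H4.KI8.inDUnitIso.symm)
  exact ⟨e0 ≪≫ₗ e2 ≪≫ₗ e3 ≪≫ₗ e4⟩

variable {R A}

/-- `ω = RHom(A, R) ≅ N[-1]` -/
theorem nonempty_omega_iso (hφ : Function.Surjective (algebraMap R A))
    [Module.Invertible R (I R A)]
    (N : Type u) [AddCommGroup N] [Module A N]
    (e : (A ⊗[R] (I R A)) ⊗[A] N ≃ₗ[A] A) :
    Nonempty ((RHomRel (algebraMap R A)).obj (unit R) ≅ (Dual.inD A N)⟦(-1 : ℤ)⟧) := by
  have hz : ∀ i : ℤ, i ≠ 1 → Subsingleton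
      (Dual.HD R ((Res R A).obj ((RHomRel (algebraMap R A)).obj (unit R))) i) := by
    intro i hi
    obtain ⟨e1⟩ := nonempty_HD_equiv_E R A i
    haveI : Subsingleton (E R A i) := by
      constructor
      intro a b
      by_cases h0 : i = 0
      · subst h0
        rw [E_zero_eq_zero hφ a, E_zero_eq_zero hφ b]
      · rw [E_eq_zero hφ i h0 hi a, E_eq_zero hφ i h0 hi b]
    exact e1.toEquiv.subsingleton
  obtain ⟨e1⟩ := nonempty_HD_equiv_E R A 1
  let ψ₁ : Dual.HD R ((Res R A).obj ((RHomRel (algebraMap R A)).obj (unit R))) 1 ≃ₗ[R]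
      ((I R A) →ₗ[R] A) :=
    e1 ≪≫ₗ (E1Equiv hφ).symm ≪≫ₗ quotEquiv hφ
  let ψ₂ : ((I R A) →ₗ[R] A) ≃ₗ[A] N := (invEquiv N e).symm
  let ψ : Dual.HD R ((Res R A).obj ((RHomRel (algebraMap R A)).obj (unit R))) 1 ≃+ N :=
    ψ₁.toAddEquiv.trans ψ₂.toAddEquiv
  have hψ : ∀ (t : R) (x : Dual.HD R ((Res R A).obj ((RHomRel (algebraMap R A)).obj (unit R))) 1),
      ψ (t • x) = algebraMap R A t • ψ x := by
    intro t x
    change ψ₂ (ψ₁ (t • x)) = algebraMap R A t • ψ₂ (ψ₁ x)
    rw [map_smul, ← map_smul ψ₂, algebraMap_smul]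
  obtain ⟨e2⟩ := nonempty_iso_single_of_res hφ _ 1 N hz ψ hψ
  exact ⟨e2 ≪≫ (((singleFunctors (ModuleCat.{u} A)).shiftIso (-1) 1 0 (by simp)).app
      (ModuleCat.of A N)).symm⟩

end final

end Groth.Agent.H4.IK3
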