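import Mathlib
import Groth.Agent.H4.US12
import Groth.Agent.H4.FB5

set_option autoImplicit false
universe u
open CategoryTheory Category Limits Pretriangulated

namespace Groth.Agent.H4.PD1

attribute [local instance] HasDerivedCategory.standard
attribute [local instance] Groth.Agent.H4.LK4.hasLTen Groth.Agent.H4.LK5.hasLTen₃
  Groth.Agent.H4.KI7.isSymMonoidal Groth.Agent.H4.KI6.hasRHom

open DRing DTen DerivedCategory Groth.Agent.H4.DThick Groth.Agent.H4.DCompl1 Groth.Agent.H4.CF1
  Groth.Agent.H4.InjAmp Groth.Agent.H4.DZ1 Groth.Agent.H4.DZ2 Groth.Agent.H4.DZ3 Groth.Agent.H4.DZ4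
  Groth.Agent.H4.DZ5 Groth.Agent.H4.DZ6 Groth.Agent.H4.ProjAmp Groth.Agent.H4.US8 Groth.Agent.H4.US9
  Groth.Agent.H4.US10 Groth.Agent.H4.US11 Groth.Agent.H4.US12 Groth.Agent.H4.FB1 Groth.Agent.H4.FB2
  Groth.Agent.H4.FB3 Groth.Agent.H4.FB5

open scoped Pointwise TensorProduct

variable {A : Type u} [CommRing A] [IsNoetherianRing A]

section basics

variable (R : Dual.D A) (hfin : ∀ i : ℤ, Module.Finite A (Dual.HD A R i))

include hfin in
lemma finite_ext' (a : ℤ) [R.IsGE a] (M : Type u) [AddCommGroup M] [Module A M] [Module.Finite A M] (i : ℤ) :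
    Module.Finite A (Dual.inD A M ⟶ R⟦i⟧) := by
  haveI : (R⟦i⟧).IsGE (a - i) := TStructure.t.isGE_shift R a i (a - i) (by ring)
  have h := FH_module (R⟦i⟧) (finite_HD_shift R hfin i) (a - i) M 0
  exact finite_hom_of_iso ((shiftFunctorZero (Dual.D A) ℤ).app _) _ h

/-- for a pointwise dualizing complex, `Ext^i(A/p, R)_p` is nonzero for exactly one `i`. -/
theorem exists_degree' (a : ℤ) [R.IsGE a] (p : PrimeSpectrum A)
    (hB : Dual.IsDualizing (Localization.AtPrime p.asIdeal)
      ((E A (Localization.AtPrime p.asIdeal)).obj R)) :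
    ∃ n : ℤ, ∀ i : ℤ,
      p ∈ Module.support A (Dual.inD A (A ⧸ p.asIdeal) ⟶ R⟦i⟧) ↔ i = n := by
  haveI : IsNoetherianRing (Localization.AtPrime p.asIdeal) :=
    IsLocalization.isNoetherianRing p.asIdeal.primeCompl _ inferInstance
  obtain ⟨n, hn⟩ := exists_extData ((E A (Localization.AtPrime p.asIdeal)).obj R) hB
  refine ⟨n, fun i => ?_⟩
  haveI : (R⟦i⟧).IsGE (a - i) := TStructure.t.isGE_shift R a i (a - i) (by ring)
  rw [← nontrivial_hom_E_iff p (Dual.inD A (A ⧸ p.asIdeal)) (R⟦i⟧) (a - i)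
    (isPC'_inD (A ⧸ p.asIdeal)),
    ((EQuotIso (B := Localization.AtPrime p.asIdeal) p.asIdeal).homCongr
      (EShiftIso R i)).nontrivial_congr,
    nontrivial_hom_congr_of_eq _ _ _ (Localization.AtPrime.map_eq_maximalIdeal)]
  constructor
  · intro h
    by_contra hi
    haveI := hn.van i hi
    exact not_subsingleton _ ‹Subsingleton (Sk (Localization.AtPrime p.asIdeal) 0 ⟶ _)›
  · intro hi
    obtain ⟨e⟩ := hn.top i hi
    haveI : Nontrivial (Localization.AtPrime p.asIdeal ⧸
        IsLocalRing.maximalIdeal (Localization.AtPrime p.asIdeal)) :=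
      Ideal.Quotient.nontrivial_iff.2 (IsLocalRing.maximalIdeal.isMaximal _).ne_top
    exact e.nontrivial

/-- local bound on the injective dimension. -/
theorem exists_local_bound (a : ℤ) [R.IsGE a] (q : PrimeSpectrum A)
    (hB : Dual.IsDualizing (Localization.AtPrime q.asIdeal)
      ((E A (Localization.AtPrime q.asIdeal)).obj R)) :
    ∃ b : ℤ, ∀ (M : Type u) [AddCommGroup M] [Module A M] [Module.Finite A M] (i : ℤ), b < i →
      q ∉ Module.support A (Dual.inD A M ⟶ R⟦i⟧) := by
  obtain ⟨a', b, hab⟩ := hB.finite_injective_dimension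
  refine ⟨b, fun M _ _ _ i hi hq => ?_⟩
  haveI : (R⟦i⟧).IsGE (a - i) := TStructure.t.isGE_shift R a i (a - i) (by ring)
  rw [← nontrivial_hom_E_iff q (Dual.inD A M) (R⟦i⟧) (a - i) (isPC'_inD M),
    ((ESingleIso (B := Localization.AtPrime q.asIdeal) (ModuleCat.of A M) 0).homCongr
      (EShiftIso R i)).nontrivial_congr] at hq
  haveI := hab ((ModuleCat.extendScalars.{u, u, u}
    (algebraMap A (Localization.AtPrime q.asIdeal))).obj (ModuleCat.of A M)) i (Or.inr hi)
  exact not_subsingleton _ ‹Subsingleton (Dual.inD (Localization.AtPrime q.asIdeal) _ ⟶ _)›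

end basics

section dimfun

variable (R : Dual.D A) (hfin : ∀ i : ℤ, Module.Finite A (Dual.HD A R i)) (a : ℤ) [hGE : R.IsGE a]
  (n : PrimeSpectrum A → ℤ)
  (hn : ∀ (p : PrimeSpectrum A) (i : ℤ),
    p ∈ Module.support A (Dual.inD A (A ⧸ p.asIdeal) ⟶ R⟦i⟧) ↔ i = n p)
  (hb : ∀ q : PrimeSpectrum A, ∃ b : ℤ, ∀ (M : Type u) [AddCommGroup M] [Module A M]
    [Module.Finite A M] (i : ℤ), b < i → q ∉ Module.support A (Dual.inD A M ⟶ R⟦i⟧))

include hfin hGE in
/-- `Supp Ext^i(M) ∩ V(x) ⊆ Supp Ext^{i+1}(M/xM)` -/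
lemma mem_support_step' (M : Type u) [AddCommGroup M] [Module A M] [Module.Finite A M] (x : A)
    (hx : IsSMulRegular M x) (i : ℤ) (q : PrimeSpectrum A)
    (hq : q ∈ Module.support A (Dual.inD A M ⟶ R⟦i⟧)) (hxq : x ∈ q.asIdeal) :
    q ∈ Module.support A (Dual.inD A (QuotSMulTop x M) ⟶ R⟦i + 1⟧) := by
  haveI := finite_ext' R hfin a M i
  have h1 := support_step (R⟦i⟧) M x hx ⟨hq, mem_zeroLocus_singleton q x hxq⟩
  rw [support_shift_succ _ R i (i + 1) rfl] at h1
  exact h1

include hfin hGE hn hb in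
/-- vanishing of `Ext^i(M, R)_q` above the degree `n q`. -/
theorem not_mem_support_of_gt' (q : PrimeSpectrum A) (i : ℤ) (hi : n q < i)
    (M : Type u) [AddCommGroup M] [Module A M] [Module.Finite A M] :
    q ∉ Module.support A (Dual.inD A M ⟶ R⟦i⟧) := by
  obtain ⟨b, hab⟩ := hb q
  have key : ∀ (k : ℕ) (i : ℤ), n q < i → b < i + k →
      ∀ (M : Type u) [AddCommGroup M] [Module A M] [Module.Finite A M],
        q ∉ Module.support A (Dual.inD A M ⟶ R⟦i⟧) := by
    intro k
    induction k with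
    | zero =>
      intro i _ hb M _ _ _ hq
      exact hab M i (by simpa using hb) hq
    | succ k ih =>
      intro i hi hb M _ _ _ hq
      obtain ⟨p', hle, hp'⟩ := exists_prime_le_of_mem_support _ q M hq
      rcases eq_or_lt_of_le hle with heq | hlt
      · subst heq
        have := (hn p' i).1 hp'
        omega
      · obtain ⟨x, hxq, hxp⟩ := Set.exists_of_ssubset (show p'.asIdeal < q.asIdeal from hlt)
        haveI := p'.isPrime
        have hreg := isSMulRegular_quotient_prime p'.asIdeal x hxp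
        exact ih (i + 1) (by omega) (by push_cast at hb; omega) _
          (mem_support_step' R hfin a (A ⧸ p'.asIdeal) x hreg i q hp' hxq)
  exact key (b - i + 1).toNat i hi (by
    have := Int.self_le_toNat (b - i + 1)
    omega) M

include hfin hGE hn hb in
/-- **the degree drops by one along an immediate specialization.** -/
theorem degree_of_covBy' (p q : PrimeSpectrum A) (hpq : p ⋖ q) : n p = n q - 1 := by
  haveI := p.isPrime
  obtain ⟨x, hxq, hxp⟩ := Set.exists_of_ssubset (show p.asIdeal < q.asIdeal from hpq.lt)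
  have hreg := isSMulRegular_quotient_prime p.asIdeal x hxp
  have hcov : ∀ p'' : PrimeSpectrum A, p < p'' → p'' ≤ q → p'' = q := fun p'' h1 h2 =>
    eq_of_le_of_not_lt h2 (hpq.2 h1)
  -- Step A
  have hA : q ∈ Module.support A (Dual.inD A (QuotSMulTop x (A ⧸ p.asIdeal)) ⟶ R⟦n q⟧) := by
    have hqQ : q ∈ Module.support A (QuotSMulTop x (A ⧸ p.asIdeal)) :=
      (mem_support_quotSMulTop_quotient p q x).2 ⟨hpq.le, hxq⟩
    have hmin : q.asIdeal ∈ (Module.annihilator A
        (QuotSMulTop x (A ⧸ p.asIdeal))).minimalPrimes := by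
      refine ⟨⟨q.isPrime, Module.mem_support_iff_of_finite.1 hqQ⟩, ?_⟩
      rintro q' ⟨hq'prime, hq'ann⟩ hq'q
      let q'' : PrimeSpectrum A := ⟨q', hq'prime⟩
      have h1 : q'' ∈ Module.support A (QuotSMulTop x (A ⧸ p.asIdeal)) :=
        Module.mem_support_iff_of_finite.2 hq'ann
      obtain ⟨hpq', hxq'⟩ := (mem_support_quotSMulTop_quotient p q'' x).1 h1
      have hlt : p < q'' := lt_of_le_of_ne hpq' (by
        intro h
        apply hxp
        rw [h]
        exact hxq')
      have := hcov q'' hlt hq'q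
      rw [← this]
    have hass := Module.associatedPrimes.minimalPrimes_annihilator_subset_associatedPrimes A
      (QuotSMulTop x (A ⧸ p.asIdeal)) hmin
    obtain ⟨-, f, hf⟩ := (isAssociatedPrime_iff_exists_injective_linearMap _ _).1 hass
    have h2 := support_hom_les2 (R⟦n q⟧) _ _ _ f (LinearMap.range f).mkQ hf
      (Submodule.mkQ_surjective _) (LinearMap.exact_map_mkQ_range f) ((hn q (n q)).2 rfl)
    rcases h2 with h | h
    · exact h
    · exfalso
      rw [support_shift_succ _ R (n q) (n q + 1) rfl] at h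
      exact not_mem_support_of_gt' R hfin a n hn hb q (n q + 1) (by omega) _ h
  -- Step B
  have hB : ∀ i : ℤ, n q ≤ i →
      q ∉ Module.support A (Dual.inD A (A ⧸ p.asIdeal) ⟶ R⟦i⟧) := by
    intro i hi h
    exact not_mem_support_of_gt' R hfin a n hn hb q (i + 1) (by omega) _
      (mem_support_step' R hfin a (A ⧸ p.asIdeal) x hreg i q h hxq)
  -- Step C
  have hC : q ∈ Module.support A (Dual.inD A (A ⧸ p.asIdeal) ⟶ R⟦n q - 1⟧) := by
    have h3 := support_hom_les3 (R⟦n q - 1⟧) _ _ _
      (LinearMap.lsmul A (A ⧸ p.asIdeal) x) (x • (⊤ : Submodule A (A ⧸ p.asIdeal))).mkQ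
      hreg (Submodule.mkQ_surjective _) (exact_lsmul_mkQ _ x)
    have e1 := fun (X : Dual.D A) => support_shift_succ X R (n q - 1) (n q) (by ring)
    have hA' : q ∈ Module.support A (Dual.inD A (QuotSMulTop x (A ⧸ p.asIdeal)) ⟶
        (R⟦n q - 1⟧)⟦(1 : ℤ)⟧) := by
      rw [e1]
      exact hA
    rcases h3 hA' with h | h
    · exact h
    · exfalso
      apply hB (n q) le_rfl
      rw [← e1]
      exact h
  -- Step D
  have hD : p ∈ Module.support A (Dual.inD A (A ⧸ p.asIdeal) ⟶ R⟦n q - 1⟧) := by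
    haveI := finite_ext' R hfin a (A ⧸ p.asIdeal) (n q - 1)
    by_contra hp
    rw [Module.mem_support_iff_of_finite] at hp
    obtain ⟨s, hs, hsp⟩ := Set.not_subset.1 hp
    by_cases hsq : s ∈ q.asIdeal
    · have hregs := isSMulRegular_quotient_prime p.asIdeal s hsp
      have h1 := support_subset_of_smul_eq_zero (R⟦n q - 1⟧) (A ⧸ p.asIdeal) s hregs
        (fun φ => Module.mem_annihilator.1 hs φ) hC
      obtain ⟨p'', hle, hI, hp''⟩ := exists_prime_le_of_mem_support' _ q
        (p.asIdeal ⊔ Ideal.span {s}) _ (smul_quotSMulTop_quotient_eq_zero p.asIdeal s) h1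
      have hlt : p < p'' := by
        refine lt_of_le_of_ne (le_sup_left.trans hI) ?_
        intro h
        apply hsp
        rw [h]
        exact hI (Ideal.mem_sup_right (Ideal.mem_span_singleton_self s))
      have := hcov p'' hlt hle
      subst this
      have := (hn p'' (n p'' - 1)).1 hp''
      omega
    · exact hsq (Module.annihilator_le_of_mem_support hC hs)
  have := (hn p (n q - 1)).1 hD
  omega

include hfin hGE hn hb in
/-- the degree function is monotone and grows at most by the height. -/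
theorem degree_le_add_height : ∀ (h : ℕ) (q : PrimeSpectrum A), q.asIdeal.height = h →
    ∀ p : PrimeSpectrum A, p ≤ q → n p ≤ n q ∧ n q ≤ n p + h := by
  intro h
  induction h using Nat.strong_induction_on with
  | _ h ih =>
  intro q hq p hpq
  rcases eq_or_lt_of_le hpq with heq | hlt
  · subst heq
    constructor <;> omega
  -- a maximal element of `[p, q)`
  let S : Set (PrimeSpectrum A) := {c | p ≤ c ∧ c < q}
  have hwf : WellFounded ((· > ·) : PrimeSpectrum A → PrimeSpectrum A → Prop) :=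
    InvImage.wf (fun c : PrimeSpectrum A => c.asIdeal) (wellFounded_gt (α := Ideal A))
  obtain ⟨c, ⟨hpc, hcq⟩, hcmax⟩ := hwf.has_min S ⟨p, le_rfl, hlt⟩
  have hcov : c ⋖ q := by
    refine ⟨hcq, fun c' hcc' hc'q => ?_⟩
    exact hcmax c' ⟨hpc.trans hcc'.le, hc'q⟩ hcc'
  have h1 := degree_of_covBy' R hfin a n hn hb c q hcov
  haveI := c.isPrime
  haveI := q.isPrime
  have hht : c.asIdeal.height < q.asIdeal.height :=
    Ideal.height_strict_mono_of_isPrime (show c.asIdeal < q.asIdeal from hcq)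
  obtain ⟨h', hh'⟩ : ∃ h' : ℕ, c.asIdeal.height = h' :=
    ⟨_, (ENat.natCast_toNat (Ideal.height_ne_top (by exact c.isPrime.ne_top))).symm⟩
  have hlt' : h' < h := by
    rw [hh', hq] at hht
    exact_mod_cast hht
  have := ih h' hlt' c hh' p hpc
  omega

end dimfun

omit [IsNoetherianRing A] in
lemma exists_nat_bound (h : ringKrullDim A < ⊤) : ∃ d : ℕ, ringKrullDim A ≤ d := by
  generalize ringKrullDim A = x at h
  induction x using WithBot.recBotCoe with
  | bot => exact ⟨0, bot_le⟩
  | coe x =>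
    have hx : x ≠ ⊤ := by
      rintro rfl
      exact lt_irrefl _ h
    refine ⟨x.toNat, ?_⟩
    have := ENat.coe_toNat hx
    exact_mod_cast this.ge

/-- **pointwise dualizing + finite Krull dimension ⟹ dualizing.** -/
theorem isDualizing_of_pointwise (hdim : ringKrullDim A < ⊤) (R : Dual.D A)
    (hfin : ∀ i : ℤ, Module.Finite A (Dual.HD A R i))
    (hbdd : ∃ a : ℤ, ∀ i : ℤ, i < a → Subsingleton (Dual.HD A R i))
    (hloc : ∀ p : PrimeSpectrum A, Dual.IsDualizing (Localization.AtPrime p.asIdeal)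
      ((E A (Localization.AtPrime p.asIdeal)).obj R)) : Dual.IsDualizing A R := by
  obtain ⟨a, ha⟩ := hbdd
  haveI hGE : R.IsGE a := by
    rw [isGE_iff]
    intro i hi
    haveI := ha i hi
    exact ModuleCat.isZero_of_subsingleton _
  choose n hn using fun p => exists_degree' R a p (hloc p)
  have hb := fun q => exists_local_bound R a q (hloc q)
  obtain ⟨d, hd⟩ := exists_nat_bound hdim
  classical
  let f : Ideal A → ℤ := fun I => if h : I.IsPrime then n ⟨I, h⟩ else 0
  obtain ⟨M, hM⟩ := ((minimalPrimes.finite_of_isNoetherianRing A).image f).bddAbove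
  have hnq : ∀ q : PrimeSpectrum A, n q ≤ M + d := by
    intro q
    obtain ⟨p, hpmin, hple⟩ := Ideal.exists_minimalPrimes_le
      (show (⊥ : Ideal A) ≤ q.asIdeal from bot_le)
    have hpprime : p.IsPrime := hpmin.1.1
    have h1 : f p ≤ M := hM ⟨p, hpmin, rfl⟩
    have h2 : f p = n ⟨p, hpprime⟩ := dif_pos hpprime
    haveI := q.isPrime
    obtain ⟨h, hh⟩ : ∃ h : ℕ, q.asIdeal.height = h :=
      ⟨_, (ENat.natCast_toNat (Ideal.height_ne_top q.isPrime.ne_top)).symm⟩
    have h3 := (degree_le_add_height R hfin a n hn hb h q hh ⟨p, hpprime⟩ hple).2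
    have h4 : h ≤ d := by
      have := Ideal.height_le_ringKrullDim_of_ne_top q.isPrime.ne_top
      rw [hh] at this
      exact_mod_cast this.trans hd
    omega
  obtain ⟨b, hbdef⟩ : ∃ b : ℤ, b = max (M + d) a := ⟨_, rfl⟩
  have hP : Groth.Agent.H4.InjAmp.P a b R := by
    intro I i hi
    rw [subsingleton_sgl_iff]
    rcases hi with hi | hi
    · haveI : (R⟦i⟧).IsGE (a - i) := TStructure.t.isGE_shift R a i (a - i) (by ring)
      haveI : (R⟦i⟧).IsGE 1 := TStructure.t.isGE_of_ge _ 1 (a - i) (by omega)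
      have hz : ∀ f : Dual.inD A (A ⧸ I) ⟶ R⟦i⟧, f = 0 := fun f =>
        TStructure.t.zero f 0 1 (by omega)
      exact ⟨fun f g => (hz f).trans (hz g).symm⟩
    · rw [← Module.support_eq_empty_iff (R := A)]
      ext q
      simp only [Set.mem_empty_iff_false, iff_false]
      exact not_mem_support_of_gt' R hfin a n hn hb q i (by
        have := hnq q
        have := le_max_left (M + d) a
        omega) (A ⧸ I)
  obtain ⟨E', hE', hinj, ⟨ε⟩⟩ := exists_injective_rep ((b - a).toNat + 1) a b R (by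
    have := Int.self_le_toNat (b - a)
    push_cast
    omega) hP
  haveI : R.IsLE b := isLE_of_P a b R hP
  have hinj' : ∃ a b : ℤ, ∀ (M : Type u) [AddCommGroup M] [Module A M] (i : ℤ),
      (i < a ∨ b < i) → Subsingleton (Dual.inD A M ⟶ R⟦i⟧) :=
    ⟨a, b, fun M _ _ i hi =>
      ext_subsingleton_of_rep E' a b hE' hinj R ε (ModuleCat.of A M) i hi⟩
  exact isDualizing_of_covers (covers_prime A) R a b hfin hinj' hloc

theorem S11173 (hdim : ringKrullDim A < ⊤) (R : Dual.D A)
    (hfin : ∀ i : ℤ, Module.Finite A (Dual.HD A R i))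
    (hbdd : ∃ a : ℤ, ∀ i : ℤ, i < a → Subsingleton (Dual.HD A R i))
    (h : ∀ p : PrimeSpectrum A,
      ∃ _ : DRing.HasLBaseChange (algebraMap A (Localization.AtPrime p.asIdeal)),
        Dual.IsDualizing (Localization.AtPrime p.asIdeal)
          ((DRing.LBaseChange (algebraMap A (Localization.AtPrime p.asIdeal))).obj R)) :
    Dual.IsDualizing A R := by
  refine isDualizing_of_pointwise hdim R hfin hbdd (fun p => ?_)
  obtain ⟨hL, hp⟩ := h p
  exact isDualizing_of_iso (LBCIso R) hp

end Groth.Agent.H4.PD1
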