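import Mathlib
import Groth.Agent.H4.PD1
import Groth.Agent.H4.DZ5
import Groth.Agent.H4.AP2
import Groth.Agent.H4.INV2

/-!
# `Ext^i(k, R) = k` in a single degree implies dualizing: S11171
-/

set_option autoImplicit false
universe u
open CategoryTheory Category Limits Pretriangulated

namespace Groth.Agent.H4.SD1

attribute [local instance] HasDerivedCategory.standard
attribute [local instance] Groth.Agent.H4.LK4.hasLTen Groth.Agent.H4.LK5.hasLTen₃
  Groth.Agent.H4.KI7.isSymMonoidal Groth.Agent.H4.KI6.hasRHom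

open DRing DTen DerivedCategory Groth.Agent.H4.DThick Groth.Agent.H4.DCompl1 Groth.Agent.H4.CF1
  Groth.Agent.H4.InjAmp Groth.Agent.H4.DZ1 Groth.Agent.H4.DZ2 Groth.Agent.H4.DZ3 Groth.Agent.H4.DZ4
  Groth.Agent.H4.DZ5 Groth.Agent.H4.DZ6 Groth.Agent.H4.ProjAmp Groth.Agent.H4.US8 Groth.Agent.H4.US9
  Groth.Agent.H4.US10 Groth.Agent.H4.US11 Groth.Agent.H4.US12 Groth.Agent.H4.FB1 Groth.Agent.H4.FB2
  Groth.Agent.H4.FB3 Groth.Agent.H4.FB5 Groth.Agent.H4.PD1 Groth.Agent.H4.HC6

open scoped Pointwise TensorProduct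

variable {A : Type u} [CommRing A] [IsLocalRing A]

set_option quotPrecheck false in
/-- notation for the object part of `⊗^L` -/
local notation:max "tO(" a ", " b ")" => (LTen₂ _).obj (a, b)

section closed

/-- the closed point lies in the support of every nonzero module. -/
lemma closedPoint_mem_support_iff (N : Type*) [AddCommGroup N] [Module A N] :
    IsLocalRing.closedPoint A ∈ Module.support A N ↔ Nontrivial N := by
  constructor
  · intro h
    by_contra hN
    rw [not_nontrivial_iff_subsingleton] at hN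
    rw [Module.support_eq_empty] at h
    exact h
  · intro hN
    obtain ⟨n, hn⟩ := exists_ne (0 : N)
    rw [Module.mem_support_iff_exists_annihilator]
    refine ⟨n, IsLocalRing.le_maximalIdeal ?_⟩
    intro htop
    apply hn
    have h1 : (1 : A) ∈ (Submodule.span A {n}).annihilator := htop ▸ Submodule.mem_top
    have := Submodule.mem_annihilator.1 h1 n (Submodule.mem_span_singleton_self n)
    simpa using this

end closed

section bass

variable [IsNoetherianRing A] (R : Dual.D A) (hfin : ∀ i : ℤ, Module.Finite A (Dual.HD A R i))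
  (a : ℤ) [hGE : R.IsGE a] (d : ℤ)
  (hvan : ∀ i : ℤ, d < i → Subsingleton (Sk A 0 ⟶ R⟦i⟧))

include hfin hGE hvan in
/-- Bass: `Ext^i(A/p, R) = 0` for all primes `p` and `i > d`. -/
theorem subsingleton_ext_quotient_prime (p : PrimeSpectrum A) (i : ℤ) (hi : d < i) :
    Subsingleton (Dual.inD A (A ⧸ p.asIdeal) ⟶ R⟦i⟧) := by
  let S : Set (PrimeSpectrum A) :=
    {p | ∃ i : ℤ, d < i ∧ Nontrivial (Dual.inD A (A ⧸ p.asIdeal) ⟶ R⟦i⟧)}
  suffices hS : S = ∅ by
    by_contra hcon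
    rw [not_subsingleton_iff_nontrivial] at hcon
    have : p ∈ S := ⟨i, hi, hcon⟩
    rw [hS] at this
    exact this
  by_contra hne
  have hne' : S.Nonempty := Set.nonempty_iff_ne_empty.2 hne
  have hwf : WellFounded ((· > ·) : PrimeSpectrum A → PrimeSpectrum A → Prop) :=
    InvImage.wf (fun c : PrimeSpectrum A => c.asIdeal) (wellFounded_gt (α := Ideal A))
  obtain ⟨p, ⟨i, hi, hnt⟩, hpmax⟩ := hwf.has_min S hne'
  let q := IsLocalRing.closedPoint A
  have hq : q ∈ Module.support A (Dual.inD A (A ⧸ p.asIdeal) ⟶ R⟦i⟧) :=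
    (closedPoint_mem_support_iff _).2 hnt
  have hpm : p.asIdeal ≠ IsLocalRing.maximalIdeal A := by
    intro h
    haveI := hvan i hi
    rw [nontrivial_hom_congr_of_eq (R⟦i⟧) _ _ h] at hnt
    exact not_subsingleton _ ‹Subsingleton (Sk A 0 ⟶ R⟦i⟧)›
  have hlt : p.asIdeal < IsLocalRing.maximalIdeal A :=
    lt_of_le_of_ne (IsLocalRing.le_maximalIdeal p.isPrime.ne_top) hpm
  obtain ⟨x, hxm, hxp⟩ := Set.exists_of_ssubset hlt
  haveI := p.isPrime
  have hreg := isSMulRegular_quotient_prime p.asIdeal x hxp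
  have h1 := mem_support_step' R hfin a (A ⧸ p.asIdeal) x hreg i q hq hxm
  obtain ⟨p'', -, hI, hp''⟩ := exists_prime_le_of_mem_support' _ q
    (p.asIdeal ⊔ Ideal.span {x}) _ (smul_quotSMulTop_quotient_eq_zero p.asIdeal x) h1
  have hp''S : p'' ∈ S := ⟨i + 1, by omega, (closedPoint_mem_support_iff _).1 hp''⟩
  have hgt : p'' > p := by
    refine lt_of_le_of_ne (le_sup_left.trans hI) ?_
    intro h
    apply hxp
    rw [h]
    exact hI (Ideal.mem_sup_right (Ideal.mem_span_singleton_self x))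
  exact hpmax p'' hp''S hgt

include hfin hGE hvan in
/-- `Ext^i(M, R) = 0` for all finite `M` and `i > d`. -/
theorem subsingleton_ext_of_gt (M : Type u) [AddCommGroup M] [Module A M] [Module.Finite A M]
    (i : ℤ) (hi : d < i) : Subsingleton (Dual.inD A M ⟶ R⟦i⟧) := by
  by_contra hcon
  rw [not_subsingleton_iff_nontrivial] at hcon
  have hq := (closedPoint_mem_support_iff (A := A) _).2 hcon
  obtain ⟨p', -, hp'⟩ := exists_prime_le_of_mem_support _ (IsLocalRing.closedPoint A) M hq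
  haveI := subsingleton_ext_quotient_prime R hfin a d hvan p' i hi
  rw [Module.support_eq_empty] at hp'
  exact hp'

include hfin hGE hvan in
/-- finite injective dimension -/
theorem hasInjAmp_of_ext_residue : HasInjAmplitudeIn A a (max d a) R := by
  have hP : Groth.Agent.H4.InjAmp.P a (max d a) R := by
    intro I i hi
    rw [subsingleton_sgl_iff]
    rcases hi with hi | hi
    · haveI : (R⟦i⟧).IsGE (a - i) := TStructure.t.isGE_shift R a i (a - i) (by ring)
      haveI : (R⟦i⟧).IsGE 1 := TStructure.t.isGE_of_ge _ 1 (a - i) (by omega)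
      have hz : ∀ f : Dual.inD A (A ⧸ I) ⟶ R⟦i⟧, f = 0 := fun f =>
        TStructure.t.zero f 0 1 (by omega)
      exact ⟨fun f g => (hz f).trans (hz g).symm⟩
    · exact subsingleton_ext_of_gt R hfin a d hvan (A ⧸ I) i (by
        have := le_max_left d a
        omega)
  exact exists_injective_rep ((max d a - a).toNat + 1) a (max d a) R (by
    have := Int.self_le_toNat (max d a - a)
    push_cast
    omega) hP

end bass

section main

variable [IsNoetherianRing A] (R : Dual.D A) (hfin : ∀ i : ℤ, Module.Finite A (Dual.HD A R i))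
  (a : ℤ) [hGE : R.IsGE a] (d : ℤ) (hn : ExtData R d)

include hGE hn in
/-- maps from `RHom(R, R)` to `κ[-s]` -/
theorem nonempty_hom_T_Sk_equiv (a' b' : ℤ) (hinj : HasInjAmplitudeIn A a' b' R) (s : ℤ) :
    Nonempty (((RHomR A R).obj R ⟶ Sk A s) ≃ₗ[A]
      (Sk A 0 ⟶ R⟦(0 : ℤ) + (d - s)⟧)) := by
  let T := (RHomR A R).obj R
  let X := Sk A (d - s)
  obtain ⟨eX⟩ := nonempty_dual_Sk_iso R d hn (d - s)
  have h : d - (d - s) = s := by ring
  rw [h] at eX
  obtain ⟨eY⟩ := nonempty_dual_Sk_iso R d hn s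
  have hX : IsPseudoCoherent' A X := isPC'_of_finite X (finite_HD_Sk (d - s)) (d - s)
  haveI : IsIso (evalHom X R R) :=
    Groth.Agent.H4.AP2.isIso_evalHom_of_isPseudoCoherent X R R hX a ⟨a', b', hinj⟩
  let ea : (T ⟶ Sk A s) ≃ₗ[A] (T ⟶ (RHomR A X).obj R) := homIsoLinEquiv T eX.symm
  let eb : ((tensorRightD A X).obj T ⟶ R) ≃ₗ[A] (T ⟶ (RHomR A X).obj R) :=
    homLinEquiv (rhomAdj A X) (good_RHomR X).lin T R
  let ec : ((tensorRightD A X).obj T ⟶ R) ≃ₗ[A]
      ((RHomR A ((RHomR A X).obj R)).obj R ⟶ R) := isoHomLinEquiv (asIso (evalHom X R R)) R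
  let ed : ((RHomR A ((RHomR A X).obj R)).obj R ⟶ R) ≃ₗ[A] ((RHomR A (Sk A s)).obj R ⟶ R) :=
    isoHomLinEquiv (RHomIso eX.symm R) R
  let ee : ((RHomR A (Sk A s)).obj R ⟶ R) ≃ₗ[A] (Sk A (d - s) ⟶ R) := isoHomLinEquiv eY R
  let eh : (Sk A (d - s) ⟶ R) ≃ₗ[A] (Sk A (d - s) ⟶ R⟦(0 : ℤ)⟧) :=
    homIsoLinEquiv _ ((CategoryTheory.shiftFunctorZero (Dual.D A) ℤ).app R).symm
  obtain ⟨eg⟩ := nonempty_hom_Sk_equiv R (d - s) 0
  exact ⟨(((((ea.trans eb.symm).trans ec).trans ed).trans ee).trans eh).trans eg⟩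

include hfin hGE hn in
/-- **a complex with `Ext^i(k, R) = k` in a single degree is dualizing.** -/
theorem isDualizing_of_extData : Dual.IsDualizing A R := by
  have hinj := hasInjAmp_of_ext_residue R hfin a d (fun i hi => hn.van i (ne_of_gt hi))
  let T := (RHomR A R).obj R
  have hfinT : ∀ j : ℤ, Module.Finite A (Dual.HD A T j) := by
    intro j
    obtain ⟨e⟩ := nonempty_extLinEquiv R R j
    haveI := S1746 R R hfin hfin ⟨a, max d a, hinj⟩ j
    exact Module.Finite.equiv e.symm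
  haveI : T.IsLE (max d a - a) := Groth.Agent.H4.AP2.isLE_RHom_of_injAmp R R a a (max d a) hinj
  obtain ⟨eT⟩ : Nonempty (G A 0 ≅ T) := by
    refine nonempty_iso_G_of_hom_residue T hfinT (max d a - a)
      (fun i hi => ModuleCat.subsingleton_of_isZero (isZero_of_isLE T (max d a - a) i hi)) 0 ?_ ?_
    · intro s hs
      obtain ⟨e⟩ := nonempty_hom_T_Sk_equiv R a d hn a (max d a) hinj s
      haveI := hn.van (0 + (d - s)) (by omega)
      exact e.toEquiv.subsingleton
    · obtain ⟨e⟩ := nonempty_hom_T_Sk_equiv R a d hn a (max d a) hinj 0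
      obtain ⟨e'⟩ := hn.top (0 + (d - 0)) (by omega)
      exact ⟨e.trans e'⟩
  -- the cohomology of `RHom(R, R)`
  have key : ∀ j : ℤ, Nonempty ((R ⟶ R⟦j⟧) ≃ₗ[A] Dual.HD A (G A 0) j) := by
    intro j
    obtain ⟨e⟩ := nonempty_extLinEquiv R R j
    exact ⟨e.symm ≪≫ₗ ((homologyFunctor (ModuleCat.{u} A) j).mapIso eT.symm).toLinearEquiv⟩
  obtain ⟨a₀, b₀, hab⟩ : ∃ a b : ℤ, ∀ (M : Type u) [AddCommGroup M] [Module A M] (i : ℤ),
      (i < a ∨ b < i) → Subsingleton (Dual.inD A M ⟶ R⟦i⟧) := by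
    obtain ⟨E', hE', hinj', ⟨ε⟩⟩ := hinj
    exact ⟨a, max d a, fun M _ _ i hi =>
      ext_subsingleton_of_rep E' a (max d a) hE' hinj' R ε (ModuleCat.of A M) i hi⟩
  refine ⟨inferInstance, ⟨a₀, b₀, hab⟩, hfin, ?_, ?_⟩
  · obtain ⟨e⟩ := key 0
    let e0 : (R ⟶ R) ≃ₗ[A] (R ⟶ R⟦(0 : ℤ)⟧) :=
      homIsoLinEquiv R ((CategoryTheory.shiftFunctorZero (Dual.D A) ℤ).app R).symm
    let e1 : (R ⟶ R) ≃ₗ[A] A :=
      (e0.trans e).trans (Groth.Agent.H4.INV2.HDInDEquiv (A := A) A)
    refine Groth.Agent.H4.US4.bijective_toEnd_of_free R (e1.symm 1) ?_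
    have : (fun b : A => b • e1.symm 1) = ⇑e1.symm := by
      funext b
      rw [← map_smul, smul_eq_mul, mul_one]
    rw [this]
    exact e1.symm.bijective
  · intro j hj
    obtain ⟨e⟩ := key j
    haveI := Groth.Agent.H4.INV2.subsingleton_HD_inD (A := A) A j hj
    exact e.toEquiv.subsingleton

theorem S11171 (R : Dual.D A) (hfin : ∀ i : ℤ, Module.Finite A (Dual.HD A R i))
    (hbdd : ∃ a : ℤ, ∀ i : ℤ, i < a → Subsingleton (Dual.HD A R i)) (d : ℤ)
    (hvan : ∀ i : ℤ, i ≠ d →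
      Subsingleton (Dual.inD A (IsLocalRing.ResidueField A) ⟶ R⟦i⟧))
    (hd : Nonempty ((Dual.inD A (IsLocalRing.ResidueField A) ⟶ R⟦d⟧) ≃ₗ[A]
      IsLocalRing.ResidueField A)) : Dual.IsDualizing A R := by
  obtain ⟨a, ha⟩ := hbdd
  haveI hGE : R.IsGE a := by
    rw [isGE_iff]
    intro i hi
    haveI := ha i hi
    exact ModuleCat.isZero_of_subsingleton _
  have hn : ExtData R d := ⟨hvan, fun i hi => by subst hi; exact hd⟩
  exact isDualizing_of_extData R hfin a d hn

end main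

end Groth.Agent.H4.SD1
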