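import Mathlib
import Groth.Agent.H4.SD1
import Groth.Agent.H4.UQ1
import Groth.Agent.H4.IK3
import Groth.Agent.H4.RAdj
import Groth.Agent.H4.US3
import Groth.Agent.H4.US4
import Groth.Agent.H4.FB7

/-!
# Flat local homomorphisms with Gorenstein closed fibre: base change of dualizing complexes
-/

set_option autoImplicit false
universe u
open CategoryTheory Category Limits Pretriangulated

namespace Groth.Agent.H4.GF1

attribute [local instance] HasDerivedCategory.standard
attribute [local instance] Groth.Agent.H4.LK4.hasLTen Groth.Agent.H4.LK5.hasLTen₃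
  Groth.Agent.H4.KI7.isSymMonoidal Groth.Agent.H4.KI6.hasRHom

open DRing DTen DerivedCategory Groth.Agent.H4.DCompl1
  Groth.Agent.H4.DZ1 Groth.Agent.H4.DZ2 Groth.Agent.H4.DZ3 Groth.Agent.H4.DZ4
  Groth.Agent.H4.DZ5 Groth.Agent.H4.FB1 Groth.Agent.H4.FB2
  Groth.Agent.H4.FB3 Groth.Agent.H4.HC6

open scoped TensorProduct

section fib

variable (A B : Type u) [CommRing A] [CommRing B] [Algebra A B] [IsLocalRing A] [IsLocalRing B]
  [IsLocalHom (algebraMap A B)]

/-- the closed fibre of a local homomorphism -/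
abbrev Fib : Type u := B ⧸ (IsLocalRing.maximalIdeal A).map (algebraMap A B)

instance nontrivial_Fib : Nontrivial (Fib A B) := by
  rw [Ideal.Quotient.nontrivial_iff]
  intro h
  have := IsLocalRing.map_maximalIdeal_le (algebraMap A B)
  rw [h] at this
  exact (IsLocalRing.maximalIdeal.isMaximal B).ne_top (top_le_iff.1 this)

instance isLocalRing_Fib : IsLocalRing (Fib A B) :=
  IsLocalRing.of_surjective' (Ideal.Quotient.mk _) Ideal.Quotient.mk_surjective

end fib

variable {A B : Type u} [CommRing A] [CommRing B] [Algebra A B] [Module.Flat A B]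
  [IsNoetherianRing A] [IsNoetherianRing B] [IsLocalRing A] [IsLocalRing B]
  [IsLocalHom (algebraMap A B)]

/-- `RHom_B(B/mB, E ω)` restricted along `B → B/mB`. -/
theorem nonempty_res_R_iso (ω : Dual.D A) (a : ℤ) [ω.IsGE a] (d : ℤ) (hn : ExtData ω d) :
    Nonempty ((Res B (Fib A B)).obj ((Groth.Agent.H4.RAdj.R₀ (algebraMap B (Fib A B))).obj
      ((E A B).obj ω)) ≅
      (singleFunctor (ModuleCat.{u} B) d).obj (ModuleCat.of B (Fib A B))) := by
  let X := (E A B).obj ω
  let m := IsLocalRing.maximalIdeal A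
  let e1 := (Groth.Agent.H4.US3.rho (Groth.Agent.H4.RAdj.R₀ (algebraMap B (Fib A B)))
    (Groth.Agent.H4.RAdj.adjR₀ (algebraMap B (Fib A B)))).app X
  let e2 := RHomIso (Groth.Agent.H4.US4.jB B (Fib A B)) X
  let e3 := RHomIso (EQuotIso (B := B) m) X
  have hpc : IsPseudoCoherent' A (Dual.inD A (A ⧸ m)) := isPC'_inD (A ⧸ m)
  obtain ⟨e4⟩ := Groth.Agent.H4.UQ1.nonempty_E_RHom_iso (B := B) (Dual.inD A (A ⧸ m)) ω hpc a
  have h5 := nonempty_dual_Sk_iso ω d hn 0
  rw [sub_zero] at h5
  obtain ⟨e5⟩ := h5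
  let e6 := ESingleIso (B := B) (kap A) d
  let e7 := (singleFunctor (ModuleCat.{u} B) d).mapIso
      ((Groth.Agent.H8.ExtBridge.extEquiv (A := A) (B := B) (ModuleCat.of A (A ⧸ m))).trans
        (Algebra.TensorProduct.quotIdealMapEquivTensorQuot B m).toLinearEquiv.symm).toModuleIso
  exact ⟨e1 ≪≫ e2 ≪≫ e3 ≪≫ e4.symm ≪≫ (E A B).mapIso e5 ≪≫ e6 ≪≫ e7⟩

/-- `R_ψ(E ω) ≅ F[-d]` in `D(F)`. -/
theorem nonempty_R_iso (ω : Dual.D A) (a : ℤ) [ω.IsGE a] (d : ℤ) (hn : ExtData ω d) :
    Nonempty ((Groth.Agent.H4.RAdj.R₀ (algebraMap B (Fib A B))).obj ((E A B).obj ω) ≅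
      (singleFunctor (ModuleCat.{u} (Fib A B)) d).obj (ModuleCat.of (Fib A B) (Fib A B))) := by
  obtain ⟨e⟩ := nonempty_res_R_iso (B := B) ω a d hn
  set Y := (Groth.Agent.H4.RAdj.R₀ (algebraMap B (Fib A B))).obj ((E A B).obj ω) with hY
  have hz : ∀ i : ℤ, i ≠ d → Subsingleton (Dual.HD B ((Res B (Fib A B)).obj Y) i) := by
    intro i hi
    apply ModuleCat.subsingleton_of_isZero
    refine IsZero.of_iso ?_ ((homologyFunctor (ModuleCat.{u} B) i).mapIso e)
    rcases lt_or_gt_of_ne hi with h | h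
    · exact isZero_of_isGE _ d i h
    · exact isZero_of_isLE _ d i h
  let ψ₀ : Dual.HD B ((Res B (Fib A B)).obj Y) d ≃ₗ[B] (Fib A B) :=
    (((homologyFunctor (ModuleCat.{u} B) d).mapIso e) ≪≫
      (singleFunctorCompHomologyFunctorIso (ModuleCat.{u} B) d).app
        (ModuleCat.of B (Fib A B))).toLinearEquiv
  refine Groth.Agent.H4.IK3.nonempty_iso_single_of_res (T := B) (B := Fib A B)
    Ideal.Quotient.mk_surjective Y d (Fib A B) hz ψ₀.toAddEquiv ?_
  intro t x
  change ψ₀ (t • x) = _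
  rw [map_smul, Algebra.smul_def, smul_eq_mul]
  rfl

section kappa

variable (A B)

omit [Module.Flat A B] [IsNoetherianRing A] [IsNoetherianRing B] in
/-- the residue field of the closed fibre is the residue field of `B`. -/
lemma ker_toResFib :
    RingHom.ker ((IsLocalRing.residue (Fib A B)).comp (algebraMap B (Fib A B))) =
      IsLocalRing.maximalIdeal B := by
  have hs : Function.Surjective ((IsLocalRing.residue (Fib A B)).comp (algebraMap B (Fib A B))) :=
    (IsLocalRing.residue_surjective).comp Ideal.Quotient.mk_surjective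
  haveI := RingHom.ker_isMaximal_of_surjective _ hs
  exact IsLocalRing.eq_maximalIdeal this

/-- `F/n_F ≃ B/n`, additively -/
noncomputable def kapAddEquiv :
    (Fib A B ⧸ IsLocalRing.maximalIdeal (Fib A B)) ≃+ (B ⧸ IsLocalRing.maximalIdeal B) :=
  (((Ideal.quotEquivOfEq (ker_toResFib A B)).symm.trans
    (RingHom.quotientKerEquivOfSurjective
      (f := (IsLocalRing.residue (Fib A B)).comp (algebraMap B (Fib A B)))
      ((IsLocalRing.residue_surjective).comp Ideal.Quotient.mk_surjective))).symm :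
        IsLocalRing.ResidueField (Fib A B) ≃+* _).toAddEquiv

omit [Module.Flat A B] [IsNoetherianRing A] [IsNoetherianRing B] in
lemma kapAddEquiv_smul (b : B) (y : Fib A B ⧸ IsLocalRing.maximalIdeal (Fib A B)) :
    kapAddEquiv A B (algebraMap B (Fib A B) b • y) = b • kapAddEquiv A B y := by
  obtain ⟨z, rfl⟩ := (kapAddEquiv A B).symm.surjective y
  rw [AddEquiv.apply_symm_apply]
  apply (kapAddEquiv A B).symm.injective
  rw [AddEquiv.symm_apply_apply]
  obtain ⟨z', rfl⟩ := Ideal.Quotient.mk_surjective z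
  have h1 : ∀ w : B, (kapAddEquiv A B).symm (Ideal.Quotient.mk _ w) =
      IsLocalRing.residue (Fib A B) (algebraMap B (Fib A B) w) := fun w => rfl
  have h2 : b • (Ideal.Quotient.mk (IsLocalRing.maximalIdeal B) z') =
      Ideal.Quotient.mk (IsLocalRing.maximalIdeal B) (b * z') := rfl
  rw [h2, h1, h1, map_mul, map_mul]
  rfl

end kappa

section main

/-- `κ(F)` restricted to `B` is `κ(B)` -/
noncomputable def resKapIso :
    (ModuleCat.restrictScalars.{u} (algebraMap B (Fib A B))).obj (kap (Fib A B)) ≅ kap B :=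
  LinearEquiv.toModuleIso
    (show ((ModuleCat.restrictScalars.{u} (algebraMap B (Fib A B))).obj (kap (Fib A B))) ≃ₗ[B]
        (kap B) from
      { toFun := fun x => kapAddEquiv A B x
        invFun := fun x => (kapAddEquiv A B).symm x
        left_inv := fun x => (kapAddEquiv A B).symm_apply_apply x
        right_inv := fun x => (kapAddEquiv A B).apply_symm_apply x
        map_add' := fun x y => (kapAddEquiv A B).map_add x y
        map_smul' := fun b x => kapAddEquiv_smul A B b x })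

/-- the key semilinear comparison of `Ext` groups -/
theorem exists_ext_addEquiv (ω : Dual.D A) (a : ℤ) [ω.IsGE a] (d : ℤ) (hn : ExtData ω d)
    (i j : ℤ) (hij : i = d + j) :
    ∃ g : (Sk B 0 ⟶ ((E A B).obj ω)⟦i⟧) ≃+
      (Sk (Fib A B) 0 ⟶ (Dual.inD (Fib A B) (Fib A B))⟦j⟧),
      ∀ (b : B) (f : Sk B 0 ⟶ ((E A B).obj ω)⟦i⟧),
        g (b • f) = algebraMap B (Fib A B) b • g f := by
  obtain ⟨eY⟩ := nonempty_R_iso (B := B) ω a d hn
  let R := Groth.Agent.H4.RAdj.R₀ (algebraMap B (Fib A B))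
  let adj : Res B (Fib A B) ⊣ R := Groth.Agent.H4.RAdj.adjR₀ (algebraMap B (Fib A B))
  let X := (E A B).obj ω
  -- step 1 : Sk B 0 ≅ single (res κ(F))
  let g1 : (Sk B 0 ⟶ X⟦i⟧) ≃ₗ[B]
      (((singleFunctor (ModuleCat.{u} B) 0).obj
        ((ModuleCat.restrictScalars.{u} (algebraMap B (Fib A B))).obj (kap (Fib A B))) :
          Dual.D B) ⟶ X⟦i⟧) :=
    isoHomLinEquiv ((singleFunctor (ModuleCat.{u} B) 0).mapIso (resKapIso (A := A) (B := B)).symm)
      (X⟦i⟧)
  -- step 2 : adjunction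
  let g2 := (Groth.Agent.H4.US1.extAddEquiv R adj (kap (Fib A B)) X i).symm
  have hg2 : ∀ (b : B) f, g2 (b • f) = algebraMap B (Fib A B) b • g2 f := by
    intro b f
    apply (Groth.Agent.H4.US1.extAddEquiv R adj (kap (Fib A B)) X i).injective
    rw [Groth.Agent.H4.US1.extAddEquiv_smul]
    simp only [g2, AddEquiv.apply_symm_apply]
  -- step 3 : identify `R X`
  let eSh : (R.obj X)⟦i⟧ ≅ (Dual.inD (Fib A B) (Fib A B))⟦j⟧ :=
    (shiftFunctor (Dual.D (Fib A B)) i).mapIso (eY ≪≫
      (((singleFunctors (ModuleCat.{u} (Fib A B))).shiftIso (-d) d 0 (by simp)).app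
        (ModuleCat.of (Fib A B) (Fib A B))).symm) ≪≫
    ((CategoryTheory.shiftFunctorAdd' (Dual.D (Fib A B)) (-d) i j (by omega)).app _).symm
  let g3 : (Sk (Fib A B) 0 ⟶ (R.obj X)⟦i⟧) ≃ₗ[Fib A B]
      (Sk (Fib A B) 0 ⟶ (Dual.inD (Fib A B) (Fib A B))⟦j⟧) :=
    homIsoLinEquiv (Sk (Fib A B) 0) eSh
  refine ⟨(g1.toAddEquiv.trans g2).trans g3.toAddEquiv, ?_⟩
  intro b f
  change g3 (g2 (g1 (b • f))) = algebraMap B (Fib A B) b • g3 (g2 (g1 f))
  rw [map_smul, hg2, map_smul]

end main

section extdata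

/-- **`Ext`-data of the base change along a flat local homomorphism whose closed fibre has
`Ext`-data for itself.** -/
theorem extData_E (ω : Dual.D A) (a : ℤ) [ω.IsGE a] (d : ℤ) (hn : ExtData ω d) (e : ℤ)
    (he : ExtData (Dual.inD (Fib A B) (Fib A B)) e) : ExtData ((E A B).obj ω) (d + e) := by
  constructor
  · intro i hi
    obtain ⟨g, -⟩ := exists_ext_addEquiv (B := B) ω a d hn i (i - d) (by ring)
    haveI := he.van (i - d) (by omega)
    exact g.toEquiv.subsingleton
  · intro i hi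
    obtain ⟨g, hg⟩ := exists_ext_addEquiv (B := B) ω a d hn i e (by omega)
    obtain ⟨t⟩ := he.top e rfl
    let h := (g.trans t.toAddEquiv).trans (kapAddEquiv A B)
    refine ⟨{ h with map_smul' := ?_ }⟩
    intro b f
    change kapAddEquiv A B (t (g (b • f))) = b • kapAddEquiv A B (t (g f))
    rw [hg, map_smul, kapAddEquiv_smul]

/-- **flat local base change of a dualizing complex, closed fibre with `Ext`-data.** -/
theorem isDualizing_E_of_extData (ω : Dual.D A) (hω : Dual.IsDualizing A ω) (e : ℤ)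
    (he : ExtData (Dual.inD (Fib A B) (Fib A B)) e) : Dual.IsDualizing B ((E A B).obj ω) := by
  obtain ⟨a₀, b₀, ha₀, -, -⟩ := exists_bounds_of_isDualizing ω hω
  haveI := ha₀
  haveI : ((E A B).obj ω).IsGE a₀ := Groth.Agent.H4.FB7.isGE_E ω a₀
  obtain ⟨d, hd⟩ := exists_extData ω hω
  have hfin : ∀ i : ℤ, Module.Finite B (Dual.HD B ((E A B).obj ω) i) := fun i => by
    haveI := hω.finite_cohomology i
    exact finite_HD_E ω i
  exact Groth.Agent.H4.SD1.isDualizing_of_extData ((E A B).obj ω) hfin a₀ (d + e)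
    (extData_E (B := B) ω a₀ d hd e he)

/-- **flat local base change of a dualizing complex, Gorenstein closed fibre.** -/
theorem isDualizing_E_of_fib (ω : Dual.D A) (hω : Dual.IsDualizing A ω)
    [IsNoetherianRing (Fib A B)]
    (hF : Dual.IsDualizing (Fib A B) (Dual.inD (Fib A B) (Fib A B))) :
    Dual.IsDualizing B ((E A B).obj ω) := by
  obtain ⟨e, he⟩ := exists_extData _ hF
  exact isDualizing_E_of_extData ω hω e he

end extdata

end Groth.Agent.H4.GF1
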