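import Mathlib
import Groth.Agent.H4.GF1
import Groth.Agent.H4.FB4
import Groth.Agent.H4.US17
import Groth.Agent.H4.KosBC

/-!
# Gorenstein and flat local homomorphisms: S0344
-/

set_option autoImplicit false
universe u
open CategoryTheory Category Limits Pretriangulated

namespace Groth.Agent.H4.GF2

attribute [local instance] HasDerivedCategory.standard
attribute [local instance] Groth.Agent.H4.LK4.hasLTen Groth.Agent.H4.LK5.hasLTen₃
  Groth.Agent.H4.KI7.isSymMonoidal Groth.Agent.H4.KI6.hasRHom

open DRing DTen DerivedCategory Groth.Agent.H4.DCompl1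
  Groth.Agent.H4.DZ1 Groth.Agent.H4.DZ2 Groth.Agent.H4.DZ3 Groth.Agent.H4.DZ4
  Groth.Agent.H4.DZ5 Groth.Agent.H4.FB1 Groth.Agent.H4.FB2
  Groth.Agent.H4.FB3 Groth.Agent.H4.HC6 Groth.Agent.H4.GF1

open scoped TensorProduct

variable {A B : Type u} [CommRing A] [CommRing B] [Algebra A B] [Module.Flat A B]
  [IsNoetherianRing A] [IsNoetherianRing B] [IsLocalRing A] [IsLocalRing B]
  [IsLocalHom (algebraMap A B)]

/-- `Ext`-data of the closed fibre from those of `ω` and `E ω`. -/
theorem extData_fib (ω : Dual.D A) (a : ℤ) [ω.IsGE a] (d : ℤ) (hn : ExtData ω d) (n : ℤ)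
    (hX : ExtData ((E A B).obj ω) n) : ExtData (Dual.inD (Fib A B) (Fib A B)) (n - d) := by
  constructor
  · intro j hj
    obtain ⟨g, -⟩ := exists_ext_addEquiv (B := B) ω a d hn (d + j) j rfl
    haveI := hX.van (d + j) (by omega)
    exact g.symm.toEquiv.subsingleton
  · intro j hj
    obtain ⟨g, hg⟩ := exists_ext_addEquiv (B := B) ω a d hn n j (by omega)
    obtain ⟨t⟩ := hX.top n rfl
    let h := (g.symm.trans t.toAddEquiv).trans (kapAddEquiv A B).symm
    refine ⟨{ h with map_smul' := ?_ }⟩
    intro c f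
    obtain ⟨b, rfl⟩ : ∃ b : B, algebraMap B (Fib A B) b = c := Ideal.Quotient.mk_surjective c
    change (kapAddEquiv A B).symm (t (g.symm (algebraMap B (Fib A B) b • f))) =
      algebraMap B (Fib A B) b • (kapAddEquiv A B).symm (t (g.symm f))
    have h1 : g.symm (algebraMap B (Fib A B) b • f) = b • g.symm f := by
      apply g.injective
      rw [hg, AddEquiv.apply_symm_apply, AddEquiv.apply_symm_apply]
    rw [h1, map_smul]
    apply (kapAddEquiv A B).injective
    rw [AddEquiv.apply_symm_apply]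
    have h2 := kapAddEquiv_smul A B b ((kapAddEquiv A B).symm (t (g.symm f)))
    rw [AddEquiv.apply_symm_apply] at h2
    exact h2.symm

/-- the closed fibre is Gorenstein (`F[0]` dualizing) if `ω` and `E ω` are dualizing. -/
theorem isDualizing_fib (ω : Dual.D A) (hω : Dual.IsDualizing A ω)
    (hX : Dual.IsDualizing B ((E A B).obj ω)) :
    Dual.IsDualizing (Fib A B) (Dual.inD (Fib A B) (Fib A B)) := by
  obtain ⟨a₀, b₀, ha₀, -, -⟩ := exists_bounds_of_isDualizing ω hω
  haveI := ha₀
  obtain ⟨d, hd⟩ := exists_extData ω hω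
  obtain ⟨n, hn⟩ := exists_extData _ hX
  have h := extData_fib (B := B) ω a₀ d hd n hn
  exact Groth.Agent.H4.SD1.isDualizing_of_extData (Dual.inD (Fib A B) (Fib A B))
    (fun i => finite_HD_inD (Fib A B) i) 0 (n - d) h

omit [Module.Flat A B] [IsNoetherianRing A] [IsNoetherianRing B] in
lemma faithfullyFlat_of_local [Module.Flat A B] : Module.FaithfullyFlat A B :=
  Module.FaithfullyFlat.of_flat_of_isLocalHom

theorem S0344 : LocCoh.IsGorensteinLocalRing B ↔
    (LocCoh.IsGorensteinLocalRing A ∧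
      LocCoh.IsGorensteinLocalRing (B ⧸ (IsLocalRing.maximalIdeal A).map (algebraMap A B))) := by
  haveI : Module.FaithfullyFlat A B := faithfullyFlat_of_local
  constructor
  · intro hB
    have h1 : Dual.IsDualizing B (Dual.inD B B) :=
      Groth.Agent.H4.US17.isDualizing_unit_of_gorenstein hB
    have h2 : Dual.IsDualizing B ((E A B).obj (Dual.inD A A)) :=
      isDualizing_of_iso Groth.Agent.H4.KosBC.EUnitIso'.symm h1
    have h3 : Dual.IsDualizing A (Dual.inD A A) := Groth.Agent.H4.FB4.isDualizing_of_E _ h2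
    exact ⟨Groth.Agent.H4.US17.gorenstein_of_isDualizing_unit h3,
      Groth.Agent.H4.US17.gorenstein_of_isDualizing_unit (isDualizing_fib _ h3 h2)⟩
  · rintro ⟨hA, hF⟩
    have h1 := Groth.Agent.H4.US17.isDualizing_unit_of_gorenstein hA
    have h2 : Dual.IsDualizing (Fib A B) (Dual.inD (Fib A B) (Fib A B)) :=
      Groth.Agent.H4.US17.isDualizing_unit_of_gorenstein hF
    have h3 := isDualizing_E_of_fib (B := B) _ h1 h2
    exact Groth.Agent.H4.US17.gorenstein_of_isDualizing_unit
      (isDualizing_of_iso Groth.Agent.H4.KosBC.EUnitIso' h3)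

end Groth.Agent.H4.GF2
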