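import Mathlib
import Groth.Agent.H4.KosBC

set_option autoImplicit false
universe u
open CategoryTheory

namespace Groth.Agent.H4.GL1

section Y

variable {P B : Type u} [CommRing P] [CommRing B] (f : P →+* B) (hf : Function.Surjective f)
  (q : Ideal B) [q.IsPrime]

include hf in
lemma map_primeCompl : (q.comap f).primeCompl.map f = q.primeCompl := by
  ext b
  constructor
  · rintro ⟨t, ht, rfl⟩
    exact ht
  · intro hb
    obtain ⟨t, rfl⟩ := hf b
    exact ⟨t, hb, rfl⟩

/-- the induced map on local rings -/
noncomputable def locMap : Localization.AtPrime (q.comap f) →+* Localization.AtPrime q :=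
  Localization.localRingHom (q.comap f) q f rfl

include hf in
lemma locMap_surjective : Function.Surjective (locMap f q) := by
  haveI : IsLocalization ((q.comap f).primeCompl.map f) (Localization.AtPrime q) := by
    rw [map_primeCompl f hf q]
    infer_instance
  exact IsLocalization.map_surjective_of_surjective (q.comap f).primeCompl
    (Localization.AtPrime (q.comap f)) (Localization.AtPrime q) hf

include hf in
lemma ker_locMap : RingHom.ker (locMap f q) =
    (RingHom.ker f).map (algebraMap P (Localization.AtPrime (q.comap f))) :=
  IsLocalization.ker_map (Localization.AtPrime q) f (map_primeCompl f hf q)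

end Y

section X

variable {P : Type u} [CommRing P]

/-- a Koszul-regular ideal is generated by a Koszul-regular sequence in the local ring at any prime
containing it -/
theorem exists_koszulRegularSeq_atPrime (I : Ideal P) (hI : LCI.IsKoszulRegularIdeal I)
    (𝔮 : Ideal P) [𝔮.IsPrime] (h𝔮 : I ≤ 𝔮) :
    ∃ l : List (Localization.AtPrime 𝔮), LCI.IsKoszulRegularSeq (Localization.AtPrime 𝔮) l ∧
      I.map (algebraMap P (Localization.AtPrime 𝔮)) = Ideal.span {x | x ∈ l} := by
  obtain ⟨g, hg, l, hl, hspan⟩ := hI ⟨𝔮, inferInstance⟩ h𝔮
  have hu : IsUnit (algebraMap P (Localization.AtPrime 𝔮) g) :=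
    IsLocalization.map_units (Localization.AtPrime 𝔮) (⟨g, hg⟩ : 𝔮.primeCompl)
  let ψ : Localization.Away g →+* Localization.AtPrime 𝔮 :=
    IsLocalization.Away.lift (S := Localization.Away g) g hu
  letI : Algebra (Localization.Away g) (Localization.AtPrime 𝔮) := ψ.toAlgebra
  have hψ : ∀ x : P, ψ (algebraMap P (Localization.Away g) x) =
      algebraMap P (Localization.AtPrime 𝔮) x := fun x => IsLocalization.Away.lift_eq g hu x
  haveI : IsScalarTower P (Localization.Away g) (Localization.AtPrime 𝔮) :=
    IsScalarTower.of_algebraMap_eq (fun x => (hψ x).symm)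
  haveI : Module.Flat P (Localization.AtPrime 𝔮) := IsLocalization.flat _ 𝔮.primeCompl
  haveI : Module.Flat (Localization.Away g) (Localization.AtPrime 𝔮) :=
    (Module.flat_iff_of_isLocalization (R := P) (Localization.Away g) (Submonoid.powers g)
      (Localization.AtPrime 𝔮)).2 inferInstance
  refine ⟨l.map (algebraMap (Localization.Away g) (Localization.AtPrime 𝔮)),
    Groth.Agent.H4.KosBC.isKoszulRegularSeq_map l hl, ?_⟩
  have h1 : I.map (algebraMap P (Localization.AtPrime 𝔮)) =
      (I.map (algebraMap P (Localization.Away g))).map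
        (algebraMap (Localization.Away g) (Localization.AtPrime 𝔮)) := by
    rw [Ideal.map_map, ← IsScalarTower.algebraMap_eq]
  rw [h1, hspan, Ideal.map_span]
  congr 1
  ext y
  simp only [Set.mem_image, Set.mem_setOf_eq, List.mem_map]

end X

end Groth.Agent.H4.GL1
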