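import Mathlib
import Groth.Agent.H4.LC1
import Groth.Agent.H4.RB3
import Groth.Agent.H4.RB5
import Groth.Agent.H4.RAdj
import Groth.Agent.H4.US13
import Groth.Agent.H4.US21

set_option autoImplicit false
universe u
open CategoryTheory Category Limits Pretriangulated

namespace Groth.Agent.H4.LC2

attribute [local instance] HasDerivedCategory.standard
attribute [local instance] Groth.Agent.H4.LK4.hasLTen Groth.Agent.H4.LK5.hasLTen₃
  Groth.Agent.H4.KI7.isSymMonoidal Groth.Agent.H4.KI6.hasRHom

open DRing DTen DerivedCategory Groth.Agent.H4.FB2 Groth.Agent.H4.FB3 Groth.Agent.H4.FB6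
  Groth.Agent.H4.RD Groth.Agent.H4.LC1

section koszul

variable {T C : Type u} [CommRing T] [CommRing C] [Algebra T C]
  [IsNoetherianRing T] [IsNoetherianRing C]

/-- for a Koszul-regular quotient `T → C`, derived base change preserves dualizing complexes -/
theorem isDualizing_LBase_of_koszul (hs : Function.Surjective (algebraMap T C)) (l : List T)
    (hl : LCI.IsKoszulRegularSeq T l)
    (hker : RingHom.ker (algebraMap T C) = Ideal.span {x | x ∈ l})
    {L : Dual.D T ⥤ Dual.D C} (adjL : L ⊣ restrictD (algebraMap T C))
    (ω : Dual.D T) (hω : Dual.IsDualizing T ω) :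
    Dual.IsDualizing C (L.obj ω) := by
  haveI : DRing.HasLBaseChange (algebraMap T C) := Groth.Agent.H4.KProj.hasLBaseChange _
  haveI : DTen.HasLBase (algebraMap T C) := ⟨adjL.isRightAdjoint⟩
  haveI : DTen.HasResTen (algebraMap T C) := Groth.Agent.H4.RB2.hasResTen _
  haveI : DTen.ResLegIso (algebraMap T C) := Groth.Agent.H4.RB2.resLegIso _
  haveI : DTen.HasRHomRel (algebraMap T C) :=
    ⟨(Groth.Agent.H4.RAdj.adjR₀ (algebraMap T C)).isLeftAdjoint⟩
  haveI : Module.Finite T C := Module.Finite.of_surjective (Algebra.linearMap T C) hs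
  -- `C` is perfect over `T`
  set I : Ideal T := Ideal.span {x | x ∈ l} with hI
  have hle : I ≤ LinearMap.ker (Algebra.linearMap T C) := by
    intro x hx
    rw [← hker] at hx
    exact hx
  let q : (T ⧸ I) →ₗ[T] C := Submodule.liftQ I (Algebra.linearMap T C) hle
  have hq : Function.Bijective q := by
    constructor
    · rw [← LinearMap.ker_eq_bot]
      refine Submodule.ker_liftQ_eq_bot _ _ _ ?_
      intro x hx
      rw [← hker]
      exact hx
    · intro b
      obtain ⟨t, rfl⟩ := hs b
      exact ⟨Submodule.Quotient.mk t, rfl⟩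
  let eq : (T ⧸ I) ≃ₗ[T] C := LinearEquiv.ofBijective q hq
  have hperf : DRing.IsPerfect T (Dual.inD T C) :=
    Groth.Agent.H4.DRing1.isPerfect_of_iso
      ((singleFunctor (ModuleCat.{u} T) 0).mapIso eq.toModuleIso)
      (Groth.Agent.H4.KosPerf.isPerfectModule_quotient_of_isKoszulRegularSeq l hl)
  have hC : DRing.IsPerfect T ((restrictD (algebraMap T C)).obj (unit C)) :=
    Groth.Agent.H4.DRing1.isPerfect_of_iso (Groth.Agent.H4.RB5.resUnitIso T C).symm hperf
  -- the comparison
  haveI := Groth.Agent.H4.RB3.isIso_τ (algebraMap T C) hC ω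
  let e1 : (Groth.Agent.H4.RB3.Z (algebraMap T C)).obj ω ≅ (RHomRel (algebraMap T C)).obj ω :=
    asIso ((Groth.Agent.H4.RB3.τ (algebraMap T C)).app ω)
  obtain ⟨e2⟩ := Groth.Agent.H4.KS2.nonempty_R_unit_iso (RHomRel (algebraMap T C))
    (relAdj (algebraMap T C)) hs l hl hker
  let e3 : Groth.Agent.H4.RB3.ω (algebraMap T C) ≅ (Dual.inD C C)⟦-(l.length : ℤ)⟧ :=
    (RHomRel (algebraMap T C)).mapIso Groth.Agent.H4.KI8.inDUnitIso.symm ≪≫ e2
  obtain ⟨e4⟩ := Groth.Agent.H4.DZ2.nonempty_tO_unitShift_left_iso
    ((LBase (algebraMap T C)).obj ω) (-(l.length : ℤ))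
  let e5 : (Groth.Agent.H4.RB3.Z (algebraMap T C)).obj ω ≅
      ((LBase (algebraMap T C)).obj ω)⟦-(l.length : ℤ)⟧ :=
    ((LTen C).mapIso e3).app ((LBase (algebraMap T C)).obj ω) ≪≫ e4
  have h1 : Dual.IsDualizing C ((RHomRel (algebraMap T C)).obj ω) :=
    Groth.Agent.H4.US4.S1772 (RHomRel (algebraMap T C)) (relAdj (algebraMap T C)) ω hω
  have h2 : Dual.IsDualizing C (((LBase (algebraMap T C)).obj ω)⟦-(l.length : ℤ)⟧) :=
    isDualizing_of_iso (e1.symm ≪≫ e5) h1
  have h3 := Groth.Agent.H4.US13.isDualizing_shift _ h2 (l.length : ℤ)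
  have e6 : (((LBase (algebraMap T C)).obj ω)⟦-(l.length : ℤ)⟧)⟦(l.length : ℤ)⟧ ≅
      (LBase (algebraMap T C)).obj ω :=
    (shiftFunctorCompIsoId (Dual.D C) (-(l.length : ℤ)) (l.length : ℤ) (by simp)).app _
  have h4 := isDualizing_of_iso e6 h3
  exact isDualizing_of_iso (((baseAdj (algebraMap T C)).leftAdjointUniq adjL).app ω) h4

end koszul

section loc

variable (P B : Type u) [CommRing P] [CommRing B] [IsNoetherianRing P] [IsNoetherianRing B]
  (f : P →+* B) (hf : Function.Surjective f)

include hf in
/-- the local step: base change along `P → B`, localized at `g`, where the kernel becomes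
Koszul-regular -/
theorem isDualizing_local {Lf : Dual.D P ⥤ Dual.D B} (adjL : Lf ⊣ restrictD f)
    (g : P) (l : List (Localization.Away g))
    (hl : LCI.IsKoszulRegularSeq (Localization.Away g) l)
    (hker : (RingHom.ker f).map (algebraMap P (Localization.Away g)) = Ideal.span {x | x ∈ l})
    (ω : Dual.D P) (hω : Dual.IsDualizing P ω) :
    Dual.IsDualizing (Localization.Away (f g))
      ((E B (Localization.Away (f g))).obj (Lf.obj ω)) := by
  letI : Algebra P B := f.toAlgebra
  letI : Algebra (Localization.Away g) (Localization.Away (f g)) :=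
    (Localization.awayMap f g).toAlgebra
  haveI : IsScalarTower P B (Localization.Away (f g)) := inferInstance
  haveI : IsScalarTower P (Localization.Away g) (Localization.Away (f g)) :=
    IsScalarTower.of_algebraMap_eq (fun p => by
      rw [IsScalarTower.algebraMap_apply P B (Localization.Away (f g))]
      change algebraMap B (Localization.Away (f g)) (f p) =
        Localization.awayMap f g (algebraMap P (Localization.Away g) p)
      exact (IsLocalization.map_eq _ _).symm)
  have hs : Function.Surjective (algebraMap (Localization.Away g) (Localization.Away (f g))) := by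
    change Function.Surjective (Localization.awayMap f g)
    rw [Localization.awayMap_surjective_iff]
    intro a
    obtain ⟨b, rfl⟩ := hf a
    exact ⟨b, 0, by simp⟩
  have hk : RingHom.ker (algebraMap (Localization.Away g) (Localization.Away (f g))) =
      Ideal.span {x | x ∈ l} := by
    rw [← hker]
    exact IsLocalization.ker_map (Localization.Away (f g)) f (Submonoid.map_powers f g)
  haveI : IsNoetherianRing (Localization.Away g) :=
    IsLocalization.isNoetherianRing (Submonoid.powers g) (Localization.Away g) inferInstance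
  haveI : IsNoetherianRing (Localization.Away (f g)) :=
    IsLocalization.isNoetherianRing (Submonoid.powers (f g)) (Localization.Away (f g))
      inferInstance
  have h1 : Dual.IsDualizing (Localization.Away g) ((E P (Localization.Away g)).obj ω) :=
    isDualizing_E_localization P (Submonoid.powers g) ω hω
  haveI : DRing.HasLBaseChange (algebraMap (Localization.Away g) (Localization.Away (f g))) :=
    Groth.Agent.H4.KProj.hasLBaseChange _
  have h2 := isDualizing_LBase_of_koszul hs l hl hk
    (Groth.Agent.H4.KProj.adjLBaseChange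
      (algebraMap (Localization.Away g) (Localization.Away (f g)))) _ h1
  have hcomp : (algebraMap (Localization.Away g) (Localization.Away (f g))).comp
      (algebraMap P (Localization.Away g)) =
      (algebraMap B (Localization.Away (f g))).comp f := by
    ext p
    exact (IsScalarTower.algebraMap_apply P (Localization.Away g) (Localization.Away (f g)) p).symm.trans
      (IsScalarTower.algebraMap_apply P B (Localization.Away (f g)) p)
  let e := towerIso (algebraMap P (Localization.Away g))
    (algebraMap (Localization.Away g) (Localization.Away (f g))) f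
    (algebraMap B (Localization.Away (f g))) hcomp
    (adjE P (Localization.Away g))
    (Groth.Agent.H4.KProj.adjLBaseChange
      (algebraMap (Localization.Away g) (Localization.Away (f g))))
    adjL (adjE B (Localization.Away (f g)))
  exact isDualizing_of_iso (e.app ω) h2

end loc

end Groth.Agent.H4.LC2
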