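import Mathlib
import Groth.Agent.H4.GL1
import Groth.Agent.H4.LC2
import Groth.Agent.H4.US17
import Groth.Agent.H4.US21

set_option autoImplicit false
universe u
open CategoryTheory Category Limits Pretriangulated

namespace Groth.Agent.H4.GL2

attribute [local instance] HasDerivedCategory.standard
attribute [local instance] Groth.Agent.H4.LK4.hasLTen Groth.Agent.H4.LK5.hasLTen₃
  Groth.Agent.H4.KI7.isSymMonoidal Groth.Agent.H4.KI6.hasRHom

open DRing DTen DerivedCategory Groth.Agent.H4.FB2 Groth.Agent.H4.FB3 Groth.Agent.H4.US17
  Groth.Agent.H4.US21 Groth.Agent.H4.KosBC Groth.Agent.H4.LC2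

section equiv

variable {T T' : Type u} [CommRing T] [CommRing T']

/-- Gorenstein local rings are invariant under ring isomorphisms -/
theorem isGorensteinLocalRing_of_ringEquiv (e : T ≃+* T') (h : LocCoh.IsGorensteinLocalRing T) :
    LocCoh.IsGorensteinLocalRing T' := by
  haveI : IsNoetherianRing T := h.toIsNoetherian
  haveI := h.toIsLocalRing
  haveI : IsNoetherianRing T' := isNoetherianRing_of_ringEquiv T e
  haveI : IsLocalRing T' := e.isLocalRing
  letI : Algebra T T' := e.toRingHom.toAlgebra
  have hb : Function.Bijective (algebraMap T T') := e.bijective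
  haveI : Module.Flat T T' := flat_of_bijective hb
  have h1 := isDualizing_E_of_bijective hb _ (isDualizing_unit_of_gorenstein h)
  exact gorenstein_of_isDualizing_unit (isDualizing_of_iso EUnitIso' h1)

end equiv

section quot

variable {T C : Type u} [CommRing T] [CommRing C] [Algebra T C]

/-- a quotient of a Gorenstein local ring by a Koszul-regular sequence is Gorenstein -/
theorem isGorensteinLocalRing_of_koszul [IsLocalRing C] (h : LocCoh.IsGorensteinLocalRing T)
    (hs : Function.Surjective (algebraMap T C)) (l : List T)
    (hl : LCI.IsKoszulRegularSeq T l)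
    (hker : RingHom.ker (algebraMap T C) = Ideal.span {x | x ∈ l}) :
    LocCoh.IsGorensteinLocalRing C := by
  haveI : IsNoetherianRing T := h.toIsNoetherian
  haveI := h.toIsLocalRing
  haveI : IsNoetherianRing C := isNoetherianRing_of_surjective T C (algebraMap T C) hs
  haveI : DRing.HasLBaseChange (algebraMap T C) := Groth.Agent.H4.KProj.hasLBaseChange _
  haveI : DTen.HasLBase (algebraMap T C) :=
    ⟨(Groth.Agent.H4.KProj.adjLBaseChange (algebraMap T C)).isRightAdjoint⟩
  have h1 := isDualizing_LBase_of_koszul hs l hl hker (baseAdj (algebraMap T C)) _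
    (isDualizing_of_iso Groth.Agent.H4.KI8.inDUnitIso (isDualizing_unit_of_gorenstein h))
  exact gorenstein_of_isDualizing_unit
    (isDualizing_of_iso (Groth.Agent.H4.RB3.LBaseUnitIso (algebraMap T C) ≪≫
      Groth.Agent.H4.KI8.inDUnitIso.symm) h1)

end quot

section poly

open MvPolynomial

attribute [local instance] MvPolynomial.algebraMvPolynomial

/-- the localizations of a polynomial ring over a Gorenstein ring are Gorenstein -/
theorem isGorensteinLocalRing_mvPolynomial_atPrime (A : Type u) [CommRing A]
    (hA : LocCoh.IsGorensteinRing A) (n : ℕ) (𝔮 : Ideal (MvPolynomial (Fin n) A)) [𝔮.IsPrime] :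
    LocCoh.IsGorensteinLocalRing (Localization.AtPrime 𝔮) := by
  haveI : IsNoetherianRing A := hA.toIsNoetherian
  let p : Ideal A := 𝔮.comap (C (σ := Fin n))
  haveI : p.IsPrime := Ideal.comap_isPrime _ _
  let S := MvPolynomial (Fin n) (Localization.AtPrime p)
  let pc : Submonoid (MvPolynomial (Fin n) A) := p.primeCompl.map (C (σ := Fin n))
  haveI : IsLocalization pc S := MvPolynomial.isLocalization _ _
  let pS : Ideal S := 𝔮.map (algebraMap (MvPolynomial (Fin n) A) S)
  have disj : Disjoint (pc : Set (MvPolynomial (Fin n) A)) (𝔮 : Set (MvPolynomial (Fin n) A)) := by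
    rw [Set.disjoint_left]
    rintro _ ⟨a, ha, rfl⟩ hq
    exact ha hq
  haveI : pS.IsPrime := IsLocalization.isPrime_of_isPrime_disjoint pc _ _ ‹_› disj
  haveI : IsLocalization.AtPrime (Localization.AtPrime pS) 𝔮 := by
    convert IsLocalization.isLocalization_isLocalization_atPrime_isLocalization pc
      (Localization.AtPrime pS) pS
    exact (IsLocalization.under_map_of_isPrime_disjoint pc _ ‹_› disj).symm
  have hAp : LocCoh.IsGorensteinLocalRing (Localization.AtPrime p) :=
    hA.isGorensteinLocalRing_localization p
  haveI : IsNoetherianRing (Localization.AtPrime p) := hAp.toIsNoetherian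
  have h1 : Dual.IsDualizing S (Dual.inD S S) :=
    isDualizing_of_iso EUnitIso'
      (isDualizing_E_mvPolynomial (Localization.AtPrime p) n _ (isDualizing_unit_of_gorenstein hAp))
  haveI : IsNoetherianRing S := inferInstance
  haveI : IsNoetherianRing (Localization.AtPrime pS) :=
    IsLocalization.isNoetherianRing pS.primeCompl _ inferInstance
  have h2 : Dual.IsDualizing (Localization.AtPrime pS)
      (Dual.inD (Localization.AtPrime pS) (Localization.AtPrime pS)) :=
    isDualizing_of_iso EUnitIso' (isDualizing_E_localization S pS.primeCompl _ h1)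
  have h3 := gorenstein_of_isDualizing_unit h2
  exact isGorensteinLocalRing_of_ringEquiv (IsLocalization.algEquiv 𝔮.primeCompl
    (Localization.AtPrime pS) (Localization.AtPrime 𝔮)).toRingEquiv h3

end poly

section main

open Groth.Agent.H4.GL1

/-- **S1827**: an lci algebra over a Gorenstein ring is Gorenstein -/
theorem isGorensteinRing_of_isLCI (A B : Type u) [CommRing A] [CommRing B] [Algebra A B]
    (hA : LocCoh.IsGorensteinRing A) (h : LCI.IsLCI A B) : LocCoh.IsGorensteinRing B := by
  obtain ⟨hft, n, f, hf, hreg⟩ := h
  haveI : IsNoetherianRing A := hA.toIsNoetherian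
  haveI : IsNoetherianRing B := Algebra.FiniteType.isNoetherianRing A B
  refine { toIsNoetherian := inferInstance, isGorensteinLocalRing_localization := fun q _ => ?_ }
  have hT := isGorensteinLocalRing_mvPolynomial_atPrime A hA n (q.comap f.toRingHom)
  have hle : RingHom.ker f.toRingHom ≤ q.comap f.toRingHom := by
    intro x hx
    change f.toRingHom x ∈ q
    rw [RingHom.mem_ker.1 hx]
    exact zero_mem _
  obtain ⟨l, hl, hspan⟩ := exists_koszulRegularSeq_atPrime (RingHom.ker f.toRingHom) hreg
    (q.comap f.toRingHom) hle
  letI : Algebra (Localization.AtPrime (q.comap f.toRingHom)) (Localization.AtPrime q) :=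
    (locMap f.toRingHom q).toAlgebra
  refine isGorensteinLocalRing_of_koszul hT (locMap_surjective f.toRingHom hf q) l hl ?_
  rw [← hspan]
  exact ker_locMap f.toRingHom hf q

end main

end Groth.Agent.H4.GL2
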