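import Mathlib
import Groth.Agent.H4.GF2
import Groth.Agent.H4.GL2
import Groth.Agent.H4.US21
import Groth.Agent.H4.PD1
import Groth.Agent.H4.FB4

/-!
# Base change of dualizing complexes along flat maps with Gorenstein fibres: S1788
-/

set_option autoImplicit false
universe u
open CategoryTheory Category Limits Pretriangulated

namespace Groth.Agent.H4.GF3

attribute [local instance] HasDerivedCategory.standard
attribute [local instance] Groth.Agent.H4.LK4.hasLTen Groth.Agent.H4.LK5.hasLTen₃
  Groth.Agent.H4.KI7.isSymMonoidal Groth.Agent.H4.KI6.hasRHom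

open DRing DTen DerivedCategory Groth.Agent.H4.DCompl1
  Groth.Agent.H4.DZ1 Groth.Agent.H4.DZ2 Groth.Agent.H4.DZ3 Groth.Agent.H4.DZ4
  Groth.Agent.H4.DZ5 Groth.Agent.H4.FB1 Groth.Agent.H4.FB2
  Groth.Agent.H4.FB3 Groth.Agent.H4.HC6 Groth.Agent.H4.GF1 Groth.Agent.H4.US21

open scoped TensorProduct

section ringEquiv

variable {T T' : Type u} [CommRing T] [CommRing T']

/-- Gorenstein rings are invariant under ring isomorphisms -/
theorem isGorensteinRing_of_ringEquiv (e : T ≃+* T') (h : LocCoh.IsGorensteinRing T) :
    LocCoh.IsGorensteinRing T' := by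
  haveI : IsNoetherianRing T := h.toIsNoetherian
  haveI : IsNoetherianRing T' := isNoetherianRing_of_ringEquiv T e
  refine { toIsNoetherian := inferInstance, isGorensteinLocalRing_localization := fun J _ => ?_ }
  haveI : (J.comap (e : T →+* T')).IsPrime := Ideal.comap_isPrime _ _
  exact Groth.Agent.H4.GL2.isGorensteinLocalRing_of_ringEquiv
    (Localization.localRingEquiv (J.comap (e : T →+* T')) J e rfl)
    (h.isGorensteinLocalRing_localization _)

end ringEquiv

section dim

lemma ringKrullDim_lt_top_of_finiteType (A B : Type u) [CommRing A] [CommRing B] [Algebra A B]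
    [IsNoetherianRing A] [Algebra.FiniteType A B] (h : ringKrullDim A < ⊤) :
    ringKrullDim B < ⊤ := by
  obtain ⟨n, f, hf⟩ := Algebra.FiniteType.iff_quotient_mvPolynomial''.1
    (inferInstance : Algebra.FiniteType A B)
  obtain ⟨d, hd⟩ := Groth.Agent.H4.PD1.exists_nat_bound h
  have h1 : ringKrullDim B ≤ ringKrullDim (MvPolynomial (Fin n) A) :=
    ringKrullDim_le_of_surjective f.toRingHom hf
  rw [MvPolynomial.ringKrullDim_of_isNoetherianRing] at h1
  have h2 : ringKrullDim A + (Nat.card (Fin n) : WithBot ℕ∞) ≤ ((d + n : ℕ) : WithBot ℕ∞) := by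
    rw [Nat.card_fin]
    push_cast
    gcongr
  refine lt_of_le_of_lt (h1.trans h2) ?_
  exact WithBot.coe_lt_coe.2 (ENat.coe_lt_top _)

end dim

section key

variable {A B : Type u} [CommRing A] [CommRing B] [Algebra A B] [Module.Flat A B]
  [IsNoetherianRing A] [IsNoetherianRing B]

/-- **local statement**: flat base change to the localization at a prime whose fibre ring is
Gorenstein. -/
theorem isDualizing_E_E_localization (K : Dual.D A) (hK : Dual.IsDualizing A K)
    (p : Ideal A) [p.IsPrime] (r : Ideal B) [r.IsPrime] [r.LiesOver p]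
    (hF : LocCoh.IsGorensteinLocalRing
      (Localization.AtPrime r ⧸ p.map (algebraMap A (Localization.AtPrime r)))) :
    Dual.IsDualizing (Localization.AtPrime r)
      ((E B (Localization.AtPrime r)).obj ((E A B).obj K)) := by
  letI := Localization.AtPrime.algebraOfLiesOver p r
  haveI : IsLocalHom (algebraMap (Localization.AtPrime p) (Localization.AtPrime r)) :=
    Localization.isLocalHom_localRingHom p r (algebraMap A B) Ideal.LiesOver.over
  haveI : IsNoetherianRing (Localization.AtPrime p) :=
    IsLocalization.isNoetherianRing p.primeCompl _ inferInstance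
  haveI : IsNoetherianRing (Localization.AtPrime r) :=
    IsLocalization.isNoetherianRing r.primeCompl _ inferInstance
  haveI : Module.Flat A (Localization.AtPrime r) := Module.Flat.trans A B _
  have h1 : Dual.IsDualizing (Localization.AtPrime p) ((E A (Localization.AtPrime p)).obj K) :=
    isDualizing_E_localization A p.primeCompl K hK
  -- the closed fibre
  have hI : (IsLocalRing.maximalIdeal (Localization.AtPrime p)).map
      (algebraMap (Localization.AtPrime p) (Localization.AtPrime r)) =
      p.map (algebraMap A (Localization.AtPrime r)) := by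
    rw [← Localization.AtPrime.map_eq_maximalIdeal, Ideal.map_map,
      ← IsScalarTower.algebraMap_eq]
  have hF' : LocCoh.IsGorensteinLocalRing
      (Fib (Localization.AtPrime p) (Localization.AtPrime r)) :=
    Groth.Agent.H4.GL2.isGorensteinLocalRing_of_ringEquiv (Ideal.quotEquivOfEq hI.symm) hF
  have h2 := isDualizing_E_of_fib (A := Localization.AtPrime p) (B := Localization.AtPrime r) _ h1
    (Groth.Agent.H4.US17.isDualizing_unit_of_gorenstein hF')
  have h3 := isDualizing_of_iso
    (ETowerIso A (Localization.AtPrime p) (Localization.AtPrime r) K).symm h2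
  exact isDualizing_of_iso (ETowerIso A B (Localization.AtPrime r) K) h3

end key

section fibre

variable {A B : Type u} [CommRing A] [CommRing B] [Algebra A B]

lemma gor_quot_transport (p : Ideal A) (r' r : Ideal B) [r'.IsPrime] [r.IsPrime] (h : r' = r)
    (hG : LocCoh.IsGorensteinLocalRing (Localization.AtPrime r' ⧸
      (p.map (algebraMap A B)).map (algebraMap B (Localization.AtPrime r')))) :
    LocCoh.IsGorensteinLocalRing
      (Localization.AtPrime r ⧸ p.map (algebraMap A (Localization.AtPrime r))) := by
  subst h
  refine Groth.Agent.H4.GL2.isGorensteinLocalRing_of_ringEquiv (Ideal.quotEquivOfEq ?_) hG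
  rw [Ideal.map_map, ← IsScalarTower.algebraMap_eq]

/-- the closed fibre of `A_p → B_r` is a localization of the fibre ring `κ(p) ⊗ B`. -/
theorem gor_quot_of_fiber (p : Ideal A) [p.IsPrime] (hG : LocCoh.IsGorensteinRing (p.Fiber B))
    (r : Ideal B) [r.IsPrime] [r.LiesOver p] :
    LocCoh.IsGorensteinLocalRing
      (Localization.AtPrime r ⧸ p.map (algebraMap A (Localization.AtPrime r))) := by
  let P : PrimeSpectrum A := ⟨p, inferInstance⟩
  have hmem : (⟨r, inferInstance⟩ : PrimeSpectrum B) ∈
      PrimeSpectrum.comap (algebraMap A B) ⁻¹' {P} :=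
    PrimeSpectrum.ext (Ideal.LiesOver.over (p := p) (P := r)).symm
  let x : PrimeSpectrum.comap (algebraMap A B) ⁻¹' {P} := ⟨⟨r, inferInstance⟩, hmem⟩
  let q' : PrimeSpectrum (p.Fiber B) := PrimeSpectrum.preimageEquivFiber A B P x
  have h0 := (PrimeSpectrum.preimageEquivFiber A B P).left_inv x
  have h1 : q'.asIdeal.comap (Algebra.TensorProduct.includeRight : B →ₐ[A] p.Fiber B) = r := by
    have := congrArg (fun y : PrimeSpectrum.comap (algebraMap A B) ⁻¹' {P} => y.1.asIdeal) h0
    exact this
  haveI : (q'.asIdeal.comap (Algebra.TensorProduct.includeRight : B →ₐ[A] p.Fiber B)).IsPrime :=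
    Ideal.comap_isPrime _ _
  have h2 : LocCoh.IsGorensteinLocalRing (Localization.AtPrime q'.asIdeal) :=
    hG.isGorensteinLocalRing_localization q'.asIdeal
  have h3 := Groth.Agent.H4.GL2.isGorensteinLocalRing_of_ringEquiv
    (Ideal.Fiber.algEquivAux₂ p q'.asIdeal).toRingEquiv h2
  exact gor_quot_transport p _ r h1 h3

end fibre

section main

variable {A B : Type u} [CommRing A] [CommRing B] [Algebra A B] [Module.Flat A B]
  [IsNoetherianRing A] [IsNoetherianRing B]

/-- **flat base change of dualizing complexes, Gorenstein fibres, finite-dimensional target.** -/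
theorem isDualizing_E_of_gorenstein_fibres (hdim : ringKrullDim B < ⊤)
    (hG : ∀ (p : Ideal A) [p.IsPrime], LocCoh.IsGorensteinRing (p.Fiber B))
    (K : Dual.D A) (hK : Dual.IsDualizing A K) : Dual.IsDualizing B ((E A B).obj K) := by
  obtain ⟨a₀, b₀, ha₀, -, -⟩ := exists_bounds_of_isDualizing K hK
  haveI := ha₀
  haveI : ((E A B).obj K).IsGE a₀ := Groth.Agent.H4.FB7.isGE_E K a₀
  have hfin : ∀ i : ℤ, Module.Finite B (Dual.HD B ((E A B).obj K) i) := fun i => by
    haveI := hK.finite_cohomology i
    exact finite_HD_E K i
  refine Groth.Agent.H4.PD1.isDualizing_of_pointwise hdim _ hfin ⟨a₀, fun i hi => ?_⟩ (fun r => ?_)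
  · exact ModuleCat.subsingleton_of_isZero (isZero_of_isGE ((E A B).obj K) a₀ i hi)
  · haveI : (r.asIdeal.under A).IsPrime := Ideal.comap_isPrime _ _
    haveI : r.asIdeal.LiesOver (r.asIdeal.under A) := ⟨rfl⟩
    exact isDualizing_E_E_localization K hK (r.asIdeal.under A) r.asIdeal
      (gor_quot_of_fiber _ (hG _) r.asIdeal)

theorem S1788 (A B : Type u) [CommRing A] [CommRing B] [Algebra A B] [IsNoetherianRing A]
    [IsNoetherianRing B] [Module.FaithfullyFlat A B] [Algebra.FiniteType A B]
    (hG : ∀ p : PrimeSpectrum A, LocCoh.IsGorensteinRing (B ⊗[A] p.asIdeal.ResidueField))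
    [DRing.HasLBaseChange (algebraMap A B)] (K : Dual.D A) :
    Dual.IsDualizing A K ↔
      Dual.IsDualizing B ((DRing.LBaseChange (algebraMap A B)).obj K) := by
  constructor
  · intro hK
    have hdim : ringKrullDim B < ⊤ :=
      ringKrullDim_lt_top_of_finiteType A B (Groth.Agent.H4.US12.S0371 K hK)
    refine isDualizing_of_iso (LBCIso K).symm
      (isDualizing_E_of_gorenstein_fibres hdim (fun p _ => ?_) K hK)
    exact isGorensteinRing_of_ringEquiv
      (Algebra.TensorProduct.comm A B p.ResidueField).toRingEquiv (hG ⟨p, inferInstance⟩)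
  · exact Groth.Agent.H4.FB4.S1780 K

end main

section P

variable {A B : Type u} [CommRing A] [CommRing B] [Algebra A B] [Module.Flat A B]
  [IsNoetherianRing A] [IsNoetherianRing B]

/-- **Gorenstein ascends along flat maps with Gorenstein fibres.** -/
theorem isGorensteinRing_of_flat_of_fibres (hA : LocCoh.IsGorensteinRing A)
    (hG : ∀ (p : Ideal A) [p.IsPrime], LocCoh.IsGorensteinRing (p.Fiber B)) :
    LocCoh.IsGorensteinRing B := by
  refine { toIsNoetherian := inferInstance, isGorensteinLocalRing_localization := fun r _ => ?_ }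
  let p : Ideal A := r.under A
  haveI : p.IsPrime := Ideal.comap_isPrime _ _
  haveI : r.LiesOver p := ⟨rfl⟩
  have hF := gor_quot_of_fiber p (hG p) r
  letI := Localization.AtPrime.algebraOfLiesOver p r
  haveI : IsLocalHom (algebraMap (Localization.AtPrime p) (Localization.AtPrime r)) :=
    Localization.isLocalHom_localRingHom p r (algebraMap A B) Ideal.LiesOver.over
  haveI : IsNoetherianRing (Localization.AtPrime p) :=
    IsLocalization.isNoetherianRing p.primeCompl _ inferInstance
  haveI : IsNoetherianRing (Localization.AtPrime r) :=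
    IsLocalization.isNoetherianRing r.primeCompl _ inferInstance
  have hI : (IsLocalRing.maximalIdeal (Localization.AtPrime p)).map
      (algebraMap (Localization.AtPrime p) (Localization.AtPrime r)) =
      p.map (algebraMap A (Localization.AtPrime r)) := by
    rw [← Localization.AtPrime.map_eq_maximalIdeal, Ideal.map_map,
      ← IsScalarTower.algebraMap_eq]
  have hF' : LocCoh.IsGorensteinLocalRing
      (Localization.AtPrime r ⧸ (IsLocalRing.maximalIdeal (Localization.AtPrime p)).map
        (algebraMap (Localization.AtPrime p) (Localization.AtPrime r))) :=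
    Groth.Agent.H4.GL2.isGorensteinLocalRing_of_ringEquiv (Ideal.quotEquivOfEq hI.symm) hF
  exact (Groth.Agent.H4.GF2.S0344 (A := Localization.AtPrime p)
    (B := Localization.AtPrime r)).2 ⟨hA.isGorensteinLocalRing_localization p, hF'⟩

/-- a ring whose structure complex is dualizing is a Gorenstein ring -/
theorem isGorensteinRing_of_isDualizing_unit (h : Dual.IsDualizing A (Dual.inD A A)) :
    LocCoh.IsGorensteinRing A := by
  refine { toIsNoetherian := inferInstance, isGorensteinLocalRing_localization := fun p _ => ?_ }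
  haveI : IsNoetherianRing (Localization.AtPrime p) :=
    IsLocalization.isNoetherianRing p.primeCompl _ inferInstance
  exact Groth.Agent.H4.US17.gorenstein_of_isDualizing_unit
    (isDualizing_of_iso Groth.Agent.H4.KosBC.EUnitIso'
      (isDualizing_E_localization A p.primeCompl _ h))

end P

end Groth.Agent.H4.GF3
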