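import Mathlib
import Groth.Agent.H4.LC2
import Groth.Agent.H4.US20
import Groth.Agent.H4.US21
import Groth.Agent.S15821

set_option autoImplicit false
universe u
open CategoryTheory Category Limits Pretriangulated

namespace Groth.Agent.H4.SM1

attribute [local instance] HasDerivedCategory.standard
attribute [local instance] Groth.Agent.H4.LK4.hasLTen Groth.Agent.H4.LK5.hasLTen₃
  Groth.Agent.H4.KI7.isSymMonoidal Groth.Agent.H4.KI6.hasRHom

open DRing DTen DerivedCategory Groth.Agent.H4.FB2 Groth.Agent.H4.FB3 Groth.Agent.H4.US20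
  Groth.Agent.H4.US21 Groth.Agent.H4.RD Groth.Agent.H4.LC2

open scoped Polynomial

section tower

variable {A B C : Type u} [CommRing A] [CommRing B] [CommRing C]
  (f : A →+* B) (g : B →+* C)

/-- a tower of left adjoints of restriction is the left adjoint of the composite -/
noncomputable def towerIso₁ (gf : A →+* C) (h : gf = g.comp f)
    {L : Dual.D A ⥤ Dual.D B} (a : L ⊣ restrictD f)
    {M : Dual.D B ⥤ Dual.D C} (b : M ⊣ restrictD g)
    {N : Dual.D A ⥤ Dual.D C} (c : N ⊣ restrictD gf) : L ⋙ M ≅ N :=
  ((a.comp b).ofNatIsoRight (restrictDCompIso f g gf h).symm).leftAdjointUniq c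

end tower

section monic

variable {R : Type u} [CommRing R] [IsNoetherianRing R]

/-- a monic polynomial is a Koszul-regular sequence of length one -/
lemma isKoszulRegularSeq_monic (f : R[X]) (hf : f.Monic) : LCI.IsKoszulRegularSeq R[X] [f] := by
  refine (Groth.Agent.S15821.result R[X] [f] ?_).1
  refine RingTheory.Sequence.IsWeaklyRegular.cons ?_ (RingTheory.Sequence.IsWeaklyRegular.nil _ _)
  exact hf.isRegular.left.isSMulRegular

/-- **base change to `R[X]/(f)`, `f` monic, preserves dualizing complexes** -/
theorem isDualizing_E_adjoinRoot (f : R[X]) (hf : f.Monic) [Module.Flat R (AdjoinRoot f)]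
    (ω : Dual.D R) (hω : Dual.IsDualizing R ω) :
    Dual.IsDualizing (AdjoinRoot f) ((E R (AdjoinRoot f)).obj ω) := by
  have h1 := isDualizing_E_polynomial ω hω
  letI : Algebra R[X] (AdjoinRoot f) := (AdjoinRoot.mk f).toAlgebra
  haveI : IsScalarTower R R[X] (AdjoinRoot f) := IsScalarTower.of_algebraMap_eq (fun r => rfl)
  haveI : DRing.HasLBaseChange (algebraMap R[X] (AdjoinRoot f)) :=
    Groth.Agent.H4.KProj.hasLBaseChange _
  have hs : Function.Surjective (algebraMap R[X] (AdjoinRoot f)) := Ideal.Quotient.mk_surjective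
  have hker : RingHom.ker (algebraMap R[X] (AdjoinRoot f)) = Ideal.span {x | x ∈ [f]} := by
    have : {x | x ∈ [f]} = ({f} : Set R[X]) := by
      ext x; simp
    rw [this]
    exact Ideal.mk_ker
  have h2 := isDualizing_LBase_of_koszul hs [f] (isKoszulRegularSeq_monic f hf) hker
    (Groth.Agent.H4.KProj.adjLBaseChange (algebraMap R[X] (AdjoinRoot f))) _ h1
  let e := towerIso₁ (algebraMap R R[X]) (algebraMap R[X] (AdjoinRoot f))
    (algebraMap R (AdjoinRoot f)) (IsScalarTower.algebraMap_eq R R[X] (AdjoinRoot f))
    (adjE R R[X]) (Groth.Agent.H4.KProj.adjLBaseChange (algebraMap R[X] (AdjoinRoot f)))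
    (adjE R (AdjoinRoot f))
  exact isDualizing_of_iso (e.app ω) h2

end monic

section se

variable {R : Type u} [CommRing R] [IsNoetherianRing R]

lemma flat_adjoinRoot (f : R[X]) (hf : f.Monic) : Module.Flat R (AdjoinRoot f) :=
  haveI := hf.free_adjoinRoot
  inferInstance

lemma flat_away_adjoinRoot (P : StandardEtalePair R) :
    Module.Flat R (Localization.Away (AdjoinRoot.mk P.f P.g)) := by
  haveI := flat_adjoinRoot P.f P.monic_f
  haveI : Module.Flat (AdjoinRoot P.f) (Localization.Away (AdjoinRoot.mk P.f P.g)) :=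
    IsLocalization.flat _ (Submonoid.powers (AdjoinRoot.mk P.f P.g))
  exact Module.Flat.trans R (AdjoinRoot P.f) _

/-- base change to `(R[X]/f)[1/g]` preserves dualizing complexes -/
theorem isDualizing_E_away_adjoinRoot (P : StandardEtalePair R)
    [Module.Flat R (Localization.Away (AdjoinRoot.mk P.f P.g))]
    (ω : Dual.D R) (hω : Dual.IsDualizing R ω) :
    Dual.IsDualizing (Localization.Away (AdjoinRoot.mk P.f P.g))
      ((E R (Localization.Away (AdjoinRoot.mk P.f P.g))).obj ω) := by
  haveI := flat_adjoinRoot P.f P.monic_f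
  haveI : Module.Flat (AdjoinRoot P.f) (Localization.Away (AdjoinRoot.mk P.f P.g)) :=
    IsLocalization.flat _ (Submonoid.powers (AdjoinRoot.mk P.f P.g))
  have h1 := isDualizing_E_adjoinRoot P.f P.monic_f ω hω
  have h2 := isDualizing_E_localization (AdjoinRoot P.f)
    (Submonoid.powers (AdjoinRoot.mk P.f P.g)) _ h1
  exact isDualizing_of_iso
    (ETowerIso R (AdjoinRoot P.f) (Localization.Away (AdjoinRoot.mk P.f P.g)) ω).symm h2

/-- **standard étale base change preserves dualizing complexes** -/
theorem isDualizing_E_of_isStandardEtale {S : Type u} [CommRing S] [Algebra R S]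
    [Algebra.IsStandardEtale R S] [Module.Flat R S]
    (ω : Dual.D R) (hω : Dual.IsDualizing R ω) :
    Dual.IsDualizing S ((E R S).obj ω) := by
  let P : StandardEtalePresentation R S := Nonempty.some inferInstance
  let e : S ≃ₐ[R] Localization.Away (AdjoinRoot.mk P.f P.g) :=
    P.equivRing.trans P.P.equivAwayAdjoinRoot
  haveI := flat_away_adjoinRoot P.P
  have h0 := isDualizing_E_away_adjoinRoot P.P ω hω
  letI : Algebra (Localization.Away (AdjoinRoot.mk P.f P.g)) S := e.symm.toRingHom.toAlgebra
  haveI : IsScalarTower R (Localization.Away (AdjoinRoot.mk P.f P.g)) S :=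
    IsScalarTower.of_algebraMap_eq (fun r => (e.symm.commutes r).symm)
  have hb : Function.Bijective (algebraMap (Localization.Away (AdjoinRoot.mk P.f P.g)) S) :=
    e.symm.bijective
  haveI : Module.Flat (Localization.Away (AdjoinRoot.mk P.f P.g)) S := flat_of_bijective hb
  haveI : IsNoetherianRing (Localization.Away (AdjoinRoot.mk P.f P.g)) :=
    IsLocalization.isNoetherianRing (Submonoid.powers (AdjoinRoot.mk P.f P.g)) _ inferInstance
  haveI : IsNoetherianRing S := isNoetherianRing_of_bijective hb
  have h1 := isDualizing_E_of_bijective hb _ h0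
  exact isDualizing_of_iso
    (ETowerIso R (Localization.Away (AdjoinRoot.mk P.f P.g)) S ω).symm h1

end se

section smooth

variable (A B : Type u) [CommRing A] [CommRing B] [Algebra A B] [IsNoetherianRing A]
  [Algebra.Smooth A B]

/-- **smooth base change preserves dualizing complexes** -/
theorem isDualizing_E_of_smooth (ω : Dual.D A) (hω : Dual.IsDualizing A ω) :
    Dual.IsDualizing B ((E A B).obj ω) := by
  haveI : Algebra.FinitePresentation A B := Algebra.Smooth.finitePresentation
  haveI : IsNoetherianRing B := Algebra.FiniteType.isNoetherianRing A B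
  refine Groth.Agent.H4.LC1.isDualizing_of_local _ (fun q => ?_)
  haveI : Algebra.IsSmoothAt A q.asIdeal := by
    have : q ∈ Algebra.smoothLocus A B := by
      rw [Algebra.smoothLocus_eq_univ]; trivial
    exact this
  obtain ⟨b, hb, n, alg, tower, hse⟩ :=
    Algebra.IsSmoothAt.exists_isStandardEtale_mvPolynomial (R := A) (p := q.asIdeal)
  refine ⟨b, hb, ?_⟩
  letI := alg
  haveI := tower
  haveI := hse
  have h1 := isDualizing_E_mvPolynomial A n ω hω
  haveI : Module.Flat (MvPolynomial (Fin n) A) (Localization.Away b) := inferInstance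
  have h2 := isDualizing_E_of_isStandardEtale (S := Localization.Away b) _ h1
  exact isDualizing_of_iso
    ((ETowerIso A B (Localization.Away b) ω).symm ≪≫
      ETowerIso A (MvPolynomial (Fin n) A) (Localization.Away b) ω).symm h2

end smooth

end Groth.Agent.H4.SM1
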