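import Mathlib
import Groth.Agent.H4.GF3
import Groth.Agent.H4.SM1

/-!
# Good ring maps: flat maps with Noetherian target preserving dualizing complexes
-/

set_option autoImplicit false
universe u
open CategoryTheory Category Limits Pretriangulated

namespace Groth.Agent.H4.GF4

attribute [local instance] HasDerivedCategory.standard

open DRing DerivedCategory Groth.Agent.H4.FB2 Groth.Agent.H4.FB3 Groth.Agent.H4.US21

open scoped TensorProduct Polynomial

section good

/-- good algebras: flat, Noetherian target, base change preserves dualizing complexes -/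
structure GoodAlg (A B : Type u) [CommRing A] [CommRing B] [Algebra A B] : Prop where
  flat : Module.Flat A B
  noeth : IsNoetherianRing A → IsNoetherianRing B
  dual : ∀ [Module.Flat A B] [IsNoetherianRing A] [IsNoetherianRing B] (ω : Dual.D A),
    Dual.IsDualizing A ω → Dual.IsDualizing B ((E A B).obj ω)

/-- good ring homomorphisms -/
def GoodHom {A B : Type u} [CommRing A] [CommRing B] (φ : A →+* B) : Prop :=
  letI := φ.toAlgebra
  GoodAlg A B

variable {A B C : Type u} [CommRing A] [CommRing B] [CommRing C]

lemma goodHom_algebraMap [inst : Algebra A B] (h : GoodAlg A B) : GoodHom (algebraMap A B) := by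
  have e : (algebraMap A B).toAlgebra = inst := Algebra.algebra_ext _ _ (fun _ => rfl)
  unfold GoodHom
  rw [e]
  exact h

lemma goodAlg_comp [Algebra A B] [Algebra B C] [Algebra A C] [IsScalarTower A B C]
    (h1 : GoodAlg A B) (h2 : GoodAlg B C) : GoodAlg A C := by
  haveI := h1.flat
  haveI := h2.flat
  haveI : Module.Flat A C := Module.Flat.trans A B C
  refine ⟨inferInstance, fun hA => h2.noeth (h1.noeth hA), ?_⟩
  intro _ _ _ ω hω
  haveI := h1.noeth inferInstance
  exact isDualizing_of_iso (ETowerIso A B C ω).symm (h2.dual _ (h1.dual ω hω))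

lemma goodHom_comp {φ : A →+* B} {ψ : B →+* C} (h1 : GoodHom φ) (h2 : GoodHom ψ) :
    GoodHom (ψ.comp φ) := by
  letI := φ.toAlgebra
  letI := ψ.toAlgebra
  letI := (ψ.comp φ).toAlgebra
  haveI : IsScalarTower A B C := IsScalarTower.of_algebraMap_eq (fun _ => rfl)
  exact goodAlg_comp (B := B) h1 h2

lemma goodAlg_of_bijective [Algebra A B] (h : Function.Bijective (algebraMap A B)) :
    GoodAlg A B := by
  refine ⟨?_, fun hA => isNoetherianRing_of_surjective A B (algebraMap A B) h.2, ?_⟩
  · let e : A ≃ₗ[A] B := LinearEquiv.ofBijective (Algebra.linearMap A B) h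
    exact Module.Flat.of_linearEquiv e.symm
  · intro _ _ _ ω hω
    exact isDualizing_E_of_bijective h ω hω

lemma goodHom_of_bijective {φ : A →+* B} (h : Function.Bijective φ) : GoodHom φ := by
  letI := φ.toAlgebra
  exact goodAlg_of_bijective h

lemma goodHom_ringEquiv (e : A ≃+* B) : GoodHom (e : A →+* B) :=
  goodHom_of_bijective e.bijective

lemma goodAlg_polynomial : GoodAlg A A[X] :=
  ⟨inferInstance, fun _ => inferInstance, fun ω hω =>
    Groth.Agent.H4.US20.isDualizing_E_polynomial ω hω⟩

lemma goodAlg_adjoinRoot (q : A[X]) (hq : q.Monic) : GoodAlg A (AdjoinRoot q) := by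
  have hflat : Module.Flat A (AdjoinRoot q) := by
    haveI := hq.free_adjoinRoot
    infer_instance
  refine ⟨hflat, fun _ => ?_, ?_⟩
  · exact isNoetherianRing_of_surjective A[X] _ (AdjoinRoot.mk q) Ideal.Quotient.mk_surjective
  · intro _ _ _ ω hω
    exact Groth.Agent.H4.SM1.isDualizing_E_adjoinRoot q hq ω hω

lemma goodAlg_of_isLocalization [Algebra A B] (M : Submonoid A) [IsLocalization M B] :
    GoodAlg A B := by
  have h0 : GoodAlg A (Localization M) :=
    ⟨IsLocalization.flat _ M, fun _ => IsLocalization.isNoetherianRing M _ inferInstance,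
      fun ω hω => isDualizing_E_localization A M ω hω⟩
  let e : Localization M ≃ₐ[A] B := IsLocalization.algEquiv M (Localization M) B
  letI : Algebra (Localization M) B := e.toRingHom.toAlgebra
  haveI : IsScalarTower A (Localization M) B :=
    IsScalarTower.of_algebraMap_eq (fun r => (e.commutes r).symm)
  have h1 : GoodAlg (Localization M) B := goodAlg_of_bijective e.bijective
  exact goodAlg_comp h0 h1

end good

section ug

/-- universally good algebras -/
def UG (R S : Type u) [CommRing R] [CommRing S] [Algebra R S] : Prop :=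
  ∀ (A' : Type u) [CommRing A'] [Algebra R A'],
    GoodHom (Algebra.TensorProduct.includeRight : A' →ₐ[R] S ⊗[R] A').toRingHom

variable {R S S' : Type u} [CommRing R] [CommRing S] [CommRing S'] [Algebra R S] [Algebra R S']

lemma ug_of_algEquiv (e : S ≃ₐ[R] S') (h : UG R S) : UG R S' := by
  intro A' _ _
  have h1 := h A'
  have h2 : GoodHom ((Algebra.TensorProduct.congr e (AlgEquiv.refl : A' ≃ₐ[R] A')).toRingEquiv :
      S ⊗[R] A' →+* S' ⊗[R] A') := goodHom_ringEquiv _
  have h3 := goodHom_comp h1 h2
  convert h3 using 1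
  ext a
  simp

lemma ug_polynomial : UG R R[X] := by
  intro A' _ _
  let ρ : A'[X] ≃+* R[X] ⊗[R] A' :=
    ((polyEquivTensor R A').trans (Algebra.TensorProduct.comm R A' R[X])).toRingEquiv
  have h1 : GoodHom (algebraMap A' A'[X]) := goodHom_algebraMap goodAlg_polynomial
  have h2 : GoodHom (ρ : A'[X] →+* R[X] ⊗[R] A') := goodHom_ringEquiv _
  have h3 := goodHom_comp h1 h2
  convert h3 using 1
  ext a
  simp [ρ, polyEquivTensor_apply]

end ug

section ug2

variable {R S T' : Type u} [CommRing R] [CommRing S] [CommRing T'] [Algebra R S]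

lemma ug_adjoinRoot (p : R[X]) (hp : p.Monic) : UG R (AdjoinRoot p) := by
  intro A' _ _
  let q : (A' ⊗[R] R)[X] :=
    p.map (Algebra.TensorProduct.includeRight : R →ₐ[R] A' ⊗[R] R).toRingHom
  have hq : q.Monic := hp.map _
  let τ : A' ⊗[R] AdjoinRoot p ≃ₐ[A'] AdjoinRoot q := AdjoinRoot.tensorAlgEquiv p q rfl
  have h1 : GoodHom (algebraMap A' (A' ⊗[R] R)) :=
    goodHom_algebraMap (goodAlg_of_bijective
      (Algebra.TensorProduct.rid R A' A').symm.bijective)
  have h2 : GoodHom (algebraMap (A' ⊗[R] R) (AdjoinRoot q)) :=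
    goodHom_algebraMap (goodAlg_adjoinRoot q hq)
  have h3 : GoodHom (τ.symm.toRingEquiv : AdjoinRoot q →+* A' ⊗[R] AdjoinRoot p) :=
    goodHom_ringEquiv _
  have h4 : GoodHom ((Algebra.TensorProduct.comm R A' (AdjoinRoot p)).toRingEquiv :
      A' ⊗[R] AdjoinRoot p →+* AdjoinRoot p ⊗[R] A') := goodHom_ringEquiv _
  have h5 := goodHom_comp (goodHom_comp (goodHom_comp h1 h2) h3) h4
  convert h5 using 1
  ext a
  have e1 : algebraMap (A' ⊗[R] R) (AdjoinRoot q) (algebraMap A' (A' ⊗[R] R) a) =
      algebraMap A' (AdjoinRoot q) a := (IsScalarTower.algebraMap_apply A' (A' ⊗[R] R) _ a).symm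
  simp only [RingHom.coe_comp, Function.comp_apply, AlgHom.toRingHom_eq_coe, RingHom.coe_coe,
    Algebra.TensorProduct.includeRight_apply]
  rw [e1]
  have e2 : τ.symm (algebraMap A' (AdjoinRoot q) a) = algebraMap A' _ a := τ.symm.commutes a
  change _ = (Algebra.TensorProduct.comm R A' (AdjoinRoot p))
    (τ.symm (algebraMap A' (AdjoinRoot q) a))
  rw [e2, Algebra.TensorProduct.algebraMap_apply, Algebra.algebraMap_self, RingHom.id_apply,
    Algebra.TensorProduct.comm_tmul]

attribute [local instance] Algebra.TensorProduct.rightAlgebra in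
lemma ug_of_isLocalization (M : Submonoid R) [IsLocalization M S] : UG R S := by
  intro A' _ _
  haveI : IsLocalization (Algebra.algebraMapSubmonoid A' M) (S ⊗[R] A') :=
    IsLocalization.tensorRight S M
  have h1 : GoodHom (algebraMap A' (S ⊗[R] A')) :=
    goodHom_algebraMap (goodAlg_of_isLocalization (Algebra.algebraMapSubmonoid A' M))
  exact h1

lemma ug_comp [Algebra S T'] [Algebra R T'] [IsScalarTower R S T'] (h1 : UG R S)
    (h2 : UG S T') : UG R T' := by
  intro A' _ _
  have g1 := h1 A'
  have g2 := h2 (S ⊗[R] A')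
  have g3 : GoodHom ((Algebra.TensorProduct.cancelBaseChange R S S T' A').toRingEquiv :
      T' ⊗[S] (S ⊗[R] A') →+* T' ⊗[R] A') := goodHom_ringEquiv _
  have g4 := goodHom_comp (goodHom_comp g1 g2) g3
  convert g4 using 1
  ext a
  simp

end ug2

section field

open IntermediateField

lemma ug_self (R : Type u) [CommRing R] : UG R R := by
  intro A' _ _
  have h : GoodHom ((Algebra.TensorProduct.lid R A').symm.toRingEquiv : A' →+* R ⊗[R] A') :=
    goodHom_ringEquiv _
  convert h using 1
  ext a
  simp

variable {F E : Type u} [Field F] [Field E] [Algebra F E]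

/-- a simple field extension is universally good -/
theorem ug_adjoin_simple (x : E) : UG F F⟮x⟯ := by
  by_cases hx : IsIntegral F x
  · exact ug_of_algEquiv (adjoinRootEquivAdjoin F hx) (ug_adjoinRoot _ (minpoly.monic hx))
  · have htr : Transcendental F x := hx ∘ (fun h => h.isIntegral)
    have h1 : UG F F[X] := ug_polynomial
    have h2 : UG F[X] (RatFunc F) := ug_of_isLocalization (nonZeroDivisors F[X])
    exact ug_of_algEquiv (RatFunc.algEquivOfTranscendental x htr) (ug_comp h1 h2)

end field

section fg

open IntermediateField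

variable {k E : Type u} [Field k] [Field E] [Algebra k E]

/-- a finitely generated field extension is universally good -/
theorem ug_of_fg (K : IntermediateField k E) (hK : K.FG) : UG k K := by
  refine induction_on_adjoin_fg (fun K => UG k K) ?_ ?_ K hK
  · exact ug_of_algEquiv (botEquiv k E).symm (ug_self k)
  · intro K x h
    have h1 : UG K K⟮x⟯ := ug_adjoin_simple x
    have h2 : UG k K⟮x⟯ := ug_comp h h1
    let e : K⟮x⟯ ≃ₐ[k] (K⟮x⟯.restrictScalars k) :=
      { toFun := fun y => ⟨y.1, y.2⟩
        invFun := fun y => ⟨y.1, y.2⟩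
        left_inv := fun _ => rfl
        right_inv := fun _ => rfl
        map_mul' := fun _ _ => rfl
        map_add' := fun _ _ => rfl
        commutes' := fun _ => rfl }
    exact ug_of_algEquiv e h2

/-- a finitely generated field extension is universally good -/
theorem ug_of_fg_top (hK : ∃ s : Finset E, IntermediateField.adjoin k (s : Set E) = ⊤) :
    UG k E := by
  have h : (⊤ : IntermediateField k E).FG := hK
  exact ug_of_algEquiv (topEquiv (F := k) (E := E)) (ug_of_fg ⊤ h)

end fg

section gor

open Groth.Agent.H4.GF3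

/-- a field has dualizing complex `K[0]` -/
lemma isDualizing_unit_field (κ : Type u) [Field κ] : Dual.IsDualizing κ (Dual.inD κ κ) := by
  haveI : Module.Injective κ κ := Module.injective_of_isSemisimpleRing κ κ
  haveI : Injective (ModuleCat.of κ κ) := Module.injective_object_of_injective_module κ κ
  have h : LocCoh.IsGorensteinLocalRing κ :=
    { exists_hasInjectiveDimensionLT := ⟨1, inferInstance⟩ }
  exact Groth.Agent.H4.US17.isDualizing_unit_of_gorenstein h

/-- the target of a good map from a field is Gorenstein -/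
lemma isGorensteinRing_of_goodHom_field {κ B : Type u} [Field κ] [CommRing B] (φ : κ →+* B)
    (h : GoodHom φ) : LocCoh.IsGorensteinRing B := by
  letI := φ.toAlgebra
  have h' : GoodAlg κ B := h
  haveI := h'.flat
  haveI := h'.noeth inferInstance
  have h1 := h'.dual _ (isDualizing_unit_field κ)
  exact isGorensteinRing_of_isDualizing_unit
    (isDualizing_of_iso Groth.Agent.H4.KosBC.EUnitIso' h1)

variable {k K : Type u} [Field k] [Field K] [Algebra k K]

/-- **S8948** -/
theorem isGorensteinRing_tensor_of_ug (hUG : UG k K) (R : Type u) [CommRing R] [Algebra k R]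
    (hR : LocCoh.IsGorensteinRing R) : LocCoh.IsGorensteinRing (K ⊗[k] R) := by
  haveI : IsNoetherianRing R := hR.toIsNoetherian
  -- Noetherian
  have hN : IsNoetherianRing (K ⊗[k] R) := by
    have h := hUG R
    letI := (Algebra.TensorProduct.includeRight : R →ₐ[k] K ⊗[k] R).toRingHom.toAlgebra
    have h' : GoodAlg R (K ⊗[k] R) := h
    exact h'.noeth inferInstance
  haveI : IsNoetherianRing (R ⊗[k] K) :=
    isNoetherianRing_of_ringEquiv _ (Algebra.TensorProduct.comm k K R).toRingEquiv
  have hB : LocCoh.IsGorensteinRing (R ⊗[k] K) := by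
    refine isGorensteinRing_of_flat_of_fibres hR (fun p _ => ?_)
    have h1 : LocCoh.IsGorensteinRing (K ⊗[k] p.ResidueField) :=
      isGorensteinRing_of_goodHom_field _ (hUG p.ResidueField)
    let e : K ⊗[k] p.ResidueField ≃+* p.Fiber (R ⊗[k] K) :=
      (Algebra.TensorProduct.comm k K p.ResidueField).toRingEquiv.trans
        (Algebra.TensorProduct.cancelBaseChange k R R p.ResidueField K).symm.toRingEquiv
    exact isGorensteinRing_of_ringEquiv e h1
  exact isGorensteinRing_of_ringEquiv (Algebra.TensorProduct.comm k R K).toRingEquiv hB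

theorem S8948 (k K R : Type u) [Field k] [Field K] [Algebra k K]
    (hK : ∃ s : Finset K, IntermediateField.adjoin k (s : Set K) = ⊤) [CommRing R] [Algebra k R]
    [hR : LocCoh.IsGorensteinRing R] : LocCoh.IsGorensteinRing (K ⊗[k] R) :=
  isGorensteinRing_tensor_of_ug (ug_of_fg_top hK) R hR

end gor

end Groth.Agent.H4.GF4
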