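import Mathlib
import Groth.Prelude.Def_DRing2
import Groth.Prelude.Def_DRing4
import Groth.Agent.H4.KI8
import Groth.Agent.H4.DRing1
import Groth.Agent.Lib.Helper3.PerfAux

set_option autoImplicit false
universe u
open CategoryTheory Category Limits MonoidalCategory HomologicalComplex CochainComplex
  CochainComplex.HomComplex

namespace Groth.Agent.H4.KI9

open DTen DerivedCategory DRing Groth.Agent.H4.HC3 Groth.Agent.H4.HC6 Groth.Agent.H4.KI4
  Groth.Agent.H4.KI5 Groth.Agent.H4.KI6 Groth.Agent.H4.KI8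

attribute [local instance] HasDerivedCategory.standard
attribute [local instance] Groth.Agent.H4.LK4.hasLTen Groth.Agent.H4.LK5.hasLTen₃
  Groth.Agent.H4.KI7.isSymMonoidal Groth.Agent.H4.KI6.hasRHom

variable {A : Type u} [CommRing A]

/-- `M` in degree `0`. -/
noncomputable abbrev sg0 (M : ModuleCat.{u} A) : Cx A :=
  (HomologicalComplex.single (ModuleCat.{u} A) (ComplexShape.up ℤ) 0).obj M

/-- cochains to a module in degree `0`, as a linear equivalence. -/
noncomputable def toSingleLinearEquiv (P : Cx A) (M : ModuleCat.{u} A) (n p : ℤ) (h : p + n = 0) :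
    Cochain P (sg0 M) n ≃ₗ[A] (P.X p →ₗ[A] M) :=
  LinearEquiv.ofBijective
    { toFun := fun z => (z.v p 0 h ≫ (HomologicalComplex.singleObjXSelf (.up ℤ) 0 M).hom).hom
      map_add' := fun z z' => by
        rw [Cochain.add_v, Preadditive.add_comp]
        rfl
      map_smul' := fun a z => by
        rw [Cochain.smul_v, Linear.smul_comp]
        rfl }
    (by
      have hb := (Cochain.toSingleEquiv (K := P) (X := M) h).bijective
      have he : Function.Bijective (fun f : P.X p ⟶ M => f.hom) :=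
        ⟨fun f g hfg => ModuleCat.hom_ext hfg, fun f => ⟨ModuleCat.ofHom f, rfl⟩⟩
      exact he.comp hb)

/-- terms of `Hom•(P, A[0])`. -/
lemma homCx_sg0_X_finite_projective (P : Cx A) (n : ℤ)
    [Module.Finite A (P.X (-n))] [Module.Projective A (P.X (-n))] :
    Module.Finite A ((homCx P (sg0 (ModuleCat.of A A))).X n) ∧
      Module.Projective A ((homCx P (sg0 (ModuleCat.of A A))).X n) := by
  let e : Cochain P (sg0 (ModuleCat.of A A)) n ≃ₗ[A] Module.Dual A (P.X (-n)) :=
    toSingleLinearEquiv P (ModuleCat.of A A) n (-n) (by omega)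
  change Module.Finite A (Cochain P (sg0 (ModuleCat.of A A)) n) ∧
    Module.Projective A (Cochain P (sg0 (ModuleCat.of A A)) n)
  exact ⟨Module.Finite.equiv e.symm, Module.Projective.of_equiv e.symm⟩

lemma isZero_homCx_sg0_X (P : Cx A) (M : ModuleCat.{u} A) (n : ℤ) (h : IsZero (P.X (-n))) :
    IsZero ((homCx P (sg0 M)).X n) := by
  let e := toSingleLinearEquiv P M n (-n) (by omega)
  haveI : Subsingleton (P.X (-n)) := ModuleCat.subsingleton_of_isZero h
  haveI : Subsingleton (P.X (-n) →ₗ[A] M) :=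
    ⟨fun f g => LinearMap.ext fun x => by rw [Subsingleton.elim x 0, map_zero, map_zero]⟩
  haveI : Subsingleton (Cochain P (sg0 M) n) := e.toEquiv.subsingleton
  haveI : Subsingleton ((homCx P (sg0 M)).X n) := inferInstanceAs (Subsingleton (Cochain P (sg0 M) n))
  exact ModuleCat.isZero_of_subsingleton _

/-- the dual of a bounded complex of finite projective modules is perfect. -/
theorem isPerfect_homCx_sg0 (P : Cx A) (a b : ℤ) (hab : VanishesOutside P a b)
    (hP : TermwiseFiniteProjective P) :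
    IsPerfect A (toD (homCx P (sg0 (ModuleCat.of A A)))) := by
  refine ⟨homCx P (sg0 (ModuleCat.of A A)), -b, -a, ?_, ?_, ⟨Iso.refl _⟩⟩
  · intro i hi
    apply isZero_homCx_sg0_X
    apply hab
    omega
  · intro i
    haveI := (hP (-i)).1
    haveI := (hP (-i)).2
    exact homCx_sg0_X_finite_projective P i

/-- `inD A A` as the image of `A[0]`. -/
noncomputable def inDIso : Dual.inD A A ≅ toD (sg0 (ModuleCat.of A A)) :=
  (singleFunctorIsoCompQ (ModuleCat.{u} A) 0).app (ModuleCat.of A A)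

/-- S6963 -/
theorem S6963 (K : Dual.D A) (hK : DRing.IsPerfect A K)
    (E : DRing.Cx A) (eK : DRing.toD E ≅ K) [DRing.HasRHomCx E] :
    DRing.IsPerfect A ((DRing.RHomCx E).obj (Dual.inD A A)) ∧
      ∀ (E' : DRing.Cx A) (eK' : DRing.toD E' ≅ (DRing.RHomCx E).obj (Dual.inD A A))
        [DRing.HasRHomCx E'],
        Nonempty ((DRing.RHomCx E').obj (Dual.inD A A) ≅ K) := by
  have hK' := hK
  obtain ⟨P, a, b, hab, hP, ⟨e⟩⟩ := hK
  haveI : P.IsKProjective :=
    Groth.Agent.H4.DRing1.isKProjective_of_vanishesAbove_projective P b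
      (fun i hi => hab i (Or.inr hi)) (fun i => (hP i).2)
  obtain ⟨u, hu⟩ := Groth.Agent.H3.PerfAux.exists_map_of_isKProjective P E (e.hom ≫ eK.inv)
  haveI : QuasiIso u := by
    rw [← isIso_Q_map_iff_quasiIso, hu]
    infer_instance
  haveI : DRing.HasRHomCx P := hasRHomCx P
  have hperf : DRing.IsPerfect A ((DRing.RHomCx E).obj (Dual.inD A A)) := by
    obtain ⟨e1⟩ := nonempty_RHomCx_iso P (sg0 (ModuleCat.of A A))
    have e2 : (DRing.RHomCx E).obj (Dual.inD A A) ≅ toD (homCx P (sg0 (ModuleCat.of A A))) :=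
      (RHomCxPreIso u).app _ ≪≫ (DRing.RHomCx P).mapIso inDIso ≪≫ e1
    exact (Groth.Agent.H4.DThick.isTriSub_isPerfect (R := A)).iso e2.symm
      (isPerfect_homCx_sg0 P a b hab hP)
  refine ⟨hperf, ?_⟩
  intro E' eK' _
  obtain ⟨d⟩ := nonempty_bidual_iso K hK'
  -- `RHomCx E (A) ≅ RHomR K (unit)`
  have e3 : (DRing.RHomCx E).obj (Dual.inD A A) ≅ (RHomR A K).obj (DTen.unit A) :=
    (rhomCxIsoRHomR E).app _ ≪≫ (RHomR A (Q.obj E)).mapIso inDUnitIso ≪≫
      RHomIso eK.symm (DTen.unit A)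
  have e4 : (DRing.RHomCx E').obj (Dual.inD A A) ≅
      (RHomR A ((RHomR A K).obj (DTen.unit A))).obj (DTen.unit A) :=
    (rhomCxIsoRHomR E').app _ ≪≫ (RHomR A (Q.obj E')).mapIso inDUnitIso ≪≫
      RHomIso (eK' ≪≫ e3).symm (DTen.unit A)
  exact ⟨e4 ≪≫ d.symm⟩

end Groth.Agent.H4.KI9
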