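import Mathlib
import Groth.Agent.H4.PCHom
import Groth.Prelude.Def_DerCA

set_option autoImplicit false
universe u
open CategoryTheory CategoryTheory.Limits
attribute [local instance] HasDerivedCategory.standard
open DRing

namespace Groth.Agent.H4.RelPC
open Groth.Agent.H4.PCHom Groth.Agent.H4.PC

variable {R A : Type u} [CommRing R] [CommRing A] [Algebra R A]

lemma isPC_restrict_congr {A B : Type u} [CommRing A] [CommRing B] {f g : A →+* B} (h : f = g)
    (m : ℤ) (K : Dual.D B) :
    IsPseudoCoherent A m ((restrictD f).obj K) ↔ IsPseudoCoherent A m ((restrictD g).obj K) := by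
  subst h
  rfl

/-- passing to a bigger polynomial ring. -/
lemma via_iff {n k : ℕ} (f : MvPolynomial (Fin n) R →+* A) (p : Fin k → MvPolynomial (Fin n) R)
    (K : Dual.D A) (m : ℤ) :
    IsPseudoCoherent (MvPolynomial (Fin n) R) m ((restrictD f).obj K) ↔
      IsPseudoCoherent (MvPolynomial (Fin k) (MvPolynomial (Fin n) R)) m
        ((restrictD (f.comp (MvPolynomial.eval p :
          MvPolynomial (Fin k) (MvPolynomial (Fin n) R) →+* MvPolynomial (Fin n) R))).obj K) := by
  rw [← (isPCHom_eval (MvPolynomial (Fin n) R) k p).isPC_iff m]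
  exact ⟨isPC_of_iso (restrictDComp _ _ K).symm, isPC_of_iso (restrictDComp _ _ K)⟩

theorem via_indep
    {n k : ℕ} (α : MvPolynomial (Fin n) R →ₐ[R] A) (hα : Function.Surjective α)
    (β : MvPolynomial (Fin k) R →ₐ[R] A) (hβ : Function.Surjective β) (K : Dual.D A) (m : ℤ) :
    DerCA.IsRelPseudoCoherentVia α m K ↔ DerCA.IsRelPseudoCoherentVia β m K := by
  choose p hp using fun j : Fin k => hα (β (MvPolynomial.X j))
  choose q hq using fun i : Fin n => hβ (α (MvPolynomial.X i))
  unfold DerCA.IsRelPseudoCoherentVia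
  rw [via_iff _ p K m, via_iff _ q K m]
  let σ := (MvPolynomial.commAlgEquiv R (Fin k) (Fin n)).toRingEquiv
  rw [← (isPCHom_of_ringEquiv σ).isPC_iff m]
  have key : ((α : MvPolynomial (Fin n) R →+* A).comp (MvPolynomial.eval p :
      MvPolynomial (Fin k) (MvPolynomial (Fin n) R) →+* MvPolynomial (Fin n) R)) =
      ((β : MvPolynomial (Fin k) R →+* A).comp (MvPolynomial.eval q :
        MvPolynomial (Fin n) (MvPolynomial (Fin k) R) →+* MvPolynomial (Fin k) R)).comp
        σ.toRingHom := by
    refine MvPolynomial.ringHom_ext (fun c => ?_) (fun j => ?_)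
    · have h2 : (((α : MvPolynomial (Fin n) R →+* A).comp (MvPolynomial.eval p :
          MvPolynomial (Fin k) (MvPolynomial (Fin n) R) →+* MvPolynomial (Fin n) R)).comp
          MvPolynomial.C) =
          ((((β : MvPolynomial (Fin k) R →+* A).comp (MvPolynomial.eval q :
            MvPolynomial (Fin n) (MvPolynomial (Fin k) R) →+* MvPolynomial (Fin k) R)).comp
            σ.toRingHom).comp MvPolynomial.C) := by
        refine MvPolynomial.ringHom_ext (fun r => ?_) (fun i => ?_)
        · simp [σ]
        · simp [σ, hq]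
      exact congrArg (fun (φ : MvPolynomial (Fin n) R →+* A) => φ c) h2
    · simp [σ, hp]
  rw [isPC_restrict_congr key]
  exact ⟨isPC_of_iso (restrictDComp _ _ K), isPC_of_iso (restrictDComp _ _ K).symm⟩

theorem isRelPC_iff_via {n : ℕ} (α : MvPolynomial (Fin n) R →ₐ[R] A) (hα : Function.Surjective α)
    (K : Dual.D A) (m : ℤ) :
    DerCA.IsRelPseudoCoherent R A m K ↔ DerCA.IsRelPseudoCoherentVia α m K := by
  constructor
  · rintro ⟨k, β, hβ, h⟩
    exact (via_indep β hβ α hα K m).1 h
  · intro h
    exact ⟨n, α, hα, h⟩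

end Groth.Agent.H4.RelPC
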