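import Mathlib
import Groth.Agent.H4.RelPC
import Groth.Agent.H4.DComp10

set_option autoImplicit false
universe u
open CategoryTheory CategoryTheory.Limits
attribute [local instance] HasDerivedCategory.standard
open DRing

namespace Groth.Agent.H4.RelPC
open Groth.Agent.H4.PCHom Groth.Agent.H4.PC Groth.Agent.H4.RelPC DerivedCategory

variable {R A : Type u} [CommRing R] [CommRing A] [Algebra R A]

lemma exists_pres [Algebra.FiniteType R A] :
    ∃ (n : ℕ) (α : MvPolynomial (Fin n) R →ₐ[R] A), Function.Surjective α :=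
  Algebra.FiniteType.iff_quotient_mvPolynomial''.1 inferInstance

lemma relPC_iff {n : ℕ} (α : MvPolynomial (Fin n) R →ₐ[R] A) (hα : Function.Surjective α)
    (K : Dual.D A) (m : ℤ) :
    DerCA.IsRelPseudoCoherent R A m K ↔
      IsPseudoCoherent (MvPolynomial (Fin n) R) m
        ((restrictD (α : MvPolynomial (Fin n) R →+* A)).obj K) :=
  isRelPC_iff_via α hα K m

lemma relPCAll_iff {n : ℕ} (α : MvPolynomial (Fin n) R →ₐ[R] A) (hα : Function.Surjective α)
    (K : Dual.D A) :
    DerCA.IsRelPseudoCoherentAll R A K ↔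
      ∀ m : ℤ, IsPseudoCoherent (MvPolynomial (Fin n) R) m
        ((restrictD (α : MvPolynomial (Fin n) R →+* A)).obj K) :=
  forall_congr' (fun m => relPC_iff α hα K m)

lemma relPC_single_iff {n : ℕ} (α : MvPolynomial (Fin n) R →ₐ[R] A) (hα : Function.Surjective α)
    (M : ModuleCat.{u} A) (m : ℤ) :
    DerCA.IsRelPseudoCoherent R A m ((singleFunctor (ModuleCat.{u} A) 0).obj M) ↔
      IsPseudoCoherent (MvPolynomial (Fin n) R) m
        ((singleFunctor (ModuleCat.{u} (MvPolynomial (Fin n) R)) 0).obj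
          ((ModuleCat.restrictScalars.{u} (α : MvPolynomial (Fin n) R →+* A)).obj M)) := by
  rw [relPC_iff α hα]
  exact ⟨isPC_of_iso (restrictDSingle _ M), isPC_of_iso (restrictDSingle _ M).symm⟩

lemma relPC_of_iso {K K' : Dual.D A} (e : K ≅ K') {m : ℤ} (h : DerCA.IsRelPseudoCoherent R A m K) :
    DerCA.IsRelPseudoCoherent R A m K' := by
  obtain ⟨n, α, hα, h⟩ := h
  exact ⟨n, α, hα, isPC_of_iso ((restrictD _).mapIso e) h⟩

end Groth.Agent.H4.RelPC
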