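import Mathlib
import Groth.Agent.H4.RelPC2
import Groth.Agent.H4.PC8

set_option autoImplicit false
universe u
open CategoryTheory CategoryTheory.Limits
attribute [local instance] HasDerivedCategory.standard
open DRing

namespace Groth.Agent.H4.RelPC
open Groth.Agent.H4.PCHom Groth.Agent.H4.PC DerivedCategory

lemma finite_restrictScalars_of_surjective {A B : Type u} [CommRing A] [CommRing B] (φ : A →+* B)
    (hφ : Function.Surjective φ) (M : ModuleCat.{u} B) (h : Module.Finite B M) :
    Module.Finite A ((ModuleCat.restrictScalars.{u} φ).obj M) := by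
  obtain ⟨s, hs⟩ := h.fg_top
  refine ⟨⟨s, ?_⟩⟩
  rw [eq_top_iff]
  rintro x -
  have hx : (x : M) ∈ Submodule.span B (s : Set M) := by rw [hs]; trivial
  induction hx using Submodule.span_induction with
  | mem y hy => exact Submodule.subset_span hy
  | zero => exact Submodule.zero_mem _
  | add y z _ _ hy hz => exact Submodule.add_mem _ hy hz
  | smul b y _ hy =>
    obtain ⟨a, rfl⟩ := hφ b
    exact Submodule.smul_mem _ a hy

lemma finite_restrictScalars_iff {A B : Type u} [CommRing A] [CommRing B] (φ : A →+* B)
    (hφ : Function.Surjective φ) (M : ModuleCat.{u} B) :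
    Module.Finite A ((ModuleCat.restrictScalars.{u} φ).obj M) ↔ Module.Finite B M :=
  ⟨Groth.Agent.H4.RestrPC.finite_of_finite_restrictScalars φ M,
    finite_restrictScalars_of_surjective φ hφ M⟩

end Groth.Agent.H4.RelPC
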