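import Mathlib
import Groth.Prelude.Def_DualSh
import Groth.Agent.H4.RelPC3
import Groth.Agent.H4.Perf1
import Groth.Agent.H4.TorAmp4
import Groth.Agent.H4.KProj5
import Groth.Agent.H4.DRing2

set_option autoImplicit false
universe u
open CategoryTheory CategoryTheory.Limits CategoryTheory.Pretriangulated MonoidalCategory
open ZeroObject
attribute [local instance] HasDerivedCategory.standard
open DRing

namespace Groth.Agent.H4.RelPerf
open Groth.Agent.H4.PCHom Groth.Agent.H4.PC Groth.Agent.H4.RelPC DerivedCategory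
  Groth.Agent.H4.TorAmp Groth.Agent.H4.LDer Groth.Agent.H4.DRing1

variable {R : Type u} [CommRing R]

/-- tor amplitude passes to retracts. -/
theorem hasTorAmp_of_retract {K X : Dual.D R} (i : K ⟶ X) (p : X ⟶ K) (hip : i ≫ p = 𝟙 K)
    {a b : ℤ} (h : HasTorAmplitudeIn R a b X) : HasTorAmplitudeIn R a b K := by
  haveI : ∀ M : ModuleCat.{u} R, DRing.HasLTensor R M := fun M => Groth.Agent.H4.KProj.hasLTensor M
  rw [hasTorAmp_iff] at h ⊢
  intro M j hj
  have h0 := h M j hj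
  unfold HV at h0 ⊢
  rw [IsZero.iff_id_eq_zero, ← CategoryTheory.Functor.map_id (homologyFunctor (ModuleCat.{u} R) j),
    ← CategoryTheory.Functor.map_id (LG (tensorRight M)), ← hip,
    CategoryTheory.Functor.map_comp, CategoryTheory.Functor.map_comp]
  rw [h0.eq_of_tgt ((homologyFunctor (ModuleCat.{u} R) j).map ((LG (tensorRight M)).map i)) 0,
    zero_comp]

lemma finTorDim_of_iso {K K' : Dual.D R} (e : K ≅ K') (h : HasFiniteTorDimCx R K) :
    HasFiniteTorDimCx R K' := by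
  obtain ⟨a, b, h⟩ := h
  exact ⟨a, b, hasTorAmp_of_iso e h⟩

lemma finTorDim_obj₂ (T : Triangle (Dual.D R)) (hT : T ∈ distinguishedTriangles)
    (h₁ : HasFiniteTorDimCx R T.obj₁) (h₃ : HasFiniteTorDimCx R T.obj₃) :
    HasFiniteTorDimCx R T.obj₂ := by
  haveI : ∀ M : ModuleCat.{u} R, DRing.HasLTensor R M := fun M => Groth.Agent.H4.KProj.hasLTensor M
  obtain ⟨a, b, h₁⟩ := h₁
  obtain ⟨a', b', h₃⟩ := h₃
  exact ⟨min a a', max b b', hasTorAmp_obj₂ T hT _ _
    (hasTorAmp_mono (min_le_left _ _) (le_max_left _ _) h₁)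
    (hasTorAmp_mono (min_le_right _ _) (le_max_right _ _) h₃)⟩

lemma finTorDim_shift {K : Dual.D R} (h : HasFiniteTorDimCx R K) (n : ℤ) :
    HasFiniteTorDimCx R (K⟦n⟧) := by
  obtain ⟨a, b, h⟩ := h
  exact ⟨a - n, b - n, hasTorAmp_shift h n _ _ (by omega) (by omega)⟩

section Rel
variable {R A : Type u} [CommRing R] [CommRing A] [Algebra R A]

lemma relPerf_of_iso {K K' : Dual.D A} (e : K ≅ K') (h : Dual2.IsRelPerfect R A K) :
    Dual2.IsRelPerfect R A K' :=
  ⟨isPseudoCoherent'_of_iso e h.1, finTorDim_of_iso ((restrictD (algebraMap R A)).mapIso e) h.2⟩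

lemma relPerf_of_isZero (K : Dual.D A) (hK : IsZero K) : Dual2.IsRelPerfect R A K :=
  ⟨Groth.Agent.H4.Perf.isPC'_of_isPerfect (Groth.Agent.H4.DRing1.isPerfect_of_isZero K hK),
    ⟨0, 0, hasTorAmp_of_isZero _ ((restrictD (algebraMap R A)).map_isZero hK) 0 0⟩⟩

lemma relPerf_shift {K : Dual.D A} (h : Dual2.IsRelPerfect R A K) (n : ℤ) :
    Dual2.IsRelPerfect R A (K⟦n⟧) :=
  ⟨isPseudoCoherent'_shift K n h.1,
    finTorDim_of_iso (((restrictD (algebraMap R A)).commShiftIso n).app K).symm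
      (finTorDim_shift h.2 n)⟩

lemma relPerf_obj₂ (T : Triangle (Dual.D A)) (hT : T ∈ distinguishedTriangles)
    (h₁ : Dual2.IsRelPerfect R A T.obj₁) (h₃ : Dual2.IsRelPerfect R A T.obj₃) :
    Dual2.IsRelPerfect R A T.obj₂ :=
  ⟨(isPseudoCoherent'_two_out_of_three T hT).2.1 h₁.1 h₃.1,
    finTorDim_obj₂ _ ((restrictD (algebraMap R A)).map_distinguished T hT) h₁.2 h₃.2⟩

lemma relPerf_of_retract {K X : Dual.D A} (i : K ⟶ X) (p : X ⟶ K) (hip : i ≫ p = 𝟙 K)
    (hK : IsPseudoCoherent' A K)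
    (h : Dual2.IsRelPerfect R A X) : Dual2.IsRelPerfect R A K := by
  refine ⟨hK, ?_⟩
  obtain ⟨a, b, h2⟩ := h.2
  exact ⟨a, b, hasTorAmp_of_retract ((restrictD (algebraMap R A)).map i)
    ((restrictD (algebraMap R A)).map p) (by rw [← CategoryTheory.Functor.map_comp, hip, CategoryTheory.Functor.map_id]) h2⟩

end Rel

end Groth.Agent.H4.RelPerf
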