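import Mathlib
import Groth.Agent.H4.US4
import Groth.Agent.H4.KI9
import Groth.Agent.H4.FR7
import Groth.Agent.H4.RelPerf
import Groth.Agent.H4.RegPerf
import Groth.Agent.H4.BCSq
import Groth.Agent.H4.US13
import Groth.Agent.H4.GF4

set_option autoImplicit false
universe u
open CategoryTheory Category Limits Pretriangulated TensorProduct MonoidalCategory

namespace Groth.Agent.H4.FR8

attribute [local instance] HasDerivedCategory.standard
attribute [local instance] Groth.Agent.H4.LK4.hasLTen Groth.Agent.H4.LK5.hasLTen₃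
  Groth.Agent.H4.KI7.isSymMonoidal Groth.Agent.H4.KI6.hasRHom
attribute [local instance] Groth.Agent.H4.KProj.hasLBaseChange

open DRing DTen DerivedCategory Groth.Agent.H4.FB2 Groth.Agent.H4.US1 Groth.Agent.H4.US2
  Groth.Agent.H4.US3 Groth.Agent.H4.US4 Groth.Agent.H4.HC6

set_option quotPrecheck false in
/-- notation for the object part of `⊗^L` -/
local notation:max "tO(" a ", " b ")" => (LTen₂ _).obj (a, b)

set_option quotPrecheck false in
/-- notation for the map part of `⊗^L` -/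
local notation:max "tM(" a ", " b ")" => (LTen₂ _).map (Prod.mkHom a b)

section FF

variable {A : Type u} [CommRing A] (ω : Dual.D A)

/-- the biduality morphism, natural in `K`, for an object `ω` with `RHom(ω, ω) ≅ A`. -/
theorem exists_eta_gen (eR : (RHomR A ω).obj ω ≅ DTen.unit A) :
    ∃ η : ∀ K : Dual.D A, K ⟶ (RHomR A ((RHomR A K).obj ω)).obj ω,
    (∀ {K K' : Dual.D A} (k : K ⟶ K'), k ≫ η K' = η K ≫ DD ω k) ∧
    ∀ K : Dual.D A, IsIso (evalHom K ω ω) → IsIso (η K) := by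
  let w : ∀ K : Dual.D A, tO((RHomR A ω).obj ω, K) ≅ K := fun K =>
    haveI := Groth.Agent.H4.KI7.isIso_unitL_app K
    ((LTen A).mapIso eR).app K ≪≫ asIso ((unitL A).app K)
  have hw : ∀ {K K' : Dual.D A} (k : K ⟶ K'),
      tM(𝟙 ((RHomR A ω).obj ω), k) ≫ (w K').hom = (w K).hom ≫ k := by
    intro K K' k
    dsimp only [w, Iso.trans_hom, asIso_hom, Iso.app_hom, Functor.mapIso_hom]
    have h1 := (unitL A).naturality k
    have h2 := ((LTen A).map eR.hom).naturality k
    dsimp only [Functor.id_obj, Functor.id_map] at h1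
    rw [assoc, ← h1, ← assoc, ← assoc]
    congr 1
  refine ⟨fun K => (w K).inv ≫ evalHom K ω ω, ?_, ?_⟩
  · intro K K' k
    have h := Groth.Agent.H4.EV7.evalHom_naturality_K ω ω k
    rw [assoc, ← h, ← assoc, ← assoc]
    congr 1
    rw [Iso.comp_inv_eq, assoc, hw, Iso.inv_hom_id_assoc]
  · intro K hK
    infer_instance

/-- duality is fully faithful where biduality holds. -/
theorem bijective_RHomMap_gen (η : ∀ K : Dual.D A, K ⟶ (RHomR A ((RHomR A K).obj ω)).obj ω)
    (hnat : ∀ {K K' : Dual.D A} (k : K ⟶ K'), k ≫ η K' = η K ≫ DD ω k)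
    (X Y : Dual.D A) (hX : IsIso (η X)) (hY : IsIso (η Y))
    (hDX : IsIso (η ((RHomR A X).obj ω))) :
    Function.Bijective (fun g : X ⟶ Y => RHomMap g ω) := by
  have inj : ∀ (X Y : Dual.D A), IsIso (η Y) →
      Function.Injective (fun g : X ⟶ Y => RHomMap g ω) := by
    intro X Y hY g g' h
    have h1 : g ≫ η Y = g' ≫ η Y := by
      rw [hnat g, hnat g']
      change _ ≫ RHomMap (RHomMap g ω) ω = _ ≫ RHomMap (RHomMap g' ω) ω
      have : RHomMap g ω = RHomMap g' ω := h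
      rw [this]
    exact (cancel_mono (η Y)).1 h1
  refine ⟨inj X Y hY, ?_⟩
  intro h
  let g : X ⟶ Y := η X ≫ RHomMap h ω ≫ inv (η Y)
  refine ⟨g, ?_⟩
  apply inj _ _ hDX
  change RHomMap (RHomMap g ω) ω = RHomMap h ω
  have h2 : g ≫ η Y = η X ≫ RHomMap h ω := by
    simp only [g, assoc, IsIso.inv_hom_id, comp_id]
  have h3 := hnat g
  rw [h2] at h3
  exact ((cancel_epi (η X)).1 h3).symm

end FF


section Perf

variable {A : Type u} [CommRing A]

/-- the dual of a perfect object is perfect. -/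
theorem isPerfect_dual (K : Dual.D A) (hK : IsPerfect A K) :
    IsPerfect A ((RHomR A K).obj (DTen.unit A)) := by
  have hK' := hK
  obtain ⟨P, a, b, hab, hP, ⟨e⟩⟩ := hK
  haveI : DRing.HasRHomCx P := Groth.Agent.H4.KI4.hasRHomCx P
  have h := (Groth.Agent.H4.KI9.S6963 K hK' P e).1
  have e3 : (DRing.RHomCx P).obj (Dual.inD A A) ≅ (RHomR A K).obj (DTen.unit A) :=
    (Groth.Agent.H4.KI6.rhomCxIsoRHomR P).app _ ≪≫
      (RHomR A (Q.obj P)).mapIso Groth.Agent.H4.KI8.inDUnitIso ≪≫ RHomIso e.symm (DTen.unit A)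
  exact Groth.Agent.H4.DRing1.isPerfect_of_iso e3 h

lemma isPerfect_unit : IsPerfect A (DTen.unit A) :=
  Groth.Agent.H4.DRing1.isPerfect_of_iso Groth.Agent.H4.KI8.inDUnitIso
    (Groth.Agent.H4.RegPerf.isPerfectModule_of_finite_projective (R := A) A)

/-- biduality on perfect objects. -/
theorem exists_eta_perf :
    ∃ η : ∀ K : Dual.D A, K ⟶ (RHomR A ((RHomR A K).obj (DTen.unit A))).obj (DTen.unit A),
    (∀ {K K' : Dual.D A} (k : K ⟶ K'), k ≫ η K' = η K ≫ DD (DTen.unit A) k) ∧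
    ∀ K : Dual.D A, IsPerfect A K → IsIso (η K) := by
  obtain ⟨η, hnat, hiso⟩ := exists_eta_gen (DTen.unit A)
    ((Groth.Agent.H4.KI8.RHomRUnitIso (A := A)).app (DTen.unit A))
  exact ⟨η, hnat, fun K hK => hiso K
    (Groth.Agent.H4.EV7.isIso_evalHom_of_isPerfect K (DTen.unit A) (DTen.unit A) hK)⟩

/-- duality is fully faithful on perfect objects. -/
theorem bijective_RHomMap_perf (X Y : Dual.D A) (hX : IsPerfect A X) (hY : IsPerfect A Y) :
    Function.Bijective (fun g : X ⟶ Y => RHomMap g (DTen.unit A)) := by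
  obtain ⟨η, hnat, hiso⟩ := exists_eta_perf (A := A)
  exact bijective_RHomMap_gen (DTen.unit A) η hnat X Y (hiso X hX) (hiso Y hY)
    (hiso _ (isPerfect_dual X hX))

/-- maps from the dual of a perfect `K` to shifts of `A` compute the cohomology of `K`. -/
theorem nonempty_hom_dual_equiv_perf (K : Dual.D A) (hK : IsPerfect A K) (j : ℤ) :
    Nonempty (((RHomR A K).obj (DTen.unit A) ⟶ (DTen.unit A)⟦j⟧) ≃ₗ[A] Dual.HD A K j) := by
  obtain ⟨e1⟩ := Groth.Agent.H4.DZ2.nonempty_extLinEquiv ((RHomR A K).obj (DTen.unit A))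
    (DTen.unit A) j
  obtain ⟨e2⟩ := Groth.Agent.H4.KI8.nonempty_bidual_iso K hK
  exact ⟨e1.symm.trans ((homologyFunctor (ModuleCat.{u} A) j).mapIso e2.symm).toLinearEquiv⟩

end Perf


section main

variable {A : Type u} [CommRing A] {B : Type u} [CommRing B] [Algebra A B]
  (R : Dual.D A ⥤ Dual.D B) (adj : Res A B ⊣ R)

include adj in
/-- **`B → End(R A)` is bijective for `B` perfect over `A`.** -/
theorem bijective_toEnd_perf (hN : IsPerfect A (NB A B)) :
    Function.Bijective (fun b : B => b • 𝟙 (R.obj (DTen.unit A))) := by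
  have hU : IsPerfect A (DTen.unit A) := isPerfect_unit
  let ω := DTen.unit A
  let uω : (RHomR A (DTen.unit A)).obj ω ≅ ω := (Groth.Agent.H4.KI8.RHomRUnitIso (A := A)).app ω
  let ρ := (rho R adj).app ω
  -- the chain of bijections
  let Φ : B → (R.obj ω ⟶ R.obj ω) := fun b =>
    (homAddEquiv R adj (R.obj ω) ω).symm (ρ.hom ≫ RHomMap (psi5 (A := A) b) ω ≫ uω.hom)
  have hΦ : Function.Bijective Φ := by
    have b4 := bijective_RHomMap_perf (DTen.unit A) (NB A B) hU hN
    have b3 : Function.Bijective (fun h : (RHomR A (NB A B)).obj ω ⟶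
        (RHomR A (DTen.unit A)).obj ω => ρ.hom ≫ h ≫ uω.hom) := by
      constructor
      · intro h h' e
        have e' : ρ.hom ≫ h ≫ uω.hom = ρ.hom ≫ h' ≫ uω.hom := e
        rwa [cancel_epi, cancel_mono] at e'
      · intro k
        refine ⟨ρ.inv ≫ k ≫ uω.inv, ?_⟩
        change ρ.hom ≫ (ρ.inv ≫ k ≫ uω.inv) ≫ uω.hom = k
        rw [assoc, assoc, Iso.inv_hom_id, comp_id, Iso.hom_inv_id_assoc]
    exact (homAddEquiv R adj (R.obj ω) ω).symm.bijective.comp
      (b3.comp (b4.comp bijective_psi5))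
  have hmul : ∀ b b' : B, Φ (b * b') = b • Φ b' := by
    intro b b'
    apply (homAddEquiv R adj (R.obj ω) ω).injective
    have h1 : b • Φ b' = (b • 𝟙 (R.obj ω)) ≫ Φ b' := by rw [Linear.smul_comp, id_comp]
    rw [h1, homAddEquiv_naturality]
    dsimp only [Φ]
    rw [AddEquiv.apply_symm_apply, AddEquiv.apply_symm_apply, psi5_mul, RHomMap_comp, assoc]
    have h2 : (Res A B).map (b • 𝟙 (R.obj ω)) ≫ ρ.hom = ρ.hom ≫ RHomMap (muN (A := A) b) ω :=
      rho_equivariant R adj b ω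
    rw [← assoc, ← h2, assoc]
  refine bijective_toEnd_of_free (R.obj ω) (Φ 1) ?_
  have : (fun b : B => b • Φ 1) = Φ := by
    funext b
    rw [← hmul, mul_one]
  rw [this]
  exact hΦ

include adj in
/-- **`R A` has no self-maps of nonzero degree, for `B` perfect over `A`.** -/
theorem subsingleton_ext_self_perf (hN : IsPerfect A (NB A B)) (n : ℤ) (hn : n ≠ 0) :
    Subsingleton (R.obj (DTen.unit A) ⟶ (R.obj (DTen.unit A))⟦n⟧) := by
  let ω := DTen.unit A
  obtain ⟨e⟩ := nonempty_hom_dual_equiv_perf (NB A B) hN n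
  let ρ := (rho R adj).app ω
  haveI : Subsingleton (Dual.HD A (NB A B) n) := by
    haveI := Groth.Agent.H4.DZ4.subsingleton_HD_inD (A := A) B n hn
    exact ((homologyFunctor (ModuleCat.{u} A) n).mapIso (jB A B)).toLinearEquiv.symm.subsingleton
  haveI : Subsingleton ((RHomR A (NB A B)).obj ω ⟶ ω⟦n⟧) := e.subsingleton
  haveI : Subsingleton ((Res A B).obj (R.obj ω) ⟶ ω⟦n⟧) :=
    (Groth.Agent.H4.DZ2.isoHomLinEquiv ρ (ω⟦n⟧)).subsingleton
  exact (shiftExtAddEquiv R adj (R.obj ω) ω n).subsingleton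

include adj in
/-- `R(A)|_A` is perfect over `A`, for `B` perfect over `A`. -/
theorem isPerfect_res_R_unit (hN : IsPerfect A (NB A B)) :
    IsPerfect A ((Res A B).obj (R.obj (DTen.unit A))) :=
  Groth.Agent.H4.DRing1.isPerfect_of_iso ((rho R adj).app (DTen.unit A)).symm
    (isPerfect_dual (NB A B) hN)

end main


section transfer

variable {A : Type u} [CommRing A]

lemma toEnd_bijective_of_iso {X Y : Dual.D A} (e : X ≅ Y)
    (h : Function.Bijective (fun a : A => a • 𝟙 X)) :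
    Function.Bijective (fun a : A => a • 𝟙 Y) := by
  have hf : (fun a : A => a • 𝟙 Y) = ⇑(e.homCongr e) ∘ (fun a : A => a • 𝟙 X) := by
    funext a
    simp [Iso.homCongr]
  rw [hf]
  exact (Equiv.bijective _).comp h

lemma toEnd_bijective_shift (X : Dual.D A) (n : ℤ)
    (h : Function.Bijective (fun a : A => a • 𝟙 X)) :
    Function.Bijective (fun a : A => a • 𝟙 (X⟦n⟧)) := by
  have hbij := (Functor.FullyFaithful.ofFullyFaithful
    (shiftFunctor (Dual.D A) n)).map_bijective X X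
  have : (fun a : A => a • 𝟙 (X⟦n⟧)) =
      (fun f : X ⟶ X => (shiftFunctor (Dual.D A) n).map f) ∘ (fun a : A => a • 𝟙 X) := by
    funext a
    change _ = (shiftFunctor (Dual.D A) n).map (a • 𝟙 X)
    rw [Functor.map_smul, CategoryTheory.Functor.map_id]
  rw [this]
  exact hbij.comp h

lemma ext_self_of_iso {X Y : Dual.D A} (e : X ≅ Y) (i : ℤ) (h : Subsingleton (X ⟶ X⟦i⟧)) :
    Subsingleton (Y ⟶ Y⟦i⟧) :=
  (e.homCongr ((shiftFunctor (Dual.D A) i).mapIso e)).symm.subsingleton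

lemma ext_self_shift (X : Dual.D A) (n i : ℤ) (h : Subsingleton (X ⟶ X⟦i⟧)) :
    Subsingleton (X⟦n⟧ ⟶ (X⟦n⟧)⟦i⟧) := by
  let e1 : (X⟦n⟧ ⟶ (X⟦n⟧)⟦i⟧) ≃ₗ[A] (X⟦n⟧ ⟶ (X⟦i⟧)⟦n⟧) :=
    Groth.Agent.H4.DZ2.homIsoLinEquiv _ (shiftComm X n i)
  exact (e1.trans (Groth.Agent.H4.US13.shiftShiftHomLinEquiv X (X⟦i⟧) n)).toEquiv.subsingleton

end transfer

section flatres

variable {R P : Type u} [CommRing R] [CommRing P] [Algebra R P] [Module.Flat R P]

/-- restriction along a flat ring map preserves finite tor dimension. -/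
lemma finTorDim_res_of_flat (K : Dual.D P) (h : HasFiniteTorDimCx P K) :
    HasFiniteTorDimCx R ((DRing.restrictD (algebraMap R P)).obj K) := by
  obtain ⟨a, b, E, hz, hfl, ⟨e⟩⟩ := h
  refine ⟨a, b, ((ModuleCat.restrictScalars.{u} (algebraMap R P)).mapHomologicalComplex
    (ComplexShape.up ℤ)).obj E, ?_, ?_, ⟨?_⟩⟩
  · intro i hi
    exact (ModuleCat.restrictScalars.{u} (algebraMap R P)).map_isZero (hz i hi)
  · intro i
    haveI := hfl i
    exact Groth.Agent.H4.BCSq.flat_restrictScalars (R := R) (A := P) (E.X i)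
  · exact ((ModuleCat.restrictScalars.{u} (algebraMap R P)).mapDerivedCategoryFactors.app E).symm ≪≫
      (DRing.restrictD (algebraMap R P)).mapIso e

end flatres


section S1801

variable (R A : Type u) [CommRing R] [CommRing A] [IsNoetherianRing R] [IsNoetherianRing A]
  [Algebra R A] [Module.Flat R A] (n : ℕ) (ψ : MvPolynomial (Fin n) R →ₐ[R] A)
  (hψ : Function.Surjective ψ)
  (Rψ : Dual.D (MvPolynomial (Fin n) R) ⥤ Dual.D A) (adj : DRing.restrictD ψ.toRingHom ⊣ Rψ)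

/-- `φ^!(R) ≅ RHom_P(A, P)[n]`. -/
theorem nonempty_omega_iso [DRing.HasLBaseChange (algebraMap R (MvPolynomial (Fin n) R))] :
    Nonempty (Dual2.shriekVia n Rψ (Dual.inD R R) ≅
      (Rψ.obj (DTen.unit (MvPolynomial (Fin n) R)))⟦(n : ℤ)⟧) := by
  obtain ⟨e⟩ := Groth.Agent.H4.RD2.nonempty_LBC_unit_iso (algebraMap R (MvPolynomial (Fin n) R))
  exact ⟨(shiftFunctor _ (n : ℤ)).mapIso (Rψ.mapIso e)⟩

include hψ in
lemma isPerfect_NB :
    letI : Algebra (MvPolynomial (Fin n) R) A := ψ.toRingHom.toAlgebra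
    IsPerfect (MvPolynomial (Fin n) R) (NB (MvPolynomial (Fin n) R) A) := by
  letI : Algebra (MvPolynomial (Fin n) R) A := ψ.toRingHom.toAlgebra
  exact Groth.Agent.H4.DRing1.isPerfect_of_iso (jB (MvPolynomial (Fin n) R) A)
    (Groth.Agent.H4.RD2.isPerfectModule_of_flat R A n ψ hψ)

include hψ adj in
theorem S1801_c [DRing.HasLBaseChange (algebraMap R (MvPolynomial (Fin n) R))] :
    Function.Bijective (fun a : A => a • 𝟙 (Dual2.shriekVia n Rψ (Dual.inD R R))) ∧
      ∀ i : ℤ, i ≠ 0 → Subsingleton (Dual2.shriekVia n Rψ (Dual.inD R R) ⟶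
        (Dual2.shriekVia n Rψ (Dual.inD R R))⟦i⟧) := by
  letI : Algebra (MvPolynomial (Fin n) R) A := ψ.toRingHom.toAlgebra
  have hN := isPerfect_NB R A n ψ hψ
  obtain ⟨e⟩ := nonempty_omega_iso R A n Rψ
  constructor
  · exact toEnd_bijective_of_iso e.symm
      (toEnd_bijective_shift _ _ (bijective_toEnd_perf Rψ adj hN))
  · intro i hi
    exact ext_self_of_iso e.symm i
      (ext_self_shift _ _ i (subsingleton_ext_self_perf Rψ adj hN i hi))

include hψ adj in
theorem S1801_res_perfect :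
    IsPerfect (MvPolynomial (Fin n) R) ((DRing.restrictD ψ.toRingHom).obj
      (Rψ.obj (DTen.unit (MvPolynomial (Fin n) R)))) := by
  letI : Algebra (MvPolynomial (Fin n) R) A := ψ.toRingHom.toAlgebra
  exact isPerfect_res_R_unit Rψ adj (isPerfect_NB R A n ψ hψ)

end S1801


section S1801ab

variable (R A : Type u) [CommRing R] [CommRing A] [IsNoetherianRing R] [IsNoetherianRing A]
  [Algebra R A] [Module.Flat R A] (n : ℕ) (ψ : MvPolynomial (Fin n) R →ₐ[R] A)
  (hψ : Function.Surjective ψ)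
  (Rψ : Dual.D (MvPolynomial (Fin n) R) ⥤ Dual.D A) (adj : DRing.restrictD ψ.toRingHom ⊣ Rψ)

include hψ adj in
theorem S1801_a [DRing.HasLBaseChange (algebraMap R (MvPolynomial (Fin n) R))] :
    ∃ a b : ℤ, ∀ i : ℤ, (i < a ∨ b < i) →
      Subsingleton (Dual.HD A (Dual2.shriekVia n Rψ (Dual.inD R R)) i) := by
  obtain ⟨a, b, hab⟩ := Groth.Agent.H4.Perf.hasTorAmp_of_isPerfect
    (S1801_res_perfect R A n ψ hψ Rψ adj)
  obtain ⟨e⟩ := nonempty_omega_iso R A n Rψ
  refine ⟨a - n, b - n, fun i hi => ?_⟩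
  have h1 : IsZero ((homologyFunctor (ModuleCat.{u} (MvPolynomial (Fin n) R)) ((n : ℤ) + i)).obj
      ((DRing.restrictD ψ.toRingHom).obj (Rψ.obj (DTen.unit (MvPolynomial (Fin n) R))))) :=
    Groth.Agent.H4.Perf.isZero_homology_of_hasTorAmp hab _ (by omega)
  have h2 : IsZero ((homologyFunctor (ModuleCat.{u} A) ((n : ℤ) + i)).obj
      (Rψ.obj (DTen.unit (MvPolynomial (Fin n) R)))) := by
    rw [← Groth.Agent.H4.RestrPC.isZero_restrictScalars_iff ψ.toRingHom]
    exact h1.of_iso (Groth.Agent.H4.DComp.restrictHomologyIso ψ.toRingHom _ _).symm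
  have h3 : IsZero ((homologyFunctor (ModuleCat.{u} A) i).obj
      ((Rψ.obj (DTen.unit (MvPolynomial (Fin n) R)))⟦(n : ℤ)⟧)) :=
    h2.of_iso (((homologyFunctor (ModuleCat.{u} A) 0).shiftIso (n : ℤ) i ((n : ℤ) + i) rfl).app _)
  exact ModuleCat.subsingleton_of_isZero
    (h3.of_iso ((homologyFunctor (ModuleCat.{u} A) i).mapIso e))

include hψ adj in
theorem S1801_b [DRing.HasLBaseChange (algebraMap R (MvPolynomial (Fin n) R))] :
    DRing.HasFiniteTorDimCx R ((DRing.restrictD (algebraMap R A)).obj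
      (Dual2.shriekVia n Rψ (Dual.inD R R))) := by
  obtain ⟨a, b, hab⟩ := Groth.Agent.H4.Perf.hasTorAmp_of_isPerfect
    (S1801_res_perfect R A n ψ hψ Rψ adj)
  obtain ⟨e⟩ := nonempty_omega_iso R A n Rψ
  have h1 : HasFiniteTorDimCx R ((DRing.restrictD (algebraMap R (MvPolynomial (Fin n) R))).obj
      ((DRing.restrictD ψ.toRingHom).obj (Rψ.obj (DTen.unit (MvPolynomial (Fin n) R))))) :=
    finTorDim_res_of_flat _ ⟨a, b, hab⟩
  have hcomp : algebraMap R A = ψ.toRingHom.comp (algebraMap R (MvPolynomial (Fin n) R)) := by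
    ext r
    exact (ψ.commutes r).symm
  let i1 := Groth.Agent.H4.RD.restrictDCompIso (algebraMap R (MvPolynomial (Fin n) R))
    ψ.toRingHom (algebraMap R A) hcomp
  have h2 : HasFiniteTorDimCx R ((DRing.restrictD (algebraMap R A)).obj
      (Rψ.obj (DTen.unit (MvPolynomial (Fin n) R)))) :=
    Groth.Agent.H4.RelPerf.finTorDim_of_iso (i1.app _).symm h1
  have h3 := Groth.Agent.H4.RelPerf.finTorDim_shift h2 (n : ℤ)
  exact Groth.Agent.H4.RelPerf.finTorDim_of_iso
    ((((DRing.restrictD (algebraMap R A)).commShiftIso (n : ℤ)).app _).symm ≪≫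
      (DRing.restrictD (algebraMap R A)).mapIso e.symm) h3

end S1801ab


section S1801d

variable (R A : Type u) [CommRing R] [CommRing A] [IsNoetherianRing R] [IsNoetherianRing A]
  [Algebra R A] [Module.Flat R A] (n : ℕ) (ψ : MvPolynomial (Fin n) R →ₐ[R] A)
  (hψ : Function.Surjective ψ)
  (Rψ : Dual.D (MvPolynomial (Fin n) R) ⥤ Dual.D A) (adj : DRing.restrictD ψ.toRingHom ⊣ Rψ)

attribute [local instance] Algebra.TensorProduct.rightAlgebra

include hψ adj in
theorem S1801_d [DRing.HasLBaseChange (algebraMap R (MvPolynomial (Fin n) R))]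
    (k : Type u) [Field k] [Algebra R k]
    [DRing.HasLBaseChange (Algebra.TensorProduct.includeRight : A →ₐ[R] k ⊗[R] A).toRingHom] :
    Dual.IsDualizing (k ⊗[R] A) ((DRing.LBaseChange
      (Algebra.TensorProduct.includeRight : A →ₐ[R] k ⊗[R] A).toRingHom).obj
        (Dual2.shriekVia n Rψ (Dual.inD R R))) := by
  haveI : Algebra.FiniteType R A := Algebra.FiniteType.of_surjective ψ hψ
  haveI : Algebra.FiniteType k (k ⊗[R] A) := inferInstance
  haveI : IsNoetherianRing (k ⊗[R] A) := Algebra.FiniteType.isNoetherianRing k (k ⊗[R] A)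
  let ψ₁ := Groth.Agent.H4.FR3.psiBC R k A n ψ
  have hψ₁ := Groth.Agent.H4.FR3.psiBC_surjective R k A n ψ hψ
  let Rψ₁ := Groth.Agent.H4.RAdj.R₀ ψ₁.toRingHom
  let adj₁ : DRing.restrictD ψ₁.toRingHom ⊣ Rψ₁ := Groth.Agent.H4.RAdj.adjR₀ ψ₁.toRingHom
  obtain ⟨e⟩ := Groth.Agent.H4.FR7.S1807 R k A n ψ hψ Rψ adj n ψ₁ hψ₁ Rψ₁ adj₁ (Dual.inD R R)
  obtain ⟨e1⟩ := Groth.Agent.H4.RD2.nonempty_LBC_unit_iso (algebraMap R k)
  have e2 : (DRing.LBaseChange (algebraMap R k)).obj (Dual.inD R R) ≅ Dual.inD k k :=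
    e1 ≪≫ Groth.Agent.H4.KI8.inDUnitIso.symm
  have h1 := Groth.Agent.H4.US21.S1782 k (k ⊗[R] A) n ψ₁ hψ₁ Rψ₁ adj₁ (Dual.inD k k)
    (Groth.Agent.H4.GF4.isDualizing_unit_field k)
  exact Groth.Agent.H4.FB3.isDualizing_of_iso
    ((shiftFunctor _ (n : ℤ)).mapIso (Rψ₁.mapIso ((DRing.LBaseChange
      (algebraMap k (MvPolynomial (Fin n) k))).mapIso e2.symm)) ≪≫ e.symm) h1

end S1801d


section S1801main

variable (R A : Type u) [CommRing R] [CommRing A] [IsNoetherianRing R] [IsNoetherianRing A]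
  [Algebra R A] [Module.Flat R A] (n : ℕ) (ψ : MvPolynomial (Fin n) R →ₐ[R] A)
  (hψ : Function.Surjective ψ)
  (Rψ : Dual.D (MvPolynomial (Fin n) R) ⥤ Dual.D A) (adj : DRing.restrictD ψ.toRingHom ⊣ Rψ)

include hψ adj in
theorem S1801_fin [DRing.HasLBaseChange (algebraMap R (MvPolynomial (Fin n) R))] (i : ℤ) :
    Module.Finite A (Dual.HD A (Dual2.shriekVia n Rψ (Dual.inD R R)) i) := by
  refine (Groth.Agent.H4.US21.S1783 R A n ψ hψ Rψ adj (Dual.inD R R) 0 ?_).2 ?_ i
  · intro j hj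
    exact Groth.Agent.H4.DZ4.subsingleton_HD_inD (A := R) R j (by omega)
  · intro j
    exact Groth.Agent.H4.DZ4.finite_HD_inD (A := R) R j

end S1801main

end Groth.Agent.H4.FR8
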