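import Mathlib
import Groth.Agent.H4.FR8
import Groth.Agent.H4.US17
import Groth.Agent.H4.FibPerf
import Groth.Agent.H4.GF3

set_option autoImplicit false
universe u
open CategoryTheory Category Limits Pretriangulated TensorProduct

namespace Groth.Agent.H4.FR10

attribute [local instance] HasDerivedCategory.standard
attribute [local instance] Groth.Agent.H4.KProj.hasLBaseChange

open DRing DerivedCategory Groth.Agent.H4.FB2 Groth.Agent.H4.US17

section general

variable {A B : Type u} [CommRing A] [CommRing B]

/-- derived base change of a shifted unit. -/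
theorem nonempty_LBC_unitShift (φ : A →+* B) (m : ℤ) :
    Nonempty ((DRing.LBaseChange φ).obj ((Dual.inD A A)⟦m⟧) ≅ (Dual.inD B B)⟦m⟧) := by
  letI := (Groth.Agent.H4.KProj.adjLBaseChange φ).leftAdjointCommShift ℤ
  obtain ⟨e⟩ := Groth.Agent.H4.RD2.nonempty_LBC_unit_iso φ
  exact ⟨((DRing.LBaseChange φ).commShiftIso m).app _ ≪≫
    (shiftFunctor _ m).mapIso (e ≪≫ Groth.Agent.H4.KI8.inDUnitIso.symm)⟩

/-- an object with a single cohomology module, free of rank one, is a shift of the unit. -/
theorem nonempty_iso_unitShift (X : Dual.D A) (m : ℤ)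
    (hvan : ∀ i : ℤ, i ≠ m → Subsingleton (Dual.HD A X i))
    (em : Dual.HD A X m ≃ₗ[A] A) : Nonempty (X ≅ (Dual.inD A A)⟦-m⟧) := by
  haveI : X.IsGE m := by
    rw [isGE_iff]
    intro i hi
    haveI := hvan i (by omega)
    exact ModuleCat.isZero_of_subsingleton _
  haveI : X.IsLE m := by
    rw [isLE_iff]
    intro i hi
    haveI := hvan i (by omega)
    exact ModuleCat.isZero_of_subsingleton _
  obtain ⟨W, ⟨eW⟩⟩ := exists_iso_singleFunctor_obj_of_isGE_of_isLE X m
  let e1 : W ≅ ModuleCat.of A A :=
    ((singleFunctorCompHomologyFunctorIso (ModuleCat.{u} A) m).app W).symm ≪≫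
      (homologyFunctor (ModuleCat.{u} A) m).mapIso eW.symm ≪≫ em.toModuleIso
  exact ⟨eW ≪≫ (singleFunctor (ModuleCat.{u} A) m).mapIso e1 ≪≫
    (((singleFunctors (ModuleCat.{u} A)).shiftIso (-m) m 0 (by ring)).app
      (ModuleCat.of A A)).symm⟩

/-- the cohomology of a shift of the unit. -/
theorem HD_of_iso_unitShift (X : Dual.D A) (m : ℤ) (e : X ≅ (Dual.inD A A)⟦-m⟧) :
    (∀ i : ℤ, i ≠ m → Subsingleton (Dual.HD A X i)) ∧ Nonempty (Dual.HD A X m ≃ₗ[A] A) := by
  have he : ∀ i : ℤ, Nonempty (Dual.HD A X i ≃ₗ[A] Dual.HD A (Dual.inD A A) (-m + i)) := fun i =>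
    ⟨((homologyFunctor (ModuleCat.{u} A) i).mapIso e).toLinearEquiv.trans
      (HDShiftEquiv (Dual.inD A A) (-m) i (-m + i) rfl)⟩
  refine ⟨fun i hi => ?_, ?_⟩
  · obtain ⟨e'⟩ := he i
    haveI := subsingleton_HD_unit (A := A) (-m + i) (by omega)
    exact e'.subsingleton
  · obtain ⟨e'⟩ := he m
    have h0 : -m + m = 0 := by ring
    rw [h0] at e'
    exact ⟨e'.trans HDUnitEquiv⟩

end general


section G1

variable {A B : Type u} [CommRing A] [CommRing B]

/-- if `ω` is locally a shift of the structure sheaf and its base change to `B` is dualizing,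
then `B` is Gorenstein. -/
theorem isGorensteinRing_of_invertible (φ : A →+* B) (ω : Dual.D A)
    (hB : Dual.IsDualizing B ((DRing.LBaseChange φ).obj ω))
    (hinv : ∀ q : PrimeSpectrum A, ∃ (f : A) (_ : f ∉ q.asIdeal) (m : ℤ),
      Nonempty ((DRing.LBaseChange (algebraMap A (Localization.Away f))).obj ω ≅
        (Dual.inD (Localization.Away f) (Localization.Away f))⟦m⟧)) :
    LocCoh.IsGorensteinRing B := by
  haveI := hB.isNoetherianRing
  refine { toIsNoetherian := inferInstance, isGorensteinLocalRing_localization := fun q' _ => ?_ }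
  obtain ⟨f, hf, m, ⟨e⟩⟩ := hinv ⟨q'.comap φ, inferInstance⟩
  have hg : φ f ∉ q' := hf
  have hunit : IsUnit (((algebraMap B (Localization.AtPrime q')).comp φ) f) :=
    IsLocalization.map_units (Localization.AtPrime q') (⟨φ f, hg⟩ : q'.primeCompl)
  let ρ : Localization.Away f →+* Localization.AtPrime q' := IsLocalization.Away.lift f hunit
  have hρ : ρ.comp (algebraMap A (Localization.Away f)) =
      (algebraMap B (Localization.AtPrime q')).comp φ := IsLocalization.Away.lift_comp f hunit
  haveI : IsNoetherianRing (Localization.AtPrime q') :=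
    IsLocalization.isNoetherianRing q'.primeCompl _ inferInstance
  have hE := Groth.Agent.H4.FB3.S1775 (A := B) q'.primeCompl _ hB
  obtain ⟨e1⟩ := Groth.Agent.H4.FibPerf.nonempty_LBCComp φ
    (algebraMap B (Localization.AtPrime q')) ω
  obtain ⟨e2⟩ := Groth.Agent.H4.FibPerf.nonempty_LBC_congr hρ.symm ω
  obtain ⟨e3⟩ := Groth.Agent.H4.FibPerf.nonempty_LBCComp
    (algebraMap A (Localization.Away f)) ρ ω
  obtain ⟨e4⟩ := nonempty_LBC_unitShift ρ m
  have e5 : (DRing.LBaseChange (algebraMap B (Localization q'.primeCompl))).obj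
      ((DRing.LBaseChange φ).obj ω) ≅
      (Dual.inD (Localization.AtPrime q') (Localization.AtPrime q'))⟦m⟧ :=
    e1 ≪≫ e2 ≪≫ e3.symm ≪≫ (DRing.LBaseChange ρ).mapIso e ≪≫ e4
  have h1 := Groth.Agent.H4.US13.isDualizing_shift _
    (Groth.Agent.H4.FB3.isDualizing_of_iso e5 hE) (-m)
  exact Groth.Agent.H4.US17.gorenstein_of_isDualizing_unit
    (Groth.Agent.H4.FB3.isDualizing_of_iso
      (shiftShiftNeg (Dual.inD (Localization.AtPrime q') (Localization.AtPrime q')) m) h1)

end G1


section LOC

open Groth.Agent.H4.LDer Groth.Agent.H4.PC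

variable {S : Type u} [CommRing S] [IsLocalRing S] [IsNoetherianRing S]
  {k' : Type u} [Field k'] (σ : S →+* k') [IsLocalHom σ]

/-- the fibre over the residue field from the fibre over a field extension. -/
theorem isZero_fibre_of_ext (K : Dual.D S) (i : ℤ)
    (h : IsZero ((homologyFunctor (ModuleCat.{u} k') i).obj ((DRing.LBaseChange σ).obj K))) :
    IsZero ((homologyFunctor (ModuleCat.{u} (IsLocalRing.ResidueField S)) i).obj
      ((DRing.LBaseChange (IsLocalRing.residue S)).obj K)) := by
  let σ' : IsLocalRing.ResidueField S →+* k' := IsLocalRing.ResidueField.lift σ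
  have hσ : σ'.comp (IsLocalRing.residue S) = σ := IsLocalRing.ResidueField.lift_comp_residue σ
  letI : Algebra (IsLocalRing.ResidueField S) k' := σ'.toAlgebra
  let X := (DRing.LBaseChange (IsLocalRing.residue S)).obj K
  obtain ⟨e1⟩ := Groth.Agent.H4.FibPerf.nonempty_LBCComp (IsLocalRing.residue S) σ' K
  obtain ⟨e2⟩ := Groth.Agent.H4.FibPerf.nonempty_LBC_congr hσ K
  have e3 : (DRing.LBaseChange (algebraMap (IsLocalRing.ResidueField S) k')).obj X ≅
      (E (IsLocalRing.ResidueField S) k').obj X := LBCIso X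
  have h1 : IsZero ((homologyFunctor (ModuleCat.{u} k') i).obj
      ((E (IsLocalRing.ResidueField S) k').obj X)) :=
    h.of_iso ((homologyFunctor (ModuleCat.{u} k') i).mapIso (e3.symm ≪≫ e1 ≪≫ e2))
  have h2 := h1.of_iso (homologyEIso (B := k') X i).symm
  haveI := ModuleCat.subsingleton_of_isZero h2
  haveI : Subsingleton (k' ⊗[IsLocalRing.ResidueField S]
      ((homologyFunctor (ModuleCat.{u} (IsLocalRing.ResidueField S)) i).obj X)) :=
    (Groth.Agent.H8.ExtBridge.extEquiv (A := IsLocalRing.ResidueField S) (B := k')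
      ((homologyFunctor (ModuleCat.{u} (IsLocalRing.ResidueField S)) i).obj X)).symm.subsingleton
  haveI : Subsingleton ((homologyFunctor (ModuleCat.{u} (IsLocalRing.ResidueField S)) i).obj X) :=
    (Module.FaithfullyFlat.subsingleton_tensorProduct_iff_right
      (IsLocalRing.ResidueField S) k').1 inferInstance
  exact ModuleCat.isZero_of_subsingleton _

end LOC


section LOC2

open Groth.Agent.H4.LDer Groth.Agent.H4.PC

variable {S : Type u} [CommRing S] [IsLocalRing S] [IsNoetherianRing S]
  {k' : Type u} [Field k'] (σ : S →+* k') [IsLocalHom σ]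

/-- an object concentrated in one degree with flat cohomology. -/
theorem exists_single_of_torAmp (K : Dual.D S) (m : ℤ) (h : HasTorAmplitudeIn S m m K) :
    ∃ M₀ : ModuleCat.{u} S, Module.Flat S M₀ ∧
      Nonempty (toD ((HomologicalComplex.single (ModuleCat.{u} S) (ComplexShape.up ℤ) m).obj M₀)
        ≅ K) := by
  obtain ⟨E, hz, hfl, ⟨eE⟩⟩ := h
  haveI : E.IsStrictlyGE m := by
    rw [CochainComplex.isStrictlyGE_iff]
    intro i hi
    exact hz i (Or.inl hi)
  haveI : E.IsStrictlyLE m := by
    rw [CochainComplex.isStrictlyLE_iff]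
    intro i hi
    exact hz i (Or.inr hi)
  obtain ⟨M₀, ⟨e⟩⟩ := CochainComplex.exists_iso_single E m
  have eM : E.X m ≅ M₀ := (HomologicalComplex.eval _ _ m).mapIso e ≪≫
    HomologicalComplex.singleObjXSelf (ComplexShape.up ℤ) m M₀
  haveI := hfl m
  exact ⟨M₀, Module.Flat.of_linearEquiv eM.toLinearEquiv.symm, ⟨(Q.mapIso e).symm ≪≫ eE⟩⟩

end LOC2


section LOC3

open Groth.Agent.H4.LDer Groth.Agent.H4.PC

variable {S : Type u} [CommRing S] [IsLocalRing S] [IsNoetherianRing S]
  {k' : Type u} [Field k'] (σ : S →+* k') [IsLocalHom σ]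

lemma isKProjective_single (M₀ : ModuleCat.{u} S) [Module.Projective S M₀] (m : ℤ) :
    CochainComplex.IsKProjective
      ((HomologicalComplex.single (ModuleCat.{u} S) (ComplexShape.up ℤ) m).obj M₀ : Cx S) := by
  refine Groth.Agent.H4.DRing1.isKProjective_of_vanishesAbove_projective _ m ?_ ?_
  · intro i hi
    exact HomologicalComplex.isZero_single_obj_X (ComplexShape.up ℤ) m M₀ i (by omega)
  · intro i
    by_cases hi : i = m
    · subst hi
      exact Module.Projective.of_equiv
        (HomologicalComplex.singleObjXSelf (ComplexShape.up ℤ) i M₀).toLinearEquiv.symm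
    · haveI := ModuleCat.subsingleton_of_isZero
        (HomologicalComplex.isZero_single_obj_X (ComplexShape.up ℤ) m M₀ i hi)
      infer_instance

/-- **local structure**: a pseudo-coherent object over a Noetherian local ring whose fibre over a
field is a shift of that field is a shift of the ring. -/
theorem local_structure (K : Dual.D S) (hPC : IsPseudoCoherent' S K)
    (hfin : ∀ i, Module.Finite S (Dual.HD S K i)) (m : ℤ)
    (e : (DRing.LBaseChange σ).obj K ≅ (Dual.inD k' k')⟦-m⟧) :
    (∀ i : ℤ, i ≠ m → Subsingleton (Dual.HD S K i)) ∧ Nonempty (Dual.HD S K m ≃ₗ[S] S) := by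
  obtain ⟨hvan, ⟨em⟩⟩ := HD_of_iso_unitShift _ m e
  -- tor amplitude
  have htor : HasTorAmplitudeIn S m m K := by
    refine (Groth.Agent.H4.FibPerf.isPerfect_of_fibres S K hPC m m ?_).2
    intro 𝔪 hm i hi
    obtain rfl := IsLocalRing.eq_maximalIdeal hm
    refine isZero_fibre_of_ext σ K i ?_
    haveI := hvan i (by omega)
    exact ModuleCat.isZero_of_subsingleton _
  refine ⟨fun i hi => ModuleCat.subsingleton_of_isZero
    (Groth.Agent.H4.Perf.isZero_homology_of_hasTorAmp htor i (by omega)), ?_⟩
  obtain ⟨M₀, hfl, ⟨eK⟩⟩ := exists_single_of_torAmp K m htor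
  let P : Cx S := (HomologicalComplex.single (ModuleCat.{u} S) (ComplexShape.up ℤ) m).obj M₀
  have eH : (homologyFunctor (ModuleCat.{u} S) m).obj K ≅ M₀ :=
    (homologyFunctor (ModuleCat.{u} S) m).mapIso eK.symm ≪≫ homologyToDIso P m ≪≫
      HomologicalComplex.singleObjHomologySelfIso (ComplexShape.up ℤ) m M₀
  haveI : Module.Finite S M₀ := by
    haveI := hfin m
    exact Module.Finite.equiv eH.toLinearEquiv
  haveI : Module.Free S M₀ := Module.free_of_flat_of_isLocalRing
  haveI : CochainComplex.IsKProjective P := isKProjective_single M₀ m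
  have e1 : (DRing.LBaseChange σ).obj K ≅
      Q.obj ((GC (ModuleCat.extendScalars.{u, u, u} σ)).obj P) :=
    isoOfIso (ModuleCat.extendScalars.{u, u, u} σ) P eK
  have e2 : (GC (ModuleCat.extendScalars.{u, u, u} σ)).obj P ≅
      (HomologicalComplex.single (ModuleCat.{u} k') (ComplexShape.up ℤ) m).obj
        ((ModuleCat.extendScalars.{u, u, u} σ).obj M₀) :=
    (HomologicalComplex.singleMapHomologicalComplex (ModuleCat.extendScalars.{u, u, u} σ)
      (ComplexShape.up ℤ) m).app M₀
  have e3 : (homologyFunctor (ModuleCat.{u} k') m).obj ((DRing.LBaseChange σ).obj K) ≅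
      (ModuleCat.extendScalars.{u, u, u} σ).obj M₀ :=
    (homologyFunctor (ModuleCat.{u} k') m).mapIso (e1 ≪≫ Q.mapIso e2) ≪≫ homologyToDIso _ m ≪≫
      HomologicalComplex.singleObjHomologySelfIso (ComplexShape.up ℤ) m _
  letI : Algebra S k' := σ.toAlgebra
  have e4 : (k' ⊗[S] M₀) ≃ₗ[k'] k' :=
    (Groth.Agent.H4.ExtS.extEquiv σ M₀).symm.trans (e3.toLinearEquiv.symm.trans em)
  have hr : Module.finrank S M₀ = 1 := by
    rw [← Module.finrank_baseChange (R := k') (S := S) (M' := M₀), e4.finrank_eq,
      Module.finrank_self]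
  exact ⟨eH.toLinearEquiv.trans ((Module.finBasisOfFinrankEq S M₀ hr).equivFun.trans
    (LinearEquiv.funUnique (Fin 1) S S))⟩

end LOC3


section SO

variable {A : Type u} [CommRing A] [IsNoetherianRing A]

lemma subsingleton_tensor_of_smul_eq_zero (f : A) (N : Type u) [AddCommGroup N] [Module A N]
    (hN : ∀ x : N, f • x = 0) : Subsingleton (Localization.Away f ⊗[A] N) := by
  refine ⟨fun x y => ?_⟩
  have h0 : ∀ z : Localization.Away f ⊗[A] N, z = 0 := by
    intro z
    induction z using TensorProduct.induction_on with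
    | zero => rfl
    | tmul x n =>
      obtain ⟨u, hu⟩ := (IsLocalization.Away.algebraMap_isUnit (S := Localization.Away f) f)
      have h1 : x = f • (x * ↑u⁻¹) := by
        rw [Algebra.smul_def, ← hu, mul_comm, mul_assoc, Units.inv_mul, mul_one]
      rw [h1, TensorProduct.smul_tmul, hN, TensorProduct.tmul_zero]
    | add x y hx hy => rw [hx, hy, add_zero]
  rw [h0 x, h0 y]

/-- the cohomology of the localization at an element. -/
noncomputable def HDAwayEquiv (f : A) (K : Dual.D A) (i : ℤ) :
    Dual.HD (Localization.Away f) ((E A (Localization.Away f)).obj K) i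
      ≃ₗ[Localization.Away f] Localization.Away f ⊗[A] Dual.HD A K i :=
  (homologyEIso (B := Localization.Away f) K i).toLinearEquiv.trans
    (Groth.Agent.H8.ExtBridge.extEquiv (A := A) (B := Localization.Away f)
      ((homologyFunctor (ModuleCat.{u} A) i).obj K))

end SO


section SO2

variable {A : Type u} [CommRing A] [IsNoetherianRing A]

/-- a finite module free of rank one at a prime is free of rank one on a principal open
neighbourhood, and on every smaller principal open. -/
theorem exists_away_equiv (M : Type u) [AddCommGroup M] [Module A M] [Module.Finite A M]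
    (q : PrimeSpectrum A)
    (em : LocalizedModule q.asIdeal.primeCompl M ≃ₗ[Localization.AtPrime q.asIdeal]
      Localization.AtPrime q.asIdeal) :
    ∃ r : A, r ∉ q.asIdeal ∧ ∀ s : A,
      Nonempty ((Localization.Away (r * s) ⊗[A] M) ≃ₗ[Localization.Away (r * s)]
        Localization.Away (r * s)) := by
  haveI : Module.FinitePresentation A M := Module.finitePresentation_of_finite A M
  haveI : Module.Free (Localization.AtPrime q.asIdeal)
      (LocalizedModule q.asIdeal.primeCompl M) := Module.Free.of_equiv em.symm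
  obtain ⟨r, hr, hfree, hrank⟩ := Module.FinitePresentation.exists_free_localizedModule_powers
    q.asIdeal.primeCompl (LocalizedModule.mkLinearMap q.asIdeal.primeCompl M)
    (Localization.AtPrime q.asIdeal)
  refine ⟨r, hr, fun s => ?_⟩
  have h1 : Module.finrank (Localization (Submonoid.powers r)) (LocalizedModule.Away r M) = 1 := by
    rw [hrank, em.finrank_eq, Module.finrank_self]
  haveI : Nontrivial (Localization (Submonoid.powers r)) :=
    (show Localization (Submonoid.powers r) →+* Localization.AtPrime q.asIdeal from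
      IsLocalization.map (M := Submonoid.powers r) (T := q.asIdeal.primeCompl) _
        (RingHom.id _) (Submonoid.powers_le.mpr hr)).domain_nontrivial
  haveI : Module.Finite (Localization (Submonoid.powers r)) (LocalizedModule.Away r M) :=
    Module.Finite.of_isLocalizedModule (Submonoid.powers r)
      (LocalizedModule.mkLinearMap (Submonoid.powers r) M)
  let e1 : LocalizedModule.Away r M ≃ₗ[Localization (Submonoid.powers r)]
      Localization (Submonoid.powers r) :=
    (Module.finBasisOfFinrankEq _ _ h1).equivFun.trans (LinearEquiv.funUnique (Fin 1) _ _)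
  let e2 : (Localization (Submonoid.powers r) ⊗[A] M) ≃ₗ[Localization (Submonoid.powers r)]
      LocalizedModule.Away r M :=
    (IsLocalizedModule.isBaseChange (Submonoid.powers r) (Localization (Submonoid.powers r))
      (LocalizedModule.mkLinearMap (Submonoid.powers r) M)).equiv
  -- the algebra structure `A_r → A_{rs}`
  have hunit : IsUnit (algebraMap A (Localization.Away (r * s)) r) := by
    have h := IsLocalization.Away.algebraMap_isUnit (S := Localization.Away (r * s)) (r * s)
    rw [map_mul] at h
    exact isUnit_of_mul_isUnit_left h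
  letI : Algebra (Localization (Submonoid.powers r)) (Localization.Away (r * s)) :=
    (IsLocalization.Away.lift (S := Localization (Submonoid.powers r)) r hunit).toAlgebra
  haveI : IsScalarTower A (Localization (Submonoid.powers r)) (Localization.Away (r * s)) :=
    IsScalarTower.of_algebraMap_eq (fun x => (IsLocalization.Away.lift_eq r hunit x).symm)
  exact ⟨(TensorProduct.AlgebraTensorModule.cancelBaseChange A
      (Localization (Submonoid.powers r)) (Localization.Away (r * s))
      (Localization.Away (r * s)) M).symm.trans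
    ((TensorProduct.AlgebraTensorModule.congr
      (LinearEquiv.refl (Localization.Away (r * s)) (Localization.Away (r * s)))
      (e2.trans e1)).trans
      (TensorProduct.AlgebraTensorModule.rid (Localization (Submonoid.powers r))
        (Localization.Away (r * s)) (Localization.Away (r * s))))⟩

end SO2


section SO3

variable {A : Type u} [CommRing A] [IsNoetherianRing A]

/-- **spreading out**: an object with bounded finite cohomology which at a prime `q` has a single
cohomology module, free of rank one, is a shift of the structure sheaf on a principal open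
neighbourhood of `q`. -/
theorem spread_out (ω : Dual.D A) (a b : ℤ)
    (hab : ∀ i : ℤ, (i < a ∨ b < i) → Subsingleton (Dual.HD A ω i))
    (hfin : ∀ i, Module.Finite A (Dual.HD A ω i))
    (q : PrimeSpectrum A) (m : ℤ)
    (hvan : ∀ i : ℤ, i ≠ m →
      Subsingleton (LocalizedModule q.asIdeal.primeCompl (Dual.HD A ω i)))
    (em : LocalizedModule q.asIdeal.primeCompl (Dual.HD A ω m)
      ≃ₗ[Localization.AtPrime q.asIdeal] Localization.AtPrime q.asIdeal) :
    ∃ (f : A) (_ : f ∉ q.asIdeal), Nonempty ((E A (Localization.Away f)).obj ω ≅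
      (Dual.inD (Localization.Away f) (Localization.Away f))⟦-m⟧) := by
  -- killing the other cohomology modules
  have hs : ∀ i : ℤ, ∃ s : A, s ∉ q.asIdeal ∧ (i ≠ m → ∀ x : Dual.HD A ω i, s • x = 0) := by
    intro i
    by_cases hi : i = m
    · exact ⟨1, fun h => q.isPrime.ne_top ((Ideal.eq_top_iff_one _).2 h), fun h => absurd hi h⟩
    · haveI := hfin i
      have h1 : q ∉ Module.support A (Dual.HD A ω i) :=
        Module.notMem_support_iff.2 (hvan i hi)
      rw [Module.mem_support_iff_of_finite] at h1
      obtain ⟨s, hs1, hs2⟩ := SetLike.not_le_iff_exists.1 h1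
      exact ⟨s, hs2, fun _ x => Module.mem_annihilator.1 hs1 x⟩
  choose s hs1 hs2 using hs
  let sAll : A := ∏ i ∈ Finset.Icc a b, s i
  have hsAll : sAll ∉ q.asIdeal := by
    intro h
    obtain ⟨i, -, hi⟩ := (Ideal.IsPrime.prod_mem_iff (hp := q.isPrime)).1 h
    exact hs1 i hi
  have hkill : ∀ i : ℤ, i ≠ m → ∀ x : Dual.HD A ω i, sAll • x = 0 := by
    intro i hi x
    by_cases hi' : i ∈ Finset.Icc a b
    · obtain ⟨c, hc⟩ := Finset.dvd_prod_of_mem s hi'
      change (∏ i ∈ Finset.Icc a b, s i) • x = 0
      rw [hc, mul_comm, mul_smul, hs2 i hi x, smul_zero]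
    · haveI := hab i (by
        rw [Finset.mem_Icc] at hi'
        omega)
      exact Subsingleton.elim _ _
  haveI := hfin m
  obtain ⟨r, hr, hequiv⟩ := exists_away_equiv (Dual.HD A ω m) q em
  refine ⟨r * sAll, fun h => (q.isPrime.mem_or_mem h).elim hr hsAll, ?_⟩
  obtain ⟨e⟩ := hequiv sAll
  refine nonempty_iso_unitShift _ m (fun i hi => ?_) ((HDAwayEquiv (r * sAll) ω m).trans e)
  haveI := subsingleton_tensor_of_smul_eq_zero (r * sAll) (Dual.HD A ω i) (fun x => by
    rw [mul_smul, hkill i hi x, smul_zero])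
  exact (HDAwayEquiv (r * sAll) ω i).subsingleton

end SO3


section G2

variable {A B : Type u} [CommRing A] [CommRing B] [IsNoetherianRing A]

/-- if the base change of `ω` to a Gorenstein ring `B` is dualizing, then `ω` is a shift of the
structure sheaf near every prime in the image of `Spec B`. -/
theorem invertible_of_isGorensteinRing (φ : A →+* B) (ω : Dual.D A) (a b : ℤ)
    (hab : ∀ i : ℤ, (i < a ∨ b < i) → Subsingleton (Dual.HD A ω i))
    (hfin : ∀ i, Module.Finite A (Dual.HD A ω i))
    (hB : Dual.IsDualizing B ((DRing.LBaseChange φ).obj ω))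
    (hG : LocCoh.IsGorensteinRing B) (q' : Ideal B) [q'.IsPrime] (q : PrimeSpectrum A)
    (hq : q.asIdeal = q'.comap φ) :
    ∃ (f : A) (_ : f ∉ q.asIdeal) (m : ℤ),
      Nonempty ((DRing.LBaseChange (algebraMap A (Localization.Away f))).obj ω ≅
        (Dual.inD (Localization.Away f) (Localization.Away f))⟦m⟧) := by
  haveI := hB.isNoetherianRing
  haveI : IsNoetherianRing (Localization.AtPrime q') :=
    IsLocalization.isNoetherianRing q'.primeCompl _ inferInstance
  haveI : IsNoetherianRing (Localization.AtPrime q.asIdeal) :=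
    IsLocalization.isNoetherianRing q.asIdeal.primeCompl _ inferInstance
  -- the dualizing complex of the Gorenstein local ring `B_{q'}`
  have hE := Groth.Agent.H4.FB3.S1775 (A := B) q'.primeCompl _ hB
  obtain ⟨m, hvan, ⟨em⟩⟩ := (Groth.Agent.H4.US17.isGorenstein_iff _ hE).1
    (hG.isGorensteinLocalRing_localization q')
  obtain ⟨e'⟩ := nonempty_iso_unitShift _ m hvan em
  obtain ⟨e1⟩ := nonempty_LBC_unitShift (IsLocalRing.residue (Localization.AtPrime q')) (-m)
  -- the local homomorphism `A_q → κ(q')`
  let lam : Localization.AtPrime q.asIdeal →+* Localization.AtPrime q' :=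
    Localization.localRingHom q.asIdeal q' φ hq
  haveI : IsLocalHom lam := Localization.isLocalHom_localRingHom q.asIdeal q' φ hq
  let σ : Localization.AtPrime q.asIdeal →+* IsLocalRing.ResidueField (Localization.AtPrime q') :=
    (IsLocalRing.residue (Localization.AtPrime q')).comp lam
  haveI : IsLocalHom σ := RingHom.isLocalHom_comp _ _
  have hσ : σ.comp (algebraMap A (Localization.AtPrime q.asIdeal)) =
      (IsLocalRing.residue (Localization.AtPrime q')).comp
        ((algebraMap B (Localization.AtPrime q')).comp φ) := by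
    ext x
    change IsLocalRing.residue _ (Localization.localRingHom q.asIdeal q' φ hq
      (algebraMap A (Localization.AtPrime q.asIdeal) x)) = _
    rw [Localization.localRingHom_to_map]
    rfl
  let K := (E A (Localization.AtPrime q.asIdeal)).obj ω
  obtain ⟨i1⟩ := Groth.Agent.H4.FibPerf.nonempty_LBCComp
    (algebraMap A (Localization.AtPrime q.asIdeal)) σ ω
  obtain ⟨i2⟩ := Groth.Agent.H4.FibPerf.nonempty_LBC_congr hσ ω
  obtain ⟨i3⟩ := Groth.Agent.H4.FibPerf.nonempty_LBCComp
    ((algebraMap B (Localization.AtPrime q')).comp φ)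
    (IsLocalRing.residue (Localization.AtPrime q')) ω
  obtain ⟨i4⟩ := Groth.Agent.H4.FibPerf.nonempty_LBCComp φ
    (algebraMap B (Localization.AtPrime q')) ω
  have eσ : (DRing.LBaseChange σ).obj K ≅
      (Dual.inD (IsLocalRing.ResidueField (Localization.AtPrime q'))
        (IsLocalRing.ResidueField (Localization.AtPrime q')))⟦-m⟧ :=
    (DRing.LBaseChange σ).mapIso (LBCIso ω).symm ≪≫ i1 ≪≫ i2 ≪≫ i3.symm ≪≫
      (DRing.LBaseChange (IsLocalRing.residue (Localization.AtPrime q'))).mapIso
        (i4.symm ≪≫ e') ≪≫ e1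
  -- pseudo-coherence of `K`
  have hfinK : ∀ i, Module.Finite (Localization.AtPrime q.asIdeal)
      (Dual.HD (Localization.AtPrime q.asIdeal) K i) := fun i => by
    haveI := hfin i
    exact Groth.Agent.H4.FB3.finite_HD_E ω i
  haveI : K.IsLE b := by
    rw [DerivedCategory.isLE_iff]
    intro i hi
    haveI := hab i (Or.inr hi)
    exact ((ModuleCat.extendScalars.{u, u, u} (algebraMap A (Localization.AtPrime q.asIdeal))).map_isZero
      (ModuleCat.isZero_of_subsingleton _)).of_iso (homologyEIso ω i)
  have hPC : IsPseudoCoherent' (Localization.AtPrime q.asIdeal) K :=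
    Groth.Agent.H4.FB3.isPC'_of_finite K hfinK b
  obtain ⟨hvanK, ⟨emK⟩⟩ := local_structure σ K hPC hfinK m eσ
  -- spreading out
  obtain ⟨f, hf, ⟨e⟩⟩ := spread_out ω a b hab hfin q m
    (fun i hi => by
      haveI := hvanK i hi
      exact (Groth.Agent.H4.US17.HDLocEquiv q ω i).symm.subsingleton)
    ((Groth.Agent.H4.US17.HDLocEquiv q ω m).symm.trans emK)
  exact ⟨f, hf, -m, ⟨LBCIso ω ≪≫ e⟩⟩

end G2


section S1786

variable (R A : Type u) [CommRing R] [CommRing A] [IsNoetherianRing R] [IsNoetherianRing A]
  [Algebra R A] [Module.Flat R A] (n : ℕ) (ψ : MvPolynomial (Fin n) R →ₐ[R] A)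
  (hψ : Function.Surjective ψ)
  (Rψ : Dual.D (MvPolynomial (Fin n) R) ⥤ Dual.D A) (adj : DRing.restrictD ψ.toRingHom ⊣ Rψ)

include hψ adj in
theorem S1786 [DRing.HasLBaseChange (algebraMap R (MvPolynomial (Fin n) R))]
    [hL : ∀ f : A, DRing.HasLBaseChange (algebraMap A (Localization.Away f))] :
    (∀ p : PrimeSpectrum R, LocCoh.IsGorensteinRing (A ⊗[R] p.asIdeal.ResidueField)) ↔
      (∀ q : PrimeSpectrum A, ∃ (f : A) (_ : f ∉ q.asIdeal) (m : ℤ),
        Nonempty ((DRing.LBaseChange (algebraMap A (Localization.Away f))).obj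
          (Dual2.shriekVia n Rψ (Dual.inD R R)) ≅
          (Dual.inD (Localization.Away f) (Localization.Away f))⟦m⟧)) := by
  constructor
  · intro hG q
    let p : PrimeSpectrum R := PrimeSpectrum.comap (algebraMap R A) q
    have hGB : LocCoh.IsGorensteinRing (p.asIdeal.ResidueField ⊗[R] A) :=
      Groth.Agent.H4.GF3.isGorensteinRing_of_ringEquiv
        (Algebra.TensorProduct.comm R A p.asIdeal.ResidueField).toRingEquiv (hG p)
    have hB := Groth.Agent.H4.FR8.S1801_d R A n ψ hψ Rψ adj p.asIdeal.ResidueField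
    let q' : PrimeSpectrum (p.asIdeal.ResidueField ⊗[R] A) :=
      PrimeSpectrum.preimageEquivFiber R A p ⟨q, rfl⟩
    have hq : q.asIdeal = q'.asIdeal.comap
        (Algebra.TensorProduct.includeRight : A →ₐ[R] p.asIdeal.ResidueField ⊗[R] A).toRingHom := by
      have h := (PrimeSpectrum.preimageEquivFiber R A p).symm_apply_apply ⟨q, rfl⟩
      exact (congrArg (fun z => z.1.asIdeal) h).symm
    obtain ⟨a, b, hab⟩ := Groth.Agent.H4.FR8.S1801_a R A n ψ hψ Rψ adj
    exact invertible_of_isGorensteinRing _ _ a b hab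
      (Groth.Agent.H4.FR8.S1801_fin R A n ψ hψ Rψ adj) hB hGB q'.asIdeal q hq
  · intro hinv p
    have hB := Groth.Agent.H4.FR8.S1801_d R A n ψ hψ Rψ adj p.asIdeal.ResidueField
    have h1 := isGorensteinRing_of_invertible _ _ hB hinv
    exact Groth.Agent.H4.GF3.isGorensteinRing_of_ringEquiv
      (Algebra.TensorProduct.comm R p.asIdeal.ResidueField A).toRingEquiv h1

end S1786

end Groth.Agent.H4.FR10
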