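import Mathlib
import Groth.Agent.H4.FR3

set_option autoImplicit false
universe u
open CategoryTheory Category Limits Pretriangulated TensorProduct

namespace Groth.Agent.H4.FR4

attribute [local instance] HasDerivedCategory.standard

open DRing DerivedCategory Groth.Agent.H4.FB2 Groth.Agent.H4.RD Groth.Agent.H4.US21
  Groth.Agent.H4.KD3

section S1799

variable (A B C : Type u) [CommRing A] [CommRing B] [CommRing C] [IsNoetherianRing A]
  [Algebra A B] [Algebra B C] [Algebra A C] [IsScalarTower A B C]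
  (n : ℕ) (ψ : MvPolynomial (Fin n) A →ₐ[A] B) (hψ : Function.Surjective ψ)
  (Rψ : Dual.D (MvPolynomial (Fin n) A) ⥤ Dual.D B) (adj : DRing.restrictD ψ.toRingHom ⊣ Rψ)
  (m : ℕ) (χ : MvPolynomial (Fin m) B →ₐ[B] C) (hχ : Function.Surjective χ)
  (Rχ : Dual.D (MvPolynomial (Fin m) B) ⥤ Dual.D C) (adjχ : DRing.restrictD χ.toRingHom ⊣ Rχ)
  (k : ℕ) (θ : MvPolynomial (Fin k) A →ₐ[A] C) (hθ : Function.Surjective θ)
  (Rθ : Dual.D (MvPolynomial (Fin k) A) ⥤ Dual.D C) (adjθ : DRing.restrictD θ.toRingHom ⊣ Rθ)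

include hψ adj hχ adjχ hθ adjθ in
/-- composition of upper shrieks, in terms of `E`. -/
theorem comp_E (K : Dual.D A) (c : ℤ) [K.IsGE c] :
    Nonempty ((Rθ.obj ((E A (MvPolynomial (Fin k) A)).obj K))⟦(k : ℤ)⟧ ≅
      (Rχ.obj ((E B (MvPolynomial (Fin m) B)).obj
        ((Rψ.obj ((E A (MvPolynomial (Fin n) A)).obj K))⟦(n : ℤ)⟧)))⟦(m : ℤ)⟧) := by
  letI : Algebra (MvPolynomial (Fin n) A) B := ψ.toRingHom.toAlgebra
  haveI : IsScalarTower A (MvPolynomial (Fin n) A) B :=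
    IsScalarTower.of_algebraMap_eq (fun r => (ψ.commutes r).symm)
  letI : Algebra (MvPolynomial (Fin m) (MvPolynomial (Fin n) A)) (MvPolynomial (Fin m) B) :=
    MvPolynomial.algebraMvPolynomial
  haveI : Algebra.IsPushout (MvPolynomial (Fin n) A)
      (MvPolynomial (Fin m) (MvPolynomial (Fin n) A)) B (MvPolynomial (Fin m) B) := inferInstance
  haveI : Module.Finite (MvPolynomial (Fin n) A) B :=
    Module.Finite.of_surjective (Algebra.linearMap (MvPolynomial (Fin n) A) B) hψ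
  haveI : Module.Flat A (MvPolynomial (Fin m) (MvPolynomial (Fin n) A)) :=
    Module.Flat.trans A (MvPolynomial (Fin n) A) _
  let φ₁ : MvPolynomial (Fin m) (MvPolynomial (Fin n) A) →+* MvPolynomial (Fin m) B :=
    algebraMap _ _
  let R₁ := Groth.Agent.H4.RAdj.R₀ φ₁
  let adj₁ : DRing.restrictD φ₁ ⊣ R₁ := Groth.Agent.H4.RAdj.adjR₀ φ₁
  haveI : ((E A (MvPolynomial (Fin n) A)).obj K).IsGE c := Groth.Agent.H4.FB7.isGE_E K c
  obtain ⟨e1⟩ := Groth.Agent.H4.FR2.nonempty_iso (MvPolynomial (Fin n) A)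
    (MvPolynomial (Fin m) (MvPolynomial (Fin n) A)) B (MvPolynomial (Fin m) B)
    Rψ adj R₁ adj₁ ((E A (MvPolynomial (Fin n) A)).obj K) c
  -- composition
  let Θ' : MvPolynomial (Fin m) (MvPolynomial (Fin n) A) →+* C := χ.toRingHom.comp φ₁
  let R₂ := Groth.Agent.H4.RAdj.R₀ Θ'
  let adj₂ : DRing.restrictD Θ' ⊣ R₂ := Groth.Agent.H4.RAdj.adjR₀ Θ'
  have i2 : R₂ ≅ R₁ ⋙ Rχ :=
    (adj₂.ofNatIsoLeft (restrictDCompIso φ₁ χ.toRingHom Θ' rfl)).rightAdjointUniq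
      (adjχ.comp adj₁)
  -- the polynomial ring in `m + n` variables
  let c' : MvPolynomial (Fin (m + n)) A ≃ₐ[A] MvPolynomial (Fin m) (MvPolynomial (Fin n) A) :=
    (MvPolynomial.renameEquiv A finSumFinEquiv.symm).trans
      (MvPolynomial.sumAlgEquiv A (Fin m) (Fin n))
  let χA : MvPolynomial (Fin m) B →ₐ[A] C := χ.restrictScalars A
  let mψ : MvPolynomial (Fin m) (MvPolynomial (Fin n) A) →ₐ[A] MvPolynomial (Fin m) B :=
    MvPolynomial.mapAlgHom ψ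
  let Θ'' : MvPolynomial (Fin (m + n)) A →ₐ[A] C := (χA.comp mψ).comp c'.toAlgHom
  have hΘ : Θ''.toRingHom = Θ'.comp c'.toRingEquiv.toRingHom := RingHom.ext (fun x => rfl)
  have hΘs : Function.Surjective Θ'' := by
    have h1 : Function.Surjective mψ :=
      MvPolynomial.map_surjective ψ.toRingHom hψ
    exact (hχ.comp h1).comp c'.surjective
  let R₃ := Groth.Agent.H4.RAdj.R₀ Θ''.toRingHom
  let adj₃ : DRing.restrictD Θ''.toRingHom ⊣ R₃ := Groth.Agent.H4.RAdj.adjR₀ Θ''.toRingHom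
  have adj₃' : DRing.restrictD (Θ'.comp c'.toRingEquiv.toRingHom) ⊣ R₃ := hΘ ▸ adj₃
  obtain ⟨e3⟩ := Groth.Agent.H4.KD4.nonempty_iso_of_algEquiv (R := A)
    (MvPolynomial (Fin (m + n)) A) (MvPolynomial (Fin m) (MvPolynomial (Fin n) A)) c' Θ'
    R₃ adj₃' R₂ adj₂ K
  obtain ⟨e4⟩ := Groth.Agent.H4.KD4.nonempty_iso_presentations A C k θ hθ Rθ adjθ (m + n) Θ'' hΘs
    R₃ adj₃ K
  have e5 : R₂.obj ((E A (MvPolynomial (Fin m) (MvPolynomial (Fin n) A))).obj K) ≅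
      Rχ.obj (R₁.obj ((E (MvPolynomial (Fin n) A)
        (MvPolynomial (Fin m) (MvPolynomial (Fin n) A))).obj
          ((E A (MvPolynomial (Fin n) A)).obj K))) :=
    i2.app _ ≪≫ Rχ.mapIso (R₁.mapIso (ETowerIso A (MvPolynomial (Fin n) A)
      (MvPolynomial (Fin m) (MvPolynomial (Fin n) A)) K))
  refine ⟨e4 ≪≫ (shiftFunctor _ ((m + n : ℕ) : ℤ)).mapIso (e3 ≪≫ e5) ≪≫
    (shiftFunctorAdd' (Dual.D C) (n : ℤ) (m : ℤ) ((m + n : ℕ) : ℤ) (by push_cast; ring)).app _ ≪≫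
    (shiftFunctor _ (m : ℤ)).mapIso
      (((RShiftIso χ.toRingHom Rχ adjχ (n : ℤ)).app _).symm ≪≫
        Rχ.mapIso ((shiftFunctor _ (n : ℤ)).mapIso e1.symm ≪≫ (EShiftIso _ (n : ℤ)).symm))⟩

include hψ adj hχ adjχ hθ adjθ in
theorem S1799 [DRing.HasLBaseChange (algebraMap A (MvPolynomial (Fin n) A))]
    [DRing.HasLBaseChange (algebraMap B (MvPolynomial (Fin m) B))]
    [DRing.HasLBaseChange (algebraMap A (MvPolynomial (Fin k) A))]
    (K : Dual.D A) (c : ℤ) (hK : ∀ i : ℤ, i < c → Subsingleton (Dual.HD A K i)) :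
    Nonempty (Dual2.shriekVia k Rθ K ≅ Dual2.shriekVia m Rχ (Dual2.shriekVia n Rψ K)) := by
  haveI : K.IsGE c := by
    rw [isGE_iff]
    intro j hj
    haveI := hK j hj
    exact ModuleCat.isZero_of_subsingleton _
  obtain ⟨e⟩ := comp_E A B C n ψ hψ Rψ adj m χ hχ Rχ adjχ k θ hθ Rθ adjθ K c
  exact ⟨(shiftFunctor _ (k : ℤ)).mapIso (Rθ.mapIso (LBCIso K)) ≪≫ e ≪≫
    (shiftFunctor _ (m : ℤ)).mapIso (Rχ.mapIso
      ((E B (MvPolynomial (Fin m) B)).mapIso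
        ((shiftFunctor _ (n : ℤ)).mapIso (Rψ.mapIso (LBCIso K).symm)) ≪≫ (LBCIso _).symm))⟩

end S1799

end Groth.Agent.H4.FR4
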