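import Mathlib
import Groth.Agent.H4.FR5
import Groth.Agent.H4.KD4

set_option autoImplicit false
universe u
open CategoryTheory Category Limits Pretriangulated TensorProduct

namespace Groth.Agent.H4.FR6

attribute [local instance] HasDerivedCategory.standard

open DRing DerivedCategory Groth.Agent.H4.FB2 Groth.Agent.H4.RD Groth.Agent.H4.US21
  Groth.Agent.H4.KD3

/-- finitely many integral elements lie in the image of a finite free algebra. -/
theorem exists_finite_free_cover (R : Type u) [CommRing R] : ∀ (n : ℕ) (A : Type u) [CommRing A]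
    [Algebra R A] (a : Fin n → A) (_ : ∀ i, IsIntegral R (a i)),
    ∃ (B : Type u) (_ : CommRing B) (_ : Algebra R B) (_ : Module.Finite R B)
      (_ : Module.Free R B) (b : Fin n → B) (β : B →ₐ[R] A), ∀ i, β (b i) = a i := by
  intro n
  induction n with
  | zero =>
    intro A _ _ a _
    exact ⟨R, inferInstance, inferInstance, inferInstance, inferInstance, Fin.elim0,
      Algebra.ofId R A, fun i => Fin.elim0 i⟩
  | succ n ih =>
    intro A _ _ a ha
    obtain ⟨B₀, _, _, _, _, b₀, β₀, hβ₀⟩ := ih A (fun i => a i.succ) (fun i => ha i.succ)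
    obtain ⟨f, hf, hfa⟩ := ha 0
    haveI : Module.Free R (AdjoinRoot f) := hf.free_adjoinRoot
    haveI : Module.Finite R (AdjoinRoot f) := hf.finite_adjoinRoot
    let γ : AdjoinRoot f →ₐ[R] A := AdjoinRoot.liftAlgHom f (Algebra.ofId R A) (a 0) hfa
    refine ⟨B₀ ⊗[R] AdjoinRoot f, inferInstance, inferInstance, inferInstance, inferInstance,
      Fin.cons ((1 : B₀) ⊗ₜ[R] AdjoinRoot.root f) (fun i => b₀ i ⊗ₜ[R] (1 : AdjoinRoot f)),
      Algebra.TensorProduct.productMap β₀ γ, fun i => ?_⟩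
    refine Fin.cases ?_ (fun j => ?_) i
    · rw [Fin.cons_zero, Algebra.TensorProduct.productMap_apply_tmul, map_one, one_mul]
      exact AdjoinRoot.liftAlgHom_root f _ _ _
    · rw [Fin.cons_succ, Algebra.TensorProduct.productMap_apply_tmul, map_one, mul_one, hβ₀]

section S1784

variable (R A : Type u) [CommRing R] [CommRing A] [Algebra R A]
  (n : ℕ) (ψ : MvPolynomial (Fin n) R →ₐ[R] A)
  (Rψ : Dual.D (MvPolynomial (Fin n) R) ⥤ Dual.D A) (adj : DRing.restrictD ψ.toRingHom ⊣ Rψ)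
  [Module.Finite R A] (R' : Dual.D R ⥤ Dual.D A) (adjR : DRing.restrictD (algebraMap R A) ⊣ R')

include adj adjR in
/-- upper shriek along a finite map is the right adjoint of restriction, in terms of `E`. -/
theorem finite_E (K : Dual.D R) :
    Nonempty ((Rψ.obj ((E R (MvPolynomial (Fin n) R)).obj K))⟦(n : ℤ)⟧ ≅ R'.obj K) := by
  obtain ⟨B, _, _, _, _, b, β, hβ⟩ := exists_finite_free_cover R n A
    (fun i => ψ (MvPolynomial.X i)) (fun i => Algebra.IsIntegral.isIntegral _)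
  let ψB : MvPolynomial (Fin n) R →ₐ[R] B := MvPolynomial.aeval b
  have hψB : ψ = β.comp ψB := by
    refine MvPolynomial.algHom_ext (fun i => ?_)
    change ψ (MvPolynomial.X i) = β (MvPolynomial.aeval b (MvPolynomial.X i))
    rw [MvPolynomial.aeval_X, hβ]
  letI : Algebra (MvPolynomial (Fin n) R) (MvPolynomial (Fin n) B) :=
    MvPolynomial.algebraMvPolynomial
  haveI : Algebra.IsPushout R (MvPolynomial (Fin n) R) B (MvPolynomial (Fin n) B) := inferInstance
  let ι : MvPolynomial (Fin n) R →+* MvPolynomial (Fin n) B := algebraMap _ _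
  let σ : MvPolynomial (Fin n) B →ₐ[B] B := MvPolynomial.aeval b
  have hσι : ψB.toRingHom = σ.toRingHom.comp ι := by
    refine MvPolynomial.ringHom_ext (fun r => ?_) (fun i => ?_)
    · change MvPolynomial.aeval b (MvPolynomial.C r) =
        MvPolynomial.aeval b (MvPolynomial.map (algebraMap R B) (MvPolynomial.C r))
      rw [MvPolynomial.map_C, ← MvPolynomial.algebraMap_eq, ← MvPolynomial.algebraMap_eq,
        AlgHom.commutes, AlgHom.commutes, Algebra.algebraMap_self, RingHom.id_apply]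
    · change MvPolynomial.aeval b (MvPolynomial.X i) =
        MvPolynomial.aeval b (MvPolynomial.map (algebraMap R B) (MvPolynomial.X i))
      rw [MvPolynomial.map_X, MvPolynomial.aeval_X, MvPolynomial.aeval_X]
  -- right adjoints
  let RB := Groth.Agent.H4.RAdj.R₀ (algebraMap R B)
  let adjB : DRing.restrictD (algebraMap R B) ⊣ RB := Groth.Agent.H4.RAdj.adjR₀ _
  let Rι := Groth.Agent.H4.RAdj.R₀ ι
  let adjι : DRing.restrictD ι ⊣ Rι := Groth.Agent.H4.RAdj.adjR₀ _
  let Rσ := Groth.Agent.H4.RAdj.R₀ σ.toRingHom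
  let adjσ : DRing.restrictD σ.toRingHom ⊣ Rσ := Groth.Agent.H4.RAdj.adjR₀ _
  let RψB := Groth.Agent.H4.RAdj.R₀ ψB.toRingHom
  let adjψB : DRing.restrictD ψB.toRingHom ⊣ RψB := Groth.Agent.H4.RAdj.adjR₀ _
  let Rβ := Groth.Agent.H4.RAdj.R₀ β.toRingHom
  let adjβ : DRing.restrictD β.toRingHom ⊣ Rβ := Groth.Agent.H4.RAdj.adjR₀ _
  haveI : Module.Projective R B := inferInstance
  obtain ⟨e1⟩ := Groth.Agent.H4.FR5.nonempty_iso_of_projective R (MvPolynomial (Fin n) R) B
    (MvPolynomial (Fin n) B) RB adjB Rι adjι K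
  obtain ⟨e2⟩ := kl_mvPolynomial n B σ Rσ adjσ (RB.obj K)
  have i1 : RψB ≅ Rι ⋙ Rσ :=
    (adjψB.ofNatIsoLeft (restrictDCompIso ι σ.toRingHom ψB.toRingHom hσι)).rightAdjointUniq
      (adjσ.comp adjι)
  have i2 : Rψ ≅ RψB ⋙ Rβ :=
    (adj.ofNatIsoLeft (restrictDCompIso ψB.toRingHom β.toRingHom ψ.toRingHom
      (by rw [hψB]; rfl))).rightAdjointUniq (adjβ.comp adjψB)
  have i3 : R' ≅ RB ⋙ Rβ :=
    (adjR.ofNatIsoLeft (restrictDCompIso (algebraMap R B) β.toRingHom (algebraMap R A)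
      (RingHom.ext (fun r => (β.commutes r).symm)))).rightAdjointUniq (adjβ.comp adjB)
  exact ⟨(shiftFunctor _ (n : ℤ)).mapIso (i2.app _) ≪≫
    ((RShiftIso β.toRingHom Rβ adjβ (n : ℤ)).app _).symm ≪≫
    Rβ.mapIso ((shiftFunctor _ (n : ℤ)).mapIso (i1.app _ ≪≫ Rσ.mapIso e1.symm) ≪≫ e2) ≪≫
    (i3.app K).symm⟩

include adj adjR in
theorem S1784 [DRing.HasLBaseChange (algebraMap R (MvPolynomial (Fin n) R))] (K : Dual.D R) :
    Nonempty (Dual2.shriekVia n Rψ K ≅ R'.obj K) := by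
  obtain ⟨e⟩ := finite_E R A n ψ Rψ adj R' adjR K
  exact ⟨(shiftFunctor _ (n : ℤ)).mapIso (Rψ.mapIso (LBCIso K)) ≪≫ e⟩

end S1784

end Groth.Agent.H4.FR6
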