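import Mathlib
import Groth.Agent.H4.FR8
import Groth.Agent.H4.FR4
import Groth.Agent.H4.FR6

set_option autoImplicit false
universe u
open CategoryTheory Category Limits Pretriangulated TensorProduct MonoidalCategory

namespace Groth.Agent.H4.FR9

attribute [local instance] HasDerivedCategory.standard
attribute [local instance] Groth.Agent.H4.KProj.hasLBaseChange

open DRing DerivedCategory Groth.Agent.H4.RD

section swap

variable {B B' A : Type u} [CommRing B] [CommRing B'] [CommRing A]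

/-- derived base change along a ring isomorphism is restriction along the inverse. -/
noncomputable def LBCEquivIso (σ : B ≃+* B') :
    DRing.LBaseChange σ.toRingHom ≅ DRing.restrictD σ.symm.toRingHom :=
  (Groth.Agent.H4.KProj.adjLBaseChange σ.toRingHom).leftAdjointUniq
    (restrictDEquivalence σ).symm.toAdjunction

/-- the right adjoint of restriction along `μ ∘ σ`, for `σ` an isomorphism. -/
noncomputable def RCompEquivIso (σ : B ≃+* B') (μ' : B' →+* A) (μ : B →+* A)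
    (h : μ = μ'.comp σ.toRingHom)
    (Rμ : Dual.D B ⥤ Dual.D A) (adjμ : DRing.restrictD μ ⊣ Rμ)
    (Rμ' : Dual.D B' ⥤ Dual.D A) (adjμ' : DRing.restrictD μ' ⊣ Rμ') :
    Rμ ≅ DRing.restrictD σ.symm.toRingHom ⋙ Rμ' :=
  (adjμ.ofNatIsoLeft (restrictDCompIso σ.toRingHom μ' μ h)).rightAdjointUniq
    (adjμ'.comp (restrictDEquivalence σ).toAdjunction)

end swap


section S1795

variable (R A : Type u) [CommRing R] [CommRing A] [IsNoetherianRing R] [IsNoetherianRing A]
  [Algebra R A] [Module.Flat R A] (n : ℕ) (ψ : MvPolynomial (Fin n) R →ₐ[R] A)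
  (hψ : Function.Surjective ψ)
  (Rψ : Dual.D (MvPolynomial (Fin n) R) ⥤ Dual.D A) (adj : DRing.restrictD ψ.toRingHom ⊣ Rψ)
  (Rμ : Dual.D (TensorProduct R A A) ⥤ Dual.D A)
  (adjμ : DRing.restrictD (Algebra.TensorProduct.lmul' R (S := A)).toRingHom ⊣ Rμ)

include hψ in
omit [IsNoetherianRing R] [Module.Flat R A] in
lemma isNoetherianRing_tensor : IsNoetherianRing (A ⊗[R] A) := by
  haveI : Algebra.FiniteType R A := Algebra.FiniteType.of_surjective ψ hψ
  haveI : Algebra.FiniteType A (A ⊗[R] A) := inferInstance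
  exact Algebra.FiniteType.isNoetherianRing A (A ⊗[R] A)

include hψ adj adjμ in
/-- `RHom_{A ⊗ A}(A, ω ⊗^L_{A, p₂} (A ⊗_R A)) ≅ A`. -/
theorem nonempty_Rmu_right [DRing.HasLBaseChange (algebraMap R (MvPolynomial (Fin n) R))] :
    Nonempty (Rμ.obj ((DRing.LBaseChange
      (Algebra.TensorProduct.includeRight : A →ₐ[R] A ⊗[R] A).toRingHom).obj
        (Dual2.shriekVia n Rψ (Dual.inD R R))) ≅ Dual.inD A A) := by
  haveI : IsNoetherianRing (A ⊗[R] A) := isNoetherianRing_tensor R A n ψ hψ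
  letI : Algebra (A ⊗[R] A) A := (Algebra.TensorProduct.lmul' R (S := A)).toRingHom.toAlgebra
  haveI : IsScalarTower A (A ⊗[R] A) A := IsScalarTower.of_algebraMap_eq (fun a => by
    change a = Algebra.TensorProduct.lmul' R (S := A) (a ⊗ₜ[R] (1 : A))
    simp)
  have hsurj : Function.Surjective (algebraMap (A ⊗[R] A) A) := fun a => ⟨a ⊗ₜ[R] (1 : A), by
    change Algebra.TensorProduct.lmul' R (S := A) (a ⊗ₜ[R] (1 : A)) = a
    simp⟩
  haveI : Module.Finite (A ⊗[R] A) A :=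
    Module.Finite.of_surjective (Algebra.linearMap (A ⊗[R] A) A) hsurj
  -- presentations
  let ψB := Groth.Agent.H4.FR3.psiBC R A A n ψ
  have hψB := Groth.Agent.H4.FR3.psiBC_surjective R A A n ψ hψ
  let RψB := Groth.Agent.H4.RAdj.R₀ ψB.toRingHom
  let adjB : DRing.restrictD ψB.toRingHom ⊣ RψB := Groth.Agent.H4.RAdj.adjR₀ ψB.toRingHom
  let χ : MvPolynomial (Fin 0) (A ⊗[R] A) →ₐ[A ⊗[R] A] A := MvPolynomial.aeval Fin.elim0
  have hχ : Function.Surjective χ := fun a => by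
    obtain ⟨b, hb⟩ := hsurj a
    exact ⟨MvPolynomial.C b, by rw [← MvPolynomial.algebraMap_eq, AlgHom.commutes, hb]⟩
  let Rχ := Groth.Agent.H4.RAdj.R₀ χ.toRingHom
  let adjχ : DRing.restrictD χ.toRingHom ⊣ Rχ := Groth.Agent.H4.RAdj.adjR₀ χ.toRingHom
  let θ : MvPolynomial (Fin 0) A →ₐ[A] A := MvPolynomial.aeval Fin.elim0
  have hθ : Function.Surjective θ := fun a =>
    ⟨MvPolynomial.C a, by rw [← MvPolynomial.algebraMap_eq, AlgHom.commutes]; rfl⟩
  let Rθ := Groth.Agent.H4.RAdj.R₀ θ.toRingHom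
  let adjθ : DRing.restrictD θ.toRingHom ⊣ Rθ := Groth.Agent.H4.RAdj.adjR₀ θ.toRingHom
  -- base change
  obtain ⟨e1⟩ := Groth.Agent.H4.FR7.S1807 R A A n ψ hψ Rψ adj n ψB hψB RψB adjB (Dual.inD R R)
  obtain ⟨e2⟩ := Groth.Agent.H4.RD2.nonempty_LBC_unit_iso (algebraMap R A)
  have e3 : (DRing.LBaseChange (algebraMap R A)).obj (Dual.inD R R) ≅ Dual.inD A A :=
    e2 ≪≫ Groth.Agent.H4.KI8.inDUnitIso.symm
  -- composition
  obtain ⟨e4⟩ := Groth.Agent.H4.FR4.S1799 A (A ⊗[R] A) A n ψB hψB RψB adjB 0 χ hχ Rχ adjχ 0 θ hθ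
    Rθ adjθ (Dual.inD A A) 0
    (fun j hj => Groth.Agent.H4.DZ4.subsingleton_HD_inD (A := A) A j (by omega))
  obtain ⟨e5⟩ := Groth.Agent.H4.FR6.S1784 (A ⊗[R] A) A 0 χ Rχ adjχ Rμ adjμ
    (Dual2.shriekVia n RψB (Dual.inD A A))
  have adjId : DRing.restrictD (algebraMap A A) ⊣ 𝟭 (Dual.D A) :=
    Adjunction.id.ofNatIsoLeft (restrictDIdIso (algebraMap A A) rfl).symm
  obtain ⟨e6⟩ := Groth.Agent.H4.FR6.S1784 A A 0 θ Rθ adjθ (𝟭 (Dual.D A)) adjId (Dual.inD A A)
  exact ⟨Rμ.mapIso (e1 ≪≫ (shiftFunctor _ (n : ℤ)).mapIso (RψB.mapIso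
    ((DRing.LBaseChange (algebraMap A (MvPolynomial (Fin n) A))).mapIso e3))) ≪≫
    e5.symm ≪≫ e4.symm ≪≫ e6⟩

end S1795


section S1795main

variable (R A : Type u) [CommRing R] [CommRing A] [IsNoetherianRing R] [IsNoetherianRing A]
  [Algebra R A] [Module.Flat R A] (n : ℕ) (ψ : MvPolynomial (Fin n) R →ₐ[R] A)
  (hψ : Function.Surjective ψ)
  (Rψ : Dual.D (MvPolynomial (Fin n) R) ⥤ Dual.D A) (adj : DRing.restrictD ψ.toRingHom ⊣ Rψ)
  (Rμ : Dual.D (TensorProduct R A A) ⥤ Dual.D A)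
  (adjμ : DRing.restrictD (Algebra.TensorProduct.lmul' R (S := A)).toRingHom ⊣ Rμ)

include adjμ in
omit [IsNoetherianRing R] [IsNoetherianRing A] [Module.Flat R A] in
/-- swapping the two factors. -/
theorem nonempty_Rmu_swap (K : Dual.D A) :
    Nonempty (Rμ.obj ((DRing.LBaseChange
      (Algebra.TensorProduct.includeLeftRingHom : A →+* TensorProduct R A A)).obj K) ≅
      Rμ.obj ((DRing.LBaseChange
        (Algebra.TensorProduct.includeRight : A →ₐ[R] A ⊗[R] A).toRingHom).obj K)) := by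
  let σ : A ⊗[R] A ≃+* A ⊗[R] A := (Algebra.TensorProduct.comm R A A).toRingEquiv
  have h1 : (Algebra.TensorProduct.includeLeftRingHom : A →+* TensorProduct R A A) =
      σ.toRingHom.comp (Algebra.TensorProduct.includeRight : A →ₐ[R] A ⊗[R] A).toRingHom := by
    ext a
    change a ⊗ₜ[R] (1 : A) = Algebra.TensorProduct.comm R A A ((1 : A) ⊗ₜ[R] a)
    simp
  have h2 : (Algebra.TensorProduct.lmul' R (S := A)).toRingHom =
      (Algebra.TensorProduct.lmul' R (S := A)).toRingHom.comp σ.toRingHom := by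
    apply RingHom.ext
    intro t
    change Algebra.TensorProduct.lmul' R (S := A) t =
      Algebra.TensorProduct.lmul' R (S := A) (Algebra.TensorProduct.comm R A A t)
    induction t using TensorProduct.induction_on with
    | zero => simp
    | tmul a b => simp [mul_comm]
    | add x y hx hy => rw [map_add, map_add, map_add, hx, hy]
  obtain ⟨e1⟩ := Groth.Agent.H4.FibPerf.nonempty_LBC_congr h1 K
  obtain ⟨e2⟩ := Groth.Agent.H4.FibPerf.nonempty_LBCComp
    (Algebra.TensorProduct.includeRight : A →ₐ[R] A ⊗[R] A).toRingHom σ.toRingHom K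
  let Y := (DRing.LBaseChange
    (Algebra.TensorProduct.includeRight : A →ₐ[R] A ⊗[R] A).toRingHom).obj K
  have e3 : (DRing.LBaseChange σ.toRingHom).obj Y ≅ (DRing.restrictD σ.symm.toRingHom).obj Y :=
    (LBCEquivIso σ).app Y
  have e4 := (RCompEquivIso σ _ _ h2 Rμ adjμ Rμ adjμ).app Y
  exact ⟨Rμ.mapIso (e1 ≪≫ e2.symm ≪≫ e3) ≪≫ e4.symm⟩

include hψ adj adjμ in
theorem S1795 [DRing.HasLBaseChange (algebraMap R (MvPolynomial (Fin n) R))]
    [DRing.HasLBaseChange
      (Algebra.TensorProduct.includeLeftRingHom : A →+* TensorProduct R A A)] :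
    Dual2.IsRelDualizing R A Rμ (Dual2.shriekVia n Rψ (Dual.inD R R)) := by
  refine ⟨⟨?_, Groth.Agent.H4.FR8.S1801_b R A n ψ hψ Rψ adj⟩, ?_⟩
  · obtain ⟨a, b, hab⟩ := Groth.Agent.H4.FR8.S1801_a R A n ψ hψ Rψ adj
    haveI : (Dual2.shriekVia n Rψ (Dual.inD R R)).IsLE b := by
      rw [DerivedCategory.isLE_iff]
      intro i hi
      haveI := hab i (Or.inr hi)
      exact ModuleCat.isZero_of_subsingleton _
    exact Groth.Agent.H4.FB3.isPC'_of_finite _
      (Groth.Agent.H4.FR8.S1801_fin R A n ψ hψ Rψ adj) b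
  · obtain ⟨e1⟩ := nonempty_Rmu_swap R A Rμ adjμ (Dual2.shriekVia n Rψ (Dual.inD R R))
    obtain ⟨e2⟩ := nonempty_Rmu_right R A n ψ hψ Rψ adj Rμ adjμ
    exact ⟨e1 ≪≫ e2⟩

end S1795main

end Groth.Agent.H4.FR9
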