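import Mathlib
import Groth.Agent.H4.FR9
import Groth.Agent.H4.RD2

set_option autoImplicit false
universe u
open CategoryTheory Category Limits Pretriangulated TensorProduct MonoidalCategory AlgebraicGeometry

namespace Groth.Agent.H4.FR11

attribute [local instance] HasDerivedCategory.standard
attribute [local instance] Groth.Agent.H4.KProj.hasLBaseChange
attribute [local instance] Groth.Agent.H4.LK4.hasLTen Groth.Agent.H4.LK5.hasLTen₃
  Groth.Agent.H4.KI7.isSymMonoidal Groth.Agent.H4.KI6.hasRHom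

open DRing DerivedCategory Groth.Agent.H4.RD

section ring

variable (R A : Type u) [CommRing R] [CommRing A] [Algebra R A]

lemma flat_of_isOpenImmersion
    (hopen : IsOpenImmersion (Spec.map (CommRingCat.ofHom (algebraMap R A)))) :
    Module.Flat R A := by
  have h : Flat (Spec.map (CommRingCat.ofHom (algebraMap R A))) := inferInstance
  rw [Flat.SpecMap_iff] at h
  exact (RingHom.flat_algebraMap_iff).1 h

lemma isEpi_of_isOpenImmersion
    (hopen : IsOpenImmersion (Spec.map (CommRingCat.ofHom (algebraMap R A)))) :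
    Algebra.IsEpi R A := by
  rw [← CommRingCat.epi_iff_epi]
  haveI : Mono (Spec.map (CommRingCat.ofHom (algebraMap R A))) := inferInstance
  haveI : Mono (Scheme.Spec.map (CommRingCat.ofHom (algebraMap R A)).op) := ‹_›
  haveI : Mono (CommRingCat.ofHom (algebraMap R A)).op := Scheme.Spec.mono_of_mono_map ‹_›
  exact unop_epi_of_mono (CommRingCat.ofHom (algebraMap R A)).op

/-- for an epimorphism of rings the multiplication `A ⊗ A → A` is an isomorphism, inverse to the
left coprojection. -/
lemma includeLeft_comp_lmul' [Algebra.IsEpi R A] (t : A ⊗[R] A) :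
    (Algebra.TensorProduct.includeLeftRingHom : A →+* A ⊗[R] A)
      (Algebra.TensorProduct.lmul' R (S := A) t) = t := by
  induction t using TensorProduct.induction_on with
  | zero => simp
  | tmul a b =>
    change (a * b) ⊗ₜ[R] (1 : A) = a ⊗ₜ[R] b
    have h := (Algebra.isEpi_iff_forall_one_tmul_eq R A).1 inferInstance b
    calc (a * b) ⊗ₜ[R] (1 : A) = a ⊗ₜ[R] (1 : A) * b ⊗ₜ[R] (1 : A) := by simp
      _ = a ⊗ₜ[R] (1 : A) * (1 : A) ⊗ₜ[R] b := by rw [h]
      _ = a ⊗ₜ[R] b := by simp
  | add x y hx hy => rw [map_add, map_add, hx, hy]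

end ring


section main

variable (R A : Type u) [CommRing R] [CommRing A] [IsNoetherianRing R] [IsNoetherianRing A]
  [Algebra R A] (n : ℕ) (ψ : MvPolynomial (Fin n) R →ₐ[R] A)
  (hψ : Function.Surjective ψ)
  (Rψ : Dual.D (MvPolynomial (Fin n) R) ⥤ Dual.D A) (adj : DRing.restrictD ψ.toRingHom ⊣ Rψ)

set_option quotPrecheck false in
/-- notation for the object part of `⊗^L` -/
local notation:max "tO(" a ", " b ")" => (DTen.LTen₂ _).obj (a, b)

include hψ adj in
/-- for an open immersion, the relative dualizing complex is trivial. -/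
theorem nonempty_omega_iso_unit [DRing.HasLBaseChange (algebraMap R (MvPolynomial (Fin n) R))]
    [Module.Flat R A] [Algebra.IsEpi R A] :
    Nonempty (Dual2.shriekVia n Rψ (Dual.inD R R) ≅ Dual.inD A A) := by
  let σ : A ≃+* A ⊗[R] A := RingEquiv.ofRingHom
    (Algebra.TensorProduct.includeLeftRingHom : A →+* A ⊗[R] A)
    (Algebra.TensorProduct.lmul' R (S := A)).toRingHom
    (RingHom.ext (fun t => includeLeft_comp_lmul' R A t))
    (RingHom.ext (fun a => by
      change Algebra.TensorProduct.lmul' R (S := A) (a ⊗ₜ[R] (1 : A)) = a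
      simp))
  let Rμ := DRing.restrictD σ.toRingHom
  have adjμ : DRing.restrictD (Algebra.TensorProduct.lmul' R (S := A)).toRingHom ⊣ Rμ :=
    (restrictDEquivalence σ).symm.toAdjunction
  have h := Groth.Agent.H4.FR9.S1795 R A n ψ hψ Rψ adj Rμ adjμ
  obtain ⟨e⟩ := h.2
  let ω := Dual2.shriekVia n Rψ (Dual.inD R R)
  have e1 : (DRing.LBaseChange
      (Algebra.TensorProduct.includeLeftRingHom : A →+* A ⊗[R] A)).obj ω ≅
      (DRing.restrictD σ.symm.toRingHom).obj ω := (Groth.Agent.H4.FR9.LBCEquivIso σ).app ω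
  have e2 : Rμ.obj ((DRing.restrictD σ.symm.toRingHom).obj ω) ≅ ω :=
    (restrictDEquivalence σ).symm.unitIso.symm.app ω
  exact ⟨e2.symm ≪≫ Rμ.mapIso e1.symm ≪≫ e⟩

include hψ adj in
theorem S8943 (hopen : IsOpenImmersion (Spec.map (CommRingCat.ofHom (algebraMap R A))))
    [DRing.HasLBaseChange (algebraMap R (MvPolynomial (Fin n) R))]
    [DRing.HasLBaseChange (algebraMap R A)] (K : Dual.D R) :
    Nonempty (Dual2.shriekVia n Rψ K ≅ (DRing.LBaseChange (algebraMap R A)).obj K) := by
  haveI := flat_of_isOpenImmersion R A hopen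
  haveI := isEpi_of_isOpenImmersion R A hopen
  obtain ⟨e1⟩ := Groth.Agent.H4.RD2.nonempty_shriek_iso R A n ψ hψ Rψ adj K
  obtain ⟨e2⟩ := nonempty_omega_iso_unit R A n ψ hψ Rψ adj
  exact ⟨e1 ≪≫ (DTen.LTen₂ A).mapIso (Iso.prod (Iso.refl _)
    (e2 ≪≫ Groth.Agent.H4.KI8.inDUnitIso)) ≪≫ DTen.rightUnitor _⟩

end main

end Groth.Agent.H4.FR11
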