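import Mathlib
import Groth.Agent.H4.TB11
import Groth.Agent.H4.EV3

open CategoryTheory Category Limits MonoidalCategory

universe u

set_option backward.isDefEq.respectTransparency false

namespace Groth.Agent.H4.TB12

open DTen Groth.Agent.H4.TB11 Groth.Agent.H4.EV3

attribute [local instance] HasDerivedCategory.standard

set_option quotPrecheck false in
/-- notation for the object part of `⊗^L` -/
local notation:max "tO(" a ", " b ")" => (LTen₂ _).obj (a, b)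

set_option quotPrecheck false in
/-- notation for the map part of `⊗^L` -/
local notation:max "tM(" f ", " g ")" => (LTen₂ _).map (Prod.mkHom f g)

section AssocBeta

variable {A : Type u} [CommRing A] [HasLTen A] [HasLTen₃ A] [IsSymMonoidal A]

lemma associator_β (K L M : DRing.Cx A) :
    (DTen.associator (DerivedCategory.Q.obj K) (DerivedCategory.Q.obj L)
      (DerivedCategory.Q.obj M)).hom ≫ (βR A).app (K, (L, M)) = (βL A).app (K, (L, M)) := by
  rw [← assocR_fac, ← assocL_fac]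
  have := associator_hom_assocR (DerivedCategory.Q.obj K) (DerivedCategory.Q.obj L)
    (DerivedCategory.Q.obj M)
  exact (reassoc_of% this) _

end AssocBeta

section Derived

variable {R R' : Type u} [CommRing R] [CommRing R'] (φ : R →+* R')
variable [HasLTen R] [HasLTen R'] [HasResTen φ] [ResLegIso φ]

/-- the left action `res R' ⊗ res X ⟶ res X`. -/
noncomputable def actL (X : Dual.D R') :
    (LTen₂ R).obj ((DRing.restrictD φ).obj (unit R'), (DRing.restrictD φ).obj X) ⟶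
      (DRing.restrictD φ).obj X :=
  (resPF φ).app (unit R', X) ≫ (DRing.restrictD φ).map ((unitL R').app X)

lemma actL_naturality {X Y : Dual.D R'} (f : X ⟶ Y) :
    (LTen₂ R).map (Prod.mkHom (𝟙 ((DRing.restrictD φ).obj (unit R')))
      ((DRing.restrictD φ).map f)) ≫ actL φ Y =
      actL φ X ≫ (DRing.restrictD φ).map f := by
  dsimp only [actL]
  have h1 := (resPF φ).naturality (Prod.mkHom (𝟙 (unit R')) f : (unit R', X) ⟶ (unit R', Y))
  have h2 := (unitL R').naturality f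
  dsimp at h1 h2
  rw [CategoryTheory.Functor.map_id] at h1
  rw [reassoc_of% h1, assoc, ← Functor.map_comp, ← Functor.map_comp]
  congr 2

lemma actL_Q (X₀ : DRing.Cx R') :
    actL φ (DerivedCategory.Q.obj X₀) ≫ (resFactors φ).hom.app X₀ =
      (LTen₂ R).map (Prod.mkHom ((resFactors φ).hom.app (𝟙_ (DRing.Cx R')))
        ((resFactors φ).hom.app X₀)) ≫
      (ε R).app ((resCx φ).obj (𝟙_ (DRing.Cx R')), (resCx φ).obj X₀) ≫
      DerivedCategory.Q.map (aL φ X₀) := by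
  dsimp only [actL, aL]
  rw [unitL_app, Functor.map_comp, assoc, assoc]
  have h2 := (resFactors φ).hom.naturality (λ_ X₀).hom
  dsimp at h2
  rw [h2]
  have s5 := resPF_fac φ (𝟙_ (DRing.Cx R'), X₀)
  dsimp only [Functor.prod_obj, resβB] at s5
  erw [reassoc_of% s5]
  have s6 : (resβA φ).app (𝟙_ (DRing.Cx R'), X₀) =
      (LTen₂ R).map (Prod.mkHom ((resFactors φ).hom.app (𝟙_ (DRing.Cx R')))
        ((resFactors φ).hom.app X₀)) ≫
      (ε R).app ((resCx φ).obj (𝟙_ (DRing.Cx R')), (resCx φ).obj X₀) ≫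
      DerivedCategory.Q.map (resTenCx φ (𝟙_ (DRing.Cx R')) X₀) := rfl
  rw [s6]
  simp only [assoc, Functor.map_comp]

end Derived


section Dagger

variable {R R' : Type u} [CommRing R] [CommRing R'] (φ : R →+* R')
variable [HasLTen R] [HasLTen R'] [HasResTen φ] [ResLegIso φ] [HasLTen₃ R] [IsSymMonoidal R]

/-- left side of the linearity of the lax structure for the left action -/
noncomputable def dagL (X Y : Dual.D R') :
    (LTen₂ R).obj ((LTen₂ R).obj ((DRing.restrictD φ).obj (unit R'), (DRing.restrictD φ).obj X),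
      (DRing.restrictD φ).obj Y) ⟶ (DRing.restrictD φ).obj ((LTen₂ R').obj (X, Y)) :=
  (LTen₂ R).map (Prod.mkHom (actL φ X) (𝟙 ((DRing.restrictD φ).obj Y))) ≫ (resPF φ).app (X, Y)

/-- right side of the linearity of the lax structure for the left action -/
noncomputable def dagR (X Y : Dual.D R') :
    (LTen₂ R).obj ((LTen₂ R).obj ((DRing.restrictD φ).obj (unit R'), (DRing.restrictD φ).obj X),
      (DRing.restrictD φ).obj Y) ⟶ (DRing.restrictD φ).obj ((LTen₂ R').obj (X, Y)) :=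
  (DTen.associator ((DRing.restrictD φ).obj (unit R')) ((DRing.restrictD φ).obj X)
      ((DRing.restrictD φ).obj Y)).hom ≫
    (LTen₂ R).map (Prod.mkHom (𝟙 ((DRing.restrictD φ).obj (unit R'))) ((resPF φ).app (X, Y))) ≫
    actL φ ((LTen₂ R').obj (X, Y))

omit [HasLTen₃ R] [IsSymMonoidal R] in
lemma dagL_Q (X₀ Y₀ : DRing.Cx R') :
    dagL φ (DerivedCategory.Q.obj X₀) (DerivedCategory.Q.obj Y₀) ≫ (resβB φ).app (X₀, Y₀) =
      (LTen₂ R).map (Prod.mkHom ((LTen₂ R).map (Prod.mkHom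
        ((resFactors φ).hom.app (𝟙_ (DRing.Cx R'))) ((resFactors φ).hom.app X₀)))
        ((resFactors φ).hom.app Y₀)) ≫
      (LTen₂ R).map (Prod.mkHom
        ((ε R).app ((resCx φ).obj (𝟙_ (DRing.Cx R')), (resCx φ).obj X₀))
        (𝟙 (DerivedCategory.Q.obj ((resCx φ).obj Y₀)))) ≫
      (ε R).app ((resCx φ).obj (𝟙_ (DRing.Cx R')) ⊗ (resCx φ).obj X₀, (resCx φ).obj Y₀) ≫
      DerivedCategory.Q.map ((aL φ X₀ ▷ (resCx φ).obj Y₀) ≫ resTenCx φ X₀ Y₀) := by
  dsimp only [dagL]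
  rw [assoc]
  have s1 := resPF_fac φ (X₀, Y₀)
  dsimp only [Functor.prod_obj] at s1
  erw [s1]
  have s2 : (resβA φ).app (X₀, Y₀) =
      (LTen₂ R).map (Prod.mkHom ((resFactors φ).hom.app X₀) ((resFactors φ).hom.app Y₀)) ≫
      (ε R).app ((resCx φ).obj X₀, (resCx φ).obj Y₀) ≫
      DerivedCategory.Q.map (resTenCx φ X₀ Y₀) := rfl
  rw [s2, tM_comp_assoc, id_comp, actL_Q]
  have s3 := (ε R).naturality (Prod.mkHom (aL φ X₀) (𝟙 ((resCx φ).obj Y₀)) :
    ((resCx φ).obj (𝟙_ (DRing.Cx R')) ⊗ (resCx φ).obj X₀, (resCx φ).obj Y₀) ⟶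
      ((resCx φ).obj X₀, (resCx φ).obj Y₀))
  dsimp at s3
  rw [MonoidalCategory.whiskerLeft_id, comp_id] at s3
  rw [Functor.map_comp, ← reassoc_of% s3, tM_comp_assoc, tM_comp_assoc]
  congr 2
  simp only [CategoryTheory.Functor.map_id, comp_id, assoc]
  erw [comp_id]

lemma dagR_Q (X₀ Y₀ : DRing.Cx R') :
    dagR φ (DerivedCategory.Q.obj X₀) (DerivedCategory.Q.obj Y₀) ≫ (resβB φ).app (X₀, Y₀) =
      (LTen₂ R).map (Prod.mkHom ((LTen₂ R).map (Prod.mkHom
        ((resFactors φ).hom.app (𝟙_ (DRing.Cx R'))) ((resFactors φ).hom.app X₀)))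
        ((resFactors φ).hom.app Y₀)) ≫
      (LTen₂ R).map (Prod.mkHom
        ((ε R).app ((resCx φ).obj (𝟙_ (DRing.Cx R')), (resCx φ).obj X₀))
        (𝟙 (DerivedCategory.Q.obj ((resCx φ).obj Y₀)))) ≫
      (ε R).app ((resCx φ).obj (𝟙_ (DRing.Cx R')) ⊗ (resCx φ).obj X₀, (resCx φ).obj Y₀) ≫
      DerivedCategory.Q.map
        ((α_ ((resCx φ).obj (𝟙_ (DRing.Cx R'))) ((resCx φ).obj X₀) ((resCx φ).obj Y₀)).hom ≫
          ((resCx φ).obj (𝟙_ (DRing.Cx R')) ◁ resTenCx φ X₀ Y₀) ≫ aL φ (X₀ ⊗ Y₀)) := by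
  dsimp only [dagR]
  -- (1) naturality of `actL`
  have t1 := actL_naturality φ ((ε R').app (X₀, Y₀))
  -- (2) `actL_Q`
  have t2 := actL_Q φ (X₀ ⊗ Y₀)
  have e1 : actL φ ((LTen₂ R').obj (DerivedCategory.Q.obj X₀, DerivedCategory.Q.obj Y₀)) ≫
      (resβB φ).app (X₀, Y₀) =
      (LTen₂ R).map (Prod.mkHom ((resFactors φ).hom.app (𝟙_ (DRing.Cx R')))
        ((DRing.restrictD φ).map ((ε R').app (X₀, Y₀)) ≫ (resFactors φ).hom.app (X₀ ⊗ Y₀))) ≫
      (ε R).app ((resCx φ).obj (𝟙_ (DRing.Cx R')), (resCx φ).obj (X₀ ⊗ Y₀)) ≫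
      DerivedCategory.Q.map (aL φ (X₀ ⊗ Y₀)) := by
    dsimp only [resβB]
    erw [← reassoc_of% t1, t2, tM_comp_assoc, id_comp]
  simp only [assoc]
  rw [e1, tM_comp_assoc, id_comp]
  -- (3) `resPF_fac`
  have s1 := resPF_fac φ (X₀, Y₀)
  dsimp only [Functor.prod_obj, resβB] at s1
  erw [s1]
  -- (4)
  have s2 : (resβA φ).app (X₀, Y₀) =
      (LTen₂ R).map (Prod.mkHom ((resFactors φ).hom.app X₀) ((resFactors φ).hom.app Y₀)) ≫
      (ε R).app ((resCx φ).obj X₀, (resCx φ).obj Y₀) ≫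
      DerivedCategory.Q.map (resTenCx φ X₀ Y₀) := rfl
  rw [s2]
  have e2 : (LTen₂ R).map (Prod.mkHom ((resFactors φ).hom.app (𝟙_ (DRing.Cx R')))
      ((LTen₂ R).map (Prod.mkHom ((resFactors φ).hom.app X₀) ((resFactors φ).hom.app Y₀)) ≫
      (ε R).app ((resCx φ).obj X₀, (resCx φ).obj Y₀) ≫
      DerivedCategory.Q.map (resTenCx φ X₀ Y₀))) =
      (LTen₂ R).map (Prod.mkHom ((resFactors φ).hom.app (𝟙_ (DRing.Cx R')))
        ((LTen₂ R).map (Prod.mkHom ((resFactors φ).hom.app X₀) ((resFactors φ).hom.app Y₀)))) ≫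
      (LTen₂ R).map (Prod.mkHom (𝟙 (DerivedCategory.Q.obj ((resCx φ).obj (𝟙_ (DRing.Cx R')))))
        ((ε R).app ((resCx φ).obj X₀, (resCx φ).obj Y₀))) ≫
      (LTen₂ R).map (Prod.mkHom
        (DerivedCategory.Q.map (𝟙 ((resCx φ).obj (𝟙_ (DRing.Cx R')))))
        (DerivedCategory.Q.map (resTenCx φ X₀ Y₀))) := by
    rw [tM_comp, tM_comp, CategoryTheory.Functor.map_id]
    congr 2
    · erw [comp_id]
  rw [e2]
  simp only [assoc]
  -- (5) naturality of ε
  have s3 := (ε R).naturality (Prod.mkHom (𝟙 ((resCx φ).obj (𝟙_ (DRing.Cx R')))) (resTenCx φ X₀ Y₀) :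
    ((resCx φ).obj (𝟙_ (DRing.Cx R')), (resCx φ).obj X₀ ⊗ (resCx φ).obj Y₀) ⟶
      ((resCx φ).obj (𝟙_ (DRing.Cx R')), (resCx φ).obj (X₀ ⊗ Y₀)))
  dsimp at s3
  rw [MonoidalCategory.id_whiskerRight, id_comp] at s3
  erw [reassoc_of% s3]
  -- (6) naturality of the associator
  have s4 := associator_naturality ((resFactors φ).hom.app (𝟙_ (DRing.Cx R')))
    ((resFactors φ).hom.app X₀) ((resFactors φ).hom.app Y₀)
  rw [← reassoc_of% s4]
  -- (7)
  have s5 := associator_β ((resCx φ).obj (𝟙_ (DRing.Cx R'))) ((resCx φ).obj X₀) ((resCx φ).obj Y₀)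
  dsimp only [βR, βL] at s5
  erw [reassoc_of% s5]
  simp only [Functor.map_comp]

lemma dagger_Q (X₀ Y₀ : DRing.Cx R') (hX : Groth.Agent.H4.TC4.KFlat X₀) :
    dagL φ (DerivedCategory.Q.obj X₀) (DerivedCategory.Q.obj Y₀) =
      dagR φ (DerivedCategory.Q.obj X₀) (DerivedCategory.Q.obj Y₀) := by
  haveI : IsIso ((ε R').app (X₀, Y₀)) := Groth.Agent.H4.LK4.isIso_ε_of_kflat X₀ Y₀ (Or.inl hX)
  haveI : IsIso ((resβB φ).app (X₀, Y₀)) := by
    dsimp only [resβB]
    infer_instance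
  rw [← cancel_mono ((resβB φ).app (X₀, Y₀)), dagL_Q, dagR_Q, daggerCx]

omit [HasLTen₃ R] [IsSymMonoidal R] in
lemma dagL_naturality {X X' Y Y' : Dual.D R'} (f : X ⟶ X') (g : Y ⟶ Y') :
    (LTen₂ R).map (Prod.mkHom ((LTen₂ R).map (Prod.mkHom
      (𝟙 ((DRing.restrictD φ).obj (unit R'))) ((DRing.restrictD φ).map f)))
      ((DRing.restrictD φ).map g)) ≫ dagL φ X' Y' =
    dagL φ X Y ≫ (DRing.restrictD φ).map ((LTen₂ R').map (Prod.mkHom f g)) := by
  dsimp only [dagL]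
  have h1 := actL_naturality φ f
  have h2 := (resPF φ).naturality (Prod.mkHom f g : (X, Y) ⟶ (X', Y'))
  dsimp at h2
  rw [tM_comp_assoc, h1, comp_id, assoc, ← h2, tM_comp_assoc, id_comp]

lemma dagR_naturality {X X' Y Y' : Dual.D R'} (f : X ⟶ X') (g : Y ⟶ Y') :
    (LTen₂ R).map (Prod.mkHom ((LTen₂ R).map (Prod.mkHom
      (𝟙 ((DRing.restrictD φ).obj (unit R'))) ((DRing.restrictD φ).map f)))
      ((DRing.restrictD φ).map g)) ≫ dagR φ X' Y' =
    dagR φ X Y ≫ (DRing.restrictD φ).map ((LTen₂ R').map (Prod.mkHom f g)) := by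
  dsimp only [dagR]
  have h0 := associator_naturality (𝟙 ((DRing.restrictD φ).obj (unit R')))
    ((DRing.restrictD φ).map f) ((DRing.restrictD φ).map g)
  have h1 := actL_naturality φ ((LTen₂ R').map (Prod.mkHom f g : (X, Y) ⟶ (X', Y')))
  have h2 := (resPF φ).naturality (Prod.mkHom f g : (X, Y) ⟶ (X', Y'))
  dsimp at h2
  rw [reassoc_of% h0, tM_comp_assoc, id_comp, h2, assoc, assoc, ← h1, tM_comp_assoc, id_comp]

/-- **the lax monoidal structure of restriction is linear for the left action of `res R'`**. -/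
theorem dagger (X Y : Dual.D R') : dagL φ X Y = dagR φ X Y := by
  obtain ⟨X₀, -, -, hX, ⟨e₁⟩⟩ := Groth.Agent.H4.LK4.exists_kproj_kflat_iso X
  obtain ⟨Y₀, -, -, -, ⟨e₂⟩⟩ := Groth.Agent.H4.LK4.exists_kproj_kflat_iso Y
  have hQ := dagger_Q φ X₀ Y₀ hX
  have nL := dagL_naturality φ e₁.hom e₂.hom
  have nR := dagR_naturality φ e₁.hom e₂.hom
  haveI : IsIso (Prod.mkHom (𝟙 ((DRing.restrictD φ).obj (unit R')))
      ((DRing.restrictD φ).map e₁.hom)) := by
    rw [isIso_prod_iff]; exact ⟨inferInstance, inferInstance⟩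
  haveI : IsIso (Prod.mkHom ((LTen₂ R).map (Prod.mkHom
      (𝟙 ((DRing.restrictD φ).obj (unit R'))) ((DRing.restrictD φ).map e₁.hom)))
      ((DRing.restrictD φ).map e₂.hom)) := by
    rw [isIso_prod_iff]; exact ⟨inferInstance, inferInstance⟩
  rw [← cancel_epi ((LTen₂ R).map (Prod.mkHom ((LTen₂ R).map (Prod.mkHom
      (𝟙 ((DRing.restrictD φ).obj (unit R'))) ((DRing.restrictD φ).map e₁.hom)))
      ((DRing.restrictD φ).map e₂.hom))), nL, nR, hQ]

end Dagger
end Groth.Agent.H4.TB12
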