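import Mathlib
import Groth.Agent.H4.TB12
import Groth.Agent.H4.TB10
import Groth.Agent.H4.RB4

open CategoryTheory Category Limits MonoidalCategory

universe u

namespace Groth.Agent.H4.TB13

open DTen Groth.Agent.H4.TB12 Groth.Agent.H4.EV3 Groth.Agent.H4.RB1 Groth.Agent.H4.RB4

attribute [local instance] HasDerivedCategory.standard

set_option quotPrecheck false in
/-- notation for the object part of `⊗^L` -/
local notation:max "tO(" a ", " b ")" => (LTen₂ _).obj (a, b)

set_option quotPrecheck false in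
/-- notation for the map part of `⊗^L` -/
local notation:max "tM(" f ", " g ")" => (LTen₂ _).map (Prod.mkHom f g)

section LamL

variable {R R' : Type u} [CommRing R] [CommRing R'] (φ : R →+* R')
variable [HasLTen R] [HasLTen R'] [HasLBase φ] [HasResTen φ] [ResLegIso φ]

/-- the left-handed projection formula `res R' ⊗ Z ⟶ res (L Z)`. -/
noncomputable def lamL (Z : Dual.D R) :
    (LTen₂ R).obj ((DRing.restrictD φ).obj (unit R'), Z) ⟶
      (DRing.restrictD φ).obj ((LBase φ).obj Z) :=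
  (LTen₂ R).map (Prod.mkHom (𝟙 _) ((baseAdj φ).unit.app Z)) ≫ actL φ ((LBase φ).obj Z)

lemma lamL_eq (Z : Dual.D R) :
    lamL φ Z = projPF φ (unit R') Z ≫
      (DRing.restrictD φ).map ((unitL R').app ((LBase φ).obj Z)) := by
  dsimp only [lamL, actL, projPF]
  rw [assoc]

instance isIso_lamL (Z : Dual.D R) : IsIso (lamL φ Z) := by
  rw [lamL_eq]
  haveI := Groth.Agent.H4.RB2.isIso_projPF φ (unit R') Z
  haveI := Groth.Agent.H4.KI7.isIso_unitL_app ((LBase φ).obj Z)
  infer_instance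

lemma lamL_naturality {Z Z' : Dual.D R} (f : Z ⟶ Z') :
    (LTen₂ R).map (Prod.mkHom (𝟙 ((DRing.restrictD φ).obj (unit R'))) f) ≫ lamL φ Z' =
      lamL φ Z ≫ (DRing.restrictD φ).map ((LBase φ).map f) := by
  dsimp only [lamL]
  have h1 := (baseAdj φ).unit.naturality f
  have h2 := actL_naturality φ ((LBase φ).map f)
  dsimp at h1
  rw [tM_comp_assoc, id_comp, h1, assoc, ← h2, tM_comp_assoc, id_comp]

lemma mm_eq_unit_mmAdj (H K : Dual.D R) :
    mm φ H K = (baseAdj φ).unit.app ((LTen₂ R).obj (H, K)) ≫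
      (DRing.restrictD φ).map (mmAdj φ H K) := by
  have := (baseAdj φ).homEquiv_unit (f := mmAdj φ H K)
  rw [← this]
  dsimp only [mmAdj]
  rw [Equiv.apply_symm_apply]

variable [HasLTen₃ R] [IsSymMonoidal R]

/-- compatibility of `lamL` with the monoidal structure of `L` -/
@[reassoc]
theorem lamL_mm (H K : Dual.D R) :
    (LTen₂ R).map (Prod.mkHom (lamL φ H) ((baseAdj φ).unit.app K)) ≫
      (resPF φ).app ((LBase φ).obj H, (LBase φ).obj K) =
    (DTen.associator ((DRing.restrictD φ).obj (unit R')) H K).hom ≫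
      lamL φ ((LTen₂ R).obj (H, K)) ≫ (DRing.restrictD φ).map (mmAdj φ H K) := by
  have h1 : (LTen₂ R).map (Prod.mkHom (lamL φ H) ((baseAdj φ).unit.app K)) ≫
      (resPF φ).app ((LBase φ).obj H, (LBase φ).obj K) =
      (LTen₂ R).map (Prod.mkHom ((LTen₂ R).map (Prod.mkHom
        (𝟙 ((DRing.restrictD φ).obj (unit R'))) ((baseAdj φ).unit.app H)))
        ((baseAdj φ).unit.app K)) ≫ dagL φ ((LBase φ).obj H) ((LBase φ).obj K) := by
    dsimp only [lamL, dagL]
    rw [tM_comp_assoc]
    erw [comp_id]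
  rw [h1, dagger]
  dsimp only [dagR]
  have h2 := associator_naturality (𝟙 ((DRing.restrictD φ).obj (unit R')))
    ((baseAdj φ).unit.app H) ((baseAdj φ).unit.app K)
  rw [reassoc_of% h2, tM_comp_assoc, id_comp]
  have h3 : (LTen₂ R).map (Prod.mkHom ((baseAdj φ).unit.app H) ((baseAdj φ).unit.app K)) ≫
      (resPF φ).app ((LBase φ).obj H, (LBase φ).obj K) = mm φ H K := rfl
  rw [h3, mm_eq_unit_mmAdj]
  have h4 := actL_naturality φ (mmAdj φ H K)
  dsimp only [lamL]
  rw [assoc, ← h4, tM_comp_assoc, id_comp]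

end LamL


section Bridge

variable {R R' : Type u} [CommRing R] [CommRing R'] (φ : R →+* R')
variable [HasLTen R] [HasLTen R'] [HasRHom R] [HasRHom R'] [HasLBase φ] [HasResTen φ] [ResLegIso φ]

omit [HasLTen R'] [HasRHom R'] [HasLBase φ] [HasResTen φ] [ResLegIso φ] in
lemma rhom_symm_eq {L Z N : Dual.D R} (f : Z ⟶ (RHomR R L).obj N) :
    (rhomHomEquiv Z L N).symm f = (LTen₂ R).map (Prod.mkHom f (𝟙 L)) ≫ ev L N :=
  (rhomAdj R L).homEquiv_counit _ _ _

omit [HasLTen R'] [HasRHom R'] [HasLBase φ] [HasResTen φ] [ResLegIso φ] in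
lemma ev_naturality (L : Dual.D R) {N N' : Dual.D R} (g : N ⟶ N') :
    (LTen₂ R).map (Prod.mkHom ((RHomR R L).map g) (𝟙 L)) ≫ ev L N' = ev L N ≫ g :=
  (rhomAdj R L).counit.naturality g

variable [HasLTen₃ R] [IsSymMonoidal R]

/-- **the bridge**: restriction of the base change map for `RHom` is the evaluation map. -/
theorem bridge (K M : Dual.D R) [IsIso (rhomBC φ K ((LBase φ).obj M))] :
    lamL φ ((RHomR R K).obj M) ≫ (DRing.restrictD φ).map (bcRHom φ K M) ≫
        rhomBC φ K ((LBase φ).obj M) =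
      evalTen ((DRing.restrictD φ).obj (unit R')) M K ≫ (RHomR R K).map (lamL φ M) := by
  apply (rhomHomEquiv _ _ _).symm.injective
  rw [rhom_symm_eq, rhom_symm_eq]
  -- RHS
  have r1 : (LTen₂ R).map (Prod.mkHom (evalTen ((DRing.restrictD φ).obj (unit R')) M K ≫
      (RHomR R K).map (lamL φ M)) (𝟙 K)) ≫ ev K ((DRing.restrictD φ).obj ((LBase φ).obj M)) =
      evalTenAux ((DRing.restrictD φ).obj (unit R')) M K ≫ lamL φ M := by
    have h1 := ev_naturality K (lamL φ M)
    have h2 := evalTen_fac ((DRing.restrictD φ).obj (unit R')) M K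
    rw [← h2, assoc, ← h1, tM_comp_assoc, id_comp]
  rw [r1]
  -- LHS
  have l1 := rhomBC_fac φ K ((LBase φ).obj M)
  have l2 : (LTen₂ R).map (Prod.mkHom (lamL φ ((RHomR R K).obj M) ≫
      (DRing.restrictD φ).map (bcRHom φ K M) ≫ rhomBC φ K ((LBase φ).obj M)) (𝟙 K)) ≫
      ev K ((DRing.restrictD φ).obj ((LBase φ).obj M)) =
      (LTen₂ R).map (Prod.mkHom (lamL φ ((RHomR R K).obj M) ≫
        (DRing.restrictD φ).map (bcRHom φ K M)) (𝟙 K)) ≫ rhomBCCore φ K ((LBase φ).obj M) := by
    rw [← l1]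
    change _ = _ ≫ (LTen₂ R).map (Prod.mkHom (rhomBC φ K ((LBase φ).obj M)) (𝟙 K)) ≫ _
    rw [tM_comp_assoc, id_comp, assoc]
  rw [l2]
  dsimp only [rhomBCCore]
  have l3 := (resPF φ).naturality (Prod.mkHom (bcRHom φ K M) (𝟙 ((LBase φ).obj K)) :
    ((LBase φ).obj ((RHomR R K).obj M), (LBase φ).obj K) ⟶
      ((RHomR R' ((LBase φ).obj K)).obj ((LBase φ).obj M), (LBase φ).obj K))
  dsimp at l3
  rw [CategoryTheory.Functor.map_id] at l3
  have l4 : (LTen₂ R).map (Prod.mkHom (lamL φ ((RHomR R K).obj M) ≫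
      (DRing.restrictD φ).map (bcRHom φ K M)) (𝟙 K)) ≫
      (LTen₂ R).map (Prod.mkHom (𝟙 _) ((baseAdj φ).unit.app K)) =
      (LTen₂ R).map (Prod.mkHom (lamL φ ((RHomR R K).obj M)) ((baseAdj φ).unit.app K)) ≫
      (LTen₂ R).map (Prod.mkHom ((DRing.restrictD φ).map (bcRHom φ K M))
        (𝟙 ((DRing.restrictD φ).obj ((LBase φ).obj K)))) := by
    rw [tM_comp, tM_comp, comp_id, id_comp]
    erw [comp_id]
  rw [reassoc_of% l4, reassoc_of% l3, ← Functor.map_comp]
  have l5 : (LTen₂ R').map (Prod.mkHom (bcRHom φ K M) (𝟙 ((LBase φ).obj K))) ≫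
      ev ((LBase φ).obj K) ((LBase φ).obj M) = bcFlat φ K M := by
    dsimp only [bcFlat]
    exact ((rhomAdj R' ((LBase φ).obj K)).homEquiv_counit _ _ _).symm
  rw [l5, lamL_mm_assoc, ← Functor.map_comp, mmAdj_comp_bcFlat]
  have l6 := lamL_naturality φ (ev K M)
  rw [← l6]
  dsimp only [evalTenAux]
  rw [assoc]

end Bridge

section Main

variable {R R' : Type u} [CommRing R] [CommRing R'] (φ : R →+* R')
variable [HasLTen R] [HasLTen R'] [HasRHom R] [HasRHom R'] [HasLBase φ] [HasResTen φ] [ResLegIso φ]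
  [HasLTen₃ R] [IsSymMonoidal R]

/-- the base change map for `RHom` is an isomorphism iff the evaluation map with `R'` is. -/
theorem isIso_bcRHom_iff (K M : Dual.D R) [IsIso (rhomBC φ K ((LBase φ).obj M))] :
    IsIso (bcRHom φ K M) ↔
      IsIso (evalTen ((DRing.restrictD φ).obj (unit R')) M K) := by
  have hb := bridge φ K M
  haveI : IsIso ((RHomR R K).map (lamL φ M)) := inferInstance
  constructor
  · intro h
    haveI := h
    have h1 : IsIso (evalTen ((DRing.restrictD φ).obj (unit R')) M K ≫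
        (RHomR R K).map (lamL φ M)) := by
      rw [← hb]
      infer_instance
    exact IsIso.of_isIso_comp_right _ ((RHomR R K).map (lamL φ M))
  · intro h
    haveI := h
    apply Groth.Agent.H4.TB10.isIso_of_isIso_restrictD φ
    have h1 : (DRing.restrictD φ).map (bcRHom φ K M) =
        inv (lamL φ ((RHomR R K).obj M)) ≫
          (evalTen ((DRing.restrictD φ).obj (unit R')) M K ≫ (RHomR R K).map (lamL φ M)) ≫
          inv (rhomBC φ K ((LBase φ).obj M)) := by
      rw [← hb]
      simp only [assoc, IsIso.hom_inv_id, comp_id, IsIso.inv_hom_id_assoc]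
    rw [h1]
    infer_instance

end Main

section Statements

attribute [local instance] Groth.Agent.H4.LK4.hasLTen Groth.Agent.H4.LK5.hasLTen₃
  Groth.Agent.H4.KI7.isSymMonoidal Groth.Agent.H4.KI6.hasRHom
  Groth.Agent.H4.RB2.hasResTen Groth.Agent.H4.RB2.resLegIso

/-- S13564 -/
theorem S13564 (R A R' A' : Type u) [CommRing R] [CommRing A] [CommRing R'] [CommRing A']
    [Algebra R A] [Algebra R R'] [Algebra A A'] [Algebra R' A'] [Algebra R A'] [IsScalarTower R A A']
    [IsScalarTower R R' A'] [Algebra.IsPushout R A R' A']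
    (htor : ∀ p : ℕ, 1 ≤ p → Subsingleton (DRing.Tor R p A R'))
    [DRing.HasLBaseChange (algebraMap R R')] [DRing.HasLBaseChange (algebraMap A A')]
    (adjρ : DRing.LBaseChange (algebraMap R R') ⊣ DRing.restrictD (algebraMap R R'))
    (adjα : DRing.LBaseChange (algebraMap A A') ⊣ DRing.restrictD (algebraMap A A'))
    (h : (algebraMap A A').comp (algebraMap R A) = (algebraMap R' A').comp (algebraMap R R'))
    (Rφ : Dual.D R ⥤ Dual.D A) (adj : DRing.restrictD (algebraMap R A) ⊣ Rφ)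
    (Rφ' : Dual.D R' ⥤ Dual.D A') (adj' : DRing.restrictD (algebraMap R' A') ⊣ Rφ')
    (K : Dual.D R) (hc : IsIso (TrivBC.cmp adjρ adjα h (Rφ.obj K))) :
    IsIso (TrivBC.bcMap adjρ adjα h adj adj' K hc) ↔
      IsIso (DTen.evalTen ((DRing.restrictD (algebraMap R R')).obj (DTen.unit R')) K
        ((DRing.restrictD (algebraMap R A)).obj (DTen.unit A))) := by
  haveI : HasLBase (algebraMap R R') := ⟨adjρ.isRightAdjoint⟩
  haveI := isIso_rhomBC (algebraMap R R') ((DRing.restrictD (algebraMap R A)).obj (unit A))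
    ((LBase (algebraMap R R')).obj K)
  rw [Groth.Agent.H4.TB10.isIso_bcMap_iff R A R' A' htor adjρ adjα h Rφ adj Rφ' adj' K hc]
  exact isIso_bcRHom_iff (algebraMap R R') ((DRing.restrictD (algebraMap R A)).obj (unit A)) K

/-- S14265 -/
theorem S14265 (R R' : Type u) [CommRing R] [CommRing R'] [Algebra R R']
    [DTen.HasLBase (algebraMap R R')] (K M : Dual.D R)
    [IsIso (DTen.rhomBC (algebraMap R R') K ((DTen.LBase (algebraMap R R')).obj M))]
    (hR' : DRing.IsPerfectModule R R') :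
    IsIso (DTen.bcRHom (algebraMap R R') K M) := by
  rw [isIso_bcRHom_iff]
  exact Groth.Agent.H4.EV4.isIso_evalTen_of_isPerfect_left _ _ _
    (Groth.Agent.H4.TB10.isPerfect_res_unit R R' hR')

end Statements
end Groth.Agent.H4.TB13
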