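import Mathlib
import Groth.Agent.H4.RB5
import Groth.Agent.H4.DZ3

open CategoryTheory Category Limits MonoidalCategory Pretriangulated Opposite

universe u

namespace Groth.Agent.H4.WO1

open DTen DRing DerivedCategory
open Groth.Agent.H4.EV1 Groth.Agent.H4.EV5 Groth.Agent.H4.AP1 Groth.Agent.H4.AP2
  Groth.Agent.H4.ProjAmp Groth.Agent.H4.DRing1

attribute [local instance] HasDerivedCategory.standard

section WayOutOp

variable {A B : Type u} [CommRing A] [CommRing B]

/-- contravariant way-out criterion for unbounded objects: a natural transformation between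
contravariant Yoneda-exact functors, both way-out, is an isomorphism at `K` if it is one at all
truncations `τ_{<n} K`. -/
theorem isIso_app_of_wayOut_op {F₁ F₂ : (Dual.D A)ᵒᵖ ⥤ Dual.D B} (hF₁ : YExactOp F₁)
    (hF₂ : YExactOp F₂) (τ : F₁ ⟶ F₂) (c₁ c₂ : ℤ)
    (h₁ : ∀ (s : ℤ) (C : Dual.D A), C.IsGE s → (F₁.obj (op C)).IsLE (c₁ - s))
    (h₂ : ∀ (s : ℤ) (C : Dual.D A), C.IsGE s → (F₂.obj (op C)).IsLE (c₂ - s))
    (K : Dual.D A) (htr : ∀ n : ℤ, IsIso (τ.app (op (((tR A).truncLT n).obj K)))) :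
    IsIso (τ.app (op K)) := by
  apply isIso_of_forall_hom_W_bijective
  intro i
  let n : ℤ := max c₁ c₂ - i + 1
  let T := ((tR A).triangleLTGE n).obj K
  have hT : T ∈ distTriang (Dual.D A) := (tR A).triangleLTGE_distinguished n K
  haveI : T.obj₃.IsGE n := inferInstanceAs ((tR A).IsGE T.obj₃ n)
  haveI : IsIso (τ.app (op T.obj₁)) := htr n
  have key : ∀ (F : (Dual.D A)ᵒᵖ ⥤ Dual.D B) (hF : YExactOp F) (c : ℤ)
      (hc : ∀ (s : ℤ) (C : Dual.D A), C.IsGE s → (F.obj (op C)).IsLE (c - s))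
      (hci : c ≤ max c₁ c₂),
      Function.Bijective (fun φ : W B i ⟶ F.obj (op T.obj₂) => φ ≫ F.map T.mor₁.op) := by
    intro F hF c hc hci
    have hTi := inv_rot_of_distTriang T hT
    constructor
    · intro φ₁ φ₂ h12
      rw [← sub_eq_zero]
      have h0 : (φ₁ - φ₂) ≫ F.map T.mor₁.op = 0 := by
        rw [Preadditive.sub_comp]
        exact sub_eq_zero.2 h12
      obtain ⟨ψ, hψ⟩ := (hF _ hT).2 _ (φ₁ - φ₂) h0
      haveI := hc n T.obj₃ inferInstance
      have := hom_W_eq_zero_of_isLE (F.obj (op T.obj₃)) (c - n) i (by omega) ψ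
      rw [← hψ, this]
      exact zero_comp
    · intro ξ
      haveI : (T.obj₃⟦(-1 : ℤ)⟧).IsGE (n + 1) :=
        TStructure.t.isGE_shift T.obj₃ n (-1) (n + 1) (by ring)
      haveI := hc (n + 1) (T.obj₃⟦(-1 : ℤ)⟧) inferInstance
      have h0 := hom_W_eq_zero_of_isLE (F.obj (op (T.obj₃⟦(-1 : ℤ)⟧))) (c - (n + 1)) i (by omega)
        (ξ ≫ F.map T.invRotate.mor₁.op)
      obtain ⟨ψ, hψ⟩ := (hF _ hTi).2 _ ξ h0
      exact ⟨ψ, hψ⟩
  have k₁ := key F₁ hF₁ c₁ h₁ (le_max_left _ _)
  have k₂ := key F₂ hF₂ c₂ h₂ (le_max_right _ _)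
  have hsq : (fun φ : W B i ⟶ F₂.obj (op T.obj₂) => φ ≫ F₂.map T.mor₁.op) ∘
      (fun φ : W B i ⟶ F₁.obj (op T.obj₂) => φ ≫ τ.app (op T.obj₂)) =
      (fun φ : W B i ⟶ F₁.obj (op T.obj₁) => φ ≫ τ.app (op T.obj₁)) ∘
        (fun φ : W B i ⟶ F₁.obj (op T.obj₂) => φ ≫ F₁.map T.mor₁.op) := by
    funext φ
    simp only [Function.comp_apply]
    rw [assoc, assoc, τ.naturality]
  have hcomp : Function.Bijective ((fun φ : W B i ⟶ F₂.obj (op T.obj₂) => φ ≫ F₂.map T.mor₁.op) ∘
      (fun φ : W B i ⟶ F₁.obj (op T.obj₂) => φ ≫ τ.app (op T.obj₂))) := by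
    rw [hsq]
    exact (asIso (τ.app (op T.obj₁))).homToEquiv.bijective.comp k₁
  exact (Function.Bijective.of_comp_iff' k₂ _).1 hcomp

end WayOutOp


section BcFlat

open Groth.Agent.H4.RB1 Groth.Agent.H4.RB2 Groth.Agent.H4.RB3 Groth.Agent.H4.RB4
  Groth.Agent.H4.RB5

variable {R R' : Type u} [CommRing R] [CommRing R'] [Algebra R R']
variable [HasLTen R] [HasLTen R'] [HasRHom R] [HasRHom R'] [HasLBase (algebraMap R R')]
  [HasResTen (algebraMap R R')] [ResLegIso (algebraMap R R')]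
  [HasLTen₃ R] [IsSymMonoidal R] [HasLTen₃ R'] [IsSymMonoidal R']

/-- flat base change for `RHom(K, M)`, `K` with finite cohomology (unbounded), `M` and `L M` of
finite injective amplitude. -/
theorem isIso_bcRHom_of_flat_of_injAmp [IsNoetherianRing R] [Module.Flat R R'] (K M : Dual.D R)
    [IsIso (rhomBC (algebraMap R R') K ((LBase (algebraMap R R')).obj M))]
    (hK : ∀ i : ℤ, Module.Finite R (Dual.HD R K i))
    (a b : ℤ) (hM : HasInjAmplitudeIn R a b M)
    (a' b' : ℤ) (hM' : HasInjAmplitudeIn R' a' b' ((LBase (algebraMap R R')).obj M)) :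
    IsIso (bcRHom (algebraMap R R') K M) := by
  haveI := Groth.Agent.H4.DZ3.isGE_of_injAmp M a b hM
  have hflat : HasTorAmplitudeIn R (-((0 : ℕ) : ℤ)) 0
      ((restrictD (algebraMap R R')).obj (unit R')) :=
    Groth.Agent.H4.TorAmp.hasTorAmp_of_iso (resUnitIso R R').symm
      ((Groth.Agent.S6946.result R R' 0).1.1
        ((Groth.Agent.S6946.result R R' 0).2.2 inferInstance))
  have h := isIso_app_of_wayOut_op (yexactOp_F₁ (algebraMap R R') M)
    (yexactOp_F₂ (algebraMap R R') M) (bcNat (algebraMap R R') M) b b' ?_ ?_ K ?_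
  · exact h
  · intro s C hC
    haveI := hC
    haveI : ((RHomR R C).obj M).IsLE (b - s) := isLE_RHom_of_injAmp C M s a b hM
    exact isLE_LBase (algebraMap R R') ((RHomR R C).obj M) (b - s)
  · intro s C hC
    haveI := hC
    haveI : ((LBase (algebraMap R R')).obj C).IsGE s := by
      have := isGE_LBase (algebraMap R R') _ hflat C s
      simpa using this
    exact isLE_RHom_of_injAmp ((LBase (algebraMap R R')).obj C)
      ((LBase (algebraMap R R')).obj M) s a' b' hM'
  · intro n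
    let T := ((tR R).triangleLTGE n).obj K
    have hT : T ∈ distTriang (Dual.D R) := (tR R).triangleLTGE_distinguished n K
    haveI : T.obj₃.IsGE n := inferInstanceAs ((tR R).IsGE T.obj₃ n)
    haveI : T.obj₁.IsLE (n - 1) := inferInstanceAs ((tR R).IsLE (((tR R).truncLT n).obj K) (n - 1))
    have hfin : ∀ i : ℤ, Module.Finite R ((homologyFunctor (ModuleCat.{u} R) i).obj T.obj₁) := by
      intro i
      by_cases hi : i < n
      · haveI := isIso_homology_mor₁ T hT n i hi
        have e1 : (homologyFunctor (ModuleCat.{u} R) i).obj T.obj₁ ≅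
            (homologyFunctor (ModuleCat.{u} R) i).obj T.obj₂ :=
          asIso ((homologyFunctor (ModuleCat.{u} R) i).map T.mor₁)
        haveI : Module.Finite R ((homologyFunctor (ModuleCat.{u} R) i).obj T.obj₂) := hK i
        exact Module.Finite.equiv e1.symm.toLinearEquiv
      · haveI := ModuleCat.subsingleton_of_isZero (isZero_of_isLE T.obj₁ (n - 1) i (by omega))
        infer_instance
    have hpc : IsPseudoCoherent' R T.obj₁ := by
      refine Groth.Agent.H4.PC.isPC'_of_forall_isPC _ (fun m => ?_)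
      rw [Groth.Agent.H4.PC.isPC_iff_of_noetherian]
      exact ⟨⟨n - 1, fun i hi => isZero_of_isLE T.obj₁ (n - 1) i hi⟩, fun i _ => hfin i⟩
    haveI := isIso_rhomBC (algebraMap R R') T.obj₁ ((LBase (algebraMap R R')).obj M)
    exact isIso_bcRHom_of_flat T.obj₁ M hpc a inferInstance

end BcFlat
end Groth.Agent.H4.WO1
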