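import Mathlib
import Groth.Agent.H4.WO1
import Groth.Agent.H4.TB13
import Groth.Agent.H4.US21
import Groth.Agent.H4.FibPerf

open CategoryTheory Category Limits MonoidalCategory Pretriangulated Opposite ZeroObject

universe u

namespace Groth.Agent.H4.FR12

open DTen DRing DerivedCategory
open Groth.Agent.H4.EV1 Groth.Agent.H4.EV5 Groth.Agent.H4.EV3 Groth.Agent.H4.CF1
  Groth.Agent.H4.RB1 Groth.Agent.H4.RB2

attribute [local instance] HasDerivedCategory.standard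

set_option quotPrecheck false in
/-- notation for the object part of `⊗^L` -/
local notation:max "tO(" a ", " b ")" => (LTen₂ _).obj (a, b)

set_option quotPrecheck false in
/-- notation for the map part of `⊗^L` -/
local notation:max "tM(" f ", " g ")" => (LTen₂ _).map (Prod.mkHom f g)

section GoodShift

variable {A : Type u} [CommRing A]

/-- a good additive functor commutes with the shift by one, up to non-canonical isomorphism. -/
lemma Good.nonempty_shift_one_iso {F : Dual.D A ⥤ Dual.D A} (hF : Good F) [F.Additive]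
    (X : Dual.D A) : Nonempty (F.obj (X⟦(1 : ℤ)⟧) ≅ (F.obj X)⟦(1 : ℤ)⟧) := by
  have hT := contractible_distinguished₂ X
  obtain ⟨w, hw⟩ := hF.cpl _ hT
  have hz : IsZero (F.obj (0 : Dual.D A)) := F.map_isZero (isZero_zero _)
  have hw' : IsIso w := (Triangle.isZero₂_iff_isIso₃ _ hw).1 hz
  exact ⟨@asIso _ _ _ _ w hw'⟩

/-- a good additive functor commutes with the shift by a natural number, up to non-canonical
isomorphism. -/
lemma Good.nonempty_shift_iso {F : Dual.D A ⥤ Dual.D A} (hF : Good F) [F.Additive]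
    (X : Dual.D A) (n : ℕ) : Nonempty (F.obj (X⟦(n : ℤ)⟧) ≅ (F.obj X)⟦(n : ℤ)⟧) := by
  induction n with
  | zero =>
    exact ⟨F.mapIso ((shiftFunctorZero (Dual.D A) ℤ).app X) ≪≫
      ((shiftFunctorZero (Dual.D A) ℤ).app (F.obj X)).symm⟩
  | succ n ih =>
    obtain ⟨e⟩ := ih
    obtain ⟨e1⟩ := Good.nonempty_shift_one_iso hF (X⟦(n : ℤ)⟧)
    have h : (n : ℤ) + 1 = ((n + 1 : ℕ) : ℤ) := by push_cast; ring
    exact ⟨F.mapIso ((shiftFunctorAdd' (Dual.D A) (n : ℤ) 1 _ h).app X) ≪≫ e1 ≪≫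
      (shiftFunctor (Dual.D A) (1 : ℤ)).mapIso e ≪≫
      ((shiftFunctorAdd' (Dual.D A) (n : ℤ) 1 _ h).app (F.obj X)).symm⟩

end GoodShift


section KapR

variable {P B : Type u} [CommRing P] [CommRing B] (ψ : P →+* B)
variable [HasLTen P] [HasLTen B] [HasRHom P] [HasRHom B] [HasLBase ψ] [HasResTen ψ] [ResLegIso ψ]
variable {Rψ : Dual.D P ⥤ Dual.D B} (adj : DRing.restrictD ψ ⊣ Rψ)

/-- the map `res(X) ⊗ N ⟶ W` attached to `g : X ⟶ Rψ RHom(N, W)` -/
noncomputable def kapCore (N W : Dual.D P) :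
    (LTen₂ P).obj ((DRing.restrictD ψ).obj (Rψ.obj ((RHomR P N).obj W)), N) ⟶ W :=
  (LTen₂ P).map (Prod.mkHom (adj.counit.app ((RHomR P N).obj W)) (𝟙 N)) ≫ ev N W

/-- the comparison `Rψ RHom_P(N, W) ⟶ RHom_B(L N, Rψ W)`. -/
noncomputable def kapR (N W : Dual.D P) :
    Rψ.obj ((RHomR P N).obj W) ⟶ (RHomR B ((LBase ψ).obj N)).obj (Rψ.obj W) :=
  haveI := isIso_projPF ψ (Rψ.obj ((RHomR P N).obj W)) N
  rhomHomEquiv _ _ _ (adj.homEquiv _ _
    (inv (projPF ψ (Rψ.obj ((RHomR P N).obj W)) N) ≫ kapCore ψ adj N W))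

lemma kapR_key (N W : Dual.D P) (X : Dual.D B) (g : X ⟶ Rψ.obj ((RHomR P N).obj W)) :
    haveI := isIso_projPF ψ X N
    (adj.homEquiv _ _).symm ((rhomHomEquiv _ _ _).symm (g ≫ kapR ψ adj N W)) =
      inv (projPF ψ X N) ≫ (rhomHomEquiv _ _ _).symm ((adj.homEquiv _ _).symm g) := by
  haveI := isIso_projPF ψ X N
  haveI := isIso_projPF ψ (Rψ.obj ((RHomR P N).obj W)) N
  have h0 : (rhomHomEquiv X ((LBase ψ).obj N) (Rψ.obj W)).symm (g ≫ kapR ψ adj N W) =
      (LTen₂ B).map (Prod.mkHom g (𝟙 ((LBase ψ).obj N))) ≫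
        (rhomHomEquiv _ _ _).symm (kapR ψ adj N W) :=
    (rhomAdj B ((LBase ψ).obj N)).homEquiv_naturality_left_symm g (kapR ψ adj N W)
  rw [h0]
  dsimp only [kapR]
  rw [Equiv.symm_apply_apply, Adjunction.homEquiv_naturality_left_symm, Equiv.symm_apply_apply]
  have h1 := projPF_naturality ψ g (𝟙 N)
  rw [CategoryTheory.Functor.map_id] at h1
  have h2 : (DRing.restrictD ψ).map ((LTen₂ B).map (Prod.mkHom g (𝟙 ((LBase ψ).obj N)))) ≫
      inv (projPF ψ (Rψ.obj ((RHomR P N).obj W)) N) =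
      inv (projPF ψ X N) ≫ (LTen₂ P).map (Prod.mkHom ((DRing.restrictD ψ).map g) (𝟙 N)) := by
    rw [IsIso.eq_inv_comp, ← assoc, IsIso.comp_inv_eq, h1]
  rw [reassoc_of% h2]
  congr 1
  dsimp only [kapCore]
  rw [tM_comp_assoc, comp_id, Adjunction.homEquiv_counit]
  exact ((rhomAdj P N).homEquiv_counit _ _ _).symm

/-- `Rψ RHom_P(N, W) ≅ RHom_B(L N, Rψ W)` -/
theorem isIso_kapR (N W : Dual.D P) : IsIso (kapR ψ adj N W) := by
  rw [isIso_iff_yoneda_map_bijective]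
  intro X
  haveI := isIso_projPF ψ X N
  have e : (fun g : X ⟶ Rψ.obj ((RHomR P N).obj W) => g ≫ kapR ψ adj N W) =
      (rhomHomEquiv _ _ _) ∘ (adj.homEquiv _ _) ∘ (fun t => inv (projPF ψ X N) ≫ t) ∘
        (rhomHomEquiv _ _ _).symm ∘ (adj.homEquiv _ _).symm := by
    funext g
    dsimp only [Function.comp_apply]
    rw [← kapR_key ψ adj N W X g, Equiv.apply_symm_apply, Equiv.apply_symm_apply]
  rw [e]
  exact (Equiv.bijective _).comp ((Equiv.bijective _).comp ((bijective_precomp_iso _).comp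
    ((Equiv.bijective _).comp (Equiv.bijective _))))

end KapR

section S8956

attribute [local instance] Groth.Agent.H4.LK4.hasLTen Groth.Agent.H4.LK5.hasLTen₃
  Groth.Agent.H4.KI7.isSymMonoidal Groth.Agent.H4.KI6.hasRHom
  Groth.Agent.H4.RB2.hasResTen Groth.Agent.H4.RB2.resLegIso

open Groth.Agent.H4.DZ2 Groth.Agent.H4.DZ3 Groth.Agent.H4.HC6

theorem S8956 (A B : Type u) [CommRing A] [CommRing B] [IsNoetherianRing A] [IsNoetherianRing B]
    [Algebra A B] (n : ℕ) (ψ : MvPolynomial (Fin n) A →ₐ[A] B) (hψ : Function.Surjective ψ)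
    [DRing.HasLBaseChange (algebraMap A (MvPolynomial (Fin n) A))]
    (Rψ : Dual.D (MvPolynomial (Fin n) A) ⥤ Dual.D B) (adj : DRing.restrictD ψ.toRingHom ⊣ Rψ)
    [DRing.HasLBaseChange (algebraMap A B)] (ω : Dual.D A) (hω : Dual.IsDualizing A ω)
    (K : DRing.Cx A) [DRing.HasRHomCx K]
    (hK : ∀ i : ℤ, Module.Finite A (Dual.HD A (DRing.toD K) i)) (E : DRing.Cx B)
    [DRing.HasRHomCx E]
    (hE : Nonempty (DRing.toD E ≅ (DRing.LBaseChange (algebraMap A B)).obj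
      ((DRing.RHomCx K).obj ω))) :
    Nonempty (Dual2.shriekVia n Rψ (DRing.toD K) ≅
      (DRing.RHomCx E).obj (Dual2.shriekVia n Rψ ω)) := by
  haveI hLι : HasLBase (algebraMap A (MvPolynomial (Fin n) A)) :=
    ⟨(Groth.Agent.H4.KProj.adjLBaseChange (algebraMap A (MvPolynomial (Fin n) A))).isRightAdjoint⟩
  haveI hψLBC : DRing.HasLBaseChange ψ.toRingHom := Groth.Agent.H4.KProj.hasLBaseChange _
  haveI hLψ : HasLBase ψ.toRingHom :=
    ⟨(Groth.Agent.H4.KProj.adjLBaseChange ψ.toRingHom).isRightAdjoint⟩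
  haveI : DRing.HasLBaseChange (ψ.toRingHom.comp (algebraMap A (MvPolynomial (Fin n) A))) :=
    Groth.Agent.H4.KProj.hasLBaseChange _
  let eι : DRing.LBaseChange (algebraMap A (MvPolynomial (Fin n) A)) ≅
      LBase (algebraMap A (MvPolynomial (Fin n) A)) :=
    (Groth.Agent.H4.KProj.adjLBaseChange (algebraMap A (MvPolynomial (Fin n) A))).leftAdjointUniq
      (baseAdj _)
  let eψ : DRing.LBaseChange ψ.toRingHom ≅ LBase ψ.toRingHom :=
    (Groth.Agent.H4.KProj.adjLBaseChange ψ.toRingHom).leftAdjointUniq (baseAdj _)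
  let D : Dual.D A := (RHomR A (DRing.toD K)).obj ω
  let e0 : (DRing.RHomCx K).obj ω ≅ D := (Groth.Agent.H4.KI6.rhomCxIsoRHomR K).app ω
  obtain ⟨hE⟩ := hE
  obtain ⟨c1⟩ := Groth.Agent.H4.FibPerf.nonempty_LBCComp
    (algebraMap A (MvPolynomial (Fin n) A)) ψ.toRingHom D
  have hcomp : ψ.toRingHom.comp (algebraMap A (MvPolynomial (Fin n) A)) = algebraMap A B :=
    RingHom.ext (fun r => ψ.commutes r)
  obtain ⟨c2⟩ := Groth.Agent.H4.FibPerf.nonempty_LBC_congr hcomp D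
  let N : Dual.D (MvPolynomial (Fin n) A) := (LBase (algebraMap A (MvPolynomial (Fin n) A))).obj D
  let eE : DRing.toD E ≅ (LBase ψ.toRingHom).obj N :=
    hE ≪≫ (DRing.LBaseChange (algebraMap A B)).mapIso e0 ≪≫ c2.symm ≪≫ c1.symm ≪≫
      eψ.app _ ≪≫ (LBase ψ.toRingHom).mapIso (eι.app D)
  let W : Dual.D (MvPolynomial (Fin n) A) :=
    (DRing.LBaseChange (algebraMap A (MvPolynomial (Fin n) A))).obj ω
  let Z₀ : Dual.D B := Rψ.obj W
  let s2 : (DRing.RHomCx E).obj (Z₀⟦(n : ℤ)⟧) ≅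
      (RHomR B ((LBase ψ.toRingHom).obj N)).obj (Z₀⟦(n : ℤ)⟧) :=
    (Groth.Agent.H4.KI6.rhomCxIsoRHomR E).app _ ≪≫ RHomIso eE.symm _
  obtain ⟨s3⟩ := Good.nonempty_shift_iso (good_RHomR ((LBase ψ.toRingHom).obj N)) Z₀ n
  haveI := isIso_kapR ψ.toRingHom adj N W
  let s4 : Rψ.obj ((RHomR (MvPolynomial (Fin n) A) N).obj W) ≅
      (RHomR B ((LBase ψ.toRingHom).obj N)).obj Z₀ := asIso (kapR ψ.toRingHom adj N W)
  -- the base change iso
  have h1 : Dual.IsDualizing (MvPolynomial (Fin n) A) W :=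
    Groth.Agent.H4.FB3.isDualizing_of_iso (Groth.Agent.H4.FB2.LBCIso ω).symm
      (Groth.Agent.H4.US21.isDualizing_E_mvPolynomial A n ω hω)
  have h1' : Dual.IsDualizing (MvPolynomial (Fin n) A)
      ((LBase (algebraMap A (MvPolynomial (Fin n) A))).obj ω) :=
    Groth.Agent.H4.FB3.isDualizing_of_iso (eι.app ω) h1
  obtain ⟨a, b, hab⟩ := exists_injAmp_of_isDualizing ω hω
  obtain ⟨a', b', hab'⟩ := exists_injAmp_of_isDualizing _ h1'
  have hD : ∀ i : ℤ, Module.Finite A (Dual.HD A D i) := finite_HD_RHomR ω hω (DRing.toD K) hK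
  haveI := isIso_rhomBC (algebraMap A (MvPolynomial (Fin n) A)) D
    ((LBase (algebraMap A (MvPolynomial (Fin n) A))).obj ω)
  haveI := Groth.Agent.H4.WO1.isIso_bcRHom_of_flat_of_injAmp (R' := MvPolynomial (Fin n) A)
    D ω hD a b hab a' b' hab'
  let s5 : (LBase (algebraMap A (MvPolynomial (Fin n) A))).obj ((RHomR A D).obj ω) ≅
      (RHomR (MvPolynomial (Fin n) A) N).obj
        ((LBase (algebraMap A (MvPolynomial (Fin n) A))).obj ω) :=
    asIso (bcRHom (algebraMap A (MvPolynomial (Fin n) A)) D ω)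
  obtain ⟨s6⟩ := nonempty_bidual_iso ω hω (DRing.toD K) hK
  refine ⟨(shiftFunctor (Dual.D B) (n : ℤ)).mapIso
    (Rψ.mapIso (eι.app _ ≪≫ (LBase (algebraMap A (MvPolynomial (Fin n) A))).mapIso s6.symm ≪≫ s5 ≪≫
      (RHomR (MvPolynomial (Fin n) A) N).mapIso (eι.app ω).symm) ≪≫ s4) ≪≫ s3.symm ≪≫ s2.symm⟩

end S8956
end Groth.Agent.H4.FR12
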