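import Mathlib
import Groth.Prelude.Def_FSch2

set_option autoImplicit false
universe u
open CategoryTheory CategoryTheory.Limits AlgebraicGeometry

namespace Groth.Agent.H4.FSchSm

/-- finite type lifts along a surjection with finitely generated nilpotent kernel -/
theorem finiteType_of_comp_surjective {A B C : Type u} [CommRing A] [CommRing B] [CommRing C]
    (φ : A →+* B) (π : B →+* C) (hπ : Function.Surjective π)
    (hker : RingHom.ker π ≤ nilradical B) (hfg : (RingHom.ker π).FG)
    (h : (π.comp φ).FiniteType) : φ.FiniteType := by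
  letI : Algebra A B := φ.toAlgebra
  letI : Algebra A C := (π.comp φ).toAlgebra
  letI : Algebra B C := π.toAlgebra
  haveI : IsScalarTower A B C := .of_algebraMap_eq' rfl
  have h' : Algebra.FiniteType A C := h
  obtain ⟨n, f, hf⟩ := Algebra.FiniteType.iff_quotient_mvPolynomial''.1 h'
  choose s hs using fun i : Fin n => hπ (f (MvPolynomial.X i))
  let φ' : MvPolynomial (Fin n) A →ₐ[A] B := MvPolynomial.aeval s
  letI : Algebra (MvPolynomial (Fin n) A) B := φ'.toRingHom.toAlgebra
  letI : Algebra (MvPolynomial (Fin n) A) C := (π.comp φ'.toRingHom).toAlgebra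
  haveI : IsScalarTower (MvPolynomial (Fin n) A) B C := .of_algebraMap_eq' rfl
  haveI : IsScalarTower A (MvPolynomial (Fin n) A) B :=
    .of_algebraMap_eq fun r => (φ'.commutes r).symm
  have hcomp : π.comp φ'.toRingHom = f.toRingHom := by
    apply MvPolynomial.ringHom_ext
    · intro r
      change π (φ' (MvPolynomial.C r)) = f (MvPolynomial.C r)
      have h1 : φ' (MvPolynomial.C r) = algebraMap A B r := by
        simp [φ']
      have h2 : f (MvPolynomial.C r) = algebraMap A C r := by
        rw [← MvPolynomial.algebraMap_eq, f.commutes]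
      rw [h1, h2]
      rfl
    · intro i
      change π (φ' (MvPolynomial.X i)) = f (MvPolynomial.X i)
      simp [φ', hs]
  have hsurj : Function.Surjective (algebraMap (MvPolynomial (Fin n) A) C) := by
    intro c
    obtain ⟨p, hp⟩ := hf c
    exact ⟨p, by
      change (π.comp φ'.toRingHom) p = c
      rw [hcomp]; exact hp⟩
  haveI : Module.Finite (MvPolynomial (Fin n) A) C :=
    Module.Finite.of_surjective (Algebra.linearMap (MvPolynomial (Fin n) A) C) hsurj
  let πP : B →ₐ[MvPolynomial (Fin n) A] C := ⟨π, fun p => rfl⟩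
  haveI : Module.Finite (MvPolynomial (Fin n) A) B :=
    Module.finite_of_surjective_of_ker_le_nilradical πP hπ hker hfg
  exact Algebra.FiniteType.trans (S := MvPolynomial (Fin n) A) inferInstance inferInstance

variable {X X' Y Y' : Scheme.{u}}

/-- a morphism from a locally Noetherian thickening is locally of finite type if its restriction is -/
theorem locallyOfFiniteType_of_thickening (i : X ⟶ X') [IsClosedImmersion i]
    (hi : Function.Surjective i.base) [IsLocallyNoetherian X'] (g : X' ⟶ Y')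
    [LocallyOfFiniteType (i ≫ g)] : LocallyOfFiniteType g := by
  rw [HasRingHomProperty.iff_appLE (P := @LocallyOfFiniteType)]
  intro U V e
  have hV' : IsAffineOpen (i ⁻¹ᵁ V.1) := V.2.preimage i
  have e' : i ⁻¹ᵁ V.1 ≤ (i ≫ g) ⁻¹ᵁ U.1 := fun x hx => e hx
  have h1 : ((i ≫ g).appLE U.1 (i ⁻¹ᵁ V.1) e').hom.FiniteType :=
    LocallyOfFiniteType.finiteType_appLE (i ≫ g) U.2 hV' e'
  have h2 : (i ≫ g).appLE U.1 (i ⁻¹ᵁ V.1) e' = g.appLE U.1 V.1 e ≫ i.app V.1 := by
    rw [← Scheme.Hom.appLE_eq_app, Scheme.Hom.appLE_comp_appLE]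
  rw [h2] at h1
  haveI : IsNoetherianRing Γ(X', V.1) := IsLocallyNoetherian.component_noetherian V
  refine finiteType_of_comp_surjective (g.appLE U.1 V.1 e).hom (i.app V.1).hom
    (i.app_surjective V.1 V.2) ?_ (IsNoetherian.noetherian _) h1
  intro b hb
  rw [mem_nilradical, Scheme.isNilpotent_iff_basicOpen_eq_bot_of_isCompact V.2.isCompact]
  rw [eq_bot_iff]
  intro x' hx'
  obtain ⟨x, rfl⟩ := hi x'
  have h3 : x ∈ i ⁻¹ᵁ (X'.basicOpen b) := hx'
  rw [Scheme.preimage_basicOpen] at h3
  have h4 : (i.app V.1).hom b = 0 := hb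
  rw [h4] at h3
  simp at h3

/-- the residue field map of a closed immersion is an isomorphism -/
theorem isIso_residueFieldMap (i : Y ⟶ Y') [IsClosedImmersion i] (y : Y) :
    IsIso (i.residueFieldMap y) := by
  rw [ConcreteCategory.isIso_iff_bijective]
  refine ⟨(i.residueFieldMap y).hom.injective, ?_⟩
  have h := Scheme.residue_residueFieldMap i y
  have hs : Function.Surjective (i.stalkMap y ≫ Y.residue y) :=
    (Y.residue_surjective y).comp (i.stalkMap_surjective y)
  rw [← h] at hs
  have hs' : Function.Surjective ((i.residueFieldMap y).hom ∘ (Y'.residue (i y)).hom) := by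
    intro c
    obtain ⟨b, hb⟩ := hs c
    exact ⟨b, hb⟩
  exact Function.Surjective.of_comp hs'

/-- smoothness lifts along a flat deformation over a locally Noetherian thickening -/
theorem smooth_of_thickening (iX : X ⟶ X') (iY : Y ⟶ Y') (f : X ⟶ Y) (f' : X' ⟶ Y')
    (hc : IsPullback iX f f' iY) [IsClosedImmersion iY] (hY : Function.Surjective iY.base)
    [IsClosedImmersion iX] (hX : Function.Surjective iX.base) [IsLocallyNoetherian X']
    [IsLocallyNoetherian Y'] [Flat f'] [Smooth f] : Smooth f' := by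
  haveI : LocallyOfFiniteType (iX ≫ f') := by
    rw [hc.w]; infer_instance
  haveI : LocallyOfFiniteType f' := locallyOfFiniteType_of_thickening iX hX f'
  haveI : LocallyOfFinitePresentation f' := inferInstance
  refine Smooth.of_smooth_fiberToSpecResidueField (f := f') (fun y' => ?_)
  obtain ⟨y, rfl⟩ := hY y'
  have hp := isPullback_fiberToSpecResidueField_of_isPullback hc y
  haveI : IsIso (iY.residueFieldMap y) := isIso_residueFieldMap iY y
  haveI : IsIso (Spec.map (iY.residueFieldMap y)) := inferInstance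
  have hs : Smooth (f.fiberToSpecResidueField y) :=
    MorphismProperty.pullback_snd _ _ inferInstance
  obtain ⟨t, ht⟩ : ∃ t, IsPullback t (f.fiberToSpecResidueField y)
      (f'.fiberToSpecResidueField (iY y)) (Spec.map (iY.residueFieldMap y)) := ⟨_, hp⟩
  haveI := ht.isIso_fst_of_isIso
  have e : f'.fiberToSpecResidueField (iY y) =
      inv t ≫ f.fiberToSpecResidueField y ≫ Spec.map (iY.residueFieldMap y) := by
    rw [IsIso.eq_inv_comp]
    exact ht.w
  rw [e]
  infer_instance

/-- **S14004** -/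
theorem S14004 (𝔛 𝔜 : FSch.Sys.{u})
    (h𝔛 : 𝔛.IsLocNoethFormal) (h𝔜 : 𝔜.IsLocNoethFormal) (f : 𝔛 ⟶ 𝔜) (hf : FSch.IsAdicHom f)
    (hflat : ∀ n : ℕ, Flat ((f : FSch.Hom 𝔛 𝔜).app n)) :
    (∀ n : ℕ, AlgebraicGeometry.Smooth ((f : FSch.Hom 𝔛 𝔜).app n)) ↔
      AlgebraicGeometry.Smooth ((f : FSch.Hom 𝔛 𝔜).app 0) := by
  refine ⟨fun h => h 0, fun h0 n => ?_⟩
  induction n with
  | zero => exact h0
  | succ n ih =>
    haveI := ih
    haveI := hflat (n + 1)
    haveI := (h𝔛.1 n).1
    haveI := (h𝔜.1 n).1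
    haveI := h𝔛.2.2 (n + 1)
    haveI := h𝔜.2.2 (n + 1)
    exact smooth_of_thickening (𝔛.ι n) (𝔜.ι n) ((f : FSch.Hom 𝔛 𝔜).app n)
      ((f : FSch.Hom 𝔛 𝔜).app (n + 1)) (hf n) (h𝔜.1 n).2 (h𝔛.1 n).2

end Groth.Agent.H4.FSchSm
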