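import Mathlib
import Groth.Prelude.Def_DTen3
import Groth.Agent.H4.DZ5
import Groth.Agent.H4.UQ2
import Groth.Agent.H4.RB5
import Groth.Agent.H4.FibPerf
import Groth.Agent.H4.FB3
import Groth.Agent.H4.FB5

/-!
# Finite tor dimension vs finite injective dimension of the dual: S11178
-/

set_option autoImplicit false
universe u
open CategoryTheory Category Limits Pretriangulated

namespace Groth.Agent.H4.FT1

attribute [local instance] HasDerivedCategory.standard
attribute [local instance] Groth.Agent.H4.LK4.hasLTen Groth.Agent.H4.LK5.hasLTen₃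
  Groth.Agent.H4.KI7.isSymMonoidal Groth.Agent.H4.KI6.hasRHom

open DRing DTen DerivedCategory Groth.Agent.H4.DThick Groth.Agent.H4.DCompl1 Groth.Agent.H4.CF1
  Groth.Agent.H4.InjAmp Groth.Agent.H4.DZ1 Groth.Agent.H4.DZ2 Groth.Agent.H4.DZ3 Groth.Agent.H4.DZ4
  Groth.Agent.H4.DZ5
  Groth.Agent.H4.EV5 Groth.Agent.H4.HC6 Groth.Agent.H4.ProjAmp Groth.Agent.H4.DRing1
  Groth.Agent.H4.DComp Groth.Agent.H4.FB1 Groth.Agent.H4.FB3

variable {A : Type u} [CommRing A]

set_option quotPrecheck false in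
/-- notation for the object part of `⊗^L` -/
local notation:max "tO(" a ", " b ")" => (LTen₂ _).obj (a, b)

set_option quotPrecheck false in
/-- notation for the map part of `⊗^L` -/
local notation:max "tM(" a ", " b ")" => (LTen₂ _).map (Prod.mkHom a b)

section forward

variable [IsNoetherianRing A]

/-- finite tor dimension of `K` gives finite injective dimension of `RHom(K, ω)`. -/
theorem hasFiniteInjDim_RHom_of_torAmp (ω : Dual.D A) (hω : Dual.IsDualizing A ω) (K : Dual.D A)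
    (a b : ℤ) (hK : HasTorAmplitudeIn A a b K) :
    HasFiniteInjDim A ((RHomR A K).obj ω) := by
  obtain ⟨c, d, hcd⟩ := exists_injAmp_of_isDualizing ω hω
  haveI := isGE_of_injAmp ω c d hcd
  haveI : K.IsLE b := Groth.Agent.H4.TorAmp.isLE_of_hasTorAmp hK
  have hP : Groth.Agent.H4.InjAmp.P (c - b) (d - a) ((RHomR A K).obj ω) := by
    intro I i hi
    let N : Dual.D A := Q.obj (sgl (ModuleCat.of A (A ⧸ I)) i)
    have eN : N ≅ (singleFunctor (ModuleCat.{u} A) i).obj (ModuleCat.of A (A ⧸ I)) :=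
      ((singleFunctorIsoCompQ (ModuleCat.{u} A) i).app _).symm
    haveI : N.IsGE i := TStructure.t.isGE_of_iso eN.symm i
    haveI : N.IsLE i := TStructure.t.isLE_of_iso eN.symm i
    haveI : tO(K, N).IsGE (a + i) := Groth.Agent.H4.RB5.isGE_tO_of_torAmp K N a b i hK
    haveI : tO(K, N).IsLE (b + i) := Groth.Agent.H4.AP2.isLE_tO K N b i
    haveI : tO(N, K).IsGE (a + i) := TStructure.t.isGE_of_iso (DTen.braiding K N).symm (a + i)
    haveI : tO(N, K).IsLE (b + i) := TStructure.t.isLE_of_iso (DTen.braiding K N).symm (b + i)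
    have hz : ∀ φ : tO(N, K) ⟶ ω, φ = 0 := by
      intro φ
      rcases hi with hi | hi
      · exact (tR A).zero φ (b + i) c (by omega)
      · exact Groth.Agent.H4.AP2.hom_eq_zero_of_isGE_of_injAmp tO(N, K) ω (a + i) c d hcd
          (by omega) φ
    haveI : Subsingleton ((tensorRightD A K).obj N ⟶ ω) := ⟨fun f g => (hz f).trans (hz g).symm⟩
    exact ((rhomAdj A K).homEquiv N ω).symm.subsingleton
  exact ⟨c - b, d - a, Groth.Agent.H4.InjAmp.exists_injective_rep ((d - a - (c - b)).toNat + 1)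
    (c - b) (d - a) _ (by
      have := Int.self_le_toNat (d - a - (c - b))
      push_cast
      omega) hP⟩

end forward

section fibre

variable {B : Type u} [CommRing B] [Algebra A B]

/-- the cohomological amplitude of the derived base change is that of `B ⊗^L_A K`. -/
lemma isGE_isLE_LBaseChange_of_tO [DRing.HasLBaseChange (algebraMap A B)] (K : Dual.D A)
    (a b : ℤ) (h1 : tO(Dual.inD A B, K).IsGE a) (h2 : tO(Dual.inD A B, K).IsLE b) :
    ((DRing.LBaseChange (algebraMap A B)).obj K).IsGE a ∧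
      ((DRing.LBaseChange (algebraMap A B)).obj K).IsLE b := by
  haveI : DTen.HasLBase (algebraMap A B) :=
    ⟨(Groth.Agent.H4.KProj.adjLBaseChange (algebraMap A B)).isRightAdjoint⟩
  haveI : DTen.HasResTen (algebraMap A B) := Groth.Agent.H4.RB2.hasResTen (algebraMap A B)
  haveI : DTen.ResLegIso (algebraMap A B) := Groth.Agent.H4.RB2.resLegIso (algebraMap A B)
  let e1 : (DRing.LBaseChange (algebraMap A B)).obj K ≅ (LBase (algebraMap A B)).obj K :=
    ((Groth.Agent.H4.KProj.adjLBaseChange (algebraMap A B)).leftAdjointUniq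
      (baseAdj (algebraMap A B))).app K
  let e2 : tO(Dual.inD A B, K) ≅ (restrictD (algebraMap A B)).obj ((LBase (algebraMap A B)).obj K) :=
    (LTen₂ A).mapIso (Iso.prod (Groth.Agent.H4.RB5.resUnitIso A B).symm (Iso.refl K)) ≪≫
      Groth.Agent.H4.RB5.resLBaseIso (algebraMap A B) K
  constructor
  · haveI := h1
    haveI : ((restrictD (algebraMap A B)).obj ((LBase (algebraMap A B)).obj K)).IsGE a :=
      TStructure.t.isGE_of_iso e2 a
    haveI := (Groth.Agent.H4.RB5.isGE_restrictD_iff (algebraMap A B) _ a).1 this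
    exact TStructure.t.isGE_of_iso e1.symm a
  · haveI := h2
    haveI : ((restrictD (algebraMap A B)).obj ((LBase (algebraMap A B)).obj K)).IsLE b :=
      TStructure.t.isLE_of_iso e2 b
    haveI := (Groth.Agent.H4.RestrPC.isLE_restrictD_iff (algebraMap A B) _ b).1 this
    exact TStructure.t.isLE_of_iso e1.symm b

end fibre

section backward

variable [IsNoetherianRing A]

/-- finite injective dimension of `RHom(K, ω)` gives finite tor dimension of `K`. -/
theorem hasTorAmp_of_hasInjAmp_RHom (ω : Dual.D A) (hω : Dual.IsDualizing A ω) (K : Dual.D A)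
    (hfin : ∀ i : ℤ, Module.Finite A (Dual.HD A K i)) (b₀ : ℤ) [K.IsLE b₀] (a' b' : ℤ)
    (hX : HasInjAmplitudeIn A a' b' ((RHomR A K).obj ω)) :
    ∃ a b : ℤ, HasTorAmplitudeIn A a b K := by
  obtain ⟨c, d, hcd⟩ := exists_injAmp_of_isDualizing ω hω
  haveI := isGE_of_injAmp ω c d hcd
  haveI := isGE_of_injAmp _ a' b' hX
  have hKpc : IsPseudoCoherent' A K := isPC'_of_finite K hfin b₀
  obtain ⟨bid⟩ := nonempty_bidual_iso ω hω K hfin
  -- the amplitude of `N ⊗^L K` for a finite module `N`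
  have key : ∀ (N : Type u) [AddCommGroup N] [Module A N] [Module.Finite A N],
      tO(Dual.inD A N, K).IsGE (c - b') ∧ tO(Dual.inD A N, K).IsLE (d - a') := by
    intro N _ _ _
    haveI := Groth.Agent.H4.AP2.isIso_evalHom_of_isPseudoCoherent (Dual.inD A N)
      ((RHomR A K).obj ω) ω (isPC'_inD N) a' ⟨c, d, hcd⟩
    let Y := (RHomR A (Dual.inD A N)).obj ((RHomR A K).obj ω)
    haveI : Y.IsGE a' := by
      have := Groth.Agent.H4.AP2.isGE_RHom (Dual.inD A N) ((RHomR A K).obj ω) 0 a'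
      rwa [sub_zero] at this
    haveI : Y.IsLE b' := by
      rw [isLE_iff]
      intro j hj
      obtain ⟨e⟩ := nonempty_extLinEquiv (Dual.inD A N) ((RHomR A K).obj ω) j
      obtain ⟨E', hE', hinj, ⟨ε⟩⟩ := hX
      haveI := ext_subsingleton_of_rep E' a' b' hE' hinj _ ε (ModuleCat.of A N) j (Or.inr hj)
      haveI : Subsingleton ((homologyFunctor (ModuleCat.{u} A) j).obj Y) :=
        e.toEquiv.subsingleton
      exact ModuleCat.isZero_of_subsingleton _
    haveI : ((RHomR A Y).obj ω).IsLE (d - a') :=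
      Groth.Agent.H4.AP2.isLE_RHom_of_injAmp Y ω a' c d hcd
    haveI : ((RHomR A Y).obj ω).IsGE (c - b') := Groth.Agent.H4.AP2.isGE_RHom Y ω b' c
    let e : tO(Dual.inD A N, K) ≅ (RHomR A Y).obj ω :=
      (DTen.braiding (Dual.inD A N) K).symm ≪≫
        (LTen₂ A).mapIso (Iso.prod bid.symm (Iso.refl (Dual.inD A N))) ≪≫
        asIso (evalHom (Dual.inD A N) ((RHomR A K).obj ω) ω)
    exact ⟨TStructure.t.isGE_of_iso e.symm _, TStructure.t.isLE_of_iso e.symm _⟩
  refine ⟨c - b', d - a', (Groth.Agent.H4.FibPerf.isPerfect_of_fibres A K hKpc (c - b') (d - a')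
    (fun m hm i hi => ?_)).2⟩
  obtain ⟨h1, h2⟩ := key (A ⧸ m)
  haveI : DRing.HasLBaseChange (algebraMap A (A ⧸ m)) :=
    Groth.Agent.H4.KProj.hasLBaseChange _
  obtain ⟨h3, h4⟩ := isGE_isLE_LBaseChange_of_tO (B := A ⧸ m) K (c - b') (d - a') h1 h2
  rcases hi with hi | hi
  · exact isZero_of_isGE _ (c - b') i hi
  · exact isZero_of_isLE _ (d - a') i hi

theorem S11178 (ω : Dual.D A) (hω : Dual.IsDualizing A ω) (G : DRing.Cx A) [DRing.HasRHomCx G]
    (hfin : ∀ i : ℤ, Module.Finite A (Dual.HD A (DRing.toD G) i))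
    (hbdd : ∃ a b : ℤ, ∀ i : ℤ, (i < a ∨ b < i) → Subsingleton (Dual.HD A (DRing.toD G) i)) :
    DRing.HasFiniteTorDimCx A (DRing.toD G) ↔
      DRing.HasFiniteInjDim A ((DRing.RHomCx G).obj ω) := by
  let e0 : (DRing.RHomCx G).obj ω ≅ (RHomR A (Q.obj G)).obj ω :=
    (Groth.Agent.H4.KI6.rhomCxIsoRHomR G).app ω
  constructor
  · rintro ⟨a, b, h⟩
    obtain ⟨a', b', E, hE, hinj, ⟨ε⟩⟩ := hasFiniteInjDim_RHom_of_torAmp ω hω (DRing.toD G) a b h
    exact ⟨a', b', E, hE, hinj, ⟨ε ≪≫ e0.symm⟩⟩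
  · rintro ⟨a', b', E, hE, hinj, ⟨ε⟩⟩
    obtain ⟨a, b, hab⟩ := hbdd
    obtain ⟨-, h2⟩ := Groth.Agent.H4.FB5.isGE_isLE_of_bdd (DRing.toD G) a b hab
    haveI := h2
    exact hasTorAmp_of_hasInjAmp_RHom ω hω (DRing.toD G) hfin b a' b' ⟨E, hE, hinj, ⟨ε ≪≫ e0⟩⟩

end backward

end Groth.Agent.H4.FT1
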