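import Mathlib
import Groth.Agent.H4.PBundle3
import Groth.Agent.Lib.Helper8.GTW.Ample
import Groth.Agent.Lib.Helper8.RelTwist.Inv
import Groth.Agent.Lib.Helper5.VAmple.K
import Groth.Agent.Lib.Lead.QC.RestrictOpen
import Groth.Agent.S9815
import Groth.Agent.S2327
import Groth.Agent.Lib.Lead.QC.TensorRestrict
import Groth.Agent.Lib.Helper5.VAmple.N

set_option autoImplicit false
set_option linter.unusedSectionVars false
set_option linter.unusedVariables false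
set_option linter.style.haveILetI false
universe u
open CategoryTheory CategoryTheory.Limits AlgebraicGeometry TopologicalSpace Opposite
open scoped HomogeneousIdeal

namespace Groth.Agent.H4.VAmpleRel
noncomputable section

open Groth.Agent.LD Groth.Agent.LD.QC Groth.Agent.H8.GTW Groth.Agent.H8.RelTwist
  Groth.Agent.H8.RelTilde Groth.Agent.H8.ProjTilde

section Abs
variable {A σ : Type u} [CommRing A] [SetLike σ A] [AddSubgroupClass σ A] {𝒜 : ℕ → σ} [GradedRing 𝒜]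

open GrTwist

/-- `O(1)` restricted to a quasi-compact open of `Proj 𝒜` which is a union of `D₊(g)`, `g` of degree
one, is ample (when the irrelevant ideal is generated in degree one). -/
theorem isAmple_restrict_twist_one
    (hgen : (HomogeneousIdeal.irrelevant 𝒜).toIdeal = Ideal.span ((𝒜 1 : σ) : Set A))
    {X : Scheme.{u}} [CompactSpace X] (j : X ⟶ Proj 𝒜) [IsOpenImmersion j]
    (hcov : ∀ y : Proj 𝒜, y ∈ j.opensRange → ∃ g : A, g ∈ 𝒜 1 ∧ y ∈ Proj.basicOpen 𝒜 g ∧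
      Proj.basicOpen 𝒜 g ≤ j.opensRange) :
    CohB1.IsAmple ((twist 𝒜 1).restrict j) := by
  have hs1 : ∀ f ∈ ((𝒜 1 : σ) : Set A), f ∈ 𝒜 1 := fun f hf => hf
  have hinv0 : PicF.IsInvertible (twist 𝒜 1) := isInvertible_twist_of_span hs1 hgen 1
  have hinv : PicF.IsInvertible ((twist 𝒜 1).restrict j) := isInvertible_restrict j hinv0
  refine ⟨hinv, inferInstance, fun x => ?_⟩
  obtain ⟨g, hg1, hxg, hgY⟩ := hcov (j x) ⟨x, rfl⟩
  let φ : twist 𝒜 ((1 : ℕ) : ℤ) ≅ twist 𝒜 1 := twistCongr (by simp)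
  let σ0 : QC.unitMod (Proj 𝒜) ⟶ twist 𝒜 1 := powHomSec g hg1 1 ≫ φ.hom
  have hσ0 : CohB1.genLocus (twist 𝒜 1) σ0 = Proj.basicOpen 𝒜 g := by
    rw [QC.genLocus_comp_iso]
    exact genLocus_powHomSec hs1 hgen g hg1 1 Nat.one_pos
  let σ1 : QC.unitMod X ⟶ (twist 𝒜 1).restrict j := QC.resSec j σ0
  have hσ : CohB1.genLocus _ σ1 = j ⁻¹ᵁ Proj.basicOpen 𝒜 g := by
    rw [genLocus_resSec, hσ0]
  have hσ1 : CohB1.genLocus _ (SecTwist.powHom σ1 (0 + 1)) = j ⁻¹ᵁ Proj.basicOpen 𝒜 g := by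
    change CohB1.genLocus _ (SecTwist.tmulHom (𝟙 _) σ1) = _
    rw [QC.genLocus_tmulHom (QC.isInvertible_unit _) hinv, QC.genLocus_id, top_inf_eq, hσ]
  refine ⟨0, SecTwist.powHom σ1 (0 + 1), ?_, ?_⟩
  · rw [hσ1]; exact hxg
  · rw [hσ1, ← Scheme.Hom.isAffineOpen_iff_of_isOpenImmersion j,
      Scheme.Hom.image_preimage_eq_opensRange_inf, inf_eq_right.mpr hgY]
    exact Proj.isAffineOpen_basicOpen 𝒜 g hg1 Nat.one_pos

end Abs

section Rel
variable {X Y : Scheme.{u}}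

theorem isAmple_restrict_of_immersion (f : X ⟶ Y) [QuasiCompact f] (L : X.Modules)
    {𝒮 : RelProj.QCGrAlg Y} (hgen : 𝒮.IsGenDegOne) {P : Scheme.{u}} (p : P ⟶ Y)
    (chart : ∀ (U : Y.Opens) (hU : IsAffineOpen U),
      (((p ⁻¹ᵁ U : P.Opens) : Scheme.{u}) ≅ Proj (𝒮.deg U hU)))
    (hP : RelProj.IsRelProj 𝒮 p chart) (O1 : P.Modules)
    (lam : ∀ (U : Y.Opens) (hU : IsAffineOpen U),
      O1 ⟶ (Scheme.Modules.pushforward (RelProj.emb p chart U hU)).obj
        (GrTwist.twist (𝒮.deg U hU) 1))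
    (hO1 : RelProj.IsRelTwist 𝒮 p chart 1 O1 lam) (i : X ⟶ P) [IsImmersion i]
    (hi : i ≫ p = f) (τ : L ≅ (Scheme.Modules.pullback i).obj O1)
    (V : Y.Opens) (hV : IsAffineOpen V) :
    CohB1.IsAmple (L.restrict (f ⁻¹ᵁ V).ι) := by
  subst hi
  haveI : CompactSpace (((i ≫ p) ⁻¹ᵁ V : X.Opens) : Scheme.{u}) :=
    Groth.Agent.H5.VAmple.compactSpace_preimage _ hV.isCompact
  set UX : X.Opens := (i ≫ p) ⁻¹ᵁ V with hUX
  have hirr := irrelevant_eq_span_degOne (𝒮.deg V hV) (hgen V hV)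
  have hrange : Set.range (UX.ι ≫ i).base ⊆ Set.range (RelProj.emb p chart V hV).base := by
    rintro _ ⟨x, rfl⟩
    have h1 : (UX.ι ≫ i) x ∈ (RelProj.emb p chart V hV).opensRange := by
      rw [opensRange_emb]
      exact x.2
    exact h1
  let iV : (UX : Scheme.{u}) ⟶ Proj (𝒮.deg V hV) :=
    IsOpenImmersion.lift (RelProj.emb p chart V hV) (UX.ι ≫ i) hrange
  have hiV : iV ≫ RelProj.emb p chart V hV = UX.ι ≫ i := IsOpenImmersion.lift_fac _ _ _
  have hembV : Topology.IsEmbedding iV := by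
    have h1 : Topology.IsEmbedding (UX.ι ≫ i) := by
      rw [Scheme.Hom.comp_base, TopCat.coe_comp]
      exact i.isEmbedding.comp UX.ι.isEmbedding
    rw [← hiV, Scheme.Hom.comp_base, TopCat.coe_comp] at h1
    exact Topology.IsEmbedding.of_comp iV.continuous (RelProj.emb p chart V hV).continuous h1
  -- finite cover
  have hex : ∀ x : UX, ∃ g : 𝒮.presheaf.obj (op V), g ∈ 𝒮.deg V hV 1 ∧
      iV x ∈ Proj.basicOpen (𝒮.deg V hV) g := by
    intro x
    obtain ⟨g, hg1, hzg⟩ := exists_mem_basicOpen_of_span hirr (iV x)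
    exact ⟨g, hg1, hzg⟩
  choose g hg1 hxg using hex
  obtain ⟨t, ht⟩ := isCompact_univ.elim_finite_subcover
    (fun x : UX => ((iV ⁻¹ᵁ Proj.basicOpen (𝒮.deg V hV) (g x) : (UX : Scheme.{u}).Opens) :
      Set (UX : Scheme.{u})))
    (fun x => (iV ⁻¹ᵁ Proj.basicOpen (𝒮.deg V hV) (g x)).isOpen)
    (fun x _ => Set.mem_iUnion.mpr ⟨x, hxg x⟩)
  let P0 : (Proj (𝒮.deg V hV)).Opens := ⨆ x : t, Proj.basicOpen (𝒮.deg V hV) (g x.1)
  have hP0c : IsCompact (P0 : Set (Proj (𝒮.deg V hV))) := by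
    have h1 : (P0 : Set (Proj (𝒮.deg V hV))) =
        ⋃ x ∈ t, ((Proj.basicOpen (𝒮.deg V hV) (g x) : (Proj (𝒮.deg V hV)).Opens) :
          Set (Proj (𝒮.deg V hV))) := by
      ext y
      simp only [P0, Opens.coe_iSup, Set.mem_iUnion, Subtype.exists, exists_prop]
    rw [h1]
    exact t.isCompact_biUnion fun x _ =>
      (Proj.isAffineOpen_basicOpen (𝒮.deg V hV) (g x) (hg1 x) Nat.one_pos).isCompact
  haveI : CompactSpace (P0 : Scheme.{u}) := isCompact_iff_compactSpace.mp hP0c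
  have hrange0 : Set.range iV.base ⊆ Set.range P0.ι.base := by
    rintro _ ⟨x, rfl⟩
    rw [Scheme.Opens.range_ι]
    obtain ⟨x', hx'⟩ := Set.mem_iUnion.mp (ht (Set.mem_univ x))
    obtain ⟨hx't, hxx'⟩ := Set.mem_iUnion.mp hx'
    exact Opens.mem_iSup.mpr ⟨⟨x', hx't⟩, hxx'⟩
  let i0 : (UX : Scheme.{u}) ⟶ (P0 : Scheme.{u}) := IsOpenImmersion.lift P0.ι iV hrange0
  have hi0 : i0 ≫ P0.ι = iV := IsOpenImmersion.lift_fac _ _ _
  have hemb0 : Topology.IsEmbedding i0 := by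
    have h1 := hembV
    rw [← hi0, Scheme.Hom.comp_base, TopCat.coe_comp] at h1
    exact Topology.IsEmbedding.of_comp i0.continuous P0.ι.continuous h1
  have hamp0 : CohB1.IsAmple ((GrTwist.twist (𝒮.deg V hV) 1).restrict P0.ι) := by
    apply isAmple_restrict_twist_one hirr P0.ι
    intro y hy
    rw [Scheme.Opens.opensRange_ι] at hy ⊢
    obtain ⟨x, hx⟩ := Opens.mem_iSup.mp hy
    exact ⟨g x.1, hg1 x.1, hx, le_iSup (fun x : t => Proj.basicOpen (𝒮.deg V hV) (g x.1)) x⟩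
  have h1 := Groth.Agent.S9815.result i0 hemb0 _ hamp0
  haveI := isIso_adj_relTwist hO1 V hV
  refine isAmple_of_iso ?_ h1
  exact (Scheme.Modules.pullback i0).mapIso
      ((Scheme.Modules.restrictFunctorIsoPullback P0.ι).app (GrTwist.twist (𝒮.deg V hV) 1)) ≪≫
    (Scheme.Modules.pullbackComp i0 P0.ι).app _ ≪≫
    (Scheme.Modules.pullbackCongr hi0).app _ ≪≫
    (Scheme.Modules.pullback iV).mapIso
      (asIso (adj (RelProj.emb p chart V hV) O1 _ (lam V hV))).symm ≪≫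
    (Scheme.Modules.pullback iV).mapIso
      ((Scheme.Modules.restrictFunctorIsoPullback (RelProj.emb p chart V hV)).app O1) ≪≫
    (Scheme.Modules.pullbackComp iV (RelProj.emb p chart V hV)).app O1 ≪≫
    (Scheme.Modules.pullbackCongr hiV).app O1 ≪≫
    ((Scheme.Modules.pullbackComp UX.ι i).app O1).symm ≪≫
    (Scheme.Modules.pullback UX.ι).mapIso τ.symm ≪≫
    ((Scheme.Modules.restrictFunctorIsoPullback UX.ι).app L).symm

end Rel

end
end Groth.Agent.H4.VAmpleRel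

namespace Groth.Agent.H4.VAmpleRel

open Groth.Agent.H4.PBundle2 Groth.Agent.LD.QC Groth.Agent.H8.RelTilde in
/-- **very ample ⇒ relatively ample** (EGA II 4.6.2 direction). -/
theorem isRelAmple_of_isRelVeryAmple {X Y : Scheme.{u}} (f : X ⟶ Y) [QuasiCompact f] (L : X.Modules)
    (h : RelProj.IsRelVeryAmple f L) : RelAmple.IsRelAmple f L := by
  obtain ⟨E, hE, 𝒮, j, hj, P, p, chart, hP, O1, lam, hO1, i, hi, hq, ⟨τ⟩⟩ := h
  haveI : E.IsQuasicoherent := hE
  haveI : IsImmersion i := hi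
  refine ⟨inferInstance, fun V => ?_⟩
  exact isAmple_restrict_of_immersion f L (genDegOne_of_isGrSymAlg hj) p chart hP O1 lam hO1 i hq τ
    V.1 V.2

open Groth.Agent.LD.QC in
/-- if a positive tensor power of an invertible `L` is relatively very ample, `L` is relatively
ample. -/
theorem isRelAmple_of_tensorPow_isRelVeryAmple {X Y : Scheme.{u}} (f : X ⟶ Y) [QuasiCompact f]
    (L : X.Modules) (hL : PicF.IsInvertible L) (n : ℕ) (hn : 0 < n)
    (h : RelProj.IsRelVeryAmple f (CohB1.tensorPow L n)) : RelAmple.IsRelAmple f L := by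
  have h0 := isRelAmple_of_isRelVeryAmple f _ h
  refine ⟨inferInstance, fun V => ?_⟩
  haveI : CompactSpace ((f ⁻¹ᵁ V.1 : X.Opens) : Scheme.{u}) :=
    Groth.Agent.H5.VAmple.compactSpace_preimage f V.2.isCompact
  have h1 := h0.2 V
  have h2 : CohB1.IsAmple (CohB1.tensorPow (L.restrict (f ⁻¹ᵁ V.1).ι) n) :=
    isAmple_of_iso (restrictTensorPowIso (f ⁻¹ᵁ V.1).ι L n).symm h1
  haveI : ((f ⁻¹ᵁ V.1 : X.Opens) : Scheme.{u}).IsSeparated :=
    isSeparated_of_affine_genLocus _ h2.1 h2.2.2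
  exact (Groth.Agent.S2327.result _ _ (isInvertible_restrict (f ⁻¹ᵁ V.1).ι hL) n hn).mpr h2

end Groth.Agent.H4.VAmpleRel
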