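import Mathlib
import Groth.Agent.H4.VAmpleRel
import Groth.Agent.Lib.Lead.QC.CounitEpi
import Groth.Agent.Lib.Lead.QC.Counit
import Groth.Agent.Lib.Lead.QC.SubSup
import Groth.Agent.Lib.Lead.QC.FinType
import Groth.Agent.Lib.Lead.QC.AmpleGG
import Groth.Agent.Lib.Lead.QC.EpiLocal
import Groth.Agent.Lib.Lead.QC.TensorQC
import Groth.Agent.S8259

set_option autoImplicit false
set_option linter.style.haveILetI false
set_option linter.unusedSectionVars false
set_option linter.unusedVariables false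

namespace Groth.Agent.H4.FTQuot

open CategoryTheory CategoryTheory.Limits AlgebraicGeometry TopologicalSpace Opposite
open Groth.Agent.LD.QC

universe u

/-- if the counit `g^* g_* M ⟶ M` is an epimorphism for `M` quasi-coherent of finite type, over
a qcqs base, then `M` is a quotient of `g^* F` for a quasi-coherent `F` of finite type. -/
theorem exists_ft_epi {Y Z : Scheme.{u}} [CompactSpace Z] [QuasiSeparatedSpace Z] (g : Y ⟶ Z)
    [QuasiCompact g] [QuasiSeparated g]
    (M : Y.Modules) [M.IsQuasicoherent] (hM : M.IsFiniteType)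
    (hε : Epi ((Scheme.Modules.pullbackPushforwardAdjunction g).counit.app M)) :
    ∃ (F : Z.Modules) (φ : (Scheme.Modules.pullback g).obj F ⟶ M),
      F.IsQuasicoherent ∧ F.IsFiniteType ∧ Epi φ := by
  classical
  haveI : CompactSpace Y := QuasiCompact.compactSpace_of_compactSpace g
  haveI hGq : ((Scheme.Modules.pushforward g).obj M).IsQuasicoherent := qc_pushforward g M
  have hloc : ∀ y : Y, ∃ (V : Z.Opens) (hV : IsAffineOpen V) (W : Y.Opens) (hW : IsAffineOpen W)
      (hWV : W ≤ g ⁻¹ᵁ V) (S : Finset Γ(M, g ⁻¹ᵁ V)), y ∈ W ∧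
      Submodule.span Γ(Y, W) ((fun a => M.presheaf.map (homOfLE hWV).op a) '' (S : Set Γ(M, g ⁻¹ᵁ V))) = ⊤ := by
    intro y
    obtain ⟨V, hV, hyV, -⟩ := Opens.isBasis_iff_nbhd.mp Z.isBasis_affineOpens
      (show g.base y ∈ (⊤ : Z.Opens) from trivial)
    replace hV : IsAffineOpen V := hV
    obtain ⟨W, hW, hyW, hWV⟩ := Opens.isBasis_iff_nbhd.mp Y.isBasis_affineOpens
      (show y ∈ g ⁻¹ᵁ V from hyV)
    replace hW : IsAffineOpen W := hW
    have hspan := span_range_res_of_counit_epi g M hε hW hV hWV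
    haveI hfin : Module.Finite Γ(Y, W) Γ(M, W) := finite_sections_of_isFiniteType M hM hW
    have hfg : (Submodule.span Γ(Y, W) (Set.range fun a : Γ(M, g ⁻¹ᵁ V) =>
        M.presheaf.map (homOfLE hWV).op a)).FG := by
      rw [hspan]; exact hfin.fg_top
    obtain ⟨S', hS'sub, hS'⟩ := (Submodule.fg_span_iff_fg_span_finset_subset _).mp hfg
    refine ⟨V, hV, W, hW, hWV, S'.attach.image (fun s => (hS'sub s.2).choose), hyW, ?_⟩
    rw [eq_top_iff, ← hspan, hS']
    apply Submodule.span_mono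
    intro s' hs'
    refine ⟨(hS'sub hs').choose, ?_, (hS'sub hs').choose_spec⟩
    exact Finset.mem_coe.mpr (Finset.mem_image.mpr ⟨⟨s', hs'⟩, Finset.mem_attach _ _, rfl⟩)
  choose V hV W hW hWV S hyW hspan using hloc
  obtain ⟨T, hTcov⟩ := isCompact_univ.elim_finite_subcover
    (fun y : Y => ((W y : Y.Opens) : Set Y))
    (fun y => (W y).2) (fun y _ => Set.mem_iUnion.mpr ⟨y, hyW y⟩)
  obtain ⟨F, u, hu, hFq, hFft, hmem⟩ := exists_sub_finiteType_of_sections
    ((Scheme.Modules.pushforward g).obj M)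
    (ι := Σ V : Z.affineOpens, Γ((Scheme.Modules.pushforward g).obj M, V.1))
    (T.biUnion (fun y => (S y).image
      (fun a => (⟨⟨V y, hV y⟩, a⟩ :
        Σ V : Z.affineOpens, Γ((Scheme.Modules.pushforward g).obj M, V.1)))))
    (fun a => a.1) (fun a => a.2)
  haveI := hFq
  have hmem' : ∀ y ∈ T, ∀ a ∈ S y, ∃ b : Γ(F, V y), u.app (V y) b = a := by
    intro y hy a ha
    have h1 : (⟨⟨V y, hV y⟩, a⟩ :
        Σ V : Z.affineOpens, Γ((Scheme.Modules.pushforward g).obj M, V.1)) ∈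
        T.biUnion (fun y => (S y).image (fun a => (⟨⟨V y, hV y⟩, a⟩ :
          Σ V : Z.affineOpens, Γ((Scheme.Modules.pushforward g).obj M, V.1)))) := by
      rw [Finset.mem_biUnion]
      exact ⟨y, hy, Finset.mem_image.mpr ⟨a, ha, rfl⟩⟩
    exact hmem _ h1
  refine ⟨F, (Scheme.Modules.pullback g).map u ≫
    (Scheme.Modules.pullbackPushforwardAdjunction g).counit.app M, hFq, hFft, ?_⟩
  apply epi_of_local_lift
  intro U t x hx
  obtain ⟨y, hyT, hxy⟩ := Set.mem_iUnion₂.mp (hTcov (Set.mem_univ x))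
  obtain ⟨r, hrle, hxr⟩ := (hW y).exists_basicOpen_le (V := U ⊓ W y) ⟨x, ⟨hx, hxy⟩⟩ hxy
  have hrU : Y.basicOpen r ≤ U := hrle.trans inf_le_left
  obtain ⟨n, s, hs⟩ := affine_surj M (hW y) r (M.presheaf.map (homOfLE hrU).op t)
  have hrV : Y.basicOpen r ≤ g ⁻¹ᵁ V y := (Y.basicOpen_le r).trans (hWV y)
  have key : ∀ s ∈ Submodule.span Γ(Y, W y)
      ((fun a => M.presheaf.map (homOfLE (hWV y)).op a) '' (S y : Set Γ(M, g ⁻¹ᵁ V y))),
      ∃ γ : Γ((Scheme.Modules.pullback g).obj F, Y.basicOpen r),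
        ((Scheme.Modules.pullback g).map u ≫
          (Scheme.Modules.pullbackPushforwardAdjunction g).counit.app M).app (Y.basicOpen r) γ =
        M.presheaf.map (homOfLE (Y.basicOpen_le r)).op s := by
    intro s hs
    induction hs using Submodule.span_induction with
    | mem s hs =>
      obtain ⟨a, ha, rfl⟩ := hs
      obtain ⟨b, hb⟩ := hmem' y hyT a ha
      refine ⟨pbSec g F hrV b, ?_⟩
      change ((Scheme.Modules.pullbackPushforwardAdjunction g).counit.app M).app _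
        (((Scheme.Modules.pullback g).map u).app _ (pbSec g F hrV b)) = _
      rw [pbSec_naturality, hb]
      exact (counit_pbSec g M hrV a).trans (res_res M _ _ a).symm
    | zero => exact ⟨0, by rw [map_zero, map_zero]⟩
    | add s₁ s₂ _ _ h₁ h₂ =>
      obtain ⟨γ₁, hγ₁⟩ := h₁
      obtain ⟨γ₂, hγ₂⟩ := h₂
      exact ⟨γ₁ + γ₂, by rw [map_add, hγ₁, hγ₂, map_add]⟩
    | smul c s _ h₁ =>
      obtain ⟨γ₁, hγ₁⟩ := h₁
      refine ⟨Y.presheaf.map (homOfLE (Y.basicOpen_le r)).op c • γ₁, ?_⟩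
      rw [Scheme.Modules.Hom.app_smul, hγ₁, smul_res]
  obtain ⟨γ, hγ⟩ := key s (by rw [hspan y]; trivial)
  have hunit : IsUnit (Y.presheaf.map (homOfLE (Y.basicOpen_le r)).op r) :=
    RingedSpace.isUnit_res_basicOpen Y.toRingedSpace r
  obtain ⟨v, hv⟩ := (hunit.pow n).exists_left_inv
  refine ⟨Y.basicOpen r, hrU, hxr, v • γ, ?_⟩
  rw [Scheme.Modules.Hom.app_smul, hγ, hs, smul_smul, hv, one_smul]

/-- **EGA II 4.6.8-type statement** for very ample modules. -/
theorem main {Y Z : Scheme.{u}}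
    (hZ : (CompactSpace Z ∧ Z.IsSeparated) ∨ TopologicalSpace.NoetherianSpace Z) (g : Y ⟶ Z)
    [QuasiCompact g]
    (K : Y.Modules) (hK : PicF.IsInvertible K) (hKva : RelProj.IsRelVeryAmple g K)
    (E : Y.Modules) (hE : Coh.IsQCoh E) (hEft : CohB1.IsFT E) :
    ∃ m₀ : ℕ, ∀ m : ℕ, m₀ ≤ m →
      ∃ (F : Z.Modules) (φ : (Scheme.Modules.pullback g).obj F ⟶
          CohB1.tensorMod E (CohB1.tensorPow K m)),
        Coh.IsQCoh F ∧ CohB1.IsFT F ∧ Epi φ := by
  haveI hZc : CompactSpace Z := by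
    rcases hZ with h | h
    · exact h.1
    · haveI := h; infer_instance
  haveI hZqs : QuasiSeparatedSpace Z := by
    rcases hZ with h | h
    · haveI := h.2; infer_instance
    · haveI := h; infer_instance
  haveI : CompactSpace Y := QuasiCompact.compactSpace_of_compactSpace g
  haveI : E.IsQuasicoherent := hE
  have hamp := Groth.Agent.H4.VAmpleRel.isRelAmple_of_isRelVeryAmple g K hKva
  haveI : QuasiSeparated g := by
    obtain ⟨E', hE', 𝒮, j, hj, P, p, chart, hP, O1, lam, hO1, i, himm, hi, -⟩ := hKva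
    haveI := himm
    haveI : IsSeparated p := Groth.Agent.S8259.result 𝒮 p chart hP
    rw [← hi]
    infer_instance
  obtain ⟨n₀, -, hn₀⟩ := exists_epi_counit_of_isRelAmple (f := g) K hamp E hEft
  refine ⟨n₀, fun m hm => ?_⟩
  have hepi := hn₀ m hm
  have hKm : PicF.IsInvertible (CohB1.tensorPow K m) := isInvertible_tensorPow hK m
  haveI : (CohB1.tensorPow K m).IsQuasicoherent := qc_of_isInvertible _ hKm
  have hMft : (CohB1.tensorMod E (CohB1.tensorPow K m)).IsFiniteType :=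
    isFiniteType_tensorMod_of_isInvertible E hEft _ hKm
  obtain ⟨F, φ, hFq, hFft, hφ⟩ := exists_ft_epi g (CohB1.tensorMod E (CohB1.tensorPow K m)) hMft hepi
  exact ⟨F, φ, hFq, hFft, hφ⟩

end Groth.Agent.H4.FTQuot
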