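import Mathlib

/-!
# Ideals generated by variables in multivariate power series rings
-/

namespace Groth.Agent.H4.MvPSVars

open MvPowerSeries

variable {σ : Type*} {R : Type*} [CommRing R]

theorem coeff_X_mul' [DecidableEq σ] (a : σ) (ψ : MvPowerSeries σ R) (m : σ →₀ ℕ) :
    coeff m (X a * ψ) = if Finsupp.single a 1 ≤ m then coeff (m - Finsupp.single a 1) ψ else 0 := by
  rw [X_def, coeff_monomial_mul]
  simp

theorem single_le_iff [DecidableEq σ] (a : σ) (m : σ →₀ ℕ) : Finsupp.single a 1 ≤ m ↔ m a ≠ 0 := by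
  rw [Finsupp.single_le_iff]
  omega

/-- Decomposition: a power series all of whose coefficients at exponents not involving the
variables of `s` vanish is a combination of the variables in `s`. -/
theorem exists_decomp [DecidableEq σ] (s : Finset σ) :
    ∀ (φ : MvPowerSeries σ R), (∀ d : σ →₀ ℕ, (∀ a ∈ s, d a = 0) → coeff d φ = 0) →
    ∃ ψ : σ → MvPowerSeries σ R, φ = ∑ a ∈ s, X a * ψ a := by
  induction s using Finset.induction_on with
  | empty =>
    intro φ h
    refine ⟨fun _ => 0, ?_⟩
    ext d
    simpa using h d (by simp)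
  | insert a s ha ih =>
    intro φ h
    -- part divisible by X a
    let φ₁ : MvPowerSeries σ R := fun d => if d a = 0 then 0 else coeff d φ
    let φ₂ : MvPowerSeries σ R := fun d => if d a = 0 then coeff d φ else 0
    have h1 : (X a : MvPowerSeries σ R) ∣ φ₁ := by
      rw [X_dvd_iff]
      intro m hm
      show (if m a = 0 then 0 else coeff m φ) = 0
      rw [if_pos hm]
    have h2 : ∀ d : σ →₀ ℕ, (∀ b ∈ s, d b = 0) → coeff d φ₂ = 0 := by
      intro d hd
      show (if d a = 0 then coeff d φ else 0) = 0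
      split_ifs with hda
      · apply h
        intro b hb
        rcases Finset.mem_insert.mp hb with rfl | hb
        · exact hda
        · exact hd b hb
      · rfl
    obtain ⟨ψ, hψ⟩ := ih φ₂ h2
    obtain ⟨χ, hχ⟩ := h1
    refine ⟨fun b => if b = a then χ else ψ b, ?_⟩
    rw [Finset.sum_insert ha]
    simp only [if_true]
    have : ∑ b ∈ s, X b * (if b = a then χ else ψ b) = ∑ b ∈ s, X b * ψ b := by
      apply Finset.sum_congr rfl
      intro b hb
      rw [if_neg]
      rintro rfl
      exact ha hb
    rw [this, ← hψ, ← hχ]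
    ext d
    show coeff d φ = (if d a = 0 then 0 else coeff d φ) + (if d a = 0 then coeff d φ else 0)
    split_ifs <;> simp

theorem coeff_sum_X_mul_of_forall_eq_zero [DecidableEq σ] (s : Finset σ) (ψ : σ → MvPowerSeries σ R)
    (d : σ →₀ ℕ) (hd : ∀ a ∈ s, d a = 0) : coeff d (∑ b ∈ s, X b * ψ b) = 0 := by
  rw [map_sum]
  apply Finset.sum_eq_zero
  intro b hb
  rw [coeff_X_mul', if_neg]
  rw [single_le_iff]
  simp [hd b hb]

theorem coeff_single_sum_X_mul [DecidableEq σ] (s : Finset σ) (ψ : σ → MvPowerSeries σ R) (a : σ)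
    (ha : a ∈ s) : coeff (Finsupp.single a 1) (∑ b ∈ s, X b * ψ b) = constantCoeff (ψ a) := by
  rw [map_sum, Finset.sum_eq_single a]
  · rw [coeff_X_mul', if_pos le_rfl]
    simp
  · intro b _ hba
    rw [coeff_X_mul', if_neg]
    rw [single_le_iff]
    simp [Ne.symm hba]
  · intro h
    exact absurd ha h

theorem mem_span_X_image_iff [DecidableEq σ] (s : Finset σ) (φ : MvPowerSeries σ R) :
    φ ∈ Ideal.span ((X : σ → MvPowerSeries σ R) '' (s : Set σ)) ↔
      ∀ d : σ →₀ ℕ, (∀ a ∈ s, d a = 0) → coeff d φ = 0 := by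
  constructor
  · intro h
    induction h using Submodule.span_induction with
    | mem x hx =>
      intro d hd
      obtain ⟨a, ha, rfl⟩ := hx
      have : (X a : MvPowerSeries σ R) ∣ X a := dvd_rfl
      exact (X_dvd_iff.mp this) d (hd a ha)
    | zero => simp
    | add x y _ _ hx hy =>
      intro d hd
      rw [map_add, hx d hd, hy d hd, add_zero]
    | smul r x _ hx =>
      intro d hd
      rw [smul_eq_mul, coeff_mul]
      apply Finset.sum_eq_zero
      rintro ⟨i, j⟩ hij
      rw [Finset.HasAntidiagonal.mem_antidiagonal] at hij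
      have hj : ∀ a ∈ s, j a = 0 := by
        intro a ha
        have := hd a ha
        rw [← hij] at this
        simp only [Finsupp.coe_add, Pi.add_apply, Nat.add_eq_zero_iff] at this
        exact this.2
      simp only
      rw [hx j hj, mul_zero]
  · intro h
    obtain ⟨ψ, rfl⟩ := exists_decomp s φ h
    apply Ideal.sum_mem
    intro a ha
    exact Ideal.mul_mem_right _ _ (Ideal.subset_span ⟨a, ha, rfl⟩)

theorem degree_le_one {d : σ →₀ ℕ} (h : d.degree ≤ 1) : d = 0 ∨ ∃ a, d = Finsupp.single a 1 := by
  classical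
  by_cases h0 : d = 0
  · exact Or.inl h0
  · right
    obtain ⟨a, ha⟩ : ∃ a, d a ≠ 0 := by
      by_contra hcon
      push Not at hcon
      exact h0 (Finsupp.ext hcon)
    refine ⟨a, ?_⟩
    have hle : Finsupp.single a 1 ≤ d := (single_le_iff a d).mpr ha
    obtain ⟨e, he⟩ := exists_add_of_le hle
    have hdeg : d.degree = 1 + e.degree := by
      rw [he, map_add, Finsupp.degree_single]
    have he0 : e.degree = 0 := by omega
    rw [Finsupp.degree_eq_zero_iff] at he0
    rw [he, he0, add_zero]

theorem mem_span_range_X_iff [Finite σ] (φ : MvPowerSeries σ R) :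
    φ ∈ Ideal.span (Set.range (X : σ → MvPowerSeries σ R)) ↔ constantCoeff φ = 0 := by
  classical
  cases nonempty_fintype σ
  have := mem_span_X_image_iff (Finset.univ : Finset σ) φ
  rw [Finset.coe_univ, Set.image_univ] at this
  rw [this]
  constructor
  · intro h
    rw [← coeff_zero_eq_constantCoeff_apply]
    exact h 0 (by simp)
  · intro h d hd
    have : d = 0 := Finsupp.ext fun a => hd a (Finset.mem_univ a)
    rw [this, coeff_zero_eq_constantCoeff_apply, h]

theorem mem_sq_of_coeff [Finite σ] (φ : MvPowerSeries σ R)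
    (h : ∀ d : σ →₀ ℕ, d.degree ≤ 1 → coeff d φ = 0) :
    φ ∈ Ideal.span (Set.range (X : σ → MvPowerSeries σ R)) *
      Ideal.span (Set.range (X : σ → MvPowerSeries σ R)) := by
  classical
  cases nonempty_fintype σ
  obtain ⟨ψ, rfl⟩ := exists_decomp (Finset.univ : Finset σ) φ (by
    intro d hd
    have : d = 0 := Finsupp.ext fun a => hd a (Finset.mem_univ a)
    exact h d (by simp [this]))
  apply Ideal.sum_mem
  intro a _
  apply Ideal.mul_mem_mul (Ideal.subset_span (Set.mem_range_self a))
  rw [mem_span_range_X_iff, ← coeff_single_sum_X_mul Finset.univ ψ a (Finset.mem_univ a)]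
  exact h _ (by simp [Finsupp.degree_single])

theorem span_range_X_le_jacobson :
    Ideal.span (Set.range (X : σ → MvPowerSeries σ R)) ≤ Ideal.jacobson ⊥ := by
  rw [Ideal.span_le]
  rintro _ ⟨a, rfl⟩
  rw [SetLike.mem_coe, Ideal.mem_jacobson_bot]
  intro y
  rw [isUnit_iff_constantCoeff]
  simp

theorem maximalIdeal_eq_span_range_X {k : Type*} [Field k] [Finite σ] :
    IsLocalRing.maximalIdeal (MvPowerSeries σ k) =
      Ideal.span (Set.range (X : σ → MvPowerSeries σ k)) := by
  ext φ
  rw [mem_span_range_X_iff, IsLocalRing.mem_maximalIdeal, mem_nonunits_iff, isUnit_iff_constantCoeff]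
  simp

end Groth.Agent.H4.MvPSVars
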