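import Groth.Agent.H4.SmRed
import Mathlib

/-!
# Smooth over reduced is reduced: local rings and schemes (helper4)
-/

universe u

namespace Groth.Agent.H4.SmRed

open TensorProduct

/-- `A → B` smooth, `q` a prime of `B` over `p`; if `A_p` is reduced then `B_q` is reduced. -/
theorem isReduced_atPrime_of_smooth {A B : Type*} [CommRing A] [CommRing B] [Algebra A B]
    [Algebra.Smooth A B] (q : Ideal B) [q.IsPrime] (p : Ideal A) [p.IsPrime]
    (hp : p = q.comap (algebraMap A B))
    (Ap : Type*) [CommRing Ap] [Algebra A Ap] [IsLocalization.AtPrime Ap p] [IsReduced Ap]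
    (Bq : Type*) [CommRing Bq] [Algebra B Bq] [IsLocalization.AtPrime Bq q] : IsReduced Bq := by
  have hT : IsReduced (Ap ⊗[A] B) := isReduced_of_smooth Ap (Ap ⊗[A] B)
  have hloc : IsLocalizedModule p.primeCompl (TensorProduct.mk A Ap B 1) :=
    (isLocalizedModule_iff_isBaseChange p.primeCompl Ap _).mpr (TensorProduct.isBaseChange A B Ap)
  refine ⟨fun z hz => ?_⟩
  obtain ⟨b, s, rfl⟩ := IsLocalization.exists_mk'_eq q.primeCompl z
  obtain ⟨n, hn⟩ := hz
  have h1 : (algebraMap B Bq b) ^ n = 0 := by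
    have : IsLocalization.mk' Bq b s * algebraMap B Bq s = algebraMap B Bq b :=
      IsLocalization.mk'_spec _ _ _
    rw [← this, mul_pow, hn, zero_mul]
  rw [← map_pow, IsLocalization.map_eq_zero_iff q.primeCompl] at h1
  obtain ⟨t, ht⟩ := h1
  -- `c = t b` is nilpotent in `B`
  have hc : ((t : B) * b) ^ (n + 1) = 0 := by
    rw [mul_pow, pow_succ, pow_succ]
    calc (t : B) ^ n * t * (b ^ n * b) = (t : B) ^ n * b * (t * b ^ n) := by ring
      _ = 0 := by rw [ht, mul_zero]
  have h2 : (1 : Ap) ⊗ₜ[A] ((t : B) * b) = 0 := by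
    apply IsReduced.eq_zero
    refine ⟨n + 1, ?_⟩
    rw [Algebra.TensorProduct.tmul_pow, hc, tmul_zero]
  have h3 : TensorProduct.mk A Ap B 1 ((t : B) * b) = 0 := h2
  rw [IsLocalizedModule.eq_zero_iff p.primeCompl] at h3
  obtain ⟨a, ha⟩ := h3
  have haq : algebraMap A B (a : A) ∉ q := by
    intro hmem
    have : (a : A) ∈ p := (SetLike.ext_iff.mp hp (a : A)).mpr hmem
    exact a.2 this
  have h4 : algebraMap B Bq b = 0 := by
    rw [IsLocalization.map_eq_zero_iff q.primeCompl]
    refine ⟨⟨algebraMap A B a * t, q.primeCompl.mul_mem haq t.2⟩, ?_⟩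
    change algebraMap A B a * t * b = 0
    rw [mul_assoc, ← Algebra.smul_def]
    exact ha
  rw [← IsLocalization.mk'_spec Bq b s] at h4
  have hu : IsUnit (algebraMap B Bq s) := IsLocalization.map_units Bq s
  exact (hu.mul_left_eq_zero).mp h4


open CategoryTheory AlgebraicGeometry in
/-- Smooth morphisms preserve reducedness of local rings. -/
theorem isReduced_stalk_of_smooth {X S : Scheme.{u}} (f : X ⟶ S) [Smooth f] (x : X)
    [IsReduced (S.presheaf.stalk (f x))] : IsReduced (X.presheaf.stalk x) := by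
  obtain ⟨_, ⟨U, hU : IsAffineOpen U, rfl⟩, hxU, -⟩ :=
    S.isBasis_affineOpens.exists_subset_of_mem_open (Set.mem_univ (f x)) isOpen_univ
  obtain ⟨_, ⟨V, hV : IsAffineOpen V, rfl⟩, hxV, hVU⟩ :=
    X.isBasis_affineOpens.exists_subset_of_mem_open (show x ∈ (f ⁻¹ᵁ U : Set X) from hxU)
      (f ⁻¹ᵁ U).isOpen
  have e : V ≤ f ⁻¹ᵁ U := hVU
  have hsm : (f.appLE U V e).hom.Smooth := f.smooth_appLE hU hV e
  algebraize [(f.appLE U V e).hom]
  have hsm' : Algebra.Smooth Γ(S, U) Γ(X, V) := hsm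
  let q := (hV.primeIdealOf ⟨x, hxV⟩).asIdeal
  let p := (hU.primeIdealOf ⟨f x, hxU⟩).asIdeal
  have hp : p = q.comap (algebraMap Γ(S, U) Γ(X, V)) := by
    have := IsAffineOpen.comap_primeIdealOf_appLE (f := f) U hU V hV e hxV
    exact (congrArg PrimeSpectrum.asIdeal this).symm
  let _ := S.presheaf.algebra_section_stalk ⟨f x, hxU⟩
  let _ := X.presheaf.algebra_section_stalk ⟨x, hxV⟩
  have h1 : IsLocalization.AtPrime (S.presheaf.stalk (f x)) p := hU.isLocalization_stalk ⟨f x, hxU⟩
  have h2 : IsLocalization.AtPrime (X.presheaf.stalk x) q := hV.isLocalization_stalk ⟨x, hxV⟩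
  exact isReduced_atPrime_of_smooth q p hp (S.presheaf.stalk (f x)) (X.presheaf.stalk x)

open CategoryTheory AlgebraicGeometry in
/-- A scheme smooth over a reduced scheme is reduced. -/
theorem isReduced_of_smooth_scheme {X S : Scheme.{u}} (f : X ⟶ S) [Smooth f]
    [AlgebraicGeometry.IsReduced S] : AlgebraicGeometry.IsReduced X := by
  have : ∀ x : X, IsReduced (X.presheaf.stalk x) := fun x => isReduced_stalk_of_smooth f x
  exact isReduced_of_isReduced_stalk X

end Groth.Agent.H4.SmRed
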