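import Mathlib
import Groth.Prelude.Def_PBC
import Groth.Agent.H4.IndEtCrit

set_option autoImplicit false
universe u
open CategoryTheory CategoryTheory.Limits TensorProduct

namespace Groth.Agent.H4.IndEtDescent
open Groth.Agent.H4.IndEtCrit

variable {A B : Type u} [CommRing A] [CommRing B] [Algebra A B]

theorem Crit.factorFP (h : Crit A B) (F : Type u) [CommRing F] [Algebra A F]
    [Algebra.FinitePresentation A F] (g : F →ₐ[A] B) :
    ∃ (C : Type u) (_ : CommRing C) (_ : Algebra A C) (_ : Algebra.Etale A C) (g' : C →ₐ[A] B)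
      (k : F →ₐ[A] C), g'.comp k = g := by
  obtain ⟨J, _, _, D, c, hc, het, ⟨e⟩⟩ := isIndEtale_of_crit h
  obtain ⟨j, gj, hgj⟩ := factor_fp D c hc e F g
  exact ⟨(D.obj j).right, inferInstance, stageAlg D j, het j, γₐ D c e j, gj, hgj⟩

theorem Crit.factorRing (h : Crit A B) (T : Type u) [CommRing T] [Algebra.FinitePresentation ℤ T]
    (ι : T →+* B) :
    ∃ (C : Type u) (_ : CommRing C) (_ : Algebra A C) (_ : Algebra.Etale A C) (g : C →ₐ[A] B)
      (ι' : T →+* C), g.toRingHom.comp ι' = ι := by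
  let g₀ : A ⊗[ℤ] T →ₐ[A] B :=
    Algebra.TensorProduct.lift (Algebra.ofId A B) ι.toIntAlgHom (fun _ _ => Commute.all _ _)
  obtain ⟨C, _, _, hC, g', k, hk⟩ := Crit.factorFP h (A ⊗[ℤ] T) g₀
  refine ⟨C, inferInstance, inferInstance, hC, g',
    k.toRingHom.comp Algebra.TensorProduct.includeRight.toRingHom, ?_⟩
  ext t
  have := congrArg (fun φ => φ (1 ⊗ₜ t)) hk
  simpa [g₀] using this

theorem Crit.descent (h : Crit A B) (E : Type u) [CommRing E] [Algebra B E] [Algebra.Etale B E] :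
    ∃ (C : Type u) (_ : CommRing C) (_ : Algebra A C) (_ : Algebra.Etale A C) (g : C →ₐ[A] B)
      (E₀ : Type u) (_ : CommRing E₀) (_ : Algebra C E₀) (_ : Algebra.Etale C E₀),
      letI := g.toRingHom.toAlgebra; Nonempty (E ≃ₐ[B] B ⊗[C] E₀) := by
  obtain ⟨B₁, E₁, _, _, hfg, hE₁, ⟨φ⟩⟩ := Algebra.Etale.exists_subalgebra_fg ℤ B E
  haveI : Algebra.FiniteType ℤ B₁ := (B₁.fg_iff_finiteType).mp hfg
  haveI : Algebra.FinitePresentation ℤ B₁ := Algebra.FinitePresentation.of_finiteType.mp inferInstance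
  obtain ⟨C, _, _, hC, g, ι', hι'⟩ := Crit.factorRing h B₁ (algebraMap B₁ B)
  letI : Algebra B₁ C := ι'.toAlgebra
  letI : Algebra C B := g.toRingHom.toAlgebra
  haveI : IsScalarTower B₁ C B :=
    IsScalarTower.of_algebraMap_eq (fun x => (congrArg (fun φ => φ x) hι').symm)
  exact ⟨C, inferInstance, inferInstance, hC, g, C ⊗[B₁] E₁, inferInstance, inferInstance,
    inferInstance, ⟨φ.trans (Algebra.TensorProduct.cancelBaseChange B₁ C B B E₁).symm⟩⟩


theorem Crit.liftFin (h : Crit A B) {σ : Type*} [Fintype σ] (b : σ → B) :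
    ∃ (C : Type u) (_ : CommRing C) (_ : Algebra A C) (_ : Algebra.Etale A C) (g : C →ₐ[A] B)
      (c : σ → C), ∀ i, g (c i) = b i := by
  obtain ⟨J, _, _, D, c, hc, het, ⟨e⟩⟩ := isIndEtale_of_crit h
  obtain ⟨j, y, hy⟩ := exists_γ_eq_fin D c hc e b
  exact ⟨(D.obj j).right, inferInstance, stageAlg D j, het j, γₐ D c e j, y, hy⟩

/-- If `B` is ind-étale over `A` and `E` is étale over `B`, every element of `E` lifts to an étale
`A`-algebra mapping to `E`. -/
theorem Crit.liftEtaleOver (h : Crit A B) (E : Type u) [CommRing E] [Algebra B E] [Algebra A E]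
    [IsScalarTower A B E] [Algebra.Etale B E] (ε : E) :
    ∃ (F : Type u) (_ : CommRing F) (_ : Algebra A F) (_ : Algebra.Etale A F) (k : F →ₐ[A] E)
      (f : F), k f = ε := by
  classical
  obtain ⟨C, _, _, hC, gC, E₀, _, _, hE₀, ⟨φ⟩⟩ := Crit.descent h E
  letI : Algebra C B := gC.toRingHom.toAlgebra
  letI : Algebra A E₀ := Algebra.compHom E₀ (algebraMap A C)
  haveI : IsScalarTower A C E₀ := IsScalarTower.of_algebraMap_eq (fun _ => rfl)
  haveI : Algebra.Etale A E₀ := Algebra.Etale.comp A C E₀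
  obtain ⟨S, hS⟩ := TensorProduct.exists_finset (φ ε)
  obtain ⟨C₁, _, _, hC₁, g₁, c₁, hc₁⟩ := Crit.liftFin h (fun i : S => i.1.1)
  -- the two maps into `E`
  let f₁ : C₁ →ₐ[A] E := ((Algebra.ofId B E).restrictScalars A).comp g₁
  let f₂ : E₀ →ₐ[A] E :=
    { toRingHom := φ.symm.toAlgHom.toRingHom.comp
        (Algebra.TensorProduct.includeRight : E₀ →ₐ[C] B ⊗[C] E₀).toRingHom
      commutes' := by
        intro a
        show φ.symm ((1 : B) ⊗ₜ[C] (algebraMap A E₀ a)) = algebraMap A E a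
        have h1 : (1 : B) ⊗ₜ[C] (algebraMap A E₀ a) = algebraMap B (B ⊗[C] E₀) (algebraMap A B a) := by
          rw [IsScalarTower.algebraMap_apply A C E₀, Algebra.algebraMap_eq_smul_one (algebraMap A C a),
            ← TensorProduct.smul_tmul, Algebra.TensorProduct.algebraMap_apply]
          congr 1
          rw [Algebra.smul_def, mul_one]
          exact gC.commutes a
        rw [h1, AlgEquiv.commutes, ← IsScalarTower.algebraMap_apply] }
  refine ⟨C₁ ⊗[A] E₀, inferInstance, inferInstance, inferInstance,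
    Algebra.TensorProduct.lift f₁ f₂ (fun _ _ => Commute.all _ _),
    ∑ i : S, c₁ i ⊗ₜ[A] i.1.2, ?_⟩
  rw [map_sum]
  apply φ.injective
  rw [hS, map_sum]
  rw [← Finset.sum_coe_sort S]
  refine Finset.sum_congr rfl (fun i _ => ?_)
  rw [Algebra.TensorProduct.lift_tmul]
  show φ (algebraMap B E (g₁ (c₁ i)) * φ.symm ((1 : B) ⊗ₜ[C] i.1.2)) = _
  rw [map_mul, AlgEquiv.apply_symm_apply, AlgEquiv.commutes, hc₁,
    Algebra.TensorProduct.algebraMap_apply, Algebra.TensorProduct.tmul_mul_tmul]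
  simp

end Groth.Agent.H4.IndEtDescent
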