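import Mathlib
import Groth.Prelude.Def_PBC
import Groth.Agent.H4.IndEtDescent
import Groth.Agent.S0733

set_option autoImplicit false
universe u
open CategoryTheory CategoryTheory.Limits TensorProduct

namespace Groth.Agent.H4.IndEtTrans
open Groth.Agent.H4.IndEtCrit Groth.Agent.H4.IndEtDescent

section
variable {A B : Type u} [CommRing A] [CommRing B] [Algebra A B]

theorem Crit.of_algEquiv (h : Crit A B) {B' : Type u} [CommRing B'] [Algebra A B'] (e : B ≃ₐ[A] B') :
    Crit A B' := by
  constructor
  · intro b'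
    obtain ⟨C, _, _, hC, g, c, hc⟩ := h.lift (e.symm b')
    exact ⟨C, inferInstance, inferInstance, hC, e.toAlgHom.comp g, c, by
      rw [AlgHom.comp_apply, hc]; exact e.apply_symm_apply b'⟩
  · intro C _ _ _ g c hc
    obtain ⟨C', _, _, hC', k, g', hg', hk⟩ := h.kill C (e.symm.toAlgHom.comp g) c (by
      rw [AlgHom.comp_apply, hc]; exact map_zero _)
    refine ⟨C', inferInstance, inferInstance, hC', k, e.toAlgHom.comp g', ?_, hk⟩
    rw [AlgHom.comp_assoc, hg']
    ext x
    exact e.apply_symm_apply _

/-- ind-étale over `A` and receiving a map from an étale `A`-algebra `C` ⇒ ind-étale over `C` -/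
theorem Crit.of_etale_left (h : Crit A B) (C : Type u) [CommRing C] [Algebra A C] [Algebra.Etale A C]
    [Algebra C B] [IsScalarTower A C B] : Crit C B := by
  constructor
  · intro b
    obtain ⟨C₁, _, _, hC₁, g₁, x, hx⟩ := h.lift b
    refine ⟨C ⊗[A] C₁, inferInstance, inferInstance, inferInstance,
      Algebra.TensorProduct.lift (Algebra.ofId C B) g₁ (fun _ _ => Commute.all _ _), 1 ⊗ₜ x, ?_⟩
    rw [Algebra.TensorProduct.lift_tmul, map_one, one_mul, hx]
  · intro G _ _ _ g x hx
    letI : Algebra A G := Algebra.compHom G (algebraMap A C)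
    haveI : IsScalarTower A C G := IsScalarTower.of_algebraMap_eq (fun _ => rfl)
    haveI : Algebra.Etale A G := Algebra.Etale.comp A C G
    obtain ⟨G', _, _, hG', k, g', hg', hk⟩ := h.kill G (g.restrictScalars A) x hx
    letI : Algebra C G' := (k.toRingHom.comp (algebraMap C G)).toAlgebra
    haveI : IsScalarTower A C G' := IsScalarTower.of_algebraMap_eq (fun a => by
      show algebraMap A G' a = k (algebraMap C G (algebraMap A C a))
      rw [← IsScalarTower.algebraMap_apply A C G, k.commutes])
    haveI : Algebra.Etale C G' := Algebra.Etale.of_restrictScalars (R := A) (A := C) (B := G')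
    let kC : G →ₐ[C] G' := { k.toRingHom with commutes' := fun c => rfl }
    let g'C : G' →ₐ[C] B := { g'.toRingHom with
      commutes' := fun c => by
        show g' (k (algebraMap C G c)) = algebraMap C B c
        have := congrArg (fun φ => φ (algebraMap C G c)) hg'
        simp only [AlgHom.comp_apply, AlgHom.restrictScalars_apply] at this
        rw [this, g.commutes] }
    refine ⟨G', inferInstance, inferInstance, inferInstance, kC, g'C, ?_, hk⟩
    ext y
    exact congrArg (fun φ => φ y) hg'

/-- étale followed by ind-étale is ind-étale -/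
theorem Crit.trans_etale (E₀ E : Type u) [CommRing E₀] [CommRing E] [Algebra A E₀]
    [Algebra.Etale A E₀] [Algebra E₀ E] [Algebra A E] [IsScalarTower A E₀ E] (h : Crit E₀ E) :
    Crit A E := by
  constructor
  · intro ε
    obtain ⟨G, _, _, hG, g, x, hx⟩ := h.lift ε
    letI : Algebra A G := Algebra.compHom G (algebraMap A E₀)
    haveI : IsScalarTower A E₀ G := IsScalarTower.of_algebraMap_eq (fun _ => rfl)
    haveI : Algebra.Etale A G := Algebra.Etale.comp A E₀ G
    exact ⟨G, inferInstance, inferInstance, inferInstance, g.restrictScalars A, x, hx⟩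
  · intro F _ _ _ k f hf
    let K : E₀ ⊗[A] F →ₐ[E₀] E :=
      Algebra.TensorProduct.lift (Algebra.ofId E₀ E) k (fun _ _ => Commute.all _ _)
    have hK : K (1 ⊗ₜ f) = 0 := by
      rw [Algebra.TensorProduct.lift_tmul, map_one, one_mul, hf]
    obtain ⟨G', _, _, hG', h', g', hg', hh'⟩ := h.kill (E₀ ⊗[A] F) K (1 ⊗ₜ f) hK
    letI : Algebra A G' := Algebra.compHom G' (algebraMap A E₀)
    haveI : IsScalarTower A E₀ G' := IsScalarTower.of_algebraMap_eq (fun _ => rfl)
    haveI : Algebra.Etale A G' := Algebra.Etale.comp A E₀ G'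
    refine ⟨G', inferInstance, inferInstance, inferInstance,
      (h'.restrictScalars A).comp Algebra.TensorProduct.includeRight, g'.restrictScalars A, ?_, hh'⟩
    ext y
    have := congrArg (fun φ => φ (1 ⊗ₜ y)) hg'
    simp only [AlgHom.comp_apply] at this
    show g' (h' (1 ⊗ₜ y)) = k y
    rw [this, Algebra.TensorProduct.lift_tmul, map_one, one_mul]

theorem Crit.baseChange (h : Crit A B) (A' : Type u) [CommRing A'] [Algebra A A'] :
    Crit A' (A' ⊗[A] B) :=
  crit_of_isIndEtale (Groth.Agent.S0733.result A B A' (isIndEtale_of_crit h))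


/-- ind-étale followed by étale is ind-étale -/
theorem Crit.etale_over (h : Crit A B) (E : Type u) [CommRing E] [Algebra B E] [Algebra A E]
    [IsScalarTower A B E] [Algebra.Etale B E] : Crit A E := by
  obtain ⟨C, _, _, hC, gC, E₀, _, _, hE₀, ⟨φ⟩⟩ := Crit.descent h E
  letI algCB : Algebra C B := gC.toRingHom.toAlgebra
  haveI : IsScalarTower A C B := IsScalarTower.of_algebraMap_eq (fun a => (gC.commutes a).symm)
  have cCB : Crit C B := Crit.of_etale_left h C
  have cE₀ : Crit E₀ (E₀ ⊗[C] B) := Crit.baseChange cCB E₀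
  let ψ : E₀ ⊗[C] B ≃+* E :=
    (Algebra.TensorProduct.comm C E₀ B).toRingEquiv.trans φ.symm.toRingEquiv
  letI algE₀E : Algebra E₀ E := (ψ.toRingHom.comp (algebraMap E₀ (E₀ ⊗[C] B))).toAlgebra
  let ψₐ : E₀ ⊗[C] B ≃ₐ[E₀] E := AlgEquiv.ofRingEquiv (f := ψ) (fun x => rfl)
  have cE : Crit E₀ E := Crit.of_algEquiv cE₀ ψₐ
  letI : Algebra A E₀ := Algebra.compHom E₀ (algebraMap A C)
  haveI : IsScalarTower A C E₀ := IsScalarTower.of_algebraMap_eq (fun _ => rfl)
  haveI : Algebra.Etale A E₀ := Algebra.Etale.comp A C E₀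
  haveI : IsScalarTower A E₀ E := IsScalarTower.of_algebraMap_eq (fun a => by
    show algebraMap A E a = φ.symm (Algebra.TensorProduct.comm C E₀ B
      (algebraMap A E₀ a ⊗ₜ[C] (1 : B)))
    rw [Algebra.TensorProduct.comm_tmul]
    have h1 : (1 : B) ⊗ₜ[C] (algebraMap A E₀ a) = algebraMap B (B ⊗[C] E₀) (algebraMap A B a) := by
      rw [IsScalarTower.algebraMap_apply A C E₀, Algebra.algebraMap_eq_smul_one (algebraMap A C a),
        ← TensorProduct.smul_tmul, Algebra.TensorProduct.algebraMap_apply]
      congr 1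
      rw [Algebra.smul_def, mul_one]
      exact gC.commutes a
    rw [h1, AlgEquiv.commutes, ← IsScalarTower.algebraMap_apply])
  exact Crit.trans_etale E₀ E cE

end

end Groth.Agent.H4.IndEtTrans
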