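import Mathlib
import Groth.Agent.Lib.Helper1.GIrrS
import Groth.Agent.Lib.Helper1.SecCompA
import Groth.Agent.Lib.Helper1.ConnCompSch2

set_option autoImplicit false
set_option linter.style.haveILetI false
set_option linter.unusedSectionVars false
set_option linter.unusedVariables false

universe u
open CategoryTheory CategoryTheory.Limits AlgebraicGeometry

namespace Groth.Agent.H4.FcA

set_option backward.isDefEq.respectTransparency false in
/-- In a cartesian square, the image of the connected component of a point in a fibre of the base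
change is the connected component of the image point in the corresponding fibre. -/
theorem fibre_image {X Y X' Y' : Scheme.{u}} (f : X ⟶ Y) (f' : X' ⟶ Y') (g' : X' ⟶ X) (g : Y' ⟶ Y)
    (hc : IsPullback g' f' f g) (y' : Y') (x0' : X') (hx0' : f' x0' = y') :
    g' '' connectedComponentIn (f' ⁻¹' {y'}) x0' =
      connectedComponentIn (f ⁻¹' {g y'}) (g' x0') := by
  have hφ := isPullback_fiberToSpecResidueField_of_isPullback hc y'
  set φ : f'.fiber y' ⟶ f.fiber (g y') :=
    pullback.map _ _ _ _ g' (Spec.map (g.residueFieldMap y')) g hc.w.symm (by simp) with hφdef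
  have hφι : φ ≫ f.fiberι (g y') = f'.fiberι y' ≫ g' := by
    simp only [hφdef, Scheme.Hom.fiberι]
    exact pullback.lift_fst _ _ _
  have hφι' : ∀ z, f.fiberι (g y') (φ z) = g' (f'.fiberι y' z) := fun z => by
    rw [← Scheme.Hom.comp_apply, hφι, Scheme.Hom.comp_apply]
  obtain ⟨z0, hz0⟩ : x0' ∈ Set.range (f'.fiberι y') := by
    rw [f'.range_fiberι y']; exact hx0'
  have key : φ '' connectedComponent z0 = connectedComponent (φ z0) := by
    letI alg : Algebra ↑(Y.residueField (g y')) ↑(Y'.residueField y') :=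
      (g.residueFieldMap y').hom.toAlgebra
    letI ov : (f.fiber (g y')).Over (Spec (CommRingCat.of ↑(Y.residueField (g y')))) :=
      ⟨f.fiberToSpecResidueField (g y')⟩
    let e := hφ.isoPullback
    have he : e.hom ≫ pullback.fst _ _ = φ := hφ.isoPullback_hom_fst
    have h1 := @Groth.Agent.H1.ConnCompSch.s1583 ↑(Y.residueField (g y')) _ (f.fiber (g y')) ov
      ↑(Y'.residueField y') _ alg (e.hom z0)
    have h1' : (pullback.fst (f.fiberToSpecResidueField (g y'))
        (Spec.map (g.residueFieldMap y'))) '' connectedComponent (e.hom z0) =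
        connectedComponent ((pullback.fst (f.fiberToSpecResidueField (g y'))
          (Spec.map (g.residueFieldMap y'))) (e.hom z0)) := h1
    have h2 := Groth.Agent.H1.ConnCompSch.homeomorph_image_connectedComponent e.hom.homeomorph z0
    have h3 : ∀ w, φ w = (pullback.fst (f.fiberToSpecResidueField (g y'))
        (Spec.map (g.residueFieldMap y'))) (e.hom w) := fun w => by
      rw [← he]; rfl
    rw [h3 z0, ← h1']
    have h2' : connectedComponent (e.hom z0) = e.hom '' connectedComponent z0 := h2.symm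
    rw [h2', Set.image_image]
    exact Set.image_congr fun w _ => h3 w
  rw [← hz0, ← Groth.Agent.H1.SecComp.fiberι_image_connectedComponent f' y' z0, ← hφι' z0,
    ← Groth.Agent.H1.SecComp.fiberι_image_connectedComponent f (g y') (φ z0), ← key,
    Set.image_image, Set.image_image]
  exact Set.image_congr fun z _ => (hφι' z).symm

theorem main_sq {S S' X X' : Scheme.{u}} (f : X ⟶ S) (g : S' ⟶ S) (g' : X' ⟶ X) (f' : X' ⟶ S')
    (hc : IsPullback g' f' f g) [Smooth f'] [QuasiCompact f'] [QuasiSeparated f']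
    (hg' : IsOpenMap g') (e' : S' ⟶ X') (he' : e' ≫ f' = 𝟙 S') :
    ∃ U : X.Opens, ∀ s : S, (U : Set X) ∩ f ⁻¹' {s} =
      ⋃ x ∈ Set.range (e' ≫ g') ∩ f ⁻¹' {s}, connectedComponentIn (f ⁻¹' {s}) x := by
  have hU' : IsOpen (MoreMor.sectionComponents f' e') := by
    rw [isOpen_iff_forall_mem_open]
    intro x' hx'
    have hgr : GeometricallyReduced (f'.fiberToSpecResidueField (f' x')) := by
      have hsm : Smooth (f'.fiberToSpecResidueField (f' x')) :=
        MorphismProperty.pullback_snd (P := @Smooth) _ _ (inferInstance : Smooth f')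
      exact @Groth.Agent.H1.GIrr.geometricallyReduced_of_smooth' _ _ _ _ hsm
    have h1 := Groth.Agent.H1.GIrr.main1327 f' e' he' (f' x') hgr
    exact ⟨interior (MoreMor.sectionComponents f' e'), interior_subset, isOpen_interior, h1 hx'⟩
  refine ⟨⟨g' '' MoreMor.sectionComponents f' e', hg' _ hU'⟩, fun s => ?_⟩
  ext x
  constructor
  · rintro ⟨⟨x', hx', rfl⟩, hxs⟩
    have hw : f (g' x') = g (f' x') := by
      rw [← Scheme.Hom.comp_apply, hc.w, Scheme.Hom.comp_apply]
    have hgs : g (f' x') = s := hw.symm.trans hxs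
    have hfe : f' (e' (f' x')) = f' x' := by
      rw [← Scheme.Hom.comp_apply, he']; rfl
    have himg := fibre_image f f' g' g hc (f' x') (e' (f' x')) hfe
    have hmem : g' x' ∈ connectedComponentIn (f ⁻¹' {g (f' x')}) (g' (e' (f' x'))) := by
      rw [← himg]; exact ⟨x', hx', rfl⟩
    rw [hgs] at hmem
    refine Set.mem_iUnion₂.mpr ⟨g' (e' (f' x')), ⟨⟨f' x', rfl⟩, ?_⟩, hmem⟩
    show f (g' (e' (f' x'))) = s
    have hw2 : f (g' (e' (f' x'))) = g (f' (e' (f' x'))) := by
      rw [← Scheme.Hom.comp_apply, hc.w, Scheme.Hom.comp_apply]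
    rw [hw2, hfe, hgs]
  · intro hx
    obtain ⟨x0, ⟨⟨y', rfl⟩, hx0s⟩, hxT⟩ := Set.mem_iUnion₂.mp hx
    have hfe : f' (e' y') = y' := by
      rw [← Scheme.Hom.comp_apply, he']; rfl
    have hgs : g y' = s := by
      have hw : f (g' (e' y')) = g (f' (e' y')) := by
        rw [← Scheme.Hom.comp_apply, hc.w, Scheme.Hom.comp_apply]
      rw [hfe] at hw
      exact hw.symm.trans hx0s
    have himg := fibre_image f f' g' g hc y' (e' y') hfe
    rw [hgs] at himg
    have hx' : x ∈ g' '' connectedComponentIn (f' ⁻¹' {y'}) (e' y') := by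
      rw [himg]; exact hxT
    obtain ⟨x', hx'mem, rfl⟩ := hx'
    have hfx' : f' x' = y' := by
      have h0 := connectedComponentIn_subset _ _ hx'mem
      exact h0
    refine ⟨⟨x', ?_, rfl⟩, ?_⟩
    · show x' ∈ connectedComponentIn (f' ⁻¹' {f' x'}) (e' (f' x'))
      rw [hfx']; exact hx'mem
    · exact connectedComponentIn_subset _ _ hxT

theorem s15350 {S S' X : Scheme.{u}} (f : X ⟶ S)
    [Smooth f] [QuasiCompact f] [QuasiSeparated f] (g : S' ⟶ S) [UniversallyOpen g] (e : S' ⟶ X)
    (he : e ≫ f = g) :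
    ∃ U : X.Opens, ∀ s : S, (U : Set ↥X) ∩ f.base ⁻¹' {s} =
      ⋃ x ∈ Set.range e.base ∩ f.base ⁻¹' {s}, connectedComponentIn (f.base ⁻¹' {s}) x := by
  have hc : IsPullback (pullback.fst f g) (pullback.snd f g) f g := IsPullback.of_hasPullback f g
  obtain ⟨e', he'⟩ : ∃ e' : S' ⟶ pullback f g, e' = pullback.lift e (𝟙 S')
      (by rw [he, Category.id_comp]) := ⟨_, rfl⟩
  have he'f : e' ≫ pullback.snd f g = 𝟙 S' := by rw [he']; exact pullback.lift_snd _ _ _
  have he'g : e' ≫ pullback.fst f g = e := by rw [he']; exact pullback.lift_fst _ _ _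
  obtain ⟨U, hU⟩ := main_sq f g (pullback.fst f g) (pullback.snd f g) hc
    (pullback.fst f g).isOpenMap e' he'f
  refine ⟨U, fun s => ?_⟩
  have h := hU s
  rw [he'g] at h
  exact h

end Groth.Agent.H4.FcA
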