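import Mathlib
import Groth.Prelude.Def_FibCat2
import Groth.Prelude.Def_W4stkcategoriessitesFib

set_option autoImplicit false
universe v u
open CategoryTheory CategoryTheory.Functor Category IsHomLift

namespace Groth.Agent.H4.FibFactor

section Lifts
variable {𝒮 : Type*} [Category 𝒮] {𝒳 : Type*} [Category 𝒳] {𝒴 : Type*} [Category 𝒴]

lemma isHomLift_id_of_eq (p : 𝒳 ⥤ 𝒮) {a b : 𝒳} (φ : a ⟶ b) {R R' : 𝒮} (h : R = R')
    [p.IsHomLift (𝟙 R) φ] : p.IsHomLift (𝟙 R') φ := by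
  subst h; infer_instance

/-- cancellation of a lift of an identity on the right -/
lemma isHomLift_of_comp_lift_id (p : 𝒳 ⥤ 𝒮) {R S : 𝒮} (g : R ⟶ S) {a b c : 𝒳}
    (φ : a ⟶ b) (ψ : b ⟶ c)
    [h1 : p.IsHomLift g (φ ≫ ψ)] [h2 : p.IsHomLift (𝟙 S) ψ] : p.IsHomLift g φ := by
  have hb : p.obj b = S := domain_eq p (𝟙 S) ψ
  have hc : p.obj c = S := codomain_eq p (𝟙 S) ψ
  have ha : p.obj a = R := domain_eq p g (φ ≫ ψ)
  apply of_fac' p g φ ha hb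
  have e1 := fac' p g (φ ≫ ψ)
  have e2 := fac' p (𝟙 S) ψ
  rw [p.map_comp, e2] at e1
  simp only [Category.id_comp, eqToHom_trans] at e1
  rw [← cancel_mono (eqToHom (hb.trans hc.symm)), e1]
  simp

lemma isHomLift_of_two (p : 𝒳 ⥤ 𝒮) (q : 𝒴 ⥤ 𝒮) {R S : 𝒮} (g : R ⟶ S) {a b : 𝒳} (φ : a ⟶ b)
    {a' b' : 𝒴} (ψ : a' ⟶ b') [h1 : p.IsHomLift g φ] [h2 : p.IsHomLift (q.map ψ) φ] :
    q.IsHomLift g ψ := by
  have e := fac' p (q.map ψ) φ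
  have e' := fac p g φ
  rw [e'] 
  rw [e]
  infer_instance

end Lifts

section Main
variable {C : Type u} [Category.{v} C] {𝒳 𝒴 : BasedCategory.{v, max u v} C} (F : 𝒳 ⥤ᵇ 𝒴)

/-- objects of the factorization category -/
structure Obj where
  x : 𝒳.obj
  y : 𝒴.obj
  f : y ⟶ F.obj x
  hf : 𝒴.p.IsHomLift (𝟙 (𝒳.p.obj x)) f

attribute [instance] Obj.hf

variable {F} in
/-- morphisms of the factorization category -/
@[ext] structure Hom (ξ ξ' : Obj F) where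
  a : ξ.x ⟶ ξ'.x
  b : ξ.y ⟶ ξ'.y
  w : b ≫ ξ'.f = ξ.f ≫ F.map a

instance : Category (Obj F) where
  Hom ξ ξ' := Hom ξ ξ'
  id ξ := ⟨𝟙 _, 𝟙 _, by simp⟩
  comp m n := ⟨m.a ≫ n.a, m.b ≫ n.b, by
    rw [Category.assoc, n.w, ← Category.assoc, m.w, Category.assoc, F.map_comp]⟩
  id_comp m := Hom.ext (Category.id_comp _) (Category.id_comp _)
  comp_id m := Hom.ext (Category.comp_id _) (Category.comp_id _)
  assoc m n k := Hom.ext (Category.assoc _ _ _) (Category.assoc _ _ _)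

variable {F}

@[simp] lemma id_a (ξ : Obj F) : (𝟙 ξ : ξ ⟶ ξ).a = 𝟙 ξ.x := rfl
@[simp] lemma id_b (ξ : Obj F) : (𝟙 ξ : ξ ⟶ ξ).b = 𝟙 ξ.y := rfl
@[simp] lemma comp_a {ξ ξ' ξ'' : Obj F} (m : ξ ⟶ ξ') (n : ξ' ⟶ ξ'') :
    (m ≫ n).a = m.a ≫ n.a := rfl
@[simp] lemma comp_b {ξ ξ' ξ'' : Obj F} (m : ξ ⟶ ξ') (n : ξ' ⟶ ξ'') :
    (m ≫ n).b = m.b ≫ n.b := rfl

lemma hom_ext {ξ ξ' : Obj F} {m n : ξ ⟶ ξ'} (ha : m.a = n.a) (hb : m.b = n.b) : m = n :=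
  Hom.ext ha hb

variable (F)

/-- forgetful functor to `𝒳` -/
abbrev wF : Obj F ⥤ 𝒳.obj where
  obj ξ := ξ.x
  map m := m.a

/-- forgetful functor to `𝒴` -/
abbrev vF : Obj F ⥤ 𝒴.obj where
  obj ξ := ξ.y
  map m := m.b

/-- the structure functor -/
abbrev pF : Obj F ⥤ C where
  obj ξ := 𝒳.p.obj ξ.x
  map m := 𝒳.p.map m.a
  map_id ξ := 𝒳.p.map_id _
  map_comp m n := 𝒳.p.map_comp _ _

/-- the inclusion of `𝒳` -/
abbrev uF : 𝒳.obj ⥤ Obj F where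
  obj x := ⟨x, F.obj x, 𝟙 _, inferInstance⟩
  map a := ⟨a, F.map a, by simp⟩
  map_id x := hom_ext rfl (F.map_id _)
  map_comp a a' := hom_ext rfl (F.map_comp _ _)

variable {F}

instance lift_b {ξ ξ' : Obj F} (m : ξ ⟶ ξ') : 𝒴.p.IsHomLift (𝒳.p.map m.a) m.b := by
  haveI : 𝒴.p.IsHomLift (𝒳.p.map m.a) (m.b ≫ ξ'.f) := by
    rw [m.w]
    infer_instance
  exact isHomLift_of_comp_lift_id 𝒴.p (𝒳.p.map m.a) m.b ξ'.f

instance lift_a {ξ ξ' : Obj F} (m : ξ ⟶ ξ') : 𝒳.p.IsHomLift (𝒴.p.map m.b) m.a :=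
  isHomLift_of_two 𝒴.p 𝒳.p (𝒴.p.map m.b) m.b m.a

lemma lift_b_of_a {ξ ξ' : Obj F} (m : ξ ⟶ ξ') {R S : C} (g : R ⟶ S) [𝒳.p.IsHomLift g m.a] :
    𝒴.p.IsHomLift g m.b :=
  isHomLift_of_two 𝒳.p 𝒴.p g m.a m.b

lemma lift_a_of_b {ξ ξ' : Obj F} (m : ξ ⟶ ξ') {R S : C} (g : R ⟶ S) [𝒴.p.IsHomLift g m.b] :
    𝒳.p.IsHomLift g m.a :=
  isHomLift_of_two 𝒴.p 𝒳.p g m.b m.a

lemma lift_a_of_pF {ξ ξ' : Obj F} (m : ξ ⟶ ξ') {R S : C} (g : R ⟶ S) [(pF F).IsHomLift g m] :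
    𝒳.p.IsHomLift g m.a :=
  of_fac 𝒳.p g m.a (domain_eq (pF F) g m) (codomain_eq (pF F) g m) (fac (pF F) g m)

lemma lift_pF_of_a {ξ ξ' : Obj F} (m : ξ ⟶ ξ') {R S : C} (g : R ⟶ S) [𝒳.p.IsHomLift g m.a] :
    (pF F).IsHomLift g m :=
  of_fac (pF F) g m (domain_eq 𝒳.p g m.a) (codomain_eq 𝒳.p g m.a) (fac 𝒳.p g m.a)

/-- Lemma A: a morphism with strongly cartesian components is strongly cartesian -/
lemma sc_of_components (hF : FibCat.PreservesStronglyCartesian F) {ξ ξ' : Obj F} (m : ξ ⟶ ξ')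
    {R S : C} (g : R ⟶ S)
    [ha : 𝒳.p.IsStronglyCartesian g m.a] [hb : 𝒴.p.IsStronglyCartesian g m.b] :
    (pF F).IsStronglyCartesian g m := by
  obtain rfl : 𝒳.p.obj ξ.x = R := domain_eq 𝒳.p g m.a
  haveI : (pF F).IsHomLift g m := lift_pF_of_a m g
  haveI hFa : 𝒴.p.IsStronglyCartesian g (F.map m.a) := hF g m.a ha
  exact
  { universal_property' := by
      intro ζ h m' hm'
      haveI ha' : 𝒳.p.IsHomLift (h ≫ g) m'.a := lift_a_of_pF m' (h ≫ g)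
      haveI hb' : 𝒴.p.IsHomLift (h ≫ g) m'.b := lift_b_of_a m' (h ≫ g)
      let α := IsStronglyCartesian.map 𝒳.p g m.a (rfl : h ≫ g = h ≫ g) m'.a
      let β := IsStronglyCartesian.map 𝒴.p g m.b (rfl : h ≫ g = h ≫ g) m'.b
      haveI hα : 𝒳.p.IsHomLift h α :=
        IsStronglyCartesian.map_isHomLift 𝒳.p g m.a (rfl : h ≫ g = h ≫ g) m'.a
      haveI hβ : 𝒴.p.IsHomLift h β :=
        IsStronglyCartesian.map_isHomLift 𝒴.p g m.b (rfl : h ≫ g = h ≫ g) m'.b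
      have eα : α ≫ m.a = m'.a := IsStronglyCartesian.fac 𝒳.p g m.a (rfl : h ≫ g = h ≫ g) m'.a
      have eβ : β ≫ m.b = m'.b := IsStronglyCartesian.fac 𝒴.p g m.b (rfl : h ≫ g = h ≫ g) m'.b
      have hw : β ≫ ξ.f = ζ.f ≫ F.map α := by
        haveI : 𝒴.p.IsHomLift h (β ≫ ξ.f) := inferInstance
        haveI : 𝒴.p.IsHomLift h (ζ.f ≫ F.map α) := inferInstance
        apply IsStronglyCartesian.ext 𝒴.p g (F.map m.a) h
        calc (β ≫ ξ.f) ≫ F.map m.a = (β ≫ m.b) ≫ ξ'.f := by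
              rw [Category.assoc, Category.assoc, m.w]
          _ = ζ.f ≫ F.map m'.a := by rw [eβ, m'.w]
          _ = (ζ.f ≫ F.map α) ≫ F.map m.a := by rw [Category.assoc, ← F.map_comp, eα]
      refine ⟨⟨α, β, hw⟩, ⟨lift_pF_of_a (⟨α, β, hw⟩ : ζ ⟶ ξ) h, hom_ext eα eβ⟩, ?_⟩
      rintro χ ⟨hχ, eχ⟩
      haveI : 𝒳.p.IsHomLift h χ.a := lift_a_of_pF χ h
      haveI : 𝒴.p.IsHomLift h χ.b := lift_b_of_a χ h
      apply hom_ext
      · exact IsStronglyCartesian.map_uniq 𝒳.p g m.a (rfl : h ≫ g = h ≫ g) m'.a χ.a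
          (congrArg (fun k => k.a) eχ)
      · exact IsStronglyCartesian.map_uniq 𝒴.p g m.b (rfl : h ≫ g = h ≫ g) m'.b χ.b
          (congrArg (fun k => k.b) eχ) }

variable [𝒳.p.IsFibered] [𝒴.p.IsFibered]

/-- Lemma B: existence of lifts with strongly cartesian components -/
lemma exists_lift (hF : FibCat.PreservesStronglyCartesian F) (ξ' : Obj F) {R : C}
    (g : R ⟶ 𝒳.p.obj ξ'.x) :
    ∃ (ξ : Obj F) (m : ξ ⟶ ξ'),
      𝒳.p.IsStronglyCartesian g m.a ∧ 𝒴.p.IsStronglyCartesian g m.b := by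
  obtain ⟨x, a, ha⟩ := IsPreFibered.exists_isCartesian' (p := 𝒳.p) g
  have hy : 𝒴.p.obj ξ'.y = 𝒳.p.obj ξ'.x := domain_eq 𝒴.p (𝟙 (𝒳.p.obj ξ'.x)) ξ'.f
  obtain ⟨y, b, hb⟩ := IsPreFibered.exists_isCartesian 𝒴.p hy g
  haveI hA : 𝒳.p.IsStronglyCartesian g a := inferInstance
  haveI hB : 𝒴.p.IsStronglyCartesian g b := inferInstance
  haveI hFa : 𝒴.p.IsStronglyCartesian g (F.map a) := hF g a hA
  haveI : 𝒴.p.IsHomLift g (b ≫ ξ'.f) := inferInstance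
  let f := IsStronglyCartesian.map 𝒴.p g (F.map a) (Category.id_comp g).symm (b ≫ ξ'.f)
  haveI hf1 : 𝒴.p.IsHomLift (𝟙 R) f :=
    IsStronglyCartesian.map_isHomLift 𝒴.p g (F.map a) (Category.id_comp g).symm (b ≫ ξ'.f)
  have hx : 𝒳.p.obj x = R := domain_eq 𝒳.p g a
  have ef : f ≫ F.map a = b ≫ ξ'.f :=
    IsStronglyCartesian.fac 𝒴.p g (F.map a) (Category.id_comp g).symm (b ≫ ξ'.f)
  exact ⟨⟨x, y, f, isHomLift_id_of_eq 𝒴.p f hx.symm⟩, ⟨a, b, ef.symm⟩, hA, hB⟩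

lemma isFibered_pF (hF : FibCat.PreservesStronglyCartesian F) : (pF F).IsFibered :=
  IsFibered.of_exists_isStronglyCartesian (fun ξ' R g => by
    obtain ⟨ξ, m, h1, h2⟩ := exists_lift hF ξ' g
    exact ⟨ξ, m, sc_of_components hF m g⟩)

/-- Lemma C: the components of a strongly cartesian morphism are strongly cartesian -/
lemma components_sc (hF : FibCat.PreservesStronglyCartesian F) {ξ ξ' : Obj F} (m : ξ ⟶ ξ')
    {R S : C} (g : R ⟶ S) [hm : (pF F).IsStronglyCartesian g m] :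
    𝒳.p.IsStronglyCartesian g m.a ∧ 𝒴.p.IsStronglyCartesian g m.b := by
  obtain rfl : (pF F).obj ξ' = S := codomain_eq (pF F) g m
  obtain ⟨ξ₀, m₀, h1, h2⟩ := exists_lift hF ξ' g
  haveI h0 : (pF F).IsStronglyCartesian g m₀ := sc_of_components hF m₀ g
  let θ : ξ ≅ ξ₀ := IsCartesian.domainUniqueUpToIso (pF F) g m₀ m
  have eθ : θ.hom ≫ m₀ = m := IsCartesian.fac (pF F) g m₀ m
  haveI hθ : (pF F).IsHomLift (𝟙 R) θ.hom := inferInstance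
  haveI hθa' : 𝒳.p.IsHomLift (𝟙 R) θ.hom.a := lift_a_of_pF θ.hom (𝟙 R)
  haveI hθa : 𝒳.p.IsHomLift (𝟙 R) ((wF F).mapIso θ).hom := hθa'
  haveI hθb : 𝒴.p.IsHomLift (𝟙 R) ((vF F).mapIso θ).hom := lift_b_of_a θ.hom (𝟙 R)
  have ea : m.a = ((wF F).mapIso θ).hom ≫ m₀.a := by rw [← eθ]; rfl
  have eb : m.b = ((vF F).mapIso θ).hom ≫ m₀.b := by rw [← eθ]; rfl
  haveI i1 : 𝒳.p.IsStronglyCartesian (𝟙 R) ((wF F).mapIso θ).hom :=
    IsStronglyCartesian.of_iso 𝒳.p (𝟙 R) ((wF F).mapIso θ)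
  haveI i2 : 𝒴.p.IsStronglyCartesian (𝟙 R) ((vF F).mapIso θ).hom :=
    IsStronglyCartesian.of_iso 𝒴.p (𝟙 R) ((vF F).mapIso θ)
  have k1 : 𝒳.p.IsStronglyCartesian (𝟙 R ≫ g) (((wF F).mapIso θ).hom ≫ m₀.a) :=
    IsStronglyCartesian.comp (p := 𝒳.p) (f := 𝟙 R) (g := g) (φ := ((wF F).mapIso θ).hom)
      (ψ := m₀.a)
  have k2 : 𝒴.p.IsStronglyCartesian (𝟙 R ≫ g) (((vF F).mapIso θ).hom ≫ m₀.b) :=
    IsStronglyCartesian.comp (p := 𝒴.p) (f := 𝟙 R) (g := g) (φ := ((vF F).mapIso θ).hom)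
      (ψ := m₀.b)
  rw [Category.id_comp] at k1 k2
  rw [ea, eb]
  exact ⟨k1, k2⟩

lemma u_preserves (hF : FibCat.PreservesStronglyCartesian F) {R S : C} (g : R ⟶ S)
    {x x' : 𝒳.obj} (a : x ⟶ x') [h : 𝒳.p.IsStronglyCartesian g a] :
    (pF F).IsStronglyCartesian g ((uF F).map a) := by
  haveI : 𝒳.p.IsStronglyCartesian g ((uF F).map a).a := h
  haveI : 𝒴.p.IsStronglyCartesian g ((uF F).map a).b := hF g a h
  exact sc_of_components hF _ g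

/-- a morphism whose `𝒳`-component is strongly cartesian is strongly cartesian for `vF` -/
lemma sc_vF (hF : FibCat.PreservesStronglyCartesian F) {ξ ξ' : Obj F} (m : ξ ⟶ ξ')
    (g : 𝒴.p.obj ξ.y ⟶ 𝒳.p.obj ξ'.x)
    [hsa : 𝒳.p.IsStronglyCartesian g m.a] [hbg : 𝒴.p.IsHomLift g m.b] :
    (vF F).IsStronglyCartesian m.b m := by
  haveI hFa : 𝒴.p.IsStronglyCartesian g (F.map m.a) := hF g m.a hsa
  have hx : 𝒳.p.obj ξ.x = 𝒴.p.obj ξ.y := domain_eq 𝒳.p g m.a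
  haveI hf1 : 𝒴.p.IsHomLift (𝟙 (𝒴.p.obj ξ.y)) ξ.f := isHomLift_id_of_eq 𝒴.p ξ.f hx
  haveI : (vF F).IsHomLift m.b m := IsHomLift.map (vF F) m
  exact
  { universal_property' := by
      intro ζ β m' hm'
      change ζ.y ⟶ ξ.y at β
      have eb' : m'.b = β ≫ m.b := (eq_of_isHomLift (vF F) (β ≫ m.b) m').symm
      have hζ : 𝒴.p.obj ζ.y = 𝒳.p.obj ζ.x := domain_eq 𝒴.p (𝟙 (𝒳.p.obj ζ.x)) ζ.f
      let h : 𝒳.p.obj ζ.x ⟶ 𝒴.p.obj ξ.y := eqToHom hζ.symm ≫ 𝒴.p.map β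
      haveI hβh : 𝒴.p.IsHomLift h β := inferInstance
      haveI hb1 : 𝒴.p.IsHomLift (h ≫ g) m'.b := by rw [eb']; infer_instance
      haveI ha1 : 𝒳.p.IsHomLift (h ≫ g) m'.a := lift_a_of_b m' (h ≫ g)
      let α := IsStronglyCartesian.map 𝒳.p g m.a (rfl : h ≫ g = h ≫ g) m'.a
      haveI hα : 𝒳.p.IsHomLift h α :=
        IsStronglyCartesian.map_isHomLift 𝒳.p g m.a (rfl : h ≫ g = h ≫ g) m'.a
      have eα : α ≫ m.a = m'.a :=
        IsStronglyCartesian.fac 𝒳.p g m.a (rfl : h ≫ g = h ≫ g) m'.a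
      have hw : β ≫ ξ.f = ζ.f ≫ F.map α := by
        haveI : 𝒴.p.IsHomLift h (β ≫ ξ.f) := inferInstance
        haveI : 𝒴.p.IsHomLift h (ζ.f ≫ F.map α) := inferInstance
        apply IsStronglyCartesian.ext 𝒴.p g (F.map m.a) h
        calc (β ≫ ξ.f) ≫ F.map m.a = (β ≫ m.b) ≫ ξ'.f := by
              rw [Category.assoc, Category.assoc, m.w]
          _ = ζ.f ≫ F.map m'.a := by rw [← eb', m'.w]
          _ = (ζ.f ≫ F.map α) ≫ F.map m.a := by rw [Category.assoc, ← F.map_comp, eα]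
      refine ⟨(⟨α, β, hw⟩ : ζ ⟶ ξ), ⟨?_, hom_ext eα eb'.symm⟩, ?_⟩
      · exact IsHomLift.map (vF F) (⟨α, β, hw⟩ : ζ ⟶ ξ)
      · rintro χ ⟨hχ, eχ⟩
        have e1 : χ.b = β := (eq_of_isHomLift (vF F) β χ).symm
        haveI : 𝒴.p.IsHomLift h χ.b := by rw [e1]; exact hβh
        haveI : 𝒳.p.IsHomLift h χ.a := lift_a_of_b χ h
        apply hom_ext
        · exact IsStronglyCartesian.map_uniq 𝒳.p g m.a (rfl : h ≫ g = h ≫ g) m'.a χ.a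
            (congrArg (fun k => k.a) eχ)
        · exact e1 }

lemma isFibered_vF (hF : FibCat.PreservesStronglyCartesian F) : (vF F).IsFibered := by
  apply IsFibered.of_exists_isStronglyCartesian
  intro ξ' y b
  change y ⟶ ξ'.y at b
  have hy' : 𝒴.p.obj ξ'.y = 𝒳.p.obj ξ'.x := domain_eq 𝒴.p (𝟙 (𝒳.p.obj ξ'.x)) ξ'.f
  obtain ⟨g, hg⟩ : ∃ g : 𝒴.p.obj y ⟶ 𝒳.p.obj ξ'.x, g = 𝒴.p.map b ≫ eqToHom hy' := ⟨_, rfl⟩
  haveI hbg : 𝒴.p.IsHomLift g b := by rw [hg]; infer_instance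
  obtain ⟨x, a, ha⟩ := IsPreFibered.exists_isCartesian' (p := 𝒳.p) g
  haveI hsa : 𝒳.p.IsStronglyCartesian g a := inferInstance
  haveI hFa : 𝒴.p.IsStronglyCartesian g (F.map a) := hF g a hsa
  haveI : 𝒴.p.IsHomLift g (b ≫ ξ'.f) := inferInstance
  obtain ⟨f, hf1, ef⟩ : ∃ f : y ⟶ F.obj x, 𝒴.p.IsHomLift (𝟙 (𝒴.p.obj y)) f ∧
      f ≫ F.map a = b ≫ ξ'.f :=
    ⟨IsStronglyCartesian.map 𝒴.p g (F.map a) (Category.id_comp g).symm (b ≫ ξ'.f),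
      IsStronglyCartesian.map_isHomLift 𝒴.p g (F.map a) (Category.id_comp g).symm (b ≫ ξ'.f),
      IsStronglyCartesian.fac 𝒴.p g (F.map a) (Category.id_comp g).symm (b ≫ ξ'.f)⟩
  have hx : 𝒳.p.obj x = 𝒴.p.obj y := domain_eq 𝒳.p g a
  haveI := hf1
  exact ⟨⟨x, y, f, isHomLift_id_of_eq 𝒴.p f hx.symm⟩, ⟨a, b, ef.symm⟩,
    sc_vF hF (ξ := ⟨x, y, f, isHomLift_id_of_eq 𝒴.p f hx.symm⟩) (ξ' := ξ') ⟨a, b, ef.symm⟩ g⟩

variable (F)

/-- the factorization category as a based category -/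
abbrev X' : BasedCategory.{v, max u v} C where
  obj := Obj F
  category := inferInstance
  p := pF F

/-- `u` -/
def uB : 𝒳 ⥤ᵇ X' F where
  toFunctor := uF F
  w := rfl

/-- `v` -/
def vB : X' F ⥤ᵇ 𝒴 where
  toFunctor := vF F
  w := by
    refine CategoryTheory.Functor.ext ?_ ?_
    · intro (ξ : Obj F)
      exact domain_eq 𝒴.p (𝟙 (𝒳.p.obj (Obj.x ξ))) (Obj.f ξ)
    · intro (ξ : Obj F) (ξ' : Obj F) (m : ξ ⟶ ξ')
      exact fac' 𝒴.p (𝒳.p.map (Hom.a m)) (Hom.b m)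

/-- `w` -/
def wB : X' F ⥤ᵇ 𝒳 where
  toFunctor := wF F
  w := rfl

/-- the adjunction `w ⊣ u` -/
def adj : wF F ⊣ uF F := Adjunction.mkOfHomEquiv
  { homEquiv := fun ξ x' =>
      { toFun := fun a => ⟨a, ξ.f ≫ F.map a, by simp⟩
        invFun := fun m => m.a
        left_inv := fun a => rfl
        right_inv := fun m => hom_ext rfl (by simpa using m.w.symm) }
    homEquiv_naturality_left_symm := by intros; rfl
    homEquiv_naturality_right := by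
      intros
      apply hom_ext
      · rfl
      · simp }

instance : (uF F).Faithful where
  map_injective := fun h => congrArg (fun k => k.a) h

instance : (uF F).Full where
  map_surjective := fun m => ⟨m.a, hom_ext rfl (by simpa using m.w.symm)⟩

theorem main (hF : FibCat.PreservesStronglyCartesian F) :
    ∃ (𝒳' : BasedCategory.{v, max u v} C) (u : 𝒳 ⥤ᵇ 𝒳') (v : 𝒳' ⥤ᵇ 𝒴) (w : 𝒳' ⥤ᵇ 𝒳),
      𝒳'.p.IsFibered ∧ FibCat.PreservesStronglyCartesian u ∧ FibCat.PreservesStronglyCartesian v ∧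
        FibCat.PreservesStronglyCartesian w ∧ BasedFunctor.comp u v = F ∧
        u.toFunctor.Full ∧ u.toFunctor.Faithful ∧ Nonempty (w.toFunctor ⊣ u.toFunctor) ∧
        v.toFunctor.IsFibered := by
  refine ⟨X' F, uB F, vB F, wB F, isFibered_pF hF, ?_, ?_, ?_, rfl,
    inferInstanceAs ((uF F).Full), inferInstanceAs ((uF F).Faithful), ⟨adj F⟩, isFibered_vF hF⟩
  · intro R S g x x' a ha
    haveI := ha
    exact u_preserves hF g a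
  · intro R S g ξ ξ' m hm
    haveI : (pF F).IsStronglyCartesian g m := hm
    exact (components_sc hF m g).2
  · intro R S g ξ ξ' m hm
    haveI : (pF F).IsStronglyCartesian g m := hm
    exact (components_sc hF m g).1

end Main

end Groth.Agent.H4.FibFactor
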