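import Mathlib

open CategoryTheory CategoryTheory.Limits AlgebraicGeometry HomogeneousLocalization

universe u

namespace Groth.Agent.H4.FibGen

section General

theorem fibre_iso {E X : Scheme.{u}} (π : E ⟶ X) (x : X) {R₀ R₁ : CommRingCat.{u}}
    (j : Spec R₀ ⟶ X) [IsOpenImmersion j] (c : Spec R₁ ⟶ E) [IsOpenImmersion c]
    (α : R₀ ⟶ R₁) (hc : c ≫ π = Spec.map α ≫ j) (hx : x ∈ Set.range j)
    (hr : π ⁻¹ᵁ j.opensRange = c.opensRange)
    (L : CommRingCat.{u}) (γ : X.residueField x ⟶ L)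
    (hL : ∀ φ : R₀ ⟶ X.residueField x, ∃ β : R₁ ⟶ L, IsPushout α φ β γ) :
    ∃ e : pullback π (X.fromSpecResidueField x) ≅ Spec L,
      e.hom ≫ Spec.map γ = pullback.snd π (X.fromSpecResidueField x) := by
  have hsub : Set.range (X.fromSpecResidueField x) ⊆ Set.range j := by
    rw [Scheme.range_fromSpecResidueField]
    exact Set.singleton_subset_iff.mpr hx
  obtain ⟨s, hs⟩ : ∃ s : Spec (X.residueField x) ⟶ Spec R₀, s ≫ j = X.fromSpecResidueField x :=
    ⟨IsOpenImmersion.lift j (X.fromSpecResidueField x) hsub, IsOpenImmersion.lift_fac _ _ _⟩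
  obtain ⟨φ, rfl⟩ : ∃ φ : R₀ ⟶ X.residueField x, Spec.map φ = s :=
    ⟨Spec.preimage s, Spec.map_preimage s⟩
  obtain ⟨β, hβ⟩ := hL φ
  have h1 : IsPullback (Spec.map β) (Spec.map γ) (Spec.map α) (Spec.map φ) :=
    isPullback_SpecMap_of_isPushout _ _ _ _ hβ
  have h2 : IsPullback c (Spec.map α) π j :=
    (IsOpenImmersion.isPullback (Spec.map α) c j π hc hr).flip
  have h3 := h1.paste_horiz h2
  rw [hs] at h3
  exact ⟨h3.isoPullback.symm, h3.isoPullback_inv_snd⟩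

theorem loft_of_charts {E X : Scheme.{u}} (π : E ⟶ X) {J : Type u} (R₀ R₁ : J → CommRingCat.{u})
    (j : ∀ i, Spec (R₀ i) ⟶ X) [∀ i, IsOpenImmersion (j i)]
    (c : ∀ i, Spec (R₁ i) ⟶ E) [∀ i, IsOpenImmersion (c i)]
    (α : ∀ i, R₀ i ⟶ R₁ i) (hc : ∀ i, c i ≫ π = Spec.map (α i) ≫ j i)
    (hcov : ∀ p : E, ∃ i, p ∈ Set.range (c i)) (hft : ∀ i, (α i).hom.FiniteType) :
    LocallyOfFiniteType π := by
  let 𝒰 : E.OpenCover := Scheme.Cover.mkOfCovers J (fun i => Spec (R₁ i)) c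
    (fun p => by obtain ⟨i, y, hy⟩ := hcov p; exact ⟨i, y, hy⟩)
  apply IsZariskiLocalAtSource.of_openCover (P := @LocallyOfFiniteType) 𝒰
  intro i
  change LocallyOfFiniteType (c i ≫ π)
  rw [hc]
  have : LocallyOfFiniteType (Spec.map (α i)) :=
    (HasRingHomProperty.Spec_iff (P := @LocallyOfFiniteType)).mpr (hft i)
  infer_instance

end General

section Alg

noncomputable def fu {A : Type u} [CommRing A] (f : A) : (Localization.Away f)ˣ :=
  (IsLocalization.Away.algebraMap_isUnit (S := Localization.Away f) f).unit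

lemma fu_val {A : Type u} [CommRing A] (f : A) :
    ((fu f : (Localization.Away f)ˣ) : Localization.Away f) = algebraMap A _ f :=
  IsUnit.unit_spec _


variable {R A : Type u} [CommRing R] [CommRing A] [Algebra R A] (𝒜 : ℕ → Submodule R A)
  [GradedAlgebra 𝒜] {f : A} (hf : f ∈ 𝒜 1)

/-- `a / f^i` for `a ∈ 𝒜 i`. -/
noncomputable def frac (i : ℕ) (a : A) (ha : a ∈ 𝒜 i) : Away 𝒜 f :=
  Away.mk 𝒜 hf i a (by rwa [smul_eq_mul, mul_one])

lemma val_frac (i : ℕ) (a : A) (ha : a ∈ 𝒜 i) :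
    (frac 𝒜 hf i a ha).val = Localization.mk a (⟨f ^ i, i, rfl⟩ : Submonoid.powers f) := rfl


end Alg

section Main

variable {R A : Type u} [CommRing R] [CommRing A] [Algebra R A] (𝒜 : ℕ → Submodule R A)
  [GradedAlgebra 𝒜]

lemma exists_deg_one_notMem
    (hgen : (HomogeneousIdeal.irrelevant 𝒜).toIdeal = Ideal.span (𝒜 1 : Set A)) (x : Proj 𝒜) :
    ∃ f, ∃ _ : f ∈ 𝒜 1, f ∉ x.asHomogeneousIdeal := by
  by_contra hcon
  push Not at hcon
  apply x.not_irrelevant_le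
  intro a ha
  have ha' : a ∈ (HomogeneousIdeal.irrelevant 𝒜).toIdeal := ha
  rw [hgen] at ha'
  exact (Ideal.span_le.mpr (fun b hb => hcon b hb)) ha'


end Main

end Groth.Agent.H4.FibGen
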