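import Mathlib
import Groth.Agent.H4.BCSq
import Groth.Agent.H4.PCHom
import Groth.Agent.H4.KProj5
import Groth.Agent.H4.BC1

set_option autoImplicit false
universe u
open CategoryTheory CategoryTheory.Limits MonoidalCategory TensorProduct

namespace Groth.Agent.H4.PCHom

attribute [local instance] HasDerivedCategory.standard
open DerivedCategory DRing Groth.Agent.H4.LDer Groth.Agent.H4.PC Groth.Agent.H4.BC
  Groth.Agent.H4.PCHom Groth.Agent.H4.BCSq Groth.Agent.H4.PCDesc

variable {A B : Type u} [CommRing A] [CommRing B]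

/-- derived base change of a module along a flat ring map. -/
noncomputable def LBCSingleIso (φ : A →+* B) (hφ : φ.Flat) [DRing.HasLBaseChange φ]
    (N : ModuleCat.{u} A) :
    (DRing.LBaseChange φ).obj ((singleFunctor (ModuleCat.{u} A) 0).obj N) ≅
      (singleFunctor (ModuleCat.{u} B) 0).obj ((ModuleCat.extendScalars.{u, u, u} φ).obj N) :=
  (DRing.LBaseChange φ).mapIso ((singleFunctorIsoCompQ (ModuleCat.{u} A) 0).app N) ≪≫
    isoOfFlatMap φ hφ _ ≪≫
    Q.mapIso ((HomologicalComplex.singleMapHomologicalComplex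
      (ModuleCat.extendScalars.{u, u, u} φ) (ComplexShape.up ℤ) 0).app N) ≪≫
    ((singleFunctorIsoCompQ (ModuleCat.{u} B) 0).app _).symm

/-- `B ⊗_A A ≅ B`. -/
noncomputable def extSelfIso [Algebra A B] :
    (ModuleCat.extendScalars.{u, u, u} (algebraMap A B)).obj (ModuleCat.of A A) ≅ ModuleCat.of B B :=
  ((Groth.Agent.H8.ExtBridge.extEquiv (A := A) (B := B) (ModuleCat.of A A)).trans
    (TensorProduct.AlgebraTensorModule.rid A B B)).toModuleIso

section Sq
variable (R S A B : Type u) [CommRing R] [CommRing S] [CommRing A] [CommRing B]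
  [Algebra R S] [Algebra R A] [Algebra R B] [Algebra S B] [Algebra A B]
  [IsScalarTower R S B] [IsScalarTower R A B] [Algebra.IsPushout R S A B]

/-- pseudo-coherent ring maps are stable under flat base change. -/
theorem isPCHom_of_isPushout [Module.Flat R S] (h : IsPCHom (algebraMap R A)) :
    IsPCHom (algebraMap S B) := by
  intro m
  haveI : DRing.HasLBaseChange (algebraMap R S) := Groth.Agent.H4.KProj.hasLBaseChange _
  have h1 := isPC_LBaseChange (algebraMap R S) m _ (h m)
  have hfl : (algebraMap R S).Flat := (RingHom.flat_algebraMap_iff).2 inferInstance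
  have h2 := isPC_of_iso (LBCSingleIso (algebraMap R S) hfl _) h1
  refine isPC_single_of_iso ?_ h2
  exact (tauIso R S A B).app (ModuleCat.of A A) ≪≫
    (ModuleCat.restrictScalars.{u} (algebraMap S B)).mapIso extSelfIso

end Sq

end Groth.Agent.H4.PCHom
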