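import Mathlib
import Groth.Agent.H4.RelPC3
import Groth.Agent.H4.PCHom2

set_option autoImplicit false
universe u
open CategoryTheory CategoryTheory.Limits
attribute [local instance] HasDerivedCategory.standard
open DRing

namespace Groth.Agent.H4.RelPC
open Groth.Agent.H4.PCHom Groth.Agent.H4.PC Groth.Agent.H4.RelPC DerivedCategory

attribute [local instance] MvPolynomial.algebraMvPolynomial in
/-- pseudo-coherent ring maps stay pseudo-coherent after adjoining variables. -/
lemma isPCHom_map {P A : Type u} [CommRing P] [CommRing A] (f : P →+* A) (hf : IsPCHom f)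
    (σ : Type) :
    IsPCHom (MvPolynomial.map f : MvPolynomial σ P →+* MvPolynomial σ A) := by
  letI := f.toAlgebra
  have hf' : IsPCHom (algebraMap P A) := hf
  have h := isPCHom_of_isPushout P (MvPolynomial σ P) A (MvPolynomial σ A) hf'
  have e : algebraMap (MvPolynomial σ P) (MvPolynomial σ A) = MvPolynomial.map f := rfl
  rw [← e]
  exact h

section
variable {R B : Type u} [CommRing R] [CommRing B] [Algebra R B]

/-- relative pseudo-coherence can be tested on any surjection from a ring isomorphic to a polynomial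
ring. -/
lemma relPC_iff_of_equiv {N : ℕ} {Q : Type u} [CommRing Q] [Algebra R Q]
    (e : MvPolynomial (Fin N) R ≃ₐ[R] Q) (ψ : Q →ₐ[R] B) (hψ : Function.Surjective ψ)
    (K : Dual.D B) (m : ℤ) :
    DerCA.IsRelPseudoCoherent R B m K ↔
      IsPseudoCoherent Q m ((restrictD (ψ : Q →+* B)).obj K) := by
  have hγ : Function.Surjective (ψ.comp e.toAlgHom) := hψ.comp e.surjective
  rw [relPC_iff (ψ.comp e.toAlgHom) hγ, ← (isPCHom_of_ringEquiv e.toRingEquiv).isPC_iff m]
  exact ⟨isPC_of_iso (restrictDComp e.toRingEquiv.toRingHom (ψ : Q →+* B) K),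
    isPC_of_iso (restrictDComp e.toRingEquiv.toRingHom (ψ : Q →+* B) K).symm⟩

end

end Groth.Agent.H4.RelPC
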