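import Mathlib
import Groth.Agent.H4.RelPC4

set_option autoImplicit false
universe u
open CategoryTheory CategoryTheory.Limits
attribute [local instance] HasDerivedCategory.standard
open DRing

namespace Groth.Agent.H4.PCHom3
open Groth.Agent.H4.PCHom Groth.Agent.H4.PC Groth.Agent.H4.RelPC DerivedCategory
  Groth.Agent.H4.RestrPC

variable {A B : Type u} [CommRing A] [CommRing B]

/-- a finite free algebra is a pseudo-coherent ring map. -/
lemma isPCHom_algebraMap_of_finite_free [Algebra A B] [Module.Finite A B] [Module.Free A B] :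
    IsPCHom (algebraMap A B) := by
  intro m
  exact isPC_single_of_iso ofIsoRestrict (isPC_single_of_finite_free m 0 (ModuleCat.of A B))

section nzd
variable (S : Type u) [CommRing S] (f : S)

/-- multiplication by `f`. -/
noncomputable def mulHom : ModuleCat.of S S ⟶ ModuleCat.of S S :=
  ModuleCat.ofHom (LinearMap.mulLeft S f)

/-- the quotient map as a map of `S`-modules. -/
noncomputable def quotHom : ModuleCat.of S S ⟶
    (ModuleCat.restrictScalars.{u} (Ideal.Quotient.mk (Ideal.span {f}))).obj
      (ModuleCat.of (S ⧸ Ideal.span {f}) (S ⧸ Ideal.span {f})) :=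
  ModuleCat.ofHom (X := ModuleCat.of S S)
    (Y := (ModuleCat.restrictScalars.{u} (Ideal.Quotient.mk (Ideal.span {f}))).obj
      (ModuleCat.of (S ⧸ Ideal.span {f}) (S ⧸ Ideal.span {f})))
    { toFun := fun s => Ideal.Quotient.mk (Ideal.span {f}) s
      map_add' := fun a b => map_add _ a b
      map_smul' := fun a b => map_mul (Ideal.Quotient.mk (Ideal.span {f})) a b }

lemma mulHom_quotHom : mulHom S f ≫ quotHom S f = 0 := by
  refine ModuleCat.hom_ext (LinearMap.ext fun t => ?_)
  change Ideal.Quotient.mk (Ideal.span {f}) (f * t) = 0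
  rw [Ideal.Quotient.eq_zero_iff_mem]
  exact Ideal.mul_mem_right _ _ (Ideal.mem_span_singleton_self f)

lemma shortExact_quot (hf : IsSMulRegular S f) :
    (ShortComplex.mk (mulHom S f) (quotHom S f) (mulHom_quotHom S f)).ShortExact := by
  refine ShortComplex.ShortExact.mk' ?_ ?_ ?_
  · rw [ShortComplex.moduleCat_exact_iff]
    intro t ht
    change Ideal.Quotient.mk (Ideal.span {f}) t = 0 at ht
    rw [Ideal.Quotient.eq_zero_iff_mem, Ideal.mem_span_singleton'] at ht
    obtain ⟨a, ha⟩ := ht
    refine ⟨a, ?_⟩
    change f * a = t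
    rw [mul_comm]; exact ha
  · rw [ModuleCat.mono_iff_injective]
    intro t t' h
    change f * t = f * t' at h
    exact hf h
  · rw [ModuleCat.epi_iff_surjective]
    intro m
    obtain ⟨s, hs⟩ := Ideal.Quotient.mk_surjective (I := Ideal.span {f}) m
    exact ⟨s, hs⟩

/-- the quotient by a nonzerodivisor is a pseudo-coherent ring map. -/
lemma isPCHom_quotient_of_regular (hf : IsSMulRegular S f) :
    IsPCHom (Ideal.Quotient.mk (Ideal.span {f})) := by
  intro m
  exact isPC_X₃_of_shortExact _ (shortExact_quot S f hf) m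
    (isPC_single_of_finite_free _ 0 (ModuleCat.of S S))
    (isPC_single_of_finite_free _ 0 (ModuleCat.of S S))

end nzd

end Groth.Agent.H4.PCHom3
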