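import Mathlib
import Groth.Agent.H4.PCHom3

set_option autoImplicit false
universe u
open CategoryTheory CategoryTheory.Limits
attribute [local instance] HasDerivedCategory.standard
open DRing

namespace Groth.Agent.H4.FinRelPC
open Groth.Agent.H4.PCHom Groth.Agent.H4.PC Groth.Agent.H4.RelPC DerivedCategory
  Groth.Agent.H4.RestrPC Groth.Agent.H4.PCHom3 Polynomial

variable {R A B : Type u} [CommRing R] [CommRing A] [CommRing B]
  [Algebra R A] [Algebra A B] [Algebra R B] [IsScalarTower R A B]

/-- the comparison statement. -/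
def Good (R A B : Type u) [CommRing R] [CommRing A] [CommRing B]
    [Algebra R A] [Algebra A B] [Algebra R B] : Prop :=
  ∀ (K : Dual.D B) (m : ℤ), DerCA.IsRelPseudoCoherent R B m K ↔
    DerCA.IsRelPseudoCoherent R A m ((restrictD (algebraMap A B)).obj K)

/-- the evaluation `P[X] → B`. -/
noncomputable def psi {n : ℕ} (α : MvPolynomial (Fin n) R →ₐ[R] A) (y : B) :
    (MvPolynomial (Fin n) R)[X] →ₐ[R] B :=
  { Polynomial.eval₂RingHom ((algebraMap A B).comp (α : MvPolynomial (Fin n) R →+* A)) y with
    commutes' := fun r => by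
      change Polynomial.eval₂ _ y (C (algebraMap R (MvPolynomial (Fin n) R) r)) = _
      rw [Polynomial.eval₂_C]
      change algebraMap A B (α (algebraMap R _ r)) = _
      rw [α.commutes, ← IsScalarTower.algebraMap_apply] }

lemma psi_surjective {n : ℕ} (α : MvPolynomial (Fin n) R →ₐ[R] A) (hα : Function.Surjective α)
    (y : B) (hgen : Algebra.adjoin A {y} = ⊤) : Function.Surjective (psi (B := B) α y) := by
  intro b
  have hb : b ∈ Algebra.adjoin A {y} := hgen ▸ Algebra.mem_top
  induction hb using Algebra.adjoin_induction with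
  | mem x hx =>
    rw [Set.mem_singleton_iff] at hx
    subst hx
    exact ⟨X, Polynomial.eval₂_X _ _⟩
  | algebraMap a =>
    obtain ⟨p, rfl⟩ := hα a
    exact ⟨C p, Polynomial.eval₂_C _ _⟩
  | add x x' _ _ hx hx' =>
    obtain ⟨p, rfl⟩ := hx
    obtain ⟨p', rfl⟩ := hx'
    exact ⟨p + p', map_add _ _ _⟩
  | mul x x' _ _ hx hx' =>
    obtain ⟨p, rfl⟩ := hx
    obtain ⟨p', rfl⟩ := hx'
    exact ⟨p * p', map_mul _ _ _⟩

theorem good_of_adjoin_singleton [Algebra.FiniteType R A] (y : B) (hy : IsIntegral A y)
    (hgen : Algebra.adjoin A {y} = ⊤) : Good R A B := by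
  intro K m
  obtain ⟨n, α, hα⟩ := exists_pres (R := R) (A := A)
  obtain ⟨p, hp, hpy⟩ := hy
  obtain ⟨g, hgp, -, hg⟩ := Polynomial.lifts_and_natDegree_eq_and_monic
    (f := (α : MvPolynomial (Fin n) R →+* A)) (p := p)
    (by
      obtain ⟨q, hq⟩ := Polynomial.map_surjective (α : MvPolynomial (Fin n) R →+* A) hα p
      exact ⟨q, hq⟩) hp
  have hψ := psi_surjective (B := B) α hα y hgen
  rw [relPC_iff_of_equiv (MvPolynomial.finSuccEquiv R n) (psi (B := B) α y) hψ K m,
    relPC_iff α hα]
  set φ : MvPolynomial (Fin n) R →+* B :=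
    (algebraMap A B).comp (α : MvPolynomial (Fin n) R →+* A) with hφ
  have h0 : Polynomial.eval₂ φ y g = 0 := by
    rw [hφ, ← Polynomial.eval₂_map, hgp]
    exact hpy
  let ψ' : AdjoinRoot g →+* B := AdjoinRoot.lift φ y h0
  have e1 : ((psi (B := B) α y : (MvPolynomial (Fin n) R)[X] →ₐ[R] B) :
      (MvPolynomial (Fin n) R)[X] →+* B) = ψ'.comp (AdjoinRoot.mk g) := by
    refine Polynomial.ringHom_ext (fun a => ?_) ?_
    · change Polynomial.eval₂ φ y (C a) = ψ' (AdjoinRoot.mk g (C a))
      rw [Polynomial.eval₂_C]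
      exact (AdjoinRoot.lift_of h0).symm
    · change Polynomial.eval₂ φ y X = ψ' (AdjoinRoot.mk g X)
      rw [Polynomial.eval₂_X]
      exact (AdjoinRoot.lift_root h0).symm
  have e2 : φ = ψ'.comp (AdjoinRoot.of g) := (AdjoinRoot.lift_comp_of h0).symm
  have hπ : IsPCHom (AdjoinRoot.mk g) :=
    isPCHom_quotient_of_regular _ g hg.isRegular.left.isSMulRegular
  haveI := hg.free_adjoinRoot
  haveI := hg.finite_adjoinRoot
  have hof : IsPCHom (AdjoinRoot.of g) :=
    isPCHom_algebraMap_of_finite_free (A := MvPolynomial (Fin n) R) (B := AdjoinRoot g)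
  rw [isPC_restrict_congr e1]
  have i1 := restrictDComp (AdjoinRoot.mk g) ψ' K
  have i2 := restrictDComp (AdjoinRoot.of g) ψ' K
  have i3 := restrictDComp (α : MvPolynomial (Fin n) R →+* A) (algebraMap A B) K
  constructor
  · intro h
    have h1 := (hπ.isPC_iff m _).1 (isPC_of_iso i1 h)
    have h2 := (hof.isPC_iff m _).2 h1
    have h3 := isPC_of_iso i2.symm h2
    rw [← isPC_restrict_congr e2] at h3
    exact isPC_of_iso i3 h3
  · intro h
    have h3 := isPC_of_iso i3.symm h
    rw [isPC_restrict_congr e2] at h3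
    have h2 := isPC_of_iso i2 h3
    have h1 := (hof.isPC_iff m _).1 h2
    exact isPC_of_iso i1.symm ((hπ.isPC_iff m _).2 h1)

noncomputable def restrictDCongr {A B : Type u} [CommRing A] [CommRing B] {f g : A →+* B}
    (h : f = g) (K : Dual.D B) : (restrictD f).obj K ≅ (restrictD g).obj K :=
  eqToIso (by rw [h])

theorem good_of_surjective [Algebra.FiniteType R A]
    (h : Function.Surjective (algebraMap A B)) : Good R A B := by
  intro K m
  obtain ⟨n, α, hα⟩ := exists_pres (R := R) (A := A)
  have hβ : Function.Surjective ((IsScalarTower.toAlgHom R A B).comp α) := h.comp hα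
  rw [relPC_iff ((IsScalarTower.toAlgHom R A B).comp α) hβ, relPC_iff α hα]
  have i3 := restrictDComp (α : MvPolynomial (Fin n) R →+* A) (algebraMap A B) K
  exact ⟨isPC_of_iso i3, isPC_of_iso i3.symm⟩

omit [IsScalarTower R A B] in
theorem Good.trans {A' : Type u} [CommRing A'] [Algebra R A'] [Algebra A A'] [Algebra A' B]
    [IsScalarTower A A' B] (h1 : Good R A A') (h2 : Good R A' B) : Good R A B := by
  intro K m
  rw [h2 K m, h1 _ m]
  have e : algebraMap A B = (algebraMap A' B).comp (algebraMap A A') :=
    IsScalarTower.algebraMap_eq A A' B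
  have i := restrictDCongr e K ≪≫ restrictDComp (algebraMap A A') (algebraMap A' B) K
  exact ⟨relPC_of_iso i.symm, relPC_of_iso i⟩

theorem good_of_finset (B : Type u) [CommRing B] [Algebra R B] (s : Finset B) :
    ∀ (A : Type u) [CommRing A] [Algebra R A] [Algebra A B] [IsScalarTower R A B]
      [Algebra.FiniteType R A] [Algebra.IsIntegral A B],
      Algebra.adjoin A (s : Set B) = ⊤ → Good R A B := by
  classical
  induction s using Finset.induction_on with
  | empty =>
    intro A _ _ _ _ _ _ h
    refine good_of_surjective ?_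
    rw [Algebra.surjective_algebraMap_iff, ← h, Finset.coe_empty, Algebra.adjoin_empty]
  | insert y s' hy ih =>
    intro A _ _ _ _ _ _ h
    let A' : Subalgebra A B := Algebra.adjoin A {y}
    haveI : Algebra.FiniteType A A' := by
      rw [← Subalgebra.fg_iff_finiteType]
      have := Subalgebra.fg_adjoin_finset (R := A) ({y} : Finset B)
      rwa [Finset.coe_singleton] at this
    haveI : Algebra.FiniteType R A' :=
      Algebra.FiniteType.trans (R := R) (S := A) (A := A') inferInstance inferInstance
    haveI : Algebra.IsIntegral A' B := Algebra.IsIntegral.tower_top (R := A)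
    have h' : Algebra.adjoin A' (s' : Set B) = ⊤ := by
      rw [Finset.coe_insert, Set.insert_eq, Algebra.adjoin_union_eq_adjoin_adjoin] at h
      rw [Algebra.eq_top_iff]
      intro b
      have : b ∈ (Algebra.adjoin A' (s' : Set B)).restrictScalars A := h ▸ Algebra.mem_top
      exact this
    have hG2 : Good R A' B := ih A' h'
    have hy' : y ∈ A' := Algebra.subset_adjoin (Set.mem_singleton y)
    have hG1 : Good R A A' := by
      refine good_of_adjoin_singleton (⟨y, hy'⟩ : A') ?_ ?_
      · rw [← isIntegral_algHom_iff A'.val Subtype.val_injective]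
        exact Algebra.IsIntegral.isIntegral y
      · have := Algebra.adjoin_adjoin_coe_preimage (R := A) (s := ({y} : Set B))
        have hs : ({(⟨y, hy'⟩ : A')} : Set A') = (Subtype.val ⁻¹' ({y} : Set B)) := by
          ext z
          simp [Subtype.ext_iff]
        rw [hs]
        exact this
    exact hG1.trans hG2

end Groth.Agent.H4.FinRelPC
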