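import Mathlib
import Groth.Prelude.Def_Fitting

namespace Groth.Agent.H4.Fitting

universe u v
open Matrix

variable {R : Type u} [CommRing R] {M : Type v} [AddCommGroup M] [Module R M]

/-- tuple-wise Fitting ideal: determinants of square matrices all of whose rows,
except at most `k` of them, are relations among the `x i`. -/
def G {ι : Type*} [Fintype ι] [DecidableEq ι] (k : ℕ) (x : ι → M) : Ideal R :=
  Ideal.span {d | ∃ (a : Matrix ι ι R) (T : Finset ι), T.card ≤ k ∧
    (∀ i, i ∉ T → ∑ j, a i j • x j = 0) ∧ d = a.det}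

theorem det_mem_G {ι : Type*} [Fintype ι] [DecidableEq ι] {k : ℕ} {x : ι → M}
    (a : Matrix ι ι R) (T : Finset ι) (hT : T.card ≤ k)
    (h : ∀ i, i ∉ T → ∑ j, a i j • x j = 0) : a.det ∈ (G k x : Ideal R) :=
  Ideal.subset_span ⟨a, T, hT, h, rfl⟩

theorem G_le_iff {ι : Type*} [Fintype ι] [DecidableEq ι] {k : ℕ} {x : ι → M} {J : Ideal R} :
    (G k x : Ideal R) ≤ J ↔ ∀ (a : Matrix ι ι R) (T : Finset ι), T.card ≤ k →
      (∀ i, i ∉ T → ∑ j, a i j • x j = 0) → a.det ∈ J := by
  constructor
  · intro h a T hT hr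
    exact h (det_mem_G a T hT hr)
  · intro h
    refine Ideal.span_le.mpr ?_
    rintro d ⟨a, T, hT, hr, rfl⟩
    exact h a T hT hr

theorem G_reindex_le {ι κ : Type*} [Fintype ι] [DecidableEq ι] [Fintype κ] [DecidableEq κ]
    (k : ℕ) (x : ι → M) (e : κ ≃ ι) : (G k (x ∘ e) : Ideal R) ≤ G k x := by
  rw [G_le_iff]
  intro a T hT hr
  have hdet : (a.submatrix e.symm e.symm).det = a.det := Matrix.det_submatrix_equiv_self e.symm a
  rw [← hdet]
  refine det_mem_G _ (T.map e.toEmbedding) (by simpa using hT) ?_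
  intro i hi
  have hi' : e.symm i ∉ T := by
    intro h
    apply hi
    rw [Finset.mem_map]
    exact ⟨e.symm i, h, by simp⟩
  have := hr _ hi'
  rw [← this]
  simp only [Matrix.submatrix_apply, Function.comp_apply]
  refine Fintype.sum_equiv e.symm _ _ (fun j => ?_)
  simp

theorem G_reindex {ι κ : Type*} [Fintype ι] [DecidableEq ι] [Fintype κ] [DecidableEq κ]
    (k : ℕ) (x : ι → M) (e : κ ≃ ι) : (G k (x ∘ e) : Ideal R) = G k x := by
  refine le_antisymm (G_reindex_le k x e) ?_
  have := G_reindex_le (R := R) k (x ∘ e) e.symm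
  have h2 : (x ∘ e) ∘ e.symm = x := by
    ext i; simp
  rwa [h2] at this


theorem G_snoc_le {n : ℕ} (k : ℕ) (x : Fin n → M) (hx : Submodule.span R (Set.range x) = ⊤)
    (y : M) : (G k (Fin.snoc x y : Fin (n+1) → M) : Ideal R) ≤ G k x := by
  rw [G_le_iff]
  intro a T hT hr
  obtain ⟨c, hc⟩ : ∃ c : Fin n → R, ∑ j, c j • x j = y := by
    have : y ∈ Submodule.span R (Set.range x) := hx ▸ Submodule.mem_top
    exact (Submodule.mem_span_range_iff_exists_fun R).mp this
  let c' : Fin (n+1) → R := Fin.snoc c 0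
  let b : Matrix (Fin (n+1)) (Fin (n+1)) R :=
    Matrix.of fun i j => a i j + c' j * a i (Fin.last n)
  have hdet : b.det = a.det := by
    rw [← Matrix.det_transpose b, ← Matrix.det_transpose a]
    exact Matrix.det_eq_of_forall_row_eq_smul_add_const c' (Fin.last n) (by simp [c'])
      (fun i j => rfl)
  rw [← hdet, Matrix.det_succ_column b (Fin.last n)]
  refine Ideal.sum_mem _ (fun i _ => Ideal.mul_mem_left _ _ ?_)
  refine det_mem_G _ (T.preimage i.succAbove (Fin.succAbove_right_injective.injOn)) ?_ ?_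
  · exact (Finset.card_le_card_of_injOn i.succAbove (fun l hl => by simpa using hl)
      (Fin.succAbove_right_injective.injOn)).trans hT
  · intro l hl
    have hl' : i.succAbove l ∉ T := by simpa using hl
    have := hr _ hl'
    rw [Fin.sum_univ_castSucc] at this
    simp only [Fin.snoc_castSucc, Fin.snoc_last] at this
    rw [← hc, Finset.smul_sum] at this
    rw [← this]
    simp only [Matrix.submatrix_apply, Fin.succAbove_last, b, c', Matrix.of_apply,
      Fin.snoc_castSucc, add_smul, Finset.sum_add_distrib, mul_smul]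
    congr 1
    refine Finset.sum_congr rfl (fun j _ => ?_)
    rw [smul_comm]


theorem le_G_snoc {n : ℕ} (k : ℕ) (x : Fin n → M) (hx : Submodule.span R (Set.range x) = ⊤)
    (y : M) : (G k x : Ideal R) ≤ G k (Fin.snoc x y : Fin (n+1) → M) := by
  rw [G_le_iff]
  intro a T hT hr
  obtain ⟨c, hc⟩ : ∃ c : Fin n → R, ∑ j, c j • x j = y := by
    have : y ∈ Submodule.span R (Set.range x) := hx ▸ Submodule.mem_top
    exact (Submodule.mem_span_range_iff_exists_fun R).mp this
  let b : Matrix (Fin (n+1)) (Fin (n+1)) R :=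
    Matrix.of (Fin.snoc (α := fun _ => Fin (n+1) → R)
      (fun i' : Fin n => (Fin.snoc (a i') 0 : Fin (n+1) → R)) (Fin.snoc c (-1) : Fin (n+1) → R))
  have hsub : b.submatrix Fin.castSucc Fin.castSucc = a := by
    ext i j
    simp [b]
  have hdet : b.det = - a.det := by
    rw [Matrix.det_succ_column b (Fin.last n), Fin.sum_univ_castSucc]
    have h1 : ∀ i : Fin n, b i.castSucc (Fin.last n) = 0 := by
      intro i; simp [b]
    have h2 : b (Fin.last n) (Fin.last n) = -1 := by simp [b]
    simp only [h1, h2, mul_zero, zero_mul, Finset.sum_const_zero, zero_add, Fin.succAbove_last,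
      hsub]
    rw [Even.neg_one_pow ⟨_, rfl⟩]
    ring
  have : a.det = - b.det := by rw [hdet, neg_neg]
  rw [this]
  refine Ideal.neg_mem_iff _ |>.mpr ?_
  refine det_mem_G _ (T.map Fin.castSuccEmb) (by simpa using hT) ?_
  intro i hi
  rw [Fin.sum_univ_castSucc]
  refine Fin.lastCases ?_ (fun i' hi' => ?_) i hi
  · intro _
    simp [b, hc]
  · have h3 : i' ∉ T := by
      intro h
      apply hi'
      rw [Finset.mem_map]
      exact ⟨i', h, rfl⟩
    have := hr _ h3
    simpa [b] using this

theorem G_snoc {n : ℕ} (k : ℕ) (x : Fin n → M) (hx : Submodule.span R (Set.range x) = ⊤)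
    (y : M) : (G k (Fin.snoc x y : Fin (n+1) → M) : Ideal R) = G k x :=
  le_antisymm (G_snoc_le k x hx y) (le_G_snoc k x hx y)


theorem span_append_eq_top {n m : ℕ} (x : Fin n → M) (hx : Submodule.span R (Set.range x) = ⊤)
    (y : Fin m → M) : Submodule.span R (Set.range (Fin.append x y)) = ⊤ := by
  rw [eq_top_iff, ← hx]
  refine Submodule.span_mono ?_
  rintro _ ⟨i, rfl⟩
  exact ⟨Fin.castAdd m i, by simp⟩

theorem G_append {n : ℕ} (k : ℕ) (x : Fin n → M) (hx : Submodule.span R (Set.range x) = ⊤) :
    ∀ {m : ℕ} (y : Fin m → M), (G k (Fin.append x y) : Ideal R) = G k x := by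
  intro m
  induction m with
  | zero =>
    intro y
    have : Fin.append x y = x ∘ (finCongr (Nat.add_zero n)) := by
      rw [Fin.append_right_nil x y rfl]
      rfl
    rw [this, G_reindex]
  | succ m ih =>
    intro y
    have hy : y = Fin.snoc (Fin.init y) (y (Fin.last m)) := (Fin.snoc_init_self y).symm
    rw [hy, Fin.append_snoc]
    rw [G_snoc k _ (span_append_eq_top x hx _), ih]

theorem G_append_comm {n m : ℕ} (k : ℕ) (x : Fin n → M) (y : Fin m → M) :
    (G k (Fin.append x y) : Ideal R) = G k (Fin.append y x) := by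
  let e : Fin (m + n) ≃ Fin (n + m) :=
    finSumFinEquiv.symm.trans ((Equiv.sumComm _ _).trans finSumFinEquiv)
  have : Fin.append x y ∘ e = Fin.append y x := by
    funext i
    refine Fin.addCases (fun j => ?_) (fun j => ?_) i <;> simp [e]
  rw [← this, G_reindex]

/-- Independence of the generating tuple. -/
theorem G_indep {n m : ℕ} (k : ℕ) (x : Fin n → M) (hx : Submodule.span R (Set.range x) = ⊤)
    (y : Fin m → M) (hy : Submodule.span R (Set.range y) = ⊤) :
    (G k x : Ideal R) = G k y := by
  rw [← G_append k x hx y, G_append_comm, G_append k y hy x]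


theorem span_comp_equiv {ι κ : Type*} (x : ι → M) (e : κ ≃ ι) :
    Submodule.span R (Set.range (x ∘ e)) = Submodule.span R (Set.range x) := by
  rw [Set.range_comp, e.range_eq_univ, Set.image_univ]

/-- Independence of the generating tuple, general finite index types. -/
theorem G_indep' {ι κ : Type*} [Fintype ι] [DecidableEq ι] [Fintype κ] [DecidableEq κ]
    (k : ℕ) (x : ι → M) (hx : Submodule.span R (Set.range x) = ⊤)
    (y : κ → M) (hy : Submodule.span R (Set.range y) = ⊤) :
    (G k x : Ideal R) = G k y := by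
  rw [← G_reindex k x (Fintype.equivFin ι).symm, ← G_reindex k y (Fintype.equivFin κ).symm]
  exact G_indep k _ ((span_comp_equiv x _).trans hx) _ ((span_comp_equiv y _).trans hy)

theorem card_filter_not_lt (n k : ℕ) :
    (Finset.univ.filter (fun i : Fin n => ¬ ((i : ℕ) < n - k))).card ≤ k := by
  have h1 := Finset.card_filter_add_card_filter_not (s := (Finset.univ : Finset (Fin n)))
    (fun i : Fin n => (i : ℕ) < n - k)
  rw [Fin.card_filter_val_lt, Finset.card_univ, Fintype.card_fin] at h1
  omega

theorem ideal_le_G {n : ℕ} (k : ℕ) (x : Fin n → M)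
    (a : Matrix (Fin n) (Fin n) R) (h : ∀ i : Fin n, (i : ℕ) < n - k → ∑ j, a i j • x j = 0) :
    a.det ∈ (G k x : Ideal R) := by
  refine det_mem_G a (Finset.univ.filter (fun i : Fin n => ¬ ((i : ℕ) < n - k)))
    (card_filter_not_lt n k) ?_
  intro i hi
  apply h
  by_contra h'
  exact hi (by simp only [Finset.mem_filter, Finset.mem_univ, true_and]; exact h')

theorem exists_perm_of_card_le {n : ℕ} (k : ℕ) (T : Finset (Fin n)) (hT : T.card ≤ k) :
    ∃ σ : Equiv.Perm (Fin n), ∀ i : Fin n, (i : ℕ) < n - k → σ i ∉ T := by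
  classical
  let L : Finset (Fin n) := Finset.univ.filter (fun i : Fin n => ¬ ((i : ℕ) < n - k))
  have hL : T.card ≤ L.card := by
    have h1 := Finset.card_filter_add_card_filter_not (s := (Finset.univ : Finset (Fin n)))
      (fun i : Fin n => (i : ℕ) < n - k)
    rw [Fin.card_filter_val_lt, Finset.card_univ, Fintype.card_fin] at h1
    have h2 : T.card ≤ n := by
      simpa using Finset.card_le_univ T
    show T.card ≤ (Finset.univ.filter (fun i : Fin n => ¬ ((i : ℕ) < n - k))).card
    omega
  obtain ⟨T', hT'L, hT'⟩ := Finset.exists_subset_card_eq hL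
  let e : {i // i ∈ T'} ≃ {i // i ∈ T} := Finset.equivOfCardEq hT'
  refine ⟨e.extendSubtype, fun i hi => ?_⟩
  have hiT' : i ∉ T' := by
    intro h
    have := hT'L h
    simp [L] at this
    omega
  exact Equiv.extendSubtype_not_mem e i hiT'

theorem G_le_ideal {n : ℕ} (k : ℕ) (x : Fin n → M)
    (hx : Submodule.span R (Set.range x) = ⊤) : (G k x : Ideal R) ≤ Fitt.ideal R M k := by
  rw [G_le_iff]
  intro a T hT hr
  obtain ⟨σ, hσ⟩ := exists_perm_of_card_le k T hT
  have hb : (a.submatrix σ id).det ∈ Fitt.ideal R M k := by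
    refine Ideal.subset_span ⟨n, x, a.submatrix σ id, hx, ?_, rfl⟩
    intro i hi
    exact hr _ (hσ i hi)
  rw [Matrix.det_permute] at hb
  rcases Int.units_eq_one_or (Equiv.Perm.sign σ) with h | h
  · simpa [h] using hb
  · simpa [h] using hb

/-- The Fitting ideal can be computed from any finite generating family. -/
theorem ideal_eq_G {ι : Type*} [Fintype ι] [DecidableEq ι] (k : ℕ) (x : ι → M)
    (hx : Submodule.span R (Set.range x) = ⊤) : Fitt.ideal R M k = G k x := by
  apply le_antisymm
  · refine Ideal.span_le.mpr ?_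
    rintro d ⟨n, x', a, hx', hr, rfl⟩
    rw [G_indep' k x hx x' hx']
    exact ideal_le_G k x' a hr
  · rw [← G_reindex k x (Fintype.equivFin ι).symm]
    exact G_le_ideal k _ ((span_comp_equiv x _).trans hx)

end Groth.Agent.H4.Fitting
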