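import Mathlib
import Groth.Agent.H4.Fitting

namespace Groth.Agent.H4.Fitting

universe u v
open Matrix

variable {R : Type u} [CommRing R] {M : Type v} [AddCommGroup M] [Module R M]

/-- ideal of `m × m` minors of relation matrices -/
def Mi {ι : Type*} [Fintype ι] (x : ι → M) (m : ℕ) : Ideal R :=
  Ideal.span {d | ∃ (z : Fin m → (ι → R)) (e : Fin m → ι),
    (∀ j, ∑ i, z j i • x i = 0) ∧ d = (Matrix.of fun a b => z b (e a)).det}

theorem Mi_succ_le {ι : Type*} [Fintype ι] (x : ι → M) (m : ℕ) :
    (Mi x (m + 1) : Ideal R) ≤ Mi x m := by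
  refine Ideal.span_le.mpr ?_
  rintro d ⟨z, e, hz, rfl⟩
  rw [Matrix.det_succ_row _ 0]
  refine Ideal.sum_mem _ (fun j _ => Ideal.mul_mem_left _ _ ?_)
  refine Ideal.subset_span ⟨z ∘ j.succAbove, e ∘ Fin.succ, fun l => hz _, ?_⟩
  congr 1

theorem Mi_antitone {ι : Type*} [Fintype ι] (x : ι → M) : Antitone (Mi (R := R) x) :=
  antitone_nat_of_succ_le (Mi_succ_le x)

theorem det_mem_Mi {ι : Type*} [Fintype ι] (x : ι → M) :
    ∀ (m : ℕ) (w : Fin m → (ι → R)) (e : Fin m → ι) (T : Finset (Fin m)),
      (∀ a, a ∉ T → ∑ i, w a i • x i = 0) →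
      (Matrix.of fun a c => w a (e c)).det ∈ (Mi x (m - T.card) : Ideal R) := by
  intro m
  induction m with
  | zero =>
    intro w e T _
    have h0 : 0 - T.card = 0 := by omega
    rw [h0]
    refine Ideal.subset_span ⟨Fin.elim0, Fin.elim0, fun j => j.elim0, ?_⟩
    rw [Matrix.det_isEmpty, Matrix.det_isEmpty]
  | succ m ih =>
    intro w e T hT
    by_cases hTe : T = ∅
    · subst hTe
      simp only [Finset.card_empty, Nat.sub_zero]
      refine Ideal.subset_span ⟨w, e, fun j => hT j (by simp), ?_⟩
      rw [← Matrix.det_transpose]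
      rfl
    · obtain ⟨i, hi⟩ := Finset.nonempty_iff_ne_empty.mpr hTe
      rw [Matrix.det_succ_row _ i]
      refine Ideal.sum_mem _ (fun c _ => Ideal.mul_mem_left _ _ ?_)
      have h1 := ih (w ∘ i.succAbove) (e ∘ c.succAbove)
        (T.preimage i.succAbove (Fin.succAbove_right_injective.injOn))
        (fun a ha => hT _ (by simpa using ha))
      have hcard : (T.preimage i.succAbove (Fin.succAbove_right_injective.injOn)).card + 1
          ≤ T.card := by
        have h2 : (T.preimage i.succAbove (Fin.succAbove_right_injective.injOn)).card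
            ≤ (T.erase i).card := by
          refine Finset.card_le_card_of_injOn i.succAbove (fun l hl => ?_)
            (Fin.succAbove_right_injective.injOn)
          have hl' : i.succAbove l ∈ T := by simpa using hl
          simp only [Finset.coe_erase, Set.mem_sdiff, Finset.mem_coe, Set.mem_singleton_iff]
          exact ⟨hl', Fin.succAbove_ne i l⟩
        rw [Finset.card_erase_of_mem hi] at h2
        have : 0 < T.card := Finset.card_pos.mpr ⟨i, hi⟩
        omega
      refine Mi_antitone x ?_ h1
      omega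


theorem G_le_Mi {n : ℕ} (k : ℕ) (x : Fin n → M) : (G k x : Ideal R) ≤ Mi x (n - k) := by
  rw [G_le_iff]
  intro a T hT hr
  have := det_mem_Mi x n a id T hr
  refine Mi_antitone x ?_ this
  omega

theorem Mi_le_G {n : ℕ} (k : ℕ) (x : Fin n → M) : (Mi x (n - k) : Ideal R) ≤ G k x := by
  classical
  refine Ideal.span_le.mpr ?_
  rintro d ⟨z, e, hz, rfl⟩
  by_cases he : Function.Injective e
  · let σ : Fin (n - k) ⊕ ↥(Set.range e)ᶜ ≃ Fin n :=
      (Equiv.sumCongr (Equiv.ofInjective e he) (Equiv.refl _)).trans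
        (Equiv.Set.sumCompl (Set.range e))
    have hσl : ∀ a, σ (Sum.inl a) = e a := fun a => by simp [σ]
    have hσr : ∀ c, σ (Sum.inr c) = c.1 := fun c => by simp [σ]
    let b' : Matrix (Fin (n - k) ⊕ ↥(Set.range e)ᶜ) (Fin (n - k) ⊕ ↥(Set.range e)ᶜ) R :=
      Matrix.fromBlocks (Matrix.of fun a b => z a (e b)) (Matrix.of fun a c => z a c.1) 0 1
    have hdet : b'.det = (Matrix.of fun a b => z b (e a)).det := by
      rw [Matrix.det_fromBlocks_zero₂₁, Matrix.det_one, mul_one, ← Matrix.det_transpose]
      rfl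
    rw [SetLike.mem_coe, ← hdet, ← G_reindex k x σ]
    refine det_mem_G b' (Finset.univ.map ⟨Sum.inr, Sum.inr_injective⟩) ?_ ?_
    · rw [Finset.card_map, Finset.card_univ, Fintype.card_compl_set,
        Set.card_range_of_injective he]
      simp only [Fintype.card_fin]
      omega
    · intro i hi
      rcases i with a | c
      · rw [← hz a, ← Equiv.sum_comp σ (fun i => z a i • x i)]
        refine Finset.sum_congr rfl (fun j _ => ?_)
        rcases j with b | c
        · simp [b', hσl]
        · simp [b', hσr]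
      · exfalso
        apply hi
        simp
  · have : ∃ a a', a ≠ a' ∧ e a = e a' := by
      by_contra h
      push Not at h
      exact he (fun a a' haa => by_contra fun hne => h a a' hne haa)
    obtain ⟨a, a', hne, haa⟩ := this
    have : (Matrix.of fun a b => z b (e a)).det = 0 := by
      refine Matrix.det_zero_of_row_eq hne ?_
      ext b
      simp [haa]
    rw [this]
    exact Ideal.zero_mem _

theorem G_eq_Mi {n : ℕ} (k : ℕ) (x : Fin n → M) : (G k x : Ideal R) = Mi x (n - k) :=
  le_antisymm (G_le_Mi k x) (Mi_le_G k x)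

/-- The Fitting ideal is generated by the `(n-k)`-minors of relation matrices
for any generating `n`-tuple. -/
theorem ideal_eq_Mi {n : ℕ} (k : ℕ) (x : Fin n → M) (hx : Submodule.span R (Set.range x) = ⊤) :
    Fitt.ideal R M k = Mi x (n - k) := by
  rw [ideal_eq_G k x hx, G_eq_Mi]

end Groth.Agent.H4.Fitting
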