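import Mathlib
import Groth.Agent.H4.Fitting

namespace Groth.Agent.H4.Fitting

universe u v
open Matrix

variable {R : Type u} [CommRing R] {M : Type v} [AddCommGroup M] [Module R M]

theorem multilinear_mem_span_aux {ι : Type*} [Fintype ι] [DecidableEq ι] {N P : Type*}
    [AddCommGroup N] [Module R N] [AddCommGroup P] [Module R P]
    (f : MultilinearMap R (fun _ : ι => N) P) (S : ι → Set N) (s : Finset ι) :
    ∀ a : ι → N, (∀ i, i ∈ s → a i ∈ Submodule.span R (S i)) → (∀ i, i ∉ s → a i ∈ S i) →
      f a ∈ Submodule.span R {p | ∃ b : ι → N, (∀ i, b i ∈ S i) ∧ p = f b} := by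
  induction s using Finset.induction_on with
  | empty =>
    intro a _ h2
    exact Submodule.subset_span ⟨a, fun i => h2 i (by simp), rfl⟩
  | insert i0 s hi0 ih =>
    intro a h1 h2
    have key : ∀ v ∈ Submodule.span R (S i0),
        f (Function.update a i0 v) ∈
          Submodule.span R {p | ∃ b : ι → N, (∀ i, b i ∈ S i) ∧ p = f b} := by
      intro v hv
      induction hv using Submodule.span_induction with
      | mem v hv =>
        apply ih
        · intro i hi
          have hne : i ≠ i0 := fun h => hi0 (h ▸ hi)
          rw [Function.update_of_ne hne]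
          exact h1 i (Finset.mem_insert_of_mem hi)
        · intro i hi
          by_cases hne : i = i0
          · subst hne
            simpa using hv
          · rw [Function.update_of_ne hne]
            exact h2 i (by simp [hne, hi])
      | zero => rw [f.map_update_zero]; exact Submodule.zero_mem _
      | add v w _ _ hv hw => rw [f.map_update_add]; exact Submodule.add_mem _ hv hw
      | smul c v _ hv => rw [f.map_update_smul]; exact Submodule.smul_mem _ _ hv
    have := key (a i0) (h1 i0 (Finset.mem_insert_self _ _))
    rwa [Function.update_eq_self] at this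

theorem multilinear_mem_span {ι : Type*} [Fintype ι] [DecidableEq ι] {N P : Type*}
    [AddCommGroup N] [Module R N] [AddCommGroup P] [Module R P]
    (f : MultilinearMap R (fun _ : ι => N) P) (S : ι → Set N) (a : ι → N)
    (ha : ∀ i, a i ∈ Submodule.span R (S i)) :
    f a ∈ Submodule.span R {p | ∃ b : ι → N, (∀ i, b i ∈ S i) ∧ p = f b} :=
  multilinear_mem_span_aux f S Finset.univ a (fun i _ => ha i) (fun i hi => absurd (Finset.mem_univ i) hi)

/-- The module of relations among the `x i`. -/
def rel {ι : Type*} [Fintype ι] (x : ι → M) : Submodule R (ι → R) :=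
  LinearMap.ker (Fintype.linearCombination R x)

theorem mem_rel {ι : Type*} [Fintype ι] (x : ι → M) (z : ι → R) :
    z ∈ rel (R := R) x ↔ ∑ i, z i • x i = 0 := by
  rw [rel, LinearMap.mem_ker, Fintype.linearCombination_apply]

theorem span_single_eq_top {ι : Type*} [Fintype ι] [DecidableEq ι] :
    Submodule.span R (Set.range (fun j : ι => (Pi.single j 1 : ι → R))) = ⊤ := by
  have := (Pi.basisFun R ι).span_eq
  rw [← this]
  congr 1
  ext v
  simp [Pi.basisFun_apply]

/-- The tuple-wise Fitting ideal is generated by the determinants of matrices whose rows are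
taken from a fixed generating set of the relation module or are standard basis vectors. -/
theorem G_eq_span_of_span {ι : Type*} [Fintype ι] [DecidableEq ι] (k : ℕ) (x : ι → M)
    (S0 : Set (ι → R)) (hS0 : Submodule.span R S0 = rel x) :
    (G k x : Ideal R) = Ideal.span {d | ∃ (b : Matrix ι ι R) (T : Finset ι), T.card ≤ k ∧
      (∀ i, i ∉ T → b i ∈ S0) ∧ (∀ i, i ∈ T → ∃ j, b i = Pi.single j 1) ∧ d = b.det} := by
  apply le_antisymm
  · rw [G_le_iff]
    intro a T hT hr
    let S : ι → Set (ι → R) := fun i =>
      if i ∈ T then Set.range (fun j : ι => (Pi.single j 1 : ι → R)) else S0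
    have ha : ∀ i, a i ∈ Submodule.span R (S i) := by
      intro i
      by_cases hi : i ∈ T
      · simp only [S, if_pos hi]
        rw [span_single_eq_top]; trivial
      · simp only [S, if_neg hi]
        rw [hS0, mem_rel]
        exact hr i hi
    have := multilinear_mem_span (R := R)
      (Matrix.detRowAlternating (R := R) (n := ι)).toMultilinearMap S a ha
    refine Submodule.span_mono ?_ this
    rintro p ⟨b, hb, rfl⟩
    refine ⟨b, T, hT, ?_, ?_, rfl⟩
    · intro i hi
      have := hb i
      simpa only [S, if_neg hi] using this
    · intro i hi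
      have := hb i
      simp only [S, if_pos hi] at this
      obtain ⟨j, hj⟩ := this
      exact ⟨j, hj.symm⟩
  · refine Ideal.span_le.mpr ?_
    rintro d ⟨b, T, hT, h1, h2, rfl⟩
    refine det_mem_G b T hT ?_
    intro i hi
    have : b i ∈ rel (R := R) x := hS0 ▸ Submodule.subset_span (h1 i hi)
    exact (mem_rel x _).mp this

end Groth.Agent.H4.Fitting
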