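import Mathlib
import Groth.Agent.H4.Fitting
import Groth.Agent.H4.Fitting2

namespace Groth.Agent.H4.Fitting

universe u v w
open Matrix
open scoped TensorProduct

variable {R : Type u} [CommRing R] {M : Type v} [AddCommGroup M] [Module R M]
variable (R' : Type w) [CommRing R'] [Algebra R R']

theorem span_one_tmul_eq_top {ι : Type*} (x : ι → M) (hx : Submodule.span R (Set.range x) = ⊤) :
    Submodule.span R' (Set.range (fun i => (1 : R') ⊗ₜ[R] x i)) = ⊤ := by
  have h1 := Submodule.baseChange_span (R := R) (A := R') (M := M) (Set.range x)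
  rw [hx, Submodule.baseChange_top] at h1
  rw [h1]
  congr 1
  ext t
  simp

/-- entrywise `algebraMap` on tuples -/
noncomputable def phi (ι : Type*) : (ι → R) →ₗ[R] (ι → R') := (Algebra.linearMap R R').compLeft ι

@[simp] theorem phi_apply {ι : Type*} (z : ι → R) (i : ι) : phi R' ι z i = algebraMap R R' (z i) := rfl

theorem phi_single {ι : Type*} [DecidableEq ι] (j : ι) :
    phi R' ι (Pi.single j (1 : R)) = Pi.single j (1 : R') := by
  ext i
  simp [Pi.single_apply, apply_ite (algebraMap R R')]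

theorem rel_baseChange_le {ι : Type*} [Fintype ι] [DecidableEq ι] (x : ι → M)
    (hx : Submodule.span R (Set.range x) = ⊤) :
    rel (R := R') (fun i => (1 : R') ⊗ₜ[R] x i) ≤
      Submodule.span R' (phi R' ι '' (rel (R := R) x : Set (ι → R))) := by
  intro z' hz'
  rw [mem_rel] at hz'
  let f := (rel (R := R) x).subtype
  let g := Fintype.linearCombination R x
  have hfg : Function.Exact f g := LinearMap.exact_subtype_ker_map g
  have hg : Function.Surjective g := by
    rw [← LinearMap.range_eq_top, Fintype.range_linearCombination, hx]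
  let t : R' ⊗[R] (ι → R) := ∑ i, z' i ⊗ₜ[R] (Pi.single i (1 : R) : ι → R)
  have ht : LinearMap.lTensor R' g t = 0 := by
    simp only [t, map_sum, LinearMap.lTensor_tmul, g, Fintype.linearCombination_apply_single,
      one_smul]
    rw [← hz']
    refine Finset.sum_congr rfl (fun i _ => ?_)
    rw [TensorProduct.smul_tmul', smul_eq_mul, mul_one]
  have hex : Function.Exact (LinearMap.lTensor R' f) (LinearMap.lTensor R' g) :=
    lTensor_exact R' hfg hg
  obtain ⟨s, hs⟩ := (hex t).mp ht
  let ψ : R' ⊗[R] (ι → R) →ₗ[R'] (ι → R') := LinearMap.liftBaseChange R' (phi R' ι)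
  have hψt : ψ t = z' := by
    simp only [t, map_sum, ψ, LinearMap.liftBaseChange_tmul, phi_single]
    ext i
    simp [Pi.single_apply]
  rw [← hψt, ← hs]
  clear hs
  induction s using TensorProduct.induction_on with
  | zero => simp
  | tmul r k =>
    simp only [LinearMap.lTensor_tmul, ψ, LinearMap.liftBaseChange_tmul]
    exact Submodule.smul_mem _ _ (Submodule.subset_span ⟨k.1, k.2, rfl⟩)
  | add a b ha hb =>
    rw [map_add, map_add]
    exact Submodule.add_mem _ ha hb

theorem span_phi_rel_le {ι : Type*} [Fintype ι] [DecidableEq ι] (x : ι → M) :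
    Submodule.span R' (phi R' ι '' (rel (R := R) x : Set (ι → R))) ≤
      rel (R := R') (fun i => (1 : R') ⊗ₜ[R] x i) := by
  refine Submodule.span_le.mpr ?_
  rintro _ ⟨z, hz, rfl⟩
  rw [SetLike.mem_coe, mem_rel] at hz ⊢
  have : ∑ i, (phi R' ι z) i • ((1 : R') ⊗ₜ[R] x i) = (1 : R') ⊗ₜ[R] (∑ i, z i • x i) := by
    rw [TensorProduct.tmul_sum]
    refine Finset.sum_congr rfl (fun i _ => ?_)
    rw [phi_apply, TensorProduct.smul_tmul', smul_eq_mul, mul_one, TensorProduct.tmul_smul,
      Algebra.algebraMap_eq_smul_one, TensorProduct.smul_tmul']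
  rw [this, hz, TensorProduct.tmul_zero]

theorem rel_baseChange {ι : Type*} [Fintype ι] [DecidableEq ι] (x : ι → M)
    (hx : Submodule.span R (Set.range x) = ⊤) :
    Submodule.span R' (phi R' ι '' (rel (R := R) x : Set (ι → R))) =
      rel (R := R') (fun i => (1 : R') ⊗ₜ[R] x i) :=
  le_antisymm (span_phi_rel_le R' x) (rel_baseChange_le R' x hx)

theorem map_G_le {ι : Type*} [Fintype ι] [DecidableEq ι] (k : ℕ) (x : ι → M) :
    (G k x : Ideal R).map (algebraMap R R') ≤ G k (fun i => (1 : R') ⊗ₜ[R] x i) := by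
  rw [Ideal.map_le_iff_le_comap, G_le_iff]
  intro a T hT hr
  rw [Ideal.mem_comap, RingHom.map_det]
  refine det_mem_G _ T hT ?_
  intro i hi
  have h1 : (fun j => a i j) ∈ rel (R := R) x := (mem_rel x _).mpr (hr i hi)
  have h2 : phi R' ι (fun j => a i j) ∈
      Submodule.span R' (phi R' ι '' (rel (R := R) x : Set (ι → R))) :=
    Submodule.subset_span ⟨_, h1, rfl⟩
  exact (mem_rel _ _).mp (span_phi_rel_le R' x h2)

theorem G_baseChange_le {ι : Type*} [Fintype ι] [DecidableEq ι] (k : ℕ) (x : ι → M)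
    (hx : Submodule.span R (Set.range x) = ⊤) :
    G k (fun i => (1 : R') ⊗ₜ[R] x i) ≤ (G k x : Ideal R).map (algebraMap R R') := by
  rw [G_eq_span_of_span k _ _ (rel_baseChange R' x hx)]
  refine Ideal.span_le.mpr ?_
  rintro d ⟨b', T, hT, h1, h2, rfl⟩
  have hex : ∀ i, ∃ v : ι → R, (i ∉ T → v ∈ rel (R := R) x) ∧ phi R' ι v = b' i := by
    intro i
    by_cases hi : i ∈ T
    · obtain ⟨j, hj⟩ := h2 i hi
      exact ⟨Pi.single j 1, fun h => absurd hi h, by rw [phi_single, hj]⟩
    · obtain ⟨v, hv, hv'⟩ := h1 i hi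
      exact ⟨v, fun _ => hv, hv'⟩
  choose b hb1 hb2 using hex
  have hbb : b' = (algebraMap R R').mapMatrix (Matrix.of b) := by
    ext i j
    have := congrFun (hb2 i) j
    simpa using this.symm
  rw [hbb, ← RingHom.map_det]
  refine Ideal.mem_map_of_mem _ (det_mem_G _ T hT ?_)
  intro i hi
  exact (mem_rel x _).mp (hb1 i hi)

/-- Fitting ideals commute with base change. -/
theorem ideal_baseChange (M : Type v) [AddCommGroup M] [Module R M] [Module.Finite R M] (k : ℕ) :
    Fitt.ideal R' (R' ⊗[R] M) k = (Fitt.ideal R M k).map (algebraMap R R') := by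
  obtain ⟨n, x, hx⟩ := Module.Finite.exists_fin (R := R) (M := M)
  rw [ideal_eq_G k x hx, ideal_eq_G k _ (span_one_tmul_eq_top R' x hx)]
  exact le_antisymm (G_baseChange_le R' k x hx) (map_G_le R' k x)

end Groth.Agent.H4.Fitting
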