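import Mathlib
import Groth.Agent.H4.Fitting
import Groth.Agent.H4.Fitting3

namespace Groth.Agent.H4.Fitting

universe u v w
open Matrix
open scoped TensorProduct

variable {R : Type u} [CommRing R] {M : Type v} [AddCommGroup M] [Module R M]

theorem ideal_mono_surj {M' : Type w} [AddCommGroup M'] [Module R M'] (k : ℕ)
    (f : M →ₗ[R] M') (hf : Function.Surjective f) : Fitt.ideal R M k ≤ Fitt.ideal R M' k := by
  refine Ideal.span_le.mpr ?_
  rintro d ⟨n, x, a, hx, hr, rfl⟩
  refine Ideal.subset_span ⟨n, f ∘ x, a, ?_, ?_, rfl⟩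
  · rw [Set.range_comp, ← Submodule.map_span, hx, Submodule.map_top, LinearMap.range_eq_top]
    exact hf
  · intro i hi
    have := congrArg f (hr i hi)
    simpa using this

theorem ideal_congr {M' : Type w} [AddCommGroup M'] [Module R M'] (k : ℕ)
    (e : M ≃ₗ[R] M') : Fitt.ideal R M k = Fitt.ideal R M' k :=
  le_antisymm (ideal_mono_surj k e.toLinearMap e.surjective)
    (ideal_mono_surj k e.symm.toLinearMap e.symm.surjective)

theorem ideal_mono_index {k k' : ℕ} (h : k ≤ k') : Fitt.ideal R M k ≤ Fitt.ideal R M k' := by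
  refine Ideal.span_le.mpr ?_
  rintro d ⟨n, x, a, hx, hr, rfl⟩
  refine Ideal.subset_span ⟨n, x, a, hx, fun i hi => hr i (by omega), rfl⟩

theorem ideal_eq_top_of_span {ι : Type*} [Fintype ι] (x : ι → M)
    (hx : Submodule.span R (Set.range x) = ⊤) {k : ℕ} (hk : Fintype.card ι ≤ k) :
    Fitt.ideal R M k = ⊤ := by
  classical
  rw [ideal_eq_G k x hx, Ideal.eq_top_iff_one]
  have := det_mem_G (R := R) (k := k) (x := x) (1 : Matrix ι ι R) Finset.univ
    (by simpa using hk) (fun i hi => absurd (Finset.mem_univ i) hi)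
  simpa using this

theorem det_smul_eq_sum {ι : Type*} [Fintype ι] [DecidableEq ι] (x : ι → M) (a : Matrix ι ι R)
    (j : ι) : a.det • x j = ∑ i, Matrix.adjugate a j i • ∑ l, a i l • x l := by
  calc a.det • x j = ∑ l, (a.det • (1 : Matrix ι ι R)) j l • x l := by
        simp [Matrix.smul_apply, Matrix.one_apply, ite_smul, mul_ite]
    _ = ∑ l, (Matrix.adjugate a * a) j l • x l := by rw [Matrix.adjugate_mul]
    _ = ∑ l, ∑ i, (Matrix.adjugate a j i * a i l) • x l := by
        simp [Matrix.mul_apply, Finset.sum_smul]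
    _ = ∑ i, Matrix.adjugate a j i • ∑ l, a i l • x l := by
        rw [Finset.sum_comm]
        simp [Finset.smul_sum, mul_smul]

/-- A relation matrix with unit determinant and at most `k` non-relation rows gives `k`
generators. -/
theorem exists_gen_of_isUnit_det {ι : Type*} [Fintype ι] [DecidableEq ι] (x : ι → M)
    (hx : Submodule.span R (Set.range x) = ⊤) (a : Matrix ι ι R) (T : Finset ι) {k : ℕ}
    (hT : T.card ≤ k) (hr : ∀ i, i ∉ T → ∑ j, a i j • x j = 0) (hu : IsUnit a.det) :
    ∃ g : Fin k → M, Submodule.span R (Set.range g) = ⊤ := by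
  let y : ι → M := fun i => ∑ l, a i l • x l
  let g : Fin k → M := fun l =>
    if h : (l : ℕ) < T.card then y (T.equivFin.symm ⟨l, h⟩).1 else 0
  refine ⟨g, ?_⟩
  have hy : ∀ i, y i ∈ Submodule.span R (Set.range g) := by
    intro i
    by_cases hi : i ∈ T
    · have hlt : ((T.equivFin ⟨i, hi⟩ : Fin T.card) : ℕ) < k :=
        lt_of_lt_of_le (T.equivFin ⟨i, hi⟩).2 hT
      have : g ⟨(T.equivFin ⟨i, hi⟩ : Fin T.card), hlt⟩ = y i := by
        simp [g]
      rw [← this]
      exact Submodule.subset_span ⟨_, rfl⟩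
    · have : y i = 0 := hr i hi
      rw [this]
      exact Submodule.zero_mem _
  rw [eq_top_iff, ← hx]
  refine Submodule.span_le.mpr ?_
  rintro _ ⟨j, rfl⟩
  obtain ⟨u, hu⟩ := hu
  have h1 : x j = (↑u⁻¹ : R) • (a.det • x j) := by
    rw [← hu, smul_smul, Units.inv_mul, one_smul]
  rw [SetLike.mem_coe, h1, det_smul_eq_sum]
  refine Submodule.smul_mem _ _ (Submodule.sum_mem _ (fun i _ => Submodule.smul_mem _ _ (hy i)))

/-- Over a local ring, `Fit_k(M) = ⊤` iff `M` can be generated by `k` elements. -/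
theorem ideal_eq_top_iff_of_isLocalRing [IsLocalRing R] [Module.Finite R M] (k : ℕ) :
    Fitt.ideal R M k = ⊤ ↔ ∃ g : Fin k → M, Submodule.span R (Set.range g) = ⊤ := by
  constructor
  · intro h
    obtain ⟨n, x, hx⟩ := Module.Finite.exists_fin (R := R) (M := M)
    rw [ideal_eq_G k x hx] at h
    by_contra hne
    have hle : (G k x : Ideal R) ≤ IsLocalRing.maximalIdeal R := by
      rw [G_le_iff]
      intro a T hT hr
      by_contra hu
      have : IsUnit a.det := by
        by_contra h'
        exact hu ((IsLocalRing.mem_maximalIdeal _).mpr h')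
      exact hne (exists_gen_of_isUnit_det x hx a T hT hr this)
    rw [h] at hle
    exact (IsLocalRing.maximalIdeal.isMaximal R).ne_top (top_le_iff.mp hle)
  · rintro ⟨g, hg⟩
    exact ideal_eq_top_of_span g hg (by simp)

/-- Test of `Fit_k ⊄ 𝔭` by base change to a local ring centered at `𝔭`. -/
theorem not_le_iff_baseChange_eq_top [Module.Finite R M] (A : Type w) [CommRing A] [Algebra R A]
    [IsLocalRing A] (p : Ideal R)
    (hp : (IsLocalRing.maximalIdeal A).comap (algebraMap R A) = p) (k : ℕ) :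
    ¬ Fitt.ideal R M k ≤ p ↔ Fitt.ideal A (A ⊗[R] M) k = ⊤ := by
  rw [ideal_baseChange A M k, ← hp, ← Ideal.map_le_iff_le_comap]
  constructor
  · intro h
    by_contra hne
    exact h (IsLocalRing.le_maximalIdeal hne)
  · intro h hle
    rw [h] at hle
    exact (IsLocalRing.maximalIdeal.isMaximal A).ne_top (top_le_iff.mp hle)

end Groth.Agent.H4.Fitting
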