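import Mathlib
import Groth.Agent.H4.Fitting
import Groth.Agent.H4.Fitting4
import Groth.Agent.H4.Fitting5

namespace Groth.Agent.H4.Fitting

universe u v w
open Matrix
open scoped TensorProduct

variable {R : Type u} [CommRing R] {M : Type v} [AddCommGroup M] [Module R M]

/-- Fitting ideals of a free module vanish below the rank. -/
theorem ideal_eq_bot_of_basis {ι : Type*} [Fintype ι] (b : Module.Basis ι R M) {k : ℕ}
    (hk : k < Fintype.card ι) : Fitt.ideal R M k = ⊥ := by
  classical
  rw [ideal_eq_G k b b.span_eq, eq_bot_iff, G_le_iff]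
  intro a T hT hr
  have : ∃ i, i ∉ T := by
    by_contra h
    push Not at h
    have : T = Finset.univ := Finset.eq_univ_iff_forall.mpr h
    rw [this, Finset.card_univ] at hT
    omega
  obtain ⟨i, hi⟩ := this
  have h0 := Fintype.linearIndependent_iff.mp b.linearIndependent (a i) (hr i hi)
  rw [Ideal.mem_bot]
  exact Matrix.det_eq_zero_of_row_eq_zero i h0

/-- If `x` is a generating `n`-tuple and `Fit_{n-1}(M) = 0`, then `x` is linearly independent. -/
theorem linearIndependent_of_ideal_eq_bot {n : ℕ} (x : Fin n → M)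
    (hx : Submodule.span R (Set.range x) = ⊤) (h : n = 0 ∨ Fitt.ideal R M (n - 1) = ⊥) :
    LinearIndependent R x := by
  rw [Fintype.linearIndependent_iff]
  intro z hz i
  rcases h with h | h
  · subst h
    exact i.elim0
  · rw [ideal_eq_Mi (n - 1) x hx] at h
    have hn : n - (n - 1) = 1 := by
      have := i.2
      omega
    rw [hn] at h
    have : z i ∈ (Mi x 1 : Ideal R) := by
      refine Ideal.subset_span ⟨fun _ => z, fun _ => i, fun _ => hz, ?_⟩
      rw [Matrix.det_fin_one]
      rfl
    rw [h] at this
    exact this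

/-- An ideal which vanishes Zariski-locally vanishes. -/
theorem ideal_eq_bot_of_locally (I : Ideal R)
    (h : ∀ (p : Ideal R) [p.IsPrime], ∃ f : R, f ∉ p ∧
      I.map (algebraMap R (Localization.Away f)) = ⊥) : I = ⊥ := by
  rw [eq_bot_iff]
  intro a ha
  rw [Ideal.mem_bot]
  by_contra hne
  let J : Ideal R := LinearMap.ker (LinearMap.toSpanSingleton R R a)
  have hJ : J ≠ ⊤ := by
    intro hJ
    have : (1 : R) ∈ J := hJ ▸ Submodule.mem_top
    simp [J] at this
    exact hne this
  obtain ⟨m, hm, hJm⟩ := Ideal.exists_le_maximal J hJ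
  obtain ⟨f, hf, hIf⟩ := h m
  have h1 : algebraMap R (Localization.Away f) a = 0 := by
    have : algebraMap R (Localization.Away f) a ∈ I.map (algebraMap R (Localization.Away f)) :=
      Ideal.mem_map_of_mem _ ha
    rw [hIf] at this
    exact this
  rw [IsLocalization.map_eq_zero_iff (Submonoid.powers f)] at h1
  obtain ⟨⟨_, n, rfl⟩, hn⟩ := h1
  have : f ^ n ∈ J := by
    simp only [J, LinearMap.mem_ker, LinearMap.toSpanSingleton_apply, smul_eq_mul]
    exact hn
  exact hf (hm.isPrime.mem_of_pow_mem n (hJm this))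

end Groth.Agent.H4.Fitting
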