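import Mathlib
import Groth.Agent.H4.Fitting6

namespace Groth.Agent.H4.Fitting

universe u v w
open Matrix
open scoped TensorProduct

variable {R : Type u} [CommRing R] {M : Type v} [AddCommGroup M] [Module R M]

/-- An ideal which vanishes at all localizations at primes vanishes. -/
theorem ideal_eq_bot_of_atPrime (I : Ideal R)
    (h : ∀ (p : Ideal R) [p.IsPrime], I.map (algebraMap R (Localization.AtPrime p)) = ⊥) :
    I = ⊥ := by
  rw [eq_bot_iff]
  intro a ha
  rw [Ideal.mem_bot]
  by_contra hne
  let J : Ideal R := LinearMap.ker (LinearMap.toSpanSingleton R R a)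
  have hJ : J ≠ ⊤ := by
    intro hJ
    have : (1 : R) ∈ J := hJ ▸ Submodule.mem_top
    simp [J] at this
    exact hne this
  obtain ⟨m, hm, hJm⟩ := Ideal.exists_le_maximal J hJ
  haveI := hm.isPrime
  have hIf := h m
  have h1 : algebraMap R (Localization.AtPrime m) a = 0 := by
    have : algebraMap R (Localization.AtPrime m) a ∈ I.map (algebraMap R (Localization.AtPrime m)) :=
      Ideal.mem_map_of_mem _ ha
    rw [hIf] at this
    exact this
  rw [IsLocalization.map_eq_zero_iff m.primeCompl] at h1
  obtain ⟨⟨s, hs⟩, hn⟩ := h1
  have : s ∈ J := by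
    simp only [J, LinearMap.mem_ker, LinearMap.toSpanSingleton_apply, smul_eq_mul]
    exact hn
  exact hs (hJm this)

theorem fitt_atPrime [Module.Finite R M] (p : Ideal R) [p.IsPrime] (k : ℕ) :
    Fitt.ideal (Localization.AtPrime p) (LocalizedModule p.primeCompl M) k =
      (Fitt.ideal R M k).map (algebraMap R (Localization.AtPrime p)) := by
  rw [← ideal_congr k (IsLocalizedModule.isBaseChange p.primeCompl (Localization.AtPrime p)
      (LocalizedModule.mkLinearMap p.primeCompl M)).equiv, ideal_baseChange]

theorem fitt_away [Module.Finite R M] (f : R) (k : ℕ) :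
    Fitt.ideal (Localization.Away f) (LocalizedModule (Submonoid.powers f) M) k =
      (Fitt.ideal R M k).map (algebraMap R (Localization.Away f)) := by
  rw [← ideal_congr k (IsLocalizedModule.isBaseChange (Submonoid.powers f) (Localization.Away f)
      (LocalizedModule.mkLinearMap (Submonoid.powers f) M)).equiv, ideal_baseChange]

/-- Fitting ideals of a finite projective module of constant rank `k` vanish below `k`. -/
theorem ideal_eq_bot_of_rankAtStalk [Module.Finite R M] [Module.Projective R M] {k j : ℕ}
    (hk : ∀ p : PrimeSpectrum R, Module.rankAtStalk (R := R) M p = k) (hj : j < k) :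
    Fitt.ideal R M j = ⊥ := by
  apply ideal_eq_bot_of_atPrime
  intro p _
  rw [← fitt_atPrime]
  have hrank : Module.finrank (Localization.AtPrime p) (LocalizedModule p.primeCompl M) = k :=
    hk ⟨p, inferInstance⟩
  haveI : Module.Free (Localization.AtPrime p) (LocalizedModule p.primeCompl M) :=
    Module.free_of_flat_of_isLocalRing
  exact ideal_eq_bot_of_basis (Module.finBasisOfFinrankEq _ _ hrank) (by simpa using hj)

end Groth.Agent.H4.Fitting
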