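import Mathlib
import Groth.Prelude.Def_Fitting
import Groth.Prelude.Def_CohB1
import Groth.Prelude.Def_BlowUp2
import Groth.Agent.H4.Fitting7
import Groth.Agent.Lib.Lead.QC.AnnIdeal
import Groth.Agent.Lib.Lead.QC.FinPres
universe u
open CategoryTheory Limits AlgebraicGeometry TopologicalSpace Opposite TensorProduct

namespace Groth.Agent.H4.FittSheaf
open Groth.Agent.H4.Fitting Groth.Agent.LD.QC

section Alg
variable {A A' M M' : Type*} [CommRing A] [CommRing A'] [Algebra A A']
  [AddCommGroup M] [Module A M] [AddCommGroup M'] [Module A M']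
  [Module A' M'] [IsScalarTower A A' M'] (g : M →ₗ[A] M')

theorem fitt_isBaseChange [Module.Finite A M] (hg : IsBaseChange A' g) (k : ℕ) :
    Fitt.ideal A' M' k = (Fitt.ideal A M k).map (algebraMap A A') := by
  rw [← ideal_congr k hg.equiv, ideal_baseChange]

theorem fitt_isLocalizedModule (S : Submonoid A) [IsLocalization S A'] [IsLocalizedModule S g]
    [Module.Finite A M] (k : ℕ) :
    Fitt.ideal A' M' k = (Fitt.ideal A M k).map (algebraMap A A') :=
  fitt_isBaseChange g (IsLocalizedModule.isBaseChange S A' g) k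

end Alg

variable {X : Scheme.{u}}

/-- the Fitting ideal sheaf of a quasi-coherent module of finite type, with its affine values -/
noncomputable def fittIdeal (F : X.Modules) [F.IsQuasicoherent] (hF : F.IsFiniteType) (r : ℕ) :
    X.IdealSheafData where
  ideal U := Fitt.ideal Γ(X, U.1) Γ(F, U.1) r
  map_ideal_basicOpen U f := by
    letI : Algebra Γ(X, U.1) Γ(X, X.basicOpen f) := resAlgebra (X.basicOpen_le f)
    letI : Module Γ(X, U.1) Γ(F, X.basicOpen f) := resModule F (X.basicOpen_le f)
    haveI : IsScalarTower Γ(X, U.1) Γ(X, X.basicOpen f) Γ(F, X.basicOpen f) :=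
      resModule_isScalarTower F (X.basicOpen_le f)
    haveI : IsLocalization.Away f Γ(X, X.basicOpen f) := U.2.isLocalization_basicOpen f
    haveI : IsLocalizedModule.Away f (resLinear F (X.basicOpen_le f)) :=
      isLocalizedModule_basicOpen F U.2 f
    haveI : Module.Finite Γ(X, U.1) Γ(F, U.1) := finite_sections_of_isFiniteType F hF U.2
    change (Fitt.ideal Γ(X, U.1) Γ(F, U.1) r).map
      (algebraMap Γ(X, U.1) Γ(X, X.basicOpen f)) =
        Fitt.ideal Γ(X, X.basicOpen f) Γ(F, X.basicOpen f) r
    exact (fitt_isLocalizedModule (resLinear F (X.basicOpen_le f)) (Submonoid.powers f) r).symm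

theorem sheafIdeal_eq (F : X.Modules) [F.IsQuasicoherent] (hF : F.IsFiniteType) (r : ℕ) :
    Fitt.sheafIdeal F r = fittIdeal F hF r :=
  Scheme.IdealSheafData.ofIdeals_ideal (fittIdeal F hF r)

theorem sheafIdeal_ideal (F : X.Modules) [F.IsQuasicoherent] (hF : F.IsFiniteType) (r : ℕ)
    (U : X.affineOpens) :
    (Fitt.sheafIdeal F r).ideal U = Fitt.ideal Γ(X, U.1) Γ(F, U.1) r := by
  rw [sheafIdeal_eq F hF r]
  rfl

end Groth.Agent.H4.FittSheaf
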