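import Mathlib
import Groth.Prelude.Def_Fitting
import Groth.Prelude.Def_Mor2
import Groth.Agent.H4.FittSheaf
import Groth.Agent.Lib.Lead.QC.IdealComap
import Groth.Agent.S6891
import Groth.Agent.S6894
import Groth.Agent.S6895

set_option autoImplicit false
universe u
open CategoryTheory CategoryTheory.Limits AlgebraicGeometry TopologicalSpace
open scoped TensorProduct

namespace Groth.Agent.H4.FittMor1
open Groth.Agent.H4.Fitting Groth.Agent.H4.FittSheaf

/-- the `r`-th Fitting ideal of the target of a ring map, as a module over the source -/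
noncomputable def fittI {A B : CommRingCat.{u}} (f : A ⟶ B) (r : ℕ) : Ideal A :=
  letI := f.hom.toAlgebra
  Fitt.ideal A B r

theorem fittI_of_isPushout {A A' B B' : CommRingCat.{u}} (f : A ⟶ B) (g : A ⟶ A') (g' : B ⟶ B')
    (f' : A' ⟶ B') (h : IsPushout f g g' f') (hfin : f.hom.Finite) (r : ℕ) :
    fittI f' r = (fittI f r).map g.hom := by
  letI := f.hom.toAlgebra
  letI := g.hom.toAlgebra
  letI := f'.hom.toAlgebra
  letI := g'.hom.toAlgebra
  letI : Algebra A B' := (f'.hom.comp g.hom).toAlgebra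
  haveI : IsScalarTower A A' B' := .of_algebraMap_eq' rfl
  haveI : IsScalarTower A B B' := .of_algebraMap_eq' (by
    show (f'.hom.comp g.hom) = g'.hom.comp f.hom
    rw [← CommRingCat.hom_comp, ← CommRingCat.hom_comp, h.w])
  haveI : Module.Finite A B := hfin
  have hp : Algebra.IsPushout A A' B B' := CommRingCat.isPushout_iff_isPushout.mp h.flip
  exact fitt_isBaseChange (IsScalarTower.toAlgHom A B B').toLinearMap hp.out r

theorem fittI_mono {A B : CommRingCat.{u}} (f : A ⟶ B) {k k' : ℕ} (h : k ≤ k') :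
    fittI f k ≤ fittI f k' := by
  letI := f.hom.toAlgebra
  exact ideal_mono_index h

section Sch
variable {X X' Y Y' : Scheme.{u}} {π : Y ⟶ X} {π' : Y' ⟶ X'} {g : X' ⟶ X} {g' : Y' ⟶ Y}

theorem fittI_app_of_isPullback (H : IsPullback g' π' π g) [IsFinite π] (r : ℕ) {V : X.Opens}
    (hV : IsAffineOpen V) {V' : X'.Opens} (hV' : IsAffineOpen V') (e : V' ≤ g ⁻¹ᵁ V) :
    fittI (π'.app V') r = (fittI (π.app V) r).map (g.appLE V V' e).hom := by
  have hle : π' ⁻¹ᵁ V' ≤ g' ⁻¹ᵁ (π ⁻¹ᵁ V) := by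
    intro z hz
    have hw : π (g' z) = g (π' z) := by
      rw [← Scheme.Hom.comp_apply, ← Scheme.Hom.comp_apply, H.w]
    show π (g' z) ∈ V
    rw [hw]
    exact e hz
  have hUY : π' ⁻¹ᵁ V' = g' ⁻¹ᵁ (π ⁻¹ᵁ V) ⊓ π' ⁻¹ᵁ V' := (inf_eq_right.mpr hle).symm
  have hiso := isIso_pushoutSection_of_isAffineOpen H e (le_refl (π ⁻¹ᵁ V)) hUY hV hV'
    (hV.preimage π)
  have hpo := (isIso_pushoutSection_iff H e (le_refl (π ⁻¹ᵁ V)) hUY).mp hiso
  have hfin : (π.appLE V (π ⁻¹ᵁ V) (le_refl _)).hom.Finite := by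
    rw [Scheme.Hom.appLE_eq_app]
    exact π.finite_app V hV
  have := fittI_of_isPushout _ _ _ _ hpo hfin r
  rw [Scheme.Hom.appLE_eq_app, Scheme.Hom.appLE_eq_app] at this
  exact this

variable (π)

/-- the Fitting ideal sheaves of a finite morphism -/
noncomputable def fitt [IsFinite π] (r : ℕ) : X.IdealSheafData where
  ideal V := fittI (π.app V.1) r
  map_ideal_basicOpen V f := by
    have H : IsPullback (𝟙 Y) π π (𝟙 X) := IsPullback.of_horiz_isIso ⟨by simp⟩
    have e : X.basicOpen f ≤ (𝟙 X) ⁻¹ᵁ V.1 := X.basicOpen_le f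
    have := fittI_app_of_isPullback H r V.2 (X.affineBasicOpen f).2 e
    refine Eq.trans ?_ this.symm
    congr 2

theorem fitt_ideal [IsFinite π] (r : ℕ) (V : X.affineOpens) :
    (fitt π r).ideal V = fittI (π.app V.1) r := rfl

theorem fitt_mono [IsFinite π] {k k' : ℕ} (h : k ≤ k') : fitt π k ≤ fitt π k' := by
  intro V
  exact fittI_mono _ h

variable {π}

theorem fitt_comap (H : IsPullback g' π' π g) [IsFinite π] [IsFinite π'] (r : ℕ) :
    fitt π' r = (fitt π r).comap g := by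
  refine Scheme.IdealSheafData.ext_of_iSup_eq_top
    (fun i : {p : X'.affineOpens × X.affineOpens // p.1.1 ≤ g ⁻¹ᵁ p.2.1} => i.1.1) ?_ ?_
  · rw [eq_top_iff]
    rintro x -
    obtain ⟨V, hV, hxV, -⟩ := exists_isAffineOpen_mem_and_subset (x := g x) (U := ⊤) trivial
    obtain ⟨V', hV', hxV', hle⟩ :=
      exists_isAffineOpen_mem_and_subset (x := x) (U := g ⁻¹ᵁ V) hxV
    exact Opens.mem_iSup.mpr ⟨⟨(⟨V', hV'⟩, ⟨V, hV⟩), hle⟩, hxV'⟩
  · rintro ⟨⟨V', V⟩, e⟩
    rw [Groth.Agent.LD.QC.ideal_comap_of_le (fitt π r) g V V' e]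
    exact fittI_app_of_isPullback H r V.2 V'.2 e

theorem fitt_congr {Y₂ : Scheme.{u}} {π₂ : Y₂ ⟶ X} (φ : Y ⟶ Y₂) [IsIso φ] (hφ : φ ≫ π₂ = π)
    [IsFinite π] [IsFinite π₂] (r : ℕ) : fitt π r = fitt π₂ r := by
  have H : IsPullback φ π π₂ (𝟙 X) := IsPullback.of_horiz_isIso ⟨by simp [hφ]⟩
  rw [fitt_comap H r, Scheme.IdealSheafData.comap_id]

end Sch

/-! ### finite locally free from Fitting ideals -/

theorem alg_of_fitt {A : Type u} [CommRing A] (M : Type u) [AddCommGroup M] [Module A M]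
    [Module.Finite A M] (d : ℕ) (h0 : ∀ k, k < d → Fitt.ideal A M k = ⊥)
    (h1 : ∀ k, d ≤ k → Fitt.ideal A M k = ⊤) :
    Module.Flat A M ∧ Module.FinitePresentation A M ∧
      ∀ p : PrimeSpectrum A, Module.rankAtStalk M p = d := by
  have hloc := (Groth.Agent.S6895.result M d).mpr ⟨h0, h1⟩
  let s : Set A := {f | Module.Free (Localization.Away f) (LocalizedModule (Submonoid.powers f) M)}
  have hs : Ideal.span s = ⊤ := by
    by_contra hne
    obtain ⟨m, hm, hle⟩ := Ideal.exists_le_maximal _ hne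
    haveI := hm.isPrime
    obtain ⟨f, hf, hfree, -⟩ := hloc m
    exact hf (hle (Ideal.subset_span hfree))
  have hflat : Module.Flat A M := by
    refine Module.flat_of_localized_span A M s hs (fun r => ?_)
    haveI : Module.Free (Localization.Away r.1) (LocalizedModule (Submonoid.powers r.1) M) := r.2
    exact Module.Flat.trans A (Localization.Away r.1) (LocalizedModule (Submonoid.powers r.1) M)
  refine ⟨hflat, ?_, ?_⟩
  · refine Module.FinitePresentation.of_localizationSpan s hs (fun r => ?_)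
    haveI : Module.Free (Localization.Away r.1) (LocalizedModule (Submonoid.powers r.1) M) := r.2
    haveI : Module.Finite (Localization.Away r.1) (LocalizedModule (Submonoid.powers r.1) M) :=
      Module.Finite.of_isLocalizedModule (Submonoid.powers r.1)
        (LocalizedModule.mkLinearMap (Submonoid.powers r.1) M)
    exact Module.finitePresentation_of_projective _ _
  · intro p
    rw [Module.rankAtStalk_eq]
    have hk := fun k => (Groth.Agent.S6894.result M k p.asIdeal).1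
    have hle : Module.finrank p.asIdeal.ResidueField (p.asIdeal.ResidueField ⊗[A] M) ≤ d := by
      refine (hk d).mp ?_
      rw [h1 d le_rfl]
      intro h
      exact p.2.ne_top (top_le_iff.mp h)
    refine le_antisymm hle ?_
    rcases Nat.eq_zero_or_pos d with hd | hd
    · omega
    · by_contra hlt
      push Not at hlt
      have : Module.finrank p.asIdeal.ResidueField (p.asIdeal.ResidueField ⊗[A] M) ≤ d - 1 :=
        Nat.le_sub_one_of_lt hlt
      have := (hk (d - 1)).mpr this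
      rw [h0 (d - 1) (by omega)] at this
      exact this bot_le

theorem isPullback_of_isOpenImmersion {U V X Y : Scheme.{u}} (i₁ : U ⟶ X) (i₂ : V ⟶ Y)
    (f' : U ⟶ V) (f : X ⟶ Y) [IsOpenImmersion i₁] [IsOpenImmersion i₂] (H : i₁ ≫ f = f' ≫ i₂)
    (hU : Set.range i₁ = f ⁻¹' Set.range i₂) : IsPullback i₁ f' f i₂ := by
  refine ⟨⟨H⟩, ⟨PullbackCone.IsLimit.mk _
    (fun s => IsOpenImmersion.lift i₁ s.fst ?_) ?_ ?_ ?_⟩⟩
  · rw [hU]
    rintro _ ⟨z, rfl⟩
    refine ⟨s.snd z, ?_⟩
    rw [← Scheme.Hom.comp_apply, ← Scheme.Hom.comp_apply, s.condition]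
  · intro s
    exact IsOpenImmersion.lift_fac _ _ _
  · intro s
    rw [← cancel_mono i₂, Category.assoc, ← H, IsOpenImmersion.lift_fac_assoc, s.condition]
  · intro s m h1 _
    rw [← cancel_mono i₁, h1, IsOpenImmersion.lift_fac]

section LF
variable {X Y : Scheme.{u}} (π : Y ⟶ X) [IsFinite π]

theorem isFinLocFreeOfDeg_of_fitt (d : ℕ) (h0 : ∀ k, k < d → fitt π k = ⊥)
    (h1 : ∀ k, d ≤ k → fitt π k = ⊤) : Mor2.IsFinLocFreeOfDeg d π := by
  have key : ∀ V : X.affineOpens, letI := (π.app V.1).hom.toAlgebra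
      Module.Flat Γ(X, V.1) Γ(Y, π ⁻¹ᵁ V.1) ∧ Module.FinitePresentation Γ(X, V.1) Γ(Y, π ⁻¹ᵁ V.1) ∧
      ∀ p : PrimeSpectrum Γ(X, V.1), Module.rankAtStalk Γ(Y, π ⁻¹ᵁ V.1) p = d := by
    intro V
    letI := (π.app V.1).hom.toAlgebra
    haveI : Module.Finite Γ(X, V.1) Γ(Y, π ⁻¹ᵁ V.1) := π.finite_app V.1 V.2
    refine alg_of_fitt _ d (fun k hk => ?_) (fun k hk => ?_)
    · exact congrArg (fun I => I.ideal V) (h0 k hk)
    · exact congrArg (fun I => I.ideal V) (h1 k hk)
  have hflatapp : ∀ V : X.affineOpens, (π.app V.1).hom.Flat := by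
    intro V
    letI := (π.app V.1).hom.toAlgebra
    exact (key V).1
  have hfpapp : ∀ V : X.affineOpens, (π.app V.1).hom.FinitePresentation := by
    intro V
    letI := (π.app V.1).hom.toAlgebra
    haveI := (key V).2.1
    show Algebra.FinitePresentation Γ(X, V.1) Γ(Y, π ⁻¹ᵁ V.1)
    infer_instance
  have hres : ∀ (V : X.affineOpens) (W : Y.affineOpens) (e : W.1 ≤ π ⁻¹ᵁ V.1),
      π.appLE V.1 W.1 e = π.app V.1 ≫ Scheme.Hom.appLE (𝟙 Y) (π ⁻¹ᵁ V.1) W.1 e := by
    intro V W e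
    simp only [Scheme.Hom.appLE, Scheme.Hom.id_app]
    erw [Category.id_comp]
    rfl
  have hflat : Flat π := by
    rw [HasRingHomProperty.iff_appLE (P := @Flat)]
    intro V W e
    rw [hres V W e, CommRingCat.hom_comp]
    exact RingHom.Flat.comp (hflatapp V) (Scheme.Hom.flat_appLE (𝟙 Y) (V.2.preimage π) W.2 e)
  have hlfp : LocallyOfFinitePresentation π := by
    rw [HasRingHomProperty.iff_appLE (P := @LocallyOfFinitePresentation)]
    intro V W e
    rw [hres V W e, CommRingCat.hom_comp]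
    exact RingHom.FinitePresentation.comp (Scheme.Hom.finitePresentation_appLE (𝟙 Y) (V.2.preimage π) W.2 e)
      (hfpapp V)
  refine ⟨⟨inferInstance, hflat, hlfp⟩, fun y => ?_⟩
  obtain ⟨V, hV, hyV, -⟩ := exists_isAffineOpen_mem_and_subset (x := y) (U := ⊤) trivial
  have hpb : IsPullback (hV.preimage π).fromSpec (Spec.map (π.app V)) π hV.fromSpec := by
    refine isPullback_of_isOpenImmersion _ _ _ _ ?_ ?_
    · have := IsAffineOpen.SpecMap_appLE_fromSpec π hV (hV.preimage π) (le_refl _)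
      rw [Scheme.Hom.appLE_eq_app] at this
      exact this.symm
    · rw [IsAffineOpen.range_fromSpec, IsAffineOpen.range_fromSpec]
      rfl
  obtain ⟨z, rfl⟩ : ∃ z, hV.fromSpec z = y := by
    have : y ∈ Set.range hV.fromSpec := by rw [hV.range_fromSpec]; exact hyV
    exact this
  rw [← Scheme.Hom.finrank_of_isPullback _ _ _ _ hpb z,
    Scheme.Hom.finrank_SpecMap_eq_finrank (π.finite_app V hV) (hflatapp ⟨V, hV⟩)]
  letI := (π.app V).hom.toAlgebra
  exact (key ⟨V, hV⟩).2.2 z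

end LF

end Groth.Agent.H4.FittMor1
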