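import Mathlib
import Groth.Prelude.Def_Grpd
import Groth.Agent.H4.FittMor1
import Groth.Agent.H4.GrpdLib3

set_option autoImplicit false
universe u
open CategoryTheory CategoryTheory.Limits AlgebraicGeometry TopologicalSpace
open scoped TensorProduct

namespace Groth.Agent.H4.FittMor2
open Groth.Agent.H4.Fitting Groth.Agent.H4.FittMor1 Groth.Agent.H4.GrpdLib

theorem exists_iso_of_ker_eq {X Z₁ Z₂ : Scheme.{u}} (i₁ : Z₁ ⟶ X) (i₂ : Z₂ ⟶ X)
    [IsClosedImmersion i₁] [IsClosedImmersion i₂] (h : i₁.ker = i₂.ker) :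
    ∃ φ : Z₁ ≅ Z₂, φ.hom ≫ i₂ = i₁ := by
  refine ⟨⟨IsClosedImmersion.lift i₂ i₁ h.ge, IsClosedImmersion.lift i₁ i₂ h.le, ?_, ?_⟩,
    IsClosedImmersion.lift_fac _ _ _⟩
  · rw [← cancel_mono i₁, Category.assoc, IsClosedImmersion.lift_fac, IsClosedImmersion.lift_fac,
      Category.id_comp]
  · rw [← cancel_mono i₂, Category.assoc, IsClosedImmersion.lift_fac, IsClosedImmersion.lift_fac,
      Category.id_comp]

theorem exists_iso_of_comap_eq {X Y : Scheme.{u}} (I : Y.IdealSheafData) (f₁ f₂ : X ⟶ Y)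
    (h : I.comap f₁ = I.comap f₂) :
    ∃ φ : pullback f₁ I.subschemeι ≅ pullback f₂ I.subschemeι,
      φ.hom ≫ pullback.fst f₂ I.subschemeι = pullback.fst f₁ I.subschemeι :=
  exists_iso_of_ker_eq _ _ h

theorem comap_subschemeι {Y : Scheme.{u}} (I : Y.IdealSheafData) : I.comap I.subschemeι = ⊥ := by
  rw [eq_bot_iff, ← Scheme.IdealSheafData.le_map_iff_comap_le, Scheme.IdealSheafData.map_bot,
    Scheme.IdealSheafData.ker_subschemeι]

variable {S : Scheme.{u}} (G : Grpd.GroupoidScheme S) [IsFinite G.s]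

/-- the Fitting strata of a groupoid with finite source map -/
noncomputable def Z (r : ℕ) : G.U.IdealSheafData := fitt G.s r

theorem Z_mono : Monotone (Z G) := fun _ _ h => fitt_mono G.s h

theorem Z_comap_eq (r : ℕ) : (Z G r).comap G.s = (Z G r).comap G.t := by
  have h1 := fitt_comap (isPullback_c_snd G) r
  have h2 := fitt_comap (IsPullback.of_hasPullback G.s G.t) r
  exact h1.symm.trans h2

theorem Z_zero : Z G 0 = ⊥ := by
  ext V : 2
  show fittI (G.s.app V.1) 0 = ⊥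
  letI := (G.s.app V.1).hom.toAlgebra
  haveI : Module.Finite Γ(G.U, V.1) Γ(G.R, G.s ⁻¹ᵁ V.1) := G.s.finite_app V.1 V.2
  have h := (Groth.Agent.S6891.result Γ(G.R, G.s ⁻¹ᵁ V.1) (⊥ : Ideal Γ(G.U, V.1))).1
  rw [eq_bot_iff]
  refine le_trans h ?_
  intro a ha
  have h1 : a • (1 : Γ(G.R, G.s ⁻¹ᵁ V.1)) = 0 := Module.mem_annihilator.mp ha 1
  have h2 : (G.s.app V.1).hom a = 0 := by
    rw [Algebra.smul_def, mul_one] at h1; exact h1
  have hc := Scheme.Hom.congr_app G.e_s V.1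
  rw [Scheme.Hom.comp_app, Scheme.Hom.id_app] at hc
  erw [Category.id_comp] at hc
  have key : ∀ (ρ : Γ(G.U, V.1) ⟶ Γ(G.U, G.e ⁻¹ᵁ G.s ⁻¹ᵁ V.1)) (_ : IsIso ρ),
      G.s.app V.1 ≫ G.e.app (G.s ⁻¹ᵁ V.1) = ρ → a = 0 := by
    intro ρ _ hρ
    have h3 : ρ.hom a = 0 := by
      rw [← hρ]
      simp only [CommRingCat.hom_comp, RingHom.coe_comp, Function.comp_apply, h2, map_zero]
    exact (ConcreteCategory.bijective_of_isIso ρ).1 (h3.trans (map_zero ρ.hom).symm)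
  exact Ideal.mem_bot.mpr (key _ (by apply Functor.map_isIso) hc)

theorem iInter_support : (⋂ r, ((Z G r).support : Set G.U)) = ∅ := by
  rw [Set.eq_empty_iff_forall_notMem]
  intro u hu
  rw [Set.mem_iInter] at hu
  obtain ⟨V, hV, huV, -⟩ := exists_isAffineOpen_mem_and_subset (x := u) (U := ⊤) trivial
  letI := (G.s.app V).hom.toAlgebra
  haveI : Module.Finite Γ(G.U, V) Γ(G.R, G.s ⁻¹ᵁ V) := G.s.finite_app V hV
  obtain ⟨n, x, hx⟩ := Module.Finite.exists_fin (R := Γ(G.U, V)) (M := Γ(G.R, G.s ⁻¹ᵁ V))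
  have htop : (Z G n).ideal ⟨V, hV⟩ = ⊤ := ideal_eq_top_of_span x hx (by simp)
  have := (Scheme.IdealSheafData.mem_support_iff_of_mem (I := Z G n) (U := ⟨V, hV⟩) huV).mp (hu n)
  rw [htop, Scheme.mem_zeroLocus_iff] at this
  exact this 1 trivial (by rw [Scheme.basicOpen_of_isUnit _ isUnit_one]; exact huV)

theorem exists_iso_Z (r : ℕ) :
    ∃ φ : pullback G.s (Z G r).subschemeι ≅ pullback G.t (Z G r).subschemeι,
      φ.hom ≫ pullback.fst G.t (Z G r).subschemeι = pullback.fst G.s (Z G r).subschemeι :=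
  exists_iso_of_comap_eq _ _ _ (Z_comap_eq G r)

theorem isFinLocFreeOfDeg_of_comap {T : Scheme.{u}} (j : T ⟶ G.U) (r : ℕ)
    (hr : (Z G r).comap j = ⊥) (hr1 : (Z G (r + 1)).comap j = ⊤) :
    Mor2.IsFinLocFreeOfDeg (r + 1) (pullback.snd G.s j) := by
  have hcm : ∀ k, fitt (pullback.snd G.s j) k = (Z G k).comap j := fun k =>
    fitt_comap (IsPullback.of_hasPullback G.s j) k
  refine isFinLocFreeOfDeg_of_fitt _ (r + 1) (fun k hk => ?_) (fun k hk => ?_)
  · rw [eq_bot_iff, ← hr, ← hcm r]; exact fitt_mono _ (by omega)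
  · rw [eq_top_iff, ← hr1, ← hcm (r + 1)]; exact fitt_mono _ hk

theorem comap_eq_top_of_forall_notMem {X Y : Scheme.{u}} (I : Y.IdealSheafData) (j : X ⟶ Y)
    (h : ∀ x, j x ∉ I.support) : I.comap j = ⊤ := by
  rw [← Scheme.IdealSheafData.support_eq_bot_iff, Scheme.IdealSheafData.support_comap]
  ext x
  simp only [Closeds.coe_preimage, Set.mem_preimage, SetLike.mem_coe, Closeds.coe_bot,
    Set.mem_empty_iff_false, iff_false]
  exact h x

theorem isFinLocFreeOfDeg_stratum (r : ℕ) :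
    Mor2.IsFinLocFreeOfDeg (r + 1) (pullback.snd G.s
      (((Z G r).subschemeι ⁻¹ᵁ (Z G (r + 1)).support.compl).ι ≫ (Z G r).subschemeι)) := by
  refine isFinLocFreeOfDeg_of_comap G _ r ?_ ?_
  · rw [Scheme.IdealSheafData.comap_comp, comap_subschemeι, Scheme.IdealSheafData.comap_bot]
  · refine comap_eq_top_of_forall_notMem _ _ (fun x => ?_)
    have hx : ((Z G r).subschemeι ⁻¹ᵁ (Z G (r + 1)).support.compl).ι x ∈
        (((Z G r).subschemeι ⁻¹ᵁ (Z G (r + 1)).support.compl : (Z G r).subscheme.Opens) : Set _) := by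
      rw [← Scheme.Opens.range_ι]; exact ⟨x, rfl⟩
    exact hx

theorem main_S7513 [IsFinite G.t] : ∃ Z : ℕ → G.U.IdealSheafData, Z 0 = ⊥ ∧ Monotone Z ∧
    (⋂ r, ((Z r).support : Set G.U)) = ∅ ∧
    (∀ r, ∃ φ : pullback G.s (Z r).subschemeι ≅ pullback G.t (Z r).subschemeι,
      φ.hom ≫ pullback.fst G.t (Z r).subschemeι = pullback.fst G.s (Z r).subschemeι) ∧
    ∀ r, Mor2.IsFinLocFreeOfDeg (r + 1) (pullback.snd G.s
      (((Z r).subschemeι ⁻¹ᵁ (Z (r + 1)).support.compl).ι ≫ (Z r).subschemeι)) :=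
  ⟨Z G, Z_zero G, Z_mono G, iInter_support G, exists_iso_Z G, isFinLocFreeOfDeg_stratum G⟩

end Groth.Agent.H4.FittMor2
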