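import Groth.Prelude.Def_Grpd

set_option autoImplicit false

namespace Groth.Agent.H4.GrpdLib

open CategoryTheory CategoryTheory.Limits AlgebraicGeometry Grpd

universe u

variable {S : Scheme.{u}} (G : Grpd.GroupoidScheme S)

/-- composition of `T`-points -/
noncomputable def comp {T : Scheme.{u}} (α β : T ⟶ G.R) (h : α ≫ G.s = β ≫ G.t) : T ⟶ G.R :=
  pullback.lift α β h ≫ G.c

theorem comp_congr {T : Scheme.{u}} {α α' β β' : T ⟶ G.R} (h : α ≫ G.s = β ≫ G.t)
    (hα : α = α') (hβ : β = β') :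
    comp G α β h = comp G α' β' (by rw [← hα, ← hβ]; exact h) := by
  subst hα hβ
  rfl

@[reassoc]
theorem comp_s {T : Scheme.{u}} (α β : T ⟶ G.R) (h : α ≫ G.s = β ≫ G.t) :
    comp G α β h ≫ G.s = β ≫ G.s := G.comp_s α β h

@[reassoc]
theorem comp_t {T : Scheme.{u}} (α β : T ⟶ G.R) (h : α ≫ G.s = β ≫ G.t) :
    comp G α β h ≫ G.t = α ≫ G.t := G.comp_t α β h

theorem precomp_comp {T T' : Scheme.{u}} (f : T' ⟶ T) (α β : T ⟶ G.R) (h : α ≫ G.s = β ≫ G.t) :
    f ≫ comp G α β h = comp G (f ≫ α) (f ≫ β) (by rw [Category.assoc, Category.assoc, h]) := by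
  unfold comp
  rw [← Category.assoc]
  congr 1
  apply pullback.hom_ext
  · rw [Category.assoc, pullback.lift_fst, pullback.lift_fst]
  · rw [Category.assoc, pullback.lift_snd, pullback.lift_snd]

theorem comp_assoc {T : Scheme.{u}} (α β γ : T ⟶ G.R) (h₁ : α ≫ G.s = β ≫ G.t)
    (h₂ : β ≫ G.s = γ ≫ G.t) :
    comp G (comp G α β h₁) γ ((comp_s G α β h₁).trans h₂) =
      comp G α (comp G β γ h₂) (h₁.trans (comp_t G β γ h₂).symm) :=
  G.assoc α β γ h₁ h₂

theorem comp_e {T : Scheme.{u}} (α : T ⟶ G.R) (ε : T ⟶ G.R) (hε : ε = α ≫ G.s ≫ G.e) :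
    comp G α ε (by rw [hε, Category.assoc, Category.assoc, G.e_t, Category.comp_id]) = α := by
  subst hε
  exact G.comp_e α

theorem e_comp {T : Scheme.{u}} (α : T ⟶ G.R) (ε : T ⟶ G.R) (hε : ε = α ≫ G.t ≫ G.e) :
    comp G ε α (by rw [hε, Category.assoc, Category.assoc, G.e_s, Category.comp_id]) = α := by
  subst hε
  exact G.e_comp α

theorem comp_i {T : Scheme.{u}} (α : T ⟶ G.R) :
    comp G α (α ≫ G.i) (by rw [Category.assoc, G.i_t]) = α ≫ G.t ≫ G.e := G.comp_i α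

theorem i_comp {T : Scheme.{u}} (α : T ⟶ G.R) :
    comp G (α ≫ G.i) α (by rw [Category.assoc, G.i_s]) = α ≫ G.s ≫ G.e := G.i_comp α

theorem c_eq_comp : G.c = comp G (pullback.fst G.s G.t) (pullback.snd G.s G.t) pullback.condition := by
  unfold comp
  have e : pullback.lift (pullback.fst G.s G.t) (pullback.snd G.s G.t) pullback.condition = 𝟙 _ := by
    apply pullback.hom_ext <;> simp
  rw [e, Category.id_comp]

@[reassoc]
theorem c_s : G.c ≫ G.s = pullback.snd G.s G.t ≫ G.s := by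
  rw [c_eq_comp, comp_s]

@[reassoc]
theorem c_t : G.c ≫ G.t = pullback.fst G.s G.t ≫ G.t := by
  rw [c_eq_comp, comp_t]

theorem lift_c {T : Scheme.{u}} (α β : T ⟶ G.R) (h : α ≫ G.s = β ≫ G.t) :
    pullback.lift α β h ≫ G.c = comp G α β h := rfl

/-- `α⁻¹ ∘ (α ∘ β) = β` -/
theorem i_comp_comp {T : Scheme.{u}} (α β : T ⟶ G.R) (h : α ≫ G.s = β ≫ G.t) :
    comp G (α ≫ G.i) (comp G α β h) (by rw [Category.assoc, G.i_s, comp_t]) = β := by
  rw [← comp_assoc G (α ≫ G.i) α β (by rw [Category.assoc, G.i_s]) h]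
  rw [comp_congr G _ (i_comp G α) rfl]
  exact e_comp G β _ (by rw [← Category.assoc, h, Category.assoc])

/-- `α ∘ (α⁻¹ ∘ β) = β` -/
theorem comp_i_comp {T : Scheme.{u}} (α β : T ⟶ G.R) (h : α ≫ G.t = β ≫ G.t) :
    comp G α (comp G (α ≫ G.i) β (by rw [Category.assoc, G.i_s, h]))
      (by rw [comp_t, Category.assoc, G.i_t]) = β := by
  rw [← comp_assoc G α (α ≫ G.i) β (by rw [Category.assoc, G.i_t]) (by rw [Category.assoc, G.i_s, h])]
  rw [comp_congr G _ (comp_i G α) rfl]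
  exact e_comp G β _ (by rw [← Category.assoc, h, Category.assoc])

/-- `(α ∘ β) ∘ β⁻¹ = α` -/
theorem comp_comp_i {T : Scheme.{u}} (α β : T ⟶ G.R) (h : α ≫ G.s = β ≫ G.t) :
    comp G (comp G α β h) (β ≫ G.i) (by rw [comp_s, Category.assoc, G.i_t]) = α := by
  rw [comp_assoc G α β (β ≫ G.i) h (by rw [Category.assoc, G.i_t])]
  rw [comp_congr G _ rfl (comp_i G β)]
  exact comp_e G α _ (by rw [← Category.assoc, ← Category.assoc, h])

/-- `(α ∘ β⁻¹) ∘ β = α` -/
theorem comp_i_comp' {T : Scheme.{u}} (α β : T ⟶ G.R) (h : α ≫ G.s = β ≫ G.s) :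
    comp G (comp G α (β ≫ G.i) (by rw [Category.assoc, G.i_t, h])) β
      (by rw [comp_s, Category.assoc, G.i_s]) = α := by
  rw [comp_assoc G α (β ≫ G.i) β (by rw [Category.assoc, G.i_t, h]) (by rw [Category.assoc, G.i_s])]
  rw [comp_congr G _ rfl (i_comp G β)]
  exact comp_e G α _ (by rw [← Category.assoc, ← Category.assoc, h])

end Groth.Agent.H4.GrpdLib
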