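import Groth.Agent.H4.GrpdLib

set_option autoImplicit false

namespace Groth.Agent.H4.GrpdLib

open CategoryTheory CategoryTheory.Limits AlgebraicGeometry Grpd

universe u

variable {S : Scheme.{u}} (G : Grpd.GroupoidScheme S)

@[reassoc]
theorem j_fst : G.j ≫ pullback.fst G.pU G.pU = G.t := by
  unfold GroupoidScheme.j; rw [pullback.lift_fst]

@[reassoc]
theorem j_snd : G.j ≫ pullback.snd G.pU G.pU = G.s := by
  unfold GroupoidScheme.j; rw [pullback.lift_snd]

@[reassoc]
theorem diag_fst : G.diag ≫ pullback.fst G.pU G.pU = 𝟙 _ := by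
  unfold GroupoidScheme.diag; rw [pullback.lift_fst]

@[reassoc]
theorem diag_snd : G.diag ≫ pullback.snd G.pU G.pU = 𝟙 _ := by
  unfold GroupoidScheme.diag; rw [pullback.lift_snd]

theorem stab_t : pullback.fst G.j G.diag ≫ G.t = pullback.snd G.j G.diag := by
  have := congrArg (fun k => k ≫ pullback.fst G.pU G.pU) (pullback.condition (f := G.j) (g := G.diag))
  simp only [Category.assoc, j_fst, diag_fst, Category.comp_id] at this
  exact this

theorem stab_s : pullback.fst G.j G.diag ≫ G.s = pullback.snd G.j G.diag := by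
  have := congrArg (fun k => k ≫ pullback.snd G.pU G.pU) (pullback.condition (f := G.j) (g := G.diag))
  simp only [Category.assoc, j_snd, diag_snd, Category.comp_id] at this
  exact this

theorem jj_t : pullback.fst G.j G.j ≫ G.t = pullback.snd G.j G.j ≫ G.t := by
  have := congrArg (fun k => k ≫ pullback.fst G.pU G.pU) (pullback.condition (f := G.j) (g := G.j))
  simp only [Category.assoc, j_fst] at this
  exact this

theorem jj_s : pullback.fst G.j G.j ≫ G.s = pullback.snd G.j G.j ≫ G.s := by
  have := congrArg (fun k => k ≫ pullback.snd G.pU G.pU) (pullback.condition (f := G.j) (g := G.j))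
  simp only [Category.assoc, j_snd] at this
  exact this

/-- the stabilizer viewed inside `R` -/
noncomputable def stabFst : G.stabilizer ⟶ G.R := pullback.fst G.j G.diag

@[reassoc]
theorem stabFst_t : stabFst G ≫ G.t = G.stabilizerToU := stab_t G

@[reassoc]
theorem stabFst_s : stabFst G ≫ G.s = G.stabilizerToU := stab_s G

/-- a `T`-point of `R` with equal source and target gives a `T`-point of the stabilizer -/
noncomputable def stabLift {T : Scheme.{u}} (ρ : T ⟶ G.R) (h : ρ ≫ G.t = ρ ≫ G.s) : T ⟶ G.stabilizer :=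
  pullback.lift ρ (ρ ≫ G.t) (by
    apply pullback.hom_ext
    · rw [Category.assoc, Category.assoc, j_fst, Category.assoc, diag_fst, Category.comp_id]
    · rw [Category.assoc, Category.assoc, j_snd, Category.assoc, diag_snd, Category.comp_id, h])

@[reassoc]
theorem stabLift_fst {T : Scheme.{u}} (ρ : T ⟶ G.R) (h : ρ ≫ G.t = ρ ≫ G.s) :
    stabLift G ρ h ≫ stabFst G = ρ := pullback.lift_fst _ _ _

@[reassoc]
theorem stabLift_toU {T : Scheme.{u}} (ρ : T ⟶ G.R) (h : ρ ≫ G.t = ρ ≫ G.s) :
    stabLift G ρ h ≫ G.stabilizerToU = ρ ≫ G.t := pullback.lift_snd _ _ _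

theorem stab_hom_ext {T : Scheme.{u}} (a b : T ⟶ G.stabilizer)
    (h : a ≫ stabFst G = b ≫ stabFst G) : a = b := by
  have h2 : a ≫ G.stabilizerToU = b ≫ G.stabilizerToU := by
    rw [← stabFst_t, ← Category.assoc, h, Category.assoc]
  exact pullback.hom_ext (f := G.j) (g := G.diag) h h2

end Groth.Agent.H4.GrpdLib
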