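import Mathlib
import Groth.Prelude.Def_Grpd
import Groth.Agent.H4.GrpdLib
import Groth.Agent.H4.GrpdLib2

set_option autoImplicit false
universe u
open CategoryTheory CategoryTheory.Limits AlgebraicGeometry
open Grpd

namespace Groth.Agent.H4.GrpdLib10
open Groth.Agent.H4.GrpdLib

theorem exists_compact_open_between {X : Scheme.{u}} {E : Set X} (hE : IsCompact E) (O : X.Opens)
    (h : E ⊆ O) : ∃ V : X.Opens, IsCompact (V : Set X) ∧ E ⊆ V ∧ V ≤ O := by
  have key : ∀ e : E, ∃ V : X.Opens, V ∈ X.affineOpens ∧ (e : X) ∈ V ∧ V ≤ O := by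
    intro e
    obtain ⟨_, ⟨V, hV, rfl⟩, hxV, hVU⟩ :=
      X.isBasis_affineOpens.exists_subset_of_mem_open (h e.2) O.2
    exact ⟨V, hV, hxV, hVU⟩
  choose A hA heA hAO using key
  obtain ⟨t, ht⟩ := hE.elim_nhds_subcover' (fun e he => (A ⟨e, he⟩ : Set X))
    (fun e he => (A ⟨e, he⟩).2.mem_nhds (heA ⟨e, he⟩))
  refine ⟨⨆ e ∈ t, A e, ?_, ?_, ?_⟩
  · have : ((⨆ e ∈ t, A e : X.Opens) : Set X) = ⋃ e ∈ t, (A e : Set X) := by simp
    rw [this]
    exact t.isCompact_biUnion fun e _ => (hA e).isCompact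
  · intro x hx
    have := ht hx
    simp only [Set.mem_iUnion] at this
    obtain ⟨e, he, hxe⟩ := this
    have h2 : A e ≤ ⨆ e ∈ t, A e := le_iSup₂_of_le e he le_rfl
    exact h2 hxe
  · exact iSup₂_le fun e _ => hAO e

/-- points in the closure of the image of a closed set under a quasi-compact morphism are
specializations of points of the image -/
theorem exists_specializes_of_mem_closure_image {X Y : Scheme.{u}} (f : X ⟶ Y) [QuasiCompact f]
    (F : Set X) (hF : IsClosed F) (y : Y) (hy : y ∈ closure (f '' F)) : ∃ x ∈ F, f x ⤳ y := by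
  obtain ⟨_, ⟨Y₀, hY₀, rfl⟩, hyY₀, -⟩ :=
    Y.isBasis_affineOpens.exists_subset_of_mem_open (Set.mem_univ y) isOpen_univ
  have hX₀ : IsCompact ((f ⁻¹ᵁ Y₀ : X.Opens) : Set X) := f.isCompact_preimage hY₀.isCompact
  obtain ⟨R, g, hg⟩ := isCompact_iff_exists.mp hX₀
  have hrange : Set.range ⇑(g ≫ f) ⊆ Set.range ⇑hY₀.fromSpec := by
    rintro _ ⟨q, rfl⟩
    rw [hY₀.range_fromSpec, Scheme.Hom.comp_apply]
    have : g q ∈ ((f ⁻¹ᵁ Y₀ : X.Opens) : Set X) := by rw [← hg]; exact ⟨q, rfl⟩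
    exact this
  let k : Spec R ⟶ Spec Γ(Y, Y₀) := IsOpenImmersion.lift hY₀.fromSpec (g ≫ f) hrange
  have hk : k ≫ hY₀.fromSpec = g ≫ f := IsOpenImmersion.lift_fac _ _ _
  have hk' : ∀ q, hY₀.fromSpec (k q) = f (g q) := by
    intro q
    rw [← Scheme.Hom.comp_apply, hk, Scheme.Hom.comp_apply]
  obtain ⟨y', hy'⟩ : ∃ y', hY₀.fromSpec y' = y := by
    have : y ∈ Set.range ⇑hY₀.fromSpec := by rw [hY₀.range_fromSpec]; exact hyY₀
    exact this
  set F' : Set (Spec R) := g ⁻¹' F with hF'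
  have hF'c : IsClosed F' := hF.preimage g.continuous
  have hy'cl : y' ∈ closure (k '' F') := by
    rw [mem_closure_iff]
    intro O hO hyO
    have hO' : IsOpen (hY₀.fromSpec '' O) := hY₀.fromSpec.isOpenEmbedding.isOpenMap O hO
    obtain ⟨_, ⟨o, ho, rfl⟩, ⟨x, hxF, hx⟩⟩ :=
      (mem_closure_iff.mp hy) _ hO' ⟨y', hyO, hy'⟩
    have hxX₀ : x ∈ ((f ⁻¹ᵁ Y₀ : X.Opens) : Set X) := by
      change f x ∈ (Y₀ : Set Y)
      rw [hx, ← hY₀.range_fromSpec]
      exact ⟨o, rfl⟩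
    rw [← hg] at hxX₀
    obtain ⟨q, rfl⟩ := hxX₀
    refine ⟨k q, ?_, ⟨q, hxF, rfl⟩⟩
    have : hY₀.fromSpec (k q) = hY₀.fromSpec o := by rw [hk', hx]
    rw [hY₀.fromSpec.isOpenEmbedding.injective this]
    exact ho
  -- ring level
  obtain ⟨φ, hφ⟩ : ∃ φ : Γ(Y, Y₀) ⟶ R, Spec.map φ = k := ⟨Spec.preimage k, Spec.map_preimage k⟩
  let I : Ideal R := PrimeSpectrum.vanishingIdeal (F' : Set (PrimeSpectrum R))
  have hI : PrimeSpectrum.zeroLocus (I : Set R) = (F' : Set (PrimeSpectrum R)) := by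
    rw [PrimeSpectrum.zeroLocus_vanishingIdeal_eq_closure]
    exact hF'c.closure_eq
  have hkφ : ∀ q : Spec R, k q = PrimeSpectrum.comap φ.hom q := by
    intro q; rw [← hφ]; rfl
  have hmem : (y' : PrimeSpectrum Γ(Y, Y₀)) ∈ PrimeSpectrum.zeroLocus ((I.comap φ.hom : Ideal _) : Set _) := by
    rw [← PrimeSpectrum.closure_image_comap_zeroLocus, hI]
    have : (PrimeSpectrum.comap φ.hom '' (F' : Set (PrimeSpectrum R))) = k '' F' := by
      ext z
      constructor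
      · rintro ⟨q, hq, rfl⟩; exact ⟨q, hq, hkφ q⟩
      · rintro ⟨q, hq, rfl⟩; exact ⟨q, hq, (hkφ q).symm⟩
    rw [this]
    exact hy'cl
  have hle : I.comap φ.hom ≤ (y' : PrimeSpectrum Γ(Y, Y₀)).asIdeal := hmem
  haveI := (y' : PrimeSpectrum Γ(Y, Y₀)).isPrime
  obtain ⟨p, hp, hpy⟩ := Ideal.exists_minimalPrimes_le hle
  obtain ⟨q', hq', hIq', hq'p⟩ := Ideal.exists_comap_eq_of_mem_minimalPrimes φ.hom p hp
  let q : Spec R := (⟨q', hq'⟩ : PrimeSpectrum R)
  have hqF : q ∈ F' := by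
    have : (⟨q', hq'⟩ : PrimeSpectrum R) ∈ PrimeSpectrum.zeroLocus (I : Set R) := hIq'
    rw [hI] at this
    exact this
  refine ⟨g q, hqF, ?_⟩
  rw [← hk', ← hy']
  refine Specializes.map ?_ hY₀.fromSpec.continuous
  rw [hkφ]
  change (PrimeSpectrum.comap φ.hom ⟨q', hq'⟩ : PrimeSpectrum Γ(Y, Y₀)) ⤳ y'
  rw [← PrimeSpectrum.le_iff_specializes]
  change q'.comap φ.hom ≤ _
  rw [hq'p]
  exact hpy

variable {S : Scheme.{u}} (G : Grpd.GroupoidScheme S)

theorem e_s_apply (x : G.U) : G.s (G.e x) = x := by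
  rw [← Scheme.Hom.comp_apply, G.e_s]; rfl

theorem e_t_apply (x : G.U) : G.t (G.e x) = x := by
  rw [← Scheme.Hom.comp_apply, G.e_t]; rfl

theorem i_s_apply (r : G.R) : G.s (G.i r) = G.t r := by
  rw [← Scheme.Hom.comp_apply, G.i_s]

theorem i_t_apply (r : G.R) : G.t (G.i r) = G.s r := by
  rw [← Scheme.Hom.comp_apply, G.i_t]

/-- composable points compose -/
theorem exists_comp_point (r₁ r₂ : G.R) (h : G.s r₁ = G.t r₂) :
    ∃ r : G.R, G.t r = G.t r₁ ∧ G.s r = G.s r₂ := by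
  obtain ⟨p, hp1, hp2⟩ := Scheme.Pullback.exists_preimage_pullback (f := G.s) (g := G.t) r₁ r₂ h
  refine ⟨G.c p, ?_, ?_⟩
  · rw [← Scheme.Hom.comp_apply, c_t, Scheme.Hom.comp_apply, hp1]
  · rw [← Scheme.Hom.comp_apply, c_s, Scheme.Hom.comp_apply, hp2]

/-- orbits of a set -/
def orb (A : Set G.U) : Set G.U := ⇑G.t '' (⇑G.s ⁻¹' A)

theorem subset_orb (A : Set G.U) : A ⊆ orb G A := fun x hx =>
  ⟨G.e x, by change G.s (G.e x) ∈ A; rw [e_s_apply]; exact hx, e_t_apply G x⟩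

theorem orb_invariant (A : Set G.U) (r : G.R) (h : G.s r ∈ orb G A) : G.t r ∈ orb G A := by
  obtain ⟨r₀, hr₀, hr₀t⟩ := h
  obtain ⟨r', h1, h2⟩ := exists_comp_point G r r₀ hr₀t.symm
  exact ⟨r', by change G.s r' ∈ A; rw [h2]; exact hr₀, h1⟩

theorem orb_invariant' (A : Set G.U) (r : G.R) (h : G.t r ∈ orb G A) : G.s r ∈ orb G A := by
  have := orb_invariant G A (G.i r) (by rw [i_s_apply]; exact h)
  rwa [i_t_apply] at this

theorem main_S1893 [QuasiCompact G.s] [Flat G.s] [QuasiCompact G.t] [Flat G.t]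
    [QuasiSeparatedSpace G.U] (W : G.U.Opens) (hW : IsCompact (W : Set G.U)) :
    ∃ (ι : Type u) (_ : Nonempty ι) (V : ι → G.U.Opens), (∀ i, IsCompact (V i : Set G.U)) ∧
      ⇑G.t '' (⇑G.s ⁻¹' (W : Set G.U)) = ⋂ i, (V i : Set G.U) := by
  set E := ⇑G.t '' (⇑G.s ⁻¹' (W : Set G.U)) with hE
  have hEc : IsCompact E :=
    (QuasiCompact.isCompact_preimage (f := G.s) _ W.2 hW).image G.t.continuous
  have hEg : StableUnderGeneralization E :=
    (W.2.preimage G.s.continuous).stableUnderGeneralization.image (Flat.generalizingMap G.t)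
  obtain ⟨V₀, hV₀c, hV₀E, -⟩ := exists_compact_open_between hEc ⊤ (Set.subset_univ _)
  refine ⟨{V : G.U.Opens // IsCompact (V : Set G.U) ∧ E ⊆ V}, ⟨⟨V₀, hV₀c, hV₀E⟩⟩,
    fun V => V.1, fun V => V.2.1, ?_⟩
  apply Set.Subset.antisymm
  · exact Set.subset_iInter fun V => V.2.2
  · intro x hx
    by_contra hxE
    let O : G.U.Opens := ⟨(closure {x})ᶜ, isClosed_closure.isOpen_compl⟩
    have hEO : E ⊆ O := by
      intro e he hmem
      exact hxE (hEg (specializes_iff_mem_closure.mpr hmem) he)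
    obtain ⟨V, hVc, hVE, hVO⟩ := exists_compact_open_between hEc O hEO
    have := Set.mem_iInter.mp hx ⟨V, hVc, hVE⟩
    exact hVO this (subset_closure rfl)

theorem main_S1894 [QuasiCompact G.s] [Flat G.s] [QuasiCompact G.t] [Flat G.t]
    [QuasiSeparatedSpace G.U] (W : G.U.Opens) (hW : IsCompact (W : Set G.U)) :
    ∃ V W' : G.U.Opens, G.s ⁻¹ᵁ V = G.t ⁻¹ᵁ V ∧ IsCompact (W' : Set G.U) ∧ W ≤ V ∧ V ≤ W' := by
  have hEc : IsCompact (orb G (W : Set G.U)) :=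
    (QuasiCompact.isCompact_preimage (f := G.s) _ W.2 hW).image G.t.continuous
  obtain ⟨W', hW'c, hEW', -⟩ := exists_compact_open_between hEc ⊤ (Set.subset_univ _)
  set C : Set G.U := (W' : Set G.U)ᶜ with hC
  have hCc : IsClosed C := W'.2.isClosed_compl
  set D := orb G C with hD
  have hED : ∀ x, x ∈ orb G (W : Set G.U) → x ∉ D := by
    rintro x hxE ⟨r₂, hr₂, rfl⟩
    have h1 : G.s r₂ ∈ orb G (W : Set G.U) := orb_invariant' G _ r₂ hxE
    exact hr₂ (hEW' h1)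
  have hsp : ∀ x ∈ closure D, ∃ d ∈ D, d ⤳ x := by
    intro x hx
    obtain ⟨r₀, hr₀, hsp⟩ := exists_specializes_of_mem_closure_image G.t (⇑G.s ⁻¹' C)
      (hCc.preimage G.s.continuous) x hx
    exact ⟨G.t r₀, ⟨r₀, hr₀, rfl⟩, hsp⟩
  have hinv : ∀ r : G.R, G.s r ∈ closure D → G.t r ∈ closure D := by
    intro r hr
    obtain ⟨d, hd, hdx⟩ := hsp _ hr
    obtain ⟨r', hr'r, hr'd⟩ := Flat.generalizingMap G.s hdx
    have h1 : G.t r' ∈ D := orb_invariant G C r' (by rw [hr'd]; exact hd)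
    have h2 : G.t r' ⤳ G.t r := hr'r.map G.t.continuous
    exact isClosed_closure.stableUnderSpecialization h2 (subset_closure h1)
  have hinv' : ∀ r : G.R, G.t r ∈ closure D → G.s r ∈ closure D := by
    intro r hr
    have := hinv (G.i r) (by rw [i_s_apply]; exact hr)
    rwa [i_t_apply] at this
  refine ⟨⟨(closure D)ᶜ, isClosed_closure.isOpen_compl⟩, W', ?_, hW'c, ?_, ?_⟩
  · ext r
    change G.s r ∉ closure D ↔ G.t r ∉ closure D
    exact not_congr ⟨hinv r, hinv' r⟩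
  · intro x hxW hxD
    obtain ⟨d, hd, hdx⟩ := hsp x hxD
    have hdW : d ∈ (W : Set G.U) := W.2.stableUnderGeneralization hdx hxW
    exact hED d (subset_orb G _ hdW) hd
  · intro x hx
    by_contra hxW'
    exact hx (subset_closure (subset_orb G C hxW'))

end Groth.Agent.H4.GrpdLib10
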