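import Mathlib

set_option autoImplicit false
universe u
open TensorProduct Polynomial

namespace Groth.Agent.H4.GQ1

/-- A complement of a module `P` to a finite free module. -/
structure Compl (A : Type u) [CommRing A] (P : Type u) [AddCommGroup P] [Module A P] where
  M : Type u
  [instACG : AddCommGroup M]
  [instMod : Module A M]
  n : ℕ
  e : (P × M) ≃ₗ[A] (Fin n → A)

attribute [instance] Compl.instACG Compl.instMod

section Basic

variable {A : Type u} [CommRing A] {P : Type u} [AddCommGroup P] [Module A P]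

/-- finite projective modules have complements -/
theorem exists_compl [Module.Finite A P] [Module.Projective A P] : Nonempty (Compl A P) := by
  obtain ⟨n, f, hf⟩ := Module.Finite.exists_fin' A P
  obtain ⟨s, hs⟩ := Module.projective_lifting_property f LinearMap.id hf
  have hs' : ∀ p, f (s p) = p := fun p => LinearMap.congr_fun hs p
  refine ⟨⟨LinearMap.ker f, n, LinearEquiv.ofLinear
    (LinearMap.coprod s (LinearMap.ker f).subtype)
    (LinearMap.prod f (LinearMap.codRestrict (LinearMap.ker f) (LinearMap.id - s ∘ₗ f) (fun x => by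
        simp [LinearMap.mem_ker, hs']))) ?_ ?_⟩⟩
  · refine LinearMap.ext fun x => ?_
    simp
  · refine LinearMap.ext fun x => ?_
    obtain ⟨p, m⟩ := x
    have hm : f m.1 = 0 := m.2
    refine Prod.ext ?_ (Subtype.ext ?_)
    · simp [hs', hm]
    · simp [hs', hm]

/-- The endomorphism of the free module attached to an endomorphism of `P`. -/
noncomputable def Compl.endo (c : Compl A P) (φ : P →ₗ[A] P) : (Fin c.n → A) →ₗ[A] (Fin c.n → A) :=
  c.e.conj (φ.prodMap (0 : c.M →ₗ[A] c.M))

/-- The "characteristic polynomial" of an endomorphism of `P` relative to a complement. -/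
noncomputable def Compl.cpoly (c : Compl A P) (φ : P →ₗ[A] P) : A[X] := (c.endo φ).charpoly

theorem Compl.cpoly_monic (c : Compl A P) (φ : P →ₗ[A] P) : (c.cpoly φ).Monic :=
  LinearMap.charpoly_monic _

theorem Compl.cpoly_natDegree [Nontrivial A] (c : Compl A P) (φ : P →ₗ[A] P) :
    (c.cpoly φ).natDegree = c.n := by
  rw [Compl.cpoly, LinearMap.charpoly_natDegree]
  simp

/-- Cayley–Hamilton relative to a complement. -/
theorem Compl.aeval_cpoly (c : Compl A P) (φ : P →ₗ[A] P) : aeval φ (c.cpoly φ) = 0 := by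
  have h1 : aeval (c.endo φ) (c.cpoly φ) = 0 := LinearMap.aeval_self_charpoly _
  -- transport back
  have h2 : ∀ (q : A[X]) (x : P × c.M),
      (aeval (c.endo φ) q) (c.e x) = c.e (aeval (φ.prodMap (0 : c.M →ₗ[A] c.M)) q x) := by
    intro q
    induction q using Polynomial.induction_on' with
    | add p q hp hq => intro x; simp [hp, hq]
    | monomial n a =>
      intro x
      simp only [aeval_monomial, Module.End.mul_apply, Module.algebraMap_end_apply]
      induction n generalizing x with
      | zero => simp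
      | succ n ih =>
        rw [pow_succ, Module.End.mul_apply, pow_succ, Module.End.mul_apply]
        have : (c.endo φ) (c.e x) = c.e ((φ.prodMap (0 : c.M →ₗ[A] c.M)) x) := by
          simp [Compl.endo, LinearEquiv.conj_apply]
        rw [this, ih]
  have h3 : ∀ (q : A[X]) (p : P),
      aeval (φ.prodMap (0 : c.M →ₗ[A] c.M)) q (p, 0) = (aeval φ q p, q.coeff 0 • (0 : c.M)) := by
    intro q
    induction q using Polynomial.induction_on' with
    | add p q hp hq => intro x; simp [hp, hq]
    | monomial n a =>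
      intro p
      simp only [aeval_monomial, Module.End.mul_apply, Module.algebraMap_end_apply]
      have hpow : ∀ (k : ℕ) (p : P), ((φ.prodMap (0 : c.M →ₗ[A] c.M)) ^ k) (p, 0) = ((φ ^ k) p, 0) := by
        intro k
        induction k with
        | zero => intro p; simp
        | succ k ih => intro p; rw [pow_succ, Module.End.mul_apply, pow_succ, Module.End.mul_apply]; simp [ih]
      rw [hpow]
      simp
  ext p
  have := h2 (c.cpoly φ) (p, 0)
  rw [h1, LinearMap.zero_apply, h3] at this
  have h4 := c.e.map_eq_zero_iff.mp this.symm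
  simpa using congrArg Prod.fst h4

end Basic

section Transport

variable {A : Type u} [CommRing A] {P P₂ : Type u} [AddCommGroup P] [Module A P]
  [AddCommGroup P₂] [Module A P₂]

/-- Transport a complement along an isomorphism. -/
@[reducible] noncomputable def Compl.transport (c : Compl A P) (θ : P ≃ₗ[A] P₂) : Compl A P₂ where
  M := c.M
  n := c.n
  e := (θ.symm.prodCongr (LinearEquiv.refl A c.M)) ≪≫ₗ c.e

theorem Compl.cpoly_transport (c : Compl A P) (θ : P ≃ₗ[A] P₂) (φ : P →ₗ[A] P)
    (φ₂ : P₂ →ₗ[A] P₂) (h : ∀ p, φ₂ (θ p) = θ (φ p)) :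
    (c.transport θ).cpoly φ₂ = c.cpoly φ := by
  unfold Compl.cpoly
  congr 1
  refine LinearMap.ext fun v => ?_
  simp only [Compl.endo, Compl.transport, LinearEquiv.conj_apply, LinearMap.comp_apply,
    LinearEquiv.coe_coe, LinearEquiv.trans_apply, LinearEquiv.symm_trans_apply]
  congr 1
  obtain ⟨p, m⟩ := c.e.symm v
  simp [h]

end Transport

section BaseChange

variable {A : Type u} [CommRing A] {P : Type u} [AddCommGroup P] [Module A P]
  (A' : Type u) [CommRing A'] [Algebra A A']

/-- Base change of a complement. -/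
@[reducible] noncomputable def Compl.baseChange (c : Compl A P) : Compl A' (A' ⊗[A] P) where
  M := A' ⊗[A] c.M
  n := c.n
  e := (TensorProduct.prodRight A A' A' P c.M).symm ≪≫ₗ (c.e.baseChange A A' _ _) ≪≫ₗ
    (TensorProduct.piScalarRight A A' A' (Fin c.n))

theorem Compl.endo_baseChange (c : Compl A P) (φ : P →ₗ[A] P) :
    (c.baseChange A').endo (φ.baseChange A') =
      (TensorProduct.piScalarRight A A' A' (Fin c.n)).conj ((c.endo φ).baseChange A') := by
  refine LinearMap.ext fun v => ?_
  obtain ⟨w, rfl⟩ := (TensorProduct.piScalarRight A A' A' (Fin c.n)).surjective v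
  simp only [Compl.endo, Compl.baseChange, LinearEquiv.conj_apply, LinearMap.comp_apply,
    LinearEquiv.coe_coe, LinearEquiv.trans_apply, LinearEquiv.symm_trans_apply,
    LinearEquiv.symm_apply_apply, LinearEquiv.symm_symm]
  congr 1
  induction w using TensorProduct.induction_on with
  | zero => simp
  | add x y hx hy => simp only [map_add, hx, hy]
  | tmul a x =>
    obtain ⟨y, rfl⟩ := c.e.surjective x
    obtain ⟨p, m⟩ := y
    have hh : (TensorProduct.prodRight A A' A' P c.M).symm (a ⊗ₜ[A] φ p, 0) = a ⊗ₜ[A] (φ p, (0 : c.M)) := by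
      rw [LinearEquiv.symm_apply_eq]
      simp
    simp [hh]

theorem Compl.cpoly_baseChange (c : Compl A P) (φ : P →ₗ[A] P) :
    (c.baseChange A').cpoly (φ.baseChange A') = (c.cpoly φ).map (algebraMap A A') := by
  unfold Compl.cpoly
  rw [Compl.endo_baseChange, LinearEquiv.charpoly_conj, LinearMap.charpoly_baseChange]

end BaseChange

section CI

variable {A : Type u} [CommRing A] {P : Type u} [AddCommGroup P] [Module A P]

/-- swap the two copies of `P` -/
def swapP (M₁ M₂ : Type u) [AddCommGroup M₁] [Module A M₁] [AddCommGroup M₂] [Module A M₂] :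
    ((P × M₁) × (P × M₂)) ≃ₗ[A] ((P × M₁) × (P × M₂)) where
  toFun x := ((x.2.1, x.1.2), (x.1.1, x.2.2))
  invFun x := ((x.2.1, x.1.2), (x.1.1, x.2.2))
  map_add' x y := rfl
  map_smul' a x := rfl
  left_inv x := rfl
  right_inv x := rfl

/-- Independence of the complement. -/
theorem Compl.cpoly_mul_X_pow (c₁ c₂ : Compl A P) (φ : P →ₗ[A] P) :
    c₁.cpoly φ * X ^ c₂.n = X ^ c₁.n * c₂.cpoly φ := by
  nontriviality A
  let S : ((Fin c₁.n → A) × (Fin c₂.n → A)) ≃ₗ[A] ((Fin c₁.n → A) × (Fin c₂.n → A)) :=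
    (c₁.e.prodCongr c₂.e).symm ≪≫ₗ swapP (A := A) (P := P) c₁.M c₂.M ≪≫ₗ (c₁.e.prodCongr c₂.e)
  have hS : S.conj ((c₁.endo φ).prodMap (0 : (Fin c₂.n → A) →ₗ[A] (Fin c₂.n → A))) =
      (0 : (Fin c₁.n → A) →ₗ[A] (Fin c₁.n → A)).prodMap (c₂.endo φ) := by
    refine LinearMap.ext fun v => ?_
    obtain ⟨v₁, v₂⟩ := v
    obtain ⟨⟨p₁, m₁⟩, rfl⟩ := c₁.e.surjective v₁
    obtain ⟨⟨p₂, m₂⟩, rfl⟩ := c₂.e.surjective v₂
    simp [S, swapP, Compl.endo, LinearEquiv.conj_apply]
  have h1 := LinearEquiv.charpoly_conj S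
    ((c₁.endo φ).prodMap (0 : (Fin c₂.n → A) →ₗ[A] (Fin c₂.n → A)))
  rw [hS, LinearMap.charpoly_prodMap, LinearMap.charpoly_prodMap, LinearMap.charpoly_zero,
    LinearMap.charpoly_zero] at h1
  simp only [Module.finrank_fin_fun] at h1
  exact h1.symm

theorem Compl.cpoly_eq_of_n_eq (c₁ c₂ : Compl A P) (h : c₁.n = c₂.n) (φ : P →ₗ[A] P) :
    c₁.cpoly φ = c₂.cpoly φ := by
  have h1 := Compl.cpoly_mul_X_pow c₁ c₂ φ
  rw [h, mul_comm] at h1
  exact (monic_X_pow c₂.n).isRegular.left h1

end CI

end Groth.Agent.H4.GQ1
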