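import Mathlib
import Groth.Agent.H4.GQ1

set_option autoImplicit false
universe u
open TensorProduct Polynomial CategoryTheory CategoryTheory.Limits

namespace Groth.Agent.H4.GQ2
open Groth.Agent.H4.GQ1

section Square

variable {A A' P P' : Type u} [CommRing A] [CommRing A'] [CommRing P] [CommRing P']
  (g : A →+* A') (σ : A →+* P) (σ' : A' →+* P') (g' : P →+* P')

/-- the tensor product description of a pushout square of commutative rings -/
theorem exists_equiv_of_isPushout
    (hpo : IsPushout (CommRingCat.ofHom g) (CommRingCat.ofHom σ) (CommRingCat.ofHom σ')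
      (CommRingCat.ofHom g')) :
    letI := g.toAlgebra; letI := σ.toAlgebra; letI := σ'.toAlgebra
    ∃ θ : A' ⊗[A] P ≃ₗ[A'] P', ∀ (a : A') (p : P), θ (a ⊗ₜ p) = σ' a * g' p := by
  letI := g.toAlgebra; letI := σ.toAlgebra; letI := σ'.toAlgebra
  letI := g'.toAlgebra
  letI : Algebra A P' := (σ'.comp g).toAlgebra
  haveI : IsScalarTower A A' P' := IsScalarTower.of_algebraMap_eq' rfl
  have hw : σ'.comp g = g'.comp σ := congrArg CommRingCat.Hom.hom hpo.w
  haveI : IsScalarTower A P P' := IsScalarTower.of_algebraMap_eq' hw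
  have h : Algebra.IsPushout A A' P P' := CommRingCat.isPushout_iff_isPushout.mp hpo
  exact ⟨(Algebra.IsPushout.equiv A A' P P').toLinearEquiv,
    fun a p => Algebra.IsPushout.equiv_tmul A A' P P' a p⟩

theorem exists_compl_of_isPushout
    (hpo : IsPushout (CommRingCat.ofHom g) (CommRingCat.ofHom σ) (CommRingCat.ofHom σ')
      (CommRingCat.ofHom g')) :
    letI := σ.toAlgebra; letI := σ'.toAlgebra
    ∀ c : Compl A P, ∃ c' : Compl A' P', c'.n = c.n := by
  letI := g.toAlgebra; letI := σ.toAlgebra; letI := σ'.toAlgebra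
  obtain ⟨θ, hθ⟩ := exists_equiv_of_isPushout g σ σ' g' hpo
  intro c
  exact ⟨(c.baseChange A').transport θ, rfl⟩

theorem cpoly_of_isPushout
    (hpo : IsPushout (CommRingCat.ofHom g) (CommRingCat.ofHom σ) (CommRingCat.ofHom σ')
      (CommRingCat.ofHom g')) :
    letI := σ.toAlgebra; letI := σ'.toAlgebra
    ∀ (c : Compl A P) (c' : Compl A' P') (_ : c'.n = c.n) (x : P),
      c'.cpoly (Algebra.lmul A' P' (g' x)) = (c.cpoly (Algebra.lmul A P x)).map g := by
  letI := g.toAlgebra; letI := σ.toAlgebra; letI := σ'.toAlgebra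
  obtain ⟨θ, hθ⟩ := exists_equiv_of_isPushout g σ σ' g' hpo
  intro c c' hn x
  rw [Compl.cpoly_eq_of_n_eq c' ((c.baseChange A').transport θ) hn]
  rw [Compl.cpoly_transport (c.baseChange A') θ ((Algebra.lmul A P x).baseChange A') _ ?_]
  · exact Compl.cpoly_baseChange A' c _
  · intro z
    induction z using TensorProduct.induction_on with
    | zero => simp
    | add z w hz hw => simp only [map_add, hz, hw]
    | tmul a p =>
      rw [LinearMap.baseChange_tmul, hθ, hθ]
      change g' x * (σ' a * g' p) = σ' a * g' (x * p)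
      rw [map_mul]; ring

theorem exists_basis_of_isPushout
    (hpo : IsPushout (CommRingCat.ofHom g) (CommRingCat.ofHom σ) (CommRingCat.ofHom σ')
      (CommRingCat.ofHom g')) :
    letI := σ.toAlgebra; letI := σ'.toAlgebra
    ∀ {I : Type u} (b : Module.Basis I A P), ∃ b' : Module.Basis I A' P', ∀ i, b' i = g' (b i) := by
  letI := g.toAlgebra; letI := σ.toAlgebra; letI := σ'.toAlgebra
  obtain ⟨θ, hθ⟩ := exists_equiv_of_isPushout g σ σ' g' hpo
  intro I b
  refine ⟨(Algebra.TensorProduct.basis A' b).map θ, fun i => ?_⟩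
  simp [hθ]

end Square

/-- A complement from an isomorphism with a finite free module. -/
noncomputable def Compl.ofEquiv {A : Type u} [CommRing A] {P : Type u} [AddCommGroup P] [Module A P]
    {n : ℕ} (e' : P ≃ₗ[A] (Fin n → A)) : Compl A P where
  M := PUnit.{u+1}
  n := n
  e := (LinearEquiv.prodUnique (R := A) (M := P) (M₂ := PUnit.{u+1})) ≪≫ₗ e'

theorem Compl.cpoly_ofEquiv {A : Type u} [CommRing A] {P : Type u} [AddCommGroup P] [Module A P]
    [Module.Free A P] [Module.Finite A P]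
    {n : ℕ} (e' : P ≃ₗ[A] (Fin n → A)) (φ : P →ₗ[A] P) :
    (Compl.ofEquiv e').cpoly φ = φ.charpoly := by
  have : (Compl.ofEquiv e').endo φ = e'.conj φ := by
    refine LinearMap.ext fun v => ?_
    change (LinearEquiv.prodUnique.trans e') ((φ.prodMap (0 : PUnit.{u+1} →ₗ[A] PUnit.{u+1}))
      ((LinearEquiv.prodUnique.trans e').symm v)) = e' (φ (e'.symm v))
    simp
  rw [Compl.cpoly, this]
  exact LinearEquiv.charpoly_conj e' φ

/-- Ring level data of an affine groupoid scheme. -/
structure RG (A B Q : Type u) [CommRing A] [CommRing B] [CommRing Q] where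
  σ : A →+* B
  τ : A →+* B
  ε : B →+* A
  π₀ : B →+* Q
  π₁ : B →+* Q
  γ : B →+* Q
  εσ : ∀ a, ε (σ a) = a
  ετ : ∀ a, ε (τ a) = a
  γτ : ∀ a, γ (τ a) = π₀ (τ a)
  po1 : IsPushout (CommRingCat.ofHom τ) (CommRingCat.ofHom σ) (CommRingCat.ofHom π₁)
    (CommRingCat.ofHom π₀)
  po2 : IsPushout (CommRingCat.ofHom σ) (CommRingCat.ofHom σ) (CommRingCat.ofHom π₁)
    (CommRingCat.ofHom γ)

namespace RG

variable {A B Q : Type u} [CommRing A] [CommRing B] [CommRing Q] (r : RG A B Q)

/-- invariants -/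
def C : Subring A := RingHom.eqLocus r.σ r.τ

theorem mem_C {a : A} : a ∈ r.C ↔ r.σ a = r.τ a := Iff.rfl

theorem π₀σ (a : A) : r.π₀ (r.σ a) = r.π₁ (r.τ a) := by
  have hw : r.π₁.comp r.τ = r.π₀.comp r.σ := congrArg CommRingCat.Hom.hom r.po1.w
  exact (RingHom.congr_fun hw a).symm

theorem γσ (a : A) : r.γ (r.σ a) = r.π₁ (r.σ a) := by
  have hw : r.π₁.comp r.σ = r.γ.comp r.σ := congrArg CommRingCat.Hom.hom r.po2.w
  exact (RingHom.congr_fun hw a).symm

theorem coeff_mem :
    letI := r.σ.toAlgebra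
    ∀ (c : Compl A B) (f : A) (k : ℕ), (c.cpoly (Algebra.lmul A B (r.τ f))).coeff k ∈ r.C := by
  letI := r.σ.toAlgebra
  intro c f k
  obtain ⟨c', hc'⟩ := exists_compl_of_isPushout r.σ r.σ r.π₁ r.γ r.po2 c
  have h2 := cpoly_of_isPushout r.σ r.σ r.π₁ r.γ r.po2 c c' hc' (r.τ f)
  have h1 := cpoly_of_isPushout r.τ r.σ r.π₁ r.π₀ r.po1 c c' hc' (r.τ f)
  rw [r.γτ] at h2
  have h3 := h2.symm.trans h1
  have := congrArg (fun q => Polynomial.coeff q k) h3
  refine r.mem_C.mpr ?_
  simpa [Polynomial.coeff_map] using this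

theorem isIntegral
    (hfin : letI := r.σ.toAlgebra; Module.Finite A B)
    (hproj : letI := r.σ.toAlgebra; Module.Projective A B) (f : A) : IsIntegral r.C f := by
  letI := r.σ.toAlgebra
  obtain ⟨c⟩ := exists_compl (A := A) (P := B)
  set χ := c.cpoly (Algebra.lmul A B (r.τ f)) with hχ
  have hcoef : ∀ k, χ.coeff k ∈ r.C := fun k => r.coeff_mem c f k
  have hmonic : χ.Monic := c.cpoly_monic _
  have h0 : aeval (r.τ f) χ = 0 := by
    have h1 := c.aeval_cpoly (Algebra.lmul A B (r.τ f))
    rw [← hχ, Polynomial.aeval_algHom_apply] at h1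
    have := congrArg (fun (φ : Module.End A B) => φ 1) h1
    simpa using this
  have h1 : r.τ (χ.eval f) = 0 := by
    rw [← h0, Polynomial.aeval_def, ← Polynomial.eval_map]
    have : χ.map (algebraMap A B) = χ.map r.τ := Polynomial.ext fun k => by
      rw [Polynomial.coeff_map, Polynomial.coeff_map]
      exact hcoef k
    rw [this, Polynomial.eval_map, Polynomial.eval₂_at_apply]
  have h2 : χ.eval f = 0 := by
    have := congrArg r.ε h1
    simpa [r.ετ] using this
  have hsub : (↑χ.coeffs : Set A) ⊆ r.C := by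
    intro a ha
    obtain ⟨n, -, rfl⟩ := Polynomial.mem_coeffs_iff.mp ha
    exact hcoef n
  refine ⟨χ.toSubring r.C hsub, (Polynomial.monic_toSubring _ _ _).mpr hmonic, ?_⟩
  have : Polynomial.eval₂ (algebraMap r.C A) f (χ.toSubring r.C hsub) =
      Polynomial.eval f ((χ.toSubring r.C hsub).map r.C.subtype) := by
    rw [Polynomial.eval_map]; rfl
  rw [this, Polynomial.map_toSubring, h2]

theorem norm_mem :
    letI := r.σ.toAlgebra
    ∀ f : A, Algebra.norm A (r.τ f) ∈ r.C := by
  letI := r.σ.toAlgebra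
  intro f
  by_cases h : ∃ s : Finset B, Nonempty (Module.Basis s A B)
  · obtain ⟨s, ⟨b⟩⟩ := h
    haveI : Module.Free A B := Module.Free.of_basis b
    haveI : Module.Finite A B := Module.Finite.of_basis b
    let e' : B ≃ₗ[A] (Fin (Fintype.card s) → A) := (b.reindex (Fintype.equivFin s)).equivFun
    have h1 := r.coeff_mem (Compl.ofEquiv e') f 0
    rw [Compl.cpoly_ofEquiv] at h1
    rw [Algebra.norm_apply, LinearMap.det_eq_sign_charpoly_coeff]
    exact Subring.mul_mem _ (Subring.pow_mem _ (Subring.neg_mem _ (Subring.one_mem _)) _) h1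
  · rw [Algebra.norm_eq_one_of_not_exists_basis _ h]
    exact Subring.one_mem _

end RG

end Groth.Agent.H4.GQ2
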