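import Mathlib
import Groth.Agent.H4.GQ2

set_option autoImplicit false
universe u
open TensorProduct Polynomial CategoryTheory CategoryTheory.Limits

namespace Groth.Agent.H4.GQ5
open Groth.Agent.H4.GQ1 Groth.Agent.H4.GQ2

section Nrm

variable {A : Type u} [CommRing A] {P : Type u} [AddCommGroup P] [Module A P]

/-- `φ ⊕ id` on the ambient free module -/
noncomputable def _root_.Groth.Agent.H4.GQ1.Compl.dmap (c : Compl A P) (φ : P →ₗ[A] P) :
    (Fin c.n → A) →ₗ[A] (Fin c.n → A) :=
  c.e.conj (φ.prodMap (LinearMap.id : c.M →ₗ[A] c.M))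

/-- the determinant of `φ ⊕ id` -/
noncomputable def _root_.Groth.Agent.H4.GQ1.Compl.nrm (c : Compl A P) (φ : P →ₗ[A] P) : A := LinearMap.det (c.dmap φ)

theorem _root_.Groth.Agent.H4.GQ1.Compl.dmap_apply (c : Compl A P) (φ : P →ₗ[A] P) (p : P) (m : c.M) :
    c.dmap φ (c.e (p, m)) = c.e (φ p, m) := by
  simp [Compl.dmap, LinearEquiv.conj_apply]

theorem _root_.Groth.Agent.H4.GQ1.Compl.endo_apply (c : Compl A P) (φ : P →ₗ[A] P) (p : P) (m : c.M) :
    c.endo φ (c.e (p, m)) = c.e (φ p, 0) := by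
  simp [Compl.endo, LinearEquiv.conj_apply]

theorem _root_.Groth.Agent.H4.GQ1.Compl.endo_add (c : Compl A P) (φ ψ : P →ₗ[A] P) :
    c.endo (φ + ψ) = c.endo φ + c.endo ψ := by
  refine LinearMap.ext fun v => ?_
  obtain ⟨⟨p, m⟩, rfl⟩ := c.e.surjective v
  rw [LinearMap.add_apply, c.endo_apply, c.endo_apply, c.endo_apply, ← map_add]
  simp

theorem _root_.Groth.Agent.H4.GQ1.Compl.endo_comp (c : Compl A P) (φ ψ : P →ₗ[A] P) :
    c.endo (φ ∘ₗ ψ) = c.endo φ ∘ₗ c.endo ψ := by
  refine LinearMap.ext fun v => ?_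
  obtain ⟨⟨p, m⟩, rfl⟩ := c.e.surjective v
  rw [LinearMap.comp_apply, c.endo_apply, c.endo_apply, c.endo_apply]
  simp

theorem _root_.Groth.Agent.H4.GQ1.Compl.endo_smul (c : Compl A P) (a : A) (φ : P →ₗ[A] P) :
    c.endo (a • φ) = a • c.endo φ := by
  refine LinearMap.ext fun v => ?_
  obtain ⟨⟨p, m⟩, rfl⟩ := c.e.surjective v
  rw [LinearMap.smul_apply, c.endo_apply, c.endo_apply, ← map_smul]
  simp

theorem _root_.Groth.Agent.H4.GQ1.Compl.endo_zero (c : Compl A P) : c.endo (0 : P →ₗ[A] P) = 0 := by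
  refine LinearMap.ext fun v => ?_
  obtain ⟨⟨p, m⟩, rfl⟩ := c.e.surjective v
  rw [c.endo_apply]
  simp

theorem _root_.Groth.Agent.H4.GQ1.Compl.dmap_eq (c : Compl A P) (φ : P →ₗ[A] P) : c.dmap φ = c.endo (φ - 1) + 1 := by
  refine LinearMap.ext fun v => ?_
  obtain ⟨⟨p, m⟩, rfl⟩ := c.e.surjective v
  rw [LinearMap.add_apply, c.dmap_apply, c.endo_apply, Module.End.one_apply, ← map_add]
  simp

theorem _root_.Groth.Agent.H4.GQ1.Compl.nrm_eq (c : Compl A P) (φ : P →ₗ[A] P) :
    c.nrm φ = (-1) ^ c.n * (c.cpoly (φ - 1)).eval (-1) := by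
  nontriviality A
  rw [Compl.cpoly, LinearMap.eval_charpoly, Compl.nrm, c.dmap_eq]
  have : (algebraMap A (Module.End A (Fin c.n → A)) (-1) - c.endo (φ - 1)) =
      (-1 : A) • (c.endo (φ - 1) + 1) := by
    refine LinearMap.ext fun v => ?_
    ext i
    simp [Algebra.algebraMap_eq_smul_one]
    ring
  rw [this, LinearMap.det_smul, Module.finrank_fin_fun, ← mul_assoc, ← mul_pow]
  simp

end Nrm

section AlgNrm

variable {A B : Type u} [CommRing A] [CommRing B] [Algebra A B]

theorem exists_mul_eq_nrm (c : Compl A B) (h : B) :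
    ∃ b : B, h * b = algebraMap A B (c.nrm (Algebra.lmul A B h)) := by
  classical
  set D := c.dmap (Algebra.lmul A B h) with hD
  let Mx := LinearMap.toMatrix' D
  let E := Matrix.toLin' (Matrix.adjugate Mx)
  have hDE : D ∘ₗ E = (LinearMap.det D) • LinearMap.id := by
    have h1 : D = Matrix.toLin' Mx := (Matrix.toLin'_toMatrix' D).symm
    conv_lhs => rw [h1]
    rw [← Matrix.toLin'_mul, Matrix.mul_adjugate, map_smul, Matrix.toLin'_one,
      LinearMap.det_toMatrix']
  obtain ⟨⟨b, m⟩, hw⟩ := c.e.surjective (E (c.e (1, 0)))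
  refine ⟨b, ?_⟩
  have h2 : D (E (c.e (1, 0))) = LinearMap.det D • c.e (1, 0) := by
    have := LinearMap.congr_fun hDE (c.e (1, 0))
    simpa using this
  rw [← hw, hD, c.dmap_apply, ← map_smul] at h2
  have h3 := congrArg Prod.fst (c.e.injective h2)
  simp only [Prod.smul_fst] at h3
  rw [Compl.nrm, ← hD, Algebra.algebraMap_eq_smul_one, ← h3]
  simp

/-- elements of `B` whose multiplication has matrix entries in `p` -/
def _root_.Groth.Agent.H4.GQ1.Compl.entryIdeal (c : Compl A B) (p : Ideal A) : Ideal B where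
  carrier := {z | ∀ i j, LinearMap.toMatrix' (c.endo (Algebra.lmul A B z)) i j ∈ p}
  zero_mem' := by
    intro i j
    rw [map_zero, c.endo_zero, map_zero]
    exact p.zero_mem
  add_mem' := by
    intro z w hz hw i j
    rw [map_add, c.endo_add, map_add]
    exact p.add_mem (hz i j) (hw i j)
  smul_mem' := by
    intro b z hz i j
    have : Algebra.lmul A B (b • z) = Algebra.lmul A B b ∘ₗ Algebra.lmul A B z := by
      rw [smul_eq_mul, map_mul]; rfl
    rw [this, c.endo_comp, LinearMap.toMatrix'_comp, Matrix.mul_apply]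
    exact p.sum_mem fun k _ => p.mul_mem_left _ (hz k j)

theorem _root_.Groth.Agent.H4.GQ1.Compl.map_le_entryIdeal (c : Compl A B) (p : Ideal A) :
    p.map (algebraMap A B) ≤ c.entryIdeal p := by
  rw [Ideal.map_le_iff_le_comap]
  intro a ha i j
  have : Algebra.lmul A B (algebraMap A B a) = a • (1 : Module.End A B) := by
    refine LinearMap.ext fun x => ?_
    simp [Algebra.smul_def]
  rw [this, c.endo_smul, map_smul, Matrix.smul_apply, smul_eq_mul]
  exact p.mul_mem_right _ ha

theorem exists_prime_of_nrm_mem (c : Compl A B) (h : B) (p : Ideal A) [hp : p.IsPrime]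
    (hmem : c.nrm (Algebra.lmul A B h) ∈ p) :
    ∃ q : Ideal B, q.IsPrime ∧ q.comap (algebraMap A B) = p ∧ h ∈ q := by
  classical
  set J : Ideal B := Ideal.span {h} ⊔ p.map (algebraMap A B) with hJ
  set S : Submonoid B := p.primeCompl.map (algebraMap A B) with hS
  have hdisj : Disjoint (J : Set B) (S : Set B) := by
    rw [Set.disjoint_left]
    rintro y hyJ ⟨s, hs, rfl⟩
    obtain ⟨y1, hy1, z, hz, hyz⟩ := Submodule.mem_sup.mp hyJ
    obtain ⟨b, rfl⟩ := Ideal.mem_span_singleton'.mp hy1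
    have hzE := c.map_le_entryIdeal p hz
    set D := c.dmap (Algebra.lmul A B h) with hD
    let E := c.e.conj ((Algebra.lmul A B b).prodMap (s • (LinearMap.id : c.M →ₗ[A] c.M)))
    set Z := c.endo (Algebra.lmul A B z) with hZ
    have hDE : D ∘ₗ E = s • (1 : Module.End A (Fin c.n → A)) - Z := by
      refine LinearMap.ext fun v => ?_
      obtain ⟨⟨x, m⟩, rfl⟩ := c.e.surjective v
      have hE : E (c.e (x, m)) = c.e (b * x, s • m) := by
        simp [E, LinearEquiv.conj_apply]
      rw [LinearMap.comp_apply, hE, hD, c.dmap_apply, LinearMap.sub_apply, LinearMap.smul_apply,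
        Module.End.one_apply, hZ, c.endo_apply, ← map_smul, ← map_sub]
      congr 1
      refine Prod.ext ?_ ?_
      · have : s • x = (b * h + z) * x := by rw [hyz, Algebra.smul_def]
        simp only [Prod.smul_fst, Prod.fst_sub]
        rw [this]
        simp
        ring
      · simp
    have hdet : LinearMap.det D * LinearMap.det E =
        LinearMap.det (s • (1 : Module.End A (Fin c.n → A)) - Z) := by
      rw [← hDE, ← LinearMap.det_comp]
    have hmod : Ideal.Quotient.mk p (LinearMap.det (s • (1 : Module.End A (Fin c.n → A)) - Z)) =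
        (Ideal.Quotient.mk p s) ^ c.n := by
      rw [← LinearMap.det_toMatrix', RingHom.map_det]
      have : (Ideal.Quotient.mk p).mapMatrix
          (LinearMap.toMatrix' (s • (1 : Module.End A (Fin c.n → A)) - Z)) =
          (Ideal.Quotient.mk p s) • (1 : Matrix (Fin c.n) (Fin c.n) (A ⧸ p)) := by
        ext i j
        have hz0 : Ideal.Quotient.mk p (LinearMap.toMatrix' Z i j) = 0 :=
          Ideal.Quotient.eq_zero_iff_mem.mpr (hzE i j)
        rw [RingHom.mapMatrix_apply, Matrix.map_apply, map_sub, Matrix.sub_apply, map_sub, hz0,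
          sub_zero, map_smul, Matrix.smul_apply, Module.End.one_eq_id, LinearMap.toMatrix'_id,
          Matrix.smul_apply]
        by_cases hij : i = j
        · subst hij; simp
        · simp [hij]
      rw [this, Matrix.det_smul, Matrix.det_one, mul_one, Fintype.card_fin]
    have h0 : Ideal.Quotient.mk p (LinearMap.det D) = 0 :=
      Ideal.Quotient.eq_zero_iff_mem.mpr hmem
    have h1 := congrArg (Ideal.Quotient.mk p) hdet
    rw [map_mul, h0, zero_mul, hmod, ← map_pow] at h1
    have h2 : s ^ c.n ∈ p := Ideal.Quotient.eq_zero_iff_mem.mp h1.symm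
    exact hs (hp.mem_of_pow_mem _ h2)
  obtain ⟨q, hq, hJq, hqS⟩ := Ideal.exists_le_prime_disjoint J S hdisj
  refine ⟨q, hq, le_antisymm ?_ ?_, hJq (Ideal.mem_sup_left (Ideal.subset_span rfl))⟩
  · intro a ha
    by_contra hap
    exact Set.disjoint_left.mp hqS ha ⟨a, hap, rfl⟩
  · intro a ha
    exact hJq (Ideal.mem_sup_right (Ideal.mem_map_of_mem _ ha))

end AlgNrm

end Groth.Agent.H4.GQ5
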