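import Mathlib
import Groth.Prelude.Def_Grpd
import Groth.Agent.H4.GrpdLib
import Groth.Agent.H4.GrpdLib10
import Groth.Agent.H4.GQ5

set_option autoImplicit false
universe u
open CategoryTheory CategoryTheory.Limits AlgebraicGeometry
open Grpd

namespace Groth.Agent.H4.GrpdLib14
open Groth.Agent.H4.GrpdLib Groth.Agent.H4.GrpdLib10 Groth.Agent.H4.GQ1 Groth.Agent.H4.GQ5

section Affine

variable {X : Scheme.{u}} {U : X.Opens} (hU : IsAffineOpen U)

include hU in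
theorem mem_basicOpen_iff (a : Γ(X, U)) (x : X) (hx : x ∈ U) :
    x ∈ X.basicOpen a ↔ a ∉ (hU.primeIdealOf ⟨x, hx⟩).asIdeal := by
  have h1 : hU.fromSpec (hU.primeIdealOf ⟨x, hx⟩) = x := hU.fromSpec_primeIdealOf ⟨x, hx⟩
  have h2 := hU.fromSpec_preimage_basicOpen a
  constructor
  · intro hxa
    have h3 : hU.primeIdealOf ⟨x, hx⟩ ∈ hU.fromSpec ⁻¹ᵁ X.basicOpen a := by
      show hU.fromSpec (hU.primeIdealOf ⟨x, hx⟩) ∈ X.basicOpen a
      rw [h1]; exact hxa
    rw [h2] at h3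
    exact (PrimeSpectrum.mem_basicOpen _ _).mp h3
  · intro hna
    have h3 : hU.primeIdealOf ⟨x, hx⟩ ∈ hU.fromSpec ⁻¹ᵁ X.basicOpen a := by
      rw [h2]; exact (PrimeSpectrum.mem_basicOpen _ _).mpr hna
    have h4 : hU.fromSpec (hU.primeIdealOf ⟨x, hx⟩) ∈ X.basicOpen a := h3
    rwa [h1] at h4

include hU in
theorem fromSpec_mem (P : Spec Γ(X, U)) : hU.fromSpec P ∈ U := by
  have : hU.fromSpec P ∈ (U : Set X) := by
    rw [← hU.range_fromSpec]; exact ⟨P, rfl⟩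
  exact this

include hU in
theorem primeIdealOf_fromSpec (P : Spec Γ(X, U)) :
    hU.primeIdealOf ⟨hU.fromSpec P, fromSpec_mem hU P⟩ = P := by
  apply hU.fromSpec.isOpenEmbedding.injective
  exact hU.fromSpec_primeIdealOf ⟨_, fromSpec_mem hU P⟩

end Affine

/-- ring level: the norm detects the primes over which `h` vanishes somewhere -/
theorem exists_norm_elt {A B : Type u} [CommRing A] [CommRing B] [Algebra A B] [Module.Finite A B]
    [Module.Projective A B] (h : B) :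
    ∃ g : A, ∀ p : Ideal A, p.IsPrime →
      (g ∈ p ↔ ∃ q : Ideal B, q.IsPrime ∧ q.comap (algebraMap A B) = p ∧ h ∈ q) := by
  obtain ⟨c⟩ := exists_compl (A := A) (P := B)
  obtain ⟨b, hb⟩ := exists_mul_eq_nrm c h
  refine ⟨c.nrm (Algebra.lmul A B h), fun p hp => ⟨fun hg => ?_, ?_⟩⟩
  · haveI := hp
    exact exists_prime_of_nrm_mem c h p hg
  · rintro ⟨q, hq, rfl, hhq⟩
    show algebraMap A B _ ∈ q
    rw [← hb]
    exact q.mul_mem_right _ hhq

theorem exists_norm_section {R U : Scheme.{u}} (π : R ⟶ U) [IsFinite π] [Flat π]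
    [LocallyOfFinitePresentation π] (D : U.Opens) (hD : IsAffineOpen D) (h : Γ(R, π ⁻¹ᵁ D)) :
    ∃ g : Γ(U, D), ∀ x : U, x ∈ D →
      (x ∈ U.basicOpen g ↔ ∀ y : R, π y = x → y ∈ R.basicOpen h) := by
  have hY : IsAffineOpen (π ⁻¹ᵁ D) := hD.preimage π
  letI : Algebra Γ(U, D) Γ(R, π ⁻¹ᵁ D) := (π.app D).hom.toAlgebra
  haveI : Module.Finite Γ(U, D) Γ(R, π ⁻¹ᵁ D) := π.finite_app D hD
  haveI : Module.Flat Γ(U, D) Γ(R, π ⁻¹ᵁ D) := by
    have := π.flat_appLE hD hY le_rfl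
    rw [Scheme.Hom.appLE_eq_app] at this
    exact this
  haveI : Algebra.FinitePresentation Γ(U, D) Γ(R, π ⁻¹ᵁ D) := by
    have := π.finitePresentation_appLE hD hY le_rfl
    rw [Scheme.Hom.appLE_eq_app] at this
    exact this
  haveI : Module.FinitePresentation Γ(U, D) Γ(R, π ⁻¹ᵁ D) :=
    Module.FinitePresentation.of_finite_of_finitePresentation _ _
  haveI : Module.Projective Γ(U, D) Γ(R, π ⁻¹ᵁ D) := Module.Flat.projective_of_finitePresentation
  obtain ⟨g, hg⟩ := exists_norm_elt (A := Γ(U, D)) (B := Γ(R, π ⁻¹ᵁ D)) h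
  have hcomap : ∀ (y : R) (hy : y ∈ π ⁻¹ᵁ D),
      (hY.primeIdealOf ⟨y, hy⟩).asIdeal.comap (algebraMap Γ(U, D) Γ(R, π ⁻¹ᵁ D)) =
        (hD.primeIdealOf ⟨π y, hy⟩).asIdeal := by
    intro y hy
    have h1 := IsAffineOpen.comap_primeIdealOf_appLE D hD (π ⁻¹ᵁ D) hY le_rfl hy
    have h2 := congrArg PrimeSpectrum.asIdeal h1
    rw [Scheme.Hom.appLE_eq_app] at h2
    exact h2
  refine ⟨g, fun x hx => ⟨fun hxg y hy => ?_, fun hall => ?_⟩⟩
  · subst hy
    have hyY : y ∈ π ⁻¹ᵁ D := hx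
    rw [mem_basicOpen_iff hY h y hyY]
    intro hmem
    apply (mem_basicOpen_iff hD g (π y) hx).mp hxg
    rw [hg _ (hD.primeIdealOf ⟨π y, hx⟩).isPrime]
    exact ⟨_, (hY.primeIdealOf ⟨y, hyY⟩).isPrime, hcomap y hyY, hmem⟩
  · rw [mem_basicOpen_iff hD g x hx]
    intro hmem
    obtain ⟨q, hq, hqp, hhq⟩ := (hg _ (hD.primeIdealOf ⟨x, hx⟩).isPrime).mp hmem
    let Q : Spec Γ(R, π ⁻¹ᵁ D) := ⟨q, hq⟩
    have hyY : hY.fromSpec Q ∈ π ⁻¹ᵁ D := fromSpec_mem hY Q
    have hQ : hY.primeIdealOf ⟨hY.fromSpec Q, hyY⟩ = Q := primeIdealOf_fromSpec hY Q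
    have h1 := hcomap (hY.fromSpec Q) hyY
    rw [hQ] at h1
    have h2 : hD.primeIdealOf ⟨π (hY.fromSpec Q), hyY⟩ = hD.primeIdealOf ⟨x, hx⟩ := by
      apply PrimeSpectrum.ext
      rw [← h1]
      exact hqp
    have h3 : π (hY.fromSpec Q) = x := by
      have e1 := hD.fromSpec_primeIdealOf ⟨π (hY.fromSpec Q), hyY⟩
      have e2 := hD.fromSpec_primeIdealOf ⟨x, hx⟩
      rw [h2] at e1
      exact e1.symm.trans e2
    have h4 := hall (hY.fromSpec Q) h3
    rw [mem_basicOpen_iff hY h _ hyY, hQ] at h4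
    exact h4 hhq

variable {S : Scheme.{u}} (G : Grpd.GroupoidScheme S)

/-- the points all of whose translates lie in `O` -/
def core (O : Set G.U) : Set G.U := {x | ∀ r : G.R, G.s r = x → G.t r ∈ O}

theorem core_subset (O : Set G.U) : core G O ⊆ O := by
  intro x hx
  have := hx (G.e x) (e_s_apply G x)
  rwa [e_t_apply] at this

theorem core_invariant (O : Set G.U) (r : G.R) : G.s r ∈ core G O ↔ G.t r ∈ core G O := by
  constructor
  · intro hs r' hr'
    obtain ⟨r'', h1, h2⟩ := exists_comp_point G r' r hr'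
    rw [← h1]
    exact hs r'' h2
  · intro ht r' hr'
    obtain ⟨r'', h1, h2⟩ := exists_comp_point G r' (G.i r) (by rw [i_t_apply, hr'])
    rw [← h1]
    exact ht r'' (by rw [h2, i_s_apply])

theorem isOpen_core [IsFinite G.s] (O : Set G.U) (hO : IsOpen O) : IsOpen (core G O) := by
  have : core G O = (⇑G.s '' (⇑G.t ⁻¹' Oᶜ))ᶜ := by
    ext x
    simp only [core, Set.mem_setOf_eq, Set.mem_compl_iff, Set.mem_image, Set.mem_preimage,
      not_exists, not_and]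
    constructor
    · intro h r hr hs
      exact hr (h r hs)
    · intro h r hs
      by_contra hr
      exact h r hr hs
  rw [this, isOpen_compl_iff]
  exact G.s.isClosedMap _ (hO.isClosed_compl.preimage G.t.continuous)

theorem main_S1881 [IsFinite G.s] [Flat G.s] [LocallyOfFinitePresentation G.s] [IsFinite G.t]
    [Flat G.t] [LocallyOfFinitePresentation G.t] (u : G.U) (V : G.U.Opens) (hV : IsAffineOpen V)
    (huV : ∀ r : G.R, G.s r = u → G.t r ∈ V) :
    ∃ W : G.U.Opens, IsAffineOpen W ∧ u ∈ W ∧ G.s ⁻¹ᵁ W = G.t ⁻¹ᵁ W := by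
  classical
  -- step (a)
  have hW₁open : IsOpen (core G (V : Set G.U)) := isOpen_core G _ V.isOpen
  have huW₁ : u ∈ core G (V : Set G.U) := huV
  have hW₁V : core G (V : Set G.U) ⊆ V := core_subset G _
  -- step (b): prime avoidance
  have hfin : (⇑G.s ⁻¹' {u}).Finite := G.s.finite_preimage_singleton u
  haveI : Finite {r : G.R // G.s r = u} := hfin.to_subtype
  letI : Fintype {r : G.R // G.s r = u} := Fintype.ofFinite _
  have hmemW₁ : ∀ r : {r : G.R // G.s r = u}, G.t r.1 ∈ core G (V : Set G.U) := fun r =>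
    (core_invariant G _ r.1).mp (by rw [r.2]; exact huW₁)
  let P : {r : G.R // G.s r = u} → Ideal Γ(G.U, V) := fun r =>
    (hV.primeIdealOf ⟨G.t r.1, huV r.1 r.2⟩).asIdeal
  let I : Ideal Γ(G.U, V) :=
    PrimeSpectrum.vanishingIdeal (⇑hV.fromSpec ⁻¹' (core G (V : Set G.U))ᶜ)
  have hnot : ∀ r, ¬ I ≤ P r := by
    intro r hle
    have h1 : hV.primeIdealOf ⟨G.t r.1, huV r.1 r.2⟩ ∈
        PrimeSpectrum.zeroLocus (I : Set Γ(G.U, V)) := by
      rw [PrimeSpectrum.mem_zeroLocus]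
      exact hle
    rw [PrimeSpectrum.zeroLocus_vanishingIdeal_eq_closure] at h1
    have hcl : IsClosed (X := PrimeSpectrum Γ(G.U, V))
        (⇑hV.fromSpec ⁻¹' (core G (V : Set G.U))ᶜ) :=
      hW₁open.isClosed_compl.preimage hV.fromSpec.continuous
    have h2 : hV.fromSpec (hV.primeIdealOf ⟨G.t r.1, huV r.1 r.2⟩) ∈
        (core G (V : Set G.U))ᶜ := hcl.closure_subset h1
    rw [hV.fromSpec_primeIdealOf] at h2
    exact h2 (hmemW₁ r)
  have e0 : {r : G.R // G.s r = u} := ⟨G.e u, e_s_apply G u⟩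
  obtain ⟨f, hfI, hfP⟩ : ∃ f ∈ I, ∀ r, f ∉ P r := by
    have h1 := (Ideal.subset_union_prime (s := Finset.univ) (f := P) e0 e0
      (fun r _ _ _ => (hV.primeIdealOf ⟨G.t r.1, huV r.1 r.2⟩).isPrime) (I := I)).not.mpr (by
        rintro ⟨r, -, hr⟩
        exact hnot r hr)
    rw [Set.not_subset] at h1
    obtain ⟨f, hfI, hf⟩ := h1
    refine ⟨f, hfI, fun r hr => hf ?_⟩
    exact Set.mem_biUnion (Finset.mem_coe.mpr (Finset.mem_univ r)) hr
  -- the affine open `D`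
  have hD : IsAffineOpen (G.U.basicOpen f) := hV.basicOpen f
  have hDV : G.U.basicOpen f ≤ V := G.U.basicOpen_le f
  have hDW₁ : ∀ x, x ∈ G.U.basicOpen f → x ∈ core G (V : Set G.U) := by
    intro x hx
    by_contra hxW
    have hxV : x ∈ V := hDV hx
    have h1 : hV.primeIdealOf ⟨x, hxV⟩ ∈ ⇑hV.fromSpec ⁻¹' (core G (V : Set G.U))ᶜ := by
      show hV.fromSpec (hV.primeIdealOf ⟨x, hxV⟩) ∈ (core G (V : Set G.U))ᶜ
      rw [hV.fromSpec_primeIdealOf]
      exact hxW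
    have h2 := (PrimeSpectrum.mem_vanishingIdeal _ _).mp hfI _ h1
    exact (mem_basicOpen_iff hV f x hxV).mp hx h2
  have horbD : ∀ r : G.R, G.s r = u → G.t r ∈ G.U.basicOpen f := by
    intro r hr
    rw [mem_basicOpen_iff hV f _ (huV r hr)]
    exact hfP ⟨r, hr⟩
  -- the function `h`
  have hle : G.s ⁻¹ᵁ G.U.basicOpen f ≤ G.t ⁻¹ᵁ V := by
    intro y hy
    have h1 : G.s y ∈ core G (V : Set G.U) := hDW₁ _ hy
    exact hW₁V ((core_invariant G _ y).mp h1)
  obtain ⟨h, hh⟩ : ∃ h : Γ(G.R, G.s ⁻¹ᵁ G.U.basicOpen f),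
      G.R.basicOpen h = G.s ⁻¹ᵁ G.U.basicOpen f ⊓ G.t ⁻¹ᵁ G.U.basicOpen f := by
    refine ⟨G.R.presheaf.map (homOfLE hle).op (G.t.app V f), ?_⟩
    rw [Scheme.basicOpen_res, ← Scheme.preimage_basicOpen]
  obtain ⟨g, hg⟩ := exists_norm_section G.s (G.U.basicOpen f) hD h
  have hWchar : ∀ x : G.U, x ∈ G.U.basicOpen g ↔ x ∈ core G (G.U.basicOpen f : Set G.U) := by
    intro x
    constructor
    · intro hx r hr
      have hxD : x ∈ G.U.basicOpen f := G.U.basicOpen_le g hx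
      have h1 := (hg x hxD).mp hx r hr
      rw [hh] at h1
      exact h1.2
    · intro hx
      have hxD : x ∈ G.U.basicOpen f := core_subset G _ hx
      refine (hg x hxD).mpr fun y hy => ?_
      rw [hh]
      refine ⟨?_, hx y hy⟩
      show G.s y ∈ G.U.basicOpen f
      rw [hy]; exact hxD
  refine ⟨G.U.basicOpen g, hD.basicOpen g, (hWchar u).mpr horbD, ?_⟩
  ext y
  show G.s y ∈ G.U.basicOpen g ↔ G.t y ∈ G.U.basicOpen g
  rw [hWchar, hWchar]
  exact core_invariant G _ y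

end Groth.Agent.H4.GrpdLib14
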