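import Groth.Agent.H4.GrpdLib4
import Mathlib.AlgebraicGeometry.Morphisms.FlatRank

set_option autoImplicit false

namespace Groth.Agent.H4.GrpdLib

open CategoryTheory CategoryTheory.Limits AlgebraicGeometry Grpd MorphismProperty

universe u

variable {S : Scheme.{u}} (G : Grpd.GroupoidScheme S)

theorem i_s' {Z : Scheme.{u}} (h : G.U ⟶ Z) : G.i ≫ G.s ≫ h = G.t ≫ h := by
  rw [← Category.assoc, G.i_s]

theorem i_t' {Z : Scheme.{u}} (h : G.U ⟶ Z) : G.i ≫ G.t ≫ h = G.s ≫ h := by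
  rw [← Category.assoc, G.i_t]

theorem i_i_point {T : Scheme.{u}} (α : T ⟶ G.R) : (α ≫ G.i) ≫ G.i = α := by
  have hs : ((α ≫ G.i) ≫ G.i) ≫ G.s = α ≫ G.s := by
    rw [Category.assoc, G.i_s, Category.assoc, G.i_t]
  have h1 := comp_e G ((α ≫ G.i) ≫ G.i) (comp G (α ≫ G.i) α (by rw [Category.assoc, G.i_s]))
    (by rw [i_comp]; simp only [Category.assoc, i_s', i_t'])
  rw [← h1]
  rw [← comp_assoc G ((α ≫ G.i) ≫ G.i) (α ≫ G.i) α (by rw [Category.assoc, G.i_s])
    (by rw [Category.assoc, G.i_s])]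
  rw [comp_congr G _ (i_comp G (α ≫ G.i)) rfl]
  exact e_comp G α _ (by simp only [Category.assoc, i_s'])

@[reassoc (attr := simp)]
theorem i_i : G.i ≫ G.i = 𝟙 _ := by
  have := i_i_point G (𝟙 G.R)
  rwa [Category.id_comp] at this

instance : IsIso G.i := ⟨G.i, i_i G, i_i G⟩

theorem t_eq : G.t = G.i ≫ G.s := G.i_s.symm

theorem s_eq : G.s = G.i ≫ G.t := G.i_t.symm

theorem finrank_s_eq [Flat G.s] [IsFinite G.s] (r : G.R) :
    G.s.finrank (G.s r) = G.s.finrank (G.t r) := by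
  rw [← Scheme.Hom.finrank_of_isPullback _ _ _ _ (isPullback_c_snd G) r,
    ← Scheme.Hom.finrank_of_isPullback _ _ _ _ (IsPullback.of_hasPullback G.s G.t) r]

theorem finrank_t_eq [Flat G.s] [IsFinite G.s] : G.t.finrank = G.s.finrank := by
  have : G.t.finrank = (G.i ≫ G.s).finrank := by rw [G.i_s]
  rw [this, Scheme.Hom.finrank_comp_left_of_isIso]

end Groth.Agent.H4.GrpdLib
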