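import Mathlib
import Groth.Prelude.Def_Grpd
import Groth.Agent.H4.FittMor2
import Groth.Agent.H4.GrpdLib5
import Groth.Agent.H4.GrpdLib10
import Groth.Agent.H4.GrpdLib14

set_option autoImplicit false
universe u
open CategoryTheory CategoryTheory.Limits AlgebraicGeometry TopologicalSpace

namespace Groth.Agent.H4.FittMor3
open Groth.Agent.H4.Fitting Groth.Agent.H4.FittMor1 Groth.Agent.H4.FittMor2 Groth.Agent.H4.GrpdLib
  Groth.Agent.H4.GrpdLib10 Groth.Agent.H4.GrpdLib14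

section Restrict
variable {X Y : Scheme.{u}}

theorem comap_inf_of_isOpenImmersion (I J : Y.IdealSheafData) (f : X ⟶ Y) [IsOpenImmersion f] :
    (I ⊓ J).comap f = I.comap f ⊓ J.comap f := by
  ext U : 2
  show ((I ⊓ J).comap f).ideal U = (I.comap f).ideal U ⊓ (J.comap f).ideal U
  rw [Scheme.IdealSheafData.ideal_comap_of_isOpenImmersion,
    Scheme.IdealSheafData.ideal_comap_of_isOpenImmersion,
    Scheme.IdealSheafData.ideal_comap_of_isOpenImmersion]
  rfl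

theorem comap_iSup' {ι : Type*} (I : ι → Y.IdealSheafData) (f : X ⟶ Y) :
    (⨆ i, I i).comap f = ⨆ i, (I i).comap f :=
  (Scheme.IdealSheafData.map_gc f).l_iSup

theorem eq_of_comap_ι_eq {ι : Type*} (O : ι → Y.Opens) (hO : ⨆ i, O i = ⊤)
    (I J : Y.IdealSheafData) (h : ∀ i, I.comap (O i).ι = J.comap (O i).ι) : I = J := by
  refine Scheme.IdealSheafData.ext_of_iSup_eq_top
    (fun p : Σ i, ((O i).toScheme).affineOpens =>
      (⟨(O p.1).ι ''ᵁ p.2.1, p.2.2.image_of_isOpenImmersion _⟩ : Y.affineOpens)) ?_ ?_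
  · rw [eq_top_iff]
    rintro y -
    have hy : y ∈ ⨆ i, O i := by rw [hO]; trivial
    obtain ⟨i, hi⟩ := Opens.mem_iSup.mp hy
    obtain ⟨V, hV, hyV, -⟩ := exists_isAffineOpen_mem_and_subset (X := (O i).toScheme)
      (x := ⟨y, hi⟩) (U := ⊤) trivial
    exact Opens.mem_iSup.mpr ⟨⟨i, ⟨V, hV⟩⟩, ⟨⟨y, hi⟩, hyV, rfl⟩⟩
  · rintro ⟨i, V⟩
    have h1 := Scheme.IdealSheafData.ideal_comap_of_isOpenImmersion I (O i).ι V
    have h2 := Scheme.IdealSheafData.ideal_comap_of_isOpenImmersion J (O i).ι V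
    rw [h i] at h1
    have h3 := h1.symm.trans h2
    exact Ideal.comap_injective_of_surjective _
      (ConcreteCategory.bijective_of_isIso ((O i).ι.appIso V.1).inv).2 h3

theorem quasiCompact_ι_of_isClosed (C : Y.Opens) (hC : IsClosed (C : Set Y)) :
    QuasiCompact C.ι := by
  refine ⟨fun U _ hUc => ?_⟩
  have hemb : Topology.IsClosedEmbedding C.ι :=
    ⟨C.ι.isOpenEmbedding.isEmbedding, by rw [Scheme.Opens.range_ι]; exact hC⟩
  exact hemb.isCompact_preimage hUc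

theorem ker_ι_comap_self (C : Y.Opens) : (C.ι.ker).comap C.ι = ⊥ := by
  rw [eq_bot_iff, ← Scheme.IdealSheafData.le_map_iff_comap_le, Scheme.IdealSheafData.map_bot]

theorem ker_ι_comap_of_disjoint (C : Y.Opens) (hC : IsClosed (C : Set Y)) (f : X ⟶ Y)
    (hf : ∀ x, f x ∉ C) : (C.ι.ker).comap f = ⊤ := by
  haveI := quasiCompact_ι_of_isClosed C hC
  refine comap_eq_top_of_forall_notMem _ _ (fun x hx => hf x ?_)
  have h1 : (C.ι.ker.support : Set Y) = closure (Set.range C.ι) := Scheme.Hom.support_ker C.ι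
  have h2 : f x ∈ (C.ι.ker.support : Set Y) := hx
  rw [h1, Scheme.Opens.range_ι, hC.closure_eq] at h2
  exact h2

theorem isFinLocFree_of_fitt_locally (π : Y ⟶ X) [IsFinite π]
    (h : ∀ x : X, ∃ (N : X.Opens) (d : ℕ), x ∈ N ∧ (∀ k, k < d → (fitt π k).comap N.ι = ⊥) ∧
      (∀ k, d ≤ k → (fitt π k).comap N.ι = ⊤)) : Mor2.IsFinLocFree π := by
  choose N d hxN h0 h1 using h
  have hcov : ⨆ x, N x = ⊤ := by
    rw [eq_top_iff]
    rintro x -
    exact Opens.mem_iSup.mpr ⟨x, hxN x⟩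
  have key : ∀ x, Mor2.IsFinLocFreeOfDeg (d x) (π ∣_ N x) := fun x =>
    isFinLocFreeOfDeg_of_fitt _ (d x)
      (fun k hk => by rw [fitt_comap (isPullback_morphismRestrict π (N x)).flip]; exact h0 x k hk)
      (fun k hk => by rw [fitt_comap (isPullback_morphismRestrict π (N x)).flip]; exact h1 x k hk)
  refine ⟨inferInstance, ?_, ?_⟩
  · exact IsZariskiLocalAtTarget.of_iSup_eq_top (P := @Flat) N hcov (fun x => (key x).1.2.1)
  · exact IsZariskiLocalAtTarget.of_iSup_eq_top (P := @LocallyOfFinitePresentation) N hcov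
      (fun x => (key x).1.2.2)

end Restrict

variable {S : Scheme.{u}} (G : Grpd.GroupoidScheme S) [IsFinite G.s]

theorem support_invariant (r : ℕ) (ρ : G.R) :
    G.s ρ ∈ (Z G r).support ↔ G.t ρ ∈ (Z G r).support := by
  have h := congrArg (fun I => ρ ∈ Scheme.IdealSheafData.support I) (Z_comap_eq G r)
  simp only [Scheme.IdealSheafData.support_comap] at h
  exact Iff.of_eq h

theorem support_antitone {r r' : ℕ} (h : r ≤ r') :
    ((Z G r').support : Set G.U) ⊆ (Z G r).support :=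
  Scheme.IdealSheafData.support_antitone (Z_mono G h)

/-- the `r`-th stratum -/
def Tset (r : ℕ) : Set G.U := ((Z G r).support : Set G.U) \ ((Z G (r + 1)).support : Set G.U)

theorem Tset_disjoint {r r' : ℕ} (h : r ≠ r') (x : G.U) (hx : x ∈ Tset G r) (hx' : x ∈ Tset G r') :
    False := by
  rcases Nat.lt_or_gt_of_ne h with hlt | hlt
  · exact hx.2 (support_antitone G (Nat.succ_le_of_lt hlt) hx'.1)
  · exact hx'.2 (support_antitone G (Nat.succ_le_of_lt hlt) hx.1)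

theorem Tset_invariant (r : ℕ) (ρ : G.R) : G.s ρ ∈ Tset G r ↔ G.t ρ ∈ Tset G r := by
  unfold Tset
  simp only [Set.mem_diff, SetLike.mem_coe]
  rw [support_invariant G r ρ, support_invariant G (r + 1) ρ]

/-- the invariant open strata -/
def Wr (r : ℕ) : G.U.Opens := ⟨core G (interior (Tset G r)), isOpen_core G _ isOpen_interior⟩

theorem Wr_subset (r : ℕ) : (Wr G r : Set G.U) ⊆ Tset G r :=
  (core_subset G _).trans interior_subset

theorem Wr_invariant (r : ℕ) (ρ : G.R) : G.s ρ ∈ Wr G r ↔ G.t ρ ∈ Wr G r :=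
  core_invariant G _ ρ

theorem Wr_disjoint {r r' : ℕ} (h : r ≠ r') (x : G.U) (hx : x ∈ Wr G r) (hx' : x ∈ Wr G r') :
    False :=
  Tset_disjoint G h x (Wr_subset G r hx) (Wr_subset G r' hx')

theorem subset_Wr (r : ℕ) (N : Set G.U) (hN : IsOpen N)
    (hinv : ∀ ρ : G.R, G.s ρ ∈ N → G.t ρ ∈ N) (hNT : N ⊆ Tset G r) : N ⊆ Wr G r := by
  intro x hx ρ hρ
  exact (hN.subset_interior_iff.mpr hNT) (hinv ρ (by rw [hρ]; exact hx))

/-- the union of the invariant open strata -/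
def W : G.U.Opens := ⨆ r, Wr G r

theorem mem_W {x : G.U} : x ∈ W G ↔ ∃ r, x ∈ Wr G r := Opens.mem_iSup

theorem W_invariant_pt (ρ : G.R) : G.s ρ ∈ W G ↔ G.t ρ ∈ W G := by
  rw [mem_W, mem_W]
  exact exists_congr fun r => Wr_invariant G r ρ

theorem W_invariant : G.s ⁻¹ᵁ W G = G.t ⁻¹ᵁ W G := by
  ext ρ
  exact W_invariant_pt G ρ

theorem orbit_closure (u : G.U) : ∃ ρ : G.R, G.t ρ = u ∧ G.s ρ ∈ closure (W G : Set G.U) := by
  by_contra hcon
  push Not at hcon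
  have hu : u ∈ core G (closure (W G : Set G.U))ᶜ := by
    intro ρ hρ hmem
    refine hcon (G.i ρ) ?_ ?_
    · rw [i_t_apply, hρ]
    · rw [i_s_apply]; exact hmem
  set N : Set G.U := core G (closure (W G : Set G.U))ᶜ with hN
  have hNopen : IsOpen N := isOpen_core G _ isClosed_closure.isOpen_compl
  have hNW : ∀ x ∈ N, x ∉ W G := fun x hx hxW => core_subset G _ hx (subset_closure hxW)
  have hNinv : ∀ ρ : G.R, G.s ρ ∈ N ↔ G.t ρ ∈ N := core_invariant G _
  have hex : ∃ r, ¬ N ⊆ ((Z G r).support : Set G.U) := by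
    have h1 : u ∉ ⋂ r, ((Z G r).support : Set G.U) := by rw [iInter_support]; exact fun h => h
    rw [Set.mem_iInter] at h1
    push Not at h1
    obtain ⟨r, hr⟩ := h1
    exact ⟨r, fun h => hr (h hu)⟩
  classical
  obtain ⟨m, hm, hmin⟩ : ∃ m, ¬ N ⊆ ((Z G m).support : Set G.U) ∧
      ∀ k < m, N ⊆ ((Z G k).support : Set G.U) :=
    ⟨Nat.find hex, Nat.find_spec hex, fun k hk => by_contra fun h => Nat.find_min hex hk h⟩
  rcases m with _ | m'
  · rw [Z_zero, Scheme.IdealSheafData.support_bot] at hm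
    exact hm (fun _ _ => trivial)
  have hsub : N ⊆ ((Z G m').support : Set G.U) := hmin m' (Nat.lt_succ_self m')
  rw [Set.not_subset] at hm
  obtain ⟨v, hvN, hv⟩ := hm
  have hN'open : IsOpen (N ∩ ((Z G (m' + 1)).support : Set G.U)ᶜ) :=
    hNopen.inter (Z G (m' + 1)).support.isClosed.isOpen_compl
  have hN'sub : N ∩ ((Z G (m' + 1)).support : Set G.U)ᶜ ⊆ Wr G m' := by
    refine subset_Wr G m' _ hN'open ?_ ?_
    · rintro ρ ⟨h1, h2⟩
      exact ⟨(hNinv ρ).mp h1, fun h => h2 ((support_invariant G (m' + 1) ρ).mpr h)⟩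
    · rintro x ⟨h1, h2⟩
      exact ⟨hsub h1, h2⟩
  exact hNW v hvN ((mem_W G).mpr ⟨m', hN'sub ⟨hvN, hv⟩⟩)

/-! ### the thickening -/

/-- the strata inside `W` -/
def Wr' (r : ℕ) : (W G).toScheme.Opens := (W G).ι ⁻¹ᵁ Wr G r

/-- the complement of a stratum inside `W` -/
def Cr (r : ℕ) : (W G).toScheme.Opens := ⨆ s : {s : ℕ // s ≠ r}, Wr' G s.1

theorem ι_mem_W (x : (W G).toScheme) : (W G).ι x ∈ W G := by
  have : (W G).ι x ∈ Set.range (W G).ι := ⟨x, rfl⟩
  rwa [Scheme.Opens.range_ι] at this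

theorem iSup_Wr' : ⨆ r, Wr' G r = ⊤ := by
  rw [eq_top_iff]
  rintro x -
  obtain ⟨r, hr⟩ := (mem_W G).mp (ι_mem_W G x)
  exact Opens.mem_iSup.mpr ⟨r, hr⟩

theorem Cr_eq (r : ℕ) : (Cr G r : Set (W G).toScheme) = (Wr' G r : Set (W G).toScheme)ᶜ := by
  ext x
  simp only [Cr, Opens.coe_iSup, Set.mem_iUnion, SetLike.mem_coe, Set.mem_compl_iff]
  constructor
  · rintro ⟨s, hs⟩ hr
    exact Wr_disjoint G s.2 _ hs hr
  · intro hr
    obtain ⟨s, hs⟩ := (mem_W G).mp (ι_mem_W G x)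
    refine ⟨⟨s, ?_⟩, hs⟩
    rintro rfl
    exact hr hs

theorem isClosed_Cr (r : ℕ) : IsClosed (Cr G r : Set (W G).toScheme) := by
  rw [Cr_eq]
  exact (Wr' G r).isOpen.isClosed_compl

/-- the thickening ideal sheaf on `W` -/
noncomputable def W' : (W G).toScheme.IdealSheafData :=
  ⨆ r, ((Z G r).comap (W G).ι ⊓ (Cr G r).ι.ker)

theorem W'_comap (s : ℕ) :
    (W' G).comap (Wr' G s).ι = (Z G s).comap ((Wr' G s).ι ≫ (W G).ι) := by
  rw [Scheme.IdealSheafData.comap_comp]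
  unfold W'
  rw [comap_iSup']
  refine le_antisymm (iSup_le fun r => ?_) (le_iSup_of_le s ?_)
  · rw [comap_inf_of_isOpenImmersion]
    by_cases hrs : r = s
    · subst hrs
      exact inf_le_left
    · have hle : Wr' G s ≤ Cr G r := le_iSup_of_le ⟨s, fun h => hrs h.symm⟩ le_rfl
      have h1 : (Wr' G s).ι = (W G).toScheme.homOfLE hle ≫ (Cr G r).ι :=
        ((W G).toScheme.homOfLE_ι hle).symm
      have h2 : ((Cr G r).ι.ker).comap (Wr' G s).ι = ⊥ := by
        rw [h1, Scheme.IdealSheafData.comap_comp, ker_ι_comap_self,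
          Scheme.IdealSheafData.comap_bot]
      rw [h2, inf_bot_eq]
      exact bot_le
  · rw [comap_inf_of_isOpenImmersion]
    have h2 : ((Cr G s).ι.ker).comap (Wr' G s).ι = ⊤ := by
      refine ker_ι_comap_of_disjoint _ (isClosed_Cr G s) _ (fun x hx => ?_)
      have hx' : (Wr' G s).ι x ∈ (Cr G s : Set (W G).toScheme) := hx
      rw [Cr_eq] at hx'
      refine hx' ?_
      have : (Wr' G s).ι x ∈ Set.range (Wr' G s).ι := ⟨x, rfl⟩
      rwa [Scheme.Opens.range_ι] at this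
    rw [h2, inf_top_eq]

/-- the inclusion of the thickening into `U` -/
noncomputable abbrev iW : (W' G).subscheme ⟶ G.U := (W' G).subschemeι ≫ (W G).ι

theorem comap_iW_eq_bot (s : ℕ) {T : Scheme.{u}} (q : T ⟶ (W' G).subscheme)
    (hq : ∀ x, iW G (q x) ∈ Wr G s) : (Z G s).comap (q ≫ iW G) = ⊥ := by
  obtain ⟨q', hq'⟩ : ∃ q' : T ⟶ ((W' G).subschemeι ⁻¹ᵁ Wr' G s).toScheme,
      q' ≫ ((W' G).subschemeι ⁻¹ᵁ Wr' G s).ι = q := by
    refine ⟨IsOpenImmersion.lift ((W' G).subschemeι ⁻¹ᵁ Wr' G s).ι q ?_,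
      IsOpenImmersion.lift_fac _ _ _⟩
    rw [Scheme.Opens.range_ι]
    rintro _ ⟨x, rfl⟩
    exact hq x
  have hN : (Z G s).comap (((W' G).subschemeι ⁻¹ᵁ Wr' G s).ι ≫ iW G) = ⊥ := by
    have h1 : ((W' G).subschemeι ⁻¹ᵁ Wr' G s).ι ≫ iW G =
        ((W' G).subschemeι ∣_ Wr' G s) ≫ (Wr' G s).ι ≫ (W G).ι := by
      unfold iW
      rw [← Category.assoc, ← morphismRestrict_ι, Category.assoc]
    rw [h1, Scheme.IdealSheafData.comap_comp, ← W'_comap, ← Scheme.IdealSheafData.comap_comp,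
      morphismRestrict_ι, Scheme.IdealSheafData.comap_comp, comap_subschemeι,
      Scheme.IdealSheafData.comap_bot]
  rw [← hq', Category.assoc, Scheme.IdealSheafData.comap_comp, hN,
    Scheme.IdealSheafData.comap_bot]

theorem exists_factor {P : Scheme.{u}} (h : P ⟶ G.U) (hW : ∀ p, h p ∈ W G)
    (hZ : ∀ (s : ℕ) {T : Scheme.{u}} (q : T ⟶ P), (∀ x, h (q x) ∈ Wr G s) →
      (Z G s).comap (q ≫ h) = ⊥) :
    ∃ β : P ⟶ (W' G).subscheme, β ≫ iW G = h := by
  obtain ⟨h', hh'⟩ : ∃ h' : P ⟶ (W G).toScheme, h' ≫ (W G).ι = h := by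
    refine ⟨IsOpenImmersion.lift (W G).ι h ?_, IsOpenImmersion.lift_fac _ _ _⟩
    rw [Scheme.Opens.range_ι]
    rintro _ ⟨x, rfl⟩
    exact hW x
  have hbot : (W' G).comap h' = ⊥ := by
    refine eq_of_comap_ι_eq (fun s => h' ⁻¹ᵁ Wr' G s) ?_ _ _ (fun s => ?_)
    · rw [← Scheme.Hom.preimage_iSup, iSup_Wr']
      rfl
    · rw [Scheme.IdealSheafData.comap_bot, ← Scheme.IdealSheafData.comap_comp,
        ← morphismRestrict_ι, Scheme.IdealSheafData.comap_comp, W'_comap,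
        ← Scheme.IdealSheafData.comap_comp]
      have h1 : (h' ∣_ Wr' G s) ≫ (Wr' G s).ι ≫ (W G).ι = (h' ⁻¹ᵁ Wr' G s).ι ≫ h := by
        rw [← Category.assoc, morphismRestrict_ι, Category.assoc, hh']
      rw [h1]
      refine hZ s _ (fun x => ?_)
      have hx : (h' ⁻¹ᵁ Wr' G s).ι x ∈ h' ⁻¹ᵁ Wr' G s := by
        have : (h' ⁻¹ᵁ Wr' G s).ι x ∈ Set.range (h' ⁻¹ᵁ Wr' G s).ι := ⟨x, rfl⟩
        rwa [Scheme.Opens.range_ι] at this
      have hx2 : (W G).ι (h' ((h' ⁻¹ᵁ Wr' G s).ι x)) ∈ Wr G s := hx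
      rw [← Scheme.Hom.comp_apply, hh'] at hx2
      exact hx2
  have hle : (W' G).subschemeι.ker ≤ h'.ker := by
    rw [Scheme.IdealSheafData.ker_subschemeι, ← Scheme.IdealSheafData.map_bot,
      Scheme.IdealSheafData.le_map_iff_comap_le, hbot]
  refine ⟨IsClosedImmersion.lift (W' G).subschemeι h' hle, ?_⟩
  unfold iW
  rw [← Category.assoc, IsClosedImmersion.lift_fac, hh']

theorem exists_lift (a b : G.R ⟶ G.U) (hZab : ∀ r, (Z G r).comap a = (Z G r).comap b)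
    (hWab : ∀ (r : ℕ) (ρ : G.R), a ρ ∈ Wr G r ↔ b ρ ∈ Wr G r) :
    ∃ ψ : pullback a (iW G) ⟶ pullback b (iW G),
      ψ ≫ pullback.fst b (iW G) = pullback.fst a (iW G) := by
  have hcond : ∀ p : ↑(pullback a (iW G)),
      a (pullback.fst a (iW G) p) = iW G (pullback.snd a (iW G) p) := by
    intro p
    rw [← Scheme.Hom.comp_apply, ← Scheme.Hom.comp_apply, pullback.condition]
  have hW : ∀ p, (pullback.fst a (iW G) ≫ b) p ∈ W G := by
    intro p
    have h1 : a (pullback.fst a (iW G) p) ∈ W G := by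
      rw [hcond]
      exact ι_mem_W G _
    obtain ⟨r, hr⟩ := (mem_W G).mp h1
    exact (mem_W G).mpr ⟨r, (hWab r _).mp hr⟩
  have hZ : ∀ (s : ℕ) {T : Scheme.{u}} (q : T ⟶ pullback a (iW G)),
      (∀ x, (pullback.fst a (iW G) ≫ b) (q x) ∈ Wr G s) →
      (Z G s).comap (q ≫ pullback.fst a (iW G) ≫ b) = ⊥ := by
    intro s T q hq
    have e1 : q ≫ pullback.fst a (iW G) ≫ b = (q ≫ pullback.fst a (iW G)) ≫ b := by
      rw [Category.assoc]
    have e2 : (q ≫ pullback.fst a (iW G)) ≫ a = (q ≫ pullback.snd a (iW G)) ≫ iW G := by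
      rw [Category.assoc, pullback.condition, Category.assoc]
    rw [e1, Scheme.IdealSheafData.comap_comp, ← hZab, ← Scheme.IdealSheafData.comap_comp, e2]
    refine comap_iW_eq_bot G s _ (fun x => ?_)
    have h2 : b (pullback.fst a (iW G) (q x)) ∈ Wr G s := hq x
    have h3 := (hWab s _).mpr h2
    rw [hcond] at h3
    exact h3
  obtain ⟨β, hβ⟩ := exists_factor G (pullback.fst a (iW G) ≫ b) hW hZ
  exact ⟨pullback.lift (pullback.fst a (iW G)) β hβ.symm, pullback.lift_fst _ _ _⟩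

variable [IsFinite G.t]

theorem exists_iso_W' : ∃ φ : pullback G.s (iW G) ≅ pullback G.t (iW G),
    φ.hom ≫ pullback.fst G.t (iW G) = pullback.fst G.s (iW G) := by
  obtain ⟨ψ₁, h₁⟩ := exists_lift G G.s G.t (Z_comap_eq G) (Wr_invariant G)
  obtain ⟨ψ₂, h₂⟩ := exists_lift G G.t G.s (fun r => (Z_comap_eq G r).symm)
    (fun r ρ => (Wr_invariant G r ρ).symm)
  refine ⟨⟨ψ₁, ψ₂, ?_, ?_⟩, h₁⟩
  · rw [← cancel_mono (pullback.fst G.s (iW G)), Category.assoc, h₂, h₁, Category.id_comp]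
  · rw [← cancel_mono (pullback.fst G.t (iW G)), Category.assoc, h₁, h₂, Category.id_comp]

theorem W'_support : (W' G).support = ⊤ := by
  ext x
  simp only [Closeds.coe_top, Set.mem_univ, iff_true]
  obtain ⟨s, hs⟩ := (mem_W G).mp (ι_mem_W G x)
  have hx : x ∈ Set.range (Wr' G s).ι := by rw [Scheme.Opens.range_ι]; exact hs
  obtain ⟨y, rfl⟩ := hx
  have h1 : y ∈ ((W' G).comap (Wr' G s).ι).support := by
    rw [W'_comap, Scheme.IdealSheafData.support_comap]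
    show ((Wr' G s).ι ≫ (W G).ι) y ∈ (Z G s).support
    exact (Wr_subset G s hs).1
  rw [Scheme.IdealSheafData.support_comap] at h1
  exact h1

theorem isFinLocFree_snd_s : Mor2.IsFinLocFree (pullback.snd G.s (iW G)) := by
  refine isFinLocFree_of_fitt_locally _ (fun y => ?_)
  obtain ⟨s, hs⟩ := (mem_W G).mp (ι_mem_W G ((W' G).subschemeι y))
  have hcm : ∀ k, (fitt (pullback.snd G.s (iW G)) k).comap (iW G ⁻¹ᵁ Wr G s).ι =
      (Z G k).comap ((iW G ⁻¹ᵁ Wr G s).ι ≫ iW G) := fun k => by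
    rw [fitt_comap (IsPullback.of_hasPullback G.s (iW G)) k, ← Scheme.IdealSheafData.comap_comp]
    rfl
  have hmem : ∀ x, iW G ((iW G ⁻¹ᵁ Wr G s).ι x) ∈ Wr G s := by
    intro x
    have : (iW G ⁻¹ᵁ Wr G s).ι x ∈ Set.range (iW G ⁻¹ᵁ Wr G s).ι := ⟨x, rfl⟩
    rw [Scheme.Opens.range_ι] at this
    exact this
  refine ⟨iW G ⁻¹ᵁ Wr G s, s + 1, hs, fun k hk => ?_, fun k hk => ?_⟩
  · rw [hcm, eq_bot_iff, ← comap_iW_eq_bot G s _ hmem]
    exact Scheme.IdealSheafData.comap_mono _ (Z_mono G (by omega))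
  · rw [hcm, eq_top_iff]
    have h1 : (Z G (s + 1)).comap ((iW G ⁻¹ᵁ Wr G s).ι ≫ iW G) = ⊤ :=
      comap_eq_top_of_forall_notMem _ _ (fun x => (Wr_subset G s (hmem x)).2)
    rw [← h1]
    exact Scheme.IdealSheafData.comap_mono _ (Z_mono G hk)

theorem isFinLocFree_snd_t : Mor2.IsFinLocFree (pullback.snd G.t (iW G)) := by
  obtain ⟨m, hm⟩ : ∃ m : pullback G.t (iW G) ⟶ pullback G.s (iW G),
      m = pullback.map G.t (iW G) G.s (iW G) G.i (𝟙 _) (𝟙 _)
        (by rw [Category.comp_id, G.i_s]) (by rw [Category.comp_id, Category.id_comp]) := ⟨_, rfl⟩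
  haveI : IsIso m := by rw [hm]; infer_instance
  have he : m ≫ pullback.snd G.s (iW G) = pullback.snd G.t (iW G) := by
    rw [hm, pullback.lift_snd, Category.comp_id]
  obtain ⟨h1, h2, h3⟩ := isFinLocFree_snd_s G
  rw [← he]
  exact ⟨inferInstance, inferInstance, inferInstance⟩

theorem main_S1908 : ∃ (W : G.U.Opens) (W' : (↑W : Scheme.{u}).IdealSheafData),
    G.s ⁻¹ᵁ W = G.t ⁻¹ᵁ W ∧ W'.support = ⊤ ∧
    (∃ φ : pullback G.s (W'.subschemeι ≫ W.ι) ≅ pullback G.t (W'.subschemeι ≫ W.ι),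
      φ.hom ≫ pullback.fst G.t (W'.subschemeι ≫ W.ι) = pullback.fst G.s (W'.subschemeι ≫ W.ι)) ∧
    (∀ u : G.U, ∃ r : G.R, G.t r = u ∧ G.s r ∈ closure (W : Set G.U)) ∧
    Mor2.IsFinLocFree (pullback.snd G.s (W'.subschemeι ≫ W.ι)) ∧
    Mor2.IsFinLocFree (pullback.snd G.t (W'.subschemeι ≫ W.ι)) :=
  ⟨W G, W' G, W_invariant G, W'_support G, exists_iso_W' G, orbit_closure G,
    isFinLocFree_snd_s G, isFinLocFree_snd_t G⟩

end Groth.Agent.H4.FittMor3
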