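import Mathlib
import Groth.Agent.H4.Fitting2
import Groth.Agent.H4.Fitting4

namespace Groth.Agent.H4.Fitting

universe u v w
open Matrix

variable {R : Type u} [CommRing R] {M : Type v} [AddCommGroup M] [Module R M]

/-- minors of relation matrices can be computed from a generating family of relations -/
theorem Mi_eq_of_span {ι κ : Type*} [Fintype ι] (x : ι → M) (s : κ → (ι → R))
    (hs : Submodule.span R (Set.range s) = rel x) (r : ℕ) :
    (Mi x r : Ideal R) = Ideal.span {d | ∃ (c : Fin r → κ) (e : Fin r → ι),
      d = (Matrix.of fun a b => s (c b) (e a)).det} := by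
  apply le_antisymm
  · refine Ideal.span_le.mpr ?_
    rintro d ⟨z, e, hz, rfl⟩
    let f : MultilinearMap R (fun _ : Fin r => ι → R) R :=
      (Matrix.detRowAlternating (R := R) (n := Fin r)).toMultilinearMap.compLinearMap
        (fun _ => LinearMap.funLeft R R e)
    have hf : ∀ z : Fin r → (ι → R), f z = (Matrix.of fun a b => z b (e a)).det := by
      intro z
      rw [← Matrix.det_transpose]
      rfl
    have hz' : ∀ b, z b ∈ Submodule.span R (Set.range s) := by
      intro b
      rw [hs, mem_rel]
      exact hz b
    have := multilinear_mem_span (R := R) f (fun _ => Set.range s) z hz'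
    rw [hf] at this
    refine Submodule.span_mono ?_ this
    rintro p ⟨b, hb, rfl⟩
    choose c hc using hb
    refine ⟨c, e, ?_⟩
    rw [hf]
    congr 1
    ext a b'
    simp [hc]
  · refine Ideal.span_le.mpr ?_
    rintro d ⟨c, e, rfl⟩
    refine Ideal.subset_span ⟨fun b => s (c b), e, fun j => ?_, rfl⟩
    have : s (c j) ∈ rel (R := R) x := hs ▸ Submodule.subset_span ⟨_, rfl⟩
    exact (mem_rel x _).mp this

end Groth.Agent.H4.Fitting
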