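import Mathlib
import Groth.Prelude.Def_Grpd
import Groth.Agent.H4.FittMor3
import Groth.Agent.H4.Fitting8

set_option autoImplicit false
universe u
open CategoryTheory CategoryTheory.Limits AlgebraicGeometry TopologicalSpace

namespace Groth.Agent.H4.FittMor4
open Groth.Agent.H4.Fitting Groth.Agent.H4.FittMor1 Groth.Agent.H4.FittMor2 Groth.Agent.H4.FittMor3
  Groth.Agent.H4.GrpdLib Groth.Agent.H4.GrpdLib10 Groth.Agent.H4.GrpdLib14

theorem fitt_fg {A : Type u} [CommRing A] (M : Type u) [AddCommGroup M] [Module A M]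
    [Module.FinitePresentation A M] (k : ℕ) : (Fitt.ideal A M k).FG := by
  classical
  obtain ⟨n, x, hx⟩ := Module.Finite.exists_fin (R := A) (M := M)
  rw [ideal_eq_Mi k x hx]
  have hsurj : Function.Surjective (Fintype.linearCombination A x) := by
    rw [← LinearMap.range_eq_top, Fintype.range_linearCombination]; exact hx
  have hfg : (rel (R := A) x).FG := Module.FinitePresentation.fg_ker _ hsurj
  obtain ⟨S0, hS0⟩ := hfg
  rw [Mi_eq_of_span x (fun s : S0 => (s.1 : Fin n → A))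
    (by rw [Subtype.range_coe_subtype]; simpa using hS0) (n - k)]
  have hset : {d | ∃ (c : Fin (n - k) → S0) (e : Fin (n - k) → Fin n),
      d = (Matrix.of fun a b => ((c b).1 : Fin n → A) (e a)).det} =
      Set.range (fun p : (Fin (n - k) → S0) × (Fin (n - k) → Fin n) =>
        (Matrix.of fun a b => ((p.1 b).1 : Fin n → A) (p.2 a)).det) := by
    ext d
    constructor
    · rintro ⟨c, e, rfl⟩; exact ⟨(c, e), rfl⟩
    · rintro ⟨p, rfl⟩; exact ⟨p.1, p.2, rfl⟩
  rw [hset]
  exact Submodule.fg_span (Set.finite_range _)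

section Sch
variable {X Y : Scheme.{u}}

theorem fitt_ideal_fg (π : Y ⟶ X) [IsFinite π] [LocallyOfFinitePresentation π] (k : ℕ)
    (V : X.affineOpens) : ((fitt π k).ideal V).FG := by
  show (fittI (π.app V.1) k).FG
  letI := (π.app V.1).hom.toAlgebra
  haveI : Module.Finite Γ(X, V.1) Γ(Y, π ⁻¹ᵁ V.1) := π.finite_app V.1 V.2
  haveI : Algebra.FinitePresentation Γ(X, V.1) Γ(Y, π ⁻¹ᵁ V.1) := by
    have := π.finitePresentation_appLE V.2 (V.2.preimage π) le_rfl
    rw [Scheme.Hom.appLE_eq_app] at this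
    exact this
  haveI := Module.FinitePresentation.of_finite_of_finitePresentation Γ(X, V.1) Γ(Y, π ⁻¹ᵁ V.1)
  exact fitt_fg _ k

theorem lfp_subschemeι_of_fg (I : X.IdealSheafData) (h : ∀ V : X.affineOpens, (I.ideal V).FG) :
    LocallyOfFinitePresentation I.subschemeι := by
  rw [HasRingHomProperty.iff_appLE (P := @LocallyOfFinitePresentation)]
  intro V W e
  have hres : I.subschemeι.appLE V.1 W.1 e =
      I.subschemeι.app V.1 ≫ Scheme.Hom.appLE (𝟙 _) (I.subschemeι ⁻¹ᵁ V.1) W.1 e := by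
    simp only [Scheme.Hom.appLE, Scheme.Hom.id_app]
    erw [Category.id_comp]
    rfl
  rw [hres, CommRingCat.hom_comp]
  refine RingHom.FinitePresentation.comp
    (Scheme.Hom.finitePresentation_appLE (𝟙 _) (V.2.preimage _) W.2 e) ?_
  exact RingHom.FinitePresentation.of_surjective _ (I.subschemeι_app_surjective V)
    (by rw [I.ker_subschemeι_app]; exact h V)

/-- the open complement of the support -/
def complOpen (I : X.IdealSheafData) : X.Opens := I.support.compl

theorem quasiCompact_compl_support_ι (I : X.IdealSheafData)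
    (h : ∀ V : X.affineOpens, (I.ideal V).FG) : QuasiCompact (complOpen I).ι := by
  rw [quasiCompact_iff_forall_isAffineOpen]
  intro V hV
  obtain ⟨S, hS⟩ := h ⟨V, hV⟩
  have hmem : ∀ x ∈ V, (x ∈ I.support ↔ ∀ f ∈ S, x ∉ X.basicOpen f) := by
    intro x hxV
    rw [Scheme.IdealSheafData.mem_support_iff_of_mem (U := ⟨V, hV⟩) hxV]
    show x ∈ X.zeroLocus (U := V) ((I.ideal ⟨V, hV⟩ : Ideal Γ(X, V)) : Set Γ(X, V)) ↔ _
    rw [← hS]
    show x ∈ X.zeroLocus (U := V) ((Ideal.span (S : Set Γ(X, V)) : Ideal Γ(X, V)) : Set Γ(X, V)) ↔ _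
    rw [Scheme.zeroLocus_span, Scheme.mem_zeroLocus_iff]
    rfl
  have hset : (V : Set X) ∩ (I.support : Set X)ᶜ = ⋃ f ∈ S, (X.basicOpen f : Set X) := by
    ext x
    simp only [Set.mem_inter_iff, Set.mem_compl_iff, Set.mem_iUnion, SetLike.mem_coe]
    constructor
    · rintro ⟨hxV, hx⟩
      rw [hmem x hxV] at hx
      push Not at hx
      obtain ⟨f, hf, hxf⟩ := hx
      exact ⟨f, hf, hxf⟩
    · rintro ⟨f, hf, hxf⟩
      have hxV := X.basicOpen_le f hxf
      exact ⟨hxV, fun hx => (hmem x hxV).mp hx f hf hxf⟩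
  have hcomp : IsCompact ((V : Set X) ∩ (I.support : Set X)ᶜ) := by
    rw [hset]
    exact S.finite_toSet.isCompact_biUnion (fun f _ => (hV.basicOpen f).isCompact)
  rw [(complOpen I).ι.isOpenEmbedding.isEmbedding.isCompact_iff]
  have himg : (complOpen I).ι '' (((complOpen I).ι ⁻¹ᵁ V :
      (complOpen I).toScheme.Opens) : Set _) = (V : Set X) ∩ (I.support : Set X)ᶜ := by
    show (complOpen I).ι '' ((complOpen I).ι ⁻¹' (V : Set X)) = _
    rw [Set.image_preimage_eq_inter_range, Scheme.Opens.range_ι]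
    rfl
  rw [himg]
  exact hcomp

theorem mem_interior_support_of_generic (I : X.IdealSheafData)
    (hfg : ∀ V : X.affineOpens, (I.ideal V).FG) (v : X) (hv : v ∈ I.support)
    (hgen : ∀ x : X, x ⤳ v → x = v) : v ∈ interior (I.support : Set X) := by
  haveI := quasiCompact_compl_support_ι I hfg
  rw [interior_eq_compl_closure_compl]
  intro hcl
  have h1 : v ∈ closure ((complOpen I).ι '' Set.univ) := by
    rw [Set.image_univ, Scheme.Opens.range_ι]; exact hcl
  obtain ⟨η, -, hη⟩ := exists_specializes_of_mem_closure_image (complOpen I).ι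
    Set.univ isClosed_univ v h1
  have h2 := hgen _ hη
  have hmem : (complOpen I).ι η ∈ (complOpen I) := by
    have : (complOpen I).ι η ∈ Set.range (complOpen I).ι := ⟨η, rfl⟩
    rwa [Scheme.Opens.range_ι] at this
  rw [h2] at hmem
  exact hmem hv

end Sch

variable {S : Scheme.{u}} (G : Grpd.GroupoidScheme S) [IsFinite G.s]

theorem exists_mem_Tset (u : G.U) : ∃ m, u ∈ Tset G m := by
  classical
  have hex : ∃ r, u ∉ ((Z G r).support : Set G.U) := by
    have h1 : u ∉ ⋂ r, ((Z G r).support : Set G.U) := by rw [iInter_support]; exact fun h => h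
    rw [Set.mem_iInter] at h1
    push Not at h1
    exact h1
  obtain ⟨m, hm, hmin⟩ : ∃ m, u ∉ ((Z G m).support : Set G.U) ∧
      ∀ k < m, u ∈ ((Z G k).support : Set G.U) :=
    ⟨Nat.find hex, Nat.find_spec hex, fun k hk => by_contra fun h => Nat.find_min hex hk h⟩
  rcases m with _ | m'
  · rw [Z_zero, Scheme.IdealSheafData.support_bot] at hm
    exact absurd trivial hm
  · exact ⟨m', hmin m' (Nat.lt_succ_self m'), hm⟩

variable [LocallyOfFinitePresentation G.s]

theorem mem_W_of_generic (u : G.U)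
    (h : ∀ ρ : G.R, G.s ρ = u → ∀ x : G.U, x ⤳ G.t ρ → x = G.t ρ) : u ∈ W G := by
  obtain ⟨m, hm⟩ := exists_mem_Tset G u
  refine (mem_W G).mpr ⟨m, fun ρ hρ => ?_⟩
  have hv : G.t ρ ∈ Tset G m := (Tset_invariant G m ρ).mp (by rw [hρ]; exact hm)
  have h1 := mem_interior_support_of_generic (Z G m) (fitt_ideal_fg G.s m) (G.t ρ) hv.1 (h ρ hρ)
  unfold Tset
  rw [Set.diff_eq, interior_inter, (Z G (m + 1)).support.isClosed.isOpen_compl.interior_eq]
  exact ⟨h1, hv.2⟩

theorem lfp_W'ι : LocallyOfFinitePresentation (W' G).subschemeι := by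
  refine IsZariskiLocalAtTarget.of_iSup_eq_top (P := @LocallyOfFinitePresentation) (Wr' G)
    (iSup_Wr' G) (fun s => ?_)
  have hpb := isPullback_morphismRestrict (W' G).subschemeι (Wr' G s)
  have h1 : LocallyOfFinitePresentation (Z G s).subschemeι :=
    lfp_subschemeι_of_fg _ (fitt_ideal_fg G.s s)
  have h2 : LocallyOfFinitePresentation
      ((Z G s).comap ((Wr' G s).ι ≫ (W G).ι)).subschemeι := by
    have e := Scheme.IdealSheafData.comapIso_hom_fst (Z G s) ((Wr' G s).ι ≫ (W G).ι)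
    rw [← e]
    infer_instance
  have h3 : LocallyOfFinitePresentation ((W' G).comap (Wr' G s).ι).subschemeι := by
    rw [W'_comap]; exact h2
  have h4 : LocallyOfFinitePresentation (pullback.fst (Wr' G s).ι (W' G).subschemeι) := by
    have e := Scheme.IdealSheafData.comapIso_inv_subschemeι (W' G) (Wr' G s).ι
    rw [← e]
    infer_instance
  rw [← hpb.isoPullback_hom_fst]
  infer_instance

theorem main_S1909 [IsFinite G.t] [LocallyOfFinitePresentation G.t] :
    ∃ (W : G.U.Opens) (W' : (↑W : Scheme.{u}).IdealSheafData),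
    G.s ⁻¹ᵁ W = G.t ⁻¹ᵁ W ∧ W'.support = ⊤ ∧
    (∃ φ : pullback G.s (W'.subschemeι ≫ W.ι) ≅ pullback G.t (W'.subschemeι ≫ W.ι),
      φ.hom ≫ pullback.fst G.t (W'.subschemeι ≫ W.ι) = pullback.fst G.s (W'.subschemeι ≫ W.ι)) ∧
    (∀ u : G.U, ∃ r : G.R, G.t r = u ∧ G.s r ∈ closure (W : Set G.U)) ∧
    Mor2.IsFinLocFree (pullback.snd G.s (W'.subschemeι ≫ W.ι)) ∧
    Mor2.IsFinLocFree (pullback.snd G.t (W'.subschemeι ≫ W.ι)) ∧
    LocallyOfFinitePresentation W'.subschemeι ∧
    ∀ u : G.U, (∀ r : G.R, G.s r = u → ∀ x : G.U, x ⤳ G.t r → x = G.t r) → u ∈ W :=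
  ⟨W G, W' G, W_invariant G, W'_support G, exists_iso_W' G, orbit_closure G,
    isFinLocFree_snd_s G, isFinLocFree_snd_t G, lfp_W'ι G, mem_W_of_generic G⟩

end Groth.Agent.H4.FittMor4
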