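import Mathlib
import Groth.Prelude.Def_FlatCA
import Groth.Prelude.Def_Fitting
import Groth.Agent.H4.FittMor4

set_option autoImplicit false
universe u v
open TensorProduct

namespace Groth.Agent.H4.FittEt
open Groth.Agent.H4.Fitting Groth.Agent.H4.FittMor4

theorem fittingZero_eq (R : Type u) [CommRing R] (M : Type u) [AddCommGroup M] [Module R M] :
    FlatCA.fittingZero R M = Fitt.ideal R M 0 := by
  unfold FlatCA.fittingZero Fitt.ideal
  congr 1
  ext d
  constructor
  · rintro ⟨n, x, a, hx, hr, rfl⟩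
    exact ⟨n, x, a, hx, fun i _ => hr i, rfl⟩
  · rintro ⟨n, x, a, hx, hr, rfl⟩
    exact ⟨n, x, a, hx, fun i => hr i (by rw [Nat.sub_zero]; exact i.2), rfl⟩

section L1
variable {R : Type u} [CommRing R] {M : Type v} [AddCommGroup M] [Module R M]

theorem fitt_zero_cyclic_compl (m₁ : M) (M₂ : Submodule R M) [Module.Finite R M₂]
    (hsup : ∀ q : M, ∃ (b : R) (y : M), y ∈ M₂ ∧ q = b • m₁ + y)
    (hinf : ∀ (b : R) (y : M), y ∈ M₂ → b • m₁ = y → y = 0)
    (𝔞 : Ideal R) (h𝔞 : ∀ b : R, b • m₁ = 0 ↔ b ∈ 𝔞) :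
    Fitt.ideal R M 0 = 𝔞 * Fitt.ideal R M₂ 0 := by
  classical
  obtain ⟨n, y, hy⟩ := Module.Finite.exists_fin (R := R) (M := M₂)
  obtain ⟨x, hx0, hxs⟩ : ∃ x : Fin (n + 1) → M, x 0 = m₁ ∧ ∀ i : Fin n, x i.succ = (y i : M) :=
    ⟨Fin.cons m₁ (fun i => (y i : M)), rfl, fun i => Fin.cons_succ _ _ _⟩
  have hx : Submodule.span R (Set.range x) = ⊤ := by
    rw [eq_top_iff]
    rintro q -
    obtain ⟨b, z, hz, rfl⟩ := hsup q
    refine Submodule.add_mem _ (Submodule.smul_mem _ _ (Submodule.subset_span ⟨0, hx0⟩)) ?_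
    have hz' : (⟨z, hz⟩ : M₂) ∈ Submodule.span R (Set.range y) := by rw [hy]; trivial
    have h1 := Submodule.mem_map_of_mem (f := M₂.subtype) hz'
    rw [Submodule.map_span, ← Set.range_comp] at h1
    refine Submodule.span_mono ?_ h1
    rintro _ ⟨i, rfl⟩
    exact ⟨i.succ, hxs i⟩
  rw [ideal_eq_G 0 x hx, ideal_eq_G 0 y hy]
  have hsplit : ∀ c : Fin (n + 1) → R, ∑ j, c j • x j = 0 →
      c 0 ∈ 𝔞 ∧ ∑ j : Fin n, c j.succ • y j = 0 := by
    intro c hc
    rw [Fin.sum_univ_succ, hx0] at hc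
    simp only [hxs] at hc
    have h2 : c 0 • m₁ = ((-(∑ j : Fin n, c j.succ • y j) : M₂) : M) := by
      rw [Submodule.coe_neg, Submodule.coe_sum]
      simp only [Submodule.coe_smul]
      exact eq_neg_of_add_eq_zero_left hc
    have h3 := hinf _ _ (Submodule.coe_mem _) h2
    refine ⟨(h𝔞 _).mp (by rw [h2, h3]), ?_⟩
    have h4 : (-(∑ j : Fin n, c j.succ • y j) : M₂) = 0 := Submodule.coe_eq_zero.mp h3
    exact neg_eq_zero.mp h4
  apply le_antisymm
  · rw [G_le_iff]
    intro a T hT hr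
    have hT0 : T = ∅ := Finset.card_eq_zero.mp (Nat.le_zero.mp hT)
    have hrel : ∀ i, ∑ j, a i j • x j = 0 :=
      fun i => hr i (by rw [hT0]; exact Finset.notMem_empty i)
    rw [Matrix.det_succ_column_zero]
    refine Ideal.sum_mem _ (fun i _ => ?_)
    have h1 : a i 0 * (a.submatrix i.succAbove Fin.succ).det ∈ 𝔞 * G 0 y := by
      refine Ideal.mul_mem_mul (hsplit _ (hrel i)).1 (det_mem_G _ ∅ (by simp) (fun l _ => ?_))
      exact (hsplit _ (hrel (i.succAbove l))).2
    have h2 : (-1 : R) ^ (i : ℕ) * a i 0 * (a.submatrix i.succAbove Fin.succ).det =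
        (-1 : R) ^ (i : ℕ) * (a i 0 * (a.submatrix i.succAbove Fin.succ).det) := by ring
    rw [h2]
    exact Ideal.mul_mem_left _ _ h1
  · refine Ideal.mul_le.mpr (fun α hα d hd => ?_)
    have key : (G 0 y : Ideal R) ≤ Submodule.comap (LinearMap.mulLeft R α) (G 0 x : Ideal R) := by
      rw [G_le_iff]
      intro b T hT hr
      have hT0 : T = ∅ := Finset.card_eq_zero.mp (Nat.le_zero.mp hT)
      have hrel : ∀ i, ∑ j, b i j • y j = 0 :=
        fun i => hr i (by rw [hT0]; exact Finset.notMem_empty i)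
      show α * b.det ∈ G 0 x
      obtain ⟨a, ha00, ha0s, has0, hass⟩ : ∃ a : Matrix (Fin (n + 1)) (Fin (n + 1)) R,
          a 0 0 = α ∧ (∀ j : Fin n, a 0 j.succ = 0) ∧ (∀ i : Fin n, a i.succ 0 = 0) ∧
          ∀ i j : Fin n, a i.succ j.succ = b i j := by
        refine ⟨Matrix.of (fun i j => Fin.cases (Fin.cases α (fun _ => 0) j)
          (fun i' => Fin.cases 0 (fun j' => b i' j') j) i), ?_, ?_, ?_, ?_⟩
        · simp
        · intro j; simp
        · intro i; simp
        · intro i j; simp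
      have hdet : a.det = α * b.det := by
        rw [Matrix.det_succ_row_zero, Fin.sum_univ_succ]
        have hsub : a.submatrix Fin.succ (Fin.succAbove 0) = b := by
          ext i j
          rw [Matrix.submatrix_apply, Fin.succAbove_zero, hass]
        rw [hsub, ha00]
        have hz : ∑ j : Fin n, (-1 : R) ^ ((j.succ : Fin (n + 1)) : ℕ) * a 0 j.succ *
            (a.submatrix Fin.succ j.succ.succAbove).det = 0 :=
          Finset.sum_eq_zero (fun j _ => by rw [ha0s]; ring)
        rw [hz]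
        simp
      rw [← hdet]
      refine det_mem_G a ∅ (by simp) (fun i _ => ?_)
      refine Fin.cases ?_ (fun i' => ?_) i
      · rw [Fin.sum_univ_succ, ha00, hx0]
        simp only [ha0s, zero_smul, Finset.sum_const_zero, add_zero]
        exact (h𝔞 α).mpr hα
      · rw [Fin.sum_univ_succ, has0, zero_smul, zero_add]
        simp only [hass, hxs]
        have h5 := congrArg M₂.subtype (hrel i')
        rw [map_sum, map_zero] at h5
        simpa only [map_smul, Submodule.subtype_apply] using h5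
    exact key hd

end L1

section L2

theorem eq_of_sub_mem_sqzero {A C B Q : Type u} [CommRing A] [CommRing C] [Algebra A C] (h : C)
    [CommRing B] [Algebra A B] [Algebra C B] [IsScalarTower A C B] [IsLocalization.Away h B]
    [Algebra.FormallyUnramified A B] [CommRing Q] [Algebra A Q]
    (I : Ideal Q) (hI : I * I = ⊥) (g₁ : B →ₐ[A] Q) (g₂ : C →ₐ[A] Q)
    (hg : ∀ c, g₁ (algebraMap C B c) - g₂ c ∈ I) (c : C) : g₁ (algebraMap C B c) = g₂ c := by
  have hnil : IsNilpotent I := ⟨2, (pow_two I).trans hI⟩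
  have hunit : IsUnit (g₂ h) := by
    have hu1 : IsUnit (g₁ (algebraMap C B h)) :=
      (IsLocalization.Away.algebraMap_isUnit (S := B) h).map g₁
    have hn : IsNilpotent (g₂ h - g₁ (algebraMap C B h)) := by
      refine ⟨2, ?_⟩
      have h1 := Ideal.mul_mem_mul (hg h) (hg h)
      rw [hI, Ideal.mem_bot] at h1
      rw [pow_two]
      calc (g₂ h - g₁ (algebraMap C B h)) * (g₂ h - g₁ (algebraMap C B h))
          = (g₁ (algebraMap C B h) - g₂ h) * (g₁ (algebraMap C B h) - g₂ h) := by ring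
        _ = 0 := h1
    have h2 : g₂ h = g₁ (algebraMap C B h) + (g₂ h - g₁ (algebraMap C B h)) := by ring
    rw [h2]
    exact hn.isUnit_add_left_of_commute hu1 (Commute.all _ _)
  have hu : ∀ y : Submonoid.powers h, IsUnit (g₂ (y : C)) := by
    rintro ⟨_, n, rfl⟩
    show IsUnit (g₂ (h ^ n))
    rw [map_pow]
    exact hunit.pow n
  obtain ⟨f₂, hf₂⟩ : ∃ f₂ : B →ₐ[A] Q, ∀ c : C, f₂ (algebraMap C B c) = g₂ c :=
    ⟨IsLocalization.liftAlgHom (M := Submonoid.powers h) (S := B) (f := g₂) hu,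
      fun c => by rw [IsLocalization.liftAlgHom_apply, IsLocalization.lift_eq]; rfl⟩
  have hagree : ∀ x, Ideal.Quotient.mk I (g₁ x) = Ideal.Quotient.mk I (f₂ x) := by
    have e : (Ideal.Quotient.mk I).comp g₁.toRingHom = (Ideal.Quotient.mk I).comp f₂.toRingHom := by
      refine IsLocalization.ringHom_ext (Submonoid.powers h) (RingHom.ext fun c => ?_)
      show Ideal.Quotient.mk I (g₁ (algebraMap C B c)) = Ideal.Quotient.mk I (f₂ (algebraMap C B c))
      rw [hf₂, Ideal.Quotient.eq]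
      exact hg c
    exact fun x => RingHom.congr_fun e x
  have heq : g₁ = f₂ := Algebra.FormallyUnramified.ext (I := I) hnil hagree
  rw [heq, hf₂]

theorem sub_mem_sq {A C B T : Type u} [CommRing A] [CommRing C] [Algebra A C] (h : C)
    [CommRing B] [Algebra A B] [Algebra C B] [IsScalarTower A C B] [IsLocalization.Away h B]
    [Algebra.FormallyUnramified A B] [CommRing T] [Algebra A T]
    (K : Ideal T) (ι₁ : B →ₐ[A] T) (ι₂ : C →ₐ[A] T)
    (hK : ∀ c, ι₁ (algebraMap C B c) - ι₂ c ∈ K) (c : C) :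
    ι₁ (algebraMap C B c) - ι₂ c ∈ K * K := by
  have hsq0 : K.map (Ideal.Quotient.mk (K * K)) * K.map (Ideal.Quotient.mk (K * K)) = ⊥ := by
    rw [eq_bot_iff, Ideal.mul_le]
    intro a ha b hb
    obtain ⟨a', ha', rfl⟩ :=
      (Ideal.mem_map_iff_of_surjective _ Ideal.Quotient.mk_surjective).mp ha
    obtain ⟨b', hb', rfl⟩ :=
      (Ideal.mem_map_iff_of_surjective _ Ideal.Quotient.mk_surjective).mp hb
    rw [Ideal.mem_bot, ← map_mul, Ideal.Quotient.eq_zero_iff_mem]
    exact Ideal.mul_mem_mul ha' hb'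
  have h1 := eq_of_sub_mem_sqzero h (K.map (Ideal.Quotient.mk (K * K))) hsq0
    ((Ideal.Quotient.mkₐ A (K * K)).comp ι₁) ((Ideal.Quotient.mkₐ A (K * K)).comp ι₂)
    (fun c => by
      show Ideal.Quotient.mk (K * K) (ι₁ (algebraMap C B c)) -
        Ideal.Quotient.mk (K * K) (ι₂ c) ∈ _
      rw [← map_sub]
      exact Ideal.mem_map_of_mem _ (hK c)) c
  have h2 : Ideal.Quotient.mk (K * K) (ι₁ (algebraMap C B c)) =
      Ideal.Quotient.mk (K * K) (ι₂ c) := h1
  rwa [Ideal.Quotient.eq] at h2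

variable {A C : Type u} [CommRing A] [CommRing C] [Algebra A C]
  {B : Type u} [CommRing B] [Algebra A B] [Algebra C B] [IsScalarTower A C B]

variable (A C B) in
/-- the multiplication map `B ⊗[A] C → B` -/
noncomputable def mu : (B ⊗[A] C) →ₐ[B] B :=
  Algebra.TensorProduct.lift (AlgHom.id _ _) (IsScalarTower.toAlgHom A C B)
    (fun _ _ => Commute.all _ _)

theorem mu_tmul (b : B) (c : C) :
    mu A C B (b ⊗ₜ[A] c) = b * algebraMap C B c := rfl

variable (A C B) in
/-- the generators of the kernel of `mu` -/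
noncomputable def kc : C →ₗ[A] B ⊗[A] C :=
  (Algebra.TensorProduct.includeRight : C →ₐ[A] B ⊗[A] C).toLinearMap -
    ((Algebra.TensorProduct.includeLeft : B →ₐ[B]
      B ⊗[A] C).restrictScalars A).toLinearMap.comp
        (IsScalarTower.toAlgHom A C B).toLinearMap

theorem kc_apply (c : C) : kc A C B c =
    (1 : B) ⊗ₜ[A] c - algebraMap C B c ⊗ₜ[A] (1 : C) := rfl

theorem mu_kc (c : C) : mu A C B (kc A C B c) = 0 := by
  rw [kc_apply, map_sub, mu_tmul, mu_tmul, map_one, mul_one, one_mul, sub_self]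

theorem sub_mu_mem (t : B ⊗[A] C) :
    t - (mu A C B t) ⊗ₜ[A] (1 : C) ∈ Ideal.span (Set.range (kc A C B)) := by
  induction t using TensorProduct.induction_on with
  | zero => simp
  | tmul b c =>
    have h1 : b ⊗ₜ[A] c - (mu A C B (b ⊗ₜ[A] c)) ⊗ₜ[A] (1 : C) =
        (b ⊗ₜ[A] (1 : C)) * kc A C B c := by
      rw [mu_tmul, kc_apply, mul_sub, Algebra.TensorProduct.tmul_mul_tmul,
        Algebra.TensorProduct.tmul_mul_tmul]
      simp
    rw [h1]
    exact Ideal.mul_mem_left _ _ (Ideal.subset_span ⟨c, rfl⟩)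
  | add x y hx hy =>
    have h1 : x + y - (mu A C B (x + y)) ⊗ₜ[A] (1 : C) =
        (x - mu A C B x ⊗ₜ[A] (1 : C)) + (y - mu A C B y ⊗ₜ[A] (1 : C)) := by
      rw [map_add, TensorProduct.add_tmul]; abel
    rw [h1]
    exact Ideal.add_mem _ hx hy

variable (h : C) [IsLocalization.Away h B] [Algebra.FormallyUnramified A B]

include h in
theorem kc_mem_sq (c : C) :
    kc A C B c ∈ RingHom.ker (mu A C B) * RingHom.ker (mu A C B) := by
  have h1 := sub_mem_sq h (RingHom.ker (mu A C B))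
    ((Algebra.TensorProduct.includeLeft : B →ₐ[B] B ⊗[A] C).restrictScalars A)
    (Algebra.TensorProduct.includeRight : C →ₐ[A] B ⊗[A] C)
    (fun c => by
      rw [RingHom.mem_ker]
      show mu A C B (algebraMap C B c ⊗ₜ[A] (1 : C) - (1 : B) ⊗ₜ[A] c) = 0
      rw [map_sub, mu_tmul, mu_tmul, map_one, mul_one, one_mul, sub_self]) c
  rw [kc_apply, ← neg_sub]
  exact neg_mem h1

include h in
theorem exists_idem [Module.Finite A C] :
    ∃ e : B ⊗[A] C, IsIdempotentElem e ∧ mu A C B e = 1 ∧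
      ∀ t, mu A C B t = 0 → e * t = 0 := by
  classical
  obtain ⟨K, hK⟩ : ∃ K : Ideal (B ⊗[A] C), K = RingHom.ker (mu A C B) :=
    ⟨_, rfl⟩
  have hmemK : ∀ t, t ∈ K ↔ mu A C B t = 0 := fun t => by rw [hK, RingHom.mem_ker]
  have hKspan : K = Ideal.span (Set.range (kc A C B)) := by
    apply le_antisymm
    · intro t ht
      have h1 := sub_mu_mem t
      rw [(hmemK t).mp ht, TensorProduct.zero_tmul, sub_zero] at h1
      exact h1
    · refine Ideal.span_le.mpr ?_
      rintro _ ⟨c, rfl⟩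
      exact (hmemK _).mpr (mu_kc c)
  have hidem : IsIdempotentElem K := by
    apply le_antisymm Ideal.mul_le_right
    intro t ht
    rw [hKspan] at ht
    have h2 : Ideal.span (Set.range (kc A C B)) ≤ K * K := by
      refine Ideal.span_le.mpr ?_
      rintro _ ⟨c, rfl⟩
      rw [hK]
      exact kc_mem_sq h c
    exact h2 ht
  have hfg : K.FG := by
    obtain ⟨S, hS⟩ := (Module.Finite.fg_top : (⊤ : Submodule A C).FG)
    have h1 : K = Ideal.span (kc A C B '' (S : Set C)) := by
      apply le_antisymm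
      · rw [hKspan]
        refine Ideal.span_le.mpr ?_
        rintro _ ⟨c, rfl⟩
        have h2 : (⊤ : Submodule A C) ≤ Submodule.comap (kc A C B)
            ((Ideal.span (kc A C B '' (S : Set C))).restrictScalars A) := by
          rw [← hS, Submodule.span_le]
          intro s hs
          exact Ideal.subset_span ⟨s, hs, rfl⟩
        exact h2 (Submodule.mem_top : c ∈ ⊤)
      · refine Ideal.span_le.mpr ?_
        rintro _ ⟨c, -, rfl⟩
        exact (hmemK _).mpr (mu_kc c)
    rw [h1]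
    exact Submodule.fg_span (S.finite_toSet.image _)
  obtain ⟨ε, hε, hKε⟩ := (Ideal.isIdempotentElem_iff_of_fg K hfg).mp hidem
  have hεK : ε ∈ K := by rw [hKε]; exact Ideal.mem_span_singleton_self ε
  refine ⟨1 - ε, hε.one_sub, ?_, ?_⟩
  · rw [map_sub, map_one, (hmemK ε).mp hεK, sub_zero]
  · intro t ht
    have h1 : t ∈ K := (hmemK t).mpr ht
    rw [hKε] at h1
    obtain ⟨a, rfl⟩ := Ideal.mem_span_singleton'.mp h1
    calc (1 - ε) * (a * ε) = a * (ε - ε * ε) := by ring
      _ = 0 := by rw [hε.eq, sub_self, mul_zero]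

end L2

theorem main_B {A C : Type u} [CommRing A] [CommRing C] [Algebra A C] [Module.Finite A C]
    [Module.Projective A C] (h : C) {B : Type u} [CommRing B] [Algebra A B] [Algebra C B]
    [IsScalarTower A C B] [IsLocalization.Away h B] [Algebra.Etale A B] (J : Ideal C) :
    ∃ J' : Ideal B,
      (FlatCA.fittingZero A (C ⧸ J)).map (algebraMap A B) =
        J.map (algebraMap C B) * J' ∧
      (J.FG → (FlatCA.fittingZero A (C ⧸ J)).FG ∧ J'.FG) := by
  classical
  obtain ⟨e, he, hmue, hek⟩ := exists_idem (A := A) (B := B) h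
  have hfz : FlatCA.fittingZero A (C ⧸ J) = Fitt.ideal A (C ⧸ J) 0 := fittingZero_eq _ _
  obtain ⟨π, hπ⟩ : ∃ π : (B ⊗[A] C) →ₐ[B]
      (B ⊗[A] (C ⧸ J)),
      π = Algebra.TensorProduct.map (AlgHom.id _ _) (Ideal.Quotient.mkₐ A J) := ⟨_, rfl⟩
  have hπtmul : ∀ (b : B) (c : C),
      π (b ⊗ₜ[A] c) = b ⊗ₜ[A] (Ideal.Quotient.mk J c) := fun b c => by rw [hπ]; rfl
  have hπsurj : Function.Surjective π := by
    intro q
    induction q using TensorProduct.induction_on with
    | zero => exact ⟨0, map_zero _⟩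
    | tmul b q =>
      obtain ⟨c, rfl⟩ := Ideal.Quotient.mk_surjective q
      exact ⟨b ⊗ₜ c, hπtmul b c⟩
    | add x y hx hy =>
      obtain ⟨x', rfl⟩ := hx
      obtain ⟨y', rfl⟩ := hy
      exact ⟨x' + y', map_add _ _ _⟩
  have hπker : ∀ y, π y = 0 ↔
      y ∈ J.map (Algebra.TensorProduct.includeRight : C →ₐ[A] B ⊗[A] C) := by
    have h1 := Algebra.TensorProduct.lTensor_ker (A := B)
      (Ideal.Quotient.mkₐ A J) (Ideal.Quotient.mkₐ_surjective A J)
    have h2 : ∀ y, π y = (Algebra.TensorProduct.map (AlgHom.id A (B))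
        (Ideal.Quotient.mkₐ A J)) y := by
      intro y
      induction y using TensorProduct.induction_on with
      | zero => rw [map_zero, map_zero]
      | tmul b c => rw [hπtmul]; rfl
      | add x y hx hy => rw [map_add, map_add, hx, hy]
    have hk : RingHom.ker (Ideal.Quotient.mkₐ A J) = J := by
      ext x
      rw [RingHom.mem_ker, Ideal.Quotient.mkₐ_eq_mk, Ideal.Quotient.eq_zero_iff_mem]
    intro y
    rw [h2, ← RingHom.mem_ker, h1, hk]
  obtain ⟨m₁, hm₁⟩ : ∃ m₁ : B ⊗[A] (C ⧸ J), m₁ = π e := ⟨_, rfl⟩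
  obtain ⟨M₂, hM₂⟩ : ∃ M₂ : Submodule (B) (B ⊗[A] (C ⧸ J)),
      M₂ = LinearMap.range (π.toLinearMap.comp
        (LinearMap.mulLeft (B) (1 - e))) := ⟨_, rfl⟩
  have hmemM₂ : ∀ t, π ((1 - e) * t) ∈ M₂ := fun t => by rw [hM₂]; exact ⟨t, rfl⟩
  have hM₂mem : ∀ y ∈ M₂, ∃ t, π ((1 - e) * t) = y := fun y hy => by
    rw [hM₂] at hy
    obtain ⟨t, ht⟩ := hy
    exact ⟨t, ht⟩
  haveI : Module.Finite (B) M₂ := by rw [hM₂]; infer_instance
  have hmul : ∀ t, e * t = (mu A C B t) • e := by
    intro t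
    have h1 : mu A C B (t - (mu A C B t) • (1 : B ⊗[A] C)) = 0 := by
      rw [map_sub, map_smul, map_one, smul_eq_mul, mul_one, sub_self]
    have h2 := hek _ h1
    rw [mul_sub, sub_eq_zero, mul_smul_comm, mul_one] at h2
    exact h2
  have hsmulπ : ∀ (b : B), b • m₁ = π (b • e) := fun b => by
    rw [hm₁, map_smul]
  have hee : e * e = e := he.eq
  have hsup : ∀ q, ∃ (b : B) (y : B ⊗[A] (C ⧸ J)),
      y ∈ M₂ ∧ q = b • m₁ + y := by
    intro q
    obtain ⟨t, rfl⟩ := hπsurj q
    refine ⟨mu A C B t, π ((1 - e) * t), hmemM₂ t, ?_⟩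
    rw [hsmulπ, ← hmul, ← map_add]
    congr 1
    ring
  have hinf : ∀ (b : B) (y : B ⊗[A] (C ⧸ J)),
      y ∈ M₂ → b • m₁ = y → y = 0 := by
    intro b y hy hby
    obtain ⟨t, rfl⟩ := hM₂mem y hy
    rw [hsmulπ] at hby
    have h1 : π (e * (b • e)) = π (e * ((1 - e) * t)) := by rw [map_mul, map_mul, hby]
    have h2 : e * (b • e) = b • e := by rw [mul_smul_comm, hee]
    have h3 : e * ((1 - e) * t) = 0 := by
      calc e * ((1 - e) * t) = (e - e * e) * t := by ring
        _ = 0 := by rw [hee, sub_self, zero_mul]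
    rw [h2, h3, map_zero] at h1
    rw [← hby, h1]
  have hmusurj : Function.Surjective (mu A C B) :=
    fun b => ⟨b ⊗ₜ 1, by rw [mu_tmul, map_one, mul_one]⟩
  have hmap : (J.map (Algebra.TensorProduct.includeRight :
      C →ₐ[A] B ⊗[A] C)).map (mu A C B) =
      J.map (algebraMap C (B)) := by
    apply le_antisymm
    · refine Ideal.map_le_iff_le_comap.mpr (Ideal.map_le_iff_le_comap.mpr (fun j hj => ?_))
      have h2 : mu A C B ((Algebra.TensorProduct.includeRight :
          C →ₐ[A] B ⊗[A] C) j) = algebraMap C (B) j := by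
        show mu A C B ((1 : B) ⊗ₜ[A] j) = _
        rw [mu_tmul, one_mul]
      rw [Ideal.mem_comap, Ideal.mem_comap, h2]
      exact Ideal.mem_map_of_mem _ hj
    · refine Ideal.map_le_iff_le_comap.mpr (fun j hj => ?_)
      have h1 := Ideal.mem_map_of_mem (mu A C B) (Ideal.mem_map_of_mem
        (Algebra.TensorProduct.includeRight : C →ₐ[A] B ⊗[A] C) hj)
      have h2 : mu A C B ((Algebra.TensorProduct.includeRight :
          C →ₐ[A] B ⊗[A] C) j) = algebraMap C (B) j := by
        show mu A C B ((1 : B) ⊗ₜ[A] j) = _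
        rw [mu_tmul, one_mul]
      rw [h2] at h1
      exact h1
  have h𝔞 : ∀ b : B,
      b • m₁ = 0 ↔ b ∈ J.map (algebraMap C (B)) := by
    intro b
    rw [hsmulπ, hπker, ← hmap]
    constructor
    · intro hb
      have h1 := Ideal.mem_map_of_mem (mu A C B) hb
      rwa [map_smul, hmue, smul_eq_mul, mul_one] at h1
    · intro hb
      obtain ⟨y, hy, rfl⟩ := (Ideal.mem_map_iff_of_surjective (mu A C B) hmusurj).mp hb
      rw [← hmul]
      exact Ideal.mul_mem_left _ _ hy
  have hL1 := fitt_zero_cyclic_compl m₁ M₂ hsup hinf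
    (J.map (algebraMap C (B))) h𝔞
  have hbc := ideal_baseChange (R := A) (B) (C ⧸ J) 0
  refine ⟨Fitt.ideal (B) M₂ 0, ?_, fun hJ => ?_⟩
  · rw [hfz, ← hbc, hL1]
  · haveI : Module.FinitePresentation A C := Module.finitePresentation_of_projective A C
    haveI : Module.FinitePresentation C (C ⧸ J) :=
      Module.finitePresentation_of_surjective (Submodule.mkQ J) (Submodule.mkQ_surjective J)
        (by rw [Submodule.ker_mkQ]; exact hJ)
    haveI : Module.FinitePresentation A (C ⧸ J) := Module.FinitePresentation.trans A (C ⧸ J) C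
    refine ⟨by rw [hfz]; exact fitt_fg (C ⧸ J) 0, ?_⟩
    have hcompl : IsCompl M₂ (Submodule.span (B) {m₁}) := by
      refine IsCompl.of_eq ?_ ?_
      · rw [Submodule.eq_bot_iff]
        rintro z ⟨hz1, hz2⟩
        obtain ⟨b, hb⟩ := Submodule.mem_span_singleton.mp hz2
        exact hinf b z hz1 hb
      · rw [eq_top_iff]
        rintro q -
        obtain ⟨b, y, hy, rfl⟩ := hsup q
        rw [add_comm]
        exact Submodule.add_mem_sup hy
          (Submodule.smul_mem _ _ (Submodule.mem_span_singleton_self _))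
    haveI : Module.FinitePresentation (B)
        (B ⊗[A] (C ⧸ J)) := inferInstance
    have hker : LinearMap.ker (Submodule.projectionOnto M₂
        (Submodule.span (B) {m₁}) hcompl) =
        Submodule.span (B) {m₁} := Submodule.ker_projectionOnto hcompl
    obtain ⟨l, hl⟩ : ∃ l : (B ⊗[A] (C ⧸ J)) →ₗ[B] M₂,
        l = Submodule.projectionOnto M₂ (Submodule.span (B) {m₁}) hcompl :=
      ⟨_, rfl⟩
    have hlsurj : Function.Surjective l := by
      rw [hl]; exact Submodule.projectionOnto_surjective hcompl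
    have hlker : (LinearMap.ker l).FG := by
      rw [hl, hker]; exact Submodule.fg_span_singleton _
    haveI : Module.FinitePresentation (B) M₂ := by
      have h9 := @Module.finitePresentation_of_surjective B (B ⊗[A] (C ⧸ J)) M₂ _ _ _ _ _ _
        l hlsurj hlker
      exact h9
    exact fitt_fg M₂ 0

theorem main_S1291 {A C : Type u} [CommRing A] [CommRing C] [Algebra A C] [Module.Finite A C]
    [Module.Projective A C] (h : C) [Algebra.Etale A (Localization.Away h)] (J : Ideal C) :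
    ∃ J' : Ideal (Localization.Away h),
      (FlatCA.fittingZero A (C ⧸ J)).map (algebraMap A (Localization.Away h)) =
        J.map (algebraMap C (Localization.Away h)) * J' ∧
      (J.FG → (FlatCA.fittingZero A (C ⧸ J)).FG ∧ J'.FG) :=
  main_B h (B := Localization.Away h) J

end Groth.Agent.H4.FittEt
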