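import Mathlib
import Groth.Prelude.Def_Grpd
import Groth.Agent.H4.FittMor4

set_option autoImplicit false
universe u
open CategoryTheory CategoryTheory.Limits AlgebraicGeometry TopologicalSpace

namespace Groth.Agent.H4.FittMor5
open Groth.Agent.H4.Fitting Groth.Agent.H4.FittMor1 Groth.Agent.H4.FittMor2 Groth.Agent.H4.FittMor3
  Groth.Agent.H4.FittMor4 Groth.Agent.H4.GrpdLib Groth.Agent.H4.GrpdLib10 Groth.Agent.H4.GrpdLib14

theorem exists_basicOpen_of_finite {X : Scheme.{u}} {A : X.Opens} (hA : IsAffineOpen A)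
    (O : Set X) (hO : IsOpen O) (F : Finset X) (hFA : ∀ x ∈ F, x ∈ A) (hFO : ∀ x ∈ F, x ∈ O) :
    ∃ f : Γ(X, A), (∀ x ∈ F, x ∈ X.basicOpen f) ∧ (X.basicOpen f : Set X) ⊆ O := by
  classical
  by_cases hF : F = ∅
  · subst hF
    refine ⟨0, by simp, ?_⟩
    rw [Scheme.basicOpen_zero]
    simp
  obtain ⟨x₀, hx₀⟩ := Finset.nonempty_iff_ne_empty.mpr hF
  let I : Ideal Γ(X, A) := PrimeSpectrum.vanishingIdeal (⇑hA.fromSpec ⁻¹' Oᶜ)
  let P : {x // x ∈ F} → Ideal Γ(X, A) := fun x => (hA.primeIdealOf ⟨x.1, hFA x.1 x.2⟩).asIdeal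
  have hnot : ∀ x, ¬ I ≤ P x := by
    intro x hle
    have h1 : hA.primeIdealOf ⟨x.1, hFA x.1 x.2⟩ ∈ PrimeSpectrum.zeroLocus (I : Set Γ(X, A)) := by
      rw [PrimeSpectrum.mem_zeroLocus]; exact hle
    rw [PrimeSpectrum.zeroLocus_vanishingIdeal_eq_closure] at h1
    have hcl : IsClosed (X := PrimeSpectrum Γ(X, A)) (⇑hA.fromSpec ⁻¹' Oᶜ) :=
      hO.isClosed_compl.preimage hA.fromSpec.continuous
    have h2 : hA.fromSpec (hA.primeIdealOf ⟨x.1, hFA x.1 x.2⟩) ∈ Oᶜ := hcl.closure_subset h1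
    rw [hA.fromSpec_primeIdealOf] at h2
    exact h2 (hFO x.1 x.2)
  obtain ⟨f, hfI, hfP⟩ : ∃ f ∈ I, ∀ x, f ∉ P x := by
    have e0 : {x // x ∈ F} := ⟨x₀, hx₀⟩
    have h1 := (Ideal.subset_union_prime (s := Finset.univ) (f := P) e0 e0
      (fun x _ _ _ => (hA.primeIdealOf ⟨x.1, hFA x.1 x.2⟩).isPrime) (I := I)).not.mpr (by
        rintro ⟨x, -, hx⟩; exact hnot x hx)
    rw [Set.not_subset] at h1
    obtain ⟨f, hfI, hf⟩ := h1
    refine ⟨f, hfI, fun x hx => hf ?_⟩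
    exact Set.mem_biUnion (Finset.mem_coe.mpr (Finset.mem_univ x)) hx
  refine ⟨f, fun x hx => ?_, fun x hx => ?_⟩
  · rw [mem_basicOpen_iff hA f x (hFA x hx)]
    exact hfP ⟨x, hx⟩
  · by_contra hxO
    have hxA : x ∈ A := X.basicOpen_le f hx
    have h1 : hA.primeIdealOf ⟨x, hxA⟩ ∈ ⇑hA.fromSpec ⁻¹' Oᶜ := by
      show hA.fromSpec (hA.primeIdealOf ⟨x, hxA⟩) ∈ Oᶜ
      rw [hA.fromSpec_primeIdealOf]; exact hxO
    have h2 := (PrimeSpectrum.mem_vanishingIdeal _ _).mp hfI _ h1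
    exact (mem_basicOpen_iff hA f x hxA).mp hx h2

variable {S : Scheme.{u}} (G : Grpd.GroupoidScheme S) [IsFinite G.s]

theorem iW_apply (y : (W' G).subscheme) : iW G y = (W G).ι ((W' G).subschemeι y) := rfl

theorem iW_mem_W (y : (W' G).subscheme) : iW G y ∈ W G := ι_mem_W G _

theorem isAffineOpen_ι_preimage (D : G.U.Opens) (hD : IsAffineOpen D) (hDW : D ≤ W G) :
    IsAffineOpen ((W G).ι ⁻¹ᵁ D) := by
  rw [← (W G).ι.isAffineOpen_iff_of_isOpenImmersion, Scheme.Hom.image_preimage_eq_opensRange_inf,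
    Scheme.Opens.opensRange_ι, inf_eq_right.mpr hDW]
  exact hD

theorem isAffineOpen_iW_preimage (D : G.U.Opens) (hD : IsAffineOpen D) (hDW : D ≤ W G) :
    IsAffineOpen (iW G ⁻¹ᵁ D) :=
  (isAffineOpen_ι_preimage G D hD hDW).preimage (W' G).subschemeι

theorem iW_app_surjective (D : G.U.Opens) (hD : IsAffineOpen D) (hDW : D ≤ W G) :
    Function.Surjective ((iW G).app D).hom := by
  have h1 : (iW G).app D = (W G).ι.app D ≫ (W' G).subschemeι.app ((W G).ι ⁻¹ᵁ D) :=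
    Scheme.Hom.comp_app _ _ _
  haveI : IsIso ((W G).ι.app D) :=
    (W G).ι.isIso_app D (by rw [Scheme.Opens.opensRange_ι]; exact hDW)
  intro z
  obtain ⟨w, hw⟩ := (W' G).subschemeι_app_surjective ⟨_, isAffineOpen_ι_preimage G D hD hDW⟩ z
  obtain ⟨v, hv⟩ := (ConcreteCategory.bijective_of_isIso ((W G).ι.app D)).2 w
  refine ⟨v, ?_⟩
  rw [h1]
  show ((W' G).subschemeι.app ((W G).ι ⁻¹ᵁ D)).hom (((W G).ι.app D).hom v) = z
  rw [← hw, ← hv]

variable [IsFinite G.t]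

theorem iW_surjective_onto_W (x : G.U) (hx : x ∈ W G) : ∃ y, iW G y = x := by
  obtain ⟨x', rfl⟩ : x ∈ Set.range (W G).ι := by rw [Scheme.Opens.range_ι]; exact hx
  have : x' ∈ Set.range (W' G).subschemeι := by
    rw [Scheme.IdealSheafData.range_subschemeι, W'_support]; trivial
  obtain ⟨y, rfl⟩ := this
  exact ⟨y, rfl⟩

theorem exists_invariant_basicOpen (A : G.U.Opens) (hA : IsAffineOpen A) (hAW : A ≤ W G)
    (E : Finset G.U) (hE : ∀ e ∈ E, ∀ ρ : G.R, G.s ρ = e → G.t ρ ∈ A) :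
    ∃ f₂ : Γ(G.U, A), (∀ e ∈ E, e ∈ G.U.basicOpen f₂) ∧
      G.s ⁻¹ᵁ G.U.basicOpen f₂ = G.t ⁻¹ᵁ G.U.basicOpen f₂ := by
  classical
  have hfin : ∀ e : G.U, (⇑G.s ⁻¹' {e}).Finite := fun e => G.s.finite_preimage_singleton e
  let E' : Finset G.U := E.biUnion (fun e => ((hfin e).toFinset).image ⇑G.t)
  have hE' : ∀ v, v ∈ E' ↔ ∃ ρ : G.R, G.s ρ ∈ E ∧ G.t ρ = v := by
    intro v
    simp only [E', Finset.mem_biUnion, Finset.mem_image, Set.Finite.mem_toFinset,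
      Set.mem_preimage, Set.mem_singleton_iff]
    constructor
    · rintro ⟨e, he, ρ, hρ, rfl⟩; exact ⟨ρ, hρ ▸ he, rfl⟩
    · rintro ⟨ρ, hρ, rfl⟩; exact ⟨_, hρ, ρ, rfl, rfl⟩
  have hEW₁ : ∀ e ∈ E, e ∈ core G (A : Set G.U) := fun e he ρ hρ => hE e he ρ hρ
  have hE'W₁ : ∀ v ∈ E', v ∈ core G (A : Set G.U) := by
    intro v hv
    obtain ⟨ρ, hρ, rfl⟩ := (hE' v).mp hv
    exact (core_invariant G _ ρ).mp (hEW₁ _ hρ)
  obtain ⟨f, hfE', hfW₁⟩ := exists_basicOpen_of_finite hA (core G (A : Set G.U))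
    (isOpen_core G _ A.isOpen) E' (fun v hv => core_subset G _ (hE'W₁ v hv)) hE'W₁
  obtain ⟨φ, hφ⟩ := exists_iso_W' G
  obtain ⟨π, hπdef⟩ : ∃ π : pullback G.s (iW G) ⟶ (W' G).subscheme,
      π = pullback.snd G.s (iW G) := ⟨_, rfl⟩
  obtain ⟨β, hβdef⟩ : ∃ β : pullback G.s (iW G) ⟶ (W' G).subscheme,
      β = φ.hom ≫ pullback.snd G.t (iW G) := ⟨_, rfl⟩
  have hβ : β ≫ iW G = pullback.fst G.s (iW G) ≫ G.t := by
    rw [hβdef, Category.assoc, ← pullback.condition, ← Category.assoc, hφ]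
  have hπcond : pullback.fst G.s (iW G) ≫ G.s = π ≫ iW G := by
    rw [hπdef]; exact pullback.condition
  have hπpt : ∀ p : ↑(pullback G.s (iW G)), G.s (pullback.fst G.s (iW G) p) = iW G (π p) := by
    intro p
    rw [← Scheme.Hom.comp_apply, ← Scheme.Hom.comp_apply, hπcond]
  have hβpt : ∀ p : ↑(pullback G.s (iW G)), G.t (pullback.fst G.s (iW G) p) = iW G (β p) := by
    intro p
    rw [← Scheme.Hom.comp_apply, ← Scheme.Hom.comp_apply, hβ]
  obtain ⟨h1, h2, h3⟩ := isFinLocFree_snd_s G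
  rw [← hπdef] at h1 h2 h3
  haveI : IsFinite π := h1
  haveI : Flat π := h2
  haveI : LocallyOfFinitePresentation π := h3
  obtain ⟨D, hDdef⟩ : ∃ D : G.U.Opens, D = G.U.basicOpen f := ⟨_, rfl⟩
  have hDaff : IsAffineOpen D := by rw [hDdef]; exact hA.basicOpen f
  have hDA : D ≤ A := by rw [hDdef]; exact G.U.basicOpen_le f
  have hDcore : (D : Set G.U) ⊆ core G (A : Set G.U) := by rw [hDdef]; exact hfW₁
  have hAY : IsAffineOpen (iW G ⁻¹ᵁ A) := isAffineOpen_iW_preimage G A hA hAW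
  have hDY : IsAffineOpen (iW G ⁻¹ᵁ D) := isAffineOpen_iW_preimage G D hDaff (hDA.trans hAW)
  have hDYeq : iW G ⁻¹ᵁ D = (W' G).subscheme.basicOpen ((iW G).app A f) := by
    rw [hDdef, Scheme.preimage_basicOpen]
  have hle : π ⁻¹ᵁ (iW G ⁻¹ᵁ D) ≤ β ⁻¹ᵁ (iW G ⁻¹ᵁ A) := by
    intro p hp
    show iW G (β p) ∈ A
    rw [← hβpt]
    have h4 : iW G (π p) ∈ D := hp
    rw [← hπpt] at h4
    exact hDcore h4 _ rfl
  obtain ⟨h, hh⟩ : ∃ h : Γ(pullback G.s (iW G), π ⁻¹ᵁ (iW G ⁻¹ᵁ D)),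
      (pullback G.s (iW G)).basicOpen h = π ⁻¹ᵁ (iW G ⁻¹ᵁ D) ⊓ β ⁻¹ᵁ (iW G ⁻¹ᵁ D) := by
    refine ⟨(pullback G.s (iW G)).presheaf.map (homOfLE hle).op
      (β.app (iW G ⁻¹ᵁ A) ((iW G).app A f)), ?_⟩
    rw [Scheme.basicOpen_res, ← Scheme.preimage_basicOpen, ← hDYeq]
  obtain ⟨g, hg⟩ := exists_norm_section π (iW G ⁻¹ᵁ D) hDY h
  have hchar : ∀ y, y ∈ iW G ⁻¹ᵁ D →
      (y ∈ (W' G).subscheme.basicOpen g ↔ iW G y ∈ core G (D : Set G.U)) := by
    intro y hy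
    rw [hg y hy]
    constructor
    · intro hall ρ hρ
      obtain ⟨p, hp1, hp2⟩ := Scheme.Pullback.exists_preimage_pullback (f := G.s) (g := iW G) ρ y hρ
      have hp := hall p (by rw [hπdef]; exact hp2)
      rw [hh] at hp
      have h4 : iW G (β p) ∈ D := hp.2
      rw [← hβpt, hp1] at h4
      exact h4
    · intro hcore p hp
      rw [hh]
      refine ⟨by show π p ∈ iW G ⁻¹ᵁ D; rw [hp]; exact hy, ?_⟩
      show iW G (β p) ∈ D
      rw [← hβpt]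
      exact hcore _ (by rw [hπpt, hp])
  obtain ⟨g₁, hg₁⟩ := iW_app_surjective G D hDaff (hDA.trans hAW) g
  have hpre : iW G ⁻¹ᵁ (G.U.basicOpen g₁) = (W' G).subscheme.basicOpen g := by
    rw [Scheme.preimage_basicOpen]
    exact congrArg _ hg₁
  have hchar₁ : ∀ x, x ∈ G.U.basicOpen g₁ ↔ x ∈ core G (D : Set G.U) := by
    intro x
    constructor
    · intro hx
      have hxD : x ∈ D := G.U.basicOpen_le g₁ hx
      obtain ⟨y, rfl⟩ := iW_surjective_onto_W G x (hAW (hDA hxD))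
      have hy : y ∈ (W' G).subscheme.basicOpen g := by rw [← hpre]; exact hx
      exact (hchar y hxD).mp hy
    · intro hx
      have hxD : x ∈ D := core_subset G _ hx
      obtain ⟨y, rfl⟩ := iW_surjective_onto_W G x (hAW (hDA hxD))
      have h5 := (hchar y hxD).mpr hx
      rw [← hpre] at h5
      exact h5
  subst hDdef
  obtain ⟨n, a, ha⟩ := exists_eq_pow_mul_of_isAffineOpen G.U A hA f g₁
  have hbo : G.U.basicOpen (f * a) = G.U.basicOpen g₁ := by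
    have hu : IsUnit (f |_ G.U.basicOpen f) := RingedSpace.isUnit_res_basicOpen _ f
    have e1 : G.U.basicOpen (a |_ G.U.basicOpen f) = G.U.basicOpen f ⊓ G.U.basicOpen a :=
      G.U.basicOpen_res a _
    have e2 : G.U.basicOpen ((f |_ G.U.basicOpen f) ^ n * g₁) = G.U.basicOpen g₁ := by
      rw [Scheme.basicOpen_mul, Scheme.basicOpen_of_isUnit _ (hu.pow n), inf_eq_right]
      exact G.U.basicOpen_le g₁
    rw [Scheme.basicOpen_mul, ← e1, ha, e2]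
  refine ⟨f * a, ?_, ?_⟩
  · intro e he
    rw [hbo, hchar₁]
    intro ρ hρ
    exact hfE' _ ((hE' _).mpr ⟨ρ, hρ ▸ he, rfl⟩)
  · ext ρ
    show G.s ρ ∈ G.U.basicOpen (f * a) ↔ G.t ρ ∈ G.U.basicOpen (f * a)
    rw [hbo, hchar₁, hchar₁]
    exact core_invariant G _ ρ

end Groth.Agent.H4.FittMor5
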