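import Mathlib
import Groth.Prelude.Def_Grpd
import Groth.Agent.H4.FittMor5

set_option autoImplicit false
universe u
open CategoryTheory CategoryTheory.Limits AlgebraicGeometry TopologicalSpace

namespace Groth.Agent.H4.FittMor7
open Groth.Agent.H4.Fitting Groth.Agent.H4.FittMor1 Groth.Agent.H4.FittMor2 Groth.Agent.H4.FittMor3
  Groth.Agent.H4.FittMor4 Groth.Agent.H4.FittMor5 Groth.Agent.H4.GrpdLib Groth.Agent.H4.GrpdLib10
  Groth.Agent.H4.GrpdLib14

section Orb
variable {S : Scheme.{u}} (G : Grpd.GroupoidScheme S) [IsFinite G.s] [IsFinite G.t]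
  [LocallyOfFinitePresentation G.s]

/-- the (finite) orbit of finitely many points whose orbit consists of generic points -/
theorem orbit_finset (m : ℕ) (u : Fin m → G.U)
    (hu : ∀ i (r : G.R), G.s r = u i → ∀ x : G.U, x ⤳ G.t r → x = G.t r) :
    ∃ E : Finset G.U, (∀ i, u i ∈ E) ∧ (∀ v ∈ E, ∀ ρ : G.R, G.s ρ = v → G.t ρ ∈ E) ∧
      (∀ v ∈ E, v ∈ W G) ∧ ∀ v ∈ E, ∀ x : G.U, x ⤳ v → x = v := by
  classical
  have hfin : ∀ e : G.U, (⇑G.s ⁻¹' {e}).Finite := fun e => G.s.finite_preimage_singleton e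
  let E : Finset G.U := (Finset.univ : Finset (Fin m)).biUnion
    (fun i => ((hfin (u i)).toFinset).image ⇑G.t)
  have hEmem : ∀ v, v ∈ E ↔ ∃ (i : Fin m) (ρ : G.R), G.s ρ = u i ∧ G.t ρ = v := by
    intro v
    simp only [E, Finset.mem_biUnion, Finset.mem_univ, true_and, Finset.mem_image,
      Set.Finite.mem_toFinset, Set.mem_preimage, Set.mem_singleton_iff]
  refine ⟨E, fun i => (hEmem _).mpr ⟨i, G.e (u i), e_s_apply G _, e_t_apply G _⟩, ?_, ?_, ?_⟩
  · intro v hv ρ hρ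
    obtain ⟨i, ρ₀, h1, h2⟩ := (hEmem v).mp hv
    obtain ⟨r, hr1, hr2⟩ := exists_comp_point G ρ ρ₀ (by rw [hρ, h2])
    exact (hEmem _).mpr ⟨i, r, by rw [hr2, h1], hr1⟩
  · intro v hv
    obtain ⟨i, ρ, h1, h2⟩ := (hEmem v).mp hv
    rw [← h2]
    exact (W_invariant_pt G ρ).mp (by rw [h1]; exact mem_W_of_generic G (u i) (hu i))
  · intro v hv x hx
    obtain ⟨i, ρ, h1, h2⟩ := (hEmem v).mp hv
    subst h2
    exact hu i ρ h1 x hx

end Orb

section Gen
variable {X R : Scheme.{u}}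

theorem isFinLocFree_of_factor {Z₁ Z₂ : Scheme.{u}} (a : R ⟶ X) (i₂ : Z₂ ⟶ X) (g : Z₁ ⟶ Z₂)
    (h : Mor2.IsFinLocFree (pullback.snd a i₂)) : Mor2.IsFinLocFree (pullback.snd a (g ≫ i₂)) := by
  obtain ⟨l, hl⟩ : ∃ l : pullback a (g ≫ i₂) ⟶ pullback a i₂,
      l = pullback.lift (pullback.fst a (g ≫ i₂)) (pullback.snd a (g ≫ i₂) ≫ g)
        (by rw [pullback.condition, Category.assoc]) := ⟨_, rfl⟩
  have hl1 : l ≫ pullback.fst a i₂ = pullback.fst a (g ≫ i₂) := by rw [hl, pullback.lift_fst]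
  have hl2 : l ≫ pullback.snd a i₂ = pullback.snd a (g ≫ i₂) ≫ g := by rw [hl, pullback.lift_snd]
  have hpb : IsPullback l (pullback.snd a (g ≫ i₂)) (pullback.snd a i₂) g := by
    refine IsPullback.of_right ?_ hl2 (IsPullback.of_hasPullback a i₂)
    rw [hl1]
    exact IsPullback.of_hasPullback a (g ≫ i₂)
  obtain ⟨h1, h2, h3⟩ := h
  exact ⟨MorphismProperty.of_isPullback (P := @IsFinite) hpb h1,
    MorphismProperty.of_isPullback (P := @Flat) hpb h2,
    MorphismProperty.of_isPullback (P := @LocallyOfFinitePresentation) hpb h3⟩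

theorem isFinLocFree_of_factor' {Z₁ Z₂ : Scheme.{u}} (a : R ⟶ X) (i₁ : Z₁ ⟶ X) (i₂ : Z₂ ⟶ X)
    (g : Z₁ ⟶ Z₂) (hg : g ≫ i₂ = i₁) (h : Mor2.IsFinLocFree (pullback.snd a i₂)) :
    Mor2.IsFinLocFree (pullback.snd a i₁) := by
  subst hg
  exact isFinLocFree_of_factor a i₂ g h

variable {Wt Vt : Scheme.{u}} (w : Wt ⟶ X) (v : Vt ⟶ X) (f : Vt ⟶ Wt) (I : Wt.IdealSheafData)

/-- the map of closed subschemes induced by `f` -/
noncomputable def gmap : (I.comap f).subscheme ⟶ I.subscheme :=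
  (I.comapIso f).hom ≫ pullback.snd f I.subschemeι

theorem gmap_ι : gmap f I ≫ I.subschemeι = (I.comap f).subschemeι ≫ f := by
  unfold gmap
  rw [Category.assoc, ← pullback.condition, ← Category.assoc,
    Scheme.IdealSheafData.comapIso_hom_fst]

theorem isPullback_gmap : IsPullback (I.comap f).subschemeι (gmap f I) f I.subschemeι :=
  IsPullback.of_iso_pullback ⟨(gmap_ι f I).symm⟩ (I.comapIso f)
    (Scheme.IdealSheafData.comapIso_hom_fst I f) rfl

theorem gmap_comp (hf : f ≫ w = v) :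
    gmap f I ≫ I.subschemeι ≫ w = (I.comap f).subschemeι ≫ v := by
  rw [← Category.assoc, gmap_ι, Category.assoc, hf]

theorem lfp_comap_subschemeι [LocallyOfFinitePresentation I.subschemeι] :
    LocallyOfFinitePresentation (I.comap f).subschemeι :=
  MorphismProperty.of_isPullback (P := @LocallyOfFinitePresentation) (isPullback_gmap f I).flip
    inferInstance

theorem exists_lift_sub [Mono w] [IsOpenImmersion v] (hf : f ≫ w = v) (a b : R ⟶ X)
    (ψ : pullback a (I.subschemeι ≫ w) ⟶ pullback b (I.subschemeι ≫ w))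
    (hψ : ψ ≫ pullback.fst b (I.subschemeι ≫ w) = pullback.fst a (I.subschemeι ≫ w))
    (hinv : ∀ ρ : R, a ρ ∈ Set.range v → b ρ ∈ Set.range v) :
    ∃ ψ' : pullback a ((I.comap f).subschemeι ≫ v) ⟶ pullback b ((I.comap f).subschemeι ≫ v),
      ψ' ≫ pullback.fst b ((I.comap f).subschemeι ≫ v) =
        pullback.fst a ((I.comap f).subschemeι ≫ v) := by
  obtain ⟨l, hl⟩ : ∃ l : pullback a ((I.comap f).subschemeι ≫ v) ⟶ pullback a (I.subschemeι ≫ w),
      l ≫ pullback.fst a (I.subschemeι ≫ w) = pullback.fst a ((I.comap f).subschemeι ≫ v) :=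
    ⟨pullback.lift (pullback.fst a _) (pullback.snd a _ ≫ gmap f I)
      (by rw [pullback.condition]; simp only [Category.assoc]; rw [gmap_comp w v f I hf]),
      pullback.lift_fst _ _ _⟩
  obtain ⟨γ, hγ⟩ : ∃ γ : pullback a ((I.comap f).subschemeι ≫ v) ⟶ I.subscheme,
      γ ≫ I.subschemeι ≫ w = pullback.fst a ((I.comap f).subschemeι ≫ v) ≫ b := by
    refine ⟨l ≫ ψ ≫ pullback.snd b (I.subschemeι ≫ w), ?_⟩
    calc (l ≫ ψ ≫ pullback.snd b (I.subschemeι ≫ w)) ≫ I.subschemeι ≫ w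
        = l ≫ ψ ≫ (pullback.snd b (I.subschemeι ≫ w) ≫ I.subschemeι ≫ w) := by
          simp only [Category.assoc]
      _ = l ≫ ψ ≫ (pullback.fst b (I.subschemeι ≫ w) ≫ b) := by rw [pullback.condition]
      _ = (l ≫ (ψ ≫ pullback.fst b (I.subschemeι ≫ w))) ≫ b := by simp only [Category.assoc]
      _ = _ := by rw [hψ, hl]
  have hrange : Set.range ⇑(pullback.fst a ((I.comap f).subschemeι ≫ v) ≫ b) ⊆ Set.range ⇑v := by
    rintro _ ⟨p, rfl⟩
    rw [Scheme.Hom.comp_apply]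
    apply hinv
    have h1 : a (pullback.fst a ((I.comap f).subschemeι ≫ v) p) =
        ((I.comap f).subschemeι ≫ v) (pullback.snd a ((I.comap f).subschemeι ≫ v) p) := by
      rw [← Scheme.Hom.comp_apply, ← Scheme.Hom.comp_apply, pullback.condition]
    rw [h1, Scheme.Hom.comp_apply]
    exact ⟨_, rfl⟩
  obtain ⟨δ, hδ⟩ : ∃ δ : pullback a ((I.comap f).subschemeι ≫ v) ⟶ Vt,
      δ ≫ v = pullback.fst a ((I.comap f).subschemeι ≫ v) ≫ b :=
    ⟨IsOpenImmersion.lift v _ hrange, IsOpenImmersion.lift_fac _ _ _⟩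
  have hδγ : δ ≫ f = γ ≫ I.subschemeι := by
    rw [← cancel_mono w, Category.assoc, hf, hδ, Category.assoc, hγ]
  obtain ⟨β, hβ1, hβ2⟩ : ∃ β : pullback a ((I.comap f).subschemeι ≫ v) ⟶ (I.comap f).subscheme,
      β ≫ (I.comap f).subschemeι = δ ∧ β ≫ gmap f I = γ :=
    ⟨(isPullback_gmap f I).lift δ γ hδγ, (isPullback_gmap f I).lift_fst _ _ _,
      (isPullback_gmap f I).lift_snd _ _ _⟩
  refine ⟨pullback.lift (pullback.fst a _) β ?_, pullback.lift_fst _ _ _⟩
  rw [← Category.assoc, hβ1, hδ]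

theorem exists_iso_sub [Mono w] [IsOpenImmersion v] (hf : f ≫ w = v) (a b : R ⟶ X)
    (φ : pullback a (I.subschemeι ≫ w) ≅ pullback b (I.subschemeι ≫ w))
    (hφ : φ.hom ≫ pullback.fst b (I.subschemeι ≫ w) = pullback.fst a (I.subschemeι ≫ w))
    (hinv : ∀ ρ : R, a ρ ∈ Set.range v ↔ b ρ ∈ Set.range v) :
    ∃ φ' : pullback a ((I.comap f).subschemeι ≫ v) ≅ pullback b ((I.comap f).subschemeι ≫ v),
      φ'.hom ≫ pullback.fst b ((I.comap f).subschemeι ≫ v) =
        pullback.fst a ((I.comap f).subschemeι ≫ v) := by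
  have hφ' : φ.inv ≫ pullback.fst a (I.subschemeι ≫ w) = pullback.fst b (I.subschemeι ≫ w) := by
    rw [← hφ, Iso.inv_hom_id_assoc]
  obtain ⟨ψ₁, h₁⟩ := exists_lift_sub w v f I hf a b φ.hom hφ (fun ρ => (hinv ρ).mp)
  obtain ⟨ψ₂, h₂⟩ := exists_lift_sub w v f I hf b a φ.inv hφ' (fun ρ => (hinv ρ).mpr)
  refine ⟨⟨ψ₁, ψ₂, ?_, ?_⟩, h₁⟩
  · rw [← cancel_mono (pullback.fst a ((I.comap f).subschemeι ≫ v)), Category.assoc, h₂, h₁,
      Category.id_comp]
  · rw [← cancel_mono (pullback.fst b ((I.comap f).subschemeι ≫ v)), Category.assoc, h₁, h₂,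
      Category.id_comp]

/-- finitely many generic points inside an open of a quasi-separated scheme lie in an affine open
contained in that open -/
theorem exists_affine_of_generic {X : Scheme.{u}} [QuasiSeparatedSpace X] (O : X.Opens)
    (E : Finset X) (hEO : ∀ e ∈ E, e ∈ O) (hgen : ∀ e ∈ E, ∀ x : X, x ⤳ e → x = e) :
    ∃ A : X.Opens, IsAffineOpen A ∧ A ≤ O ∧ ∀ e ∈ E, e ∈ A := by
  classical
  induction E using Finset.induction_on with
  | empty => exact ⟨⊥, isAffineOpen_bot X, bot_le, fun e he => absurd he (Finset.notMem_empty e)⟩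
  | insert e E' he ih =>
    obtain ⟨A', hA', hA'O, hE'⟩ := ih (fun x hx => hEO x (Finset.mem_insert_of_mem hx))
      (fun x hx => hgen x (Finset.mem_insert_of_mem hx))
    by_cases heA : e ∈ A'
    · refine ⟨A', hA', hA'O, fun x hx => ?_⟩
      rcases Finset.mem_insert.mp hx with rfl | hx
      · exact heA
      · exact hE' x hx
    · haveI : IsAffine A'.toScheme := hA'
      haveI : QuasiCompact A'.ι := inferInstance
      have hecl : e ∉ closure (A' : Set X) := by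
        intro hcl
        obtain ⟨x, -, hx⟩ := exists_specializes_of_mem_closure_image A'.ι Set.univ isClosed_univ e
          (by rw [Set.image_univ, Scheme.Opens.range_ι]; exact hcl)
        have h1 := hgen e (Finset.mem_insert_self _ _) _ hx
        apply heA
        rw [← h1]
        have : A'.ι x ∈ Set.range A'.ι := ⟨x, rfl⟩
        rwa [Scheme.Opens.range_ι] at this
      obtain ⟨B, hB, heB, hBN⟩ := exists_isAffineOpen_mem_and_subset (x := e)
        (U := ⟨(O : Set X) ∩ (closure (A' : Set X))ᶜ,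
          O.isOpen.inter isClosed_closure.isOpen_compl⟩)
        ⟨hEO e (Finset.mem_insert_self _ _), hecl⟩
      have hdisj : Disjoint A' B := by
        rw [disjoint_iff]
        ext x
        simp only [Opens.coe_inf, Opens.coe_bot, Set.mem_inter_iff, Set.mem_empty_iff_false,
          iff_false, not_and]
        intro hxA hxB
        exact (hBN hxB).2 (subset_closure hxA)
      refine ⟨A' ⊔ B, hA'.sup_of_disjoint hB hdisj, sup_le hA'O (fun x hx => (hBN hx).1),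
        fun x hx => ?_⟩
      rcases Finset.mem_insert.mp hx with rfl | hx
      · exact show x ∈ (A' : Set X) ∪ B from Or.inr heB
      · exact show x ∈ (A' : Set X) ∪ B from Or.inl (hE' x hx)

end Gen

variable {S : Scheme.{u}} (G : Grpd.GroupoidScheme S) [IsFinite G.s] [IsFinite G.t]
  [LocallyOfFinitePresentation G.s]

theorem main_V (V : G.U.Opens) (hVW : V ≤ W G) (hinv : G.s ⁻¹ᵁ V = G.t ⁻¹ᵁ V) :
    ∃ V' : V.toScheme.IdealSheafData, V'.support = ⊤ ∧
    LocallyOfFinitePresentation V'.subschemeι ∧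
    (∃ φ : pullback G.s (V'.subschemeι ≫ V.ι) ≅ pullback G.t (V'.subschemeι ≫ V.ι),
      φ.hom ≫ pullback.fst G.t (V'.subschemeι ≫ V.ι) = pullback.fst G.s (V'.subschemeι ≫ V.ι)) ∧
    Mor2.IsFinLocFree (pullback.snd G.s (V'.subschemeι ≫ V.ι)) ∧
    Mor2.IsFinLocFree (pullback.snd G.t (V'.subschemeι ≫ V.ι)) := by
  have hf : G.U.homOfLE hVW ≫ (W G).ι = V.ι := G.U.homOfLE_ι hVW
  haveI := lfp_W'ι G
  obtain ⟨φ, hφ⟩ := exists_iso_W' G
  have hinv' : ∀ ρ : G.R, G.s ρ ∈ Set.range V.ι ↔ G.t ρ ∈ Set.range V.ι := by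
    intro ρ
    rw [Scheme.Opens.range_ι]
    have := congrArg (fun O : G.R.Opens => ρ ∈ O) hinv
    exact Iff.of_eq this
  refine ⟨(W' G).comap (G.U.homOfLE hVW), ?_, lfp_comap_subschemeι _ _,
    exists_iso_sub (W G).ι V.ι _ (W' G) hf G.s G.t φ hφ hinv', ?_, ?_⟩
  · ext x
    simp only [Closeds.coe_top, Set.mem_univ, iff_true]
    have h1 : x ∈ ((W' G).comap (G.U.homOfLE hVW)).support := by
      rw [Scheme.IdealSheafData.support_comap]
      show (G.U.homOfLE hVW) x ∈ (W' G).support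
      rw [W'_support G]; trivial
    exact h1
  · exact isFinLocFree_of_factor' G.s _ _ (gmap _ (W' G)) (gmap_comp _ _ _ _ hf)
      (isFinLocFree_snd_s G)
  · exact isFinLocFree_of_factor' G.t _ _ (gmap _ (W' G)) (gmap_comp _ _ _ _ hf)
      (isFinLocFree_snd_t G)

theorem main_S7466 [QuasiSeparatedSpace G.U] (m : ℕ) (u : Fin m → G.U)
    (hu : ∀ i (r : G.R), G.s r = u i → ∀ x : G.U, x ⤳ G.t r → x = G.t r) :
    ∃ (V : G.U.Opens) (V' : (↑V : Scheme.{u}).IdealSheafData), IsAffineOpen V ∧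
      (∀ i, u i ∈ V) ∧ G.s ⁻¹ᵁ V = G.t ⁻¹ᵁ V ∧ V'.support = ⊤ ∧
      LocallyOfFinitePresentation V'.subschemeι ∧
      (∃ φ : pullback G.s (V'.subschemeι ≫ V.ι) ≅ pullback G.t (V'.subschemeι ≫ V.ι),
        φ.hom ≫ pullback.fst G.t (V'.subschemeι ≫ V.ι) =
          pullback.fst G.s (V'.subschemeι ≫ V.ι)) ∧
      Mor2.IsFinLocFree (pullback.snd G.s (V'.subschemeι ≫ V.ι)) ∧
      Mor2.IsFinLocFree (pullback.snd G.t (V'.subschemeι ≫ V.ι)) := by
  obtain ⟨E, huE, hEorb, hEW, hEgen⟩ := orbit_finset G m u hu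
  obtain ⟨A, hA, hAW, hEA⟩ := exists_affine_of_generic (W G) E hEW hEgen
  obtain ⟨f₂, hf₂E, hf₂inv⟩ := exists_invariant_basicOpen G A hA hAW E
    (fun e he ρ hρ => hEA _ (hEorb e he ρ hρ))
  obtain ⟨V', h1, h2, h3, h4, h5⟩ := main_V G (G.U.basicOpen f₂)
    ((G.U.basicOpen_le f₂).trans hAW) hf₂inv
  exact ⟨G.U.basicOpen f₂, V', hA.basicOpen f₂, fun i => hf₂E _ (huE i), hf₂inv, h1, h2, h3,
    h4, h5⟩

end Groth.Agent.H4.FittMor7
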