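import Mathlib
import Groth.Prelude.Def_Grpd
import Groth.Agent.H4.FittMor7

set_option autoImplicit false
universe u
open CategoryTheory CategoryTheory.Limits AlgebraicGeometry TopologicalSpace

namespace Groth.Agent.H4.FittMor6
open Groth.Agent.H4.Fitting Groth.Agent.H4.FittMor1 Groth.Agent.H4.FittMor2 Groth.Agent.H4.FittMor3
  Groth.Agent.H4.FittMor4 Groth.Agent.H4.FittMor5 Groth.Agent.H4.FittMor7 Groth.Agent.H4.GrpdLib
  Groth.Agent.H4.GrpdLib10 Groth.Agent.H4.GrpdLib14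

theorem exists_mem_avoid {A : Type u} [CommRing A] (J : Ideal A) (F : Finset (PrimeSpectrum A))
    (hF : ∀ p ∈ F, ¬ J ≤ p.asIdeal) : ∃ h ∈ J, ∀ p ∈ F, h ∉ p.asIdeal := by
  classical
  by_cases hF0 : F = ∅
  · subst hF0
    exact ⟨0, J.zero_mem, by simp⟩
  obtain ⟨x₀, hx₀⟩ := Finset.nonempty_iff_ne_empty.mpr hF0
  have h1 := (Ideal.subset_union_prime (s := F) (f := fun p : PrimeSpectrum A => p.asIdeal) x₀ x₀
    (fun p _ _ _ => p.isPrime) (I := J)).not.mpr (by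
      rintro ⟨p, hp, hle⟩; exact hF p hp hle)
  rw [Set.not_subset] at h1
  obtain ⟨h, hhJ, hh⟩ := h1
  refine ⟨h, hhJ, fun p hp hmem => hh ?_⟩
  exact Set.mem_biUnion (Finset.mem_coe.mpr hp) hmem

theorem exists_avoid_closed {A : Type u} [CommRing A] (I : Ideal A) (T : Set (PrimeSpectrum A))
    (hT : IsClosed T) (F : Finset (PrimeSpectrum A))
    (hFI : ∀ p ∈ F, ¬ I ≤ p.asIdeal) (hFT : ∀ p ∈ F, p ∉ T) :
    ∃ h ∈ I, (∀ p ∈ T, h ∈ p.asIdeal) ∧ ∀ p ∈ F, h ∉ p.asIdeal := by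
  obtain ⟨I₁, hI₁⟩ := (PrimeSpectrum.isClosed_iff_zeroLocus_ideal _).mp hT
  obtain ⟨h, hh, hav⟩ := exists_mem_avoid (I * I₁) F (by
    intro p hp hle
    rcases p.isPrime.mul_le.mp hle with h | h
    · exact hFI p hp h
    · exact hFT p hp (by rw [hI₁]; exact (PrimeSpectrum.mem_zeroLocus _ _).mpr h))
  refine ⟨h, Ideal.mul_le_left hh, fun p hp => ?_, hav⟩
  rw [hI₁] at hp
  exact (PrimeSpectrum.mem_zeroLocus _ _).mp hp (Ideal.mul_le_right hh)

section Imm
variable {X : Scheme.{u}} {A : Type u} [CommRing A] (j : X ⟶ Spec (CommRingCat.of A))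

theorem mem_preimage_basicOpen (h : A) (x : X) :
    x ∈ j ⁻¹ᵁ (Spec (CommRingCat.of A)).basicOpen
      ((Scheme.ΓSpecIso (CommRingCat.of A)).inv h) ↔ h ∉ (j x : PrimeSpectrum A).asIdeal := by
  rw [basicOpen_eq_of_affine (R := CommRingCat.of A) h]
  exact PrimeSpectrum.mem_basicOpen h (j x : PrimeSpectrum A)

variable [IsImmersion j] (I : Ideal A)
  (hI : ∀ x : X, j x ∉ PrimeSpectrum.zeroLocus (I : Set A))
  (hcl : IsClosed (PrimeSpectrum.zeroLocus (I : Set A) ∪ Set.range j))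

include hI hcl in
theorem affine_and_basicOpen_of_mem (h : A) (hh : h ∈ I) :
    IsAffineOpen (j ⁻¹ᵁ (Spec (CommRingCat.of A)).basicOpen
      ((Scheme.ΓSpecIso (CommRingCat.of A)).inv h)) ∧
    ∀ z : Γ(X, j ⁻¹ᵁ (Spec (CommRingCat.of A)).basicOpen
      ((Scheme.ΓSpecIso (CommRingCat.of A)).inv h)),
      ∃ a : A, X.basicOpen z = j ⁻¹ᵁ PrimeSpectrum.basicOpen (h * a) := by
  obtain ⟨s₀, hs₀⟩ : ∃ s₀ : Γ(Spec (CommRingCat.of A), ⊤),
      s₀ = (Scheme.ΓSpecIso (CommRingCat.of A)).inv h := ⟨_, rfl⟩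
  rw [← hs₀]
  obtain ⟨D, hD⟩ : ∃ D : (Spec (CommRingCat.of A)).Opens,
      D = (Spec (CommRingCat.of A)).basicOpen s₀ := ⟨_, rfl⟩
  rw [← hD]
  have hDeq : D = PrimeSpectrum.basicOpen h := by
    rw [hD, hs₀]; exact basicOpen_eq_of_affine (R := CommRingCat.of A) h
  have hDaff : IsAffineOpen D := by
    rw [hD]; exact (isAffineOpen_top _).basicOpen s₀
  haveI : IsAffine D.toScheme := hDaff
  -- closed immersion
  haveI : IsPreimmersion (j ∣_ D) :=
    MorphismProperty.of_isPullback (isPullback_morphismRestrict j D).flip inferInstance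
  have hrange : IsClosed (Set.range (j ∣_ D)) := by
    have h3 : IsClosed (D.ι ⁻¹' (PrimeSpectrum.zeroLocus (I : Set A) ∪ Set.range j)) :=
      hcl.preimage D.ι.continuous
    have hcomm : ∀ y : (j ⁻¹ᵁ D).toScheme, D.ι ((j ∣_ D) y) = j ((j ⁻¹ᵁ D).ι y) := by
      intro y
      rw [← Scheme.Hom.comp_apply, ← Scheme.Hom.comp_apply, morphismRestrict_ι]
    convert h3 using 1
    ext x
    constructor
    · rintro ⟨y, rfl⟩
      exact Or.inr ⟨(j ⁻¹ᵁ D).ι y, (hcomm y).symm⟩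
    · rintro (h4 | ⟨y, hy⟩)
      · exfalso
        have hxD : D.ι x ∈ D := by
          have : D.ι x ∈ Set.range D.ι := ⟨x, rfl⟩
          rwa [Scheme.Opens.range_ι] at this
        have key : ∀ p : Spec (CommRingCat.of A), p ∈ D → h ∉ (p : PrimeSpectrum A).asIdeal := by
          intro p hp
          rw [hDeq] at hp
          exact (PrimeSpectrum.mem_basicOpen h _).mp hp
        exact key _ hxD (h4 hh)
      · have hyD : y ∈ j ⁻¹ᵁ D := by
          show j y ∈ D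
          rw [hy]
          have : D.ι x ∈ Set.range D.ι := ⟨x, rfl⟩
          rwa [Scheme.Opens.range_ι] at this
        obtain ⟨y', rfl⟩ : y ∈ Set.range (j ⁻¹ᵁ D).ι := by
          rw [Scheme.Opens.range_ι]; exact hyD
        refine ⟨y', ?_⟩
        apply D.ι.isOpenEmbedding.injective
        rw [hcomm]
        exact hy
  haveI : IsClosedImmersion (j ∣_ D) := IsClosedImmersion.of_isPreimmersion _ hrange
  obtain ⟨haff, hsurj⟩ := IsClosedImmersion.isAffine_surjective_of_isAffine (j ∣_ D)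
  refine ⟨haff, ?_⟩
  -- surjectivity of `j.app D`
  have hsurjD : Function.Surjective (j.app D).hom := by
    rw [morphismRestrict_appTop] at hsurj
    have h2 : Function.Surjective (j.app (D.ι ''ᵁ ⊤)).hom := by
      intro z
      obtain ⟨w, hw⟩ := hsurj ((X.presheaf.map
        (eqToHom (image_morphismRestrict_preimage j D ⊤)).op).hom z)
      refine ⟨w, ?_⟩
      apply (ConcreteCategory.bijective_of_isIso (X.presheaf.map
        (eqToHom (image_morphismRestrict_preimage j D ⊤)).op)).1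
      exact hw
    have key : ∀ D' : (Spec (CommRingCat.of A)).Opens, D' = D →
        Function.Surjective (j.app D').hom → Function.Surjective (j.app D).hom := by
      rintro _ rfl h; exact h
    exact key _ D.ι_image_top h2
  intro z
  obtain ⟨w, hw⟩ := hsurjD z
  subst hD
  obtain ⟨n, y, hy⟩ := exists_eq_pow_mul_of_isAffineOpen (Spec (CommRingCat.of A)) ⊤
    (isAffineOpen_top _) s₀ w
  refine ⟨(Scheme.ΓSpecIso (CommRingCat.of A)).hom y, ?_⟩
  have hu : IsUnit (s₀ |_ (Spec (CommRingCat.of A)).basicOpen s₀) :=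
    RingedSpace.isUnit_res_basicOpen _ s₀
  have e1 : (Spec (CommRingCat.of A)).basicOpen (y |_ (Spec (CommRingCat.of A)).basicOpen s₀) =
      (Spec (CommRingCat.of A)).basicOpen s₀ ⊓ (Spec (CommRingCat.of A)).basicOpen y :=
    (Spec (CommRingCat.of A)).basicOpen_res y _
  have e2 : (Spec (CommRingCat.of A)).basicOpen
      ((s₀ |_ (Spec (CommRingCat.of A)).basicOpen s₀) ^ n * w) =
      (Spec (CommRingCat.of A)).basicOpen w := by
    rw [Scheme.basicOpen_mul, Scheme.basicOpen_of_isUnit _ (hu.pow n), inf_eq_right]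
    exact (Spec (CommRingCat.of A)).basicOpen_le w
  have e3 : (Spec (CommRingCat.of A)).basicOpen w =
      (Spec (CommRingCat.of A)).basicOpen (s₀ * y) := by
    rw [Scheme.basicOpen_mul, ← e1, hy, e2]
  have e4 : s₀ * y = (Scheme.ΓSpecIso (CommRingCat.of A)).inv
      (h * (Scheme.ΓSpecIso (CommRingCat.of A)).hom y) := by
    rw [map_mul, ← hs₀]
    congr 1
    exact (Iso.hom_inv_id_apply (Scheme.ΓSpecIso (CommRingCat.of A)) y).symm
  rw [← hw, ← Scheme.preimage_basicOpen, e3, e4]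
  congr 1
  exact basicOpen_eq_of_affine (R := CommRingCat.of A) _

end Imm

variable {S : Scheme.{u}} (G : Grpd.GroupoidScheme S) [IsFinite G.s] [IsFinite G.t]
  [LocallyOfFinitePresentation G.s]

theorem exists_h₁ (E : Finset G.U) (hEW : ∀ v ∈ E, v ∈ W G) (A : Type u) [CommRing A]
    (j : G.U ⟶ Spec (CommRingCat.of A)) [IsImmersion j] (I : Ideal A)
    (hI : ∀ x : G.U, j x ∉ PrimeSpectrum.zeroLocus (I : Set A))
    (hcl : IsClosed (PrimeSpectrum.zeroLocus (I : Set A) ∪ Set.range j)) :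
    ∃ h₁ ∈ I, (∀ x : G.U, h₁ ∉ (j x : PrimeSpectrum A).asIdeal → x ∈ W G) ∧
      ∀ v ∈ E, h₁ ∉ (j v : PrimeSpectrum A).asIdeal := by
  classical
  obtain ⟨O, hO, hOW⟩ := j.isEmbedding.isInducing.isOpen_iff.mp (W G).isOpen
  have hOW' : ∀ x : G.U, x ∈ W G ↔ j x ∈ O := fun x => by
    have : x ∈ (⇑j ⁻¹' O) ↔ x ∈ (W G : Set G.U) := by rw [hOW]
    exact this.symm
  have hT : IsClosed (X := PrimeSpectrum A)
      ((PrimeSpectrum.zeroLocus (I : Set A) ∪ Set.range ⇑j) ∩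
        (PrimeSpectrum.zeroLocus (I : Set A) ∪ Oᶜ)) :=
    hcl.inter ((PrimeSpectrum.isClosed_zeroLocus _).union hO.isClosed_compl)
  obtain ⟨h₁, hh₁, h1, h2⟩ := exists_avoid_closed I _ hT
    (E.image (fun v => (j v : PrimeSpectrum A)))
    (by
      intro p hp hle
      obtain ⟨v, -, rfl⟩ := Finset.mem_image.mp hp
      exact hI v ((PrimeSpectrum.mem_zeroLocus _ _).mpr hle))
    (by
      intro p hp hpT
      obtain ⟨v, hv, rfl⟩ := Finset.mem_image.mp hp
      rcases hpT.2 with h | h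
      · exact hI v h
      · exact h ((hOW' v).mp (hEW v hv)))
  refine ⟨h₁, hh₁, fun x hx => ?_, fun v hv => h2 _ (Finset.mem_image.mpr ⟨v, hv, rfl⟩)⟩
  by_contra hxW
  exact hx (h1 _ ⟨Or.inr ⟨x, rfl⟩, Or.inr (fun hO' => hxW ((hOW' x).mpr hO'))⟩)

theorem main_S1885 (m : ℕ) (u : Fin m → G.U)
    (hu : ∀ i (r : G.R), G.s r = u i → ∀ x : G.U, x ⤳ G.t r → x = G.t r) (A : Type u)
    [CommRing A] (j : G.U ⟶ Spec (CommRingCat.of A)) [IsImmersion j] (I : Ideal A)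
    (hI : ∀ x : G.U, j x ∉ PrimeSpectrum.zeroLocus (I : Set A))
    (hcl : IsClosed (PrimeSpectrum.zeroLocus (I : Set A) ∪ Set.range j)) :
    ∃ h ∈ I, IsAffineOpen (j ⁻¹ᵁ PrimeSpectrum.basicOpen h) ∧
      (∀ i, u i ∈ j ⁻¹ᵁ PrimeSpectrum.basicOpen h) ∧
      G.s ⁻¹ᵁ (j ⁻¹ᵁ PrimeSpectrum.basicOpen h) = G.t ⁻¹ᵁ (j ⁻¹ᵁ PrimeSpectrum.basicOpen h) := by
  obtain ⟨E, huE, hEorb, hEW, -⟩ := orbit_finset G m u hu
  obtain ⟨h₁, hh₁I, hh₁W, hh₁E⟩ := exists_h₁ G E hEW A j I hI hcl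
  obtain ⟨hA₁, hbasic⟩ := affine_and_basicOpen_of_mem j I hI hcl h₁ hh₁I
  obtain ⟨f₂, hf₂E, hf₂inv⟩ := exists_invariant_basicOpen G _ hA₁
    (fun x hx => hh₁W x ((mem_preimage_basicOpen j h₁ x).mp hx)) E
    (fun e he ρ hρ => (mem_preimage_basicOpen j h₁ _).mpr (hh₁E _ (hEorb e he ρ hρ)))
  obtain ⟨a, ha⟩ := hbasic f₂
  refine ⟨h₁ * a, I.mul_mem_right a hh₁I, ?_, ?_, ?_⟩
  · rw [← ha]; exact hA₁.basicOpen f₂
  · intro i; rw [← ha]; exact hf₂E _ (huE i)
  · rw [← ha]; exact hf₂inv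

end Groth.Agent.H4.FittMor6
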