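import Mathlib
import Groth.Prelude.Def_Fitting
import Groth.Prelude.Def_CohB1
import Groth.Prelude.Def_FlatMod2
import Groth.Agent.H4.FittSheaf
import Groth.Agent.Lib.Lead.QC.LocFree
universe u
open CategoryTheory Limits AlgebraicGeometry TopologicalSpace Opposite TensorProduct

namespace Groth.Agent.H4.FittSheaf
open Groth.Agent.H4.Fitting Groth.Agent.LD.QC

variable {X : Scheme.{u}}

/-- characterization of finite locally free modules of rank `n` by sections over affine opens. -/
theorem isFinLocFreeOfRank_iff (M : X.Modules) [M.IsQuasicoherent] (n : ℕ) :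
    FlatMod.IsFinLocFreeOfRank n M ↔ ∀ x : X, ∃ (U : X.Opens), IsAffineOpen U ∧ x ∈ U ∧
      Nonempty (Γ(M, U) ≃ₗ[Γ(X, U)] (Fin n → Γ(X, U))) := by
  constructor
  · intro h x
    obtain ⟨W, hxW, ⟨e⟩⟩ := h x
    obtain ⟨U, hU, hxU, hUW⟩ := exists_isAffineOpen_mem_and_subset (x := x) (U := W) hxW
    have hr : Set.range hU.fromSpec ⊆ Set.range W.ι := by
      rw [hU.range_fromSpec, Scheme.Opens.range_ι]; exact hUW
    have h1 := freeMod_of_range_subset M W.ι hU.fromSpec hr n e
    exact ⟨U, hU, hxU, (restrict_fromSpec_iso_freeMod_iff M hU n).mp h1⟩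
  · intro h x
    obtain ⟨U, hU, hxU, hℓ⟩ := h x
    obtain ⟨e⟩ := (restrict_fromSpec_iso_freeMod_iff M hU n).mpr hℓ
    exact ⟨U, hxU, freeMod_of_range_subset M hU.fromSpec U.ι
      (range_ι_subset_range_fromSpec hU) n e⟩

/-- Step 1 of local generation: explicit data witnessing `Fit_k ⊄ p`. -/
theorem exists_data_of_not_le {R : Type*} [CommRing R] {M : Type*} [AddCommGroup M] [Module R M]
    [Module.Finite R M] (k : ℕ) (p : Ideal R) (h : ¬ Fitt.ideal R M k ≤ p) :
    ∃ (n : ℕ) (x : Fin n → M) (a : Matrix (Fin n) (Fin n) R) (T : Finset (Fin n)),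
      Submodule.span R (Set.range x) = ⊤ ∧ T.card ≤ k ∧
      (∀ i, i ∉ T → ∑ j, a i j • x j = 0) ∧ a.det ∉ p := by
  obtain ⟨n, x, hx⟩ := Module.Finite.exists_fin (R := R) (M := M)
  rw [ideal_eq_G k x hx, G_le_iff] at h
  push Not at h
  obtain ⟨a, T, hT, hr, hdet⟩ := h
  exact ⟨n, x, a, T, hx, hT, hr, hdet⟩

/-- Step 2 of local generation: in any localization where `det a` becomes a unit, the localized
module is generated by `k` elements. -/
theorem exists_gen_of_localization {R : Type*} [CommRing R] {M : Type*} [AddCommGroup M]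
    [Module R M] {n k : ℕ} (x : Fin n → M) (a : Matrix (Fin n) (Fin n) R) (T : Finset (Fin n))
    (hx : Submodule.span R (Set.range x) = ⊤) (hT : T.card ≤ k)
    (hr : ∀ i, i ∉ T → ∑ j, a i j • x j = 0)
    {A' N' : Type*} [CommRing A'] [Algebra R A'] [AddCommGroup N'] [Module R N'] [Module A' N']
    [IsScalarTower R A' N'] (S : Submonoid R) [IsLocalization S A'] (φ : M →ₗ[R] N')
    [IsLocalizedModule S φ] (hu : IsUnit (algebraMap R A' a.det)) :
    ∃ g : Fin k → N', Submodule.span A' (Set.range g) = ⊤ := by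
  have hx' : Submodule.span A' (Set.range (fun i => φ (x i))) = ⊤ := by
    have := span_eq_top_of_isLocalizedModule A' S φ (v := Set.range x) hx
    rw [← this]
    congr 1
    ext t
    simp
  refine exists_gen_of_isUnit_det (R := A') (fun i => φ (x i)) hx'
    ((algebraMap R A').mapMatrix a) T hT ?_ ?_
  · intro i hi
    have := congrArg φ (hr i hi)
    rw [map_sum, map_zero] at this
    rw [← this]
    refine Finset.sum_congr rfl (fun j _ => ?_)
    rw [map_smul]
    simp [algebraMap_smul]
  · rw [← RingHom.map_det]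
    exact hu

end Groth.Agent.H4.FittSheaf
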