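import Mathlib
import Groth.Agent.H4.Fitting5

namespace Groth.Agent.H4.Fitting

universe u v w
open Matrix

/-- **Local basis lemma.**  If `t • N ⊆ span v` and every relation among the `v i` is killed
by `t`, then in any localization inverting `t` the images of the `v i` form a basis. -/
theorem localized_basis_aux {R : Type*} [CommRing R] {N : Type*} [AddCommGroup N] [Module R N]
    (S : Submonoid R) (t : R) (ht : t ∈ S) {κ : Type*} [Fintype κ] (v : κ → N)
    (hspan : ∀ n : N, t • n ∈ Submodule.span R (Set.range v))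
    (hind : ∀ μ : κ → R, ∑ i, μ i • v i = 0 → ∀ i, t * μ i = 0)
    {A' N' : Type*} [CommRing A'] [Algebra R A'] [IsLocalization S A'] [AddCommGroup N']
    [Module R N'] [Module A' N'] [IsScalarTower R A' N'] (φ : N →ₗ[R] N')
    [IsLocalizedModule S φ] :
    LinearIndependent A' (fun i => φ (v i)) ∧
      Submodule.span A' (Set.range (fun i => φ (v i))) = ⊤ := by
  classical
  constructor
  · rw [Fintype.linearIndependent_iff]
    intro c hc i
    obtain ⟨b, hb⟩ := IsLocalization.exist_integer_multiples S (Finset.univ : Finset κ) c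
    choose μ hμ using fun i => hb i (Finset.mem_univ i)
    have h1 : φ (∑ i, μ i • v i) = 0 := by
      rw [map_sum]
      have : ∀ i, φ (μ i • v i) = (b : R) • (c i • φ (v i)) := by
        intro i
        rw [map_smul, ← algebraMap_smul A' (μ i) (φ (v i)), hμ i, smul_assoc]
      simp_rw [this]
      rw [← Finset.smul_sum, hc, smul_zero]
    obtain ⟨s', hs'⟩ := (IsLocalizedModule.eq_zero_iff S φ).mp h1
    have h2 : ∑ i, ((s' : R) * μ i) • v i = 0 := by
      rw [← hs', Submonoid.smul_def, Finset.smul_sum]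
      refine Finset.sum_congr rfl (fun i _ => ?_)
      rw [mul_smul]
    have h3 := hind _ h2 i
    have h4 : algebraMap R A' (μ i) = 0 := by
      rw [IsLocalization.map_eq_zero_iff S]
      refine ⟨⟨t, ht⟩ * s', ?_⟩
      rw [Submonoid.coe_mul, mul_assoc]
      exact h3
    rw [hμ i] at h4
    have hu : IsUnit (algebraMap R A' b) := IsLocalization.map_units A' b
    rw [Algebra.smul_def] at h4
    exact (hu.mul_right_eq_zero).mp h4
  · rw [eq_top_iff]
    rintro n' -
    obtain ⟨⟨n, s⟩, hns⟩ := IsLocalizedModule.surj S φ n'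
    have h1 : φ (t • n) ∈ Submodule.span A' (Set.range (fun i => φ (v i))) := by
      have h2 := hspan n
      have h3 : Submodule.span R (Set.range v) ≤
          ((Submodule.span A' (Set.range (fun i => φ (v i)))).restrictScalars R).comap φ := by
        refine Submodule.span_le.mpr ?_
        rintro _ ⟨i, rfl⟩
        exact Submodule.subset_span ⟨i, rfl⟩
      exact h3 h2
    have hu : IsUnit (algebraMap R A' (t * (s : R))) :=
      IsLocalization.map_units A' (⟨t, ht⟩ * s : S)
    obtain ⟨w, hw⟩ := hu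
    have h4 : n' = (↑w⁻¹ : A') • φ (t • n) := by
      rw [map_smul, ← hns, Submonoid.smul_def, ← mul_smul,
        ← algebraMap_smul A' (t * (s : R)) n', ← hw, smul_smul,
        Units.inv_mul, one_smul]
    rw [h4]
    exact Submodule.smul_mem _ _ h1

/-- The basis given by the local basis lemma. -/
noncomputable def localizedBasis {R : Type*} [CommRing R] {N : Type*} [AddCommGroup N]
    [Module R N]
    (S : Submonoid R) (t : R) (ht : t ∈ S) {κ : Type*} [Fintype κ] (v : κ → N)
    (hspan : ∀ n : N, t • n ∈ Submodule.span R (Set.range v))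
    (hind : ∀ μ : κ → R, ∑ i, μ i • v i = 0 → ∀ i, t * μ i = 0)
    {A' N' : Type*} [CommRing A'] [Algebra R A'] [IsLocalization S A'] [AddCommGroup N']
    [Module R N'] [Module A' N'] [IsScalarTower R A' N'] (φ : N →ₗ[R] N')
    [IsLocalizedModule S φ] : Module.Basis κ A' N' :=
  Module.Basis.mk (localized_basis_aux S t ht v hspan hind φ).1
    (by rw [(localized_basis_aux S t ht v hspan hind φ).2])


section Data

variable {R : Type u} [CommRing R] {M : Type v} [AddCommGroup M] [Module R M]

theorem det_updateRow_eq_sum {ι : Type*} [Fintype ι] [DecidableEq ι] (a : Matrix ι ι R) (i : ι)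
    (z : ι → R) : (a.updateRow i z).det = ∑ j, z j * Matrix.adjugate a j i := by
  rw [← Matrix.cramer_transpose_apply, Matrix.cramer_eq_adjugate_mulVec,
    ← Matrix.adjugate_transpose]
  simp [Matrix.mulVec, dotProduct, mul_comm]

/-- The data of a relation matrix whose determinant generates the `k`-th Fitting ideal up to
the factor `t`. -/
structure FData {n : ℕ} (x : Fin n → M) (a : Matrix (Fin n) (Fin n) R) (T : Finset (Fin n))
    (k : ℕ) (f t : R) : Prop where
  hT : T.card ≤ k
  hr : ∀ i, i ∉ T → ∑ j, a i j • x j = 0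
  hdet : a.det = t * f
  hf : f ∈ nonZeroDivisors R
  hk : (G k x : Ideal R) ≤ Ideal.span {f}
  hk1 : k = 0 ∨ (G (k - 1) x : Ideal R) = ⊥

variable {n : ℕ} {x : Fin n → M} {a : Matrix (Fin n) (Fin n) R} {T : Finset (Fin n)}
  {k : ℕ} {f t : R}

theorem FData.F1 (D : FData x a T k f t) (z : Fin n → R) (hz : ∑ j, z j • x j = 0)
    (i : Fin n) (hi : i ∈ T) : ∑ j, z j * Matrix.adjugate a j i = 0 := by
  rw [← det_updateRow_eq_sum]
  have hk1 : (G (k - 1) x : Ideal R) = ⊥ := by
    rcases D.hk1 with h | h
    · exfalso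
      have := D.hT
      rw [h] at this
      have : T = ∅ := by simpa using this
      simp [this] at hi
    · exact h
  have hmem : (a.updateRow i z).det ∈ (G (k - 1) x : Ideal R) := by
    refine det_mem_G _ (T.erase i) ?_ ?_
    · rw [Finset.card_erase_of_mem hi]
      have := D.hT
      omega
    · intro l hl
      by_cases hli : l = i
      · subst hli
        simpa using hz
      · have hlT : l ∉ T := fun h => hl (Finset.mem_erase.mpr ⟨hli, h⟩)
        simp only [Matrix.updateRow_ne hli]
        exact D.hr l hlT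
  rw [hk1] at hmem
  exact hmem

theorem FData.F2 (D : FData x a T k f t) (z : Fin n → R) (hz : ∑ j, z j • x j = 0)
    (i : Fin n) : ∃ c : R, ∑ j, z j * Matrix.adjugate a j i = c * f := by
  rw [← det_updateRow_eq_sum]
  have hmem : (a.updateRow i z).det ∈ (G k x : Ideal R) := by
    refine det_mem_G _ T D.hT ?_
    intro l hl
    by_cases hli : l = i
    · subst hli
      simpa using hz
    · simp only [Matrix.updateRow_ne hli]
      exact D.hr l hl
  obtain ⟨c, hc⟩ := Ideal.mem_span_singleton'.mp (D.hk hmem)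
  exact ⟨c, hc.symm⟩

theorem FData.F3 (D : FData x a T k f t) (j i : Fin n) (hi : i ∈ T) :
    ∃ c : R, Matrix.adjugate a j i = c * f := by
  have hmem : Matrix.adjugate a j i ∈ (G k x : Ideal R) := by
    rw [Matrix.adjugate_apply]
    refine det_mem_G _ T D.hT ?_
    intro l hl
    have hne : l ≠ i := fun h => hl (h ▸ hi)
    simp only [Matrix.updateRow_ne hne]
    exact D.hr l hl
  obtain ⟨c, hc⟩ := Ideal.mem_span_singleton'.mp (D.hk hmem)
  exact ⟨c, hc.symm⟩

theorem FData.smul_cancel (D : FData x a T k f t) {r : R} (h : f * r = 0) : r = 0 := by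
  have := D.hf
  rw [mem_nonZeroDivisors_iff] at this
  exact this.1 r h


/-- the elements `y i = ∑ l, a i l • x l` -/
def yv (x : Fin n → M) (a : Matrix (Fin n) (Fin n) R) : Fin n → M := fun i => ∑ l, a i l • x l

theorem FData.yv_eq_zero (D : FData x a T k f t) (i : Fin n) (hi : i ∉ T) : yv x a i = 0 :=
  D.hr i hi

theorem FData.K_ind (D : FData x a T k f t) (μ : Fin n → R)
    (h : ∀ l, ∑ i, μ i * a i l = 0) (i0 : Fin n) : t * μ i0 = 0 := by
  have h1 : ∑ l, (∑ i, μ i * a i l) * Matrix.adjugate a l i0 = μ i0 * a.det := by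
    calc ∑ l, (∑ i, μ i * a i l) * Matrix.adjugate a l i0
        = ∑ i, μ i * ∑ l, a i l * Matrix.adjugate a l i0 := by
          simp_rw [Finset.sum_mul, Finset.mul_sum]
          rw [Finset.sum_comm]
          refine Finset.sum_congr rfl (fun i _ => Finset.sum_congr rfl (fun l _ => ?_))
          ring
      _ = ∑ i, μ i * (a * Matrix.adjugate a) i i0 := by
          simp [Matrix.mul_apply]
      _ = μ i0 * a.det := by
          rw [Matrix.mul_adjugate]
          simp [Matrix.smul_apply, Matrix.one_apply]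
  simp_rw [h, zero_mul, Finset.sum_const_zero] at h1
  rw [D.hdet] at h1
  apply D.smul_cancel
  have : f * (t * μ i0) = μ i0 * (t * f) := by ring
  rw [this, ← h1]

theorem FData.K_span (D : FData x a T k f t) (z : Fin n → R) (hz : ∑ j, z j • x j = 0) :
    ∃ lam : Fin n → R, (∀ i, i ∈ T → lam i = 0) ∧ ∀ l, t * z l = ∑ i, lam i * a i l := by
  choose lam hlam using fun i => D.F2 z hz i
  refine ⟨lam, ?_, ?_⟩
  · intro i hi
    have := D.F1 z hz i hi
    rw [hlam i] at this
    apply D.smul_cancel
    rw [mul_comm]; exact this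
  · intro l
    have h1 : ∑ i, (∑ j, z j * Matrix.adjugate a j i) * a i l = z l * a.det := by
      calc ∑ i, (∑ j, z j * Matrix.adjugate a j i) * a i l
          = ∑ j, z j * ∑ i, Matrix.adjugate a j i * a i l := by
            simp_rw [Finset.sum_mul, Finset.mul_sum]
            rw [Finset.sum_comm]
            refine Finset.sum_congr rfl (fun i _ => Finset.sum_congr rfl (fun l _ => ?_))
            ring
        _ = ∑ j, z j * (Matrix.adjugate a * a) j l := by
            simp [Matrix.mul_apply]
        _ = z l * a.det := by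
            rw [Matrix.adjugate_mul]
            simp [Matrix.smul_apply, Matrix.one_apply]
    simp_rw [hlam] at h1
    rw [D.hdet] at h1
    have h2 : f * (t * z l - ∑ i, lam i * a i l) = 0 := by
      rw [mul_sub, Finset.mul_sum]
      have : ∑ i, f * (lam i * a i l) = ∑ i, lam i * f * a i l :=
        Finset.sum_congr rfl (fun i _ => by ring)
      rw [this, h1]
      ring
    exact sub_eq_zero.mp (D.smul_cancel h2)

theorem FData.Q_ind (D : FData x a T k f t) (μ : Fin n → R) (hμ : ∀ i, i ∉ T → μ i = 0)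
    (h : f • ∑ i, μ i • yv x a i = 0) (i0 : Fin n) : t * μ i0 = 0 := by
  by_cases hi0 : i0 ∈ T
  swap
  · rw [hμ i0 hi0, mul_zero]
  let z : Fin n → R := fun l => ∑ i, f * μ i * a i l
  have hz : ∑ l, z l • x l = 0 := by
    rw [← h, Finset.smul_sum]
    simp only [z, yv, Finset.sum_smul, Finset.smul_sum]
    rw [Finset.sum_comm]
    refine Finset.sum_congr rfl (fun i _ => Finset.sum_congr rfl (fun l _ => ?_))
    rw [smul_smul, smul_smul, mul_assoc]
  have h1 := D.F1 z hz i0 hi0
  have h2 : ∑ l, z l * Matrix.adjugate a l i0 = f * μ i0 * a.det := by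
    calc ∑ l, z l * Matrix.adjugate a l i0
        = ∑ i, f * μ i * ∑ l, a i l * Matrix.adjugate a l i0 := by
          simp only [z]
          simp_rw [Finset.sum_mul, Finset.mul_sum]
          rw [Finset.sum_comm]
          refine Finset.sum_congr rfl (fun i _ => Finset.sum_congr rfl (fun l _ => ?_))
          ring
      _ = ∑ i, f * μ i * (a * Matrix.adjugate a) i i0 := by
          simp [Matrix.mul_apply]
      _ = f * μ i0 * a.det := by
          rw [Matrix.mul_adjugate]
          simp [Matrix.smul_apply, Matrix.one_apply]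
  rw [h1, D.hdet] at h2
  apply D.smul_cancel
  apply D.smul_cancel
  rw [h2]
  ring

theorem FData.Q_span (D : FData x a T k f t) (j : Fin n) :
    ∃ c : Fin n → R, f • (t • x j - ∑ i, c i • yv x a i) = 0 := by
  classical
  have hex : ∀ i, ∃ c : R, i ∈ T → Matrix.adjugate a j i = c * f := by
    intro i
    by_cases hi : i ∈ T
    · obtain ⟨c, hc⟩ := D.F3 j i hi
      exact ⟨c, fun _ => hc⟩
    · exact ⟨0, fun h => absurd h hi⟩
  choose c hc using hex
  refine ⟨c, ?_⟩
  rw [smul_sub, smul_smul, mul_comm, ← D.hdet, det_smul_eq_sum, Finset.smul_sum, sub_eq_zero]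
  refine Finset.sum_congr rfl (fun i _ => ?_)
  by_cases hi : i ∈ T
  · rw [hc i hi, smul_smul, mul_comm]
    rfl
  · have h0 : yv x a i = 0 := D.yv_eq_zero i hi
    have h0' : ∑ l, a i l • x l = 0 := D.hr i hi
    rw [h0, h0']
    simp


theorem sum_subtype_eq {ι : Type*} [Fintype ι] [DecidableEq ι] {P : Type*} [AddCommMonoid P]
    (p : ι → Prop) [DecidablePred p] [Fintype {i // p i}] (g : ι → P)
    (hg : ∀ i, ¬ p i → g i = 0) :
    ∑ i : {i // p i}, g i.1 = ∑ i, g i := by
  rw [← Finset.sum_subtype (Finset.univ.filter p) (by simp) g]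
  exact Finset.sum_filter_of_ne (fun i _ hi => by_contra fun h => hi (hg i h))

theorem FData.Q_hspan (D : FData x a T k f t) (hx : Submodule.span R (Set.range x) = ⊤)
    (q : M ⧸ LinearMap.ker (f • (LinearMap.id : M →ₗ[R] M))) :
    t • q ∈ Submodule.span R (Set.range (fun i : {i // i ∈ T} =>
      (LinearMap.ker (f • (LinearMap.id : M →ₗ[R] M))).mkQ (yv x a i.1))) := by
  obtain ⟨m, rfl⟩ := Submodule.mkQ_surjective _ q
  have hm : m ∈ Submodule.span R (Set.range x) := hx ▸ Submodule.mem_top
  induction hm using Submodule.span_induction with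
  | mem m hm =>
    obtain ⟨j, rfl⟩ := hm
    obtain ⟨c, hc⟩ := D.Q_span j
    have h1 : t • x j - ∑ i, c i • yv x a i ∈ LinearMap.ker (f • (LinearMap.id : M →ₗ[R] M)) := by
      simpa using hc
    have h2 : t • (LinearMap.ker (f • (LinearMap.id : M →ₗ[R] M))).mkQ (x j) =
        ∑ i, c i • (LinearMap.ker (f • (LinearMap.id : M →ₗ[R] M))).mkQ (yv x a i) := by
      rw [← sub_eq_zero]
      simp_rw [← map_smul, ← map_sum, ← map_sub]
      exact (Submodule.Quotient.mk_eq_zero _).mpr h1
    rw [h2]
    refine Submodule.sum_mem _ (fun i _ => ?_)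
    by_cases hi : i ∈ T
    · exact Submodule.smul_mem _ _ (Submodule.subset_span ⟨⟨i, hi⟩, rfl⟩)
    · rw [D.yv_eq_zero i hi, map_zero, smul_zero]
      exact Submodule.zero_mem _
  | zero => simp
  | add m1 m2 _ _ h1 h2 =>
    rw [map_add, smul_add]
    exact Submodule.add_mem _ h1 h2
  | smul r m _ h1 =>
    rw [map_smul, smul_comm]
    exact Submodule.smul_mem _ _ h1

theorem FData.Q_hind (D : FData x a T k f t) (μs : {i // i ∈ T} → R)
    (h : ∑ i, μs i • (LinearMap.ker (f • (LinearMap.id : M →ₗ[R] M))).mkQ (yv x a i.1) = 0)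
    (i : {i // i ∈ T}) : t * μs i = 0 := by
  classical
  let μ : Fin n → R := fun i => if hi : i ∈ T then μs ⟨i, hi⟩ else 0
  have hμ : ∀ i, i ∉ T → μ i = 0 := fun i hi => by simp [μ, hi]
  have hμs : ∀ i : {i // i ∈ T}, μ i.1 = μs i := fun i => by simp [μ, i.2]
  have h1 : ∑ i : {i // i ∈ T}, μs i •
      (LinearMap.ker (f • (LinearMap.id : M →ₗ[R] M))).mkQ (yv x a i.1) =
      ∑ i, μ i • (LinearMap.ker (f • (LinearMap.id : M →ₗ[R] M))).mkQ (yv x a i) := by
    have := sum_subtype_eq (fun i => i ∈ T)
      (fun i => μ i • (LinearMap.ker (f • (LinearMap.id : M →ₗ[R] M))).mkQ (yv x a i))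
      (fun i hi => by rw [hμ i hi, zero_smul])
    rw [← this]
    exact Finset.sum_congr rfl (fun i _ => by rw [hμs])
  rw [h1] at h
  simp_rw [← map_smul, ← map_sum] at h
  have h2 : ∑ i, μ i • yv x a i ∈ LinearMap.ker (f • (LinearMap.id : M →ₗ[R] M)) :=
    (Submodule.Quotient.mk_eq_zero _).mp h
  have h3 : f • ∑ i, μ i • yv x a i = 0 := by
    have := LinearMap.mem_ker.mp h2
    simpa only [LinearMap.smul_apply, LinearMap.id_apply] using this
  rw [← hμs i]
  exact D.Q_ind μ hμ h3 i.1

/-- Local freeness of `M ⧸ ker f`. -/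
noncomputable def FData.Q_basis (D : FData x a T k f t)
    (hx : Submodule.span R (Set.range x) = ⊤) (S : Submonoid R) (ht : t ∈ S)
    {A' N' : Type*} [CommRing A'] [Algebra R A'] [IsLocalization S A'] [AddCommGroup N']
    [Module R N'] [Module A' N'] [IsScalarTower R A' N']
    (φ : (M ⧸ LinearMap.ker (f • (LinearMap.id : M →ₗ[R] M))) →ₗ[R] N')
    [IsLocalizedModule S φ] : Module.Basis {i // i ∈ T} A' N' :=
  localizedBasis S t ht _ (D.Q_hspan hx) D.Q_hind φ

/-- the rows of `a` outside `T`, as relations -/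
def FData.rowK (D : FData x a T k f t) (i : {i // i ∉ T}) : rel (R := R) x :=
  ⟨a i.1, (mem_rel x _).mpr (D.hr i.1 i.2)⟩

theorem FData.K_hspan (D : FData x a T k f t) (z : rel (R := R) x) :
    t • z ∈ Submodule.span R (Set.range D.rowK) := by
  classical
  obtain ⟨lam, h1, h2⟩ := D.K_span z.1 ((mem_rel x _).mp z.2)
  have : t • z = ∑ i : {i // i ∉ T}, lam i.1 • D.rowK i := by
    apply Subtype.ext
    funext l
    have h3 : ((∑ i : {i // i ∉ T}, lam i.1 • D.rowK i : rel (R := R) x) : Fin n → R) l =
        ∑ i : {i // i ∉ T}, lam i.1 * a i.1 l := by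
      rw [Submodule.coe_sum, Finset.sum_apply]
      rfl
    rw [h3, sum_subtype_eq (fun i => i ∉ T) (fun i => lam i * a i l)
      (fun i hi => by rw [h1 i (not_not.mp hi), zero_mul]), ← h2 l]
    rfl
  rw [this]
  exact Submodule.sum_mem _ (fun i _ => Submodule.smul_mem _ _ (Submodule.subset_span ⟨i, rfl⟩))

theorem FData.K_hind (D : FData x a T k f t) (μs : {i // i ∉ T} → R)
    (h : ∑ i, μs i • D.rowK i = 0) (i : {i // i ∉ T}) : t * μs i = 0 := by
  classical
  let μ : Fin n → R := fun i => if hi : i ∉ T then μs ⟨i, hi⟩ else 0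
  have hμ : ∀ i, ¬ i ∉ T → μ i = 0 := fun i hi => by simp [μ, hi]
  have hμs : ∀ i : {i // i ∉ T}, μ i.1 = μs i := fun i => by simp [μ, i.2]
  have h1 : ∀ l, ∑ i, μ i * a i l = 0 := by
    intro l
    have h3 := sum_subtype_eq (fun i => i ∉ T) (fun i => μ i * a i l)
      (fun i hi => by rw [hμ i hi, zero_mul])
    rw [← h3]
    have h2 := congrFun (congrArg Subtype.val h) l
    rw [Submodule.coe_sum, Finset.sum_apply] at h2
    have h4 : ((0 : rel (R := R) x) : Fin n → R) l = 0 := rfl
    rw [h4] at h2
    rw [← h2]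
    exact Finset.sum_congr rfl (fun i _ => by rw [hμs]; rfl)
  rw [← hμs i]
  exact D.K_ind μ h1 i.1

/-- Local freeness of the module of relations. -/
noncomputable def FData.K_basis (D : FData x a T k f t) (S : Submonoid R) (ht : t ∈ S)
    {A' N' : Type*} [CommRing A'] [Algebra R A'] [IsLocalization S A'] [AddCommGroup N']
    [Module R N'] [Module A' N'] [IsScalarTower R A' N']
    (φ : rel (R := R) x →ₗ[R] N') [IsLocalizedModule S φ] : Module.Basis {i // i ∉ T} A' N' :=
  localizedBasis S t ht _ D.K_hspan D.K_hind φ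

end Data

end Groth.Agent.H4.Fitting

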