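import Mathlib
import Groth.Agent.H4.Fitting9

namespace Groth.Agent.H4.Fitting

universe u v w
open Matrix

theorem exists_fin_gen {R : Type*} [CommRing R] {N : Type*} [AddCommGroup N] [Module R N]
    {ι : Type*} [Fintype ι] [DecidableEq ι] (y : ι → N) (T : Finset ι) {k : ℕ} (hT : T.card ≤ k)
    (h0 : ∀ i, i ∉ T → y i = 0) (hy : Submodule.span R (Set.range y) = ⊤) :
    ∃ g : Fin k → N, Submodule.span R (Set.range g) = ⊤ := by
  let g : Fin k → N := fun l =>
    if h : (l : ℕ) < T.card then y (T.equivFin.symm ⟨l, h⟩).1 else 0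
  refine ⟨g, ?_⟩
  rw [eq_top_iff, ← hy]
  refine Submodule.span_le.mpr ?_
  rintro _ ⟨i, rfl⟩
  by_cases hi : i ∈ T
  · have hlt : ((T.equivFin ⟨i, hi⟩ : Fin T.card) : ℕ) < k :=
      lt_of_lt_of_le (T.equivFin ⟨i, hi⟩).2 hT
    have : g ⟨(T.equivFin ⟨i, hi⟩ : Fin T.card), hlt⟩ = y i := by
      simp [g]
    rw [← this]
    exact Submodule.subset_span ⟨_, rfl⟩
  · rw [h0 i hi]
    exact Submodule.zero_mem _

theorem localized_span_eq_top {R : Type*} [CommRing R] {N : Type*} [AddCommGroup N] [Module R N]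
    (S : Submonoid R) (t : R) (ht : t ∈ S) {κ : Type*} (v : κ → N)
    (hspan : ∀ n : N, t • n ∈ Submodule.span R (Set.range v))
    {A' N' : Type*} [CommRing A'] [Algebra R A'] [IsLocalization S A'] [AddCommGroup N']
    [Module R N'] [Module A' N'] [IsScalarTower R A' N'] (φ : N →ₗ[R] N')
    [IsLocalizedModule S φ] :
    Submodule.span A' (Set.range (fun i => φ (v i))) = ⊤ := by
  rw [eq_top_iff]
  rintro n' -
  obtain ⟨⟨n, s⟩, hns⟩ := IsLocalizedModule.surj S φ n'
  have h1 : φ (t • n) ∈ Submodule.span A' (Set.range (fun i => φ (v i))) := by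
    have h2 := hspan n
    have h3 : Submodule.span R (Set.range v) ≤
        ((Submodule.span A' (Set.range (fun i => φ (v i)))).restrictScalars R).comap φ := by
      refine Submodule.span_le.mpr ?_
      rintro _ ⟨i, rfl⟩
      exact Submodule.subset_span ⟨i, rfl⟩
    exact h3 h2
  have hu : IsUnit (algebraMap R A' (t * (s : R))) :=
    IsLocalization.map_units A' (⟨t, ht⟩ * s : S)
  obtain ⟨w, hw⟩ := hu
  have h4 : n' = (↑w⁻¹ : A') • φ (t • n) := by
    rw [map_smul, ← hns, Submonoid.smul_def, ← mul_smul,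
      ← algebraMap_smul A' (t * (s : R)) n', ← hw, smul_smul,
      Units.inv_mul, one_smul]
  rw [h4]
  exact Submodule.smul_mem _ _ h1

section
variable {R : Type u} [CommRing R] {M : Type v} [AddCommGroup M] [Module R M]
  {n : ℕ} (x : Fin n → M) (a : Matrix (Fin n) (Fin n) R) (T : Finset (Fin n)) (k : ℕ) (f t : R)

theorem Q_span0 (hT : T.card ≤ k) (hr : ∀ i, i ∉ T → ∑ j, a i j • x j = 0)
    (hdet : a.det = t * f) (hk : (G k x : Ideal R) ≤ Ideal.span {f}) (j : Fin n) :
    ∃ c : Fin n → R, f • (t • x j - ∑ i, c i • yv x a i) = 0 := by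
  classical
  have hex : ∀ i, ∃ c : R, i ∈ T → Matrix.adjugate a j i = c * f := by
    intro i
    by_cases hi : i ∈ T
    · have hmem : Matrix.adjugate a j i ∈ (G k x : Ideal R) := by
        rw [Matrix.adjugate_apply]
        refine det_mem_G _ T hT ?_
        intro l hl
        have hne : l ≠ i := fun h => hl (h ▸ hi)
        simp only [Matrix.updateRow_ne hne]
        exact hr l hl
      obtain ⟨c, hc⟩ := Ideal.mem_span_singleton'.mp (hk hmem)
      exact ⟨c, fun _ => hc.symm⟩
    · exact ⟨0, fun h => absurd h hi⟩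
  choose c hc using hex
  refine ⟨c, ?_⟩
  rw [smul_sub, smul_smul, mul_comm, ← hdet, det_smul_eq_sum, Finset.smul_sum, sub_eq_zero]
  refine Finset.sum_congr rfl (fun i _ => ?_)
  by_cases hi : i ∈ T
  · rw [hc i hi, smul_smul, mul_comm]
    rfl
  · have h0 : yv x a i = 0 := hr i hi
    have h0' : ∑ l, a i l • x l = 0 := hr i hi
    rw [h0, h0']
    simp

theorem Q_hspan0 (hT : T.card ≤ k) (hr : ∀ i, i ∉ T → ∑ j, a i j • x j = 0)
    (hdet : a.det = t * f) (hk : (G k x : Ideal R) ≤ Ideal.span {f})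
    (hx : Submodule.span R (Set.range x) = ⊤)
    (q : M ⧸ LinearMap.ker (f • (LinearMap.id : M →ₗ[R] M))) :
    t • q ∈ Submodule.span R (Set.range (fun i : Fin n =>
      (LinearMap.ker (f • (LinearMap.id : M →ₗ[R] M))).mkQ (yv x a i))) := by
  obtain ⟨m, rfl⟩ := Submodule.mkQ_surjective _ q
  have hm : m ∈ Submodule.span R (Set.range x) := hx ▸ Submodule.mem_top
  induction hm using Submodule.span_induction with
  | mem m hm =>
    obtain ⟨j, rfl⟩ := hm
    obtain ⟨c, hc⟩ := Q_span0 x a T k f t hT hr hdet hk j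
    have h1 : t • x j - ∑ i, c i • yv x a i ∈ LinearMap.ker (f • (LinearMap.id : M →ₗ[R] M)) := by
      simpa using hc
    have h2 : t • (LinearMap.ker (f • (LinearMap.id : M →ₗ[R] M))).mkQ (x j) =
        ∑ i, c i • (LinearMap.ker (f • (LinearMap.id : M →ₗ[R] M))).mkQ (yv x a i) := by
      rw [← sub_eq_zero]
      simp_rw [← map_smul, ← map_sum, ← map_sub]
      exact (Submodule.Quotient.mk_eq_zero _).mpr h1
    rw [h2]
    exact Submodule.sum_mem _ (fun i _ => Submodule.smul_mem _ _ (Submodule.subset_span ⟨i, rfl⟩))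
  | zero => simp
  | add m1 m2 _ _ h1 h2 =>
    rw [map_add, smul_add]
    exact Submodule.add_mem _ h1 h2
  | smul r m _ h1 =>
    rw [map_smul, smul_comm]
    exact Submodule.smul_mem _ _ h1

/-- after inverting `t`, the quotient `M ⧸ ker f` is generated by `k` elements -/
theorem exists_gen_localized_quot (hT : T.card ≤ k) (hr : ∀ i, i ∉ T → ∑ j, a i j • x j = 0)
    (hdet : a.det = t * f) (hk : (G k x : Ideal R) ≤ Ideal.span {f})
    (hx : Submodule.span R (Set.range x) = ⊤) :
    ∃ g : Fin k → LocalizedModule (Submonoid.powers t)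
        (M ⧸ LinearMap.ker (f • (LinearMap.id : M →ₗ[R] M))),
      Submodule.span (Localization.Away t) (Set.range g) = ⊤ := by
  have h1 := localized_span_eq_top (Submonoid.powers t) t (Submonoid.mem_powers t) _
    (Q_hspan0 x a T k f t hT hr hdet hk hx) (A' := Localization.Away t)
    (LocalizedModule.mkLinearMap (Submonoid.powers t)
      (M ⧸ LinearMap.ker (f • (LinearMap.id : M →ₗ[R] M))))
  refine exists_fin_gen _ T hT (fun i hi => ?_) h1
  have : yv x a i = 0 := hr i hi
  simp [this]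

end

end Groth.Agent.H4.Fitting
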