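import Mathlib
import Groth.Prelude.Def_AlgGrp
import Groth.Agent.Lib.Helper9.AlgGrpAct
import Groth.Agent.Lib.Helper9.Misc.TOR4

/-!
# Étale equivariant morphisms reflect fixed points (helper4)
-/

set_option autoImplicit false
universe u
open CategoryTheory Limits MonoidalCategory CartesianMonoidalCategory MonObj AlgebraicGeometry
open scoped CategoryTheory.Obj

namespace Groth.Agent.H4.FixPtA

open Groth.Agent.H9.AlgGrpAct

section Eq

variable {P X Y : Scheme.{u}} (f : X ⟶ Y) [IsOpenImmersion (pullback.diagonal f)] (α β : P ⟶ X)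
  (hαβ : α ≫ f = β ≫ f)

/-- the open locus where two lifts of the same map through `f` (with open diagonal) agree. -/
noncomputable def eqOpen : P.Opens :=
  (pullback.lift α β hαβ) ⁻¹ᵁ (pullback.diagonal f).opensRange

lemma mem_eqOpen_of_eq {Z : Scheme.{u}} (j : Z ⟶ P) (hj : j ≫ α = j ≫ β) (z : Z) :
    j z ∈ eqOpen f α β hαβ := by
  have h1 : j ≫ pullback.lift α β hαβ = (j ≫ α) ≫ pullback.diagonal f := by
    apply pullback.hom_ext
    · rw [Category.assoc, pullback.lift_fst, Category.assoc, pullback.diagonal_fst, Category.comp_id]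
    · rw [Category.assoc, pullback.lift_snd, Category.assoc, pullback.diagonal_snd, Category.comp_id,
        hj]
  change (pullback.lift α β hαβ) (j z) ∈ Set.range (pullback.diagonal f)
  rw [← Scheme.Hom.comp_apply, h1, Scheme.Hom.comp_apply]
  exact ⟨_, rfl⟩

lemma eq_of_forall_mem {Z : Scheme.{u}} (j : Z ⟶ P) (hj : ∀ z, j z ∈ eqOpen f α β hαβ) :
    j ≫ α = j ≫ β := by
  have hr : Set.range (j ≫ pullback.lift α β hαβ) ⊆ Set.range (pullback.diagonal f) := by
    rintro _ ⟨z, rfl⟩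
    rw [Scheme.Hom.comp_apply]
    exact hj z
  have hγ : IsOpenImmersion.lift (pullback.diagonal f) (j ≫ pullback.lift α β hαβ) hr ≫
      pullback.diagonal f = j ≫ pullback.lift α β hαβ := IsOpenImmersion.lift_fac _ _ _
  have h1 : j ≫ α = IsOpenImmersion.lift (pullback.diagonal f) (j ≫ pullback.lift α β hαβ) hr := by
    have := congr($hγ ≫ pullback.fst f f)
    rw [Category.assoc, pullback.diagonal_fst, Category.comp_id, Category.assoc,
      pullback.lift_fst] at this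
    exact this.symm
  have h2 : j ≫ β = IsOpenImmersion.lift (pullback.diagonal f) (j ≫ pullback.lift α β hαβ) hr := by
    have := congr($hγ ≫ pullback.snd f f)
    rw [Category.assoc, pullback.diagonal_snd, Category.comp_id, Category.assoc,
      pullback.lift_snd] at this
    exact this.symm
  rw [h1, h2]

end Eq

variable {S : Scheme.{u}} {G X Y : Over S} [GrpObj G] (a : AlgGrp.Action G X)
  (b : AlgGrp.Action G Y) (f : X ⟶ Y)

/-- `h` fixes the point `y` -/
def Fix {T : Over S} (y : T ⟶ X) (h : T ⟶ G) : Prop := lift h y ≫ a.act = y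

lemma fix_one {T : Over S} (y : T ⟶ X) : Fix a y 1 := lift_one_act a y

lemma fix_mul {T : Over S} {y : T ⟶ X} {h h' : T ⟶ G} (hh : Fix a y h) (hh' : Fix a y h') :
    Fix a y (h * h') := by
  unfold Fix at *
  rw [lift_mul_act, hh', hh]

lemma fix_comp {T T'' : Over S} (τ : T'' ⟶ T) {y : T ⟶ X} {h : T ⟶ G} (hh : Fix a y h) :
    Fix a (τ ≫ y) (τ ≫ h) := by
  unfold Fix at *
  rw [← comp_lift, Category.assoc, hh]

variable {T' : Over S} (x' : T' ⟶ X)

/-- `(g, t) ↦ g · x'(t)` -/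
noncomputable def alpha : G ⊗ T' ⟶ X := lift (fst G T') (snd G T' ≫ x') ≫ a.act

/-- `(g, t) ↦ x'(t)` -/
noncomputable def beta : G ⊗ T' ⟶ X := snd G T' ≫ x'

lemma pt_eq_iff {T'' : Over S} (p : T'' ⟶ G ⊗ T') :
    p ≫ alpha a x' = p ≫ beta (G := G) x' ↔ Fix a (p ≫ snd G T' ≫ x') (p ≫ fst G T') := by
  unfold alpha beta Fix
  rw [← Category.assoc, comp_lift]

include b in
lemma alpha_f (hf : a.act ≫ f = (G ◁ f) ≫ b.act)
    (hH : ∀ (T'' : Over S) (τ : T'' ⟶ T') (h : T'' ⟶ G),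
      lift h (τ ≫ x' ≫ f) ≫ b.act = τ ≫ x' ≫ f) :
    alpha a x' ≫ f = beta (G := G) x' ≫ f := by
  unfold alpha beta
  rw [Category.assoc, hf, lift_whiskerLeft_assoc]
  have := hH (G ⊗ T') (snd G T') (fst G T')
  simpa [Category.assoc] using this

/-- a group scheme with connected fibres has geometrically irreducible structure morphism. -/
theorem geomIrr (G : Over S) [GrpObj G] (hconn : ∀ s : S, ConnectedSpace (G.hom.fiber s)) :
    GeometricallyIrreducible G.hom := by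
  rw [GeometricallyIrreducible.iff_geometricallyIrreducible_fiber]
  intro s
  haveI : ConnectedSpace ((Over.pullback (S.fromSpecResidueField s)).obj G).left := hconn s
  exact Groth.Agent.H9.TOR.geometricallyIrreducible_of_connected
    (K := S.residueField s) ((Over.pullback (S.fromSpecResidueField s)).obj G)

/-- the `Over S`-point attached to a scheme point. -/
noncomputable def ptOver (P : Over S) (z : P.left) : Over S :=
  Over.mk (P.left.fromSpecResidueField z ≫ P.hom)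

noncomputable def ptHom (P : Over S) (z : P.left) : ptOver P z ⟶ P :=
  Over.homMk (P.left.fromSpecResidueField z) rfl

lemma ptHom_left_apply (P : Over S) (z : P.left) (t : (ptOver P z).left) :
    (ptHom P z).left t = z :=
  Scheme.fromSpecResidueField_apply _ _

instance (P : Over S) (z : P.left) : Nonempty (ptOver P z).left :=
  inferInstanceAs (Nonempty (Spec (P.left.residueField z)))

instance (P : Over S) (z : P.left) : Subsingleton (ptOver P z).left :=
  inferInstanceAs (Subsingleton (Spec (P.left.residueField z)))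

lemma irreducible_prod [GeometricallyIrreducible G.hom] (P : Over S) (z : P.left) :
    IrreducibleSpace (G ⊗ ptOver P z).left :=
  GeometricallyIrreducible.geometrically_irreducibleSpace (f := G.hom)
    (K := P.left.residueField z) (ptOver P z).hom _ _ (IsPullback.of_hasPullback _ _)

section Main

variable [GeometricallyIrreducible G.hom] [IsOpenImmersion (pullback.diagonal f.left)]

include b in
theorem eqOpen_eq_top (hf : a.act ≫ f = (G ◁ f) ≫ b.act)
    (hH : ∀ (T'' : Over S) (τ : T'' ⟶ T') (h : T'' ⟶ G),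
      lift h (τ ≫ x' ≫ f) ≫ b.act = τ ≫ x' ≫ f)
    (hαβ : (alpha a x').left ≫ f.left = (beta (G := G) x').left ≫ f.left) :
    eqOpen f.left (alpha a x').left (beta (G := G) x').left hαβ = ⊤ := by
  rw [eq_top_iff]
  rintro z -
  -- the residue field point of `z`
  obtain ⟨T2, hT2⟩ : ∃ T2 : Over S, T2 = ptOver (G ⊗ T') z := ⟨_, rfl⟩
  obtain ⟨zz, hzz⟩ : ∃ zz : ptOver (G ⊗ T') z ⟶ G ⊗ T', zz = ptHom (G ⊗ T') z := ⟨_, rfl⟩
  obtain ⟨hz, hhz⟩ : ∃ hz : ptOver (G ⊗ T') z ⟶ G, hz = zz ≫ fst G T' := ⟨_, rfl⟩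
  obtain ⟨τz, hτz⟩ : ∃ τz : ptOver (G ⊗ T') z ⟶ T', τz = zz ≫ snd G T' := ⟨_, rfl⟩
  haveI : IrreducibleSpace (G ⊗ ptOver (G ⊗ T') z).left := irreducible_prod (G ⊗ T') z
  obtain ⟨ψ, hψ⟩ : ∃ ψ : G ⊗ ptOver (G ⊗ T') z ⟶ G ⊗ T',
    ψ = lift (fst G _) (snd G _ ≫ τz) := ⟨_, rfl⟩
  have hψ1 : ψ ≫ fst G T' = fst G _ := by rw [hψ, lift_fst]
  have hψ2 : ψ ≫ snd G T' = snd G _ ≫ τz := by rw [hψ, lift_snd]
  obtain ⟨φ, hφ⟩ : ∃ φ : G ⊗ ptOver (G ⊗ T') z ⟶ G ⊗ ptOver (G ⊗ T') z,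
    φ = lift ((snd G _ ≫ hz) * (fst G _)⁻¹) (snd G _) := ⟨_, rfl⟩
  have hφ1 : φ ≫ fst G _ = (snd G _ ≫ hz) * (fst G _)⁻¹ := by rw [hφ, lift_fst]
  have hφ2 : φ ≫ snd G _ = snd G _ := by rw [hφ, lift_snd]
  -- key: membership criterion for points
  have crit : ∀ {T'' : Over S} (p : T'' ⟶ G ⊗ T'),
      Fix a (p ≫ snd G T' ≫ x') (p ≫ fst G T') → ∀ t : T''.left, p.left t ∈
        eqOpen f.left (alpha a x').left (beta (G := G) x').left hαβ := by
    intro T'' p hp t
    refine mem_eqOpen_of_eq f.left _ _ hαβ p.left ?_ t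
    rw [← Over.comp_left, ← Over.comp_left, (pt_eq_iff a x' p).mpr hp]
  have crit' : ∀ {T'' : Over S} (p : T'' ⟶ G ⊗ T'),
      (∀ t : T''.left, p.left t ∈ eqOpen f.left (alpha a x').left (beta (G := G) x').left hαβ) →
      Fix a (p ≫ snd G T' ≫ x') (p ≫ fst G T') := by
    intro T'' p hp
    rw [← pt_eq_iff]
    apply Over.OverMorphism.ext
    rw [Over.comp_left, Over.comp_left]
    exact eq_of_forall_mem f.left _ _ hαβ p.left hp
  -- the two nonempty opens
  obtain ⟨UL, hUL⟩ : ∃ UL : (G ⊗ ptOver (G ⊗ T') z).left.Opens,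
    UL = ψ.left ⁻¹ᵁ eqOpen f.left (alpha a x').left (beta (G := G) x').left hαβ := ⟨_, rfl⟩
  obtain ⟨V, hV⟩ : ∃ V : (G ⊗ ptOver (G ⊗ T') z).left.Opens, V = φ.left ⁻¹ᵁ UL := ⟨_, rfl⟩
  obtain ⟨t0⟩ : Nonempty (ptOver (G ⊗ T') z).left := inferInstance
  have he_mem : (lift (1 : ptOver (G ⊗ T') z ⟶ G) (𝟙 _)).left t0 ∈ UL := by
    rw [hUL]
    change ψ.left ((lift (1 : ptOver (G ⊗ T') z ⟶ G) (𝟙 _)).left t0) ∈
      eqOpen f.left (alpha a x').left (beta (G := G) x').left hαβ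
    rw [← Scheme.Hom.comp_apply, ← Over.comp_left]
    refine crit _ ?_ t0
    have e2 : (lift (1 : ptOver (G ⊗ T') z ⟶ G) (𝟙 _) ≫ ψ) ≫ fst G T' = 1 := by
      rw [Category.assoc, hψ1, lift_fst]
    rw [e2]
    exact fix_one a _
  have hz_mem : (lift hz (𝟙 _)).left t0 ∈ V := by
    rw [hV]
    change φ.left ((lift hz (𝟙 _)).left t0) ∈ UL
    have h1 : lift hz (𝟙 (ptOver (G ⊗ T') z)) ≫ φ = lift (1 : ptOver (G ⊗ T') z ⟶ G) (𝟙 _) := by
      apply CartesianMonoidalCategory.hom_ext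
      · rw [Category.assoc, hφ1, MonObj.comp_mul, GrpObj.comp_inv, lift_fst, lift_snd_assoc,
          Category.id_comp, mul_inv_cancel, lift_fst]
      · rw [Category.assoc, hφ2, lift_snd, lift_snd]
    rw [← Scheme.Hom.comp_apply, ← Over.comp_left, h1]
    exact he_mem
  obtain ⟨w, hwU, hwV⟩ : ((UL : Set (G ⊗ ptOver (G ⊗ T') z).left) ∩ V).Nonempty :=
    nonempty_preirreducible_inter UL.2 V.2 ⟨_, he_mem⟩ ⟨_, hz_mem⟩
  -- the residue field point of `w`
  obtain ⟨ww, hww⟩ : ∃ ww : ptOver (G ⊗ ptOver (G ⊗ T') z) w ⟶ G ⊗ ptOver (G ⊗ T') z,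
    ww = ptHom _ w := ⟨_, rfl⟩
  obtain ⟨hw, hhw⟩ : ∃ hw : ptOver (G ⊗ ptOver (G ⊗ T') z) w ⟶ G, hw = ww ≫ fst G _ := ⟨_, rfl⟩
  obtain ⟨τw, hτw⟩ : ∃ τw : ptOver (G ⊗ ptOver (G ⊗ T') z) w ⟶ ptOver (G ⊗ T') z,
    τw = ww ≫ snd G _ := ⟨_, rfl⟩
  have F1 : Fix a (τw ≫ τz ≫ x') hw := by
    have := crit' (ww ≫ ψ) (fun t => by
      rw [Over.comp_left, Scheme.Hom.comp_apply, hww, ptHom_left_apply]
      rw [hUL] at hwU
      exact hwU)
    have e1 : (ww ≫ ψ) ≫ snd G T' ≫ x' = τw ≫ τz ≫ x' := by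
      rw [Category.assoc, ← Category.assoc ψ, hψ2, Category.assoc, ← Category.assoc ww, ← hτw]
    have e2 : (ww ≫ ψ) ≫ fst G T' = hw := by
      rw [Category.assoc, hψ1, hhw]
    rw [e1, e2] at this
    exact this
  have F2 : Fix a (τw ≫ τz ≫ x') ((τw ≫ hz) * hw⁻¹) := by
    have := crit' (ww ≫ φ ≫ ψ) (fun t => by
      rw [Over.comp_left, Over.comp_left, Scheme.Hom.comp_apply, Scheme.Hom.comp_apply, hww,
        ptHom_left_apply]
      rw [hV, hUL] at hwV
      exact hwV)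
    have e1 : (ww ≫ φ ≫ ψ) ≫ snd G T' ≫ x' = τw ≫ τz ≫ x' := by
      rw [Category.assoc, Category.assoc, ← Category.assoc ψ, hψ2, Category.assoc,
        ← Category.assoc φ, hφ2, ← Category.assoc ww, ← hτw]
    have e2 : (ww ≫ φ ≫ ψ) ≫ fst G T' = (τw ≫ hz) * hw⁻¹ := by
      rw [Category.assoc, Category.assoc, hψ1, hφ1, MonObj.comp_mul, GrpObj.comp_inv, ← hhw,
        ← Category.assoc ww, ← hτw]
    rw [e1, e2] at this
    exact this
  have F3 : Fix a (τw ≫ τz ≫ x') (τw ≫ hz) := by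
    have := fix_mul a F2 F1
    rwa [inv_mul_cancel_right] at this
  have hfin := crit (τw ≫ zz) (by
    have e1 : (τw ≫ zz) ≫ snd G T' ≫ x' = τw ≫ τz ≫ x' := by
      rw [Category.assoc, ← Category.assoc zz, ← hτz]
    have e2 : (τw ≫ zz) ≫ fst G T' = τw ≫ hz := by
      rw [Category.assoc, ← hhz]
    rw [e1, e2]
    exact F3)
  obtain ⟨t1⟩ : Nonempty (ptOver (G ⊗ ptOver (G ⊗ T') z) w).left := inferInstance
  have := hfin t1
  rwa [Over.comp_left, Scheme.Hom.comp_apply, hzz, ptHom_left_apply] at this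

include b in
/-- **Étale equivariant morphisms reflect fixed points.** -/
theorem main (hf : a.act ≫ f = (G ◁ f) ≫ b.act)
    (hH : ∀ (T'' : Over S) (τ : T'' ⟶ T') (h : T'' ⟶ G),
      lift h (τ ≫ x' ≫ f) ≫ b.act = τ ≫ x' ≫ f) (g : T' ⟶ G) :
    lift g x' ≫ a.act = x' := by
  have hαβ : (alpha a x').left ≫ f.left = (beta (G := G) x').left ≫ f.left := by
    rw [← Over.comp_left, ← Over.comp_left, alpha_f a b f x' hf hH]
  have htop := eqOpen_eq_top a b f x' hf hH hαβ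
  have heq : alpha a x' = beta (G := G) x' := by
    apply Over.OverMorphism.ext
    have := eq_of_forall_mem f.left _ _ hαβ (𝟙 _) (fun z => by rw [htop]; trivial)
    rwa [Category.id_comp, Category.id_comp] at this
  have h1 : lift g (𝟙 T') ≫ alpha a x' = lift g (𝟙 T') ≫ beta (G := G) x' := by rw [heq]
  rw [pt_eq_iff] at h1
  unfold Fix at h1
  rw [lift_snd_assoc, Category.id_comp, lift_fst] at h1
  exact h1

end Main

end Groth.Agent.H4.FixPtA
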