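import Mathlib
import Groth.Prelude.Def_DRing2
import Groth.Prelude.Def_DRing4
import Groth.Agent.H4.TP1
import Groth.Agent.H4.TC11
import Groth.Agent.H4.TorAmp3

/-!
# Tor amplitude via K-flat resolutions of modules
-/

open CategoryTheory Category Limits MonoidalCategory

universe u

namespace Groth.Agent.H4.TA1

open Groth.Agent.H4.TC4 Groth.Agent.H4.TC5 Groth.Agent.H4.TC6 Groth.Agent.H4.TC11
open Groth.Agent.H4.LK4 Groth.Agent.H4.TP1 DRing

variable {R : Type u} [CommRing R]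

lemma exactAt_of_isZero_X (K : Cx R) (n : ℤ) (h : IsZero (K.X n)) : K.ExactAt n := by
  rw [HomologicalComplex.exactAt_iff_isZero_homology]
  exact ShortComplex.isZero_homology_of_isZero_X₂ _ h

lemma exactAt_iff_of_quasiIso {K L : Cx R} (f : K ⟶ L) (hf : QuasiIso f) (n : ℤ) :
    K.ExactAt n ↔ L.ExactAt n := by
  haveI := hf
  exact _root_.exactAt_iff_of_quasiIsoAt f n

lemma exactAt_iff_of_iso {K L : Cx R} (e : K ≅ L) (n : ℤ) :
    K.ExactAt n ↔ L.ExactAt n :=
  ⟨fun h => h.of_iso e, fun h => h.of_iso e.symm⟩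

/-- the tensor product of a bounded K-flat complex with a cohomologically bounded complex is
cohomologically bounded. -/
theorem exactAt_tensor_of_bounded (E Z : Cx R) (a b c d : ℤ) (hE : KFlat E)
    (hEa : ∀ i, i < a → IsZero (E.X i)) (hEb : ∀ i, b < i → IsZero (E.X i))
    (hZc : ∀ i, i < c → Z.ExactAt i) (hZd : ∀ i, d < i → Z.ExactAt i)
    (n : ℤ) (hn : n < a + c ∨ b + d < n) : (E ⊗ Z).ExactAt n := by
  haveI : Z.IsLE d := by
    rw [CochainComplex.isLE_iff]
    exact fun i hi => hZd i hi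
  let Z₁ := Z.truncLE d
  have h1 : QuasiIso (Z.ιTruncLE d) := inferInstance
  haveI : Z₁.IsGE c := by
    rw [CochainComplex.isGE_iff]
    intro i hi
    exact (exactAt_iff_of_quasiIso (Z.ιTruncLE d) h1 i).2 (hZc i hi)
  let Z₂ := Z₁.truncGE c
  have h2 : QuasiIso (Z₁.πTruncGE c) := inferInstance
  haveI : Z₂.IsStrictlyLE d := inferInstance
  haveI : Z₂.IsStrictlyGE c := inferInstance
  have h3 : (E ⊗ Z₂).ExactAt n := by
    apply exactAt_of_isZero_X
    rcases hn with hn | hn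
    · exact isZero_tensor_X_of_lt E Z₂ n a c hEa (fun i hi => Z₂.isZero_of_isStrictlyGE c i hi) hn
    · exact isZero_tensor_X_of_gt E Z₂ n b d hEb (fun i hi => Z₂.isZero_of_isStrictlyLE d i hi) hn
  have h4 := quasiIso_whiskerLeft_of_kflat hE _ h1
  have h5 := quasiIso_whiskerLeft_of_kflat hE _ h2
  exact (exactAt_iff_of_quasiIso _ h4 n).1 ((exactAt_iff_of_quasiIso _ h5 n).2 h3)

/-- tensoring with a complex concentrated in one degree is termwise tensoring, up to a shift. -/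
theorem exactAt_tensor_concentrated_iff (K E : Cx R) (q₀ : ℤ) (hE : ∀ q, q ≠ q₀ → IsZero (E.X q))
    (n : ℤ) : (K ⊗ E).ExactAt n ↔ (DRing.tensorCx K (E.X q₀)).ExactAt (n - q₀) := by
  rw [HomologicalComplex.exactAt_iff' _ (n - 1) n (n + 1) (by simp) (by simp),
    HomologicalComplex.exactAt_iff' (DRing.tensorCx K (E.X q₀)) (n - q₀ - 1) (n - q₀)
    (n - q₀ + 1) (by simp) (by simp)]
  have h1 : n - q₀ - 1 + q₀ = n - 1 := by omega
  have h2 : n - q₀ + q₀ = n := by omega
  have h3 : n - q₀ + 1 + q₀ = n + 1 := by omega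
  haveI i1 := isIso_ι_of_concentrated₂ (curriedTensor (ModuleCat.{u} R)) K E q₀ hE (n - q₀ - 1)
    (n - 1) h1
  haveI i2 := isIso_ι_of_concentrated₂ (curriedTensor (ModuleCat.{u} R)) K E q₀ hE (n - q₀)
    n h2
  haveI i3 := isIso_ι_of_concentrated₂ (curriedTensor (ModuleCat.{u} R)) K E q₀ hE (n - q₀ + 1)
    (n + 1) h3
  refine (ShortComplex.exact_iff_of_iso ?_).symm
  refine ShortComplex.isoMk
    (@asIso _ _ _ _ _ i1) (@asIso _ _ _ _ _ i2) (@asIso _ _ _ _ _ i3) ?_ ?_
  · exact (ι_d_of_concentrated₂ (curriedTensor (ModuleCat.{u} R)) K E q₀ hE (n - q₀ - 1) (n - 1)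
      (n - q₀) n (by omega) (by omega) (by omega))
  · exact (ι_d_of_concentrated₂ (curriedTensor (ModuleCat.{u} R)) K E q₀ hE (n - q₀) n
      (n - q₀ + 1) (n + 1) (by omega) (by omega) (by omega))

/-- the module `M` as a complex in degree `0`. -/
noncomputable abbrev sg (M : ModuleCat.{u} R) : Cx R :=
  (HomologicalComplex.single (ModuleCat.{u} R) (ComplexShape.up ℤ) 0).obj M

lemma isZero_sg_X (M : ModuleCat.{u} R) (q : ℤ) (hq : q ≠ 0) : IsZero ((sg M).X q) :=
  HomologicalComplex.isZero_single_obj_X _ _ _ _ hq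

/-- tensoring with `M[0]` is termwise tensoring with `M`. -/
theorem exactAt_tensor_sg_iff (K : Cx R) (M : ModuleCat.{u} R) (n : ℤ) :
    (K ⊗ sg M).ExactAt n ↔ (DRing.tensorCx K M).ExactAt n := by
  rw [exactAt_tensor_concentrated_iff K (sg M) 0 (isZero_sg_X M) n, sub_zero]
  let e : (sg M).X 0 ≅ M := HomologicalComplex.singleObjXSelf (ComplexShape.up ℤ) 0 M
  exact exactAt_iff_of_iso ((tensorCxFunctor K).mapIso e) n

section Crit

attribute [local instance] HasDerivedCategory.standard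

open Groth.Agent.H4.TC8 Groth.Agent.H4.PC Groth.Agent.H4.ResP Groth.Agent.H4.TorAmp
  Groth.Agent.H4.LDer

/-- if `X` has tor amplitude in `[c, d]` then `X ⊗ N` is exact outside `[c, d]` for every K-flat
`N` with cohomology only in degree `0`. -/
theorem exactAt_tensor_of_hasTorAmp (X : Cx R) (c d : ℤ) (h : HasTorAmplitudeIn R c d (toD X))
    (N : Cx R) (hN : KFlat N) (hN0 : ∀ i, i ≠ 0 → N.ExactAt i) (n : ℤ) (hn : n < c ∨ d < n) :
    (X ⊗ N).ExactAt n := by
  obtain ⟨G, hG, hGfl, ⟨e⟩⟩ := h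
  obtain ⟨T, t, hT, -, hTf, ht⟩ := exists_kproj_free_kflat X
  haveI := hT
  haveI := ht
  obtain ⟨g, hg⟩ := Groth.Agent.H3.PerfAux.exists_map_of_isKProjective T G
    (DerivedCategory.Q.map t ≫ e.inv)
  have hgq : QuasiIso g := by
    rw [← DerivedCategory.isIso_Q_map_iff_quasiIso, hg]
    infer_instance
  have hGk : KFlat G := kflat_of_bounded G c d (fun i hi => hG i (Or.inl hi))
    (fun i hi => hG i (Or.inr hi)) hGfl
  have h1 : (G ⊗ N).ExactAt n := exactAt_tensor_of_bounded G N c d 0 0 hGk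
    (fun i hi => hG i (Or.inl hi)) (fun i hi => hG i (Or.inr hi))
    (fun i hi => hN0 i (by omega)) (fun i hi => hN0 i (by omega)) n (by omega)
  have h2 := quasiIso_whiskerRight hN g hgq
  have h3 := quasiIso_whiskerRight hN t ht
  exact (exactAt_iff_of_quasiIso _ h3 n).1 ((exactAt_iff_of_quasiIso _ h2 n).2 h1)

/-- the criterion for tor amplitude through K-flat resolutions of modules. -/
theorem hasTorAmp_of_exactAt_tensor (X : Cx R) (c d : ℤ)
    (h : ∀ M : ModuleCat.{u} R, ∃ (N : Cx R) (π : N ⟶ sg M), KFlat N ∧ QuasiIso π ∧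
      ∀ n, (n < c ∨ d < n) → (X ⊗ N).ExactAt n) : HasTorAmplitudeIn R c d (toD X) := by
  -- step 1: `X` is exact outside `[c, d]`
  have hX : ∀ n, (n < c ∨ d < n) → X.ExactAt n := by
    intro n hn
    obtain ⟨N₀, π₀, hN₀, hπ₀, hex⟩ := h (𝟙_ (ModuleCat.{u} R))
    obtain ⟨T, t, hT, -, hTf, ht⟩ := exists_kproj_free_kflat X
    have h1 := quasiIso_whiskerRight hN₀ t ht
    have h2 := quasiIso_whiskerLeft_of_kflat hTf π₀ hπ₀
    have h3 : (T ⊗ sg (𝟙_ (ModuleCat.{u} R))).ExactAt n :=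
      (exactAt_iff_of_quasiIso _ h2 n).1 ((exactAt_iff_of_quasiIso _ h1 n).2 (hex n hn))
    rw [exactAt_tensor_sg_iff] at h3
    have h4 : T.ExactAt n := (exactAt_iff_of_iso (GCUnitIso (A := R) T) n).1 h3
    exact (exactAt_iff_of_quasiIso t ht n).1 h4
  -- step 2: a bounded above free resolution
  obtain ⟨P, a, hP, ha⟩ := exists_quasiIso_of_homology_bounded X d (fun i hi =>
    ((HomologicalComplex.exactAt_iff_isZero_homology _ _).1 (hX i (Or.inr hi))).of_iso
      (homologyToDIso X i))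
  haveI := ha
  have hPk : KFlat P := kflat_of_boundedAbove (P := P) d hP.1 (fun i => by
    haveI := hP.2 i
    infer_instance)
  refine hasTorAmp_of_iso (asIso (DerivedCategory.Q.map a)) ?_
  refine hasTorAmp_of_exactAt P c d hP.isBAFlat ?_ ?_
  · intro i hi
    exact (exactAt_iff_of_quasiIso a ha i).2 (hX i (Or.inl hi))
  · intro M
    obtain ⟨N, π, hN, hπ, hex⟩ := h M
    have h1 := quasiIso_whiskerRight hN a ha
    have h2 := quasiIso_whiskerLeft_of_kflat hPk π hπ
    have h3 : (P ⊗ sg M).ExactAt (c - 1) :=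
      (exactAt_iff_of_quasiIso _ h2 _).1 ((exactAt_iff_of_quasiIso _ h1 _).2
        (hex (c - 1) (Or.inl (by omega))))
    rw [exactAt_tensor_sg_iff] at h3
    exact h3

/-- K-flat resolutions of modules. -/
theorem exists_kflat_resolution_sg (M : ModuleCat.{u} R) : ∃ (N : Cx R) (π : N ⟶ sg M),
    N.IsKProjective ∧ KFlat N ∧ QuasiIso π ∧ ∀ i, i ≠ 0 → N.ExactAt i := by
  obtain ⟨N, π, hN, -, hNf, hπ⟩ := exists_kproj_free_kflat (sg M)
  refine ⟨N, π, hN, hNf, hπ, fun i hi => ?_⟩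
  exact (exactAt_iff_of_quasiIso π hπ i).2 (exactAt_of_isZero_X _ _ (isZero_sg_X M i hi))

end Crit

end Groth.Agent.H4.TA1
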