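import Mathlib
import Groth.Prelude.Def_DRing2
import Groth.Prelude.Def_DRing4
import Groth.Prelude.Def_DDual2
import Groth.Prelude.Def_DTen6
import Groth.Agent.H4.TA1
import Groth.Agent.H4.LK7
import Groth.Agent.H4.BC1

/-!
# Tor amplitude and change of rings (S6953, S6951)
-/

open CategoryTheory Category Limits MonoidalCategory

universe u

namespace Groth.Agent.H4.TA2

open Groth.Agent.H4.TC4 Groth.Agent.H4.TC5 Groth.Agent.H4.TC6 Groth.Agent.H4.TC11
open Groth.Agent.H4.LK2 Groth.Agent.H4.LK4 Groth.Agent.H4.LK6 Groth.Agent.H4.LK7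
open Groth.Agent.H4.TP1 Groth.Agent.H4.TA1 Groth.Agent.H4.TorAmp DRing

attribute [local instance] HasDerivedCategory.standard

section Res

variable {A B : Type u} [CommRing A] [CommRing B] (φ : A →+* B)

/-- restriction of scalars preserves and reflects exactness. -/
lemma exactAt_res_iff (Z : Cx B) (n : ℤ) :
    ((DTen.resCx φ).obj Z).ExactAt n ↔ Z.ExactAt n := by
  rw [HomologicalComplex.exactAt_iff' _ (n - 1) n (n + 1) (by simp) (by simp),
    HomologicalComplex.exactAt_iff' Z (n - 1) n (n + 1) (by simp) (by simp),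
    ShortComplex.moduleCat_exact_iff, ShortComplex.moduleCat_exact_iff]
  constructor
  · intro h x₂ hx₂
    obtain ⟨y, hy⟩ := h x₂ hx₂
    exact ⟨y, hy⟩
  · intro h x₂ hx₂
    obtain ⟨y, hy⟩ := h x₂ hx₂
    exact ⟨y, hy⟩

/-- core of S6953 -/
theorem hasTorAmp_res_tensor (E L : Cx B) (a b c d : ℤ)
    (hEa : ∀ i, i < a → IsZero (E.X i)) (hEb : ∀ i, b < i → IsZero (E.X i))
    (hEfl : ∀ i, Module.Flat B (E.X i))
    (hL : HasTorAmplitudeIn A c d (toD ((DTen.resCx φ).obj L))) :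
    HasTorAmplitudeIn A (a + c) (b + d) (toD ((DTen.resCx φ).obj (E ⊗ L))) := by
  have hEk : KFlat E := kflat_of_bounded E a b hEa hEb hEfl
  refine hasTorAmp_of_exactAt_tensor _ _ _ (fun M => ?_)
  obtain ⟨N, π, -, hNf, hπ, hN0⟩ := exists_kflat_resolution_sg M
  refine ⟨N, π, hNf, hπ, fun n hn => ?_⟩
  -- `Z := L ⊗ ext N`
  have hZ : ∀ i, (i < c ∨ d < i) → (L ⊗ (DTen.extCx φ).obj N).ExactAt i := by
    intro i hi
    have h1 := exactAt_tensor_of_hasTorAmp _ c d hL N hNf hN0 i hi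
    have h2 := (exactAt_iff_of_iso (asIso (pfCx φ L N)) i).1 h1
    exact (exactAt_res_iff φ _ i).1 h2
  have h3 : (E ⊗ (L ⊗ (DTen.extCx φ).obj N)).ExactAt n :=
    exactAt_tensor_of_bounded E _ a b c d hEk hEa hEb (fun i hi => hZ i (Or.inl hi))
      (fun i hi => hZ i (Or.inr hi)) n hn
  have h4 : ((E ⊗ L) ⊗ (DTen.extCx φ).obj N).ExactAt n :=
    (exactAt_iff_of_iso (α_ E L ((DTen.extCx φ).obj N)) n).2 h3
  have h5 := (exactAt_res_iff φ _ n).2 h4
  exact (exactAt_iff_of_iso (asIso (pfCx φ (E ⊗ L) N)) n).2 h5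

/-- S6953 -/
theorem hasTorAmp_restrict_LTensorCx
    (K : Dual.D B) (a b c d : ℤ) (hK : DRing.HasTorAmplitudeIn B a b K) (L : DRing.Cx B)
    (hL : DRing.HasTorAmplitudeIn A c d (DRing.toD ((DRing.restrictCx φ).obj L)))
    [DRing.HasLTensorCx B L] :
    DRing.HasTorAmplitudeIn A (a + c) (b + d)
      ((DRing.restrictD φ).obj ((DRing.LTensorCx B L).obj K)) := by
  obtain ⟨E, hE, hEfl, ⟨e⟩⟩ := hK
  have hEk : KFlat E := kflat_of_bounded E a b (fun i hi => hE i (Or.inl hi))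
    (fun i hi => hE i (Or.inr hi)) hEfl
  haveI := isIso_counit_app_of_kflat_left L E hEk
  let e2 : (LTensorCx B L).obj (toD E) ≅ toD (E ⊗ L) := asIso ((counit L).app E)
  let e3 : toD (E ⊗ L) ≅ (LTensorCx B L).obj K := e2.symm ≪≫ (LTensorCx B L).mapIso e
  let e4 : toD ((DTen.resCx φ).obj (E ⊗ L)) ≅ (DRing.restrictD φ).obj (toD (E ⊗ L)) :=
    ((DTen.resFactors φ).app (E ⊗ L)).symm
  refine hasTorAmp_of_iso (e4 ≪≫ (DRing.restrictD φ).mapIso e3) ?_
  exact hasTorAmp_res_tensor φ E L a b c d (fun i hi => hE i (Or.inl hi))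
    (fun i hi => hE i (Or.inr hi)) hEfl hL

end Res

section FF

variable {R A B : Type u} [CommRing R] [CommRing A] [CommRing B] (ρ : R →+* A) (φ : A →+* B)

/-- flat extension of scalars preserves exactness; faithfully flat extension reflects it. -/
lemma exactAt_ext_iff (hφ : Module.FaithfullyFlat A (Ares φ)) (W : Cx A) (n : ℤ) :
    ((DTen.extCx φ).obj W).ExactAt n ↔ W.ExactAt n := by
  rw [HomologicalComplex.exactAt_iff' _ (n - 1) n (n + 1) (by simp) (by simp),
    HomologicalComplex.exactAt_iff' W (n - 1) n (n + 1) (by simp) (by simp),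
    ShortComplex.ShortExact.moduleCat_exact_iff_function_exact,
    ShortComplex.ShortExact.moduleCat_exact_iff_function_exact]
  exact Module.FaithfullyFlat.lTensor_exact_iff_exact A (Ares φ) (W.d (n - 1) n).hom
    (W.d n (n + 1)).hom

/-- the key comparison -/
lemma exactAt_key (hφ : Module.FaithfullyFlat A (Ares φ)) (X : Cx A) (N : Cx R) (n : ℤ) :
    ((DTen.resCx (φ.comp ρ)).obj ((DTen.extCx φ).obj X) ⊗ N).ExactAt n ↔
      ((DTen.resCx ρ).obj X ⊗ N).ExactAt n := by
  -- left side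
  rw [exactAt_iff_of_iso (asIso (pfCx (φ.comp ρ) ((DTen.extCx φ).obj X) N)) n,
    exactAt_res_iff]
  -- right side
  rw [exactAt_iff_of_iso (asIso (pfCx ρ X N)) n, exactAt_res_iff,
    ← exactAt_ext_iff φ hφ]
  have e1 : (DTen.extCx (φ.comp ρ)).obj N ≅ (DTen.extCx φ).obj ((DTen.extCx ρ).obj N) :=
    ((DTen.extCompCx ρ φ).app N).symm
  have e2 := DTen.extTenCxIso φ X ((DTen.extCx ρ).obj N)
  exact exactAt_iff_of_iso (whiskerLeftIso _ e1 ≪≫ e2.symm) n

/-- core of S6951 -/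
theorem hasTorAmp_res_iff_of_faithfullyFlat (hφ : Module.FaithfullyFlat A (Ares φ)) (X : Cx A)
    (a b : ℤ) :
    HasTorAmplitudeIn R a b (toD ((DTen.resCx ρ).obj X)) ↔
      HasTorAmplitudeIn R a b (toD ((DTen.resCx (φ.comp ρ)).obj ((DTen.extCx φ).obj X))) := by
  constructor
  · intro h
    refine hasTorAmp_of_exactAt_tensor _ _ _ (fun M => ?_)
    obtain ⟨N, π, -, hNf, hπ, hN0⟩ := exists_kflat_resolution_sg M
    refine ⟨N, π, hNf, hπ, fun n hn => ?_⟩
    rw [exactAt_key ρ φ hφ]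
    exact exactAt_tensor_of_hasTorAmp _ a b h N hNf hN0 n hn
  · intro h
    refine hasTorAmp_of_exactAt_tensor _ _ _ (fun M => ?_)
    obtain ⟨N, π, -, hNf, hπ, hN0⟩ := exists_kflat_resolution_sg M
    refine ⟨N, π, hNf, hπ, fun n hn => ?_⟩
    rw [← exactAt_key ρ φ hφ]
    exact exactAt_tensor_of_hasTorAmp _ a b h N hNf hN0 n hn

lemma hasTorAmp_iff_of_iso {S : Type u} [CommRing S] {a b : ℤ} {K K' : Dual.D S} (e : K ≅ K') :
    HasTorAmplitudeIn S a b K ↔ HasTorAmplitudeIn S a b K' :=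
  ⟨fun h => hasTorAmp_of_iso e h, fun h => hasTorAmp_of_iso e.symm h⟩

/-- S6951, general form -/
theorem hasTorAmp_restrict_iff_aux (χ : R →+* B) (hχ : χ = φ.comp ρ)
    (hφ : Module.FaithfullyFlat A (Ares φ)) (hfl : φ.Flat) [DRing.HasLBaseChange φ]
    (K : Dual.D A) (a b : ℤ) :
    DRing.HasTorAmplitudeIn R a b ((DRing.restrictD ρ).obj K) ↔
      DRing.HasTorAmplitudeIn R a b
        ((DRing.restrictD χ).obj ((DRing.LBaseChange φ).obj K)) := by
  subst hχ
  let X : Cx A := DerivedCategory.Q.objPreimage K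
  let e : toD X ≅ K := DerivedCategory.Q.objObjPreimageIso K
  let e1 : (DRing.restrictD ρ).obj K ≅ toD ((DTen.resCx ρ).obj X) :=
    (DRing.restrictD ρ).mapIso e.symm ≪≫ (DTen.resFactors ρ).app X
  let e2 : (DRing.LBaseChange φ).obj K ≅ toD ((DTen.extCx φ).obj X) :=
    (DRing.LBaseChange φ).mapIso e.symm ≪≫ Groth.Agent.H4.BC.isoOfFlatMap φ hfl X
  let e3 : (DRing.restrictD (φ.comp ρ)).obj ((DRing.LBaseChange φ).obj K) ≅
      toD ((DTen.resCx (φ.comp ρ)).obj ((DTen.extCx φ).obj X)) :=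
    (DRing.restrictD (φ.comp ρ)).mapIso e2 ≪≫ (DTen.resFactors (φ.comp ρ)).app _
  rw [hasTorAmp_iff_of_iso e1, hasTorAmp_iff_of_iso e3]
  exact hasTorAmp_res_iff_of_faithfullyFlat ρ φ hφ X a b

end FF

section Final

variable {R A B : Type u}
    [CommRing R] [CommRing A] [CommRing B] [Algebra R A] [Algebra A B] [Algebra R B]
    [IsScalarTower R A B]
    [Module.FaithfullyFlat A B] [DRing.HasLBaseChange (algebraMap A B)]

/-- `B` with its algebra module structure is `Ares`. -/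
noncomputable def aresEquiv (A B : Type u) [CommRing A] [CommRing B] [Algebra A B] :
    B ≃ₗ[A] (Ares (algebraMap A B)) where
  toFun b := b
  invFun b := b
  map_add' _ _ := rfl
  map_smul' a b := by
    change a • b = (algebraMap A B a) * b
    rw [Algebra.smul_def]
  left_inv _ := rfl
  right_inv _ := rfl

/-- S6951 -/
theorem hasTorAmp_restrict_iff (K : Dual.D A) (a b : ℤ) :
    DRing.HasTorAmplitudeIn R a b ((DRing.restrictD (algebraMap R A)).obj K) ↔
      DRing.HasTorAmplitudeIn R a b ((DRing.restrictD (algebraMap R B)).obj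
        ((DRing.LBaseChange (algebraMap A B)).obj K)) := by
  refine hasTorAmp_restrict_iff_aux (algebraMap R A) (algebraMap A B) (algebraMap R B)
    (IsScalarTower.algebraMap_eq R A B) ?_ ?_ K a b
  · exact Module.FaithfullyFlat.of_linearEquiv A B (aresEquiv A B).symm
  · exact (RingHom.flat_algebraMap_iff).2 inferInstance

end Final

end Groth.Agent.H4.TA2
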