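import Mathlib
import Groth.Prelude.Def_DRing2
import Groth.Prelude.Def_DRing4
import Groth.Agent.H4.TA2
import Groth.Agent.H4.TB5
import Groth.Agent.H4.ResP2
import Groth.Agent.H4.TC15

set_option autoImplicit false
universe u
open CategoryTheory Category Limits MonoidalCategory
attribute [local instance] HasDerivedCategory.standard

namespace Groth.Agent.H4.NT2

open Groth.Agent.H4.TC4 Groth.Agent.H4.TC5 Groth.Agent.H4.TC6 Groth.Agent.H4.TC10
open Groth.Agent.H4.TC11 Groth.Agent.H4.TA1 Groth.Agent.H4.TA2 DRing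

variable {R : Type u} [CommRing R]

/-- the short exact sequence of complexes `P ⊗ M' → P ⊗ M → P ⊗ M''` for `P` termwise flat -/
lemma exactAt_tensorCx_of_shortExact (P : Cx R) (hfl : ∀ j, Module.Flat R (P.X j))
    (S : ShortComplex (ModuleCat.{u} R)) (hS : S.ShortExact) (j : ℤ)
    (h₁ : (DRing.tensorCx P S.X₁).ExactAt j) (h₃ : (DRing.tensorCx P S.X₃).ExactAt j) :
    (DRing.tensorCx P S.X₂).ExactAt j := by
  let T : ShortComplex (Cx R) := S.map (tensorCxFunctor P)
  have hT : T.ShortExact := by
    apply HomologicalComplex.shortExact_of_degreewise_shortExact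
    intro q
    haveI : Module.Flat R (P.X q) := hfl q
    have h := hS.map_of_exact (tensorLeft (P.X q))
    exact h
  have hex := hT.homology_exact₂ j
  rw [HomologicalComplex.exactAt_iff_isZero_homology] at h₁ h₃ ⊢
  exact hex.isZero_of_both_zeros (h₁.eq_of_src _ _) (h₃.eq_of_tgt _ _)

lemma exactAt_tensorCx_of_subsingleton (P : Cx R) (M : ModuleCat.{u} R) [Subsingleton M] (j : ℤ) :
    (DRing.tensorCx P M).ExactAt j := by
  apply exactAt_of_isZero_X
  have hM : IsZero M := ModuleCat.isZero_of_subsingleton M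
  exact (tensorLeft (P.X j)).map_isZero hM

/-- **filtration by powers of a nilpotent ideal** -/
theorem exactAt_tensorCx_of_nilpotent (J : Ideal R) (n : ℕ) (hn : J ^ n = ⊥) (P : Cx R)
    (hfl : ∀ j, Module.Flat R (P.X j)) (D : Set ℤ)
    (h : ∀ M : ModuleCat.{u} R, (∀ a ∈ J, ∀ m : M, a • m = 0) →
      ∀ j ∈ D, (DRing.tensorCx P M).ExactAt j)
    (M : ModuleCat.{u} R) (j : ℤ) (hj : j ∈ D) : (DRing.tensorCx P M).ExactAt j := by
  have key : ∀ (k : ℕ) (M : ModuleCat.{u} R), (∀ a ∈ J ^ k, ∀ m : M, a • m = 0) →
      (DRing.tensorCx P M).ExactAt j := by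
    intro k
    induction k with
    | zero =>
      intro M hM
      haveI : Subsingleton M := ⟨fun x y => by
        have hx := hM 1 (by simp) x
        have hy := hM 1 (by simp) y
        rw [one_smul] at hx hy
        rw [hx, hy]⟩
      exact exactAt_tensorCx_of_subsingleton P M j
    | succ k ih =>
      intro M hM
      let M' : Submodule R M := J • (⊤ : Submodule R M)
      have hS := LinearMap.shortExact_shortComplexKer (f := M'.mkQ) (Submodule.mkQ_surjective M')
      refine exactAt_tensorCx_of_shortExact P hfl _ hS j ?_ ?_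
      · apply ih
        rintro a ha ⟨x, hx⟩
        apply Subtype.ext
        change a • x = 0
        have hx' : x ∈ M' := by simpa using hx
        refine Submodule.smul_induction_on hx' ?_ ?_
        · intro b hb m _
          rw [smul_smul]
          exact hM (a * b) (by rw [pow_succ]; exact Ideal.mul_mem_mul ha hb) m
        · intro y z hy hz
          rw [smul_add, hy, hz, add_zero]
      · apply h _ _ j hj
        intro a ha y
        obtain ⟨m, rfl⟩ := Submodule.mkQ_surjective M' y
        change a • M'.mkQ m = 0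
        rw [← map_smul, Submodule.mkQ_apply, Submodule.Quotient.mk_eq_zero]
        exact Submodule.smul_mem_smul ha trivial
  apply key n M
  intro a ha m
  rw [hn] at ha
  rw [(Submodule.mem_bot R).1 ha, zero_smul]

/-- a copy of the carrier of a module -/
def Carrier (M : ModuleCat.{u} R) : Type u := M

instance (M : ModuleCat.{u} R) : AddCommGroup (Carrier M) := inferInstanceAs (AddCommGroup M)

/-- the module structure on the copy -/
@[reducible] def carrierModule (M : ModuleCat.{u} R) : Module R (Carrier M) :=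
  inferInstanceAs (Module R M)

/-- the induced module structure over a quotient -/
@[reducible] noncomputable def quotModule {S : Type u} [CommRing S] (σ : R →+* S)
    (hσ : Function.Surjective σ) (M : ModuleCat.{u} R)
    (hM : ∀ a ∈ RingHom.ker σ, ∀ m : M, a • m = 0) : Module S (Carrier M) :=
  letI := carrierModule M
  have ht : Module.IsTorsionBySet R (Carrier M) (RingHom.ker σ : Set R) :=
    fun m a => hM a.1 a.2 m
  letI : Module (R ⧸ RingHom.ker σ) (Carrier M) := ht.module
  Module.compHom (Carrier M)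
    ((RingHom.quotientKerEquivOfSurjective hσ).symm : S →+* R ⧸ RingHom.ker σ)

lemma quotModule_smul {S : Type u} [CommRing S] (σ : R →+* S)
    (hσ : Function.Surjective σ) (M : ModuleCat.{u} R)
    (hM : ∀ a ∈ RingHom.ker σ, ∀ m : M, a • m = 0) (r : R) (x : M) :
    letI := quotModule σ hσ M hM
    ((σ r) • (show Carrier M from x) : Carrier M) = (show Carrier M from (r • x)) := by
  letI := carrierModule M
  have ht : Module.IsTorsionBySet R (Carrier M) (RingHom.ker σ : Set R) :=
    fun m a => hM a.1 a.2 m
  letI : Module (R ⧸ RingHom.ker σ) (Carrier M) := ht.module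
  have h1 : (RingHom.quotientKerEquivOfSurjective hσ).symm (σ r) = Ideal.Quotient.mk _ r := by
    rw [RingEquiv.symm_apply_eq]
    rfl
  change ((RingHom.quotientKerEquivOfSurjective hσ).symm (σ r)) • (show Carrier M from x) = _
  rw [h1]
  exact Module.IsTorsionBySet.mk_smul ht r x

/-- modules killed by the kernel of a surjection come from the quotient -/
lemma exists_module_of_torsion {S : Type u} [CommRing S] (σ : R →+* S)
    (hσ : Function.Surjective σ) (M : ModuleCat.{u} R)
    (hM : ∀ a ∈ RingHom.ker σ, ∀ m : M, a • m = 0) :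
    ∃ N : ModuleCat.{u} S, Nonempty ((ModuleCat.restrictScalars σ).obj N ≅ M) := by
  letI := quotModule σ hσ M hM
  let N : ModuleCat.{u} S := ModuleCat.of S (Carrier M)
  let le : ((ModuleCat.restrictScalars σ).obj N) ≃ₗ[R] M :=
    { toFun := fun x => x, invFun := fun x => x, map_add' := fun _ _ => rfl,
      map_smul' := fun r x => quotModule_smul σ hσ M hM r x,
      left_inv := fun _ => rfl, right_inv := fun _ => rfl }
  exact ⟨N, ⟨LinearEquiv.toModuleIso (X₁ := ((ModuleCat.restrictScalars σ).obj N)) (X₂ := M) le⟩⟩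


/-- tensoring a K-flat complex, exact above `b`, with a module keeps it exact above `b` -/
theorem exactAt_tensorCx_of_kflat_of_exactAbove (Q : Cx R) (hQ : KFlat Q) (b : ℤ)
    (hb : ∀ j, b < j → Q.ExactAt j) (N : ModuleCat.{u} R) (j : ℤ) (hj : b < j) :
    (DRing.tensorCx Q N).ExactAt j := by
  obtain ⟨P, a, hP, ha⟩ := Groth.Agent.H4.ResP.exists_quasiIso_of_homology_bounded Q b
    (fun i hi => by
      refine IsZero.of_iso ?_ ((DerivedCategory.homologyFunctorFactors _ i).app Q)
      exact (HomologicalComplex.exactAt_iff_isZero_homology _ _).1 (hb i hi))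
  have hPk : KFlat P := Groth.Agent.H4.TC8.kflat_of_isBAF hP
  have hq := quasiIso_tensor_of_kflat.2 P Q a hPk hQ ha (sg N)
  rw [← exactAt_tensor_sg_iff, exactAt_iff_of_iso (braid Q (sg N)) j,
    ← exactAt_iff_of_quasiIso _ hq j, exactAt_iff_of_iso (braid (sg N) P) j,
    exactAt_tensor_sg_iff]
  apply exactAt_of_isZero_X
  exact (tensorRight N).map_isZero (hP.1 j hj)

section ChangeOfRings

variable {S : Type u} [CommRing S] (σ : R →+* S)

open Groth.Agent.H4.TB5 in
/-- tensoring with a module coming from the target ring -/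
lemma exactAt_tensorCx_res_iff (P : Cx R) (N : ModuleCat.{u} S) (j : ℤ) :
    (DRing.tensorCx P ((ModuleCat.restrictScalars σ).obj N)).ExactAt j ↔
      (DRing.tensorCx ((DTen.extCx σ).obj P) N).ExactAt j := by
  rw [← exactAt_tensor_sg_iff, ← exactAt_tensor_sg_iff]
  let e1 : (DTen.resCx σ).obj (sg N) ≅ sg ((ModuleCat.restrictScalars σ).obj N) :=
    (HomologicalComplex.singleMapHomologicalComplex (ModuleCat.restrictScalars.{u} σ)
      (ComplexShape.up ℤ) 0).app N
  rw [← exactAt_iff_of_iso (whiskerLeftIso P e1) j,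
    exactAt_iff_of_iso (asIso (pfCxR σ P (sg N))) j, exactAt_res_iff]

/-- **Nakayama for complexes along a nilpotent surjection**: a K-flat complex with flat terms
whose extension of scalars is exact above `b` is exact above `b`. -/
theorem exactAt_of_ext_of_nilpotent (hσ : Function.Surjective σ) (n : ℕ)
    (hn : (RingHom.ker σ) ^ n = ⊥) (P : Cx R) (hP : KFlat P)
    (hfl : ∀ j, Module.Flat R (P.X j)) (b : ℤ)
    (hb : ∀ j, b < j → ((DTen.extCx σ).obj P).ExactAt j) (j : ℤ) (hj : b < j) :
    P.ExactAt j := by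
  have hQ : KFlat ((DTen.extCx σ).obj P) := Groth.Agent.H4.TC15.kflat_extendScalars σ P hP
  have h1 : ∀ M : ModuleCat.{u} R, (∀ a ∈ RingHom.ker σ, ∀ m : M, a • m = 0) →
      ∀ j ∈ {j : ℤ | b < j}, (DRing.tensorCx P M).ExactAt j := by
    intro M hM j hj
    obtain ⟨N, ⟨e⟩⟩ := exists_module_of_torsion σ hσ M hM
    refine (exactAt_iff_of_iso ((tensorCxFunctor P).mapIso e) j).1 ?_
    change (DRing.tensorCx P ((ModuleCat.restrictScalars σ).obj N)).ExactAt j
    rw [exactAt_tensorCx_res_iff]
    exact exactAt_tensorCx_of_kflat_of_exactAbove _ hQ b hb N j hj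
  have h2 := exactAt_tensorCx_of_nilpotent (RingHom.ker σ) n hn P hfl {j : ℤ | b < j} h1
    (𝟙_ (ModuleCat.{u} R)) j hj
  rw [← exactAt_tensor_sg_iff] at h2
  exact (exactAt_iff_of_iso (ρ_ P) j).1 h2

end ChangeOfRings

end Groth.Agent.H4.NT2
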