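import Mathlib
import Groth.Prelude.Def_DRing2
import Groth.Prelude.Def_DRing4
import Groth.Agent.H4.NT2
import Groth.Agent.H4.TA1

set_option autoImplicit false
universe u
open CategoryTheory Category Limits MonoidalCategory
attribute [local instance] HasDerivedCategory.standard

namespace Groth.Agent.H4.NT10

open Groth.Agent.H4.TC4 Groth.Agent.H4.TC5 Groth.Agent.H4.TC6 Groth.Agent.H4.TC10
open Groth.Agent.H4.TC11 Groth.Agent.H4.TA1 Groth.Agent.H4.TA2 DRing Groth.Agent.H4.NT2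
open Groth.Agent.H4.LK4

variable {R : Type u} [CommRing R] {S : Type u} [CommRing S] (σ : R →+* S)

/-- **descent of tor amplitude along a nilpotent surjection** -/
theorem hasTorAmp_of_ext_of_nilpotent (hσ : Function.Surjective σ) (n : ℕ)
    (hn : (RingHom.ker σ) ^ n = ⊥) (P : Cx R) (hP : KFlat P)
    (hfl : ∀ j, Module.Flat R (P.X j)) (a b : ℤ)
    (h : HasTorAmplitudeIn S a b (toD ((DTen.extCx σ).obj P))) :
    HasTorAmplitudeIn R a b (toD P) := by
  have hQ : KFlat ((DTen.extCx σ).obj P) := Groth.Agent.H4.TC15.kflat_extendScalars σ P hP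
  have h1 : ∀ M : ModuleCat.{u} R, (∀ c ∈ RingHom.ker σ, ∀ m : M, c • m = 0) →
      ∀ j ∈ {j : ℤ | j < a ∨ b < j}, (DRing.tensorCx P M).ExactAt j := by
    intro M hM j hj
    obtain ⟨N, ⟨e⟩⟩ := exists_module_of_torsion σ hσ M hM
    refine (exactAt_iff_of_iso ((tensorCxFunctor P).mapIso e) j).1 ?_
    change (DRing.tensorCx P ((ModuleCat.restrictScalars σ).obj N)).ExactAt j
    rw [exactAt_tensorCx_res_iff, ← exactAt_tensor_sg_iff]
    obtain ⟨N', π, -, hN', hπ, hN0⟩ := exists_kflat_resolution_sg N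
    have h2 := exactAt_tensor_of_hasTorAmp _ a b h N' hN' hN0 j hj
    have h3 := quasiIso_whiskerLeft_of_kflat hQ π hπ
    exact (exactAt_iff_of_quasiIso _ h3 j).1 h2
  apply hasTorAmp_of_exactAt_tensor
  intro M
  obtain ⟨N', π, -, hN', hπ, -⟩ := exists_kflat_resolution_sg M
  refine ⟨N', π, hN', hπ, fun q hq => ?_⟩
  have h3 := quasiIso_whiskerLeft_of_kflat hP π hπ
  rw [exactAt_iff_of_quasiIso _ h3 q, exactAt_tensor_sg_iff]
  exact exactAt_tensorCx_of_nilpotent (RingHom.ker σ) n hn P hfl {j : ℤ | j < a ∨ b < j} h1 M q hq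

end Groth.Agent.H4.NT10
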