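import Mathlib
import Groth.Agent.H4.NT10
import Groth.Agent.H4.LCT3
import Groth.Agent.H4.DNak1

set_option autoImplicit false
universe u w w'
open CategoryTheory Category Limits MonoidalCategory
attribute [local instance] HasDerivedCategory.standard

namespace Groth.Agent.H4.FlGl1

open Groth.Agent.H4.TC4 Groth.Agent.H4.TC5 Groth.Agent.H4.TC6 Groth.Agent.H4.TC7 Groth.Agent.H4.TC10
open Groth.Agent.H4.TC11 Groth.Agent.H4.TA1 Groth.Agent.H4.TA2 DRing Groth.Agent.H4.NT2
open Groth.Agent.H4.LK4 Groth.Agent.H4.LCT2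

variable {R : Type u} [CommRing R]

section filtered

variable {J : Type w} [Category.{w'} J] [IsFiltered J]
  [HasColimitsOfShape J (ModuleCat.{u} R)]
  [PreservesColimitsOfShape J (forget (ModuleCat.{u} R))]
  (F : J ⥤ Cx R) (c : Cocone F) (hc : IsColimit c)

include hc in
/-- exactness in one degree passes to filtered colimits. -/
lemma exactAt_of_isColimit_filtered' (n : ℤ) (h : ∀ j, (F.obj j).ExactAt n) : c.pt.ExactAt n := by
  rw [HomologicalComplex.exactAt_iff' _ (n - 1) n (n + 1) (by simp) (by simp),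
    ShortComplex.moduleCat_exact_iff]
  intro z hz
  change (c.pt.d n (n + 1)) z = 0 at hz
  have hcn : ∀ m : ℤ, IsColimit ((HomologicalComplex.eval _ _ m).mapCocone c) :=
    fun m => isColimitOfPreserves _ hc
  obtain ⟨j, (y : (F.obj j).X n), hy⟩ := Concrete.isColimit_exists_rep _ (hcn n) z
  change (c.ι.app j).f n y = z at hy
  have h0 : (c.ι.app j).f (n + 1) ((F.obj j).d n (n + 1) y) = (c.ι.app j).f (n + 1) 0 := by
    rw [map_zero]
    have hcomm := hom_comm_apply (c.ι.app j) n (n + 1) y
    rw [← hcomm, hy]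
    exact hz
  obtain ⟨k, f, g, hfg⟩ := Concrete.isColimit_exists_of_rep_eq _ (hcn (n + 1)) _ _ h0
  change (F.map f).f (n + 1) ((F.obj j).d n (n + 1) y) = (F.map g).f (n + 1) 0 at hfg
  rw [map_zero] at hfg
  have hk := h k
  rw [HomologicalComplex.exactAt_iff' _ (n - 1) n (n + 1) (by simp) (by simp),
    ShortComplex.moduleCat_exact_iff] at hk
  have hyk : ((F.obj k).d n (n + 1)) ((F.map f).f n y) = 0 := by
    rw [hom_comm_apply (F.map f) n (n + 1) y]
    exact hfg
  obtain ⟨(w : (F.obj k).X (n - 1)), hw⟩ := hk ((F.map f).f n y) hyk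
  change ((F.obj k).d (n - 1) n) w = (F.map f).f n y at hw
  refine ⟨(c.ι.app k).f (n - 1) w, ?_⟩
  change (c.pt.d (n - 1) n) _ = z
  have hcomm := hom_comm_apply (c.ι.app k) (n - 1) n w
  refine hcomm.trans ?_
  rw [hw, ← hy]
  have hnat := c.w f
  rw [← hnat, HomologicalComplex.comp_f, ModuleCat.comp_apply]

end filtered

/-- the connecting-map variant of `exactAt_tensorCx_of_shortExact`. -/
lemma exactAt_tensorCx_X₁_of_shortExact (P : Cx R) (hfl : ∀ j, Module.Flat R (P.X j))
    (S : ShortComplex (ModuleCat.{u} R)) (hS : S.ShortExact) (j : ℤ)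
    (h₂ : (DRing.tensorCx P S.X₂).ExactAt j) (h₃ : (DRing.tensorCx P S.X₃).ExactAt (j - 1)) :
    (DRing.tensorCx P S.X₁).ExactAt j := by
  let T : ShortComplex (Cx R) := S.map (tensorCxFunctor P)
  have hT : T.ShortExact := by
    apply HomologicalComplex.shortExact_of_degreewise_shortExact
    intro q
    haveI : Module.Flat R (P.X q) := hfl q
    have h := hS.map_of_exact (tensorLeft (P.X q))
    exact h
  have hex := hT.homology_exact₁ (j - 1) j (by simp)
  rw [HomologicalComplex.exactAt_iff_isZero_homology] at h₂ h₃ ⊢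
  exact hex.isZero_of_both_zeros (h₃.eq_of_src _ _) (h₂.eq_of_tgt _ _)

/-- modules killed by a power of `J`. -/
theorem exactAt_tensorCx_of_killed_pow (J : Ideal R) (P : Cx R)
    (hfl : ∀ j, Module.Flat R (P.X j)) (j : ℤ)
    (h : ∀ M : ModuleCat.{u} R, (∀ a ∈ J, ∀ m : M, a • m = 0) → (DRing.tensorCx P M).ExactAt j) :
    ∀ (k : ℕ) (M : ModuleCat.{u} R), (∀ a ∈ J ^ k, ∀ m : M, a • m = 0) →
      (DRing.tensorCx P M).ExactAt j := by
  intro k
  induction k with
  | zero =>
    intro M hM
    haveI : Subsingleton M := ⟨fun x y => by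
      have hx := hM 1 (by simp) x
      have hy := hM 1 (by simp) y
      rw [one_smul] at hx hy
      rw [hx, hy]⟩
    exact exactAt_tensorCx_of_subsingleton P M j
  | succ k ih =>
    intro M hM
    let M' : Submodule R M := J • (⊤ : Submodule R M)
    have hS := LinearMap.shortExact_shortComplexKer (f := M'.mkQ) (Submodule.mkQ_surjective M')
    refine exactAt_tensorCx_of_shortExact P hfl _ hS j ?_ ?_
    · apply ih
      rintro a ha ⟨x, hx⟩
      apply Subtype.ext
      change a • x = 0
      have hx' : x ∈ M' := by simpa using hx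
      refine Submodule.smul_induction_on hx' ?_ ?_
      · intro b hb m _
        rw [smul_smul]
        exact hM (a * b) (by rw [pow_succ]; exact Ideal.mul_mem_mul ha hb) m
      · intro y z hy hz
        rw [smul_add, hy, hz, add_zero]
    · apply h
      intro a ha y
      obtain ⟨m, rfl⟩ := Submodule.mkQ_surjective M' y
      change a • M'.mkQ m = 0
      rw [← map_smul, Submodule.mkQ_apply, Submodule.Quotient.mk_eq_zero]
      exact Submodule.smul_mem_smul ha trivial

/-- power torsion modules. -/
theorem exactAt_tensorCx_of_powerTorsion (J : Ideal R) (P : Cx R)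
    (hfl : ∀ j, Module.Flat R (P.X j)) (j : ℤ)
    (h : ∀ M : ModuleCat.{u} R, (∀ a ∈ J, ∀ m : M, a • m = 0) → (DRing.tensorCx P M).ExactAt j)
    (M : ModuleCat.{u} R) (hM : LocCoh.IsPowerTorsion J M) : (DRing.tensorCx P M).ExactAt j := by
  have hc := isColimitOfPreserves (tensorCxFunctor P) (LisColimit J M hM)
  refine exactAt_of_isColimit_filtered' _ _ hc j (fun n => ?_)
  refine exactAt_tensorCx_of_killed_pow J P hfl j h n _ (fun a ha x => ?_)
  apply Subtype.ext
  exact (Submodule.mem_torsionBySet_iff _ _).1 x.2 ⟨a, ha⟩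

section Loc

variable (f : R)

lemma powerTorsion_of (M : Type u) [AddCommGroup M] [Module R M]
    (h : ∀ m : M, ∃ n : ℕ, f ^ n • m = 0) : LocCoh.IsPowerTorsion (Ideal.span {f}) M := by
  intro m
  obtain ⟨n, hn⟩ := h m
  refine ⟨n, fun a ha => ?_⟩
  rw [Ideal.span_singleton_pow, Ideal.mem_span_singleton'] at ha
  obtain ⟨c, rfl⟩ := ha
  rw [mul_smul, hn, smul_zero]

variable (T : Type u) [AddCommGroup T] [Module R T]

lemma ker_powerTorsion : LocCoh.IsPowerTorsion (Ideal.span {f})
    (LinearMap.ker (LocalizedModule.mkLinearMap (Submonoid.powers f) T)) := by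
  apply powerTorsion_of
  rintro ⟨x, hx⟩
  rw [LinearMap.mem_ker] at hx
  obtain ⟨⟨s, ⟨n, rfl⟩⟩, hs⟩ := (IsLocalizedModule.eq_zero_iff (Submonoid.powers f)
    (LocalizedModule.mkLinearMap (Submonoid.powers f) T)).1 hx
  refine ⟨n, Subtype.ext ?_⟩
  exact hs

lemma coker_powerTorsion : LocCoh.IsPowerTorsion (Ideal.span {f})
    (LocalizedModule (Submonoid.powers f) T ⧸
      LinearMap.range (LocalizedModule.mkLinearMap (Submonoid.powers f) T)) := by
  apply powerTorsion_of
  intro y
  obtain ⟨x, rfl⟩ := Submodule.mkQ_surjective _ y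
  obtain ⟨⟨m, ⟨s, ⟨n, rfl⟩⟩⟩, hms⟩ := IsLocalizedModule.surj (Submonoid.powers f)
    (LocalizedModule.mkLinearMap (Submonoid.powers f) T) x
  refine ⟨n, ?_⟩
  rw [← map_smul, Submodule.mkQ_apply, Submodule.Quotient.mk_eq_zero]
  exact ⟨m, hms.symm⟩

/-- the localized module as a restriction of scalars. -/
noncomputable def locIso (T : ModuleCat.{u} R) :
    (ModuleCat.restrictScalars.{u} (algebraMap R (Localization.Away f))).obj
      (ModuleCat.of (Localization.Away f) (LocalizedModule (Submonoid.powers f) T)) ≅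
    ModuleCat.of R (LocalizedModule (Submonoid.powers f) T) :=
  let X : ModuleCat.{u} R := (ModuleCat.restrictScalars.{u} (algebraMap R (Localization.Away f))).obj
      (ModuleCat.of (Localization.Away f) (LocalizedModule (Submonoid.powers f) T))
  let Y : ModuleCat.{u} R := ModuleCat.of R (LocalizedModule (Submonoid.powers f) T)
  let e : X ≃ₗ[R] Y :=
    { toFun := fun x => x
      invFun := fun x => x
      map_add' := fun _ _ => rfl
      map_smul' := fun a x => by
        change (algebraMap R (Localization.Away f) a) •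
          (show LocalizedModule (Submonoid.powers f) T from x) =
            a • (show LocalizedModule (Submonoid.powers f) T from x)
        exact algebraMap_smul _ a _
      left_inv := fun _ => rfl
      right_inv := fun _ => rfl }
  e.toModuleIso

end Loc

end Groth.Agent.H4.FlGl1
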