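import Mathlib
import Groth.Agent.H4.FlGl1

set_option autoImplicit false
universe u w w'
open CategoryTheory Category Limits MonoidalCategory
attribute [local instance] HasDerivedCategory.standard

namespace Groth.Agent.H4.FlGl2

open Groth.Agent.H4.TC4 Groth.Agent.H4.TC5 Groth.Agent.H4.TC6 Groth.Agent.H4.TC7 Groth.Agent.H4.TC10
open Groth.Agent.H4.TC11 Groth.Agent.H4.TA1 Groth.Agent.H4.TA2 DRing Groth.Agent.H4.NT2
open Groth.Agent.H4.LK4 Groth.Agent.H4.LCT2 Groth.Agent.H4.FlGl1 Groth.Agent.H4.TC8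

variable {R : Type u} [CommRing R]

theorem exactAt_tensorCx_of_glue (f : R) (P : Cx R) (hfl : ∀ j, Module.Flat R (P.X j))
    (hquot : ∀ (N : ModuleCat.{u} (R ⧸ Ideal.span ({f} : Set R))) (q : ℤ), q ≠ 0 →
      (DRing.tensorCx P ((ModuleCat.restrictScalars
        (Ideal.Quotient.mk (Ideal.span ({f} : Set R)))).obj N)).ExactAt q)
    (hloc : ∀ (N : ModuleCat.{u} (Localization.Away f)) (q : ℤ), q ≠ 0 →
      (DRing.tensorCx P ((ModuleCat.restrictScalars
        (algebraMap R (Localization.Away f))).obj N)).ExactAt q)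
    (T : ModuleCat.{u} R) (q : ℤ) (hq : q < 0) : (DRing.tensorCx P T).ExactAt q := by
  have hkilled : ∀ q' : ℤ, q' ≠ 0 → ∀ M : ModuleCat.{u} R,
      (∀ a ∈ Ideal.span ({f} : Set R), ∀ m : M, a • m = 0) → (DRing.tensorCx P M).ExactAt q' := by
    intro q' hq' M hM
    obtain ⟨N, ⟨e⟩⟩ := exists_module_of_torsion (Ideal.Quotient.mk (Ideal.span ({f} : Set R)))
      Ideal.Quotient.mk_surjective M (by
        intro a ha m
        rw [Ideal.mk_ker] at ha
        exact hM a ha m)
    exact (exactAt_iff_of_iso ((tensorCxFunctor P).mapIso e) q').1 (hquot N q' hq')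
  have hpt : ∀ q' : ℤ, q' ≠ 0 → ∀ M : ModuleCat.{u} R,
      LocCoh.IsPowerTorsion (Ideal.span ({f} : Set R)) M → (DRing.tensorCx P M).ExactAt q' :=
    fun q' hq' M hM => exactAt_tensorCx_of_powerTorsion _ P hfl q' (hkilled q' hq') M hM
  let φ : T →ₗ[R] LocalizedModule (Submonoid.powers f) T :=
    LocalizedModule.mkLinearMap (Submonoid.powers f) T
  let Rg := LinearMap.range φ
  let p : T →ₗ[R] Rg := φ.rangeRestrict
  have hp : Function.Surjective p := LinearMap.surjective_rangeRestrict φ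
  let S1 : ShortComplex (ModuleCat.{u} R) := p.shortComplexKer
  have hS1 : S1.ShortExact := LinearMap.shortExact_shortComplexKer hp
  let S2 : ShortComplex (ModuleCat.{u} R) :=
    ShortComplex.mk (ModuleCat.ofHom Rg.subtype) (ModuleCat.ofHom Rg.mkQ) (by
      ext x
      simp)
  have hS2 : S2.ShortExact := ModuleCat.shortComplex_shortExact S2
    (LinearMap.exact_subtype_mkQ Rg) Rg.injective_subtype Rg.mkQ_surjective
  have hTf : (DRing.tensorCx P S2.X₂).ExactAt q :=
    (exactAt_iff_of_iso ((tensorCxFunctor P).mapIso (locIso f T)) q).1 (hloc _ q (by omega))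
  have hC : (DRing.tensorCx P S2.X₃).ExactAt (q - 1) :=
    hpt (q - 1) (by omega) _ (coker_powerTorsion f T)
  have hRg : (DRing.tensorCx P S2.X₁).ExactAt q :=
    exactAt_tensorCx_X₁_of_shortExact P hfl S2 hS2 q hTf hC
  have hK : (DRing.tensorCx P S1.X₁).ExactAt q := by
    have e : S1.X₁ ≅ ModuleCat.of R (LinearMap.ker φ) :=
      (LinearEquiv.ofEq _ _ (LinearMap.ker_rangeRestrict φ)).toModuleIso
    exact (exactAt_iff_of_iso ((tensorCxFunctor P).mapIso e.symm) q).1
      (hpt q (by omega) _ (ker_powerTorsion f T))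
  exact exactAt_tensorCx_of_shortExact P hfl S1 hS1 q hK hRg

section BC

variable {S' : Type u} [CommRing S'] (σ : R →+* S') [DRing.HasLBaseChange σ]

theorem exactAt_tensorCx_of_baseChange_flat (P : Cx R) [P.IsKProjective] (hP : KFlat P)
    (N₃ : Type u) [AddCommGroup N₃] [Module S' N₃] [Module.Flat S' N₃]
    (e : (DRing.LBaseChange σ).obj (toD P) ≅ Dual.inD S' N₃)
    (N : ModuleCat.{u} S') (q : ℤ) (hq : q ≠ 0) :
    (DRing.tensorCx P ((ModuleCat.restrictScalars σ).obj N)).ExactAt q := by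
  rw [exactAt_tensorCx_res_iff, ← exactAt_tensor_sg_iff]
  obtain ⟨N', π, -, hN', hπ, hN0⟩ := exists_kflat_resolution_sg N
  have hQ : KFlat ((DTen.extCx σ).obj P) := Groth.Agent.H4.TC15.kflat_extendScalars σ P hP
  have hta : HasTorAmplitudeIn S' 0 0 (toD ((DTen.extCx σ).obj P)) := by
    refine ⟨sg (ModuleCat.of S' N₃), ?_, ?_, ⟨?_⟩⟩
    · intro i hi
      exact isZero_sg_X _ i (by omega)
    · intro i
      exact Groth.Agent.H4.LCT3.flat_single_X (ModuleCat.of S' N₃) i
    · exact ((DerivedCategory.singleFunctorIsoCompQ (ModuleCat.{u} S') 0).app _).symm ≪≫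
        e.symm ≪≫ Groth.Agent.H4.LDer.isoOfKProj (ModuleCat.extendScalars.{u, u, u} σ) P
  have h2 := exactAt_tensor_of_hasTorAmp _ 0 0 hta N' hN' hN0 q (by omega)
  have h3 := quasiIso_whiskerLeft_of_kflat hQ π hπ
  exact (exactAt_iff_of_quasiIso _ h3 q).1 h2

end BC

theorem main (f : R) (M : Dual.D R)
    [DRing.HasLBaseChange (algebraMap R (Localization.Away f))]
    [DRing.HasLBaseChange (Ideal.Quotient.mk (Ideal.span ({f} : Set R)))]
    (h1 : ∀ i : ℤ, 0 < i → Subsingleton (Dual.HD R M i))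
    (h2 : ∃ (N : Type u) (_ : AddCommGroup N) (_ : Module (Localization.Away f) N),
      Module.Flat (Localization.Away f) N ∧
        Nonempty ((DRing.LBaseChange (algebraMap R (Localization.Away f))).obj M ≅
          Dual.inD (Localization.Away f) N))
    (h3 : ∃ (N : Type u) (_ : AddCommGroup N) (_ : Module (R ⧸ Ideal.span ({f} : Set R)) N),
      Module.Flat (R ⧸ Ideal.span ({f} : Set R)) N ∧
        Nonempty ((DRing.LBaseChange (Ideal.Quotient.mk (Ideal.span ({f} : Set R)))).obj M ≅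
          Dual.inD (R ⧸ Ideal.span ({f} : Set R)) N)) :
    ∃ (N : Type u) (_ : AddCommGroup N) (_ : Module R N), Module.Flat R N ∧
      Nonempty (M ≅ Dual.inD R N) := by
  obtain ⟨P, t, hPk, hfree, hPfl, ht⟩ := exists_kproj_free_kflat (DerivedCategory.Q.objPreimage M)
  haveI := hPk
  haveI : QuasiIso t := ht
  let eM : toD P ≅ M := asIso (DerivedCategory.Q.map t) ≪≫ DerivedCategory.Q.objObjPreimageIso M
  have hfl : ∀ j, Module.Flat R (P.X j) := fun j => by
    haveI := hfree j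
    infer_instance
  haveI : (toD P).IsLE 0 := by
    rw [DerivedCategory.isLE_iff]
    intro i hi
    haveI := h1 i hi
    exact IsZero.of_iso (ModuleCat.isZero_of_subsingleton _)
      ((DerivedCategory.homologyFunctor _ i).mapIso eM)
  haveI : P.IsLE 0 := by
    rw [CochainComplex.isLE_iff]
    intro i hi
    exact Groth.Agent.H4.LDer.exactAt_of_isLE P 0 i hi
  obtain ⟨N₂, i21, i22, hN₂, ⟨e₂⟩⟩ := h2
  obtain ⟨N₃, i31, i32, hN₃, ⟨e₃⟩⟩ := h3
  have hclaim : ∀ (T : ModuleCat.{u} R) (q : ℤ), q ≠ 0 → (DRing.tensorCx P T).ExactAt q := by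
    intro T q hq
    rcases lt_or_gt_of_ne hq with hneg | hpos
    · exact exactAt_tensorCx_of_glue f P hfl
        (fun N q' hq' => exactAt_tensorCx_of_baseChange_flat _ P hPfl N₃
          ((DRing.LBaseChange _).mapIso eM ≪≫ e₃) N q' hq')
        (fun N q' hq' => exactAt_tensorCx_of_baseChange_flat _ P hPfl N₂
          ((DRing.LBaseChange _).mapIso eM ≪≫ e₂) N q' hq')
        T q hneg
    · exact Groth.Agent.H4.DNak1.exactAt_map_of_isKProjective P 0 (tensorRight T) q hpos
  have hta : HasTorAmplitudeIn R 0 0 (toD P) := by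
    apply hasTorAmp_of_exactAt_tensor
    intro M₀
    obtain ⟨N', π, -, hN', hπ, -⟩ := exists_kflat_resolution_sg M₀
    refine ⟨N', π, hN', hπ, fun q hq => ?_⟩
    have h3 := quasiIso_whiskerLeft_of_kflat hPfl π hπ
    rw [exactAt_iff_of_quasiIso _ h3 q, exactAt_tensor_sg_iff]
    exact hclaim M₀ q (by omega)
  obtain ⟨E, hz, hEfl, ⟨eE⟩⟩ := hta
  haveI : E.IsStrictlyGE 0 := by
    rw [CochainComplex.isStrictlyGE_iff]
    intro i hi
    exact hz i (Or.inl hi)
  haveI : E.IsStrictlyLE 0 := by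
    rw [CochainComplex.isStrictlyLE_iff]
    intro i hi
    exact hz i (Or.inr hi)
  obtain ⟨M₀, ⟨e⟩⟩ := CochainComplex.exists_iso_single E 0
  have eM₀ : E.X 0 ≅ M₀ := (HomologicalComplex.eval _ _ 0).mapIso e ≪≫
    HomologicalComplex.singleObjXSelf (ComplexShape.up ℤ) 0 M₀
  haveI := hEfl 0
  refine ⟨M₀, inferInstance, inferInstance,
    Module.Flat.of_linearEquiv eM₀.toLinearEquiv.symm, ⟨?_⟩⟩
  exact eM.symm ≪≫ eE.symm ≪≫ DerivedCategory.Q.mapIso e ≪≫
    ((DerivedCategory.singleFunctorIsoCompQ (ModuleCat.{u} R) 0).app M₀).symm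

end Groth.Agent.H4.FlGl2
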