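import Mathlib
set_option autoImplicit false
universe u
open TensorProduct

namespace Groth.Agent.H4.FlatBC

/-- compatibility: tensoring an `R`-linear map with `R ⊗[B] A` over `R` vs with `A` over `B` -/
theorem rTensor_injective_iff (B R A : Type u) [CommRing B] [CommRing R] [Algebra B R]
    [AddCommGroup A] [Module B A]
    (N' N : Type u) [AddCommGroup N'] [AddCommGroup N] [Module R N'] [Module R N]
    [Module B N'] [Module B N] [IsScalarTower B R N'] [IsScalarTower B R N]
    (f : N' →ₗ[R] N) :
    Function.Injective (f.rTensor (R ⊗[B] A)) ↔
      Function.Injective ((f.restrictScalars B).rTensor A) := by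
  let e' := AlgebraTensorModule.cancelBaseChange B R R N' A
  let e := AlgebraTensorModule.cancelBaseChange B R R N A
  have hcomm : ∀ z, e (f.rTensor (R ⊗[B] A) z) = (f.restrictScalars B).rTensor A (e' z) := by
    intro z
    induction z using TensorProduct.induction_on with
    | zero => simp
    | add a b ha hb => simp only [map_add, ha, hb]
    | tmul n' w =>
      induction w using TensorProduct.induction_on with
      | zero => simp
      | add a b ha hb => simp only [tmul_add, map_add, ha, hb]
      | tmul r a =>
        simp [e, e']
  constructor
  · intro h1 z1 z2 h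
    obtain ⟨w1, rfl⟩ := e'.surjective z1
    obtain ⟨w2, rfl⟩ := e'.surjective z2
    rw [← hcomm, ← hcomm] at h
    rw [h1 (e.injective h)]
  · intro h1 z1 z2 h
    apply e'.injective
    apply h1
    rw [← hcomm, ← hcomm, h]

/-- If `R ⊗[B] A` is flat over `R`, then `- ⊗[B] A` preserves injections of `R`-modules. -/
theorem rTensor_injective_of_flat_baseChange (B R A : Type u) [CommRing B] [CommRing R]
    [Algebra B R] [AddCommGroup A] [Module B A] [Module.Flat R (R ⊗[B] A)]
    (N' N : Type u) [AddCommGroup N'] [AddCommGroup N] [Module R N'] [Module R N]
    [Module B N'] [Module B N] [IsScalarTower B R N'] [IsScalarTower B R N]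
    (f : N' →ₗ[R] N) (hf : Function.Injective f) :
    Function.Injective ((f.restrictScalars B).rTensor A) :=
  (rTensor_injective_iff B R A N' N f).mp
    (Module.Flat.rTensor_preserves_injective_linearMap f hf)

/-- flatness of the base change, tested on ideals via `B`-tensor products -/
theorem flat_baseChange_iff (B R A : Type u) [CommRing B] [CommRing R]
    [Algebra B R] [AddCommGroup A] [Module B A] :
    Module.Flat R (R ⊗[B] A) ↔
      ∀ J : Ideal R, Function.Injective ((J.subtype.restrictScalars B).rTensor A) := by
  rw [Module.Flat.iff_rTensor_injective']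
  exact forall_congr' fun J => rTensor_injective_iff B R A J R J.subtype

end Groth.Agent.H4.FlatBC
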