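import Mathlib
import Groth.Agent.H4.TorIndBC
import Groth.Agent.H4.PC9
import Groth.Agent.H4.KProj8
import Groth.Agent.Lib.Helper2.TorFlatBC
import Groth.Agent.Lib.Helper8.ExtScalarsBridge
import Groth.Agent.Lib.Helper1.IntModelAlg

set_option autoImplicit false
universe u
attribute [local instance] HasDerivedCategory.standard
open CategoryTheory CategoryTheory.Limits MonoidalCategory DerivedCategory DRing TensorProduct Groth.Agent.H4.LDer Groth.Agent.H4.PC Groth.Agent.H4.PCDesc Groth.Agent.H4.RestrPC Groth.Agent.H2.TorBal Groth.Agent.H2.TorBC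

namespace Groth.Agent.H4.FlatFPPC

/-- Tor-independence of an `R₀`-flat `P₀`-module and `P = P₀ ⊗_{R₀} R`. -/
theorem isZero_tor_of_isPushout (R₀ P₀ R P : Type u) [CommRing R₀] [CommRing P₀] [CommRing R] [CommRing P]
    [Algebra R₀ P₀] [Algebra R₀ R] [Algebra R₀ P] [Algebra P₀ P] [Algebra R P]
    [IsScalarTower R₀ P₀ P] [IsScalarTower R₀ R P] [Algebra.IsPushout R₀ P₀ R P] [Module.Flat R₀ P₀]
    (M₀ : Type u) [AddCommGroup M₀] [Module R₀ M₀] [Module P₀ M₀] [IsScalarTower R₀ P₀ M₀]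
    [Module.Flat R₀ M₀] (p : ℕ) (hp : 1 ≤ p) :
    IsZero (((Tor (ModuleCat.{u} P₀) p).obj (ModuleCat.of P₀ M₀)).obj
      ((ModuleCat.restrictScalars.{u} (algebraMap P₀ P)).obj (ModuleCat.of P P))) := by
  obtain ⟨q, rfl⟩ : ∃ q, p = q + 1 := ⟨p - 1, by omega⟩
  obtain ⟨φ, hφ⟩ := slb_tor (A := R₀) (A' := P₀) (Q' := M₀) (q + 1) R (torIndep_of_flat R)
  haveI : Module.Flat R₀ (ModuleCat.of R₀ M₀) := inferInstanceAs (Module.Flat R₀ M₀)
  have h1 : IsZero (torObj (q + 1) (ModuleCat.of R₀ R) (ModuleCat.of R₀ M₀)) :=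
    isZero_tor_succ_of_flat_right _ _ q
  haveI := ModuleCat.subsingleton_of_isZero h1
  haveI : Subsingleton (torObj (q + 1) (ModuleCat.of P₀ (P₀ ⊗[R₀] R)) (ModuleCat.of P₀ M₀)) :=
    hφ.2.subsingleton
  have h2 : IsZero (torObj (q + 1) (ModuleCat.of P₀ (P₀ ⊗[R₀] R)) (ModuleCat.of P₀ M₀)) :=
    ModuleCat.isZero_of_subsingleton _
  let i : ModuleCat.of P₀ (P₀ ⊗[R₀] R) ≅
      (ModuleCat.restrictScalars.{u} (algebraMap P₀ P)).obj (ModuleCat.of P P) :=
    (Algebra.IsPushout.equiv R₀ P₀ R P).toLinearEquiv.toModuleIso ≪≫ ofIsoRestrict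
  have h3 := h2.of_iso (((Tor (ModuleCat.{u} P₀) (q + 1)).mapIso i).app (ModuleCat.of P₀ M₀)).symm
  obtain ⟨s⟩ := nonempty_tor_symm (ModuleCat.of P₀ M₀)
    ((ModuleCat.restrictScalars.{u} (algebraMap P₀ P)).obj (ModuleCat.of P P)) (q + 1)
  exact h3.of_iso s

theorem isPC'_ext_of_isPushout (R₀ P₀ R P : Type u) [CommRing R₀] [CommRing P₀] [CommRing R] [CommRing P]
    [Algebra R₀ P₀] [Algebra R₀ R] [Algebra R₀ P] [Algebra P₀ P] [Algebra R P]
    [IsScalarTower R₀ P₀ P] [IsScalarTower R₀ R P] [Algebra.IsPushout R₀ P₀ R P] [Module.Flat R₀ P₀]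
    (M₀ : Type u) [AddCommGroup M₀] [Module R₀ M₀] [Module P₀ M₀] [IsScalarTower R₀ P₀ M₀]
    [Module.Flat R₀ M₀] (h : DRing.IsPseudoCoherentModule' P₀ M₀) :
    DRing.IsPseudoCoherent' P ((singleFunctor (ModuleCat.{u} P) 0).obj
      ((ModuleCat.extendScalars.{u, u, u} (algebraMap P₀ P)).obj (ModuleCat.of P₀ M₀))) := by
  haveI : DRing.HasLBaseChange (algebraMap P₀ P) := Groth.Agent.H4.KProj.hasLBaseChange _
  obtain ⟨i⟩ := Groth.Agent.H4.TorIndBC.nonempty_LBC_single_iso (algebraMap P₀ P)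
    (ModuleCat.of P₀ M₀) (isZero_tor_of_isPushout R₀ P₀ R P M₀)
  exact isPC'_of_forall_isPC _ (fun m => isPC_of_iso i
    (isPC_LBaseChange (algebraMap P₀ P) m _ (isPC_of_isPC' _ h m)))

theorem isPC'_of_isBaseChange (R₀ P₀ R P : Type u) [CommRing R₀] [CommRing P₀] [CommRing R] [CommRing P]
    [Algebra R₀ P₀] [Algebra R₀ R] [Algebra R₀ P] [Algebra P₀ P] [Algebra R P]
    [IsScalarTower R₀ P₀ P] [IsScalarTower R₀ R P] [Algebra.IsPushout R₀ P₀ R P] [Module.Flat R₀ P₀]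
    (M₀ : Type u) [AddCommGroup M₀] [Module R₀ M₀] [Module P₀ M₀] [IsScalarTower R₀ P₀ M₀]
    [Module.Flat R₀ M₀] (h : DRing.IsPseudoCoherentModule' P₀ M₀)
    (N : Type u) [AddCommGroup N] [Module P N] [Module P₀ N] [IsScalarTower P₀ P N]
    (f : M₀ →ₗ[P₀] N) (hf : IsBaseChange P f) : DRing.IsPseudoCoherentModule' P N := by
  have h1 := isPC'_ext_of_isPushout R₀ P₀ R P M₀ h
  let e : ((ModuleCat.extendScalars.{u, u, u} (algebraMap P₀ P)).obj (ModuleCat.of P₀ M₀)) ≅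
      ModuleCat.of P N :=
    ((Groth.Agent.H8.ExtBridge.extEquiv (A := P₀) (B := P) (ModuleCat.of P₀ M₀)).trans
      hf.equiv).toModuleIso
  obtain ⟨E, b, hb, hE, ⟨i⟩⟩ := h1
  exact ⟨E, b, hb, hE, ⟨i ≪≫ (singleFunctor (ModuleCat.{u} P) 0).mapIso e⟩⟩

end Groth.Agent.H4.FlatFPPC

namespace Groth.Agent.H4.FlatFPPC

open Groth.Agent.H1.PolyModel Groth.Agent.H1.LimFlat Groth.Agent.H1.IntModel

attribute [local instance] MvPolynomial.algebraMvPolynomial

/-- A finitely presented module over a polynomial ring `R[x₁..xₙ]` which is flat over `R` is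
pseudo-coherent over the polynomial ring. -/
theorem isPC'_Mod {R : Type u} [CommRing R] (n r t : ℕ) (k : Fin t → (Fin r → P n R))
    [Module.Flat R (Mod r t k)] : DRing.IsPseudoCoherentModule' (P n R) (Mod r t k) := by
  obtain ⟨S₂, hS₂, k₂, hk₂, hflat₂⟩ := exists_fg_flat_model r t k
  haveI : Algebra.FiniteType ℤ S₂ := (Subalgebra.fg_iff_finiteType S₂).1 hS₂
  haveI : IsNoetherianRing S₂ := Algebra.FiniteType.isNoetherianRing ℤ S₂
  haveI : IsNoetherianRing (P n S₂) := inferInstance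
  have h0 : DRing.IsPseudoCoherentModule' (P n S₂) (Mod r t k₂) := by
    rw [Groth.Agent.H4.PC.isPC'_module_iff_of_noetherian]
    infer_instance
  subst hk₂
  exact isPC'_of_isBaseChange S₂ (P n S₂) R (P n R) (Mod r t k₂) h0 _ (muM R r t k₂)
    (isBaseChange_muM R r t k₂)

end Groth.Agent.H4.FlatFPPC
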