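import Mathlib
import Groth.Agent.H4.FlatFPPC
import Groth.Prelude.Def_MoreMor

set_option autoImplicit false
universe u
attribute [local instance] HasDerivedCategory.standard
open CategoryTheory CategoryTheory.Limits DerivedCategory DRing Groth.Agent.H1.PolyModel Groth.Agent.H1.LimFlat Groth.Agent.H1.IntModel

namespace Groth.Agent.H4.FlatFPPC2

attribute [local instance] MvPolynomial.algebraMvPolynomial in
theorem isPCHom_of_flat_fp (A B : Type u) [CommRing A] [CommRing B] [Algebra A B]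
    [Module.Flat A B] [Algebra.FinitePresentation A B] : MoreMor.IsPseudoCoherentHom A B := by
  classical
  obtain ⟨n, φ, hφ, hker⟩ := Algebra.FinitePresentation.out (R := A) (A := B)
  obtain ⟨t', s, hs⟩ := Submodule.fg_iff_exists_fin_generating_family.mp hker
  let k : Fin t' → (Fin 1 → P n A) := fun u _ => s u
  have hspan : Ideal.span (Set.range fun u => k u 0) = RingHom.ker φ.toRingHom := hs
  let e₁ : Mod 1 t' k ≃ₗ[P n A] (P n A ⧸ RingHom.ker φ.toRingHom) :=
    (modOneEquiv t' k) ≪≫ₗ Submodule.quotEquivOfEq _ _ hspan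
  let e₂ : (P n A ⧸ RingHom.ker φ.toRingHom) ≃ₐ[A] B := Ideal.quotientKerAlgEquivOfSurjective hφ
  haveI : Module.Flat A (Mod 1 t' k) :=
    Module.Flat.of_linearEquiv ((e₁.restrictScalars A) ≪≫ₗ e₂.toLinearEquiv)
  have h1 := Groth.Agent.H4.FlatFPPC.isPC'_Mod n 1 t' k
  refine ⟨n, φ, hφ, ?_⟩
  letI := φ.toRingHom.toAlgebra
  let e₃ : (P n A ⧸ RingHom.ker φ.toRingHom) ≃ₗ[P n A] B :=
    { e₂.toLinearEquiv.toAddEquiv with
      map_smul' := fun p x => by
        obtain ⟨y, rfl⟩ := Ideal.Quotient.mk_surjective x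
        change e₂ (p • Ideal.Quotient.mk _ y) = φ p * e₂ (Ideal.Quotient.mk _ y)
        rw [Algebra.smul_def, Ideal.Quotient.algebraMap_eq, map_mul]
        rfl }
  obtain ⟨E, b, hb, hE, ⟨i⟩⟩ := h1
  exact ⟨E, b, hb, hE, ⟨i ≪≫ (singleFunctor (ModuleCat.{u} (P n A)) 0).mapIso
    (e₁ ≪≫ₗ e₃).toModuleIso⟩⟩

end Groth.Agent.H4.FlatFPPC2
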