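import Mathlib
import Groth.Agent.H4.FlatFPPC2
import Groth.Agent.H4.RelPC3
import Groth.Agent.S7071

set_option autoImplicit false
universe u
attribute [local instance] HasDerivedCategory.standard
open CategoryTheory CategoryTheory.Limits DerivedCategory DRing Groth.Agent.H1.PolyModel Groth.Agent.H1.LimFlat Groth.Agent.H1.IntModel Groth.Agent.H4.PC Groth.Agent.H4.PCHom Groth.Agent.H4.RelPC

namespace Groth.Agent.H4.FlatFPPC3

attribute [local instance] MvPolynomial.algebraMvPolynomial in
/-- A finitely presented module over a flat finitely presented `R`-algebra `A` which is flat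
over `R` is pseudo-coherent over `A`. -/
theorem isPC'_module_of_fp_flat (R A : Type u) [CommRing R] [CommRing A] [Algebra R A]
    [Module.Flat R A] [Algebra.FinitePresentation R A]
    (M : Type u) [AddCommGroup M] [Module A M] [Module R M] [IsScalarTower R A M]
    [Module.FinitePresentation A M] [Module.Flat R M] : DRing.IsPseudoCoherentModule' A M := by
  classical
  obtain ⟨n, α, hα, hker⟩ := Algebra.FinitePresentation.out (R := R) (A := A)
  letI algPA : Algebra (P n R) A := α.toRingHom.toAlgebra
  haveI : IsScalarTower R (P n R) A := IsScalarTower.of_algebraMap_eq (fun a => by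
    change algebraMap R A a = α (algebraMap R _ a)
    rw [α.commutes])
  letI modPM : Module (P n R) M := Module.compHom M (algebraMap (P n R) A)
  haveI : IsScalarTower (P n R) A M := ⟨fun p a m => by
    change (algebraMap (P n R) A p * a) • m = algebraMap (P n R) A p • (a • m)
    rw [mul_smul]⟩
  haveI : IsScalarTower R (P n R) M := ⟨fun r p m => by
    change algebraMap (P n R) A (r • p) • m = r • (algebraMap (P n R) A p • m)
    rw [Algebra.smul_def, map_mul, ← IsScalarTower.algebraMap_apply R (P n R) A, mul_smul,
      algebraMap_smul]⟩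
  haveI : Module.FinitePresentation (P n R) A := by
    refine Module.finitePresentation_of_surjective (Algebra.linearMap (P n R) A) hα ?_
    exact hker
  haveI : Module.FinitePresentation (P n R) M := Module.FinitePresentation.trans (P n R) M A
  obtain ⟨r, K, e, hK⟩ := Module.FinitePresentation.exists_fin (P n R) M
  obtain ⟨t, k, hk⟩ := Submodule.fg_iff_exists_fin_generating_family.mp hK
  have hK' : K = LinearMap.range (kap r t k) := by rw [range_kap, hk]
  let e' : M ≃ₗ[P n R] Mod r t k := e ≪≫ₗ Submodule.quotEquivOfEq _ _ hK'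
  haveI : Module.Flat R (Mod r t k) := Module.Flat.of_linearEquiv (e'.symm.restrictScalars R)
  have h1 := Groth.Agent.H4.FlatFPPC.isPC'_Mod n r t k
  have h2 : DRing.IsPseudoCoherent' (P n R) (Dual.inD (P n R) M) := by
    obtain ⟨E, b, hb, hE, ⟨i⟩⟩ := h1
    exact ⟨E, b, hb, hE, ⟨i ≪≫ (singleFunctor (ModuleCat.{u} (P n R)) 0).mapIso e'.symm.toModuleIso⟩⟩
  refine isPC'_of_forall_isPC _ (fun m => ?_)
  rw [← Groth.Agent.S7071.result R A (Groth.Agent.H4.FlatFPPC2.isPCHom_of_flat_fp R A) m]
  refine ⟨n, α, hα, ?_⟩
  unfold DerCA.IsRelPseudoCoherentVia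
  refine isPC_of_iso (restrictDSingle (α : P n R →+* A) (ModuleCat.of A M)).symm ?_
  exact isPC_of_isPC' _ h2 m

end Groth.Agent.H4.FlatFPPC3
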