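import Mathlib
import Groth.Agent.H4.FibPerf
import Groth.Agent.H4.BCSq
import Groth.Agent.H4.RestrPC
import Groth.Agent.Lib.Helper1.RegGlobal
import Groth.Agent.S7034
import Groth.Agent.S6948

set_option autoImplicit false
universe u
open CategoryTheory CategoryTheory.Limits MonoidalCategory TensorProduct

namespace Groth.Agent.H4.FlatLocReg

attribute [local instance] HasDerivedCategory.standard
open DerivedCategory DRing Groth.Agent.H4.LDer Groth.Agent.H4.PC Groth.Agent.H4.BC
  Groth.Agent.H4.PCDesc Groth.Agent.H4.FlatFam Groth.Agent.H4.FibPerf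

/-- A surjection `E → C` of `E`-algebras with kernel `I E` exhibits `C` as `E ⊗[R] (R ⧸ I)`
(copied from helper5's `EtSrc.isPushout_quotient`). -/
theorem isPushout_quotient' {R E C : Type u} [CommRing R] [CommRing E] [CommRing C] [Algebra R E]
    (I : Ideal R) [Algebra (R ⧸ I) C] [Algebra R C] [IsScalarTower R (R ⧸ I) C] [Algebra E C]
    [IsScalarTower R E C] (hs : Function.Surjective (algebraMap E C))
    (hker : RingHom.ker (algebraMap E C) = I.map (algebraMap R E)) :
    Algebra.IsPushout R E (R ⧸ I) C := by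
  rw [Algebra.isPushout_iff]
  let e₁ : (E ⧸ I.map (algebraMap R E)) ≃ₐ[E] E ⊗[R] (R ⧸ I) :=
    Algebra.TensorProduct.quotIdealMapEquivTensorQuot E I
  let e₂ : (E ⧸ RingHom.ker (Algebra.ofId E C)) ≃ₐ[E] C :=
    Ideal.quotientKerAlgEquivOfSurjective (f := Algebra.ofId E C) hs
  have hk : I.map (algebraMap R E) = RingHom.ker (Algebra.ofId E C) := hker.symm
  let e₃ : (E ⧸ I.map (algebraMap R E)) ≃ₐ[E] (E ⧸ RingHom.ker (Algebra.ofId E C)) :=
    Ideal.quotientEquivAlgOfEq E hk
  refine IsBaseChange.of_equiv (e₁.symm.trans (e₃.trans e₂)).toLinearEquiv ?_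
  intro x
  obtain ⟨x, rfl⟩ := Ideal.Quotient.mk_surjective x
  have h1 : e₁.symm ((1 : E) ⊗ₜ[R] (Ideal.Quotient.mk I x)) =
      Ideal.Quotient.mk _ (algebraMap R E x) := by
    rw [AlgEquiv.symm_apply_eq]
    simp only [e₁, Algebra.TensorProduct.quotIdealMapEquivTensorQuot_mk]
    rw [Algebra.algebraMap_eq_smul_one, TensorProduct.smul_tmul, ← Algebra.algebraMap_eq_smul_one]
    rfl
  simp only [AlgEquiv.toLinearEquiv_apply, AlgEquiv.trans_apply, AlgHom.toLinearMap_apply,
    IsScalarTower.coe_toAlgHom']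
  rw [h1]
  change algebraMap E C (algebraMap R E x) = _
  rw [← IsScalarTower.algebraMap_apply, IsScalarTower.algebraMap_apply R (R ⧸ I) C]
  rfl

/-- the quotient square is a pushout. -/
theorem isPushout_quot {A B : Type u} [CommRing A] [CommRing B] [Algebra A B] (I : Ideal A) :
    Algebra.IsPushout A (A ⧸ I) B (B ⧸ I.map (algebraMap A B)) := by
  refine (isPushout_quotient' (R := A) (E := B) (C := B ⧸ I.map (algebraMap A B)) I
    Ideal.Quotient.mk_surjective ?_).symm
  rw [Ideal.Quotient.algebraMap_eq, Ideal.mk_ker]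


section Main

/-- derived base change exists (local instance). -/
local instance instHasLBC' {A B : Type u} [CommRing A] [CommRing B] (φ : A →+* B) :
    DRing.HasLBaseChange φ := Groth.Agent.H4.KProj.hasLBaseChange φ

lemma isZero_homology_of_hasTorAmp {R : Type u} [CommRing R] {a b : ℤ} {K : Dual.D R}
    (h : HasTorAmplitudeIn R a b K) (i : ℤ) (hi : i < a ∨ b < i) :
    IsZero ((homologyFunctor (ModuleCat.{u} R) i).obj K) := by
  obtain ⟨E, h1, h2, ⟨e'⟩⟩ := h
  exact (isZero_homology_toD_of_isZero E i (h1 i hi)).of_iso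
    ((homologyFunctor (ModuleCat.{u} R) i).mapIso e'.symm)

section Inst

variable (A B : Type u) [CommRing A] [CommRing B] [IsLocalRing A] [Algebra A B]

/-- the fibre ring `B/m_A B`. -/
abbrev Fib : Type u := B ⧸ (IsLocalRing.maximalIdeal A).map (algebraMap A B)

noncomputable instance algResFib : Algebra (IsLocalRing.ResidueField A) (Fib A B) :=
  inferInstanceAs (Algebra (A ⧸ IsLocalRing.maximalIdeal A)
    (B ⧸ (IsLocalRing.maximalIdeal A).map (algebraMap A B)))

instance towerResFib : IsScalarTower A (IsLocalRing.ResidueField A) (Fib A B) :=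
  inferInstanceAs (IsScalarTower A (A ⧸ IsLocalRing.maximalIdeal A)
    (B ⧸ (IsLocalRing.maximalIdeal A).map (algebraMap A B)))

instance pushoutResFib : Algebra.IsPushout A (IsLocalRing.ResidueField A) B (Fib A B) :=
  isPushout_quot (IsLocalRing.maximalIdeal A)

end Inst

variable {A B : Type u} [CommRing A] [CommRing B] [IsLocalRing A] [IsLocalRing B] [Algebra A B]
  [IsLocalHom (algebraMap A B)] [Module.Flat A B]

theorem main (d : ℕ)
    [IsRegularLocalRing (B ⧸ (IsLocalRing.maximalIdeal A).map (algebraMap A B))]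
    (hd : ringKrullDim (B ⧸ (IsLocalRing.maximalIdeal A).map (algebraMap A B)) = d)
    (a b : ℤ) (K : Dual.D B) (hK : DRing.IsPseudoCoherent' B K)
    (h : ∀ i : ℤ, (i < a ∨ b < i) →
      IsZero ((homologyFunctor (ModuleCat.{u} (IsLocalRing.ResidueField A)) i).obj
        ((DRing.LBaseChange (IsLocalRing.residue A)).obj
          ((DRing.restrictD (algebraMap A B)).obj K)))) :
    DRing.IsPerfect B K ∧ DRing.HasTorAmplitudeIn B (a - d) b K := by
  have hKm : ∀ j : ℤ, IsPseudoCoherent B j K := isPC_of_isPC' K hK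
  obtain ⟨b', hb'⟩ := exists_bound_of_isPC (hKm 0)
  haveI hK' : K.IsLE b' := isLE_of_forall_isZero K b' hb'
  -- step 1: cohomology of `L = K ⊗^L_B B/I` vanishes outside `[a, b]`
  set L := (DRing.LBaseChange (algebraMap B (Fib A B))).obj K with hL
  obtain ⟨e0⟩ := Groth.Agent.H4.BCSq.nonempty_bcIso A (IsLocalRing.ResidueField A) B (Fib A B) K b'
  have hLz : ∀ i : ℤ, (i < a ∨ b < i) →
      IsZero ((homologyFunctor (ModuleCat.{u} (Fib A B)) i).obj L) := by
    intro i hi
    have h1 := (h i hi).of_iso ((homologyFunctor _ i).mapIso e0)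
    have h2 := h1.of_iso (Groth.Agent.H4.DComp.restrictHomologyIso
      (algebraMap (IsLocalRing.ResidueField A) (Fib A B)) L i).symm
    exact (Groth.Agent.H4.RestrPC.isZero_restrictScalars_iff _ _).1 h2
  -- step 2: finite global dimension of the fibre ring gives tor amplitude `[a - d, b]`
  haveI : ∀ M : ModuleCat.{u} (Fib A B), DRing.HasLTensor (Fib A B) M :=
    fun M => Groth.Agent.H4.KProj.hasLTensor M
  have hLtor : HasTorAmplitudeIn (Fib A B) (a - d) b L := by
    refine (Groth.Agent.S7034.result (Fib A B) d (fun M _ _ =>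
      Groth.Agent.H1.Reg.hasProjectiveDimensionLT_of_isRegularLocalRing (Fib A B) d hd _)).2 L a b
      (fun i hi => ?_)
    exact ModuleCat.subsingleton_of_isZero (hLz i hi)
  -- step 3: pass to the residue field of `B`
  have hle : (IsLocalRing.maximalIdeal A).map (algebraMap A B) ≤ IsLocalRing.maximalIdeal B :=
    IsLocalRing.map_maximalIdeal_le (algebraMap A B)
  let ρ : Fib A B →+* IsLocalRing.ResidueField B :=
    Ideal.Quotient.lift _ (IsLocalRing.residue B) (fun x hx => by
      rw [IsLocalRing.residue_eq_zero_iff]; exact hle hx)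
  have hρ : ρ.comp (algebraMap B (Fib A B)) = IsLocalRing.residue B :=
    Ideal.Quotient.lift_comp_mk _ _ _
  have h3 := Groth.Agent.S6948.result ρ L (a - d) b hLtor
  obtain ⟨e1⟩ := nonempty_LBCComp (algebraMap B (Fib A B)) ρ K
  obtain ⟨e2⟩ := nonempty_LBC_congr hρ K
  have hres : ∀ i : ℤ, (i < a - d ∨ b < i) →
      IsZero ((homologyFunctor (ModuleCat.{u} (IsLocalRing.ResidueField B)) i).obj
        ((DRing.LBaseChange (IsLocalRing.residue B)).obj K)) := by
    intro i hi
    exact (isZero_homology_of_hasTorAmp h3 i hi).of_iso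
      ((homologyFunctor _ i).mapIso (e1 ≪≫ e2).symm)
  -- step 4: `K ∈ D^{≤ b}` by Nakayama
  haveI hleb : K.IsLE b := by
    refine isLE_of_isLE_LBC_of_nakayama (B := fun _ : Unit => IsLocalRing.ResidueField B)
      (fun _ => IsLocalRing.residue B) ?_ K hKm b (fun _ => ?_)
    · intro M hM hz
      exact isZero_of_isZero_ext_residue B M hM (hz ())
    · exact isLE_of_forall_isZero _ b (fun i hi => hres i (Or.inr hi))
  exact isPerfect_of_local B K hKm (a - d) b (fun i hi => hres i (Or.inl hi))

end Main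

end Groth.Agent.H4.FlatLocReg
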