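import Mathlib
import Groth.Agent.H4.FlatLocReg

set_option autoImplicit false
universe u
open CategoryTheory CategoryTheory.Limits MonoidalCategory TensorProduct

namespace Groth.Agent.H4.FlatFibGl

attribute [local instance] HasDerivedCategory.standard
open DerivedCategory DRing Groth.Agent.H4.LDer Groth.Agent.H4.PC Groth.Agent.H4.BC
  Groth.Agent.H4.PCDesc Groth.Agent.H4.FlatFam Groth.Agent.H4.FibPerf Groth.Agent.H4.FlatLocReg

/-- derived base change exists (local instance). -/
local instance instHasLBC'' {A B : Type u} [CommRing A] [CommRing B] (φ : A →+* B) :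
    DRing.HasLBaseChange φ := Groth.Agent.H4.KProj.hasLBaseChange φ

attribute [local instance] Algebra.TensorProduct.rightAlgebra

variable {A B : Type u} [CommRing A] [CommRing B] [Algebra A B] [Module.Flat A B]

omit [Module.Flat A B] in
/-- the map from the fibre ring `κ(p) ⊗_A B` to `B/m` for a maximal ideal `m` over `p`. -/
theorem exists_fibre_to_quotient (m : Ideal B) [hm : m.IsMaximal] :
    ∃ ρ : (TensorProduct A (m.comap (algebraMap A B)).ResidueField B) →+* B ⧸ m,
      ρ.comp (algebraMap B (TensorProduct A (m.comap (algebraMap A B)).ResidueField B)) =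
        Ideal.Quotient.mk m := by
  letI : Field (B ⧸ m) := Ideal.Quotient.field m
  let f : A →ₐ[A] B ⧸ m := Algebra.ofId A (B ⧸ m)
  have hf : ∀ x : A, f x = Ideal.Quotient.mk m (algebraMap A B x) := fun x => rfl
  let g : (m.comap (algebraMap A B)).ResidueField →ₐ[A] B ⧸ m :=
    Ideal.ResidueField.liftₐ (m.comap (algebraMap A B)) f
      (fun x hx => by
        rw [RingHom.mem_ker]
        change f x = 0
        rw [hf, Ideal.Quotient.eq_zero_iff_mem]; exact hx)
      (fun x hx => by
        change IsUnit (f x)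
        rw [isUnit_iff_ne_zero, hf, Ne, Ideal.Quotient.eq_zero_iff_mem]
        exact hx)
  let k : B →ₐ[A] B ⧸ m := IsScalarTower.toAlgHom A B (B ⧸ m)
  refine ⟨(Algebra.TensorProduct.productMap g k).toRingHom, ?_⟩
  ext x
  change Algebra.TensorProduct.productMap g k (1 ⊗ₜ x) = _
  rw [Algebra.TensorProduct.productMap_apply_tmul, map_one, one_mul]
  rfl


theorem main7035 (d : ℕ)
    (hgl : ∀ (p : PrimeSpectrum A) (M : Type u) [AddCommGroup M]
      [Module (TensorProduct A p.asIdeal.ResidueField B) M],
      HasProjectiveDimensionLT (ModuleCat.of (TensorProduct A p.asIdeal.ResidueField B) M) (d + 1))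
    (a b : ℤ) (K : Dual.D B)
    (hK : DRing.IsPseudoCoherent' B K)
    (hKa : DRing.HasTorAmplitudeIn A a b ((DRing.restrictD (algebraMap A B)).obj K)) :
    DRing.IsPerfect B K ∧ DRing.HasTorAmplitudeIn B (a - d) b K := by
  have hKm : ∀ j : ℤ, IsPseudoCoherent B j K := isPC_of_isPC' K hK
  obtain ⟨b', hb'⟩ := exists_bound_of_isPC (hKm 0)
  haveI hK' : K.IsLE b' := isLE_of_forall_isZero K b' hb'
  refine isPerfect_of_fibres B K hK (a - d) b (fun m hm i hi => ?_)
  haveI := hm
  let p : PrimeSpectrum A := ⟨m.comap (algebraMap A B), inferInstance⟩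
  obtain ⟨ρ, hρ⟩ := exists_fibre_to_quotient (A := A) m
  -- step 1: cohomology of `L = K ⊗^L_B F_p` vanishes outside `[a, b]`
  set L := (DRing.LBaseChange (algebraMap B (TensorProduct A p.asIdeal.ResidueField B))).obj K
    with hL
  obtain ⟨e0⟩ := Groth.Agent.H4.BCSq.nonempty_bcIso A p.asIdeal.ResidueField B
    (TensorProduct A p.asIdeal.ResidueField B) K b'
  have h0 := Groth.Agent.S6948.result (algebraMap A p.asIdeal.ResidueField) _ a b hKa
  have hLz : ∀ i : ℤ, (i < a ∨ b < i) →
      IsZero ((homologyFunctor (ModuleCat.{u} (TensorProduct A p.asIdeal.ResidueField B)) i).obj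
        L) := by
    intro i hi
    have h1 := (isZero_homology_of_hasTorAmp h0 i hi).of_iso ((homologyFunctor _ i).mapIso e0)
    have h2 := h1.of_iso (Groth.Agent.H4.DComp.restrictHomologyIso
      (algebraMap p.asIdeal.ResidueField (TensorProduct A p.asIdeal.ResidueField B)) L i).symm
    exact (Groth.Agent.H4.RestrPC.isZero_restrictScalars_iff _ _).1 h2
  -- step 2: finite global dimension of the fibre ring gives tor amplitude `[a - d, b]`
  haveI : ∀ M : ModuleCat.{u} (TensorProduct A p.asIdeal.ResidueField B),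
      DRing.HasLTensor (TensorProduct A p.asIdeal.ResidueField B) M :=
    fun M => Groth.Agent.H4.KProj.hasLTensor M
  have hLtor : HasTorAmplitudeIn (TensorProduct A p.asIdeal.ResidueField B) (a - d) b L := by
    refine (Groth.Agent.S7034.result (TensorProduct A p.asIdeal.ResidueField B) d
      (fun M _ _ => hgl p M)).2 L a b (fun i hi => ?_)
    exact ModuleCat.subsingleton_of_isZero (hLz i hi)
  -- step 3: pass to `B/m`
  have h3 := Groth.Agent.S6948.result ρ L (a - d) b hLtor
  obtain ⟨e1⟩ := nonempty_LBCComp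
    (algebraMap B (TensorProduct A p.asIdeal.ResidueField B)) ρ K
  obtain ⟨e2⟩ := nonempty_LBC_congr hρ K
  exact (isZero_homology_of_hasTorAmp h3 i hi).of_iso
    ((homologyFunctor _ i).mapIso (e1 ≪≫ e2).symm)

end Groth.Agent.H4.FlatFibGl
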