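import Mathlib
import Groth.Agent.H4.FlatBC
set_option autoImplicit false
universe u
open scoped TensorProduct
open Groth.Agent.H4.FlatBC

namespace Groth.Agent.H4.FlatNil

/-- Lemma F': modules killed by `F` -/
theorem rTensor_injective_of_torsion (R : Type u) [CommRing R] (F : Ideal R) (M : Type u)
    [AddCommGroup M] [Module R M] [Module.Flat (R ⧸ F) ((R ⧸ F) ⊗[R] M)]
    (N' N : Type u) [AddCommGroup N'] [AddCommGroup N] [Module R N'] [Module R N]
    (hN' : ∀ r ∈ F, ∀ x : N', r • x = 0) (hN : ∀ r ∈ F, ∀ x : N, r • x = 0)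
    (f : N' →ₗ[R] N) (hf : Function.Injective f) : Function.Injective (f.rTensor M) := by
  have tN' : Module.IsTorsionBySet R N' F := fun x r => hN' r.1 r.2 x
  have tN : Module.IsTorsionBySet R N F := fun x r => hN r.1 r.2 x
  letI : Module (R ⧸ F) N' := tN'.module
  letI : Module (R ⧸ F) N := tN.module
  haveI : IsScalarTower R (R ⧸ F) N' := tN'.isScalarTower
  haveI : IsScalarTower R (R ⧸ F) N := tN.isScalarTower
  let f' : N' →ₗ[R ⧸ F] N :=
    { toFun := f
      map_add' := f.map_add
      map_smul' := by
        intro c x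
        obtain ⟨r, rfl⟩ := Ideal.Quotient.mk_surjective c
        change f (r • x) = r • f x
        exact f.map_smul r x }
  have := rTensor_injective_of_flat_baseChange R (R ⧸ F) M N' N f' hf
  have h2 : f'.restrictScalars R = f := by ext; rfl
  rwa [h2] at this

/-- one step of the descending induction -/
theorem step (R S : Type u) [CommRing R] [CommRing S] [Algebra R S] (F : Ideal R) (M : Type u)
    [AddCommGroup M] [Module R M] [Module.Flat (R ⧸ F) ((R ⧸ F) ⊗[R] M)]
    [Module.Flat S (S ⊗[R] M)] (N' : Submodule R S) (j : ℕ)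
    (h : Function.Injective
      ((N' ⊓ ((F.map (algebraMap R S)) ^ (j + 1)).restrictScalars R).subtype.rTensor M)) :
    Function.Injective
      ((N' ⊓ ((F.map (algebraMap R S)) ^ j).restrictScalars R).subtype.rTensor M) := by
  set 𝔞 : Ideal S := F.map (algebraMap R S) with h𝔞
  let A : Submodule R S := (𝔞 ^ j).restrictScalars R
  let A' : Submodule R S := (𝔞 ^ (j + 1)).restrictScalars R
  let P : Submodule R S := N' ⊓ A
  let P' : Submodule R S := N' ⊓ A'
  have hA'A : A' ≤ A := fun x hx => Ideal.pow_le_pow_right (Nat.le_succ j) hx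
  have hP'P : P' ≤ P := inf_le_inf_left _ hA'A
  have hFA : ∀ r ∈ F, ∀ a ∈ A, r • a ∈ A' := by
    intro r hr a ha
    change r • a ∈ 𝔞 ^ (j + 1)
    rw [Algebra.smul_def, pow_succ']
    exact Ideal.mul_mem_mul (Ideal.mem_map_of_mem _ hr) ha
  -- quotients
  let A'c : Submodule R A := Submodule.comap A.subtype A'
  let P'c : Submodule R P := Submodule.comap P.subtype P'
  let incl : P →ₗ[R] A := Submodule.inclusion inf_le_right
  let g : (P ⧸ P'c) →ₗ[R] (A ⧸ A'c) := Submodule.mapQ P'c A'c incl (by
    intro x hx
    exact hx.2)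
  have hg : Function.Injective g := by
    rw [injective_iff_map_eq_zero]
    intro y hy
    obtain ⟨x, rfl⟩ := P'c.mkQ_surjective y
    rw [Submodule.mkQ_apply, Submodule.mapQ_apply, Submodule.Quotient.mk_eq_zero] at hy
    rw [Submodule.mkQ_apply, Submodule.Quotient.mk_eq_zero]
    exact ⟨x.2.1, hy⟩
  have hgt : Function.Injective (g.rTensor M) := by
    refine rTensor_injective_of_torsion R F M _ _ ?_ ?_ g hg
    · intro r hr y
      obtain ⟨x, rfl⟩ := P'c.mkQ_surjective y
      rw [← map_smul, Submodule.mkQ_apply, Submodule.Quotient.mk_eq_zero]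
      exact ⟨N'.smul_mem r x.2.1, hFA r hr x.1 x.2.2⟩
    · intro r hr y
      obtain ⟨x, rfl⟩ := A'c.mkQ_surjective y
      rw [← map_smul, Submodule.mkQ_apply, Submodule.Quotient.mk_eq_zero]
      exact hFA r hr x.1 x.2
  -- S-flatness
  have hSflat : Function.Injective (A.subtype.rTensor M) := by
    have := rTensor_injective_of_flat_baseChange R S M (𝔞 ^ j : Ideal S) S (𝔞 ^ j).subtype
      Subtype.val_injective
    exact this
  rw [injective_iff_map_eq_zero]
  intro x hx
  -- (a)
  have ha : incl.rTensor M x = 0 := by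
    apply hSflat
    rw [map_zero, ← LinearMap.comp_apply, ← LinearMap.rTensor_comp]
    exact hx
  -- (b)
  have hb : (P'c.mkQ).rTensor M x = 0 := by
    apply hgt
    rw [map_zero, ← LinearMap.comp_apply, ← LinearMap.rTensor_comp, Submodule.mapQ_mkQ,
      LinearMap.rTensor_comp, LinearMap.comp_apply, ha, map_zero]
  -- (c)
  have hmem : x ∈ LinearMap.range (P'c.subtype.rTensor M) := by
    rw [← rTensor_mkQ M P'c]
    exact hb
  obtain ⟨x'', rfl⟩ := hmem
  -- (d)
  let e : P'c ≃ₗ[R] P' := Submodule.comapSubtypeEquivOfLe hP'P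
  have hcomp : P'.subtype ∘ₗ e.toLinearMap = P.subtype ∘ₗ P'c.subtype := by
    ext y; rfl
  have h1 : (P'.subtype.rTensor M) (e.toLinearMap.rTensor M x'') = 0 := by
    rw [← LinearMap.comp_apply, ← LinearMap.rTensor_comp, hcomp, LinearMap.rTensor_comp,
      LinearMap.comp_apply]
    exact hx
  have h2 : e.toLinearMap.rTensor M x'' = 0 := h (h1.trans (map_zero _).symm)
  have h3 : x'' = 0 := by
    have hinj : Function.Injective (e.toLinearMap.rTensor M) := by
      have : e.toLinearMap.rTensor M =
          (TensorProduct.congr e (LinearEquiv.refl R M)).toLinearMap := by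
        ext; rfl
      rw [this]
      exact (TensorProduct.congr e (LinearEquiv.refl R M)).injective
    exact hinj (h2.trans (map_zero _).symm)
  rw [h3, map_zero]

/-- tensoring with a linear equivalence is injective -/
theorem rTensor_injective_of_bijective {R : Type u} [CommRing R] {N' N : Type u} [AddCommGroup N']
    [AddCommGroup N] [Module R N'] [Module R N] (M : Type u) [AddCommGroup M] [Module R M]
    (f : N' →ₗ[R] N) (hf : Function.Bijective f) : Function.Injective (f.rTensor M) := by
  let e : N' ≃ₗ[R] N := LinearEquiv.ofBijective f hf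
  have : f.rTensor M = (TensorProduct.congr e (LinearEquiv.refl R M)).toLinearMap := by
    ext; rfl
  rw [this]
  exact (TensorProduct.congr e (LinearEquiv.refl R M)).injective

theorem flat_of_nilpotent_of_injective (R S : Type u) [CommRing R] [CommRing S] [Algebra R S]
    (hinj : Function.Injective (algebraMap R S)) (F : Ideal R) (n : ℕ) (hF : F ^ n = ⊥)
    (M : Type u) [AddCommGroup M] [Module R M] [Module.Flat (R ⧸ F) ((R ⧸ F) ⊗[R] M)]
    [Module.Flat S (S ⊗[R] M)] : Module.Flat R M := by
  have claim : ∀ (N' : Submodule R S) (k : ℕ), k ≤ n → Function.Injective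
      ((N' ⊓ ((F.map (algebraMap R S)) ^ (n - k)).restrictScalars R).subtype.rTensor M) := by
    intro N' k
    induction k with
    | zero =>
      intro _
      have h0 : (F.map (algebraMap R S)) ^ (n - 0) = ⊥ := by
        rw [Nat.sub_zero, ← Ideal.map_pow, hF, Ideal.map_bot]
      rw [h0]
      have : (N' ⊓ (⊥ : Ideal S).restrictScalars R) = ⊥ := by
        rw [eq_bot_iff]
        intro x hx
        exact hx.2
      rw [this]
      intro a b _
      haveI : Subsingleton ((⊥ : Submodule R S) ⊗[R] M) := by
        haveI : Subsingleton (⊥ : Submodule R S) := inferInstance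
        infer_instance
      exact Subsingleton.elim a b
    | succ k ih =>
      intro hk
      have := step R S F M N' (n - (k + 1)) (by
        have e : n - (k + 1) + 1 = n - k := by omega
        rw [e]
        exact ih (by omega))
      exact this
  have claim0 : ∀ N' : Submodule R S, Function.Injective (N'.subtype.rTensor M) := by
    intro N'
    have h := claim N' n le_rfl
    have e : (N' ⊓ ((F.map (algebraMap R S)) ^ (n - n)).restrictScalars R) = N' := by
      rw [Nat.sub_self, pow_zero, Ideal.one_eq_top]
      exact inf_eq_left.mpr (fun x _ => trivial)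
    rw [e] at h
    exact h
  rw [Module.Flat.iff_rTensor_injective']
  intro J
  let ι : R →ₗ[R] S := Algebra.linearMap R S
  let N' : Submodule R S := Submodule.map ι J
  let ρ : J →ₗ[R] N' := (ι ∘ₗ J.subtype).codRestrict N' (fun x => ⟨x.1, x.2, rfl⟩)
  have hρ : Function.Bijective ρ := by
    constructor
    · intro a b hab
      exact Subtype.ext (hinj (congrArg Subtype.val hab))
    · rintro ⟨_, ⟨x, hx, rfl⟩⟩
      exact ⟨⟨x, hx⟩, rfl⟩
  have hcomp : ι ∘ₗ J.subtype = N'.subtype ∘ₗ ρ := by ext; rfl
  have h1 : Function.Injective ((ι.rTensor M) ∘ (J.subtype.rTensor M)) := by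
    have : (ι.rTensor M) ∘ (J.subtype.rTensor M) = (N'.subtype.rTensor M) ∘ (ρ.rTensor M) := by
      rw [← LinearMap.coe_comp, ← LinearMap.coe_comp, ← LinearMap.rTensor_comp,
        ← LinearMap.rTensor_comp, hcomp]
    rw [this]
    exact (claim0 N').comp (rTensor_injective_of_bijective M ρ hρ)
  exact Function.Injective.of_comp h1

end Groth.Agent.H4.FlatNil
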