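import Mathlib
set_option autoImplicit false
universe u
open scoped TensorProduct
open Polynomial

namespace Groth.Agent.H4.SplitExt

/-- algebraMap into `AdjoinRoot` of a monic polynomial of positive degree is injective -/
theorem adjoinRoot_injective {R : Type u} [CommRing R] (P : R[X]) (hP : P.Monic)
    (hd : 0 < P.natDegree) : Function.Injective (algebraMap R (AdjoinRoot P)) := by
  let pb := AdjoinRoot.powerBasis' hP
  have hdim : pb.dim = P.natDegree := rfl
  let i0 : Fin pb.dim := ⟨0, by rw [hdim]; exact hd⟩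
  have h1 : pb.basis i0 = 1 := by
    rw [pb.basis_eq_pow]; simp [i0]
  intro a b hab
  have h2 : a • pb.basis i0 = b • pb.basis i0 := by
    rw [h1, Algebra.smul_def, Algebra.smul_def, mul_one, mul_one]; exact hab
  have h3 := congrArg (fun v => pb.basis.repr v i0) h2
  simp only [map_smul, Module.Basis.repr_self, Finsupp.smul_apply, Finsupp.single_eq_same,
    smul_eq_mul, mul_one] at h3
  exact h3

/-- total splitting of a monic polynomial in a finite free extension -/
theorem split (d : ℕ) : ∀ (R : Type u) [CommRing R] (P : R[X]), P.Monic → P.natDegree = d →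
    ∃ (R' : Type u) (_ : CommRing R') (_ : Algebra R R'), Module.Finite R R' ∧ Module.Free R R' ∧
      Function.Injective (algebraMap R R') ∧
      ∃ α : Fin d → R', P.map (algebraMap R R') = ∏ j, (X - C (α j)) := by
  induction d with
  | zero =>
    intro R _ P hP hd
    refine ⟨R, inferInstance, inferInstance, inferInstance, inferInstance,
      fun a b h => h, Fin.elim0, ?_⟩
    have : P = 1 := by
      rw [← hP.natDegree_eq_zero]; exact hd
    simp [this]
  | succ d ih =>
    intro R _ P hP hd
    rcases subsingleton_or_nontrivial R with hs | hn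
    · refine ⟨R, inferInstance, inferInstance, inferInstance, inferInstance,
        fun a b h => h, fun _ => 0, ?_⟩
      exact Subsingleton.elim _ _
    let R₁ := AdjoinRoot P
    have hinj₁ : Function.Injective (algebraMap R R₁) :=
      adjoinRoot_injective P hP (by omega)
    haveI : Nontrivial R₁ := hinj₁.nontrivial
    haveI : Module.Finite R R₁ := hP.finite_adjoinRoot
    haveI : Module.Free R R₁ := hP.free_adjoinRoot
    let a : R₁ := AdjoinRoot.root P
    let P₁ : R₁[X] := P.map (algebraMap R R₁)
    have hP₁ : P₁.Monic := hP.map _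
    have hroot : P₁.IsRoot a := by
      change Polynomial.eval a (P.map (AdjoinRoot.of P)) = 0
      rw [Polynomial.eval_map]
      exact AdjoinRoot.eval₂_root P
    let Q : R₁[X] := P₁ /ₘ (X - C a)
    have hfac : (X - C a) * Q = P₁ := Polynomial.mul_divByMonic_eq_iff_isRoot.mpr hroot
    have hQ : Q.Monic := by
      refine Polynomial.Monic.of_mul_monic_left (Polynomial.monic_X_sub_C a) ?_
      rw [hfac]; exact hP₁
    have hQd : Q.natDegree = d := by
      have h1 : P₁.natDegree = d + 1 := by
        rw [Polynomial.Monic.natDegree_map hP]; exact hd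
      rw [← hfac, Polynomial.Monic.natDegree_mul (Polynomial.monic_X_sub_C a) hQ,
        Polynomial.natDegree_X_sub_C] at h1
      omega
    obtain ⟨R'', _, _, hfin, hfree, hinj, α, hα⟩ := ih R₁ Q hQ hQd
    letI : Algebra R R'' := ((algebraMap R₁ R'').comp (algebraMap R R₁)).toAlgebra
    haveI : IsScalarTower R R₁ R'' := IsScalarTower.of_algebraMap_eq (fun _ => rfl)
    refine ⟨R'', inferInstance, inferInstance, Module.Finite.trans R₁ R'', ?_, ?_, ?_⟩
    · exact Module.Free.of_basis
        ((Module.Free.chooseBasis R R₁).smulTower (Module.Free.chooseBasis R₁ R''))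
    · exact hinj.comp hinj₁
    · refine ⟨Fin.cons (algebraMap R₁ R'' a) α, ?_⟩
      have h1 : P.map (algebraMap R R'') = P₁.map (algebraMap R₁ R'') := by
        rw [Polynomial.map_map]; rfl
      rw [h1, ← hfac, Polynomial.map_mul, hα, Fin.prod_univ_succ]
      simp

theorem exists_splitting_extension (R S : Type u) [CommRing R] [CommRing S] [Algebra R S]
    [Module.Finite R S] :
    ∃ (R' : Type u) (_ : CommRing R') (_ : Algebra R R'), Module.Finite R R' ∧ Module.Free R R' ∧
      Function.Injective (algebraMap R R') ∧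
      ∃ (n : ℕ) (d : Fin n → ℕ) (α : (i : Fin n) → Fin (d i) → R')
        (φ : MvPolynomial (Fin n) R' →ₐ[R'] R' ⊗[R] S), Function.Surjective φ ∧
          ∀ i, φ (∏ j, (MvPolynomial.X i - MvPolynomial.C (α i j))) = 0 := by
  classical
  obtain ⟨n, s, hs⟩ := Module.Finite.exists_fin (R := R) (M := S)
  have hint : ∀ i, IsIntegral R (s i) := fun i => Algebra.IsIntegral.isIntegral (s i)
  choose p hpm hp0 using hint
  let P : R[X] := ∏ i, p i
  have hPm : P.Monic := Polynomial.monic_prod_of_monic _ _ (fun i _ => hpm i)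
  have hP0 : ∀ i, Polynomial.aeval (s i) P = 0 := by
    intro i
    have hdvd : p i ∣ P := Finset.dvd_prod_of_mem _ (Finset.mem_univ i)
    obtain ⟨q, hq⟩ := hdvd
    rw [hq, map_mul]
    have : Polynomial.aeval (s i) (p i) = 0 := hp0 i
    rw [this, zero_mul]
  obtain ⟨R', _, _, hfin, hfree, hinj, α, hα⟩ := split P.natDegree R P hPm rfl
  refine ⟨R', inferInstance, inferInstance, hfin, hfree, hinj, n, fun _ => P.natDegree,
    fun _ j => α j, MvPolynomial.aeval (fun i => (1 : R') ⊗ₜ[R] s i), ?_, ?_⟩
  · -- surjective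
    let φ : MvPolynomial (Fin n) R' →ₐ[R'] R' ⊗[R] S :=
      MvPolynomial.aeval (fun i => (1 : R') ⊗ₜ[R] s i)
    have hspan : Submodule.span R' (Set.range fun i => (1 : R') ⊗ₜ[R] s i) = ⊤ := by
      have h1 := Submodule.baseChange_span (R := R) (M := S) R' (Set.range s)
      rw [hs, Submodule.baseChange_top] at h1
      rw [h1]
      congr 1
      ext y
      constructor
      · rintro ⟨i, rfl⟩
        exact ⟨s i, ⟨i, rfl⟩, rfl⟩
      · rintro ⟨_, ⟨i, rfl⟩, rfl⟩
        exact ⟨i, rfl⟩
    have hle : Submodule.span R' (Set.range fun i => (1 : R') ⊗ₜ[R] s i) ≤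
        LinearMap.range φ.toLinearMap := by
      rw [Submodule.span_le]
      rintro _ ⟨i, rfl⟩
      exact ⟨MvPolynomial.X i, by simp [φ]⟩
    rw [hspan, top_le_iff] at hle
    exact LinearMap.range_eq_top.mp hle
  · intro i
    have h1 : (MvPolynomial.aeval (fun i => (1 : R') ⊗ₜ[R] s i))
        (∏ j, (MvPolynomial.X i - MvPolynomial.C (α j))) =
        Polynomial.aeval ((1 : R') ⊗ₜ[R] s i) (P.map (algebraMap R R')) := by
      rw [hα]
      simp [map_prod]
    rw [h1, Polynomial.aeval_map_algebraMap]
    have h2 : (1 : R') ⊗ₜ[R] s i = (Algebra.TensorProduct.includeRight : S →ₐ[R] R' ⊗[R] S) (s i) :=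
      rfl
    rw [h2, Polynomial.aeval_algHom_apply, hP0 i, map_zero]

end Groth.Agent.H4.SplitExt
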