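import Mathlib
import Groth.Agent.H4.FlatNil
import Groth.Agent.H4.SplitExt
import Groth.Agent.S6893
set_option autoImplicit false
universe u
open scoped TensorProduct
open Groth.Agent.H4.FlatNil

namespace Groth.Agent.H4.FlatFinDesc


/-- finite intersections: flatness modulo each `J k` gives flatness modulo the infimum -/
theorem flat_quotient_finset_inf {R : Type u} [CommRing R] (M : Type u) [AddCommGroup M] [Module R M]
    {K : Type*} (J : K → Ideal R) (h : ∀ k, Module.Flat (R ⧸ J k) ((R ⧸ J k) ⊗[R] M))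
    (s : Finset K) : Module.Flat (R ⧸ s.inf J) ((R ⧸ s.inf J) ⊗[R] M) := by
  classical
  induction s using Finset.induction_on with
  | empty =>
    rw [Finset.inf_empty]
    haveI : Subsingleton (R ⧸ (⊤ : Ideal R)) := Ideal.Quotient.subsingleton_iff.mpr rfl
    haveI : Subsingleton ((R ⧸ (⊤ : Ideal R)) ⊗[R] M) := Module.subsingleton (R ⧸ (⊤ : Ideal R)) _
    haveI : Module.Free (R ⧸ (⊤ : Ideal R)) ((R ⧸ (⊤ : Ideal R)) ⊗[R] M) :=
      Module.Free.of_subsingleton _ _
    infer_instance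
  | insert a s ha ih =>
    have key : ∀ I : Ideal R, I = J a ⊓ s.inf J → Module.Flat (R ⧸ I) ((R ⧸ I) ⊗[R] M) := by
      rintro _ rfl
      haveI := h a
      haveI := ih
      exact Groth.Agent.S6893.result M (J a) (s.inf J)
    exact key _ Finset.inf_insert


/-- flatness of the `k`-th section quotient -/
theorem flat_section {R' S' : Type u} [CommRing R'] [CommRing S'] [Algebra R' S']
    (T' : Type u) [CommRing T'] [Algebra R' T'] (Φ : S' →ₐ[R'] T')
    (M' : Type u) [AddCommGroup M'] [Module R' M'] [Module.Flat S' (S' ⊗[R'] M')] :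
    Module.Flat T' (T' ⊗[R'] M') := by
  letI : Algebra S' T' := Φ.toRingHom.toAlgebra
  haveI : IsScalarTower R' S' T' := IsScalarTower.of_algebraMap_eq (fun r => (Φ.commutes r).symm)
  have e : T' ⊗[S'] (S' ⊗[R'] M') ≃ₗ[T'] T' ⊗[R'] M' :=
    TensorProduct.AlgebraTensorModule.cancelBaseChange R' S' T' T' M'
  exact Module.Flat.of_linearEquiv e.symm

theorem flat_of_split_presentation (R' S' : Type u) [CommRing R'] [CommRing S'] [Algebra R' S']
    [IsNoetherianRing R'] [Algebra.IsIntegral R' S'] (hinj : Function.Injective (algebraMap R' S'))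
    (n : ℕ) (d : Fin n → ℕ) (α : (i : Fin n) → Fin (d i) → R')
    (φ : MvPolynomial (Fin n) R' →ₐ[R'] S') (hφ : Function.Surjective φ)
    (hα : ∀ i, φ (∏ j, (MvPolynomial.X i - MvPolynomial.C (α i j))) = 0)
    (M' : Type u) [AddCommGroup M'] [Module R' M'] [Module.Flat S' (S' ⊗[R'] M')] :
    Module.Flat R' M' := by
  classical
  let K := (i : Fin n) → Fin (d i)
  let ψ : K → (MvPolynomial (Fin n) R' →ₐ[R'] R') := fun k => MvPolynomial.aeval (fun i => α i (k i))
  have hψ : ∀ k, Function.Surjective (ψ k) := fun k r => ⟨MvPolynomial.C r, by simp [ψ]⟩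
  let Jk : K → Ideal R' := fun k => Ideal.map (ψ k).toRingHom (RingHom.ker φ.toRingHom)
  -- sections
  have hflat : ∀ k, Module.Flat (R' ⧸ Jk k) ((R' ⧸ Jk k) ⊗[R'] M') := by
    intro k
    let θ : MvPolynomial (Fin n) R' →ₐ[R'] (R' ⧸ Jk k) := (Ideal.Quotient.mkₐ R' (Jk k)).comp (ψ k)
    have hθ : ∀ g ∈ RingHom.ker φ.toRingHom, θ g = 0 := by
      intro g hg
      change Ideal.Quotient.mk (Jk k) (ψ k g) = 0
      rw [Ideal.Quotient.eq_zero_iff_mem]
      exact Ideal.mem_map_of_mem _ hg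
    let Φ : S' →ₐ[R'] (R' ⧸ Jk k) :=
      (Ideal.Quotient.liftₐ (RingHom.ker φ.toRingHom) θ hθ).comp
        (Ideal.quotientKerAlgEquivOfSurjective hφ).symm.toAlgHom
    exact flat_section (R' ⧸ Jk k) Φ M'
  -- the intersection
  let I : Ideal R' := (Finset.univ : Finset K).inf Jk
  haveI hI : Module.Flat (R' ⧸ I) ((R' ⧸ I) ⊗[R'] M') := flat_quotient_finset_inf M' Jk hflat _
  -- I is contained in every prime
  have hIp : ∀ p : Ideal R', p.IsPrime → I ≤ p := by
    intro p hp
    obtain ⟨𝔮, -, h𝔮p, h𝔮⟩ := Ideal.exists_ideal_over_prime_of_isIntegral p (⊥ : Ideal S') (by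
      rw [← RingHom.ker_eq_comap_bot, (RingHom.injective_iff_ker_eq_bot _).mp hinj]
      exact bot_le)
    let 𝔮' : Ideal (MvPolynomial (Fin n) R') := 𝔮.comap φ.toRingHom
    haveI : 𝔮'.IsPrime := Ideal.comap_isPrime _ _
    have hker : RingHom.ker φ.toRingHom ≤ 𝔮' := by
      intro g hg
      change φ g ∈ 𝔮
      have : φ g = 0 := hg
      rw [this]; exact 𝔮.zero_mem
    have hex : ∀ i, ∃ j, (MvPolynomial.X i - MvPolynomial.C (α i j) : MvPolynomial (Fin n) R') ∈ 𝔮' := by
      intro i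
      have : (∏ j, (MvPolynomial.X i - MvPolynomial.C (α i j)) : MvPolynomial (Fin n) R') ∈ 𝔮' :=
        hker (hα i)
      obtain ⟨j, -, hj⟩ := Ideal.IsPrime.prod_mem_iff.mp this
      exact ⟨j, hj⟩
    choose k hk using hex
    refine le_trans (Finset.inf_le (Finset.mem_univ k)) ?_
    intro r hr
    obtain ⟨g, hg, rfl⟩ := (Ideal.mem_map_iff_of_surjective (ψ k).toRingHom (hψ k)).mp hr
    -- g ≡ C (ψ k g) mod 𝔮'
    let Q := MvPolynomial (Fin n) R' ⧸ 𝔮'
    let f1 : MvPolynomial (Fin n) R' →ₐ[R'] Q := Ideal.Quotient.mkₐ R' 𝔮'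
    let f2 : MvPolynomial (Fin n) R' →ₐ[R'] Q := (Algebra.ofId R' Q).comp (ψ k)
    have hf : f1 = f2 := by
      apply MvPolynomial.algHom_ext
      intro i
      change Ideal.Quotient.mk 𝔮' (MvPolynomial.X i) = algebraMap R' Q (ψ k (MvPolynomial.X i))
      have h1 : ψ k (MvPolynomial.X i) = α i (k i) := by simp [ψ]
      rw [h1]
      have h2 : algebraMap R' Q (α i (k i)) = Ideal.Quotient.mk 𝔮' (MvPolynomial.C (α i (k i))) := rfl
      rw [h2, ← sub_eq_zero, ← map_sub, Ideal.Quotient.eq_zero_iff_mem]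
      exact hk i
    have h3 : (MvPolynomial.C (ψ k g) : MvPolynomial (Fin n) R') ∈ 𝔮' := by
      have h4 : f1 g = f2 g := by rw [hf]
      have h5 : f1 g = 0 := Ideal.Quotient.eq_zero_iff_mem.mpr (hker hg)
      have h6 : f2 g = Ideal.Quotient.mk 𝔮' (MvPolynomial.C (ψ k g)) := rfl
      rw [h5, h6] at h4
      exact Ideal.Quotient.eq_zero_iff_mem.mp h4.symm
    have h7 : φ (MvPolynomial.C (ψ k g)) ∈ 𝔮 := h3
    have h8 : φ (MvPolynomial.C (ψ k g)) = algebraMap R' S' (ψ k g) := by
      rw [← MvPolynomial.algebraMap_eq, AlgHom.commutes]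
    rw [h8] at h7
    rw [← h𝔮]
    exact h7
  -- nilpotent
  have hInil : I ≤ nilradical R' := by
    rw [nilradical_eq_sInf]
    exact le_sInf (fun p hp => hIp p hp)
  obtain ⟨m, hm⟩ := IsNoetherianRing.isNilpotent_nilradical R'
  have hIm : I ^ m = ⊥ := by
    rw [eq_bot_iff]
    calc I ^ m ≤ nilradical R' ^ m := Ideal.pow_right_mono hInil m
      _ = ⊥ := hm
  exact flat_of_nilpotent_of_injective R' S' hinj I m hIm M'

theorem flat_of_flat_baseChange_finite_injective (R S : Type u) [CommRing R] [IsNoetherianRing R]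
    [CommRing S] [IsNoetherianRing S] [Algebra R S] [Module.Finite R S] (hinj : Function.Injective (algebraMap R S))
    (M : Type u) [AddCommGroup M] [Module R M] [Module.Flat S (S ⊗[R] M)] : Module.Flat R M := by
  rcases subsingleton_or_nontrivial R with hs | hn
  · haveI : Subsingleton M := Module.subsingleton R M
    haveI : Module.Free R M := Module.Free.of_subsingleton R M
    infer_instance
  obtain ⟨R', _, _, hfin, hfree, hinj', n, d, α, φ, hφ, hα⟩ :=
    Groth.Agent.H4.SplitExt.exists_splitting_extension R S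
  haveI : Nontrivial R' := hinj'.nontrivial
  haveI : IsNoetherianRing R' := IsNoetherianRing.of_finite R R'
  haveI : Module.FaithfullyFlat R R' := inferInstance
  -- injectivity of R' → R' ⊗ S
  have hinj2 : Function.Injective (algebraMap R' (R' ⊗[R] S)) := by
    have h1 : Function.Injective ((Algebra.linearMap R S).lTensor R') :=
      Module.Flat.lTensor_preserves_injective_linearMap _ hinj
    have h2 : ⇑(algebraMap R' (R' ⊗[R] S)) =
        ((Algebra.linearMap R S).lTensor R') ∘ (TensorProduct.rid R R').symm := by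
      ext r
      simp [Algebra.TensorProduct.algebraMap_apply]
    rw [h2]
    exact h1.comp (TensorProduct.rid R R').symm.injective
  -- flatness of the base change
  haveI hflat : Module.Flat (R' ⊗[R] S) ((R' ⊗[R] S) ⊗[R'] (R' ⊗[R] M)) := by
    letI : Algebra S (R' ⊗[R] S) := Algebra.TensorProduct.rightAlgebra
    have e1 : (R' ⊗[R] S) ⊗[R'] (R' ⊗[R] M) ≃ₗ[R' ⊗[R] S] (R' ⊗[R] S) ⊗[R] M :=
      TensorProduct.AlgebraTensorModule.cancelBaseChange R R' (R' ⊗[R] S) (R' ⊗[R] S) M
    have e2 : (R' ⊗[R] S) ⊗[S] (S ⊗[R] M) ≃ₗ[R' ⊗[R] S] (R' ⊗[R] S) ⊗[R] M :=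
      TensorProduct.AlgebraTensorModule.cancelBaseChange R S (R' ⊗[R] S) (R' ⊗[R] S) M
    exact Module.Flat.of_linearEquiv (e1.trans e2.symm)
  haveI : Module.Flat R' (R' ⊗[R] M) :=
    flat_of_split_presentation R' (R' ⊗[R] S) hinj2 n d α φ hφ hα (R' ⊗[R] M)
  exact Module.Flat.of_flat_tensorProduct R M R'

end Groth.Agent.H4.FlatFinDesc
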