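import Mathlib
import Groth.Prelude.Def_DerSch
import Groth.Agent.H4.SPt5
import Groth.Agent.H4.SPt6

set_option autoImplicit false
universe u
open CategoryTheory CategoryTheory.Limits AlgebraicGeometry

namespace Groth.Agent.H4.FlatPull1

open Groth.Agent.H4.SPt4 Groth.Agent.H4.SPt5 Groth.Agent.H4.SPt6

variable {X Y : Scheme.{u}}

theorem exact_iff_stalk (T : ShortComplex X.Modules) :
    T.Exact ↔ ∀ x : X, (T.map (DerSch.stalkFunctor X x)).Exact := by
  rw [ShortComplex.exact_iff_isZero_homology, isZero_iff_stalk]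
  refine forall_congr' fun x => ?_
  rw [ShortComplex.exact_iff_isZero_homology]
  exact (Iso.isZero_iff (T.mapHomologyIso (DerSch.stalkFunctor X x))).symm

theorem mono_iff_stalk {M N : X.Modules} (φ : M ⟶ N) :
    Mono φ ↔ ∀ x, Mono ((DerSch.stalkFunctor X x).map φ) := by
  have h := exact_iff_stalk (ShortComplex.mk (0 : M ⟶ M) φ zero_comp)
  rw [ShortComplex.exact_iff_mono _ rfl] at h
  rw [h]
  refine forall_congr' fun x => ?_
  rw [ShortComplex.exact_iff_mono _ (by simp; rfl)]
  rfl

theorem epi_iff_stalk {M N : X.Modules} (φ : M ⟶ N) :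
    Epi φ ↔ ∀ x, Epi ((DerSch.stalkFunctor X x).map φ) := by
  have h := exact_iff_stalk (ShortComplex.mk φ (0 : N ⟶ N) comp_zero)
  rw [ShortComplex.exact_iff_epi _ rfl] at h
  rw [h]
  refine forall_congr' fun x => ?_
  rw [ShortComplex.exact_iff_epi _ (by simp; rfl)]
  rfl

theorem isIso_iff_stalk {M N : X.Modules} (φ : M ⟶ N) :
    IsIso φ ↔ ∀ x, IsIso ((DerSch.stalkFunctor X x).map φ) := by
  constructor
  · intro h x; infer_instance
  · intro h
    haveI : Mono φ := (mono_iff_stalk φ).2 (fun x => by haveI := h x; infer_instance)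
    haveI : Epi φ := (epi_iff_stalk φ).2 (fun x => by haveI := h x; infer_instance)
    exact isIso_of_mono_of_epi φ

/-- pullback of modules along a flat morphism is exact -/
theorem preservesFiniteLimits_pullback_of_flat (f : X ⟶ Y) [Flat f] :
    PreservesFiniteLimits (Scheme.Modules.pullback f) := by
  have hx : ∀ x : X, PreservesFiniteLimits
      (Scheme.Modules.pullback f ⋙ DerSch.stalkFunctor X x) := fun x => by
    haveI := ModuleCat.preservesFiniteLimits_extendScalars_of_flat (f := (f.stalkMap x).hom)
      (Flat.stalkMap f x)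
    exact preservesFiniteLimits_of_natIso (stalkPullbackIso f x).symm
  apply ((Functor.preservesFiniteLimits_tfae (Scheme.Modules.pullback f)).out 0 3).1
  intro S hS
  constructor
  · rw [exact_iff_stalk]
    intro x
    haveI := hx x
    have := hS.exact.map (Scheme.Modules.pullback f ⋙ DerSch.stalkFunctor X x)
    exact this
  · rw [mono_iff_stalk]
    intro x
    haveI := hx x
    haveI := hS.mono_f
    exact inferInstanceAs (Mono ((Scheme.Modules.pullback f ⋙ DerSch.stalkFunctor X x).map S.f))

end Groth.Agent.H4.FlatPull1
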