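import Mathlib
import Groth.Agent.H4.LDS19
import Groth.Agent.H4.LDS15
import Groth.Agent.H4.TC15

set_option autoImplicit false
universe u
open CategoryTheory CategoryTheory.Limits AlgebraicGeometry

namespace Groth.Agent.H4.LDS20
open Groth.Agent.H4.LDS14 Groth.Agent.H4.LDS15 Groth.Agent.H4.LDS19 Groth.Agent.H4.TC4

theorem skf_pullCx {X Y : Scheme.{u}} (f : X ⟶ Y) (K : CochainComplex Y.Modules ℤ) (hK : SKF K) :
    SKF ((pullCx f).obj K) := fun x =>
  Groth.Agent.H4.TC4.KFlat.of_iso (stalkPullCxIso f x K).symm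
    (Groth.Agent.H4.TC15.kflat_extendScalars _ _ (hK (f.base x)))

theorem S0952 {X Y : Scheme.{u}} (f : X ⟶ Y) (K : CochainComplex Y.Modules ℤ) (hK : DCoh.IsKFlat K) :
    DCoh.IsKFlat (((Scheme.Modules.pullback f).mapHomologicalComplex (ComplexShape.up ℤ)).obj K) :=
  isKFlat_of_skf _ (skf_pullCx f K (skf_of_isKFlat K hK))

end Groth.Agent.H4.LDS20
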