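import Mathlib
import Groth.Agent.H4.LDS3

set_option autoImplicit false
open CategoryTheory CategoryTheory.Limits

namespace Groth.Agent.H4.LTC1

section Transfer

variable {C K D H : Type*} [Category C] [Category K] [Category D] [Category H]
  (q : C ⥤ K) [((Functor.whiskeringLeft C K H).obj q).Full]
  [((Functor.whiskeringLeft C K H).obj q).Faithful]
  (Lh : K ⥤ D) (L : C ⥤ D) (eL : q ⋙ Lh ≅ L)
  (F : C ⥤ H) (Fh : K ⥤ H) (φ : q ⋙ Fh ≅ F)
  (LF : D ⥤ H) (α : L ⋙ LF ⟶ F)

/-- the transferred counit -/
noncomputable def αh : Lh ⋙ LF ⟶ Fh :=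
  ((Functor.whiskeringLeft C K H).obj q).preimage
    (show q ⋙ (Lh ⋙ LF) ⟶ q ⋙ Fh from
      (Functor.associator q Lh LF).inv ≫ Functor.whiskerRight eL.hom LF ≫ α ≫ φ.inv)

lemma αh_app (X : C) : (αh q Lh L eL F Fh φ LF α).app (q.obj X) =
    LF.map (eL.hom.app X) ≫ α.app X ≫ φ.inv.app X := by
  have h := ((Functor.whiskeringLeft C K H).obj q).map_preimage
    (show q ⋙ (Lh ⋙ LF) ⟶ q ⋙ Fh from
      (Functor.associator q Lh LF).inv ≫ Functor.whiskerRight eL.hom LF ≫ α ≫ φ.inv)
  have h2 := NatTrans.congr_app h X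
  unfold αh
  simpa using h2

theorem isRightKanExtension_αh [LF.IsRightKanExtension α] :
    LF.IsRightKanExtension (αh q Lh L eL F Fh φ LF α) := by
  -- the lift
  let β' : ∀ E : Functor.RightExtension Lh Fh, L ⋙ E.left ⟶ F := fun E =>
    Functor.whiskerRight eL.inv E.left ≫ (Functor.associator q Lh E.left).hom ≫
      Functor.whiskerLeft q E.hom ≫ φ.hom
  have hβ' : ∀ (E : Functor.RightExtension Lh Fh) (X : C), (β' E).app X =
      E.left.map (eL.inv.app X) ≫ E.hom.app (q.obj X) ≫ φ.hom.app X := by
    intro E X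
    simp [β']
  let lift : ∀ E : Functor.RightExtension Lh Fh, E.left ⟶ LF := fun E =>
    LF.liftOfIsRightKanExtension α E.left (β' E)
  have hlift : ∀ (E : Functor.RightExtension Lh Fh) (X : C),
      (lift E).app (L.obj X) ≫ α.app X = (β' E).app X := fun E X =>
    LF.liftOfIsRightKanExtension_fac_app α E.left (β' E) X
  -- key computation
  have key : ∀ (E : Functor.RightExtension Lh Fh) (γ : E.left ⟶ LF),
      (Functor.whiskerLeft Lh γ ≫ αh q Lh L eL F Fh φ LF α = E.hom) ↔
        ∀ X : C, γ.app (L.obj X) ≫ α.app X = (β' E).app X := by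
    intro E γ
    constructor
    · intro h X
      have h1 := NatTrans.congr_app h (q.obj X)
      rw [NatTrans.comp_app, Functor.whiskerLeft_app, αh_app] at h1
      rw [hβ', ← h1]
      have hn := γ.naturality (eL.inv.app X)
      simp only [Functor.comp_obj] at hn
      simp only [Category.assoc, Iso.inv_hom_id_app, Category.comp_id]
      rw [reassoc_of% hn, ← LF.map_comp_assoc, Iso.inv_hom_id_app]
      simp
    · intro h
      apply ((Functor.whiskeringLeft C K H).obj q).map_injective
      ext X
      change (Functor.whiskerLeft Lh γ ≫ αh q Lh L eL F Fh φ LF α).app (q.obj X) =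
        E.hom.app (q.obj X)
      rw [NatTrans.comp_app, Functor.whiskerLeft_app, αh_app]
      have hn := γ.naturality (eL.hom.app X)
      simp only [Functor.comp_obj] at hn
      rw [← Category.assoc, ← hn, Category.assoc, ← Category.assoc (γ.app _), h X, hβ']
      simp only [Category.assoc, Iso.hom_inv_id_app, Category.comp_id]
      rw [← Functor.map_comp_assoc, Iso.hom_inv_id_app]
      simp
  refine ⟨⟨IsTerminal.ofUniqueHom
    (fun E => CostructuredArrow.homMk (lift E) ((key E (lift E)).2 (hlift E)))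
    (fun E m => ?_)⟩⟩
  apply CostructuredArrow.hom_ext
  change m.left = lift E
  apply LF.hom_ext_of_isRightKanExtension α
  ext X
  rw [NatTrans.comp_app, NatTrans.comp_app, Functor.whiskerLeft_app, Functor.whiskerLeft_app,
    hlift E X]
  exact (key E m.left).1 (CostructuredArrow.w m) X

end Transfer

section Eval

open Groth.Agent.H4.LDS3

variable {A : Type*} [Category A] [Abelian A] [HasDerivedCategory A]
  {H : Type*} [Category H] (T : CochainComplex A ℤ ⥤ H)
  (hT : ∀ ⦃K L : CochainComplex A ℤ⦄ (f g : K ⟶ L), Homotopy f g → T.map f = T.map g)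

/-- the induced functor on the homotopy category -/
noncomputable def Th : HomotopyCategory A (ComplexShape.up ℤ) ⥤ H :=
  CategoryTheory.Quotient.lift _ T (fun _ _ f g ⟨h⟩ => hT f g h)

/-- `quotient ⋙ Th ≅ T` -/
noncomputable def φT : HomotopyCategory.quotient A (ComplexShape.up ℤ) ⋙ Th T hT ≅ T :=
  CategoryTheory.Quotient.lift.isLift _ _ _

variable {Pc : CochainComplex A ℤ → Prop} (h : Adm Pc) (hres : HasResCx Pc)
  (hT2 : ∀ ⦃E E' : CochainComplex A ℤ⦄ (g : E ⟶ E'), Pc E → Pc E' → QuasiIso g → IsIso (T.map g))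

include hT2 in
lemma isIso_Th_map ⦃X Y : HomotopyCategory A (ComplexShape.up ℤ)⦄ (f : X ⟶ Y)
    (hX : hoP Pc X) (hY : hoP Pc Y) (hf : (HomotopyCategory.subcategoryAcyclic A).trW f) :
    IsIso ((Th T hT).map f) := by
  obtain ⟨E, hE, ⟨e₁⟩⟩ := hX
  obtain ⟨E', hE', ⟨e₂⟩⟩ := hY
  obtain ⟨g, hg⟩ := (HomotopyCategory.quotient A (ComplexShape.up ℤ)).map_surjective
    (e₁.inv ≫ f ≫ e₂.hom)
  have hgq : QuasiIso g := by
    have : HomologicalComplex.quasiIso A (ComplexShape.up ℤ) g := by
      rw [← HomotopyCategory.quotient_map_mem_quasiIso_iff, hg,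
        HomotopyCategory.quasiIso_eq_trW_subcategoryAcyclic]
      exact MorphismProperty.comp_mem _ _ _
        (MorphismProperty.of_isIso _ _) (MorphismProperty.comp_mem _ _ _ hf
          (MorphismProperty.of_isIso _ _))
    exact this
  haveI := hT2 g hE hE' hgq
  have h1 : IsIso ((Th T hT).map ((HomotopyCategory.quotient A (ComplexShape.up ℤ)).map g)) := by
    have hn := (φT T hT).hom.naturality g
    have : (Th T hT).map ((HomotopyCategory.quotient A (ComplexShape.up ℤ)).map g) =
        (φT T hT).hom.app E ≫ T.map g ≫ (φT T hT).inv.app E' := by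
      rw [← Category.assoc, ← hn]
      simp
    rw [this]
    infer_instance
  have h2 : f = e₁.hom ≫ (HomotopyCategory.quotient A (ComplexShape.up ℤ)).map g ≫ e₂.inv := by
    rw [hg]; simp
  rw [h2, Functor.map_comp, Functor.map_comp]
  infer_instance

variable (LT : DerivedCategory A ⥤ H) (α : DerivedCategory.Q ⋙ LT ⟶ T)
  [LT.IsLeftDerivedFunctor α (HomologicalComplex.quasiIso A (ComplexShape.up ℤ))]

include h hres hT2 hT in
/-- **evaluation of a left derived functor of a homotopy invariant functor on complexes** -/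
theorem isIso_counit_app_cx (E : CochainComplex A ℤ) (hE : Pc E) : IsIso (α.app E) := by
  haveI : ((Functor.whiskeringLeft (CochainComplex A ℤ) (HomotopyCategory A (ComplexShape.up ℤ))
      H).obj (HomotopyCategory.quotient A (ComplexShape.up ℤ))).Full :=
    inferInstanceAs ((Functor.whiskeringLeft _ _ H).obj (CategoryTheory.Quotient.functor _)).Full
  haveI : ((Functor.whiskeringLeft (CochainComplex A ℤ) (HomotopyCategory A (ComplexShape.up ℤ))
      H).obj (HomotopyCategory.quotient A (ComplexShape.up ℤ))).Faithful :=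
    inferInstanceAs ((Functor.whiskeringLeft _ _ H).obj
      (CategoryTheory.Quotient.functor _)).Faithful
  haveI : LT.IsRightKanExtension α :=
    Functor.IsLeftDerivedFunctor.isRightKanExtension LT α
      (HomologicalComplex.quasiIso A (ComplexShape.up ℤ))
  let a := αh (HomotopyCategory.quotient A (ComplexShape.up ℤ)) DerivedCategory.Qh
    DerivedCategory.Q (DerivedCategory.quotientCompQhIso A) T (Th T hT) (φT T hT) LT α
  haveI hK : LT.IsRightKanExtension a := isRightKanExtension_αh _ _ _ _ _ _ _ _ _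
  haveI := isTriangulated h
  haveI : DerivedCategory.Qh.IsLocalization (HomotopyCategory.subcategoryAcyclic A).trW := by
    rw [← HomotopyCategory.quasiIso_eq_trW_subcategoryAcyclic]; infer_instance
  haveI : LT.IsLeftDerivedFunctor a (HomotopyCategory.subcategoryAcyclic A).trW := ⟨hK⟩
  have h1 : IsIso (a.app ((HomotopyCategory.quotient A (ComplexShape.up ℤ)).obj E)) :=
    Groth.Agent.H4.LDS2.isIso_counit_app (hasRes hres) (Th T hT) (isIso_Th_map T hT hT2)
      DerivedCategory.Qh LT a _ (hoP_quotient Pc hE)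
  rw [show a.app ((HomotopyCategory.quotient A (ComplexShape.up ℤ)).obj E) = _ from
    αh_app _ _ _ _ _ _ _ _ _ E] at h1
  have h2 : IsIso (α.app E ≫ (φT T hT).inv.app E) := by
    have := h1
    exact (isIso_comp_left_iff (LT.map ((DerivedCategory.quotientCompQhIso A).hom.app E))
      (α.app E ≫ (φT T hT).inv.app E)).1 this
  exact (isIso_comp_right_iff (α.app E) ((φT T hT).inv.app E)).1 h2

end Eval

end Groth.Agent.H4.LTC1
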