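import Mathlib
import Groth.Prelude.Def_DCoh4
import Groth.Agent.H4.LTC1
import Groth.Agent.H4.LK2
import Groth.Agent.H4.LDS6

set_option autoImplicit false
universe u
open CategoryTheory CategoryTheory.Limits AlgebraicGeometry HomologicalComplex
attribute [local instance] HasDerivedCategory.standard

namespace Groth.Agent.H4.LTC2

open Groth.Agent.H4.GK1 Groth.Agent.H4.GK9 Groth.Agent.H4.LDS6 Groth.Agent.H4.TC2

section Abs

variable {A : Type*} [Category A] [Abelian A]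
  (F : A ⥤ A ⥤ A) [F.Additive] [∀ X, (F.obj X).Additive]
  [∀ K L : CochainComplex A ℤ, CochainComplex.HasMapBifunctor K L F]
  (e : F ≅ F.flip)
  (hres : ∀ L : CochainComplex A ℤ, ∃ (K : CochainComplex A ℤ) (q : K ⟶ L),
    KFlat F K ∧ QuasiIso q)

include e hres in
/-- tensoring (on the right) with any complex preserves quasi-isomorphisms between K-flat
complexes -/
theorem quasiIso_map₁_of_kflat_kflat {P Q : CochainComplex A ℤ} (α : P ⟶ Q) (hP : KFlat F P)
    (hQ : KFlat F Q) (hα : QuasiIso α) (L : CochainComplex A ℤ) :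
    QuasiIso (mapBifunctorMap α (𝟙 L) F (.up ℤ)) := by
  rw [← acyc_cone_iff]
  exact Acyc.of_iso (coneIso₁ F α L) (Acyc.of_iso (braid F e L _)
    (acyc_map_of_kflat_acyc F e hres _ (KFlat.cone α hP hQ) ((acyc_cone_iff α).2 hα) L))

end Abs

variable {X : Scheme.{u}}

theorem quasiIso_tensorCx_map (F₀ : CochainComplex X.Modules ℤ) {E E' : CochainComplex X.Modules ℤ}
    (g : E ⟶ E') (hE : DCoh.IsKFlat E) (hE' : DCoh.IsKFlat E') (hg : QuasiIso g) :
    QuasiIso (((DCoh.tensorCx (X := X)).flip.obj F₀).map g) :=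
  quasiIso_map₁_of_kflat_kflat (DCoh.tensorBi (X := X)) braidX hresX g hE hE' hg F₀

lemma htpyInv_tensorCxQ (F₀ : CochainComplex X.Modules ℤ) :
    Groth.Agent.H4.LK2.HtpyInv (DCoh.tensorCxQ F₀) :=
  Groth.Agent.H4.LK2.htpyInv_comp_Q ((DCoh.tensorCx (X := X)).flip.obj F₀)
    (fun _ _ f g h => ⟨HomologicalComplex.mapBifunctorMapHomotopy₁ h (𝟙 F₀)
      (DCoh.tensorBi (X := X)) (.up ℤ)⟩)

/-- the counit of `- ⊗^L F₀` -/
noncomputable abbrev counit (F₀ : CochainComplex X.Modules ℤ) [DCoh.HasLTensorCx F₀] :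
    DerivedCategory.Q ⋙ DCoh.LTensorCx F₀ ⟶ DCoh.tensorCxQ F₀ :=
  (DCoh.tensorCxQ F₀).totalLeftDerivedCounit DerivedCategory.Q
    (HomologicalComplex.quasiIso X.Modules (ComplexShape.up ℤ))

theorem isIso_counit_app (F₀ : CochainComplex X.Modules ℤ) [DCoh.HasLTensorCx F₀]
    (E : CochainComplex X.Modules ℤ) (hE : DCoh.IsKFlat E) : IsIso ((counit F₀).app E) := by
  refine Groth.Agent.H4.LTC1.isIso_counit_app_cx (DCoh.tensorCxQ F₀) (htpyInv_tensorCxQ F₀)
    (Groth.Agent.H4.LDS4.adm_kflat (DCoh.tensorBi (X := X)))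
    (fun L => by obtain ⟨K, q, hK, hq⟩ := hresX L; exact ⟨K, q, hK, hq⟩)
    (fun E E' g hE hE' hg => ?_) (DCoh.LTensorCx F₀) (counit F₀) E hE
  haveI := quasiIso_tensorCx_map F₀ g hE hE' hg
  change IsIso (DerivedCategory.Q.map (((DCoh.tensorCx (X := X)).flip.obj F₀).map g))
  infer_instance

/-- **`K ⊗^L F₀` is computed by `E ⊗ F₀` for a K-flat complex `E` representing `K`** -/
noncomputable def LTensorCxIso (F₀ : CochainComplex X.Modules ℤ) [DCoh.HasLTensorCx F₀]
    (E : CochainComplex X.Modules ℤ) (hE : DCoh.IsKFlat E) :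
    (DCoh.LTensorCx F₀).obj (DCoh.toD X E) ≅ DCoh.toD X ((DCoh.tensorCx.obj E).obj F₀) :=
  haveI := isIso_counit_app F₀ E hE
  asIso ((counit F₀).app E)

end Groth.Agent.H4.LTC2
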