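import Mathlib
import Groth.Prelude.Def_DerSch
import Groth.Prelude.Def_DCoh4
import Groth.Prelude.Def_KoszTw
import Groth.Agent.H4.TC14
import Groth.Agent.H4.PSch1
import Groth.Agent.Lib.Lead.QC.TensorFormulas
import Groth.Agent.Lib.Lead.QC.FreeData

set_option autoImplicit false
universe u
open CategoryTheory CategoryTheory.Limits AlgebraicGeometry TopologicalSpace Opposite TensorProduct
  MonoidalCategory

namespace Groth.Agent.H4.RT1

open Groth.Agent.LD.QC Groth.Agent.H4.PSch1

variable {U X : Scheme.{u}} (j : U ⟶ X) [IsOpenImmersion j]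

lemma restrictTensorHom_natural {M M' N N' : X.Modules} (f : M ⟶ M') (g : N ⟶ N') :
    KoszTw.tensorMap ((Scheme.Modules.restrictFunctor j).map f)
        ((Scheme.Modules.restrictFunctor j).map g) ≫ restrictTensorHom j M' N' =
      restrictTensorHom j M N ≫ (Scheme.Modules.restrictFunctor j).map (KoszTw.tensorMap f g) := by
  apply hom_ext_tmul
  intro W a b
  rw [Scheme.Modules.Hom.comp_app, Scheme.Modules.Hom.comp_app, ConcreteCategory.comp_apply,
    ConcreteCategory.comp_apply, KoszTw.tensorMap_tmul, restrictTensorHom_tmul,
    restrictTensorHom_tmul]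
  change _ = (KoszTw.tensorMap f g).app (j ''ᵁ W) (SecTwist.tmul M N (j ''ᵁ W) a b)
  rw [KoszTw.tensorMap_tmul]
  rfl

set_option backward.isDefEq.respectTransparency false in
/-- `M|_U ⊗ N|_U ≅ (M ⊗ N)|_U`, typed through the bifunctor -/
noncomputable def ρIso (M N : X.Modules) :
    ((DCoh.tensorBi (X := U)).obj ((Scheme.Modules.restrictFunctor j).obj M)).obj
        ((Scheme.Modules.restrictFunctor j).obj N) ≅
      (Scheme.Modules.restrictFunctor j).obj (((DCoh.tensorBi (X := X)).obj M).obj N) :=
  restrictTensorIso j M N

set_option backward.isDefEq.respectTransparency false in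
lemma ρIso_natural_right (M : X.Modules) {N N' : X.Modules} (g : N ⟶ N') :
    ((DCoh.tensorBi (X := U)).obj ((Scheme.Modules.restrictFunctor j).obj M)).map
        ((Scheme.Modules.restrictFunctor j).map g) ≫ (ρIso j M N').hom =
      (ρIso j M N).hom ≫
        (Scheme.Modules.restrictFunctor j).map (((DCoh.tensorBi (X := X)).obj M).map g) := by
  rw [KoszTw.tensorBi_obj_map, KoszTw.tensorBi_obj_map]
  have h := restrictTensorHom_natural j (𝟙 M) g
  rw [CategoryTheory.Functor.map_id] at h
  exact h

set_option backward.isDefEq.respectTransparency false in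
lemma ρIso_natural_left {M M' : X.Modules} (f : M ⟶ M') (N : X.Modules) :
    ((DCoh.tensorBi (X := U)).map ((Scheme.Modules.restrictFunctor j).map f)).app
        ((Scheme.Modules.restrictFunctor j).obj N) ≫ (ρIso j M' N).hom =
      (ρIso j M N).hom ≫
        (Scheme.Modules.restrictFunctor j).map (((DCoh.tensorBi (X := X)).map f).app N) := by
  rw [KoszTw.tensorBi_map_app, KoszTw.tensorBi_map_app]
  have h := restrictTensorHom_natural j f (𝟙 N)
  rw [CategoryTheory.Functor.map_id] at h
  exact h

/-- **restriction to an open subscheme commutes with the tensor product**, as an isomorphism of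
bifunctors -/
noncomputable def restrictTensorBiIso :
    DCoh.tensorBi (X := X) ⋙
        (Functor.whiskeringRight _ _ _).obj (Scheme.Modules.restrictFunctor j) ≅
      Scheme.Modules.restrictFunctor j ⋙ DCoh.tensorBi (X := U) ⋙
        (Functor.whiskeringLeft _ _ _).obj (Scheme.Modules.restrictFunctor j) :=
  (NatIso.ofComponents
    (fun M => NatIso.ofComponents (fun N => ρIso j M N)
      (fun g => ρIso_natural_right j M g))
    (fun f => by
      apply NatTrans.ext
      funext N
      exact ρIso_natural_left j f N)).symm

/-- restriction to an open subscheme commutes with the tensor product of complexes -/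
noncomputable def resTensorCxIso (P L : CochainComplex X.Modules ℤ) :
    (DCoh.tensorCx.obj ((resCx j).obj P)).obj ((resCx j).obj L) ≅
      (resCx j).obj ((DCoh.tensorCx.obj P).obj L) :=
  Groth.Agent.H4.TC14.mapBifunctorMapIso (restrictTensorBiIso j) P L

end Groth.Agent.H4.RT1
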