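import Mathlib
import Groth.Prelude.Def_DerSch
import Groth.Prelude.Def_DCoh4
import Groth.Agent.H4.RT1
import Groth.Agent.H4.LTC2
import Groth.Agent.H4.LDS20
import Groth.Agent.H4.LDS17
import Groth.Agent.H4.PSch3

set_option autoImplicit false
universe u
open CategoryTheory CategoryTheory.Limits AlgebraicGeometry HomologicalComplex
attribute [local instance] HasDerivedCategory.standard

namespace Groth.Agent.H4.RT2

open Groth.Agent.H4.GK1 Groth.Agent.H4.GK9 Groth.Agent.H4.LDS6 Groth.Agent.H4.PSch1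
  Groth.Agent.H4.PSch2 Groth.Agent.H4.LDS14 Groth.Agent.H4.LDS15 Groth.Agent.H4.LDS19

variable {X : Scheme.{u}}

/-- for K-flat `E`, the functor `- ⊗ E` inverts quasi-isomorphisms -/
lemma isInvertedBy_tensorCxQ (E : CochainComplex X.Modules ℤ) (hE : DCoh.IsKFlat E) :
    (HomologicalComplex.quasiIso X.Modules (ComplexShape.up ℤ)).IsInvertedBy
      (DCoh.tensorCxQ E) := by
  intro A A' f hf
  haveI : QuasiIso f := hf
  haveI : QuasiIso (((DCoh.tensorCx (X := X)).flip.obj E).map f) :=
    quasiIso_map₁_of_kflat (F := DCoh.tensorBi (X := X)) hE f hf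
  change IsIso (DerivedCategory.Q.map (((DCoh.tensorCx (X := X)).flip.obj E).map f))
  infer_instance

/-- for K-flat `E`, `A ⊗ E` only depends on the class of `A` in the derived category -/
noncomputable def tensorIsoLeft (E : CochainComplex X.Modules ℤ) (hE : DCoh.IsKFlat E)
    {A A' : CochainComplex X.Modules ℤ} (e : DCoh.toD X A ≅ DCoh.toD X A') :
    DCoh.toD X ((DCoh.tensorCx.obj A).obj E) ≅ DCoh.toD X ((DCoh.tensorCx.obj A').obj E) :=
  ((Localization.fac (DCoh.tensorCxQ E) (isInvertedBy_tensorCxQ E hE) DerivedCategory.Q).app A).symm ≪≫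
    (Localization.lift (DCoh.tensorCxQ E) (isInvertedBy_tensorCxQ E hE) DerivedCategory.Q).mapIso e ≪≫
    (Localization.fac (DCoh.tensorCxQ E) (isInvertedBy_tensorCxQ E hE) DerivedCategory.Q).app A'

/-- the symmetry of the tensor product of complexes -/
noncomputable def braidCx (A B : CochainComplex X.Modules ℤ) :
    (DCoh.tensorCx.obj A).obj B ≅ (DCoh.tensorCx.obj B).obj A :=
  braid (DCoh.tensorBi (X := X)) braidX A B

/-- `A ⊗ B` only depends on the classes of `A` and `B`, when `B` and `A'` are K-flat -/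
noncomputable def tensorIsoBoth {A A' B B' : CochainComplex X.Modules ℤ}
    (hB : DCoh.IsKFlat B) (hA' : DCoh.IsKFlat A')
    (eA : DCoh.toD X A ≅ DCoh.toD X A') (eB : DCoh.toD X B ≅ DCoh.toD X B') :
    DCoh.toD X ((DCoh.tensorCx.obj A).obj B) ≅ DCoh.toD X ((DCoh.tensorCx.obj A').obj B') :=
  tensorIsoLeft B hB eA ≪≫ DerivedCategory.Q.mapIso (braidCx A' B) ≪≫
    tensorIsoLeft A' hA' eB ≪≫ DerivedCategory.Q.mapIso (braidCx B' A')

end Groth.Agent.H4.RT2
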