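import Mathlib
import Groth.Agent.H4.TC5

set_option autoImplicit false
open CategoryTheory Category Limits HomologicalComplex CochainComplex

namespace Groth.Agent.H4.RT3

variable {C₁ C₂ D : Type*} [Category C₁] [Category C₂] [Category D]
  [Preadditive C₁] [Preadditive C₂] [Preadditive D] [HasZeroObject C₁]
  (F : C₁ ⥤ C₂ ⥤ D) [F.Additive] [∀ X₁, (F.obj X₁).Additive]
  (K₁ : CochainComplex C₁ ℤ) (K₂ : CochainComplex C₂ ℤ) [CochainComplex.HasMapBifunctor K₁ K₂ F]

/-- the finite index type -/
abbrev Idx (a b : ℤ) : Type := {p : ℤ // a ≤ p ∧ p ≤ b}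

instance (a b : ℤ) : Finite (Idx a b) := (Set.finite_Icc a b).to_subtype

/-- if `K₁` vanishes outside `[a, b]`, the degree `n` term of the total complex is a finite
coproduct -/
noncomputable def finCofan (a b n : ℤ) :
    Cofan (fun p : Idx a b => (F.obj (K₁.X p.1)).obj (K₂.X (n - p.1))) :=
  Cofan.mk ((CochainComplex.mapBifunctor K₁ K₂ F).X n)
    (fun p => CochainComplex.ιMapBifunctor K₁ K₂ F p.1 (n - p.1) n (by omega))

noncomputable def isColimitFinCofan (a b n : ℤ) (h : ∀ p, p < a ∨ b < p → IsZero (K₁.X p)) :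
    IsColimit (finCofan F K₁ K₂ a b n) :=
  mkCofanColimit _
    (fun s => mapBifunctorDesc (fun p q hpq =>
      if hp : a ≤ p ∧ p ≤ b then
        eqToHom (by
          obtain rfl : q = n - p := by
            change p + q = n at hpq
            omega
          rfl) ≫ s.inj ⟨p, hp⟩
      else 0))
    (fun s p => by
      change CochainComplex.ιMapBifunctor K₁ K₂ F p.1 (n - p.1) n _ ≫ _ = _
      rw [ι_mapBifunctorDesc, dif_pos p.2]
      simp)
    (fun s m hm => by
      refine mapBifunctor.hom_ext (fun p q hpq => ?_)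
      rw [ι_mapBifunctorDesc]
      by_cases hp : a ≤ p ∧ p ≤ b
      · rw [dif_pos hp]
        obtain rfl : q = n - p := by
          change p + q = n at hpq
          omega
        rw [eqToHom_refl, id_comp]
        exact hm ⟨p, hp⟩
      · rw [dif_neg hp]
        have hz : IsZero (K₁.X p) := h p (by omega)
        have hz2 : IsZero ((F.obj (K₁.X p)).obj (K₂.X q)) :=
          ((F.flip.obj (K₂.X q)).map_isZero hz)
        exact hz2.eq_of_src _ _)

/-- terms of the total complex inherit properties closed under finite coproducts -/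
theorem prop_mapBifunctor_X (P : ObjectProperty D) [P.IsClosedUnderFiniteCoproducts]
    (a b : ℤ) (h : ∀ p, p < a ∨ b < p → IsZero (K₁.X p))
    (hP : ∀ p q, P ((F.obj (K₁.X p)).obj (K₂.X q))) (n : ℤ) :
    P ((CochainComplex.mapBifunctor K₁ K₂ F).X n) := by
  have h1 := P.prop_of_isColimit_cofan (isColimitFinCofan F K₁ K₂ a b n h) (fun p => hP _ _)
  exact h1

/-- vanishing of the terms of the total complex -/
theorem isZero_mapBifunctor_X (n : ℤ)
    (h : ∀ p q, p + q = n → IsZero ((F.obj (K₁.X p)).obj (K₂.X q))) :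
    IsZero ((CochainComplex.mapBifunctor K₁ K₂ F).X n) := by
  rw [IsZero.iff_id_eq_zero]
  refine mapBifunctor.hom_ext (fun p q hpq => ?_)
  exact (h p q hpq).eq_of_src _ _

end Groth.Agent.H4.RT3
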