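import Mathlib
import Groth.Prelude.Def_DerSch
import Groth.Prelude.Def_DCoh4
import Groth.Prelude.Def_SecTwist
import Groth.Agent.H4.RT1
import Groth.Agent.H4.RT3
import Groth.Agent.H4.FAmp7
import Groth.Agent.Lib.Helper3.SPerf

set_option autoImplicit false
universe u
open CategoryTheory CategoryTheory.Limits AlgebraicGeometry HomologicalComplex ZeroObject

namespace Groth.Agent.H4.RT4

open Groth.Agent.H4.FAmp7 Groth.Agent.LD.QC Groth.Agent.H4.RT1 Groth.Agent.H4.RT3
  Groth.Agent.H4.PSch5

variable {X : Scheme.{u}}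

/-- the property of being finite locally free -/
def flf (X : Scheme.{u}) : ObjectProperty X.Modules := fun M => FlatMod.IsFinLocFree M

instance : (flf X).IsClosedUnderIsomorphisms where
  of_iso e h := isFinLocFree_of_iso e h

instance : (flf X).ContainsZero where
  exists_zero := ⟨0, isZero_zero _, isFinLocFree_of_isZero (isZero_zero _)⟩

instance : (flf X).IsClosedUnderBinaryCoproducts where
  colimitsOfShape_le := by
    rintro M ⟨p⟩
    have e : M ≅ p.diag.obj ⟨WalkingPair.left⟩ ⊞ p.diag.obj ⟨WalkingPair.right⟩ :=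
      IsColimit.coconePointUniqueUpToIso p.isColimit (colimit.isColimit _) ≪≫
        HasColimit.isoOfNatIso (diagramIsoPair p.diag) ≪≫ (biprod.isoCoprod _ _).symm
    exact isFinLocFree_of_iso e.symm
      (Groth.Agent.H3.SPerf.isFinLocFree_biprod _ _ (p.prop_diag_obj _) (p.prop_diag_obj _))

instance : (flf X).IsClosedUnderFiniteCoproducts := ObjectProperty.IsClosedUnderFiniteCoproducts.mk'

set_option backward.isDefEq.respectTransparency false in
/-- the right unit isomorphism, typed through the bifunctor -/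
noncomputable def unitorR' (F : X.Modules) :
    ((DCoh.tensorBi (X := X)).obj F).obj (Coh.structureModule X) ≅ F := SecTwist.unitorR F

/-- tensoring with a free module of finite rank -/
theorem isFinLocFree_tensor_freeMod (N : X.Modules) (hN : FlatMod.IsFinLocFree N) (m : ℕ) :
    FlatMod.IsFinLocFree (((DCoh.tensorBi (X := X)).obj N).obj (FlatMod.freeMod X m)) := by
  let e := PreservesCoproduct.iso ((DCoh.tensorBi (X := X)).obj N)
    (fun _ : Fin m => Coh.structureModule X)
  refine isFinLocFree_of_iso e.symm ?_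
  have h := (flf X).prop_coproduct (f := fun _ : Fin m =>
    ((DCoh.tensorBi (X := X)).obj N).obj (Coh.structureModule X))
    (fun _ => isFinLocFree_of_iso (unitorR' N).symm hN)
  exact h

/-- the tensor product of finite locally free modules is finite locally free -/
theorem isFinLocFree_tensor (N M : X.Modules) (hN : FlatMod.IsFinLocFree N)
    (hM : FlatMod.IsFinLocFree M) :
    FlatMod.IsFinLocFree (((DCoh.tensorBi (X := X)).obj N).obj M) := by
  intro x
  obtain ⟨V, m, hxV, ⟨e⟩⟩ := hM x
  have hN' : FlatMod.IsFinLocFree (N.restrict V.ι) :=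
    (isFinLocFree_restrict_iff' N V.ι).2 (fun y => hN _)
  have h1 := isFinLocFree_tensor_freeMod (N.restrict V.ι) hN' m
  have h2 : FlatMod.IsFinLocFree
      ((((DCoh.tensorBi (X := X)).obj N).obj M).restrict V.ι) :=
    isFinLocFree_of_iso (((DCoh.tensorBi (X := (V : Scheme.{u}))).obj (N.restrict V.ι)).mapIso e.symm ≪≫
      ρIso V.ι N M) h1
  exact (isFinLocFree_restrict_iff' _ V.ι).1 h2 ⟨x, hxV⟩

/-- the tensor product of strictly perfect complexes is strictly perfect -/
theorem isStrictlyPerfect_tensorCx (A B : CochainComplex X.Modules ℤ)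
    (hA : DCoh.IsStrictlyPerfect A) (hB : DCoh.IsStrictlyPerfect B) :
    DCoh.IsStrictlyPerfect ((DCoh.tensorCx.obj A).obj B) := by
  obtain ⟨⟨a, b, hab⟩, hAf⟩ := hA
  obtain ⟨⟨a', b', hab'⟩, hBf⟩ := hB
  refine ⟨⟨a + a', b + b', fun n hn => ?_⟩, fun n => ?_⟩
  · refine isZero_mapBifunctor_X (DCoh.tensorBi (X := X)) A B n (fun p q hpq => ?_)
    by_cases hp : p < a ∨ b < p
    · exact ((DCoh.tensorBi (X := X)).flip.obj (B.X q)).map_isZero (hab p hp)
    · exact ((DCoh.tensorBi (X := X)).obj (A.X p)).map_isZero (hab' q (by omega))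
  · exact prop_mapBifunctor_X (DCoh.tensorBi (X := X)) A B (flf X) a b hab
      (fun p q => isFinLocFree_tensor _ _ (hAf p) (hBf q)) n

end Groth.Agent.H4.RT4
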