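import Mathlib
import Groth.Prelude.Def_DerSch
import Groth.Prelude.Def_DCoh4
import Groth.Agent.H4.RT1
import Groth.Agent.H4.RT2
import Groth.Agent.H4.RT4
import Groth.Agent.H4.LTC2
import Groth.Agent.H4.LDS20
import Groth.Agent.H4.LDS17
import Groth.Agent.H4.PSch3

set_option autoImplicit false
universe u
open CategoryTheory CategoryTheory.Limits AlgebraicGeometry HomologicalComplex
attribute [local instance] HasDerivedCategory.standard

namespace Groth.Agent.H4.RT5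

open Groth.Agent.H4.PSch1 Groth.Agent.H4.PSch2 Groth.Agent.H4.PSch3
  Groth.Agent.H4.LDS14 Groth.Agent.H4.LDS15 Groth.Agent.H4.LDS17 Groth.Agent.H4.LDS19
  Groth.Agent.H4.LDS20 Groth.Agent.H4.RT1 Groth.Agent.H4.RT2 Groth.Agent.H4.RT4 DerivedCategory

variable {X U : Scheme.{u}}

/-- restriction to an open subscheme preserves stalkwise K-flatness -/
lemma skf_resCx (j : U ⟶ X) [IsOpenImmersion j] (P : CochainComplex X.Modules ℤ) (hP : SKF P) :
    SKF ((resCx j).obj P) :=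
  skf_of_iso ((NatIso.mapHomologicalComplex (Scheme.Modules.restrictFunctorIsoPullback j)
    (ComplexShape.up ℤ)).app P).symm (skf_pullCx j P hP)

/-- restriction of `K ⊗^L L` to an open subscheme, on representatives -/
theorem nonempty_RD_ltensor_iso (j : U ⟶ X) [IsOpenImmersion j]
    (L : CochainComplex X.Modules ℤ) [DCoh.HasLTensorCx L] (K : DCoh.D X)
    (P : CochainComplex X.Modules ℤ) (hP : SKF P) (eP : Q.obj P ≅ K) :
    Nonempty ((RD j).obj ((DCoh.LTensorCx L).obj K) ≅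
      Q.obj ((DCoh.tensorCx.obj ((resCx j).obj P)).obj ((resCx j).obj L))) :=
  ⟨(RD j).mapIso ((DCoh.LTensorCx L).mapIso eP.symm ≪≫
      Groth.Agent.H4.LTC2.LTensorCxIso L P (isKFlat_of_skf P hP)) ≪≫
    RDfac j _ ≪≫ Q.mapIso (resTensorCxIso j P L).symm⟩

/-- **the derived tensor product of perfect objects is perfect**, pointwise form -/
theorem perfAt_ltensor (L : CochainComplex X.Modules ℤ) (hL : DCoh.IsKFlat L)
    [DCoh.HasLTensorCx L] (K : DCoh.D X) (x : X) (hK : PerfAt K x) (hLp : PerfAt (Q.obj L) x) :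
    PerfAt ((DCoh.LTensorCx L).obj K) x := by
  obtain ⟨U₁, j₁, hj₁, E₁, hx₁, hE₁, ⟨e₁⟩⟩ := hK
  obtain ⟨U₂, j₂, hj₂, E₂, hx₂, hE₂, ⟨e₂⟩⟩ := hLp
  let U := pullback j₁ j₂
  let p₁ : U ⟶ U₁ := pullback.fst j₁ j₂
  let p₂ : U ⟶ U₂ := pullback.snd j₁ j₂
  let j : U ⟶ X := p₁ ≫ j₁
  have hj2 : j = p₂ ≫ j₂ := pullback.condition
  have hxj : x ∈ Set.range j := by
    rw [IsOpenImmersion.range_pullback_to_base_of_left]
    exact ⟨hx₁, hx₂⟩
  obtain ⟨eK⟩ := nonempty_RD_iso_shrink p₁ j₁ j rfl K E₁ e₁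
  obtain ⟨eL⟩ := nonempty_RD_iso_shrink p₂ j₂ j hj2 (Q.obj L) E₂ e₂
  have hE₁' := isStrictlyPerfect_restrict p₁ E₁ hE₁
  have hE₂' := isStrictlyPerfect_restrict p₂ E₂ hE₂
  -- K-flat resolution of K
  obtain ⟨P, c, hc, hP, -⟩ := exists_skf_resolution (Q.objPreimage K)
  haveI := hc
  have eP : Q.obj P ≅ K := asIso (Q.map c) ≪≫ Q.objObjPreimageIso K
  obtain ⟨e0⟩ := nonempty_RD_ltensor_iso j L K P hP eP
  -- compare
  have eA : Q.obj ((resCx j).obj P) ≅ Q.obj ((resCx p₁).obj E₁) :=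
    (RDfac j P).symm ≪≫ (RD j).mapIso eP ≪≫ eK
  have eB : Q.obj ((resCx j).obj L) ≅ Q.obj ((resCx p₂).obj E₂) :=
    (RDfac j L).symm ≪≫ eL
  have hB : DCoh.IsKFlat ((resCx j).obj L) :=
    isKFlat_of_skf _ (skf_resCx j L (skf_of_isKFlat L hL))
  have hA' : DCoh.IsKFlat ((resCx p₁).obj E₁) :=
    isKFlat_of_skf _ (skf_of_isStrictlyPerfect _ hE₁')
  exact ⟨U, j, inferInstance, _, hxj, isStrictlyPerfect_tensorCx _ _ hE₁' hE₂',
    ⟨e0 ≪≫ tensorIsoBoth hB hA' eA eB⟩⟩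

theorem S0962 {X : Scheme.{u}} (L : CochainComplex X.Modules ℤ) (hL : DCoh.IsKFlat L)
    (hLp : DCoh.IsPerfect (DerivedCategory.Q.obj L)) [DCoh.HasLTensorCx L] (K : DCoh.D X)
    (hK : DCoh.IsPerfect K) : DCoh.IsPerfect ((DCoh.LTensorCx L).obj K) := by
  rw [isPerfect_iff_perfAt] at hLp hK ⊢
  exact fun x => perfAt_ltensor L hL K x (hK x) (hLp x)

end Groth.Agent.H4.RT5
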