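import Mathlib
import Groth.Agent.H4.GK10

open CategoryTheory Category Limits HomologicalComplex

universe v u

namespace Groth.Agent.H4.GK12

variable {A : Type u} [Category.{v} A] [Abelian A]
variable {B : Type*} [Category B] [Abelian B] (Φ : A ⥤ B) [Φ.Additive] [Φ.PreservesEpimorphisms]

/-- If `Φ(S)` is exact and `S.g = e ≫ ι` with `e` epi, `ι` mono, then `Φ(ι)` is mono. -/
theorem mono_map_of_exact_map (S : ShortComplex A) (hΦS : (S.map Φ).Exact) {B' : A}
    (e : S.X₂ ⟶ B') [Epi e] (ι : B' ⟶ S.X₃) [Mono ι] (fac : e ≫ ι = S.g) : Mono (Φ.map ι) := by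
  haveI : Epi (Φ.map e) := inferInstance
  apply Preadditive.mono_of_cancel_zero
  intro W x hx
  obtain ⟨W', π, hπ, y, hy⟩ := surjective_up_to_refinements_of_epi (Φ.map e) x
  have hy0 : y ≫ (S.map Φ).g = 0 := by
    change y ≫ Φ.map S.g = 0
    rw [← fac, Φ.map_comp, ← assoc, ← hy, assoc, hx, comp_zero]
  obtain ⟨W'', π', hπ', w, hw⟩ := hΦS.exact_up_to_refinements y hy0
  have h0 : S.f ≫ e = 0 := by
    rw [← cancel_mono ι, assoc, fac, S.zero, zero_comp]
  have h0' : Φ.map S.f ≫ Φ.map e = 0 := by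
    rw [← Φ.map_comp, h0, Φ.map_zero]
  obtain ⟨w', rfl⟩ : ∃ w' : W'' ⟶ Φ.obj S.X₁, w' = w := ⟨w, rfl⟩
  have hw' : π' ≫ y = w' ≫ Φ.map S.f := hw
  have h1 : (π' ≫ π) ≫ x = 0 := by
    rw [assoc, hy, ← assoc, hw', assoc, h0', comp_zero]
  haveI := hπ
  haveI := hπ'
  exact (cancel_epi (π' ≫ π)).1 (h1.trans comp_zero.symm)

/-- the short exact sequence `0 → im f → Y → coker f → 0` -/
noncomputable def imageSC {X Y : A} (f : X ⟶ Y) : ShortComplex A :=
  ShortComplex.mk (kernel.ι (cokernel.π f)) (cokernel.π f) (kernel.condition _)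

lemma imageSC_shortExact {X Y : A} (f : X ⟶ Y) : (imageSC f).ShortExact where
  exact := ShortComplex.exact_of_f_is_kernel _ (kernelIsKernel _)
  mono_f := inferInstanceAs (Mono (kernel.ι (cokernel.π f)))
  epi_g := inferInstanceAs (Epi (cokernel.π f))

/-- if `Φ(S)` is exact then `Φ(im S.g) → Φ(S.X₃)` is mono -/
theorem mono_map_imageSC_f (S : ShortComplex A) (hΦS : (S.map Φ).Exact) :
    Mono (Φ.map (imageSC S.g).f) := by
  haveI : Epi (Abelian.factorThruImage S.g) := inferInstance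
  exact mono_map_of_exact_map Φ S hΦS (Abelian.factorThruImage S.g) (Abelian.image.ι S.g)
    (Abelian.image.fac S.g)

end Groth.Agent.H4.GK12
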