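import Mathlib
import Groth.Prelude.Def_KFlatSite
import Groth.Agent.H4.GK10
import Groth.Agent.H4.GKS6

set_option autoImplicit false
universe u
open CategoryTheory CategoryTheory.Limits Opposite MonoidalCategory
attribute [local instance] HasDerivedCategory.standard
open Groth.Agent.H4.GK1 Groth.Agent.H4.GK2 Groth.Agent.H4.GK3 Groth.Agent.H4.GK4 Groth.Agent.LD.MS
  Groth.Agent.H4.GKS1 Groth.Agent.H4.GKS2 Groth.Agent.H4.GKS3 Groth.Agent.H4.GK7 Groth.Agent.H4.GK8
  Groth.Agent.H4.GK9 Groth.Agent.H4.GK10 Groth.Agent.H4.GKS5 Groth.Agent.H4.GKS6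

namespace Groth.Agent.H4.GKS7

variable {C : Type u} [SmallCategory C] {J : GrothendieckTopology C} (O : Sheaf J CommRingCat.{u})

/-- if `0 → X₁ → X₂ → X₃ → 0` is exact with `X₂` flat and `X₁ ⊗ G → X₂ ⊗ G` injective for all
`G`, then `X₃` is flat. -/
theorem isFlat_X₃_of_universally_mono (S : ShortComplex (ModSite.Mod O)) (hS : S.ShortExact)
    (h₂ : ModSite.IsFlat S.X₂)
    (hm : ∀ G : ModSite.Mod O, Mono (((ModSite.tensorBi O).flip.obj G).map S.f)) :
    ModSite.IsFlat S.X₃ := by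
  rw [isFlat_iff_preservesMono]
  constructor
  intro G' G m hm'
  let T := ModSite.tensorBi O
  have := hS.epi_g
  let SG : ShortComplex (ModSite.Mod O) := ShortComplex.mk m (cokernel.π m) (cokernel.condition m)
  have hSG : SG.ShortExact :=
    { exact := ShortComplex.exact_of_g_is_cokernel _ (cokernelIsCokernel m)
      mono_f := hm'
      epi_g := inferInstanceAs (Epi (cokernel.π m)) }
  have := hSG.epi_g
  let L₁ := SG.map (T.flip.obj S.X₁)
  let L₂ := SG.map (T.flip.obj S.X₂)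
  let L₃ := SG.map (T.flip.obj S.X₃)
  let v₁₂ : L₁ ⟶ L₂ := SG.mapNatTrans (T.flip.map S.f)
  let v₂₃ : L₂ ⟶ L₃ := SG.mapNatTrans (T.flip.map S.g)
  have w : v₁₂ ≫ v₂₃ = 0 := by
    apply ShortComplex.hom_ext
    · change (T.obj SG.X₁).map S.f ≫ (T.obj SG.X₁).map S.g = 0
      rw [← Functor.map_comp, S.zero, Functor.map_zero]
    · change (T.obj SG.X₂).map S.f ≫ (T.obj SG.X₂).map S.g = 0
      rw [← Functor.map_comp, S.zero, Functor.map_zero]
    · change (T.obj SG.X₃).map S.f ≫ (T.obj SG.X₃).map S.g = 0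
      rw [← Functor.map_comp, S.zero, Functor.map_zero]
  have h1 := exact_map_of_rightExact (T.flip.obj S.X₁) SG hSG.exact
  have : Epi L₁.g := h1.2
  have h2 : L₂.Exact := by
    have := h₂.1
    have := h₂.2
    exact (hSG.map_of_exact (T.flip.obj S.X₂)).exact
  have : Mono L₂.f := by
    have := preservesMono_flip_of_isFlat h₂
    exact (T.flip.obj S.X₂).map_mono SG.f
  have e1 := exact_map_of_rightExact (T.obj SG.X₁) S hS.exact
  have e2 := exact_map_of_rightExact (T.obj SG.X₂) S hS.exact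
  have e3 := exact_map_of_rightExact (T.obj SG.X₃) S hS.exact
  have : Epi v₂₃.τ₁ := e1.2
  have : Epi v₂₃.τ₂ := e2.2
  have : Epi v₂₃.τ₃ := e3.2
  have : Mono v₁₂.τ₃ := by
    change Mono ((T.obj SG.X₃).map S.f)
    have h := hm SG.X₃
    have e := (braidIso (O := O) SG.X₃).hom.naturality S.f
    have : Mono ((T.obj SG.X₃).map S.f ≫ (braidIso (O := O) SG.X₃).hom.app S.X₂) := by
      rw [e]
      infer_instance
    exact mono_of_mono _ ((braidIso (O := O) SG.X₃).hom.app S.X₂)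
  exact mono_of_snake L₁ L₂ L₃ v₁₂ v₂₃ w h1.1 h2 e1.1 e2.1 e3.1

/-- **S9052**: cycles of a K-flat acyclic complex with flat terms are flat -/
theorem isFlat_cycles (K : CochainComplex (ModSite.Mod O) ℤ) (hK : ModSite.IsKFlat K)
    (hac : Acyc K) (hfl : ∀ i : ℤ, ModSite.IsFlat (K.X i)) (n : ℤ) :
    ModSite.IsFlat (K.cycles n) := by
  obtain ⟨m, rfl⟩ : ∃ m, n = m + 1 + 1 := ⟨n - 2, by omega⟩
  have hex := (acyc_iff_exactAt K).1 hac
  have hS := cyclesSC_shortExact K (m + 1) (m + 1 + 1) rfl (hex (m + 1 + 1))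
  refine isFlat_X₃_of_universally_mono O (cyclesSC K (m + 1) (m + 1 + 1)) hS (hfl (m + 1))
    (fun G => ?_)
  let SG := (HomologicalComplex.single (ModSite.Mod O) (ComplexShape.up ℤ) 0).obj G
  have h1 : Acyc (CochainComplex.mapBifunctor SG K (ModSite.tensorBi O)) :=
    acyc_tensor_of_kflat_acyc O K hK hac SG
  have h2 : Acyc (CochainComplex.mapBifunctor K SG (ModSite.tensorBi O)) :=
    Acyc.of_iso (Groth.Agent.H4.GK9.braid (ModSite.tensorBi O) (braidBi O) SG K) h1
  have hconc : ∀ q : ℤ, q ≠ 0 → IsZero (SG.X q) := fun q hq =>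
    HomologicalComplex.isZero_single_obj_X _ _ _ _ hq
  have h3 := exact_map_of_acyc_concentrated (ModSite.tensorBi O) K SG 0 hconc h2 m
  have h4 : ((K.sc' (m - 1) m (m + 1)).map ((ModSite.tensorBi O).flip.obj G)).Exact :=
    ShortComplex.exact_of_iso ((K.sc' (m - 1) m (m + 1)).mapNatIso
      ((ModSite.tensorBi O).flip.mapIso (HomologicalComplex.singleObjXSelf (ComplexShape.up ℤ) 0 G))) h3
  exact mono_map_iCycles ((ModSite.tensorBi O).flip.obj G) K (m - 1) m (m + 1) (by omega) rfl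
    (hex (m + 1)) h4

theorem S9052
    [(ModSite.tensorBi O).PreservesZeroMorphisms]
    [∀ X : ModSite.Mod O, ((ModSite.tensorBi O).obj X).PreservesZeroMorphisms]
    (K : CochainComplex (ModSite.Mod O) ℤ)
    (hK : ∀ L : CochainComplex (ModSite.Mod O) ℤ, L.Acyclic →
      (HomologicalComplex.mapBifunctor L K (ModSite.tensorBi O) (ComplexShape.up ℤ)).Acyclic)
    (hac : K.Acyclic) (hfl : ∀ i : ℤ, ModSite.IsFlat (K.X i)) (n : ℤ) :
    ModSite.IsFlat (K.cycles n) := by
  have hK' : ModSite.IsKFlat K := fun L hL =>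
    (acyc_iff_acyclic _).2 (hK L ((acyc_iff_acyclic _).1 hL))
  exact isFlat_cycles O K hK' ((acyc_iff_acyclic _).2 hac) hfl n

end Groth.Agent.H4.GKS7
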