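import Mathlib
import Groth.Prelude.Def_KFlatSite
import Groth.Prelude.Def_DCoh4
import Groth.Agent.H4.GKS7
import Groth.Agent.H4.GK12
import Groth.Agent.H4.SFlat6

set_option autoImplicit false
universe u
open CategoryTheory CategoryTheory.Limits Opposite MonoidalCategory AlgebraicGeometry
attribute [local instance] HasDerivedCategory.standard
open Groth.Agent.H4.GK1 Groth.Agent.H4.GK12 Groth.Agent.H4.GKS7

namespace Groth.Agent.H4.GKS9

section Site

variable {C : Type u} [SmallCategory C] {J : GrothendieckTopology C} (O : Sheaf J CommRingCat.{u})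

/-- if `K^k` is flat and `K ⊗ G` is exact at `j` for every `G`, then `coker (K^j → K^k)` is flat -/
theorem isFlat_cokernel_of_universally_exact (K : CochainComplex (ModSite.Mod O) ℤ) (i j k : ℤ)
    (hflat : ModSite.IsFlat (K.X k))
    (h : ∀ G : ModSite.Mod O, ((K.sc' i j k).map ((ModSite.tensorBi O).flip.obj G)).Exact) :
    ModSite.IsFlat (cokernel (K.d j k)) :=
  isFlat_X₃_of_universally_mono O (imageSC (K.d j k)) (imageSC_shortExact _) hflat
    (fun G => mono_map_imageSC_f ((ModSite.tensorBi O).flip.obj G) (K.sc' i j k) (h G))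

end Site

section Sch

variable {X : Scheme.{u}}

theorem isFlat_cokernel_of_universally_exact_sch (K : CochainComplex X.Modules ℤ) (i j k : ℤ)
    (hflat : FlatMod.IsFlat (K.X k))
    (h : ∀ G : X.Modules, ((K.sc' i j k).map (DCoh.tensorRightMod G)).Exact) :
    FlatMod.IsFlat (cokernel (K.d j k)) :=
  (Groth.Agent.H4.SFlat6.isFlat_iff_stalkwise _).1
    (isFlat_cokernel_of_universally_exact (O := X.sheaf) K i j k
      ((Groth.Agent.H4.SFlat6.isFlat_iff_stalkwise _).2 hflat) h)

end Sch

end Groth.Agent.H4.GKS9
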