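import Mathlib
import Groth.Prelude.Def_DTor2
import Groth.Agent.H4.LDS7
import Groth.Agent.H4.GKS8
import Groth.Agent.H4.GKS9
set_option autoImplicit false

/-!
# Tor-vanishing and flatness on schemes
-/

namespace Groth.Agent.H4.LDS8

open CategoryTheory Limits Category HomologicalComplex AlgebraicGeometry
open Groth.Agent.H4.GK1 Groth.Agent.H4.GK4

universe u

attribute [local instance] HasDerivedCategory.standard

variable {X : Scheme.{u}}

/-- the cohomology sheaves of `E ⊗^L G` for K-flat `E` -/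
noncomputable def HDLTensorModIso (E : CochainComplex X.Modules ℤ) (hE : DCoh.IsKFlat E)
    (G : X.Modules) [DCoh.HasLTensorMod G] (j : ℤ) :
    DCoh.HD ((DCoh.LTensorMod G).obj (DCoh.toD X E)) j ≅
      (((DCoh.tensorRightMod G).mapHomologicalComplex (ComplexShape.up ℤ)).obj E).homology j :=
  (DerivedCategory.homologyFunctor X.Modules j).mapIso
    (Groth.Agent.H4.LDS6.LTensorModIso G E hE (Iso.refl _)) ≪≫
    (DerivedCategory.homologyFunctorFactors X.Modules j).app _

theorem exact_map_iff_isZero_HD (E : CochainComplex X.Modules ℤ) (hE : DCoh.IsKFlat E)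
    (G : X.Modules) [DCoh.HasLTensorMod G] (i j k : ℤ) (hij : i + 1 = j) (hjk : j + 1 = k) :
    ((E.sc' i j k).map (DCoh.tensorRightMod G)).Exact ↔
      IsZero (DCoh.HD ((DCoh.LTensorMod G).obj (DCoh.toD X E)) j) := by
  rw [(HDLTensorModIso E hE G j).isZero_iff, ← HomologicalComplex.exactAt_iff_isZero_homology,
    HomologicalComplex.exactAt_iff' _ i j k (by simp; omega) (by simp; omega)]
  rfl

/-- **S0968**: the cokernel of `E^{a-1} → E^a` is flat when `E` has tor-amplitude `≥ a` -/
theorem isFlat_cokernel_of_isZero_HD (E : CochainComplex X.Modules ℤ) (hE : DCoh.IsKFlat E)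
    (i j k : ℤ) (hij : i + 1 = j) (hjk : j + 1 = k) (hflat : FlatMod.IsFlat (E.X k))
    (hL : ∀ G : X.Modules, DCoh.HasLTensorMod G)
    (h : ∀ (G : X.Modules) [DCoh.HasLTensorMod G],
      IsZero (DCoh.HD ((DCoh.LTensorMod G).obj (DCoh.toD X E)) j)) :
    FlatMod.IsFlat (cokernel (E.d j k)) :=
  Groth.Agent.H4.GKS9.isFlat_cokernel_of_universally_exact_sch E i j k hflat (fun G => by
    haveI := hL G
    exact (exact_map_iff_isZero_HD E hE G i j k hij hjk).2 (h G))

lemma isFlat_of_isZero (Z : X.Modules) (hZ : IsZero Z) : FlatMod.IsFlat Z :=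
  (Groth.Agent.H4.SFlat6.isFlat_iff_stalkwise _).1
    (Groth.Agent.H4.GKS5.isFlat_of_isZero (O := X.sheaf) Z hZ)

lemma isFlat_of_iso {M N : X.Modules} (e : M ≅ N) (hM : FlatMod.IsFlat M) : FlatMod.IsFlat N :=
  (Groth.Agent.H4.SFlat6.isFlat_iff_stalkwise _).1
    (FlatObj.of_iso (F := DCoh.tensorBi (X := X)) e
      ((Groth.Agent.H4.SFlat6.isFlat_iff_stalkwise _).2 hM))

/-- the single complex of a flat module has flat terms -/
lemma isFlat_single_X (F : X.Modules) (hF : FlatMod.IsFlat F) (i : ℤ) :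
    FlatMod.IsFlat (((HomologicalComplex.single X.Modules (ComplexShape.up ℤ) 0).obj F).X i) := by
  by_cases hi : i = 0
  · subst hi
    exact isFlat_of_iso (HomologicalComplex.singleObjXSelf (ComplexShape.up ℤ) 0 F).symm hF
  · exact isFlat_of_isZero _ (HomologicalComplex.isZero_single_obj_X (ComplexShape.up ℤ) 0 F i hi)

/-- Tor-vanishing for flat modules -/
theorem isZero_HD_LTensorMod_inD_of_isFlat (F : X.Modules) (hF : FlatMod.IsFlat F)
    (G : X.Modules) [DCoh.HasLTensorMod G] (i : ℤ) (hi : i ≠ 0) :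
    IsZero (DCoh.HD ((DCoh.LTensorMod G).obj (DCoh.inD X F)) i) := by
  refine Groth.Agent.H4.LDS7.isZero_HD_LTensorMod
    ((HomologicalComplex.single X.Modules (ComplexShape.up ℤ) 0).obj F) 0 0 ?_
    (isFlat_single_X F hF) (Iso.refl _) G i (by omega)
  intro j hj
  exact HomologicalComplex.isZero_single_obj_X (ComplexShape.up ℤ) 0 F j (by omega)

/-- the cokernel of the last differential of a resolution concentrated in degrees `≤ 0` -/
lemma nonempty_cokernel_iso_of_quasiIso (E : CochainComplex X.Modules ℤ) (F : X.Modules)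
    (q : E ⟶ (HomologicalComplex.single X.Modules (ComplexShape.up ℤ) 0).obj F) (hq : QuasiIso q)
    (h1 : IsZero (E.X 1)) : Nonempty (cokernel (E.d (-1) 0) ≅ F) := by
  have e1 : cokernel (E.d (-1) 0) ≅ E.opcycles 0 :=
    IsColimit.coconePointUniqueUpToIso (colimit.isColimit _) (E.opcyclesIsCokernel (-1) 0 (by simp))
  have e2 : E.homology 0 ≅ E.opcycles 0 :=
    E.isoHomologyι 0 1 (by simp) (h1.eq_of_tgt _ _)
  have e3 : E.homology 0 ≅ ((HomologicalComplex.single X.Modules (ComplexShape.up ℤ) 0).obj F).homology 0 :=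
    asIso (HomologicalComplex.homologyMap q 0)
  exact ⟨e1 ≪≫ e2.symm ≪≫ e3 ≪≫ HomologicalComplex.singleObjHomologySelfIso (ComplexShape.up ℤ) 0 F⟩

/-- **S0916** -/
theorem isFlat_iff_tor_one_vanishing (F : X.Modules) (hL : ∀ G : X.Modules, DCoh.HasLTensorMod G) :
    FlatMod.IsFlat F ↔ ∀ (G : X.Modules) [DCoh.HasLTensorMod G],
      IsZero (DCoh.HD ((DCoh.LTensorMod G).obj (DCoh.inD X F)) (-1)) := by
  constructor
  · intro hF G _
    exact isZero_HD_LTensorMod_inD_of_isFlat F hF G (-1) (by omega)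
  · intro h
    obtain ⟨E, q, hE, hflat, hq, hbdd⟩ := Groth.Agent.H4.GKS8.exists_bddAbove_resolution_sch
      ((HomologicalComplex.single X.Modules (ComplexShape.up ℤ) 0).obj F) 0
      (fun i hi => HomologicalComplex.isZero_single_obj_X (ComplexShape.up ℤ) 0 F i (by omega))
    obtain ⟨e⟩ := nonempty_cokernel_iso_of_quasiIso E F q hq (hbdd 1 (by omega))
    refine isFlat_of_iso e (isFlat_cokernel_of_isZero_HD E hE (-2) (-1) 0 (by omega) (by omega)
      (hflat 0) hL (fun G _ => ?_))
    have hiso : IsIso (DerivedCategory.Q.map q) := by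
      rw [DerivedCategory.isIso_Q_map_iff_quasiIso]; exact hq
    exact (h G).of_iso ((DerivedCategory.homologyFunctor X.Modules (-1)).mapIso
      ((DCoh.LTensorMod G).mapIso (@asIso _ _ _ _ (DerivedCategory.Q.map q) hiso)))

end Groth.Agent.H4.LDS8
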