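import Mathlib
import Groth.Prelude.Def_DTor2
import Groth.Agent.H4.LDS8
import Groth.Agent.Lib.Lead.EZ.ProjStmts
set_option autoImplicit false

/-!
# Tor-amplitude versus flat amplitude
-/

namespace Groth.Agent.H4.LDS9

open CategoryTheory Limits Category HomologicalComplex AlgebraicGeometry
open Groth.Agent.H4.GK1 Groth.Agent.H4.GK4

universe u

attribute [local instance] HasDerivedCategory.standard

variable {X : Scheme.{u}}

/-- the structure sheaf as a module -/
noncomputable abbrev OX (X : Scheme.{u}) : X.Modules := ModSite.unit X.sheaf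

/-- `- ⊗ O_X ≅ id` -/
noncomputable def tensorRightModUnitIso : DCoh.tensorRightMod (OX X) ≅ 𝟭 X.Modules :=
  Groth.Agent.LD.EZ.flipUnitIso (X.sheaf)

/-- `E ⊗^L O_X ≅ E` -/
theorem nonempty_LTensorMod_unit_iso [DCoh.HasLTensorMod (OX X)] (E : DCoh.D X) :
    Nonempty ((DCoh.LTensorMod (OX X)).obj E ≅ E) := by
  obtain ⟨K, ⟨e⟩⟩ : ∃ K : CochainComplex X.Modules ℤ, Nonempty (DerivedCategory.Q.obj K ≅ E) :=
    ⟨_, ⟨DerivedCategory.Q.objObjPreimageIso E⟩⟩
  obtain ⟨P, q, hP, hq⟩ := Groth.Agent.H4.LDS6.hresX K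
  have hiso : IsIso (DerivedCategory.Q.map q) := by
    rw [DerivedCategory.isIso_Q_map_iff_quasiIso]; exact hq
  let e' : DerivedCategory.Q.obj P ≅ E := @asIso _ _ _ _ (DerivedCategory.Q.map q) hiso ≪≫ e
  exact ⟨Groth.Agent.H4.LDS6.LTensorModIso (OX X) P hP e' ≪≫
    DerivedCategory.Q.mapIso ((NatIso.mapHomologicalComplex tensorRightModUnitIso
      (ComplexShape.up ℤ)).app P) ≪≫
    DerivedCategory.Q.mapIso ((Functor.mapHomologicalComplexIdIso X.Modules
      (ComplexShape.up ℤ)).app P) ≪≫ e'⟩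

/-- tor-amplitude controls the cohomology sheaves -/
theorem isZero_HD_of_hasTorAmplitudeIn (a b : ℤ) (E : DCoh.D X)
    (hL : ∀ G : X.Modules, DCoh.HasLTensorMod G) (h : DCoh.HasTorAmplitudeIn a b E) (i : ℤ)
    (hi : i < a ∨ b < i) : IsZero (DCoh.HD E i) := by
  haveI := hL (OX X)
  obtain ⟨e⟩ := nonempty_LTensorMod_unit_iso E
  exact (h (OX X) i hi).of_iso ((DerivedCategory.homologyFunctor X.Modules i).mapIso e.symm)

lemma exactAt_of_isZero_HD (K : CochainComplex X.Modules ℤ) (i : ℤ)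
    (h : IsZero (DCoh.HD (DCoh.toD X K) i)) : K.ExactAt i := by
  rw [HomologicalComplex.exactAt_iff_isZero_homology]
  exact h.of_iso ((DerivedCategory.homologyFunctorFactors X.Modules i).app K).symm

/-- **S0912 (⇒)** -/
theorem hasFlatAmplitudeIn_of_hasTorAmplitudeIn (a b : ℤ) (hab : a ≤ b) (E : DCoh.D X)
    (hL : ∀ G : X.Modules, DCoh.HasLTensorMod G) (h : DCoh.HasTorAmplitudeIn a b E) :
    DCoh.HasFlatAmplitudeIn a b E := by
  obtain ⟨K, ⟨e⟩⟩ : ∃ K : CochainComplex X.Modules ℤ, Nonempty (DerivedCategory.Q.obj K ≅ E) :=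
    ⟨_, ⟨DerivedCategory.Q.objObjPreimageIso E⟩⟩
  have hHD := isZero_HD_of_hasTorAmplitudeIn a b E hL h
  -- truncate above
  haveI : K.IsLE b := by
    rw [CochainComplex.isLE_iff]
    intro i hi
    exact exactAt_of_isZero_HD K i ((hHD i (Or.inr hi)).of_iso
      ((DerivedCategory.homologyFunctor X.Modules i).mapIso e))
  have hι : IsIso (DerivedCategory.Q.map (K.ιTruncLE b)) := by
    rw [DerivedCategory.isIso_Q_map_iff_quasiIso]; infer_instance
  -- bounded above flat resolution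
  obtain ⟨P, q, hP, hflat, hq, hbdd⟩ := Groth.Agent.H4.GKS8.exists_bddAbove_resolution_sch
    (K.truncLE b) b (fun i hi => CochainComplex.isZero_of_isStrictlyLE (K.truncLE b) b i hi)
  have hq' : IsIso (DerivedCategory.Q.map q) := by
    rw [DerivedCategory.isIso_Q_map_iff_quasiIso]; exact hq
  let eP : DerivedCategory.Q.obj P ≅ E :=
    @asIso _ _ _ _ (DerivedCategory.Q.map q) hq' ≪≫
      @asIso _ _ _ _ (DerivedCategory.Q.map (K.ιTruncLE b)) hι ≪≫ e
  -- truncate below
  haveI : P.IsGE a := by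
    rw [CochainComplex.isGE_iff]
    intro i hi
    exact exactAt_of_isZero_HD P i ((hHD i (Or.inl hi)).of_iso
      ((DerivedCategory.homologyFunctor X.Modules i).mapIso eP))
  have hπ : IsIso (DerivedCategory.Q.map (P.πTruncGE a)) := by
    rw [DerivedCategory.isIso_Q_map_iff_quasiIso]; infer_instance
  have hTorP : ∀ (G : X.Modules) [DCoh.HasLTensorMod G],
      IsZero (DCoh.HD ((DCoh.LTensorMod G).obj (DCoh.toD X P)) (a - 1)) := fun G _ =>
    (h G (a - 1) (Or.inl (by omega))).of_iso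
      ((DerivedCategory.homologyFunctor X.Modules (a - 1)).mapIso ((DCoh.LTensorMod G).mapIso eP))
  have hW : FlatMod.IsFlat (cokernel (P.d (a - 1) a)) :=
    Groth.Agent.H4.LDS8.isFlat_cokernel_of_isZero_HD P hP (a - 1 - 1) (a - 1) a (by omega) (by omega)
      (hflat a) hL hTorP
  have eW : cokernel (P.d (a - 1) a) ≅ P.opcycles a :=
    IsColimit.coconePointUniqueUpToIso (colimit.isColimit _)
      (P.opcyclesIsCokernel (a - 1) a (by simp))
  refine ⟨P.truncGE a, ?_, ?_, ⟨(@asIso _ _ _ _ (DerivedCategory.Q.map (P.πTruncGE a)) hπ).symm ≪≫ eP⟩⟩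
  · intro i hi
    rcases hi with hi | hi
    · exact CochainComplex.isZero_of_isStrictlyGE (P.truncGE a) a i hi
    · exact (hbdd i hi).of_iso (P.truncGEXIso a i (by omega))
  · intro i
    by_cases h1 : i < a
    · exact Groth.Agent.H4.LDS8.isFlat_of_isZero _
        (CochainComplex.isZero_of_isStrictlyGE (P.truncGE a) a i h1)
    · by_cases h2 : i = a
      · subst h2
        exact Groth.Agent.H4.LDS8.isFlat_of_iso (eW ≪≫ (P.truncGEXIsoOpcycles i).symm) hW
      · exact Groth.Agent.H4.LDS8.isFlat_of_iso (P.truncGEXIso a i (by omega)).symm (hflat i)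

end Groth.Agent.H4.LDS9
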