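import Mathlib
import Groth.Prelude.Def_DerSch
import Groth.Agent.S6947
import Groth.Agent.H4.TorRestr
import Groth.Agent.Lib.Helper2.HomSh5

set_option autoImplicit false
universe u
open CategoryTheory CategoryTheory.Limits AlgebraicGeometry
attribute [local instance] HasDerivedCategory.standard

namespace Groth.Agent.H4.RelTor1

open Groth.Agent.H4.TorAmp Groth.Agent.H4.RestrPC

variable {X Y Z : Scheme.{u}}

/-- the unit complex has stalk complex `B[0]` -/
theorem hasTorAmp_inD_of_hasTorDimLE (g : Y ⟶ Z) (n : ℕ) (hg : DerSch.HasTorDimLE g n) (y : Y) :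
    letI : Algebra (Z.presheaf.stalk (g.base y)) (Y.presheaf.stalk y) := (g.stalkMap y).hom.toAlgebra
    DRing.HasTorAmplitudeIn (Z.presheaf.stalk (g.base y)) (-(n : ℤ)) 0
      (Dual.inD (Z.presheaf.stalk (g.base y)) (Y.presheaf.stalk y)) := by
  letI : Algebra (Z.presheaf.stalk (g.base y)) (Y.presheaf.stalk y) := (g.stalkMap y).hom.toAlgebra
  have h := hg y
  refine hasTorAmp_of_iso ?_ h
  -- `toD (stalkCxOver g y (unitCx Y)) ≅ inD A B`
  let e1 := (HomologicalComplex.singleMapHomologicalComplex (DerSch.stalkOver g y)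
    (ComplexShape.up ℤ) 0).app (Coh.structureModule Y)
  let e2 : (DerSch.stalkOver g y).obj (Coh.structureModule Y) ≅
      ModuleCat.of (Z.presheaf.stalk (g.base y)) (Y.presheaf.stalk y) :=
    (ModuleCat.restrictScalars (g.stalkMap y).hom).mapIso
      (Groth.Agent.H2.HomSh.unitStalkEquiv y).symm.toModuleIso ≪≫ ofIsoRestrict.symm
  exact DerivedCategory.Q.mapIso e1 ≪≫
    (DerivedCategory.singleFunctor (ModuleCat.{u} (Z.presheaf.stalk (g.base y))) 0).mapIso e2


theorem main (f : X ⟶ Y) (g : Y ⟶ Z) (n : ℕ) (hg : DerSch.HasTorDimLE g n)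
    (F : CochainComplex X.Modules ℤ) (a b : ℤ) (hF : DerSch.HasTorAmplitude f a b F) :
    DerSch.HasTorAmplitude (f ≫ g) (a - n) b F := by
  intro x
  letI : Algebra (Z.presheaf.stalk (g.base (f.base x))) (Y.presheaf.stalk (f.base x)) :=
    (g.stalkMap (f.base x)).hom.toAlgebra
  have hB := hasTorAmp_inD_of_hasTorDimLE g n hg (f.base x)
  have hK := hF x
  have h1 := Groth.Agent.S6947.result n hB _ a b hK
  refine hasTorAmp_of_iso ?_ h1
  -- the iso
  let φ : Z.presheaf.stalk (g.base (f.base x)) →+* Y.presheaf.stalk (f.base x) :=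
    (g.stalkMap (f.base x)).hom
  let e1 := ((ModuleCat.restrictScalars.{u} φ).mapDerivedCategoryFactors).app
    ((DerSch.stalkCxOver f x).obj F)
  let ψ : Z.presheaf.stalk (g.base (f.base x)) →+* X.presheaf.stalk x := ((f ≫ g).stalkMap x).hom
  let e2 : (DerSch.stalkFunctor X x ⋙ ModuleCat.restrictScalars.{u} (f.stalkMap x).hom) ⋙
      ModuleCat.restrictScalars.{u} φ ≅ DerSch.stalkFunctor X x ⋙ ModuleCat.restrictScalars.{u} ψ :=
    Functor.associator _ _ _ ≪≫ Functor.isoWhiskerLeft (DerSch.stalkFunctor X x)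
      (ModuleCat.restrictScalarsComp'.{u} φ (f.stalkMap x).hom ψ
        (by simp only [ψ, φ]; rw [Scheme.Hom.stalkMap_comp]; rfl)).symm
  let e3 := (NatIso.mapHomologicalComplex e2 (ComplexShape.up ℤ)).app F
  exact e1 ≪≫ DerivedCategory.Q.mapIso e3

end Groth.Agent.H4.RelTor1
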