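import Mathlib
import Groth.Prelude.Def_DerSch
import Groth.Prelude.Def_DTor2
import Groth.Agent.H4.SPt6
import Groth.Agent.H4.Perf1
import Groth.Agent.H4.LDS9
import Groth.Agent.H4.RelTor1
import Groth.Agent.H4.LDS3
import Groth.Agent.H4.PC2

set_option autoImplicit false
universe u
open CategoryTheory CategoryTheory.Limits AlgebraicGeometry
attribute [local instance] HasDerivedCategory.standard

namespace Groth.Agent.H4.RelTor2

open Groth.Agent.H4.SPt6 Groth.Agent.H4.TorAmp Groth.Agent.H4.Perf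

variable {X : Scheme.{u}}

/-- the stalk functor on derived categories -/
noncomputable abbrev stalkD (x : X) : DCoh.D X ⥤ Dual.D (X.presheaf.stalk x) :=
  (DerSch.stalkFunctor X x).mapDerivedCategory

/-- value of `stalkD` on complexes -/
noncomputable def stalkDIso (x : X) (F : CochainComplex X.Modules ℤ) :
    (stalkD x).obj (DCoh.toD X F) ≅ DRing.toD ((stalkCx x).obj F) :=
  ((DerSch.stalkFunctor X x).mapDerivedCategoryFactors).app F

/-- isomorphic objects of `D(O_X)` have isomorphic complexes of stalks -/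
noncomputable def stalkIsoOfIso (x : X) {E F : CochainComplex X.Modules ℤ}
    (e : DCoh.toD X E ≅ DCoh.toD X F) :
    DRing.toD ((stalkCx x).obj E) ≅ DRing.toD ((stalkCx x).obj F) :=
  (stalkDIso x E).symm ≪≫ (stalkD x).mapIso e ≪≫ stalkDIso x F

/-- the stalk functor, with target the modules over the stalk at `(𝟙 X).base x` (the same ring) -/
noncomputable abbrev stalkFunctor' (x : X) :
    X.Modules ⥤ ModuleCat.{u} (X.presheaf.stalk ((𝟙 X : X ⟶ X).base x)) :=
  DerSch.stalkFunctor X x

instance (x : X) : (stalkFunctor' x).Additive := DerSch.additive_stalkFunctor x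

/-- the stalk over the identity is the stalk -/
noncomputable def stalkOverIdIso (x : X) : DerSch.stalkOver (𝟙 X) x ≅ stalkFunctor' x :=
  Functor.isoWhiskerLeft _ (ModuleCat.restrictScalarsId'.{u} ((𝟙 X : X ⟶ X).stalkMap x).hom (by
    rw [Scheme.Hom.stalkMap_id]; rfl)) ≪≫ Functor.rightUnitor _

noncomputable def stalkCxOverIdIso (x : X) (F : CochainComplex X.Modules ℤ) :
    (DerSch.stalkCxOver (𝟙 X) x).obj F ≅
      ((stalkFunctor' x).mapHomologicalComplex (ComplexShape.up ℤ)).obj F :=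
  (NatIso.mapHomologicalComplex (stalkOverIdIso x) (ComplexShape.up ℤ)).app F

lemma hasTorAmplitudeAt_id_iff (x : X) (a b : ℤ) (F : CochainComplex X.Modules ℤ) :
    DerSch.HasTorAmplitudeAt (𝟙 X) a b F x ↔
      DRing.HasTorAmplitudeIn (X.presheaf.stalk x) a b (DRing.toD ((stalkCx x).obj F)) := by
  change DRing.HasTorAmplitudeIn (X.presheaf.stalk ((𝟙 X : X ⟶ X).base x)) a b
      (DRing.toD ((DerSch.stalkCxOver (𝟙 X) x).obj F)) ↔
    DRing.HasTorAmplitudeIn (X.presheaf.stalk ((𝟙 X : X ⟶ X).base x)) a b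
      (DRing.toD (((stalkFunctor' x).mapHomologicalComplex (ComplexShape.up ℤ)).obj F))
  exact ⟨fun h => hasTorAmp_of_iso (DerivedCategory.Q.mapIso (stalkCxOverIdIso x F)) h,
   fun h => hasTorAmp_of_iso (DerivedCategory.Q.mapIso (stalkCxOverIdIso x F)).symm h⟩

/-- (⇒) -/
theorem hasTorAmplitude_of_hasFlatAmplitudeIn (F : CochainComplex X.Modules ℤ) (a b : ℤ)
    (h : DCoh.HasFlatAmplitudeIn a b (DCoh.toD X F)) : DerSch.HasTorAmplitude (𝟙 X) a b F := by
  obtain ⟨E, hv, hfl, ⟨e⟩⟩ := h
  intro x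
  rw [hasTorAmplitudeAt_id_iff]
  exact ⟨(stalkCx x).obj E, fun i hi => (DerSch.stalkFunctor X x).map_isZero (hv i hi),
    fun i => hfl i x, ⟨stalkIsoOfIso x e⟩⟩

lemma exactAt_of_stalk_torAmp (F : CochainComplex X.Modules ℤ) (a b : ℤ)
    (h : ∀ x : X, DRing.HasTorAmplitudeIn (X.presheaf.stalk x) a b
      (DRing.toD ((stalkCx x).obj F)))
    (i : ℤ) (hi : i < a ∨ b < i) : F.ExactAt i := by
  rw [exactAt_iff_stalk]
  intro x
  rw [HomologicalComplex.exactAt_iff_isZero_homology]
  exact (isZero_homology_of_hasTorAmp (h x) i hi).of_iso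
    (Groth.Agent.H4.PC.homologyToDIso _ i).symm

lemma isFlat_cokernel_of_stalk (P : CochainComplex X.Modules ℤ) (a b c : ℤ)
    (hb : ∀ i, b < i → IsZero (P.X i)) (hflat : ∀ n, FlatMod.IsFlat (P.X n))
    (h : ∀ x : X, DRing.HasTorAmplitudeIn (X.presheaf.stalk x) a c
      (DRing.toD ((stalkCx x).obj P))) :
    FlatMod.IsFlat (cokernel (P.d (a - 1) a)) := by
  intro x
  haveI := flat_coker_of_hasTorAmp ((stalkCx x).obj P) b
    (fun i hi => (DerSch.stalkFunctor X x).map_isZero (hb i hi)) (fun i => hflat i x) a c (h x)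
  let e : (DerSch.stalkFunctor X x).obj (cokernel (P.d (a - 1) a)) ≅
      ModuleCat.of _ ((((stalkCx x).obj P).X a) ⧸
        LinearMap.range (((stalkCx x).obj P).d (a - 1) a).hom) :=
    PreservesCokernel.iso (DerSch.stalkFunctor X x) (P.d (a - 1) a) ≪≫
      ModuleCat.cokernelIsoRangeQuotient _
  exact Module.Flat.of_linearEquiv e.toLinearEquiv

open ZeroObject in
/-- (⇐) -/
theorem hasFlatAmplitudeIn_of_hasTorAmplitude (F : CochainComplex X.Modules ℤ) (a b : ℤ)
    (h : DerSch.HasTorAmplitude (𝟙 X) a b F) : DCoh.HasFlatAmplitudeIn a b (DCoh.toD X F) := by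
  have h' : ∀ x : X, DRing.HasTorAmplitudeIn (X.presheaf.stalk x) a b
      (DRing.toD ((stalkCx x).obj F)) := fun x => (hasTorAmplitudeAt_id_iff x a b F).1 (h x)
  have hex := exactAt_of_stalk_torAmp F a b h'
  by_cases hab : a ≤ b
  · haveI : F.IsLE b := by
      rw [CochainComplex.isLE_iff]
      intro i hi
      exact hex i (Or.inr hi)
    have hι : IsIso (DerivedCategory.Q.map (F.ιTruncLE b)) := by
      rw [DerivedCategory.isIso_Q_map_iff_quasiIso]; infer_instance
    obtain ⟨P, q, hP, hflat, hq, hbdd⟩ := Groth.Agent.H4.GKS8.exists_bddAbove_resolution_sch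
      (F.truncLE b) b (fun i hi => CochainComplex.isZero_of_isStrictlyLE (F.truncLE b) b i hi)
    have hq' : IsIso (DerivedCategory.Q.map q) := by
      rw [DerivedCategory.isIso_Q_map_iff_quasiIso]; exact hq
    let eP : DCoh.toD X P ≅ DCoh.toD X F :=
      @asIso _ _ _ _ (DerivedCategory.Q.map q) hq' ≪≫
        @asIso _ _ _ _ (DerivedCategory.Q.map (F.ιTruncLE b)) hι
    have hP' : ∀ x : X, DRing.HasTorAmplitudeIn (X.presheaf.stalk x) a b
        (DRing.toD ((stalkCx x).obj P)) := fun x =>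
      hasTorAmp_of_iso (stalkIsoOfIso x eP).symm (h' x)
    have hexP := exactAt_of_stalk_torAmp P a b hP'
    haveI : P.IsGE a := by
      rw [CochainComplex.isGE_iff]
      intro i hi
      exact hexP i (Or.inl hi)
    have hπ : IsIso (DerivedCategory.Q.map (P.πTruncGE a)) := by
      rw [DerivedCategory.isIso_Q_map_iff_quasiIso]; infer_instance
    have hW : FlatMod.IsFlat (cokernel (P.d (a - 1) a)) :=
      isFlat_cokernel_of_stalk P a b b hbdd hflat hP'
    have eW : cokernel (P.d (a - 1) a) ≅ P.opcycles a :=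
      IsColimit.coconePointUniqueUpToIso (colimit.isColimit _)
        (P.opcyclesIsCokernel (a - 1) a (by simp))
    refine ⟨P.truncGE a, ?_, ?_,
      ⟨(@asIso _ _ _ _ (DerivedCategory.Q.map (P.πTruncGE a)) hπ).symm ≪≫ eP⟩⟩
    · intro i hi
      rcases hi with hi | hi
      · exact CochainComplex.isZero_of_isStrictlyGE (P.truncGE a) a i hi
      · exact (hbdd i hi).of_iso (P.truncGEXIso a i (by omega))
    · intro i
      by_cases h1 : i < a
      · exact Groth.Agent.H4.LDS8.isFlat_of_isZero _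
          (CochainComplex.isZero_of_isStrictlyGE (P.truncGE a) a i h1)
      · by_cases h2 : i = a
        · subst h2
          exact Groth.Agent.H4.LDS8.isFlat_of_iso (eW ≪≫ (P.truncGEXIsoOpcycles i).symm) hW
        · exact Groth.Agent.H4.LDS8.isFlat_of_iso (P.truncGEXIso a i (by omega)).symm (hflat i)
  · have hac : F.Acyclic := fun i => hex i (by omega)
    have hz : IsZero (DCoh.toD X F) := Groth.Agent.H4.LDS3.isZero_Q_obj_of_acyclic F hac
    have hz0 : IsZero (DCoh.toD X (0 : CochainComplex X.Modules ℤ)) :=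
      DerivedCategory.Q.map_isZero (isZero_zero _)
    refine ⟨0, fun i _ => ?_, fun i => Groth.Agent.H4.LDS8.isFlat_of_isZero _ ?_,
      ⟨hz0.iso hz⟩⟩
    · exact (HomologicalComplex.eval _ _ i).map_isZero (isZero_zero _)
    · exact (HomologicalComplex.eval _ _ i).map_isZero (isZero_zero _)

theorem S6200 (F : CochainComplex X.Modules ℤ) (a b : ℤ) :
    DCoh.HasFlatAmplitudeIn a b (DCoh.toD X F) ↔ DerSch.HasTorAmplitude (𝟙 X) a b F :=
  ⟨hasTorAmplitude_of_hasFlatAmplitudeIn F a b, hasFlatAmplitudeIn_of_hasTorAmplitude F a b⟩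

end Groth.Agent.H4.RelTor2
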