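import Mathlib
import Groth.Prelude.Def_DerSch
import Groth.Prelude.Def_DTor2
import Groth.Prelude.Def_DCoh4
import Groth.Agent.H4.RelTor2
import Groth.Agent.H4.TA2
import Groth.Agent.H4.LDS16

set_option autoImplicit false
universe u
open CategoryTheory CategoryTheory.Limits AlgebraicGeometry
attribute [local instance] HasDerivedCategory.standard

namespace Groth.Agent.H4.RelTor3

open Groth.Agent.H4.SPt6 Groth.Agent.H4.TorAmp Groth.Agent.H4.Perf Groth.Agent.H4.LK6
  Groth.Agent.H4.LDS14 Groth.Agent.H4.LDS15 Groth.Agent.H4.LDS16 Groth.Agent.H4.RelTor2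

section Ring

variable {A B : Type u} [CommRing A] [CommRing B] (φ : A →+* B)

/-- restriction of scalars along the identity -/
noncomputable def resCxIdIso (X : DRing.Cx A) : (DTen.resCx (RingHom.id A)).obj X ≅ X :=
  (NatIso.mapHomologicalComplex (ModuleCat.restrictScalarsId.{u} A) (ComplexShape.up ℤ)).app X ≪≫
    (Functor.mapHomologicalComplexIdIso (ModuleCat.{u} A) (ComplexShape.up ℤ)).app X

lemma flat_restrictScalars (hφ : Module.Flat A (Ares φ)) (M : ModuleCat.{u} B)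
    (hM : Module.Flat B M) : Module.Flat A ((ModuleCat.restrictScalars.{u} φ).obj M) := by
  letI := φ.toAlgebra
  letI : Module A M := Module.compHom M φ
  haveI : IsScalarTower A B M := IsScalarTower.of_algebraMap_smul (fun r x => rfl)
  haveI : Module.Flat A B := hφ
  exact Module.Flat.trans A B M

theorem hasTorAmp_res_iff_of_faithfullyFlat' {R : Type u} [CommRing R] (ρ : R →+* A)
    (χ : R →+* B) (hχ : χ = φ.comp ρ)
    (hφ : Module.FaithfullyFlat A (Ares φ)) (X : DRing.Cx A) (a b : ℤ) :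
    DRing.HasTorAmplitudeIn R a b (DRing.toD ((DTen.resCx ρ).obj X)) ↔
      DRing.HasTorAmplitudeIn R a b (DRing.toD ((DTen.resCx χ).obj ((DTen.extCx φ).obj X))) := by
  subst hχ
  exact Groth.Agent.H4.TA2.hasTorAmp_res_iff_of_faithfullyFlat ρ φ hφ X a b

/-- faithfully flat descent of tor amplitude -/
theorem hasTorAmp_of_ext_faithfullyFlat (hφ : Module.FaithfullyFlat A (Ares φ)) (X : DRing.Cx A)
    (a b : ℤ) (h : DRing.HasTorAmplitudeIn B a b (DRing.toD ((DTen.extCx φ).obj X))) :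
    DRing.HasTorAmplitudeIn A a b (DRing.toD X) := by
  obtain ⟨E, hv, hfl, ⟨e⟩⟩ := h
  have h1 : DRing.HasTorAmplitudeIn A a b
      (DRing.toD ((DTen.resCx φ).obj ((DTen.extCx φ).obj X))) :=
    ⟨(DTen.resCx φ).obj E, fun i hi => (ModuleCat.restrictScalars.{u} φ).map_isZero (hv i hi),
      fun i => flat_restrictScalars φ hφ.toFlat _ (hfl i),
      ⟨((DTen.resFactors φ).app E).symm ≪≫ (DRing.restrictD φ).mapIso e ≪≫
        (DTen.resFactors φ).app _⟩⟩
  have h2 := (hasTorAmp_res_iff_of_faithfullyFlat' φ (RingHom.id A) φ (RingHom.comp_id φ).symm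
    hφ X a b).2 h1
  exact hasTorAmp_of_iso (DerivedCategory.Q.mapIso (resCxIdIso X)) h2

end Ring

variable {X Y : Scheme.{u}}

lemma faithfullyFlat_stalkMap (f : X ⟶ Y) [Flat f] (x : X) :
    Module.FaithfullyFlat (Y.presheaf.stalk (f.base x)) (Ares (f.stalkMap x).hom) := by
  letI := (f.stalkMap x).hom.toAlgebra
  haveI : Module.Flat (Y.presheaf.stalk (f.base x)) (X.presheaf.stalk x) := Flat.stalkMap f x
  haveI : IsLocalHom (algebraMap (Y.presheaf.stalk (f.base x)) (X.presheaf.stalk x)) :=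
    inferInstanceAs (IsLocalHom (f.stalkMap x).hom)
  haveI : Module.FaithfullyFlat (Y.presheaf.stalk (f.base x)) (X.presheaf.stalk x) :=
    Module.FaithfullyFlat.of_flat_of_isLocalHom
  exact Module.FaithfullyFlat.of_linearEquiv _ _ (Groth.Agent.H4.TA2.aresEquiv _ _).symm

theorem S7244 (f : X ⟶ Y) [Flat f] [Surjective f]
    [DCoh.HasLpull f] (E : DCoh.D Y) (a b : ℤ)
    (h : DCoh.HasFlatAmplitudeIn a b ((DCoh.Lpull f).obj E)) :
    DCoh.HasFlatAmplitudeIn a b E := by
  obtain ⟨P, c, hc, hP, -⟩ := exists_skf_resolution (DerivedCategory.Q.objPreimage E)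
  have hc' : IsIso (DerivedCategory.Q.map c) := by
    rw [DerivedCategory.isIso_Q_map_iff_quasiIso]; exact hc
  let eP : DCoh.toD Y P ≅ E :=
    @asIso _ _ _ _ (DerivedCategory.Q.map c) hc' ≪≫ DerivedCategory.Q.objObjPreimageIso E
  have h1 : DCoh.HasFlatAmplitudeIn a b (DCoh.toD X ((pullCx f).obj P)) := by
    obtain ⟨F, hv, hfl, ⟨e⟩⟩ := h
    exact ⟨F, hv, hfl, ⟨e ≪≫ (DCoh.Lpull f).mapIso eP.symm ≪≫ lpullObjIso f P hP⟩⟩
  have h2 := hasTorAmplitude_of_hasFlatAmplitudeIn _ a b h1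
  have h3 : DCoh.HasFlatAmplitudeIn a b (DCoh.toD Y P) := by
    apply hasFlatAmplitudeIn_of_hasTorAmplitude
    intro y
    obtain ⟨x, rfl⟩ := f.surjective y
    rw [hasTorAmplitudeAt_id_iff]
    have h4 := (hasTorAmplitudeAt_id_iff x a b _).1 (h2 x)
    have h5 := hasTorAmp_of_iso (DerivedCategory.Q.mapIso (stalkPullCxIso f x P)) h4
    exact hasTorAmp_of_ext_faithfullyFlat (f.stalkMap x).hom (faithfullyFlat_stalkMap f x) _ a b h5
  obtain ⟨F, hv, hfl, ⟨e⟩⟩ := h3
  exact ⟨F, hv, hfl, ⟨e ≪≫ eP⟩⟩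

end Groth.Agent.H4.RelTor3
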