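import Mathlib
import Groth.Prelude.Def_DRing2
import Groth.Prelude.Def_DRing4
import Groth.Prelude.Def_DDual2
import Groth.Prelude.Def_DTen6
import Groth.Agent.H4.TA2

/-!
# Tor amplitude is local on the source (S12092)
-/

open CategoryTheory Category Limits MonoidalCategory

universe u

namespace Groth.Agent.H4.TA3

open Groth.Agent.H4.TC4 Groth.Agent.H4.TC5 Groth.Agent.H4.TC6 Groth.Agent.H4.TC11
open Groth.Agent.H4.LK2 Groth.Agent.H4.LK4 Groth.Agent.H4.LK6 Groth.Agent.H4.LK7
open Groth.Agent.H4.TP1 Groth.Agent.H4.TA1 Groth.Agent.H4.TA2 Groth.Agent.H4.TorAmp DRing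

attribute [local instance] HasDerivedCategory.standard

section Loc

variable (B : Type u) [CommRing B] (S : Submonoid B) (B' : Type u) [CommRing B'] [Algebra B B']

/-- `B'` as a `B`-module (through restriction of scalars). -/
noncomputable abbrev Ar : ModuleCat.{u} B := Ares (algebraMap B B')

/-- `x ↦ 1 ⊗ x` -/
noncomputable def ιL (M : ModuleCat.{u} B) : M →ₗ[B] TensorProduct B (Ar B B') M :=
  TensorProduct.mk B (Ar B B') M (1 : B')

lemma ιL_apply (M : ModuleCat.{u} B) (x : M) :
    ιL B B' M x = (show Ar B B' from (1 : B')) ⊗ₜ[B] x := rfl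

instance isLocalizedModule_ιL [IsLocalization S B'] (M : ModuleCat.{u} B) :
    IsLocalizedModule S (ιL B B' M) := by
  have := IsLocalizedModule.of_linearEquiv S (TensorProduct.mk B B' M 1)
    (TensorProduct.congr (aresEquiv B B') (LinearEquiv.refl B M))
  convert this using 1
  ext x
  rfl

lemma map_ιL_eq [IsLocalization S B'] {M N : ModuleCat.{u} B} (F : M →ₗ[B] N) :
    IsLocalizedModule.map S (ιL B B' M) (ιL B B' N) F = F.lTensor (Ar B B') := by
  apply IsLocalizedModule.linearMap_ext S (ιL B B' M) (ιL B B' N)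
  ext x
  rw [LinearMap.comp_apply, LinearMap.comp_apply, IsLocalizedModule.map_apply]
  rfl

end Loc

section LocalGlobal

variable {B : Type u} [CommRing B]

/-- exactness of a complex can be checked after localizing at all maximal ideals. -/
theorem exactAt_of_forall_maximal (W : Cx B) (n : ℤ)
    (h : ∀ (m : Ideal B) [m.IsMaximal],
      ((DTen.extCx (algebraMap B (Localization.AtPrime m))).obj W).ExactAt n) : W.ExactAt n := by
  rw [HomologicalComplex.exactAt_iff' W (n - 1) n (n + 1) (by simp) (by simp),
    ShortComplex.ShortExact.moduleCat_exact_iff_function_exact]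
  refine exact_of_isLocalized_maximal
    (fun (J : Ideal B) [J.IsMaximal] => TensorProduct B (Ar B (Localization.AtPrime J)) (W.X (n - 1)))
    (fun (J : Ideal B) [J.IsMaximal] => ιL B (Localization.AtPrime J) (W.X (n - 1)))
    (fun (J : Ideal B) [J.IsMaximal] => TensorProduct B (Ar B (Localization.AtPrime J)) (W.X n))
    (fun (J : Ideal B) [J.IsMaximal] => ιL B (Localization.AtPrime J) (W.X n))
    (fun (J : Ideal B) [J.IsMaximal] => TensorProduct B (Ar B (Localization.AtPrime J)) (W.X (n + 1)))
    (fun (J : Ideal B) [J.IsMaximal] => ιL B (Localization.AtPrime J) (W.X (n + 1)))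
    (W.d (n - 1) n).hom (W.d n (n + 1)).hom ?_
  intro J hJ
  rw [map_ιL_eq B J.primeCompl (Localization.AtPrime J),
    map_ιL_eq B J.primeCompl (Localization.AtPrime J)]
  have hJ' := h J
  rw [HomologicalComplex.exactAt_iff' _ (n - 1) n (n + 1) (by simp) (by simp),
    ShortComplex.ShortExact.moduleCat_exact_iff_function_exact] at hJ'
  exact hJ'

variable {A : Type u} [CommRing A] (φ : A →+* B)

/-- flat extension of scalars preserves exactness. -/
lemma exactAt_ext_of_flat (hφ : Module.Flat A (Ares φ)) (W : Cx A) (n : ℤ) (hW : W.ExactAt n) :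
    ((DTen.extCx φ).obj W).ExactAt n := by
  rw [HomologicalComplex.exactAt_iff' _ (n - 1) n (n + 1) (by simp) (by simp),
    ShortComplex.ShortExact.moduleCat_exact_iff_function_exact] at hW ⊢
  exact @Module.Flat.lTensor_exact A (Ares φ) _ _ _ hφ _ _ _ _ _ _ _ _ _ _ _ hW

end LocalGlobal

section Main

variable (A B : Type u) [CommRing A] [CommRing B] [Algebra A B]

/-- extension of scalars along equal ring maps. -/
noncomputable def extCxEqIso {A B : Type u} [CommRing A] [CommRing B] {χ χ' : A →+* B} (h : χ = χ')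
    (N : Cx A) : (DTen.extCx χ).obj N ≅ (DTen.extCx χ').obj N :=
  eqToIso (by rw [h])

lemma flat_ares_of_isLocalization (S : Submonoid A) (A' : Type u) [CommRing A'] [Algebra A A']
    [IsLocalization S A'] : Module.Flat A (Ares (algebraMap A A')) := by
  haveI : Module.Flat A A' := IsLocalization.flat A' S
  exact Module.Flat.of_linearEquiv (aresEquiv A A').symm

/-- S12092 -/
theorem hasTorAmp_restrict_of_forall_maximal (K : DRing.Cx B) (a b : ℤ)
    (h3 : ∀ (m : Ideal B) [m.IsMaximal],
      DRing.HasTorAmplitudeIn (Localization.AtPrime (m.comap (algebraMap A B))) a b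
        (DRing.toD ((DRing.restrictCx (Localization.localRingHom (m.comap (algebraMap A B)) m
          (algebraMap A B) rfl)).obj
          (((ModuleCat.extendScalars (algebraMap B (Localization.AtPrime m))).mapHomologicalComplex
            (ComplexShape.up ℤ)).obj K)))) :
    DRing.HasTorAmplitudeIn A a b (DRing.toD ((DRing.restrictCx (algebraMap A B)).obj K)) := by
  refine hasTorAmp_of_exactAt_tensor _ _ _ (fun M => ?_)
  obtain ⟨N, π, -, hNf, hπ, hN0⟩ := exists_kflat_resolution_sg M
  refine ⟨N, π, hNf, hπ, fun n hn => ?_⟩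
  change ((DTen.resCx (algebraMap A B)).obj K ⊗ N).ExactAt n
  rw [exactAt_iff_of_iso (asIso (pfCx (algebraMap A B) K N)) n, exactAt_res_iff]
  apply exactAt_of_forall_maximal
  intro m hm
  let p : Ideal A := m.comap (algebraMap A B)
  let β : B →+* Localization.AtPrime m := algebraMap B (Localization.AtPrime m)
  let π' : A →+* Localization.AtPrime p := algebraMap A (Localization.AtPrime p)
  let lam : Localization.AtPrime p →+* Localization.AtPrime m :=
    Localization.localRingHom p m (algebraMap A B) rfl
  have hcomp : β.comp (algebraMap A B) = lam.comp π' := by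
    refine RingHom.ext (fun x => ?_)
    exact (Localization.localRingHom_to_map p m (algebraMap A B) rfl x).symm
  let N' : Cx (Localization.AtPrime p) := (DTen.extCx π').obj N
  have hN'f : KFlat N' := kflat_extCx π' N hNf
  have hfl : Module.Flat A (Ares π') := flat_ares_of_isLocalization A p.primeCompl _
  have hN'0 : ∀ i, i ≠ 0 → N'.ExactAt i := fun i hi => exactAt_ext_of_flat π' hfl N i (hN0 i hi)
  have h1 := exactAt_tensor_of_hasTorAmp _ a b (h3 m) N' hN'f hN'0 n hn
  change ((DTen.resCx lam).obj ((DTen.extCx β).obj K) ⊗ N').ExactAt n at h1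
  rw [exactAt_iff_of_iso (asIso (pfCx lam ((DTen.extCx β).obj K) N')) n, exactAt_res_iff] at h1
  have e1 := DTen.extTenCxIso β K ((DTen.extCx (algebraMap A B)).obj N)
  have e2 : (DTen.extCx β).obj ((DTen.extCx (algebraMap A B)).obj N) ≅ (DTen.extCx lam).obj N' :=
    (DTen.extCompCx (algebraMap A B) β).app N ≪≫ extCxEqIso hcomp N ≪≫
      ((DTen.extCompCx π' lam).app N).symm
  exact (exactAt_iff_of_iso (e1 ≪≫ whiskerLeftIso _ e2) n).2 h1

end Main

end Groth.Agent.H4.TA3
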