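import Mathlib
import Groth.Prelude.Def_DerSch
import Groth.Prelude.Def_DTor2
import Groth.Prelude.Def_DCoh4
import Groth.Agent.H4.RelTor3
import Groth.Agent.H4.TA3
import Groth.Agent.H4.LDS21
import Groth.Agent.H4.LDS22

set_option autoImplicit false
universe u
open CategoryTheory CategoryTheory.Limits AlgebraicGeometry MonoidalCategory
attribute [local instance] HasDerivedCategory.standard

namespace Groth.Agent.H4.RelTor4

open Groth.Agent.H4.TC4 Groth.Agent.H4.TC5 Groth.Agent.H4.TC6 Groth.Agent.H4.TC11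
open Groth.Agent.H4.LK2 Groth.Agent.H4.LK4 Groth.Agent.H4.LK6 Groth.Agent.H4.LK7
open Groth.Agent.H4.TP1 Groth.Agent.H4.TA1 Groth.Agent.H4.TA2 Groth.Agent.H4.TA3
  Groth.Agent.H4.TorAmp DRing

section Fam

variable {A : Type u} [CommRing A]
variable (B' : PrimeSpectrum A → Type u) [∀ p, CommRing (B' p)] [∀ p, Algebra A (B' p)]
  [∀ p : PrimeSpectrum A, IsLocalization.AtPrime (B' p) p.asIdeal]

/-- exactness of a complex can be checked after base change to a family of local rings. -/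
theorem exactAt_of_forall_prime (W : Cx A) (n : ℤ)
    (h : ∀ p : PrimeSpectrum A, ((DTen.extCx (algebraMap A (B' p))).obj W).ExactAt n) :
    W.ExactAt n := by
  rw [HomologicalComplex.exactAt_iff' W (n - 1) n (n + 1) (by simp) (by simp),
    ShortComplex.ShortExact.moduleCat_exact_iff_function_exact]
  haveI hloc : ∀ (P : Ideal A) [hP : P.IsMaximal],
      IsLocalization P.primeCompl (B' ⟨P, hP.isPrime⟩) := fun P hP =>
    inferInstanceAs (IsLocalization.AtPrime (B' ⟨P, hP.isPrime⟩)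
      (⟨P, hP.isPrime⟩ : PrimeSpectrum A).asIdeal)
  haveI inst : ∀ (M : ModuleCat.{u} A) (P : Ideal A) [hP : P.IsMaximal],
      IsLocalizedModule P.primeCompl (ιL A (B' ⟨P, hP.isPrime⟩) M) := fun M P hP =>
    isLocalizedModule_ιL A P.primeCompl (B' ⟨P, hP.isPrime⟩) M
  refine @exact_of_isLocalized_maximal A _ _ _ _ _ _ _ _ _ _
    (fun (J : Ideal A) [hJ : J.IsMaximal] =>
      TensorProduct A (Ar A (B' ⟨J, hJ.isPrime⟩)) (W.X (n - 1))) _ _
    (fun (J : Ideal A) [hJ : J.IsMaximal] => ιL A (B' ⟨J, hJ.isPrime⟩) (W.X (n - 1)))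
    (fun P hP => inst _ P)
    (fun (J : Ideal A) [hJ : J.IsMaximal] =>
      TensorProduct A (Ar A (B' ⟨J, hJ.isPrime⟩)) (W.X n)) _ _
    (fun (J : Ideal A) [hJ : J.IsMaximal] => ιL A (B' ⟨J, hJ.isPrime⟩) (W.X n))
    (fun P hP => inst _ P)
    (fun (J : Ideal A) [hJ : J.IsMaximal] =>
      TensorProduct A (Ar A (B' ⟨J, hJ.isPrime⟩)) (W.X (n + 1))) _ _
    (fun (J : Ideal A) [hJ : J.IsMaximal] => ιL A (B' ⟨J, hJ.isPrime⟩) (W.X (n + 1)))
    (fun P hP => inst _ P)
    (W.d (n - 1) n).hom (W.d n (n + 1)).hom ?_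
  intro J hJ
  rw [map_ιL_eq A J.primeCompl (B' ⟨J, hJ.isPrime⟩),
    map_ιL_eq A J.primeCompl (B' ⟨J, hJ.isPrime⟩)]
  have hJ' := h ⟨J, hJ.isPrime⟩
  rw [HomologicalComplex.exactAt_iff' _ (n - 1) n (n + 1) (by simp) (by simp),
    ShortComplex.ShortExact.moduleCat_exact_iff_function_exact] at hJ'
  exact hJ'

/-- tor amplitude can be checked after base change to a family of local rings -/
theorem hasTorAmp_of_forall_prime (K : Cx A) (a b : ℤ)
    (h : ∀ p : PrimeSpectrum A, HasTorAmplitudeIn (B' p) a b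
      (toD ((DTen.extCx (algebraMap A (B' p))).obj K))) :
    HasTorAmplitudeIn A a b (toD K) := by
  refine hasTorAmp_of_exactAt_tensor _ _ _ (fun M => ?_)
  obtain ⟨N, π, -, hNf, hπ, hN0⟩ := exists_kflat_resolution_sg M
  refine ⟨N, π, hNf, hπ, fun n hn => ?_⟩
  apply exactAt_of_forall_prime B'
  intro p
  let β : A →+* B' p := algebraMap A (B' p)
  let N' : Cx (B' p) := (DTen.extCx β).obj N
  have hN'f : KFlat N' := kflat_extCx β N hNf
  have hfl : Module.Flat A (Ares β) := flat_ares_of_isLocalization A p.asIdeal.primeCompl _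
  have hN'0 : ∀ i, i ≠ 0 → N'.ExactAt i := fun i hi => exactAt_ext_of_flat β hfl N i (hN0 i hi)
  have h1 := exactAt_tensor_of_hasTorAmp _ a b (h p) N' hN'f hN'0 n hn
  exact (exactAt_iff_of_iso (DTen.extTenCxIso β K N) n).2 h1

end Fam

section Sch

open Groth.Agent.H4.LDS21 Groth.Agent.H4.SPt6 Groth.Agent.H4.RelTor2

variable (R : CommRingCat.{u})

set_option backward.isDefEq.respectTransparency false in
lemma isLocalization_ψ (x : (Spec (CommRingCat.of R))) :
    @IsLocalization.AtPrime R _ ((Spec (CommRingCat.of R)).presheaf.stalk x) _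
      (ψ R x).toAlgebra x.asIdeal _ :=
  StructureSheaf.IsLocalization.to_stalk (R := R) x

variable (A : Type u) [CommRing A]

/-- the complex `K~` -/
noncomputable abbrev tildeCx : Cx A ⥤ CochainComplex (Spec (CommRingCat.of A)).Modules ℤ :=
  (tilde.functor (CommRingCat.of A)).mapHomologicalComplex (ComplexShape.up ℤ)

lemma isFlat_tilde (N : ModuleCat.{u} A) (hN : Module.Flat A N) :
    FlatMod.IsFlat ((tilde.functor (CommRingCat.of A)).obj N) := by
  intro x
  have h1 := Groth.Agent.H4.LDS15.flat_extendScalars (ψ (CommRingCat.of A) x) N hN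
  exact (Module.Flat.equiv_iff ((tildeStalkIso (CommRingCat.of A) x).app N).toLinearEquiv).2 h1

/-- local-to-global for `K~` -/
theorem hasTorAmp_of_stalks (K : Cx A) (a b : ℤ)
    (h : ∀ x : Spec (CommRingCat.of A),
      HasTorAmplitudeIn ((Spec (CommRingCat.of A)).presheaf.stalk x) a b
        (toD ((DTen.extCx (ψ (CommRingCat.of A) x)).obj K))) :
    HasTorAmplitudeIn A a b (toD K) := by
  letI : ∀ p : PrimeSpectrum A, Algebra A ((Spec (CommRingCat.of A)).presheaf.stalk p) :=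
    fun p => (ψ (CommRingCat.of A) p).toAlgebra
  haveI : ∀ p : PrimeSpectrum A, IsLocalization.AtPrime
      ((Spec (CommRingCat.of A)).presheaf.stalk p) p.asIdeal :=
    fun p => isLocalization_ψ (CommRingCat.of A) p
  exact hasTorAmp_of_forall_prime
    (fun p : PrimeSpectrum A => (Spec (CommRingCat.of A)).presheaf.stalk p) K a b h

variable [PreservesFiniteLimits (tilde.functor (CommRingCat.of A))]

/-- `tildeD` on complexes -/
noncomputable def tildeDIso (K : Cx A) :
    (DCoh.tildeD (CommRingCat.of A)).obj (toD K) ≅ DCoh.toD _ ((tildeCx A).obj K) :=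
  ((tilde.functor (CommRingCat.of A)).mapDerivedCategoryFactors).app K

theorem S7243 (M : Dual.D A) (a b : ℤ) :
    DCoh.HasFlatAmplitudeIn a b ((DCoh.tildeD (CommRingCat.of A)).obj M) ↔
      DRing.HasTorAmplitudeIn A a b M := by
  constructor
  · intro h
    let K : Cx A := DerivedCategory.Q.objPreimage M
    let eK : toD K ≅ M := DerivedCategory.Q.objObjPreimageIso M
    have h1 : DCoh.HasFlatAmplitudeIn a b (DCoh.toD _ ((tildeCx A).obj K)) := by
      obtain ⟨F, hv, hfl, ⟨e⟩⟩ := h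
      exact ⟨F, hv, hfl, ⟨e ≪≫ (DCoh.tildeD (CommRingCat.of A)).mapIso eK.symm ≪≫ tildeDIso A K⟩⟩
    have h2 := hasTorAmplitude_of_hasFlatAmplitudeIn _ a b h1
    refine hasTorAmp_of_iso eK (hasTorAmp_of_stalks A K a b (fun x => ?_))
    have h3 := (hasTorAmplitudeAt_id_iff x a b _).1 (h2 x)
    exact hasTorAmp_of_iso (DerivedCategory.Q.mapIso (tildeStalkCxIso (CommRingCat.of A) x K)) h3
  · rintro ⟨E, hv, hfl, ⟨e⟩⟩
    refine ⟨(tildeCx A).obj E, fun i hi => ?_, fun i => isFlat_tilde A _ (hfl i),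
      ⟨(tildeDIso A E).symm ≪≫ (DCoh.tildeD (CommRingCat.of A)).mapIso e⟩⟩
    exact (tilde.functor (CommRingCat.of A)).map_isZero (hv i hi)

end Sch

end Groth.Agent.H4.RelTor4
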