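import Mathlib
import Groth.Prelude.Def_DRing2
import Groth.Prelude.Def_DRing4
import Groth.Prelude.Def_DDual2
import Groth.Prelude.Def_DualSh
import Groth.Agent.H4.TA2
import Groth.Agent.H4.Perf1

/-!
# Relative perfectness is preserved by tensoring with a perfect complex (S7102)
-/

open CategoryTheory Category Limits MonoidalCategory

universe u

namespace Groth.Agent.H4.TA4

open Groth.Agent.H4.TC4 Groth.Agent.H4.TC5 Groth.Agent.H4.TC6
open Groth.Agent.H4.LK2 Groth.Agent.H4.LK4 Groth.Agent.H4.LK6 Groth.Agent.H4.LK7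
open Groth.Agent.H4.TP1 Groth.Agent.H4.TA1 Groth.Agent.H4.TA2 Groth.Agent.H4.TorAmp DRing

attribute [local instance] HasDerivedCategory.standard

variable (R A : Type u) [CommRing R] [CommRing A] [Algebra R A]

/-- S7102 -/
theorem isRelPerfect_LTensorCx (E : DRing.Cx A) (a b : ℤ)
    (hEb : DRing.VanishesOutside E a b) (hEp : DRing.TermwiseFiniteProjective E)
    [DRing.HasLTensorCx A E]
    (M : Dual.D A) (hM : Dual2.IsRelPerfect R A M) :
    Dual2.IsRelPerfect R A ((DRing.LTensorCx A E).obj M) := by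
  obtain ⟨hM1, c, d, hcd⟩ := hM
  refine ⟨?_, a + c, b + d, ?_⟩
  · exact isPseudoCoherent'_LTensorCx M hM1 E
      (Groth.Agent.H4.Perf.isPC'_of_isPerfect ⟨E, a, b, hEb, hEp, ⟨Iso.refl _⟩⟩)
  · let φ := algebraMap R A
    let X : Cx A := DerivedCategory.Q.objPreimage M
    let e : toD X ≅ M := DerivedCategory.Q.objObjPreimageIso M
    have hEfl : ∀ i, Module.Flat A (E.X i) := fun i => by
      haveI := (hEp i).2
      infer_instance
    have hEk : KFlat E := kflat_of_bounded E a b (fun i hi => hEb i (Or.inl hi))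
      (fun i hi => hEb i (Or.inr hi)) hEfl
    have hX : HasTorAmplitudeIn R c d (toD ((DTen.resCx φ).obj X)) :=
      hasTorAmp_of_iso ((DRing.restrictD φ).mapIso e.symm ≪≫ (DTen.resFactors φ).app X) hcd
    have h1 := hasTorAmp_res_tensor φ E X a b c d (fun i hi => hEb i (Or.inl hi))
      (fun i hi => hEb i (Or.inr hi)) hEfl hX
    haveI := isIso_counit_app_of_kflat_right E hEk X
    let e2 : (LTensorCx A E).obj (toD X) ≅ toD (X ⊗ E) := asIso ((counit E).app X)
    let e3 : toD (E ⊗ X) ≅ (LTensorCx A E).obj M :=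
      DerivedCategory.Q.mapIso (DTen.braidCx E X) ≪≫ e2.symm ≪≫ (LTensorCx A E).mapIso e
    let e4 : toD ((DTen.resCx φ).obj (E ⊗ X)) ≅ (DRing.restrictD φ).obj (toD (E ⊗ X)) :=
      ((DTen.resFactors φ).app (E ⊗ X)).symm
    exact hasTorAmp_of_iso (e4 ≪≫ (DRing.restrictD φ).mapIso e3) h1

end Groth.Agent.H4.TA4
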