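import Mathlib
import Groth.Prelude.Def_DerSch
import Groth.Prelude.Def_DTor2
import Groth.Prelude.Def_DCoh4
import Groth.Agent.H4.RelTor3
import Groth.Agent.H4.TA4
import Groth.Agent.H4.RelTor1
import Groth.Agent.Lib.Helper2.HomSh5

set_option autoImplicit false
universe u
open CategoryTheory CategoryTheory.Limits AlgebraicGeometry MonoidalCategory
attribute [local instance] HasDerivedCategory.standard

namespace Groth.Agent.H4.RelTor5

open Groth.Agent.H4.TC4 Groth.Agent.H4.TC5 Groth.Agent.H4.TC6 Groth.Agent.H4.TC11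
open Groth.Agent.H4.LK2 Groth.Agent.H4.LK4 Groth.Agent.H4.LK6 Groth.Agent.H4.LK7
open Groth.Agent.H4.TP1 Groth.Agent.H4.TA1 Groth.Agent.H4.TA2
  Groth.Agent.H4.TorAmp DRing

section Ring

variable {A B C : Type u} [CommRing A] [CommRing B] [CommRing C] (ρ : A →+* B) (φ : B →+* C)

/-- tensoring with a K-flat complex respects isomorphisms in the derived category -/
noncomputable def tensorIsoOfKFlat (N : Cx B) (hN : KFlat N) {E E' : Cx B} (e : toD E ≅ toD E') :
    toD (E ⊗ N) ≅ toD (E' ⊗ N) := by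
  haveI := hasLTensorCx N
  haveI := isIso_counit_app_of_kflat_right N hN E
  haveI := isIso_counit_app_of_kflat_right N hN E'
  exact (asIso ((counit N).app E)).symm ≪≫ (LTensorCx B N).mapIso e ≪≫ asIso ((counit N).app E')

theorem hasTorAmp_res_res_tensor_ext (L : Cx C) (N : Cx B) (hN : KFlat N) (a b c d : ℤ)
    (hL : HasTorAmplitudeIn B a b (toD ((DTen.resCx φ).obj L)))
    (hN' : HasTorAmplitudeIn A c d (toD ((DTen.resCx ρ).obj N))) :
    HasTorAmplitudeIn A (a + c) (b + d)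
      (toD ((DTen.resCx ρ).obj ((DTen.resCx φ).obj (L ⊗ (DTen.extCx φ).obj N)))) := by
  obtain ⟨E, hE, hEfl, ⟨e⟩⟩ := hL
  have h1 := hasTorAmp_res_tensor ρ E N a b c d (fun i hi => hE i (Or.inl hi))
    (fun i hi => hE i (Or.inr hi)) hEfl hN'
  let e1 : toD (E ⊗ N) ≅ toD ((DTen.resCx φ).obj (L ⊗ (DTen.extCx φ).obj N)) :=
    tensorIsoOfKFlat N hN e ≪≫ DerivedCategory.Q.mapIso (asIso (pfCx φ L N))
  exact hasTorAmp_of_iso (((DTen.resFactors ρ).app _).symm ≪≫ (DRing.restrictD ρ).mapIso e1 ≪≫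
    (DTen.resFactors ρ).app _) h1

end Ring

section Sch

open Groth.Agent.H4.SPt6 Groth.Agent.H4.LDS14 Groth.Agent.H4.LDS15 Groth.Agent.H4.LDS16
  Groth.Agent.H4.RelTor2

variable {X Y Z : Scheme.{u}}

/-- stalk complex of the unit -/
noncomputable def unitStalkCxIso (x : X) :
    (stalkCx x).obj (DerSch.unitCx X) ≅ 𝟙_ (Cx (X.presheaf.stalk x)) :=
  (HomologicalComplex.singleMapHomologicalComplex (DerSch.stalkFunctor X x)
      (ComplexShape.up ℤ) 0).app (Coh.structureModule X) ≪≫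
    (HomologicalComplex.single _ _ 0).mapIso
      (Groth.Agent.H2.HomSh.unitStalkEquiv x).symm.toModuleIso

/-- restriction in two steps -/
noncomputable def resCxCompIso {A B C : Type u} [CommRing A] [CommRing B] [CommRing C]
    (ρ : A →+* B) (φ : B →+* C) (χ : A →+* C) (hχ : χ = φ.comp ρ) (M : Cx C) :
    (DTen.resCx ρ).obj ((DTen.resCx φ).obj M) ≅ (DTen.resCx χ).obj M :=
  (NatIso.mapHomologicalComplex (ModuleCat.restrictScalarsComp'.{u} ρ φ χ hχ)
    (ComplexShape.up ℤ)).symm.app M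

/-- the stalk complex over the base is the restriction of the stalk complex -/
noncomputable def stalkCxOverIso (g : Y ⟶ Z) (y : Y) (G : CochainComplex Y.Modules ℤ) :
    (DerSch.stalkCxOver g y).obj G ≅ (DTen.resCx (g.stalkMap y).hom).obj ((stalkCx y).obj G) :=
  Iso.refl _

theorem S6188 (f : X ⟶ Y) (g : Y ⟶ Z) (h : X ⟶ Z)
    (w : f ≫ g = h) (m : ℕ) (hf : DerSch.HasTorDimLE f m) [DCoh.HasLpull f]
    (G : CochainComplex Y.Modules ℤ) (c d : ℤ) (hG : DerSch.HasTorAmplitude g c d G) :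
    DerSch.HasTorAmplitudeD h (c - m) d ((DCoh.Lpull f).obj (DCoh.toD Y G)) := by
  subst w
  rintro F ⟨eF⟩ x
  obtain ⟨P, q, hq, hP, -⟩ := exists_skf_resolution G
  have hq' : IsIso (DerivedCategory.Q.map q) := by
    rw [DerivedCategory.isIso_Q_map_iff_quasiIso]; exact hq
  let eP : DCoh.toD Y P ≅ DCoh.toD Y G := @asIso _ _ _ _ (DerivedCategory.Q.map q) hq'
  let e1 : DCoh.toD X F ≅ DCoh.toD X ((pullCx f).obj P) :=
    eF ≪≫ (DCoh.Lpull f).mapIso eP.symm ≪≫ lpullObjIso f P hP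
  let e2 := stalkIsoOfIso x e1
  let ρ : Z.presheaf.stalk (g.base (f.base x)) →+* Y.presheaf.stalk (f.base x) :=
    (g.stalkMap (f.base x)).hom
  let φ : Y.presheaf.stalk (f.base x) →+* X.presheaf.stalk x := (f.stalkMap x).hom
  let χ : Z.presheaf.stalk (g.base (f.base x)) →+* X.presheaf.stalk x := ((f ≫ g).stalkMap x).hom
  have hχ : χ = φ.comp ρ := by
    simp only [χ, φ, ρ]; rw [Scheme.Hom.stalkMap_comp]; rfl
  let N : Cx (Y.presheaf.stalk (f.base x)) := (stalkCx (f.base x)).obj P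
  let L : Cx (X.presheaf.stalk x) := (stalkCx x).obj (DerSch.unitCx X)
  have hN : KFlat N := hP (f.base x)
  have hL : HasTorAmplitudeIn (Y.presheaf.stalk (f.base x)) (-(m : ℤ)) 0
      (toD ((DTen.resCx φ).obj L)) := hf x
  have hN' : HasTorAmplitudeIn (Z.presheaf.stalk (g.base (f.base x))) c d
      (toD ((DTen.resCx ρ).obj N)) := by
    have h0 := hG (f.base x)
    let eN : DRing.toD ((DerSch.stalkCxOver g (f.base x)).obj G) ≅
        DRing.toD ((DerSch.stalkCxOver g (f.base x)).obj P) :=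
      DerivedCategory.Q.mapIso (stalkCxOverIso g (f.base x) G) ≪≫
      ((DTen.resFactors ρ).app _).symm ≪≫
        (DRing.restrictD ρ).mapIso (stalkIsoOfIso (f.base x) eP).symm ≪≫ (DTen.resFactors ρ).app _ ≪≫
      DerivedCategory.Q.mapIso (stalkCxOverIso g (f.base x) P).symm
    exact hasTorAmp_of_iso eN h0
  have h1 := hasTorAmp_res_res_tensor_ext ρ φ L N hN (-(m : ℤ)) 0 c d hL hN'
  let e3 : L ⊗ (DTen.extCx φ).obj N ≅ (stalkCx x).obj ((pullCx f).obj P) :=
    whiskerRightIso (unitStalkCxIso x) _ ≪≫ λ_ _ ≪≫ (stalkPullCxIso f x P).symm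
  let e4 : DRing.toD ((DTen.resCx ρ).obj ((DTen.resCx φ).obj (L ⊗ (DTen.extCx φ).obj N))) ≅
      DRing.toD ((DerSch.stalkCxOver (f ≫ g) x).obj F) :=
    DerivedCategory.Q.mapIso ((DTen.resCx ρ).mapIso ((DTen.resCx φ).mapIso e3) ≪≫
      resCxCompIso ρ φ χ hχ _) ≪≫ ((DTen.resFactors χ).app _).symm ≪≫
      (DRing.restrictD χ).mapIso e2.symm ≪≫ (DTen.resFactors χ).app _ ≪≫
      DerivedCategory.Q.mapIso (stalkCxOverIso (f ≫ g) x F).symm
  exact hasTorAmp_mono (by omega) (by omega) (hasTorAmp_of_iso e4 h1)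

end Sch

end Groth.Agent.H4.RelTor5
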