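import Mathlib
import Groth.Prelude.Def_DerSch
import Groth.Prelude.Def_DTor2
import Groth.Prelude.Def_DCoh4
import Groth.Agent.H4.RelTor5
import Groth.Agent.H4.LTC2
import Groth.Agent.H4.LDS20

set_option autoImplicit false
universe u
open CategoryTheory CategoryTheory.Limits AlgebraicGeometry MonoidalCategory
attribute [local instance] HasDerivedCategory.standard

namespace Groth.Agent.H4.RelTor6

open Groth.Agent.H4.TC4 Groth.Agent.H4.TorAmp DRing
open Groth.Agent.H4.SPt6 Groth.Agent.H4.LDS14 Groth.Agent.H4.LDS15 Groth.Agent.H4.LDS16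
  Groth.Agent.H4.RelTor2 Groth.Agent.H4.RelTor5 Groth.Agent.H4.LDS19 Groth.Agent.H4.LDS20
  Groth.Agent.H4.LTC2

variable {X Y Z : Scheme.{u}}

theorem S6240 (f : X ⟶ Y) (g : Y ⟶ Z)
    (h : X ⟶ Z) (w : f ≫ g = h) (F : CochainComplex X.Modules ℤ) (a b : ℤ)
    (hF : DerSch.HasTorAmplitude f a b F) (G : CochainComplex Y.Modules ℤ) (c d : ℤ)
    (hG : DerSch.HasTorAmplitude g c d G) [DCoh.HasLpull f] [DCoh.HasLTensorCx F] :
    DerSch.HasTorAmplitudeD h (a + c) (b + d)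
      ((DCoh.LTensorCx F).obj ((DCoh.Lpull f).obj (DCoh.toD Y G))) := by
  subst w
  rintro F' ⟨eF'⟩ x
  obtain ⟨P, q, hq, hP, -⟩ := exists_skf_resolution G
  have hq' : IsIso (DerivedCategory.Q.map q) := by
    rw [DerivedCategory.isIso_Q_map_iff_quasiIso]; exact hq
  let eP : DCoh.toD Y P ≅ DCoh.toD Y G := @asIso _ _ _ _ (DerivedCategory.Q.map q) hq'
  have hPk : DCoh.IsKFlat ((pullCx f).obj P) := isKFlat_of_skf _ (skf_pullCx f P hP)
  let e1 : DCoh.toD X F' ≅ DCoh.toD X ((DCoh.tensorCx.obj ((pullCx f).obj P)).obj F) :=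
    eF' ≪≫ (DCoh.LTensorCx F).mapIso ((DCoh.Lpull f).mapIso eP.symm ≪≫ lpullObjIso f P hP) ≪≫
      LTensorCxIso F _ hPk
  let e2 := stalkIsoOfIso x e1
  let ρ : Z.presheaf.stalk (g.base (f.base x)) →+* Y.presheaf.stalk (f.base x) :=
    (g.stalkMap (f.base x)).hom
  let φ : Y.presheaf.stalk (f.base x) →+* X.presheaf.stalk x := (f.stalkMap x).hom
  let χ : Z.presheaf.stalk (g.base (f.base x)) →+* X.presheaf.stalk x := ((f ≫ g).stalkMap x).hom
  have hχ : χ = φ.comp ρ := by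
    simp only [χ, φ, ρ]; rw [Scheme.Hom.stalkMap_comp]; rfl
  let N : Cx (Y.presheaf.stalk (f.base x)) := (stalkCx (f.base x)).obj P
  let L : Cx (X.presheaf.stalk x) := (stalkCx x).obj F
  have hN : KFlat N := hP (f.base x)
  have hL : HasTorAmplitudeIn (Y.presheaf.stalk (f.base x)) a b
      (toD ((DTen.resCx φ).obj L)) := hF x
  have hN' : HasTorAmplitudeIn (Z.presheaf.stalk (g.base (f.base x))) c d
      (toD ((DTen.resCx ρ).obj N)) := by
    have h0 := hG (f.base x)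
    let eN : DRing.toD ((DerSch.stalkCxOver g (f.base x)).obj G) ≅
        DRing.toD ((DerSch.stalkCxOver g (f.base x)).obj P) :=
      DerivedCategory.Q.mapIso (stalkCxOverIso g (f.base x) G) ≪≫
      ((DTen.resFactors ρ).app _).symm ≪≫
        (DRing.restrictD ρ).mapIso (stalkIsoOfIso (f.base x) eP).symm ≪≫ (DTen.resFactors ρ).app _ ≪≫
      DerivedCategory.Q.mapIso (stalkCxOverIso g (f.base x) P).symm
    exact hasTorAmp_of_iso eN h0
  have h1 := hasTorAmp_res_res_tensor_ext ρ φ L N hN a b c d hL hN'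
  let e3 : L ⊗ (DTen.extCx φ).obj N ≅
      (stalkCx x).obj ((DCoh.tensorCx.obj ((pullCx f).obj P)).obj F) :=
    DTen.braidCx _ _ ≪≫ whiskerRightIso (stalkPullCxIso f x P).symm L ≪≫
      (stalkTensorCxIso x ((pullCx f).obj P) F).symm
  let e4 : DRing.toD ((DTen.resCx ρ).obj ((DTen.resCx φ).obj (L ⊗ (DTen.extCx φ).obj N))) ≅
      DRing.toD ((DerSch.stalkCxOver (f ≫ g) x).obj F') :=
    DerivedCategory.Q.mapIso ((DTen.resCx ρ).mapIso ((DTen.resCx φ).mapIso e3) ≪≫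
      resCxCompIso ρ φ χ hχ _) ≪≫ ((DTen.resFactors χ).app _).symm ≪≫
      (DRing.restrictD χ).mapIso e2.symm ≪≫ (DTen.resFactors χ).app _ ≪≫
      DerivedCategory.Q.mapIso (stalkCxOverIso (f ≫ g) x F').symm
  exact hasTorAmp_of_iso e4 h1

end Groth.Agent.H4.RelTor6
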