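import Mathlib
import Groth.Prelude.Def_DerSch
import Groth.Prelude.Def_DTor2
import Groth.Prelude.Def_DCoh4
import Groth.Agent.H4.RelTor6

set_option autoImplicit false
universe u
open CategoryTheory CategoryTheory.Limits AlgebraicGeometry MonoidalCategory
attribute [local instance] HasDerivedCategory.standard

namespace Groth.Agent.H4.RelTor7

open Groth.Agent.H4.TC4 Groth.Agent.H4.TorAmp DRing Groth.Agent.H4.LK6 Groth.Agent.H4.LK7
open Groth.Agent.H4.TA1 Groth.Agent.H4.TA2
open Groth.Agent.H4.SPt6 Groth.Agent.H4.LDS14 Groth.Agent.H4.LDS15 Groth.Agent.H4.LDS16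
  Groth.Agent.H4.RelTor2 Groth.Agent.H4.RelTor3 Groth.Agent.H4.RelTor5 Groth.Agent.H4.LDS19
  Groth.Agent.H4.LDS20 Groth.Agent.H4.LTC2

section Ring

variable {A A' : Type u} [CommRing A] [CommRing A']

/-- tor amplitude can be checked after restriction along a ring isomorphism -/
theorem hasTorAmp_of_res_bijective (σ : A →+* A') (hσ : Function.Bijective σ) (W : Cx A')
    (a b : ℤ) (h : HasTorAmplitudeIn A a b (toD ((DTen.resCx σ).obj W))) :
    HasTorAmplitudeIn A' a b (toD W) := by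
  obtain ⟨E, hv, hfl, ⟨e⟩⟩ := h
  let σe : A ≃+* A' := RingEquiv.ofBijective σ hσ
  let σ' : A' →+* A := σe.symm.toRingHom
  have hcomp : RingHom.id A' = σ.comp σ' := by
    ext a'
    exact (σe.apply_symm_apply a').symm
  have hflat : Module.Flat A' (Ares σ') := by
    let l : Ares σ' ≃ₗ[A'] A' :=
      { toFun := fun a => σ (show A from a)
        invFun := fun a' => (show A from σ' a')
        map_add' := fun x y => map_add σ (show A from x) (show A from y)
        map_smul' := fun r x => by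
          change σ (σ' r * (show A from x)) = r * σ (show A from x)
          rw [map_mul]
          congr 1
          exact σe.apply_symm_apply r
        left_inv := fun x => σe.symm_apply_apply (show A from x)
        right_inv := fun x => σe.apply_symm_apply x }
    exact Module.Flat.of_linearEquiv l
  refine ⟨(DTen.resCx σ').obj E, fun i hi => (ModuleCat.restrictScalars.{u} σ').map_isZero (hv i hi),
    fun i => flat_restrictScalars σ' hflat _ (hfl i), ⟨?_⟩⟩
  exact ((DTen.resFactors σ').app E).symm ≪≫ (DRing.restrictD σ').mapIso e ≪≫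
    (DTen.resFactors σ').app _ ≪≫
    DerivedCategory.Q.mapIso (resCxCompIso σ' σ (RingHom.id A') hcomp W ≪≫ resCxIdIso W)

end Ring

section Sch

variable {X Y X' V : Scheme.{u}}

/-- relative tor amplitude at a point is invariant under isomorphisms of complexes -/
lemma hasTorAmplitudeAt_of_iso (f : X ⟶ Y) {F G : CochainComplex X.Modules ℤ} (e : F ≅ G)
    (a b : ℤ) (x : X) (h : DerSch.HasTorAmplitudeAt f a b F x) :
    DerSch.HasTorAmplitudeAt f a b G x :=
  hasTorAmp_of_iso (DerivedCategory.Q.mapIso ((DerSch.stalkCxOver f x).mapIso e)) h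

/-- pulling back along a flat morphism -/
lemma hasTorAmplitudeAt_comp_pull (f : X ⟶ Y) (j : X' ⟶ X) [Flat j]
    (F : CochainComplex X.Modules ℤ) (a b : ℤ) (x' : X')
    (h : DerSch.HasTorAmplitudeAt f a b F (j.base x')) :
    DerSch.HasTorAmplitudeAt (j ≫ f) a b ((pullCx j).obj F) x' := by
  let φ : Y.presheaf.stalk (f.base (j.base x')) →+* X.presheaf.stalk (j.base x') :=
    (f.stalkMap (j.base x')).hom
  let τ : X.presheaf.stalk (j.base x') →+* X'.presheaf.stalk x' := (j.stalkMap x').hom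
  let χ : Y.presheaf.stalk (f.base (j.base x')) →+* X'.presheaf.stalk x' :=
    ((j ≫ f).stalkMap x').hom
  have hχ : χ = τ.comp φ := by
    simp only [χ, φ, τ]; rw [Scheme.Hom.stalkMap_comp]; rfl
  let K : Cx (X.presheaf.stalk (j.base x')) := (stalkCx (j.base x')).obj F
  have h1 : HasTorAmplitudeIn (Y.presheaf.stalk (f.base (j.base x'))) a b
      (toD ((DTen.resCx φ).obj K)) := h
  have h2 := (hasTorAmp_res_iff_of_faithfullyFlat' τ φ χ hχ (faithfullyFlat_stalkMap j x')
    K a b).1 h1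
  let e : DRing.toD ((DTen.resCx χ).obj ((DTen.extCx τ).obj K)) ≅
      DRing.toD ((DerSch.stalkCxOver (j ≫ f) x').obj ((pullCx j).obj F)) :=
    DerivedCategory.Q.mapIso ((DTen.resCx χ).mapIso (stalkPullCxIso j x' F).symm ≪≫
      (stalkCxOverIso (j ≫ f) x' ((pullCx j).obj F)).symm)
  exact hasTorAmp_of_iso e h2

/-- composing the base with a morphism whose stalk map is bijective -/
lemma hasTorAmplitudeAt_of_comp (f' : X' ⟶ V) (ι : V ⟶ Y)
    (G : CochainComplex X'.Modules ℤ) (a b : ℤ) (x' : X')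
    (hι : Function.Bijective (ι.stalkMap (f'.base x')).hom)
    (h : DerSch.HasTorAmplitudeAt (f' ≫ ι) a b G x') :
    DerSch.HasTorAmplitudeAt f' a b G x' := by
  let σ : Y.presheaf.stalk (ι.base (f'.base x')) →+* V.presheaf.stalk (f'.base x') :=
    (ι.stalkMap (f'.base x')).hom
  let φ' : V.presheaf.stalk (f'.base x') →+* X'.presheaf.stalk x' := (f'.stalkMap x').hom
  let χ : Y.presheaf.stalk (ι.base (f'.base x')) →+* X'.presheaf.stalk x' :=
    ((f' ≫ ι).stalkMap x').hom
  have hχ : χ = φ'.comp σ := by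
    simp only [χ, φ', σ]; rw [Scheme.Hom.stalkMap_comp]; rfl
  let W : Cx (V.presheaf.stalk (f'.base x')) := (DTen.resCx φ').obj ((stalkCx x').obj G)
  have h1 : HasTorAmplitudeIn (Y.presheaf.stalk (ι.base (f'.base x'))) a b
      (toD ((DTen.resCx σ).obj W)) := by
    let e : DRing.toD ((DerSch.stalkCxOver (f' ≫ ι) x').obj G) ≅ toD ((DTen.resCx σ).obj W) :=
      DerivedCategory.Q.mapIso (stalkCxOverIso (f' ≫ ι) x' G ≪≫
        (resCxCompIso σ φ' χ hχ _).symm)
    exact hasTorAmp_of_iso e h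
  have h2 := hasTorAmp_of_res_bijective σ hι W a b h1
  exact hasTorAmp_of_iso (DerivedCategory.Q.mapIso (stalkCxOverIso f' x' G).symm) h2

/-- relative tor amplitude restricts to opens of the base -/
theorem hasTorAmplitude_restrict (f : X ⟶ Y) (F : CochainComplex X.Modules ℤ) (a b : ℤ)
    (hF : DerSch.HasTorAmplitude f a b F) (U : Y.Opens) :
    DerSch.HasTorAmplitude (f ∣_ U) a b ((DCoh.restrictCx (f ⁻¹ᵁ U)).obj F) := by
  intro x'
  have h1 := hasTorAmplitudeAt_comp_pull f (f ⁻¹ᵁ U).ι F a b x' (hF _)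
  have h2 : DerSch.HasTorAmplitudeAt (f ∣_ U ≫ U.ι) a b ((pullCx (f ⁻¹ᵁ U).ι).obj F) x' := by
    rw [morphismRestrict_ι]; exact h1
  have h3 := hasTorAmplitudeAt_of_comp (f ∣_ U) U.ι _ a b x'
    ((ConcreteCategory.isIso_iff_bijective _).1 inferInstance) h2
  exact hasTorAmplitudeAt_of_iso (f ∣_ U)
    ((NatIso.mapHomologicalComplex (Scheme.Modules.restrictFunctorIsoPullback (f ⁻¹ᵁ U).ι)
      (ComplexShape.up ℤ)).app F).symm a b x' h3

/-- Tor-vanishing from stalkwise relative tor amplitude -/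
theorem isZero_HD_tensor_lpull (f' : X' ⟶ V) (F' : CochainComplex X'.Modules ℤ) (m n : ℤ)
    (hF : DerSch.HasTorAmplitude f' m n F') (M : V.Modules)
    [DCoh.HasLpull f'] [DCoh.HasLTensorCx F'] (i : ℤ) (hi : i < m ∨ n < i) :
    IsZero (DCoh.HD ((DCoh.LTensorCx F').obj ((DCoh.Lpull f').obj (DCoh.inD V M))) i) := by
  let M0 : CochainComplex V.Modules ℤ :=
    (HomologicalComplex.single V.Modules (ComplexShape.up ℤ) 0).obj M
  obtain ⟨P, q, hq, hP, -⟩ := exists_skf_resolution M0
  have hq' : IsIso (DerivedCategory.Q.map q) := by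
    rw [DerivedCategory.isIso_Q_map_iff_quasiIso]; exact hq
  let eP : DCoh.toD V P ≅ DCoh.toD V M0 := @asIso _ _ _ _ (DerivedCategory.Q.map q) hq'
  let eM : DCoh.inD V M ≅ DCoh.toD V M0 := (DerivedCategory.singleFunctorIsoCompQ V.Modules 0).app M
  have hPk : DCoh.IsKFlat ((pullCx f').obj P) := isKFlat_of_skf _ (skf_pullCx f' P hP)
  let K : CochainComplex X'.Modules ℤ := (DCoh.tensorCx.obj ((pullCx f').obj P)).obj F'
  let e1 : (DCoh.LTensorCx F').obj ((DCoh.Lpull f').obj (DCoh.inD V M)) ≅ DCoh.toD X' K :=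
    (DCoh.LTensorCx F').mapIso ((DCoh.Lpull f').mapIso (eM ≪≫ eP.symm) ≪≫ lpullObjIso f' P hP) ≪≫
      LTensorCxIso F' _ hPk
  -- `P` is exact off degree `0`
  have hP0 : ∀ k : ℤ, k ≠ 0 → P.ExactAt k := by
    intro k hk
    haveI := hq
    rw [HomologicalComplex.exactAt_iff_isZero_homology]
    have hz : IsZero (M0.homology k) :=
      HomologicalComplex.isZero_single_obj_homology (ComplexShape.up ℤ) 0 M k hk
    exact hz.of_iso (asIso (HomologicalComplex.homologyMap q k))
  have hK : K.ExactAt i := by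
    rw [exactAt_iff_stalk]
    intro x'
    let φ : V.presheaf.stalk (f'.base x') →+* X'.presheaf.stalk x' := (f'.stalkMap x').hom
    let N : Cx (V.presheaf.stalk (f'.base x')) := (stalkCx (f'.base x')).obj P
    let L : Cx (X'.presheaf.stalk x') := (stalkCx x').obj F'
    have hN : KFlat N := hP (f'.base x')
    have hN0 : ∀ k, k ≠ 0 → N.ExactAt k := fun k hk => (exactAt_iff_stalk P k).1 (hP0 k hk) _
    have hL : HasTorAmplitudeIn (V.presheaf.stalk (f'.base x')) m n
        (toD ((DTen.resCx φ).obj L)) := hF x'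
    have h1 := exactAt_tensor_of_hasTorAmp _ m n hL N hN hN0 i hi
    have h2 : ((DTen.resCx φ).obj (L ⊗ (DTen.extCx φ).obj N)).ExactAt i :=
      (exactAt_iff_of_iso (asIso (pfCx φ L N)) i).1 h1
    have h3 : (L ⊗ (DTen.extCx φ).obj N).ExactAt i := (exactAt_res_iff φ _ i).1 h2
    let e3 : L ⊗ (DTen.extCx φ).obj N ≅ (stalkCx x').obj K :=
      DTen.braidCx _ _ ≪≫ whiskerRightIso (stalkPullCxIso f' x' P).symm L ≪≫
        (stalkTensorCxIso x' ((pullCx f').obj P) F').symm
    exact (exactAt_iff_of_iso e3 i).1 h3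
  rw [HomologicalComplex.exactAt_iff_isZero_homology] at hK
  exact (hK.of_iso ((DerivedCategory.homologyFunctorFactors X'.Modules i).app K)).of_iso
    ((DerivedCategory.homologyFunctor X'.Modules i).mapIso e1)

theorem S6241 (f : X ⟶ Y)
    (F : CochainComplex X.Modules ℤ) (m n : ℤ)
    (hF : DerSch.HasTorAmplitude f m n F) (U : Y.Opens) (M : (U : Scheme.{u}).Modules)
    [DCoh.HasLpull (f ∣_ U)] [DCoh.HasLTensorCx ((DCoh.restrictCx (f ⁻¹ᵁ U)).obj F)]
    (i : ℤ) (hi : i < m ∨ n < i) :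
    IsZero (DCoh.HD ((DCoh.LTensorCx ((DCoh.restrictCx (f ⁻¹ᵁ U)).obj F)).obj
      ((DCoh.Lpull (f ∣_ U)).obj (DCoh.inD (U : Scheme.{u}) M))) i) :=
  isZero_HD_tensor_lpull (f ∣_ U) _ m n (hasTorAmplitude_restrict f F m n hF U) M i hi

end Sch

end Groth.Agent.H4.RelTor7
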