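import Mathlib
import Groth.Prelude.Def_DerSch
import Groth.Prelude.Def_DTor2
import Groth.Prelude.Def_DCoh4
import Groth.Agent.H4.RelTor7
import Groth.Agent.H4.RelTor4

set_option autoImplicit false
universe u
open CategoryTheory CategoryTheory.Limits AlgebraicGeometry MonoidalCategory
attribute [local instance] HasDerivedCategory.standard

namespace Groth.Agent.H4.RelTor8

open Groth.Agent.H4.TC4 Groth.Agent.H4.TC5 Groth.Agent.H4.TC6 Groth.Agent.H4.TC11
open Groth.Agent.H4.LK2 Groth.Agent.H4.LK4 Groth.Agent.H4.LK6 Groth.Agent.H4.LK7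
open Groth.Agent.H4.TP1 Groth.Agent.H4.TA1 Groth.Agent.H4.TA2 Groth.Agent.H4.TA3
  Groth.Agent.H4.TorAmp DRing Groth.Agent.H4.RelTor3 Groth.Agent.H4.RelTor4
  Groth.Agent.H4.RelTor5

section A

variable {R A : Type u} [CommRing R] [CommRing A] (φ : R →+* A)
variable (A' : PrimeSpectrum A → Type u) [∀ q, CommRing (A' q)] [∀ q, Algebra A (A' q)]
  [∀ q : PrimeSpectrum A, IsLocalization.AtPrime (A' q) q.asIdeal]
  (R' : PrimeSpectrum A → Type u) [∀ q, CommRing (R' q)] [∀ q, Algebra R (R' q)]
  (S' : PrimeSpectrum A → Submonoid R) [∀ q : PrimeSpectrum A, IsLocalization (S' q) (R' q)]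
  (lam : ∀ q, R' q →+* A' q)
  (hlam : ∀ q, (lam q).comp (algebraMap R (R' q)) = (algebraMap A (A' q)).comp φ)

include S' hlam in
/-- relative tor amplitude can be checked at the local rings of a family of localizations -/
theorem hasTorAmp_res_of_forall_prime (K : Cx A) (a b : ℤ)
    (h : ∀ q : PrimeSpectrum A, HasTorAmplitudeIn (R' q) a b
      (toD ((DTen.resCx (lam q)).obj ((DTen.extCx (algebraMap A (A' q))).obj K)))) :
    HasTorAmplitudeIn R a b (toD ((DTen.resCx φ).obj K)) := by
  refine hasTorAmp_of_exactAt_tensor _ _ _ (fun M => ?_)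
  obtain ⟨N, π, -, hNf, hπ, hN0⟩ := exists_kflat_resolution_sg M
  refine ⟨N, π, hNf, hπ, fun n hn => ?_⟩
  rw [exactAt_iff_of_iso (asIso (pfCx φ K N)) n, exactAt_res_iff]
  apply exactAt_of_forall_prime A'
  intro q
  let β : A →+* A' q := algebraMap A (A' q)
  let π' : R →+* R' q := algebraMap R (R' q)
  have hcomp : β.comp φ = (lam q).comp π' := (hlam q).symm
  let N' : Cx (R' q) := (DTen.extCx π').obj N
  have hN'f : KFlat N' := kflat_extCx π' N hNf
  have hfl : Module.Flat R (Ares π') := flat_ares_of_isLocalization R (S' q) _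
  have hN'0 : ∀ i, i ≠ 0 → N'.ExactAt i := fun i hi => exactAt_ext_of_flat π' hfl N i (hN0 i hi)
  have h1 := exactAt_tensor_of_hasTorAmp _ a b (h q) N' hN'f hN'0 n hn
  rw [exactAt_iff_of_iso (asIso (pfCx (lam q) ((DTen.extCx β).obj K) N')) n, exactAt_res_iff] at h1
  have e1 := DTen.extTenCxIso β K ((DTen.extCx φ).obj N)
  have e2 : (DTen.extCx β).obj ((DTen.extCx φ).obj N) ≅ (DTen.extCx (lam q)).obj N' :=
    (DTen.extCompCx φ β).app N ≪≫ extCxEqIso hcomp N ≪≫
      ((DTen.extCompCx π' (lam q)).app N).symm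
  exact (exactAt_iff_of_iso (e1 ≪≫ whiskerLeftIso _ e2) n).2 h1

end A

section B1

variable {R A A' : Type u} [CommRing R] [CommRing A] [CommRing A'] (ρ : R →+* A) (β : A →+* A')

/-- flat base change on the top ring preserves tor amplitude over the base -/
theorem hasTorAmp_res_ext_of_flat (hβ : Module.Flat A (Ares β)) (X : Cx A) (a b : ℤ)
    (h : HasTorAmplitudeIn R a b (toD ((DTen.resCx ρ).obj X))) :
    HasTorAmplitudeIn R a b (toD ((DTen.resCx (β.comp ρ)).obj ((DTen.extCx β).obj X))) := by
  refine hasTorAmp_of_exactAt_tensor _ _ _ (fun M => ?_)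
  obtain ⟨N, π, -, hNf, hπ, hN0⟩ := exists_kflat_resolution_sg M
  refine ⟨N, π, hNf, hπ, fun n hn => ?_⟩
  have h0 := exactAt_tensor_of_hasTorAmp _ a b h N hNf hN0 n hn
  rw [exactAt_iff_of_iso (asIso (pfCx ρ X N)) n, exactAt_res_iff] at h0
  have h1 := exactAt_ext_of_flat β hβ _ n h0
  rw [exactAt_iff_of_iso (asIso (pfCx (β.comp ρ) ((DTen.extCx β).obj X) N)) n, exactAt_res_iff]
  have e1 : (DTen.extCx (β.comp ρ)).obj N ≅ (DTen.extCx β).obj ((DTen.extCx ρ).obj N) :=
    ((DTen.extCompCx ρ β).app N).symm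
  have e2 := DTen.extTenCxIso β X ((DTen.extCx ρ).obj N)
  exact (exactAt_iff_of_iso (whiskerLeftIso _ e1 ≪≫ e2.symm) n).2 h1

end B1

section B2

open TensorProduct in
theorem isIso_counit_of_isLocalization {R R' : Type u} [CommRing R] [CommRing R'] (ι : R →+* R')
    (S : Submonoid R) (hι : @IsLocalization R _ S R' _ ι.toAlgebra) (M : ModuleCat.{u} R') :
    IsIso ((ModuleCat.extendRestrictScalarsAdj ι).counit.app M) := by
  letI := ι.toAlgebra
  haveI := hι
  rw [ConcreteCategory.isIso_iff_bijective]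
  letI m2 : Module R M := Module.compHom M ι
  haveI : IsScalarTower R R' M := ⟨fun r r' m => by
    change (ι r * r') • m = ι r • (r' • m)
    rw [mul_smul]⟩
  have h1 : IsLocalizedModule S (LinearMap.id : M →ₗ[R] M) := isLocalizedModule_id S M R'
  have h : IsBaseChange R' (LinearMap.id : M →ₗ[R] M) := IsLocalizedModule.isBaseChange S R' _
  have key : ∀ x : R' ⊗[R] M, (ConcreteCategory.hom ((ModuleCat.extendRestrictScalarsAdj ι).counit.app M)) x = h.equiv x := by
    intro x
    induction x using TensorProduct.induction_on with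
    | zero => rw [map_zero]; exact (map_zero _)
    | tmul s y => rw [h.equiv_tmul]; rfl
    | add x y hx hy =>
      rw [map_add, ← hx, ← hy]
      exact map_add (ConcreteCategory.hom ((ModuleCat.extendRestrictScalarsAdj ι).counit.app M)) _ _
  exact (Function.bijective_iff_has_inverse).2 ⟨fun m => h.equiv.symm m,
    fun x => by rw [key x]; exact h.equiv.symm_apply_apply x,
    fun m => by rw [key]; exact h.equiv.apply_symm_apply m⟩


variable {R R' : Type u} [CommRing R] [CommRing R'] (ι : R →+* R')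

/-- for a localization, extension after restriction is the identity -/
noncomputable def extResCxIso (S : Submonoid R) (hι : @IsLocalization R _ S R' _ ι.toAlgebra)
    (W : Cx R') : (DTen.extCx ι).obj ((DTen.resCx ι).obj W) ≅ W :=
  HomologicalComplex.Hom.isoOfComponents
    (fun i => @asIso _ _ _ _ ((ModuleCat.extendRestrictScalarsAdj.{u,u,u} ι).counit.app (W.X i))
      (isIso_counit_of_isLocalization ι S hι (W.X i)))
    (fun i j _ => by
      have h := (ModuleCat.extendRestrictScalarsAdj.{u,u,u} ι).counit.naturality (W.d i j)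
      dsimp at h ⊢
      exact h.symm)

/-- tor amplitude over a localization can be checked after restriction of scalars -/
theorem hasTorAmp_of_res_isLocalization (S : Submonoid R)
    (hι : @IsLocalization R _ S R' _ ι.toAlgebra) (W : Cx R') (a b : ℤ)
    (h : HasTorAmplitudeIn R a b (toD ((DTen.resCx ι).obj W))) :
    HasTorAmplitudeIn R' a b (toD W) := by
  obtain ⟨E, hv, hfl, ⟨e⟩⟩ := h
  letI := ι.toAlgebra
  haveI := hι
  have hflat : ι.Flat := (RingHom.flat_algebraMap_iff).2 (IsLocalization.flat R' S)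
  haveI := Groth.Agent.H4.KProj.hasLBaseChange ι
  refine ⟨(DTen.extCx ι).obj E,
    fun i hi => (ModuleCat.extendScalars.{u,u,u} ι).map_isZero (hv i hi),
    fun i => Groth.Agent.H4.LDS15.flat_extendScalars ι _ (hfl i), ⟨?_⟩⟩
  exact (Groth.Agent.H4.BC.isoOfFlatMap ι hflat E).symm ≪≫ (DRing.LBaseChange ι).mapIso e ≪≫
    Groth.Agent.H4.BC.isoOfFlatMap ι hflat _ ≪≫ DerivedCategory.Q.mapIso (extResCxIso ι S hι W)

end B2

section Sch

open Groth.Agent.H4.LDS21 Groth.Agent.H4.RelTor2 Groth.Agent.H4.SPt6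

variable {R A : Type u} [CommRing R] [CommRing A] (φ : R →+* A)

set_option backward.isDefEq.respectTransparency false in
lemma stalkMap_ψ (x : Spec (CommRingCat.of A)) :
    ((Spec.map (CommRingCat.ofHom φ)).stalkMap x).hom.comp
      (ψ (CommRingCat.of R) ((Spec.map (CommRingCat.ofHom φ)).base x)) =
    (ψ (CommRingCat.of A) x).comp φ := by
  have h := AlgebraicGeometry.stalkMap_toStalk (CommRingCat.ofHom φ) x
  exact congrArg CommRingCat.Hom.hom h

variable [PreservesFiniteLimits (tilde.functor (CommRingCat.of A))]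

/-- the complex of stalks over the base of a complex representing `K~` -/
noncomputable def stalkOverIso (K : Cx A) (F : CochainComplex (Spec (CommRingCat.of A)).Modules ℤ)
    (e : DCoh.toD _ F ≅ DCoh.toD _ ((tildeCx A).obj K)) (x : Spec (CommRingCat.of A)) :
    toD ((DerSch.stalkCxOver (Spec.map (CommRingCat.ofHom φ)) x).obj F) ≅
      toD ((DTen.resCx ((Spec.map (CommRingCat.ofHom φ)).stalkMap x).hom).obj
        ((DTen.extCx (ψ (CommRingCat.of A) x)).obj K)) :=
  DerivedCategory.Q.mapIso (stalkCxOverIso (Spec.map (CommRingCat.ofHom φ)) x F) ≪≫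
  ((DTen.resFactors ((Spec.map (CommRingCat.ofHom φ)).stalkMap x).hom).app
      ((stalkCx x).obj F)).symm ≪≫
    (DRing.restrictD ((Spec.map (CommRingCat.ofHom φ)).stalkMap x).hom).mapIso
      (stalkIsoOfIso x e ≪≫
        DerivedCategory.Q.mapIso (tildeStalkCxIso (CommRingCat.of A) x K)) ≪≫
    (DTen.resFactors ((Spec.map (CommRingCat.ofHom φ)).stalkMap x).hom).app
      ((DTen.extCx (ψ (CommRingCat.of A) x)).obj K)

theorem S7259 (M : Dual.D A)
    (F : CochainComplex (Spec (CommRingCat.of A)).Modules ℤ)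
    (hF : Nonempty (DCoh.toD (Spec (CommRingCat.of A)) F ≅ (DCoh.tildeD (CommRingCat.of A)).obj M)) (a b : ℤ) :
    DerSch.HasTorAmplitude (Spec.map (CommRingCat.ofHom φ)) a b F ↔
      DRing.HasTorAmplitudeIn R a b ((DRing.restrictD φ).obj M) := by
  obtain ⟨eF⟩ := hF
  let f := Spec.map (CommRingCat.ofHom φ)
  let K : Cx A := DerivedCategory.Q.objPreimage M
  let eK : toD K ≅ M := DerivedCategory.Q.objObjPreimageIso M
  let e : DCoh.toD _ F ≅ DCoh.toD _ ((tildeCx A).obj K) :=
    eF ≪≫ (DCoh.tildeD (CommRingCat.of A)).mapIso eK.symm ≪≫ tildeDIso A K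
  let eR : (DRing.restrictD φ).obj M ≅ toD ((DTen.resCx φ).obj K) :=
    (DRing.restrictD φ).mapIso eK.symm ≪≫ (DTen.resFactors φ).app K
  constructor
  · intro h
    refine hasTorAmp_of_iso eR.symm ?_
    letI : ∀ q : PrimeSpectrum A, Algebra A ((Spec (CommRingCat.of A)).presheaf.stalk q) :=
      fun q => (ψ (CommRingCat.of A) q).toAlgebra
    haveI : ∀ q : PrimeSpectrum A, IsLocalization.AtPrime
        ((Spec (CommRingCat.of A)).presheaf.stalk q) q.asIdeal :=
      fun q => isLocalization_ψ (CommRingCat.of A) q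
    letI : ∀ q : PrimeSpectrum A,
        Algebra R ((Spec (CommRingCat.of R)).presheaf.stalk (f.base q)) :=
      fun q => (ψ (CommRingCat.of R) (f.base q)).toAlgebra
    haveI : ∀ q : PrimeSpectrum A, IsLocalization
        ((show PrimeSpectrum R from f.base q).asIdeal.primeCompl)
        ((Spec (CommRingCat.of R)).presheaf.stalk (f.base q)) :=
      fun q => isLocalization_ψ (CommRingCat.of R) (f.base q)
    refine hasTorAmp_res_of_forall_prime φ
      (fun q : PrimeSpectrum A => (Spec (CommRingCat.of A)).presheaf.stalk q)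
      (fun q : PrimeSpectrum A => (Spec (CommRingCat.of R)).presheaf.stalk (f.base q))
      (fun q : PrimeSpectrum A => (show PrimeSpectrum R from f.base q).asIdeal.primeCompl)
      (fun q => (f.stalkMap q).hom) (fun q => stalkMap_ψ φ q) K a b (fun q => ?_)
    exact hasTorAmp_of_iso (stalkOverIso φ K F e q) (h q)
  · intro h x
    have h0 : HasTorAmplitudeIn R a b (toD ((DTen.resCx φ).obj K)) := hasTorAmp_of_iso eR h
    refine hasTorAmp_of_iso (stalkOverIso φ K F e x).symm ?_
    let β := ψ (CommRingCat.of A) x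
    let ι := ψ (CommRingCat.of R) (f.base x)
    let lam : (Spec (CommRingCat.of R)).presheaf.stalk (f.base x) →+*
      (Spec (CommRingCat.of A)).presheaf.stalk x := (f.stalkMap x).hom
    have hβ : Module.Flat A (Ares β) := by
      letI := β.toAlgebra
      haveI : IsLocalization.AtPrime ((Spec (CommRingCat.of A)).presheaf.stalk x)
        (show PrimeSpectrum A from x).asIdeal := isLocalization_ψ (CommRingCat.of A) x
      exact flat_ares_of_isLocalization A (show PrimeSpectrum A from x).asIdeal.primeCompl _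
    have h1 := hasTorAmp_res_ext_of_flat φ β hβ K a b h0
    have hcomp : β.comp φ = lam.comp ι := (stalkMap_ψ φ x).symm
    have h2 : HasTorAmplitudeIn R a b (toD ((DTen.resCx ι).obj
        ((DTen.resCx lam).obj ((DTen.extCx β).obj K)))) :=
      hasTorAmp_of_iso (DerivedCategory.Q.mapIso
        (resCxCompIso ι lam (β.comp φ) hcomp ((DTen.extCx β).obj K)).symm) h1
    exact hasTorAmp_of_res_isLocalization ι
      (show PrimeSpectrum R from f.base x).asIdeal.primeCompl
      (isLocalization_ψ (CommRingCat.of R) (f.base x)) _ a b h2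

end Sch

end Groth.Agent.H4.RelTor8
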