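import Mathlib
import Groth.Prelude.Def_DerSch
import Groth.Prelude.Def_DTor2
import Groth.Prelude.Def_DCoh3
import Groth.Prelude.Def_DCoh4
import Groth.Agent.H4.RelTor8

set_option autoImplicit false
universe u
open CategoryTheory CategoryTheory.Limits AlgebraicGeometry MonoidalCategory
attribute [local instance] HasDerivedCategory.standard

namespace Groth.Agent.H4.RelTor9

open Groth.Agent.H4.TorAmp DRing
open Groth.Agent.H4.TA1 Groth.Agent.H4.TA2
open Groth.Agent.H4.SPt6 Groth.Agent.H4.Perf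
  Groth.Agent.H4.RelTor2 Groth.Agent.H4.RelTor3 Groth.Agent.H4.RelTor5 Groth.Agent.H4.RelTor7

variable {X S : Scheme.{u}} (f : X ⟶ S)

/-- the relative stalk functor on derived categories -/
noncomputable abbrev relStalkD (x : X) : DCoh.D X ⥤ Dual.D (S.presheaf.stalk (f.base x)) :=
  stalkD x ⋙ DRing.restrictD (f.stalkMap x).hom

/-- value of `relStalkD` on complexes -/
noncomputable def relStalkDIso (x : X) (F : CochainComplex X.Modules ℤ) :
    (relStalkD f x).obj (DCoh.toD X F) ≅ DRing.toD ((DerSch.stalkCxOver f x).obj F) :=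
  (DRing.restrictD (f.stalkMap x).hom).mapIso (stalkDIso x F) ≪≫
    (DTen.resFactors (f.stalkMap x).hom).app ((stalkCx x).obj F) ≪≫
    DerivedCategory.Q.mapIso (stalkCxOverIso f x F).symm

lemma hasTorAmplitudeAt_iff_relStalkD (x : X) (F : CochainComplex X.Modules ℤ) (a b : ℤ) :
    DerSch.HasTorAmplitudeAt f a b F x ↔
      HasTorAmplitudeIn (S.presheaf.stalk (f.base x)) a b
        ((relStalkD f x).obj (DCoh.toD X F)) :=
  ⟨fun h => hasTorAmp_of_iso (relStalkDIso f x F).symm h,
   fun h => hasTorAmp_of_iso (relStalkDIso f x F) h⟩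

/-- relative tor amplitude at a point only depends on the object of the derived category -/
lemma hasTorAmplitudeAt_of_isoD (x : X) {E F : CochainComplex X.Modules ℤ}
    (e : DCoh.toD X E ≅ DCoh.toD X F) (a b : ℤ) (h : DerSch.HasTorAmplitudeAt f a b E x) :
    DerSch.HasTorAmplitudeAt f a b F x := by
  rw [hasTorAmplitudeAt_iff_relStalkD] at h ⊢
  exact hasTorAmp_of_iso ((relStalkD f x).mapIso e) h

/-- (⇒) -/
theorem hasTorAmplitude_of_hasRelFlatAmplitudeIn (F : CochainComplex X.Modules ℤ) (a b : ℤ)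
    (h : DCoh.HasRelFlatAmplitudeIn f a b (DCoh.toD X F)) : DerSch.HasTorAmplitude f a b F := by
  obtain ⟨E, hv, hfl, ⟨e⟩⟩ := h
  intro x
  refine hasTorAmplitudeAt_of_isoD f x e a b ?_
  exact ⟨(DerSch.stalkCxOver f x).obj E, fun i hi => (DerSch.stalkOver f x).map_isZero (hv i hi),
    fun i => hfl i x, ⟨Iso.refl _⟩⟩

lemma exactAt_of_relTorAmp (F : CochainComplex X.Modules ℤ) (a b : ℤ)
    (h : DerSch.HasTorAmplitude f a b F) (i : ℤ) (hi : i < a ∨ b < i) : F.ExactAt i := by
  rw [exactAt_iff_stalk]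
  intro x
  have h1 : ((DTen.resCx (f.stalkMap x).hom).obj ((stalkCx x).obj F)).ExactAt i := by
    rw [HomologicalComplex.exactAt_iff_isZero_homology]
    exact (isZero_homology_of_hasTorAmp (h x) i hi).of_iso
      (Groth.Agent.H4.PC.homologyToDIso _ i).symm
  exact (exactAt_res_iff _ _ _).1 h1

lemma isFlatOver_iff (M : X.Modules) :
    FlatMod.IsFlatOver f M ↔ ∀ x : X, Module.Flat (S.presheaf.stalk (f.base x))
      ((DerSch.stalkOver f x).obj M) := Iff.rfl

lemma isFlatOver_of_iso {M N : X.Modules} (e : M ≅ N) (hM : FlatMod.IsFlatOver f M) :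
    FlatMod.IsFlatOver f N := by
  rw [isFlatOver_iff] at hM ⊢
  intro x
  haveI := hM x
  exact Module.Flat.of_linearEquiv ((DerSch.stalkOver f x).mapIso e).symm.toLinearEquiv

lemma isFlatOver_of_isZero (Z : X.Modules) (hZ : IsZero Z) : FlatMod.IsFlatOver f Z := by
  rw [isFlatOver_iff]
  intro x
  haveI : Subsingleton ((DerSch.stalkOver f x).obj Z) :=
    ModuleCat.subsingleton_of_isZero ((DerSch.stalkOver f x).map_isZero hZ)
  infer_instance

lemma isFlatOver_of_isFlat [Flat f] (M : X.Modules) (hM : FlatMod.IsFlat M) :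
    FlatMod.IsFlatOver f M := by
  rw [isFlatOver_iff]
  intro x
  exact flat_restrictScalars (f.stalkMap x).hom (faithfullyFlat_stalkMap f x).toFlat
    ((DerSch.stalkFunctor X x).obj M) (hM x)

lemma isFlatOver_cokernel_of_stalk [Flat f] (P : CochainComplex X.Modules ℤ) (a b c : ℤ)
    (hb : ∀ i, b < i → IsZero (P.X i)) (hflat : ∀ n, FlatMod.IsFlat (P.X n))
    (h : DerSch.HasTorAmplitude f a c P) :
    FlatMod.IsFlatOver f (cokernel (P.d (a - 1) a)) := by
  rw [isFlatOver_iff]
  intro x
  haveI := flat_coker_of_hasTorAmp ((DerSch.stalkCxOver f x).obj P) b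
    (fun i hi => (DerSch.stalkOver f x).map_isZero (hb i hi))
    (fun i => (isFlatOver_iff f _).1 (isFlatOver_of_isFlat f _ (hflat i)) x) a c (h x)
  let e : (DerSch.stalkOver f x).obj (cokernel (P.d (a - 1) a)) ≅
      ModuleCat.of _ ((((DerSch.stalkCxOver f x).obj P).X a) ⧸
        LinearMap.range (((DerSch.stalkCxOver f x).obj P).d (a - 1) a).hom) :=
    PreservesCokernel.iso (DerSch.stalkOver f x) (P.d (a - 1) a) ≪≫
      ModuleCat.cokernelIsoRangeQuotient _
  exact Module.Flat.of_linearEquiv e.toLinearEquiv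

open ZeroObject in
/-- (⇐), for flat `f` -/
theorem hasRelFlatAmplitudeIn_of_hasTorAmplitude [Flat f] (F : CochainComplex X.Modules ℤ)
    (a b : ℤ) (h : DerSch.HasTorAmplitude f a b F) :
    DCoh.HasRelFlatAmplitudeIn f a b (DCoh.toD X F) := by
  have hex := exactAt_of_relTorAmp f F a b h
  by_cases hab : a ≤ b
  · haveI : F.IsLE b := by
      rw [CochainComplex.isLE_iff]
      intro i hi
      exact hex i (Or.inr hi)
    have hι : IsIso (DerivedCategory.Q.map (F.ιTruncLE b)) := by
      rw [DerivedCategory.isIso_Q_map_iff_quasiIso]; infer_instance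
    obtain ⟨P, q, hP, hflat, hq, hbdd⟩ := Groth.Agent.H4.GKS8.exists_bddAbove_resolution_sch
      (F.truncLE b) b (fun i hi => CochainComplex.isZero_of_isStrictlyLE (F.truncLE b) b i hi)
    have hq' : IsIso (DerivedCategory.Q.map q) := by
      rw [DerivedCategory.isIso_Q_map_iff_quasiIso]; exact hq
    let eP : DCoh.toD X P ≅ DCoh.toD X F :=
      @asIso _ _ _ _ (DerivedCategory.Q.map q) hq' ≪≫
        @asIso _ _ _ _ (DerivedCategory.Q.map (F.ιTruncLE b)) hι
    have hP' : DerSch.HasTorAmplitude f a b P := fun x =>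
      hasTorAmplitudeAt_of_isoD f x eP.symm a b (h x)
    have hexP := exactAt_of_relTorAmp f P a b hP'
    haveI : P.IsGE a := by
      rw [CochainComplex.isGE_iff]
      intro i hi
      exact hexP i (Or.inl hi)
    have hπ : IsIso (DerivedCategory.Q.map (P.πTruncGE a)) := by
      rw [DerivedCategory.isIso_Q_map_iff_quasiIso]; infer_instance
    have hW : FlatMod.IsFlatOver f (cokernel (P.d (a - 1) a)) :=
      isFlatOver_cokernel_of_stalk f P a b b hbdd hflat hP'
    have eW : cokernel (P.d (a - 1) a) ≅ P.opcycles a :=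
      IsColimit.coconePointUniqueUpToIso (colimit.isColimit _)
        (P.opcyclesIsCokernel (a - 1) a (by simp))
    refine ⟨P.truncGE a, ?_, ?_,
      ⟨(@asIso _ _ _ _ (DerivedCategory.Q.map (P.πTruncGE a)) hπ).symm ≪≫ eP⟩⟩
    · intro i hi
      rcases hi with hi | hi
      · exact CochainComplex.isZero_of_isStrictlyGE (P.truncGE a) a i hi
      · exact (hbdd i hi).of_iso (P.truncGEXIso a i (by omega))
    · intro i
      by_cases h1 : i < a
      · exact isFlatOver_of_isZero f _
          (CochainComplex.isZero_of_isStrictlyGE (P.truncGE a) a i h1)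
      · by_cases h2 : i = a
        · subst h2
          exact isFlatOver_of_iso f (eW ≪≫ (P.truncGEXIsoOpcycles i).symm) hW
        · exact isFlatOver_of_iso f (P.truncGEXIso a i (by omega)).symm
            (isFlatOver_of_isFlat f _ (hflat i))
  · have hac : F.Acyclic := fun i => hex i (by omega)
    have hz : IsZero (DCoh.toD X F) := Groth.Agent.H4.LDS3.isZero_Q_obj_of_acyclic F hac
    have hz0 : IsZero (DCoh.toD X (0 : CochainComplex X.Modules ℤ)) :=
      DerivedCategory.Q.map_isZero (isZero_zero _)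
    refine ⟨0, fun i _ => ?_, fun i => isFlatOver_of_isZero f _ ?_, ⟨hz0.iso hz⟩⟩
    · exact (HomologicalComplex.eval _ _ i).map_isZero (isZero_zero _)
    · exact (HomologicalComplex.eval _ _ i).map_isZero (isZero_zero _)

/-- for flat `f`, the representative form and the stalkwise form of relative tor amplitude agree -/
theorem hasRelFlatAmplitudeIn_iff [Flat f] (F : CochainComplex X.Modules ℤ) (a b : ℤ) :
    DCoh.HasRelFlatAmplitudeIn f a b (DCoh.toD X F) ↔ DerSch.HasTorAmplitude f a b F :=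
  ⟨hasTorAmplitude_of_hasRelFlatAmplitudeIn f F a b, hasRelFlatAmplitudeIn_of_hasTorAmplitude f F a b⟩

section Local

open Groth.Agent.H4.LDS15

variable {X' : Scheme.{u}}

/-- pulling back along a flat morphism, iff version -/
lemma hasTorAmplitudeAt_comp_pull_iff (j : X' ⟶ X) [Flat j]
    (F : CochainComplex X.Modules ℤ) (a b : ℤ) (x' : X') :
    DerSch.HasTorAmplitudeAt (j ≫ f) a b ((pullCx j).obj F) x' ↔
      DerSch.HasTorAmplitudeAt f a b F (j.base x') := by
  let φ : S.presheaf.stalk (f.base (j.base x')) →+* X.presheaf.stalk (j.base x') :=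
    (f.stalkMap (j.base x')).hom
  let τ : X.presheaf.stalk (j.base x') →+* X'.presheaf.stalk x' := (j.stalkMap x').hom
  let χ : S.presheaf.stalk (f.base (j.base x')) →+* X'.presheaf.stalk x' :=
    ((j ≫ f).stalkMap x').hom
  have hχ : χ = τ.comp φ := by
    simp only [χ, φ, τ]; rw [Scheme.Hom.stalkMap_comp]; rfl
  let K : Cx (X.presheaf.stalk (j.base x')) := (stalkCx (j.base x')).obj F
  let e : DRing.toD ((DTen.resCx χ).obj ((DTen.extCx τ).obj K)) ≅
      DRing.toD ((DerSch.stalkCxOver (j ≫ f) x').obj ((pullCx j).obj F)) :=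
    DerivedCategory.Q.mapIso ((DTen.resCx χ).mapIso (stalkPullCxIso j x' F).symm ≪≫
      (stalkCxOverIso (j ≫ f) x' ((pullCx j).obj F)).symm)
  have key := hasTorAmp_res_iff_of_faithfullyFlat' τ φ χ hχ (faithfullyFlat_stalkMap j x') K a b
  constructor
  · intro h
    have h2 : HasTorAmplitudeIn (S.presheaf.stalk (f.base (j.base x'))) a b
        (toD ((DTen.resCx χ).obj ((DTen.extCx τ).obj K))) := hasTorAmp_of_iso e.symm h
    exact key.2 h2
  · intro h
    have h1 : HasTorAmplitudeIn (S.presheaf.stalk (f.base (j.base x'))) a b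
        (toD ((DTen.resCx φ).obj K)) := h
    exact hasTorAmp_of_iso e (key.1 h1)

/-- relative tor amplitude at a point of an open subscheme -/
lemma hasTorAmplitudeAt_restrict_iff (V : X.Opens) (F : CochainComplex X.Modules ℤ) (a b : ℤ)
    (v' : (V : Scheme.{u})) :
    DerSch.HasTorAmplitudeAt (V.ι ≫ f) a b ((DCoh.restrictCx V).obj F) v' ↔
      DerSch.HasTorAmplitudeAt f a b F (V.ι.base v') := by
  rw [← hasTorAmplitudeAt_comp_pull_iff f V.ι F a b v']
  let e := (NatIso.mapHomologicalComplex (Scheme.Modules.restrictFunctorIsoPullback V.ι)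
      (ComplexShape.up ℤ)).app F
  exact ⟨hasTorAmplitudeAt_of_iso (V.ι ≫ f) e a b v',
    hasTorAmplitudeAt_of_iso (V.ι ≫ f) e.symm a b v'⟩

/-- stalkwise form of "locally of finite tor dimension relative to the base" -/
def LocStalkTor (K : DCoh.D X) : Prop :=
  ∀ x : X, ∃ (V : X.Opens) (a b : ℤ), x ∈ V ∧ ∀ v : X, v ∈ V →
    HasTorAmplitudeIn (S.presheaf.stalk (f.base v)) a b ((relStalkD f v).obj K)

theorem locHasFiniteRelTorDim_iff [Flat f] (K : DCoh.D X) :
    DCoh.LocHasFiniteRelTorDim f K ↔ LocStalkTor f K := by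
  constructor
  · intro h x
    obtain ⟨V, a, b, hxV, hV⟩ := h x
    refine ⟨V, a, b, hxV, fun v hv => ?_⟩
    let F' : CochainComplex X.Modules ℤ := DerivedCategory.Q.objPreimage K
    let e : DCoh.toD X F' ≅ K := DerivedCategory.Q.objObjPreimageIso K
    have h1 := hasTorAmplitude_of_hasRelFlatAmplitudeIn (V.ι ≫ f) _ a b (hV F' ⟨e⟩)
    have h2 := (hasTorAmplitudeAt_restrict_iff f V F' a b ⟨v, hv⟩).1 (h1 ⟨v, hv⟩)
    have h3 := (hasTorAmplitudeAt_iff_relStalkD f v F' a b).1 h2
    exact hasTorAmp_of_iso ((relStalkD f v).mapIso e) h3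
  · intro h x
    obtain ⟨V, a, b, hxV, hV⟩ := h x
    refine ⟨V, a, b, hxV, fun F' ⟨e⟩ => ?_⟩
    apply hasRelFlatAmplitudeIn_of_hasTorAmplitude
    intro v'
    rw [hasTorAmplitudeAt_restrict_iff, hasTorAmplitudeAt_iff_relStalkD]
    exact hasTorAmp_of_iso ((relStalkD f _).mapIso e.symm) (hV _ v'.2)

end Local

end Groth.Agent.H4.RelTor9
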