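import Mathlib
import Groth.Prelude.Def_DerSch
import Groth.Prelude.Def_DCoh4
import Groth.Agent.H4.RT5
import Groth.Agent.H4.RelTor9
import Groth.Agent.H4.TA2

set_option autoImplicit false
universe u
open CategoryTheory CategoryTheory.Limits AlgebraicGeometry HomologicalComplex
attribute [local instance] HasDerivedCategory.standard

namespace Groth.Agent.H4.RT6

open Groth.Agent.H4.PSch1 Groth.Agent.H4.PSch2 Groth.Agent.H4.PSch3
  Groth.Agent.H4.LDS14 Groth.Agent.H4.LDS15 Groth.Agent.H4.LDS17 Groth.Agent.H4.LDS19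
  Groth.Agent.H4.LDS20 Groth.Agent.H4.RT1 Groth.Agent.H4.RT2 Groth.Agent.H4.RT4
  Groth.Agent.H4.RT5 Groth.Agent.H4.LDS6 DerivedCategory

variable {X U : Scheme.{u}}

/-- `A ⊗ N` only depends on the class of the K-flat complex `A` in the derived category -/
theorem nonempty_tensor_iso_of_kflat {A A' : CochainComplex X.Modules ℤ}
    (N : CochainComplex X.Modules ℤ) (hA : DCoh.IsKFlat A) (hA' : DCoh.IsKFlat A')
    (e : DCoh.toD X A ≅ DCoh.toD X A') :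
    Nonempty (DCoh.toD X ((DCoh.tensorCx.obj A).obj N) ≅ DCoh.toD X ((DCoh.tensorCx.obj A').obj N)) := by
  obtain ⟨Z, s, hs, g, hfac⟩ := DerivedCategory.right_fac e.hom
  haveI := hs
  have hsq : QuasiIso s := (DerivedCategory.isIso_Q_map_iff_quasiIso (φ := s)).1 hs
  have hg : IsIso (Q.map g) := by
    have : Q.map g = Q.map s ≫ e.hom := by rw [hfac]; simp
    rw [this]; infer_instance
  have hgq : QuasiIso g := (DerivedCategory.isIso_Q_map_iff_quasiIso (φ := g)).1 hg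
  obtain ⟨Z', r, hZ', hr⟩ := hresX Z
  haveI := hr
  haveI := hsq
  haveI := hgq
  haveI h1 := Groth.Agent.H4.LTC2.quasiIso_tensorCx_map N (r ≫ s) hZ' hA inferInstance
  haveI h2 := Groth.Agent.H4.LTC2.quasiIso_tensorCx_map N (r ≫ g) hZ' hA' inferInstance
  exact ⟨(asIso (Q.map (((DCoh.tensorCx (X := X)).flip.obj N).map (r ≫ s)))).symm ≪≫
    asIso (Q.map (((DCoh.tensorCx (X := X)).flip.obj N).map (r ≫ g)))⟩

open Groth.Agent.H4.TilD9 Groth.Agent.H4.TilD10 Groth.Agent.H4.RT3 in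
/-- boundedness of the tensor product with a bounded above K-flat complex -/
theorem isLE_tensor (E C : CochainComplex X.Modules ℤ) (hE : DCoh.IsKFlat E) (b c : ℤ)
    (hEb : ∀ i, b < i → IsZero (E.X i)) [(DCoh.toD X C).IsLE c] :
    (DCoh.toD X ((DCoh.tensorCx.obj E).obj C)).IsLE (b + c) := by
  obtain ⟨C', hC', ⟨e⟩⟩ := DerivedCategory.exists_iso_Q_obj_of_isLE (Q.obj C) c
  have e1 : DCoh.toD X ((DCoh.tensorCx.obj E).obj C) ≅ DCoh.toD X ((DCoh.tensorCx.obj E).obj C') :=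
    Q.mapIso (braidCx E C) ≪≫ tensorIsoLeft E hE e ≪≫ Q.mapIso (braidCx C' E)
  haveI : ((DCoh.tensorCx.obj E).obj C').IsStrictlyLE (b + c) := by
    rw [CochainComplex.isStrictlyLE_iff]
    intro n hn
    refine isZero_mapBifunctor_X (DCoh.tensorBi (X := X)) E C' n (fun p q hpq => ?_)
    by_cases hp : b < p
    · exact ((DCoh.tensorBi (X := X)).flip.obj (C'.X q)).map_isZero (hEb p hp)
    · exact ((DCoh.tensorBi (X := X)).obj (E.X p)).map_isZero
        (CochainComplex.isZero_of_isStrictlyLE C' c q (by omega))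
  exact DerivedCategory.TStructure.t.isLE_of_iso e1.symm (b + c)

open Groth.Agent.H4.TilD9 Groth.Agent.H4.TilD10 in
/-- tensoring a witness with a bounded above K-flat complex -/
theorem isWitCx_tensor (E : CochainComplex X.Modules ℤ) (hE : DCoh.IsKFlat E) (b : ℤ)
    (hEb : ∀ i, b < i → IsZero (E.X i)) {A B : CochainComplex X.Modules ℤ} (g : A ⟶ B) (m : ℤ)
    (hg : IsWitCx m g) :
    IsWitCx (b + m) (((DCoh.tensorCx (X := X)).obj E).map g) := by
  rw [← isWitD_Q_map_iff] at hg ⊢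
  have hT := DerivedCategory.mappingCone_triangle_distinguished g
  have h1 := (Groth.Agent.H4.PCS1.isWitD_iff_isLE _ hT m).1 hg
  have hT' := DerivedCategory.mappingCone_triangle_distinguished
    (((DCoh.tensorCx (X := X)).obj E).map g)
  refine (Groth.Agent.H4.PCS1.isWitD_iff_isLE _ hT' (b + m)).2 ?_
  change (Q.obj (CochainComplex.mappingCone (((DCoh.tensorCx (X := X)).obj E).map g))).IsLE
    (b + m - 1)
  haveI : (DCoh.toD X (CochainComplex.mappingCone g)).IsLE (m - 1) := h1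
  have h2 := isLE_tensor E (CochainComplex.mappingCone g) hE b (m - 1) hEb
  have e : DCoh.toD X ((DCoh.tensorCx.obj E).obj (CochainComplex.mappingCone g)) ≅
      Q.obj (CochainComplex.mappingCone (((DCoh.tensorCx (X := X)).obj E).map g)) :=
    Q.mapIso (Groth.Agent.H4.TC2.coneIso₂ (DCoh.tensorBi (X := X)) E g)
  have h3 := DerivedCategory.TStructure.t.isLE_of_iso e (b + (m - 1))
  rw [show b + m - 1 = b + (m - 1) by ring]
  exact h3

open Groth.Agent.H4.TilD9 Groth.Agent.H4.TilD10 Groth.Agent.LD.QC in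
/-- **perfect `⊗^L` pseudo-coherent is pseudo-coherent**, pointwise form -/
theorem pcAt_ltensor_perf (M : CochainComplex X.Modules ℤ) [DCoh.HasLTensorCx M] (K : DCoh.D X)
    (x : X) (hK : PerfAt K x) (hM : ∀ m, PCAt m (Q.obj M) x) (m : ℤ) :
    PCAt m ((DCoh.LTensorCx M).obj K) x := by
  obtain ⟨U₁, j₁, hj₁, E₁, hx₁, hE₁, ⟨e₁⟩⟩ := hK
  obtain ⟨⟨a₁, b₁, hab₁⟩, hE₁f⟩ := id hE₁
  obtain ⟨U₂, j₂, hj₂, hx₂, lw⟩ := exists_locFreeWit_of_pcAt (m - b₁) M x (hM _)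
  let U := pullback j₁ j₂
  let p₁ : U ⟶ U₁ := pullback.fst j₁ j₂
  let p₂ : U ⟶ U₂ := pullback.snd j₁ j₂
  let j : U ⟶ X := p₁ ≫ j₁
  have hj2 : j = p₂ ≫ j₂ := pullback.condition
  have hxj : x ∈ Set.range j := by
    rw [IsOpenImmersion.range_pullback_to_base_of_left]
    exact ⟨hx₁, hx₂⟩
  obtain ⟨P₂, g, a₂, b₂, hab₂, hfree₂, hg⟩ := lw.shrink j₂ p₂ j hj2
  have hP₂ : DCoh.IsStrictlyPerfect P₂ := ⟨⟨a₂, b₂, hab₂⟩, fun n => by
    obtain ⟨k, ⟨e⟩⟩ := hfree₂ n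
    exact isFinLocFree_of_iso e.symm (isFinLocFree_freeMod U k)⟩
  obtain ⟨eK⟩ := nonempty_RD_iso_shrink p₁ j₁ j rfl K E₁ e₁
  have hE₁' := isStrictlyPerfect_restrict p₁ E₁ hE₁
  have hz : ∀ i, b₁ < i → IsZero (((resCx p₁).obj E₁).X i) := fun i hi =>
    (Scheme.Modules.restrictFunctor p₁).map_isZero (hab₁ i (Or.inr hi))
  obtain ⟨P, c, hc, hP, -⟩ := exists_skf_resolution (Q.objPreimage K)
  haveI := hc
  have eP : Q.obj P ≅ K := asIso (Q.map c) ≪≫ Q.objObjPreimageIso K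
  obtain ⟨e0⟩ := nonempty_RD_ltensor_iso j M K P hP eP
  have eA : Q.obj ((resCx j).obj P) ≅ Q.obj ((resCx p₁).obj E₁) :=
    (RDfac j P).symm ≪≫ (RD j).mapIso eP ≪≫ eK
  have hA : DCoh.IsKFlat ((resCx j).obj P) := isKFlat_of_skf _ (skf_resCx j P hP)
  have hA' : DCoh.IsKFlat ((resCx p₁).obj E₁) :=
    isKFlat_of_skf _ (skf_of_isStrictlyPerfect _ hE₁')
  obtain ⟨e3⟩ := nonempty_tensor_iso_of_kflat ((resCx j).obj M) hA hA' eA
  have hw := isWitCx_tensor ((resCx p₁).obj E₁) hA' b₁ hz g (m - b₁) hg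
  rw [show b₁ + (m - b₁) = m by ring] at hw
  refine ⟨U, j, inferInstance, (DCoh.tensorCx.obj ((resCx p₁).obj E₁)).obj P₂,
    Q.map (((DCoh.tensorCx (X := U)).obj ((resCx p₁).obj E₁)).map g) ≫ e3.inv ≫ e0.inv, hxj,
    isStrictlyPerfect_tensorCx _ _ hE₁' hP₂, ?_⟩
  have h5 := (isWitD_iso_comp (m := m) (𝟙 _)
    (Q.map (((DCoh.tensorCx (X := U)).obj ((resCx p₁).obj E₁)).map g)) (e3.inv ≫ e0.inv)).2
    ((isWitD_Q_map_iff _).2 hw)
  simpa using h5

section RelTor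

open Groth.Agent.H4.SPt6 Groth.Agent.H4.RelTor5 Groth.Agent.H4.RelTor7 Groth.Agent.H4.RelTor9
  Groth.Agent.H4.TorAmp

variable {S : Scheme.{u}}

/-- relative tor amplitude at a point and restriction along an open immersion -/
lemma hasTorAmplitudeAt_resCx_iff (f : X ⟶ S) (j : U ⟶ X) [IsOpenImmersion j]
    (F : CochainComplex X.Modules ℤ) (a b : ℤ) (u : U) :
    DerSch.HasTorAmplitudeAt (j ≫ f) a b ((resCx j).obj F) u ↔
      DerSch.HasTorAmplitudeAt f a b F (j.base u) := by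
  rw [← hasTorAmplitudeAt_comp_pull_iff f j F a b u]
  let e := (NatIso.mapHomologicalComplex (Scheme.Modules.restrictFunctorIsoPullback j)
      (ComplexShape.up ℤ)).app F
  exact ⟨hasTorAmplitudeAt_of_iso (j ≫ f) e a b u,
    hasTorAmplitudeAt_of_iso (j ≫ f) e.symm a b u⟩

/-- tensoring with a bounded complex of flat modules adds relative tor amplitudes -/
theorem hasTorAmplitudeAt_tensor (g : U ⟶ S) (E N : CochainComplex U.Modules ℤ) (a₁ b₁ a b : ℤ)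
    (hEz : DCoh.VanishesOutside E a₁ b₁) (hEf : ∀ i, FlatMod.IsFlat (E.X i)) (u : U)
    (h : DerSch.HasTorAmplitudeAt g a b N u) :
    DerSch.HasTorAmplitudeAt g (a₁ + a) (b₁ + b) ((DCoh.tensorCx.obj E).obj N) u := by
  have h1 := Groth.Agent.H4.TA2.hasTorAmp_res_tensor (g.stalkMap u).hom ((stalkCx u).obj E)
    ((stalkCx u).obj N) a₁ b₁ a b
    (fun i hi => (DerSch.stalkFunctor U u).map_isZero (hEz i (Or.inl hi)))
    (fun i hi => (DerSch.stalkFunctor U u).map_isZero (hEz i (Or.inr hi)))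
    (fun i => hEf i u) h
  exact hasTorAmp_of_iso (Q.mapIso ((DTen.resCx (g.stalkMap u).hom).mapIso
    (stalkTensorCxIso u E N).symm)) h1

/-- relative tor amplitude of `K ⊗^L M` near a point where `K` is perfect -/
theorem exists_torAmp_ltensor (f : X ⟶ S) (M : CochainComplex X.Modules ℤ) [DCoh.HasLTensorCx M]
    (K : DCoh.D X) (x : X) (hK : PerfAt K x) :
    ∃ (V : X.Opens) (a₁ b₁ : ℤ), x ∈ V ∧ ∀ v ∈ V, ∀ a b : ℤ,
      DerSch.HasTorAmplitudeAt f a b M v →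
      ∀ F' : CochainComplex X.Modules ℤ, Nonempty (DCoh.toD X F' ≅ (DCoh.LTensorCx M).obj K) →
        DerSch.HasTorAmplitudeAt f (a₁ + a) (b₁ + b) F' v := by
  obtain ⟨U₁, j₁, hj₁, E₁, hx₁, hE₁, ⟨e₁⟩⟩ := hK
  obtain ⟨⟨a₁, b₁, hab₁⟩, hE₁f⟩ := id hE₁
  refine ⟨j₁.opensRange, a₁, b₁, hx₁, ?_⟩
  rintro v ⟨u, rfl⟩ a b hM F' ⟨eF'⟩
  rw [← hasTorAmplitudeAt_resCx_iff f j₁ F' _ _ u]
  have hM' := (hasTorAmplitudeAt_resCx_iff f j₁ M a b u).2 hM
  have h1 := hasTorAmplitudeAt_tensor (j₁ ≫ f) E₁ ((resCx j₁).obj M) a₁ b₁ a b hab₁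
    (fun i => Groth.Agent.H4.FAmp2.isFlat_of_isFinLocFree _ (hE₁f i)) u hM'
  obtain ⟨P, c, hc, hP, -⟩ := exists_skf_resolution (Q.objPreimage K)
  haveI := hc
  have eP : Q.obj P ≅ K := asIso (Q.map c) ≪≫ Q.objObjPreimageIso K
  obtain ⟨e0⟩ := nonempty_RD_ltensor_iso j₁ M K P hP eP
  have eA : Q.obj ((resCx j₁).obj P) ≅ Q.obj E₁ :=
    (RDfac j₁ P).symm ≪≫ (RD j₁).mapIso eP ≪≫ e₁
  have hA : DCoh.IsKFlat ((resCx j₁).obj P) := isKFlat_of_skf _ (skf_resCx j₁ P hP)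
  have hA' : DCoh.IsKFlat E₁ := isKFlat_of_skf _ (skf_of_isStrictlyPerfect _ hE₁)
  obtain ⟨e3⟩ := nonempty_tensor_iso_of_kflat ((resCx j₁).obj M) hA hA' eA
  have e : DCoh.toD U₁ ((DCoh.tensorCx.obj E₁).obj ((resCx j₁).obj M)) ≅
      DCoh.toD U₁ ((resCx j₁).obj F') :=
    e3.symm ≪≫ e0.symm ≪≫ (RD j₁).mapIso eF'.symm ≪≫ RDfac j₁ F'
  exact hasTorAmplitudeAt_of_isoD (j₁ ≫ f) u e _ _ h1

theorem S7249 {X S : Scheme.{u}} (f : X ⟶ S) [Flat f] [LocallyOfFinitePresentation f]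
    (K : DCoh.D X) (hK : DCoh.IsPerfect K) (M : CochainComplex X.Modules ℤ)
    (hMpc : ∀ m : ℤ, DCoh.IsPseudoCoherentD m (DCoh.toD X M))
    (hMtor : DCoh.LocHasFiniteRelTorDim f (DCoh.toD X M)) [DCoh.HasLTensorCx M] :
    (∀ m : ℤ, DCoh.IsPseudoCoherentD m ((DCoh.LTensorCx M).obj K)) ∧
      DCoh.LocHasFiniteRelTorDim f ((DCoh.LTensorCx M).obj K) := by
  rw [isPerfect_iff_perfAt] at hK
  constructor
  · intro m
    rw [Groth.Agent.H4.TilD10.isPseudoCoherentD_iff_pcAt]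
    intro x
    exact pcAt_ltensor_perf M K x (hK x)
      (fun m' => (Groth.Agent.H4.TilD10.isPseudoCoherentD_iff_pcAt m' _).1 (hMpc m') x) m
  · rw [locHasFiniteRelTorDim_iff] at hMtor ⊢
    intro x
    obtain ⟨V, a, b, hxV, hV⟩ := hMtor x
    obtain ⟨V', a₁, b₁, hxV', hV'⟩ := exists_torAmp_ltensor f M K x (hK x)
    refine ⟨V ⊓ V', a₁ + a, b₁ + b, ⟨hxV, hxV'⟩, fun v hv => ?_⟩
    have h1 : DerSch.HasTorAmplitudeAt f a b M v :=
      (hasTorAmplitudeAt_iff_relStalkD f v M a b).2 (hV v hv.1)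
    let F' : CochainComplex X.Modules ℤ := Q.objPreimage ((DCoh.LTensorCx M).obj K)
    let e' : DCoh.toD X F' ≅ (DCoh.LTensorCx M).obj K := Q.objObjPreimageIso _
    have h2 := hV' v hv.2 a b h1 F' ⟨e'⟩
    rw [hasTorAmplitudeAt_iff_relStalkD] at h2
    exact hasTorAmp_of_iso ((relStalkD f v).mapIso e') h2

end RelTor

end Groth.Agent.H4.RT6
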