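import Mathlib
import Groth.Prelude.Def_DerSch
import Groth.Prelude.Def_DCoh4
import Groth.Agent.H4.RT6
import Groth.Agent.H4.GKS8
import Groth.Agent.H4.CohPC1

set_option autoImplicit false
universe u
open CategoryTheory CategoryTheory.Limits AlgebraicGeometry HomologicalComplex
attribute [local instance] HasDerivedCategory.standard

namespace Groth.Agent.H4.RT7

open Groth.Agent.H4.PSch1 Groth.Agent.H4.PSch2 Groth.Agent.H4.PSch3
  Groth.Agent.H4.LDS14 Groth.Agent.H4.LDS15 Groth.Agent.H4.LDS17 Groth.Agent.H4.LDS19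
  Groth.Agent.H4.LDS20 Groth.Agent.H4.RT1 Groth.Agent.H4.RT2 Groth.Agent.H4.RT4
  Groth.Agent.H4.RT5 Groth.Agent.H4.RT6 Groth.Agent.H4.LDS6 DerivedCategory
  Groth.Agent.H4.TilD9 Groth.Agent.H4.TilD10 Groth.Agent.H4.TilD11 Groth.Agent.LD.QC

variable {X U : Scheme.{u}}

/-- `D^{≤c} ⊗ D^{≤b} ⊆ D^{≤c+b}` when the first factor is K-flat -/
theorem isLE_tensor' (C N : CochainComplex X.Modules ℤ) (hC : DCoh.IsKFlat C) (c b : ℤ)
    [(DCoh.toD X C).IsLE c] [(DCoh.toD X N).IsLE b] :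
    (DCoh.toD X ((DCoh.tensorCx.obj C).obj N)).IsLE (c + b) := by
  obtain ⟨C', hC', ⟨e⟩⟩ := DerivedCategory.exists_iso_Q_obj_of_isLE (Q.obj C) c
  obtain ⟨C'', q, hK, -, hq, hz⟩ := Groth.Agent.H4.GKS8.exists_bddAbove_resolution_sch C' c
    (fun i hi => CochainComplex.isZero_of_isStrictlyLE C' c i hi)
  haveI := hq
  have e' : DCoh.toD X C ≅ DCoh.toD X C'' := e ≪≫ (asIso (Q.map q)).symm
  obtain ⟨e3⟩ := nonempty_tensor_iso_of_kflat N hC hK e'
  have := isLE_tensor C'' N hK c b hz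
  exact DerivedCategory.TStructure.t.isLE_of_iso e3.symm (c + b)

/-- tensoring a witness between K-flat complexes with a cohomologically bounded above complex -/
theorem isWitCx_tensor_right {A B : CochainComplex X.Modules ℤ} (g : A ⟶ B)
    (hA : DCoh.IsKFlat A) (hB : DCoh.IsKFlat B) (m : ℤ) (hg : IsWitCx m g)
    (N : CochainComplex X.Modules ℤ) (b : ℤ) [(DCoh.toD X N).IsLE b] :
    IsWitCx (m + b) (((DCoh.tensorCx (X := X)).flip.obj N).map g) := by
  rw [← isWitD_Q_map_iff] at hg ⊢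
  have hT := DerivedCategory.mappingCone_triangle_distinguished g
  have h1 := (Groth.Agent.H4.PCS1.isWitD_iff_isLE _ hT m).1 hg
  have hT' := DerivedCategory.mappingCone_triangle_distinguished
    (((DCoh.tensorCx (X := X)).flip.obj N).map g)
  refine (Groth.Agent.H4.PCS1.isWitD_iff_isLE _ hT' (m + b)).2 ?_
  change (Q.obj (CochainComplex.mappingCone (((DCoh.tensorCx (X := X)).flip.obj N).map g))).IsLE
    (m + b - 1)
  haveI : (DCoh.toD X (CochainComplex.mappingCone g)).IsLE (m - 1) := h1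
  have hc : DCoh.IsKFlat (CochainComplex.mappingCone g) :=
    Groth.Agent.H4.GK1.KFlat.cone g hA hB
  have h2 := isLE_tensor' (CochainComplex.mappingCone g) N hc (m - 1) b
  have e : DCoh.toD X ((DCoh.tensorCx.obj (CochainComplex.mappingCone g)).obj N) ≅
      Q.obj (CochainComplex.mappingCone (((DCoh.tensorCx (X := X)).flip.obj N).map g)) :=
    Q.mapIso (Groth.Agent.H4.TC2.coneIso₁ (DCoh.tensorBi (X := X)) g N)
  have h3 := DerivedCategory.TStructure.t.isLE_of_iso e (m - 1 + b)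
  rw [show m + b - 1 = m - 1 + b by ring]
  exact h3

lemma IsWitF.comp {C D : Type*} [Category C] [Category D] {H : ℤ → C ⥤ D} {m : ℤ} {A B E : C}
    {f : A ⟶ B} {g : B ⟶ E} (hf : IsWitF H m f) (hg : IsWitF H m g) : IsWitF H m (f ≫ g) := by
  refine ⟨fun i hi => ?_, ?_⟩
  · haveI := hf.1 i hi
    haveI := hg.1 i hi
    rw [Functor.map_comp]; infer_instance
  · haveI := hf.2
    haveI := hg.2
    rw [Functor.map_comp]; infer_instance

/-- restriction to an open is t-exact -/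
lemma isLE_RD (j : U ⟶ X) [IsOpenImmersion j] (K : DCoh.D X) (a : ℤ) [K.IsLE a] :
    ((RD j).obj K).IsLE a := by
  rw [DerivedCategory.isLE_iff]
  intro i hi
  exact IsZero.of_iso ((Scheme.Modules.restrictFunctor j).map_isZero
    (DerivedCategory.isZero_of_isLE K a i hi))
    ((mapDerivedCategoryHomologyIso (Scheme.Modules.restrictFunctor j) i).app K)

lemma locFreeWit_shrink {m : ℤ} {F : CochainComplex X.Modules ℤ} {U V : Scheme.{u}} (j : U ⟶ X)
    (l : V ⟶ U) [IsOpenImmersion j] [IsOpenImmersion l]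
    (P : CochainComplex U.Modules ℤ) (g : P ⟶ (resCx j).obj F) (a b : ℤ)
    (hab : DCoh.VanishesOutside P a b)
    (hfree : ∀ n, ∃ k : ℕ, Nonempty (P.X n ≅ FlatMod.freeMod U k)) (hg : IsWitCx m g) :
    ∃ (P' : CochainComplex V.Modules ℤ) (g' : P' ⟶ (resCx (l ≫ j)).obj F),
      DCoh.VanishesOutside P' a b ∧
      (∀ n, ∃ k : ℕ, Nonempty (P'.X n ≅ FlatMod.freeMod V k)) ∧ IsWitCx m g' := by
  refine ⟨(resCx l).obj P, (resCx l).map g ≫ (resCxComp l j).inv.app F, ?_, ?_, ?_⟩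
  · intro n hn
    exact (Scheme.Modules.restrictFunctor l).map_isZero (hab n hn)
  · intro n
    obtain ⟨k, ⟨e⟩⟩ := hfree n
    exact ⟨k, ⟨(Scheme.Modules.restrictFunctor l).mapIso e ≪≫ restrictFreeModIso l k⟩⟩
  · have h1 : IsWitCx m ((resCx l).map g) := hg.map (Scheme.Modules.restrictFunctor l)
    have := (isWitCx_iso_comp (m := m) (𝟙 _) ((resCx l).map g) ((resCxComp l j).inv.app F)).mpr h1
    simpa using this

/-- **pseudo-coherent `⊗^L` pseudo-coherent is pseudo-coherent**, pointwise form -/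
theorem pcAt_ltensor (M : CochainComplex X.Modules ℤ) [DCoh.HasLTensorCx M] (K : DCoh.D X)
    (x : X) (b : ℤ) [(DCoh.toD X M).IsLE b] (hK : ∀ m, PCAt m K x)
    (hM : ∀ m, PCAt m (Q.obj M) x) (m : ℤ) :
    PCAt m ((DCoh.LTensorCx M).obj K) x := by
  obtain ⟨P, c, hc, hP, -⟩ := exists_skf_resolution (Q.objPreimage K)
  haveI := hc
  have eP : Q.obj P ≅ K := asIso (Q.map c) ≪≫ Q.objObjPreimageIso K
  obtain ⟨U₁, j₁, hj₁, hx₁, P₁', g₁', a₁, b₁, hab₁', hfree₁', hg₁'⟩ :=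
    exists_locFreeWit_of_pcAt (m - b) P x (PCAt.of_iso eP.symm x (hK _))
  obtain ⟨U₂, j₂, hj₂, hx₂, lw⟩ := exists_locFreeWit_of_pcAt (m - b₁) M x (hM _)
  let U := pullback j₁ j₂
  let p₁ : U ⟶ U₁ := pullback.fst j₁ j₂
  let p₂ : U ⟶ U₂ := pullback.snd j₁ j₂
  let j : U ⟶ X := p₁ ≫ j₁
  have hj2 : j = p₂ ≫ j₂ := pullback.condition
  have hxj : x ∈ Set.range j := by
    rw [IsOpenImmersion.range_pullback_to_base_of_left]
    exact ⟨hx₁, hx₂⟩
  obtain ⟨P₂, g₂, a₂, b₂, hab₂, hfree₂, hg₂⟩ := lw.shrink j₂ p₂ j hj2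
  obtain ⟨P₁, g₁, hab₁, hfree₁, hg₁⟩ :=
    locFreeWit_shrink j₁ p₁ P₁' g₁' a₁ b₁ hab₁' hfree₁' hg₁'
  have hP₁ : DCoh.IsStrictlyPerfect P₁ := ⟨⟨a₁, b₁, hab₁⟩, fun n => by
    obtain ⟨k, ⟨e⟩⟩ := hfree₁ n
    exact isFinLocFree_of_iso e.symm (isFinLocFree_freeMod U k)⟩
  have hP₂ : DCoh.IsStrictlyPerfect P₂ := ⟨⟨a₂, b₂, hab₂⟩, fun n => by
    obtain ⟨k, ⟨e⟩⟩ := hfree₂ n
    exact isFinLocFree_of_iso e.symm (isFinLocFree_freeMod U k)⟩
  have hz : ∀ i, b₁ < i → IsZero (P₁.X i) := fun i hi => hab₁ i (Or.inr hi)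
  obtain ⟨e0⟩ := nonempty_RD_ltensor_iso j M K P hP eP
  have hA : DCoh.IsKFlat ((resCx j).obj P) := isKFlat_of_skf _ (skf_resCx j P hP)
  have hA' : DCoh.IsKFlat P₁ := isKFlat_of_skf _ (skf_of_isStrictlyPerfect _ hP₁)
  haveI : (DCoh.toD U ((resCx j).obj M)).IsLE b := by
    haveI := isLE_RD j (DCoh.toD X M) b
    exact DerivedCategory.TStructure.t.isLE_of_iso (RDfac j M) b
  have hw₁ := isWitCx_tensor P₁ hA' b₁ hz g₂ (m - b₁) hg₂
  rw [show b₁ + (m - b₁) = m by ring] at hw₁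
  have hw₂ := isWitCx_tensor_right g₁ hA' hA (m - b) hg₁ ((resCx j).obj M) b
  rw [show m - b + b = m by ring] at hw₂
  have hw : IsWitCx m ((((DCoh.tensorCx (X := U)).obj P₁).map g₂) ≫
      (((DCoh.tensorCx (X := U)).flip.obj ((resCx j).obj M)).map g₁)) := IsWitF.comp hw₁ hw₂
  refine ⟨U, j, inferInstance, (DCoh.tensorCx.obj P₁).obj P₂,
    Q.map ((((DCoh.tensorCx (X := U)).obj P₁).map g₂) ≫
      (((DCoh.tensorCx (X := U)).flip.obj ((resCx j).obj M)).map g₁)) ≫ e0.inv, hxj,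
    isStrictlyPerfect_tensorCx _ _ hP₁ hP₂, ?_⟩
  have h5 := (isWitD_iso_comp (m := m) (𝟙 _)
    (Q.map ((((DCoh.tensorCx (X := U)).obj P₁).map g₂) ≫
      (((DCoh.tensorCx (X := U)).flip.obj ((resCx j).obj M)).map g₁))) (e0.inv)).2
    ((isWitD_Q_map_iff _).2 hw)
  simpa using h5

/-- boundedness of the derived tensor product -/
theorem isLE_ltensor (M : CochainComplex X.Modules ℤ) [DCoh.HasLTensorCx M] (K : DCoh.D X)
    (a b : ℤ) [K.IsLE a] [(DCoh.toD X M).IsLE b] : ((DCoh.LTensorCx M).obj K).IsLE (a + b) := by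
  obtain ⟨P, c, hc, hP, -⟩ := exists_skf_resolution (Q.objPreimage K)
  haveI := hc
  have eP : Q.obj P ≅ K := asIso (Q.map c) ≪≫ Q.objObjPreimageIso K
  have e1 : (DCoh.LTensorCx M).obj K ≅ DCoh.toD X ((DCoh.tensorCx.obj P).obj M) :=
    (DCoh.LTensorCx M).mapIso eP.symm ≪≫
      Groth.Agent.H4.LTC2.LTensorCxIso M P (isKFlat_of_skf P hP)
  haveI : (DCoh.toD X P).IsLE a := DerivedCategory.TStructure.t.isLE_of_iso eP.symm a
  have := isLE_tensor' P M (isKFlat_of_skf P hP) a b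
  exact DerivedCategory.TStructure.t.isLE_of_iso e1.symm (a + b)

open Groth.Agent.H4.CohPC1 Groth.Agent.H4.PCS5 in
theorem S6498 (X : Scheme.{u}) [IsLocallyNoetherian X] (E : CochainComplex X.Modules ℤ)
    [DCoh.HasLTensorCx E] (L : DCoh.D X) (hL : DCoh.IsCohD L)
    (hLb : ∃ a : ℤ, ∀ i, a < i → IsZero (DCoh.HD L i)) (hE : DCoh.IsCohD (DCoh.toD X E))
    (hEb : ∃ b : ℤ, ∀ i, b < i → IsZero (DCoh.HD (DCoh.toD X E) i)) :
    DCoh.IsCohD ((DCoh.LTensorCx E).obj L) ∧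
      ∃ n : ℤ, ∀ i, n < i → IsZero (DCoh.HD ((DCoh.LTensorCx E).obj L) i) := by
  obtain ⟨a, ha⟩ := hLb
  obtain ⟨b, hb⟩ := hEb
  haveI : L.IsLE a := (DerivedCategory.isLE_iff L a).2 ha
  haveI : (DCoh.toD X E).IsLE b := (DerivedCategory.isLE_iff _ b).2 hb
  have hLpc : ∀ m x, PCAt m L x := fun m x =>
    pcAt_of_coh_aux x (a - m + 1).toNat L m a inferInstance (by omega) (fun i _ => hL i)
  have hEpc : ∀ m x, PCAt m (Q.obj E) x := fun m x =>
    pcAt_of_coh_aux x (b - m + 1).toNat (Q.obj E) m b inferInstance (by omega) (fun i _ => hE i)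
  have hpc : ∀ m x, PCAt m ((DCoh.LTensorCx E).obj L) x := fun m x =>
    pcAt_ltensor E L x b (fun m' => hLpc m' x) (fun m' => hEpc m' x) m
  have hq : DCoh.IsQCohD ((DCoh.LTensorCx E).obj L) := fun i =>
    (S7240 (i - 1) _ ((isPseudoCoherentD_iff_pcAt _ _).2 (hpc (i - 1)))).1 i (by omega)
  refine ⟨fun i => isCoh_HD_of_pc i _ hq (hpc i) i le_rfl, a + b, ?_⟩
  haveI := isLE_ltensor E L a b
  intro i hi
  exact DerivedCategory.isZero_of_isLE _ (a + b) i hi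

end Groth.Agent.H4.RT7
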