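import Mathlib
import Groth.Prelude.Def_DerSch
import Groth.Prelude.Def_DCoh4
import Groth.Prelude.Def_HTor
import Groth.Agent.H4.RT7
import Groth.Agent.H4.FlatPull1
import Groth.Agent.H4.LDS18
import Groth.Agent.Lib.Lead.QC.Pullback

set_option autoImplicit false
universe u
open CategoryTheory CategoryTheory.Limits AlgebraicGeometry HomologicalComplex
attribute [local instance] HasDerivedCategory.standard

namespace Groth.Agent.H4.FlatPull2

open Groth.Agent.H4.PSch1 Groth.Agent.H4.PSch2 Groth.Agent.H4.PSch3 Groth.Agent.H4.PSch4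
  Groth.Agent.H4.TilD9 Groth.Agent.H4.TilD10 Groth.Agent.H4.TilD11 Groth.Agent.LD.QC
  Groth.Agent.H4.FlatPull1 DerivedCategory

variable {X Y : Scheme.{u}}

theorem isCoh_pullback (f : X ⟶ Y) (M : Y.Modules) (hM : Coh.IsCoh M) :
    Coh.IsCoh ((Scheme.Modules.pullback f).obj M) := by
  haveI := hM.1
  exact ⟨qc_pullback f M, isFiniteType_pullback f M hM.2⟩

/-- cohomology sheaves of the termwise pullback along a flat morphism -/
noncomputable def HDPullCxIso (f : X ⟶ Y) [Flat f] (K : CochainComplex Y.Modules ℤ) (i : ℤ) :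
    DCoh.HD (DCoh.toD X ((HTor.pullCx f).obj K)) i ≅
      (Scheme.Modules.pullback f).obj (DCoh.HD (DCoh.toD Y K) i) :=
  haveI := preservesFiniteLimits_pullback_of_flat f
  (homologyFunctorFactors X.Modules i).app ((HTor.pullCx f).obj K) ≪≫
    (mapHCHomologyIso (Scheme.Modules.pullback f) i).app K ≪≫
    (Scheme.Modules.pullback f).mapIso ((homologyFunctorFactors Y.Modules i).app K).symm

open Groth.Agent.H4.CohPC1 Groth.Agent.H4.PCS5 Groth.Agent.H4.LDS18 in
theorem S3542 (X Y S : Scheme.{u}) (f : X ⟶ S) (g : Y ⟶ S) [Flat f]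
    [IsLocallyNoetherian X] [IsLocallyNoetherian (pullback f g)]
    (P : CochainComplex X.Modules ℤ) (Q' : CochainComplex Y.Modules ℤ)
    (bP : ∃ b : ℤ, ∀ i : ℤ, b < i → IsZero (P.X i)) (bQ : ∃ b : ℤ, ∀ i : ℤ, b < i → IsZero (Q'.X i))
    (hP : DCoh.IsCohD (DCoh.toD X P)) (hQ : DCoh.IsCohD (DCoh.toD Y Q'))
    [DCoh.HasLpull (pullback.fst f g)] [DCoh.HasLTensorCx ((HTor.pullCx (pullback.snd f g)).obj Q')] :
    DCoh.IsCohD ((DCoh.LTensorCx ((HTor.pullCx (pullback.snd f g)).obj Q')).obj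
      ((DCoh.Lpull (pullback.fst f g)).obj (DCoh.toD X P))) := by
  obtain ⟨bP, hbP⟩ := bP
  obtain ⟨bQ, hbQ⟩ := bQ
  haveI : Flat (pullback.snd f g) := MorphismProperty.pullback_snd (P := @Flat) _ _ inferInstance
  have hE' : DCoh.IsCohD (DCoh.toD (pullback f g) ((HTor.pullCx (pullback.snd f g)).obj Q')) :=
    fun i => isCoh_of_iso (HDPullCxIso (pullback.snd f g) Q' i).symm
      (isCoh_pullback (pullback.snd f g) _ (hQ i))
  haveI : ((HTor.pullCx (pullback.snd f g)).obj Q').IsStrictlyLE bQ := by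
    rw [CochainComplex.isStrictlyLE_iff]
    intro i hi
    exact (Scheme.Modules.pullback (pullback.snd f g)).map_isZero (hbQ i hi)
  have hE'b : ∃ b : ℤ, ∀ i, b < i →
      IsZero (DCoh.HD (DCoh.toD (pullback f g) ((HTor.pullCx (pullback.snd f g)).obj Q')) i) :=
    ⟨bQ, fun i hi => DerivedCategory.isZero_of_isLE _ bQ i hi⟩
  haveI : P.IsStrictlyLE bP := by
    rw [CochainComplex.isStrictlyLE_iff]
    intro i hi
    exact hbP i hi
  have hPpc : ∀ m, DCoh.IsPseudoCoherentD m (DCoh.toD X P) := fun m =>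
    (isPseudoCoherentD_iff_pcAt _ _).2 (fun x =>
      pcAt_of_coh_aux x (bP - m + 1).toNat _ m bP inferInstance (by omega) (fun i _ => hP i))
  have hLpc : ∀ m, DCoh.IsPseudoCoherentD m ((DCoh.Lpull (pullback.fst f g)).obj (DCoh.toD X P)) :=
    fun m => S0910 (pullback.fst f g) m _ (hPpc m)
  have hLq : DCoh.IsQCohD ((DCoh.Lpull (pullback.fst f g)).obj (DCoh.toD X P)) := fun i =>
    (S7240 (i - 1) _ (hLpc (i - 1))).1 i (by omega)
  have hLcoh : DCoh.IsCohD ((DCoh.Lpull (pullback.fst f g)).obj (DCoh.toD X P)) := fun i =>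
    isCoh_HD_of_pc i _ hLq ((isPseudoCoherentD_iff_pcAt _ _).1 (hLpc i)) i le_rfl
  haveI := isLE_lpull (pullback.fst f g) (DCoh.toD X P) bP
  exact (Groth.Agent.H4.RT7.S6498 (pullback f g) ((HTor.pullCx (pullback.snd f g)).obj Q')
    ((DCoh.Lpull (pullback.fst f g)).obj (DCoh.toD X P)) hLcoh
    ⟨bP, fun i hi => DerivedCategory.isZero_of_isLE _ bP i hi⟩ hE' hE'b).1

end Groth.Agent.H4.FlatPull2
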