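import Mathlib
import Groth.Agent.Lib.Helper9.Misc.ADL1

set_option linter.style.haveILetI false
set_option linter.unusedSectionVars false
set_option linter.unusedVariables false

namespace Groth.Agent.H4.FormalLift

universe u

open CategoryTheory AlgebraicGeometry Limits
open Groth.Agent.H9

/-! ### Local case -/
section Local

variable (C : Type u) [CommRing C] [IsLocalRing C]

theorem exists_point_closed (K1 : Ideal C) (h1 : K1 ≠ ⊤) :
    ∃ p : Spec (CommRingCat.of (C ⧸ K1)),
      (Spec.map (CommRingCat.ofHom (Ideal.Quotient.mk K1))) p = IsLocalRing.closedPoint C := by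
  have hmem : IsLocalRing.closedPoint C ∈
      Set.range (PrimeSpectrum.comap (Ideal.Quotient.mk K1)) := by
    rw [_root_.range_comap_of_surjective _ _ Ideal.Quotient.mk_surjective, Ideal.mk_ker,
      PrimeSpectrum.mem_zeroLocus]
    exact fun x hx => IsLocalRing.le_maximalIdeal h1 hx
  obtain ⟨p, hp⟩ := hmem
  exact ⟨p, hp⟩

theorem local_uniq (K : ℕ → Ideal C) (hinf : ∀ c : C, (∀ n, c ∈ K n) → c = 0) (h1 : K 1 ≠ ⊤)
    (Y : Scheme.{u}) (f g : Spec (CommRingCat.of C) ⟶ Y)
    (h : ∀ n : ℕ, Spec.map (CommRingCat.ofHom (Ideal.Quotient.mk (K n))) ≫ f =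
      Spec.map (CommRingCat.ofHom (Ideal.Quotient.mk (K n))) ≫ g) : f = g := by
  obtain ⟨p, hp⟩ := exists_point_closed C (K 1) h1
  have hx : f (IsLocalRing.closedPoint C) = g (IsLocalRing.closedPoint C) := by
    have h1' := congrArg (fun k : Spec (CommRingCat.of (C ⧸ K 1)) ⟶ Y => k p) (h 1)
    simp only [Scheme.Hom.comp_apply, hp] at h1'
    exact h1'
  obtain ⟨U, hU, hxU⟩ := ADL.exists_affine_mem Y (f (IsLocalRing.closedPoint C))
  have hfU : ⊤ ≤ f ⁻¹ᵁ U := (Scheme.preimage_eq_top_of_closedPoint_mem f hxU).ge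
  have hgU : ⊤ ≤ g ⁻¹ᵁ U := (Scheme.preimage_eq_top_of_closedPoint_mem g (hx ▸ hxU)).ge
  rw [ADL.eq_SpecMap_fromSpec hU f hfU, ADL.eq_SpecMap_fromSpec hU g hgU]
  set φf := f.appLE U ⊤ hfU ≫ (Scheme.ΓSpecIso (CommRingCat.of C)).hom with hφf
  set φg := g.appLE U ⊤ hgU ≫ (Scheme.ΓSpecIso (CommRingCat.of C)).hom with hφg
  have key : ∀ n, (Ideal.Quotient.mk (K n)).comp φf.hom =
      (Ideal.Quotient.mk (K n)).comp φg.hom := by
    intro n
    have h1 := h n
    rw [ADL.eq_SpecMap_fromSpec hU f hfU, ADL.eq_SpecMap_fromSpec hU g hgU, ← hφf, ← hφg,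
      ← Category.assoc, ← Category.assoc, ← Spec.map_comp, ← Spec.map_comp] at h1
    have h2 := ADL.SpecMap_fromSpec_injective hU _ _ h1
    exact congrArg CommRingCat.Hom.hom h2
  have : φf = φg := by
    apply CommRingCat.hom_ext
    apply RingHom.ext
    intro a
    rw [← sub_eq_zero]
    apply hinf
    intro n
    rw [← Ideal.Quotient.eq]
    exact RingHom.congr_fun (key n) a
  rw [this]

theorem local_exists (I : Ideal C) [IsAdicComplete I C] (hI : I ≠ ⊤)
    (hP : ∀ P : Ideal C, P.IsPrime → I ≤ P → P = IsLocalRing.maximalIdeal C)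
    (K : ℕ → Ideal C) (hK : ∀ n, K n = I ^ n) (hle : ∀ n, K (n + 1) ≤ K n)
    (Y : Scheme.{u}) (u : (n : ℕ) → (Spec (CommRingCat.of (C ⧸ K n)) ⟶ Y))
    (hu : ∀ n : ℕ, Spec.map (CommRingCat.ofHom (Ideal.Quotient.factor (hle n))) ≫ u (n + 1) =
      u n) :
    ∃ f : Spec (CommRingCat.of C) ⟶ Y, ∀ n : ℕ,
      Spec.map (CommRingCat.ofHom (Ideal.Quotient.mk (K n))) ≫ f = u n := by
  have hcl : ∀ n (p : Spec (CommRingCat.of (C ⧸ K n))),
      (Spec.map (CommRingCat.ofHom (Ideal.Quotient.mk (K n)))) p =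
        IsLocalRing.closedPoint C := by
    intro n p
    apply PrimeSpectrum.ext
    change Ideal.comap (Ideal.Quotient.mk (K n)) p.asIdeal = IsLocalRing.maximalIdeal C
    have hprime : (Ideal.comap (Ideal.Quotient.mk (K n)) p.asIdeal).IsPrime :=
      Ideal.IsPrime.comap _
    apply hP _ hprime
    have h1 : I ^ n ≤ Ideal.comap (Ideal.Quotient.mk (K n)) p.asIdeal := by
      rw [← hK n]
      intro a ha
      rw [Ideal.mem_comap, Ideal.Quotient.eq_zero_iff_mem.mpr ha]
      exact Ideal.zero_mem _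
    exact hprime.le_of_pow_le h1
  have hsub : ∀ n, Subsingleton (Spec (CommRingCat.of (C ⧸ K n))) := by
    intro n
    constructor
    intro p q
    have hinj := PrimeSpectrum.comap_injective_of_surjective (Ideal.Quotient.mk (K n))
      Ideal.Quotient.mk_surjective
    apply hinj
    exact (hcl n p).trans (hcl n q).symm
  have hne : ∀ n, 1 ≤ n → Nonempty (Spec (CommRingCat.of (C ⧸ K n))) := by
    intro n hn
    have : Nontrivial (C ⧸ K n) := by
      rw [Ideal.Quotient.nontrivial_iff, hK n]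
      intro h
      have h2 : I ^ n ≤ I := Ideal.pow_le_self (by omega)
      rw [h] at h2
      exact hI (top_le_iff.mp h2)
    exact inferInstanceAs (Nonempty (PrimeSpectrum (C ⧸ K n)))
  obtain ⟨p1⟩ := hne 1 le_rfl
  set x := u 1 p1 with hxdef
  have hpt : ∀ n, 1 ≤ n → ∀ p : Spec (CommRingCat.of (C ⧸ K n)), u n p = x := by
    intro n hn
    induction n, hn using Nat.le_induction with
    | base =>
      intro p
      haveI := hsub 1
      rw [Subsingleton.elim p p1]
    | succ n hn ih =>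
      intro p
      obtain ⟨p0⟩ := hne n hn
      haveI := hsub (n + 1)
      have h1 := congrArg (fun k : Spec (CommRingCat.of (C ⧸ K n)) ⟶ Y => k p0) (hu n)
      simp only [Scheme.Hom.comp_apply] at h1
      rw [Subsingleton.elim p _, h1]
      exact ih p0
  obtain ⟨U, hU, hxU⟩ := ADL.exists_affine_mem Y x
  have hle' : ∀ n, ⊤ ≤ (u n) ⁻¹ᵁ U := by
    intro n p _
    rcases Nat.eq_zero_or_pos n with rfl | hn
    · exfalso
      have : Subsingleton (C ⧸ K 0) := by
        rw [Ideal.Quotient.subsingleton_iff, hK 0, pow_zero, Ideal.one_eq_top]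
      have : IsEmpty (PrimeSpectrum (C ⧸ K 0)) := inferInstance
      exact this.false p
    · change u n p ∈ U
      rw [hpt n hn p]
      exact hxU
  let ψ : (n : ℕ) → (Γ(Y, U) ⟶ CommRingCat.of (C ⧸ K n)) := fun n =>
    (u n).appLE U ⊤ (hle' n) ≫ (Scheme.ΓSpecIso (CommRingCat.of (C ⧸ K n))).hom
  have hψ : ∀ n, u n = Spec.map (ψ n) ≫ hU.fromSpec :=
    fun n => ADL.eq_SpecMap_fromSpec hU (u n) (hle' n)
  have hcompat : ∀ m : ℕ, (Ideal.Quotient.factor (hle m)).comp (ψ (m + 1)).hom =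
      (ψ m).hom := by
    intro m
    have h1 := hu m
    rw [hψ (m + 1), hψ m, ← Category.assoc, ← Spec.map_comp] at h1
    have h2 := ADL.SpecMap_fromSpec_injective hU _ _ h1
    exact congrArg CommRingCat.Hom.hom h2
  let E : (n : ℕ) → (C ⧸ K n ≃+* C ⧸ I ^ n) := fun n => Ideal.quotEquivOfEq (hK n)
  let ψ' : (n : ℕ) → (Γ(Y, U) →+* C ⧸ I ^ n) := fun n => (E n).toRingHom.comp (ψ n).hom
  have hcompat' : ∀ {m : ℕ}, (Ideal.Quotient.factorPow I
      (strictMono_id.monotone m.le_succ)).comp (ψ' (m + 1)) = ψ' m := by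
    intro m
    apply RingHom.ext
    intro a
    have h1 := RingHom.congr_fun (hcompat m) a
    change Ideal.Quotient.factorPow I (Nat.le_succ m) (E (m + 1) ((ψ (m + 1)).hom a)) =
      E m ((ψ m).hom a)
    rw [← h1]
    obtain ⟨c, hc⟩ := Ideal.Quotient.mk_surjective ((ψ (m + 1)).hom a)
    rw [RingHom.comp_apply, ← hc]
    rfl
  let Ψ : Γ(Y, U) →+* C :=
    IsAdicComplete.StrictMono.liftRingHom I strictMono_id ψ' hcompat'
  have hΨ : ∀ n, (Ideal.Quotient.mk (I ^ n)).comp Ψ = ψ' n := fun n =>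
    IsAdicComplete.StrictMono.mk_comp_liftRingHom I strictMono_id ψ' hcompat'
  have hΨ' : ∀ n, (Ideal.Quotient.mk (K n)).comp Ψ = (ψ n).hom := by
    intro n
    apply RingHom.ext
    intro a
    apply (E n).injective
    have h1 := RingHom.congr_fun (hΨ n) a
    exact h1
  refine ⟨Spec.map (CommRingCat.ofHom Ψ) ≫ hU.fromSpec, fun n => ?_⟩
  rw [hψ n, ← Category.assoc, ← Spec.map_comp]
  congr 2
  exact CommRingCat.hom_ext (hΨ' n)

end Local

/-! ### Idempotents -/
section Idem

variable {B : Type u} [CommRing B] (I : Ideal B)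

theorem idem_eq_zero_of_mem_jacobson {x : B} (hx : IsIdempotentElem x)
    (hj : x ∈ (⊥ : Ideal B).jacobson) : x = 0 := by
  have h1 : IsUnit (x * (-1) + 1) := Ideal.mem_jacobson_bot.mp hj (-1)
  have h2 : (x * (-1) + 1) * x = 0 := by
    have h3 : x * x = x := hx.eq
    linear_combination (-1 : B) * h3
  exact h1.mul_right_eq_zero.mp h2

theorem idem_eq_zero (hI : I ≤ (⊥ : Ideal B).jacobson) {x : B} (hx : IsIdempotentElem x)
    (h : ∀ v : PrimeSpectrum (B ⧸ I), Ideal.Quotient.mk I x ∈ v.asIdeal) : x = 0 := by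
  have hnil : IsNilpotent (Ideal.Quotient.mk I x) :=
    nilpotent_iff_mem_prime.mpr fun J hJ => h ⟨J, hJ⟩
  have hx' : IsIdempotentElem (Ideal.Quotient.mk I x) := hx.map (Ideal.Quotient.mk I)
  have h0 : Ideal.Quotient.mk I x = 0 := by
    obtain ⟨n, hn⟩ := hnil
    cases n with
    | zero =>
      rw [pow_zero] at hn
      calc Ideal.Quotient.mk I x = Ideal.Quotient.mk I x * 1 := (mul_one _).symm
        _ = 0 := by rw [hn, mul_zero]
    | succ n => exact (hx'.pow_succ_eq n).symm.trans hn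
  exact idem_eq_zero_of_mem_jacobson hx (hI (Ideal.Quotient.eq_zero_iff_mem.mp h0))

open Polynomial in
theorem exists_idem_lift [HenselianRing B I] (r : B ⧸ I) (hr : IsIdempotentElem r) :
    ∃ e : B, IsIdempotentElem e ∧ Ideal.Quotient.mk I e = r := by
  obtain ⟨a, rfl⟩ := Ideal.Quotient.mk_surjective r
  have h1 : a * a - a ∈ I := by
    rw [← Ideal.Quotient.eq_zero_iff_mem, map_sub, map_mul, hr.eq, sub_self]
  have hmonic : (X ^ 2 - X : B[X]).Monic := by
    apply Polynomial.monic_X_pow_sub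
    exact lt_of_le_of_lt degree_X_le (by norm_num)
  have hev : (X ^ 2 - X : B[X]).eval a ∈ I := by
    have : (X ^ 2 - X : B[X]).eval a = a * a - a := by simp [pow_two]
    rw [this]; exact h1
  have hder : IsUnit (Ideal.Quotient.mk I ((X ^ 2 - X : B[X]).derivative.eval a)) := by
    have : (X ^ 2 - X : B[X]).derivative.eval a = 2 * a - 1 := by
      simp
      ring
    rw [this]
    refine IsUnit.of_mul_eq_one (Ideal.Quotient.mk I (2 * a - 1)) ?_
    rw [← map_mul, ← map_one (Ideal.Quotient.mk I), Ideal.Quotient.eq]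
    have : (2 * a - 1) * (2 * a - 1) - 1 = 4 * (a * a - a) := by ring
    rw [this]; exact I.mul_mem_left _ h1
  obtain ⟨e, he, hea⟩ := HenselianRing.is_henselian (X ^ 2 - X : B[X]) hmonic a hev hder
  refine ⟨e, ?_, Ideal.Quotient.eq.mpr hea⟩
  have h2 : e ^ 2 - e = 0 := by simpa [Polynomial.IsRoot] using he
  show e * e = e
  linear_combination h2

theorem exists_family [HenselianRing B I] [IsArtinianRing (B ⧸ I)] :
    ∃ e : PrimeSpectrum (B ⧸ I) → B, (∀ z, IsIdempotentElem (e z)) ∧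
      (∀ z, Ideal.Quotient.mk I (e z) ∉ z.asIdeal) ∧
      (∀ z w : PrimeSpectrum (B ⧸ I), w ≠ z → Ideal.Quotient.mk I (e z) ∈ w.asIdeal) := by
  have h : ∀ z : PrimeSpectrum (B ⧸ I), ∃ e : B, IsIdempotentElem e ∧
      Ideal.Quotient.mk I e ∉ z.asIdeal ∧
      ∀ w : PrimeSpectrum (B ⧸ I), w ≠ z → Ideal.Quotient.mk I e ∈ w.asIdeal := by
    intro z
    obtain ⟨r, hr1, hr2, hr3⟩ := IsArtinianRing.exists_not_mem_forall_mem_of_ne z.asIdeal
    obtain ⟨e, he1, he2⟩ := exists_idem_lift I r hr2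
    refine ⟨e, he1, by rwa [he2], fun w hw => ?_⟩
    rw [he2]
    exact hr3 w.asIdeal w.isPrime (fun h => hw (PrimeSpectrum.ext h))
  choose e h1 h2 h3 using h
  exact ⟨e, h1, h2, h3⟩

theorem coi_of_family (hI : I ≤ (⊥ : Ideal B).jacobson) [Fintype (PrimeSpectrum (B ⧸ I))]
    (e : PrimeSpectrum (B ⧸ I) → B) (h1 : ∀ z, IsIdempotentElem (e z))
    (h2 : ∀ z, Ideal.Quotient.mk I (e z) ∉ z.asIdeal)
    (h3 : ∀ z w : PrimeSpectrum (B ⧸ I), w ≠ z → Ideal.Quotient.mk I (e z) ∈ w.asIdeal) :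
    CompleteOrthogonalIdempotents e := by
  classical
  have hortho : OrthogonalIdempotents e := by
    refine ⟨h1, ?_⟩
    intro z w hzw
    show e z * e w = 0
    apply idem_eq_zero I hI
    · show e z * e w * (e z * e w) = e z * e w
      have ha := (h1 z).eq
      have hb := (h1 w).eq
      calc e z * e w * (e z * e w) = (e z * e z) * (e w * e w) := by ring
        _ = e z * e w := by rw [ha, hb]
    · intro v
      rw [map_mul]
      by_cases hv : v = z
      · subst hv
        exact Ideal.mul_mem_left _ _ (h3 w v hzw)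
      · exact Ideal.mul_mem_right _ _ (h3 z v hv)
  refine ⟨hortho, ?_⟩
  have hs : IsIdempotentElem (1 - ∑ z, e z) := (hortho.isIdempotentElem_sum).one_sub
  have h0 : 1 - ∑ z, e z = 0 := by
    apply idem_eq_zero I hI hs
    intro v
    rw [map_sub, map_one, map_sum]
    have hv1 : 1 - Ideal.Quotient.mk I (e v) ∈ v.asIdeal := by
      have hmul : Ideal.Quotient.mk I (e v) * (1 - Ideal.Quotient.mk I (e v)) ∈ v.asIdeal := by
        have : Ideal.Quotient.mk I (e v) * (1 - Ideal.Quotient.mk I (e v)) = 0 := by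
          rw [mul_sub, mul_one, ← map_mul, (h1 v).eq, sub_self]
        rw [this]; exact Ideal.zero_mem _
      exact (v.isPrime.mem_or_mem hmul).resolve_left (h2 v)
    have hsplit : ∑ z, Ideal.Quotient.mk I (e z) = Ideal.Quotient.mk I (e v) +
        ∑ z ∈ Finset.univ.erase v, Ideal.Quotient.mk I (e z) :=
      (Finset.add_sum_erase _ _ (Finset.mem_univ v)).symm
    rw [hsplit, ← sub_sub]
    refine Ideal.sub_mem _ hv1 (Ideal.sum_mem _ fun z hz => ?_)
    exact h3 z v (Finset.ne_of_mem_erase hz).symm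
  exact (sub_eq_zero.mp h0).symm

theorem prime_unique (e : PrimeSpectrum (B ⧸ I) → B)
    (h3 : ∀ z w : PrimeSpectrum (B ⧸ I), w ≠ z → Ideal.Quotient.mk I (e z) ∈ w.asIdeal)
    (z : PrimeSpectrum (B ⧸ I)) (P : Ideal B) [hPp : P.IsPrime] (hIP : I ≤ P)
    (hP : 1 - e z ∈ P) :
    P = Ideal.comap (Ideal.Quotient.mk I) z.asIdeal := by
  have hsurj : Function.Surjective (Ideal.Quotient.mk I) := Ideal.Quotient.mk_surjective
  have hker : RingHom.ker (Ideal.Quotient.mk I) ≤ P := by rw [Ideal.mk_ker]; exact hIP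
  have hq : (P.map (Ideal.Quotient.mk I)).IsPrime := Ideal.map_isPrime_of_surjective hsurj hker
  have hcm : (P.map (Ideal.Quotient.mk I)).comap (Ideal.Quotient.mk I) = P := by
    rw [Ideal.comap_map_of_surjective _ hsurj, ← RingHom.ker_eq_comap_bot, sup_eq_left]
    exact hker
  by_contra hne
  have hz : (⟨P.map (Ideal.Quotient.mk I), hq⟩ : PrimeSpectrum (B ⧸ I)) ≠ z := by
    intro h
    apply hne
    rw [← h]
    exact hcm.symm
  have h1 := h3 z _ hz
  have h2 : Ideal.Quotient.mk I (1 - e z) ∈ P.map (Ideal.Quotient.mk I) :=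
    Ideal.mem_map_of_mem _ hP
  have h4 : (1 : B ⧸ I) ∈ P.map (Ideal.Quotient.mk I) := by
    have := Ideal.add_mem _ h1 h2
    rwa [← map_add, add_sub_cancel, map_one] at this
  exact hq.ne_top ((Ideal.eq_top_iff_one _).mpr h4)

theorem prime_eq (e : PrimeSpectrum (B ⧸ I) → B)
    (h3 : ∀ z w : PrimeSpectrum (B ⧸ I), w ≠ z → Ideal.Quotient.mk I (e z) ∈ w.asIdeal)
    (z : PrimeSpectrum (B ⧸ I)) (P Q : Ideal (B ⧸ Ideal.span {1 - e z})) [P.IsPrime] [Q.IsPrime]
    (hP : I.map (Ideal.Quotient.mk (Ideal.span {1 - e z})) ≤ P)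
    (hQ : I.map (Ideal.Quotient.mk (Ideal.span {1 - e z})) ≤ Q) : P = Q := by
  have key : ∀ N : Ideal (B ⧸ Ideal.span {1 - e z}), N.IsPrime →
      I.map (Ideal.Quotient.mk (Ideal.span {1 - e z})) ≤ N →
      N = (Ideal.comap (Ideal.Quotient.mk I) z.asIdeal).map
        (Ideal.Quotient.mk (Ideal.span {1 - e z})) := by
    intro N hN hIN
    haveI hN' : (N.comap (Ideal.Quotient.mk (Ideal.span {1 - e z}))).IsPrime :=
      Ideal.IsPrime.comap _
    have h1 : I ≤ N.comap (Ideal.Quotient.mk (Ideal.span {1 - e z})) :=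
      Ideal.map_le_iff_le_comap.mp hIN
    have h2 : 1 - e z ∈ N.comap (Ideal.Quotient.mk (Ideal.span {1 - e z})) := by
      rw [Ideal.mem_comap,
        Ideal.Quotient.eq_zero_iff_mem.mpr (Ideal.mem_span_singleton_self (1 - e z))]
      exact Ideal.zero_mem _
    have h3' := prime_unique I e h3 z (N.comap (Ideal.Quotient.mk (Ideal.span {1 - e z}))) h1 h2
    rw [← h3', Ideal.map_comap_of_surjective _ Ideal.Quotient.mk_surjective]
  rw [key P inferInstance hP, key Q inferInstance hQ]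

theorem isLocalRing_quot (hI : I ≤ (⊥ : Ideal B).jacobson)
    (e : PrimeSpectrum (B ⧸ I) → B) (h1 : ∀ z, IsIdempotentElem (e z))
    (h2 : ∀ z, Ideal.Quotient.mk I (e z) ∉ z.asIdeal)
    (h3 : ∀ z w : PrimeSpectrum (B ⧸ I), w ≠ z → Ideal.Quotient.mk I (e z) ∈ w.asIdeal)
    (z : PrimeSpectrum (B ⧸ I)) : IsLocalRing (B ⧸ Ideal.span {1 - e z}) := by
  have hnt : Nontrivial (B ⧸ Ideal.span {1 - e z}) := by
    rw [Ideal.Quotient.nontrivial_iff]
    intro htop
    have h1' : (1 : B) ∈ Ideal.span {1 - e z} := by rw [htop]; exact Submodule.mem_top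
    obtain ⟨b, hb⟩ := Ideal.mem_span_singleton'.mp h1'
    have hez : e z = 0 := by
      calc e z = e z * (b * (1 - e z)) := by rw [hb, mul_one]
        _ = b * (e z - e z * e z) := by ring
        _ = 0 := by rw [(h1 z).eq, sub_self, mul_zero]
    exact h2 z (by rw [hez, map_zero]; exact Ideal.zero_mem _)
  have hjac : ∀ N : Ideal (B ⧸ Ideal.span {1 - e z}), N.IsMaximal →
      I.map (Ideal.Quotient.mk (Ideal.span {1 - e z})) ≤ N := by
    intro N hN
    rw [Ideal.map_le_iff_le_comap]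
    haveI : (N.comap (Ideal.Quotient.mk (Ideal.span {1 - e z}))).IsMaximal :=
      Ideal.comap_isMaximal_of_surjective _ Ideal.Quotient.mk_surjective
    exact hI.trans (sInf_le ⟨bot_le, this⟩)
  obtain ⟨M, hM⟩ := Ideal.exists_maximal (B ⧸ Ideal.span {1 - e z})
  refine IsLocalRing.of_unique_max_ideal ⟨M, hM, fun N hN => ?_⟩
  haveI := hM.isPrime
  haveI := hN.isPrime
  exact prime_eq I e h3 z N M (hjac N hN) (hjac M hM)

theorem prime_eq_maximal (hI : I ≤ (⊥ : Ideal B).jacobson)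
    (e : PrimeSpectrum (B ⧸ I) → B)
    (h3 : ∀ z w : PrimeSpectrum (B ⧸ I), w ≠ z → Ideal.Quotient.mk I (e z) ∈ w.asIdeal)
    (z : PrimeSpectrum (B ⧸ I)) [IsLocalRing (B ⧸ Ideal.span {1 - e z})]
    (P : Ideal (B ⧸ Ideal.span {1 - e z})) (hP : P.IsPrime)
    (hIP : I.map (Ideal.Quotient.mk (Ideal.span {1 - e z})) ≤ P) :
    P = IsLocalRing.maximalIdeal (B ⧸ Ideal.span {1 - e z}) := by
  haveI := hP
  refine prime_eq I e h3 z P _ hIP ?_
  rw [Ideal.map_le_iff_le_comap]
  haveI : (Ideal.comap (Ideal.Quotient.mk (Ideal.span {1 - e z}))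
      (IsLocalRing.maximalIdeal (B ⧸ Ideal.span {1 - e z}))).IsMaximal :=
    Ideal.comap_isMaximal_of_surjective _ Ideal.Quotient.mk_surjective
  exact hI.trans (sInf_le ⟨bot_le, this⟩)

end Idem

/-! ### Covering by the components of a complete family of idempotents -/
section Cov

variable {R : Type u} [CommRing R] {ι : Type u} [Fintype ι] (e : ι → R)

noncomputable def covT :
    (∐ fun i => Spec (CommRingCat.of (R ⧸ Ideal.span {1 - e i}))) ⟶ Spec (CommRingCat.of R) :=
  sigmaSpec (fun i => CommRingCat.of (R ⧸ Ideal.span {1 - e i})) ≫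
    Spec.map (CommRingCat.ofHom (RingHom.pi fun i => Ideal.Quotient.mk (Ideal.span {1 - e i})))

theorem ι_covT (i : ι) : Sigma.ι _ i ≫ covT e =
    Spec.map (CommRingCat.ofHom (Ideal.Quotient.mk (Ideal.span {1 - e i}))) := by
  unfold covT
  rw [ι_sigmaSpec_assoc, ← Spec.map_comp]
  rfl

theorem isIso_covT (he : CompleteOrthogonalIdempotents e) : IsIso (covT e) := by
  have hbij := he.bijective_pi
  haveI : IsIso (Spec.map (CommRingCat.ofHom
      (RingHom.pi fun i => Ideal.Quotient.mk (Ideal.span {1 - e i})))) :=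
    isIso_SpecMap_iff.mpr hbij
  unfold covT
  infer_instance

theorem cov_ext (he : CompleteOrthogonalIdempotents e) {Y : Scheme.{u}}
    (f g : Spec (CommRingCat.of R) ⟶ Y)
    (h : ∀ i, Spec.map (CommRingCat.ofHom (Ideal.Quotient.mk (Ideal.span {1 - e i}))) ≫ f =
      Spec.map (CommRingCat.ofHom (Ideal.Quotient.mk (Ideal.span {1 - e i}))) ≫ g) : f = g := by
  haveI := isIso_covT e he
  rw [← cancel_epi (covT e)]
  apply Sigma.hom_ext
  intro i
  rw [← Category.assoc, ← Category.assoc, ι_covT]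
  exact h i

theorem cov_glue (he : CompleteOrthogonalIdempotents e) {Y : Scheme.{u}}
    (h : ∀ i, Spec (CommRingCat.of (R ⧸ Ideal.span {1 - e i})) ⟶ Y) :
    ∃ f : Spec (CommRingCat.of R) ⟶ Y,
      ∀ i, Spec.map (CommRingCat.ofHom (Ideal.Quotient.mk (Ideal.span {1 - e i}))) ≫ f = h i := by
  haveI := isIso_covT e he
  refine ⟨inv (covT e) ≫ Sigma.desc h, fun i => ?_⟩
  rw [← ι_covT, Category.assoc, IsIso.hom_inv_id_assoc, Sigma.ι_desc]

end Cov

/-! ### Completeness of finite modules -/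
section Complete

theorem isAdicComplete_of_finite (A : Type u) [CommRing A] [IsLocalRing A] [IsNoetherianRing A]
    (I : Ideal A) (hI : I ≠ ⊤) [IsAdicComplete I A] (M : Type u) [AddCommGroup M] [Module A M]
    [Module.Finite A M] : IsAdicComplete I M := by
  rw [← AdicCompletion.of_bijective_iff]
  constructor
  · rw [AdicCompletion.of_injective_iff, isHausdorff_iff]
    intro x hx
    have h := Ideal.iInf_pow_smul_eq_bot_of_isLocalRing (M := M) I hI
    have hmem : x ∈ (⨅ i : ℕ, I ^ i • ⊤ : Submodule A M) := by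
      rw [Submodule.mem_iInf]
      intro n
      exact SModEq.zero.mp (hx n)
    rw [h] at hmem
    exact (Submodule.mem_bot A).mp hmem
  · intro y
    obtain ⟨t, rfl⟩ := AdicCompletion.ofTensorProduct_surjective_of_finite I M y
    induction t using TensorProduct.induction_on with
    | zero => exact ⟨0, by simp⟩
    | tmul r m =>
      obtain ⟨a, rfl⟩ := AdicCompletion.of_surjective I A r
      refine ⟨a • m, ?_⟩
      rw [AdicCompletion.ofTensorProduct_tmul, map_smul]
      have h1 : AdicCompletion.of I A a = algebraMap A (AdicCompletion I A) a := by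
        rw [AdicCompletion.algebraMap_apply]; rfl
      rw [h1, algebraMap_smul]
    | add x y hx hy =>
      obtain ⟨a, ha⟩ := hx
      obtain ⟨b, hb⟩ := hy
      exact ⟨a + b, by rw [map_add, ha, hb, map_add]⟩

theorem isArtinianRing_quot (A B : Type u) [CommRing A] [IsLocalRing A] [CommRing B]
    [Algebra A B] [Module.Finite A B] :
    IsArtinianRing (B ⧸ Ideal.map (algebraMap A B) (IsLocalRing.maximalIdeal A)) := by
  letI : Field (A ⧸ IsLocalRing.maximalIdeal A) := Ideal.Quotient.field _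
  haveI : Module.Finite (A ⧸ IsLocalRing.maximalIdeal A)
      (B ⧸ Ideal.map (algebraMap A B) (IsLocalRing.maximalIdeal A)) :=
    Module.Finite.of_restrictScalars_finite A _ _
  exact IsArtinianRing.of_finite (A ⧸ IsLocalRing.maximalIdeal A) _

end Complete

/-! ### Main -/
section Main

variable (A : Type u) [CommRing A] [IsLocalRing A]

abbrev Jn (C : Type u) [CommRing C] [Algebra A C] (n : ℕ) : Ideal C :=
  Ideal.map (algebraMap A C) (IsLocalRing.maximalIdeal A ^ n)

theorem Jn_eq_pow (C : Type u) [CommRing C] [Algebra A C] (n : ℕ) :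
    Jn A C n = (Ideal.map (algebraMap A C) (IsLocalRing.maximalIdeal A)) ^ n :=
  Ideal.map_pow _ _ _

theorem Jn_succ_le (C : Type u) [CommRing C] [Algebra A C] (n : ℕ) :
    Jn A C (n + 1) ≤ Jn A C n :=
  Ideal.map_mono (Ideal.pow_le_pow_right (Nat.le_succ n))

theorem isAdicComplete_map [IsNoetherianRing A] [IsAdicComplete (IsLocalRing.maximalIdeal A) A]
    (C : Type u) [CommRing C] [Algebra A C] [Module.Finite A C] :
    IsAdicComplete (Ideal.map (algebraMap A C) (IsLocalRing.maximalIdeal A)) C := by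
  rw [IsAdicComplete.map_algebraMap_iff]
  exact isAdicComplete_of_finite A (IsLocalRing.maximalIdeal A)
    (Ideal.IsPrime.ne_top inferInstance) C

theorem map_le_maximalIdeal [IsNoetherianRing A]
    [IsAdicComplete (IsLocalRing.maximalIdeal A) A]
    (C : Type u) [CommRing C] [IsLocalRing C] [Algebra A C] [Module.Finite A C] :
    Ideal.map (algebraMap A C) (IsLocalRing.maximalIdeal A) ≤ IsLocalRing.maximalIdeal C := by
  haveI := isAdicComplete_map A C
  exact (IsAdicComplete.le_jacobson_bot _).trans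
    (sInf_le ⟨bot_le, IsLocalRing.maximalIdeal.isMaximal C⟩)

theorem comp_uniq [IsNoetherianRing A] [IsAdicComplete (IsLocalRing.maximalIdeal A) A]
    (C : Type u) [CommRing C] [IsLocalRing C] [Algebra A C] [Module.Finite A C]
    (Y : Scheme.{u}) (f g : Spec (CommRingCat.of C) ⟶ Y)
    (h : ∀ n : ℕ, Spec.map (CommRingCat.ofHom (Ideal.Quotient.mk (Jn A C n))) ≫ f =
      Spec.map (CommRingCat.ofHom (Ideal.Quotient.mk (Jn A C n))) ≫ g) : f = g := by
  haveI hc : IsAdicComplete (Ideal.map (algebraMap A C) (IsLocalRing.maximalIdeal A)) C :=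
    isAdicComplete_map A C
  refine local_uniq C (Jn A C) ?_ ?_ Y f g h
  · intro c hc'
    apply IsHausdorff.haus (hc.toIsHausdorff) c
    intro n
    rw [SModEq.zero, smul_eq_mul, Ideal.mul_top, ← Jn_eq_pow]
    exact hc' n
  · intro htop
    have h1 : Jn A C 1 ≤ IsLocalRing.maximalIdeal C := by
      rw [Jn_eq_pow, pow_one]
      exact map_le_maximalIdeal A C
    rw [htop] at h1
    exact (IsLocalRing.maximalIdeal.isMaximal C).ne_top (top_le_iff.mp h1)

theorem comp_exists [IsNoetherianRing A] [IsAdicComplete (IsLocalRing.maximalIdeal A) A]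
    (C : Type u) [CommRing C] [IsLocalRing C] [Algebra A C] [Module.Finite A C]
    (hP : ∀ P : Ideal C, P.IsPrime →
      Ideal.map (algebraMap A C) (IsLocalRing.maximalIdeal A) ≤ P →
      P = IsLocalRing.maximalIdeal C)
    (Y : Scheme.{u}) (u : (n : ℕ) → (Spec (CommRingCat.of (C ⧸ Jn A C n)) ⟶ Y))
    (hu : ∀ n : ℕ, Spec.map (CommRingCat.ofHom
      (Ideal.Quotient.factor (Jn_succ_le A C n))) ≫ u (n + 1) = u n) :
    ∃ f : Spec (CommRingCat.of C) ⟶ Y, ∀ n : ℕ,
      Spec.map (CommRingCat.ofHom (Ideal.Quotient.mk (Jn A C n))) ≫ f = u n := by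
  haveI hc : IsAdicComplete (Ideal.map (algebraMap A C) (IsLocalRing.maximalIdeal A)) C :=
    isAdicComplete_map A C
  refine local_exists C (Ideal.map (algebraMap A C) (IsLocalRing.maximalIdeal A)) ?_ hP
    (Jn A C) (Jn_eq_pow A C) (Jn_succ_le A C) Y u hu
  intro htop
  have h1 := map_le_maximalIdeal A C
  rw [htop] at h1
  exact (IsLocalRing.maximalIdeal.isMaximal C).ne_top (top_le_iff.mp h1)

theorem Jn_le_comap (B : Type u) [CommRing B] [Algebra A B] (K : Ideal B) (n : ℕ) :
    Jn A B n ≤ (Jn A (B ⧸ K) n).comap (Ideal.Quotient.mk K) := by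
  rw [Ideal.map_le_iff_le_comap]
  intro a ha
  rw [Ideal.mem_comap, Ideal.mem_comap]
  exact Ideal.mem_map_of_mem _ ha

noncomputable def θ (B : Type u) [CommRing B] [Algebra A B] (K : Ideal B) (n : ℕ) :
    B ⧸ Jn A B n →+* (B ⧸ K) ⧸ Jn A (B ⧸ K) n :=
  Ideal.quotientMap _ (Ideal.Quotient.mk K) (Jn_le_comap A B K n)

theorem θ_comp_mk (B : Type u) [CommRing B] [Algebra A B] (K : Ideal B) (n : ℕ) :
    (θ A B K n).comp (Ideal.Quotient.mk (Jn A B n)) =
      (Ideal.Quotient.mk (Jn A (B ⧸ K) n)).comp (Ideal.Quotient.mk K) :=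
  Ideal.quotientMap_comp_mk _

theorem θ_factor (B : Type u) [CommRing B] [Algebra A B] (K : Ideal B) (n : ℕ) :
    (θ A B K n).comp (Ideal.Quotient.factor (Jn_succ_le A B n)) =
      (Ideal.Quotient.factor (Jn_succ_le A (B ⧸ K) n)).comp (θ A B K (n + 1)) := by
  apply Ideal.Quotient.ringHom_ext
  apply RingHom.ext
  intro b
  rfl

theorem key_sq (B : Type u) [CommRing B] [Algebra A B] (K : Ideal B) (n : ℕ) :
    Spec.map (CommRingCat.ofHom (Ideal.Quotient.mk (Jn A (B ⧸ K) n))) ≫
      Spec.map (CommRingCat.ofHom (Ideal.Quotient.mk K)) =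
    Spec.map (CommRingCat.ofHom (θ A B K n)) ≫
      Spec.map (CommRingCat.ofHom (Ideal.Quotient.mk (Jn A B n))) := by
  rw [← Spec.map_comp, ← Spec.map_comp, ← CommRingCat.ofHom_comp, ← CommRingCat.ofHom_comp,
    θ_comp_mk]

theorem exists_s (B : Type u) [CommRing B] [Algebra A B] (e : B) (n : ℕ) :
    ∃ s : (B ⧸ Ideal.span {1 - e}) ⧸ Jn A (B ⧸ Ideal.span {1 - e}) n →+*
        (B ⧸ Jn A B n) ⧸ Ideal.span {1 - Ideal.Quotient.mk (Jn A B n) e},
      s.comp (θ A B (Ideal.span {1 - e}) n) =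
        Ideal.Quotient.mk (Ideal.span {1 - Ideal.Quotient.mk (Jn A B n) e}) := by
  have h1 : ∀ b ∈ Ideal.span {1 - e},
      ((Ideal.Quotient.mk (Ideal.span {1 - Ideal.Quotient.mk (Jn A B n) e})).comp
        (Ideal.Quotient.mk (Jn A B n))) b = 0 := by
    intro b hb
    obtain ⟨c, rfl⟩ := Ideal.mem_span_singleton'.mp hb
    rw [RingHom.comp_apply, Ideal.Quotient.eq_zero_iff_mem, Ideal.mem_span_singleton']
    exact ⟨Ideal.Quotient.mk (Jn A B n) c, by rw [map_mul, map_sub, map_one]⟩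
  let L : B ⧸ Ideal.span {1 - e} →+*
      (B ⧸ Jn A B n) ⧸ Ideal.span {1 - Ideal.Quotient.mk (Jn A B n) e} :=
    Ideal.Quotient.lift (Ideal.span {1 - e}) _ h1
  have h2 : ∀ c ∈ Jn A (B ⧸ Ideal.span {1 - e}) n, L c = 0 := by
    have hle : Jn A (B ⧸ Ideal.span {1 - e}) n ≤ RingHom.ker L := by
      rw [Ideal.map_le_iff_le_comap]
      intro a ha
      rw [Ideal.mem_comap, RingHom.mem_ker]
      have h3 : algebraMap A (B ⧸ Ideal.span {1 - e}) a =
          Ideal.Quotient.mk (Ideal.span {1 - e}) (algebraMap A B a) := rfl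
      rw [h3, Ideal.Quotient.lift_mk, RingHom.comp_apply,
        Ideal.Quotient.eq_zero_iff_mem.mpr (Ideal.mem_map_of_mem _ ha), map_zero]
    exact fun c hc => RingHom.mem_ker.mp (hle hc)
  refine ⟨Ideal.Quotient.lift _ L h2, ?_⟩
  apply Ideal.Quotient.ringHom_ext
  apply RingHom.ext
  intro b
  rfl

theorem ext_mod (B : Type u) [CommRing B] [Algebra A B] {ι : Type u} [Fintype ι] (e : ι → B)
    (he : CompleteOrthogonalIdempotents e) (n : ℕ) (Y : Scheme.{u})
    (f1 f2 : Spec (CommRingCat.of (B ⧸ Jn A B n)) ⟶ Y)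
    (h : ∀ z, Spec.map (CommRingCat.ofHom (θ A B (Ideal.span {1 - e z}) n)) ≫ f1 =
      Spec.map (CommRingCat.ofHom (θ A B (Ideal.span {1 - e z}) n)) ≫ f2) : f1 = f2 := by
  have he' : CompleteOrthogonalIdempotents (fun z => Ideal.Quotient.mk (Jn A B n) (e z)) :=
    he.map (Ideal.Quotient.mk (Jn A B n))
  apply cov_ext _ he'
  intro z
  obtain ⟨s, hs⟩ := exists_s A B (e z) n
  have h3 : Spec.map (CommRingCat.ofHom
      (Ideal.Quotient.mk (Ideal.span {1 - Ideal.Quotient.mk (Jn A B n) (e z)}))) =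
      Spec.map (CommRingCat.ofHom s) ≫
        Spec.map (CommRingCat.ofHom (θ A B (Ideal.span {1 - e z}) n)) := by
    rw [← Spec.map_comp, ← CommRingCat.ofHom_comp, hs]
  rw [h3, Category.assoc, Category.assoc, h z]

theorem main [IsNoetherianRing A] [IsAdicComplete (IsLocalRing.maximalIdeal A) A]
    (B : Type u) [CommRing B] [Algebra A B] [Module.Finite A B]
    (Y : Scheme.{u}) (p : Y ⟶ Spec (CommRingCat.of A)) :
    (∀ f g : Spec (CommRingCat.of B) ⟶ Y,
      f ≫ p = Spec.map (CommRingCat.ofHom (algebraMap A B)) →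
      g ≫ p = Spec.map (CommRingCat.ofHom (algebraMap A B)) →
      (∀ n : ℕ, Spec.map (CommRingCat.ofHom (Ideal.Quotient.mk (Jn A B n))) ≫ f =
        Spec.map (CommRingCat.ofHom (Ideal.Quotient.mk (Jn A B n))) ≫ g) → f = g) ∧
    (∀ u : (n : ℕ) → (Spec (CommRingCat.of (B ⧸ Jn A B n)) ⟶ Y),
      (∀ n : ℕ, u n ≫ p = Spec.map (CommRingCat.ofHom
        ((Ideal.Quotient.mk (Jn A B n)).comp (algebraMap A B)))) →
      (∀ n : ℕ, Spec.map (CommRingCat.ofHom (Ideal.Quotient.factor (Jn_succ_le A B n))) ≫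
        u (n + 1) = u n) →
      ∃ f : Spec (CommRingCat.of B) ⟶ Y,
        f ≫ p = Spec.map (CommRingCat.ofHom (algebraMap A B)) ∧
        ∀ n : ℕ, Spec.map (CommRingCat.ofHom (Ideal.Quotient.mk (Jn A B n))) ≫ f = u n) := by
  classical
  set I : Ideal B := Ideal.map (algebraMap A B) (IsLocalRing.maximalIdeal A) with hIdef
  haveI hcB : IsAdicComplete I B := isAdicComplete_map A B
  haveI : IsArtinianRing (B ⧸ I) := isArtinianRing_quot A B
  haveI : Fintype (PrimeSpectrum (B ⧸ I)) := Fintype.ofFinite _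
  have hIjac : I ≤ (⊥ : Ideal B).jacobson := IsAdicComplete.le_jacobson_bot I
  obtain ⟨e, he1, he2, he3⟩ := exists_family I
  have hcoi : CompleteOrthogonalIdempotents e := coi_of_family I hIjac e he1 he2 he3
  haveI hloc : ∀ z, IsLocalRing (B ⧸ Ideal.span {1 - e z}) :=
    fun z => isLocalRing_quot I hIjac e he1 he2 he3 z
  have hIC : ∀ z, Ideal.map (algebraMap A (B ⧸ Ideal.span {1 - e z}))
      (IsLocalRing.maximalIdeal A) = I.map (Ideal.Quotient.mk (Ideal.span {1 - e z})) := by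
    intro z
    rw [hIdef, Ideal.map_map]
    rfl
  have hPz : ∀ z, ∀ P : Ideal (B ⧸ Ideal.span {1 - e z}), P.IsPrime →
      Ideal.map (algebraMap A (B ⧸ Ideal.span {1 - e z})) (IsLocalRing.maximalIdeal A) ≤ P →
      P = IsLocalRing.maximalIdeal (B ⧸ Ideal.span {1 - e z}) := by
    intro z P hP hle
    rw [hIC z] at hle
    exact prime_eq_maximal I hIjac e he3 z P hP hle
  constructor
  · intro f g hf hg h
    apply cov_ext e hcoi
    intro z
    refine comp_uniq A (B ⧸ Ideal.span {1 - e z}) Y _ _ (fun n => ?_)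
    rw [← Category.assoc, ← Category.assoc, key_sq, Category.assoc, Category.assoc, h n]
  · intro u hu1 hu2
    have hz : ∀ z, ∃ fz : Spec (CommRingCat.of (B ⧸ Ideal.span {1 - e z})) ⟶ Y, ∀ n : ℕ,
        Spec.map (CommRingCat.ofHom
          (Ideal.Quotient.mk (Jn A (B ⧸ Ideal.span {1 - e z}) n))) ≫ fz =
        Spec.map (CommRingCat.ofHom (θ A B (Ideal.span {1 - e z}) n)) ≫ u n := by
      intro z
      refine comp_exists A (B ⧸ Ideal.span {1 - e z}) (hPz z) Y
        (fun n => Spec.map (CommRingCat.ofHom (θ A B (Ideal.span {1 - e z}) n)) ≫ u n)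
        (fun n => ?_)
      rw [← Category.assoc, ← Spec.map_comp, ← CommRingCat.ofHom_comp, ← θ_factor,
        CommRingCat.ofHom_comp, Spec.map_comp, Category.assoc, hu2 n]
    choose fz hfz using hz
    obtain ⟨f, hf⟩ := cov_glue e hcoi fz
    refine ⟨f, ?_, ?_⟩
    · apply cov_ext e hcoi
      intro z
      rw [← Category.assoc, hf z]
      refine comp_uniq A (B ⧸ Ideal.span {1 - e z}) _ _ _ (fun n => ?_)
      rw [← Category.assoc, hfz z n, Category.assoc, hu1 n]
      have hring : (θ A B (Ideal.span {1 - e z}) n).comp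
          ((Ideal.Quotient.mk (Jn A B n)).comp (algebraMap A B)) =
          ((Ideal.Quotient.mk (Jn A (B ⧸ Ideal.span {1 - e z}) n)).comp
            (Ideal.Quotient.mk (Ideal.span {1 - e z}))).comp (algebraMap A B) := by
        rw [← RingHom.comp_assoc, θ_comp_mk]
      rw [← Spec.map_comp, ← CommRingCat.ofHom_comp, hring, CommRingCat.ofHom_comp,
        CommRingCat.ofHom_comp, Spec.map_comp, Spec.map_comp, Category.assoc]
    · intro n
      apply ext_mod A B e hcoi n
      intro z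
      rw [← Category.assoc, ← key_sq, Category.assoc, hf z, hfz z n]

end Main

end Groth.Agent.H4.FormalLift
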