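import Mathlib

/-!
# Colimits of schemes are fpqc-local on the cocone point (helper4)
-/

set_option autoImplicit false

universe w u

open CategoryTheory CategoryTheory.Limits AlgebraicGeometry Opposite

namespace Groth.Agent.H4.FpqcColim

theorem isSheafFor_of_mem {W T : Scheme.{u}} (R : Presieve W)
    (hR : R ∈ Scheme.fpqcPrecoverage.{u} W) : Presieve.IsSheafFor (yoneda.obj T) R := by
  rw [Presieve.isSheafFor_iff_generate]
  have hmem : Sieve.generate R ∈ Scheme.fpqcTopology.{u} W :=
    Precoverage.generate_mem_toGrothendieck hR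
  have hsheaf : Presieve.IsSheaf Scheme.fpqcTopology.{u} (yoneda.obj T) :=
    GrothendieckTopology.Subcanonical.isSheaf_of_isRepresentable _
  exact hsheaf _ hmem

/-- The fpqc sheaf condition for morphisms into a scheme, in terms of a covering family. -/
theorem fpqc_glue {W T : Scheme.{u}} (F : PreZeroHypercover.{w} W)
    (hF : F.presieve₀ ∈ Scheme.fpqcPrecoverage W)
    (d : ∀ a, F.X a ⟶ T)
    (hd : ∀ a b, pullback.fst (F.f a) (F.f b) ≫ d a = pullback.snd (F.f a) (F.f b) ≫ d b) :
    ∃! t : W ⟶ T, ∀ a, F.f a ≫ t = d a := by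
  have hsh : Presieve.IsSheafFor (yoneda.obj T) (Presieve.ofArrows F.X F.f) :=
    isSheafFor_of_mem _ hF
  rw [Presieve.isSheafFor_arrows_iff_pullbacks] at hsh
  exact hsh d hd

/-- A covering family, base changed, is jointly epimorphic. -/
theorem fpqc_ext {W Y T : Scheme.{u}} (F : PreZeroHypercover.{w} W)
    (hF : F.presieve₀ ∈ Scheme.fpqcPrecoverage W) (g : Y ⟶ W) (t₁ t₂ : Y ⟶ T)
    (h : ∀ a, pullback.fst g (F.f a) ≫ t₁ = pullback.fst g (F.f a) ≫ t₂) : t₁ = t₂ := by
  have hcov : Presieve.ofArrows (fun a => pullback g (F.f a)) (fun a => pullback.fst g (F.f a)) ∈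
      Scheme.fpqcPrecoverage Y :=
    Precoverage.mem_coverings_of_isPullback F.f hF g _ (fun a => pullback.snd g (F.f a))
      (fun a => IsPullback.of_hasPullback g (F.f a))
  have hsh : Presieve.IsSheafFor (yoneda.obj T)
      (Presieve.ofArrows (fun a => pullback g (F.f a)) (fun a => pullback.fst g (F.f a))) :=
    isSheafFor_of_mem _ hcov
  refine hsh.isSeparatedFor.ext ?_
  rintro Z f ⟨a⟩
  exact h a

section Colim

variable {J : Type u} [SmallCategory J] (D : J ⥤ Scheme.{u}) (c : Cocone D)

/-- The base-changed diagram. -/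
noncomputable abbrev E {Y : Scheme.{u}} (g : Y ⟶ c.pt) : J ⥤ Over Y :=
  D.toOver c.pt (fun j => c.ι.app j) (fun g => c.w g) ⋙ Over.pullback g

theorem E_map_fst {Y : Scheme.{u}} (g : Y ⟶ c.pt) {j j' : J} (φ : j ⟶ j') :
    ((E D c g).map φ).left ≫ pullback.fst (c.ι.app j') g = pullback.fst (c.ι.app j) g ≫ D.map φ := by
  simp [E, Functor.toOver]
  exact pullback.lift_fst _ _ _

/-- The cocone on the base-changed diagram induced by a cocone on `D`. -/
noncomputable def pc {Y : Scheme.{u}} (g : Y ⟶ c.pt) (s : Cocone D) :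
    Cocone (E D c g ⋙ Over.forget Y) where
  pt := s.pt
  ι :=
    { app := fun j => pullback.fst (c.ι.app j) g ≫ s.ι.app j
      naturality := by
        intro j j' φ
        have h1 := E_map_fst D c g φ
        change ((E D c g).map φ).left ≫ (pullback.fst (c.ι.app j') g ≫ s.ι.app j') =
          (pullback.fst (c.ι.app j) g ≫ s.ι.app j) ≫ 𝟙 _
        have h3 : ((E D c g).map φ).left ≫ (pullback.fst (c.ι.app j') g ≫ s.ι.app j') =
            pullback.fst (c.ι.app j) g ≫ s.ι.app j := by
          have h4 : (pullback.fst (c.ι.app j) g ≫ D.map φ) ≫ s.ι.app j' =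
              pullback.fst (c.ι.app j) g ≫ s.ι.app j := by
            rw [Category.assoc, s.w φ]
          rw [← Category.assoc, h1]
          exact h4
        rw [Category.comp_id]
        exact h3 }

theorem main (F : PreZeroHypercover.{w} c.pt) (hF : F.presieve₀ ∈ Scheme.fpqcPrecoverage c.pt)
    (h1 : ∀ a : F.I₀, Nonempty (IsColimit ((Over.forgetCocone (F.X a)).whisker
      (D.toOver c.pt (fun j => c.ι.app j) (fun g => c.w g) ⋙ Over.pullback (F.f a)))))
    (h2 : ∀ a b : F.I₀, Nonempty (IsColimit ((Over.forgetCocone (pullback (F.f a) (F.f b))).whisker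
      (D.toOver c.pt (fun j => c.ι.app j) (fun g => c.w g) ⋙
        Over.pullback (pullback.fst (F.f a) (F.f b) ≫ F.f a))))) :
    Nonempty (IsColimit c) := by
  -- the local descents
  have key : ∀ (s : Cocone D), ∃! t : c.pt ⟶ s.pt, ∀ j, c.ι.app j ≫ t = s.ι.app j := by
    intro s
    obtain ⟨d, hd⟩ : ∃ d : ∀ a, F.X a ⟶ s.pt, ∀ a j,
        pullback.snd (c.ι.app j) (F.f a) ≫ d a = pullback.fst (c.ι.app j) (F.f a) ≫ s.ι.app j :=
      ⟨fun a => (h1 a).some.desc (pc D c (F.f a) s), fun a j => (h1 a).some.fac (pc D c (F.f a) s) j⟩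
    have hcompat : ∀ a b, pullback.fst (F.f a) (F.f b) ≫ d a = pullback.snd (F.f a) (F.f b) ≫ d b := by
      intro a b
      refine (h2 a b).some.hom_ext ?_
      intro j
      change pullback.snd (c.ι.app j) (pullback.fst (F.f a) (F.f b) ≫ F.f a) ≫ _ =
        pullback.snd (c.ι.app j) (pullback.fst (F.f a) (F.f b) ≫ F.f a) ≫ _
      have e1 : pullback.snd (c.ι.app j) (pullback.fst (F.f a) (F.f b) ≫ F.f a) ≫
          pullback.fst (F.f a) (F.f b) =
          pullback.lift (pullback.fst (c.ι.app j) (pullback.fst (F.f a) (F.f b) ≫ F.f a))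
            (pullback.snd (c.ι.app j) (pullback.fst (F.f a) (F.f b) ≫ F.f a) ≫
              pullback.fst (F.f a) (F.f b))
            (by rw [Category.assoc]; exact pullback.condition) ≫ pullback.snd (c.ι.app j) (F.f a) := by
        rw [pullback.lift_snd]
      have e2 : pullback.snd (c.ι.app j) (pullback.fst (F.f a) (F.f b) ≫ F.f a) ≫
          pullback.snd (F.f a) (F.f b) =
          pullback.lift (pullback.fst (c.ι.app j) (pullback.fst (F.f a) (F.f b) ≫ F.f a))
            (pullback.snd (c.ι.app j) (pullback.fst (F.f a) (F.f b) ≫ F.f a) ≫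
              pullback.snd (F.f a) (F.f b))
            (by rw [Category.assoc, ← pullback.condition (f := F.f a) (g := F.f b)]
                exact pullback.condition) ≫
            pullback.snd (c.ι.app j) (F.f b) := by
        rw [pullback.lift_snd]
      rw [← Category.assoc, e1, Category.assoc, hd a j, pullback.lift_fst_assoc,
        ← Category.assoc, e2, Category.assoc, hd b j, pullback.lift_fst_assoc]
    obtain ⟨t, ht, htu⟩ := fpqc_glue F hF d hcompat
    refine ⟨t, ?_, ?_⟩
    · intro j
      refine fpqc_ext F hF (c.ι.app j) _ _ ?_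
      intro a
      rw [← Category.assoc, pullback.condition, Category.assoc, ht a, hd a j]
    · intro m hm
      refine htu m ?_
      intro a
      refine (h1 a).some.hom_ext ?_
      intro j
      change pullback.snd (c.ι.app j) (F.f a) ≫ _ = pullback.snd (c.ι.app j) (F.f a) ≫ _
      rw [hd a j, ← Category.assoc, ← pullback.condition, Category.assoc, hm j]
  refine ⟨{ desc := fun s => (key s).exists.choose
            fac := fun s j => (key s).exists.choose_spec j
            uniq := fun s m hm => (key s).unique hm (key s).exists.choose_spec }⟩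

end Colim

end Groth.Agent.H4.FpqcColim
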