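import Mathlib
import Groth.Prelude.Def_Magnet3
import Groth.Agent.Lib.Helper3.DescSh.ClosedImm
import Groth.Agent.S0083

/-!
# Fixed points along a fixed-point-reflecting étale atlas (helper4)

If `f : U ⟶ X` is étale, surjective, equivariant and fixed-point reflecting and the fixed points of `U`
are represented by a closed subscheme, the same holds for `X` (étale descent of closed subschemes,
via helper3's effective descent of closed immersions).
-/

set_option autoImplicit false

universe u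

open CategoryTheory CategoryTheory.Limits MonoidalCategory CartesianMonoidalCategory MonObj
  AlgebraicGeometry Opposite
open Magnet

namespace Groth.Agent.H4.FprA

variable {S : Scheme.{u}} {A X U : Over S} [MonObj A]

/-- A `T`-point is fixed. -/
def Fixed (a : MonAct A X) {T : Over S} (x : T ⟶ X) : Prop :=
  ∀ (T' : Over S) (t : T' ⟶ T) (g : T' ⟶ A), lift g (t ≫ x) ≫ a.act = t ≫ x

theorem fixed_comp (a : MonAct A X) {T T' : Over S} (t : T' ⟶ T) (x : T ⟶ X) (h : Fixed a x) :
    Fixed a (t ≫ x) := by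
  intro T'' t' g
  rw [← Category.assoc]
  exact h T'' (t' ≫ t) g

theorem fixed_map {aU : MonAct A U} {aX : MonAct A X} (f : U ⟶ X)
    (hf : MonAct.IsEquivariant aU aX f) {T : Over S} (u : T ⟶ U) (h : Fixed aU u) :
    Fixed aX (u ≫ f) :=
  ((MonAct.fixedPsh.map f hf).app (op T) ⟨u, h⟩).2

theorem fixed_of_fpr {aU : MonAct A U} {aX : MonAct A X} (f : U ⟶ X)
    (hf : MonAct.IsEquivariant aU aX f)
    (hfpr : IsPullback (MonAct.fixedPsh.map f hf) (MonAct.fixedPshι aU) (MonAct.fixedPshι aX)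
      (yoneda.map f))
    {T : Over S} (u : T ⟶ U) (h : Fixed aX (u ≫ f)) : Fixed aU u := by
  have hmap := hfpr.map ((evaluation (Over S)ᵒᵖ (Type u)).obj (op T))
  obtain ⟨w, hw1, hw2⟩ := Types.exists_of_isPullback hmap
    (⟨u ≫ f, h⟩ : (MonAct.fixedPsh aX).obj (op T)) (u : T ⟶ U) rfl
  have e : w.1 = u := hw2
  rw [← e]
  exact w.2

/-- Descending a factorization through a monomorphism along an effective epimorphism. -/
theorem exists_lift_of_effectiveEpi {P T W Y : Scheme.{u}} (p : P ⟶ T) [EffectiveEpi p]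
    (m : W ⟶ Y) [Mono m] (x : T ⟶ Y) (c : P ⟶ W) (hc : c ≫ m = p ≫ x) :
    ∃ d : T ⟶ W, d ≫ m = x := by
  refine ⟨EffectiveEpi.desc p c ?_, ?_⟩
  · intro Z g₁ g₂ h
    rw [← cancel_mono m, Category.assoc, Category.assoc, hc, reassoc_of% h]
  · rw [← cancel_epi p, ← Category.assoc, EffectiveEpi.fac, hc]

/-- Fixedness descends along an fppf cover of the test object. -/
theorem fixed_of_cover (a : MonAct A X) {T P : Over S} (x : T ⟶ X) (p : P ⟶ T)
    [Flat p.left] [Surjective p.left] [LocallyOfFinitePresentation p.left]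
    (h : Fixed a (p ≫ x)) : Fixed a x := by
  intro T'' t g
  obtain ⟨QS, hQS⟩ : ∃ QS : Over S, QS = Over.mk (pullback.fst t.left p.left ≫ T''.hom) := ⟨_, rfl⟩
  have h2 : pullback.snd t.left p.left ≫ P.hom = pullback.fst t.left p.left ≫ T''.hom := by
    rw [← Over.w p, ← Category.assoc, ← pullback.condition, Category.assoc, Over.w t]
  let q1 : Over.mk (pullback.fst t.left p.left ≫ T''.hom) ⟶ T'' :=
    Over.homMk (pullback.fst t.left p.left) rfl
  let q2 : Over.mk (pullback.fst t.left p.left ≫ T''.hom) ⟶ P :=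
    Over.homMk (pullback.snd t.left p.left) h2
  have hq : q1 ≫ t = q2 ≫ p := by
    apply Over.OverMorphism.ext
    simp only [Over.comp_left]
    exact pullback.condition
  have : EffectiveEpi (pullback.fst t.left p.left) := inferInstance
  have : Epi q1.left := by
    change Epi (pullback.fst t.left p.left)
    infer_instance
  have : Epi q1 := Over.epi_of_epi_left q1
  rw [← cancel_epi q1, comp_lift_assoc, ← Category.assoc q1 t x, hq, Category.assoc]
  exact h _ q2 (q1 ≫ g)

instance lifts_subsingleton {Y : Scheme.{u}} (V : Over Y) [Mono V.hom] {T : Scheme.{u}} (x : T ⟶ Y) :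
    Subsingleton (Desc.Lifts V x) :=
  ⟨fun a b => Subtype.ext (by rw [← cancel_mono V.hom, a.2, b.2])⟩

section Main

variable (aU : MonAct A U) (aX : MonAct A X) (f : U ⟶ X)

theorem lifts_iff {W' : Over S} (i' : W' ⟶ U)
    (hW' : ∀ (T : Over S) (u : T ⟶ U), Fixed aU u ↔ ∃ w : T ⟶ W', w ≫ i' = u)
    (T : Over S) (u : T ⟶ U) :
    Nonempty (Desc.Lifts (Over.mk i'.left) u.left) ↔ Fixed aU u := by
  rw [hW' T u]
  constructor
  · rintro ⟨v, hv⟩
    have hv' : v ≫ i'.left = u.left := hv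
    refine ⟨Over.homMk v ?_, ?_⟩
    · rw [← Over.w i', ← Category.assoc, hv', Over.w u]
    · apply Over.OverMorphism.ext
      simp only [Over.comp_left, Over.homMk_left]
      exact hv'
  · rintro ⟨w, hw⟩
    exact ⟨⟨w.left, by rw [← hw]; rfl⟩⟩

theorem lifts_transfer (hf : MonAct.IsEquivariant aU aX f)
    (hfpr' : ∀ (T : Over S) (u : T ⟶ U), Fixed aX (u ≫ f) → Fixed aU u)
    {W' : Over S} (i' : W' ⟶ U)
    (hW' : ∀ (T : Over S) (u : T ⟶ U), Fixed aU u ↔ ∃ w : T ⟶ W', w ≫ i' = u)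
    {T : Scheme.{u}} (x₀ x₁ : T ⟶ U.left) (h : x₀ ≫ f.left = x₁ ≫ f.left)
    (v : Nonempty (Desc.Lifts (Over.mk i'.left) x₀)) :
    Nonempty (Desc.Lifts (Over.mk i'.left) x₁) := by
  have h1 : x₁ ≫ U.hom = x₀ ≫ U.hom := by
    rw [← Over.w f, ← Category.assoc, ← h, Category.assoc]
  let u₀ : Over.mk (x₀ ≫ U.hom) ⟶ U := Over.homMk x₀ rfl
  let u₁ : Over.mk (x₀ ≫ U.hom) ⟶ U := Over.homMk x₁ h1
  have hu : u₀ ≫ f = u₁ ≫ f := by
    apply Over.OverMorphism.ext
    simp only [Over.comp_left]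
    exact h
  have h0 : Fixed aU u₀ := (lifts_iff aU i' hW' _ u₀).mp v
  have h1' : Fixed aU u₁ := hfpr' _ u₁ (by rw [← hu]; exact fixed_map f hf u₀ h0)
  exact (lifts_iff aU i' hW' _ u₁).mpr h1'

/-- The descent datum on the closed subscheme of fixed points of `U`. -/
noncomputable def dd (hf : MonAct.IsEquivariant aU aX f)
    (hfpr' : ∀ (T : Over S) (u : T ⟶ U), Fixed aX (u ≫ f) → Fixed aU u)
    {W' : Over S} (i' : W' ⟶ U) [Mono i'.left]
    (hW' : ∀ (T : Over S) (u : T ⟶ U), Fixed aU u ↔ ∃ w : T ⟶ W', w ≫ i' = u) :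
    Desc.SchDDFam (fun _ : PUnit.{u + 1} => f.left) where
  obj _ := Over.mk i'.left
  φ T _ _ x₀ x₁ h :=
    haveI : Mono (Over.mk i'.left).hom := inferInstanceAs (Mono i'.left)
    { toFun := fun v => (lifts_transfer aU aX f hf hfpr' i' hW' x₀ x₁ h ⟨v⟩).some
      invFun := fun v => (lifts_transfer aU aX f hf hfpr' i' hW' x₁ x₀ h.symm ⟨v⟩).some
      left_inv := fun v => Subsingleton.elim _ _
      right_inv := fun v => Subsingleton.elim _ _ }
  φ_natural T T' g _ _ x₀ x₁ h y₀ y₁ hy₀ hy₁ h' v v' hv' := by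
    rw [← cancel_mono i'.left]
    have e1 := ((lifts_transfer aU aX f hf hfpr' i' hW' y₀ y₁ h' ⟨v'⟩).some).2
    have e2 := ((lifts_transfer aU aX f hf hfpr' i' hW' x₀ x₁ h ⟨v⟩).some).2
    change _ ≫ i'.left = _ at e1
    change _ ≫ i'.left = _ at e2
    change ((lifts_transfer aU aX f hf hfpr' i' hW' y₀ y₁ h' ⟨v'⟩).some).1 ≫ i'.left =
      (g ≫ ((lifts_transfer aU aX f hf hfpr' i' hW' x₀ x₁ h ⟨v⟩).some).1) ≫ i'.left
    rw [e1, Category.assoc, e2, hy₁]
  φ_self T _ x v :=
    haveI : Mono (Over.mk i'.left).hom := inferInstanceAs (Mono i'.left)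
    Subsingleton.elim _ _
  φ_comp T _ _ _ x₀ x₁ x₂ h₀₁ h₁₂ v :=
    haveI : Mono (Over.mk i'.left).hom := inferInstanceAs (Mono i'.left)
    Subsingleton.elim _ _

include aU in
theorem core [Etale f.left] [Surjective f.left] (hf : MonAct.IsEquivariant aU aX f)
    (hfpr' : ∀ (T : Over S) (u : T ⟶ U), Fixed aX (u ≫ f) → Fixed aU u)
    {W' : Over S} (i' : W' ⟶ U)
    (hW' : ∀ (T : Over S) (u : T ⟶ U), Fixed aU u ↔ ∃ w : T ⟶ W', w ≫ i' = u)
    (W : Over X.left) [Mono W.hom]
    (hWa : ∀ (T : Scheme.{u}) (u : T ⟶ U.left) (d : T ⟶ W.left), u ≫ f.left = d ≫ W.hom →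
      ∃ v : T ⟶ W'.left, v ≫ i'.left = u)
    (hWb : ∀ (T : Scheme.{u}) (v : T ⟶ W'.left), ∃ c : T ⟶ W.left, c ≫ W.hom = v ≫ i'.left ≫ f.left)
    {T : Over S} (x : T ⟶ X) : Fixed aX x ↔ ∃ d : T.left ⟶ W.left, d ≫ W.hom = x.left := by
  have h2 : pullback.snd x.left f.left ≫ U.hom = pullback.fst x.left f.left ≫ T.hom := by
    rw [← Over.w f, ← Category.assoc, ← pullback.condition, Category.assoc, Over.w x]
  let p1 : Over.mk (pullback.fst x.left f.left ≫ T.hom) ⟶ T :=
    Over.homMk (pullback.fst x.left f.left) rfl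
  let p2 : Over.mk (pullback.fst x.left f.left ≫ T.hom) ⟶ U :=
    Over.homMk (pullback.snd x.left f.left) h2
  have hp : p1 ≫ x = p2 ≫ f := by
    apply Over.OverMorphism.ext
    simp only [Over.comp_left]
    exact pullback.condition
  have hp1 : p1.left = pullback.fst x.left f.left := rfl
  have hp2 : p2.left = pullback.snd x.left f.left := rfl
  constructor
  · intro hx
    have hfix : Fixed aU p2 := hfpr' _ p2 (by rw [← hp]; exact fixed_comp aX p1 x hx)
    obtain ⟨w, hw⟩ := (hW' _ p2).mp hfix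
    obtain ⟨c, hc⟩ := hWb _ w.left
    have hwl : w.left ≫ i'.left = pullback.snd x.left f.left := by
      rw [← hp2, ← hw]; rfl
    have : EffectiveEpi (pullback.fst x.left f.left) := inferInstance
    refine exists_lift_of_effectiveEpi (pullback.fst x.left f.left) W.hom x.left c ?_
    rw [hc, ← Category.assoc, hwl, pullback.condition]
  · rintro ⟨d, hd⟩
    have hcomm : pullback.snd x.left f.left ≫ f.left = (pullback.fst x.left f.left ≫ d) ≫ W.hom := by
      rw [Category.assoc, hd, pullback.condition]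
    obtain ⟨v, hv⟩ := hWa _ (pullback.snd x.left f.left) (pullback.fst x.left f.left ≫ d) hcomm
    have hfix : Fixed aU p2 := by
      rw [hW' _ p2]
      refine ⟨Over.homMk v ?_, ?_⟩
      · change v ≫ W'.hom = pullback.fst x.left f.left ≫ T.hom
        rw [← Over.w i', ← Category.assoc, hv, h2]
      · apply Over.OverMorphism.ext
        simp only [Over.comp_left, Over.homMk_left]
        exact hv
    have hfix2 : Fixed aX (p1 ≫ x) := by
      rw [hp]; exact fixed_map f hf p2 hfix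
    have : Flat p1.left := by rw [hp1]; infer_instance
    have : Surjective p1.left := by rw [hp1]; infer_instance
    have : LocallyOfFinitePresentation p1.left := by rw [hp1]; infer_instance
    exact fixed_of_cover aX x p1 hfix2

end Main

section Final

variable (aU : MonAct A U) (aX : MonAct A X) (f : U ⟶ X)

theorem main [Etale f.left] [Surjective f.left] (hf : MonAct.IsEquivariant aU aX f)
    (hfpr : IsPullback (MonAct.fixedPsh.map f hf) (MonAct.fixedPshι aU) (MonAct.fixedPshι aX)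
      (yoneda.map f))
    (hU : ∃ (W' : Over S) (i' : W' ⟶ U) (e' : (MonAct.fixedPsh aU).RepresentableBy W'),
      IsClosedImmersion i'.left ∧ ∀ (T : Over S) (w : T ⟶ W'),
        (MonAct.fixedPshι aU).app (op T) (e'.homEquiv w) = w ≫ i') :
    ∃ (W : Over S) (i : W ⟶ X) (e : (MonAct.fixedPsh aX).RepresentableBy W),
      IsClosedImmersion i.left ∧ ∀ (T : Over S) (w : T ⟶ W),
        (MonAct.fixedPshι aX).app (op T) (e.homEquiv w) = w ≫ i := by
  obtain ⟨W', i', e', hcl, he'⟩ := hU
  have hfpr' : ∀ (T : Over S) (u : T ⟶ U), Fixed aX (u ≫ f) → Fixed aU u :=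
    fun T u h => fixed_of_fpr f hf hfpr u h
  have hW' : ∀ (T : Over S) (u : T ⟶ U), Fixed aU u ↔ ∃ w : T ⟶ W', w ≫ i' = u := by
    intro T u
    constructor
    · intro hu
      refine ⟨e'.homEquiv.symm ⟨u, hu⟩, ?_⟩
      have := he' T (e'.homEquiv.symm ⟨u, hu⟩)
      rw [Equiv.apply_symm_apply] at this
      exact this.symm
    · rintro ⟨w, rfl⟩
      have := he' T w
      rw [← this]
      exact (e'.homEquiv w).2
  have : Mono i'.left := inferInstance
  -- the covering
  have hcov : Presieve.ofArrows (fun _ : PUnit.{u + 1} => U.left) (fun _ => f.left) ∈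
      Scheme.fpqcPrecoverage X.left := by
    rw [Presieve.ofArrows_pUnit]
    exact Scheme.fppfPrecoverage_le_fpqcPrecoverage _ (Scheme.Hom.singleton_mem_fppfPrecoverage f.left)
  have hEff := Groth.Agent.H3.DescSh.isEffective_of_isClosedImmersion
    (fun _ : PUnit.{u + 1} => f.left) hcov (dd aU aX f hf hfpr' i' hW') (fun _ => hcl)
  obtain ⟨W, ⟨E⟩⟩ := hEff
  -- the comparison iso over `U`
  obtain ⟨a, ha⟩ : ∃ a : pullback f.left W.hom ⟶ W'.left, a = (E.hom.hom PUnit.unit).left := ⟨_, rfl⟩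
  obtain ⟨b, hb⟩ : ∃ b : W'.left ⟶ pullback f.left W.hom, b = (E.inv.hom PUnit.unit).left := ⟨_, rfl⟩
  have ha1 : a ≫ i'.left = pullback.fst f.left W.hom := by
    rw [ha]; exact Over.w (E.hom.hom PUnit.unit)
  have hb1 : b ≫ pullback.fst f.left W.hom = i'.left := by
    rw [hb]; exact Over.w (E.inv.hom PUnit.unit)
  have hab : a ≫ b = 𝟙 _ := by
    have := congrArg (fun (t : (Desc.toDDFam (fun _ : PUnit.{u + 1} => f.left)).obj W ⟶ _) =>
      (t.hom PUnit.unit).left) E.hom_inv_id
    rw [ha, hb]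
    exact this
  have hba : b ≫ a = 𝟙 _ := by
    have := congrArg (fun (t : dd aU aX f hf hfpr' i' hW' ⟶ _) =>
      (t.hom PUnit.unit).left) E.inv_hom_id
    rw [ha, hb]
    exact this
  have : IsIso a := ⟨b, hab, hba⟩
  have hfst : IsClosedImmersion (pullback.fst f.left W.hom) := by
    rw [← ha1]; infer_instance
  have hdesc : MorphismProperty.DescendsAlong @IsClosedImmersion
      (@Surjective ⊓ @Flat ⊓ @QuasiCompact : MorphismProperty Scheme.{u}) := Groth.Agent.S0083.result
  have hWcl : IsClosedImmersion W.hom :=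
    MorphismProperty.of_pullback_fst_of_descendsAlong (P := @IsClosedImmersion)
      (Q := (@Surjective ⊓ @Flat ⊓ @LocallyOfFinitePresentation : MorphismProperty Scheme.{u}))
      (f := f.left) (g := W.hom) ⟨⟨inferInstance, inferInstance⟩, inferInstance⟩ hfst
  have : Mono W.hom := inferInstance
  have hWa : ∀ (T : Scheme.{u}) (u : T ⟶ U.left) (d : T ⟶ W.left), u ≫ f.left = d ≫ W.hom →
      ∃ v : T ⟶ W'.left, v ≫ i'.left = u := by
    intro T u d h
    refine ⟨pullback.lift u d h ≫ a, ?_⟩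
    rw [Category.assoc, ha1, pullback.lift_fst]
  have hWb : ∀ (T : Scheme.{u}) (v : T ⟶ W'.left),
      ∃ c : T ⟶ W.left, c ≫ W.hom = v ≫ i'.left ≫ f.left := by
    intro T v
    refine ⟨v ≫ b ≫ pullback.snd f.left W.hom, ?_⟩
    rw [Category.assoc, Category.assoc, ← pullback.condition, ← Category.assoc b, hb1]
  have hcore : ∀ {T : Over S} (x : T ⟶ X),
      Fixed aX x ↔ ∃ d : T.left ⟶ W.left, d ≫ W.hom = x.left :=
    fun x => core aU aX f hf hfpr' i' hW' W hWa hWb x
  -- the representing object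
  obtain ⟨WS, hWS⟩ : ∃ WS : Over S, WS = Over.mk (W.hom ≫ X.hom) := ⟨_, rfl⟩
  subst hWS
  let i : Over.mk (W.hom ≫ X.hom) ⟶ X := Over.homMk W.hom rfl
  have hil : i.left = W.hom := rfl
  have hfix : ∀ {T : Over S} (w : T ⟶ Over.mk (W.hom ≫ X.hom)), Fixed aX (w ≫ i) := by
    intro T w
    rw [hcore]
    exact ⟨w.left, rfl⟩
  have hbij : ∀ (T : Over S), Function.Bijective
      (fun w : T ⟶ Over.mk (W.hom ≫ X.hom) => (⟨w ≫ i, hfix w⟩ : (MonAct.fixedPsh aX).obj (op T))) := by
    intro T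
    constructor
    · intro w₁ w₂ h
      have h1 : w₁ ≫ i = w₂ ≫ i := congrArg Subtype.val h
      have h2 : w₁.left ≫ W.hom = w₂.left ≫ W.hom := congrArg (fun t => t.left) h1
      apply Over.OverMorphism.ext
      exact (cancel_mono W.hom).mp h2
    · rintro ⟨x, hx⟩
      obtain ⟨d, hd⟩ := (hcore x).mp hx
      refine ⟨Over.homMk d ?_, ?_⟩
      · change d ≫ W.hom ≫ X.hom = T.hom
        rw [← Category.assoc, hd, Over.w x]
      · apply Subtype.ext
        apply Over.OverMorphism.ext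
        exact hd
  refine ⟨Over.mk (W.hom ≫ X.hom), i,
    { homEquiv := fun {T} => Equiv.ofBijective _ (hbij T)
      homEquiv_comp := ?_ }, ?_, ?_⟩
  · intro T T' t g
    apply Subtype.ext
    exact Category.assoc _ _ _
  · rw [hil]; exact hWcl
  · intro T w
    rfl

end Final

end Groth.Agent.H4.FprA
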