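import Mathlib
set_option autoImplicit false
open scoped TensorProduct
namespace Groth.Agent.H4.FreeLocusKer
universe u v w

section Step1
variable {R : Type u} [CommRing R] {M : Type v} {N : Type w} [AddCommGroup M] [Module R M]
  [AddCommGroup N] [Module R N] (d : M →ₗ[R] N) (κ : Type*) [CommRing κ] [Algebra R κ]

/-- Step 1: surjectivity of `κ ⊗ ker d → ker (κ ⊗ d)` is injectivity of `κ ⊗ im d → κ ⊗ N`. -/
theorem ker_le_range_iff :
    LinearMap.ker (d.baseChange κ) ≤ LinearMap.range ((LinearMap.ker d).subtype.baseChange κ) ↔
      Function.Injective ((LinearMap.range d).subtype.lTensor κ) := by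
  have hcomp : ∀ y, (d.baseChange κ) y =
      ((LinearMap.range d).subtype.lTensor κ) ((d.rangeRestrict.lTensor κ) y) := by
    intro y
    rw [← LinearMap.comp_apply, ← LinearMap.lTensor_comp]
    rfl
  have hex : Function.Exact (LinearMap.ker d).subtype d.rangeRestrict := by
    intro y
    constructor
    · intro h
      have := congrArg Subtype.val h
      exact ⟨⟨y, by simpa using this⟩, rfl⟩
    · rintro ⟨⟨y', hy'⟩, rfl⟩
      apply Subtype.ext
      simpa using hy'
  have hex' := lTensor_exact κ hex d.surjective_rangeRestrict
  constructor
  · intro H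
    rw [injective_iff_map_eq_zero]
    intro z hz
    obtain ⟨y, rfl⟩ := LinearMap.lTensor_surjective κ d.surjective_rangeRestrict z
    have hy : y ∈ LinearMap.ker (d.baseChange κ) := by
      rw [LinearMap.mem_ker, hcomp, hz]
    obtain ⟨w, rfl⟩ := H hy
    exact (hex' _).mpr ⟨w, rfl⟩
  · intro H y hy
    rw [LinearMap.mem_ker, hcomp] at hy
    have h1 : (d.rangeRestrict.lTensor κ) y = 0 := H (by rw [hy, map_zero])
    obtain ⟨w, hw⟩ := (hex' y).mp h1
    exact ⟨w, hw⟩

end Step1


section Step2
variable {R : Type u} [CommRing R] (A : Type*) [CommRing A] [Algebra R A]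
  (κ : Type*) [AddCommGroup κ] [Module A κ] [Module R κ] [IsScalarTower R A κ]
  {X : Type v} {Y : Type w} [AddCommGroup X] [Module R X] [AddCommGroup Y] [Module R Y]
  (h : X →ₗ[R] Y)

theorem cancel_natural (z : κ ⊗[A] (A ⊗[R] X)) :
    TensorProduct.AlgebraTensorModule.cancelBaseChange R A A κ Y
      (((h.baseChange A).lTensor κ) z) =
    (h.lTensor κ) (TensorProduct.AlgebraTensorModule.cancelBaseChange R A A κ X z) := by
  induction z using TensorProduct.induction_on with
  | zero => simp
  | add a b ha hb => rw [map_add, map_add, ha, hb, map_add, map_add]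
  | tmul m w =>
    induction w using TensorProduct.induction_on with
    | zero => simp
    | add a b ha hb =>
      rw [TensorProduct.tmul_add, map_add, map_add, ha, hb, map_add, map_add]
    | tmul a x => simp

/-- Step 2 -/
theorem injective_lTensor_iff :
    Function.Injective ((h.baseChange A).lTensor κ) ↔ Function.Injective (h.lTensor κ) := by
  have key : ⇑(h.lTensor κ) ∘ ⇑(TensorProduct.AlgebraTensorModule.cancelBaseChange R A A κ X) =
      ⇑(TensorProduct.AlgebraTensorModule.cancelBaseChange R A A κ Y) ∘
        ⇑((h.baseChange A).lTensor κ) := by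
    funext z
    exact (cancel_natural A κ h z).symm
  constructor
  · intro H
    have h1 : Function.Injective (⇑(h.lTensor κ) ∘
        ⇑(TensorProduct.AlgebraTensorModule.cancelBaseChange R A A κ X)) := by
      rw [key]
      exact (LinearEquiv.injective _).comp H
    have h2 := h1.comp (TensorProduct.AlgebraTensorModule.cancelBaseChange R A A κ X).symm.injective
    convert h2 using 1
    funext z
    simp
  · intro H
    have h1 : Function.Injective (⇑(TensorProduct.AlgebraTensorModule.cancelBaseChange R A A κ Y) ∘
        ⇑((h.baseChange A).lTensor κ)) := by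
      rw [← key]
      exact H.comp (LinearEquiv.injective _)
    exact Function.Injective.of_comp h1

end Step2


section Step3
variable {R : Type u} [CommRing R] {M : Type v} {N : Type w} [AddCommGroup M] [Module R M]
  [AddCommGroup N] [Module R N] [Module.Finite R M] [Module.Finite R N] [Module.Projective R N]
  (d : M →ₗ[R] N) (A : Type*) [CommRing A] [Algebra R A] [IsLocalRing A] [Module.Flat R A]

theorem free_iff_injective :
    Module.Free A (A ⊗[R] (N ⧸ LinearMap.range d)) ↔
      Function.Injective (((LinearMap.range d).subtype.baseChange A).lTensor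
        (IsLocalRing.ResidueField A)) := by
  have hsurj : Function.Surjective ((LinearMap.range d).mkQ.baseChange A) :=
    LinearMap.lTensor_surjective A (Submodule.mkQ_surjective _)
  have hex : Function.Exact ((LinearMap.range d).subtype.baseChange A)
      ((LinearMap.range d).mkQ.baseChange A) :=
    lTensor_exact A (LinearMap.exact_subtype_mkQ (LinearMap.range d)) (Submodule.mkQ_surjective _)
  haveI : Module.Finite R (LinearMap.range d) := Module.Finite.range d
  constructor
  · intro hfree
    have hinj : Function.Injective ((LinearMap.range d).subtype.baseChange A) :=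
      Module.Flat.lTensor_preserves_injective_linearMap (M := A) _
        (LinearMap.range d).subtype_injective
    exact LinearMap.lTensor_injective_of_exact_of_flat ((LinearMap.range d).mkQ.baseChange A) hsurj
      ((LinearMap.range d).subtype.baseChange A) hinj hex (IsLocalRing.ResidueField A)
  · intro hf
    haveI : Module.Free A (A ⊗[R] N) := Module.free_of_flat_of_isLocalRing
    exact Module.free_of_lTensor_residueField_injective
      ((LinearMap.range d).subtype.baseChange A) ((LinearMap.range d).mkQ.baseChange A) hsurj hex hf

end Step3

section Core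
variable {R : Type u} [CommRing R] {M : Type v} {N : Type w} [AddCommGroup M] [Module R M]
  [AddCommGroup N] [Module R N] [Module.Finite R M] [Module.Finite R N] [Module.Projective R N]
  (d : M →ₗ[R] N)

theorem finitePresentation_coker : Module.FinitePresentation R (N ⧸ LinearMap.range d) := by
  haveI : Module.FinitePresentation R N := Module.finitePresentation_of_projective R N
  refine Module.finitePresentation_of_surjective (LinearMap.range d).mkQ
    (Submodule.mkQ_surjective _) ?_
  rw [Submodule.ker_mkQ, LinearMap.range_eq_map]
  exact Module.Finite.fg_top.map d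

theorem core (p : PrimeSpectrum R) :
    LinearMap.ker (d.baseChange p.asIdeal.ResidueField) ≤
        LinearMap.range ((LinearMap.ker d).subtype.baseChange p.asIdeal.ResidueField) ↔
      p ∈ Module.freeLocus R (N ⧸ LinearMap.range d) := by
  rw [ker_le_range_iff, ← injective_lTensor_iff (Localization.AtPrime p.asIdeal),
    ← free_iff_injective, Module.mem_freeLocus_iff_tensor p (Localization.AtPrime p.asIdeal)]

end Core

end Groth.Agent.H4.FreeLocusKer
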