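import Mathlib
import Groth.Prelude.Def_DualLC
import Groth.Agent.H4.GM3
import Groth.Agent.H4.RG11
import Groth.Agent.H4.LDer7
import Groth.Agent.H4.KProj7
import Groth.Agent.H4.RD2

/-!
# Derived base change along Frobenius commutes with `RΓ_I`
-/

set_option autoImplicit false
universe u
open CategoryTheory Category Limits Pretriangulated

namespace Groth.Agent.H4.FrobRG1

attribute [local instance] HasDerivedCategory.standard
attribute [local instance] Groth.Agent.H4.GM3.hasRgammaI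
attribute [local instance] Groth.Agent.H4.KProj.hasLBaseChange

open DRing DerivedCategory Groth.Agent.H4.DCompl2

variable {A : Type u} [CommRing A]

section FInvAlg

lemma smul_id_comp (a b : A) (Y : Dual.D A) : (a * b) • 𝟙 Y = (a • 𝟙 Y) ≫ (b • 𝟙 Y) := by
  rw [Linear.smul_comp, Linear.comp_smul, id_comp, smul_smul]

lemma smul_id_comm (a : A) {Y Y' : Dual.D A} (g : Y ⟶ Y') : (a • 𝟙 Y) ≫ g = g ≫ (a • 𝟙 Y') := by
  rw [Linear.smul_comp, Linear.comp_smul, id_comp, comp_id]

lemma FInv_mul {a b : A} {Y : Dual.D A} (ha : FInv a Y) (hb : FInv b Y) : FInv (a * b) Y := by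
  unfold FInv at *
  rw [smul_id_comp]
  haveI := ha
  haveI := hb
  infer_instance

lemma FInv_pow {a : A} {Y : Dual.D A} (ha : FInv a Y) (n : ℕ) : FInv (a ^ n) Y := by
  induction n with
  | zero =>
    unfold FInv
    rw [pow_zero, one_smul]
    infer_instance
  | succ n ih =>
    rw [pow_succ]
    exact FInv_mul ih ha

lemma FInv_of_mul {a b : A} {Y : Dual.D A} (h : FInv (a * b) Y) : FInv a Y := by
  unfold FInv at *
  haveI := h
  refine ⟨⟨(b • 𝟙 Y) ≫ inv ((a * b) • 𝟙 Y), ?_, ?_⟩⟩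
  · rw [← assoc, ← smul_id_comp, IsIso.hom_inv_id]
  · rw [assoc, ← smul_id_comm, ← assoc, ← smul_id_comp, mul_comm, IsIso.hom_inv_id]

end FInvAlg

section Semilinear

variable {B : Type u} [CommRing B] (φ : A →+* B)

lemma restrictScalars_map_smul_id (a : A) (X : Cx B) :
    ((ModuleCat.restrictScalars.{u} φ).mapHomologicalComplex (ComplexShape.up ℤ)).map ((φ a) • 𝟙 X) =
      a • 𝟙 (((ModuleCat.restrictScalars.{u} φ).mapHomologicalComplex (ComplexShape.up ℤ)).obj X) := by
  ext n x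
  simp
  rfl

lemma restrictD_map_smul_id (a : A) (Y : Dual.D B) :
    (restrictD φ).map ((φ a) • 𝟙 Y) = a • 𝟙 ((restrictD φ).obj Y) := by
  let F := ModuleCat.restrictScalars.{u} φ
  let X := Q.objPreimage Y
  let e : Q.obj X ≅ Y := Q.objObjPreimageIso Y
  let α : (restrictD φ).obj (Q.obj X) ≅ Q.obj ((F.mapHomologicalComplex (ComplexShape.up ℤ)).obj X) :=
    F.mapDerivedCategoryFactors.app X
  have h1 : (φ a) • 𝟙 Y = e.inv ≫ Q.map ((φ a) • 𝟙 X) ≫ e.hom := by
    rw [Functor.map_smul, CategoryTheory.Functor.map_id, Linear.smul_comp, Linear.comp_smul,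
      id_comp, e.inv_hom_id]
  have h2 : (restrictD φ).map (Q.map ((φ a) • 𝟙 X)) =
      α.hom ≫ Q.map ((F.mapHomologicalComplex (ComplexShape.up ℤ)).map ((φ a) • 𝟙 X)) ≫ α.inv := by
    have := F.mapDerivedCategoryFactors.hom.naturality ((φ a) • 𝟙 X)
    simp only [Functor.comp_map] at this
    rw [← assoc, Iso.eq_comp_inv]
    exact this
  rw [h1, Functor.map_comp, Functor.map_comp, h2, restrictScalars_map_smul_id, Functor.map_smul,
    CategoryTheory.Functor.map_id]
  simp only [Linear.smul_comp, Linear.comp_smul]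
  congr 1
  rw [id_comp, α.hom_inv_id, id_comp, ← Functor.map_comp, e.inv_hom_id,
    CategoryTheory.Functor.map_id]

lemma LB_map_smul_id (a : A) (C : Dual.D A) :
    (LBaseChange φ).map (a • 𝟙 C) = (φ a) • 𝟙 ((LBaseChange φ).obj C) := by
  let adj := Groth.Agent.H4.KProj.adjLBaseChange φ
  apply (adj.homEquiv _ _).injective
  have h1 : adj.homEquiv _ _ ((LBaseChange φ).map (a • 𝟙 C)) = a • adj.unit.app C := by
    rw [adj.homEquiv_unit]
    have := adj.unit.naturality (a • 𝟙 C)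
    simp only [Functor.id_map, Functor.comp_map] at this
    rw [← this, Linear.smul_comp]
    congr 1
    exact id_comp _
  have h2 : adj.homEquiv _ _ ((φ a) • 𝟙 ((LBaseChange φ).obj C)) = a • adj.unit.app C := by
    rw [adj.homEquiv_unit, restrictD_map_smul_id, Linear.comp_smul]
    congr 1
    exact comp_id _
  rw [h1, h2]

end Semilinear

section Frob

variable (p : ℕ) [Fact p.Prime] [CharP A p]

lemma FInv_LB {f : A} {C : Dual.D A} (h : FInv f C) :
    FInv f ((LBaseChange (frobenius A p)).obj C) := by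
  have h1 : FInv (f ^ p) ((LBaseChange (frobenius A p)).obj C) := by
    unfold FInv
    have := LB_map_smul_id (frobenius A p) f C
    rw [frobenius_def] at this
    rw [← this]
    haveI : IsIso (f • 𝟙 C) := h
    infer_instance
  obtain ⟨k, hk⟩ : ∃ k, p = k + 1 := Nat.exists_eq_succ_of_ne_zero (Fact.out : p.Prime).ne_zero
  have hp : f ^ p = f * f ^ k := by rw [hk, pow_succ']
  rw [hp] at h1
  exact FInv_of_mul h1

lemma FInv_Rs {f : A} {C : Dual.D A} (h : FInv f C) :
    FInv f ((restrictD (frobenius A p)).obj C) := by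
  have h1 : FInv (f ^ p) C := FInv_pow h p
  unfold FInv at h1 ⊢
  have := restrictD_map_smul_id (frobenius A p) f C
  rw [frobenius_def] at this
  rw [← this]
  haveI := h1
  infer_instance

end Frob

section Tor

variable [IsNoetherianRing A] (I : Ideal A)

lemma isIso_eps_rgamma (K : Dual.D A) : IsIso ((RgammaIε I).app ((RgammaI I).obj K)) :=
  Groth.Agent.H4.RG10.S1813 I _ (fun i => Groth.Agent.H4.RG11.isPowerTorsion_HD_Rgamma I K i)

lemma exists_tri (K : Dual.D A) :
    ∃ (C : Dual.D A) (g : K ⟶ C) (h : C ⟶ ((RgammaI I).obj K)⟦(1 : ℤ)⟧),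
      Triangle.mk ((RgammaIε I).app K) g h ∈ distTriang (Dual.D A) ∧
        IsZero ((RgammaI I).obj C) := by
  obtain ⟨C, g, h, hT⟩ := distinguished_cocone_triangle ((RgammaIε I).app K)
  refine ⟨C, g, h, hT, ?_⟩
  exact (Groth.Agent.H4.GM1.isIso_map_mor₁_iff I _ hT).1 (Groth.Agent.H4.RG11.isIso_map_eps I K)

lemma hom_eq_zero_of_tor {T Y : Dual.D A} (hT : IsIso ((RgammaIε I).app T))
    (hY : IsZero ((RgammaI I).obj Y)) (g : T ⟶ Y) : g = 0 := by
  have h := (RgammaIε I).naturality g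
  simp only [Functor.id_map] at h
  have h0 : (RgammaI I).map g = 0 := hY.eq_of_tgt _ _
  rw [h0, zero_comp] at h
  haveI := hT
  rw [← cancel_epi ((RgammaIε I).app T), ← h, comp_zero]

lemma isIso_eps_of_retract {X T : Dual.D A} (hX : IsIso ((RgammaIε I).app X)) (s : T ⟶ X)
    (a : X ⟶ T) (h : s ≫ a = 𝟙 T) : IsIso ((RgammaIε I).app T) := by
  haveI := hX
  have h1 := (RgammaIε I).naturality s
  have h2 := (RgammaIε I).naturality a
  simp only [Functor.id_map] at h1 h2
  refine ⟨⟨s ≫ inv ((RgammaIε I).app X) ≫ (RgammaI I).map a, ?_, ?_⟩⟩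
  · rw [← assoc, ← h1, assoc, IsIso.hom_inv_id_assoc, ← Functor.map_comp, h,
      CategoryTheory.Functor.map_id]
  · rw [assoc, assoc, h2, IsIso.inv_hom_id_assoc, h]
    rfl

end Tor

section Main

variable [IsNoetherianRing A] (p : ℕ) [Fact p.Prime] [CharP A p]

open Groth.Agent.H4.GM3 Groth.Agent.H4.GM1

lemma isIso_eps_LB (f : A) {T₀ : Dual.D A}
    (hT₀ : IsIso ((RgammaIε (Ideal.span {f})).app T₀)) :
    IsIso ((RgammaIε (Ideal.span {f})).app ((LBaseChange (frobenius A p)).obj T₀)) := by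
  obtain ⟨C', q, h, hT, hC'⟩ := exists_tri (Ideal.span {f}) ((LBaseChange (frobenius A p)).obj T₀)
  have hFC' : FInv f C' := (isZero_rgamma_singleton_iff f C').1 hC'
  have hFR : FInv f ((restrictD (frobenius A p)).obj C') := FInv_Rs p hFC'
  have hZ : IsZero ((RgammaI (Ideal.span {f})).obj ((restrictD (frobenius A p)).obj C')) :=
    (isZero_rgamma_singleton_iff f _).2 hFR
  let adj := Groth.Agent.H4.KProj.adjLBaseChange (frobenius A p)
  have hq : q = 0 := by
    apply (adj.homEquiv _ _).injective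
    rw [hom_eq_zero_of_tor (Ideal.span {f}) hT₀ hZ (adj.homEquiv _ _ q)]
    exact (hom_eq_zero_of_tor (Ideal.span {f}) hT₀ hZ _).symm
  obtain ⟨s, hs⟩ := Triangle.coyoneda_exact₂ _ hT (𝟙 _) (by
    change 𝟙 _ ≫ q = 0
    rw [hq, comp_zero])
  exact isIso_eps_of_retract (Ideal.span {f}) (isIso_eps_rgamma (Ideal.span {f}) _) s _ hs.symm

theorem single (f : A) (K : Dual.D A) :
    Nonempty ((LBaseChange (frobenius A p)).obj ((RgammaI (Ideal.span {f})).obj K) ≅
      (RgammaI (Ideal.span {f})).obj ((LBaseChange (frobenius A p)).obj K)) := by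
  obtain ⟨C, g, h, hT, hC⟩ := exists_tri (Ideal.span {f}) K
  obtain ⟨T', hT', ⟨e₁⟩, ⟨e₂⟩, ⟨e₃⟩⟩ := Groth.Agent.H4.LDer.exists_distTriang_LG'
    (ModuleCat.extendScalars.{u, u, u} (frobenius A p)) _ hT
  have e₁' : T'.obj₁ ≅ (LBaseChange (frobenius A p)).obj ((RgammaI (Ideal.span {f})).obj K) := e₁
  have e₂' : T'.obj₂ ≅ (LBaseChange (frobenius A p)).obj K := e₂
  have e₃' : T'.obj₃ ≅ (LBaseChange (frobenius A p)).obj C := e₃
  have hFC : FInv f C := (isZero_rgamma_singleton_iff f C).1 hC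
  have h3 : IsZero ((RgammaI (Ideal.span {f})).obj T'.obj₃) :=
    (isZero_rgamma_singleton_iff f _).2 (FInv.of_iso e₃'.symm (FInv_LB p hFC))
  haveI : IsIso ((RgammaI (Ideal.span {f})).map T'.mor₁) :=
    (isIso_map_mor₁_iff (Ideal.span {f}) T' hT').2 h3
  have h1 : IsIso ((RgammaIε (Ideal.span {f})).app
      ((LBaseChange (frobenius A p)).obj ((RgammaI (Ideal.span {f})).obj K))) :=
    isIso_eps_LB p f (isIso_eps_rgamma (Ideal.span {f}) K)
  haveI : IsIso ((RgammaIε (Ideal.span {f})).app T'.obj₁) :=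
    isIso_eps_of_retract (Ideal.span {f}) h1 e₁'.hom e₁'.inv e₁'.hom_inv_id
  exact ⟨e₁'.symm ≪≫ (asIso ((RgammaIε (Ideal.span {f})).app T'.obj₁)).symm ≪≫
    asIso ((RgammaI (Ideal.span {f})).map T'.mor₁) ≪≫ (RgammaI (Ideal.span {f})).mapIso e₂'⟩

theorem finset (s : Finset A) : ∀ K : Dual.D A,
    Nonempty ((LBaseChange (frobenius A p)).obj ((RgammaI (Ideal.span (s : Set A))).obj K) ≅
      (RgammaI (Ideal.span (s : Set A))).obj ((LBaseChange (frobenius A p)).obj K)) := by
  classical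
  induction s using Finset.induction_on with
  | empty =>
    intro K
    have h0 : Ideal.span ((∅ : Finset A) : Set A) = Ideal.span {0} := by simp
    obtain ⟨e1⟩ := rgamma_congr h0 K
    obtain ⟨e2⟩ := rgamma_congr h0 ((LBaseChange (frobenius A p)).obj K)
    obtain ⟨e⟩ := single p 0 K
    exact ⟨(LBaseChange (frobenius A p)).mapIso e1 ≪≫ e ≪≫ e2.symm⟩
  | insert f s hf ih =>
    intro K
    have h0 : Ideal.span ((insert f s : Finset A) : Set A) =
        Ideal.span {f} ⊔ Ideal.span (s : Set A) := by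
      rw [Finset.coe_insert, Ideal.span_insert]
    obtain ⟨a1⟩ := rgamma_congr h0 K
    obtain ⟨a2⟩ := rgamma_congr h0 ((LBaseChange (frobenius A p)).obj K)
    obtain ⟨b1⟩ := Groth.Agent.H4.RG8.S1816 (Ideal.span {f}) (Ideal.span (s : Set A)) K
    obtain ⟨b2⟩ := Groth.Agent.H4.RG8.S1816 (Ideal.span {f}) (Ideal.span (s : Set A))
      ((LBaseChange (frobenius A p)).obj K)
    obtain ⟨c⟩ := ih ((RgammaI (Ideal.span {f})).obj K)
    obtain ⟨d⟩ := single p f K
    exact ⟨(LBaseChange (frobenius A p)).mapIso (a1 ≪≫ b1.symm) ≪≫ c ≪≫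
      (RgammaI (Ideal.span (s : Set A))).mapIso d ≪≫ b2 ≪≫ a2.symm⟩

theorem main (I : Ideal A) :
    Nonempty ((LBaseChange (frobenius A p)).obj ((RgammaI I).obj (Dual.inD A A)) ≅
      (RgammaI I).obj (Dual.inD A A)) := by
  obtain ⟨s, hs⟩ := (IsNoetherian.noetherian I : I.FG)
  obtain ⟨a1⟩ := rgamma_congr hs (Dual.inD A A)
  obtain ⟨a2⟩ := rgamma_congr hs ((LBaseChange (frobenius A p)).obj (Dual.inD A A))
  obtain ⟨c⟩ := finset p s (Dual.inD A A)
  obtain ⟨u⟩ := Groth.Agent.H4.RD2.nonempty_LBC_unit_iso (frobenius A p)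
  exact ⟨(LBaseChange (frobenius A p)).mapIso a1.symm ≪≫ c ≪≫ a2 ≪≫
    (RgammaI I).mapIso (u ≪≫ Groth.Agent.H4.KI8.inDUnitIso.symm)⟩

end Main

end Groth.Agent.H4.FrobRG1
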