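import Mathlib
import Groth.Agent.H4.GF4

/-!
# Base change of dualizing complexes / Gorenstein local rings along field extensions
-/

set_option autoImplicit false
universe u
open CategoryTheory Category Limits Pretriangulated

namespace Groth.Agent.H4.GF5

attribute [local instance] HasDerivedCategory.standard

open DRing DerivedCategory Groth.Agent.H4.FB2 Groth.Agent.H4.FB3 Groth.Agent.H4.US21
  Groth.Agent.H4.GF3 Groth.Agent.H4.GF4

open scoped TensorProduct Polynomial

section fg

variable (k : Type u) [Field k] {A : Type u} [CommRing A] [Algebra k A] [Algebra.FiniteType k A]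

lemma residueField_fg (p : Ideal A) [p.IsPrime] :
    ∃ s : Finset p.ResidueField, IntermediateField.adjoin k (s : Set p.ResidueField) = ⊤ := by
  haveI : Algebra.EssFiniteType k (Localization.AtPrime p) :=
    Algebra.EssFiniteType.comp k A (Localization.AtPrime p)
  haveI : Algebra.EssFiniteType k p.ResidueField :=
    inferInstanceAs (Algebra.EssFiniteType k
      (Localization.AtPrime p ⧸ IsLocalRing.maximalIdeal (Localization.AtPrime p)))
  exact IntermediateField.fg_top_iff.2 inferInstance

end fg

section S8932

variable (k K : Type u) [Field k] [Field K] [Algebra k K] (A : Type u) [CommRing A] [Algebra k A]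

attribute [local instance] Algebra.TensorProduct.rightAlgebra

/-- the fibres of `A → K ⊗ A` -/
noncomputable def fiberEquiv (p : Ideal A) [p.IsPrime] :
    p.Fiber (K ⊗[k] A) ≃+* p.ResidueField ⊗[k] K :=
  (Algebra.TensorProduct.congr (AlgEquiv.refl : p.ResidueField ≃ₐ[A] p.ResidueField)
    (Algebra.TensorProduct.commRight k A K).symm).toRingEquiv.trans
    (Algebra.TensorProduct.cancelBaseChange k A A p.ResidueField K).toRingEquiv

variable [Algebra.FiniteType k A]

lemma flat_right : Module.Flat A (K ⊗[k] A) :=
  Module.Flat.of_linearEquiv (Algebra.TensorProduct.commRight k A K).symm.toLinearEquiv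

theorem isDualizing_E_fieldExt (ω : Dual.D A) (hω : Dual.IsDualizing A ω) :
    haveI := flat_right k K A
    Dual.IsDualizing (K ⊗[k] A) ((E A (K ⊗[k] A)).obj ω) := by
  haveI := flat_right k K A
  haveI : IsNoetherianRing A := Algebra.FiniteType.isNoetherianRing k A
  haveI : IsNoetherianRing (K ⊗[k] A) := Algebra.FiniteType.isNoetherianRing K (K ⊗[k] A)
  have hdimK : ringKrullDim K < ⊤ := by
    rw [ringKrullDim_eq_zero_of_field]
    exact WithBot.coe_lt_coe.2 (ENat.coe_lt_top 0)
  have hdim : ringKrullDim (K ⊗[k] A) < ⊤ := ringKrullDim_lt_top_of_finiteType K _ hdimK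
  refine isDualizing_E_of_gorenstein_fibres hdim (fun p _ => ?_) ω hω
  haveI : LocCoh.IsGorensteinRing K := isGorensteinRing_of_isDualizing_unit (isDualizing_unit_field K)
  have h1 : LocCoh.IsGorensteinRing (p.ResidueField ⊗[k] K) :=
    S8948 k p.ResidueField K (residueField_fg k p)
  exact isGorensteinRing_of_ringEquiv (fiberEquiv k K A p).symm h1

theorem S8932 [DRing.HasLBaseChange
      (Algebra.TensorProduct.includeRight : A →ₐ[k] K ⊗[k] A).toRingHom]
    (ω : Dual.D A) (hω : Dual.IsDualizing A ω) :
    Dual.IsDualizing (K ⊗[k] A)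
      ((DRing.LBaseChange
        (Algebra.TensorProduct.includeRight : A →ₐ[k] K ⊗[k] A).toRingHom).obj ω) := by
  haveI := flat_right k K A
  haveI : DRing.HasLBaseChange (algebraMap A (K ⊗[k] A)) :=
    ‹DRing.HasLBaseChange (Algebra.TensorProduct.includeRight : A →ₐ[k] K ⊗[k] A).toRingHom›
  exact isDualizing_of_iso (LBCIso ω).symm (isDualizing_E_fieldExt k K A ω hω)

end S8932

section locIff

variable {A D : Type u} [CommRing A] [CommRing D] [Algebra A D] [Module.Flat A D]
  [IsNoetherianRing A] [IsNoetherianRing D]

/-- Gorenstein-ness of `A_p` and `D_q` are equivalent when the fibre ring over `p` is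
Gorenstein. -/
theorem gor_localization_iff (p : Ideal A) [p.IsPrime] (q : Ideal D) [q.IsPrime] [q.LiesOver p]
    (hG : LocCoh.IsGorensteinRing (p.Fiber D)) :
    LocCoh.IsGorensteinLocalRing (Localization.AtPrime p) ↔
      LocCoh.IsGorensteinLocalRing (Localization.AtPrime q) := by
  have hF := gor_quot_of_fiber p hG q
  letI := Localization.AtPrime.algebraOfLiesOver p q
  haveI : IsLocalHom (algebraMap (Localization.AtPrime p) (Localization.AtPrime q)) :=
    Localization.isLocalHom_localRingHom p q (algebraMap A D) Ideal.LiesOver.over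
  haveI : IsNoetherianRing (Localization.AtPrime p) :=
    IsLocalization.isNoetherianRing p.primeCompl _ inferInstance
  haveI : IsNoetherianRing (Localization.AtPrime q) :=
    IsLocalization.isNoetherianRing q.primeCompl _ inferInstance
  have hI : (IsLocalRing.maximalIdeal (Localization.AtPrime p)).map
      (algebraMap (Localization.AtPrime p) (Localization.AtPrime q)) =
      p.map (algebraMap A (Localization.AtPrime q)) := by
    rw [← Localization.AtPrime.map_eq_maximalIdeal, Ideal.map_map,
      ← IsScalarTower.algebraMap_eq]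
  have hF' : LocCoh.IsGorensteinLocalRing
      (Localization.AtPrime q ⧸ (IsLocalRing.maximalIdeal (Localization.AtPrime p)).map
        (algebraMap (Localization.AtPrime p) (Localization.AtPrime q))) :=
    Groth.Agent.H4.GL2.isGorensteinLocalRing_of_ringEquiv (Ideal.quotEquivOfEq hI.symm) hF
  have h := Groth.Agent.H4.GF2.S0344 (A := Localization.AtPrime p)
    (B := Localization.AtPrime q)
  exact ⟨fun hA => h.2 ⟨hA, hF'⟩, fun hD => (h.1 hD).1⟩

end locIff

section S1803

variable (k k' : Type u) [Field k] [Field k'] [Algebra k k'] (C : Type u) [CommRing C]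
  [Algebra k C] [Algebra.FiniteType k C]

theorem S1803 (q : PrimeSpectrum (C ⊗[k] k')) :
    LocCoh.IsGorensteinLocalRing
        (Localization.AtPrime (q.asIdeal.comap (algebraMap C (C ⊗[k] k')))) ↔
      LocCoh.IsGorensteinLocalRing (Localization.AtPrime q.asIdeal) := by
  haveI : IsNoetherianRing C := Algebra.FiniteType.isNoetherianRing k C
  haveI : IsNoetherianRing (k' ⊗[k] C) := Algebra.FiniteType.isNoetherianRing k' (k' ⊗[k] C)
  haveI : IsNoetherianRing (C ⊗[k] k') :=
    isNoetherianRing_of_ringEquiv _ (Algebra.TensorProduct.comm k k' C).toRingEquiv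
  let p : Ideal C := q.asIdeal.comap (algebraMap C (C ⊗[k] k'))
  haveI : p.IsPrime := Ideal.comap_isPrime _ _
  haveI : q.asIdeal.LiesOver p := ⟨rfl⟩
  refine gor_localization_iff p q.asIdeal ?_
  haveI : LocCoh.IsGorensteinRing k' := isGorensteinRing_of_isDualizing_unit (isDualizing_unit_field k')
  have h1 : LocCoh.IsGorensteinRing (p.ResidueField ⊗[k] k') :=
    S8948 k p.ResidueField k' (residueField_fg k p)
  exact isGorensteinRing_of_ringEquiv
    (Algebra.TensorProduct.cancelBaseChange k C C p.ResidueField k').symm.toRingEquiv h1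

end S1803

section S1760

variable (k k' : Type u) [Field k] [Field k'] [Algebra k k']

theorem S1760 (hfg : ∃ s : Finset k', IntermediateField.adjoin k (s : Set k') = ⊤) (B : Type u)
    [CommRing B] [IsLocalRing B] [IsNoetherianRing B] [Algebra k B]
    (q : PrimeSpectrum (B ⊗[k] k'))
    (hq : q.asIdeal.comap (algebraMap B (B ⊗[k] k')) = IsLocalRing.maximalIdeal B) :
    LocCoh.IsGorensteinLocalRing B ↔
      LocCoh.IsGorensteinLocalRing (Localization.AtPrime q.asIdeal) := by
  have hUG : UG k k' := ug_of_fg_top hfg
  have hN : IsNoetherianRing (k' ⊗[k] B) := by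
    have h := hUG B
    letI := (Algebra.TensorProduct.includeRight : B →ₐ[k] k' ⊗[k] B).toRingHom.toAlgebra
    have h' : GoodAlg B (k' ⊗[k] B) := h
    exact h'.noeth inferInstance
  haveI : IsNoetherianRing (B ⊗[k] k') :=
    isNoetherianRing_of_ringEquiv _ (Algebra.TensorProduct.comm k k' B).toRingEquiv
  let p : Ideal B := IsLocalRing.maximalIdeal B
  haveI : q.asIdeal.LiesOver p := ⟨hq.symm⟩
  have h1 : LocCoh.IsGorensteinLocalRing (Localization.AtPrime p) ↔
      LocCoh.IsGorensteinLocalRing (Localization.AtPrime q.asIdeal) := by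
    refine gor_localization_iff p q.asIdeal ?_
    haveI : LocCoh.IsGorensteinRing p.ResidueField :=
      isGorensteinRing_of_isDualizing_unit (isDualizing_unit_field p.ResidueField)
    have h2 : LocCoh.IsGorensteinRing (k' ⊗[k] p.ResidueField) := S8948 k k' p.ResidueField hfg
    exact isGorensteinRing_of_ringEquiv
      ((Algebra.TensorProduct.comm k k' p.ResidueField).toRingEquiv.trans
        (Algebra.TensorProduct.cancelBaseChange k B B p.ResidueField k').symm.toRingEquiv) h2
  let e : B ≃ₐ[B] Localization.AtPrime p :=
    IsLocalization.atUnits B p.primeCompl (fun x hx => by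
      have : x ∉ IsLocalRing.maximalIdeal B := hx
      have h' : IsUnit x := by simpa using this
      exact h')
  rw [← h1]
  exact ⟨fun h => Groth.Agent.H4.GL2.isGorensteinLocalRing_of_ringEquiv e.toRingEquiv h,
    fun h => Groth.Agent.H4.GL2.isGorensteinLocalRing_of_ringEquiv e.toRingEquiv.symm h⟩

end S1760

end Groth.Agent.H4.GF5
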