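import Mathlib
import Groth.Agent.H4.GF5
import Groth.Agent.S0543
import Groth.Prelude.Def_EGA4b

/-!
# Fibres are Gorenstein when base change preserves a dualizing complex; formal fibres (S1723)
-/

set_option autoImplicit false
universe u
open CategoryTheory Category Limits Pretriangulated

namespace Groth.Agent.H4.GF6

attribute [local instance] HasDerivedCategory.standard

open DRing DerivedCategory Groth.Agent.H4.FB2 Groth.Agent.H4.FB3 Groth.Agent.H4.US21
  Groth.Agent.H4.GF1 Groth.Agent.H4.GF3 Groth.Agent.H4.GF4

open scoped TensorProduct Polynomial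

section conv

variable {A B : Type u} [CommRing A] [CommRing B] [Algebra A B] [Module.Flat A B]
  [IsNoetherianRing A] [IsNoetherianRing B]

/-- local statement: the closed fibre of `A_p → B_r` is Gorenstein if `K` and `E K` are
dualizing. -/
theorem gor_quot_of_isDualizing_E (K : Dual.D A) (hK : Dual.IsDualizing A K)
    (hX : Dual.IsDualizing B ((E A B).obj K))
    (p : Ideal A) [p.IsPrime] (r : Ideal B) [r.IsPrime] [r.LiesOver p] :
    LocCoh.IsGorensteinLocalRing
      (Localization.AtPrime r ⧸ p.map (algebraMap A (Localization.AtPrime r))) := by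
  letI := Localization.AtPrime.algebraOfLiesOver p r
  haveI : IsLocalHom (algebraMap (Localization.AtPrime p) (Localization.AtPrime r)) :=
    Localization.isLocalHom_localRingHom p r (algebraMap A B) Ideal.LiesOver.over
  haveI : IsNoetherianRing (Localization.AtPrime p) :=
    IsLocalization.isNoetherianRing p.primeCompl _ inferInstance
  haveI : IsNoetherianRing (Localization.AtPrime r) :=
    IsLocalization.isNoetherianRing r.primeCompl _ inferInstance
  haveI : Module.Flat A (Localization.AtPrime r) := Module.Flat.trans A B _
  have h1 : Dual.IsDualizing (Localization.AtPrime p) ((E A (Localization.AtPrime p)).obj K) :=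
    isDualizing_E_localization A p.primeCompl K hK
  have h2 : Dual.IsDualizing (Localization.AtPrime r)
      ((E B (Localization.AtPrime r)).obj ((E A B).obj K)) :=
    isDualizing_E_localization B r.primeCompl _ hX
  have h3 : Dual.IsDualizing (Localization.AtPrime r)
      ((E (Localization.AtPrime p) (Localization.AtPrime r)).obj
        ((E A (Localization.AtPrime p)).obj K)) :=
    isDualizing_of_iso ((ETowerIso A B (Localization.AtPrime r) K).symm ≪≫
      ETowerIso A (Localization.AtPrime p) (Localization.AtPrime r) K) h2
  have h4 := Groth.Agent.H4.GF2.isDualizing_fib (A := Localization.AtPrime p)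
    (B := Localization.AtPrime r) _ h1 h3
  have hI : (IsLocalRing.maximalIdeal (Localization.AtPrime p)).map
      (algebraMap (Localization.AtPrime p) (Localization.AtPrime r)) =
      p.map (algebraMap A (Localization.AtPrime r)) := by
    rw [← Localization.AtPrime.map_eq_maximalIdeal, Ideal.map_map,
      ← IsScalarTower.algebraMap_eq]
  exact Groth.Agent.H4.GL2.isGorensteinLocalRing_of_ringEquiv (Ideal.quotEquivOfEq hI)
    (Groth.Agent.H4.US17.gorenstein_of_isDualizing_unit h4)

end conv

section conv2

variable {A B : Type u} [CommRing A] [CommRing B] [Algebra A B] [Module.Flat A B]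
  [IsNoetherianRing A] [IsNoetherianRing B]

/-- **the fibres of a flat map are Gorenstein if base change preserves one dualizing complex.** -/
theorem gorenstein_fibre_of_isDualizing_E (K : Dual.D A) (hK : Dual.IsDualizing A K)
    (hX : Dual.IsDualizing B ((E A B).obj K))
    (p : Ideal A) [p.IsPrime] [IsNoetherianRing (p.Fiber B)] :
    LocCoh.IsGorensteinRing (p.Fiber B) := by
  refine { toIsNoetherian := inferInstance, isGorensteinLocalRing_localization := fun q' _ => ?_ }
  let r' : Ideal B := q'.comap (Algebra.TensorProduct.includeRight : B →ₐ[A] p.Fiber B)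
  haveI : r'.IsPrime := Ideal.comap_isPrime _ _
  haveI : r'.LiesOver p := inferInstance
  have h1 := gor_quot_of_isDualizing_E K hK hX p r'
  have hI : (p.map (algebraMap A B)).map (algebraMap B (Localization.AtPrime r')) =
      p.map (algebraMap A (Localization.AtPrime r')) := by
    rw [Ideal.map_map, ← IsScalarTower.algebraMap_eq]
  have h2 := Groth.Agent.H4.GL2.isGorensteinLocalRing_of_ringEquiv
    (Ideal.quotEquivOfEq hI.symm) h1
  exact Groth.Agent.H4.GL2.isGorensteinLocalRing_of_ringEquiv
    (Ideal.Fiber.algEquivAux₂ p q').toRingEquiv.symm h2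

end conv2

section noeth

/-- fibre rings of Noetherian algebras are Noetherian -/
lemma isNoetherianRing_fiber {A B : Type u} [CommRing A] [CommRing B] [Algebra A B]
    [IsNoetherianRing B] (p : Ideal A) [p.IsPrime] : IsNoetherianRing (p.Fiber B) := by
  haveI : Algebra.EssFiniteType A (Localization.AtPrime p) :=
    Algebra.EssFiniteType.of_isLocalization _ p.primeCompl
  haveI : Algebra.EssFiniteType A p.ResidueField :=
    Algebra.EssFiniteType.comp A (Localization.AtPrime p) p.ResidueField
  haveI : Algebra.EssFiniteType B (B ⊗[A] p.ResidueField) := inferInstance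
  haveI : IsNoetherianRing (B ⊗[A] p.ResidueField) :=
    Algebra.EssFiniteType.isNoetherianRing B _
  exact isNoetherianRing_of_ringEquiv _ (Algebra.TensorProduct.comm A B p.ResidueField).toRingEquiv

end noeth

section S1723

open IsLocalRing

theorem S1723 (A : Type u) [CommRing A] [IsLocalRing A] [IsNoetherianRing A] (ω : Dual.D A)
    (hω : Dual.IsDualizing A ω) (p : PrimeSpectrum A) :
    LocCoh.IsGorensteinRing (EGA4.formalFibre A p.asIdeal) := by
  haveI : IsNoetherianRing (EGA4.Cpl A) := Groth.Agent.S0543.result A _
  have hX : Dual.IsDualizing (EGA4.Cpl A) ((E A (EGA4.Cpl A)).obj ω) := by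
    refine Groth.Agent.H4.FB7.isDualizing_E_of_maximal_extended (fun n hn => ?_) ω hω
    refine ⟨maximalIdeal A, ?_⟩
    rw [IsLocalRing.eq_maximalIdeal hn]
    exact AdicCompletion.maximalIdeal_eq_map
  haveI : IsNoetherianRing (p.asIdeal.Fiber (EGA4.Cpl A)) := isNoetherianRing_fiber p.asIdeal
  exact gorenstein_fibre_of_isDualizing_E ω hω hX p.asIdeal

end S1723

end Groth.Agent.H4.GF6
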