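import Mathlib
import Groth.Agent.H4.GF6
import Groth.Agent.S0342
import Groth.Prelude.Def_Found

/-!
# Gorenstein fibres and regular maps: S8949
-/

set_option autoImplicit false
universe u
open CategoryTheory Category Limits Pretriangulated

namespace Groth.Agent.H4.GF7

open Groth.Agent.H4.GF3 Groth.Agent.H4.GF4 Groth.Agent.H4.GF6

open scoped TensorProduct

section reg

/-- a regular ring is Gorenstein -/
theorem isGorensteinRing_of_isRegularRing (T : Type u) [CommRing T] [IsRegularRing T] :
    LocCoh.IsGorensteinRing T := by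
  refine { toIsNoetherian := inferInstance, isGorensteinLocalRing_localization := fun p _ => ?_ }
  exact Groth.Agent.S0342.result _

end reg

section main

variable {A B C : Type u} [CommRing A] [CommRing B] [CommRing C] [IsNoetherianRing A]
  [IsNoetherianRing B] [IsNoetherianRing C] [Algebra A B] [Algebra B C] [Algebra A C]
  [IsScalarTower A B C] [Module.Flat A B] [Module.Flat B C]

theorem S8949 (hAB : ∀ (q : Ideal A) [q.IsPrime], LocCoh.IsGorensteinRing (q.Fiber B))
    (hBC : CAlg.IsRegularHom B C) (q : Ideal A) [q.IsPrime] :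
    LocCoh.IsGorensteinRing (q.Fiber C) := by
  let κ := q.ResidueField
  let B'' := B ⊗[A] κ
  let C'' := C ⊗[A] κ
  let φ : B'' →ₐ[A] C'' := Algebra.TensorProduct.map (IsScalarTower.toAlgHom A B C) (AlgHom.id A κ)
  letI : Algebra B'' C'' := φ.toRingHom.toAlgebra
  haveI : IsScalarTower B B'' C'' := IsScalarTower.of_algebraMap_eq (fun b => by
    rw [RingHom.algebraMap_toAlgebra, Algebra.TensorProduct.algebraMap_apply,
      Algebra.TensorProduct.algebraMap_apply]
    simp only [Algebra.algebraMap_self, RingHom.id_apply]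
    rfl)
  have hpo : Algebra.IsPushout B C B'' C'' :=
    Algebra.IsPushout.tensorProduct_tensorProduct A κ B C (RingHom.ext fun x => by
      change (Algebra.TensorProduct.map (IsScalarTower.toAlgHom A B C) (AlgHom.id A κ))
        ((1 : B) ⊗ₜ[A] x) = (1 : C) ⊗ₜ[A] x
      rw [Algebra.TensorProduct.map_tmul, map_one]
      rfl)
  have hpo' : Algebra.IsPushout B B'' C C'' := hpo.symm
  haveI : Module.Flat B'' C'' :=
    Module.Flat.isBaseChange B B'' C C'' hpo'.out
  haveI : IsNoetherianRing (q.Fiber B) := isNoetherianRing_fiber q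
  haveI : IsNoetherianRing (q.Fiber C) := isNoetherianRing_fiber q
  haveI : IsNoetherianRing B'' :=
    isNoetherianRing_of_ringEquiv _ (Algebra.TensorProduct.comm A κ B).toRingEquiv
  haveI : IsNoetherianRing C'' :=
    isNoetherianRing_of_ringEquiv _ (Algebra.TensorProduct.comm A κ C).toRingEquiv
  have hB'' : LocCoh.IsGorensteinRing B'' :=
    isGorensteinRing_of_ringEquiv (Algebra.TensorProduct.comm A κ B).toRingEquiv (hAB q)
  have hC'' : LocCoh.IsGorensteinRing C'' := by
    refine isGorensteinRing_of_flat_of_fibres hB'' (fun P'' _ => ?_)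
    let P : Ideal B := P''.comap (algebraMap B B'')
    haveI : P.IsPrime := Ideal.comap_isPrime _ _
    -- the fibre of `B → C` over `P` is regular, hence Gorenstein
    have hreg : LocCoh.IsGorensteinRing (P.Fiber C) := by
      obtain ⟨hN, hG⟩ := hBC.2 P
      haveI : IsRegularRing (TensorProduct P.ResidueField P.ResidueField (P.Fiber C)) :=
        hG P.ResidueField inferInstance
      have e : (TensorProduct P.ResidueField P.ResidueField (P.Fiber C)) ≃+* P.Fiber C :=
        (Algebra.TensorProduct.lid P.ResidueField (P.Fiber C)).toRingEquiv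
      haveI : IsRegularRing (P.Fiber C) :=
        @IsRegularRing.of_ringEquiv (TensorProduct P.ResidueField P.ResidueField (P.Fiber C)) _
          (P.Fiber C) _ e _
      exact isGorensteinRing_of_isRegularRing _
    -- residue fields agree
    have hsos : (algebraMap B B'').SurjectiveOnStalks :=
      RingHom.SurjectiveOnStalks.baseChange (Ideal.surjectiveOnStalks_residueField q)
    let eκ : P.ResidueField ≃ₐ[B] P''.ResidueField :=
      AlgEquiv.ofBijective (Ideal.ResidueField.mapₐ P P'' (Algebra.ofId B B'') rfl)
        (hsos.residueFieldMap_bijective P P'' rfl)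
    haveI := hpo'
    let i1 : P''.Fiber C'' ≃+* P''.ResidueField ⊗[B''] (B'' ⊗[B] C) :=
      (Algebra.TensorProduct.congr (AlgEquiv.refl : P''.ResidueField ≃ₐ[B''] P''.ResidueField)
        (Algebra.IsPushout.equiv B B'' C C'').symm).toRingEquiv
    let i2 : P''.ResidueField ⊗[B''] (B'' ⊗[B] C) ≃+* P''.ResidueField ⊗[B] C :=
      (Algebra.TensorProduct.cancelBaseChange B B'' B'' P''.ResidueField C).toRingEquiv
    let i3 : P.ResidueField ⊗[B] C ≃+* P''.ResidueField ⊗[B] C :=
      (Algebra.TensorProduct.congr eκ (AlgEquiv.refl : C ≃ₐ[B] C)).toRingEquiv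
    exact isGorensteinRing_of_ringEquiv ((i1.trans i2).trans i3.symm).symm hreg
  exact isGorensteinRing_of_ringEquiv (Algebra.TensorProduct.comm A C κ).toRingEquiv hC''

end main

end Groth.Agent.H4.GF7
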