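import Mathlib
import Groth.Prelude.Def_KFlatSite
import Groth.Agent.H4.GK4
import Groth.Agent.Lib.Lead.EZ.ProjStmts

set_option autoImplicit false
universe u
open CategoryTheory CategoryTheory.Limits Opposite
attribute [local instance] HasDerivedCategory.standard
open Groth.Agent.H4.GK1 Groth.Agent.H4.GK2 Groth.Agent.H4.GK3 Groth.Agent.H4.GK4 Groth.Agent.LD.MS

namespace Groth.Agent.H4.GKS4

variable {C : Type u} [SmallCategory C] {J : GrothendieckTopology C} (O : Sheaf J CommRingCat.{u})

/-- a flat module placed in a single degree is K-flat -/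
theorem isKFlat_single (M : ModSite.Mod O) (hM : ModSite.IsFlat M) (n : ℤ) :
    ModSite.IsKFlat ((CochainComplex.singleFunctor (ModSite.Mod O) n).obj M) := by
  refine kflat_of_concentrated (F := ModSite.tensorBi O) _ n ?_ ?_
  · intro q hq
    exact HomologicalComplex.isZero_single_obj_X (ComplexShape.up ℤ) n M q hq
  · exact FlatObj.of_iso (F := ModSite.tensorBi O)
      (HomologicalComplex.singleObjXSelf (ComplexShape.up ℤ) n M).symm hM

theorem S11134 (x : C) :
    ModSite.IsKFlat ((CochainComplex.singleFunctor (ModSite.Mod O) 0).obj (ModSite.freeOn O x)) :=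
  isKFlat_single O _ (Groth.Agent.LD.EZ.isFlat_extZero_and_freeOn O x).2 0

end Groth.Agent.H4.GKS4
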