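import Mathlib
import Groth.Prelude.Def_GLin5

set_option linter.unusedSectionVars false
set_option linter.unusedVariables false
set_option linter.style.haveILetI false
set_option autoImplicit false

open MvPolynomial

universe u

noncomputable section

namespace Groth.Agent.H4.GLnChar

section Irr
variable {k : Type*} [Field k] {ι : Type*}

lemma det_mem_supported {m : ℕ} (A : Matrix (Fin m) (Fin m) (MvPolynomial ι k)) (s : Set ι)
    (h : ∀ i j, A i j ∈ supported k s) : A.det ∈ supported k s := by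
  rw [Matrix.det_apply']
  refine Subalgebra.sum_mem _ fun σ _ => ?_
  exact Subalgebra.mul_mem _ (Subalgebra.intCast_mem _ _) (Subalgebra.prod_mem _ fun i _ => h _ _)

lemma step (n : ℕ) (e : Fin (n+1) × Fin (n+1) → ι) (he : Function.Injective e)
    (ih : n = 0 ∨ Irreducible (Matrix.det
      (Matrix.of fun i j : Fin n => (X (e (i.succ, j.succ)) : MvPolynomial ι k)))) :
    Irreducible (Matrix.det
      (Matrix.of fun i j : Fin (n+1) => (X (e (i, j)) : MvPolynomial ι k))) := by
  classical
  set A : Matrix (Fin (n+1)) (Fin (n+1)) (MvPolynomial ι k) := Matrix.of fun i j => X (e (i, j)) with hA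
  set f : MvPolynomial ι k := Matrix.det
      (Matrix.of fun i j : Fin n => (X (e (i.succ, j.succ)) : MvPolynomial ι k)) with hf
  set g : MvPolynomial ι k := ∑ j : Fin n, (-1) ^ (j.succ : ℕ) * A 0 j.succ *
      (A.submatrix Fin.succ (Fin.succAbove j.succ)).det with hg
  have hsub : A.submatrix Fin.succ (Fin.succAbove 0) =
      Matrix.of fun i j : Fin n => (X (e (i.succ, j.succ)) : MvPolynomial ι k) := by
    ext i j
    simp [hA]
  have hdet : A.det = f * X (e (0,0)) + g := by
    rw [Matrix.det_succ_row_zero, Fin.sum_univ_succ, hsub]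
    simp only [Fin.val_zero, pow_zero, one_mul]
    rw [mul_comm]
    rfl
  have hfS : f ∈ supported k {x | x ≠ e (0,0)} := by
    refine det_mem_supported _ _ fun i j => ?_
    rw [Matrix.of_apply, X_mem_supported]
    intro h
    have := he h
    simp only [Prod.mk.injEq] at this
    exact Fin.succ_ne_zero _ this.1
  have hgS : g ∈ supported k {x | x ≠ e (0,0)} := by
    refine Subalgebra.sum_mem _ fun j _ => ?_
    refine Subalgebra.mul_mem _ (Subalgebra.mul_mem _ ?_ ?_) ?_
    · exact Subalgebra.pow_mem _ (Subalgebra.neg_mem _ (Subalgebra.one_mem _)) _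
    · rw [hA, Matrix.of_apply, X_mem_supported]
      intro h
      have := he h
      simp only [Prod.mk.injEq] at this
      exact Fin.succ_ne_zero _ this.2
    · refine det_mem_supported _ _ fun i j' => ?_
      rw [Matrix.submatrix_apply, hA, Matrix.of_apply, X_mem_supported]
      intro h
      have := he h
      simp only [Prod.mk.injEq] at this
      exact Fin.succ_ne_zero _ this.1
  have hif : e (0,0) ∉ f.vars := fun h => (mem_supported.1 hfS (Finset.mem_coe.2 h)) rfl
  have hig : e (0,0) ∉ g.vars := fun h => (mem_supported.1 hgS (Finset.mem_coe.2 h)) rfl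
  have hf1 : n = 0 → f = 1 := fun h0 => by
    rw [hf]; exact Matrix.det_eq_one_of_card_eq_zero (by simp [h0])
  rw [hdet]
  rcases ih with h0 | ih
  · refine irreducible_mul_X_add f g (e (0,0)) ?_ hif hig ?_
    · rw [hf1 h0]; exact one_ne_zero
    · rw [hf1 h0]; exact isRelPrime_one_left
  · have hn : n ≠ 0 := fun h0 => ih.not_isUnit (by rw [hf1 h0]; exact isUnit_one)
    refine irreducible_mul_X_add f g (e (0,0)) ih.ne_zero hif hig ?_
    rw [ih.isRelPrime_iff_not_dvd]
    -- evaluation at the swap matrix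
    have hr : (Fin.last n : Fin (n+1)) ≠ 0 := by
      intro h
      apply hn
      have := congrArg Fin.val h
      simpa using this
    set σ : Equiv.Perm (Fin (n+1)) := Equiv.swap 0 (Fin.last n) with hσ
    set Pm : Matrix (Fin (n+1)) (Fin (n+1)) k := σ.permMatrix k with hPm
    have hPm_apply : ∀ i j, Pm i j = if j = σ i then 1 else 0 := by
      intro i j
      rw [hPm, Equiv.Perm.permMatrix, PEquiv.toMatrix_toPEquiv_apply, Pi.single_apply]
    set a : ι → k := Function.extend e (fun p => Pm p.1 p.2) 0 with ha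
    have ha_apply : ∀ p, a (e p) = Pm p.1 p.2 := fun p => he.extend_apply _ _ p
    have hA_eval : (MvPolynomial.eval a).mapMatrix A = Pm := by
      ext i j
      simp [hA, ha_apply]
    have e1 : MvPolynomial.eval a A.det = -1 := by
      rw [RingHom.map_det, hA_eval, hPm, Matrix.det_permutation, hσ,
        Equiv.Perm.sign_swap (Ne.symm hr)]
      simp
    obtain ⟨i₀, hi₀⟩ := Fin.exists_succ_eq.2 hr
    have e2 : MvPolynomial.eval a f = 0 := by
      rw [hf, RingHom.map_det]
      refine Matrix.det_eq_zero_of_row_eq_zero i₀ fun j => ?_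
      simp only [RingHom.mapMatrix_apply, Matrix.map_apply, Matrix.of_apply, eval_X, ha_apply]
      rw [hPm_apply, hi₀, hσ, Equiv.swap_apply_right, if_neg (Fin.succ_ne_zero _)]
    have e3 : MvPolynomial.eval a g = -1 := by
      have := e1
      rw [hdet, map_add, map_mul, e2, zero_mul, zero_add] at this
      exact this
    rintro ⟨h, hh⟩
    rw [hh, map_mul, e2, zero_mul] at e3
    exact one_ne_zero (neg_eq_zero.1 e3.symm)

theorem irreducible_det_X : ∀ (n : ℕ) (e : Fin (n+1) × Fin (n+1) → ι), Function.Injective e →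
    Irreducible (Matrix.det
      (Matrix.of fun i j : Fin (n+1) => (X (e (i, j)) : MvPolynomial ι k)))
  | 0, e, he => step 0 e he (Or.inl rfl)
  | (m+1), e, he => step (m+1) e he (Or.inr
      (irreducible_det_X m (fun p => e (p.1.succ, p.2.succ)) (fun p q h => by
        have := he h
        simp only [Prod.mk.injEq, Fin.succ_inj] at this
        exact Prod.ext this.1 this.2)))

end Irr

section Main
variable (k : Type u) [Field k] (n : ℕ)

abbrev P := MvPolynomial (Fin n × Fin n) k

def M0 : Matrix (Fin n) (Fin n) (P k n) := Matrix.of fun i j => X (i, j)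
def d0 : P k n := (M0 k n).det

def iota : P k n →ₐ[k] CoordGrp.GLn n k :=
  MvPolynomial.aeval fun p => CoordGrp.GLn.X p.1 p.2

lemma iota_d0 : iota k n (d0 k n) = CoordGrp.GLn.det := by
  rw [d0, AlgHom.map_det, CoordGrp.GLn.det_eq]
  congr 1
  ext i j
  simp [M0, iota, CoordGrp.GLn.genMat]

lemma d0_ne_zero : d0 k n ≠ 0 := by
  intro h
  have := congrArg (MvPolynomial.eval fun p : Fin n × Fin n => if p.1 = p.2 then (1:k) else 0) h
  rw [d0, RingHom.map_det] at this
  have h1 : (MvPolynomial.eval fun p : Fin n × Fin n => if p.1 = p.2 then (1:k) else 0).mapMatrix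
      (M0 k n) = 1 := by
    ext i j
    simp [M0, Matrix.one_apply]
  rw [h1, Matrix.det_one, map_zero] at this
  exact one_ne_zero this

lemma d0_irreducible (hn : 0 < n) : Irreducible (d0 k n) := by
  obtain ⟨m, rfl⟩ : ∃ m, n = m + 1 := ⟨n - 1, by omega⟩
  exact irreducible_det_X (k := k) m (fun p => p) (fun p q h => h)

def phi : CoordGrp.GLn n k →ₐ[k] FractionRing (P k n) :=
  CoordGrp.GLn.pt n k ((M0 k n).map (algebraMap (P k n) (FractionRing (P k n))))
    (algebraMap (P k n) (FractionRing (P k n)) (d0 k n))⁻¹ (by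
    have h1 : ((M0 k n).map (algebraMap (P k n) (FractionRing (P k n)))).det =
        algebraMap (P k n) (FractionRing (P k n)) (d0 k n) := by
      rw [d0, RingHom.map_det]; rfl
    rw [h1]
    refine mul_inv_cancel₀ ?_
    exact (map_ne_zero_iff _ (IsFractionRing.injective (P k n) (FractionRing (P k n)))).2
      (d0_ne_zero k n))

lemma phi_iota (a : P k n) :
    phi k n (iota k n a) = algebraMap (P k n) (FractionRing (P k n)) a := by
  have : (phi k n).comp (iota k n) = IsScalarTower.toAlgHom k (P k n) (FractionRing (P k n)) := by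
    apply MvPolynomial.algHom_ext
    intro p
    simp [phi, iota, M0]
  exact DFunLike.congr_fun this a

lemma iota_injective : Function.Injective (iota k n) := by
  intro a b h
  have := congrArg (phi k n) h
  rw [phi_iota, phi_iota] at this
  exact IsFractionRing.injective (P k n) (FractionRing (P k n)) this

lemma det_pow_mul_Dinv_pow (t : ℕ) :
    (CoordGrp.GLn.det : CoordGrp.GLn n k) ^ t * CoordGrp.GLn.Dinv ^ t = 1 := by
  rw [← mul_pow, CoordGrp.GLn.det_mul_Dinv, one_pow]

lemma exists_repr_mk (x : CoordGrp.GLb n k) : ∃ (a : P k n) (s : ℕ),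
    CoordGrp.GLn.mk n k x = iota k n a * CoordGrp.GLn.Dinv ^ s := by
  refine MvPolynomial.induction_on (motive := fun y : MvPolynomial (CoordGrp.GLPoly.Idx n) k =>
    ∃ (a : P k n) (s : ℕ), CoordGrp.GLn.mk n k (y : CoordGrp.GLb n k) =
      iota k n a * CoordGrp.GLn.Dinv ^ s) x ?_ ?_ ?_
  · intro c
    refine ⟨C c, 0, ?_⟩
    have h1 : (C c : MvPolynomial (CoordGrp.GLPoly.Idx n) k) = algebraMap k (CoordGrp.GLb n k) c := rfl
    rw [h1, AlgHom.commutes, pow_zero, mul_one]
    simp [iota]
  · rintro p q ⟨a, s, hp⟩ ⟨b, t, hq⟩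
    refine ⟨a * d0 k n ^ t + b * d0 k n ^ s, s + t, ?_⟩
    have h1 : CoordGrp.GLn.mk n k ((p + q : MvPolynomial (CoordGrp.GLPoly.Idx n) k) : CoordGrp.GLb n k) =
        CoordGrp.GLn.mk n k p + CoordGrp.GLn.mk n k q := map_add (CoordGrp.GLn.mk n k) p q
    rw [h1, hp, hq, map_add, map_mul, map_mul, map_pow, map_pow, iota_d0, pow_add]
    linear_combination (-(iota k n a * CoordGrp.GLn.Dinv ^ s)) * det_pow_mul_Dinv_pow k n t +
      (-(iota k n b * CoordGrp.GLn.Dinv ^ t)) * det_pow_mul_Dinv_pow k n s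
  · rintro p i ⟨a, s, hp⟩
    have h1 : CoordGrp.GLn.mk n k ((p * X i : MvPolynomial (CoordGrp.GLPoly.Idx n) k) : CoordGrp.GLb n k) =
        CoordGrp.GLn.mk n k p * CoordGrp.GLn.mk n k (X i : MvPolynomial (CoordGrp.GLPoly.Idx n) k) :=
      map_mul (CoordGrp.GLn.mk n k) p (X i : MvPolynomial (CoordGrp.GLPoly.Idx n) k)
    rcases i with q | u
    · refine ⟨a * X q, s, ?_⟩
      have h2 : CoordGrp.GLn.mk n k (X (Sum.inl q) : MvPolynomial (CoordGrp.GLPoly.Idx n) k) =
          iota k n (X q) := by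
        simp only [iota, aeval_X]
        rfl
      rw [h1, hp, h2, map_mul]
      ring
    · refine ⟨a, s + 1, ?_⟩
      have h2 : CoordGrp.GLn.mk n k (X (Sum.inr u) : MvPolynomial (CoordGrp.GLPoly.Idx n) k) =
          CoordGrp.GLn.Dinv := rfl
      rw [h1, hp, h2, pow_succ]
      ring

lemma exists_repr (χ : CoordGrp.GLn n k) : ∃ (a : P k n) (s : ℕ),
    χ = iota k n a * CoordGrp.GLn.Dinv ^ s := by
  obtain ⟨x, rfl⟩ := Ideal.Quotient.mk_surjective (I := CoordGrp.GLb.relIdeal n k) χ
  exact exists_repr_mk k n x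

lemma dvd_pow_d0 (a : P k n) (N : ℕ) (h : a ∣ d0 k n ^ N) :
    ∃ (i : ℕ) (c : k), a = C c * d0 k n ^ i := by
  rcases Nat.eq_zero_or_pos n with h0 | hpos
  · have hd : d0 k n = 1 := by
      rw [d0]; exact Matrix.det_eq_one_of_card_eq_zero (by simp [h0])
    rw [hd, one_pow] at h
    have hu : IsUnit a := isUnit_of_dvd_one h
    obtain ⟨c, hc, rfl⟩ := (MvPolynomial.isUnit_iff_eq_C_of_isReduced).1 hu
    exact ⟨0, c, by simp⟩
  · have hp : Prime (d0 k n) := (d0_irreducible k n hpos).prime
    obtain ⟨i, -, hi⟩ := (dvd_prime_pow hp N).1 h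
    obtain ⟨w, hw⟩ := hi
    obtain ⟨c, hc, hcu⟩ := (MvPolynomial.isUnit_iff_eq_C_of_isReduced).1 w.isUnit
    refine ⟨i, c⁻¹, ?_⟩
    have hc0 : c ≠ 0 := hc.ne_zero
    calc a = a * ((w : P k n) * C c⁻¹) := by
          rw [hcu, ← C_mul, mul_inv_cancel₀ hc0, C_1, mul_one]
      _ = C c⁻¹ * d0 k n ^ i := by rw [← mul_assoc, hw]; ring

theorem main (χ : CoordGrp.GLn n k) :
    IsGroupLikeElem k χ ↔
      ∃ m : ℕ, χ = (CoordGrp.GLn.det : CoordGrp.GLn n k) ^ m ∨
        χ = (CoordGrp.GLn.Dinv : CoordGrp.GLn n k) ^ m := by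
  constructor
  · intro hχ
    obtain ⟨χ', hχ'⟩ := hχ.isUnit.exists_right_inv
    obtain ⟨a, s, ha⟩ := exists_repr k n χ
    obtain ⟨b, t, hb⟩ := exists_repr k n χ'
    have hδ := det_pow_mul_Dinv_pow k n
    have h1 : iota k n (a * b) = iota k n (d0 k n ^ (s + t)) := by
      rw [map_mul, map_pow, iota_d0]
      have h2 := hχ'
      rw [ha, hb] at h2
      have h5 : (CoordGrp.GLn.det : CoordGrp.GLn n k) ^ (s + t) *
          (CoordGrp.GLn.Dinv ^ s * CoordGrp.GLn.Dinv ^ t) = 1 := by
        rw [← pow_add]; exact hδ (s + t)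
      linear_combination (CoordGrp.GLn.det ^ (s + t)) * h2 -
        (iota k n a * iota k n b) * h5
    have h2 : a * b = d0 k n ^ (s + t) := iota_injective k n h1
    obtain ⟨i, c, hac⟩ := dvd_pow_d0 k n a (s + t) ⟨b, h2.symm⟩
    have hχeq : χ = algebraMap k _ c * CoordGrp.GLn.det ^ i * CoordGrp.GLn.Dinv ^ s := by
      rw [ha, hac, map_mul, map_pow, iota_d0]
      simp [iota]
    have hc1 : c = 1 := by
      have h3 := hχ.counit_eq_one
      rw [hχeq] at h3
      have h4 : Bialgebra.counitAlgHom k (CoordGrp.GLn n k)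
          (algebraMap k _ c * CoordGrp.GLn.det ^ i * CoordGrp.GLn.Dinv ^ s) = c := by
        rw [map_mul, map_mul, map_pow, map_pow, AlgHom.commutes]
        simp only [Bialgebra.counitAlgHom_apply, CoordGrp.GLn.counit_det, CoordGrp.GLn.counit_Dinv,
          one_pow, mul_one]
        rfl
      rw [Bialgebra.counitAlgHom_apply] at h4
      rw [← h4, h3]
    rw [hc1, map_one, one_mul] at hχeq
    rcases le_total s i with hsi | his
    · refine ⟨i - s, Or.inl ?_⟩
      rw [hχeq]
      obtain ⟨j, rfl⟩ := Nat.exists_eq_add_of_le hsi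
      rw [Nat.add_sub_cancel_left, pow_add, mul_comm (CoordGrp.GLn.det ^ s), mul_assoc, hδ, mul_one]
    · refine ⟨s - i, Or.inr ?_⟩
      rw [hχeq]
      obtain ⟨j, rfl⟩ := Nat.exists_eq_add_of_le his
      rw [Nat.add_sub_cancel_left, pow_add, ← mul_assoc, hδ, one_mul]
  · rintro ⟨m, rfl | rfl⟩
    · exact (IsGroupLikeElem.mk CoordGrp.GLn.counit_det CoordGrp.GLn.comul_det).pow
    · exact (IsGroupLikeElem.mk CoordGrp.GLn.counit_Dinv CoordGrp.GLn.comul_Dinv).pow

end Main

end Groth.Agent.H4.GLnChar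

end
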