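import Mathlib
import Groth.Agent.H4.GQ2

set_option autoImplicit false
universe u
open TensorProduct Polynomial CategoryTheory CategoryTheory.Limits

namespace Groth.Agent.H4.GQ3
open Groth.Agent.H4.GQ1 Groth.Agent.H4.GQ2

section RGs

variable {A B Q : Type u} [CommRing A] [CommRing B] [CommRing Q] (r : RG A B Q)

section
variable {I : Type u} (x : I → A)

/-- coordinates of `τ a` in a basis of the form `τ x_i` are invariant, and `a = Σ a_i x_i` -/
theorem key_aux
    (hB : letI := r.σ.toAlgebra; ∃ b : Module.Basis I A B, ∀ i, b i = r.τ (x i)) :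
    letI := r.σ.toAlgebra
    ∀ (b : Module.Basis I A B), (∀ i, b i = r.τ (x i)) → ∀ (a : A),
      (∀ i, b.repr (r.τ a) i ∈ r.C) ∧ a = (b.repr (r.τ a)).sum (fun j m => m * x j) := by
  letI := r.σ.toAlgebra
  intro b hb a
  obtain ⟨b1, hb1⟩ := exists_basis_of_isPushout r.τ r.σ r.π₁ r.π₀ r.po1 b
  letI := r.π₁.toAlgebra
  have h0 : r.τ a = (b.repr (r.τ a)).sum (fun j m => r.σ m * r.τ (x j)) := by
    conv_lhs => rw [← b.linearCombination_repr (r.τ a)]
    rw [Finsupp.linearCombination_apply]
    refine Finsupp.sum_congr fun j _ => ?_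
    rw [hb, Algebra.smul_def]; rfl
  have h1 : r.π₀ (r.τ a) = Finsupp.linearCombination B b1
      (Finsupp.mapRange r.τ (map_zero _) (b.repr (r.τ a))) := by
    conv_lhs => rw [h0]
    rw [map_finsuppSum r.π₀, Finsupp.linearCombination_apply,
      Finsupp.sum_mapRange_index (by intro j; simp)]
    refine Finsupp.sum_congr fun j _ => ?_
    rw [map_mul, r.π₀σ, hb1, hb, Algebra.smul_def]; rfl
  have h2 : r.γ (r.τ a) = Finsupp.linearCombination B b1
      (Finsupp.mapRange r.σ (map_zero _) (b.repr (r.τ a))) := by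
    conv_lhs => rw [h0]
    rw [map_finsuppSum r.γ, Finsupp.linearCombination_apply,
      Finsupp.sum_mapRange_index (by intro j; simp)]
    refine Finsupp.sum_congr fun j _ => ?_
    rw [map_mul, r.γσ, r.γτ, hb1, hb, Algebra.smul_def]; rfl
  rw [r.γτ, h1] at h2
  have h3 := congrArg b1.repr h2
  rw [b1.repr_linearCombination, b1.repr_linearCombination] at h3
  refine ⟨fun i => ?_, ?_⟩
  · have := DFunLike.congr_fun h3 i
    rw [Finsupp.mapRange_apply, Finsupp.mapRange_apply] at this
    exact r.mem_C.mpr this.symm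
  · have := congrArg r.ε h0
    rw [r.ετ, map_finsuppSum r.ε] at this
    refine this.trans ?_
    refine Finsupp.sum_congr fun j _ => ?_
    rw [map_mul, r.εσ, r.ετ]

theorem linearIndependent_of_basis
    (hB : letI := r.σ.toAlgebra; ∃ b : Module.Basis I A B, ∀ i, b i = r.τ (x i)) :
    LinearIndependent r.C x := by
  letI := r.σ.toAlgebra
  obtain ⟨b, hb⟩ := hB
  rw [linearIndependent_iff]
  intro l hl
  have h1 := congrArg r.τ hl
  rw [map_zero, Finsupp.linearCombination_apply, map_finsuppSum r.τ] at h1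
  have h2 : Finsupp.linearCombination A b (Finsupp.mapRange r.C.subtype (map_zero _) l) = 0 := by
    rw [← h1, Finsupp.linearCombination_apply, Finsupp.sum_mapRange_index (by intro j; simp)]
    refine Finsupp.sum_congr fun j _ => ?_
    rw [hb, Algebra.smul_def]
    change r.σ (l j).1 * r.τ (x j) = r.τ ((l j).1 * x j)
    rw [map_mul, r.mem_C.mp (l j).2]
  have h3 := congrArg b.repr h2
  rw [b.repr_linearCombination, map_zero] at h3
  ext i
  have := DFunLike.congr_fun h3 i
  simpa using this

theorem span_of_basis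
    (hB : letI := r.σ.toAlgebra; ∃ b : Module.Basis I A B, ∀ i, b i = r.τ (x i)) :
    ⊤ ≤ Submodule.span r.C (Set.range x) := by
  letI := r.σ.toAlgebra
  obtain ⟨b, hb⟩ := hB
  intro a _
  obtain ⟨hmem, ha⟩ := key_aux r x ⟨b, hb⟩ b hb a
  rw [ha, Finsupp.sum]
  refine Submodule.sum_mem _ fun j _ => ?_
  exact Submodule.smul_mem _ (⟨_, hmem j⟩ : r.C) (Submodule.subset_span ⟨j, rfl⟩)

theorem main
    (hB : letI := r.σ.toAlgebra; ∃ b : Module.Basis I A B, ∀ i, b i = r.τ (x i)) :
    (∃ b : Module.Basis I r.C A, ∀ i, b i = x i) ∧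
    (letI := (r.σ.comp r.C.subtype).toAlgebra
     ∀ φ : A ⊗[r.C] A →ₗ[r.C] B, (∀ a a' : A, φ (a ⊗ₜ a') = r.τ a * r.σ a') →
      Function.Bijective φ) := by
  have hli := linearIndependent_of_basis r x hB
  have hsp := span_of_basis r x hB
  refine ⟨⟨Module.Basis.mk hli hsp, fun i => Module.Basis.mk_apply hli hsp i⟩, ?_⟩
  letI := r.σ.toAlgebra
  obtain ⟨b, hb⟩ := hB
  letI := (r.σ.comp r.C.subtype).toAlgebra
  intro φ hφ
  classical
  let bC := Module.Basis.mk hli hsp
  have hbC : ∀ i, bC i = x i := fun i => Module.Basis.mk_apply hli hsp i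
  let ψ : A ⊗[r.C] A ≃ B :=
    ((TensorProduct.congr bC.repr (LinearEquiv.refl r.C A)) ≪≫ₗ
      TensorProduct.finsuppScalarLeft r.C A I).toEquiv.trans b.repr.symm.toEquiv
  have hψ : ∀ z, φ z = ψ z := by
    intro z
    induction z using TensorProduct.induction_on with
    | zero =>
      change φ 0 = b.repr.symm (((TensorProduct.congr bC.repr (LinearEquiv.refl r.C A)) ≪≫ₗ
        TensorProduct.finsuppScalarLeft r.C A I) 0)
      simp
    | add z w hz hw =>
      change φ (z + w) = b.repr.symm (((TensorProduct.congr bC.repr (LinearEquiv.refl r.C A)) ≪≫ₗ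
        TensorProduct.finsuppScalarLeft r.C A I) (z + w))
      rw [map_add, map_add, map_add, hz, hw]; rfl
    | tmul a a' =>
      change φ (a ⊗ₜ a') = b.repr.symm (TensorProduct.finsuppScalarLeft r.C A I
        ((TensorProduct.congr bC.repr (LinearEquiv.refl r.C A)) (a ⊗ₜ a')))
      rw [hφ, TensorProduct.congr_tmul, TensorProduct.finsuppScalarLeft_apply_tmul,
        LinearEquiv.refl_apply, map_finsuppSum b.repr.symm]
      conv_lhs => rw [← bC.linearCombination_repr a]
      rw [Finsupp.linearCombination_apply, map_finsuppSum r.τ, Finsupp.sum_mul]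
      refine Finsupp.sum_congr fun j _ => ?_
      rw [Module.Basis.repr_symm_single, hb, hbC, Algebra.smul_def]
      change r.τ ((bC.repr a j).1 * x j) * r.σ a' = r.σ ((bC.repr a j).1 * a') * r.τ (x j)
      rw [map_mul, map_mul, ← r.mem_C.mp (bC.repr a j).2]
      ring
  have : (φ : A ⊗[r.C] A → B) = ψ := funext hψ
  rw [this]
  exact ψ.bijective

end

end RGs

end Groth.Agent.H4.GQ3
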