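import Mathlib
import Groth.Agent.H4.GQ5

set_option autoImplicit false
universe u
open TensorProduct Polynomial CategoryTheory CategoryTheory.Limits

namespace Groth.Agent.H4.GQ6
open Groth.Agent.H4.GQ1 Groth.Agent.H4.GQ2 Groth.Agent.H4.GQ5

section RGs

variable {A B Q : Type u} [CommRing A] [CommRing B] [CommRing Q] (r : RG A B Q)

theorem nrm_mem_C : letI := r.σ.toAlgebra
    ∀ (c : Compl A B) (f : A), c.nrm (Algebra.lmul A B (r.τ f)) ∈ r.C := by
  letI := r.σ.toAlgebra
  intro c f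
  rw [Compl.nrm_eq]
  have h1 : (Algebra.lmul A B (r.τ f) : Module.End A B) - 1 = Algebra.lmul A B (r.τ (f - 1)) := by
    rw [map_sub, map_one, map_sub, map_one]
  rw [h1]
  refine Subring.mul_mem _ (Subring.pow_mem _ (Subring.neg_mem _ (Subring.one_mem _)) _) ?_
  rw [Polynomial.eval_eq_sum_range]
  exact Subring.sum_mem _ fun k _ => Subring.mul_mem _ (r.coeff_mem c (f - 1) k)
    (Subring.pow_mem _ (Subring.neg_mem _ (Subring.one_mem _)) _)

theorem comap_τ_comap_subtype (q : Ideal B) :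
    (q.comap r.τ).comap r.C.subtype = (q.comap r.σ).comap r.C.subtype := by
  ext c
  simp only [Ideal.mem_comap, Subring.subtype_apply]
  rw [r.mem_C.mp c.2]

/-- fibres of `Spec A → Spec C` are orbits -/
theorem orbit
    (hfin : letI := r.σ.toAlgebra; Module.Finite A B)
    (hproj : letI := r.σ.toAlgebra; Module.Projective A B)
    (p₀ p₁ : Ideal A) [hp₀ : p₀.IsPrime] [hp₁ : p₁.IsPrime]
    (h : p₀.comap r.C.subtype = p₁.comap r.C.subtype) :
    ∃ q : Ideal B, q.IsPrime ∧ q.comap r.τ = p₀ ∧ q.comap r.σ = p₁ := by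
  classical
  letI := r.σ.toAlgebra
  obtain ⟨c⟩ := exists_compl (A := A) (P := B)
  haveI : Algebra.IsIntegral r.C A := ⟨r.isIntegral hfin hproj⟩
  have hT : (p₁.primesOver B).Finite := Algebra.QuasiFinite.finite_primesOver p₁
  by_contra hcon
  push Not at hcon
  have hex : ∃ f ∈ p₀, ∀ q ∈ p₁.primesOver B, r.τ f ∉ q := by
    by_contra hno
    push Not at hno
    have hsub : (p₀ : Set A) ⊆ ⋃ q ∈ (hT.toFinset : Set (Ideal B)),
        ((q.comap r.τ : Ideal A) : Set A) := by
      intro f hf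
      obtain ⟨q, hq, hfq⟩ := hno f hf
      exact Set.mem_biUnion (by simpa using hq) hfq
    rw [Ideal.subset_union_prime (s := hT.toFinset) (f := fun q => q.comap r.τ) ⊥ ⊥
      (fun q hq _ _ => by
        have hq' : q ∈ p₁.primesOver B := by simpa using hq
        haveI := hq'.1
        exact Ideal.comap_isPrime r.τ q)] at hsub
    obtain ⟨q, hq, hle⟩ := hsub
    have hq' : q ∈ p₁.primesOver B := by simpa using hq
    haveI := hq'.1
    have hσ : q.comap r.σ = p₁ := (hq'.2.over).symm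
    have heq : p₀ = q.comap r.τ := by
      by_contra hne
      have hlt : p₀ < q.comap r.τ := lt_of_le_of_ne hle hne
      obtain ⟨x, hx, hx'⟩ := Set.exists_of_ssubset hlt
      have := Ideal.comap_lt_comap_of_integral_mem_sdiff (R := r.C) hle ⟨hx, hx'⟩
        (Algebra.IsIntegral.isIntegral x)
      have e1 : (q.comap r.τ).comap (algebraMap r.C A) = p₀.comap (algebraMap r.C A) := by
        change (q.comap r.τ).comap r.C.subtype = p₀.comap r.C.subtype
        rw [comap_τ_comap_subtype r, hσ, h]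
      rw [e1] at this
      exact lt_irrefl _ this
    exact hcon q hq'.1 heq.symm hσ
  obtain ⟨f, hf, hfq⟩ := hex
  have hN : c.nrm (Algebra.lmul A B (r.τ f)) ∈ r.C := nrm_mem_C r c f
  have hN0 : c.nrm (Algebra.lmul A B (r.τ f)) ∈ p₀ := by
    obtain ⟨b, hb⟩ := exists_mul_eq_nrm c (r.τ f)
    have := congrArg r.ε hb
    rw [map_mul, r.ετ] at this
    have h2 : r.ε (algebraMap A B (c.nrm (Algebra.lmul A B (r.τ f)))) =
        c.nrm (Algebra.lmul A B (r.τ f)) := r.εσ _
    rw [h2] at this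
    rw [← this]
    exact p₀.mul_mem_right _ hf
  have hN1 : c.nrm (Algebra.lmul A B (r.τ f)) ∈ p₁ := by
    have : (⟨_, hN⟩ : r.C) ∈ p₀.comap r.C.subtype := hN0
    rw [h] at this
    exact this
  obtain ⟨q, hq, hqσ, hqf⟩ := exists_prime_of_nrm_mem c (r.τ f) p₁ hN1
  exact hfq q ⟨hq, ⟨hqσ.symm⟩⟩ hqf

/-- `Spec A → Spec C` is surjective -/
theorem exists_prime_over
    (hfin : letI := r.σ.toAlgebra; Module.Finite A B)
    (hproj : letI := r.σ.toAlgebra; Module.Projective A B)
    (𝔭 : Ideal r.C) [𝔭.IsPrime] :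
    ∃ p : Ideal A, p.IsPrime ∧ p.comap r.C.subtype = 𝔭 := by
  haveI : Algebra.IsIntegral r.C A := ⟨r.isIntegral hfin hproj⟩
  obtain ⟨p, -, hp, hp'⟩ := Ideal.exists_ideal_over_prime_of_isIntegral 𝔭 (⊥ : Ideal A) (by
    intro x hx
    have : (x : A) = 0 := by simpa using hx
    have : x = 0 := Subtype.ext this
    rw [this]; exact 𝔭.zero_mem)
  exact ⟨p, hp, hp'⟩

end RGs

end Groth.Agent.H4.GQ6
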