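import Mathlib
import Groth.Agent.H4.GQ6

set_option autoImplicit false
universe u
open TensorProduct Polynomial CategoryTheory CategoryTheory.Limits

namespace Groth.Agent.H4.GQ7
open Groth.Agent.H4.GQ1 Groth.Agent.H4.GQ2 Groth.Agent.H4.GQ5 Groth.Agent.H4.GQ6

section BC

variable (C₀ C' : Type u) [CommRing C₀] [CommRing C'] [Algebra C₀ C']
variable {X Y Z : Type u} [CommRing X] [CommRing Y] [CommRing Z]
  [Algebra C₀ X] [Algebra C₀ Y] [Algebra C₀ Z]

/-- the inclusion `X → C' ⊗ X` -/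
noncomputable def inclR (X : Type u) [CommRing X] [Algebra C₀ X] : X →+* C' ⊗[C₀] X :=
  (Algebra.TensorProduct.includeRight : X →ₐ[C₀] C' ⊗[C₀] X).toRingHom

omit [Algebra C₀ Y] [Algebra C₀ Z] [CommRing Y] [CommRing Z] in
@[simp] theorem inclR_apply (x : X) : inclR C₀ C' X x = (1 : C') ⊗ₜ[C₀] x := rfl

/-- base change of a ring hom compatible with the `C₀`-algebra structures -/
noncomputable def bc (f : X →+* Y) (hf : ∀ c, f (algebraMap C₀ X c) = algebraMap C₀ Y c) :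
    C' ⊗[C₀] X →+* C' ⊗[C₀] Y :=
  (Algebra.TensorProduct.map (AlgHom.id C' C')
    ({ f with commutes' := hf } : X →ₐ[C₀] Y)).toRingHom

omit [Algebra C₀ Z] [CommRing Z] in
@[simp] theorem bc_tmul (f : X →+* Y) (hf : ∀ c, f (algebraMap C₀ X c) = algebraMap C₀ Y c)
    (c' : C') (x : X) : bc C₀ C' f hf (c' ⊗ₜ[C₀] x) = c' ⊗ₜ[C₀] f x := by
  simp [bc]

omit [Algebra C₀ Z] [CommRing Z] in
theorem bc_algebraMap (f : X →+* Y) (hf : ∀ c, f (algebraMap C₀ X c) = algebraMap C₀ Y c)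
    (c' : C') : bc C₀ C' f hf (algebraMap C' (C' ⊗[C₀] X) c') = algebraMap C' (C' ⊗[C₀] Y) c' := by
  rw [Algebra.TensorProduct.algebraMap_apply, Algebra.TensorProduct.algebraMap_apply]
  simp

theorem bc_bc (f : X →+* Y) (hf : ∀ c, f (algebraMap C₀ X c) = algebraMap C₀ Y c)
    (g : Y →+* Z) (hg : ∀ c, g (algebraMap C₀ Y c) = algebraMap C₀ Z c)
    (k : X →+* Z) (hk : ∀ c, k (algebraMap C₀ X c) = algebraMap C₀ Z c)
    (H : ∀ x, g (f x) = k x) (z : C' ⊗[C₀] X) :
    bc C₀ C' g hg (bc C₀ C' f hf z) = bc C₀ C' k hk z := by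
  induction z using TensorProduct.induction_on with
  | zero => simp
  | add x y hx hy => simp only [map_add, hx, hy]
  | tmul c a => simp only [bc_tmul, H]

omit [Algebra C₀ Y] [Algebra C₀ Z] [CommRing Y] [CommRing Z] in
theorem bc_id (k : X →+* X) (hk : ∀ c, k (algebraMap C₀ X c) = algebraMap C₀ X c)
    (H : ∀ x, k x = x) (z : C' ⊗[C₀] X) : bc C₀ C' k hk z = z := by
  induction z using TensorProduct.induction_on with
  | zero => simp
  | add x y hx hy => simp only [map_add, hx, hy]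
  | tmul c a => simp only [bc_tmul, H]

omit [Algebra C₀ Z] [CommRing Z] in
theorem bc_congr (f g : X →+* Y) (hf : ∀ c, f (algebraMap C₀ X c) = algebraMap C₀ Y c)
    (hg : ∀ c, g (algebraMap C₀ X c) = algebraMap C₀ Y c)
    (H : ∀ x, f x = g x) (z : C' ⊗[C₀] X) : bc C₀ C' f hf z = bc C₀ C' g hg z := by
  induction z using TensorProduct.induction_on with
  | zero => simp
  | add x y hx hy => simp only [map_add, hx, hy]
  | tmul c a => simp only [bc_tmul, H]

omit [Algebra C₀ Z] [CommRing Z] in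
/-- the base change square is a pushout -/
theorem isPushout_bc (f : X →+* Y) (hf : ∀ c, f (algebraMap C₀ X c) = algebraMap C₀ Y c) :
    IsPushout (CommRingCat.ofHom f) (CommRingCat.ofHom (inclR C₀ C' X))
      (CommRingCat.ofHom (inclR C₀ C' Y)) (CommRingCat.ofHom (bc C₀ C' f hf)) := by
  have hX := (CommRingCat.isPushout_tensorProduct C₀ C' X).flip
  have hY := (CommRingCat.isPushout_tensorProduct C₀ C' Y).flip
  have e1 : CommRingCat.ofHom (algebraMap C₀ X) ≫ CommRingCat.ofHom f =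
      CommRingCat.ofHom (algebraMap C₀ Y) := by
    ext c
    exact hf c
  have e2 : CommRingCat.ofHom (S := C' ⊗[C₀] X) Algebra.TensorProduct.includeLeftRingHom ≫
      CommRingCat.ofHom (bc C₀ C' f hf) =
      CommRingCat.ofHom (S := C' ⊗[C₀] Y) Algebra.TensorProduct.includeLeftRingHom := by
    ext c
    simp
  rw [← e1, ← e2] at hY
  refine IsPushout.of_left hY ?_ hX
  ext x
  simp [inclR]

end BC

section RGbc

variable {A B Q : Type u} [CommRing A] [CommRing B] [CommRing Q]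

/-- all structure maps of `r` are `C₀`-algebra maps -/
structure IsOver (r : RG A B Q) (C₀ : Type u) [CommRing C₀] [Algebra C₀ A] [Algebra C₀ B]
    [Algebra C₀ Q] : Prop where
  hσ : ∀ c, r.σ (algebraMap C₀ A c) = algebraMap C₀ B c
  hτ : ∀ c, r.τ (algebraMap C₀ A c) = algebraMap C₀ B c
  hπ₁ : ∀ c, r.π₁ (algebraMap C₀ B c) = algebraMap C₀ Q c

variable {r : RG A B Q} {C₀ : Type u} [CommRing C₀] [Algebra C₀ A] [Algebra C₀ B] [Algebra C₀ Q]

theorem IsOver.hε (h : IsOver r C₀) (c : C₀) : r.ε (algebraMap C₀ B c) = algebraMap C₀ A c := by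
  rw [← h.hσ, r.εσ]

theorem IsOver.hπ₀ (h : IsOver r C₀) (c : C₀) : r.π₀ (algebraMap C₀ B c) = algebraMap C₀ Q c := by
  rw [← h.hσ, r.π₀σ, h.hτ, h.hπ₁]

theorem IsOver.hγ (h : IsOver r C₀) (c : C₀) : r.γ (algebraMap C₀ B c) = algebraMap C₀ Q c := by
  rw [← h.hσ, r.γσ, h.hσ, h.hπ₁]

variable (C' : Type u) [CommRing C'] [Algebra C₀ C']

/-- base change of ring level groupoid data -/
noncomputable def rgbc (h : IsOver r C₀) : RG (C' ⊗[C₀] A) (C' ⊗[C₀] B) (C' ⊗[C₀] Q) where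
  σ := bc C₀ C' r.σ h.hσ
  τ := bc C₀ C' r.τ h.hτ
  ε := bc C₀ C' r.ε h.hε
  π₀ := bc C₀ C' r.π₀ h.hπ₀
  π₁ := bc C₀ C' r.π₁ h.hπ₁
  γ := bc C₀ C' r.γ h.hγ
  εσ z := by
    rw [bc_bc C₀ C' r.σ h.hσ r.ε h.hε (RingHom.id A) (fun _ => rfl) (fun x => r.εσ x)]
    exact bc_id C₀ C' _ _ (fun _ => rfl) z
  ετ z := by
    rw [bc_bc C₀ C' r.τ h.hτ r.ε h.hε (RingHom.id A) (fun _ => rfl) (fun x => r.ετ x)]
    exact bc_id C₀ C' _ _ (fun _ => rfl) z
  γτ z := by
    induction z using TensorProduct.induction_on with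
    | zero => simp
    | add x y hx hy => simp only [map_add, hx, hy]
    | tmul c a => simp only [bc_tmul, r.γτ]
  po1 := by
    have sqσ := isPushout_bc C₀ C' r.σ h.hσ
    have sqπ := isPushout_bc C₀ C' r.π₁ h.hπ₁
    have outer := r.po1.paste_horiz sqπ.flip
    have e1 : CommRingCat.ofHom r.τ ≫ CommRingCat.ofHom (inclR C₀ C' B) =
        CommRingCat.ofHom (inclR C₀ C' A) ≫ CommRingCat.ofHom (bc C₀ C' r.τ h.hτ) := by
      ext x; simp [inclR]
    have e2 : CommRingCat.ofHom r.π₀ ≫ CommRingCat.ofHom (inclR C₀ C' Q) =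
        CommRingCat.ofHom (inclR C₀ C' B) ≫ CommRingCat.ofHom (bc C₀ C' r.π₀ h.hπ₀) := by
      ext x; simp [inclR]
    rw [e1, e2] at outer
    refine IsPushout.of_left outer ?_ sqσ.flip
    refine CommRingCat.hom_ext (RingHom.ext fun z => ?_)
    change bc C₀ C' r.π₁ h.hπ₁ (bc C₀ C' r.τ h.hτ z) = bc C₀ C' r.π₀ h.hπ₀ (bc C₀ C' r.σ h.hσ z)
    induction z using TensorProduct.induction_on with
    | zero => simp
    | add x y hx hy => simp only [map_add, hx, hy]
    | tmul c a => simp only [bc_tmul, r.π₀σ]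
  po2 := by
    have sqσ := isPushout_bc C₀ C' r.σ h.hσ
    have sqπ := isPushout_bc C₀ C' r.π₁ h.hπ₁
    have outer := r.po2.paste_horiz sqπ.flip
    have e1 : CommRingCat.ofHom r.σ ≫ CommRingCat.ofHom (inclR C₀ C' B) =
        CommRingCat.ofHom (inclR C₀ C' A) ≫ CommRingCat.ofHom (bc C₀ C' r.σ h.hσ) := by
      ext x; simp [inclR]
    have e2 : CommRingCat.ofHom r.γ ≫ CommRingCat.ofHom (inclR C₀ C' Q) =
        CommRingCat.ofHom (inclR C₀ C' B) ≫ CommRingCat.ofHom (bc C₀ C' r.γ h.hγ) := by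
      ext x; simp [inclR]
    rw [e1, e2] at outer
    refine IsPushout.of_left outer ?_ sqσ.flip
    refine CommRingCat.hom_ext (RingHom.ext fun z => ?_)
    change bc C₀ C' r.π₁ h.hπ₁ (bc C₀ C' r.σ h.hσ z) = bc C₀ C' r.γ h.hγ (bc C₀ C' r.σ h.hσ z)
    induction z using TensorProduct.induction_on with
    | zero => simp
    | add x y hx hy => simp only [map_add, hx, hy]
    | tmul c a => simp only [bc_tmul, r.γσ]

theorem isOver_rgbc (h : IsOver r C₀) : IsOver (rgbc C' h) C' where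
  hσ c := bc_algebraMap C₀ C' r.σ h.hσ c
  hτ c := bc_algebraMap C₀ C' r.τ h.hτ c
  hπ₁ c := bc_algebraMap C₀ C' r.π₁ h.hπ₁ c

end RGbc

end Groth.Agent.H4.GQ7
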