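import Mathlib
import Groth.Agent.H4.GQ3
import Groth.Agent.H4.GQ7

set_option autoImplicit false
universe u
open TensorProduct Polynomial CategoryTheory CategoryTheory.Limits

namespace Groth.Agent.H4.GQ8
open Groth.Agent.H4.GQ1 Groth.Agent.H4.GQ2 Groth.Agent.H4.GQ3 Groth.Agent.H4.GQ5 Groth.Agent.H4.GQ6
  Groth.Agent.H4.GQ7

section

variable {A B Q : Type u} [CommRing A] [CommRing B] [CommRing Q]

/-- `B` is spanned over `A` (through `σ`) by the image of `τ` -/
def SpanJ (r : RG A B Q) : Prop :=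
  letI := r.σ.toAlgebra
  Submodule.span A (Set.range r.τ) = ⊤

/-- `C₀` is the ring of invariants -/
structure IsInv (r : RG A B Q) (C₀ : Type u) [CommRing C₀] [Algebra C₀ A] : Prop where
  inj : Function.Injective (algebraMap C₀ A)
  surj : ∀ a, r.σ a = r.τ a → a ∈ Set.range (algebraMap C₀ A)

variable {r : RG A B Q} {C₀ : Type u} [CommRing C₀] [Algebra C₀ A] [Algebra C₀ B] [Algebra C₀ Q]

section props
variable (C' : Type u) [CommRing C'] [Algebra C₀ C']

theorem finite_rgbc (h : IsOver r C₀) (hfin : letI := r.σ.toAlgebra; Module.Finite A B) :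
    letI := (rgbc C' h).σ.toAlgebra; Module.Finite (C' ⊗[C₀] A) (C' ⊗[C₀] B) := by
  letI := (inclR C₀ C' A).toAlgebra
  letI := r.σ.toAlgebra
  letI := (rgbc C' h).σ.toAlgebra
  obtain ⟨θ, -⟩ := exists_equiv_of_isPushout (inclR C₀ C' A) r.σ (bc C₀ C' r.σ h.hσ)
    (inclR C₀ C' B) (isPushout_bc C₀ C' r.σ h.hσ).flip
  exact Module.Finite.equiv θ

theorem projective_rgbc (h : IsOver r C₀) (hproj : letI := r.σ.toAlgebra; Module.Projective A B) :
    letI := (rgbc C' h).σ.toAlgebra; Module.Projective (C' ⊗[C₀] A) (C' ⊗[C₀] B) := by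
  letI := (inclR C₀ C' A).toAlgebra
  letI := r.σ.toAlgebra
  letI := (rgbc C' h).σ.toAlgebra
  obtain ⟨θ, -⟩ := exists_equiv_of_isPushout (inclR C₀ C' A) r.σ (bc C₀ C' r.σ h.hσ)
    (inclR C₀ C' B) (isPushout_bc C₀ C' r.σ h.hσ).flip
  exact Module.Projective.of_equiv θ

theorem spanJ_rgbc (h : IsOver r C₀) (hJ : SpanJ r) : SpanJ (rgbc C' h) := by
  letI iA := r.σ.toAlgebra
  letI iA' := (rgbc C' h).σ.toAlgebra
  change Submodule.span (C' ⊗[C₀] A) (Set.range (rgbc C' h).τ) = ⊤
  rw [eq_top_iff]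
  have key : ∀ (b : B) (c : C'), c ⊗ₜ[C₀] b ∈
      Submodule.span (C' ⊗[C₀] A) (Set.range (rgbc C' h).τ) := by
    intro b
    have hb : b ∈ Submodule.span A (Set.range r.τ) := by
      have : Submodule.span A (Set.range r.τ) = ⊤ := hJ
      rw [this]; trivial
    induction hb using Submodule.span_induction with
    | mem x hx =>
      obtain ⟨a, rfl⟩ := hx
      intro c
      exact Submodule.subset_span ⟨c ⊗ₜ a, bc_tmul C₀ C' r.τ h.hτ c a⟩
    | zero => intro c; rw [tmul_zero]; exact Submodule.zero_mem _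
    | add x y _ _ hx hy => intro c; rw [tmul_add]; exact Submodule.add_mem _ (hx c) (hy c)
    | smul a x _ hx =>
      intro c
      have : c ⊗ₜ[C₀] (a • x) = ((1 : C') ⊗ₜ[C₀] a) • (c ⊗ₜ[C₀] x) := by
        rw [Algebra.smul_def, Algebra.smul_def]
        change c ⊗ₜ[C₀] (r.σ a * x) = bc C₀ C' r.σ h.hσ ((1 : C') ⊗ₜ[C₀] a) * (c ⊗ₜ[C₀] x)
        rw [bc_tmul, Algebra.TensorProduct.tmul_mul_tmul, one_mul]
      rw [this]
      exact Submodule.smul_mem _ _ (hx c)
  rintro z -
  induction z using TensorProduct.induction_on with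
  | zero => exact Submodule.zero_mem _
  | add x y hx hy => exact Submodule.add_mem _ hx hy
  | tmul c b => exact key b c

/-- a ring hom compatible with algebra maps as a linear map -/
def lin (f : A →+* B) (hf : ∀ c, f (algebraMap C₀ A c) = algebraMap C₀ B c) : A →ₗ[C₀] B where
  toFun := f
  map_add' := map_add f
  map_smul' c x := by
    rw [Algebra.smul_def, map_mul, hf, ← Algebra.smul_def]; rfl

theorem isInv_rgbc (h : IsOver r C₀) (hI : IsInv r C₀) [Module.Flat C₀ C'] :
    IsInv (rgbc C' h) C' := by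
  let ι : C₀ →ₗ[C₀] A := Algebra.linearMap C₀ A
  let δ : A →ₗ[C₀] B := lin r.σ h.hσ - lin r.τ h.hτ
  have hex : Function.Exact ι δ := by
    intro a
    constructor
    · intro ha
      have : r.σ a - r.τ a = 0 := ha
      exact hI.surj a (sub_eq_zero.mp this)
    · rintro ⟨c, rfl⟩
      change r.σ (algebraMap C₀ A c) - r.τ (algebraMap C₀ A c) = 0
      rw [h.hσ, h.hτ, sub_self]
  have hex' := Module.Flat.lTensor_exact C' hex
  have hδ : ∀ z, (δ.lTensor C') z = (rgbc C' h).σ z - (rgbc C' h).τ z := by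
    intro z
    induction z using TensorProduct.induction_on with
    | zero => simp
    | add x y hx hy => rw [map_add, hx, hy, map_add, map_add]; abel
    | tmul c a =>
      change c ⊗ₜ[C₀] (r.σ a - r.τ a) = bc C₀ C' r.σ h.hσ (c ⊗ₜ a) - bc C₀ C' r.τ h.hτ (c ⊗ₜ a)
      rw [bc_tmul, bc_tmul, tmul_sub]
  have hι : ∀ w, (ι.lTensor C') w ∈ Set.range (algebraMap C' (C' ⊗[C₀] A)) := by
    intro w
    induction w using TensorProduct.induction_on with
    | zero => exact ⟨0, by simp⟩
    | add x y hx hy =>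
      obtain ⟨a, ha⟩ := hx
      obtain ⟨b, hb⟩ := hy
      exact ⟨a + b, by rw [map_add, map_add, ha, hb]⟩
    | tmul c' c =>
      refine ⟨c • c', ?_⟩
      rw [Algebra.TensorProduct.algebraMap_apply]
      change (c • c') ⊗ₜ[C₀] (1 : A) = c' ⊗ₜ[C₀] (algebraMap C₀ A c)
      rw [Algebra.algebraMap_eq_smul_one, TensorProduct.smul_tmul]
  refine ⟨?_, ?_⟩
  · have hinj := Module.Flat.lTensor_preserves_injective_linearMap (M := C') ι hI.inj
    intro c₁ c₂ hc
    have e : ∀ c' : C', algebraMap C' (C' ⊗[C₀] A) c' =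
        (ι.lTensor C') ((TensorProduct.rid C₀ C').symm c') := by
      intro c'
      rw [Algebra.TensorProduct.algebraMap_apply]
      simp [ι]
    rw [e, e] at hc
    exact (TensorProduct.rid C₀ C').symm.injective (hinj hc)
  · intro z hz
    have : (δ.lTensor C') z = 0 := by rw [hδ, hz, sub_self]
    obtain ⟨w, rfl⟩ := (hex' z).mp this
    exact hι w

end props

/-- the identification of the base ring with the invariants -/
noncomputable def IsInv.equiv (hI : IsInv r C₀) (h : IsOver r C₀) : C₀ ≃+* r.C :=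
  RingEquiv.ofBijective ((algebraMap C₀ A).codRestrict r.C (fun c => by
    change r.σ _ = r.τ _
    rw [h.hσ, h.hτ]))
    ⟨fun x y hxy => hI.inj (congrArg Subtype.val hxy), fun ⟨a, ha⟩ => by
      obtain ⟨c, rfl⟩ := hI.surj a ha
      exact ⟨c, rfl⟩⟩

theorem IsInv.equiv_apply (hI : IsInv r C₀) (h : IsOver r C₀) (c : C₀) :
    ((hI.equiv h c : r.C) : A) = algebraMap C₀ A c := rfl

theorem IsInv.isIntegral (hI : IsInv r C₀) (h : IsOver r C₀)
    (hfin : letI := r.σ.toAlgebra; Module.Finite A B)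
    (hproj : letI := r.σ.toAlgebra; Module.Projective A B) : Algebra.IsIntegral C₀ A := by
  refine ⟨fun f => ?_⟩
  obtain ⟨p, hp, hp0⟩ := r.isIntegral hfin hproj f
  refine ⟨p.map (hI.equiv h).symm.toRingHom, hp.map _, ?_⟩
  rw [Polynomial.eval₂_map]
  have : (algebraMap C₀ A).comp (hI.equiv h).symm.toRingHom = algebraMap r.C A := by
    ext c
    obtain ⟨c₀, rfl⟩ := (hI.equiv h).surjective c
    simp only [RingHom.coe_comp, Function.comp_apply, RingEquiv.toRingHom_eq_coe,
      RingEquiv.coe_toRingHom, RingEquiv.symm_apply_apply]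
    rfl
  rw [this]
  exact hp0

theorem IsInv.comap_subtype (hI : IsInv r C₀) (h : IsOver r C₀) (p₀ p₁ : Ideal A)
    (hp : p₀.comap (algebraMap C₀ A) = p₁.comap (algebraMap C₀ A)) :
    p₀.comap r.C.subtype = p₁.comap r.C.subtype := by
  ext ⟨a, ha⟩
  obtain ⟨c, rfl⟩ := hI.surj a ha
  have := Ideal.ext_iff.mp hp c
  simpa using this

theorem IsInv.orbit (hI : IsInv r C₀) (h : IsOver r C₀)
    (hfin : letI := r.σ.toAlgebra; Module.Finite A B)
    (hproj : letI := r.σ.toAlgebra; Module.Projective A B)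
    (p₀ p₁ : Ideal A) [p₀.IsPrime] [p₁.IsPrime]
    (hp : p₀.comap (algebraMap C₀ A) = p₁.comap (algebraMap C₀ A)) :
    ∃ q : Ideal B, q.IsPrime ∧ q.comap r.τ = p₀ ∧ q.comap r.σ = p₁ :=
  Groth.Agent.H4.GQ6.orbit r hfin hproj p₀ p₁ (hI.comap_subtype h p₀ p₁ hp)

/-- the comparison map `A ⊗ A → B`, `a ⊗ a' ↦ τ a * σ a'` -/
noncomputable def Phi (h : IsOver r C₀) : A ⊗[C₀] A →ₗ[C₀] B :=
  (Algebra.TensorProduct.productMap ({ r.τ with commutes' := h.hτ } : A →ₐ[C₀] B)
    ({ r.σ with commutes' := h.hσ } : A →ₐ[C₀] B)).toLinearMap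

@[simp] theorem Phi_tmul (h : IsOver r C₀) (a a' : A) :
    Phi h (a ⊗ₜ[C₀] a') = r.τ a * r.σ a' := by
  simp [Phi]

/-- if `x` is a `C₀`-basis of `A` and `τ x` a basis of `B` over `A`, then `Phi` is bijective -/
theorem phi_bijective_of_bases (h : IsOver r C₀) {I : Type u} (bC : Module.Basis I C₀ A)
    (hB : letI := r.σ.toAlgebra; ∃ b : Module.Basis I A B, ∀ i, b i = r.τ (bC i)) :
    Function.Bijective (Phi h) := by
  classical
  letI := r.σ.toAlgebra
  obtain ⟨b, hb⟩ := hB
  let ψ : A ⊗[C₀] A ≃ B :=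
    ((TensorProduct.congr bC.repr (LinearEquiv.refl C₀ A)) ≪≫ₗ
      TensorProduct.finsuppScalarLeft C₀ A I).toEquiv.trans b.repr.symm.toEquiv
  have hψ : ∀ z, Phi h z = ψ z := by
    intro z
    induction z using TensorProduct.induction_on with
    | zero =>
      change Phi h 0 = b.repr.symm (((TensorProduct.congr bC.repr (LinearEquiv.refl C₀ A)) ≪≫ₗ
        TensorProduct.finsuppScalarLeft C₀ A I) 0)
      simp
    | add z w hz hw =>
      change Phi h (z + w) = b.repr.symm (((TensorProduct.congr bC.repr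
        (LinearEquiv.refl C₀ A)) ≪≫ₗ TensorProduct.finsuppScalarLeft C₀ A I) (z + w))
      rw [map_add, map_add, map_add, hz, hw]; rfl
    | tmul a a' =>
      change Phi h (a ⊗ₜ a') = b.repr.symm (TensorProduct.finsuppScalarLeft C₀ A I
        ((TensorProduct.congr bC.repr (LinearEquiv.refl C₀ A)) (a ⊗ₜ a')))
      rw [Phi_tmul, TensorProduct.congr_tmul, TensorProduct.finsuppScalarLeft_apply_tmul,
        LinearEquiv.refl_apply, map_finsuppSum b.repr.symm]
      conv_lhs => rw [← bC.linearCombination_repr a]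
      rw [Finsupp.linearCombination_apply, map_finsuppSum r.τ, Finsupp.sum_mul]
      refine Finsupp.sum_congr fun j _ => ?_
      rw [Module.Basis.repr_symm_single, hb, Algebra.smul_def, Algebra.smul_def,
        Algebra.smul_def]
      change r.τ (algebraMap C₀ A (bC.repr a j) * bC j) * r.σ a' =
        r.σ (algebraMap C₀ A (bC.repr a j) * a') * r.τ (bC j)
      rw [map_mul, map_mul, h.hσ, h.hτ]
      ring
  have : (Phi h : A ⊗[C₀] A → B) = ψ := funext hψ
  rw [this]
  exact ψ.bijective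

/-- S7486 over a base ring identified with the invariants -/
theorem IsInv.main (hI : IsInv r C₀) (h : IsOver r C₀) {I : Type u} (x : I → A)
    (hB : letI := r.σ.toAlgebra; ∃ b : Module.Basis I A B, ∀ i, b i = r.τ (x i)) :
    (∃ bC : Module.Basis I C₀ A, ∀ i, bC i = x i) ∧ Function.Bijective (Phi h) := by
  obtain ⟨⟨b0, hb0⟩, -⟩ := Groth.Agent.H4.GQ3.main r x hB
  let bC : Module.Basis I C₀ A := b0.mapCoeffs (hI.equiv h).symm (by
    intro c a
    obtain ⟨c₀, rfl⟩ := (hI.equiv h).surjective c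
    rw [RingEquiv.symm_apply_apply, Algebra.smul_def]
    rfl)
  have hbC : ∀ i, bC i = x i := fun i => by
    rw [Module.Basis.mapCoeffs_apply, hb0]
  refine ⟨⟨bC, hbC⟩, phi_bijective_of_bases h bC ?_⟩
  letI := r.σ.toAlgebra
  obtain ⟨b, hb⟩ := hB
  exact ⟨b, fun i => by rw [hb, hbC]⟩

end

end Groth.Agent.H4.GQ8
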