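import Mathlib
import Groth.Agent.H4.GQ8

set_option autoImplicit false
universe u
open TensorProduct Polynomial CategoryTheory CategoryTheory.Limits

namespace Groth.Agent.H4.GQ9
open Groth.Agent.H4.GQ1 Groth.Agent.H4.GQ2 Groth.Agent.H4.GQ3 Groth.Agent.H4.GQ5 Groth.Agent.H4.GQ6
  Groth.Agent.H4.GQ7 Groth.Agent.H4.GQ8

/-- avoidance of finitely many proper submodules over a local ring with infinite residue field -/
theorem exists_notMem_of_infinite_residueField {C₀ V ι : Type*} [CommRing C₀] [IsLocalRing C₀]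
    [Infinite (IsLocalRing.ResidueField C₀)] [AddCommGroup V] [Module C₀ V]
    (s : Finset ι) (Z : ι → Submodule C₀ V) (hne : ∀ i ∈ s, Z i ≠ ⊤)
    (hm : ∀ i ∈ s, (IsLocalRing.maximalIdeal C₀) • (⊤ : Submodule C₀ V) ≤ Z i) :
    ∃ v : V, ∀ i ∈ s, v ∉ Z i := by
  by_contra hcon
  push Not at hcon
  have hcov : ⋃ i ∈ s, (Z i : Set V) = Set.univ := by
    ext v
    simp only [Set.mem_iUnion, Set.mem_univ, iff_true]
    obtain ⟨i, hi, hv⟩ := hcon v
    exact ⟨i, hi, hv⟩
  obtain ⟨k, hk, hfi⟩ := Submodule.exists_finiteIndex_of_cover hcov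
  have hfin : Finite (V ⧸ Z k) := AddSubgroup.finite_quotient_of_finiteIndex
  obtain ⟨a, ha⟩ : ∃ a, a ∉ Z k := by
    by_contra hall
    push Not at hall
    exact hne k hk (eq_top_iff.mpr fun a _ => hall a)
  let g : C₀ →ₗ[C₀] V ⧸ Z k := (Z k).mkQ ∘ₗ LinearMap.toSpanSingleton C₀ V a
  have h1 : IsLocalRing.maximalIdeal C₀ ≤ LinearMap.ker g := by
    intro c hc
    rw [LinearMap.mem_ker]
    change (Z k).mkQ (c • a) = 0
    rw [Submodule.mkQ_apply, Submodule.Quotient.mk_eq_zero]
    exact hm k hk (Submodule.smul_mem_smul hc trivial)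
  have h2 : LinearMap.ker g ≠ ⊤ := by
    intro htop
    have : (1 : C₀) ∈ LinearMap.ker g := by rw [htop]; trivial
    rw [LinearMap.mem_ker] at this
    change (Z k).mkQ ((1 : C₀) • a) = 0 at this
    rw [one_smul, Submodule.mkQ_apply, Submodule.Quotient.mk_eq_zero] at this
    exact ha this
  have h3 : IsLocalRing.maximalIdeal C₀ = LinearMap.ker g :=
    (IsLocalRing.maximalIdeal.isMaximal C₀).eq_of_le h2 h1
  let g' : (C₀ ⧸ IsLocalRing.maximalIdeal C₀) →ₗ[C₀] V ⧸ Z k :=
    Submodule.liftQ (IsLocalRing.maximalIdeal C₀) g h1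
  have hinj : Function.Injective g' := by
    rw [← LinearMap.ker_eq_bot]
    exact Submodule.ker_liftQ_eq_bot _ _ _ h3.ge
  haveI : Infinite (C₀ ⧸ IsLocalRing.maximalIdeal C₀) :=
    inferInstanceAs (Infinite (IsLocalRing.ResidueField C₀))
  haveI : Infinite (V ⧸ Z k) := Infinite.of_injective g' hinj
  exact not_finite (V ⧸ Z k)

theorem finrank_quot_tensor (A M : Type u) [CommRing A] [AddCommGroup M] [Module A M]
    [Module.Finite A M] [Module.Flat A M] (P : Ideal A) [hP : P.IsMaximal] :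
    Module.finrank (A ⧸ P) ((A ⧸ P) ⊗[A] M) = Module.rankAtStalk M ⟨P, hP.isPrime⟩ := by
  letI := Ideal.Quotient.field P
  rw [Module.rankAtStalk_eq]
  let e := AlgebraTensorModule.cancelBaseChange A (A ⧸ P) P.ResidueField P.ResidueField M
  have h1 : Module.finrank P.ResidueField (P.ResidueField ⊗[A ⧸ P] ((A ⧸ P) ⊗[A] M)) =
      Module.finrank (A ⧸ P) ((A ⧸ P) ⊗[A] M) := Module.finrank_baseChange
  rw [← h1]
  exact e.finrank_eq

section Sq

variable {A A' P P' : Type u} [CommRing A] [CommRing A'] [CommRing P] [CommRing P']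
  (g : A →+* A') (σ : A →+* P) (σ' : A' →+* P') (g' : P →+* P')

theorem rankAtStalk_of_isPushout
    (hpo : IsPushout (CommRingCat.ofHom g) (CommRingCat.ofHom σ) (CommRingCat.ofHom σ')
      (CommRingCat.ofHom g'))
    (hfin : letI := σ.toAlgebra; Module.Finite A P)
    (hproj : letI := σ.toAlgebra; Module.Projective A P) :
    letI := σ.toAlgebra; letI := σ'.toAlgebra
    ∀ x : PrimeSpectrum A', Module.rankAtStalk (R := A') P' x =
      Module.rankAtStalk (R := A) P (PrimeSpectrum.comap g x) := by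
  letI := g.toAlgebra; letI := σ.toAlgebra; letI := σ'.toAlgebra
  obtain ⟨θ, -⟩ := exists_equiv_of_isPushout g σ σ' g' hpo
  intro x
  rw [Module.rankAtStalk_eq_of_equiv θ.symm, Module.rankAtStalk_baseChange]
  rfl

end Sq

theorem rank_invariant {A B Q : Type u} [CommRing A] [CommRing B] [CommRing Q] (r : RG A B Q)
    (hfin : letI := r.σ.toAlgebra; Module.Finite A B)
    (hproj : letI := r.σ.toAlgebra; Module.Projective A B) :
    letI := r.σ.toAlgebra
    ∀ q : PrimeSpectrum B, Module.rankAtStalk (R := A) B (PrimeSpectrum.comap r.σ q) =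
      Module.rankAtStalk (R := A) B (PrimeSpectrum.comap r.τ q) := by
  letI := r.σ.toAlgebra
  intro q
  have h2 := rankAtStalk_of_isPushout r.σ r.σ r.π₁ r.γ r.po2 hfin hproj q
  have h1 := rankAtStalk_of_isPushout r.τ r.σ r.π₁ r.π₀ r.po1 hfin hproj q
  exact h2.symm.trans h1

theorem bijective_linearCombination_of_residue_basis {R M : Type u} [CommRing R] [AddCommGroup M]
    [Module R M] [Module.Finite R M] [Module.Flat R M] {n : ℕ} (b : Fin n → M)
    (b' : ∀ P : MaximalSpectrum R, Module.Basis (Fin n) (R ⧸ P.1) ((R ⧸ P.1) ⊗[R] M))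
    (hb : ∀ (P : MaximalSpectrum R) (i : Fin n), b' P i = (1 : R ⧸ P.1) ⊗ₜ[R] b i) :
    Function.Bijective (Finsupp.linearCombination R b) := by
  let := @Ideal.Quotient.field.{u}
  refine bijective_of_isLocalized_maximal
    _ (fun P _ ↦ Finsupp.mapRange.linearMap (Algebra.linearMap R (Localization P.primeCompl)))
    _ (fun P _ ↦ TensorProduct.mk R (Localization P.primeCompl) M 1) _ fun P _ ↦ ?_
  rw [IsLocalizedModule.map_linearCombination, LinearMap.coe_restrictScalars]
  apply Module.IsLocalRing.linearCombination_bijective_of_flat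
  rw [← (AlgebraTensorModule.cancelBaseChange _ _ P.ResidueField ..).comp_bijective,
    ← (AlgebraTensorModule.cancelBaseChange R (R ⧸ P) P.ResidueField ..).symm.comp_bijective]
  convert! ((b' ⟨P, ‹_›⟩).repr.lTensor _ ≪≫ₗ finsuppScalarRight _ _ P.ResidueField _).symm.bijective
  refine funext fun r ↦ Finsupp.induction_linear r (by simp) (by simp +contextual) fun _ _ ↦ ?_
  simp [smul_tmul', hb]

end Groth.Agent.H4.GQ9
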