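import Mathlib
import Groth.Agent.H4.GQ9

set_option autoImplicit false
universe u
open TensorProduct Polynomial CategoryTheory CategoryTheory.Limits

namespace Groth.Agent.H4.GQ10
open Groth.Agent.H4.GQ1 Groth.Agent.H4.GQ2 Groth.Agent.H4.GQ3 Groth.Agent.H4.GQ5 Groth.Agent.H4.GQ6
  Groth.Agent.H4.GQ7 Groth.Agent.H4.GQ8 Groth.Agent.H4.GQ9

section SEL

variable {C₀ A B : Type u} [CommRing C₀] [CommRing A] [CommRing B] [Algebra C₀ A] [Algebra A B]
  [IsLocalRing C₀] [Infinite (IsLocalRing.ResidueField C₀)]

/-- selection of elements whose `τ`-images are independent in all fibres -/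
theorem exists_family_linearIndependent (τ : A →+* B)
    (hτ : ∀ c : C₀, τ (algebraMap C₀ A c) = algebraMap A B (algebraMap C₀ A c))
    [Finite (MaximalSpectrum A)]
    (hcontr : ∀ (P : MaximalSpectrum A) (c : C₀), c ∈ IsLocalRing.maximalIdeal C₀ →
      algebraMap C₀ A c ∈ P.1)
    (hspan : Submodule.span A (Set.range τ) = ⊤) (d : ℕ)
    (hd : ∀ P : MaximalSpectrum A, Module.finrank (A ⧸ P.1) ((A ⧸ P.1) ⊗[A] B) = d) :
    ∃ x : Fin d → A, ∀ P : MaximalSpectrum A,
      LinearIndependent (A ⧸ P.1) (fun i => (1 : A ⧸ P.1) ⊗ₜ[A] τ (x i)) := by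
  classical
  letI := @Ideal.Quotient.field.{u}
  haveI := Fintype.ofFinite (MaximalSpectrum A)
  -- the maps θ
  set θ : ∀ P : MaximalSpectrum A, A → (A ⧸ P.1) ⊗[A] B :=
    fun P a => (1 : A ⧸ P.1) ⊗ₜ[A] τ a with hθ
  have θ_add : ∀ P a a', θ P (a + a') = θ P a + θ P a' := by
    intro P a a'; simp only [hθ, map_add, tmul_add]
  have θ_zero : ∀ P, θ P 0 = 0 := by
    intro P; simp only [hθ, map_zero, tmul_zero]
  have tmul_smul' : ∀ (P : MaximalSpectrum A) (a₀ : A) (b : B),
      (1 : A ⧸ P.1) ⊗ₜ[A] (a₀ • b) = (Ideal.Quotient.mk P.1 a₀) • ((1 : A ⧸ P.1) ⊗ₜ[A] b) := by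
    intro P a₀ b
    rw [TensorProduct.tmul_smul, TensorProduct.smul_tmul', TensorProduct.smul_tmul',
      smul_eq_mul, mul_one, Algebra.smul_def, mul_one]
    rfl
  have θ_smul : ∀ P (c : C₀) a, θ P (c • a) =
      (Ideal.Quotient.mk P.1 (algebraMap C₀ A c)) • θ P a := by
    intro P c a
    simp only [hθ]
    rw [Algebra.smul_def, map_mul, hτ, ← Algebra.smul_def, tmul_smul']
  have θ_span : ∀ P, Submodule.span (A ⧸ P.1) (Set.range (θ P)) = ⊤ := by
    intro P
    rw [eq_top_iff]
    have key : ∀ b : B, (1 : A ⧸ P.1) ⊗ₜ[A] b ∈ Submodule.span (A ⧸ P.1) (Set.range (θ P)) := by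
      intro b
      have hb : b ∈ Submodule.span A (Set.range τ) := by rw [hspan]; trivial
      induction hb using Submodule.span_induction with
      | mem x hx =>
        obtain ⟨a, rfl⟩ := hx
        exact Submodule.subset_span ⟨a, rfl⟩
      | zero => rw [tmul_zero]; exact Submodule.zero_mem _
      | add x y _ _ hx hy => rw [tmul_add]; exact Submodule.add_mem _ hx hy
      | smul a x _ hx => rw [tmul_smul']; exact Submodule.smul_mem _ _ hx
    rintro z -
    induction z using TensorProduct.induction_on with
    | zero => exact Submodule.zero_mem _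
    | add x y hx hy => exact Submodule.add_mem _ hx hy
    | tmul a b =>
      have : a ⊗ₜ[A] b = a • ((1 : A ⧸ P.1) ⊗ₜ[A] b) := by
        rw [TensorProduct.smul_tmul', smul_eq_mul, mul_one]
      rw [this]
      exact Submodule.smul_mem _ _ (key b)
  -- induction
  have main : ∀ i, i ≤ d → ∃ x : Fin i → A, ∀ P : MaximalSpectrum A,
      LinearIndependent (A ⧸ P.1) (fun j => θ P (x j)) := by
    intro i
    induction i with
    | zero => intro _; exact ⟨Fin.elim0, fun P => linearIndependent_empty_type⟩
    | succ i ih =>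
      intro hi
      obtain ⟨x, hx⟩ := ih (Nat.le_of_succ_le hi)
      let S : ∀ P : MaximalSpectrum A, Submodule (A ⧸ P.1) ((A ⧸ P.1) ⊗[A] B) :=
        fun P => Submodule.span (A ⧸ P.1) (Set.range fun j => θ P (x j))
      let Z : MaximalSpectrum A → Submodule C₀ A := fun P =>
        { carrier := {a | θ P a ∈ S P}
          add_mem' := by
            intro a a' ha ha'
            change θ P (a + a') ∈ S P
            rw [θ_add]; exact Submodule.add_mem _ ha ha'
          zero_mem' := by
            change θ P 0 ∈ S P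
            rw [θ_zero]; exact Submodule.zero_mem _
          smul_mem' := by
            intro c a ha
            change θ P (c • a) ∈ S P
            rw [θ_smul]; exact Submodule.smul_mem _ _ ha }
      have hZne : ∀ P ∈ (Finset.univ : Finset (MaximalSpectrum A)), Z P ≠ ⊤ := by
        intro P _ htop
        have hall : ∀ a, θ P a ∈ S P := fun a => by
          have : a ∈ Z P := by rw [htop]; trivial
          exact this
        have hST : S P = ⊤ := by
          rw [eq_top_iff, ← θ_span P, Submodule.span_le]
          rintro _ ⟨a, rfl⟩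
          exact hall a
        have h1 : Module.finrank (A ⧸ P.1) (S P) ≤ i := by
          have := finrank_range_le_card (R := A ⧸ P.1) (fun j => θ P (x j))
          rw [Fintype.card_fin] at this
          exact this
        rw [hST, finrank_top, hd P] at h1
        omega
      have hZm : ∀ P ∈ (Finset.univ : Finset (MaximalSpectrum A)),
          (IsLocalRing.maximalIdeal C₀) • (⊤ : Submodule C₀ A) ≤ Z P := by
        intro P _
        rw [Submodule.smul_le]
        intro c hc a _
        change θ P (c • a) ∈ S P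
        rw [θ_smul, Ideal.Quotient.eq_zero_iff_mem.mpr (hcontr P c hc), zero_smul]
        exact Submodule.zero_mem _
      obtain ⟨v, hv⟩ := exists_notMem_of_infinite_residueField Finset.univ Z hZne hZm
      refine ⟨Fin.cons v x, fun P => ?_⟩
      have hcons : (fun j => θ P ((Fin.cons v x : Fin (i + 1) → A) j)) =
          Fin.cons (θ P v) (fun j => θ P (x j)) := by
        funext j
        refine Fin.cases ?_ (fun j => ?_) j <;> simp
      rw [hcons, linearIndependent_fin_cons]
      exact ⟨hx P, hv P (Finset.mem_univ P)⟩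
  exact main d le_rfl

end SEL

end Groth.Agent.H4.GQ10
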