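import Mathlib
import Groth.Agent.H4.GQ10

set_option autoImplicit false
universe u
open TensorProduct Polynomial CategoryTheory CategoryTheory.Limits

namespace Groth.Agent.H4.GQ11
open Groth.Agent.H4.GQ1 Groth.Agent.H4.GQ2 Groth.Agent.H4.GQ3 Groth.Agent.H4.GQ5 Groth.Agent.H4.GQ6
  Groth.Agent.H4.GQ7 Groth.Agent.H4.GQ8 Groth.Agent.H4.GQ9 Groth.Agent.H4.GQ10

theorem local_infinite {A B Q : Type u} [CommRing A] [CommRing B] [CommRing Q] (r : RG A B Q)
    {C₀ : Type u} [CommRing C₀] [Algebra C₀ A] [Algebra C₀ B] [Algebra C₀ Q]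
    (h : IsOver r C₀) (hI : IsInv r C₀) [IsLocalRing C₀] [Infinite (IsLocalRing.ResidueField C₀)]
    (hfin : letI := r.σ.toAlgebra; Module.Finite A B)
    (hproj : letI := r.σ.toAlgebra; Module.Projective A B) (hJ : SpanJ r) :
    Module.Free C₀ A ∧ Module.Finite C₀ A ∧ Function.Bijective (Phi h) := by
  classical
  letI := r.σ.toAlgebra
  haveI := hfin; haveI := hproj
  haveI hint : Algebra.IsIntegral C₀ A := hI.isIntegral h hfin hproj
  haveI : Nontrivial A := hI.inj.nontrivial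
  have hcomap : ∀ 𝔫 : Ideal A, 𝔫.IsMaximal →
      𝔫.comap (algebraMap C₀ A) = IsLocalRing.maximalIdeal C₀ := by
    intro 𝔫 h𝔫
    haveI := h𝔫
    exact IsLocalRing.eq_maximalIdeal (Ideal.isMaximal_comap_of_isIntegral_of_isMaximal 𝔫)
  obtain ⟨𝔫₁, h𝔫₁⟩ := Ideal.exists_maximal A
  haveI := h𝔫₁
  have hT : (𝔫₁.primesOver B).Finite := Algebra.QuasiFinite.finite_primesOver 𝔫₁
  have horb : ∀ P : MaximalSpectrum A, ∃ q : Ideal B, q.IsPrime ∧ q.comap r.τ = P.1 ∧
      q.comap r.σ = 𝔫₁ := by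
    intro P
    haveI := P.isMaximal
    exact hI.orbit h hfin hproj P.1 𝔫₁ (by rw [hcomap _ P.isMaximal, hcomap _ h𝔫₁])
  choose qq hqq using horb
  haveI : Finite (MaximalSpectrum A) := by
    haveI := hT.to_subtype
    let F : MaximalSpectrum A → ↥(𝔫₁.primesOver B) :=
      fun P => ⟨qq P, (hqq P).1, ⟨(hqq P).2.2.symm⟩⟩
    refine Finite.of_injective F ?_
    intro P P' hPP'
    have : qq P = qq P' := congrArg Subtype.val hPP'
    apply MaximalSpectrum.ext
    rw [← (hqq P).2.1, ← (hqq P').2.1, this]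
  set d := Module.rankAtStalk (R := A) B ⟨𝔫₁, h𝔫₁.isPrime⟩ with hd
  have hrank : ∀ P : MaximalSpectrum A, Module.finrank (A ⧸ P.1) ((A ⧸ P.1) ⊗[A] B) = d := by
    intro P
    haveI := P.isMaximal
    rw [finrank_quot_tensor A B P.1]
    haveI := (hqq P).1
    have := rank_invariant r hfin hproj ⟨qq P, (hqq P).1⟩
    have e1 : PrimeSpectrum.comap r.σ ⟨qq P, (hqq P).1⟩ = ⟨𝔫₁, h𝔫₁.isPrime⟩ :=
      PrimeSpectrum.ext (hqq P).2.2
    have e2 : PrimeSpectrum.comap r.τ ⟨qq P, (hqq P).1⟩ = ⟨P.1, P.isMaximal.isPrime⟩ :=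
      PrimeSpectrum.ext (hqq P).2.1
    rw [e1, e2] at this
    exact this.symm
  have hcontr : ∀ (P : MaximalSpectrum A) (c : C₀), c ∈ IsLocalRing.maximalIdeal C₀ →
      algebraMap C₀ A c ∈ P.1 := by
    intro P c hc
    rw [← hcomap P.1 P.isMaximal] at hc
    exact hc
  obtain ⟨x, hx⟩ := exists_family_linearIndependent (C₀ := C₀) r.τ
    (fun c => by rw [h.hτ, ← h.hσ]; rfl) hcontr hJ d hrank
  letI := @Ideal.Quotient.field.{u}
  let b' : ∀ P : MaximalSpectrum A, Module.Basis (Fin d) (A ⧸ P.1) ((A ⧸ P.1) ⊗[A] B) :=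
    fun P => Module.Basis.mk (hx P) (le_of_eq
      ((hx P).span_eq_top_of_card_eq_finrank' (by rw [Fintype.card_fin, hrank P])).symm)
  have hb' : ∀ P i, b' P i = (1 : A ⧸ P.1) ⊗ₜ[A] r.τ (x i) := by
    intro P i
    exact Module.Basis.mk_apply _ _ i
  have hbij := bijective_linearCombination_of_residue_basis (fun i => r.τ (x i)) b' hb'
  let b : Module.Basis (Fin d) A B := Module.Basis.ofRepr (LinearEquiv.ofBijective _ hbij).symm
  have hb : ∀ i, b i = r.τ (x i) := by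
    intro i
    simp [b]
  let bU : Module.Basis (ULift.{u} (Fin d)) A B := b.reindex Equiv.ulift.symm
  obtain ⟨⟨bC, hbC⟩, hΦ⟩ := hI.main h (fun i : ULift.{u} (Fin d) => x i.down)
    ⟨bU, fun i => by simp [bU, hb]⟩
  exact ⟨Module.Free.of_basis bC, Module.Finite.of_basis bC, hΦ⟩

end Groth.Agent.H4.GQ11
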