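import Mathlib
import Groth.Agent.H4.GQ11

set_option autoImplicit false
universe u
open TensorProduct Polynomial CategoryTheory CategoryTheory.Limits

namespace Groth.Agent.H4.GQ12
open Groth.Agent.H4.GQ1 Groth.Agent.H4.GQ2 Groth.Agent.H4.GQ3 Groth.Agent.H4.GQ5 Groth.Agent.H4.GQ6
  Groth.Agent.H4.GQ7 Groth.Agent.H4.GQ8 Groth.Agent.H4.GQ9 Groth.Agent.H4.GQ10 Groth.Agent.H4.GQ11

section Cpp

variable (C₀ : Type u) [CommRing C₀] [IsLocalRing C₀]

/-- `C₀[X]` localized at `𝔪 C₀[X]`: a faithfully flat local extension with infinite residue field -/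
abbrev Cpp : Type u :=
  Localization.AtPrime ((IsLocalRing.maximalIdeal C₀).map (Polynomial.C : C₀ →+* C₀[X]))

instance : IsLocalHom (algebraMap C₀ (Cpp C₀)) := by
  refine ⟨fun c hc => ?_⟩
  rw [IsScalarTower.algebraMap_apply C₀ C₀[X] (Cpp C₀)] at hc
  rw [IsLocalization.AtPrime.isUnit_to_map_iff (Cpp C₀)
    ((IsLocalRing.maximalIdeal C₀).map (Polynomial.C : C₀ →+* C₀[X]))] at hc
  by_contra hnu
  exact hc (Ideal.mem_map_of_mem _ ((IsLocalRing.mem_maximalIdeal c).mpr hnu))

instance : Module.FaithfullyFlat C₀ (Cpp C₀) := Module.FaithfullyFlat.of_flat_of_isLocalHom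

instance : Infinite (IsLocalRing.ResidueField (Cpp C₀)) := by
  let f : ℕ → IsLocalRing.ResidueField (Cpp C₀) := fun n =>
    IsLocalRing.residue (Cpp C₀) (algebraMap C₀[X] (Cpp C₀) (X ^ n))
  refine Infinite.of_injective f (Function.Injective.of_lt_imp_ne fun n m hnm heq => ?_)
  have h1 : IsLocalRing.residue (Cpp C₀) (algebraMap C₀[X] (Cpp C₀) (X ^ n - X ^ m)) = 0 := by
    rw [map_sub, map_sub]
    exact sub_eq_zero.mpr heq
  rw [IsLocalRing.residue_eq_zero_iff, IsLocalization.AtPrime.to_map_mem_maximal_iff (Cpp C₀)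
    ((IsLocalRing.maximalIdeal C₀).map (Polynomial.C : C₀ →+* C₀[X])),
    Ideal.mem_map_C_iff] at h1
  have h2 := h1 n
  rw [Polynomial.coeff_sub, Polynomial.coeff_X_pow, Polynomial.coeff_X_pow, if_pos rfl,
    if_neg (Nat.ne_of_lt hnm), sub_zero] at h2
  exact (IsLocalRing.maximalIdeal C₀).ne_top_iff_one.mp
    (IsLocalRing.maximalIdeal.isMaximal C₀).ne_top h2

end Cpp

section descent

variable {A B Q : Type u} [CommRing A] [CommRing B] [CommRing Q] {r : RG A B Q}
  {C₀ : Type u} [CommRing C₀] [Algebra C₀ A] [Algebra C₀ B] [Algebra C₀ Q]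

theorem lTensor_phi (h : IsOver r C₀) (C' : Type u) [CommRing C'] [Algebra C₀ C']
    (z : C' ⊗[C₀] (A ⊗[C₀] A)) :
    (Phi h).lTensor C' z =
      Phi (isOver_rgbc C' h) (AlgebraTensorModule.distribBaseChange C₀ C' A A z) := by
  induction z using TensorProduct.induction_on with
  | zero => simp
  | add x y hx hy => simp only [map_add, hx, hy]
  | tmul c w =>
    induction w using TensorProduct.induction_on with
    | zero => simp
    | add x y hx hy => simp only [tmul_add, map_add, hx, hy]
    | tmul a a' =>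
      rw [LinearMap.lTensor_tmul, Phi_tmul, AlgebraTensorModule.distribBaseChange_tmul, Phi_tmul]
      change c ⊗ₜ[C₀] (r.τ a * r.σ a') =
        bc C₀ C' r.τ h.hτ (c ⊗ₜ a) * bc C₀ C' r.σ h.hσ ((1 : C') ⊗ₜ a')
      rw [bc_tmul, bc_tmul, Algebra.TensorProduct.tmul_mul_tmul, mul_one]

theorem bijective_lTensor_phi (h : IsOver r C₀) (C' : Type u) [CommRing C'] [Algebra C₀ C']
    (hb : Function.Bijective (Phi (isOver_rgbc C' h))) :
    Function.Bijective ((Phi h).lTensor C') := by
  have : ((Phi h).lTensor C' : _ → _) = (Phi (isOver_rgbc C' h)) ∘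
      (AlgebraTensorModule.distribBaseChange C₀ C' A A) := funext (lTensor_phi h C')
  rw [this]
  exact hb.comp (LinearEquiv.bijective _)

theorem local_general (h : IsOver r C₀) (hI : IsInv r C₀) [IsLocalRing C₀]
    (hfin : letI := r.σ.toAlgebra; Module.Finite A B)
    (hproj : letI := r.σ.toAlgebra; Module.Projective A B) (hJ : SpanJ r) :
    Module.Flat C₀ A ∧ Function.Bijective (Phi h) := by
  obtain ⟨hfree, -, hbij⟩ := local_infinite (rgbc (Cpp C₀) h) (isOver_rgbc (Cpp C₀) h)
    (isInv_rgbc (Cpp C₀) h hI) (finite_rgbc (Cpp C₀) h hfin) (projective_rgbc (Cpp C₀) h hproj)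
    (spanJ_rgbc (Cpp C₀) h hJ)
  refine ⟨Module.Flat.of_flat_tensorProduct C₀ A (Cpp C₀), ?_⟩
  rw [← Module.FaithfullyFlat.lTensor_bijective_iff_bijective C₀ (Cpp C₀)]
  exact bijective_lTensor_phi h (Cpp C₀) hbij

theorem global_general (h : IsOver r C₀) (hI : IsInv r C₀)
    (hfin : letI := r.σ.toAlgebra; Module.Finite A B)
    (hproj : letI := r.σ.toAlgebra; Module.Projective A B) (hJ : SpanJ r) :
    Module.Flat C₀ A ∧ Function.Bijective (Phi h) := by
  have hloc : ∀ (P : Ideal C₀) [P.IsMaximal],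
      Module.Flat (Localization.AtPrime P) (Localization.AtPrime P ⊗[C₀] A) ∧
      Function.Bijective (Phi (isOver_rgbc (Localization.AtPrime P) h)) := by
    intro P _
    exact local_general (isOver_rgbc (Localization.AtPrime P) h)
      (isInv_rgbc (Localization.AtPrime P) h hI) (finite_rgbc (Localization.AtPrime P) h hfin)
      (projective_rgbc (Localization.AtPrime P) h hproj) (spanJ_rgbc (Localization.AtPrime P) h hJ)
  constructor
  · refine Module.flat_of_isLocalized_maximal C₀ A
      (fun P _ => Localization.AtPrime P ⊗[C₀] A)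
      (fun P _ => TensorProduct.mk C₀ (Localization.AtPrime P) A 1) ?_
    intro P _
    haveI := (hloc P).1
    exact Module.Flat.trans C₀ (Localization.AtPrime P) _
  · refine bijective_of_isLocalized_maximal
      (fun P _ => Localization.AtPrime P ⊗[C₀] (A ⊗[C₀] A))
      (fun P _ => TensorProduct.mk C₀ (Localization.AtPrime P) (A ⊗[C₀] A) 1)
      (fun P _ => Localization.AtPrime P ⊗[C₀] B)
      (fun P _ => TensorProduct.mk C₀ (Localization.AtPrime P) B 1) (Phi h) ?_
    intro P _
    have hmap : IsLocalizedModule.map P.primeCompl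
        (TensorProduct.mk C₀ (Localization.AtPrime P) (A ⊗[C₀] A) 1)
        (TensorProduct.mk C₀ (Localization.AtPrime P) B 1) (Phi h) =
        (Phi h).lTensor (Localization.AtPrime P) := by
      refine IsLocalizedModule.linearMap_ext P.primeCompl
        (TensorProduct.mk C₀ (Localization.AtPrime P) (A ⊗[C₀] A) 1)
        (TensorProduct.mk C₀ (Localization.AtPrime P) B 1) ?_
      rw [IsLocalizedModule.map_comp]
      ext a a'
      simp
    rw [hmap]
    exact bijective_lTensor_phi h (Localization.AtPrime P) (hloc P).2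

end descent

end Groth.Agent.H4.GQ12
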