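import Mathlib
import Groth.Agent.H4.GQ12

set_option autoImplicit false
universe u
open TensorProduct Polynomial CategoryTheory CategoryTheory.Limits

namespace Groth.Agent.H4.GQ13
open Groth.Agent.H4.GQ1 Groth.Agent.H4.GQ2 Groth.Agent.H4.GQ3 Groth.Agent.H4.GQ5 Groth.Agent.H4.GQ6
  Groth.Agent.H4.GQ7 Groth.Agent.H4.GQ8 Groth.Agent.H4.GQ9 Groth.Agent.H4.GQ10 Groth.Agent.H4.GQ11
  Groth.Agent.H4.GQ12

section top

variable {A B Q : Type u} [CommRing A] [CommRing B] [CommRing Q] (r : RG A B Q)

/-- the algebra structure of `B` over the invariants, through `σ` -/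
@[reducible] def algB : Algebra r.C B := (r.σ.comp r.C.subtype).toAlgebra

/-- the algebra structure of `Q` over the invariants -/
@[reducible] def algQ : Algebra r.C Q := (r.π₁.comp (r.σ.comp r.C.subtype)).toAlgebra

theorem isOver_C : letI := algB r; letI := algQ r; IsOver r r.C := by
  letI := algB r; letI := algQ r
  exact ⟨fun c => rfl, fun c => (r.mem_C.mp c.2).symm, fun c => rfl⟩

theorem isInv_C : IsInv r r.C :=
  ⟨Subtype.val_injective, fun a ha => ⟨⟨a, ha⟩, rfl⟩⟩

theorem spanJ_of_closure (hcl : Subring.closure (Set.range r.τ ∪ Set.range r.σ) = ⊤) :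
    SpanJ r := by
  letI := r.σ.toAlgebra
  change Submodule.span A (Set.range r.τ) = ⊤
  have hS : Algebra.adjoin A (Set.range r.τ) = ⊤ := by
    rw [eq_top_iff]
    rintro b -
    have hb : b ∈ Subring.closure (Set.range r.τ ∪ Set.range r.σ) := by rw [hcl]; trivial
    have hle : Subring.closure (Set.range r.τ ∪ Set.range r.σ) ≤
        (Algebra.adjoin A (Set.range r.τ)).toSubring := by
      rw [Subring.closure_le]
      rintro x (hx | ⟨a, rfl⟩)
      · exact Algebra.subset_adjoin hx
      · exact (Algebra.adjoin A (Set.range r.τ)).algebraMap_mem a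
    exact hle hb
  have h1 := Algebra.adjoin_eq_span A (Set.range r.τ)
  have h2 : (Submonoid.closure (Set.range r.τ) : Set B) = Set.range r.τ := by
    have : Set.range r.τ = ((MonoidHom.mrange (r.τ : A →* B) : Submonoid B) : Set B) := by
      ext; simp
    rw [this, Submonoid.closure_eq]
  rw [h2, hS] at h1
  rw [← h1]
  rfl

theorem top_general
    (hfin : letI := r.σ.toAlgebra; Module.Finite A B)
    (hproj : letI := r.σ.toAlgebra; Module.Projective A B) (hJ : SpanJ r)
    (hτfin : letI := r.τ.toAlgebra; Module.Finite A B)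
    (hτfp : letI := r.τ.toAlgebra; Algebra.FinitePresentation A B) :
    letI := algB r; letI := algQ r
    Module.Flat r.C A ∧ Module.Finite r.C A ∧ Algebra.FinitePresentation r.C A ∧
      Function.Bijective (Phi (isOver_C r)) := by
  letI iCB := algB r; letI iCQ := algQ r
  obtain ⟨hflat, hbij⟩ := global_general (isOver_C r) (isInv_C r) hfin hproj hJ
  haveI := hflat
  haveI hff : Module.FaithfullyFlat r.C A := by
    refine Module.FaithfullyFlat.of_comap_surjective ?_
    intro 𝔭
    obtain ⟨p, hp, hp'⟩ := exists_prime_over r hfin hproj 𝔭.asIdeal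
    exact ⟨⟨p, hp⟩, PrimeSpectrum.ext hp'⟩
  -- the `A`-algebra isomorphism `A ⊗ A ≃ B`
  letI iAB : Algebra A B := r.τ.toAlgebra
  haveI : IsScalarTower r.C A B := IsScalarTower.of_algebraMap_eq (fun c => r.mem_C.mp c.2)
  let σₐ : A →ₐ[r.C] B := { r.σ with commutes' := fun c => rfl }
  let fA : A ⊗[r.C] A →ₐ[A] B := Algebra.TensorProduct.productLeftAlgHom (Algebra.ofId A B) σₐ
  have hfA : ∀ z, fA z = Phi (isOver_C r) z := by
    intro z
    induction z using TensorProduct.induction_on with
    | zero => simp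
    | add x y hx hy => simp only [map_add, hx, hy]
    | tmul a a' =>
      rw [Phi_tmul]
      simp [fA, σₐ, Algebra.ofId_apply]
      rfl
  have hfAbij : Function.Bijective fA := by
    have : (fA : A ⊗[r.C] A → B) = Phi (isOver_C r) := funext hfA
    rw [this]; exact hbij
  let eA : A ⊗[r.C] A ≃ₐ[A] B := AlgEquiv.ofBijective fA hfAbij
  haveI : Module.Finite A B := hτfin
  haveI : Algebra.FinitePresentation A B := hτfp
  haveI : Module.Finite A (A ⊗[r.C] A) := Module.Finite.equiv eA.symm.toLinearEquiv
  haveI : Algebra.FinitePresentation A (A ⊗[r.C] A) := Algebra.FinitePresentation.equiv eA.symm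
  exact ⟨hflat, Module.Finite.of_finite_tensorProduct_of_faithfullyFlat A,
    Algebra.FinitePresentation.of_finitePresentation_tensorProduct_of_faithfullyFlat A, hbij⟩

end top

end Groth.Agent.H4.GQ13
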