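import Mathlib
import Groth.Prelude.Def_Grpd
import Groth.Agent.H4.GrpdLib
import Groth.Agent.H4.GrpdLib3
import Groth.Agent.H4.GQ3

set_option autoImplicit false
universe u
open TensorProduct Polynomial CategoryTheory CategoryTheory.Limits AlgebraicGeometry

namespace Groth.Agent.H4.GQ4
open Groth.Agent.H4.GQ1 Groth.Agent.H4.GQ2 Groth.Agent.H4.GQ3

variable {S : Scheme.{u}} (G : Grpd.GroupoidScheme S) [IsAffine G.U] [IsAffine G.R]

/-- ring level data of an affine groupoid scheme -/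
noncomputable def toRG : RG Γ(G.U, ⊤) Γ(G.R, ⊤) Γ(pullback G.s G.t, ⊤) where
  σ := G.s.appTop.hom
  τ := G.t.appTop.hom
  ε := G.e.appTop.hom
  π₀ := (pullback.fst G.s G.t).appTop.hom
  π₁ := (pullback.snd G.s G.t).appTop.hom
  γ := G.c.appTop.hom
  εσ a := by
    have h := congrArg (fun f => f.appTop.hom a) G.e_s
    simpa using h
  ετ a := by
    have h := congrArg (fun f => f.appTop.hom a) G.e_t
    simpa using h
  γτ a := by
    have h := congrArg (fun f => f.appTop.hom a) (Groth.Agent.H4.GrpdLib.c_t G)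
    simpa using h
  po1 := (isPushout_appTop_of_isPullback (IsPullback.of_hasPullback G.s G.t)).flip
  po2 := (isPushout_appTop_of_isPullback (Groth.Agent.H4.GrpdLib.isPullback_c_snd G)).flip

theorem toRG_C : (toRG G).C = G.invariants := rfl

theorem normST_mem [IsFinite G.s] [Flat G.s] [LocallyOfFinitePresentation G.s] (f : Γ(G.U, ⊤)) :
    G.normST f ∈ G.invariants :=
  (toRG G).norm_mem f

theorem isIntegral_invariants [IsFinite G.s] [Flat G.s] [LocallyOfFinitePresentation G.s] :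
    Algebra.IsIntegral G.invariants Γ(G.U, ⊤) := by
  refine ⟨fun f => ?_⟩
  refine (toRG G).isIntegral ?_ ?_ f
  · exact G.s.finite_appTop
  · show letI := G.s.appTop.hom.toAlgebra; Module.Projective Γ(G.U, ⊤) Γ(G.R, ⊤)
    letI := G.s.appTop.hom.toAlgebra
    haveI : Module.Finite Γ(G.U, ⊤) Γ(G.R, ⊤) := G.s.finite_appTop
    haveI : Module.Flat Γ(G.U, ⊤) Γ(G.R, ⊤) := G.s.flat_appTop
    haveI : Algebra.FinitePresentation Γ(G.U, ⊤) Γ(G.R, ⊤) := G.s.finitePresentation_appTop
    haveI : Module.FinitePresentation Γ(G.U, ⊤) Γ(G.R, ⊤) :=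
      Module.FinitePresentation.of_finite_of_finitePresentation _ _
    exact Module.Flat.projective_of_finitePresentation

theorem basis_main (I : Type u) (x : I → Γ(G.U, ⊤))
    (hB : letI := G.s.appTop.hom.toAlgebra; ∃ b : Module.Basis I Γ(G.U, ⊤) Γ(G.R, ⊤),
      ∀ i, b i = G.t.appTop.hom (x i)) :
    (∃ b : Module.Basis I G.invariants Γ(G.U, ⊤), ∀ i, b i = x i) ∧
    (letI := (G.s.appTop.hom.comp G.invariants.subtype).toAlgebra
     ∀ φ : TensorProduct G.invariants Γ(G.U, ⊤) Γ(G.U, ⊤) →ₗ[G.invariants] Γ(G.R, ⊤),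
      (∀ a a' : Γ(G.U, ⊤), φ (a ⊗ₜ[G.invariants] a') = G.t.appTop.hom a * G.s.appTop.hom a') →
        Function.Bijective φ) :=
  main (toRG G) x hB

end Groth.Agent.H4.GQ4
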