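import Mathlib
import Groth.Prelude.Def_Grpd
import Groth.Agent.H4.GrpdLib2
import Groth.Agent.H4.GQ4
import Groth.Agent.H4.GQ13

set_option autoImplicit false
universe u
open TensorProduct Polynomial CategoryTheory CategoryTheory.Limits AlgebraicGeometry

namespace Groth.Agent.H4.GQ14
open Groth.Agent.H4.GQ1 Groth.Agent.H4.GQ2 Groth.Agent.H4.GQ3 Groth.Agent.H4.GQ4 Groth.Agent.H4.GQ5
  Groth.Agent.H4.GQ6 Groth.Agent.H4.GQ7 Groth.Agent.H4.GQ8 Groth.Agent.H4.GQ12 Groth.Agent.H4.GQ13

variable {S : Scheme.{u}} (G : Grpd.GroupoidScheme S) [IsAffine G.U] [IsAffine G.R]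

theorem t_toQuot : G.t ≫ G.toQuot = G.s ≫ G.toQuot := by
  unfold Grpd.GroupoidScheme.toQuot
  rw [← Category.assoc, ← Category.assoc, Scheme.toSpecΓ_naturality, Scheme.toSpecΓ_naturality,
    Category.assoc, Category.assoc, ← Spec.map_comp, ← Spec.map_comp]
  congr 2
  ext c
  exact c.2.symm

/-- `(t, s) : R → U ×_M U` -/
noncomputable def jM : G.R ⟶ pullback G.toQuot G.toQuot :=
  pullback.lift G.t G.s (t_toQuot G)

instance mono_jM [Mono G.j] : Mono (jM G) := by
  refine ⟨fun {T} a b hab => ?_⟩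
  have h1 : a ≫ G.t = b ≫ G.t := by
    have := congrArg (· ≫ pullback.fst G.toQuot G.toQuot) hab
    simp only [Category.assoc, jM, pullback.lift_fst] at this
    exact this
  have h2 : a ≫ G.s = b ≫ G.s := by
    have := congrArg (· ≫ pullback.snd G.toQuot G.toQuot) hab
    simp only [Category.assoc, jM, pullback.lift_snd] at this
    exact this
  rw [← cancel_mono G.j]
  apply pullback.hom_ext
  · rw [Category.assoc, Category.assoc, Groth.Agent.H4.GrpdLib.j_fst, h1]
  · rw [Category.assoc, Category.assoc, Groth.Agent.H4.GrpdLib.j_snd, h2]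

theorem closure_eq_top [Mono G.j] [IsFinite G.s] :
    Subring.closure (Set.range G.t.appTop.hom ∪ Set.range G.s.appTop.hom) = ⊤ := by
  haveI : IsFinite (jM G ≫ pullback.snd G.toQuot G.toQuot) := by
    rw [jM, pullback.lift_snd]; infer_instance
  haveI : IsFinite (jM G) := IsFinite.of_comp (jM G) (pullback.snd G.toQuot G.toQuot)
  haveI : IsClosedImmersion (jM G) := (IsClosedImmersion.iff_isFinite_and_mono (jM G)).mpr ⟨inferInstance, inferInstance⟩
  have hsurj := (IsClosedImmersion.isAffine_surjective_of_isAffine (jM G)).2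
  have hcl := CommRingCat.closure_range_union_range_eq_top_of_isPushout
    (isPushout_appTop_of_isPullback (IsPullback.of_hasPullback G.toQuot G.toQuot))
  have e1 : ∀ x, (jM G).appTop.hom ((pullback.fst G.toQuot G.toQuot).appTop.hom x) =
      G.t.appTop.hom x := by
    intro x
    have := congrArg (fun f => f.appTop.hom x) (pullback.lift_fst G.t G.s (t_toQuot G))
    simpa [jM] using this
  have e2 : ∀ x, (jM G).appTop.hom ((pullback.snd G.toQuot G.toQuot).appTop.hom x) =
      G.s.appTop.hom x := by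
    intro x
    have := congrArg (fun f => f.appTop.hom x) (pullback.lift_snd G.t G.s (t_toQuot G))
    simpa [jM] using this
  rw [eq_top_iff]
  rintro b -
  obtain ⟨y, rfl⟩ := hsurj b
  have hy : y ∈ Subring.closure (Set.range (pullback.fst G.toQuot G.toQuot).appTop.hom ∪
      Set.range (pullback.snd G.toQuot G.toQuot).appTop.hom) := by
    have : y ∈ (⊤ : Subring _) := trivial
    rw [← hcl] at this
    exact this
  induction hy using Subring.closure_induction with
  | mem x hx =>
    rcases hx with ⟨a, rfl⟩ | ⟨a, rfl⟩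
    · exact Subring.subset_closure (Or.inl ⟨a, (e1 a).symm⟩)
    · exact Subring.subset_closure (Or.inr ⟨a, (e2 a).symm⟩)
  | zero => rw [map_zero]; exact Subring.zero_mem _
  | one => rw [map_one]; exact Subring.one_mem _
  | add x y _ _ hx hy => rw [map_add]; exact Subring.add_mem _ hx hy
  | neg x _ hx => rw [map_neg]; exact Subring.neg_mem _ hx
  | mul x y _ _ hx hy => rw [map_mul]; exact Subring.mul_mem _ hx hy

theorem main_S1877 [IsFinite G.s] [Flat G.s] [LocallyOfFinitePresentation G.s] [IsFinite G.t]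
    [Flat G.t] [LocallyOfFinitePresentation G.t] [Mono G.j] :
    (IsFinite G.toQuot ∧ Flat G.toQuot ∧ LocallyOfFinitePresentation G.toQuot) ∧
    ∃ φ : G.R ≅ pullback G.toQuot G.toQuot, φ.hom ≫ pullback.fst G.toQuot G.toQuot = G.t ∧
      φ.hom ≫ pullback.snd G.toQuot G.toQuot = G.s := by
  have hfin : letI := (toRG G).σ.toAlgebra; Module.Finite Γ(G.U, ⊤) Γ(G.R, ⊤) :=
    G.s.finite_appTop
  have hproj : letI := (toRG G).σ.toAlgebra; Module.Projective Γ(G.U, ⊤) Γ(G.R, ⊤) := by
    show letI := G.s.appTop.hom.toAlgebra; Module.Projective Γ(G.U, ⊤) Γ(G.R, ⊤)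
    letI := G.s.appTop.hom.toAlgebra
    haveI : Module.Finite Γ(G.U, ⊤) Γ(G.R, ⊤) := G.s.finite_appTop
    haveI : Module.Flat Γ(G.U, ⊤) Γ(G.R, ⊤) := G.s.flat_appTop
    haveI : Algebra.FinitePresentation Γ(G.U, ⊤) Γ(G.R, ⊤) := G.s.finitePresentation_appTop
    haveI : Module.FinitePresentation Γ(G.U, ⊤) Γ(G.R, ⊤) :=
      Module.FinitePresentation.of_finite_of_finitePresentation _ _
    exact Module.Flat.projective_of_finitePresentation
  have hJ : SpanJ (toRG G) := spanJ_of_closure (toRG G) (closure_eq_top G)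
  have hτfin : letI := (toRG G).τ.toAlgebra; Module.Finite Γ(G.U, ⊤) Γ(G.R, ⊤) :=
    G.t.finite_appTop
  have hτfp : letI := (toRG G).τ.toAlgebra; Algebra.FinitePresentation Γ(G.U, ⊤) Γ(G.R, ⊤) :=
    G.t.finitePresentation_appTop
  obtain ⟨hflat, hfinC, hfpC, hbij⟩ := top_general (toRG G) hfin hproj hJ hτfin hτfp
  letI iCB := algB (toRG G); letI iCQ := algQ (toRG G)
  constructor
  · have h1 : IsFinite (Spec.map (CommRingCat.ofHom G.invariants.subtype)) := by
      rw [IsFinite.SpecMap_iff]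
      exact RingHom.finite_algebraMap.mpr hfinC
    have h2 : Flat (Spec.map (CommRingCat.ofHom G.invariants.subtype)) := by
      rw [Flat.SpecMap_iff]
      exact RingHom.flat_algebraMap_iff.mpr hflat
    have h3 : LocallyOfFinitePresentation (Spec.map (CommRingCat.ofHom G.invariants.subtype)) := by
      rw [LocallyOfFinitePresentation.SpecMap_iff]
      exact RingHom.finitePresentation_algebraMap.mpr hfpC
    unfold Grpd.GroupoidScheme.toQuot
    exact ⟨inferInstance, inferInstance, inferInstance⟩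
  · let f : Γ(G.U, ⊤) ⊗[(toRG G).C] Γ(G.U, ⊤) →+* Γ(G.R, ⊤) :=
      (Algebra.TensorProduct.productMap
        ({ (toRG G).τ with commutes' := (isOver_C (toRG G)).hτ } : Γ(G.U, ⊤) →ₐ[(toRG G).C] Γ(G.R, ⊤))
        ({ (toRG G).σ with commutes' := (isOver_C (toRG G)).hσ } :
          Γ(G.U, ⊤) →ₐ[(toRG G).C] Γ(G.R, ⊤))).toRingHom
    have hf : ∀ a a', f (a ⊗ₜ a') = G.t.appTop.hom a * G.s.appTop.hom a' := by
      intro a a'
      simp [f]
      rfl
    let e : Γ(G.U, ⊤) ⊗[(toRG G).C] Γ(G.U, ⊤) ≃+* Γ(G.R, ⊤) := RingEquiv.ofBijective f hbij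
    have hpo : IsPushout (CommRingCat.ofHom (algebraMap (toRG G).C Γ(G.U, ⊤)))
        (CommRingCat.ofHom (algebraMap (toRG G).C Γ(G.U, ⊤)))
        (CommRingCat.ofHom G.t.appTop.hom) (CommRingCat.ofHom G.s.appTop.hom) := by
      refine (CommRingCat.isPushout_tensorProduct (toRG G).C Γ(G.U, ⊤) Γ(G.U, ⊤)).of_iso
        (Iso.refl _) (Iso.refl _) (Iso.refl _) e.toCommRingCatIso (by simp) (by simp) ?_ ?_
      · ext a
        change f (a ⊗ₜ 1) = G.t.appTop.hom a
        rw [hf, map_one, mul_one]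
      · ext a
        change f (1 ⊗ₜ a) = G.s.appTop.hom a
        rw [hf, map_one, one_mul]
    have hpb := isPullback_SpecMap_of_isPushout _ _ _ _ hpo
    have hpbU : IsPullback G.t G.s G.toQuot G.toQuot := by
      refine hpb.of_iso' G.R.isoSpec G.U.isoSpec G.U.isoSpec (Iso.refl _) ?_ ?_ ?_ ?_
      · exact Scheme.isoSpec_hom_naturality G.t
      · exact Scheme.isoSpec_hom_naturality G.s
      · simp [Grpd.GroupoidScheme.toQuot, Scheme.isoSpec_hom]; rfl
      · simp [Grpd.GroupoidScheme.toQuot, Scheme.isoSpec_hom]; rfl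
    exact ⟨hpbU.isoPullback, hpbU.isoPullback_hom_fst, hpbU.isoPullback_hom_snd⟩

end Groth.Agent.H4.GQ14
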