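import Mathlib
import Groth.Prelude.Def_Grpd
import Groth.Prelude.Def_QuotSh
import Groth.Agent.H4.GQ14
import Groth.Agent.Lib.Helper3.QuotShEff

set_option autoImplicit false
universe u
open CategoryTheory CategoryTheory.Limits AlgebraicGeometry TensorProduct
open Grpd

namespace Groth.Agent.H4.GQ15

open Groth.Agent.H4.GQ2 Groth.Agent.H4.GQ4 Groth.Agent.H4.GQ6 Groth.Agent.H4.GQ14

variable {S : Scheme.{u}} (G : Grpd.GroupoidScheme S) [IsAffine G.U] [IsAffine G.R]

theorem surjective_SpecMap_subtype [IsFinite G.s] [Flat G.s] [LocallyOfFinitePresentation G.s] :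
    Surjective (Spec.map (CommRingCat.ofHom G.invariants.subtype)) := by
  have hfin : letI := (toRG G).σ.toAlgebra; Module.Finite Γ(G.U, ⊤) Γ(G.R, ⊤) :=
    G.s.finite_appTop
  have hproj : letI := (toRG G).σ.toAlgebra; Module.Projective Γ(G.U, ⊤) Γ(G.R, ⊤) := by
    show letI := G.s.appTop.hom.toAlgebra; Module.Projective Γ(G.U, ⊤) Γ(G.R, ⊤)
    letI := G.s.appTop.hom.toAlgebra
    haveI : Module.Finite Γ(G.U, ⊤) Γ(G.R, ⊤) := G.s.finite_appTop
    haveI : Module.Flat Γ(G.U, ⊤) Γ(G.R, ⊤) := G.s.flat_appTop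
    haveI : Algebra.FinitePresentation Γ(G.U, ⊤) Γ(G.R, ⊤) := G.s.finitePresentation_appTop
    haveI : Module.FinitePresentation Γ(G.U, ⊤) Γ(G.R, ⊤) :=
      Module.FinitePresentation.of_finite_of_finitePresentation _ _
    exact Module.Flat.projective_of_finitePresentation
  refine ⟨fun x => ?_⟩
  let x' : PrimeSpectrum (toRG G).C := x
  haveI : (x'.asIdeal : Ideal (toRG G).C).IsPrime := x'.isPrime
  obtain ⟨p, hp, hp'⟩ := exists_prime_over (toRG G) hfin hproj x'.asIdeal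
  refine ⟨⟨p, hp⟩, ?_⟩
  apply PrimeSpectrum.ext
  exact hp'

theorem surjective_toQuot [IsFinite G.s] [Flat G.s] [LocallyOfFinitePresentation G.s] :
    Surjective G.toQuot := by
  haveI := surjective_SpecMap_subtype G
  unfold Grpd.GroupoidScheme.toQuot
  infer_instance

theorem isPullback_toQuot [IsFinite G.s] [Flat G.s] [LocallyOfFinitePresentation G.s] [IsFinite G.t]
    [Flat G.t] [LocallyOfFinitePresentation G.t] [Mono G.j] :
    IsPullback G.s G.t G.toQuot G.toQuot := by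
  obtain ⟨-, φ, h1, h2⟩ := main_S1877 G
  have : IsPullback G.t G.s G.toQuot G.toQuot :=
    IsPullback.of_iso_pullback ⟨t_toQuot G⟩ φ h1 h2
  exact this.flip

theorem main_S7488 [IsFinite G.s] [Flat G.s] [LocallyOfFinitePresentation G.s] [IsFinite G.t]
    [Flat G.t] [LocallyOfFinitePresentation G.t] [Mono G.j] :
    ∃! m : Spec (CommRingCat.of G.invariants) ⟶ S, ∃ h : G.toQuot ≫ m = G.pU,
      QuotSh.IsQuotient Scheme.fppfPrecoverage
        (Over.homMk G.s G.s_over : Over.mk G.pR ⟶ Over.mk G.pU)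
        (Over.homMk G.t G.t_over : Over.mk G.pR ⟶ Over.mk G.pU)
        (Over.homMk G.toQuot h : Over.mk G.pU ⟶ Over.mk m) := by
  obtain ⟨⟨hf1, hf2, hf3⟩, -⟩ := main_S1877 G
  haveI := hf1; haveI := hf2; haveI := hf3
  haveI := surjective_toQuot G
  have hpb := isPullback_toQuot G
  haveI : EffectiveEpi G.toQuot := inferInstance
  have hdesc : ∀ {Z : Scheme.{u}} (g₁ g₂ : Z ⟶ G.U), g₁ ≫ G.toQuot = g₂ ≫ G.toQuot →
      g₁ ≫ G.pU = g₂ ≫ G.pU := by
    intro Z g₁ g₂ h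
    have e1 : hpb.lift g₁ g₂ h ≫ G.s = g₁ := hpb.lift_fst _ _ _
    have e2 : hpb.lift g₁ g₂ h ≫ G.t = g₂ := hpb.lift_snd _ _ _
    calc g₁ ≫ G.pU = (hpb.lift g₁ g₂ h ≫ G.s) ≫ G.pU := by rw [e1]
      _ = (hpb.lift g₁ g₂ h ≫ G.t) ≫ G.pU := by
        rw [Category.assoc, Category.assoc, G.s_over, G.t_over]
      _ = g₂ ≫ G.pU := by rw [e2]
  let m := EffectiveEpi.desc G.toQuot G.pU hdesc
  have hm : G.toQuot ≫ m = G.pU := EffectiveEpi.fac G.toQuot G.pU hdesc
  refine ⟨m, ⟨hm, ?_⟩, ?_⟩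
  · have hkp : IsKernelPair (Over.homMk G.toQuot hm : Over.mk G.pU ⟶ Over.mk m)
        (Over.homMk G.s G.s_over : Over.mk G.pR ⟶ Over.mk G.pU)
        (Over.homMk G.t G.t_over : Over.mk G.pR ⟶ Over.mk G.pU) := by
      refine IsPullback.of_map (Over.forget S) ?_ ?_
      · ext
        simp only [Over.comp_left, Over.homMk_left]
        exact hpb.w
      · exact hpb
    refine Groth.Agent.H3.QuotShEff.isQuotient_of_isKernelPair_of_hasLocalLifts
      Scheme.fppfPrecoverage _ _ _ hkp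
      (Groth.Agent.H3.QuotShEff.hasLocalLifts_of_isLocallyTrivialFor _ _
        ⟨_, G.toQuot.singleton_mem_fppfPrecoverage, ?_⟩)
    rintro Z g ⟨⟩
    exact ⟨𝟙 _, Category.id_comp _⟩
  · rintro m' ⟨h', -⟩
    haveI : Epi G.toQuot := inferInstance
    rw [← cancel_epi G.toQuot, h', hm]

end Groth.Agent.H4.GQ15
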