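import Mathlib

set_option autoImplicit false
universe u
open Polynomial Matrix

namespace Groth.Agent.H4.GQ16

section RankPoly

variable {A : Type u} [CommRing A] {n : ℕ}

/-- the rank polynomial `det(1 - (1 - X) π)` of an idempotent matrix -/
noncomputable def rankPoly (π : Matrix (Fin n) (Fin n) A) : A[X] :=
  Matrix.det (1 - (1 - X : A[X]) • π.map C)

theorem map_rankPoly {R : Type u} [CommRing R] (F : A[X] →+* R) (g : A →+* R)
    (hF : ∀ a, F (C a) = g a) (π : Matrix (Fin n) (Fin n) A) :
    F (rankPoly π) = Matrix.det (1 - (1 - F X) • π.map g) := by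
  rw [rankPoly, RingHom.map_det]
  congr 1
  ext i j
  by_cases h : i = j
  · simp [h, hF]
  · simp [h, hF]

theorem eval_rankPoly (π : Matrix (Fin n) (Fin n) A) (a : A) :
    (rankPoly π).eval a = Matrix.det (1 - (1 - a) • π) := by
  have := map_rankPoly (Polynomial.evalRingHom a) (RingHom.id A) (fun x => by simp) π
  simpa using this

theorem eval₂_rankPoly {R : Type u} [CommRing R] (g : A →+* R) (s : R)
    (π : Matrix (Fin n) (Fin n) A) :
    (rankPoly π).eval₂ g s = Matrix.det (1 - (1 - s) • π.map g) := by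
  have := map_rankPoly (Polynomial.eval₂RingHom g s) g (fun x => by simp) π
  simpa using this

theorem rankPoly_map {R : Type u} [CommRing R] (g : A →+* R) (π : Matrix (Fin n) (Fin n) A) :
    rankPoly (π.map g) = (rankPoly π).map g := by
  have := map_rankPoly (Polynomial.mapRingHom g) (C.comp g) (fun x => by simp) π
  rw [Polynomial.coe_mapRingHom, Polynomial.map_X] at this
  rw [this, rankPoly, Matrix.map_map]
  rfl

theorem rankPoly_comp (π : Matrix (Fin n) (Fin n) A) (q : A[X]) :
    (rankPoly π).comp q = Matrix.det (1 - (1 - q) • π.map C) := by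
  have := map_rankPoly (Polynomial.compRingHom q) C (fun x => by simp) π
  simpa using this

theorem idem_aux {R : Type u} [CommRing R] (p : Matrix (Fin n) (Fin n) R) (hp : p * p = p)
    (s t : R) : (1 - (1 - s) • p) * (1 - (1 - t) • p) = 1 - (1 - s * t) • p := by
  simp only [sub_mul, mul_sub, one_mul, mul_one, smul_mul_smul_comm, hp]
  module

theorem eval₂_mul_eval₂ {R : Type u} [CommRing R] (g : A →+* R) (π : Matrix (Fin n) (Fin n) A)
    (hπ : π * π = π) (s t : R) :
    (rankPoly π).eval₂ g s * (rankPoly π).eval₂ g t = (rankPoly π).eval₂ g (s * t) := by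
  rw [eval₂_rankPoly, eval₂_rankPoly, eval₂_rankPoly, ← Matrix.det_mul, idem_aux]
  rw [← Matrix.map_mul, hπ]

theorem eval_mul_coeff (π : Matrix (Fin n) (Fin n) A) (hπ : π * π = π) (a : A) (d : ℕ) :
    (rankPoly π).eval a * (rankPoly π).coeff d = (rankPoly π).coeff d * a ^ d := by
  have h := eval₂_mul_eval₂ (C : A →+* A[X]) π hπ (C a) X
  rw [Polynomial.eval₂_at_apply, Polynomial.eval₂_C_X] at h
  have h2 : (rankPoly π).eval₂ C (C a * X) = (rankPoly π).comp (C a * X) := rfl
  rw [h2] at h
  have := congrArg (fun p => Polynomial.coeff p d) h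
  simpa using this

theorem coeff_mul_coeff (π : Matrix (Fin n) (Fin n) A) (hπ : π * π = π) (i d : ℕ) :
    (rankPoly π).coeff i * (rankPoly π).coeff d = if i = d then (rankPoly π).coeff d else 0 := by
  have hπ' : (π.map (C : A →+* A[X])) * (π.map (C : A →+* A[X])) = π.map (C : A →+* A[X]) := by
    rw [← Matrix.map_mul, hπ]
  have h := eval_mul_coeff (π.map (C : A →+* A[X])) hπ' X d
  rw [rankPoly_map, Polynomial.eval_map, Polynomial.eval₂_C_X, Polynomial.coeff_map] at h
  have := congrArg (fun p => Polynomial.coeff p i) h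
  simp only [Polynomial.coeff_mul_C, Polynomial.coeff_C_mul_X_pow] at this
  exact this

theorem natDegree_rankPoly_le (π : Matrix (Fin n) (Fin n) A) : (rankPoly π).natDegree ≤ n := by
  have h : (1 - (1 - X : A[X]) • π.map C : Matrix (Fin n) (Fin n) A[X]) =
      (X : A[X]) • π.map C + (1 - π).map C := by
    refine Matrix.ext fun i j => ?_
    by_cases h : i = j
    · simp [h]; ring
    · simp [h]; ring
  rw [rankPoly, h]
  have := Polynomial.natDegree_det_X_add_C_le π (1 - π)
  simpa using this

theorem sum_coeff_rankPoly (π : Matrix (Fin n) (Fin n) A) :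
    ∑ d ∈ Finset.range (n + 1), (rankPoly π).coeff d = 1 := by
  have h1 := Polynomial.eval_eq_sum_range' (p := rankPoly π) (n := n + 1)
    (Nat.lt_succ_of_le (natDegree_rankPoly_le π)) 1
  rw [eval_rankPoly] at h1
  simpa using h1.symm

theorem rankPoly_comp_eq_sum (π : Matrix (Fin n) (Fin n) A) (q : A[X]) :
    (rankPoly π).comp q = ∑ d ∈ Finset.range (n + 1), C ((rankPoly π).coeff d) * q ^ d := by
  conv_lhs => rw [Polynomial.as_sum_range_C_mul_X_pow' (rankPoly π)
    (Nat.lt_succ_of_le (natDegree_rankPoly_le π))]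
  simp [Polynomial.sum_comp]

theorem charpolyRev_smul (π : Matrix (Fin n) (Fin n) A) (a : A) :
    Matrix.charpolyRev (a • π) = (rankPoly π).comp (1 - C a * X) := by
  rw [rankPoly_comp, Matrix.charpolyRev]
  congr 1
  refine Matrix.ext fun i j => ?_
  simp
  ring

theorem reflect_charpoly (M : Matrix (Fin n) (Fin n) A) :
    Polynomial.reflect n M.charpoly = M.charpolyRev := by
  nontriviality A
  rw [← Matrix.reverse_charpoly, Polynomial.reverse, Matrix.charpoly_natDegree_eq_dim,
    Fintype.card_fin]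

theorem reflect_charpoly_smul (π : Matrix (Fin n) (Fin n) A) (a : A) :
    Polynomial.reflect n (a • π).charpoly =
      ∑ d ∈ Finset.range (n + 1), C ((rankPoly π).coeff d) * (1 - C a * X) ^ d := by
  rw [reflect_charpoly, charpolyRev_smul, rankPoly_comp_eq_sum]

end RankPoly

section Pure

variable {S : Type u} [CommRing S]

theorem reflect_one_sub (f : S) : Polynomial.reflect 1 (1 - C f * X : S[X]) = X - C f := by
  have h1 : (1 : S[X]) = C 1 := by simp
  have h2 : (C f * X : S[X]) = C f * X ^ 1 := by simp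
  rw [Polynomial.reflect_sub, h1, Polynomial.reflect_C, h2, Polynomial.reflect_C_mul_X_pow,
    Polynomial.revAt_le le_rfl]
  simp

theorem reflect_pow_linear (p : S[X]) (hp : p.natDegree ≤ 1) (d : ℕ) :
    Polynomial.reflect d (p ^ d) = (Polynomial.reflect 1 p) ^ d := by
  induction d with
  | zero =>
    have h1 : (1 : S[X]) = C 1 := by simp
    rw [pow_zero, pow_zero, h1, Polynomial.reflect_C]
    simp
  | succ d ih =>
    rw [pow_succ, pow_succ, ← ih]
    refine Polynomial.reflect_mul _ _ ?_ hp
    have := Polynomial.natDegree_pow_le_of_le d hp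
    simpa using this

theorem mul_pow_congr {R : Type u} [CommRing R] (E Y Z : R) (h : E * Y = E * Z) (k : ℕ) :
    E * Y ^ k = E * Z ^ k := by
  induction k with
  | zero => simp
  | succ k ih =>
    rw [pow_succ, pow_succ, ← mul_assoc, ih, mul_assoc, mul_comm (Z ^ k), ← mul_assoc, h]
    ring

theorem pure_power (K : Subring S[X]) (hK : ∀ d p, p ∈ K → Polynomial.reflect d p ∈ K)
    (e : ℕ → S) (n : ℕ) (he : ∀ i j, e i * e j = if i = j then e j else 0)
    (hsum : ∑ d ∈ Finset.range (n + 1), e d = 1) (h0 : e 0 = 0) (heK : ∀ d, C (e d) ∈ K) (f : S)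
    (hR : ∑ d ∈ Finset.range (n + 1), C (e d) * (1 - C f * X) ^ d ∈ K) :
    (X - C f) ^ n.factorial ∈ K := by
  classical
  set R := ∑ d ∈ Finset.range (n + 1), C (e d) * (1 - C f * X) ^ d with hRdef
  -- general orthogonality computation
  have horth : ∀ (y : ℕ → S[X]) (d : ℕ), d ∈ Finset.range (n + 1) →
      C (e d) * ∑ d' ∈ Finset.range (n + 1), C (e d') * y d' = C (e d) * y d := by
    intro y d hd
    rw [Finset.mul_sum, Finset.sum_eq_single d]
    · rw [← mul_assoc, ← C_mul, he d d, if_pos rfl]
    · intro b _ hb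
      rw [← mul_assoc, ← C_mul, he d b, if_neg (Ne.symm hb), C_0, zero_mul]
    · intro h; exact absurd hd h
  set Ψ := ∑ d ∈ Finset.range (n + 1), Polynomial.reflect d (C (e d) * R) with hΨdef
  have hΨK : Ψ ∈ K := Subring.sum_mem _ fun d _ => hK d _ (K.mul_mem (heK d) hR)
  have hΨ : Ψ = ∑ d ∈ Finset.range (n + 1), C (e d) * (X - C f) ^ d := by
    rw [hΨdef]
    refine Finset.sum_congr rfl fun d hd => ?_
    rw [hRdef, horth (fun d' => (1 - C f * X) ^ d') d hd, Polynomial.reflect_C_mul,
      reflect_pow_linear, reflect_one_sub]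
    have h1 : (1 - C f * X : S[X]).natDegree ≤ 1 := by
      have : (1 - C f * X : S[X]) = C (-f) * X + C 1 := by simp; ring
      rw [this]
      exact Polynomial.natDegree_linear_le
    exact h1
  have hterm : ∀ d ∈ Finset.range (n + 1),
      C (e d) * Ψ ^ (n.factorial / d) = C (e d) * (X - C f) ^ n.factorial := by
    intro d hd
    by_cases hd0 : d = 0
    · subst hd0
      rw [h0, C_0, zero_mul, zero_mul]
    · have hdn : d ≤ n := Nat.lt_succ_iff.mp (Finset.mem_range.mp hd)
      have hdvd : d ∣ n.factorial := Nat.dvd_factorial (Nat.pos_of_ne_zero hd0) hdn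
      have h1 : C (e d) * Ψ = C (e d) * (X - C f) ^ d := by
        rw [hΨ, horth (fun d' => (X - C f) ^ d') d hd]
      rw [mul_pow_congr _ _ _ h1, ← pow_mul, Nat.mul_div_cancel' hdvd]
  have hfin : ∑ d ∈ Finset.range (n + 1), C (e d) * Ψ ^ (n.factorial / d) =
      (X - C f) ^ n.factorial := by
    rw [Finset.sum_congr rfl hterm, ← Finset.sum_mul, ← map_sum, hsum, C_1, one_mul]
  rw [← hfin]
  exact Subring.sum_mem _ fun d _ => K.mul_mem (heK d) (K.pow_mem hΨK _)

end Pure

end Groth.Agent.H4.GQ16
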