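import Mathlib
import Groth.Agent.H4.GQ8
import Groth.Agent.H4.GQ16

set_option autoImplicit false
universe u
open TensorProduct Polynomial CategoryTheory CategoryTheory.Limits

namespace Groth.Agent.H4.GQ17
open Groth.Agent.H4.GQ1 Groth.Agent.H4.GQ2 Groth.Agent.H4.GQ5 Groth.Agent.H4.GQ6
  Groth.Agent.H4.GQ7 Groth.Agent.H4.GQ8 Groth.Agent.H4.GQ16

section Rk

variable {A : Type u} [CommRing A] {P : Type u} [AddCommGroup P] [Module A P]

/-- the projector matrix of a complement -/
noncomputable def pmat (c : Compl A P) : Matrix (Fin c.n) (Fin c.n) A :=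
  LinearMap.toMatrix' (c.endo 1)

theorem pmat_idem (c : Compl A P) : pmat c * pmat c = pmat c := by
  rw [pmat, ← LinearMap.toMatrix'_comp, ← c.endo_comp]
  rfl

/-- the rank polynomial of a complement -/
noncomputable def rk (c : Compl A P) : A[X] := rankPoly (pmat c)

theorem cpoly_smul_one (c : Compl A P) (a : A) :
    c.cpoly (a • (1 : Module.End A P)) = (a • pmat c).charpoly := by
  rw [Compl.cpoly, c.endo_smul, ← LinearMap.charpoly_toMatrix _ (Pi.basisFun A (Fin c.n)),
    LinearMap.toMatrix_eq_toMatrix', map_smul]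
  rfl

theorem reflect_cpoly_smul_one (c : Compl A P) (a : A) :
    Polynomial.reflect c.n (c.cpoly (a • (1 : Module.End A P))) =
      ∑ d ∈ Finset.range (c.n + 1), C ((rk c).coeff d) * (1 - C a * X) ^ d := by
  rw [cpoly_smul_one, reflect_charpoly_smul]
  rfl

theorem rk_eq (c : Compl A P) :
    rk c = (Polynomial.reflect c.n (c.cpoly (1 : Module.End A P))).comp (1 - X) := by
  have h1 : c.cpoly (1 : Module.End A P) = c.cpoly ((1 : A) • (1 : Module.End A P)) := by
    rw [one_smul]
  rw [h1, cpoly_smul_one, reflect_charpoly, charpolyRev_smul, Polynomial.comp_assoc]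
  have : ((1 : A[X]) - C 1 * X).comp (1 - X) = X := by simp
  rw [this, Polynomial.comp_X]
  rfl

theorem rk_coeff_mul (c : Compl A P) (i d : ℕ) :
    (rk c).coeff i * (rk c).coeff d = if i = d then (rk c).coeff d else 0 :=
  coeff_mul_coeff (pmat c) (pmat_idem c) i d

theorem rk_sum_coeff (c : Compl A P) : ∑ d ∈ Finset.range (c.n + 1), (rk c).coeff d = 1 :=
  sum_coeff_rankPoly (pmat c)

theorem rk_coeff_zero_eq (c : Compl A P) : (rk c).coeff 0 = c.nrm (0 : P →ₗ[A] P) := by
  rw [Polynomial.coeff_zero_eq_eval_zero, rk, eval_rankPoly, Compl.nrm, ← LinearMap.det_toMatrix',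
    c.dmap_eq]
  congr 1
  have : (0 : P →ₗ[A] P) - 1 = (-1 : A) • (1 : Module.End A P) := by simp
  rw [this, c.endo_smul, map_add, map_smul]
  simp [pmat]
  abel

end Rk

section Square

variable {A A' P P' : Type u} [CommRing A] [CommRing A'] [CommRing P] [CommRing P']
  (g : A →+* A') (σ : A →+* P) (σ' : A' →+* P') (g' : P →+* P')

theorem rk_of_isPushout
    (hpo : IsPushout (CommRingCat.ofHom g) (CommRingCat.ofHom σ) (CommRingCat.ofHom σ')
      (CommRingCat.ofHom g')) :
    letI := σ.toAlgebra; letI := σ'.toAlgebra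
    ∀ (c : Compl A P) (c' : Compl A' P') (_ : c'.n = c.n), rk c' = (rk c).map g := by
  letI := σ.toAlgebra; letI := σ'.toAlgebra
  intro c c' hn
  have h := cpoly_of_isPushout g σ σ' g' hpo c c' hn 1
  rw [map_one, map_one, map_one] at h
  rw [rk_eq, rk_eq, h, hn, Polynomial.reflect_map, Polynomial.map_comp]
  simp

end Square

section RGs

variable {A B Q : Type u} [CommRing A] [CommRing B] [CommRing Q] (r : RG A B Q)

theorem rk_map_eq : letI := r.σ.toAlgebra
    ∀ c : Compl A B, (rk c).map r.σ = (rk c).map r.τ := by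
  letI := r.σ.toAlgebra
  intro c
  obtain ⟨c', hc'⟩ := exists_compl_of_isPushout r.σ r.σ r.π₁ r.γ r.po2 c
  have h2 := rk_of_isPushout r.σ r.σ r.π₁ r.γ r.po2 c c' hc'
  have h1 := rk_of_isPushout r.τ r.σ r.π₁ r.π₀ r.po1 c c' hc'
  exact h2.symm.trans h1

theorem rk_coeff_mem : letI := r.σ.toAlgebra
    ∀ (c : Compl A B) (d : ℕ), (rk c).coeff d ∈ r.C := by
  letI := r.σ.toAlgebra
  intro c d
  have := congrArg (fun q => Polynomial.coeff q d) (rk_map_eq r c)
  refine r.mem_C.mpr ?_
  simpa [Polynomial.coeff_map] using this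

theorem rk_coeff_zero : letI := r.σ.toAlgebra
    ∀ c : Compl A B, (rk c).coeff 0 = 0 := by
  letI := r.σ.toAlgebra
  intro c
  rw [rk_coeff_zero_eq]
  obtain ⟨b, hb⟩ := exists_mul_eq_nrm c (0 : B)
  rw [zero_mul, map_zero] at hb
  have := congrArg r.ε hb
  rw [map_zero] at this
  have h2 : r.ε (algebraMap A B (c.nrm (0 : B →ₗ[A] B))) = c.nrm (0 : B →ₗ[A] B) := r.εσ _
  rw [h2] at this
  exact this.symm

end RGs

end Groth.Agent.H4.GQ17
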