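import Mathlib
import Groth.Agent.H4.GQ17

set_option autoImplicit false
universe u
open TensorProduct Polynomial CategoryTheory CategoryTheory.Limits

namespace Groth.Agent.H4.GQ18
open Groth.Agent.H4.GQ1 Groth.Agent.H4.GQ2 Groth.Agent.H4.GQ5 Groth.Agent.H4.GQ6
  Groth.Agent.H4.GQ7 Groth.Agent.H4.GQ8 Groth.Agent.H4.GQ16 Groth.Agent.H4.GQ17

section BCM

variable (C₀ : Type u) [CommRing C₀] {D : Type u} (C' : Type u) [CommRing D] [CommRing C']
  [Algebra C₀ D] [Algebra C₀ C'] (φ : D →ₐ[C₀] C')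
variable {X Y : Type u} [CommRing X] [CommRing Y] [Algebra C₀ X] [Algebra C₀ Y]

/-- change of the base ring in a tensor product -/
noncomputable def bcm (X : Type u) [CommRing X] [Algebra C₀ X] : D ⊗[C₀] X →+* C' ⊗[C₀] X :=
  (Algebra.TensorProduct.map φ (AlgHom.id C₀ X)).toRingHom

omit [CommRing Y] [Algebra C₀ Y] in
@[simp] theorem bcm_tmul (d : D) (x : X) : bcm C₀ C' φ X (d ⊗ₜ[C₀] x) = φ d ⊗ₜ[C₀] x := by
  simp [bcm]

omit [CommRing Y] [Algebra C₀ Y] in
theorem bcm_surjective (hφ : Function.Surjective φ) : Function.Surjective (bcm C₀ C' φ X) := by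
  intro z
  induction z using TensorProduct.induction_on with
  | zero => exact ⟨0, map_zero _⟩
  | add x y hx hy =>
    obtain ⟨x', rfl⟩ := hx
    obtain ⟨y', rfl⟩ := hy
    exact ⟨x' + y', map_add _ _ _⟩
  | tmul c a =>
    obtain ⟨d, rfl⟩ := hφ c
    exact ⟨d ⊗ₜ a, bcm_tmul C₀ C' φ d a⟩

theorem bcm_bc (f : X →+* Y) (hf : ∀ c, f (algebraMap C₀ X c) = algebraMap C₀ Y c)
    (z : D ⊗[C₀] X) :
    bcm C₀ C' φ Y (bc C₀ D f hf z) = bc C₀ C' f hf (bcm C₀ C' φ X z) := by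
  induction z using TensorProduct.induction_on with
  | zero => simp
  | add x y hx hy => simp only [map_add, hx, hy]
  | tmul c a => simp

omit [CommRing Y] [Algebra C₀ Y] in
theorem bcm_algebraMap (d : D) :
    bcm C₀ C' φ X (algebraMap D (D ⊗[C₀] X) d) = algebraMap C' (C' ⊗[C₀] X) (φ d) := by
  rw [Algebra.TensorProduct.algebraMap_apply, Algebra.TensorProduct.algebraMap_apply]
  simp

theorem isPushout_bcm (f : X →+* Y) (hf : ∀ c, f (algebraMap C₀ X c) = algebraMap C₀ Y c) :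
    IsPushout (CommRingCat.ofHom (bc C₀ D f hf)) (CommRingCat.ofHom (bcm C₀ C' φ X))
      (CommRingCat.ofHom (bcm C₀ C' φ Y)) (CommRingCat.ofHom (bc C₀ C' f hf)) := by
  have hD := isPushout_bc C₀ D f hf
  have hC := isPushout_bc C₀ C' f hf
  have e1 : CommRingCat.ofHom (inclR C₀ C' X) =
      CommRingCat.ofHom (inclR C₀ D X) ≫ CommRingCat.ofHom (bcm C₀ C' φ X) := by
    ext x; simp [inclR]
  have e2 : CommRingCat.ofHom (inclR C₀ C' Y) =
      CommRingCat.ofHom (inclR C₀ D Y) ≫ CommRingCat.ofHom (bcm C₀ C' φ Y) := by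
    ext x; simp [inclR]
  rw [e1, e2] at hC
  refine IsPushout.of_top hC ?_ hD
  refine CommRingCat.hom_ext (RingHom.ext fun z => ?_)
  exact bcm_bc C₀ C' φ f hf z

end BCM

section Main

variable {A B Q : Type u} [CommRing A] [CommRing B] [CommRing Q]
variable {r : RG A B Q} {C₀ : Type u} [CommRing C₀] [Algebra C₀ A] [Algebra C₀ B] [Algebra C₀ Q]
variable (C' : Type u) [CommRing C'] [Algebra C₀ C']

theorem inclR_algebraMap (x : C₀) :
    inclR C₀ C' A (algebraMap C₀ A x) = algebraMap C' (C' ⊗[C₀] A) (algebraMap C₀ C' x) := by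
  have h1 : (1 : C') ⊗ₜ[C₀] (algebraMap C₀ A x) = x • ((1 : C') ⊗ₜ[C₀] (1 : A)) := by
    rw [Algebra.algebraMap_eq_smul_one, TensorProduct.tmul_smul]
  have h2 : (algebraMap C₀ C' x) ⊗ₜ[C₀] (1 : A) = x • ((1 : C') ⊗ₜ[C₀] (1 : A)) := by
    rw [Algebra.algebraMap_eq_smul_one, TensorProduct.smul_tmul']
  rw [inclR_apply, h1, Algebra.TensorProduct.algebraMap_apply, ← h2]
  rfl

/-- (a): invariant functions of a base change have a pure power polynomial over the base -/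
theorem pure_power_rg (h : IsOver r C₀) (hI : IsInv r C₀)
    (hfin : letI := r.σ.toAlgebra; Module.Finite A B)
    (hproj : letI := r.σ.toAlgebra; Module.Projective A B)
    (f : C' ⊗[C₀] A) (hf : (rgbc C' h).σ f = (rgbc C' h).τ f) :
    ∃ (n : ℕ) (P : C'[X]), 0 < n ∧
      P.map (algebraMap C' (C' ⊗[C₀] A)) = (X - C f) ^ n := by
  classical
  letI iσ := r.σ.toAlgebra
  obtain ⟨c⟩ := exists_compl (A := A) (P := B)
  let D := MvPolynomial C' C₀
  let φ : D →ₐ[C₀] C' := MvPolynomial.aeval id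
  have hφ : Function.Surjective φ := fun x => ⟨MvPolynomial.X x, MvPolynomial.aeval_X _ _⟩
  have hID : IsInv (rgbc D h) D := isInv_rgbc D h hI
  letI iσD : Algebra (D ⊗[C₀] A) (D ⊗[C₀] B) := (rgbc D h).σ.toAlgebra
  letI iσ' : Algebra (C' ⊗[C₀] A) (C' ⊗[C₀] B) := (rgbc C' h).σ.toAlgebra
  obtain ⟨cD, hcD⟩ : ∃ cD : Compl (D ⊗[C₀] A) (D ⊗[C₀] B), cD.n = c.n :=
    exists_compl_of_isPushout (inclR C₀ D A) r.σ (bc C₀ D r.σ h.hσ) (inclR C₀ D B)
      (isPushout_bc C₀ D r.σ h.hσ).flip c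
  obtain ⟨c', hc'⟩ : ∃ c' : Compl (C' ⊗[C₀] A) (C' ⊗[C₀] B), c'.n = c.n :=
    exists_compl_of_isPushout (inclR C₀ C' A) r.σ (bc C₀ C' r.σ h.hσ) (inclR C₀ C' B)
      (isPushout_bc C₀ C' r.σ h.hσ).flip c
  obtain ⟨g, hg⟩ := bcm_surjective C₀ C' φ (X := A) hφ f
  -- the characteristic polynomial upstairs
  set χD := cD.cpoly (Algebra.lmul (D ⊗[C₀] A) (D ⊗[C₀] B) ((rgbc D h).τ g)) with hχDdef
  have hχD : ∀ k, χD.coeff k ∈ Set.range (algebraMap D (D ⊗[C₀] A)) := fun k =>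
    hID.surj _ ((rgbc D h).mem_C.mp ((rgbc D h).coeff_mem cD g k))
  obtain ⟨PD, hPD⟩ := (Polynomial.mem_lifts _).mp ((Polynomial.lifts_iff_coeff_lifts _).mpr hχD)
  have sq := (isPushout_bcm C₀ C' φ r.σ h.hσ).flip
  have h7 : c'.cpoly (Algebra.lmul (C' ⊗[C₀] A) (C' ⊗[C₀] B)
      (bcm C₀ C' φ B ((rgbc D h).τ g))) = χD.map (bcm C₀ C' φ A) :=
    cpoly_of_isPushout (bcm C₀ C' φ A) (bc C₀ D r.σ h.hσ) (bc C₀ C' r.σ h.hσ) (bcm C₀ C' φ B) sq
      cD c' (hc'.trans hcD.symm) ((rgbc D h).τ g)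
  have h8 : bcm C₀ C' φ B ((rgbc D h).τ g) = algebraMap (C' ⊗[C₀] A) (C' ⊗[C₀] B) f := by
    change bcm C₀ C' φ B (bc C₀ D r.τ h.hτ g) = (rgbc C' h).σ f
    rw [bcm_bc, hg, hf]
    rfl
  have hl : Algebra.lmul (C' ⊗[C₀] A) (C' ⊗[C₀] B) (algebraMap (C' ⊗[C₀] A) (C' ⊗[C₀] B) f) =
      f • (1 : Module.End (C' ⊗[C₀] A) (C' ⊗[C₀] B)) :=
    LinearMap.ext fun x => by simp [Algebra.smul_def]
  rw [h8, hl, ← hPD, Polynomial.map_map] at h7
  have hcomp : (bcm C₀ C' φ A).comp (algebraMap D (D ⊗[C₀] A)) =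
      (algebraMap C' (C' ⊗[C₀] A)).comp (φ : D →+* C') :=
    RingHom.ext fun d => bcm_algebraMap C₀ C' φ d
  rw [hcomp, ← Polynomial.map_map] at h7
  -- the idempotents
  have hrk : rk c' = (rk c).map (inclR C₀ C' A) :=
    rk_of_isPushout (inclR C₀ C' A) r.σ (bc C₀ C' r.σ h.hσ) (inclR C₀ C' B)
      (isPushout_bc C₀ C' r.σ h.hσ).flip c c' hc'
  let K : Subring (C' ⊗[C₀] A)[X] :=
    (Polynomial.mapRingHom (algebraMap C' (C' ⊗[C₀] A))).range
  have hK : ∀ d p, p ∈ K → Polynomial.reflect d p ∈ K := by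
    rintro d p ⟨q, rfl⟩
    exact ⟨Polynomial.reflect d q, (Polynomial.reflect_map _ _ _).symm⟩
  have heK : ∀ d, C ((rk c').coeff d) ∈ K := by
    intro d
    obtain ⟨x, hx⟩ := hI.surj _ (r.mem_C.mp (rk_coeff_mem r c d))
    refine ⟨C (algebraMap C₀ C' x), ?_⟩
    change Polynomial.map _ (C (algebraMap C₀ C' x)) = _
    rw [Polynomial.map_C, hrk, Polynomial.coeff_map, ← hx, inclR_algebraMap]
  have hR : ∑ d ∈ Finset.range (c'.n + 1), C ((rk c').coeff d) * (1 - C f * X) ^ d ∈ K := by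
    rw [← reflect_cpoly_smul_one, h7]
    exact hK _ _ ⟨PD.map (φ : D →+* C'), rfl⟩
  have h0 : (rk c').coeff 0 = 0 := rk_coeff_zero (rgbc C' h) c'
  obtain ⟨P, hP⟩ := pure_power K hK (fun d => (rk c').coeff d) c'.n (rk_coeff_mul c')
    (rk_sum_coeff c') h0 heK f hR
  exact ⟨c'.n.factorial, P, Nat.factorial_pos _, hP⟩

/-- surjectivity on spectra is stable under base change -/
theorem comap_surjective_tensor (R S T : Type u) [CommRing R] [CommRing S] [CommRing T]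
    [Algebra R S] [Algebra R T]
    (h : Function.Surjective (PrimeSpectrum.comap (algebraMap R T))) :
    Function.Surjective (PrimeSpectrum.comap (algebraMap S (S ⊗[R] T))) := by
  have hpo := CommRingCat.isPushout_tensorProduct R S T
  have hpb := AlgebraicGeometry.isPullback_SpecMap_of_isPushout _ _ _ _ hpo
  haveI h1 : AlgebraicGeometry.Surjective
      (AlgebraicGeometry.Spec.map (CommRingCat.ofHom (algebraMap R T))) := ⟨h⟩
  have h2 : AlgebraicGeometry.Surjective (AlgebraicGeometry.Spec.map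
      (CommRingCat.ofHom (S := S ⊗[R] T) Algebra.TensorProduct.includeLeftRingHom)) :=
    MorphismProperty.of_isPullback (P := @AlgebraicGeometry.Surjective) hpb.flip h1
  exact h2.surj

/-- (b): the kernel of `C' → C' ⊗ A` consists of nilpotents -/
theorem ker_nilpotent_rg (h : IsOver r C₀) (hI : IsInv r C₀)
    (hfin : letI := r.σ.toAlgebra; Module.Finite A B)
    (hproj : letI := r.σ.toAlgebra; Module.Projective A B)
    (x : C') (hx : algebraMap C' (C' ⊗[C₀] A) x = 0) : IsNilpotent x := by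
  haveI : Algebra.IsIntegral C₀ A := hI.isIntegral h hfin hproj
  haveI : FaithfulSMul C₀ A := (faithfulSMul_iff_algebraMap_injective C₀ A).mpr hI.inj
  have hsurj := comap_surjective_tensor C₀ C' A (Algebra.IsIntegral.comap_surjective C₀ A)
  rw [nilpotent_iff_mem_prime]
  intro 𝔮 h𝔮
  obtain ⟨q, hq⟩ := hsurj ⟨𝔮, h𝔮⟩
  have : x ∈ (PrimeSpectrum.comap (algebraMap C' (C' ⊗[C₀] A)) q).asIdeal := by
    change algebraMap C' (C' ⊗[C₀] A) x ∈ q.asIdeal
    rw [hx]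
    exact q.asIdeal.zero_mem
  rw [hq] at this
  exact this

/-- the statement of S7487 at ring level, with the base change written on the right -/
theorem main_right (h : IsOver r C₀) (hI : IsInv r C₀)
    (hfin : letI := r.σ.toAlgebra; Module.Finite A B)
    (hproj : letI := r.σ.toAlgebra; Module.Projective A B)
    (sT tT : A ⊗[C₀] C' →ₐ[C₀] B ⊗[C₀] C')
    (hs : ∀ (a : A) (c : C'), sT (a ⊗ₜ c) = r.σ a ⊗ₜ c)
    (ht : ∀ (a : A) (c : C'), tT (a ⊗ₜ c) = r.τ a ⊗ₜ c) :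
    (∀ f : A ⊗[C₀] C', sT f = tT f → ∃ (n : ℕ) (P : Polynomial C'), 0 < n ∧
      Polynomial.map (Algebra.TensorProduct.includeRight : C' →ₐ[C₀] A ⊗[C₀] C').toRingHom P =
        (Polynomial.X - Polynomial.C f) ^ n) ∧
    (∀ c : C', (Algebra.TensorProduct.includeRight : C' →ₐ[C₀] A ⊗[C₀] C') c = 0 →
      IsNilpotent c) ∧
    (Module.Flat C₀ C' →
      Function.Injective (Algebra.TensorProduct.includeRight : C' →ₐ[C₀] A ⊗[C₀] C') ∧
      ∀ f : A ⊗[C₀] C', sT f = tT f →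
        f ∈ Set.range (Algebra.TensorProduct.includeRight : C' →ₐ[C₀] A ⊗[C₀] C')) := by
  let eA : A ⊗[C₀] C' ≃ₐ[C₀] C' ⊗[C₀] A := Algebra.TensorProduct.comm C₀ A C'
  let eB : B ⊗[C₀] C' ≃ₐ[C₀] C' ⊗[C₀] B := Algebra.TensorProduct.comm C₀ B C'
  have heA : ∀ a c, eA (a ⊗ₜ c) = c ⊗ₜ a := fun a c => rfl
  have heB : ∀ a c, eB (a ⊗ₜ c) = c ⊗ₜ a := fun a c => rfl
  have hσ : ∀ f, eB (sT f) = (rgbc C' h).σ (eA f) := by
    intro f
    induction f using TensorProduct.induction_on with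
    | zero => simp
    | add x y hx hy => simp only [map_add, hx, hy]
    | tmul a c =>
      rw [hs, heA, heB]
      change _ = bc C₀ C' r.σ h.hσ (c ⊗ₜ a)
      rw [bc_tmul]
  have hτ : ∀ f, eB (tT f) = (rgbc C' h).τ (eA f) := by
    intro f
    induction f using TensorProduct.induction_on with
    | zero => simp
    | add x y hx hy => simp only [map_add, hx, hy]
    | tmul a c =>
      rw [ht, heA, heB]
      change _ = bc C₀ C' r.τ h.hτ (c ⊗ₜ a)
      rw [bc_tmul]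
  have hinv : ∀ f, sT f = tT f → (rgbc C' h).σ (eA f) = (rgbc C' h).τ (eA f) := by
    intro f hf
    rw [← hσ, ← hτ, hf]
  have hincl : ∀ c : C', eA ((Algebra.TensorProduct.includeRight : C' →ₐ[C₀] A ⊗[C₀] C') c) =
      algebraMap C' (C' ⊗[C₀] A) c := by
    intro c
    rw [Algebra.TensorProduct.includeRight_apply, heA, Algebra.TensorProduct.algebraMap_apply]
    rfl
  have hincl' : ∀ c : C', (Algebra.TensorProduct.includeRight : C' →ₐ[C₀] A ⊗[C₀] C') c =
      eA.symm (algebraMap C' (C' ⊗[C₀] A) c) := by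
    intro c
    rw [← hincl, AlgEquiv.symm_apply_apply]
  refine ⟨?_, ?_, ?_⟩
  · intro f hf
    obtain ⟨n, P, hn, hP⟩ := pure_power_rg C' h hI hfin hproj (eA f) (hinv f hf)
    refine ⟨n, P, hn, ?_⟩
    have h1 : (Algebra.TensorProduct.includeRight : C' →ₐ[C₀] A ⊗[C₀] C').toRingHom =
        (eA.symm : C' ⊗[C₀] A →+* A ⊗[C₀] C').comp (algebraMap C' (C' ⊗[C₀] A)) :=
      RingHom.ext fun c => hincl' c
    rw [h1, ← Polynomial.map_map, hP]
    simp
  · intro c hc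
    refine ker_nilpotent_rg C' h hI hfin hproj c ?_
    rw [← hincl, hc, map_zero]
  · intro hflat
    haveI := hflat
    have hI' : IsInv (rgbc C' h) C' := isInv_rgbc C' h hI
    constructor
    · intro c₁ c₂ hc
      apply hI'.inj
      rw [← hincl, ← hincl, hc]
    · intro f hf
      obtain ⟨c, hc⟩ := hI'.surj _ (hinv f hf)
      refine ⟨c, ?_⟩
      rw [hincl', hc, AlgEquiv.symm_apply_apply]

end Main

end Groth.Agent.H4.GQ18
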