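import Mathlib
import Groth.Prelude.Def_Grpd
import Groth.Agent.H4.GQ13
import Groth.Agent.H4.GQ4
import Groth.Agent.H4.GQ18

set_option autoImplicit false
universe u
open CategoryTheory CategoryTheory.Limits AlgebraicGeometry TensorProduct
open Grpd

namespace Groth.Agent.H4.GQ19
open Groth.Agent.H4.GQ2 Groth.Agent.H4.GQ4 Groth.Agent.H4.GQ7 Groth.Agent.H4.GQ8 Groth.Agent.H4.GQ13
  Groth.Agent.H4.GQ18

variable {S : Scheme.{u}} (G : Grpd.GroupoidScheme S) [IsAffine G.U] [IsAffine G.R]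

theorem hfin_toRG [IsFinite G.s] :
    letI := (toRG G).σ.toAlgebra; Module.Finite Γ(G.U, ⊤) Γ(G.R, ⊤) :=
  G.s.finite_appTop

theorem hproj_toRG [IsFinite G.s] [Flat G.s] [LocallyOfFinitePresentation G.s] :
    letI := (toRG G).σ.toAlgebra; Module.Projective Γ(G.U, ⊤) Γ(G.R, ⊤) := by
  show letI := G.s.appTop.hom.toAlgebra; Module.Projective Γ(G.U, ⊤) Γ(G.R, ⊤)
  letI := G.s.appTop.hom.toAlgebra
  haveI : Module.Finite Γ(G.U, ⊤) Γ(G.R, ⊤) := G.s.finite_appTop
  haveI : Module.Flat Γ(G.U, ⊤) Γ(G.R, ⊤) := G.s.flat_appTop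
  haveI : Algebra.FinitePresentation Γ(G.U, ⊤) Γ(G.R, ⊤) := G.s.finitePresentation_appTop
  haveI : Module.FinitePresentation Γ(G.U, ⊤) Γ(G.R, ⊤) :=
    Module.FinitePresentation.of_finite_of_finitePresentation _ _
  exact Module.Flat.projective_of_finitePresentation

theorem main_S7487 [IsFinite G.s] [Flat G.s] [LocallyOfFinitePresentation G.s] [IsFinite G.t]
    [Flat G.t] [LocallyOfFinitePresentation G.t] (C' : Type u) [CommRing C']
    [Algebra G.invariants C'] :
    letI : Algebra G.invariants Γ(G.R, ⊤) := (G.s.appTop.hom.comp G.invariants.subtype).toAlgebra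
    ∀ (sT tT : TensorProduct G.invariants Γ(G.U, ⊤) C' →ₐ[G.invariants]
        TensorProduct G.invariants Γ(G.R, ⊤) C'),
      (∀ (a : Γ(G.U, ⊤)) (c : C'), sT (a ⊗ₜ c) = G.s.appTop.hom a ⊗ₜ c) →
      (∀ (a : Γ(G.U, ⊤)) (c : C'), tT (a ⊗ₜ c) = G.t.appTop.hom a ⊗ₜ c) →
      (∀ f : TensorProduct G.invariants Γ(G.U, ⊤) C', sT f = tT f →
        ∃ (n : ℕ) (P : Polynomial C'), 0 < n ∧
          Polynomial.map (Algebra.TensorProduct.includeRight :
            C' →ₐ[G.invariants] TensorProduct G.invariants Γ(G.U, ⊤) C').toRingHom P =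
            (Polynomial.X - Polynomial.C f) ^ n) ∧
      (∀ c : C', (Algebra.TensorProduct.includeRight :
          C' →ₐ[G.invariants] TensorProduct G.invariants Γ(G.U, ⊤) C') c = 0 → IsNilpotent c) ∧
      (Module.Flat G.invariants C' →
        Function.Injective (Algebra.TensorProduct.includeRight :
          C' →ₐ[G.invariants] TensorProduct G.invariants Γ(G.U, ⊤) C') ∧
        ∀ f : TensorProduct G.invariants Γ(G.U, ⊤) C', sT f = tT f →
          f ∈ Set.range (Algebra.TensorProduct.includeRight :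
            C' →ₐ[G.invariants] TensorProduct G.invariants Γ(G.U, ⊤) C')) := by
  letI iC' : Algebra (toRG G).C C' := ‹Algebra G.invariants C'›
  letI iB : Algebra (toRG G).C Γ(G.R, ⊤) := algB (toRG G)
  letI iQ : Algebra (toRG G).C Γ(pullback G.s G.t, ⊤) := algQ (toRG G)
  intro sT tT hs ht
  exact main_right (r := toRG G) (C₀ := (toRG G).C) C' (isOver_C (toRG G)) (isInv_C (toRG G))
    (hfin_toRG G) (hproj_toRG G) sT tT hs ht

end Groth.Agent.H4.GQ19
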