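import Mathlib
import Groth.Agent.H4.GQ18

set_option autoImplicit false
universe u
open TensorProduct Polynomial CategoryTheory CategoryTheory.Limits

namespace Groth.Agent.H4.GQ20
open Groth.Agent.H4.GQ1 Groth.Agent.H4.GQ2 Groth.Agent.H4.GQ5 Groth.Agent.H4.GQ6
  Groth.Agent.H4.GQ7 Groth.Agent.H4.GQ8 Groth.Agent.H4.GQ16 Groth.Agent.H4.GQ17 Groth.Agent.H4.GQ18

section Pts

variable {k : Type u} [Field k]

theorem algHom_eq_of_ker_eq {T : Type u} [CommRing T] [Algebra k T] (χ₁ χ₂ : T →ₐ[k] k)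
    (h : RingHom.ker (χ₁ : T →+* k) = RingHom.ker (χ₂ : T →+* k)) : χ₁ = χ₂ := by
  refine AlgHom.ext fun a => ?_
  have h1 : a - algebraMap k T (χ₁ a) ∈ RingHom.ker (χ₁ : T →+* k) := by
    rw [RingHom.mem_ker]; simp
  rw [h, RingHom.mem_ker] at h1
  have h2 : χ₂ a - χ₁ a = 0 := by simpa using h1
  exact (sub_eq_zero.mp h2).symm

variable [IsAlgClosed k]

theorem exists_algHom_of_prime {T : Type u} [CommRing T] [Algebra k T] (q : Ideal T) [q.IsPrime]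
    (hint : ∀ b : T, IsIntegral k (Ideal.Quotient.mk q b)) :
    ∃ ρ : T →ₐ[k] k, RingHom.ker (ρ : T →+* k) = q := by
  haveI : Algebra.IsIntegral k (T ⧸ q) := ⟨fun x => by
    obtain ⟨b, rfl⟩ := Ideal.Quotient.mk_surjective x
    exact hint b⟩
  have hbij : Function.Bijective (Algebra.ofId k (T ⧸ q)) :=
    IsAlgClosed.algebraMap_bijective_of_isIntegral (k := k) (K := T ⧸ q)
  let e : k ≃ₐ[k] (T ⧸ q) := AlgEquiv.ofBijective (Algebra.ofId k (T ⧸ q)) hbij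
  refine ⟨(e.symm : (T ⧸ q) →ₐ[k] k).comp (Ideal.Quotient.mkₐ k q), ?_⟩
  ext b
  rw [RingHom.mem_ker]
  change e.symm (Ideal.Quotient.mk q b) = 0 ↔ b ∈ q
  rw [map_eq_zero_iff _ e.symm.injective, Ideal.Quotient.eq_zero_iff_mem]

omit [IsAlgClosed k] in
theorem isIntegral_quot {T₁ T₂ : Type u} [CommRing T₁] [CommRing T₂] [Algebra k T₁] [Algebra k T₂]
    (σ' : T₁ →ₐ[k] T₂) (hσ : (σ' : T₁ →+* T₂).IsIntegral) (χ : T₁ →ₐ[k] k) (q : Ideal T₂)
    (hq : q.comap (σ' : T₁ →+* T₂) = RingHom.ker (χ : T₁ →+* k)) (b : T₂) :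
    IsIntegral k (Ideal.Quotient.mk q b) := by
  obtain ⟨p, hp, hpb⟩ := hσ b
  refine ⟨p.map (χ : T₁ →+* k), hp.map _, ?_⟩
  rw [Polynomial.eval₂_map]
  have hcomp : (algebraMap k (T₂ ⧸ q)).comp (χ : T₁ →+* k) =
      (Ideal.Quotient.mk q).comp (σ' : T₁ →+* T₂) := by
    refine RingHom.ext fun a => ?_
    have h1 : a - algebraMap k T₁ (χ a) ∈ RingHom.ker (χ : T₁ →+* k) := by
      rw [RingHom.mem_ker]; simp
    rw [← hq, Ideal.mem_comap] at h1
    have h2 := Ideal.Quotient.eq_zero_iff_mem.mpr h1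
    have h3 : (σ' : T₁ →+* T₂) (a - algebraMap k T₁ (χ a)) = σ' a - algebraMap k T₂ (χ a) := by
      simp
    rw [h3, map_sub, sub_eq_zero] at h2
    simp only [RingHom.coe_comp, Function.comp_apply, RingHom.coe_coe]
    rw [h2]
    rfl
  rw [hcomp, ← Polynomial.hom_eval₂, hpb, map_zero]

end Pts

section RGpts

variable {A B Q : Type u} [CommRing A] [CommRing B] [CommRing Q]
variable {r : RG A B Q} {C₀ : Type u} [CommRing C₀] [Algebra C₀ A] [Algebra C₀ B] [Algebra C₀ Q]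
variable (k : Type u) [Field k] [IsAlgClosed k] [Algebra C₀ k]

/-- the point of the base change attached to a point -/
noncomputable def ptHom (ξ : A →ₐ[C₀] k) : k ⊗[C₀] A →ₐ[k] k :=
  Algebra.TensorProduct.lift (Algebra.ofId k k) ξ (fun _ _ => Commute.all _ _)

omit [IsAlgClosed k] in
@[simp] theorem ptHom_tmul (ξ : A →ₐ[C₀] k) (c : k) (a : A) : ptHom k ξ (c ⊗ₜ a) = c * ξ a := by
  simp [ptHom]

/-- every `k`-point of the quotient lifts -/
theorem exists_pt_over (h : IsOver r C₀) (hI : IsInv r C₀)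
    (hfin : letI := r.σ.toAlgebra; Module.Finite A B)
    (hproj : letI := r.σ.toAlgebra; Module.Projective A B) : Nonempty (A →ₐ[C₀] k) := by
  haveI : Algebra.IsIntegral C₀ A := hI.isIntegral h hfin hproj
  haveI : FaithfulSMul C₀ A := (faithfulSMul_iff_algebraMap_injective C₀ A).mpr hI.inj
  have hsurj := comap_surjective_tensor C₀ k A (Algebra.IsIntegral.comap_surjective C₀ A)
  obtain ⟨q, -⟩ := hsurj ⟨⊥, Ideal.isPrime_bot⟩
  haveI := q.isPrime
  obtain ⟨ρ', -⟩ := exists_algHom_of_prime (k := k) q.asIdeal (fun b =>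
    (Algebra.IsIntegral.isIntegral (R := k) b).map (Ideal.Quotient.mkₐ k q.asIdeal))
  exact ⟨(ρ'.restrictScalars C₀).comp
    (Algebra.TensorProduct.includeRight : A →ₐ[C₀] k ⊗[C₀] A)⟩

/-- two `k`-points with the same image in the quotient are joined by an arrow -/
theorem exists_arrow (h : IsOver r C₀) (hI : IsInv r C₀)
    (hfin : letI := r.σ.toAlgebra; Module.Finite A B)
    (hproj : letI := r.σ.toAlgebra; Module.Projective A B) (ξ₀ ξ₁ : A →ₐ[C₀] k) :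
    ∃ ρ : B →+* k, ρ.comp r.τ = (ξ₀ : A →+* k) ∧ ρ.comp r.σ = (ξ₁ : A →+* k) := by
  set χ₀ := ptHom k ξ₀ with hχ₀
  set χ₁ := ptHom k ξ₁ with hχ₁
  have hfin' := finite_rgbc k h hfin
  have hproj' := projective_rgbc k h hproj
  -- invariants have the same value
  have hA : ∀ f, (rgbc k h).σ f = (rgbc k h).τ f → χ₀ f = χ₁ f := by
    intro f hf
    obtain ⟨n, P, hn, hP⟩ := pure_power_rg k h hI hfin hproj f hf
    have key : ∀ χ : k ⊗[C₀] A →ₐ[k] k, P = (X - C (χ f)) ^ n := by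
      intro χ
      have e0 := congrArg (Polynomial.map (χ : k ⊗[C₀] A →+* k)) hP
      rw [Polynomial.map_map, AlgHom.comp_algebraMap] at e0
      simpa using e0
    have e := (key χ₀).symm.trans (key χ₁)
    have e2 := congrArg (Polynomial.eval (χ₀ f)) e
    simp only [Polynomial.eval_pow, Polynomial.eval_sub, Polynomial.eval_X, Polynomial.eval_C,
      sub_self] at e2
    rw [zero_pow (Nat.pos_iff_ne_zero.mp hn)] at e2
    exact sub_eq_zero.mp (pow_eq_zero_iff (Nat.pos_iff_ne_zero.mp hn) |>.mp e2.symm)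
  haveI hp₀ : (RingHom.ker (χ₀ : k ⊗[C₀] A →+* k)).IsPrime := RingHom.ker_isPrime _
  haveI hp₁ : (RingHom.ker (χ₁ : k ⊗[C₀] A →+* k)).IsPrime := RingHom.ker_isPrime _
  have hcontr : (RingHom.ker (χ₀ : k ⊗[C₀] A →+* k)).comap (rgbc k h).C.subtype =
      (RingHom.ker (χ₁ : k ⊗[C₀] A →+* k)).comap (rgbc k h).C.subtype := by
    ext ⟨f, hf⟩
    simp only [Ideal.mem_comap, Subring.subtype_apply, RingHom.mem_ker, RingHom.coe_coe]
    rw [hA f ((rgbc k h).mem_C.mp hf)]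
  obtain ⟨q, hq, hqτ, hqσ⟩ := orbit (rgbc k h) hfin' hproj' _ _ hcontr
  let σₐ : k ⊗[C₀] A →ₐ[k] k ⊗[C₀] B :=
    { (rgbc k h).σ with commutes' := (isOver_rgbc k h).hσ }
  let τₐ : k ⊗[C₀] A →ₐ[k] k ⊗[C₀] B :=
    { (rgbc k h).τ with commutes' := (isOver_rgbc k h).hτ }
  have hσint : ((σₐ : k ⊗[C₀] A →+* k ⊗[C₀] B)).IsIntegral := by
    have : (rgbc k h).σ.Finite := hfin'
    exact this.to_isIntegral
  obtain ⟨ρ', hρ'⟩ := exists_algHom_of_prime (k := k) q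
    (isIntegral_quot σₐ hσint χ₁ q hqσ)
  have h1 : ρ'.comp σₐ = χ₁ := by
    apply algHom_eq_of_ker_eq
    change RingHom.ker ((ρ' : k ⊗[C₀] B →+* k).comp (rgbc k h).σ) = _
    rw [← RingHom.comap_ker, hρ', hqσ]
  have h0 : ρ'.comp τₐ = χ₀ := by
    apply algHom_eq_of_ker_eq
    change RingHom.ker ((ρ' : k ⊗[C₀] B →+* k).comp (rgbc k h).τ) = _
    rw [← RingHom.comap_ker, hρ', hqτ]
  refine ⟨(ρ' : k ⊗[C₀] B →+* k).comp (inclR C₀ k B), ?_, ?_⟩
  · refine RingHom.ext fun a => ?_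
    have := AlgHom.congr_fun h0 ((1 : k) ⊗ₜ[C₀] a)
    rw [hχ₀, ptHom_tmul, one_mul] at this
    refine Eq.trans ?_ this
    change ρ' ((1 : k) ⊗ₜ[C₀] r.τ a) = ρ' (bc C₀ k r.τ h.hτ ((1 : k) ⊗ₜ[C₀] a))
    rw [bc_tmul]
  · refine RingHom.ext fun a => ?_
    have := AlgHom.congr_fun h1 ((1 : k) ⊗ₜ[C₀] a)
    rw [hχ₁, ptHom_tmul, one_mul] at this
    refine Eq.trans ?_ this
    change ρ' ((1 : k) ⊗ₜ[C₀] r.σ a) = ρ' (bc C₀ k r.σ h.hσ ((1 : k) ⊗ₜ[C₀] a))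
    rw [bc_tmul]

end RGpts

end Groth.Agent.H4.GQ20
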