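import Mathlib
import Groth.Prelude.Def_Grpd
import Groth.Agent.H4.GQ4
import Groth.Agent.H4.GQ13
import Groth.Agent.H4.GQ14
import Groth.Agent.H4.GQ19
import Groth.Agent.H4.GQ20

set_option autoImplicit false
universe u
open CategoryTheory CategoryTheory.Limits AlgebraicGeometry TensorProduct
open Grpd

namespace Groth.Agent.H4.GQ21
open Groth.Agent.H4.GQ2 Groth.Agent.H4.GQ4 Groth.Agent.H4.GQ6 Groth.Agent.H4.GQ7 Groth.Agent.H4.GQ8
  Groth.Agent.H4.GQ13 Groth.Agent.H4.GQ14 Groth.Agent.H4.GQ19 Groth.Agent.H4.GQ20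

section Points

variable {X : Scheme.{u}} [IsAffine X]

theorem isoSpec_inv_hom_apply (P : Spec Γ(X, ⊤)) : X.isoSpec.hom (X.isoSpec.inv P) = P := by
  rw [← Scheme.Hom.comp_apply, Iso.inv_hom_id]
  rfl

theorem isoSpec_hom_inv_apply (x : X) : X.isoSpec.inv (X.isoSpec.hom x) = x := by
  rw [← Scheme.Hom.comp_apply, Iso.hom_inv_id]
  rfl

theorem isoSpec_hom_injective : Function.Injective (X.isoSpec.hom : X → Spec Γ(X, ⊤)) := by
  intro x y h
  rw [← isoSpec_hom_inv_apply x, ← isoSpec_hom_inv_apply y, h]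

variable {Y : Scheme.{u}} [IsAffine Y]

theorem isoSpec_hom_map (f : X ⟶ Y) (x : X) :
    Y.isoSpec.hom (f x) = Spec.map f.appTop (X.isoSpec.hom x) := by
  rw [← Scheme.Hom.comp_apply, ← Scheme.Hom.comp_apply, Scheme.isoSpec_hom_naturality]

variable (k : Type u) [Field k]

/-- the ring homomorphism of a `k`-point of an affine scheme -/
noncomputable def pt (x : Spec (CommRingCat.of k) ⟶ X) : Γ(X, ⊤) →+* k :=
  (Spec.preimage (x ≫ X.isoSpec.hom)).hom

/-- the `k`-point of a ring homomorphism -/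
noncomputable def ofPt (ξ : Γ(X, ⊤) →+* k) : Spec (CommRingCat.of k) ⟶ X :=
  Spec.map (CommRingCat.ofHom ξ) ≫ X.isoSpec.inv

theorem map_pt (x : Spec (CommRingCat.of k) ⟶ X) :
    Spec.map (CommRingCat.ofHom (pt k x)) = x ≫ X.isoSpec.hom := by
  have : CommRingCat.ofHom (pt k x) = Spec.preimage (x ≫ X.isoSpec.hom) := rfl
  rw [this, Spec.map_preimage]

theorem pt_injective : Function.Injective (pt k : (Spec (CommRingCat.of k) ⟶ X) → _) := by
  intro x y h
  have := (map_pt k x).symm.trans ((congrArg (fun ξ => Spec.map (CommRingCat.ofHom ξ)) h).trans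
    (map_pt k y))
  exact (cancel_mono X.isoSpec.hom).mp this

theorem pt_ofPt (ξ : Γ(X, ⊤) →+* k) : pt k (ofPt k ξ) = ξ := by
  have h := map_pt k (ofPt k ξ)
  rw [ofPt, Category.assoc, Iso.inv_hom_id, Category.comp_id] at h
  have := Spec.map_injective h
  exact congrArg CommRingCat.Hom.hom this

theorem pt_comp (x : Spec (CommRingCat.of k) ⟶ X) (f : X ⟶ Y) :
    pt k (x ≫ f) = (pt k x).comp f.appTop.hom := by
  have h := map_pt k (x ≫ f)
  rw [Category.assoc, ← Scheme.isoSpec_hom_naturality, ← Category.assoc, ← map_pt k x,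
    ← Spec.map_comp] at h
  have := Spec.map_injective h
  exact congrArg CommRingCat.Hom.hom this

end Points

variable {S : Scheme.{u}} (G : Grpd.GroupoidScheme S) [IsAffine G.U] [IsAffine G.R]

theorem toQuot_apply (u : G.U) :
    G.toQuot u = Spec.map (CommRingCat.ofHom G.invariants.subtype) (G.U.isoSpec.hom u) := by
  unfold Grpd.GroupoidScheme.toQuot
  rw [Scheme.Hom.comp_apply]
  rfl

theorem pt_toQuot (k : Type u) [Field k] (x : Spec (CommRingCat.of k) ⟶ G.U) :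
    x ≫ G.toQuot = Spec.map (CommRingCat.ofHom ((pt k x).comp G.invariants.subtype)) := by
  unfold Grpd.GroupoidScheme.toQuot
  rw [← Scheme.isoSpec_hom, ← Category.assoc, ← map_pt, ← Spec.map_comp]
  rfl

theorem part1 [IsFinite G.s] [Flat G.s] [LocallyOfFinitePresentation G.s] :
    Function.Surjective G.toQuot ∧ ∀ u₀ u₁ : G.U, G.toQuot u₀ = G.toQuot u₁ ↔
      ∃ r : G.R, G.t r = u₀ ∧ G.s r = u₁ := by
  have hfin := hfin_toRG G
  have hproj := hproj_toRG G
  constructor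
  · intro x
    let x' : PrimeSpectrum (toRG G).C := x
    haveI : (x'.asIdeal : Ideal (toRG G).C).IsPrime := x'.isPrime
    obtain ⟨p, hp, hp'⟩ := exists_prime_over (toRG G) hfin hproj x'.asIdeal
    refine ⟨G.U.isoSpec.inv ⟨p, hp⟩, ?_⟩
    rw [toQuot_apply, isoSpec_inv_hom_apply]
    exact PrimeSpectrum.ext hp'
  · intro u₀ u₁
    constructor
    · intro h
      let P₀ : PrimeSpectrum Γ(G.U, ⊤) := G.U.isoSpec.hom u₀
      let P₁ : PrimeSpectrum Γ(G.U, ⊤) := G.U.isoSpec.hom u₁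
      haveI : P₀.asIdeal.IsPrime := P₀.isPrime
      haveI : P₁.asIdeal.IsPrime := P₁.isPrime
      rw [toQuot_apply, toQuot_apply] at h
      have hc : P₀.asIdeal.comap (toRG G).C.subtype = P₁.asIdeal.comap (toRG G).C.subtype :=
        congrArg PrimeSpectrum.asIdeal h
      obtain ⟨q, hq, hqτ, hqσ⟩ := orbit (toRG G) hfin hproj P₀.asIdeal P₁.asIdeal hc
      refine ⟨G.R.isoSpec.inv ⟨q, hq⟩, ?_, ?_⟩
      · apply isoSpec_hom_injective
        rw [isoSpec_hom_map, isoSpec_inv_hom_apply]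
        exact PrimeSpectrum.ext hqτ
      · apply isoSpec_hom_injective
        rw [isoSpec_hom_map, isoSpec_inv_hom_apply]
        exact PrimeSpectrum.ext hqσ
    · rintro ⟨r, rfl, rfl⟩
      rw [← Scheme.Hom.comp_apply, ← Scheme.Hom.comp_apply, t_toQuot]

theorem part2 [IsFinite G.s] [Flat G.s] [LocallyOfFinitePresentation G.s]
    (k : Type u) [Field k] [IsAlgClosed k] :
    (∀ m : Spec (CommRingCat.of k) ⟶ Spec (CommRingCat.of G.invariants),
      ∃ x : Spec (CommRingCat.of k) ⟶ G.U, x ≫ G.toQuot = m) ∧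
    ∀ x₀ x₁ : Spec (CommRingCat.of k) ⟶ G.U, x₀ ≫ G.toQuot = x₁ ≫ G.toQuot ↔
      ∃ r : Spec (CommRingCat.of k) ⟶ G.R, r ≫ G.t = x₀ ∧ r ≫ G.s = x₁ := by
  have hfin := hfin_toRG G
  have hproj := hproj_toRG G
  letI iB : Algebra (toRG G).C Γ(G.R, ⊤) := algB (toRG G)
  letI iQ : Algebra (toRG G).C Γ(pullback G.s G.t, ⊤) := algQ (toRG G)
  have hO := isOver_C (toRG G)
  have hI := isInv_C (toRG G)
  constructor
  · intro m
    let ψ : G.invariants →+* k := (Spec.preimage m).hom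
    have hψ : Spec.map (CommRingCat.ofHom ψ) = m := Spec.map_preimage m
    letI : Algebra (toRG G).C k := RingHom.toAlgebra (R := (toRG G).C) ψ
    obtain ⟨ξ⟩ := exists_pt_over (r := toRG G) (C₀ := (toRG G).C) k hO hI hfin hproj
    refine ⟨ofPt k (ξ : Γ(G.U, ⊤) →+* k), ?_⟩
    rw [pt_toQuot, pt_ofPt, ← hψ]
    congr 2
    exact RingHom.ext fun c => ξ.commutes c
  · intro x₀ x₁
    constructor
    · intro h
      rw [pt_toQuot, pt_toQuot] at h
      have h' : (pt k x₀).comp G.invariants.subtype = (pt k x₁).comp G.invariants.subtype :=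
        congrArg CommRingCat.Hom.hom (Spec.map_injective h)
      letI : Algebra (toRG G).C k := ((pt k x₀).comp G.invariants.subtype).toAlgebra
      let ξ₀ : Γ(G.U, ⊤) →ₐ[(toRG G).C] k := { pt k x₀ with commutes' := fun c => rfl }
      let ξ₁ : Γ(G.U, ⊤) →ₐ[(toRG G).C] k :=
        { pt k x₁ with commutes' := fun c => (RingHom.congr_fun h' c).symm }
      obtain ⟨ρ, hρτ, hρσ⟩ := exists_arrow (r := toRG G) (C₀ := (toRG G).C) k hO hI hfin hproj ξ₀ ξ₁
      refine ⟨ofPt k ρ, ?_, ?_⟩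
      · apply pt_injective
        rw [pt_comp, pt_ofPt]
        exact hρτ
      · apply pt_injective
        rw [pt_comp, pt_ofPt]
        exact hρσ
    · rintro ⟨r, rfl, rfl⟩
      rw [Category.assoc, Category.assoc, t_toQuot]

theorem main_S1878 [IsFinite G.s] [Flat G.s] [LocallyOfFinitePresentation G.s] :
    (Function.Surjective G.toQuot ∧ ∀ u₀ u₁ : G.U, G.toQuot u₀ = G.toQuot u₁ ↔
      ∃ r : G.R, G.t r = u₀ ∧ G.s r = u₁) ∧
    ∀ (k : Type u) [Field k] [IsAlgClosed k],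
      (∀ m : Spec (CommRingCat.of k) ⟶ Spec (CommRingCat.of G.invariants),
        ∃ x : Spec (CommRingCat.of k) ⟶ G.U, x ≫ G.toQuot = m) ∧
      ∀ x₀ x₁ : Spec (CommRingCat.of k) ⟶ G.U, x₀ ≫ G.toQuot = x₁ ≫ G.toQuot ↔
        ∃ r : Spec (CommRingCat.of k) ⟶ G.R, r ≫ G.t = x₀ ∧ r ≫ G.s = x₁ :=
  ⟨part1 G, fun k _ _ => part2 G k⟩

end Groth.Agent.H4.GQ21
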