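import Mathlib

namespace Groth.Agent.H4.RankOne

/-- abstract rank one data on points -/
structure Data (R G T : Type*) [CommRing R] [Group G] [Group T] where
  P : R → G
  M : R → G
  i : T →* G
  α : T →* Rˣ
  av : Rˣ →* T
  P_add : ∀ a b, P (a + b) = P a * P b
  M_add : ∀ a b, M (a + b) = M a * M b
  conjP : ∀ t a, i t * P a * (i t)⁻¹ = P (α t * a)
  conjM : ∀ t a, i t * M (α t * a) * (i t)⁻¹ = M a
  sq : ∀ z, α (av z) = z ^ 2
  F : ∀ a b (z : Rˣ), (z : R) = 1 + a * b → P a * M b = M (b * ↑z⁻¹) * i (av z) * P (a * ↑z⁻¹)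

variable {R G T : Type*} [CommRing R] [Group G] [Group T] (D : Data R G T)

namespace Data

theorem P_zero : D.P 0 = 1 := by
  have := D.P_add 0 0
  rw [add_zero] at this
  exact (mul_eq_left.mp this.symm)

theorem M_zero : D.M 0 = 1 := by
  have := D.M_add 0 0
  rw [add_zero] at this
  exact (mul_eq_left.mp this.symm)

theorem P_neg (a : R) : D.P (-a) = (D.P a)⁻¹ := by
  rw [eq_inv_iff_mul_eq_one, ← D.P_add, neg_add_cancel, D.P_zero]

theorem M_neg (a : R) : D.M (-a) = (D.M a)⁻¹ := by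
  rw [eq_inv_iff_mul_eq_one, ← D.M_add, neg_add_cancel, D.M_zero]

theorem iP (t : T) (a : R) : D.i t * D.P a = D.P (D.α t * a) * D.i t := by
  rw [← D.conjP]; group

theorem iM (t : T) (a : R) : D.i t * D.M (D.α t * a) = D.M a * D.i t := by
  rw [← D.conjM t a]; group

theorem iM' (t : T) (a b : R) (h : D.α t * b = a) : D.i t * D.M a = D.M b * D.i t := by
  rw [← h, D.iM]

theorem Pi (t : T) (a b : R) (h : D.α t * b = a) : D.P a * D.i t = D.i t * D.P b := by
  rw [D.iP, h]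

/-- the reversed commutation rule -/
theorem rev (a b : R) (z : Rˣ) (hz : (z : R) = 1 + a * b) :
    D.M b * D.P a = D.P (a * ↑z⁻¹) * (D.i (D.av z))⁻¹ * D.M (b * ↑z⁻¹) := by
  have h := D.F (-a) (-b) z (by rw [hz]; ring)
  have h' := congrArg (fun g => g⁻¹) h
  simp only [mul_inv_rev, neg_mul, D.P_neg, D.M_neg, inv_inv] at h'
  rw [h', mul_assoc]

/-- product of two elements of the big cell -/
theorem cell_mul (x y x' y' y₂ x₂ : R) (t t' : T) (z : Rˣ) (hz : (z : R) = 1 + x * y')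
    (hy₂ : (y₂ - y) * z * D.α t = y') (hx₂ : (x₂ - x') * z * D.α t' = x) :
    (D.M y * D.i t * D.P x) * (D.M y' * D.i t' * D.P x') =
      D.M y₂ * D.i (t * D.av z * t') * D.P x₂ := by
  have h := D.F x y' z hz
  have e1 : D.i t * D.M (y' * ↑z⁻¹) = D.M (y₂ - y) * D.i t := by
    apply D.iM'
    rw [← hy₂]
    have : (z : R) * ↑z⁻¹ = 1 := by simp
    linear_combination -(y₂ - y) * (D.α t : R) * this
  have e2 : D.P (x * ↑z⁻¹) * D.i t' = D.i t' * D.P (x₂ - x') := by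
    apply D.Pi
    rw [← hx₂]
    have : (z : R) * ↑z⁻¹ = 1 := by simp
    linear_combination -(x₂ - x') * (D.α t' : R) * this
  have e3 : D.M y₂ = D.M y * D.M (y₂ - y) := by rw [← D.M_add]; congr 1; ring
  have e4 : D.P x₂ = D.P (x₂ - x') * D.P x' := by rw [← D.P_add]; congr 1; ring
  calc (D.M y * D.i t * D.P x) * (D.M y' * D.i t' * D.P x')
      = D.M y * D.i t * (D.P x * D.M y') * D.i t' * D.P x' := by group
    _ = D.M y * (D.i t * D.M (y' * ↑z⁻¹)) * D.i (D.av z) * (D.P (x * ↑z⁻¹) * D.i t') * D.P x' := by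
        rw [h]; group
    _ = D.M y₂ * D.i (t * D.av z * t') * D.P x₂ := by
        rw [e1, e2, e3, e4, map_mul, map_mul]; group

/-- the coroot through the root groups -/
theorem coroot_eq (z : Rˣ) (y₁ x₁ y₂ x₂ : R) (hy₁ : y₁ * z = 1 - z) (hx₁ : x₁ = 1) (hy₂ : y₂ = z - 1)
    (hx₂ : x₂ * z = -1) :
    D.i (D.av z) = D.M y₁ * D.P x₁ * D.M y₂ * D.P x₂ := by
  have h := D.F x₁ y₂ z (by rw [hx₁, hy₂]; ring)
  have hzz : (z : R) * ↑z⁻¹ = 1 := by simp
  have e1 : y₁ + y₂ * ↑z⁻¹ = 0 := by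
    rw [hy₂]
    linear_combination (↑z⁻¹ : R) * hy₁ - y₁ * hzz
  have e2 : x₁ * ↑z⁻¹ + x₂ = 0 := by
    rw [hx₁]
    linear_combination (↑z⁻¹ : R) * hx₂ - x₂ * hzz
  calc D.i (D.av z) = D.M (y₁ + y₂ * ↑z⁻¹) * D.i (D.av z) * D.P (x₁ * ↑z⁻¹ + x₂) := by
        rw [e1, e2, D.M_zero, D.P_zero]; group
    _ = D.M y₁ * (D.M (y₂ * ↑z⁻¹) * D.i (D.av z) * D.P (x₁ * ↑z⁻¹)) * D.P x₂ := by
        rw [D.M_add, D.P_add]; group
    _ = D.M y₁ * D.P x₁ * D.M y₂ * D.P x₂ := by rw [← h]; group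

/-- the Weyl element -/
def w (a a' : R) : G := D.P a * D.M a' * D.P a

theorem w_smul (a a' b b' : R) (z : Rˣ) (ha : a' * a = -1) (hb : b = z * a) (hb' : b' * b = -1) :
    D.w b b' = D.i (D.av z) * D.w a a' := by
  have hzz : (z : R) * ↑z⁻¹ = 1 := by simp
  have hb'' : b' = a' * ↑z⁻¹ := by
    have : b' * (z * a) = -1 := by rw [← hb]; exact hb'
    linear_combination (-a' * ↑z⁻¹) * this + b' * ha + b' * a' * a * hzz
  -- commutation rule at `(z a (1 - z), b')`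
  have h := D.F (z * a * (1 - z)) b' z (by rw [hb'']; linear_combination (z-1) * ha + (-(1 - z) * a * a') * hzz)
  have hα : (D.α (D.av z) : R) = z * z := by rw [D.sq]; simp [pow_two]
  have e1 : D.i (D.av z) * D.P a = D.P (z * z * a) * D.i (D.av z) := by rw [D.iP, hα]
  have e2 : D.i (D.av z) * D.M a' = D.M (b' * ↑z⁻¹) * D.i (D.av z) := by
    apply D.iM'
    rw [hα, hb'']
    linear_combination (a' * ↑z⁻¹ * z + a') * hzz
  have e3 : D.P b = D.P (z * z * a) * D.P (z * a * (1 - z)) := by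
    rw [← D.P_add]; congr 1; rw [hb]; ring
  have e4 : D.P (z * a * (1 - z) * ↑z⁻¹) * D.P b = D.P a := by
    rw [← D.P_add]; congr 1; rw [hb]
    linear_combination (a * (1 - z)) * hzz
  calc D.w b b' = D.P (z * z * a) * (D.P (z * a * (1 - z)) * D.M b') * D.P b := by
        unfold w; rw [e3]; group
    _ = D.P (z * z * a) * D.M (b' * ↑z⁻¹) * D.i (D.av z) * (D.P (z * a * (1 - z) * ↑z⁻¹) * D.P b) := by
        rw [h]; group
    _ = (D.P (z * z * a) * D.i (D.av z)) * D.M a' * D.P a := by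
        rw [e4, mul_assoc (D.P (z * z * a)), ← e2]; group
    _ = D.i (D.av z) * D.w a a' := by rw [← e1]; unfold w; group

theorem w_conj_i (a a' : R) (ha : a' * a = -1) (t : T) :
    D.i t * D.w a a' * (D.i t)⁻¹ = D.i (D.av (D.α t)) * D.w a a' := by
  have h1 : D.i t * D.w a a' * (D.i t)⁻¹ = D.w (D.α t * a) (↑(D.α t)⁻¹ * a') := by
    have hM : D.i t * D.M a' * (D.i t)⁻¹ = D.M (↑(D.α t)⁻¹ * a') := by
      have := D.conjM t (↑(D.α t)⁻¹ * a')
      rwa [← mul_assoc, Units.mul_inv, one_mul] at this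
    unfold w
    rw [← D.conjP, ← hM]; group
  rw [h1]
  apply D.w_smul a a' _ _ (D.α t) ha rfl
  have : (D.α t : R) * ↑(D.α t)⁻¹ = 1 := by simp
  linear_combination (a' * a) * this + ha

theorem w_smul' (a a' b b' : R) (z : Rˣ) (ha : a' * a = -1) (hb : b = z * a) (hb' : b' * b = -1) :
    D.w b b' = D.w a a' * (D.i (D.av z))⁻¹ := by
  rw [D.w_smul a a' b b' z ha hb hb']
  have h := D.w_conj_i a a' ha (D.av z)
  have h2 : D.av (D.α (D.av z)) = D.av z * D.av z := by rw [D.sq, pow_two, map_mul]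
  rw [h2, map_mul] at h
  have : D.w a a' * (D.i (D.av z))⁻¹ = (D.i (D.av z))⁻¹ * (D.i (D.av z) * D.w a a' * (D.i (D.av z))⁻¹) := by
    group
  rw [this, h]; group

theorem w_normalizes (a a' : R) (ha : a' * a = -1) (t : T) :
    D.w a a' * D.i t * (D.w a a')⁻¹ = (D.i (D.av (D.α t)))⁻¹ * D.i t := by
  have h := D.w_conj_i a a' ha t
  have : D.i t * D.w a a' = D.i (D.av (D.α t)) * D.w a a' * D.i t := by
    rw [← h]; group
  have h3 : D.w a a' * D.i t = (D.i (D.av (D.α t)))⁻¹ * D.i t * D.w a a' := by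
    rw [mul_assoc, this]; group
  rw [h3]; group

theorem w_neg (a a' : R) : D.w (-a) (-a') = (D.w a a')⁻¹ := by
  unfold w
  rw [D.P_neg, D.M_neg]; group

theorem w_sq (a a' : R) (ha : a' * a = -1) : D.w a a' ^ 2 = D.i (D.av (-1)) := by
  have h1 := D.w_smul a a' (-a) (-a') (-1) ha (by simp) (by linear_combination ha)
  rw [D.w_neg] at h1
  have h4 : D.i (D.av (-1)) * D.i (D.av (-1)) = 1 := by
    rw [← map_mul, ← map_mul]; simp
  have h5 : D.i (D.av (-1)) * D.w a a' ^ 2 = 1 := by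
    rw [pow_two, ← mul_assoc, ← h1]; group
  calc D.w a a' ^ 2 = (D.i (D.av (-1)) * D.i (D.av (-1))) * D.w a a' ^ 2 := by rw [h4, one_mul]
    _ = D.i (D.av (-1)) * (D.i (D.av (-1)) * D.w a a' ^ 2) := by group
    _ = D.i (D.av (-1)) := by rw [h5, mul_one]

theorem w_mul_w (a a' b b' : R) (m : Rˣ) (ha : a' * a = -1) (hb : b' * b = -1) (hm : m * b = -a) :
    D.w a a' * D.w b b' = D.i (D.av m) := by
  have h1 := D.w_smul b b' a a' (-m) hb (by simp only [Units.val_neg]; linear_combination hm) ha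
  rw [h1, mul_assoc, ← pow_two, D.w_sq b b' hb, ← map_mul, ← map_mul]
  simp

end Data

end Groth.Agent.H4.RankOne
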