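import Groth.Agent.H4.GaGm
import Groth.Agent.H4.RankOne


universe u
open CategoryTheory MonoidalCategory CartesianMonoidalCategory MonObj GrpObj AlgebraicGeometry Limits

namespace Groth.Agent.H4.GaGm

section points

variable {S : Scheme.{u}} {X : Over S}

theorem gaFn_one : Red.gaFn (1 : X ⟶ Red.Ga S) = 0 := by
  have := gaFn_mul (1 : X ⟶ Red.Ga S) 1
  rw [show (1 : X ⟶ Red.Ga S) * 1 = 1 from _root_.mul_one (1 : X ⟶ Red.Ga S)] at this
  exact left_eq_add.mp this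

theorem gaFn_inv (x : X ⟶ Red.Ga S) : Red.gaFn x⁻¹ = - Red.gaFn x := by
  have := gaFn_mul x⁻¹ x
  rw [inv_mul_cancel, gaFn_one] at this
  exact eq_neg_of_add_eq_zero_left this.symm

/-- the point of `𝔾_a` with given coordinate -/
noncomputable def gaPt (a : Γ(X.left, ⊤)) : X ⟶ Red.Ga S := (gaFn_surjective a).choose

@[simp] theorem gaFn_gaPt (a : Γ(X.left, ⊤)) : Red.gaFn (gaPt (S := S) a) = a :=
  (gaFn_surjective a).choose_spec

@[simp] theorem gaPt_gaFn (x : X ⟶ Red.Ga S) : gaPt (Red.gaFn x) = x :=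
  gaFn_injective (gaFn_gaPt _)

theorem gaPt_add (a b : Γ(X.left, ⊤)) : gaPt (S := S) (a + b) = gaPt a * gaPt b :=
  gaFn_injective (by rw [gaFn_gaPt, gaFn_mul, gaFn_gaPt, gaFn_gaPt])

theorem eq_gaPt (x : X ⟶ Red.Ga S) (a : Γ(X.left, ⊤)) (h : Red.gaFn x = a) : x = gaPt a := by
  rw [← h, gaPt_gaFn]

/-- the unit attached to a point of `𝔾_m` -/
noncomputable def gmUnit (z : X ⟶ Red.Gm S) : Γ(X.left, ⊤)ˣ := (isUnit_gmFn z).unit

@[simp] theorem gmUnit_val (z : X ⟶ Red.Gm S) : (gmUnit z : Γ(X.left, ⊤)) = Red.gmFn z := rfl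

theorem gmUnit_mul (z w : X ⟶ Red.Gm S) : gmUnit (z * w) = gmUnit z * gmUnit w :=
  Units.ext (gmFn_mul z w)

theorem gmUnit_one : gmUnit (1 : X ⟶ Red.Gm S) = 1 := by
  have := gmUnit_mul (1 : X ⟶ Red.Gm S) 1
  rw [show (1 : X ⟶ Red.Gm S) * 1 = 1 from _root_.mul_one (1 : X ⟶ Red.Gm S)] at this
  exact left_eq_mul.mp this

theorem gmFn_one : Red.gmFn (1 : X ⟶ Red.Gm S) = 1 := by
  rw [← gmUnit_val, gmUnit_one]; rfl

theorem gmUnit_injective : Function.Injective (gmUnit (S := S) (X := X)) := by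
  intro z w h
  exact gmFn_injective (congrArg Units.val h)

/-- the point of `𝔾_m` with given coordinate -/
noncomputable def gmPt (v : Γ(X.left, ⊤)ˣ) : X ⟶ Red.Gm S := (exists_gmFn_eq (v : Γ(X.left, ⊤)) v.isUnit).choose

@[simp] theorem gmFn_gmPt (v : Γ(X.left, ⊤)ˣ) : Red.gmFn (gmPt (S := S) v) = v :=
  (exists_gmFn_eq (v : Γ(X.left, ⊤)) v.isUnit).choose_spec

@[simp] theorem gmUnit_gmPt (v : Γ(X.left, ⊤)ˣ) : gmUnit (gmPt (S := S) v) = v :=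
  Units.ext (gmFn_gmPt v)

@[simp] theorem gmPt_gmUnit (z : X ⟶ Red.Gm S) : gmPt (gmUnit z) = z :=
  gmUnit_injective (gmUnit_gmPt _)

theorem gmPt_mul (v w : Γ(X.left, ⊤)ˣ) : gmPt (S := S) (v * w) = gmPt v * gmPt w :=
  gmUnit_injective (by rw [gmUnit_gmPt, gmUnit_mul, gmUnit_gmPt, gmUnit_gmPt])

theorem gmPt_one : gmPt (S := S) (1 : Γ(X.left, ⊤)ˣ) = 1 :=
  gmUnit_injective (by rw [gmUnit_gmPt, gmUnit_one])

theorem eq_gmPt (z : X ⟶ Red.Gm S) (v : Γ(X.left, ⊤)ˣ) (h : Red.gmFn z = v) : z = gmPt v := by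
  apply gmUnit_injective
  rw [gmUnit_gmPt]
  exact Units.ext h

end points

section bridge

/-- the abstract rank one data on the `X`-points -/
theorem exists_data {S : Scheme.{u}} {G T : Over S} [GrpObj G] [GrpObj T] (i : T ⟶ G) [IsMonHom i]
    (α : T ⟶ Red.Gm S) [IsMonHom α]
    (pp pm : Red.Ga S ⟶ G) [IsMonHom pp] [IsMonHom pm]
    (av : Red.Gm S ⟶ T) [IsMonHom av] (X : Over S)
    (hpp : ∀ (t : X ⟶ T) (x : X ⟶ Red.Ga S), ∃ x' : X ⟶ Red.Ga S,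
      x' ≫ pp = (t ≫ i) * (x ≫ pp) * (t ≫ i)⁻¹ ∧ Red.gaFn x' = Red.gmFn (t ≫ α) * Red.gaFn x)
    (hpm : ∀ (t : X ⟶ T) (y : X ⟶ Red.Ga S), ∃ y' : X ⟶ Red.Ga S,
      y' ≫ pm = (t ≫ i) * (y ≫ pm) * (t ≫ i)⁻¹ ∧ Red.gaFn y' * Red.gmFn (t ≫ α) = Red.gaFn y)
    (h2 : av ≫ α = (𝟙 (Red.Gm S)) ^ 2)
    (hF : ∀ (x y : X ⟶ Red.Ga S), IsUnit (1 + Red.gaFn x * Red.gaFn y) →
      ∃ (x' y' : X ⟶ Red.Ga S) (z : X ⟶ Red.Gm S), Red.gmFn z = 1 + Red.gaFn x * Red.gaFn y ∧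
        Red.gaFn x' * Red.gmFn z = Red.gaFn x ∧ Red.gaFn y' * Red.gmFn z = Red.gaFn y ∧
        (x ≫ pp) * (y ≫ pm) = (y' ≫ pm) * (z ≫ av ≫ i) * (x' ≫ pp)) :
    ∃ D : RankOne.Data Γ(X.left, ⊤) (X ⟶ G) (X ⟶ T),
      (∀ x : X ⟶ Red.Ga S, x ≫ pp = D.P (Red.gaFn x)) ∧
      (∀ y : X ⟶ Red.Ga S, y ≫ pm = D.M (Red.gaFn y)) ∧
      (∀ t : X ⟶ T, t ≫ i = D.i t) ∧
      (∀ t : X ⟶ T, Red.gmFn (t ≫ α) = D.α t) ∧
      (∀ z : X ⟶ Red.Gm S, z ≫ av = D.av (gmUnit z)) := by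
  let αH : (X ⟶ T) →* Γ(X.left, ⊤)ˣ :=
    { toFun := fun t => gmUnit (t ≫ α)
      map_one' := by rw [MonObj.one_comp α, gmUnit_one]
      map_mul' := fun t t' => by rw [MonObj.mul_comp t t' α, gmUnit_mul] }
  let avH : Γ(X.left, ⊤)ˣ →* (X ⟶ T) :=
    { toFun := fun v => gmPt v ≫ av
      map_one' := by rw [gmPt_one, MonObj.one_comp]
      map_mul' := fun v w => by rw [gmPt_mul, MonObj.mul_comp] }
  refine ⟨{ P := fun a => gaPt a ≫ pp
            M := fun a => gaPt a ≫ pm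
            i := IsMonHom.monoidHom i X
            α := αH
            av := avH
            P_add := fun a b => by rw [gaPt_add, MonObj.mul_comp]
            M_add := fun a b => by rw [gaPt_add, MonObj.mul_comp]
            conjP := ?_
            conjM := ?_
            sq := ?_
            F := ?_ }, ?_, ?_, ?_, ?_, ?_⟩
  · intro t a
    obtain ⟨x', h1, h2⟩ := hpp t (gaPt a)
    rw [gaFn_gaPt] at h2
    rw [eq_gaPt x' _ h2] at h1
    exact h1.symm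
  · intro t a
    obtain ⟨y', h1, h2⟩ := hpm t (gaPt ((gmUnit (t ≫ α) : Γ(X.left, ⊤)) * a))
    rw [gaFn_gaPt] at h2
    have h3 : Red.gaFn y' = a := by
      have hu : IsUnit (Red.gmFn (t ≫ α)) := isUnit_gmFn _
      apply hu.mul_right_cancel
      rw [h2, gmUnit_val, mul_comm]
    rw [eq_gaPt y' _ h3] at h1
    exact h1.symm
  · intro z
    show gmUnit ((gmPt z ≫ av) ≫ α) = z ^ 2
    rw [Category.assoc, h2, MonObj.comp_pow, Category.comp_id, pow_two, gmUnit_mul, gmUnit_gmPt, pow_two]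
  · intro a b z hz
    obtain ⟨x', y', z', h1, h3, h4, h5⟩ := hF (gaPt a) (gaPt b) (by
      rw [gaFn_gaPt, gaFn_gaPt, ← hz]; exact z.isUnit)
    rw [gaFn_gaPt, gaFn_gaPt] at h1
    rw [gaFn_gaPt] at h3 h4
    have hz' : z' = gmPt z := eq_gmPt z' z (by rw [h1, hz])
    have hzz : Red.gmFn z' = z := by rw [hz', gmFn_gmPt]
    have hx' : x' = gaPt (a * (↑z⁻¹ : Γ(X.left, ⊤))) := by
      apply eq_gaPt
      rw [← h3, hzz, _root_.mul_assoc, Units.mul_inv, _root_.mul_one]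
    have hy' : y' = gaPt (b * (↑z⁻¹ : Γ(X.left, ⊤))) := by
      apply eq_gaPt
      rw [← h4, hzz, _root_.mul_assoc, Units.mul_inv, _root_.mul_one]
    rw [hx', hy', hz'] at h5
    rw [h5]
    rfl
  · intro x
    show x ≫ pp = gaPt (Red.gaFn x) ≫ pp
    rw [gaPt_gaFn]
  · intro y
    show y ≫ pm = gaPt (Red.gaFn y) ≫ pm
    rw [gaPt_gaFn]
  · intro t; rfl
  · intro t; rfl
  · intro z
    show z ≫ av = gmPt (gmUnit z) ≫ av
    rw [gmPt_gmUnit]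

end bridge

end Groth.Agent.H4.GaGm
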