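import Groth.Agent.H4.RankOne

namespace Groth.Agent.H4.RankOne

variable {R G T : Type*} [CommRing R] [Group G] [Group T] (D : Data R G T)

namespace Data

theorem iP_inv (t : T) (a b : R) (h : D.α t * b = a) :
    (D.i t)⁻¹ * D.P a * D.i t = D.P b := by
  rw [mul_assoc, D.Pi t a b h]; group

/-- conjugating a "generic" element of the root group by the Weyl element -/
theorem w_conj_P (x x' a : R) (u : Rˣ) (hx : x' * x = -1) (hu : (u : R) = x - a) :
    D.w x x' * D.P a * (D.w x x')⁻¹ = D.M (-a * x' * x') := by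
  -- `z = 1 + a x' = - x' u` is a unit
  have hx'u : IsUnit x' := IsUnit.of_mul_eq_one (-x) (by linear_combination -hx)
  obtain ⟨v, hv⟩ := hx'u
  let z : Rˣ := -(v * u)
  have hz : (z : R) = 1 + a * x' := by
    simp only [z, Units.val_neg, Units.val_mul, hv, hu]
    linear_combination -hx
  have hzz : (z : R) * ↑z⁻¹ = 1 := by simp
  have hzz' : (↑z⁻¹ : R) * z = 1 := by simp
  have h1 := D.rev a x' z hz
  -- second application
  have hz2 : ((z⁻¹ : Rˣ) : R) = 1 + (-x) * (-a * x' * x' * ↑z⁻¹) := by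
    linear_combination hzz' - (↑z⁻¹ : R) * hz - (a * x' * ↑z⁻¹) * hx
  have h2 := D.rev (-x) (-a * x' * x' * ↑z⁻¹) z⁻¹ hz2
  rw [inv_inv] at h2
  have e1 : D.M (x' * ↑z⁻¹) * D.M (-x') = D.M (-a * x' * x' * ↑z⁻¹) := by
    rw [← D.M_add]; congr 1
    linear_combination (-x' * ↑z⁻¹) * hz + x' * hzz
  have e2 : D.M (-a * x' * x' * ↑z⁻¹ * z) = D.M (-a * x' * x') := by
    congr 1
    linear_combination (-a * x' * x') * hzz'
  have hα : (D.α (D.av z) : R) = z * z := by rw [D.sq]; simp [pow_two]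
  have e3 : (D.i (D.av z))⁻¹ * D.P (-x * z) * D.i (D.av z) = D.P (-x * ↑z⁻¹) := by
    apply D.iP_inv
    rw [hα]
    linear_combination (-x * z) * hzz
  have e4 : D.P x * D.P (a * ↑z⁻¹) * D.P (-x * ↑z⁻¹) = 1 := by
    rw [← D.P_add, ← D.P_add, ← D.P_zero]; congr 1
    have : x * (z : R) = x + a * x' * x := by rw [hz]; ring
    have h3 : x * (z : R) = x - a := by rw [this]; linear_combination a * hx
    linear_combination (↑z⁻¹ : R) * h3 - x * hzz
  calc D.w x x' * D.P a * (D.w x x')⁻¹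
      = D.P x * (D.M x' * D.P a) * D.M (-x') * D.P (-x) := by
        have hc : D.P x * D.P a = D.P a * D.P x := by rw [← D.P_add, ← D.P_add, add_comm]
        have : D.P x * D.M x' * D.P x * D.P a = D.P x * D.M x' * (D.P x * D.P a) := by group
        unfold w; rw [D.P_neg, D.M_neg, this, hc]; group
    _ = D.P x * D.P (a * ↑z⁻¹) * (D.i (D.av z))⁻¹ * (D.M (x' * ↑z⁻¹) * D.M (-x')) * D.P (-x) := by
        rw [h1]; group
    _ = D.P x * D.P (a * ↑z⁻¹) * (D.i (D.av z))⁻¹ * (D.M (-a * x' * x' * ↑z⁻¹) * D.P (-x)) := by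
        rw [e1]; group
    _ = D.P x * D.P (a * ↑z⁻¹) * ((D.i (D.av z))⁻¹ * D.P (-x * z) * D.i (D.av z)) *
          D.M (-a * x' * x' * ↑z⁻¹ * z) := by
        rw [h2, map_inv, map_inv, inv_inv]; group
    _ = D.M (-a * x' * x') := by
        rw [e3, e2, e4, one_mul]

/-- the braid relation, in the presence of a splitting `x = c + (x - c)` into units -/
theorem braid_of_split (x x' c : R) (hx : x' * x = -1) (hc : c * (x - c) = 1) :
    D.w x x' * D.P x * (D.w x x')⁻¹ = D.M x' := by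
  have hu1 : IsUnit c := IsUnit.of_mul_eq_one _ hc
  have hu2 : IsUnit (x - c) := IsUnit.of_mul_eq_one c (by rw [mul_comm]; exact hc)
  obtain ⟨u1, h1⟩ := hu1
  obtain ⟨u2, h2⟩ := hu2
  have e1 := D.w_conj_P x x' c u2 hx h2
  have e2 := D.w_conj_P x x' (x - c) u1 hx (by rw [h1]; ring)
  have e3 : D.P x = D.P c * D.P (x - c) := by rw [← D.P_add]; congr 1; ring
  calc D.w x x' * D.P x * (D.w x x')⁻¹
      = (D.w x x' * D.P c * (D.w x x')⁻¹) * (D.w x x' * D.P (x - c) * (D.w x x')⁻¹) := by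
        rw [e3]; group
    _ = D.M x' := by
        rw [e1, e2, ← D.M_add]; congr 1
        linear_combination (-x') * hx

/-- consequences of the braid relation -/
theorem braid' (x x' : R) (h : D.w x x' * D.P x * (D.w x x')⁻¹ = D.M x') :
    D.w x x' = D.M x' * D.P x * D.M x' := by
  have h1 : D.w x x' * D.P x = D.M x' * D.w x x' := by rw [← h]; group
  have h2 : D.w x x' * D.P x = (D.M x' * D.P x * D.M x') * D.P x := by
    rw [h1]; unfold w; group
  exact mul_right_cancel h2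

theorem cube (x x' : R) (hx : x' * x = -1) (h : D.w x x' * D.P x * (D.w x x')⁻¹ = D.M x') :
    (D.w x x' * D.P x) ^ 3 = 1 := by
  have h1 := D.braid' x x' h
  have h2 := D.w_sq x x' hx
  have h3 : (D.w x x' * D.P x) = D.M x' * D.P x * (D.M x' * D.P x) := by
    rw [h1]; group
  have h4 : (D.M x' * D.P x) ^ 3 = D.w x x' ^ 2 := by
    calc (D.M x' * D.P x) ^ 3 = (D.M x' * D.P x * D.M x') * (D.P x * D.M x' * D.P x) := by
          simp only [pow_succ, pow_zero, one_mul, mul_assoc]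
      _ = D.w x x' ^ 2 := by rw [← h1, pow_two]; rfl
  calc (D.w x x' * D.P x) ^ 3 = ((D.M x' * D.P x) ^ 3) ^ 2 := by
        rw [h3, ← pow_two, ← pow_mul, ← pow_mul]
    _ = 1 := by
      rw [h4, h2, pow_two, ← map_mul, ← map_mul]; simp

theorem neg_braid (x x' : R) (h : D.w x x' * D.P x * (D.w x x')⁻¹ = D.M x') :
    D.M (-x') * D.P (-x) * D.M (-x') = (D.w x x')⁻¹ := by
  rw [D.braid' x x' h, D.M_neg, D.P_neg]; group

theorem w_mul_w' (x x' y y' : R) (z : Rˣ) (hx : x' * x = -1) (hy : y' * y = -1) (hz : (z : R) = x * y)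
    (h : D.w y' y * D.P y' * (D.w y' y)⁻¹ = D.M y) :
    D.w x x' * (D.M y * D.P y' * D.M y) = D.i (D.av z) := by
  rw [← D.braid' y' y h]
  apply D.w_mul_w x x' y' y z hx (by rw [mul_comm]; exact hy)
  rw [hz]
  linear_combination x * hy

end Data

end Groth.Agent.H4.RankOne
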