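import Groth.Agent.H4.GaGmBridge
import Groth.Agent.H4.RankOne2


universe u
open CategoryTheory MonoidalCategory CartesianMonoidalCategory MonObj GrpObj AlgebraicGeometry Limits

namespace Groth.Agent.H4.GaGm

section cover

open Polynomial

/-- the coordinate ring of `𝔾_a` over `ℤ` -/
abbrev A₀ : Type u := SymmetricAlgebra (ULift.{u} ℤ) (ULift.{u} ℤ)

/-- the coordinate -/
noncomputable abbrev tt : A₀.{u} := SymmetricAlgebra.ι _ _ (ULift.up 1)

/-- the quadratic polynomial `c² - t c + 1` -/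
noncomputable def qf : Polynomial A₀.{u} := X ^ 2 - C tt * X + 1

theorem qf_eq : qf.{u} = C 1 * X ^ 2 + C (-tt) * X + C 1 := by
  unfold qf
  simp only [map_one, map_neg, one_mul, neg_mul]
  ring

theorem qf_natDegree : (qf.{u}).natDegree = 2 := by
  rw [qf_eq]
  exact natDegree_quadratic one_ne_zero

theorem qf_monic : (qf.{u}).Monic := by
  rw [qf_eq]
  exact leadingCoeff_quadratic one_ne_zero

theorem root_rel : AdjoinRoot.root qf.{u} * (AdjoinRoot.of qf tt - AdjoinRoot.root qf) = 1 := by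
  have h := AdjoinRoot.eval₂_root qf.{u}
  unfold qf at h ⊢
  simp only [eval₂_add, eval₂_sub, eval₂_mul, eval₂_pow, eval₂_X, eval₂_C, eval₂_one] at h
  linear_combination -h

theorem faithfullyFlat_of : (AdjoinRoot.of qf.{u}).FaithfullyFlat := by
  have := qf_monic.{u}.free_adjoinRoot
  have : Nontrivial (AdjoinRoot qf.{u}) := by
    refine Ideal.Quotient.nontrivial_iff.mpr ?_
    rw [Ne, Ideal.span_singleton_eq_top]
    intro h
    have := qf_monic.{u}.eq_one_of_isUnit h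
    have h2 := qf_natDegree.{u}
    rw [this, natDegree_one] at h2
    exact absurd h2 (by norm_num)
  have : Module.FaithfullyFlat A₀.{u} (AdjoinRoot qf.{u}) := inferInstance
  rw [← AdjoinRoot.algebraMap_eq]
  exact (RingHom.faithfullyFlat_algebraMap_iff).mpr this

end cover

section naturality

variable {S : Scheme.{u}} {X X' : Over S}

theorem gaFn_comp (π : X' ⟶ X) (x : X ⟶ Red.Ga S) :
    Red.gaFn (π ≫ x) = π.left.appTop.hom (Red.gaFn x) := by
  unfold Red.gaFn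
  rw [Over.comp_left, Category.assoc, Scheme.Hom.comp_appTop]
  rfl

/-- a flat cover on which the coordinate of a point of `𝔾_a` splits as a sum of two units -/
theorem exists_cover (x : X ⟶ Red.Ga S) :
    ∃ (X' : Over S) (π : X' ⟶ X) (c : Γ(X'.left, ⊤)), Epi π ∧ c * (Red.gaFn (π ≫ x) - c) = 1 := by
  let xt : X.left ⟶ Spec (CommRingCat.of A₀.{u}) := x.left ≫ pullback.fst _ _
  let φ : CommRingCat.of A₀.{u} ⟶ CommRingCat.of (AdjoinRoot qf.{u}) :=
    CommRingCat.ofHom (AdjoinRoot.of qf.{u})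
  have hff := (flat_and_surjective_SpecMap_iff φ).mpr faithfullyFlat_of
  have hfl : Flat (Spec.map φ) := hff.1
  have hsu : Surjective (Spec.map φ) := hff.2
  let π₀ : pullback xt (Spec.map φ) ⟶ X.left := pullback.fst xt (Spec.map φ)
  have : Epi π₀ := Flat.epi_of_flat_of_surjective π₀
  let X' : Over S := Over.mk (π₀ ≫ X.hom)
  let π : X' ⟶ X := Over.homMk π₀ rfl
  let ρ : AdjoinRoot qf.{u} →+* Γ(X'.left, ⊤) :=
    ((pullback.snd xt (Spec.map φ)).appTop).hom.comp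
      (Scheme.ΓSpecIso (CommRingCat.of (AdjoinRoot qf.{u}))).inv.hom
  refine ⟨X', π, ρ (AdjoinRoot.root qf), ?_, ?_⟩
  · exact (Over.forget S).epi_of_epi_map (by exact this)
  · have h1 : Red.gaFn (π ≫ x) = ρ (AdjoinRoot.of qf tt) := by
      have h2 : ((π ≫ x).left ≫ pullback.fst _ _ : X'.left ⟶ Spec (CommRingCat.of A₀.{u})) =
          pullback.snd xt (Spec.map φ) ≫ Spec.map φ := by
        rw [Over.comp_left, Category.assoc]
        exact pullback.condition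
      rw [gaFn_eq]
      exact ev_of_left_eq (tr (fZ S) Red.GaZ (π ≫ x)) (pullback.snd xt (Spec.map φ)) φ h2 tt
    rw [h1, ← map_sub, ← map_mul, root_rel, map_one]

end naturality

section braid

/-- the conjugation formula `w(x) p₊(x) w(x)⁻¹ = p₋(-x⁻¹)` on points, via a flat cover -/
theorem braid {S : Scheme.{u}} {G T : Over S} [GrpObj G] [GrpObj T] (i : T ⟶ G) [IsMonHom i]
    (α : T ⟶ Red.Gm S) [IsMonHom α]
    (pp pm : Red.Ga S ⟶ G) [IsMonHom pp] [IsMonHom pm]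
    (hpp : ∀ (X : Over S) (t : X ⟶ T) (x : X ⟶ Red.Ga S), ∃ x' : X ⟶ Red.Ga S,
      x' ≫ pp = (t ≫ i) * (x ≫ pp) * (t ≫ i)⁻¹ ∧ Red.gaFn x' = Red.gmFn (t ≫ α) * Red.gaFn x)
    (hpm : ∀ (X : Over S) (t : X ⟶ T) (y : X ⟶ Red.Ga S), ∃ y' : X ⟶ Red.Ga S,
      y' ≫ pm = (t ≫ i) * (y ≫ pm) * (t ≫ i)⁻¹ ∧ Red.gaFn y' * Red.gmFn (t ≫ α) = Red.gaFn y)
    (av : Red.Gm S ⟶ T) [IsMonHom av] (h2 : av ≫ α = (𝟙 (Red.Gm S)) ^ 2)
    (hF : ∀ (X : Over S) (x y : X ⟶ Red.Ga S), IsUnit (1 + Red.gaFn x * Red.gaFn y) →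
      ∃ (x' y' : X ⟶ Red.Ga S) (z : X ⟶ Red.Gm S), Red.gmFn z = 1 + Red.gaFn x * Red.gaFn y ∧
        Red.gaFn x' * Red.gmFn z = Red.gaFn x ∧ Red.gaFn y' * Red.gmFn z = Red.gaFn y ∧
        (x ≫ pp) * (y ≫ pm) = (y' ≫ pm) * (z ≫ av ≫ i) * (x' ≫ pp))
    (X : Over S) (x x' : X ⟶ Red.Ga S) (hx : Red.gaFn x' * Red.gaFn x = -1) :
    ((x ≫ pp) * (x' ≫ pm) * (x ≫ pp)) * (x ≫ pp) * ((x ≫ pp) * (x' ≫ pm) * (x ≫ pp))⁻¹ = x' ≫ pm := by
  obtain ⟨X', π, c, hπ, hc⟩ := exists_cover x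
  rw [← cancel_epi π]
  simp only [MonObj.comp_mul, GrpObj.comp_inv, ← Category.assoc]
  obtain ⟨D, hP, hM, hi, hα, hav⟩ := exists_data i α pp pm av X' (hpp X') (hpm X') h2 (hF X')
  rw [hP, hM]
  have hx' : Red.gaFn (π ≫ x') * Red.gaFn (π ≫ x) = -1 := by
    rw [gaFn_comp, gaFn_comp, ← map_mul, hx, map_neg, map_one]
  exact D.braid_of_split _ _ c hx' hc

end braid

end Groth.Agent.H4.GaGm
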