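import Mathlib
import Groth.Prelude.Def_SGA1
import Groth.Agent.Lib.Helper2.QuotD
import Groth.Agent.Lib.Helper5.Glue.C

/-!
# Quotients of schemes by finite groups: local criteria (helper4)

* `loc_lemma`: invariants commute with localization away from an invariant element.
* `QAt ρ p hinv U`: the quotient condition at one open `U`.
* `QAt_of_cover`, `QAt_basicOpen`, `QAt_of_le_affine`, `QAt_all_of_cover`, `isQuot_of_affine_cover`.
* `main_S12059`: `Spec A ⟶ Spec A^G` is a quotient.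
* `main_S13606`: restriction of a quotient to an open is a quotient.
-/

set_option autoImplicit false
set_option linter.style.haveILetI false
universe u
open CategoryTheory Limits AlgebraicGeometry TopologicalSpace Opposite

namespace Groth.Agent.H4.QuotKit

open Groth.Agent.H2.Quot Groth.Agent.H5.Glue

section Alg

theorem loc_lemma {B A B' A' : Type*} [CommRing B] [CommRing A] [CommRing B'] [CommRing A']
    {G : Type*} [Finite G]
    (φ : B →+* A) (σ : G → A →+* A) (rB : B →+* B') (rA : A →+* A') (φ' : B' →+* A')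
    (σ' : G → A' →+* A') (b : B)
    (hφ : Function.Injective φ)
    (hσφ : ∀ g c, σ g (φ c) = φ c)
    (hinvar : ∀ a, (∀ g, σ g a = a) → a ∈ Set.range φ)
    (hcomm : ∀ c, φ' (rB c) = rA (φ c))
    (hσ' : ∀ g a, σ' g (rA a) = rA (σ g a))
    (hunit : IsUnit (rB b))
    (hsurjB : ∀ z : B', ∃ (n : ℕ) (c : B), z * rB b ^ n = rB c)
    (hsurjA : ∀ z : A', ∃ (n : ℕ) (a : A), z * rA (φ b) ^ n = rA a)
    (hkerA : ∀ a a' : A, rA a = rA a' → ∃ n : ℕ, φ b ^ n * a = φ b ^ n * a') :
    Function.Injective φ' ∧ ∀ a', (∀ g, σ' g a' = a') → a' ∈ Set.range φ' := by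
  constructor
  · rw [injective_iff_map_eq_zero]
    intro z hz
    obtain ⟨n, c, hc⟩ := hsurjB z
    have h1 : rA (φ c) = rA 0 := by
      rw [← hcomm, ← hc, map_mul, hz, zero_mul, map_zero]
    obtain ⟨m, hm⟩ := hkerA _ _ h1
    have h2 : b ^ m * c = 0 := by
      apply hφ
      rw [map_mul, map_pow, hm, mul_zero, map_zero]
    have h3 : rB c = 0 := by
      have h4 : rB b ^ m * rB c = 0 := by rw [← map_pow, ← map_mul, h2, map_zero]
      exact (hunit.pow m).mul_right_eq_zero.mp h4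
    rw [h3] at hc
    exact (hunit.pow n).mul_left_eq_zero.mp hc
  · intro a' ha'
    obtain ⟨n, a, ha⟩ := hsurjA a'
    have h1 : ∀ g, rA (σ g a) = rA a := by
      intro g
      rw [← hσ', ← ha, map_mul, map_pow, ha' g, hσ', hσφ]
    choose m hm using fun g => hkerA _ _ (h1 g)
    cases nonempty_fintype G
    obtain ⟨M, hM⟩ : ∃ M, ∀ g, m g ≤ M :=
      ⟨∑ g, m g, fun g => Finset.single_le_sum (fun _ _ => Nat.zero_le _) (Finset.mem_univ g)⟩
    have h2 : ∀ g, φ b ^ M * σ g a = φ b ^ M * a := by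
      intro g
      obtain ⟨k, hk⟩ := Nat.exists_eq_add_of_le (hM g)
      rw [hk, pow_add, mul_comm (φ b ^ m g), mul_assoc, mul_assoc, hm g]
    have h3 : ∀ g, σ g (φ b ^ M * a) = φ b ^ M * a := by
      intro g
      rw [map_mul, map_pow, hσφ, h2]
    obtain ⟨c, hc⟩ := hinvar _ h3
    obtain ⟨v, hv⟩ := hunit.exists_left_inv
    refine ⟨v ^ (M + n) * rB c, ?_⟩
    have h4 : rA (φ c) = rA (φ b) ^ (M + n) * a' := by
      rw [hc, map_mul, map_pow, ← ha, pow_add]
      ring
    have h5 : φ' v * rA (φ b) = 1 := by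
      rw [← hcomm, ← map_mul, hv, map_one]
    rw [map_mul, hcomm, h4, map_pow, ← mul_assoc, ← mul_pow, h5, one_pow, one_mul]

end Alg

section Kit

variable {X Y : Scheme.{u}} {G : Type u} [Group G] (ρ : G →* Aut X) (p : X ⟶ Y)
  (hinv : ∀ g : G, (ρ g).hom ≫ p = p)

/-- the quotient condition at the open `U` -/
def QAt (U : Y.Opens) : Prop :=
  Function.Injective (p.app U).hom ∧
  ∀ s : Γ(X, p ⁻¹ᵁ U), (∀ g, (sig ρ p hinv U g).hom s = s) → s ∈ Set.range (p.app U).hom

theorem isQuot_of_QAt [IsAffineHom p] (h : ∀ U, QAt ρ p hinv U) : SGA1.IsQuot ρ p where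
  affine := inferInstance
  inv := hinv
  injective U := (h U).1
  range_iff U s := by
    constructor
    · rintro ⟨a, rfl⟩ g
      exact sig_app_apply ρ p hinv U g a
    · intro hs
      exact (h U).2 s hs

variable {ρ p} in
theorem QAt_of_isQuot (hp : SGA1.IsQuot ρ p) (U : Y.Opens) : QAt ρ p hp.inv U :=
  ⟨hp.injective U, fun s hs => (hp.range_iff U s).mpr hs⟩

theorem QAt_congr {U U' : Y.Opens} (e : U = U') (h : QAt ρ p hinv U) : QAt ρ p hinv U' := by
  subst e
  exact h

theorem app_res_apply {U V : Y.Opens} (h : V ≤ U) (a : Γ(Y, U)) :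
    res (p.preimage_mono h) ((p.app U).hom a) = (p.app V).hom (res h a) := by
  have := p.naturality (homOfLE h).op
  exact congr($(this.symm).hom a)

theorem sig_res {U V : Y.Opens} (h : V ≤ U) (g : G) :
    sig ρ p hinv U g ≫ X.presheaf.map (homOfLE (p.preimage_mono h)).op =
      X.presheaf.map (homOfLE (p.preimage_mono h)).op ≫ sig ρ p hinv V g := by
  unfold sig
  rw [Scheme.Hom.appLE_map, Scheme.Hom.map_appLE]

theorem sig_res_apply {U V : Y.Opens} (h : V ≤ U) (g : G) (s : Γ(X, p ⁻¹ᵁ U)) :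
    res (p.preimage_mono h) ((sig ρ p hinv U g).hom s) =
      (sig ρ p hinv V g).hom (res (p.preimage_mono h) s) := by
  have := sig_res ρ p hinv h g
  exact congr($(this).hom s)

/-- gluing the quotient condition -/
theorem QAt_of_cover {ι : Type*} (U : Y.Opens) (V : ι → Y.Opens) (hVU : ∀ i, V i ≤ U)
    (hcov : U ≤ iSup V) (h : ∀ i, QAt ρ p hinv (V i))
    (hinj : ∀ i j, Function.Injective (p.app (V i ⊓ V j)).hom) : QAt ρ p hinv U := by
  have hpre : ∀ i, p ⁻¹ᵁ V i ≤ p ⁻¹ᵁ U := fun i => p.preimage_mono (hVU i)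
  constructor
  · intro a a' haa
    apply fn_ext_of_cover V U hVU hcov
    intro i
    apply (h i).1
    rw [← app_res_apply, ← app_res_apply, haa]
  · intro s hs
    have h1 : ∀ i, ∃ a : Γ(Y, V i), (p.app (V i)).hom a = res (hpre i) s := by
      intro i
      apply (h i).2
      intro g
      rw [← sig_res_apply ρ p hinv (hVU i), hs g]
    choose a ha using h1
    obtain ⟨c, hc, -⟩ := existsUnique_glue_fn V U hVU hcov a (by
      intro i j
      apply hinj i j
      rw [← app_res_apply, ← app_res_apply, ha, ha, res_res, res_res])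
    refine ⟨c, ?_⟩
    apply fn_ext_of_cover (fun i => p ⁻¹ᵁ V i) (p ⁻¹ᵁ U) hpre ?_
    · intro i
      rw [app_res_apply p (hVU i), hc i, ha]
    · intro x hx
      have hx' : p x ∈ iSup V := hcov hx
      obtain ⟨i, hi⟩ := Opens.mem_iSup.mp hx'
      exact Opens.mem_iSup.mpr ⟨i, hi⟩

/-- the quotient condition passes to basic opens of an affine open -/
theorem QAt_basicOpen [IsAffineHom p] [Finite G] {U : Y.Opens} (hU : IsAffineOpen U)
    (h : QAt ρ p hinv U) (b : Γ(Y, U)) : QAt ρ p hinv (Y.basicOpen b) := by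
  have hVU : Y.basicOpen b ≤ U := Y.basicOpen_le b
  have hpre : p ⁻¹ᵁ Y.basicOpen b ≤ p ⁻¹ᵁ U := p.preimage_mono hVU
  haveI hlocB := hU.isLocalization_basicOpen b
  have hlocA := (hU.preimage p).isLocalization_of_eq_basicOpen ((p.app U).hom b) (homOfLE hpre)
    (Scheme.preimage_basicOpen p b)
  letI algA : Algebra Γ(X, p ⁻¹ᵁ U) Γ(X, p ⁻¹ᵁ Y.basicOpen b) :=
    (X.presheaf.map (homOfLE hpre).op).hom.toAlgebra
  haveI : IsLocalization.Away ((p.app U).hom b) Γ(X, p ⁻¹ᵁ Y.basicOpen b) := hlocA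
  exact loc_lemma (p.app U).hom (fun g => (sig ρ p hinv U g).hom) (res hVU) (res hpre)
    (p.app (Y.basicOpen b)).hom (fun g => (sig ρ p hinv (Y.basicOpen b) g).hom) b
    h.1 (fun g c => sig_app_apply ρ p hinv U g c) h.2
    (fun c => (app_res_apply p hVU c).symm)
    (fun g a => (sig_res_apply ρ p hinv hVU g a).symm)
    (IsLocalization.Away.algebraMap_isUnit b)
    (fun z => IsLocalization.Away.surj b z)
    (fun z => IsLocalization.Away.surj ((p.app U).hom b) z)
    (fun a a' haa => IsLocalization.Away.exists_of_eq ((p.app U).hom b) haa)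

/-- the quotient condition at an affine open passes to all smaller opens -/
theorem QAt_of_le_affine [IsAffineHom p] [Finite G] {U : Y.Opens} (hU : IsAffineOpen U)
    (h : QAt ρ p hinv U) (V : Y.Opens) (hVU : V ≤ U) : QAt ρ p hinv V := by
  apply QAt_of_cover ρ p hinv V (fun b : {b : Γ(Y, U) // Y.basicOpen b ≤ V} => Y.basicOpen b.1)
    (fun b => b.2)
  · intro x hx
    obtain ⟨f, hf, hxf⟩ := hU.exists_basicOpen_le ⟨x, hx⟩ (hVU hx)
    exact Opens.mem_iSup.mpr ⟨⟨f, hf⟩, hxf⟩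
  · intro b
    exact QAt_basicOpen ρ p hinv hU h b.1
  · intro b b'
    exact (QAt_congr ρ p hinv (Y.basicOpen_mul b.1 b'.1)
      (QAt_basicOpen ρ p hinv hU h (b.1 * b'.1))).1

theorem QAt_all_of_cover {ι : Type*} (𝒱 : ι → Y.Opens) (hcov : ⨆ i, 𝒱 i = ⊤)
    (h : ∀ i (W : Y.Opens), W ≤ 𝒱 i → QAt ρ p hinv W) (W : Y.Opens) : QAt ρ p hinv W := by
  apply QAt_of_cover ρ p hinv W (fun i => W ⊓ 𝒱 i) (fun i => inf_le_left)
  · exact le_of_eq (by rw [← inf_iSup_eq, hcov, inf_top_eq])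
  · intro i
    exact h i _ inf_le_right
  · intro i j
    exact (h i _ (inf_le_left.trans inf_le_right)).1

/-- an affine invariant morphism satisfying the quotient condition on an affine cover is a
quotient -/
theorem isQuot_of_affine_cover [IsAffineHom p] [Finite G] {ι : Type*} (𝒱 : ι → Y.Opens)
    (hcov : ⨆ i, 𝒱 i = ⊤) (haff : ∀ i, IsAffineOpen (𝒱 i)) (h : ∀ i, QAt ρ p hinv (𝒱 i)) :
    SGA1.IsQuot ρ p :=
  isQuot_of_QAt ρ p hinv (QAt_all_of_cover ρ p hinv 𝒱 hcov
    (fun i W hW => QAt_of_le_affine ρ p hinv (haff i) (h i) W hW))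

theorem sig_top (g : G) : sig ρ p hinv ⊤ g = (ρ g).hom.appTop := by
  unfold sig Scheme.Hom.appLE
  have h1 : X.presheaf.map (homOfLE (SGA1.preimage_le_of_inv ρ p hinv g ⊤)).op = 𝟙 _ :=
    X.presheaf.map_id _
  rw [h1]
  exact Category.comp_id _

theorem QAt_top_of (hinj : Function.Injective p.appTop.hom)
    (hs : ∀ s : Γ(X, ⊤), (∀ g, (ρ g).hom.appTop.hom s = s) → s ∈ Set.range p.appTop.hom) :
    QAt ρ p hinv ⊤ := by
  refine ⟨hinj, fun s hs' => hs s (fun g => ?_)⟩
  have h1 := hs' g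
  rw [sig_top] at h1
  exact h1

theorem QAt_top_inj (h : QAt ρ p hinv ⊤) : Function.Injective p.appTop.hom := h.1

theorem QAt_top_range (h : QAt ρ p hinv ⊤) (s : Γ(X, ⊤))
    (hs : ∀ g, (ρ g).hom.appTop.hom s = s) : s ∈ Set.range p.appTop.hom := by
  apply h.2 s
  intro g
  rw [sig_top]
  exact hs g

/-- an affine invariant morphism to an affine scheme satisfying the quotient condition on global
sections is a quotient -/
theorem isQuot_of_isAffine [IsAffineHom p] [Finite G] [IsAffine Y] (h : QAt ρ p hinv ⊤) :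
    SGA1.IsQuot ρ p :=
  isQuot_of_QAt ρ p hinv (fun V => QAt_of_le_affine ρ p hinv (isAffineOpen_top Y) h V le_top)

end Kit

section Spec

/-- **S12059** -/
theorem main_S12059 (G : Type u) [Group G] [Finite G] (A B : Type u) [CommRing A] [CommRing B]
    [Algebra B A] [MulSemiringAction G A] [SMulCommClass G B A] [Algebra.IsInvariant B A G]
    [FaithfulSMul B A]
    (ρ : G →* Aut (Spec (CommRingCat.of A)))
    (hρ : Set.range (fun g : G => (ρ g).hom) =
      Set.range (fun g : G => Spec.map (CommRingCat.ofHom (MulSemiringAction.toRingHom G A g)))) :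
    SGA1.IsQuot ρ (Spec.map (CommRingCat.ofHom (algebraMap B A))) := by
  have hinv : ∀ g : G, (ρ g).hom ≫ Spec.map (CommRingCat.ofHom (algebraMap B A)) =
      Spec.map (CommRingCat.ofHom (algebraMap B A)) := by
    intro g
    have h1 : (ρ g).hom ∈ Set.range (fun g : G =>
        Spec.map (CommRingCat.ofHom (MulSemiringAction.toRingHom G A g))) := by
      rw [← hρ]
      exact ⟨g, rfl⟩
    obtain ⟨g', hg'⟩ := h1
    have hg'' : Spec.map (CommRingCat.ofHom (MulSemiringAction.toRingHom G A g')) = (ρ g).hom :=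
      hg'
    rw [← hg'', ← Spec.map_comp]
    congr 1
    apply CommRingCat.hom_ext
    apply RingHom.ext
    intro b
    exact smul_algebraMap g' b
  apply isQuot_of_isAffine ρ _ hinv
  apply QAt_top_of
  · have h1 := Scheme.ΓSpecIso_naturality (CommRingCat.ofHom (algebraMap B A))
    have h2 : ∀ x, (Scheme.ΓSpecIso (CommRingCat.of A)).hom.hom
        ((Spec.map (CommRingCat.ofHom (algebraMap B A))).appTop.hom x) =
        algebraMap B A ((Scheme.ΓSpecIso (CommRingCat.of B)).hom.hom x) :=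
      fun x => congr($(h1).hom x)
    intro x y hxy
    have h3 := congrArg (Scheme.ΓSpecIso (CommRingCat.of A)).hom.hom hxy
    rw [h2, h2] at h3
    have h4 := FaithfulSMul.algebraMap_injective B A h3
    exact (ConcreteCategory.bijective_of_isIso (Scheme.ΓSpecIso (CommRingCat.of B)).hom).1 h4
  · intro s hs
    have h5 : ∀ g' : G, g' • ((Scheme.ΓSpecIso (CommRingCat.of A)).hom.hom s : A) =
        (Scheme.ΓSpecIso (CommRingCat.of A)).hom.hom s := by
      intro g'
      have h6 : Spec.map (CommRingCat.ofHom (MulSemiringAction.toRingHom G A g')) ∈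
          Set.range (fun g : G => (ρ g).hom) := by
        rw [hρ]
        exact ⟨g', rfl⟩
      obtain ⟨g, hg⟩ := h6
      have hg' : (ρ g).hom = Spec.map (CommRingCat.ofHom (MulSemiringAction.toRingHom G A g')) :=
        hg
      have h7 := hs g
      rw [hg'] at h7
      have h8 := Scheme.ΓSpecIso_naturality
        (CommRingCat.ofHom (MulSemiringAction.toRingHom G A g'))
      have h9 : (Scheme.ΓSpecIso (CommRingCat.of A)).hom.hom
          ((Spec.map (CommRingCat.ofHom (MulSemiringAction.toRingHom G A g'))).appTop.hom s) =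
          g' • ((Scheme.ΓSpecIso (CommRingCat.of A)).hom.hom s : A) := congr($(h8).hom s)
      rw [h7] at h9
      exact h9.symm
    obtain ⟨b, hb⟩ := Algebra.IsInvariant.isInvariant (A := B) (B := A) (G := G) _ h5
    refine ⟨(Scheme.ΓSpecIso (CommRingCat.of B)).inv.hom b, ?_⟩
    have h10 := Scheme.ΓSpecIso_inv_naturality (CommRingCat.ofHom (algebraMap B A))
    have h11 : (Scheme.ΓSpecIso (CommRingCat.of A)).inv.hom (algebraMap B A b) =
        (Spec.map (CommRingCat.ofHom (algebraMap B A))).appTop.hom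
          ((Scheme.ΓSpecIso (CommRingCat.of B)).inv.hom b) := congr($(h10).hom b)
    rw [← h11, hb]
    exact congr($((Scheme.ΓSpecIso (CommRingCat.of A)).hom_inv_id).hom s)

end Spec

section Restrict

theorem appLE_eqToHom {X : Scheme.{u}} (f : X ⟶ X) {A B : X.Opens} (e : A = B)
    (hA : A ≤ f ⁻¹ᵁ A) (hB : B ≤ f ⁻¹ᵁ B) :
    f.appLE B B hB ≫ X.presheaf.map (eqToHom e).op =
      X.presheaf.map (eqToHom e).op ≫ f.appLE A A hA := by
  rw [Scheme.Hom.appLE_map, Scheme.Hom.map_appLE]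

theorem appLE_ι_eq {X : Scheme.{u}} (T : X.Opens) (f : X ⟶ X) (f' : T.toScheme ⟶ T.toScheme)
    (hf : f' ≫ T.ι = T.ι ≫ f) (W : T.toScheme.Opens) (e₁ : W ≤ f' ⁻¹ᵁ W)
    (e₂ : T.ι ''ᵁ W ≤ f ⁻¹ᵁ (T.ι ''ᵁ W)) :
    f'.appLE W W e₁ = f.appLE (T.ι ''ᵁ W) (T.ι ''ᵁ W) e₂ := by
  have hW : W ≤ T.ι ⁻¹ᵁ (T.ι ''ᵁ W) := (T.ι.preimage_image_eq W).ge
  have hι : T.ι.appLE (T.ι ''ᵁ W) W hW = 𝟙 _ := by
    rw [Scheme.Opens.ι_appLE]
    exact X.presheaf.map_id _
  have h1 : T.ι.appLE (T.ι ''ᵁ W) W hW ≫ f'.appLE W W e₁ =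
      f.appLE (T.ι ''ᵁ W) (T.ι ''ᵁ W) e₂ ≫ T.ι.appLE (T.ι ''ᵁ W) W hW := by
    rw [Scheme.Hom.appLE_comp_appLE, Scheme.Hom.appLE_comp_appLE]
    exact appLE_congr_hom hf _ _ _ _
  rw [hι] at h1
  exact (Category.id_comp _).symm.trans (h1.trans (Category.comp_id _))

/-- **S13606** -/
theorem main_S13606 {X Y : Scheme.{u}} {G : Type u} [Group G]
    (ρ : G →* Aut X) (p : X ⟶ Y) (hp : SGA1.IsQuot ρ p) (U : Y.Opens)
    (ρU : G →* Aut (p ⁻¹ᵁ U).toScheme)
    (hρU : ∀ g : G, (ρU g).hom ≫ (p ⁻¹ᵁ U).ι = (p ⁻¹ᵁ U).ι ≫ (ρ g).hom) :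
    SGA1.IsQuot ρU (p ∣_ U) := by
  haveI := hp.affine
  have hinvU : ∀ g : G, (ρU g).hom ≫ (p ∣_ U) = p ∣_ U := by
    intro g
    rw [← cancel_mono U.ι, Category.assoc, morphismRestrict_ι, ← Category.assoc, hρU g,
      Category.assoc, hp.inv g]
  refine ⟨AlgebraicGeometry.IsZariskiLocalAtTarget.restrict hp.affine U, hinvU, ?_, ?_⟩
  · intro V
    rw [morphismRestrict_app]
    have h2 : Function.Injective (X.presheaf.map (eqToHom
        (image_morphismRestrict_preimage p U V)).op).hom :=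
      ((ConcreteCategory.isIso_iff_bijective _).mp inferInstance).1
    exact h2.comp (hp.injective _)
  · intro V s
    constructor
    · rintro ⟨a, rfl⟩ g
      exact sig_app_apply ρU (p ∣_ U) hinvU V g a
    · intro hs
      have e := image_morphismRestrict_preimage p U V
      have hA : ∀ g, (p ⁻¹ᵁ U).ι ''ᵁ ((p ∣_ U) ⁻¹ᵁ V) ≤
          (ρ g).hom ⁻¹ᵁ ((p ⁻¹ᵁ U).ι ''ᵁ ((p ∣_ U) ⁻¹ᵁ V)) := by
        intro g
        rw [e]
        exact SGA1.preimage_le_of_inv ρ p hp.inv g _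
      have h1 : ∀ g, ((ρ g).hom.appLE _ _ (hA g)).hom s = s := by
        intro g
        have h0 := appLE_ι_eq (p ⁻¹ᵁ U) (ρ g).hom (ρU g).hom (hρU g) ((p ∣_ U) ⁻¹ᵁ V)
          (SGA1.preimage_le_of_inv ρU (p ∣_ U) hinvU g V) (hA g)
        rw [← h0]
        exact hs g
      obtain ⟨s', hs'⟩ : ∃ s' : Γ(X, p ⁻¹ᵁ (U.ι ''ᵁ V)),
          s' = (X.presheaf.map (eqToHom e.symm).op).hom s := ⟨_, rfl⟩
      have h2 : ∀ g, ((ρ g).hom.appLE (p ⁻¹ᵁ (U.ι ''ᵁ V)) (p ⁻¹ᵁ (U.ι ''ᵁ V))
          (SGA1.preimage_le_of_inv ρ p hp.inv g (U.ι ''ᵁ V))).hom s' = s' := by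
        intro g
        have h3 := appLE_eqToHom (ρ g).hom e.symm
          (SGA1.preimage_le_of_inv ρ p hp.inv g (U.ι ''ᵁ V)) (hA g)
        have h4 := congr($(h3).hom s)
        rw [hs']
        exact h4.symm.trans (congrArg _ (h1 g))
      obtain ⟨a, ha⟩ := (hp.range_iff _ s').mpr h2
      refine ⟨a, ?_⟩
      rw [morphismRestrict_app]
      change (X.presheaf.map (eqToHom e).op).hom ((p.app (U.ι ''ᵁ V)).hom a) = s
      rw [ha, hs']
      have h5 : X.presheaf.map (eqToHom e.symm).op ≫ X.presheaf.map (eqToHom e).op = 𝟙 _ := by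
        rw [← CategoryTheory.Functor.map_comp, ← op_comp, eqToHom_trans, eqToHom_refl, op_id]
        exact X.presheaf.map_id _
      exact congr($(h5).hom s)

end Restrict

end Groth.Agent.H4.QuotKit
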