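import Mathlib
import Groth.Prelude.Def_SGA1
import Groth.Agent.H4.QuotKit

/-!
# Quotients of schemes by finite groups: restricted actions, affineness, finiteness (helper4)
-/

set_option autoImplicit false
set_option linter.style.haveILetI false
universe u
open CategoryTheory Limits AlgebraicGeometry TopologicalSpace Opposite

namespace Groth.Agent.H4.QuotFin

open Groth.Agent.H2.Quot Groth.Agent.H4.QuotKit

section ResAct
variable {X : Scheme.{u}} {G : Type u} [Group G] (ρ : G →* Aut X) (W : X.Opens)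
  (hW : ∀ g : G, W ≤ (ρ g).hom ⁻¹ᵁ W)

include hW in
theorem range_subset (g : G) :
    Set.range (W.ι ≫ (ρ g).hom) ⊆ Set.range W.ι := by
  rintro _ ⟨x, rfl⟩
  rw [Scheme.Opens.range_ι]
  exact hW g x.2

/-- the restriction of the action of `g` to a stable open -/
noncomputable def resHom (g : G) : W.toScheme ⟶ W.toScheme :=
  IsOpenImmersion.lift W.ι (W.ι ≫ (ρ g).hom) (range_subset ρ W hW g)

theorem resHom_ι (g : G) : resHom ρ W hW g ≫ W.ι = W.ι ≫ (ρ g).hom :=
  IsOpenImmersion.lift_fac _ _ _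

theorem resHom_one : resHom ρ W hW 1 = 𝟙 _ := by
  rw [← cancel_mono W.ι, resHom_ι, map_one, Category.id_comp]
  exact Category.comp_id _

theorem resHom_mul (g h : G) :
    resHom ρ W hW (g * h) = resHom ρ W hW h ≫ resHom ρ W hW g := by
  rw [← cancel_mono W.ι, resHom_ι, Category.assoc, resHom_ι, ← Category.assoc, resHom_ι,
    Category.assoc, map_mul]
  rfl

/-- the restriction of an action to a stable open -/
noncomputable def resAct : G →* Aut W.toScheme where
  toFun g :=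
    { hom := resHom ρ W hW g
      inv := resHom ρ W hW g⁻¹
      hom_inv_id := by rw [← resHom_mul, inv_mul_cancel, resHom_one]
      inv_hom_id := by rw [← resHom_mul, mul_inv_cancel, resHom_one] }
  map_one' := Iso.ext (resHom_one ρ W hW)
  map_mul' g h := Iso.ext (resHom_mul ρ W hW g h)

theorem resAct_ι (g : G) : (resAct ρ W hW g).hom ≫ W.ι = W.ι ≫ (ρ g).hom :=
  resHom_ι ρ W hW g

end ResAct

section Affine

variable {X Y : Scheme.{u}} {G : Type u} [Group G] [Finite G] (ρ : G →* Aut X) (p : X ⟶ Y)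

/-- the quotient of an affine scheme by a finite group is affine -/
theorem isAffine_of_isQuot (hp : SGA1.IsQuot ρ p) [IsAffine X] : IsAffine Y := by
  haveI := hp.affine
  obtain ⟨p₁, hp₁⟩ : ∃ p₁ : X ⟶ Spec Γ(Y, ⊤), p₁ = p ≫ Y.toSpecΓ := ⟨_, rfl⟩
  have hinv₁ : ∀ g, (ρ g).hom ≫ p₁ = p₁ := fun g => by
    rw [hp₁, ← Category.assoc, hp.inv g]
  haveI : IsAffineHom p₁ := inferInstance
  have hQ₁ : SGA1.IsQuot ρ p₁ := by
    apply isQuot_of_isAffine ρ p₁ hinv₁
    have h0 := QAt_of_isQuot hp ⊤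
    have happ : p₁.appTop = Y.toSpecΓ.appTop ≫ p.appTop := by
      rw [hp₁]
      exact Scheme.Hom.comp_appTop _ _
    have hiso : Function.Bijective Y.toSpecΓ.appTop.hom := by
      rw [Scheme.toSpecΓ_appTop]
      exact ConcreteCategory.bijective_of_isIso _
    apply QAt_top_of
    · rw [happ]
      exact (QAt_top_inj ρ p hp.inv h0).comp hiso.1
    · intro s hs
      obtain ⟨a, ha⟩ := QAt_top_range ρ p hp.inv h0 s hs
      obtain ⟨a', rfl⟩ := hiso.2 a
      refine ⟨a', ?_⟩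
      rw [happ]
      exact ha
  obtain ⟨h, hh, -⟩ := s2925 ρ p₁ hQ₁ Y p hp.inv
  have e1 : Y.toSpecΓ ≫ h = 𝟙 Y := by
    obtain ⟨k, -, hk⟩ := s2925 ρ p hp Y p hp.inv
    have ha : p ≫ Y.toSpecΓ ≫ h = p := by rw [← Category.assoc, ← hp₁]; exact hh
    rw [hk (Y.toSpecΓ ≫ h) ha, hk (𝟙 Y) (Category.comp_id _)]
  have e2 : h ≫ Y.toSpecΓ = 𝟙 _ := by
    obtain ⟨k, -, hk⟩ := s2925 ρ p₁ hQ₁ _ p₁ hinv₁
    have ha : p₁ ≫ h ≫ Y.toSpecΓ = p₁ := by rw [← Category.assoc, hh, hp₁]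
    rw [hk (h ≫ Y.toSpecΓ) ha, hk (𝟙 _) (Category.comp_id _)]
  exact ⟨⟨h, e1, e2⟩⟩

end Affine

section Alg

theorem finiteType_of_injective_integral {C B A : Type u} [CommRing C] [CommRing B] [CommRing A]
    [IsNoetherianRing C] (c : C →+* B) (φ : B →+* A) (hφ : Function.Injective φ)
    (hint : φ.IsIntegral) (hft : (φ.comp c).FiniteType) : c.FiniteType := by
  letI := c.toAlgebra
  letI := φ.toAlgebra
  letI := (φ.comp c).toAlgebra
  haveI : IsScalarTower C B A := IsScalarTower.of_algebraMap_eq (fun _ => rfl)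
  haveI hCA : Algebra.FiniteType C A := hft
  haveI hBA : Algebra.FiniteType B A := Algebra.FiniteType.of_restrictScalars_finiteType C B A
  haveI : Algebra.IsIntegral B A := ⟨hint⟩
  haveI : Module.Finite B A := Algebra.IsIntegral.finite
  have h1 : (⊤ : Subalgebra C B).FG := fg_of_fg_of_fg C B A hCA.out Module.Finite.fg_top
    hφ
  exact ⟨h1⟩

end Alg

section Fin

/-- **S2909** -/
theorem main_S2909 {X Y Z : Scheme.{u}} {G : Type u} [Group G] [Finite G] (ρ : G →* Aut X)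
    (p : X ⟶ Y) (hp : SGA1.IsQuot ρ p) (f : X ⟶ Z) (q : Y ⟶ Z) (hq : p ≫ q = f)
    (hρ : ∀ g : G, (ρ g).hom ≫ f = f) :
    (IsAffineHom f ↔ IsAffineHom q) ∧ (IsSeparated f ↔ IsSeparated q) ∧
    (LocallyOfFiniteType f → IsFinite p) ∧
    (IsLocallyNoetherian Z → LocallyOfFiniteType f → QuasiCompact f →
      LocallyOfFiniteType q ∧ QuasiCompact q) := by
  subst hq
  haveI hpaff := hp.affine
  haveI hpint : IsIntegralHom p := s13596 hp
  have hsurj : Function.Surjective p := surjective hp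
  refine ⟨⟨fun hf => ?_, fun hq' => ?_⟩, ⟨fun hf => ?_, fun hq' => ?_⟩, ?_, ?_⟩
  · haveI := hf
    refine ⟨fun W hW => ?_⟩
    have h1 : IsAffineOpen (p ⁻¹ᵁ (q ⁻¹ᵁ W)) := hW.preimage (p ≫ q)
    have h2 := main_S13606 ρ p hp (q ⁻¹ᵁ W)
      (resAct ρ (p ⁻¹ᵁ (q ⁻¹ᵁ W)) (fun g => SGA1.preimage_le_of_inv ρ p hp.inv g _))
      (resAct_ι ρ _ _)
    haveI : IsAffine (p ⁻¹ᵁ (q ⁻¹ᵁ W)).toScheme := h1
    exact isAffine_of_isQuot _ _ h2
  · haveI := hq'
    infer_instance
  · haveI := hf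
    haveI := hf.isClosedImmersion_diagonal
    obtain ⟨P, hPdef⟩ : ∃ P : pullback (p ≫ q) (p ≫ q) ⟶ pullback q q,
        P = pullback.map (p ≫ q) (p ≫ q) q q p p (𝟙 Z) (by simp) (by simp) := ⟨_, rfl⟩
    haveI hP : IsIntegralHom P := by
      rw [hPdef]
      exact MorphismProperty.pullbackMap (P := @IsIntegralHom) hpint hpint rfl rfl
    have e1 : P ≫ pullback.fst q q = pullback.fst _ _ ≫ p := by
      rw [hPdef]
      exact pullback.lift_fst _ _ _
    have e2 : P ≫ pullback.snd q q = pullback.snd _ _ ≫ p := by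
      rw [hPdef]
      exact pullback.lift_snd _ _ _
    have hcomm : pullback.diagonal (p ≫ q) ≫ P = p ≫ pullback.diagonal q := by
      apply pullback.hom_ext
      · rw [Category.assoc, Category.assoc, e1, pullback.diagonal_fst_assoc,
          pullback.diagonal_fst, Category.comp_id]
      · rw [Category.assoc, Category.assoc, e2, pullback.diagonal_snd_assoc,
          pullback.diagonal_snd, Category.comp_id]
    have hrange : Set.range (pullback.diagonal q) =
        P '' Set.range (pullback.diagonal (p ≫ q)) := by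
      ext z
      constructor
      · rintro ⟨y, rfl⟩
        obtain ⟨x, rfl⟩ := hsurj y
        refine ⟨_, ⟨x, rfl⟩, ?_⟩
        exact congrArg (fun k : X ⟶ pullback q q => k x) hcomm
      · rintro ⟨_, ⟨x, rfl⟩, rfl⟩
        exact ⟨p x, (congrArg (fun k : X ⟶ pullback q q => k x) hcomm).symm⟩
    have hclosed : IsClosed (Set.range (pullback.diagonal q)) := by
      rw [hrange]
      exact P.isClosedMap _ (pullback.diagonal (p ≫ q)).isClosedEmbedding.isClosed_range
    exact ⟨IsClosedImmersion.of_isPreimmersion _ hclosed⟩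
  · haveI := hq'
    infer_instance
  · intro hf
    haveI := hf
    haveI := locallyOfFiniteType_of_comp p q
    exact (IsFinite.iff_isIntegralHom_and_locallyOfFiniteType p).mpr ⟨hpint, inferInstance⟩
  · intro hZ hf hfqc
    haveI := hZ
    haveI := hf
    haveI := hfqc
    constructor
    · rw [HasRingHomProperty.iff_exists_appLE (P := @LocallyOfFiniteType)
        (RingHom.finiteType_stableUnderComposition.stableUnderCompositionWithLocalizationAway
          RingHom.finiteType_holdsForLocalizationAway).1]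
      intro y
      obtain ⟨W, hW, hyW, -⟩ := exists_isAffineOpen_mem_and_subset (x := q y) (U := ⊤) trivial
      obtain ⟨V, hV, hyV, hVW⟩ := exists_isAffineOpen_mem_and_subset (x := y) (U := q ⁻¹ᵁ W) hyW
      have hVW' : V ≤ q ⁻¹ᵁ W := hVW
      refine ⟨⟨W, hW⟩, ⟨V, hV⟩, hyV, hVW', ?_⟩
      haveI : IsNoetherianRing Γ(Z, W) := IsLocallyNoetherian.component_noetherian ⟨W, hW⟩
      have hle : p ⁻¹ᵁ V ≤ (p ≫ q) ⁻¹ᵁ W := p.preimage_mono hVW'
      have h1 : RingHom.FiniteType ((p ≫ q).appLE W (p ⁻¹ᵁ V) hle).hom :=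
        HasRingHomProperty.appLE @LocallyOfFiniteType (p ≫ q) hf ⟨W, hW⟩ ⟨p ⁻¹ᵁ V, hV.preimage p⟩ hle
      have h2 : (p ≫ q).appLE W (p ⁻¹ᵁ V) hle = q.appLE W V hVW' ≫ p.app V := by
        rw [Scheme.Hom.app_eq_appLE, Scheme.Hom.appLE_comp_appLE]
      rw [h2] at h1
      exact finiteType_of_injective_integral (q.appLE W V hVW').hom (p.app V).hom
        (hp.injective V) (isIntegral_app hp V) h1
    · refine ⟨fun W hWo hWc => ?_⟩
      have h1 : q ⁻¹' W = p '' ((p ≫ q) ⁻¹' W) := by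
        ext y
        constructor
        · intro hy
          obtain ⟨x, rfl⟩ := hsurj y
          exact ⟨x, hy, rfl⟩
        · rintro ⟨x, hx, rfl⟩
          exact hx
      rw [h1]
      exact (hfqc.isCompact_preimage W hWo hWc).image p.continuous

/-- **S13081** -/
theorem main_S13081 {G : Type u} [Group G] [Finite G] {X XG XH : Scheme.{u}} (ρ : G →* Aut X)
    (p : X ⟶ XG) (hP : SGA1.IsQuot ρ p) (H : Subgroup G) [H.Normal] (pH : X ⟶ XH)
    (hPH : SGA1.IsQuot (ρ.comp H.subtype) pH) (ρbar : G ⧸ H →* Aut XH)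
    (hρbar : ∀ g : G, pH ≫ (ρbar (QuotientGroup.mk g)).hom = (ρ g).hom ≫ pH)
    (r : XH ⟶ XG) (hr : pH ≫ r = p) : SGA1.IsQuot ρbar r := by
  subst hr
  haveI : Surjective pH := ⟨surjective hPH⟩
  haveI : Epi pH := Groth.Agent.S2913.result pH hPH.injective
  haveI := hP.affine
  have hinv : ∀ x : G ⧸ H, (ρbar x).hom ≫ r = r := by
    intro x
    obtain ⟨g, rfl⟩ := QuotientGroup.mk_surjective x
    rw [← cancel_epi pH, ← Category.assoc, hρbar g, Category.assoc, hP.inv g]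
  refine ⟨⟨fun W hW => ?_⟩, hinv, ?_, ?_⟩
  · have h1 : IsAffineOpen (pH ⁻¹ᵁ (r ⁻¹ᵁ W)) := hW.preimage (pH ≫ r)
    have h2 := main_S13606 (ρ.comp H.subtype) pH hPH (r ⁻¹ᵁ W)
      (resAct (ρ.comp H.subtype) (pH ⁻¹ᵁ (r ⁻¹ᵁ W))
        (fun g => SGA1.preimage_le_of_inv (ρ.comp H.subtype) pH hPH.inv g _))
      (resAct_ι (ρ.comp H.subtype) _ _)
    haveI : IsAffine (pH ⁻¹ᵁ (r ⁻¹ᵁ W)).toScheme := h1
    exact isAffine_of_isQuot _ _ h2
  · intro U
    have h1 : (pH ≫ r).app U = r.app U ≫ pH.app (r ⁻¹ᵁ U) := Scheme.Hom.comp_app _ _ _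
    have h2 := hP.injective U
    rw [h1] at h2
    exact Function.Injective.of_comp h2
  · intro U s
    constructor
    · rintro ⟨a, rfl⟩ x
      exact sig_app_apply ρbar r hinv U x a
    · intro hs
      have h1 : (pH ≫ r).app U = r.app U ≫ pH.app (r ⁻¹ᵁ U) := Scheme.Hom.comp_app _ _ _
      have h3 : ∀ g : G, ((ρ g).hom.appLE ((pH ≫ r) ⁻¹ᵁ U) ((pH ≫ r) ⁻¹ᵁ U)
          (SGA1.preimage_le_of_inv ρ (pH ≫ r) hP.inv g U)).hom ((pH.app (r ⁻¹ᵁ U)).hom s) =
          (pH.app (r ⁻¹ᵁ U)).hom s := by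
        intro g
        have hle : pH ⁻¹ᵁ (r ⁻¹ᵁ U) ≤ (ρ g).hom ⁻¹ᵁ (pH ⁻¹ᵁ (r ⁻¹ᵁ U)) :=
          SGA1.preimage_le_of_inv ρ (pH ≫ r) hP.inv g U
        have h4 : (ρbar (QuotientGroup.mk g)).hom.appLE (r ⁻¹ᵁ U) (r ⁻¹ᵁ U)
            (SGA1.preimage_le_of_inv ρbar r hinv _ U) ≫ pH.app (r ⁻¹ᵁ U) =
            pH.app (r ⁻¹ᵁ U) ≫ (ρ g).hom.appLE (pH ⁻¹ᵁ (r ⁻¹ᵁ U)) (pH ⁻¹ᵁ (r ⁻¹ᵁ U)) hle := by
          rw [Scheme.Hom.app_eq_appLE, Scheme.Hom.appLE_comp_appLE,
            Scheme.Hom.appLE_comp_appLE]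
          exact appLE_congr_hom (hρbar g) _ _ _ _
        have h5 := congr($(h4).hom s)
        exact h5.symm.trans (congrArg _ (hs _))
      obtain ⟨a, ha⟩ := (hP.range_iff U _).mpr h3
      refine ⟨a, ?_⟩
      apply hPH.injective (r ⁻¹ᵁ U)
      rw [← ha]
      exact (congr($(h1).hom a)).symm

end Fin

end Groth.Agent.H4.QuotFin
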