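import Mathlib
import Groth.Prelude.Def_SGA1
import Groth.Agent.H4.QuotFin

/-!
# Existence of quotients of schemes by finite groups (helper4)

`main_S2907`: if every orbit is contained in an affine open, the quotient exists.
-/

set_option autoImplicit false
set_option linter.style.haveILetI false
universe u
open CategoryTheory Limits AlgebraicGeometry TopologicalSpace Opposite

namespace Groth.Agent.H4.QuotEx

open Groth.Agent.H2.Quot Groth.Agent.H4.QuotKit Groth.Agent.H4.QuotFin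

section Basics

theorem ι_mem {X : Scheme.{u}} (V : X.Opens) (x : V.toScheme) : V.ι x ∈ V := by
  have h : V.ι x ∈ Set.range V.ι := ⟨x, rfl⟩
  rw [Scheme.Opens.range_ι] at h
  exact h

theorem exists_point {X : Scheme.{u}} (D : X.Opens) (x : X) (hx : x ∈ D) :
    ∃ u : D.toScheme, D.ι u = x := by
  have : x ∈ Set.range D.ι := by rw [Scheme.Opens.range_ι]; exact hx
  exact this

theorem ι_homOfLE_apply {X : Scheme.{u}} {W' W : X.Opens} (h : W' ≤ W) (u : W'.toScheme) :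
    W.ι (X.homOfLE h u) = W'.ι u := by
  rw [← Scheme.Hom.comp_apply, Scheme.homOfLE_ι]

theorem mem_basicOpen_iff {X : Scheme.{u}} {U : X.Opens} (hU : IsAffineOpen U) (a : Γ(X, U))
    (x : X) (hx : x ∈ U) :
    x ∈ X.basicOpen a ↔ a ∉ (hU.primeIdealOf ⟨x, hx⟩).asIdeal := by
  have h1 : hU.fromSpec (hU.primeIdealOf ⟨x, hx⟩) = x := hU.fromSpec_primeIdealOf ⟨x, hx⟩
  have h2 := hU.fromSpec_preimage_basicOpen a
  constructor
  · intro hxa
    have h3 : hU.primeIdealOf ⟨x, hx⟩ ∈ hU.fromSpec ⁻¹ᵁ X.basicOpen a := by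
      show hU.fromSpec (hU.primeIdealOf ⟨x, hx⟩) ∈ X.basicOpen a
      rw [h1]; exact hxa
    rw [h2] at h3
    exact (PrimeSpectrum.mem_basicOpen _ _).mp h3
  · intro hna
    have h3 : hU.primeIdealOf ⟨x, hx⟩ ∈ hU.fromSpec ⁻¹ᵁ X.basicOpen a := by
      rw [h2]; exact (PrimeSpectrum.mem_basicOpen _ _).mpr hna
    have h4 : hU.fromSpec (hU.primeIdealOf ⟨x, hx⟩) ∈ X.basicOpen a := h3
    rwa [h1] at h4

end Basics

section Gen

variable {X Y : Scheme.{u}} {G : Type u} [Group G] {ρ : G →* Aut X} {p : X ⟶ Y}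

theorem act_mul_apply (ρ : G →* Aut X) (g h : G) (x : X) :
    (ρ (g * h)).hom x = (ρ g).hom ((ρ h).hom x) := by
  rw [map_mul]
  rfl

theorem act_one_apply (ρ : G →* Aut X) (x : X) : (ρ 1).hom x = x := by
  rw [map_one]
  rfl

theorem act_inv_apply (ρ : G →* Aut X) (g : G) (x : X) : (ρ g⁻¹).hom ((ρ g).hom x) = x := by
  rw [← act_mul_apply, inv_mul_cancel, act_one_apply]

variable [Finite G]

theorem epi_of_isQuot (hp : SGA1.IsQuot ρ p) : Epi p := by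
  haveI : Surjective p := ⟨surjective hp⟩
  exact Groth.Agent.S2913.result p hp.injective

/-- descending an invariant morphism to the quotient -/
noncomputable def qdesc (hp : SGA1.IsQuot ρ p) {Z : Scheme.{u}} (h : X ⟶ Z)
    (hh : ∀ g : G, (ρ g).hom ≫ h = h) : Y ⟶ Z :=
  (s2925 ρ p hp Z h hh).exists.choose

theorem p_qdesc (hp : SGA1.IsQuot ρ p) {Z : Scheme.{u}} (h : X ⟶ Z)
    (hh : ∀ g : G, (ρ g).hom ≫ h = h) : p ≫ qdesc hp h hh = h :=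
  (s2925 ρ p hp Z h hh).exists.choose_spec

theorem isQuotientMap_of_isQuot (hp : SGA1.IsQuot ρ p) : Topology.IsQuotientMap p := by
  haveI := s13596 hp
  exact p.isClosedMap.isQuotientMap p.continuous (surjective hp)

theorem sat (hp : SGA1.IsQuot ρ p) (O : X.Opens) (hO : ∀ g : G, O ≤ (ρ g).hom ⁻¹ᵁ O) :
    p ⁻¹' (p '' (O : Set X)) = O := by
  ext x
  constructor
  · rintro ⟨u, hu, hux⟩
    obtain ⟨g, rfl⟩ := (orbit hp u x).mp hux
    exact hO g hu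
  · intro hx
    exact ⟨x, hx, rfl⟩

/-- the image of a stable open in the quotient -/
def imOpen (hp : SGA1.IsQuot ρ p) (O : X.Opens) (hO : ∀ g : G, O ≤ (ρ g).hom ⁻¹ᵁ O) : Y.Opens :=
  ⟨p '' (O : Set X), by
    rw [← (isQuotientMap_of_isQuot hp).isOpen_preimage, sat hp O hO]
    exact O.isOpen⟩

theorem preimage_imOpen (hp : SGA1.IsQuot ρ p) (O : X.Opens)
    (hO : ∀ g : G, O ≤ (ρ g).hom ⁻¹ᵁ O) : p ⁻¹ᵁ imOpen hp O hO = O :=
  TopologicalSpace.Opens.ext (sat hp O hO)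

end Gen

section OpenImm

variable {X X' Y Y' : Scheme.{u}} {G : Type u} [Group G] [Finite G] {ρ : G →* Aut X}
  {ρ' : G →* Aut X'} {p : X ⟶ Y} {p' : X' ⟶ Y'} (hp : SGA1.IsQuot ρ p)
  (hp' : SGA1.IsQuot ρ' p') (j : X' ⟶ X) (hj : ∀ g : G, (ρ' g).hom ≫ j = j ≫ (ρ g).hom)

/-- the map induced on quotients by an equivariant morphism -/
noncomputable def qmap : Y' ⟶ Y :=
  qdesc hp' (j ≫ p) (fun g => by rw [← Category.assoc, hj g, Category.assoc, hp.inv g])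

theorem p_qmap : p' ≫ qmap hp hp' j hj = j ≫ p := p_qdesc _ _ _

theorem isOpenImmersion_qmap [IsOpenImmersion j] : IsOpenImmersion (qmap hp hp' j hj) := by
  haveI := epi_of_isQuot hp'
  have hst : ∀ g : G, j.opensRange ≤ (ρ g).hom ⁻¹ᵁ j.opensRange := by
    rintro g _ ⟨x', rfl⟩
    refine ⟨(ρ' g).hom x', ?_⟩
    exact congrArg (fun k : X' ⟶ X => k x') (hj g)
  obtain ⟨V, hV⟩ : ∃ V : Y.Opens, V = imOpen hp j.opensRange hst := ⟨_, rfl⟩
  have hsat : p ⁻¹ᵁ V = j.opensRange := by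
    rw [hV]
    exact preimage_imOpen hp _ hst
  have hstV : ∀ g : G, p ⁻¹ᵁ V ≤ (ρ g).hom ⁻¹ᵁ (p ⁻¹ᵁ V) :=
    fun g => SGA1.preimage_le_of_inv ρ p hp.inv g V
  have hQ : SGA1.IsQuot (resAct ρ (p ⁻¹ᵁ V) hstV) (p ∣_ V) :=
    main_S13606 ρ p hp V _ (resAct_ι ρ _ hstV)
  haveI := epi_of_isQuot hQ
  have hrange : Set.range j = Set.range (p ⁻¹ᵁ V).ι := by
    rw [Scheme.Opens.range_ι, hsat]
    rfl
  obtain ⟨e, he⟩ : ∃ e : X' ≅ (p ⁻¹ᵁ V).toScheme, e.hom ≫ (p ⁻¹ᵁ V).ι = j :=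
    ⟨IsOpenImmersion.isoOfRangeEq j (p ⁻¹ᵁ V).ι hrange,
      IsOpenImmersion.isoOfRangeEq_hom_fac _ _ _⟩
  have heq : ∀ g : G, (ρ' g).hom ≫ e.hom = e.hom ≫ (resAct ρ (p ⁻¹ᵁ V) hstV g).hom := by
    intro g
    rw [← cancel_mono (p ⁻¹ᵁ V).ι, Category.assoc, he, Category.assoc, resAct_ι,
      ← Category.assoc, he, hj g]
  have heq' : ∀ g : G, (resAct ρ (p ⁻¹ᵁ V) hstV g).hom ≫ e.inv = e.inv ≫ (ρ' g).hom := by
    intro g
    rw [← cancel_mono e.hom, Category.assoc, Category.assoc, e.inv_hom_id, Category.comp_id,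
      heq g, e.inv_hom_id_assoc]
  obtain ⟨k₁, hk₁⟩ : ∃ k₁ : Y' ⟶ V.toScheme, p' ≫ k₁ = e.hom ≫ (p ∣_ V) :=
    ⟨qdesc hp' (e.hom ≫ (p ∣_ V)) (fun g => by
      rw [← Category.assoc, heq g, Category.assoc, hQ.inv g]), p_qdesc _ _ _⟩
  obtain ⟨k₂, hk₂⟩ : ∃ k₂ : V.toScheme ⟶ Y', (p ∣_ V) ≫ k₂ = e.inv ≫ p' :=
    ⟨qdesc hQ (e.inv ≫ p') (fun g => by
      rw [← Category.assoc, heq' g, Category.assoc, hp'.inv g]), p_qdesc _ _ _⟩
  have h12 : k₁ ≫ k₂ = 𝟙 _ := by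
    rw [← cancel_epi p', ← Category.assoc, hk₁, Category.assoc, hk₂, e.hom_inv_id_assoc,
      Category.comp_id]
  have h21 : k₂ ≫ k₁ = 𝟙 _ := by
    rw [← cancel_epi (p ∣_ V), ← Category.assoc, hk₂, Category.assoc, hk₁, e.inv_hom_id_assoc,
      Category.comp_id]
  have hfac : qmap hp hp' j hj = k₁ ≫ V.ι := by
    rw [← cancel_epi p', p_qmap, ← Category.assoc, hk₁, Category.assoc, morphismRestrict_ι,
      ← Category.assoc, he]
  haveI : IsIso k₁ := ⟨⟨k₂, h12, h21⟩⟩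
  rw [hfac]
  infer_instance

end OpenImm

section AffQuot

variable {T : Scheme.{u}} {G : Type u} [Group G] (θ : G →* Aut T)

/-- the ring of invariant global sections -/
def invΓ : Subring Γ(T, ⊤) where
  carrier := {a | ∀ g : G, (θ g).hom.appTop.hom a = a}
  mul_mem' {a b} ha hb := by
    intro g
    rw [map_mul, ha g, hb g]
  one_mem' := by
    intro g
    exact map_one _
  add_mem' {a b} ha hb := by
    intro g
    rw [map_add, ha g, hb g]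
  zero_mem' := by
    intro g
    exact map_zero _
  neg_mem' {a} ha := by
    intro g
    rw [map_neg, ha g]

/-- the affine quotient -/
noncomputable abbrev Yaff : Scheme.{u} := Spec (CommRingCat.of (invΓ θ))

/-- the affine quotient map -/
noncomputable def paff : T ⟶ Yaff θ :=
  T.toSpecΓ ≫ Spec.map (CommRingCat.ofHom (invΓ θ).subtype)

theorem paff_inv (g : G) : (θ g).hom ≫ paff θ = paff θ := by
  have h1 : CommRingCat.ofHom (invΓ θ).subtype ≫ (θ g).hom.appTop =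
      CommRingCat.ofHom (invΓ θ).subtype := by
    apply CommRingCat.hom_ext
    apply RingHom.ext
    intro a
    exact a.2 g
  unfold paff
  rw [← Category.assoc, Scheme.toSpecΓ_naturality, Category.assoc, ← Spec.map_comp, h1]

theorem paff_appTop : (paff θ).appTop =
    (Scheme.ΓSpecIso (CommRingCat.of (invΓ θ))).hom ≫ CommRingCat.ofHom (invΓ θ).subtype := by
  unfold paff
  rw [Scheme.Hom.comp_appTop, Scheme.toSpecΓ_appTop, Scheme.ΓSpecIso_naturality]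

theorem isQuot_paff [IsAffine T] [Finite G] : SGA1.IsQuot θ (paff θ) := by
  haveI : IsAffineHom (paff θ) := inferInstance
  apply isQuot_of_isAffine θ (paff θ) (paff_inv θ)
  have hiso : Function.Bijective (Scheme.ΓSpecIso (CommRingCat.of (invΓ θ))).hom.hom :=
    ConcreteCategory.bijective_of_isIso _
  apply QAt_top_of
  · rw [paff_appTop]
    exact (Subtype.val_injective).comp hiso.1
  · intro s hs
    obtain ⟨a, ha⟩ := hiso.2 ⟨s, hs⟩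
    refine ⟨a, ?_⟩
    rw [paff_appTop]
    change ((invΓ θ).subtype ((Scheme.ΓSpecIso (CommRingCat.of (invΓ θ))).hom.hom a)) = s
    rw [ha]
    rfl

end AffQuot

section Transport

theorem QAt_of_restrict {X Y : Scheme.{u}} {G : Type u} [Group G]
    (ρ : G →* Aut X) (p : X ⟶ Y) (hinv : ∀ g : G, (ρ g).hom ≫ p = p) (U : Y.Opens)
    (ρU : G →* Aut (p ⁻¹ᵁ U).toScheme)
    (hρU : ∀ g : G, (ρU g).hom ≫ (p ⁻¹ᵁ U).ι = (p ⁻¹ᵁ U).ι ≫ (ρ g).hom)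
    (hinvU : ∀ g : G, (ρU g).hom ≫ (p ∣_ U) = p ∣_ U) (V : U.toScheme.Opens)
    (h : QAt ρU (p ∣_ U) hinvU V) : QAt ρ p hinv (U.ι ''ᵁ V) := by
  have e := image_morphismRestrict_preimage p U V
  have happ := morphismRestrict_app p U V
  have hiso : Function.Bijective (X.presheaf.map (eqToHom e).op).hom :=
    (ConcreteCategory.isIso_iff_bijective _).mp inferInstance
  constructor
  · have h1 := h.1
    rw [happ] at h1
    exact Function.Injective.of_comp h1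
  · intro s hs
    have hA : ∀ g, (p ⁻¹ᵁ U).ι ''ᵁ ((p ∣_ U) ⁻¹ᵁ V) ≤
        (ρ g).hom ⁻¹ᵁ ((p ⁻¹ᵁ U).ι ''ᵁ ((p ∣_ U) ⁻¹ᵁ V)) := by
      intro g
      rw [e]
      exact SGA1.preimage_le_of_inv ρ p hinv g _
    obtain ⟨s₁, hs₁⟩ : ∃ s₁ : Γ((p ⁻¹ᵁ U).toScheme, (p ∣_ U) ⁻¹ᵁ V),
        s₁ = (X.presheaf.map (eqToHom e).op).hom s := ⟨_, rfl⟩
    have h2 : ∀ g, (sig ρU (p ∣_ U) hinvU V g).hom s₁ = s₁ := by
      intro g
      have h0 := appLE_ι_eq (p ⁻¹ᵁ U) (ρ g).hom (ρU g).hom (hρU g) ((p ∣_ U) ⁻¹ᵁ V)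
        (SGA1.preimage_le_of_inv ρU (p ∣_ U) hinvU g V) (hA g)
      have h3 := appLE_eqToHom (ρ g).hom e (hA g)
        (SGA1.preimage_le_of_inv ρ p hinv g (U.ι ''ᵁ V))
      have h4 := congr($(h3).hom s)
      unfold sig
      rw [h0, hs₁]
      exact h4.symm.trans (congrArg _ (hs g))
    obtain ⟨a, ha⟩ := h.2 s₁ h2
    refine ⟨a, ?_⟩
    apply hiso.1
    rw [← hs₁, ← ha, happ]
    rfl

theorem QAt_top_transport {X Y X' Y' : Scheme.{u}} {G : Type u} [Group G]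
    (ρ : G →* Aut X) (p : X ⟶ Y) (hinv : ∀ g : G, (ρ g).hom ≫ p = p)
    (ρ' : G →* Aut X') (p' : X' ⟶ Y') (hinv' : ∀ g : G, (ρ' g).hom ≫ p' = p')
    (e₁ : X' ≅ X) (e₂ : Y' ≅ Y) (hsq : e₁.hom ≫ p = p' ≫ e₂.hom)
    (heq : ∀ g : G, (ρ' g).hom ≫ e₁.hom = e₁.hom ≫ (ρ g).hom)
    (h : QAt ρ' p' hinv' ⊤) : QAt ρ p hinv ⊤ := by
  have hsq' : p.appTop ≫ e₁.hom.appTop = e₂.hom.appTop ≫ p'.appTop := by
    rw [← Scheme.Hom.comp_appTop, ← Scheme.Hom.comp_appTop, hsq]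
  haveI : IsIso e₁.hom.appTop := inferInstanceAs (IsIso (e₁.hom.app ⊤))
  haveI : IsIso e₂.hom.appTop := inferInstanceAs (IsIso (e₂.hom.app ⊤))
  have h1 : Function.Bijective e₁.hom.appTop.hom := ConcreteCategory.bijective_of_isIso _
  have h2 : Function.Bijective e₂.hom.appTop.hom := ConcreteCategory.bijective_of_isIso _
  have hsq'' : ∀ a, e₁.hom.appTop.hom (p.appTop.hom a) =
      p'.appTop.hom (e₂.hom.appTop.hom a) := fun a => congr($(hsq').hom a)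
  apply QAt_top_of
  · intro a b hab
    apply h2.1
    apply QAt_top_inj ρ' p' hinv' h
    rw [← hsq'', ← hsq'', hab]
  · intro s hs
    have h3 : ∀ g, (ρ' g).hom.appTop.hom (e₁.hom.appTop.hom s) = e₁.hom.appTop.hom s := by
      intro g
      have h4 : e₁.hom.appTop ≫ (ρ' g).hom.appTop = (ρ g).hom.appTop ≫ e₁.hom.appTop := by
        rw [← Scheme.Hom.comp_appTop, ← Scheme.Hom.comp_appTop, heq g]
      have h5 := congr($(h4).hom s)
      exact h5.trans (congrArg _ (hs g))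
    obtain ⟨a', ha'⟩ := QAt_top_range ρ' p' hinv' h _ h3
    obtain ⟨a, rfl⟩ := h2.2 a'
    refine ⟨a, ?_⟩
    apply h1.1
    rw [hsq'', ha']

end Transport

section Diagram

variable {X : Scheme.{u}} {G : Type u} [Group G] [Finite G] (ρ : G →* Aut X)

/-- stable opens -/
def Stable (W : X.Opens) : Prop := ∀ g : G, W ≤ (ρ g).hom ⁻¹ᵁ W

/-- stable affine opens -/
abbrev J : Type u := {W : X.Opens // IsAffineOpen W ∧ Stable ρ W}

/-- the restricted action -/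
noncomputable def act (W : J ρ) : G →* Aut W.1.toScheme := resAct ρ W.1 W.2.2

theorem act_ι (W : J ρ) (g : G) : (act ρ W g).hom ≫ W.1.ι = W.1.ι ≫ (ρ g).hom :=
  resAct_ι ρ W.1 W.2.2 g

theorem act_ι_apply (W : J ρ) (g : G) (u : W.1.toScheme) :
    W.1.ι ((act ρ W g).hom u) = (ρ g).hom (W.1.ι u) := by
  rw [← Scheme.Hom.comp_apply, act_ι, Scheme.Hom.comp_apply]

instance (W : J ρ) : IsAffine W.1.toScheme := W.2.1

/-- the local quotients -/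
noncomputable abbrev Yq (W : J ρ) : Scheme.{u} := Yaff (act ρ W)

/-- the local quotient maps -/
noncomputable def pq (W : J ρ) : W.1.toScheme ⟶ Yq ρ W := paff (act ρ W)

theorem isQuot_pq (W : J ρ) : SGA1.IsQuot (act ρ W) (pq ρ W) := isQuot_paff (act ρ W)

theorem homOfLE_equiv {W' W : J ρ} (h : W'.1 ≤ W.1) (g : G) :
    (act ρ W' g).hom ≫ X.homOfLE h = X.homOfLE h ≫ (act ρ W g).hom := by
  rw [← cancel_mono W.1.ι, Category.assoc, Scheme.homOfLE_ι, act_ι, Category.assoc, act_ι,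
    ← Category.assoc, Scheme.homOfLE_ι]

/-- the transition maps -/
noncomputable def φq {W' W : J ρ} (h : W'.1 ≤ W.1) : Yq ρ W' ⟶ Yq ρ W :=
  qmap (isQuot_pq ρ W) (isQuot_pq ρ W') (X.homOfLE h) (homOfLE_equiv ρ h)

@[reassoc]
theorem pq_φq {W' W : J ρ} (h : W'.1 ≤ W.1) :
    pq ρ W' ≫ φq ρ h = X.homOfLE h ≫ pq ρ W := p_qmap _ _ _ _

instance {W' W : J ρ} (h : W'.1 ≤ W.1) : IsOpenImmersion (φq ρ h) :=
  isOpenImmersion_qmap _ _ _ _

theorem φq_self (W : J ρ) : φq ρ (le_refl W.1) = 𝟙 _ := by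
  haveI := epi_of_isQuot (isQuot_pq ρ W)
  rw [← cancel_epi (pq ρ W), pq_φq, Scheme.homOfLE_rfl, Category.id_comp, Category.comp_id]

theorem φq_comp {W'' W' W : J ρ} (h₁ : W''.1 ≤ W'.1) (h₂ : W'.1 ≤ W.1) :
    φq ρ h₁ ≫ φq ρ h₂ = φq ρ (h₁.trans h₂) := by
  haveI := epi_of_isQuot (isQuot_pq ρ W'')
  rw [← cancel_epi (pq ρ W''), ← Category.assoc, pq_φq, Category.assoc, pq_φq,
    ← Category.assoc, Scheme.homOfLE_homOfLE, pq_φq]

theorem pq_surjective (W : J ρ) : Function.Surjective (pq ρ W) := surjective (isQuot_pq ρ W)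

theorem pq_eq_iff (W : J ρ) (u u' : W.1.toScheme) :
    pq ρ W u = pq ρ W u' ↔ ∃ g : G, (ρ g).hom (W.1.ι u) = W.1.ι u' := by
  rw [orbit (isQuot_pq ρ W) u u']
  constructor
  · rintro ⟨g, rfl⟩
    exact ⟨g, (act_ι_apply ρ W g u).symm⟩
  · rintro ⟨g, hg⟩
    refine ⟨g, ?_⟩
    apply W.1.ι.isOpenEmbedding.injective
    rw [act_ι_apply]
    exact hg

theorem φq_pq_apply {W' W : J ρ} (h : W'.1 ≤ W.1) (u : W'.1.toScheme) :
    φq ρ h (pq ρ W' u) = pq ρ W (X.homOfLE h u) := by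
  rw [← Scheme.Hom.comp_apply, pq_φq, Scheme.Hom.comp_apply]

/-- the diagram of local quotients -/
noncomputable def F : J ρ ⥤ Scheme.{u} where
  obj W := Yq ρ W
  map {W' W} f := φq ρ (leOfHom f)
  map_id W := φq_self ρ W
  map_comp f g := (φq_comp ρ (leOfHom f) (leOfHom g)).symm

instance {W' W : J ρ} (f : W' ⟶ W) : IsOpenImmersion ((F ρ).map f) :=
  inferInstanceAs (IsOpenImmersion (φq ρ (leOfHom f)))

theorem exists_J_sub (W : J ρ) (O : X.Opens) (hO : Stable ρ O) (u : W.1.toScheme)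
    (hu : W.1.ι u ∈ O) : ∃ W' : J ρ, W'.1 ≤ W.1 ∧ W'.1 ≤ O ∧ W.1.ι u ∈ W'.1 := by
  have hQ := isQuot_pq ρ W
  haveI := hQ.affine
  have hOT : ∀ g : G, W.1.ι ⁻¹ᵁ O ≤ (act ρ W g).hom ⁻¹ᵁ (W.1.ι ⁻¹ᵁ O) := by
    intro g x hx
    show W.1.ι ((act ρ W g).hom x) ∈ O
    rw [act_ι_apply]
    exact hO g hx
  obtain ⟨V, hV⟩ : ∃ V, V = imOpen hQ (W.1.ι ⁻¹ᵁ O) hOT := ⟨_, rfl⟩
  have hsat : pq ρ W ⁻¹ᵁ V = W.1.ι ⁻¹ᵁ O := by
    rw [hV]
    exact preimage_imOpen hQ _ hOT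
  have huV : pq ρ W u ∈ V := by
    rw [hV]
    exact ⟨u, hu, rfl⟩
  obtain ⟨f, hfV, huf⟩ :=
    (isAffineOpen_top (Yq ρ W)).exists_basicOpen_le ⟨pq ρ W u, huV⟩ trivial
  obtain ⟨D', hD'⟩ : ∃ D', D' = pq ρ W ⁻¹ᵁ (Yq ρ W).basicOpen f := ⟨_, rfl⟩
  have hD'aff : IsAffineOpen D' := by
    rw [hD']
    exact ((isAffineOpen_top _).basicOpen f).preimage (pq ρ W)
  have hD'O : D' ≤ W.1.ι ⁻¹ᵁ O := by
    rw [hD', ← hsat]
    exact (pq ρ W).preimage_mono hfV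
  have hD'st : ∀ g : G, D' ≤ (act ρ W g).hom ⁻¹ᵁ D' := by
    rw [hD']
    exact fun g => SGA1.preimage_le_of_inv _ _ hQ.inv g _
  refine ⟨⟨W.1.ι ''ᵁ D', hD'aff.image_of_isOpenImmersion W.1.ι, ?_⟩, ?_, ?_, ?_⟩
  · rintro g _ ⟨d, hd, rfl⟩
    refine ⟨(act ρ W g).hom d, hD'st g hd, ?_⟩
    exact act_ι_apply ρ W g d
  · rintro _ ⟨d, -, rfl⟩
    exact ι_mem W.1 d
  · rintro _ ⟨d, hd, rfl⟩
    exact hD'O hd
  · refine ⟨u, ?_, rfl⟩
    rw [hD']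
    exact huf

instance : ((F ρ) ⋙ Scheme.forget).IsLocallyDirected where
  cond {i j k} fi fj xi xj hxij := by
    change (F ρ).map fi xi = (F ρ).map fj xj at hxij
    change φq ρ (leOfHom fi) xi = φq ρ (leOfHom fj) xj at hxij
    obtain ⟨ui, rfl⟩ := pq_surjective ρ i xi
    obtain ⟨uj, rfl⟩ := pq_surjective ρ j xj
    rw [φq_pq_apply, φq_pq_apply] at hxij
    obtain ⟨g, hg⟩ := (pq_eq_iff ρ k _ _).mp hxij
    rw [ι_homOfLE_apply, ι_homOfLE_apply] at hg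
    have huij : j.1.ι uj ∈ i.1 := by
      rw [← hg]
      exact i.2.2 g (ι_mem i.1 ui)
    obtain ⟨l, hlj, hli, hul⟩ := exists_J_sub ρ j i.1 i.2.2 uj huij
    obtain ⟨uD, huD⟩ := exists_point l.1 _ hul
    refine ⟨l, homOfLE hli, homOfLE hlj, pq ρ l uD, ?_, ?_⟩
    · change φq ρ hli (pq ρ l uD) = _
      rw [φq_pq_apply]
      refine ((pq_eq_iff ρ i _ _).mpr ⟨g, ?_⟩).symm
      rw [ι_homOfLE_apply, huD]
      exact hg
    · change φq ρ hlj (pq ρ l uD) = _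
      rw [φq_pq_apply]
      congr 1
      apply j.1.ι.isOpenEmbedding.injective
      rw [ι_homOfLE_apply]
      exact huD

/-- the structure maps into the glued quotient -/
noncomputable def ιc (W : J ρ) : Yq ρ W ⟶ colimit (F ρ) := colimit.ι (F ρ) W

instance (W : J ρ) : IsOpenImmersion (ιc ρ W) :=
  inferInstanceAs (IsOpenImmersion (colimit.ι (F ρ) W))

@[reassoc]
theorem φq_ιc {W' W : J ρ} (h : W'.1 ≤ W.1) : φq ρ h ≫ ιc ρ W = ιc ρ W' :=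
  colimit.w (F ρ) (homOfLE h)

theorem ιc_surj (y : ↥(colimit (F ρ))) : ∃ (W : J ρ) (z : Yq ρ W), ιc ρ W z = y :=
  Scheme.IsLocallyDirected.ι_jointly_surjective (F ρ) y

theorem ιc_eq_imp {W₁ W₂ : J ρ} (z₁ : Yq ρ W₁) (z₂ : Yq ρ W₂)
    (h : ιc ρ W₁ z₁ = ιc ρ W₂ z₂) :
    ∃ (k : J ρ) (h1 : k.1 ≤ W₁.1) (h2 : k.1 ≤ W₂.1) (z : Yq ρ k),
      φq ρ h1 z = z₁ ∧ φq ρ h2 z = z₂ := by
  obtain ⟨k, fi, fj, x, hx1, hx2⟩ := (Scheme.IsLocallyDirected.ι_eq_ι_iff (F := F ρ)).mp h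
  exact ⟨k, leOfHom fi, leOfHom fj, x, hx1, hx2⟩

variable (hJ : ∀ x : X, ∃ W : J ρ, x ∈ W.1)

/-- the cover of `X` by the stable affine opens -/
@[reducible] noncomputable def covU : X.OpenCover where
  I₀ := J ρ
  X W := W.1.toScheme
  f W := W.1.ι
  mem₀ := by
    rw [Scheme.presieve₀_mem_precoverage_iff]
    refine ⟨fun x => ?_, fun W => (inferInstance : IsOpenImmersion W.1.ι)⟩
    obtain ⟨W, hx⟩ := hJ x
    obtain ⟨u, hu⟩ := exists_point W.1 x hx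
    exact ⟨W, u, hu⟩

instance : Preorder (covU ρ hJ).I₀ := inferInstanceAs (Preorder (J ρ))

@[reducible] noncomputable def covU_ld : (covU ρ hJ).LocallyDirected where
  trans {i j} hij := X.homOfLE (show i.1 ≤ j.1 from leOfHom hij)
  trans_id i := Scheme.homOfLE_rfl _ _
  trans_comp hij hjk := (Scheme.homOfLE_homOfLE _ _ _).symm
  w hij := Scheme.homOfLE_ι _ _
  directed {i j} x := by
    have hcond : i.1.ι (pullback.fst i.1.ι j.1.ι x) = j.1.ι (pullback.snd i.1.ι j.1.ι x) := by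
      rw [← Scheme.Hom.comp_apply, ← Scheme.Hom.comp_apply, pullback.condition]
    have hmem : i.1.ι (pullback.fst i.1.ι j.1.ι x) ∈ j.1 := by
      rw [hcond]
      exact ι_mem _ _
    obtain ⟨W', h1, h2, h3⟩ := exists_J_sub ρ i j.1 j.2.2 _ hmem
    obtain ⟨y, hy⟩ := exists_point W'.1 _ h3
    refine ⟨W', homOfLE h1, homOfLE h2, y, ?_⟩
    apply (pullback.fst i.1.ι j.1.ι ≫ i.1.ι).isOpenEmbedding.injective
    rw [← Scheme.Hom.comp_apply, pullback.lift_fst_assoc]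
    show (X.homOfLE h1 ≫ i.1.ι) y = _
    rw [Scheme.homOfLE_ι, hy, Scheme.Hom.comp_apply]
  property_trans {i j} hij :=
    (inferInstance : IsOpenImmersion (X.homOfLE (show i.1 ≤ j.1 from leOfHom hij)))

theorem pc_compat {i j : J ρ} (hij : i.1 ≤ j.1) :
    X.homOfLE hij ≫ pq ρ j ≫ ιc ρ j = pq ρ i ≫ ιc ρ i := by
  rw [← Category.assoc, ← pq_φq ρ hij, Category.assoc, φq_ιc]

/-- the quotient morphism -/
noncomputable def pc : X ⟶ colimit (F ρ) :=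
  letI := covU_ld ρ hJ
  (covU ρ hJ).glueMorphismsOfLocallyDirected
    (fun W => pq ρ W ≫ ιc ρ W)
    (fun {i j} hij => pc_compat ρ (show i.1 ≤ j.1 from leOfHom hij))

@[reassoc]
theorem ι_pc (W : J ρ) : W.1.ι ≫ pc ρ hJ = pq ρ W ≫ ιc ρ W := by
  letI := covU_ld ρ hJ
  exact Scheme.OpenCover.map_glueMorphismsOfLocallyDirected
    (covU ρ hJ)
    (fun W => pq ρ W ≫ ιc ρ W)
    (fun {i j} hij => pc_compat ρ (show i.1 ≤ j.1 from leOfHom hij)) W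

theorem pc_apply (W : J ρ) (u : W.1.toScheme) :
    pc ρ hJ (W.1.ι u) = ιc ρ W (pq ρ W u) := by
  rw [← Scheme.Hom.comp_apply, ι_pc, Scheme.Hom.comp_apply]

theorem pc_inv (g : G) : (ρ g).hom ≫ pc ρ hJ = pc ρ hJ := by
  refine (covU ρ hJ).hom_ext _ _ fun W => ?_
  show W.1.ι ≫ (ρ g).hom ≫ pc ρ hJ = W.1.ι ≫ pc ρ hJ
  rw [← Category.assoc, ← act_ι, Category.assoc, ι_pc, ← Category.assoc, (isQuot_pq ρ W).inv g]

theorem pc_eq_iff (x y : X) : pc ρ hJ x = pc ρ hJ y ↔ ∃ g : G, (ρ g).hom x = y := by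
  constructor
  · intro h
    obtain ⟨W₁, hx⟩ := hJ x
    obtain ⟨u₁, rfl⟩ := exists_point W₁.1 x hx
    obtain ⟨W₂, hy⟩ := hJ y
    obtain ⟨u₂, rfl⟩ := exists_point W₂.1 y hy
    rw [pc_apply, pc_apply] at h
    obtain ⟨k, h1, h2, z, hz1, hz2⟩ := ιc_eq_imp ρ _ _ h
    obtain ⟨u, rfl⟩ := pq_surjective ρ k z
    rw [φq_pq_apply] at hz1 hz2
    obtain ⟨g₁, hg₁⟩ := (pq_eq_iff ρ W₁ _ _).mp hz1
    obtain ⟨g₂, hg₂⟩ := (pq_eq_iff ρ W₂ _ _).mp hz2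
    rw [ι_homOfLE_apply] at hg₁ hg₂
    refine ⟨g₂ * g₁⁻¹, ?_⟩
    rw [← hg₁, act_mul_apply, act_inv_apply]
    exact hg₂
  · rintro ⟨g, rfl⟩
    exact congrArg (fun k : X ⟶ colimit (F ρ) => k x) (pc_inv ρ hJ g).symm

theorem preimage_range (W : J ρ) : pc ρ hJ ⁻¹ᵁ (ιc ρ W).opensRange = W.1 := by
  apply SetLike.ext
  intro x
  constructor
  · rintro ⟨z, hz⟩
    obtain ⟨u, rfl⟩ := pq_surjective ρ W z
    rw [← pc_apply ρ hJ W u] at hz
    obtain ⟨g, hg⟩ := (pc_eq_iff ρ hJ _ _).mp hz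
    rw [← hg]
    exact W.2.2 g (ι_mem W.1 u)
  · intro hx
    obtain ⟨u, rfl⟩ := exists_point W.1 x hx
    exact ⟨pq ρ W u, (pc_apply ρ hJ W u).symm⟩

theorem QAt_pc (W : J ρ) : QAt ρ (pc ρ hJ) (pc_inv ρ hJ) (ιc ρ W).opensRange := by
  obtain ⟨U, hU, e₂, he₂⟩ : ∃ (U : (colimit (F ρ)).Opens) (_ : U = (ιc ρ W).opensRange)
      (e₂ : Yq ρ W ≅ U.toScheme), e₂.hom ≫ U.ι = ιc ρ W :=
    ⟨_, rfl, (ιc ρ W).isoOpensRange, (ιc ρ W).isoOpensRange_hom_ι⟩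
  rw [← hU]
  have hpre : pc ρ hJ ⁻¹ᵁ U = W.1 := by
    rw [hU]
    exact preimage_range ρ hJ W
  have hst : ∀ g : G, pc ρ hJ ⁻¹ᵁ U ≤ (ρ g).hom ⁻¹ᵁ (pc ρ hJ ⁻¹ᵁ U) :=
    fun g => SGA1.preimage_le_of_inv ρ _ (pc_inv ρ hJ) g U
  obtain ⟨ρU, hρUdef⟩ : ∃ ρU, ρU = resAct ρ (pc ρ hJ ⁻¹ᵁ U) hst := ⟨_, rfl⟩
  have hρU : ∀ g : G, (ρU g).hom ≫ (pc ρ hJ ⁻¹ᵁ U).ι = (pc ρ hJ ⁻¹ᵁ U).ι ≫ (ρ g).hom := by
    intro g
    rw [hρUdef]
    exact resAct_ι _ _ _ g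
  have hinvU : ∀ g : G, (ρU g).hom ≫ (pc ρ hJ ∣_ U) = pc ρ hJ ∣_ U := by
    intro g
    rw [← cancel_mono U.ι, Category.assoc, morphismRestrict_ι, ← Category.assoc, hρU g,
      Category.assoc, pc_inv]
  obtain ⟨e₁, he₁⟩ : ∃ e₁ : W.1.toScheme ≅ (pc ρ hJ ⁻¹ᵁ U).toScheme,
      e₁.hom ≫ (pc ρ hJ ⁻¹ᵁ U).ι = W.1.ι :=
    ⟨X.isoOfEq hpre.symm, X.isoOfEq_hom_ι _⟩
  have hsq : e₁.hom ≫ (pc ρ hJ ∣_ U) = pq ρ W ≫ e₂.hom := by
    rw [← cancel_mono U.ι, Category.assoc, morphismRestrict_ι, ← Category.assoc, he₁,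
      Category.assoc, he₂, ι_pc]
  have heq : ∀ g : G, (act ρ W g).hom ≫ e₁.hom = e₁.hom ≫ (ρU g).hom := by
    intro g
    rw [← cancel_mono (pc ρ hJ ⁻¹ᵁ U).ι, Category.assoc, he₁, Category.assoc, hρU g,
      ← Category.assoc, he₁, act_ι]
  have h1 : QAt ρU (pc ρ hJ ∣_ U) hinvU ⊤ :=
    QAt_top_transport ρU _ hinvU (act ρ W) (pq ρ W) (isQuot_pq ρ W).inv e₁ e₂ hsq heq
      (QAt_of_isQuot (isQuot_pq ρ W) ⊤)
  have h2 := QAt_of_restrict ρ (pc ρ hJ) (pc_inv ρ hJ) U ρU hρU hinvU ⊤ h1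
  exact QAt_congr ρ _ _ U.ι_image_top h2

theorem isQuot_pc : SGA1.IsQuot ρ (pc ρ hJ) := by
  haveI : IsAffineHom (pc ρ hJ) := by
    apply isAffineHom_of_forall_exists_isAffineOpen
    intro y
    obtain ⟨W, z, rfl⟩ := ιc_surj ρ y
    refine ⟨(ιc ρ W).opensRange, ⟨z, rfl⟩, isAffineOpen_opensRange (ιc ρ W), ?_⟩
    rw [preimage_range]
    exact W.2.1
  apply isQuot_of_affine_cover ρ (pc ρ hJ) (pc_inv ρ hJ) (fun W : J ρ => (ιc ρ W).opensRange)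
  · rw [eq_top_iff]
    rintro y -
    obtain ⟨W, z, rfl⟩ := ιc_surj ρ y
    exact Opens.mem_iSup.mpr ⟨W, z, rfl⟩
  · intro W
    exact isAffineOpen_opensRange (ιc ρ W)
  · intro W
    exact QAt_pc ρ hJ W

end Diagram

section Exists

variable {X : Scheme.{u}} {G : Type u} [Group G] [Finite G] (ρ : G →* Aut X)

theorem exists_J_mem
    (h : ∀ x : X, ∃ U : X.Opens, IsAffineOpen U ∧ ∀ g : G, (ρ g).hom.base x ∈ U) (x : X) :
    ∃ W : J ρ, x ∈ W.1 := by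
  classical
  cases nonempty_fintype G
  obtain ⟨V, hV, hxV'⟩ := h x
  have hxV : ∀ g : G, (ρ g).hom x ∈ V := hxV'
  obtain ⟨C, hC⟩ : ∃ C : X.Opens, ∀ y, y ∈ C ↔ ∀ g : G, (ρ g).hom y ∈ V := by
    refine ⟨⟨⋂ g : G, (ρ g).hom ⁻¹' (V : Set X),
      isOpen_iInter_of_finite (fun g => V.isOpen.preimage (ρ g).hom.continuous)⟩, fun y => ?_⟩
    exact Set.mem_iInter
  have hCV : C ≤ V := by
    intro y hy
    have h1 := (hC y).mp hy 1
    rwa [act_one_apply] at h1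
  have hxC : ∀ g : G, (ρ g).hom x ∈ C := by
    intro g
    rw [hC]
    intro g'
    rw [← act_mul_apply]
    exact hxV _
  let P : G → Ideal Γ(X, V) := fun g => (hV.primeIdealOf ⟨(ρ g).hom x, hxV g⟩).asIdeal
  let I : Ideal Γ(X, V) := PrimeSpectrum.vanishingIdeal (⇑hV.fromSpec ⁻¹' (C : Set X)ᶜ)
  have hnot : ∀ g, ¬ I ≤ P g := by
    intro g hle
    have h1 : hV.primeIdealOf ⟨(ρ g).hom x, hxV g⟩ ∈
        PrimeSpectrum.zeroLocus (I : Set Γ(X, V)) := by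
      rw [PrimeSpectrum.mem_zeroLocus]
      exact hle
    rw [PrimeSpectrum.zeroLocus_vanishingIdeal_eq_closure] at h1
    have hcl : IsClosed (X := PrimeSpectrum Γ(X, V)) (⇑hV.fromSpec ⁻¹' (C : Set X)ᶜ) :=
      C.isOpen.isClosed_compl.preimage hV.fromSpec.continuous
    have h2 : hV.fromSpec (hV.primeIdealOf ⟨(ρ g).hom x, hxV g⟩) ∈ (C : Set X)ᶜ :=
      hcl.closure_subset h1
    rw [hV.fromSpec_primeIdealOf] at h2
    exact h2 (hxC g)
  obtain ⟨f, hfI, hfP⟩ : ∃ f ∈ I, ∀ g, f ∉ P g := by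
    have h1 := (Ideal.subset_union_prime (s := Finset.univ) (f := P) (1 : G) (1 : G)
      (fun g _ _ _ => (hV.primeIdealOf ⟨(ρ g).hom x, hxV g⟩).isPrime) (I := I)).not.mpr (by
        rintro ⟨g, -, hg⟩
        exact hnot g hg)
    rw [Set.not_subset] at h1
    obtain ⟨f, hfI, hf⟩ := h1
    refine ⟨f, hfI, fun g hg => hf ?_⟩
    exact Set.mem_biUnion (Finset.mem_coe.mpr (Finset.mem_univ g)) hg
  have hD : IsAffineOpen (X.basicOpen f) := hV.basicOpen f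
  have hDV : X.basicOpen f ≤ V := X.basicOpen_le f
  have hDC : X.basicOpen f ≤ C := by
    intro y hy
    by_contra hyC
    have hyV : y ∈ V := hDV hy
    have h1 : hV.primeIdealOf ⟨y, hyV⟩ ∈ ⇑hV.fromSpec ⁻¹' (C : Set X)ᶜ := by
      show hV.fromSpec (hV.primeIdealOf ⟨y, hyV⟩) ∈ (C : Set X)ᶜ
      rw [hV.fromSpec_primeIdealOf]
      exact hyC
    have h2 := (PrimeSpectrum.mem_vanishingIdeal _ _).mp hfI _ h1
    exact (mem_basicOpen_iff hV f y hyV).mp hy h2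
  have horbD : ∀ g : G, (ρ g).hom x ∈ X.basicOpen f := by
    intro g
    rw [mem_basicOpen_iff hV f _ (hxV g)]
    exact hfP g
  have hle : ∀ g : G, X.basicOpen f ≤ (ρ g).hom ⁻¹ᵁ V := by
    intro g y hy
    exact (hC y).mp (hDC hy) g
  obtain ⟨hfun, hhfun⟩ : ∃ hfun : G → Γ(X, X.basicOpen f), ∀ g,
      X.basicOpen (hfun g) = X.basicOpen f ⊓ (ρ g).hom ⁻¹ᵁ X.basicOpen f :=
    ⟨fun g => ((ρ g).hom.appLE V (X.basicOpen f) (hle g)).hom f,
      fun g => Scheme.basicOpen_appLE _ _ _ _ _⟩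
  obtain ⟨N, hN⟩ : ∃ N : Γ(X, X.basicOpen f), N = ∏ g, hfun g := ⟨_, rfl⟩
  have hWchar : ∀ y : X, y ∈ X.basicOpen N ↔ ∀ g : G, (ρ g).hom y ∈ X.basicOpen f := by
    intro y
    constructor
    · intro hy g
      have hyD : y ∈ X.basicOpen f := X.basicOpen_le N hy
      have h1 := (mem_basicOpen_iff hD N y hyD).mp hy
      have h2 : y ∈ X.basicOpen (hfun g) := by
        rw [mem_basicOpen_iff hD (hfun g) y hyD]
        intro hmem
        apply h1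
        rw [hN]
        haveI := (hD.primeIdealOf ⟨y, hyD⟩).isPrime
        exact Ideal.IsPrime.prod_mem_iff.mpr ⟨g, Finset.mem_univ g, hmem⟩
      rw [hhfun g] at h2
      exact h2.2
    · intro hy
      have hyD : y ∈ X.basicOpen f := by
        have h1 := hy 1
        rwa [act_one_apply] at h1
      rw [mem_basicOpen_iff hD N y hyD, hN]
      haveI := (hD.primeIdealOf ⟨y, hyD⟩).isPrime
      rw [Ideal.IsPrime.prod_mem_iff]
      rintro ⟨g, -, hg⟩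
      have h2 : y ∈ X.basicOpen (hfun g) := by
        rw [hhfun g]
        exact ⟨hyD, hy g⟩
      exact (mem_basicOpen_iff hD (hfun g) y hyD).mp h2 hg
  refine ⟨⟨X.basicOpen N, hD.basicOpen N, ?_⟩, (hWchar x).mpr horbD⟩
  intro g y hy
  show (ρ g).hom y ∈ X.basicOpen N
  rw [hWchar] at hy ⊢
  intro g'
  rw [← act_mul_apply]
  exact hy _

/-- **S2907** -/
theorem main_S2907 (h : ∀ x : X, ∃ U : X.Opens, IsAffineOpen U ∧ ∀ g : G, (ρ g).hom.base x ∈ U) :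
    ∃ (Y : Scheme.{u}) (p : X ⟶ Y), SGA1.IsQuot ρ p :=
  ⟨colimit (F ρ), pc ρ (exists_J_mem ρ h), isQuot_pc ρ (exists_J_mem ρ h)⟩

end Exists

end Groth.Agent.H4.QuotEx
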