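import Mathlib
import Groth.Agent.H4.VAmpleRel

set_option autoImplicit false
set_option linter.unusedSectionVars false
set_option linter.unusedVariables false
set_option linter.style.haveILetI false
universe u
open CategoryTheory CategoryTheory.Limits AlgebraicGeometry TopologicalSpace Opposite
open scoped HomogeneousIdeal

namespace Groth.Agent.H4.VAmpleRel2
noncomputable section

open Groth.Agent.LD Groth.Agent.LD.QC Groth.Agent.H8.GTW Groth.Agent.H8.RelTwist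
  Groth.Agent.H8.RelTilde Groth.Agent.H8.ProjTilde

section Rel
variable {X Y : Scheme.{u}}

theorem isAmple_restrict_of_isEmbedding (f : X ⟶ Y) [QuasiCompact f] (L : X.Modules)
    {𝒮 : RelProj.QCGrAlg Y} (hgen : 𝒮.IsGenDegOne) {P : Scheme.{u}} (p : P ⟶ Y)
    (chart : ∀ (U : Y.Opens) (hU : IsAffineOpen U),
      (((p ⁻¹ᵁ U : P.Opens) : Scheme.{u}) ≅ Proj (𝒮.deg U hU)))
    (hP : RelProj.IsRelProj 𝒮 p chart) (O1 : P.Modules)
    (lam : ∀ (U : Y.Opens) (hU : IsAffineOpen U),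
      O1 ⟶ (Scheme.Modules.pushforward (RelProj.emb p chart U hU)).obj
        (GrTwist.twist (𝒮.deg U hU) 1))
    (hO1 : RelProj.IsRelTwist 𝒮 p chart 1 O1 lam) (i : X ⟶ P) (hemb : Topology.IsEmbedding i.base)
    (hi : i ≫ p = f) (τ : L ≅ (Scheme.Modules.pullback i).obj O1)
    (V : Y.Opens) (hV : IsAffineOpen V) :
    CohB1.IsAmple (L.restrict (f ⁻¹ᵁ V).ι) := by
  subst hi
  haveI : CompactSpace (((i ≫ p) ⁻¹ᵁ V : X.Opens) : Scheme.{u}) :=
    Groth.Agent.H5.VAmple.compactSpace_preimage _ hV.isCompact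
  set UX : X.Opens := (i ≫ p) ⁻¹ᵁ V with hUX
  have hirr := irrelevant_eq_span_degOne (𝒮.deg V hV) (hgen V hV)
  have hrange : Set.range (UX.ι ≫ i).base ⊆ Set.range (RelProj.emb p chart V hV).base := by
    rintro _ ⟨x, rfl⟩
    have h1 : (UX.ι ≫ i) x ∈ (RelProj.emb p chart V hV).opensRange := by
      rw [opensRange_emb]
      exact x.2
    exact h1
  let iV : (UX : Scheme.{u}) ⟶ Proj (𝒮.deg V hV) :=
    IsOpenImmersion.lift (RelProj.emb p chart V hV) (UX.ι ≫ i) hrange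
  have hiV : iV ≫ RelProj.emb p chart V hV = UX.ι ≫ i := IsOpenImmersion.lift_fac _ _ _
  have hembV : Topology.IsEmbedding iV := by
    have h1 : Topology.IsEmbedding (UX.ι ≫ i) := by
      rw [Scheme.Hom.comp_base, TopCat.coe_comp]
      exact hemb.comp UX.ι.isEmbedding
    rw [← hiV, Scheme.Hom.comp_base, TopCat.coe_comp] at h1
    exact Topology.IsEmbedding.of_comp iV.continuous (RelProj.emb p chart V hV).continuous h1
  -- finite cover
  have hex : ∀ x : UX, ∃ g : 𝒮.presheaf.obj (op V), g ∈ 𝒮.deg V hV 1 ∧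
      iV x ∈ Proj.basicOpen (𝒮.deg V hV) g := by
    intro x
    obtain ⟨g, hg1, hzg⟩ := exists_mem_basicOpen_of_span hirr (iV x)
    exact ⟨g, hg1, hzg⟩
  choose g hg1 hxg using hex
  obtain ⟨t, ht⟩ := isCompact_univ.elim_finite_subcover
    (fun x : UX => ((iV ⁻¹ᵁ Proj.basicOpen (𝒮.deg V hV) (g x) : (UX : Scheme.{u}).Opens) :
      Set (UX : Scheme.{u})))
    (fun x => (iV ⁻¹ᵁ Proj.basicOpen (𝒮.deg V hV) (g x)).isOpen)
    (fun x _ => Set.mem_iUnion.mpr ⟨x, hxg x⟩)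
  let P0 : (Proj (𝒮.deg V hV)).Opens := ⨆ x : t, Proj.basicOpen (𝒮.deg V hV) (g x.1)
  have hP0c : IsCompact (P0 : Set (Proj (𝒮.deg V hV))) := by
    have h1 : (P0 : Set (Proj (𝒮.deg V hV))) =
        ⋃ x ∈ t, ((Proj.basicOpen (𝒮.deg V hV) (g x) : (Proj (𝒮.deg V hV)).Opens) :
          Set (Proj (𝒮.deg V hV))) := by
      ext y
      simp only [P0, Opens.coe_iSup, Set.mem_iUnion, Subtype.exists, exists_prop]
    rw [h1]
    exact t.isCompact_biUnion fun x _ =>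
      (Proj.isAffineOpen_basicOpen (𝒮.deg V hV) (g x) (hg1 x) Nat.one_pos).isCompact
  haveI : CompactSpace (P0 : Scheme.{u}) := isCompact_iff_compactSpace.mp hP0c
  have hrange0 : Set.range iV.base ⊆ Set.range P0.ι.base := by
    rintro _ ⟨x, rfl⟩
    rw [Scheme.Opens.range_ι]
    obtain ⟨x', hx'⟩ := Set.mem_iUnion.mp (ht (Set.mem_univ x))
    obtain ⟨hx't, hxx'⟩ := Set.mem_iUnion.mp hx'
    exact Opens.mem_iSup.mpr ⟨⟨x', hx't⟩, hxx'⟩
  let i0 : (UX : Scheme.{u}) ⟶ (P0 : Scheme.{u}) := IsOpenImmersion.lift P0.ι iV hrange0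
  have hi0 : i0 ≫ P0.ι = iV := IsOpenImmersion.lift_fac _ _ _
  have hemb0 : Topology.IsEmbedding i0 := by
    have h1 := hembV
    rw [← hi0, Scheme.Hom.comp_base, TopCat.coe_comp] at h1
    exact Topology.IsEmbedding.of_comp i0.continuous P0.ι.continuous h1
  have hamp0 : CohB1.IsAmple ((GrTwist.twist (𝒮.deg V hV) 1).restrict P0.ι) := by
    apply Groth.Agent.H4.VAmpleRel.isAmple_restrict_twist_one hirr P0.ι
    intro y hy
    rw [Scheme.Opens.opensRange_ι] at hy ⊢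
    obtain ⟨x, hx⟩ := Opens.mem_iSup.mp hy
    exact ⟨g x.1, hg1 x.1, hx, le_iSup (fun x : t => Proj.basicOpen (𝒮.deg V hV) (g x.1)) x⟩
  have h1 := Groth.Agent.S9815.result i0 hemb0 _ hamp0
  haveI := isIso_adj_relTwist hO1 V hV
  refine isAmple_of_iso ?_ h1
  exact (Scheme.Modules.pullback i0).mapIso
      ((Scheme.Modules.restrictFunctorIsoPullback P0.ι).app (GrTwist.twist (𝒮.deg V hV) 1)) ≪≫
    (Scheme.Modules.pullbackComp i0 P0.ι).app _ ≪≫
    (Scheme.Modules.pullbackCongr hi0).app _ ≪≫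
    (Scheme.Modules.pullback iV).mapIso
      (asIso (adj (RelProj.emb p chart V hV) O1 _ (lam V hV))).symm ≪≫
    (Scheme.Modules.pullback iV).mapIso
      ((Scheme.Modules.restrictFunctorIsoPullback (RelProj.emb p chart V hV)).app O1) ≪≫
    (Scheme.Modules.pullbackComp iV (RelProj.emb p chart V hV)).app O1 ≪≫
    (Scheme.Modules.pullbackCongr hiV).app O1 ≪≫
    ((Scheme.Modules.pullbackComp UX.ι i).app O1).symm ≪≫
    (Scheme.Modules.pullback UX.ι).mapIso τ.symm ≪≫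
    ((Scheme.Modules.restrictFunctorIsoPullback UX.ι).app L).symm

end Rel

open Groth.Agent.H4.PBundle2 in
theorem isRelAmple_pullback_of_isEmbedding {X Y : Scheme.{u}} (f : X ⟶ Y) [QuasiCompact f]
    (E : Y.Modules) (hE : Coh.IsQCoh E) (𝒮 : RelProj.QCGrAlg Y) (j : E ⟶ 𝒮.toModule)
    (hj : RelProj.IsGrSymAlg E 𝒮 j) (P : Scheme.{u}) (p : P ⟶ Y)
    (chart : ∀ (U : Y.Opens) (hU : IsAffineOpen U), ((p ⁻¹ᵁ U : P.Opens) : Scheme.{u}) ≅ Proj (𝒮.deg U hU))
    (hP : RelProj.IsRelProj 𝒮 p chart) (O1 : P.Modules)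
    (lam : ∀ (U : Y.Opens) (hU : IsAffineOpen U),
      O1 ⟶ (Scheme.Modules.pushforward (RelProj.emb p chart U hU)).obj (GrTwist.twist (𝒮.deg U hU) 1))
    (hO1 : RelProj.IsRelTwist 𝒮 p chart 1 O1 lam)
    (g : X ⟶ P) (hg : g ≫ p = f) (hemb : Topology.IsEmbedding g.base) :
    RelAmple.IsRelAmple f ((Scheme.Modules.pullback g).obj O1) := by
  haveI : E.IsQuasicoherent := hE
  refine ⟨inferInstance, fun V => ?_⟩
  exact isAmple_restrict_of_isEmbedding f _ (genDegOne_of_isGrSymAlg hj) p chart hP O1 lam hO1 g hemb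
    hg (Iso.refl _) V.1 V.2

end
end Groth.Agent.H4.VAmpleRel2
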