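import Mathlib
import Groth.Agent.H4.ProjGen
import Groth.Agent.H4.ProjFT
import Groth.Agent.Lib.Helper8.RelTwist.Inv
import Groth.Agent.H4.VAmpleRel2
import Groth.Agent.S8260
import Groth.Agent.S8284

set_option autoImplicit false
set_option linter.unusedSectionVars false
set_option linter.unusedVariables false
set_option linter.style.haveILetI false
universe u
open CategoryTheory CategoryTheory.Limits AlgebraicGeometry TopologicalSpace Opposite
open scoped HomogeneousIdeal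

namespace Groth.Agent.H4.ProjProper
noncomputable section

open Groth.Agent.H4 MvPolynomial

variable {R A : Type u} [CommRing R] [CommRing A] (𝒜 : ℕ → AddSubgroup A) [GradedRing 𝒜]
  (ψ : R →+* 𝒜 0) (T : Finset A) (hT : ∀ t ∈ T, t ∈ 𝒜 1)
  (hspan : ∀ x ∈ 𝒜 1, ∃ c : A → R, x = ∑ t ∈ T, ((ψ (c t) : 𝒜 0) : A) * t)
  (hgen : Subring.closure ((𝒜 0 : Set A) ∪ (𝒜 1 : Set A)) = ⊤)

/-- the grading of the polynomial ring on the generators. -/
abbrev Mgr : ℕ → Submodule R (MvPolynomial T R) := MvPolynomial.homogeneousSubmodule T R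

instance : GradedAlgebra (Mgr (R := R) T) := MvPolynomial.gradedAlgebra

def ψA : R →+* A := (algebraMap (𝒜 0) A).comp ψ

lemma ψA_apply (r : R) : ψA 𝒜 ψ r = ((ψ r : 𝒜 0) : A) := rfl

def φ0 : MvPolynomial T R →+* A := MvPolynomial.eval₂Hom (ψA 𝒜 ψ) (fun t : T => (t : A))

include hT in
lemma φ0_mem {i : ℕ} {x : MvPolynomial T R} (hx : x ∈ Mgr (R := R) T i) : φ0 𝒜 ψ T x ∈ 𝒜 i := by
  classical
  have hx' : x.IsHomogeneous i := (MvPolynomial.mem_homogeneousSubmodule i x).mp hx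
  rw [φ0, MvPolynomial.coe_eval₂Hom, MvPolynomial.eval₂_eq']
  refine sum_mem fun d hd => ?_
  have hdeg : ∑ t : T, d t = i := by
    have := hx' (MvPolynomial.mem_support_iff.mp hd)
    rw [← this, ← Finsupp.degree_eq_sum d, Finsupp.degree_eq_weight_one]
    rfl
  have h0 : ψA 𝒜 ψ (MvPolynomial.coeff d x) ∈ 𝒜 0 := (ψ _).2
  have h1 : ∏ t : T, ((t : A)) ^ (d t) ∈ 𝒜 (∑ t : T, d t • 1) :=
    SetLike.prod_pow_mem_graded 𝒜 (fun _ => 1) (fun t : T => (t : A)) d (fun t _ => hT t t.2)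
  have h2 := SetLike.mul_mem_graded h0 h1
  have e : 0 + ∑ t : T, d t • 1 = i := by
    rw [zero_add, ← hdeg]
    exact Finset.sum_congr rfl fun t _ => by rw [smul_eq_mul, mul_one]
  rw [e] at h2
  exact h2

def φ : Mgr (R := R) T →+*ᵍ 𝒜 :=
  { φ0 𝒜 ψ T with map_mem := fun hx => φ0_mem 𝒜 ψ T hT hx }

lemma φ_apply (x : MvPolynomial T R) : φ 𝒜 ψ T hT x = φ0 𝒜 ψ T x := rfl

lemma φ_X (t : T) : φ 𝒜 ψ T hT (X t) = (t : A) := by
  rw [φ_apply, φ0, MvPolynomial.coe_eval₂Hom, MvPolynomial.eval₂_X]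

lemma φ_C (r : R) : φ 𝒜 ψ T hT (C r) = ((ψ r : 𝒜 0) : A) := by
  rw [φ_apply, φ0, MvPolynomial.coe_eval₂Hom, MvPolynomial.eval₂_C]; rfl

include hspan in
lemma exists_deg_one (s : A) (hs : s ∈ 𝒜 1) :
    ∃ x : MvPolynomial T R, x ∈ Mgr (R := R) T 1 ∧ φ 𝒜 ψ T hT x = s := by
  classical
  obtain ⟨c, rfl⟩ := hspan s hs
  refine ⟨∑ t : T, C (c t) * X t, ?_, ?_⟩
  · refine sum_mem fun t _ => ?_
    rw [MvPolynomial.mem_homogeneousSubmodule]
    have := (MvPolynomial.isHomogeneous_C T (c t)).mul (MvPolynomial.isHomogeneous_X R t)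
    simpa using this
  · rw [map_sum]
    rw [← Finset.sum_coe_sort T (fun t => ((ψ (c t) : 𝒜 0) : A) * t)]
    refine Finset.sum_congr rfl fun t _ => ?_
    rw [map_mul, φ_C, φ_X]

include hspan hgen in
theorem hφirr : 𝒜₊ ≤ ((Mgr (R := R) T)₊).map (φ 𝒜 ψ T hT) := by
  have hsp : (𝒜₊).toIdeal = Ideal.span (𝒜 1 : Set A) :=
    Groth.Agent.H8.RelTwist.irrelevant_eq_span_degOne 𝒜 hgen
  have hle : Ideal.span (𝒜 1 : Set A) ≤
      Ideal.map (φ 𝒜 ψ T hT) ((Mgr (R := R) T)₊.toIdeal) := by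
    rw [Ideal.span_le]
    intro s hs
    obtain ⟨x, hx, rfl⟩ := exists_deg_one 𝒜 ψ T hT hspan s hs
    exact Ideal.mem_map_of_mem _ (HomogeneousIdeal.mem_irrelevant_of_mem _ one_pos hx)
  rw [HomogeneousIdeal.irrelevant_le]
  intro i hi b hb
  change b ∈ Ideal.map (φ 𝒜 ψ T hT) ((Mgr (R := R) T)₊.toIdeal)
  apply hle
  rw [← hsp]
  exact HomogeneousIdeal.mem_irrelevant_of_mem _ hi hb

/-- degree pieces of the polynomial ring as `ℤ`-submodules. -/
abbrev zsM (n : ℕ) : Submodule ℤ (MvPolynomial T R) :=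
  AddSubgroup.toIntSubmodule (Mgr (R := R) T n).toAddSubgroup

theorem zsM_pow_le (n : ℕ) : zsM (R := R) T 1 ^ n ≤ zsM (R := R) T n := by
  induction n with
  | zero =>
    rw [pow_zero, Submodule.one_le]
    exact SetLike.GradedOne.one_mem (A := Mgr (R := R) T)
  | succ n ih =>
    rw [pow_succ]
    refine (mul_le_mul' ih le_rfl).trans ?_
    exact Submodule.mul_le.2 fun _ hx _ hy => SetLike.mul_mem_graded (A := Mgr (R := R) T) hx hy

include hspan hgen in
theorem surjOn (n : ℕ) (hn : 0 < n) :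
    Set.SurjOn (φ 𝒜 ψ T hT) (Mgr (R := R) T n) (𝒜 n) := by
  classical
  let φℤ : MvPolynomial T R →ₐ[ℤ] A := (φ0 𝒜 ψ T).toIntAlgHom
  have hI : ProjGen.zs 𝒜 1 ≤ Submodule.map φℤ.toLinearMap (zsM (R := R) T 1) := by
    intro s hs
    obtain ⟨x, hx, hxs⟩ := exists_deg_one 𝒜 ψ T hT hspan s hs
    exact ⟨x, hx, hxs⟩
  have h2 : ProjGen.zs 𝒜 n ≤ Submodule.map φℤ.toLinearMap (zsM (R := R) T n) := by
    refine (ProjGen.zs_le_pow 𝒜 hgen n hn).trans ?_
    refine (pow_le_pow_left' hI n).trans ?_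
    rw [← Submodule.map_pow]
    exact Submodule.map_mono (zsM_pow_le T n)
  intro s hs
  obtain ⟨t, ht, hts⟩ := h2 hs
  exact ⟨t, ht, hts⟩

include hspan hgen in
theorem isClosedImmersion_map :
    IsClosedImmersion (Proj.map (φ 𝒜 ψ T hT) (hφirr 𝒜 ψ T hT hspan hgen)) :=
  ProjGen.isClosedImmersion_map_of_surjOn _ _ (fun n hn => surjOn 𝒜 ψ T hT hspan hgen n hn)

lemma algebraMap_zero_surjective :
    Function.Surjective (algebraMap R (Mgr (R := R) T 0)) := by
  intro p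
  have hp : (p : MvPolynomial T R).IsHomogeneous 0 :=
    (MvPolynomial.mem_homogeneousSubmodule _ _).1 p.2
  have h1 : (p : MvPolynomial T R).totalDegree = 0 :=
    Nat.le_zero.1 hp.totalDegree_le
  refine ⟨MvPolynomial.coeff 0 p.1, Subtype.ext ?_⟩
  exact (MvPolynomial.totalDegree_eq_zero_iff_eq_C.1 h1).symm

theorem isProper_poly :
    IsProper (Proj.toSpecZero (Mgr (R := R) T) ≫
      Spec.map (CommRingCat.ofHom (algebraMap R (Mgr (R := R) T 0)))) := by
  haveI : IsScalarTower R (Mgr (R := R) T 0) (MvPolynomial T R) :=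
    ⟨fun a p q => by
      change ((a • p : Mgr (R := R) T 0) : MvPolynomial T R) * q =
        a • ((p : MvPolynomial T R) * q)
      rw [Submodule.coe_smul, smul_mul_assoc]⟩
  haveI : Algebra.FiniteType (Mgr (R := R) T 0) (MvPolynomial T R) :=
    Algebra.FiniteType.of_restrictScalars_finiteType R _ _
  haveI : IsClosedImmersion
      (Spec.map (CommRingCat.ofHom (algebraMap R (Mgr (R := R) T 0)))) :=
    IsClosedImmersion.spec_of_surjective _ (algebraMap_zero_surjective T)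
  haveI h1 : IsProper (Proj.toSpecZero (Mgr (R := R) T)) := inferInstance
  haveI h2 : IsProper
      (Spec.map (CommRingCat.ofHom (algebraMap R (Mgr (R := R) T 0)))) := inferInstance
  exact MorphismProperty.comp_mem _ _ _ h1 h2

include hspan hgen in
theorem map_comp_eq :
    Proj.map (φ 𝒜 ψ T hT) (hφirr 𝒜 ψ T hT hspan hgen) ≫ (Proj.toSpecZero (Mgr (R := R) T) ≫
      Spec.map (CommRingCat.ofHom (algebraMap R (Mgr (R := R) T 0)))) =
    Proj.toSpecZero 𝒜 ≫ Spec.map (CommRingCat.ofHom ψ) := by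
  rw [← Category.assoc, ProjG.map_toSpecZero, Category.assoc, ← Spec.map_comp,
    ← CommRingCat.ofHom_comp]
  congr 3
  ext r
  change φ 𝒜 ψ T hT (algebraMap R (MvPolynomial T R) r) = _
  rw [MvPolynomial.algebraMap_eq, φ_C]

include hT hspan hgen in
/-- **`Proj 𝒜 ⟶ Spec R` is proper** when `𝒜` is generated by `𝒜₀ ∪ 𝒜₁` and `𝒜₁` is spanned over
`R` by finitely many elements. -/
theorem isProper_toSpec : IsProper (Proj.toSpecZero 𝒜 ≫ Spec.map (CommRingCat.ofHom ψ)) := by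
  rw [← map_comp_eq 𝒜 ψ T hT hspan hgen]
  haveI := isClosedImmersion_map 𝒜 ψ T hT hspan hgen
  haveI := isProper_poly (R := R) T
  infer_instance

end
end Groth.Agent.H4.ProjProper

namespace Groth.Agent.H4.ProjProper
noncomputable section
section Rel

theorem isProper_of_genDegOne {Y P : Scheme.{u}} (𝒮 : RelProj.QCGrAlg Y)
    (hgen : 𝒮.IsGenDegOne) (hft : 𝒮.IsFTDeg 1) (p : P ⟶ Y)
    (chart : ∀ (U : Y.Opens) (hU : IsAffineOpen U), (((p ⁻¹ᵁ U : P.Opens) : Scheme.{u}) ≅ Proj (𝒮.deg U hU)))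
    (hP : RelProj.IsRelProj 𝒮 p chart) : IsProper p := by
  rw [IsZariskiLocalAtTarget.iff_of_iSup_eq_top (P := @IsProper) _ (iSup_affineOpens_eq_top Y)]
  rintro ⟨U, hU0⟩
  have hU : IsAffineOpen U := hU0
  change IsProper (p ∣_ U)
  rw [Groth.Agent.S8260.restrict_eq 𝒮 p chart hP U hU]
  obtain ⟨T, hTsub, hTspan⟩ := hft U hU
  have hT : ∀ t ∈ T, t ∈ 𝒮.deg U hU 1 := fun t ht => hTsub ht
  have h1 : IsProper (Proj.toSpecZero (𝒮.deg U hU) ≫
      Spec.map (CommRingCat.ofHom (𝒮.strZero U hU).hom)) :=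
    isProper_toSpec (𝒮.deg U hU) (𝒮.strZero U hU).hom T hT hTspan (hgen U hU)
  rw [CommRingCat.ofHom_hom] at h1
  have e : (chart U hU).hom ≫ Proj.toSpecZero (𝒮.deg U hU) ≫ Spec.map (𝒮.strZero U hU) ≫
      hU.isoSpec.inv = (chart U hU).hom ≫ (Proj.toSpecZero (𝒮.deg U hU) ≫
        Spec.map (𝒮.strZero U hU)) ≫ hU.isoSpec.inv := by
    simp only [Category.assoc]
  rw [e]
  infer_instance

theorem main_S4418 {X Y : Scheme.{u}} (f : X ⟶ Y) (hf : RelProj.IsProjective f) :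
    RelProj.IsQuasiProjective f ∧ IsProper f := by
  obtain ⟨𝒮, P, p, chart, e, hgen, hft, hP, he⟩ := hf
  haveI hp : IsProper p := isProper_of_genDegOne 𝒮 hgen hft p chart hP
  have hprop : IsProper f := by rw [← he]; infer_instance
  haveI := hprop
  refine ⟨⟨inferInstance, inferInstance, ?_⟩, hprop⟩
  obtain ⟨O1, lam, hO1⟩ := Groth.Agent.S8284.result 𝒮 p chart hP 1
  refine ⟨(Scheme.Modules.pullback e.hom).obj O1, inferInstance, fun V => ?_⟩
  exact Groth.Agent.H4.VAmpleRel2.isAmple_restrict_of_isEmbedding f _ hgen p chart hP O1 lam hO1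
    e.hom e.hom.homeomorph.isEmbedding he (Iso.refl _) V.1 V.2

end Rel

end
end Groth.Agent.H4.ProjProper
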