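import Mathlib
import Groth.Agent.Lib.Helper5.VA.E1

set_option autoImplicit false
set_option linter.unusedSectionVars false
set_option linter.unusedVariables false
set_option linter.style.haveILetI false
universe u
open CategoryTheory CategoryTheory.Limits AlgebraicGeometry TopologicalSpace Opposite
  HomogeneousLocalization

namespace Groth.Agent.H4.PnUP
open Groth.Agent.LD Groth.Agent.LD.QC Groth.Agent.H5.VAmple Twist Groth.Agent.H2.PUP
  Groth.Agent.H5.Segre Groth.Agent.H5.VA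

noncomputable section

variable {X : Scheme.{u}} {n : ℕ}

/-- the morphism to `P^n_ℤ` only depends on the isomorphism class of `(L, s)`. -/
theorem toPnZ_congr_iso (M L : X.Modules) (hM : PicF.IsInvertible M) (hL : PicF.IsInvertible L)
    (m : Fin (n + 1) → ProjUP.Γm M) (hm : ProjUP.GeneratedBy M m)
    (s : Fin (n + 1) → ProjUP.Γm L) (hs : ProjUP.GeneratedBy L s)
    (κ : M ≅ L) (hκ : ∀ k, κ.hom.app ⊤ (m k) = s k) :
    toPnZ M hM m hm = toPnZ L hL s hs := by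
  obtain ⟨τ₁, hτ₁⟩ := exists_iso_toPnZ M hM m hm
  obtain ⟨τ₂, hτ₂⟩ := exists_iso_toPnZ L hL s hs
  let O1 := twist (CohB1.polyGrading n (ULift.{u} ℤ)) 1
  refine hom_ext_of_iso (CohB1.polyGrading n (ULift.{u} ℤ)) (ιPn n _) (ιPn_mem n _)
    (isSymmetricAlgebra_ιPn n _) _ _ (specULiftZIsTerminal.hom_ext _ _) (τ₁ ≪≫ κ ≪≫ τ₂.symm)
    (fun j : Fin (n + 1) => ei n (ULift.{u} ℤ) j) (span_single n _) ?_
  intro j
  change τ₂.inv.app ⊤ (κ.hom.app ⊤ (τ₁.hom.app ⊤ _)) = _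
  have h1 : τ₁.hom.app ⊤ (ProjUP.pullSec (toPnZ M hM m hm) O1
      (sec1 (CohB1.polyGrading n (ULift.{u} ℤ)) (xi_mem n (ULift.{u} ℤ) j))) = m j := hτ₁ j
  rw [h1, hκ, ← hτ₂ j]
  have h3 := congrArg (fun φ : (Scheme.Modules.pullback (toPnZ L hL s hs)).obj O1 ⟶
      (Scheme.Modules.pullback (toPnZ L hL s hs)).obj O1 => φ.app ⊤
        (ProjUP.pullSec (toPnZ L hL s hs) O1
          (sec1 (CohB1.polyGrading n (ULift.{u} ℤ)) (xi_mem n (ULift.{u} ℤ) j)))) τ₂.hom_inv_id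
  exact h3

/-- sections of `L` obtained from a morphism to `P^n_ℤ` and an isomorphism `L ≅ i^*O(1)`. -/
def secOf (i : X ⟶ Proj (CohB1.polyGrading n (ULift.{u} ℤ))) (L : X.Modules)
    (θ : L ≅ (Scheme.Modules.pullback i).obj (twist (CohB1.polyGrading n (ULift.{u} ℤ)) 1))
    (k : Fin (n + 1)) : ProjUP.Γm L :=
  θ.inv.app ⊤ (ProjUP.pullSec i (twist (CohB1.polyGrading n (ULift.{u} ℤ)) 1)
    (sec1 (CohB1.polyGrading n (ULift.{u} ℤ)) (xi_mem n (ULift.{u} ℤ) k)))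

theorem generatedBy_secOf (i : X ⟶ Proj (CohB1.polyGrading n (ULift.{u} ℤ))) (L : X.Modules)
    (θ : L ≅ (Scheme.Modules.pullback i).obj (twist (CohB1.polyGrading n (ULift.{u} ℤ)) 1)) :
    ProjUP.GeneratedBy L (secOf i L θ) := by
  apply generatedBy_of_local_basis
  intro x
  obtain ⟨k, hk⟩ := exists_mem_Dp n (ULift.{u} ℤ) (i.base x)
  refine ⟨k, i ⁻¹ᵁ Dp n (ULift.{u} ℤ) k, hk, ?_⟩
  have hb := isBasisOver_res_pullSec_sec1 (CohB1.polyGrading n (ULift.{u} ℤ)) (ιPn n _)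
    (ιPn_mem n _) (isSymmetricAlgebra_ιPn n _) i (xi_mem n (ULift.{u} ℤ) k)
    (le_refl (i ⁻¹ᵁ Dp n (ULift.{u} ℤ) k))
  have hb2 := hb.map_of_bijective θ.inv (fun W _ => app_bijective_of_isIso θ.inv W)
  rw [app_res] at hb2
  exact hb2

/-- every morphism to `P^n_ℤ` is the one attached to the pulled back coordinates. -/
theorem eq_toPnZ (i : X ⟶ Proj (CohB1.polyGrading n (ULift.{u} ℤ))) (L : X.Modules)
    (hL : PicF.IsInvertible L)
    (θ : L ≅ (Scheme.Modules.pullback i).obj (twist (CohB1.polyGrading n (ULift.{u} ℤ)) 1)) :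
    i = toPnZ L hL (secOf i L θ) (generatedBy_secOf i L θ) := by
  obtain ⟨τ₂, hτ₂⟩ := exists_iso_toPnZ L hL (secOf i L θ) (generatedBy_secOf i L θ)
  let O1 := twist (CohB1.polyGrading n (ULift.{u} ℤ)) 1
  refine hom_ext_of_iso (CohB1.polyGrading n (ULift.{u} ℤ)) (ιPn n _) (ιPn_mem n _)
    (isSymmetricAlgebra_ιPn n _) _ _ (specULiftZIsTerminal.hom_ext _ _) (θ.symm ≪≫ τ₂.symm)
    (fun j : Fin (n + 1) => ei n (ULift.{u} ℤ) j) (span_single n _) ?_
  intro j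
  change τ₂.inv.app ⊤ (θ.inv.app ⊤ _) = _
  have h2 : θ.inv.app ⊤ (ProjUP.pullSec i O1
      (sec1 (CohB1.polyGrading n (ULift.{u} ℤ)) (xi_mem n (ULift.{u} ℤ) j))) =
      τ₂.hom.app ⊤ (ProjUP.pullSec (toPnZ L hL (secOf i L θ) (generatedBy_secOf i L θ)) O1
        (sec1 (CohB1.polyGrading n (ULift.{u} ℤ)) (xi_mem n (ULift.{u} ℤ) j))) := (hτ₂ j).symm
  refine (congrArg (τ₂.inv.app ⊤) h2).trans ?_
  have h3 := congrArg (fun φ : (Scheme.Modules.pullback
      (toPnZ L hL (secOf i L θ) (generatedBy_secOf i L θ))).obj O1 ⟶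
      (Scheme.Modules.pullback (toPnZ L hL (secOf i L θ) (generatedBy_secOf i L θ))).obj O1 =>
      φ.app ⊤ (ProjUP.pullSec (toPnZ L hL (secOf i L θ) (generatedBy_secOf i L θ)) O1
          (sec1 (CohB1.polyGrading n (ULift.{u} ℤ)) (xi_mem n (ULift.{u} ℤ) j)))) τ₂.hom_inv_id
  exact h3

/-- every morphism to `P^n_S` is the one attached to sections. -/
theorem eq_toPn {S : Scheme.{u}} (q : X ⟶ S) (i : X ⟶ CohB1.ProjSpaceOver n S)
    (hi : i ≫ pullback.snd (CohB1.ProjSpace.toSpec n (ULift.{u} ℤ))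
      (specULiftZIsTerminal.from S) = q)
    (L : X.Modules) (hL : PicF.IsInvertible L)
    (θ : L ≅ (Scheme.Modules.pullback i).obj (Twist.twistOver n S 1)) :
    ∃ (s : Fin (n + 1) → ProjUP.Γm L) (hs : ProjUP.GeneratedBy L s), i = toPn q L hL s hs := by
  let θ' : L ≅ (Scheme.Modules.pullback (i ≫ pullback.fst (CohB1.ProjSpace.toSpec n (ULift.{u} ℤ))
      (specULiftZIsTerminal.from S))).obj (twist (CohB1.polyGrading n (ULift.{u} ℤ)) 1) :=
    θ ≪≫ (Scheme.Modules.pullbackComp i (pullback.fst (CohB1.ProjSpace.toSpec n (ULift.{u} ℤ))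
      (specULiftZIsTerminal.from S))).app (Twist.twistProjSpace n (ULift.{u} ℤ) 1)
  refine ⟨secOf _ L θ', generatedBy_secOf _ _ _, ?_⟩
  apply pullback.hom_ext
  · exact (eq_toPnZ _ L hL θ').trans (toPn_fst q L hL _ _).symm
  · exact hi.trans (toPn_snd q L hL _ _).symm

end

end Groth.Agent.H4.PnUP
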