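import Mathlib
import Groth.Agent.H4.PnUP
import Groth.Agent.H4.FTImm3
import Groth.Agent.Lib.Lead.QC.RestrictOpen

set_option autoImplicit false
set_option linter.style.haveILetI false
set_option linter.unusedSectionVars false
set_option linter.unusedVariables false

namespace Groth.Agent.H4.LocImm

open CategoryTheory CategoryTheory.Limits AlgebraicGeometry TopologicalSpace Opposite
open HomogeneousLocalization
open Groth.Agent.H6.Sym Groth.Agent.H6 Groth.Agent.LD.QC Groth.Agent.H4.PBundle Groth.Agent.H4.PBundle2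
open Groth.Agent.H4.PBundle3 Groth.Agent.H4.PBLoc Groth.Agent.H4.PBLoc2 Groth.Agent.H4.PBLoc3
open Groth.Agent.H4.ConeImm
open Groth.Agent.H4.PBUniq Groth.Agent.H4.PBEx1 Groth.Agent.H4.PBEx2 Groth.Agent.H4.PBEx4
open Groth.Agent.H4.SegreCh Groth.Agent.H4.SegreVA Groth.Agent.H4.ProjPhi Groth.Agent.H4.TensVA
open Groth.Agent.H8.RelTwist
open scoped HomogeneousIdeal

universe u

noncomputable section

variable {X Y P : Scheme.{u}} {𝒮 : RelProj.QCGrAlg Y} {p : P ⟶ Y}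
  {chart : ∀ (U : Y.Opens) (hU : IsAffineOpen U),
    (((p ⁻¹ᵁ U : P.Opens) : Scheme.{u}) ≅ Proj (𝒮.deg U hU))}
  {O1 : P.Modules}
  {lam : ∀ (U : Y.Opens) (hU : IsAffineOpen U),
    O1 ⟶ (Scheme.Modules.pushforward (RelProj.emb p chart U hU)).obj (GrTwist.twist (𝒮.deg U hU) 1)}
  {E : Y.Modules} [E.IsQuasicoherent] {j : E ⟶ 𝒮.toModule} {L : X.Modules}



lemma comp_app_apply {X : Scheme.{u}} {M N K : X.Modules} (f : M ⟶ N) (g : N ⟶ K) (U : X.Opens)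
    (x : Γ(M, U)) : (f ≫ g).app U x = g.app U (f.app U x) := rfl

lemma restrict_res {X U' : Scheme.{u}} (f : U' ⟶ X) [IsOpenImmersion f] (M : X.Modules)
    {W₁ W₂ : U'.Opens} (h : W₂ ≤ W₁) (a : Γ(M, f ''ᵁ W₁)) :
    (M.restrict f).presheaf.map (homOfLE h).op (show Γ(M.restrict f, W₁) from a) =
      (show Γ(M.restrict f, W₂) from M.presheaf.map (homOfLE (f.image_mono h)).op a) := rfl

lemma isBasisOver_restrict_iff' {X U' : Scheme.{u}} (f : U' ⟶ X) [IsOpenImmersion f]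
    (M : X.Modules) (V : U'.Opens)
    (e : Γ(M.restrict f, V)) (e' : Γ(M, f ''ᵁ V)) (h : e = (show Γ(M.restrict f, V) from e')) :
    IsBasisOver (M.restrict f) V e ↔ IsBasisOver M (f ''ᵁ V) e' := by
  subst h
  exact isBasisOver_restrict_iff f M V e

/-- the open of `P(E)` over `V` where one of the sections `φ(ê k)` generates `O(1)`. -/
def GG (p : P ⟶ Y) (chart : ∀ (U : Y.Opens) (hU : IsAffineOpen U),
    (((p ⁻¹ᵁ U : P.Opens) : Scheme.{u}) ≅ Proj (𝒮.deg U hU))) (j : E ⟶ 𝒮.toModule)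
    (V : Y.Opens) {n : ℕ} (ê : Fin (n + 1) → Γ(E, V)) : P.Opens :=
  ⨆ (k : Fin (n + 1)) (U : Y.affineOpens) (hUV : U.1 ≤ V),
    Dp p chart U.1 U.2 (QA.sec j U.1 (E.presheaf.map (homOfLE hUV).op (ê k)))

lemma mem_GG (V : Y.Opens) {n : ℕ} (ê : Fin (n + 1) → Γ(E, V)) (z : P) :
    z ∈ GG p chart j V ê ↔ ∃ (k : Fin (n + 1)) (U : Y.affineOpens) (hUV : U.1 ≤ V),
      z ∈ Dp p chart U.1 U.2 (QA.sec j U.1 (E.presheaf.map (homOfLE hUV).op (ê k))) := by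
  unfold GG
  simp only [Opens.mem_iSup]

lemma GG_le (V : Y.Opens) {n : ℕ} (ê : Fin (n + 1) → Γ(E, V)) :
    GG p chart j V ê ≤ p ⁻¹ᵁ V := by
  intro z hz
  obtain ⟨k, U, hUV, hz⟩ := (mem_GG V ê z).mp hz
  exact p.preimage_mono hUV (Dp_le p chart U.1 U.2 _ hz)

/-- **local immersion from a local projective-space immersion.** -/
theorem locImm (hj : RelProj.IsGrSymAlg E 𝒮 j) (hP : RelProj.IsRelProj 𝒮 p chart)
    (hO1 : RelProj.IsRelTwist 𝒮 p chart 1 O1 lam)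
    (φ : E ⟶ (Scheme.Modules.pushforward p).obj O1)
    (hφ : ∀ (U : Y.Opens) (hU : IsAffineOpen U) (e : Γ(E, U)),
      Groth.Agent.H4.PBLoc.Reads lam U hU (QA.sec j U e) (φ.app U e))
    (q : X ⟶ Y) (hL : PicF.IsInvertible L)
    (s : (Scheme.Modules.pullback q).obj E ⟶ L)
    (r : X ⟶ P) (hr : r ≫ p = q) (τ : (Scheme.Modules.pullback r).obj O1 ≅ L)
    (hτ : alpha φ q r hr ≫ τ.hom = s)
    (V : Y.Opens) {n : ℕ} (ê : Fin (n + 1) → Γ(E, V))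
    (hM : PicF.IsInvertible (L.restrict (q ⁻¹ᵁ V).ι))
    (m : Fin (n + 1) → ProjUP.Γm (L.restrict (q ⁻¹ᵁ V).ι))
    (hle : (q ⁻¹ᵁ V).ι ''ᵁ ⊤ ≤ q ⁻¹ᵁ V)
    (hmê : ∀ k, m k = (show Γ(L.restrict (q ⁻¹ᵁ V).ι, ⊤) from
       L.presheaf.map (homOfLE hle).op (sig q s V (ê k))))
    (hm : ProjUP.GeneratedBy (L.restrict (q ⁻¹ᵁ V).ι) m)
    (himm : IsImmersion (Groth.Agent.H5.VAmple.toPn (q ∣_ V) (L.restrict (q ⁻¹ᵁ V).ι) hM m hm)) :
    IsImmersion (r ∣_ (p ⁻¹ᵁ V)) := by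
  classical
  subst hr
  haveI : O1.IsQuasicoherent := Groth.Agent.H8.RelTilde.relTwist_isQuasicoherent hO1
  have hgen : 𝒮.IsGenDegOne := genDegOne_of_isGrSymAlg hj
  have hO1inv : PicF.IsInvertible O1 := relTwist_isInvertible hgen hO1
  -- every point over `V` goes to `G`
  have he : (r ≫ p) ⁻¹ᵁ V ≤ r ⁻¹ᵁ GG p chart j V ê := by
    intro x hx
    obtain ⟨U, hU, hxU, hUV⟩ := Opens.isBasis_iff_nbhd.mp Y.isBasis_affineOpens
      (show (r ≫ p).base x ∈ V from hx)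
    replace hU : IsAffineOpen U := hU
    obtain ⟨k, hk⟩ := Groth.Agent.H2.PUP.exists_mem_genLocus (L.restrict ((r ≫ p) ⁻¹ᵁ V).ι) hM m hm
      (⟨x, hx⟩ : ↥((r ≫ p) ⁻¹ᵁ V))
    have hb1 := (le_genLocus_iff_isBasisOver (L.restrict ((r ≫ p) ⁻¹ᵁ V).ι)
      (homOfSection _ (m k))
      (CohB1.genLocus (L.restrict ((r ≫ p) ⁻¹ᵁ V).ι) (homOfSection _ (m k)))).mp le_rfl
    rw [val_homOfSection] at hb1
    generalize CohB1.genLocus (L.restrict ((r ≫ p) ⁻¹ᵁ V).ι) (homOfSection _ (m k)) = W'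
      at hb1 hk
    have hW'V : ((r ≫ p) ⁻¹ᵁ V).ι ''ᵁ W' ≤ (r ≫ p) ⁻¹ᵁ V :=
      (Scheme.Hom.image_mono _ le_top).trans hle
    have hmk : (L.restrict ((r ≫ p) ⁻¹ᵁ V).ι).presheaf.map (homOfLE (le_top : W' ≤ ⊤)).op (m k) =
        (show Γ(L.restrict ((r ≫ p) ⁻¹ᵁ V).ι, W') from
          L.presheaf.map (homOfLE hW'V).op (sig (r ≫ p) s V (ê k))) := by
      rw [hmê k]
      refine (restrict_res ((r ≫ p) ⁻¹ᵁ V).ι L (le_top : W' ≤ ⊤)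
        (L.presheaf.map (homOfLE hle).op (sig (r ≫ p) s V (ê k)))).trans ?_
      exact res_res L hle _ _
    replace hb1 := (isBasisOver_restrict_iff' ((r ≫ p) ⁻¹ᵁ V).ι L W' _ _ hmk).mp hb1
    have hxW' : x ∈ ((r ≫ p) ⁻¹ᵁ V).ι ''ᵁ W' := ⟨⟨x, hx⟩, hk, rfl⟩
    have hWU : ((r ≫ p) ⁻¹ᵁ V).ι ''ᵁ W' ⊓ (r ≫ p) ⁻¹ᵁ U ≤ r ⁻¹ᵁ (p ⁻¹ᵁ U) := inf_le_right
    have hWq : ((r ≫ p) ⁻¹ᵁ V).ι ''ᵁ W' ⊓ (r ≫ p) ⁻¹ᵁ U ≤ (r ≫ p) ⁻¹ᵁ U := inf_le_right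
    have hb2 := hb1.mono (inf_le_left : ((r ≫ p) ⁻¹ᵁ V).ι ''ᵁ W' ⊓ (r ≫ p) ⁻¹ᵁ U ≤ _)
    rw [res_res] at hb2
    have h3 := lsec_res_eq_sig φ (r ≫ p) s r rfl τ hτ U
      (E.presheaf.map (homOfLE hUV).op (ê k)) _ hWq hWU
    rw [sig_res (r ≫ p) s V U hUV (ê k), res_res] at h3
    have hb3 : IsBasisOver L _ (L.presheaf.map (homOfLE hWU).op
        (lsec r τ U (φ.app U (E.presheaf.map (homOfLE hUV).op (ê k))))) := by
      rw [h3]; exact hb2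
    have h4 := le_preimage_Dp_of_isBasisOver r τ hO1 hgen U hU
      (QA.sec j U (E.presheaf.map (homOfLE hUV).op (ê k)))
      (hj.2 U hU (E.presheaf.map (homOfLE hUV).op (ê k)))
      (φ.app U (E.presheaf.map (homOfLE hUV).op (ê k)))
      (hφ U hU (E.presheaf.map (homOfLE hUV).op (ê k))) _ hWU hb3
    exact (mem_GG V ê (r.base x)).mpr ⟨k, ⟨U, hU⟩, hUV, h4 ⟨hxW', hxU⟩⟩
  have hGT : GG p chart j V ê ≤ p ⁻¹ᵁ V := GG_le V ê
  have hN : PicF.IsInvertible ((Scheme.Modules.pullback (GG p chart j V ê).ι).obj O1) :=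
    isInvertible_pullback (g := (GG p chart j V ê).ι) hO1inv
  have e₁ : (⊤ : (GG p chart j V ê).toScheme.Opens) ≤ (GG p chart j V ê).ι ⁻¹ᵁ (p ⁻¹ᵁ V) := by
    intro z _
    exact hGT z.2
  have ht : ProjUP.GeneratedBy ((Scheme.Modules.pullback (GG p chart j V ê).ι).obj O1)
      (fun k => pbSec (GG p chart j V ê).ι O1 e₁ (φ.app V (ê k))) := by
    apply Groth.Agent.H5.Segre.generatedBy_of_local_basis
    intro z
    obtain ⟨k, U, hUV, hz⟩ := (mem_GG V ê z.1).mp z.2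
    refine ⟨k, (GG p chart j V ê).ι ⁻¹ᵁ Dp p chart U.1 U.2
      (QA.sec j U.1 (E.presheaf.map (homOfLE hUV).op (ê k))), hz, ?_⟩
    have hbD := isBasisOver_of_reads hO1 U.1 U.2 _ (hj.2 U.1 U.2 _)
      (φ.app U.1 (E.presheaf.map (homOfLE hUV).op (ê k))) (hφ U.1 U.2 _)
    have hbp := hbD.pullback (g := (GG p chart j V ê).ι)
      (U' := (GG p chart j V ê).ι ⁻¹ᵁ Dp p chart U.1 U.2
        (QA.sec j U.1 (E.presheaf.map (homOfLE hUV).op (ê k)))) le_rfl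
    have hDV : Dp p chart U.1 U.2 (QA.sec j U.1 (E.presheaf.map (homOfLE hUV).op (ê k))) ≤
        p ⁻¹ᵁ V := (Dp_le p chart U.1 U.2 _).trans (p.preimage_mono hUV)
    have h1 := pbSec_res (GG p chart j V ê).ι O1 e₁
      (le_refl ((GG p chart j V ê).ι ⁻¹ᵁ Dp p chart U.1 U.2
        (QA.sec j U.1 (E.presheaf.map (homOfLE hUV).op (ê k))))) le_top hDV (φ.app V (ê k))
    rw [← h1]
    have h2 : O1.presheaf.map (homOfLE hDV).op (φ.app V (ê k)) =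
        O1.presheaf.map (homOfLE (Dp_le p chart U.1 U.2 _)).op
          (φ.app U.1 (E.presheaf.map (homOfLE hUV).op (ê k))) := by
      rw [app_res φ hUV (ê k)]
      exact (res_res O1 (p.preimage_mono hUV) (Dp_le p chart U.1 U.2 _) _).symm
    rw [h2]
    exact hbp
  have hrV : r.resLE (GG p chart j V ê) ((r ≫ p) ⁻¹ᵁ V) he ≫ (GG p chart j V ê).ι =
      ((r ≫ p) ⁻¹ᵁ V).ι ≫ r := Scheme.Hom.resLE_comp_ι r he
  have hpG : p.resLE V (GG p chart j V ê) hGT ≫ V.ι = (GG p chart j V ê).ι ≫ p :=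
    Scheme.Hom.resLE_comp_ι p hGT
  have hN' : PicF.IsInvertible ((Scheme.Modules.pullback
      (r.resLE (GG p chart j V ê) ((r ≫ p) ⁻¹ᵁ V) he)).obj
      ((Scheme.Modules.pullback (GG p chart j V ê).ι).obj O1)) :=
    isInvertible_pullback (g := r.resLE (GG p chart j V ê) ((r ≫ p) ⁻¹ᵁ V) he) hN
  have ht' := Groth.Agent.H5.VA.generatedBy_pullSec
    (r.resLE (GG p chart j V ê) ((r ≫ p) ⁻¹ᵁ V) he)
    ((Scheme.Modules.pullback (GG p chart j V ê).ι).obj O1) hN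
    (fun k => pbSec (GG p chart j V ê).ι O1 e₁ (φ.app V (ê k))) ht
  -- the comparison isomorphism
  let κ : (Scheme.Modules.pullback (r.resLE (GG p chart j V ê) ((r ≫ p) ⁻¹ᵁ V) he)).obj
      ((Scheme.Modules.pullback (GG p chart j V ê).ι).obj O1) ≅
      L.restrict ((r ≫ p) ⁻¹ᵁ V).ι :=
    (Scheme.Modules.pullbackComp (r.resLE (GG p chart j V ê) ((r ≫ p) ⁻¹ᵁ V) he)
      (GG p chart j V ê).ι).app O1 ≪≫
    (Scheme.Modules.pullbackCongr hrV).app O1 ≪≫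
    ((Scheme.Modules.pullbackComp ((r ≫ p) ⁻¹ᵁ V).ι r).app O1).symm ≪≫
    (Scheme.Modules.pullback ((r ≫ p) ⁻¹ᵁ V).ι).mapIso τ ≪≫
    ((Scheme.Modules.restrictFunctorIsoPullback ((r ≫ p) ⁻¹ᵁ V).ι).app L).symm
  have hκ : ∀ k, κ.hom.app ⊤ (ProjUP.pullSec (r.resLE (GG p chart j V ê) ((r ≫ p) ⁻¹ᵁ V) he)
      ((Scheme.Modules.pullback (GG p chart j V ê).ι).obj O1)
      (pbSec (GG p chart j V ê).ι O1 e₁ (φ.app V (ê k)))) = m k := by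
    intro k
    have eW : (⊤ : ((r ≫ p) ⁻¹ᵁ V).toScheme.Opens) ≤
        ((r ≫ p) ⁻¹ᵁ V).ι ⁻¹ᵁ (r ⁻¹ᵁ (p ⁻¹ᵁ V)) := fun z _ => z.2
    have eWV' : (⊤ : ((r ≫ p) ⁻¹ᵁ V).toScheme.Opens) ≤
        (((r ≫ p) ⁻¹ᵁ V).ι ≫ r) ⁻¹ᵁ (p ⁻¹ᵁ V) := fun z _ => z.2
    have eWV : (⊤ : ((r ≫ p) ⁻¹ᵁ V).toScheme.Opens) ≤
        (r.resLE (GG p chart j V ê) ((r ≫ p) ⁻¹ᵁ V) he ≫ (GG p chart j V ê).ι) ⁻¹ᵁ (p ⁻¹ᵁ V) := by
      rw [hrV]; exact eWV'
    have s1 : ((Scheme.Modules.pullbackComp (r.resLE (GG p chart j V ê) ((r ≫ p) ⁻¹ᵁ V) he)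
        (GG p chart j V ê).ι).hom.app O1).app ⊤
        (ProjUP.pullSec (r.resLE (GG p chart j V ê) ((r ≫ p) ⁻¹ᵁ V) he)
          ((Scheme.Modules.pullback (GG p chart j V ê).ι).obj O1)
          (pbSec (GG p chart j V ê).ι O1 e₁ (φ.app V (ê k)))) =
        pbSec (r.resLE (GG p chart j V ê) ((r ≫ p) ⁻¹ᵁ V) he ≫ (GG p chart j V ê).ι) O1 eWV
          (φ.app V (ê k)) := by
      rw [Groth.Agent.H2.PUP.pullSec_eq_pbSec]
      exact pbSec_comp' (r.resLE (GG p chart j V ê) ((r ≫ p) ⁻¹ᵁ V) he) (GG p chart j V ê).ι O1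
        (le_refl _) e₁ eWV (φ.app V (ê k))
    have s2 := pbSec_congr hrV O1 eWV eWV' (φ.app V (ê k))
    have s3 := pbSec_comp ((r ≫ p) ⁻¹ᵁ V).ι r O1 eW (le_refl (r ⁻¹ᵁ (p ⁻¹ᵁ V))) eWV'
      (φ.app V (ê k))
    have s4 := pbSec_naturality ((r ≫ p) ⁻¹ᵁ V).ι τ.hom eW
      (pbSec r O1 (le_refl (r ⁻¹ᵁ (p ⁻¹ᵁ V))) (φ.app V (ê k)))
    have s5 : τ.hom.app (r ⁻¹ᵁ (p ⁻¹ᵁ V)) (pbSec r O1 (le_refl (r ⁻¹ᵁ (p ⁻¹ᵁ V))) (φ.app V (ê k))) =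
        sig (r ≫ p) s V (ê k) := by
      have h := lsec_res_eq_sig φ (r ≫ p) s r rfl τ hτ V (ê k) ((r ≫ p) ⁻¹ᵁ V) le_rfl le_rfl
      exact ((res_self L _ _).symm.trans h).trans (res_self L _ _)
    have s6 := pbSec_restrict ((r ≫ p) ⁻¹ᵁ V).ι L eW (sig (r ≫ p) s V (ê k))
    have hκdef : κ.hom =
        (Scheme.Modules.pullbackComp (r.resLE (GG p chart j V ê) ((r ≫ p) ⁻¹ᵁ V) he)
          (GG p chart j V ê).ι).hom.app O1 ≫
        (Scheme.Modules.pullbackCongr hrV).hom.app O1 ≫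
        (Scheme.Modules.pullbackComp ((r ≫ p) ⁻¹ᵁ V).ι r).inv.app O1 ≫
        (Scheme.Modules.pullback ((r ≫ p) ⁻¹ᵁ V).ι).map τ.hom ≫
        (Scheme.Modules.restrictFunctorIsoPullback ((r ≫ p) ⁻¹ᵁ V).ι).inv.app L := rfl
    rw [hκdef, comp_app_apply, comp_app_apply, comp_app_apply, comp_app_apply]
    rw [s1, s2, s3, s4, s5, s6, hmê k]
    have h7 := congrArg (fun ψ : L.restrict ((r ≫ p) ⁻¹ᵁ V).ι ⟶ L.restrict ((r ≫ p) ⁻¹ᵁ V).ι =>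
      ψ.app ⊤ (show Γ(L.restrict ((r ≫ p) ⁻¹ᵁ V).ι, ⊤) from
        L.presheaf.map (homOfLE hle).op (sig (r ≫ p) s V (ê k))))
      ((Scheme.Modules.restrictFunctorIsoPullback ((r ≫ p) ⁻¹ᵁ V).ι).app L).hom_inv_id
    exact h7
  have key : r.resLE (GG p chart j V ê) ((r ≫ p) ⁻¹ᵁ V) he ≫
      Groth.Agent.H5.VAmple.toPn (p.resLE V (GG p chart j V ê) hGT)
        ((Scheme.Modules.pullback (GG p chart j V ê).ι).obj O1) hN
        (fun k => pbSec (GG p chart j V ê).ι O1 e₁ (φ.app V (ê k))) ht =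
      Groth.Agent.H5.VAmple.toPn ((r ≫ p) ∣_ V) (L.restrict ((r ≫ p) ⁻¹ᵁ V).ι) hM m hm := by
    apply pullback.hom_ext
    · refine (Category.assoc _ _ _).trans ?_
      refine (congrArg (fun t => r.resLE (GG p chart j V ê) ((r ≫ p) ⁻¹ᵁ V) he ≫ t)
        (Groth.Agent.H5.VAmple.toPn_fst _ _ hN _ ht)).trans ?_
      refine Eq.trans ?_ (Groth.Agent.H5.VAmple.toPn_fst _ _ hM m hm).symm
      refine (Groth.Agent.H5.VA.toPnZ_pullback (r.resLE (GG p chart j V ê) ((r ≫ p) ⁻¹ᵁ V) he)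
        ((Scheme.Modules.pullback (GG p chart j V ê).ι).obj O1) hN
        (fun k => pbSec (GG p chart j V ê).ι O1 e₁ (φ.app V (ê k))) ht hN' ht').symm.trans ?_
      exact Groth.Agent.H4.PnUP.toPnZ_congr_iso _ _ hN' hM _ ht' m hm κ hκ
    · refine (Category.assoc _ _ _).trans ?_
      refine (congrArg (fun t => r.resLE (GG p chart j V ê) ((r ≫ p) ⁻¹ᵁ V) he ≫ t)
        (Groth.Agent.H5.VAmple.toPn_snd _ _ hN _ ht)).trans ?_
      refine Eq.trans ?_ (Groth.Agent.H5.VAmple.toPn_snd _ _ hM m hm).symm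
      rw [← cancel_mono V.ι, Category.assoc, hpG, ← Category.assoc, hrV, morphismRestrict_ι,
        Category.assoc]
  haveI : IsImmersion (r.resLE (GG p chart j V ê) ((r ≫ p) ⁻¹ᵁ V) he ≫
      Groth.Agent.H5.VAmple.toPn (p.resLE V (GG p chart j V ê) hGT)
        ((Scheme.Modules.pullback (GG p chart j V ê).ι).obj O1) hN
        (fun k => pbSec (GG p chart j V ê).ι O1 e₁ (φ.app V (ê k))) ht) := by
    rw [key]; exact himm
  haveI : IsImmersion (r.resLE (GG p chart j V ê) ((r ≫ p) ⁻¹ᵁ V) he) :=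
    IsImmersion.of_comp _ (Groth.Agent.H5.VAmple.toPn (p.resLE V (GG p chart j V ê) hGT)
        ((Scheme.Modules.pullback (GG p chart j V ê).ι).obj O1) hN
        (fun k => pbSec (GG p chart j V ê).ι O1 e₁ (φ.app V (ê k))) ht)
  have h2 : (r ∣_ (p ⁻¹ᵁ V)) ≫ (p ⁻¹ᵁ V).ι =
      r.resLE (GG p chart j V ê) ((r ≫ p) ⁻¹ᵁ V) he ≫ (GG p chart j V ê).ι := by
    rw [morphismRestrict_ι, hrV]
    rfl
  haveI : IsImmersion ((r ∣_ (p ⁻¹ᵁ V)) ≫ (p ⁻¹ᵁ V).ι) := by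
    rw [h2]
    exact (inferInstance : IsImmersion (r.resLE (GG p chart j V ê) ((r ≫ p) ⁻¹ᵁ V) he ≫
      (GG p chart j V ê).ι))
  exact IsImmersion.of_comp _ (p ⁻¹ᵁ V).ι

end

end Groth.Agent.H4.LocImm
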