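import Mathlib
import Groth.Agent.H4.LocImm
import Groth.Agent.Lib.Helper5.AG.ProjProper
import Groth.Agent.Lib.Lead.QC.Counit

set_option autoImplicit false
set_option linter.style.haveILetI false
set_option linter.unusedSectionVars false
set_option linter.unusedVariables false

namespace Groth.Agent.H4.VALocal

open CategoryTheory CategoryTheory.Limits AlgebraicGeometry TopologicalSpace Opposite
open HomogeneousLocalization
open Groth.Agent.H6.Sym Groth.Agent.H6 Groth.Agent.LD.QC Groth.Agent.H4.PBundle Groth.Agent.H4.PBundle2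
open Groth.Agent.H4.PBundle3 Groth.Agent.H4.PBLoc Groth.Agent.H4.PBLoc2 Groth.Agent.H4.PBLoc3
open Groth.Agent.H4.ConeImm
open Groth.Agent.H4.PBUniq Groth.Agent.H4.PBEx1 Groth.Agent.H4.PBEx2 Groth.Agent.H4.PBEx4
open Groth.Agent.H4.SegreCh Groth.Agent.H4.SegreVA Groth.Agent.H4.ProjPhi Groth.Agent.H4.TensVA
open Groth.Agent.H8.RelTwist Groth.Agent.H4.LocImm
open scoped HomogeneousIdeal

universe u

noncomputable section

/-- the counit section: for `E = f_* L`, the section attached to `a ∈ Γ(E, V) = Γ(L, f⁻¹ V)` is `a`. -/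
lemma sig_counit {X S : Scheme.{u}} (f : X ⟶ S) (L : X.Modules) (V : S.Opens) (a : Γ(L, f ⁻¹ᵁ V)) :
    sig f ((Scheme.Modules.pullbackPushforwardAdjunction f).counit.app L) V
      (show Γ((Scheme.Modules.pushforward f).obj L, V) from a) = a := by
  unfold sig
  refine (counit_pbSec f L (le_refl (f ⁻¹ᵁ V)) a).trans ?_
  exact res_self L _ _

/-- **local projective-space very ampleness implies very ampleness** (EGA II 4.4.10 (ii) ⇒ (i)). -/
theorem main {X S : Scheme.{u}} (f : X ⟶ S)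
    [LocallyOfFiniteType f] [QuasiCompact f] (L : X.Modules) (hLinv : PicF.IsInvertible L)
    {ι : Type u} (V : ι → S.Opens) (hV : (⨆ j, V j) = ⊤)
    (h : ∀ j, RelAmple.IsRelVeryAmplePn (f ∣_ V j) (L.restrict (f ⁻¹ᵁ V j).ι)) :
    RelProj.IsRelVeryAmple f L := by
  classical
  haveI hLq : L.IsQuasicoherent := qc_of_isInvertible L hLinv
  choose n i himm hi θ using h
  have hLj : ∀ j, PicF.IsInvertible (L.restrict (f ⁻¹ᵁ V j).ι) := fun j =>
    isInvertible_restrict (f ⁻¹ᵁ V j).ι hLinv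
  choose m hm hieq using fun j =>
    Groth.Agent.H4.PnUP.eq_toPn (f ∣_ V j) (i j) (hi j) (L.restrict (f ⁻¹ᵁ V j).ι) (hLj j)
      (θ j).some
  -- `f` is separated
  haveI hsep : IsSeparated f := by
    apply IsZariskiLocalAtTarget.of_iSup_eq_top (P := @IsSeparated) V hV
    intro j
    haveI := himm j
    haveI : IsProper (CohB1.ProjSpace.toSpec (n j) (ULift.{u} ℤ)) :=
      Groth.Agent.H5.AG.isProper_toSpec (n j) (ULift.{u} ℤ)
    haveI : IsSeparated (pullback.snd (CohB1.ProjSpace.toSpec (n j) (ULift.{u} ℤ))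
      (specULiftZIsTerminal.from (V j).toScheme)) := inferInstance
    rw [← hi j]
    have h1 : IsSeparated (i j) := inferInstance
    exact MorphismProperty.comp_mem (@IsSeparated) (i j) _ h1 this
  haveI : QuasiSeparated f := inferInstance
  haveI hEq : ((Scheme.Modules.pushforward f).obj L).IsQuasicoherent := qc_pushforward f L
  have hge : ∀ j, f ⁻¹ᵁ V j ≤ (f ⁻¹ᵁ V j).ι ''ᵁ ⊤ := fun j => (Scheme.Opens.ι_image_top _).ge
  have hle : ∀ j, (f ⁻¹ᵁ V j).ι ''ᵁ ⊤ ≤ f ⁻¹ᵁ V j := fun j => (Scheme.Opens.ι_image_top _).le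
  -- the sections of `f_* L` over `V j`
  let ê : ∀ j, Fin (n j + 1) → Γ((Scheme.Modules.pushforward f).obj L, V j) := fun j k =>
    (show Γ((Scheme.Modules.pushforward f).obj L, V j) from
      L.presheaf.map (homOfLE (hge j)).op (show Γ(L, (f ⁻¹ᵁ V j).ι ''ᵁ ⊤) from m j k))
  have hmê : ∀ j k, m j k = (show Γ(L.restrict (f ⁻¹ᵁ V j).ι, ⊤) from
      L.presheaf.map (homOfLE (hle j)).op
        (sig f ((Scheme.Modules.pullbackPushforwardAdjunction f).counit.app L) (V j) (ê j k))) := by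
    intro j k
    have h1 := sig_counit f L (V j) (L.presheaf.map (homOfLE (hge j)).op
      (show Γ(L, (f ⁻¹ᵁ V j).ι ''ᵁ ⊤) from m j k))
    refine Eq.symm ((congrArg (L.presheaf.map (homOfLE (hle j)).op) h1).trans ?_)
    exact (res_res L _ _ _).trans (res_self L _ _)
  -- the counit is an epimorphism
  haveI hσepi : Epi ((Scheme.Modules.pullbackPushforwardAdjunction f).counit.app L) := by
    apply epi_of_local_lift
    intro V₀ t x hx
    have hxS : f.base x ∈ (⨆ j, V j) := by rw [hV]; trivial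
    obtain ⟨j, hxj⟩ := Opens.mem_iSup.mp hxS
    obtain ⟨k, hk⟩ := Groth.Agent.H2.PUP.exists_mem_genLocus (L.restrict (f ⁻¹ᵁ V j).ι) (hLj j)
      (m j) (hm j) (⟨x, hxj⟩ : ↥(f ⁻¹ᵁ V j))
    have hb1 := (le_genLocus_iff_isBasisOver (L.restrict (f ⁻¹ᵁ V j).ι)
      (homOfSection _ (m j k))
      (CohB1.genLocus (L.restrict (f ⁻¹ᵁ V j).ι) (homOfSection _ (m j k)))).mp le_rfl
    rw [val_homOfSection] at hb1
    generalize CohB1.genLocus (L.restrict (f ⁻¹ᵁ V j).ι) (homOfSection _ (m j k)) = W' at hb1 hk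
    have hW'V : (f ⁻¹ᵁ V j).ι ''ᵁ W' ≤ f ⁻¹ᵁ V j :=
      (Scheme.Hom.image_mono _ le_top).trans (hle j)
    have hmk : (L.restrict (f ⁻¹ᵁ V j).ι).presheaf.map (homOfLE (le_top : W' ≤ ⊤)).op (m j k) =
        (show Γ(L.restrict (f ⁻¹ᵁ V j).ι, W') from
          L.presheaf.map (homOfLE hW'V).op (show Γ(L, f ⁻¹ᵁ V j) from ê j k)) := by
      refine (restrict_res (f ⁻¹ᵁ V j).ι L (le_top : W' ≤ ⊤) (m j k)).trans ?_
      exact (res_res L (hge j) hW'V _).symm
    replace hb1 := (isBasisOver_restrict_iff' (f ⁻¹ᵁ V j).ι L W' _ _ hmk).mp hb1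
    have hxW' : x ∈ (f ⁻¹ᵁ V j).ι ''ᵁ W' := ⟨⟨x, hxj⟩, hk, rfl⟩
    have hVW : V₀ ⊓ (f ⁻¹ᵁ V j).ι ''ᵁ W' ≤ (f ⁻¹ᵁ V j).ι ''ᵁ W' := inf_le_right
    have hVV : V₀ ⊓ (f ⁻¹ᵁ V j).ι ''ᵁ W' ≤ V₀ := inf_le_left
    have b := hb1.mono hVW
    rw [res_res] at b
    obtain ⟨c, hc⟩ := b.exists_coord (L.presheaf.map (homOfLE hVV).op t)
    refine ⟨V₀ ⊓ (f ⁻¹ᵁ V j).ι ''ᵁ W', hVV, ⟨hx, hxW'⟩,
      c • pbSec f ((Scheme.Modules.pushforward f).obj L) (hVW.trans hW'V) (ê j k), ?_⟩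
    refine (Scheme.Modules.Hom.app_smul _ _ _).trans ?_
    refine Eq.trans ?_ hc.symm
    congr 1
    exact counit_pbSec f L (hVW.trans hW'V) _
  -- the projective bundle of `f_* L`
  obtain ⟨P, p, chart, hP⟩ :=
    Groth.Agent.S8258.result (symGrAlg ((Scheme.Modules.pushforward f).obj L))
  obtain ⟨O1, lam, hO1⟩ :=
    Groth.Agent.S8284.result (symGrAlg ((Scheme.Modules.pushforward f).obj L)) p chart hP 1
  have hk := isGrSymAlg ((Scheme.Modules.pushforward f).obj L)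
  have hφ := phi_reads hP hO1 (symJ ((Scheme.Modules.pushforward f).obj L)) hk.2
  obtain ⟨r, ⟨hr, τ, hτ⟩, -⟩ := Groth.Agent.H4.PBEx4.main ((Scheme.Modules.pushforward f).obj L)
    hEq (symGrAlg _) (symJ _) hk p chart hP O1 lam hO1
    (phi hP hO1 (symJ ((Scheme.Modules.pushforward f).obj L)) hk.2) hφ f L hLinv
    ((Scheme.Modules.pullbackPushforwardAdjunction f).counit.app L) hσepi
  have hτa : alpha (phi hP hO1 (symJ ((Scheme.Modules.pushforward f).obj L)) hk.2) f r hr ≫ τ.hom =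
      (Scheme.Modules.pullbackPushforwardAdjunction f).counit.app L := by
    rw [← hτ]
    unfold alpha
    simp only [Category.assoc]
  refine ⟨_, hEq, symGrAlg _, symJ _, hk, P, p, chart, hP, O1, lam, hO1, r, ?_, hr, ⟨τ.symm⟩⟩
  apply IsZariskiLocalAtTarget.of_iSup_eq_top (P := @IsImmersion) (fun j => p ⁻¹ᵁ V j)
  · rw [← Scheme.Hom.preimage_iSup, hV]
    rfl
  · intro j
    have himm' : IsImmersion (Groth.Agent.H5.VAmple.toPn (f ∣_ V j)
        (L.restrict (f ⁻¹ᵁ V j).ι) (hLj j) (m j) (hm j)) := by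
      rw [← hieq j]; exact himm j
    exact locImm hk hP hO1 (phi hP hO1 (symJ ((Scheme.Modules.pushforward f).obj L)) hk.2)
      (fun U hU e => hφ U hU e) f hLinv
      ((Scheme.Modules.pullbackPushforwardAdjunction f).counit.app L) r hr τ hτa (V j) (ê j)
      (hLj j) (m j) (hle j) (hmê j) (hm j) himm'

end

end Groth.Agent.H4.VALocal
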