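import Mathlib
import Groth.Agent.H4.VALocal
import Groth.Agent.Lib.Helper5.VAmple.I
import Groth.Agent.Lib.Lead.QC.AmpleFamily
import Groth.Agent.H4.FTImm3

set_option autoImplicit false
set_option linter.style.haveILetI false
set_option linter.unusedSectionVars false
set_option linter.unusedVariables false

namespace Groth.Agent.H4.VAEvent

open CategoryTheory CategoryTheory.Limits AlgebraicGeometry TopologicalSpace Opposite
open Groth.Agent.LD.QC

universe u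

noncomputable section

lemma exists_finite_affine_cover (Y : Scheme.{u}) [CompactSpace Y] :
    ∃ t : Finset Y.affineOpens, (⨆ j : ↥t, (j.1.1 : Y.Opens)) = ⊤ := by
  classical
  obtain ⟨t, ht⟩ := isCompact_univ.elim_finite_subcover
    (fun U : Y.affineOpens => ((U.1 : Y.Opens) : Set Y)) (fun U => U.1.isOpen) (by
      intro y _
      obtain ⟨U, hU, hyU, -⟩ := Opens.isBasis_iff_nbhd.mp Y.isBasis_affineOpens
        (show y ∈ (⊤ : Y.Opens) from trivial)
      exact Set.mem_iUnion.mpr ⟨⟨U, hU⟩, hyU⟩)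
  refine ⟨t, eq_top_iff.mpr fun y _ => ?_⟩
  obtain ⟨U, hU⟩ := Set.mem_iUnion.mp (ht (Set.mem_univ y))
  obtain ⟨hUt, hy⟩ := Set.mem_iUnion.mp hU
  exact Opens.mem_iSup.mpr ⟨⟨U, hUt⟩, hy⟩

/-- **EGA II 4.6.11**: large powers of a relatively ample module are relatively very ample. -/
theorem eventually_veryAmple_tensorPow {X Y : Scheme.{u}} [CompactSpace Y] (f : X ⟶ Y)
    [QuasiCompact f] [LocallyOfFiniteType f] (L : X.Modules) (hL : PicF.IsInvertible L)
    (h : RelAmple.IsRelAmple f L) :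
    ∃ n₀ : ℕ, 0 < n₀ ∧ ∀ n : ℕ, n₀ ≤ n → RelProj.IsRelVeryAmple f (CohB1.tensorPow L n) := by
  classical
  obtain ⟨t, ht⟩ := exists_finite_affine_cover Y
  choose d₀ hd₀pos hd₀ using fun U : Y.affineOpens =>
    Groth.Agent.H5.VAmple.eventually_isRelVeryAmplePn_tensorPow (f ∣_ U.1)
      (L.restrict (f ⁻¹ᵁ U.1).ι) (h.2 U)
  refine ⟨t.sup d₀ + 1, Nat.succ_pos _, fun n hn => ?_⟩
  refine Groth.Agent.H4.VALocal.main f (CohB1.tensorPow L n) (isInvertible_tensorPow hL n)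
    (fun j : ↥t => (j.1.1 : Y.Opens)) ht (fun j => ?_)
  have h1 : d₀ j.1 ≤ n := (Finset.le_sup j.2).trans (by omega)
  exact Groth.Agent.H5.VAmple.isRelVeryAmplePn_of_iso (f ∣_ j.1.1)
    (restrictTensorPowIso (f ⁻¹ᵁ j.1.1).ι L n) (hd₀ j.1 n h1)

/-- **EGA II 4.6.11**, twisted form. -/
theorem eventually_veryAmple_tensor {X Y : Scheme.{u}} [CompactSpace Y] (f : X ⟶ Y)
    [QuasiCompact f] [LocallyOfFiniteType f] (L L' : X.Modules) (hL : PicF.IsInvertible L)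
    (hL' : PicF.IsInvertible L') (h : RelAmple.IsRelAmple f L) :
    ∃ n₀ : ℕ, ∀ n : ℕ, n₀ ≤ n →
      RelProj.IsRelVeryAmple f (CohB1.tensorMod (CohB1.tensorPow L n) L') := by
  classical
  obtain ⟨t, ht⟩ := exists_finite_affine_cover Y
  choose d₀ hd₀pos hd₀ using fun U : Y.affineOpens =>
    Groth.Agent.H5.VAmple.eventually_isRelVeryAmplePn_tensor (f ∣_ U.1)
      (L.restrict (f ⁻¹ᵁ U.1).ι) (L'.restrict (f ⁻¹ᵁ U.1).ι) (h.2 U)
      (isInvertible_restrict (f ⁻¹ᵁ U.1).ι hL')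
  refine ⟨t.sup d₀, fun n hn => ?_⟩
  refine Groth.Agent.H4.VALocal.main f (CohB1.tensorMod (CohB1.tensorPow L n) L')
    (isInvertible_tensorMod (isInvertible_tensorPow hL n) hL')
    (fun j : ↥t => (j.1.1 : Y.Opens)) ht (fun j => ?_)
  have h1 : d₀ j.1 ≤ n := (Finset.le_sup j.2).trans hn
  exact Groth.Agent.H5.VAmple.isRelVeryAmplePn_of_iso (f ∣_ j.1.1)
    (tensorIso' (restrictTensorPowIso (f ⁻¹ᵁ j.1.1).ι L n) (Iso.refl _) ≪≫
      restrictTensorIso (f ⁻¹ᵁ j.1.1).ι (CohB1.tensorPow L n) L') (hd₀ j.1 n h1)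

/-- **EGA II 5.3.2 (i) ⇒ (ii)**: a quasi-projective morphism over a quasi-compact quasi-separated
base embeds into the projective bundle of a finite type module. -/
theorem quasiProjective_immersion {X Y : Scheme.{u}}
    (hY : (CompactSpace Y ∧ Y.IsSeparated) ∨ TopologicalSpace.NoetherianSpace Y) (f : X ⟶ Y)
    (hf : RelProj.IsQuasiProjective f) :
    ∃ (E : Y.Modules) (𝒯 : RelProj.QCGrAlg Y) (j : E ⟶ 𝒯.toModule) (P : Scheme.{u}) (p : P ⟶ Y)
      (chart : ∀ (U : Y.Opens) (hU : IsAffineOpen U),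
        ((p ⁻¹ᵁ U : P.Opens) : Scheme.{u}) ≅ Proj (𝒯.deg U hU))
      (i : X ⟶ P),
      Coh.IsQCoh E ∧ CohB1.IsFT E ∧ RelProj.IsGrSymAlg E 𝒯 j ∧ RelProj.IsRelProj 𝒯 p chart ∧
        IsImmersion i ∧ i ≫ p = f := by
  obtain ⟨hlft, hqc, L, hLa⟩ := hf
  haveI := hlft
  haveI := hqc
  haveI hYc : CompactSpace Y := by
    rcases hY with h | h
    · exact h.1
    · haveI := h; infer_instance
  have hL := isInvertible_of_isRelAmple f L hLa
  obtain ⟨n₀, hn₀, hva⟩ := eventually_veryAmple_tensorPow f L hL hLa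
  obtain ⟨E, 𝒯, j, P, p, chart, O1, lam, i, hE, hFT, hj, hP, hO1, himm, hi, -⟩ :=
    Groth.Agent.H4.FTImm3.main hY f (CohB1.tensorPow L n₀) (isInvertible_tensorPow hL n₀)
      (hva n₀ le_rfl)
  exact ⟨E, 𝒯, j, P, p, chart, i, hE, hFT, hj, hP, himm, hi⟩

end

end Groth.Agent.H4.VAEvent
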