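import Groth.Agent.H4.DComp1
import Groth.Agent.H4.DRing2
set_option autoImplicit false
universe u
attribute [local instance] HasDerivedCategory.standard
open CategoryTheory CategoryTheory.Limits CategoryTheory.Pretriangulated DerivedCategory DRing Groth.Agent.H4.DRing1 Groth.Agent.H4.DComp
namespace Groth.Agent.H4.GapHom

variable {R : Type u} [CommRing R]

/-- degree `0` version: maps from a module of projective dimension `≤ e` to `D^{≤ -e-1}` vanish -/
theorem hom_single_zero_eq_zero : ∀ (e : ℕ) (N : ModuleCat.{u} R),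
    HasProjectiveDimensionLT N (e + 1) → ∀ (L : Dual.D R), L.IsLE (-(e : ℤ) - 1) →
      ∀ f : (singleFunctor (ModuleCat.{u} R) 0).obj N ⟶ L, f = 0 := by
  intro e
  induction e with
  | zero =>
    intro N hN L hL f
    have hproj : Projective N := by
      rw [projective_iff_hasProjectiveDimensionLT_one]; exact hN
    haveI : Module.Projective R N := (IsProjective.iff_projective (R := R) (P := N)).mpr hproj
    haveI : L.IsLE (0 - 1) := TStructure.t.isLE_of_le L (-((0 : ℕ) : ℤ) - 1) (0 - 1) (by simp)
    exact hom_single_projective_eq_zero N 0 L f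
  | succ e ih =>
    intro N hN L hL f
    let π := Projective.π N
    let S : ShortComplex (ModuleCat.{u} R) := ShortComplex.mk (kernel.ι π) π (kernel.condition π)
    have hS : S.ShortExact :=
      { exact := ShortComplex.exact_kernel π
        mono_f := inferInstanceAs (Mono (kernel.ι π))
        epi_g := inferInstanceAs (Epi π) }
    have h1 : HasProjectiveDimensionLT S.X₁ (e + 1) :=
      (hS.hasProjectiveDimensionLT_X₃_iff e (inferInstanceAs (Projective (Projective.over N)))).mp hN
    have hT := hS.singleTriangle_distinguished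
    haveI : Module.Projective R S.X₂ :=
      (IsProjective.iff_projective (R := R) (P := S.X₂)).mpr
        (inferInstanceAs (Projective (Projective.over N)))
    haveI : L.IsLE (0 - 1) :=
      TStructure.t.isLE_of_le L (-((e + 1 : ℕ) : ℤ) - 1) (0 - 1) (by push_cast; omega)
    have h2 : hS.singleTriangle.mor₂ ≫ f = 0 := hom_single_projective_eq_zero S.X₂ 0 L _
    obtain ⟨g, hg⟩ := Triangle.yoneda_exact₃ _ hT f h2
    have hL' : (L⟦(-1 : ℤ)⟧).IsLE (-(e : ℤ) - 1) :=
      TStructure.t.isLE_shift L (-((e + 1 : ℕ) : ℤ) - 1) (-1) (-(e : ℤ) - 1) (by push_cast; omega)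
    have h3 := ih S.X₁ h1 (L⟦(-1 : ℤ)⟧) hL'
      ((shiftEquiv (Dual.D R) (1 : ℤ)).unitIso.hom.app _ ≫ (shiftFunctor (Dual.D R) (-1 : ℤ)).map g)
    have h4 : (shiftFunctor (Dual.D R) (-1 : ℤ)).map g = 0 :=
      (cancel_epi ((shiftEquiv (Dual.D R) (1 : ℤ)).unitIso.hom.app _)).1 (h3.trans comp_zero.symm)
    have h5 : g = 0 := (shiftFunctor (Dual.D R) (-1 : ℤ)).map_injective (h4.trans (Functor.map_zero _ _ _).symm)
    rw [hg, h5]
    exact comp_zero


theorem hom_single_eq_zero (e : ℕ) (N : ModuleCat.{u} R)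
    (hN : HasProjectiveDimensionLT N (e + 1)) (n : ℤ) (L : Dual.D R) (hL : L.IsLE (n - e - 1))
    (f : (singleFunctor (ModuleCat.{u} R) n).obj N ⟶ L) : f = 0 := by
  have hL' : (L⟦n⟧).IsLE (-(e : ℤ) - 1) :=
    TStructure.t.isLE_shift L (n - e - 1) n (-(e : ℤ) - 1) (by omega)
  have h1 := hom_single_zero_eq_zero e N hN (L⟦n⟧) hL'
    (((singleFunctors (ModuleCat.{u} R)).shiftIso n 0 n (by omega)).inv.app N ≫
      (shiftFunctor (Dual.D R) n).map f)
  have h2 : (shiftFunctor (Dual.D R) n).map f = 0 :=
    (cancel_epi (((singleFunctors (ModuleCat.{u} R)).shiftIso n 0 n (by omega)).inv.app N)).1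
      (h1.trans comp_zero.symm)
  exact (shiftFunctor (Dual.D R) n).map_injective (h2.trans (Functor.map_zero _ _ _).symm)

/-- dévissage along the canonical filtration for objects with bounded cohomology -/
theorem devissage_aux (P : Dual.D R → Prop) (hzero : ∀ K, IsZero K → P K)
    (hext : ∀ T : Triangle (Dual.D R), T ∈ distinguishedTriangles → P T.obj₁ → P T.obj₃ → P T.obj₂)
    (hiso : ∀ K K' : Dual.D R, (K ≅ K') → P K → P K') (n : ℕ) : ∀ (K : Dual.D R) (a : ℤ),
    (∀ i : ℤ, i < a → IsZero ((homologyFunctor (ModuleCat.{u} R) i).obj K)) →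
    (∀ i : ℤ, a + n ≤ i → IsZero ((homologyFunctor (ModuleCat.{u} R) i).obj K)) →
    (∀ i : ℤ, P ((singleFunctor (ModuleCat.{u} R) i).obj
      ((homologyFunctor (ModuleCat.{u} R) i).obj K))) → P K := by
  induction n with
  | zero =>
    intro K a h1 h2 _
    apply hzero
    haveI : K.IsGE a := (isGE_iff K a).mpr h1
    haveI : K.IsLE (a - 1) := (isLE_iff K (a - 1)).mpr (fun i hi => h2 i (by simp; omega))
    exact TStructure.t.isZero K (a - 1) a (by omega)
  | succ n ih =>
    intro K a h1 h2 h3
    set c : ℤ := a + n with hc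
    let T := (TStructure.t.triangleLTGE c).obj K
    have hT : T ∈ distinguishedTriangles := TStructure.t.triangleLTGE_distinguished c K
    haveI : T.obj₁.IsLE (c - 1) := inferInstanceAs (TStructure.t.IsLE T.obj₁ (c - 1))
    haveI : T.obj₃.IsGE c := inferInstanceAs (TStructure.t.IsGE T.obj₃ c)
    have h3' : P T.obj₃ := by
      haveI : T.obj₃.IsLE c := by
        rw [isLE_iff]
        intro i hi
        haveI := isIso_homology_mor₂ T hT c i (by omega)
        exact (h2 i (by push_cast; omega)).of_iso
          (asIso ((homologyFunctor (ModuleCat.{u} R) i).map T.mor₂)).symm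
      obtain ⟨Y, ⟨e⟩⟩ := exists_iso_singleFunctor_obj_of_isGE_of_isLE T.obj₃ c
      haveI := isIso_homology_mor₂ T hT c c le_rfl
      have e2 : (homologyFunctor (ModuleCat.{u} R) c).obj T.obj₂ ≅
          (homologyFunctor (ModuleCat.{u} R) c).obj T.obj₃ :=
        asIso ((homologyFunctor (ModuleCat.{u} R) c).map T.mor₂)
      have eY : (homologyFunctor (ModuleCat.{u} R) c).obj K ≅ Y :=
        e2 ≪≫ (homologyFunctor _ c).mapIso e ≪≫ homologySingleIso c Y
      exact hiso _ _ ((singleFunctor (ModuleCat.{u} R) c).mapIso eY ≪≫ e.symm) (h3 c)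
    have h1' : P T.obj₁ := by
      apply ih T.obj₁ a
      · intro i hi
        haveI := isIso_homology_mor₁ T hT c i (by omega)
        have e1 : (homologyFunctor (ModuleCat.{u} R) i).obj T.obj₁ ≅
            (homologyFunctor (ModuleCat.{u} R) i).obj T.obj₂ :=
          asIso ((homologyFunctor (ModuleCat.{u} R) i).map T.mor₁)
        exact (h1 i hi).of_iso e1
      · intro i hi
        exact isZero_of_isLE T.obj₁ (c - 1) i (by omega)
      · intro i
        by_cases hi : i < c
        · haveI := isIso_homology_mor₁ T hT c i hi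
          have e1 : (homologyFunctor (ModuleCat.{u} R) i).obj T.obj₁ ≅
              (homologyFunctor (ModuleCat.{u} R) i).obj T.obj₂ :=
            asIso ((homologyFunctor (ModuleCat.{u} R) i).map T.mor₁)
          exact hiso _ _ ((singleFunctor _ i).mapIso e1.symm) (h3 i)
        · apply hzero
          exact (singleFunctor _ i).map_isZero (isZero_of_isLE T.obj₁ (c - 1) i (by omega))
    exact hext T hT h1' h3'

theorem devissage (P : Dual.D R → Prop) (hzero : ∀ K, IsZero K → P K)
    (hext : ∀ T : Triangle (Dual.D R), T ∈ distinguishedTriangles → P T.obj₁ → P T.obj₃ → P T.obj₂)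
    (hiso : ∀ K K' : Dual.D R, (K ≅ K') → P K → P K') (K : Dual.D R) (a b : ℤ)
    (h1 : ∀ i : ℤ, i < a → IsZero ((homologyFunctor (ModuleCat.{u} R) i).obj K))
    (h2 : ∀ i : ℤ, b < i → IsZero ((homologyFunctor (ModuleCat.{u} R) i).obj K))
    (h3 : ∀ i : ℤ, P ((singleFunctor (ModuleCat.{u} R) i).obj
      ((homologyFunctor (ModuleCat.{u} R) i).obj K))) : P K := by
  refine devissage_aux P hzero hext hiso (b + 1 - a).toNat K a h1 (fun i hi => h2 i ?_) h3
  have := Int.self_le_toNat (b + 1 - a)
  omega


end Groth.Agent.H4.GapHom
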