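import Mathlib

/-!
# Descent of equalizer diagrams along a jointly faithfully flat family (helper4)
-/

set_option autoImplicit false
universe u
open CategoryTheory CategoryTheory.Limits TensorProduct

namespace Groth.Agent.H4.GdA

/-- If `q ⊗ 1 = 0` in `Q ⊗ B i` for a family of flat algebras jointly surjective on spectra,
then `q = 0`. -/
theorem eq_zero_of_tmul_one_eq_zero {A : Type*} [CommRing A] {ι : Type*} (B : ι → Type*)
    [∀ i, CommRing (B i)] [∀ i, Algebra A (B i)] [∀ i, Module.Flat A (B i)]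
    (hcov : ∀ 𝔭 : PrimeSpectrum A, ∃ i, ∃ 𝔮 : PrimeSpectrum (B i),
      𝔮.asIdeal.comap (algebraMap A (B i)) = 𝔭.asIdeal)
    {Q : Type*} [AddCommGroup Q] [Module A Q] (q : Q)
    (h : ∀ i, q ⊗ₜ[A] (1 : B i) = 0) : q = 0 := by
  by_contra hq
  obtain ⟨I, hI⟩ : ∃ I : Ideal A, I = LinearMap.ker (LinearMap.toSpanSingleton A Q q) :=
    ⟨_, rfl⟩
  have hI1 : I ≠ ⊤ := by
    intro htop
    apply hq
    have h1 : (1 : A) ∈ I := by rw [htop]; exact Submodule.mem_top
    rw [hI, LinearMap.mem_ker, LinearMap.toSpanSingleton_apply, one_smul] at h1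
    exact h1
  obtain ⟨𝔪, hmax, hle⟩ := Ideal.exists_le_maximal I hI1
  obtain ⟨i, 𝔮, h𝔮⟩ := hcov ⟨𝔪, hmax.isPrime⟩
  have hker : I ≤ LinearMap.ker (LinearMap.toSpanSingleton A Q q) := hI.le
  have hker' : LinearMap.ker (LinearMap.toSpanSingleton A Q q) ≤ I := hI.ge
  let f : (A ⧸ I) →ₗ[A] Q := Submodule.liftQ I (LinearMap.toSpanSingleton A Q q) hker
  have hf : Function.Injective f := by
    rw [← LinearMap.ker_eq_bot]
    exact Submodule.ker_liftQ_eq_bot _ _ _ hker'
  have hf' : Function.Injective (f.rTensor (B i)) :=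
    Module.Flat.rTensor_preserves_injective_linearMap f hf
  have hf1 : f (1 : A ⧸ I) = q := by
    have := Submodule.liftQ_apply I (LinearMap.toSpanSingleton A Q q) (h := hker) (1 : A)
    rw [LinearMap.toSpanSingleton_apply, one_smul] at this
    exact this
  have h0 : ((1 : A ⧸ I) ⊗ₜ[A] (1 : B i)) = 0 := by
    apply hf'
    rw [LinearMap.rTensor_tmul, map_zero, hf1]
    exact h i
  have h1 : (Submodule.Quotient.mk (1 : B i) : B i ⧸ (I • (⊤ : Submodule A (B i)))) = 0 := by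
    rw [← TensorProduct.quotTensorEquivQuotSMul_mk_one_tmul I (1 : B i), h0, map_zero]
  have h2 : (1 : B i) ∈ I • (⊤ : Submodule A (B i)) := (Submodule.Quotient.mk_eq_zero _).mp h1
  rw [Ideal.smul_top_eq_map] at h2
  have h3 : (1 : B i) ∈ I.map (algebraMap A (B i)) := h2
  have h4 : I.map (algebraMap A (B i)) ≤ 𝔮.asIdeal := by
    rw [Ideal.map_le_iff_le_comap, h𝔮]
    exact hle
  exact 𝔮.isPrime.ne_top ((Ideal.eq_top_iff_one _).mpr (h4 h3))

/-- Descent of "injective with image the equalizer" along a jointly faithfully flat family of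
pushouts. -/
theorem descent_equalizer {A M N : CommRingCat.{u}} (u : A ⟶ M) (d₁ d₂ : M ⟶ N)
    {ι : Type*} {B M' N' : ι → CommRingCat.{u}}
    (β : ∀ i, A ⟶ B i) (m : ∀ i, M ⟶ M' i) (u' : ∀ i, B i ⟶ M' i) (n : ∀ i, N ⟶ N' i)
    (d₁' d₂' : ∀ i, M' i ⟶ N' i)
    (hflat : ∀ i, (β i).hom.Flat)
    (hcov : ∀ 𝔭 : PrimeSpectrum A, ∃ i, ∃ 𝔮 : PrimeSpectrum (B i),
      𝔮.asIdeal.comap (β i).hom = 𝔭.asIdeal)
    (hpush : ∀ i, IsPushout u (β i) (m i) (u' i))
    (hd₁ : ∀ i, m i ≫ d₁' i = d₁ ≫ n i) (hd₂ : ∀ i, m i ≫ d₂' i = d₂ ≫ n i)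
    (hinj' : ∀ i, Function.Injective (u' i).hom)
    (hrange' : ∀ i (x : M' i), (d₁' i).hom x = (d₂' i).hom x → x ∈ Set.range (u' i).hom) :
    Function.Injective u.hom ∧ ∀ x : M, d₁.hom x = d₂.hom x → x ∈ Set.range u.hom := by
  letI : Algebra A M := u.hom.toAlgebra
  letI : ∀ i, Algebra A (B i) := fun i => (β i).hom.toAlgebra
  haveI : ∀ i, Module.Flat A (B i) := fun i => hflat i
  have hcov' : ∀ 𝔭 : PrimeSpectrum A, ∃ i, ∃ 𝔮 : PrimeSpectrum (B i),
      𝔮.asIdeal.comap (algebraMap A (B i)) = 𝔭.asIdeal := hcov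
  constructor
  · rw [injective_iff_map_eq_zero]
    intro x hx
    apply eq_zero_of_tmul_one_eq_zero (fun i => (B i : Type u)) hcov' x
    intro i
    have hβ : (β i).hom x = 0 := by
      apply hinj' i
      rw [map_zero]
      have hw := congr($((hpush i).w).hom x)
      have hw' : (u' i).hom ((β i).hom x) = (m i).hom (u.hom x) := hw.symm
      rw [hw', hx, map_zero]
    have h1 : (x • (1 : A)) ⊗ₜ[A] (1 : B i) = (1 : A) ⊗ₜ[A] (x • (1 : B i)) :=
      TensorProduct.smul_tmul x 1 1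
    rw [smul_eq_mul, mul_one] at h1
    rw [h1, Algebra.smul_def, mul_one]
    have hβ' : algebraMap A (B i) x = 0 := hβ
    rw [hβ', TensorProduct.tmul_zero]
  · intro x hx
    obtain ⟨R, hR⟩ : ∃ R : Submodule A M, R = LinearMap.range (Algebra.linearMap A M) :=
      ⟨_, rfl⟩
    have hq : R.mkQ x = 0 := by
      apply eq_zero_of_tmul_one_eq_zero (fun i => (B i : Type u)) hcov' (R.mkQ x)
      intro i
      have hinvx : (d₁' i).hom ((m i).hom x) = (d₂' i).hom ((m i).hom x) := by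
        have e1 := congr($(hd₁ i).hom x)
        have e2 := congr($(hd₂ i).hom x)
        have e1' : (d₁' i).hom ((m i).hom x) = (n i).hom (d₁.hom x) := e1
        have e2' : (d₂' i).hom ((m i).hom x) = (n i).hom (d₂.hom x) := e2
        rw [e1', e2', hx]
      obtain ⟨b, hb⟩ := hrange' i _ hinvx
      let E := (CommRingCat.isPushout_tensorProduct A M (B i)).isoIsPushout _ _ (hpush i)
      have hE1 : ∀ y : M, E.hom.hom (y ⊗ₜ[A] (1 : B i)) = (m i).hom y := fun y =>
        congr($((CommRingCat.isPushout_tensorProduct A M (B i)).inl_isoIsPushout_hom _ _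
          (hpush i)).hom y)
      have hE2 : ∀ z : B i, E.hom.hom ((1 : M) ⊗ₜ[A] z) = (u' i).hom z := fun z =>
        congr($((CommRingCat.isPushout_tensorProduct A M (B i)).inr_isoIsPushout_hom _ _
          (hpush i)).hom z)
      have hEinj : Function.Injective E.hom.hom :=
        ((ConcreteCategory.isIso_iff_bijective E.hom).mp inferInstance).1
      have hxb : x ⊗ₜ[A] (1 : B i) = (1 : M) ⊗ₜ[A] b := by
        apply hEinj
        rw [hE1, hE2, hb]
      have h2 := congrArg (R.mkQ.rTensor (B i)) hxb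
      rw [LinearMap.rTensor_tmul, LinearMap.rTensor_tmul] at h2
      rw [h2]
      have h1 : R.mkQ (1 : M) = 0 := by
        rw [Submodule.mkQ_apply, Submodule.Quotient.mk_eq_zero, hR]
        exact ⟨1, by rw [Algebra.linearMap_apply, map_one]⟩
      rw [h1, TensorProduct.zero_tmul]
    rw [Submodule.mkQ_apply, Submodule.Quotient.mk_eq_zero, hR] at hq
    obtain ⟨a, ha⟩ := hq
    exact ⟨a, ha⟩

end Groth.Agent.H4.GdA
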