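import Mathlib
import Groth.Prelude.Def_W4bk4git07Quot
import Groth.Agent.Lib.Helper5.Glue.C
import Groth.Agent.H4.GdA

/-!
# Descent of geometric quotients along fpqc base change (helper4)
-/

set_option autoImplicit false
universe u
open CategoryTheory MonoidalCategory CartesianMonoidalCategory MonObj AlgebraicGeometry CategoryTheory.Limits
open Topology TopologicalSpace

namespace Groth.Agent.H4.GdB

open Groth.Agent.H5.Glue

section Sec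

variable {X Y Z : Scheme.{u}} (f : X ⟶ Y) (σ π : Z ⟶ X)

/-- the section `s` over `f⁻¹U` has equal pullbacks along `σ` and `π`. -/
def InvAt (U : Y.Opens) (s : Γ(X, f ⁻¹ᵁ U)) : Prop :=
  σ.appLE (f ⁻¹ᵁ U) (σ ⁻¹ᵁ (f ⁻¹ᵁ U) ⊓ π ⁻¹ᵁ (f ⁻¹ᵁ U)) inf_le_left s =
    π.appLE (f ⁻¹ᵁ U) (σ ⁻¹ᵁ (f ⁻¹ᵁ U) ⊓ π ⁻¹ᵁ (f ⁻¹ᵁ U)) inf_le_right s

lemma appLE_congr'' {X Y : Scheme.{u}} {f g : X ⟶ Y} (h : f = g) (U : Y.Opens) (V : X.Opens)
    (e : V ≤ f ⁻¹ᵁ U) : f.appLE U V e = g.appLE U V (h ▸ e) := by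
  subst h; rfl

theorem app_res_apply {U V : Y.Opens} (h : V ≤ U) (a : Γ(Y, U)) :
    res (f.preimage_mono h) ((f.app U).hom a) = (f.app V).hom (res h a) := by
  have := f.naturality (homOfLE h).op
  exact congr($(this.symm).hom a)

theorem invAt_app (hσπ : σ ≫ f = π ≫ f) (U : Y.Opens) (t : Γ(Y, U)) :
    InvAt f σ π U ((f.app U).hom t) := by
  have key : f.app U ≫ σ.appLE (f ⁻¹ᵁ U) (σ ⁻¹ᵁ (f ⁻¹ᵁ U) ⊓ π ⁻¹ᵁ (f ⁻¹ᵁ U)) inf_le_left =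
      f.app U ≫ π.appLE (f ⁻¹ᵁ U) (σ ⁻¹ᵁ (f ⁻¹ᵁ U) ⊓ π ⁻¹ᵁ (f ⁻¹ᵁ U)) inf_le_right := by
    rw [Scheme.Hom.app_eq_appLE, Scheme.Hom.appLE_comp_appLE, Scheme.Hom.appLE_comp_appLE]
    exact appLE_congr'' hσπ _ _ _
  exact congr($(key).hom t)

theorem invAt_res {U V : Y.Opens} (h : V ≤ U) (s : Γ(X, f ⁻¹ᵁ U)) (hs : InvAt f σ π U s) :
    InvAt f σ π V (res (f.preimage_mono h) s) := by
  have hW : σ ⁻¹ᵁ (f ⁻¹ᵁ V) ⊓ π ⁻¹ᵁ (f ⁻¹ᵁ V) ≤ σ ⁻¹ᵁ (f ⁻¹ᵁ U) ⊓ π ⁻¹ᵁ (f ⁻¹ᵁ U) :=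
    inf_le_inf (σ.preimage_mono (f.preimage_mono h)) (π.preimage_mono (f.preimage_mono h))
  have kσ : X.presheaf.map (homOfLE (f.preimage_mono h)).op ≫
      σ.appLE (f ⁻¹ᵁ V) (σ ⁻¹ᵁ (f ⁻¹ᵁ V) ⊓ π ⁻¹ᵁ (f ⁻¹ᵁ V)) inf_le_left =
      σ.appLE (f ⁻¹ᵁ U) (σ ⁻¹ᵁ (f ⁻¹ᵁ U) ⊓ π ⁻¹ᵁ (f ⁻¹ᵁ U)) inf_le_left ≫
        Z.presheaf.map (homOfLE hW).op := by
    rw [Scheme.Hom.appLE_map, Scheme.Hom.map_appLE]
  have kπ : X.presheaf.map (homOfLE (f.preimage_mono h)).op ≫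
      π.appLE (f ⁻¹ᵁ V) (σ ⁻¹ᵁ (f ⁻¹ᵁ V) ⊓ π ⁻¹ᵁ (f ⁻¹ᵁ V)) inf_le_right =
      π.appLE (f ⁻¹ᵁ U) (σ ⁻¹ᵁ (f ⁻¹ᵁ U) ⊓ π ⁻¹ᵁ (f ⁻¹ᵁ U)) inf_le_right ≫
        Z.presheaf.map (homOfLE hW).op := by
    rw [Scheme.Hom.appLE_map, Scheme.Hom.map_appLE]
  have h1 := congr($(kσ).hom s)
  have h2 := congr($(kπ).hom s)
  have hs' : (σ.appLE (f ⁻¹ᵁ U) (σ ⁻¹ᵁ (f ⁻¹ᵁ U) ⊓ π ⁻¹ᵁ (f ⁻¹ᵁ U)) inf_le_left).hom s =
      (π.appLE (f ⁻¹ᵁ U) (σ ⁻¹ᵁ (f ⁻¹ᵁ U) ⊓ π ⁻¹ᵁ (f ⁻¹ᵁ U)) inf_le_right).hom s := hs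
  have h3 := congrArg (Z.presheaf.map (homOfLE hW).op).hom hs'
  exact h1.trans (h3.trans h2.symm)

theorem sec_of_affine (hσπ : σ ≫ f = π ≫ f)
    (hA : ∀ V : Y.Opens, IsAffineOpen V → Function.Injective (f.app V).hom ∧
      ∀ s, InvAt f σ π V s → s ∈ Set.range (f.app V).hom) (U : Y.Opens) :
    Function.Injective (f.app U).hom ∧ Set.range (f.app U).hom = {s | InvAt f σ π U s} := by
  have hcovU : ∀ U : Y.Opens, U ≤ ⨆ V : {V : Y.Opens // IsAffineOpen V ∧ V ≤ U}, V.1 := by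
    intro U x hx
    obtain ⟨_, ⟨V, hV, rfl⟩, hxV, hVU⟩ :=
      Y.isBasis_affineOpens.exists_subset_of_mem_open hx U.isOpen
    exact Opens.mem_iSup.mpr ⟨⟨V, hV, hVU⟩, hxV⟩
  have hinj : ∀ U : Y.Opens, Function.Injective (f.app U).hom := by
    intro U a a' haa
    apply fn_ext_of_cover (fun V : {V : Y.Opens // IsAffineOpen V ∧ V ≤ U} => V.1) U
      (fun V => V.2.2) (hcovU U)
    intro V
    apply (hA V.1 V.2.1).1
    rw [← app_res_apply f V.2.2, ← app_res_apply f V.2.2, haa]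
  refine ⟨hinj U, ?_⟩
  apply Set.Subset.antisymm
  · rintro _ ⟨t, rfl⟩
    exact invAt_app f σ π hσπ U t
  · intro s hs
    have hs' : InvAt f σ π U s := hs
    have h1 : ∀ V : {V : Y.Opens // IsAffineOpen V ∧ V ≤ U},
        ∃ a : Γ(Y, V.1), (f.app V.1).hom a = res (f.preimage_mono V.2.2) s := by
      intro V
      exact (hA V.1 V.2.1).2 _ (invAt_res f σ π V.2.2 s hs')
    choose a ha using h1
    obtain ⟨c, hc, -⟩ := existsUnique_glue_fn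
      (fun V : {V : Y.Opens // IsAffineOpen V ∧ V ≤ U} => V.1) U (fun V => V.2.2) (hcovU U) a (by
        intro V V'
        apply hinj (V.1 ⊓ V'.1)
        rw [← app_res_apply, ← app_res_apply, ha, ha, res_res, res_res])
    refine ⟨c, ?_⟩
    apply fn_ext_of_cover (fun V : {V : Y.Opens // IsAffineOpen V ∧ V ≤ U} => f ⁻¹ᵁ V.1)
      (f ⁻¹ᵁ U) (fun V => f.preimage_mono V.2.2) ?_
    · intro V
      rw [app_res_apply f V.2.2, hc V, ha]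
    · intro x hx
      obtain ⟨V, hV⟩ := Opens.mem_iSup.mp (hcovU U hx)
      exact Opens.mem_iSup.mpr ⟨V, hV⟩

end Sec

theorem sec_affine_of_descent
    {X Y X' Y' Z Z' : Scheme.{u}} (f : X ⟶ Y) (σ π : Z ⟶ X) (f' : X' ⟶ Y') (σ' π' : Z' ⟶ X')
    (p : X' ⟶ X) (al : Y' ⟶ Y) (Gp : Z' ⟶ Z)
    (H : IsPullback p f' f al) [Flat al] [Surjective al] [QuasiCompact f] [QuasiSeparated f]
    (F2 : σ' ≫ p = Gp ≫ σ) (F3 : π' ≫ p = Gp ≫ π)
    (hsec' : ∀ V' : Y'.Opens, IsAffineOpen V' → Function.Injective (f'.app V').hom ∧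
      ∀ s, InvAt f' σ' π' V' s → s ∈ Set.range (f'.app V').hom)
    (U : Y.Opens) (hU : IsAffineOpen U) :
    Function.Injective (f.app U).hom ∧ ∀ s, InvAt f σ π U s → s ∈ Set.range (f.app U).hom := by
  have F1 : p ≫ f = f' ≫ al := H.w
  have hle : ∀ i : {V' : Y'.Opens // IsAffineOpen V' ∧ V' ≤ al ⁻¹ᵁ U},
      f' ⁻¹ᵁ i.1 ≤ p ⁻¹ᵁ (f ⁻¹ᵁ U) := by
    intro i
    show f' ⁻¹ᵁ i.1 ≤ (p ≫ f) ⁻¹ᵁ U
    rw [F1]
    exact f'.preimage_mono i.2.2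
  have hWW : ∀ i : {V' : Y'.Opens // IsAffineOpen V' ∧ V' ≤ al ⁻¹ᵁ U},
      σ' ⁻¹ᵁ (f' ⁻¹ᵁ i.1) ⊓ π' ⁻¹ᵁ (f' ⁻¹ᵁ i.1) ≤
        Gp ⁻¹ᵁ (σ ⁻¹ᵁ (f ⁻¹ᵁ U) ⊓ π ⁻¹ᵁ (f ⁻¹ᵁ U)) := by
    intro i
    have k1 : Gp ⁻¹ᵁ (σ ⁻¹ᵁ (f ⁻¹ᵁ U)) = σ' ⁻¹ᵁ (p ⁻¹ᵁ (f ⁻¹ᵁ U)) := by
      show (Gp ≫ σ) ⁻¹ᵁ (f ⁻¹ᵁ U) = (σ' ≫ p) ⁻¹ᵁ (f ⁻¹ᵁ U)
      rw [F2]
    have k2 : Gp ⁻¹ᵁ (π ⁻¹ᵁ (f ⁻¹ᵁ U)) = π' ⁻¹ᵁ (p ⁻¹ᵁ (f ⁻¹ᵁ U)) := by
      show (Gp ≫ π) ⁻¹ᵁ (f ⁻¹ᵁ U) = (π' ≫ p) ⁻¹ᵁ (f ⁻¹ᵁ U)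
      rw [F3]
    show _ ≤ Gp ⁻¹ᵁ (σ ⁻¹ᵁ (f ⁻¹ᵁ U)) ⊓ Gp ⁻¹ᵁ (π ⁻¹ᵁ (f ⁻¹ᵁ U))
    rw [k1, k2]
    exact inf_le_inf (σ'.preimage_mono (hle i)) (π'.preimage_mono (hle i))
  have hc : IsCompact (f ⁻¹ᵁ U : Set X) := f.isCompact_preimage hU.isCompact
  have hqs : IsQuasiSeparated (f ⁻¹ᵁ U : Set X) := f.isQuasiSeparated_preimage hU.isQuasiSeparated
  have hpush : ∀ i : {V' : Y'.Opens // IsAffineOpen V' ∧ V' ≤ al ⁻¹ᵁ U},
      IsPushout (f.appLE U (f ⁻¹ᵁ U) le_rfl) (al.appLE U i.1 i.2.2)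
        (p.appLE (f ⁻¹ᵁ U) (f' ⁻¹ᵁ i.1) (hle i)) (f'.appLE i.1 (f' ⁻¹ᵁ i.1) le_rfl) := by
    intro i
    have hUY : f' ⁻¹ᵁ i.1 = p ⁻¹ᵁ (f ⁻¹ᵁ U) ⊓ f' ⁻¹ᵁ i.1 := (inf_eq_right.mpr (hle i)).symm
    exact (isIso_pushoutSection_iff H i.2.2 le_rfl hUY).mp
      (isIso_pushoutSection_of_isQuasiSeparated_of_flat_right H i.2.2 le_rfl hUY hU i.2.1 hc hqs)
  have hcov : ∀ 𝔭 : PrimeSpectrum Γ(Y, U),
      ∃ i : {V' : Y'.Opens // IsAffineOpen V' ∧ V' ≤ al ⁻¹ᵁ U},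
        ∃ 𝔮 : PrimeSpectrum Γ(Y', i.1),
          𝔮.asIdeal.comap (al.appLE U i.1 i.2.2).hom = 𝔭.asIdeal := by
    intro 𝔭
    have hyU : hU.fromSpec 𝔭 ∈ U := by
      have : hU.fromSpec 𝔭 ∈ Set.range hU.fromSpec := ⟨𝔭, rfl⟩
      rwa [hU.range_fromSpec] at this
    obtain ⟨y', hy'⟩ := (inferInstance : Surjective al).surj (hU.fromSpec 𝔭)
    have hy'U : y' ∈ al ⁻¹ᵁ U := by
      show al y' ∈ U
      rw [hy']; exact hyU
    obtain ⟨_, ⟨V', hV', rfl⟩, hy'V, hV'U⟩ :=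
      Y'.isBasis_affineOpens.exists_subset_of_mem_open hy'U (al ⁻¹ᵁ U).isOpen
    refine ⟨⟨V', hV', hV'U⟩, hV'.primeIdealOf ⟨y', hy'V⟩, ?_⟩
    have e1 := IsAffineOpen.SpecMap_appLE_fromSpec al hU hV' hV'U
    have e2 : hU.fromSpec ((Spec.map (al.appLE U V' hV'U)) (hV'.primeIdealOf ⟨y', hy'V⟩)) =
        hU.fromSpec 𝔭 := by
      show (Spec.map (al.appLE U V' hV'U) ≫ hU.fromSpec).base _ = _
      rw [e1]
      show al.base (hV'.fromSpec.base _) = _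
      rw [hV'.fromSpec_primeIdealOf]
      exact hy'
    have e3 := hU.fromSpec.isOpenEmbedding.injective e2
    rw [← e3]
    rfl
  have hD := Groth.Agent.H4.GdA.descent_equalizer (f.appLE U (f ⁻¹ᵁ U) le_rfl)
    (σ.appLE (f ⁻¹ᵁ U) (σ ⁻¹ᵁ (f ⁻¹ᵁ U) ⊓ π ⁻¹ᵁ (f ⁻¹ᵁ U)) inf_le_left)
    (π.appLE (f ⁻¹ᵁ U) (σ ⁻¹ᵁ (f ⁻¹ᵁ U) ⊓ π ⁻¹ᵁ (f ⁻¹ᵁ U)) inf_le_right)
    (B := fun i : {V' : Y'.Opens // IsAffineOpen V' ∧ V' ≤ al ⁻¹ᵁ U} => Γ(Y', i.1)) (M' := fun i => Γ(X', f' ⁻¹ᵁ i.1))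
    (N' := fun i => Γ(Z', σ' ⁻¹ᵁ (f' ⁻¹ᵁ i.1) ⊓ π' ⁻¹ᵁ (f' ⁻¹ᵁ i.1)))
    (fun i => al.appLE U i.1 i.2.2) (fun i => p.appLE (f ⁻¹ᵁ U) (f' ⁻¹ᵁ i.1) (hle i))
    (fun i => f'.appLE i.1 (f' ⁻¹ᵁ i.1) le_rfl)
    (fun i => Gp.appLE _ _ (hWW i))
    (fun i => σ'.appLE (f' ⁻¹ᵁ i.1) _ inf_le_left)
    (fun i => π'.appLE (f' ⁻¹ᵁ i.1) _ inf_le_right)
    (fun i => al.flat_appLE hU i.2.1 i.2.2)
    hcov hpush
    (fun i => by
      rw [Scheme.Hom.appLE_comp_appLE, Scheme.Hom.appLE_comp_appLE]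
      exact appLE_congr'' F2 _ _ _)
    (fun i => by
      rw [Scheme.Hom.appLE_comp_appLE, Scheme.Hom.appLE_comp_appLE]
      exact appLE_congr'' F3 _ _ _)
    (fun i => by
      rw [Scheme.Hom.appLE_eq_app]
      exact (hsec' i.1 i.2.1).1)
    (fun i x hx => by
      rw [Scheme.Hom.appLE_eq_app]
      exact (hsec' i.1 i.2.1).2 x hx)
  rw [Scheme.Hom.appLE_eq_app] at hD
  exact hD

theorem exists_pmap {X Y X' Y' : Scheme.{u}} {p : X' ⟶ X} {f' : X' ⟶ Y'} {f : X ⟶ Y}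
    {al : Y' ⟶ Y} (H : IsPullback p f' f al) :
    ∃ pmap : pullback f' f' ⟶ pullback f f,
      pmap ≫ pullback.fst f f = pullback.fst f' f' ≫ p ∧
      pmap ≫ pullback.snd f f = pullback.snd f' f' ≫ p ∧
      IsPullback pmap (pullback.snd f' f') (pullback.snd f f) p := by
  obtain ⟨pmap, hp1, hp2⟩ : ∃ pmap : pullback f' f' ⟶ pullback f f,
      pmap ≫ pullback.fst f f = pullback.fst f' f' ≫ p ∧
      pmap ≫ pullback.snd f f = pullback.snd f' f' ≫ p :=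
    ⟨pullback.lift (pullback.fst f' f' ≫ p) (pullback.snd f' f' ≫ p)
      (by rw [Category.assoc, Category.assoc, H.w, pullback.condition_assoc]),
      pullback.lift_fst _ _ _, pullback.lift_snd _ _ _⟩
  have hbig : IsPullback (pmap ≫ pullback.fst f f) (pullback.snd f' f') f (p ≫ f) := by
    rw [hp1, H.w]
    exact (IsPullback.of_hasPullback f' f').paste_horiz H
  exact ⟨pmap, hp1, hp2, IsPullback.of_right hbig hp2 (IsPullback.of_hasPullback f f)⟩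

/-- **Descent of geometric quotients along fpqc base change.** -/
theorem isGeomQuot_descent {S : Scheme.{u}} {G X Y X' Y' : Over S} [GrpObj G]
    (a : AlgGrp.Action G X) (φ : X ⟶ Y) (hinv : GIT.IsInvariant a φ)
    [QuasiCompact φ.left] [QuasiSeparated φ.left]
    (α : Y' ⟶ Y) [Flat α.left] [Surjective α.left] [QuasiCompact α.left]
    (pr : X' ⟶ X) (φ' : X' ⟶ Y') (hpb : IsPullback pr φ' φ α)
    (a' : AlgGrp.Action G X') (heq : a'.act ≫ pr = (G ◁ pr) ≫ a.act)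
    (h : GIT.IsGeomQuot a' φ') : GIT.IsGeomQuot a φ := by
  have H : IsPullback pr.left φ'.left φ.left α.left := hpb.map (Over.forget S)
  have F1 : pr.left ≫ φ.left = φ'.left ≫ α.left := H.w
  have F2 : a'.act.left ≫ pr.left = (G ◁ pr).left ≫ a.act.left := by
    rw [← Over.comp_left, ← Over.comp_left, heq]
  have F3 : (snd G X').left ≫ pr.left = (G ◁ pr).left ≫ (snd G X).left := by
    rw [← Over.comp_left, ← Over.comp_left, whiskerLeft_snd]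
  -- surjectivity
  have hsurj : Function.Surjective φ.left.base := by
    intro y
    obtain ⟨y', rfl⟩ := (inferInstance : Surjective α.left).surj y
    obtain ⟨x', rfl⟩ := h.surj y'
    exact ⟨pr.left.base x', congrArg (fun g : X'.left ⟶ Y.left => g.base x') F1⟩
  -- orbits
  obtain ⟨pmap, hp1, hp2, hR⟩ := exists_pmap H
  have e1 : GIT.PsiY a φ hinv ≫ pullback.fst φ.left φ.left = a.act.left :=
    pullback.lift_fst _ _ _
  have e2 : GIT.PsiY a φ hinv ≫ pullback.snd φ.left φ.left = (snd G X).left :=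
    pullback.lift_snd _ _ _
  have e1' : GIT.PsiY a' φ' h.inv ≫ pullback.fst φ'.left φ'.left = a'.act.left :=
    pullback.lift_fst _ _ _
  have e2' : GIT.PsiY a' φ' h.inv ≫ pullback.snd φ'.left φ'.left = (snd G X').left :=
    pullback.lift_snd _ _ _
  have hsq : (G ◁ pr).left ≫ GIT.PsiY a φ hinv = GIT.PsiY a' φ' h.inv ≫ pmap := by
    apply pullback.hom_ext
    · rw [Category.assoc, Category.assoc, e1, hp1, reassoc_of% e1']
      exact F2.symm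
    · rw [Category.assoc, Category.assoc, e2, hp2, reassoc_of% e2']
      exact F3.symm
  haveI : Surjective pr.left := MorphismProperty.of_isPullback (P := @Surjective) H.flip inferInstance
  haveI : Surjective pmap := MorphismProperty.of_isPullback (P := @Surjective) hR.flip inferInstance
  have horbit : Function.Surjective (GIT.PsiY a φ hinv).base := by
    intro z
    obtain ⟨z', rfl⟩ := (inferInstance : Surjective pmap).surj z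
    obtain ⟨w', rfl⟩ := h.orbit z'
    exact ⟨(G ◁ pr).left.base w',
      congrArg (fun g : (G ⊗ X').left ⟶ pullback φ.left φ.left => g.base w') hsq⟩
  -- universally submersive
  have hsubm : GIT.IsUnivSubmersive φ.left := by
    intro X₁ T i₁ i₂ f₁ sq
    have c1 : pullback.fst f₁ (pullback.fst i₂ α.left) ≫ f₁ =
        pullback.snd f₁ (pullback.fst i₂ α.left) ≫ pullback.fst i₂ α.left := pullback.condition
    have c2 : pullback.fst i₂ α.left ≫ i₂ = pullback.snd i₂ α.left ≫ α.left := pullback.condition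
    obtain ⟨r, hr1, hr2⟩ : ∃ r : pullback f₁ (pullback.fst i₂ α.left) ⟶ X'.left,
        r ≫ pr.left = pullback.fst f₁ (pullback.fst i₂ α.left) ≫ i₁ ∧
        r ≫ φ'.left = pullback.snd f₁ (pullback.fst i₂ α.left) ≫ pullback.snd i₂ α.left :=
      ⟨H.lift (pullback.fst f₁ (pullback.fst i₂ α.left) ≫ i₁)
        (pullback.snd f₁ (pullback.fst i₂ α.left) ≫ pullback.snd i₂ α.left)
        (calc (pullback.fst f₁ (pullback.fst i₂ α.left) ≫ i₁) ≫ φ.left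
            = pullback.fst f₁ (pullback.fst i₂ α.left) ≫ (i₁ ≫ φ.left) := Category.assoc _ _ _
          _ = pullback.fst f₁ (pullback.fst i₂ α.left) ≫ (f₁ ≫ i₂) := by rw [sq.w]
          _ = (pullback.snd f₁ (pullback.fst i₂ α.left) ≫ pullback.fst i₂ α.left) ≫ i₂ := by
            rw [← Category.assoc, c1]
          _ = pullback.snd f₁ (pullback.fst i₂ α.left) ≫ (pullback.snd i₂ α.left ≫ α.left) := by
            rw [Category.assoc, c2]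
          _ = (pullback.snd f₁ (pullback.fst i₂ α.left) ≫ pullback.snd i₂ α.left) ≫ α.left :=
            (Category.assoc _ _ _).symm),
        H.lift_fst _ _ _, H.lift_snd _ _ _⟩
    have big : IsPullback (pullback.fst f₁ (pullback.fst i₂ α.left) ≫ i₁)
        (pullback.snd f₁ (pullback.fst i₂ α.left)) φ.left (pullback.fst i₂ α.left ≫ i₂) :=
      (IsPullback.of_hasPullback f₁ (pullback.fst i₂ α.left)).paste_horiz sq.flip
    have big' : IsPullback (r ≫ pr.left) (pullback.snd f₁ (pullback.fst i₂ α.left)) φ.left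
        (pullback.snd i₂ α.left ≫ α.left) := by
      rw [hr1, ← c2]; exact big
    have sq' : IsPullback r (pullback.snd f₁ (pullback.fst i₂ α.left)) φ'.left
        (pullback.snd i₂ α.left) := IsPullback.of_right big' hr2 H
    have hq' : IsQuotientMap (pullback.snd f₁ (pullback.fst i₂ α.left)).base :=
      h.subm r (pullback.snd i₂ α.left) _ sq'.flip
    have ht : IsQuotientMap (pullback.fst i₂ α.left).base :=
      Flat.isQuotientMap_of_surjective (pullback.fst i₂ α.left)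
    have hcomp := ht.comp hq'
    have heq' : (f₁.base ∘ (pullback.fst f₁ (pullback.fst i₂ α.left)).base : _ → _) =
        (pullback.fst i₂ α.left).base ∘ (pullback.snd f₁ (pullback.fst i₂ α.left)).base := by
      funext x
      exact congrArg (fun g : pullback f₁ (pullback.fst i₂ α.left) ⟶ T => g.base x) c1
    show IsQuotientMap f₁.base
    exact IsQuotientMap.of_comp (pullback.fst f₁ (pullback.fst i₂ α.left)).continuous
      f₁.continuous (heq' ▸ hcomp)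
  -- sections
  have hsec : ∀ U : Y.left.Opens, Function.Injective (φ.left.app U) ∧
      Set.range (φ.left.app U) = {f | GIT.IsInvSection a φ U f} := by
    intro U
    exact sec_of_affine φ.left a.act.left (snd G X).left hinv.left (fun V hV =>
      sec_affine_of_descent φ.left a.act.left (snd G X).left φ'.left a'.act.left (snd G X').left
        pr.left α.left (G ◁ pr).left H F2 F3
        (fun V' _ => ⟨(h.sections V').1, fun s hs =>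
          (Set.ext_iff.mp (h.sections V').2 s).mpr hs⟩) V hV) U
  exact ⟨hinv, hsurj, horbit, hsubm, hsec⟩

end Groth.Agent.H4.GdB
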