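import Mathlib
import Groth.Prelude.Def_W4bk4git07Quot
import Groth.Prelude.Def_ChGrp
import Groth.Agent.H4.GdB

/-!
# Descent of universal geometric quotients along fpqc base change (helper4)
-/

set_option autoImplicit false
universe u
open CategoryTheory MonoidalCategory CartesianMonoidalCategory MonObj AlgebraicGeometry CategoryTheory.Limits

namespace Groth.Agent.H4.GdC

variable {S : Scheme.{u}}

/-- the induced action on a base change of an invariant morphism -/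
theorem exists_action_baseChange {G X₁ Y₁ Y₁' X₁' : Over S} [GrpObj G]
    (a₁ : AlgGrp.Action G X₁) (φ₁ : X₁ ⟶ Y₁) (hinv₁ : GIT.IsInvariant a₁ φ₁)
    (α₁ : Y₁' ⟶ Y₁) (pr₁' : X₁' ⟶ X₁) (φ₁' : X₁' ⟶ Y₁') (hpbA : IsPullback pr₁' φ₁' φ₁ α₁) :
    ∃ a₁' : AlgGrp.Action G X₁', a₁'.act ≫ pr₁' = (G ◁ pr₁') ≫ a₁.act ∧
      GIT.IsInvariant a₁' φ₁' := by
  obtain ⟨act, hact1, hact2⟩ : ∃ act : G ⊗ X₁' ⟶ X₁', act ≫ pr₁' = (G ◁ pr₁') ≫ a₁.act ∧
      act ≫ φ₁' = snd G X₁' ≫ φ₁' :=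
    ⟨hpbA.lift ((G ◁ pr₁') ≫ a₁.act) (snd G X₁' ≫ φ₁') (by
      have h1 : a₁.act ≫ φ₁ = snd G X₁ ≫ φ₁ := hinv₁
      rw [Category.assoc, h1, whiskerLeft_snd_assoc, Category.assoc, hpbA.w]),
      hpbA.lift_fst _ _ _, hpbA.lift_snd _ _ _⟩
  have pt1 : ∀ {T : Over S} (g : T ⟶ G) (x : T ⟶ X₁'),
      (lift g x ≫ act) ≫ pr₁' = lift g (x ≫ pr₁') ≫ a₁.act := by
    intro T g x
    rw [Category.assoc, hact1, lift_whiskerLeft_assoc]
  have pt2 : ∀ {T : Over S} (g : T ⟶ G) (x : T ⟶ X₁'),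
      (lift g x ≫ act) ≫ φ₁' = x ≫ φ₁' := by
    intro T g x
    rw [Category.assoc, hact2, lift_snd_assoc]
  refine ⟨⟨act, ?_, ?_⟩, hact1, hact2⟩
  · apply AlgGrp.Action.hom_ext_lift₂
    intro T t x
    rw [lift_whiskerRight_assoc, lift_leftUnitor_hom]
    have ht : t ≫ η[G] = (1 : T ⟶ G) := by
      rw [Hom.one_def, toUnit_unique t (toUnit T)]
    rw [ht]
    apply hpbA.hom_ext
    · rw [pt1, AlgGrp.Action.lift_one_act]
    · rw [pt2]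
  · apply AlgGrp.Action.hom_ext_lift₃
    intro T g h x
    rw [lift_whiskerRight_assoc, ← Hom.mul_def, lift_lift_associator_hom_assoc,
      lift_whiskerLeft_assoc]
    apply hpbA.hom_ext
    · rw [pt1, pt1, pt1, AlgGrp.Action.lift_mul_act]
    · rw [pt2, pt2, pt2]

/-- **Descent of universal geometric quotients along fpqc base change.** -/
theorem isUnivGeomQuot_descent {G X Y X' Y' : Over S} [GrpObj G]
    (a : AlgGrp.Action G X) (φ : X ⟶ Y) (hinv : GIT.IsInvariant a φ)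
    [QuasiCompact φ.left] [QuasiSeparated φ.left]
    (α : Y' ⟶ Y) [Flat α.left] [Surjective α.left] [QuasiCompact α.left]
    (pr : X' ⟶ X) (φ' : X' ⟶ Y') (hpb : IsPullback pr φ' φ α)
    (a' : AlgGrp.Action G X') (heq : a'.act ≫ pr = (G ◁ pr) ≫ a.act)
    (hinv' : GIT.IsInvariant a' φ')
    (h : GIT.IsUnivGeomQuot a' φ') : GIT.IsUnivGeomQuot a φ := by
  obtain ⟨h0, hbc⟩ := h
  refine ⟨Groth.Agent.H4.GdB.isGeomQuot_descent a φ hinv α pr φ' hpb a' heq h0, ?_⟩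
  intro X₁ Y₁ pr₁ φ₁ g _ hpb₁ a₁ heq₁ hinv₁
  obtain ⟨Y₁', α₁, g', cond, hpbY⟩ : ∃ (Y₁' : Over S) (α₁ : Y₁' ⟶ Y₁) (g' : Y₁' ⟶ Y'),
      α₁ ≫ g = g' ≫ α ∧ IsPullback α₁ g' g α :=
    ⟨_, _, _, pullback.condition, IsPullback.of_hasPullback g α⟩
  obtain ⟨X₁', pr₁', φ₁', hpbA⟩ : ∃ (X₁' : Over S) (pr₁' : X₁' ⟶ X₁) (φ₁' : X₁' ⟶ Y₁'),
      IsPullback pr₁' φ₁' φ₁ α₁ := ⟨_, _, _, IsPullback.of_hasPullback φ₁ α₁⟩
  obtain ⟨q, hq1, hq2⟩ : ∃ q : X₁' ⟶ X', q ≫ pr = pr₁' ≫ pr₁ ∧ q ≫ φ' = φ₁' ≫ g' :=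
    ⟨hpb.lift (pr₁' ≫ pr₁) (φ₁' ≫ g')
      (calc (pr₁' ≫ pr₁) ≫ φ = pr₁' ≫ (pr₁ ≫ φ) := Category.assoc _ _ _
        _ = pr₁' ≫ (φ₁ ≫ g) := by rw [hpb₁.w]
        _ = (φ₁' ≫ α₁) ≫ g := by rw [← Category.assoc, hpbA.w]
        _ = φ₁' ≫ (g' ≫ α) := by rw [Category.assoc, cond]
        _ = (φ₁' ≫ g') ≫ α := (Category.assoc _ _ _).symm),
      hpb.lift_fst _ _ _, hpb.lift_snd _ _ _⟩
  have big : IsPullback (pr₁' ≫ pr₁) φ₁' φ (α₁ ≫ g) := hpbA.paste_horiz hpb₁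
  have big' : IsPullback (q ≫ pr) φ₁' φ (g' ≫ α) := by
    rw [hq1, ← cond]; exact big
  have hpbB : IsPullback q φ₁' φ' g' := IsPullback.of_right big' hq2 hpb
  obtain ⟨a₁', heqA, hinvA⟩ := exists_action_baseChange a₁ φ₁ hinv₁ α₁ pr₁' φ₁' hpbA
  have heqB : a₁'.act ≫ q = (G ◁ q) ≫ a'.act := by
    apply hpb.hom_ext
    · have L : (a₁'.act ≫ q) ≫ pr = (G ◁ (pr₁' ≫ pr₁)) ≫ a.act := by
        rw [Category.assoc, hq1, ← Category.assoc, heqA, Category.assoc, heq₁,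
          MonoidalCategory.whiskerLeft_comp, Category.assoc]
      have R : ((G ◁ q) ≫ a'.act) ≫ pr = (G ◁ (pr₁' ≫ pr₁)) ≫ a.act := by
        rw [Category.assoc, heq, ← Category.assoc, ← MonoidalCategory.whiskerLeft_comp, hq1]
      exact L.trans R.symm
    · have hA : a₁'.act ≫ φ₁' = snd G X₁' ≫ φ₁' := hinvA
      have hB : a'.act ≫ φ' = snd G X' ≫ φ' := hinv'
      have L2 : (a₁'.act ≫ q) ≫ φ' = snd G X₁' ≫ φ₁' ≫ g' := by
        rw [Category.assoc, hq2, ← Category.assoc, hA, Category.assoc]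
      have R2 : ((G ◁ q) ≫ a'.act) ≫ φ' = snd G X₁' ≫ φ₁' ≫ g' := by
        rw [Category.assoc, hB, whiskerLeft_snd_assoc, hq2]
      exact L2.trans R2.symm
  have hGQ' : GIT.IsGeomQuot a₁' φ₁' := hbc q φ₁' g' trivial hpbB a₁' heqB hinvA
  have hpb₁' : IsPullback pr₁.left φ₁.left φ.left g.left := hpb₁.map (Over.forget S)
  haveI : QuasiCompact φ₁.left :=
    MorphismProperty.of_isPullback (P := @QuasiCompact) hpb₁' inferInstance
  haveI : QuasiSeparated φ₁.left :=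
    MorphismProperty.of_isPullback (P := @QuasiSeparated) hpb₁' inferInstance
  have hpbY' : IsPullback α₁.left g'.left g.left α.left := hpbY.map (Over.forget S)
  haveI : Flat α₁.left := MorphismProperty.of_isPullback (P := @Flat) hpbY'.flip inferInstance
  haveI : Surjective α₁.left :=
    MorphismProperty.of_isPullback (P := @Surjective) hpbY'.flip inferInstance
  haveI : QuasiCompact α₁.left :=
    MorphismProperty.of_isPullback (P := @QuasiCompact) hpbY'.flip inferInstance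
  exact Groth.Agent.H4.GdB.isGeomQuot_descent a₁ φ₁ hinv₁ α₁ pr₁' φ₁' hpbA a₁' heqA hGQ'

end Groth.Agent.H4.GdC
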