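import Mathlib
set_option autoImplicit false
universe u v w
open Submodule

namespace Groth.Agent.H4.GenFree

lemma le_nonZeroDivisors_of_field {A : Type*} [CommRing A] [IsDomain A] (S : Submonoid A)
    (K : Type*) [Field K] [Algebra A K] [IsLocalization S K] : S ≤ nonZeroDivisors A := by
  intro s hs
  rw [mem_nonZeroDivisors_iff_ne_zero]
  rintro rfl
  have := IsLocalization.map_units K (⟨0, hs⟩ : S)
  simp at this

/-- a family in `M` whose image is a basis of the localization at the generic point. -/
lemma exists_family {A : Type*} [CommRing A] {M : Type*} [AddCommGroup M] [Module A M]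
    (S : Submonoid A) {K : Type*} [Field K] [Algebra A K] [IsLocalization S K]
    {M' : Type*} [AddCommGroup M'] [Module A M'] [Module K M'] [IsScalarTower A K M']
    (f : M →ₗ[A] M') [IsLocalizedModule S f] [Module.Finite A M] :
    ∃ m : Fin (Module.finrank K M') → M, LinearIndependent K (f ∘ m) ∧
      span K (Set.range (f ∘ m)) = ⊤ := by
  haveI : Module.Finite K M' := Module.Finite.of_isLocalizedModule S (Rₚ := K) f
  let b := Module.finBasis K M'
  have hsurj := fun i => IsLocalizedModule.surj S f (b i)
  choose ms hms using hsurj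
  have hu : ∀ i, IsUnit (algebraMap A K (ms i).2) := fun i => IsLocalization.map_units K (ms i).2
  let b' := b.isUnitSMul hu
  have hb' : ∀ i, b' i = f (ms i).1 := by
    intro i
    rw [Module.Basis.isUnitSMul_apply, ← hms i, Submonoid.smul_def, algebraMap_smul]
  refine ⟨fun i => (ms i).1, ?_, ?_⟩
  · convert b'.linearIndependent using 1
    funext i
    exact (hb' i).symm
  · convert b'.span_eq using 2
    congr 1
    funext i
    exact (hb' i).symm

lemma exists_smul_mem {A : Type*} [CommRing A] {M : Type*} [AddCommGroup M] [Module A M]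
    (S : Submonoid A) {K : Type*} [CommRing K] [Algebra A K] [IsLocalization S K]
    {M' : Type*} [AddCommGroup M'] [Module A M'] [Module K M'] [IsScalarTower A K M']
    (f : M →ₗ[A] M') [IsLocalizedModule S f] (m : Set M) (hm : span K (f '' m) = ⊤) (x : M) :
    ∃ a ∈ S, a • x ∈ span A m := by
  have h1 : f x ∈ (span A m).localized' K S f := by
    rw [localized'_span, hm]; trivial
  obtain ⟨n, hn, s, hs⟩ := h1
  rw [IsLocalizedModule.mk'_eq_iff] at hs
  have h2 : f (s.1 • x) = f n := by rw [map_smul]; exact hs.symm
  obtain ⟨e, he⟩ := IsLocalizedModule.exists_of_eq (S := S) h2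
  refine ⟨e.1 * s.1, S.mul_mem e.2 s.2, ?_⟩
  rw [mul_smul]
  have : e.1 • s.1 • x = e.1 • n := he
  rw [this]
  exact Submodule.smul_mem _ _ hn

lemma exists_smul_mem_finset {A : Type*} [CommRing A] {M : Type*} [AddCommGroup M] [Module A M]
    (S : Submonoid A) {K : Type*} [CommRing K] [Algebra A K] [IsLocalization S K]
    {M' : Type*} [AddCommGroup M'] [Module A M'] [Module K M'] [IsScalarTower A K M']
    (f : M →ₗ[A] M') [IsLocalizedModule S f] (m : Set M) (hm : span K (f '' m) = ⊤)
    (T : Finset M) :
    ∃ a ∈ S, ∀ x ∈ T, a • x ∈ span A m := by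
  classical
  induction T using Finset.induction_on with
  | empty => exact ⟨1, S.one_mem, by simp⟩
  | insert y T _ ih =>
    obtain ⟨a, ha, h⟩ := ih
    obtain ⟨c, hc, h'⟩ := exists_smul_mem S f m hm y
    refine ⟨a * c, S.mul_mem ha hc, ?_⟩
    intro x hx
    rw [Finset.mem_insert] at hx
    rcases hx with rfl | hx
    · rw [mul_smul]; exact Submodule.smul_mem _ _ h'
    · rw [mul_comm, mul_smul]; exact Submodule.smul_mem _ _ (h x hx)

/-- **generic freeness** for a finite module over a domain: after inverting one element the module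
becomes free of rank the generic rank. -/
theorem exists_equiv_away {A : Type*} [CommRing A] [IsDomain A] {M : Type*} [AddCommGroup M]
    [Module A M] (S : Submonoid A) {K : Type*} [Field K] [Algebra A K] [IsLocalization S K]
    {M' : Type*} [AddCommGroup M'] [Module A M'] [Module K M'] [IsScalarTower A K M']
    (f : M →ₗ[A] M') [IsLocalizedModule S f] [Module.Finite A M] :
    ∃ a ∈ S, ∀ (A' : Type v) (M'' : Type w) [CommRing A'] [Algebra A A'] [AddCommGroup M'']
      [Module A M''] [Module A' M''] [IsScalarTower A A' M''] (g : M →ₗ[A] M'')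
      [IsLocalization.Away a A'] [IsLocalizedModule (Submonoid.powers a) g],
      Nonempty (M'' ≃ₗ[A'] (Fin (Module.finrank K M') → A')) := by
  classical
  obtain ⟨m, hli, hsp⟩ := exists_family S f (K := K)
  obtain ⟨T, hT⟩ := (Module.finite_def.mp (inferInstance : Module.Finite A M))
  have hsp' : span K (f '' Set.range m) = ⊤ := by rw [← Set.range_comp]; exact hsp
  obtain ⟨a, haS, ha⟩ := exists_smul_mem_finset S f (Set.range m) hsp' T
  refine ⟨a, haS, ?_⟩
  intro A' M'' _ _ _ _ _ _ g _ _
  have hinj : Function.Injective (algebraMap A K) :=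
    IsLocalization.injective K (le_nonZeroDivisors_of_field S K)
  have hliA : LinearIndependent A m := by
    have h1 : LinearIndependent A (f ∘ m) :=
      hli.restrict_scalars (by
        intro x y hxy
        apply hinj
        simpa [Algebra.smul_def] using hxy)
    exact LinearIndependent.of_comp f h1
  have hli' : LinearIndependent A' (g ∘ m) :=
    hliA.of_isLocalizedModule A' (Submonoid.powers a) g
  have hspan : span A' (Set.range (g ∘ m)) = ⊤ := by
    have h1 : span A' (g '' (T : Set M)) = ⊤ :=
      span_eq_top_of_isLocalizedModule A' (Submonoid.powers a) g hT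
    rw [eq_top_iff, ← h1, span_le]
    rintro _ ⟨x, hx, rfl⟩
    have h2 : g (a • x) ∈ span A' (Set.range (g ∘ m)) := by
      have h3 : (span A (Set.range m)).map g ≤ (span A' (Set.range (g ∘ m))).restrictScalars A := by
        rw [Submodule.map_span, span_le, ← Set.range_comp]
        exact fun y hy => subset_span hy
      exact h3 (Submodule.mem_map_of_mem (ha x hx))
    have hu : IsUnit (algebraMap A A' a) := IsLocalization.Away.algebraMap_isUnit a
    rw [map_smul, ← algebraMap_smul A', ← hu.unit_spec] at h2
    have := Submodule.smul_mem _ ((hu.unit⁻¹ : A'ˣ) : A') h2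
    rwa [smul_smul, Units.inv_mul, one_smul] at this
  exact ⟨(Module.Basis.mk hli' hspan.ge).equivFun⟩

end Groth.Agent.H4.GenFree
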