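import Mathlib
import Groth.Agent.H4.FittSheaf2
import Groth.Agent.H4.Fitting6
import Groth.Agent.Lib.Lead.QC.GlobGenRel
set_option autoImplicit false
universe u
open CategoryTheory CategoryTheory.Limits AlgebraicGeometry TopologicalSpace Opposite

namespace Groth.Agent.H4.GenSec
open Groth.Agent.H4.Fitting Groth.Agent.H4.FittSheaf Groth.Agent.LD.QC

/-- spans over two rings acting compatibly. -/
lemma span_eq_top_of_compat {A B M : Type*} [Semiring A] [Semiring B] [AddCommMonoid M]
    [Module A M] [Module B M] (σ : A → B) (h : ∀ (a : A) (m : M), a • m = σ a • m)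
    (s : Set M) (hs : Submodule.span A s = ⊤) : Submodule.span B s = ⊤ := by
  rw [eq_top_iff]
  rintro m -
  have hm : m ∈ Submodule.span A s := hs ▸ Submodule.mem_top
  induction hm using Submodule.span_induction with
  | mem x hx => exact Submodule.subset_span hx
  | zero => exact Submodule.zero_mem _
  | add x y _ _ hx hy => exact Submodule.add_mem _ hx hy
  | smul a x _ hx => rw [h a x]; exact Submodule.smul_mem _ _ hx

variable {X : Scheme.{u}}

/-- transport of a spanning family along an equality of opens. -/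
lemma span_res_eq_top_of_eq (M : X.Modules) {U W : X.Opens} (h : W = U) {ι : Type*}
    (g : ι → Γ(M, U)) (hg : Submodule.span Γ(X, U) (Set.range g) = ⊤) :
    Submodule.span Γ(X, W) (Set.range fun i => M.presheaf.map (homOfLE h.le).op (g i)) = ⊤ := by
  subst h
  convert hg using 3
  funext i
  exact res_self M le_rfl (g i)

/-- a family of global sections whose restrictions span locally defines an epimorphism from a
finite free module. -/
theorem epi_homOfSections_of_span (M : X.Modules) {n : ℕ} (t : Fin n → Γ(M, ⊤))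
    (h : ∀ (x : X) (U : X.Opens), x ∈ U → ∃ W : X.Opens, W ≤ U ∧ x ∈ W ∧
      Submodule.span Γ(X, W)
        (Set.range fun i => M.presheaf.map (homOfLE (le_top : W ≤ ⊤)).op (t i)) = ⊤) :
    Epi (homOfSections M t) := by
  refine @Preadditive.epi_of_cancel_zero X.Modules _ _ _ _ (homOfSections M t) (fun {Q} q hq => ?_)
  have hkill : ∀ i, q.app ⊤ (t i) = 0 := by
    intro i
    have h1 : homOfSection M (t i) ≫ q = 0 := by
      have e1 : Sigma.ι (fun _ : Fin n => unitMod X) i ≫ homOfSections M t =
          homOfSection M (t i) := Sigma.ι_desc _ i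
      calc homOfSection M (t i) ≫ q
          = (Sigma.ι (fun _ : Fin n => unitMod X) i ≫ homOfSections M t) ≫ q :=
            congrArg (fun z => z ≫ q) e1.symm
        _ = Sigma.ι (fun _ : Fin n => unitMod X) i ≫ (homOfSections M t ≫ q) :=
            Category.assoc _ _ _
        _ = Sigma.ι (fun _ : Fin n => unitMod X) i ≫ (0 : _ ⟶ Q) :=
            congrArg (fun z => Sigma.ι (fun _ : Fin n => unitMod X) i ≫ z) hq
        _ = 0 := comp_zero
    rw [homOfSection_comp] at h1
    have h2 := sectionOfHom_homOfSection Q (q.app ⊤ (t i))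
    rw [h1] at h2
    rw [← h2]
    rfl
  apply Scheme.Modules.hom_ext
  intro U
  ext m
  change q.app U m = 0
  have hloc : ∀ x : U, ∃ (W : X.Opens) (hW : W ≤ U), x.1 ∈ W ∧
      Q.presheaf.map (homOfLE hW).op (q.app U m) = 0 := by
    rintro ⟨x, hxU⟩
    obtain ⟨W, hWU, hxW, hspan⟩ := h x U hxU
    refine ⟨W, hWU, hxW, ?_⟩
    rw [← app_res q hWU m]
    have hm : M.presheaf.map (homOfLE hWU).op m ∈ Submodule.span Γ(X, W)
        (Set.range fun i => M.presheaf.map (homOfLE (le_top : W ≤ ⊤)).op (t i)) := by
      rw [hspan]; trivial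
    have hker : Submodule.span Γ(X, W)
        (Set.range fun i => M.presheaf.map (homOfLE (le_top : W ≤ ⊤)).op (t i)) ≤
        LinearMap.ker (appLinear q W) := by
      rw [Submodule.span_le]
      rintro _ ⟨i, rfl⟩
      change q.app W _ = 0
      rw [app_res q (le_top : W ≤ ⊤), hkill, map_zero]
    exact hker hm
  choose W hW hxW hres using hloc
  apply section_ext_of_cover Q W hW ?_ (q.app U m) 0
  · intro x
    rw [hres x, map_zero]
  · intro x hx
    exact Opens.mem_iSup.mpr ⟨⟨x, hx⟩, hxW ⟨x, hx⟩⟩

/-- on an affine scheme, global sections spanning the module of global sections of a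
quasi-coherent module define an epimorphism from a finite free module. -/
theorem epi_homOfSections_of_isAffine [IsAffine X] (M : X.Modules) [M.IsQuasicoherent] {n : ℕ}
    (t : Fin n → Γ(M, ⊤)) (ht : Submodule.span Γ(X, ⊤) (Set.range t) = ⊤) :
    Epi (homOfSections M t) := by
  apply epi_homOfSections_of_span
  intro x U hxU
  have hT : IsAffineOpen (⊤ : X.Opens) := isAffineOpen_top X
  obtain ⟨f, hfU, hxf⟩ := hT.exists_basicOpen_le (V := U) ⟨x, hxU⟩ trivial
  refine ⟨X.basicOpen f, hfU, hxf, ?_⟩
  letI : Algebra Γ(X, ⊤) Γ(X, X.basicOpen f) := resAlgebra (X.basicOpen_le f)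
  letI : Module Γ(X, ⊤) Γ(M, X.basicOpen f) := resModule M (X.basicOpen_le f)
  haveI : IsScalarTower Γ(X, ⊤) Γ(X, X.basicOpen f) Γ(M, X.basicOpen f) :=
    resModule_isScalarTower M (X.basicOpen_le f)
  haveI : IsLocalization.Away f Γ(X, X.basicOpen f) := hT.isLocalization_basicOpen f
  haveI : IsLocalizedModule.Away f (resLinear M (X.basicOpen_le f)) :=
    isLocalizedModule_basicOpen M hT f
  have := span_eq_top_of_isLocalizedModule Γ(X, X.basicOpen f) (Submonoid.powers f)
    (resLinear M (X.basicOpen_le f)) (v := Set.range t) ht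
  rw [← this]
  congr 1
  ext m
  simp only [Set.mem_range, Set.mem_image, exists_exists_eq_and]
  rfl

/-- sections of a quotient of a finite free module over an affine open are spanned by the images of
the basis sections. -/
theorem span_eq_top_of_epi {M : X.Modules} [M.IsQuasicoherent] {n : ℕ}
    (p : FlatMod.freeMod X n ⟶ M) [Epi p] {U : X.Opens} (hU : IsAffineOpen U) :
    Submodule.span Γ(X, U) (Set.range fun j : Fin n =>
      (Sigma.ι (fun _ : Fin n => unitMod X) j ≫ p).app U (1 : Γ(X, U))) = ⊤ := by
  classical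
  rw [eq_top_iff]
  intro m _
  obtain ⟨g, rfl⟩ := epi_app_affine (M := FlatMod.freeMod X n) (N := M) inferInstance inferInstance
    p hU m
  have h1 : g = ∑ j, (Sigma.ι (fun _ : Fin n => unitMod X) j).app U ((freeProj X n j).app U g) := by
    have h2 := sum_app (fun j => freeProj X n j ≫ Sigma.ι (fun _ : Fin n => unitMod X) j) U g
    rw [freeProj_total] at h2
    exact h2
  rw [h1, map_sum]
  refine Submodule.sum_mem _ (fun j _ => ?_)
  have h3 : p.app U ((Sigma.ι (fun _ : Fin n => unitMod X) j).app U ((freeProj X n j).app U g)) =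
      (show Γ(X, U) from (freeProj X n j).app U g) •
        (Sigma.ι (fun _ : Fin n => unitMod X) j ≫ p).app U (1 : Γ(X, U)) :=
    unitHom_app M (Sigma.ι (fun _ : Fin n => unitMod X) j ≫ p) U _
  rw [h3]
  exact Submodule.smul_mem _ _ (Submodule.subset_span ⟨j, rfl⟩)

end Groth.Agent.H4.GenSec
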