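import Groth.Prelude.Def_FDesc
import Groth.Agent.H4.SmRed2
import Mathlib

/-!
# Geometric reducedness at a point is etale local (helper4)
-/

universe u

namespace Groth.Agent.H4.GeomRed

open CategoryTheory CategoryTheory.Limits AlgebraicGeometry

lemma stalkMap_injective_of_flat {X Y : Scheme.{u}} (f : X ⟶ Y) [Flat f] (x : X) :
    Function.Injective (f.stalkMap x).hom := by
  algebraize [(f.stalkMap x).hom]
  have : Module.FaithfullyFlat (Y.presheaf.stalk (f x)) (X.presheaf.stalk x) :=
    @Module.FaithfullyFlat.of_flat_of_isLocalHom _ _ _ _ _ _ _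
      (Flat.stalkMap f x) (f.toLRSHom.prop x)
  exact ‹RingHom.FaithfullyFlat _›.injective

variable {k : Type u} [Field k]

section

variable {W V : Scheme.{u}} (fW : W ⟶ Spec (CommRingCat.of k)) (fV : V ⟶ Spec (CommRingCat.of k))
  (h : W ⟶ V) (hh : h ≫ fV = fW) (K : Type u) [Field K] [Algebra k K]

/-- the base change of `h` to `K`. -/
noncomputable def bcMap : FBase.bc fW K ⟶ FBase.bc fV K :=
  pullback.map fW (Spec.map (CommRingCat.ofHom (algebraMap k K))) fV
    (Spec.map (CommRingCat.ofHom (algebraMap k K))) h (𝟙 _) (𝟙 _)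
    (by rw [Category.comp_id, hh]) (by rw [Category.comp_id, Category.id_comp])

lemma bcMap_bcπ : bcMap fW fV h hh K ≫ FBase.bcπ fV K = FBase.bcπ fW K ≫ h := by
  exact pullback.lift_fst _ _ _

lemma bcMap_bcStr : bcMap fW fV h hh K ≫ FBase.bcStr fV K = FBase.bcStr fW K := by
  exact (pullback.lift_snd _ _ _).trans (Category.comp_id _)

lemma isPullback_bcMap :
    IsPullback (FBase.bcπ fW K) (bcMap fW fV h hh K) h (FBase.bcπ fV K) := by
  have right : IsPullback (FBase.bcStr fV K) (FBase.bcπ fV K)
      (Spec.map (CommRingCat.ofHom (algebraMap k K))) fV :=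
    (IsPullback.of_hasPullback fV (Spec.map (CommRingCat.ofHom (algebraMap k K)))).flip
  have outer : IsPullback (bcMap fW fV h hh K ≫ FBase.bcStr fV K) (FBase.bcπ fW K)
      (Spec.map (CommRingCat.ofHom (algebraMap k K))) (h ≫ fV) := by
    rw [bcMap_bcStr, hh]
    exact (IsPullback.of_hasPullback fW (Spec.map (CommRingCat.ofHom (algebraMap k K)))).flip
  exact (IsPullback.of_right outer (bcMap_bcπ fW fV h hh K) right).flip

end

/-- Geometric reducedness at a point is invariant under etale morphisms of `k`-schemes. -/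
theorem isGeomReducedAt_iff_of_etale {W V : Scheme.{u}} (fW : W ⟶ Spec (CommRingCat.of k))
    (fV : V ⟶ Spec (CommRingCat.of k)) (h : W ⟶ V) (hh : h ≫ fV = fW) [Etale h] (w : W) :
    FBase.IsGeomReducedAt fW w ↔ FBase.IsGeomReducedAt fV (h w) := by
  constructor
  · intro hW K _ _ v' hv'
    have sq := isPullback_bcMap fW fV h hh K
    have het : Etale (bcMap fW fV h hh K) := MorphismProperty.of_isPullback sq inferInstance
    obtain ⟨w', hw'1, hw'2⟩ := Scheme.exists_preimage_of_isPullback sq w v' hv'.symm
    have hred := hW K w' hw'1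
    rw [← hw'2]
    exact isReduced_of_injective ((bcMap fW fV h hh K).stalkMap w').hom
      (stalkMap_injective_of_flat _ w')
  · intro hV K _ _ w' hw'
    have sq := isPullback_bcMap fW fV h hh K
    have het : Etale (bcMap fW fV h hh K) := MorphismProperty.of_isPullback sq inferInstance
    have hv' : (FBase.bcπ fV K).base (bcMap fW fV h hh K w') = h w := by
      rw [← hw']
      change (bcMap fW fV h hh K ≫ FBase.bcπ fV K) w' = (FBase.bcπ fW K ≫ h) w'
      rw [bcMap_bcπ]
    have hred := hV K _ hv'
    exact SmRed.isReduced_stalk_of_smooth (bcMap fW fV h hh K) w'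

end Groth.Agent.H4.GeomRed
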