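import Groth.Agent.H4.GeomRed
import Groth.Agent.Lib.Helper5.AlgSp.Points
import Mathlib

/-!
# Geometric reducedness at a point of an algebraic space: independence of the chart (helper4)
-/

universe u

namespace Groth.Agent.H4.GeomRed

open CategoryTheory CategoryTheory.Limits AlgebraicGeometry AlgSp Groth.Agent.H5.AlgSp

variable {S : Scheme.{u}}

lemma ofPt_yon_map {U W : Over S} (e : W ⟶ U) (w : ↥W.left) :
    Points.ofPt ((yon S).map e) w = Points.ofScheme U (e.left w) := by
  have h3 := ofPt_yon_map_comp e (𝟙 ((yon S).obj U)) w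
  rw [Category.comp_id] at h3
  rw [h3, Points.ofPt_eq_map_ofScheme, Points.map_id]

lemma eq_of_ofPt_yon_map_eq {U W : Over S} (e : W ⟶ U) (w : ↥W.left) (u : ↥U.left)
    (h : Points.ofPt ((yon S).map e) w = Points.ofScheme U u) : e.left w = u := by
  rw [ofPt_yon_map] at h
  exact (Points.schemeEquiv U).injective h

variable {k : Type u} [Field k] {X : Sp (Spec (CommRingCat.of k))}

/-- Geometric reducedness at a point, measured on an etale chart, does not depend on the chart. -/
theorem isGeomReducedAt_chart_iff {U U' : Over (Spec (CommRingCat.of k))}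
    (a : (yon _).obj U ⟶ X) (a' : (yon _).obj U' ⟶ X) (ha : RepWith @Etale a)
    (ha' : RepWith @Etale a') (u : ↥U.left) (u' : ↥U'.left)
    (hx : Points.ofPt a u = Points.ofPt a' u') :
    FBase.IsGeomReducedAt U.hom u ↔ FBase.IsGeomReducedAt U'.hom u' := by
  obtain ⟨W, snd, fst, sq⟩ := ha.1 a'
  obtain ⟨e, rfl⟩ := (yon _).map_surjective fst
  have he : Etale e.left := ha'.2 a _ _ sq.flip
  have hsnd : Etale snd.left := ha.2 a' _ _ sq
  have h1 : Points.map a (Points.ofScheme U u) = Points.ofPt a' u' := by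
    rw [← Points.ofPt_eq_map_ofScheme, hx]
  obtain ⟨w, hw1, hw2⟩ := exists_point_of_isPullback sq _ u' h1
  have hw3 : e.left w = u := eq_of_ofPt_yon_map_eq e w u hw2
  rw [← hw3, ← hw1]
  exact (isGeomReducedAt_iff_of_etale W.hom U.hom e.left (Over.w e) w).symm.trans
    (isGeomReducedAt_iff_of_etale W.hom U'.hom snd.left (Over.w snd) w)

/-- the predicate "`X` is geometrically reduced at `x`" used in the statements. -/
def GeomReducedAtPt (X : Sp (Spec (CommRingCat.of k))) (x : Points X) : Prop :=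
  ∃ (U : Over (Spec (CommRingCat.of k))) (a : (yon _).obj U ⟶ X) (u : ↥U.left),
    RepWith @Etale a ∧ Points.ofPt a u = x ∧ FBase.IsGeomReducedAt U.hom u

theorem geomReducedAtPt_iff_forall (x : Points X) :
    GeomReducedAtPt X x → ∀ (U : Over (Spec (CommRingCat.of k))) (a : (yon _).obj U ⟶ X)
      (u : ↥U.left), RepWith @Etale a → Points.ofPt a u = x → FBase.IsGeomReducedAt U.hom u := by
  rintro ⟨U₀, a₀, u₀, ha₀, hx₀, hg⟩ U a u ha hx
  exact (isGeomReducedAt_chart_iff a₀ a ha₀ ha u₀ u (hx₀.trans hx.symm)).mp hg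

end Groth.Agent.H4.GeomRed
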