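import Mathlib
import Groth.Statements.S16865
import Groth.Agent.Lib.Helper3.AlgSt.LocQ9
import Groth.Agent.Lib.Helper3.GerbAux
import Groth.Agent.Lib.Helper3.TwoYoneda
import Groth.Agent.Lib.Helper3.FibCatYoneda

set_option autoImplicit false
universe w u
open CategoryTheory CategoryTheory.Functor CategoryTheory.Limits Opposite AlgebraicGeometry

noncomputable section

namespace Groth.Agent.H4.GfpA

open Groth.Agent.H3 Groth.Agent.H3.FibCatAux Groth.Agent.H3.GerbAux Groth.Agent.H3.FpCalc Groth.Agent.H3.TwoCart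
  Groth.Agent.H3.AlgStLES Groth.Agent.H3.AlgStLocQ Groth.Agent.H3.TwoYoneda

variable {S : Scheme.{u}} {𝒳 𝒴 𝒵 : AlgSt.Cat S}

/-- a locally essentially surjective 1-morphism is locally surjective on objects -/
theorem locSurjObj_of_les (h𝒴 : FibCat.IsFibGrpd 𝒴.p) (g : 𝒵 ⥤ᵇ 𝒴) (hg : LES g) :
    Gerb.LocSurjObj (QuotSh.J Scheme.fppfPrecoverage S) g := by
  intro η
  obtain ⟨R, hR, hlift⟩ := hg (𝒴.p.obj η) (yBased h𝒴 η)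
  refine ⟨R, hR, fun V f hf => ?_⟩
  obtain ⟨z, ⟨ι⟩⟩ := hlift f hf
  have h1 : 𝒴.p.IsHomLift (𝟙 V) (ι.hom.toNatTrans.app (Over.mk (𝟙 V))) :=
    Groth.Agent.H3.FibCatYoneda.app_isHomLift ι.hom (Over.mk (𝟙 V))
  have h2 : 𝒴.p.IsHomLift (𝟙 V ≫ f)
      (pbMap h𝒴 η ((AlgSt.overMap f).obj (Over.mk (𝟙 V)))) :=
    pbMap_isHomLift h𝒴 η ((AlgSt.overMap f).obj (Over.mk (𝟙 V)))
  refine ⟨z.obj (Over.mk (𝟙 V)),
    ι.hom.toNatTrans.app (Over.mk (𝟙 V)) ≫ pbMap h𝒴 η ((AlgSt.overMap f).obj (Over.mk (𝟙 V))), ?_⟩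
  have h3 : 𝒴.p.IsHomLift (𝟙 V ≫ 𝟙 V ≫ f)
      (ι.hom.toNatTrans.app (Over.mk (𝟙 V)) ≫
        pbMap h𝒴 η ((AlgSt.overMap f).obj (Over.mk (𝟙 V)))) :=
    @IsHomLift.comp _ _ _ _ 𝒴.p _ _ _ _ _ _ (𝟙 V) (𝟙 V ≫ f)
      (ι.hom.toNatTrans.app (Over.mk (𝟙 V)))
      (pbMap h𝒴 η ((AlgSt.overMap f).obj (Over.mk (𝟙 V)))) h1 h2
  have h4 : 𝟙 V ≫ 𝟙 V ≫ f = f := by rw [Category.id_comp, Category.id_comp]
  rw [h4] at h3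
  exact h3

theorem main (h𝒳 : AlgSt.IsAlgStack Scheme.fppfPrecoverage 𝒳)
    (h𝒴 : AlgSt.IsAlgStack Scheme.fppfPrecoverage 𝒴)
    (h𝒴' : AlgSt.IsAlgStack Scheme.fppfPrecoverage 𝒵)
    (f : 𝒳 ⥤ᵇ 𝒴) (g : 𝒵 ⥤ᵇ 𝒴)
    (hg₁ : AlgSt.IsSurjective g) (hg₂ : AlgSt.LocQ (AlgSp.LocP @Flat) g)
    (hg₃ : AlgSt.LocQ (AlgSp.LocP @LocallyOfFinitePresentation) g)
    (h : Gerb.IsGerbeOver (QuotSh.J Scheme.fppfPrecoverage S) (FibCat.fpFst g f)) :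
    Gerb.IsGerbeOver (QuotSh.J Scheme.fppfPrecoverage S) f :=
  isGerbeOver_of_fpFst _ h𝒳.isStack.1 h𝒴.isStack.1 g f
    (locSurjObj_of_les h𝒴.isStack.1 g (les_of_locQ_fppf h𝒴' h𝒴 g hg₂ hg₃ hg₁)) h

end Groth.Agent.H4.GfpA
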