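import Groth.Agent.S7555
import Mathlib.Topology.ExtremallyDisconnected
import Mathlib.Topology.Homeomorph.Defs

/-!
# Helper library: Gleason covers (helper4)
-/

namespace Groth.Agent.H4.Spec

open Topology TopologicalSpace Set Function

universe u

/-- `X` with the discrete topology. -/
def Disc (X : Type u) : Type u := X

instance (X : Type u) : TopologicalSpace (Disc X) := ⊥

instance (X : Type u) : DiscreteTopology (Disc X) := ⟨rfl⟩

/-- The identity map from `Disc X` to `X`. -/
def Disc.val {X : Type u} : Disc X → X := fun x => x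

/-- The identity map from `X` to `Disc X`. -/
def Disc.of {X : Type u} : X → Disc X := fun x => x

theorem Disc.val_of {X : Type u} (x : X) : Disc.val (Disc.of x) = x := rfl

/-- A self-map of a minimal cover over the base is the identity. -/
theorem eq_id_of_minimal {E X : Type u} [TopologicalSpace E] [TopologicalSpace X]
    [CompactSpace E] [T2Space E] {p : E → X}
    (hmin : ∀ E₀ : Set E, IsClosed E₀ → E₀ ≠ univ → p '' E₀ ≠ univ)
    (hsurj : Surjective p)
    {s : E → E} (hs : Continuous s) (hps : p ∘ s = p) : s = id := by
  have hs_surj : Surjective s := by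
    have h1 : IsClosed (range s) := (isCompact_range hs).isClosed
    have h2 : p '' range s = univ := by
      rw [← range_comp, hps]
      exact hsurj.range_eq
    have h3 : range s = univ := by
      by_contra hne
      exact hmin _ h1 hne h2
    exact range_eq_univ.1 h3
  by_contra hne
  obtain ⟨E', hE'cl, hE'ne, hE'⟩ := Groth.Agent.S7555.result s hs hs_surj hne
  apply hmin E' hE'cl hE'ne
  have h1 : p '' (E' ∪ s '' E') = univ := by
    rw [hE', image_univ]
    exact hsurj.range_eq
  rw [image_union, ← image_comp, hps, union_self] at h1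
  exact h1

/-- A retract of a projective compact Hausdorff space is projective. -/
theorem projective_of_retract {Y E : Type u} [TopologicalSpace Y] [TopologicalSpace E]
    (hY : CompactT2.Projective Y) {i : E → Y} {r : Y → E} (hi : Continuous i) (hr : Continuous r)
    (hri : r ∘ i = id) : CompactT2.Projective E := by
  intro B Z _ _ _ _ _ _ f g hf hg hgs
  obtain ⟨h, hh, hgh⟩ := hY (hf.comp hr) hg hgs
  refine ⟨h ∘ i, hh.comp hi, ?_⟩
  rw [← comp_assoc, hgh, comp_assoc, hri, comp_id]

theorem exists_gleason_cover (X : Type u) [TopologicalSpace X] [CompactSpace X] [T2Space X] :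
    ∃ (X' : Type u) (_ : TopologicalSpace X') (_ : CompactSpace X') (_ : T2Space X')
      (_ : ExtremallyDisconnected X') (p : X' → X), Continuous p ∧ Surjective p ∧
      ∀ E : Set X', IsClosed E → E ≠ univ → p '' E ≠ univ := by
  have hid : Continuous (Disc.val : Disc X → X) := continuous_of_discreteTopology
  let q : StoneCech (Disc X) → X := stoneCechExtend hid
  have hq : Continuous q := continuous_stoneCechExtend hid
  have hqs : Surjective q := by
    intro x
    exact ⟨stoneCechUnit (Disc.of x), stoneCechExtend_stoneCechUnit hid (Disc.of x)⟩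
  obtain ⟨E, hEc, hEonto, hEmin⟩ := exists_compact_surjective_zorn_subset hq hqs
  let p : E → X := E.domRestrict q
  have hp : Continuous p := hq.continuousOn.domRestrict
  have hps : Surjective p := by
    intro x
    have : x ∈ q '' E := hEonto ▸ mem_univ x
    obtain ⟨y, hy, rfl⟩ := this
    exact ⟨⟨y, hy⟩, rfl⟩
  have hmin : ∀ E₀ : Set E, IsClosed E₀ → E₀ ≠ univ → p '' E₀ ≠ univ :=
    fun E₀ h1 h2 => hEmin E₀ h2 h1
  have hYproj : CompactT2.Projective (StoneCech (Disc X)) := StoneCech.projective
  obtain ⟨r, hr, hpr⟩ := hYproj hq hp hps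
  have hri : r ∘ (Subtype.val : E → StoneCech (Disc X)) = id := by
    apply eq_id_of_minimal hmin hps (hr.comp continuous_subtype_val)
    rw [← comp_assoc, hpr]
    rfl
  have hEproj : CompactT2.Projective E :=
    projective_of_retract hYproj continuous_subtype_val hr hri
  exact ⟨E, inferInstance, hEc, inferInstance, hEproj.extremallyDisconnected, p, hp, hps, hmin⟩

theorem gleason_cover_unique {X X' X'' : Type u} [TopologicalSpace X] [T2Space X]
    [TopologicalSpace X'] [CompactSpace X'] [T2Space X'] [ExtremallyDisconnected X']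
    [TopologicalSpace X''] [CompactSpace X''] [T2Space X''] [ExtremallyDisconnected X'']
    [CompactSpace X]
    (p : X' → X) (q : X'' → X)
    (hp : Continuous p) (hps : Surjective p)
    (hpmin : ∀ E : Set X', IsClosed E → E ≠ univ → p '' E ≠ univ)
    (hq : Continuous q) (hqs : Surjective q)
    (hqmin : ∀ E : Set X'', IsClosed E → E ≠ univ → q '' E ≠ univ) :
    ∃ h : X' ≃ₜ X'', q ∘ h = p := by
  have hX' : CompactT2.Projective X' := CompactT2.ExtremallyDisconnected.projective
  have hX'' : CompactT2.Projective X'' := CompactT2.ExtremallyDisconnected.projective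
  obtain ⟨a, ha, hqa⟩ := hX' hp hq hqs
  obtain ⟨b, hb, hpb⟩ := hX'' hq hp hps
  have hba : b ∘ a = id := by
    apply eq_id_of_minimal hpmin hps (hb.comp ha)
    rw [← comp_assoc, hpb, hqa]
  have hab : a ∘ b = id := by
    apply eq_id_of_minimal hqmin hqs (ha.comp hb)
    rw [← comp_assoc, hqa, hpb]
  refine ⟨⟨⟨a, b, fun x => congrFun hba x, fun x => congrFun hab x⟩, ha, hb⟩, ?_⟩
  exact hqa

end Groth.Agent.H4.Spec
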