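import Mathlib
import Groth.Agent.Lib.Helper1.Birat
import Groth.Agent.H4.GrpdLib10

set_option autoImplicit false
universe u
open CategoryTheory CategoryTheory.Limits AlgebraicGeometry TopologicalSpace Opposite

namespace Groth.Agent.H4.GlueClosedPt

/-- maps into an affine scheme are determined by their restrictions to the local schemes. -/
lemma L1 {W V' : Scheme.{u}} [IsAffine V'] (h₁ h₂ : W ⟶ V')
    (H : ∀ z : W, W.fromSpecStalk z ≫ h₁ = W.fromSpecStalk z ≫ h₂) : h₁ = h₂ := by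
  apply ext_of_isAffine
  have e1 : ∀ (z : W) (h : W ⟶ V'), W.fromSpecStalk z ≫ h ≫ V'.toSpecΓ =
      Spec.map (h.appTop ≫ W.presheaf.germ ⊤ z trivial) := by
    intro z h
    rw [Scheme.toSpecΓ_naturality, Scheme.fromSpecStalk_toSpecΓ_assoc, ← Spec.map_comp]
  have key : ∀ z : W, h₁.appTop ≫ W.presheaf.germ ⊤ z trivial =
      h₂.appTop ≫ W.presheaf.germ ⊤ z trivial := by
    intro z
    apply Spec.map_injective
    rw [← e1 z h₁, ← e1 z h₂, ← Category.assoc, H z, Category.assoc]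
  ext b
  apply TopCat.Presheaf.section_ext W.sheaf ⊤
  intro z hz
  exact congrArg (fun φ => φ.hom b) (key z)

/-- morphisms of schemes are determined by their restrictions to the local schemes. -/
lemma L2 {X Y : Scheme.{u}} (g₁ g₂ : X ⟶ Y)
    (H : ∀ z : X, X.fromSpecStalk z ≫ g₁ = X.fromSpecStalk z ≫ g₂) : g₁ = g₂ := by
  have hpt : ∀ z : X, g₁ z = g₂ z := by
    intro z
    have e : (X.fromSpecStalk z ≫ g₁) (IsLocalRing.closedPoint (X.presheaf.stalk z)) =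
        (X.fromSpecStalk z ≫ g₂) (IsLocalRing.closedPoint (X.presheaf.stalk z)) := by rw [H z]
    rwa [Scheme.Hom.comp_apply, Scheme.Hom.comp_apply, Scheme.fromSpecStalk_closedPoint] at e
  apply Scheme.hom_ext_of_forall
  intro x
  obtain ⟨_, ⟨(V : Y.Opens), hV, rfl⟩, hyV, -⟩ :=
    Y.isBasis_affineOpens.exists_subset_of_mem_open (Set.mem_univ (g₁ x)) isOpen_univ
  have hyV2 : g₂ x ∈ V := by rw [← hpt x]; exact hyV
  obtain ⟨O, hO⟩ : ∃ O : X.Opens, O = g₁ ⁻¹ᵁ V ⊓ g₂ ⁻¹ᵁ V := ⟨_, rfl⟩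
  have hxO : x ∈ O := by rw [hO]; exact ⟨hyV, hyV2⟩
  refine ⟨O, hxO, ?_⟩
  have hr₁ : Set.range (O.ι ≫ g₁) ⊆ Set.range V.ι := by
    rintro _ ⟨o, rfl⟩
    rw [Scheme.Opens.range_ι]
    have ho : o.1 ∈ g₁ ⁻¹ᵁ V ⊓ g₂ ⁻¹ᵁ V := hO ▸ o.2
    exact ho.1
  have hr₂ : Set.range (O.ι ≫ g₂) ⊆ Set.range V.ι := by
    rintro _ ⟨o, rfl⟩
    rw [Scheme.Opens.range_ι]
    have ho : o.1 ∈ g₁ ⁻¹ᵁ V ⊓ g₂ ⁻¹ᵁ V := hO ▸ o.2
    exact ho.2
  have hk₁ : IsOpenImmersion.lift V.ι (O.ι ≫ g₁) hr₁ ≫ V.ι = O.ι ≫ g₁ :=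
    IsOpenImmersion.lift_fac _ _ _
  have hk₂ : IsOpenImmersion.lift V.ι (O.ι ≫ g₂) hr₂ ≫ V.ι = O.ι ≫ g₂ :=
    IsOpenImmersion.lift_fac _ _ _
  haveI : IsAffine (V : Scheme.{u}) := hV
  have hk : IsOpenImmersion.lift V.ι (O.ι ≫ g₁) hr₁ = IsOpenImmersion.lift V.ι (O.ι ≫ g₂) hr₂ := by
    apply L1
    intro o
    rw [← cancel_mono V.ι, Category.assoc, Category.assoc, hk₁, hk₂]
    calc (O : Scheme.{u}).fromSpecStalk o ≫ O.ι ≫ g₁
        = ((O : Scheme.{u}).fromSpecStalk o ≫ O.ι) ≫ g₁ := (Category.assoc _ _ _).symm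
      _ = (Spec.map (O.ι.stalkMap o) ≫ X.fromSpecStalk (O.ι o)) ≫ g₁ := by
          rw [Scheme.SpecMap_stalkMap_fromSpecStalk]
      _ = (Spec.map (O.ι.stalkMap o) ≫ X.fromSpecStalk (O.ι o)) ≫ g₂ := by
          rw [Category.assoc, H, ← Category.assoc]
      _ = ((O : Scheme.{u}).fromSpecStalk o ≫ O.ι) ≫ g₂ := by
          rw [Scheme.SpecMap_stalkMap_fromSpecStalk]
      _ = (O : Scheme.{u}).fromSpecStalk o ≫ O.ι ≫ g₂ := Category.assoc _ _ _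
  rw [← hk₁, ← hk₂, hk]

/-- gluing two morphisms defined on two opens covering `X`. -/
lemma exists_glue₂ {X Y : Scheme.{u}} (U W : X.Opens) (hcov : ∀ z : X, z ∈ U ∨ z ∈ W)
    (a : (U : Scheme.{u}) ⟶ Y) (f : (W : Scheme.{u}) ⟶ Y)
    (h : X.homOfLE (inf_le_left : U ⊓ W ≤ U) ≫ a = X.homOfLE (inf_le_right : U ⊓ W ≤ W) ≫ f) :
    ∃ g : X ⟶ Y, U.ι ≫ g = a ∧ W.ι ≫ g = f := by
  have hc : IsOpenCover (fun b : Bool => cond b U W) := by
    refine IsOpenCover.mk (eq_top_iff.mpr fun z _ => ?_)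
    rcases hcov z with hz | hz
    · exact Opens.mem_iSup.mpr ⟨true, hz⟩
    · exact Opens.mem_iSup.mpr ⟨false, hz⟩
  obtain ⟨𝒰, h𝒰⟩ : ∃ 𝒰 : X.OpenCover, 𝒰 = X.openCoverOfIsOpenCover _ hc := ⟨_, rfl⟩
  have hUU : pullback.fst U.ι U.ι = pullback.snd U.ι U.ι :=
    (cancel_mono U.ι).mp pullback.condition
  have hWW : pullback.fst W.ι W.ι = pullback.snd W.ι W.ι :=
    (cancel_mono W.ι).mp pullback.condition
  have hUW : pullback.fst U.ι W.ι ≫ a = pullback.snd U.ι W.ι ≫ f := by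
    rw [← cancel_epi (isPullback_opens_inf U W).isoPullback.hom, ← Category.assoc,
      ← Category.assoc, IsPullback.isoPullback_hom_fst, IsPullback.isoPullback_hom_snd]
    exact h
  have hWU : pullback.fst W.ι U.ι ≫ f = pullback.snd W.ι U.ι ≫ a := by
    rw [← cancel_epi (isPullback_opens_inf U W).flip.isoPullback.hom, ← Category.assoc,
      ← Category.assoc, IsPullback.isoPullback_hom_fst, IsPullback.isoPullback_hom_snd]
    exact h.symm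
  subst h𝒰
  refine ⟨(X.openCoverOfIsOpenCover _ hc).glueMorphisms
    (fun b => Bool.rec (motive := fun b => ((X.openCoverOfIsOpenCover _ hc).X b ⟶ Y)) f a b) ?_,
    ?_, ?_⟩
  · intro b b'
    cases b <;> cases b'
    · change pullback.fst W.ι W.ι ≫ f = pullback.snd W.ι W.ι ≫ f
      rw [hWW]
    · exact hWU
    · exact hUW
    · change pullback.fst U.ι U.ι ≫ a = pullback.snd U.ι U.ι ≫ a
      rw [hUU]
  · exact (X.openCoverOfIsOpenCover _ hc).ι_glueMorphisms _ _ true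
  · exact (X.openCoverOfIsOpenCover _ hc).ι_glueMorphisms _ _ false

variable {X Y S : Scheme.{u}}

theorem part1 (x : X) (U : X.Opens) (hU : (U : Set X) = {x}ᶜ) (g₁ g₂ : X ⟶ Y)
    (h1 : U.ι ≫ g₁ = U.ι ≫ g₂)
    (h2 : X.fromSpecStalk x ≫ g₁ = X.fromSpecStalk x ≫ g₂) : g₁ = g₂ := by
  apply L2
  intro z
  by_cases hz : z = x
  · subst hz; exact h2
  · have hzU : z ∈ U := by
      have : z ∈ (U : Set X) := by rw [hU]; exact hz
      exact this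
    rw [← U.fromSpecStalkOfMem_ι z hzU, Category.assoc, Category.assoc, h1]

theorem part2 (p : X ⟶ S) (q : Y ⟶ S) [LocallyOfFinitePresentation q]
    (x : X) (U : X.Opens) (hU : (U : Set X) = {x}ᶜ) [QuasiCompact U.ι]
    (a : (U : Scheme.{u}) ⟶ Y) (b : Spec (X.presheaf.stalk x) ⟶ Y) (ha : a ≫ q = U.ι ≫ p)
    (hb : b ≫ q = X.fromSpecStalk x ≫ p)
    (hab : ((X.fromSpecStalk x) ⁻¹ᵁ U).ι ≫ b = ((X.fromSpecStalk x) ∣_ U) ≫ a) :
    ∃ g : X ⟶ Y, g ≫ q = p ∧ U.ι ≫ g = a ∧ X.fromSpecStalk x ≫ g = b := by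
  have hmemU : ∀ z : X, z ≠ x → z ∈ U := by
    intro z hz
    have : z ∈ (U : Set X) := by rw [hU]; exact hz
    exact this
  obtain ⟨W, hxW, f, hbf, hfq⟩ := Groth.Agent.H1.SpreadFP.spread_out_of_lfp' p q b hb
  obtain ⟨T, hT⟩ : ∃ T : X.Opens, T = U ⊓ W := ⟨_, rfl⟩
  have hTU : T ≤ U := hT ▸ inf_le_left
  have hTW : T ≤ W := hT ▸ inf_le_right
  obtain ⟨fT, hfT⟩ : ∃ fT : (T : Scheme.{u}) ⟶ Y, fT = X.homOfLE hTW ≫ f := ⟨_, rfl⟩
  obtain ⟨aT, haT⟩ : ∃ aT : (T : Scheme.{u}) ⟶ Y, aT = X.homOfLE hTU ≫ a := ⟨_, rfl⟩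
  have hfaq : fT ≫ q = aT ≫ q := by
    rw [hfT, haT, Category.assoc, Category.assoc, hfq, ha, Scheme.homOfLE_ι_assoc,
      Scheme.homOfLE_ι_assoc]
  -- key: agreement near generizations of `x`
  have K : ∀ t : (T : Scheme.{u}), (T.ι t) ⤳ x →
      ∃ O : (T : Scheme.{u}).Opens, t ∈ O ∧ O.ι ≫ fT = O.ι ≫ aT := by
    intro t ht
    apply Groth.Agent.H1.Birat.spread_out_unique_of_lft' q fT aT hfaq
    obtain ⟨c, hcdef⟩ : ∃ c : Spec ((T : Scheme.{u}).presheaf.stalk t) ⟶ Spec (X.presheaf.stalk x),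
        c = Spec.map (T.ι.stalkMap t) ≫ Spec.map (X.presheaf.stalkSpecializes ht) := ⟨_, rfl⟩
    have hc : c ≫ X.fromSpecStalk x = (T : Scheme.{u}).fromSpecStalk t ≫ T.ι := by
      rw [hcdef, Category.assoc, Scheme.SpecMap_stalkSpecializes_fromSpecStalk,
        Scheme.SpecMap_stalkMap_fromSpecStalk]
    have hcW : c ≫ W.fromSpecStalkOfMem x hxW = (T : Scheme.{u}).fromSpecStalk t ≫ X.homOfLE hTW := by
      rw [← cancel_mono W.ι, Category.assoc, Category.assoc, Scheme.Opens.fromSpecStalkOfMem_ι, hc,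
        Scheme.homOfLE_ι]
    have hpb := isPullback_morphismRestrict (X.fromSpecStalk x) U
    have hcomm : ((T : Scheme.{u}).fromSpecStalk t ≫ X.homOfLE hTU) ≫ U.ι = c ≫ X.fromSpecStalk x := by
      rw [Category.assoc, Scheme.homOfLE_ι, hc]
    have hc'1 : hpb.lift _ _ hcomm ≫ (X.fromSpecStalk x ∣_ U) =
        (T : Scheme.{u}).fromSpecStalk t ≫ X.homOfLE hTU := hpb.lift_fst _ _ _
    have hc'2 : hpb.lift _ _ hcomm ≫ ((X.fromSpecStalk x) ⁻¹ᵁ U).ι = c := hpb.lift_snd _ _ _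
    calc (T : Scheme.{u}).fromSpecStalk t ≫ fT
        = ((T : Scheme.{u}).fromSpecStalk t ≫ X.homOfLE hTW) ≫ f := by
          rw [hfT, Category.assoc]
      _ = (c ≫ W.fromSpecStalkOfMem x hxW) ≫ f := by rw [hcW]
      _ = c ≫ b := by rw [Category.assoc, ← hbf]
      _ = (hpb.lift _ _ hcomm ≫ ((X.fromSpecStalk x) ⁻¹ᵁ U).ι) ≫ b := by rw [hc'2]
      _ = hpb.lift _ _ hcomm ≫ ((X.fromSpecStalk x) ∣_ U) ≫ a := by rw [Category.assoc, hab]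
      _ = ((T : Scheme.{u}).fromSpecStalk t ≫ X.homOfLE hTU) ≫ a := by
          rw [← Category.assoc, hc'1]
      _ = (T : Scheme.{u}).fromSpecStalk t ≫ aT := by rw [haT, Category.assoc]
  -- the agreement locus
  obtain ⟨GX, hGX⟩ : ∃ GX : Set X, GX = {z | ∃ (hz : z ∈ T) (O : (T : Scheme.{u}).Opens),
      (⟨z, hz⟩ : T) ∈ O ∧ O.ι ≫ fT = O.ι ≫ aT} := ⟨_, rfl⟩
  have hGXopen : IsOpen GX := by
    rw [isOpen_iff_forall_mem_open]
    intro z hz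
    rw [hGX] at hz
    obtain ⟨hzT, O, hzO, hO⟩ := hz
    refine ⟨(T.ι ''ᵁ O : X.Opens), ?_, (T.ι ''ᵁ O).2, ⟨⟨z, hzT⟩, hzO, rfl⟩⟩
    rintro _ ⟨t, htO, rfl⟩
    rw [hGX]
    exact ⟨t.2, O, htO, hO⟩
  obtain ⟨F, hF⟩ : ∃ F : Set (U : Scheme.{u}), F = U.ι ⁻¹' GXᶜ := ⟨_, rfl⟩
  have hFc : IsClosed F := by
    rw [hF]; exact hGXopen.isClosed_compl.preimage U.ι.continuous
  have hxC : x ∉ closure (U.ι '' F) := by
    intro hx
    obtain ⟨u, huF, hux⟩ :=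
      Groth.Agent.H4.GrpdLib10.exists_specializes_of_mem_closure_image U.ι F hFc x hx
    have huW : U.ι u ∈ W := hux.mem_open W.2 hxW
    have huT : U.ι u ∈ T := by rw [hT]; exact ⟨u.2, huW⟩
    obtain ⟨O, htO, hO⟩ := K ⟨U.ι u, huT⟩ hux
    rw [hF] at huF
    apply huF
    rw [hGX]
    exact ⟨huT, O, htO, hO⟩
  obtain ⟨W', hW'⟩ : ∃ W' : X.Opens,
      W' = W ⊓ ⟨(closure (U.ι '' F))ᶜ, isClosed_closure.isOpen_compl⟩ := ⟨_, rfl⟩
  have hxW' : x ∈ W' := by rw [hW']; exact ⟨hxW, hxC⟩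
  have hW'W : W' ≤ W := hW' ▸ inf_le_left
  have hmemGX : ∀ z : X, z ∈ U → z ∈ W' → z ∈ GX := by
    intro z hzU hzW'
    by_contra hzG
    have hzW'2 : z ∈ W ⊓ ⟨(closure (U.ι '' F))ᶜ, isClosed_closure.isOpen_compl⟩ := hW' ▸ hzW'
    apply hzW'2.2
    apply subset_closure
    refine ⟨⟨z, hzU⟩, ?_, rfl⟩
    rw [hF]
    exact hzG
  have hT'T : U ⊓ W' ≤ T := by
    rw [hT]; exact inf_le_inf_left U hW'W
  -- agreement on `U ⊓ W'`
  have hagree : X.homOfLE (inf_le_left : U ⊓ W' ≤ U) ≫ a =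
      X.homOfLE (inf_le_right : U ⊓ W' ≤ W') ≫ X.homOfLE hW'W ≫ f := by
    have e1 : X.homOfLE (inf_le_left : U ⊓ W' ≤ U) ≫ a = X.homOfLE hT'T ≫ aT := by
      rw [haT, ← Category.assoc, Scheme.homOfLE_homOfLE]
    have e2 : X.homOfLE (inf_le_right : U ⊓ W' ≤ W') ≫ X.homOfLE hW'W ≫ f =
        X.homOfLE hT'T ≫ fT := by
      rw [hfT, ← Category.assoc, ← Category.assoc, Scheme.homOfLE_homOfLE,
        Scheme.homOfLE_homOfLE]
    rw [e1, e2]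
    apply Scheme.hom_ext_of_forall
    intro t'
    have ht'G : t'.1 ∈ GX := hmemGX t'.1 t'.2.1 t'.2.2
    rw [hGX] at ht'G
    obtain ⟨hzT, O, hzO, hO⟩ := ht'G
    have h3 : (X.homOfLE hT'T) t' = (⟨t'.1, hzT⟩ : T) :=
      Subtype.ext (X.homOfLE_apply hT'T t')
    have h4 : t' ∈ X.homOfLE hT'T ⁻¹ᵁ O := by
      change (X.homOfLE hT'T) t' ∈ O
      rw [h3]; exact hzO
    refine ⟨X.homOfLE hT'T ⁻¹ᵁ O, h4, ?_⟩
    rw [← Category.assoc, ← Category.assoc, ← morphismRestrict_ι, Category.assoc, Category.assoc,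
      hO]
  have hcov : ∀ z : X, z ∈ U ∨ z ∈ W' := by
    intro z
    by_cases hz : z = x
    · right; rw [hz]; exact hxW'
    · left; exact hmemU z hz
  obtain ⟨g, hgU, hgW⟩ := exists_glue₂ U W' hcov a (X.homOfLE hW'W ≫ f) hagree
  refine ⟨g, ?_, hgU, ?_⟩
  · apply Scheme.hom_ext_of_forall
    intro z
    rcases hcov z with hz | hz
    · refine ⟨U, hz, ?_⟩
      rw [← Category.assoc, hgU, ha]
    · refine ⟨W', hz, ?_⟩
      rw [← Category.assoc, hgW, Category.assoc, hfq, Scheme.homOfLE_ι_assoc]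
  · have e3 : W'.fromSpecStalkOfMem x hxW' ≫ X.homOfLE hW'W = W.fromSpecStalkOfMem x hxW := by
      rw [← cancel_mono W.ι, Category.assoc, Scheme.homOfLE_ι, Scheme.Opens.fromSpecStalkOfMem_ι,
        Scheme.Opens.fromSpecStalkOfMem_ι]
    rw [← W'.fromSpecStalkOfMem_ι x hxW', Category.assoc, hgW, ← Category.assoc, e3, ← hbf]

theorem main_S9217 (p : X ⟶ S) (q : Y ⟶ S) [LocallyOfFinitePresentation q]
    (x : X) (U : X.Opens) (hU : (U : Set X) = {x}ᶜ) [QuasiCompact U.ι] :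
    (∀ g₁ g₂ : X ⟶ Y, U.ι ≫ g₁ = U.ι ≫ g₂ →
      X.fromSpecStalk x ≫ g₁ = X.fromSpecStalk x ≫ g₂ → g₁ = g₂) ∧
    (∀ (a : (U : Scheme.{u}) ⟶ Y) (b : Spec (X.presheaf.stalk x) ⟶ Y), a ≫ q = U.ι ≫ p →
      b ≫ q = X.fromSpecStalk x ≫ p →
      ((X.fromSpecStalk x) ⁻¹ᵁ U).ι ≫ b = ((X.fromSpecStalk x) ∣_ U) ≫ a →
        ∃ g : X ⟶ Y, g ≫ q = p ∧ U.ι ≫ g = a ∧ X.fromSpecStalk x ≫ g = b) :=
  ⟨fun g₁ g₂ h1 h2 => part1 x U hU g₁ g₂ h1 h2,
    fun a b ha hb hab => part2 p q x U hU a b ha hb hab⟩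

end Groth.Agent.H4.GlueClosedPt
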