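import Mathlib
set_option autoImplicit false
universe u
open CategoryTheory CategoryTheory.Limits AlgebraicGeometry
namespace Groth.Agent.H4.GlueDVR

/-- criterion for `S` to be `R[1/x]` when `R → S` is injective -/
lemma away_of_injective {R S : Type*} [CommRing R] [CommRing S] [Algebra R S]
    (hinj : Function.Injective (algebraMap R S)) (x : R) (hx : IsUnit (algebraMap R S x))
    (h : ∀ y : S, ∃ n : ℕ, ∃ r : R, y * algebraMap R S x ^ n = algebraMap R S r) :
    IsLocalization.Away x S where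
  map_units := by
    rintro ⟨_, n, rfl⟩
    dsimp only
    rw [map_pow]
    exact hx.pow n
  surj := by
    intro y
    obtain ⟨n, r, hr⟩ := h y
    refine ⟨(r, ⟨x ^ n, n, rfl⟩), ?_⟩
    dsimp only
    rw [map_pow]
    exact hr
  exists_of_eq := by
    intro a b hab
    exact ⟨1, by rw [hinj hab]⟩

section DVR
variable {B K : Type*} [CommRing B] [IsDomain B] [IsDiscreteValuationRing B] [Field K]
  [Algebra B K] [IsFractionRing B K]

lemma dvr_mul_pow_mem (t : B) (ht0 : t ≠ 0) (ht : ¬ IsUnit t) (x : K) :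
    ∃ n : ℕ, ∃ b : B, x * algebraMap B K t ^ n = algebraMap B K b := by
  obtain ⟨b1, b2, hb2, rfl⟩ := IsFractionRing.div_surjective (A := B) x
  have hb20 : b2 ≠ 0 := nonZeroDivisors.ne_zero hb2
  obtain ⟨ϖ, hϖ⟩ := IsDiscreteValuationRing.exists_irreducible B
  obtain ⟨k, hk⟩ := IsDiscreteValuationRing.associated_pow_irreducible hb20 hϖ
  have htm : t ∈ IsLocalRing.maximalIdeal B := (IsLocalRing.mem_maximalIdeal t).mpr ht
  rw [hϖ.maximalIdeal_eq, Ideal.mem_span_singleton] at htm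
  obtain ⟨c, rfl⟩ := htm
  obtain ⟨w, hw⟩ := hk.symm
  -- ϖ^k * w = b2
  refine ⟨k, b1 * (↑w⁻¹ * c ^ k), ?_⟩
  have hb2K : algebraMap B K b2 ≠ 0 := by
    rwa [Ne, map_eq_zero_iff _ (IsFractionRing.injective B K)]
  rw [div_mul_eq_mul_div, div_eq_iff hb2K, ← map_pow, ← map_mul, ← map_mul]
  congr 1
  rw [← hw, mul_pow]
  have : (w : B) * ↑w⁻¹ = 1 := by simp
  calc b1 * (ϖ ^ k * c ^ k) = b1 * (ϖ ^ k * c ^ k) * ((w : B) * ↑w⁻¹) := by rw [this, mul_one]
    _ = b1 * (↑w⁻¹ * c ^ k) * (ϖ ^ k * ↑w) := by ring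

lemma dvr_exists_exponents (t : B) (ht0 : t ≠ 0) (ht : ¬ IsUnit t) (j : K) (hj : j ≠ 0) :
    ∃ e : ℕ, 0 < e ∧ ∃ k1 k2 : ℕ, ∃ w : Bˣ,
      j ^ e * algebraMap B K t ^ k2 = algebraMap B K w * algebraMap B K t ^ k1 := by
  obtain ⟨b1, b2, hb2, rfl⟩ := IsFractionRing.div_surjective (A := B) j
  have hb20 : b2 ≠ 0 := nonZeroDivisors.ne_zero hb2
  have hb2K : algebraMap B K b2 ≠ 0 := by
    rwa [Ne, map_eq_zero_iff _ (IsFractionRing.injective B K)]
  have hb10 : b1 ≠ 0 := by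
    rintro rfl
    apply hj
    rw [map_zero, zero_div]
  obtain ⟨ϖ, hϖ⟩ := IsDiscreteValuationRing.exists_irreducible B
  obtain ⟨k1, w1, h1⟩ := IsDiscreteValuationRing.eq_unit_mul_pow_irreducible hb10 hϖ
  obtain ⟨k2, w2, h2⟩ := IsDiscreteValuationRing.eq_unit_mul_pow_irreducible hb20 hϖ
  obtain ⟨e, w3, h3⟩ := IsDiscreteValuationRing.eq_unit_mul_pow_irreducible ht0 hϖ
  have he : 0 < e := by
    rcases Nat.eq_zero_or_pos e with rfl | h
    · exfalso
      apply ht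
      rw [h3, pow_zero, mul_one]
      exact w3.isUnit
    · exact h
  let U : Bˣ := w2 ^ e * w3 ^ k1
  have hU : (U : B) = (w2 : B) ^ e * (w3 : B) ^ k1 := by
    simp only [U, Units.val_mul, Units.val_pow_eq_pow_val]
  have hinv : (U : B) * ((U⁻¹ : Bˣ) : B) = 1 := by
    rw [← Units.val_mul, mul_inv_cancel, Units.val_one]
  refine ⟨e, he, k1, k2, w1 ^ e * w3 ^ k2 * U⁻¹, ?_⟩
  rw [div_pow, div_mul_eq_mul_div, div_eq_iff (pow_ne_zero _ hb2K)]
  simp only [← map_pow, ← map_mul]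
  congr 1
  rw [h1, h2, h3]
  rw [Units.val_mul, Units.val_mul, Units.val_pow_eq_pow_val, Units.val_pow_eq_pow_val]
  rw [hU] at hinv
  generalize ((U⁻¹ : Bˣ) : B) = W at hinv ⊢
  calc (↑w1 * ϖ ^ k1) ^ e * (↑w3 * ϖ ^ e) ^ k2
      = (↑w1 * ϖ ^ k1) ^ e * (↑w3 * ϖ ^ e) ^ k2 * ((w2 : B) ^ e * (w3 : B) ^ k1 * W) := by
        rw [hinv, mul_one]
    _ = ↑w1 ^ e * ↑w3 ^ k2 * W * (↑w3 * ϖ ^ e) ^ k1 * (↑w2 * ϖ ^ k2) ^ e := by ring

end DVR

lemma field_exists (k : Type*) [Field k] (α : k) : ∃ u : k, u ≠ 0 ∧ α ^ 2 + α + u ≠ 0 := by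
  by_cases h1 : α ^ 2 + α + 1 = 0
  · by_cases h2 : α = 1
    · subst h2
      have h3 : (3 : k) = 0 := by
        have : (1 : k) ^ 2 + 1 + 1 = 3 := by norm_num
        rw [← this]; exact h1
      have h2 : (2 : k) ≠ 0 := by
        intro h2
        have : (1 : k) = 3 - 2 := by norm_num
        rw [h3, h2, sub_zero] at this
        exact one_ne_zero this
      refine ⟨-1, by simp, ?_⟩
      have : (1 : k) ^ 2 + 1 + -1 = 1 := by norm_num
      rw [this]; exact one_ne_zero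
    · have hα0 : α ≠ 0 := by
        rintro rfl
        simp at h1
      refine ⟨α, hα0, ?_⟩
      intro h
      apply h2
      have : α ^ 2 + α + α - (α ^ 2 + α + 1) = α - 1 := by ring
      rw [h, h1, sub_zero] at this
      exact (sub_eq_zero.mp this.symm)
  · exact ⟨1, one_ne_zero, h1⟩

lemma exists_unit_add (A : Type*) [CommRing A] [Finite (MaximalSpectrum A)] (a : A) :
    ∃ u : A, IsUnit u ∧ IsUnit (a ^ 2 + a + u) := by
  classical
  haveI : Fintype (MaximalSpectrum A) := Fintype.ofFinite _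
  let I : MaximalSpectrum A → Ideal A := fun i => i.asIdeal
  have hI : Pairwise (fun i j => IsCoprime (I i) (I j)) := by
    intro i j hij
    rw [Ideal.isCoprime_iff_sup_eq]
    exact Ideal.IsMaximal.coprime_of_ne i.isMaximal j.isMaximal
      (fun h => hij (MaximalSpectrum.ext h))
  haveI : ∀ i, (I i).IsMaximal := fun i => i.isMaximal
  letI : ∀ i, Field (A ⧸ I i) := fun i => Ideal.Quotient.field (I i)
  choose v hv0 hv using fun i => field_exists (A ⧸ I i) (Ideal.Quotient.mk (I i) a)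
  obtain ⟨x, hx⟩ := Ideal.quotientInfToPiQuotient_surj hI v
  obtain ⟨u, rfl⟩ := Ideal.Quotient.mk_surjective x
  have hu : ∀ i, Ideal.Quotient.mk (I i) u = v i := fun i => congrFun hx i
  have key : ∀ z : A, (∀ i, Ideal.Quotient.mk (I i) z ≠ 0) → IsUnit z := by
    intro z hz
    by_contra hnu
    obtain ⟨M, hM, hzM⟩ := exists_max_ideal_of_mem_nonunits hnu
    exact hz ⟨M, hM⟩ (Ideal.Quotient.eq_zero_iff_mem.mpr hzM)
  refine ⟨u, key u fun i => by rw [hu]; exact hv0 i, key _ fun i => ?_⟩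
  rw [map_add, map_add, map_pow, hu]
  exact hv i

variable (K : Type u) [Field K] (A : Subring K) (B : ValuationSubring K)

lemma dvr_ne_top [IsDiscreteValuationRing B] : ¬ (∀ x : K, x ∈ B) := by
  intro h
  obtain ⟨ϖ, hϖ⟩ := IsDiscreteValuationRing.exists_irreducible B
  apply hϖ.not_isUnit
  refine isUnit_iff_exists_inv.mpr ⟨⟨_, h (ϖ : K)⁻¹⟩, ?_⟩
  apply Subtype.ext
  have h0 : (ϖ : K) ≠ 0 := fun h0 => hϖ.ne_zero (Subtype.ext h0)
  exact mul_inv_cancel₀ h0

lemma le_of_units [Finite (MaximalSpectrum A)]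
    (hu : ∀ u : A, IsUnit u → (u : K) ∈ B) : A ≤ B.toSubring := by
  intro a ha
  by_contra haB
  obtain ⟨u, hu1, hu2⟩ := exists_unit_add A ⟨a, ha⟩
  have h1 : (u : K) ∈ B := hu u hu1
  have h2 : a ^ 2 + a + (u : K) ∈ B := hu _ hu2
  have ha0 : a ≠ 0 := by
    rintro rfl
    exact haB B.zero_mem
  have hc : a⁻¹ ∈ B.nonunits := B.inv_mem_nonunits_iff.mpr (Or.inr haB)
  obtain ⟨hcB, hcm⟩ := B.mem_nonunits_iff_exists_mem_maximalIdeal.mp hc
  set cB : B := ⟨a⁻¹, hcB⟩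
  have hone : (1 : B) = ⟨_, h2⟩ * cB ^ 2 - cB - ⟨_, h1⟩ * cB ^ 2 := by
    apply Subtype.ext
    change (1 : K) = (a ^ 2 + a + (u : K)) * (a⁻¹) ^ 2 - a⁻¹ - (u : K) * (a⁻¹) ^ 2
    field_simp
    ring
  have : (1 : B) ∈ IsLocalRing.maximalIdeal B := by
    rw [hone]
    exact Ideal.sub_mem _ (Ideal.sub_mem _ (Ideal.mul_mem_left _ _ (Ideal.pow_mem_of_mem _ hcm 2 (by norm_num))) hcm)
      (Ideal.mul_mem_left _ _ (Ideal.pow_mem_of_mem _ hcm 2 (by norm_num)))
  exact (Ideal.ne_top_iff_one _).mp (IsLocalRing.maximalIdeal.isMaximal B).ne_top this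

lemma partB [IsFractionRing A K] [IsNoetherianRing A] (hdim : ringKrullDim A = 1)
    [Finite (MaximalSpectrum A)] [IsDiscreteValuationRing B]
    (hu : ∀ u : A, IsUnit u → (u : K) ∈ B) :
    (∃ h : A ≤ B.toSubring,
        (Ideal.comap (Subring.inclusion h) (IsLocalRing.maximalIdeal B)).IsMaximal) ∧
      A ⊔ B.toSubring ≠ ⊤ := by
  have h : A ≤ B.toSubring := le_of_units K A B hu
  refine ⟨⟨h, ?_⟩, ?_⟩
  · haveI : Ring.KrullDimLE 1 A := by
      rw [Ring.krullDimLE_iff, hdim]; rfl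
    have hprime : (Ideal.comap (Subring.inclusion h) (IsLocalRing.maximalIdeal B)).IsPrime :=
      Ideal.comap_isPrime _ _
    refine Ring.krullDimLE_one_iff_of_noZeroDivisors.mp ‹_› _ ?_ hprime
    intro hbot
    apply dvr_ne_top K B
    intro x
    obtain ⟨a1, a2, ha2, rfl⟩ := IsFractionRing.div_surjective (A := A) x
    have ha20 : a2 ≠ 0 := nonZeroDivisors.ne_zero ha2
    have hnot : a2 ∉ Ideal.comap (Subring.inclusion h) (IsLocalRing.maximalIdeal B) := by
      rw [hbot, Ideal.mem_bot]; exact ha20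
    rw [Ideal.mem_comap, IsLocalRing.mem_maximalIdeal, mem_nonunits_iff, not_not] at hnot
    obtain ⟨d, hd⟩ := isUnit_iff_exists_inv.mp hnot
    have hd' : (a2 : K) * (d : K) = 1 := congrArg Subtype.val hd
    have : ((algebraMap A K) a1 / (algebraMap A K) a2) = (a1 : K) * (d : K) := by
      change (a1 : K) / (a2 : K) = _
      rw [div_eq_iff (fun h0 => ha20 (Subtype.ext h0)), mul_assoc, mul_comm (d : K), hd', mul_one]
    rw [this]
    exact B.mul_mem _ _ (h a1.2) d.2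
  · intro htop
    apply dvr_ne_top K B
    intro x
    have hle : A ⊔ B.toSubring ≤ B.toSubring := sup_le h le_rfl
    rw [htop] at hle
    exact hle (Subring.mem_top x)

/-- a nonzero element of the Jacobson radical of a semilocal domain that is not a field -/
lemma exists_jacobson_ne_zero (A : Type*) [CommRing A] [IsDomain A] [Finite (MaximalSpectrum A)]
    (hA : ¬ IsField A) : ∃ j : A, j ≠ 0 ∧ ∀ m : Ideal A, m.IsMaximal → j ∈ m := by
  classical
  haveI : Fintype (MaximalSpectrum A) := Fintype.ofFinite _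
  have h : ∀ i : MaximalSpectrum A, ∃ x : A, x ≠ 0 ∧ x ∈ i.asIdeal := by
    intro i
    have := Ring.ne_bot_of_isMaximal_of_not_isField i.isMaximal hA
    obtain ⟨x, hx, hx0⟩ := Submodule.exists_mem_ne_zero_of_ne_bot this
    exact ⟨x, hx0, hx⟩
  choose x hx0 hx using h
  refine ⟨∏ i, x i, Finset.prod_ne_zero_iff.mpr fun i _ => hx0 i, fun m hm => ?_⟩
  have := Finset.dvd_prod_of_mem x (Finset.mem_univ (⟨m, hm⟩ : MaximalSpectrum A))
  exact Ideal.mem_of_dvd _ this (hx ⟨m, hm⟩)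

/-- if `s` lies in every maximal ideal of a one-dimensional domain with fraction field `K`
then `A[1/s] = K` -/
lemma exists_pow_mul_mem [IsFractionRing A K] (hdim : Ring.KrullDimLE 1 A) (s : A)
    (hs : ∀ m : Ideal A, m.IsMaximal → s ∈ m) (x : K) :
    ∃ n : ℕ, ∃ a : A, x * (s : K) ^ n = a := by
  obtain ⟨a1, a2, ha2, rfl⟩ := IsFractionRing.div_surjective (A := A) x
  have ha20 : a2 ≠ 0 := nonZeroDivisors.ne_zero ha2
  have hrad : s ∈ (Ideal.span {a2}).radical := by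
    rw [Ideal.radical_eq_sInf, Ideal.mem_sInf]
    rintro P ⟨hP, hprime⟩
    have hPne : P ≠ ⊥ := by
      rintro rfl
      have := hP (Ideal.subset_span rfl)
      exact ha20 ((Ideal.mem_bot).mp this)
    exact hs P (Ring.krullDimLE_one_iff_of_noZeroDivisors.mp hdim P hPne hprime)
  obtain ⟨n, hn⟩ := hrad
  obtain ⟨c, hc⟩ := Ideal.mem_span_singleton.mp hn
  refine ⟨n, a1 * c, ?_⟩
  change (a1 : K) / (a2 : K) * (s : K) ^ n = (a1 : K) * (c : K)
  have hc' : (s : K) ^ n = (a2 : K) * (c : K) := by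
    have := congrArg (Subtype.val) hc
    simpa using this
  rw [hc', div_mul_eq_mul_div, div_eq_iff (fun h0 => ha20 (Subtype.ext h0))]
  ring

lemma inv_mem_of_isUnit {S : Subring K} (x : S) (hx : IsUnit x) : (x : K)⁻¹ ∈ S := by
  obtain ⟨d, hd⟩ := isUnit_iff_exists_inv.mp hx
  have hd' : (x : K) * (d : K) = 1 := congrArg Subtype.val hd
  rw [← eq_inv_of_mul_eq_one_right hd']
  exact d.2

lemma partA_data [IsFractionRing A K] [IsNoetherianRing A] (hdim : ringKrullDim A = 1)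
    [Finite (MaximalSpectrum A)] [IsDiscreteValuationRing B]
    (u : A) (hu : IsUnit u) (huB : (u : K) ∉ B) :
    ∃ t s : K, t ∈ A ∧ t ∈ B ∧ s ∈ A ∧ s ∈ B ∧ t⁻¹ ∈ A ∧ s⁻¹ ∈ B ∧ (t + s)⁻¹ ∈ A ∧
      (t + s)⁻¹ ∈ B ∧ t ≠ 0 ∧ s ≠ 0 ∧ t + s ≠ 0 ∧ (∀ x : K, ∃ n : ℕ, x * t ^ n ∈ B) ∧
      (∀ x : K, ∃ n : ℕ, x * s ^ n ∈ A) := by
  haveI hd1 : Ring.KrullDimLE 1 A := by
    rw [Ring.krullDimLE_iff, hdim]; rfl
  have hAnf : ¬ IsField A := by
    intro hf
    have := ringKrullDim_eq_zero_of_isField hf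
    rw [hdim] at this
    exact one_ne_zero this
  have hu0 : (u : K) ≠ 0 := by
    intro h0
    have : u = 0 := Subtype.ext h0
    rw [this] at hu
    exact not_isUnit_zero hu
  set t : K := (u : K)⁻¹ with ht
  have htA : t ∈ A := inv_mem_of_isUnit K u hu
  have htn : t ∈ B.nonunits := B.inv_mem_nonunits_iff.mpr (Or.inr huB)
  obtain ⟨htB, htm⟩ := B.mem_nonunits_iff_exists_mem_maximalIdeal.mp htn
  have ht0 : t ≠ 0 := inv_ne_zero hu0
  have htu : t * (u : K) = 1 := inv_mul_cancel₀ hu0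
  let tB : B := ⟨t, htB⟩
  have htB0 : tB ≠ 0 := fun h => ht0 (congrArg Subtype.val h)
  have htBnu : ¬ IsUnit tB := (IsLocalRing.mem_maximalIdeal tB).mp htm
  obtain ⟨j, hj0, hjm⟩ := exists_jacobson_ne_zero A hAnf
  have hjK : (j : K) ≠ 0 := fun h => hj0 (Subtype.ext h)
  obtain ⟨e, he, k1, k2, w, hw⟩ := dvr_exists_exponents (K := K) tB htB0 htBnu (j : K) hjK
  have hw' : (j : K) ^ e * t ^ k2 = (w : B) * t ^ k1 := hw
  let sA : A := j ^ e * ⟨t, htA⟩ ^ k2 * u ^ k1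
  set s : K := (j : K) ^ e * t ^ k2 * (u : K) ^ k1 with hs
  have hsA : (sA : K) = s := rfl
  have hsw : s = ((w : B) : K) := by
    rw [hs, hw', mul_assoc, ← mul_pow, htu, one_pow, mul_one]
  have hsAm : ∀ m : Ideal A, m.IsMaximal → sA ∈ m := by
    intro m hm
    exact Ideal.mul_mem_right _ _ (Ideal.mul_mem_right _ _ (Ideal.pow_mem_of_mem _ (hjm m hm) e he))
  have hsB : s ∈ B := hsw ▸ (w : B).2
  have hsinv : s⁻¹ ∈ B := by
    have : s⁻¹ = (((w⁻¹ : Bˣ) : B) : K) := by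
      rw [hsw]
      apply inv_eq_of_mul_eq_one_right
      have : ((w : B) * ((w⁻¹ : Bˣ) : B)) = 1 := by simp
      exact congrArg Subtype.val this
    rw [this]
    exact ((w⁻¹ : Bˣ) : B).2
  have hs0 : s ≠ 0 := by
    rw [hsw]
    intro h0
    have : (w : B) = 0 := Subtype.ext h0
    exact w.ne_zero this
  -- t + s is a unit in A
  have htsA : IsUnit ((⟨t, htA⟩ : A) + sA) := by
    by_contra hnu
    obtain ⟨M, hM, hzM⟩ := exists_max_ideal_of_mem_nonunits hnu
    have h1 : (⟨t, htA⟩ : A) ∈ M := by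
      have := M.sub_mem hzM (hsAm M hM)
      rwa [add_sub_cancel_right] at this
    have h2 : IsUnit (⟨t, htA⟩ : A) :=
      isUnit_iff_exists_inv.mpr ⟨u, Subtype.ext htu⟩
    exact hM.ne_top (Ideal.eq_top_of_isUnit_mem _ h1 h2)
  have htsB : IsUnit (tB + ⟨s, hsB⟩) := by
    by_contra hnu
    have h1 : tB + ⟨s, hsB⟩ ∈ IsLocalRing.maximalIdeal B := (IsLocalRing.mem_maximalIdeal _).mpr hnu
    have h2 : (⟨s, hsB⟩ : B) ∈ IsLocalRing.maximalIdeal B := by
      have := (IsLocalRing.maximalIdeal B).sub_mem h1 htm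
      rwa [add_sub_cancel_left] at this
    have h3 : IsUnit (⟨s, hsB⟩ : B) := by
      have : (⟨s, hsB⟩ : B) = (w : B) := Subtype.ext hsw
      rw [this]; exact w.isUnit
    exact (IsLocalRing.mem_maximalIdeal _).mp h2 h3
  have hts0 : t + s ≠ 0 := by
    intro h0
    have : (⟨t, htA⟩ : A) + sA = 0 := Subtype.ext h0
    rw [this] at htsA
    exact not_isUnit_zero htsA
  refine ⟨t, s, htA, htB, sA.2, hsB, ?_, hsinv, inv_mem_of_isUnit K _ htsA,
    inv_mem_of_isUnit K (S := B.toSubring) _ htsB, ht0, hs0, hts0, ?_, ?_⟩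
  · rw [ht, inv_inv]; exact u.2
  · intro x
    obtain ⟨n, b, hb⟩ := dvr_mul_pow_mem (K := K) tB htB0 htBnu x
    exact ⟨n, by
      have : x * t ^ n = (b : K) := hb
      rw [this]; exact b.2⟩
  · intro x
    obtain ⟨n, a, ha⟩ := exists_pow_mul_mem K A hd1 sA hsAm x
    exact ⟨n, by rw [← hsA, ha]; exact a.2⟩


omit A B in
lemma assembly (A B' : Subring K) (t s : K) (htA : t ∈ A) (htB : t ∈ B') (hsA : s ∈ A)
    (hsB : s ∈ B') (htinv : t⁻¹ ∈ A) (hsinv : s⁻¹ ∈ B') (h1 : (t + s)⁻¹ ∈ A)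
    (h2 : (t + s)⁻¹ ∈ B') (ht0 : t ≠ 0) (hs0 : s ≠ 0) (hts0 : t + s ≠ 0)
    (hB : ∀ x : K, ∃ n : ℕ, x * t ^ n ∈ B') (hA : ∀ x : K, ∃ n : ℕ, x * s ^ n ∈ A) :
    IsOpenImmersion (Spec.map (CommRingCat.ofHom (Subring.inclusion (inf_le_left : A ⊓ B' ≤ A)))) ∧
    IsOpenImmersion (Spec.map (CommRingCat.ofHom (Subring.inclusion (inf_le_right : A ⊓ B' ≤ B')))) ∧
    Set.range (Spec.map (CommRingCat.ofHom (Subring.inclusion (inf_le_left : A ⊓ B' ≤ A)))).base ∪
      Set.range (Spec.map (CommRingCat.ofHom (Subring.inclusion (inf_le_right : A ⊓ B' ≤ B')))).base = Set.univ ∧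
    IsPushout (CommRingCat.ofHom (Subring.inclusion (inf_le_left : A ⊓ B' ≤ A)))
      (CommRingCat.ofHom (Subring.inclusion (inf_le_right : A ⊓ B' ≤ B')))
      (CommRingCat.ofHom A.subtype) (CommRingCat.ofHom B'.subtype) := by
  let iA := Subring.inclusion (inf_le_left : A ⊓ B' ≤ A)
  let iB := Subring.inclusion (inf_le_right : A ⊓ B' ≤ B')
  letI algA : Algebra ↥(A ⊓ B') A := iA.toAlgebra
  letI algB : Algebra ↥(A ⊓ B') B' := iB.toAlgebra
  let tR : ↥(A ⊓ B') := ⟨t, htA, htB⟩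
  let sR : ↥(A ⊓ B') := ⟨s, hsA, hsB⟩
  have hiA : Function.Injective (algebraMap ↥(A ⊓ B') A) := Subring.inclusion_injective _
  have hiB : Function.Injective (algebraMap ↥(A ⊓ B') B') := Subring.inclusion_injective _
  haveI locA : IsLocalization.Away tR A := by
    apply away_of_injective hiA
    · refine isUnit_iff_exists_inv.mpr ⟨⟨t⁻¹, htinv⟩, Subtype.ext ?_⟩
      exact mul_inv_cancel₀ ht0
    · intro y
      obtain ⟨n, hn⟩ := hB (y : K)
      refine ⟨n, ⟨(y : K) * t ^ n, A.mul_mem y.2 (A.pow_mem htA n), hn⟩, Subtype.ext ?_⟩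
      rfl
  haveI locB : IsLocalization.Away sR B' := by
    apply away_of_injective hiB
    · refine isUnit_iff_exists_inv.mpr ⟨⟨s⁻¹, hsinv⟩, Subtype.ext ?_⟩
      exact mul_inv_cancel₀ hs0
    · intro y
      obtain ⟨n, hn⟩ := hA (y : K)
      refine ⟨n, ⟨(y : K) * s ^ n, hn, B'.mul_mem y.2 (B'.pow_mem hsB n)⟩, Subtype.ext ?_⟩
      rfl
  have hunit : IsUnit (tR + sR) := by
    refine isUnit_iff_exists_inv.mpr ⟨⟨(t + s)⁻¹, h1, h2⟩, Subtype.ext ?_⟩
    exact mul_inv_cancel₀ hts0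
  refine ⟨IsOpenImmersion.of_isLocalization tR, IsOpenImmersion.of_isLocalization sR, ?_, ?_⟩
  · have hrA : Set.range (Spec.map (CommRingCat.ofHom iA)).base =
        (PrimeSpectrum.basicOpen tR : Set (PrimeSpectrum ↥(A ⊓ B'))) :=
      PrimeSpectrum.localization_away_comap_range A tR
    have hrB : Set.range (Spec.map (CommRingCat.ofHom iB)).base =
        (PrimeSpectrum.basicOpen sR : Set (PrimeSpectrum ↥(A ⊓ B'))) :=
      PrimeSpectrum.localization_away_comap_range B' sR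
    rw [hrA, hrB]
    apply Set.eq_univ_of_forall
    intro q
    by_contra hq
    rw [Set.mem_union, not_or] at hq
    obtain ⟨hq1, hq2⟩ := hq
    have h1 : tR ∈ q.asIdeal := by
      by_contra h; exact hq1 h
    have h2 : sR ∈ q.asIdeal := by
      by_contra h; exact hq2 h
    exact q.isPrime.ne_top (Ideal.eq_top_of_isUnit_mem _ (q.asIdeal.add_mem h1 h2) hunit)
  · have hsA' : IsLocalization ((Submonoid.powers sR).map iA) K := by
      rw [Submonoid.map_powers]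
      apply away_of_injective (R := A) (S := K) Subtype.val_injective
      · exact (isUnit_iff_ne_zero.mpr hs0)
      · intro y
        obtain ⟨n, hn⟩ := hA y
        exact ⟨n, ⟨_, hn⟩, rfl⟩
    exact CommRingCat.isPushout_of_isLocalization iA B'.subtype rfl (Submonoid.powers sR)


end Groth.Agent.H4.GlueDVR
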