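import Groth.Agent.H4.GlueDVR
import Groth.Agent.Lib.Helper8.DVRDominate
import Groth.Agent.Lib.Helper8.KrullAkizuki
import Groth.Agent.S4434
set_option autoImplicit false
universe u
open Groth.Agent.H4.GlueDVR
namespace Groth.Agent.H4.GlueDVR2

variable {K : Type u} [Field K]

/-- archimedean property of a DVR of `K`: if `g ∉ W` then powers of `g` dominate everything -/
lemma arch (W : ValuationSubring K) [IsDiscreteValuationRing W] (g : K) (hg : g ∉ W) (z : K) :
    ∃ N : ℕ, W.valuation z < W.valuation (g ^ N) := by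
  have hg0 : g ≠ 0 := by
    rintro rfl
    exact hg W.zero_mem
  have hgv : 1 < W.valuation g := by
    rw [← not_le, W.valuation_le_one_iff]; exact hg
  have htn : g⁻¹ ∈ W.nonunits := W.inv_mem_nonunits_iff.mpr (Or.inr hg)
  obtain ⟨htB, htm⟩ := W.mem_nonunits_iff_exists_mem_maximalIdeal.mp htn
  let tB : W := ⟨g⁻¹, htB⟩
  have htB0 : tB ≠ 0 := fun h => (inv_ne_zero hg0) (congrArg Subtype.val h)
  have htBnu : ¬ IsUnit tB := (IsLocalRing.mem_maximalIdeal tB).mp htm
  obtain ⟨n, b, hb⟩ := dvr_mul_pow_mem (K := K) tB htB0 htBnu z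
  have hb' : z * (g⁻¹) ^ n = (b : K) := hb
  refine ⟨n + 1, ?_⟩
  have h1 : W.valuation (z * (g⁻¹) ^ n) ≤ 1 := by
    rw [hb']; exact (W.valuation_le_one_iff _).mpr b.2
  have hgn : W.valuation (g ^ n) ≠ 0 := by
    rw [ne_eq, map_eq_zero]; exact pow_ne_zero _ hg0
  have h2 : W.valuation z ≤ W.valuation (g ^ n) := by
    rw [map_mul, inv_pow, map_inv₀] at h1
    rwa [mul_inv_le_iff₀ (zero_lt_iff.mpr hgn), one_mul] at h1
  calc W.valuation z ≤ W.valuation (g ^ n) := h2
    _ < W.valuation (g ^ (n + 1)) := by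
        rw [pow_succ, map_mul]
        exact lt_mul_of_one_lt_right (zero_lt_iff.mpr hgn) hgv

lemma exists_dominating (W : ValuationSubring K) (y b : K) :
    ∃ y' : K, W.valuation y ≤ W.valuation y' ∧ W.valuation b ≤ W.valuation y' ∧
      W.valuation (b ^ 2) ≤ W.valuation y' := by
  rcases le_total (W.valuation y) (W.valuation b) with h1 | h1
  · rcases le_total (W.valuation b) (W.valuation (b ^ 2)) with h2 | h2
    · exact ⟨b ^ 2, h1.trans h2, h2, le_rfl⟩
    · exact ⟨b, h1, le_rfl, h2⟩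
  · rcases le_total (W.valuation y) (W.valuation (b ^ 2)) with h2 | h2
    · exact ⟨b ^ 2, h2, h1.trans h2, le_rfl⟩
    · exact ⟨y, le_rfl, h1, h2⟩

lemma approx (A : Subring K) (S : Finset (ValuationSubring K)) :
    (∀ W ∈ S, IsDiscreteValuationRing W) → (∀ W ∈ S, ¬ (A ≤ W.toSubring)) →
    ∀ y : ValuationSubring K → K, ∃ a ∈ A, ∀ W ∈ S, W.valuation (y W) < W.valuation a := by
  classical
  induction S using Finset.induction_on with
  | empty => intro _ _ y; exact ⟨1, A.one_mem, fun W hW => absurd hW (Finset.notMem_empty W)⟩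
  | insert W0 S hW0 ih =>
    intro hdvr hnle y
    haveI : IsDiscreteValuationRing W0 := hdvr W0 (Finset.mem_insert_self _ _)
    have ih' := ih (fun W hW => hdvr W (Finset.mem_insert_of_mem hW))
      (fun W hW => hnle W (Finset.mem_insert_of_mem hW))
    -- an element of A outside W0
    obtain ⟨g0, hg0A, hg0W⟩ : ∃ g0 ∈ A, g0 ∉ W0 := by
      have := hnle W0 (Finset.mem_insert_self _ _)
      by_contra hcon
      push Not at hcon
      exact this fun x hx => hcon x hx
    obtain ⟨N', hN'⟩ := arch W0 g0 hg0W (y W0)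
    have hgv : 1 < W0.valuation g0 := by
      rw [← not_le, W0.valuation_le_one_iff]; exact hg0W
    obtain ⟨b, hb⟩ : ∃ b : K, b = g0 ^ (N' + 1) := ⟨_, rfl⟩
    have hbA : b ∈ A := hb ▸ A.pow_mem hg0A _
    have hb1 : 1 < W0.valuation b := by
      rw [hb, map_pow]
      exact one_lt_pow₀ hgv (Nat.succ_ne_zero _)
    have hy0b : W0.valuation (y W0) < W0.valuation b := by
      refine hN'.trans_le ?_
      rw [hb, map_pow, map_pow]
      exact pow_le_pow_right₀ hgv.le (Nat.le_succ _)
    have hbb : W0.valuation b < W0.valuation (b ^ 2) := by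
      rw [sq, map_mul]
      have h0 : 0 < W0.valuation b := lt_trans zero_lt_one hb1
      exact lt_mul_of_one_lt_left h0 hb1
    choose y' hy'1 hy'2 hy'3 using fun W => exists_dominating W (y W) b
    obtain ⟨a1, ha1A, ha1⟩ := ih' y'
    rcases lt_trichotomy (W0.valuation a1) (W0.valuation b) with h | h | h
    · -- a1 + b
      refine ⟨a1 + b, A.add_mem ha1A hbA, fun W hW => ?_⟩
      rcases Finset.mem_insert.mp hW with rfl | hWS
      · rw [Valuation.map_add_eq_of_lt_right _ h]; exact hy0b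
      · have h1 : W.valuation b < W.valuation a1 := (hy'2 W).trans_lt (ha1 W hWS)
        rw [Valuation.map_add_eq_of_lt_left _ h1]
        exact (hy'1 W).trans_lt (ha1 W hWS)
    · -- a1 + b^2
      refine ⟨a1 + b ^ 2, A.add_mem ha1A (A.pow_mem hbA 2), fun W hW => ?_⟩
      rcases Finset.mem_insert.mp hW with rfl | hWS
      · have h2 : W.valuation a1 < W.valuation (b ^ 2) := h ▸ hbb
        rw [Valuation.map_add_eq_of_lt_right _ h2]; exact hy0b.trans hbb
      · have h1 : W.valuation (b ^ 2) < W.valuation a1 := (hy'3 W).trans_lt (ha1 W hWS)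
        rw [Valuation.map_add_eq_of_lt_left _ h1]
        exact (hy'1 W).trans_lt (ha1 W hWS)
    · -- a1
      refine ⟨a1, ha1A, fun W hW => ?_⟩
      rcases Finset.mem_insert.mp hW with rfl | hWS
      · exact hy0b.trans h
      · exact (hy'1 W).trans_lt (ha1 W hWS)

/-- Lemma M: a unit of `A` with a pole along every member of a finite family of DVRs none of
which contains `A` -/
lemma exists_unit_outside (A : Subring K) (j0 : K) (hj0 : j0 ≠ 0)
    (hJ : ∀ a ∈ A, 1 + j0 * a ∈ A ∧ (1 + j0 * a)⁻¹ ∈ A ∧ 1 + j0 * a ≠ 0)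
    (S : Finset (ValuationSubring K))
    (hdvr : ∀ W ∈ S, IsDiscreteValuationRing W) (hnle : ∀ W ∈ S, ¬ (A ≤ W.toSubring)) :
    ∃ g : K, g ∈ A ∧ g⁻¹ ∈ A ∧ g ≠ 0 ∧ ∀ W ∈ S, g⁻¹ ∈ W.nonunits := by
  obtain ⟨a, haA, ha⟩ := approx A S hdvr hnle (fun _ => j0⁻¹)
  refine ⟨1 + j0 * a, (hJ a haA).1, (hJ a haA).2.1, (hJ a haA).2.2, fun W hW => ?_⟩
  have h1 : 1 < W.valuation (j0 * a) := by
    have := ha W hW
    rw [map_inv₀] at this
    rw [map_mul]
    have hj : 0 < W.valuation j0 := by
      rw [zero_lt_iff, ne_eq, map_eq_zero]; exact hj0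
    calc (1 : W.ValueGroup) = W.valuation j0 * (W.valuation j0)⁻¹ := by
          rw [mul_inv_cancel₀ hj.ne']
      _ < W.valuation j0 * W.valuation a := by
          exact mul_lt_mul_of_pos_left this hj
  have h2 : W.valuation (1 + j0 * a) = W.valuation (j0 * a) := by
    apply Valuation.map_add_eq_of_lt_right
    rw [map_one]; exact h1
  apply W.inv_mem_nonunits_iff.mpr
  right
  rw [← W.valuation_le_one_iff, not_le, h2]
  exact h1

/-- DVRs of `K` are pairwise incomparable -/
lemma dvr_eq_of_le (W W' : ValuationSubring K) [IsDiscreteValuationRing W]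
    [IsDiscreteValuationRing W'] (h : W ≤ W') : W = W' := by
  apply le_antisymm h
  intro x hx
  by_contra hxW
  -- then W' = ⊤
  apply dvr_ne_top K W'
  intro z
  obtain ⟨N, hN⟩ := arch W x hxW z
  have hx0 : x ≠ 0 := by
    rintro rfl
    exact hxW W.zero_mem
  have h1 : z / x ^ N ∈ W := by
    rw [← W.valuation_le_one_iff, map_div₀]
    have hpos : 0 < W.valuation (x ^ N) := by
      rw [zero_lt_iff, ne_eq, map_eq_zero]; exact pow_ne_zero _ hx0
    rw [div_le_one₀ hpos]
    exact hN.le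
  have : z = z / x ^ N * x ^ N := by
    rw [div_mul_cancel₀ _ (pow_ne_zero _ hx0)]
  rw [this]
  exact W'.mul_mem _ _ (h h1) (W'.pow_mem hx N)

lemma length_ge_of_chain {R M : Type*} [Ring R] [AddCommGroup M] [Module R M]
    (I : Submodule R M) (r : ℕ) (N : ℕ → Submodule R M)
    (hI : ∀ k ≤ r, I ≤ N k) (hlt : ∀ k < r, N (k + 1) < N k) :
    (r : ℕ∞) ≤ Module.length R (M ⧸ I) := by
  have hinj : ∀ k ≤ r, ∀ l ≤ r, (N k).map I.mkQ = (N l).map I.mkQ → N k = N l := by
    intro k hk l hl h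
    have := congrArg (Submodule.comap I.mkQ) h
    rwa [Submodule.comap_map_mkQ, Submodule.comap_map_mkQ, sup_eq_right.mpr (hI k hk),
      sup_eq_right.mpr (hI l hl)] at this
  let p : LTSeries (Submodule R (M ⧸ I)) :=
    { length := r
      toFun := fun j => (N (r - j)).map I.mkQ
      step := fun j => by
        change (N (r - (j.castSucc : ℕ))).map I.mkQ < (N (r - (j.succ : ℕ))).map I.mkQ
        have hj : (j : ℕ) < r := j.2
        have h1 : r - (j.castSucc : ℕ) = (r - (j.succ : ℕ)) + 1 := by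
          simp only [Fin.val_castSucc, Fin.val_succ]; omega
        rw [h1]
        have h2 : r - (j.succ : ℕ) < r := by
          simp only [Fin.val_succ]; omega
        have hlt' := hlt _ h2
        refine lt_of_le_of_ne (Submodule.map_mono hlt'.le) fun h => ?_
        exact hlt'.ne (hinj _ (by omega) _ (by omega) h) }
  have h1 := Order.LTSeries.length_le_krullDim p
  rw [← Module.coe_length] at h1
  exact_mod_cast h1

lemma mul_mem_nonunits (W : ValuationSubring K) {x z : K} (hx : x ∈ W) (hz : z ∈ W.nonunits) :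
    x * z ∈ W.nonunits := by
  rw [W.mem_nonunits_iff] at hz ⊢
  rw [map_mul]
  have hx' : W.valuation x ≤ 1 := (W.valuation_le_one_iff x).mpr hx
  calc W.valuation x * W.valuation z ≤ 1 * W.valuation z := mul_le_mul_left hx' _
    _ = W.valuation z := one_mul _
    _ < 1 := hz

lemma nonunits_le (W : ValuationSubring K) {z : K} (hz : z ∈ W.nonunits) : z ∈ W := by
  rw [W.mem_nonunits_iff] at hz
  exact (W.valuation_le_one_iff z).mp hz.le

/-- the centre of a DVR of `K` on a one-dimensional subring with fraction field `K` is maximal -/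
lemma comap_isMaximal (A : Subring K) [IsFractionRing A K] (hd : Ring.KrullDimLE 1 A)
    (B : ValuationSubring K) [IsDiscreteValuationRing B] (h : A ≤ B.toSubring) :
    (Ideal.comap (Subring.inclusion h) (IsLocalRing.maximalIdeal B)).IsMaximal := by
  have hprime : (Ideal.comap (Subring.inclusion h) (IsLocalRing.maximalIdeal B)).IsPrime :=
    Ideal.comap_isPrime _ _
  refine Ring.krullDimLE_one_iff_of_noZeroDivisors.mp hd _ ?_ hprime
  intro hbot
  apply dvr_ne_top K B
  intro x
  obtain ⟨a1, a2, ha2, rfl⟩ := IsFractionRing.div_surjective (A := A) x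
  have ha20 : a2 ≠ 0 := nonZeroDivisors.ne_zero ha2
  have hnot : a2 ∉ Ideal.comap (Subring.inclusion h) (IsLocalRing.maximalIdeal B) := by
    rw [hbot, Ideal.mem_bot]; exact ha20
  rw [Ideal.mem_comap, IsLocalRing.mem_maximalIdeal, mem_nonunits_iff, not_not] at hnot
  obtain ⟨d, hd⟩ := isUnit_iff_exists_inv.mp hnot
  have hd' : (a2 : K) * (d : K) = 1 := congrArg Subtype.val hd
  have : ((algebraMap A K) a1 / (algebraMap A K) a2) = (a1 : K) * (d : K) := by
    change (a1 : K) / (a2 : K) = _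
    rw [div_eq_iff (fun h0 => ha20 (Subtype.ext h0)), mul_assoc, mul_comm (d : K), hd', mul_one]
  rw [this]
  exact B.mul_mem _ _ (h a1.2) d.2

/-- an element of the Jacobson radical of `A` lies in the maximal ideal of every DVR over `A` -/
lemma mem_nonunits_of_jacobson (A : Subring K) [IsFractionRing A K] (hd : Ring.KrullDimLE 1 A)
    (B : ValuationSubring K) [IsDiscreteValuationRing B] (h : A ≤ B.toSubring) (y : A)
    (hy : ∀ m : Ideal A, m.IsMaximal → y ∈ m) : (y : K) ∈ B.nonunits := by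
  have := hy _ (comap_isMaximal A hd B h)
  rw [Ideal.mem_comap] at this
  rw [B.mem_nonunits_iff_exists_mem_maximalIdeal]
  exact ⟨h y.2, this⟩

/-- separating elements for a finite family of distinct DVRs -/
lemma exists_separating (r : ℕ) (W : Fin r → ValuationSubring K) (hinj : Function.Injective W)
    (hdvr : ∀ i, IsDiscreteValuationRing (W i)) (k : Fin r) :
    ∃ e : K, e ∈ W k ∧ e⁻¹ ∈ W k ∧ e ≠ 0 ∧ ∀ i, i ≠ k → e ∈ (W i).nonunits := by
  classical
  haveI := hdvr k
  obtain ⟨ϖ, hϖ⟩ := IsDiscreteValuationRing.exists_irreducible (W k)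
  have hϖ0 : (ϖ : K) ≠ 0 := fun h0 => hϖ.ne_zero (Subtype.ext h0)
  have hJ : ∀ a ∈ (W k).toSubring, 1 + (ϖ : K) * a ∈ (W k).toSubring ∧
      (1 + (ϖ : K) * a)⁻¹ ∈ (W k).toSubring ∧ 1 + (ϖ : K) * a ≠ 0 := by
    intro a ha
    have hmem : ϖ * ⟨a, ha⟩ ∈ IsLocalRing.maximalIdeal (W k) :=
      Ideal.mul_mem_right _ _ ((IsLocalRing.mem_maximalIdeal ϖ).mpr hϖ.not_isUnit)
    have hu : IsUnit (1 + ϖ * ⟨a, ha⟩ : W k) := by
      by_contra hnu
      have h1 : (1 + ϖ * ⟨a, ha⟩ : W k) ∈ IsLocalRing.maximalIdeal (W k) :=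
        (IsLocalRing.mem_maximalIdeal _).mpr hnu
      have := (IsLocalRing.maximalIdeal (W k)).sub_mem h1 hmem
      rw [add_sub_cancel_right] at this
      exact (Ideal.ne_top_iff_one _).mp (IsLocalRing.maximalIdeal.isMaximal (W k)).ne_top this
    refine ⟨(1 + ϖ * ⟨a, ha⟩ : W k).2, inv_mem_of_isUnit K (S := (W k).toSubring) _ hu, ?_⟩
    intro h0
    have : (1 + ϖ * ⟨a, ha⟩ : W k) = 0 := Subtype.ext h0
    rw [this] at hu
    exact not_isUnit_zero hu
  obtain ⟨g, hgA, hginv, hg0, hg⟩ := exists_unit_outside (W k).toSubring (ϖ : K) hϖ0 hJ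
    ((Finset.univ.erase k).image W)
    (fun W' hW' => by
      obtain ⟨i, -, rfl⟩ := Finset.mem_image.mp hW'
      exact hdvr i)
    (fun W' hW' hle => by
      obtain ⟨i, hi, rfl⟩ := Finset.mem_image.mp hW'
      haveI := hdvr i
      have := dvr_eq_of_le (W k) (W i) hle
      exact (Finset.mem_erase.mp hi).1 (hinj this).symm)
  refine ⟨g⁻¹, hginv, by rw [inv_inv]; exact hgA, inv_ne_zero hg0, fun i hi => ?_⟩
  exact hg (W i) (Finset.mem_image.mpr ⟨i, Finset.mem_erase.mpr ⟨hi, Finset.mem_univ _⟩, rfl⟩)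

/-- at most `ord y` DVRs of `K` contain `B` -/
lemma card_le (B : Subring K) [IsFractionRing B K] [IsNoetherianRing B]
    [hd : Ring.KrullDimLE 1 B] (y : B) (hy0 : y ≠ 0) (hy : ∀ m : Ideal B, m.IsMaximal → y ∈ m)
    (r : ℕ) (W : Fin r → ValuationSubring K) (hinj : Function.Injective W)
    (hdvr : ∀ i, IsDiscreteValuationRing (W i)) (hB : ∀ i, B ≤ (W i).toSubring) :
    (r : ℕ∞) ≤ Ring.ord B y := by
  let V : Subalgebra B K :=
    { carrier := {x | ∀ i, x ∈ W i}
      mul_mem' := fun ha hb i => (W i).mul_mem _ _ (ha i) (hb i)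
      add_mem' := fun ha hb i => (W i).add_mem _ _ (ha i) (hb i)
      algebraMap_mem' := fun b i => hB i b.2 }
  have hynu : ∀ i, (y : K) ∈ (W i).nonunits := fun i =>
    haveI := hdvr i
    mem_nonunits_of_jacobson B hd (W i) (hB i) y hy
  let N : ℕ → Submodule B V := fun k =>
    { carrier := {v | ∀ i : Fin r, (i : ℕ) < k → (v : K) ∈ (W i).nonunits}
      add_mem' := fun ha hb i hi => (W i).nonunits.add_mem (ha i hi) (hb i hi)
      zero_mem' := fun i _ => (W i).nonunits.zero_mem
      smul_mem' := fun b v hv i hi => by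
        change (b : K) * (v : K) ∈ (W i).nonunits
        exact mul_mem_nonunits (W i) (hB i b.2) (hv i hi) }
  let I : Submodule B V := (Ideal.span {algebraMap B V y}).restrictScalars B
  have hI : ∀ k ≤ r, I ≤ N k := by
    intro k _ v hv i _
    have hv' : v ∈ Ideal.span {algebraMap B V y} := hv
    obtain ⟨c, rfl⟩ := Ideal.mem_span_singleton'.mp hv'
    change (c : K) * (y : K) ∈ (W i).nonunits
    exact mul_mem_nonunits (W i) (c.2 i) (hynu i)
  have hlt : ∀ k < r, N (k + 1) < N k := by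
    intro k hk
    obtain ⟨e, he1, he2, he0, he3⟩ := exists_separating r W hinj hdvr ⟨k, hk⟩
    have heV : e ∈ V := by
      intro i
      by_cases hi : i = ⟨k, hk⟩
      · rw [hi]; exact he1
      · exact nonunits_le _ (he3 i hi)
    rw [SetLike.lt_iff_le_and_exists]
    refine ⟨fun v hv i hi => hv i (Nat.lt_succ_of_lt hi), ⟨e, heV⟩, ?_, ?_⟩
    · intro i hi
      exact he3 i (fun h => by rw [h] at hi; exact lt_irrefl _ hi)
    · intro hcon
      have h1 : e ∈ (W ⟨k, hk⟩).nonunits := hcon ⟨k, hk⟩ (Nat.lt_succ_self k)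
      have h2 : e = 0 ∨ e⁻¹ ∉ W ⟨k, hk⟩ := (W ⟨k, hk⟩).mem_nonunits_iff_or.mp h1
      rcases h2 with h2 | h2
      · exact he0 h2
      · exact h2 he2
  have h1 := length_ge_of_chain I r N hI hlt
  have h2 : Module.length B (V ⧸ I) = Module.length B (V ⧸ Ideal.span {algebraMap B V y}) :=
    (Submodule.Quotient.restrictScalarsEquiv B (Ideal.span {algebraMap B V y})).length_eq
  rw [h2] at h1
  exact h1.trans (Groth.Agent.H8.KA.length_quot_le V hy0)

/-- DVR centred at a nonzero prime of a Noetherian ring mapping injectively to `K`, when the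
image contains a subring with fraction field `K` -/
lemma exists_dvr_centre {C : Type u} [CommRing C] [IsNoetherianRing C] (ψ : C →+* K)
    (hψ : Function.Injective ψ) (B : Subring K) [IsFractionRing B K]
    (hB : ∀ b : B, ∃ c : C, ψ c = b) (P : Ideal C) [P.IsPrime] (hP : P ≠ ⊥) :
    ∃ W : ValuationSubring K, IsDiscreteValuationRing W ∧ (∀ c, ψ c ∈ W) ∧
      ∀ c, c ∈ P ↔ ψ c ∈ W.nonunits := by
  have hlt : RingHom.ker ψ < P := by
    rw [(RingHom.injective_iff_ker_eq_bot ψ).mp hψ, bot_lt_iff_ne_bot]; exact hP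
  have hs : Subfield.closure (Set.range ψ ∪ ((∅ : Finset K) : Set K)) = ⊤ := by
    rw [eq_top_iff]
    intro x _
    obtain ⟨a, b, hb, rfl⟩ := IsFractionRing.div_surjective (A := B) x
    obtain ⟨ca, hca⟩ := hB a
    obtain ⟨cb, hcb⟩ := hB b
    exact Subfield.div_mem _ (Subfield.subset_closure (Or.inl ⟨ca, hca⟩))
      (Subfield.subset_closure (Or.inl ⟨cb, hcb⟩))
  obtain ⟨W, hW, hmem, hcomap⟩ :=
    Groth.Agent.H8.KA.exists_dvr_valuationSubring_of_lt ψ P hlt ∅ hs
  refine ⟨W, hW, hmem, fun c => ?_⟩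
  rw [← hcomap, Ideal.mem_comap, W.mem_nonunits_iff_exists_mem_maximalIdeal]
  constructor
  · intro h; exact ⟨hmem c, h⟩
  · rintro ⟨_, h⟩; exact h

lemma finite_dvrs (B : Subring K) [IsFractionRing B K] [IsNoetherianRing B]
    [hd : Ring.KrullDimLE 1 B] (y : B) (hy0 : y ≠ 0) (hy : ∀ m : Ideal B, m.IsMaximal → y ∈ m) :
    {W : ValuationSubring K | IsDiscreteValuationRing W ∧ B ≤ W.toSubring}.Finite := by
  by_contra hinf
  have hinf' : Set.Infinite {W : ValuationSubring K | IsDiscreteValuationRing W ∧ B ≤ W.toSubring} :=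
    hinf
  have hne : Ring.ord B y ≠ ⊤ := Ring.ord_ne_top (mem_nonZeroDivisors_of_ne_zero hy0)
  obtain ⟨n, hn⟩ := ENat.ne_top_iff_exists.mp hne
  let f := hinf'.natEmbedding
  have := card_le B y hy0 hy (n + 1) (fun i => (f i).1)
    (fun i j h => Fin.ext (f.injective (Subtype.ext h)))
    (fun i => (f i).2.1) (fun i => (f i).2.2)
  rw [← hn] at this
  have h2 : (n + 1 : ℕ) ≤ n := by exact_mod_cast this
  omega

/-- the key existence statement: a unit of `A` lying in the Jacobson radical of `B` -/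
lemma exists_unit_jacobson (A B : Subring K) [IsFractionRing A K] [IsFractionRing B K]
    [IsNoetherianRing A] [IsNoetherianRing B] (hdA : Ring.KrullDimLE 1 A)
    (hdB : Ring.KrullDimLE 1 B) [Finite (MaximalSpectrum A)] [Finite (MaximalSpectrum B)]
    (hAf : ¬ IsField A) (hBf : ¬ IsField B) (hgen : A ⊔ B = ⊤) :
    ∃ t : B, (t : K) ∈ A ∧ (t : K)⁻¹ ∈ A ∧ t ≠ 0 ∧ ∀ n : Ideal B, n.IsMaximal → t ∈ n := by
  classical
  obtain ⟨y, hy0, hy⟩ := exists_jacobson_ne_zero B hBf
  obtain ⟨j0, hj00, hj0⟩ := exists_jacobson_ne_zero A hAf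
  have hfin := finite_dvrs B y hy0 hy
  let S : Finset (ValuationSubring K) := hfin.toFinset
  have hS : ∀ W, W ∈ S ↔ IsDiscreteValuationRing W ∧ B ≤ W.toSubring := fun W => by
    rw [Set.Finite.mem_toFinset]; rfl
  have hJ : ∀ a ∈ A, 1 + (j0 : K) * a ∈ A ∧ (1 + (j0 : K) * a)⁻¹ ∈ A ∧ 1 + (j0 : K) * a ≠ 0 := by
    intro a ha
    have hu : IsUnit (1 + j0 * ⟨a, ha⟩ : A) := by
      by_contra hnu
      obtain ⟨M, hM, hzM⟩ := exists_max_ideal_of_mem_nonunits hnu
      have := M.sub_mem hzM (M.mul_mem_right ⟨a, ha⟩ (hj0 M hM))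
      rw [add_sub_cancel_right] at this
      exact hM.ne_top ((Ideal.eq_top_iff_one _).mpr this)
    refine ⟨(1 + j0 * ⟨a, ha⟩ : A).2, inv_mem_of_isUnit K _ hu, ?_⟩
    intro h0
    have : (1 + j0 * ⟨a, ha⟩ : A) = 0 := Subtype.ext h0
    rw [this] at hu
    exact not_isUnit_zero hu
  have hnle : ∀ W ∈ S, ¬ (A ≤ W.toSubring) := by
    intro W hW hle
    obtain ⟨hWd, hBW⟩ := (hS W).mp hW
    haveI := hWd
    apply dvr_ne_top K W
    intro x
    have : A ⊔ B ≤ W.toSubring := sup_le hle hBW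
    rw [hgen] at this
    exact this (Subring.mem_top x)
  obtain ⟨g, hgA, hginvA, hg0, hg⟩ := exists_unit_outside A (j0 : K)
    (fun h => hj00 (Subtype.ext h)) hJ S (fun W hW => ((hS W).mp hW).1) hnle
  set t' : K := g⁻¹ with ht'
  have ht'0 : t' ≠ 0 := inv_ne_zero hg0
  have ht'W : ∀ W : ValuationSubring K, IsDiscreteValuationRing W → B ≤ W.toSubring →
      t' ∈ W.nonunits := fun W h1 h2 => hg W ((hS W).mpr ⟨h1, h2⟩)
  -- t' is integral over B
  have hint : IsIntegral B t' := by
    have hfg : (⊤ : IntermediateField K K).FG := IntermediateField.fg_top K K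
    rw [Groth.Agent.S4434.result B K K hfg t']
    intro R hR hBR
    exact nonunits_le R (ht'W R hR (fun b hb => hBR ⟨b, hb⟩))
  -- the finite extension B1 = B[t']
  let B1 : Subalgebra B K := Algebra.adjoin B {t'}
  haveI : Module.Finite B B1 := Module.Finite.of_fg hint.fg_adjoin_singleton
  haveI : Algebra.FiniteType B B1 := Algebra.FiniteType.adjoin_of_finite (Set.finite_singleton _)
  haveI : IsNoetherianRing B1 := Algebra.FiniteType.isNoetherianRing B B1
  let ψ : B1 →+* K := B1.val.toRingHom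
  have hψ : Function.Injective ψ := Subtype.val_injective
  let t1 : B1 := ⟨t', Algebra.subset_adjoin rfl⟩
  have hprime : ∀ P : Ideal B1, P.IsPrime → P ≠ ⊥ → t1 ∈ P := by
    intro P hP hPne
    obtain ⟨W, hW, hmem, hiff⟩ := exists_dvr_centre ψ hψ B
      (fun b => ⟨algebraMap B B1 b, rfl⟩) P hPne
    rw [hiff]
    exact ht'W W hW (fun b hb => hmem (algebraMap B B1 ⟨b, hb⟩))
  -- the conductor
  let cond : Ideal B1 :=
    { carrier := {x | ∀ z : B1, (x : K) * (z : K) ∈ B}
      add_mem' := fun {x x'} hx hx' z => by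
        change ((x : K) + (x' : K)) * (z : K) ∈ B
        rw [add_mul]; exact B.add_mem (hx z) (hx' z)
      zero_mem' := fun z => by
        change (0 : K) * (z : K) ∈ B
        rw [zero_mul]; exact B.zero_mem
      smul_mem' := fun c x hx z => by
        change ((c : K) * (x : K)) * (z : K) ∈ B
        have := hx (c * z)
        change (x : K) * ((c : K) * (z : K)) ∈ B at this
        rwa [mul_comm (c : K), mul_assoc] }
  obtain ⟨c0, hc0, hc0c⟩ : ∃ c0 : B1, c0 ≠ 0 ∧ c0 ∈ cond := by
    obtain ⟨s, hs⟩ := (Module.finite_def.mp (inferInstance : Module.Finite B B1))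
    obtain ⟨b, hb⟩ := IsLocalization.exist_integer_multiples_of_finset (nonZeroDivisors B)
      (s.image (fun z : B1 => (z : K)))
    have hb0 : (b : B) ≠ 0 := nonZeroDivisors.ne_zero b.2
    refine ⟨algebraMap B B1 b, ?_, ?_⟩
    · intro h0
      apply hb0
      have : ((b : B) : K) = 0 := congrArg Subtype.val h0
      exact Subtype.ext this
    · intro z
      let N : Submodule B B1 :=
        { carrier := {z | ((b : B) : K) * (z : K) ∈ B}
          add_mem' := fun {x x'} hx hx' => by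
            change ((b : B) : K) * ((x : K) + (x' : K)) ∈ B
            rw [mul_add]; exact B.add_mem hx hx'
          zero_mem' := by
            change ((b : B) : K) * (0 : K) ∈ B
            rw [mul_zero]; exact B.zero_mem
          smul_mem' := fun c x hx => by
            change ((b : B) : K) * ((c : K) * (x : K)) ∈ B
            rw [mul_left_comm]; exact B.mul_mem c.2 hx }
      have hN : N = ⊤ := by
        rw [eq_top_iff, ← hs, Submodule.span_le]
        intro x hx
        obtain ⟨r, hr⟩ := hb (x : K) (Finset.mem_image.mpr ⟨x, hx, rfl⟩)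
        change ((b : B) : K) * (x : K) ∈ B
        have : ((b : B) : K) * (x : K) = (r : K) := by
          rw [show (r : K) = algebraMap B K r from rfl, hr, Algebra.smul_def]; rfl
        rw [this]; exact r.2
      have : z ∈ N := hN ▸ Submodule.mem_top
      exact this
  have hrad : t1 ∈ cond.radical := by
    rw [Ideal.radical_eq_sInf, Ideal.mem_sInf]
    rintro P ⟨hP, hPprime⟩
    apply hprime P hPprime
    rintro rfl
    exact hc0 ((Ideal.mem_bot).mp (hP hc0c))
  obtain ⟨N, hN⟩ := hrad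
  have htB : t' ^ (N + 1) ∈ B := by
    have h1 : t1 ^ (N + 1) ∈ cond := by
      rw [pow_succ]; exact cond.mul_mem_right _ hN
    have := h1 1
    change (t' ^ (N + 1)) * (1 : K) ∈ B at this
    rwa [mul_one] at this
  refine ⟨⟨t' ^ (N + 1), htB⟩, A.pow_mem hginvA _, ?_, ?_, ?_⟩
  · change (t' ^ (N + 1))⁻¹ ∈ A
    rw [ht', inv_pow, inv_inv]
    exact A.pow_mem hgA _
  · intro h0
    have : t' ^ (N + 1) = 0 := congrArg Subtype.val h0
    exact pow_ne_zero _ ht'0 this
  · intro n hn
    haveI := hn.isPrime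
    obtain ⟨W, hW, hmem, hiff⟩ := exists_dvr_centre B.subtype Subtype.val_injective B
      (fun b => ⟨b, rfl⟩) n (Ring.ne_bot_of_isMaximal_of_not_isField hn hBf)
    rw [hiff]
    change t' ^ (N + 1) ∈ W.nonunits
    have h1 : t' ∈ W.nonunits := ht'W W hW (fun b hb => hmem ⟨b, hb⟩)
    rw [pow_succ]
    exact mul_mem_nonunits W (W.pow_mem (nonunits_le W h1) N) h1

lemma isUnit_add_of_jacobson {A : Type*} [CommRing A] (t s : A) (ht : IsUnit t)
    (hs : ∀ m : Ideal A, m.IsMaximal → s ∈ m) : IsUnit (t + s) := by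
  by_contra hnu
  obtain ⟨M, hM, hzM⟩ := exists_max_ideal_of_mem_nonunits hnu
  have h1 : t ∈ M := by
    have := M.sub_mem hzM (hs M hM)
    rwa [add_sub_cancel_right] at this
  exact hM.ne_top (Ideal.eq_top_of_isUnit_mem _ h1 ht)


end Groth.Agent.H4.GlueDVR2
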