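import Groth.Agent.H4.GlueDVR2
set_option autoImplicit false
universe u
open CategoryTheory CategoryTheory.Limits AlgebraicGeometry
open Groth.Agent.H4.GlueDVR Groth.Agent.H4.GlueDVR2
namespace Groth.Agent.H4.GlueDVR3

variable {K : Type u} [Field K]

/-- (L1) an element lying in the maximal ideal of every DVR over `B` has all its high powers in
the Jacobson radical of `B` -/
lemma pow_mem_jacobson (B : Subring K) [IsFractionRing B K] [IsNoetherianRing B]
    (hBf : ¬ IsField B) (t' : K)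
    (ht'W : ∀ W : ValuationSubring K, IsDiscreteValuationRing W → B ≤ W.toSubring →
      t' ∈ W.nonunits) :
    ∃ N0 : ℕ, ∀ N, N0 ≤ N → ∃ h : t' ^ N ∈ B, ∀ n : Ideal B, n.IsMaximal →
      (⟨t' ^ N, h⟩ : B) ∈ n := by
  classical
  have hint : IsIntegral B t' := by
    have hfg : (⊤ : IntermediateField K K).FG := IntermediateField.fg_top K K
    rw [Groth.Agent.S4434.result B K K hfg t']
    intro R hR hBR
    exact nonunits_le R (ht'W R hR (fun b hb => hBR ⟨b, hb⟩))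
  let B1 : Subalgebra B K := Algebra.adjoin B {t'}
  haveI : Module.Finite B B1 := Module.Finite.of_fg hint.fg_adjoin_singleton
  haveI : Algebra.FiniteType B B1 := Algebra.FiniteType.adjoin_of_finite (Set.finite_singleton _)
  haveI : IsNoetherianRing B1 := Algebra.FiniteType.isNoetherianRing B B1
  let ψ : B1 →+* K := B1.val.toRingHom
  have hψ : Function.Injective ψ := Subtype.val_injective
  let t1 : B1 := ⟨t', Algebra.subset_adjoin rfl⟩
  have hprime : ∀ P : Ideal B1, P.IsPrime → P ≠ ⊥ → t1 ∈ P := by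
    intro P hP hPne
    obtain ⟨W, hW, hmem, hiff⟩ := exists_dvr_centre ψ hψ B
      (fun b => ⟨algebraMap B B1 b, rfl⟩) P hPne
    rw [hiff]
    exact ht'W W hW (fun b hb => hmem (algebraMap B B1 ⟨b, hb⟩))
  let cond : Ideal B1 :=
    { carrier := {x | ∀ z : B1, (x : K) * (z : K) ∈ B}
      add_mem' := fun {x x'} hx hx' z => by
        change ((x : K) + (x' : K)) * (z : K) ∈ B
        rw [add_mul]; exact B.add_mem (hx z) (hx' z)
      zero_mem' := fun z => by
        change (0 : K) * (z : K) ∈ B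
        rw [zero_mul]; exact B.zero_mem
      smul_mem' := fun c x hx z => by
        change ((c : K) * (x : K)) * (z : K) ∈ B
        have := hx (c * z)
        change (x : K) * ((c : K) * (z : K)) ∈ B at this
        rwa [mul_comm (c : K), mul_assoc] }
  obtain ⟨c0, hc0, hc0c⟩ : ∃ c0 : B1, c0 ≠ 0 ∧ c0 ∈ cond := by
    obtain ⟨s, hs⟩ := (Module.finite_def.mp (inferInstance : Module.Finite B B1))
    obtain ⟨b, hb⟩ := IsLocalization.exist_integer_multiples_of_finset (nonZeroDivisors B)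
      (s.image (fun z : B1 => (z : K)))
    have hb0 : (b : B) ≠ 0 := nonZeroDivisors.ne_zero b.2
    refine ⟨algebraMap B B1 b, ?_, ?_⟩
    · intro h0
      apply hb0
      have : ((b : B) : K) = 0 := congrArg Subtype.val h0
      exact Subtype.ext this
    · intro z
      let N : Submodule B B1 :=
        { carrier := {z | ((b : B) : K) * (z : K) ∈ B}
          add_mem' := fun {x x'} hx hx' => by
            change ((b : B) : K) * ((x : K) + (x' : K)) ∈ B
            rw [mul_add]; exact B.add_mem hx hx'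
          zero_mem' := by
            change ((b : B) : K) * (0 : K) ∈ B
            rw [mul_zero]; exact B.zero_mem
          smul_mem' := fun c x hx => by
            change ((b : B) : K) * ((c : K) * (x : K)) ∈ B
            rw [mul_left_comm]; exact B.mul_mem c.2 hx }
      have hN : N = ⊤ := by
        rw [eq_top_iff, ← hs, Submodule.span_le]
        intro x hx
        obtain ⟨r, hr⟩ := hb (x : K) (Finset.mem_image.mpr ⟨x, hx, rfl⟩)
        change ((b : B) : K) * (x : K) ∈ B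
        have : ((b : B) : K) * (x : K) = (r : K) := by
          rw [show (r : K) = algebraMap B K r from rfl, hr, Algebra.smul_def]; rfl
        rw [this]; exact r.2
      have : z ∈ N := hN ▸ Submodule.mem_top
      exact this
  have hrad : t1 ∈ cond.radical := by
    rw [Ideal.radical_eq_sInf, Ideal.mem_sInf]
    rintro P ⟨hP, hPprime⟩
    apply hprime P hPprime
    rintro rfl
    exact hc0 ((Ideal.mem_bot).mp (hP hc0c))
  obtain ⟨N, hN⟩ := hrad
  refine ⟨N + 1, fun N' hN' => ?_⟩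
  have htB : t' ^ N' ∈ B := by
    have h1 : t1 ^ N' ∈ cond := by
      have : N' = (N' - N) + N := by omega
      rw [this, pow_add]; exact cond.mul_mem_left _ hN
    have := h1 1
    change (t' ^ N') * (1 : K) ∈ B at this
    rwa [mul_one] at this
  refine ⟨htB, fun n hn => ?_⟩
  haveI := hn.isPrime
  obtain ⟨W, hW, hmem, hiff⟩ := exists_dvr_centre B.subtype Subtype.val_injective B
    (fun b => ⟨b, rfl⟩) n (Ring.ne_bot_of_isMaximal_of_not_isField hn hBf)
  rw [hiff]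
  change t' ^ N' ∈ W.nonunits
  have h1 : t' ∈ W.nonunits := ht'W W hW (fun b hb => hmem ⟨b, hb⟩)
  obtain ⟨M, rfl⟩ : ∃ M, N' = M + 1 := ⟨N' - 1, by omega⟩
  rw [pow_succ]
  exact mul_mem_nonunits W (W.pow_mem (nonunits_le W h1) M) h1

/-- (L2) a unit of `A` with a zero along every DVR over some member of a finite family of
rings each generating `K` together with `A` -/
lemma exists_unit_family (A : Subring K) [IsFractionRing A K] [Finite (MaximalSpectrum A)]
    (hAf : ¬ IsField A) {ι : Type*} [Finite ι] (B : ι → Subring K)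
    [∀ j, IsFractionRing (B j) K] [∀ j, IsNoetherianRing (B j)]
    (hdB : ∀ j, Ring.KrullDimLE 1 (B j)) [∀ j, Finite (MaximalSpectrum (B j))]
    (hBf : ∀ j, ¬ IsField (B j)) (hgen : ∀ j, A ⊔ B j = ⊤) :
    ∃ g : K, g ∈ A ∧ g⁻¹ ∈ A ∧ g ≠ 0 ∧ ∀ j, ∀ W : ValuationSubring K,
      IsDiscreteValuationRing W → B j ≤ W.toSubring → g⁻¹ ∈ W.nonunits := by
  classical
  haveI : Fintype ι := Fintype.ofFinite ι
  obtain ⟨j0, hj00, hj0⟩ := exists_jacobson_ne_zero A hAf
  choose y hy0 hy using fun j => exists_jacobson_ne_zero (B j) (hBf j)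
  have hfin := fun j => haveI := hdB j; finite_dvrs (B j) (y j) (hy0 j) (hy j)
  let S : Finset (ValuationSubring K) := Finset.univ.biUnion fun j => (hfin j).toFinset
  have hS : ∀ W, W ∈ S ↔ ∃ j, IsDiscreteValuationRing W ∧ B j ≤ W.toSubring := fun W => by
    simp only [S, Finset.mem_biUnion, Finset.mem_univ, true_and, Set.Finite.mem_toFinset]
    rfl
  have hJ : ∀ a ∈ A, 1 + (j0 : K) * a ∈ A ∧ (1 + (j0 : K) * a)⁻¹ ∈ A ∧ 1 + (j0 : K) * a ≠ 0 := by
    intro a ha
    have hu : IsUnit (1 + j0 * ⟨a, ha⟩ : A) := by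
      by_contra hnu
      obtain ⟨M, hM, hzM⟩ := exists_max_ideal_of_mem_nonunits hnu
      have := M.sub_mem hzM (M.mul_mem_right ⟨a, ha⟩ (hj0 M hM))
      rw [add_sub_cancel_right] at this
      exact hM.ne_top ((Ideal.eq_top_iff_one _).mpr this)
    refine ⟨(1 + j0 * ⟨a, ha⟩ : A).2, inv_mem_of_isUnit K _ hu, ?_⟩
    intro h0
    have : (1 + j0 * ⟨a, ha⟩ : A) = 0 := Subtype.ext h0
    rw [this] at hu
    exact not_isUnit_zero hu
  have hnle : ∀ W ∈ S, ¬ (A ≤ W.toSubring) := by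
    intro W hW hle
    obtain ⟨j, hWd, hBW⟩ := (hS W).mp hW
    haveI := hWd
    apply dvr_ne_top K W
    intro x
    have : A ⊔ B j ≤ W.toSubring := sup_le hle hBW
    rw [hgen j] at this
    exact this (Subring.mem_top x)
  obtain ⟨g, hgA, hginvA, hg0, hg⟩ := exists_unit_outside A (j0 : K)
    (fun h => hj00 (Subtype.ext h)) hJ S
    (fun W hW => by obtain ⟨j, h1, _⟩ := (hS W).mp hW; exact h1) hnle
  exact ⟨g, hgA, hginvA, hg0, fun j W h1 h2 => hg W ((hS W).mpr ⟨j, h1, h2⟩)⟩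

lemma exists_tau (r : ℕ) (A : Fin r → Subring K) [∀ i, IsNoetherianRing (A i)]
    [∀ i, IsFractionRing (A i) K] (hd : ∀ i, Ring.KrullDimLE 1 (A i))
    [∀ i, Finite (MaximalSpectrum (A i))] (hf : ∀ i, ¬ IsField (A i))
    (hgen : ∀ i j, i ≠ j → A i ⊔ A j = ⊤) (i : Fin r) :
    ∃ τ : K, τ ∈ A i ∧ τ⁻¹ ∈ A i ∧ τ ≠ 0 ∧ ∀ j, j ≠ i → ∃ h : τ ∈ A j,
      ∀ n : Ideal (A j), n.IsMaximal → (⟨τ, h⟩ : A j) ∈ n := by
  classical
  obtain ⟨g, hgA, hginvA, hg0, hg⟩ := exists_unit_family (A i) (hf i)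
    (fun j : {j : Fin r // j ≠ i} => A j.1) (fun j => hd j.1) (fun j => hf j.1)
    (fun j => hgen i j.1 (Ne.symm j.2))
  choose N0 hN0 using fun j : {j : Fin r // j ≠ i} =>
    pow_mem_jacobson (A j.1) (hf j.1) g⁻¹ (hg j)
  let N : ℕ := Finset.univ.sup N0
  refine ⟨g⁻¹ ^ N, (A i).pow_mem hginvA N, ?_, pow_ne_zero _ (inv_ne_zero hg0), fun j hj => ?_⟩
  · rw [inv_pow, inv_inv]; exact (A i).pow_mem hgA N
  · exact hN0 ⟨j, hj⟩ N (Finset.le_sup (f := N0) (Finset.mem_univ _))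

/-- basic algebraic consequences of the data `τ` -/
structure FamData (r : ℕ) (A : Fin r → Subring K) (τ : Fin r → K) : Prop where
  mem : ∀ i j, τ i ∈ A j
  inv : ∀ i, (τ i)⁻¹ ∈ A i
  ne : ∀ i, τ i ≠ 0
  jac : ∀ i j, j ≠ i → ∀ n : Ideal (A j), n.IsMaximal → (⟨τ i, mem i j⟩ : A j) ∈ n

variable {r : ℕ} {A : Fin r → Subring K} {τ : Fin r → K}

lemma FamData.memR (h : FamData r A τ) (i : Fin r) : τ i ∈ ⨅ i, A i :=
  Subring.mem_iInf.mpr (h.mem i)

/-- every element of `A i` becomes a section of `R` after multiplying by a power of `τ i` -/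
lemma FamData.pow_mul_mem (h : FamData r A τ) [∀ i, IsFractionRing (A i) K]
    (hd : ∀ i, Ring.KrullDimLE 1 (A i)) (i : Fin r) (y : K) (hy : y ∈ A i) :
    ∃ n : ℕ, y * τ i ^ n ∈ ⨅ i, A i := by
  classical
  have h1 : ∀ j, ∃ n : ℕ, ∀ n', n ≤ n' → y * τ i ^ n' ∈ A j := by
    intro j
    by_cases hj : j = i
    · subst hj
      exact ⟨0, fun n' _ => (A j).mul_mem hy ((A j).pow_mem (h.mem j j) n')⟩
    · obtain ⟨n, a, ha⟩ := exists_pow_mul_mem K (A j) (hd j) ⟨τ i, h.mem i j⟩ (h.jac i j hj) y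
      refine ⟨n, fun n' hn' => ?_⟩
      have : y * τ i ^ n' = (a : K) * τ i ^ (n' - n) := by
        rw [← ha]
        change y * τ i ^ n' = y * τ i ^ n * τ i ^ (n' - n)
        rw [mul_assoc, ← pow_add]
        congr 2
        omega
      rw [this]
      exact (A j).mul_mem a.2 ((A j).pow_mem (h.mem i j) _)
  choose n hn using h1
  refine ⟨Finset.univ.sup n, Subring.mem_iInf.mpr fun j => ?_⟩
  exact hn j _ (Finset.le_sup (f := n) (Finset.mem_univ j))

/-- the sum of the `τ i` is a unit of every `A j` -/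
lemma FamData.sum_inv_mem (h : FamData r A τ) (j : Fin r) :
    (∑ i, τ i)⁻¹ ∈ A j ∧ (∑ i, τ i) ≠ 0 := by
  classical
  have hu : IsUnit (∑ i, (⟨τ i, h.mem i j⟩ : A j)) := by
    rw [← Finset.add_sum_erase _ _ (Finset.mem_univ j)]
    apply isUnit_add_of_jacobson
    · exact isUnit_iff_exists_inv.mpr ⟨⟨_, h.inv j⟩, Subtype.ext (mul_inv_cancel₀ (h.ne j))⟩
    · intro m hm
      apply Ideal.sum_mem
      intro i hi
      exact h.jac i j (Finset.ne_of_mem_erase hi).symm m hm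
  have hval : ((∑ i, (⟨τ i, h.mem i j⟩ : A j) : A j) : K) = ∑ i, τ i := by
    rw [AddSubmonoidClass.coe_finsetSum]
  constructor
  · rw [← hval]; exact inv_mem_of_isUnit K _ hu
  · rw [← hval]
    intro h0
    have : (∑ i, (⟨τ i, h.mem i j⟩ : A j)) = 0 := Subtype.ext h0
    rw [this] at hu
    exact not_isUnit_zero hu

/-- the inclusion of the intersection in `A i`, as an algebra -/
@[reducible] def inclAlg (A : Fin r → Subring K) (i : Fin r) : Algebra ↥(⨅ i, A i) (A i) :=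
  (Subring.inclusion (iInf_le A i)).toAlgebra

/-- `A i = R[1/τ i]` -/
lemma FamData.away (h : FamData r A τ) [∀ i, IsFractionRing (A i) K]
    (hd : ∀ i, Ring.KrullDimLE 1 (A i)) (i : Fin r) :
    @IsLocalization.Away ↥(⨅ i, A i) _ (⟨τ i, h.memR i⟩ : ↥(⨅ i, A i)) (A i) _ (inclAlg A i) := by
  letI := inclAlg A i
  apply away_of_injective (Subring.inclusion_injective _)
  · exact isUnit_iff_exists_inv.mpr ⟨⟨_, h.inv i⟩, Subtype.ext (mul_inv_cancel₀ (h.ne i))⟩
  · intro y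
    obtain ⟨n, hn⟩ := h.pow_mul_mem hd i (y : K) y.2
    exact ⟨n, ⟨_, hn⟩, Subtype.ext rfl⟩

/-- the sum of the `τ i` is a unit of `R` -/
lemma FamData.isUnit_sum (h : FamData r A τ) (hr : 0 < r) :
    IsUnit (∑ i, (⟨τ i, h.memR i⟩ : ↥(⨅ i, A i))) := by
  have hval : ((∑ i, (⟨τ i, h.memR i⟩ : ↥(⨅ i, A i)) : ↥(⨅ i, A i)) : K) = ∑ i, τ i := by
    rw [AddSubmonoidClass.coe_finsetSum]
  refine isUnit_iff_exists_inv.mpr
    ⟨⟨(∑ i, τ i)⁻¹, Subring.mem_iInf.mpr fun j => (h.sum_inv_mem j).1⟩, Subtype.ext ?_⟩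
  change ((∑ i, (⟨τ i, h.memR i⟩ : ↥(⨅ i, A i)) : ↥(⨅ i, A i)) : K) * (∑ i, τ i)⁻¹ = 1
  rw [hval]
  exact mul_inv_cancel₀ (h.sum_inv_mem ⟨0, hr⟩).2

/-- every prime of `R` misses some `τ i` -/
lemma FamData.exists_notMem (h : FamData r A τ) (hr : 0 < r) (q : Ideal ↥(⨅ i, A i))
    (hq : q ≠ ⊤) :
    ∃ i, (⟨τ i, h.memR i⟩ : ↥(⨅ i, A i)) ∉ q := by
  by_contra hcon
  push Not at hcon
  apply hq
  exact Ideal.eq_top_of_isUnit_mem _ (Ideal.sum_mem _ fun i _ => hcon i) (h.isUnit_sum hr)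

/-- (4) -/
lemma FamData.isFractionRing (h : FamData r A τ) [∀ i, IsFractionRing (A i) K]
    (hd : ∀ i, Ring.KrullDimLE 1 (A i)) (hr : 0 < r) : IsFractionRing ↥(⨅ i, A i) K := by
  let i0 : Fin r := ⟨0, hr⟩
  refine ⟨?_, ?_, ?_⟩
  · rintro ⟨x, hx⟩
    have hx0 : x ≠ 0 := nonZeroDivisors.ne_zero hx
    exact isUnit_iff_ne_zero.mpr (fun h0 => hx0 (Subtype.ext h0))
  · intro z
    obtain ⟨a, a', ha', rfl⟩ := IsFractionRing.div_surjective (A := A i0) z
    have ha'0 : (a' : K) ≠ 0 := fun h0 => nonZeroDivisors.ne_zero ha' (Subtype.ext h0)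
    obtain ⟨n, hn⟩ := h.pow_mul_mem hd i0 (a : K) a.2
    obtain ⟨n', hn'⟩ := h.pow_mul_mem hd i0 (a' : K) a'.2
    have hτR := h.memR i0
    have h1 : (a : K) * τ i0 ^ (n + n') ∈ ⨅ i, A i := by
      rw [pow_add, ← mul_assoc]
      exact Subring.mul_mem _ hn (Subring.pow_mem _ hτR _)
    have h2 : (a' : K) * τ i0 ^ (n + n') ∈ ⨅ i, A i := by
      rw [pow_add, mul_comm (τ i0 ^ n), ← mul_assoc]
      exact Subring.mul_mem _ hn' (Subring.pow_mem _ hτR _)
    have h20 : (a' : K) * τ i0 ^ (n + n') ≠ 0 := mul_ne_zero ha'0 (pow_ne_zero _ (h.ne i0))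
    refine ⟨(⟨_, h1⟩, ⟨⟨_, h2⟩, mem_nonZeroDivisors_of_ne_zero
      (fun h0 => h20 (congrArg Subtype.val h0))⟩), ?_⟩
    change (a : K) / (a' : K) * ((a' : K) * τ i0 ^ (n + n')) = (a : K) * τ i0 ^ (n + n')
    field_simp
  · intro x y hxy
    exact ⟨1, by rw [Subtype.ext (show (x : K) = y from hxy)]⟩

/-- (1) -/
lemma FamData.isNoetherianRing (h : FamData r A τ) [∀ i, IsFractionRing (A i) K]
    [∀ i, IsNoetherianRing (A i)]
    (hd : ∀ i, Ring.KrullDimLE 1 (A i)) (hr : 0 < r) : IsNoetherianRing ↥(⨅ i, A i) := by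
  rw [isNoetherianRing_iff_ideal_fg]
  intro I
  let τR : Fin r → ↥(⨅ i, A i) := fun i => ⟨τ i, h.memR i⟩
  apply Ideal.fg_of_localizationSpan (Set.range τR)
  · apply Ideal.eq_top_of_isUnit_mem _ _ (h.isUnit_sum hr)
    exact Ideal.sum_mem _ fun i _ => Ideal.subset_span ⟨i, rfl⟩
  · rintro ⟨_, i, rfl⟩
    letI := inclAlg A i
    haveI := h.away hd i
    have e : Localization.Away (τR i) ≃+* A i :=
      (IsLocalization.algEquiv (Submonoid.powers (τR i)) (Localization.Away (τR i)) (A i)).toRingEquiv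
    haveI : IsNoetherianRing (Localization.Away (τR i)) := isNoetherianRing_of_ringEquiv _ e.symm
    exact (isNoetherianRing_iff_ideal_fg _).mp inferInstance _

/-- transfer of a prime of `R` missing `τ i` to `A i` -/
lemma FamData.map_prime (h : FamData r A τ) [∀ i, IsFractionRing (A i) K]
    (hd : ∀ i, Ring.KrullDimLE 1 (A i)) (i : Fin r) (I : Ideal ↥(⨅ i, A i)) (hI : I.IsPrime)
    (hτ : (⟨τ i, h.memR i⟩ : ↥(⨅ i, A i)) ∉ I) :
    (I.map (Subring.inclusion (iInf_le A i))).IsPrime ∧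
      (I.map (Subring.inclusion (iInf_le A i))).comap (Subring.inclusion (iInf_le A i)) = I := by
  letI := inclAlg A i
  haveI := h.away hd i
  have hdisj : Disjoint (Submonoid.powers (⟨τ i, h.memR i⟩ : ↥(⨅ i, A i)) : Set ↥(⨅ i, A i))
      (I : Set ↥(⨅ i, A i)) := (Ideal.disjoint_powers_iff_notMem _ hI.isRadical).mpr hτ
  exact ⟨IsLocalization.isPrime_of_isPrime_disjoint _ (A i) I hI hdisj,
    IsLocalization.under_map_of_isPrime_disjoint _ (A i) hI hdisj⟩

/-- a nonzero prime of `R` missing `τ i` becomes a maximal ideal of `A i` -/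
lemma FamData.map_isMaximal (h : FamData r A τ) [∀ i, IsFractionRing (A i) K]
    (hd : ∀ i, Ring.KrullDimLE 1 (A i)) (i : Fin r) (I : Ideal ↥(⨅ i, A i)) (hI : I.IsPrime)
    (hI0 : I ≠ ⊥) (hτ : (⟨τ i, h.memR i⟩ : ↥(⨅ i, A i)) ∉ I) :
    (I.map (Subring.inclusion (iInf_le A i))).IsMaximal := by
  obtain ⟨h1, h2⟩ := h.map_prime hd i I hI hτ
  refine Ring.krullDimLE_one_iff_of_noZeroDivisors.mp (hd i) _ ?_ h1
  intro hbot
  apply hI0
  rw [← h2, hbot]
  ext x
  rw [Ideal.mem_comap, Ideal.mem_bot, Ideal.mem_bot]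
  constructor
  · intro hx
    exact Subring.inclusion_injective _ (by rw [hx, map_zero])
  · rintro rfl; exact map_zero _

lemma FamData.krullDimLE (h : FamData r A τ) [∀ i, IsFractionRing (A i) K]
    (hd : ∀ i, Ring.KrullDimLE 1 (A i)) (hr : 0 < r) : Ring.KrullDimLE 1 ↥(⨅ i, A i) := by
  rw [Ring.krullDimLE_one_iff_of_noZeroDivisors]
  intro I hI0 hI
  obtain ⟨M, hM, hIM⟩ := Ideal.exists_le_maximal I hI.ne_top
  obtain ⟨i, hi⟩ := h.exists_notMem hr M hM.ne_top
  have hiI : (⟨τ i, h.memR i⟩ : ↥(⨅ i, A i)) ∉ I := fun hc => hi (hIM hc)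
  have hM0 : M ≠ ⊥ := fun hc => hI0 (le_bot_iff.mp (hc ▸ hIM))
  have h1 := h.map_isMaximal hd i I hI hI0 hiI
  obtain ⟨h3, h4⟩ := h.map_prime hd i M hM.isPrime hi
  have h5 : I.map (Subring.inclusion (iInf_le A i)) = M.map (Subring.inclusion (iInf_le A i)) :=
    h1.eq_of_le h3.ne_top (Ideal.map_mono hIM)
  have : I = M := by
    rw [← (h.map_prime hd i I hI hiI).2, h5, h4]
  rw [this]; exact hM

lemma FamData.not_isField (h : FamData r A τ) [∀ i, IsFractionRing (A i) K]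
    (hd : ∀ i, Ring.KrullDimLE 1 (A i)) (hr : 0 < r) (hf : ∀ i, ¬ IsField (A i)) :
    ¬ IsField ↥(⨅ i, A i) := by
  intro hR
  haveI := h.isFractionRing hd hr
  let i0 : Fin r := ⟨0, hr⟩
  apply hf i0
  -- R = K hence A i0 = K
  have htop : ∀ x : K, x ∈ ⨅ i, A i := by
    intro x
    obtain ⟨a, b, hb, rfl⟩ := IsFractionRing.div_surjective (A := ↥(⨅ i, A i)) x
    have hb0 : b ≠ 0 := nonZeroDivisors.ne_zero hb
    obtain ⟨c, hc⟩ := hR.mul_inv_cancel hb0
    have hc' : (b : K) * (c : K) = 1 := congrArg Subtype.val hc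
    have : (algebraMap ↥(⨅ i, A i) K a) / (algebraMap ↥(⨅ i, A i) K b) = (a : K) * (c : K) := by
      change (a : K) / (b : K) = _
      rw [div_eq_iff (fun h0 => hb0 (Subtype.ext h0)), mul_assoc, mul_comm (c : K), hc', mul_one]
    rw [this]
    exact Subring.mul_mem _ a.2 c.2
  refine ⟨⟨0, 1, zero_ne_one⟩, mul_comm, fun {a} ha => ?_⟩
  have ha0 : (a : K) ≠ 0 := fun h0 => ha (Subtype.ext h0)
  exact ⟨⟨(a : K)⁻¹, Subring.mem_iInf.mp (htop _) i0⟩, Subtype.ext (mul_inv_cancel₀ ha0)⟩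

lemma FamData.ringKrullDim_eq (h : FamData r A τ) [∀ i, IsFractionRing (A i) K]
    (hd : ∀ i, Ring.KrullDimLE 1 (A i)) (hr : 0 < r) (hf : ∀ i, ¬ IsField (A i)) :
    ringKrullDim ↥(⨅ i, A i) = 1 := by
  apply le_antisymm
  · have := h.krullDimLE hd hr
    rw [Ring.krullDimLE_iff] at this
    exact this
  · rw [ringKrullDim, Order.one_le_krullDim_iff]
    obtain ⟨M, hM⟩ := Ideal.exists_maximal ↥(⨅ i, A i)
    have hM0 := Ring.ne_bot_of_isMaximal_of_not_isField hM (h.not_isField hd hr hf)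
    refine ⟨⟨⊥, Ideal.isPrime_bot⟩, ⟨M, hM.isPrime⟩, ?_⟩
    change (⊥ : Ideal _) < M
    exact bot_lt_iff_ne_bot.mpr hM0

lemma FamData.finite_maximalSpectrum (h : FamData r A τ) [∀ i, IsFractionRing (A i) K]
    (hd : ∀ i, Ring.KrullDimLE 1 (A i)) (hr : 0 < r) (hf : ∀ i, ¬ IsField (A i))
    [∀ i, Finite (MaximalSpectrum (A i))] : Finite (MaximalSpectrum ↥(⨅ i, A i)) := by
  classical
  have hnf := h.not_isField hd hr hf
  choose idx hidx using fun M : MaximalSpectrum ↥(⨅ i, A i) =>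
    h.exists_notMem hr M.asIdeal M.isMaximal.ne_top
  let f : MaximalSpectrum ↥(⨅ i, A i) → Σ i, MaximalSpectrum (A i) := fun M =>
    ⟨idx M, ⟨M.asIdeal.map (Subring.inclusion (iInf_le A (idx M))),
      h.map_isMaximal hd (idx M) M.asIdeal M.isMaximal.isPrime
        (Ring.ne_bot_of_isMaximal_of_not_isField M.isMaximal hnf) (hidx M)⟩⟩
  let g : (Σ i, MaximalSpectrum (A i)) → Ideal ↥(⨅ i, A i) := fun p =>
    p.2.asIdeal.comap (Subring.inclusion (iInf_le A p.1))
  have hg : ∀ M, g (f M) = M.asIdeal := fun M =>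
    (h.map_prime hd (idx M) M.asIdeal M.isMaximal.isPrime (hidx M)).2
  apply Finite.of_injective f
  intro M M' hMM'
  apply MaximalSpectrum.ext
  rw [← hg M, ← hg M', hMM']

/-- (5) and the description of the image -/
lemma FamData.isOpenImmersion (h : FamData r A τ) [∀ i, IsFractionRing (A i) K]
    (hd : ∀ i, Ring.KrullDimLE 1 (A i)) (i : Fin r) :
    IsOpenImmersion (Spec.map (CommRingCat.ofHom (Subring.inclusion (iInf_le A i)))) ∧
    Set.range (Spec.map (CommRingCat.ofHom (Subring.inclusion (iInf_le A i)))).base =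
      (PrimeSpectrum.basicOpen (⟨τ i, h.memR i⟩ : ↥(⨅ i, A i)) : Set (PrimeSpectrum ↥(⨅ i, A i))) := by
  letI := inclAlg A i
  haveI := h.away hd i
  exact ⟨IsOpenImmersion.of_isLocalization (⟨τ i, h.memR i⟩ : ↥(⨅ i, A i)),
    PrimeSpectrum.localization_away_comap_range (A i) (⟨τ i, h.memR i⟩ : ↥(⨅ i, A i))⟩

/-- (7) uniqueness -/
lemma FamData.unique_index (h : FamData r A τ) [∀ i, IsFractionRing (A i) K]
    (hd : ∀ i, Ring.KrullDimLE 1 (A i)) (hr : 0 < r) (hf : ∀ i, ¬ IsField (A i))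
    (hgen : ∀ i j, i ≠ j → A i ⊔ A j = ⊤)
    (m : Ideal ↥(⨅ i, A i)) (hm : m.IsMaximal) (i j : Fin r)
    (hi : (⟨τ i, h.memR i⟩ : ↥(⨅ i, A i)) ∉ m) (hj : (⟨τ j, h.memR j⟩ : ↥(⨅ i, A i)) ∉ m) :
    i = j := by
  by_contra hij
  have hprime := hm.isPrime
  let L : Subring K :=
    { carrier := {x | ∃ σ : ↥(⨅ i, A i), σ ∉ m ∧ (σ : K) * x ∈ ⨅ i, A i}
      mul_mem' := by
        rintro x x' ⟨σ, hσ, hx⟩ ⟨σ', hσ', hx'⟩
        refine ⟨σ * σ', fun hc => ?_, ?_⟩
        · rcases hprime.mem_or_mem hc with hc | hc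
          · exact hσ hc
          · exact hσ' hc
        · change ((σ : K) * (σ' : K)) * (x * x') ∈ _
          have : ((σ : K) * (σ' : K)) * (x * x') = ((σ : K) * x) * ((σ' : K) * x') := by ring
          rw [this]; exact Subring.mul_mem _ hx hx'
      one_mem' := ⟨1, (Ideal.ne_top_iff_one m).mp hm.ne_top, by
        change (1 : K) * 1 ∈ _
        rw [mul_one]; exact Subring.one_mem _⟩
      add_mem' := by
        rintro x x' ⟨σ, hσ, hx⟩ ⟨σ', hσ', hx'⟩
        refine ⟨σ * σ', fun hc => ?_, ?_⟩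
        · rcases hprime.mem_or_mem hc with hc | hc
          · exact hσ hc
          · exact hσ' hc
        · change ((σ : K) * (σ' : K)) * (x + x') ∈ _
          have : ((σ : K) * (σ' : K)) * (x + x') =
              (σ' : K) * ((σ : K) * x) + (σ : K) * ((σ' : K) * x') := by ring
          rw [this]
          exact Subring.add_mem _ (Subring.mul_mem _ σ'.2 hx) (Subring.mul_mem _ σ.2 hx')
      zero_mem' := ⟨1, (Ideal.ne_top_iff_one m).mp hm.ne_top, by
        change (1 : K) * 0 ∈ _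
        rw [mul_zero]; exact Subring.zero_mem _⟩
      neg_mem' := by
        rintro x ⟨σ, hσ, hx⟩
        refine ⟨σ, hσ, ?_⟩
        rw [mul_neg]; exact Subring.neg_mem _ hx }
  have hL : ∀ k : Fin r, (⟨τ k, h.memR k⟩ : ↥(⨅ i, A i)) ∉ m → A k ≤ L := by
    intro k hk a ha
    obtain ⟨n, hn⟩ := h.pow_mul_mem hd k a ha
    refine ⟨⟨τ k, h.memR k⟩ ^ n, fun hc => hk (hprime.mem_of_pow_mem n hc), ?_⟩
    change (τ k) ^ n * a ∈ _
    rw [mul_comm]; exact hn
  have htop : A i ⊔ A j ≤ L := sup_le (hL i hi) (hL j hj)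
  rw [hgen i j hij] at htop
  have hm0 := Ring.ne_bot_of_isMaximal_of_not_isField hm (h.not_isField hd hr hf)
  obtain ⟨x, hxm, hx0⟩ := Submodule.exists_mem_ne_zero_of_ne_bot hm0
  have hx0' : (x : K) ≠ 0 := fun h0 => hx0 (Subtype.ext h0)
  obtain ⟨σ, hσ, hσx⟩ := htop (Subring.mem_top (x : K)⁻¹)
  apply hσ
  have : σ = ⟨_, hσx⟩ * x := by
    apply Subtype.ext
    change (σ : K) = (σ : K) * (x : K)⁻¹ * (x : K)
    rw [mul_assoc, inv_mul_cancel₀ hx0', mul_one]
  rw [this]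
  exact m.mul_mem_left _ hxm


end Groth.Agent.H4.GlueDVR3
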