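import Mathlib
import Groth.Agent.Lib.Helper5.Glue.G
import Groth.Agent.Lib.Lead.QC.RestrictOpen
import Groth.Agent.Lib.Lead.QC.Disjoint
import Groth.Agent.Lib.Lead.QC.TensorDesc
import Groth.Agent.Lib.Lead.QC.TensorComm

set_option autoImplicit false
set_option linter.unusedSectionVars false
set_option linter.unusedVariables false
set_option linter.style.haveILetI false
universe u
open CategoryTheory CategoryTheory.Limits AlgebraicGeometry TopologicalSpace Opposite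

namespace Groth.Agent.H4.GlueDisj

open Groth.Agent.LD Groth.Agent.LD.QC

variable {Z X₁ X₂ : Scheme.{u}} (j₁ : X₁ ⟶ Z) (j₂ : X₂ ⟶ Z) [IsOpenImmersion j₁] [IsOpenImmersion j₂]

/-- a module which is trivial on both pieces of a disjoint open cover is trivial. -/
theorem nonempty_unit_iso_of_disjoint_cover
    (hd : j₁.opensRange ⊓ j₂.opensRange = ⊥) (hc : j₁.opensRange ⊔ j₂.opensRange = ⊤)
    (N : Z.Modules) (a₁ : unitMod X₁ ≅ N.restrict j₁) (a₂ : unitMod X₂ ≅ N.restrict j₂) :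
    Nonempty (unitMod Z ≅ N) := by
  have hg₁ : CohB1.genLocus (N.restrict j₁) a₁.hom = ⊤ := by
    have := genLocus_comp_iso (𝟙 (unitMod X₁)) a₁
    rw [Category.id_comp] at this
    rw [this, genLocus_id]
  have hg₂ : CohB1.genLocus (N.restrict j₂) a₂.hom = ⊤ := by
    have := genLocus_comp_iso (𝟙 (unitMod X₂)) a₂
    rw [Category.id_comp] at this
    rw [this, genLocus_id]
  have hb₁ : IsBasisOver (N.restrict j₁) ⊤ (SecTwist.val a₁.hom ⊤) :=
    (le_genLocus_iff_isBasisOver _ _ _).mp hg₁.ge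
  have hb₂ : IsBasisOver (N.restrict j₂) ⊤ (SecTwist.val a₂.hom ⊤) :=
    (le_genLocus_iff_isBasisOver _ _ _).mp hg₂.ge
  let e₁ : Γ(N, j₁ ''ᵁ ⊤) := SecTwist.val a₁.hom ⊤
  let e₂ : Γ(N, j₂ ''ᵁ ⊤) := SecTwist.val a₂.hom ⊤
  have hB₁ : IsBasisOver N (j₁ ''ᵁ ⊤) e₁ := (isBasisOver_restrict_iff j₁ N ⊤ e₁).mp hb₁
  have hB₂ : IsBasisOver N (j₂ ''ᵁ ⊤) e₂ := (isBasisOver_restrict_iff j₂ N ⊤ e₂).mp hb₂
  have hbot : (j₁ ''ᵁ ⊤) ⊓ (j₂ ''ᵁ ⊤) = ⊥ := by
    rw [Scheme.Hom.image_top_eq_opensRange, Scheme.Hom.image_top_eq_opensRange, hd]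
  obtain ⟨z, hz₁, hz₂⟩ := glue2 N e₁ e₂ (eq_of_eq_bot N hbot _ _)
  have htop : (⊤ : Z.Opens) ≤ (j₁ ''ᵁ ⊤) ⊔ (j₂ ''ᵁ ⊤) := by
    rw [Scheme.Hom.image_top_eq_opensRange, Scheme.Hom.image_top_eq_opensRange, hc]
  let t : Γ(N, ⊤) := N.presheaf.map (homOfLE htop).op z
  let s : unitMod Z ⟶ N := homOfSection N t
  have hs₁ : SecTwist.val s (j₁ ''ᵁ ⊤) = e₁ := by
    rw [val_homOfSection]
    change N.presheaf.map _ (N.presheaf.map _ z) = _
    rw [res_res, ← hz₁]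
  have hs₂ : SecTwist.val s (j₂ ''ᵁ ⊤) = e₂ := by
    rw [val_homOfSection]
    change N.presheaf.map _ (N.presheaf.map _ z) = _
    rw [res_res, ← hz₂]
  have h1 : (j₁ ''ᵁ ⊤) ≤ CohB1.genLocus N s := by
    rw [le_genLocus_iff_isBasisOver, hs₁]; exact hB₁
  have h2 : (j₂ ''ᵁ ⊤) ≤ CohB1.genLocus N s := by
    rw [le_genLocus_iff_isBasisOver, hs₂]; exact hB₂
  have hall : CohB1.genLocus N s = ⊤ := top_le_iff.mp (htop.trans (sup_le h1 h2))
  haveI : IsIso s := Groth.Agent.H5.Glue.isIso_of_genLocus_eq_top s hall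
  exact ⟨asIso s⟩

/-- invertible modules which are isomorphic on both pieces of a disjoint open cover are
isomorphic. -/
theorem nonempty_iso_of_disjoint_cover
    (hd : j₁.opensRange ⊓ j₂.opensRange = ⊥) (hc : j₁.opensRange ⊔ j₂.opensRange = ⊤)
    (F G : Z.Modules) (hF : PicF.IsInvertible F) (hG : PicF.IsInvertible G)
    (a₁ : F.restrict j₁ ≅ G.restrict j₁) (a₂ : F.restrict j₂ ≅ G.restrict j₂) :
    Nonempty (F ≅ G) := by
  obtain ⟨F', hF', ⟨ε⟩⟩ := Groth.Agent.H5.Glue.exists_inverse F hF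
  haveI : F.IsQuasicoherent := qc_of_isInvertible F hF
  haveI : G.IsQuasicoherent := qc_of_isInvertible G hG
  haveI : F'.IsQuasicoherent := qc_of_isInvertible F' hF'
  let N := CohB1.tensorMod G F'
  have b : ∀ {X' : Scheme.{u}} (j : X' ⟶ Z) [IsOpenImmersion j] (a : F.restrict j ≅ G.restrict j),
      unitMod X' ≅ N.restrict j := fun j _ a =>
    (Scheme.Modules.restrictUnitIso j).symm ≪≫
      (Scheme.Modules.restrictFunctor j).mapIso ε.symm ≪≫
      (restrictTensorIso j F F').symm ≪≫ tensorIso' a (Iso.refl _) ≪≫ restrictTensorIso j G F'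
  obtain ⟨ν⟩ := nonempty_unit_iso_of_disjoint_cover j₁ j₂ hd hc N (b j₁ a₁) (b j₂ a₂)
  exact ⟨(unitorL F).symm ≪≫ tensorIso' ν (Iso.refl F) ≪≫ tensorAssoc G F' F ≪≫
    tensorIso' (Iso.refl G) (tensorCommGen F' F ≪≫ ε) ≪≫ SecTwist.unitorR G⟩

end Groth.Agent.H4.GlueDisj
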