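import Mathlib
import Groth.Prelude.Def_W4c6nonredquotmfGoodQuot
import Groth.Agent.H4.GdB
import Groth.Agent.H4.AbB

/-!
# Good quotients restrict to open subschemes of the quotient (helper4)
-/

set_option autoImplicit false
universe u
open CategoryTheory MonoidalCategory CartesianMonoidalCategory MonObj AlgebraicGeometry CategoryTheory.Limits
open Topology TopologicalSpace

namespace Groth.Agent.H4.GqA

open Groth.Agent.H4 Groth.Agent.H4.GdB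

section Top

variable {A A' B B' C C' : Type u} [TopologicalSpace A] [TopologicalSpace A'] [TopologicalSpace B]
  [TopologicalSpace B'] [TopologicalSpace C] [TopologicalSpace C']
  (f : A → B) (σ π : C → A) (f' : A' → B') (σ' π' : C' → A') (jB : B' → B) (jA : A' → A)
  (jC : C' → C)

/-- invariance of a subset under the pair `(σ, π)` -/
def Inv (W : Set A) : Prop := ∀ p, π p ∈ W → σ p ∈ W

lemma inv_image (hjA : Function.Injective jA) (c2 : ∀ z, jA (σ' z) = σ (jC z))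
    (c3 : ∀ z, jA (π' z) = π (jC z)) (r2 : Set.range jC = π ⁻¹' Set.range jA)
    {W : Set A'} (h : Inv σ' π' W) : Inv σ π (jA '' W) := by
  intro p hp
  have hr : p ∈ Set.range jC := by
    rw [r2]
    exact Set.image_subset_range _ _ hp
  obtain ⟨p', rfl⟩ := hr
  rw [← c3] at hp
  obtain ⟨w, hw, hwe⟩ := hp
  have : w = π' p' := hjA hwe
  subst this
  rw [← c2]
  exact ⟨σ' p', h p' hw, rfl⟩

lemma inv_closure (hπ : IsOpenMap π) (hσ : Continuous σ) {W₀ : Set A} (h : Inv σ π W₀) :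
    Inv σ π (closure W₀) := by
  intro p hp
  by_contra hcon
  have hN : IsOpen (σ ⁻¹' (closure W₀)ᶜ) := (isClosed_closure.isOpen_compl).preimage hσ
  have hpN : p ∈ σ ⁻¹' (closure W₀)ᶜ := hcon
  have hO : IsOpen (π '' (σ ⁻¹' (closure W₀)ᶜ)) := hπ _ hN
  have hmem : π p ∈ π '' (σ ⁻¹' (closure W₀)ᶜ) := ⟨p, hpN, rfl⟩
  obtain ⟨y, hy1, hy2⟩ := mem_closure_iff.mp hp _ hO hmem
  obtain ⟨p₁, hp₁, rfl⟩ := hy1
  exact hp₁ (subset_closure (h p₁ hy2))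

lemma closure_image_inter_range (hj : IsInducing jA) {W : Set A'} (hW : IsClosed W) :
    closure (jA '' W) ∩ Set.range jA = jA '' W := by
  have h1 : W = jA ⁻¹' closure (jA '' W) := by
    rw [← hj.closure_eq_preimage_closure_image, hW.closure_eq]
  conv_rhs => rw [h1]
  rw [Set.image_preimage_eq_inter_range]

theorem closed_restrict (hjA : IsInducing jA) (hjAi : Function.Injective jA)
    (hjB : Continuous jB) (hjBi : Function.Injective jB) (hσ : Continuous σ) (hπ : IsOpenMap π)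
    (c1 : ∀ x, jB (f' x) = f (jA x)) (c2 : ∀ z, jA (σ' z) = σ (jC z))
    (c3 : ∀ z, jA (π' z) = π (jC z)) (r1 : Set.range jA = f ⁻¹' Set.range jB)
    (r2 : Set.range jC = π ⁻¹' Set.range jA)
    (hcl : ∀ W : Set A, IsClosed W → Inv σ π W → IsClosed (f '' W))
    (W : Set A') (hW : IsClosed W) (hWi : Inv σ' π' W) : IsClosed (f' '' W) := by
  have hI : Inv σ π (closure (jA '' W)) :=
    inv_closure σ π hπ hσ (inv_image σ π σ' π' jA jC hjAi c2 c3 r2 hWi)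
  have hc := hcl _ isClosed_closure hI
  have e : f' '' W = jB ⁻¹' (f '' closure (jA '' W)) := by
    ext y'
    constructor
    · rintro ⟨w, hw, rfl⟩
      exact ⟨jA w, subset_closure ⟨w, hw, rfl⟩, (c1 w).symm⟩
    · rintro ⟨xb, hxb, hfx⟩
      have hr : xb ∈ Set.range jA := by rw [r1]; exact ⟨y', hfx.symm⟩
      have hm : xb ∈ jA '' W := by
        rw [← closure_image_inter_range jA hjA hW]; exact ⟨hxb, hr⟩
      obtain ⟨w, hw, rfl⟩ := hm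
      refine ⟨w, hw, hjBi ?_⟩
      rw [c1, hfx]
  rw [e]
  exact hc.preimage hjB

theorem inter_restrict (hjA : IsInducing jA) (hjAi : Function.Injective jA)
    (hjBi : Function.Injective jB) (hσ : Continuous σ) (hπ : IsOpenMap π)
    (c1 : ∀ x, jB (f' x) = f (jA x)) (c2 : ∀ z, jA (σ' z) = σ (jC z))
    (c3 : ∀ z, jA (π' z) = π (jC z)) (r1 : Set.range jA = f ⁻¹' Set.range jB)
    (r2 : Set.range jC = π ⁻¹' Set.range jA)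
    (hint : ∀ (J : Type u) (W : J → Set A), (∀ i, IsClosed (W i)) → (∀ i, Inv σ π (W i)) →
      f '' (⋂ i, W i) = ⋂ i, f '' (W i))
    (J : Type u) (W : J → Set A') (hW : ∀ i, IsClosed (W i)) (hWi : ∀ i, Inv σ' π' (W i)) :
    f' '' (⋂ i, W i) = ⋂ i, f' '' (W i) := by
  apply Set.Subset.antisymm (Set.image_iInter_subset _ _)
  intro y' hy'
  have hy'' : ∀ i, y' ∈ f' '' W i := Set.mem_iInter.mp hy'
  have key := hint J (fun i => closure (jA '' W i)) (fun i => isClosed_closure)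
    (fun i => inv_closure σ π hπ hσ (inv_image σ π σ' π' jA jC hjAi c2 c3 r2 (hWi i)))
  have hmem : jB y' ∈ ⋂ i, f '' closure (jA '' W i) := by
    apply Set.mem_iInter.mpr
    intro i
    obtain ⟨w, hw, rfl⟩ := hy'' i
    exact ⟨jA w, subset_closure ⟨w, hw, rfl⟩, (c1 w).symm⟩
  rw [← key] at hmem
  obtain ⟨xb, hxb, hfx⟩ := hmem
  have hr : xb ∈ Set.range jA := by rw [r1]; exact ⟨y', hfx.symm⟩
  obtain ⟨x', rfl⟩ := hr
  refine ⟨x', Set.mem_iInter.mpr fun i => ?_, hjBi (by rw [c1, hfx])⟩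
  have hm : jA x' ∈ jA '' W i := by
    rw [← closure_image_inter_range jA hjA (hW i)]
    exact ⟨Set.mem_iInter.mp hxb i, ⟨x', rfl⟩⟩
  obtain ⟨w, hw, hwe⟩ := hm
  rwa [← hjAi hwe]

end Top

section Res

variable {X Y Z X' Y' Z' : Scheme.{u}} (f : X ⟶ Y) (σ π : Z ⟶ X) (f' : X' ⟶ Y') (σ' π' : Z' ⟶ X')
  (jY : Y' ⟶ Y) (jX : X' ⟶ X) (jZ : Z' ⟶ Z)

lemma isIso_appLE_of_eq {A B : Scheme.{u}} (j : A ⟶ B) [IsOpenImmersion j] (W : A.Opens)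
    (W₀ : B.Opens) (h : j ''ᵁ W = W₀) (e : W ≤ j ⁻¹ᵁ W₀) : IsIso (j.appLE W₀ W e) := by
  subst h
  rw [← Scheme.Hom.appIso_hom']
  infer_instance

lemma range_fst_of_isPullback {P A B D : Scheme.{u}} {fst : P ⟶ A} {snd : P ⟶ B} {g₁ : A ⟶ D}
    {g₂ : B ⟶ D} (h : IsPullback fst snd g₁ g₂) : Set.range fst = g₁ ⁻¹' Set.range g₂ := by
  apply Set.Subset.antisymm
  · rintro _ ⟨p, rfl⟩
    exact ⟨snd p, (congrArg (fun k : P ⟶ D => k p) h.w).symm⟩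
  · rintro x ⟨y, hy⟩
    obtain ⟨z, hz1, hz2⟩ := Scheme.Pullback.exists_preimage_pullback (f := g₁) (g := g₂) x y hy.symm
    refine ⟨h.isoPullback.inv z, ?_⟩
    rw [← Scheme.Hom.comp_apply, IsPullback.isoPullback_inv_fst, hz1]

theorem sec_restrict [IsOpenImmersion jY] [IsOpenImmersion jX] [IsOpenImmersion jZ]
    (c1 : f' ≫ jY = jX ≫ f) (c2 : σ' ≫ jX = jZ ≫ σ) (c3 : π' ≫ jX = jZ ≫ π)
    (V : Y'.Opens)
    (d1 : jX ''ᵁ (f' ⁻¹ᵁ V) = f ⁻¹ᵁ (jY ''ᵁ V))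
    (d2 : jZ ''ᵁ (σ' ⁻¹ᵁ (f' ⁻¹ᵁ V) ⊓ π' ⁻¹ᵁ (f' ⁻¹ᵁ V)) =
      σ ⁻¹ᵁ (f ⁻¹ᵁ (jY ''ᵁ V)) ⊓ π ⁻¹ᵁ (f ⁻¹ᵁ (jY ''ᵁ V)))
    (hσπ' : σ' ≫ f' = π' ≫ f')
    (hsec : Function.Injective (f.app (jY ''ᵁ V)).hom ∧
      Set.range (f.app (jY ''ᵁ V)).hom = {s | InvAt f σ π (jY ''ᵁ V) s}) :
    Function.Injective (f'.app V).hom ∧ Set.range (f'.app V).hom = {s | InvAt f' σ' π' V s} := by
  have eY : V ≤ jY ⁻¹ᵁ (jY ''ᵁ V) := (jY.preimage_image_eq V).ge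
  have eX : f' ⁻¹ᵁ V ≤ jX ⁻¹ᵁ (f ⁻¹ᵁ (jY ''ᵁ V)) := by
    rw [← d1]; exact (jX.preimage_image_eq _).ge
  have eZ : σ' ⁻¹ᵁ (f' ⁻¹ᵁ V) ⊓ π' ⁻¹ᵁ (f' ⁻¹ᵁ V) ≤
      jZ ⁻¹ᵁ (σ ⁻¹ᵁ (f ⁻¹ᵁ (jY ''ᵁ V)) ⊓ π ⁻¹ᵁ (f ⁻¹ᵁ (jY ''ᵁ V))) := by
    rw [← d2]; exact (jZ.preimage_image_eq _).ge
  haveI iY : IsIso (jY.appLE (jY ''ᵁ V) V eY) := isIso_appLE_of_eq jY V _ rfl eY
  haveI iX : IsIso (jX.appLE (f ⁻¹ᵁ (jY ''ᵁ V)) (f' ⁻¹ᵁ V) eX) :=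
    isIso_appLE_of_eq jX _ _ d1 eX
  haveI iZ : IsIso (jZ.appLE (σ ⁻¹ᵁ (f ⁻¹ᵁ (jY ''ᵁ V)) ⊓ π ⁻¹ᵁ (f ⁻¹ᵁ (jY ''ᵁ V)))
      (σ' ⁻¹ᵁ (f' ⁻¹ᵁ V) ⊓ π' ⁻¹ᵁ (f' ⁻¹ᵁ V)) eZ) := isIso_appLE_of_eq jZ _ _ d2 eZ
  have bY := ConcreteCategory.bijective_of_isIso (jY.appLE (jY ''ᵁ V) V eY)
  have bX := ConcreteCategory.bijective_of_isIso
    (jX.appLE (f ⁻¹ᵁ (jY ''ᵁ V)) (f' ⁻¹ᵁ V) eX)
  have bZ := ConcreteCategory.bijective_of_isIso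
    (jZ.appLE (σ ⁻¹ᵁ (f ⁻¹ᵁ (jY ''ᵁ V)) ⊓ π ⁻¹ᵁ (f ⁻¹ᵁ (jY ''ᵁ V)))
      (σ' ⁻¹ᵁ (f' ⁻¹ᵁ V) ⊓ π' ⁻¹ᵁ (f' ⁻¹ᵁ V)) eZ)
  have k1 : f.app (jY ''ᵁ V) ≫ jX.appLE (f ⁻¹ᵁ (jY ''ᵁ V)) (f' ⁻¹ᵁ V) eX =
      jY.appLE (jY ''ᵁ V) V eY ≫ f'.app V := by
    rw [Scheme.Hom.app_eq_appLE, Scheme.Hom.app_eq_appLE, Scheme.Hom.appLE_comp_appLE,
      Scheme.Hom.appLE_comp_appLE]
    exact (appLE_congr'' c1 _ _ _).symm
  have k2 : σ.appLE (f ⁻¹ᵁ (jY ''ᵁ V))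
        (σ ⁻¹ᵁ (f ⁻¹ᵁ (jY ''ᵁ V)) ⊓ π ⁻¹ᵁ (f ⁻¹ᵁ (jY ''ᵁ V))) inf_le_left ≫
      jZ.appLE (σ ⁻¹ᵁ (f ⁻¹ᵁ (jY ''ᵁ V)) ⊓ π ⁻¹ᵁ (f ⁻¹ᵁ (jY ''ᵁ V)))
        (σ' ⁻¹ᵁ (f' ⁻¹ᵁ V) ⊓ π' ⁻¹ᵁ (f' ⁻¹ᵁ V)) eZ =
      jX.appLE (f ⁻¹ᵁ (jY ''ᵁ V)) (f' ⁻¹ᵁ V) eX ≫
        σ'.appLE (f' ⁻¹ᵁ V) (σ' ⁻¹ᵁ (f' ⁻¹ᵁ V) ⊓ π' ⁻¹ᵁ (f' ⁻¹ᵁ V)) inf_le_left := by
    rw [Scheme.Hom.appLE_comp_appLE, Scheme.Hom.appLE_comp_appLE]
    exact (appLE_congr'' c2 _ _ _).symm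
  have k3 : π.appLE (f ⁻¹ᵁ (jY ''ᵁ V))
        (σ ⁻¹ᵁ (f ⁻¹ᵁ (jY ''ᵁ V)) ⊓ π ⁻¹ᵁ (f ⁻¹ᵁ (jY ''ᵁ V))) inf_le_right ≫
      jZ.appLE (σ ⁻¹ᵁ (f ⁻¹ᵁ (jY ''ᵁ V)) ⊓ π ⁻¹ᵁ (f ⁻¹ᵁ (jY ''ᵁ V)))
        (σ' ⁻¹ᵁ (f' ⁻¹ᵁ V) ⊓ π' ⁻¹ᵁ (f' ⁻¹ᵁ V)) eZ =
      jX.appLE (f ⁻¹ᵁ (jY ''ᵁ V)) (f' ⁻¹ᵁ V) eX ≫
        π'.appLE (f' ⁻¹ᵁ V) (σ' ⁻¹ᵁ (f' ⁻¹ᵁ V) ⊓ π' ⁻¹ᵁ (f' ⁻¹ᵁ V)) inf_le_right := by
    rw [Scheme.Hom.appLE_comp_appLE, Scheme.Hom.appLE_comp_appLE]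
    exact (appLE_congr'' c3 _ _ _).symm
  constructor
  · intro t₁ t₂ ht
    obtain ⟨u₁, rfl⟩ := bY.2 t₁
    obtain ⟨u₂, rfl⟩ := bY.2 t₂
    have h1 := congr($(k1).hom u₁)
    have h2 := congr($(k1).hom u₂)
    have h3 : (jX.appLE (f ⁻¹ᵁ (jY ''ᵁ V)) (f' ⁻¹ᵁ V) eX).hom ((f.app (jY ''ᵁ V)).hom u₁) =
        (jX.appLE (f ⁻¹ᵁ (jY ''ᵁ V)) (f' ⁻¹ᵁ V) eX).hom ((f.app (jY ''ᵁ V)).hom u₂) :=
      h1.trans (ht.trans h2.symm)
    have h4 := hsec.1 (bX.1 h3)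
    rw [h4]
  · apply Set.Subset.antisymm
    · rintro _ ⟨t, rfl⟩
      exact invAt_app f' σ' π' hσπ' V t
    · intro s hs
      have hs' : InvAt f' σ' π' V s := hs
      obtain ⟨s₀, rfl⟩ := bX.2 s
      have hinv0 : InvAt f σ π (jY ''ᵁ V) s₀ := by
        have h2 := congr($(k2).hom s₀)
        have h3 := congr($(k3).hom s₀)
        exact bZ.1 (h2.trans (hs'.trans h3.symm))
      obtain ⟨t₀, ht₀⟩ : s₀ ∈ Set.range (f.app (jY ''ᵁ V)).hom := by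
        rw [hsec.2]; exact hinv0
      refine ⟨(jY.appLE (jY ''ᵁ V) V eY).hom t₀, ?_⟩
      have h1 := congr($(k1).hom t₀)
      rw [← ht₀]
      exact h1.symm

end Res

section Main

variable {S : Scheme.{u}} {G X Y XU YU : Over S} [GrpObj G]
  (a : AlgGrp.Action G X) (φ : X ⟶ Y) (aU : AlgGrp.Action G XU)
  (jU : XU ⟶ X) (jY : YU ⟶ Y) (φU : XU ⟶ YU)

theorem goodQuot_restrict [IsOpenImmersion jU.left] [IsOpenImmersion jY.left]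
    (haU : aU.act ≫ jU = (G ◁ jU) ≫ a.act)
    (H : IsPullback φU.left jU.left jY.left φ.left)
    (hopen : IsOpenMap (snd G X).left.base) (h : NRQuot.IsGoodQuot a φ) :
    NRQuot.IsGoodQuot aU φU := by
  have c1 : φU.left ≫ jY.left = jU.left ≫ φ.left := H.w
  have c2 : aU.act.left ≫ jU.left = (G ◁ jU).left ≫ a.act.left := by
    rw [← Over.comp_left, ← Over.comp_left, haU]
  have c3 : (snd G XU).left ≫ jU.left = (G ◁ jU).left ≫ (snd G X).left := by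
    rw [← Over.comp_left, ← Over.comp_left, whiskerLeft_snd]
  have sqW : IsPullback (G ◁ jU).left (snd G XU).left (snd G X).left jU.left :=
    (AbB.isPullback_whiskerLeft_snd jU G).map (Over.forget S)
  haveI : IsOpenImmersion (G ◁ jU).left :=
    MorphismProperty.of_isPullback (P := @IsOpenImmersion) sqW.flip inferInstance
  have hinv : a.act ≫ φ = snd G X ≫ φ := h.inv
  haveI : Mono jY := (Over.forget S).mono_of_mono_map (inferInstance : Mono jY.left)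
  have hsqO : φU ≫ jY = jU ≫ φ := Over.OverMorphism.ext c1
  have hinvU : aU.act ≫ φU = snd G XU ≫ φU := by
    rw [← cancel_mono jY]
    calc (aU.act ≫ φU) ≫ jY = aU.act ≫ jU ≫ φ := by rw [Category.assoc, hsqO]
      _ = (G ◁ jU) ≫ a.act ≫ φ := by rw [← Category.assoc, haU, Category.assoc]
      _ = (G ◁ jU) ≫ snd G X ≫ φ := by rw [hinv]
      _ = snd G XU ≫ jU ≫ φ := by rw [← Category.assoc, whiskerLeft_snd, Category.assoc]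
      _ = (snd G XU ≫ φU) ≫ jY := by rw [← hsqO, Category.assoc]
  have hinvU' : GIT.IsInvariant aU φU := hinvU
  have r1 : Set.range jU.left = φ.left ⁻¹' Set.range jY.left := range_fst_of_isPullback H.flip
  have r2 : Set.range (G ◁ jU).left = (snd G X).left ⁻¹' Set.range jU.left :=
    range_fst_of_isPullback sqW
  have p1 : ∀ x, jY.left (φU.left x) = φ.left (jU.left x) := fun x =>
    congrArg (fun g : XU.left ⟶ Y.left => g x) c1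
  have p2 : ∀ z, jU.left (aU.act.left z) = a.act.left ((G ◁ jU).left z) := fun z =>
    congrArg (fun g : (G ⊗ XU).left ⟶ X.left => g z) c2
  have p3 : ∀ z, jU.left ((snd G XU).left z) = (snd G X).left ((G ◁ jU).left z) := fun z =>
    congrArg (fun g : (G ⊗ XU).left ⟶ X.left => g z) c3
  have d1 : ∀ V : YU.left.Opens, jU.left ''ᵁ (φU.left ⁻¹ᵁ V) = φ.left ⁻¹ᵁ (jY.left ''ᵁ V) :=
    fun V => IsOpenImmersion.image_preimage_eq_preimage_image_of_isPullback H V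
  have d2 : ∀ W : XU.left.Opens,
      (G ◁ jU).left ''ᵁ (aU.act.left ⁻¹ᵁ W ⊓ (snd G XU).left ⁻¹ᵁ W) =
        a.act.left ⁻¹ᵁ (jU.left ''ᵁ W) ⊓ (snd G X).left ⁻¹ᵁ (jU.left ''ᵁ W) := by
    intro W
    apply TopologicalSpace.Opens.ext
    show (G ◁ jU).left '' (aU.act.left ⁻¹' W ∩ (snd G XU).left ⁻¹' W) =
      a.act.left ⁻¹' (jU.left '' W) ∩ (snd G X).left ⁻¹' (jU.left '' W)
    ext z
    constructor
    · rintro ⟨z', ⟨hz1, hz2⟩, rfl⟩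
      exact ⟨⟨aU.act.left z', hz1, p2 z'⟩, ⟨(snd G XU).left z', hz2, p3 z'⟩⟩
    · rintro ⟨⟨x1, hx1, hx1e⟩, ⟨x2, hx2, hx2e⟩⟩
      have hr : z ∈ Set.range (G ◁ jU).left := by rw [r2]; exact ⟨x2, hx2e⟩
      obtain ⟨z', rfl⟩ := hr
      have e1 : x1 = aU.act.left z' := jU.left.isOpenEmbedding.injective (hx1e.trans (p2 z').symm)
      have e2 : x2 = (snd G XU).left z' :=
        jU.left.isOpenEmbedding.injective (hx2e.trans (p3 z').symm)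
      subst e1
      subst e2
      exact ⟨z', ⟨hx1, hx2⟩, rfl⟩
  refine ⟨MorphismProperty.of_isPullback (P := @IsAffineHom) H.flip h.affine, hinvU', ?_, ?_, ?_⟩
  · intro V
    have hd2 := d2 (φU.left ⁻¹ᵁ V)
    rw [d1 V] at hd2
    exact sec_restrict φ.left a.act.left (snd G X).left φU.left aU.act.left (snd G XU).left
      jY.left jU.left (G ◁ jU).left c1 c2 c3 V (d1 V) hd2 hinvU'.left (h.sections (jY.left ''ᵁ V))
  · intro W hW hWi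
    exact closed_restrict (φ.left : X.left → Y.left) a.act.left (snd G X).left φU.left
      aU.act.left (snd G XU).left jY.left jU.left (G ◁ jU).left
      jU.left.isOpenEmbedding.isInducing jU.left.isOpenEmbedding.injective jY.left.continuous
      jY.left.isOpenEmbedding.injective a.act.left.continuous hopen p1 p2 p3 r1 r2 h.closed W hW hWi
  · intro J W hW hWi
    exact inter_restrict (φ.left : X.left → Y.left) a.act.left (snd G X).left φU.left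
      aU.act.left (snd G XU).left jY.left jU.left (G ◁ jU).left
      jU.left.isOpenEmbedding.isInducing jU.left.isOpenEmbedding.injective
      jY.left.isOpenEmbedding.injective a.act.left.continuous hopen p1 p2 p3 r1 r2 h.inter J W hW hWi

end Main

end Groth.Agent.H4.GqA
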