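import Mathlib
import Groth.Statements.S18505
import Groth.Agent.Lib.Helper5.AG.NormalAffine

set_option autoImplicit false
universe u
open CategoryTheory CategoryTheory.Limits AlgebraicGeometry TopologicalSpace Opposite
  MonoidalCategory CartesianMonoidalCategory

noncomputable section

namespace Groth.Agent.H4.GqnA

section L1

variable {X : Scheme.{u}} [IsIntegral X]

/-- On a normal integral scheme the sections over a nonempty open are integrally closed in the
function field. -/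
theorem exists_section_of_isIntegral_open (hX : Pi1.IsNormalScheme X) (V : X.Opens) [Nonempty V]
    (x : X.functionField) (hx : IsIntegral Γ(X, V) x) :
    ∃ t : Γ(X, V), X.germToFunctionField V t = x := by
  classical
  have hgen : ∀ V : X.Opens, Nonempty V → genericPoint X ∈ V := fun V h =>
    ((genericPoint_spec X).mem_open_set_iff V.isOpen).mpr (by simpa using h)
  let ι := {V' : X.Opens // IsAffineOpen V' ∧ Nonempty V' ∧ V' ≤ V}
  let U : ι → X.Opens := fun i => i.1
  have hint : ∀ i : ι, (haveI : Nonempty i.1 := i.2.2.1; IsIntegral Γ(X, i.1) x) := by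
    intro i
    haveI : Nonempty i.1 := i.2.2.1
    obtain ⟨p, hpm, hp0⟩ := hx
    refine ⟨p.map (X.presheaf.map (homOfLE i.2.2.2).op).hom, hpm.map _, ?_⟩
    rw [Polynomial.eval₂_map]
    have hcomp : (algebraMap Γ(X, i.1) X.functionField).comp
        (X.presheaf.map (homOfLE i.2.2.2).op).hom = algebraMap Γ(X, V) X.functionField := by
      ext s
      exact TopCat.Presheaf.germ_res_apply X.presheaf (homOfLE i.2.2.2) (genericPoint X)
        (hgen i.1 i.2.2.1) s
    rw [hcomp]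
    exact hp0
  have hloc : ∀ i : ι, ∃ y : Γ(X, i.1),
      (haveI : Nonempty i.1 := i.2.2.1; X.germToFunctionField i.1 y) = x := by
    intro i
    haveI : Nonempty i.1 := i.2.2.1
    haveI : IsIntegrallyClosed Γ(X, i.1) :=
      (Groth.Agent.H5.AG.isNormalScheme_iff_affine X).1 hX i.1 i.2.1
    haveI := functionField_isFractionRing_of_isAffineOpen X i.1 i.2.1
    exact IsIntegrallyClosed.isIntegral_iff.1 (hint i)
  choose sf hsf using hloc
  have hcompat : TopCat.Presheaf.IsCompatible X.sheaf.1 U sf := by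
    intro i j
    have hi := hgen i.1 i.2.2.1
    have hj := hgen j.1 j.2.2.1
    have hij : genericPoint X ∈ U i ⊓ U j := ⟨hi, hj⟩
    apply germ_injective_of_isIntegral X (genericPoint X) hij
    have h1 := TopCat.Presheaf.germ_res_apply X.presheaf (Opens.infLELeft (U i) (U j))
      (genericPoint X) hij (sf i)
    have h2 := TopCat.Presheaf.germ_res_apply X.presheaf (Opens.infLERight (U i) (U j))
      (genericPoint X) hij (sf j)
    refine h1.trans (Eq.trans ?_ h2.symm)
    exact (hsf i).trans (hsf j).symm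
  have hcover : V ≤ iSup U := by
    intro y hy
    obtain ⟨_, ⟨V', hV', rfl⟩, hyV', hV'V⟩ :=
      X.isBasis_affineOpens.exists_subset_of_mem_open hy V.isOpen
    exact Opens.mem_iSup.2 ⟨⟨V', hV', ⟨⟨y, hyV'⟩⟩, fun a ha => hV'V ha⟩, hyV'⟩
  obtain ⟨gl, gl_spec, -⟩ :
      ∃ gl : X.presheaf.obj (op V),
        (∀ i : ι, (X.sheaf.1.map (homOfLE (i.2.2.2 : U i ≤ V)).op) gl = sf i) ∧ _ :=
    X.sheaf.existsUnique_gluing' U V (fun i => homOfLE i.2.2.2) hcover sf hcompat
  refine ⟨gl, ?_⟩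
  obtain ⟨⟨y, hy⟩⟩ : Nonempty V := inferInstance
  obtain ⟨_, ⟨V', hV', rfl⟩, hyV', hV'V⟩ :=
    X.isBasis_affineOpens.exists_subset_of_mem_open hy V.isOpen
  let i : ι := ⟨V', hV', ⟨⟨y, hyV'⟩⟩, fun a ha => hV'V ha⟩
  have h3 := TopCat.Presheaf.germ_res_apply X.presheaf (homOfLE (i.2.2.2 : U i ≤ V))
    (genericPoint X) (hgen i.1 i.2.2.1) gl
  have h4 := gl_spec i
  refine h3.symm.trans ?_
  rw [show (X.presheaf.map (homOfLE (i.2.2.2 : U i ≤ V)).op) gl = sf i from h4]
  exact hsf i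

end L1

section Int

/-- the target of a surjective morphism from an integral scheme which is injective on sections is
integral -/
theorem isIntegral_of_surjective_of_injective {X Y : Scheme.{u}} [IsIntegral X] (f : X ⟶ Y)
    (hs : Function.Surjective f.base) (hi : ∀ U : Y.Opens, Function.Injective (f.app U)) :
    IsIntegral Y := by
  haveI : Nonempty Y := (inferInstance : Nonempty X).map f.base
  haveI : IrreducibleSpace Y :=
    { isPreirreducible_univ := by
        have h1 := (PreirreducibleSpace.isPreirreducible_univ (X := X)).image f.base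
          f.continuous.continuousOn
        rwa [Set.image_univ_of_surjective hs] at h1
      toNonempty := inferInstance }
  haveI : IsReduced Y := ⟨fun U => isReduced_of_injective (f.app U).hom (hi U)⟩
  exact isIntegral_of_irreducibleSpace_of_isReduced Y

end Int

section NZD

/-- pulling back a nonzero section of an integral scheme along a flat morphism gives a
nonzerodivisor -/
theorem eq_zero_of_mul_appLE_eq_zero {Z X : Scheme.{u}} [IsIntegral X] (p : Z ⟶ X) [Flat p]
    (V : X.Opens) (W : Z.Opens) (hWV : W ≤ p ⁻¹ᵁ V) (e : Γ(X, V)) (he : e ≠ 0) (s : Γ(Z, W))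
    (hs : s * p.appLE V W hWV e = 0) : s = 0 := by
  apply TopCat.Presheaf.section_ext Z.sheaf W s 0
  intro w hw
  have hx : p.base w ∈ V := hWV hw
  have h1 : Z.presheaf.germ W w hw (p.appLE V W hWV e) =
      p.stalkMap w (X.presheaf.germ V (p.base w) hx e) := by
    rw [Scheme.Hom.germ_stalkMap_apply]
    exact TopCat.Presheaf.germ_res_apply Z.presheaf (homOfLE hWV) w hw (p.app V e)
  have h2 : X.presheaf.germ V (p.base w) hx e ≠ 0 := by
    intro h0
    apply he
    apply germ_injective_of_isIntegral X (p.base w) hx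
    rw [h0, map_zero]
  have hflat := Flat.stalkMap p w
  letI := (p.stalkMap w).hom.toAlgebra
  haveI : Module.Flat (X.presheaf.stalk (p.base w)) (Z.presheaf.stalk w) := hflat
  have hreg : IsSMulRegular (Z.presheaf.stalk w) (X.presheaf.germ V (p.base w) hx e) :=
    Module.Flat.isSMulRegular_of_nonZeroDivisors (mem_nonZeroDivisors_of_ne_zero h2)
  have h3 : Z.presheaf.germ W w hw s * Z.presheaf.germ W w hw (p.appLE V W hWV e) = 0 := by
    rw [← map_mul, hs, map_zero]
  rw [map_zero]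
  rw [h1] at h3
  have h5 : (X.presheaf.germ V (p.base w) hx e) • (Z.presheaf.germ W w hw s) =
      (X.presheaf.germ V (p.base w) hx e) • (0 : Z.presheaf.stalk w) := by
    rw [smul_zero, Algebra.smul_def, mul_comm]
    exact h3
  exact hreg h5

end NZD

section Main

variable {k : Type u} [Field k] {G X Y : Over (Spec (CommRingCat.of k))} [GrpObj G]

theorem flat_snd_left : Flat (snd G X).left := by
  haveI : Subsingleton ↥(Spec (CommRingCat.of k)) :=
    inferInstanceAs (Subsingleton (PrimeSpectrum k))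
  haveI : Flat G.hom := inferInstance
  show Flat (pullback.snd G.hom X.hom)
  infer_instance

theorem isInvSection_of_mul_eq [IsIntegral X.left] (a : AlgGrp.Action G X) (φ : X ⟶ Y)
    (U : Y.left.Opens) (c e n : Γ(X.left, φ.left ⁻¹ᵁ U)) (he0 : e ≠ 0) (hce : c * e = n)
    (he : GIT.IsInvSection a φ U e) (hn : GIT.IsInvSection a φ U n) :
    GIT.IsInvSection a φ U c := by
  unfold GIT.IsInvSection at he hn ⊢
  haveI := flat_snd_left (G := G) (X := X)
  have h1 : a.act.left.appLE (φ.left ⁻¹ᵁ U)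
      (a.act.left ⁻¹ᵁ (φ.left ⁻¹ᵁ U) ⊓ (snd G X).left ⁻¹ᵁ (φ.left ⁻¹ᵁ U)) inf_le_left c *
      (snd G X).left.appLE (φ.left ⁻¹ᵁ U)
      (a.act.left ⁻¹ᵁ (φ.left ⁻¹ᵁ U) ⊓ (snd G X).left ⁻¹ᵁ (φ.left ⁻¹ᵁ U)) inf_le_right e =
      a.act.left.appLE (φ.left ⁻¹ᵁ U)
      (a.act.left ⁻¹ᵁ (φ.left ⁻¹ᵁ U) ⊓ (snd G X).left ⁻¹ᵁ (φ.left ⁻¹ᵁ U)) inf_le_left n := by
    rw [← he, ← map_mul, hce]
  have h2 : (snd G X).left.appLE (φ.left ⁻¹ᵁ U)
      (a.act.left ⁻¹ᵁ (φ.left ⁻¹ᵁ U) ⊓ (snd G X).left ⁻¹ᵁ (φ.left ⁻¹ᵁ U)) inf_le_right c *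
      (snd G X).left.appLE (φ.left ⁻¹ᵁ U)
      (a.act.left ⁻¹ᵁ (φ.left ⁻¹ᵁ U) ⊓ (snd G X).left ⁻¹ᵁ (φ.left ⁻¹ᵁ U)) inf_le_right e =
      (snd G X).left.appLE (φ.left ⁻¹ᵁ U)
      (a.act.left ⁻¹ᵁ (φ.left ⁻¹ᵁ U) ⊓ (snd G X).left ⁻¹ᵁ (φ.left ⁻¹ᵁ U)) inf_le_right n := by
    rw [← map_mul, hce]
  have key : (a.act.left.appLE (φ.left ⁻¹ᵁ U)
      (a.act.left ⁻¹ᵁ (φ.left ⁻¹ᵁ U) ⊓ (snd G X).left ⁻¹ᵁ (φ.left ⁻¹ᵁ U)) inf_le_left c -
      (snd G X).left.appLE (φ.left ⁻¹ᵁ U)
      (a.act.left ⁻¹ᵁ (φ.left ⁻¹ᵁ U) ⊓ (snd G X).left ⁻¹ᵁ (φ.left ⁻¹ᵁ U)) inf_le_right c) *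
      (snd G X).left.appLE (φ.left ⁻¹ᵁ U)
      (a.act.left ⁻¹ᵁ (φ.left ⁻¹ᵁ U) ⊓ (snd G X).left ⁻¹ᵁ (φ.left ⁻¹ᵁ U)) inf_le_right e = 0 := by
    rw [sub_mul, h1, h2, hn, sub_self]
  exact sub_eq_zero.mp (eq_zero_of_mul_appLE_eq_zero (snd G X).left (φ.left ⁻¹ᵁ U) _ inf_le_right e
    he0 _ key)

theorem isIntegrallyClosed_sections [IsIntegral X.left] (hX : Pi1.IsNormalScheme X.left)
    [IsIntegral Y.left] (a : AlgGrp.Action G X) (φ : X ⟶ Y) (h : GIT.IsGeomQuot a φ)
    (U : Y.left.Opens) [Nonempty U] : IsIntegrallyClosed Γ(Y.left, U) := by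
  haveI hVne : Nonempty (φ.left ⁻¹ᵁ U) := by
    obtain ⟨⟨y, hy⟩⟩ := ‹Nonempty U›
    obtain ⟨x, rfl⟩ := h.surj y
    exact ⟨⟨x, hy⟩⟩
  have hf : Function.Injective (φ.left.app U).hom := (h.sections U).1
  have hιA : Function.Injective (X.left.germToFunctionField (φ.left ⁻¹ᵁ U)).hom :=
    X.left.germToFunctionField_injective _
  obtain ⟨g, hgdef⟩ : ∃ g : Γ(Y.left, U) →+* X.left.functionField,
      g = (X.left.germToFunctionField (φ.left ⁻¹ᵁ U)).hom.comp (φ.left.app U).hom := ⟨_, rfl⟩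
  have hg : Function.Injective g := by rw [hgdef]; exact hιA.comp hf
  rw [isIntegrallyClosed_iff (FractionRing Γ(Y.left, U))]
  intro x hx
  have hj := IsFractionRing.lift_algebraMap (K := FractionRing Γ(Y.left, U)) hg
  obtain ⟨p, hpm, hp0⟩ := hx
  have hz : IsIntegral Γ(X.left, φ.left ⁻¹ᵁ U) (IsFractionRing.lift hg x) := by
    refine ⟨p.map (φ.left.app U).hom, hpm.map _, ?_⟩
    rw [Polynomial.eval₂_map]
    have h1 := congrArg (IsFractionRing.lift hg) hp0
    rw [Polynomial.hom_eval₂, map_zero] at h1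
    have h2 : (IsFractionRing.lift hg).comp
        (algebraMap Γ(Y.left, U) (FractionRing Γ(Y.left, U))) =
        (algebraMap Γ(X.left, φ.left ⁻¹ᵁ U) X.left.functionField).comp (φ.left.app U).hom := by
      ext b
      rw [RingHom.comp_apply, hj, hgdef]
      rfl
    rw [h2] at h1
    exact h1
  obtain ⟨c, hc⟩ := exists_section_of_isIntegral_open hX (φ.left ⁻¹ᵁ U) _ hz
  obtain ⟨n, d, hd, hxnd⟩ := IsFractionRing.div_surjective (A := Γ(Y.left, U)) x
  have hd0 : d ≠ 0 := nonZeroDivisors.ne_zero hd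
  have hgd : g d ≠ 0 := fun h0 => hd0 (hg (h0.trans (map_zero g).symm))
  have hcd : c * (φ.left.app U).hom d = (φ.left.app U).hom n := by
    apply hιA
    rw [map_mul]
    have e1 : (X.left.germToFunctionField (φ.left ⁻¹ᵁ U)).hom c = IsFractionRing.lift hg x := hc
    have e2 : (X.left.germToFunctionField (φ.left ⁻¹ᵁ U)).hom ((φ.left.app U).hom d) = g d := by
      rw [hgdef]; rfl
    have e3 : (X.left.germToFunctionField (φ.left ⁻¹ᵁ U)).hom ((φ.left.app U).hom n) = g n := by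
      rw [hgdef]; rfl
    rw [e1, e2, e3, ← hxnd, map_div₀, hj, hj, div_mul_cancel₀ _ hgd]
  have hfd0 : (φ.left.app U).hom d ≠ 0 := fun h0 => hd0 (hf (h0.trans (map_zero _).symm))
  have hrange := (h.sections U).2
  have hinv_d : GIT.IsInvSection a φ U ((φ.left.app U).hom d) := by
    have h5 : (φ.left.app U).hom d ∈ Set.range (φ.left.app U) := ⟨d, rfl⟩
    rw [hrange] at h5
    exact h5
  have hinv_n : GIT.IsInvSection a φ U ((φ.left.app U).hom n) := by
    have h5 : (φ.left.app U).hom n ∈ Set.range (φ.left.app U) := ⟨n, rfl⟩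
    rw [hrange] at h5
    exact h5
  have hinv_c := isInvSection_of_mul_eq a φ U c _ _ hfd0 hcd hinv_d hinv_n
  have hcr : c ∈ Set.range (φ.left.app U) := by
    rw [hrange]
    exact hinv_c
  obtain ⟨b₀, hb₀⟩ := hcr
  refine ⟨b₀, ?_⟩
  have hbd : b₀ * d = n := by
    apply hf
    rw [map_mul]
    have h6 : (φ.left.app U).hom b₀ = c := hb₀
    rw [h6]
    exact hcd
  have hd' : algebraMap Γ(Y.left, U) (FractionRing Γ(Y.left, U)) d ≠ 0 := by
    intro h0
    exact hd0 ((IsFractionRing.injective _ _) (h0.trans (map_zero _).symm))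
  rw [← hxnd, ← hbd, map_mul, mul_div_assoc, div_self hd', mul_one]

/-- **S18505** -/
theorem main [IsIntegral X.left] (hX : Pi1.IsNormalScheme X.left)
    (a : AlgGrp.Action G X) (φ : X ⟶ Y) (h : GIT.IsGeomQuot a φ) :
    Pi1.IsNormalScheme Y.left := by
  haveI : IsIntegral Y.left :=
    isIntegral_of_surjective_of_injective φ.left h.surj (fun U => (h.sections U).1)
  rw [Groth.Agent.H5.AG.isNormalScheme_iff_affine]
  intro U _ _
  exact isIntegrallyClosed_sections hX a φ h U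

end Main

end Groth.Agent.H4.GqnA
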