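import Mathlib
import Groth.Agent.Lib.Helper2.ConeE

set_option autoImplicit false

namespace Groth.Agent.H4.GrEvPow

open CategoryTheory CategoryTheory.Limits AlgebraicGeometry HomogeneousLocalization

universe u

section Ring

variable {R A B : Type u} [CommRing R] [CommRing A] [Algebra R A]
  (𝒜 : ℕ → Submodule R A) [GradedAlgebra 𝒜] [CommRing B] [Algebra R B]
  (ℬ : ℕ → Submodule R B) [GradedAlgebra ℬ]

theorem irr_le_span (s : Finset B) (hs : Algebra.adjoin (ℬ 0) (s : Set B) = ⊤)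
    (hsn : ∀ i ∈ s, ∃ n, n ≠ 0 ∧ i ∈ ℬ n) :
    (HomogeneousIdeal.irrelevant ℬ).toIdeal ≤ Ideal.span (s : Set B) := by
  intro x hx
  have hx0 : x = x - GradedRing.projZeroRingHom ℬ x := by
    rw [GradedRing.projZeroRingHom_apply, ← GradedRing.proj_apply,
      (HomogeneousIdeal.mem_irrelevant_iff _ _).mp hx, sub_zero]
  rw [hx0]
  clear hx0 hx
  have hmem : x ∈ Algebra.adjoin (ℬ 0) (s : Set B) := by rw [hs]; trivial
  induction hmem using Algebra.adjoin_induction with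
  | mem x hx =>
    obtain ⟨n, hn', hn⟩ := hsn x (Finset.mem_coe.mp hx)
    rw [GradedRing.projZeroRingHom_apply, DirectSum.decompose_of_mem_ne ℬ hn hn', sub_zero]
    exact Ideal.subset_span hx
  | algebraMap r =>
    have e : algebraMap (ℬ 0) B r - GradedRing.projZeroRingHom ℬ (algebraMap (ℬ 0) B r) = 0 := by
      rw [sub_eq_zero, GradedRing.projZeroRingHom_apply]
      exact (DirectSum.decompose_of_mem_same ℬ r.2).symm
    rw [e]; exact zero_mem _
  | add x y hx hy hx' hy' =>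
    rw [map_add, add_sub_add_comm]
    exact add_mem hx' hy'
  | mul x y hx hy hx' hy' =>
    have e : x * y - GradedRing.projZeroRingHom ℬ (x * y) =
        x * (y - GradedRing.projZeroRingHom ℬ y) +
          (x - GradedRing.projZeroRingHom ℬ x) * GradedRing.projZeroRingHom ℬ y := by
      rw [map_mul]; ring
    rw [e]
    exact add_mem (Ideal.mul_mem_left _ x hy') (Ideal.mul_mem_right _ _ hx')

theorem proj_mem_of_mem_span (S : Set B) (deg : B → ℕ) (hS : ∀ s ∈ S, s ∈ ℬ (deg s)) (n : ℕ)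
    (Q : B → Prop) (h0 : Q 0) (hadd : ∀ x y, Q x → Q y → Q (x + y))
    (hQ : ∀ s ∈ S, deg s ≤ n → ∀ c ∈ ℬ (n - deg s), Q (c * s))
    (b : B) (hb : b ∈ Ideal.span S) : Q (GradedRing.proj ℬ n b) := by
  classical
  obtain ⟨l, rfl⟩ := (Finsupp.mem_span_iff_linearCombination B S b).mp hb
  rw [Finsupp.linearCombination_apply, Finsupp.sum, map_sum]
  refine Finset.sum_induction _ Q hadd h0 (fun i _ => ?_)
  rw [smul_eq_mul, GradedRing.proj_apply]
  by_cases hle : deg (i : B) ≤ n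
  · rw [DirectSum.coe_decompose_mul_of_right_mem_of_le ℬ (hS i i.2) hle]
    exact hQ i i.2 hle _ (SetLike.coe_mem _)
  · rw [DirectSum.coe_decompose_mul_of_right_mem_of_not_le ℬ (hS i i.2) hle]
    exact h0

theorem exists_deg_le_pow (G : Finset B) (deg : B → ℕ)
    (hG : ∀ g ∈ G, deg g ≠ 0 ∧ g ∈ ℬ (deg g))
    (hirr : (HomogeneousIdeal.irrelevant ℬ).toIdeal ≤ Ideal.span (G : Set B)) (M : ℕ) :
    ∃ N, ∀ n, N ≤ n → ∀ b ∈ ℬ n, b ∈ Ideal.span (G : Set B) ^ M := by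
  induction M with
  | zero => exact ⟨0, fun n _ b _ => by rw [pow_zero, Ideal.one_eq_top]; trivial⟩
  | succ M ih =>
    obtain ⟨N, hN⟩ := ih
    refine ⟨N + G.sup deg + 1, fun n hn b hb => ?_⟩
    have hbirr : b ∈ (HomogeneousIdeal.irrelevant ℬ).toIdeal :=
      HomogeneousIdeal.mem_irrelevant_of_mem _ (show 0 < n by omega) hb
    have key := proj_mem_of_mem_span ℬ (G : Set B) deg
      (fun s hs => (hG s (Finset.mem_coe.mp hs)).2) n
      (fun x => x ∈ Ideal.span (G : Set B) ^ (M + 1)) (zero_mem _)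
      (fun x y hx hy => add_mem hx hy) ?_ b (hirr hbirr)
    · rwa [GradedRing.proj_apply, DirectSum.decompose_of_mem_same ℬ hb] at key
    · intro s hs hle c hc
      have hsup : deg s ≤ G.sup deg := Finset.le_sup (f := deg) (Finset.mem_coe.mp hs)
      rw [pow_succ]
      exact Ideal.mul_mem_mul (hN (n - deg s) (by omega) c hc) (Ideal.subset_span hs)

theorem mem_mul_of_mem_span_one (n : ℕ) (b : B) (hb : b ∈ ℬ (n + 1))
    (hI : b ∈ Ideal.span (ℬ 1 : Set B)) : b ∈ ℬ n * ℬ 1 := by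
  have key := proj_mem_of_mem_span ℬ (ℬ 1 : Set B) (fun _ => 1) (fun s hs => hs) (n + 1)
    (fun x => x ∈ ℬ n * ℬ 1) (zero_mem _) (fun x y hx hy => add_mem hx hy) ?_ b hI
  · rwa [GradedRing.proj_apply, DirectSum.decompose_of_mem_same ℬ hb] at key
  · intro s hs _ c hc
    have hc' : c ∈ ℬ n := by simpa using hc
    exact Submodule.mul_mem_mul hc' hs

theorem pow_le_deg (n : ℕ) : ℬ 1 ^ n ≤ ℬ n := by
  induction n with
  | zero =>
    rw [pow_zero, Submodule.one_le]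
    exact SetLike.one_mem_graded ℬ
  | succ n ih =>
    rw [pow_succ]
    refine Submodule.mul_le.mpr (fun a ha b hb => ?_)
    exact SetLike.mul_mem_graded (ih ha) hb

theorem pow_le_span (m : ℕ) : ∀ y ∈ ℬ 1 ^ (m + 1), y ∈ Ideal.span (ℬ 1 : Set B) := by
  induction m with
  | zero =>
    intro y hy
    rw [zero_add, pow_one] at hy
    exact Ideal.subset_span hy
  | succ m ih =>
    intro y hy
    rw [pow_succ] at hy
    refine Submodule.mul_induction_on hy (fun a _ b hb => ?_) (fun x y hx hy => add_mem hx hy)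
    exact Ideal.mul_mem_left _ a (Ideal.subset_span hb)

variable {𝒜 ℬ}

theorem map_mem_pow (φ : 𝒜 →+*ᵍ ℬ) (n : ℕ) :
    ∀ x ∈ 𝒜 1 ^ (n + 1), φ x ∈ ℬ 1 ^ (n + 1) := by
  induction n with
  | zero =>
    intro x hx
    rw [zero_add, pow_one] at hx ⊢
    exact φ.map_mem hx
  | succ n ih =>
    intro x hx
    rw [pow_succ] at hx
    rw [pow_succ (ℬ 1)]
    refine Submodule.mul_induction_on hx (fun m hm m' hm' => ?_) (fun x y hx hy => ?_)
    · rw [map_mul]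
      exact Submodule.mul_mem_mul (ih m hm) (φ.map_mem hm')
    · rw [map_add]; exact add_mem hx hy

theorem mem_of_map_mem (φ : 𝒜 →+*ᵍ ℬ) (hφ : Function.Injective φ) {a : A} {n : ℕ}
    (h : φ a ∈ ℬ n) : a ∈ 𝒜 n := by
  classical
  have key : ∀ i, i ≠ n → (DirectSum.decompose 𝒜 a i : A) = 0 := by
    intro i hi
    apply hφ
    rw [map_zero, GradedRingHom.map_directSumDecompose]
    exact DirectSum.decompose_of_mem_ne ℬ h hi.symm
  rw [← DirectSum.sum_support_decompose 𝒜 a]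
  refine sum_mem (fun i _ => ?_)
  by_cases hi : i = n
  · subst hi; exact SetLike.coe_mem _
  · rw [key i hi]; exact zero_mem _

variable (ℬ) in
/-- the degree-`j` piece as a module over the degree-zero subring -/
def W (j : ℕ) : Submodule (ℬ 0) B where
  carrier := ℬ j
  add_mem' := fun ha hb => add_mem ha hb
  zero_mem' := zero_mem _
  smul_mem' := fun c x hx => by
    have h := SetLike.mul_mem_graded c.2 hx
    rw [zero_add] at h
    show c • x ∈ ℬ j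
    rw [Algebra.smul_def]
    exact h

variable (ℬ) in
theorem W_fg (G : Finset B) (deg : B → ℕ) (hG : ∀ g ∈ G, deg g ≠ 0 ∧ g ∈ ℬ (deg g))
    (hirr : (HomogeneousIdeal.irrelevant ℬ).toIdeal ≤ Ideal.span (G : Set B)) :
    ∀ j, (W ℬ j).FG := by
  intro j
  induction j using Nat.strong_induction_on with
  | _ j ih =>
    rcases Nat.eq_zero_or_pos j with rfl | hj
    · refine ⟨{1}, ?_⟩
      apply le_antisymm
      · rw [Finset.coe_singleton, Submodule.span_singleton_le_iff_mem]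
        exact SetLike.one_mem_graded ℬ
      · intro x hx
        rw [Finset.coe_singleton, Submodule.mem_span_singleton]
        refine ⟨⟨x, hx⟩, ?_⟩
        rw [Algebra.smul_def, mul_one]; rfl
    · classical
      have heq : W ℬ j = ⨆ g ∈ G.filter (fun g => deg g ≤ j),
          (W ℬ (j - deg g)).map (LinearMap.mulRight (ℬ 0) g) := by
        apply le_antisymm
        · intro b hb
          have hb' : b ∈ ℬ j := hb
          have hbirr : b ∈ (HomogeneousIdeal.irrelevant ℬ).toIdeal :=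
            HomogeneousIdeal.mem_irrelevant_of_mem _ hj hb'
          have key := proj_mem_of_mem_span ℬ (G : Set B) deg
            (fun s hs => (hG s (Finset.mem_coe.mp hs)).2) j
            (fun x => x ∈ ⨆ g ∈ G.filter (fun g => deg g ≤ j),
              (W ℬ (j - deg g)).map (LinearMap.mulRight (ℬ 0) g))
            (zero_mem _) (fun x y hx hy => add_mem hx hy) ?_ b (hirr hbirr)
          · rwa [GradedRing.proj_apply, DirectSum.decompose_of_mem_same ℬ hb'] at key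
          · intro s hs hle c hc
            have hs' : s ∈ G.filter (fun g => deg g ≤ j) :=
              Finset.mem_filter.mpr ⟨Finset.mem_coe.mp hs, hle⟩
            refine (le_iSup₂ (f := fun g (_ : g ∈ G.filter (fun g => deg g ≤ j)) =>
              (W ℬ (j - deg g)).map (LinearMap.mulRight (ℬ 0) g)) s hs') ?_
            exact ⟨c, hc, rfl⟩
        · refine iSup₂_le (fun g hg => ?_)
          rintro x ⟨c, hc, rfl⟩
          have hg' := Finset.mem_filter.mp hg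
          have h := SetLike.mul_mem_graded (show c ∈ ℬ (j - deg g) from hc) (hG g hg'.1).2
          rw [Nat.sub_add_cancel hg'.2] at h
          exact h
      rw [heq]
      refine Submodule.fg_biSup _ _ (fun g hg => ?_)
      have hg' := Finset.mem_filter.mp hg
      exact (ih (j - deg g) (by have := (hG g hg'.1).1; omega)).map _

/-- the image of `φ` as a subring -/
def Tr (φ : 𝒜 →+*ᵍ ℬ) : Subring B := φ.toRingHom.range

theorem mem_Tr {φ : 𝒜 →+*ᵍ ℬ} {y : B} : y ∈ Tr φ ↔ ∃ x, φ x = y := RingHom.mem_range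

theorem exists_unif_finset {ι : Type*} (P : ι → ℕ → Prop) (F : Finset ι)
    (h : ∀ y ∈ F, ∃ K, ∀ k, K ≤ k → P y k) :
    ∃ K, ∀ y ∈ F, ∀ k, K ≤ k → P y k := by
  classical
  induction F using Finset.induction_on with
  | empty => exact ⟨0, fun y hy => absurd hy (Finset.notMem_empty y)⟩
  | insert a F ha ih =>
    obtain ⟨K1, h1⟩ := h a (Finset.mem_insert_self a F)
    obtain ⟨K2, h2⟩ := ih (fun y hy => h y (Finset.mem_insert_of_mem hy))
    refine ⟨max K1 K2, fun y hy k hk => ?_⟩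
    rcases Finset.mem_insert.mp hy with rfl | hy'
    · exact h1 k (le_trans (le_max_left _ _) hk)
    · exact h2 y hy' k (le_trans (le_max_right _ _) hk)

section U

variable (φ : 𝒜 →+*ᵍ ℬ)
  (hsurj : ∀ g ∈ 𝒜 1, ∀ n, ∀ b ∈ ℬ n, ∃ K, φ g ^ K * b ∈ Tr φ)

include hsurj in
theorem U1 (g : A) (hg : g ∈ 𝒜 1) (b : B) : ∃ K, ∀ k, K ≤ k → φ g ^ k * b ∈ Tr φ := by
  classical
  refine DirectSum.Decomposition.inductionOn ℬ
    (motive := fun b => ∃ K, ∀ k, K ≤ k → φ g ^ k * b ∈ Tr φ) ?_ ?_ ?_ b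
  · exact ⟨0, fun k _ => by rw [mul_zero]; exact zero_mem _⟩
  · intro i b
    obtain ⟨K, hK⟩ := hsurj g hg i (b : B) b.2
    refine ⟨K, fun k hk => ?_⟩
    obtain ⟨e, rfl⟩ := Nat.exists_eq_add_of_le hk
    have e1 : φ g ^ (K + e) * (b : B) = φ g ^ e * (φ g ^ K * (b : B)) := by
      rw [pow_add]; ring
    rw [e1]
    exact mul_mem (pow_mem (mem_Tr.mpr ⟨g, rfl⟩) e) hK
  · intro b b' hb hb'
    obtain ⟨K, hK⟩ := hb
    obtain ⟨K', hK'⟩ := hb'
    refine ⟨max K K', fun k hk => ?_⟩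
    rw [mul_add]
    exact add_mem (hK k (le_trans (le_max_left _ _) hk)) (hK' k (le_trans (le_max_right _ _) hk))

include hsurj in
theorem U2 (h0s : ∀ c ∈ ℬ 0, c ∈ Tr φ) {j : ℕ} (hfg : (W ℬ j).FG) (g : A) (hg : g ∈ 𝒜 1) :
    ∃ K, ∀ k, K ≤ k → ∀ b ∈ ℬ j, φ g ^ k * b ∈ Tr φ := by
  obtain ⟨F, hF⟩ := hfg
  obtain ⟨K, hK⟩ := exists_unif_finset (fun y k => φ g ^ k * y ∈ Tr φ) F
    (fun y _ => U1 φ hsurj g hg y)
  refine ⟨K, fun k hk b hb => ?_⟩
  have hb' : b ∈ Submodule.span (ℬ 0) (F : Set B) := by rw [hF]; exact hb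
  clear hb
  induction hb' using Submodule.span_induction with
  | mem x hx => exact hK x (Finset.mem_coe.mp hx) k hk
  | zero => rw [mul_zero]; exact zero_mem _
  | add x y _ _ hx hy => rw [mul_add]; exact add_mem hx hy
  | smul c x _ hx =>
    rw [Algebra.smul_def, mul_left_comm]
    exact mul_mem (h0s _ c.2) hx

theorem U3 (h1s : ∀ c ∈ ℬ 1, c ∈ Tr φ) (N₁ : ℕ)
    (hstep : ∀ n, N₁ ≤ n → ∀ b ∈ ℬ (n + 1), b ∈ ℬ n * ℬ 1) (t : B)
    (hK : ∀ j, j ≤ N₁ → ∀ b ∈ ℬ j, t * b ∈ Tr φ) :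
    ∀ n, ∀ b ∈ ℬ n, t * b ∈ Tr φ := by
  intro n
  induction n with
  | zero => exact hK 0 (Nat.zero_le _)
  | succ m ih =>
    intro b hb
    by_cases hm : m + 1 ≤ N₁
    · exact hK _ hm b hb
    · have hb' := hstep m (by omega) b hb
      refine Submodule.mul_induction_on hb' (fun c hc y hy => ?_) (fun x y hx hy => ?_)
      · rw [← mul_assoc]; exact mul_mem (ih c hc) (h1s y hy)
      · rw [mul_add]; exact add_mem hx hy

theorem U4 (t : B) (h : ∀ n, ∀ b ∈ ℬ n, t * b ∈ Tr φ) (b : B) : t * b ∈ Tr φ := by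
  classical
  refine DirectSum.Decomposition.inductionOn ℬ
    (motive := fun b => t * b ∈ Tr φ) ?_ ?_ ?_ b
  · rw [mul_zero]; exact zero_mem _
  · intro i b; exact h i b b.2
  · intro b b' hb hb'
    rw [mul_add]; exact add_mem hb hb'

end U

/-- the conductor of the image of `φ` in `B` -/
def cond (φ : 𝒜 →+*ᵍ ℬ) : Ideal B where
  carrier := {t | ∀ b : B, t * b ∈ Tr φ}
  add_mem' := fun ha hb c => by rw [add_mul]; exact add_mem (ha c) (hb c)
  zero_mem' := fun c => by rw [zero_mul]; exact zero_mem _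
  smul_mem' := fun c t ht b => by
    rw [smul_eq_mul, mul_comm c t, mul_assoc]; exact ht (c * b)

theorem mem_cond {φ : 𝒜 →+*ᵍ ℬ} {t : B} : t ∈ cond φ ↔ ∀ b : B, t * b ∈ Tr φ := Iff.rfl

variable (𝒜 ℬ)

theorem main_ring [Algebra.FiniteType (ℬ 0) B] (φ : 𝒜 →+*ᵍ ℬ) (hφ : Function.Injective φ)
    (h0 : Set.BijOn φ (𝒜 0) (ℬ 0)) (h1 : Set.BijOn φ (𝒜 1) (ℬ 1))
    (hgen : ∀ n : ℕ, 1 ≤ n → 𝒜 n = 𝒜 1 ^ n)
    (hrad : (HomogeneousIdeal.irrelevant ℬ).toIdeal ≤ (Ideal.span (ℬ 1 : Set B)).radical)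
    (hsurj : ∀ g ∈ 𝒜 1, ∀ n, ∀ b ∈ ℬ n, ∃ K, φ g ^ K * b ∈ Tr φ) :
    ∃ n₀ : ℕ, ∀ n : ℕ, n₀ ≤ n → ℬ n = ℬ 1 ^ n := by
  classical
  obtain ⟨G, hGadj, hGn⟩ := GradedAlgebra.exists_finset_adjoin_eq_top_and_homogeneous_ne_zero ℬ
  choose! deg hdeg using hGn
  have hirr := irr_le_span ℬ G hGadj (fun i hi => ⟨deg i, hdeg i hi⟩)
  have hJirr : Ideal.span (G : Set B) ≤ (HomogeneousIdeal.irrelevant ℬ).toIdeal := by
    rw [Ideal.span_le]
    intro g hg
    exact HomogeneousIdeal.mem_irrelevant_of_mem _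
      (Nat.pos_of_ne_zero (hdeg g (Finset.mem_coe.mp hg)).1) (hdeg g (Finset.mem_coe.mp hg)).2
  have hJfg : (Ideal.span (G : Set B)).FG := ⟨G, rfl⟩
  have h0s : ∀ c ∈ ℬ 0, c ∈ Tr φ := fun c hc => by
    obtain ⟨a, _, rfl⟩ := h0.surjOn hc
    exact mem_Tr.mpr ⟨a, rfl⟩
  have h1s : ∀ c ∈ ℬ 1, c ∈ Tr φ := fun c hc => by
    obtain ⟨a, _, rfl⟩ := h1.surjOn hc
    exact mem_Tr.mpr ⟨a, rfl⟩
  obtain ⟨M, hM⟩ := Ideal.exists_pow_le_of_le_radical_of_fg (hJirr.trans hrad) hJfg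
  obtain ⟨N₁, hN₁⟩ := exists_deg_le_pow ℬ G deg hdeg hirr M
  have hstep : ∀ n, N₁ ≤ n → ∀ b ∈ ℬ (n + 1), b ∈ ℬ n * ℬ 1 := fun n hn b hb =>
    mem_mul_of_mem_span_one ℬ n b hb (hM (hN₁ (n + 1) (by omega) b hb))
  have hfg := W_fg ℬ G deg hdeg hirr
  have hcond : ∀ x ∈ ℬ 1, x ∈ (cond φ).radical := by
    intro x hx
    obtain ⟨g, hg, rfl⟩ := h1.surjOn hx
    obtain ⟨K, hK⟩ := exists_unif_finset (fun j k => ∀ b ∈ ℬ j, φ g ^ k * b ∈ Tr φ)
      (Finset.range (N₁ + 1)) (fun j _ => U2 φ hsurj h0s (hfg j) g hg)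
    refine ⟨K, mem_cond.mpr (fun b => ?_)⟩
    refine U4 φ _ (U3 φ h1s N₁ hstep _ (fun j hj b hb => ?_)) b
    exact hK j (Finset.mem_range.mpr (by omega)) K le_rfl b hb
  have hJc : Ideal.span (G : Set B) ≤ (cond φ).radical := by
    refine hJirr.trans (hrad.trans ?_)
    rw [Ideal.radical_le_radical_iff, Ideal.span_le]
    exact hcond
  obtain ⟨M', hM'⟩ := Ideal.exists_pow_le_of_le_radical_of_fg hJc hJfg
  obtain ⟨N', hN'⟩ := exists_deg_le_pow ℬ G deg hdeg hirr M'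
  refine ⟨N' + 1, fun n hn => le_antisymm ?_ (pow_le_deg ℬ n)⟩
  intro b hb
  have hbc : b ∈ cond φ := hM' (hN' n (by omega) b hb)
  have hbT : b ∈ Tr φ := by
    have := mem_cond.mp hbc 1
    rwa [mul_one] at this
  obtain ⟨a, rfl⟩ := mem_Tr.mp hbT
  have ha : a ∈ 𝒜 n := mem_of_map_mem φ hφ hb
  rw [hgen n (by omega)] at ha
  obtain ⟨m, rfl⟩ : ∃ m, n = m + 1 := ⟨n - 1, by omega⟩
  exact map_mem_pow φ m a ha

end Ring

section Sch

variable {R A B : Type u} [CommRing R] [CommRing A] [Algebra R A]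
  (𝒜 : ℕ → Submodule R A) [GradedAlgebra 𝒜] [CommRing B] [Algebra R B]
  (ℬ : ℕ → Submodule R B) [GradedAlgebra ℬ] (φ : 𝒜 →+*ᵍ ℬ)

theorem hrad_of_dom (hgen : ∀ n : ℕ, 1 ≤ n → 𝒜 n = 𝒜 1 ^ n) (hdom : PCone.dom φ = ⊤) :
    (HomogeneousIdeal.irrelevant ℬ).toIdeal ≤ (Ideal.span (ℬ 1 : Set B)).radical := by
  intro e he
  by_contra hne
  have hhom : (Ideal.span (ℬ 1 : Set B)).IsHomogeneous ℬ :=
    Ideal.homogeneous_span ℬ _ (fun x hx => ⟨1, hx⟩)
  obtain ⟨x, hIx, -⟩ := Groth.Agent.H1.PB.exists_relevant_prime ℬ ⟨_, hhom⟩ e he hne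
  have hx : (x : Proj ℬ) ∈ PCone.dom φ := by rw [hdom]; trivial
  obtain ⟨⟨f, d, hd, hf⟩, hfx⟩ := TopologicalSpace.Opens.mem_iSup.mp hx
  have hfx' : φ f ∉ x.asHomogeneousIdeal := (Proj.mem_basicOpen ℬ (φ f) x).mp hfx
  apply hfx'
  apply hIx
  show φ f ∈ Ideal.span (ℬ 1 : Set B)
  rw [hgen d hd] at hf
  obtain ⟨m, rfl⟩ : ∃ m, d = m + 1 := ⟨d - 1, by omega⟩
  exact pow_le_span ℬ m _ (map_mem_pow φ m f hf)

theorem away_bij (p : (PCone.dom φ : Scheme.{u}) ⟶ Proj 𝒜)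
    (hp : ∀ (d : ℕ) (f : A) (hd : 0 < d) (hf : f ∈ 𝒜 d),
      PCone.chart φ hf hd ≫ p =
        Spec.map (CommRingCat.ofHom (HomogeneousLocalization.Away.map φ f)) ≫ Proj.awayι 𝒜 f hf hd)
    [IsIso p] {d : ℕ} (hd : 0 < d) (f : A) (hf : f ∈ 𝒜 d) :
    Function.Bijective (HomogeneousLocalization.Away.map φ f) := by
  have h1 : (PCone.chart φ hf hd).opensRange = p ⁻¹ᵁ Proj.basicOpen 𝒜 f := by
    rw [Groth.Agent.H2.Cone.p_preimage_basicOpen φ p hp,
      Groth.Agent.H2.Cone.ι_preimage_basicOpen_eq_opensRange φ hf hd]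
  have h2 : (Proj.awayι 𝒜 f hf hd).opensRange = Proj.basicOpen 𝒜 f :=
    Proj.opensRange_awayι 𝒜 f hf hd
  have hrange : Set.range (PCone.chart φ hf hd ≫ p).base =
      Set.range (Proj.awayι 𝒜 f hf hd).base := by
    ext y
    constructor
    · rintro ⟨z, rfl⟩
      have hz : (PCone.chart φ hf hd).base z ∈ (PCone.chart φ hf hd).opensRange := ⟨z, rfl⟩
      rw [h1] at hz
      have hz' : p.base ((PCone.chart φ hf hd).base z) ∈ Proj.basicOpen 𝒜 f := hz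
      rw [← h2] at hz'
      exact hz'
    · intro hy
      have hy' : y ∈ Proj.basicOpen 𝒜 f := by rw [← h2]; exact hy
      obtain ⟨w, hw⟩ := p.homeomorph.surjective y
      have hw' : p.base w = y := hw
      have hwm : w ∈ p ⁻¹ᵁ Proj.basicOpen 𝒜 f := by
        show p.base w ∈ Proj.basicOpen 𝒜 f
        rw [hw']; exact hy'
      rw [← h1] at hwm
      obtain ⟨z, hz⟩ := hwm
      refine ⟨z, ?_⟩
      show p.base ((PCone.chart φ hf hd).base z) = y
      rw [hz, hw']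
  let e := IsOpenImmersion.isoOfRangeEq (PCone.chart φ hf hd ≫ p) (Proj.awayι 𝒜 f hf hd) hrange
  have he : e.hom = Spec.map (CommRingCat.ofHom (HomogeneousLocalization.Away.map φ f)) := by
    rw [← cancel_mono (Proj.awayι 𝒜 f hf hd), IsOpenImmersion.isoOfRangeEq_hom_fac, hp]
  have hiso : IsIso (Spec.map (CommRingCat.ofHom (HomogeneousLocalization.Away.map φ f))) := by
    rw [← he]; infer_instance
  exact isIso_SpecMap_iff.mp hiso

theorem hsurj_of_iso (p : (PCone.dom φ : Scheme.{u}) ⟶ Proj 𝒜)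
    (hp : ∀ (d : ℕ) (f : A) (hd : 0 < d) (hf : f ∈ 𝒜 d),
      PCone.chart φ hf hd ≫ p =
        Spec.map (CommRingCat.ofHom (HomogeneousLocalization.Away.map φ f)) ≫ Proj.awayι 𝒜 f hf hd)
    [IsIso p] : ∀ g ∈ 𝒜 1, ∀ n, ∀ b ∈ ℬ n, ∃ K, φ g ^ K * b ∈ Tr φ := by
  intro g hg n b hb
  have hbij := away_bij 𝒜 ℬ φ p hp one_pos g hg
  have hb' : b ∈ ℬ (n • 1) := by simpa using hb
  obtain ⟨x, hx⟩ := hbij.2 (Away.mk ℬ (φ.map_mem hg) n b hb')
  obtain ⟨m, a, ha, rfl⟩ := Away.mk_surjective 𝒜 hg x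
  rw [Away.map_mk] at hx
  have h1 := congrArg HomogeneousLocalization.val hx
  rw [Away.val_mk, Away.val_mk, Localization.mk_eq_mk_iff, Localization.r_iff_exists] at h1
  obtain ⟨⟨_, k, rfl⟩, hk⟩ := h1
  have hk' : (φ g) ^ k * ((φ g) ^ n * φ a) = (φ g) ^ k * ((φ g) ^ m * b) := hk
  refine ⟨k + m, mem_Tr.mpr ⟨g ^ (k + n) * a, ?_⟩⟩
  rw [map_mul, map_pow]
  linear_combination hk'

theorem main_S8282 {R A B : Type u} [CommRing R] [CommRing A] [Algebra R A]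
    (𝒜 : ℕ → Submodule R A) [GradedAlgebra 𝒜] [CommRing B] [Algebra R B] (ℬ : ℕ → Submodule R B) [GradedAlgebra ℬ]
    [Algebra.FiniteType (ℬ 0) B] (φ : 𝒜 →+*ᵍ ℬ) (hφ : Function.Injective φ)
    (h0 : Set.BijOn φ (𝒜 0) (ℬ 0)) (h1 : Set.BijOn φ (𝒜 1) (ℬ 1))
    (hgen : ∀ n : ℕ, 1 ≤ n → 𝒜 n = 𝒜 1 ^ n)
    (hdom : PCone.dom φ = ⊤)
    (p : (PCone.dom φ : Scheme.{u}) ⟶ Proj 𝒜)
    (hp : ∀ (d : ℕ) (f : A) (hd : 0 < d) (hf : f ∈ 𝒜 d),
      PCone.chart φ hf hd ≫ p =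
        Spec.map (CommRingCat.ofHom (HomogeneousLocalization.Away.map φ f)) ≫ Proj.awayι 𝒜 f hf hd)
    [IsIso p] :
    ∃ n₀ : ℕ, ∀ n : ℕ, n₀ ≤ n → ℬ n = ℬ 1 ^ n := by
  have hrad := hrad_of_dom 𝒜 ℬ φ hgen hdom
  have hsurj := hsurj_of_iso 𝒜 ℬ φ p hp
  exact main_ring 𝒜 ℬ φ hφ h0 h1 hgen hrad hsurj

end Sch

end Groth.Agent.H4.GrEvPow
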