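import Mathlib
import Groth.Prelude.Def_RelProj

set_option autoImplicit false

namespace Groth.Agent.H4.GrEvPow2

open CategoryTheory CategoryTheory.Limits AlgebraicGeometry Opposite

universe u

section Gen

variable {B : Type u} [CommRing B] {σ : Type*} [SetLike σ B] [AddSubgroupClass σ B]
  (ℬ : ℕ → σ) [GradedRing ℬ]

theorem irr_le_span (s : Finset B) (hs : Algebra.adjoin (ℬ 0) (s : Set B) = ⊤)
    (hsn : ∀ i ∈ s, ∃ n, n ≠ 0 ∧ i ∈ ℬ n) :
    (HomogeneousIdeal.irrelevant ℬ).toIdeal ≤ Ideal.span (s : Set B) := by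
  intro x hx
  have hx0 : x = x - GradedRing.projZeroRingHom ℬ x := by
    rw [GradedRing.projZeroRingHom_apply, ← GradedRing.proj_apply,
      (HomogeneousIdeal.mem_irrelevant_iff _ _).mp hx, sub_zero]
  rw [hx0]
  clear hx0 hx
  have hmem : x ∈ Algebra.adjoin (ℬ 0) (s : Set B) := by rw [hs]; trivial
  induction hmem using Algebra.adjoin_induction with
  | mem x hx =>
    obtain ⟨n, hn', hn⟩ := hsn x (Finset.mem_coe.mp hx)
    rw [GradedRing.projZeroRingHom_apply, DirectSum.decompose_of_mem_ne ℬ hn hn', sub_zero]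
    exact Ideal.subset_span hx
  | algebraMap r =>
    have e : algebraMap (ℬ 0) B r - GradedRing.projZeroRingHom ℬ (algebraMap (ℬ 0) B r) = 0 := by
      rw [sub_eq_zero, GradedRing.projZeroRingHom_apply]
      exact (DirectSum.decompose_of_mem_same ℬ r.2).symm
    rw [e]; exact zero_mem _
  | add x y hx hy hx' hy' =>
    rw [map_add, add_sub_add_comm]
    exact add_mem hx' hy'
  | mul x y hx hy hx' hy' =>
    have e : x * y - GradedRing.projZeroRingHom ℬ (x * y) =
        x * (y - GradedRing.projZeroRingHom ℬ y) +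
          (x - GradedRing.projZeroRingHom ℬ x) * GradedRing.projZeroRingHom ℬ y := by
      rw [map_mul]; ring
    rw [e]
    exact add_mem (Ideal.mul_mem_left _ x hy') (Ideal.mul_mem_right _ _ hx')

theorem proj_mem_of_mem_span (S : Set B) (deg : B → ℕ) (hS : ∀ s ∈ S, s ∈ ℬ (deg s)) (n : ℕ)
    (Q : B → Prop) (h0 : Q 0) (hadd : ∀ x y, Q x → Q y → Q (x + y))
    (hQ : ∀ s ∈ S, deg s ≤ n → ∀ c ∈ ℬ (n - deg s), Q (c * s))
    (b : B) (hb : b ∈ Ideal.span S) : Q (GradedRing.proj ℬ n b) := by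
  classical
  obtain ⟨l, rfl⟩ := (Finsupp.mem_span_iff_linearCombination B S b).mp hb
  rw [Finsupp.linearCombination_apply, Finsupp.sum, map_sum]
  refine Finset.sum_induction _ Q hadd h0 (fun i _ => ?_)
  rw [smul_eq_mul, GradedRing.proj_apply]
  by_cases hle : deg (i : B) ≤ n
  · rw [DirectSum.coe_decompose_mul_of_right_mem_of_le ℬ (hS i i.2) hle]
    exact hQ i i.2 hle _ (SetLike.coe_mem _)
  · rw [DirectSum.coe_decompose_mul_of_right_mem_of_not_le ℬ (hS i i.2) hle]
    exact h0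

theorem exists_deg_le_pow (G : Finset B) (deg : B → ℕ)
    (hG : ∀ g ∈ G, deg g ≠ 0 ∧ g ∈ ℬ (deg g))
    (hirr : (HomogeneousIdeal.irrelevant ℬ).toIdeal ≤ Ideal.span (G : Set B)) (M : ℕ) :
    ∃ N, ∀ n, N ≤ n → ∀ b ∈ ℬ n, b ∈ Ideal.span (G : Set B) ^ M := by
  induction M with
  | zero => exact ⟨0, fun n _ b _ => by rw [pow_zero, Ideal.one_eq_top]; trivial⟩
  | succ M ih =>
    obtain ⟨N, hN⟩ := ih
    refine ⟨N + G.sup deg + 1, fun n hn b hb => ?_⟩
    have hbirr : b ∈ (HomogeneousIdeal.irrelevant ℬ).toIdeal :=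
      HomogeneousIdeal.mem_irrelevant_of_mem _ (show 0 < n by omega) hb
    have key := proj_mem_of_mem_span ℬ (G : Set B) deg
      (fun s hs => (hG s (Finset.mem_coe.mp hs)).2) n
      (fun x => x ∈ Ideal.span (G : Set B) ^ (M + 1)) (zero_mem _)
      (fun x y hx hy => add_mem hx hy) ?_ b (hirr hbirr)
    · rwa [GradedRing.proj_apply, DirectSum.decompose_of_mem_same ℬ hb] at key
    · intro s hs hle c hc
      have hsup : deg s ≤ G.sup deg := Finset.le_sup (f := deg) (Finset.mem_coe.mp hs)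
      rw [pow_succ]
      exact Ideal.mul_mem_mul (hN (n - deg s) (by omega) c hc) (Ideal.subset_span hs)

/-- the degree-`j` piece as a module over the degree-zero subring -/
def W (j : ℕ) : Submodule (ℬ 0) B where
  carrier := {x | x ∈ ℬ j}
  add_mem' := fun ha hb => add_mem ha hb
  zero_mem' := zero_mem _
  smul_mem' := fun c x hx => by
    have h := SetLike.mul_mem_graded c.2 hx
    rw [zero_add] at h
    show c • x ∈ ℬ j
    rw [Algebra.smul_def]
    exact h

theorem W_fg (G : Finset B) (deg : B → ℕ) (hG : ∀ g ∈ G, deg g ≠ 0 ∧ g ∈ ℬ (deg g))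
    (hirr : (HomogeneousIdeal.irrelevant ℬ).toIdeal ≤ Ideal.span (G : Set B)) :
    ∀ j, (W ℬ j).FG := by
  intro j
  induction j using Nat.strong_induction_on with
  | _ j ih =>
    rcases Nat.eq_zero_or_pos j with rfl | hj
    · refine ⟨{1}, ?_⟩
      apply le_antisymm
      · rw [Finset.coe_singleton, Submodule.span_singleton_le_iff_mem]
        exact SetLike.one_mem_graded ℬ
      · intro x hx
        rw [Finset.coe_singleton, Submodule.mem_span_singleton]
        refine ⟨⟨x, hx⟩, ?_⟩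
        rw [Algebra.smul_def, mul_one]; rfl
    · classical
      have heq : W ℬ j = ⨆ g ∈ G.filter (fun g => deg g ≤ j),
          (W ℬ (j - deg g)).map (LinearMap.mulRight (ℬ 0) g) := by
        apply le_antisymm
        · intro b hb
          have hb' : b ∈ ℬ j := hb
          have hbirr : b ∈ (HomogeneousIdeal.irrelevant ℬ).toIdeal :=
            HomogeneousIdeal.mem_irrelevant_of_mem _ hj hb'
          have key := proj_mem_of_mem_span ℬ (G : Set B) deg
            (fun s hs => (hG s (Finset.mem_coe.mp hs)).2) j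
            (fun x => x ∈ ⨆ g ∈ G.filter (fun g => deg g ≤ j),
              (W ℬ (j - deg g)).map (LinearMap.mulRight (ℬ 0) g))
            (zero_mem _) (fun x y hx hy => add_mem hx hy) ?_ b (hirr hbirr)
          · rwa [GradedRing.proj_apply, DirectSum.decompose_of_mem_same ℬ hb'] at key
          · intro s hs hle c hc
            have hs' : s ∈ G.filter (fun g => deg g ≤ j) :=
              Finset.mem_filter.mpr ⟨Finset.mem_coe.mp hs, hle⟩
            refine (le_iSup₂ (f := fun g (_ : g ∈ G.filter (fun g => deg g ≤ j)) =>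
              (W ℬ (j - deg g)).map (LinearMap.mulRight (ℬ 0) g)) s hs') ?_
            exact ⟨c, hc, rfl⟩
        · refine iSup₂_le (fun g hg => ?_)
          rintro x ⟨c, hc, rfl⟩
          have hg' := Finset.mem_filter.mp hg
          have h := SetLike.mul_mem_graded (show c ∈ ℬ (j - deg g) from hc) (hG g hg'.1).2
          rw [Nat.sub_add_cancel hg'.2] at h
          exact h
      rw [heq]
      refine Submodule.fg_biSup _ _ (fun g hg => ?_)
      have hg' := Finset.mem_filter.mp hg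
      exact (ih (j - deg g) (by have := (hG g hg'.1).1; omega)).map _

theorem finiteType_zero {R₀ : Type u} [CommRing R₀] (f : R₀ →+* B) (hf : f.FiniteType)
    (hmem : ∀ r, f r ∈ ℬ 0) : Algebra.FiniteType (ℬ 0) B := by
  letI := f.toAlgebra
  have hf' : Algebra.FiniteType R₀ B := hf
  obtain ⟨s, hs⟩ := hf'.out
  refine ⟨⟨s, ?_⟩⟩
  rw [eq_top_iff]
  rintro x -
  have hx : x ∈ Algebra.adjoin R₀ (s : Set B) := by rw [hs]; trivial
  induction hx using Algebra.adjoin_induction with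
  | mem x hx => exact Algebra.subset_adjoin hx
  | algebraMap r =>
    have e : algebraMap R₀ B r = algebraMap (ℬ 0) B ⟨f r, hmem r⟩ := rfl
    rw [e]
    exact Subalgebra.algebraMap_mem _ _
  | add x y _ _ hx hy => exact add_mem hx hy
  | mul x y _ _ hx hy => exact mul_mem hx hy

end Gen

section AddSub

variable {B : Type u} [CommRing B] (ℬ : ℕ → AddSubgroup B) [GradedRing ℬ]

/-- the degree-`n` piece as a `ℤ`-submodule -/
abbrev Z (n : ℕ) : Submodule ℤ B := AddSubgroup.toIntSubmodule (ℬ n)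

theorem Z_mul_le (i j : ℕ) : Z ℬ i * Z ℬ j ≤ Z ℬ (i + j) :=
  Submodule.mul_le.mpr (fun _ ha _ hb => SetLike.mul_mem_graded (A := ℬ) ha hb)

theorem exists_period [Algebra.FiniteType (ℬ 0) B] :
    ∃ h, 0 < h ∧ ∃ N₀, ∀ N, N₀ ≤ N → ∀ b ∈ ℬ (N + h), b ∈ Z ℬ N * Z ℬ h := by
  classical
  obtain ⟨G, hGadj, hGn⟩ := GradedAlgebra.exists_finset_adjoin_eq_top_and_homogeneous_ne_zero ℬ
  choose! deg hdeg using hGn
  have hirr := irr_le_span ℬ G hGadj (fun i hi => ⟨deg i, hdeg i hi⟩)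
  have hpos : 0 < ∏ g ∈ G, deg g :=
    Finset.prod_pos (fun g hg => Nat.pos_of_ne_zero (hdeg g hg).1)
  obtain ⟨h, hh⟩ : ∃ h, h = ∏ g ∈ G, deg g := ⟨_, rfl⟩
  rw [← hh] at hpos
  have hE : ∀ s ∈ ((G.image (fun g => g ^ (h / deg g)) : Finset B) : Set B), s ∈ ℬ h := by
    intro s hs
    obtain ⟨g, hg, rfl⟩ := Finset.mem_image.mp (Finset.mem_coe.mp hs)
    have h1 := SetLike.pow_mem_graded (h / deg g) (hdeg g hg).2
    have h2 : (h / deg g) • deg g = h := by
      rw [smul_eq_mul, hh]; exact Nat.div_mul_cancel (Finset.dvd_prod_of_mem deg hg)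
    rwa [h2] at h1
  have hJ : Ideal.span (G : Set B) ≤
      (Ideal.span ((G.image (fun g => g ^ (h / deg g)) : Finset B) : Set B)).radical := by
    rw [Ideal.span_le]
    intro g hg
    refine ⟨h / deg g, Ideal.subset_span ?_⟩
    exact Finset.mem_coe.mpr (Finset.mem_image.mpr ⟨g, Finset.mem_coe.mp hg, rfl⟩)
  obtain ⟨M, hM⟩ := Ideal.exists_pow_le_of_le_radical_of_fg hJ ⟨G, rfl⟩
  obtain ⟨N₀, hN₀⟩ := exists_deg_le_pow ℬ G deg hdeg hirr M
  refine ⟨h, hpos, N₀, fun N hN b hb => ?_⟩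
  have hbE := hM (hN₀ (N + h) (by omega) b hb)
  have key := proj_mem_of_mem_span ℬ _ (fun _ => h) hE (N + h)
    (fun x => x ∈ Z ℬ N * Z ℬ h) (zero_mem _) (fun x y hx hy => add_mem hx hy) ?_ b hbE
  · rwa [GradedRing.proj_apply, DirectSum.decompose_of_mem_same ℬ hb] at key
  · intro s hs _ c hc
    have hc' : c ∈ ℬ N := by simpa using hc
    exact Submodule.mul_mem_mul (show c ∈ Z ℬ N from hc') (show s ∈ Z ℬ h from hE s hs)

theorem iter_period (h N₀ : ℕ)
    (hper : ∀ N, N₀ ≤ N → ∀ b ∈ ℬ (N + h), b ∈ Z ℬ N * Z ℬ h) :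
    ∀ k N, N₀ ≤ N → Z ℬ (N + k * h) ≤ Z ℬ N * Z ℬ (k * h) := by
  intro k
  induction k with
  | zero =>
    intro N _ x hx
    rw [Nat.zero_mul, Nat.add_zero] at hx
    rw [Nat.zero_mul]
    have e : x = x * 1 := (mul_one x).symm
    rw [e]
    exact Submodule.mul_mem_mul hx (show (1 : B) ∈ Z ℬ 0 from SetLike.one_mem_graded ℬ)
  | succ k ih =>
    intro N hN x hx
    have e : N + (k + 1) * h = (N + k * h) + h := by ring
    rw [e] at hx
    have h1 := hper (N + k * h) (le_trans hN (Nat.le_add_right _ _)) x hx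
    have h2 : Z ℬ (N + k * h) * Z ℬ h ≤ Z ℬ N * Z ℬ ((k + 1) * h) := by
      calc Z ℬ (N + k * h) * Z ℬ h ≤ (Z ℬ N * Z ℬ (k * h)) * Z ℬ h :=
            mul_le_mul' (ih N hN) le_rfl
        _ = Z ℬ N * (Z ℬ (k * h) * Z ℬ h) := mul_assoc _ _ _
        _ ≤ Z ℬ N * Z ℬ ((k + 1) * h) := by
            refine mul_le_mul' le_rfl ?_
            have := Z_mul_le ℬ (k * h) h
            rwa [show k * h + h = (k + 1) * h by ring] at this
    exact h2 h1

theorem exists_d [Algebra.FiniteType (ℬ 0) B] :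
    ∃ d, 0 < d ∧ ∀ n, 0 < n → Z ℬ (n * d) = Z ℬ d ^ n := by
  obtain ⟨h, hpos, N₀, hper⟩ := exists_period ℬ
  have hit := iter_period ℬ h N₀ hper
  have key : ∀ d, d = (N₀ + 1) * h → ∀ n, 0 < n → Z ℬ (n * d) = Z ℬ d ^ n := by
    intro d hd
    have hdN : N₀ ≤ d := by
      rw [hd]
      calc N₀ ≤ (N₀ + 1) * 1 := by omega
        _ ≤ (N₀ + 1) * h := Nat.mul_le_mul_left _ hpos
    intro n
    induction n with
    | zero => intro h0; omega
    | succ n ih =>
      intro _
      rcases Nat.eq_zero_or_pos n with rfl | hn'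
      · rw [zero_add, one_mul, pow_one]
      · have ih' := ih hn'
        apply le_antisymm
        · have e : (n + 1) * d = n * d + (N₀ + 1) * h := by rw [hd]; ring
          rw [e]
          have hle : N₀ ≤ n * d := le_trans hdN (Nat.le_mul_of_pos_left d hn')
          refine (hit (N₀ + 1) (n * d) hle).trans ?_
          rw [← hd, pow_succ, ← ih']
        · rw [pow_succ, ← ih']
          have := Z_mul_le ℬ (n * d) d
          rwa [show n * d + d = (n + 1) * d by ring] at this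
  exact ⟨(N₀ + 1) * h, Nat.mul_pos (Nat.succ_pos _) hpos, key _ rfl⟩

theorem period_mul (d : ℕ) (hP : ∀ n, 0 < n → Z ℬ (n * d) = Z ℬ d ^ n) (k : ℕ) (hk : 0 < k) :
    ∀ n, 0 < n → Z ℬ (n * (k * d)) = Z ℬ (k * d) ^ n := by
  intro n hn
  rw [hP k hk, ← pow_mul, ← hP (k * n) (Nat.mul_pos hk hn)]
  congr 1; ring

theorem fg_form [Algebra.FiniteType (ℬ 0) B] (d : ℕ) :
    ∃ T : Finset B, (↑T : Set B) ⊆ (ℬ d : Set B) ∧
      Z ℬ d = Z ℬ 0 * Submodule.span ℤ (↑T : Set B) := by
  classical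
  obtain ⟨G, hGadj, hGn⟩ := GradedAlgebra.exists_finset_adjoin_eq_top_and_homogeneous_ne_zero ℬ
  choose! deg hdeg using hGn
  have hirr := irr_le_span ℬ G hGadj (fun i hi => ⟨deg i, hdeg i hi⟩)
  obtain ⟨F, hF⟩ := W_fg ℬ G deg hdeg hirr d
  have hFsub : ∀ t ∈ F, t ∈ ℬ d := fun t ht => by
    have : t ∈ W ℬ d := by rw [← hF]; exact Submodule.subset_span (Finset.mem_coe.mpr ht)
    exact this
  refine ⟨F, fun t ht => hFsub t (Finset.mem_coe.mp ht), le_antisymm ?_ ?_⟩
  · intro x hx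
    have hx' : x ∈ Submodule.span (ℬ 0) (F : Set B) := by rw [hF]; exact hx
    obtain ⟨c, -, rfl⟩ := Submodule.mem_span_finset.mp hx'
    refine sum_mem (fun t ht => ?_)
    rw [Algebra.smul_def]
    exact Submodule.mul_mem_mul (show ((c t : ℬ 0) : B) ∈ Z ℬ 0 from (c t).2)
      (Submodule.subset_span (Finset.mem_coe.mpr ht))
  · refine Submodule.mul_le.mpr (fun a ha t ht => ?_)
    have ht' : t ∈ Z ℬ d := by
      refine (Submodule.span_le.mpr ?_) ht
      intro t ht; exact hFsub t (Finset.mem_coe.mp ht)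
    have := SetLike.mul_mem_graded (show a ∈ ℬ 0 from ha) (show t ∈ ℬ d from ht')
    rwa [zero_add] at this

end AddSub

theorem main_S12133 {Y : Scheme.{u}} (𝒮 : RelProj.QCGrAlg Y)
    {ι : Type u} [Finite ι] (U : ι → Y.Opens) (hU : ∀ i, IsAffineOpen (U i)) (hcov : ⨆ i, U i = ⊤)
    (hft : ∀ i, (𝒮.str.app (op (U i))).hom.FiniteType) :
    ∃ d : ℕ, 0 < d ∧ ∀ i,
      (∀ n : ℕ, 0 < n →
        AddSubgroup.toIntSubmodule (𝒮.deg (U i) (hU i) (n * d)) =
          AddSubgroup.toIntSubmodule (𝒮.deg (U i) (hU i) d) ^ n) ∧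
      ∃ T : Finset (𝒮.presheaf.obj (op (U i))),
        (↑T : Set (𝒮.presheaf.obj (op (U i)))) ⊆ (𝒮.deg (U i) (hU i) d : Set (𝒮.presheaf.obj (op (U i)))) ∧
        AddSubgroup.toIntSubmodule (𝒮.deg (U i) (hU i) d) =
          AddSubgroup.toIntSubmodule (𝒮.deg (U i) (hU i) 0) *
            Submodule.span ℤ (↑T : Set (𝒮.presheaf.obj (op (U i)))) := by
  classical
  haveI := Fintype.ofFinite ι
  have hFT : ∀ i, Algebra.FiniteType (𝒮.deg (U i) (hU i) 0) (𝒮.presheaf.obj (op (U i))) := fun i =>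
    finiteType_zero (𝒮.deg (U i) (hU i)) (𝒮.str.app (op (U i))).hom (hft i) (𝒮.str_mem (U i) (hU i))
  have hd : ∀ i, ∃ d, 0 < d ∧ ∀ n, 0 < n →
      Z (𝒮.deg (U i) (hU i)) (n * d) = Z (𝒮.deg (U i) (hU i)) d ^ n := fun i => by
    haveI := hFT i; exact exists_d _
  choose dd hdpos hdP using hd
  have hprod : 0 < ∏ i, dd i := Finset.prod_pos (fun i _ => hdpos i)
  refine ⟨∏ i, dd i, hprod, fun i => ⟨?_, ?_⟩⟩
  · have hdvd : dd i ∣ ∏ i, dd i := Finset.dvd_prod_of_mem dd (Finset.mem_univ i)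
    obtain ⟨k, hk⟩ := hdvd
    have hkpos : 0 < k := by
      rcases Nat.eq_zero_or_pos k with rfl | h
      · rw [hk, mul_zero] at hprod; omega
      · exact h
    rw [hk, mul_comm (dd i) k]
    exact period_mul _ (dd i) (hdP i) k hkpos
  · haveI := hFT i; exact fg_form _ _

end Groth.Agent.H4.GrEvPow2
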