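import Mathlib
import Groth.Prelude.Def_Fitting
import Groth.Agent.H4.Fitting7
import Groth.Agent.H4.FittMor1

set_option autoImplicit false
universe u
open scoped TensorProduct

namespace Groth.Agent.H4.GrFlatA
open Groth.Agent.H4.Fitting

variable {R : Type u} [CommRing R] {M : Type u} [AddCommGroup M] [Module R M]

/-- local Fitting ideals of a finite projective module -/
theorem fitt_map_atPrime_of_finrank [Module.Finite R M] [Module.Projective R M]
    (p : Ideal R) [p.IsPrime] (k : ℕ) :
    (Module.finrank (Localization.AtPrime p) (LocalizedModule p.primeCompl M) ≤ k →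
      (Fitt.ideal R M k).map (algebraMap R (Localization.AtPrime p)) = ⊤) ∧
    (k < Module.finrank (Localization.AtPrime p) (LocalizedModule p.primeCompl M) →
      (Fitt.ideal R M k).map (algebraMap R (Localization.AtPrime p)) = ⊥) := by
  rw [← fitt_atPrime]
  haveI : Module.Free (Localization.AtPrime p) (LocalizedModule p.primeCompl M) :=
    Module.free_of_flat_of_isLocalRing
  let b := Module.finBasis (Localization.AtPrime p) (LocalizedModule p.primeCompl M)
  constructor
  · intro h
    exact ideal_eq_top_of_span b b.span_eq (by simpa using h)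
  · intro h
    exact ideal_eq_bot_of_basis b (by simpa using h)

theorem map_le_maximalIdeal_atPrime (I : Ideal R) (m : Ideal R) [m.IsPrime] (hle : I ≤ m) :
    I.map (algebraMap R (Localization.AtPrime m)) ≠ ⊤ := by
  intro h
  have h2 : I.map (algebraMap R (Localization.AtPrime m)) ≤
      IsLocalRing.maximalIdeal (Localization.AtPrime m) := by
    rw [Ideal.map_le_iff_le_comap]
    have e := IsLocalization.AtPrime.under_maximalIdeal (Localization.AtPrime m) m
    rw [Ideal.under_def] at e
    rw [e]
    exact hle
  rw [h] at h2
  exact (IsLocalRing.maximalIdeal.isMaximal _).ne_top (top_le_iff.mp h2)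

theorem ideal_eq_top_of_rankAtStalk [Module.Finite R M] [Module.Projective R M] {k j : ℕ}
    (hk : ∀ p : PrimeSpectrum R, Module.rankAtStalk (R := R) M p = k) (hj : k ≤ j) :
    Fitt.ideal R M j = ⊤ := by
  by_contra hne
  obtain ⟨m, hm, hle⟩ := Ideal.exists_le_maximal _ hne
  haveI := hm.isPrime
  have hrank : Module.finrank (Localization.AtPrime m) (LocalizedModule m.primeCompl M) = k :=
    hk ⟨m, inferInstance⟩
  have h1 := (fitt_map_atPrime_of_finrank (M := M) m j).1 (by omega)
  exact map_le_maximalIdeal_atPrime _ m hle h1

/-- Over a domain, the Fitting ideals of a finite projective module are `⊥` or `⊤`. -/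
theorem ideal_eq_top_of_ne_bot_of_isDomain [IsDomain R] [Module.Finite R M] [Module.Projective R M]
    (k : ℕ) (h : Fitt.ideal R M k ≠ ⊥) : Fitt.ideal R M k = ⊤ := by
  by_contra hne
  obtain ⟨m, hm, hle⟩ := Ideal.exists_le_maximal _ hne
  haveI := hm.isPrime
  rcases le_or_gt (Module.finrank (Localization.AtPrime m) (LocalizedModule m.primeCompl M)) k
    with hr | hr
  · have h1 := (fitt_map_atPrime_of_finrank (M := M) m k).1 hr
    exact map_le_maximalIdeal_atPrime _ m hle h1
  · have h1 := (fitt_map_atPrime_of_finrank (M := M) m k).2 hr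
    apply h
    rw [eq_bot_iff]
    intro x hx
    have h2 : algebraMap R (Localization.AtPrime m) x ∈
        (Fitt.ideal R M k).map (algebraMap R (Localization.AtPrime m)) := Ideal.mem_map_of_mem _ hx
    rw [h1, Ideal.mem_bot] at h2
    rw [Ideal.mem_bot]
    have hinj : Function.Injective (algebraMap R (Localization.AtPrime m)) :=
      IsLocalization.injective (Localization.AtPrime m) m.primeCompl_le_nonZeroDivisors
    exact (map_eq_zero_iff _ hinj).mp h2

/-- Fitting characterization of "finite projective of constant rank `r`" after base change. -/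
theorem projRank_iff {A : Type u} [CommRing A] (N : Type u) [AddCommGroup N] [Module A N]
    [Module.Finite A N] (B : Type u) [CommRing B] [Algebra A B] (r : ℕ) :
    (Module.Finite B (B ⊗[A] N) ∧ Module.Projective B (B ⊗[A] N) ∧
        ∀ p : PrimeSpectrum B, Module.rankAtStalk (B ⊗[A] N) p = r) ↔
      ((r = 0 ∨ (Fitt.ideal A N (r - 1)).map (algebraMap A B) = ⊥) ∧
        (Fitt.ideal A N r).map (algebraMap A B) = ⊤) := by
  constructor
  · rintro ⟨hfin, hproj, hrk⟩
    haveI := hfin
    haveI := hproj
    refine ⟨?_, ?_⟩
    · rcases Nat.eq_zero_or_pos r with h0 | hpos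
      · exact Or.inl h0
      · right
        rw [← ideal_baseChange B N (r - 1)]
        exact ideal_eq_bot_of_rankAtStalk hrk (by omega)
    · rw [← ideal_baseChange B N r]
      exact ideal_eq_top_of_rankAtStalk hrk le_rfl
  · rintro ⟨h0, h1⟩
    have hfin : Module.Finite B (B ⊗[A] N) := inferInstance
    have key := Groth.Agent.H4.FittMor1.alg_of_fitt (A := B) (B ⊗[A] N) r ?_ ?_
    · obtain ⟨hflat, hfp, hrk⟩ := key
      haveI := hflat
      haveI := hfp
      exact ⟨hfin, Module.Flat.projective_of_finitePresentation, hrk⟩
    · intro k hk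
      rw [ideal_baseChange B N k]
      rcases h0 with h0 | h0
      · omega
      · rw [eq_bot_iff, ← h0]
        exact Ideal.map_mono (ideal_mono_index (by omega))
    · intro k hk
      rw [ideal_baseChange B N k, eq_top_iff, ← h1]
      exact Ideal.map_mono (ideal_mono_index hk)

end Groth.Agent.H4.GrFlatA
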