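import Mathlib

set_option autoImplicit false
universe u
open TopologicalSpace

namespace Groth.Agent.H4.GrFlatB

theorem isClosed_of_generic {α : Type*} [TopologicalSpace α] [NoetherianSpace α]
    (Z : Set α)
    (hgen : ∀ C : Closeds α, IsIrreducible (C : Set α) →
      (C : Set α) ⊆ Z ∨ ∃ C' : Closeds α, C' < C ∧ Z ∩ (C : Set α) ⊆ (C' : Set α)) :
    ∀ C : Closeds α, IsClosed (Z ∩ (C : Set α)) := by
  intro C
  apply wellFounded_lt.induction C; clear C
  intro s H
  rcases eq_or_ne s ⊥ with rfl | h₀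
  · simp
  · by_cases h₁ : IsPreirreducible (s : Set α)
    · replace h₁ : IsIrreducible (s : Set α) := ⟨Closeds.coe_nonempty.2 h₀, h₁⟩
      rcases hgen s h₁ with h | ⟨C', hlt, hsub⟩
      · rw [Set.inter_eq_right.mpr h]
        exact s.isClosed
      · have e : Z ∩ (s : Set α) = Z ∩ (C' : Set α) := by
          apply Set.Subset.antisymm
          · intro x hx
            exact ⟨hx.1, hsub hx⟩
          · intro x hx
            exact ⟨hx.1, (le_of_lt hlt) hx.2⟩
        rw [e]
        exact H C' hlt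
    · simp only [isPreirreducible_iff_isClosed_union_isClosed, not_forall, not_or] at h₁
      obtain ⟨z₁, z₂, hz₁, hz₂, h, hz₁', hz₂'⟩ := h₁
      lift z₁ to Closeds α using hz₁
      lift z₂ to Closeds α using hz₂
      have e : Z ∩ (s : Set α) = (Z ∩ ((s ⊓ z₁ : Closeds α) : Set α)) ∪
          (Z ∩ ((s ⊓ z₂ : Closeds α) : Set α)) := by
        ext x
        simp only [Closeds.coe_inf, Set.mem_inter_iff, Set.mem_union]
        constructor
        · rintro ⟨hz, hs⟩
          rcases h hs with h' | h'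
          · exact Or.inl ⟨hz, hs, h'⟩
          · exact Or.inr ⟨hz, hs, h'⟩
        · rintro (⟨hz, hs, -⟩ | ⟨hz, hs, -⟩) <;> exact ⟨hz, hs⟩
      rw [e]
      exact (H _ (inf_lt_left.2 hz₁')).union (H _ (inf_lt_left.2 hz₂'))

theorem isClosed_of_GF {A : Type u} [CommRing A] [IsNoetherianRing A] (Z : Set (PrimeSpectrum A))
    (hup : ∀ p q : PrimeSpectrum A, p.asIdeal ≤ q.asIdeal → p ∈ Z → q ∈ Z)
    (hGF : ∀ p : PrimeSpectrum A, p ∉ Z → ∃ f : A, f ∉ p.asIdeal ∧
      ∀ q : PrimeSpectrum A, p.asIdeal ≤ q.asIdeal → f ∉ q.asIdeal → q ∉ Z) :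
    IsClosed Z := by
  have key := isClosed_of_generic Z ?_ ⊤
  · simpa using key
  intro C hC
  have hprime : (PrimeSpectrum.vanishingIdeal (C : Set (PrimeSpectrum A))).IsPrime :=
    (PrimeSpectrum.isIrreducible_iff_vanishingIdeal_isPrime).mp hC
  let p : PrimeSpectrum A := ⟨PrimeSpectrum.vanishingIdeal (C : Set (PrimeSpectrum A)), hprime⟩
  have hCeq : (C : Set (PrimeSpectrum A)) = PrimeSpectrum.zeroLocus (p.asIdeal : Set A) := by
    rw [PrimeSpectrum.zeroLocus_vanishingIdeal_eq_closure, C.isClosed.closure_eq]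
  have hpC : p ∈ (C : Set (PrimeSpectrum A)) := by
    rw [hCeq, PrimeSpectrum.mem_zeroLocus]
  by_cases hpZ : p ∈ Z
  · left
    intro q hq
    rw [hCeq, PrimeSpectrum.mem_zeroLocus] at hq
    exact hup p q hq hpZ
  · right
    obtain ⟨f, hf, hq⟩ := hGF p hpZ
    refine ⟨C ⊓ ⟨PrimeSpectrum.zeroLocus {f}, PrimeSpectrum.isClosed_zeroLocus _⟩, ?_, ?_⟩
    · refine lt_of_le_of_ne inf_le_left ?_
      intro heq
      have hp2 : p ∈ ((C ⊓ ⟨PrimeSpectrum.zeroLocus {f}, PrimeSpectrum.isClosed_zeroLocus _⟩ :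
          Closeds (PrimeSpectrum A)) : Set (PrimeSpectrum A)) := by
        rw [heq]
        exact hpC
      simp only [Closeds.coe_inf, Closeds.coe_mk, Set.mem_inter_iff, PrimeSpectrum.mem_zeroLocus,
        Set.singleton_subset_iff, SetLike.mem_coe] at hp2
      exact hf hp2.2
    · rintro q ⟨hqZ, hqC⟩
      refine ⟨hqC, ?_⟩
      by_contra hfq
      have hpq : p.asIdeal ≤ q.asIdeal := by
        rw [hCeq, PrimeSpectrum.mem_zeroLocus] at hqC
        exact hqC
      refine hq q hpq ?_ hqZ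
      intro hfq'
      apply hfq
      simp only [Closeds.coe_mk, PrimeSpectrum.mem_zeroLocus, Set.singleton_subset_iff,
        SetLike.mem_coe]
      exact hfq'

end Groth.Agent.H4.GrFlatB
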