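import Mathlib
import Groth.Prelude.Def_Fitting
import Groth.Agent.H4.Fitting7
import Groth.Agent.Lib.Helper1.GenFreeLoc
import Groth.Agent.H4.GrFlatA

set_option autoImplicit false
universe u
open scoped TensorProduct

namespace Groth.Agent.H4.GrFlatC
open Groth.Agent.H4.Fitting Groth.Agent.H4.GrFlatA

theorem GF0 {D : Type u} [CommRing D] [IsDomain D] {S : Type u} [CommRing S] [Algebra D S]
    [Algebra.FiniteType D S] {N : Type u} [AddCommGroup N] [Module S N] [Module D N]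
    [IsScalarTower D S N] [Module.Finite S N] {ι : Type*} (P : ι → Type u)
    [∀ v, AddCommGroup (P v)] [∀ v, Module D (P v)] [∀ v, Module.Finite D (P v)]
    (i : ∀ v, P v →ₗ[D] N) (r : ∀ v, N →ₗ[D] P v) (hri : ∀ v, (r v) ∘ₗ (i v) = LinearMap.id) :
    ∃ F : D, F ≠ 0 ∧ ∀ (v : ι) (k : ℕ), Fitt.ideal D (P v) k ≠ ⊥ →
      ∃ n : ℕ, F ^ n ∈ Fitt.ideal D (P v) k := by
  obtain ⟨f0, hf0, hgood⟩ :=
    Groth.Agent.H1.GenFree.exists_good (R := D) (S := S) (M := N) 1 one_ne_zero
  refine ⟨1 * f0, hf0, ?_⟩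
  intro v k hne
  generalize 1 * f0 = F at hf0 hgood
  haveI hfree : Module.Free (Localization.Away F) (Localization.Away F ⊗[D] N) := hgood.free_tensor
  have hle : Submonoid.powers F ≤ nonZeroDivisors D :=
    powers_le_nonZeroDivisors_of_noZeroDivisors hf0
  haveI : IsDomain (Localization.Away F) := IsLocalization.isDomain_localization hle
  have hinj : Function.Injective (algebraMap D (Localization.Away F)) :=
    IsLocalization.injective _ hle
  haveI : Module.Projective (Localization.Away F) (Localization.Away F ⊗[D] P v) := by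
    refine Module.Projective.of_split ((i v).baseChange (Localization.Away F))
      ((r v).baseChange (Localization.Away F)) ?_
    rw [← LinearMap.baseChange_comp, hri v, LinearMap.baseChange_id]
  have hbc := ideal_baseChange (R := D) (Localization.Away F) (P v) k
  have hne' : Fitt.ideal (Localization.Away F) (Localization.Away F ⊗[D] P v) k ≠ ⊥ := by
    rw [hbc]
    intro h0
    apply hne
    rw [eq_bot_iff]
    intro x hx
    have h2 : algebraMap D (Localization.Away F) x ∈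
        (Fitt.ideal D (P v) k).map (algebraMap D (Localization.Away F)) :=
      Ideal.mem_map_of_mem _ hx
    rw [h0, Ideal.mem_bot] at h2
    rw [Ideal.mem_bot]
    exact (map_eq_zero_iff _ hinj).mp h2
  have htop := ideal_eq_top_of_ne_bot_of_isDomain k hne'
  rw [hbc] at htop
  have h1 : (1 : Localization.Away F) ∈
      (Fitt.ideal D (P v) k).map (algebraMap D (Localization.Away F)) := by
    rw [htop]
    trivial
  rw [IsLocalization.mem_map_algebraMap_iff (Submonoid.powers F)] at h1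
  obtain ⟨⟨⟨a, ha⟩, ⟨_, n, rfl⟩⟩, h2⟩ := h1
  refine ⟨n, ?_⟩
  simp only [one_mul] at h2
  rw [hinj h2]
  exact ha

section Concrete

/-- projection onto a graded piece -/
noncomputable def projv {A : Type u} [CommRing A] {M : Type u} [AddCommGroup M] [Module A M]
    (ℳ : ℤ → Submodule A M) [DirectSum.Decomposition ℳ] (v : ℤ) : M →ₗ[A] ℳ v :=
  (DirectSum.component A ℤ (fun i => ↥(ℳ i)) v) ∘ₗ (DirectSum.decomposeLinearEquiv ℳ).toLinearMap

theorem projv_coe {A : Type u} [CommRing A] {M : Type u} [AddCommGroup M] [Module A M]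
    (ℳ : ℤ → Submodule A M) [DirectSum.Decomposition ℳ] (v : ℤ) (y : ℳ v) :
    projv ℳ v (y : M) = y := by
  simp only [projv, LinearMap.comp_apply, LinearEquiv.coe_coe, DirectSum.decomposeLinearEquiv_apply]
  rw [DirectSum.decompose_coe, ← DirectSum.apply_eq_component, DirectSum.of_eq_same]

theorem GF1 {A : Type u} [CommRing A] {R : Type u} [CommRing R] [Algebra A R]
    [Algebra.FiniteType A R] {M : Type u} [AddCommGroup M] [Module A M] [Module R M]
    [IsScalarTower A R M] [Module.Finite R M]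
    (ℳ : ℤ → Submodule A M) [DirectSum.Decomposition ℳ]
    (p : Ideal A) [p.IsPrime] (hfg : ∀ v, Module.Finite A (ℳ v)) :
    ∃ F : A ⧸ p, F ≠ 0 ∧ ∀ (v : ℤ) (k : ℕ),
      Fitt.ideal (A ⧸ p) ((A ⧸ p) ⊗[A] ℳ v) k ≠ ⊥ →
      ∃ n : ℕ, F ^ n ∈ Fitt.ideal (A ⧸ p) ((A ⧸ p) ⊗[A] ℳ v) k := by
  classical
  letI instDN : Module (A ⧸ p) (M ⧸ (Ideal.map (algebraMap A R) p • ⊤ : Submodule R M)) :=
    Module.compHom _ (algebraMap (A ⧸ p) (R ⧸ Ideal.map (algebraMap A R) p))
  haveI tow1 : IsScalarTower (A ⧸ p) (R ⧸ Ideal.map (algebraMap A R) p)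
      (M ⧸ (Ideal.map (algebraMap A R) p • ⊤ : Submodule R M)) :=
    IsScalarTower.of_algebraMap_smul (fun r x => rfl)
  have hAD : ∀ (a : A) (n : M ⧸ (Ideal.map (algebraMap A R) p • ⊤ : Submodule R M)),
      (algebraMap A (A ⧸ p) a) • n = a • n := by
    intro a n
    induction n using Submodule.Quotient.induction_on with
    | H m =>
      show Submodule.Quotient.mk ((algebraMap A R a) • m) = Submodule.Quotient.mk (a • m)
      rw [algebraMap_smul]
  haveI tow2 : IsScalarTower A (A ⧸ p) (M ⧸ (Ideal.map (algebraMap A R) p • ⊤ : Submodule R M)) :=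
    IsScalarTower.of_algebraMap_smul hAD
  haveI ft1 : Algebra.FiniteType A (R ⧸ Ideal.map (algebraMap A R) p) :=
    Algebra.FiniteType.of_surjective (Ideal.Quotient.mkₐ A (Ideal.map (algebraMap A R) p))
      (Ideal.Quotient.mkₐ_surjective A _)
  haveI ft2 : Algebra.FiniteType (A ⧸ p) (R ⧸ Ideal.map (algebraMap A R) p) :=
    Algebra.FiniteType.of_restrictScalars_finiteType A (A ⧸ p) (R ⧸ Ideal.map (algebraMap A R) p)
  haveI fin1 : Module.Finite (R ⧸ Ideal.map (algebraMap A R) p)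
      (M ⧸ (Ideal.map (algebraMap A R) p • ⊤ : Submodule R M)) :=
    Module.Finite.of_restrictScalars_finite R _ _
  haveI fin2 : ∀ v, Module.Finite (A ⧸ p) ((A ⧸ p) ⊗[A] ℳ v) := fun v => by
    haveI := hfg v
    infer_instance
  -- inclusion
  let inc : ∀ v, ℳ v →ₗ[A] (M ⧸ (Ideal.map (algebraMap A R) p • ⊤ : Submodule R M)) := fun v =>
    ((Ideal.map (algebraMap A R) p • ⊤ : Submodule R M).mkQ.restrictScalars A) ∘ₗ (ℳ v).subtype
  let i0 : ∀ v, (A ⧸ p) ⊗[A] ℳ v →ₗ[A ⧸ p]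
      (M ⧸ (Ideal.map (algebraMap A R) p • ⊤ : Submodule R M)) :=
    fun v => LinearMap.liftBaseChange (A ⧸ p) (inc v)
  -- retraction
  let g : ∀ v, M →ₗ[A] (A ⧸ p) ⊗[A] ℳ v := fun v =>
    (TensorProduct.mk A (A ⧸ p) (ℳ v) 1) ∘ₗ projv ℳ v
  have hg : ∀ v (j : R), j ∈ Ideal.map (algebraMap A R) p → ∀ m : M, g v (j • m) = 0 := by
    intro v j hj
    refine Submodule.span_induction (p := fun j _ => ∀ m : M, g v (j • m) = 0) ?_ ?_ ?_ ?_ hj
    · rintro _ ⟨a, ha, rfl⟩ m
      rw [algebraMap_smul, map_smul]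
      show a • ((1 : A ⧸ p) ⊗ₜ[A] projv ℳ v m) = 0
      rw [TensorProduct.smul_tmul', Algebra.smul_def, mul_one, Ideal.Quotient.algebraMap_eq,
        Ideal.Quotient.eq_zero_iff_mem.mpr ha, TensorProduct.zero_tmul]
    · intro m
      rw [zero_smul, map_zero]
    · intro x y _ _ hx hy m
      rw [add_smul, map_add, hx, hy, add_zero]
    · intro r x _ hx m
      rw [smul_eq_mul, mul_comm, mul_smul]
      exact hx _
  have hker : ∀ v, (Ideal.map (algebraMap A R) p • ⊤ : Submodule R M).restrictScalars A ≤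
      LinearMap.ker (g v) := by
    intro v x hx
    rw [Submodule.restrictScalars_mem] at hx
    rw [LinearMap.mem_ker]
    refine Submodule.smul_induction_on hx ?_ ?_
    · intro j hj m _
      exact hg v j hj m
    · intro x y hx hy
      rw [map_add, hx, hy, add_zero]
  let r0A : ∀ v, (M ⧸ (Ideal.map (algebraMap A R) p • ⊤ : Submodule R M)) →ₗ[A]
      (A ⧸ p) ⊗[A] ℳ v := fun v =>
    (((Ideal.map (algebraMap A R) p • ⊤ : Submodule R M).restrictScalars A).liftQ (g v) (hker v)) ∘ₗ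
      (Submodule.Quotient.restrictScalarsEquiv A
        (Ideal.map (algebraMap A R) p • ⊤ : Submodule R M)).symm.toLinearMap
  have hsurj : Function.Surjective (algebraMap A (A ⧸ p)) := Ideal.Quotient.mk_surjective
  let r0 : ∀ v, (M ⧸ (Ideal.map (algebraMap A R) p • ⊤ : Submodule R M)) →ₗ[A ⧸ p]
      (A ⧸ p) ⊗[A] ℳ v := fun v =>
    LinearMap.extendScalarsOfSurjective hsurj (r0A v)
  have hri : ∀ v, (r0 v) ∘ₗ (i0 v) = LinearMap.id := by
    intro v
    apply TensorProduct.AlgebraTensorModule.ext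
    intro d y
    show r0 v (i0 v (d ⊗ₜ[A] y)) = d ⊗ₜ[A] y
    have e1 : i0 v (d ⊗ₜ[A] y) = d • Submodule.Quotient.mk (y : M) := rfl
    rw [e1, map_smul]
    have e2 : r0 v (Submodule.Quotient.mk (y : M)) = (1 : A ⧸ p) ⊗ₜ[A] projv ℳ v (y : M) := rfl
    rw [e2, projv_coe, TensorProduct.smul_tmul', smul_eq_mul, mul_one]
  exact GF0 (D := A ⧸ p) (S := R ⧸ Ideal.map (algebraMap A R) p) (fun v => (A ⧸ p) ⊗[A] ℳ v) i0 r0 hri

theorem exists_GF {A : Type u} [CommRing A] {R : Type u} [CommRing R] [Algebra A R]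
    [Algebra.FiniteType A R] {M : Type u} [AddCommGroup M] [Module A M] [Module R M]
    [IsScalarTower A R M] [Module.Finite R M]
    (ℳ : ℤ → Submodule A M) [DirectSum.Decomposition ℳ]
    (p : Ideal A) [p.IsPrime] (hfg : ∀ v, Module.Finite A (ℳ v)) :
    ∃ f : A, f ∉ p ∧ ∀ (v : ℤ) (k : ℕ), ¬ Fitt.ideal A (ℳ v) k ≤ p →
      ∃ n : ℕ, f ^ n ∈ Fitt.ideal A (ℳ v) k ⊔ p := by
  obtain ⟨F, hF, hall⟩ := GF1 (R := R) ℳ p hfg
  obtain ⟨f, rfl⟩ := Ideal.Quotient.mk_surjective F
  refine ⟨f, fun hfp => hF (Ideal.Quotient.eq_zero_iff_mem.mpr hfp), ?_⟩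
  intro v k hnle
  haveI := hfg v
  have hbc := ideal_baseChange (R := A) (A ⧸ p) (ℳ v) k
  rw [Ideal.Quotient.algebraMap_eq] at hbc
  have hne : Fitt.ideal (A ⧸ p) ((A ⧸ p) ⊗[A] ℳ v) k ≠ ⊥ := by
    rw [hbc]
    intro h0
    apply hnle
    intro x hx
    have h2 : Ideal.Quotient.mk p x ∈ (Fitt.ideal A (ℳ v) k).map (Ideal.Quotient.mk p) :=
      Ideal.mem_map_of_mem _ hx
    rw [h0, Ideal.mem_bot] at h2
    exact Ideal.Quotient.eq_zero_iff_mem.mp h2
  obtain ⟨n, hn⟩ := hall v k hne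
  refine ⟨n, ?_⟩
  rw [hbc, ← map_pow] at hn
  exact Ideal.mem_quotient_iff_mem_sup.mp hn

end Concrete

end Groth.Agent.H4.GrFlatC
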