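import Mathlib.RingTheory.GradedAlgebra.Basic
import Mathlib.Algebra.Polynomial.AlgebraMap
import Mathlib.RingTheory.FiniteType
import Mathlib.RingTheory.Noetherian.Basic
import Mathlib.Algebra.Algebra.Operations
import Mathlib.Algebra.DirectSum.Internal

set_option autoImplicit false
set_option linter.unusedSectionVars false
set_option linter.unusedVariables false
universe u

namespace Groth.Agent.H4.GradedNat

open DirectSum

variable {R A : Type u} [CommRing R] [CommRing A] [Algebra R A]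
  (𝒜 : ℕ → Submodule R A) [GradedAlgebra 𝒜]

/-- the part of degree at least `n`. -/
def ge (n : ℕ) : Submodule R A := ⨆ (m : ℕ) (_ : n ≤ m), 𝒜 m

theorem le_ge {n m : ℕ} (h : n ≤ m) : 𝒜 m ≤ ge 𝒜 n :=
  le_iSup₂ (f := fun m (_ : n ≤ m) => 𝒜 m) m h

theorem ge_antitone {n m : ℕ} (h : n ≤ m) : ge 𝒜 m ≤ ge 𝒜 n :=
  iSup₂_le fun k hk => le_ge 𝒜 (h.trans hk)

theorem graded_mul_le (a b : ℕ) : 𝒜 a * 𝒜 b ≤ 𝒜 (a + b) :=
  Submodule.mul_le.2 fun _ hx _ hy => SetLike.mul_mem_graded hx hy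

theorem ge_mul_ge_le (a b : ℕ) : ge 𝒜 a * ge 𝒜 b ≤ ge 𝒜 (a + b) := by
  unfold ge
  rw [Submodule.iSup_mul]
  refine iSup_le fun i => ?_
  rw [Submodule.iSup_mul]
  refine iSup_le fun hi => ?_
  rw [Submodule.mul_iSup]
  refine iSup_le fun j => ?_
  rw [Submodule.mul_iSup]
  refine iSup_le fun hj => ?_
  exact (graded_mul_le 𝒜 i j).trans
    (le_iSup₂ (f := fun m (_ : a + b ≤ m) => 𝒜 m) (i + j) (Nat.add_le_add hi hj))

theorem proj_mem (i : ℕ) (x : A) : GradedAlgebra.proj 𝒜 i x ∈ 𝒜 i := by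
  rw [GradedAlgebra.proj_apply]
  exact SetLike.coe_mem _

/-- key component computation -/
theorem proj_mul_of_mem_ge {a b : ℕ} {w y : A} (hw : w ∈ ge 𝒜 a) (hy : y ∈ ge 𝒜 b) :
    GradedAlgebra.proj 𝒜 (a + b) (w * y) = GradedAlgebra.proj 𝒜 a w * GradedAlgebra.proj 𝒜 b y := by
  -- linear in w
  let Nw : Submodule R A := LinearMap.eqLocus
    ((GradedAlgebra.proj 𝒜 (a + b)).comp (LinearMap.mulRight R y))
    ((LinearMap.mulRight R (GradedAlgebra.proj 𝒜 b y)).comp (GradedAlgebra.proj 𝒜 a))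
  suffices h : ge 𝒜 a ≤ Nw by
    have := h hw
    simpa [Nw, LinearMap.mem_eqLocus] using this
  refine iSup₂_le fun m hm => ?_
  intro w' hw'
  -- now w' homogeneous of degree m ≥ a; linear in y
  let Ny : Submodule R A := LinearMap.eqLocus
    ((GradedAlgebra.proj 𝒜 (a + b)).comp (LinearMap.mulLeft R w'))
    ((LinearMap.mulLeft R (GradedAlgebra.proj 𝒜 a w')).comp (GradedAlgebra.proj 𝒜 b))
  suffices h : ge 𝒜 b ≤ Ny by
    have := h hy
    simpa [Nw, Ny, LinearMap.mem_eqLocus] using this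
  refine iSup₂_le fun l hl => ?_
  intro y' hy'
  simp only [Ny, LinearMap.mem_eqLocus, LinearMap.comp_apply, LinearMap.mulLeft_apply,
    GradedAlgebra.proj_apply]
  have hwy : w' * y' ∈ 𝒜 (m + l) := SetLike.mul_mem_graded hw' hy'
  by_cases h1 : m = a
  · by_cases h2 : l = b
    · subst h1 h2
      rw [decompose_of_mem_same 𝒜 hwy, decompose_of_mem_same 𝒜 hw', decompose_of_mem_same 𝒜 hy']
    · rw [decompose_of_mem_ne 𝒜 hwy (by omega), decompose_of_mem_ne 𝒜 hy' h2, mul_zero]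
  · rw [decompose_of_mem_ne 𝒜 hwy (by omega), decompose_of_mem_ne 𝒜 hw' h1, zero_mul]

theorem ge_mul_ge_le_comap (a b : ℕ) :
    ge 𝒜 a * ge 𝒜 b ≤ (𝒜 a * 𝒜 b).comap (GradedAlgebra.proj 𝒜 (a + b)) := by
  refine Submodule.mul_le.2 fun w hw y hy => ?_
  rw [Submodule.mem_comap, proj_mul_of_mem_ge 𝒜 hw hy]
  exact Submodule.mul_mem_mul (proj_mem 𝒜 a w) (proj_mem 𝒜 b y)

theorem proj_of_mem {n : ℕ} {x : A} (hx : x ∈ 𝒜 n) : GradedAlgebra.proj 𝒜 n x = x := by
  rw [GradedAlgebra.proj_apply, decompose_of_mem_same 𝒜 hx]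

theorem ge_zero : ge 𝒜 0 = ⊤ := by
  have : ge 𝒜 0 = ⨆ m, 𝒜 m := by
    unfold ge
    simp
  rw [this]
  exact (DirectSum.Decomposition.isInternal 𝒜).submodule_iSup_eq_top

theorem T1 (n₀ : ℕ) :
    (∀ n : ℕ, n₀ ≤ n → ge 𝒜 (n + 1) = ge 𝒜 1 * ge 𝒜 n) ↔
      (∀ n : ℕ, n₀ ≤ n → 𝒜 (n + 1) = 𝒜 1 * 𝒜 n) := by
  constructor
  · intro h n hn
    apply le_antisymm
    · intro x hx
      have h1 : x ∈ ge 𝒜 1 * ge 𝒜 n := by
        rw [← h n hn]; exact le_ge 𝒜 le_rfl hx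
      have h2 := ge_mul_ge_le_comap 𝒜 1 n h1
      rw [Submodule.mem_comap, add_comm 1 n, proj_of_mem 𝒜 hx] at h2
      exact h2
    · have := graded_mul_le 𝒜 1 n
      rwa [add_comm 1 n] at this
  · intro h n hn
    apply le_antisymm
    · refine iSup₂_le fun m hm => ?_
      obtain ⟨m', rfl⟩ : ∃ m', m = m' + 1 := ⟨m - 1, by omega⟩
      rw [h m' (by omega)]
      exact mul_le_mul' (le_ge 𝒜 le_rfl) (le_ge 𝒜 (by omega))
    · have := ge_mul_ge_le 𝒜 1 n
      rwa [add_comm 1 n] at this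

theorem one_le_graded_zero : (1 : Submodule R A) ≤ 𝒜 0 := by
  rw [Submodule.one_le]
  exact SetLike.GradedOne.one_mem

theorem pow_le_graded (n : ℕ) : (𝒜 1) ^ n ≤ 𝒜 n := by
  induction n with
  | zero => rw [pow_zero]; exact one_le_graded_zero 𝒜
  | succ n ih =>
    rw [pow_succ]
    exact (mul_le_mul' ih le_rfl).trans (graded_mul_le 𝒜 n 1)

theorem ge_pow_le (n : ℕ) :
    (ge 𝒜 1) ^ n ≤ ge 𝒜 n ⊓ ((𝒜 1) ^ n).comap (GradedAlgebra.proj 𝒜 n) := by
  induction n with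
  | zero =>
    rw [pow_zero, pow_zero, Submodule.one_le]
    refine ⟨?_, ?_⟩
    · rw [ge_zero]; trivial
    · change GradedAlgebra.proj 𝒜 0 1 ∈ (1 : Submodule R A)
      rw [proj_of_mem 𝒜 (SetLike.GradedOne.one_mem)]
      exact Submodule.one_le.1 le_rfl
  | succ n ih =>
    rw [pow_succ, pow_succ]
    refine Submodule.mul_le.2 fun w hw y hy => ?_
    obtain ⟨hw1, hw2⟩ := ih hw
    refine ⟨ge_mul_ge_le 𝒜 n 1 (Submodule.mul_mem_mul hw1 hy), ?_⟩
    change GradedAlgebra.proj 𝒜 (n + 1) (w * y) ∈ 𝒜 1 ^ n * 𝒜 1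
    rw [proj_mul_of_mem_ge 𝒜 hw1 hy]
    exact Submodule.mul_mem_mul hw2 (proj_mem 𝒜 1 y)

theorem top_mul_ge_one_le : (⊤ : Submodule R A) * ge 𝒜 1 ≤ ge 𝒜 1 := by
  rw [← ge_zero 𝒜]
  have := ge_mul_ge_le 𝒜 0 1
  rwa [zero_add] at this

theorem ge_pow_antitone {n m : ℕ} (hn : 1 ≤ n) (hnm : n ≤ m) :
    (ge 𝒜 1) ^ m ≤ (ge 𝒜 1) ^ n := by
  obtain ⟨d, rfl⟩ := Nat.exists_eq_add_of_le hnm
  obtain ⟨n', rfl⟩ : ∃ n', n = n' + 1 := ⟨n - 1, by omega⟩
  rw [add_comm (n' + 1) d, pow_add, pow_succ', ← mul_assoc]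
  refine mul_le_mul' ?_ le_rfl
  exact (mul_le_mul' le_top le_rfl).trans (top_mul_ge_one_le 𝒜)

theorem T2 (n₀ : ℕ) (hn₀ : 1 ≤ n₀) :
    (∀ n : ℕ, n₀ ≤ n → ge 𝒜 n = (ge 𝒜 1) ^ n) ↔
      (∀ n : ℕ, n₀ ≤ n → 𝒜 n = (𝒜 1) ^ n) := by
  constructor
  · intro h n hn
    apply le_antisymm
    · intro x hx
      have h1 : x ∈ (ge 𝒜 1) ^ n := by
        rw [← h n hn]; exact le_ge 𝒜 le_rfl hx
      have h2 : GradedAlgebra.proj 𝒜 n x ∈ 𝒜 1 ^ n := (ge_pow_le 𝒜 n h1).2
      rw [proj_of_mem 𝒜 hx] at h2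
      exact h2
    · exact pow_le_graded 𝒜 n
  · intro h n hn
    apply le_antisymm
    · refine iSup₂_le fun m hm => ?_
      rw [h m (by omega)]
      exact (pow_le_pow_left' (le_ge 𝒜 le_rfl) m).trans (ge_pow_antitone 𝒜 (by omega) hm)
    · exact fun x hx => (ge_pow_le 𝒜 n hx).1

section transfer

open Polynomial

/-- `a ↦ a X^n` as an `R`-linear map. -/
noncomputable def mon (R : Type u) {A : Type u} [CommRing R] [CommRing A] [Algebra R A] (n : ℕ) :
    A →ₗ[R] Polynomial A :=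
  (Polynomial.monomial n : A →ₗ[A] Polynomial A).restrictScalars R

omit [GradedAlgebra 𝒜] in
theorem mon_apply (n : ℕ) (a : A) : mon R n a = Polynomial.monomial n a := rfl

omit [GradedAlgebra 𝒜] in
theorem mon_injective (n : ℕ) : Function.Injective (mon R (A := A) n) :=
  Polynomial.monomial_injective n

omit [GradedAlgebra 𝒜] in
theorem map_mon_mul (a b : ℕ) (M N : Submodule R A) :
    Submodule.map (mon R a) M * Submodule.map (mon R b) N = Submodule.map (mon R (a + b)) (M * N) := by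
  apply le_antisymm
  · refine Submodule.mul_le.2 ?_
    rintro _ ⟨x, hx, rfl⟩ _ ⟨y, hy, rfl⟩
    refine ⟨x * y, Submodule.mul_mem_mul hx hy, ?_⟩
    simp only [mon_apply, Polynomial.monomial_mul_monomial]
  · rw [Submodule.map_le_iff_le_comap]
    refine Submodule.mul_le.2 fun x hx y hy => ?_
    rw [Submodule.mem_comap]
    have : mon R (a + b) (x * y) = mon R a x * mon R b y := by
      simp only [mon_apply, Polynomial.monomial_mul_monomial]
    rw [this]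
    exact Submodule.mul_mem_mul ⟨x, hx, rfl⟩ ⟨y, hy, rfl⟩

omit [GradedAlgebra 𝒜] in
theorem map_mon_pow (M : Submodule R A) (n : ℕ) :
    Submodule.map (mon R 1) M ^ n = Submodule.map (mon R n) (M ^ n) := by
  induction n with
  | zero =>
    rw [pow_zero, pow_zero, Submodule.one_eq_span, Submodule.one_eq_span, Submodule.map_span,
      Set.image_singleton, mon_apply, Polynomial.monomial_zero_one]
  | succ n ih =>
    rw [pow_succ, pow_succ, ih, map_mon_mul]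

variable {B : Type u} [CommRing B] [Algebra R B] (ℬ : ℕ → Submodule R B)
  (φ : B →ₐ[R] Polynomial A) (hφ : Function.Injective φ)
  (hdeg : ∀ n : ℕ, Submodule.map φ.toLinearMap (ℬ n) = Submodule.map (mon R n) (ge 𝒜 n))

include hφ hdeg

omit [GradedAlgebra 𝒜] in
theorem succ_iff (n : ℕ) : ℬ (n + 1) = ℬ 1 * ℬ n ↔ ge 𝒜 (n + 1) = ge 𝒜 1 * ge 𝒜 n := by
  have h1 : Submodule.map φ.toLinearMap (ℬ 1 * ℬ n) = Submodule.map (mon R (n + 1)) (ge 𝒜 1 * ge 𝒜 n) := by
    rw [Submodule.map_mul, hdeg 1, hdeg n, map_mon_mul, add_comm 1 n]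
  constructor
  · intro h
    have h2 := congrArg (Submodule.map φ.toLinearMap) h
    rw [h1, hdeg (n + 1)] at h2
    exact Submodule.map_injective_of_injective (mon_injective (R := R) (n + 1)) h2
  · intro h
    apply Submodule.map_injective_of_injective (f := φ.toLinearMap) hφ
    rw [h1, hdeg (n + 1), h]

omit [GradedAlgebra 𝒜] in
theorem pow_iff (n : ℕ) : ℬ n = ℬ 1 ^ n ↔ ge 𝒜 n = ge 𝒜 1 ^ n := by
  have h1 : Submodule.map φ.toLinearMap (ℬ 1 ^ n) = Submodule.map (mon R n) (ge 𝒜 1 ^ n) := by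
    rw [Submodule.map_pow, hdeg 1, map_mon_pow]
  constructor
  · intro h
    have h2 := congrArg (Submodule.map φ.toLinearMap) h
    rw [h1, hdeg n] at h2
    exact Submodule.map_injective_of_injective (mon_injective (R := R) n) h2
  · intro h
    apply Submodule.map_injective_of_injective (f := φ.toLinearMap) hφ
    rw [h1, hdeg n, h]

end transfer

end Groth.Agent.H4.GradedNat
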