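import Mathlib

open AlgebraicGeometry CategoryTheory CategoryTheory.Limits

universe u

namespace Groth.Agent.H4.GraphClosure

theorem main {X Y S : Scheme.{u}} [IsNoetherian X] (a : X ⟶ S) (b : Y ⟶ S)
    [IsProper b] (U : X.Opens) (f : (U : Scheme.{u}) ⟶ Y) (hf : f ≫ b = U.ι ≫ a) :
    ∃ (X' : Scheme.{u}) (p : X' ⟶ X) (f' : X' ⟶ Y), IsProper p ∧ IsIso (p ∣_ U) ∧ f' ≫ b = p ≫ a ∧
      (p ⁻¹ᵁ U).ι ≫ f' = (p ∣_ U) ≫ f := by
  let pr1 : pullback a b ⟶ X := pullback.fst a b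
  let pr2 : pullback a b ⟶ Y := pullback.snd a b
  let Γ : (U : Scheme.{u}) ⟶ pullback a b := pullback.lift U.ι f hf.symm
  have hΓ1 : Γ ≫ pr1 = U.ι := pullback.lift_fst _ _ _
  have hΓ2 : Γ ≫ pr2 = f := pullback.lift_snd _ _ _
  have : TopologicalSpace.NoetherianSpace (U : Scheme.{u}) :=
    inferInstanceAs (TopologicalSpace.NoetherianSpace (U : Set X))
  have : QuasiCompact Γ := inferInstance
  let ι : Γ.image ⟶ pullback a b := Γ.imageι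
  let T : (U : Scheme.{u}) ⟶ Γ.image := Γ.toImage
  have hT : T ≫ ι = Γ := Γ.toImage_imageι
  let p : Γ.image ⟶ X := ι ≫ pr1
  let V : (pullback a b).Opens := pr1 ⁻¹ᵁ U
  have hTp : T ≫ p = U.ι := by
    show T ≫ ι ≫ pr1 = _
    rw [← Category.assoc, hT, hΓ1]
  have hrange : Set.range T ⊆ Set.range (p ⁻¹ᵁ U).ι := by
    rintro _ ⟨x, rfl⟩
    rw [Scheme.Opens.range_ι]
    show p (T x) ∈ U
    have : p (T x) = U.ι x := by rw [← hTp]; rfl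
    rw [this]; exact x.2
  let g : (U : Scheme.{u}) ⟶ (p ⁻¹ᵁ U : Γ.image.Opens) := IsOpenImmersion.lift (p ⁻¹ᵁ U).ι T hrange
  have hg : g ≫ (p ⁻¹ᵁ U).ι = T := IsOpenImmersion.lift_fac _ _ _
  have hgp : g ≫ (p ∣_ U) = 𝟙 _ := by
    rw [← cancel_mono U.ι, Category.assoc, morphismRestrict_ι, ← Category.assoc, hg, hTp,
      Category.id_comp]
  have hpre : Γ ⁻¹ᵁ V = ⊤ := by
    refine eq_top_iff.mpr (fun x _ => ?_)
    show pr1 (Γ x) ∈ U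
    have : pr1 (Γ x) = U.ι x := by rw [← hΓ1]; rfl
    rw [this]; exact x.2
  have : IsIso (Γ ⁻¹ᵁ V).ι := by
    apply isIso_of_isOpenImmersion_of_opensRange_eq_top
    rw [Scheme.Opens.opensRange_ι, hpre]
  let i₁ : (U : Scheme.{u}) ⟶ V := inv (Γ ⁻¹ᵁ V).ι ≫ (Γ ∣_ V)
  let i₂ : ((p ⁻¹ᵁ U : Γ.image.Opens) : Scheme.{u}) ⟶ V := ι ∣_ V
  have hi₁ : i₁ ≫ V.ι = Γ := by
    show (inv (Γ ⁻¹ᵁ V).ι ≫ (Γ ∣_ V)) ≫ V.ι = Γ
    rw [Category.assoc, morphismRestrict_ι, IsIso.inv_hom_id_assoc]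
  have hi₂ : i₂ ≫ V.ι = (p ⁻¹ᵁ U).ι ≫ ι := morphismRestrict_ι ι V
  have h12 : g ≫ i₂ = i₁ := by
    rw [← cancel_mono V.ι, Category.assoc, hi₂, hi₁, ← Category.assoc, hg, hT]
  have : IsSeparated (pr1 ∣_ U) := inferInstance
  have hsec : i₁ ≫ (pr1 ∣_ U) = 𝟙 _ := by
    rw [← cancel_mono U.ι, Category.assoc, morphismRestrict_ι, ← Category.assoc, hi₁, hΓ1,
      Category.id_comp]
  have : IsClosedImmersion i₁ := by
    have : IsClosedImmersion (i₁ ≫ (pr1 ∣_ U)) := by rw [hsec]; infer_instance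
    exact IsClosedImmersion.of_comp i₁ (pr1 ∣_ U)
  have : IsClosedImmersion i₂ := inferInstanceAs (IsClosedImmersion (ι ∣_ V))
  have hker : i₁.ker = i₂.ker := by
    have h1 : i₁.ker = (Γ ∣_ V).ker := Scheme.Hom.ker_comp_of_isIso _ _
    rw [h1]
    ext O : 2
    show (Γ ∣_ V).ker.ideal O = (ι ∣_ V).ker.ideal O
    rw [Scheme.ker_morphismRestrict_ideal, Scheme.ker_morphismRestrict_ideal]
    show Γ.ker.ideal _ = Γ.imageι.ker.ideal _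
    rw [Scheme.IdealSheafData.ker_subschemeι]
  have : IsIso g := IsClosedImmersion.isIso_of_ker_eq i₁ i₂ g h12 hker
  have hpinv : (p ∣_ U) = inv g := by
    rw [← cancel_epi g, hgp, IsIso.hom_inv_id]
  refine ⟨Γ.image, p, ι ≫ pr2, inferInstance, ?_, ?_, ?_⟩
  · rw [hpinv]; infer_instance
  · show (ι ≫ pr2) ≫ b = (ι ≫ pr1) ≫ a
    rw [Category.assoc, Category.assoc, pullback.condition]
  · have e1 : g ≫ (p ⁻¹ᵁ U).ι ≫ ι ≫ pr2 = f := by rw [reassoc_of% hg, reassoc_of% hT, hΓ2]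
    have e2 : g ≫ (p ∣_ U) ≫ f = f := by rw [reassoc_of% hgp]
    rw [← cancel_epi g, e1, e2]

end Groth.Agent.H4.GraphClosure
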