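import Mathlib

set_option autoImplicit false
universe u
open CategoryTheory CategoryTheory.Limits AlgebraicGeometry

namespace Groth.Agent.H4.GraphExt

lemma quasiCompact_fromSpecStalk_generic (T : Scheme.{u}) [IsIntegral T] :
    QuasiCompact (T.fromSpecStalk (genericPoint T)) := by
  have : Finite ↥(Spec (T.presheaf.stalk (genericPoint T))) := by
    have : Finite ↥(Spec (.of T.functionField)) := inferInstance
    exact this
  exact ⟨fun U _ _ => (Set.toFinite _).isCompact⟩

lemma isDominant_fromSpecStalk_generic (T : Scheme.{u}) [IsIntegral T] :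
    IsDominant (T.fromSpecStalk (genericPoint T)) := by
  rw [isDominant_iff, DenseRange]
  have h : Dense ({genericPoint T} : Set T) := by
    rw [dense_iff_closure_eq]
    exact (genericPoint_spec T).def
  refine h.mono ?_
  rintro _ rfl
  exact ⟨_, Scheme.fromSpecStalk_closedPoint⟩

lemma isSchemeTheoreticallyDominant_fst (T Y : Scheme.{u}) [IsIntegral T]
    (pY : Y ⟶ T) [Flat pY] :
    IsSchemeTheoreticallyDominant (pullback.fst pY (T.fromSpecStalk (genericPoint T))) := by
  have := quasiCompact_fromSpecStalk_generic T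
  have := isDominant_fromSpecStalk_generic T
  have : IsSchemeTheoreticallyDominant (T.fromSpecStalk (genericPoint T)) :=
    IsSchemeTheoreticallyDominant.of_isDominant _
  infer_instance

theorem main (T Y Z : Scheme.{u}) [IsIntegral T]
    (pY : Y ⟶ T) (pZ : Z ⟶ T) [Flat pY] [Flat pZ] [IsSeparated pZ]
    (ψ : pullback pY (T.fromSpecStalk (genericPoint T)) ⟶ Z)
    (hψ : ψ ≫ pZ = pullback.fst pY (T.fromSpecStalk (genericPoint T)) ≫ pY)
    (gr : pullback pY (T.fromSpecStalk (genericPoint T)) ⟶ pullback pY pZ)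
    (hgr₁ : gr ≫ pullback.fst pY pZ = pullback.fst pY (T.fromSpecStalk (genericPoint T)))
    (hgr₂ : gr ≫ pullback.snd pY pZ = ψ) :
    (∃ φ : Y ⟶ Z, φ ≫ pZ = pY ∧ pullback.fst pY (T.fromSpecStalk (genericPoint T)) ≫ φ = ψ) ↔
      IsIso (gr.imageι ≫ pullback.fst pY pZ) := by
  constructor
  · rintro ⟨φ, hφ, hφψ⟩
    let G : Y ⟶ pullback pY pZ := pullback.lift (𝟙 Y) φ (by rw [Category.id_comp, hφ])
    have hG1 : G ≫ pullback.fst pY pZ = 𝟙 Y := pullback.lift_fst _ _ _
    have hG2 : G ≫ pullback.snd pY pZ = φ := pullback.lift_snd _ _ _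
    have : IsClosedImmersion G := by
      have : IsClosedImmersion (G ≫ pullback.fst pY pZ) := by rw [hG1]; infer_instance
      exact IsClosedImmersion.of_comp G (pullback.fst pY pZ)
    have hgrG : gr = pullback.fst pY (T.fromSpecStalk (genericPoint T)) ≫ G := by
      apply pullback.hom_ext
      · rw [hgr₁, Category.assoc, hG1, Category.comp_id]
      · rw [hgr₂, Category.assoc, hG2, hφψ]
    have hle : G.ker ≤ gr.imageι.ker := by
      rw [Scheme.IdealSheafData.ker_subschemeι, hgrG]
      exact Scheme.Hom.le_ker_comp _ _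
    let ι : gr.image ⟶ Y := IsClosedImmersion.lift G gr.imageι hle
    have hι : ι ≫ G = gr.imageι := IsClosedImmersion.lift_fac _ _ _
    have he : gr.imageι ≫ pullback.fst pY pZ = ι := by
      rw [← hι, Category.assoc, hG1, Category.comp_id]
    rw [he]
    have : IsClosedImmersion ι := by
      have : IsClosedImmersion (ι ≫ G) := by rw [hι]; infer_instance
      exact IsClosedImmersion.of_comp ι G
    rw [IsClosedImmersion.isIso_iff_ker_eq_bot]
    have hf1 : pullback.fst pY (T.fromSpecStalk (genericPoint T)) = gr.toImage ≫ ι := by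
      rw [← he, ← Category.assoc, gr.toImage_imageι, hgr₁]
    have hdom := (isSchemeTheoreticallyDominant_fst T Y pY).ker_eq_bot
    have := Scheme.Hom.le_ker_comp gr.toImage ι
    rw [← hf1, hdom] at this
    exact le_bot_iff.mp this
  · intro h
    refine ⟨inv (gr.imageι ≫ pullback.fst pY pZ) ≫ gr.imageι ≫ pullback.snd pY pZ, ?_, ?_⟩
    · rw [Category.assoc, Category.assoc, ← pullback.condition, IsIso.inv_comp_eq,
        Category.assoc]
    · have hf1 : pullback.fst pY (T.fromSpecStalk (genericPoint T)) =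
          gr.toImage ≫ (gr.imageι ≫ pullback.fst pY pZ) := by
        rw [← Category.assoc, gr.toImage_imageι, hgr₁]
      rw [hf1, Category.assoc, IsIso.hom_inv_id_assoc, ← Category.assoc, gr.toImage_imageι, hgr₂]

end Groth.Agent.H4.GraphExt
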