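import Mathlib
import Groth.Statements.S16869
import Groth.Agent.Lib.Helper3.GerbAux
import Groth.Agent.Lib.Helper3.PointsFp
import Groth.Agent.Lib.Helper3.UnivInj
import Groth.Agent.Lib.Helper3.FFPostcomp
import Groth.Agent.Lib.Helper3.FibCatYoneda
import Groth.Agent.Lib.Helper3.AlgSt.Descent
import Groth.Agent.Lib.Helper3.AlgSt.Algebraic
import Groth.Agent.Lib.Helper3.AlgSt.Points.Topology

set_option autoImplicit false
universe v₃ u₃ v₂ u₂ v w u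
open CategoryTheory CategoryTheory.Functor CategoryTheory.Limits Opposite AlgebraicGeometry

noncomputable section

namespace Groth.Agent.H4.GrbA

open Groth.Agent.H3 Groth.Agent.H3.FibCatAux Groth.Agent.H3.GerbAux Groth.Agent.H3.StkAux
  Groth.Agent.H3.FPtRel Groth.Agent.H3.AlgStDescent Groth.Agent.H3.AlgStPoints
  Groth.Agent.H3.AlgStAlgebraic Groth.Agent.H3.FFPostcomp Groth.Agent.H3.FibCatYoneda

section General

variable {C : Type u} [Category.{v} C] {𝒴 : BasedCategory.{v₂, u₂} C}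

/-- 2-Yoneda, fullness on isomorphisms: two functors `C/U ⟶ 𝒴` over `C` into a category fibred in
groupoids whose values at the identity are joined by a morphism over `𝟙 U` are isomorphic. -/
theorem iso_of_app_id (h𝒴 : FibCat.IsFibGrpd 𝒴.p) {U : C} (G H : FibCat.overCat U ⥤ᵇ 𝒴)
    (ξ : G.obj (Over.mk (𝟙 U)) ⟶ H.obj (Over.mk (𝟙 U))) (hξ : 𝒴.p.IsHomLift (𝟙 U) ξ) :
    Nonempty (G ≅ H) := by
  haveI := hξ
  haveI hi : IsIso ξ := isIso_of_isHomLift_id 𝒴.p h𝒴 (U := U) ξ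
  haveI hinv : 𝒴.p.IsHomLift (𝟙 U) (inv ξ) := inferInstance
  have hG : FibCat.PreservesStronglyCartesian G := preserves_all h𝒴 G
  have hH : FibCat.PreservesStronglyCartesian H := preserves_all h𝒴 H
  refine ⟨⟨FibCatYoneda.ext G H hH ξ, FibCatYoneda.ext H G hG (inv ξ), ?_, ?_⟩⟩
  · apply natTrans_ext_of_app_id hG
    change (FibCatYoneda.ext G H hH ξ).toNatTrans.app (Over.mk (𝟙 U)) ≫
      (FibCatYoneda.ext H G hG (inv ξ)).toNatTrans.app (Over.mk (𝟙 U)) = 𝟙 _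
    rw [ext_app_id, ext_app_id, IsIso.hom_inv_id]
  · apply natTrans_ext_of_app_id hH
    change (FibCatYoneda.ext H G hG (inv ξ)).toNatTrans.app (Over.mk (𝟙 U)) ≫
      (FibCatYoneda.ext G H hH ξ).toNatTrans.app (Over.mk (𝟙 U)) = 𝟙 _
    rw [ext_app_id, ext_app_id, IsIso.inv_hom_id]

end General

variable {S : Scheme.{u}}

section Pts

variable {𝒳 : BasedCategory.{v₂, u₂} (Over S)} {𝒴 : BasedCategory.{v₃, u₃} (Over S)}

/-- a field-valued point over a point of the base of an object -/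
theorem exists_fpt_over (h𝒳 : FibCat.IsFibGrpd 𝒳.p) {V : Over S} (x : 𝒳.obj)
    (hx : 𝒳.p.obj x = V) (v : ↥V.left) : ∃ p : AlgSt.FPt 𝒳, Nonempty (p.obj ⟶ x) := by
  obtain ⟨a, ha⟩ : ∃ a : Over.mk (V.left.fromSpecResidueField v ≫ V.hom) ⟶ V,
      a = Over.homMk (V.left.fromSpecResidueField v) rfl := ⟨_, rfl⟩
  obtain ⟨x', φ, hφ⟩ := exists_lift'' h𝒳 a x hx
  exact ⟨{ K := ↥(V.left.residueField v)
           str := V.left.fromSpecResidueField v ≫ V.hom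
           obj := x'
           lies := IsHomLift.domain_eq 𝒳.p a φ }, ⟨φ⟩⟩

/-- objects lift locally ⇒ surjective on points -/
theorem surjective_of_locSurjObj (h𝒳 : FibCat.IsFibGrpd 𝒳.p) (f : 𝒳 ⥤ᵇ 𝒴)
    (hf : Gerb.LocSurjObj (AlgSp.J S) f) : Function.Surjective (AlgSt.Points.map f) := by
  intro z
  obtain ⟨q, rfl⟩ := AlgSt.Points.mk_surjective z
  rw [locSurjObj_iff] at hf
  obtain ⟨R, hR, h3⟩ := hf (Over.mk q.str) q.obj q.lies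
  obtain ⟨V, h, hRh, -, -, hrange⟩ := exists_family_of_mem_J R hR
  obtain ⟨t₀⟩ : Nonempty ↥(Spec (CommRingCat.of q.K)) := inferInstance
  obtain ⟨v, -⟩ := hrange t₀
  obtain ⟨x, g, hg⟩ := h3 (h t₀) (hRh t₀)
  have hx : 𝒳.p.obj x = V t₀ := (f.w_obj x).symm.trans (IsHomLift.domain_eq 𝒴.p (h t₀) g)
  obtain ⟨p, ⟨m⟩⟩ := exists_fpt_over h𝒳 x hx v
  refine ⟨AlgSt.Points.mk p, ?_⟩
  rw [AlgSt.Points.map_mk]
  exact AlgSt.Points.sound (rel_of_hom (p := p.map f) (q := q) (f.map m ≫ g))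

/-- morphisms lift locally ⇒ injective on points -/
theorem injective_of_locSurjHom (h𝒳 : FibCat.IsFibGrpd 𝒳.p) (h𝒴 : FibCat.IsFibGrpd 𝒴.p)
    (f : 𝒳 ⥤ᵇ 𝒴) (hf : Gerb.LocSurjHom (AlgSp.J S) f) :
    Function.Injective (AlgSt.Points.map f) := by
  intro z z' hzz'
  obtain ⟨w, hw1, hw2⟩ := exists_point_fp h𝒳 h𝒴 h𝒳 f f z z' hzz'
  obtain ⟨ω, rfl⟩ := AlgSt.Points.mk_surjective w
  rw [← hw1, ← hw2, AlgSt.Points.map_mk, AlgSt.Points.map_mk]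
  rw [locSurjHom_iff] at hf
  have hlies : 𝒳.p.obj ω.obj.obj.fst = Over.mk ω.str := ω.lies
  have hiso : 𝒴.p.IsHomLift (𝟙 (Over.mk ω.str)) ω.obj.obj.iso.hom := by
    have := ω.obj.property
    change 𝒴.p.IsHomLift (𝟙 (𝒳.p.obj ω.obj.obj.fst)) ω.obj.obj.iso.hom at this
    rw [hlies] at this
    exact this
  obtain ⟨R, hR, h3⟩ := hf (Over.mk ω.str) ω.obj.obj.fst ω.obj.obj.snd ω.obj.obj.iso.hom hiso
  obtain ⟨V, h, hRh, -, -, hrange⟩ := exists_family_of_mem_J R hR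
  obtain ⟨t₀⟩ : Nonempty ↥(Spec (CommRingCat.of ω.K)) := inferInstance
  obtain ⟨v, -⟩ := hrange t₀
  obtain ⟨x₀, φ, ψ, hφ, hψ, -⟩ := h3 (h t₀) (hRh t₀)
  have hx₀ : 𝒳.p.obj x₀ = V t₀ := IsHomLift.domain_eq 𝒳.p (h t₀) φ
  obtain ⟨p, ⟨m⟩⟩ := exists_fpt_over h𝒳 x₀ hx₀ v
  exact AlgSt.Points.sound ⟨p, m ≫ φ, m ≫ ψ, trivial⟩

end Pts

section Stacks

variable {𝒳 𝒴 𝒵 : AlgSt.Cat S}

/-- a chart of the target that lifts objectwise lifts as a functor -/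
theorem exists_iso_of_hom (h𝒳 : FibCat.IsFibGrpd 𝒳.p) (h𝒴 : FibCat.IsFibGrpd 𝒴.p) (f : 𝒳 ⥤ᵇ 𝒴)
    {U V : Over S} (c : V ⟶ U) (y : FibCat.overCat U ⥤ᵇ 𝒴) (x : 𝒳.obj) (hx : 𝒳.p.obj x = V)
    (g : f.obj x ⟶ y.obj (Over.mk (𝟙 U))) (hg : 𝒴.p.IsHomLift c g) :
    ∃ ξ : FibCat.overCat V ⥤ᵇ 𝒳,
      Nonempty (BasedFunctor.comp ξ f ≅ BasedFunctor.comp (AlgSt.overMap c) y) := by
  obtain ⟨ξ, i, j, hi, hj, e1, e2⟩ := exists_rep h𝒳 x hx
  refine ⟨ξ, ?_⟩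
  obtain ⟨A₀, hA₀⟩ : ∃ A₀ : Over U, A₀ = (AlgSt.overMap c).obj (Over.mk (𝟙 V)) := ⟨_, rfl⟩
  have hA₀hom : (𝟙 V ≫ c : V ⟶ U) = c := Category.id_comp c
  obtain ⟨k, hk⟩ : ∃ k : y.obj ((AlgSt.overMap c).obj (Over.mk (𝟙 V))) ⟶ y.obj (Over.mk (𝟙 U)),
      k = y.map (toId ((AlgSt.overMap c).obj (Over.mk (𝟙 V)))) := ⟨_, rfl⟩
  have hkl : 𝒴.p.IsHomLift c k := by
    have := map_toId_isHomLift y ((AlgSt.overMap c).obj (Over.mk (𝟙 V)))
    rw [hk]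
    change 𝒴.p.IsHomLift (𝟙 V ≫ c) _ at this
    rw [hA₀hom] at this
    exact this
  haveI hkc : 𝒴.p.IsStronglyCartesian c k := isStronglyCartesian_of_isHomLift 𝒴.p h𝒴 c k
  obtain ⟨m, hm⟩ : ∃ m : f.obj (ξ.obj (Over.mk (𝟙 V))) ⟶ y.obj (Over.mk (𝟙 U)),
      m = f.map i ≫ g := ⟨_, rfl⟩
  haveI hml : 𝒴.p.IsHomLift (𝟙 V ≫ c) m := by
    rw [hm]
    haveI : 𝒴.p.IsHomLift (𝟙 V) (f.map i) := inferInstance
    infer_instance
  obtain ⟨ζ, hζ⟩ : ∃ ζ : f.obj (ξ.obj (Over.mk (𝟙 V))) ⟶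
      y.obj ((AlgSt.overMap c).obj (Over.mk (𝟙 V))),
      ζ = IsStronglyCartesian.map 𝒴.p c k (f' := 𝟙 V ≫ c) rfl m := ⟨_, rfl⟩
  have hζl : 𝒴.p.IsHomLift (𝟙 V) ζ := by
    rw [hζ]
    exact IsStronglyCartesian.map_isHomLift 𝒴.p c k rfl m
  exact iso_of_app_id h𝒴 (BasedFunctor.comp ξ f) (BasedFunctor.comp (AlgSt.overMap c) y) ζ hζl

/-- **A gerbe between algebraic stacks is a homeomorphism on points.** -/
theorem isHomeomorph_of_isGerbeOver (h𝒳 : AlgSt.IsAlgStack Scheme.fppfPrecoverage 𝒳)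
    (h𝒴 : AlgSt.IsAlgStack Scheme.fppfPrecoverage 𝒴) (f : 𝒳 ⥤ᵇ 𝒴)
    (hf : Gerb.IsGerbeOver (QuotSh.J Scheme.fppfPrecoverage S) f) :
    IsHomeomorph (AlgSt.Points.map f) := by
  have hinj : Function.Injective (AlgSt.Points.map f) :=
    injective_of_locSurjHom h𝒳.isStack.1 h𝒴.isStack.1 f hf.2
  have hsurj : Function.Surjective (AlgSt.Points.map f) :=
    surjective_of_locSurjObj h𝒳.isStack.1 f hf.1
  refine ⟨continuous_points_map h𝒴 f, ?_, hinj, hsurj⟩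
  intro W hW
  rw [AlgSt.Points.isOpen_iff]
  intro U y _
  have h1 := (locSurjObj_iff (AlgSp.J S) f).1 hf.1
  obtain ⟨R, hR, h3⟩ := h1 U (y.obj (Over.mk (𝟙 U))) (y.w_obj _)
  obtain ⟨V, h, hRh, hfl, hlfp, hrange⟩ := exists_family_of_mem_J R hR
  have hch : ∀ t : ↥U.left, ∃ ξ : FibCat.overCat (V t) ⥤ᵇ 𝒳,
      Nonempty (BasedFunctor.comp ξ f ≅ BasedFunctor.comp (AlgSt.overMap (h t)) y) := by
    intro t
    obtain ⟨x, g, hg⟩ := h3 (h t) (hRh t)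
    have hx : 𝒳.p.obj x = V t := (f.w_obj x).symm.trans (IsHomLift.domain_eq 𝒴.p (h t) g)
    exact exists_iso_of_hom h𝒳.isStack.1 h𝒴.isStack.1 f (h t) y x hx g hg
  choose ξ hξ using hch
  have hpt : ∀ (t : ↥U.left) (v : ↥(V t).left),
      AlgSt.Points.ofChart y ((h t).left v) = AlgSt.Points.map f (AlgSt.Points.ofChart (ξ t) v) := by
    intro t v
    obtain ⟨ι⟩ := hξ t
    rw [← ofChart_overMap (h t) y v, ← ofChart_congr ι v, ofChart_comp]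
  have key : AlgSt.Points.ofChart y ⁻¹' (AlgSt.Points.map f '' W) =
      ⋃ t : ↥U.left, (h t).left '' (AlgSt.Points.ofChart (ξ t) ⁻¹' W) := by
    ext u
    simp only [Set.mem_preimage, Set.mem_image, Set.mem_iUnion]
    constructor
    · rintro ⟨w, hw, hwu⟩
      obtain ⟨v, hv⟩ := hrange u
      refine ⟨u, v, ?_, hv⟩
      have h4 : AlgSt.Points.map f (AlgSt.Points.ofChart (ξ u) v) = AlgSt.Points.map f w := by
        rw [← hpt u v, hv, hwu]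
      rw [hinj h4]
      exact hw
    · rintro ⟨t, v, hv, rfl⟩
      exact ⟨AlgSt.Points.ofChart (ξ t) v, hv, (hpt t v).symm⟩
  rw [key]
  refine isOpen_iUnion fun t => ?_
  haveI := hfl t
  haveI := hlfp t
  exact (h t).left.isOpenMap _ ((continuous_ofChart h𝒳 (V t) (ξ t)).isOpen_preimage W hW)

/-- **S16869** -/
theorem main (h𝒳 : AlgSt.IsAlgStack Scheme.fppfPrecoverage 𝒳)
    (h𝒴 : AlgSt.IsAlgStack Scheme.fppfPrecoverage 𝒴) (f : 𝒳 ⥤ᵇ 𝒴)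
    (hf : Gerb.IsGerbeOver (QuotSh.J Scheme.fppfPrecoverage S) f) :
    AlgSt.IsUnivHomeo Scheme.fppfPrecoverage f := by
  intro 𝒵 h𝒵 g
  exact isHomeomorph_of_isGerbeOver (isAlgStack_fp h𝒴.isStack h𝒴.diag h𝒵 h𝒳 g f) h𝒵
    (FibCat.fpFst g f) (isGerbeOver_fpFst _ h𝒵.isStack.1 h𝒴.isStack.1 g f hf)

end Stacks

end Groth.Agent.H4.GrbA
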