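import Mathlib
import Groth.Statements.S16870
import Groth.Agent.H4.GrbA
import Groth.Agent.Lib.Helper3.TwoCartSwap
import Groth.Agent.Lib.Helper3.AlgSt.ProdMap
import Groth.Agent.Lib.Helper3.AlgSt.QCMor
import Groth.Agent.Lib.Helper3.AlgSt.QCBase

set_option autoImplicit false
universe v₃ u₃ v₂ u₂ v w u
open CategoryTheory CategoryTheory.Functor CategoryTheory.Limits Opposite AlgebraicGeometry

noncomputable section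

namespace Groth.Agent.H4.GrbB

open Groth.Agent.H3 Groth.Agent.H3.FibCatAux Groth.Agent.H3.GerbAux Groth.Agent.H3.StkAux
  Groth.Agent.H3.FPtRel Groth.Agent.H3.AlgStDescent Groth.Agent.H3.AlgStPoints
  Groth.Agent.H3.AlgStAlgebraic Groth.Agent.H3.FFPostcomp Groth.Agent.H3.FibCatYoneda
  Groth.Agent.H3.FpCalc Groth.Agent.H3.TwoCart Groth.Agent.H3.AlgStProdMap
  Groth.Agent.H3.AlgStQCMor Groth.Agent.H4.GrbA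

variable {S : Scheme.{u}}

section Prod

variable {𝒜 ℬ 𝒞 𝒮 : AlgSt.Cat S}

theorem isGerbeOver_prodR (h𝒜 : FibCat.IsFibGrpd 𝒜.p) (hℬ : FibCat.IsFibGrpd ℬ.p)
    (h𝒞 : FibCat.IsFibGrpd 𝒞.p) (h𝒮 : FibCat.IsFibGrpd 𝒮.p)
    (s : 𝒜 ⥤ᵇ 𝒮) (t : ℬ ⥤ᵇ 𝒮) (b : 𝒞 ⥤ᵇ ℬ)
    (hb : Gerb.IsGerbeOver (QuotSh.J Scheme.fppfPrecoverage S) b) :
    Gerb.IsGerbeOver (QuotSh.J Scheme.fppfPrecoverage S) (prodR s t b) := by
  have hfp : FibCat.IsFibGrpd (FibCat.fp s t).p := X6401 s t h𝒜 hℬ h𝒮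
  have hfp2 : FibCat.IsFibGrpd (FibCat.fp (FibCat.fpSnd s t) b).p := X6401 _ _ hfp h𝒞 hℬ
  have h1 : Gerb.IsGerbeOver (QuotSh.J Scheme.fppfPrecoverage S)
      (FibCat.fpFst (FibCat.fpSnd s t) b) := isGerbeOver_fpFst _ hfp hℬ (FibCat.fpSnd s t) b hb
  have h2 : Gerb.IsGerbeOver (QuotSh.J Scheme.fppfPrecoverage S)
      (BasedFunctor.comp (FibCat.fpFst (FibCat.fpSnd s t) b) (BasedFunctor.id _)) :=
    isGerbeOver_comp _ hfp2 hfp _ _ h1 (isGerbeOver_of_isEquivOver _ hfp _ isEquivOver_id)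
  have h3 := isGerbeOver_of_iso _ (prodRIso s t b) h2
  exact isGerbeOver_of_comp_isEquivOver _ (pasteR s t b) (isEquivOver_pasteR s t b) _ h3

theorem isGerbeOver_prodL (h𝒜 : FibCat.IsFibGrpd 𝒜.p) (hℬ : FibCat.IsFibGrpd ℬ.p)
    (h𝒞 : FibCat.IsFibGrpd 𝒞.p) (h𝒮 : FibCat.IsFibGrpd 𝒮.p)
    (s : 𝒜 ⥤ᵇ 𝒮) (t : ℬ ⥤ᵇ 𝒮) (a : 𝒞 ⥤ᵇ 𝒜)
    (ha : Gerb.IsGerbeOver (QuotSh.J Scheme.fppfPrecoverage S) a) :
    Gerb.IsGerbeOver (QuotSh.J Scheme.fppfPrecoverage S) (prodL s t a) := by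
  have hfp : FibCat.IsFibGrpd (FibCat.fp s t).p := X6401 s t h𝒜 hℬ h𝒮
  have hfp2 : FibCat.IsFibGrpd (FibCat.fp a (FibCat.fpFst s t)).p := X6401 _ _ h𝒞 hfp h𝒜
  have h1 : Gerb.IsGerbeOver (QuotSh.J Scheme.fppfPrecoverage S)
      (FibCat.fpSnd a (FibCat.fpFst s t)) :=
    isGerbeOver_of_isTwoCartOver _ h𝒞 h𝒜 hfp2 hfp a (FibCat.fpFst s t)
      (FibCat.fpSnd a (FibCat.fpFst s t)) (FibCat.fpFst a (FibCat.fpFst s t))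
      (FibCat.fpIso a (FibCat.fpFst s t)).symm (swap_isTwoCartOver a (FibCat.fpFst s t)) ha
  have h2 : Gerb.IsGerbeOver (QuotSh.J Scheme.fppfPrecoverage S)
      (BasedFunctor.comp (FibCat.fpSnd a (FibCat.fpFst s t)) (BasedFunctor.id _)) :=
    isGerbeOver_comp _ hfp2 hfp _ _ h1 (isGerbeOver_of_isEquivOver _ hfp _ isEquivOver_id)
  have h3 := isGerbeOver_of_iso _ (prodLIso s t a) h2
  exact isGerbeOver_of_comp_isEquivOver _ (pasteL a s t) (isEquivOver_pasteL a s t) _ h3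

end Prod

section Main

variable {𝒳₁ 𝒳₂ 𝒴₁ 𝒴₂ 𝒮 : AlgSt.Cat S}

theorem isGerbeOver_prodMap (h𝒳₁ : FibCat.IsFibGrpd 𝒳₁.p) (h𝒳₂ : FibCat.IsFibGrpd 𝒳₂.p)
    (h𝒴₁ : FibCat.IsFibGrpd 𝒴₁.p) (h𝒴₂ : FibCat.IsFibGrpd 𝒴₂.p) (h𝒮 : FibCat.IsFibGrpd 𝒮.p)
    (f₁ : 𝒳₁ ⥤ᵇ 𝒴₁) (f₂ : 𝒳₂ ⥤ᵇ 𝒴₂) (t₁ : 𝒴₁ ⥤ᵇ 𝒮) (t₂ : 𝒴₂ ⥤ᵇ 𝒮)
    (hf₁ : Gerb.IsGerbeOver (QuotSh.J Scheme.fppfPrecoverage S) f₁)
    (hf₂ : Gerb.IsGerbeOver (QuotSh.J Scheme.fppfPrecoverage S) f₂) :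
    Gerb.IsGerbeOver (QuotSh.J Scheme.fppfPrecoverage S) (prodMap f₁ f₂ t₁ t₂) := by
  rw [prodMap_eq]
  exact isGerbeOver_comp _ (X6401 _ _ h𝒳₁ h𝒳₂ h𝒮) (X6401 _ _ h𝒳₁ h𝒴₂ h𝒮) _ _
    (isGerbeOver_prodR h𝒳₁ h𝒴₂ h𝒳₂ h𝒮 (BasedFunctor.comp f₁ t₁) t₂ f₂ hf₂)
    (isGerbeOver_prodL h𝒴₁ h𝒴₂ h𝒳₁ h𝒮 t₁ t₂ f₁ hf₁)

variable {𝒳 𝒴 𝒵 : AlgSt.Cat S}

/-- a gerbe is a quasi-compact morphism -/
theorem isQuasiCompactMor_of_isGerbeOver (h𝒳 : AlgSt.IsAlgStack Scheme.fppfPrecoverage 𝒳)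
    (h𝒴 : AlgSt.IsAlgStack Scheme.fppfPrecoverage 𝒴) (f : 𝒳 ⥤ᵇ 𝒴)
    (hf : Gerb.IsGerbeOver (QuotSh.J Scheme.fppfPrecoverage S) f) :
    AlgSt.IsQuasiCompactMor Scheme.fppfPrecoverage f := by
  intro 𝒵 h𝒵 hqc g
  have hP : AlgSt.IsAlgStack Scheme.fppfPrecoverage (FibCat.fp g f) :=
    isAlgStack_fp h𝒴.isStack h𝒴.diag h𝒵 h𝒳 g f
  have hh := isHomeomorph_of_isGerbeOver hP h𝒵 (FibCat.fpFst g f)
    (isGerbeOver_fpFst _ h𝒵.isStack.1 h𝒴.isStack.1 g f hf)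
  rw [isQuasiCompact_iff_compactSpace hP]
  have := (isQuasiCompact_iff_compactSpace h𝒵).1 hqc
  exact (hh.homeomorph _).symm.compactSpace

/-- **S16870** -/
theorem main (h𝒳 : AlgSt.IsAlgStack Scheme.fppfPrecoverage 𝒳)
    (h𝒴 : AlgSt.IsAlgStack Scheme.fppfPrecoverage 𝒴) (f : 𝒳 ⥤ᵇ 𝒴)
    (hf : Gerb.IsGerbeOver (QuotSh.J Scheme.fppfPrecoverage S) f)
    (hΔ : AlgSt.IsQuasiCompactMor Scheme.fppfPrecoverage (FibCat.diag (FibCat.toSelf 𝒳))) :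
    AlgSt.IsQuasiCompactMor Scheme.fppfPrecoverage (FibCat.diag (FibCat.toSelf 𝒴)) := by
  have hS := isAlgStack_selfOver (S := S)
  have hΔ' : AlgSt.IsQuasiCompactMor Scheme.fppfPrecoverage
      (FibCat.diag (BasedFunctor.comp f (FibCat.toSelf 𝒴))) := by
    rw [← toSelf_eq_comp f]
    exact hΔ
  have hX2 : AlgSt.IsAlgStack Scheme.fppfPrecoverage
      (FibCat.fp (BasedFunctor.comp f (FibCat.toSelf 𝒴)) (BasedFunctor.comp f (FibCat.toSelf 𝒴))) :=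
    isAlgStack_fp hS.isStack hS.diag h𝒳 h𝒳 _ _
  have hY2 : AlgSt.IsAlgStack Scheme.fppfPrecoverage
      (FibCat.fp (FibCat.toSelf 𝒴) (FibCat.toSelf 𝒴)) :=
    isAlgStack_fp hS.isStack hS.diag h𝒴 h𝒴 _ _
  have hf2 : Gerb.IsGerbeOver (QuotSh.J Scheme.fppfPrecoverage S)
      (prodMap f f (FibCat.toSelf 𝒴) (FibCat.toSelf 𝒴)) :=
    isGerbeOver_prodMap h𝒳.isStack.1 h𝒳.isStack.1 h𝒴.isStack.1 h𝒴.isStack.1 hS.isStack.1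
      f f _ _ hf hf
  have hq2 := isQuasiCompactMor_of_isGerbeOver hX2 hY2 _ hf2
  have hcomp := isQuasiCompactMor_comp h𝒳 hX2 hY2 _ _ hΔ' hq2
  have heq : BasedFunctor.comp (FibCat.diag (BasedFunctor.comp f (FibCat.toSelf 𝒴)))
      (prodMap f f (FibCat.toSelf 𝒴) (FibCat.toSelf 𝒴)) =
      BasedFunctor.comp f (FibCat.diag (FibCat.toSelf 𝒴)) := by
    apply basedFunctor_ext
    rfl
  rw [heq] at hcomp
  intro 𝒵 h𝒵 hqc g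
  have h1 := hcomp 𝒵 h𝒵 hqc g
  have hQ : AlgSt.IsAlgStack Scheme.fppfPrecoverage
      (FibCat.fp g (FibCat.diag (FibCat.toSelf 𝒴))) :=
    isAlgStack_fp hY2.isStack hY2.diag h𝒵 h𝒴 g _
  have hP : AlgSt.IsAlgStack Scheme.fppfPrecoverage
      (FibCat.fp (FibCat.fpSnd g (FibCat.diag (FibCat.toSelf 𝒴))) f) :=
    isAlgStack_fp h𝒴.isStack h𝒴.diag hQ h𝒳 _ f
  have hP' : AlgSt.IsAlgStack Scheme.fppfPrecoverage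
      (FibCat.fp g (BasedFunctor.comp f (FibCat.diag (FibCat.toSelf 𝒴)))) :=
    isAlgStack_fp hY2.isStack hY2.diag h𝒵 h𝒳 g _
  have h2 : AlgSt.IsQuasiCompact (FibCat.fp (FibCat.fpSnd g (FibCat.diag (FibCat.toSelf 𝒴))) f) :=
    isQuasiCompact_of_isEquivOver' hP hP' (pasteR g (FibCat.diag (FibCat.toSelf 𝒴)) f)
      (isEquivOver_pasteR g (FibCat.diag (FibCat.toSelf 𝒴)) f) h1
  have hg : Gerb.IsGerbeOver (QuotSh.J Scheme.fppfPrecoverage S)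
      (FibCat.fpFst (FibCat.fpSnd g (FibCat.diag (FibCat.toSelf 𝒴))) f) :=
    isGerbeOver_fpFst _ hQ.isStack.1 h𝒴.isStack.1 _ f hf
  exact isQuasiCompact_of_isSurjective hP hQ
    (FibCat.fpFst (FibCat.fpSnd g (FibCat.diag (FibCat.toSelf 𝒴))) f)
    (surjective_of_locSurjObj hP.isStack.1 _ hg.1) h2

end Main

end Groth.Agent.H4.GrbB
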