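import Mathlib
import Groth.Prelude.Def_Grpd
import Groth.Agent.H4.GrpdLib
import Groth.Agent.H4.GrpdLib5
import Groth.Agent.H4.GrpdLib10

set_option autoImplicit false
universe u
open CategoryTheory CategoryTheory.Limits AlgebraicGeometry
open Grpd

namespace Groth.Agent.H4.GrpQ1
open Groth.Agent.H4.GrpdLib Groth.Agent.H4.GrpdLib10

variable {S : Scheme.{u}} (G : Grpd.GroupoidScheme S)

section Mono

variable {U' R' : Scheme.{u}} (ιU : U' ⟶ G.U) (ιR : R' ⟶ G.R)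
  (s' t' : R' ⟶ U') (hs : s' ≫ ιU = ιR ≫ G.s) (ht : t' ≫ ιU = ιR ≫ G.t)
  (e' : U' ⟶ R') (he : e' ≫ ιR = ιU ≫ G.e)
  (i' : R' ⟶ R') (hi : i' ≫ ιR = ιR ≫ G.i)
  (c' : pullback s' t' ⟶ R')
  (hc : c' ≫ ιR = comp G (pullback.fst s' t' ≫ ιR) (pullback.snd s' t' ≫ ιR)
    (by rw [Category.assoc, Category.assoc, ← hs, ← ht, pullback.condition_assoc]))

include hs ht hc in
theorem mono_key {T : Scheme.{u}} (α β : T ⟶ R') (h : α ≫ s' = β ≫ t') :
    (pullback.lift α β h ≫ c') ≫ ιR =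
      comp G (α ≫ ιR) (β ≫ ιR)
        (by rw [Category.assoc, Category.assoc, ← hs, ← ht, reassoc_of% h]) := by
  rw [Category.assoc, hc, precomp_comp]
  exact comp_congr G _ (pullback.lift_fst_assoc _ _ _ _) (pullback.lift_snd_assoc _ _ _ _)

/-- the groupoid induced on a pair of monomorphisms `U' ⟶ U`, `R' ⟶ R` through which the structure
maps factor -/
@[reducible] noncomputable def monoGrpd [Mono ιU] [Mono ιR] : Grpd.GroupoidScheme S where
  U := U'
  R := R'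
  pU := ιU ≫ G.pU
  pR := ιR ≫ G.pR
  s := s'
  t := t'
  e := e'
  i := i'
  c := c'
  s_over := by rw [← Category.assoc, hs, Category.assoc, G.s_over]
  t_over := by rw [← Category.assoc, ht, Category.assoc, G.t_over]
  comp_s := fun α β h => by
    have key := mono_key G ιU ιR s' t' hs ht c' hc α β h
    rw [← cancel_mono ιU]
    calc ((pullback.lift α β h ≫ c') ≫ s') ≫ ιU
        = ((pullback.lift α β h ≫ c') ≫ ιR) ≫ G.s := by simp only [Category.assoc, hs]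
      _ = (β ≫ ιR) ≫ G.s := by rw [key, Groth.Agent.H4.GrpdLib.comp_s]
      _ = (β ≫ s') ≫ ιU := by simp only [Category.assoc, hs]
  comp_t := fun α β h => by
    have key := mono_key G ιU ιR s' t' hs ht c' hc α β h
    rw [← cancel_mono ιU]
    calc ((pullback.lift α β h ≫ c') ≫ t') ≫ ιU
        = ((pullback.lift α β h ≫ c') ≫ ιR) ≫ G.t := by simp only [Category.assoc, ht]
      _ = (α ≫ ιR) ≫ G.t := by rw [key, Groth.Agent.H4.GrpdLib.comp_t]
      _ = (α ≫ t') ≫ ιU := by simp only [Category.assoc, ht]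
  assoc := fun α β γ h₁ h₂ => by
    rw [← cancel_mono ιR]
    refine (mono_key G ιU ιR s' t' hs ht c' hc _ γ _).trans ?_
    refine Eq.trans ?_ (mono_key G ιU ιR s' t' hs ht c' hc α _ _).symm
    rw [comp_congr G _ (mono_key G ιU ιR s' t' hs ht c' hc α β h₁) rfl,
      comp_congr G _ rfl (mono_key G ιU ιR s' t' hs ht c' hc β γ h₂)]
    exact comp_assoc G _ _ _ _ _
  e_s := by
    rw [← cancel_mono ιU, Category.assoc, hs, ← Category.assoc, he, Category.assoc, G.e_s,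
      Category.comp_id, Category.id_comp]
  e_t := by
    rw [← cancel_mono ιU, Category.assoc, ht, ← Category.assoc, he, Category.assoc, G.e_t,
      Category.comp_id, Category.id_comp]
  comp_e := fun α => by
    rw [← cancel_mono ιR]
    refine (mono_key G ιU ιR s' t' hs ht c' hc _ _ _).trans ?_
    exact Groth.Agent.H4.GrpdLib.comp_e G (α ≫ ιR) _ (by
      simp only [Category.assoc, he]
      rw [reassoc_of% hs])
  e_comp := fun α => by
    rw [← cancel_mono ιR]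
    refine (mono_key G ιU ιR s' t' hs ht c' hc _ _ _).trans ?_
    exact Groth.Agent.H4.GrpdLib.e_comp G (α ≫ ιR) _ (by
      simp only [Category.assoc, he]
      rw [reassoc_of% ht])
  i_s := by
    rw [← cancel_mono ιU, Category.assoc, hs, ← Category.assoc, hi, Category.assoc, G.i_s, ht]
  i_t := by
    rw [← cancel_mono ιU, Category.assoc, ht, ← Category.assoc, hi, Category.assoc, G.i_t, hs]
  comp_i := fun α => by
    rw [← cancel_mono ιR]
    refine (mono_key G ιU ιR s' t' hs ht c' hc _ _ _).trans ?_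
    rw [comp_congr G _ rfl
      (show (α ≫ i') ≫ ιR = (α ≫ ιR) ≫ G.i by rw [Category.assoc, hi, Category.assoc])]
    refine (Groth.Agent.H4.GrpdLib.comp_i G (α ≫ ιR)).trans ?_
    simp only [Category.assoc, he]
    rw [reassoc_of% ht]
  i_comp := fun α => by
    rw [← cancel_mono ιR]
    refine (mono_key G ιU ιR s' t' hs ht c' hc _ _ _).trans ?_
    rw [comp_congr G _
      (show (α ≫ i') ≫ ιR = (α ≫ ιR) ≫ G.i by rw [Category.assoc, hi, Category.assoc]) rfl]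
    refine (Groth.Agent.H4.GrpdLib.i_comp G (α ≫ ιR)).trans ?_
    simp only [Category.assoc, he]
    rw [reassoc_of% hs]

end Mono

section Res

variable (W : G.U.Opens)

theorem ι_mem {X : Scheme.{u}} (V : X.Opens) (x : ↥V) : V.ι x ∈ V := by
  have h : V.ι x ∈ Set.range V.ι := ⟨x, rfl⟩
  rw [Scheme.Opens.range_ι] at h
  exact h

/-- lifting a `T`-point of `R` with source in `W` to `s⁻¹ W` -/
noncomputable def liftR {T : Scheme.{u}} (a : T ⟶ G.R) (ha : ∀ x : T, G.s (a x) ∈ W) :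
    T ⟶ (G.s ⁻¹ᵁ W).toScheme :=
  IsOpenImmersion.lift (G.s ⁻¹ᵁ W).ι a (by
    rw [Scheme.Opens.range_ι]
    rintro _ ⟨x, rfl⟩
    exact ha x)

@[reassoc]
theorem liftR_ι {T : Scheme.{u}} (a : T ⟶ G.R) (ha : ∀ x : T, G.s (a x) ∈ W) :
    liftR G W a ha ≫ (G.s ⁻¹ᵁ W).ι = a :=
  IsOpenImmersion.lift_fac _ _ _

variable (hW : G.s ⁻¹ᵁ W = G.t ⁻¹ᵁ W)

/-- restricted source -/
noncomputable def sW : (G.s ⁻¹ᵁ W).toScheme ⟶ W.toScheme := G.s.resLE W (G.s ⁻¹ᵁ W) le_rfl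

/-- restricted target -/
noncomputable def tW : (G.s ⁻¹ᵁ W).toScheme ⟶ W.toScheme := G.t.resLE W (G.s ⁻¹ᵁ W) hW.le

@[reassoc]
theorem sW_ι : sW G W ≫ W.ι = (G.s ⁻¹ᵁ W).ι ≫ G.s := Scheme.Hom.resLE_comp_ι _ _

@[reassoc]
theorem tW_ι : tW G W hW ≫ W.ι = (G.s ⁻¹ᵁ W).ι ≫ G.t := Scheme.Hom.resLE_comp_ι _ _

include hW in
theorem t_mem_of_s_mem (r : G.R) (hr : G.s r ∈ W) : G.t r ∈ W := by
  have h1 : r ∈ G.s ⁻¹ᵁ W := hr
  rw [hW] at h1
  exact h1

include hW in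
theorem s_mem_of_t_mem (r : G.R) (hr : G.t r ∈ W) : G.s r ∈ W := by
  have h1 : r ∈ G.t ⁻¹ᵁ W := hr
  rw [← hW] at h1
  exact h1

noncomputable def eW : W.toScheme ⟶ (G.s ⁻¹ᵁ W).toScheme :=
  liftR G W (W.ι ≫ G.e) (fun x => by
    rw [Scheme.Hom.comp_apply, e_s_apply]
    exact ι_mem W x)

noncomputable def iW : (G.s ⁻¹ᵁ W).toScheme ⟶ (G.s ⁻¹ᵁ W).toScheme :=
  liftR G W ((G.s ⁻¹ᵁ W).ι ≫ G.i) (fun x => by
    rw [Scheme.Hom.comp_apply, i_s_apply]
    exact t_mem_of_s_mem G W hW _ (ι_mem (G.s ⁻¹ᵁ W) x))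

noncomputable def cW : pullback (sW G W) (tW G W hW) ⟶ (G.s ⁻¹ᵁ W).toScheme :=
  liftR G W (pullback.lift (pullback.fst (sW G W) (tW G W hW) ≫ (G.s ⁻¹ᵁ W).ι)
      (pullback.snd (sW G W) (tW G W hW) ≫ (G.s ⁻¹ᵁ W).ι)
      (by rw [Category.assoc, Category.assoc, ← sW_ι, ← tW_ι G W hW, pullback.condition_assoc]) ≫ G.c)
    (fun x => by
      have h : (pullback.lift (pullback.fst (sW G W) (tW G W hW) ≫ (G.s ⁻¹ᵁ W).ι)
          (pullback.snd (sW G W) (tW G W hW) ≫ (G.s ⁻¹ᵁ W).ι)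
          (by rw [Category.assoc, Category.assoc, ← sW_ι, ← tW_ι G W hW,
            pullback.condition_assoc]) ≫ G.c) ≫ G.s =
          pullback.snd (sW G W) (tW G W hW) ≫ (G.s ⁻¹ᵁ W).ι ≫ G.s := by
        rw [Category.assoc, c_s, pullback.lift_snd_assoc, Category.assoc]
      rw [← Scheme.Hom.comp_apply, h, Scheme.Hom.comp_apply, Scheme.Hom.comp_apply]
      exact ι_mem (G.s ⁻¹ᵁ W) _)

/-- the restriction of a groupoid scheme to an invariant open -/
@[reducible] noncomputable def resGrpd : Grpd.GroupoidScheme S :=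
  monoGrpd G W.ι (G.s ⁻¹ᵁ W).ι (sW G W) (tW G W hW) (sW_ι G W) (tW_ι G W hW)
    (eW G W) (liftR_ι G W _ _) (iW G W hW) (liftR_ι G W _ _) (cW G W hW)
    (by rw [cW, liftR_ι]; rfl)

@[simp] theorem resGrpd_U : (resGrpd G W hW).U = W.toScheme := rfl
@[simp] theorem resGrpd_R : (resGrpd G W hW).R = (G.s ⁻¹ᵁ W).toScheme := rfl
@[simp] theorem resGrpd_s : (resGrpd G W hW).s = sW G W := rfl
@[simp] theorem resGrpd_t : (resGrpd G W hW).t = tW G W hW := rfl
@[simp] theorem resGrpd_pU : (resGrpd G W hW).pU = W.ι ≫ G.pU := rfl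

theorem isPullback_sW : IsPullback (G.s ⁻¹ᵁ W).ι (sW G W) G.s W.ι :=
  (IsOpenImmersion.isPullback (sW G W) (G.s ⁻¹ᵁ W).ι W.ι G.s (sW_ι G W).symm (by
    rw [Scheme.Opens.opensRange_ι, Scheme.Opens.opensRange_ι])).flip

end Res

end Groth.Agent.H4.GrpQ1
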