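import Mathlib
import Groth.Prelude.Def_Grpd
import Groth.Prelude.Def_Mor2
import Groth.Prelude.Def_AlgSp
import Groth.Prelude.Def_QuotSh
import Groth.Agent.Lib.Helper3.QuotShEff
import Groth.Agent.Lib.Helper3.FpqcLocal3

set_option autoImplicit false
universe u
open CategoryTheory CategoryTheory.Limits AlgebraicGeometry
open Grpd

namespace Groth.Agent.H4.GrpQ10
open Groth.Agent.H3.FpqcLocal

section General
variable {R U Y B : Scheme.{u}} (t s : R ⟶ U) (p : U ⟶ Y) (b : Y ⟶ B) (a : U ⟶ B)
  (ha : p ≫ b = a) (hR : IsPullback t s p p)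

/-- `U ×_B U ⟶ Y ×_B Y` -/
noncomputable def ππ : pullback a a ⟶ pullback b b :=
  pullback.map a a b b p p (𝟙 B) (by rw [ha, Category.comp_id]) (by rw [ha, Category.comp_id])

/-- `(t, s) : R ⟶ U ×_B U` -/
noncomputable def jj : R ⟶ pullback a a :=
  pullback.lift t s (by rw [← ha, ← Category.assoc, ← Category.assoc, hR.w])

theorem jj_fst : jj t s p b a ha hR ≫ pullback.fst a a = t := pullback.lift_fst _ _ _
theorem jj_snd : jj t s p b a ha hR ≫ pullback.snd a a = s := pullback.lift_snd _ _ _

theorem ππ_fst : ππ p b a ha ≫ pullback.fst b b = pullback.fst a a ≫ p := pullback.lift_fst _ _ _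
theorem ππ_snd : ππ p b a ha ≫ pullback.snd b b = pullback.snd a a ≫ p := pullback.lift_snd _ _ _

theorem mono_jj : Mono (jj t s p b a ha hR) := by
  constructor
  intro T x y hxy
  apply hR.hom_ext
  · have := congrArg (· ≫ pullback.fst a a) hxy
    simpa only [Category.assoc, jj_fst] using this
  · have := congrArg (· ≫ pullback.snd a a) hxy
    simpa only [Category.assoc, jj_snd] using this

theorem isPullback_diag :
    IsPullback (jj t s p b a ha hR) (t ≫ p) (ππ p b a ha) (pullback.diagonal b) := by
  have hw : jj t s p b a ha hR ≫ ππ p b a ha = (t ≫ p) ≫ pullback.diagonal b := by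
    apply pullback.hom_ext
    · rw [Category.assoc, ππ_fst, ← Category.assoc, jj_fst, Category.assoc, Category.assoc,
        pullback.diagonal_fst, Category.comp_id]
    · rw [Category.assoc, ππ_snd, ← Category.assoc, jj_snd, Category.assoc, Category.assoc,
        pullback.diagonal_snd, Category.comp_id, hR.w]
  have hex : ∀ c : PullbackCone (ππ p b a ha) (pullback.diagonal b),
      ∃ l : c.pt ⟶ R, l ≫ jj t s p b a ha hR = c.fst ∧ l ≫ (t ≫ p) = c.snd := by
    intro c
    have h1 : (c.fst ≫ pullback.fst a a) ≫ p = c.snd := by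
      have := congrArg (· ≫ pullback.fst b b) c.condition
      simpa only [Category.assoc, ππ_fst, pullback.diagonal_fst, Category.comp_id] using this
    have h2 : (c.fst ≫ pullback.snd a a) ≫ p = c.snd := by
      have := congrArg (· ≫ pullback.snd b b) c.condition
      simpa only [Category.assoc, ππ_snd, pullback.diagonal_snd, Category.comp_id] using this
    refine ⟨hR.lift (c.fst ≫ pullback.fst a a) (c.fst ≫ pullback.snd a a) (h1.trans h2.symm),
      ?_, ?_⟩
    · apply pullback.hom_ext
      · rw [Category.assoc, jj_fst, hR.lift_fst]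
      · rw [Category.assoc, jj_snd, hR.lift_snd]
    · rw [← Category.assoc, hR.lift_fst, h1]
  choose l hl1 hl2 using hex
  refine IsPullback.of_isLimit (PullbackCone.IsLimit.mk hw l hl1 hl2 (fun c m h1 h2 => ?_))
  apply hR.hom_ext
  · have e1 := congrArg (· ≫ pullback.fst a a) (h1.trans (hl1 c).symm)
    simpa only [Category.assoc, jj_fst] using e1
  · have e2 := congrArg (· ≫ pullback.snd a a) (h1.trans (hl1 c).symm)
    simpa only [Category.assoc, jj_snd] using e2

theorem fpqc_ππ [Surjective p] [Flat p] [QuasiCompact p] : Qfpqc (ππ p b a ha) := by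
  have hp : Qfpqc p := ⟨⟨‹_›, ‹_›⟩, ‹_›⟩
  exact MorphismProperty.pullbackMap (P := Qfpqc) (f := a) (g := a) (f' := b) (g' := b)
    (i₁ := p) (i₂ := p) hp hp ha.symm ha.symm

theorem descend_diag (P : MorphismProperty Scheme.{u}) [P.DescendsAlong Qfpqc] [Surjective p]
    [Flat p] [QuasiCompact p] (hj : P (jj t s p b a ha hR)) : P (pullback.diagonal b) :=
  MorphismProperty.of_isPullback_of_descendsAlong (P := P) (Q := Qfpqc)
    (isPullback_diag t s p b a ha hR) (fpqc_ππ p b a ha) hj

include ha hR in
theorem quasiSeparated_of [Surjective p] [Flat p] [QuasiCompact p] [QuasiCompact t]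
    [QuasiSeparated a] : QuasiSeparated b := by
  haveI := quasiCompact_descendsAlong_fpqc.{u}
  constructor
  apply descend_diag t s p b a ha hR @QuasiCompact
  haveI : QuasiCompact (jj t s p b a ha hR ≫ pullback.fst a a) := by
    rw [jj_fst]; infer_instance
  exact QuasiCompact.of_comp _ (pullback.fst a a)

include ha hR in
theorem isSeparated_of [Surjective p] [Flat p] [QuasiCompact p] [IsFinite t]
    [IsSeparated a] : IsSeparated b := by
  haveI := isClosedImmersion_descendsAlong_fpqc.{u}
  constructor
  apply descend_diag t s p b a ha hR @IsClosedImmersion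
  haveI : IsProper (jj t s p b a ha hR ≫ pullback.fst a a) := by
    rw [jj_fst]; infer_instance
  haveI : IsProper (jj t s p b a ha hR) := IsProper.of_comp _ (pullback.fst a a)
  exact (IsClosedImmersion.iff_isProper_and_mono _).mpr ⟨inferInstance, mono_jj t s p b a ha hR⟩

end General

theorem surj_of_isQuotient {S : Scheme.{u}} {R' U' M : Over S} (s' t' : R' ⟶ U') (m : U' ⟶ M)
    (hR : IsPullback t'.left s'.left m.left m.left) [Flat s'.left] [Surjective s'.left]
    [LocallyOfFinitePresentation s'.left]
    (hq : QuotSh.IsQuotient Scheme.fppfPrecoverage s' t' m) : Surjective m.left := by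
  have hpb : IsPullback s'.left t'.left m.left m.left := hR.flip
  have hkp : IsKernelPair m s' t' := by
    refine IsPullback.of_map (Over.forget S) ?_ hpb
    ext
    exact hpb.w
  haveI : IsEquivalenceRelation s' t' :=
    (IsKernelPair.equivalenceRelation m s' t' (limit.isLimit _) hkp).isEquivalenceRelation
  exact ((Groth.Agent.H3.QuotShEff.fppf_iff s' t' m).mpr hq).2.2.1

theorem main_S10236 {S : Scheme.{u}} (G : Grpd.GroupoidScheme S)
    (hs : Mor2.IsFinLocFree G.s) (ht : Mor2.IsFinLocFree G.t)
    (M : Over S) (m : Over.mk G.pU ⟶ M) (hm : Mor2.IsFinLocFree m.left)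
    (hR : IsPullback G.t G.s m.left m.left)
    (hq : QuotSh.IsQuotient Scheme.fppfPrecoverage
      (Over.homMk G.s G.s_over : Over.mk G.pR ⟶ Over.mk G.pU)
      (Over.homMk G.t G.t_over : Over.mk G.pR ⟶ Over.mk G.pU) m) :
    (QuasiSeparated G.pU → QuasiSeparated M.hom) ∧
      (QuasiSeparatedSpace ↥G.U → QuasiSeparatedSpace ↥M.left) ∧
      (IsSeparated G.pU → IsSeparated M.hom) ∧ (G.U.IsSeparated → M.left.IsSeparated) := by
  obtain ⟨h1, h2, h3'⟩ := hs
  obtain ⟨k1, k2, k3⟩ := ht
  obtain ⟨m1, m2, m3⟩ := hm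
  haveI := k1
  haveI := m1
  haveI := m2
  haveI : Surjective m.left := by
    haveI : Flat (Over.homMk G.s G.s_over : Over.mk G.pR ⟶ Over.mk G.pU).left := h2
    haveI : LocallyOfFinitePresentation
      (Over.homMk G.s G.s_over : Over.mk G.pR ⟶ Over.mk G.pU).left := h3'
    haveI : Surjective (Over.homMk G.s G.s_over : Over.mk G.pR ⟶ Over.mk G.pU).left := by
      refine ⟨fun x => ⟨G.e x, ?_⟩⟩
      show G.s (G.e x) = x
      rw [← Scheme.Hom.comp_apply, G.e_s]
      rfl
    exact surj_of_isQuotient _ _ m hR hq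
  have ha : m.left ≫ M.hom = G.pU := Over.w m
  have ha' : m.left ≫ terminal.from M.left = terminal.from G.U := terminal.hom_ext _ _
  refine ⟨fun h => ?_, fun h => ?_, fun h => ?_, fun h => ?_⟩
  · haveI := h
    exact quasiSeparated_of G.t G.s m.left M.hom G.pU ha hR
  · rw [quasiSeparatedSpace_iff_quasiSeparated] at h ⊢
    haveI := h
    exact quasiSeparated_of G.t G.s m.left (terminal.from M.left) (terminal.from G.U) ha' hR
  · haveI := h
    exact isSeparated_of G.t G.s m.left M.hom G.pU ha hR
  · haveI := h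
    exact ⟨isSeparated_of G.t G.s m.left (terminal.from M.left) (terminal.from G.U) ha' hR⟩

end Groth.Agent.H4.GrpQ10
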