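import Mathlib
import Groth.Prelude.Def_Grpd
import Groth.Agent.H4.GrpQ1
import Groth.Agent.H4.GQ4
import Groth.Agent.H4.GQ14
import Groth.Agent.H4.GQ15
import Groth.Agent.H4.GQ21
import Groth.Agent.H4.GrpdLib14
import Groth.Agent.Lib.Helper5.Glue.P2

set_option autoImplicit false
universe u
open CategoryTheory CategoryTheory.Limits AlgebraicGeometry
open Grpd

namespace Groth.Agent.H4.GrpQ2
open Groth.Agent.H4.GrpdLib Groth.Agent.H4.GrpdLib10 Groth.Agent.H4.GrpQ1 Groth.Agent.H5.Glue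
open Groth.Agent.H4.GQ4 Groth.Agent.H4.GQ14 Groth.Agent.H4.GQ15 Groth.Agent.H4.GQ21

theorem iso_hom_inv_apply {A B : CommRingCat.{u}} (e : A ≅ B) (x : B) :
    e.hom.hom (e.inv.hom x) = x :=
  congrArg (fun f : B ⟶ B => f.hom x) e.inv_hom_id

theorem iso_inv_hom_apply {A B : CommRingCat.{u}} (e : A ≅ B) (x : A) :
    e.inv.hom (e.hom.hom x) = x :=
  congrArg (fun f : A ⟶ A => f.hom x) e.hom_inv_id

theorem iso_inv_injective {A B : CommRingCat.{u}} (e : A ≅ B) : Function.Injective e.inv.hom :=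
  Function.LeftInverse.injective (g := e.hom.hom) (iso_hom_inv_apply e)

variable {S : Scheme.{u}} (G : Grpd.GroupoidScheme S)

section Defs

variable (W : G.U.Opens) (hW : G.s ⁻¹ᵁ W = G.t ⁻¹ᵁ W)

/-- invariant sections over an invariant open -/
noncomputable def Cinv : Subring Γ(G.U, W) :=
  RingHom.eqLocus (G.s.appLE W (G.s ⁻¹ᵁ W) le_rfl).hom (G.t.appLE W (G.s ⁻¹ᵁ W) hW.le).hom

theorem mem_Cinv (a : Γ(G.U, W)) : a ∈ Cinv G W hW ↔
    (G.s.appLE W (G.s ⁻¹ᵁ W) le_rfl).hom a = (G.t.appLE W (G.s ⁻¹ᵁ W) hW.le).hom a := Iff.rfl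

/-- the quotient of an invariant affine open -/
noncomputable abbrev Yq : Scheme.{u} := Spec (CommRingCat.of (Cinv G W hW))

noncomputable def pq : W.toScheme ⟶ Yq G W hW :=
  W.toSpecΓ ≫ Spec.map (CommRingCat.ofHom (Cinv G W hW).subtype)

end Defs

section Res

variable {W W' W'' : G.U.Opens} (hW : G.s ⁻¹ᵁ W = G.t ⁻¹ᵁ W) (hW' : G.s ⁻¹ᵁ W' = G.t ⁻¹ᵁ W')
  (hW'' : G.s ⁻¹ᵁ W'' = G.t ⁻¹ᵁ W'') (h : W' ≤ W) (h' : W'' ≤ W')

include hW in
theorem res_mem_Cinv (a : Γ(G.U, W)) (ha : a ∈ Cinv G W hW) : res h a ∈ Cinv G W' hW' := by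
  rw [mem_Cinv] at ha ⊢
  have hR : G.s ⁻¹ᵁ W' ≤ G.s ⁻¹ᵁ W := fun x hx => h hx
  rw [appLE_res_left G.s h le_rfl a, appLE_res_left G.t h hW'.le a]
  rw [← res_appLE G.s hR le_rfl a, ← res_appLE G.t hR hW.le a, ha]

noncomputable def resC : Cinv G W hW →+* Cinv G W' hW' :=
  ((res h).comp (Cinv G W hW).subtype).codRestrict (Cinv G W' hW')
    (fun a => res_mem_Cinv G hW hW' h a.1 a.2)

@[simp] theorem resC_coe (a : Cinv G W hW) : (resC G hW hW' h a : Γ(G.U, W')) = res h a.1 := rfl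

noncomputable def φq : Yq G W' hW' ⟶ Yq G W hW :=
  Spec.map (CommRingCat.ofHom (resC G hW hW' h))

theorem pq_φq : pq G W' hW' ≫ φq G hW hW' h = G.U.homOfLE h ≫ pq G W hW := by
  have e : CommRingCat.ofHom (resC G hW hW' h) ≫ CommRingCat.ofHom (Cinv G W' hW').subtype =
      CommRingCat.ofHom (Cinv G W hW).subtype ≫ G.U.presheaf.map (homOfLE h).op :=
    CommRingCat.hom_ext (RingHom.ext fun a => rfl)
  unfold pq φq
  rw [Category.assoc, ← Spec.map_comp, e, Spec.map_comp,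
    Scheme.Opens.toSpecΓ_SpecMap_presheaf_map_assoc]

theorem resC_comp :
    (resC G hW' hW'' h').comp (resC G hW hW' h) = resC G hW hW'' (h'.trans h) :=
  RingHom.ext fun a => Subtype.ext (res_res h h' a.1)

theorem resC_self : resC G hW hW le_rfl = RingHom.id _ :=
  RingHom.ext fun a => Subtype.ext (res_self a.1)

theorem φq_comp : φq G hW' hW'' h' ≫ φq G hW hW' h = φq G hW hW'' (h'.trans h) := by
  unfold φq
  rw [← Spec.map_comp, ← CommRingCat.ofHom_comp, resC_comp]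

theorem φq_self : φq G hW hW le_rfl = 𝟙 _ := by
  unfold φq
  rw [resC_self]
  exact Spec.map_id _

end Res

section Compare

variable (W : G.U.Opens) (hW : G.s ⁻¹ᵁ W = G.t ⁻¹ᵁ W)

theorem mem_inv_iff (a : Γ(W.toScheme, ⊤)) :
    a ∈ (resGrpd G W hW).invariants ↔ W.topIso.hom.hom a ∈ Cinv G W hW := by
  have h1 : (sW G W).appTop = W.topIso.hom ≫ G.s.appLE W (G.s ⁻¹ᵁ W) le_rfl ≫
      (G.s ⁻¹ᵁ W).topIso.inv := Scheme.Hom.resLE_app_top _ _
  have h2 : (tW G W hW).appTop = W.topIso.hom ≫ G.t.appLE W (G.s ⁻¹ᵁ W) hW.le ≫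
      (G.s ⁻¹ᵁ W).topIso.inv := Scheme.Hom.resLE_app_top _ _
  show (sW G W).appTop.hom a = (tW G W hW).appTop.hom a ↔ _
  rw [h1, h2, mem_Cinv]
  constructor
  · intro h
    exact iso_inv_injective (G.s ⁻¹ᵁ W).topIso h
  · intro h
    show (G.s ⁻¹ᵁ W).topIso.inv.hom ((G.s.appLE W (G.s ⁻¹ᵁ W) le_rfl).hom (W.topIso.hom.hom a)) =
      (G.s ⁻¹ᵁ W).topIso.inv.hom ((G.t.appLE W (G.s ⁻¹ᵁ W) hW.le).hom (W.topIso.hom.hom a))
    rw [h]

noncomputable def toInv : Cinv G W hW →+* (resGrpd G W hW).invariants :=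
  (W.topIso.inv.hom.comp (Cinv G W hW).subtype).codRestrict (resGrpd G W hW).invariants
    (fun a => by
      rw [mem_inv_iff]
      show W.topIso.hom.hom (W.topIso.inv.hom a.1) ∈ Cinv G W hW
      rw [iso_hom_inv_apply]
      exact a.2)

noncomputable def ofInv : (resGrpd G W hW).invariants →+* Cinv G W hW :=
  (W.topIso.hom.hom.comp (resGrpd G W hW).invariants.subtype).codRestrict (Cinv G W hW)
    (fun a => (mem_inv_iff G W hW a.1).mp a.2)

theorem toInv_ofInv : (toInv G W hW).comp (ofInv G W hW) = RingHom.id _ :=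
  RingHom.ext fun a => Subtype.ext (iso_inv_hom_apply W.topIso a.1)

theorem ofInv_toInv : (ofInv G W hW).comp (toInv G W hW) = RingHom.id _ :=
  RingHom.ext fun a => Subtype.ext (iso_hom_inv_apply W.topIso a.1)

/-- comparison of the two quotients -/
noncomputable def εq : Spec (CommRingCat.of (resGrpd G W hW).invariants) ≅ Yq G W hW where
  hom := Spec.map (CommRingCat.ofHom (toInv G W hW))
  inv := Spec.map (CommRingCat.ofHom (ofInv G W hW))
  hom_inv_id := by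
    rw [← Spec.map_comp, ← CommRingCat.ofHom_comp, toInv_ofInv]
    exact Spec.map_id _
  inv_hom_id := by
    rw [← Spec.map_comp, ← CommRingCat.ofHom_comp, ofInv_toInv]
    exact Spec.map_id _

theorem pq_eq : pq G W hW = (resGrpd G W hW).toQuot ≫ (εq G W hW).hom := by
  have e : CommRingCat.ofHom (toInv G W hW) ≫
      CommRingCat.ofHom (resGrpd G W hW).invariants.subtype =
      CommRingCat.ofHom (Cinv G W hW).subtype ≫ W.topIso.inv :=
    CommRingCat.hom_ext (RingHom.ext fun a => rfl)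
  calc pq G W hW = W.toScheme.toSpecΓ ≫
        Spec.map (CommRingCat.ofHom (Cinv G W hW).subtype ≫ W.topIso.inv) := by
        unfold pq Scheme.Opens.toSpecΓ
        rw [Category.assoc, ← Spec.map_comp]
    _ = W.toScheme.toSpecΓ ≫ Spec.map (CommRingCat.ofHom (toInv G W hW) ≫
        CommRingCat.ofHom (resGrpd G W hW).invariants.subtype) :=
        congrArg (fun φ => W.toScheme.toSpecΓ ≫ Spec.map φ) e.symm
    _ = (resGrpd G W hW).toQuot ≫ (εq G W hW).hom := by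
        rw [Spec.map_comp, ← Category.assoc]
        rfl

theorem tW_pq : tW G W hW ≫ pq G W hW = sW G W ≫ pq G W hW := by
  have e : CommRingCat.ofHom (Cinv G W hW).subtype ≫ G.t.appLE W (G.s ⁻¹ᵁ W) hW.le =
      CommRingCat.ofHom (Cinv G W hW).subtype ≫ G.s.appLE W (G.s ⁻¹ᵁ W) le_rfl :=
    CommRingCat.hom_ext (RingHom.ext fun a => a.2.symm)
  have h1 : tW G W hW ≫ W.toSpecΓ =
      (G.s ⁻¹ᵁ W).toSpecΓ ≫ Spec.map (G.t.appLE W (G.s ⁻¹ᵁ W) hW.le) :=
    (Scheme.Opens.toSpecΓ_SpecMap_appLE G.t W (G.s ⁻¹ᵁ W) hW.le).symm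
  have h2 : sW G W ≫ W.toSpecΓ =
      (G.s ⁻¹ᵁ W).toSpecΓ ≫ Spec.map (G.s.appLE W (G.s ⁻¹ᵁ W) le_rfl) :=
    (Scheme.Opens.toSpecΓ_SpecMap_appLE G.s W (G.s ⁻¹ᵁ W) le_rfl).symm
  unfold pq
  rw [← Category.assoc, h1, ← Category.assoc, h2, Category.assoc, Category.assoc,
    ← Spec.map_comp, ← Spec.map_comp, e]

variable [IsFinite G.s] [Flat G.s] [LocallyOfFinitePresentation G.s] (hWaff : IsAffineOpen W)

theorem isFinite_sW : IsFinite (sW G W) :=
  IsZariskiLocalAtTarget.of_isPullback (P := @IsFinite) (isPullback_sW G W) inferInstance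

theorem flat_sW : Flat (sW G W) :=
  IsZariskiLocalAtTarget.of_isPullback (P := @Flat) (isPullback_sW G W) inferInstance

theorem lfp_sW : LocallyOfFinitePresentation (sW G W) :=
  IsZariskiLocalAtTarget.of_isPullback (P := @LocallyOfFinitePresentation) (isPullback_sW G W)
    inferInstance

include hWaff in
theorem isAffine_RW : IsAffineOpen (G.s ⁻¹ᵁ W) := hWaff.preimage G.s

include hWaff in
theorem pq_surjective : Function.Surjective (pq G W hW) := by
  haveI : IsAffine (resGrpd G W hW).U := hWaff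
  haveI : IsAffine (resGrpd G W hW).R := isAffine_RW G W hWaff
  haveI : IsFinite (resGrpd G W hW).s := isFinite_sW G W
  haveI : Flat (resGrpd G W hW).s := flat_sW G W
  haveI : LocallyOfFinitePresentation (resGrpd G W hW).s := lfp_sW G W
  have h1 := (main_S1878 (resGrpd G W hW)).1.1
  intro y
  obtain ⟨z, hz⟩ := (εq G W hW).hom.homeomorph.surjective y
  obtain ⟨u, hu⟩ := h1 z
  refine ⟨u, ?_⟩
  rw [pq_eq, Scheme.Hom.comp_apply]
  rw [hu]
  exact hz

include hWaff in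
theorem pq_eq_imp (u₀ u₁ : W.toScheme) (h : pq G W hW u₀ = pq G W hW u₁) :
    ∃ r : G.R, G.t r = W.ι u₀ ∧ G.s r = W.ι u₁ := by
  haveI : IsAffine (resGrpd G W hW).U := hWaff
  haveI : IsAffine (resGrpd G W hW).R := isAffine_RW G W hWaff
  haveI : IsFinite (resGrpd G W hW).s := isFinite_sW G W
  haveI : Flat (resGrpd G W hW).s := flat_sW G W
  haveI : LocallyOfFinitePresentation (resGrpd G W hW).s := lfp_sW G W
  have h1 := (main_S1878 (resGrpd G W hW)).1.2 u₀ u₁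
  rw [pq_eq, Scheme.Hom.comp_apply, Scheme.Hom.comp_apply] at h
  have h2 := (εq G W hW).hom.homeomorph.injective h
  obtain ⟨r', hr1, hr2⟩ := h1.mp h2
  refine ⟨(G.s ⁻¹ᵁ W).ι r', ?_, ?_⟩
  · rw [← Scheme.Hom.comp_apply, ← tW_ι G W hW, Scheme.Hom.comp_apply]
    exact congrArg W.ι hr1
  · rw [← Scheme.Hom.comp_apply, ← sW_ι G W, Scheme.Hom.comp_apply]
    exact congrArg W.ι hr2

theorem pq_eq_of_arrow (r : G.R) (u₀ u₁ : W.toScheme) (h₀ : G.t r = W.ι u₀)
    (h₁ : G.s r = W.ι u₁) : pq G W hW u₀ = pq G W hW u₁ := by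
  have hr : r ∈ Set.range (G.s ⁻¹ᵁ W).ι := by
    rw [Scheme.Opens.range_ι]
    show G.s r ∈ W
    rw [h₁]
    exact ι_mem W u₁
  obtain ⟨r', rfl⟩ := hr
  have e0 : tW G W hW r' = u₀ := by
    apply W.ι.isOpenEmbedding.injective
    rw [← Scheme.Hom.comp_apply, tW_ι, Scheme.Hom.comp_apply]
    exact h₀
  have e1 : sW G W r' = u₁ := by
    apply W.ι.isOpenEmbedding.injective
    rw [← Scheme.Hom.comp_apply, sW_ι, Scheme.Hom.comp_apply]
    exact h₁
  rw [← e0, ← e1, ← Scheme.Hom.comp_apply, ← Scheme.Hom.comp_apply, tW_pq]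

include hWaff in
theorem isIntegralHom_pq : IsIntegralHom (pq G W hW) := by
  haveI : IsAffine (resGrpd G W hW).U := hWaff
  haveI : IsAffine (resGrpd G W hW).R := isAffine_RW G W hWaff
  haveI : IsFinite (resGrpd G W hW).s := isFinite_sW G W
  haveI : Flat (resGrpd G W hW).s := flat_sW G W
  haveI : LocallyOfFinitePresentation (resGrpd G W hW).s := lfp_sW G W
  haveI : IsIntegralHom (Spec.map (CommRingCat.ofHom (resGrpd G W hW).invariants.subtype)) := by
    rw [IsIntegralHom.SpecMap_iff]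
    have := isIntegral_invariants (resGrpd G W hW)
    exact fun x => this.isIntegral x
  haveI : IsIntegralHom (resGrpd G W hW).toQuot := by
    unfold Grpd.GroupoidScheme.toQuot
    infer_instance
  rw [pq_eq]
  infer_instance

include hWaff in
theorem pq_kpts (k : Type u) [Field k] [IsAlgClosed k]
    (x₀ x₁ : Spec (CommRingCat.of k) ⟶ W.toScheme) (h : x₀ ≫ pq G W hW = x₁ ≫ pq G W hW) :
    ∃ r : Spec (CommRingCat.of k) ⟶ G.R, r ≫ G.t = x₀ ≫ W.ι ∧ r ≫ G.s = x₁ ≫ W.ι := by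
  haveI : IsAffine (resGrpd G W hW).U := hWaff
  haveI : IsAffine (resGrpd G W hW).R := isAffine_RW G W hWaff
  haveI : IsFinite (resGrpd G W hW).s := isFinite_sW G W
  haveI : Flat (resGrpd G W hW).s := flat_sW G W
  haveI : LocallyOfFinitePresentation (resGrpd G W hW).s := lfp_sW G W
  have h1 := ((main_S1878 (resGrpd G W hW)).2 k).2 x₀ x₁
  rw [pq_eq, ← Category.assoc, ← Category.assoc, cancel_mono] at h
  obtain ⟨r', hr1, hr2⟩ := h1.mp h
  refine ⟨r' ≫ (G.s ⁻¹ᵁ W).ι, ?_, ?_⟩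
  · rw [Category.assoc, ← tW_ι G W hW, ← Category.assoc]
    exact congrArg (· ≫ W.ι) hr1
  · rw [Category.assoc, ← sW_ι G W, ← Category.assoc]
    exact congrArg (· ≫ W.ι) hr2

include hWaff in
theorem pq_mem_basicOpen (c : Cinv G W hW) (u : W.toScheme) :
    pq G W hW u ∈ PrimeSpectrum.basicOpen c ↔ W.ι u ∈ G.U.basicOpen (c : Γ(G.U, W)) := by
  have hx : W.ι u ∈ W := ι_mem W u
  have hu : (⟨W.ι u, hx⟩ : W) = u := Subtype.ext rfl
  rw [Groth.Agent.H4.GrpdLib14.mem_basicOpen_iff hWaff c.1 (W.ι u) hx, hu]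
  have h1 : pq G W hW u =
      (Spec.map (CommRingCat.ofHom (Cinv G W hW).subtype)) (W.toSpecΓ u) := by
    unfold pq
    rw [Scheme.Hom.comp_apply]
  rw [h1]
  exact Iff.rfl

end Compare

end Groth.Agent.H4.GrpQ2
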