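import Mathlib
import Groth.Prelude.Def_Grpd
import Groth.Agent.H4.GrpQ2

set_option autoImplicit false
universe u
open CategoryTheory CategoryTheory.Limits AlgebraicGeometry
open Grpd

namespace Groth.Agent.H4.GrpQ3
open Groth.Agent.H4.GrpdLib Groth.Agent.H4.GrpdLib10 Groth.Agent.H4.GrpQ1 Groth.Agent.H4.GrpQ2
  Groth.Agent.H5.Glue

section Alg

theorem away_facts {R S : Type u} [CommRing R] [CommRing S] (f : R →+* S) (x : R)
    (h : @IsLocalization.Away R _ x S _ f.toAlgebra) :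
    IsUnit (f x) ∧ (∀ z : S, ∃ (n : ℕ) (a : R), z * f x ^ n = f a) ∧
      (∀ a b : R, f a = f b → ∃ n : ℕ, x ^ n * a = x ^ n * b) := by
  letI := f.toAlgebra
  haveI := h
  exact ⟨IsLocalization.Away.algebraMap_isUnit x, IsLocalization.Away.surj x,
    fun a b hab => IsLocalization.Away.exists_of_eq x hab⟩

theorem away_of_facts {R S : Type u} [CommRing R] [CommRing S] (f : R →+* S) (x : R)
    (h1 : IsUnit (f x)) (h2 : ∀ z : S, ∃ (n : ℕ) (a : R), z * f x ^ n = f a)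
    (h3 : ∀ a b : R, f a = f b → ∃ n : ℕ, x ^ n * a = x ^ n * b) :
    @IsLocalization.Away R _ x S _ f.toAlgebra := by
  letI := f.toAlgebra
  exact IsLocalization.Away.mk x h1 h2 h3

theorem eqLocus_localization {A AD B BD : Type u} [CommRing A] [CommRing AD] [CommRing B]
    [CommRing BD] (sA tA : A →+* B) (sD tD : AD →+* BD) (rA : A →+* AD) (rB : B →+* BD)
    (hs : ∀ a, sD (rA a) = rB (sA a)) (ht : ∀ a, tD (rA a) = rB (tA a))
    (c : A) (hc : sA c = tA c)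
    (hA : @IsLocalization.Away A _ c AD _ rA.toAlgebra)
    (hB : @IsLocalization.Away B _ (sA c) BD _ rB.toAlgebra)
    (ρ : RingHom.eqLocus sA tA →+* RingHom.eqLocus sD tD) (hρ : ∀ a, (ρ a : AD) = rA a.1) :
    @IsLocalization.Away _ _ (⟨c, hc⟩ : RingHom.eqLocus sA tA) (RingHom.eqLocus sD tD) _
      ρ.toAlgebra := by
  obtain ⟨uA, sjA, eqA⟩ := away_facts rA c hA
  obtain ⟨uB, sjB, eqB⟩ := away_facts rB (sA c) hB
  apply away_of_facts
  · obtain ⟨v, hv⟩ := uA.exists_right_inv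
    have hvmem : v ∈ RingHom.eqLocus sD tD := by
      show sD v = tD v
      have e1 : sD (rA c) * sD v = 1 := by rw [← map_mul, hv, map_one]
      have e2 : tD (rA c) * tD v = 1 := by rw [← map_mul, hv, map_one]
      have e3 : tD (rA c) = sD (rA c) := by rw [hs, ht, hc]
      rw [e3] at e2
      calc sD v = sD v * (sD (rA c) * tD v) := by rw [e2, mul_one]
        _ = (sD (rA c) * sD v) * tD v := by ring
        _ = tD v := by rw [e1, one_mul]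
    refine IsUnit.of_mul_eq_one (a := ρ ⟨c, hc⟩) ⟨v, hvmem⟩ (Subtype.ext ?_)
    show (ρ ⟨c, hc⟩ : AD) * v = 1
    rw [hρ]
    exact hv
  · intro z
    obtain ⟨n, a', ha'⟩ := sjA z.1
    have hz : sD z.1 = tD z.1 := z.2
    have e1 : rB (sA a') = sD z.1 * rB (sA c) ^ n := by
      rw [← hs, ← ha', map_mul, map_pow, hs]
    have e2 : rB (tA a') = sD z.1 * rB (sA c) ^ n := by
      rw [← ht, ← ha', map_mul, map_pow, ht, ← hc, hz]
    obtain ⟨m, hm⟩ := eqB _ _ (e1.trans e2.symm)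
    have hmem : c ^ m * a' ∈ RingHom.eqLocus sA tA := by
      show sA (c ^ m * a') = tA (c ^ m * a')
      rw [map_mul, map_mul, map_pow, map_pow, ← hc]
      exact hm
    refine ⟨n + m, ⟨c ^ m * a', hmem⟩, Subtype.ext ?_⟩
    show z.1 * (ρ ⟨c, hc⟩ : AD) ^ (n + m) = (ρ ⟨c ^ m * a', hmem⟩ : AD)
    rw [hρ, hρ]
    show z.1 * rA c ^ (n + m) = rA (c ^ m * a')
    rw [pow_add, ← mul_assoc, ha', map_mul, map_pow]
    ring
  · intro a b hab
    have h1 : rA a.1 = rA b.1 := by rw [← hρ, ← hρ, hab]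
    obtain ⟨n, hn⟩ := eqA _ _ h1
    exact ⟨n, Subtype.ext hn⟩

end Alg

theorem basicOpen_appLE {X Y : Scheme.{u}} (f : X ⟶ Y) (U : Y.Opens) (V : X.Opens)
    (e : V ≤ f ⁻¹ᵁ U) (r : Γ(Y, U)) :
    X.basicOpen ((f.appLE U V e).hom r) = V ⊓ f ⁻¹ᵁ (Y.basicOpen r) := by
  have h : (f.appLE U V e).hom r = (X.presheaf.map (homOfLE e).op).hom ((f.app U).hom r) := rfl
  rw [h, Scheme.preimage_basicOpen]
  exact Scheme.basicOpen_res _ _ _

theorem exists_point {X : Scheme.{u}} (D : X.Opens) (x : X) (hx : x ∈ D) :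
    ∃ u : D.toScheme, D.ι u = x := by
  have : x ∈ Set.range D.ι := by rw [Scheme.Opens.range_ι]; exact hx
  exact this

theorem ι_homOfLE_apply {X : Scheme.{u}} {W' W : X.Opens} (h : W' ≤ W) (u : W'.toScheme) :
    W.ι (X.homOfLE h u) = W'.ι u := by
  rw [← Scheme.Hom.comp_apply, Scheme.homOfLE_ι]

variable {S : Scheme.{u}} (G : Grpd.GroupoidScheme S)

theorem inv_iff {W : G.U.Opens} (hW : G.s ⁻¹ᵁ W = G.t ⁻¹ᵁ W) (r : G.R) :
    G.s r ∈ W ↔ G.t r ∈ W :=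
  ⟨t_mem_of_s_mem G W hW r, s_mem_of_t_mem G W hW r⟩

theorem φq_pq_apply {W W' : G.U.Opens} (hW : G.s ⁻¹ᵁ W = G.t ⁻¹ᵁ W)
    (hW' : G.s ⁻¹ᵁ W' = G.t ⁻¹ᵁ W') (h : W' ≤ W) (u : W'.toScheme) :
    φq G hW hW' h (pq G W' hW' u) = pq G W hW (G.U.homOfLE h u) := by
  rw [← Scheme.Hom.comp_apply, pq_φq, Scheme.Hom.comp_apply]

section Loc

variable {W : G.U.Opens} (hW : G.s ⁻¹ᵁ W = G.t ⁻¹ᵁ W) (c : Cinv G W hW) {D : G.U.Opens}
  (hD : D = G.U.basicOpen (c : Γ(G.U, W)))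

include hD in
theorem D_le : D ≤ W := hD ▸ G.U.basicOpen_le _

include hD in
theorem D_inv : G.s ⁻¹ᵁ D = G.t ⁻¹ᵁ D := by
  subst hD
  have hs := basicOpen_appLE G.s W (G.s ⁻¹ᵁ W) le_rfl c.1
  have ht := basicOpen_appLE G.t W (G.s ⁻¹ᵁ W) hW.le c.1
  have hc := (mem_Cinv G W hW c.1).mp c.2
  rw [hc] at hs
  have e1 : G.s ⁻¹ᵁ W ⊓ G.s ⁻¹ᵁ G.U.basicOpen c.1 = G.s ⁻¹ᵁ G.U.basicOpen c.1 :=
    inf_eq_right.mpr (fun x hx => G.U.basicOpen_le _ hx)
  have e2 : G.s ⁻¹ᵁ W ⊓ G.t ⁻¹ᵁ G.U.basicOpen c.1 = G.t ⁻¹ᵁ G.U.basicOpen c.1 :=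
    inf_eq_right.mpr (fun x hx => by
      rw [hW]
      exact G.U.basicOpen_le _ hx)
  rw [← e1, ← e2, ← hs, ← ht]

variable [IsFinite G.s] (hWaff : IsAffineOpen W)

include hWaff hD in
theorem loc_Cinv (hDinv : G.s ⁻¹ᵁ D = G.t ⁻¹ᵁ D) (hDW : D ≤ W) :
    @IsLocalization.Away _ _ c (Cinv G D hDinv) _ (resC G hW hDinv hDW).toAlgebra := by
  have hRDW : G.s ⁻¹ᵁ D ≤ G.s ⁻¹ᵁ W := fun x hx => hDW hx
  have hc := (mem_Cinv G W hW c.1).mp c.2
  have hRD : G.s ⁻¹ᵁ D = G.R.basicOpen ((G.s.appLE W (G.s ⁻¹ᵁ W) le_rfl).hom c.1) := by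
    rw [basicOpen_appLE, ← hD]
    exact (inf_eq_right.mpr hRDW).symm
  have hA := hWaff.isLocalization_of_eq_basicOpen c.1 (homOfLE hDW) hD
  have hB := (hWaff.preimage G.s).isLocalization_of_eq_basicOpen
    ((G.s.appLE W (G.s ⁻¹ᵁ W) le_rfl).hom c.1) (homOfLE hRDW) hRD
  exact eqLocus_localization (G.s.appLE W (G.s ⁻¹ᵁ W) le_rfl).hom
    (G.t.appLE W (G.s ⁻¹ᵁ W) hW.le).hom (G.s.appLE D (G.s ⁻¹ᵁ D) le_rfl).hom
    (G.t.appLE D (G.s ⁻¹ᵁ D) hDinv.le).hom (res hDW) (res hRDW)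
    (fun a => by rw [appLE_res_left G.s hDW le_rfl a, res_appLE G.s hRDW le_rfl a])
    (fun a => by rw [appLE_res_left G.t hDW hDinv.le a, res_appLE G.t hRDW hW.le a])
    c.1 hc hA hB (resC G hW hDinv hDW) (fun a => rfl)

include hWaff hD in
theorem isOpenImmersion_φq_basic (hDinv : G.s ⁻¹ᵁ D = G.t ⁻¹ᵁ D) (hDW : D ≤ W) :
    IsOpenImmersion (φq G hW hDinv hDW) := by
  have hloc := loc_Cinv G hW c hD hWaff hDinv hDW
  letI : Algebra (Cinv G W hW) (Cinv G D hDinv) := (resC G hW hDinv hDW).toAlgebra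
  haveI : IsLocalization.Away c (Cinv G D hDinv) := hloc
  unfold φq
  exact IsOpenImmersion.of_isLocalization c

end Loc

section Basic

variable {W : G.U.Opens} (hW : G.s ⁻¹ᵁ W = G.t ⁻¹ᵁ W)
  [IsFinite G.s] [Flat G.s] [LocallyOfFinitePresentation G.s] (hWaff : IsAffineOpen W)

include hWaff in
theorem exists_basic (O : G.U.Opens) (hO : ∀ r : G.R, G.s r ∈ O ↔ G.t r ∈ O)
    (u : W.toScheme) (hu : W.ι u ∈ O) :
    ∃ c : Cinv G W hW, W.ι u ∈ G.U.basicOpen (c : Γ(G.U, W)) ∧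
      G.U.basicOpen (c : Γ(G.U, W)) ≤ O := by
  haveI := isIntegralHom_pq G W hW hWaff
  have hcl : IsClosedMap (pq G W hW) := (pq G W hW).isClosedMap
  have hZ : IsClosed ((pq G W hW) '' {x : W.toScheme | W.ι x ∉ O}) :=
    hcl _ (O.isOpen.preimage W.ι.continuous).isClosed_compl
  have hnot : pq G W hW u ∉ (pq G W hW) '' {x : W.toScheme | W.ι x ∉ O} := by
    rintro ⟨x, hx, hxu⟩
    obtain ⟨r, hr1, hr2⟩ := pq_eq_imp G W hW hWaff x u hxu
    apply hx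
    rw [← hr1]
    apply (hO r).mp
    rw [hr2]
    exact hu
  obtain ⟨c, hc1, hc2⟩ : ∃ c : Cinv G W hW, pq G W hW u ∈ PrimeSpectrum.basicOpen c ∧
      (PrimeSpectrum.basicOpen c : Set (PrimeSpectrum (Cinv G W hW))) ⊆
        ((pq G W hW) '' {x : W.toScheme | W.ι x ∉ O})ᶜ := by
    have hb := PrimeSpectrum.isTopologicalBasis_basic_opens (R := Cinv G W hW)
    obtain ⟨_, ⟨c, rfl⟩, h1, h2⟩ := hb.exists_subset_of_mem_open hnot hZ.isOpen_compl
    exact ⟨c, h1, h2⟩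
  refine ⟨c, (pq_mem_basicOpen G W hW hWaff c u).mp hc1, fun x hx => ?_⟩
  have hxW : x ∈ W := G.U.basicOpen_le _ hx
  obtain ⟨x', rfl⟩ := exists_point W x hxW
  by_contra hxO
  exact hc2 ((pq_mem_basicOpen G W hW hWaff c x').mpr hx) ⟨x', hxO, rfl⟩

variable {W' : G.U.Opens} (hW' : G.s ⁻¹ᵁ W' = G.t ⁻¹ᵁ W') (hW'aff : IsAffineOpen W')

include hWaff hW'aff in
theorem isOpenImmersion_φq (h : W' ≤ W) : IsOpenImmersion (φq G hW hW' h) := by
  apply IsOpenImmersion.of_forall_source_exists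
  · intro y₁ y₂ hy
    obtain ⟨u₁, rfl⟩ := pq_surjective G W' hW' hW'aff y₁
    obtain ⟨u₂, rfl⟩ := pq_surjective G W' hW' hW'aff y₂
    rw [φq_pq_apply, φq_pq_apply] at hy
    obtain ⟨r, hr1, hr2⟩ := pq_eq_imp G W hW hWaff _ _ hy
    rw [ι_homOfLE_apply] at hr1 hr2
    exact pq_eq_of_arrow G W' hW' r u₁ u₂ hr1 hr2
  · intro y
    obtain ⟨u, rfl⟩ := pq_surjective G W' hW' hW'aff y
    obtain ⟨c, hc1, hc2⟩ := exists_basic G hW hWaff W' (inv_iff G hW') (G.U.homOfLE h u) (by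
      rw [ι_homOfLE_apply]
      exact ι_mem W' u)
    rw [ι_homOfLE_apply] at hc1
    obtain ⟨D, hD⟩ : ∃ D : G.U.Opens, D = G.U.basicOpen (c : Γ(G.U, W)) := ⟨_, rfl⟩
    rw [← hD] at hc1 hc2
    have hDinv := D_inv G hW c hD
    have hDW : D ≤ W := D_le G hW c hD
    have hD' : D = G.U.basicOpen ((resC G hW hW' h c : Cinv G W' hW') : Γ(G.U, W')) := by
      show D = G.U.basicOpen ((G.U.presheaf.map (homOfLE h).op).hom c.1)
      have := Scheme.basicOpen_res G.U c.1 (homOfLE h).op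
      rw [← hD] at this
      exact (this.trans (inf_eq_right.mpr hc2)).symm
    obtain ⟨uD, huD⟩ := exists_point D _ hc1
    refine ⟨Yq G D hDinv, φq G hW' hDinv hc2,
      isOpenImmersion_φq_basic G hW' (resC G hW hW' h c) hD' hW'aff hDinv hc2, ?_, ?_⟩
    · refine ⟨pq G D hDinv uD, ?_⟩
      rw [φq_pq_apply]
      congr 1
      apply W'.ι.isOpenEmbedding.injective
      rw [ι_homOfLE_apply]
      exact huD
    · rw [φq_comp]
      exact isOpenImmersion_φq_basic G hW c hD hWaff hDinv hDW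

end Basic

section Functor

/-- invariant affine opens -/
abbrev J : Type u := {W : G.U.Opens // IsAffineOpen W ∧ G.s ⁻¹ᵁ W = G.t ⁻¹ᵁ W}

/-- the diagram of affine quotients -/
noncomputable def F : J G ⥤ Scheme.{u} where
  obj W := Yq G W.1 W.2.2
  map {W' W} f := φq G W.2.2 W'.2.2 (leOfHom f)
  map_id W := φq_self G W.2.2
  map_comp f g := (φq_comp G _ _ _ (leOfHom g) (leOfHom f)).symm

variable [IsFinite G.s] [Flat G.s] [LocallyOfFinitePresentation G.s]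

instance {W' W : J G} (f : W' ⟶ W) : IsOpenImmersion ((F G).map f) :=
  isOpenImmersion_φq G W.2.2 W.2.1 W'.2.2 W'.2.1 (leOfHom f)

/-- shrinking inside an invariant open -/
theorem exists_J_sub (W : J G) (O : G.U.Opens) (hO : ∀ r : G.R, G.s r ∈ O ↔ G.t r ∈ O)
    (u : W.1.toScheme) (hu : W.1.ι u ∈ O) :
    ∃ W' : J G, W'.1 ≤ W.1 ∧ W'.1 ≤ O ∧ W.1.ι u ∈ W'.1 := by
  obtain ⟨c, hc1, hc2⟩ := exists_basic G W.2.2 W.2.1 O hO u hu
  exact ⟨⟨G.U.basicOpen (c : Γ(G.U, W.1)), W.2.1.basicOpen _, D_inv G W.2.2 c rfl⟩,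
    G.U.basicOpen_le _, hc2, hc1⟩

instance : ((F G) ⋙ Scheme.forget).IsLocallyDirected where
  cond {i j k} fi fj xi xj hxij := by
    change (F G).map fi xi = (F G).map fj xj at hxij
    change φq G k.2.2 i.2.2 (leOfHom fi) xi = φq G k.2.2 j.2.2 (leOfHom fj) xj at hxij
    obtain ⟨ui, rfl⟩ := pq_surjective G i.1 i.2.2 i.2.1 xi
    obtain ⟨uj, rfl⟩ := pq_surjective G j.1 j.2.2 j.2.1 xj
    rw [φq_pq_apply, φq_pq_apply] at hxij
    obtain ⟨r, hr1, hr2⟩ := pq_eq_imp G k.1 k.2.2 k.2.1 _ _ hxij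
    rw [ι_homOfLE_apply] at hr1 hr2
    have huij : i.1.ι ui ∈ j.1 := by
      rw [← hr1]
      apply t_mem_of_s_mem G j.1 j.2.2
      rw [hr2]
      exact ι_mem j.1 uj
    obtain ⟨l, hli, hlj, hul⟩ := exists_J_sub G i j.1 (inv_iff G j.2.2) ui huij
    obtain ⟨uD, huD⟩ := exists_point l.1 _ hul
    refine ⟨l, homOfLE hli, homOfLE hlj, pq G l.1 l.2.2 uD, ?_, ?_⟩
    · change φq G i.2.2 l.2.2 hli (pq G l.1 l.2.2 uD) = _
      rw [φq_pq_apply]
      congr 1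
      apply i.1.ι.isOpenEmbedding.injective
      rw [ι_homOfLE_apply]
      exact huD
    · change φq G j.2.2 l.2.2 hlj (pq G l.1 l.2.2 uD) = _
      rw [φq_pq_apply]
      refine pq_eq_of_arrow G j.1 j.2.2 r _ uj ?_ hr2
      rw [ι_homOfLE_apply, huD]
      exact hr1

end Functor

end Groth.Agent.H4.GrpQ3
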