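import Mathlib
import Groth.Prelude.Def_Grpd
import Groth.Agent.H4.GrpQ3
import Groth.Agent.H4.GrpdLib3
import Groth.Agent.H4.GrpdLib14

set_option autoImplicit false
universe u
open CategoryTheory CategoryTheory.Limits AlgebraicGeometry
open Grpd

namespace Groth.Agent.H4.GrpQ4
open Groth.Agent.H4.GrpdLib Groth.Agent.H4.GrpdLib10 Groth.Agent.H4.GrpQ1 Groth.Agent.H4.GrpQ2
  Groth.Agent.H4.GrpQ3 Groth.Agent.H5.Glue

variable {S : Scheme.{u}} (G : Grpd.GroupoidScheme S)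
  [IsFinite G.s] [Flat G.s] [LocallyOfFinitePresentation G.s]

/-- the structure maps into the glued quotient -/
noncomputable def ιc (W : J G) : Yq G W.1 W.2.2 ⟶ colimit (F G) := colimit.ι (F G) W

instance (W : J G) : IsOpenImmersion (ιc G W) :=
  inferInstanceAs (IsOpenImmersion (colimit.ι (F G) W))

@[reassoc]
theorem φq_ιc {W' W : J G} (h : W'.1 ≤ W.1) : φq G W.2.2 W'.2.2 h ≫ ιc G W = ιc G W' :=
  colimit.w (F G) (homOfLE h)

theorem ιc_surj (y : ↥(colimit (F G))) : ∃ (W : J G) (z : Yq G W.1 W.2.2), ιc G W z = y :=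
  Scheme.IsLocallyDirected.ι_jointly_surjective (F G) y

theorem ιc_eq_imp {W₁ W₂ : J G} (z₁ : Yq G W₁.1 W₁.2.2) (z₂ : Yq G W₂.1 W₂.2.2)
    (h : ιc G W₁ z₁ = ιc G W₂ z₂) :
    ∃ (k : J G) (h1 : k.1 ≤ W₁.1) (h2 : k.1 ≤ W₂.1) (z : Yq G k.1 k.2.2),
      φq G W₁.2.2 k.2.2 h1 z = z₁ ∧ φq G W₂.2.2 k.2.2 h2 z = z₂ := by
  obtain ⟨k, fi, fj, x, hx1, hx2⟩ := (Scheme.IsLocallyDirected.ι_eq_ι_iff (F := F G)).mp h
  exact ⟨k, leOfHom fi, leOfHom fj, x, hx1, hx2⟩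

section Covers

variable (P : J G → Prop)

/-- the cover of `U` by the invariant affine opens in `P` -/
@[reducible] noncomputable def covU (hcov : ∀ x : G.U, ∃ W : J G, P W ∧ x ∈ W.1) :
    G.U.OpenCover where
  I₀ := {W : J G // P W}
  X W := W.1.1.toScheme
  f W := W.1.1.ι
  mem₀ := by
    rw [Scheme.presieve₀_mem_precoverage_iff]
    refine ⟨fun x => ?_, fun W => (inferInstance : IsOpenImmersion W.1.1.ι)⟩
    obtain ⟨W, hP, hx⟩ := hcov x
    obtain ⟨u, hu⟩ := exists_point W.1 x hx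
    exact ⟨⟨W, hP⟩, u, hu⟩

instance (hcov : ∀ x : G.U, ∃ W : J G, P W ∧ x ∈ W.1) : Preorder (covU G P hcov).I₀ :=
  inferInstanceAs (Preorder {W : J G // P W})

@[reducible] noncomputable def covU_ld (hcov : ∀ x : G.U, ∃ W : J G, P W ∧ x ∈ W.1)
    (hdown : ∀ W' W : J G, W'.1 ≤ W.1 → P W → P W') : (covU G P hcov).LocallyDirected where
  trans {i j} hij := G.U.homOfLE (show i.1.1 ≤ j.1.1 from leOfHom hij)
  trans_id i := Scheme.homOfLE_rfl _ _
  trans_comp hij hjk := (Scheme.homOfLE_homOfLE _ _ _).symm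
  w hij := Scheme.homOfLE_ι _ _
  directed {i j} x := by
    have hcond : i.1.1.ι (pullback.fst i.1.1.ι j.1.1.ι x) =
        j.1.1.ι (pullback.snd i.1.1.ι j.1.1.ι x) := by
      rw [← Scheme.Hom.comp_apply, ← Scheme.Hom.comp_apply, pullback.condition]
    have hmem : i.1.1.ι (pullback.fst i.1.1.ι j.1.1.ι x) ∈ j.1.1 := by
      rw [hcond]
      exact ι_mem _ _
    obtain ⟨W', h1, h2, h3⟩ := exists_J_sub G i.1 j.1.1 (inv_iff G j.1.2.2) _ hmem
    obtain ⟨y, hy⟩ := exists_point W'.1 _ h3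
    refine ⟨⟨W', hdown W' i.1 h1 i.2⟩, homOfLE h1, homOfLE h2, y, ?_⟩
    apply (pullback.fst i.1.1.ι j.1.1.ι ≫ i.1.1.ι).isOpenEmbedding.injective
    rw [← Scheme.Hom.comp_apply, pullback.lift_fst_assoc]
    show (G.U.homOfLE h1 ≫ i.1.1.ι) y = _
    rw [Scheme.homOfLE_ι, hy, Scheme.Hom.comp_apply]
  property_trans {i j} hij :=
    (inferInstance : IsOpenImmersion (G.U.homOfLE (show i.1.1 ≤ j.1.1 from leOfHom hij)))

/-- the cover of the quotient by the affine quotients in `P` -/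
@[reducible] noncomputable def covY (hcovY : ∀ y : ↥(colimit (F G)), ∃ (W : J G) (_ : P W)
    (z : Yq G W.1 W.2.2), ιc G W z = y) : (colimit (F G)).OpenCover where
  I₀ := {W : J G // P W}
  X W := Yq G W.1.1 W.1.2.2
  f W := ιc G W.1
  mem₀ := by
    rw [Scheme.presieve₀_mem_precoverage_iff]
    refine ⟨fun y => ?_, fun W => (inferInstance : IsOpenImmersion (ιc G W.1))⟩
    obtain ⟨W, hP, z, hz⟩ := hcovY y
    exact ⟨⟨W, hP⟩, z, hz⟩

instance (hcovY : ∀ y : ↥(colimit (F G)), ∃ (W : J G) (_ : P W)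
    (z : Yq G W.1 W.2.2), ιc G W z = y) : Preorder (covY G P hcovY).I₀ :=
  inferInstanceAs (Preorder {W : J G // P W})

@[reducible] noncomputable def covY_ld (hcovY : ∀ y : ↥(colimit (F G)), ∃ (W : J G) (_ : P W)
    (z : Yq G W.1 W.2.2), ιc G W z = y)
    (hdown : ∀ W' W : J G, W'.1 ≤ W.1 → P W → P W') : (covY G P hcovY).LocallyDirected where
  trans {i j} hij := φq G j.1.2.2 i.1.2.2 (show i.1.1 ≤ j.1.1 from leOfHom hij)
  trans_id i := φq_self G i.1.2.2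
  trans_comp hij hjk := (φq_comp G _ _ _ _ _).symm
  w hij := φq_ιc G _
  directed {i j} x := by
    have hcond : ιc G i.1 (pullback.fst (ιc G i.1) (ιc G j.1) x) =
        ιc G j.1 (pullback.snd (ιc G i.1) (ιc G j.1) x) := by
      rw [← Scheme.Hom.comp_apply, ← Scheme.Hom.comp_apply, pullback.condition]
    obtain ⟨k, h1, h2, z, hz1, hz2⟩ := ιc_eq_imp G _ _ hcond
    refine ⟨⟨k, hdown k i.1 h1 i.2⟩, homOfLE h1, homOfLE h2, z, ?_⟩
    apply (pullback.fst (ιc G i.1) (ιc G j.1) ≫ ιc G i.1).isOpenEmbedding.injective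
    rw [← Scheme.Hom.comp_apply, pullback.lift_fst_assoc]
    show (φq G i.1.2.2 k.2.2 h1 ≫ ιc G i.1) z = _
    rw [Scheme.Hom.comp_apply, hz1, Scheme.Hom.comp_apply]
  property_trans {i j} hij := isOpenImmersion_φq G j.1.2.2 j.1.2.1 i.1.2.2 i.1.2.1 _

end Covers

section Main

variable (hJ : ∀ x : G.U, ∃ W : J G, x ∈ W.1)

theorem pc_compat {i j : J G} (hij : i.1 ≤ j.1) :
    G.U.homOfLE hij ≫ pq G j.1 j.2.2 ≫ ιc G j = pq G i.1 i.2.2 ≫ ιc G i := by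
  rw [← Category.assoc, ← pq_φq G j.2.2 i.2.2 hij, Category.assoc, φq_ιc]

/-- the quotient morphism -/
noncomputable def pc : G.U ⟶ colimit (F G) :=
  letI := covU_ld G (fun _ => True) (fun x => (hJ x).imp fun _ h => ⟨trivial, h⟩)
    (fun _ _ _ _ => trivial)
  (covU G (fun _ => True) (fun x => (hJ x).imp fun _ h => ⟨trivial, h⟩)).glueMorphismsOfLocallyDirected
    (fun W => pq G W.1.1 W.1.2.2 ≫ ιc G W.1)
    (fun {i j} hij => pc_compat G (show i.1.1 ≤ j.1.1 from leOfHom hij))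

@[reassoc]
theorem ι_pc (W : J G) : W.1.ι ≫ pc G hJ = pq G W.1 W.2.2 ≫ ιc G W := by
  letI := covU_ld G (fun _ => True) (fun x => (hJ x).imp fun _ h => ⟨trivial, h⟩)
    (fun _ _ _ _ => trivial)
  exact Scheme.OpenCover.map_glueMorphismsOfLocallyDirected
    (covU G (fun _ => True) (fun x => (hJ x).imp fun _ h => ⟨trivial, h⟩))
    (fun W => pq G W.1.1 W.1.2.2 ≫ ιc G W.1)
    (fun {i j} hij => pc_compat G (show i.1.1 ≤ j.1.1 from leOfHom hij)) ⟨W, trivial⟩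

theorem pc_apply (W : J G) (u : W.1.toScheme) :
    pc G hJ (W.1.ι u) = ιc G W (pq G W.1 W.2.2 u) := by
  rw [← Scheme.Hom.comp_apply, ι_pc, Scheme.Hom.comp_apply]

theorem t_pc : G.t ≫ pc G hJ = G.s ≫ pc G hJ := by
  let 𝒱 : G.R.OpenCover := Scheme.Cover.mkOfCovers (J G) (fun W => (G.s ⁻¹ᵁ W.1).toScheme)
    (fun W => (G.s ⁻¹ᵁ W.1).ι) (fun r => by
      obtain ⟨W, hW⟩ := hJ (G.s r)
      obtain ⟨r', hr'⟩ := exists_point (G.s ⁻¹ᵁ W.1) r hW
      exact ⟨W, r', hr'⟩)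
  refine 𝒱.hom_ext _ _ fun W => ?_
  show (G.s ⁻¹ᵁ W.1).ι ≫ G.t ≫ pc G hJ = (G.s ⁻¹ᵁ W.1).ι ≫ G.s ≫ pc G hJ
  rw [← tW_ι_assoc G W.1 W.2.2, ← sW_ι_assoc G W.1, ι_pc, ← Category.assoc, tW_pq,
    Category.assoc]

theorem pc_surjective : Function.Surjective (pc G hJ) := by
  intro y
  obtain ⟨W, z, rfl⟩ := ιc_surj G y
  obtain ⟨u, rfl⟩ := pq_surjective G W.1 W.2.2 W.2.1 z
  exact ⟨W.1.ι u, pc_apply G hJ W u⟩

theorem pc_eq_iff (x y : G.U) :
    pc G hJ x = pc G hJ y ↔ ∃ r : G.R, G.t r = x ∧ G.s r = y := by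
  constructor
  · intro h
    obtain ⟨W₁, hx⟩ := hJ x
    obtain ⟨u₁, rfl⟩ := exists_point W₁.1 x hx
    obtain ⟨W₂, hy⟩ := hJ y
    obtain ⟨u₂, rfl⟩ := exists_point W₂.1 y hy
    rw [pc_apply, pc_apply] at h
    obtain ⟨k, h1, h2, z, hz1, hz2⟩ := ιc_eq_imp G _ _ h
    obtain ⟨u, rfl⟩ := pq_surjective G k.1 k.2.2 k.2.1 z
    rw [φq_pq_apply] at hz1 hz2
    obtain ⟨r₁, hr11, hr12⟩ := pq_eq_imp G W₁.1 W₁.2.2 W₁.2.1 _ _ hz1
    obtain ⟨r₂, hr21, hr22⟩ := pq_eq_imp G W₂.1 W₂.2.2 W₂.2.1 _ _ hz2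
    rw [ι_homOfLE_apply] at hr11 hr21
    obtain ⟨r, hr1, hr2⟩ := exists_comp_point G (G.i r₁) r₂ (by rw [i_s_apply, hr11, hr21])
    exact ⟨r, by rw [hr1, i_t_apply, hr12], by rw [hr2, hr22]⟩
  · rintro ⟨r, rfl, rfl⟩
    rw [← Scheme.Hom.comp_apply, t_pc, Scheme.Hom.comp_apply]

theorem preimage_range (W : J G) : pc G hJ ⁻¹ᵁ (ιc G W).opensRange = W.1 := by
  apply SetLike.ext
  intro x
  constructor
  · rintro ⟨z, hz⟩
    obtain ⟨u, rfl⟩ := pq_surjective G W.1 W.2.2 W.2.1 z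
    rw [← pc_apply G hJ W u] at hz
    obtain ⟨r, hr1, hr2⟩ := (pc_eq_iff G hJ _ _).mp hz
    rw [← hr2]
    apply s_mem_of_t_mem G W.1 W.2.2
    rw [hr1]
    exact ι_mem W.1 u
  · intro hx
    obtain ⟨u, rfl⟩ := exists_point W.1 x hx
    exact ⟨pq G W.1 W.2.2 u, (pc_apply G hJ W u).symm⟩

theorem isPullback_pc (W : J G) :
    IsPullback W.1.ι (pq G W.1 W.2.2) (pc G hJ) (ιc G W) :=
  (IsOpenImmersion.isPullback (pq G W.1 W.2.2) W.1.ι (ιc G W) (pc G hJ) (ι_pc G hJ W) (by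
    rw [preimage_range, Scheme.Opens.opensRange_ι])).flip

theorem ιc_surj' (y : ↥(colimit (F G))) : ∃ (W : J G) (_ : (fun _ : J G => True) W)
    (z : Yq G W.1 W.2.2), ιc G W z = y := by
  obtain ⟨W, z, hz⟩ := ιc_surj G y
  exact ⟨W, trivial, z, hz⟩

/-- `P` is local on the quotient -/
theorem pc_of_local (P : MorphismProperty Scheme.{u}) [IsZariskiLocalAtTarget P]
    (h : ∀ W : J G, P (pq G W.1 W.2.2)) : P (pc G hJ) := by
  refine IsZariskiLocalAtTarget.of_openCover (P := P)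
    (covY G (fun _ => True) (ιc_surj' G)) (fun W => ?_)
  exact (iff_of_isPullback (P := P) (isPullback_pc G hJ W.1)
    (IsPullback.of_hasPullback _ _)).mp (h W.1)

theorem isIntegralHom_pc : IsIntegralHom (pc G hJ) :=
  pc_of_local G hJ @IsIntegralHom (fun W => isIntegralHom_pq G W.1 W.2.2 W.2.1)

theorem isOpenMap_pc : IsOpenMap (pc G hJ) := by
  haveI := isIntegralHom_pc G hJ
  haveI : Flat G.t := by rw [t_eq G]; infer_instance
  haveI : LocallyOfFinitePresentation G.t := by rw [t_eq G]; infer_instance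
  have hq : Topology.IsQuotientMap (pc G hJ) :=
    (pc G hJ).isClosedMap.isQuotientMap (pc G hJ).continuous (pc_surjective G hJ)
  intro O hO
  rw [← hq.isOpen_preimage]
  have e : (pc G hJ) ⁻¹' ((pc G hJ) '' O) = G.t '' (G.s ⁻¹' O) := by
    ext x
    constructor
    · rintro ⟨y, hy, hxy⟩
      obtain ⟨r, hr1, hr2⟩ := (pc_eq_iff G hJ _ _).mp hxy.symm
      exact ⟨r, by show G.s r ∈ O; rw [hr2]; exact hy, hr1⟩
    · rintro ⟨r, hr, rfl⟩
      exact ⟨G.s r, hr, ((pc_eq_iff G hJ _ _).mpr ⟨r, rfl, rfl⟩).symm⟩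
  rw [e]
  exact G.t.isOpenMap _ (hO.preimage G.s.continuous)

theorem isAffine_colimit (hU : IsAffine G.U) : IsAffine (colimit (F G)) := by
  let Wt : J G := ⟨⊤, isAffineOpen_top G.U, rfl⟩
  have hs : Function.Surjective (ιc G Wt) := by
    intro y
    obtain ⟨W, z, rfl⟩ := ιc_surj G y
    refine ⟨φq G Wt.2.2 W.2.2 le_top z, ?_⟩
    have e := φq_ιc G (W' := W) (W := Wt) le_top
    rw [← Scheme.Hom.comp_apply, e]
  haveI : IsIso (ιc G Wt) :=
    (isIso_iff_isOpenImmersion_and_surjective _).mpr ⟨inferInstance, ⟨hs⟩⟩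
  exact IsAffine.of_isIso (inv (ιc G Wt))

end Main

end Groth.Agent.H4.GrpQ4
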