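import Mathlib
import Groth.Prelude.Def_Grpd
import Groth.Prelude.Def_Mor2
import Groth.Agent.H4.GrpQ4

set_option autoImplicit false
universe u
open CategoryTheory CategoryTheory.Limits AlgebraicGeometry
open Grpd

namespace Groth.Agent.H4.GrpQ5
open Groth.Agent.H4.GrpdLib Groth.Agent.H4.GrpdLib10 Groth.Agent.H4.GrpQ1 Groth.Agent.H4.GrpQ2
  Groth.Agent.H4.GrpQ3 Groth.Agent.H4.GrpQ4 Groth.Agent.H5.Glue

variable {S : Scheme.{u}} (G : Grpd.GroupoidScheme S)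
  [IsFinite G.s] [Flat G.s] [LocallyOfFinitePresentation G.s]

section KPts

variable (hJ : ∀ x : G.U, ∃ W : J G, x ∈ W.1)

theorem lift_surjective :
    Function.Surjective (pullback.lift G.t G.s (t_pc G hJ)) := by
  intro z
  let K := (pullback (pc G hJ) (pc G hJ)).residueField z
  let k := AlgebraicClosure K
  obtain ⟨ζ, hζ⟩ : ∃ ζ : Spec (CommRingCat.of k) ⟶ pullback (pc G hJ) (pc G hJ),
      ∀ pt, ζ pt = z := by
    refine ⟨Spec.map (CommRingCat.ofHom (algebraMap K k)) ≫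
      (pullback (pc G hJ) (pc G hJ)).fromSpecResidueField z, fun pt => ?_⟩
    rw [Scheme.Hom.comp_apply, Scheme.fromSpecResidueField_apply]
  obtain ⟨W, hW⟩ := hJ (pullback.fst (pc G hJ) (pc G hJ) z)
  have hcond : pc G hJ (pullback.fst (pc G hJ) (pc G hJ) z) =
      pc G hJ (pullback.snd (pc G hJ) (pc G hJ) z) := by
    rw [← Scheme.Hom.comp_apply, ← Scheme.Hom.comp_apply, pullback.condition]
  have hW' : pullback.snd (pc G hJ) (pc G hJ) z ∈ W.1 := by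
    have h1 : pullback.fst (pc G hJ) (pc G hJ) z ∈ pc G hJ ⁻¹ᵁ (ιc G W).opensRange := by
      rw [preimage_range]; exact hW
    have h2 : pullback.snd (pc G hJ) (pc G hJ) z ∈ pc G hJ ⁻¹ᵁ (ιc G W).opensRange := by
      show pc G hJ _ ∈ (ιc G W).opensRange
      rw [← hcond]; exact h1
    rwa [preimage_range] at h2
  have hr₀ : Set.range (ζ ≫ pullback.fst (pc G hJ) (pc G hJ)) ⊆ Set.range W.1.ι := by
    rintro _ ⟨pt, rfl⟩
    rw [Scheme.Opens.range_ι, Scheme.Hom.comp_apply, hζ]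
    exact hW
  have hr₁ : Set.range (ζ ≫ pullback.snd (pc G hJ) (pc G hJ)) ⊆ Set.range W.1.ι := by
    rintro _ ⟨pt, rfl⟩
    rw [Scheme.Opens.range_ι, Scheme.Hom.comp_apply, hζ]
    exact hW'
  obtain ⟨b₀, e₀⟩ : ∃ b : Spec (CommRingCat.of k) ⟶ W.1.toScheme,
      b ≫ W.1.ι = ζ ≫ pullback.fst (pc G hJ) (pc G hJ) :=
    ⟨_, IsOpenImmersion.lift_fac W.1.ι _ hr₀⟩
  obtain ⟨b₁, e₁⟩ : ∃ b : Spec (CommRingCat.of k) ⟶ W.1.toScheme,
      b ≫ W.1.ι = ζ ≫ pullback.snd (pc G hJ) (pc G hJ) :=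
    ⟨_, IsOpenImmersion.lift_fac W.1.ι _ hr₁⟩
  have hb : b₀ ≫ pq G W.1 W.2.2 = b₁ ≫ pq G W.1 W.2.2 := by
    rw [← cancel_mono (ιc G W), Category.assoc, Category.assoc, ← ι_pc G hJ W,
      ← Category.assoc, ← Category.assoc, e₀, e₁, Category.assoc, Category.assoc,
      pullback.condition]
  obtain ⟨ρ, hρ₀, hρ₁⟩ := pq_kpts G W.1 W.2.2 W.2.1 k b₀ b₁ hb
  rw [e₀] at hρ₀
  rw [e₁] at hρ₁
  have hρ : ρ ≫ pullback.lift G.t G.s (t_pc G hJ) = ζ := by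
    apply pullback.hom_ext
    · rw [Category.assoc, pullback.lift_fst, hρ₀]
    · rw [Category.assoc, pullback.lift_snd, hρ₁]
  have pt : Spec (CommRingCat.of k) := (inferInstance : Nonempty (Spec (CommRingCat.of k))).some
  refine ⟨ρ pt, ?_⟩
  rw [← Scheme.Hom.comp_apply, hρ, hζ]

end KPts

section Desc

variable {Z : Scheme.{u}} (f : G.U ⟶ Z) (hf : G.t ≫ f = G.s ≫ f)

theorem appLE_congr {X Y : Scheme.{u}} {a b : X ⟶ Y} (h : a = b) (Z' : Y.Opens) (V : X.Opens)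
    (e : V ≤ a ⁻¹ᵁ Z') : a.appLE Z' V e = b.appLE Z' V (h ▸ e) := by
  subst h; rfl

include hf in
/-- the ring map of an invariant morphism into an affine open lands in the invariants -/
theorem appLE_mem_Cinv (W : G.U.Opens) (hW : G.s ⁻¹ᵁ W = G.t ⁻¹ᵁ W) (Z' : Z.Opens)
    (hle : W ≤ f ⁻¹ᵁ Z') (b : Γ(Z, Z')) : (f.appLE Z' W hle).hom b ∈ Cinv G W hW := by
  rw [mem_Cinv]
  have key : f.appLE Z' W hle ≫ G.s.appLE W (G.s ⁻¹ᵁ W) le_rfl =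
      f.appLE Z' W hle ≫ G.t.appLE W (G.s ⁻¹ᵁ W) hW.le := by
    rw [Scheme.Hom.appLE_comp_appLE, Scheme.Hom.appLE_comp_appLE]
    have e : G.s ⁻¹ᵁ W ≤ (G.t ≫ f) ⁻¹ᵁ Z' :=
      hW.le.trans ((TopologicalSpace.Opens.map G.t.base).map (homOfLE hle)).le
    exact (appLE_congr hf Z' (G.s ⁻¹ᵁ W) e).symm
  exact congrArg (fun φ => φ.hom b) key

/-- the ring map to the invariants -/
noncomputable def ψW (W : G.U.Opens) (hW : G.s ⁻¹ᵁ W = G.t ⁻¹ᵁ W) (Z' : Z.Opens)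
    (hle : W ≤ f ⁻¹ᵁ Z') : Γ(Z, Z') →+* Cinv G W hW :=
  (f.appLE Z' W hle).hom.codRestrict (Cinv G W hW) (appLE_mem_Cinv G f hf W hW Z' hle)

/-- the local descent of `f` -/
noncomputable def gW (W : G.U.Opens) (hW : G.s ⁻¹ᵁ W = G.t ⁻¹ᵁ W) (Z' : Z.Opens)
    (hZ' : IsAffineOpen Z') (hle : W ≤ f ⁻¹ᵁ Z') : Yq G W hW ⟶ Z :=
  Spec.map (CommRingCat.ofHom (ψW G f hf W hW Z' hle)) ≫ hZ'.fromSpec

theorem pq_gW (W : G.U.Opens) (hW : G.s ⁻¹ᵁ W = G.t ⁻¹ᵁ W) (Z' : Z.Opens)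
    (hZ' : IsAffineOpen Z') (hle : W ≤ f ⁻¹ᵁ Z') :
    pq G W hW ≫ gW G f hf W hW Z' hZ' hle = W.ι ≫ f := by
  have e : CommRingCat.ofHom (ψW G f hf W hW Z' hle) ≫
      CommRingCat.ofHom (Cinv G W hW).subtype = f.appLE Z' W hle :=
    CommRingCat.hom_ext (RingHom.ext fun a => rfl)
  unfold pq gW
  rw [Category.assoc, ← Spec.map_comp_assoc, e, Scheme.Opens.toSpecΓ_SpecMap_appLE_assoc,
    IsAffineOpen.toSpecΓ_fromSpec, Scheme.Hom.resLE_comp_ι]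

omit [IsFinite G.s] [Flat G.s] [LocallyOfFinitePresentation G.s] in
theorem subtype_cancel (W : G.U.Opens) (hW : G.s ⁻¹ᵁ W = G.t ⁻¹ᵁ W) {A : CommRingCat.{u}}
    (θ₁ θ₂ : A ⟶ CommRingCat.of (Cinv G W hW))
    (h : θ₁ ≫ CommRingCat.ofHom (Cinv G W hW).subtype =
      θ₂ ≫ CommRingCat.ofHom (Cinv G W hW).subtype) : θ₁ = θ₂ := by
  apply CommRingCat.hom_ext
  apply RingHom.ext
  intro a
  have := congrArg (fun φ => φ.hom a) h
  exact Subtype.ext this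

theorem gW_unique (W : G.U.Opens) (hW : G.s ⁻¹ᵁ W = G.t ⁻¹ᵁ W) (hWaff : IsAffineOpen W)
    (Z' : Z.Opens) (hZ' : IsAffineOpen Z') (hle : W ≤ f ⁻¹ᵁ Z')
    (g₁ g₂ : Yq G W hW ⟶ Z) (h₁ : pq G W hW ≫ g₁ = W.ι ≫ f)
    (h₂ : pq G W hW ≫ g₂ = W.ι ≫ f) : g₁ = g₂ := by
  have hr : ∀ g : Yq G W hW ⟶ Z, pq G W hW ≫ g = W.ι ≫ f →
      Set.range g ⊆ Set.range Z'.ι := by
    intro g hg
    rintro _ ⟨z, rfl⟩
    obtain ⟨u, rfl⟩ := pq_surjective G W hW hWaff z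
    rw [Scheme.Opens.range_ι, ← Scheme.Hom.comp_apply, hg, Scheme.Hom.comp_apply]
    exact hle (ι_mem W u)
  have e₁ := IsOpenImmersion.lift_fac Z'.ι g₁ (hr g₁ h₁)
  have e₂ := IsOpenImmersion.lift_fac Z'.ι g₂ (hr g₂ h₂)
  have h' : pq G W hW ≫ IsOpenImmersion.lift Z'.ι g₁ (hr g₁ h₁) =
      pq G W hW ≫ IsOpenImmersion.lift Z'.ι g₂ (hr g₂ h₂) := by
    rw [← cancel_mono Z'.ι, Category.assoc, Category.assoc, e₁, e₂, h₁, h₂]
  obtain ⟨θ₁, hθ₁⟩ : ∃ θ, Spec.map θ =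
      IsOpenImmersion.lift Z'.ι g₁ (hr g₁ h₁) ≫ hZ'.isoSpec.hom :=
    ⟨Spec.preimage _, Spec.map_preimage _⟩
  obtain ⟨θ₂, hθ₂⟩ : ∃ θ, Spec.map θ =
      IsOpenImmersion.lift Z'.ι g₂ (hr g₂ h₂) ≫ hZ'.isoSpec.hom :=
    ⟨Spec.preimage _, Spec.map_preimage _⟩
  have h'' : pq G W hW ≫ Spec.map θ₁ = pq G W hW ≫ Spec.map θ₂ := by
    rw [hθ₁, hθ₂, ← Category.assoc, h', Category.assoc]
  unfold pq at h''
  haveI : IsIso W.toSpecΓ := by rw [← hWaff.isoSpec_hom]; infer_instance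
  rw [Category.assoc, Category.assoc, cancel_epi, ← Spec.map_comp, ← Spec.map_comp] at h''
  have h4 : θ₁ = θ₂ := subtype_cancel G W hW θ₁ θ₂ (Spec.map_injective h'')
  have h5 : IsOpenImmersion.lift Z'.ι g₁ (hr g₁ h₁) = IsOpenImmersion.lift Z'.ι g₂ (hr g₂ h₂) := by
    rw [← cancel_mono hZ'.isoSpec.hom, ← hθ₁, ← hθ₂, h4]
  rw [← e₁, ← e₂, h5]

/-- `W` is mapped into some affine open of `Z` -/
def Pf (W : J G) : Prop := ∃ Z' : Z.Opens, IsAffineOpen Z' ∧ W.1 ≤ f ⁻¹ᵁ Z'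

omit [IsFinite G.s] [Flat G.s] [LocallyOfFinitePresentation G.s] in
theorem Pf_down (W' W : J G) (h : W'.1 ≤ W.1) (hP : Pf G f W) : Pf G f W' := by
  obtain ⟨Z', hZ', hle⟩ := hP
  exact ⟨Z', hZ', h.trans hle⟩

variable (hJ : ∀ x : G.U, ∃ W : J G, x ∈ W.1)

include hf hJ in
theorem Pf_cov (x : G.U) : ∃ W : J G, Pf G f W ∧ x ∈ W.1 := by
  obtain ⟨W₀, hx⟩ := hJ x
  obtain ⟨u, rfl⟩ := exists_point W₀.1 x hx
  obtain ⟨Z', hZ', hxZ', -⟩ := exists_isAffineOpen_mem_and_subset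
    (x := f (W₀.1.ι u)) (U := ⊤) trivial
  have hO : ∀ r : G.R, G.s r ∈ f ⁻¹ᵁ Z' ↔ G.t r ∈ f ⁻¹ᵁ Z' := by
    intro r
    show f (G.s r) ∈ Z' ↔ f (G.t r) ∈ Z'
    rw [← Scheme.Hom.comp_apply, ← Scheme.Hom.comp_apply, hf]
  obtain ⟨W', h1, h2, h3⟩ := exists_J_sub G W₀ (f ⁻¹ᵁ Z') hO u hxZ'
  exact ⟨W', ⟨Z', hZ', h2⟩, h3⟩

/-- the local descent of `f` for `W` in `Pf` -/
noncomputable def gP (W : J G) (hP : Pf G f W) : Yq G W.1 W.2.2 ⟶ Z :=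
  gW G f hf W.1 W.2.2 hP.choose hP.choose_spec.1 hP.choose_spec.2

theorem pq_gP (W : J G) (hP : Pf G f W) :
    pq G W.1 W.2.2 ≫ gP G f hf W hP = W.1.ι ≫ f :=
  pq_gW G f hf W.1 W.2.2 hP.choose hP.choose_spec.1 hP.choose_spec.2

theorem gP_unique (W : J G) (hP : Pf G f W) (g : Yq G W.1 W.2.2 ⟶ Z)
    (h : pq G W.1 W.2.2 ≫ g = W.1.ι ≫ f) : g = gP G f hf W hP :=
  gW_unique G f W.1 W.2.2 W.2.1 hP.choose hP.choose_spec.1 hP.choose_spec.2 g _ h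
    (pq_gP G f hf W hP)

theorem gP_compat {i j : J G} (hij : i.1 ≤ j.1) (hi : Pf G f i) (hj : Pf G f j) :
    φq G j.2.2 i.2.2 hij ≫ gP G f hf j hj = gP G f hf i hi := by
  apply gP_unique
  rw [← Category.assoc, pq_φq, Category.assoc, pq_gP, ← Category.assoc, Scheme.homOfLE_ι]

include hf hJ in
theorem Pf_covY (y : ↥(colimit (F G))) :
    ∃ (W : J G) (_ : Pf G f W) (z : Yq G W.1 W.2.2), ιc G W z = y := by
  obtain ⟨x, rfl⟩ := pc_surjective G hJ y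
  obtain ⟨W, hP, hx⟩ := Pf_cov G f hf hJ x
  obtain ⟨u, rfl⟩ := exists_point W.1 x hx
  exact ⟨W, hP, pq G W.1 W.2.2 u, (pc_apply G hJ W u).symm⟩

/-- the descent of an invariant morphism to the quotient -/
noncomputable def descY : colimit (F G) ⟶ Z :=
  letI := covY_ld G (Pf G f) (Pf_covY G f hf hJ) (Pf_down G f)
  (covY G (Pf G f) (Pf_covY G f hf hJ)).glueMorphismsOfLocallyDirected
    (fun W => gP G f hf W.1 W.2)
    (fun {i j} hij => gP_compat G f hf (show i.1.1 ≤ j.1.1 from leOfHom hij) i.2 j.2)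

theorem ιc_descY (W : J G) (hP : Pf G f W) :
    ιc G W ≫ descY G f hf hJ = gP G f hf W hP := by
  letI := covY_ld G (Pf G f) (Pf_covY G f hf hJ) (Pf_down G f)
  exact Scheme.OpenCover.map_glueMorphismsOfLocallyDirected
    (covY G (Pf G f) (Pf_covY G f hf hJ)) (fun W => gP G f hf W.1 W.2)
    (fun {i j} hij => gP_compat G f hf (show i.1.1 ≤ j.1.1 from leOfHom hij) i.2 j.2) ⟨W, hP⟩

theorem pc_descY : pc G hJ ≫ descY G f hf hJ = f := by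
  refine (covU G (Pf G f) (Pf_cov G f hf hJ)).hom_ext _ _ fun W => ?_
  show W.1.1.ι ≫ pc G hJ ≫ descY G f hf hJ = W.1.1.ι ≫ f
  rw [ι_pc_assoc, ιc_descY G f hf hJ W.1 W.2, pq_gP]

theorem descY_unique (l : colimit (F G) ⟶ Z) (hl : pc G hJ ≫ l = f) :
    l = descY G f hf hJ := by
  refine (covY G (Pf G f) (Pf_covY G f hf hJ)).hom_ext _ _ fun W => ?_
  show ιc G W.1 ≫ l = ιc G W.1 ≫ descY G f hf hJ
  rw [ιc_descY G f hf hJ W.1 W.2]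
  apply gP_unique
  rw [← ι_pc_assoc G hJ W.1, hl]

end Desc

section Final

variable (hJ : ∀ x : G.U, ∃ W : J G, x ∈ W.1)

/-- the glued quotient is a coequalizer in schemes -/
noncomputable def isColimit_pc : IsColimit (Cofork.ofπ (pc G hJ) (t_pc G hJ)) :=
  Cofork.IsColimit.mk' _ fun s =>
    ⟨descY G s.π s.condition hJ, pc_descY G s.π s.condition hJ,
      fun {m} hm => descY_unique G s.π s.condition hJ m hm⟩

theorem exists_J_mem (hb : ∀ x : G.U, ∃ V : G.U.Opens, IsAffineOpen V ∧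
    G.t.base '' (G.s.base ⁻¹' {x}) ⊆ (V : Set G.U)) (x : G.U) : ∃ W : J G, x ∈ W.1 := by
  haveI : IsFinite G.t := by rw [t_eq G]; infer_instance
  haveI : Flat G.t := by rw [t_eq G]; infer_instance
  haveI : LocallyOfFinitePresentation G.t := by rw [t_eq G]; infer_instance
  obtain ⟨V, hV, hsub⟩ := hb x
  obtain ⟨W, hW, hxW, hinv⟩ := Groth.Agent.H4.GrpdLib14.main_S1881 G x V hV
    (fun r hr => hsub ⟨r, hr, rfl⟩)
  exact ⟨⟨W, hW, hinv⟩, hxW⟩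

end Final

theorem main_S4085 (S : Scheme.{u}) (G : Grpd.GroupoidScheme S)
    (ha : Mor2.IsFinLocFree G.s)
    (hb : ∀ x : G.U, ∃ V : G.U.Opens, IsAffineOpen V ∧ G.t.base '' (G.s.base ⁻¹' {x}) ⊆ (V : Set G.U)) :
    ∃ (Y : Scheme.{u}) (p : G.U ⟶ Y) (w : G.t ≫ p = G.s ≫ p),
      Nonempty (IsColimit (Cofork.ofπ p w)) ∧ IsIntegralHom p ∧ Surjective p ∧ IsOpenMap p.base ∧
      (∀ x y : G.U, p.base x = p.base y ↔ ∃ r : G.R, G.t.base r = x ∧ G.s.base r = y) ∧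
      Function.Surjective (pullback.lift G.t G.s w).base ∧ (IsAffine G.U → IsAffine Y) := by
  obtain ⟨h1, h2, h3⟩ := ha
  haveI := h1
  haveI := h2
  haveI := h3
  have hJ := exists_J_mem G hb
  exact ⟨colimit (F G), pc G hJ, t_pc G hJ, ⟨isColimit_pc G hJ⟩, isIntegralHom_pc G hJ,
    ⟨pc_surjective G hJ⟩, isOpenMap_pc G hJ, pc_eq_iff G hJ, lift_surjective G hJ,
    isAffine_colimit G⟩

end Groth.Agent.H4.GrpQ5
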