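import Mathlib
import Groth.Prelude.Def_Grpd
import Groth.Prelude.Def_Mor2
import Groth.Agent.H4.GrpQ5
import Groth.Agent.H4.GrpdLib2
import Groth.Agent.H4.GQ14

set_option autoImplicit false
universe u
open CategoryTheory CategoryTheory.Limits AlgebraicGeometry
open Grpd

namespace Groth.Agent.H4.GrpQ6
open Groth.Agent.H4.GrpdLib Groth.Agent.H4.GrpdLib10 Groth.Agent.H4.GrpQ1 Groth.Agent.H4.GrpQ2
  Groth.Agent.H4.GrpQ3 Groth.Agent.H4.GrpQ4 Groth.Agent.H4.GrpQ5 Groth.Agent.H5.Glue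

variable {S : Scheme.{u}} (G : Grpd.GroupoidScheme S)

section MonoJ

theorem jointly_monic [Mono G.j] {T : Scheme.{u}} (a b : T ⟶ G.R) (ht : a ≫ G.t = b ≫ G.t)
    (hs : a ≫ G.s = b ≫ G.s) : a = b := by
  rw [← cancel_mono G.j]
  apply pullback.hom_ext
  · simp only [Category.assoc, j_fst]; exact ht
  · simp only [Category.assoc, j_snd]; exact hs

theorem mono_j_res [Mono G.j] (W : G.U.Opens) (hW : G.s ⁻¹ᵁ W = G.t ⁻¹ᵁ W) :
    Mono (resGrpd G W hW).j := by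
  refine ⟨fun {T} (a b : T ⟶ (G.s ⁻¹ᵁ W).toScheme) h => ?_⟩
  have h1 : a ≫ (resGrpd G W hW).t = b ≫ (resGrpd G W hW).t := by
    rw [← j_fst (resGrpd G W hW), ← Category.assoc, h, Category.assoc]
  have h2 : a ≫ (resGrpd G W hW).s = b ≫ (resGrpd G W hW).s := by
    rw [← j_snd (resGrpd G W hW), ← Category.assoc, h, Category.assoc]
  rw [← cancel_mono (G.s ⁻¹ᵁ W).ι]
  apply jointly_monic G
  · rw [Category.assoc, Category.assoc, ← tW_ι G W hW, ← Category.assoc, ← Category.assoc]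
    exact congrArg (· ≫ W.ι) h1
  · rw [Category.assoc, Category.assoc, ← sW_ι G W, ← Category.assoc, ← Category.assoc]
    exact congrArg (· ≫ W.ι) h2

end MonoJ

variable [IsFinite G.s] [Flat G.s] [LocallyOfFinitePresentation G.s]

theorem t_props : IsFinite G.t ∧ Flat G.t ∧ LocallyOfFinitePresentation G.t := by
  rw [t_eq G]
  exact ⟨inferInstance, inferInstance, inferInstance⟩

theorem pq_finLocFree [Mono G.j] (W : G.U.Opens) (hW : G.s ⁻¹ᵁ W = G.t ⁻¹ᵁ W)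
    (hWaff : IsAffineOpen W) :
    IsFinite (pq G W hW) ∧ Flat (pq G W hW) ∧ LocallyOfFinitePresentation (pq G W hW) ∧
    ∀ {T : Scheme.{u}} (α β : T ⟶ W.toScheme), α ≫ pq G W hW = β ≫ pq G W hW →
      ∃ ρ : T ⟶ (G.s ⁻¹ᵁ W).toScheme, ρ ≫ tW G W hW = α ∧ ρ ≫ sW G W = β := by
  haveI : IsAffine (resGrpd G W hW).U := hWaff
  haveI : IsAffine (resGrpd G W hW).R := isAffine_RW G W hWaff
  haveI : IsFinite (resGrpd G W hW).s := isFinite_sW G W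
  haveI : Flat (resGrpd G W hW).s := flat_sW G W
  haveI : LocallyOfFinitePresentation (resGrpd G W hW).s := lfp_sW G W
  have htp := @t_props S (resGrpd G W hW) (isFinite_sW G W) (flat_sW G W) (lfp_sW G W)
  haveI : IsFinite (resGrpd G W hW).t := htp.1
  haveI : Flat (resGrpd G W hW).t := htp.2.1
  haveI : LocallyOfFinitePresentation (resGrpd G W hW).t := htp.2.2
  haveI : Mono (resGrpd G W hW).j := mono_j_res G W hW
  obtain ⟨⟨hfin, hflat, hlfp⟩, φ, hφ1, hφ2⟩ := Groth.Agent.H4.GQ14.main_S1877 (resGrpd G W hW)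
  refine ⟨?_, ?_, ?_, ?_⟩
  · rw [pq_eq]
    exact (MorphismProperty.cancel_right_of_respectsIso @IsFinite _ _).mpr hfin
  · rw [pq_eq]
    exact (MorphismProperty.cancel_right_of_respectsIso @Flat _ _).mpr hflat
  · rw [pq_eq]
    exact (MorphismProperty.cancel_right_of_respectsIso @LocallyOfFinitePresentation _ _).mpr hlfp
  · intro T α β h
    rw [pq_eq, ← Category.assoc, ← Category.assoc, cancel_mono] at h
    have k1 : φ.inv ≫ tW G W hW = pullback.fst _ _ := by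
      rw [Iso.inv_comp_eq]; exact hφ1.symm
    have k2 : φ.inv ≫ sW G W = pullback.snd _ _ := by
      rw [Iso.inv_comp_eq]; exact hφ2.symm
    refine ⟨pullback.lift α β h ≫ φ.inv, ?_, ?_⟩
    · rw [Category.assoc, k1, pullback.lift_fst]
    · rw [Category.assoc, k2, pullback.lift_snd]

section PB

variable [Mono G.j] (hJ : ∀ x : G.U, ∃ W : J G, x ∈ W.1)

theorem exists_lift_pc {T : Scheme.{u}} (α β : T ⟶ G.U) (h : α ≫ pc G hJ = β ≫ pc G hJ) :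
    ∃ ρ : T ⟶ G.R, ρ ≫ G.t = α ∧ ρ ≫ G.s = β := by
  have hpre : ∀ W : J G, α ⁻¹ᵁ W.1 = β ⁻¹ᵁ W.1 := by
    intro W
    calc α ⁻¹ᵁ W.1 = α ⁻¹ᵁ (pc G hJ ⁻¹ᵁ (ιc G W).opensRange) := by rw [preimage_range]
      _ = (α ≫ pc G hJ) ⁻¹ᵁ (ιc G W).opensRange := rfl
      _ = (β ≫ pc G hJ) ⁻¹ᵁ (ιc G W).opensRange := by rw [h]
      _ = β ⁻¹ᵁ (pc G hJ ⁻¹ᵁ (ιc G W).opensRange) := rfl
      _ = β ⁻¹ᵁ W.1 := by rw [preimage_range]
  have hloc : ∀ W : J G, ∃ ρ : (α ⁻¹ᵁ W.1).toScheme ⟶ G.R,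
      ρ ≫ G.t = (α ⁻¹ᵁ W.1).ι ≫ α ∧ ρ ≫ G.s = (α ⁻¹ᵁ W.1).ι ≫ β := by
    intro W
    have hq : α.resLE W.1 (α ⁻¹ᵁ W.1) le_rfl ≫ pq G W.1 W.2.2 =
        β.resLE W.1 (α ⁻¹ᵁ W.1) (hpre W).le ≫ pq G W.1 W.2.2 := by
      rw [← cancel_mono (ιc G W), Category.assoc, Category.assoc, ← ι_pc G hJ W,
        Scheme.Hom.resLE_comp_ι_assoc, Scheme.Hom.resLE_comp_ι_assoc, h]
    obtain ⟨ρ, hρ1, hρ2⟩ := (pq_finLocFree G W.1 W.2.2 W.2.1).2.2.2 _ _ hq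
    refine ⟨ρ ≫ (G.s ⁻¹ᵁ W.1).ι, ?_, ?_⟩
    · rw [Category.assoc, ← tW_ι G W.1 W.2.2, ← Category.assoc, hρ1, Scheme.Hom.resLE_comp_ι]
    · rw [Category.assoc, ← sW_ι G W.1, ← Category.assoc, hρ2, Scheme.Hom.resLE_comp_ι]
  choose ρ hρ1 hρ2 using hloc
  let 𝒱 : T.OpenCover := Scheme.Cover.mkOfCovers (J G) (fun W => (α ⁻¹ᵁ W.1).toScheme)
    (fun W => (α ⁻¹ᵁ W.1).ι) (fun x => by
      obtain ⟨W, hW⟩ := hJ (α x)
      obtain ⟨y, hy⟩ := exists_point (α ⁻¹ᵁ W.1) x hW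
      exact ⟨W, y, hy⟩)
  have hcompat : ∀ W W' : J G, pullback.fst (𝒱.f W) (𝒱.f W') ≫ ρ W =
      pullback.snd (𝒱.f W) (𝒱.f W') ≫ ρ W' := by
    intro W W'
    have c1 : pullback.fst (𝒱.f W) (𝒱.f W') ≫ (α ⁻¹ᵁ W.1).ι =
        pullback.snd (𝒱.f W) (𝒱.f W') ≫ (α ⁻¹ᵁ W'.1).ι := pullback.condition
    apply jointly_monic G
    · calc (pullback.fst (𝒱.f W) (𝒱.f W') ≫ ρ W) ≫ G.t
          = pullback.fst (𝒱.f W) (𝒱.f W') ≫ (ρ W ≫ G.t) := Category.assoc _ _ _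
        _ = pullback.fst (𝒱.f W) (𝒱.f W') ≫ ((α ⁻¹ᵁ W.1).ι ≫ α) :=
            congrArg (fun x => pullback.fst (𝒱.f W) (𝒱.f W') ≫ x) (hρ1 W)
        _ = (pullback.fst (𝒱.f W) (𝒱.f W') ≫ (α ⁻¹ᵁ W.1).ι) ≫ α := (Category.assoc _ _ _).symm
        _ = (pullback.snd (𝒱.f W) (𝒱.f W') ≫ (α ⁻¹ᵁ W'.1).ι) ≫ α := congrArg (fun x => x ≫ α) c1
        _ = pullback.snd (𝒱.f W) (𝒱.f W') ≫ ((α ⁻¹ᵁ W'.1).ι ≫ α) := Category.assoc _ _ _
        _ = pullback.snd (𝒱.f W) (𝒱.f W') ≫ (ρ W' ≫ G.t) :=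
            congrArg (fun x => pullback.snd (𝒱.f W) (𝒱.f W') ≫ x) (hρ1 W').symm
        _ = (pullback.snd (𝒱.f W) (𝒱.f W') ≫ ρ W') ≫ G.t := (Category.assoc _ _ _).symm
    · calc (pullback.fst (𝒱.f W) (𝒱.f W') ≫ ρ W) ≫ G.s
          = pullback.fst (𝒱.f W) (𝒱.f W') ≫ (ρ W ≫ G.s) := Category.assoc _ _ _
        _ = pullback.fst (𝒱.f W) (𝒱.f W') ≫ ((α ⁻¹ᵁ W.1).ι ≫ β) :=
            congrArg (fun x => pullback.fst (𝒱.f W) (𝒱.f W') ≫ x) (hρ2 W)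
        _ = (pullback.fst (𝒱.f W) (𝒱.f W') ≫ (α ⁻¹ᵁ W.1).ι) ≫ β := (Category.assoc _ _ _).symm
        _ = (pullback.snd (𝒱.f W) (𝒱.f W') ≫ (α ⁻¹ᵁ W'.1).ι) ≫ β := congrArg (fun x => x ≫ β) c1
        _ = pullback.snd (𝒱.f W) (𝒱.f W') ≫ ((α ⁻¹ᵁ W'.1).ι ≫ β) := Category.assoc _ _ _
        _ = pullback.snd (𝒱.f W) (𝒱.f W') ≫ (ρ W' ≫ G.s) :=
            congrArg (fun x => pullback.snd (𝒱.f W) (𝒱.f W') ≫ x) (hρ2 W').symm
        _ = (pullback.snd (𝒱.f W) (𝒱.f W') ≫ ρ W') ≫ G.s := (Category.assoc _ _ _).symm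
  refine ⟨𝒱.glueMorphisms ρ hcompat, ?_, ?_⟩
  · refine 𝒱.hom_ext _ _ fun W => ?_
    exact (Scheme.Cover.ι_glueMorphisms_assoc 𝒱 ρ hcompat W G.t).trans (hρ1 W)
  · refine 𝒱.hom_ext _ _ fun W => ?_
    exact (Scheme.Cover.ι_glueMorphisms_assoc 𝒱 ρ hcompat W G.s).trans (hρ2 W)

theorem isPullback_ts_pc : IsPullback G.t G.s (pc G hJ) (pc G hJ) := by
  have hex := fun (c : PullbackCone (pc G hJ) (pc G hJ)) =>
    exists_lift_pc G hJ c.fst c.snd c.condition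
  choose l hl1 hl2 using hex
  exact IsPullback.of_isLimit (PullbackCone.IsLimit.mk (t_pc G hJ) l hl1 hl2
    (fun c m h1 h2 => jointly_monic G _ _ (h1.trans (hl1 c).symm) (h2.trans (hl2 c).symm)))

theorem finLocFree_pc : IsFinite (pc G hJ) ∧ Flat (pc G hJ) ∧
    LocallyOfFinitePresentation (pc G hJ) :=
  ⟨pc_of_local G hJ @IsFinite (fun W => (pq_finLocFree G W.1 W.2.2 W.2.1).1),
   pc_of_local G hJ @Flat (fun W => (pq_finLocFree G W.1 W.2.2 W.2.1).2.1),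
   pc_of_local G hJ @LocallyOfFinitePresentation
    (fun W => (pq_finLocFree G W.1 W.2.2 W.2.1).2.2.1)⟩

end PB

theorem main_S4086 (S : Scheme.{u}) (G : Grpd.GroupoidScheme S)
    (ha : Mor2.IsFinLocFree G.s)
    (hb : ∀ x : G.U, ∃ V : G.U.Opens, IsAffineOpen V ∧ G.t.base '' (G.s.base ⁻¹' {x}) ⊆ (V : Set G.U))
    [Mono G.j] (Y : Scheme.{u}) (p : G.U ⟶ Y) (w : G.t ≫ p = G.s ≫ p) (hc : IsColimit (Cofork.ofπ p w)) :
    IsPullback G.t G.s p p ∧ Mor2.IsFinLocFree p := by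
  obtain ⟨h1, h2, h3⟩ := ha
  haveI := h1
  haveI := h2
  haveI := h3
  have hJ := exists_J_mem G hb
  obtain ⟨e, he⟩ : ∃ e : colimit (F G) ≅ Y, pc G hJ ≫ e.hom = p :=
    ⟨IsColimit.coconePointUniqueUpToIso (isColimit_pc G hJ) hc,
      IsColimit.comp_coconePointUniqueUpToIso_hom (isColimit_pc G hJ) hc WalkingParallelPair.one⟩
  have hpb := isPullback_ts_pc G hJ
  obtain ⟨f1, f2, f3⟩ := finLocFree_pc G hJ
  rw [← he]
  refine ⟨?_, ?_⟩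
  · exact IsPullback.of_iso hpb (Iso.refl _) (Iso.refl _) (Iso.refl _) e (by simp) (by simp)
      (by simp) (by simp)
  · show IsFinite _ ∧ Flat _ ∧ LocallyOfFinitePresentation _
    exact ⟨(MorphismProperty.cancel_right_of_respectsIso @IsFinite _ _).mpr f1,
      (MorphismProperty.cancel_right_of_respectsIso @Flat _ _).mpr f2,
      (MorphismProperty.cancel_right_of_respectsIso @LocallyOfFinitePresentation _ _).mpr f3⟩

end Groth.Agent.H4.GrpQ6
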