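import Mathlib
import Groth.Prelude.Def_Grpd
import Groth.Prelude.Def_Mor2
import Groth.Agent.H4.GrpQ6
import Groth.Agent.Lib.Helper1.FlatSource

set_option autoImplicit false
universe u
open CategoryTheory CategoryTheory.Limits AlgebraicGeometry
open Grpd

namespace Groth.Agent.H4.GrpQ7
open Groth.Agent.H4.GrpdLib Groth.Agent.H4.GrpdLib10 Groth.Agent.H4.GrpQ1 Groth.Agent.H4.GrpQ2
  Groth.Agent.H4.GrpQ3 Groth.Agent.H4.GrpQ4 Groth.Agent.H4.GrpQ5 Groth.Agent.H4.GrpQ6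

section KLift

/-- geometric points lift along surjective morphisms locally of finite type -/
theorem exists_kpoint_lift {V U : Scheme.{u}} (v : V ⟶ U) [Surjective v] [LocallyOfFiniteType v]
    (k : Type u) [Field k] [IsAlgClosed k] (y : Spec (CommRingCat.of k) ⟶ U) :
    ∃ ν : Spec (CommRingCat.of k) ⟶ V, ν ≫ v = y := by
  haveI : JacobsonSpace ↥(pullback y v) := LocallyOfFiniteType.jacobsonSpace (pullback.fst y v)
  have pt : Spec (CommRingCat.of k) := (inferInstance : Nonempty (Spec (CommRingCat.of k))).some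
  obtain ⟨x₀, -⟩ := (pullback.fst y v).surjective pt
  obtain ⟨x, -, hx⟩ := nonempty_inter_closedPoints (X := ↥(pullback y v)) (Z := Set.univ)
    ⟨x₀, trivial⟩ isOpen_univ.isLocallyClosed
  refine ⟨pointOfClosedPoint (pullback.fst y v) x (mem_closedPoints_iff.mp hx) ≫
    pullback.snd y v, ?_⟩
  rw [Category.assoc, ← pullback.condition, ← Category.assoc, pointOfClosedPoint_comp,
    Category.id_comp]

end KLift

section PcK

variable {S : Scheme.{u}} (G : Grpd.GroupoidScheme S)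
  [IsFinite G.s] [Flat G.s] [LocallyOfFinitePresentation G.s]
  (hJ : ∀ x : G.U, ∃ W : J G, x ∈ W.1)

theorem pc_kpts (k : Type u) [Field k] [IsAlgClosed k]
    (x₀ x₁ : Spec (CommRingCat.of k) ⟶ G.U) (h : x₀ ≫ pc G hJ = x₁ ≫ pc G hJ) :
    ∃ ρ : Spec (CommRingCat.of k) ⟶ G.R, ρ ≫ G.t = x₀ ∧ ρ ≫ G.s = x₁ := by
  have pt : Spec (CommRingCat.of k) := (inferInstance : Nonempty (Spec (CommRingCat.of k))).some
  have hpt : ∀ pt' : Spec (CommRingCat.of k), pt' = pt := fun pt' => Subsingleton.elim _ _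
  obtain ⟨W, hW⟩ := hJ (x₀ pt)
  have hcond : pc G hJ (x₀ pt) = pc G hJ (x₁ pt) := by
    rw [← Scheme.Hom.comp_apply, ← Scheme.Hom.comp_apply, h]
  have hW' : x₁ pt ∈ W.1 := by
    have h1 : x₀ pt ∈ pc G hJ ⁻¹ᵁ (ιc G W).opensRange := by
      rw [preimage_range]; exact hW
    have h2 : x₁ pt ∈ pc G hJ ⁻¹ᵁ (ιc G W).opensRange := by
      show pc G hJ _ ∈ (ιc G W).opensRange
      rw [← hcond]; exact h1
    rwa [preimage_range] at h2
  have hr₀ : Set.range x₀ ⊆ Set.range W.1.ι := by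
    rintro _ ⟨pt', rfl⟩
    rw [Scheme.Opens.range_ι, hpt pt']
    exact hW
  have hr₁ : Set.range x₁ ⊆ Set.range W.1.ι := by
    rintro _ ⟨pt', rfl⟩
    rw [Scheme.Opens.range_ι, hpt pt']
    exact hW'
  obtain ⟨b₀, e₀⟩ : ∃ b : Spec (CommRingCat.of k) ⟶ W.1.toScheme, b ≫ W.1.ι = x₀ :=
    ⟨_, IsOpenImmersion.lift_fac W.1.ι _ hr₀⟩
  obtain ⟨b₁, e₁⟩ : ∃ b : Spec (CommRingCat.of k) ⟶ W.1.toScheme, b ≫ W.1.ι = x₁ :=
    ⟨_, IsOpenImmersion.lift_fac W.1.ι _ hr₁⟩
  have hb : b₀ ≫ pq G W.1 W.2.2 = b₁ ≫ pq G W.1 W.2.2 := by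
    rw [← cancel_mono (ιc G W), Category.assoc, Category.assoc, ← ι_pc G hJ W,
      ← Category.assoc, ← Category.assoc, e₀, e₁, h]
  obtain ⟨ρ, hρ₀, hρ₁⟩ := pq_kpts G W.1 W.2.2 W.2.1 k b₀ b₁ hb
  exact ⟨ρ, by rw [hρ₀, e₀], by rw [hρ₁, e₁]⟩

end PcK

section ILD

theorem ild {S : Scheme.{u}} (G : Grpd.GroupoidScheme S)
    [IsFinite G.s] [Flat G.s] [LocallyOfFinitePresentation G.s] :
    ((F G) ⋙ Scheme.forget).IsLocallyDirected := inferInstance

end ILD

section Ind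

variable {S : Scheme.{u}} (G : Grpd.GroupoidScheme S) {U' : Scheme.{u}} (u : U' ⟶ G.U)

/-- the morphism `R ×_{t,U} U' ⟶ U` induced by the source -/
noncomputable def vq : pullback G.t u ⟶ G.U := pullback.fst G.t u ≫ G.s

/-- the arrows of the induced groupoid, mapped to `R` -/
noncomputable def ιRq : pullback (vq G u) u ⟶ G.R :=
  pullback.fst (vq G u) u ≫ pullback.fst G.t u

/-- induced target -/
noncomputable def tq : pullback (vq G u) u ⟶ U' := pullback.fst (vq G u) u ≫ pullback.snd G.t u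

/-- induced source -/
noncomputable def sq : pullback (vq G u) u ⟶ U' := pullback.snd (vq G u) u

@[reassoc]
theorem sq_u : sq G u ≫ u = ιRq G u ≫ G.s := by
  have h := pullback.condition (f := vq G u) (g := u)
  unfold sq ιRq
  rw [← h, Category.assoc]
  rfl

@[reassoc]
theorem tq_u : tq G u ≫ u = ιRq G u ≫ G.t := by
  unfold tq ιRq
  rw [Category.assoc, Category.assoc, pullback.condition]

section Lift

variable {T : Scheme.{u}} (ρ : T ⟶ G.R) (x y : T ⟶ U') (h1 : ρ ≫ G.t = x ≫ u)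
  (h2 : ρ ≫ G.s = y ≫ u)

/-- the universal property of the induced arrows -/
noncomputable def liftRq : T ⟶ pullback (vq G u) u :=
  pullback.lift (pullback.lift ρ x h1) y (by
    show pullback.lift ρ x h1 ≫ pullback.fst G.t u ≫ G.s = y ≫ u
    rw [pullback.lift_fst_assoc, h2])

@[reassoc]
theorem liftRq_ι : liftRq G u ρ x y h1 h2 ≫ ιRq G u = ρ := by
  unfold liftRq ιRq
  rw [pullback.lift_fst_assoc, pullback.lift_fst]

@[reassoc]
theorem liftRq_t : liftRq G u ρ x y h1 h2 ≫ tq G u = x := by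
  unfold liftRq tq
  rw [pullback.lift_fst_assoc, pullback.lift_snd]

@[reassoc]
theorem liftRq_s : liftRq G u ρ x y h1 h2 ≫ sq G u = y := by
  unfold liftRq sq
  rw [pullback.lift_snd]

end Lift

/-- induced identity -/
noncomputable def eq' : U' ⟶ pullback (vq G u) u :=
  liftRq G u (u ≫ G.e) (𝟙 U') (𝟙 U')
    (by rw [Category.assoc, G.e_t, Category.comp_id, Category.id_comp])
    (by rw [Category.assoc, G.e_s, Category.comp_id, Category.id_comp])

/-- induced inverse -/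
noncomputable def iq : pullback (vq G u) u ⟶ pullback (vq G u) u :=
  liftRq G u (ιRq G u ≫ G.i) (sq G u) (tq G u)
    (by rw [Category.assoc, G.i_t, sq_u]) (by rw [Category.assoc, G.i_s, tq_u])

theorem cq_cond : (pullback.fst (sq G u) (tq G u) ≫ ιRq G u) ≫ G.s =
    (pullback.snd (sq G u) (tq G u) ≫ ιRq G u) ≫ G.t := by
  rw [Category.assoc, Category.assoc, ← sq_u, ← tq_u, pullback.condition_assoc]

/-- induced composition -/
noncomputable def cq : pullback (sq G u) (tq G u) ⟶ pullback (vq G u) u :=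
  liftRq G u (comp G (pullback.fst (sq G u) (tq G u) ≫ ιRq G u)
      (pullback.snd (sq G u) (tq G u) ≫ ιRq G u) (cq_cond G u))
    (pullback.fst (sq G u) (tq G u) ≫ tq G u) (pullback.snd (sq G u) (tq G u) ≫ sq G u)
    (by rw [comp_t, Category.assoc, Category.assoc, tq_u])
    (by rw [comp_s, Category.assoc, Category.assoc, sq_u])

variable [Mono u]

theorem Rq_ext {T : Scheme.{u}} (a b : T ⟶ pullback (vq G u) u)
    (h : a ≫ ιRq G u = b ≫ ιRq G u) : a = b := by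
  have hs : a ≫ sq G u = b ≫ sq G u := by
    rw [← cancel_mono u, Category.assoc, Category.assoc, sq_u, ← Category.assoc, h,
      Category.assoc]
  have ht : a ≫ tq G u = b ≫ tq G u := by
    rw [← cancel_mono u, Category.assoc, Category.assoc, tq_u, ← Category.assoc, h,
      Category.assoc]
  apply pullback.hom_ext
  · apply pullback.hom_ext
    · simpa only [Category.assoc, ιRq] using h
    · simpa only [Category.assoc, tq] using ht
  · exact hs

instance mono_ιRq : Mono (ιRq G u) := ⟨fun a b h => Rq_ext G u a b h⟩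

/-- the groupoid induced on `U'` -/
@[reducible] noncomputable def indGrpd : Grpd.GroupoidScheme S :=
  monoGrpd G u (ιRq G u) (sq G u) (tq G u) (sq_u G u) (tq_u G u)
    (eq' G u) (liftRq_ι G u _ _ _ _ _) (iq G u) (liftRq_ι G u _ _ _ _ _) (cq G u)
    (by rw [cq, liftRq_ι])

instance [IsFinite (vq G u)] : IsFinite (sq G u) :=
  inferInstanceAs (IsFinite (pullback.snd (vq G u) u))

instance [Flat (vq G u)] : Flat (sq G u) :=
  inferInstanceAs (Flat (pullback.snd (vq G u) u))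

instance [LocallyOfFinitePresentation (vq G u)] : LocallyOfFinitePresentation (sq G u) :=
  inferInstanceAs (LocallyOfFinitePresentation (pullback.snd (vq G u) u))

instance ind_isFinite [IsFinite (vq G u)] : IsFinite (indGrpd G u).s :=
  inferInstanceAs (IsFinite (pullback.snd (vq G u) u))

instance ind_flat [Flat (vq G u)] : Flat (indGrpd G u).s :=
  inferInstanceAs (Flat (pullback.snd (vq G u) u))

instance ind_lfp [LocallyOfFinitePresentation (vq G u)] :
    LocallyOfFinitePresentation (indGrpd G u).s :=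
  inferInstanceAs (LocallyOfFinitePresentation (pullback.snd (vq G u) u))

instance ind_ild [IsFinite (vq G u)] [Flat (vq G u)] [LocallyOfFinitePresentation (vq G u)] :
    ((F (indGrpd G u)) ⋙ Scheme.forget).IsLocallyDirected := ild (indGrpd G u)

section Test
variable [IsFinite (vq G u)] [Flat (vq G u)] [LocallyOfFinitePresentation (vq G u)]
example : HasColimit (F (indGrpd G u)) := inferInstance
end Test

theorem hb_ind (h2 : ∀ E : Set U', (∀ x ∈ E, ∀ y ∈ E, ∃ r : G.R,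
      G.t.base r = u.base x ∧ G.s.base r = u.base y) →
      ∃ W : U'.Opens, IsAffineOpen W ∧ E ⊆ (W : Set U')) (x : (indGrpd G u).U) :
    ∃ V : (indGrpd G u).U.Opens, IsAffineOpen V ∧
      (indGrpd G u).t.base '' ((indGrpd G u).s.base ⁻¹' {x}) ⊆ (V : Set (indGrpd G u).U) := by
  apply h2
  rintro _ ⟨r₁, hr₁, rfl⟩ _ ⟨r₂, hr₂, rfl⟩
  have hr₁' : sq G u r₁ = x := hr₁
  have hr₂' : sq G u r₂ = x := hr₂
  have e1 : G.s (ιRq G u r₁) = u x := by
    rw [← hr₁', ← Scheme.Hom.comp_apply, ← Scheme.Hom.comp_apply, sq_u]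
  have e2 : G.s (ιRq G u r₂) = u x := by
    rw [← hr₂', ← Scheme.Hom.comp_apply, ← Scheme.Hom.comp_apply, sq_u]
  have e3 : G.t (ιRq G u r₁) = u (tq G u r₁) := by
    rw [← Scheme.Hom.comp_apply, ← Scheme.Hom.comp_apply, tq_u]
  have e4 : G.t (ιRq G u r₂) = u (tq G u r₂) := by
    rw [← Scheme.Hom.comp_apply, ← Scheme.Hom.comp_apply, tq_u]
  obtain ⟨r, hr1, hr2⟩ := exists_comp_point G (ιRq G u r₁) (G.i (ιRq G u r₂))
    (by rw [i_t_apply, e1, e2])
  exact ⟨r, hr1.trans e3, by rw [hr2, i_s_apply]; exact e4⟩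

end Ind

section Quot

variable {S : Scheme.{u}} (G : Grpd.GroupoidScheme S) {U' : Scheme.{u}} (u : U' ⟶ G.U)
  [Mono u] [IsFinite (vq G u)] [Flat (vq G u)] [LocallyOfFinitePresentation (vq G u)]
  [Surjective (vq G u)]
  (hJ : ∀ x : (indGrpd G u).U, ∃ W : J (indGrpd G u), x ∈ W.1)

theorem equiv_p' {Z : Scheme.{u}} (x₁ x₂ : Z ⟶ U') (ρ : Z ⟶ G.R) (h1 : ρ ≫ G.t = x₁ ≫ u)
    (h2 : ρ ≫ G.s = x₂ ≫ u) :
    x₁ ≫ pc (indGrpd G u) hJ = x₂ ≫ pc (indGrpd G u) hJ := by
  have h := t_pc (indGrpd G u) hJ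
  have e1 := liftRq_t G u ρ x₁ x₂ h1 h2
  have e2 := liftRq_s G u ρ x₁ x₂ h1 h2
  calc x₁ ≫ pc (indGrpd G u) hJ
      = (liftRq G u ρ x₁ x₂ h1 h2 ≫ tq G u) ≫ pc (indGrpd G u) hJ := by rw [e1]
    _ = liftRq G u ρ x₁ x₂ h1 h2 ≫ (indGrpd G u).t ≫ pc (indGrpd G u) hJ :=
        Category.assoc _ _ _
    _ = liftRq G u ρ x₁ x₂ h1 h2 ≫ (indGrpd G u).s ≫ pc (indGrpd G u) hJ := by rw [h]
    _ = (liftRq G u ρ x₁ x₂ h1 h2 ≫ sq G u) ≫ pc (indGrpd G u) hJ :=
        (Category.assoc _ _ _).symm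
    _ = x₂ ≫ pc (indGrpd G u) hJ := by rw [e2]

theorem desc_cond {Z : Scheme.{u}} (a b : Z ⟶ pullback G.t u) (h : a ≫ vq G u = b ≫ vq G u) :
    a ≫ pullback.snd G.t u ≫ pc (indGrpd G u) hJ =
      b ≫ pullback.snd G.t u ≫ pc (indGrpd G u) hJ := by
  have hs : (a ≫ pullback.fst G.t u) ≫ G.s = (b ≫ pullback.fst G.t u) ≫ G.s := by
    simpa only [vq, Category.assoc] using h
  have ht₁ : (a ≫ pullback.fst G.t u) ≫ G.t = (a ≫ pullback.snd G.t u) ≫ u := by
    rw [Category.assoc, Category.assoc, pullback.condition]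
  have ht₂ : (b ≫ pullback.fst G.t u) ≫ G.t = (b ≫ pullback.snd G.t u) ≫ u := by
    rw [Category.assoc, Category.assoc, pullback.condition]
  have hc : (a ≫ pullback.fst G.t u) ≫ G.s = ((b ≫ pullback.fst G.t u) ≫ G.i) ≫ G.t := by
    rw [Category.assoc _ G.i, G.i_t, hs]
  rw [← Category.assoc, ← Category.assoc]
  exact equiv_p' G u hJ _ _
    (comp G (a ≫ pullback.fst G.t u) ((b ≫ pullback.fst G.t u) ≫ G.i) hc)
    (by rw [comp_t, ht₁]) (by rw [comp_s, Category.assoc _ G.i, G.i_s, ht₂])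

/-- the descended quotient morphism -/
noncomputable def pD : G.U ⟶ colimit (F (indGrpd G u)) :=
  EffectiveEpi.desc (vq G u) (pullback.snd G.t u ≫ pc (indGrpd G u) hJ)
    (fun a b h => desc_cond G u hJ a b h)

@[reassoc]
theorem vq_pD : vq G u ≫ pD G u hJ = pullback.snd G.t u ≫ pc (indGrpd G u) hJ :=
  EffectiveEpi.fac _ _ _

theorem u_pD : u ≫ pD G u hJ = pc (indGrpd G u) hJ := by
  have hσ : (u ≫ G.e) ≫ G.t = 𝟙 U' ≫ u := by
    rw [Category.assoc, G.e_t, Category.comp_id, Category.id_comp]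
  have e1 : pullback.lift (u ≫ G.e) (𝟙 U') hσ ≫ vq G u = u := by
    unfold vq
    rw [pullback.lift_fst_assoc, Category.assoc, G.e_s, Category.comp_id]
  calc u ≫ pD G u hJ
      = (pullback.lift (u ≫ G.e) (𝟙 U') hσ ≫ vq G u) ≫ pD G u hJ := by rw [e1]
    _ = pullback.lift (u ≫ G.e) (𝟙 U') hσ ≫ pullback.snd G.t u ≫ pc (indGrpd G u) hJ := by
        rw [Category.assoc, vq_pD]
    _ = pc (indGrpd G u) hJ := by rw [pullback.lift_snd_assoc, Category.id_comp]

theorem t_pD : G.t ≫ pD G u hJ = G.s ≫ pD G u hJ := by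
  haveI : Epi (pullback.fst G.s (vq G u)) := Flat.epi_of_flat_of_surjective _
  rw [← cancel_epi (pullback.fst G.s (vq G u))]
  have hcond : pullback.fst G.s (vq G u) ≫ G.s = pullback.snd G.s (vq G u) ≫ vq G u :=
    pullback.condition
  have hr₁s : (pullback.snd G.s (vq G u) ≫ pullback.fst G.t u) ≫ G.s =
      pullback.fst G.s (vq G u) ≫ G.s := by
    rw [hcond, Category.assoc]; rfl
  have hr₁t : (pullback.snd G.s (vq G u) ≫ pullback.fst G.t u) ≫ G.t =
      (pullback.snd G.s (vq G u) ≫ pullback.snd G.t u) ≫ u := by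
    rw [Category.assoc, Category.assoc, pullback.condition]
  have hc : (pullback.snd G.s (vq G u) ≫ pullback.fst G.t u) ≫ G.s =
      (pullback.fst G.s (vq G u) ≫ G.i) ≫ G.t := by
    rw [Category.assoc _ G.i, G.i_t, hr₁s]
  have hb : comp G _ _ hc ≫ G.t =
      (pullback.snd G.s (vq G u) ≫ pullback.snd G.t u) ≫ u := by rw [comp_t, hr₁t]
  have e1 : pullback.lift (comp G _ _ hc)
      (pullback.snd G.s (vq G u) ≫ pullback.snd G.t u) hb ≫ vq G u =
      pullback.fst G.s (vq G u) ≫ G.t := by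
    show pullback.lift (comp G _ _ hc)
      (pullback.snd G.s (vq G u) ≫ pullback.snd G.t u) hb ≫ pullback.fst G.t u ≫ G.s = _
    rw [pullback.lift_fst_assoc, comp_s, Category.assoc, G.i_s]
  calc pullback.fst G.s (vq G u) ≫ G.t ≫ pD G u hJ
      = (pullback.lift (comp G _ _ hc)
          (pullback.snd G.s (vq G u) ≫ pullback.snd G.t u) hb ≫ vq G u) ≫ pD G u hJ := by
        rw [e1, Category.assoc]
    _ = (pullback.snd G.s (vq G u) ≫ pullback.snd G.t u) ≫ pc (indGrpd G u) hJ := by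
        rw [Category.assoc, vq_pD, pullback.lift_snd_assoc]
    _ = pullback.snd G.s (vq G u) ≫ vq G u ≫ pD G u hJ := by rw [vq_pD, Category.assoc]
    _ = pullback.fst G.s (vq G u) ≫ G.s ≫ pD G u hJ := by
        rw [← Category.assoc, ← hcond, Category.assoc]

/-- the descended quotient is a coequalizer -/
noncomputable def isColimit_pD : IsColimit (Cofork.ofπ (pD G u hJ) (t_pD G u hJ)) :=
  Cofork.IsColimit.mk' _ fun s => by
    have hf' : (indGrpd G u).t ≫ (u ≫ s.π) = (indGrpd G u).s ≫ (u ≫ s.π) := by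
      show tq G u ≫ u ≫ s.π = sq G u ≫ u ≫ s.π
      rw [tq_u_assoc, sq_u_assoc, s.condition]
    refine ⟨descY (indGrpd G u) (u ≫ s.π) hf' hJ, ?_, ?_⟩
    · haveI : Epi (vq G u) := inferInstance
      have hv : vq G u ≫ s.π = pullback.fst G.t u ≫ G.s ≫ s.π := Category.assoc _ _ _
      show pD G u hJ ≫ _ = s.π
      rw [← cancel_epi (vq G u), vq_pD_assoc, pc_descY, ← Category.assoc,
        ← pullback.condition, Category.assoc, s.condition, hv]
    · intro m hm
      apply descY_unique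
      rw [← u_pD G u hJ, Category.assoc]
      exact congrArg (u ≫ ·) hm

theorem pD_surjective : Function.Surjective (pD G u hJ) := by
  intro y
  obtain ⟨x, rfl⟩ := pc_surjective (indGrpd G u) hJ y
  exact ⟨u x, by rw [← Scheme.Hom.comp_apply, u_pD]⟩

theorem pD_point (y : G.U) : ∃ (x : U') (r : G.R), G.t r = u x ∧ G.s r = y ∧
    pD G u hJ y = pc (indGrpd G u) hJ x := by
  obtain ⟨ν, rfl⟩ := (vq G u).surjective y
  refine ⟨pullback.snd G.t u ν, pullback.fst G.t u ν, ?_, ?_, ?_⟩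
  · rw [← Scheme.Hom.comp_apply, ← Scheme.Hom.comp_apply, pullback.condition]
  · show G.s (pullback.fst G.t u ν) = (pullback.fst G.t u ≫ G.s) ν
    rw [Scheme.Hom.comp_apply]
  · rw [← Scheme.Hom.comp_apply, vq_pD, Scheme.Hom.comp_apply]

theorem pD_eq_iff (y₁ y₂ : G.U) :
    pD G u hJ y₁ = pD G u hJ y₂ ↔ ∃ r : G.R, G.t r = y₁ ∧ G.s r = y₂ := by
  constructor
  · intro h
    obtain ⟨x₁, r₁, h11, h12, h13⟩ := pD_point G u hJ y₁
    obtain ⟨x₂, r₂, h21, h22, h23⟩ := pD_point G u hJ y₂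
    rw [h13, h23] at h
    obtain ⟨r', hr'1, hr'2⟩ := (pc_eq_iff (indGrpd G u) hJ x₁ x₂).mp h
    have hr'1' : tq G u r' = x₁ := hr'1
    have hr'2' : sq G u r' = x₂ := hr'2
    have e1 : G.t (ιRq G u r') = u x₁ := by
      rw [← hr'1', ← Scheme.Hom.comp_apply, ← Scheme.Hom.comp_apply, tq_u]
    have e2 : G.s (ιRq G u r') = u x₂ := by
      rw [← hr'2', ← Scheme.Hom.comp_apply, ← Scheme.Hom.comp_apply, sq_u]
    obtain ⟨c₁, hc11, hc12⟩ := exists_comp_point G (ιRq G u r') r₂ (by rw [e2, h21])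
    obtain ⟨c₂, hc21, hc22⟩ := exists_comp_point G (G.i r₁) c₁
      (by rw [i_s_apply, h11, hc11, e1])
    exact ⟨c₂, by rw [hc21, i_t_apply, h12], by rw [hc22, hc12, h22]⟩
  · rintro ⟨r, rfl, rfl⟩
    rw [← Scheme.Hom.comp_apply, t_pD, Scheme.Hom.comp_apply]

theorem isOpenMap_pD (ht : IsOpenMap G.t) : IsOpenMap (pD G u hJ) := by
  intro O hO
  have e : pD G u hJ '' O = pc (indGrpd G u) hJ '' (u ⁻¹' (G.t '' (G.s ⁻¹' O))) := by
    ext y'
    constructor
    · rintro ⟨o, ho, rfl⟩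
      obtain ⟨x, r, h1, h2, h3⟩ := pD_point G u hJ o
      exact ⟨x, ⟨r, by show G.s r ∈ O; rw [h2]; exact ho, h1⟩, h3.symm⟩
    · rintro ⟨x, ⟨r, hr, hrx⟩, rfl⟩
      refine ⟨G.s r, hr, ?_⟩
      rw [← u_pD G u hJ, Scheme.Hom.comp_apply, ← hrx]
      exact ((pD_eq_iff G u hJ _ _).mpr ⟨r, rfl, rfl⟩).symm
  rw [e]
  exact isOpenMap_pc (indGrpd G u) hJ _
    ((ht _ (hO.preimage G.s.continuous)).preimage u.continuous)

theorem universallyClosed_pD [UniversallyClosed G.t] : UniversallyClosed (pD G u hJ) := by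
  haveI := isIntegralHom_pc (indGrpd G u) hJ
  haveI : UniversallyClosed (vq G u ≫ pD G u hJ) := by rw [vq_pD]; infer_instance
  exact UniversallyClosed.of_comp_surjective (vq G u) (pD G u hJ)

omit [Mono u] [IsFinite (vq G u)] [Flat (vq G u)] [LocallyOfFinitePresentation (vq G u)]
  [Surjective (vq G u)] in
theorem exists_arrow {T : Scheme.{u}} (ν₁ ν₂ : T ⟶ pullback G.t u)
    (ρ' : T ⟶ pullback (vq G u) u)
    (h1 : ρ' ≫ tq G u = ν₁ ≫ pullback.snd G.t u)
    (h2 : ρ' ≫ sq G u = ν₂ ≫ pullback.snd G.t u) :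
    ∃ ρ : T ⟶ G.R, ρ ≫ G.t = ν₁ ≫ vq G u ∧ ρ ≫ G.s = ν₂ ≫ vq G u := by
  have hρt : (ρ' ≫ ιRq G u) ≫ G.t = (ν₁ ≫ pullback.fst G.t u) ≫ G.t := by
    rw [Category.assoc, ← tq_u, ← Category.assoc, h1, Category.assoc, Category.assoc,
      pullback.condition]
  have hρs : (ρ' ≫ ιRq G u) ≫ G.s = (ν₂ ≫ pullback.fst G.t u) ≫ G.t := by
    rw [Category.assoc, ← sq_u, ← Category.assoc, h2, Category.assoc, Category.assoc,
      pullback.condition]
  have hc : ((ν₁ ≫ pullback.fst G.t u) ≫ G.i) ≫ G.s = comp G _ _ hρs ≫ G.t := by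
    rw [comp_t, Category.assoc _ G.i, G.i_s, hρt]
  refine ⟨comp G _ _ hc, ?_, ?_⟩
  · rw [comp_t, Category.assoc _ G.i, G.i_t, Category.assoc]; rfl
  · rw [comp_s, comp_s, Category.assoc]; rfl

theorem liftD_surjective : Function.Surjective (pullback.lift G.t G.s (t_pD G u hJ)) := by
  intro z
  let K := (pullback (pD G u hJ) (pD G u hJ)).residueField z
  let k := AlgebraicClosure K
  obtain ⟨ζ, hζ⟩ : ∃ ζ : Spec (CommRingCat.of k) ⟶ pullback (pD G u hJ) (pD G u hJ),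
      ∀ pt, ζ pt = z := by
    refine ⟨Spec.map (CommRingCat.ofHom (algebraMap K k)) ≫
      (pullback (pD G u hJ) (pD G u hJ)).fromSpecResidueField z, fun pt => ?_⟩
    rw [Scheme.Hom.comp_apply, Scheme.fromSpecResidueField_apply]
  obtain ⟨ν₁, hν₁⟩ := exists_kpoint_lift (vq G u) k (ζ ≫ pullback.fst _ _)
  obtain ⟨ν₂, hν₂⟩ := exists_kpoint_lift (vq G u) k (ζ ≫ pullback.snd _ _)
  have hx : (ν₁ ≫ pullback.snd G.t u) ≫ pc (indGrpd G u) hJ =
      (ν₂ ≫ pullback.snd G.t u) ≫ pc (indGrpd G u) hJ := by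
    rw [Category.assoc, Category.assoc, ← vq_pD, ← Category.assoc, ← Category.assoc, hν₁, hν₂,
      Category.assoc, Category.assoc, pullback.condition]
  obtain ⟨ρ', hρ'1, hρ'2⟩ := pc_kpts (indGrpd G u) hJ k _ _ hx
  obtain ⟨ρ, hρ1, hρ2⟩ := exists_arrow G u ν₁ ν₂ ρ' hρ'1 hρ'2
  rw [hν₁] at hρ1
  rw [hν₂] at hρ2
  have hρ : ρ ≫ pullback.lift G.t G.s (t_pD G u hJ) = ζ := by
    apply pullback.hom_ext
    · rw [Category.assoc, pullback.lift_fst, hρ1]
    · rw [Category.assoc, pullback.lift_snd, hρ2]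
  have pt : Spec (CommRingCat.of k) := (inferInstance : Nonempty (Spec (CommRingCat.of k))).some
  refine ⟨ρ pt, ?_⟩
  rw [← Scheme.Hom.comp_apply, hρ, hζ]

section MonoJ

variable [Mono G.j]

omit [IsFinite (vq G u)] [Flat (vq G u)] [LocallyOfFinitePresentation (vq G u)]
  [Surjective (vq G u)] in
theorem mono_j_ind : Mono (indGrpd G u).j := by
  refine ⟨fun {T} (a b : T ⟶ pullback (vq G u) u) h => ?_⟩
  have h1 : a ≫ (indGrpd G u).t = b ≫ (indGrpd G u).t := by
    rw [← j_fst (indGrpd G u), ← Category.assoc, h, Category.assoc]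
  have h2 : a ≫ (indGrpd G u).s = b ≫ (indGrpd G u).s := by
    rw [← j_snd (indGrpd G u), ← Category.assoc, h, Category.assoc]
  apply Rq_ext G u
  apply jointly_monic G
  · rw [Category.assoc, Category.assoc, ← tq_u, ← Category.assoc, ← Category.assoc]
    exact congrArg (· ≫ u) h1
  · rw [Category.assoc, Category.assoc, ← sq_u, ← Category.assoc, ← Category.assoc]
    exact congrArg (· ≫ u) h2

omit [Mono u] [IsFinite (vq G u)] [Mono G.j] in
theorem exists_cover {T : Scheme.{u}} (α β : T ⟶ G.U) :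
    ∃ (T₂ : Scheme.{u}) (c : T₂ ⟶ T) (ν₁ ν₂ : T₂ ⟶ pullback G.t u), EffectiveEpi c ∧
      ν₁ ≫ vq G u = c ≫ α ∧ ν₂ ≫ vq G u = c ≫ β := by
  refine ⟨pullback (pullback.fst α (vq G u) ≫ β) (vq G u),
    pullback.fst (pullback.fst α (vq G u) ≫ β) (vq G u) ≫ pullback.fst α (vq G u),
    pullback.fst (pullback.fst α (vq G u) ≫ β) (vq G u) ≫ pullback.snd α (vq G u),
    pullback.snd (pullback.fst α (vq G u) ≫ β) (vq G u), inferInstance, ?_, ?_⟩
  · rw [Category.assoc, Category.assoc, pullback.condition]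
  · rw [Category.assoc, ← pullback.condition]

theorem exists_lift_pD {T : Scheme.{u}} (α β : T ⟶ G.U)
    (h : α ≫ pD G u hJ = β ≫ pD G u hJ) : ∃ ρ : T ⟶ G.R, ρ ≫ G.t = α ∧ ρ ≫ G.s = β := by
  haveI := mono_j_ind G u
  obtain ⟨T₂, c, ν₁, ν₂, hc, h1, h2⟩ := exists_cover G u α β
  haveI := hc
  have hx : (ν₁ ≫ pullback.snd G.t u) ≫ pc (indGrpd G u) hJ =
      (ν₂ ≫ pullback.snd G.t u) ≫ pc (indGrpd G u) hJ := by
    rw [Category.assoc, Category.assoc, ← vq_pD, ← Category.assoc, ← Category.assoc, h1, h2,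
      Category.assoc, Category.assoc, h]
  obtain ⟨ρ', hρ'1, hρ'2⟩ := exists_lift_pc (indGrpd G u) hJ _ _ hx
  obtain ⟨ρ₂, hρ1, hρ2⟩ := exists_arrow G u ν₁ ν₂ ρ' hρ'1 hρ'2
  rw [h1] at hρ1
  rw [h2] at hρ2
  have hdesc : ∀ {Z : Scheme.{u}} (a b : Z ⟶ T₂), a ≫ c = b ≫ c → a ≫ ρ₂ = b ≫ ρ₂ := by
    intro Z a b hab
    apply jointly_monic G
    · rw [Category.assoc, Category.assoc, hρ1, ← Category.assoc, ← Category.assoc, hab]
    · rw [Category.assoc, Category.assoc, hρ2, ← Category.assoc, ← Category.assoc, hab]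
  refine ⟨EffectiveEpi.desc c ρ₂ hdesc, ?_, ?_⟩
  · rw [← cancel_epi c, ← Category.assoc, EffectiveEpi.fac, hρ1]
  · rw [← cancel_epi c, ← Category.assoc, EffectiveEpi.fac, hρ2]

theorem isPullback_pD : IsPullback G.t G.s (pD G u hJ) (pD G u hJ) := by
  have hex := fun (c : PullbackCone (pD G u hJ) (pD G u hJ)) =>
    exists_lift_pD G u hJ c.fst c.snd c.condition
  choose l hl1 hl2 using hex
  exact IsPullback.of_isLimit (PullbackCone.IsLimit.mk (t_pD G u hJ) l hl1 hl2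
    (fun c m h1 h2 => jointly_monic G _ _ (h1.trans (hl1 c).symm) (h2.trans (hl2 c).symm)))

theorem flat_pD [Flat G.t] : Flat (pD G u hJ) := by
  haveI := mono_j_ind G u
  haveI : Flat (pc (indGrpd G u) hJ) := (finLocFree_pc (indGrpd G u) hJ).2.1
  haveI : Flat (vq G u ≫ pD G u hJ) := by rw [vq_pD]; infer_instance
  exact Groth.Agent.H1.flat_of_flat_comp_of_surjective (vq G u) (pD G u hJ)

end MonoJ

end Quot

theorem main_S4087 (S : Scheme.{u}) (G : Grpd.GroupoidScheme S)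
    (U' : Scheme.{u}) (u : U' ⟶ G.U) [IsImmersion u]
    (h1 : Mor2.IsFinLocFree (pullback.fst G.t u ≫ G.s) ∧ Surjective (pullback.fst G.t u ≫ G.s))
    (h2 : ∀ E : Set U', (∀ x ∈ E, ∀ y ∈ E, ∃ r : G.R, G.t.base r = u.base x ∧ G.s.base r = u.base y) →
      ∃ W : U'.Opens, IsAffineOpen W ∧ E ⊆ (W : Set U')) :
    ∃ (Y : Scheme.{u}) (p : G.U ⟶ Y) (w : G.t ≫ p = G.s ≫ p),
      Nonempty (IsColimit (Cofork.ofπ p w)) ∧ Surjective p ∧
      (IsOpenMap G.t.base → IsOpenMap p.base) ∧ (UniversallyClosed G.t → UniversallyClosed p) ∧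
      Function.Surjective (pullback.lift G.t G.s w).base ∧
      (Mono G.j → IsPullback G.t G.s p p ∧ (Flat G.t → Flat p)) := by
  obtain ⟨⟨hfin, hflat, hlfp⟩, hsurj⟩ := h1
  haveI : IsFinite (vq G u) := hfin
  haveI : Flat (vq G u) := hflat
  haveI : LocallyOfFinitePresentation (vq G u) := hlfp
  haveI : Surjective (vq G u) := hsurj
  have hJ := exists_J_mem (indGrpd G u) (hb_ind G u h2)
  refine ⟨colimit (F (indGrpd G u)), pD G u hJ, t_pD G u hJ, ⟨isColimit_pD G u hJ⟩,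
    ⟨pD_surjective G u hJ⟩, isOpenMap_pD G u hJ, fun h => ?_, liftD_surjective G u hJ,
    fun hm => ?_⟩
  · haveI := h
    exact universallyClosed_pD G u hJ
  · haveI := hm
    refine ⟨isPullback_pD G u hJ, fun hfl => ?_⟩
    haveI := hfl
    exact flat_pD G u hJ

end Groth.Agent.H4.GrpQ7
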