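import Mathlib
import Groth.Prelude.Def_Grpd
import Groth.Agent.H4.GrpQ6

set_option autoImplicit false
universe u
open CategoryTheory CategoryTheory.Limits AlgebraicGeometry
open Grpd

namespace Groth.Agent.H4.GrpQ8
open Groth.Agent.H4.GrpdLib Groth.Agent.H4.GrpdLib10 Groth.Agent.H4.GrpQ1 Groth.Agent.H4.GrpQ2
  Groth.Agent.H4.GrpQ3 Groth.Agent.H4.GrpQ4 Groth.Agent.H4.GrpQ5 Groth.Agent.H4.GrpQ6

theorem main_S5690 {S : Scheme.{u}} (G : Grpd.GroupoidScheme S)
    [IsFinite G.s] [Flat G.s] [LocallyOfFinitePresentation G.s]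
    (haff : ∀ x : ↥G.U, ∃ V : G.U.Opens, IsAffineOpen V ∧ G.t.base '' (G.s.base ⁻¹' {x}) ⊆ (V : Set ↥G.U)) :
    ∃ (Y : Scheme.{u}) (q : G.U ⟶ Y) (w : G.s ≫ q = G.t ≫ q),
      Nonempty (IsColimit (Cofork.ofπ q w)) ∧ IsAffineHom q ∧ IsIntegralHom q ∧ Surjective q ∧
      (∀ x x' : ↥G.U, q.base x = q.base x' ↔ ∃ r : ↥G.R, G.s.base r = x ∧ G.t.base r = x') ∧
      (Mono G.j → IsFinite q ∧ Flat q ∧ LocallyOfFinitePresentation q ∧
        IsIso (pullback.lift G.t G.s w.symm : G.R ⟶ pullback q q)) := by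
  have hJ := exists_J_mem G haff
  haveI := isIntegralHom_pc G hJ
  refine ⟨colimit (F G), pc G hJ, (t_pc G hJ).symm, ⟨?_⟩, inferInstance, inferInstance,
    ⟨pc_surjective G hJ⟩, ?_, ?_⟩
  · exact Cofork.IsColimit.mk' _ fun s =>
      ⟨descY G s.π s.condition.symm hJ, pc_descY G s.π s.condition.symm hJ,
        fun {m} hm => descY_unique G s.π s.condition.symm hJ m hm⟩
  · intro x x'
    constructor
    · intro h
      obtain ⟨r, hr1, hr2⟩ := (pc_eq_iff G hJ x' x).mp h.symm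
      exact ⟨r, hr2, hr1⟩
    · rintro ⟨r, hr1, hr2⟩
      exact ((pc_eq_iff G hJ x' x).mpr ⟨r, hr2, hr1⟩).symm
  · intro hm
    haveI := hm
    obtain ⟨f1, f2, f3⟩ := finLocFree_pc G hJ
    refine ⟨f1, f2, f3, ?_⟩
    have hpb := isPullback_ts_pc G hJ
    have e : pullback.lift G.t G.s (t_pc G hJ) = hpb.isoPullback.hom := by
      apply pullback.hom_ext
      · rw [pullback.lift_fst, hpb.isoPullback_hom_fst]
      · rw [pullback.lift_snd, hpb.isoPullback_hom_snd]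
    show IsIso (pullback.lift G.t G.s (t_pc G hJ))
    rw [e]
    infer_instance

end Groth.Agent.H4.GrpQ8
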