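import Mathlib
import Groth.Prelude.Def_Grpd
import Groth.Prelude.Def_Mor2
import Groth.Prelude.Def_AlgSp
import Groth.Prelude.Def_QuotSh
import Groth.Agent.H4.GrpQ6
import Groth.Agent.H4.GrpdLib14
import Groth.Agent.Lib.Helper3.QuotShEff

set_option autoImplicit false
universe u
open CategoryTheory CategoryTheory.Limits AlgebraicGeometry
open Grpd

namespace Groth.Agent.H4.GrpQ9
open Groth.Agent.H4.GrpdLib Groth.Agent.H4.GrpdLib10 Groth.Agent.H4.GrpQ1 Groth.Agent.H4.GrpQ2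
  Groth.Agent.H4.GrpQ3 Groth.Agent.H4.GrpQ4 Groth.Agent.H4.GrpQ5 Groth.Agent.H4.GrpQ6

variable {S : Scheme.{u}} (G : Grpd.GroupoidScheme S)

theorem mono_j_of_inj
    (hinj : ∀ (T : Over S) (r r' : T ⟶ Over.mk G.pR),
      r ≫ (Over.homMk G.t G.t_over : Over.mk G.pR ⟶ Over.mk G.pU) =
        r' ≫ (Over.homMk G.t G.t_over : Over.mk G.pR ⟶ Over.mk G.pU) →
      r ≫ (Over.homMk G.s G.s_over : Over.mk G.pR ⟶ Over.mk G.pU) =
        r' ≫ (Over.homMk G.s G.s_over : Over.mk G.pR ⟶ Over.mk G.pU) → r = r') :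
    Mono G.j := by
  constructor
  intro T a b hab
  have hjt : G.j ≫ pullback.fst G.pU G.pU = G.t := pullback.lift_fst _ _ _
  have hjs : G.j ≫ pullback.snd G.pU G.pU = G.s := pullback.lift_snd _ _ _
  have h1 : a ≫ G.t = b ≫ G.t := by
    rw [← hjt, ← Category.assoc, hab, Category.assoc]
  have h2 : a ≫ G.s = b ≫ G.s := by
    rw [← hjs, ← Category.assoc, hab, Category.assoc]
  have hp : a ≫ G.pR = b ≫ G.pR := by
    rw [← G.t_over, ← Category.assoc, h1, Category.assoc]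
  have key := hinj (Over.mk (a ≫ G.pR)) (Over.homMk a rfl) (Over.homMk b hp.symm)
    (by ext; simpa using h1) (by ext; simpa using h2)
  exact congrArg (fun k => k.left) key

theorem hJ_of_h3 [IsFinite G.s] [Flat G.s] [LocallyOfFinitePresentation G.s] [IsFinite G.t]
    [Flat G.t] [LocallyOfFinitePresentation G.t]
    (h3 : ∀ Z : Set ↥G.U, IsClosed Z → Z.Nonempty →
      ∃ u ∈ Z, ∃ W : G.U.Opens, IsAffineOpen W ∧ ∀ r : ↥G.R, G.s r = u → G.t r ∈ W) :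
    ∀ x : G.U, ∃ W : J G, x ∈ W.1 := by
  by_contra hcon
  push Not at hcon
  obtain ⟨x, hx⟩ := hcon
  have hO : IsOpen (⋃ W : J G, (W.1 : Set G.U)) := isOpen_iUnion fun W => W.1.isOpen
  have hxO : x ∈ (⋃ W : J G, (W.1 : Set G.U))ᶜ := by
    intro hx'
    obtain ⟨W, hW⟩ := Set.mem_iUnion.mp hx'
    exact hx W hW
  obtain ⟨u, hu, V, hV, huV⟩ := h3 _ hO.isClosed_compl ⟨x, hxO⟩
  obtain ⟨W, hW, huW, hinv⟩ := Groth.Agent.H4.GrpdLib14.main_S1881 G u V hV huV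
  exact hu (Set.mem_iUnion.mpr ⟨⟨W, hW, hinv⟩, huW⟩)

theorem main_S10235 (G : Grpd.GroupoidScheme S)
    (hs : Mor2.IsFinLocFree G.s) (ht : Mor2.IsFinLocFree G.t)
    (heq : AlgSp.IsEqvRel (Over.homMk G.s G.s_over : Over.mk G.pR ⟶ Over.mk G.pU)
      (Over.homMk G.t G.t_over : Over.mk G.pR ⟶ Over.mk G.pU))
    (h3 : ∀ Z : Set ↥G.U, IsClosed Z → Z.Nonempty →
      ∃ u ∈ Z, ∃ W : G.U.Opens, IsAffineOpen W ∧ ∀ r : ↥G.R, G.s r = u → G.t r ∈ W) :
    ∃ (M : Over S) (m : Over.mk G.pU ⟶ M), Mor2.IsFinLocFree m.left ∧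
      IsPullback G.t G.s m.left m.left ∧
      QuotSh.IsQuotient Scheme.fppfPrecoverage
        (Over.homMk G.s G.s_over : Over.mk G.pR ⟶ Over.mk G.pU)
        (Over.homMk G.t G.t_over : Over.mk G.pR ⟶ Over.mk G.pU) m := by
  obtain ⟨h1, h2, h3'⟩ := hs
  obtain ⟨k1, k2, k3⟩ := ht
  haveI := h1
  haveI := h2
  haveI := h3'
  haveI := k1
  haveI := k2
  haveI := k3
  haveI : Mono G.j := mono_j_of_inj G heq.injective
  have hJ := hJ_of_h3 G h3
  have hf : G.t ≫ G.pU = G.s ≫ G.pU := G.t_over.trans G.s_over.symm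
  obtain ⟨m, hm⟩ : ∃ m : Over.mk G.pU ⟶ Over.mk (descY G G.pU hf hJ), m.left = pc G hJ :=
    ⟨Over.homMk (pc G hJ) (pc_descY G G.pU hf hJ), rfl⟩
  have hfl := finLocFree_pc G hJ
  have hpbts := isPullback_ts_pc G hJ
  rw [← hm] at hfl hpbts
  refine ⟨Over.mk (descY G G.pU hf hJ), m, hfl, hpbts, ?_⟩
  have hpb : IsPullback G.s G.t m.left m.left := hpbts.flip
  have hkp : IsKernelPair m (Over.homMk G.s G.s_over : Over.mk G.pR ⟶ Over.mk G.pU)
      (Over.homMk G.t G.t_over : Over.mk G.pR ⟶ Over.mk G.pU) := by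
    refine IsPullback.of_map (Over.forget S) ?_ hpb
    ext
    exact hpb.w
  refine Groth.Agent.H3.QuotShEff.isQuotient_of_isKernelPair_of_hasLocalLifts _ _ _ m hkp ?_
  haveI : Flat m.left := hfl.2.1
  haveI : LocallyOfFinitePresentation m.left := hfl.2.2
  haveI : Surjective m.left := by
    rw [hm]
    exact ⟨pc_surjective G hJ⟩
  refine Groth.Agent.H3.QuotShEff.hasLocalLifts_of_isLocallyTrivialFor _ m
    ⟨_, m.left.singleton_mem_fppfPrecoverage, ?_⟩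
  rintro Z g ⟨⟩
  exact ⟨𝟙 _, Category.id_comp _⟩

end Groth.Agent.H4.GrpQ9
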