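import Mathlib
import Groth.Prelude.Def_Grpd
import Groth.Agent.H4.GrpdLib
import Groth.Agent.H4.GrpdLib2

set_option autoImplicit false
universe u
open CategoryTheory CategoryTheory.Limits AlgebraicGeometry
open Grpd

namespace Groth.Agent.H4.GrpdLib7
open Groth.Agent.H4.GrpdLib

variable {S : Scheme.{u}} (G : Grpd.GroupoidScheme S)

theorem isPullback_c_fst : IsPullback G.c (pullback.fst G.s G.t) G.t G.t := by
  refine IsPullback.of_iso_pullback ⟨c_t G⟩
    ⟨pullback.lift G.c (pullback.fst G.s G.t) (c_t G),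
      pullback.lift (pullback.snd G.t G.t)
        (comp G (pullback.snd G.t G.t ≫ G.i) (pullback.fst G.t G.t)
          (by rw [Category.assoc, G.i_s, pullback.condition]))
        (by rw [comp_t, Category.assoc, G.i_t]), ?_, ?_⟩ ?_ ?_
  · apply pullback.hom_ext
    · rw [Category.assoc, pullback.lift_fst, pullback.lift_snd, Category.id_comp]
    · rw [Category.assoc, pullback.lift_snd, precomp_comp, Category.id_comp]
      rw [comp_congr G _ (by rw [← Category.assoc, pullback.lift_snd]) (pullback.lift_fst _ _ _)]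
      rw [comp_congr G _ rfl (c_eq_comp G)]
      exact i_comp_comp G _ _ pullback.condition
  · apply pullback.hom_ext
    · rw [Category.assoc, pullback.lift_fst, Category.id_comp, c_eq_comp, precomp_comp]
      rw [comp_congr G _ (pullback.lift_fst _ _ _) (pullback.lift_snd _ _ _)]
      exact comp_i_comp G _ _ pullback.condition.symm
    · rw [Category.assoc, pullback.lift_snd, pullback.lift_fst, Category.id_comp]
  · exact pullback.lift_fst _ _ _
  · exact pullback.lift_snd _ _ _

/-- left translation by the points of `a : Z ⟶ R` -/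
noncomputable def transl {Z : Scheme.{u}} (a : Z ⟶ G.R) : pullback (a ≫ G.s) G.t ⟶ G.R :=
  pullback.lift (pullback.fst (a ≫ G.s) G.t ≫ a) (pullback.snd (a ≫ G.s) G.t)
    (by rw [Category.assoc]; exact pullback.condition) ≫ G.c

theorem isPullback_transl {Z : Scheme.{u}} (a : Z ⟶ G.R) :
    IsPullback (transl G a) (pullback.fst (a ≫ G.s) G.t) G.t (a ≫ G.t) := by
  have e1 : pullback.lift (pullback.fst (a ≫ G.s) G.t ≫ a) (pullback.snd (a ≫ G.s) G.t)
      (by rw [Category.assoc]; exact pullback.condition) ≫ pullback.snd G.s G.t =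
      pullback.snd (a ≫ G.s) G.t := pullback.lift_snd _ _ _
  have big : IsPullback (pullback.lift (pullback.fst (a ≫ G.s) G.t ≫ a) (pullback.snd (a ≫ G.s) G.t)
      (by rw [Category.assoc]; exact pullback.condition) ≫ pullback.snd G.s G.t)
      (pullback.fst (a ≫ G.s) G.t) G.t (a ≫ G.s) := by
    rw [e1]
    exact (IsPullback.of_hasPullback (a ≫ G.s) G.t).flip
  have sqL := IsPullback.of_right big (pullback.lift_fst _ _ _)
    (IsPullback.of_hasPullback G.s G.t).flip
  exact sqL.paste_horiz (isPullback_c_fst G)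

theorem main_S1889 (k : Type u) [Field k] (eU : G.U ≅ Spec (CommRingCat.of k)) (W : G.R.Opens)
    (Z : Scheme.{u}) (a : Z ⟶ G.R) :
    IsOpen (Set.range ⇑(pullback.lift (pullback.fst (a ≫ G.s) (W.ι ≫ G.t) ≫ a)
      (pullback.snd (a ≫ G.s) (W.ι ≫ G.t) ≫ W.ι)
      ((Category.assoc _ _ _).trans (pullback.condition.trans (Category.assoc _ _ _).symm)) ≫
        G.c)) := by
  have h0 : Nonempty G.U := ⟨eU.inv (IsLocalRing.closedPoint k)⟩
  have h1 : IsIntegral G.U := isIntegral_of_isOpenImmersion eU.hom
  have h2 : Subsingleton G.U := eU.hom.homeomorph.subsingleton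
  have h3 : UniversallyOpen (a ≫ G.t) := inferInstance
  have h4 : UniversallyOpen (transl G a) :=
    MorphismProperty.of_isPullback (isPullback_transl G a).flip h3
  let ι' : pullback (a ≫ G.s) (W.ι ≫ G.t) ⟶ pullback (a ≫ G.s) G.t :=
    pullback.lift (pullback.fst _ _) (pullback.snd _ _ ≫ W.ι)
      (by rw [Category.assoc]; exact pullback.condition)
  have e1 : ι' ≫ pullback.fst (a ≫ G.s) G.t = pullback.fst (a ≫ G.s) (W.ι ≫ G.t) :=
    pullback.lift_fst _ _ _
  have big : IsPullback (ι' ≫ pullback.fst (a ≫ G.s) G.t) (pullback.snd (a ≫ G.s) (W.ι ≫ G.t))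
      (a ≫ G.s) (W.ι ≫ G.t) := by
    rw [e1]
    exact IsPullback.of_hasPullback _ _
  have sq := IsPullback.of_right big (pullback.lift_snd _ _ _)
    (IsPullback.of_hasPullback (a ≫ G.s) G.t)
  have h5 : UniversallyOpen ι' :=
    MorphismProperty.of_isPullback (P := @UniversallyOpen) sq.flip inferInstance
  have e2 : pullback.lift (pullback.fst (a ≫ G.s) (W.ι ≫ G.t) ≫ a)
      (pullback.snd (a ≫ G.s) (W.ι ≫ G.t) ≫ W.ι)
      ((Category.assoc _ _ _).trans (pullback.condition.trans (Category.assoc _ _ _).symm)) ≫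
        G.c = ι' ≫ transl G a := by
    have e3 : pullback.lift (pullback.fst (a ≫ G.s) (W.ι ≫ G.t) ≫ a)
        (pullback.snd (a ≫ G.s) (W.ι ≫ G.t) ≫ W.ι)
        ((Category.assoc _ _ _).trans (pullback.condition.trans (Category.assoc _ _ _).symm)) =
        ι' ≫ pullback.lift (pullback.fst (a ≫ G.s) G.t ≫ a) (pullback.snd (a ≫ G.s) G.t)
          (by rw [Category.assoc]; exact pullback.condition) := by
      apply pullback.hom_ext
      · rw [pullback.lift_fst, Category.assoc, pullback.lift_fst, ← Category.assoc, e1]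
      · rw [pullback.lift_snd, Category.assoc, pullback.lift_snd, pullback.lift_snd]
    unfold transl
    rw [e3, Category.assoc]
  rw [e2]
  exact (ι' ≫ transl G a).isOpenMap.isOpen_range

end Groth.Agent.H4.GrpdLib7
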