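import Mathlib
import Groth.Prelude.Def_Grpd
import Groth.Agent.H4.GrpdLib
import Groth.Agent.H4.GrpdLib2
import Groth.Agent.H4.GrpdLib7

set_option autoImplicit false
universe u
open CategoryTheory CategoryTheory.Limits AlgebraicGeometry
open Grpd

namespace Groth.Agent.H4.GrpdLib9
open Groth.Agent.H4.GrpdLib Groth.Agent.H4.GrpdLib7

variable {S : Scheme.{u}} {G₁ G₂ : Grpd.GroupoidScheme S} (a : Grpd.GroupoidScheme.Hom G₁ G₂)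

theorem hom_comp {T : Scheme.{u}} (α β : T ⟶ G₁.R) (h : α ≫ G₁.s = β ≫ G₁.t) :
    comp G₁ α β h ≫ a.fR = comp G₂ (α ≫ a.fR) (β ≫ a.fR)
      (by rw [Category.assoc, Category.assoc, a.comm_s, a.comm_t, ← Category.assoc,
        ← Category.assoc, h]) :=
  a.comm_c α β h

theorem hom_e : G₁.e ≫ a.fR = a.fU ≫ G₂.e := by
  have hxs : (G₁.e ≫ a.fR) ≫ G₂.s = a.fU := by
    rw [Category.assoc, a.comm_s, ← Category.assoc, G₁.e_s, Category.id_comp]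
  have hxt : (G₁.e ≫ a.fR) ≫ G₂.t = a.fU := by
    rw [Category.assoc, a.comm_t, ← Category.assoc, G₁.e_t, Category.id_comp]
  have hee : comp G₁ G₁.e G₁.e (by rw [G₁.e_s, G₁.e_t]) = G₁.e :=
    comp_e G₁ G₁.e G₁.e (by rw [← Category.assoc, G₁.e_s, Category.id_comp])
  have hxx : comp G₂ (G₁.e ≫ a.fR) (G₁.e ≫ a.fR) (by rw [hxs, hxt]) = G₁.e ≫ a.fR := by
    have := hom_comp a G₁.e G₁.e (by rw [G₁.e_s, G₁.e_t])
    rw [hee] at this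
    exact this.symm
  have h1 := i_comp_comp G₂ (G₁.e ≫ a.fR) (G₁.e ≫ a.fR) (by rw [hxs, hxt])
  rw [comp_congr G₂ _ rfl hxx, i_comp] at h1
  calc G₁.e ≫ a.fR = (G₁.e ≫ a.fR) ≫ G₂.s ≫ G₂.e := h1.symm
    _ = a.fU ≫ G₂.e := by rw [← Category.assoc, hxs]

theorem main_S1891 (k : Type u) [Field k] (eU : G₂.U ≅ Spec (CommRingCat.of k)) [IsIso a.fU]
    (hopen : IsOpen (Set.range ⇑a.fR)) : IsClosed (Set.range ⇑a.fR) := by
  rw [← isOpen_compl_iff, isOpen_iff_forall_mem_open]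
  intro r₂ hr₂
  let W : G₂.R.Opens := ⟨Set.range ⇑a.fR, hopen⟩
  let Z : Scheme.{u} := Spec (G₂.R.residueField r₂)
  let z : Z ⟶ G₂.R := G₂.R.fromSpecResidueField r₂
  obtain ⟨μ, hμ⟩ : ∃ μ : pullback (z ≫ G₂.s) (W.ι ≫ G₂.t) ⟶ G₂.R, μ =
      pullback.lift (pullback.fst (z ≫ G₂.s) (W.ι ≫ G₂.t) ≫ z)
      (pullback.snd (z ≫ G₂.s) (W.ι ≫ G₂.t) ≫ W.ι)
      ((Category.assoc _ _ _).trans (pullback.condition.trans (Category.assoc _ _ _).symm)) ≫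
        G₂.c := ⟨_, rfl⟩
  have hN : IsOpen (Set.range ⇑μ) := by
    rw [hμ]; exact main_S1889 G₂ k eU W Z z
  have hμ' : μ = comp G₂ (pullback.fst (z ≫ G₂.s) (W.ι ≫ G₂.t) ≫ z)
      (pullback.snd (z ≫ G₂.s) (W.ι ≫ G₂.t) ≫ W.ι)
      ((Category.assoc _ _ _).trans (pullback.condition.trans (Category.assoc _ _ _).symm)) := hμ
  have hWι : ∀ y : W.toScheme, W.ι y ∈ Set.range ⇑a.fR := fun y => y.2
  refine ⟨Set.range ⇑μ, ?_, hN, ?_⟩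
  · -- disjointness
    rintro n ⟨p, rfl⟩ ⟨x₁, hx₁⟩
    apply hr₂
    obtain ⟨x₁', hx₁'⟩ := hWι (pullback.snd (z ≫ G₂.s) (W.ι ≫ G₂.t) p)
    obtain ⟨τ₁, hτ₁, -⟩ := Scheme.Pullback.exists_preimage_pullback (f := μ) (g := a.fR) p x₁ hx₁.symm
    obtain ⟨τ₂, hτ₂, -⟩ := Scheme.Pullback.exists_preimage_pullback
      (f := pullback.snd (z ≫ G₂.s) (W.ι ≫ G₂.t) ≫ W.ι) (g := a.fR) p x₁'
      (by rw [Scheme.Hom.comp_apply]; exact hx₁'.symm)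
    obtain ⟨τ, -, -⟩ := Scheme.Pullback.exists_preimage_pullback
      (f := pullback.fst μ a.fR)
      (g := pullback.fst (pullback.snd (z ≫ G₂.s) (W.ι ≫ G₂.t) ≫ W.ι) a.fR) τ₁ τ₂
      (hτ₁.trans hτ₂.symm)
    -- the T-points
    set T := pullback (pullback.fst μ a.fR)
      (pullback.fst (pullback.snd (z ≫ G₂.s) (W.ι ≫ G₂.t) ≫ W.ι) a.fR) with hT
    obtain ⟨pT, hpT⟩ : ∃ pT : T ⟶ pullback (z ≫ G₂.s) (W.ι ≫ G₂.t),
      pT = pullback.fst _ _ ≫ pullback.fst μ a.fR := ⟨_, rfl⟩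
    obtain ⟨y₁, hy₁⟩ : ∃ y₁ : T ⟶ G₁.R, y₁ = pullback.fst _ _ ≫ pullback.snd μ a.fR := ⟨_, rfl⟩
    obtain ⟨w₁, hw₁⟩ : ∃ w₁ : T ⟶ G₁.R, w₁ = pullback.snd _ _ ≫
      pullback.snd (pullback.snd (z ≫ G₂.s) (W.ι ≫ G₂.t) ≫ W.ι) a.fR := ⟨_, rfl⟩
    have e1 : y₁ ≫ a.fR = pT ≫ μ := by
      rw [hy₁, hpT, Category.assoc, Category.assoc, pullback.condition]
    have e2 : w₁ ≫ a.fR = pT ≫ pullback.snd (z ≫ G₂.s) (W.ι ≫ G₂.t) ≫ W.ι := by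
      have c2 : pullback.snd (pullback.snd (z ≫ G₂.s) (W.ι ≫ G₂.t) ≫ W.ι) a.fR ≫ a.fR =
          pullback.fst (pullback.snd (z ≫ G₂.s) (W.ι ≫ G₂.t) ≫ W.ι) a.fR ≫
            pullback.snd (z ≫ G₂.s) (W.ι ≫ G₂.t) ≫ W.ι := pullback.condition.symm
      rw [hw₁, hpT, Category.assoc, c2, ← Category.assoc, ← pullback.condition]
    obtain ⟨zT, hzT⟩ : ∃ zT : T ⟶ G₂.R, zT = pT ≫ pullback.fst (z ≫ G₂.s) (W.ι ≫ G₂.t) ≫ z :=
      ⟨_, rfl⟩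
    have hzw : zT ≫ G₂.s = (w₁ ≫ a.fR) ≫ G₂.t := by
      rw [hzT, e2]
      simp only [Category.assoc]
      rw [pullback.condition]
    have e3 : pT ≫ μ = comp G₂ zT (w₁ ≫ a.fR) hzw := by
      rw [hμ', precomp_comp]
      exact comp_congr G₂ _ (by rw [hzT]) (by rw [e2])
    have hs : y₁ ≫ G₁.s = w₁ ≫ G₁.s := by
      rw [← cancel_mono a.fU, Category.assoc, Category.assoc, ← a.comm_s,
        ← Category.assoc, ← Category.assoc, e1, e3, comp_s]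
    have hws : (w₁ ≫ G₁.i) ≫ G₁.s = w₁ ≫ G₁.t := by rw [Category.assoc, G₁.i_s]
    have hv : y₁ ≫ G₁.s = (w₁ ≫ G₁.i) ≫ G₁.t := by rw [Category.assoc, G₁.i_t, hs]
    obtain ⟨v, hvdef⟩ : ∃ v : T ⟶ G₁.R, v = comp G₁ y₁ (w₁ ≫ G₁.i) hv := ⟨_, rfl⟩
    have hvs : v ≫ G₁.s = w₁ ≫ G₁.t := by rw [hvdef, comp_s, hws]
    have e4 : comp G₁ v w₁ hvs = y₁ := by
      subst hvdef
      exact comp_i_comp' G₁ y₁ w₁ hs
    have hv2 : (v ≫ a.fR) ≫ G₂.s = (w₁ ≫ a.fR) ≫ G₂.t := by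
      rw [Category.assoc, a.comm_s, ← Category.assoc, hvs, Category.assoc, ← a.comm_t,
        Category.assoc]
    have e5 := hom_comp a v w₁ hvs
    rw [e4, e1, e3] at e5
    -- right cancellation
    have e6 := comp_comp_i G₂ zT (w₁ ≫ a.fR) hzw
    have e7 := comp_comp_i G₂ (v ≫ a.fR) (w₁ ≫ a.fR) hv2
    rw [comp_congr G₂ _ e5.symm rfl] at e7
    have e8 : zT = v ≫ a.fR := e6.symm.trans e7
    refine ⟨v τ, ?_⟩
    rw [← Scheme.Hom.comp_apply, ← e8, hzT, Scheme.Hom.comp_apply, Scheme.Hom.comp_apply]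
    exact Scheme.fromSpecResidueField_apply _ _
  · -- r₂ lies in the translate
    have hrange : Set.range ⇑(z ≫ G₂.s ≫ G₂.e) ⊆ Set.range ⇑W.ι := by
      rintro _ ⟨ζ, rfl⟩
      have : (z ≫ G₂.s ≫ G₂.e) ζ ∈ Set.range ⇑a.fR := by
        refine ⟨G₁.e (inv a.fU ((z ≫ G₂.s) ζ)), ?_⟩
        rw [← Scheme.Hom.comp_apply, hom_e, Scheme.Hom.comp_apply, ← Scheme.Hom.comp_apply _ a.fU,
          IsIso.inv_hom_id]
        rw [← Category.assoc, Scheme.Hom.comp_apply]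
        rfl
      rw [Scheme.Opens.range_ι]
      exact this
    let w : Z ⟶ W.toScheme := IsOpenImmersion.lift W.ι (z ≫ G₂.s ≫ G₂.e) hrange
    have hw : w ≫ W.ι = z ≫ G₂.s ≫ G₂.e := IsOpenImmersion.lift_fac _ _ _
    have hcond : 𝟙 Z ≫ z ≫ G₂.s = w ≫ W.ι ≫ G₂.t := by
      rw [← Category.assoc w, hw, Category.id_comp, Category.assoc, Category.assoc, G₂.e_t,
        Category.comp_id]
    have hl : pullback.lift (𝟙 Z) w hcond ≫ μ = z := by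
      rw [hμ', precomp_comp]
      rw [comp_congr G₂ _
        (show pullback.lift (𝟙 Z) w hcond ≫ pullback.fst (z ≫ G₂.s) (W.ι ≫ G₂.t) ≫ z = z by
          rw [pullback.lift_fst_assoc, Category.id_comp])
        (show pullback.lift (𝟙 Z) w hcond ≫ pullback.snd (z ≫ G₂.s) (W.ι ≫ G₂.t) ≫ W.ι =
            z ≫ G₂.s ≫ G₂.e by rw [pullback.lift_snd_assoc, hw])]
      exact comp_e G₂ z _ rfl
    refine ⟨pullback.lift (𝟙 Z) w hcond (default : Z), ?_⟩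
    rw [← Scheme.Hom.comp_apply, hl]
    exact Scheme.fromSpecResidueField_apply _ _

end Groth.Agent.H4.GrpdLib9
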