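import Mathlib
import Groth.Prelude.Def_Grpd
import Groth.Agent.H4.GrpdLib
import Groth.Agent.H4.GrpdLib2
import Groth.Agent.H4.GrpdLib5
import Groth.Agent.H4.GrpdLib7
import Groth.Agent.H4.GrpdLib9

set_option autoImplicit false
universe u
open CategoryTheory CategoryTheory.Limits AlgebraicGeometry
open Grpd

namespace Groth.Agent.H4.GrpdLib11
open Groth.Agent.H4.GrpdLib Groth.Agent.H4.GrpdLib7 Groth.Agent.H4.GrpdLib9

/-- closure lemma for open maps -/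
theorem closure_step {P' P R : Type*} [TopologicalSpace P'] [TopologicalSpace P]
    [TopologicalSpace R] (β : P' → P) (hβ : Continuous β) (g : P' → R) (hg : IsOpenMap g)
    (A : Set R) (F : Set P) (hF : IsClosed F) (h : ∀ q', g q' ∈ A → β q' ∈ F) (q' : P')
    (hq : g q' ∈ closure A) : β q' ∈ F := by
  have h1 : g ⁻¹' A ⊆ β ⁻¹' F := fun x hx => h x hx
  have h2 : g ⁻¹' (closure A) ⊆ closure (g ⁻¹' A) := hg.preimage_closure_subset_closure_preimage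
  have h3 : closure (g ⁻¹' A) ⊆ β ⁻¹' F := (hF.preimage hβ).closure_subset_iff.mpr h1
  exact h3 (h2 hq)

variable {S : Scheme.{u}} {G₁ G₂ : Grpd.GroupoidScheme S} (f : Grpd.GroupoidScheme.Hom G₁ G₂)

theorem c_mem_range_aux [IsIso f.fU] {T : Scheme.{u}} (qT : T ⟶ pullback G₂.s G₂.t)
    (a₁ a₂ : T ⟶ G₁.R) (e1 : a₁ ≫ f.fR = qT ≫ pullback.fst G₂.s G₂.t)
    (e2 : a₂ ≫ f.fR = qT ≫ pullback.snd G₂.s G₂.t) (τ : T) :
    G₂.c (qT τ) ∈ Set.range ⇑f.fR := by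
  have hst : a₁ ≫ G₁.s = a₂ ≫ G₁.t := by
    rw [← cancel_mono f.fU, Category.assoc, Category.assoc, ← f.comm_s, ← f.comm_t,
      ← Category.assoc, ← Category.assoc, e1, e2, Category.assoc, Category.assoc,
      pullback.condition]
  have e3 : qT ≫ G₂.c = comp G₁ a₁ a₂ hst ≫ f.fR := by
    rw [hom_comp f a₁ a₂ hst, c_eq_comp, precomp_comp]
    exact comp_congr G₂ _ e1.symm e2.symm
  refine ⟨(comp G₁ a₁ a₂ hst) τ, ?_⟩
  rw [← Scheme.Hom.comp_apply, ← e3, Scheme.Hom.comp_apply]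

/-- Step 0: the image is closed under composition -/
theorem c_mem_range [IsIso f.fU] (q : ↑(pullback G₂.s G₂.t))
    (h₁ : pullback.fst G₂.s G₂.t q ∈ Set.range ⇑f.fR)
    (h₂ : pullback.snd G₂.s G₂.t q ∈ Set.range ⇑f.fR) : G₂.c q ∈ Set.range ⇑f.fR := by
  obtain ⟨x₁, hx₁⟩ := h₁
  obtain ⟨x₂, hx₂⟩ := h₂
  obtain ⟨τ₁, hτ₁, -⟩ := Scheme.Pullback.exists_preimage_pullback
    (f := pullback.fst G₂.s G₂.t) (g := f.fR) q x₁ hx₁.symm
  obtain ⟨τ₂, hτ₂, -⟩ := Scheme.Pullback.exists_preimage_pullback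
    (f := pullback.snd G₂.s G₂.t) (g := f.fR) q x₂ hx₂.symm
  obtain ⟨τ, hτ, -⟩ := Scheme.Pullback.exists_preimage_pullback
    (f := pullback.fst (pullback.fst G₂.s G₂.t) f.fR)
    (g := pullback.fst (pullback.snd G₂.s G₂.t) f.fR) τ₁ τ₂ (hτ₁.trans hτ₂.symm)
  obtain ⟨qT, hqT⟩ : ∃ qT : pullback (pullback.fst (pullback.fst G₂.s G₂.t) f.fR)
      (pullback.fst (pullback.snd G₂.s G₂.t) f.fR) ⟶ pullback G₂.s G₂.t,
    qT = pullback.fst _ _ ≫ pullback.fst (pullback.fst G₂.s G₂.t) f.fR := ⟨_, rfl⟩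
  obtain ⟨a₁, ha₁⟩ : ∃ a₁ : pullback (pullback.fst (pullback.fst G₂.s G₂.t) f.fR)
      (pullback.fst (pullback.snd G₂.s G₂.t) f.fR) ⟶ G₁.R,
    a₁ = pullback.fst _ _ ≫ pullback.snd (pullback.fst G₂.s G₂.t) f.fR := ⟨_, rfl⟩
  obtain ⟨a₂, ha₂⟩ : ∃ a₂ : pullback (pullback.fst (pullback.fst G₂.s G₂.t) f.fR)
      (pullback.fst (pullback.snd G₂.s G₂.t) f.fR) ⟶ G₁.R,
    a₂ = pullback.snd _ _ ≫ pullback.snd (pullback.snd G₂.s G₂.t) f.fR := ⟨_, rfl⟩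
  have e1 : a₁ ≫ f.fR = qT ≫ pullback.fst G₂.s G₂.t := by
    rw [ha₁, hqT, Category.assoc, Category.assoc, pullback.condition]
  have e2 : a₂ ≫ f.fR = qT ≫ pullback.snd G₂.s G₂.t := by
    have c2 : pullback.snd (pullback.snd G₂.s G₂.t) f.fR ≫ f.fR =
        pullback.fst (pullback.snd G₂.s G₂.t) f.fR ≫ pullback.snd G₂.s G₂.t :=
      pullback.condition.symm
    rw [ha₂, hqT, Category.assoc, c2, ← Category.assoc, ← pullback.condition]
  have key := c_mem_range_aux f qT a₁ a₂ e1 e2 τ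
  have hq : qT τ = q := by rw [hqT, Scheme.Hom.comp_apply, hτ, hτ₁]
  rwa [hq] at key

theorem main_S7462 [IsIso f.fU] (k : Type u) [Field k] (eU : G₂.U ≅ Spec (CommRingCat.of k))
    (p : ↑(pullback G₂.s G₂.t))
    (h₁ : pullback.fst G₂.s G₂.t p ∈ closure (Set.range ⇑f.fR))
    (h₂ : pullback.snd G₂.s G₂.t p ∈ closure (Set.range ⇑f.fR)) :
    G₂.c p ∈ closure (Set.range ⇑f.fR) := by
  have h0 : Nonempty G₂.U := ⟨eU.inv (IsLocalRing.closedPoint k)⟩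
  have hint : IsIntegral G₂.U := isIntegral_of_isOpenImmersion eU.hom
  have hsub : Subsingleton G₂.U := eU.hom.homeomorph.subsingleton
  have hFc : IsClosed (⇑G₂.c ⁻¹' closure (Set.range ⇑f.fR)) :=
    isClosed_closure.preimage G₂.c.continuous
  -- Step 1
  have step1 : ∀ q : ↑(pullback G₂.s G₂.t),
      pullback.fst G₂.s G₂.t q ∈ closure (Set.range ⇑f.fR) →
      pullback.snd G₂.s G₂.t q ∈ Set.range ⇑f.fR →
      q ∈ ⇑G₂.c ⁻¹' closure (Set.range ⇑f.fR) := by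
    intro q hq1 hq2
    obtain ⟨x₂, hx₂⟩ := hq2
    obtain ⟨q', hq', -⟩ := Scheme.Pullback.exists_preimage_pullback
      (f := pullback.snd G₂.s G₂.t) (g := f.fR) q x₂ hx₂.symm
    have sq : IsPullback (pullback.fst (pullback.snd G₂.s G₂.t) f.fR ≫ pullback.fst G₂.s G₂.t)
        (pullback.snd (pullback.snd G₂.s G₂.t) f.fR) G₂.s (f.fR ≫ G₂.t) :=
      (IsPullback.of_hasPullback (pullback.snd G₂.s G₂.t) f.fR).paste_horiz
        (IsPullback.of_hasPullback G₂.s G₂.t)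
    have hUO : UniversallyOpen (f.fR ≫ G₂.t) := inferInstance
    have hg : UniversallyOpen
        (pullback.fst (pullback.snd G₂.s G₂.t) f.fR ≫ pullback.fst G₂.s G₂.t) :=
      MorphismProperty.of_isPullback (P := @UniversallyOpen) sq.flip hUO
    have hc : ∀ r, pullback.snd G₂.s G₂.t (pullback.fst (pullback.snd G₂.s G₂.t) f.fR r) =
        f.fR (pullback.snd (pullback.snd G₂.s G₂.t) f.fR r) := by
      intro r
      rw [← Scheme.Hom.comp_apply, ← Scheme.Hom.comp_apply, pullback.condition]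
    have key := closure_step (⇑(pullback.fst (pullback.snd G₂.s G₂.t) f.fR))
      (pullback.fst (pullback.snd G₂.s G₂.t) f.fR).continuous
      (⇑(pullback.fst (pullback.snd G₂.s G₂.t) f.fR ≫ pullback.fst G₂.s G₂.t))
      (pullback.fst (pullback.snd G₂.s G₂.t) f.fR ≫ pullback.fst G₂.s G₂.t).isOpenMap
      (Set.range ⇑f.fR) _ hFc
      (fun r hr => show G₂.c _ ∈ closure (Set.range ⇑f.fR) from
        subset_closure (c_mem_range f _ (by rw [← Scheme.Hom.comp_apply]; exact hr)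
          ⟨pullback.snd (pullback.snd G₂.s G₂.t) f.fR r, (hc r).symm⟩)) q'
      (by rw [Scheme.Hom.comp_apply, hq']; exact hq1)
    rw [hq'] at key
    exact key
  -- Step 2
  show p ∈ ⇑G₂.c ⁻¹' closure (Set.range ⇑f.fR)
  let Z' : Scheme.{u} := Spec (G₂.R.residueField (pullback.fst G₂.s G₂.t p))
  let ζ : Z' ⟶ G₂.R := G₂.R.fromSpecResidueField (pullback.fst G₂.s G₂.t p)
  have hζ : ∀ y : Z', ζ y = pullback.fst G₂.s G₂.t p :=
    fun y => Scheme.fromSpecResidueField_apply _ _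
  obtain ⟨q', hq', -⟩ := Scheme.Pullback.exists_preimage_pullback
    (f := pullback.fst G₂.s G₂.t) (g := ζ) p (default : Z') (hζ _).symm
  have sq : IsPullback (pullback.fst (pullback.fst G₂.s G₂.t) ζ ≫ pullback.snd G₂.s G₂.t)
      (pullback.snd (pullback.fst G₂.s G₂.t) ζ) G₂.t (ζ ≫ G₂.s) :=
    (IsPullback.of_hasPullback (pullback.fst G₂.s G₂.t) ζ).paste_horiz
      (IsPullback.of_hasPullback G₂.s G₂.t).flip
  have hUO : UniversallyOpen (ζ ≫ G₂.s) := inferInstance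
  have hg : UniversallyOpen
      (pullback.fst (pullback.fst G₂.s G₂.t) ζ ≫ pullback.snd G₂.s G₂.t) :=
    MorphismProperty.of_isPullback (P := @UniversallyOpen) sq.flip hUO
  have hc : ∀ r, pullback.fst G₂.s G₂.t (pullback.fst (pullback.fst G₂.s G₂.t) ζ r) =
      ζ (pullback.snd (pullback.fst G₂.s G₂.t) ζ r) := by
    intro r
    rw [← Scheme.Hom.comp_apply, ← Scheme.Hom.comp_apply, pullback.condition]
  have key := closure_step (⇑(pullback.fst (pullback.fst G₂.s G₂.t) ζ))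
    (pullback.fst (pullback.fst G₂.s G₂.t) ζ).continuous
    (⇑(pullback.fst (pullback.fst G₂.s G₂.t) ζ ≫ pullback.snd G₂.s G₂.t))
    (pullback.fst (pullback.fst G₂.s G₂.t) ζ ≫ pullback.snd G₂.s G₂.t).isOpenMap
    (Set.range ⇑f.fR) _ hFc
    (fun r hr => step1 _ (by rw [hc r, hζ]; exact h₁)
      (by rw [← Scheme.Hom.comp_apply]; exact hr)) q'
    (by rw [Scheme.Hom.comp_apply, hq']; exact h₂)
  rw [hq'] at key
  exact key

/-! ### the pair groupoid and S7463 -/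

local macro "pair_simp" : tactic => `(tactic| simp only [Category.assoc, pullback.lift_fst,
  pullback.lift_snd, pullback.lift_fst_assoc, pullback.lift_snd_assoc, Category.comp_id,
  Category.id_comp])

/-- the pair groupoid `U ×_S U ⇉ U` -/
noncomputable def pairGrpd (G : Grpd.GroupoidScheme S) : Grpd.GroupoidScheme S where
  U := G.U
  R := pullback G.pU G.pU
  pU := G.pU
  pR := pullback.fst G.pU G.pU ≫ G.pU
  s := pullback.snd G.pU G.pU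
  t := pullback.fst G.pU G.pU
  e := pullback.lift (𝟙 _) (𝟙 _) rfl
  i := pullback.lift (pullback.snd _ _) (pullback.fst _ _) pullback.condition.symm
  c := pullback.lift (pullback.fst _ _ ≫ pullback.fst _ _) (pullback.snd _ _ ≫ pullback.snd _ _)
    (calc (pullback.fst (pullback.snd G.pU G.pU) (pullback.fst G.pU G.pU) ≫
            pullback.fst G.pU G.pU) ≫ G.pU
        = pullback.fst (pullback.snd G.pU G.pU) (pullback.fst G.pU G.pU) ≫
            pullback.snd G.pU G.pU ≫ G.pU := by rw [Category.assoc, pullback.condition]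
      _ = pullback.snd (pullback.snd G.pU G.pU) (pullback.fst G.pU G.pU) ≫
            pullback.fst G.pU G.pU ≫ G.pU := by
          rw [← Category.assoc, pullback.condition, Category.assoc]
      _ = (pullback.snd (pullback.snd G.pU G.pU) (pullback.fst G.pU G.pU) ≫
            pullback.snd G.pU G.pU) ≫ G.pU := by rw [Category.assoc, pullback.condition])
  s_over := pullback.condition.symm
  t_over := rfl
  comp_s := fun α β h => by pair_simp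
  comp_t := fun α β h => by pair_simp
  assoc := fun α β γ h₁ h₂ => by apply pullback.hom_ext <;> pair_simp
  e_s := pullback.lift_snd _ _ _
  e_t := pullback.lift_fst _ _ _
  comp_e := fun α => by apply pullback.hom_ext <;> pair_simp
  e_comp := fun α => by apply pullback.hom_ext <;> pair_simp
  i_s := pullback.lift_snd _ _ _
  i_t := pullback.lift_fst _ _ _
  comp_i := fun α => by apply pullback.hom_ext <;> pair_simp
  i_comp := fun α => by apply pullback.hom_ext <;> pair_simp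

/-- `j` as a homomorphism to the pair groupoid -/
noncomputable def jHom (G : Grpd.GroupoidScheme S) : Grpd.GroupoidScheme.Hom G (pairGrpd G) where
  fU := 𝟙 G.U
  fR := G.j
  fU_over := Category.id_comp _
  comm_s := (j_snd G).trans (Category.comp_id _).symm
  comm_t := (j_fst G).trans (Category.comp_id _).symm
  comm_c := fun α β h => by
    apply pullback.hom_ext
    · dsimp only [pairGrpd]
      simp only [Category.assoc, pullback.lift_fst, pullback.lift_fst_assoc, j_fst]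
      exact G.comp_t α β h
    · dsimp only [pairGrpd]
      simp only [Category.assoc, pullback.lift_snd, pullback.lift_snd_assoc, j_snd]
      exact G.comp_s α β h

theorem main_S7463 (G : Grpd.GroupoidScheme S) (k : Type u) [Field k]
    (eU : G.U ≅ Spec (CommRingCat.of k))
    (pr02 : pullback (pullback.snd G.pU G.pU) (pullback.fst G.pU G.pU) ⟶ pullback G.pU G.pU)
    (h0 : pr02 ≫ pullback.fst G.pU G.pU =
      pullback.fst (pullback.snd G.pU G.pU) (pullback.fst G.pU G.pU) ≫ pullback.fst G.pU G.pU)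
    (h1 : pr02 ≫ pullback.snd G.pU G.pU =
      pullback.snd (pullback.snd G.pU G.pU) (pullback.fst G.pU G.pU) ≫ pullback.snd G.pU G.pU)
    (p : ↑(pullback (pullback.snd G.pU G.pU) (pullback.fst G.pU G.pU)))
    (h₁ : pullback.fst (pullback.snd G.pU G.pU) (pullback.fst G.pU G.pU) p ∈
      closure (Set.range ⇑G.j))
    (h₂ : pullback.snd (pullback.snd G.pU G.pU) (pullback.fst G.pU G.pU) p ∈
      closure (Set.range ⇑G.j)) : pr02 p ∈ closure (Set.range ⇑G.j) := by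
  have hpr : pr02 = (pairGrpd G).c := by
    apply pullback.hom_ext
    · rw [h0]; exact (pullback.lift_fst _ _ _).symm
    · rw [h1]; exact (pullback.lift_snd _ _ _).symm
  haveI : IsIso (jHom G).fU := by
    show IsIso (𝟙 G.U)
    infer_instance
  have := main_S7462 (jHom G) k eU p h₁ h₂
  rw [hpr]
  exact this

/-! ### S1892 -/

theorem hom_i_point {T : Scheme.{u}} (α : T ⟶ G₁.R) :
    (α ≫ f.fR) ≫ G₂.i = (α ≫ G₁.i) ≫ f.fR := by
  have hs1 : ((α ≫ G₁.i) ≫ f.fR) ≫ G₂.s = (α ≫ f.fR) ≫ G₂.t := by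
    rw [Category.assoc, Category.assoc, f.comm_s, ← Category.assoc G₁.i, G₁.i_s, Category.assoc,
      f.comm_t]
  have hs2 : ((α ≫ f.fR) ≫ G₂.i) ≫ G₂.s = (α ≫ f.fR) ≫ G₂.t := by
    rw [Category.assoc, G₂.i_s]
  have cs : f.fR ≫ G₂.s ≫ G₂.e = G₁.s ≫ f.fU ≫ G₂.e := by
    rw [← Category.assoc, f.comm_s, Category.assoc]
  have h1 : comp G₂ ((α ≫ G₁.i) ≫ f.fR) (α ≫ f.fR) hs1 = (α ≫ f.fR) ≫ G₂.s ≫ G₂.e := by
    have h := hom_comp f (α ≫ G₁.i) α (by rw [Category.assoc, G₁.i_s])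
    rw [i_comp G₁ α] at h
    rw [← h]
    simp only [Category.assoc]
    rw [hom_e f, cs]
  have h2 : comp G₂ ((α ≫ f.fR) ≫ G₂.i) (α ≫ f.fR) hs2 = (α ≫ f.fR) ≫ G₂.s ≫ G₂.e :=
    i_comp G₂ _
  have e6 := comp_comp_i G₂ ((α ≫ G₁.i) ≫ f.fR) (α ≫ f.fR) hs1
  have e7 := comp_comp_i G₂ ((α ≫ f.fR) ≫ G₂.i) (α ≫ f.fR) hs2
  rw [comp_congr G₂ _ (h1.trans h2.symm) rfl] at e6
  exact e7.symm.trans e6

theorem hom_i : f.fR ≫ G₂.i = G₁.i ≫ f.fR := by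
  have := hom_i_point f (𝟙 G₁.R)
  rwa [Category.id_comp, Category.id_comp] at this

theorem i_mem_closure (r : G₂.R) (hr : r ∈ closure (Set.range ⇑f.fR)) :
    G₂.i r ∈ closure (Set.range ⇑f.fR) := by
  refine map_mem_closure G₂.i.continuous hr ?_
  rintro _ ⟨x, rfl⟩
  refine ⟨G₁.i x, ?_⟩
  show (G₁.i ≫ f.fR) x = (f.fR ≫ G₂.i) x
  rw [hom_i f]

theorem cancel_aux [IsIso f.fU] {T : Scheme.{u}} (zT : T ⟶ G₂.R) (y₁ w₁ : T ⟶ G₁.R)
    (hzw : zT ≫ G₂.s = (w₁ ≫ f.fR) ≫ G₂.t)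
    (e : y₁ ≫ f.fR = comp G₂ zT (w₁ ≫ f.fR) hzw) : ∃ v : T ⟶ G₁.R, zT = v ≫ f.fR := by
  have hs : y₁ ≫ G₁.s = w₁ ≫ G₁.s := by
    rw [← cancel_mono f.fU, Category.assoc, Category.assoc, ← f.comm_s,
      ← Category.assoc, ← Category.assoc, e, comp_s]
  have hws : (w₁ ≫ G₁.i) ≫ G₁.s = w₁ ≫ G₁.t := by rw [Category.assoc, G₁.i_s]
  have hv : y₁ ≫ G₁.s = (w₁ ≫ G₁.i) ≫ G₁.t := by rw [Category.assoc, G₁.i_t, hs]
  obtain ⟨v, hvdef⟩ : ∃ v : T ⟶ G₁.R, v = comp G₁ y₁ (w₁ ≫ G₁.i) hv := ⟨_, rfl⟩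
  have hvs : v ≫ G₁.s = w₁ ≫ G₁.t := by rw [hvdef, comp_s, hws]
  have e4 : comp G₁ v w₁ hvs = y₁ := by
    subst hvdef
    exact comp_i_comp' G₁ y₁ w₁ hs
  have hv2 : (v ≫ f.fR) ≫ G₂.s = (w₁ ≫ f.fR) ≫ G₂.t := by
    rw [Category.assoc, f.comm_s, ← Category.assoc, hvs, Category.assoc, ← f.comm_t,
      Category.assoc]
  have e5 := hom_comp f v w₁ hvs
  rw [e4, e] at e5
  have e6 := comp_comp_i G₂ zT (w₁ ≫ f.fR) hzw
  have e7 := comp_comp_i G₂ (v ≫ f.fR) (w₁ ≫ f.fR) hv2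
  rw [comp_congr G₂ _ e5.symm rfl] at e7
  exact ⟨v, e6.symm.trans e7⟩

theorem transl_cancel [IsIso f.fU] (W : G₂.R.Opens) {Z : Scheme.{u}} (z : Z ⟶ G₂.R)
    (μ : pullback (z ≫ G₂.s) (W.ι ≫ G₂.t) ⟶ G₂.R)
    (hμ : μ = comp G₂ (pullback.fst (z ≫ G₂.s) (W.ι ≫ G₂.t) ≫ z)
      (pullback.snd (z ≫ G₂.s) (W.ι ≫ G₂.t) ≫ W.ι)
      ((Category.assoc _ _ _).trans (pullback.condition.trans (Category.assoc _ _ _).symm)))
    (p : ↑(pullback (z ≫ G₂.s) (W.ι ≫ G₂.t)))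
    (h1 : μ p ∈ Set.range ⇑f.fR)
    (h2 : (pullback.snd (z ≫ G₂.s) (W.ι ≫ G₂.t) ≫ W.ι) p ∈ Set.range ⇑f.fR) :
    (pullback.fst (z ≫ G₂.s) (W.ι ≫ G₂.t) ≫ z) p ∈ Set.range ⇑f.fR := by
  obtain ⟨x₁, hx₁⟩ := h1
  obtain ⟨x₁', hx₁'⟩ := h2
  obtain ⟨τ₁, hτ₁, -⟩ := Scheme.Pullback.exists_preimage_pullback (f := μ) (g := f.fR) p x₁
    hx₁.symm
  obtain ⟨τ₂, hτ₂, -⟩ := Scheme.Pullback.exists_preimage_pullback
    (f := pullback.snd (z ≫ G₂.s) (W.ι ≫ G₂.t) ≫ W.ι) (g := f.fR) p x₁' hx₁'.symm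
  obtain ⟨τ, hτ, -⟩ := Scheme.Pullback.exists_preimage_pullback
    (f := pullback.fst μ f.fR)
    (g := pullback.fst (pullback.snd (z ≫ G₂.s) (W.ι ≫ G₂.t) ≫ W.ι) f.fR) τ₁ τ₂
    (hτ₁.trans hτ₂.symm)
  obtain ⟨pT, hpT⟩ : ∃ pT : pullback (pullback.fst μ f.fR)
      (pullback.fst (pullback.snd (z ≫ G₂.s) (W.ι ≫ G₂.t) ≫ W.ι) f.fR) ⟶
        pullback (z ≫ G₂.s) (W.ι ≫ G₂.t),
    pT = pullback.fst _ _ ≫ pullback.fst μ f.fR := ⟨_, rfl⟩
  obtain ⟨y₁, hy₁⟩ : ∃ y₁ : pullback (pullback.fst μ f.fR)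
      (pullback.fst (pullback.snd (z ≫ G₂.s) (W.ι ≫ G₂.t) ≫ W.ι) f.fR) ⟶ G₁.R,
    y₁ = pullback.fst _ _ ≫ pullback.snd μ f.fR := ⟨_, rfl⟩
  obtain ⟨w₁, hw₁⟩ : ∃ w₁ : pullback (pullback.fst μ f.fR)
      (pullback.fst (pullback.snd (z ≫ G₂.s) (W.ι ≫ G₂.t) ≫ W.ι) f.fR) ⟶ G₁.R,
    w₁ = pullback.snd _ _ ≫
      pullback.snd (pullback.snd (z ≫ G₂.s) (W.ι ≫ G₂.t) ≫ W.ι) f.fR := ⟨_, rfl⟩
  have e1 : y₁ ≫ f.fR = pT ≫ μ := by
    rw [hy₁, hpT, Category.assoc, Category.assoc, pullback.condition]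
  have e2 : w₁ ≫ f.fR = pT ≫ pullback.snd (z ≫ G₂.s) (W.ι ≫ G₂.t) ≫ W.ι := by
    have c2 : pullback.snd (pullback.snd (z ≫ G₂.s) (W.ι ≫ G₂.t) ≫ W.ι) f.fR ≫ f.fR =
        pullback.fst (pullback.snd (z ≫ G₂.s) (W.ι ≫ G₂.t) ≫ W.ι) f.fR ≫
          pullback.snd (z ≫ G₂.s) (W.ι ≫ G₂.t) ≫ W.ι := pullback.condition.symm
    rw [hw₁, hpT, Category.assoc, c2, ← Category.assoc, ← pullback.condition]
  obtain ⟨zT, hzT⟩ : ∃ zT : pullback (pullback.fst μ f.fR)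
      (pullback.fst (pullback.snd (z ≫ G₂.s) (W.ι ≫ G₂.t) ≫ W.ι) f.fR) ⟶ G₂.R,
    zT = pT ≫ pullback.fst (z ≫ G₂.s) (W.ι ≫ G₂.t) ≫ z := ⟨_, rfl⟩
  have hzw : zT ≫ G₂.s = (w₁ ≫ f.fR) ≫ G₂.t := by
    rw [hzT, e2]
    simp only [Category.assoc]
    rw [pullback.condition]
  have e3 : pT ≫ μ = comp G₂ zT (w₁ ≫ f.fR) hzw := by
    refine (congrArg (fun m => pT ≫ m) hμ).trans ?_
    rw [precomp_comp]
    exact comp_congr G₂ _ (by rw [hzT]) (by rw [e2])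
  obtain ⟨v, hv⟩ := cancel_aux f zT y₁ w₁ hzw (e1.trans e3)
  have hpτ : pT τ = p := by rw [hpT, Scheme.Hom.comp_apply, hτ, hτ₁]
  refine ⟨v τ, ?_⟩
  rw [← Scheme.Hom.comp_apply, ← hv, hzT, Scheme.Hom.comp_apply, hpτ]

theorem mem_transl [IsIso f.fU] (W : G₂.R.Opens) (hYW : Set.range ⇑f.fR ⊆ (W : Set G₂.R))
    {Z : Scheme.{u}} (z : Z ⟶ G₂.R)
    (μ : pullback (z ≫ G₂.s) (W.ι ≫ G₂.t) ⟶ G₂.R)
    (hμ : μ = comp G₂ (pullback.fst (z ≫ G₂.s) (W.ι ≫ G₂.t) ≫ z)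
      (pullback.snd (z ≫ G₂.s) (W.ι ≫ G₂.t) ≫ W.ι)
      ((Category.assoc _ _ _).trans (pullback.condition.trans (Category.assoc _ _ _).symm)))
    (ζ : Z) : z ζ ∈ Set.range ⇑μ := by
  have hrange : Set.range ⇑(z ≫ G₂.s ≫ G₂.e) ⊆ Set.range ⇑W.ι := by
    rintro _ ⟨ζ', rfl⟩
    have : (z ≫ G₂.s ≫ G₂.e) ζ' ∈ Set.range ⇑f.fR := by
      refine ⟨G₁.e (inv f.fU ((z ≫ G₂.s) ζ')), ?_⟩
      rw [← Scheme.Hom.comp_apply, hom_e, Scheme.Hom.comp_apply, ← Scheme.Hom.comp_apply _ f.fU,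
        IsIso.inv_hom_id]
      rw [← Category.assoc, Scheme.Hom.comp_apply]
      rfl
    rw [Scheme.Opens.range_ι]
    exact hYW this
  let w : Z ⟶ W.toScheme := IsOpenImmersion.lift W.ι (z ≫ G₂.s ≫ G₂.e) hrange
  have hw : w ≫ W.ι = z ≫ G₂.s ≫ G₂.e := IsOpenImmersion.lift_fac _ _ _
  have hcond : 𝟙 Z ≫ z ≫ G₂.s = w ≫ W.ι ≫ G₂.t := by
    rw [← Category.assoc w, hw, Category.id_comp, Category.assoc, Category.assoc, G₂.e_t,
      Category.comp_id]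
  have hl : pullback.lift (𝟙 Z) w hcond ≫ μ = z := by
    rw [hμ, precomp_comp]
    rw [comp_congr G₂ _
      (show pullback.lift (𝟙 Z) w hcond ≫ pullback.fst (z ≫ G₂.s) (W.ι ≫ G₂.t) ≫ z = z by
        rw [pullback.lift_fst_assoc, Category.id_comp])
      (show pullback.lift (𝟙 Z) w hcond ≫ pullback.snd (z ≫ G₂.s) (W.ι ≫ G₂.t) ≫ W.ι =
          z ≫ G₂.s ≫ G₂.e by rw [pullback.lift_snd_assoc, hw])]
    exact comp_e G₂ z _ rfl
  refine ⟨pullback.lift (𝟙 Z) w hcond ζ, ?_⟩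
  rw [← Scheme.Hom.comp_apply, hl]

theorem main_S1892 (k : Type u) [Field k] (eU : G₂.U ≅ Spec (CommRingCat.of k)) [IsIso f.fU]
    (hlc : IsLocallyClosed (Set.range ⇑f.fR)) : IsClosed (Set.range ⇑f.fR) := by
  rw [← closure_subset_iff_isClosed]
  intro r₂ hr₂
  let W : G₂.R.Opens := ⟨coborder (Set.range ⇑f.fR), hlc.isOpen_coborder⟩
  have hYW : Set.range ⇑f.fR ⊆ (W : Set G₂.R) := subset_coborder
  have hWZ : ∀ r : G₂.R, r ∈ (W : Set G₂.R) → r ∈ closure (Set.range ⇑f.fR) →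
      r ∈ Set.range ⇑f.fR := by
    intro r h1 h2
    have : r ∈ coborder (Set.range ⇑f.fR) ∩ closure (Set.range ⇑f.fR) := ⟨h1, h2⟩
    rwa [coborder_inter_closure] at this
  let Z : Scheme.{u} := Spec (G₂.R.residueField r₂)
  let z : Z ⟶ G₂.R := G₂.R.fromSpecResidueField r₂
  have hz : ∀ y : Z, z y = r₂ := fun y => Scheme.fromSpecResidueField_apply _ _
  obtain ⟨μ, hμ⟩ : ∃ μ : pullback (z ≫ G₂.s) (W.ι ≫ G₂.t) ⟶ G₂.R, μ =
      pullback.lift (pullback.fst (z ≫ G₂.s) (W.ι ≫ G₂.t) ≫ z)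
      (pullback.snd (z ≫ G₂.s) (W.ι ≫ G₂.t) ≫ W.ι)
      ((Category.assoc _ _ _).trans (pullback.condition.trans (Category.assoc _ _ _).symm)) ≫
        G₂.c := ⟨_, rfl⟩
  have hN : IsOpen (Set.range ⇑μ) := by
    rw [hμ]; exact main_S1889 G₂ k eU W Z z
  have hμ' : μ = comp G₂ (pullback.fst (z ≫ G₂.s) (W.ι ≫ G₂.t) ≫ z)
      (pullback.snd (z ≫ G₂.s) (W.ι ≫ G₂.t) ≫ W.ι)
      ((Category.assoc _ _ _).trans (pullback.condition.trans (Category.assoc _ _ _).symm)) := hμ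
  have hmem : r₂ ∈ Set.range ⇑μ := by
    have := mem_transl f W hYW z μ hμ' (default : Z)
    rwa [hz] at this
  obtain ⟨n, ⟨p, hp⟩, ⟨x₁, hx₁⟩⟩ := mem_closure_iff.mp hr₂ _ hN hmem
  -- the point `w' = W.ι (snd p)` lies in the closure
  have hzt : ((pullback.fst (z ≫ G₂.s) (W.ι ≫ G₂.t) ≫ z) ≫ G₂.i) ≫ G₂.s = μ ≫ G₂.t := by
    rw [hμ', comp_t, Category.assoc, G₂.i_s]
  have hqc : pullback.lift ((pullback.fst (z ≫ G₂.s) (W.ι ≫ G₂.t) ≫ z) ≫ G₂.i) μ hzt ≫ G₂.c =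
      pullback.snd (z ≫ G₂.s) (W.ι ≫ G₂.t) ≫ W.ι := by
    rw [lift_c, comp_congr G₂ _ rfl hμ']
    exact i_comp_comp G₂ _ _ _
  have h7 := main_S7462 f k eU
    (pullback.lift ((pullback.fst (z ≫ G₂.s) (W.ι ≫ G₂.t) ≫ z) ≫ G₂.i) μ hzt p)
    (by
      rw [← Scheme.Hom.comp_apply, pullback.lift_fst, Scheme.Hom.comp_apply,
        Scheme.Hom.comp_apply, hz]
      exact i_mem_closure f _ hr₂)
    (by
      rw [← Scheme.Hom.comp_apply, pullback.lift_snd, hp]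
      exact subset_closure ⟨x₁, hx₁⟩)
  rw [← Scheme.Hom.comp_apply, hqc] at h7
  have h8 : (pullback.snd (z ≫ G₂.s) (W.ι ≫ G₂.t) ≫ W.ι) p ∈ Set.range ⇑f.fR := by
    refine hWZ _ ?_ h7
    rw [Scheme.Hom.comp_apply]
    exact (pullback.snd (z ≫ G₂.s) (W.ι ≫ G₂.t) p).2
  have h9 := transl_cancel f W z μ hμ' p (by rw [hp]; exact ⟨x₁, hx₁⟩) h8
  rwa [Scheme.Hom.comp_apply, hz] at h9

end Groth.Agent.H4.GrpdLib11
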