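import Mathlib
import Groth.Prelude.Def_Grpd
import Groth.Agent.H4.GrpdLib
import Groth.Agent.H4.GrpdLib9
import Groth.Agent.H4.GrpdLib11

set_option autoImplicit false
universe u
open CategoryTheory CategoryTheory.Limits AlgebraicGeometry
open Grpd

namespace Groth.Agent.H4.GrpdLib12
open Groth.Agent.H4.GrpdLib Groth.Agent.H4.GrpdLib9 Groth.Agent.H4.GrpdLib11

variable {S : Scheme.{u}}

section Sub

variable (G : Grpd.GroupoidScheme S) {Z : Scheme.{u}} (ι : Z ⟶ G.R)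
  (e' : G.U ⟶ Z) (he : e' ≫ ι = G.e)
  (i' : Z ⟶ Z) (hi : i' ≫ ι = ι ≫ G.i)
  (c' : pullback (ι ≫ G.s) (ι ≫ G.t) ⟶ Z)
  (hc : c' ≫ ι = comp G (pullback.fst (ι ≫ G.s) (ι ≫ G.t) ≫ ι)
    (pullback.snd (ι ≫ G.s) (ι ≫ G.t) ≫ ι)
    (by simp only [Category.assoc]; exact pullback.condition))

include hc in
theorem sub_key {T : Scheme.{u}} (α β : T ⟶ Z) (h : α ≫ ι ≫ G.s = β ≫ ι ≫ G.t) :
    (pullback.lift α β h ≫ c') ≫ ι =
      comp G (α ≫ ι) (β ≫ ι) (by simpa only [Category.assoc] using h) := by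
  rw [Category.assoc, hc, precomp_comp]
  exact comp_congr G _ (pullback.lift_fst_assoc _ _ _ _) (pullback.lift_snd_assoc _ _ _ _)

/-- the subgroupoid defined by a monomorphism `ι : Z ⟶ R` through which identity, inverse and
composition factor -/
noncomputable def subGrpd [Mono ι] : Grpd.GroupoidScheme S where
  U := G.U
  R := Z
  pU := G.pU
  pR := ι ≫ G.pR
  s := ι ≫ G.s
  t := ι ≫ G.t
  e := e'
  i := i'
  c := c'
  s_over := by rw [Category.assoc, G.s_over]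
  t_over := by rw [Category.assoc, G.t_over]
  comp_s := fun α β h => by
    rw [← Category.assoc, sub_key G ι c' hc α β h, Groth.Agent.H4.GrpdLib.comp_s, Category.assoc]
  comp_t := fun α β h => by
    rw [← Category.assoc, sub_key G ι c' hc α β h, Groth.Agent.H4.GrpdLib.comp_t, Category.assoc]
  assoc := fun α β γ h₁ h₂ => by
    rw [← cancel_mono ι]
    refine (sub_key G ι c' hc _ γ _).trans ?_
    refine Eq.trans ?_ (sub_key G ι c' hc α _ _).symm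
    rw [comp_congr G _ (sub_key G ι c' hc α β h₁) rfl,
      comp_congr G _ rfl (sub_key G ι c' hc β γ h₂)]
    exact comp_assoc G _ _ _ _ _
  e_s := by rw [← Category.assoc, he, G.e_s]
  e_t := by rw [← Category.assoc, he, G.e_t]
  comp_e := fun α => by
    rw [← cancel_mono ι]
    refine (sub_key G ι c' hc _ _ _).trans ?_
    exact Groth.Agent.H4.GrpdLib.comp_e G (α ≫ ι) _ (by simp only [Category.assoc, he])
  e_comp := fun α => by
    rw [← cancel_mono ι]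
    refine (sub_key G ι c' hc _ _ _).trans ?_
    exact Groth.Agent.H4.GrpdLib.e_comp G (α ≫ ι) _ (by simp only [Category.assoc, he])
  i_s := by rw [← Category.assoc, hi, Category.assoc, G.i_s]
  i_t := by rw [← Category.assoc, hi, Category.assoc, G.i_t]
  comp_i := fun α => by
    rw [← cancel_mono ι]
    refine (sub_key G ι c' hc _ _ _).trans ?_
    rw [comp_congr G _ rfl
      (show (α ≫ i') ≫ ι = (α ≫ ι) ≫ G.i by rw [Category.assoc, hi, Category.assoc])]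
    refine (Groth.Agent.H4.GrpdLib.comp_i G (α ≫ ι)).trans ?_
    simp only [Category.assoc, he]
  i_comp := fun α => by
    rw [← cancel_mono ι]
    refine (sub_key G ι c' hc _ _ _).trans ?_
    rw [comp_congr G _
      (show (α ≫ i') ≫ ι = (α ≫ ι) ≫ G.i by rw [Category.assoc, hi, Category.assoc]) rfl]
    refine (Groth.Agent.H4.GrpdLib.i_comp G (α ≫ ι)).trans ?_
    simp only [Category.assoc, he]

/-- the inclusion of the subgroupoid -/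
noncomputable def subHom [Mono ι] :
    Grpd.GroupoidScheme.Hom (subGrpd G ι e' he i' hi c' hc) G where
  fU := 𝟙 G.U
  fR := ι
  fU_over := Category.id_comp _
  comm_s := (Category.comp_id _).symm
  comm_t := (Category.comp_id _).symm
  comm_c := fun α β h => sub_key G ι c' hc α β h

end Sub

theorem isSchemeTheoreticallyDominant_toImage {X Y : Scheme.{u}} (f : X ⟶ Y) [QuasiCompact f] :
    IsSchemeTheoreticallyDominant f.toImage := by
  rw [isSchemeTheoreticallyDominant_iff]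
  refine Scheme.IdealSheafData.ext_of_iSup_eq_top
    (fun U : Y.affineOpens =>
      (⟨f.imageι ⁻¹ᵁ U.1, U.2.preimage f.imageι⟩ : f.image.affineOpens)) ?_ ?_
  · have h1 : ⨆ U : Y.affineOpens, f.imageι ⁻¹ᵁ U.1 = f.imageι ⁻¹ᵁ (⨆ U : Y.affineOpens, U.1) :=
      (Scheme.Hom.preimage_iSup _ _).symm
    rw [h1, iSup_affineOpens_eq_top]
    rfl
  · intro U
    simp only [Scheme.Hom.ker_apply, Scheme.IdealSheafData.ideal_bot, Pi.bot_apply]
    exact (RingHom.injective_iff_ker_eq_bot _).mp (f.toImage_app_injective U)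

variable {G₁ G₂ : Grpd.GroupoidScheme S} (f : Grpd.GroupoidScheme.Hom G₁ G₂)

theorem main_S7492 [IsIso f.fU] [QuasiCompact f.fR] (k : Type u) [Field k]
    (eU : G₂.U ≅ Spec (CommRingCat.of k)) :
    ∃ (G' : Grpd.GroupoidScheme S) (ψ : Grpd.GroupoidScheme.Hom G' G₂),
      IsIso ψ.fU ∧ IsClosedImmersion ψ.fR ∧ ψ.fR.ker = f.fR.ker := by
  have h0 : Nonempty G₂.U := ⟨eU.inv (IsLocalRing.closedPoint k)⟩
  have hint : IsIntegral G₂.U := isIntegral_of_isOpenImmersion eU.hom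
  have hsub : Subsingleton G₂.U := eU.hom.homeomorph.subsingleton
  obtain ⟨Z, ι, π, hπι, hι, hker, hπ, hπqc⟩ : ∃ (Z : Scheme.{u}) (ι : Z ⟶ G₂.R) (π : G₁.R ⟶ Z),
      π ≫ ι = f.fR ∧ IsClosedImmersion ι ∧ ι.ker = f.fR.ker ∧
      IsSchemeTheoreticallyDominant π ∧ QuasiCompact π :=
    ⟨f.fR.image, f.fR.imageι, f.fR.toImage, f.fR.toImage_imageι, inferInstance,
      Scheme.IdealSheafData.ker_subschemeι _, isSchemeTheoreticallyDominant_toImage _,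
      inferInstance⟩
  have hdom : ∀ {A B : Scheme.{u}} (ρ : A ⟶ B) [IsSchemeTheoreticallyDominant ρ]
      (g : B ⟶ G₂.R), (ρ ≫ g).ker = g.ker := by
    intro A B ρ _ g
    rw [Scheme.Hom.ker_comp, ρ.ker_eq_bot, Scheme.IdealSheafData.map_bot]
  -- identity
  have he : (inv f.fU ≫ G₁.e ≫ π) ≫ ι = G₂.e := by
    rw [Category.assoc, Category.assoc, hπι, hom_e, IsIso.inv_hom_id_assoc]
  -- inverse
  have hiker : ι.ker ≤ (ι ≫ G₂.i).ker := by
    rw [← hdom π (ι ≫ G₂.i), ← Category.assoc, hπι, hom_i f, hker]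
    exact Scheme.Hom.le_ker_comp _ _
  have hi : IsClosedImmersion.lift ι (ι ≫ G₂.i) hiker ≫ ι = ι ≫ G₂.i :=
    IsClosedImmersion.lift_fac _ _ _
  -- composition
  have hcond : (pullback.fst (ι ≫ G₂.s) (ι ≫ G₂.t) ≫ ι) ≫ G₂.s =
      (pullback.snd (ι ≫ G₂.s) (ι ≫ G₂.t) ≫ ι) ≫ G₂.t := by
    simp only [Category.assoc]; exact pullback.condition
  obtain ⟨g, hg⟩ : ∃ g : pullback (ι ≫ G₂.s) (ι ≫ G₂.t) ⟶ G₂.R,
      g = comp G₂ (pullback.fst (ι ≫ G₂.s) (ι ≫ G₂.t) ≫ ι)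
        (pullback.snd (ι ≫ G₂.s) (ι ≫ G₂.t) ≫ ι) hcond := ⟨_, rfl⟩
  have hFs : Flat (π ≫ ι ≫ G₂.t) := inferInstance
  have hFt : Flat (ι ≫ G₂.s) := inferInstance
  obtain ⟨ρ₁, hρ₁f, hρ₁s⟩ : ∃ ρ₁ : pullback (π ≫ ι ≫ G₂.s) (π ≫ ι ≫ G₂.t) ⟶
      pullback (ι ≫ G₂.s) (π ≫ ι ≫ G₂.t),
      ρ₁ ≫ pullback.fst _ _ = pullback.fst _ _ ≫ π ∧ ρ₁ ≫ pullback.snd _ _ = pullback.snd _ _ :=
    ⟨pullback.lift (pullback.fst _ _ ≫ π) (pullback.snd _ _)
      (by rw [Category.assoc]; exact pullback.condition),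
      pullback.lift_fst _ _ _, pullback.lift_snd _ _ _⟩
  obtain ⟨ρ₂, hρ₂f, hρ₂s⟩ : ∃ ρ₂ : pullback (ι ≫ G₂.s) (π ≫ ι ≫ G₂.t) ⟶
      pullback (ι ≫ G₂.s) (ι ≫ G₂.t),
      ρ₂ ≫ pullback.fst _ _ = pullback.fst _ _ ∧ ρ₂ ≫ pullback.snd _ _ = pullback.snd _ _ ≫ π :=
    ⟨pullback.lift (pullback.fst _ _) (pullback.snd _ _ ≫ π)
      (by rw [Category.assoc]; exact pullback.condition),
      pullback.lift_fst _ _ _, pullback.lift_snd _ _ _⟩
  have big₁ : IsPullback (ρ₁ ≫ pullback.snd (ι ≫ G₂.s) (π ≫ ι ≫ G₂.t))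
      (pullback.fst (π ≫ ι ≫ G₂.s) (π ≫ ι ≫ G₂.t)) (π ≫ ι ≫ G₂.t) (π ≫ ι ≫ G₂.s) := by
    rw [hρ₁s]; exact (IsPullback.of_hasPullback _ _).flip
  have sq₁ : IsPullback ρ₁ (pullback.fst (π ≫ ι ≫ G₂.s) (π ≫ ι ≫ G₂.t))
      (pullback.fst (ι ≫ G₂.s) (π ≫ ι ≫ G₂.t)) π :=
    IsPullback.of_right big₁ hρ₁f (IsPullback.of_hasPullback (ι ≫ G₂.s) (π ≫ ι ≫ G₂.t)).flip
  have big₂ : IsPullback (ρ₂ ≫ pullback.fst (ι ≫ G₂.s) (ι ≫ G₂.t))
      (pullback.snd (ι ≫ G₂.s) (π ≫ ι ≫ G₂.t)) (ι ≫ G₂.s) (π ≫ ι ≫ G₂.t) := by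
    rw [hρ₂f]; exact IsPullback.of_hasPullback _ _
  have sq₂ : IsPullback ρ₂ (pullback.snd (ι ≫ G₂.s) (π ≫ ι ≫ G₂.t))
      (pullback.snd (ι ≫ G₂.s) (ι ≫ G₂.t)) π :=
    IsPullback.of_right big₂ hρ₂s (IsPullback.of_hasPullback (ι ≫ G₂.s) (ι ≫ G₂.t))
  have hd₁ : IsSchemeTheoreticallyDominant ρ₁ :=
    IsSchemeTheoreticallyDominant.of_isPullback sq₁.flip
  have hd₂ : IsSchemeTheoreticallyDominant ρ₂ :=
    IsSchemeTheoreticallyDominant.of_isPullback sq₂.flip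
  have hA : pullback.fst (π ≫ ι ≫ G₂.s) (π ≫ ι ≫ G₂.t) ≫ G₁.s =
      pullback.snd (π ≫ ι ≫ G₂.s) (π ≫ ι ≫ G₂.t) ≫ G₁.t := by
    have h1 : pullback.fst (π ≫ ι ≫ G₂.s) (π ≫ ι ≫ G₂.t) ≫ (π ≫ ι) ≫ G₂.s =
        pullback.snd (π ≫ ι ≫ G₂.s) (π ≫ ι ≫ G₂.t) ≫ (π ≫ ι) ≫ G₂.t := by
      simp only [Category.assoc]; exact pullback.condition
    rw [hπι, f.comm_s, f.comm_t] at h1
    rw [← cancel_mono f.fU, Category.assoc, Category.assoc]
    exact h1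
  have hρg : (ρ₁ ≫ ρ₂) ≫ g = comp G₁ (pullback.fst (π ≫ ι ≫ G₂.s) (π ≫ ι ≫ G₂.t))
      (pullback.snd (π ≫ ι ≫ G₂.s) (π ≫ ι ≫ G₂.t)) hA ≫ f.fR := by
    rw [hom_comp f _ _ hA, hg, precomp_comp]
    refine comp_congr G₂ _ ?_ ?_
    · rw [Category.assoc, reassoc_of% hρ₂f, reassoc_of% hρ₁f, hπι]
    · rw [Category.assoc, reassoc_of% hρ₂s, reassoc_of% hρ₁s, hπι]
  have hcker : ι.ker ≤ g.ker := by
    rw [← hdom (ρ₁ ≫ ρ₂) g, hρg, hker]
    exact Scheme.Hom.le_ker_comp _ _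
  have hc : IsClosedImmersion.lift ι g hcker ≫ ι = comp G₂
      (pullback.fst (ι ≫ G₂.s) (ι ≫ G₂.t) ≫ ι) (pullback.snd (ι ≫ G₂.s) (ι ≫ G₂.t) ≫ ι) hcond :=
    (IsClosedImmersion.lift_fac _ _ _).trans hg
  refine ⟨subGrpd G₂ ι _ he _ hi _ hc, subHom G₂ ι _ he _ hi _ hc, ?_, ?_, ?_⟩
  · show IsIso (𝟙 G₂.U)
    infer_instance
  · show IsClosedImmersion ι
    exact hι
  · show ι.ker = f.fR.ker
    exact hker

end Groth.Agent.H4.GrpdLib12
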