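import Mathlib
import Groth.Prelude.Def_Grpd
import Groth.Agent.H4.GrpdLib
import Groth.Agent.H4.GrpdLib9
import Groth.Agent.H4.GrpdLib11
import Groth.Agent.H4.GrpdLib12
import Groth.Agent.Lib.Helper9.Misc.GRD1
import Groth.Agent.Lib.Helper8.RedImm

set_option autoImplicit false
universe u
open CategoryTheory CategoryTheory.Limits AlgebraicGeometry
open Grpd

namespace Groth.Agent.H4.GrpdLib13
open Groth.Agent.H4.GrpdLib Groth.Agent.H4.GrpdLib9 Groth.Agent.H4.GrpdLib11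
  Groth.Agent.H4.GrpdLib12

variable {S : Scheme.{u}}

theorem isReduced_pullback_of_iso (k : Type u) [Field k] [PerfectField k] {U X Y : Scheme.{u}}
    (eU : U ≅ Spec (CommRingCat.of k)) (a : X ⟶ U) (b : Y ⟶ U) [IsReduced X] [IsReduced Y] :
    IsReduced (pullback a b) := by
  haveI := Groth.Agent.H9.GRD.isReduced_pullback k (a ≫ eU.hom) (b ≫ eU.hom)
  exact isReduced_of_isOpenImmersion
    (pullback.map a b (a ≫ eU.hom) (b ≫ eU.hom) (𝟙 _) (𝟙 _) eU.hom (by simp) (by simp))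

variable {G₁ G₂ : Grpd.GroupoidScheme S} (f : Grpd.GroupoidScheme.Hom G₁ G₂)

theorem main_S7491 [IsIso f.fU] (k : Type u) [Field k] [PerfectField k]
    (eU : G₂.U ≅ Spec (CommRingCat.of k)) :
    ∃ (G' : Grpd.GroupoidScheme S) (ψ : Grpd.GroupoidScheme.Hom G' G₂),
      IsIso ψ.fU ∧ IsClosedImmersion ψ.fR ∧ IsReduced G'.R ∧
        Set.range ⇑ψ.fR = closure (Set.range ⇑f.fR) := by
  obtain ⟨Z, ι, hι, hZ, hrange⟩ : ∃ (Z : Scheme.{u}) (ι : Z ⟶ G₂.R),
      IsClosedImmersion ι ∧ IsReduced Z ∧ Set.range ⇑ι = closure (Set.range ⇑f.fR) := by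
    refine ⟨_, (Scheme.IdealSheafData.vanishingIdeal
      ⟨closure (Set.range ⇑f.fR), isClosed_closure⟩).subschemeι, inferInstance,
      Groth.Agent.H8.RedImm.isReduced_subscheme_vanishingIdeal _, ?_⟩
    rw [Scheme.IdealSheafData.range_subschemeι, Scheme.IdealSheafData.coe_support_vanishingIdeal]
    rfl
  have hmem : ∀ z : Z, ι z ∈ closure (Set.range ⇑f.fR) := by
    intro z
    have : ι z ∈ Set.range ⇑ι := ⟨z, rfl⟩
    rwa [hrange] at this
  have hlift : ∀ {T : Scheme.{u}} [IsReduced T] (g : T ⟶ G₂.R),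
      (∀ x, g x ∈ closure (Set.range ⇑f.fR)) → ∃ l : T ⟶ Z, l ≫ ι = g := by
    intro T _ g hg
    exact Groth.Agent.H8.RedImm.exists_lift_of_isImmersion_of_isReduced ι g (by
      rintro _ ⟨x, rfl⟩
      rw [hrange]
      exact hg x)
  haveI : IsReduced G₂.U := isReduced_of_isOpenImmersion eU.hom
  -- identity
  have hee : inv f.fU ≫ G₁.e ≫ f.fR = G₂.e := by rw [hom_e, IsIso.inv_hom_id_assoc]
  obtain ⟨e', he⟩ := hlift G₂.e (fun x => subset_closure ⟨G₁.e (inv f.fU x), by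
    rw [← hee, Scheme.Hom.comp_apply, Scheme.Hom.comp_apply]⟩)
  -- inverse
  obtain ⟨i', hi⟩ := hlift (ι ≫ G₂.i) (fun x => by
    rw [Scheme.Hom.comp_apply]
    exact i_mem_closure f _ (hmem x))
  -- composition
  have hcond : (pullback.fst (ι ≫ G₂.s) (ι ≫ G₂.t) ≫ ι) ≫ G₂.s =
      (pullback.snd (ι ≫ G₂.s) (ι ≫ G₂.t) ≫ ι) ≫ G₂.t := by
    simp only [Category.assoc]; exact pullback.condition
  haveI : IsReduced (pullback (ι ≫ G₂.s) (ι ≫ G₂.t)) := isReduced_pullback_of_iso k eU _ _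
  obtain ⟨c', hc⟩ := hlift (comp G₂ (pullback.fst (ι ≫ G₂.s) (ι ≫ G₂.t) ≫ ι)
      (pullback.snd (ι ≫ G₂.s) (ι ≫ G₂.t) ≫ ι) hcond) (fun q => by
    show (pullback.lift _ _ hcond ≫ G₂.c) q ∈ _
    rw [Scheme.Hom.comp_apply]
    refine main_S7462 f k eU _ ?_ ?_
    · rw [← Scheme.Hom.comp_apply, pullback.lift_fst, Scheme.Hom.comp_apply]
      exact hmem _
    · rw [← Scheme.Hom.comp_apply, pullback.lift_snd, Scheme.Hom.comp_apply]
      exact hmem _)
  refine ⟨subGrpd G₂ ι e' he i' hi c' hc, subHom G₂ ι e' he i' hi c' hc, ?_, ?_, ?_, ?_⟩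
  · show IsIso (𝟙 G₂.U)
    infer_instance
  · show IsClosedImmersion ι
    exact hι
  · show IsReduced Z
    exact hZ
  · show Set.range ⇑ι = _
    exact hrange

theorem main_S7503 (G : Grpd.GroupoidScheme S) (k : Type u) [Field k] [PerfectField k]
    (eU : G.U ≅ Spec (CommRingCat.of k)) :
    ∃ (G' : Grpd.GroupoidScheme S) (ψ : G'.U ≅ G.U) (hψ : ψ.hom ≫ G.pU = G'.pU),
      IsReduced G'.R ∧ IsClosedImmersion G'.j ∧
      Set.range ⇑(G'.j ≫ pullback.map G'.pU G'.pU G.pU G.pU ψ.hom ψ.hom (𝟙 S)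
        ((Category.comp_id _).trans hψ.symm) ((Category.comp_id _).trans hψ.symm)) =
        closure (Set.range ⇑G.j) := by
  haveI : IsIso (jHom G).fU := by
    show IsIso (𝟙 G.U)
    infer_instance
  obtain ⟨G', ψ, hψU, hψR, hred, hrange⟩ := main_S7491 (jHom G) k eU
  obtain ⟨φ, hφ⟩ : ∃ φ : G'.U ⟶ G.U, φ = ψ.fU := ⟨ψ.fU, rfl⟩
  haveI hφiso : IsIso φ := by
    subst hφ
    exact hψU
  have hover : φ ≫ G.pU = G'.pU := by
    subst hφ
    exact ψ.fU_over
  have ht : G'.t ≫ φ = ψ.fR ≫ pullback.fst G.pU G.pU := by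
    subst hφ
    exact ψ.comm_t.symm
  have hs : G'.s ≫ φ = ψ.fR ≫ pullback.snd G.pU G.pU := by
    subst hφ
    exact ψ.comm_s.symm
  obtain ⟨ρ, hρ⟩ : ∃ ρ : G'.R ⟶ pullback G.pU G.pU, ρ = ψ.fR := ⟨ψ.fR, rfl⟩
  have hρci : IsClosedImmersion ρ := by
    subst hρ
    exact hψR
  have hρrange : Set.range ⇑ρ = closure (Set.range ⇑G.j) := by
    subst hρ
    exact hrange
  rw [← hρ] at ht hs
  have key : G'.j ≫ pullback.map G'.pU G'.pU G.pU G.pU φ φ (𝟙 S)
      ((Category.comp_id _).trans hover.symm) ((Category.comp_id _).trans hover.symm) = ρ := by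
    apply pullback.hom_ext
    · rw [Category.assoc, pullback.lift_fst, ← Category.assoc, j_fst]
      exact ht
    · rw [Category.assoc, pullback.lift_snd, ← Category.assoc, j_snd]
      exact hs
  refine ⟨G', asIso φ, hover, hred, ?_, ?_⟩
  · haveI : IsClosedImmersion (G'.j ≫ pullback.map G'.pU G'.pU G.pU G.pU φ φ (𝟙 S)
        ((Category.comp_id _).trans hover.symm) ((Category.comp_id _).trans hover.symm)) := by
      rw [key]; exact hρci
    exact IsClosedImmersion.of_comp G'.j (pullback.map G'.pU G'.pU G.pU G.pU φ φ (𝟙 S)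
        ((Category.comp_id _).trans hover.symm) ((Category.comp_id _).trans hover.symm))
  · show Set.range ⇑(G'.j ≫ pullback.map G'.pU G'.pU G.pU G.pU φ φ (𝟙 S) _ _) = _
    rw [key]
    exact hρrange

end Groth.Agent.H4.GrpdLib13
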