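import Mathlib
import Groth.Prelude.Def_Grpd
import Groth.Agent.H4.GrpdLib
import Groth.Agent.H4.GrpdLib3
import Groth.Agent.H4.GrpdLib5
import Groth.Agent.H4.GrpdLib7
import Groth.Agent.Lib.Helper1.SmoothReg
import Groth.Agent.Lib.Helper1.RegLoc

set_option autoImplicit false
universe u
open CategoryTheory CategoryTheory.Limits AlgebraicGeometry
open Grpd

namespace Groth.Agent.H4.GrpdLib15
open Groth.Agent.H4.GrpdLib Groth.Agent.H4.GrpdLib7

variable {S : Scheme.{u}} (G : Grpd.GroupoidScheme S)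

theorem main_S7455 (k : Type u) [Field k] [PerfectField k] (eU : G.U ≅ Spec (CommRingCat.of k))
    [LocallyOfFiniteType G.s] [LocallyOfFiniteType G.t] [IsReduced G.R] :
    Smooth G.s ∧ Smooth G.t := by
  have h0 : Nonempty G.U := ⟨eU.inv (IsLocalRing.closedPoint k)⟩
  have hint : IsIntegral G.U := isIntegral_of_isOpenImmersion eU.hom
  have hsub : Subsingleton G.U := eU.hom.homeomorph.subsingleton
  obtain ⟨σ, hσ⟩ : ∃ σ : G.R ⟶ Spec (CommRingCat.of k), σ = G.s ≫ eU.hom := ⟨_, rfl⟩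
  haveI hσft : LocallyOfFiniteType σ := by rw [hσ]; infer_instance
  haveI hσfp : LocallyOfFinitePresentation σ :=
    LocallyOfFinitePresentation.iff_locallyOfFiniteType.mpr hσft
  haveI : IsLocallyNoetherian G.R := LocallyOfFiniteType.isLocallyNoetherian σ
  have hdense : Dense (σ.smoothLocus : Set G.R) := σ.dense_smoothLocus_of_perfectField
  have hsσ : G.s = σ ≫ eU.inv := by
    rw [hσ, Category.assoc, Iso.hom_inv_id, Category.comp_id]
  suffices hW : σ.smoothLocus = ⊤ by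
    haveI hσs : Smooth σ := Scheme.Hom.smoothLocus_eq_top_iff.mp hW
    have hs : Smooth G.s := by
      rw [hsσ]; infer_instance
    refine ⟨hs, ?_⟩
    have : G.t = G.i ≫ G.s := G.i_s.symm
    rw [this]
    infer_instance
  -- Step A
  have stepA : ∀ r : G.R, ∃ p : ↑(pullback G.s G.t), G.c p = r ∧
      pullback.fst G.s G.t p ∈ σ.smoothLocus ∧ pullback.snd G.s G.t p ∈ σ.smoothLocus := by
    intro r
    let Z : Scheme.{u} := Spec (G.R.residueField r)
    let ρ : Z ⟶ G.R := G.R.fromSpecResidueField r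
    have hρ : ∀ z : Z, ρ z = r := fun z => Scheme.fromSpecResidueField_apply _ _
    have sq1 : IsPullback (pullback.fst G.c ρ ≫ pullback.fst G.s G.t) (pullback.snd G.c ρ) G.t
        (ρ ≫ G.t) :=
      (IsPullback.of_hasPullback G.c ρ).paste_horiz (isPullback_c_fst G).flip
    have sq2 : IsPullback (pullback.fst G.c ρ ≫ pullback.snd G.s G.t) (pullback.snd G.c ρ) G.s
        (ρ ≫ G.s) :=
      (IsPullback.of_hasPullback G.c ρ).paste_horiz (isPullback_c_snd G).flip
    have hUO1 : UniversallyOpen (ρ ≫ G.t) := inferInstance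
    have hUO2 : UniversallyOpen (ρ ≫ G.s) := inferInstance
    haveI ho1 : UniversallyOpen (pullback.fst G.c ρ ≫ pullback.fst G.s G.t) :=
      MorphismProperty.of_isPullback (P := @UniversallyOpen) sq1.flip hUO1
    haveI ho2 : UniversallyOpen (pullback.fst G.c ρ ≫ pullback.snd G.s G.t) :=
      MorphismProperty.of_isPullback (P := @UniversallyOpen) sq2.flip hUO2
    have hd1 : Dense (⇑(pullback.fst G.c ρ ≫ pullback.fst G.s G.t) ⁻¹'
        (σ.smoothLocus : Set G.R)) :=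
      hdense.preimage (pullback.fst G.c ρ ≫ pullback.fst G.s G.t).isOpenMap
    have hd2 : Dense (⇑(pullback.fst G.c ρ ≫ pullback.snd G.s G.t) ⁻¹'
        (σ.smoothLocus : Set G.R)) :=
      hdense.preimage (pullback.fst G.c ρ ≫ pullback.snd G.s G.t).isOpenMap
    have hopen1 : IsOpen (⇑(pullback.fst G.c ρ ≫ pullback.fst G.s G.t) ⁻¹'
        (σ.smoothLocus : Set G.R)) :=
      σ.smoothLocus.isOpen.preimage (pullback.fst G.c ρ ≫ pullback.fst G.s G.t).continuous
    obtain ⟨p₀, hp₀⟩ : ∃ p₀ : ↑(pullback G.s G.t), G.c p₀ = r := by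
      have hcond : 𝟙 G.R ≫ G.s = (G.s ≫ G.e) ≫ G.t := by
        rw [Category.id_comp, Category.assoc, G.e_t, Category.comp_id]
      have hl : pullback.lift (𝟙 G.R) (G.s ≫ G.e) hcond ≫ G.c = 𝟙 G.R :=
        comp_e G (𝟙 _) _ (Category.id_comp _).symm
      refine ⟨(pullback.lift (𝟙 G.R) (G.s ≫ G.e) hcond) r, ?_⟩
      rw [← Scheme.Hom.comp_apply, hl]
      rfl
    obtain ⟨x₀, -, -⟩ := Scheme.Pullback.exists_preimage_pullback (f := G.c) (g := ρ) p₀
      (default : Z) (hp₀.trans (hρ _).symm)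
    haveI : Nonempty ↑(pullback G.c ρ) := ⟨x₀⟩
    obtain ⟨x, hx1, hx2⟩ := (hd1.inter_of_isOpen_left hd2 hopen1).nonempty
    refine ⟨pullback.fst G.c ρ x, ?_, ?_, ?_⟩
    · rw [← Scheme.Hom.comp_apply, pullback.condition, Scheme.Hom.comp_apply]
      exact hρ _
    · rw [← Scheme.Hom.comp_apply]; exact hx1
    · rw [← Scheme.Hom.comp_apply]; exact hx2
  -- Step B
  have stepB : ∀ p : ↑(pullback G.s G.t), pullback.fst G.s G.t p ∈ σ.smoothLocus →
      pullback.snd G.s G.t p ∈ σ.smoothLocus → G.c p ∈ σ.smoothLocus := by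
    intro p hp1 hp2
    obtain ⟨W, hWdef⟩ : ∃ W : G.R.Opens, W = σ.smoothLocus := ⟨_, rfl⟩
    rw [← hWdef] at hp1 hp2
    haveI hWs : Smooth (W.ι ≫ σ) := by
      rw [← Scheme.Hom.smoothLocus_eq_top_iff, ← Scheme.Hom.preimage_smoothLocus_eq, ← hWdef]
      exact W.ι_preimage_self
    haveI hWs' : Smooth (W.ι ≫ G.s) := by
      have : W.ι ≫ G.s = (W.ι ≫ σ) ≫ eU.inv := by rw [hsσ, Category.assoc]
      rw [this]; infer_instance
    have e1 : (W.ι ≫ G.s) ≫ 𝟙 G.U = W.ι ≫ G.s := Category.comp_id _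
    have e2 : (W.ι ≫ G.t) ≫ 𝟙 G.U = W.ι ≫ G.t := Category.comp_id _
    haveI : IsOpenImmersion (pullback.map (W.ι ≫ G.s) (W.ι ≫ G.t) G.s G.t W.ι W.ι (𝟙 G.U) e1 e2) :=
      inferInstance
    have hrange : p ∈ Set.range
        ⇑(pullback.map (W.ι ≫ G.s) (W.ι ≫ G.t) G.s G.t W.ι W.ι (𝟙 G.U) e1 e2) := by
      rw [Scheme.Pullback.range_map]
      refine ⟨?_, ?_⟩
      · show pullback.fst G.s G.t p ∈ Set.range ⇑W.ι
        rw [Scheme.Opens.range_ι]; exact hp1
      · show pullback.snd G.s G.t p ∈ Set.range ⇑W.ι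
        rw [Scheme.Opens.range_ι]; exact hp2
    obtain ⟨x, rfl⟩ := hrange
    haveI hsm : Smooth (pullback.snd (W.ι ≫ G.s) (W.ι ≫ G.t) ≫ W.ι ≫ σ) := inferInstance
    have hreg : IsRegularLocalRing ((pullback (W.ι ≫ G.s) (W.ι ≫ G.t)).presheaf.stalk x) :=
      Groth.Agent.H1.SmoothReg.isRegularLocalRing_of_mem_smoothLocus k
        (pullback.snd (W.ι ≫ G.s) (W.ι ≫ G.t) ≫ W.ι ≫ σ) x (by
          rw [Scheme.Hom.smoothLocus_eq_top]; trivial)
    haveI : Flat G.s := inferInstance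
    haveI : Flat G.c :=
      MorphismProperty.of_isPullback (P := @Flat) (isPullback_c_snd G).flip (inferInstance : Flat G.s)
    obtain ⟨cW, hcW⟩ : ∃ cW : pullback (W.ι ≫ G.s) (W.ι ≫ G.t) ⟶ G.R,
        cW = pullback.map (W.ι ≫ G.s) (W.ι ≫ G.t) G.s G.t W.ι W.ι (𝟙 G.U) e1 e2 ≫ G.c := ⟨_, rfl⟩
    haveI : Flat cW := by rw [hcW]; infer_instance
    have hregR : IsRegularLocalRing (G.R.presheaf.stalk (cW x)) := by
      letI : Algebra (G.R.presheaf.stalk (cW x))
          ((pullback (W.ι ≫ G.s) (W.ι ≫ G.t)).presheaf.stalk x) := (cW.stalkMap x).hom.toAlgebra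
      haveI : IsLocalHom (algebraMap (G.R.presheaf.stalk (cW x))
          ((pullback (W.ι ≫ G.s) (W.ι ≫ G.t)).presheaf.stalk x)) := cW.toLRSHom.prop x
      haveI : Module.Flat (G.R.presheaf.stalk (cW x))
          ((pullback (W.ι ≫ G.s) (W.ι ≫ G.t)).presheaf.stalk x) := Flat.stalkMap cW x
      exact Groth.Agent.H1.Reg.isRegularLocalRing_of_flat _
        ((pullback (W.ι ≫ G.s) (W.ι ≫ G.t)).presheaf.stalk x)
    have := Groth.Agent.H1.SmoothReg.mem_smoothLocus_of_isRegularLocalRing k σ _ hregR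
    rw [hcW, Scheme.Hom.comp_apply] at this
    exact this
  apply top_unique
  intro r _
  obtain ⟨p, rfl, hp1, hp2⟩ := stepA r
  exact stepB p hp1 hp2

end Groth.Agent.H4.GrpdLib15
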