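import Mathlib
import Groth.Prelude.Def_Grpd
import Groth.Agent.H4.GrpdLib
import Groth.Agent.H4.GrpdLib2
import Groth.Agent.H4.GrpdLib9
import Groth.Agent.H4.GrpdLib11
import Groth.Agent.H4.GrpdLib12

set_option autoImplicit false
universe u
open CategoryTheory CategoryTheory.Limits AlgebraicGeometry
open Grpd

namespace Groth.Agent.H4.GrpdLib16
open Groth.Agent.H4.GrpdLib Groth.Agent.H4.GrpdLib9 Groth.Agent.H4.GrpdLib11 Groth.Agent.H4.GrpdLib12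

variable {S : Scheme.{u}}

section A
variable {G₁ G₂ : Grpd.GroupoidScheme S} (f : Grpd.GroupoidScheme.Hom G₁ G₂)

theorem main_S7492' [IsIso f.fU] [QuasiCompact f.fR] (k : Type u) [Field k]
    (eU : G₂.U ≅ Spec (CommRingCat.of k)) :
    ∃ (G' : Grpd.GroupoidScheme S) (ψ : Grpd.GroupoidScheme.Hom G' G₂)
      (φ : Grpd.GroupoidScheme.Hom G₁ G'),
      IsIso ψ.fU ∧ IsClosedImmersion ψ.fR ∧ ψ.fR.ker = f.fR.ker ∧
      φ.fR ≫ ψ.fR = f.fR ∧ φ.fU ≫ ψ.fU = f.fU := by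
  have h0 : Nonempty G₂.U := ⟨eU.inv (IsLocalRing.closedPoint k)⟩
  have hint : IsIntegral G₂.U := isIntegral_of_isOpenImmersion eU.hom
  have hsub : Subsingleton G₂.U := eU.hom.homeomorph.subsingleton
  obtain ⟨Z, ι, π, hπι, hι, hker, hπ, hπqc⟩ : ∃ (Z : Scheme.{u}) (ι : Z ⟶ G₂.R) (π : G₁.R ⟶ Z),
      π ≫ ι = f.fR ∧ IsClosedImmersion ι ∧ ι.ker = f.fR.ker ∧
      IsSchemeTheoreticallyDominant π ∧ QuasiCompact π :=
    ⟨f.fR.image, f.fR.imageι, f.fR.toImage, f.fR.toImage_imageι, inferInstance,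
      Scheme.IdealSheafData.ker_subschemeι _, isSchemeTheoreticallyDominant_toImage _,
      inferInstance⟩
  have hdom : ∀ {A B : Scheme.{u}} (ρ : A ⟶ B) [IsSchemeTheoreticallyDominant ρ]
      (g : B ⟶ G₂.R), (ρ ≫ g).ker = g.ker := by
    intro A B ρ _ g
    rw [Scheme.Hom.ker_comp, ρ.ker_eq_bot, Scheme.IdealSheafData.map_bot]
  -- identity
  have he : (inv f.fU ≫ G₁.e ≫ π) ≫ ι = G₂.e := by
    rw [Category.assoc, Category.assoc, hπι, hom_e, IsIso.inv_hom_id_assoc]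
  -- inverse
  have hiker : ι.ker ≤ (ι ≫ G₂.i).ker := by
    rw [← hdom π (ι ≫ G₂.i), ← Category.assoc, hπι, hom_i f, hker]
    exact Scheme.Hom.le_ker_comp _ _
  have hi : IsClosedImmersion.lift ι (ι ≫ G₂.i) hiker ≫ ι = ι ≫ G₂.i :=
    IsClosedImmersion.lift_fac _ _ _
  -- composition
  have hcond : (pullback.fst (ι ≫ G₂.s) (ι ≫ G₂.t) ≫ ι) ≫ G₂.s =
      (pullback.snd (ι ≫ G₂.s) (ι ≫ G₂.t) ≫ ι) ≫ G₂.t := by
    simp only [Category.assoc]; exact pullback.condition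
  obtain ⟨g, hg⟩ : ∃ g : pullback (ι ≫ G₂.s) (ι ≫ G₂.t) ⟶ G₂.R,
      g = comp G₂ (pullback.fst (ι ≫ G₂.s) (ι ≫ G₂.t) ≫ ι)
        (pullback.snd (ι ≫ G₂.s) (ι ≫ G₂.t) ≫ ι) hcond := ⟨_, rfl⟩
  have hFs : Flat (π ≫ ι ≫ G₂.t) := inferInstance
  have hFt : Flat (ι ≫ G₂.s) := inferInstance
  obtain ⟨ρ₁, hρ₁f, hρ₁s⟩ : ∃ ρ₁ : pullback (π ≫ ι ≫ G₂.s) (π ≫ ι ≫ G₂.t) ⟶
      pullback (ι ≫ G₂.s) (π ≫ ι ≫ G₂.t),
      ρ₁ ≫ pullback.fst _ _ = pullback.fst _ _ ≫ π ∧ ρ₁ ≫ pullback.snd _ _ = pullback.snd _ _ :=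
    ⟨pullback.lift (pullback.fst _ _ ≫ π) (pullback.snd _ _)
      (by rw [Category.assoc]; exact pullback.condition),
      pullback.lift_fst _ _ _, pullback.lift_snd _ _ _⟩
  obtain ⟨ρ₂, hρ₂f, hρ₂s⟩ : ∃ ρ₂ : pullback (ι ≫ G₂.s) (π ≫ ι ≫ G₂.t) ⟶
      pullback (ι ≫ G₂.s) (ι ≫ G₂.t),
      ρ₂ ≫ pullback.fst _ _ = pullback.fst _ _ ∧ ρ₂ ≫ pullback.snd _ _ = pullback.snd _ _ ≫ π :=
    ⟨pullback.lift (pullback.fst _ _) (pullback.snd _ _ ≫ π)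
      (by rw [Category.assoc]; exact pullback.condition),
      pullback.lift_fst _ _ _, pullback.lift_snd _ _ _⟩
  have big₁ : IsPullback (ρ₁ ≫ pullback.snd (ι ≫ G₂.s) (π ≫ ι ≫ G₂.t))
      (pullback.fst (π ≫ ι ≫ G₂.s) (π ≫ ι ≫ G₂.t)) (π ≫ ι ≫ G₂.t) (π ≫ ι ≫ G₂.s) := by
    rw [hρ₁s]; exact (IsPullback.of_hasPullback _ _).flip
  have sq₁ : IsPullback ρ₁ (pullback.fst (π ≫ ι ≫ G₂.s) (π ≫ ι ≫ G₂.t))
      (pullback.fst (ι ≫ G₂.s) (π ≫ ι ≫ G₂.t)) π :=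
    IsPullback.of_right big₁ hρ₁f (IsPullback.of_hasPullback (ι ≫ G₂.s) (π ≫ ι ≫ G₂.t)).flip
  have big₂ : IsPullback (ρ₂ ≫ pullback.fst (ι ≫ G₂.s) (ι ≫ G₂.t))
      (pullback.snd (ι ≫ G₂.s) (π ≫ ι ≫ G₂.t)) (ι ≫ G₂.s) (π ≫ ι ≫ G₂.t) := by
    rw [hρ₂f]; exact IsPullback.of_hasPullback _ _
  have sq₂ : IsPullback ρ₂ (pullback.snd (ι ≫ G₂.s) (π ≫ ι ≫ G₂.t))
      (pullback.snd (ι ≫ G₂.s) (ι ≫ G₂.t)) π :=
    IsPullback.of_right big₂ hρ₂s (IsPullback.of_hasPullback (ι ≫ G₂.s) (ι ≫ G₂.t))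
  have hd₁ : IsSchemeTheoreticallyDominant ρ₁ :=
    IsSchemeTheoreticallyDominant.of_isPullback sq₁.flip
  have hd₂ : IsSchemeTheoreticallyDominant ρ₂ :=
    IsSchemeTheoreticallyDominant.of_isPullback sq₂.flip
  have hA : pullback.fst (π ≫ ι ≫ G₂.s) (π ≫ ι ≫ G₂.t) ≫ G₁.s =
      pullback.snd (π ≫ ι ≫ G₂.s) (π ≫ ι ≫ G₂.t) ≫ G₁.t := by
    have h1 : pullback.fst (π ≫ ι ≫ G₂.s) (π ≫ ι ≫ G₂.t) ≫ (π ≫ ι) ≫ G₂.s =
        pullback.snd (π ≫ ι ≫ G₂.s) (π ≫ ι ≫ G₂.t) ≫ (π ≫ ι) ≫ G₂.t := by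
      simp only [Category.assoc]; exact pullback.condition
    rw [hπι, f.comm_s, f.comm_t] at h1
    rw [← cancel_mono f.fU, Category.assoc, Category.assoc]
    exact h1
  have hρg : (ρ₁ ≫ ρ₂) ≫ g = comp G₁ (pullback.fst (π ≫ ι ≫ G₂.s) (π ≫ ι ≫ G₂.t))
      (pullback.snd (π ≫ ι ≫ G₂.s) (π ≫ ι ≫ G₂.t)) hA ≫ f.fR := by
    rw [hom_comp f _ _ hA, hg, precomp_comp]
    refine comp_congr G₂ _ ?_ ?_
    · rw [Category.assoc, reassoc_of% hρ₂f, reassoc_of% hρ₁f, hπι]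
    · rw [Category.assoc, reassoc_of% hρ₂s, reassoc_of% hρ₁s, hπι]
  have hcker : ι.ker ≤ g.ker := by
    rw [← hdom (ρ₁ ≫ ρ₂) g, hρg, hker]
    exact Scheme.Hom.le_ker_comp _ _
  have hc : IsClosedImmersion.lift ι g hcker ≫ ι = comp G₂
      (pullback.fst (ι ≫ G₂.s) (ι ≫ G₂.t) ≫ ι) (pullback.snd (ι ≫ G₂.s) (ι ≫ G₂.t) ≫ ι) hcond :=
    (IsClosedImmersion.lift_fac _ _ _).trans hg
  refine ⟨subGrpd G₂ ι _ he _ hi _ hc, subHom G₂ ι _ he _ hi _ hc,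
    { fU := f.fU
      fR := π
      fU_over := f.fU_over
      comm_s := ?_
      comm_t := ?_
      comm_c := ?_ }, ?_, ?_, ?_, ?_, ?_⟩
  · show π ≫ ι ≫ G₂.s = G₁.s ≫ f.fU
    rw [← Category.assoc, hπι, f.comm_s]
  · show π ≫ ι ≫ G₂.t = G₁.t ≫ f.fU
    rw [← Category.assoc, hπι, f.comm_t]
  · intro T α β h
    have hαβ : (α ≫ π) ≫ ι ≫ G₂.s = (β ≫ π) ≫ ι ≫ G₂.t := by
      rw [Category.assoc, Category.assoc, ← Category.assoc π, ← Category.assoc π, hπι, f.comm_s,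
        f.comm_t, ← Category.assoc, ← Category.assoc, h]
    have key : ((pullback.lift α β h ≫ G₁.c) ≫ π) ≫ ι =
        (pullback.lift (α ≫ π) (β ≫ π) hαβ ≫ IsClosedImmersion.lift ι g hcker) ≫ ι := by
      refine Eq.trans ?_ (sub_key G₂ ι _ hc _ _ _).symm
      rw [Category.assoc, hπι]
      refine (hom_comp f α β h).trans ?_
      refine comp_congr G₂ _ ?_ ?_
      · rw [Category.assoc, hπι]
      · rw [Category.assoc, hπι]
    exact (cancel_mono ι).mp key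
  · show IsIso (𝟙 G₂.U)
    infer_instance
  · show IsClosedImmersion ι
    exact hι
  · show ι.ker = f.fR.ker
    exact hker
  · exact hπι
  · exact Category.comp_id _

theorem hom_j : G₁.j ≫ pullback.map G₁.pU G₁.pU G₂.pU G₂.pU f.fU f.fU (𝟙 S)
      ((Category.comp_id _).trans f.fU_over.symm) ((Category.comp_id _).trans f.fU_over.symm) =
    f.fR ≫ G₂.j := by
  apply pullback.hom_ext
  · simp only [Category.assoc, pullback.lift_fst, pullback.map]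
    rw [j_fst_assoc, j_fst, f.comm_t]
  · simp only [Category.assoc, pullback.lift_snd, pullback.map]
    rw [j_snd_assoc, j_snd, f.comm_s]

end A

theorem pair_j (G : Grpd.GroupoidScheme S) : (pairGrpd G).j = 𝟙 (pullback G.pU G.pU) := by
  apply pullback.hom_ext
  · exact (j_fst (pairGrpd G)).trans (Category.id_comp (pullback.fst G.pU G.pU)).symm
  · exact (j_snd (pairGrpd G)).trans (Category.id_comp (pullback.snd G.pU G.pU)).symm

section B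
variable {G G' P : Grpd.GroupoidScheme S} (f : Grpd.GroupoidScheme.Hom G P)
  (ψ : Grpd.GroupoidScheme.Hom G' P) (φ : Grpd.GroupoidScheme.Hom G G')

theorem aux_S7509 [IsIso ψ.fU] [IsClosedImmersion ψ.fR] (hker : ψ.fR.ker = f.fR.ker)
    (hR : φ.fR ≫ ψ.fR = f.fR) (hU : φ.fU ≫ ψ.fU = f.fU) [IsIso f.fU] [IsIso P.j] :
    IsIso φ.fU ∧ IsClosedImmersion G'.j ∧
      G'.j.ker = (G.j ≫ pullback.map G.pU G.pU G'.pU G'.pU φ.fU φ.fU (𝟙 S)
        ((Category.comp_id _).trans φ.fU_over.symm)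
        ((Category.comp_id _).trans φ.fU_over.symm)).ker := by
  have hφU : IsIso φ.fU := by
    have : φ.fU = f.fU ≫ inv ψ.fU := by
      rw [← hU, Category.assoc, IsIso.hom_inv_id, Category.comp_id]
    rw [this]; infer_instance
  obtain ⟨mψ, hmψ⟩ : ∃ m : pullback G'.pU G'.pU ⟶ pullback P.pU P.pU,
      m = pullback.map G'.pU G'.pU P.pU P.pU ψ.fU ψ.fU (𝟙 S)
      ((Category.comp_id _).trans ψ.fU_over.symm) ((Category.comp_id _).trans ψ.fU_over.symm) :=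
    ⟨_, rfl⟩
  obtain ⟨mφ, hmφ⟩ : ∃ m : pullback G.pU G.pU ⟶ pullback G'.pU G'.pU,
      m = pullback.map G.pU G.pU G'.pU G'.pU φ.fU φ.fU (𝟙 S)
      ((Category.comp_id _).trans φ.fU_over.symm) ((Category.comp_id _).trans φ.fU_over.symm) :=
    ⟨_, rfl⟩
  obtain ⟨mf, hmf⟩ : ∃ m : pullback G.pU G.pU ⟶ pullback P.pU P.pU,
      m = pullback.map G.pU G.pU P.pU P.pU f.fU f.fU (𝟙 S)
      ((Category.comp_id _).trans f.fU_over.symm) ((Category.comp_id _).trans f.fU_over.symm) :=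
    ⟨_, rfl⟩
  haveI : IsIso mψ := by rw [hmψ]; infer_instance
  have h1 : G'.j ≫ mψ = ψ.fR ≫ P.j := by rw [hmψ]; exact hom_j ψ
  have h2 : G.j ≫ mf = f.fR ≫ P.j := by rw [hmf]; exact hom_j f
  have h3 : mφ ≫ mψ = mf := by
    rw [hmφ, hmψ, hmf]
    apply pullback.hom_ext
    · simp only [Category.assoc, pullback.lift_fst, pullback.map, pullback.lift_fst_assoc, hU]
    · simp only [Category.assoc, pullback.lift_snd, pullback.map, pullback.lift_snd_assoc, hU]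
  have h4 : G'.j = ψ.fR ≫ P.j ≫ inv mψ := by
    rw [← Category.assoc, ← h1, Category.assoc, IsIso.hom_inv_id, Category.comp_id]
  have h5 : G.j ≫ mφ = f.fR ≫ P.j ≫ inv mψ := by
    rw [← Category.assoc, ← h2, ← h3, Category.assoc, Category.assoc, IsIso.hom_inv_id,
      Category.comp_id]
  refine ⟨hφU, ?_, ?_⟩
  · rw [h4]
    infer_instance
  · rw [← hmφ, h4, h5, Scheme.Hom.ker_comp, Scheme.Hom.ker_comp, hker]

end B

theorem main_S7509 (G : Grpd.GroupoidScheme S) (k : Type u) [Field k]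
    (eU : G.U ≅ Spec (CommRingCat.of k)) [CompactSpace G.R] :
    ∃ (G' : Grpd.GroupoidScheme S) (φ : Grpd.GroupoidScheme.Hom G G'), IsIso φ.fU ∧
      IsClosedImmersion G'.j ∧ G'.j.ker = (G.j ≫ pullback.map G.pU G.pU G'.pU G'.pU φ.fU φ.fU (𝟙 S)
        ((Category.comp_id _).trans φ.fU_over.symm)
        ((Category.comp_id _).trans φ.fU_over.symm)).ker := by
  haveI : IsAffine G.U := IsAffine.of_isIso eU.hom
  haveI : QuasiCompact G.t := inferInstance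
  haveI : QuasiSeparated G.pU := inferInstance
  haveI : QuasiSeparated (pullback.fst G.pU G.pU) := inferInstance
  haveI : QuasiCompact (G.j ≫ pullback.fst G.pU G.pU) := by rw [j_fst]; infer_instance
  haveI : QuasiCompact G.j := QuasiCompact.of_comp G.j (pullback.fst G.pU G.pU)
  haveI : IsIso (jHom G).fU := by
    show IsIso (𝟙 G.U)
    infer_instance
  haveI : QuasiCompact (jHom G).fR := by
    show QuasiCompact G.j
    infer_instance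
  haveI : IsIso (pairGrpd G).j := by
    rw [pair_j]; exact IsIso.id _
  obtain ⟨G', ψ, φ, hψU, hψR, hker, hφψR, hφψU⟩ := main_S7492' (jHom G) k eU
  exact ⟨G', φ, aux_S7509 (jHom G) ψ φ hker hφψR hφψU⟩

end Groth.Agent.H4.GrpdLib16
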