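import Mathlib
import Groth.Prelude.Def_Grpd

set_option autoImplicit false
universe u
open CategoryTheory CategoryTheory.Limits AlgebraicGeometry Cardinal

namespace Groth.Agent.H4.GrpdLib17

theorem exists_ringEquiv_of_card {k K L : Type u} [Field k] [Field K] [Field L] [Algebra k K]
    [Algebra k L] [IsAlgClosed K] [IsAlgClosed L] (hcard : #K = #L) (hk : #k < #K) (hK : ℵ₀ < #K) :
    ∃ β : K ≃+* L, ∀ x : k, β (algebraMap k K x) = algebraMap k L x := by
  have key : ∀ (M : Type u) [Field M] [Algebra k M] [IsAlgClosed M] (s : Set M),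
      IsTranscendenceBasis k ((↑) : s → M) → #k < #M → ℵ₀ < #M → #s = #M := by
    intro M _ _ _ s hs h1 h2
    refine le_antisymm (mk_set_le s) ?_
    have h3 : #M ≤ max (max #k #s) ℵ₀ := IsAlgClosed.cardinal_le_max_transcendence_basis' _ hs
    by_contra hlt
    rw [not_le] at hlt
    exact absurd (h3.trans_lt (max_lt (max_lt h1 hlt) h2)) (lt_irrefl _)
  obtain ⟨s, hs⟩ := exists_isTranscendenceBasis k K
  obtain ⟨t, ht⟩ := exists_isTranscendenceBasis k L
  have h1 : #s = #K := key K s hs hk hK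
  have h2 : #t = #L := key L t ht (hcard ▸ hk) (hcard ▸ hK)
  obtain ⟨e⟩ : Nonempty (s ≃ t) := Cardinal.eq.mp (h1.trans (hcard.trans h2.symm))
  letI := IsAlgClosed.isAlgClosure_of_transcendence_basis _ hs
  letI := IsAlgClosed.isAlgClosure_of_transcendence_basis _ ht
  let e' : Algebra.adjoin k (Set.range ((↑) : s → K)) ≃ₐ[k]
      Algebra.adjoin k (Set.range ((↑) : t → L)) :=
    hs.1.aevalEquiv.symm.trans ((MvPolynomial.renameEquiv k e).trans ht.1.aevalEquiv)
  refine ⟨IsAlgClosure.equivOfEquiv K L e'.toRingEquiv, fun x => ?_⟩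
  have h3 : algebraMap k K x = algebraMap (Algebra.adjoin k (Set.range ((↑) : s → K))) K
      (algebraMap k _ x) := rfl
  rw [h3, IsAlgClosure.equivOfEquiv_algebraMap]
  have h4 : e'.toRingEquiv (algebraMap k _ x) = algebraMap k _ x := e'.commutes x
  rw [h4]
  rfl

abbrev BigT (K : Type u) : Type u := Set (K × ℕ)

abbrev BigL (K : Type u) [Field K] : Type u :=
  AlgebraicClosure (FractionRing (MvPolynomial (BigT K) K))

theorem exists_big_algClosed (K : Type u) [Field K] :
    ∃ (L : Type u) (_ : Field L) (_ : IsAlgClosed L) (_ : K →+* L), #K < #L ∧ ℵ₀ < #L := by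
  have hinj : Function.Injective (fun i : BigT K =>
      algebraMap (FractionRing (MvPolynomial (BigT K) K)) (BigL K)
        (algebraMap (MvPolynomial (BigT K) K) (FractionRing (MvPolynomial (BigT K) K))
          (MvPolynomial.X i))) := by
    intro i j h
    exact MvPolynomial.X_injective (IsFractionRing.injective (MvPolynomial (BigT K) K)
      (FractionRing (MvPolynomial (BigT K) K))
      ((algebraMap (FractionRing (MvPolynomial (BigT K) K)) (BigL K)).injective h))
  have hTL : #(BigT K) ≤ #(BigL K) := mk_le_of_injective hinj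
  have hKN : #(K × ℕ) < #(BigT K) := by
    show #(K × ℕ) < #(Set (K × ℕ))
    rw [mk_set]; exact cantor _
  have hK : #K ≤ #(K × ℕ) :=
    mk_le_of_injective (f := fun x : K => ((x, 0) : K × ℕ)) (fun a b h => (Prod.ext_iff.mp h).1)
  have hN : ℵ₀ ≤ #(K × ℕ) := Cardinal.aleph0_le_mk _
  exact ⟨BigL K, inferInstance, inferInstance,
    (algebraMap (FractionRing (MvPolynomial (BigT K) K)) (BigL K)).comp
      ((algebraMap (MvPolynomial (BigT K) K) (FractionRing (MvPolynomial (BigT K) K))).comp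
        MvPolynomial.C),
    (hK.trans_lt hKN).trans_le hTL, (hN.trans_lt hKN).trans_le hTL⟩

theorem exists_field_data {k K : Type u} [Field k] [Field K] (τ σ : k →+* K) :
    ∃ (L : Type u) (_ : Field L) (_ : IsAlgClosed L) (γ : K →+* L) (β : L ≃+* L),
      ∀ x, β (γ (τ x)) = γ (σ x) := by
  obtain ⟨L, hF, hAC, γ, h1, h2⟩ := exists_big_algClosed K
  have hk : #k < #L := lt_of_le_of_lt (mk_le_of_injective τ.injective) h1
  obtain ⟨β, hβ⟩ := @exists_ringEquiv_of_card k L L _ hF hF (γ.comp τ).toAlgebra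
    (γ.comp σ).toAlgebra hAC hAC rfl hk h2
  exact ⟨L, hF, hAC, γ, β, hβ⟩

theorem isIso_residueFieldMap_of_isIso_comp {X Y Y' : Scheme.{u}} (z : Y ⟶ X) (f : X ⟶ Y')
    [IsIso (z ≫ f)] (pt : Y) : IsIso (f.residueFieldMap (z pt)) := by
  have hc : (z ≫ f).residueFieldMap pt = f.residueFieldMap (z pt) ≫ z.residueFieldMap pt :=
    Scheme.residueFieldMap_comp z f pt
  haveI hiso : IsIso ((z ≫ f).residueFieldMap pt) := inferInstance
  have hbij : Function.Bijective ((z ≫ f).residueFieldMap pt).hom :=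
    ConcreteCategory.bijective_of_isIso _
  have hb : Function.Bijective (z.residueFieldMap pt).hom := by
    refine ⟨(z.residueFieldMap pt).hom.injective, fun y => ?_⟩
    obtain ⟨x, hx⟩ := hbij.2 y
    refine ⟨(f.residueFieldMap (z pt)).hom x, ?_⟩
    rw [hc] at hx
    exact hx
  haveI : IsIso (z.residueFieldMap pt) := (ConcreteCategory.isIso_iff_bijective _).mpr hb
  haveI h3 : IsIso (f.residueFieldMap (z pt) ≫ z.residueFieldMap pt) := by
    have h4 := hiso
    rwa [hc] at h4
  exact IsIso.of_isIso_comp_right (f.residueFieldMap (z pt)) (z.residueFieldMap pt)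

theorem core {U R Q : Scheme.{u}} (s t : R ⟶ U) (q : Q ⟶ U) (ρ : Q ⟶ R) (β : Q ⟶ Q) [IsIso β]
    (h1 : q = ρ ≫ t) (h2 : ρ ≫ s = β ≫ q) (pt : Q) :
    ∃ r' : ↑(pullback (pullback.snd q t ≫ s) q),
      (pullback.fst (pullback.snd q t ≫ s) q ≫ pullback.snd q t) r' = ρ pt ∧
      IsIso ((pullback.snd (pullback.snd q t ≫ s) q).residueFieldMap r') ∧
      IsIso ((pullback.fst (pullback.snd q t ≫ s) q ≫ pullback.fst q t).residueFieldMap r') := by
  obtain ⟨z₁, hz₁a, hz₁b⟩ : ∃ z₁ : Q ⟶ pullback q t,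
      z₁ ≫ pullback.fst q t = 𝟙 Q ∧ z₁ ≫ pullback.snd q t = ρ :=
    ⟨pullback.lift (𝟙 Q) ρ (by rw [Category.id_comp, h1]), pullback.lift_fst _ _ _,
      pullback.lift_snd _ _ _⟩
  obtain ⟨z, hza, hzb⟩ : ∃ z : Q ⟶ pullback (pullback.snd q t ≫ s) q,
      z ≫ pullback.fst (pullback.snd q t ≫ s) q = z₁ ∧
      z ≫ pullback.snd (pullback.snd q t ≫ s) q = β :=
    ⟨pullback.lift z₁ β (by rw [← Category.assoc, hz₁b, h2]), pullback.lift_fst _ _ _,
      pullback.lift_snd _ _ _⟩
  refine ⟨z pt, ?_, ?_, ?_⟩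
  · rw [← Scheme.Hom.comp_apply, ← Category.assoc, hza, hz₁b]
  · haveI : IsIso (z ≫ pullback.snd (pullback.snd q t ≫ s) q) := by rw [hzb]; infer_instance
    exact isIso_residueFieldMap_of_isIso_comp z _ pt
  · haveI : IsIso (z ≫ pullback.fst (pullback.snd q t ≫ s) q ≫ pullback.fst q t) := by
      rw [← Category.assoc, hza, hz₁a]; infer_instance
    exact isIso_residueFieldMap_of_isIso_comp z _ pt

variable {S : Scheme.{u}} (G : Grpd.GroupoidScheme S) (k : Type u) [Field k]
  (eU : G.U ≅ Spec (CommRingCat.of k)) (r : G.R)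

theorem main_S7493 : ∃ (k' : Type u) (_ : Field k') (_ : IsAlgClosed k') (_ : Algebra k k'),
    ∃ r' : ↑(pullback (pullback.snd (Spec.map (CommRingCat.ofHom (algebraMap k k')) ≫ eU.inv) G.t ≫ G.s)
      (Spec.map (CommRingCat.ofHom (algebraMap k k')) ≫ eU.inv)),
    (pullback.fst (pullback.snd (Spec.map (CommRingCat.ofHom (algebraMap k k')) ≫ eU.inv) G.t ≫ G.s)
      (Spec.map (CommRingCat.ofHom (algebraMap k k')) ≫ eU.inv) ≫
        pullback.snd (Spec.map (CommRingCat.ofHom (algebraMap k k')) ≫ eU.inv) G.t) r' = r ∧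
    IsIso ((pullback.snd (pullback.snd (Spec.map (CommRingCat.ofHom (algebraMap k k')) ≫ eU.inv) G.t ≫
      G.s) (Spec.map (CommRingCat.ofHom (algebraMap k k')) ≫ eU.inv)).residueFieldMap r') ∧
    IsIso ((pullback.fst (pullback.snd (Spec.map (CommRingCat.ofHom (algebraMap k k')) ≫ eU.inv) G.t ≫
      G.s) (Spec.map (CommRingCat.ofHom (algebraMap k k')) ≫ eU.inv) ≫
        pullback.fst (Spec.map (CommRingCat.ofHom (algebraMap k k')) ≫ eU.inv) G.t).residueFieldMap
          r') := by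
  obtain ⟨τt, hτt⟩ : ∃ τt : CommRingCat.of k ⟶ G.R.residueField r,
      Spec.map τt = G.R.fromSpecResidueField r ≫ G.t ≫ eU.hom :=
    ⟨Spec.preimage _, Spec.map_preimage _⟩
  obtain ⟨τs, hτs⟩ : ∃ τs : CommRingCat.of k ⟶ G.R.residueField r,
      Spec.map τs = G.R.fromSpecResidueField r ≫ G.s ≫ eU.hom :=
    ⟨Spec.preimage _, Spec.map_preimage _⟩
  obtain ⟨L, hF, hAC, γ, β, hβ⟩ := exists_field_data (k := k) (K := G.R.residueField r)
    τt.hom τs.hom
  letI alg : Algebra k L := (γ.comp τt.hom).toAlgebra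
  refine ⟨L, hF, hAC, alg, ?_⟩
  have ht' : G.R.fromSpecResidueField r ≫ G.t = Spec.map τt ≫ eU.inv := by
    rw [hτt, Category.assoc, Category.assoc, eU.hom_inv_id, Category.comp_id]
  have hs' : G.R.fromSpecResidueField r ≫ G.s = Spec.map τs ≫ eU.inv := by
    rw [hτs, Category.assoc, Category.assoc, eU.hom_inv_id, Category.comp_id]
  have hq : CommRingCat.ofHom (algebraMap k L) = τt ≫ CommRingCat.ofHom γ :=
    CommRingCat.hom_ext (RingHom.ext fun x => rfl)
  have hq2 : τs ≫ CommRingCat.ofHom γ =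
      CommRingCat.ofHom (algebraMap k L) ≫ β.toCommRingCatIso.hom :=
    CommRingCat.hom_ext (RingHom.ext fun x => (hβ x).symm)
  haveI : IsIso (Spec.map β.toCommRingCatIso.hom) := inferInstance
  obtain ⟨pt⟩ : Nonempty (PrimeSpectrum L) := inferInstance
  have e1 : Spec.map (CommRingCat.ofHom (algebraMap k L)) ≫ eU.inv =
      (Spec.map (CommRingCat.ofHom γ) ≫ G.R.fromSpecResidueField r) ≫ G.t := by
    have h3 : Spec.map (CommRingCat.ofHom (algebraMap k L)) =
        Spec.map (CommRingCat.ofHom γ) ≫ Spec.map τt := by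
      rw [← Spec.map_comp]; exact congrArg Spec.map hq
    rw [Category.assoc, ht', h3, Category.assoc]
  have e2 : (Spec.map (CommRingCat.ofHom γ) ≫ G.R.fromSpecResidueField r) ≫ G.s =
      Spec.map β.toCommRingCatIso.hom ≫ Spec.map (CommRingCat.ofHom (algebraMap k L)) ≫ eU.inv := by
    have h3 : Spec.map (CommRingCat.ofHom γ) ≫ Spec.map τs =
        Spec.map β.toCommRingCatIso.hom ≫ Spec.map (CommRingCat.ofHom (algebraMap k L)) := by
      rw [← Spec.map_comp, ← Spec.map_comp]; exact congrArg Spec.map hq2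
    rw [Category.assoc, hs', ← Category.assoc, h3, Category.assoc]
  obtain ⟨r', h1, h2, h3⟩ := core G.s G.t
    (Spec.map (CommRingCat.ofHom (algebraMap k L)) ≫ eU.inv)
    (Spec.map (CommRingCat.ofHom γ) ≫ G.R.fromSpecResidueField r)
    (Spec.map β.toCommRingCatIso.hom) e1 e2 (pt : Spec (CommRingCat.of L))
  refine ⟨r', ?_, h2, h3⟩
  rw [h1, Scheme.Hom.comp_apply, Scheme.fromSpecResidueField_apply]

end Groth.Agent.H4.GrpdLib17
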