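import Groth.Agent.H4.GrpdLib3

set_option autoImplicit false

namespace Groth.Agent.H4.GrpdLib

open CategoryTheory CategoryTheory.Limits AlgebraicGeometry Grpd MorphismProperty

universe u

variable {S : Scheme.{u}} (G : Grpd.GroupoidScheme S)

section conj

variable {T : Scheme.{u}}

/-- `r ρ r⁻¹` -/
noncomputable def conj1 (r ρ : T ⟶ G.R) (h1 : r ≫ G.s = ρ ≫ G.t) (h2 : ρ ≫ G.s = r ≫ G.s) : T ⟶ G.R :=
  comp G (comp G r ρ h1) (r ≫ G.i) (by rw [comp_s, Category.assoc, G.i_t, h2])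

/-- `r⁻¹ δ r` -/
noncomputable def conj2 (r δ : T ⟶ G.R) (h1 : r ≫ G.t = δ ≫ G.t) (h2 : δ ≫ G.s = r ≫ G.t) : T ⟶ G.R :=
  comp G (comp G (r ≫ G.i) δ (by rw [Category.assoc, G.i_s, h1])) r (by rw [comp_s, h2])

theorem conj1_s (r ρ : T ⟶ G.R) (h1 : r ≫ G.s = ρ ≫ G.t) (h2 : ρ ≫ G.s = r ≫ G.s) :
    conj1 G r ρ h1 h2 ≫ G.s = r ≫ G.t := by
  unfold conj1; rw [comp_s, Category.assoc, G.i_s]

theorem conj1_t (r ρ : T ⟶ G.R) (h1 : r ≫ G.s = ρ ≫ G.t) (h2 : ρ ≫ G.s = r ≫ G.s) :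
    conj1 G r ρ h1 h2 ≫ G.t = r ≫ G.t := by
  unfold conj1; rw [comp_t, comp_t]

theorem conj2_s (r δ : T ⟶ G.R) (h1 : r ≫ G.t = δ ≫ G.t) (h2 : δ ≫ G.s = r ≫ G.t) :
    conj2 G r δ h1 h2 ≫ G.s = r ≫ G.s := by
  unfold conj2; rw [comp_s]

theorem conj2_t (r δ : T ⟶ G.R) (h1 : r ≫ G.t = δ ≫ G.t) (h2 : δ ≫ G.s = r ≫ G.t) :
    conj2 G r δ h1 h2 ≫ G.t = r ≫ G.s := by
  unfold conj2; rw [comp_t, comp_t, Category.assoc, G.i_t]

theorem conj1_congr {r r' ρ ρ' : T ⟶ G.R} (h1 : r ≫ G.s = ρ ≫ G.t) (h2 : ρ ≫ G.s = r ≫ G.s)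
    (hr : r = r') (hρ : ρ = ρ') :
    conj1 G r ρ h1 h2 = conj1 G r' ρ' (by rw [← hr, ← hρ]; exact h1) (by rw [← hr, ← hρ]; exact h2) := by
  subst hr hρ; rfl

theorem conj2_congr {r r' δ δ' : T ⟶ G.R} (h1 : r ≫ G.t = δ ≫ G.t) (h2 : δ ≫ G.s = r ≫ G.t)
    (hr : r = r') (hδ : δ = δ') :
    conj2 G r δ h1 h2 = conj2 G r' δ' (by rw [← hr, ← hδ]; exact h1) (by rw [← hr, ← hδ]; exact h2) := by
  subst hr hδ; rfl

theorem precomp_conj1 {T' : Scheme.{u}} (f : T' ⟶ T) (r ρ : T ⟶ G.R) (h1 : r ≫ G.s = ρ ≫ G.t)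
    (h2 : ρ ≫ G.s = r ≫ G.s) :
    f ≫ conj1 G r ρ h1 h2 = conj1 G (f ≫ r) (f ≫ ρ) (by rw [Category.assoc, Category.assoc, h1])
      (by rw [Category.assoc, Category.assoc, h2]) := by
  unfold conj1
  rw [precomp_comp]
  exact comp_congr G _ (precomp_comp G f r ρ h1) (Category.assoc _ _ _).symm

theorem precomp_conj2 {T' : Scheme.{u}} (f : T' ⟶ T) (r δ : T ⟶ G.R) (h1 : r ≫ G.t = δ ≫ G.t)
    (h2 : δ ≫ G.s = r ≫ G.t) :
    f ≫ conj2 G r δ h1 h2 = conj2 G (f ≫ r) (f ≫ δ) (by rw [Category.assoc, Category.assoc, h1])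
      (by rw [Category.assoc, Category.assoc, h2]) := by
  unfold conj2
  rw [precomp_comp]
  refine comp_congr G _ ?_ rfl
  rw [precomp_comp]
  exact comp_congr G _ (Category.assoc _ _ _).symm rfl

/-- `r⁻¹ (r ρ r⁻¹) r = ρ` -/
theorem conj2_conj1 (r ρ : T ⟶ G.R) (h1 : r ≫ G.s = ρ ≫ G.t) (h2 : ρ ≫ G.s = r ≫ G.s) :
    conj2 G r (conj1 G r ρ h1 h2) (conj1_t G r ρ h1 h2).symm (conj1_s G r ρ h1 h2) = ρ := by
  unfold conj2 conj1
  have e1 : comp G (r ≫ G.i) (comp G (comp G r ρ h1) (r ≫ G.i)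
      (by rw [comp_s, Category.assoc, G.i_t, h2])) (by rw [Category.assoc, G.i_s, comp_t, comp_t]) =
      comp G ρ (r ≫ G.i) (by rw [Category.assoc, G.i_t, h2]) := by
    rw [← comp_assoc G (r ≫ G.i) (comp G r ρ h1) (r ≫ G.i) (by rw [Category.assoc, G.i_s, comp_t])
      (by rw [comp_s, Category.assoc, G.i_t, h2])]
    exact comp_congr G _ (i_comp_comp G r ρ h1) rfl
  rw [comp_congr G _ e1 rfl]
  exact comp_i_comp' G ρ r h2

/-- `r (r⁻¹ δ r) r⁻¹ = δ` -/
theorem conj1_conj2 (r δ : T ⟶ G.R) (h1 : r ≫ G.t = δ ≫ G.t) (h2 : δ ≫ G.s = r ≫ G.t) :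
    conj1 G r (conj2 G r δ h1 h2) (conj2_t G r δ h1 h2).symm (conj2_s G r δ h1 h2) = δ := by
  unfold conj1 conj2
  have e1 : comp G r (comp G (comp G (r ≫ G.i) δ (by rw [Category.assoc, G.i_s, h1])) r
      (by rw [comp_s, h2])) (by rw [comp_t, comp_t, Category.assoc, G.i_t]) =
      comp G δ r h2 := by
    rw [← comp_assoc G r (comp G (r ≫ G.i) δ (by rw [Category.assoc, G.i_s, h1])) r
      (by rw [comp_t, Category.assoc, G.i_t]) (by rw [comp_s, h2])]
    exact comp_congr G _ (comp_i_comp G r δ h1) rfl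
  rw [comp_congr G _ e1 rfl]
  exact comp_comp_i G δ r h2

end conj

section stab

/-- conjugation `(γ, r) ↦ r γ r⁻¹` on `Stab ×_{U,s} R` -/
noncomputable def stabConj1 : pullback G.stabilizerToU G.s ⟶ G.stabilizer :=
  stabLift G (conj1 G (pullback.snd G.stabilizerToU G.s) (pullback.fst G.stabilizerToU G.s ≫ stabFst G)
    (by rw [Category.assoc, stabFst_t, pullback.condition])
    (by rw [Category.assoc, stabFst_s, pullback.condition]))
    (by rw [conj1_t, conj1_s])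

theorem stabConj1_fst : stabConj1 G ≫ stabFst G =
    conj1 G (pullback.snd G.stabilizerToU G.s) (pullback.fst G.stabilizerToU G.s ≫ stabFst G)
    (by rw [Category.assoc, stabFst_t, pullback.condition])
    (by rw [Category.assoc, stabFst_s, pullback.condition]) := by
  unfold stabConj1; rw [stabLift_fst]

theorem stabConj1_toU : stabConj1 G ≫ G.stabilizerToU = pullback.snd G.stabilizerToU G.s ≫ G.t := by
  unfold stabConj1; rw [stabLift_toU, conj1_t]

/-- conjugation `(δ, r) ↦ r⁻¹ δ r` on `Stab ×_{U,t} R` -/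
noncomputable def stabConj2 : pullback G.stabilizerToU G.t ⟶ G.stabilizer :=
  stabLift G (conj2 G (pullback.snd G.stabilizerToU G.t) (pullback.fst G.stabilizerToU G.t ≫ stabFst G)
    (by rw [Category.assoc, stabFst_t, pullback.condition])
    (by rw [Category.assoc, stabFst_s, pullback.condition]))
    (by rw [conj2_t, conj2_s])

theorem stabConj2_fst : stabConj2 G ≫ stabFst G =
    conj2 G (pullback.snd G.stabilizerToU G.t) (pullback.fst G.stabilizerToU G.t ≫ stabFst G)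
    (by rw [Category.assoc, stabFst_t, pullback.condition])
    (by rw [Category.assoc, stabFst_s, pullback.condition]) := by
  unfold stabConj2; rw [stabLift_fst]

theorem stabConj2_toU : stabConj2 G ≫ G.stabilizerToU = pullback.snd G.stabilizerToU G.t ≫ G.s := by
  unfold stabConj2; rw [stabLift_toU, conj2_t]

theorem isPullback_stabConj1 :
    IsPullback (stabConj1 G) (pullback.snd G.stabilizerToU G.s) G.stabilizerToU G.t := by
  refine IsPullback.of_iso_pullback ⟨stabConj1_toU G⟩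
    ⟨pullback.lift (stabConj1 G) (pullback.snd G.stabilizerToU G.s) (stabConj1_toU G),
     pullback.lift (stabConj2 G) (pullback.snd G.stabilizerToU G.t) (stabConj2_toU G), ?_, ?_⟩ ?_ ?_
  · apply pullback.hom_ext
    · rw [Category.assoc, pullback.lift_fst, Category.id_comp]
      apply stab_hom_ext
      rw [Category.assoc, stabConj2_fst, precomp_conj2]
      rw [conj2_congr G _ _ (pullback.lift_snd _ _ _)
        (by rw [← Category.assoc, pullback.lift_fst, stabConj1_fst])]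
      exact conj2_conj1 G _ _ _ _
    · rw [Category.assoc, pullback.lift_snd, pullback.lift_snd, Category.id_comp]
  · apply pullback.hom_ext
    · rw [Category.assoc, pullback.lift_fst, Category.id_comp]
      apply stab_hom_ext
      rw [Category.assoc, stabConj1_fst, precomp_conj1]
      rw [conj1_congr G _ _ (pullback.lift_snd _ _ _)
        (by rw [← Category.assoc, pullback.lift_fst, stabConj2_fst])]
      exact conj1_conj2 G _ _ _ _
    · rw [Category.assoc, pullback.lift_snd, pullback.lift_snd, Category.id_comp]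
  · exact pullback.lift_fst _ _ _
  · exact pullback.lift_snd _ _ _

end stab

end Groth.Agent.H4.GrpdLib
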