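import Mathlib
import Groth.Prelude.Def_Grpd
import Groth.Agent.H4.GrpdLib
import Groth.Agent.H4.GrpdLib2

set_option autoImplicit false
universe u
open CategoryTheory CategoryTheory.Limits AlgebraicGeometry
open Grpd

namespace Groth.Agent.H4.GrpdLib6
open Groth.Agent.H4.GrpdLib

variable {S : Scheme.{u}} (G : Grpd.GroupoidScheme S)

/-- `(α, β) ↦ α⁻¹ ∘ β` on pairs with equal source and target -/
noncomputable def psiR : pullback G.j G.j ⟶ G.R :=
  comp G (pullback.fst G.j G.j ≫ G.i) (pullback.snd G.j G.j)
    (by rw [Category.assoc, G.i_s, jj_t])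

theorem psiR_t : psiR G ≫ G.t = pullback.fst G.j G.j ≫ G.s := by
  rw [psiR, comp_t, Category.assoc, G.i_t]

theorem psiR_s : psiR G ≫ G.s = pullback.fst G.j G.j ≫ G.s := by
  rw [psiR, comp_s, jj_s]

/-- `(α, β) ↦ α⁻¹ ∘ β` as a map to the stabilizer -/
noncomputable def psi : pullback G.j G.j ⟶ G.stabilizer :=
  stabLift G (psiR G) (by rw [psiR_t, psiR_s])

theorem eStab_stabFst : G.eStab ≫ stabFst G = G.e := pullback.lift_fst _ _ _

theorem eStab_toU : G.eStab ≫ G.stabilizerToU = 𝟙 _ := pullback.lift_snd _ _ _

theorem diagonal_psi : pullback.diagonal G.j ≫ psi G = G.s ≫ G.eStab := by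
  apply stab_hom_ext
  rw [Category.assoc, psi, stabLift_fst, Category.assoc, eStab_stabFst, psiR, precomp_comp]
  have h1 : pullback.diagonal G.j ≫ pullback.fst G.j G.j ≫ G.i = 𝟙 G.R ≫ G.i := by
    rw [pullback.diagonal_fst_assoc, Category.id_comp]
  have h2 : pullback.diagonal G.j ≫ pullback.snd G.j G.j = 𝟙 G.R := pullback.diagonal_snd _
  rw [comp_congr G _ h1 h2, i_comp, Category.id_comp]

/-- the diagonal of `j` is a base change of the identity section of the stabilizer -/
theorem isPullback_diagonal : IsPullback (pullback.diagonal G.j) G.s (psi G) G.eStab := by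
  refine ⟨⟨diagonal_psi G⟩, ⟨PullbackCone.IsLimit.mk _
    (fun c => c.fst ≫ pullback.fst G.j G.j) ?_ ?_ ?_⟩⟩
  · intro c
    have hc := c.condition
    have h3 : c.fst ≫ psiR G = c.snd ≫ G.e := by
      have := congrArg (fun k => k ≫ stabFst G) hc
      simpa only [Category.assoc, psi, stabLift_fst, eStab_stabFst] using this
    have h4 : c.snd = (c.fst ≫ pullback.fst G.j G.j) ≫ G.s := by
      have := congrArg (fun k => k ≫ G.stabilizerToU) hc
      simp only [Category.assoc, psi, stabLift_toU, eStab_toU, Category.comp_id, psiR_t] at this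
      exact this.symm
    have hαβ : c.fst ≫ pullback.fst G.j G.j = c.fst ≫ pullback.snd G.j G.j := by
      have ht : (c.fst ≫ pullback.fst G.j G.j) ≫ G.t = (c.fst ≫ pullback.snd G.j G.j) ≫ G.t := by
        rw [Category.assoc, Category.assoc, jj_t]
      have h5 := comp_i_comp G (c.fst ≫ pullback.fst G.j G.j) (c.fst ≫ pullback.snd G.j G.j) ht
      have h6 : comp G ((c.fst ≫ pullback.fst G.j G.j) ≫ G.i) (c.fst ≫ pullback.snd G.j G.j)
          (by rw [Category.assoc, Category.assoc, G.i_s, jj_t, Category.assoc]) =
          (c.fst ≫ pullback.fst G.j G.j) ≫ G.s ≫ G.e := by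
        rw [← Category.assoc _ G.s, ← h4, ← h3, psiR, precomp_comp]
        exact comp_congr G _ (Category.assoc _ _ _) rfl
      rw [comp_congr G _ rfl h6] at h5
      rw [← h5]
      exact (comp_e G _ _ rfl).symm
    apply pullback.hom_ext
    · rw [Category.assoc, pullback.diagonal_fst, Category.comp_id]
    · rw [Category.assoc, pullback.diagonal_snd, Category.comp_id, hαβ]
  · intro c
    have hc := c.condition
    have := congrArg (fun k => k ≫ G.stabilizerToU) hc
    simp only [Category.assoc, psi, stabLift_toU, eStab_toU, Category.comp_id, psiR_t] at this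
    rw [Category.assoc]
    exact this
  · intro c m h1 _
    rw [← h1, Category.assoc, pullback.diagonal_fst, Category.comp_id]

theorem main_S1886 :
    ((IsSeparated G.j ↔ IsSeparated G.stabilizerToU) ∧
      (IsSeparated G.stabilizerToU ↔ IsClosedImmersion G.eStab)) ∧
    ((QuasiSeparated G.j ↔ QuasiSeparated G.stabilizerToU) ∧
      (QuasiSeparated G.stabilizerToU ↔ QuasiCompact G.eStab)) := by
  have hpb := isPullback_diagonal G
  have A : IsSeparated G.j → IsSeparated G.stabilizerToU := fun h =>
    MorphismProperty.pullback_snd (P := @IsSeparated) G.j G.diag h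
  have B : IsSeparated G.stabilizerToU → IsClosedImmersion G.eStab := fun h => by
    haveI : IsClosedImmersion (G.eStab ≫ G.stabilizerToU) := by
      rw [eStab_toU]; infer_instance
    exact IsClosedImmersion.of_comp G.eStab G.stabilizerToU
  have C : IsClosedImmersion G.eStab → IsSeparated G.j := fun h =>
    ⟨MorphismProperty.of_isPullback (P := @IsClosedImmersion) hpb.flip h⟩
  have qA : QuasiSeparated G.j → QuasiSeparated G.stabilizerToU := fun h =>
    MorphismProperty.pullback_snd (P := @QuasiSeparated) G.j G.diag h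
  have qB : QuasiSeparated G.stabilizerToU → QuasiCompact G.eStab := fun h => by
    haveI : QuasiCompact (G.eStab ≫ G.stabilizerToU) := by
      rw [eStab_toU]; infer_instance
    exact QuasiCompact.of_comp G.eStab G.stabilizerToU
  have qC : QuasiCompact G.eStab → QuasiSeparated G.j := fun h =>
    ⟨MorphismProperty.of_isPullback (P := @QuasiCompact) hpb.flip h⟩
  exact ⟨⟨⟨A, fun h => C (B h)⟩, ⟨B, fun h => A (C h)⟩⟩,
    ⟨⟨qA, fun h => qC (qB h)⟩, ⟨qB, fun h => qA (qC h)⟩⟩⟩

/-- a section of a morphism to the spectrum of a field is a closed immersion -/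
theorem isClosedImmersion_section_of_field {U X : Scheme.{u}} (k : Type u) [Field k]
    (eU : U ≅ Spec (CommRingCat.of k)) (p : X ⟶ U) (e : U ⟶ X) (h : e ≫ p = 𝟙 U) :
    IsClosedImmersion e := by
  haveI : IsAffine U := .of_isIso eU.hom
  haveI : Subsingleton U := by
    refine ⟨fun x y => ?_⟩
    have : eU.hom x = eU.hom y := Subsingleton.elim (α := PrimeSpectrum k) _ _
    have h2 := congrArg (fun z => eU.inv z) this
    simpa [← Scheme.Hom.comp_apply] using h2
  rw [IsZariskiLocalAtTarget.iff_of_openCover (P := @IsClosedImmersion) X.affineCover]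
  intro i
  by_cases hW : IsEmpty ↥(pullback e (X.affineCover.f i) : Scheme.{u})
  · exact inferInstanceAs (IsClosedImmersion (pullback.snd e (X.affineCover.f i)))
  · rw [not_isEmpty_iff] at hW
    obtain ⟨w⟩ := hW
    have hsurj : Function.Surjective (pullback.fst e (X.affineCover.f i)) := fun x =>
      ⟨w, Subsingleton.elim _ _⟩
    haveI : IsIso (pullback.fst e (X.affineCover.f i)) :=
      (isIso_iff_isOpenImmersion_and_surjective _).mpr ⟨inferInstance, ⟨hsurj⟩⟩
    haveI : IsClosedImmersion (pullback.snd e (X.affineCover.f i) ≫ X.affineCover.f i ≫ p) := by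
      rw [← pullback.condition_assoc, h, Category.comp_id]
      infer_instance
    exact IsClosedImmersion.of_comp (pullback.snd e (X.affineCover.f i)) (X.affineCover.f i ≫ p)

theorem main_S7453 (k : Type u) [Field k] (eU : G.U ≅ Spec (CommRingCat.of k)) :
    G.R.IsSeparated := by
  haveI : IsAffine G.U := .of_isIso eU.hom
  haveI : IsSeparated G.pU := by
    haveI : IsSeparated (G.pU ≫ terminal.from S) := by
      rw [terminal.comp_from]; infer_instance
    exact IsSeparated.of_comp G.pU (terminal.from S)
  haveI : IsClosedImmersion G.eStab :=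
    isClosedImmersion_section_of_field k eU G.stabilizerToU G.eStab (eStab_toU G)
  haveI : IsSeparated G.j := (main_S1886 G).1.1.mpr ((main_S1886 G).1.2.mpr inferInstance)
  refine ⟨?_⟩
  have : terminal.from G.R = G.j ≫ pullback.fst G.pU G.pU ≫ terminal.from G.U :=
    terminal.hom_ext _ _
  rw [this]
  infer_instance

end Groth.Agent.H4.GrpdLib6
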