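import Mathlib
import Groth.Prelude.Def_Grpd
import Groth.Agent.H4.GrpdLib
import Groth.Agent.H4.GrpdLib2

set_option autoImplicit false
universe u
open CategoryTheory CategoryTheory.Limits AlgebraicGeometry
open Grpd

namespace Groth.Agent.H4.GrpdLib8
open Groth.Agent.H4.GrpdLib

theorem isIso_fromSpecResidueField {U : Scheme.{u}} (k : Type u) [Field k]
    (eU : U ≅ Spec (CommRingCat.of k)) (x : U) : IsIso (U.fromSpecResidueField x) := by
  haveI : Subsingleton U := eU.hom.homeomorph.subsingleton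
  have hx : x = eU.inv (IsLocalRing.closedPoint k) := Subsingleton.elim _ _
  subst hx
  have h := Scheme.descResidueField_stalkClosedPointTo_fromSpecResidueField k U eU.inv
  haveI : IsSplitEpi (U.fromSpecResidueField (eU.inv (IsLocalRing.closedPoint k))) :=
    IsSplitEpi.mk' ⟨eU.hom ≫ Spec.map (Scheme.descResidueField (Scheme.stalkClosedPointTo eU.inv)),
      by rw [Category.assoc, h, Iso.hom_inv_id]⟩
  exact isIso_of_mono_of_isSplitEpi _

variable {S : Scheme.{u}} (G : Grpd.GroupoidScheme S)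

theorem main_S1888 (k : Type u) [Field k] (eU : G.U ≅ Spec (CommRingCat.of k)) (r : G.R)
    (hs : IsIso (G.s.residueFieldMap r)) (ht : IsIso (G.t.residueFieldMap r)) :
    ∃ φ : G.R ≅ G.R, φ.hom (G.e (eU.inv (IsLocalRing.closedPoint k))) = r := by
  haveI := hs
  haveI := ht
  haveI := isIso_fromSpecResidueField k eU (G.s r)
  haveI := isIso_fromSpecResidueField k eU (G.t r)
  obtain ⟨ρ, hρ⟩ : ∃ ρ : G.U ⟶ G.R, ρ = inv (G.U.fromSpecResidueField (G.s r)) ≫
      inv (Spec.map (G.s.residueFieldMap r)) ≫ G.R.fromSpecResidueField r := ⟨_, rfl⟩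
  have hρs : ρ ≫ G.s = 𝟙 _ := by
    rw [hρ, Category.assoc, Category.assoc,
      ← Scheme.Hom.SpecMap_residueFieldMap_fromSpecResidueField, IsIso.inv_hom_id_assoc,
      IsIso.inv_hom_id]
  have hρt : ρ ≫ G.t = inv (G.U.fromSpecResidueField (G.s r)) ≫
      inv (Spec.map (G.s.residueFieldMap r)) ≫ Spec.map (G.t.residueFieldMap r) ≫
        G.U.fromSpecResidueField (G.t r) := by
    rw [hρ, Category.assoc, Category.assoc,
      ← Scheme.Hom.SpecMap_residueFieldMap_fromSpecResidueField]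
  haveI hθ : IsIso (ρ ≫ G.t) := by
    rw [hρt]; infer_instance
  have hρpt : ∀ z : G.U, ρ z = r := by
    intro z
    rw [hρ, Scheme.Hom.comp_apply, Scheme.Hom.comp_apply, Scheme.fromSpecResidueField_apply]
  -- the translation and its inverse
  have hh : (G.t ≫ ρ) ≫ G.s = 𝟙 G.R ≫ G.t := by
    rw [Category.assoc, hρs, Category.comp_id, Category.id_comp]
  obtain ⟨β', hβ'⟩ : ∃ β' : G.R ⟶ G.R, β' = G.t ≫ inv (ρ ≫ G.t) ≫ ρ := ⟨_, rfl⟩
  have hβ't : β' ≫ G.t = 𝟙 G.R ≫ G.t := by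
    rw [hβ', Category.assoc, Category.assoc, IsIso.inv_hom_id, Category.comp_id, Category.id_comp]
  have hβ's : β' ≫ G.s = G.t ≫ inv (ρ ≫ G.t) := by
    rw [hβ', Category.assoc, Category.assoc, hρs, Category.comp_id]
  have hh' : (β' ≫ G.i) ≫ G.s = 𝟙 G.R ≫ G.t := by
    rw [Category.assoc, G.i_s, hβ't]
  let hom : G.R ⟶ G.R := comp G (G.t ≫ ρ) (𝟙 G.R) hh
  let inv' : G.R ⟶ G.R := comp G (β' ≫ G.i) (𝟙 G.R) hh'
  have hom_t : hom ≫ G.t = G.t ≫ ρ ≫ G.t := by
    rw [comp_t, Category.assoc]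
  have inv_t : inv' ≫ G.t = G.t ≫ inv (ρ ≫ G.t) := by
    rw [comp_t, Category.assoc, G.i_t, hβ's]
  have h1 : hom ≫ inv' = 𝟙 _ := by
    have hα : hom ≫ β' ≫ G.i = (G.t ≫ ρ) ≫ G.i := by
      rw [hβ', ← Category.assoc, ← Category.assoc, ← Category.assoc, hom_t]
      simp only [Category.assoc]
      have hθ2 : ∀ {Z : Scheme.{u}} (h : G.U ⟶ Z), ρ ≫ G.t ≫ inv (ρ ≫ G.t) ≫ h = h := by
        intro Z h
        rw [← Category.assoc, ← Category.assoc, IsIso.hom_inv_id, Category.id_comp]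
      rw [hθ2]
    rw [precomp_comp, comp_congr G _ hα (Category.comp_id hom)]
    exact i_comp_comp G (G.t ≫ ρ) (𝟙 G.R) hh
  have h2 : inv' ≫ hom = 𝟙 _ := by
    have hα : inv' ≫ G.t ≫ ρ = β' := by
      rw [← Category.assoc, inv_t, hβ', Category.assoc]
    rw [precomp_comp, comp_congr G _ hα (Category.comp_id inv')]
    exact comp_i_comp G β' (𝟙 G.R) hβ't
  refine ⟨⟨hom, inv', h1, h2⟩, ?_⟩
  change hom (G.e (eU.inv (IsLocalRing.closedPoint k))) = r
  rw [← Scheme.Hom.comp_apply]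
  have he : G.e ≫ hom = ρ := by
    have hα : G.e ≫ G.t ≫ ρ = ρ := by rw [← Category.assoc, G.e_t, Category.id_comp]
    rw [precomp_comp, comp_congr G _ hα (Category.comp_id G.e)]
    exact comp_e G ρ G.e (by rw [← Category.assoc, hρs, Category.id_comp])
  rw [he, hρpt]

end Groth.Agent.H4.GrpdLib8
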