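import Mathlib
import Groth.Prelude.Def_GSzCSA

namespace Groth.Agent.H4.H90

universe u v w

open scoped TensorProduct

/-! ### Lovász-type cancellation for finite modules -/
section Lovasz

variable {R : Type*} [Ring R]

/-- linear maps with a given kernel ↔ injective maps from the quotient -/
noncomputable def kerEquiv {X M : Type*} [AddCommGroup X] [Module R X] [AddCommGroup M]
    [Module R M] (P : Submodule R X) :
    {f : X →ₗ[R] M // LinearMap.ker f = P} ≃ {g : (X ⧸ P) →ₗ[R] M // LinearMap.ker g = ⊥} where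
  toFun f := ⟨P.liftQ f.1 (le_of_eq f.2.symm), Submodule.ker_liftQ_eq_bot _ _ _ (le_of_eq f.2)⟩
  invFun g := ⟨g.1.comp P.mkQ, by
    rw [LinearMap.ker_comp, g.2, Submodule.comap_bot, Submodule.ker_mkQ]⟩
  left_inv f := Subtype.ext (Submodule.liftQ_mkQ _ _ _)
  right_inv g := Subtype.ext (by
    apply Submodule.linearMap_qext
    rw [Submodule.liftQ_mkQ])

theorem finite_quot {X : Type*} [AddCommGroup X] [Module R X] [Finite X] (P : Submodule R X) :
    Finite (X ⧸ P) := Finite.of_surjective P.mkQ (Submodule.mkQ_surjective P)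

theorem card_quot_lt {X : Type*} [AddCommGroup X] [Module R X] [Finite X] (P : Submodule R X)
    (hP : P ≠ ⊥) : Nat.card (X ⧸ P) < Nat.card X := by
  haveI := finite_quot P
  rw [Submodule.card_eq_card_quotient_mul_card P]
  have h1 : 1 < Nat.card P := by
    obtain ⟨x, hx, hx0⟩ := Submodule.exists_mem_ne_zero_of_ne_bot hP
    haveI : Nontrivial P := ⟨⟨⟨x, hx⟩, 0, fun e => hx0 (congrArg Subtype.val e)⟩⟩
    exact Finite.one_lt_card
  have h2 : 0 < Nat.card (X ⧸ P) := Nat.card_pos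
  nlinarith

theorem finite_linearMap (X L : Type*) [AddCommGroup X] [Module R X] [AddCommGroup L]
    [Module R L] [Finite X] [Finite L] : Finite (X →ₗ[R] L) :=
  Finite.of_injective (fun f => (f : X → L)) DFunLike.coe_injective

theorem card_inj_eq {M N : Type u} [AddCommGroup M] [Module R M] [AddCommGroup N] [Module R N]
    [Finite M] [Finite N]
    (h : ∀ (X : Type u) [AddCommGroup X] [Module R X] [Finite X],
      Nat.card (X →ₗ[R] M) = Nat.card (X →ₗ[R] N)) :
    ∀ (n : ℕ) (X : Type u) [AddCommGroup X] [Module R X] [Finite X], Nat.card X = n →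
      Nat.card {f : X →ₗ[R] M // LinearMap.ker f = ⊥} =
        Nat.card {f : X →ₗ[R] N // LinearMap.ker f = ⊥} := by
  intro n
  induction n using Nat.strong_induction_on with
  | _ n ih =>
    intro X _ _ _ hX
    classical
    haveI : Finite (Submodule R X) :=
      Finite.of_injective (fun P => (P : Set X)) SetLike.coe_injective
    haveI : Fintype (Submodule R X) := Fintype.ofFinite _
    haveI : ∀ P : Submodule R X, Finite (X ⧸ P) := fun P => finite_quot P
    have key : ∀ (L : Type u) [AddCommGroup L] [Module R L] [Finite L],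
        Nat.card (X →ₗ[R] L) =
          ∑ P : Submodule R X, Nat.card {g : (X ⧸ P) →ₗ[R] L // LinearMap.ker g = ⊥} := by
      intro L _ _ _
      haveI := finite_linearMap (R := R) X L
      rw [← Nat.card_congr (Equiv.sigmaFiberEquiv (fun f : X →ₗ[R] L => LinearMap.ker f)),
        Nat.card_sigma]
      exact Finset.sum_congr rfl (fun P _ => Nat.card_congr (kerEquiv P))
    have hM := key M
    have hN := key N
    rw [h X, hN] at hM
    rw [← Finset.add_sum_erase _ _ (Finset.mem_univ (⊥ : Submodule R X)),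
      ← Finset.add_sum_erase _ _ (Finset.mem_univ (⊥ : Submodule R X))] at hM
    have hrest : ∑ P ∈ Finset.univ.erase (⊥ : Submodule R X),
          Nat.card {g : (X ⧸ P) →ₗ[R] N // LinearMap.ker g = ⊥} =
        ∑ P ∈ Finset.univ.erase (⊥ : Submodule R X),
          Nat.card {g : (X ⧸ P) →ₗ[R] M // LinearMap.ker g = ⊥} := by
      apply Finset.sum_congr rfl
      intro P hP
      have hPne : P ≠ ⊥ := Finset.ne_of_mem_erase hP
      exact (ih (Nat.card (X ⧸ P)) (hX ▸ card_quot_lt P hPne) (X ⧸ P) rfl).symm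
    rw [hrest] at hM
    have hbot := Nat.add_right_cancel hM
    rw [Nat.card_congr (kerEquiv (M := M) (⊥ : Submodule R X)),
      Nat.card_congr (kerEquiv (M := N) (⊥ : Submodule R X))]
    exact hbot.symm

theorem lovasz {M N : Type u} [AddCommGroup M] [Module R M] [AddCommGroup N] [Module R N]
    [Finite M] [Finite N]
    (h : ∀ (X : Type u) [AddCommGroup X] [Module R X] [Finite X],
      Nat.card (X →ₗ[R] M) = Nat.card (X →ₗ[R] N)) : Nonempty (M ≃ₗ[R] N) := by
  have h1 := card_inj_eq h _ M rfl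
  have h2 := card_inj_eq (fun X _ _ _ => (h X).symm) _ N rfl
  haveI := finite_linearMap (R := R) M N
  haveI := finite_linearMap (R := R) N M
  haveI := finite_linearMap (R := R) M M
  haveI := finite_linearMap (R := R) N N
  haveI : Nonempty {f : M →ₗ[R] M // LinearMap.ker f = ⊥} :=
    ⟨⟨LinearMap.id, LinearMap.ker_id⟩⟩
  haveI : Nonempty {f : N →ₗ[R] N // LinearMap.ker f = ⊥} :=
    ⟨⟨LinearMap.id, LinearMap.ker_id⟩⟩
  have h3 : 0 < Nat.card {f : M →ₗ[R] N // LinearMap.ker f = ⊥} := by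
    rw [← h1]; exact Nat.card_pos
  have h4 : 0 < Nat.card {f : N →ₗ[R] M // LinearMap.ker f = ⊥} := by
    rw [← h2]; exact Nat.card_pos
  obtain ⟨⟨f, hf⟩⟩ := (Nat.card_pos_iff.1 h3).1
  obtain ⟨⟨g, hg⟩⟩ := (Nat.card_pos_iff.1 h4).1
  have hfi : Function.Injective f := LinearMap.ker_eq_bot.1 hf
  have hgi : Function.Injective g := LinearMap.ker_eq_bot.1 hg
  have hb : Function.Bijective f :=
    hfi.bijective_of_nat_card_le (Nat.card_le_card_of_injective g hgi)
  exact ⟨LinearEquiv.ofBijective f hb⟩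

end Lovasz

/-! ### The twisted fixed space -/
section Main

attribute [local instance] CSAGal.tensorAction GpH1.unitsAction

variable {k : Type u} [Field k] {K : Type v} [Field K] [Algebra k K] [FiniteDimensional k K]
  [IsGalois k K] {A : Type w} [Ring A] [Algebra k A] [FiniteDimensional k A]

theorem smul_tmul_G (σ : K ≃ₐ[k] K) (c : K) (x : A) :
    σ • (c ⊗ₜ[k] x) = (σ c) ⊗ₜ[k] x := by
  rw [CSAGal.smul_eq_map, Algebra.TensorProduct.map_tmul]; rfl

theorem smul_algebraMap_G (σ : K ≃ₐ[k] K) (c : K) :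
    σ • (algebraMap K (K ⊗[k] A) c) = algebraMap K (K ⊗[k] A) (σ c) := by
  rw [Algebra.TensorProduct.algebraMap_apply, Algebra.TensorProduct.algebraMap_apply,
    smul_tmul_G]
  rfl

theorem smul_smul_K (σ : K ≃ₐ[k] K) (c : K) (b : K ⊗[k] A) :
    σ • (c • b) = σ c • (σ • b) := by
  rw [Algebra.smul_def, smul_mul', Algebra.smul_def, smul_algebraMap_G]

theorem smul_inclR (σ : K ≃ₐ[k] K) (x : A) : σ • ((1 : K) ⊗ₜ[k] x) = (1 : K) ⊗ₜ[k] x := by
  rw [smul_tmul_G, map_one]

variable (a : (K ≃ₐ[k] K) → (K ⊗[k] A)ˣ)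

/-- the twisted fixed set -/
def Vset : Set (K ⊗[k] A) := {v | ∀ σ : K ≃ₐ[k] K, σ • v = v * ↑(a σ)}

theorem mem_Vset {v : K ⊗[k] A} : v ∈ Vset a ↔ ∀ σ : K ≃ₐ[k] K, σ • v = v * ↑(a σ) := Iff.rfl

theorem add_mem_Vset {x y : K ⊗[k] A} (hx : x ∈ Vset a) (hy : y ∈ Vset a) : x + y ∈ Vset a := by
  intro σ; rw [smul_add, hx σ, hy σ, add_mul]

theorem zero_mem_Vset : (0 : K ⊗[k] A) ∈ Vset a := by
  intro σ; rw [smul_zero, zero_mul]

theorem smulK_mem_Vset (y : k) {x : K ⊗[k] A} (hx : x ∈ Vset a) :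
    (algebraMap k K y) • x ∈ Vset a := by
  intro σ
  rw [smul_smul_K, σ.commutes, hx σ, smul_mul_assoc]

/-- `V` as a `k`-subspace. -/
def V : Submodule k (K ⊗[k] A) where
  carrier := Vset a
  add_mem' := add_mem_Vset a
  zero_mem' := zero_mem_Vset a
  smul_mem' := by
    intro y x hx
    have := smulK_mem_Vset a y hx
    rwa [algebraMap_smul] at this

variable (ha : GpH1.IsOneCocycle a)

include ha in
theorem a_one : a 1 = 1 := by
  have h := ha 1 1
  rw [one_mul, one_smul] at h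
  exact (mul_left_cancel (a := a 1) (by rw [mul_one]; exact h)).symm

/-- the averaging operator -/
noncomputable def proj (b : K ⊗[k] A) : K ⊗[k] A :=
  ∑ σ : K ≃ₐ[k] K, (σ • b) * ↑(a σ)⁻¹

include ha in
theorem proj_mem (b : K ⊗[k] A) : proj a b ∈ Vset a := by
  intro τ
  unfold proj
  rw [Finset.smul_sum, Finset.sum_mul]
  rw [← Equiv.sum_comp (Equiv.mulLeft τ) (fun ρ => (ρ • b) * ↑(a ρ)⁻¹ * ↑(a τ))]
  apply Finset.sum_congr rfl
  intro σ _
  simp only [Equiv.coe_mulLeft]
  rw [smul_mul', ← mul_smul]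
  have h1 : τ • ((↑(a σ)⁻¹ : (K ⊗[k] A)ˣ) : K ⊗[k] A) = ↑(a (τ * σ))⁻¹ * ↑(a τ) := by
    have h2 : τ • (a σ)⁻¹ = (a (τ * σ))⁻¹ * a τ := by
      rw [ha τ σ, smul_inv', mul_inv_rev, mul_assoc, inv_mul_cancel, mul_one]
    have h3 := congrArg (Units.val) h2
    rw [Units.val_mul] at h3
    exact h3
  rw [h1, mul_assoc]

include ha in
theorem span_Vset_eq_top : Submodule.span K (Vset a) = ⊤ := by
  by_contra hne
  obtain ⟨ψ, hψ0, hψ⟩ := Submodule.exists_le_ker_of_lt_top _ (lt_top_iff_ne_top.2 hne)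
  apply hψ0
  apply LinearMap.ext
  intro b
  rw [LinearMap.zero_apply]
  have hrel : ∀ c : K, ∑ σ : K ≃ₐ[k] K, ψ ((σ • b) * ↑(a σ)⁻¹) * σ c = 0 := by
    intro c
    have h1 : proj a (c • b) ∈ Submodule.span K (Vset a) :=
      Submodule.subset_span (proj_mem a ha (c • b))
    have h2 := hψ h1
    rw [LinearMap.mem_ker] at h2
    unfold proj at h2
    rw [map_sum] at h2
    rw [← h2]
    apply Finset.sum_congr rfl
    intro σ _
    have h3 : (σ • (c • b)) * ↑(a σ)⁻¹ = σ c • ((σ • b) * ↑(a σ)⁻¹) := by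
      rw [smul_smul_K, smul_mul_assoc]
    rw [h3, map_smul, smul_eq_mul, mul_comm]
  have hinj : Function.Injective
      (fun σ : K ≃ₐ[k] K => (MonoidHomClass.toMonoidHom σ : K →* K)) := by
    intro σ τ h
    exact AlgEquiv.ext (fun x => DFunLike.congr_fun h x)
  have hli := (linearIndependent_monoidHom K K).comp _ hinj
  have h0 := Fintype.linearIndependent_iff.1 hli (fun σ => ψ ((σ • b) * ↑(a σ)⁻¹)) (by
    funext c
    simp only [Finset.sum_apply, Pi.smul_apply, smul_eq_mul, Pi.zero_apply, Function.comp]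
    exact hrel c) 1
  rw [one_smul, a_one a ha, inv_one, Units.val_one, mul_one] at h0
  exact h0

include ha in
theorem exists_unit_of_infinite [Infinite k] :
    ∃ w : (K ⊗[k] A)ˣ, (w : K ⊗[k] A) ∈ Vset a := by
  classical
  have h1 : (1 : K ⊗[k] A) ∈ Submodule.span K (Vset a) := by
    rw [span_Vset_eq_top a ha]; trivial
  obtain ⟨r, c, v, hcv⟩ := Submodule.mem_span_set'.1 h1
  let bas := Module.Free.chooseBasis K (K ⊗[k] A)
  let L := Algebra.leftMulMatrix bas
  let D : Matrix (Module.Free.ChooseBasisIndex K (K ⊗[k] A))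
      (Module.Free.ChooseBasisIndex K (K ⊗[k] A)) (MvPolynomial (Fin r) K) :=
    ∑ j, (MvPolynomial.X j : MvPolynomial (Fin r) K) •
      (L (v j : K ⊗[k] A)).map (MvPolynomial.C : K →+* MvPolynomial (Fin r) K)
  have heval : ∀ x : Fin r → K,
      MvPolynomial.eval x D.det = (L (∑ j, x j • (v j : K ⊗[k] A))).det := by
    intro x
    rw [RingHom.map_det]
    congr 1
    rw [map_sum]
    ext i i'
    simp [D, Matrix.sum_apply, Matrix.smul_apply, Matrix.map_apply, map_sum]
  have hP : D.det ≠ 0 := by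
    intro h0
    have h2 := heval c
    rw [h0, map_zero, hcv, map_one, Matrix.det_one] at h2
    exact zero_ne_one h2
  obtain ⟨x, hx, hxP⟩ : ∃ x : Fin r → K, (∀ j, x j ∈ Set.range (algebraMap k K)) ∧
      MvPolynomial.eval x D.det ≠ 0 := by
    by_contra hcon
    push Not at hcon
    apply hP
    apply MvPolynomial.funext_set (fun _ => Set.range (algebraMap k K))
      (fun _ => Set.infinite_range_of_injective (algebraMap k K).injective)
    intro x hx
    rw [map_zero]
    exact hcon x (fun j => hx j (Set.mem_univ j))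
  have hw : (∑ j, x j • (v j : K ⊗[k] A)) ∈ V a := by
    apply Submodule.sum_mem
    intro j _
    obtain ⟨y, hy⟩ := hx j
    rw [← hy]
    exact smulK_mem_Vset a y (v j).2
  have hdet : (L (∑ j, x j • (v j : K ⊗[k] A))).det ≠ 0 := by rw [← heval]; exact hxP
  have hinj : Function.Injective (LinearMap.mulLeft K (∑ j, x j • (v j : K ⊗[k] A))) := by
    rw [← LinearMap.ker_eq_bot, LinearMap.ker_eq_bot']
    intro b hb
    rw [LinearMap.mulLeft_apply] at hb
    have h2 : L (∑ j, x j • (v j : K ⊗[k] A)) * L b = 0 := by rw [← map_mul, hb, map_zero]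
    have h3 : IsUnit (L (∑ j, x j • (v j : K ⊗[k] A))) :=
      (Matrix.isUnit_iff_isUnit_det _).2 (isUnit_iff_ne_zero.2 hdet)
    have h4 : L b = 0 := h3.mul_right_eq_zero.1 h2
    exact Algebra.leftMulMatrix_injective bas (h4.trans (map_zero L).symm)
  obtain ⟨c', hc'⟩ := LinearMap.surjective_of_injective hinj 1
  rw [LinearMap.mulLeft_apply] at hc'
  haveI : IsArtinianRing (K ⊗[k] A) := IsArtinianRing.of_finite K _
  exact ⟨⟨_, c', hc', mul_eq_one_comm.1 hc'⟩, hw⟩

/-! ### the finite case -/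
section FiniteCase

variable (k K A) in
/-- `A` acts on `K ⊗ A` by left multiplication through `1 ⊗ x`. -/
@[reducible] noncomputable def modA : Module A (K ⊗[k] A) :=
  Module.compHom _ (Algebra.TensorProduct.includeRight : A →ₐ[k] K ⊗[k] A).toRingHom

attribute [local instance] modA

theorem smulA_def (x : A) (b : K ⊗[k] A) : x • b = ((1 : K) ⊗ₜ[k] x) * b := rfl

theorem smulA_smulK (x : A) (c : K) (b : K ⊗[k] A) : x • (c • b) = c • (x • b) := by
  rw [smulA_def, smulA_def, mul_smul_comm]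

/-- `V` as an `A`-submodule. -/
def VA : Submodule A (K ⊗[k] A) where
  carrier := Vset a
  add_mem' := add_mem_Vset a
  zero_mem' := zero_mem_Vset a
  smul_mem' := by
    intro x v hv σ
    rw [smulA_def, smul_mul', smul_inclR, hv σ, mul_assoc]

theorem mem_VA {v : K ⊗[k] A} : v ∈ VA a ↔ ∀ σ : K ≃ₐ[k] K, σ • v = v * ↑(a σ) := Iff.rfl

variable (k K) in
/-- a `k`-basis of `K` -/
noncomputable def lam : Module.Basis (Fin (Module.finrank k K)) k K := Module.finBasis k K

variable (k K) in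
/-- its trace-dual basis -/
noncomputable def mu : Module.Basis (Fin (Module.finrank k K)) k K := (lam k K).traceDual

theorem trace_mu_lam (i j : Fin (Module.finrank k K)) :
    ∑ σ : K ≃ₐ[k] K, σ (mu k K i * lam k K j) = if j = i then 1 else 0 := by
  rw [← trace_eq_sum_automorphisms]
  unfold mu
  rw [Module.Basis.trace_traceDual_mul]
  split_ifs <;> simp

/-- the comparison map `V^d → K ⊗ A` -/
noncomputable def Psi : (Fin (Module.finrank k K) → VA a) →ₗ[A] (K ⊗[k] A) where
  toFun v := ∑ j, lam k K j • (v j : K ⊗[k] A)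
  map_add' := by
    intro v v'
    simp only [Pi.add_apply, Submodule.coe_add, smul_add, Finset.sum_add_distrib]
  map_smul' := by
    intro x v
    simp only [RingHom.id_apply, Pi.smul_apply, Submodule.coe_smul, Finset.smul_sum]
    exact Finset.sum_congr rfl (fun j _ => (smulA_smulK x _ _).symm)

theorem Psi_apply (v : Fin (Module.finrank k K) → VA a) :
    Psi a v = ∑ j, lam k K j • (v j : K ⊗[k] A) := rfl

theorem proj_Psi (v : Fin (Module.finrank k K) → VA a) (i : Fin (Module.finrank k K)) :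
    proj a (mu k K i • Psi a v) = (v i : K ⊗[k] A) := by
  classical
  unfold proj
  have h1 : ∀ σ : K ≃ₐ[k] K, (σ • (mu k K i • Psi a v)) * ↑(a σ)⁻¹ =
      ∑ j, σ (mu k K i * lam k K j) • (v j : K ⊗[k] A) := by
    intro σ
    rw [Psi_apply, Finset.smul_sum, Finset.smul_sum, Finset.sum_mul]
    apply Finset.sum_congr rfl
    intro j _
    rw [smul_smul, smul_smul_K, (mem_VA a).1 (v j).2 σ, smul_mul_assoc, mul_assoc, Units.mul_inv,
      mul_one]
  rw [Finset.sum_congr rfl (fun σ _ => h1 σ), Finset.sum_comm]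
  simp only [← Finset.sum_smul]
  rw [Finset.sum_eq_single i]
  · rw [trace_mu_lam, if_pos rfl, one_smul]
  · intro j _ hj
    rw [trace_mu_lam, if_neg hj, zero_smul]
  · intro h; exact absurd (Finset.mem_univ _) h

theorem Psi_inj : Function.Injective (Psi a) := by
  intro v v' h
  funext i
  apply Subtype.ext
  rw [← proj_Psi a v i, ← proj_Psi a v' i, h]

theorem smulK_mem_range (c : K) (u : K ⊗[k] A) (hu : u ∈ Vset a) :
    c • u ∈ LinearMap.range (Psi a) := by
  refine ⟨fun j => ⟨algebraMap k K ((lam k K).repr c j) • u, smulK_mem_Vset a _ hu⟩, ?_⟩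
  show ∑ j, lam k K j • (algebraMap k K ((lam k K).repr c j) • u) = c • u
  have h1 : ∀ j, lam k K j • (algebraMap k K ((lam k K).repr c j) • u) =
      ((lam k K).repr c j • lam k K j) • u := by
    intro j
    rw [smul_smul, Algebra.smul_def ((lam k K).repr c j) (lam k K j), mul_comm]
  rw [Finset.sum_congr rfl (fun j _ => h1 j), ← Finset.sum_smul, (lam k K).sum_repr]

include ha in
theorem Psi_surj : Function.Surjective (Psi a) := by
  intro b
  have h1 : b ∈ Submodule.span K (Vset a) := by rw [span_Vset_eq_top a ha]; trivial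
  obtain ⟨r, c, v, rfl⟩ := Submodule.mem_span_set'.1 h1
  have h2 : ∑ i, c i • (v i : K ⊗[k] A) ∈ LinearMap.range (Psi a) :=
    Submodule.sum_mem _ (fun i _ => smulK_mem_range a (c i) _ (v i).2)
  exact LinearMap.mem_range.1 h2

include ha in
theorem card_hom_pow (X : Type (max v w)) [AddCommGroup X] [Module A X] :
    Nat.card (X →ₗ[A] VA a) ^ (Module.finrank k K) = Nat.card (X →ₗ[A] (K ⊗[k] A)) := by
  let e := LinearEquiv.ofBijective (Psi a) ⟨Psi_inj a, Psi_surj a ha⟩
  let e1 : (X →ₗ[A] (Fin (Module.finrank k K) → VA a)) ≃ (X →ₗ[A] K ⊗[k] A) :=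
    { toFun := fun f => e.toLinearMap.comp f
      invFun := fun g => e.symm.toLinearMap.comp g
      left_inv := by intro f; apply LinearMap.ext; intro x; simp
      right_inv := by intro g; apply LinearMap.ext; intro x; simp }
  let e2 : (X →ₗ[A] (Fin (Module.finrank k K) → VA a)) ≃
      (Fin (Module.finrank k K) → (X →ₗ[A] VA a)) :=
    { toFun := fun f j => (LinearMap.proj j).comp f
      invFun := fun g => LinearMap.pi g
      left_inv := by intro f; apply LinearMap.ext; intro x; rfl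
      right_inv := by intro g; funext j; apply LinearMap.ext; intro x; rfl }
  rw [← Nat.card_congr e1, Nat.card_congr e2, Nat.card_fun, Nat.card_fin]

theorem exists_repr (b : K ⊗[k] A) :
    ∃ x : Fin (Module.finrank k K) → A, b = ∑ j, lam k K j • ((1 : K) ⊗ₜ[k] x j) := by
  induction b using TensorProduct.induction_on with
  | zero => exact ⟨fun _ => 0, by simp⟩
  | tmul c y =>
    refine ⟨fun j => (lam k K).repr c j • y, ?_⟩
    have h1 : ∀ j, lam k K j • ((1 : K) ⊗ₜ[k] ((lam k K).repr c j • y)) =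
        ((lam k K).repr c j • lam k K j) ⊗ₜ[k] y := by
      intro j
      rw [TensorProduct.smul_tmul', smul_eq_mul, mul_one, TensorProduct.smul_tmul]
    rw [Finset.sum_congr rfl (fun j _ => h1 j), ← TensorProduct.sum_tmul, (lam k K).sum_repr]
  | add b b' hb hb' =>
    obtain ⟨x, hx⟩ := hb
    obtain ⟨x', hx'⟩ := hb'
    refine ⟨fun j => x j + x' j, ?_⟩
    rw [hx, hx']
    simp only [TensorProduct.tmul_add, smul_add, Finset.sum_add_distrib]

theorem Vset_one (u : K ⊗[k] A)
    (hu : u ∈ Vset (fun _ : K ≃ₐ[k] K => (1 : (K ⊗[k] A)ˣ))) :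
    ∃ x : A, u = (1 : K) ⊗ₜ[k] x := by
  classical
  have hd : 0 < Module.finrank k K := Module.finrank_pos
  let j0 : Fin (Module.finrank k K) := ⟨0, hd⟩
  obtain ⟨x, hx⟩ := exists_repr (lam k K j0 • u)
  have hone : ∀ y : A, (1 : K) ⊗ₜ[k] y ∈ Vset (fun _ : K ≃ₐ[k] K => (1 : (K ⊗[k] A)ˣ)) := by
    intro y σ; rw [smul_inclR, Units.val_one, mul_one]
  have h1 : Psi (fun _ : K ≃ₐ[k] K => (1 : (K ⊗[k] A)ˣ)) (Pi.single j0 ⟨u, hu⟩) =
      Psi (fun _ : K ≃ₐ[k] K => (1 : (K ⊗[k] A)ˣ))
        (fun j => ⟨(1 : K) ⊗ₜ[k] x j, hone (x j)⟩) := by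
    rw [Psi_apply, Psi_apply]
    show _ = ∑ j, lam k K j • ((1 : K) ⊗ₜ[k] x j)
    rw [← hx, Finset.sum_eq_single j0]
    · rw [Pi.single_eq_same]
    · intro j _ hj
      rw [Pi.single_eq_of_ne hj]; simp
    · intro h; exact absurd (Finset.mem_univ _) h
  have h2 := congrFun (Psi_inj _ h1) j0
  rw [Pi.single_eq_same] at h2
  exact ⟨x j0, congrArg Subtype.val h2⟩

include ha in
theorem exists_unit_of_finite [Finite k] :
    ∃ w : (K ⊗[k] A)ˣ, (w : K ⊗[k] A) ∈ Vset a := by
  classical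
  haveI : Finite (K ⊗[k] A) := Module.finite_of_finite k
  let one : (K ≃ₐ[k] K) → (K ⊗[k] A)ˣ := fun _ => 1
  have hone : GpH1.IsOneCocycle one := GpH1.isOneCocycle_one
  have hd : Module.finrank k K ≠ 0 := (Module.finrank_pos).ne'
  have hcount : ∀ (X : Type (max v w)) [AddCommGroup X] [Module A X] [Finite X],
      Nat.card (X →ₗ[A] VA one) = Nat.card (X →ₗ[A] VA a) := by
    intro X _ _ _
    apply Nat.pow_left_injective hd
    show _ ^ _ = _ ^ _
    rw [card_hom_pow one hone X, card_hom_pow a ha X]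
  obtain ⟨φ⟩ := lovasz hcount
  have h1mem : (1 : K ⊗[k] A) ∈ Vset one := by
    intro σ; rw [smul_one, Units.val_one, mul_one]
  let v0 : VA a := φ ⟨1, h1mem⟩
  have hgen : ∀ u : K ⊗[k] A, u ∈ Vset a →
      ∃ x : A, u = ((1 : K) ⊗ₜ[k] x) * (v0 : K ⊗[k] A) := by
    intro u hu
    obtain ⟨x, hx⟩ := Vset_one (φ.symm ⟨u, hu⟩ : K ⊗[k] A) (φ.symm ⟨u, hu⟩).2
    refine ⟨x, ?_⟩
    have h2 : φ.symm ⟨u, hu⟩ = x • (⟨1, h1mem⟩ : VA one) := by
      apply Subtype.ext
      rw [hx, Submodule.coe_smul, smulA_def, mul_one]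
    have h3 : (⟨u, hu⟩ : VA a) = x • v0 := by
      rw [← φ.apply_symm_apply ⟨u, hu⟩, h2, map_smul]
    have h4 := congrArg Subtype.val h3
    rw [Submodule.coe_smul, smulA_def] at h4
    exact h4
  have h1 : (1 : K ⊗[k] A) ∈ Submodule.span K (Vset a) := by
    rw [span_Vset_eq_top a ha]; trivial
  obtain ⟨r, c, v, hcv⟩ := Submodule.mem_span_set'.1 h1
  choose x hx using fun i => hgen (v i : K ⊗[k] A) (v i).2
  have h5 : (∑ i, c i • ((1 : K) ⊗ₜ[k] x i)) * (v0 : K ⊗[k] A) = 1 := by
    rw [Finset.sum_mul, ← hcv]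
    apply Finset.sum_congr rfl
    intro i _
    rw [smul_mul_assoc, ← hx i]
  haveI : IsArtinianRing (K ⊗[k] A) := IsArtinianRing.of_finite K _
  exact ⟨⟨v0, _, mul_eq_one_comm.1 h5, h5⟩, v0.2⟩

end FiniteCase

variable (k K A) in
theorem main : GpH1.H1.IsTrivial (K ≃ₐ[k] K) (K ⊗[k] A)ˣ := by
  intro x
  obtain ⟨a, rfl⟩ := GpH1.OneCocycle.cl_surjective x
  unfold GpH1.H1.pt
  rw [GpH1.OneCocycle.cl_eq_cl_iff]
  obtain ⟨w, hw⟩ : ∃ w : (K ⊗[k] A)ˣ, (w : K ⊗[k] A) ∈ Vset a.1 := by
    rcases finite_or_infinite k with hk | hk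
    · exact exists_unit_of_finite a.1 a.2
    · exact exists_unit_of_infinite a.1 a.2
  refine ⟨w, fun σ => ?_⟩
  show a.1 σ = w⁻¹ * 1 * σ • w
  rw [mul_one, eq_inv_mul_iff_mul_eq]
  apply Units.ext
  rw [Units.val_mul]
  exact (hw σ).symm

end Main

end Groth.Agent.H4.H90
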