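import Mathlib
import Groth.Prelude.Def_DRing4
import Groth.Agent.H4.HC1

/-!
# `Hom•(K, Hom•(L, M)) ≅ Hom•(K ⊗ L, M)` (S6997)
-/

set_option autoImplicit false
universe u
open CategoryTheory Category Limits MonoidalCategory HomologicalComplex CochainComplex

namespace Groth.Agent.H4.HC4

open Groth.Agent.H4.HC1

variable {A : Type u} [CommRing A]

/-- the two iterated Hom functors are isomorphic, by uniqueness of right adjoints. -/
noncomputable def homCxHomCxIso (K L : Cx A) :
    DRing.homCxFunctor L ⋙ DRing.homCxFunctor K ≅ DRing.homCxFunctor (K ⊗ L) :=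
  (((tensorHomAdj K).comp (tensorHomAdj L)).ofNatIsoLeft
    (MonoidalCategory.tensorRightTensor K L).symm).rightAdjointUniq (tensorHomAdj (K ⊗ L))

/-- S6997 -/
theorem nonempty_homCx_homCx_iso (K L M : Cx A) :
    Nonempty (DRing.homCx K (DRing.homCx L M) ≅ DRing.homCx (K ⊗ L) M) :=
  ⟨(homCxHomCxIso K L).app M⟩

end Groth.Agent.H4.HC4
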