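import Mathlib
import Groth.Prelude.Def_DRing4
import Groth.Agent.H4.HC6
import Groth.Agent.H4.TC5
import Groth.Agent.H4.TC11

set_option autoImplicit false
universe u
open CategoryTheory Category Limits MonoidalCategory HomologicalComplex CochainComplex Pretriangulated

namespace Groth.Agent.H4.HKF1

open DerivedCategory Groth.Agent.H4.HC1 Groth.Agent.H4.HC6
  Groth.Agent.H4.TC4 Groth.Agent.H4.TC5 Groth.Agent.H4.TC11 HomComplex

variable {A : Type u} [CommRing A]

/-- composition with a fixed cochain on the left, as a linear map. -/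
noncomputable def precompCochain {P P' : Cx A} {m : ℤ} (c : Cochain P' P m) (Y : Cx A) (i k : ℤ)
    (h : m + i = k) : Cochain P Y i →ₗ[A] Cochain P' Y k where
  toFun z := c.comp z h
  map_add' z z' := by simp
  map_smul' a z := by simp

section ses

variable (S : ShortComplex (Cx A))
  (σ : ∀ n, (S.map (HomologicalComplex.eval _ _ n)).Splitting) (Y : Cx A)

include σ in
lemma nonempty_homSCSplitting (i : ℤ) :
    Nonempty ((homSC S Y).map (HomologicalComplex.eval _ _ i)).Splitting := by
  let ρ : Cochain S.X₂ S.X₁ 0 := Cochain.ofHoms (fun n => (σ n).r)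
  let τ : Cochain S.X₃ S.X₂ 0 := Cochain.ofHoms (fun n => (σ n).s)
  have h1 : (Cochain.ofHom S.f).comp ρ (add_zero 0) = Cochain.ofHom (𝟙 _) := by
    refine Cochain.ext₀ _ _ (fun p => ?_)
    simp only [Cochain.comp_zero_cochain_v, Cochain.ofHom_v, ρ]
    exact (σ p).f_r
  have h2 : τ.comp (Cochain.ofHom S.g) (add_zero 0) = Cochain.ofHom (𝟙 _) := by
    refine Cochain.ext₀ _ _ (fun p => ?_)
    simp only [Cochain.comp_zero_cochain_v, Cochain.ofHom_v, τ]
    exact (σ p).s_g
  have h3 : ρ.comp (Cochain.ofHom S.f) (add_zero 0) + (Cochain.ofHom S.g).comp τ (add_zero 0) =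
      Cochain.ofHom (𝟙 _) := by
    refine Cochain.ext₀ _ _ (fun p => ?_)
    simp only [Cochain.add_v, Cochain.comp_zero_cochain_v, Cochain.ofHom_v, ρ, τ]
    exact (σ p).id
  refine ⟨{ r := ModuleCat.ofHom (precompCochain τ Y i i (zero_add i))
            s := ModuleCat.ofHom (precompCochain ρ Y i i (zero_add i))
            f_r := ?_
            s_g := ?_
            id := ?_ }⟩
  · apply ModuleCat.hom_ext
    apply LinearMap.ext
    intro (z : Cochain S.X₃ Y i)
    change τ.comp ((Cochain.ofHom S.g).comp z (zero_add i)) (zero_add i) = z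
    rw [← Cochain.comp_assoc_of_first_is_zero_cochain, h2, Cochain.id_comp]
  · apply ModuleCat.hom_ext
    apply LinearMap.ext
    intro (z : Cochain S.X₁ Y i)
    change (Cochain.ofHom S.f).comp (ρ.comp z (zero_add i)) (zero_add i) = z
    rw [← Cochain.comp_assoc_of_first_is_zero_cochain, h1, Cochain.id_comp]
  · apply ModuleCat.hom_ext
    apply LinearMap.ext
    intro (z : Cochain S.X₂ Y i)
    change (Cochain.ofHom S.g).comp (τ.comp z (zero_add i)) (zero_add i) +
      ρ.comp ((Cochain.ofHom S.f).comp z (zero_add i)) (zero_add i) = z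
    have := congrArg (fun c => c.comp z (zero_add i)) h3
    simp only [Cochain.add_comp, Cochain.id_comp] at this
    rw [Cochain.comp_assoc_of_first_is_zero_cochain, Cochain.comp_assoc_of_first_is_zero_cochain]
      at this
    rw [add_comm]
    exact this

end ses

/-- the predicate on `E`: `Hom•(E, K)` is K-flat for every K-flat `K`. -/
def HK (E : Cx A) : Prop := ∀ K : Cx A, KFlat K → KFlat (DRing.homCx E K)

theorem HK.of_degreewiseSplit₂ (S : ShortComplex (Cx A))
    (σ : ∀ n, (S.map (HomologicalComplex.eval _ _ n)).Splitting)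
    (h₁ : HK S.X₁) (h₃ : HK S.X₃) : HK S.X₂ := by
  intro K hK
  exact KFlat.of_degreewiseSplit₂ (homSC S K) (fun i => (nonempty_homSCSplitting S σ K i).some)
    (h₃ K hK) (h₁ K hK)

theorem HK.of_retract {E F : Cx A} (i : E ⟶ F) (p : F ⟶ E) (h : i ≫ p = 𝟙 E) (hF : HK F) :
    HK E := by
  intro K hK L hL n
  have h1 : homCxPre p K ≫ homCxPre i K = 𝟙 _ := by rw [← homCxPre_comp, h, homCxPre_id]
  have h2 : (L ◁ homCxPre p K) ≫ (L ◁ homCxPre i K) = 𝟙 _ := by
    rw [← MonoidalCategory.whiskerLeft_comp, h1, MonoidalCategory.whiskerLeft_id]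
  have h3 := hF K hK L hL n
  rw [IsZero.iff_id_eq_zero]
  have h4 : HomologicalComplex.homologyMap (L ◁ homCxPre p K) n ≫
      HomologicalComplex.homologyMap (L ◁ homCxPre i K) n = 𝟙 _ := by
    rw [← HomologicalComplex.homologyMap_comp, h2, HomologicalComplex.homologyMap_id]
  rw [← h4, h3.eq_of_tgt (HomologicalComplex.homologyMap (L ◁ homCxPre p K) n) 0, zero_comp]

theorem HK.of_iso {E F : Cx A} (e : E ≅ F) (hF : HK F) : HK E :=
  HK.of_retract e.hom e.inv e.hom_inv_id hF

end Groth.Agent.H4.HKF1
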