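import Mathlib
import Groth.Agent.H4.HKF1

set_option autoImplicit false
universe u
open CategoryTheory Category Limits MonoidalCategory HomologicalComplex CochainComplex Pretriangulated

namespace Groth.Agent.H4.HKF2

open DerivedCategory Groth.Agent.H4.HC1 Groth.Agent.H4.HC6
  Groth.Agent.H4.TC4 Groth.Agent.H4.TC5 Groth.Agent.H4.TC11 HomComplex Groth.Agent.H4.HKF1

variable {A : Type u} [CommRing A]

/-- `Hom•(E⟦a⟧, K) ≅ Hom•(E, K)⟦-a⟧`. -/
noncomputable def homCxShiftIso (E K : Cx A) (a : ℤ) :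
    (DRing.homCx E K)⟦-a⟧ ≅ DRing.homCx (E⟦a⟧) K :=
  HomologicalComplex.Hom.isoOfComponents
    (fun n => (Cochain.leftShiftLinearEquiv A E K (n + -a) a n (by omega)).toModuleIso)
    (by
      intro i j hij
      apply ModuleCat.hom_ext
      apply LinearMap.ext
      intro (z : Cochain E K (i + -a))
      change δ i j (z.leftShift a i (by omega)) =
        ((((-a).negOnePow : ℤ) • δ (i + -a) (j + -a) z : Cochain E K (j + -a))).leftShift a j
          (by omega)
      rw [Cochain.δ_leftShift z a i j (by omega) (j + -a) (by omega), Int.negOnePow_neg]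
      rcases Int.units_eq_one_or a.negOnePow with h | h <;> simp [h])

theorem HK.shift {E : Cx A} (hE : HK E) (a : ℤ) : HK (E⟦a⟧) := by
  intro K hK
  exact KFlat.of_iso (homCxShiftIso E K a) ((kflat_shift_iff _ (-a)).2 (hE K hK))

/-- `Hom•(𝟙, -) ≅ id`. -/
noncomputable def homUnitIso : DRing.homCxFunctor (𝟙_ (Cx A)) ≅ 𝟭 (Cx A) :=
  Adjunction.rightAdjointUniq
    ((tensorHomAdj (𝟙_ (Cx A))).ofNatIsoLeft (rightUnitorNatIso (Cx A))) Adjunction.id

theorem HK_unit : HK (𝟙_ (Cx A)) := fun K hK =>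
  KFlat.of_iso ((homUnitIso (A := A)).app K).symm hK

theorem HK_single_unit (q₀ : ℤ) :
    HK ((HomologicalComplex.single (ModuleCat.{u} A) (ComplexShape.up ℤ) q₀).obj (ModuleCat.of A A)) := by
  have h1 : HK (((HomologicalComplex.single (ModuleCat.{u} A) (ComplexShape.up ℤ) 0).obj
      (ModuleCat.of A A))⟦-q₀⟧) := HK.shift (HK_unit (A := A)) (-q₀)
  exact HK.of_iso (((CochainComplex.singleFunctors (ModuleCat.{u} A)).shiftIso (-q₀) q₀ 0
    (by omega)).app (ModuleCat.of A A)).symm h1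

end Groth.Agent.H4.HKF2
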