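import Mathlib
import Groth.Agent.H4.HKF2

set_option autoImplicit false
universe u
open CategoryTheory Category Limits MonoidalCategory HomologicalComplex CochainComplex Pretriangulated

namespace Groth.Agent.H4.HKF3

open DerivedCategory Groth.Agent.H4.HC1 Groth.Agent.H4.HC6
  Groth.Agent.H4.TC4 Groth.Agent.H4.TC5 Groth.Agent.H4.TC11 HomComplex Groth.Agent.H4.HKF1
  Groth.Agent.H4.HKF2 Groth.Agent.H4.SubCx Groth.Agent.H4.DRing1

variable {A : Type u} [CommRing A]

/-- the single functor. -/
noncomputable abbrev sgl (A : Type u) [CommRing A] (q₀ : ℤ) : ModuleCat.{u} A ⥤ Cx A :=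
  HomologicalComplex.single (ModuleCat.{u} A) (ComplexShape.up ℤ) q₀

theorem HK_single_of_retract {M N : ModuleCat.{u} A} (i : M ⟶ N) (p : N ⟶ M) (h : i ≫ p = 𝟙 M)
    (q₀ : ℤ) (hN : HK ((sgl A q₀).obj N)) : HK ((sgl A q₀).obj M) :=
  HK.of_retract ((sgl A q₀).map i) ((sgl A q₀).map p)
    (by rw [← CategoryTheory.Functor.map_comp, h, CategoryTheory.Functor.map_id]) hN

theorem HK_single_biprod (M N : ModuleCat.{u} A) (q₀ : ℤ) (hM : HK ((sgl A q₀).obj M))
    (hN : HK ((sgl A q₀).obj N)) : HK ((sgl A q₀).obj (M ⊞ N)) := by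
  let S : ShortComplex (ModuleCat.{u} A) :=
    ShortComplex.mk (biprod.inl : M ⟶ M ⊞ N) biprod.snd (by simp)
  let σ : S.Splitting := ShortComplex.Splitting.ofHasBinaryBiproduct M N
  exact HK.of_degreewiseSplit₂ (S.map (sgl A q₀))
    (fun n => (σ.map (sgl A q₀)).map (HomologicalComplex.eval _ _ n)) hM hN

theorem HK_of_isZero (E : Cx A) (hE : IsZero E) : HK E :=
  HK.of_retract (0 : E ⟶ 𝟙_ (Cx A)) 0 (hE.eq_of_src _ _) HK_unit

theorem HK_single_free (m : ℕ) (q₀ : ℤ) : HK ((sgl A q₀).obj (ModuleCat.of A (Fin m → A))) := by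
  induction m with
  | zero =>
    refine HK_of_isZero _ ?_
    exact (sgl A q₀).map_isZero (ModuleCat.isZero_of_subsingleton _)
  | succ m ih =>
    let e : ModuleCat.of A (Fin (m + 1) → A) ≅ ModuleCat.of A A ⊞ ModuleCat.of A (Fin m → A) :=
      (Fin.consLinearEquiv A (fun _ : Fin (m + 1) => A)).symm.toModuleIso ≪≫ (ModuleCat.biprodIsoProd (ModuleCat.of A A) (ModuleCat.of A (Fin m → A))).symm
    exact HK_single_of_retract e.hom e.inv e.hom_inv_id q₀
      (HK_single_biprod _ _ q₀ (HK_single_unit q₀) ih)

theorem HK_single_finproj (Q : Type u) [AddCommGroup Q] [Module A Q] [Module.Finite A Q]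
    [Module.Projective A Q] (q₀ : ℤ) : HK ((sgl A q₀).obj (ModuleCat.of A Q)) := by
  obtain ⟨n, f, g, -, -, hfg⟩ := Module.Finite.exists_comp_eq_id_of_projective A Q
  exact HK_single_of_retract (ModuleCat.ofHom g) (ModuleCat.ofHom f) (ModuleCat.hom_ext hfg) q₀
    (HK_single_free n q₀)

theorem HK_concentrated (E : Cx A) (q₀ : ℤ) (hE : ∀ q, q ≠ q₀ → IsZero (E.X q))
    (hf : Module.Finite A (E.X q₀)) (hp : Module.Projective A (E.X q₀)) : HK E := by
  let i : E ⟶ (sgl A q₀).obj (E.X q₀) := HomologicalComplex.mkHomToSingle (𝟙 _)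
    (fun j hj => (hE j (by simp at hj; omega)).eq_of_src _ _)
  let p : (sgl A q₀).obj (E.X q₀) ⟶ E := HomologicalComplex.mkHomFromSingle (𝟙 _)
    (fun j hj => (hE j (by simp at hj; omega)).eq_of_tgt _ _)
  have hip : i ≫ p = 𝟙 E := by
    refine HomologicalComplex.hom_ext _ _ (fun n => ?_)
    by_cases h : n = q₀
    · subst h
      simp [i, p, HomologicalComplex.mkHomToSingle_f, HomologicalComplex.mkHomFromSingle_f]
    · exact (hE n h).eq_of_src _ _
  exact HK.of_retract i p hip (HK_single_finproj (E.X q₀) q₀)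

theorem HK_of_bounded_aux (n : ℕ) : ∀ (K : Cx A) (a : ℤ),
    (∀ i, i < a → IsZero (K.X i)) → (∀ i, a + n ≤ i → IsZero (K.X i)) →
    (∀ i, Module.Finite A (K.X i) ∧ Module.Projective A (K.X i)) → HK K := by
  induction n with
  | zero =>
    intro K a h1 h2 _
    have hz : ∀ q, IsZero (K.X q) := fun q => by
      by_cases hq : q < a
      · exact h1 q hq
      · exact h2 q (by simp; omega)
    haveI : Subsingleton (K.X a) := ModuleCat.subsingleton_of_isZero (hz a)
    exact HK_concentrated K a (fun q _ => hz q) inferInstance inferInstance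
  | succ n ih =>
    intro K a h1 h2 hfl
    have hS := brutal_stable K (a + 1)
    refine HK.of_degreewiseSplit₂ (sc K (brutal K (a + 1)) hS) (brutalSplitting K (a + 1)) ?_ ?_
    · refine ih (sub K (brutal K (a + 1)) hS) (a + 1) ?_ ?_ ?_
      · intro i hi
        have hb := brutal_of_lt K hi
        change IsZero (ModuleCat.of A (brutal K (a + 1) i))
        haveI : Subsingleton (brutal K (a + 1) i) := by rw [hb]; infer_instance
        exact ModuleCat.isZero_of_subsingleton _
      · intro i hi
        change IsZero (ModuleCat.of A (brutal K (a + 1) i))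
        haveI : Subsingleton (K.X i) := ModuleCat.subsingleton_of_isZero (h2 i (by push_cast; omega))
        haveI : Subsingleton (brutal K (a + 1) i) := inferInstance
        exact ModuleCat.isZero_of_subsingleton _
      · intro i
        change Module.Finite A (brutal K (a + 1) i) ∧ Module.Projective A (brutal K (a + 1) i)
        by_cases hi : a + 1 ≤ i
        · rw [brutal_of_le K hi]
          haveI := (hfl i).1
          haveI := (hfl i).2
          exact ⟨Module.Finite.equiv (Submodule.topEquiv (R := A) (M := K.X i)).symm,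
            Module.Projective.of_equiv (Submodule.topEquiv (R := A) (M := K.X i)).symm⟩
        · rw [brutal_of_lt K (not_le.mp hi)]
          exact ⟨inferInstance, inferInstance⟩
    · refine HK_concentrated _ a ?_ ?_ ?_
      · intro q hq
        change IsZero (ModuleCat.of A (K.X q ⧸ brutal K (a + 1) q))
        by_cases hq' : q < a
        · haveI : Subsingleton (K.X q) := ModuleCat.subsingleton_of_isZero (h1 q hq')
          haveI : Subsingleton (K.X q ⧸ brutal K (a + 1) q) := inferInstance
          exact ModuleCat.isZero_of_subsingleton _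
        · have hb := brutal_of_le K (show a + 1 ≤ q by omega)
          haveI : Subsingleton (K.X q ⧸ brutal K (a + 1) q) := by
            rw [hb]
            exact Submodule.Quotient.subsingleton_iff.2 rfl
          exact ModuleCat.isZero_of_subsingleton _
      · change Module.Finite A (K.X a ⧸ brutal K (a + 1) a)
        haveI := (hfl a).1
        infer_instance
      · change Module.Projective A (K.X a ⧸ brutal K (a + 1) a)
        rw [brutal_of_lt K (show a < a + 1 by omega)]
        haveI := (hfl a).2
        exact Module.Projective.of_equiv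
          (Submodule.quotEquivOfEqBot (⊥ : Submodule A (K.X a)) rfl).symm

theorem HK_of_bounded (K : Cx A) (a b : ℤ)
    (h1 : ∀ i, i < a → IsZero (K.X i)) (h2 : ∀ i, b < i → IsZero (K.X i))
    (hfl : ∀ i, Module.Finite A (K.X i) ∧ Module.Projective A (K.X i)) : HK K := by
  refine HK_of_bounded_aux (b + 1 - a).toNat K a h1 (fun i hi => h2 i ?_) hfl
  have := Int.self_le_toNat (b + 1 - a)
  omega

end Groth.Agent.H4.HKF3
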