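import Mathlib
import Groth.Agent.H4.HKF3
import Groth.Agent.H4.DetQis
import Groth.Agent.Lib.Helper3.PerfAux

set_option autoImplicit false
universe u
open CategoryTheory Category Limits MonoidalCategory HomologicalComplex CochainComplex Pretriangulated

namespace Groth.Agent.H4.HKF4

open DerivedCategory Groth.Agent.H4.HC1 Groth.Agent.H4.HC6
  Groth.Agent.H4.TC4 Groth.Agent.H4.TC5 Groth.Agent.H4.TC11 HomComplex Groth.Agent.H4.HKF1
  Groth.Agent.H4.HKF2 Groth.Agent.H4.HKF3 Groth.Agent.H4.DRing1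

attribute [local instance] HasDerivedCategory.standard

variable {A : Type u} [CommRing A]

theorem nonempty_homotopyEquiv_of_iso (E P : Cx A) [E.IsKProjective] [P.IsKProjective]
    (e : DRing.toD E ≅ DRing.toD P) : Nonempty (HomotopyEquiv E P) := by
  obtain ⟨f, hf⟩ := Groth.Agent.H3.PerfAux.exists_map_of_isKProjective E P e.hom
  obtain ⟨g, hg⟩ := Groth.Agent.H3.PerfAux.exists_map_of_isKProjective P E e.inv
  have h1 : DerivedCategory.Q.map (f ≫ g - 𝟙 E) = 0 := by
    rw [Functor.map_sub, CategoryTheory.Functor.map_comp, hf, hg, e.hom_inv_id,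
      CategoryTheory.Functor.map_id, sub_self]
  have h2 : DerivedCategory.Q.map (g ≫ f - 𝟙 P) = 0 := by
    rw [Functor.map_sub, CategoryTheory.Functor.map_comp, hf, hg, e.inv_hom_id,
      CategoryTheory.Functor.map_id, sub_self]
  obtain ⟨H1⟩ := Groth.Agent.H4.DetQis.homotopy_of_Q_map_eq_zero E E _ h1
  obtain ⟨H2⟩ := Groth.Agent.H4.DetQis.homotopy_of_Q_map_eq_zero P P _ h2
  exact ⟨{ hom := f, inv := g, homotopyHomInvId := Homotopy.equivSubZero.symm H1,
           homotopyInvHomId := Homotopy.equivSubZero.symm H2 }⟩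

theorem homCxPre_homotopy {P P' : Cx A} {j j' : P' ⟶ P} (H : Homotopy j j') (Y : Cx A) :
    Nonempty (Homotopy (homCxPre j Y) (homCxPre j' Y)) := by
  let h : Cochain P' P (-1) := Cochain.ofHomotopy H
  have hδ : δ (-1) 0 h = Cochain.ofHom j - Cochain.ofHom j' := δ_ofHomotopy H
  let Z : Cochain (DRing.homCx P Y) (DRing.homCx P' Y) (-1) :=
    Cochain.mk (fun p q hpq => ModuleCat.ofHom
      (((p.negOnePow : ℤ) : A) • precompCochain h Y p q (by omega)))
  refine ⟨(Cochain.equivHomotopy _ _).symm ⟨Z, ?_⟩⟩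
  refine Cochain.ext₀ _ _ (fun p => ?_)
  rw [Cochain.add_v, δ_v (-1) 0 (by simp) Z p p (add_zero p) (p - 1) (p + 1) (by omega) rfl]
  simp only [Cochain.ofHom_v, Int.negOnePow_zero, one_smul]
  apply ModuleCat.hom_ext
  apply LinearMap.ext
  intro (z : Cochain P Y p)
  change (Cochain.ofHom j).comp z (zero_add p) =
    δ (p - 1) p ((((p.negOnePow : ℤ) : A)) • h.comp z (by omega)) +
      ((((p + 1).negOnePow : ℤ) : A)) • h.comp (δ p (p + 1) z) (by omega) +
      (Cochain.ofHom j').comp z (zero_add p)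
  rw [δ_smul, δ_comp h z (show (-1 : ℤ) + p = p - 1 by omega) 0 (p + 1) p (by omega) (by simp) rfl,
    hδ, Int.negOnePow_succ, Cochain.sub_comp]
  rcases Int.units_eq_one_or p.negOnePow with hp | hp
  · simp only [hp, Units.val_one, Int.cast_one, one_smul, Units.val_neg, Int.cast_neg, neg_smul]
    abel
  · simp only [hp, Units.val_one, Int.cast_one, one_smul, Units.val_neg, Int.cast_neg, neg_smul,
      neg_neg, smul_add, smul_sub, neg_sub]
    simp only [Units.neg_smul, one_smul, neg_neg]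
    abel

theorem nonempty_homCxPreHomotopyEquiv {E P : Cx A} (e : HomotopyEquiv E P) (Y : Cx A) :
    Nonempty (HomotopyEquiv (DRing.homCx P Y) (DRing.homCx E Y)) := by
  obtain ⟨H1⟩ := homCxPre_homotopy e.homotopyInvHomId Y
  obtain ⟨H2⟩ := homCxPre_homotopy e.homotopyHomInvId Y
  exact ⟨{ hom := homCxPre e.hom Y
           inv := homCxPre e.inv Y
           homotopyHomInvId := (Homotopy.ofEq (homCxPre_comp e.hom e.inv Y).symm).trans
             (H1.trans (Homotopy.ofEq (homCxPre_id P Y)))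
           homotopyInvHomId := (Homotopy.ofEq (homCxPre_comp e.inv e.hom Y).symm).trans
             (H2.trans (Homotopy.ofEq (homCxPre_id E Y))) }⟩

theorem main (P K : Cx A) (b : ℤ) (hPb : DRing.VanishesAbove P b)
    (hPp : ∀ i : ℤ, Module.Projective A (P.X i))
    (hperf : DRing.IsPerfect A (DRing.toD P)) (hK : KFlat K) : KFlat (DRing.homCx P K) := by
  obtain ⟨E, a, b', hz, hE, ⟨e⟩⟩ := hperf
  haveI : E.IsKProjective := isKProjective_of_vanishesAbove_projective E b'
    (fun i hi => hz i (Or.inr hi)) (fun i => (hE i).2)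
  haveI : P.IsKProjective := isKProjective_of_vanishesAbove_projective P b hPb hPp
  obtain ⟨he⟩ := nonempty_homotopyEquiv_of_iso E P e
  obtain ⟨he'⟩ := nonempty_homCxPreHomotopyEquiv he K
  refine KFlat.of_homotopyEquiv he'.symm ?_
  exact HK_of_bounded E a b' (fun i hi => hz i (Or.inl hi)) (fun i hi => hz i (Or.inr hi)) hE K hK

end Groth.Agent.H4.HKF4
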