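import Mathlib
import Groth.Agent.H4.HPa
import Groth.Agent.H4.MvGr
import Groth.Agent.Lib.Lead.PN.OverBridge
import Groth.Agent.Lib.Helper5.AG.HProj
import Groth.Agent.S4421
import Groth.Prelude.Def_RelProj

set_option autoImplicit false
universe u
open CategoryTheory CategoryTheory.Limits AlgebraicGeometry TopologicalSpace Opposite
open Groth.Agent.H4.MvGr Groth.Agent.H4.HPa
open scoped HomogeneousIdeal

namespace Groth.Agent.H4.HPb
noncomputable section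

section SpecBase
variable (A : Type u) [CommRing A] (𝒮 : RelProj.QCGrAlg (Spec (CommRingCat.of A)))

def rho : A →+* 𝒮.presheaf.obj (op ⊤) := ((𝒮.str.app (op ⊤)).hom).comp (gJ A)

lemma rho_apply (a : A) : rho A 𝒮 a = (𝒮.str.app (op ⊤)).hom (gJ A a) := rfl

lemma rho_mem (a : A) : rho A 𝒮 a ∈ 𝒮.deg ⊤ (hT A) 0 := 𝒮.str_mem ⊤ (hT A) (gJ A a)

lemma exists_indexed (hft : 𝒮.IsFTDeg 1) :
    ∃ (n : ℕ) (t : Fin (n + 1) → 𝒮.presheaf.obj (op ⊤)), (∀ i, t i ∈ 𝒮.deg ⊤ (hT A) 1) ∧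
      ∀ x ∈ 𝒮.deg ⊤ (hT A) 1, ∃ c : Fin (n + 1) → A, x = ∑ i, rho A 𝒮 (c i) * t i := by
  classical
  obtain ⟨T, hTsub, hTspan⟩ := hft ⊤ (hT A)
  refine ⟨T.card, Fin.cons 0 (fun k => ((T.equivFin.symm k : T) : 𝒮.presheaf.obj (op ⊤))), ?_, ?_⟩
  · intro i
    refine Fin.cases ?_ (fun k => ?_) i
    · rw [Fin.cons_zero]; exact zero_mem _
    · rw [Fin.cons_succ]; exact hTsub (T.equivFin.symm k).2
  · intro x hx
    obtain ⟨c, hc⟩ := hTspan x hx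
    refine ⟨Fin.cons 0 (fun k => gI A (c (T.equivFin.symm k).1)), ?_⟩
    rw [Fin.sum_univ_succ]
    simp only [Fin.cons_zero, Fin.cons_succ]
    rw [mul_zero, zero_add, hc, ← Finset.sum_coe_sort T, ← Equiv.sum_comp T.equivFin.symm]
    refine Finset.sum_congr rfl fun k _ => ?_
    rw [rho_apply, gJ_gI]

section C
variable {A 𝒮} (n : ℕ) (t : Fin (n + 1) → 𝒮.presheaf.obj (op ⊤)) (ht : ∀ i, t i ∈ 𝒮.deg ⊤ (hT A) 1)
  (hirr : (𝒮.deg ⊤ (hT A))₊ ≤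
    ((CohB1.polyGrading n A)₊).map (evalG (𝒮.deg ⊤ (hT A)) (rho A 𝒮) (rho_mem A 𝒮) n t ht))

def cmap : Proj (𝒮.deg ⊤ (hT A)) ⟶ CohB1.ProjSpace n A :=
  Proj.map (evalG (𝒮.deg ⊤ (hT A)) (rho A 𝒮) (rho_mem A 𝒮) n t ht) hirr

lemma cmap_toSpec : cmap n t ht hirr ≫ CohB1.ProjSpace.toSpec n A =
    Proj.toSpecZero (𝒮.deg ⊤ (hT A)) ≫ Spec.map (𝒮.strZero ⊤ (hT A)) ≫ (hT A).fromSpec := by
  show Proj.map (evalG (𝒮.deg ⊤ (hT A)) (rho A 𝒮) (rho_mem A 𝒮) n t ht) hirr ≫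
    (Proj.toSpecZero (CohB1.polyGrading n A) ≫
      Spec.map (CommRingCat.ofHom (algebraMap A (CohB1.polyGrading n A 0)))) = _
  rw [← Category.assoc, Groth.Agent.H4.ProjG.map_toSpecZero, Category.assoc]
  congr 1
  rw [IsAffineOpen.fromSpec_top, Scheme.isoSpec_Spec_inv, ← Spec.map_comp, ← Spec.map_comp]
  congr 1
  refine CommRingCat.hom_ext (RingHom.ext fun a => Subtype.ext ?_)
  show MvPolynomial.eval₂Hom (rho A 𝒮) t (MvPolynomial.C a) = (𝒮.str.app (op ⊤)).hom (gJ A a)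
  rw [MvPolynomial.coe_eval₂Hom, MvPolynomial.eval₂_C, rho_apply]

end C

variable {A 𝒮} in
theorem core {X P : Scheme.{u}} (h : X ⟶ Spec (CommRingCat.of A)) (p : P ⟶ Spec (CommRingCat.of A))
    (chart : ∀ (U : (Spec (CommRingCat.of A)).Opens) (hU : IsAffineOpen U),
      ((p ⁻¹ᵁ U : P.Opens) : Scheme.{u}) ≅ Proj (𝒮.deg U hU))
    (e : X ≅ P) (hgen : 𝒮.IsGenDegOne) (hP : RelProj.IsRelProj 𝒮 p chart) (hep : e.hom ≫ p = h)
    (n : ℕ) (t : Fin (n + 1) → 𝒮.presheaf.obj (op ⊤)) (ht : ∀ i, t i ∈ 𝒮.deg ⊤ (hT A) 1)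
    (hspan : ∀ x ∈ 𝒮.deg ⊤ (hT A) 1, ∃ c : Fin (n + 1) → A, x = ∑ i, rho A 𝒮 (c i) * t i) :
    RelProj.IsHProjective h := by
  have hsurj := evalG_surj (𝒮.deg ⊤ (hT A)) (rho A 𝒮) (rho_mem A 𝒮) n t ht (hgen ⊤ (hT A)) hspan
  have hirr := irrelevant_le_of_tn (evalG (𝒮.deg ⊤ (hT A)) (rho A 𝒮) (rho_mem A 𝒮) n t ht) hsurj
  haveI hci : IsClosedImmersion (cmap n t ht hirr) :=
    isClosedImmersion_map_of_tn _ hirr 1 hsurj
  haveI : IsIso (p ⁻¹ᵁ ⊤).ι := by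
    rw [Scheme.Hom.preimage_top]
    exact Iso.isIso_hom P.topIso
  refine ⟨n, e.hom ≫ inv (p ⁻¹ᵁ ⊤).ι ≫ (chart ⊤ (hT A)).hom ≫ cmap n t ht hirr ≫
    (Groth.Agent.LD.PN.OB.bridge n A).hom, ?_, ?_⟩
  · infer_instance
  · simp only [Category.assoc]
    rw [Groth.Agent.LD.PN.OB.bridge_hom_toBase, cmap_toSpec, hP.chart_over ⊤ (hT A),
      IsIso.inv_hom_id_assoc, hep]

theorem isHProjective_of_isProjective_spec {X : Scheme.{u}} (h : X ⟶ Spec (CommRingCat.of A))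
    (hh : RelProj.IsProjective h) : RelProj.IsHProjective h := by
  obtain ⟨𝒮, P, p, chart, e, hgen, hft, hP, hep⟩ := hh
  obtain ⟨n, t, ht, hspan⟩ := exists_indexed A 𝒮 hft
  exact core h p chart e hgen hP hep n t ht hspan

end SpecBase

section Affine

theorem isProjective_of_iso {X X' T : Scheme.{u}} (f : X ⟶ T) (e' : X' ≅ X)
    (hf : RelProj.IsProjective f) : RelProj.IsProjective (e'.hom ≫ f) := by
  obtain ⟨𝒮, P, p, chart, e, hgen, hft, hP, he⟩ := hf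
  exact ⟨𝒮, P, p, chart, e' ≪≫ e, hgen, hft, hP, by rw [Iso.trans_hom, Category.assoc, he]⟩

/-- a projective morphism with affine target is H-projective. -/
theorem isHProjective_of_isProjective_affine {X V : Scheme.{u}} [IsAffine V] (g : X ⟶ V)
    (hg : RelProj.IsProjective g) : RelProj.IsHProjective g := by
  obtain ⟨φ, -⟩ : ∃ φ : V ≅ Spec (CommRingCat.of Γ(V, ⊤)), φ = V.isoSpec := ⟨V.isoSpec, rfl⟩
  have h1 := Groth.Agent.S4421.result g hg φ.inv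
  have h2 := isHProjective_of_isProjective_spec _ _ h1
  have h3 := Groth.Agent.H5.AG.isHProjective_baseChange _ h2 φ.hom
  obtain ⟨n, i, hi, hcomp⟩ := h3
  have c1 := pullback.condition (f := g) (g := φ.inv)
  have c2 := pullback.condition (f := pullback.snd g φ.inv) (g := φ.hom)
  have hε : pullback.snd (pullback.snd g φ.inv) φ.hom =
      (pullback.fst (pullback.snd g φ.inv) φ.hom ≫ pullback.fst g φ.inv) ≫ g := by
    calc pullback.snd (pullback.snd g φ.inv) φ.hom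
        = pullback.snd (pullback.snd g φ.inv) φ.hom ≫ φ.hom ≫ φ.inv := by
          rw [Iso.hom_inv_id, Category.comp_id]
      _ = (pullback.fst (pullback.snd g φ.inv) φ.hom ≫ pullback.snd g φ.inv) ≫ φ.inv := by
          rw [← Category.assoc, ← c2]
      _ = pullback.fst (pullback.snd g φ.inv) φ.hom ≫ pullback.fst g φ.inv ≫ g := by
          rw [Category.assoc, ← c1]
      _ = _ := (Category.assoc _ _ _).symm
  haveI := hi
  refine ⟨n, inv (pullback.fst (pullback.snd g φ.inv) φ.hom ≫ pullback.fst g φ.inv) ≫ i,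
    inferInstance, ?_⟩
  rw [Category.assoc, hcomp, hε, IsIso.inv_hom_id_assoc]

/-- restriction of a projective morphism to a smaller open of the base. -/
theorem restrict_isProjective {X S : Scheme.{u}} (f : X ⟶ S) {U₀ W : S.Opens}
    (h : RelProj.IsProjective (f ∣_ U₀)) (hWU : W ≤ U₀) : RelProj.IsProjective (f ∣_ W) := by
  have H0 : IsPullback (𝟙 X) f f (𝟙 S) := IsPullback.of_id_fst
  have hUY : f ⁻¹ᵁ W = (𝟙 X) ⁻¹ᵁ (f ⁻¹ᵁ U₀) ⊓ f ⁻¹ᵁ W := by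
    rw [Scheme.Hom.id_preimage]
    exact (inf_of_le_right (f.preimage_mono hWU)).symm
  have hUST : W ≤ (𝟙 S) ⁻¹ᵁ U₀ := by
    rw [Scheme.Hom.id_preimage]; exact hWU
  have H1 := Scheme.Hom.isPullback_resLE H0 (US := U₀) (UT := W) (UX := f ⁻¹ᵁ U₀) hUST le_rfl hUY
  have e2 : f.resLE U₀ (f ⁻¹ᵁ U₀) le_rfl = f ∣_ U₀ := Scheme.Hom.resLE_eq_morphismRestrict _
  have e1 : f.resLE W (f ⁻¹ᵁ W) le_rfl = f ∣_ W := Scheme.Hom.resLE_eq_morphismRestrict _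
  rw [e2] at H1
  have hproj := Groth.Agent.S4421.result (f ∣_ U₀) h (Scheme.Hom.resLE (𝟙 S) U₀ W hUST)
  have h2 := isProjective_of_iso _ H1.isoPullback hproj
  rw [IsPullback.isoPullback_hom_snd] at h2
  rw [← e1]
  exact h2

end Affine

end

end Groth.Agent.H4.HPb
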