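import Mathlib
set_option autoImplicit false
universe u
open scoped TensorProduct

namespace Groth.Agent.H4.RL1

variable {A : Type u} [CommRing A] (I : Ideal A) (M : Type u) [AddCommGroup M] [Module A M]

/-- `M/I^nM` -/
abbrev Nn (n : ℕ) : Type u := M ⧸ (I ^ n • ⊤ : Submodule A M)

/-- transition maps -/
def qn (n : ℕ) : Nn I M (n + 1) →ₗ[A] Nn I M n :=
  Submodule.mapQ _ _ LinearMap.id
    (Submodule.smul_mono (Ideal.pow_le_pow_right (Nat.le_succ n)) le_rfl)

lemma qn_comp_mkQ (n : ℕ) :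
    (qn I M n) ∘ₗ (I ^ (n + 1) • ⊤ : Submodule A M).mkQ = (I ^ n • ⊤ : Submodule A M).mkQ := rfl

lemma qn_surjective (n : ℕ) : Function.Surjective (qn I M n) := by
  intro y
  obtain ⟨m, rfl⟩ := Submodule.Quotient.mk_surjective _ y
  exact ⟨Submodule.Quotient.mk m, rfl⟩

variable (X : Type u) [AddCommGroup X] [Module A X]

lemma smul_tensor_eq_zero (n : ℕ) (a : A) (ha : a ∈ I ^ n) (w : X ⊗[A] Nn I M n) : a • w = 0 := by
  induction w using TensorProduct.induction_on with
  | zero => simp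
  | tmul x y =>
    obtain ⟨m, rfl⟩ := Submodule.Quotient.mk_surjective _ y
    rw [← TensorProduct.tmul_smul, ← Submodule.Quotient.mk_smul,
      (Submodule.Quotient.mk_eq_zero _).2 (Submodule.smul_mem_smul ha Submodule.mem_top),
      TensorProduct.tmul_zero]
  | add a b ha hb => rw [smul_add, ha, hb, add_zero]

/-- `(X⊗M)/I^n → X ⊗ M/I^n`. -/
def jn (n : ℕ) : ((X ⊗[A] M) ⧸ (I ^ n • ⊤ : Submodule A (X ⊗[A] M))) →ₗ[A] X ⊗[A] Nn I M n :=
  Submodule.liftQ _ ((I ^ n • ⊤ : Submodule A M).mkQ.lTensor X) (by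
    rw [Submodule.smul_le]
    intro a ha z _
    rw [LinearMap.mem_ker, map_smul]
    exact smul_tensor_eq_zero I M X n a ha _)

lemma jn_mk (n : ℕ) (w : X ⊗[A] M) :
    jn I M X n (Submodule.Quotient.mk w) = (I ^ n • ⊤ : Submodule A M).mkQ.lTensor X w := rfl

lemma jn_surjective (n : ℕ) : Function.Surjective (jn I M X n) := by
  intro y
  obtain ⟨w, rfl⟩ := LinearMap.lTensor_surjective X
    (Submodule.mkQ_surjective (I ^ n • ⊤ : Submodule A M)) y
  exact ⟨Submodule.Quotient.mk w, rfl⟩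

lemma jn_injective (n : ℕ) : Function.Injective (jn I M X n) := by
  rw [← LinearMap.ker_eq_bot]
  apply Submodule.ker_liftQ_eq_bot
  intro w hw
  have hex := lTensor_exact X (LinearMap.exact_subtype_mkQ (I ^ n • ⊤ : Submodule A M))
    (Submodule.mkQ_surjective _)
  obtain ⟨v, rfl⟩ := (hex w).1 hw
  clear hw
  induction v using TensorProduct.induction_on with
  | zero => simp
  | tmul x y =>
    rw [LinearMap.lTensor_tmul]
    obtain ⟨y, hy⟩ := y
    change x ⊗ₜ[A] y ∈ _
    refine Submodule.smul_induction_on hy (fun a ha m _ => ?_) (fun m₁ m₂ h₁ h₂ => ?_)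
    · rw [TensorProduct.tmul_smul]
      exact Submodule.smul_mem_smul ha Submodule.mem_top
    · rw [TensorProduct.tmul_add]
      exact Submodule.add_mem _ h₁ h₂
  | add a b ha hb =>
    rw [map_add]
    exact Submodule.add_mem _ ha hb

lemma jn_transition (n : ℕ)
    (z : (X ⊗[A] M) ⧸ (I ^ (n + 1) • ⊤ : Submodule A (X ⊗[A] M))) :
    (qn I M n).lTensor X (jn I M X (n + 1) z) =
      jn I M X n (AdicCompletion.transitionMap I (X ⊗[A] M) (Nat.le_succ n) z) := by
  obtain ⟨w, rfl⟩ := Submodule.Quotient.mk_surjective _ z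
  change (qn I M n).lTensor X ((I ^ (n + 1) • ⊤ : Submodule A M).mkQ.lTensor X w) =
    (I ^ n • ⊤ : Submodule A M).mkQ.lTensor X w
  rw [← LinearMap.lTensor_comp_apply, qn_comp_mkQ]

/-- `(X⊗M)^ → ∏ X ⊗ M/I^n`. -/
noncomputable def rho : AdicCompletion I (X ⊗[A] M) →ₗ[A] (∀ n, X ⊗[A] Nn I M n) :=
  LinearMap.pi (fun n => (jn I M X n) ∘ₗ (AdicCompletion.eval I (X ⊗[A] M) n))

lemma rho_apply (w : AdicCompletion I (X ⊗[A] M)) (n : ℕ) :
    rho I M X w n = jn I M X n (w.val n) := rfl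

/-- identity minus shift -/
noncomputable def sh : (∀ n, X ⊗[A] Nn I M n) →ₗ[A] (∀ n, X ⊗[A] Nn I M n) :=
  LinearMap.pi (fun n =>
    (LinearMap.proj n : (∀ k, X ⊗[A] Nn I M k) →ₗ[A] X ⊗[A] Nn I M n) -
      ((qn I M n).lTensor X) ∘ₗ
        (LinearMap.proj (n + 1) : (∀ k, X ⊗[A] Nn I M k) →ₗ[A] X ⊗[A] Nn I M (n + 1)))

lemma sh_apply (x : ∀ n, X ⊗[A] Nn I M n) (n : ℕ) :
    sh I M X x n = x n - (qn I M n).lTensor X (x (n + 1)) := rfl

lemma sh_rho (w : AdicCompletion I (X ⊗[A] M)) : sh I M X (rho I M X w) = 0 := by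
  funext n
  rw [sh_apply, rho_apply, rho_apply, jn_transition, w.property (Nat.le_succ n), sub_self]
  rfl

lemma rho_injective : Function.Injective (rho I M X) := by
  rw [injective_iff_map_eq_zero]
  intro w hw
  apply AdicCompletion.ext
  intro n
  apply jn_injective I M X n
  have := congrFun hw n
  rw [rho_apply] at this
  rw [this]
  exact (map_zero _).symm

lemma compat_of_succ {Y : Type u} [AddCommGroup Y] [Module A Y]
    (f : ∀ n : ℕ, Y ⧸ (I ^ n • ⊤ : Submodule A Y))
    (h : ∀ n, AdicCompletion.transitionMap I Y (Nat.le_succ n) (f (n + 1)) = f n) :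
    ∀ {m n : ℕ} (hmn : m ≤ n), AdicCompletion.transitionMap I Y hmn (f n) = f m := by
  intro m n hmn
  induction n, hmn using Nat.le_induction with
  | base =>
    obtain ⟨w, hw⟩ := Submodule.Quotient.mk_surjective _ (f m)
    rw [← hw]
    rfl
  | succ n hmn ih =>
    rw [← ih, ← h n]
    obtain ⟨w, hw⟩ := Submodule.Quotient.mk_surjective _ (f (n + 1))
    rw [← hw]
    rfl

lemma ker_sh_le_range_rho (x : ∀ n, X ⊗[A] Nn I M n) (hx : sh I M X x = 0) :
    ∃ w, rho I M X w = x := by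
  have hx' : ∀ n, x n = (qn I M n).lTensor X (x (n + 1)) := by
    intro n
    have := congrFun hx n
    rw [sh_apply] at this
    exact sub_eq_zero.1 this
  choose f hf using fun n => jn_surjective I M X n (x n)
  have hcompat : ∀ n, AdicCompletion.transitionMap I (X ⊗[A] M) (Nat.le_succ n) (f (n + 1)) = f n := by
    intro n
    apply jn_injective I M X n
    rw [← jn_transition, hf, hf, ← hx' n]
  refine ⟨⟨f, compat_of_succ I f hcompat⟩, ?_⟩
  funext n
  rw [rho_apply]
  exact hf n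

lemma sh_surjective : Function.Surjective (sh I M X) := by
  intro y
  have hsurj : ∀ n, Function.Surjective ((qn I M n).lTensor X) :=
    fun n => LinearMap.lTensor_surjective X (qn_surjective I M n)
  let x : ∀ n : ℕ, X ⊗[A] Nn I M n := fun n =>
    Nat.rec (motive := fun n => X ⊗[A] Nn I M n) 0
      (fun n xn => (hsurj n (xn - y n)).choose) n
  have hx : ∀ n, (qn I M n).lTensor X (x (n + 1)) = x n - y n :=
    fun n => (hsurj n (x n - y n)).choose_spec
  refine ⟨x, ?_⟩
  funext n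
  rw [sh_apply, hx n, sub_sub_cancel]

section nat

variable {X} {X' : Type u} [AddCommGroup X'] [Module A X'] (h : X →ₗ[A] X')

lemma jn_natural (n : ℕ) (z : (X ⊗[A] M) ⧸ (I ^ n • ⊤ : Submodule A (X ⊗[A] M))) :
    (h.rTensor (Nn I M n)) (jn I M X n z) =
      jn I M X' n ((h.rTensor M).reduceModIdeal (I ^ n) z) := by
  obtain ⟨w, rfl⟩ := Submodule.Quotient.mk_surjective _ z
  rw [LinearMap.reduceModIdeal_apply, jn_mk, jn_mk, ← LinearMap.comp_apply, ← LinearMap.comp_apply,
    LinearMap.rTensor_comp_lTensor, LinearMap.lTensor_comp_rTensor]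

lemma rho_natural (w : AdicCompletion I (X ⊗[A] M)) (n : ℕ) :
    rho I M X' (AdicCompletion.map I (h.rTensor M) w) n = (h.rTensor (Nn I M n)) (rho I M X w n) := by
  rw [rho_apply, rho_apply, AdicCompletion.map_val_apply, jn_natural]

lemma sh_natural (x : ∀ n, X ⊗[A] Nn I M n) (n : ℕ) :
    sh I M X' (fun k => (h.rTensor (Nn I M k)) (x k)) n = (h.rTensor (Nn I M n)) (sh I M X x n) := by
  rw [sh_apply, sh_apply, map_sub, ← LinearMap.comp_apply, ← LinearMap.comp_apply,
    LinearMap.rTensor_comp_lTensor, LinearMap.lTensor_comp_rTensor]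

end nat

end Groth.Agent.H4.RL1
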