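import Mathlib
import Groth.Prelude.Def_DCoh2
import Groth.Agent.H4.RL1
import Groth.Agent.H4.ACF3
import Groth.Agent.H4.DProdU
set_option autoImplicit false
universe u
open CategoryTheory CategoryTheory.Limits MonoidalCategory CategoryTheory.Pretriangulated
open scoped TensorProduct

namespace Groth.Agent.H4.RL2

attribute [local instance] HasDerivedCategory.standard
open DerivedCategory Groth.Agent.H4.RL1

variable {A : Type u} [CommRing A] (I : Ideal A) (M : Type u) [AddCommGroup M] [Module A M]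

/-- `X ↦ X ⊗ M/I^n` -/
noncomputable abbrev Fn (n : ℕ) : ModuleCat.{u} A ⥤ ModuleCat.{u} A :=
  tensorRight (ModuleCat.of A (Nn I M n))

/-- `X ↦ (X ⊗ M)^` -/
noncomputable def FΛ : ModuleCat.{u} A ⥤ ModuleCat.{u} A where
  obj X := ModuleCat.of A (AdicCompletion I (X ⊗[A] M))
  map f := ModuleCat.ofHom (Groth.Agent.H4.ACF3.T I M f.hom)
  map_id X := by
    apply ModuleCat.hom_ext
    apply LinearMap.ext
    intro y
    exact Groth.Agent.H4.ACF3.T_id I M y
  map_comp f g := by
    apply ModuleCat.hom_ext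
    apply LinearMap.ext
    intro y
    exact Groth.Agent.H4.ACF3.T_comp I M f.hom g.hom y

instance : (FΛ I M).Additive where
  map_add {X Y f g} := by
    apply ModuleCat.hom_ext
    apply LinearMap.ext
    intro y
    exact Groth.Agent.H4.ACF3.T_add I M f.hom g.hom y

/-- `X ↦ ∏ₙ X ⊗ M/I^n` -/
noncomputable def FPi : ModuleCat.{u} A ⥤ ModuleCat.{u} A where
  obj X := ModuleCat.of A (∀ n, X ⊗[A] Nn I M n)
  map f := ModuleCat.ofHom (LinearMap.pi fun n => (f.hom.rTensor (Nn I M n)) ∘ₗ LinearMap.proj n)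
  map_id X := by
    apply ModuleCat.hom_ext
    apply LinearMap.ext
    intro y
    funext n
    change ((𝟙 X : X ⟶ X).hom.rTensor (Nn I M n)) (y n) = y n
    rw [ModuleCat.hom_id, LinearMap.rTensor_id]
    rfl
  map_comp f g := by
    apply ModuleCat.hom_ext
    apply LinearMap.ext
    intro y
    funext n
    change ((f ≫ g).hom.rTensor (Nn I M n)) (y n) =
      (g.hom.rTensor (Nn I M n)) ((f.hom.rTensor (Nn I M n)) (y n))
    rw [ModuleCat.hom_comp, LinearMap.rTensor_comp]
    rfl

instance : (FPi I M).Additive where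
  map_add {X Y f g} := by
    apply ModuleCat.hom_ext
    apply LinearMap.ext
    intro y
    funext n
    change ((f + g).hom.rTensor (Nn I M n)) (y n) =
      (f.hom.rTensor (Nn I M n)) (y n) + (g.hom.rTensor (Nn I M n)) (y n)
    rw [ModuleCat.hom_add, LinearMap.rTensor_add]
    rfl

noncomputable def ρN : FΛ I M ⟶ FPi I M where
  app X := ModuleCat.ofHom (rho I M X)
  naturality X Y f := by
    apply ModuleCat.hom_ext
    apply LinearMap.ext
    intro w
    funext n
    exact rho_natural I M f.hom w n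

noncomputable def σN : FPi I M ⟶ FPi I M where
  app X := ModuleCat.ofHom (sh I M X)
  naturality X Y f := by
    apply ModuleCat.hom_ext
    apply LinearMap.ext
    intro x
    funext n
    exact sh_natural I M f.hom x n

noncomputable def πN (n : ℕ) : FPi I M ⟶ Fn I M n where
  app X := ModuleCat.ofHom (LinearMap.proj n)
  naturality X Y f := by
    apply ModuleCat.hom_ext
    apply LinearMap.ext
    intro x
    rfl

noncomputable def τN (n : ℕ) : Fn I M (n + 1) ⟶ Fn I M n :=
  (tensoringRight (ModuleCat.{u} A)).map (ModuleCat.ofHom (qn I M n))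

lemma σ_π (n : ℕ) : σN I M ≫ πN I M n = πN I M n - πN I M (n + 1) ≫ τN I M n := by
  ext X : 2
  apply ModuleCat.hom_ext
  apply LinearMap.ext
  intro x
  exact sh_apply I M X x n

variable (P : CochainComplex (ModuleCat.{u} A) ℤ)

noncomputable abbrev CΛ : CochainComplex (ModuleCat.{u} A) ℤ :=
  ((FΛ I M).mapHomologicalComplex (ComplexShape.up ℤ)).obj P
noncomputable abbrev CPi : CochainComplex (ModuleCat.{u} A) ℤ :=
  ((FPi I M).mapHomologicalComplex (ComplexShape.up ℤ)).obj P
noncomputable abbrev Cn (n : ℕ) : CochainComplex (ModuleCat.{u} A) ℤ :=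
  ((Fn I M n).mapHomologicalComplex (ComplexShape.up ℤ)).obj P
noncomputable abbrev ρC : CΛ I M P ⟶ CPi I M P :=
  (NatTrans.mapHomologicalComplex (ρN I M) (ComplexShape.up ℤ)).app P
noncomputable abbrev σC : CPi I M P ⟶ CPi I M P :=
  (NatTrans.mapHomologicalComplex (σN I M) (ComplexShape.up ℤ)).app P
noncomputable abbrev πC (n : ℕ) : CPi I M P ⟶ Cn I M P n :=
  (NatTrans.mapHomologicalComplex (πN I M n) (ComplexShape.up ℤ)).app P
noncomputable abbrev τC (n : ℕ) : Cn I M P (n + 1) ⟶ Cn I M P n :=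
  (NatTrans.mapHomologicalComplex (τN I M n) (ComplexShape.up ℤ)).app P

lemma σC_πC (n : ℕ) :
    σC I M P ≫ πC I M P n = πC I M P n - πC I M P (n + 1) ≫ τC I M P n := by
  ext i : 1
  exact congrArg (fun η => η.app (P.X i)) (σ_π I M n)

noncomputable def S : ShortComplex (CochainComplex (ModuleCat.{u} A) ℤ) :=
  ShortComplex.mk (ρC I M P) (σC I M P) (by
    ext i : 1
    apply ModuleCat.hom_ext
    apply LinearMap.ext
    intro w
    exact sh_rho I M (P.X i) w)

lemma S_shortExact : (S I M P).ShortExact := by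
  refine HomologicalComplex.shortExact_of_degreewise_shortExact _ (fun i => ?_)
  refine { exact := ?_, mono_f := ?_, epi_g := ?_ }
  · rw [ShortComplex.moduleCat_exact_iff]
    intro x hx
    exact ker_sh_le_range_rho I M (P.X i) x hx
  · exact (ModuleCat.mono_iff_injective _).2 (rho_injective I M (P.X i))
  · exact (ModuleCat.epi_iff_surjective _).2 (sh_surjective I M (P.X i))

noncomputable def fanC : Fan (fun n => Cn I M P n) := Fan.mk (CPi I M P) (fun n => πC I M P n)

noncomputable def fanC_isLimit : IsLimit (fanC I M P) := by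
  refine HomologicalComplex.isLimitOfEval _ _ (fun i => ?_)
  exact
  { lift := fun s => ModuleCat.ofHom (LinearMap.pi fun n => (s.π.app ⟨n⟩).hom)
    fac := fun s ⟨n⟩ => by
      apply ModuleCat.hom_ext
      rfl
    uniq := fun s m hm => by
      apply ModuleCat.hom_ext
      apply LinearMap.ext
      intro x
      funext n
      exact congrArg (fun φ => φ.hom x) (hm ⟨n⟩) }

variable [∀ K : ℕ → DerivedCategory (ModuleCat.{u} A), HasProduct K]

theorem isRlim : DCoh.IsRlim (fun n => Q.obj (Cn I M P n)) (fun n => Q.map (τC I M P n))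
    (Q.obj (CΛ I M P)) := by
  have hS := S_shortExact I M P
  have hT := DerivedCategory.triangleOfSES_distinguished hS
  have hlim := Groth.Agent.H4.DProdU.isLimitMapFan (fanC_isLimit I M P)
  let K : ℕ → DerivedCategory (ModuleCat.{u} A) := fun n => Q.obj (Cn I M P n)
  let φ : Q.obj (CPi I M P) ≅ ∏ᶜ K := hlim.conePointUniqueUpToIso (productIsProduct K)
  have hφ : ∀ n, φ.hom ≫ Pi.π K n = Q.map (πC I M P n) := fun n =>
    hlim.conePointUniqueUpToIso_hom_comp (productIsProduct K) ⟨n⟩
  let sg : ∏ᶜ K ⟶ ∏ᶜ K := Pi.lift fun n => Pi.π K n - Pi.π K (n + 1) ≫ Q.map (τC I M P n)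
  have hsq : φ.hom ≫ sg = Q.map (σC I M P) ≫ φ.hom := by
    apply Pi.hom_ext
    intro n
    rw [Category.assoc, Category.assoc, Pi.lift_π, Preadditive.comp_sub, ← Category.assoc, hφ, hφ,
      ← Q.map_comp, ← Q.map_comp, σC_πC, Functor.map_sub]
  refine ⟨Q.map (ρC I M P) ≫ φ.hom, φ.inv ≫ DerivedCategory.triangleOfSESδ hS, ?_⟩
  refine isomorphic_distinguished _ hT _ ?_
  refine Triangle.isoMk _ _ (Iso.refl _) φ.symm φ.symm ?_ ?_ ?_
  · change (Q.map (ρC I M P) ≫ φ.hom) ≫ φ.inv = 𝟙 _ ≫ Q.map (ρC I M P)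
    rw [Category.assoc, Iso.hom_inv_id, Category.comp_id, Category.id_comp]
  · change sg ≫ φ.inv = φ.inv ≫ Q.map (σC I M P)
    rw [← cancel_epi φ.hom, ← Category.assoc, hsq, Category.assoc, Iso.hom_inv_id,
      Category.comp_id, Iso.hom_inv_id_assoc]
  · change (φ.inv ≫ DerivedCategory.triangleOfSESδ hS) ≫ (𝟙 _)⟦(1 : ℤ)⟧' =
      φ.inv ≫ DerivedCategory.triangleOfSESδ hS
    rw [CategoryTheory.Functor.map_id, Category.comp_id]

end Groth.Agent.H4.RL2
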