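import Mathlib
import Groth.Agent.H4.RL2
import Groth.Agent.H4.ACF5
import Groth.Agent.H4.TC9
import Groth.Agent.H4.DThick
set_option autoImplicit false
universe u
open CategoryTheory CategoryTheory.Limits MonoidalCategory CategoryTheory.Pretriangulated
open scoped TensorProduct

namespace Groth.Agent.H4.RL3

attribute [local instance] HasDerivedCategory.standard

open DerivedCategory DRing Groth.Agent.H4.LDer Groth.Agent.H4.PC Groth.Agent.H4.BC Groth.Agent.H4.TV
  Groth.Agent.H4.DNak1 Groth.Agent.H4.DNak2 Groth.Agent.H4.DNak3 Groth.Agent.H4.LCT1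
  Groth.Agent.H4.LCT3 Groth.Agent.H4.DComp Groth.Agent.H4.DCompl1 Groth.Agent.H4.DCompl2
  Groth.Agent.H4.DCompl4 Groth.Agent.H4.DCompl6 Groth.Agent.H4.RL1 Groth.Agent.H4.RL2
  Groth.Agent.H4.ACF5 Groth.Agent.H4.DThick

variable {A : Type u} [CommRing A] (I : Ideal A)

/-- the completion functor -/
noncomputable def Lam : ModuleCat.{u} A ⥤ ModuleCat.{u} A where
  obj X := ModuleCat.of A (AdicCompletion I X)
  map f := ModuleCat.ofHom ((AdicCompletion.map I f.hom).restrictScalars A)
  map_id X := by
    apply ModuleCat.hom_ext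
    apply LinearMap.ext
    intro y
    change AdicCompletion.map I (𝟙 X : X ⟶ X).hom y = y
    rw [ModuleCat.hom_id, AdicCompletion.map_id]
    rfl
  map_comp f g := by
    apply ModuleCat.hom_ext
    apply LinearMap.ext
    intro y
    change AdicCompletion.map I (f ≫ g).hom y =
      AdicCompletion.map I g.hom (AdicCompletion.map I f.hom y)
    rw [ModuleCat.hom_comp, AdicCompletion.map_comp_apply]

instance : (Lam I).Additive where
  map_add {X Y f g} := by
    apply ModuleCat.hom_ext
    apply LinearMap.ext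
    intro y
    change AdicCompletion.map I (f + g).hom y =
      AdicCompletion.map I f.hom y + AdicCompletion.map I g.hom y
    rw [ModuleCat.hom_add, Groth.Agent.H4.ACF3.map_add']
    rfl

/-- `P → P^` termwise -/
noncomputable def ιC (P : CochainComplex (ModuleCat.{u} A) ℤ) :
    P ⟶ ((Lam I).mapHomologicalComplex (ComplexShape.up ℤ)).obj P where
  f i := ModuleCat.ofHom (AdicCompletion.of I (P.X i))
  comm' i j _ := by
    apply ModuleCat.hom_ext
    apply LinearMap.ext
    intro x
    rfl

section cr

variable [IsNoetherianRing A] (M : Type u) [AddCommGroup M] [Module A M] [Module.Finite A M]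
  (X : Type u) [AddCommGroup X] [Module A X] [Module.Flat A X]

/-- `X^ ⊗ M ≃ (X ⊗ M)^` -/
noncomputable def cr : (AdicCompletion I X ⊗[A] M) ≃ₗ[A] AdicCompletion I (X ⊗[A] M) :=
  (Groth.Agent.H4.ACF5.θ I M X).trans
    ((AdicCompletion.congr I (TensorProduct.comm A M X)).restrictScalars A)

lemma cr_tmul (u : AdicCompletion I X) (m : M) :
    cr I M X (u ⊗ₜ m) = AdicCompletion.map I ((TensorProduct.mk A X M).flip m) u := by
  change AdicCompletion.map I (TensorProduct.comm A M X).toLinearMap
    (Groth.Agent.H4.ACF3.c I X M (m ⊗ₜ u)) = _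
  rw [Groth.Agent.H4.ACF3.c_tmul, AdicCompletion.map_comp_apply]
  have h : (TensorProduct.comm A M X).toLinearMap ∘ₗ (TensorProduct.mk A M X m) =
      (TensorProduct.mk A X M).flip m := LinearMap.ext fun x => rfl
  rw [h]

lemma cr_of (x : X) (m : M) :
    cr I M X (AdicCompletion.of I X x ⊗ₜ m) = AdicCompletion.of I (X ⊗[A] M) (x ⊗ₜ m) := by
  rw [cr_tmul]
  rfl

lemma cr_comp_of (z : X ⊗[A] M) :
    cr I M X ((AdicCompletion.of I X).rTensor M z) = AdicCompletion.of I (X ⊗[A] M) z := by
  induction z using TensorProduct.induction_on with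
  | zero => simp
  | tmul x m => exact cr_of I M X x m
  | add a b ha hb => rw [map_add, map_add, map_add, ha, hb]

variable {X} {X' : Type u} [AddCommGroup X'] [Module A X'] [Module.Flat A X'] (h : X →ₗ[A] X')

lemma cr_natural (z : AdicCompletion I X ⊗[A] M) :
    cr I M X' (((AdicCompletion.map I h).restrictScalars A).rTensor M z) =
      AdicCompletion.map I (h.rTensor M) (cr I M X z) := by
  induction z using TensorProduct.induction_on with
  | zero => simp
  | tmul u m =>
    rw [LinearMap.rTensor_tmul, cr_tmul, cr_tmul, LinearMap.restrictScalars_apply,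
      AdicCompletion.map_comp_apply, AdicCompletion.map_comp_apply]
    have h' : (TensorProduct.mk A X' M).flip m ∘ₗ h = h.rTensor M ∘ₗ (TensorProduct.mk A X M).flip m :=
      LinearMap.ext fun x => rfl
    rw [h']
  | add a b ha hb => rw [map_add, map_add, map_add, map_add, ha, hb]

end cr

section Main

variable [IsNoetherianRing A] (M : Type u) [AddCommGroup M] [Module A M] [Module.Finite A M]
  (P : CochainComplex (ModuleCat.{u} A) ℤ)

/-- termwise `- ⊗ M` -/
noncomputable abbrev TM : CochainComplex (ModuleCat.{u} A) ℤ ⥤ CochainComplex (ModuleCat.{u} A) ℤ :=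
  (tensorRight (ModuleCat.of A M)).mapHomologicalComplex (ComplexShape.up ℤ)

noncomputable def ofN : tensorRight (ModuleCat.of A M) ⟶ FΛ I M where
  app X := ModuleCat.ofHom (AdicCompletion.of I (X ⊗[A] M))
  naturality X Y f := by
    apply ModuleCat.hom_ext
    apply LinearMap.ext
    intro x
    rfl

/-- `P ⊗ M → (P ⊗ M)^` termwise -/
noncomputable abbrev ofC : (TM M).obj P ⟶ CΛ I M P :=
  (NatTrans.mapHomologicalComplex (ofN I M) (ComplexShape.up ℤ)).app P

/-- `P^ ⊗ M ≅ (P ⊗ M)^` termwise, `P` flat. -/
noncomputable def κ (hfl : ∀ i, Module.Flat A (P.X i)) :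
    (TM M).obj (((Lam I).mapHomologicalComplex (ComplexShape.up ℤ)).obj P) ≅ CΛ I M P :=
  HomologicalComplex.Hom.isoOfComponents
    (fun i => (haveI := hfl i; cr I M (P.X i)).toModuleIso) (by
      intro i j _
      haveI := hfl i
      haveI := hfl j
      apply ModuleCat.hom_ext
      apply LinearMap.ext
      intro z
      exact (cr_natural I M (P.d i j).hom z).symm)

lemma ofC_eq (hfl : ∀ i, Module.Flat A (P.X i)) :
    ofC I M P = (TM M).map (ιC I P) ≫ (κ I M P hfl).hom := by
  ext i : 1
  haveI := hfl i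
  apply ModuleCat.hom_ext
  apply LinearMap.ext
  intro z
  exact (cr_comp_of I M (P.X i) z).symm

theorem trW_ofC (hfl : ∀ i, Module.Flat A (P.X i)) :
    (IsDerivedComplete I).leftOrthogonal.trW (Q.map (ofC I M P)) := by
  classical
  obtain ⟨s, hs⟩ : I.FG := IsNoetherian.noetherian I
  let fs := s.toList
  have hspan : Ideal.span {x | x ∈ fs} = I := (span_toList s).trans hs
  have hI : I.FG := ⟨s, hs⟩
  let M' : ModuleCat.{u} A := ModuleCat.of A M
  let H := tensorRight M'
  let ι := ιC I P
  let D : Cx A := CochainComplex.mappingCone ι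
  have hflD : ∀ j, Module.Flat A (D.X j) := fun j =>
    Groth.Agent.H4.TC9.flat_mappingCone_X ι hfl
      (fun j => (haveI := hfl j; Groth.Agent.H4.ACF3.flat_completion I (P.X j))) j
  have hZ : Z (fun K => IsZero K) D (Ideal.span {x | x ∈ fs}) := by
    intro T hT
    rw [hspan] at hT
    haveI h3 : IsIso ((GC (tensorRight T)).map ι) := by
      haveI : ∀ n, IsIso (((GC (tensorRight T)).map ι).f n) := by
        intro n
        have hbij : Function.Bijective ((AdicCompletion.of I (P.X n)).rTensor T) :=
          Groth.Agent.H4.ACF4.of_rTensor_bijective I (P.X n) T hT hI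
        exact (ConcreteCategory.isIso_iff_bijective _).2 hbij
      exact HomologicalComplex.Hom.isIso_of_components _
    have e := CochainComplex.mappingCone.mapHomologicalComplexIso ι (tensorRight T)
    refine IsZero.of_iso ?_ (Q.mapIso e)
    refine (Triangle.isZero₃_iff_isIso₁ _
      (DerivedCategory.mappingCone_triangle_distinguished _)).2 ?_
    exact (Q.mapIso (asIso ((GC (tensorRight T)).map ι))).isIso_hom
  have hKz := Kz_XN fs D hflD hZ M'
  let u := (GC H).map ι
  have hT := DerivedCategory.mappingCone_triangle_distinguished u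
  have e3 : XN D M' ≅ Q.obj (CochainComplex.mappingCone u) :=
    Q.mapIso (CochainComplex.mappingCone.mapHomologicalComplexIso ι H)
  have hW : (IsDerivedComplete I).leftOrthogonal (Q.obj (CochainComplex.mappingCone u)) := by
    intro E ψ hE
    have hLO : ∀ f ∈ fs, LO f E := by
      intro f hf
      exact (isDerivedComplete_iff_LO I E).1 hE f (by rw [← hspan]; exact Ideal.subset_span hf)
    exact orthL_of_Kz fs _ (Kz_iso fs e3 hKz) E hLO ψ
  have h1 : (IsDerivedComplete I).leftOrthogonal.trW (Q.map u) :=
    ObjectProperty.trW.mk _ hT hW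
  rw [ofC_eq I M P hfl, Functor.map_comp]
  haveI : IsIso (Q.map (κ I M P hfl).hom) := (Q.mapIso (κ I M P hfl)).isIso_hom
  exact (MorphismProperty.cancel_right_of_respectsIso _ _ _).2 h1

theorem complete_CΛ (a b : ℤ) (hab : ∀ i : ℤ, i < a ∨ b < i → IsZero (P.X i)) :
    IsDerivedComplete I (Q.obj (CΛ I M P)) := by
  have hI : I.FG := IsNoetherian.noetherian I
  refine (isTriSub_isDerivedComplete I).of_bounded_termwise (CΛ I M P) a b ?_ ?_
  · intro i hi
    exact (FΛ I M).map_isZero (hab i hi)
  · intro i
    haveI := AdicCompletion.isAdicComplete (I := I) (M := (P.X i) ⊗[A] M) hI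
    exact Groth.Agent.S7048.result I (AdicCompletion I ((P.X i) ⊗[A] M))

theorem exists_iso [HasDerivedCompletion I] (hfl : ∀ i, Module.Flat A (P.X i))
    (a b : ℤ) (hab : ∀ i : ℤ, i < a ∨ b < i → IsZero (P.X i)) :
    ∃ e : ((derivedCompletion I).obj (Q.obj ((TM M).obj P))).obj ≅ Q.obj (CΛ I M P),
      toDerivedCompletion I (Q.obj ((TM M).obj P)) ≫ e.hom = Q.map (ofC I M P) := by
  have hq := trW_ofC I M P hfl
  have hC := complete_CΛ I M P a b hab
  have huniv : ∀ C' : Dual.D A, IsDerivedComplete I C' →
      Function.Bijective (fun ψ : Q.obj (CΛ I M P) ⟶ C' => Q.map (ofC I M P) ≫ ψ) := by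
    intro C' hC'
    have hloc : (IsDerivedComplete I).leftOrthogonal.trW.isLocal C' := by
      rw [ObjectProperty.isLocal_trW]
      intro X f hX
      exact hX f hC'
    exact hloc _ hq
  exact exists_iso_of_universal I _ _ _ hC huniv

end Main

end Groth.Agent.H4.RL3
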