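import Mathlib
import Groth.Agent.Lib.Helper5.ExtCech.Elem
import Groth.Agent.Lib.Helper5.ExtCech.Terms
import Groth.Agent.Lib.Helper5.ExtCech.H0
import Groth.Agent.H4.RG11
set_option autoImplicit false
universe u
open CategoryTheory CategoryTheory.Limits MonoidalCategory
open scoped TensorProduct

namespace Groth.Agent.H4.RL4

attribute [local instance] HasDerivedCategory.standard
open DerivedCategory H5ExtCech DerCA

variable {A : Type u} [CommRing A]

lemma isLocIso_whiskerRight (g : A) {X Y : ModuleCat.{u} A} (ψ : X ⟶ Y) (hψ : IsLocIso g ψ)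
    (N : ModuleCat.{u} A) : IsLocIso g (ψ ▷ N) := by
  let S := Submonoid.powers g
  constructor
  · intro z hz
    let fX : X ⊗[A] N →ₗ[A] LocalizedModule S X ⊗[A] N :=
      TensorProduct.AlgebraTensorModule.rTensor A N (LocalizedModule.mkLinearMap S X)
    let fY : Y ⊗[A] N →ₗ[A] LocalizedModule S Y ⊗[A] N :=
      TensorProduct.AlgebraTensorModule.rTensor A N (LocalizedModule.mkLinearMap S Y)
    haveI : IsLocalizedModule S fX := inferInstance
    have hbij : Function.Bijective ((locFunctor S).map ψ).hom := by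
      haveI := isIso_loc_map g ψ hψ
      exact (ConcreteCategory.isIso_iff_bijective ((locFunctor S).map ψ)).1 inferInstance
    let ψS : LocalizedModule S X →ₗ[A] LocalizedModule S Y := ((locFunctor S).map ψ).hom
    let e := LinearEquiv.ofBijective ψS hbij
    have hinj : Function.Injective (ψS.rTensor N) := by
      apply Function.LeftInverse.injective (g := e.symm.toLinearMap.rTensor N)
      intro w
      rw [← LinearMap.comp_apply, ← LinearMap.rTensor_comp]
      have : e.symm.toLinearMap ∘ₗ ψS = LinearMap.id := by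
        ext v
        exact e.symm_apply_apply v
      rw [this, LinearMap.rTensor_id]
      rfl
    have hcomm : ∀ w : X ⊗[A] N, ψS.rTensor N (fX w) = fY (ψ.hom.rTensor N w) := by
      intro w
      induction w using TensorProduct.induction_on with
      | zero => simp
      | tmul x n =>
        change ψS (LocalizedModule.mk x 1) ⊗ₜ n = (LocalizedModule.mk (ψ.hom x) 1) ⊗ₜ n
        rw [show ψS (LocalizedModule.mk x 1) = LocalizedModule.mk (ψ.hom x) 1 from
          locFunctor_map_mk S ψ x 1]
      | add a b ha hb => rw [map_add, map_add, ha, hb, map_add, map_add]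
    have h0 : fX z = 0 := by
      apply hinj
      rw [hcomm, map_zero]
      have hz' : ψ.hom.rTensor N z = 0 := hz
      rw [hz', map_zero]
    obtain ⟨c, hc⟩ := (IsLocalizedModule.eq_zero_iff S fX).1 h0
    obtain ⟨_, n, rfl⟩ := c
    exact ⟨n, hc⟩
  · intro y
    induction y using TensorProduct.induction_on with
    | zero => exact ⟨0, 0, by simp⟩
    | tmul y n =>
      obtain ⟨k, a, hk⟩ := hψ.2 y
      refine ⟨k, a ⊗ₜ n, ?_⟩
      change g ^ k • (y ⊗ₜ[A] n) = (ψ.hom a) ⊗ₜ n
      rw [TensorProduct.smul_tmul', hk]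
    | add y₁ y₂ h₁ h₂ =>
      obtain ⟨k₁, a₁, h₁⟩ := h₁
      obtain ⟨k₂, a₂, h₂⟩ := h₂
      refine ⟨k₁ + k₂, g ^ k₂ • a₁ + g ^ k₁ • a₂, ?_⟩
      have e1 : g ^ (k₁ + k₂) • y₁ = (ψ ▷ N).hom (g ^ k₂ • a₁) := by
        rw [map_smul, ← h₁, ← mul_smul, ← pow_add, add_comm]
      have e2 : g ^ (k₁ + k₂) • y₂ = (ψ ▷ N).hom (g ^ k₁ • a₂) := by
        rw [map_smul, ← h₂, ← mul_smul, ← pow_add]
      rw [smul_add, e1, e2, map_add]

lemma inverts_tensor_loc (g : A) (N : ModuleCat.{u} A) :
    Inverts g (tensorRight N ⋙ locFunctor (Submonoid.powers g)) :=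
  fun _ _ ψ hψ => isIso_loc_map g (ψ ▷ N) (isLocIso_whiskerRight g ψ hψ N)

/-- termwise `- ⊗ N` -/
noncomputable abbrev TN (N : ModuleCat.{u} A) :
    CochainComplex (ModuleCat.{u} A) ℤ ⥤ CochainComplex (ModuleCat.{u} A) ℤ :=
  (tensorRight N).mapHomologicalComplex (ComplexShape.up ℤ)

theorem exists_pow_smul_homology (g : A) (N : ModuleCat.{u} A) (fs : List A) (hg : g ∈ fs) (q : ℤ)
    (x : ((TN N).obj (extCech (ModuleCat.of A A) fs)).homology q) :
    ∃ n : ℕ, g ^ n • x = 0 := by
  obtain ⟨h⟩ := contractible_map_extCech g (ModuleCat.of A A) fs hg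
    (tensorRight N ⋙ locFunctor (Submonoid.powers g)) (inverts_tensor_loc g N)
  have h' : Homotopy (𝟙 (((locFunctor (Submonoid.powers g)).mapHomologicalComplex
      (ComplexShape.up ℤ)).obj ((TN N).obj (extCech (ModuleCat.of A A) fs)))) 0 := h
  exact exists_pow_smul_eq_zero_of_cycles _ q g
    (fun z hz => exists_pow_smul_eq_d_of_contractible g _ h' q z hz) x

theorem isPowerTorsion_HD (N : ModuleCat.{u} A) (fs : List A) (i : ℤ) :
    LocCoh.IsPowerTorsion (Ideal.span {a : A | a ∈ fs})
      (Dual.HD A (Q.obj ((TN N).obj (extCech (ModuleCat.of A A) fs))) i) := by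
  let X := (TN N).obj (extCech (ModuleCat.of A A) fs)
  let ε : Dual.HD A (Q.obj X) i ≃ₗ[A] X.homology i :=
    ((homologyFunctorFactors (ModuleCat.{u} A) i).app X).toLinearEquiv
  intro m
  have hle : Ideal.span {a : A | a ∈ fs} ≤ ((Submodule.span A {ε m}).annihilator).radical := by
    rw [Ideal.span_le]
    intro g hg
    obtain ⟨n, hn⟩ := exists_pow_smul_homology g N fs hg i (ε m)
    exact ⟨n, (Submodule.mem_annihilator_span_singleton _ _).2 hn⟩
  have hfg : (Ideal.span {a : A | a ∈ fs}).FG := Submodule.fg_span (List.finite_toSet fs)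
  obtain ⟨k, hk⟩ := Ideal.exists_pow_le_of_le_radical_of_fg hle hfg
  refine ⟨k, fun a ha => ?_⟩
  apply ε.injective
  rw [map_smul, map_zero]
  exact (Submodule.mem_annihilator_span_singleton _ _).1 (hk ha)

end Groth.Agent.H4.RL4
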