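import Mathlib
import Groth.Agent.H4.RL4
import Groth.Agent.H4.CechRH1
import Groth.Agent.H4.GM6
import Groth.Agent.H4.TC6
import Groth.Agent.H4.TC9
import Groth.Agent.H4.RG10
set_option autoImplicit false
universe u
open CategoryTheory Category Limits MonoidalCategory Pretriangulated
open scoped TensorProduct

namespace Groth.Agent.H4.RL5

attribute [local instance] HasDerivedCategory.standard
attribute [local instance] Groth.Agent.H4.LK4.hasLTen Groth.Agent.H4.LK5.hasLTen₃
  Groth.Agent.H4.KI7.isSymMonoidal Groth.Agent.H4.KI6.hasRHom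

open DRing DTen DerivedCategory H5ExtCech DerCA Groth.Agent.H4.DComp Groth.Agent.H4.DCompl1
  Groth.Agent.H4.DCompl2 Groth.Agent.H4.DCompl3 Groth.Agent.H4.DCompl4 Groth.Agent.H4.DCompl6
  Groth.Agent.H4.EV5 Groth.Agent.H4.HC6 Groth.Agent.H4.CF1 Groth.Agent.H4.CF4 Groth.Agent.H4.TC4
  Groth.Agent.H4.SG1 Groth.Agent.H4.SG3 Groth.Agent.H4.CechRH1 Groth.Agent.H4.RL4

variable {A : Type u} [CommRing A]

section Flat

lemma flat_loc (S : Submonoid A) (X : ModuleCat.{u} A) [Module.Flat A X] :
    Module.Flat A ((locFunctor S).obj X) := by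
  change Module.Flat A (LocalizedModule S X)
  haveI : Module.Flat (Localization S) (LocalizedModule S X) := inferInstance
  exact Module.Flat.trans A (Localization S) (LocalizedModule S X)

lemma flat_extCech_X (fs : List A) (n : ℤ) :
    Module.Flat A ((extCech (ModuleCat.of A A) fs).X n) := by
  refine extCech_X_prop (fun X => Module.Flat A X) ?_ ?_ ?_ ?_ (ModuleCat.of A A)
    (inferInstanceAs (Module.Flat A A)) fs n
  · intro X Y e h
    haveI := h
    exact Module.Flat.of_linearEquiv e.symm.toLinearEquiv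
  · intro X hX
    haveI : Subsingleton X := ModuleCat.subsingleton_of_isZero hX
    infer_instance
  · intro X Y hX hY
    haveI := hX
    haveI := hY
    haveI := Groth.Agent.H4.TC9.flat_prod (R := A) X Y
    exact Module.Flat.of_linearEquiv (ModuleCat.biprodIsoProd X Y).toLinearEquiv
  · intro f X hX
    haveI := hX
    exact flat_loc _ X

lemma kflat_extCech (fs : List A) : KFlat (extCech (ModuleCat.of A A) fs) :=
  Groth.Agent.H4.TC6.kflat_of_boundedAbove _ (fs.length : ℤ)
    (fun i hi => isZero_extCech_X _ fs i (Or.inr hi)) (flat_extCech_X fs)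

lemma kflat_loc_extCech (f : A) (fs : List A) :
    KFlat ((locCx (Submonoid.powers f)).obj (extCech (ModuleCat.of A A) fs)) :=
  Groth.Agent.H4.TC6.kflat_of_boundedAbove _ (fs.length : ℤ)
    (fun i hi => (locFunctor (Submonoid.powers f)).map_isZero
      (isZero_extCech_X _ fs i (Or.inr hi)))
    (fun i => (haveI := flat_extCech_X fs i; flat_loc _ _))

end Flat

section Bridge

variable (N : ModuleCat.{u} A)

/-- `Q X ⊗^L N[0] ≅ Q (X ⊗ N)` for `X` K-flat. -/
noncomputable def eBr (X : DRing.Cx A) (hX : KFlat X) :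
    (tensorRightD A (Q.obj (sg0 N))).obj (Q.obj X) ≅ Q.obj ((TN N).obj X) :=
  (@asIso _ _ _ _ ((εRight A (sg0 N)).app X)
    (Groth.Agent.H4.LK4.isIso_ε_of_kflat X (sg0 N) (Or.inl hX))) ≪≫
    Q.mapIso ((GCtIso N).app X).symm

lemma eBr_natural {X Y : DRing.Cx A} (hX : KFlat X) (hY : KFlat Y) (φ : X ⟶ Y) :
    (tensorRightD A (Q.obj (sg0 N))).map (Q.map φ) ≫ (eBr N Y hY).hom =
      (eBr N X hX).hom ≫ Q.map ((TN N).map φ) := by
  have n1 := (εRight A (sg0 N)).naturality φ
  have n2 := (GCtIso N).inv.naturality φ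
  change (tensorRightD A (Q.obj (sg0 N))).map (Q.map φ) ≫
      ((εRight A (sg0 N)).app Y ≫ Q.map ((GCtIso N).inv.app Y)) =
    ((εRight A (sg0 N)).app X ≫ Q.map ((GCtIso N).inv.app X)) ≫ Q.map ((TN N).map φ)
  have n1' : (tensorRightD A (Q.obj (sg0 N))).map (Q.map φ) ≫ (εRight A (sg0 N)).app Y =
      (εRight A (sg0 N)).app X ≫ Q.map ((tensorRight (sg0 N)).map φ) := n1
  have n2' : Q.map ((tensorRight (sg0 N)).map φ) ≫ Q.map ((GCtIso N).inv.app Y) =
      Q.map ((GCtIso N).inv.app X) ≫ Q.map ((TN N).map φ) := by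
    rw [← Q.map_comp, ← Q.map_comp]
    exact congrArg Q.map n2
  rw [← assoc, n1', assoc, n2', assoc]

end Bridge

section Tower

variable [IsNoetherianRing A] (J : Ideal A) [HasRgammaI J] (N : ModuleCat.{u} A)

theorem isIso_rgamma_proj : ∀ fs : List A, (∀ f ∈ fs, f ∈ J) →
    IsIso ((RgammaI J).map (Q.map ((TN N).map (proj fs)))) := by
  intro fs
  induction fs with
  | nil =>
    intro _
    have : (TN N).map (proj ([] : List A)) = 𝟙 _ := (TN N).map_id _
    rw [this, CategoryTheory.Functor.map_id, CategoryTheory.Functor.map_id]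
    infer_instance
  | cons f fs ih =>
    intro hfs
    let E := extCech (ModuleCat.of A A) fs
    let u := locCxUnit (Submonoid.powers f) E
    have hT := Groth.Agent.H4.CechRH1.mappingCocone_triangle_distinguished u
    let L : Dual.D A := Q.obj (sg0 N)
    obtain ⟨w, hw⟩ : Cpl ((tensorRightD A L).map (Q.map (CochainComplex.mappingCocone.fst u)))
        ((tensorRightD A L).map (Q.map u)) := (good_tensorRightD L).cpl _ hT
    have hF : FInv f ((tensorRightD A L).obj (Q.obj ((locCx (Submonoid.powers f)).obj E))) :=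
      (good_tensorRightD L).fInv (FInv_loc f E)
    have hz := Groth.Agent.H4.GM6.isZero_rgamma_of_FInv J f (hfs f List.mem_cons_self) _ hF
    haveI h1 : IsIso ((RgammaI J).map
        ((tensorRightD A L).map (Q.map (CochainComplex.mappingCocone.fst u)))) :=
      (Groth.Agent.H4.GM1.isIso_map_mor₁_iff J _ hw).2 hz
    have hk1 : KFlat (CochainComplex.mappingCocone u) := kflat_extCech (f :: fs)
    have hk2 : KFlat E := kflat_extCech fs
    have hnat := eBr_natural N hk1 hk2 (CochainComplex.mappingCocone.fst u)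
    haveI h2 : IsIso ((RgammaI J).map
        (Q.map ((TN N).map (CochainComplex.mappingCocone.fst u)))) := by
      have : Q.map ((TN N).map (CochainComplex.mappingCocone.fst u)) =
          (eBr N _ hk1).inv ≫ (tensorRightD A L).map (Q.map (CochainComplex.mappingCocone.fst u)) ≫
            (eBr N _ hk2).hom := by
        rw [hnat, Iso.inv_hom_id_assoc]
      rw [this, Functor.map_comp, Functor.map_comp]
      infer_instance
    haveI h3 := ih (fun f' hf' => hfs f' (List.mem_cons_of_mem _ hf'))
    change IsIso ((RgammaI J).map (Q.map ((TN N).map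
      (CochainComplex.mappingCocone.fst u ≫ proj fs))))
    rw [Functor.map_comp, Functor.map_comp, Functor.map_comp]
    infer_instance

end Tower

end Groth.Agent.H4.RL5
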