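import Mathlib
import Groth.Agent.H4.RL5
set_option autoImplicit false
universe u
open CategoryTheory Category Limits MonoidalCategory Pretriangulated
open scoped TensorProduct

namespace Groth.Agent.H4.RL6

attribute [local instance] HasDerivedCategory.standard

open DRing DerivedCategory H5ExtCech DerCA Groth.Agent.H4.DComp Groth.Agent.H4.DCompl1
  Groth.Agent.H4.DCompl2 Groth.Agent.H4.SG1 Groth.Agent.H4.CechRH1 Groth.Agent.H4.RL4 Groth.Agent.H4.RL5

variable {A : Type u} [CommRing A]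

/-- the morphism of functors induced by `h` -/
noncomputable abbrev NT {N N' : ModuleCat.{u} A} (h : N ⟶ N') : TN N ⟶ TN N' :=
  NatTrans.mapHomologicalComplex ((tensoringRight (ModuleCat.{u} A)).map h) (ComplexShape.up ℤ)

noncomputable def aIso (N : ModuleCat.{u} A) : (TN N).obj (sg0 (ModuleCat.of A A)) ≅ sg0 N :=
  (HomologicalComplex.singleMapHomologicalComplex (tensorRight N) (ComplexShape.up ℤ) 0).app
      (ModuleCat.of A A) ≪≫
    (HomologicalComplex.single (ModuleCat.{u} A) (ComplexShape.up ℤ) 0).mapIso (λ_ N)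

lemma aIso_natural {N N' : ModuleCat.{u} A} (h : N ⟶ N') :
    (NT h).app (sg0 (ModuleCat.of A A)) ≫ (aIso N').hom =
      (aIso N).hom ≫ (HomologicalComplex.single (ModuleCat.{u} A) (ComplexShape.up ℤ) 0).map h := by
  apply HomologicalComplex.to_single_hom_ext
  simp only [aIso, Iso.trans_hom, Iso.app_hom, Functor.mapIso_hom, HomologicalComplex.comp_f,
    NatTrans.mapHomologicalComplex_app_f, HomologicalComplex.singleMapHomologicalComplex_hom_app_self,
    HomologicalComplex.single_map_f_self, assoc, Iso.inv_hom_id_assoc]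
  have h1 : (sg0 (ModuleCat.of A A)).X 0 ◁ h ≫
      (HomologicalComplex.singleObjXSelf (ComplexShape.up ℤ) 0 (ModuleCat.of A A)).hom ▷ N' =
      (HomologicalComplex.singleObjXSelf (ComplexShape.up ℤ) 0 (ModuleCat.of A A)).hom ▷ N ≫
        (ModuleCat.of A A) ◁ h := whisker_exchange _ _
  have h2 : (ModuleCat.of A A) ◁ h ≫ (λ_ N').hom = (λ_ N).hom ≫ h := leftUnitor_naturality h
  let s := (HomologicalComplex.singleObjXSelf (ComplexShape.up ℤ) 0 (ModuleCat.of A A)).hom
  let i' := HomologicalComplex.singleObjXSelf (ComplexShape.up ℤ) 0 (ModuleCat.of A A ⊗ N')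
  let i := HomologicalComplex.singleObjXSelf (ComplexShape.up ℤ) 0 (ModuleCat.of A A ⊗ N)
  let j' := HomologicalComplex.singleObjXSelf (ComplexShape.up ℤ) 0 N'
  change ((sg0 (ModuleCat.of A A)).X 0 ◁ h) ≫ ((s ▷ N') ≫ i'.inv) ≫ i'.hom ≫ (λ_ N').hom ≫ j'.inv =
    ((s ▷ N) ≫ i.inv) ≫ i.hom ≫ (λ_ N).hom ≫ h ≫ j'.inv
  rw [assoc, Iso.inv_hom_id_assoc, assoc, Iso.inv_hom_id_assoc, ← assoc, h1, assoc,
    ← assoc (ModuleCat.of A A ◁ h), h2, assoc]

/-- `Q (A[0] ⊗ N) ≅ N[0]` -/
noncomputable def bIso (N : ModuleCat.{u} A) :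
    Q.obj ((TN N).obj (sg0 (ModuleCat.of A A))) ≅
      (DerivedCategory.singleFunctor (ModuleCat.{u} A) 0).obj N :=
  Q.mapIso (aIso N) ≪≫ ((singleFunctorIsoCompQ (ModuleCat.{u} A) 0).app N).symm

lemma bIso_natural {N N' : ModuleCat.{u} A} (h : N ⟶ N') :
    Q.map ((NT h).app (sg0 (ModuleCat.of A A))) ≫ (bIso N').hom =
      (bIso N).hom ≫ (DerivedCategory.singleFunctor (ModuleCat.{u} A) 0).map h := by
  have n1 := congrArg Q.map (aIso_natural h)
  rw [Functor.map_comp, Functor.map_comp] at n1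
  have n2 := (singleFunctorIsoCompQ (ModuleCat.{u} A) 0).inv.naturality h
  change Q.map ((NT h).app (sg0 (ModuleCat.of A A))) ≫ (Q.map (aIso N').hom ≫
      (singleFunctorIsoCompQ (ModuleCat.{u} A) 0).inv.app N') =
    (Q.map (aIso N).hom ≫ (singleFunctorIsoCompQ (ModuleCat.{u} A) 0).inv.app N) ≫
      (DerivedCategory.singleFunctor (ModuleCat.{u} A) 0).map h
  rw [← assoc, n1, assoc, assoc]
  congr 1

/-- the augmentation `Q (Č ⊗ N) ⟶ N[0]` -/
noncomputable def θ (fs : List A) (N : ModuleCat.{u} A) :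
    Q.obj ((TN N).obj (extCech (ModuleCat.of A A) fs)) ⟶
      (DerivedCategory.singleFunctor (ModuleCat.{u} A) 0).obj N :=
  Q.map ((TN N).map (proj fs)) ≫ (bIso N).hom

lemma θ_natural (fs : List A) {N N' : ModuleCat.{u} A} (h : N ⟶ N') :
    Q.map ((NT h).app (extCech (ModuleCat.of A A) fs)) ≫ θ fs N' =
      θ fs N ≫ (DerivedCategory.singleFunctor (ModuleCat.{u} A) 0).map h := by
  have n1 := congrArg Q.map ((NT h).naturality (proj fs))
  rw [Functor.map_comp, Functor.map_comp] at n1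
  change Q.map ((NT h).app (extCech (ModuleCat.of A A) fs)) ≫
      (Q.map ((TN N').map (proj fs)) ≫ (bIso N').hom) =
    (Q.map ((TN N).map (proj fs)) ≫ (bIso N).hom) ≫
      (DerivedCategory.singleFunctor (ModuleCat.{u} A) 0).map h
  rw [← assoc, ← n1, assoc, assoc]
  congr 1
  exact bIso_natural h

section Xi

variable [IsNoetherianRing A] (fs : List A) [HasRgammaI (Ideal.span {a : A | a ∈ fs})]

lemma isIso_rgamma_θ (N : ModuleCat.{u} A) :
    IsIso ((RgammaI (Ideal.span {a : A | a ∈ fs})).map (θ fs N)) := by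
  haveI := isIso_rgamma_proj (Ideal.span {a : A | a ∈ fs}) N fs
    (fun f hf => Ideal.subset_span hf)
  unfold θ
  rw [Functor.map_comp]
  infer_instance

lemma isIso_ε (N : ModuleCat.{u} A) :
    IsIso ((RgammaIε (Ideal.span {a : A | a ∈ fs})).app
      (Q.obj ((TN N).obj (extCech (ModuleCat.of A A) fs)))) :=
  Groth.Agent.H4.RG10.S1813 _ _ (fun i => isPowerTorsion_HD N fs i)

/-- `Q (Č ⊗ N) ≅ RΓ_J (N[0])` -/
noncomputable def ξ (N : ModuleCat.{u} A) :
    Q.obj ((TN N).obj (extCech (ModuleCat.of A A) fs)) ≅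
      (RgammaI (Ideal.span {a : A | a ∈ fs})).obj
        ((DerivedCategory.singleFunctor (ModuleCat.{u} A) 0).obj N) :=
  (@asIso _ _ _ _ ((RgammaIε (Ideal.span {a : A | a ∈ fs})).app
      (Q.obj ((TN N).obj (extCech (ModuleCat.of A A) fs)))) (isIso_ε fs N)).symm ≪≫
    @asIso _ _ _ _ ((RgammaI (Ideal.span {a : A | a ∈ fs})).map (θ fs N)) (isIso_rgamma_θ fs N)

lemma ξ_natural {N N' : ModuleCat.{u} A} (h : N ⟶ N') :
    Q.map ((NT h).app (extCech (ModuleCat.of A A) fs)) ≫ (ξ fs N').hom =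
      (ξ fs N).hom ≫ (RgammaI (Ideal.span {a : A | a ∈ fs})).map
        ((DerivedCategory.singleFunctor (ModuleCat.{u} A) 0).map h) := by
  haveI i1 : IsIso ((RgammaIε (Ideal.span {a : A | a ∈ fs})).app
      (Q.obj ((TN N).obj (extCech (ModuleCat.of A A) fs)))) := isIso_ε fs N
  haveI i2 : IsIso ((RgammaIε (Ideal.span {a : A | a ∈ fs})).app
      (Q.obj ((TN N').obj (extCech (ModuleCat.of A A) fs)))) := isIso_ε fs N'
  have n1 : (RgammaI (Ideal.span {a : A | a ∈ fs})).map
        (Q.map ((NT h).app (extCech (ModuleCat.of A A) fs))) ≫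
      (RgammaIε (Ideal.span {a : A | a ∈ fs})).app
        (Q.obj ((TN N').obj (extCech (ModuleCat.of A A) fs))) =
      (RgammaIε (Ideal.span {a : A | a ∈ fs})).app
        (Q.obj ((TN N).obj (extCech (ModuleCat.of A A) fs))) ≫
      Q.map ((NT h).app (extCech (ModuleCat.of A A) fs)) :=
    (RgammaIε (Ideal.span {a : A | a ∈ fs})).naturality
      (Q.map ((NT h).app (extCech (ModuleCat.of A A) fs)))
  have n2 : (RgammaI (Ideal.span {a : A | a ∈ fs})).map
        (Q.map ((NT h).app (extCech (ModuleCat.of A A) fs))) ≫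
      (RgammaI (Ideal.span {a : A | a ∈ fs})).map (θ fs N') =
      (RgammaI (Ideal.span {a : A | a ∈ fs})).map (θ fs N) ≫
        (RgammaI (Ideal.span {a : A | a ∈ fs})).map
          ((DerivedCategory.singleFunctor (ModuleCat.{u} A) 0).map h) := by
    rw [← Functor.map_comp, ← Functor.map_comp, θ_natural]
  change Q.map ((NT h).app (extCech (ModuleCat.of A A) fs)) ≫
      (inv ((RgammaIε (Ideal.span {a : A | a ∈ fs})).app
        (Q.obj ((TN N').obj (extCech (ModuleCat.of A A) fs)))) ≫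
        (RgammaI (Ideal.span {a : A | a ∈ fs})).map (θ fs N')) =
    (inv ((RgammaIε (Ideal.span {a : A | a ∈ fs})).app
        (Q.obj ((TN N).obj (extCech (ModuleCat.of A A) fs)))) ≫
      (RgammaI (Ideal.span {a : A | a ∈ fs})).map (θ fs N)) ≫ _
  rw [← cancel_epi ((RgammaIε (Ideal.span {a : A | a ∈ fs})).app
      (Q.obj ((TN N).obj (extCech (ModuleCat.of A A) fs)))),
    ← assoc, ← n1, assoc, assoc, IsIso.hom_inv_id_assoc, IsIso.hom_inv_id_assoc, n2]

end Xi

end Groth.Agent.H4.RL6
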