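import Mathlib
import Groth.Prelude.Def_DCoh2
import Groth.Agent.H4.RL3
import Groth.Agent.H4.RL6
set_option autoImplicit false
universe u
open CategoryTheory Category Limits MonoidalCategory Pretriangulated
open scoped TensorProduct

namespace Groth.Agent.H4.RL7

attribute [local instance] HasDerivedCategory.standard

open DRing DerivedCategory H5ExtCech DerCA Groth.Agent.H4.RL1 Groth.Agent.H4.RL2 Groth.Agent.H4.RL3
  Groth.Agent.H4.RL4 Groth.Agent.H4.RL5 Groth.Agent.H4.RL6 Groth.Agent.H4.DNak3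

variable {A : Type u} [CommRing A]

lemma isRlim_of_iso (K K' : ℕ → Dual.D A) (t : ∀ n, K (n + 1) ⟶ K n) (t' : ∀ n, K' (n + 1) ⟶ K' n)
    [HasProduct K] [HasProduct K'] (L L' : Dual.D A)
    (e : ∀ n, K n ≅ K' n) (he : ∀ n, t n ≫ (e n).hom = (e (n + 1)).hom ≫ t' n) (eL : L ≅ L')
    (h : DCoh.IsRlim K' t' L') : DCoh.IsRlim K t L := by
  obtain ⟨a', c', hdist⟩ := h
  let Φ : ∏ᶜ K ≅ ∏ᶜ K' := Pi.mapIso e
  have hΦ : ∀ n, Φ.hom ≫ Pi.π K' n = Pi.π K n ≫ (e n).hom := fun n => by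
    change Limits.Pi.map (fun b => (e b).hom) ≫ Pi.π K' n = Pi.π K n ≫ (e n).hom
    exact Limits.Pi.map_π (fun b => (e b).hom) n
  refine ⟨eL.hom ≫ a' ≫ Φ.inv, Φ.hom ≫ c' ≫ eL.inv⟦(1 : ℤ)⟧', ?_⟩
  refine isomorphic_distinguished _ hdist _ ?_
  refine Triangle.isoMk _ _ eL Φ Φ ?_ ?_ ?_
  · change (eL.hom ≫ a' ≫ Φ.inv) ≫ Φ.hom = eL.hom ≫ a'
    rw [assoc, assoc, Iso.inv_hom_id, comp_id]
  · change (Pi.lift fun n => Pi.π K n - Pi.π K (n + 1) ≫ t n) ≫ Φ.hom =
      Φ.hom ≫ (Pi.lift fun n => Pi.π K' n - Pi.π K' (n + 1) ≫ t' n)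
    apply Pi.hom_ext
    intro n
    have h1 : Φ.hom ≫ Pi.π K' (n + 1) ≫ t' n = Pi.π K (n + 1) ≫ (e (n + 1)).hom ≫ t' n := by
      rw [← assoc, hΦ, assoc]
    rw [assoc, assoc, Pi.lift_π, hΦ, ← assoc, Pi.lift_π, Preadditive.sub_comp,
      Preadditive.comp_sub, assoc, he, h1, hΦ]
  · change (Φ.hom ≫ c' ≫ eL.inv⟦(1 : ℤ)⟧') ≫ eL.hom⟦(1 : ℤ)⟧' = Φ.hom ≫ c'
    rw [assoc, assoc, ← Functor.map_comp, Iso.inv_hom_id, CategoryTheory.Functor.map_id, comp_id]

theorem main [IsNoetherianRing A] (I J : Ideal A) [DRing.HasRgammaI J]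
    [DRing.HasDerivedCompletion I] [∀ K : ℕ → Dual.D A, HasProduct K] (M : Type u)
    [AddCommGroup M] [Module A M] [Module.Finite A M] :
    DCoh.IsRlim
      (fun n : ℕ => (DRing.RgammaI J).obj (Dual.inD A (M ⧸ (I ^ n • ⊤ : Submodule A M))))
      (fun n : ℕ => (DRing.RgammaI J).map
        ((DerivedCategory.singleFunctor (ModuleCat.{u} A) 0).map (ModuleCat.ofHom (qn I M n))))
      ((DRing.derivedCompletion I).obj ((DRing.RgammaI J).obj (Dual.inD A M))).obj ∧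
    ∀ i : ℤ, i < 0 → Subsingleton (Dual.HD A
      ((DRing.derivedCompletion I).obj ((DRing.RgammaI J).obj (Dual.inD A M))).obj i) := by
  classical
  obtain ⟨s, hs⟩ : J.FG := IsNoetherian.noetherian J
  have hspan : Ideal.span {a : A | a ∈ s.toList} = J := (span_toList s).trans hs
  clear hs
  subst hspan
  let fs := s.toList
  let P := extCech (ModuleCat.of A A) fs
  have hfl : ∀ i, Module.Flat A (P.X i) := flat_extCech_X fs
  have hbd : ∀ i : ℤ, i < 0 ∨ (fs.length : ℤ) < i → IsZero (P.X i) :=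
    fun i hi => isZero_extCech_X _ fs i hi
  let M' : ModuleCat.{u} A := ModuleCat.of A M
  -- the limit object
  let e1 : (DRing.RgammaI (Ideal.span {a : A | a ∈ fs})).obj (Dual.inD A M) ≅
      Q.obj ((TN M').obj P) := (ξ fs M').symm
  obtain ⟨e2, -⟩ := exists_iso I M P hfl 0 (fs.length : ℤ) hbd
  let eL : ((DRing.derivedCompletion I).obj
      ((DRing.RgammaI (Ideal.span {a : A | a ∈ fs})).obj (Dual.inD A M))).obj ≅ Q.obj (CΛ I M P) :=
    (ObjectProperty.ι (IsDerivedComplete I)).mapIso ((DRing.derivedCompletion I).mapIso e1) ≪≫ e2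
  refine ⟨?_, ?_⟩
  · refine isRlim_of_iso _ (fun n => Q.obj (Cn I M P n)) _ (fun n => Q.map (τC I M P n)) _ _
      (fun n => (ξ fs (ModuleCat.of A (Nn I M n))).symm) ?_ eL (isRlim I M P)
    intro n
    have hnat := ξ_natural fs (ModuleCat.ofHom (qn I M n))
    change _ ≫ (ξ fs (ModuleCat.of A (Nn I M n))).inv =
      (ξ fs (ModuleCat.of A (Nn I M (n + 1)))).inv ≫ Q.map (τC I M P n)
    rw [Iso.comp_inv_eq, assoc, Iso.eq_inv_comp]
    exact hnat.symm
  · intro i hi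
    have hz : IsZero ((CΛ I M P).X i) := (FΛ I M).map_isZero (hbd i (Or.inl hi))
    have hex : (CΛ I M P).ExactAt i := ShortComplex.exact_of_isZero_X₂ _ hz
    have hz2 : IsZero ((CΛ I M P).homology i) := hex.isZero_homology
    have hz3 : IsZero ((DerivedCategory.homologyFunctor (ModuleCat.{u} A) i).obj
        (Q.obj (CΛ I M P))) :=
      hz2.of_iso ((homologyFunctorFactors (ModuleCat.{u} A) i).app (CΛ I M P))
    exact ModuleCat.subsingleton_of_isZero
      (hz3.of_iso ((DerivedCategory.homologyFunctor (ModuleCat.{u} A) i).mapIso eL))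

end Groth.Agent.H4.RL7
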