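import Mathlib
import Groth.Agent.H4.RL7
import Groth.Agent.H4.DZ4
import Groth.Agent.H4.GM3
import Groth.Agent.Lib.Helper6.HomologyElts
set_option autoImplicit false
universe u
open CategoryTheory Category Limits MonoidalCategory Pretriangulated
open scoped TensorProduct

namespace Groth.Agent.H4.HZ1

attribute [local instance] HasDerivedCategory.standard

open DRing DerivedCategory H5ExtCech DerCA Groth.Agent.H4.RL1 Groth.Agent.H4.RL2 Groth.Agent.H4.RL3
  Groth.Agent.H4.RL4 Groth.Agent.H4.RL5 Groth.Agent.H4.RL6 Groth.Agent.H4.CechRH1 Groth.Agent.H4.SG1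
  Groth.Agent.H6

variable {A : Type u} [CommRing A]

section A1

lemma fst_f_bijective {K L : DRing.Cx A} (φ : K ⟶ L) (hL : IsZero (L.X (-1))) :
    Function.Bijective ((CochainComplex.mappingCocone.fst φ).f 0).hom := by
  refine ⟨fst_f_injective φ hL, fun y =>
    ⟨((CochainComplex.mappingCocone.inl φ).v 0 0 (add_zero 0)).hom y, ?_⟩⟩
  have h := CochainComplex.mappingCocone.inl_v_fst_f φ 0
  exact congrArg (fun ψ => ψ.hom y) h

lemma projf0_bijective : ∀ fs : List A, Function.Bijective ((proj fs).f 0).hom := by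
  intro fs
  induction fs with
  | nil => exact Function.bijective_id
  | cons f fs ih =>
    let u := locCxUnit (Submonoid.powers f) (extCech (ModuleCat.of A A) fs)
    have h1 := fst_f_bijective u ((locFunctor (Submonoid.powers f)).map_isZero
      (isZero_extCech_X _ fs (-1) (Or.inl (by norm_num))))
    exact ih.comp h1

/-- `X_0 ≃ A` -/
noncomputable def pE (fs : List A) : (extCech (ModuleCat.of A A) fs).X 0 ≃ₗ[A] A :=
  (LinearEquiv.ofBijective ((proj fs).f 0).hom (projf0_bijective fs)).trans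
    (HomologicalComplex.singleObjXSelf (ComplexShape.up ℤ) 0 (ModuleCat.of A A)).toLinearEquiv

/-- `X_0 ⊗ N ≃ N` -/
noncomputable def hE (fs : List A) (N : Type u) [AddCommGroup N] [Module A N] :
    ((extCech (ModuleCat.of A A) fs).X 0 ⊗[A] N) ≃ₗ[A] N :=
  (TensorProduct.congr (pE fs) (LinearEquiv.refl A N)).trans (TensorProduct.lid A N)

lemma hE_tmul (fs : List A) (N : Type u) [AddCommGroup N] [Module A N]
    (x : (extCech (ModuleCat.of A A) fs).X 0) (n : N) : hE fs N (x ⊗ₜ n) = pE fs x • n := rfl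

lemma hE_natural (fs : List A) {N N' : Type u} [AddCommGroup N] [Module A N] [AddCommGroup N']
    [Module A N'] (g : N →ₗ[A] N') (z : (extCech (ModuleCat.of A A) fs).X 0 ⊗[A] N) :
    hE fs N' (g.lTensor _ z) = g (hE fs N z) := by
  induction z using TensorProduct.induction_on with
  | zero => simp
  | tmul x n => rw [LinearMap.lTensor_tmul, hE_tmul, hE_tmul, map_smul]
  | add a b ha hb => rw [map_add, map_add, map_add, map_add, ha, hb]

end A1

section A2

lemma pow_smul_eq_zero_of_cycle (N : ModuleCat.{u} A) (fs : List A) (g : A) (hg : g ∈ fs)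
    (z : ((TN N).obj (extCech (ModuleCat.of A A) fs)).X 0)
    (hz : (((TN N).obj (extCech (ModuleCat.of A A) fs)).d 0 1).hom z = 0) :
    ∃ n : ℕ, g ^ n • z = 0 := by
  obtain ⟨h⟩ := contractible_map_extCech g (ModuleCat.of A A) fs hg
    (tensorRight N ⋙ locFunctor (Submonoid.powers g)) (inverts_tensor_loc g N)
  have h' : Homotopy (𝟙 (((locFunctor (Submonoid.powers g)).mapHomologicalComplex
      (ComplexShape.up ℤ)).obj ((TN N).obj (extCech (ModuleCat.of A A) fs)))) 0 := h
  have hz' : (((TN N).obj (extCech (ModuleCat.of A A) fs)).d 0 (0 + 1)).hom z = 0 := hz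
  obtain ⟨n, w, hw⟩ := exists_pow_smul_eq_d_of_contractible g _ h' 0 z hz'
  have hz1 : IsZero (((TN N).obj (extCech (ModuleCat.of A A) fs)).X (0 - 1)) :=
    (tensorRight N).map_isZero (isZero_extCech_X _ fs (0 - 1) (Or.inl (by norm_num)))
  haveI := ModuleCat.subsingleton_of_isZero hz1
  refine ⟨n, ?_⟩
  rw [hw, Subsingleton.elim w 0, map_zero]

lemma mem_torsionSub_of_gens (fs : List A) (N : Type u) [AddCommGroup N] [Module A N] (m : N)
    (h : ∀ g ∈ fs, ∃ n : ℕ, g ^ n • m = 0) :
    m ∈ DRing.torsionSub (Ideal.span {a : A | a ∈ fs}) N := by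
  have hle : Ideal.span {a : A | a ∈ fs} ≤ ((Submodule.span A {m}).annihilator).radical := by
    rw [Ideal.span_le]
    intro g hg
    obtain ⟨n, hn⟩ := h g hg
    exact ⟨n, (Submodule.mem_annihilator_span_singleton _ _).2 hn⟩
  obtain ⟨k, hk⟩ := Ideal.exists_pow_le_of_le_radical_of_fg hle
    (Submodule.fg_span (List.finite_toSet fs))
  exact ⟨k, fun a ha => (Submodule.mem_annihilator_span_singleton _ _).1 (hk ha)⟩

lemma ξ_hom_ε [IsNoetherianRing A] (fs : List A) [HasRgammaI (Ideal.span {a : A | a ∈ fs})]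
    (N : ModuleCat.{u} A) :
    (ξ fs N).hom ≫ (RgammaIε (Ideal.span {a : A | a ∈ fs})).app
      ((DerivedCategory.singleFunctor (ModuleCat.{u} A) 0).obj N) = θ fs N := by
  haveI i1 : IsIso ((RgammaIε (Ideal.span {a : A | a ∈ fs})).app
      (Q.obj ((TN N).obj (extCech (ModuleCat.of A A) fs)))) := isIso_ε fs N
  have n1 := (RgammaIε (Ideal.span {a : A | a ∈ fs})).naturality (θ fs N)
  change (inv ((RgammaIε (Ideal.span {a : A | a ∈ fs})).app
      (Q.obj ((TN N).obj (extCech (ModuleCat.of A A) fs)))) ≫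
    (RgammaI (Ideal.span {a : A | a ∈ fs})).map (θ fs N)) ≫ _ = _
  rw [assoc, IsIso.inv_comp_eq]
  exact n1

end A2

section A2b

lemma rTensor_bijective' {X Y : Type u} [AddCommGroup X] [Module A X] [AddCommGroup Y] [Module A Y]
    (h : X →ₗ[A] Y) (hb : Function.Bijective h) (N : Type u) [AddCommGroup N] [Module A N] :
    Function.Bijective (h.rTensor N) := by
  let e := LinearEquiv.ofBijective h hb
  have : h.rTensor N = (TensorProduct.congr e (LinearEquiv.refl A N)).toLinearMap := by
    apply TensorProduct.ext'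
    intro x n
    rfl
  rw [this]
  exact (TensorProduct.congr e (LinearEquiv.refl A N)).bijective

lemma eq_of_classOf_eq (K : DRing.Cx A) (hK : IsZero (K.X (-1))) (z1 z2 : K.X 0)
    (h1 : K.d 0 1 z1 = 0) (h2 : K.d 0 1 z2 = 0)
    (h : HE.classOf K 0 1 (by simp) z1 h1 = HE.classOf K 0 1 (by simp) z2 h2) : z1 = z2 := by
  unfold HE.classOf at h
  have h0 : K.homologyπ 0 (HE.cycleOf K 0 1 (by simp) z1 h1 - HE.cycleOf K 0 1 (by simp) z2 h2) = 0 := by
    rw [map_sub, h, sub_self]
  obtain ⟨b, hb⟩ := (HE.homologyπ_eq_zero_iff K (-1) 0 (by simp) _).1 h0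
  haveI := ModuleCat.subsingleton_of_isZero hK
  have hb0 : b = 0 := Subsingleton.elim _ _
  rw [hb0, map_zero] at hb
  have h3 := congrArg (K.iCycles 0) hb
  rw [map_zero, map_sub, HE.iCycles_cycleOf, HE.iCycles_cycleOf] at h3
  exact sub_eq_zero.1 h3.symm

variable [IsNoetherianRing A]

lemma d_eq_zero_of_torsion (fs : List A) (T : ModuleCat.{u} A)
    (hT : LocCoh.IsPowerTorsion (Ideal.span {a : A | a ∈ fs}) T)
    (z : ((TN T).obj (extCech (ModuleCat.of A A) fs)).X 0) :
    (((TN T).obj (extCech (ModuleCat.of A A) fs)).d 0 1).hom z = 0 := by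
  haveI := Groth.Agent.H4.GM3.hasRgammaI (Ideal.span {a : A | a ∈ fs})
  let P := extCech (ModuleCat.of A A) fs
  let f := (TN T).map (proj fs)
  have hK : ∀ i : ℤ, LocCoh.IsPowerTorsion (Ideal.span {a : A | a ∈ fs})
      (Dual.HD A (Dual.inD A T) i) := by
    intro i y
    by_cases hi : i = 0
    · subst hi
      obtain ⟨e⟩ := Groth.Agent.H4.DZ4.nonempty_HD_inD_zero (A := A) T
      obtain ⟨n, hn⟩ := hT (e y)
      refine ⟨n, fun a ha => ?_⟩
      apply e.injective
      rw [map_smul, hn a ha, map_zero]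
    · haveI := Groth.Agent.H4.DZ4.subsingleton_HD_inD (A := A) T i hi
      exact ⟨0, fun a _ => by rw [Subsingleton.elim y 0, smul_zero]⟩
  haveI hε : IsIso ((RgammaIε (Ideal.span {a : A | a ∈ fs})).app
      ((DerivedCategory.singleFunctor (ModuleCat.{u} A) 0).obj T)) :=
    Groth.Agent.H4.RG10.S1813 _ (Dual.inD A T) hK
  have hθ : IsIso (θ fs T) := by
    rw [← ξ_hom_ε]
    infer_instance
  have hQf : IsIso (Q.map f) := by
    haveI : IsIso (Q.map ((TN T).map (proj fs)) ≫ (bIso T).hom) := hθ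
    exact IsIso.of_isIso_comp_right (Q.map ((TN T).map (proj fs))) (bIso T).hom
  have hqi : QuasiIso f := (isIso_Q_map_iff_quasiIso _ f).1 hQf
  haveI : IsIso (HomologicalComplex.homologyMap f 0) :=
    (quasiIsoAt_iff_isIso_homologyMap f 0).1 ((quasiIso_iff f).1 hqi 0)
  have hbij : Function.Bijective (HomologicalComplex.homologyMap f 0).hom :=
    (ConcreteCategory.isIso_iff_bijective _).1 inferInstance
  let K := (TN T).obj P
  let K' := (TN T).obj (sg0 (ModuleCat.of A A))
  have hz1 : IsZero (K'.X 1) := (tensorRight T).map_isZero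
    (HomologicalComplex.isZero_single_obj_X (ComplexShape.up ℤ) 0 _ 1 (by norm_num))
  have hzm1 : IsZero (K'.X (-1)) := (tensorRight T).map_isZero
    (HomologicalComplex.isZero_single_obj_X (ComplexShape.up ℤ) 0 _ (-1) (by norm_num))
  let y := (f.f 0).hom z
  have hy : K'.d 0 1 y = 0 := by
    haveI := ModuleCat.subsingleton_of_isZero hz1
    exact Subsingleton.elim _ _
  obtain ⟨c, hc⟩ := hbij.2 (HE.classOf K' 0 1 (by simp) y hy)
  obtain ⟨z', hz', rfl⟩ := HE.classOf_surjective K 0 1 (by simp) c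
  have hc' : HomologicalComplex.homologyMap f 0 (HE.classOf K 0 1 (by simp) z' hz') =
      HE.classOf K' 0 1 (by simp) y hy := hc
  rw [HE.homologyMap_classOf] at hc'
  have h5 : (f.f 0).hom z' = (f.f 0).hom z := eq_of_classOf_eq K' hzm1 _ _ _ _ hc'
  have hinj : Function.Injective (f.f 0).hom :=
    (rTensor_bijective' ((proj fs).f 0).hom (projf0_bijective fs) T).1
  rw [← hinj h5]
  exact hz'

lemma cycle_iff (fs : List A) (N : ModuleCat.{u} A)
    (z : ((TN N).obj (extCech (ModuleCat.of A A) fs)).X 0) :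
    (((TN N).obj (extCech (ModuleCat.of A A) fs)).d 0 1).hom z = 0 ↔
      hE fs N z ∈ DRing.torsionSub (Ideal.span {a : A | a ∈ fs}) N := by
  constructor
  · intro hz
    apply mem_torsionSub_of_gens
    intro g hg
    obtain ⟨n, hn⟩ := pow_smul_eq_zero_of_cycle N fs g hg z hz
    refine ⟨n, ?_⟩
    have e1 : hE fs N (g ^ n • z) = g ^ n • hE fs N z := map_smul (hE fs N) (g ^ n) z
    have e2 : hE fs N (g ^ n • z) = 0 := (congrArg (hE fs N) hn).trans (map_zero _)
    exact e1.symm.trans e2
  · intro h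
    let J := Ideal.span {a : A | a ∈ fs}
    let T : ModuleCat.{u} A := ModuleCat.of A (DRing.torsionSub J N)
    let i : T ⟶ N := ModuleCat.ofHom (DRing.torsionSub J N).subtype
    have hT : LocCoh.IsPowerTorsion J T := by
      rintro ⟨m0, n, hn⟩
      exact ⟨n, fun a ha => Subtype.ext (hn a ha)⟩
    let t : T := ⟨hE fs N z, h⟩
    let z' := (hE fs T).symm t
    have hzz : i.hom.lTensor _ z' = z := by
      apply (hE fs N).injective
      rw [hE_natural]
      change i.hom ((hE fs T) ((hE fs T).symm t)) = _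
      rw [LinearEquiv.apply_symm_apply]
      rfl
    have hcomm := ((NT i).app (extCech (ModuleCat.of A A) fs)).comm 0 1
    have h6 := congrArg (fun φ => φ.hom z') hcomm
    have h7 : (((TN N).obj (extCech (ModuleCat.of A A) fs)).d 0 1).hom (i.hom.lTensor _ z') =
        (((NT i).app (extCech (ModuleCat.of A A) fs)).f 1).hom
          ((((TN T).obj (extCech (ModuleCat.of A A) fs)).d 0 1).hom z') := h6
    rw [← hzz, h7, d_eq_zero_of_torsion fs T hT z', map_zero]

end A2b

end Groth.Agent.H4.HZ1
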