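import Mathlib
import Groth.Agent.H4.HZ1
import Groth.Agent.Lib.Helper9.ChevMod
set_option autoImplicit false
universe u
open CategoryTheory Category Limits MonoidalCategory Pretriangulated
open scoped TensorProduct

namespace Groth.Agent.H4.HZ2

attribute [local instance] HasDerivedCategory.standard

open DRing DerivedCategory H5ExtCech DerCA Groth.Agent.H4.RL1 Groth.Agent.H4.RL2 Groth.Agent.H4.RL3
  Groth.Agent.H4.RL4 Groth.Agent.H4.RL5 Groth.Agent.H4.RL6 Groth.Agent.H4.CechRH1 Groth.Agent.H4.SG1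
  Groth.Agent.H6 Groth.Agent.H4.HZ1

variable {A : Type u} [CommRing A] (I : Ideal A) (M : Type u) [AddCommGroup M] [Module A M]

section A3

variable (P : CochainComplex (ModuleCat.{u} A) ℤ)

lemma cycleΛ_iff (w : (CΛ I M P).X 0) :
    ((CΛ I M P).d 0 1).hom w = 0 ↔
      ∀ n, ((Cn I M P n).d 0 1).hom (rho I M (P.X 0) w n) = 0 := by
  have hc : ∀ n, ((Cn I M P n).d 0 1).hom (rho I M (P.X 0) w n) =
      rho I M (P.X 1) (((CΛ I M P).d 0 1).hom w) n := by
    intro n
    have h := (ρC I M P ≫ πC I M P n).comm 0 1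
    exact congrArg (fun φ => φ.hom w) h
  constructor
  · intro hw n
    rw [hc n, hw]
    rfl
  · intro h
    apply rho_injective I M (P.X 1)
    funext n
    rw [← hc n, h n]
    rfl

end A3

section A4

variable [IsNoetherianRing A] [IsAdicComplete I A] [Module.Finite A M] (fs : List A)

/-- `M ≃ M^` -/
noncomputable def ofE : M ≃ₗ[A] AdicCompletion I M :=
  LinearEquiv.ofBijective (AdicCompletion.of I M)
    ((AdicCompletion.of_bijective_iff).2
      (Groth.Agent.H9.ChevMod.isAdicComplete_of_finite A I M))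

/-- `(X_0 ⊗ M)^ → M` -/
noncomputable def Ψ0 : AdicCompletion I ((extCech (ModuleCat.of A A) fs).X 0 ⊗[A] M) →ₗ[A] M :=
  (ofE I M).symm.toLinearMap ∘ₗ
    ((AdicCompletion.map I (hE fs M).toLinearMap).restrictScalars A)

lemma Ψ0_bijective : Function.Bijective (Ψ0 I M fs) := by
  have h1 : Function.Bijective (AdicCompletion.map I (hE fs M).toLinearMap) :=
    (AdicCompletion.congr I (hE fs M)).bijective
  exact (ofE I M).symm.bijective.comp h1

lemma mk_Ψ0 (w : AdicCompletion I ((extCech (ModuleCat.of A A) fs).X 0 ⊗[A] M)) (n : ℕ) :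
    (Submodule.Quotient.mk (Ψ0 I M fs w) : Nn I M n) =
      hE fs (Nn I M n) (rho I M ((extCech (ModuleCat.of A A) fs).X 0) w n) := by
  have h1 : AdicCompletion.of I M (Ψ0 I M fs w) =
      AdicCompletion.map I (hE fs M).toLinearMap w :=
    (ofE I M).apply_symm_apply _
  have h2 := congrArg (fun v => v.val n) h1
  change (AdicCompletion.of I M (Ψ0 I M fs w)).val n =
    (AdicCompletion.map I (hE fs M).toLinearMap w).val n at h2
  rw [AdicCompletion.of_apply, AdicCompletion.map_val_apply] at h2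
  obtain ⟨t, ht⟩ := Submodule.Quotient.mk_surjective _ (w.val n)
  rw [rho_apply, ← ht, jn_mk]
  rw [← ht] at h2
  have h3 : hE fs (Nn I M n) (((I ^ n • ⊤ : Submodule A M).mkQ.lTensor _) t) =
      (I ^ n • ⊤ : Submodule A M).mkQ (hE fs M t) := hE_natural fs _ t
  rw [h3]
  exact h2

end A4

section A5

variable [IsNoetherianRing A] [Module.Finite A M] (J : Ideal A)

lemma S_iff (m : M) :
    (∀ n, (Submodule.Quotient.mk m : Nn I M n) ∈ DRing.torsionSub J (Nn I M n)) ↔
      ∃ J' : Ideal A, J' ≤ J ∧ J ≤ (J' ⊔ I).radical ∧ m ∈ DRing.torsionSub J' M := by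
  constructor
  · intro h
    let N₀ : Submodule A M := Submodule.span A {m}
    obtain ⟨k, hk⟩ := Ideal.exists_pow_inf_eq_pow_smul I N₀
    refine ⟨J ⊓ N₀.annihilator, inf_le_left, ?_, ?_⟩
    · intro g hg
      obtain ⟨e, he⟩ := h (k + 1)
      have h1 : (Submodule.Quotient.mk (g ^ e • m) : Nn I M (k + 1)) = 0 := by
        rw [Submodule.Quotient.mk_smul]
        exact he _ (Ideal.pow_mem_pow hg e)
      have h2 : g ^ e • m ∈ (I ^ (k + 1) • ⊤ : Submodule A M) :=
        (Submodule.Quotient.mk_eq_zero _).1 h1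
      have h3 : g ^ e • m ∈ N₀ :=
        Submodule.smul_mem _ _ (Submodule.mem_span_singleton_self m)
      have h4 : g ^ e • m ∈ (I ^ (k + 1) • ⊤ : Submodule A M) ⊓ N₀ := ⟨h2, h3⟩
      rw [hk (k + 1) (Nat.le_succ k), Nat.add_sub_cancel_left, pow_one] at h4
      have h5 : g ^ e • m ∈ I • N₀ := Submodule.smul_mono le_rfl inf_le_right h4
      obtain ⟨i, hi, him⟩ := Submodule.mem_smul_span_singleton.1 h5
      have h6 : g ^ e - i ∈ N₀.annihilator := by
        rw [Submodule.mem_annihilator_span_singleton, sub_smul, him, sub_self]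
      refine ⟨e + 1, ?_⟩
      have h7 : g ^ (e + 1) = g * (g ^ e - i) + g * i := by ring
      rw [h7]
      exact Ideal.add_mem _
        (Ideal.mem_sup_left ⟨Ideal.mul_mem_right _ _ hg, Ideal.mul_mem_left _ _ h6⟩)
        (Ideal.mem_sup_right (Ideal.mul_mem_left _ _ hi))
    · refine ⟨1, fun a ha => ?_⟩
      rw [pow_one] at ha
      exact (Submodule.mem_annihilator_span_singleton _ _).1 ha.2
  · rintro ⟨J', hJ'J, hrad, c, hc⟩ n
    obtain ⟨e, he⟩ := Ideal.exists_pow_le_of_le_radical_of_fg hrad (IsNoetherian.noetherian J)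
    refine ⟨e * (c + n), fun a ha => ?_⟩
    have h1 : J ^ (e * (c + n)) ≤ J' ^ c ⊔ I ^ n := by
      rw [pow_mul]
      exact (Ideal.pow_right_mono he (c + n)).trans Ideal.sup_pow_add_le_pow_sup_pow
    obtain ⟨b, hb, i, hi, rfl⟩ := Submodule.mem_sup.1 (h1 ha)
    rw [← Submodule.Quotient.mk_smul, add_smul, hc b hb, zero_add]
    exact (Submodule.Quotient.mk_eq_zero _).2 (Submodule.smul_mem_smul hi Submodule.mem_top)

end A5

end Groth.Agent.H4.HZ2
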