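import Mathlib
import Groth.Agent.H4.HZ2
import Groth.Agent.H4.Cof1
set_option autoImplicit false
universe u
open CategoryTheory Category Limits MonoidalCategory Pretriangulated
open scoped TensorProduct

namespace Groth.Agent.H4.HZ3

attribute [local instance] HasDerivedCategory.standard

open DRing DerivedCategory H5ExtCech DerCA Groth.Agent.H4.RL1 Groth.Agent.H4.RL2 Groth.Agent.H4.RL3
  Groth.Agent.H4.RL4 Groth.Agent.H4.RL5 Groth.Agent.H4.RL6 Groth.Agent.H4.CechRH1 Groth.Agent.H4.SG1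
  Groth.Agent.H6 Groth.Agent.H4.HZ1 Groth.Agent.H4.HZ2

variable {A : Type u} [CommRing A]

lemma iota_hom_app (M' : ModuleCat.{u} A) :
    (singleFunctorCompHomologyFunctorIso (ModuleCat.{u} A) 0).hom.app M' =
      (homologyFunctorFactors (ModuleCat.{u} A) 0).hom.app
        ((HomologicalComplex.single (ModuleCat.{u} A) (ComplexShape.up ℤ) 0).obj M') ≫
      (HomologicalComplex.singleObjHomologySelfIso (ComplexShape.up ℤ) 0 M').hom := by
  simp [singleFunctorCompHomologyFunctorIso, singleFunctorsPostcompQIso_hom_hom]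
  erw [CategoryTheory.Functor.map_id, id_comp, id_comp]

section B2

variable [IsNoetherianRing A] (I : Ideal A) [IsAdicComplete I A] (M : Type u) [AddCommGroup M]
  [Module A M] [Module.Finite A M] (fs : List A)

lemma Ψ0_of (z : (extCech (ModuleCat.of A A) fs).X 0 ⊗[A] M) :
    Ψ0 I M fs (AdicCompletion.of I _ z) = hE fs M z := by
  change (ofE I M).symm (AdicCompletion.map I (hE fs M).toLinearMap (AdicCompletion.of I _ z)) = _
  rw [AdicCompletion.map_of]
  exact (ofE I M).symm_apply_apply _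

/-- the augmentation `(Č ⊗ M)^ ⟶ M[0]` -/
noncomputable def Ψ : CΛ I M (extCech (ModuleCat.of A A) fs) ⟶ sg0 (ModuleCat.of A M) :=
  HomologicalComplex.mkHomToSingle (ModuleCat.ofHom (Ψ0 I M fs)) (fun i hi => by
    have hi' : i = -1 := by
      have : i + 1 = 0 := hi
      omega
    subst hi'
    have hz : IsZero ((CΛ I M (extCech (ModuleCat.of A A) fs)).X (-1)) :=
      (FΛ I M).map_isZero (isZero_extCech_X _ fs (-1) (Or.inl (by norm_num)))
    exact hz.eq_of_src _ _)

lemma Ψ_f0 : (Ψ I M fs).f 0 = ModuleCat.ofHom (Ψ0 I M fs) ≫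
    (HomologicalComplex.singleObjXSelf (ComplexShape.up ℤ) 0 (ModuleCat.of A M)).inv :=
  HomologicalComplex.mkHomToSingle_f _ _

lemma ofC_Ψ : ofC I M (extCech (ModuleCat.of A A) fs) ≫ Ψ I M fs =
    (TN (ModuleCat.of A M)).map (proj fs) ≫ (aIso (ModuleCat.of A M)).hom := by
  apply HomologicalComplex.to_single_hom_ext
  simp only [aIso, Iso.trans_hom, Iso.app_hom, Functor.mapIso_hom, HomologicalComplex.comp_f,
    HomologicalComplex.singleMapHomologicalComplex_hom_app_self,
    HomologicalComplex.single_map_f_self, Ψ_f0]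
  let M' : ModuleCat.{u} A := ModuleCat.of A M
  let pr : (extCech (ModuleCat.of A A) fs).X 0 ⟶
      ((HomologicalComplex.single (ModuleCat.{u} A) (ComplexShape.up ℤ) 0).obj (ModuleCat.of A A)).X 0 :=
    (proj fs).f 0
  let s := (HomologicalComplex.singleObjXSelf (ComplexShape.up ℤ) 0 (ModuleCat.of A A)).hom
  let i := HomologicalComplex.singleObjXSelf (ComplexShape.up ℤ) 0 (ModuleCat.of A A ⊗ M')
  let jM := HomologicalComplex.singleObjXSelf (ComplexShape.up ℤ) 0 M'
  have key' : (hE fs M).toLinearMap = ((pr ▷ M') ≫ (s ▷ M') ≫ (λ_ M').hom).hom :=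
    TensorProduct.ext' (fun x m => rfl)
  have key : (ofC I M (extCech (ModuleCat.of A A) fs)).f 0 ≫ ModuleCat.ofHom (Ψ0 I M fs) =
      (pr ▷ M') ≫ (s ▷ M') ≫ (λ_ M').hom := by
    apply ModuleCat.hom_ext
    apply LinearMap.ext
    intro z
    change Ψ0 I M fs (AdicCompletion.of I _ z) = _
    rw [Ψ0_of]
    exact LinearMap.congr_fun key' z
  have e1 : ((pr ▷ M') ≫ (s ▷ M') ≫ (λ_ M').hom) ≫ jM.inv =
      (pr ▷ M') ≫ ((s ▷ M') ≫ i.inv) ≫ i.hom ≫ (λ_ M').hom ≫ jM.inv := by
    simp only [assoc, Iso.inv_hom_id_assoc]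
  exact ((assoc _ _ _).symm.trans (congrArg (· ≫ jM.inv) key)).trans e1

end B2

section B3

variable [IsNoetherianRing A] (I : Ideal A) [IsAdicComplete I A] (M : Type u) [AddCommGroup M]
  [Module A M] [Module.Finite A M] (fs : List A) [HasRgammaI (Ideal.span {a : A | a ∈ fs})]
  [HasDerivedCompletion I]

theorem exists_model :
    ∃ eL : ((derivedCompletion I).obj
        ((RgammaI (Ideal.span {a : A | a ∈ fs})).obj (Dual.inD A M))).obj ≅
        Q.obj (CΛ I M (extCech (ModuleCat.of A A) fs)),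
      (ObjectProperty.ι (IsDerivedComplete I)).map ((derivedCompletion I).map
          ((RgammaIε (Ideal.span {a : A | a ∈ fs})).app (Dual.inD A M))) =
        eL.hom ≫ Q.map (Ψ I M fs) ≫ toDerivedCompletion I (Dual.inD A M) := by
  let P := extCech (ModuleCat.of A A) fs
  have hfl : ∀ i, Module.Flat A (P.X i) := flat_extCech_X fs
  have hbd : ∀ i : ℤ, i < 0 ∨ (fs.length : ℤ) < i → IsZero (P.X i) :=
    fun i hi => isZero_extCech_X _ fs i hi
  let M' : ModuleCat.{u} A := ModuleCat.of A M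
  let ξM := ξ fs M'
  obtain ⟨e2, he2⟩ := exists_iso I M P hfl 0 (fs.length : ℤ) hbd
  let K : Dual.D A := (RgammaI (Ideal.span {a : A | a ∈ fs})).obj (Dual.inD A M)
  let ε : K ⟶ Dual.inD A M := (RgammaIε (Ideal.span {a : A | a ∈ fs})).app (Dual.inD A M)
  let eL : ((derivedCompletion I).obj K).obj ≅ Q.obj (CΛ I M P) :=
    (ObjectProperty.ι (IsDerivedComplete I)).mapIso ((derivedCompletion I).mapIso ξM.symm) ≪≫ e2
  refine ⟨eL, ?_⟩
  have hMh : IsDerivedComplete I ((derivedCompletion I).obj (Dual.inD A M)).obj :=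
    ((derivedCompletion I).obj (Dual.inD A M)).property
  apply (Groth.Agent.H4.DCompl6.unit_bijective I K _ hMh).1
  change toDerivedCompletion I K ≫ _ = toDerivedCompletion I K ≫ _
  have n1 : ε ≫ toDerivedCompletion I (Dual.inD A M) =
      toDerivedCompletion I K ≫ (ObjectProperty.ι (IsDerivedComplete I)).map
        ((derivedCompletion I).map ε) := (derivedCompletionAdj I).unit.naturality ε
  have n2 : ξM.inv ≫ toDerivedCompletion I (Q.obj ((TM M).obj P)) =
      toDerivedCompletion I K ≫ (ObjectProperty.ι (IsDerivedComplete I)).map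
        ((derivedCompletion I).map ξM.inv) := (derivedCompletionAdj I).unit.naturality ξM.inv
  have h3 : toDerivedCompletion I K ≫ eL.hom = ξM.inv ≫ Q.map (ofC I M P) := by
    change toDerivedCompletion I K ≫ ((ObjectProperty.ι (IsDerivedComplete I)).map
      ((derivedCompletion I).map ξM.inv) ≫ e2.hom) = _
    rw [← assoc, ← n2, assoc, he2]
  have hb : (bIso M').hom = Q.map (aIso M').hom := by
    change Q.map (aIso M').hom ≫ 𝟙 _ = _
    exact comp_id _
  have h4 : Q.map (ofC I M P) ≫ Q.map (Ψ I M fs) = θ fs M' := by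
    rw [← Q.map_comp, ofC_Ψ, Q.map_comp]
    unfold θ
    rw [hb]
    rfl
  have h5 : ξM.inv ≫ θ fs M' = ε := by
    rw [← ξ_hom_ε, Iso.inv_hom_id_assoc]
  have hR : toDerivedCompletion I K ≫ (eL.hom ≫ Q.map (Ψ I M fs) ≫
      toDerivedCompletion I (Dual.inD A M)) = ε ≫ toDerivedCompletion I (Dual.inD A M) := by
    calc toDerivedCompletion I K ≫ (eL.hom ≫ Q.map (Ψ I M fs) ≫
          toDerivedCompletion I (Dual.inD A M))
        = (toDerivedCompletion I K ≫ eL.hom) ≫ (Q.map (Ψ I M fs) ≫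
          toDerivedCompletion I (Dual.inD A M)) := (assoc _ _ _).symm
      _ = (ξM.inv ≫ Q.map (ofC I M P)) ≫ (Q.map (Ψ I M fs) ≫
          toDerivedCompletion I (Dual.inD A M)) :=
        congrArg (· ≫ (Q.map (Ψ I M fs) ≫ toDerivedCompletion I (Dual.inD A M))) h3
      _ = ξM.inv ≫ ((Q.map (ofC I M P) ≫ Q.map (Ψ I M fs)) ≫
          toDerivedCompletion I (Dual.inD A M)) := by simp only [assoc]
      _ = ξM.inv ≫ (θ fs M' ≫ toDerivedCompletion I (Dual.inD A M)) :=
        congrArg (fun t => ξM.inv ≫ (t ≫ toDerivedCompletion I (Dual.inD A M))) h4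
      _ = (ξM.inv ≫ θ fs M') ≫ toDerivedCompletion I (Dual.inD A M) := (assoc _ _ _).symm
      _ = ε ≫ toDerivedCompletion I (Dual.inD A M) :=
        congrArg (· ≫ toDerivedCompletion I (Dual.inD A M)) h5
  exact n1.symm.trans hR.symm

end B3

end Groth.Agent.H4.HZ3
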