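import Mathlib
import Groth.Agent.H4.HZ3
set_option autoImplicit false
universe u
open CategoryTheory Category Limits MonoidalCategory Pretriangulated
open scoped TensorProduct

namespace Groth.Agent.H4.HZ4

attribute [local instance] HasDerivedCategory.standard

open DRing DerivedCategory H5ExtCech DerCA Groth.Agent.H4.RL1 Groth.Agent.H4.RL2 Groth.Agent.H4.RL3
  Groth.Agent.H4.RL4 Groth.Agent.H4.RL5 Groth.Agent.H4.RL6 Groth.Agent.H4.CechRH1 Groth.Agent.H4.SG1
  Groth.Agent.H6 Groth.Agent.H4.HZ1 Groth.Agent.H4.HZ2 Groth.Agent.H4.HZ3 Groth.Agent.H4.DNak3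

variable {A : Type u} [CommRing A]

lemma sohs_classOf (M' : ModuleCat.{u} A) (y : (sg0 M').X 0) (hy : (sg0 M').d 0 1 y = 0) :
    (HomologicalComplex.singleObjHomologySelfIso (ComplexShape.up ℤ) 0 M').hom
        (HE.classOf (sg0 M') 0 1 (by simp) y hy) =
      (HomologicalComplex.singleObjXSelf (ComplexShape.up ℤ) 0 M').hom y := by
  unfold HE.classOf
  have h := HomologicalComplex.homologyπ_singleObjHomologySelfIso_hom (C := ModuleCat.{u} A)
    (ComplexShape.up ℤ) 0 M'
  rw [HomologicalComplex.singleObjCyclesSelfIso_hom] at h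
  have h2 := congrArg (fun φ => φ.hom (HE.cycleOf (sg0 M') 0 1 (by simp) y hy)) h
  change _ = (HomologicalComplex.singleObjXSelf (ComplexShape.up ℤ) 0 M').hom
    ((sg0 M').iCycles 0 (HE.cycleOf (sg0 M') 0 1 (by simp) y hy)) at h2
  rw [HE.iCycles_cycleOf] at h2
  exact h2

section B4

variable [IsNoetherianRing A] (I : Ideal A) [IsAdicComplete I A] (M : Type u) [AddCommGroup M]
  [Module A M] [Module.Finite A M]

theorem main (J : Ideal A) [DRing.HasRgammaI J] [DRing.HasDerivedCompletion I] :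
    Function.Injective ((DerivedCategory.homologyFunctor (ModuleCat.{u} A) 0).map
      ((ObjectProperty.ι (DRing.IsDerivedComplete I)).map ((DRing.derivedCompletion I).map
        ((DRing.RgammaIε J).app (Dual.inD A M))))).hom ∧
    Set.range ((DerivedCategory.homologyFunctor (ModuleCat.{u} A) 0).map
      ((ObjectProperty.ι (DRing.IsDerivedComplete I)).map ((DRing.derivedCompletion I).map
        ((DRing.RgammaIε J).app (Dual.inD A M))))).hom =
      (fun s : M => ((DerivedCategory.homologyFunctor (ModuleCat.{u} A) 0).map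
        (DRing.toDerivedCompletion I (Dual.inD A M))).hom
          (((DerivedCategory.singleFunctorCompHomologyFunctorIso (ModuleCat.{u} A) 0).inv.app
            (ModuleCat.of A M)).hom s)) ''
        {s : M | ∃ J' : Ideal A, J' ≤ J ∧ J ≤ (J' ⊔ I).radical ∧ s ∈ DRing.torsionSub J' M} := by
  classical
  obtain ⟨s0, hs0⟩ : J.FG := IsNoetherian.noetherian J
  have hspan : Ideal.span {a : A | a ∈ s0.toList} = J := (span_toList s0).trans hs0
  clear hs0
  subst hspan
  let fs := s0.toList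
  let P := extCech (ModuleCat.of A A) fs
  obtain ⟨eL, hψ⟩ := exists_model I M fs
  let H := DerivedCategory.homologyFunctor (ModuleCat.{u} A) 0
  let hff := homologyFunctorFactors (ModuleCat.{u} A) 0
  let CL := CΛ I M P
  let M' : ModuleCat.{u} A := ModuleCat.of A M
  let sohs := HomologicalComplex.singleObjHomologySelfIso (ComplexShape.up ℤ) 0 M'
  let sxs := HomologicalComplex.singleObjXSelf (ComplexShape.up ℤ) 0 M'
  let ι0 := singleFunctorCompHomologyFunctorIso (ModuleCat.{u} A) 0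
  let ηM := toDerivedCompletion I (Dual.inD A M)
  let κ : CL.homology 0 ⟶ M' := HomologicalComplex.homologyMap (Ψ I M fs) 0 ≫ sohs.hom
  let α : H.obj ((derivedCompletion I).obj
      ((RgammaI (Ideal.span {a : A | a ∈ fs})).obj (Dual.inD A M))).obj ≅ CL.homology 0 :=
    H.mapIso eL ≪≫ hff.app CL
  -- ι0 unfolded
  have hi : ι0.inv.app M' = sohs.inv ≫ hff.inv.app (sg0 M') := by
    have h1 : ι0.app M' = hff.app (sg0 M') ≪≫ sohs := Iso.ext (iota_hom_app M')
    exact congrArg Iso.inv h1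
  -- decomposition
  have hQ : H.map (Q.map (Ψ I M fs)) =
      hff.hom.app CL ≫ HomologicalComplex.homologyMap (Ψ I M fs) 0 ≫ hff.inv.app (sg0 M') := by
    have n := hff.hom.naturality (Ψ I M fs)
    have n' : H.map (Q.map (Ψ I M fs)) ≫ hff.hom.app (sg0 M') =
        hff.hom.app CL ≫ HomologicalComplex.homologyMap (Ψ I M fs) 0 := n
    exact ((Iso.eq_comp_inv (hff.app (sg0 M'))).2 n').trans (assoc _ _ _)
  have hdec : H.map ((ObjectProperty.ι (DRing.IsDerivedComplete I)).map
      ((DRing.derivedCompletion I).map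
        ((DRing.RgammaIε (Ideal.span {a : A | a ∈ fs})).app (Dual.inD A M)))) =
      α.hom ≫ κ ≫ ι0.inv.app M' ≫ H.map ηM := by
    rw [hψ, H.map_comp, H.map_comp, hQ, hi]
    change H.map eL.hom ≫ (hff.hom.app CL ≫ HomologicalComplex.homologyMap (Ψ I M fs) 0 ≫
        hff.inv.app (sg0 M')) ≫ H.map ηM =
      (H.map eL.hom ≫ hff.hom.app CL) ≫ (HomologicalComplex.homologyMap (Ψ I M fs) 0 ≫ sohs.hom) ≫
        (sohs.inv ≫ hff.inv.app (sg0 M')) ≫ H.map ηM
    simp only [assoc, Iso.hom_inv_id_assoc]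
  -- κ on classes
  have hκ : ∀ (w : CL.X 0) (hw : CL.d 0 1 w = 0),
      κ.hom (HE.classOf CL 0 1 (by simp) w hw) = Ψ0 I M fs w := by
    intro w hw
    change sohs.hom (HomologicalComplex.homologyMap (Ψ I M fs) 0
      (HE.classOf CL 0 1 (by simp) w hw)) = _
    rw [HE.homologyMap_classOf, sohs_classOf]
    have h1 := congrArg (fun φ => φ.hom w) (Ψ_f0 I M fs)
    change ((Ψ I M fs).f 0).hom w = sxs.inv.hom (Ψ0 I M fs w) at h1
    change sxs.hom.hom (((Ψ I M fs).f 0).hom w) = _
    rw [h1]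
    exact congrArg (fun φ => φ.hom (Ψ0 I M fs w)) sxs.inv_hom_id
  -- cycles
  have hcyc : ∀ w : CL.X 0, CL.d 0 1 w = 0 ↔
      ∃ J' : Ideal A, J' ≤ Ideal.span {a : A | a ∈ fs} ∧
        Ideal.span {a : A | a ∈ fs} ≤ (J' ⊔ I).radical ∧ Ψ0 I M fs w ∈ DRing.torsionSub J' M := by
    intro w
    rw [← S_iff I M (Ideal.span {a : A | a ∈ fs}) (Ψ0 I M fs w)]
    have h1 := cycleΛ_iff I M P w
    refine h1.trans (forall_congr' fun n => ?_)
    rw [mk_Ψ0 I M fs w n]
    exact cycle_iff fs (ModuleCat.of A (Nn I M n)) (rho I M (P.X 0) w n)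
  -- injectivity of κ
  have hκinj : Function.Injective κ.hom := by
    rw [injective_iff_map_eq_zero]
    intro x hx
    obtain ⟨w, hw, rfl⟩ := HE.classOf_surjective CL 0 1 (by simp) x
    rw [hκ w hw] at hx
    have hw0 : w = 0 := (Ψ0_bijective I M fs).1 (hx.trans (map_zero _).symm)
    rw [HE.classOf_eq_zero_iff CL (-1) 0 1 (by simp) (by simp)]
    exact ⟨0, by rw [map_zero, hw0]⟩
  -- the map u
  haveI hM : IsAdicComplete I M := Groth.Agent.H9.ChevMod.isAdicComplete_of_finite A I M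
  have hcomp : IsDerivedComplete I (Dual.inD A M) := Groth.Agent.S7048.result I M
  haveI : IsIso ηM := Groth.Agent.H4.Cof1.isIso_unit_of_isDerivedComplete I _ hcomp
  have huinj : Function.Injective (ι0.inv.app M' ≫ H.map ηM).hom :=
    ((ConcreteCategory.isIso_iff_bijective (ι0.inv.app M' ≫ H.map ηM)).1 inferInstance).1
  have hαbij : Function.Bijective α.hom.hom :=
    (ConcreteCategory.isIso_iff_bijective α.hom).1 inferInstance
  have hfun : ∀ x, (H.map ((ObjectProperty.ι (DRing.IsDerivedComplete I)).map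
      ((DRing.derivedCompletion I).map
        ((DRing.RgammaIε (Ideal.span {a : A | a ∈ fs})).app (Dual.inD A M))))).hom x =
      (ι0.inv.app M' ≫ H.map ηM).hom (κ.hom (α.hom.hom x)) := by
    intro x
    rw [hdec]
    rfl
  refine ⟨?_, ?_⟩
  · intro x y hxy
    rw [hfun x, hfun y] at hxy
    exact hαbij.1 (hκinj (huinj hxy))
  · ext v
    constructor
    · rintro ⟨x, rfl⟩
      rw [hfun x]
      obtain ⟨w, hw, hwx⟩ := HE.classOf_surjective CL 0 1 (by simp) (α.hom.hom x)
      refine ⟨Ψ0 I M fs w, (hcyc w).1 hw, ?_⟩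
      rw [← hwx, hκ w hw]
      rfl
    · rintro ⟨m, hm, rfl⟩
      obtain ⟨w, rfl⟩ := (Ψ0_bijective I M fs).2 m
      have hw : CL.d 0 1 w = 0 := (hcyc w).2 hm
      obtain ⟨x, hx⟩ := hαbij.2 (HE.classOf CL 0 1 (by simp) w hw)
      refine ⟨x, ?_⟩
      rw [hfun x, hx, hκ w hw]
      rfl

end B4

end Groth.Agent.H4.HZ4
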