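import Mathlib
import Groth.Prelude.Def_QuadGrp
import Groth.Agent.Lib.Helper7.QuadGrp.Half3

set_option linter.unusedSectionVars false
set_option linter.unusedVariables false
set_option linter.style.haveILetI false
set_option autoImplicit false

namespace Groth.Agent.H4.HalfDiscFib

open Groth.Agent.H7.QG Matrix Module TensorProduct

section formula
variable {S : Type*} [CommRing S] {N : ℕ}

theorem hd_eq_of_regular (hn : Odd (N + 1)) (h2 : ∀ x : S, 2 * x = 0 → x = 0)
    (a : Sym2 (Fin (N + 1)) → S) (i₀ : Fin (N + 1)) (ha : ∀ j, j ≠ i₀ → a s(i₀, j) = 0) :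
    hd a = a s(i₀, i₀) * ((polMat a).submatrix i₀.succAbove i₀.succAbove).det := by
  apply sub_eq_zero.1
  apply h2
  have h1 := two_mul_hd hn a
  rw [dd_eq_det, Matrix.det_succ_row _ i₀, Finset.sum_eq_single i₀] at h1
  · have e : (-1 : S) ^ ((i₀ : ℕ) + (i₀ : ℕ)) = 1 := by rw [← two_mul, pow_mul]; simp
    have e2 : polMat a i₀ i₀ = 2 * a s(i₀, i₀) := by simp [polMat]
    rw [e, e2] at h1
    linear_combination h1
  · intro j _ hj
    have : polMat a i₀ j = 0 := by
      simp only [polMat, Matrix.of_apply, if_neg (Ne.symm hj)]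
      exact ha j hj
    rw [this]; ring
  · intro h; exact absurd (Finset.mem_univ _) h

theorem hd_eq (hn : Odd (N + 1)) (a : Sym2 (Fin (N + 1)) → S) (i₀ : Fin (N + 1))
    (ha : ∀ j, j ≠ i₀ → a s(i₀, j) = 0) :
    hd a = a s(i₀, i₀) * ((polMat a).submatrix i₀.succAbove i₀.succAbove).det := by
  classical
  let U := MvPolynomial (Sym2 (Fin (N + 1))) ℤ
  let aU : Sym2 (Fin (N + 1)) → U :=
    fun z => if (i₀ ∈ z ∧ ¬ z.IsDiag) then 0 else MvPolynomial.X z
  have hU2 : ∀ x : U, 2 * x = 0 → x = 0 := by
    intro x hx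
    rcases mul_eq_zero.1 hx with h | h
    · exfalso
      have h3 : (MvPolynomial.C (2 : ℤ) : U) = 0 := by rw [← h]; simp
      have := congrArg (MvPolynomial.coeff 0) h3
      rw [MvPolynomial.coeff_C, if_pos rfl, MvPolynomial.coeff_zero] at this
      norm_num at this
    · exact h
  have haU : ∀ j, j ≠ i₀ → aU s(i₀, j) = 0 := by
    intro j hj
    simp only [aU]
    rw [if_pos]
    exact ⟨Sym2.mem_mk_left _ _, by rw [Sym2.mk_isDiag_iff]; exact Ne.symm hj⟩
  have hU := hd_eq_of_regular hn hU2 aU i₀ haU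
  let ev : U →+* S := MvPolynomial.eval₂Hom (Int.castRingHom S) a
  have h1 : ev ∘ aU = a := by
    funext z
    simp only [Function.comp_apply, aU]
    split_ifs with h
    · obtain ⟨hz, hd'⟩ := h
      rw [map_zero]
      have hs := Sym2.other_spec hz
      rw [← hs]
      symm
      apply ha
      intro hEq
      apply hd'
      rw [← hs, hEq]
      exact Sym2.mk_isDiag_iff.mpr rfl
    · show MvPolynomial.eval₂ _ _ (MvPolynomial.X z) = _
      rw [MvPolynomial.eval₂_X]
  have h3 := congrArg ev hU
  rw [map_hd, h1, map_mul, RingHom.map_det] at h3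
  have h4 : ev (aU s(i₀, i₀)) = a s(i₀, i₀) := congrFun h1 s(i₀, i₀)
  have h5 : ev.mapMatrix ((polMat aU).submatrix i₀.succAbove i₀.succAbove)
      = (polMat a).submatrix i₀.succAbove i₀.succAbove := by
    rw [← h1, ← map_polMat]
    rfl
  rw [h4, h5] at h3
  exact h3

end formula

section field
variable {k : Type*} [Field k] {V : Type*} [AddCommGroup V] [Module k V] {N : ℕ}

/-- The coefficient system of `Q` in the basis `b`. -/
noncomputable abbrev cf (b : Basis (Fin (N + 1)) k V) (Q : QuadraticForm k V) :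
    Sym2 (Fin (N + 1)) → k :=
  QuadGrp.coeffs b (LinearEquiv.refl k k) Q

theorem polMat_cf (b : Basis (Fin (N + 1)) k V) (Q : QuadraticForm k V) (i j : Fin (N + 1)) :
    polMat (cf b Q) i j = QuadraticMap.polar Q (b i) (b j) := by
  simp only [polMat, Matrix.of_apply, cf, QuadGrp.coeffs_mk]
  by_cases h : i = j
  · subst h
    rw [if_pos rfl, if_pos rfl, QuadraticMap.polar_self, LinearEquiv.refl_apply, two_smul, two_mul]
  · rw [if_neg h, if_neg h, LinearEquiv.refl_apply]

theorem polar_repr (b : Basis (Fin (N + 1)) k V) (Q : QuadraticForm k V) (x : V)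
    (j : Fin (N + 1)) :
    QuadraticMap.polar Q x (b j) = ∑ l, b.repr x l * polMat (cf b Q) l j := by
  conv_lhs => rw [← b.sum_repr x]
  rw [← QuadraticMap.polarBilin_apply_apply, map_sum, LinearMap.sum_apply]
  refine Finset.sum_congr rfl fun l _ => ?_
  rw [map_smul, LinearMap.smul_apply, QuadraticMap.polarBilin_apply_apply, polMat_cf, smul_eq_mul]

theorem mem_ker_iff (b : Basis (Fin (N + 1)) k V) (Q : QuadraticForm k V) (x : V) :
    QuadraticMap.polarBilin Q x = 0 ↔ ∀ j, ∑ l, b.repr x l * polMat (cf b Q) l j = 0 := by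
  constructor
  · intro h j
    rw [← polar_repr, ← QuadraticMap.polarBilin_apply_apply, h]; rfl
  · intro h
    apply b.ext
    intro j
    rw [QuadraticMap.polarBilin_apply_apply, polar_repr, h j]; rfl

theorem exists_ker_iff (b : Basis (Fin (N + 1)) k V) (Q : QuadraticForm k V) :
    (∃ v : V, v ≠ 0 ∧ QuadraticMap.polarBilin Q v = 0) ↔ (polMat (cf b Q)).det = 0 := by
  classical
  rw [← Matrix.exists_vecMul_eq_zero_iff]
  constructor
  · rintro ⟨v, hv, hK⟩
    refine ⟨b.equivFun v, ?_, ?_⟩
    · intro h; apply hv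
      exact b.equivFun.injective (by rw [h, map_zero])
    · funext j
      have := (mem_ker_iff b Q v).mp hK j
      simpa [Matrix.vecMul, dotProduct, Basis.equivFun_apply] using this
  · rintro ⟨ξ, hξ0, hξ⟩
    have hrepr : ∀ l, b.repr (b.equivFun.symm ξ) l = ξ l := by
      intro l
      rw [← Basis.equivFun_apply, LinearEquiv.apply_symm_apply]
    refine ⟨b.equivFun.symm ξ, ?_, ?_⟩
    · intro h; apply hξ0
      have h' : ξ = b.equivFun (b.equivFun.symm ξ) := (LinearEquiv.apply_symm_apply _ _).symm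
      rw [h', h, map_zero]
    · rw [mem_ker_iff b Q]
      intro j
      have := congrFun hξ j
      simp only [hrepr]
      simpa [Matrix.vecMul, dotProduct] using this

theorem exists_adapted (hn : Odd (N + 1)) (b : Basis (Fin (N + 1)) k V) (Q : QuadraticForm k V)
    (v : V) (hv : v ≠ 0) :
    ∃ (b' : Basis (Fin (N + 1)) k V) (i₀ : Fin (N + 1)) (u : k), u ≠ 0 ∧ b' i₀ = v ∧
      hd (cf b' Q) = u ^ 2 * hd (cf b Q) := by
  classical
  obtain ⟨i₀, hi₀⟩ : ∃ i, b.repr v i ≠ 0 := by
    by_contra h
    push Not at h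
    apply hv
    apply b.repr.injective
    ext i
    simpa using h i
  let g : V →ₗ[k] V := b.constr k (Function.update b i₀ v)
  have hgb : ∀ j, g (b j) = Function.update (⇑b) i₀ v j := fun j => b.constr_basis k _ j
  have hmat : LinearMap.toMatrix b b g = (1 : Matrix _ _ k).updateCol i₀ (b.repr v) := by
    ext i j
    rw [LinearMap.toMatrix_apply, hgb, Matrix.updateCol_apply]
    by_cases hj : j = i₀
    · subst hj; simp
    · rw [if_neg hj, Function.update_of_ne hj, Basis.repr_self, Finsupp.single_apply,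
        Matrix.one_apply]
      by_cases hij : j = i
      · subst hij; simp
      · rw [if_neg hij, if_neg (Ne.symm hij)]
  have hdet : LinearMap.det g = b.repr v i₀ := by
    rw [← LinearMap.det_toMatrix b, hmat, ← Matrix.cramer_apply, Matrix.cramer_one]; rfl
  have hunit : IsUnit (LinearMap.toMatrix b b g).det := by
    rw [LinearMap.det_toMatrix, hdet]; exact isUnit_iff_ne_zero.mpr hi₀
  let e : V ≃ₗ[k] V := LinearEquiv.ofIsUnitDet hunit
  have he : ∀ x, e x = g x := fun x => by
    have := LinearEquiv.coe_ofIsUnitDet hunit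
    exact congrArg (fun f : V →ₗ[k] V => f x) this
  refine ⟨b.map e, i₀, b.repr v i₀, hi₀, ?_, ?_⟩
  · rw [Basis.map_apply, he, hgb, Function.update_self]
  · have hc : cf (b.map e) Q = cf b (Q.comp g) := by
      funext s
      induction s using Sym2.ind with
      | _ i j =>
        simp only [cf, QuadGrp.coeffs_mk, Basis.map_apply, he, QuadraticMap.comp_apply,
          QuadraticMap.polar, map_add]
    rw [hc]
    simp only [cf]
    rw [coeffs_comp, hd_transCoeffs hn, LinearMap.det_toMatrix, hdet]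

theorem eq_smul_of_ker (b : Basis (Fin (N + 1)) k V) (Q : QuadraticForm k V) (i₀ : Fin (N + 1))
    (hK : QuadraticMap.polarBilin Q (b i₀) = 0)
    (hdet : ((polMat (cf b Q)).submatrix i₀.succAbove i₀.succAbove).det ≠ 0)
    (x : V) (hx : QuadraticMap.polarBilin Q x = 0) : x = b.repr x i₀ • b i₀ := by
  have hP0 : ∀ l, polMat (cf b Q) i₀ l = 0 := by
    intro l
    rw [polMat_cf, ← QuadraticMap.polarBilin_apply_apply, hK]; rfl
  have hvm : (fun l' => b.repr x (i₀.succAbove l')) ᵥ*
      ((polMat (cf b Q)).submatrix i₀.succAbove i₀.succAbove) = 0 := by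
    funext j'
    have := (mem_ker_iff b Q x).mp hx (i₀.succAbove j')
    rw [Fin.sum_univ_succAbove _ i₀, hP0, mul_zero, zero_add] at this
    simpa [Matrix.vecMul, dotProduct] using this
  have hz := Matrix.eq_zero_of_vecMul_eq_zero hdet hvm
  conv_lhs => rw [← b.sum_repr x, Fin.sum_univ_succAbove _ i₀]
  have : ∑ l', b.repr x (i₀.succAbove l') • b (i₀.succAbove l') = 0 := by
    apply Finset.sum_eq_zero
    intro l' _
    rw [show b.repr x (i₀.succAbove l') = 0 from congrFun hz l', zero_smul]
  rw [this, add_zero]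

theorem exists_ker_not_smul (b : Basis (Fin (N + 1)) k V) (Q : QuadraticForm k V)
    (i₀ : Fin (N + 1)) (hK : QuadraticMap.polarBilin Q (b i₀) = 0)
    (hdet : ((polMat (cf b Q)).submatrix i₀.succAbove i₀.succAbove).det = 0) :
    ∃ w : V, QuadraticMap.polarBilin Q w = 0 ∧ ∀ c : k, w ≠ c • b i₀ := by
  classical
  obtain ⟨η, hη0, hη⟩ := Matrix.exists_vecMul_eq_zero_iff.mpr hdet
  have hP0 : ∀ l, polMat (cf b Q) l i₀ = 0 := by
    intro l
    rw [polMat_cf, QuadraticMap.polar_comm, ← QuadraticMap.polarBilin_apply_apply, hK]; rfl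
  let ζ : Fin (N + 1) → k := Fin.insertNth i₀ 0 η
  have hζ0 : ζ i₀ = 0 := Fin.insertNth_apply_same _ _ _
  have hζs : ∀ l', ζ (i₀.succAbove l') = η l' := fun l' => Fin.insertNth_apply_succAbove _ _ _ _
  have hrepr : ∀ l, b.repr (b.equivFun.symm ζ) l = ζ l := by
    intro l
    rw [← Basis.equivFun_apply, LinearEquiv.apply_symm_apply]
  refine ⟨b.equivFun.symm ζ, ?_, ?_⟩
  · rw [mem_ker_iff b Q]
    intro j
    simp only [hrepr]
    rw [Fin.sum_univ_succAbove _ i₀, hζ0, zero_mul, zero_add]
    simp only [hζs]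
    rcases eq_or_ne j i₀ with rfl | hj
    · simp [hP0]
    · obtain ⟨j', rfl⟩ := Fin.exists_succAbove_eq hj
      have := congrFun hη j'
      simpa [Matrix.vecMul, dotProduct] using this
  · intro c hc
    obtain ⟨l', hl'⟩ : ∃ l', η l' ≠ 0 := by
      by_contra h
      push Not at h
      exact hη0 (funext h)
    have h1 := congrArg (fun y => b.repr y (i₀.succAbove l')) hc
    simp only [hrepr, hζs, map_smul, Basis.repr_self, Finsupp.smul_apply, Finsupp.single_apply,
      smul_eq_mul] at h1
    rw [if_neg (Fin.succAbove_ne i₀ l').symm, mul_zero] at h1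
    exact hl' h1


theorem field_main (hn : Odd (N + 1)) (b : Basis (Fin (N + 1)) k V) (Q : QuadraticForm k V) :
    hd (cf b Q) ≠ 0 ↔ QuadraticMap.Nondegenerate (Q := Q) := by
  by_cases h2 : (2 : k) = 0
  · -- characteristic 2
    have hdet0 : (polMat (cf b Q)).det = 0 := by
      rw [← dd_eq_det, ← two_mul_hd hn, h2, zero_mul]
    obtain ⟨v, hv0, hvK⟩ := (exists_ker_iff b Q).mpr hdet0
    obtain ⟨b', i₀, u, hu, hb'v, hhd⟩ := exists_adapted hn b Q v hv0
    have hK' : QuadraticMap.polarBilin Q (b' i₀) = 0 := by rw [hb'v]; exact hvK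
    have hform := hd_eq hn (cf b' Q) i₀ (by
      intro j hj
      simp only [cf, QuadGrp.coeffs_mk, if_neg (Ne.symm hj), LinearEquiv.refl_apply]
      rw [← QuadraticMap.polarBilin_apply_apply, hK']; rfl)
    have hdiag : cf b' Q s(i₀, i₀) = Q v := by
      simp [cf, QuadGrp.coeffs_mk, hb'v]
    have hiff : hd (cf b Q) ≠ 0 ↔ hd (cf b' Q) ≠ 0 := by
      rw [hhd]; constructor
      · intro h; exact mul_ne_zero (pow_ne_zero 2 hu) h
      · intro h h0; apply h; rw [h0, mul_zero]
    rw [hiff, hform, hdiag]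
    constructor
    · intro h
      have hQv : Q v ≠ 0 := left_ne_zero_of_mul h
      have hdet : ((polMat (cf b' Q)).submatrix i₀.succAbove i₀.succAbove).det ≠ 0 :=
        right_ne_zero_of_mul h
      have hall : ∀ x, QuadraticMap.polarBilin Q x = 0 → x = b'.repr x i₀ • v := by
        intro x hx
        have := eq_smul_of_ker b' Q i₀ hK' hdet x hx
        rwa [hb'v] at this
      refine ⟨?_, ?_⟩
      · rw [eq_bot_iff]
        intro x hx
        obtain ⟨hQx, hKx⟩ := hx
        have hxv := hall x hKx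
        rw [hxv, QuadraticMap.map_smul, smul_eq_mul] at hQx
        have hc : b'.repr x i₀ = 0 := by
          rcases mul_eq_zero.mp hQx with h | h
          · exact mul_self_eq_zero.mp h
          · exact absurd h hQv
        rw [Submodule.mem_bot, hxv, hc, zero_smul]
      · rw [rank_le_one_iff]
        refine ⟨⟨v, LinearMap.mem_ker.mpr hvK⟩, ?_⟩
        rintro ⟨x, hx⟩
        refine ⟨b'.repr x i₀, ?_⟩
        apply Subtype.ext
        simp only [Submodule.coe_smul]
        exact (hall x (LinearMap.mem_ker.mp hx)).symm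
    · intro hnd
      have hQv : Q v ≠ 0 := by
        intro h0
        have : v ∈ Q.radical := ⟨h0, hvK⟩
        rw [hnd.radical_eq_bot, Submodule.mem_bot] at this
        exact hv0 this
      refine mul_ne_zero hQv ?_
      intro hdet
      obtain ⟨w, hwK, hw⟩ := exists_ker_not_smul b' Q i₀ hK' hdet
      obtain ⟨v₀, hv₀⟩ := rank_le_one_iff.mp hnd.rank_rad_polar_le
      obtain ⟨r₂, hr₂⟩ := hv₀ ⟨v, LinearMap.mem_ker.mpr hvK⟩
      obtain ⟨r₁, hr₁⟩ := hv₀ ⟨w, LinearMap.mem_ker.mpr hwK⟩
      have hr₂0 : r₂ ≠ 0 := by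
        rintro rfl
        rw [zero_smul] at hr₂
        exact hv0 (congrArg Subtype.val hr₂).symm
      apply hw (r₁ * r₂⁻¹)
      rw [hb'v]
      have e1 : (v₀ : V) = r₂⁻¹ • v := by
        have := congrArg Subtype.val hr₂
        simp only [Submodule.coe_smul] at this
        rw [← this, smul_smul, inv_mul_cancel₀ hr₂0, one_smul]
      have e2 := congrArg Subtype.val hr₁
      simp only [Submodule.coe_smul] at e2
      rw [← e2, e1, smul_smul]
  · -- characteristic ≠ 2
    haveI : Invertible (2 : k) := invertibleOfNonzero h2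
    rw [QuadraticMap.nondegenerate_iff_radical_eq_bot, QuadraticMap.radical_eq_ker_polarBilin]
    have h1 : hd (cf b Q) ≠ 0 ↔ (polMat (cf b Q)).det ≠ 0 := by
      rw [← dd_eq_det, ← two_mul_hd hn]
      constructor
      · intro h; exact mul_ne_zero h2 h
      · intro h h0; apply h; rw [h0, mul_zero]
    rw [h1]
    constructor
    · intro hdet
      rw [Submodule.eq_bot_iff]
      intro x hx
      by_contra hx0
      exact hdet ((exists_ker_iff b Q).mp ⟨x, hx0, LinearMap.mem_ker.mp hx⟩)
    · intro hker hdet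
      obtain ⟨v, hv0, hvK⟩ := (exists_ker_iff b Q).mpr hdet
      apply hv0
      have : v ∈ LinearMap.ker (QuadraticMap.polarBilin Q) := LinearMap.mem_ker.mpr hvK
      rw [hker] at this
      exact (Submodule.mem_bot k).mp this

end field

section ring
universe u v
variable {R : Type u} [CommRing R] {M : Type v} [AddCommGroup M] [Module R M] [Module.Free R M]

theorem bcf_tmul (A : Type*) [CommRing A] [Algebra R A] (Q : QuadraticForm R M) (a : A) (x : M) :
    QuadGrp.baseChangeForm A Q (a ⊗ₜ[R] x) = algebraMap R A (Q x) * (a * a) := by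
  simp only [QuadGrp.baseChangeForm, LinearMap.compQuadraticMap_apply, QuadGrp.baseChange_tmul]
  rw [LinearEquiv.coe_coe, TensorProduct.AlgebraTensorModule.rid_tmul, Algebra.smul_def]

theorem coeffs_baseChange (A : Type*) [CommRing A] [Algebra R A] {n : ℕ}
    (b : Basis (Fin n) R M) (Q : QuadraticForm R M) :
    QuadGrp.coeffs (b.baseChange A) (LinearEquiv.refl A A) (QuadGrp.baseChangeForm A Q)
      = (algebraMap R A) ∘ QuadGrp.coeffs b (LinearEquiv.refl R R) Q := by
  funext s
  induction s using Sym2.ind with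
  | _ i j =>
    rw [Function.comp_apply, QuadGrp.coeffs_mk, QuadGrp.coeffs_mk]
    by_cases h : i = j
    · subst h
      rw [if_pos rfl, if_pos rfl, LinearEquiv.refl_apply, LinearEquiv.refl_apply,
        Basis.baseChange_apply, bcf_tmul, mul_one, mul_one]
    · rw [if_neg h, if_neg h, LinearEquiv.refl_apply, LinearEquiv.refl_apply]
      simp only [QuadraticMap.polar, Basis.baseChange_apply, ← TensorProduct.tmul_add, bcf_tmul,
        mul_one, map_sub]

theorem main (m : ℕ) (b : Module.Basis (Fin (2 * m + 1)) R M) (Q : QuadraticForm R M) :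
    IsUnit (QuadGrp.halfDisc b (LinearEquiv.refl R R) Q) ↔
      ∀ (p : Ideal R) [p.IsPrime],
        QuadraticMap.Nondegenerate (Q := QuadGrp.baseChangeForm p.ResidueField Q) := by
  have hn : Odd (2 * m + 1) := ⟨m, rfl⟩
  have key : ∀ (p : Ideal R) [p.IsPrime],
      QuadraticMap.Nondegenerate (Q := QuadGrp.baseChangeForm p.ResidueField Q) ↔
        QuadGrp.halfDisc b (LinearEquiv.refl R R) Q ∉ p := by
    intro p _
    rw [← field_main hn (b.baseChange p.ResidueField) (QuadGrp.baseChangeForm p.ResidueField Q)]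
    simp only [cf]
    rw [coeffs_baseChange, ← map_hd, ← Ideal.algebraMap_residueField_eq_zero (I := p)]
    rfl
  constructor
  · intro hu p _
    rw [key]
    intro hmem
    exact (Ideal.IsPrime.ne_top inferInstance) (Ideal.eq_top_of_isUnit_mem _ hmem hu)
  · intro h
    by_contra hnu
    obtain ⟨I, hI, hmem⟩ := exists_max_ideal_of_mem_nonunits
      (show QuadGrp.halfDisc b (LinearEquiv.refl R R) Q ∈ nonunits R from hnu)
    haveI := hI.isPrime
    exact (key I).mp (h I) hmem

end ring

end Groth.Agent.H4.HalfDiscFib
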