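import Mathlib

/-! helper4: ring-level universal algebra for the pieces of the Hilbert scheme of points. -/

set_option autoImplicit false

universe u

open TensorProduct

noncomputable section

namespace Groth.Agent.H4.HbA

section Defs

variable {A B : Type u} [CommRing A] [CommRing B] (φ₀ : A →+* B) {d : ℕ} (w : Fin d → B)

/-- coordinate data of a quotient algebra of `B ⊗ R` which is free with basis `w` -/
@[ext]
structure Dat (R : Type u) [CommRing R] where
  α : A →+* R
  x : B → Fin d → R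
  x_add : ∀ b b' k, x (b + b') k = x b k + x b' k
  x_smul : ∀ a b k, x (φ₀ a * b) k = α a * x b k
  x_w : ∀ j k, x (w j) k = if j = k then 1 else 0
  x_mul : ∀ b b' k, x (b * b') k = ∑ j, x b' j * x (b * w j) k

variable {φ₀ w}

/-- base change of coordinate data -/
def Dat.map {R R' : Type u} [CommRing R] [CommRing R'] (ψ : R →+* R') (D : Dat φ₀ w R) :
    Dat φ₀ w R' where
  α := ψ.comp D.α
  x b k := ψ (D.x b k)
  x_add b b' k := by rw [D.x_add, map_add]
  x_smul a b k := by rw [D.x_smul, map_mul]; rfl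
  x_w j k := by rw [D.x_w]; split_ifs <;> simp
  x_mul b b' k := by rw [D.x_mul, map_sum]; simp only [map_mul]

variable (φ₀ w)

open MvPolynomial in
/-- the relations of the universal ring -/
def relSet : Set (MvPolynomial (B × Fin d) A) :=
  {p | (∃ b b' k, p = X (b + b', k) - (X (b, k) + X (b', k))) ∨
       (∃ a b k, p = X (φ₀ a * b, k) - C a * X (b, k)) ∨
       (∃ j k, p = X (w j, k) - (if j = k then 1 else 0)) ∨
       (∃ b b' k, p = X (b * b', k) - ∑ j, X (b', j) * X (b * w j, k))}

/-- the universal ring -/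
def Runiv : Type u := MvPolynomial (B × Fin d) A ⧸ Ideal.span (relSet φ₀ w)

instance : CommRing (Runiv φ₀ w) := Ideal.Quotient.commRing _

/-- the quotient map -/
def qm : MvPolynomial (B × Fin d) A →+* Runiv φ₀ w := Ideal.Quotient.mk _

lemma qm_eq_zero {p : MvPolynomial (B × Fin d) A} (h : p ∈ relSet φ₀ w) : qm φ₀ w p = 0 :=
  Ideal.Quotient.eq_zero_iff_mem.mpr (Ideal.subset_span h)

/-- the universal coordinate data -/
def univDat : Dat φ₀ w (Runiv φ₀ w) where
  α := (qm φ₀ w).comp MvPolynomial.C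
  x b k := qm φ₀ w (MvPolynomial.X (b, k))
  x_add b b' k := by
    have := qm_eq_zero φ₀ w (Or.inl ⟨b, b', k, rfl⟩)
    rw [map_sub, sub_eq_zero, map_add] at this
    exact this
  x_smul a b k := by
    have := qm_eq_zero φ₀ w (Or.inr (Or.inl ⟨a, b, k, rfl⟩))
    rw [map_sub, sub_eq_zero, map_mul] at this
    exact this
  x_w j k := by
    have := qm_eq_zero φ₀ w (Or.inr (Or.inr (Or.inl ⟨j, k, rfl⟩)))
    rw [map_sub, sub_eq_zero] at this
    rw [this]
    split_ifs <;> simp
  x_mul b b' k := by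
    have := qm_eq_zero φ₀ w (Or.inr (Or.inr (Or.inr ⟨b, b', k, rfl⟩)))
    rw [map_sub, sub_eq_zero, map_sum] at this
    rw [this]
    simp only [map_mul]

variable {φ₀ w}

/-- evaluation of polynomials at coordinate data -/
def liftPoly {R : Type u} [CommRing R] (D : Dat φ₀ w R) : MvPolynomial (B × Fin d) A →+* R :=
  MvPolynomial.eval₂Hom D.α (fun p => D.x p.1 p.2)

lemma liftPoly_X {R : Type u} [CommRing R] (D : Dat φ₀ w R) (b : B) (k : Fin d) :
    liftPoly D (MvPolynomial.X (b, k)) = D.x b k :=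
  MvPolynomial.eval₂Hom_X' _ _ _

lemma liftPoly_C {R : Type u} [CommRing R] (D : Dat φ₀ w R) (a : A) :
    liftPoly D (MvPolynomial.C a) = D.α a :=
  MvPolynomial.eval₂Hom_C _ _ _

lemma liftPoly_rel {R : Type u} [CommRing R] (D : Dat φ₀ w R) :
    ∀ p ∈ relSet φ₀ w, liftPoly D p = 0 := by
  rintro p (⟨b, b', k, rfl⟩ | ⟨a, b, k, rfl⟩ | ⟨j, k, rfl⟩ | ⟨b, b', k, rfl⟩)
  · rw [map_sub, map_add, liftPoly_X, liftPoly_X, liftPoly_X, D.x_add, sub_self]
  · rw [map_sub, map_mul, liftPoly_X, liftPoly_X, liftPoly_C, D.x_smul, sub_self]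
  · rw [map_sub, liftPoly_X, D.x_w]
    split_ifs <;> simp
  · rw [map_sub, map_sum, liftPoly_X, D.x_mul, sub_eq_zero]
    refine Finset.sum_congr rfl fun j _ => ?_
    rw [map_mul, liftPoly_X, liftPoly_X]

/-- the classifying homomorphism of coordinate data -/
def lift {R : Type u} [CommRing R] (D : Dat φ₀ w R) : Runiv φ₀ w →+* R :=
  Ideal.Quotient.lift _ (liftPoly D) (fun p hp => by
    have h : Ideal.span (relSet φ₀ w) ≤ RingHom.ker (liftPoly D) :=
      Ideal.span_le.mpr (fun p hp => RingHom.mem_ker.mpr (liftPoly_rel D p hp))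
    exact RingHom.mem_ker.mp (h hp))

lemma lift_qm {R : Type u} [CommRing R] (D : Dat φ₀ w R) (p : MvPolynomial (B × Fin d) A) :
    lift D (qm φ₀ w p) = liftPoly D p :=
  Ideal.Quotient.lift_mk _ _ _

lemma map_lift_univ {R : Type u} [CommRing R] (D : Dat φ₀ w R) :
    (univDat φ₀ w).map (lift D) = D := by
  apply Dat.ext
  · ext a
    show lift D (qm φ₀ w (MvPolynomial.C a)) = _
    rw [lift_qm, liftPoly_C]
  · funext b k
    show lift D (qm φ₀ w (MvPolynomial.X (b, k))) = _
    rw [lift_qm, liftPoly_X]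

lemma hom_ext {R : Type u} [CommRing R] {ψ ψ' : Runiv φ₀ w →+* R}
    (h : (univDat φ₀ w).map ψ = (univDat φ₀ w).map ψ') : ψ = ψ' := by
  apply Ideal.Quotient.ringHom_ext
  apply MvPolynomial.ringHom_ext
  · intro a
    exact RingHom.congr_fun (congrArg Dat.α h) a
  · rintro ⟨b, k⟩
    exact congrFun (congrFun (congrArg Dat.x h) b) k

end Defs

section ModelThy

variable {A B : Type u} [CommRing A] [CommRing B] {φ₀ : A →+* B} {d : ℕ} {w : Fin d → B}
  {R : Type u} [CommRing R]

/-- the combination map -/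
def comb {C : Type u} [CommRing C] (ρ : R →+* C) (v : Fin d → C) (c : Fin d → R) : C :=
  ∑ j, ρ (c j) * v j

section comb

variable {C : Type u} [CommRing C] (ρ : R →+* C) (v : Fin d → C)

lemma comb_add (c c' : Fin d → R) : comb ρ v (c + c') = comb ρ v c + comb ρ v c' := by
  simp only [comb, Pi.add_apply, map_add, add_mul, Finset.sum_add_distrib]

lemma comb_zero : comb ρ v 0 = 0 := by
  simp only [comb, Pi.zero_apply, map_zero, zero_mul, Finset.sum_const_zero]

lemma comb_smul (r : R) (c : Fin d → R) : comb ρ v (r • c) = ρ r * comb ρ v c := by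
  simp only [comb, Pi.smul_apply, smul_eq_mul, map_mul, Finset.mul_sum, mul_assoc]

lemma comb_single (j : Fin d) : comb ρ v (Pi.single j 1) = v j := by
  unfold comb
  rw [Finset.sum_eq_single j]
  · rw [Pi.single_eq_same, map_one, one_mul]
  · intro k _ hk
    rw [Pi.single_eq_of_ne hk, map_zero, zero_mul]
  · intro h
    exact absurd (Finset.mem_univ j) h

/-- the combination map as an additive homomorphism -/
def combHom : (Fin d → R) →+ C where
  toFun := comb ρ v
  map_zero' := comb_zero ρ v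
  map_add' := comb_add ρ v

lemma comb_sum_smul (r : Fin d → R) (y : Fin d → Fin d → R) :
    comb ρ v (fun k => ∑ j, r j * y j k) = ∑ j, ρ (r j) * comb ρ v (y j) := by
  have h : (fun k => ∑ j, r j * y j k) = ∑ j, r j • y j := by
    funext k
    simp only [Finset.sum_apply, Pi.smul_apply, smul_eq_mul]
  rw [h]
  change combHom ρ v (∑ j, r j • y j) = _
  rw [map_sum]
  refine Finset.sum_congr rfl fun j _ => ?_
  exact comb_smul ρ v (r j) (y j)

end comb

/-- a model of coordinate data: an algebra with the prescribed coordinates -/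
structure Model (D : Dat φ₀ w R) (C : Type u) [CommRing C] where
  β : B →+* C
  ρ : R →+* C
  comm : β.comp φ₀ = ρ.comp D.α
  bij : Function.Bijective (comb ρ (fun j => β (w j)))
  coord : ∀ b, β b = comb ρ (fun j => β (w j)) (D.x b)

/-- the structure constants product -/
def st (D : Dat φ₀ w R) (c c' : Fin d → R) : Fin d → R :=
  fun k => ∑ i, ∑ j, c i * c' j * D.x (w i * w j) k

lemma Model.comb_mul {C : Type u} [CommRing C] {D : Dat φ₀ w R} (M : Model D C)
    (c c' : Fin d → R) :
    comb M.ρ (fun j => M.β (w j)) c * comb M.ρ (fun j => M.β (w j)) c' =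
      comb M.ρ (fun j => M.β (w j)) (st D c c') := by
  have hv : ∀ i j, M.β (w i) * M.β (w j) = ∑ k, M.ρ (D.x (w i * w j) k) * M.β (w k) := by
    intro i j
    rw [← map_mul, M.coord]
    rfl
  unfold comb st
  rw [Finset.sum_mul_sum]
  calc ∑ i, ∑ j, M.ρ (c i) * M.β (w i) * (M.ρ (c' j) * M.β (w j))
      = ∑ i, ∑ j, ∑ k, M.ρ (c i * c' j * D.x (w i * w j) k) * M.β (w k) := by
        refine Finset.sum_congr rfl fun i _ => Finset.sum_congr rfl fun j _ => ?_
        rw [mul_mul_mul_comm, hv, Finset.mul_sum]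
        refine Finset.sum_congr rfl fun k _ => ?_
        rw [map_mul, map_mul]
        ring
    _ = ∑ i, ∑ k, ∑ j, M.ρ (c i * c' j * D.x (w i * w j) k) * M.β (w k) :=
        Finset.sum_congr rfl fun i _ => Finset.sum_comm
    _ = ∑ k, ∑ i, ∑ j, M.ρ (c i * c' j * D.x (w i * w j) k) * M.β (w k) := Finset.sum_comm
    _ = ∑ k, M.ρ (∑ i, ∑ j, c i * c' j * D.x (w i * w j) k) * M.β (w k) := by
        refine Finset.sum_congr rfl fun k _ => ?_
        simp only [map_sum, Finset.sum_mul]

lemma Model.comb_one {C : Type u} [CommRing C] {D : Dat φ₀ w R} (M : Model D C) :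
    comb M.ρ (fun j => M.β (w j)) (D.x 1) = 1 := by
  rw [← M.coord, map_one]

/-- two models of the same coordinate data are related by a homomorphism -/
theorem Model.hom {C₁ C₂ : Type u} [CommRing C₁] [CommRing C₂] {D : Dat φ₀ w R}
    (M₁ : Model D C₁) (M₂ : Model D C₂) :
    ∃ θ : C₁ →+* C₂, θ.comp M₁.β = M₂.β ∧ θ.comp M₁.ρ = M₂.ρ := by
  obtain ⟨inv, hl, -⟩ := Function.bijective_iff_has_inverse.mp M₁.bij
  obtain ⟨θf, hθf⟩ : ∃ θf : C₁ → C₂, θf = fun q => comb M₂.ρ (fun j => M₂.β (w j)) (inv q) :=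
    ⟨_, rfl⟩
  have hθ : ∀ c, θf (comb M₁.ρ (fun j => M₁.β (w j)) c) = comb M₂.ρ (fun j => M₂.β (w j)) c := by
    intro c
    rw [hθf]
    show comb M₂.ρ (fun j => M₂.β (w j)) (inv (comb M₁.ρ (fun j => M₁.β (w j)) c)) = _
    rw [hl c]
  let θ : C₁ →+* C₂ :=
    { toFun := θf
      map_one' := by rw [← M₁.comb_one, hθ, M₂.comb_one]
      map_mul' := fun q q' => by
        obtain ⟨c, rfl⟩ := M₁.bij.2 q
        obtain ⟨c', rfl⟩ := M₁.bij.2 q'
        rw [M₁.comb_mul, hθ, hθ, hθ, M₂.comb_mul]
      map_zero' := by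
        rw [← comb_zero M₁.ρ (fun j => M₁.β (w j)), hθ, comb_zero]
      map_add' := fun q q' => by
        obtain ⟨c, rfl⟩ := M₁.bij.2 q
        obtain ⟨c', rfl⟩ := M₁.bij.2 q'
        rw [← comb_add, hθ, hθ, hθ, comb_add] }
  refine ⟨θ, ?_, ?_⟩
  · ext b
    show θf (M₁.β b) = M₂.β b
    rw [M₁.coord b, hθ, ← M₂.coord b]
  · ext r
    show θf (M₁.ρ r) = M₂.ρ r
    have h1 : M₁.ρ r = comb M₁.ρ (fun j => M₁.β (w j)) (r • D.x 1) := by
      rw [comb_smul, M₁.comb_one, mul_one]
    rw [h1, hθ, comb_smul, M₂.comb_one, mul_one]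

/-- coordinate data from a commutative square with a basis -/
theorem exists_dat_of_bij {C : Type u} [CommRing C] (α : A →+* R) (β : B →+* C) (ρ : R →+* C)
    (comm : β.comp φ₀ = ρ.comp α) (bij : Function.Bijective (comb ρ (fun j => β (w j)))) :
    ∃ D : Dat φ₀ w R, D.α = α ∧ ∀ b, β b = comb ρ (fun j => β (w j)) (D.x b) := by
  obtain ⟨inv, -, hr⟩ := Function.bijective_iff_has_inverse.mp bij
  have hx : ∀ b, comb ρ (fun j => β (w j)) (inv (β b)) = β b := fun b => hr _
  have inj := bij.1
  have e1 : ∀ b b', inv (β (b + b')) = inv (β b) + inv (β b') := by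
    intro b b'
    apply inj
    show comb ρ (fun j => β (w j)) _ = comb ρ (fun j => β (w j)) _
    rw [hx, comb_add, hx, hx, map_add]
  have e2 : ∀ a b, inv (β (φ₀ a * b)) = α a • inv (β b) := by
    intro a b
    apply inj
    show comb ρ (fun j => β (w j)) _ = comb ρ (fun j => β (w j)) _
    rw [hx, comb_smul, hx, map_mul]
    congr 1
    exact RingHom.congr_fun comm a
  have e3 : ∀ j, inv (β (w j)) = Pi.single j 1 := by
    intro j
    apply inj
    show comb ρ (fun j => β (w j)) _ = comb ρ (fun j => β (w j)) _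
    rw [hx, comb_single]
  have e4 : ∀ b b', inv (β (b * b')) = fun k => ∑ j, inv (β b') j * inv (β (b * w j)) k := by
    intro b b'
    apply inj
    show comb ρ (fun j => β (w j)) _ = comb ρ (fun j => β (w j)) _
    rw [hx, comb_sum_smul, map_mul]
    conv_lhs => rw [← hx b']
    unfold comb
    rw [Finset.mul_sum]
    refine Finset.sum_congr rfl fun j _ => ?_
    have := hx (b * w j)
    unfold comb at this
    rw [this, map_mul]
    ring
  refine ⟨{ α := α, x := fun b => inv (β b), x_add := ?_, x_smul := ?_, x_w := ?_, x_mul := ?_ },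
    rfl, fun b => (hx b).symm⟩
  · intro b b' k
    rw [e1]
    rfl
  · intro a b k
    rw [e2]
    rfl
  · intro j k
    rw [e3, Pi.single_apply]
    simp only [eq_comm]
  · intro b b' k
    rw [e4]

/-- existence of a model for every coordinate data -/
theorem exists_model (D : Dat φ₀ w R) :
    ∃ (C : Type u) (_ : CommRing C), Nonempty (Model D C) := by
  letI : Algebra A B := φ₀.toAlgebra
  letI : Algebra A R := D.α.toAlgebra
  let xl : B →ₗ[A] (Fin d → R) :=
    { toFun := D.x
      map_add' := fun b b' => funext fun k => D.x_add b b' k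
      map_smul' := fun a b => funext fun k => by
        show D.x (a • b) k = (a • D.x b) k
        rw [Algebra.smul_def, Pi.smul_apply, Algebra.smul_def]
        exact D.x_smul a b k }
  let π : R ⊗[A] B →ₗ[R] (Fin d → R) :=
    TensorProduct.AlgebraTensorModule.lift (LinearMap.toSpanSingleton R (B →ₗ[A] (Fin d → R)) xl)
  have hπ : ∀ (r : R) (b : B), π (r ⊗ₜ[A] b) = r • D.x b := by
    intro r b
    show (TensorProduct.AlgebraTensorModule.lift _) (r ⊗ₜ[A] b) = _
    rw [TensorProduct.AlgebraTensorModule.lift_tmul]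
    rfl
  have key : ∀ (r : R) (b : B) (z : R ⊗[A] B),
      π ((r ⊗ₜ[A] b) * z) = r • (fun k => ∑ j, π z j * D.x (b * w j) k) := by
    intro r b z
    induction z using TensorProduct.induction_on with
    | zero =>
      rw [mul_zero, map_zero]
      funext k
      simp
    | tmul r' b' =>
      rw [Algebra.TensorProduct.tmul_mul_tmul, hπ, hπ]
      funext k
      simp only [Pi.smul_apply, smul_eq_mul]
      rw [D.x_mul b b' k, Finset.mul_sum, Finset.mul_sum]
      refine Finset.sum_congr rfl fun j _ => ?_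
      ring
    | add z z' hz hz' =>
      rw [mul_add, map_add, hz, hz', ← smul_add]
      congr 1
      funext k
      simp only [map_add, Pi.add_apply, add_mul, Finset.sum_add_distrib]
  let I : Ideal (R ⊗[A] B) :=
    { carrier := {z | π z = 0}
      add_mem' := fun {a b} ha hb => by
        simp only [Set.mem_setOf_eq] at ha hb ⊢
        rw [map_add, ha, hb, add_zero]
      zero_mem' := map_zero π
      smul_mem' := fun c z hz => by
        simp only [Set.mem_setOf_eq, smul_eq_mul] at hz ⊢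
        induction c using TensorProduct.induction_on with
        | zero => rw [zero_mul, map_zero]
        | tmul r b =>
          rw [key, hz]
          funext k
          simp
        | add c c' hc hc' => rw [add_mul, map_add, hc, hc', add_zero] }
  have hI : ∀ z, z ∈ I ↔ π z = 0 := fun z => Iff.rfl
  let β : B →+* (R ⊗[A] B) ⧸ I :=
    (Ideal.Quotient.mk I).comp (Algebra.TensorProduct.includeRight : B →ₐ[A] R ⊗[A] B).toRingHom
  let ρ : R →+* (R ⊗[A] B) ⧸ I :=
    (Ideal.Quotient.mk I).comp (Algebra.TensorProduct.includeLeftRingHom : R →+* R ⊗[A] B)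
  have hβ : ∀ b, β b = Ideal.Quotient.mk I ((1 : R) ⊗ₜ[A] b) := fun b => rfl
  have hρ : ∀ r, ρ r = Ideal.Quotient.mk I (r ⊗ₜ[A] (1 : B)) := fun r => rfl
  have hΨ : ∀ c : Fin d → R, comb ρ (fun j => β (w j)) c =
      Ideal.Quotient.mk I (∑ j, c j ⊗ₜ[A] w j) := by
    intro c
    unfold comb
    rw [map_sum]
    refine Finset.sum_congr rfl fun j _ => ?_
    show ρ (c j) * β (w j) = _
    rw [hβ, hρ, ← map_mul, Algebra.TensorProduct.tmul_mul_tmul, mul_one, one_mul]
  have hπΨ : ∀ c : Fin d → R, π (∑ j, c j ⊗ₜ[A] w j) = c := by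
    intro c
    rw [map_sum]
    funext k
    simp only [hπ, Finset.sum_apply, Pi.smul_apply, smul_eq_mul, D.x_w, mul_ite, mul_one, mul_zero,
      Finset.sum_ite_eq', Finset.mem_univ, if_true]
  refine ⟨(R ⊗[A] B) ⧸ I, inferInstance, ⟨{ β := β, ρ := ρ, comm := ?_, bij := ⟨?_, ?_⟩, coord := ?_ }⟩⟩
  · ext a
    show Ideal.Quotient.mk I ((1 : R) ⊗ₜ[A] (algebraMap A B a)) =
      Ideal.Quotient.mk I ((algebraMap A R a) ⊗ₜ[A] (1 : B))
    rw [Algebra.algebraMap_eq_smul_one, Algebra.algebraMap_eq_smul_one, TensorProduct.smul_tmul]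
  · intro c c' h
    have h' : comb ρ (fun j => β (w j)) c = comb ρ (fun j => β (w j)) c' := h
    rw [hΨ, hΨ, Ideal.Quotient.eq, hI, map_sub, hπΨ, hπΨ, sub_eq_zero] at h'
    exact h'
  · intro q
    obtain ⟨z, rfl⟩ := Ideal.Quotient.mk_surjective q
    refine ⟨π z, ?_⟩
    show comb ρ (fun j => β (w j)) (π z) = _
    rw [hΨ, Ideal.Quotient.eq, hI, map_sub, hπΨ, sub_self]
  · intro b
    rw [hΨ, hβ, Ideal.Quotient.eq, hI, map_sub, hπΨ, hπ, one_smul, sub_self]

/-- naturality of coordinate data -/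
theorem Model.map_eq {R' C C' : Type u} [CommRing R'] [CommRing C] [CommRing C']
    {D : Dat φ₀ w R} {D' : Dat φ₀ w R'} (M : Model D C) (M' : Model D' C') (ψ : R →+* R')
    (θ : C →+* C') (hα : ψ.comp D.α = D'.α) (hβ : θ.comp M.β = M'.β)
    (hρ : θ.comp M.ρ = M'.ρ.comp ψ) : D' = D.map ψ := by
  apply Dat.ext
  · exact hα.symm
  · funext b
    apply M'.bij.1
    show comb M'.ρ (fun j => M'.β (w j)) (D'.x b) = comb M'.ρ (fun j => M'.β (w j)) ((D.map ψ).x b)
    rw [← M'.coord b, ← hβ, RingHom.comp_apply, M.coord b]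
    unfold comb
    rw [map_sum]
    refine Finset.sum_congr rfl fun j _ => ?_
    rw [map_mul]
    congr 1
    exact RingHom.congr_fun hρ (D.x b j)

/-- ring-theoretic properties of a model -/
theorem Model.props {C : Type u} [CommRing C] {D : Dat φ₀ w R} (M : Model D C) :
    M.ρ.Finite ∧ M.ρ.Flat ∧ M.ρ.FinitePresentation ∧ ∀ p, M.ρ.finrank p = d := by
  letI := M.ρ.toAlgebra
  let e : (Fin d → R) ≃ₗ[R] C := LinearEquiv.ofBijective
    { toFun := comb M.ρ (fun j => M.β (w j))
      map_add' := comb_add _ _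
      map_smul' := fun r c => by
        rw [comb_smul]
        rfl } M.bij
  haveI : Module.Free R C := Module.Free.of_equiv e
  haveI : Module.Finite R C := Module.Finite.equiv e
  haveI : Module.FinitePresentation R C := Module.finitePresentation_of_projective R C
  refine ⟨‹Module.Finite R C›, inferInstanceAs (Module.Flat R C),
    inferInstanceAs (Algebra.FinitePresentation R C), fun p => ?_⟩
  haveI : Nontrivial R := ⟨⟨0, 1, fun h => p.isPrime.ne_top
    ((Ideal.eq_top_iff_one _).mpr (h ▸ Ideal.zero_mem _))⟩⟩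
  show Module.rankAtStalk C p = d
  rw [← Module.rankAtStalk_eq_of_equiv e, Module.rankAtStalk_eq_finrank_of_free]
  simp

end ModelThy

end Groth.Agent.H4.HbA
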