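import Mathlib
import Groth.Agent.H4.HbA

/-! helper4: spanning families under base change: descent along arbitrary ring maps at primes in
the image (Nakayama), base change, locality, and spanning implies basis for locally free
algebras of the right rank. -/

set_option autoImplicit false

universe u

open TensorProduct CategoryTheory

noncomputable section

namespace Groth.Agent.H4.HbB

open Groth.Agent.H4.HbA

/-- if the base change of a finite module vanishes then its annihilator is not contained in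
the contraction of any prime -/
theorem supp_descent {R R' : Type u} [CommRing R] [CommRing R'] [Algebra R R'] (M : Type u)
    [AddCommGroup M] [Module R M] [Module.Finite R M] (h0 : Subsingleton (R' ⊗[R] M))
    (q : Ideal R') [q.IsPrime] :
    ∃ r : R, r ∈ Module.annihilator R M ∧ algebraMap R R' r ∉ q := by
  obtain ⟨p, hp⟩ : ∃ p : Ideal R, p = q.comap (algebraMap R R') := ⟨_, rfl⟩
  haveI : p.IsPrime := by rw [hp]; exact Ideal.comap_isPrime _ _
  by_contra hcon
  push_neg at hcon
  have hsupp : (⟨p, inferInstance⟩ : PrimeSpectrum R) ∈ Module.support R M := by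
    rw [Module.mem_support_iff_of_finite]
    intro r hr
    show r ∈ p
    rw [hp]
    exact hcon r hr
  rw [Module.mem_support_iff_nontrivial_residueField_tensorProduct] at hsupp
  let f : p.ResidueField →ₐ[R] q.ResidueField :=
    Ideal.ResidueField.mapₐ p q (Algebra.ofId R R') hp
  letI : Algebra p.ResidueField q.ResidueField := f.toRingHom.toAlgebra
  haveI : IsScalarTower R p.ResidueField q.ResidueField :=
    IsScalarTower.of_algebraMap_eq' f.comp_algebraMap.symm
  haveI : Nontrivial (p.ResidueField ⊗[R] M) := hsupp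
  haveI : Nontrivial (q.ResidueField ⊗[p.ResidueField] (p.ResidueField ⊗[R] M)) := inferInstance
  let e1 := TensorProduct.AlgebraTensorModule.cancelBaseChange R p.ResidueField q.ResidueField
    q.ResidueField M
  let e2 := TensorProduct.AlgebraTensorModule.cancelBaseChange R R' q.ResidueField
    q.ResidueField M
  have s1 : Subsingleton (q.ResidueField ⊗[R'] (R' ⊗[R] M)) := by
    refine subsingleton_of_forall_eq 0 fun z => ?_
    induction z using TensorProduct.induction_on with
    | zero => rfl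
    | tmul x y => rw [Subsingleton.elim y 0, TensorProduct.tmul_zero]
    | add x y hx hy => rw [hx, hy, add_zero]
  have s2 : Subsingleton (q.ResidueField ⊗[R] M) := e2.symm.toEquiv.subsingleton
  have s3 : Subsingleton (q.ResidueField ⊗[p.ResidueField] (p.ResidueField ⊗[R] M)) :=
    e1.toEquiv.subsingleton
  exact not_subsingleton _ s3

/-- induction principle for pushouts of commutative rings -/
theorem pushout_induction {R C R' C' : CommRingCat.{u}} {ρ : R ⟶ C} {ψ : R ⟶ R'} {θ : C ⟶ C'}
    {ρ' : R' ⟶ C'} (h : IsPushout ρ ψ θ ρ') (P : C' → Prop) (h0 : P 0)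
    (hadd : ∀ x y, P x → P y → P (x + y)) (hmul : ∀ (s : R') (c : C), P (ρ'.hom s * θ.hom c)) :
    ∀ c', P c' := by
  algebraize [ρ.hom, ψ.hom, θ.hom, ρ'.hom, θ.hom.comp ρ.hom]
  have : IsScalarTower R R' C' := .of_algebraMap_eq' <| congr($(h.1.1).hom)
  have hpo : Algebra.IsPushout R C R' C' := CommRingCat.isPushout_iff_isPushout.mp h
  intro c'
  obtain ⟨z, rfl⟩ := (Algebra.IsPushout.equiv R C R' C').surjective c'
  induction z using TensorProduct.induction_on with
  | zero => rw [map_zero]; exact h0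
  | tmul c s =>
    rw [Algebra.IsPushout.equiv_tmul, mul_comm]
    exact hmul s c
  | add x y hx hy => rw [map_add]; exact hadd _ _ hx hy

/-- base change of a spanning family (up to a multiplier which becomes invertible) -/
theorem nb {R C R' C' : CommRingCat.{u}} {ρ : R ⟶ C} {ψ : R ⟶ R'} {θ : C ⟶ C'}
    {ρ' : R' ⟶ C'} (h : IsPushout ρ ψ θ ρ') {d : ℕ} (v : Fin d → C) (r : R)
    (hr : IsUnit (ψ.hom r))
    (hs : ∀ c : C, ∃ a : Fin d → R, ρ.hom r * c = comb ρ.hom v a) :
    Function.Surjective (comb ρ'.hom (fun k => θ.hom (v k))) := by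
  obtain ⟨u, hu⟩ := hr.exists_left_inv
  have hw : ∀ x : R, θ.hom (ρ.hom x) = ρ'.hom (ψ.hom x) := fun x => congr($(h.1.1).hom x)
  refine pushout_induction h (fun c' => ∃ a, comb ρ'.hom (fun k => θ.hom (v k)) a = c')
    ⟨0, comb_zero _ _⟩ ?_ ?_
  · rintro x y ⟨a, rfl⟩ ⟨a', rfl⟩
    exact ⟨a + a', comb_add _ _ _ _⟩
  · intro s c
    obtain ⟨a, ha⟩ := hs c
    refine ⟨(s * u) • fun k => ψ.hom (a k), ?_⟩
    rw [comb_smul]
    have h1 : comb ρ'.hom (fun k => θ.hom (v k)) (fun k => ψ.hom (a k)) =
        ρ'.hom (ψ.hom r) * θ.hom c := by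
      rw [← hw, ← map_mul, ha]
      unfold comb
      rw [map_sum]
      refine Finset.sum_congr rfl fun k _ => ?_
      rw [map_mul, hw]
    rw [h1, ← mul_assoc, ← map_mul, mul_assoc, hu, mul_one]

/-- descent of a spanning family at a prime in the image (Nakayama) -/
theorem nd {R C R' C' : CommRingCat.{u}} {ρ : R ⟶ C} {ψ : R ⟶ R'} {θ : C ⟶ C'}
    {ρ' : R' ⟶ C'} (h : IsPushout ρ ψ θ ρ') (hfin : ρ.hom.Finite) {d : ℕ} (v : Fin d → C)
    (hs : Function.Surjective (comb ρ'.hom (fun k => θ.hom (v k)))) (q : Ideal R') [q.IsPrime] :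
    ∃ r : R, ψ.hom r ∉ q ∧ ∀ c : C, ∃ a : Fin d → R, ρ.hom r * c = comb ρ.hom v a := by
  algebraize [ρ.hom, ψ.hom, θ.hom, ρ'.hom, θ.hom.comp ρ.hom]
  have : IsScalarTower R R' C' := .of_algebraMap_eq' <| congr($(h.1.1).hom)
  have hpo : Algebra.IsPushout R C R' C' := CommRingCat.isPushout_iff_isPushout.mp h
  have hpo' : Algebra.IsPushout R R' C C' := Algebra.IsPushout.symm hpo
  obtain ⟨N, hN⟩ : ∃ N : Submodule R C, N = Submodule.span R (Set.range v) := ⟨_, rfl⟩
  have key : ∀ c : C, (1 : R') ⊗ₜ[R] (N.mkQ c) = 0 := by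
    intro c
    obtain ⟨a, ha⟩ := hs (θ.hom c)
    have h1 : (1 : R') ⊗ₜ[R] c = ∑ k, a k ⊗ₜ[R] v k := by
      apply (Algebra.IsPushout.equiv R R' C C').injective
      rw [Algebra.IsPushout.equiv_tmul, map_one, one_mul, map_sum]
      refine Eq.trans ?_ (Eq.trans ha.symm ?_)
      · rfl
      · unfold comb
        refine Finset.sum_congr rfl fun k _ => ?_
        rw [Algebra.IsPushout.equiv_tmul]
        rfl
    have h2 := congrArg (LinearMap.lTensor R' N.mkQ) h1
    rw [LinearMap.lTensor_tmul, map_sum] at h2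
    rw [h2]
    refine Finset.sum_eq_zero fun k _ => ?_
    have h3 : N.mkQ (v k) = 0 := by
      rw [Submodule.mkQ_apply, Submodule.Quotient.mk_eq_zero, hN]
      exact Submodule.subset_span ⟨k, rfl⟩
    rw [LinearMap.lTensor_tmul, h3, TensorProduct.tmul_zero]
  have hsub : Subsingleton (R' ⊗[R] (C ⧸ N)) := by
    refine subsingleton_of_forall_eq 0 fun z => ?_
    induction z using TensorProduct.induction_on with
    | zero => rfl
    | tmul s m =>
      obtain ⟨c, rfl⟩ := N.mkQ_surjective m
      have : s ⊗ₜ[R] (N.mkQ c) = s • ((1 : R') ⊗ₜ[R] (N.mkQ c)) := by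
        rw [TensorProduct.smul_tmul', smul_eq_mul, mul_one]
      rw [this, key, smul_zero]
    | add x y hx hy => rw [hx, hy, add_zero]
  obtain ⟨r, hr1, hr2⟩ := supp_descent (C ⧸ N) hsub q
  refine ⟨r, hr2, fun c => ?_⟩
  have h4 : r • N.mkQ c = 0 := Module.mem_annihilator.mp hr1 _
  rw [← map_smul, Submodule.mkQ_apply, Submodule.Quotient.mk_eq_zero, hN,
    Submodule.mem_span_range_iff_exists_fun] at h4
  obtain ⟨a, ha⟩ := h4
  refine ⟨a, ?_⟩
  refine Eq.trans ?_ (Eq.trans ha.symm ?_)
  · exact (Algebra.smul_def r c).symm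
  · unfold comb
    refine Finset.sum_congr rfl fun k _ => ?_
    rw [Algebra.smul_def]
    rfl

/-- spanning is local on the base -/
theorem span_of_local {R C : Type u} [CommRing R] [CommRing C] (ρ : R →+* C) {d : ℕ}
    (v : Fin d → C)
    (h : ∀ (p : Ideal R), p.IsMaximal → ∃ r : R, r ∉ p ∧ ∀ c : C, ∃ a : Fin d → R,
      ρ r * c = comb ρ v a) :
    Function.Surjective (comb ρ v) := by
  let J : Ideal R :=
    { carrier := {r | ∀ c : C, ∃ a : Fin d → R, ρ r * c = comb ρ v a}
      add_mem' := fun {r r'} hr hr' c => by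
        obtain ⟨a, ha⟩ := hr c
        obtain ⟨a', ha'⟩ := hr' c
        exact ⟨a + a', by rw [comb_add, ← ha, ← ha', map_add, add_mul]⟩
      zero_mem' := fun c => ⟨0, by rw [comb_zero, map_zero, zero_mul]⟩
      smul_mem' := fun s r hr c => by
        obtain ⟨a, ha⟩ := hr c
        exact ⟨s • a, by rw [comb_smul, ← ha, smul_eq_mul, map_mul, mul_assoc]⟩ }
  have hJ : J = ⊤ := by
    by_contra hne
    obtain ⟨m, hm, hle⟩ := Ideal.exists_le_maximal J hne
    obtain ⟨r, hr1, hr2⟩ := h m hm
    exact hr1 (hle hr2)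
  intro c
  have h1 : (1 : R) ∈ J := by rw [hJ]; trivial
  obtain ⟨a, ha⟩ := h1 c
  exact ⟨a, by rw [← ha, map_one, one_mul]⟩

/-- a spanning family of the right cardinality in a locally free algebra is a basis -/
theorem bij_of_span {R C : Type u} [CommRing R] [CommRing C] (ρ : R →+* C) {d : ℕ}
    (v : Fin d → C) (h1 : ρ.Finite) (h2 : ρ.Flat) (h3 : ∀ p, ρ.finrank p = d)
    (hs : Function.Surjective (comb ρ v)) : Function.Bijective (comb ρ v) := by
  letI := ρ.toAlgebra
  haveI : Module.Finite R C := h1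
  haveI : Module.Flat R C := h2
  let φ : (Fin d → R) →ₗ[R] C :=
    { toFun := comb ρ v
      map_add' := comb_add _ _
      map_smul' := fun r c => by
        rw [comb_smul]
        rfl }
  refine Module.bijective_of_surjective_of_rankAtStalk_eq (φ := φ) hs fun m hm => ?_
  haveI : Nontrivial R := ⟨⟨0, 1, fun h => hm.ne_top
    ((Ideal.eq_top_iff_one _).mpr (h ▸ Ideal.zero_mem _))⟩⟩
  rw [Module.rankAtStalk_eq_finrank_of_free]
  have := h3 ⟨m, inferInstance⟩
  simp only [Pi.natCast_def, Nat.cast_id, Module.finrank_fintype_fun_eq_card, Fintype.card_fin]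
  exact this.symm

end Groth.Agent.H4.HbB
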