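import Mathlib
import Groth.Prelude.Def_HilbD
import Groth.Agent.Lib.Helper3.QuotFpqc.IdealFam
import Groth.Agent.Lib.Helper3.FpqcLocal3

set_option autoImplicit false
open CategoryTheory CategoryTheory.Limits AlgebraicGeometry
universe u

namespace Groth.Agent.H4.HilbDesc

open Groth.Agent.H3.FpqcLocal

attribute [local instance] quasiCompact_descendsAlong_fpqc
  Groth.Agent.H3.FlatDesc.flat_descendsAlong_fpqc isFinite_descendsAlong_fpqc

variable {X S : Scheme.{u}} (f : X ⟶ S)

lemma pull_eq_comap {T T' : Over S} (g : T' ⟶ T) (I : (PicF.XT f T).IdealSheafData) :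
    HilbD.pull f g I = I.comap (PicF.XTmap f g) := by
  unfold HilbD.pull Scheme.IdealSheafData.comap
  have e : pullback.snd I.subschemeι (PicF.XTmap f g) =
      (pullbackSymmetry _ _).hom ≫ pullback.fst (PicF.XTmap f g) I.subschemeι :=
    (pullbackSymmetry_hom_comp_fst _ _).symm
  rw [e, Scheme.Hom.ker_comp_of_isIso]

lemma XTmap_fst {T T' : Over S} (g : T' ⟶ T) :
    PicF.XTmap f g ≫ pullback.fst f T.hom = pullback.fst f T'.hom := by
  unfold PicF.XTmap
  exact (pullback.lift_fst _ _ _).trans (Category.comp_id _)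

lemma XTmap_snd {T T' : Over S} (g : T' ⟶ T) :
    PicF.XTmap f g ≫ pullback.snd f T.hom = pullback.snd f T'.hom ≫ g.left := by
  unfold PicF.XTmap
  exact pullback.lift_snd _ _ _

lemma isPullback_XTmap {T T' : Over S} (g : T' ⟶ T) :
    IsPullback (PicF.XTmap f g) (PicF.XTproj f T') (PicF.XTproj f T) g.left := by
  refine IsPullback.of_right ?_ (XTmap_snd f g) (IsPullback.of_hasPullback f T.hom)
  rw [XTmap_fst, Over.w g]
  exact IsPullback.of_hasPullback f T'.hom

/-- descent of the finite locally free of degree `d` property along an fpqc base change -/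
lemma finLocFreeOfDeg_descend {d : ℕ} {A B A' B' : Scheme.{u}} {a : A' ⟶ A} {π' : A' ⟶ B'}
    {π : A ⟶ B} {g : B' ⟶ B} (sq : IsPullback a π' π g) [QuasiCompact g] [Flat g] [Surjective g]
    (h : Mor2.IsFinLocFreeOfDeg d π') : Mor2.IsFinLocFreeOfDeg d π := by
  obtain ⟨⟨h1, h2, h3⟩, h4⟩ := h
  have hQ : Qfpqc g := ⟨⟨inferInstance, inferInstance⟩, inferInstance⟩
  have k1 : IsFinite π := MorphismProperty.of_isPullback_of_descendsAlong
    (P := @IsFinite) (Q := Qfpqc) sq.flip hQ h1
  have k2 : Flat π := MorphismProperty.of_isPullback_of_descendsAlong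
    (P := @Flat) (Q := Qfpqc) sq.flip hQ h2
  have k3 : LocallyOfFinitePresentation π := MorphismProperty.of_isPullback_of_descendsAlong
    (P := @LocallyOfFinitePresentation) (Q := Qfpqc) sq.flip hQ h3
  refine ⟨⟨k1, k2, k3⟩, fun y => ?_⟩
  obtain ⟨y', rfl⟩ := g.surjective y
  rw [← Scheme.Hom.finrank_of_isPullback a π' π g sq y']
  exact h4 y'

theorem main {X S : Scheme.{u}} (f : X ⟶ S) (d : ℕ) (T : Over S) {T' : Scheme.{u}} (g : T' ⟶ T.left)
    [QuasiCompact g] [Flat g] [Surjective g] (Z' : HilbD.Obj f d (HilbD.coverOver T g))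
    (hZ' : HilbD.pull f (HilbD.overlapFst T g) Z'.1 = HilbD.pull f (HilbD.overlapSnd T g) Z'.1) :
    ∃! I : (PicF.XT f T).IdealSheafData, Mor2.IsFinLocFreeOfDeg d (I.subschemeι ≫ PicF.XTproj f T) ∧
      HilbD.pull f (HilbD.coverHom T g) I = Z'.1 := by
  obtain ⟨I', hI'⟩ := Z'
  change HilbD.pull f (HilbD.overlapFst T g) I' = HilbD.pull f (HilbD.overlapSnd T g) I' at hZ'
  change ∃! I : (PicF.XT f T).IdealSheafData,
    Mor2.IsFinLocFreeOfDeg d (I.subschemeι ≫ PicF.XTproj f T) ∧
      HilbD.pull f (HilbD.coverHom T g) I = I'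
  rw [pull_eq_comap, pull_eq_comap] at hZ'
  obtain ⟨G, hGdef⟩ : ∃ G, G = PicF.XTmap f (HilbD.coverHom T g) := ⟨_, rfl⟩
  have sqG : IsPullback G (PicF.XTproj f (HilbD.coverOver T g)) (PicF.XTproj f T) g := by
    rw [hGdef]
    exact isPullback_XTmap f (HilbD.coverHom T g)
  haveI : Flat G := MorphismProperty.of_isPullback (P := @Flat) sqG.flip inferInstance
  haveI : Surjective G := MorphismProperty.of_isPullback (P := @Surjective) sqG.flip inferInstance
  haveI : QuasiCompact G :=
    MorphismProperty.of_isPullback (P := @QuasiCompact) sqG.flip inferInstance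
  have hG : Presieve.ofArrows (fun _ : PUnit.{u + 1} => PicF.XT f (HilbD.coverOver T g))
      (fun _ => G) ∈ Scheme.fpqcPrecoverage (PicF.XT f T) := by
    rw [Presieve.ofArrows_pUnit]
    exact Scheme.Hom.singleton_mem_fpqcPrecoverage G
  -- the comparison map from the double overlap
  have c1 : (pullback.fst G G ≫ PicF.XTproj f (HilbD.coverOver T g)) ≫ g =
      (pullback.snd G G ≫ PicF.XTproj f (HilbD.coverOver T g)) ≫ g := by
    rw [Category.assoc, Category.assoc, ← sqG.w, ← Category.assoc, ← Category.assoc,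
      pullback.condition]
  have hfst : G ≫ pullback.fst f T.hom = pullback.fst f (HilbD.coverOver T g).hom := by
    rw [hGdef]; exact XTmap_fst f _
  have c2 : (pullback.fst G G ≫ pullback.fst f (HilbD.coverOver T g).hom) ≫ f =
      pullback.lift (pullback.fst G G ≫ PicF.XTproj f (HilbD.coverOver T g))
        (pullback.snd G G ≫ PicF.XTproj f (HilbD.coverOver T g)) c1 ≫
        (HilbD.overlapOver T g).hom := by
    change _ = _ ≫ ((pullback.fst g g ≫ g) ≫ T.hom)
    rw [← Category.assoc, ← Category.assoc, pullback.lift_fst, Category.assoc, Category.assoc,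
      Category.assoc, pullback.condition]
    rfl
  obtain ⟨e', he'⟩ : ∃ e' : pullback G G ⟶ PicF.XT f (HilbD.overlapOver T g),
      e' = pullback.lift (pullback.fst G G ≫ pullback.fst f (HilbD.coverOver T g).hom)
        (pullback.lift (pullback.fst G G ≫ PicF.XTproj f (HilbD.coverOver T g))
        (pullback.snd G G ≫ PicF.XTproj f (HilbD.coverOver T g)) c1) c2 := ⟨_, rfl⟩
  have e1 : e' ≫ PicF.XTmap f (HilbD.overlapFst T g) = pullback.fst G G := by
    apply pullback.hom_ext
    · rw [Category.assoc, XTmap_fst, he', pullback.lift_fst]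
    · rw [Category.assoc, XTmap_snd, he', pullback.lift_snd_assoc]
      change pullback.lift _ _ _ ≫ pullback.fst g g = _
      rw [pullback.lift_fst]
  have e2 : e' ≫ PicF.XTmap f (HilbD.overlapSnd T g) = pullback.snd G G := by
    apply pullback.hom_ext
    · rw [Category.assoc, XTmap_fst, he', pullback.lift_fst, ← hfst, ← Category.assoc,
        pullback.condition, Category.assoc]
    · rw [Category.assoc, XTmap_snd, he', pullback.lift_snd_assoc]
      change pullback.lift _ _ _ ≫ pullback.snd g g = _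
      rw [pullback.lift_snd]
  have hoverlap : I'.comap (pullback.fst G G) = I'.comap (pullback.snd G G) := by
    rw [← e1, ← e2, Scheme.IdealSheafData.comap_comp, Scheme.IdealSheafData.comap_comp, hZ']
  obtain ⟨J, hJ, hJuniq⟩ := Groth.Agent.H3.QuotFpqc.existsUnique_idealSheafData
    (fun _ : PUnit.{u + 1} => G) hG (fun _ => I') (fun _ _ => hoverlap)
  have hJ' : J.comap G = I' := hJ PUnit.unit
  refine ⟨J, ⟨?_, ?_⟩, ?_⟩
  · subst hJ'
    -- the pullback square of subschemes
    have top : IsPullback (J.comap G).subschemeι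
        ((J.comapIso G).hom ≫ pullback.snd G J.subschemeι) G J.subschemeι := by
      apply isPullback_of_isClosedImmersion
      · rw [Category.assoc, ← pullback.condition, Scheme.IdealSheafData.comapIso_hom_fst_assoc]
      · rw [Scheme.IdealSheafData.ker_subschemeι, Scheme.IdealSheafData.ker_subschemeι]
    exact finLocFreeOfDeg_descend (top.flip.paste_vert sqG) hI'
  · rw [pull_eq_comap, ← hGdef]
    exact hJ'
  · rintro J₁ ⟨-, hJ₁⟩
    apply hJuniq
    intro _
    rw [pull_eq_comap, ← hGdef] at hJ₁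
    exact hJ₁

end Groth.Agent.H4.HilbDesc
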