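import Mathlib

/-! helper4: the content ideal of an ideal in a projective algebra (Weil restriction of closed
subschemes, algebra part). -/

set_option autoImplicit false

universe u

open CategoryTheory CategoryTheory.Limits TensorProduct

namespace Groth.Agent.H4.WRa

section Alg

variable {B A : Type u} [CommRing B] [CommRing A] [Algebra B A]

/-- the content ideal: generated by the values of linear functionals on `I` -/
def content (I : Ideal A) : Ideal B :=
  Ideal.span {b | ∃ (f : A →ₗ[B] B) (a : A), a ∈ I ∧ f a = b}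

lemma content_le_ker_of_tensor {C : Type u} [CommRing C] [Algebra B C] (I : Ideal A)
    (h : ∀ a ∈ I, (1 : C) ⊗ₜ[B] a = 0) : content (B := B) I ≤ RingHom.ker (algebraMap B C) := by
  rw [content, Ideal.span_le]
  rintro b ⟨f, a, ha, rfl⟩
  have h1 : (TensorProduct.rid B C) (LinearMap.lTensor C f ((1 : C) ⊗ₜ[B] a)) =
      algebraMap B C (f a) := by
    rw [LinearMap.lTensor_tmul, TensorProduct.rid_tmul, Algebra.smul_def, mul_one]
  rw [SetLike.mem_coe, RingHom.mem_ker, ← h1, h a ha, map_zero, map_zero]

lemma le_ker_of_content_le [Module.Projective B A] {C : Type u} [CommRing C] (ψ : B →+* C)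
    (σ : A →+* C) (hσ : σ.comp (algebraMap B A) = ψ) (I : Ideal A)
    (h : content (B := B) I ≤ RingHom.ker ψ) : I ≤ RingHom.ker σ := by
  intro a ha
  obtain ⟨s, hs⟩ := Module.projective_def'.mp (inferInstance : Module.Projective B A)
  have h1 : a = Finsupp.linearCombination B id (s a) := by
    have := congrArg (fun g : A →ₗ[B] A => g a) hs
    simpa using this.symm
  rw [RingHom.mem_ker, h1, Finsupp.linearCombination_apply, Finsupp.sum, map_sum]
  refine Finset.sum_eq_zero fun x _ => ?_
  have hx : (s a) x ∈ content (B := B) I :=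
    Ideal.subset_span ⟨(Finsupp.lapply x).comp s, a, ha, rfl⟩
  have hx0 : ψ ((s a) x) = 0 := RingHom.mem_ker.mp (h hx)
  rw [id, Algebra.smul_def, map_mul, ← RingHom.comp_apply, hσ, hx0, zero_mul]

end Alg

section Cat

lemma content_le_ker_of_isPushout {B C A D : CommRingCat.{u}} {ψ : B ⟶ C} {φ : B ⟶ A}
    {inl : C ⟶ D} {inr : A ⟶ D} (h : IsPushout ψ φ inl inr) (I : Ideal A)
    (hI : I ≤ RingHom.ker inr.hom) :
    @content B A _ _ φ.hom.toAlgebra I ≤ RingHom.ker ψ.hom := by
  let _ := φ.hom.toAlgebra
  let _ := ψ.hom.toAlgebra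
  have h0 : IsPushout ψ φ
      (CommRingCat.ofHom (S := C ⊗[B] A) Algebra.TensorProduct.includeLeftRingHom)
      (CommRingCat.ofHom (S := C ⊗[B] A) Algebra.TensorProduct.includeRight.toRingHom) :=
    CommRingCat.isPushout_tensorProduct B C A
  have he := h0.inr_isoIsPushout_hom _ _ h
  have key : ∀ a ∈ I, (1 : C) ⊗ₜ[B] a = 0 := by
    intro a ha
    have h1 : (h0.isoIsPushout _ _ h).hom.hom ((1 : C) ⊗ₜ[B] a) = 0 := by
      have h2 := congrArg (fun g => g.hom a) he
      have h3 : inr.hom a = 0 := RingHom.mem_ker.mp (hI ha)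
      rw [← h3]
      exact h2
    have h4 := congrArg (h0.isoIsPushout _ _ h).inv.hom h1
    rw [map_zero] at h4
    rw [← h4]
    have h5 := congrArg (fun g => g.hom ((1 : C) ⊗ₜ[B] a)) (h0.isoIsPushout _ _ h).hom_inv_id
    exact h5.symm
  exact content_le_ker_of_tensor I key

end Cat

end Groth.Agent.H4.WRa
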