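import Mathlib
import Groth.Agent.H4.WRa
import Groth.Agent.Lib.Helper5.Desc.FullyFaithful

/-! helper4: Weil restriction of closed subschemes, local representability. -/

set_option autoImplicit false

universe u

open CategoryTheory CategoryTheory.Limits AlgebraicGeometry

namespace Groth.Agent.H4.WRb

section Pred

variable {Y P W : Scheme.{u}}

/-- every point of `P` over `y` lies in `W` -/
def PredW (π : P ⟶ Y) (w : W ⟶ P) ⦃T : Scheme.{u}⦄ (y : T ⟶ Y) : Prop :=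
  ∀ ⦃T'' : Scheme.{u}⦄ (q : T'' ⟶ T) (s : T'' ⟶ P), q ≫ y = s ≫ π → ∃ l : T'' ⟶ W, l ≫ w = s

/-- a predicate on points of `Y` which is a sheaf for the fpqc topology -/
structure IsLocalPred (Q : ∀ ⦃T : Scheme.{u}⦄, (T ⟶ Y) → Prop) : Prop where
  comp : ∀ ⦃T T' : Scheme.{u}⦄ (g : T' ⟶ T) (y : T ⟶ Y), Q y → Q (g ≫ y)
  of_sieve : ∀ ⦃T : Scheme.{u}⦄ (y : T ⟶ Y) (R : Sieve T), R ∈ Scheme.fpqcTopology T →
    (∀ ⦃T' : Scheme.{u}⦄ (t : T' ⟶ T), R t → Q (t ≫ y)) → Q y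

lemma exists_factor_of_sieve {T Z X : Scheme.{u}} (c : Z ⟶ X) [Mono c] (x : T ⟶ X) (R : Sieve T)
    (hR : R ∈ Scheme.fpqcTopology T)
    (h : ∀ ⦃T' : Scheme.{u}⦄ (t : T' ⟶ T), R t → ∃ l : T' ⟶ Z, l ≫ c = t ≫ x) :
    ∃ z : T ⟶ Z, z ≫ c = x := by
  obtain ⟨a, ha⟩ := Groth.Agent.H5.Desc.exists_glue (W := Z) R hR
    (fun T' t ht => (h t ht).choose)
    (fun T' T'' t g ht => by
      apply (cancel_mono c).1
      rw [(h (g ≫ t) (R.downward_closed ht g)).choose_spec]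
      calc (g ≫ t) ≫ x = g ≫ (t ≫ x) := Category.assoc _ _ _
        _ = g ≫ ((h t ht).choose ≫ c) := by rw [(h t ht).choose_spec]
        _ = (g ≫ (h t ht).choose) ≫ c := (Category.assoc _ _ _).symm)
  refine ⟨a, ?_⟩
  apply Groth.Agent.H5.Desc.hom_ext_of_cover R hR
  intro T' t ht
  rw [← Category.assoc, ha t ht, (h t ht).choose_spec]

lemma predW_isLocal (π : P ⟶ Y) (w : W ⟶ P) [Mono w] : IsLocalPred (PredW π w) where
  comp := by
    intro T T' g y hy T'' q s hqs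
    exact hy (q ≫ g) s (by rw [Category.assoc]; exact hqs)
  of_sieve := by
    intro T y R hR h T'' q s hqs
    apply exists_factor_of_sieve w s (R.pullback q) (Scheme.fpqcTopology.pullback_stable q hR)
    intro T' t ht
    exact h (t ≫ q) ht (𝟙 T') (t ≫ s) (by
      rw [Category.id_comp, Category.assoc, hqs, Category.assoc])

lemma predW_baseChange {Y' P' W' : Scheme.{u}} {π : P ⟶ Y} {w : W ⟶ P} {f : Y' ⟶ Y}
    {fP : P' ⟶ P} {π' : P' ⟶ Y'} {fW : W' ⟶ W} {w' : W' ⟶ P'}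
    (h1 : IsPullback fP π' π f) (h2 : IsPullback fW w' w fP) ⦃T : Scheme.{u}⦄ (x : T ⟶ Y') :
    PredW π w (x ≫ f) ↔ PredW π' w' x := by
  constructor
  · intro h T'' q s' hqs
    have e : q ≫ x ≫ f = (s' ≫ fP) ≫ π :=
      calc q ≫ x ≫ f = (q ≫ x) ≫ f := (Category.assoc _ _ _).symm
        _ = (s' ≫ π') ≫ f := by rw [hqs]
        _ = s' ≫ (π' ≫ f) := Category.assoc _ _ _
        _ = s' ≫ (fP ≫ π) := by rw [h1.w]
        _ = (s' ≫ fP) ≫ π := (Category.assoc _ _ _).symm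
    obtain ⟨l, hl⟩ := h q (s' ≫ fP) e
    exact ⟨h2.lift l s' hl, h2.lift_snd _ _ _⟩
  · intro h T'' q s hqs
    have e : s ≫ π = (q ≫ x) ≫ f := by rw [Category.assoc]; exact hqs.symm
    obtain ⟨l', hl'⟩ := h q (h1.lift s (q ≫ x) e) (h1.lift_snd _ _ _).symm
    refine ⟨l' ≫ fW, ?_⟩
    calc (l' ≫ fW) ≫ w = l' ≫ (fW ≫ w) := Category.assoc _ _ _
      _ = l' ≫ (w' ≫ fP) := by rw [h2.w]
      _ = (l' ≫ w') ≫ fP := (Category.assoc _ _ _).symm
      _ = s := by rw [hl', h1.lift_fst]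

end Pred

section Aff

/-- the sieve of morphisms factoring through an affine scheme -/
def affSieve (T : Scheme.{u}) : Sieve T where
  arrows T' t := ∃ (C : CommRingCat.{u}) (a : T' ⟶ Spec C) (b : Spec C ⟶ T), a ≫ b = t
  downward_closed := by
    rintro T' T'' t ⟨C, a, b, rfl⟩ g
    exact ⟨C, g ≫ a, b, Category.assoc _ _ _⟩

lemma affSieve_mem (T : Scheme.{u}) : affSieve T ∈ Scheme.fpqcTopology T := by
  have hmem : T.affineCover.presieve₀ ∈ Scheme.fpqcPrecoverage T :=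
    Scheme.zariskiPrecoverage_le_fpqcPrecoverage _ T.affineCover.mem₀
  refine GrothendieckTopology.superset_covering _ ?_
    (Precoverage.generate_mem_toGrothendieck hmem)
  rw [Sieve.generate_le_iff]
  rintro _ _ ⟨i⟩
  exact ⟨_, (T.affineCover.X i).isoSpec.hom, (T.affineCover.X i).isoSpec.inv ≫ T.affineCover.f i,
    by rw [Iso.hom_inv_id_assoc]⟩

lemma rep_of_affine {X Z : Scheme.{u}} {Q : ∀ ⦃T : Scheme.{u}⦄, (T ⟶ X) → Prop}
    (hQ : IsLocalPred Q) (c : Z ⟶ X) [Mono c]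
    (h : ∀ (C : CommRingCat.{u}) (x : Spec C ⟶ X), Q x ↔ ∃ z : Spec C ⟶ Z, z ≫ c = x)
    ⦃T : Scheme.{u}⦄ (x : T ⟶ X) : Q x ↔ ∃ z : T ⟶ Z, z ≫ c = x := by
  constructor
  · intro hx
    apply exists_factor_of_sieve c x (affSieve T) (affSieve_mem T)
    rintro T' t ⟨C, a, b, rfl⟩
    obtain ⟨z, hz⟩ := (h C (b ≫ x)).1 (hQ.comp b x hx)
    exact ⟨a ≫ z, by rw [Category.assoc, hz, Category.assoc]⟩
  · rintro ⟨z, rfl⟩
    apply hQ.of_sieve (z ≫ c) (affSieve T) (affSieve_mem T)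
    rintro T' t ⟨C, a, b, rfl⟩
    rw [Category.assoc]
    apply hQ.comp
    exact (h C (b ≫ z ≫ c)).2 ⟨b ≫ z, Category.assoc _ _ _⟩

end Aff

section Local

lemma ofIdealTop_mono {X : Scheme.{u}} [IsAffine X] {I J : Ideal Γ(X, ⊤)} (h : I ≤ J) :
    Scheme.IdealSheafData.ofIdealTop I ≤ Scheme.IdealSheafData.ofIdealTop J := by
  apply Scheme.IdealSheafData.le_of_isAffine
  rw [Scheme.IdealSheafData.ofIdealTop_ideal, Scheme.IdealSheafData.ofIdealTop_ideal]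
  exact Ideal.map_mono h

lemma factors_iff {X Z T : Scheme.{u}} [IsAffine X] (c : Z ⟶ X) [IsClosedImmersion c]
    (x : T ⟶ X) :
    (∃ z : T ⟶ Z, z ≫ c = x) ↔ RingHom.ker c.appTop.hom ≤ RingHom.ker x.appTop.hom := by
  constructor
  · rintro ⟨z, rfl⟩
    intro a ha
    have ha' : c.appTop.hom a = 0 := RingHom.mem_ker.mp ha
    rw [RingHom.mem_ker, Scheme.Hom.comp_appTop, CommRingCat.hom_comp, RingHom.comp_apply, ha',
      map_zero]
  · intro h
    refine ⟨IsClosedImmersion.lift c x ?_, IsClosedImmersion.lift_fac _ _ _⟩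
    rw [Scheme.ker_of_isAffine c, Scheme.ker_of_isAffine x]
    exact ofIdealTop_mono h

lemma ker_subschemeι_appTop {X : Scheme.{u}} [IsAffine X] (J : Ideal Γ(X, ⊤)) :
    RingHom.ker (Scheme.IdealSheafData.ofIdealTop J).subschemeι.appTop.hom = J := by
  have h1 := Scheme.ker_of_isAffine (Scheme.IdealSheafData.ofIdealTop J).subschemeι
  rw [Scheme.IdealSheafData.ker_subschemeι] at h1
  have e : ∀ K : Ideal Γ(X, ⊤), Scheme.IdealSheafData.equivOfIsAffine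
      (Scheme.IdealSheafData.ofIdealTop K) = K :=
    fun K => (Scheme.IdealSheafData.equivOfIsAffine (X := X)).apply_symm_apply K
  have h2 := congrArg (Scheme.IdealSheafData.equivOfIsAffine (X := X)) h1
  rw [e, e] at h2
  exact h2.symm

theorem local_rep {X₀ P₀ W₀ : Scheme.{u}} [IsAffine X₀] [IsAffine P₀] (π₀ : P₀ ⟶ X₀)
    (w₀ : W₀ ⟶ P₀) [IsClosedImmersion w₀]
    (hproj : @Module.Projective Γ(X₀, ⊤) _ Γ(P₀, ⊤) _ π₀.appTop.hom.toAlgebra.toModule) :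
    ∃ (Z : Scheme.{u}) (c : Z ⟶ X₀), IsClosedImmersion c ∧
      ∀ ⦃T : Scheme.{u}⦄ (x : T ⟶ X₀), PredW π₀ w₀ x ↔ ∃ z : T ⟶ Z, z ≫ c = x := by
  letI alg : Algebra Γ(X₀, ⊤) Γ(P₀, ⊤) := π₀.appTop.hom.toAlgebra
  haveI : Module.Projective Γ(X₀, ⊤) Γ(P₀, ⊤) := hproj
  have hkc := ker_subschemeι_appTop
    (Groth.Agent.H4.WRa.content (B := Γ(X₀, ⊤)) (RingHom.ker w₀.appTop.hom))
  refine ⟨_, (Scheme.IdealSheafData.ofIdealTop
    (Groth.Agent.H4.WRa.content (B := Γ(X₀, ⊤)) (RingHom.ker w₀.appTop.hom))).subschemeι,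
    inferInstance, ?_⟩
  have back : ∀ ⦃T : Scheme.{u}⦄ (x : T ⟶ X₀),
      Groth.Agent.H4.WRa.content (B := Γ(X₀, ⊤)) (RingHom.ker w₀.appTop.hom) ≤
        RingHom.ker x.appTop.hom → PredW π₀ w₀ x := by
    intro T x hJ T'' q s hqs
    rw [factors_iff w₀ s]
    have hσ : s.appTop.hom.comp (algebraMap Γ(X₀, ⊤) Γ(P₀, ⊤)) = (q ≫ x).appTop.hom := by
      rw [hqs, Scheme.Hom.comp_appTop, CommRingCat.hom_comp]
      rfl
    refine Groth.Agent.H4.WRa.le_ker_of_content_le (q ≫ x).appTop.hom s.appTop.hom hσ _ ?_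
    refine hJ.trans ?_
    intro b hb
    have hb' : x.appTop.hom b = 0 := RingHom.mem_ker.mp hb
    rw [RingHom.mem_ker, Scheme.Hom.comp_appTop, CommRingCat.hom_comp, RingHom.comp_apply, hb',
      map_zero]
  have hloc := predW_isLocal π₀ w₀
  intro T x
  refine rep_of_affine hloc _ (fun C x => ?_) x
  rw [factors_iff _ x, hkc]
  refine ⟨fun hx => ?_, back x⟩
  obtain ⟨l, hl⟩ := hx (pullback.fst x π₀) (pullback.snd x π₀) pullback.condition
  have hpo := isPushout_appTop_of_isPullback (IsPullback.of_hasPullback x π₀)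
  refine Groth.Agent.H4.WRa.content_le_ker_of_isPushout hpo _ ?_
  intro a ha
  have ha' : w₀.appTop.hom a = 0 := RingHom.mem_ker.mp ha
  rw [RingHom.mem_ker, ← hl, Scheme.Hom.comp_appTop, CommRingCat.hom_comp, RingHom.comp_apply,
    ha', map_zero]

end Local

end Groth.Agent.H4.WRb
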