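import Mathlib
import Groth.Prelude.Def_Flatn
import Groth.Agent.H4.WRb

/-! helper4: extension of representability from a generating class of test objects. -/

set_option autoImplicit false

universe u

open CategoryTheory CategoryTheory.Limits AlgebraicGeometry Opposite

namespace Groth.Agent.H4.HomB

variable {S : Scheme.{u}}

/-- the sieve generated by the good objects -/
def goodSieve (good : Over S → Prop) (T : Over S) : Sieve T.left where
  arrows T' t := ∃ (T₀ : Over S) (_ : good T₀) (c : T₀ ⟶ T) (t₁ : T' ⟶ T₀.left), t₁ ≫ c.left = t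
  downward_closed := by
    rintro T' T'' t ⟨T₀, h, c, t₁, rfl⟩ g
    exact ⟨T₀, h, c, g ≫ t₁, Category.assoc _ _ _⟩

section Gen

variable (G : (Over S)ᵒᵖ ⥤ Type u) (W : Over S) (ξ : G.obj (op W)) (good : Over S → Prop)

lemma map_comp_apply' {T T' T'' : Over S} (a : T'' ⟶ T') (c : T' ⟶ T) (x : G.obj (op T)) :
    G.map (a ≫ c).op x = G.map a.op (G.map c.op x) := by
  rw [op_comp, FunctorToTypes.map_comp_apply]

include good in
lemma injective_of_good
    (hcov : ∀ T : Over S, goodSieve good T ∈ Scheme.fpqcTopology T.left)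
    (hbij : ∀ T₀, good T₀ → Function.Injective (fun a : T₀ ⟶ W => G.map a.op ξ))
    (T : Over S) : Function.Injective (fun a : T ⟶ W => G.map a.op ξ) := by
  intro a b h
  have h' : G.map a.op ξ = G.map b.op ξ := h
  apply Over.OverMorphism.ext
  apply Groth.Agent.H5.Desc.hom_ext_of_cover (goodSieve good T) (hcov T)
  rintro T' t ⟨T₀, hT₀, c, t₁, rfl⟩
  have h1 : c ≫ a = c ≫ b := by
    apply hbij T₀ hT₀
    change G.map (c ≫ a).op ξ = G.map (c ≫ b).op ξ
    rw [map_comp_apply', map_comp_apply', h']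
  have h2 := congrArg (fun m => Over.Hom.left m) h1
  simp only [Over.comp_left] at h2
  rw [Category.assoc, Category.assoc, h2]

include good in
theorem bijective_of_good
    (hcov : ∀ T : Over S, goodSieve good T ∈ Scheme.fpqcTopology T.left)
    (hsep : ∀ (T : Over S) (x y : G.obj (op T)),
      (∀ (T₀ : Over S), good T₀ → ∀ c : T₀ ⟶ T, G.map c.op x = G.map c.op y) → x = y)
    (hbij : ∀ T₀, good T₀ → Function.Bijective (fun a : T₀ ⟶ W => G.map a.op ξ))
    (T : Over S) : Function.Bijective (fun a : T ⟶ W => G.map a.op ξ) := by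
  have hinj := injective_of_good G W ξ good hcov (fun T₀ h => (hbij T₀ h).1)
  refine ⟨hinj T, ?_⟩
  intro x
  -- the local solutions
  have key : ∀ ⦃T'' : Over S⦄ (τ : T'' ⟶ T), goodSieve good T τ.left →
      ∃ μ : T'' ⟶ W, G.map μ.op ξ = G.map τ.op x := by
    rintro T'' τ ⟨T₀, hT₀, c, t₁, e⟩
    obtain ⟨a_c, ha_c⟩ := (hbij T₀ hT₀).2 (G.map c.op x)
    have ha_c' : G.map a_c.op ξ = G.map c.op x := ha_c
    have hw : t₁ ≫ T₀.hom = T''.hom := by
      rw [← Over.w c, ← Category.assoc, e, Over.w τ]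
    have e' : Over.homMk t₁ hw ≫ c = τ := by
      apply Over.OverMorphism.ext
      simp only [Over.comp_left, Over.homMk_left]
      exact e
    refine ⟨Over.homMk t₁ hw ≫ a_c, ?_⟩
    rw [map_comp_apply', ha_c', ← map_comp_apply', e']
  choose μ hμ using key
  have hm : ∀ ⦃T' T'' : Scheme.{u}⦄ (t : T' ⟶ T.left) (g : T'' ⟶ T')
      (ht : goodSieve good T t),
      (μ (Over.homMk (g ≫ t) rfl : Over.mk ((g ≫ t) ≫ T.hom) ⟶ T)
        ((goodSieve good T).downward_closed ht g)).left =
      g ≫ (μ (Over.homMk t rfl : Over.mk (t ≫ T.hom) ⟶ T) ht).left := by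
    intro T' T'' t g ht
    have hg : g ≫ (Over.mk (t ≫ T.hom)).hom = (Over.mk ((g ≫ t) ≫ T.hom)).hom := by
      simp
    have h1 : μ (Over.homMk (g ≫ t) rfl : Over.mk ((g ≫ t) ≫ T.hom) ⟶ T)
        ((goodSieve good T).downward_closed ht g) =
        (Over.homMk g hg : Over.mk ((g ≫ t) ≫ T.hom) ⟶ Over.mk (t ≫ T.hom)) ≫
          μ (Over.homMk t rfl : Over.mk (t ≫ T.hom) ⟶ T) ht := by
      apply hinj
      change G.map _ ξ = G.map _ ξ
      have e' : (Over.homMk g hg : Over.mk ((g ≫ t) ≫ T.hom) ⟶ Over.mk (t ≫ T.hom)) ≫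
          (Over.homMk t rfl : Over.mk (t ≫ T.hom) ⟶ T) =
          (Over.homMk (g ≫ t) rfl : Over.mk ((g ≫ t) ≫ T.hom) ⟶ T) := by
        apply Over.OverMorphism.ext
        simp
      rw [hμ, map_comp_apply', hμ, ← map_comp_apply', e']
    rw [h1]
    simp
  obtain ⟨a₀, ha₀⟩ := Groth.Agent.H5.Desc.exists_glue (W := W.left) (goodSieve good T) (hcov T)
    (fun T' t ht => (μ (Over.homMk t rfl : Over.mk (t ≫ T.hom) ⟶ T) ht).left) hm
  have hw : a₀ ≫ W.hom = T.hom := by
    apply Groth.Agent.H5.Desc.hom_ext_of_cover (goodSieve good T) (hcov T)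
    intro T' t ht
    rw [← Category.assoc, ha₀ t ht, Over.w]
    rfl
  refine ⟨Over.homMk a₀ hw, ?_⟩
  apply hsep
  intro T₀ hT₀ c
  change G.map c.op (G.map (Over.homMk a₀ hw).op ξ) = G.map c.op x
  have hc : goodSieve good T c.left := ⟨T₀, hT₀, c, 𝟙 _, Category.id_comp _⟩
  rw [← map_comp_apply', ← hμ c hc]
  suffices hh : c ≫ Over.homMk a₀ hw = μ c hc by rw [hh]
  apply hinj
  change G.map _ ξ = G.map _ ξ
  rw [hμ c hc]
  -- compare with the glued morphism via the isomorphism `T₀ ≅ Over.mk (c.left ≫ T.hom)`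
  have hT₀ : (𝟙 T₀.left) ≫ (Over.mk (c.left ≫ T.hom)).hom = T₀.hom := by
    simp [Over.w c]
  have e1 : (Over.homMk (𝟙 T₀.left) hT₀ : T₀ ⟶ Over.mk (c.left ≫ T.hom)) ≫
      (Over.homMk c.left rfl : Over.mk (c.left ≫ T.hom) ⟶ T) = c := by
    apply Over.OverMorphism.ext
    simp
  have e2 : c ≫ Over.homMk a₀ hw = (Over.homMk (𝟙 T₀.left) hT₀ : T₀ ⟶ Over.mk (c.left ≫ T.hom)) ≫
      μ (Over.homMk c.left rfl : Over.mk (c.left ≫ T.hom) ⟶ T) hc := by
    apply Over.OverMorphism.ext
    simp only [Over.comp_left, Over.homMk_left, Category.id_comp]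
    exact ha₀ c.left hc
  rw [e2, map_comp_apply', hμ, ← map_comp_apply', e1]

/-- representability from bijectivity -/
noncomputable def representableBy_of_bijective
    (h : ∀ T : Over S, Function.Bijective (fun a : T ⟶ W => G.map a.op ξ)) :
    G.RepresentableBy W where
  homEquiv {T} := Equiv.ofBijective _ (h T)
  homEquiv_comp {T T'} f g := by
    change G.map (f ≫ g).op ξ = G.map f.op (G.map g.op ξ)
    exact map_comp_apply' G f g ξ

end Gen

section MorS

variable {Z X : Scheme.{u}} (g : Z ⟶ S) (f : X ⟶ S)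

lemma morS_map_left {T T' : Over S} (c : T' ⟶ T) (x : (Flatn.morS g f).obj (op T)) :
    ((Flatn.morS g f).map c.op x).left =
      pullback.lift (pullback.fst T'.hom g ≫ c.left) (pullback.snd T'.hom g)
        (by rw [Category.assoc, Over.w c, pullback.condition]) ≫ x.left := rfl

lemma morS_sep (good : Over S → Prop)
    (hcov : ∀ T : Over S, goodSieve good T ∈ Scheme.fpqcTopology T.left)
    (T : Over S) (x y : (Flatn.morS g f).obj (op T))
    (h : ∀ (T₀ : Over S), good T₀ → ∀ c : T₀ ⟶ T,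
      (Flatn.morS g f).map c.op x = (Flatn.morS g f).map c.op y) : x = y := by
  apply Over.OverMorphism.ext
  apply Groth.Agent.H5.Desc.hom_ext_of_cover
    (Sieve.pullback (pullback.fst T.hom g) (goodSieve good T))
    (Scheme.fpqcTopology.pullback_stable _ (hcov T))
  rintro T' t' ⟨T₀, hT₀, c, t₁, e⟩
  have hcond : t₁ ≫ T₀.hom = (t' ≫ pullback.snd T.hom g) ≫ g := by
    rw [← Over.w c, ← Category.assoc, e, Category.assoc, Category.assoc, pullback.condition]
  have hl : pullback.lift t₁ (t' ≫ pullback.snd T.hom g) hcond ≫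
      pullback.lift (pullback.fst T₀.hom g ≫ c.left) (pullback.snd T₀.hom g)
        (by rw [Category.assoc, Over.w c, pullback.condition]) = t' := by
    apply pullback.hom_ext
    · rw [Category.assoc, pullback.lift_fst, pullback.lift_fst_assoc, e]
    · rw [Category.assoc, pullback.lift_snd, pullback.lift_snd]
  have h1 : ((Flatn.morS g f).map c.op x).left = ((Flatn.morS g f).map c.op y).left := by
    rw [h T₀ hT₀ c]
  rw [morS_map_left, morS_map_left] at h1
  obtain ⟨l₁, hl₁⟩ : ∃ l, l = pullback.lift t₁ (t' ≫ pullback.snd T.hom g) hcond := ⟨_, rfl⟩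
  rw [← hl₁] at hl
  have hx : ∀ z : (Flatn.morS g f).obj (op T), t' ≫ z.left =
      l₁ ≫ pullback.lift (pullback.fst T₀.hom g ≫ c.left) (pullback.snd T₀.hom g)
        (by rw [Category.assoc, Over.w c, pullback.condition]) ≫ z.left := fun z => by
    rw [← Category.assoc, hl]
  rw [hx x, hx y, h1]

end MorS

end Groth.Agent.H4.HomB
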