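import Mathlib
import Groth.Prelude.Def_Flatn
import Groth.Agent.H4.HomB

/-! helper4: lifting a presheaf on `Over S` to a presheaf on all schemes; representability
transfers in both directions.  An abstract criterion for `P.presheaf`. -/

set_option autoImplicit false

universe u

open CategoryTheory CategoryTheory.Limits AlgebraicGeometry Opposite

noncomputable section

namespace Groth.Agent.H4.HomG

/-- representability from a universal element -/
def repOfBij (F : Scheme.{u}ᵒᵖ ⥤ Type u) (Y : Scheme.{u}) (ξ : F.obj (op Y))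
    (h : ∀ T : Scheme.{u}, Function.Bijective (fun a : T ⟶ Y => F.map a.op ξ)) :
    F.RepresentableBy Y where
  homEquiv {T} := Equiv.ofBijective _ (h T)
  homEquiv_comp {T T'} a b := by
    change F.map (a ≫ b).op ξ = F.map a.op (F.map b.op ξ)
    rw [op_comp, FunctorToTypes.map_comp_apply]

section Gen

variable {S : Scheme.{u}} (G : (Over S)ᵒᵖ ⥤ Type u)

/-- sections of the lifted presheaf -/
abbrev LObj (T : Scheme.{u}) : Type u := Σ t : T ⟶ S, G.obj (op (Over.mk t))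

variable {G}

lemma mk_eq_mk {T : Scheme.{u}} {W : Over S} (ξ : G.obj (op W)) {t t' : T ⟶ S} (h : t' = t)
    (c : Over.mk t ⟶ W) (c' : Over.mk t' ⟶ W) (hc : c'.left = c.left) :
    (⟨t', G.map c'.op ξ⟩ : LObj G T) = ⟨t, G.map c.op ξ⟩ := by
  subst h
  have : c' = c := Over.OverMorphism.ext hc
  rw [this]

lemma eq_of_mk_eq {T : Scheme.{u}} {W : Over S} (ξ : G.obj (op W)) {t t' : T ⟶ S}
    (c' : Over.mk t' ⟶ W) (x : G.obj (op (Over.mk t)))
    (e : (⟨t', G.map c'.op ξ⟩ : LObj G T) = ⟨t, x⟩) :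
    ∃ (h : c'.left ≫ W.hom = t), G.map (Over.homMk c'.left h : Over.mk t ⟶ W).op ξ = x := by
  obtain ⟨h, hh⟩ := Sigma.mk.inj_iff.mp e
  subst h
  refine ⟨Over.w c', ?_⟩
  have : (Over.homMk c'.left (Over.w c') : Over.mk t' ⟶ W) = c' := Over.OverMorphism.ext rfl
  rw [this]
  exact eq_of_heq hh

variable (G)

/-- restriction of sections -/
def lmap {T T' : Scheme.{u}} (a : T' ⟶ T) (y : LObj G T) : LObj G T' :=
  ⟨a ≫ y.1, G.map (Over.homMk a rfl : Over.mk (a ≫ y.1) ⟶ Over.mk y.1).op y.2⟩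

lemma lmap_id {T : Scheme.{u}} (y : LObj G T) : lmap G (𝟙 T) y = y := by
  obtain ⟨t, x⟩ := y
  refine (mk_eq_mk x (Category.id_comp t) (𝟙 _) (Over.homMk (𝟙 T) rfl) rfl).trans ?_
  rw [op_id, G.map_id]
  rfl

lemma lmap_comp {T T' T'' : Scheme.{u}} (b : T'' ⟶ T') (a : T' ⟶ T) (y : LObj G T) :
    lmap G (b ≫ a) y = lmap G b (lmap G a y) := by
  obtain ⟨t, x⟩ := y
  refine (mk_eq_mk x (Category.assoc b a t)
    ((Over.homMk b rfl : Over.mk (b ≫ a ≫ t) ⟶ Over.mk (a ≫ t)) ≫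
      (Over.homMk a rfl : Over.mk (a ≫ t) ⟶ Over.mk t))
    (Over.homMk (b ≫ a) rfl) rfl).trans ?_
  rw [op_comp, FunctorToTypes.map_comp_apply]
  rfl

/-- the lifted presheaf on schemes -/
def lft : Scheme.{u}ᵒᵖ ⥤ Type u where
  obj T := LObj G T.unop
  map a := TypeCat.ofHom (lmap G a.unop)
  map_id T := by
    apply ConcreteCategory.hom_ext
    intro y
    exact lmap_id G y
  map_comp a b := by
    apply ConcreteCategory.hom_ext
    intro y
    exact lmap_comp G b.unop a.unop y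

lemma lft_map_apply {T T' : Scheme.{u}} (a : T' ⟶ T) (y : LObj G T) :
    (lft G).map a.op y = lmap G a y := rfl

/-- representability of the lift gives representability over `S` -/
theorem rep_of_lft_rep {W' : Scheme.{u}} (R' : (lft G).RepresentableBy W') :
    ∃ W : Over S, Nonempty (G.RepresentableBy W) := by
  obtain ⟨⟨w, ξ⟩, hu⟩ : ∃ y : LObj G W', y = R'.homEquiv (𝟙 W') := ⟨_, rfl⟩
  have key : ∀ {T : Scheme.{u}} (a : T ⟶ W'), R'.homEquiv a = lmap G a ⟨w, ξ⟩ := by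
    intro T a
    rw [R'.homEquiv_eq, ← hu]
    rfl
  refine ⟨Over.mk w, ⟨Groth.Agent.H4.HomB.representableBy_of_bijective G (Over.mk w) ξ
    fun T => ⟨?_, ?_⟩⟩⟩
  · intro c₁ c₂ h
    have e : ∀ c : T ⟶ Over.mk w,
        R'.homEquiv c.left = (⟨T.hom, G.map c.op ξ⟩ : LObj G T.left) := by
      intro c
      rw [key]
      exact mk_eq_mk ξ (Over.w c) c (Over.homMk c.left rfl) rfl
    have h' : R'.homEquiv c₁.left = R'.homEquiv c₂.left := by
      rw [e c₁, e c₂]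
      exact congrArg (fun x => (⟨T.hom, x⟩ : LObj G T.left)) h
    exact Over.OverMorphism.ext (R'.homEquiv.injective h')
  · intro x
    obtain ⟨a, ha⟩ : ∃ a : T.left ⟶ W', R'.homEquiv a = (⟨T.hom, x⟩ : LObj G T.left) :=
      ⟨R'.homEquiv.symm _, Equiv.apply_symm_apply _ _⟩
    rw [key] at ha
    obtain ⟨h, hx⟩ := eq_of_mk_eq ξ (Over.homMk a rfl : Over.mk (a ≫ w) ⟶ Over.mk w) x ha
    exact ⟨Over.homMk a h, hx⟩

/-- representability over `S` gives representability of the lift -/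
def lftRep {W : Over S} (R : G.RepresentableBy W) : (lft G).RepresentableBy W.left :=
  repOfBij (lft G) W.left (⟨W.hom, R.homEquiv (𝟙 W)⟩ : LObj G W.left) (fun T => by
    have hR : ∀ {T' : Over S} (c : T' ⟶ W), R.homEquiv c = G.map c.op (R.homEquiv (𝟙 W)) :=
      fun c => R.homEquiv_eq c
    constructor
    · intro a₁ a₂ h
      obtain ⟨h', hx⟩ := eq_of_mk_eq (R.homEquiv (𝟙 W))
        (Over.homMk a₁ rfl : Over.mk (a₁ ≫ W.hom) ⟶ W)
        (G.map (Over.homMk a₂ rfl : Over.mk (a₂ ≫ W.hom) ⟶ W).op (R.homEquiv (𝟙 W))) h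
      rw [← hR, ← hR] at hx
      exact congrArg (fun c => c.left) (R.homEquiv.injective hx)
    · rintro ⟨t, x⟩
      obtain ⟨c, hc⟩ : ∃ c : Over.mk t ⟶ W, R.homEquiv c = x :=
        ⟨R.homEquiv.symm x, Equiv.apply_symm_apply _ _⟩
      refine ⟨c.left, ?_⟩
      refine (mk_eq_mk (R.homEquiv (𝟙 W)) (Over.w c) c (Over.homMk c.left rfl) rfl).trans ?_
      rw [← hR, hc]
      rfl)

lemma lftRep_homEquiv {W : Over S} (R : G.RepresentableBy W) {T : Scheme.{u}}
    (a : T ⟶ W.left) :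
    (lftRep G R).homEquiv a = lmap G a (⟨W.hom, R.homEquiv (𝟙 W)⟩ : LObj G W.left) := rfl

end Gen

/-- a criterion for a morphism of presheaves on schemes to be relatively representable with
property `P` -/
theorem presheaf_of_local {A B : Scheme.{u}ᵒᵖ ⥤ Type u} (κ : A ⟶ B)
    (P : MorphismProperty Scheme.{u}) [P.RespectsIso]
    (hinj : ∀ T : Scheme.{u}, Function.Injective (κ.app (op T)))
    (hloc : ∀ (T : Scheme.{u}) (y : B.obj (op T)), ∃ (T₀ : Scheme.{u}) (s : T₀ ⟶ T),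
      P s ∧ Mono s ∧ (∃ y₀ : A.obj (op T₀), κ.app (op T₀) y₀ = B.map s.op y) ∧
      ∀ (T' : Scheme.{u}) (a : T' ⟶ T),
        (∃ y' : A.obj (op T'), κ.app (op T') y' = B.map a.op y) → ∃ a₀ : T' ⟶ T₀, a₀ ≫ s = a) :
    P.presheaf κ := by
  apply MorphismProperty.relative.of_exists
  intro T g'
  obtain ⟨y, rfl⟩ : ∃ y, g' = yonedaEquiv.symm y :=
    ⟨yonedaEquiv g', (Equiv.symm_apply_apply _ _).symm⟩
  obtain ⟨T₀, s, hP, hmono, ⟨y₀, hy₀⟩, hfac⟩ := hloc T y
  refine ⟨T₀, yonedaEquiv.symm y₀, s, ?_, hP⟩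
  have hnat : ∀ (T' : Scheme.{u}ᵒᵖ) (a₀ : T'.unop ⟶ T₀),
      κ.app T' (A.map a₀.op y₀) = B.map (a₀ ≫ s).op y := by
    intro T' a₀
    rw [NatTrans.naturality_apply κ a₀.op y₀, hy₀, op_comp, FunctorToTypes.map_comp_apply]
  apply IsPullback.of_forall_isPullback_app
  intro T'
  rw [Types.isPullback_iff]
  refine ⟨?_, ?_, ?_⟩
  · ext a₀
    exact hnat T' a₀
  · rintro a₀ a₀' ⟨-, h2⟩
    exact (cancel_mono s).mp h2
  · intro y' a h
    obtain ⟨a₀, ha₀⟩ := hfac T'.unop a ⟨y', h⟩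
    refine ⟨a₀, ?_, ha₀⟩
    apply hinj T'.unop
    refine (hnat T' a₀).trans ?_
    rw [ha₀]
    exact h.symm

end Groth.Agent.H4.HomG
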