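import Mathlib
import Groth.Prelude.Def_HilbD
import Groth.Agent.H4.HilbDesc
import Groth.Agent.H4.HomG
import Groth.Agent.Lib.Helper3.QuotFpqc.IdealFam

/-! helper4: the Hilbert functor of points as a presheaf on `Over S`; its lift to all schemes is a
Zariski sheaf. -/

set_option autoImplicit false

universe u

open CategoryTheory CategoryTheory.Limits AlgebraicGeometry Opposite

noncomputable section

namespace Groth.Agent.H4.HbC

open Groth.Agent.H4.HomG Groth.Agent.H4.HilbDesc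

variable {X S : Scheme.{u}} (f : X ⟶ S) (d : ℕ)

/-- base change of finite locally free morphisms of degree `d` -/
lemma flf_of_isPullback {P Z Y T : Scheme.{u}} {fst : P ⟶ Z} {snd : P ⟶ T} {π : Z ⟶ Y}
    {g : T ⟶ Y} (sq : IsPullback fst snd π g) (h : Mor2.IsFinLocFreeOfDeg d π) :
    Mor2.IsFinLocFreeOfDeg d snd := by
  obtain ⟨⟨h1, h2, h3⟩, h4⟩ := h
  haveI := h1
  haveI := h2
  refine ⟨⟨MorphismProperty.of_isPullback (P := @IsFinite) sq h1,
    MorphismProperty.of_isPullback (P := @Flat) sq h2,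
    MorphismProperty.of_isPullback (P := @LocallyOfFinitePresentation) sq h3⟩, fun y => ?_⟩
  rw [Scheme.Hom.finrank_of_isPullback fst snd π g sq y]
  exact h4 _

/-- finite locally free of degree `d` is local on the target -/
lemma flf_of_cover {Z Y : Scheme.{u}} (𝓤 : Scheme.OpenCover.{u} Y) (π : Z ⟶ Y)
    (h : ∀ j, ∃ (P : Scheme.{u}) (q : P ⟶ Z) (π' : P ⟶ 𝓤.X j),
      IsPullback q π' π (𝓤.f j) ∧ Mor2.IsFinLocFreeOfDeg d π') :
    Mor2.IsFinLocFreeOfDeg d π := by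
  choose P q π' sq hπ' using h
  have hP : ∀ (Q : MorphismProperty Scheme.{u}) [IsZariskiLocalAtTarget Q],
      (∀ j, Q (π' j)) → Q π := by
    intro Q _ hQ
    refine IsZariskiLocalAtTarget.of_openCover (P := Q) 𝓤 (fun j => ?_)
    refine (MorphismProperty.cancel_left_of_respectsIso Q (sq j).isoPullback.hom _).mp ?_
    show Q ((sq j).isoPullback.hom ≫ pullback.snd π (𝓤.f j))
    rw [(sq j).isoPullback_hom_snd]
    exact hQ j
  have k1 : IsFinite π := hP @IsFinite (fun j => (hπ' j).1.1)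
  have k2 : Flat π := hP @Flat (fun j => (hπ' j).1.2.1)
  have k3 : LocallyOfFinitePresentation π :=
    hP @LocallyOfFinitePresentation (fun j => (hπ' j).1.2.2)
  refine ⟨⟨k1, k2, k3⟩, fun y => ?_⟩
  obtain ⟨u, hu⟩ := 𝓤.covers y
  rw [← hu, ← Scheme.Hom.finrank_of_isPullback (q _) (π' _) π (𝓤.f _) (sq _) u]
  exact (hπ' _).2 u

section Res

variable {T T' : Over S} (c : T' ⟶ T) (I : (PicF.XT f T).IdealSheafData)

/-- the map of closed subschemes induced by base change -/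
def resMap : (I.comap (PicF.XTmap f c)).subscheme ⟶ I.subscheme :=
  (I.comapIso (PicF.XTmap f c)).hom ≫ pullback.snd (PicF.XTmap f c) I.subschemeι

lemma resMap_ι :
    resMap f c I ≫ I.subschemeι = (I.comap (PicF.XTmap f c)).subschemeι ≫ PicF.XTmap f c := by
  unfold resMap
  rw [Category.assoc, ← pullback.condition, Scheme.IdealSheafData.comapIso_hom_fst_assoc]

lemma res_top : IsPullback (I.comap (PicF.XTmap f c)).subschemeι (resMap f c I)
    (PicF.XTmap f c) I.subschemeι := by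
  apply isPullback_of_isClosedImmersion
  · exact (resMap_ι f c I).symm
  · rw [Scheme.IdealSheafData.ker_subschemeι, Scheme.IdealSheafData.ker_subschemeι]

lemma res_isPullback : IsPullback (resMap f c I)
    ((I.comap (PicF.XTmap f c)).subschemeι ≫ PicF.XTproj f T')
    (I.subschemeι ≫ PicF.XTproj f T) c.left :=
  (res_top f c I).flip.paste_vert (isPullback_XTmap f c)

end Res

lemma XTmap_id (T : Over S) : PicF.XTmap f (𝟙 T) = 𝟙 _ := by
  apply pullback.hom_ext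
  · rw [XTmap_fst, Category.id_comp]
  · rw [XTmap_snd, Category.id_comp]
    exact Category.comp_id _

lemma XTmap_comp {T T' T'' : Over S} (a : T'' ⟶ T') (c : T' ⟶ T) :
    PicF.XTmap f (a ≫ c) = PicF.XTmap f a ≫ PicF.XTmap f c := by
  apply pullback.hom_ext
  · rw [XTmap_fst, Category.assoc, XTmap_fst, XTmap_fst]
  · rw [XTmap_snd, Category.assoc, XTmap_snd, ← Category.assoc, XTmap_snd, Category.assoc]
    rfl

/-- the Hilbert functor of points -/
def hG : (Over S)ᵒᵖ ⥤ Type u where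
  obj T := HilbD.Obj f d T.unop
  map {T T'} c := TypeCat.ofHom fun Z =>
    (⟨Z.1.comap (PicF.XTmap f c.unop), flf_of_isPullback d (res_isPullback f c.unop Z.1) Z.2⟩ :
      HilbD.Obj f d T'.unop)
  map_id T := by
    apply ConcreteCategory.hom_ext
    intro Z
    apply Subtype.ext
    show Z.1.comap (PicF.XTmap f (𝟙 T.unop)) = Z.1
    rw [XTmap_id, Scheme.IdealSheafData.comap_id]
  map_comp {T T' T''} a c := by
    apply ConcreteCategory.hom_ext
    intro Z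
    apply Subtype.ext
    show Z.1.comap (PicF.XTmap f (c.unop ≫ a.unop)) =
      (Z.1.comap (PicF.XTmap f a.unop)).comap (PicF.XTmap f c.unop)
    rw [XTmap_comp, Scheme.IdealSheafData.comap_comp]

lemma hG_map_val {T T' : Over S} (c : T' ⟶ T) (Z : HilbD.Obj f d T) :
    ((hG f d).map c.op Z).1 = Z.1.comap (PicF.XTmap f c) := rfl

section L

/-- the base change map of fibre products -/
def plx {T T' : Scheme.{u}} (a : T' ⟶ T) (t : T ⟶ S) : pullback f (a ≫ t) ⟶ pullback f t :=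
  PicF.XTmap f (Over.homMk a rfl : Over.mk (a ≫ t) ⟶ Over.mk t)

@[reassoc]
lemma plx_fst {T T' : Scheme.{u}} (a : T' ⟶ T) (t : T ⟶ S) :
    plx f a t ≫ pullback.fst f t = pullback.fst f (a ≫ t) :=
  XTmap_fst f (Over.homMk a rfl : Over.mk (a ≫ t) ⟶ Over.mk t)

@[reassoc]
lemma plx_snd {T T' : Scheme.{u}} (a : T' ⟶ T) (t : T ⟶ S) :
    plx f a t ≫ pullback.snd f t = pullback.snd f (a ≫ t) ≫ a :=
  XTmap_snd f (Over.homMk a rfl : Over.mk (a ≫ t) ⟶ Over.mk t)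

lemma plx_isPullback {T T' : Scheme.{u}} (a : T' ⟶ T) (t : T ⟶ S) :
    IsPullback (plx f a t) (pullback.snd f (a ≫ t)) (pullback.snd f t) a :=
  isPullback_XTmap f (Over.homMk a rfl : Over.mk (a ≫ t) ⟶ Over.mk t)

/-- the map of closed subschemes induced by base change -/
def rsm {T T' : Scheme.{u}} (a : T' ⟶ T) (t : T ⟶ S) (I : (pullback f t).IdealSheafData) :
    (I.comap (plx f a t)).subscheme ⟶ I.subscheme :=
  resMap f (Over.homMk a rfl : Over.mk (a ≫ t) ⟶ Over.mk t) I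

@[reassoc]
lemma rsm_ι {T T' : Scheme.{u}} (a : T' ⟶ T) (t : T ⟶ S) (I : (pullback f t).IdealSheafData) :
    rsm f a t I ≫ I.subschemeι = (I.comap (plx f a t)).subschemeι ≫ plx f a t :=
  resMap_ι f (Over.homMk a rfl : Over.mk (a ≫ t) ⟶ Over.mk t) I

lemma rsm_isPullback {T T' : Scheme.{u}} (a : T' ⟶ T) (t : T ⟶ S)
    (I : (pullback f t).IdealSheafData) :
    IsPullback (rsm f a t I) ((I.comap (plx f a t)).subschemeι ≫ pullback.snd f (a ≫ t))
      (I.subschemeι ≫ pullback.snd f t) a :=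
  res_isPullback f (Over.homMk a rfl : Over.mk (a ≫ t) ⟶ Over.mk t) I

/-- constructor of sections of the lifted Hilbert functor -/
def mkH {T : Scheme.{u}} (t : T ⟶ S) (I : (pullback f t).IdealSheafData)
    (h : Mor2.IsFinLocFreeOfDeg d (I.subschemeι ≫ pullback.snd f t)) : LObj (hG f d) T :=
  ⟨t, ⟨I, h⟩⟩

lemma exists_mkH {T : Scheme.{u}} (y : LObj (hG f d) T) :
    ∃ (t : T ⟶ S) (I : (pullback f t).IdealSheafData)
      (h : Mor2.IsFinLocFreeOfDeg d (I.subschemeι ≫ pullback.snd f t)), y = mkH f d t I h := by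
  obtain ⟨t, ⟨I, h⟩⟩ := y
  exact ⟨t, I, h, rfl⟩

lemma mkH_eq_iff {T : Scheme.{u}} {t₁ t₂ : T ⟶ S} (I₁ : (pullback f t₁).IdealSheafData)
    (h₁ : Mor2.IsFinLocFreeOfDeg d (I₁.subschemeι ≫ pullback.snd f t₁))
    (I₂ : (pullback f t₂).IdealSheafData)
    (h₂ : Mor2.IsFinLocFreeOfDeg d (I₂.subschemeι ≫ pullback.snd f t₂)) :
    mkH f d t₁ I₁ h₁ = mkH f d t₂ I₂ h₂ ↔ t₁ = t₂ ∧
      ∀ {P : Scheme.{u}} (u : P ⟶ pullback f t₁) (v : P ⟶ pullback f t₂),
        u ≫ pullback.fst f t₁ = v ≫ pullback.fst f t₂ →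
        u ≫ pullback.snd f t₁ = v ≫ pullback.snd f t₂ → I₁.comap u = I₂.comap v := by
  constructor
  · intro e
    obtain ⟨h, hh⟩ := Sigma.mk.inj_iff.mp e
    subst h
    have hl : I₁ = I₂ := congrArg Subtype.val (eq_of_heq hh)
    subst hl
    exact ⟨rfl, fun u v h1 h2 => by rw [pullback.hom_ext h1 h2]⟩
  · rintro ⟨rfl, hl⟩
    have : I₁ = I₂ := by
      have := hl (𝟙 _) (𝟙 _) rfl rfl
      rwa [Scheme.IdealSheafData.comap_id, Scheme.IdealSheafData.comap_id] at this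
    subst this
    rfl

lemma mkH_congr {T : Scheme.{u}} (t : T ⟶ S) {I₁ I₂ : (pullback f t).IdealSheafData}
    (h₁ : Mor2.IsFinLocFreeOfDeg d (I₁.subschemeι ≫ pullback.snd f t))
    (h₂ : Mor2.IsFinLocFreeOfDeg d (I₂.subschemeι ≫ pullback.snd f t)) (e : I₁ = I₂) :
    mkH f d t I₁ h₁ = mkH f d t I₂ h₂ := by
  subst e
  rfl

lemma flf_res {T T' : Scheme.{u}} (a : T' ⟶ T) (t : T ⟶ S) (I : (pullback f t).IdealSheafData)
    (h : Mor2.IsFinLocFreeOfDeg d (I.subschemeι ≫ pullback.snd f t)) :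
    Mor2.IsFinLocFreeOfDeg d ((I.comap (plx f a t)).subschemeι ≫ pullback.snd f (a ≫ t)) :=
  flf_of_isPullback d (rsm_isPullback f a t I) h

lemma lmap_mkH {T T' : Scheme.{u}} (a : T' ⟶ T) (t : T ⟶ S) (I : (pullback f t).IdealSheafData)
    (h : Mor2.IsFinLocFreeOfDeg d (I.subschemeι ≫ pullback.snd f t)) :
    lmap (hG f d) a (mkH f d t I h) =
      mkH f d (a ≫ t) (I.comap (plx f a t)) (flf_res f d a t I h) := rfl

lemma plx_cover {Y : Scheme.{u}} (𝓤 : Scheme.OpenCover.{u} Y) (t : Y ⟶ S) :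
    Presieve.ofArrows (fun j => pullback f (𝓤.f j ≫ t)) (fun j => plx f (𝓤.f j) t) ∈
      Scheme.fpqcPrecoverage (pullback f t) := by
  refine Scheme.zariskiPrecoverage_le_fpqcPrecoverage _
    ((Scheme.ofArrows_mem_precoverage_iff _).2 ⟨fun x => ?_, fun j => ?_⟩)
  · obtain ⟨u, hu⟩ := 𝓤.covers ((pullback.snd f t) x)
    obtain ⟨x', hx', -⟩ := Scheme.exists_preimage_of_isPullback (plx_isPullback f (𝓤.f _) t) x u
      hu.symm
    exact ⟨_, x', hx'⟩
  · exact MorphismProperty.of_isPullback (P := @IsOpenImmersion)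
      (plx_isPullback f (𝓤.f j) t).flip inferInstance

/-- separatedness for open covers -/
lemma lft_sep {Y : Scheme.{u}} (𝓤 : Scheme.OpenCover.{u} Y) (y y' : LObj (hG f d) Y)
    (h : ∀ j, lmap (hG f d) (𝓤.f j) y = lmap (hG f d) (𝓤.f j) y') : y = y' := by
  obtain ⟨t, I, hI, rfl⟩ := exists_mkH f d y
  obtain ⟨t', I', hI', rfl⟩ := exists_mkH f d y'
  have ht : t = t' := by
    apply 𝓤.hom_ext
    intro j
    exact congrArg Sigma.fst (h j)
  subst ht
  have hc := plx_cover f 𝓤 t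
  have hj : ∀ j, I.comap (plx f (𝓤.f j) t) = I'.comap (plx f (𝓤.f j) t) := by
    intro j
    have := h j
    rw [lmap_mkH, lmap_mkH, mkH_eq_iff] at this
    have h3 := this.2 (𝟙 _) (𝟙 _) rfl rfl
    rwa [Scheme.IdealSheafData.comap_id, Scheme.IdealSheafData.comap_id] at h3
  exact mkH_congr f d t hI hI' (le_antisymm
    (Groth.Agent.H3.QuotFpqc.le_of_comap_eq _ hc I' I (fun j => (hj j).symm))
    (Groth.Agent.H3.QuotFpqc.le_of_comap_eq _ hc I I' hj))

/-- gluing for open covers -/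
lemma lft_glue {Y : Scheme.{u}} (𝓤 : Scheme.OpenCover.{u} Y)
    (x : ∀ j, LObj (hG f d) (𝓤.X j))
    (hx : ∀ i j (P : Scheme.{u}) (gi : P ⟶ 𝓤.X i) (gj : P ⟶ 𝓤.X j), gi ≫ 𝓤.f i = gj ≫ 𝓤.f j →
      lmap (hG f d) gi (x i) = lmap (hG f d) gj (x j)) :
    ∃ y : LObj (hG f d) Y, ∀ j, lmap (hG f d) (𝓤.f j) y = x j := by
  have h1 : ∀ i j, pullback.fst (𝓤.f i) (𝓤.f j) ≫ (x i).1 =
      pullback.snd (𝓤.f i) (𝓤.f j) ≫ (x j).1 := by
    intro i j
    exact congrArg Sigma.fst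
      (hx i j _ (pullback.fst (𝓤.f i) (𝓤.f j)) (pullback.snd _ _) pullback.condition)
  obtain ⟨t, ht⟩ : ∃ t : Y ⟶ S, ∀ j, 𝓤.f j ≫ t = (x j).1 :=
    ⟨𝓤.glueMorphisms (fun j => (x j).1) h1, fun j => 𝓤.ι_glueMorphisms _ _ j⟩
  have hnorm : ∀ j, ∃ (I : (pullback f (𝓤.f j ≫ t)).IdealSheafData)
      (h : Mor2.IsFinLocFreeOfDeg d (I.subschemeι ≫ pullback.snd f (𝓤.f j ≫ t))),
      x j = mkH f d (𝓤.f j ≫ t) I h := by
    intro j
    have h := ht j
    generalize x j = y at h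
    obtain ⟨t', ⟨I', hI'⟩⟩ := y
    change 𝓤.f j ≫ t = t' at h
    subst h
    exact ⟨I', hI', rfl⟩
  choose I hI hxI using hnorm
  have hc := plx_cover f 𝓤 t
  have hov : ∀ i j, (I i).comap (pullback.fst (plx f (𝓤.f i) t) (plx f (𝓤.f j) t)) =
      (I j).comap (pullback.snd (plx f (𝓤.f i) t) (plx f (𝓤.f j) t)) := by
    intro i j
    obtain ⟨p1, hp1⟩ : ∃ m, m = pullback.fst (plx f (𝓤.f i) t) (plx f (𝓤.f j) t) := ⟨_, rfl⟩
    obtain ⟨p2, hp2⟩ : ∃ m, m = pullback.snd (plx f (𝓤.f i) t) (plx f (𝓤.f j) t) := ⟨_, rfl⟩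
    have hcond : p1 ≫ plx f (𝓤.f i) t = p2 ≫ plx f (𝓤.f j) t := by
      rw [hp1, hp2]
      exact pullback.condition
    rw [← hp1, ← hp2]
    have c0 : (p1 ≫ pullback.snd f (𝓤.f i ≫ t)) ≫ 𝓤.f i =
        (p2 ≫ pullback.snd f (𝓤.f j ≫ t)) ≫ 𝓤.f j := by
      rw [Category.assoc, Category.assoc, ← plx_snd, ← plx_snd, reassoc_of% hcond]
    obtain ⟨gi, hgi⟩ : ∃ m, m = p1 ≫ pullback.snd f (𝓤.f i ≫ t) := ⟨_, rfl⟩
    obtain ⟨gj, hgj⟩ : ∃ m, m = p2 ≫ pullback.snd f (𝓤.f j ≫ t) := ⟨_, rfl⟩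
    rw [← hgi, ← hgj] at c0
    have key := hx i j _ gi gj c0
    rw [hxI i, hxI j, lmap_mkH, lmap_mkH, mkH_eq_iff] at key
    have cu : (p1 ≫ pullback.fst f (𝓤.f i ≫ t)) ≫ f = 𝟙 _ ≫ gi ≫ 𝓤.f i ≫ t := by
      rw [hgi]
      simp only [Category.assoc, Category.id_comp]
      rw [pullback.condition]
    have cv : (p2 ≫ pullback.fst f (𝓤.f j ≫ t)) ≫ f = 𝟙 _ ≫ gj ≫ 𝓤.f j ≫ t := by
      rw [hgj]
      simp only [Category.assoc, Category.id_comp]
      rw [pullback.condition]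
    have eu : pullback.lift (p1 ≫ pullback.fst f (𝓤.f i ≫ t)) (𝟙 _) cu ≫
        plx f gi (𝓤.f i ≫ t) = p1 := by
      apply pullback.hom_ext
      · rw [Category.assoc, plx_fst, pullback.lift_fst]
      · rw [Category.assoc, plx_snd, pullback.lift_snd_assoc, Category.id_comp, hgi]
    have ev : pullback.lift (p2 ≫ pullback.fst f (𝓤.f j ≫ t)) (𝟙 _) cv ≫
        plx f gj (𝓤.f j ≫ t) = p2 := by
      apply pullback.hom_ext
      · rw [Category.assoc, plx_fst, pullback.lift_fst]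
      · rw [Category.assoc, plx_snd, pullback.lift_snd_assoc, Category.id_comp, hgj]
    have h3 := key.2 (pullback.lift (p1 ≫ pullback.fst f (𝓤.f i ≫ t)) (𝟙 _) cu)
      (pullback.lift (p2 ≫ pullback.fst f (𝓤.f j ≫ t)) (𝟙 _) cv)
      (by
        rw [pullback.lift_fst, pullback.lift_fst, ← plx_fst f (𝓤.f i) t, ← plx_fst f (𝓤.f j) t,
          reassoc_of% hcond])
      (by rw [pullback.lift_snd, pullback.lift_snd])
    rw [← Scheme.IdealSheafData.comap_comp, ← Scheme.IdealSheafData.comap_comp, eu, ev] at h3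
    exact h3
  obtain ⟨J, hJ, -⟩ := Groth.Agent.H3.QuotFpqc.existsUnique_idealSheafData
    (fun j => plx f (𝓤.f j) t) hc I hov
  have hJflf : Mor2.IsFinLocFreeOfDeg d (J.subschemeι ≫ pullback.snd f t) := by
    refine flf_of_cover d 𝓤 _ (fun j => ⟨_, rsm f (𝓤.f j) t J, _, rsm_isPullback f (𝓤.f j) t J, ?_⟩)
    have := hJ j
    rw [this]
    exact hI j
  refine ⟨mkH f d t J hJflf, fun j => ?_⟩
  rw [lmap_mkH, hxI j]
  exact mkH_congr f d _ _ _ (hJ j)

theorem isSheaf_lft : Presheaf.IsSheaf Scheme.zariskiTopology (lft (hG f d)) := by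
  rw [isSheaf_iff_isSheaf_of_type]
  rw [Precoverage.isSheaf_toGrothendieck_iff_of_isStableUnderBaseChange]
  rintro Y R hR
  obtain ⟨(𝓤 : Scheme.OpenCover Y), rfl⟩ := Scheme.exists_cover_of_mem_pretopology hR
  rw [Presieve.isSheafFor_arrows_iff]
  intro x hx
  obtain ⟨𝓥, h𝓥⟩ : ∃ 𝓥 : Scheme.OpenCover.{u} Y, 𝓥 = 𝓤.ulift := ⟨_, rfl⟩
  have hxc : ∀ i j (P : Scheme.{u}) (gi : P ⟶ 𝓤.X i) (gj : P ⟶ 𝓤.X j),
      gi ≫ 𝓤.f i = gj ≫ 𝓤.f j → lmap (hG f d) gi (x i) = lmap (hG f d) gj (x j) :=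
    fun i j P gi gj h => hx i j P gi gj h
  obtain ⟨y, hy⟩ := lft_glue f d 𝓤.ulift (fun p => x (𝓤.idx p))
    (fun p p' P gi gj h => hxc _ _ P gi gj h)
  have hy' : ∀ j, lmap (hG f d) (𝓤.f j) y = x j := by
    intro j
    apply lft_sep f d (Precoverage.ZeroHypercover.pullback₁ (𝓤.f j) 𝓤.ulift)
    intro p
    show lmap (hG f d) (pullback.fst (𝓤.f j) (𝓤.ulift.f p)) (lmap (hG f d) (𝓤.f j) y) =
      lmap (hG f d) (pullback.fst (𝓤.f j) (𝓤.ulift.f p)) (x j)
    rw [← lmap_comp, pullback.condition, lmap_comp, hy p]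
    exact (hxc _ _ _ (pullback.fst (𝓤.f j) (𝓤.ulift.f p)) (pullback.snd _ _)
      pullback.condition).symm
  refine ⟨y, hy', fun y' hy'' => ?_⟩
  apply lft_sep f d 𝓤.ulift
  intro p
  exact (hy'' _).trans (hy' _).symm

end L

end Groth.Agent.H4.HbC
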