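import Mathlib
import Groth.Agent.H4.HbB
import Groth.Agent.H4.HbC

/-! helper4: the pieces of the Hilbert functor of points: families contained in a fixed affine
open on which a fixed family of functions spans. Base change, descent and locality. -/

set_option autoImplicit false

universe u

open CategoryTheory CategoryTheory.Limits AlgebraicGeometry Opposite

noncomputable section

namespace Groth.Agent.H4.HbD

open Groth.Agent.H4.HomG Groth.Agent.H4.HbA Groth.Agent.H4.HbB Groth.Agent.H4.HbC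

/-- the prime ideal of global sections attached to a point -/
def prm (T : Scheme.{u}) (p : T) : Ideal Γ(T, ⊤) :=
  PrimeSpectrum.asIdeal (T.toSpecΓ p)

instance (T : Scheme.{u}) (p : T) : (prm T p).IsPrime :=
  PrimeSpectrum.isPrime (T.toSpecΓ p)

lemma mem_basicOpen_iff (T : Scheme.{u}) (r : Γ(T, ⊤)) (p : T) :
    p ∈ T.basicOpen r ↔ r ∉ prm T p := by
  rw [← Scheme.toSpecΓ_preimage_basicOpen]
  exact PrimeSpectrum.mem_basicOpen _ _

lemma prm_map {T T' : Scheme.{u}} (a : T' ⟶ T) (p' : T') :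
    prm T (a p') = Ideal.comap a.appTop.hom (prm T' p') := by
  have h := congrArg (fun m => m p') (Scheme.toSpecΓ_naturality a)
  simp only [Scheme.Hom.comp_apply] at h
  unfold prm
  rw [h]
  rfl

lemma exists_prm_eq (T : Scheme.{u}) [IsAffine T] (m : Ideal Γ(T, ⊤)) [m.IsPrime] :
    ∃ p : T, prm T p = m := by
  refine ⟨T.isoSpec.inv (⟨m, inferInstance⟩ : PrimeSpectrum Γ(T, ⊤)), ?_⟩
  unfold prm
  have h := congrArg (fun k => k (⟨m, inferInstance⟩ : PrimeSpectrum Γ(T, ⊤)))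
    (Scheme.isoSpec_inv_toSpecΓ T)
  simp only [Scheme.Hom.comp_apply] at h
  rw [h]
  rfl

lemma isUnit_appTop_of_range {T T₂ : Scheme.{u}} (b : T₂ ⟶ T) (r : Γ(T, ⊤))
    (hb : ∀ x, b x ∈ T.basicOpen r) : IsUnit (b.appTop.hom r) := by
  refine T₂.toLocallyRingedSpace.toRingedSpace.isUnit_of_isUnit_germ ⊤ (b.appTop.hom r)
    (fun x hx => ?_)
  refine (T₂.mem_basicOpen_top _ x).mp ?_
  rw [← Scheme.preimage_basicOpen_top]
  exact hb x

variable {X S : Scheme.{u}} (f : X ⟶ S) (d : ℕ) (V₀ : S.Opens) (U₀ : X.Opens)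
  (w : Fin d → Γ(U₀.toScheme, ⊤))

section Triple

variable {T : Scheme.{u}} (t : T ⟶ S) (I : (pullback f t).IdealSheafData)

/-- the locus where the family lies over `V₀` and inside `U₀` -/
def Tpre : Set T :=
  {p | t p ∈ V₀ ∧ ∀ z : I.subscheme, (I.subschemeι ≫ pullback.snd f t) z = p →
    (I.subschemeι ≫ pullback.fst f t) z ∈ U₀}

lemma isOpen_Tpre (h : Mor2.IsFinLocFreeOfDeg d (I.subschemeι ≫ pullback.snd f t)) :
    IsOpen (Tpre f V₀ U₀ t I) := by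
  haveI : IsFinite (I.subschemeι ≫ pullback.snd f t) := h.1.1
  have h1 : Tpre f V₀ U₀ t I = (t ⁻¹ᵁ V₀ : Set T) ∩
      ((I.subschemeι ≫ pullback.snd f t) ''
        ((((I.subschemeι ≫ pullback.fst f t) ⁻¹ᵁ U₀ : I.subscheme.Opens) : Set I.subscheme)ᶜ))ᶜ := by
    ext p
    constructor
    · rintro ⟨hp1, hp2⟩
      refine ⟨hp1, ?_⟩
      rintro ⟨z, hz1, hz2⟩
      exact hz1 (hp2 z hz2)
    · rintro ⟨hp1, hp2⟩
      refine ⟨hp1, fun z hz => ?_⟩
      by_contra hcon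
      exact hp2 ⟨z, hcon, hz⟩
  rw [h1]
  refine IsOpen.inter (t ⁻¹ᵁ V₀).isOpen (IsClosed.isOpen_compl (self := ?_))
  exact (I.subschemeι ≫ pullback.snd f t).isClosedMap _
    ((I.subschemeι ≫ pullback.fst f t) ⁻¹ᵁ U₀).isOpen.isClosed_compl

/-- factorisation through the affine opens -/
def FacT : Prop :=
  ∃ (t₀ : T ⟶ V₀.toScheme) (j : I.subscheme ⟶ U₀.toScheme),
    t₀ ≫ V₀.ι = t ∧ j ≫ U₀.ι = I.subschemeι ≫ pullback.fst f t

lemma fac_of_all (h : ∀ p, p ∈ Tpre f V₀ U₀ t I) : FacT f V₀ U₀ t I := by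
  have r1 : Set.range t ⊆ Set.range V₀.ι := by
    rintro _ ⟨x, rfl⟩
    rw [Scheme.Opens.range_ι]
    exact (h x).1
  have r2 : Set.range (I.subschemeι ≫ pullback.fst f t) ⊆ Set.range U₀.ι := by
    rintro _ ⟨z, rfl⟩
    rw [Scheme.Opens.range_ι]
    exact (h _).2 z rfl
  exact ⟨IsOpenImmersion.lift V₀.ι t r1, IsOpenImmersion.lift U₀.ι _ r2,
    IsOpenImmersion.lift_fac _ _ _, IsOpenImmersion.lift_fac _ _ _⟩

lemma rsm_fst {T₂ : Scheme.{u}} (b : T₂ ⟶ T) :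
    rsm f b t I ≫ I.subschemeι ≫ pullback.fst f t =
      (I.comap (plx f b t)).subschemeι ≫ pullback.fst f (b ≫ t) := by
  rw [rsm_ι_assoc, plx_fst]

lemma rsm_snd {T₂ : Scheme.{u}} (b : T₂ ⟶ T) :
    rsm f b t I ≫ I.subschemeι ≫ pullback.snd f t =
      ((I.comap (plx f b t)).subschemeι ≫ pullback.snd f (b ≫ t)) ≫ b :=
  (rsm_isPullback f b t I).w

lemma fac_of_sub {T₂ : Scheme.{u}} (b : T₂ ⟶ T) (h : ∀ x, b x ∈ Tpre f V₀ U₀ t I) :
    FacT f V₀ U₀ (b ≫ t) (I.comap (plx f b t)) := by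
  apply fac_of_all
  intro x
  refine ⟨(h x).1, fun z hz => ?_⟩
  have e1 : ((I.comap (plx f b t)).subschemeι ≫ pullback.fst f (b ≫ t)) z =
      (I.subschemeι ≫ pullback.fst f t) (rsm f b t I z) := by
    rw [← rsm_fst]
    rfl
  have e2 : (I.subschemeι ≫ pullback.snd f t) (rsm f b t I z) = b x := by
    rw [← hz]
    exact congrArg (fun m => m z) (rsm_snd f t I b)
  rw [e1]
  exact (h x).2 _ e2

lemma sub_of_fac {T₂ : Scheme.{u}} (b : T₂ ⟶ T)
    (h : FacT f V₀ U₀ (b ≫ t) (I.comap (plx f b t))) (x : T₂) : b x ∈ Tpre f V₀ U₀ t I := by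
  obtain ⟨t₀, j, h1, h2⟩ := h
  refine ⟨?_, fun z hz => ?_⟩
  · have h3 := congrArg (fun m : T₂ ⟶ S => m x) h1
    simp only [Scheme.Hom.comp_apply] at h3
    rw [← h3]
    exact (t₀ x).2
  · obtain ⟨z₂, hz₂, -⟩ := Scheme.exists_preimage_of_isPullback (rsm_isPullback f b t I) z x hz
    have h3 := congrArg (fun m => m z₂) (h2.trans (rsm_fst f t I b).symm)
    simp only [Scheme.Hom.comp_apply] at h3 ⊢
    rw [← hz₂, ← h3]
    exact (j z₂).2

/-- goodness: factorisation and spanning -/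
def GoodT : Prop :=
  ∃ (t₀ : T ⟶ V₀.toScheme) (j : I.subscheme ⟶ U₀.toScheme),
    t₀ ≫ V₀.ι = t ∧ j ≫ U₀.ι = I.subschemeι ≫ pullback.fst f t ∧
    Function.Surjective (comb (I.subschemeι ≫ pullback.snd f t).appTop.hom
      (fun k => j.appTop.hom (w k)))

variable {f V₀ U₀ t I}

lemma GoodT.fac {w : Fin d → Γ(U₀.toScheme, ⊤)} (h : GoodT f d V₀ U₀ w t I) : FacT f V₀ U₀ t I := by
  obtain ⟨t₀, j, h1, h2, -⟩ := h
  exact ⟨t₀, j, h1, h2⟩

variable (f V₀ U₀ t I)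

/-- base change of a spanning family along a map inverting the multiplier -/
lemma good_of_unit [IsAffine T] {T₂ : Scheme.{u}} [IsAffine T₂]
    (h : Mor2.IsFinLocFreeOfDeg d (I.subschemeι ≫ pullback.snd f t))
    (t₀ : T ⟶ V₀.toScheme) (j : I.subscheme ⟶ U₀.toScheme) (h1 : t₀ ≫ V₀.ι = t)
    (h2 : j ≫ U₀.ι = I.subschemeι ≫ pullback.fst f t) (r : Γ(T, ⊤))
    (hr : ∀ c, ∃ a : Fin d → Γ(T, ⊤), (I.subschemeι ≫ pullback.snd f t).appTop.hom r * c =
      comb (I.subschemeι ≫ pullback.snd f t).appTop.hom (fun k => j.appTop.hom (w k)) a)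
    (b : T₂ ⟶ T) (hu : IsUnit (b.appTop.hom r)) :
    GoodT f d V₀ U₀ w (b ≫ t) (I.comap (plx f b t)) := by
  haveI : IsFinite (I.subschemeι ≫ pullback.snd f t) := h.1.1
  haveI : IsAffine I.subscheme := isAffine_of_isAffineHom (I.subschemeι ≫ pullback.snd f t)
  refine ⟨b ≫ t₀, rsm f b t I ≫ j, by rw [Category.assoc, h1], ?_, ?_⟩
  · rw [Category.assoc, h2, rsm_fst]
  · have hpo := isPushout_appTop_of_isPullback (rsm_isPullback f b t I)
    have e : (fun k => (rsm f b t I ≫ j).appTop.hom (w k)) =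
        fun k => (rsm f b t I).appTop.hom (j.appTop.hom (w k)) := by
      funext k
      rw [Scheme.Hom.comp_appTop]
      rfl
    rw [e]
    exact nb hpo (fun k => j.appTop.hom (w k)) r hu hr

/-- descent of spanning at a point in the image -/
lemma desc_at [IsAffine T] {T' : Scheme.{u}} [IsAffine T']
    (h : Mor2.IsFinLocFreeOfDeg d (I.subschemeι ≫ pullback.snd f t))
    (j : I.subscheme ⟶ U₀.toScheme)
    (h2 : j ≫ U₀.ι = I.subschemeι ≫ pullback.fst f t) (a : T' ⟶ T) (p' : T')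
    (hG : GoodT f d V₀ U₀ w (a ≫ t) (I.comap (plx f a t))) :
    ∃ r : Γ(T, ⊤), a p' ∈ T.basicOpen r ∧
      ∀ c, ∃ x : Fin d → Γ(T, ⊤), (I.subschemeι ≫ pullback.snd f t).appTop.hom r * c =
        comb (I.subschemeι ≫ pullback.snd f t).appTop.hom (fun k => j.appTop.hom (w k)) x := by
  haveI : IsFinite (I.subschemeι ≫ pullback.snd f t) := h.1.1
  haveI : IsAffine I.subscheme := isAffine_of_isAffineHom (I.subschemeι ≫ pullback.snd f t)
  obtain ⟨t₀', j', g1, g2, g3⟩ := hG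
  have hj : j' = rsm f a t I ≫ j := by
    rw [← cancel_mono U₀.ι, g2, Category.assoc, h2, rsm_fst]
  have e : (fun k => j'.appTop.hom (w k)) =
      fun k => (rsm f a t I).appTop.hom (j.appTop.hom (w k)) := by
    funext k
    rw [hj, Scheme.Hom.comp_appTop]
    rfl
  rw [e] at g3
  have hpo := isPushout_appTop_of_isPullback (rsm_isPullback f a t I)
  obtain ⟨r, hr1, hr2⟩ := nd hpo (I.subschemeι ≫ pullback.snd f t).finite_appTop
    (fun k => j.appTop.hom (w k)) g3 (prm T' p')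
  refine ⟨r, ?_, hr2⟩
  rw [mem_basicOpen_iff, prm_map]
  exact hr1

/-- goodness is local on an affine base -/
lemma goodT_local [IsAffine T] (h : Mor2.IsFinLocFreeOfDeg d (I.subschemeι ≫ pullback.snd f t))
    (hloc : ∀ p : T, ∃ (T' : Scheme.{u}) (_ : IsAffine T') (a : T' ⟶ T) (p' : T'), a p' = p ∧
      GoodT f d V₀ U₀ w (a ≫ t) (I.comap (plx f a t))) :
    GoodT f d V₀ U₀ w t I := by
  have hpre : ∀ p, p ∈ Tpre f V₀ U₀ t I := by
    intro p
    obtain ⟨T', _, a, p', rfl, hG⟩ := hloc p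
    exact sub_of_fac f V₀ U₀ t I a hG.fac p'
  obtain ⟨t₀, j, h1, h2⟩ := fac_of_all f V₀ U₀ t I hpre
  refine ⟨t₀, j, h1, h2, span_of_local _ _ (fun m hm => ?_)⟩
  haveI : m.IsPrime := hm.isPrime
  obtain ⟨p, hp⟩ := exists_prm_eq T m
  obtain ⟨T', _, a, p', hap, hG⟩ := hloc p
  obtain ⟨r, hr1, hr2⟩ := desc_at f d V₀ U₀ w t I h j h2 a p' hG
  refine ⟨r, ?_, hr2⟩
  rw [hap, mem_basicOpen_iff, hp] at hr1
  exact hr1

end Triple

section LO

/-- goodness of a section of the lifted Hilbert functor -/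
def Good {T : Scheme.{u}} (y : LObj (hG f d) T) : Prop :=
  GoodT f d V₀ U₀ w y.1 y.2.1

lemma good_mkH {T : Scheme.{u}} (t : T ⟶ S) (I : (pullback f t).IdealSheafData)
    (h : Mor2.IsFinLocFreeOfDeg d (I.subschemeι ≫ pullback.snd f t)) :
    Good f d V₀ U₀ w (mkH f d t I h) ↔ GoodT f d V₀ U₀ w t I := Iff.rfl

/-- base change of good families between affine schemes -/
lemma good_lmap {T T' : Scheme.{u}} [IsAffine T] [IsAffine T'] (b : T' ⟶ T)
    (y : LObj (hG f d) T) (hy : Good f d V₀ U₀ w y) : Good f d V₀ U₀ w (lmap (hG f d) b y) := by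
  obtain ⟨t, I, h, rfl⟩ := exists_mkH f d y
  rw [lmap_mkH, good_mkH]
  rw [good_mkH] at hy
  obtain ⟨t₀, j, h1, h2, h3⟩ := hy
  refine good_of_unit f d V₀ U₀ w t I h t₀ j h1 h2 1 (fun c => ?_) b (by rw [map_one]; exact isUnit_one)
  obtain ⟨x, hx⟩ := h3 c
  exact ⟨x, by rw [map_one, one_mul, hx]⟩

lemma good_local {T : Scheme.{u}} [IsAffine T] (y : LObj (hG f d) T)
    (hloc : ∀ p : T, ∃ (T' : Scheme.{u}) (_ : IsAffine T') (a : T' ⟶ T) (p' : T'), a p' = p ∧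
      Good f d V₀ U₀ w (lmap (hG f d) a y)) : Good f d V₀ U₀ w y := by
  obtain ⟨t, I, h, rfl⟩ := exists_mkH f d y
  rw [good_mkH]
  exact goodT_local f d V₀ U₀ w t I h hloc

/-- a good family at a point of the image is good in a neighbourhood -/
lemma good_nbhd {T : Scheme.{u}} (y : LObj (hG f d) T) {T' : Scheme.{u}} [IsAffine T']
    (a : T' ⟶ T) (p' : T') (hG' : Good f d V₀ U₀ w (lmap (hG f d) a y)) :
    ∃ (T₂ : Scheme.{u}) (_ : IsAffine T₂) (c : T₂ ⟶ T) (_ : IsOpenImmersion c),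
      a p' ∈ Set.range c ∧ Good f d V₀ U₀ w (lmap (hG f d) c y) := by
  obtain ⟨t, I, h, rfl⟩ := exists_mkH f d y
  have hpre : a p' ∈ Tpre f V₀ U₀ t I := by
    have := hG'
    rw [lmap_mkH, good_mkH] at this
    exact sub_of_fac f V₀ U₀ t I a this.fac p'
  obtain ⟨R₁, c₁, hc₁, hp1, hsub1⟩ := Scheme.exists_affine_mem_range_and_range_subset
    (x := a p') (U := ⟨Tpre f V₀ U₀ t I, isOpen_Tpre f d V₀ U₀ t I h⟩) hpre
  haveI := hc₁
  obtain ⟨R', c', hc', hp', hsub'⟩ := Scheme.exists_affine_mem_range_and_range_subset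
    (x := p') (U := a ⁻¹ᵁ c₁.opensRange) hp1
  haveI := hc'
  have hrange : Set.range (c' ≫ a) ⊆ Set.range c₁ := by
    rintro _ ⟨x, rfl⟩
    exact hsub' ⟨x, rfl⟩
  obtain ⟨b, hb⟩ : ∃ b : Spec R' ⟶ Spec R₁, b ≫ c₁ = c' ≫ a :=
    ⟨IsOpenImmersion.lift c₁ (c' ≫ a) hrange, IsOpenImmersion.lift_fac _ _ _⟩
  obtain ⟨p'', hp''⟩ := hp'
  -- the restricted family
  have hfac := fac_of_sub f V₀ U₀ t I c₁ (fun x => hsub1 ⟨x, rfl⟩)
  obtain ⟨t₀₁, j₁, k1, k2⟩ := hfac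
  have hG1 : Good f d V₀ U₀ w (lmap (hG f d) b (lmap (hG f d) c₁ (mkH f d t I h))) := by
    rw [← lmap_comp, hb, lmap_comp]
    exact good_lmap f d V₀ U₀ w c' _ hG'
  rw [lmap_mkH, lmap_mkH, good_mkH] at hG1
  obtain ⟨r, hr1, hr2⟩ := desc_at f d V₀ U₀ w (c₁ ≫ t) (I.comap (plx f c₁ t))
    (flf_res f d c₁ t I h) j₁ k2 b p'' hG1
  obtain ⟨R₂, c₂, hc₂, hp2, hsub2⟩ := Scheme.exists_affine_mem_range_and_range_subset
    (x := b p'') (U := (Spec R₁).basicOpen r) hr1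
  haveI := hc₂
  have hG2 := good_of_unit f d V₀ U₀ w (c₁ ≫ t) (I.comap (plx f c₁ t))
    (flf_res f d c₁ t I h) t₀₁ j₁ k1 k2 r hr2 c₂
    (isUnit_appTop_of_range c₂ r (fun x => hsub2 ⟨x, rfl⟩))
  refine ⟨Spec R₂, inferInstance, c₂ ≫ c₁, inferInstance, ?_, ?_⟩
  · obtain ⟨x₂, hx₂⟩ := hp2
    refine ⟨x₂, ?_⟩
    rw [Scheme.Hom.comp_apply, hx₂, ← Scheme.Hom.comp_apply, hb, Scheme.Hom.comp_apply, hp'']
  · rw [lmap_comp, lmap_mkH, lmap_mkH, good_mkH]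
    exact hG2

/-- membership in the piece: goodness after every base change to an affine scheme -/
def Pc {T : Scheme.{u}} (y : LObj (hG f d) T) : Prop :=
  ∀ (T' : Scheme.{u}) [IsAffine T'] (a : T' ⟶ T), Good f d V₀ U₀ w (lmap (hG f d) a y)

lemma pc_lmap {T T' : Scheme.{u}} (a : T' ⟶ T) (y : LObj (hG f d) T) (hy : Pc f d V₀ U₀ w y) :
    Pc f d V₀ U₀ w (lmap (hG f d) a y) := by
  intro T'' _ c
  rw [← lmap_comp]
  exact hy T'' (c ≫ a)

lemma good_of_pc {T : Scheme.{u}} [IsAffine T] (y : LObj (hG f d) T) (hy : Pc f d V₀ U₀ w y) :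
    Good f d V₀ U₀ w y := by
  have := hy T (𝟙 T)
  rwa [lmap_id] at this

lemma pc_of_good {T : Scheme.{u}} [IsAffine T] (y : LObj (hG f d) T)
    (hy : Good f d V₀ U₀ w y) : Pc f d V₀ U₀ w y :=
  fun _ _ a => good_lmap f d V₀ U₀ w a y hy

/-- the open locus of the piece -/
def T0set {T : Scheme.{u}} (y : LObj (hG f d) T) : Set T :=
  {p | ∃ (T₂ : Scheme.{u}) (_ : IsAffine T₂) (c : T₂ ⟶ T) (_ : IsOpenImmersion c),
    p ∈ Set.range c ∧ Good f d V₀ U₀ w (lmap (hG f d) c y)}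

lemma isOpen_T0set {T : Scheme.{u}} (y : LObj (hG f d) T) : IsOpen (T0set f d V₀ U₀ w y) := by
  rw [isOpen_iff_forall_mem_open]
  rintro p ⟨T₂, hT₂, c, hc, hp, hG'⟩
  exact ⟨Set.range c, fun q hq => ⟨T₂, hT₂, c, hc, hq, hG'⟩, c.isOpenEmbedding.isOpen_range, hp⟩

/-- the open locus of the piece -/
def T0 {T : Scheme.{u}} (y : LObj (hG f d) T) : T.Opens :=
  ⟨T0set f d V₀ U₀ w y, isOpen_T0set f d V₀ U₀ w y⟩

lemma mem_T0_of_pc {T T' : Scheme.{u}} (a : T' ⟶ T) (y : LObj (hG f d) T)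
    (hpc : Pc f d V₀ U₀ w (lmap (hG f d) a y)) (p' : T') : a p' ∈ T0 f d V₀ U₀ w y := by
  obtain ⟨R', c', hc', ⟨p'', hp''⟩, -⟩ := Scheme.exists_affine_mem_range_and_range_subset
    (x := p') (U := (⊤ : T'.Opens)) trivial
  have hG' : Good f d V₀ U₀ w (lmap (hG f d) (c' ≫ a) y) := by
    rw [lmap_comp]
    exact hpc (Spec R') c'
  obtain ⟨T₂, hT₂, c, hc, hp, hG₂⟩ := good_nbhd f d V₀ U₀ w y (c' ≫ a) p'' hG'
  refine ⟨T₂, hT₂, c, hc, ?_, hG₂⟩
  rw [Scheme.Hom.comp_apply, hp''] at hp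
  exact hp

lemma pc_T0 {T : Scheme.{u}} (y : LObj (hG f d) T) :
    Pc f d V₀ U₀ w (lmap (hG f d) (T0 f d V₀ U₀ w y).ι y) := by
  intro T' _ a
  rw [← lmap_comp]
  apply good_local
  intro p'
  have hmem : (a ≫ (T0 f d V₀ U₀ w y).ι) p' ∈ T0 f d V₀ U₀ w y := by
    rw [Scheme.Hom.comp_apply]
    exact (a p').2
  obtain ⟨T₂, hT₂, c, hc, hp, hG₂⟩ := hmem
  haveI := hT₂
  haveI := hc
  obtain ⟨R'', c'', hc'', ⟨p'', hp''⟩, hsub''⟩ := Scheme.exists_affine_mem_range_and_range_subset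
    (x := p') (U := (a ≫ (T0 f d V₀ U₀ w y).ι) ⁻¹ᵁ c.opensRange) hp
  have hrange : Set.range (c'' ≫ a ≫ (T0 f d V₀ U₀ w y).ι) ⊆ Set.range c := by
    rintro _ ⟨x, rfl⟩
    exact hsub'' ⟨x, rfl⟩
  obtain ⟨b, hb⟩ : ∃ b : Spec R'' ⟶ T₂, b ≫ c = c'' ≫ a ≫ (T0 f d V₀ U₀ w y).ι :=
    ⟨IsOpenImmersion.lift c _ hrange, IsOpenImmersion.lift_fac _ _ _⟩
  refine ⟨Spec R'', inferInstance, c'', p'', hp'', ?_⟩
  rw [← lmap_comp, ← hb, lmap_comp]
  exact good_lmap f d V₀ U₀ w b _ hG₂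

end LO

end Groth.Agent.H4.HbD
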