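import Mathlib

/-! helper4: the universal algebra representing `C ↦ Hom_A(B, C ⊗[A] E)` for `E` finite free. -/

set_option autoImplicit false

universe u

open TensorProduct MvPolynomial

noncomputable section

namespace Groth.Agent.H4.HomA

variable {A : Type u} [CommRing A] {E : Type u} [CommRing E] [Algebra A E]
  {ι : Type u} [Fintype ι] [DecidableEq ι] (b : Module.Basis ι A E)

section Coord

variable (C : Type u) [CommRing C] [Algebra A C]

/-- the point of `C ⊗ E` with given coordinates -/
def pt {I : Type u} (y : I × ι → C) (i : I) : C ⊗[A] E := ∑ j, y (i, j) ⊗ₜ[A] b j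

/-- the coordinates of an element of `C ⊗ E` -/
def coord (d : C ⊗[A] E) (j : ι) : C := (Algebra.TensorProduct.basis C b).repr d j

variable {C}

lemma coord_tmul (c : C) (m : E) (j : ι) :
    coord b C (c ⊗ₜ[A] m) j = c * algebraMap A C (b.repr m j) := by
  unfold coord
  rw [Algebra.TensorProduct.basis_repr_tmul]
  simp

lemma coord_add (d d' : C ⊗[A] E) (j : ι) : coord b C (d + d') j = coord b C d j + coord b C d' j := by
  unfold coord
  rw [map_add, Finsupp.add_apply]

lemma coord_zero (j : ι) : coord b C (0 : C ⊗[A] E) j = 0 := by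
  unfold coord
  rw [map_zero, Finsupp.zero_apply]

lemma coord_sum {κ : Type u} (s : Finset κ) (d : κ → C ⊗[A] E) (j : ι) :
    coord b C (∑ k ∈ s, d k) j = ∑ k ∈ s, coord b C (d k) j := by
  classical
  induction s using Finset.induction_on with
  | empty => simp [coord_zero]
  | insert a s ha ih => rw [Finset.sum_insert ha, Finset.sum_insert ha, coord_add, ih]

lemma eq_zero_of_coord (d : C ⊗[A] E) (h : ∀ j, coord b C d j = 0) : d = 0 := by
  apply (Algebra.TensorProduct.basis C b).repr.injective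
  rw [map_zero]
  ext j
  exact h j

lemma coord_pt {I : Type u} (y : I × ι → C) (i : I) (j : ι) : coord b C (pt b C y i) j = y (i, j) := by
  unfold pt
  rw [coord_sum]
  simp only [coord_tmul, Module.Basis.repr_self]
  rw [Finset.sum_eq_single j]
  · simp
  · intro k _ hk
    rw [Finsupp.single_eq_of_ne hk.symm, map_zero, mul_zero]
  · intro h
    exact absurd (Finset.mem_univ j) h

lemma pt_coord {I : Type u} (x : I → C ⊗[A] E) (i : I) :
    pt b C (fun p => coord b C (x p.1) p.2) i = x i := by
  rw [← sub_eq_zero]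
  apply eq_zero_of_coord b
  intro j
  have : coord b C (pt b C (fun p => coord b C (x p.1) p.2) i - x i) j =
      coord b C (pt b C (fun p => coord b C (x p.1) p.2) i) j - coord b C (x i) j := by
    unfold coord
    rw [map_sub, Finsupp.sub_apply]
  rw [this, coord_pt, sub_self]

variable {C' : Type u} [CommRing C'] [Algebra A C']

lemma map_pt {I : Type u} (ψ : C →ₐ[A] C') (y : I × ι → C) (i : I) :
    Algebra.TensorProduct.map ψ (AlgHom.id A E) (pt b C y i) = pt b C' (fun p => ψ (y p)) i := by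
  unfold pt
  rw [map_sum]
  refine Finset.sum_congr rfl fun j _ => ?_
  rw [Algebra.TensorProduct.map_tmul, AlgHom.id_apply]

lemma coord_map (ψ : C →ₐ[A] C') (d : C ⊗[A] E) (j : ι) :
    coord b C' (Algebra.TensorProduct.map ψ (AlgHom.id A E) d) j = ψ (coord b C d j) := by
  induction d using TensorProduct.induction_on with
  | zero => rw [map_zero, coord_zero, coord_zero, map_zero]
  | tmul c m =>
    rw [Algebra.TensorProduct.map_tmul, AlgHom.id_apply, coord_tmul, coord_tmul, map_mul,
      AlgHom.commutes]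
  | add d d' hd hd' => rw [map_add, coord_add, coord_add, hd, hd', map_add]

end Coord

section Univ

variable {I : Type u} (s : Set (MvPolynomial I A))

/-- the polynomial ring on the coordinates -/
abbrev PP (A : Type u) [CommRing A] (ι I : Type u) : Type u := MvPolynomial (I × ι) A

/-- the universal point -/
def x₀ (i : I) : PP A ι I ⊗[A] E := pt b (PP A ι I) (fun p => X p) i

/-- the ideal of relations -/
def relIdeal : Ideal (PP A ι I) :=
  Ideal.span {p | ∃ f ∈ s, ∃ j, p = coord b (PP A ι I) (aeval (x₀ b) f) j}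

/-- the universal algebra -/
abbrev UU : Type u := PP A ι I ⧸ relIdeal b s

/-- the quotient map -/
abbrev qq : PP A ι I →ₐ[A] UU b s := Ideal.Quotient.mkₐ A (relIdeal b s)

/-- the universal point over `UU` -/
def xU (i : I) : UU b s ⊗[A] E := Algebra.TensorProduct.map (qq b s) (AlgHom.id A E) (x₀ b i)

lemma xU_eq (i : I) : xU b s i = pt b (UU b s) (fun p => qq b s (X p)) i := by
  unfold xU x₀
  rw [map_pt]

lemma aeval_xU (f : MvPolynomial I A) :
    aeval (xU b s) f = Algebra.TensorProduct.map (qq b s) (AlgHom.id A E) (aeval (x₀ b) f) := by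
  have h := comp_aeval (R := A) (B := UU b s ⊗[A] E) (f := x₀ b)
    (Algebra.TensorProduct.map (qq b s) (AlgHom.id A E))
  exact (AlgHom.congr_fun h f).symm

lemma aeval_xU_eq_zero {f : MvPolynomial I A} (hf : f ∈ s) : aeval (xU b s) f = 0 := by
  apply eq_zero_of_coord b
  intro j
  rw [aeval_xU, coord_map]
  exact Ideal.Quotient.eq_zero_iff_mem.mpr (Ideal.subset_span ⟨f, hf, j, rfl⟩)

variable {C : Type u} [CommRing C] [Algebra A C]

lemma exists_of_point (x : I → C ⊗[A] E) (hx : ∀ f ∈ s, aeval x f = 0) :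
    ∃ ψ : UU b s →ₐ[A] C, ∀ i, Algebra.TensorProduct.map ψ (AlgHom.id A E) (xU b s i) = x i := by
  let ψ₀ : PP A ι I →ₐ[A] C := aeval (fun p => coord b C (x p.1) p.2)
  have h0 : ∀ i, Algebra.TensorProduct.map ψ₀ (AlgHom.id A E) (x₀ b i) = x i := by
    intro i
    unfold x₀
    rw [map_pt]
    have : (fun p : I × ι => ψ₀ (X p)) = fun p => coord b C (x p.1) p.2 := by
      funext p
      exact aeval_X _ _
    rw [this, pt_coord]
  have h1 : ∀ f : MvPolynomial I A,
      Algebra.TensorProduct.map ψ₀ (AlgHom.id A E) (aeval (x₀ b) f) = aeval x f := by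
    intro f
    have h := comp_aeval (R := A) (B := C ⊗[A] E) (f := x₀ b)
      (Algebra.TensorProduct.map ψ₀ (AlgHom.id A E))
    have h' := AlgHom.congr_fun h f
    rw [AlgHom.comp_apply] at h'
    rw [h', show (fun i => Algebra.TensorProduct.map ψ₀ (AlgHom.id A E) (x₀ b i)) = x from
      funext h0]
  have hk : ∀ p ∈ relIdeal b s, ψ₀ p = 0 := by
    intro p hp
    have : relIdeal b s ≤ RingHom.ker ψ₀.toRingHom := by
      unfold relIdeal
      rw [Ideal.span_le]
      rintro _ ⟨f, hf, j, rfl⟩
      rw [SetLike.mem_coe, RingHom.mem_ker]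
      change ψ₀ _ = 0
      rw [← coord_map, h1, hx f hf, coord_zero]
    exact RingHom.mem_ker.mp (this hp)
  refine ⟨Ideal.Quotient.liftₐ (relIdeal b s) ψ₀ hk, fun i => ?_⟩
  unfold xU
  rw [← AlgHom.comp_apply, ← Algebra.TensorProduct.map_comp]
  have : (Ideal.Quotient.liftₐ (relIdeal b s) ψ₀ hk).comp (qq b s) = ψ₀ := by
    ext p
    simp
  rw [this, AlgHom.comp_id]
  exact h0 i

lemma unique_of_point (ψ ψ' : UU b s →ₐ[A] C)
    (h : ∀ i, Algebra.TensorProduct.map ψ (AlgHom.id A E) (xU b s i) =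
      Algebra.TensorProduct.map ψ' (AlgHom.id A E) (xU b s i)) : ψ = ψ' := by
  have key : ∀ p : I × ι, ψ (qq b s (X p)) = ψ' (qq b s (X p)) := by
    rintro ⟨i, j⟩
    have h1 : coord b C (Algebra.TensorProduct.map ψ (AlgHom.id A E) (xU b s i)) j =
        coord b C (Algebra.TensorProduct.map ψ' (AlgHom.id A E) (xU b s i)) j := by rw [h i]
    rw [xU_eq, map_pt, map_pt, coord_pt, coord_pt] at h1
    exact h1
  have h2 : ψ.comp (qq b s) = ψ'.comp (qq b s) := by
    apply MvPolynomial.algHom_ext
    intro p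
    exact key p
  apply AlgHom.ext
  intro y
  obtain ⟨p, rfl⟩ := Ideal.Quotient.mk_surjective y
  exact AlgHom.congr_fun h2 p

end Univ

section Main

variable {B : Type u} [CommRing B] [Algebra A B]

/-- the universal property in presentation form -/
theorem univ_of_presentation {I : Type u} (π : MvPolynomial I A →ₐ[A] B)
    (hπ : Function.Surjective π) (s : Set (MvPolynomial I A))
    (hs : RingHom.ker π.toRingHom = Ideal.span s) :
    ∃ Φ : B →ₐ[A] UU b s ⊗[A] E,
      ∀ (C : Type u) [CommRing C] [Algebra A C] (β : B →ₐ[A] C ⊗[A] E),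
        ∃! ψ : UU b s →ₐ[A] C, (Algebra.TensorProduct.map ψ (AlgHom.id A E)).comp Φ = β := by
  have hker : RingHom.ker π.toRingHom ≤ RingHom.ker (aeval (xU b s)).toRingHom := by
    rw [hs, Ideal.span_le]
    intro f hf
    rw [SetLike.mem_coe, RingHom.mem_ker]
    exact aeval_xU_eq_zero b s hf
  obtain ⟨Φ, hΦ⟩ : ∃ Φ : B →ₐ[A] UU b s ⊗[A] E, ∀ i, Φ (π (X i)) = xU b s i := by
    refine ⟨AlgHom.liftOfSurjective π hπ (aeval (xU b s)) hker, fun i => ?_⟩
    rw [AlgHom.liftOfSurjective_apply, aeval_X]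
  refine ⟨Φ, ?_⟩
  intro C _ _ β
  have hx : ∀ f ∈ s, aeval (fun i => β (π (X i))) f = 0 := by
    intro f hf
    have h1 : aeval (fun i => β (π (X i))) = β.comp π := by
      apply MvPolynomial.algHom_ext
      intro i
      rw [aeval_X, AlgHom.comp_apply]
    rw [h1, AlgHom.comp_apply]
    have : π f = 0 := by
      have : f ∈ RingHom.ker π.toRingHom := by
        rw [hs]
        exact Ideal.subset_span hf
      exact RingHom.mem_ker.mp this
    rw [this, map_zero]
  obtain ⟨ψ, hψ⟩ := exists_of_point b s (fun i => β (π (X i))) hx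
  refine ⟨ψ, ?_, ?_⟩
  · apply AlgHom.ext
    intro y
    obtain ⟨p, rfl⟩ := hπ y
    have h2 : ((Algebra.TensorProduct.map ψ (AlgHom.id A E)).comp Φ).comp π = β.comp π := by
      apply MvPolynomial.algHom_ext
      intro i
      rw [AlgHom.comp_apply, AlgHom.comp_apply, hΦ, hψ, AlgHom.comp_apply]
    exact AlgHom.congr_fun h2 p
  · intro ψ' hψ'
    apply unique_of_point b s
    intro i
    rw [hψ]
    have h3 := AlgHom.congr_fun hψ' (π (X i))
    rw [AlgHom.comp_apply, hΦ] at h3
    exact h3

include b in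
/-- the universal property: existence of the representing algebra -/
theorem exists_univ_basis :
    ∃ (U : Type u) (_ : CommRing U) (_ : Algebra A U) (Φ : B →ₐ[A] U ⊗[A] E),
      ∀ (C : Type u) [CommRing C] [Algebra A C] (β : B →ₐ[A] C ⊗[A] E),
        ∃! ψ : U →ₐ[A] C, (Algebra.TensorProduct.map ψ (AlgHom.id A E)).comp Φ = β := by
  let π : MvPolynomial B A →ₐ[A] B := aeval id
  have hπ : Function.Surjective π := fun y => ⟨X y, aeval_X _ _⟩
  obtain ⟨Φ, hΦ⟩ := univ_of_presentation b π hπ (RingHom.ker π.toRingHom : Set (MvPolynomial B A))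
    (Ideal.span_eq _).symm
  exact ⟨_, _, _, Φ, hΦ⟩

include b in
/-- finite presentation of the representing algebra -/
theorem exists_univ_fp_basis [Algebra.FinitePresentation A B] :
    ∃ (U : Type u) (_ : CommRing U) (_ : Algebra A U) (Φ : B →ₐ[A] U ⊗[A] E),
      Algebra.FinitePresentation A U ∧
      ∀ (C : Type u) [CommRing C] [Algebra A C] (β : B →ₐ[A] C ⊗[A] E),
        ∃! ψ : U →ₐ[A] C, (Algebra.TensorProduct.map ψ (AlgHom.id A E)).comp Φ = β := by
  obtain ⟨I, _, π, hπ, hfg⟩ := Algebra.FinitePresentation.iff_quotient_mvPolynomial'.mp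
    (inferInstance : Algebra.FinitePresentation A B)
  obtain ⟨t, ht⟩ := hfg
  obtain ⟨Φ, hΦ⟩ := univ_of_presentation b π hπ (t : Set (MvPolynomial I A)) ht.symm
  refine ⟨_, _, _, Φ, ?_, hΦ⟩
  apply Algebra.FinitePresentation.quotient
  classical
  refine ⟨(t ×ˢ (Finset.univ : Finset ι)).image
    (fun fj => coord b (PP A ι I) (aeval (x₀ b) fj.1) fj.2), ?_⟩
  unfold relIdeal
  congr 1
  ext p
  simp only [Finset.coe_image, Finset.coe_product, Finset.coe_univ, Set.mem_image, Set.mem_prod,
    Finset.mem_coe, Set.mem_univ, and_true, Prod.exists, Set.mem_setOf_eq]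
  constructor
  · rintro ⟨f, j, hf, rfl⟩
    exact ⟨f, hf, j, rfl⟩
  · rintro ⟨f, hf, j, rfl⟩
    exact ⟨f, j, hf, rfl⟩

end Main

section Final

variable {A : Type u} [CommRing A] {E : Type u} [CommRing E] [Algebra A E]
  [Module.Free A E] [Module.Finite A E] {B : Type u} [CommRing B] [Algebra A B]

theorem exists_univ :
    ∃ (U : Type u) (_ : CommRing U) (_ : Algebra A U) (Φ : B →ₐ[A] U ⊗[A] E),
      ∀ (C : Type u) [CommRing C] [Algebra A C] (β : B →ₐ[A] C ⊗[A] E),
        ∃! ψ : U →ₐ[A] C, (Algebra.TensorProduct.map ψ (AlgHom.id A E)).comp Φ = β := by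
  classical
  exact exists_univ_basis (Module.Free.chooseBasis A E)

theorem exists_univ_fp [Algebra.FinitePresentation A B] :
    ∃ (U : Type u) (_ : CommRing U) (_ : Algebra A U) (Φ : B →ₐ[A] U ⊗[A] E),
      Algebra.FinitePresentation A U ∧
      ∀ (C : Type u) [CommRing C] [Algebra A C] (β : B →ₐ[A] C ⊗[A] E),
        ∃! ψ : U →ₐ[A] C, (Algebra.TensorProduct.map ψ (AlgHom.id A E)).comp Φ = β := by
  classical
  exact exists_univ_fp_basis (Module.Free.chooseBasis A E)

end Final

end Groth.Agent.H4.HomA
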