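import Mathlib
import Groth.Prelude.Def_Flatn
import Groth.Agent.H4.HomA
import Groth.Agent.H4.HomB

/-! helper4: the scheme of morphisms `Mor_S(Z, X)` for `Z`, `X`, `S` affine and `Γ(Z)` finite free. -/

set_option autoImplicit false

universe u

open CategoryTheory CategoryTheory.Limits AlgebraicGeometry Opposite TensorProduct

namespace Groth.Agent.H4.HomC

section RH

/-- The ring homomorphism attached to a morphism to an affine scheme. -/
noncomputable def rh {Z : Scheme.{u}} {B : CommRingCat.{u}} (f : Z ⟶ Spec B) : B ⟶ Γ(Z, ⊤) :=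
  (Scheme.ΓSpecIso B).inv ≫ f.appTop

theorem rh_comp_SpecMap {Z : Scheme.{u}} {B B' : CommRingCat.{u}} (f : Z ⟶ Spec B) (φ : B' ⟶ B) :
    rh (f ≫ Spec.map φ) = φ ≫ rh f := by
  unfold rh
  rw [Scheme.Hom.comp_appTop, ← Category.assoc, ← Scheme.ΓSpecIso_inv_naturality, Category.assoc]

theorem rh_comp {Z Z' : Scheme.{u}} {B : CommRingCat.{u}} (g : Z' ⟶ Z) (f : Z ⟶ Spec B) :
    rh (g ≫ f) = rh f ≫ g.appTop := by
  unfold rh
  rw [Scheme.Hom.comp_appTop, Category.assoc]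

theorem rh_toSpecΓ_SpecMap {Z : Scheme.{u}} {B : CommRingCat.{u}} (φ : B ⟶ Γ(Z, ⊤)) :
    rh (Z.toSpecΓ ≫ Spec.map φ) = φ := by
  rw [rh_comp_SpecMap]
  unfold rh
  rw [Scheme.toSpecΓ_appTop, Iso.inv_hom_id, Category.comp_id]

theorem rh_injective {Z : Scheme.{u}} {B : CommRingCat.{u}} {f g : Z ⟶ Spec B} (h : rh f = rh g) :
    f = g := by
  apply ext_of_isAffine
  unfold rh at h
  exact (cancel_epi _).mp h

/-- the morphism to an affine scheme with given ring homomorphism -/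
noncomputable def mkAff {X Y : Scheme.{u}} [IsAffine X] (φ : Γ(X, ⊤) ⟶ Γ(Y, ⊤)) : Y ⟶ X :=
  Y.toSpecΓ ≫ Spec.map φ ≫ X.isoSpec.inv

lemma mkAff_appTop {X Y : Scheme.{u}} [IsAffine X] (φ : Γ(X, ⊤) ⟶ Γ(Y, ⊤)) :
    (mkAff φ).appTop = φ := by
  have h1 : mkAff φ ≫ X.toSpecΓ = Y.toSpecΓ ≫ Spec.map φ := by
    unfold mkAff
    rw [Category.assoc, Category.assoc, Scheme.isoSpec_inv_toSpecΓ, Category.comp_id]
  rw [Scheme.toSpecΓ_naturality] at h1
  have h2 := congrArg rh h1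
  rwa [rh_toSpecΓ_SpecMap, rh_toSpecΓ_SpecMap] at h2

lemma hom_Spec_iff {S T : Scheme.{u}} [IsAffine S] {R : CommRingCat.{u}} (u : Γ(S, ⊤) ⟶ R)
    (t : T ⟶ S) (a : T ⟶ Spec R) :
    a ≫ Spec.map u ≫ S.isoSpec.inv = t ↔ u ≫ rh a = t.appTop := by
  constructor
  · intro h
    have h1 : a ≫ Spec.map u = t ≫ S.toSpecΓ := by
      rw [← h, Category.assoc, Category.assoc, Scheme.isoSpec_inv_toSpecΓ, Category.comp_id]
    rw [Scheme.toSpecΓ_naturality] at h1
    have h2 := congrArg rh h1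
    rwa [rh_comp_SpecMap, rh_toSpecΓ_SpecMap] at h2
  · intro h
    have h1 : a ≫ Spec.map u = t ≫ S.toSpecΓ := by
      rw [Scheme.toSpecΓ_naturality]
      apply rh_injective
      rw [rh_comp_SpecMap, rh_toSpecΓ_SpecMap, h]
    rw [← Category.assoc, h1, Category.assoc, Scheme.toSpecΓ_isoSpec_inv, Category.comp_id]

end RH

section Cat

variable {A E B : CommRingCat.{u}} (gE : A ⟶ E) (fB : A ⟶ B) [Algebra A E] [Algebra A B]
  (hE : algebraMap A E = gE.hom) (hB : algebraMap A B = fB.hom)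
  {U : Type u} [CommRing U] [Algebra A U]

/-- the first inclusion into the tensor product -/
abbrev inlT (C : Type u) [CommRing C] [Algebra A C] (E : Type u) [CommRing E] [Algebra A E] :
    CommRingCat.of C ⟶ CommRingCat.of (C ⊗[A] E) :=
  CommRingCat.ofHom Algebra.TensorProduct.includeLeftRingHom

/-- the second inclusion into the tensor product -/
abbrev inrT (C : Type u) [CommRing C] [Algebra A C] (E : Type u) [CommRing E] [Algebra A E] :
    CommRingCat.of E ⟶ CommRingCat.of (C ⊗[A] E) :=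
  CommRingCat.ofHom Algebra.TensorProduct.includeRight.toRingHom

lemma inl_map {C : Type u} [CommRing C] [Algebra A C] (ψ : U →ₐ[A] C) :
    inlT (A := A) U E ≫ CommRingCat.ofHom (Algebra.TensorProduct.map ψ (AlgHom.id A E)).toRingHom =
      CommRingCat.ofHom ψ.toRingHom ≫ inlT (A := A) C E := by
  ext x
  simp

lemma inr_map {C : Type u} [CommRing C] [Algebra A C] (ψ : U →ₐ[A] C) :
    inrT (A := A) U E ≫ CommRingCat.ofHom (Algebra.TensorProduct.map ψ (AlgHom.id A E)).toRingHom =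
      inrT (A := A) C E := by
  ext x
  simp

include hE hB in
theorem up_cat (Φ : B →ₐ[A] U ⊗[A] E)
    (hΦ : ∀ (C : Type u) [CommRing C] [Algebra A C] (β : B →ₐ[A] C ⊗[A] E),
      ∃! ψ : U →ₐ[A] C, (Algebra.TensorProduct.map ψ (AlgHom.id A E)).comp Φ = β)
    {C D : CommRingCat.{u}} (c : A ⟶ C) (jC : C ⟶ D) (jE : E ⟶ D)
    (hpo : IsPushout c gE jC jE) (β : B ⟶ D) (hβ : fB ≫ β = c ≫ jC) :
    ∃! ψ : CommRingCat.of U ⟶ C, CommRingCat.ofHom (algebraMap A U) ≫ ψ = c ∧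
      ∀ m : CommRingCat.of (U ⊗[A] E) ⟶ D, inlT (A := A) U E ≫ m = ψ ≫ jC →
        inrT (A := A) U E ≫ m = jE → CommRingCat.ofHom Φ.toRingHom ≫ m = β := by
  letI : Algebra A C := c.hom.toAlgebra
  have hgE : CommRingCat.ofHom (algebraMap A E) = gE := by
    rw [hE]; rfl
  have h0C : IsPushout c gE (inlT (A := A) C E) (inrT (A := A) C E) := by
    have := CommRingCat.isPushout_tensorProduct A C E
    rw [hgE] at this
    exact this
  have h0U : IsPushout (CommRingCat.ofHom (algebraMap A U)) gE (inlT (A := A) U E)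
      (inrT (A := A) U E) := by
    have := CommRingCat.isPushout_tensorProduct A U E
    rw [hgE] at this
    exact this
  obtain ⟨θ, hθ⟩ : ∃ θ, θ = h0C.isoIsPushout _ _ hpo := ⟨_, rfl⟩
  have θ1 : inlT (A := A) C E ≫ θ.hom = jC := by rw [hθ]; exact h0C.inl_isoIsPushout_hom _ _ hpo
  have θ2 : inrT (A := A) C E ≫ θ.hom = jE := by rw [hθ]; exact h0C.inr_isoIsPushout_hom _ _ hpo
  have θ3 : jC ≫ θ.inv = inlT (A := A) C E := by rw [hθ]; exact h0C.inl_isoIsPushout_inv _ _ hpo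
  -- the algebra homomorphism attached to `β`
  have hc1 : ∀ a : A, (β ≫ θ.inv).hom (algebraMap A B a) = algebraMap A (C ⊗[A] E) a := by
    intro a
    have h1 : (fB ≫ β ≫ θ.inv).hom a = (c ≫ inlT (A := A) C E).hom a := by
      rw [← Category.assoc, hβ, Category.assoc, θ3]
    rw [hB]
    simpa [Algebra.TensorProduct.algebraMap_apply, RingHom.algebraMap_toAlgebra] using h1
  let β' : B →ₐ[A] C ⊗[A] E := { toRingHom := (β ≫ θ.inv).hom, commutes' := hc1 }
  obtain ⟨ψ, hψ, huniq⟩ := hΦ C β'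
  -- general facts about morphisms `m`
  have hm : ∀ (ψ₂ : U →ₐ[A] C) (m : CommRingCat.of (U ⊗[A] E) ⟶ D),
      inlT (A := A) U E ≫ m = CommRingCat.ofHom ψ₂.toRingHom ≫ jC → inrT (A := A) U E ≫ m = jE →
      m = CommRingCat.ofHom (Algebra.TensorProduct.map ψ₂ (AlgHom.id A E)).toRingHom ≫ θ.hom := by
    intro ψ₂ m h1 h2
    apply h0U.hom_ext
    · rw [h1, ← Category.assoc, inl_map, Category.assoc, θ1]
    · rw [h2, ← Category.assoc, inr_map, θ2]
  refine ⟨CommRingCat.ofHom ψ.toRingHom, ⟨?_, ?_⟩, ?_⟩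
  · ext a
    simp [RingHom.algebraMap_toAlgebra]
  · intro m h1 h2
    rw [hm ψ m h1 h2, ← Category.assoc]
    have h3 : CommRingCat.ofHom Φ.toRingHom ≫
        CommRingCat.ofHom (Algebra.TensorProduct.map ψ (AlgHom.id A E)).toRingHom = β ≫ θ.inv := by
      ext x
      have := AlgHom.congr_fun hψ x
      simpa [β'] using this
    rw [h3, Category.assoc, Iso.inv_hom_id, Category.comp_id]
  · rintro ψ₂ ⟨k1, k2⟩
    have hcomm : ∀ a : A, ψ₂.hom (algebraMap A U a) = algebraMap A C a := by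
      intro a
      have := congrArg (fun φ => φ.hom a) k1
      simpa [RingHom.algebraMap_toAlgebra] using this
    let ψ₂' : U →ₐ[A] C := { toRingHom := ψ₂.hom, commutes' := hcomm }
    have hψ₂ : CommRingCat.ofHom ψ₂'.toRingHom = ψ₂ := rfl
    have k3 := k2 (CommRingCat.ofHom (Algebra.TensorProduct.map ψ₂' (AlgHom.id A E)).toRingHom ≫ θ.hom)
      (by rw [← Category.assoc, inl_map, Category.assoc, θ1, hψ₂])
      (by rw [← Category.assoc, inr_map, θ2])
    have k4 : (Algebra.TensorProduct.map ψ₂' (AlgHom.id A E)).comp Φ = β' := by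
      apply AlgHom.ext
      intro x
      have h5 : CommRingCat.ofHom Φ.toRingHom ≫
          CommRingCat.ofHom (Algebra.TensorProduct.map ψ₂' (AlgHom.id A E)).toRingHom =
          β ≫ θ.inv := by
        rw [← k3, Category.assoc, Category.assoc, Iso.hom_inv_id, Category.comp_id]
      have := congrArg (fun φ => φ.hom x) h5
      simpa [β'] using this
    have k5 := huniq ψ₂' k4
    rw [← hψ₂, k5]

end Cat


section Geo

variable {Z X S : Scheme.{u}} [IsAffine Z] [IsAffine X] [IsAffine S] (g : Z ⟶ S) (f : X ⟶ S)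
  [Algebra Γ(S, ⊤) Γ(Z, ⊤)] [Algebra Γ(S, ⊤) Γ(X, ⊤)]
  (hE : algebraMap Γ(S, ⊤) Γ(Z, ⊤) = g.appTop.hom) (hB : algebraMap Γ(S, ⊤) Γ(X, ⊤) = f.appTop.hom)
  (U : Type u) [CommRing U] [Algebra Γ(S, ⊤) U]

/-- the structure morphism of the representing object, on rings -/
abbrev uS : Γ(S, ⊤) ⟶ CommRingCat.of U := CommRingCat.ofHom (algebraMap Γ(S, ⊤) U)

/-- the representing object -/
noncomputable def WW : Over S := Over.mk (Spec.map (uS (S := S) U) ≫ S.isoSpec.inv)

variable {U}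

lemma uS_rh {T : Over S} (a : T ⟶ WW (S := S) U) : uS (S := S) U ≫ rh a.left = T.hom.appTop :=
  (hom_Spec_iff (uS (S := S) U) T.hom a.left).1 (Over.w a)

include hE in
lemma h0U_aux : IsPushout (uS (S := S) U) g.appTop (inlT (A := Γ(S, ⊤)) U Γ(Z, ⊤))
    (inrT (A := Γ(S, ⊤)) U Γ(Z, ⊤)) := by
  have hgE : CommRingCat.ofHom (algebraMap Γ(S, ⊤) Γ(Z, ⊤)) = g.appTop := by
    rw [hE]; rfl
  have := CommRingCat.isPushout_tensorProduct Γ(S, ⊤) U Γ(Z, ⊤)
  rw [hgE] at this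
  exact this

include hE in
lemma mT_cond {T : Over S} (a : T ⟶ WW (S := S) U) :
    uS (S := S) U ≫ rh a.left ≫ (pullback.fst T.hom g).appTop =
      g.appTop ≫ (pullback.snd T.hom g).appTop := by
  rw [← Category.assoc, uS_rh, ← Scheme.Hom.comp_appTop, ← Scheme.Hom.comp_appTop,
    pullback.condition]

/-- the comparison map from the tensor product to the sections of the fibre product -/
noncomputable def mT {T : Over S} (a : T ⟶ WW (S := S) U) :
    CommRingCat.of (U ⊗[Γ(S, ⊤)] Γ(Z, ⊤)) ⟶ Γ(pullback T.hom g, ⊤) :=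
  (h0U_aux g hE).desc (rh a.left ≫ (pullback.fst T.hom g).appTop) (pullback.snd T.hom g).appTop
    (mT_cond g hE a)

lemma inl_mT {T : Over S} (a : T ⟶ WW (S := S) U) :
    inlT (A := Γ(S, ⊤)) U Γ(Z, ⊤) ≫ mT g hE a = rh a.left ≫ (pullback.fst T.hom g).appTop :=
  (h0U_aux g hE).inl_desc _ _ _

lemma inr_mT {T : Over S} (a : T ⟶ WW (S := S) U) :
    inrT (A := Γ(S, ⊤)) U Γ(Z, ⊤) ≫ mT g hE a = (pullback.snd T.hom g).appTop :=
  (h0U_aux g hE).inr_desc _ _ _

variable (Φ : Γ(X, ⊤) →ₐ[Γ(S, ⊤)] U ⊗[Γ(S, ⊤)] Γ(Z, ⊤))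

/-- the universal element, as a morphism of schemes -/
noncomputable def xiLeft : pullback (WW (S := S) U).hom g ⟶ X :=
  mkAff (X := X) (CommRingCat.ofHom Φ.toRingHom ≫ mT g hE (𝟙 (WW (S := S) U)))

lemma xiLeft_appTop :
    (xiLeft (X := X) g hE Φ).appTop =
      CommRingCat.ofHom Φ.toRingHom ≫ mT g hE (𝟙 (WW (S := S) U)) :=
  mkAff_appTop _

include hB in
lemma xi_cond :
    xiLeft (X := X) g hE Φ ≫ f = pullback.snd (WW (S := S) U).hom g ≫ g := by
  apply ext_of_isAffine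
  rw [Scheme.Hom.comp_appTop, xiLeft_appTop, Scheme.Hom.comp_appTop]
  have h1 : f.appTop ≫ CommRingCat.ofHom Φ.toRingHom =
      uS (S := S) U ≫ inlT (A := Γ(S, ⊤)) U Γ(Z, ⊤) := by
    ext a
    have := Φ.commutes a
    rw [hB] at this
    simpa [Algebra.TensorProduct.algebraMap_apply] using this
  rw [← Category.assoc, h1, Category.assoc, inl_mT, ← Category.assoc, uS_rh,
    ← Scheme.Hom.comp_appTop, ← Scheme.Hom.comp_appTop, pullback.condition]

/-- the universal element -/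
noncomputable def xi : (Flatn.morS g f).obj (op (WW (S := S) U)) :=
  Over.homMk (U := (Over.map g).obj ((Over.pullback g).obj (WW (S := S) U))) (V := Over.mk f)
    (xiLeft (X := X) g hE Φ) (xi_cond g f hE hB Φ)

lemma xi_left_appTop :
    (xi g f hE hB Φ).left.appTop = CommRingCat.ofHom Φ.toRingHom ≫ mT g hE (𝟙 (WW (S := S) U)) :=
  xiLeft_appTop g hE Φ

lemma map_xi_appTop {T : Over S} (a : T ⟶ WW (S := S) U) :
    ((Flatn.morS g f).map a.op (xi g f hE hB Φ)).left.appTop =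
      CommRingCat.ofHom Φ.toRingHom ≫ mT g hE a := by
  rw [Groth.Agent.H4.HomB.morS_map_left, Scheme.Hom.comp_appTop, xi_left_appTop, Category.assoc]
  congr 1
  apply (h0U_aux g hE).hom_ext
  · rw [← Category.assoc, inl_mT, inl_mT, Category.assoc, ← Scheme.Hom.comp_appTop,
      pullback.lift_fst, Scheme.Hom.comp_appTop, ← Category.assoc, ← rh_comp]
    rfl
  · rw [← Category.assoc, inr_mT, inr_mT, ← Scheme.Hom.comp_appTop, pullback.lift_snd]

include hB in
theorem aff_bijective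
    (hΦ : ∀ (C : Type u) [CommRing C] [Algebra Γ(S, ⊤) C] (β : Γ(X, ⊤) →ₐ[Γ(S, ⊤)] C ⊗[Γ(S, ⊤)] Γ(Z, ⊤)),
      ∃! ψ : U →ₐ[Γ(S, ⊤)] C, (Algebra.TensorProduct.map ψ (AlgHom.id Γ(S, ⊤) Γ(Z, ⊤))).comp Φ = β)
    (T : Over S) [IsAffine T.left] :
    Function.Bijective
      (fun a : T ⟶ WW (S := S) U => (Flatn.morS g f).map a.op (xi g f hE hB Φ)) := by
  have hpo : IsPushout T.hom.appTop g.appTop (pullback.fst T.hom g).appTop
      (pullback.snd T.hom g).appTop :=
    isPushout_appTop_of_isPullback (IsPullback.of_hasPullback T.hom g)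
  have key : ∀ b : (Flatn.morS g f).obj (op T),
      ∃! ψ : CommRingCat.of U ⟶ Γ(T.left, ⊤), uS (S := S) U ≫ ψ = T.hom.appTop ∧
        ∀ m : CommRingCat.of (U ⊗[Γ(S, ⊤)] Γ(Z, ⊤)) ⟶ Γ(pullback T.hom g, ⊤),
          inlT (A := Γ(S, ⊤)) U Γ(Z, ⊤) ≫ m = ψ ≫ (pullback.fst T.hom g).appTop →
          inrT (A := Γ(S, ⊤)) U Γ(Z, ⊤) ≫ m = (pullback.snd T.hom g).appTop →
          CommRingCat.ofHom Φ.toRingHom ≫ m = b.left.appTop := by
    intro b
    refine up_cat g.appTop f.appTop hE hB Φ hΦ T.hom.appTop _ _ hpo b.left.appTop ?_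
    have hw : b.left ≫ f = pullback.snd T.hom g ≫ g := Over.w b
    rw [← Scheme.Hom.comp_appTop, hw, ← pullback.condition, Scheme.Hom.comp_appTop]
  constructor
  · intro a a' h
    have h' : (Flatn.morS g f).map a.op (xi g f hE hB Φ) =
        (Flatn.morS g f).map a'.op (xi g f hE hB Φ) := h
    obtain ⟨ψ, -, huniq⟩ := key ((Flatn.morS g f).map a.op (xi g f hE hB Φ))
    have h1 : rh a.left = ψ := huniq _ ⟨uS_rh a, fun m k1 k2 => by
      have hm : m = mT g hE a :=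
        (h0U_aux g hE).hom_ext (k1.trans (inl_mT g hE a).symm) (k2.trans (inr_mT g hE a).symm)
      rw [hm, map_xi_appTop]⟩
    have h2 : rh a'.left = ψ := huniq _ ⟨uS_rh a', fun m k1 k2 => by
      have hm : m = mT g hE a' :=
        (h0U_aux g hE).hom_ext (k1.trans (inl_mT g hE a').symm) (k2.trans (inr_mT g hE a').symm)
      rw [hm, h', map_xi_appTop]⟩
    apply Over.OverMorphism.ext
    apply rh_injective
    rw [h1, h2]
  · intro b
    obtain ⟨ψ, ⟨k1, k2⟩, -⟩ := key b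
    have hw : (T.left.toSpecΓ ≫ Spec.map ψ) ≫ (WW (S := S) U).hom = T.hom :=
      (hom_Spec_iff (uS (S := S) U) T.hom _).2 (by rw [rh_toSpecΓ_SpecMap]; exact k1)
    refine ⟨Over.homMk (T.left.toSpecΓ ≫ Spec.map ψ) hw, ?_⟩
    apply Over.OverMorphism.ext
    apply ext_of_isAffine (Y := X)
    rw [map_xi_appTop]
    refine k2 _ ?_ (inr_mT g hE _)
    rw [inl_mT]
    congr 1
    exact rh_toSpecΓ_SpecMap ψ

lemma goodSieve_affine_mem (T : Over S) :
    Groth.Agent.H4.HomB.goodSieve (fun T : Over S => IsAffine T.left) T ∈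
      Scheme.fpqcTopology T.left := by
  refine GrothendieckTopology.superset_covering _ ?_ (Groth.Agent.H4.WRb.affSieve_mem T.left)
  rintro T' t ⟨C, a, b, e⟩
  exact ⟨Over.mk (b ≫ T.hom), inferInstanceAs (IsAffine (Spec C)), Over.homMk b rfl, a, e⟩

include hE hB in
/-- representability of `Mor_S(Z, X)` from the universal algebra -/
theorem rep_of_univ
    (hΦ : ∀ (C : Type u) [CommRing C] [Algebra Γ(S, ⊤) C] (β : Γ(X, ⊤) →ₐ[Γ(S, ⊤)] C ⊗[Γ(S, ⊤)] Γ(Z, ⊤)),
      ∃! ψ : U →ₐ[Γ(S, ⊤)] C, (Algebra.TensorProduct.map ψ (AlgHom.id Γ(S, ⊤) Γ(Z, ⊤))).comp Φ = β) :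
    Nonempty ((Flatn.morS g f).RepresentableBy (WW (S := S) U)) := by
  refine ⟨Groth.Agent.H4.HomB.representableBy_of_bijective _ _ (xi g f hE hB Φ) ?_⟩
  exact Groth.Agent.H4.HomB.bijective_of_good _ _ _ (fun T : Over S => IsAffine T.left)
    goodSieve_affine_mem
    (Groth.Agent.H4.HomB.morS_sep g f _ goodSieve_affine_mem)
    (fun T₀ h => by
      haveI : IsAffine T₀.left := h
      exact aff_bijective g f hE hB Φ hΦ T₀)

end Geo

section Main

theorem main_affine {Z X S : Scheme.{u}} [IsAffine Z] [IsAffine X] [IsAffine S] (g : Z ⟶ S)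
    (f : X ⟶ S)
    (hfree : letI := (g.appTop).hom.toAlgebra
      Module.Finite Γ(S, ⊤) Γ(Z, ⊤) ∧ Module.Free Γ(S, ⊤) Γ(Z, ⊤)) :
    ∃ W : Over S, IsAffine W.left ∧ (LocallyOfFinitePresentation f →
      LocallyOfFinitePresentation W.hom) ∧
      Nonempty ((Flatn.morS g f).RepresentableBy W) := by
  letI := (g.appTop).hom.toAlgebra
  letI := (f.appTop).hom.toAlgebra
  obtain ⟨hfin, hfr⟩ := hfree
  by_cases hfp : LocallyOfFinitePresentation f
  · have hfpB : Algebra.FinitePresentation Γ(S, ⊤) Γ(X, ⊤) := by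
      have h1 : f.appTop.hom.FinitePresentation :=
        (HasRingHomProperty.iff_of_isAffine (P := @LocallyOfFinitePresentation)).1 hfp
      exact h1
    obtain ⟨U, _, _, Φ, hfpU, hΦ⟩ := Groth.Agent.H4.HomA.exists_univ_fp (A := Γ(S, ⊤))
      (E := Γ(Z, ⊤)) (B := Γ(X, ⊤))
    refine ⟨WW (S := S) U, inferInstanceAs (IsAffine (Spec _)), fun _ => ?_,
      rep_of_univ g f rfl rfl Φ hΦ⟩
    change LocallyOfFinitePresentation (Spec.map (uS (S := S) U) ≫ S.isoSpec.inv)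
    have h2 : LocallyOfFinitePresentation (Spec.map (uS (S := S) U)) := by
      rw [HasRingHomProperty.Spec_iff (P := @LocallyOfFinitePresentation)]
      exact (RingHom.finitePresentation_algebraMap).2 hfpU
    infer_instance
  · obtain ⟨U, _, _, Φ, hΦ⟩ := Groth.Agent.H4.HomA.exists_univ (A := Γ(S, ⊤))
      (E := Γ(Z, ⊤)) (B := Γ(X, ⊤))
    exact ⟨WW (S := S) U, inferInstanceAs (IsAffine (Spec _)), fun h => absurd h hfp,
      rep_of_univ g f rfl rfl Φ hΦ⟩

end Main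

end Groth.Agent.H4.HomC
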