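import Mathlib
import Groth.Agent.H4.HbD
import Groth.Agent.H4.HomC

/-! helper4: classification of good families over affine bases by coordinate data; the universal
family of a piece of the Hilbert functor of points. -/

set_option autoImplicit false

universe u

open CategoryTheory CategoryTheory.Limits AlgebraicGeometry Opposite

noncomputable section

namespace Groth.Agent.H4.HbE

open Groth.Agent.H4.HomG Groth.Agent.H4.HbA Groth.Agent.H4.HbB Groth.Agent.H4.HbC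
  Groth.Agent.H4.HbD Groth.Agent.H4.HomC

section Ring

variable {A B : Type u} [CommRing A] [CommRing B] {φ₀ : A →+* B} {d : ℕ} {w : Fin d → B}

lemma Dat.map_map {R R' R'' : Type u} [CommRing R] [CommRing R'] [CommRing R'']
    (D : Dat φ₀ w R) (γ : R →+* R') (ψ : R' →+* R'') : (D.map γ).map ψ = D.map (ψ.comp γ) := rfl

/-- transport of a model along isomorphisms -/
def Model.transport {R R' C C' : Type u} [CommRing R] [CommRing R'] [CommRing C] [CommRing C']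
    {D : Dat φ₀ w R} (M : Model D C) (γ : R →+* R') (γ' : R' →+* R)
    (hγ : ∀ x, γ' (γ x) = x) (hγ' : ∀ x, γ (γ' x) = x) (δ : C →+* C')
    (hδ : Function.Bijective δ) (β' : B →+* C') (ρ' : R' →+* C')
    (hβ : ∀ b, β' b = δ (M.β b)) (hρ : ∀ r, ρ' r = δ (M.ρ (γ' r))) : Model (D.map γ) C' :=
  have key : ∀ c : Fin d → R', comb ρ' (fun k => β' (w k)) c =
      δ (comb M.ρ (fun k => M.β (w k)) (fun k => γ' (c k))) := by
    intro c
    unfold comb
    rw [map_sum]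
    refine Finset.sum_congr rfl fun k _ => ?_
    simp only [map_mul, hβ, hρ]
  { β := β'
    ρ := ρ'
    comm := by
      ext a
      show β' (φ₀ a) = ρ' (γ (D.α a))
      rw [hβ, hρ, hγ]
      exact congrArg δ (RingHom.congr_fun M.comm a)
    bij := by
      have h1 : Function.Bijective (fun (c : Fin d → R') => (fun k => γ' (c k) : Fin d → R)) := by
        refine ⟨fun c c' h => funext fun k => ?_, fun c => ⟨fun k => γ (c k), funext fun k => hγ _⟩⟩
        have := congrFun h k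
        simp only at this
        rw [← hγ' (c k), ← hγ' (c' k), this]
      have h2 : comb ρ' (fun k => β' (w k)) =
          δ ∘ comb M.ρ (fun k => M.β (w k)) ∘ (fun (c : Fin d → R') => (fun k => γ' (c k))) :=
        funext key
      rw [h2]
      exact hδ.comp (M.bij.comp h1)
    coord := by
      intro b
      rw [key, hβ, M.coord b]
      congr 2
      funext k
      exact (hγ _).symm }

/-- transport of a model along an isomorphism of the algebra -/
def Model.transportC {R C C' : Type u} [CommRing R] [CommRing C] [CommRing C']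
    {D : Dat φ₀ w R} (M : Model D C) (δ : C →+* C')
    (hδ : Function.Bijective δ) (β' : B →+* C') (ρ' : R →+* C')
    (hβ : ∀ b, β' b = δ (M.β b)) (hρ : ∀ r, ρ' r = δ (M.ρ r)) : Model D C' :=
  have key : ∀ c : Fin d → R, comb ρ' (fun k => β' (w k)) c =
      δ (comb M.ρ (fun k => M.β (w k)) c) := by
    intro c
    unfold comb
    rw [map_sum]
    refine Finset.sum_congr rfl fun k _ => ?_
    simp only [map_mul, hβ, hρ]
  { β := β'
    ρ := ρ'
    comm := by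
      ext a
      show β' (φ₀ a) = ρ' (D.α a)
      rw [hβ, hρ]
      exact congrArg δ (RingHom.congr_fun M.comm a)
    bij := by
      have h2 : comb ρ' (fun k => β' (w k)) = δ ∘ comb M.ρ (fun k => M.β (w k)) := funext key
      rw [h2]
      exact hδ.comp M.bij
    coord := by
      intro b
      rw [key, hβ, M.coord b] }

end Ring

variable {X S : Scheme.{u}} (f : X ⟶ S) (d : ℕ) (V₀ : S.Opens) (U₀ : X.Opens)
  (e : U₀ ≤ f ⁻¹ᵁ V₀) (w : Fin d → Γ(U₀.toScheme, ⊤))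

/-- the ring homomorphism of the affine chart -/
abbrev ph : Γ(V₀.toScheme, ⊤) →+* Γ(U₀.toScheme, ⊤) := (f.resLE V₀ U₀ e).appTop.hom

section Triple

variable {T : Scheme.{u}} (t : T ⟶ S) (I : (pullback f t).IdealSheafData)

/-- the coordinate data of a family -/
def IsDat (D : Dat (ph f V₀ U₀ e) w Γ(T, ⊤)) : Prop :=
  ∃ (t₀ : T ⟶ V₀.toScheme) (j : I.subscheme ⟶ U₀.toScheme),
    t₀ ≫ V₀.ι = t ∧ j ≫ U₀.ι = I.subschemeι ≫ pullback.fst f t ∧ D.α = t₀.appTop.hom ∧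
    Function.Bijective (comb (I.subschemeι ≫ pullback.snd f t).appTop.hom
      (fun k => j.appTop.hom (w k))) ∧
    ∀ b, j.appTop.hom b = comb (I.subschemeι ≫ pullback.snd f t).appTop.hom
      (fun k => j.appTop.hom (w k)) (D.x b)

lemma comm_of_fac (t₀ : T ⟶ V₀.toScheme) (j : I.subscheme ⟶ U₀.toScheme)
    (h1 : t₀ ≫ V₀.ι = t) (h2 : j ≫ U₀.ι = I.subschemeι ≫ pullback.fst f t) :
    j.appTop.hom.comp (ph f V₀ U₀ e) =
      (I.subschemeι ≫ pullback.snd f t).appTop.hom.comp t₀.appTop.hom := by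
  have hc : j ≫ f.resLE V₀ U₀ e = (I.subschemeι ≫ pullback.snd f t) ≫ t₀ := by
    rw [← cancel_mono V₀.ι, Category.assoc, Scheme.Hom.resLE_comp_ι, reassoc_of% h2,
      Category.assoc, Category.assoc, h1, pullback.condition]
  have := congrArg (fun m => m.appTop.hom) hc
  simpa only [Scheme.Hom.comp_appTop, CommRingCat.hom_comp] using this

variable {f d V₀ U₀ e w t I}

/-- the model attached to coordinate data of a family -/
lemma IsDat.model {D : Dat (ph f V₀ U₀ e) w Γ(T, ⊤)} (h : IsDat f d V₀ U₀ e w t I D) :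
    ∃ (t₀ : T ⟶ V₀.toScheme) (j : I.subscheme ⟶ U₀.toScheme) (M : Model D Γ(I.subscheme, ⊤)),
      t₀ ≫ V₀.ι = t ∧ j ≫ U₀.ι = I.subschemeι ≫ pullback.fst f t ∧ D.α = t₀.appTop.hom ∧
      M.β = j.appTop.hom ∧ M.ρ = (I.subschemeι ≫ pullback.snd f t).appTop.hom := by
  obtain ⟨t₀, j, h1, h2, hα, bij, hx⟩ := h
  refine ⟨t₀, j, (⟨j.appTop.hom, (I.subschemeι ≫ pullback.snd f t).appTop.hom, ?_, bij, hx⟩ :
    Model D Γ(I.subscheme, ⊤)), h1, h2, hα, rfl, rfl⟩
  rw [hα]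
  exact comm_of_fac f V₀ U₀ e t I t₀ j h1 h2

variable (f d V₀ U₀ e w t I)

lemma finrank_appTop_eq {Z T : Scheme.{u}} [IsAffine T] (π : Z ⟶ T) [IsFinite π] [Flat π]
    (hd : ∀ y, π.finrank y = d) : ∀ p, π.appTop.hom.finrank p = d := by
  haveI : IsAffine Z := isAffine_of_isAffineHom π
  have hf₁ : π.appTop.hom.Finite := π.finite_appTop
  have hf₂ : π.appTop.hom.Flat := π.flat_appTop
  haveI : IsFinite (Spec.map π.appTop) := (IsFinite.SpecMap_iff _).mpr hf₁
  haveI : Flat (Spec.map π.appTop) := Flat.SpecMap_iff.mpr hf₂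
  have sq : IsPullback Z.isoSpec.hom π (Spec.map π.appTop) T.isoSpec.hom :=
    IsPullback.of_horiz_isIso ⟨Scheme.isoSpec_hom_naturality π⟩
  intro p
  have hy : T.isoSpec.hom (T.isoSpec.inv p) = p := by
    rw [← Scheme.Hom.comp_apply, Iso.inv_hom_id]
    rfl
  have h1 := Scheme.Hom.finrank_of_isPullback _ _ _ _ sq (T.isoSpec.inv p)
  rw [Scheme.Hom.finrank_SpecMap_eq_finrank hf₁ hf₂, hy] at h1
  rw [← h1]
  exact hd _

lemma exists_isDat [IsAffine T] (h : Mor2.IsFinLocFreeOfDeg d (I.subschemeι ≫ pullback.snd f t))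
    (hG : GoodT f d V₀ U₀ w t I) : ∃ D, IsDat f d V₀ U₀ e w t I D := by
  obtain ⟨t₀, j, h1, h2, h3⟩ := hG
  haveI : IsFinite (I.subschemeι ≫ pullback.snd f t) := h.1.1
  haveI : Flat (I.subschemeι ≫ pullback.snd f t) := h.1.2.1
  haveI : IsAffine I.subscheme := isAffine_of_isAffineHom (I.subschemeι ≫ pullback.snd f t)
  have bij := bij_of_span (I.subschemeι ≫ pullback.snd f t).appTop.hom
    (fun k => j.appTop.hom (w k)) (I.subschemeι ≫ pullback.snd f t).finite_appTop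
    (I.subschemeι ≫ pullback.snd f t).flat_appTop
    (finrank_appTop_eq d (I.subschemeι ≫ pullback.snd f t) h.2) h3
  obtain ⟨D, hDα, hDx⟩ := exists_dat_of_bij (φ₀ := ph f V₀ U₀ e) (w := w) t₀.appTop.hom
    j.appTop.hom (I.subschemeι ≫ pullback.snd f t).appTop.hom
    (comm_of_fac f V₀ U₀ e t I t₀ j h1 h2) bij
  exact ⟨D, t₀, j, h1, h2, hDα, bij, hDx⟩

lemma IsDat.good {D : Dat (ph f V₀ U₀ e) w Γ(T, ⊤)} (h : IsDat f d V₀ U₀ e w t I D) :
    GoodT f d V₀ U₀ w t I := by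
  obtain ⟨t₀, j, h1, h2, -, bij, -⟩ := h
  exact ⟨t₀, j, h1, h2, bij.2⟩

/-- naturality of coordinate data -/
lemma isDat_map [IsAffine T] {T' : Scheme.{u}} [IsAffine T'] (b : T' ⟶ T)
    {D : Dat (ph f V₀ U₀ e) w Γ(T, ⊤)} {D' : Dat (ph f V₀ U₀ e) w Γ(T', ⊤)}
    (hD : IsDat f d V₀ U₀ e w t I D)
    (hD' : IsDat f d V₀ U₀ e w (b ≫ t) (I.comap (plx f b t)) D') :
    D' = D.map b.appTop.hom := by
  obtain ⟨t₀, j, M, h1, h2, hα, hMβ, hMρ⟩ := hD.model
  obtain ⟨t₀', j', M', h1', h2', hα', hMβ', hMρ'⟩ := hD'.model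
  have ht : t₀' = b ≫ t₀ := by
    rw [← cancel_mono V₀.ι, h1', Category.assoc, h1]
  have hj : j' = rsm f b t I ≫ j := by
    rw [← cancel_mono U₀.ι, h2', Category.assoc, h2, rsm_fst]
  refine Model.map_eq M M' b.appTop.hom (rsm f b t I).appTop.hom ?_ ?_ ?_
  · rw [hα, hα', ht, Scheme.Hom.comp_appTop]
    rfl
  · rw [hMβ, hMβ', hj, Scheme.Hom.comp_appTop]
    rfl
  · rw [hMρ, hMρ']
    have := congrArg (fun m => m.appTop.hom) (rsm_snd f t I b)
    simpa only [Scheme.Hom.comp_appTop, CommRingCat.hom_comp] using this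

variable {f d V₀ U₀ e w t I}

lemma le_of_isDat [IsAffine T] (hU₀ : IsAffineOpen U₀) {I' : (pullback f t).IdealSheafData}
    (h : Mor2.IsFinLocFreeOfDeg d (I.subschemeι ≫ pullback.snd f t))
    {D : Dat (ph f V₀ U₀ e) w Γ(T, ⊤)} (hD : IsDat f d V₀ U₀ e w t I D)
    (hD' : IsDat f d V₀ U₀ e w t I' D) : I ≤ I' := by
  haveI : IsAffine U₀.toScheme := hU₀
  haveI : IsFinite (I.subschemeι ≫ pullback.snd f t) := h.1.1
  haveI : IsAffine I.subscheme := isAffine_of_isAffineHom (I.subschemeι ≫ pullback.snd f t)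
  obtain ⟨t₀, j, M, h1, h2, hα, hMβ, hMρ⟩ := hD.model
  obtain ⟨t₀', j', M', h1', h2', hα', hMβ', hMρ'⟩ := hD'.model
  obtain ⟨θ, hθβ, hθρ⟩ := Model.hom M M'
  obtain ⟨ee, hee⟩ : ∃ ee : I'.subscheme ⟶ I.subscheme, ee = mkAff (CommRingCat.ofHom θ) :=
    ⟨_, rfl⟩
  have hee' : ee.appTop = CommRingCat.ofHom θ := by
    rw [hee]
    exact mkAff_appTop _
  have e1 : ee ≫ (I.subschemeι ≫ pullback.snd f t) = I'.subschemeι ≫ pullback.snd f t := by
    apply ext_of_isAffine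
    rw [Scheme.Hom.comp_appTop, hee']
    apply CommRingCat.hom_ext
    rw [CommRingCat.hom_comp, CommRingCat.hom_ofHom, ← hMρ, hθρ, hMρ']
  have e2 : ee ≫ j = j' := by
    apply ext_of_isAffine
    rw [Scheme.Hom.comp_appTop, hee']
    apply CommRingCat.hom_ext
    rw [CommRingCat.hom_comp, CommRingCat.hom_ofHom, ← hMβ, hθβ, hMβ']
  have e3 : ee ≫ I.subschemeι = I'.subschemeι := by
    apply pullback.hom_ext
    · rw [Category.assoc, ← h2, reassoc_of% e2, h2']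
    · rw [Category.assoc]
      exact e1
  calc I = I.subschemeι.ker := (Scheme.IdealSheafData.ker_subschemeι I).symm
    _ ≤ (ee ≫ I.subschemeι).ker := Scheme.Hom.le_ker_comp _ _
    _ = I'.subschemeι.ker := by rw [e3]
    _ = I' := Scheme.IdealSheafData.ker_subschemeι I'

end Triple

section Univ

/-- coordinate data of a section of the lifted Hilbert functor -/
def IsDatL {T : Scheme.{u}} (y : LObj (hG f d) T) (D : Dat (ph f V₀ U₀ e) w Γ(T, ⊤)) : Prop :=
  IsDat f d V₀ U₀ e w y.1 y.2.1 D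

variable {f d V₀ U₀ e w}

lemma isDatL_map {T T' : Scheme.{u}} [IsAffine T] [IsAffine T'] (b : T' ⟶ T)
    (y : LObj (hG f d) T) {D : Dat (ph f V₀ U₀ e) w Γ(T, ⊤)}
    {D' : Dat (ph f V₀ U₀ e) w Γ(T', ⊤)} (hD : IsDatL f d V₀ U₀ e w y D)
    (hD' : IsDatL f d V₀ U₀ e w (lmap (hG f d) b y) D') : D' = D.map b.appTop.hom := by
  obtain ⟨t, I, h, rfl⟩ := exists_mkH f d y
  exact isDat_map f d V₀ U₀ e w t I b hD hD'

lemma isDatL_unique {T : Scheme.{u}} [IsAffine T] (hU₀ : IsAffineOpen U₀)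
    (y y' : LObj (hG f d) T) (ht : y.1 = y'.1) {D : Dat (ph f V₀ U₀ e) w Γ(T, ⊤)}
    (hD : IsDatL f d V₀ U₀ e w y D) (hD' : IsDatL f d V₀ U₀ e w y' D) : y = y' := by
  obtain ⟨t, I, h, rfl⟩ := exists_mkH f d y
  obtain ⟨t', I', h', rfl⟩ := exists_mkH f d y'
  change t = t' at ht
  subst ht
  exact mkH_congr f d t h h' (le_antisymm (le_of_isDat hU₀ h hD hD') (le_of_isDat hU₀ h' hD' hD))

lemma exists_isDatL {T : Scheme.{u}} [IsAffine T] (y : LObj (hG f d) T)
    (hG' : Good f d V₀ U₀ w y) : ∃ D, IsDatL f d V₀ U₀ e w y D := by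
  obtain ⟨t, I, h, rfl⟩ := exists_mkH f d y
  exact exists_isDat f d V₀ U₀ e w t I h hG'

lemma IsDatL.good {T : Scheme.{u}} {y : LObj (hG f d) T} {D : Dat (ph f V₀ U₀ e) w Γ(T, ⊤)}
    (h : IsDatL f d V₀ U₀ e w y D) : Good f d V₀ U₀ w y :=
  IsDat.good f d V₀ U₀ e w y.1 y.2.1 h

variable (f d V₀ U₀ e w)

/-- the family attached to a model over an affine base -/
lemma exists_fam [IsSeparated f] (hV₀ : IsAffineOpen V₀) (hU₀ : IsAffineOpen U₀)
    (R : CommRingCat.{u}) (D : Dat (ph f V₀ U₀ e) w R) {C : Type u} [CommRing C]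
    (M : Model D C) :
    ∃ ξ : LObj (hG f d) (Spec R),
      IsDatL f d V₀ U₀ e w ξ (D.map (Scheme.ΓSpecIso R).inv.hom) := by
  haveI : IsAffine V₀.toScheme := hV₀
  haveI : IsAffine U₀.toScheme := hU₀
  obtain ⟨ρc, hρc⟩ : ∃ ρc : R ⟶ CommRingCat.of C, ρc = CommRingCat.ofHom M.ρ := ⟨_, rfl⟩
  obtain ⟨π, hπ⟩ : ∃ π : Spec (CommRingCat.of C) ⟶ Spec R, π = Spec.map ρc := ⟨_, rfl⟩
  obtain ⟨t₀, ht₀⟩ : ∃ t₀ : Spec R ⟶ V₀.toScheme,
      t₀.appTop = CommRingCat.ofHom D.α ≫ (Scheme.ΓSpecIso R).inv := ⟨mkAff _, mkAff_appTop _⟩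
  obtain ⟨j, hj⟩ : ∃ j : Spec (CommRingCat.of C) ⟶ U₀.toScheme,
      j.appTop = CommRingCat.ofHom M.β ≫ (Scheme.ΓSpecIso (CommRingCat.of C)).inv :=
    ⟨mkAff _, mkAff_appTop _⟩
  have hπtop : π.appTop =
      (Scheme.ΓSpecIso R).hom ≫ ρc ≫ (Scheme.ΓSpecIso (CommRingCat.of C)).inv := by
    rw [hπ, ← Category.assoc, ← Scheme.ΓSpecIso_naturality, Category.assoc, Iso.hom_inv_id,
      Category.comp_id]
  have hcm : (f.resLE V₀ U₀ e).appTop ≫ CommRingCat.ofHom M.β = CommRingCat.ofHom D.α ≫ ρc := by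
    rw [hρc]
    ext a
    exact RingHom.congr_fun M.comm a
  have hc : j ≫ f.resLE V₀ U₀ e = π ≫ t₀ := by
    apply ext_of_isAffine
    rw [Scheme.Hom.comp_appTop, Scheme.Hom.comp_appTop, hj, ht₀, hπtop]
    simp only [Category.assoc, Iso.inv_hom_id_assoc]
    exact ((Category.assoc _ _ _).symm.trans (congrArg
      (fun m => m ≫ (Scheme.ΓSpecIso (CommRingCat.of C)).inv) hcm)).trans (Category.assoc _ _ _)
  have cond : (j ≫ U₀.ι) ≫ f = π ≫ (t₀ ≫ V₀.ι) := by
    rw [Category.assoc, ← Scheme.Hom.resLE_comp_ι f e, reassoc_of% hc]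
  -- the transported model
  obtain ⟨MT, hMTβ, hMTρ⟩ : ∃ MT : Model (D.map (Scheme.ΓSpecIso R).inv.hom)
      Γ(Spec (CommRingCat.of C), ⊤), MT.β = j.appTop.hom ∧ MT.ρ = π.appTop.hom :=
    ⟨Model.transport M (Scheme.ΓSpecIso R).inv.hom (Scheme.ΓSpecIso R).hom.hom
      (fun x => Iso.inv_hom_id_apply (Scheme.ΓSpecIso R) x)
      (fun x => Iso.hom_inv_id_apply (Scheme.ΓSpecIso R) x)
      (Scheme.ΓSpecIso (CommRingCat.of C)).inv.hom
      (ConcreteCategory.bijective_of_isIso (Scheme.ΓSpecIso (CommRingCat.of C)).inv)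
      j.appTop.hom π.appTop.hom
      (fun b => by rw [hj]; rfl)
      (fun r => by rw [hπtop, hρc]; rfl), rfl, rfl⟩
  have hspan : Function.Surjective (comb π.appTop.hom (fun k => j.appTop.hom (w k))) := by
    have := MT.bij.2
    rw [hMTβ, hMTρ] at this
    exact this
  -- properties of the projection
  obtain ⟨p1, p2, p3, p4⟩ := M.props
  haveI hfin : IsFinite π := by
    rw [hπ, hρc]
    exact (IsFinite.SpecMap_iff _).mpr p1
  haveI hflat : Flat π := by
    rw [hπ, hρc]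
    exact Flat.SpecMap_iff.mpr p2
  haveI hlfp : LocallyOfFinitePresentation π := by
    rw [hπ, hρc]
    exact (LocallyOfFinitePresentation.SpecMap_iff _).mpr p3
  have hrank : ∀ y, π.finrank y = d := by
    intro y
    have h1 : π.finrank = (CommRingCat.ofHom M.ρ).hom.finrank := by
      rw [hπ, hρc]
      exact Scheme.Hom.finrank_SpecMap_eq_finrank p1 p2
    rw [h1]
    exact p4 y
  -- the closed immersion
  obtain ⟨ι₀, hι₀⟩ : ∃ ι₀ : Spec (CommRingCat.of C) ⟶ pullback f (t₀ ≫ V₀.ι),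
      ι₀ = pullback.lift (j ≫ U₀.ι) π cond := ⟨_, rfl⟩
  have hι₀fst : ι₀ ≫ pullback.fst f (t₀ ≫ V₀.ι) = j ≫ U₀.ι := by
    rw [hι₀, pullback.lift_fst]
  have hι₀snd : ι₀ ≫ pullback.snd f (t₀ ≫ V₀.ι) = π := by
    rw [hι₀, pullback.lift_snd]
  haveI : IsProper (ι₀ ≫ pullback.snd f (t₀ ≫ V₀.ι)) := by
    rw [hι₀snd]
    infer_instance
  haveI : IsProper ι₀ := IsProper.of_comp ι₀ (pullback.snd f (t₀ ≫ V₀.ι))
  haveI : Mono ι₀ := by
    refine ⟨fun {Y} a₁ a₂ h => ?_⟩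
    have k1 : a₁ ≫ j = a₂ ≫ j := by
      rw [← cancel_mono U₀.ι, Category.assoc, Category.assoc, ← hι₀fst, reassoc_of% h]
    have k2 : a₁ ≫ π = a₂ ≫ π := by
      rw [← hι₀snd, reassoc_of% h]
    apply ext_of_isAffine
    apply CommRingCat.hom_ext
    apply RingHom.ext
    intro c
    obtain ⟨x, rfl⟩ := hspan c
    have l1 : ∀ b, a₁.appTop.hom (j.appTop.hom b) = a₂.appTop.hom (j.appTop.hom b) := by
      intro b
      have := congrArg (fun m => m.appTop.hom b) k1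
      simpa only [Scheme.Hom.comp_appTop, CommRingCat.hom_comp, RingHom.comp_apply] using this
    have l2 : ∀ r, a₁.appTop.hom (π.appTop.hom r) = a₂.appTop.hom (π.appTop.hom r) := by
      intro r
      have := congrArg (fun m => m.appTop.hom r) k2
      simpa only [Scheme.Hom.comp_appTop, CommRingCat.hom_comp, RingHom.comp_apply] using this
    unfold comb
    rw [map_sum, map_sum]
    refine Finset.sum_congr rfl fun k _ => ?_
    rw [map_mul, map_mul, l1, l2]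
  haveI : IsClosedImmersion ι₀ := (IsClosedImmersion.iff_isProper_and_mono _).mpr ⟨inferInstance, inferInstance⟩
  obtain ⟨I, hI⟩ : ∃ I : (pullback f (t₀ ≫ V₀.ι)).IdealSheafData, I = ι₀.ker := ⟨_, rfl⟩
  obtain ⟨ε, hε⟩ : ∃ ε : Spec (CommRingCat.of C) ⟶ I.subscheme,
      IsIso ε ∧ ε ≫ I.subschemeι = ι₀ := by
    subst hI
    exact ⟨ι₀.toImage, inferInstance, ι₀.toImage_imageι⟩
  obtain ⟨hεiso, hει⟩ := hε
  haveI := hεiso
  have hIsnd : I.subschemeι ≫ pullback.snd f (t₀ ≫ V₀.ι) = inv ε ≫ π := by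
    rw [IsIso.eq_inv_comp, ← Category.assoc, hει, hι₀snd]
  have hIfst : I.subschemeι ≫ pullback.fst f (t₀ ≫ V₀.ι) = inv ε ≫ j ≫ U₀.ι := by
    rw [IsIso.eq_inv_comp, ← Category.assoc, hει, hι₀fst]
  have hflf : Mor2.IsFinLocFreeOfDeg d (I.subschemeι ≫ pullback.snd f (t₀ ≫ V₀.ι)) := by
    rw [hIsnd]
    refine ⟨⟨(MorphismProperty.cancel_left_of_respectsIso @IsFinite (inv ε) π).mpr hfin,
      (MorphismProperty.cancel_left_of_respectsIso @Flat (inv ε) π).mpr hflat,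
      (MorphismProperty.cancel_left_of_respectsIso @LocallyOfFinitePresentation (inv ε) π).mpr
        hlfp⟩, fun y => ?_⟩
    rw [Scheme.Hom.finrank_comp_left_of_isIso]
    exact hrank y
  have hbijε : Function.Bijective (inv ε).appTop.hom := by
    have h1 : (inv ε).appTop ≫ ε.appTop = 𝟙 _ := by
      rw [← Scheme.Hom.comp_appTop, IsIso.hom_inv_id, Scheme.Hom.id_appTop]
    have h2 : ε.appTop ≫ (inv ε).appTop = 𝟙 _ := by
      rw [← Scheme.Hom.comp_appTop, IsIso.inv_hom_id, Scheme.Hom.id_appTop]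
    refine Function.bijective_iff_has_inverse.mpr ⟨ε.appTop.hom, fun x => ?_, fun x => ?_⟩
    · exact congrArg (fun m => m.hom x) h1
    · exact congrArg (fun m => m.hom x) h2
  obtain ⟨MI, hMIβ, hMIρ⟩ : ∃ MI : Model (D.map (Scheme.ΓSpecIso R).inv.hom) Γ(I.subscheme, ⊤),
      MI.β = (inv ε ≫ j).appTop.hom ∧
      MI.ρ = (I.subschemeι ≫ pullback.snd f (t₀ ≫ V₀.ι)).appTop.hom :=
    ⟨Model.transportC MT (inv ε).appTop.hom hbijε
      (inv ε ≫ j).appTop.hom (I.subschemeι ≫ pullback.snd f (t₀ ≫ V₀.ι)).appTop.hom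
      (fun b => by rw [hMTβ, Scheme.Hom.comp_appTop]; rfl)
      (fun r => by rw [hMTρ, hIsnd, Scheme.Hom.comp_appTop]; rfl), rfl, rfl⟩
  have hdat : IsDat f d V₀ U₀ e w (t₀ ≫ V₀.ι) I (D.map (Scheme.ΓSpecIso R).inv.hom) := by
    refine ⟨t₀, inv ε ≫ j, rfl, ?_, ?_, ?_, ?_⟩
    · rw [Category.assoc]
      exact hIfst.symm
    · exact (congrArg CommRingCat.Hom.hom ht₀).symm
    · have := MI.bij
      rw [hMIβ, hMIρ] at this
      exact this
    · have := MI.coord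
      rw [hMIβ, hMIρ] at this
      exact this
  exact ⟨mkH f d (t₀ ≫ V₀.ι) I hflf, hdat⟩

include e in
/-- the universal family of the piece and its universal property on affine schemes -/
theorem exists_univ [IsSeparated f] (hV₀ : IsAffineOpen V₀) (hU₀ : IsAffineOpen U₀) :
    ∃ (RU : CommRingCat.{u}) (ξ : LObj (hG f d) (Spec RU)), Good f d V₀ U₀ w ξ ∧
      (∀ (T : Scheme.{u}) [IsAffine T] (a₁ a₂ : T ⟶ Spec RU),
        lmap (hG f d) a₁ ξ = lmap (hG f d) a₂ ξ → a₁ = a₂) ∧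
      (∀ (T : Scheme.{u}) [IsAffine T] (y : LObj (hG f d) T), Good f d V₀ U₀ w y →
        ∃ a : T ⟶ Spec RU, lmap (hG f d) a ξ = y) := by
  haveI : IsAffine V₀.toScheme := hV₀
  obtain ⟨C, _, ⟨M⟩⟩ := exists_model (univDat (ph f V₀ U₀ e) w)
  obtain ⟨RU, hRU⟩ : ∃ RU : CommRingCat.{u}, RU = CommRingCat.of (Runiv (ph f V₀ U₀ e) w) :=
    ⟨_, rfl⟩
  subst hRU
  obtain ⟨ξ, hξ⟩ := exists_fam f d V₀ U₀ e w hV₀ hU₀
    (CommRingCat.of (Runiv (ph f V₀ U₀ e) w)) (univDat (ph f V₀ U₀ e) w) M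
  have key : ∀ (T : Scheme.{u}) [IsAffine T]
      (a : T ⟶ Spec (CommRingCat.of (Runiv (ph f V₀ U₀ e) w)))
      (D' : Dat (ph f V₀ U₀ e) w Γ(T, ⊤)), IsDatL f d V₀ U₀ e w (lmap (hG f d) a ξ) D' →
      D' = (univDat (ph f V₀ U₀ e) w).map (rh a).hom := by
    intro T _ a D' hD'
    rw [isDatL_map a ξ hξ hD', Dat.map_map]
    rfl
  refine ⟨_, ξ, hξ.good, ?_, ?_⟩
  · intro T _ a₁ a₂ heq
    have hg := good_lmap f d V₀ U₀ w a₁ ξ hξ.good
    obtain ⟨D', hD'⟩ := exists_isDatL (e := e) _ hg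
    have h1 := key T a₁ D' hD'
    rw [heq] at hD'
    have h2 := key T a₂ D' hD'
    apply rh_injective
    apply CommRingCat.hom_ext
    apply Groth.Agent.H4.HbA.hom_ext
    rw [← h1, ← h2]
  · intro T _ y hy
    obtain ⟨D', hD'⟩ := exists_isDatL (e := e) y hy
    obtain ⟨a, ha⟩ : ∃ a : T ⟶ Spec (CommRingCat.of (Runiv (ph f V₀ U₀ e) w)),
        rh a = CommRingCat.ofHom (lift D') :=
      ⟨T.toSpecΓ ≫ Spec.map (CommRingCat.ofHom (lift D')), rh_toSpecΓ_SpecMap _⟩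
    refine ⟨a, ?_⟩
    have hg := good_lmap f d V₀ U₀ w a ξ hξ.good
    obtain ⟨D'', hD''⟩ := exists_isDatL (e := e) _ hg
    have h1 := key T a D'' hD''
    rw [ha] at h1
    have h2 : D'' = D' := h1.trans (map_lift_univ D')
    rw [h2] at hD''
    refine isDatL_unique hU₀ _ _ ?_ hD'' hD'
    -- the structure morphisms agree
    obtain ⟨tW, -, hW1, -, hWα, -, -⟩ := hξ
    obtain ⟨t₀', -, h1', -, hα', -, -⟩ := hD'
    show a ≫ ξ.1 = y.1
    rw [← hW1, ← h1']
    rw [← Category.assoc]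
    congr 1
    apply ext_of_isAffine
    apply CommRingCat.hom_ext
    rw [Scheme.Hom.comp_appTop, CommRingCat.hom_comp, ← hWα, ← hα']
    have h3 := congrArg Dat.α (map_lift_univ D')
    rw [← h3]
    have h4 := congrArg CommRingCat.Hom.hom ha
    show a.appTop.hom.comp ((Scheme.ΓSpecIso _).inv.hom.comp (univDat (ph f V₀ U₀ e) w).α) = _
    rw [← RingHom.comp_assoc]
    exact congrArg (fun m => m.comp (univDat (ph f V₀ U₀ e) w).α) h4

end Univ

end Groth.Agent.H4.HbE
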