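import Mathlib
import Groth.Agent.H4.HbA

/-! helper4: finite algebras over a field: number of points and bases from a spanning
subring image. -/

set_option autoImplicit false

universe u

noncomputable section

namespace Groth.Agent.H4.HbF

open Groth.Agent.H4.HbA

/-- a finite-dimensional algebra over a field has at most `dim` primes -/
theorem card_le_field (K C : Type u) [Field K] [CommRing C] [Algebra K C] [Module.Finite K C] :
    Finite (PrimeSpectrum C) ∧ Nat.card (PrimeSpectrum C) ≤ Module.finrank K C := by
  haveI : IsArtinianRing C := IsArtinianRing.of_finite K C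
  haveI : Finite (PrimeSpectrum C) := inferInstance
  refine ⟨inferInstance, ?_⟩
  letI : Fintype (PrimeSpectrum C) := Fintype.ofFinite _
  rw [IsArtinianRing.finrank_eq_sum_primeSpectrum C K, Nat.card_eq_fintype_card,
    Fintype.card_eq_sum_ones]
  refine Finset.sum_le_sum fun p _ => ?_
  haveI : Module.Finite K (Localization.AtPrime p.asIdeal) :=
    Module.Finite.of_surjective (Algebra.algHom K C (Localization.AtPrime p.asIdeal)).toLinearMap
      (IsArtinianRing.localization_surjective p.asIdeal.primeCompl
        (Localization.AtPrime p.asIdeal))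
  exact Module.finrank_pos

theorem exists_w_field {K B C : Type u} [Field K] [CommRing B] [CommRing C] [Algebra K C]
    [Module.Finite K C] (β : B →+* C) (hspan : Submodule.span K (Set.range β) = ⊤) {d : ℕ}
    (hd : Module.finrank K C = d) :
    ∃ w : Fin d → B, Submodule.span K (Set.range (fun k => β (w k))) = ⊤ := by
  obtain ⟨g, hg1, hg2, -⟩ := Submodule.exists_fun_fin_finrank_span_eq K (Set.range ⇑β)
  have hd' : Module.finrank K (Submodule.span K (Set.range ⇑β)) = d := by
    rw [hspan, finrank_top]
    exact hd
  choose w' hw' using hg1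
  refine ⟨fun k => w' (finCongr hd'.symm k), ?_⟩
  have e1 : (fun k => β (w' (finCongr hd'.symm k))) = g ∘ (finCongr hd'.symm) := by
    funext k
    exact hw' _
  rw [e1, EquivLike.range_comp, hg2, hspan]

section Wrap

variable {R B C : Type u} [CommRing R] [CommRing B] [CommRing C]

lemma finrank_eq_of_isField (hR : IsField R) (ρ : R →+* C) (hfin : ρ.Finite) {d : ℕ}
    (hrank : ∀ p, ρ.finrank p = d) :
    letI := hR.toField
    letI := ρ.toAlgebra
    Module.finrank R C = d := by
  letI := hR.toField
  letI := ρ.toAlgebra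
  haveI : Module.Finite R C := hfin
  have h1 : Module.rankAtStalk (R := R) C (⟨⊥, Ideal.isPrime_bot⟩ : PrimeSpectrum R) = d :=
    hrank _
  rw [Module.rankAtStalk_eq_finrank_of_free] at h1
  simpa using h1

theorem alg_card (hR : IsField R) (ρ : R →+* C) (hfin : ρ.Finite) {d : ℕ}
    (hrank : ∀ p, ρ.finrank p = d) :
    Finite (PrimeSpectrum C) ∧ Nat.card (PrimeSpectrum C) ≤ d := by
  have hd := finrank_eq_of_isField hR ρ hfin hrank
  letI := hR.toField
  letI := ρ.toAlgebra
  haveI : Module.Finite R C := hfin
  have := card_le_field R C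
  rw [hd] at this
  exact this

theorem alg_w (hR : IsField R) (ρ : R →+* C) (β : B →+* C) (hfin : ρ.Finite) {d : ℕ}
    (hrank : ∀ p, ρ.finrank p = d)
    (hspan : ∀ (Q : C → Prop), Q 0 → (∀ x y, Q x → Q y → Q (x + y)) →
      (∀ r b, Q (ρ r * β b)) → ∀ c, Q c) :
    ∃ w : Fin d → B, Function.Surjective (comb ρ (fun k => β (w k))) := by
  have hd := finrank_eq_of_isField hR ρ hfin hrank
  letI := hR.toField
  letI := ρ.toAlgebra
  haveI : Module.Finite R C := hfin
  have hsp : Submodule.span R (Set.range ⇑β) = ⊤ := by
    rw [eq_top_iff]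
    intro c _
    refine hspan (fun c => c ∈ Submodule.span R (Set.range ⇑β)) (Submodule.zero_mem _)
      (fun x y hx hy => Submodule.add_mem _ hx hy) (fun r b => ?_) c
    have e1 : ρ r * β b = r • β b := (Algebra.smul_def r (β b)).symm
    rw [e1]
    exact Submodule.smul_mem _ _ (Submodule.subset_span ⟨b, rfl⟩)
  obtain ⟨w, hw⟩ := exists_w_field β hsp hd
  refine ⟨w, fun c => ?_⟩
  have hc : c ∈ Submodule.span R (Set.range (fun k => β (w k))) := by
    rw [hw]
    trivial
  obtain ⟨a, ha⟩ := (Submodule.mem_span_range_iff_exists_fun R).mp hc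
  refine ⟨a, ?_⟩
  rw [← ha]
  unfold comb
  refine Finset.sum_congr rfl fun k _ => ?_
  exact (Algebra.smul_def (a k) (β (w k))).symm

end Wrap

end Groth.Agent.H4.HbF
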