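import Mathlib

/-! helper4: the universal algebra representing `C ↦ Hom_A(B, C ⊗[A] E)` for `E` finite projective. -/

set_option autoImplicit false

universe u

open TensorProduct MvPolynomial

noncomputable section

namespace Groth.Agent.H4.HomA2

variable {A : Type u} [CommRing A] {E : Type u} [CommRing E] [Algebra A E]
  {ι : Type} [Fintype ι] [DecidableEq ι] (e : ι → E) (lam : ι → (E →ₗ[A] A))

section Coord

variable (C : Type u) [CommRing C] [Algebra A C]

/-- the point of `C ⊗ E` with given coordinates -/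
def pt {I : Type u} (y : I × ι → C) (i : I) : C ⊗[A] E := ∑ j, y (i, j) ⊗ₜ[A] e j

/-- the coordinates of an element of `C ⊗ E` -/
def coord (j : ι) : C ⊗[A] E →ₗ[A] C :=
  (TensorProduct.rid A C).toLinearMap ∘ₗ LinearMap.lTensor C (lam j)

variable {C}

omit [Fintype ι] [DecidableEq ι] in
lemma coord_tmul (c : C) (m : E) (j : ι) :
    coord lam C j (c ⊗ₜ[A] m) = c * algebraMap A C (lam j m) := by
  unfold coord
  rw [LinearMap.comp_apply, LinearMap.lTensor_tmul, LinearEquiv.coe_coe, TensorProduct.rid_tmul,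
    Algebra.smul_def, mul_comm]

variable (hel : ∀ x : E, ∑ j, lam j x • e j = x)

include hel in
lemma sum_coord (d : C ⊗[A] E) : ∑ j, coord lam C j d ⊗ₜ[A] e j = d := by
  induction d using TensorProduct.induction_on with
  | zero => simp
  | tmul c m =>
    have : ∀ j, coord lam C j (c ⊗ₜ[A] m) ⊗ₜ[A] e j = c ⊗ₜ[A] (lam j m • e j) := by
      intro j
      rw [coord_tmul, mul_comm, ← Algebra.smul_def, TensorProduct.smul_tmul]
    simp only [this]
    rw [← TensorProduct.tmul_sum, hel]
  | add d d' hd hd' =>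
    simp only [map_add, TensorProduct.add_tmul, Finset.sum_add_distrib, hd, hd']

include hel in
lemma eq_zero_of_coord (d : C ⊗[A] E) (h : ∀ j, coord lam C j d = 0) : d = 0 := by
  rw [← sum_coord e lam hel d]
  simp [h]

omit [DecidableEq ι] in
lemma coord_pt {I : Type u} (y : I × ι → C) (i : I) (k : ι) :
    coord lam C k (pt e C y i) = ∑ j, y (i, j) * algebraMap A C (lam k (e j)) := by
  unfold pt
  rw [map_sum]
  simp only [coord_tmul]

include hel in
lemma pt_coord {I : Type u} (x : I → C ⊗[A] E) (i : I) :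
    pt e C (fun p => coord lam C p.2 (x p.1)) i = x i :=
  sum_coord e lam hel (x i)

include hel in
lemma coord_idem (d : C ⊗[A] E) (k : ι) :
    coord lam C k d = ∑ j, coord lam C j d * algebraMap A C (lam k (e j)) := by
  conv_lhs => rw [← sum_coord e lam hel d]
  rw [map_sum]
  simp only [coord_tmul]

variable {C' : Type u} [CommRing C'] [Algebra A C']

omit [DecidableEq ι] in
lemma map_pt {I : Type u} (ψ : C →ₐ[A] C') (y : I × ι → C) (i : I) :
    Algebra.TensorProduct.map ψ (AlgHom.id A E) (pt e C y i) = pt e C' (fun p => ψ (y p)) i := by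
  unfold pt
  rw [map_sum]
  refine Finset.sum_congr rfl fun j _ => ?_
  rw [Algebra.TensorProduct.map_tmul, AlgHom.id_apply]

omit [Fintype ι] [DecidableEq ι] in
lemma coord_map (ψ : C →ₐ[A] C') (d : C ⊗[A] E) (j : ι) :
    coord lam C' j (Algebra.TensorProduct.map ψ (AlgHom.id A E) d) = ψ (coord lam C j d) := by
  induction d using TensorProduct.induction_on with
  | zero => rw [map_zero, map_zero, map_zero, map_zero]
  | tmul c m =>
    rw [Algebra.TensorProduct.map_tmul, AlgHom.id_apply, coord_tmul, coord_tmul, map_mul,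
      AlgHom.commutes]
  | add d d' hd hd' => rw [map_add, map_add, map_add, hd, hd', map_add]

end Coord

section Univ

variable {I : Type u} (s : Set (MvPolynomial I A))

/-- the polynomial ring on the coordinates -/
abbrev PP (A : Type u) [CommRing A] (ι : Type) (I : Type u) : Type u := MvPolynomial (I × ι) A

/-- the universal point -/
def x₀ (i : I) : PP A ι I ⊗[A] E := pt e (PP A ι I) (fun p => X p) i

/-- the ideal of relations -/
def relIdeal : Ideal (PP A ι I) :=
  Ideal.span ({p | ∃ f ∈ s, ∃ j, p = coord lam (PP A ι I) j (aeval (x₀ e) f)} ∪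
    {p | ∃ (i : I) (k : ι), p = X (i, k) - ∑ j, X (i, j) * algebraMap A (PP A ι I) (lam k (e j))})

/-- the universal algebra -/
abbrev UU : Type u := PP A ι I ⧸ relIdeal e lam s

/-- the quotient map -/
abbrev qq : PP A ι I →ₐ[A] UU e lam s := Ideal.Quotient.mkₐ A (relIdeal e lam s)

/-- the universal point over `UU` -/
def xU (i : I) : UU e lam s ⊗[A] E :=
  Algebra.TensorProduct.map (qq e lam s) (AlgHom.id A E) (x₀ e i)

lemma xU_eq (i : I) : xU e lam s i = pt e (UU e lam s) (fun p => qq e lam s (X p)) i := by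
  unfold xU x₀
  rw [map_pt]

lemma aeval_xU (f : MvPolynomial I A) :
    aeval (xU e lam s) f =
      Algebra.TensorProduct.map (qq e lam s) (AlgHom.id A E) (aeval (x₀ e) f) := by
  have h := comp_aeval (R := A) (B := UU e lam s ⊗[A] E) (f := x₀ (A := A) (I := I) e)
    (Algebra.TensorProduct.map (qq e lam s) (AlgHom.id A E))
  exact (AlgHom.congr_fun h f).symm

lemma qq_idem (i : I) (k : ι) :
    qq e lam s (X (i, k)) =
      ∑ j, qq e lam s (X (i, j)) * algebraMap A (UU e lam s) (lam k (e j)) := by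
  have h : qq e lam s (X (i, k) - ∑ j, X (i, j) * algebraMap A (PP A ι I) (lam k (e j))) = 0 :=
    Ideal.Quotient.eq_zero_iff_mem.mpr (Ideal.subset_span (Or.inr ⟨i, k, rfl⟩))
  rw [map_sub, sub_eq_zero] at h
  rw [h, map_sum]
  refine Finset.sum_congr rfl fun j _ => ?_
  rw [map_mul, AlgHom.commutes]

variable (hel : ∀ x : E, ∑ j, lam j x • e j = x)

include hel in
lemma aeval_xU_eq_zero {f : MvPolynomial I A} (hf : f ∈ s) : aeval (xU e lam s) f = 0 := by
  apply eq_zero_of_coord e lam hel
  intro j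
  rw [aeval_xU, coord_map]
  exact Ideal.Quotient.eq_zero_iff_mem.mpr (Ideal.subset_span (Or.inl ⟨f, hf, j, rfl⟩))

variable {C : Type u} [CommRing C] [Algebra A C]

include hel in
lemma exists_of_point (x : I → C ⊗[A] E) (hx : ∀ f ∈ s, aeval x f = 0) :
    ∃ ψ : UU e lam s →ₐ[A] C,
      ∀ i, Algebra.TensorProduct.map ψ (AlgHom.id A E) (xU e lam s i) = x i := by
  let ψ₀ : PP A ι I →ₐ[A] C := aeval (fun p => coord lam C p.2 (x p.1))
  have h0 : ∀ i, Algebra.TensorProduct.map ψ₀ (AlgHom.id A E) (x₀ e i) = x i := by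
    intro i
    unfold x₀
    rw [map_pt]
    have : (fun p : I × ι => ψ₀ (X p)) = fun p => coord lam C p.2 (x p.1) := by
      funext p
      exact aeval_X _ _
    rw [this, pt_coord e lam hel]
  have h1 : ∀ f : MvPolynomial I A,
      Algebra.TensorProduct.map ψ₀ (AlgHom.id A E) (aeval (x₀ e) f) = aeval x f := by
    intro f
    have h := comp_aeval (R := A) (B := C ⊗[A] E) (f := x₀ (A := A) (I := I) e)
      (Algebra.TensorProduct.map ψ₀ (AlgHom.id A E))
    have h' := AlgHom.congr_fun h f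
    rw [AlgHom.comp_apply] at h'
    rw [h', show (fun i => Algebra.TensorProduct.map ψ₀ (AlgHom.id A E) (x₀ e i)) = x from
      funext h0]
  have hk : ∀ p ∈ relIdeal e lam s, ψ₀ p = 0 := by
    intro p hp
    have : relIdeal e lam s ≤ RingHom.ker ψ₀.toRingHom := by
      unfold relIdeal
      rw [Ideal.span_le]
      rintro _ (⟨f, hf, j, rfl⟩ | ⟨i, k, rfl⟩)
      · rw [SetLike.mem_coe, RingHom.mem_ker]
        change ψ₀ _ = 0
        rw [← coord_map, h1, hx f hf, map_zero]
      · rw [SetLike.mem_coe, RingHom.mem_ker]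
        change ψ₀ _ = 0
        rw [map_sub, map_sum, sub_eq_zero]
        have e1 : ∀ p : I × ι, ψ₀ (X p) = coord lam C p.2 (x p.1) := fun p => aeval_X _ _
        rw [e1]
        simp only [map_mul, e1, AlgHom.commutes]
        exact coord_idem e lam hel (x i) k
    exact RingHom.mem_ker.mp (this hp)
  refine ⟨Ideal.Quotient.liftₐ (relIdeal e lam s) ψ₀ hk, fun i => ?_⟩
  unfold xU
  rw [← AlgHom.comp_apply, ← Algebra.TensorProduct.map_comp]
  have : (Ideal.Quotient.liftₐ (relIdeal e lam s) ψ₀ hk).comp (qq e lam s) = ψ₀ := by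
    ext p
    simp
  rw [this, AlgHom.comp_id]
  exact h0 i

lemma unique_of_point (ψ ψ' : UU e lam s →ₐ[A] C)
    (h : ∀ i, Algebra.TensorProduct.map ψ (AlgHom.id A E) (xU e lam s i) =
      Algebra.TensorProduct.map ψ' (AlgHom.id A E) (xU e lam s i)) : ψ = ψ' := by
  have key : ∀ p : I × ι, ψ (qq e lam s (X p)) = ψ' (qq e lam s (X p)) := by
    rintro ⟨i, k⟩
    have h1 : coord lam C k (Algebra.TensorProduct.map ψ (AlgHom.id A E) (xU e lam s i)) =
        coord lam C k (Algebra.TensorProduct.map ψ' (AlgHom.id A E) (xU e lam s i)) := by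
      rw [h i]
    rw [xU_eq, map_pt, map_pt, coord_pt, coord_pt] at h1
    have h2 : ∀ φ : UU e lam s →ₐ[A] C, φ (qq e lam s (X (i, k))) =
        ∑ j, φ (qq e lam s (X (i, j))) * algebraMap A C (lam k (e j)) := by
      intro φ
      rw [qq_idem e lam s i k, map_sum]
      refine Finset.sum_congr rfl fun j _ => ?_
      rw [map_mul, AlgHom.commutes]
    rw [h2 ψ, h2 ψ']
    exact h1
  have h2 : ψ.comp (qq e lam s) = ψ'.comp (qq e lam s) := by
    apply MvPolynomial.algHom_ext
    intro p
    exact key p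
  apply AlgHom.ext
  intro y
  obtain ⟨p, rfl⟩ := Ideal.Quotient.mk_surjective y
  exact AlgHom.congr_fun h2 p

end Univ

section Main

variable {B : Type u} [CommRing B] [Algebra A B] (hel : ∀ x : E, ∑ j, lam j x • e j = x)

include hel in
/-- the universal property in presentation form -/
theorem univ_of_presentation {I : Type u} (π : MvPolynomial I A →ₐ[A] B)
    (hπ : Function.Surjective π) (s : Set (MvPolynomial I A))
    (hs : RingHom.ker π.toRingHom = Ideal.span s) :
    ∃ Φ : B →ₐ[A] UU e lam s ⊗[A] E,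
      ∀ (C : Type u) [CommRing C] [Algebra A C] (β : B →ₐ[A] C ⊗[A] E),
        ∃! ψ : UU e lam s →ₐ[A] C, (Algebra.TensorProduct.map ψ (AlgHom.id A E)).comp Φ = β := by
  have hker : RingHom.ker π.toRingHom ≤ RingHom.ker (aeval (xU e lam s)).toRingHom := by
    rw [hs, Ideal.span_le]
    intro f hf
    rw [SetLike.mem_coe, RingHom.mem_ker]
    exact aeval_xU_eq_zero e lam s hel hf
  obtain ⟨Φ, hΦ⟩ : ∃ Φ : B →ₐ[A] UU e lam s ⊗[A] E, ∀ i, Φ (π (X i)) = xU e lam s i := by
    refine ⟨AlgHom.liftOfSurjective π hπ (aeval (xU e lam s)) hker, fun i => ?_⟩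
    rw [AlgHom.liftOfSurjective_apply, aeval_X]
  refine ⟨Φ, ?_⟩
  intro C _ _ β
  have hx : ∀ f ∈ s, aeval (fun i => β (π (X i))) f = 0 := by
    intro f hf
    have h1 : aeval (fun i => β (π (X i))) = β.comp π := by
      apply MvPolynomial.algHom_ext
      intro i
      rw [aeval_X, AlgHom.comp_apply]
    rw [h1, AlgHom.comp_apply]
    have : π f = 0 := by
      have : f ∈ RingHom.ker π.toRingHom := by
        rw [hs]
        exact Ideal.subset_span hf
      exact RingHom.mem_ker.mp this
    rw [this, map_zero]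
  obtain ⟨ψ, hψ⟩ := exists_of_point e lam s hel (fun i => β (π (X i))) hx
  refine ⟨ψ, ?_, ?_⟩
  · apply AlgHom.ext
    intro y
    obtain ⟨p, rfl⟩ := hπ y
    have h2 : ((Algebra.TensorProduct.map ψ (AlgHom.id A E)).comp Φ).comp π = β.comp π := by
      apply MvPolynomial.algHom_ext
      intro i
      rw [AlgHom.comp_apply, AlgHom.comp_apply, hΦ, hψ, AlgHom.comp_apply]
    exact AlgHom.congr_fun h2 p
  · intro ψ' hψ'
    apply unique_of_point e lam s
    intro i
    rw [hψ]
    have h3 := AlgHom.congr_fun hψ' (π (X i))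
    rw [AlgHom.comp_apply, hΦ] at h3
    exact h3

include hel in
/-- the universal property: existence of the representing algebra -/
theorem exists_univ_dual :
    ∃ (U : Type u) (_ : CommRing U) (_ : Algebra A U) (Φ : B →ₐ[A] U ⊗[A] E),
      ∀ (C : Type u) [CommRing C] [Algebra A C] (β : B →ₐ[A] C ⊗[A] E),
        ∃! ψ : U →ₐ[A] C, (Algebra.TensorProduct.map ψ (AlgHom.id A E)).comp Φ = β := by
  let π : MvPolynomial B A →ₐ[A] B := aeval id
  have hπ : Function.Surjective π := fun y => ⟨X y, aeval_X _ _⟩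
  obtain ⟨Φ, hΦ⟩ := univ_of_presentation e lam hel π hπ
    (RingHom.ker π.toRingHom : Set (MvPolynomial B A)) (Ideal.span_eq _).symm
  exact ⟨_, _, _, Φ, hΦ⟩

include hel in
/-- finite presentation of the representing algebra -/
theorem exists_univ_fp_dual [Algebra.FinitePresentation A B] :
    ∃ (U : Type u) (_ : CommRing U) (_ : Algebra A U) (Φ : B →ₐ[A] U ⊗[A] E),
      Algebra.FinitePresentation A U ∧
      ∀ (C : Type u) [CommRing C] [Algebra A C] (β : B →ₐ[A] C ⊗[A] E),
        ∃! ψ : U →ₐ[A] C, (Algebra.TensorProduct.map ψ (AlgHom.id A E)).comp Φ = β := by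
  obtain ⟨I, _, π, hπ, hfg⟩ := Algebra.FinitePresentation.iff_quotient_mvPolynomial'.mp
    (inferInstance : Algebra.FinitePresentation A B)
  obtain ⟨t, ht⟩ := hfg
  obtain ⟨Φ, hΦ⟩ := univ_of_presentation e lam hel π hπ (t : Set (MvPolynomial I A)) ht.symm
  refine ⟨_, _, _, Φ, ?_, hΦ⟩
  apply Algebra.FinitePresentation.quotient
  classical
  refine ⟨(t ×ˢ (Finset.univ : Finset ι)).image
    (fun fj => coord lam (PP A ι I) fj.2 (aeval (x₀ e) fj.1)) ∪
    ((Finset.univ : Finset I) ×ˢ (Finset.univ : Finset ι)).image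
    (fun ik => X (ik.1, ik.2) -
      ∑ j, X (ik.1, j) * algebraMap A (PP A ι I) (lam ik.2 (e j))), ?_⟩
  unfold relIdeal
  congr 1
  ext p
  simp only [Finset.coe_union, Finset.coe_image, Finset.coe_product, Finset.coe_univ, Set.mem_union,
    Set.mem_image, Set.mem_prod, Finset.mem_coe, Set.mem_univ, and_true, Prod.exists,
    Set.mem_setOf_eq, true_and]
  constructor
  · rintro (⟨f, j, hf, rfl⟩ | ⟨i, k, rfl⟩)
    · exact Or.inl ⟨f, hf, j, rfl⟩
    · exact Or.inr ⟨i, k, rfl⟩
  · rintro (⟨f, hf, j, rfl⟩ | ⟨i, k, rfl⟩)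
    · exact Or.inl ⟨f, j, hf, rfl⟩
    · exact Or.inr ⟨i, k, rfl⟩

end Main

section Final

variable {A : Type u} [CommRing A] {E : Type u} [CommRing E] [Algebra A E]
  [Module.Projective A E] [Module.Finite A E] {B : Type u} [CommRing B] [Algebra A B]

lemma exists_dual :
    ∃ (n : ℕ) (e : Fin n → E) (lam : Fin n → (E →ₗ[A] A)), ∀ x : E, ∑ j, lam j x • e j = x := by
  obtain ⟨n, f, g, -, -, hfg⟩ := Module.Finite.exists_comp_eq_id_of_projective A E
  refine ⟨n, fun j => f (Pi.single j 1), fun j => (LinearMap.proj j).comp g, fun x => ?_⟩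
  have h1 : f (g x) = x := LinearMap.congr_fun hfg x
  have h2 : g x = ∑ j, (g x) j • (Pi.single j 1 : Fin n → A) := by
    ext k
    simp [Finset.sum_apply, Pi.single_apply]
  conv_rhs => rw [← h1, h2, map_sum]
  refine Finset.sum_congr rfl fun j _ => ?_
  rw [map_smul]
  rfl

theorem exists_univ :
    ∃ (U : Type u) (_ : CommRing U) (_ : Algebra A U) (Φ : B →ₐ[A] U ⊗[A] E),
      ∀ (C : Type u) [CommRing C] [Algebra A C] (β : B →ₐ[A] C ⊗[A] E),
        ∃! ψ : U →ₐ[A] C, (Algebra.TensorProduct.map ψ (AlgHom.id A E)).comp Φ = β := by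
  obtain ⟨n, e, lam, hel⟩ := exists_dual (A := A) (E := E)
  exact exists_univ_dual e lam hel

theorem exists_univ_fp [Algebra.FinitePresentation A B] :
    ∃ (U : Type u) (_ : CommRing U) (_ : Algebra A U) (Φ : B →ₐ[A] U ⊗[A] E),
      Algebra.FinitePresentation A U ∧
      ∀ (C : Type u) [CommRing C] [Algebra A C] (β : B →ₐ[A] C ⊗[A] E),
        ∃! ψ : U →ₐ[A] C, (Algebra.TensorProduct.map ψ (AlgHom.id A E)).comp Φ = β := by
  obtain ⟨n, e, lam, hel⟩ := exists_dual (A := A) (E := E)
  exact exists_univ_fp_dual e lam hel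

end Final

end Groth.Agent.H4.HomA2
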