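import Mathlib
import Groth.Prelude.Def_Flatn
import Groth.Prelude.Def_DescFam
import Groth.Agent.H4.HomB
import Groth.Agent.Lib.Helper3.DescSh.Affine

/-! helper4: representability by an affine morphism is local on the base (via effective descent
for affine morphisms). -/

set_option autoImplicit false

universe u

open CategoryTheory CategoryTheory.Limits AlgebraicGeometry Opposite Desc

noncomputable section

namespace Groth.Agent.H4.HomD

open Groth.Agent.H4.HomB

section LocRep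

variable {S : Scheme.{u}} (G : (Over S)ᵒᵖ ⥤ Type u) {ι : Type u} {X : ι → Scheme.{u}}
  (f : ∀ i, X i ⟶ S) (W : ∀ i, Over (X i))
  (R : ∀ i, ((Over.map (f i)).op ⋙ G).RepresentableBy (W i))

/-- the object of `Over S` attached to a point of `X i` -/
abbrev ob (i : ι) {T : Scheme.{u}} (x : T ⟶ X i) : Over S := (Over.map (f i)).obj (Over.mk x)

/-- the element of `G` attached to a lift -/
def gam (i : ι) {T : Scheme.{u}} (x : T ⟶ X i) (v : Lifts (W i) x) : G.obj (op (ob f i x)) :=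
  (R i).homEquiv (Over.homMk v.1 v.2 : Over.mk x ⟶ W i)

lemma gam_injective (i : ι) {T : Scheme.{u}} (x : T ⟶ X i) (v v' : Lifts (W i) x)
    (h : gam G f W R i x v = gam G f W R i x v') : v = v' := by
  have h1 := (R i).homEquiv.injective h
  apply Subtype.ext
  exact congrArg (fun m => Over.Hom.left m) h1

lemma gam_surjective (i : ι) {T : Scheme.{u}} (x : T ⟶ X i) (z : G.obj (op (ob f i x))) :
    ∃ v : Lifts (W i) x, gam G f W R i x v = z := by
  refine ⟨⟨((R i).homEquiv.symm z).left, Over.w ((R i).homEquiv.symm z)⟩, ?_⟩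
  unfold gam
  have : (Over.homMk ((R i).homEquiv.symm z).left (Over.w ((R i).homEquiv.symm z)) :
      Over.mk x ⟶ W i) = (R i).homEquiv.symm z := Over.OverMorphism.ext rfl
  rw [this, Equiv.apply_symm_apply]

/-- the morphism of `Over S` induced by a morphism of test schemes -/
abbrev mg (i : ι) {T T' : Scheme.{u}} (g : T' ⟶ T) (x : T ⟶ X i) : ob f i (g ≫ x) ⟶ ob f i x :=
  (Over.map (f i)).map (Over.homMk g rfl : Over.mk (g ≫ x) ⟶ Over.mk x)

lemma gam_natural (i : ι) {T T' : Scheme.{u}} (g : T' ⟶ T) (x : T ⟶ X i) (v : Lifts (W i) x) :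
    gam G f W R i (g ≫ x) ⟨g ≫ v.1, by rw [Category.assoc, v.2]⟩ =
      G.map (mg f i g x).op (gam G f W R i x v) := by
  unfold gam
  have h := (R i).homEquiv_comp (Over.homMk g rfl : Over.mk (g ≫ x) ⟶ Over.mk x)
    (Over.homMk v.1 v.2 : Over.mk x ⟶ W i)
  have e : (Over.homMk g rfl : Over.mk (g ≫ x) ⟶ Over.mk x) ≫
      (Over.homMk v.1 v.2 : Over.mk x ⟶ W i) =
      (Over.homMk (g ≫ v.1) (by rw [Category.assoc, v.2]; rfl) : Over.mk (g ≫ x) ⟶ W i) :=
    Over.OverMorphism.ext rfl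
  rw [e] at h
  exact h

/-- the transition morphism -/
def tr {i j : ι} {T : Scheme.{u}} {x₀ : T ⟶ X i} {x₁ : T ⟶ X j} (e : x₀ ≫ f i = x₁ ≫ f j) :
    ob f i x₀ ⟶ ob f j x₁ :=
  Over.homMk (𝟙 T) (by
    change 𝟙 T ≫ (x₁ ≫ f j) = x₀ ≫ f i
    rw [Category.id_comp, e])

@[simp] lemma tr_left {i j : ι} {T : Scheme.{u}} {x₀ : T ⟶ X i} {x₁ : T ⟶ X j}
    (e : x₀ ≫ f i = x₁ ≫ f j) : (tr f e).left = 𝟙 T := rfl

/-- the transition map on lifts -/
def phiFun {i j : ι} {T : Scheme.{u}} {x₀ : T ⟶ X i} {x₁ : T ⟶ X j}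
    (e : x₀ ≫ f i = x₁ ≫ f j) (v : Lifts (W i) x₀) : Lifts (W j) x₁ :=
  ⟨((R j).homEquiv.symm (G.map (tr f e.symm).op (gam G f W R i x₀ v))).left,
    Over.w ((R j).homEquiv.symm (G.map (tr f e.symm).op (gam G f W R i x₀ v)))⟩

lemma gam_phiFun {i j : ι} {T : Scheme.{u}} {x₀ : T ⟶ X i} {x₁ : T ⟶ X j}
    (e : x₀ ≫ f i = x₁ ≫ f j) (v : Lifts (W i) x₀) :
    gam G f W R j x₁ (phiFun G f W R e v) = G.map (tr f e.symm).op (gam G f W R i x₀ v) := by
  unfold phiFun gam
  have : ∀ a : Over.mk x₁ ⟶ W j, (Over.homMk a.left (Over.w a) : Over.mk x₁ ⟶ W j) = a :=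
    fun a => Over.OverMorphism.ext rfl
  simp only [this, Equiv.apply_symm_apply]

lemma map_id_apply' {T : Over S} (a : T ⟶ T) (ha : a.left = 𝟙 _) (x : G.obj (op T)) :
    G.map a.op x = x := by
  have : a = 𝟙 T := Over.OverMorphism.ext ha
  rw [this, op_id, Functor.map_id_apply]

lemma map_congr_left {T T' : Over S} (a b : T' ⟶ T) (h : a.left = b.left) (x : G.obj (op T)) :
    G.map a.op x = G.map b.op x := by
  have : a = b := Over.OverMorphism.ext h
  rw [this]

lemma phiFun_phiFun {i j : ι} {T : Scheme.{u}} {x₀ : T ⟶ X i} {x₁ : T ⟶ X j}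
    (e : x₀ ≫ f i = x₁ ≫ f j) (v : Lifts (W i) x₀) :
    phiFun G f W R e.symm (phiFun G f W R e v) = v := by
  apply gam_injective G f W R
  rw [gam_phiFun, gam_phiFun, ← map_comp_apply']
  exact map_id_apply' G _ (by simp) _

/-- the descent datum attached to local representing objects -/
def ddOfRep : SchDDFam f where
  obj := W
  φ T i j x₀ x₁ e :=
    { toFun := phiFun G f W R e
      invFun := phiFun G f W R e.symm
      left_inv := fun v => phiFun_phiFun G f W R e v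
      right_inv := fun v => phiFun_phiFun G f W R e.symm v }
  φ_natural T T' g i j x₀ x₁ h y₀ y₁ hy₀ hy₁ h' v v' hv := by
    subst hy₀ hy₁
    have hv' : v' = ⟨g ≫ v.1, by rw [Category.assoc, v.2]⟩ := Subtype.ext hv
    subst hv'
    have key : phiFun G f W R h' ⟨g ≫ v.1, by rw [Category.assoc, v.2]⟩ =
        ⟨g ≫ (phiFun G f W R h v).1, by rw [Category.assoc, (phiFun G f W R h v).2]⟩ := by
      apply gam_injective G f W R
      rw [gam_phiFun, gam_natural, gam_natural, gam_phiFun, ← map_comp_apply', ← map_comp_apply']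
      exact map_congr_left G _ _ (by simp) _
    exact congrArg Subtype.val key
  φ_self T i x v := by
    apply gam_injective G f W R
    change gam G f W R i x (phiFun G f W R rfl v) = _
    rw [gam_phiFun]
    exact map_id_apply' G _ (by simp) _
  φ_comp T i j k x₀ x₁ x₂ h₀₁ h₁₂ v := by
    apply gam_injective G f W R
    change gam G f W R k x₂ (phiFun G f W R h₁₂ (phiFun G f W R h₀₁ v)) =
      gam G f W R k x₂ (phiFun G f W R (h₀₁.trans h₁₂) v)
    rw [gam_phiFun, gam_phiFun, gam_phiFun, ← map_comp_apply']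
    exact map_congr_left G _ _ (by simp) _

end LocRep

section Eff

variable {S : Scheme.{u}} (G : (Over S)ᵒᵖ ⥤ Type u) {ι : Type u} {X : ι → Scheme.{u}}
  (f : ∀ i, X i ⟶ S) (W : ∀ i, Over (X i))
  (R : ∀ i, ((Over.map (f i)).op ⋙ G).RepresentableBy (W i))

lemma ddOfRep_effective (hf : Presieve.ofArrows X f ∈ Scheme.fpqcPrecoverage S)
    (hW : ∀ i, IsAffineHom (W i).hom) : (ddOfRep G f W R).IsEffective :=
  Groth.Agent.H3.DescSh.isEffective_of_fpqc_of_affine @IsAffineHom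
    (Groth.Agent.H3.DescSh.prop_sigmaMap_fin_of_isZariskiLocalAtTarget @IsAffineHom)
    (fun X' S' p' hX' hS' hfl hsurj D' hD' => by
      have : IsAffine X' := hX'
      have : IsAffine S' := hS'
      have : Flat p' := hfl
      have : Surjective p' := hsurj
      exact Groth.Agent.H3.DescSh.effective_of_isAffineHom p' D' hD')
    f hf (ddOfRep G f W R) (fun i => hW i)

variable (W₀ : Over S) (E : (toDDFam f).obj W₀ ≅ ddOfRep G f W R)

/-- the lift of the canonical datum attached to a point of `W₀` -/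
def lc {T : Over S} (i : ι) (x : T.left ⟶ X i) (h : x ≫ f i = T.hom) (a : T ⟶ W₀) :
    Lifts (((toDDFam f).obj W₀).obj i) x :=
  ⟨pullback.lift x a.left (by rw [h, Over.w a]), pullback.lift_fst _ _ _⟩

/-- the isomorphism between `T` and the object attached to the point `x` -/
def isoT {T : Over S} (i : ι) (x : T.left ⟶ X i) (h : x ≫ f i = T.hom) : T ⟶ ob f i x :=
  Over.homMk (𝟙 T.left) (by
    change 𝟙 _ ≫ (x ≫ f i) = T.hom
    rw [Category.id_comp, h])

/-- the inverse isomorphism -/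
def isoT' {T : Over S} (i : ι) (x : T.left ⟶ X i) (h : x ≫ f i = T.hom) : ob f i x ⟶ T :=
  Over.homMk (𝟙 T.left) (by
    change 𝟙 _ ≫ T.hom = x ≫ f i
    rw [Category.id_comp, h])

@[simp] lemma isoT_left {T : Over S} (i : ι) (x : T.left ⟶ X i) (h : x ≫ f i = T.hom) :
    (isoT f i x h).left = 𝟙 _ := rfl

@[simp] lemma isoT'_left {T : Over S} (i : ι) (x : T.left ⟶ X i) (h : x ≫ f i = T.hom) :
    (isoT' f i x h).left = 𝟙 _ := rfl

/-- the underlying morphism of `lc` -/
def lcv {T : Over S} (i : ι) (x : T.left ⟶ X i) (h : x ≫ f i = T.hom) (a : T ⟶ W₀) :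
    T.left ⟶ pullback (f i) W₀.hom :=
  pullback.lift x a.left (by rw [h, Over.w a])

lemma lc_val {T : Over S} (i : ι) (x : T.left ⟶ X i) (h : x ≫ f i = T.hom) (a : T ⟶ W₀) :
    (lc f W₀ i x h a).1 = lcv f W₀ i x h a := rfl

lemma lcv_comp {T T₁ : Over S} (d : T₁ ⟶ T) (i : ι) (x : T.left ⟶ X i)
    (h : x ≫ f i = T.hom) (h₁ : (d.left ≫ x) ≫ f i = T₁.hom) (a : T ⟶ W₀) :
    lcv f W₀ i (d.left ≫ x) h₁ (d ≫ a) = d.left ≫ lcv f W₀ i x h a := by
  unfold lcv
  apply pullback.hom_ext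
  · rw [pullback.lift_fst, Category.assoc, pullback.lift_fst]
  · rw [pullback.lift_snd, Category.assoc, pullback.lift_snd, Over.comp_left]

/-- the point of the local representing object attached to a point of `W₀` -/
def pv {T : Over S} (i : ι) (x : T.left ⟶ X i) (h : x ≫ f i = T.hom) (a : T ⟶ W₀) :
    Lifts (W i) x :=
  SchDDFam.Hom.push E.hom (lc f W₀ i x h a)

lemma pv_val {T : Over S} (i : ι) (x : T.left ⟶ X i) (h : x ≫ f i = T.hom) (a : T ⟶ W₀) :
    (pv G f W R W₀ E i x h a).1 = lcv f W₀ i x h a ≫ (E.hom.hom i).left := rfl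

/-- the comparison map on points -/
def kap {T : Over S} (i : ι) (x : T.left ⟶ X i) (h : x ≫ f i = T.hom) (a : T ⟶ W₀) :
    G.obj (op T) :=
  G.map (isoT f i x h).op (gam G f W R i x (pv G f W R W₀ E i x h a))

lemma kap_indep {T : Over S} (i j : ι) (x : T.left ⟶ X i) (h : x ≫ f i = T.hom)
    (x' : T.left ⟶ X j) (h' : x' ≫ f j = T.hom) (a : T ⟶ W₀) :
    kap G f W R W₀ E i x h a = kap G f W R W₀ E j x' h' a := by
  have e : x ≫ f i = x' ≫ f j := h.trans h'.symm
  have h1 := E.hom.comm x x' e (lc f W₀ i x h a) (SchDDFam.Hom.push E.hom (lc f W₀ i x h a)) rfl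
  have h2 : ((toDDFam f).obj W₀).φ x x' e (lc f W₀ i x h a) = lc f W₀ j x' h' a := by
    apply Subtype.ext
    change pullback.lift x' (lcv f W₀ i x h a ≫ pullback.snd (f i) W₀.hom) _ =
      pullback.lift x' a.left _
    congr 1
    exact pullback.lift_snd _ _ _
  rw [h2] at h1
  have h3 : phiFun G f W R e (pv G f W R W₀ E i x h a) = pv G f W R W₀ E j x' h' a :=
    Subtype.ext h1
  unfold kap
  rw [← h3, gam_phiFun, ← map_comp_apply']
  exact (map_congr_left G _ _ (by simp) _).symm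

lemma kap_natural {T T₁ : Over S} (d : T₁ ⟶ T) (i : ι) (x : T.left ⟶ X i)
    (h : x ≫ f i = T.hom) (h₁ : (d.left ≫ x) ≫ f i = T₁.hom) (a : T ⟶ W₀) :
    kap G f W R W₀ E i (d.left ≫ x) h₁ (d ≫ a) = G.map d.op (kap G f W R W₀ E i x h a) := by
  have h2 : pv G f W R W₀ E i (d.left ≫ x) h₁ (d ≫ a) =
      (⟨d.left ≫ (pv G f W R W₀ E i x h a).1, by
        rw [Category.assoc, (pv G f W R W₀ E i x h a).2]⟩ : Lifts (W i) (d.left ≫ x)) := by
    apply Subtype.ext
    change lcv f W₀ i (d.left ≫ x) h₁ (d ≫ a) ≫ (E.hom.hom i).left =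
      d.left ≫ (lcv f W₀ i x h a ≫ (E.hom.hom i).left)
    rw [lcv_comp f W₀ d i x h h₁ a, Category.assoc]
  unfold kap
  rw [h2, gam_natural, ← map_comp_apply', ← map_comp_apply']
  exact map_congr_left G _ _ (by simp) _

lemma push_inv_hom {T : Scheme.{u}} (i : ι) (x : T ⟶ X i)
    (v : Lifts (((toDDFam f).obj W₀).obj i) x) :
    SchDDFam.Hom.push E.inv (SchDDFam.Hom.push E.hom v) = v := by
  apply Subtype.ext
  have h1 : E.hom.hom i ≫ E.inv.hom i = 𝟙 _ := by
    rw [← Desc.SchDDFam.comp_hom, E.hom_inv_id, Desc.SchDDFam.id_hom]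
  have h2 := congrArg (fun m => Over.Hom.left m) h1
  simp only [Over.comp_left, Over.id_left] at h2
  change (v.1 ≫ (E.hom.hom i).left) ≫ (E.inv.hom i).left = v.1
  rw [Category.assoc, h2, Category.comp_id]

lemma push_hom_inv {T : Scheme.{u}} (i : ι) (x : T ⟶ X i)
    (v : Lifts ((ddOfRep G f W R).obj i) x) :
    SchDDFam.Hom.push E.hom (SchDDFam.Hom.push E.inv v) = v := by
  apply Subtype.ext
  have h1 : E.inv.hom i ≫ E.hom.hom i = 𝟙 _ := by
    rw [← Desc.SchDDFam.comp_hom, E.inv_hom_id, Desc.SchDDFam.id_hom]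
  have h2 := congrArg (fun m => Over.Hom.left m) h1
  simp only [Over.comp_left, Over.id_left] at h2
  change (v.1 ≫ (E.inv.hom i).left) ≫ (E.hom.hom i).left = v.1
  rw [Category.assoc, h2, Category.comp_id]

lemma kap_bijective {T : Over S} (i : ι) (x : T.left ⟶ X i) (h : x ≫ f i = T.hom) :
    Function.Bijective (kap G f W R W₀ E i x h) := by
  have hiso : ∀ z : G.obj (op (ob f i x)),
      G.map (isoT' f i x h).op (G.map (isoT f i x h).op z) = z := by
    intro z
    rw [← map_comp_apply']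
    exact map_id_apply' G _ (by simp) _
  have hiso' : ∀ z : G.obj (op T),
      G.map (isoT f i x h).op (G.map (isoT' f i x h).op z) = z := by
    intro z
    rw [← map_comp_apply']
    exact map_id_apply' G _ (by simp) _
  constructor
  · intro a a' haa
    have h1 : gam G f W R i x (pv G f W R W₀ E i x h a) =
        gam G f W R i x (pv G f W R W₀ E i x h a') := by
      have := congrArg (fun z => G.map (isoT' f i x h).op z) haa
      simp only [kap, hiso] at this
      exact this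
    have h2 : SchDDFam.Hom.push E.hom (lc f W₀ i x h a) =
        SchDDFam.Hom.push E.hom (lc f W₀ i x h a') := gam_injective G f W R i x _ _ h1
    have h3 : lc f W₀ i x h a = lc f W₀ i x h a' := by
      rw [← push_inv_hom G f W R W₀ E i x (lc f W₀ i x h a), h2, push_inv_hom]
    have h4 : lcv f W₀ i x h a = lcv f W₀ i x h a' := congrArg Subtype.val h3
    have h5 := congrArg (fun v => v ≫ pullback.snd (f i) W₀.hom) h4
    simp only [lcv, pullback.lift_snd] at h5
    exact Over.OverMorphism.ext h5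
  · intro z
    obtain ⟨v, hv⟩ := gam_surjective G f W R i x (G.map (isoT' f i x h).op z)
    obtain ⟨v₀, hv₀⟩ : ∃ v₀ : Lifts (((toDDFam f).obj W₀).obj i) x,
        v₀ = SchDDFam.Hom.push E.inv v := ⟨_, rfl⟩
    obtain ⟨w₀, hw₀⟩ : ∃ w₀ : T.left ⟶ pullback (f i) W₀.hom, w₀ = v₀.1 := ⟨_, rfl⟩
    have hv₀2 : w₀ ≫ pullback.fst (f i) W₀.hom = x := by rw [hw₀]; exact v₀.2
    have hw : (w₀ ≫ pullback.snd (f i) W₀.hom) ≫ W₀.hom = T.hom := by
      rw [Category.assoc, ← pullback.condition, ← Category.assoc, hv₀2, h]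
    refine ⟨Over.homMk (w₀ ≫ pullback.snd (f i) W₀.hom) hw, ?_⟩
    have h1 : lc f W₀ i x h (Over.homMk (w₀ ≫ pullback.snd (f i) W₀.hom) hw) = v₀ := by
      apply Subtype.ext
      rw [lc_val, ← hw₀]
      unfold lcv
      apply pullback.hom_ext
      · rw [pullback.lift_fst, hv₀2]
      · rw [pullback.lift_snd]
        rfl
    unfold kap pv
    rw [h1, hv₀, push_hom_inv, hv, hiso']

end Eff

section Final

variable {S : Scheme.{u}} (G : (Over S)ᵒᵖ ⥤ Type u) {ι : Type u} {X : ι → Scheme.{u}}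
  (f : ∀ i, X i ⟶ S)

/-- the test objects which factor through a member of the covering -/
def good (T : Over S) : Prop := ∃ (i : ι) (x : T.left ⟶ X i), x ≫ f i = T.hom

lemma good_cov (hf : Presieve.ofArrows X f ∈ Scheme.fpqcPrecoverage S) (T : Over S) :
    goodSieve (good f) T ∈ Scheme.fpqcTopology T.left := by
  have h1 : Sieve.generate (Presieve.ofArrows X f) ∈ Scheme.fpqcTopology S :=
    Precoverage.generate_mem_toGrothendieck hf
  refine GrothendieckTopology.superset_covering _ ?_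
    (Scheme.fpqcTopology.pullback_stable T.hom h1)
  rintro T' t ⟨Y, a, b, ⟨i⟩, hab⟩
  exact ⟨Over.mk (t ≫ T.hom), ⟨i, a, hab⟩, Over.homMk t rfl, 𝟙 _, Category.id_comp _⟩

theorem exists_rep_of_local (W : ∀ i, Over (X i))
    (R : ∀ i, ((Over.map (f i)).op ⋙ G).RepresentableBy (W i))
    (hf : Presieve.ofArrows X f ∈ Scheme.fpqcPrecoverage S)
    (hW : ∀ i, IsAffineHom (W i).hom)
    (hsep : ∀ (T : Over S) (x y : G.obj (op T)),
      (∀ (T₀ : Over S), good f T₀ → ∀ c : T₀ ⟶ T, G.map c.op x = G.map c.op y) → x = y)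
    (hglue : ∀ (T : Over S) (x : ∀ (T₀ : Over S), good f T₀ → (T₀ ⟶ T) → G.obj (op T₀)),
      (∀ (T₀ T₁ : Over S) (h₀ : good f T₀) (h₁ : good f T₁) (c : T₀ ⟶ T) (d : T₁ ⟶ T₀),
        G.map d.op (x T₀ h₀ c) = x T₁ h₁ (d ≫ c)) →
      ∃ y : G.obj (op T), ∀ (T₀ : Over S) (h₀ : good f T₀) (c : T₀ ⟶ T),
        G.map c.op y = x T₀ h₀ c) :
    ∃ W₀ : Over S, (∀ i, ∃ e : pullback (f i) W₀.hom ≅ (W i).left,
        e.hom ≫ (W i).hom = pullback.fst (f i) W₀.hom) ∧
      Nonempty (G.RepresentableBy W₀) := by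
  obtain ⟨W₀, ⟨E⟩⟩ := ddOfRep_effective G f W R hf hW
  refine ⟨W₀, fun i => ?_, ?_⟩
  · have h1 : (E.hom.hom i).left ≫ (W i).hom = pullback.fst (f i) W₀.hom := Over.w (E.hom.hom i)
    have k1 : E.hom.hom i ≫ E.inv.hom i = 𝟙 _ := by
      rw [← Desc.SchDDFam.comp_hom, E.hom_inv_id, Desc.SchDDFam.id_hom]
    have k2 : E.inv.hom i ≫ E.hom.hom i = 𝟙 _ := by
      rw [← Desc.SchDDFam.comp_hom, E.inv_hom_id, Desc.SchDDFam.id_hom]
    exact ⟨⟨(E.hom.hom i).left, (E.inv.hom i).left, congrArg (fun m => Over.Hom.left m) k1,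
        congrArg (fun m => Over.Hom.left m) k2⟩, h1⟩
  · choose ci cx ch using (fun (T₀ : Over S) (h : good f T₀) => h)
    obtain ⟨ξ, hξ⟩ := hglue W₀
      (fun T₀ h₀ c => kap G f W R W₀ E (ci T₀ h₀) (cx T₀ h₀) (ch T₀ h₀) c)
      (fun T₀ T₁ h₀ h₁ c d => by
        have h₁' : (d.left ≫ cx T₀ h₀) ≫ f (ci T₀ h₀) = T₁.hom := by
          rw [Category.assoc, ch T₀ h₀, Over.w d]
        rw [← kap_natural G f W R W₀ E d (ci T₀ h₀) (cx T₀ h₀) (ch T₀ h₀) h₁' c]
        exact kap_indep G f W R W₀ E _ _ _ _ _ _ _)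
    refine ⟨representableBy_of_bijective G W₀ ξ
      (bijective_of_good G W₀ ξ (good f) (good_cov f hf) hsep (fun T₀ h₀ => ?_))⟩
    have : (fun a : T₀ ⟶ W₀ => G.map a.op ξ) =
        kap G f W R W₀ E (ci T₀ h₀) (cx T₀ h₀) (ch T₀ h₀) := funext (fun a => hξ T₀ h₀ a)
    rw [this]
    exact kap_bijective G f W R W₀ E _ _ _

end Final

end Groth.Agent.H4.HomD

end
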