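import Mathlib
import Groth.Prelude.Def_Flatn
import Groth.Agent.H4.HomB

/-! helper4: the functor of relative morphisms satisfies gluing; compatibility with base change. -/

set_option autoImplicit false

universe u

open CategoryTheory CategoryTheory.Limits AlgebraicGeometry Opposite

noncomputable section

namespace Groth.Agent.H4.HomE

open Groth.Agent.H4.HomB

section Glue

variable {S Z X : Scheme.{u}} (g : Z ⟶ S) (f : X ⟶ S) (good : Over S → Prop)
  (hdown : ∀ (T₀ T₁ : Over S) (_ : T₁ ⟶ T₀), good T₀ → good T₁)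

/-- the object of `Over S` attached to a point of `T ×_S Z` -/
abbrev Tt {T : Over S} {T'' : Scheme.{u}} (t'' : T'' ⟶ pullback T.hom g) : Over S :=
  Over.mk ((t'' ≫ pullback.fst T.hom g) ≫ T.hom)

/-- its structure morphism to `T` -/
abbrev ct {T : Over S} {T'' : Scheme.{u}} (t'' : T'' ⟶ pullback T.hom g) : Tt g t'' ⟶ T :=
  Over.homMk (t'' ≫ pullback.fst T.hom g) rfl

/-- the canonical section -/
def sig {T : Over S} {T'' : Scheme.{u}} (t'' : T'' ⟶ pullback T.hom g) :
    T'' ⟶ pullback (Tt g t'').hom g :=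
  pullback.lift (𝟙 T'') (t'' ≫ pullback.snd T.hom g) (by
    change 𝟙 T'' ≫ ((t'' ≫ pullback.fst T.hom g) ≫ T.hom) = _
    rw [Category.id_comp, Category.assoc, Category.assoc, pullback.condition])

lemma sig_lift {T T₁ : Over S} {T'' : Scheme.{u}} (t'' : T'' ⟶ pullback T.hom g)
    (a : T'' ⟶ T₁.left)
    (hc : (pullback.fst (Tt g t'').hom g ≫ a) ≫ T₁.hom = pullback.snd (Tt g t'').hom g ≫ g)
    (hc' : a ≫ T₁.hom = (t'' ≫ pullback.snd T.hom g) ≫ g) :
    sig g t'' ≫ pullback.lift (pullback.fst (Tt g t'').hom g ≫ a)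
      (pullback.snd (Tt g t'').hom g) hc = pullback.lift a (t'' ≫ pullback.snd T.hom g) hc' := by
  unfold sig
  apply pullback.hom_ext
  · rw [Category.assoc, pullback.lift_fst, pullback.lift_fst_assoc, Category.id_comp,
      pullback.lift_fst]
  · rw [Category.assoc, pullback.lift_snd, pullback.lift_snd, pullback.lift_snd]

lemma comp_sig {T : Over S} {T'' T''' : Scheme.{u}} (t'' : T'' ⟶ pullback T.hom g)
    (g' : T''' ⟶ T'')
    (hc' : g' ≫ (Tt g t'').hom = ((g' ≫ t'') ≫ pullback.snd T.hom g) ≫ g) :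
    g' ≫ sig g t'' = pullback.lift g' ((g' ≫ t'') ≫ pullback.snd T.hom g) hc' := by
  unfold sig
  apply pullback.hom_ext
  · rw [Category.assoc, pullback.lift_fst, pullback.lift_fst, Category.comp_id]
  · rw [Category.assoc, pullback.lift_snd, pullback.lift_snd, Category.assoc]

include hdown in
lemma good_Tt {T : Over S} {T'' : Scheme.{u}} (t'' : T'' ⟶ pullback T.hom g)
    (ht : goodSieve good T (t'' ≫ pullback.fst T.hom g)) : good (Tt g t'') := by
  obtain ⟨T₀, h₀, c, t₁, e⟩ := ht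
  refine hdown T₀ (Tt g t'') (Over.homMk t₁ ?_) h₀
  change t₁ ≫ T₀.hom = (t'' ≫ pullback.fst T.hom g) ≫ T.hom
  rw [← e, Category.assoc, Over.w c]

include hdown in
theorem morS_glue (hcov : ∀ T : Over S, goodSieve good T ∈ Scheme.fpqcTopology T.left)
    (T : Over S) (x : ∀ (T₀ : Over S), good T₀ → (T₀ ⟶ T) → (Flatn.morS g f).obj (op T₀))
    (hx : ∀ (T₀ T₁ : Over S) (h₀ : good T₀) (h₁ : good T₁) (c : T₀ ⟶ T) (d : T₁ ⟶ T₀),
      (Flatn.morS g f).map d.op (x T₀ h₀ c) = x T₁ h₁ (d ≫ c)) :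
    ∃ y : (Flatn.morS g f).obj (op T), ∀ (T₀ : Over S) (h₀ : good T₀) (c : T₀ ⟶ T),
      (Flatn.morS g f).map c.op y = x T₀ h₀ c := by
  have hR' : Sieve.pullback (pullback.fst T.hom g) (goodSieve good T) ∈
      Scheme.fpqcTopology (pullback T.hom g) := Scheme.fpqcTopology.pullback_stable _ (hcov T)
  -- the local pieces
  have hm : ∀ ⦃T'' T''' : Scheme.{u}⦄ (t'' : T'' ⟶ pullback T.hom g) (g' : T''' ⟶ T'')
      (ht : goodSieve good T (t'' ≫ pullback.fst T.hom g))
      (ht' : goodSieve good T ((g' ≫ t'') ≫ pullback.fst T.hom g)),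
      sig g (g' ≫ t'') ≫ (x (Tt g (g' ≫ t'')) (good_Tt g good hdown _ ht') (ct g (g' ≫ t''))).left =
        g' ≫ sig g t'' ≫ (x (Tt g t'') (good_Tt g good hdown _ ht) (ct g t'')).left := by
    intro T'' T''' t'' g' ht ht'
    have hd : g' ≫ (Tt g t'').hom = (Tt g (g' ≫ t'')).hom := by
      change g' ≫ ((t'' ≫ pullback.fst T.hom g) ≫ T.hom) =
        ((g' ≫ t'') ≫ pullback.fst T.hom g) ≫ T.hom
      simp only [Category.assoc]
    have e : (Over.homMk g' hd : Tt g (g' ≫ t'') ⟶ Tt g t'') ≫ ct g t'' = ct g (g' ≫ t'') := by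
      apply Over.OverMorphism.ext
      simp
    rw [← e, ← hx _ _ (good_Tt g good hdown _ ht) (good_Tt g good hdown _ ht') (ct g t'')
      (Over.homMk g' hd), morS_map_left]
    have hc' : g' ≫ (Tt g t'').hom = ((g' ≫ t'') ≫ pullback.snd T.hom g) ≫ g := by
      change g' ≫ ((t'' ≫ pullback.fst T.hom g) ≫ T.hom) = _
      simp only [Category.assoc, pullback.condition]
    have key := (sig_lift g (T₁ := Tt g t'') (g' ≫ t'') g'
      (by rw [Category.assoc, hd, pullback.condition]) hc').trans (comp_sig g t'' g' hc').symm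
    exact (Category.assoc _ _ _).symm.trans
      ((congrArg (fun m => m ≫ _) key).trans (Category.assoc _ _ _))
  obtain ⟨y₀, hy₀⟩ := Groth.Agent.H5.Desc.exists_glue (W := X)
    (Sieve.pullback (pullback.fst T.hom g) (goodSieve good T)) hR'
    (fun T'' t'' ht => sig g t'' ≫ (x (Tt g t'') (good_Tt g good hdown _ ht) (ct g t'')).left)
    (fun T'' T''' t'' g' ht => hm t'' g' ht
      ((Sieve.pullback (pullback.fst T.hom g) (goodSieve good T)).downward_closed ht g'))
  have hw : y₀ ≫ f = pullback.snd T.hom g ≫ g := by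
    apply Groth.Agent.H5.Desc.hom_ext_of_cover _ hR'
    intro T'' t'' ht
    rw [← Category.assoc, hy₀ t'' ht, Category.assoc]
    have h1 : (x (Tt g t'') (good_Tt g good hdown _ ht) (ct g t'')).left ≫ f =
        pullback.snd (Tt g t'').hom g ≫ g :=
      Over.w (x (Tt g t'') (good_Tt g good hdown _ ht) (ct g t''))
    rw [h1, ← Category.assoc, ← Category.assoc]
    congr 1
    unfold sig
    rw [pullback.lift_snd]
  refine ⟨Over.homMk (U := (Over.map g).obj ((Over.pullback g).obj T)) (V := Over.mk f) y₀ hw, ?_⟩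
  intro T₀ h₀ c
  apply Over.OverMorphism.ext
  rw [morS_map_left]
  change pullback.lift (pullback.fst T₀.hom g ≫ c.left) (pullback.snd T₀.hom g) _ ≫ y₀ = _
  obtain ⟨t'', ht''⟩ : ∃ t'' : pullback T₀.hom g ⟶ pullback T.hom g,
      t'' = pullback.lift (pullback.fst T₀.hom g ≫ c.left) (pullback.snd T₀.hom g)
        (by rw [Category.assoc, Over.w c, pullback.condition]) := ⟨_, rfl⟩
  rw [← ht'']
  have hfst : t'' ≫ pullback.fst T.hom g = pullback.fst T₀.hom g ≫ c.left := by
    rw [ht'', pullback.lift_fst]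
  have hsnd : t'' ≫ pullback.snd T.hom g = pullback.snd T₀.hom g := by
    rw [ht'', pullback.lift_snd]
  have ht : goodSieve good T (t'' ≫ pullback.fst T.hom g) :=
    ⟨T₀, h₀, c, pullback.fst T₀.hom g, hfst.symm⟩
  rw [hy₀ t'' ht]
  have hd₀ : pullback.fst T₀.hom g ≫ T₀.hom = (Tt g t'').hom := by
    change _ = (t'' ≫ pullback.fst T.hom g) ≫ T.hom
    rw [hfst, Category.assoc, Over.w c]
  have e : (Over.homMk (pullback.fst T₀.hom g) hd₀ : Tt g t'' ⟶ T₀) ≫ c = ct g t'' := by
    apply Over.OverMorphism.ext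
    simp only [Over.comp_left, Over.homMk_left]
    exact hfst.symm
  rw [← e, ← hx _ _ h₀ (good_Tt g good hdown _ ht) c (Over.homMk (pullback.fst T₀.hom g) hd₀),
    morS_map_left]
  have hc' : pullback.fst T₀.hom g ≫ T₀.hom = (t'' ≫ pullback.snd T.hom g) ≫ g := by
    rw [hsnd, pullback.condition]
  have h2 := sig_lift g (T₁ := T₀) t'' (pullback.fst T₀.hom g)
    (by rw [Category.assoc, hd₀, pullback.condition]) hc'
  have h3 : pullback.lift (pullback.fst T₀.hom g) (t'' ≫ pullback.snd T.hom g) hc' = 𝟙 _ := by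
    apply pullback.hom_ext
    · rw [pullback.lift_fst, Category.id_comp]
    · rw [pullback.lift_snd, Category.id_comp, hsnd]
  exact (Category.assoc _ _ _).symm.trans
    ((congrArg (fun m => m ≫ _) (h2.trans h3)).trans (Category.id_comp _))

end Glue

section BC

variable {S S' Z X Z' X' : Scheme.{u}} (g : Z ⟶ S) (f : X ⟶ S) (j : S' ⟶ S)
  (g' : Z' ⟶ S') (jZ : Z' ⟶ Z) (sqZ : IsPullback jZ g' g j)
  (f' : X' ⟶ S') (jX : X' ⟶ X) (sqX : IsPullback jX f' f j)

include sqZ in
lemma eHom_cond (T' : Over S') :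
    pullback.fst T'.hom g' ≫ (T'.hom ≫ j) = (pullback.snd T'.hom g' ≫ jZ) ≫ g := by
  rw [Category.assoc, sqZ.w, ← Category.assoc, ← Category.assoc, pullback.condition]

/-- comparison of the fibre products -/
def eHom (T' : Over S') : pullback T'.hom g' ⟶ pullback (T'.hom ≫ j) g :=
  pullback.lift (pullback.fst T'.hom g') (pullback.snd T'.hom g' ≫ jZ) (eHom_cond g j g' jZ sqZ T')

lemma eInv_cond (T' : Over S') :
    pullback.snd (T'.hom ≫ j) g ≫ g = (pullback.fst (T'.hom ≫ j) g ≫ T'.hom) ≫ j := by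
  rw [Category.assoc]
  exact pullback.condition.symm

/-- the inverse comparison -/
def eInv (T' : Over S') : pullback (T'.hom ≫ j) g ⟶ pullback T'.hom g' :=
  pullback.lift (pullback.fst (T'.hom ≫ j) g)
    (sqZ.lift (pullback.snd (T'.hom ≫ j) g) (pullback.fst (T'.hom ≫ j) g ≫ T'.hom)
      (eInv_cond g j T')) (by rw [sqZ.lift_snd])

@[reassoc]
lemma eInv_fst (T' : Over S') :
    eInv g j g' jZ sqZ T' ≫ pullback.fst T'.hom g' = pullback.fst (T'.hom ≫ j) g :=
  pullback.lift_fst _ _ _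

@[reassoc]
lemma eInv_snd_jZ (T' : Over S') :
    eInv g j g' jZ sqZ T' ≫ pullback.snd T'.hom g' ≫ jZ = pullback.snd (T'.hom ≫ j) g := by
  unfold eInv
  rw [pullback.lift_snd_assoc, sqZ.lift_fst]

@[reassoc]
lemma eInv_snd_g' (T' : Over S') :
    eInv g j g' jZ sqZ T' ≫ pullback.snd T'.hom g' ≫ g' =
      pullback.fst (T'.hom ≫ j) g ≫ T'.hom := by
  unfold eInv
  rw [pullback.lift_snd_assoc, sqZ.lift_snd]

lemma eHom_fst (T' : Over S') :
    eHom g j g' jZ sqZ T' ≫ pullback.fst (T'.hom ≫ j) g = pullback.fst T'.hom g' :=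
  pullback.lift_fst _ _ _

lemma eHom_snd (T' : Over S') :
    eHom g j g' jZ sqZ T' ≫ pullback.snd (T'.hom ≫ j) g = pullback.snd T'.hom g' ≫ jZ :=
  pullback.lift_snd _ _ _

lemma eHom_eInv (T' : Over S') : eHom g j g' jZ sqZ T' ≫ eInv g j g' jZ sqZ T' = 𝟙 _ := by
  apply pullback.hom_ext
  · rw [Category.assoc, eInv_fst, eHom_fst, Category.id_comp]
  · apply sqZ.hom_ext
    · rw [Category.assoc, Category.assoc, eInv_snd_jZ, eHom_snd, Category.id_comp]
    · rw [Category.assoc, Category.assoc, ← pullback.condition, ← Category.assoc (eInv _ _ _ _ _ _),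
        eInv_fst, ← Category.assoc, eHom_fst, Category.id_comp, pullback.condition]

lemma eInv_eHom (T' : Over S') : eInv g j g' jZ sqZ T' ≫ eHom g j g' jZ sqZ T' = 𝟙 _ := by
  apply pullback.hom_ext
  · rw [Category.assoc, eHom_fst, eInv_fst, Category.id_comp]
  · rw [Category.assoc, eHom_snd, eInv_snd_jZ, Category.id_comp]

lemma eInv_natural {T' T₁' : Over S'} (d : T₁' ⟶ T') :
    eInv g j g' jZ sqZ T₁' ≫ pullback.lift (pullback.fst T₁'.hom g' ≫ d.left)
      (pullback.snd T₁'.hom g') (by rw [Category.assoc, Over.w d, pullback.condition]) =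
    pullback.lift (pullback.fst (T₁'.hom ≫ j) g ≫ d.left) (pullback.snd (T₁'.hom ≫ j) g)
      (by rw [Category.assoc, ← Category.assoc d.left, Over.w d, pullback.condition]) ≫
      eInv g j g' jZ sqZ T' := by
  apply pullback.hom_ext
  · simp only [Category.assoc, pullback.lift_fst, eInv_fst, eInv_fst_assoc]
  · apply sqZ.hom_ext
    · simp only [Category.assoc, pullback.lift_snd_assoc, eInv_snd_jZ, pullback.lift_snd]
    · simp only [Category.assoc, pullback.lift_snd_assoc, eInv_snd_g', pullback.lift_fst_assoc,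
        Over.w]

include sqX in
lemma cmp_cond (T' : Over S') (b' : (Flatn.morS g' f').obj (op T')) :
    (eInv g j g' jZ sqZ T' ≫ b'.left ≫ jX) ≫ f = pullback.snd (T'.hom ≫ j) g ≫ g := by
  have hw : b'.left ≫ f' = pullback.snd T'.hom g' ≫ g' := Over.w b'
  rw [Category.assoc, Category.assoc, sqX.w, ← Category.assoc b'.left, hw, Category.assoc,
    ← sqZ.w, ← Category.assoc, ← Category.assoc, Category.assoc (eInv _ _ _ _ _ _), eInv_snd_jZ]

/-- the comparison map on sections -/
def cmp (T' : Over S') (b' : (Flatn.morS g' f').obj (op T')) :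
    (Flatn.morS g f).obj (op ((Over.map j).obj T')) :=
  Over.homMk (U := (Over.map g).obj ((Over.pullback g).obj ((Over.map j).obj T')))
    (V := Over.mk f) (eInv g j g' jZ sqZ T' ≫ b'.left ≫ jX) (cmp_cond g f j g' jZ sqZ f' jX sqX T' b')

lemma cmp_left (T' : Over S') (b' : (Flatn.morS g' f').obj (op T')) :
    (cmp g f j g' jZ sqZ f' jX sqX T' b').left = eInv g j g' jZ sqZ T' ≫ b'.left ≫ jX := rfl

lemma cmp_injective (T' : Over S') : Function.Injective (cmp g f j g' jZ sqZ f' jX sqX T') := by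
  intro b₁ b₂ h
  have h1 : (cmp g f j g' jZ sqZ f' jX sqX T' b₁).left =
      (cmp g f j g' jZ sqZ f' jX sqX T' b₂).left := by rw [h]
  rw [cmp_left, cmp_left] at h1
  have h2 := congrArg (fun m => eHom g j g' jZ sqZ T' ≫ m) h1
  simp only [← Category.assoc, eHom_eInv, Category.id_comp] at h2
  apply Over.OverMorphism.ext
  apply sqX.hom_ext
  · exact h2
  · have hw₁ : b₁.left ≫ f' = pullback.snd T'.hom g' ≫ g' := Over.w b₁
    have hw₂ : b₂.left ≫ f' = pullback.snd T'.hom g' ≫ g' := Over.w b₂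
    rw [hw₁, hw₂]

lemma cmp_surjective (T' : Over S') : Function.Surjective (cmp g f j g' jZ sqZ f' jX sqX T') := by
  intro b
  have hw : b.left ≫ f = pullback.snd (T'.hom ≫ j) g ≫ g := Over.w b
  have hc : (eHom g j g' jZ sqZ T' ≫ b.left) ≫ f = (pullback.fst T'.hom g' ≫ T'.hom) ≫ j := by
    rw [Category.assoc, hw, ← Category.assoc, eHom_snd, Category.assoc, sqZ.w, ← Category.assoc,
      ← pullback.condition, Category.assoc]
  have hc' : sqX.lift (eHom g j g' jZ sqZ T' ≫ b.left) (pullback.fst T'.hom g' ≫ T'.hom) hc ≫ f' =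
      pullback.snd T'.hom g' ≫ g' := by
    rw [sqX.lift_snd, pullback.condition]
  refine ⟨Over.homMk (U := (Over.map g').obj ((Over.pullback g').obj T')) (V := Over.mk f')
    (sqX.lift (eHom g j g' jZ sqZ T' ≫ b.left) (pullback.fst T'.hom g' ≫ T'.hom) hc) hc', ?_⟩
  apply Over.OverMorphism.ext
  rw [cmp_left]
  change eInv g j g' jZ sqZ T' ≫ sqX.lift _ _ hc ≫ jX = b.left
  rw [sqX.lift_fst, ← Category.assoc, eInv_eHom, Category.id_comp]

lemma cmp_natural {T' T₁' : Over S'} (d : T₁' ⟶ T') (b' : (Flatn.morS g' f').obj (op T')) :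
    cmp g f j g' jZ sqZ f' jX sqX T₁' ((Flatn.morS g' f').map d.op b') =
      (Flatn.morS g f).map ((Over.map j).map d).op (cmp g f j g' jZ sqZ f' jX sqX T' b') := by
  apply Over.OverMorphism.ext
  rw [cmp_left, morS_map_left, morS_map_left, cmp_left]
  have h := eInv_natural g j g' jZ sqZ d
  exact (Category.assoc _ _ _).symm.trans ((congrArg (fun m => m ≫ b'.left ≫ jX) h).trans
    (Category.assoc _ _ _))

/-- transfer of representability along base change -/
def repBC (W' : Over S') (R' : (Flatn.morS g' f').RepresentableBy W') :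
    ((Over.map j).op ⋙ Flatn.morS g f).RepresentableBy W' where
  homEquiv {T'} := R'.homEquiv.trans (Equiv.ofBijective (cmp g f j g' jZ sqZ f' jX sqX T')
    ⟨cmp_injective g f j g' jZ sqZ f' jX sqX T', cmp_surjective g f j g' jZ sqZ f' jX sqX T'⟩)
  homEquiv_comp {T' T₁'} d a := by
    change cmp g f j g' jZ sqZ f' jX sqX _ (R'.homEquiv (d ≫ a)) =
      (Flatn.morS g f).map ((Over.map j).map d).op (cmp g f j g' jZ sqZ f' jX sqX _ (R'.homEquiv a))
    rw [R'.homEquiv_comp, cmp_natural]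

end BC

end Groth.Agent.H4.HomE

end
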