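import Mathlib
import Groth.Prelude.Def_Flatn
import Groth.Prelude.Def_Mor2
import Groth.Agent.H4.HomA2
import Groth.Agent.H4.HomC
import Groth.Agent.H4.HomD
import Groth.Agent.H4.HomE

/-! helper4: the scheme of morphisms `Mor_S(Z, X)` for `Z → S` finite locally free and `X → S`
affine. -/

set_option autoImplicit false

universe u

open CategoryTheory CategoryTheory.Limits AlgebraicGeometry Opposite TensorProduct

namespace Groth.Agent.H4.HomF

open Groth.Agent.H4.HomB Groth.Agent.H4.HomC Groth.Agent.H4.HomD Groth.Agent.H4.HomE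

theorem main_affine_proj {Z X S : Scheme.{u}} [IsAffine Z] [IsAffine X] [IsAffine S] (g : Z ⟶ S)
    (f : X ⟶ S)
    (hproj : letI := (g.appTop).hom.toAlgebra
      Module.Finite Γ(S, ⊤) Γ(Z, ⊤) ∧ Module.Projective Γ(S, ⊤) Γ(Z, ⊤)) :
    ∃ W : Over S, IsAffine W.left ∧ (LocallyOfFinitePresentation f →
      LocallyOfFinitePresentation W.hom) ∧
      Nonempty ((Flatn.morS g f).RepresentableBy W) := by
  letI := (g.appTop).hom.toAlgebra
  letI := (f.appTop).hom.toAlgebra
  obtain ⟨hfin, hfr⟩ := hproj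
  by_cases hfp : LocallyOfFinitePresentation f
  · have hfpB : Algebra.FinitePresentation Γ(S, ⊤) Γ(X, ⊤) := by
      have h1 : f.appTop.hom.FinitePresentation :=
        (HasRingHomProperty.iff_of_isAffine (P := @LocallyOfFinitePresentation)).1 hfp
      exact h1
    obtain ⟨U, _, _, Φ, hfpU, hΦ⟩ := Groth.Agent.H4.HomA2.exists_univ_fp (A := Γ(S, ⊤))
      (E := Γ(Z, ⊤)) (B := Γ(X, ⊤))
    refine ⟨WW (S := S) U, inferInstanceAs (IsAffine (Spec _)), fun _ => ?_,
      rep_of_univ g f rfl rfl Φ hΦ⟩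
    change LocallyOfFinitePresentation (Spec.map (uS (S := S) U) ≫ S.isoSpec.inv)
    have h2 : LocallyOfFinitePresentation (Spec.map (uS (S := S) U)) := by
      rw [HasRingHomProperty.Spec_iff (P := @LocallyOfFinitePresentation)]
      exact (RingHom.finitePresentation_algebraMap).2 hfpU
    infer_instance
  · obtain ⟨U, _, _, Φ, hΦ⟩ := Groth.Agent.H4.HomA2.exists_univ (A := Γ(S, ⊤))
      (E := Γ(Z, ⊤)) (B := Γ(X, ⊤))
    exact ⟨WW (S := S) U, inferInstanceAs (IsAffine (Spec _)), fun h => absurd h hfp,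
      rep_of_univ g f rfl rfl Φ hΦ⟩

lemma finproj_of_finLocFree {Z S : Scheme.{u}} [IsAffine Z] [IsAffine S] (g : Z ⟶ S) [IsFinite g]
    [Flat g] [LocallyOfFinitePresentation g] :
    letI := (g.appTop).hom.toAlgebra
    Module.Finite Γ(S, ⊤) Γ(Z, ⊤) ∧ Module.Projective Γ(S, ⊤) Γ(Z, ⊤) := by
  have h1 : g.appTop.hom.Finite := g.finite_appTop
  have h2 : g.appTop.hom.Flat :=
    (HasRingHomProperty.iff_of_isAffine (P := @Flat)).1 inferInstance
  have h3 : g.appTop.hom.FinitePresentation :=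
    (HasRingHomProperty.iff_of_isAffine (P := @LocallyOfFinitePresentation)).1 inferInstance
  letI := (g.appTop).hom.toAlgebra
  haveI : Module.Finite Γ(S, ⊤) Γ(Z, ⊤) := h1
  haveI : Module.Flat Γ(S, ⊤) Γ(Z, ⊤) := h2
  haveI : Algebra.FinitePresentation Γ(S, ⊤) Γ(Z, ⊤) := h3
  haveI := Module.FinitePresentation.of_finite_of_finitePresentation Γ(S, ⊤) Γ(Z, ⊤)
  exact ⟨inferInstance, Module.Flat.projective_of_finitePresentation⟩

lemma good_down {S : Scheme.{u}} {ι : Type u} {X : ι → Scheme.{u}} (f : ∀ i, X i ⟶ S)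
    (T₀ T₁ : Over S) (d : T₁ ⟶ T₀) (h : good f T₀) : good f T₁ := by
  obtain ⟨i, x, hx⟩ := h
  exact ⟨i, d.left ≫ x, by rw [Category.assoc, hx, Over.w d]⟩

theorem main_global {Z X S : Scheme.{u}} (g : Z ⟶ S) (f : X ⟶ S) (hg : Mor2.IsFinLocFree g)
    [IsAffineHom f] :
    ∃ W : Over S, IsAffineHom W.hom ∧ (LocallyOfFinitePresentation f →
      LocallyOfFinitePresentation W.hom) ∧
      Nonempty ((Flatn.morS g f).RepresentableBy W) := by
  obtain ⟨hfin, hflat, hlfp⟩ := hg
  let 𝒰 := S.affineCover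
  have hf : Presieve.ofArrows 𝒰.X 𝒰.f ∈ Scheme.fpqcPrecoverage S :=
    Scheme.zariskiPrecoverage_le_fpqcPrecoverage _ 𝒰.mem₀
  -- the local representing objects
  have hloc : ∀ i, ∃ W : Over (𝒰.X i), IsAffine W.left ∧
      (LocallyOfFinitePresentation f → LocallyOfFinitePresentation W.hom) ∧
      Nonempty ((Flatn.morS (pullback.snd g (𝒰.f i)) (pullback.snd f (𝒰.f i))).RepresentableBy W) := by
    intro i
    obtain ⟨W, h1, h2, h3⟩ := main_affine_proj (pullback.snd g (𝒰.f i)) (pullback.snd f (𝒰.f i))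
      (finproj_of_finLocFree (pullback.snd g (𝒰.f i)))
    exact ⟨W, h1, fun h => h2 inferInstance, h3⟩
  choose W hWaff hWfp hWrep using hloc
  have R : ∀ i, ((Over.map (𝒰.f i)).op ⋙ Flatn.morS g f).RepresentableBy (W i) := fun i =>
    repBC g f (𝒰.f i) (pullback.snd g (𝒰.f i)) (pullback.fst g (𝒰.f i))
      (IsPullback.of_hasPullback g (𝒰.f i)) (pullback.snd f (𝒰.f i)) (pullback.fst f (𝒰.f i))
      (IsPullback.of_hasPullback f (𝒰.f i)) (W i) (hWrep i).some
  have hW : ∀ i, IsAffineHom (W i).hom := fun i => by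
    haveI := hWaff i
    infer_instance
  obtain ⟨W₀, hiso, hrep⟩ := exists_rep_of_local (Flatn.morS g f) 𝒰.f W R hf hW
    (morS_sep g f (good 𝒰.f) (good_cov 𝒰.f hf))
    (morS_glue g f (good 𝒰.f) (good_down 𝒰.f) (good_cov 𝒰.f hf))
  have key : ∀ (P : MorphismProperty Scheme.{u}) [IsZariskiLocalAtTarget P],
      (∀ i, P (W i).hom) → P W₀.hom := by
    intro P _ hP
    apply IsZariskiLocalAtTarget.of_openCover (P := P) 𝒰
    intro i
    obtain ⟨e, he⟩ := hiso i
    change P (pullback.snd W₀.hom (𝒰.f i))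
    rw [← pullbackSymmetry_hom_comp_fst, ← he, P.cancel_left_of_respectsIso,
      P.cancel_left_of_respectsIso]
    exact hP i
  exact ⟨W₀, key @IsAffineHom hW, fun h => key @LocallyOfFinitePresentation (fun i => hWfp i h),
    hrep⟩

end Groth.Agent.H4.HomF
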