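import Mathlib
import Groth.Prelude.Def_Flatn
import Groth.Agent.H4.HomG

/-! helper4: the lifted functor of relative morphisms is a Zariski sheaf on schemes. -/

set_option autoImplicit false

universe u

open CategoryTheory CategoryTheory.Limits AlgebraicGeometry Opposite

noncomputable section

namespace Groth.Agent.H4.HomH

open Groth.Agent.H4.HomG

variable {S Z X : Scheme.{u}} (g : Z ⟶ S) (f : X ⟶ S)

/-- constructor of sections -/
def mkL {T : Scheme.{u}} (t : T ⟶ S) (φ : pullback t g ⟶ X)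
    (h : φ ≫ f = pullback.snd t g ≫ g) : LObj (Flatn.morS g f) T :=
  ⟨t, Over.homMk (U := (Over.map g).obj ((Over.pullback g).obj (Over.mk t))) (V := Over.mk f) φ h⟩

lemma exists_mkL {T : Scheme.{u}} (y : LObj (Flatn.morS g f) T) :
    ∃ (t : T ⟶ S) (φ : pullback t g ⟶ X) (h : φ ≫ f = pullback.snd t g ≫ g),
      y = mkL g f t φ h := by
  obtain ⟨t, φ⟩ := y
  exact ⟨t, φ.left, Over.w φ, Sigma.ext rfl (heq_of_eq (Over.OverMorphism.ext rfl))⟩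

lemma mkL_eq_iff {T : Scheme.{u}} {t₁ t₂ : T ⟶ S} (φ₁ : pullback t₁ g ⟶ X)
    (h₁ : φ₁ ≫ f = pullback.snd t₁ g ≫ g) (φ₂ : pullback t₂ g ⟶ X)
    (h₂ : φ₂ ≫ f = pullback.snd t₂ g ≫ g) :
    mkL g f t₁ φ₁ h₁ = mkL g f t₂ φ₂ h₂ ↔ t₁ = t₂ ∧
      ∀ {P : Scheme.{u}} (a : P ⟶ pullback t₁ g) (b : P ⟶ pullback t₂ g),
        a ≫ pullback.fst t₁ g = b ≫ pullback.fst t₂ g →
        a ≫ pullback.snd t₁ g = b ≫ pullback.snd t₂ g → a ≫ φ₁ = b ≫ φ₂ := by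
  constructor
  · intro e
    obtain ⟨h, hh⟩ := Sigma.mk.inj_iff.mp e
    subst h
    have hl : φ₁ = φ₂ := congrArg (fun c => CommaMorphism.left c) (eq_of_heq hh)
    subst hl
    exact ⟨rfl, fun a b h1 h2 => by rw [pullback.hom_ext h1 h2]⟩
  · rintro ⟨rfl, hl⟩
    have : φ₁ = φ₂ := by simpa using hl (𝟙 _) (𝟙 _) rfl rfl
    subst this
    rfl

/-- the base-change map of fibre products -/
def pl {T T' : Scheme.{u}} (a : T' ⟶ T) (t : T ⟶ S) : pullback (a ≫ t) g ⟶ pullback t g :=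
  pullback.lift (pullback.fst (a ≫ t) g ≫ a) (pullback.snd (a ≫ t) g)
    (by rw [Category.assoc, pullback.condition])

@[reassoc (attr := simp)]
lemma pl_fst {T T' : Scheme.{u}} (a : T' ⟶ T) (t : T ⟶ S) :
    pl g a t ≫ pullback.fst t g = pullback.fst (a ≫ t) g ≫ a := pullback.lift_fst _ _ _

@[reassoc (attr := simp)]
lemma pl_snd {T T' : Scheme.{u}} (a : T' ⟶ T) (t : T ⟶ S) :
    pl g a t ≫ pullback.snd t g = pullback.snd (a ≫ t) g := pullback.lift_snd _ _ _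

lemma pl_isPullback {T T' : Scheme.{u}} (a : T' ⟶ T) (t : T ⟶ S) :
    IsPullback (pl g a t) (pullback.fst (a ≫ t) g) (pullback.fst t g) a := by
  refine IsPullback.of_right ?_ (pl_fst g a t) (IsPullback.of_hasPullback t g).flip
  rw [pl_snd]
  exact (IsPullback.of_hasPullback (a ≫ t) g).flip

lemma lmap_mkL {T T' : Scheme.{u}} (a : T' ⟶ T) (t : T ⟶ S) (φ : pullback t g ⟶ X)
    (h : φ ≫ f = pullback.snd t g ≫ g) :
    lmap (Flatn.morS g f) a (mkL g f t φ h) =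
      mkL g f (a ≫ t) (pl g a t ≫ φ) (by rw [Category.assoc, h, pl_snd_assoc]) :=
  Sigma.ext rfl (heq_of_eq (Over.OverMorphism.ext rfl))

lemma pcov_f {Y : Scheme.{u}} (𝓤 : Y.OpenCover) (t : Y ⟶ S) (k : 𝓤.I₀) :
    (Scheme.Pullback.openCoverOfLeft 𝓤 t g).f k = pl g (𝓤.f k) t := by
  apply pullback.hom_ext
  · exact (pullback.lift_fst _ _ _).trans (pl_fst g _ t).symm
  · exact (pullback.lift_snd _ _ _).trans ((Category.comp_id _).trans (pl_snd g _ t).symm)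

lemma pcov_hom_ext {Y : Scheme.{u}} (𝓤 : Y.OpenCover) (t : Y ⟶ S) (Φ Φ' : pullback t g ⟶ X)
    (h : ∀ j, pl g (𝓤.f j) t ≫ Φ = pl g (𝓤.f j) t ≫ Φ') : Φ = Φ' := by
  apply (Scheme.Pullback.openCoverOfLeft 𝓤 t g).hom_ext
  intro j
  have := h j
  rw [← pcov_f g 𝓤 t j] at this
  exact this

lemma pcov_glue {Y : Scheme.{u}} (𝓤 : Y.OpenCover) (t : Y ⟶ S)
    (φ : ∀ j : 𝓤.I₀, pullback (𝓤.f j ≫ t) g ⟶ X)
    (h2 : ∀ (i j : 𝓤.I₀) (P : Scheme.{u}) (a : P ⟶ pullback (𝓤.f i ≫ t) g)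
      (b : P ⟶ pullback (𝓤.f j ≫ t) g),
      a ≫ pl g (𝓤.f i) t = b ≫ pl g (𝓤.f j) t → a ≫ φ i = b ≫ φ j) :
    ∃ Φ : pullback t g ⟶ X, ∀ j, pl g (𝓤.f j) t ≫ Φ = φ j := by
  have hc : ∀ i j : 𝓤.I₀, pullback.fst ((Scheme.Pullback.openCoverOfLeft 𝓤 t g).f i)
      ((Scheme.Pullback.openCoverOfLeft 𝓤 t g).f j) ≫ φ i =
      pullback.snd ((Scheme.Pullback.openCoverOfLeft 𝓤 t g).f i)
        ((Scheme.Pullback.openCoverOfLeft 𝓤 t g).f j) ≫ φ j := by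
    intro i j
    refine h2 i j _ _ _ ?_
    rw [← pcov_f g 𝓤 t i, ← pcov_f g 𝓤 t j]
    exact pullback.condition
  refine ⟨(Scheme.Pullback.openCoverOfLeft 𝓤 t g).glueMorphisms φ hc, fun j => ?_⟩
  rw [← pcov_f g 𝓤 t j]
  exact (Scheme.Pullback.openCoverOfLeft 𝓤 t g).ι_glueMorphisms φ hc j

/-- separatedness for open covers -/
lemma lft_sep {Y : Scheme.{u}} (𝓤 : Y.OpenCover) (y y' : LObj (Flatn.morS g f) Y)
    (h : ∀ j, lmap (Flatn.morS g f) (𝓤.f j) y = lmap (Flatn.morS g f) (𝓤.f j) y') : y = y' := by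
  obtain ⟨t, Φ, hΦ, rfl⟩ := exists_mkL g f y
  obtain ⟨t', Φ', hΦ', rfl⟩ := exists_mkL g f y'
  have ht : t = t' := by
    apply 𝓤.hom_ext
    intro j
    exact congrArg Sigma.fst (h j)
  subst ht
  rw [mkL_eq_iff]
  refine ⟨rfl, fun a b h1 h2 => ?_⟩
  obtain rfl := pullback.hom_ext h1 h2
  congr 1
  apply pcov_hom_ext g 𝓤 t
  intro j
  have := h j
  rw [lmap_mkL, lmap_mkL, mkL_eq_iff] at this
  have h3 := this.2 (𝟙 _) (𝟙 _) rfl rfl
  rw [Category.id_comp, Category.id_comp] at h3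
  exact h3

/-- gluing for open covers -/
lemma lft_glue {Y : Scheme.{u}} (𝓤 : Y.OpenCover)
    (x : ∀ j, LObj (Flatn.morS g f) (𝓤.X j))
    (hx : ∀ i j (P : Scheme.{u}) (gi : P ⟶ 𝓤.X i) (gj : P ⟶ 𝓤.X j), gi ≫ 𝓤.f i = gj ≫ 𝓤.f j →
      lmap (Flatn.morS g f) gi (x i) = lmap (Flatn.morS g f) gj (x j)) :
    ∃ y : LObj (Flatn.morS g f) Y, ∀ j, lmap (Flatn.morS g f) (𝓤.f j) y = x j := by
  have h1 : ∀ i j, pullback.fst (𝓤.f i) (𝓤.f j) ≫ (x i).1 =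
      pullback.snd (𝓤.f i) (𝓤.f j) ≫ (x j).1 := by
    intro i j
    exact congrArg Sigma.fst
      (hx i j _ (pullback.fst (𝓤.f i) (𝓤.f j)) (pullback.snd _ _) pullback.condition)
  obtain ⟨t, ht⟩ : ∃ t : Y ⟶ S, ∀ j, 𝓤.f j ≫ t = (x j).1 :=
    ⟨𝓤.glueMorphisms (fun j => (x j).1) h1, fun j => 𝓤.ι_glueMorphisms _ _ j⟩
  have hnorm : ∀ j, ∃ (φ : pullback (𝓤.f j ≫ t) g ⟶ X)
      (h : φ ≫ f = pullback.snd (𝓤.f j ≫ t) g ≫ g), x j = mkL g f (𝓤.f j ≫ t) φ h := by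
    intro j
    have h := ht j
    generalize x j = y at h
    obtain ⟨t', φ'⟩ := y
    change 𝓤.f j ≫ t = t' at h
    subst h
    exact ⟨φ'.left, Over.w φ', Sigma.ext rfl (heq_of_eq (Over.OverMorphism.ext rfl))⟩
  choose φ hφ hxφ using hnorm
  have h2 : ∀ (i j : 𝓤.I₀) (P : Scheme.{u}) (fP : P ⟶ pullback (𝓤.f i ≫ t) g)
      (sP : P ⟶ pullback (𝓤.f j ≫ t) g),
      fP ≫ pl g (𝓤.f i) t = sP ≫ pl g (𝓤.f j) t → fP ≫ φ i = sP ≫ φ j := by
    intro i j P fP sP hcond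
    have c1 : (fP ≫ pullback.fst (𝓤.f i ≫ t) g) ≫ 𝓤.f i =
        (sP ≫ pullback.fst (𝓤.f j ≫ t) g) ≫ 𝓤.f j := by
      have := congrArg (fun m => m ≫ pullback.fst t g) hcond
      simpa only [Category.assoc, pl_fst] using this
    have hz : fP ≫ pullback.snd (𝓤.f i ≫ t) g = sP ≫ pullback.snd (𝓤.f j ≫ t) g := by
      have := congrArg (fun m => m ≫ pullback.snd t g) hcond
      simpa only [Category.assoc, pl_snd] using this
    obtain ⟨gi, hgi⟩ : ∃ m, m = fP ≫ pullback.fst (𝓤.f i ≫ t) g := ⟨_, rfl⟩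
    obtain ⟨gj, hgj⟩ : ∃ m, m = sP ≫ pullback.fst (𝓤.f j ≫ t) g := ⟨_, rfl⟩
    rw [← hgi, ← hgj] at c1
    have key := hx i j _ gi gj c1
    rw [hxφ i, hxφ j, lmap_mkL, lmap_mkL, mkL_eq_iff] at key
    have ci : 𝟙 P ≫ gi ≫ 𝓤.f i ≫ t = (fP ≫ pullback.snd (𝓤.f i ≫ t) g) ≫ g := by
      rw [hgi]
      simp only [Category.assoc, Category.id_comp]
      rw [pullback.condition]
    have cj : 𝟙 P ≫ gj ≫ 𝓤.f j ≫ t = (sP ≫ pullback.snd (𝓤.f j ≫ t) g) ≫ g := by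
      rw [hgj]
      simp only [Category.assoc, Category.id_comp]
      rw [pullback.condition]
    have ei : pullback.lift (𝟙 P) (fP ≫ pullback.snd (𝓤.f i ≫ t) g) ci ≫
        pl g gi (𝓤.f i ≫ t) = fP := by
      apply pullback.hom_ext
      · rw [Category.assoc, pl_fst, pullback.lift_fst_assoc, Category.id_comp, hgi]
      · rw [Category.assoc, pl_snd, pullback.lift_snd]
    have ej : pullback.lift (𝟙 P) (sP ≫ pullback.snd (𝓤.f j ≫ t) g) cj ≫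
        pl g gj (𝓤.f j ≫ t) = sP := by
      apply pullback.hom_ext
      · rw [Category.assoc, pl_fst, pullback.lift_fst_assoc, Category.id_comp, hgj]
      · rw [Category.assoc, pl_snd, pullback.lift_snd]
    have h3 := key.2 (pullback.lift (𝟙 P) (fP ≫ pullback.snd (𝓤.f i ≫ t) g) ci)
      (pullback.lift (𝟙 P) (sP ≫ pullback.snd (𝓤.f j ≫ t) g) cj)
      (by rw [pullback.lift_fst, pullback.lift_fst])
      (by rw [pullback.lift_snd, pullback.lift_snd, hz])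
    calc fP ≫ φ i = (pullback.lift (𝟙 P) (fP ≫ pullback.snd (𝓤.f i ≫ t) g) ci ≫
            pl g gi (𝓤.f i ≫ t)) ≫ φ i := by rw [ei]
      _ = (pullback.lift (𝟙 P) (sP ≫ pullback.snd (𝓤.f j ≫ t) g) cj ≫
            pl g gj (𝓤.f j ≫ t)) ≫ φ j := by
          rw [Category.assoc, Category.assoc]; exact h3
      _ = sP ≫ φ j := by rw [ej]
  obtain ⟨Φ, hΦ⟩ := pcov_glue g 𝓤 t φ h2
  have hΦf : Φ ≫ f = pullback.snd t g ≫ g := by
    apply pcov_hom_ext g 𝓤 t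
    intro j
    rw [reassoc_of% (hΦ j), hφ j, pl_snd_assoc]
  refine ⟨mkL g f t Φ hΦf, fun j => ?_⟩
  rw [lmap_mkL, hxφ j, mkL_eq_iff]
  refine ⟨rfl, fun a b h1 h2 => ?_⟩
  obtain rfl := pullback.hom_ext h1 h2
  rw [hΦ j]

theorem isSheaf_lft : Presheaf.IsSheaf Scheme.zariskiTopology (lft (Flatn.morS g f)) := by
  rw [isSheaf_iff_isSheaf_of_type]
  rw [Precoverage.isSheaf_toGrothendieck_iff_of_isStableUnderBaseChange]
  rintro Y R hR
  obtain ⟨(𝓤 : Scheme.OpenCover Y), rfl⟩ := Scheme.exists_cover_of_mem_pretopology hR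
  rw [Presieve.isSheafFor_arrows_iff]
  intro x hx
  obtain ⟨y, hy⟩ := lft_glue g f 𝓤 x (fun i j P gi gj h => hx i j P gi gj h)
  refine ⟨y, hy, fun y' hy' => ?_⟩
  apply lft_sep g f 𝓤
  intro j
  exact (hy' j).trans (hy j).symm

end Groth.Agent.H4.HomH
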