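import Mathlib
import Groth.Prelude.Def_Flatn
import Groth.Agent.H4.HomH

/-! helper4: the open subfunctors of the functor of relative morphisms. -/

set_option autoImplicit false

universe u

open CategoryTheory CategoryTheory.Limits AlgebraicGeometry Opposite

noncomputable section

namespace Groth.Agent.H4.HomI

open Groth.Agent.H4.HomG Groth.Agent.H4.HomH

section Kappa

variable {S Z X V ZV U : Scheme.{u}} (g : Z ⟶ S) (f : X ⟶ S) (j : V ⟶ S)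
  (gV : ZV ⟶ V) (jZ : ZV ⟶ Z) (sqZ : IsPullback jZ gV g j)
  (i : U ⟶ X) (fU : U ⟶ V) (hU : fU ≫ j = i ≫ f)

/-- comparison of fibre products -/
def eI {T : Scheme.{u}} (t : T ⟶ V) : pullback (t ≫ j) g ⟶ pullback t gV :=
  pullback.lift (pullback.fst (t ≫ j) g)
    (sqZ.lift (pullback.snd (t ≫ j) g) (pullback.fst (t ≫ j) g ≫ t)
      (by rw [Category.assoc]; exact pullback.condition.symm)) (by rw [sqZ.lift_snd])

@[reassoc]
lemma eI_fst {T : Scheme.{u}} (t : T ⟶ V) :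
    eI g j gV jZ sqZ t ≫ pullback.fst t gV = pullback.fst (t ≫ j) g :=
  pullback.lift_fst _ _ _

@[reassoc]
lemma eI_snd_jZ {T : Scheme.{u}} (t : T ⟶ V) :
    eI g j gV jZ sqZ t ≫ pullback.snd t gV ≫ jZ = pullback.snd (t ≫ j) g := by
  unfold eI
  rw [pullback.lift_snd_assoc, sqZ.lift_fst]

@[reassoc]
lemma eI_snd_gV {T : Scheme.{u}} (t : T ⟶ V) :
    eI g j gV jZ sqZ t ≫ pullback.snd t gV ≫ gV = pullback.fst (t ≫ j) g ≫ t := by
  unfold eI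
  rw [pullback.lift_snd_assoc, sqZ.lift_snd]

include sqZ in
lemma eH_cond {T : Scheme.{u}} (t : T ⟶ V) :
    pullback.fst t gV ≫ (t ≫ j) = (pullback.snd t gV ≫ jZ) ≫ g := by
  rw [Category.assoc, sqZ.w, ← Category.assoc, ← Category.assoc, pullback.condition]

/-- the inverse comparison -/
def eH {T : Scheme.{u}} (t : T ⟶ V) : pullback t gV ⟶ pullback (t ≫ j) g :=
  pullback.lift (pullback.fst t gV) (pullback.snd t gV ≫ jZ) (eH_cond g j gV jZ sqZ t)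

@[reassoc]
lemma eH_fst {T : Scheme.{u}} (t : T ⟶ V) :
    eH g j gV jZ sqZ t ≫ pullback.fst (t ≫ j) g = pullback.fst t gV :=
  pullback.lift_fst _ _ _

@[reassoc]
lemma eH_snd {T : Scheme.{u}} (t : T ⟶ V) :
    eH g j gV jZ sqZ t ≫ pullback.snd (t ≫ j) g = pullback.snd t gV ≫ jZ :=
  pullback.lift_snd _ _ _

@[reassoc]
lemma eH_eI {T : Scheme.{u}} (t : T ⟶ V) :
    eH g j gV jZ sqZ t ≫ eI g j gV jZ sqZ t = 𝟙 _ := by
  apply pullback.hom_ext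
  · rw [Category.assoc, eI_fst, eH_fst, Category.id_comp]
  · apply sqZ.hom_ext
    · rw [Category.assoc, Category.assoc, eI_snd_jZ, eH_snd, Category.id_comp]
    · rw [Category.assoc, Category.assoc, eI_snd_gV, eH_fst_assoc, Category.id_comp,
        pullback.condition]

@[reassoc]
lemma eI_eH {T : Scheme.{u}} (t : T ⟶ V) :
    eI g j gV jZ sqZ t ≫ eH g j gV jZ sqZ t = 𝟙 _ := by
  apply pullback.hom_ext
  · rw [Category.assoc, eH_fst, eI_fst, Category.id_comp]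
  · rw [Category.assoc, eH_snd, eI_snd_jZ, Category.id_comp]

include hU in
lemma kap_cond {T : Scheme.{u}} (t : T ⟶ V) (ψ : pullback t gV ⟶ U)
    (h : ψ ≫ fU = pullback.snd t gV ≫ gV) :
    (eI g j gV jZ sqZ t ≫ ψ ≫ i) ≫ f = pullback.snd (t ≫ j) g ≫ g := by
  rw [Category.assoc, Category.assoc, ← hU, reassoc_of% h, ← sqZ.w, eI_snd_jZ_assoc]

/-- the comparison of lifted functors, on sections -/
def kap {T : Scheme.{u}} (y : LObj (Flatn.morS gV fU) T) : LObj (Flatn.morS g f) T :=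
  mkL g f (y.1 ≫ j) (eI g j gV jZ sqZ y.1 ≫ y.2.left ≫ i)
    (kap_cond g f j gV jZ sqZ i fU hU y.1 y.2.left (Over.w y.2))

lemma kap_mkL {T : Scheme.{u}} (t : T ⟶ V) (ψ : pullback t gV ⟶ U)
    (h : ψ ≫ fU = pullback.snd t gV ≫ gV) :
    kap g f j gV jZ sqZ i fU hU (mkL gV fU t ψ h) =
      mkL g f (t ≫ j) (eI g j gV jZ sqZ t ≫ ψ ≫ i) (kap_cond g f j gV jZ sqZ i fU hU t ψ h) :=
  rfl

lemma kap_natural {T T' : Scheme.{u}} (a : T' ⟶ T) (y : LObj (Flatn.morS gV fU) T) :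
    kap g f j gV jZ sqZ i fU hU (lmap (Flatn.morS gV fU) a y) =
      lmap (Flatn.morS g f) a (kap g f j gV jZ sqZ i fU hU y) := by
  obtain ⟨t, ψ, h, rfl⟩ := exists_mkL gV fU y
  rw [lmap_mkL, kap_mkL, kap_mkL, lmap_mkL, mkL_eq_iff]
  refine ⟨Category.assoc _ _ _, fun p q h1 h2 => ?_⟩
  have key : p ≫ eI g j gV jZ sqZ (a ≫ t) ≫ pl gV a t =
      q ≫ pl g a (t ≫ j) ≫ eI g j gV jZ sqZ t := by
    apply pullback.hom_ext
    · simp only [Category.assoc, pl_fst, pl_fst_assoc, eI_fst, eI_fst_assoc]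
      rw [reassoc_of% h1]
    · apply sqZ.hom_ext
      · simp only [Category.assoc, pl_snd, pl_snd_assoc, eI_snd_jZ, eI_snd_jZ_assoc]
        exact h2
      · simp only [Category.assoc, pl_snd, pl_snd_assoc, pl_fst_assoc, eI_snd_gV,
          eI_snd_gV_assoc]
        rw [reassoc_of% h1]
  calc p ≫ eI g j gV jZ sqZ (a ≫ t) ≫ (pl gV a t ≫ ψ) ≫ i
      = (p ≫ eI g j gV jZ sqZ (a ≫ t) ≫ pl gV a t) ≫ ψ ≫ i := by simp only [Category.assoc]
    _ = (q ≫ pl g a (t ≫ j) ≫ eI g j gV jZ sqZ t) ≫ ψ ≫ i := by rw [key]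
    _ = q ≫ pl g a (t ≫ j) ≫ eI g j gV jZ sqZ t ≫ ψ ≫ i := by simp only [Category.assoc]

/-- the comparison of lifted functors -/
def kapNat : lft (Flatn.morS gV fU) ⟶ lft (Flatn.morS g f) where
  app T := TypeCat.ofHom (kap g f j gV jZ sqZ i fU hU)
  naturality T T' a := by
    apply ConcreteCategory.hom_ext
    intro y
    exact kap_natural g f j gV jZ sqZ i fU hU a.unop y

lemma kapNat_app {T : Scheme.{u}} (y : LObj (Flatn.morS gV fU) T) :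
    (kapNat g f j gV jZ sqZ i fU hU).app (op T) y = kap g f j gV jZ sqZ i fU hU y := rfl

lemma kap_injective [Mono j] [Mono i] {T : Scheme.{u}} :
    Function.Injective (kap g f j gV jZ sqZ i fU hU (T := T)) := by
  intro y y' h
  obtain ⟨t, ψ, hψ, rfl⟩ := exists_mkL gV fU y
  obtain ⟨t', ψ', hψ', rfl⟩ := exists_mkL gV fU y'
  rw [kap_mkL, kap_mkL, mkL_eq_iff] at h
  obtain ⟨ht, hl⟩ := h
  have ht' : t = t' := (cancel_mono j).mp ht
  subst ht'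
  rw [mkL_eq_iff]
  refine ⟨rfl, fun a b h1 h2 => ?_⟩
  obtain rfl := pullback.hom_ext h1 h2
  congr 1
  have h3 := hl (eH g j gV jZ sqZ t) (eH g j gV jZ sqZ t) rfl rfl
  rw [eH_eI_assoc, eH_eI_assoc] at h3
  exact (cancel_mono i).mp h3

include hU in
lemma exists_kap_eq [Mono j] {T : Scheme.{u}} (t : T ⟶ S) (φ : pullback t g ⟶ X)
    (h : φ ≫ f = pullback.snd t g ≫ g) (tV : T ⟶ V) (htV : tV ≫ j = t)
    (ψ : pullback t g ⟶ U) (hψ : ψ ≫ i = φ) :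
    ∃ y₀, kap g f j gV jZ sqZ i fU hU y₀ = mkL g f t φ h := by
  subst htV
  have hc : (eH g j gV jZ sqZ tV ≫ ψ) ≫ fU = pullback.snd tV gV ≫ gV := by
    rw [← cancel_mono j]
    simp only [Category.assoc]
    rw [hU, reassoc_of% hψ, h, eH_snd_assoc, sqZ.w]
  refine ⟨mkL gV fU tV (eH g j gV jZ sqZ tV ≫ ψ) hc, ?_⟩
  rw [kap_mkL, mkL_eq_iff]
  refine ⟨rfl, fun a b h1 h2 => ?_⟩
  obtain rfl := pullback.hom_ext h1 h2
  simp only [Category.assoc]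
  rw [eI_eH_assoc, hψ]

lemma of_kap_eq {T : Scheme.{u}} (y₀ : LObj (Flatn.morS gV fU) T) (t : T ⟶ S)
    (φ : pullback t g ⟶ X) (h : φ ≫ f = pullback.snd t g ≫ g)
    (e : kap g f j gV jZ sqZ i fU hU y₀ = mkL g f t φ h) :
    ∃ (tV : T ⟶ V) (ψ : pullback t g ⟶ U), tV ≫ j = t ∧ ψ ≫ i = φ := by
  obtain ⟨tV, ψ₀, hψ₀, rfl⟩ := exists_mkL gV fU y₀
  rw [kap_mkL, mkL_eq_iff] at e
  obtain ⟨rfl, hl⟩ := e
  refine ⟨tV, eI g j gV jZ sqZ tV ≫ ψ₀, rfl, ?_⟩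
  have := hl (𝟙 _) (𝟙 _) rfl rfl
  simpa only [Category.id_comp, Category.assoc] using this

end Kappa

section Top

variable {S Z X : Scheme.{u}} (g : Z ⟶ S) [IsFinite g] (V₀ : S.Opens) (U₀ : X.Opens)

/-- the open locus where a section lands in the open subfunctor -/
def T0 {T : Scheme.{u}} (t : T ⟶ S) (φ : pullback t g ⟶ X) : T.Opens :=
  ⟨{p | t p ∈ V₀ ∧ ∀ w : ↥(pullback t g), (pullback.fst t g) w = p → φ w ∈ U₀}, by
    have : {p | t p ∈ V₀ ∧ ∀ w : ↥(pullback t g), (pullback.fst t g) w = p → φ w ∈ U₀} =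
        (t ⁻¹' (V₀ : Set S)) ∩ ((pullback.fst t g) '' (φ ⁻¹' (U₀ : Set X)ᶜ))ᶜ := by
      ext p
      constructor
      · rintro ⟨h1, h2⟩
        exact ⟨h1, fun ⟨w, hw, hp⟩ => hw (h2 w hp)⟩
      · rintro ⟨h1, h2⟩
        refine ⟨h1, fun w hw => ?_⟩
        by_contra hc
        exact h2 ⟨w, hc, hw⟩
    rw [this]
    exact (V₀.isOpen.preimage t.continuous).inter
      ((pullback.fst t g).isClosedMap _
        (U₀.isOpen.isClosed_compl.preimage φ.continuous)).isOpen_compl⟩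

lemma mem_T0 {T : Scheme.{u}} (t : T ⟶ S) (φ : pullback t g ⟶ X) (p : T) :
    p ∈ T0 g V₀ U₀ t φ ↔
      t p ∈ V₀ ∧ ∀ w : ↥(pullback t g), (pullback.fst t g) w = p → φ w ∈ U₀ := Iff.rfl

lemma range_le_T0_iff {T T' : Scheme.{u}} (t : T ⟶ S) (φ : pullback t g ⟶ X) (a : T' ⟶ T) :
    (∀ x' : T', a x' ∈ T0 g V₀ U₀ t φ) ↔
      (∀ x' : T', (a ≫ t) x' ∈ V₀) ∧ ∀ z : ↥(pullback (a ≫ t) g), (pl g a t ≫ φ) z ∈ U₀ := by
  constructor
  · intro h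
    refine ⟨fun x' => ?_, fun z => ?_⟩
    · rw [Scheme.Hom.comp_apply]
      exact (h x').1
    · rw [Scheme.Hom.comp_apply]
      refine (h ((pullback.fst (a ≫ t) g) z)).2 ((pl g a t) z) ?_
      rw [← Scheme.Hom.comp_apply, ← Scheme.Hom.comp_apply, pl_fst]
  · rintro ⟨h1, h2⟩ x'
    refine ⟨?_, fun w hw => ?_⟩
    · have := h1 x'
      rwa [Scheme.Hom.comp_apply] at this
    · obtain ⟨z, hz1, hz2⟩ := Scheme.exists_preimage_of_isPullback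
        (pl_isPullback g a t) w x' hw
      have := h2 z
      rw [Scheme.Hom.comp_apply] at this
      rw [← hz1]
      exact this

end Top

section KL

variable {S Z X ZV : Scheme.{u}} (g : Z ⟶ S) (f : X ⟶ S) [IsFinite g] (V₀ : S.Opens)
  (U₀ : X.Opens) (gV : ZV ⟶ (V₀ : Scheme.{u})) (jZ : ZV ⟶ Z) (sqZ : IsPullback jZ gV g V₀.ι)
  (fU : (U₀ : Scheme.{u}) ⟶ (V₀ : Scheme.{u})) (hU : fU ≫ V₀.ι = U₀.ι ≫ f)

omit [IsFinite g] in
include hU in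
lemma exists_kap_eq_of_range {T : Scheme.{u}} (t : T ⟶ S) (φ : pullback t g ⟶ X)
    (h : φ ≫ f = pullback.snd t g ≫ g)
    (h1 : ∀ x : T, t x ∈ V₀) (h2 : ∀ z : ↥(pullback t g), φ z ∈ U₀) :
    ∃ y₀, kap g f V₀.ι gV jZ sqZ U₀.ι fU hU y₀ = mkL g f t φ h := by
  have r1 : Set.range t ⊆ Set.range V₀.ι := by
    rw [Scheme.Opens.range_ι]
    rintro _ ⟨x, rfl⟩
    exact h1 x
  have r2 : Set.range φ ⊆ Set.range U₀.ι := by
    rw [Scheme.Opens.range_ι]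
    rintro _ ⟨z, rfl⟩
    exact h2 z
  exact exists_kap_eq g f V₀.ι gV jZ sqZ U₀.ι fU hU t φ h (IsOpenImmersion.lift V₀.ι t r1)
    (IsOpenImmersion.lift_fac _ _ _) (IsOpenImmersion.lift U₀.ι φ r2)
    (IsOpenImmersion.lift_fac _ _ _)

omit [IsFinite g] in
lemma range_of_kap_eq {T : Scheme.{u}} (y₀ : LObj (Flatn.morS gV fU) T) (t : T ⟶ S)
    (φ : pullback t g ⟶ X) (h : φ ≫ f = pullback.snd t g ≫ g)
    (e : kap g f V₀.ι gV jZ sqZ U₀.ι fU hU y₀ = mkL g f t φ h) :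
    (∀ x : T, t x ∈ V₀) ∧ ∀ z : ↥(pullback t g), φ z ∈ U₀ := by
  obtain ⟨tV, ψ, rfl, rfl⟩ := of_kap_eq g f V₀.ι gV jZ sqZ U₀.ι fU hU y₀ t φ h e
  refine ⟨fun x => ?_, fun z => ?_⟩
  · rw [Scheme.Hom.comp_apply]
    have : V₀.ι (tV x) ∈ Set.range V₀.ι := ⟨_, rfl⟩
    rwa [Scheme.Opens.range_ι] at this
  · rw [Scheme.Hom.comp_apply]
    have : U₀.ι (ψ z) ∈ Set.range U₀.ι := ⟨_, rfl⟩
    rwa [Scheme.Opens.range_ι] at this

lemma exists_kap_eq_T0 {T : Scheme.{u}} (t : T ⟶ S) (φ : pullback t g ⟶ X)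
    (h : φ ≫ f = pullback.snd t g ≫ g) :
    ∃ y₀, kap g f V₀.ι gV jZ sqZ U₀.ι fU hU y₀ =
      lmap (Flatn.morS g f) (T0 g V₀ U₀ t φ).ι (mkL g f t φ h) := by
  have hr := (range_le_T0_iff g V₀ U₀ t φ (T0 g V₀ U₀ t φ).ι).mp (fun x' => by
    have : (T0 g V₀ U₀ t φ).ι x' ∈ Set.range (T0 g V₀ U₀ t φ).ι := ⟨_, rfl⟩
    rwa [Scheme.Opens.range_ι] at this)
  rw [lmap_mkL]
  exact exists_kap_eq_of_range g f V₀ U₀ gV jZ sqZ fU hU _ _ _ hr.1 hr.2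

theorem kapNat_isOpenImmersion :
    IsOpenImmersion.presheaf (kapNat g f V₀.ι gV jZ sqZ U₀.ι fU hU) := by
  apply presheaf_of_local
  · intro T
    exact kap_injective g f V₀.ι gV jZ sqZ U₀.ι fU hU
  · intro T y
    obtain ⟨t, φ, h, rfl⟩ := exists_mkL g f y
    refine ⟨↑(T0 g V₀ U₀ t φ), (T0 g V₀ U₀ t φ).ι, inferInstance, inferInstance, ?_, ?_⟩
    · obtain ⟨y₀, hy₀⟩ := exists_kap_eq_T0 g f V₀ U₀ gV jZ sqZ fU hU t φ h
      exact ⟨y₀, hy₀⟩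
    · rintro T' a ⟨y', hy'⟩
      rw [kapNat_app, lft_map_apply, lmap_mkL] at hy'
      obtain ⟨h1, h2⟩ := range_of_kap_eq g f V₀ U₀ gV jZ sqZ fU hU y' _ _ _ hy'
      have hr := (range_le_T0_iff g V₀ U₀ t φ a).mpr ⟨h1, h2⟩
      refine ⟨IsOpenImmersion.lift (T0 g V₀ U₀ t φ).ι a ?_, IsOpenImmersion.lift_fac _ _ _⟩
      rw [Scheme.Opens.range_ι]
      rintro _ ⟨x', rfl⟩
      exact hr x'

end KL

end Groth.Agent.H4.HomI
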