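import Mathlib
import Groth.Prelude.Def_Flatn
import Groth.Agent.H4.HomI
import Groth.Agent.H4.HomF

/-! helper4: representability of the functor of relative morphisms `Mor_S(Z, X)` for `Z → S`
finite locally free and `X → S` such that finite sets of points in a fibre lie in an affine
open. -/

set_option autoImplicit false

universe u

open CategoryTheory CategoryTheory.Limits AlgebraicGeometry Opposite

noncomputable section

namespace Groth.Agent.H4.HomJ

open Groth.Agent.H4.HomG Groth.Agent.H4.HomH Groth.Agent.H4.HomI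

/-- finitely many points of an open subset of an affine open lie in a smaller affine open
(prime avoidance) -/
lemma exists_affine_le_of_finite {X : Scheme.{u}} (U' : X.Opens) (hU' : IsAffineOpen U')
    (O : X.Opens) {d : ℕ} (x : Fin d → X) (hx1 : ∀ k, x k ∈ U') (hx2 : ∀ k, x k ∈ O) :
    ∃ U₀ : X.Opens, IsAffineOpen U₀ ∧ U₀ ≤ U' ∧ U₀ ≤ O ∧ ∀ k, x k ∈ U₀ := by
  rcases d with _ | d
  · exact ⟨⊥, isAffineOpen_bot X, bot_le, bot_le, fun k => k.elim0⟩
  let y : Fin (d + 1) → PrimeSpectrum Γ(X, U') := fun k => hU'.primeIdealOf ⟨x k, hx1 k⟩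
  have hy : ∀ k, hU'.fromSpec (y k) = x k := fun k => hU'.fromSpec_primeIdealOf ⟨x k, hx1 k⟩
  let C : Set (PrimeSpectrum Γ(X, U')) := {w | ¬ (hU'.fromSpec w ∈ O)}
  have hC : IsClosed C := by
    show IsClosed (((hU'.fromSpec ⁻¹ᵁ O : (Spec Γ(X, U')).Opens) :
      Set ↥(Spec Γ(X, U')))ᶜ)
    exact (hU'.fromSpec ⁻¹ᵁ O).isOpen.isClosed_compl
  have hI : ∀ k, ¬ PrimeSpectrum.vanishingIdeal C ≤ (y k).asIdeal := by
    intro k hk
    have h1 : y k ∈ PrimeSpectrum.zeroLocus (PrimeSpectrum.vanishingIdeal C : Set Γ(X, U')) := hk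
    rw [PrimeSpectrum.zeroLocus_vanishingIdeal_eq_closure, hC.closure_eq] at h1
    apply h1
    rw [hy]
    exact hx2 k
  have hnot : ¬ ((PrimeSpectrum.vanishingIdeal C : Set Γ(X, U')) ⊆
      ⋃ k ∈ ((Finset.univ : Finset (Fin (d + 1))) : Set (Fin (d + 1))),
        ((y k).asIdeal : Set Γ(X, U'))) := by
    rw [Ideal.subset_union_prime (0 : Fin (d + 1)) 0 (fun k _ _ _ => (y k).isPrime)]
    rintro ⟨k, -, hk⟩
    exact hI k hk
  obtain ⟨a, haI, ha⟩ := Set.not_subset.mp hnot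
  have ha' : ∀ k, a ∉ (y k).asIdeal := by
    intro k hk
    apply ha
    simp only [Set.mem_iUnion]
    exact ⟨k, by simp, hk⟩
  refine ⟨X.basicOpen a, hU'.basicOpen a, X.basicOpen_le a, ?_, fun k => ?_⟩
  · intro z hz
    have hzU : z ∈ U' := X.basicOpen_le a hz
    obtain ⟨w, hw⟩ : ∃ w, w = hU'.primeIdealOf ⟨z, hzU⟩ := ⟨_, rfl⟩
    have hwz : hU'.fromSpec w = z := by
      rw [hw]
      exact hU'.fromSpec_primeIdealOf ⟨z, hzU⟩
    have hwa : w ∈ PrimeSpectrum.basicOpen a := by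
      rw [← hU'.fromSpec_preimage_basicOpen]
      show hU'.fromSpec w ∈ X.basicOpen a
      rw [hwz]
      exact hz
    by_contra hzO
    have hwC : w ∈ C := by
      show ¬ (hU'.fromSpec w ∈ O)
      rw [hwz]
      exact hzO
    exact (PrimeSpectrum.mem_basicOpen _ _).mp hwa
      ((PrimeSpectrum.mem_vanishingIdeal _ _).mp haI w hwC)
  · rw [← hy k]
    show y k ∈ hU'.fromSpec ⁻¹ᵁ X.basicOpen a
    rw [hU'.fromSpec_preimage_basicOpen]
    exact ha' k

section Main

variable {Z X S : Scheme.{u}} (g : Z ⟶ S) (f : X ⟶ S)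

/-- the index type of the open subfunctors -/
abbrev Idx : Type u :=
  { p : S.Opens × X.Opens // IsAffineOpen p.1 ∧ IsAffineOpen p.2 ∧ p.2 ≤ f ⁻¹ᵁ p.1 }

lemma exists_piece (hg : Mor2.IsFinLocFree g) (idx : Idx f) :
    ∃ W : Over (idx.1.1 : Scheme.{u}),
      Nonempty ((Flatn.morS (g ∣_ idx.1.1)
        (f.resLE idx.1.1 idx.1.2 idx.2.2.2)).RepresentableBy W) := by
  haveI : IsAffine (idx.1.1 : Scheme.{u}) := idx.2.1
  haveI : IsAffine (idx.1.2 : Scheme.{u}) := idx.2.2.1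
  have sq := (isPullback_morphismRestrict g idx.1.1).flip
  have hgV : Mor2.IsFinLocFree (g ∣_ idx.1.1) :=
    ⟨MorphismProperty.of_isPullback (P := @IsFinite) sq hg.1,
      MorphismProperty.of_isPullback (P := @Flat) sq hg.2.1,
      MorphismProperty.of_isPullback (P := @LocallyOfFinitePresentation) sq hg.2.2⟩
  obtain ⟨W, -, -, hW⟩ := Groth.Agent.H4.HomF.main_global (g ∣_ idx.1.1)
    (f.resLE idx.1.1 idx.1.2 idx.2.2.2) hgV
  exact ⟨W, hW⟩

theorem main (hg : Mor2.IsFinLocFree g)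
    (hAF : ∀ (s : S) (d : ℕ) (x : Fin d → ↥X), (∀ k, f (x k) = s) →
      ∃ U : X.Opens, IsAffineOpen U ∧ ∀ k, x k ∈ U) :
    (Flatn.morS g f).IsRepresentable := by
  haveI : IsFinite g := hg.1
  choose W hW using exists_piece g f hg
  have R := fun idx => (hW idx).some
  let F : Sheaf Scheme.zariskiTopology (Type u) := ⟨lft (Flatn.morS g f), isSheaf_lft g f⟩
  let ff : ∀ idx : Idx f, yoneda.obj (W idx).left ⟶ F.1 := fun idx =>
    (lftRep _ (R idx)).toIso.hom ≫ kapNat g f idx.1.1.ι (g ∣_ idx.1.1) (g ⁻¹ᵁ idx.1.1).ι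
      (isPullback_morphismRestrict g idx.1.1).flip idx.1.2.ι
      (f.resLE idx.1.1 idx.1.2 idx.2.2.2) (Scheme.Hom.resLE_comp_ι f idx.2.2.2)
  have hff : ∀ idx, IsOpenImmersion.presheaf (ff idx) := by
    intro idx
    exact (MorphismProperty.cancel_left_of_respectsIso _ _ _).mpr
      (kapNat_isOpenImmersion g f idx.1.1 idx.1.2 (g ∣_ idx.1.1) (g ⁻¹ᵁ idx.1.1).ι
        (isPullback_morphismRestrict g idx.1.1).flip
        (f.resLE idx.1.1 idx.1.2 idx.2.2.2) (Scheme.Hom.resLE_comp_ι f idx.2.2.2))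
  haveI : Presheaf.IsLocallySurjective Scheme.zariskiTopology (Sigma.desc ff) := by
    refine ⟨fun {T} y => ?_⟩
    obtain ⟨t, φ, h, rfl⟩ := exists_mkL g f y
    have hpt : ∀ p : T, ∃ (idx : Idx f) (T₀ : T.Opens) (b : (T₀ : Scheme.{u}) ⟶ (W idx).left),
        p ∈ T₀ ∧ (ff idx).app (op (T₀ : Scheme.{u})) b =
          F.1.map T₀.ι.op (mkL g f t φ h) := by
      intro p
      have hfin : ((pullback.fst t g) ⁻¹' {p}).Finite :=
        (pullback.fst t g).finite_preimage_singleton p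
      haveI : Finite ↥((pullback.fst t g) ⁻¹' {p}) := hfin.to_subtype
      obtain ⟨d, ⟨e⟩⟩ := Finite.exists_equiv_fin ↥((pullback.fst t g) ⁻¹' {p})
      have hfx : ∀ w : ↥(pullback t g), (pullback.fst t g) w = p → f (φ w) = t p := by
        intro w hw
        rw [← Scheme.Hom.comp_apply, h, ← pullback.condition, Scheme.Hom.comp_apply, hw]
      obtain ⟨U', hU', hxU'⟩ := hAF (t p) d (fun k => φ (e.symm k).1)
        (fun k => hfx _ (e.symm k).2)
      obtain ⟨V₀, hV₀, hpV₀, -⟩ := exists_isAffineOpen_mem_and_subset (x := t p)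
        (U := (⊤ : S.Opens)) trivial
      obtain ⟨U₀, hU₀, -, hle2, hxU₀⟩ := exists_affine_le_of_finite U' hU' (f ⁻¹ᵁ V₀)
        (fun k => φ (e.symm k).1) hxU' (fun k => by
          show f (φ (e.symm k).1) ∈ V₀
          rw [hfx _ (e.symm k).2]
          exact hpV₀)
      let idx : Idx f := ⟨(V₀, U₀), hV₀, hU₀, hle2⟩
      have hpT : p ∈ T0 g idx.1.1 idx.1.2 t φ := by
        refine ⟨hpV₀, fun w hw => ?_⟩
        have h1 := hxU₀ (e ⟨w, hw⟩)
        simp only [Equiv.symm_apply_apply] at h1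
        exact h1
      obtain ⟨y₀, hy₀⟩ := exists_kap_eq_T0 g f idx.1.1 idx.1.2 (g ∣_ idx.1.1)
        (g ⁻¹ᵁ idx.1.1).ι (isPullback_morphismRestrict g idx.1.1).flip
        (f.resLE idx.1.1 idx.1.2 idx.2.2.2) (Scheme.Hom.resLE_comp_ι f idx.2.2.2) t φ h
      refine ⟨idx, T0 g idx.1.1 idx.1.2 t φ, (lftRep _ (R idx)).homEquiv.symm y₀, hpT, ?_⟩
      have e1 : (lftRep _ (R idx)).homEquiv ((lftRep _ (R idx)).homEquiv.symm y₀) = y₀ :=
        Equiv.apply_symm_apply _ _
      exact (congrArg (kap g f idx.1.1.ι (g ∣_ idx.1.1) (g ⁻¹ᵁ idx.1.1).ι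
        (isPullback_morphismRestrict g idx.1.1).flip idx.1.2.ι
        (f.resLE idx.1.1 idx.1.2 idx.2.2.2) (Scheme.Hom.resLE_comp_ι f idx.2.2.2)) e1).trans hy₀
    choose idx T₀ b hp hb using hpt
    have hcov : TopologicalSpace.IsOpenCover T₀ := by
      rw [TopologicalSpace.IsOpenCover, eq_top_iff]
      intro p _
      exact TopologicalSpace.Opens.mem_iSup.mpr ⟨p, hp p⟩
    refine GrothendieckTopology.superset_covering _ ?_
      (Scheme.Cover.mem_grothendieckTopology (T.openCoverOfIsOpenCover T₀ hcov))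
    rw [Sieve.ofArrows, Sieve.generate_le_iff]
    rintro T' a ⟨p⟩
    refine ⟨(Sigma.ι (fun idx => yoneda.obj (W idx).left) (idx p)).app _ (b p), ?_⟩
    have := congrArg (fun m => m.app (op (T₀ p : Scheme.{u})) (b p)) (Sigma.ι_desc ff (idx p))
    exact this.trans (hb p)
  have hrep : F.1.IsRepresentable := Scheme.LocalRepresentability.isRepresentable hff
  obtain ⟨W', ⟨R'⟩⟩ := hrep.has_representation
  obtain ⟨W₀, hW₀⟩ := rep_of_lft_rep (Flatn.morS g f) R'
  exact ⟨W₀, hW₀⟩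

end Main

end Groth.Agent.H4.HomJ
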