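import Mathlib
import Groth.Agent.H4.HbE
import Groth.Agent.H4.HbF
import Groth.Agent.H4.HomJ

/-! helper4: the pieces of the Hilbert functor of points cover it. -/

set_option autoImplicit false

universe u

open CategoryTheory CategoryTheory.Limits AlgebraicGeometry Opposite

noncomputable section

namespace Groth.Agent.H4.HbG

open Groth.Agent.H4.HomG Groth.Agent.H4.HbA Groth.Agent.H4.HbB Groth.Agent.H4.HbC
  Groth.Agent.H4.HbD Groth.Agent.H4.HomC Groth.Agent.H4.HbE Groth.Agent.H4.HbF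

variable {X S : Scheme.{u}} (f : X ⟶ S) (d : ℕ)

/-- the global sections of a family inside an affine chart are spanned by the functions of the
chart -/
lemma span_ind {V₀ : S.Opens} {U₀ : X.Opens} {T : Scheme.{u}} [IsAffine T]
    (hV₀ : IsAffineOpen V₀) (hU₀ : IsAffineOpen U₀)
    (e : U₀ ≤ f ⁻¹ᵁ V₀) (t : T ⟶ S) (I : (pullback f t).IdealSheafData)
    (h : Mor2.IsFinLocFreeOfDeg d (I.subschemeι ≫ pullback.snd f t))
    (t₀ : T ⟶ V₀.toScheme) (j : I.subscheme ⟶ U₀.toScheme) (h1 : t₀ ≫ V₀.ι = t)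
    (h2 : j ≫ U₀.ι = I.subschemeι ≫ pullback.fst f t)
    (Q : Γ(I.subscheme, ⊤) → Prop) (hQ0 : Q 0) (hQadd : ∀ x y, Q x → Q y → Q (x + y))
    (hQmul : ∀ r b, Q ((I.subschemeι ≫ pullback.snd f t).appTop.hom r * j.appTop.hom b)) :
    ∀ c, Q c := by
  haveI : IsAffine V₀.toScheme := hV₀
  haveI : IsAffine U₀.toScheme := hU₀
  haveI : IsFinite (I.subschemeι ≫ pullback.snd f t) := h.1.1
  obtain ⟨g, hg⟩ : ∃ g : U₀.toScheme ⟶ V₀.toScheme, g = f.resLE V₀ U₀ e := ⟨_, rfl⟩
  have hgι : g ≫ V₀.ι = U₀.ι ≫ f := by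
    rw [hg]
    exact Scheme.Hom.resLE_comp_ι f e
  have hc : j ≫ g = (I.subschemeι ≫ pullback.snd f t) ≫ t₀ := by
    rw [← cancel_mono V₀.ι, Category.assoc, hgι, reassoc_of% h2,
      Category.assoc, Category.assoc, h1, pullback.condition]
  obtain ⟨ι', hι'⟩ : ∃ ι' : I.subscheme ⟶ pullback g t₀,
      ι' = pullback.lift j (I.subschemeι ≫ pullback.snd f t) hc := ⟨_, rfl⟩
  have hfst : ι' ≫ pullback.fst g t₀ = j := by rw [hι', pullback.lift_fst]
  have hsnd : ι' ≫ pullback.snd g t₀ = I.subschemeι ≫ pullback.snd f t := by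
    rw [hι', pullback.lift_snd]
  obtain ⟨m, hm⟩ : ∃ m : pullback g t₀ ⟶ pullback f t,
      m = pullback.map g t₀ f t U₀.ι (𝟙 T) V₀.ι hgι (by rw [h1, Category.id_comp]) := ⟨_, rfl⟩
  have hm1 : m ≫ pullback.fst f t = pullback.fst g t₀ ≫ U₀.ι := by
    rw [hm]
    exact pullback.lift_fst _ _ _
  have hm2 : m ≫ pullback.snd f t = pullback.snd g t₀ ≫ 𝟙 T := by
    rw [hm]
    exact pullback.lift_snd _ _ _
  have hιm : ι' ≫ m = I.subschemeι := by
    apply pullback.hom_ext
    · rw [Category.assoc, hm1, reassoc_of% hfst, h2]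
    · rw [Category.assoc, hm2, Category.comp_id, hsnd]
  haveI : Mono ι' := mono_of_mono_fac hιm
  haveI : IsProper (ι' ≫ pullback.snd g t₀) := by
    rw [hsnd]
    infer_instance
  haveI : IsProper ι' := IsProper.of_comp ι' (pullback.snd g t₀)
  haveI : IsClosedImmersion ι' :=
    (IsClosedImmersion.iff_isProper_and_mono _).mpr ⟨inferInstance, inferInstance⟩
  obtain ⟨-, hsurj⟩ := IsClosedImmersion.isAffine_surjective_of_isAffine ι'
  have hpo := isPushout_appTop_of_isPullback (IsPullback.of_hasPullback g t₀)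
  have e1 : ∀ s, ι'.appTop.hom ((pullback.snd g t₀).appTop.hom s) =
      (I.subschemeι ≫ pullback.snd f t).appTop.hom s := by
    intro s
    rw [← hsnd, Scheme.Hom.comp_appTop]
    rfl
  have e2 : ∀ b, ι'.appTop.hom ((pullback.fst g t₀).appTop.hom b) = j.appTop.hom b := by
    intro b
    rw [← hfst, Scheme.Hom.comp_appTop]
    rfl
  intro c
  obtain ⟨c', hc'⟩ := hsurj c
  have key : ∀ c', Q (ι'.appTop.hom c') := by
    refine pushout_induction hpo (fun c' => Q (ι'.appTop.hom c')) ?_ ?_ ?_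
    · show Q (ι'.appTop.hom 0)
      rw [map_zero]
      exact hQ0
    · intro x y hx hy
      show Q (ι'.appTop.hom (x + y))
      rw [map_add]
      exact hQadd _ _ hx hy
    · intro s b
      show Q (ι'.appTop.hom ((pullback.snd g t₀).appTop.hom s * (pullback.fst g t₀).appTop.hom b))
      rw [map_mul, e1, e2]
      exact hQmul s b
  have := key c'
  rw [← hc']
  exact this

variable (hAF : ∀ (s : S) (x : Fin d → X), (∀ i, f.base (x i) = s) →
  ∃ U : X.Opens, IsAffineOpen U ∧ ∀ i, x i ∈ U)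

include hAF in
/-- over a one-point base with a field of functions every family lies in a piece -/
theorem cover_field {K : Scheme.{u}} [IsAffine K] (hK : IsField Γ(K, ⊤)) (q₀ : K)
    (hq : ∀ q : K, q = q₀) (y : LObj (hG f d) K) :
    ∃ (V₀ : S.Opens) (U₀ : X.Opens) (_ : IsAffineOpen V₀) (_ : IsAffineOpen U₀)
      (_ : U₀ ≤ f ⁻¹ᵁ V₀) (w : Fin d → Γ(U₀.toScheme, ⊤)), Good f d V₀ U₀ w y := by
  obtain ⟨t, I, h, rfl⟩ := exists_mkH f d y
  haveI : IsFinite (I.subschemeι ≫ pullback.snd f t) := h.1.1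
  haveI : Flat (I.subschemeι ≫ pullback.snd f t) := h.1.2.1
  haveI : IsAffine I.subscheme := isAffine_of_isAffineHom (I.subschemeι ≫ pullback.snd f t)
  have hfin := (I.subschemeι ≫ pullback.snd f t).finite_appTop
  have hrank := finrank_appTop_eq d (I.subschemeι ≫ pullback.snd f t) h.2
  obtain ⟨hfinP, hcard⟩ := alg_card hK _ hfin hrank
  -- the points of the family
  obtain ⟨eZ⟩ : Nonempty (I.subscheme ≃ PrimeSpectrum Γ(I.subscheme, ⊤)) :=
    ⟨(Scheme.homeoOfIso I.subscheme.isoSpec).toEquiv⟩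
  haveI : Finite I.subscheme := Finite.of_equiv _ eZ.symm
  have hcardZ : Nat.card I.subscheme ≤ d := by
    rw [Nat.card_congr eZ]
    exact hcard
  have hfz : ∀ z : I.subscheme, f.base ((I.subschemeι ≫ pullback.fst f t) z) = t q₀ := by
    intro z
    have h3 := congrArg (fun m => m z)
      (show (I.subschemeι ≫ pullback.fst f t) ≫ f = (I.subschemeι ≫ pullback.snd f t) ≫ t by
        rw [Category.assoc, Category.assoc, pullback.condition])
    simp only [Scheme.Hom.comp_apply] at h3 ⊢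
    rw [h3, hq ((pullback.snd f t) (I.subschemeι z))]
  obtain ⟨x, hx1, hx2⟩ : ∃ x : Fin d → X, (∀ i, f.base (x i) = t q₀) ∧
      ∀ z : I.subscheme, ∃ i, x i = (I.subschemeι ≫ pullback.fst f t) z := by
    rcases isEmpty_or_nonempty I.subscheme with hE | hN
    · have hd0 : d = 0 := by
        by_contra hd
        have hs : Surjective (I.subschemeι ≫ pullback.snd f t) :=
          (Scheme.Hom.one_le_finrank_iff_surjective _).mp (fun q => by
            show 1 ≤ (I.subschemeι ≫ pullback.snd f t).finrank q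
            rw [h.2 q]
            exact Nat.one_le_iff_ne_zero.mpr hd)
        obtain ⟨z, -⟩ := (I.subschemeι ≫ pullback.snd f t).surjective q₀
        exact hE.false z
      subst hd0
      exact ⟨fun i => i.elim0, fun i => i.elim0, fun z => (hE.false z).elim⟩
    · letI : Fintype I.subscheme := Fintype.ofFinite _
      have hle : Fintype.card I.subscheme ≤ Fintype.card (Fin d) := by
        rw [Fintype.card_fin, ← Nat.card_eq_fintype_card]
        exact hcardZ
      obtain ⟨emb⟩ := Function.Embedding.nonempty_of_card_le hle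
      refine ⟨fun i => (I.subschemeι ≫ pullback.fst f t) (Function.invFun emb i),
        fun i => hfz _, fun z => ⟨emb z, ?_⟩⟩
      show (I.subschemeι ≫ pullback.fst f t) (Function.invFun emb (emb z)) = _
      rw [Function.leftInverse_invFun emb.injective z]
  obtain ⟨U', hU', hxU'⟩ := hAF (t q₀) x hx1
  obtain ⟨V₀, hV₀, hsV₀, -⟩ := exists_isAffineOpen_mem_and_subset (x := t q₀)
    (U := (⊤ : S.Opens)) trivial
  obtain ⟨U₀, hU₀, -, hle, hxU₀⟩ := Groth.Agent.H4.HomJ.exists_affine_le_of_finite U' hU'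
    (f ⁻¹ᵁ V₀) x hxU' (fun k => by
      show f (x k) ∈ V₀
      rw [hx1 k]
      exact hsV₀)
  have hpre : ∀ p, p ∈ Tpre f V₀ U₀ t I := by
    intro p
    refine ⟨?_, fun z _ => ?_⟩
    · rw [hq p]
      exact hsV₀
    · obtain ⟨i, hi⟩ := hx2 z
      rw [← hi]
      exact hxU₀ i
  obtain ⟨t₀, j, h1, h2⟩ := fac_of_all f V₀ U₀ t I hpre
  obtain ⟨w, hw⟩ := alg_w hK (I.subschemeι ≫ pullback.snd f t).appTop.hom j.appTop.hom hfin hrank
    (span_ind f d hV₀ hU₀ hle t I h t₀ j h1 h2)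
  refine ⟨V₀, U₀, hV₀, hU₀, hle, w, ?_⟩
  rw [good_mkH]
  exact ⟨t₀, j, h1, h2, hw⟩

include hAF in
/-- every point of the base of a family lies in the open locus of a piece -/
theorem cover_point {T : Scheme.{u}} (y : LObj (hG f d) T) (p : T) :
    ∃ (V₀ : S.Opens) (U₀ : X.Opens) (_ : IsAffineOpen V₀) (_ : IsAffineOpen U₀)
      (_ : U₀ ≤ f ⁻¹ᵁ V₀) (w : Fin d → Γ(U₀.toScheme, ⊤)), p ∈ T0 f d V₀ U₀ w y := by
  have hK : IsField Γ(Spec (T.residueField p), ⊤) :=
    MulEquiv.isField (Field.toIsField (T.residueField p))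
      (Scheme.ΓSpecIso (T.residueField p)).commRingCatIsoToRingEquiv.toMulEquiv
  obtain ⟨V₀, U₀, hV₀, hU₀, e, w, hG'⟩ := cover_field f d hAF hK default
    (fun q => Unique.eq_default q) (lmap (hG f d) (T.fromSpecResidueField p) y)
  refine ⟨V₀, U₀, hV₀, hU₀, e, w, ?_⟩
  obtain ⟨T₂, hT₂, c, hc, hp, hG₂⟩ := good_nbhd f d V₀ U₀ w y (T.fromSpecResidueField p)
    default hG'
  rw [Scheme.fromSpecResidueField_apply] at hp
  exact ⟨T₂, hT₂, c, hc, hp, hG₂⟩

end Groth.Agent.H4.HbG
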