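import Mathlib
import Groth.Agent.H4.HbG
import Groth.Agent.H4.HilbDesc

/-! helper4: representability of the Hilbert functor of points `Hilb^d_{X/S}` for `X → S` separated
such that any `d` points of a fibre lie in an affine open. -/

set_option autoImplicit false

universe u

open CategoryTheory CategoryTheory.Limits AlgebraicGeometry Opposite

noncomputable section

namespace Groth.Agent.H4.HbH

open Groth.Agent.H4.HomG Groth.Agent.H4.HbA Groth.Agent.H4.HbB Groth.Agent.H4.HbC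
  Groth.Agent.H4.HbD Groth.Agent.H4.HomC Groth.Agent.H4.HbE Groth.Agent.H4.HbF Groth.Agent.H4.HbG

variable {X S : Scheme.{u}} (f : X ⟶ S) (d : ℕ)

section Piece

variable (V₀ : S.Opens) (U₀ : X.Opens) (w : Fin d → Γ(U₀.toScheme, ⊤))
  {RU : CommRingCat.{u}} (ξ : LObj (hG f d) (Spec RU))

/-- the classifying map of a piece -/
def kap : yoneda.obj (Spec RU) ⟶ lft (hG f d) := yonedaEquiv.symm ξ

lemma kap_app {T : Scheme.{u}} (a : T ⟶ Spec RU) :
    (kap f d ξ).app (op T) a = lmap (hG f d) a ξ := rfl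

variable (hgood : Good f d V₀ U₀ w ξ)
  (hinj : ∀ (T : Scheme.{u}) [IsAffine T] (a₁ a₂ : T ⟶ Spec RU),
    lmap (hG f d) a₁ ξ = lmap (hG f d) a₂ ξ → a₁ = a₂)
  (hsurj : ∀ (T : Scheme.{u}) [IsAffine T] (y : LObj (hG f d) T), Good f d V₀ U₀ w y →
    ∃ a : T ⟶ Spec RU, lmap (hG f d) a ξ = y)

include hinj in
lemma inj_gen {T : Scheme.{u}} (a₁ a₂ : T ⟶ Spec RU)
    (h : lmap (hG f d) a₁ ξ = lmap (hG f d) a₂ ξ) : a₁ = a₂ := by
  apply T.affineCover.hom_ext
  intro i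
  apply hinj
  rw [lmap_comp, lmap_comp, h]

include hinj hsurj in
lemma rep_of_pc {T : Scheme.{u}} (y : LObj (hG f d) T) (hy : Pc f d V₀ U₀ w y) :
    ∃ a : T ⟶ Spec RU, lmap (hG f d) a ξ = y := by
  have hex : ∀ i : T.affineCover.I₀, ∃ a : T.affineCover.X i ⟶ Spec RU,
      lmap (hG f d) a ξ = lmap (hG f d) (T.affineCover.f i) y :=
    fun i => hsurj _ _ (hy _ (T.affineCover.f i))
  choose a ha using hex
  have hcompat : ∀ i j, pullback.fst (T.affineCover.f i) (T.affineCover.f j) ≫ a i =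
      pullback.snd (T.affineCover.f i) (T.affineCover.f j) ≫ a j := by
    intro i j
    apply inj_gen f d ξ hinj
    rw [lmap_comp, lmap_comp, ha, ha, ← lmap_comp, ← lmap_comp, pullback.condition]
  refine ⟨T.affineCover.glueMorphisms a hcompat, ?_⟩
  apply lft_sep f d T.affineCover
  intro i
  rw [← lmap_comp, Scheme.Cover.ι_glueMorphisms, ha]

include hgood hinj hsurj in
theorem kap_isOpenImmersion : IsOpenImmersion.presheaf (kap f d ξ) := by
  apply presheaf_of_local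
  · intro T a₁ a₂ h
    exact inj_gen f d ξ hinj a₁ a₂ h
  · intro T y
    refine ⟨↑(T0 f d V₀ U₀ w y), (T0 f d V₀ U₀ w y).ι, inferInstance, inferInstance, ?_, ?_⟩
    · obtain ⟨a, ha⟩ := rep_of_pc f d V₀ U₀ w ξ hinj hsurj _ (pc_T0 f d V₀ U₀ w y)
      exact ⟨a, ha⟩
    · rintro T' a ⟨b, hb⟩
      have hb' : lmap (hG f d) b ξ = lmap (hG f d) a y := hb
      have hpc : Pc f d V₀ U₀ w (lmap (hG f d) a y) := by
        rw [← hb']
        exact pc_lmap f d V₀ U₀ w b ξ (pc_of_good f d V₀ U₀ w ξ hgood)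
      refine ⟨IsOpenImmersion.lift (T0 f d V₀ U₀ w y).ι a ?_, IsOpenImmersion.lift_fac _ _ _⟩
      rw [Scheme.Opens.range_ι]
      rintro _ ⟨x', rfl⟩
      exact mem_T0_of_pc f d V₀ U₀ w a y hpc x'

end Piece

/-- the index type of the pieces -/
abbrev Idx : Type u :=
  Σ p : { p : S.Opens × X.Opens // IsAffineOpen p.1 ∧ IsAffineOpen p.2 ∧ p.2 ≤ f ⁻¹ᵁ p.1 },
    (Fin d → Γ(p.1.2.toScheme, ⊤))

variable (hAF : ∀ (s : S) (x : Fin d → X), (∀ i, f.base (x i) = s) →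
  ∃ U : X.Opens, IsAffineOpen U ∧ ∀ i, x i ∈ U)

include hAF in
theorem main [IsSeparated f] : ∃ W : Over S, Nonempty ((hG f d).RepresentableBy W) := by
  have hex : ∀ idx : Idx f d, ∃ (RU : CommRingCat.{u}) (ξ : LObj (hG f d) (Spec RU)),
      Good f d idx.1.1.1 idx.1.1.2 idx.2 ξ ∧
      (∀ (T : Scheme.{u}) [IsAffine T] (a₁ a₂ : T ⟶ Spec RU),
        lmap (hG f d) a₁ ξ = lmap (hG f d) a₂ ξ → a₁ = a₂) ∧
      (∀ (T : Scheme.{u}) [IsAffine T] (y : LObj (hG f d) T),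
        Good f d idx.1.1.1 idx.1.1.2 idx.2 y → ∃ a : T ⟶ Spec RU, lmap (hG f d) a ξ = y) :=
    fun idx => exists_univ f d idx.1.1.1 idx.1.1.2 idx.1.2.2.2 idx.2 idx.1.2.1 idx.1.2.2.1
  choose RU ξ hgood hinj hsurj using hex
  let F : Sheaf Scheme.zariskiTopology (Type u) := ⟨lft (hG f d), isSheaf_lft f d⟩
  let ff : ∀ idx : Idx f d, yoneda.obj (Spec (RU idx)) ⟶ F.1 := fun idx => kap f d (ξ idx)
  have hff : ∀ idx, IsOpenImmersion.presheaf (ff idx) := fun idx =>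
    kap_isOpenImmersion f d _ _ _ (ξ idx) (hgood idx) (hinj idx) (hsurj idx)
  haveI : Presheaf.IsLocallySurjective Scheme.zariskiTopology (Sigma.desc ff) := by
    refine ⟨fun {T} y => ?_⟩
    have hpt : ∀ p : T, ∃ (idx : Idx f d) (T₀ : T.Opens)
        (b : (T₀ : Scheme.{u}) ⟶ Spec (RU idx)),
        p ∈ T₀ ∧ (ff idx).app (op (T₀ : Scheme.{u})) b = F.1.map T₀.ι.op y := by
      intro p
      obtain ⟨V₀, U₀, hV₀, hU₀, e, w, hp⟩ := cover_point f d hAF y p
      obtain ⟨idx, hidx⟩ : ∃ idx : Idx f d, idx = ⟨⟨(V₀, U₀), hV₀, hU₀, e⟩, w⟩ := ⟨_, rfl⟩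
      obtain ⟨b, hb⟩ := rep_of_pc f d idx.1.1.1 idx.1.1.2 idx.2 (ξ idx) (hinj idx) (hsurj idx) _
        (pc_T0 f d idx.1.1.1 idx.1.1.2 idx.2 y)
      refine ⟨idx, T0 f d idx.1.1.1 idx.1.1.2 idx.2 y, b, ?_, hb⟩
      rw [hidx]
      exact hp
    choose idx T₀ b hp hb using hpt
    have hcov : TopologicalSpace.IsOpenCover T₀ := by
      rw [TopologicalSpace.IsOpenCover, eq_top_iff]
      intro p _
      exact TopologicalSpace.Opens.mem_iSup.mpr ⟨p, hp p⟩
    refine GrothendieckTopology.superset_covering _ ?_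
      (Scheme.Cover.mem_grothendieckTopology (T.openCoverOfIsOpenCover T₀ hcov))
    rw [Sieve.ofArrows, Sieve.generate_le_iff]
    rintro T' a ⟨p⟩
    refine ⟨(Sigma.ι (fun idx => yoneda.obj (Spec (RU idx))) (idx p)).app _ (b p), ?_⟩
    have := congrArg (fun m => m.app (op (T₀ p : Scheme.{u})) (b p)) (Sigma.ι_desc ff (idx p))
    exact this.trans (hb p)
  have hrep : F.1.IsRepresentable := Scheme.LocalRepresentability.isRepresentable hff
  obtain ⟨W', ⟨R'⟩⟩ := hrep.has_representation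
  exact rep_of_lft_rep (hG f d) R'

include hAF in
/-- representability of `Hilb^d_{X/S}` -/
theorem representable [IsSeparated f] : HilbD.Representable f d := by
  obtain ⟨W, ⟨R⟩⟩ := main f d hAF
  obtain ⟨Z, hZ⟩ : ∃ Z : HilbD.Obj f d W, Z = R.homEquiv (𝟙 W) := ⟨_, rfl⟩
  have key : ∀ {T : Over S} (g : T ⟶ W),
      HilbD.pull f g Z.1 = (R.homEquiv g : HilbD.Obj f d T).1 := by
    intro T g
    rw [R.homEquiv_eq g, ← hZ, hG_map_val, Groth.Agent.H4.HilbDesc.pull_eq_comap]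
  refine ⟨W, Z, fun T Z' => ⟨R.homEquiv.symm Z', ?_, fun g hg => ?_⟩⟩
  · show HilbD.pull f _ _ = Z'.1
    rw [key, Equiv.apply_symm_apply]
  · apply R.homEquiv.injective
    rw [Equiv.apply_symm_apply]
    apply Subtype.ext
    rw [← key]
    exact hg

end Groth.Agent.H4.HbH
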