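import Mathlib
import Groth.Agent.H4.WRb
import Groth.Agent.Lib.Helper3.DescSh.ClosedImm
import Groth.Agent.Lib.Helper3.FpqcLocal3

/-! helper4: Weil restriction of closed subschemes: fpqc gluing of representing closed subschemes,
and the global representability theorem. -/

set_option autoImplicit false

universe u

open CategoryTheory CategoryTheory.Limits AlgebraicGeometry

namespace Groth.Agent.H4.WRc

open Groth.Agent.H4.WRb

section DD

variable {Y : Scheme.{u}} {ι : Type u} {X : ι → Scheme.{u}} (f : ∀ i, X i ⟶ Y)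
  {Z : ι → Scheme.{u}} (c : ∀ i, Z i ⟶ X i) [∀ i, Mono (c i)]
  (tr : ∀ ⦃T : Scheme.{u}⦄ ⦃i j : ι⦄ (x₀ : T ⟶ X i) (x₁ : T ⟶ X j), x₀ ≫ f i = x₁ ≫ f j →
      (∃ z : T ⟶ Z i, z ≫ c i = x₀) → ∃ z : T ⟶ Z j, z ≫ c j = x₁)

omit [∀ i, Mono (c i)] in
lemma lifts_ext [∀ i, Mono (c i)] {T : Scheme.{u}} {i : ι} {x : T ⟶ X i}
    (v v' : Desc.Lifts (Over.mk (c i)) x) : v = v' :=
  Subtype.ext ((cancel_mono (c i)).1 (v.2.trans v'.2.symm))

/-- transport of a lift -/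
noncomputable def trMap {T : Scheme.{u}} {i j : ι} (x₀ : T ⟶ X i) (x₁ : T ⟶ X j)
    (e : x₀ ≫ f i = x₁ ≫ f j) (v : Desc.Lifts (Over.mk (c i)) x₀) :
    Desc.Lifts (Over.mk (c j)) x₁ :=
  ⟨(tr x₀ x₁ e ⟨v.1, v.2⟩).choose, (tr x₀ x₁ e ⟨v.1, v.2⟩).choose_spec⟩

/-- the descent datum given by a compatible family of subobjects -/
noncomputable def ddOf : Desc.SchDDFam f where
  obj i := Over.mk (c i)
  φ T i j x₀ x₁ e :=
    { toFun := trMap f c tr x₀ x₁ e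
      invFun := trMap f c tr x₁ x₀ e.symm
      left_inv := fun v => lifts_ext c _ _
      right_inv := fun v => lifts_ext c _ _ }
  φ_natural T T' g i j x₀ x₁ e y₀ y₁ hy₀ hy₁ e' v v' hv := by
    apply (cancel_mono (c j)).1
    have h1 : (trMap f c tr y₀ y₁ e' v').1 ≫ c j = y₁ := (trMap f c tr y₀ y₁ e' v').2
    have h2 : (trMap f c tr x₀ x₁ e v).1 ≫ c j = x₁ := (trMap f c tr x₀ x₁ e v).2
    change (trMap f c tr y₀ y₁ e' v').1 ≫ c j = (g ≫ (trMap f c tr x₀ x₁ e v).1) ≫ c j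
    rw [h1, Category.assoc, h2, hy₁]
  φ_self T i x v := lifts_ext c _ _
  φ_comp T i j k x₀ x₁ x₂ e₀₁ e₁₂ v := lifts_ext c _ _

end DD

/-- **fpqc gluing**: a local predicate on points of `Y` which is represented by a closed subscheme
after pulling back to each member of an fpqc covering family, is represented by a closed subscheme
of `Y`. -/
theorem glue_rep {Y : Scheme.{u}} {ι : Type u} {X : ι → Scheme.{u}} (f : ∀ i, X i ⟶ Y)
    (hf : Presieve.ofArrows X f ∈ Scheme.fpqcPrecoverage Y)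
    {Q : ∀ ⦃T : Scheme.{u}⦄, (T ⟶ Y) → Prop} (hQ : IsLocalPred Q)
    (Z : ι → Scheme.{u}) (c : ∀ i, Z i ⟶ X i) (hc : ∀ i, IsClosedImmersion (c i))
    (h : ∀ (i : ι) ⦃T : Scheme.{u}⦄ (x : T ⟶ X i), Q (x ≫ f i) ↔ ∃ z : T ⟶ Z i, z ≫ c i = x) :
    ∃ (Z₀ : Scheme.{u}) (c₀ : Z₀ ⟶ Y), IsClosedImmersion c₀ ∧
      ∀ ⦃T : Scheme.{u}⦄ (y : T ⟶ Y), Q y ↔ ∃ z : T ⟶ Z₀, z ≫ c₀ = y := by
  haveI : ∀ i, Mono (c i) := fun i => by
    haveI := hc i
    infer_instance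
  have tr : ∀ ⦃T : Scheme.{u}⦄ ⦃i j : ι⦄ (x₀ : T ⟶ X i) (x₁ : T ⟶ X j), x₀ ≫ f i = x₁ ≫ f j →
      (∃ z : T ⟶ Z i, z ≫ c i = x₀) → ∃ z : T ⟶ Z j, z ≫ c j = x₁ := by
    intro T i j x₀ x₁ e hz
    have h1 := (h i x₀).2 hz
    rw [e] at h1
    exact (h j x₁).1 h1
  obtain ⟨U, α, β, hα, hβ, hαβ, hβα⟩ : ∃ (U : Over Y) (α : ∀ i, pullback (f i) U.hom ⟶ Z i)
      (β : ∀ i, Z i ⟶ pullback (f i) U.hom),
      (∀ i, α i ≫ c i = pullback.fst (f i) U.hom) ∧
      (∀ i, β i ≫ pullback.fst (f i) U.hom = c i) ∧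
      (∀ i, α i ≫ β i = 𝟙 _) ∧ (∀ i, β i ≫ α i = 𝟙 _) := by
    obtain ⟨U, ⟨E⟩⟩ := Groth.Agent.H3.DescSh.isEffective_of_isClosedImmersion f hf
      (ddOf f c tr) (fun i => hc i)
    refine ⟨U, fun i => (E.hom.hom i).left, fun i => (E.inv.hom i).left,
      fun i => Over.w (E.hom.hom i), fun i => Over.w (E.inv.hom i), fun i => ?_, fun i => ?_⟩
    · have h1 : E.hom.hom i ≫ E.inv.hom i = 𝟙 _ := by
        rw [← Desc.SchDDFam.comp_hom, E.hom_inv_id, Desc.SchDDFam.id_hom]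
      exact congrArg (fun a => Over.Hom.left a) h1
    · have h1 : E.inv.hom i ≫ E.hom.hom i = 𝟙 _ := by
        rw [← Desc.SchDDFam.comp_hom, E.inv_hom_id, Desc.SchDDFam.id_hom]
      exact congrArg (fun a => Over.Hom.left a) h1
  have hU : IsClosedImmersion U.hom := by
    apply MorphismProperty.IsLocalAtTarget.of_forall_pullbackSnd (P := @IsClosedImmersion)
      (K := Scheme.fpqcPrecoverage) hf
    intro V g _ hg
    obtain ⟨i⟩ := hg
    have e : pullback.snd U.hom (f i) = (pullbackSymmetry U.hom (f i)).hom ≫ α i ≫ c i := by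
      rw [hα, pullbackSymmetry_hom_comp_fst]
    rw [e]
    have : IsIso (α i) := ⟨⟨β i, hαβ i, hβα i⟩⟩
    have := hc i
    infer_instance
  have : Mono U.hom := inferInstance
  refine ⟨U.left, U.hom, hU, ?_⟩
  intro T y
  have hR : Sieve.pullback y (Sieve.generate (Presieve.ofArrows X f)) ∈ Scheme.fpqcTopology T :=
    Scheme.fpqcTopology.pullback_stable y (Precoverage.generate_mem_toGrothendieck hf)
  constructor
  · intro hy
    apply exists_factor_of_sieve U.hom y _ hR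
    rintro T' t ⟨V, x, g, ⟨i⟩, hcomp⟩
    have hq : Q (x ≫ f i) := by
      rw [hcomp]
      exact hQ.comp t y hy
    obtain ⟨z, hz⟩ := (h i x).1 hq
    refine ⟨z ≫ β i ≫ pullback.snd (f i) U.hom, ?_⟩
    calc (z ≫ β i ≫ pullback.snd (f i) U.hom) ≫ U.hom
        = z ≫ β i ≫ (pullback.snd (f i) U.hom ≫ U.hom) := by simp only [Category.assoc]
      _ = z ≫ β i ≫ (pullback.fst (f i) U.hom ≫ f i) := by rw [pullback.condition]
      _ = (z ≫ (β i ≫ pullback.fst (f i) U.hom)) ≫ f i := by simp only [Category.assoc]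
      _ = t ≫ y := by rw [hβ, hz, hcomp]
  · rintro ⟨z, rfl⟩
    apply hQ.of_sieve (z ≫ U.hom) _ hR
    rintro T' t ⟨V, x, g, ⟨i⟩, hcomp⟩
    rw [← hcomp]
    apply (h i x).2
    refine ⟨pullback.lift x (t ≫ z) (by rw [hcomp, Category.assoc]) ≫ α i, ?_⟩
    rw [Category.assoc, hα, pullback.lift_fst]

/-- **Weil restriction of a closed subscheme** along a morphism which is, Zariski locally on the
target, affine with projective coordinate ring: the points of `Y` all of whose fibres in `P` lie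
in the closed subscheme `W` form a closed subscheme of `Y`. -/
theorem weil_rep {Y P W : Scheme.{u}} (π : P ⟶ Y) (w : W ⟶ P) [IsClosedImmersion w]
    (hloc : ∀ y : Y, ∃ (V PV : Scheme.{u}) (j : V ⟶ Y) (fP : PV ⟶ P) (πV : PV ⟶ V),
      IsOpenImmersion j ∧ y ∈ Set.range j ∧ IsAffine V ∧ IsAffine PV ∧ IsPullback fP πV π j ∧
      @Module.Projective Γ(V, ⊤) _ Γ(PV, ⊤) _ πV.appTop.hom.toAlgebra.toModule) :
    ∃ (Z : Scheme.{u}) (c : Z ⟶ Y), IsClosedImmersion c ∧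
      ∀ ⦃T : Scheme.{u}⦄ (y : T ⟶ Y), PredW π w y ↔ ∃ z : T ⟶ Z, z ≫ c = y := by
  choose V PV j fP πV hj hy hV hPV hpb hproj using hloc
  have hcov : Presieve.ofArrows V j ∈ Scheme.fpqcPrecoverage Y :=
    Scheme.zariskiPrecoverage_le_fpqcPrecoverage _
      ((Scheme.ofArrows_mem_precoverage_iff _).2 ⟨fun y => ⟨y, hy y⟩, hj⟩)
  have hl : ∀ y : Y, ∃ (Z : Scheme.{u}) (c : Z ⟶ V y), IsClosedImmersion c ∧
      ∀ ⦃T : Scheme.{u}⦄ (x : T ⟶ V y), PredW π w (x ≫ j y) ↔ ∃ z : T ⟶ Z, z ≫ c = x := by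
    intro y
    haveI := hV y
    haveI := hPV y
    obtain ⟨Z, c, hc, hZ⟩ := local_rep (πV y) (pullback.snd w (fP y)) (hproj y)
    refine ⟨Z, c, hc, fun T x => ?_⟩
    rw [predW_baseChange (hpb y) (IsPullback.of_hasPullback w (fP y)), hZ x]
  choose Z c hc hZ using hl
  exact glue_rep j hcov (predW_isLocal π w) Z c hc hZ

end Groth.Agent.H4.WRc
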