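import Mathlib
import Groth.Agent.H4.HbC
import Groth.Agent.H4.WRc
import Groth.Agent.H4.HomF
import Groth.Agent.H4.HilbDesc

/-! helper4: the equalizer of two finite locally free closed subschemes is closed; the Hilbert
scheme of points is separated. -/

set_option autoImplicit false

universe u

open CategoryTheory CategoryTheory.Limits AlgebraicGeometry Opposite

noncomputable section

namespace Groth.Agent.H4.HbI

open Groth.Agent.H4.HomG Groth.Agent.H4.HbC Groth.Agent.H4.WRb Groth.Agent.H4.WRc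

/-- finite locally free morphisms satisfy the local projectivity hypothesis of `weil_rep` -/
lemma hloc_of_flf {Y P : Scheme.{u}} (π : P ⟶ Y) [IsFinite π] [Flat π]
    [LocallyOfFinitePresentation π] (y : Y) :
    ∃ (V PV : Scheme.{u}) (j : V ⟶ Y) (fP : PV ⟶ P) (πV : PV ⟶ V),
      IsOpenImmersion j ∧ y ∈ Set.range j ∧ IsAffine V ∧ IsAffine PV ∧ IsPullback fP πV π j ∧
      @Module.Projective Γ(V, ⊤) _ Γ(PV, ⊤) _ πV.appTop.hom.toAlgebra.toModule := by
  obtain ⟨V, hV, hyV, -⟩ := exists_isAffineOpen_mem_and_subset (x := y) (U := (⊤ : Y.Opens))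
    trivial
  haveI : IsAffine V.toScheme := hV
  haveI : IsAffine (π ⁻¹ᵁ V).toScheme := hV.preimage π
  have sq := (isPullback_morphismRestrict π V).flip
  haveI : IsFinite (π ∣_ V) := MorphismProperty.of_isPullback (P := @IsFinite) sq inferInstance
  haveI : Flat (π ∣_ V) := MorphismProperty.of_isPullback (P := @Flat) sq inferInstance
  haveI : LocallyOfFinitePresentation (π ∣_ V) :=
    MorphismProperty.of_isPullback (P := @LocallyOfFinitePresentation) sq inferInstance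
  refine ⟨V.toScheme, (π ⁻¹ᵁ V).toScheme, V.ι, (π ⁻¹ᵁ V).ι, π ∣_ V, inferInstance, ?_,
    inferInstance, inferInstance, sq, (Groth.Agent.H4.HomF.finproj_of_finLocFree (π ∣_ V)).2⟩
  rw [Scheme.Opens.range_ι]
  exact hyV

section Gen

variable {Q Q' : Scheme.{u}} (G : Q' ⟶ Q) (I : Q.IdealSheafData)

/-- the map of closed subschemes over `G` -/
def rs : (I.comap G).subscheme ⟶ I.subscheme :=
  (I.comapIso G).hom ≫ pullback.snd G I.subschemeι

@[reassoc]
lemma rs_ι : rs G I ≫ I.subschemeι = (I.comap G).subschemeι ≫ G := by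
  unfold rs
  rw [Category.assoc, ← pullback.condition, Scheme.IdealSheafData.comapIso_hom_fst_assoc]

lemma rs_isPullback : IsPullback (I.comap G).subschemeι (rs G I) G I.subschemeι := by
  apply isPullback_of_isClosedImmersion
  · exact (rs_ι G I).symm
  · rw [Scheme.IdealSheafData.ker_subschemeι, Scheme.IdealSheafData.ker_subschemeι]

lemma le_of_factor {Q : Scheme.{u}} (J₁ J₂ : Q.IdealSheafData) (k : J₁.subscheme ⟶ J₂.subscheme)
    (hk : k ≫ J₂.subschemeι = J₁.subschemeι) : J₂ ≤ J₁ :=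
  calc J₂ = J₂.subschemeι.ker := (Scheme.IdealSheafData.ker_subschemeι J₂).symm
    _ ≤ (k ≫ J₂.subschemeι).ker := Scheme.Hom.le_ker_comp _ _
    _ = J₁.subschemeι.ker := by rw [hk]
    _ = J₁ := Scheme.IdealSheafData.ker_subschemeι J₁

/-- containment of the base changes of two closed subschemes, as a Weil-restriction predicate -/
theorem predW_iff_le {Q Q' T T' : Scheme.{u}} (G : Q' ⟶ Q) (p : Q ⟶ T) (p' : Q' ⟶ T')
    (a : T' ⟶ T) (sq : IsPullback G p' p a) (I₁ I₂ : Q.IdealSheafData) :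
    PredW (I₁.subschemeι ≫ p) (pullback.fst I₁.subschemeι I₂.subschemeι) a ↔
      I₂.comap G ≤ I₁.comap G := by
  constructor
  · intro h
    have e0 : ((I₁.comap G).subschemeι ≫ p') ≫ a = rs G I₁ ≫ I₁.subschemeι ≫ p := by
      rw [Category.assoc, ← sq.w, rs_ι_assoc]
    obtain ⟨l, hl⟩ := h ((I₁.comap G).subschemeι ≫ p') (rs G I₁) e0
    have e1 : (I₁.comap G).subschemeι ≫ G =
        (l ≫ pullback.snd I₁.subschemeι I₂.subschemeι) ≫ I₂.subschemeι := by
      rw [Category.assoc, ← pullback.condition, ← Category.assoc, hl, rs_ι]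
    exact le_of_factor _ _ ((rs_isPullback G I₂).lift _ _ e1) ((rs_isPullback G I₂).lift_fst _ _ _)
  · intro hle T'' q s hqs
    obtain ⟨r', hr1, hr2⟩ : ∃ r' : T'' ⟶ Q', r' ≫ G = s ≫ I₁.subschemeι ∧ r' ≫ p' = q :=
      ⟨sq.lift (s ≫ I₁.subschemeι) q (by rw [Category.assoc]; exact hqs.symm),
        sq.lift_fst _ _ _, sq.lift_snd _ _ _⟩
    obtain ⟨k₁, hk1, hk2⟩ : ∃ k₁ : T'' ⟶ (I₁.comap G).subscheme,
        k₁ ≫ (I₁.comap G).subschemeι = r' ∧ k₁ ≫ rs G I₁ = s :=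
      ⟨(rs_isPullback G I₁).lift r' s hr1, (rs_isPullback G I₁).lift_fst _ _ _,
        (rs_isPullback G I₁).lift_snd _ _ _⟩
    obtain ⟨s₂, hs₂⟩ : ∃ s₂ : T'' ⟶ I₂.subscheme, s₂ ≫ I₂.subschemeι = s ≫ I₁.subschemeι := by
      refine ⟨k₁ ≫ Scheme.IdealSheafData.inclusion hle ≫ rs G I₂, ?_⟩
      simp only [Category.assoc]
      rw [rs_ι, Scheme.IdealSheafData.inclusion_subschemeι_assoc, reassoc_of% hk1, hr1]
    exact ⟨pullback.lift s s₂ hs₂.symm, pullback.lift_fst _ _ _⟩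

end Gen

variable {X S : Scheme.{u}} (f : X ⟶ S) (d : ℕ)

/-- the locus where two families of the Hilbert functor of points agree is closed -/
theorem eq_closed {T : Scheme.{u}} (t : T ⟶ S) (I₁ I₂ : (pullback f t).IdealSheafData)
    (h₁ : Mor2.IsFinLocFreeOfDeg d (I₁.subschemeι ≫ pullback.snd f t))
    (h₂ : Mor2.IsFinLocFreeOfDeg d (I₂.subschemeι ≫ pullback.snd f t)) :
    ∃ (E : Scheme.{u}) (c : E ⟶ T), IsClosedImmersion c ∧
      ∀ ⦃T' : Scheme.{u}⦄ (a : T' ⟶ T), (∃ z : T' ⟶ E, z ≫ c = a) ↔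
        I₁.comap (plx f a t) = I₂.comap (plx f a t) := by
  haveI : IsFinite (I₁.subschemeι ≫ pullback.snd f t) := h₁.1.1
  haveI : Flat (I₁.subschemeι ≫ pullback.snd f t) := h₁.1.2.1
  haveI : LocallyOfFinitePresentation (I₁.subschemeι ≫ pullback.snd f t) := h₁.1.2.2
  haveI : IsFinite (I₂.subschemeι ≫ pullback.snd f t) := h₂.1.1
  haveI : Flat (I₂.subschemeι ≫ pullback.snd f t) := h₂.1.2.1
  haveI : LocallyOfFinitePresentation (I₂.subschemeι ≫ pullback.snd f t) := h₂.1.2.2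
  obtain ⟨E₁, c₁, hc₁, hE₁⟩ := weil_rep (I₁.subschemeι ≫ pullback.snd f t)
    (pullback.fst I₁.subschemeι I₂.subschemeι) (hloc_of_flf _)
  obtain ⟨E₂, c₂, hc₂, hE₂⟩ := weil_rep (I₂.subschemeι ≫ pullback.snd f t)
    (pullback.fst I₂.subschemeι I₁.subschemeι) (hloc_of_flf _)
  refine ⟨pullback c₁ c₂, pullback.fst c₁ c₂ ≫ c₁, inferInstance, fun T' a => ?_⟩
  have k1 := predW_iff_le (plx f a t) (pullback.snd f t) (pullback.snd f (a ≫ t)) a
    (plx_isPullback f a t) I₁ I₂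
  have k2 := predW_iff_le (plx f a t) (pullback.snd f t) (pullback.snd f (a ≫ t)) a
    (plx_isPullback f a t) I₂ I₁
  constructor
  · rintro ⟨z, hz⟩
    have m1 := (hE₁ a).mpr ⟨z ≫ pullback.fst c₁ c₂, by rw [Category.assoc]; exact hz⟩
    have m2 := (hE₂ a).mpr ⟨z ≫ pullback.snd c₁ c₂, by
      rw [Category.assoc, ← pullback.condition]; exact hz⟩
    exact le_antisymm (k2.mp m2) (k1.mp m1)
  · intro heq
    obtain ⟨z₁, hz₁⟩ := (hE₁ a).mp (k1.mpr (le_of_eq heq.symm))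
    obtain ⟨z₂, hz₂⟩ := (hE₂ a).mp (k2.mpr (le_of_eq heq))
    exact ⟨pullback.lift z₁ z₂ (by rw [hz₁, hz₂]), by rw [pullback.lift_fst_assoc, hz₁]⟩

variable {f d}

lemma pull_eq {H T : Over S} (Z : HilbD.Obj f d H) (g : T ⟶ H) :
    HilbD.pull f g Z.1 = ((hG f d).map g.op Z).1 := by
  rw [hG_map_val, Groth.Agent.H4.HilbDesc.pull_eq_comap]

lemma uniq_of_isUniversal {H : Over S} {Z : HilbD.Obj f d H} (hZ : HilbD.IsUniversal f d H Z)
    {T : Over S} (g g' : T ⟶ H)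
    (h : ((hG f d).map g.op Z).1 = ((hG f d).map g'.op Z).1) : g = g' := by
  refine (hZ T ((hG f d).map g.op Z)).unique ?_ ?_
  · exact pull_eq Z g
  · rw [pull_eq Z g']
    exact h.symm

/-- the Hilbert scheme of points is separated -/
theorem separated (H : Over S) (Z : HilbD.Obj f d H) (hZ : HilbD.IsUniversal f d H Z) :
    IsSeparated H.hom := by
  obtain ⟨tP, htP⟩ : ∃ tP : pullback H.hom H.hom ⟶ S, tP = pullback.fst H.hom H.hom ≫ H.hom :=
    ⟨_, rfl⟩
  obtain ⟨p₁, hp₁⟩ : ∃ p₁ : Over.mk tP ⟶ H, p₁.left = pullback.fst H.hom H.hom :=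
    ⟨Over.homMk (pullback.fst H.hom H.hom) htP.symm, rfl⟩
  obtain ⟨p₂, hp₂⟩ : ∃ p₂ : Over.mk tP ⟶ H, p₂.left = pullback.snd H.hom H.hom :=
    ⟨Over.homMk (pullback.snd H.hom H.hom) (by rw [htP]; exact pullback.condition.symm), rfl⟩
  obtain ⟨Z₁, hZ₁⟩ : ∃ Z₁ : HilbD.Obj f d (Over.mk tP), Z₁ = (hG f d).map p₁.op Z := ⟨_, rfl⟩
  obtain ⟨Z₂, hZ₂⟩ : ∃ Z₂ : HilbD.Obj f d (Over.mk tP), Z₂ = (hG f d).map p₂.op Z := ⟨_, rfl⟩
  obtain ⟨E, c, hc, hE⟩ := eq_closed f d tP Z₁.1 Z₂.1 Z₁.2 Z₂.2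
  haveI := hc
  -- restriction of the two families along `a`
  have hres : ∀ {T' : Scheme.{u}} (a : T' ⟶ pullback H.hom H.hom),
      Z₁.1.comap (plx f a tP) =
        ((hG f d).map ((Over.homMk a rfl : Over.mk (a ≫ tP) ⟶ Over.mk tP) ≫ p₁).op Z).1 ∧
      Z₂.1.comap (plx f a tP) =
        ((hG f d).map ((Over.homMk a rfl : Over.mk (a ≫ tP) ⟶ Over.mk tP) ≫ p₂).op Z).1 := by
    intro T' a
    constructor
    · rw [op_comp, FunctorToTypes.map_comp_apply, ← hZ₁, hG_map_val]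
      rfl
    · rw [op_comp, FunctorToTypes.map_comp_apply, ← hZ₂, hG_map_val]
      rfl
  -- the two projections agree on `E`
  have hA : c ≫ pullback.fst H.hom H.hom = c ≫ pullback.snd H.hom H.hom := by
    have h1 := (hE c).mp ⟨𝟙 E, Category.id_comp c⟩
    rw [(hres c).1, (hres c).2] at h1
    have h2 := uniq_of_isUniversal hZ _ _ h1
    have h3 := congrArg (fun m => m.left) h2
    simpa only [Over.comp_left, Over.homMk_left, hp₁, hp₂] using h3
  -- the diagonal factors through `E`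
  obtain ⟨δ, hδ⟩ : ∃ δ : H.left ⟶ E, δ ≫ c = pullback.diagonal H.hom := by
    apply (hE (pullback.diagonal H.hom)).mpr
    rw [(hres _).1, (hres _).2]
    have e : (Over.homMk (pullback.diagonal H.hom) rfl :
        Over.mk (pullback.diagonal H.hom ≫ tP) ⟶ Over.mk tP) ≫ p₁ =
        (Over.homMk (pullback.diagonal H.hom) rfl :
        Over.mk (pullback.diagonal H.hom ≫ tP) ⟶ Over.mk tP) ≫ p₂ := by
      apply Over.OverMorphism.ext
      simp only [Over.comp_left, Over.homMk_left, hp₁, hp₂, pullback.diagonal_fst,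
        pullback.diagonal_snd]
    rw [e]
  have h1 : δ ≫ (c ≫ pullback.fst H.hom H.hom) = 𝟙 _ := by
    rw [reassoc_of% hδ, pullback.diagonal_fst]
  have h2 : (c ≫ pullback.fst H.hom H.hom) ≫ δ = 𝟙 _ := by
    rw [← cancel_mono c, Category.assoc, hδ, Category.id_comp]
    apply pullback.hom_ext
    · rw [Category.assoc, Category.assoc, pullback.diagonal_fst, Category.comp_id]
    · rw [Category.assoc, Category.assoc, pullback.diagonal_snd, Category.comp_id, hA]
  haveI : IsIso δ := ⟨⟨c ≫ pullback.fst H.hom H.hom, h1, h2⟩⟩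
  refine ⟨?_⟩
  rw [← hδ]
  infer_instance

end Groth.Agent.H4.HbI
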