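import Mathlib
import Groth.Agent.H4.HbI

/-! helper4: the Hilbert functor of points of a closed subscheme `X ⊆ Y` is represented by a closed
subscheme of the Hilbert scheme of points of `Y`. -/

set_option autoImplicit false

universe u

open CategoryTheory CategoryTheory.Limits AlgebraicGeometry Opposite

noncomputable section

namespace Groth.Agent.H4.HbJ

open Groth.Agent.H4.HomG Groth.Agent.H4.HbC Groth.Agent.H4.WRb Groth.Agent.H4.WRc
  Groth.Agent.H4.HbI Groth.Agent.H4.HilbDesc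

section Mono

variable {X' Y' : Scheme.{u}} (ι : X' ⟶ Y')

lemma map_inside [IsClosedImmersion ι] (I : X'.IdealSheafData) :
    ∃ ε : I.subscheme ⟶ (I.map ι).subscheme, IsIso ε ∧
      ε ≫ (I.map ι).subschemeι = I.subschemeι ≫ ι :=
  ⟨(I.subschemeι ≫ ι).toImage, (inferInstance : IsIso (I.subschemeι ≫ ι).toImage),
    (I.subschemeι ≫ ι).toImage_imageι⟩

lemma comap_map_eq [IsClosedImmersion ι] (I : X'.IdealSheafData) : (I.map ι).comap ι = I := by
  apply le_antisymm (Scheme.IdealSheafData.comap_map_le I ι)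
  obtain ⟨ε, hε, h1⟩ := map_inside ι I
  haveI := hε
  refine le_of_factor _ _ (rs ι (I.map ι) ≫ inv ε) ?_
  rw [← cancel_mono ι]
  simp only [Category.assoc]
  rw [← h1, IsIso.inv_hom_id_assoc, rs_ι]

lemma map_comap_eq (J : Y'.IdealSheafData) (k : J.subscheme ⟶ X') (hk : k ≫ ι = J.subschemeι) :
    (J.comap ι).map ι = J := by
  apply le_antisymm _ (Scheme.IdealSheafData.le_map_comap J ι)
  obtain ⟨l, hl⟩ : ∃ l : J.subscheme ⟶ (J.comap ι).subscheme,
      l ≫ (J.comap ι).subschemeι = k :=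
    ⟨(rs_isPullback ι J).lift k (𝟙 _) (by rw [hk, Category.id_comp]),
      (rs_isPullback ι J).lift_fst _ _ _⟩
  calc (J.comap ι).map ι = ((J.comap ι).subschemeι ≫ ι).ker := rfl
    _ ≤ (l ≫ (J.comap ι).subschemeι ≫ ι).ker := Scheme.Hom.le_ker_comp _ _
    _ = J.subschemeι.ker := by rw [reassoc_of% hl, hk]
    _ = J := Scheme.IdealSheafData.ker_subschemeι J

lemma rs_isIso_of_inside [Mono ι] (J : Y'.IdealSheafData) (k : J.subscheme ⟶ X')
    (hk : k ≫ ι = J.subschemeι) : IsIso (rs ι J) := by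
  refine ⟨⟨(rs_isPullback ι J).lift k (𝟙 _) (by rw [hk, Category.id_comp]), ?_,
    (rs_isPullback ι J).lift_snd _ _ _⟩⟩
  apply (rs_isPullback ι J).hom_ext
  · rw [Category.assoc, IsPullback.lift_fst, Category.id_comp, ← cancel_mono ι, Category.assoc, hk,
      rs_ι]
  · rw [Category.assoc, IsPullback.lift_snd, Category.comp_id, Category.id_comp]

end Mono

lemma flf_iso_left (d : ℕ) {A B T : Scheme.{u}} (e : A ⟶ B) [IsIso e] (π : B ⟶ T)
    (h : Mor2.IsFinLocFreeOfDeg d π) : Mor2.IsFinLocFreeOfDeg d (e ≫ π) := by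
  obtain ⟨⟨h1, h2, h3⟩, h4⟩ := h
  haveI := h1
  haveI := h2
  refine ⟨⟨(MorphismProperty.cancel_left_of_respectsIso @IsFinite e π).mpr h1,
    (MorphismProperty.cancel_left_of_respectsIso @Flat e π).mpr h2,
    (MorphismProperty.cancel_left_of_respectsIso @LocallyOfFinitePresentation e π).mpr h3⟩,
    fun y => ?_⟩
  rw [Scheme.Hom.finrank_comp_left_of_isIso]
  exact h4 y

variable {X Y S : Scheme.{u}} (i : X ⟶ Y) (g : Y ⟶ S)

/-- the base change `X_T ⟶ Y_T` of `i` -/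
def iT (T : Over S) : pullback (i ≫ g) T.hom ⟶ pullback g T.hom :=
  pullback.map (i ≫ g) T.hom g T.hom i (𝟙 _) (𝟙 S) (Category.comp_id _) (by simp)

lemma push_eq_map (T : Over S) (I : (PicF.XT (i ≫ g) T).IdealSheafData) :
    HilbD.push i g T I = I.map (iT i g T) := rfl

@[reassoc]
lemma iT_fst (T : Over S) :
    iT i g T ≫ pullback.fst g T.hom = pullback.fst (i ≫ g) T.hom ≫ i := by
  unfold iT
  exact pullback.lift_fst _ _ _

@[reassoc]
lemma iT_snd (T : Over S) :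
    iT i g T ≫ pullback.snd g T.hom = pullback.snd (i ≫ g) T.hom := by
  unfold iT
  exact (pullback.lift_snd _ _ _).trans (Category.comp_id _)

lemma iT_isPullback (T : Over S) :
    IsPullback (iT i g T) (pullback.fst (i ≫ g) T.hom) (pullback.fst g T.hom) i := by
  refine IsPullback.of_right ?_ (iT_fst i g T) (IsPullback.of_hasPullback g T.hom).flip
  rw [iT_snd]
  exact (IsPullback.of_hasPullback (i ≫ g) T.hom).flip

instance [IsClosedImmersion i] (T : Over S) : IsClosedImmersion (iT i g T) :=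
  MorphismProperty.of_isPullback (P := @IsClosedImmersion) (iT_isPullback i g T).flip inferInstance

@[reassoc]
lemma iT_natural {T T' : Over S} (c : T' ⟶ T) :
    PicF.XTmap (i ≫ g) c ≫ iT i g T = iT i g T' ≫ PicF.XTmap g c := by
  apply pullback.hom_ext
  · have h1 := XTmap_fst (i ≫ g) c
    have h2 := XTmap_fst g c
    rw [Category.assoc, iT_fst, reassoc_of% h1, Category.assoc, h2, iT_fst]
  · rw [Category.assoc, iT_snd, XTmap_snd, Category.assoc, XTmap_snd, iT_snd_assoc]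

lemma sq_iT {T T' : Over S} (c : T' ⟶ T) :
    IsPullback (PicF.XTmap (i ≫ g) c) (iT i g T') (iT i g T) (PicF.XTmap g c) := by
  refine IsPullback.of_right ?_ (iT_natural i g c) (iT_isPullback i g T).flip
  rw [XTmap_fst, XTmap_fst]
  exact (iT_isPullback i g T').flip

/-- the family lies inside `X_T` -/
def Inside (T : Over S) (J : (PicF.XT g T).IdealSheafData) : Prop :=
  ∃ k : J.subscheme ⟶ pullback (i ≫ g) T.hom, k ≫ iT i g T = J.subschemeι

lemma inside_comap {T T' : Over S} (c : T' ⟶ T) (J : (PicF.XT g T).IdealSheafData)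
    (h : Inside i g T J) : Inside i g T' (J.comap (PicF.XTmap g c)) := by
  obtain ⟨k, hk⟩ := h
  have e1 : (rs (PicF.XTmap g c) J ≫ k) ≫ iT i g T =
      (J.comap (PicF.XTmap g c)).subschemeι ≫ PicF.XTmap g c := by
    rw [Category.assoc, hk, rs_ι]
  exact ⟨(sq_iT i g c).lift _ _ e1, (sq_iT i g c).lift_snd _ _ _⟩

lemma inside_map [IsClosedImmersion i] (T : Over S) (I : (PicF.XT (i ≫ g) T).IdealSheafData) :
    Inside i g T (I.map (iT i g T)) := by
  obtain ⟨ε, hε, h1⟩ := map_inside (iT i g T) I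
  haveI := hε
  exact ⟨inv ε ≫ I.subschemeι, by rw [Category.assoc, ← h1, IsIso.inv_hom_id_assoc]⟩

theorem predW_iff_inside {H T : Over S} (I : (PicF.XT g H).IdealSheafData) (a : T ⟶ H) :
    PredW (I.subschemeι ≫ pullback.snd g H.hom) (pullback.fst I.subschemeι (iT i g H)) a.left ↔
      Inside i g T (I.comap (PicF.XTmap g a)) := by
  constructor
  · intro h
    have e0 : ((I.comap (PicF.XTmap g a)).subschemeι ≫ pullback.snd g T.hom) ≫ a.left =
        rs (PicF.XTmap g a) I ≫ I.subschemeι ≫ pullback.snd g H.hom := by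
      rw [Category.assoc, ← XTmap_snd, rs_ι_assoc]
    obtain ⟨l, hl⟩ := h _ _ e0
    have e1 : (l ≫ pullback.snd I.subschemeι (iT i g H)) ≫ iT i g H =
        (I.comap (PicF.XTmap g a)).subschemeι ≫ PicF.XTmap g a := by
      rw [Category.assoc, ← pullback.condition, ← Category.assoc, hl, rs_ι]
    exact ⟨(sq_iT i g a).lift _ _ e1, (sq_iT i g a).lift_snd _ _ _⟩
  · rintro ⟨k, hk⟩ T'' q s hqs
    obtain ⟨r', hr1, -⟩ : ∃ r' : T'' ⟶ PicF.XT g T,
        r' ≫ PicF.XTmap g a = s ≫ I.subschemeι ∧ r' ≫ PicF.XTproj g T = q :=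
      ⟨(isPullback_XTmap g a).lift (s ≫ I.subschemeι) q (by rw [Category.assoc]; exact hqs.symm),
        (isPullback_XTmap g a).lift_fst _ _ _, (isPullback_XTmap g a).lift_snd _ _ _⟩
    obtain ⟨k₁, hk1, -⟩ : ∃ k₁ : T'' ⟶ (I.comap (PicF.XTmap g a)).subscheme,
        k₁ ≫ (I.comap (PicF.XTmap g a)).subschemeι = r' ∧ k₁ ≫ rs (PicF.XTmap g a) I = s :=
      ⟨(rs_isPullback _ I).lift r' s hr1, (rs_isPullback _ I).lift_fst _ _ _,
        (rs_isPullback _ I).lift_snd _ _ _⟩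
    refine ⟨pullback.lift s (k₁ ≫ k ≫ PicF.XTmap (i ≫ g) a) ?_, pullback.lift_fst _ _ _⟩
    rw [Category.assoc, Category.assoc, iT_natural, reassoc_of% hk, reassoc_of% hk1, hr1]

variable (d : ℕ)

lemma flf_map [IsClosedImmersion i] {T : Over S} (I : (PicF.XT (i ≫ g) T).IdealSheafData)
    (h : Mor2.IsFinLocFreeOfDeg d (I.subschemeι ≫ pullback.snd (i ≫ g) T.hom)) :
    Mor2.IsFinLocFreeOfDeg d ((I.map (iT i g T)).subschemeι ≫ pullback.snd g T.hom) := by
  obtain ⟨ε, hε, h1⟩ := map_inside (iT i g T) I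
  haveI := hε
  have e : (I.map (iT i g T)).subschemeι ≫ pullback.snd g T.hom =
      inv ε ≫ (I.subschemeι ≫ pullback.snd (i ≫ g) T.hom) := by
    rw [IsIso.eq_inv_comp, ← Category.assoc, h1, Category.assoc, iT_snd]
  rw [e]
  exact flf_iso_left d _ _ h

lemma flf_comap [IsClosedImmersion i] {T : Over S} (J : (PicF.XT g T).IdealSheafData)
    (hin : Inside i g T J)
    (h : Mor2.IsFinLocFreeOfDeg d (J.subschemeι ≫ pullback.snd g T.hom)) :
    Mor2.IsFinLocFreeOfDeg d ((J.comap (iT i g T)).subschemeι ≫ pullback.snd (i ≫ g) T.hom) := by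
  obtain ⟨k, hk⟩ := hin
  haveI := rs_isIso_of_inside (iT i g T) J k hk
  have e : (J.comap (iT i g T)).subschemeι ≫ pullback.snd (i ≫ g) T.hom =
      rs (iT i g T) J ≫ (J.subschemeι ≫ pullback.snd g T.hom) := by
    rw [rs_ι_assoc, iT_snd]
  rw [e]
  exact flf_iso_left d _ _ h

variable {d}

lemma isIso_of_universal {f : X ⟶ S} {H₁ H₂ : Over S} {Z₁ : HilbD.Obj f d H₁}
    {Z₂ : HilbD.Obj f d H₂} (h₁ : HilbD.IsUniversal f d H₁ Z₁) (h₂ : HilbD.IsUniversal f d H₂ Z₂)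
    (n : H₁ ⟶ H₂) (hn : HilbD.pull f n Z₂.1 = Z₁.1) : IsIso n.left := by
  obtain ⟨n', hn', -⟩ := h₁ H₂ Z₂
  have k1 : (hG f d).map n'.op Z₁ = Z₂ := Subtype.ext ((pull_eq Z₁ n').symm.trans hn')
  have k2 : (hG f d).map n.op Z₂ = Z₁ := Subtype.ext ((pull_eq Z₂ n).symm.trans hn)
  have e1 : n ≫ n' = 𝟙 H₁ := by
    apply uniq_of_isUniversal h₁
    rw [op_comp, FunctorToTypes.map_comp_apply, k1, k2, op_id, FunctorToTypes.map_id_apply]
  have e2 : n' ≫ n = 𝟙 H₂ := by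
    apply uniq_of_isUniversal h₂
    rw [op_comp, FunctorToTypes.map_comp_apply, k2, k1, op_id, FunctorToTypes.map_id_apply]
  exact ⟨⟨n'.left, congrArg (fun m => m.left) e1, congrArg (fun m => m.left) e2⟩⟩

theorem main [IsClosedImmersion i] (H : Over S) (Z : HilbD.Obj g d H)
    (hZ : HilbD.IsUniversal g d H Z) :
    ∃ (E : Scheme.{u}) (c : E ⟶ H.left) (_ : IsClosedImmersion c)
      (Z' : HilbD.Obj (i ≫ g) d (Over.mk (c ≫ H.hom))),
      HilbD.IsUniversal (i ≫ g) d (Over.mk (c ≫ H.hom)) Z' ∧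
      ∀ {T : Over S} (b : T ⟶ Over.mk (c ≫ H.hom)),
        HilbD.pull g (b ≫ (Over.homMk c rfl : Over.mk (c ≫ H.hom) ⟶ H)) Z.1 =
          (HilbD.pull (i ≫ g) b Z'.1).map (iT i g T) := by
  haveI : IsFinite (Z.1.subschemeι ≫ pullback.snd g H.hom) := Z.2.1.1
  haveI : Flat (Z.1.subschemeι ≫ pullback.snd g H.hom) := Z.2.1.2.1
  haveI : LocallyOfFinitePresentation (Z.1.subschemeι ≫ pullback.snd g H.hom) := Z.2.1.2.2
  obtain ⟨E, c, hc, hE⟩ := weil_rep (Z.1.subschemeι ≫ pullback.snd g H.hom)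
    (pullback.fst Z.1.subschemeι (iT i g H)) (hloc_of_flf _)
  haveI := hc
  refine ⟨E, c, hc, ?_⟩
  obtain ⟨cO, hcO⟩ : ∃ cO : Over.mk (c ≫ H.hom) ⟶ H, cO = Over.homMk c rfl := ⟨_, rfl⟩
  have hcOl : cO.left = c := by rw [hcO]; rfl
  rw [← hcO]
  -- factorization criterion
  have hfac : ∀ {T : Over S} (a : T ⟶ H), Inside i g T (Z.1.comap (PicF.XTmap g a)) ↔
      ∃ b : T ⟶ Over.mk (c ≫ H.hom), b ≫ cO = a := by
    intro T a
    rw [← predW_iff_inside i g Z.1 a, hE a.left]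
    constructor
    · rintro ⟨z, hz⟩
      refine ⟨Over.homMk z (by
        show z ≫ c ≫ H.hom = T.hom
        rw [reassoc_of% hz, Over.w a]), ?_⟩
      apply Over.OverMorphism.ext
      rw [Over.comp_left, hcOl]
      exact hz
    · rintro ⟨b, rfl⟩
      exact ⟨b.left, by rw [Over.comp_left, hcOl]⟩
  obtain ⟨ZE, hZE⟩ : ∃ ZE : HilbD.Obj g d (Over.mk (c ≫ H.hom)), ZE = (hG g d).map cO.op Z :=
    ⟨_, rfl⟩
  have hZE1 : ZE.1 = Z.1.comap (PicF.XTmap g cO) := by rw [hZE, hG_map_val]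
  have hinE : Inside i g (Over.mk (c ≫ H.hom)) ZE.1 := by
    rw [hZE1]
    exact (hfac cO).mpr ⟨𝟙 _, Category.id_comp _⟩
  obtain ⟨Z', hZ'⟩ : ∃ Z' : HilbD.Obj (i ≫ g) d (Over.mk (c ≫ H.hom)),
      Z'.1 = ZE.1.comap (iT i g (Over.mk (c ≫ H.hom))) :=
    ⟨⟨ZE.1.comap (iT i g (Over.mk (c ≫ H.hom))), flf_comap i g d ZE.1 hinE ZE.2⟩, rfl⟩
  -- the formula for base changes of the new universal family
  have hF : ∀ {T : Over S} (b : T ⟶ Over.mk (c ≫ H.hom)),
      HilbD.pull (i ≫ g) b Z'.1 = (Z.1.comap (PicF.XTmap g (b ≫ cO))).comap (iT i g T) := by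
    intro T b
    rw [pull_eq_comap, hZ', ← Scheme.IdealSheafData.comap_comp, iT_natural,
      Scheme.IdealSheafData.comap_comp, hZE1,
      ← Scheme.IdealSheafData.comap_comp Z.1 (PicF.XTmap g b) (PicF.XTmap g cO), ← XTmap_comp]
  have hinb : ∀ {T : Over S} (b : T ⟶ Over.mk (c ≫ H.hom)),
      Inside i g T (Z.1.comap (PicF.XTmap g (b ≫ cO))) := fun b => (hfac (b ≫ cO)).mpr ⟨b, rfl⟩
  have hF2 : ∀ {T : Over S} (b : T ⟶ Over.mk (c ≫ H.hom)),
      HilbD.pull g (b ≫ cO) Z.1 = (HilbD.pull (i ≫ g) b Z'.1).map (iT i g T) := by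
    intro T b
    obtain ⟨k, hk⟩ := hinb b
    rw [hF b, map_comap_eq (iT i g T) _ k hk, pull_eq_comap]
  refine ⟨Z', ?_, hF2⟩
  intro T I
  obtain ⟨J, hJ⟩ : ∃ J : HilbD.Obj g d T, J.1 = I.1.map (iT i g T) :=
    ⟨⟨I.1.map (iT i g T), flf_map i g d I.1 I.2⟩, rfl⟩
  obtain ⟨a, ha, hau⟩ := hZ T J
  have ha' : Z.1.comap (PicF.XTmap g a) = I.1.map (iT i g T) := by
    rw [← pull_eq_comap, ← hJ]
    exact ha
  have hina : Inside i g T (Z.1.comap (PicF.XTmap g a)) := by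
    rw [ha']
    exact inside_map i g T I.1
  obtain ⟨b, hb⟩ := (hfac a).mp hina
  refine ⟨b, ?_, fun b' hb' => ?_⟩
  · show HilbD.pull (i ≫ g) b Z'.1 = I.1
    rw [hF b, hb, ha', comap_map_eq]
  · have h1 : HilbD.pull g (b' ≫ cO) Z.1 = J.1 := by
      rw [hF2 b', hJ]
      exact congrArg (fun K => Scheme.IdealSheafData.map K (iT i g T)) hb'
    have h2 : b' ≫ cO = b ≫ cO := (hau _ h1).trans hb.symm
    apply Over.OverMorphism.ext
    have h3 := congrArg (fun m => m.left) h2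
    simp only [Over.comp_left, hcOl] at h3
    exact (cancel_mono c).mp h3

/-- the statement in the form of the milestone -/
theorem final [IsClosedImmersion i] (H : Over S) (Z : HilbD.Obj g d H)
    (hZ : HilbD.IsUniversal g d H Z) :
    HilbD.Representable (i ≫ g) d ∧
    ∀ (H' : Over S) (Z' : HilbD.Obj (i ≫ g) d H') (_ : HilbD.IsUniversal (i ≫ g) d H' Z')
      (m : H' ⟶ H), HilbD.pull g m Z.1 = HilbD.push i g H' Z'.1 → IsClosedImmersion m.left := by
  obtain ⟨E, c, hc, Z₀, hZ₀, hF2⟩ := main i g H Z hZ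
  haveI := hc
  refine ⟨⟨_, Z₀, hZ₀⟩, fun H' Z' hZ' m hm => ?_⟩
  obtain ⟨n, hn, -⟩ := hZ₀ H' Z'
  haveI : IsIso n.left := isIso_of_universal hZ' hZ₀ n hn
  have h1 : HilbD.pull g (n ≫ (Over.homMk c rfl : Over.mk (c ≫ H.hom) ⟶ H)) Z.1 =
      HilbD.pull g m Z.1 := by
    rw [hF2 n, hm, push_eq_map]
    exact congrArg (fun K => Scheme.IdealSheafData.map K (iT i g H')) hn
  have h2 : n ≫ (Over.homMk c rfl : Over.mk (c ≫ H.hom) ⟶ H) = m := by
    apply uniq_of_isUniversal hZ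
    rw [← pull_eq, ← pull_eq]
    exact h1
  have h3 : m.left = n.left ≫ c := by
    rw [← h2]
    rfl
  rw [h3]
  infer_instance

end Groth.Agent.H4.HbJ
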