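import Mathlib

set_option autoImplicit false
universe u
open Finset

noncomputable section
namespace Groth.Agent.H4.HdCore

/-- integer vectors in three coordinates -/
abbrev X := Fin 3 → ℤ

/-- unit vector -/
def ee (l : Fin 3) : X := Pi.single l 1
/-- the vector `(1,1,1)` -/
def one3 : X := fun _ => 1

lemma ee_same (l : Fin 3) : ee l l = 1 := Pi.single_eq_same l 1
lemma ee_ne {l j : Fin 3} (h : j ≠ l) : ee l j = 0 := Pi.single_eq_of_ne h 1
lemma ee_apply (l j : Fin 3) : ee l j = if j = l then 1 else 0 := by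
  unfold ee; rw [Pi.single_apply]
lemma ee_nonneg (l j : Fin 3) : 0 ≤ ee l j := by
  rw [ee_apply]; split_ifs <;> norm_num
lemma ee_le_one (l j : Fin 3) : ee l j ≤ 1 := by
  rw [ee_apply]; split_ifs <;> norm_num

lemma f3_ne1 : ∀ m : Fin 3, m + 1 ≠ m := by decide
lemma f3_ne2 : ∀ m : Fin 3, m + 2 ≠ m := by decide
lemma f3_ne12 : ∀ m : Fin 3, m + 2 ≠ m + 1 := by decide
lemma f3_12 : ∀ m : Fin 3, m + 1 + 2 = m := by decide
lemma f3_21 : ∀ m : Fin 3, m + 2 + 1 = m := by decide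
lemma f3_11 : ∀ m : Fin 3, m + 1 + 1 = m + 2 := by decide
lemma f3_22 : ∀ m : Fin 3, m + 2 + 2 = m + 1 := by decide
lemma f3_cases : ∀ m j : Fin 3, j = m ∨ j = m + 1 ∨ j = m + 2 := by decide
lemma f3_ne_cases : ∀ a b : Fin 3, a ≠ b → b = a + 1 ∨ b = a + 2 := by decide

lemma ee_sum (l j : Fin 3) : ee l j + ee (l + 1) j + ee (l + 2) j = 1 := by
  rcases f3_cases l j with h | h | h
  · subst h
    rw [ee_same, ee_ne (f3_ne1 j).symm, ee_ne (f3_ne2 j).symm]; norm_num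
  · subst h
    rw [ee_same, ee_ne (f3_ne1 l), ee_ne (f3_ne12 l).symm]; norm_num
  · subst h
    rw [ee_same, ee_ne (f3_ne2 l), ee_ne (f3_ne12 l)]; norm_num

lemma one3_sub_ee (m : Fin 3) : one3 - ee m = ee (m + 1) + ee (m + 2) := by
  funext i
  have := ee_sum m i
  simp only [Pi.sub_apply, Pi.add_apply, one3]
  omega

/-- a staircase: a finite down-closed subset of `ℕ³` -/
structure IsStair (Λ : Finset X) : Prop where
  nonneg : ∀ γ ∈ Λ, ∀ i, 0 ≤ γ i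
  down : ∀ γ ∈ Λ, ∀ γ' : X, (∀ i, 0 ≤ γ' i) → (∀ i, γ' i ≤ γ i) → γ' ∈ Λ

section Sets
variable (Λ : Finset X) (α : X)

def P0 : Finset X := Λ.filter (fun γ => γ + α ∈ Λ)
def P1 : Finset (X × Fin 3) :=
  (Λ ×ˢ (univ : Finset (Fin 3))).filter (fun q => q.1 + (α + ee q.2) ∈ Λ)
def P2 : Finset (X × Fin 3) :=
  (Λ ×ˢ (univ : Finset (Fin 3))).filter (fun q => q.1 + (α + one3 - ee q.2) ∈ Λ)

variable {Λ α}
lemma mem_P0 {γ : X} : γ ∈ P0 Λ α ↔ γ ∈ Λ ∧ γ + α ∈ Λ := by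
  unfold P0; rw [Finset.mem_filter]
lemma mem_P1 {q : X × Fin 3} : q ∈ P1 Λ α ↔ q.1 ∈ Λ ∧ q.1 + (α + ee q.2) ∈ Λ := by
  unfold P1; rw [Finset.mem_filter, Finset.mem_product]
  exact ⟨fun h => ⟨h.1.1, h.2⟩, fun h => ⟨⟨h.1, Finset.mem_univ _⟩, h.2⟩⟩
lemma mem_P2 {q : X × Fin 3} : q ∈ P2 Λ α ↔ q.1 ∈ Λ ∧ q.1 + (α + one3 - ee q.2) ∈ Λ := by
  unfold P2; rw [Finset.mem_filter, Finset.mem_product]
  exact ⟨fun h => ⟨h.1.1, h.2⟩, fun h => ⟨⟨h.1, Finset.mem_univ _⟩, h.2⟩⟩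
variable (Λ α)

/-- the overlap count -/
def Nn (δ : X) : ℕ := (Λ.filter (fun γ => γ + δ ∈ Λ)).card

lemma card_P0 : (P0 Λ α).card = Nn Λ α := rfl

lemma card_P1 : (P1 Λ α).card = ∑ l : Fin 3, Nn Λ (α + ee l) := by
  unfold P1 Nn
  rw [Finset.card_filter, Finset.sum_product, Finset.sum_comm]
  refine Finset.sum_congr rfl (fun l _ => ?_)
  rw [Finset.card_filter]

lemma card_P2 : (P2 Λ α).card = ∑ m : Fin 3, Nn Λ (α + one3 - ee m) := by
  unfold P2 Nn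
  rw [Finset.card_filter, Finset.sum_product, Finset.sum_comm]
  refine Finset.sum_congr rfl (fun l _ => ?_)
  rw [Finset.card_filter]

end Sets

section Mat
variable {k : Type u} [Field k] (Λ : Finset X) (α : X)

/-- the matrix of the middle (curl) differential -/
def M : Matrix ↥(P2 Λ α) ↥(P1 Λ α) k := fun p q =>
  (if q.1 = (p.1.1, p.1.2 + 2) then (1 : k) else 0)
    - (if q.1 = (p.1.1 + ee (p.1.2 + 1), p.1.2 + 2) then (1 : k) else 0)
    - (if q.1 = (p.1.1, p.1.2 + 1) then (1 : k) else 0)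
    + (if q.1 = (p.1.1 + ee (p.1.2 + 2), p.1.2 + 1) then (1 : k) else 0)

/-- extension by zero of a function on `P1` -/
def ext1 (Φ : ↥(P1 Λ α) → k) (y : X × Fin 3) : k :=
  if h : y ∈ P1 Λ α then Φ ⟨y, h⟩ else 0

lemma ext1_mem (Φ : ↥(P1 Λ α) → k) {y : X × Fin 3} (h : y ∈ P1 Λ α) :
    ext1 Λ α Φ y = Φ ⟨y, h⟩ := dif_pos h

lemma ext1_not_mem (Φ : ↥(P1 Λ α) → k) {y : X × Fin 3} (h : y ∉ P1 Λ α) :
    ext1 Λ α Φ y = 0 := dif_neg h

lemma sum_ite_ext1 (Φ : ↥(P1 Λ α) → k) (y : X × Fin 3) :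
    ∑ q : ↥(P1 Λ α), (if q.1 = y then (1 : k) else 0) * Φ q = ext1 Λ α Φ y := by
  by_cases h : y ∈ P1 Λ α
  · rw [ext1_mem Λ α Φ h, Finset.sum_eq_single (⟨y, h⟩ : ↥(P1 Λ α))]
    · rw [if_pos rfl, one_mul]
    · intro b _ hb
      rw [if_neg (fun e : b.1 = y => hb (Subtype.ext e)), zero_mul]
    · intro hn
      exact absurd (Finset.mem_univ _) hn
  · rw [ext1_not_mem Λ α Φ h]
    refine Finset.sum_eq_zero (fun q _ => ?_)
    rw [if_neg (fun e : q.1 = y => h (e ▸ q.2)), zero_mul]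

lemma mulVec_M (Φ : ↥(P1 Λ α) → k) (p : ↥(P2 Λ α)) :
    (M Λ α).mulVec Φ p =
      ext1 Λ α Φ (p.1.1, p.1.2 + 2) - ext1 Λ α Φ (p.1.1 + ee (p.1.2 + 1), p.1.2 + 2)
        - ext1 Λ α Φ (p.1.1, p.1.2 + 1) + ext1 Λ α Φ (p.1.1 + ee (p.1.2 + 2), p.1.2 + 1) := by
  unfold Matrix.mulVec dotProduct M
  simp only [add_mul, sub_mul, Finset.sum_add_distrib, Finset.sum_sub_distrib]
  rw [sum_ite_ext1, sum_ite_ext1, sum_ite_ext1, sum_ite_ext1]

/-- the dual multidegree `-α - (1,1,1)` -/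
def aDual (α : X) : X := -α - one3

lemma aDual_aDual (α : X) : aDual (aDual α) = α := by
  unfold aDual; abel

/-- duality bijection `P1 α ≃ P2 (-α-1)` -/
def sig1 : ↥(P1 Λ α) ≃ ↥(P2 Λ (aDual α)) where
  toFun q := ⟨(q.1.1 + (α + ee q.1.2), q.1.2), mem_P2.2 ⟨(mem_P1.1 q.2).2, by
    have e : q.1.1 + (α + ee q.1.2) + (aDual α + one3 - ee q.1.2) = q.1.1 := by
      unfold aDual; abel
    show q.1.1 + (α + ee q.1.2) + (aDual α + one3 - ee q.1.2) ∈ Λ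
    rw [e]; exact (mem_P1.1 q.2).1⟩⟩
  invFun p := ⟨(p.1.1 + (aDual α + one3 - ee p.1.2), p.1.2), mem_P1.2 ⟨(mem_P2.1 p.2).2, by
    have e : p.1.1 + (aDual α + one3 - ee p.1.2) + (α + ee p.1.2) = p.1.1 := by
      unfold aDual; abel
    show p.1.1 + (aDual α + one3 - ee p.1.2) + (α + ee p.1.2) ∈ Λ
    rw [e]; exact (mem_P2.1 p.2).1⟩⟩
  left_inv q := by
    apply Subtype.ext
    apply Prod.ext
    · show q.1.1 + (α + ee q.1.2) + (aDual α + one3 - ee q.1.2) = q.1.1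
      unfold aDual; abel
    · rfl
  right_inv p := by
    apply Subtype.ext
    apply Prod.ext
    · show p.1.1 + (aDual α + one3 - ee p.1.2) + (α + ee p.1.2) = p.1.1
      unfold aDual; abel
    · rfl

/-- duality bijection `P2 α ≃ P1 (-α-1)` -/
def sig2 : ↥(P2 Λ α) ≃ ↥(P1 Λ (aDual α)) where
  toFun p := ⟨(p.1.1 + (α + one3 - ee p.1.2), p.1.2), mem_P1.2 ⟨(mem_P2.1 p.2).2, by
    have e : p.1.1 + (α + one3 - ee p.1.2) + (aDual α + ee p.1.2) = p.1.1 := by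
      unfold aDual; abel
    show p.1.1 + (α + one3 - ee p.1.2) + (aDual α + ee p.1.2) ∈ Λ
    rw [e]; exact (mem_P2.1 p.2).1⟩⟩
  invFun q := ⟨(q.1.1 + (aDual α + ee q.1.2), q.1.2), mem_P2.2 ⟨(mem_P1.1 q.2).2, by
    have e : q.1.1 + (aDual α + ee q.1.2) + (α + one3 - ee q.1.2) = q.1.1 := by
      unfold aDual; abel
    show q.1.1 + (aDual α + ee q.1.2) + (α + one3 - ee q.1.2) ∈ Λ
    rw [e]; exact (mem_P1.1 q.2).1⟩⟩
  left_inv p := by
    apply Subtype.ext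
    apply Prod.ext
    · show p.1.1 + (α + one3 - ee p.1.2) + (aDual α + ee p.1.2) = p.1.1
      unfold aDual; abel
    · rfl
  right_inv q := by
    apply Subtype.ext
    apply Prod.ext
    · show q.1.1 + (aDual α + ee q.1.2) + (α + one3 - ee q.1.2) = q.1.1
      unfold aDual; abel
    · rfl

lemma ite_congr_iff {p q : Prop} [Decidable p] [Decidable q] (h : p ↔ q) :
    (if p then (1 : k) else 0) = if q then (1 : k) else 0 := by
  by_cases hp : p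
  · rw [if_pos hp, if_pos (h.1 hp)]
  · rw [if_neg hp, if_neg (fun hq => hp (h.2 hq))]

/-- the four index correspondences behind the self-duality of the curl matrix -/
lemma dual_iff1 (γ₁ γ₂ : X) (l m : Fin 3) :
    ((γ₂ + (α + one3 - ee m), m) = (γ₁ + (α + ee l), l + 2)) ↔
      ((γ₁, l) = (γ₂ + ee (m + 2), m + 1)) := by
  rw [Prod.mk.injEq, Prod.mk.injEq]
  constructor
  · rintro ⟨h1, h2⟩
    subst h2
    have h3 : l + 2 + 1 = l := f3_21 l
    refine ⟨?_, h3.symm⟩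
    have h4 : l + 2 + 2 = l + 1 := f3_22 l
    have h5 := one3_sub_ee (l + 2)
    rw [h3, h4] at h5
    rw [h4]
    have h6 : γ₂ + (α + (one3 - ee (l + 2))) = γ₁ + (α + ee l) := by rw [← h1]; abel
    rw [h5] at h6
    have h7 : γ₁ = γ₂ + (α + (ee l + ee (l + 1))) - (α + ee l) := by rw [h6]; abel
    rw [h7]; abel
  · rintro ⟨h1, h2⟩
    subst h2
    have h3 : m + 1 + 2 = m := f3_12 m
    refine ⟨?_, h3.symm⟩
    have h5 := one3_sub_ee m
    rw [h1]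
    have : γ₂ + (α + one3 - ee m) = γ₂ + (α + (one3 - ee m)) := by abel
    rw [this, h5]; abel

lemma dual_iff2 (γ₁ γ₂ : X) (l m : Fin 3) :
    ((γ₂ + (α + one3 - ee m), m) = (γ₁ + (α + ee l) + ee (l + 1), l + 2)) ↔
      ((γ₁, l) = (γ₂, m + 1)) := by
  rw [Prod.mk.injEq, Prod.mk.injEq]
  constructor
  · rintro ⟨h1, h2⟩
    subst h2
    have h3 : l + 2 + 1 = l := f3_21 l
    refine ⟨?_, h3.symm⟩
    have h4 : l + 2 + 2 = l + 1 := f3_22 l
    have h5 := one3_sub_ee (l + 2)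
    rw [h3, h4] at h5
    have h6 : γ₂ + (α + (one3 - ee (l + 2))) = γ₁ + (α + ee l) + ee (l + 1) := by rw [← h1]; abel
    rw [h5] at h6
    have h7 : γ₁ = γ₂ + (α + (ee l + ee (l + 1))) - (α + ee l) - ee (l + 1) := by rw [h6]; abel
    rw [h7]; abel
  · rintro ⟨h1, h2⟩
    subst h2
    have h3 : m + 1 + 2 = m := f3_12 m
    refine ⟨?_, h3.symm⟩
    have h4 : m + 1 + 1 = m + 2 := f3_11 m
    have h5 := one3_sub_ee m
    rw [h1, h4]
    have : γ₂ + (α + one3 - ee m) = γ₂ + (α + (one3 - ee m)) := by abel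
    rw [this, h5]; abel

lemma dual_iff3 (γ₁ γ₂ : X) (l m : Fin 3) :
    ((γ₂ + (α + one3 - ee m), m) = (γ₁ + (α + ee l), l + 1)) ↔
      ((γ₁, l) = (γ₂ + ee (m + 1), m + 2)) := by
  rw [Prod.mk.injEq, Prod.mk.injEq]
  constructor
  · rintro ⟨h1, h2⟩
    subst h2
    have h3 : l + 1 + 2 = l := f3_12 l
    refine ⟨?_, h3.symm⟩
    have h4 : l + 1 + 1 = l + 2 := f3_11 l
    have h5 := one3_sub_ee (l + 1)
    rw [h3, h4] at h5
    rw [h4]
    have h6 : γ₂ + (α + (one3 - ee (l + 1))) = γ₁ + (α + ee l) := by rw [← h1]; abel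
    rw [h5] at h6
    have h7 : γ₁ = γ₂ + (α + (ee (l + 2) + ee l)) - (α + ee l) := by rw [h6]; abel
    rw [h7]; abel
  · rintro ⟨h1, h2⟩
    subst h2
    have h3 : m + 2 + 1 = m := f3_21 m
    refine ⟨?_, h3.symm⟩
    have h5 := one3_sub_ee m
    rw [h1]
    have : γ₂ + (α + one3 - ee m) = γ₂ + (α + (one3 - ee m)) := by abel
    rw [this, h5]; abel

lemma dual_iff4 (γ₁ γ₂ : X) (l m : Fin 3) :
    ((γ₂ + (α + one3 - ee m), m) = (γ₁ + (α + ee l) + ee (l + 2), l + 1)) ↔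
      ((γ₁, l) = (γ₂, m + 2)) := by
  rw [Prod.mk.injEq, Prod.mk.injEq]
  constructor
  · rintro ⟨h1, h2⟩
    subst h2
    have h3 : l + 1 + 2 = l := f3_12 l
    refine ⟨?_, h3.symm⟩
    have h4 : l + 1 + 1 = l + 2 := f3_11 l
    have h5 := one3_sub_ee (l + 1)
    rw [h3, h4] at h5
    have h6 : γ₂ + (α + (one3 - ee (l + 1))) = γ₁ + (α + ee l) + ee (l + 2) := by rw [← h1]; abel
    rw [h5] at h6
    have h7 : γ₁ = γ₂ + (α + (ee (l + 2) + ee l)) - (α + ee l) - ee (l + 2) := by rw [h6]; abel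
    rw [h7]; abel
  · rintro ⟨h1, h2⟩
    subst h2
    have h3 : m + 2 + 1 = m := f3_21 m
    refine ⟨?_, h3.symm⟩
    have h4 : m + 2 + 2 = m + 1 := f3_22 m
    have h5 := one3_sub_ee m
    rw [h1, h4]
    have : γ₂ + (α + one3 - ee m) = γ₂ + (α + (one3 - ee m)) := by abel
    rw [this, h5]; abel

lemma M_dual (p : ↥(P2 Λ α)) (q : ↥(P1 Λ α)) :
    (M Λ α : Matrix _ _ k) p q = (M Λ (aDual α) : Matrix _ _ k) (sig1 Λ α q) (sig2 Λ α p) := by
  obtain ⟨⟨γ₂, m⟩, hp⟩ := p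
  obtain ⟨⟨γ₁, l⟩, hq⟩ := q
  show (if (γ₁, l) = (γ₂, m + 2) then (1 : k) else 0)
      - (if (γ₁, l) = (γ₂ + ee (m + 1), m + 2) then (1 : k) else 0)
      - (if (γ₁, l) = (γ₂, m + 1) then (1 : k) else 0)
      + (if (γ₁, l) = (γ₂ + ee (m + 2), m + 1) then (1 : k) else 0) =
    (if (γ₂ + (α + one3 - ee m), m) = (γ₁ + (α + ee l), l + 2) then (1 : k) else 0)
      - (if (γ₂ + (α + one3 - ee m), m) = (γ₁ + (α + ee l) + ee (l + 1), l + 2) then (1 : k) else 0)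
      - (if (γ₂ + (α + one3 - ee m), m) = (γ₁ + (α + ee l), l + 1) then (1 : k) else 0)
      + (if (γ₂ + (α + one3 - ee m), m) = (γ₁ + (α + ee l) + ee (l + 2), l + 1) then (1 : k) else 0)
  rw [ite_congr_iff (dual_iff1 α γ₁ γ₂ l m), ite_congr_iff (dual_iff2 α γ₁ γ₂ l m),
    ite_congr_iff (dual_iff3 α γ₁ γ₂ l m), ite_congr_iff (dual_iff4 α γ₁ γ₂ l m)]
  ring

theorem rank_dual : (M Λ α : Matrix _ _ k).rank = (M Λ (aDual α) : Matrix _ _ k).rank := by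
  have h : (M Λ α : Matrix _ _ k) =
      ((M Λ (aDual α) : Matrix _ _ k).transpose).submatrix (sig2 Λ α) (sig1 Λ α) := by
    ext p q
    rw [Matrix.submatrix_apply, Matrix.transpose_apply]
    exact M_dual Λ α p q
  rw [h, Matrix.rank_submatrix, Matrix.rank_transpose]

/-- rank-nullity for the curl matrix -/
theorem finrank_ker_M :
    Module.finrank k ↥(LinearMap.ker (M Λ α : Matrix _ _ k).mulVecLin) + (M Λ α : Matrix _ _ k).rank =
      (P1 Λ α).card := by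
  have h := LinearMap.finrank_range_add_finrank_ker (M Λ α : Matrix _ _ k).mulVecLin
  rw [Module.finrank_fintype_fun_eq_card, Fintype.card_coe] at h
  unfold Matrix.rank
  omega

end Mat

end Groth.Agent.H4.HdCore
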