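import Mathlib
import Groth.Agent.H4.HdCore

set_option autoImplicit false
universe u
open Finset
open Groth.Agent.H4.HdCore

noncomputable section
namespace Groth.Agent.H4.HdInt

variable {k : Type u} [Field k] {Λ : Finset X}

/-- being coordinatewise below a point of the staircase -/
def Below (Λ : Finset X) (v : X) : Prop := ∃ w ∈ Λ, ∀ i, v i ≤ w i

lemma below_of_le {v w : X} (hw : w ∈ Λ) (h : ∀ i, v i ≤ w i) : Below Λ v := ⟨w, hw, h⟩

lemma below_mem (hS : IsStair Λ) {v : X} (hb : Below Λ v) (h0 : ∀ i, 0 ≤ v i) : v ∈ Λ := by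
  obtain ⟨w, hw, hle⟩ := hb
  exact hS.down w hw v h0 hle

lemma mem_of_add_ee (hS : IsStair Λ) {γ : X} {l : Fin 3} (h0 : ∀ i, 0 ≤ γ i)
    (h : γ + ee l ∈ Λ) : γ ∈ Λ :=
  hS.down _ h γ h0 (fun i => by
    have := ee_nonneg l i
    simp only [Pi.add_apply]
    omega)

lemma add_ee_nonneg {γ : X} (l : Fin 3) (h0 : ∀ i, 0 ≤ γ i) : ∀ i, 0 ≤ (γ + ee l) i := fun i => by
  have := ee_nonneg l i
  have := h0 i
  simp only [Pi.add_apply]
  omega

section Upd
variable (β : X) (m₀ : Fin 3)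

lemma upd_add_ee_same (v : ℤ) :
    Function.update (β + ee m₀) m₀ v = Function.update β m₀ v := by
  funext i
  rw [Function.update_apply, Function.update_apply]
  split_ifs with h
  · rfl
  · rw [Pi.add_apply, ee_ne h, add_zero]

lemma upd_add_ee_ne {l : Fin 3} (h : l ≠ m₀) (v : ℤ) :
    Function.update (β + ee l) m₀ v = Function.update β m₀ v + ee l := by
  funext i
  rw [Pi.add_apply, Function.update_apply, Function.update_apply]
  split_ifs with hi
  · subst hi
    rw [ee_ne (Ne.symm h), add_zero]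
  · rw [Pi.add_apply]

lemma upd_succ (v : ℤ) :
    Function.update β m₀ v + ee m₀ = Function.update β m₀ (v + 1) := by
  funext i
  rw [Pi.add_apply, Function.update_apply, Function.update_apply]
  split_ifs with hi
  · subst hi
    rw [ee_same]
  · rw [ee_ne hi, add_zero]

lemma upd_self {v : ℤ} (h : β m₀ = v) : Function.update β m₀ v = β := by
  subst h
  exact Function.update_eq_self m₀ β

lemma upd_nonneg {v : ℤ} (hv : 0 ≤ v) (h0 : ∀ i, 0 ≤ β i) :
    ∀ i, 0 ≤ Function.update β m₀ v i := fun i => by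
  rw [Function.update_apply]
  split_ifs
  · exact hv
  · exact h0 i

end Upd

/-- functions vanishing off a finite set -/
def SuppIn (A : Finset X) : Submodule k (X → k) where
  carrier := {F | ∀ x, x ∉ A → F x = 0}
  zero_mem' := fun _ _ => rfl
  add_mem' := by
    intro F G hF hG x hx
    rw [Pi.add_apply, hF x hx, hG x hx, add_zero]
  smul_mem' := by
    intro c F hF x hx
    rw [Pi.smul_apply, hF x hx, smul_zero]

/-- restriction to the finite set is a linear equivalence -/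
def suppEquiv (A : Finset X) : ↥(SuppIn (k := k) A) ≃ₗ[k] (↥A → k) where
  toFun F := fun a => F.1 a.1
  map_add' := fun _ _ => rfl
  map_smul' := fun _ _ => rfl
  invFun f := ⟨fun x => if h : x ∈ A then f ⟨x, h⟩ else 0, fun x hx => dif_neg hx⟩
  left_inv F := by
    apply Subtype.ext
    funext x
    by_cases h : x ∈ A
    · show (if h : x ∈ A then F.1 x else 0) = F.1 x
      rw [dif_pos h]
    · show (if h : x ∈ A then F.1 x else 0) = F.1 x
      rw [dif_neg h, F.2 x h]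
  right_inv f := by
    funext a
    show (if h : a.1 ∈ A then f ⟨a.1, h⟩ else 0) = f a
    rw [dif_pos a.2]

lemma finrank_suppIn (A : Finset X) : Module.finrank k ↥(SuppIn (k := k) A) = A.card := by
  rw [(suppEquiv (k := k) A).finrank_eq, Module.finrank_fintype_fun_eq_card, Fintype.card_coe]

instance (A : Finset X) : Module.Finite k ↥(SuppIn (k := k) A) :=
  Module.Finite.equiv (suppEquiv (k := k) A).symm

/-- the source exponents of degree `α`: nonnegative, outside `Λ`, landing in `Λ` -/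
def U0 (Λ : Finset X) (α : X) : Finset X :=
  (Λ.image (fun δ => δ - α)).filter (fun β => (∀ i, 0 ≤ β i) ∧ β ∉ Λ)

lemma mem_U0 {α β : X} : β ∈ U0 Λ α ↔ (∀ i, 0 ≤ β i) ∧ β ∉ Λ ∧ β + α ∈ Λ := by
  unfold U0
  rw [Finset.mem_filter, Finset.mem_image]
  constructor
  · rintro ⟨⟨δ, hδ, rfl⟩, h0, hn⟩
    refine ⟨h0, hn, ?_⟩
    rw [sub_add_cancel]
    exact hδ
  · rintro ⟨h0, hn, h⟩
    exact ⟨⟨β + α, h, add_sub_cancel_right β α⟩, h0, hn⟩

/-- the function model of the graded piece `T_α` -/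
def TF (Λ : Finset X) (α : X) : Submodule k (X → k) where
  carrier := {ψ | (∀ β, β ∉ U0 Λ α → ψ β = 0) ∧
    ∀ (β : X) (l : Fin 3), (∀ i, 0 ≤ β i) → β ∉ Λ → β + (α + ee l) ∈ Λ → ψ (β + ee l) = ψ β}
  zero_mem' := ⟨fun _ _ => rfl, fun _ _ _ _ _ => rfl⟩
  add_mem' := by
    rintro F G ⟨hF1, hF2⟩ ⟨hG1, hG2⟩
    refine ⟨fun x hx => ?_, fun β l h0 hn h => ?_⟩
    · rw [Pi.add_apply, hF1 x hx, hG1 x hx, add_zero]
    · rw [Pi.add_apply, Pi.add_apply, hF2 β l h0 hn h, hG2 β l h0 hn h]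
  smul_mem' := by
    rintro c F ⟨hF1, hF2⟩
    refine ⟨fun x hx => ?_, fun β l h0 hn h => ?_⟩
    · rw [Pi.smul_apply, hF1 x hx, smul_zero]
    · rw [Pi.smul_apply, Pi.smul_apply, hF2 β l h0 hn h]

lemma TF_le (α : X) : TF (k := k) Λ α ≤ SuppIn (U0 Λ α) := fun _ h => h.1

instance (α : X) : Module.Finite k ↥(TF (k := k) Λ α) :=
  Submodule.finiteDimensional_of_le (TF_le α)

section Theta
variable (Λ) (α : X)

/-- the sum of the two components -/
def Gf (x : ↥(TF (k := k) Λ α) × ↥(SuppIn (k := k) (P0 Λ α))) : X → k :=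
  fun β => x.1.1 β + x.2.1 β

/-- the comparison map into functions on `P1` -/
def Theta : (↥(TF (k := k) Λ α) × ↥(SuppIn (k := k) (P0 Λ α))) →ₗ[k] (↥(P1 Λ α) → k) where
  toFun x := fun q => Gf Λ α x (q.1.1 + ee q.1.2) - Gf Λ α x q.1.1
  map_add' x y := by
    funext q
    show (x.1.1 + y.1.1) (q.1.1 + ee q.1.2) + (x.2.1 + y.2.1) (q.1.1 + ee q.1.2)
        - ((x.1.1 + y.1.1) q.1.1 + (x.2.1 + y.2.1) q.1.1) =
      (x.1.1 (q.1.1 + ee q.1.2) + x.2.1 (q.1.1 + ee q.1.2) - (x.1.1 q.1.1 + x.2.1 q.1.1)) +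
      (y.1.1 (q.1.1 + ee q.1.2) + y.2.1 (q.1.1 + ee q.1.2) - (y.1.1 q.1.1 + y.2.1 q.1.1))
    simp only [Pi.add_apply]
    ring
  map_smul' c x := by
    funext q
    show (c • x.1.1) (q.1.1 + ee q.1.2) + (c • x.2.1) (q.1.1 + ee q.1.2)
        - ((c • x.1.1) q.1.1 + (c • x.2.1) q.1.1) =
      c • (x.1.1 (q.1.1 + ee q.1.2) + x.2.1 (q.1.1 + ee q.1.2) - (x.1.1 q.1.1 + x.2.1 q.1.1))
    simp only [Pi.smul_apply, smul_eq_mul]
    ring

variable {Λ α}
variable (hS : IsStair Λ) (x : ↥(TF (k := k) Λ α) × ↥(SuppIn (k := k) (P0 Λ α)))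

include hS in
lemma Gf_supp (β : X) (h : ¬ ((∀ i, 0 ≤ β i) ∧ β + α ∈ Λ)) : Gf Λ α x β = 0 := by
  unfold Gf
  rw [x.1.2.1 β (fun hm => h ⟨(mem_U0.1 hm).1, (mem_U0.1 hm).2.2⟩),
    x.2.2 β (fun hm => h ⟨hS.nonneg β (mem_P0.1 hm).1, (mem_P0.1 hm).2⟩), add_zero]

include hS in
lemma Gf_step_out (γ : X) (l : Fin 3) (h0 : ∀ i, 0 ≤ γ i) (hn : γ ∉ Λ)
    (h : γ + (α + ee l) ∈ Λ) : Gf Λ α x (γ + ee l) = Gf Λ α x γ := by
  unfold Gf
  rw [x.1.2.2 γ l h0 hn h, x.2.2 γ (fun hm => hn (mem_P0.1 hm).1),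
    x.2.2 (γ + ee l) (fun hm => hn (mem_of_add_ee hS h0 (mem_P0.1 hm).1))]

include hS in
lemma ext1_theta (γ : X) (l : Fin 3) (h0 : ∀ i, 0 ≤ γ i) (hb : Below Λ (γ + (α + ee l))) :
    ext1 Λ α (Theta Λ α x) (γ, l) = Gf Λ α x (γ + ee l) - Gf Λ α x γ := by
  by_cases hq : (γ, l) ∈ P1 Λ α
  · rw [ext1_mem Λ α _ hq]
    rfl
  · rw [ext1_not_mem Λ α _ hq]
    by_cases h1 : γ + (α + ee l) ∈ Λ
    · have hn : γ ∉ Λ := fun hm => hq (mem_P1.2 ⟨hm, h1⟩)
      rw [Gf_step_out hS x γ l h0 hn h1, sub_self]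
    · have e : γ + ee l + α = γ + (α + ee l) := by abel
      rw [Gf_supp hS x (γ + ee l) (fun hh => h1 (e ▸ hh.2)),
        Gf_supp hS x γ (fun hh => h1 (below_mem hS hb (fun i => by
          have h2 := hS.nonneg _ hh.2 i
          have h3 := ee_nonneg l i
          simp only [Pi.add_apply] at h2 ⊢
          omega))), sub_self]

include hS in
lemma theta_mem_ker : (M Λ α : Matrix _ _ k).mulVecLin (Theta Λ α x) = 0 := by
  funext p
  rw [Matrix.mulVecLin_apply, mulVec_M]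
  obtain ⟨⟨γ, m⟩, hp⟩ := p
  have hγ := (mem_P2.1 hp).1
  have hw := (mem_P2.1 hp).2
  have h0 := hS.nonneg γ hγ
  have hone := one3_sub_ee m
  have hle : ∀ (v : X), (∀ i, v i ≤ (γ + (α + one3 - ee m)) i) → Below Λ v :=
    fun v hv => below_of_le hw hv
  have hc : ∀ i, one3 i - ee m i = ee (m + 1) i + ee (m + 2) i := fun i => by
    have := congrFun hone i
    simpa only [Pi.sub_apply, Pi.add_apply] using this
  show ext1 Λ α (Theta Λ α x) (γ, m + 2) - ext1 Λ α (Theta Λ α x) (γ + ee (m + 1), m + 2)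
      - ext1 Λ α (Theta Λ α x) (γ, m + 1) + ext1 Λ α (Theta Λ α x) (γ + ee (m + 2), m + 1) = 0
  rw [ext1_theta hS x γ (m + 2) h0 (hle _ (fun i => by
        have := hc i; have := ee_nonneg (m + 1) i
        simp only [Pi.add_apply, Pi.sub_apply]; omega)),
    ext1_theta hS x (γ + ee (m + 1)) (m + 2) (add_ee_nonneg _ h0) (hle _ (fun i => by
        have := hc i
        simp only [Pi.add_apply, Pi.sub_apply]; omega)),
    ext1_theta hS x γ (m + 1) h0 (hle _ (fun i => by
        have := hc i; have := ee_nonneg (m + 2) i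
        simp only [Pi.add_apply, Pi.sub_apply]; omega)),
    ext1_theta hS x (γ + ee (m + 2)) (m + 1) (add_ee_nonneg _ h0) (hle _ (fun i => by
        have := hc i
        simp only [Pi.add_apply, Pi.sub_apply]; omega))]
  rw [add_right_comm γ (ee (m + 2)) (ee (m + 1))]
  show _ = (0 : k)
  ring

include hS in
lemma Gf_step (h : Theta Λ α x = 0) (γ : X) (l : Fin 3) (h0 : ∀ i, 0 ≤ γ i)
    (h1 : γ + (α + ee l) ∈ Λ) : Gf Λ α x (γ + ee l) = Gf Λ α x γ := by
  by_cases hm : γ ∈ Λ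
  · have hq : (γ, l) ∈ P1 Λ α := mem_P1.2 ⟨hm, h1⟩
    have := congrFun h ⟨(γ, l), hq⟩
    exact sub_eq_zero.1 this
  · exact Gf_step_out hS x γ l h0 hm h1

include hS in
lemma Gf_zero (m₀ : Fin 3) (hm : α m₀ < 0) (h : Theta Λ α x = 0) (β : X) : Gf Λ α x β = 0 := by
  by_cases hA : (∀ i, 0 ≤ β i) ∧ β + α ∈ Λ
  · have key : ∀ s : ℕ, Gf Λ α x (Function.update β m₀ (s : ℤ)) = 0 := by
      intro s
      induction s with
      | zero =>
        apply Gf_supp hS
        rintro ⟨-, h2⟩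
        have h3 := hS.nonneg _ h2 m₀
        rw [Pi.add_apply, Function.update_self] at h3
        push_cast at h3
        omega
      | succ s ih =>
        have e : Function.update β m₀ ((s + 1 : ℕ) : ℤ) = Function.update β m₀ (s : ℤ) + ee m₀ := by
          rw [upd_succ]; push_cast; rfl
        rw [e]
        by_cases h1 : Function.update β m₀ (s : ℤ) + (α + ee m₀) ∈ Λ
        · rw [Gf_step hS x h _ m₀ (upd_nonneg β m₀ (Int.natCast_nonneg s) hA.1) h1, ih]
        · apply Gf_supp hS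
          rintro ⟨-, h2⟩
          apply h1
          have e2 : Function.update β m₀ (s : ℤ) + ee m₀ + α =
              Function.update β m₀ (s : ℤ) + (α + ee m₀) := by abel
          rw [← e2]; exact h2
    have := key (β m₀).toNat
    rwa [Int.toNat_of_nonneg (hA.1 m₀), upd_self β m₀ rfl] at this
  · exact Gf_supp hS x β hA

include hS in
lemma theta_inj (m₀ : Fin 3) (hm : α m₀ < 0) : Function.Injective (Theta (k := k) Λ α) := by
  rw [← LinearMap.ker_eq_bot, LinearMap.ker_eq_bot']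
  intro x hx
  have hG := Gf_zero hS x m₀ hm hx
  apply Prod.ext
  · apply Subtype.ext
    funext β
    show x.1.1 β = 0
    by_cases hβ : β ∈ Λ
    · exact x.1.2.1 β (fun hm => (mem_U0.1 hm).2.1 hβ)
    · have h1 := hG β
      unfold Gf at h1
      rwa [x.2.2 β (fun hm => hβ (mem_P0.1 hm).1), add_zero] at h1
  · apply Subtype.ext
    funext β
    show x.2.1 β = 0
    by_cases hβ : β ∈ Λ
    · have h1 := hG β
      unfold Gf at h1
      rwa [x.1.2.1 β (fun hm => (mem_U0.1 hm).2.1 hβ), zero_add] at h1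
    · exact x.2.2 β (fun hm => hβ (mem_P0.1 hm).1)

end Theta

section Integrate
variable {α : X} (hS : IsStair Λ) (Φ : ↥(P1 Λ α) → k)
  (hker : (M Λ α : Matrix _ _ k).mulVecLin Φ = 0)

include hS hker in
lemma ec (γ : X) (m : Fin 3) (h0 : ∀ i, 0 ≤ γ i) (hb : Below Λ (γ + (α + one3 - ee m))) :
    ext1 Λ α Φ (γ, m + 2) - ext1 Λ α Φ (γ + ee (m + 1), m + 2)
      - ext1 Λ α Φ (γ, m + 1) + ext1 Λ α Φ (γ + ee (m + 2), m + 1) = 0 := by
  have hc : ∀ i, one3 i - ee m i = ee (m + 1) i + ee (m + 2) i := fun i => by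
    have := congrFun (one3_sub_ee m) i
    simpa only [Pi.sub_apply, Pi.add_apply] using this
  by_cases hp : (γ, m) ∈ P2 Λ α
  · have := congrFun hker ⟨(γ, m), hp⟩
    rw [Matrix.mulVecLin_apply, mulVec_M] at this
    exact this
  · have hnot : γ ∈ Λ → γ + (α + one3 - ee m) ∉ Λ := fun h1 h2 => hp (mem_P2.2 ⟨h1, h2⟩)
    have hA : ∀ j : Fin 3, (j = m + 1 ∨ j = m + 2) → (γ, j) ∉ P1 Λ α := by
      intro j hj hq
      have h1 := (mem_P1.1 hq).1
      have h2 := (mem_P1.1 hq).2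
      refine hnot h1 (below_mem hS hb (fun i => ?_))
      have h3 := hS.nonneg _ h2 i
      have := hc i
      have := ee_nonneg (m + 1) i
      have := ee_nonneg (m + 2) i
      simp only [Pi.add_apply, Pi.sub_apply] at h3 ⊢
      rcases hj with rfl | rfl <;> omega
    have hB : ∀ j j' : Fin 3, ((j = m + 1 ∧ j' = m + 2) ∨ (j = m + 2 ∧ j' = m + 1)) →
        (γ + ee j, j') ∉ P1 Λ α := by
      intro j j' hj hq
      have h1 := mem_of_add_ee hS h0 (mem_P1.1 hq).1
      have h2 := (mem_P1.1 hq).2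
      refine hnot h1 ?_
      have e : γ + (α + one3 - ee m) = γ + ee j + (α + ee j') := by
        funext i
        have := hc i
        simp only [Pi.add_apply, Pi.sub_apply]
        rcases hj with ⟨rfl, rfl⟩ | ⟨rfl, rfl⟩ <;> omega
      rw [e]; exact h2
    rw [ext1_not_mem Λ α Φ (hA _ (Or.inr rfl)), ext1_not_mem Λ α Φ (hA _ (Or.inl rfl)),
      ext1_not_mem Λ α Φ (hB _ _ (Or.inl ⟨rfl, rfl⟩)),
      ext1_not_mem Λ α Φ (hB _ _ (Or.inr ⟨rfl, rfl⟩))]
    ring

include hS hker in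
lemma ec' (γ : X) (a b : Fin 3) (hab : a ≠ b) (h0 : ∀ i, 0 ≤ γ i)
    (hb : Below Λ (γ + (α + (ee a + ee b)))) :
    ext1 Λ α Φ (γ, b) - ext1 Λ α Φ (γ + ee a, b) =
      ext1 Λ α Φ (γ, a) - ext1 Λ α Φ (γ + ee b, a) := by
  rcases f3_ne_cases a b hab with rfl | rfl
  · have h1 := one3_sub_ee (a + 2)
    rw [f3_21, f3_22] at h1
    have e : γ + (α + one3 - ee (a + 2)) = γ + (α + (ee a + ee (a + 1))) := by
      rw [show α + one3 - ee (a + 2) = α + (one3 - ee (a + 2)) by abel, h1]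
    have h := ec hS Φ hker γ (a + 2) h0 (e ▸ hb)
    rw [f3_21, f3_22] at h
    linear_combination h
  · have h1 := one3_sub_ee (a + 1)
    rw [f3_11, f3_12] at h1
    have e : γ + (α + one3 - ee (a + 1)) = γ + (α + (ee a + ee (a + 2))) := by
      rw [show α + one3 - ee (a + 1) = α + (one3 - ee (a + 1)) by abel, h1]; abel
    have h := ec hS Φ hker γ (a + 1) h0 (e ▸ hb)
    rw [f3_11, f3_12] at h
    linear_combination (-1 : k) * h

/-- the line sum -/
def Ssum (Φt : X × Fin 3 → k) (m₀ : Fin 3) (β : X) : k :=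
  ∑ s ∈ Finset.range (β m₀).toNat, Φt (Function.update β m₀ (s : ℤ), m₀)

/-- the integral of a cocycle -/
def Gint (Λ : Finset X) (α : X) (Φt : X × Fin 3 → k) (m₀ : Fin 3) (β : X) : k :=
  if (∀ i, 0 ≤ β i) ∧ β + α ∈ Λ then Ssum Φt m₀ β else 0

include hS in
lemma Ssum_eq_zero (m₀ : Fin 3) (β : X) (hneg : ∃ j, (β + α) j < 0) :
    Ssum (ext1 Λ α Φ) m₀ β = 0 := by
  unfold Ssum
  refine Finset.sum_eq_zero (fun s hs => ?_)
  apply ext1_not_mem
  intro hq
  obtain ⟨j, hj⟩ := hneg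
  have h2 := hS.nonneg _ (mem_P1.1 hq).2 j
  have hs' := Finset.mem_range.1 hs
  simp only [Pi.add_apply, Function.update_apply] at h2 hj
  by_cases hjm : j = m₀
  · subst hjm
    rw [if_pos rfl, ee_same] at h2
    omega
  · rw [if_neg hjm, ee_ne hjm] at h2
    omega

include hS in
lemma Gint_eq_Ssum (m₀ : Fin 3) (β : X) (hb : Below Λ (β + α)) :
    Gint Λ α (ext1 Λ α Φ) m₀ β = Ssum (ext1 Λ α Φ) m₀ β := by
  unfold Gint
  split_ifs with h
  · rfl
  · by_cases h1 : ∀ j, 0 ≤ (β + α) j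
    · by_cases h0 : ∀ i, 0 ≤ β i
      · exact absurd ⟨h0, below_mem hS hb h1⟩ h
      · push Not at h0
        obtain ⟨i, hi⟩ := h0
        unfold Ssum
        symm
        refine Finset.sum_eq_zero (fun s hs => ?_)
        apply ext1_not_mem
        intro hq
        have h2 := hS.nonneg _ (mem_P1.1 hq).1 i
        have hs' := Finset.mem_range.1 hs
        simp only [Function.update_apply] at h2
        by_cases him : i = m₀
        · subst him
          omega
        · rw [if_neg him] at h2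
          omega
    · push Not at h1
      exact (Ssum_eq_zero hS Φ m₀ β h1).symm

include hS hker in
lemma Gint_step (m₀ : Fin 3) (hm : α m₀ < 0) (γ : X) (l : Fin 3) (h0 : ∀ i, 0 ≤ γ i)
    (h : γ + (α + ee l) ∈ Λ) :
    Gint Λ α (ext1 Λ α Φ) m₀ (γ + ee l) - Gint Λ α (ext1 Λ α Φ) m₀ γ = ext1 Λ α Φ (γ, l) := by
  have e1 : γ + ee l + α = γ + (α + ee l) := by abel
  have hb1 : Below Λ (γ + ee l + α) := below_of_le h (fun i => by rw [e1])
  have hb2 : Below Λ (γ + α) := below_of_le h (fun i => by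
    have := ee_nonneg l i
    simp only [Pi.add_apply]; omega)
  rw [Gint_eq_Ssum hS Φ m₀ _ hb1, Gint_eq_Ssum hS Φ m₀ _ hb2]
  obtain ⟨n, hn⟩ := Int.eq_ofNat_of_zero_le (h0 m₀)
  by_cases hl : l = m₀
  · subst hl
    unfold Ssum
    have e2 : ((γ + ee l) l).toNat = n + 1 := by
      rw [Pi.add_apply, ee_same, hn]; omega
    have e3 : (γ l).toNat = n := by rw [hn]; omega
    rw [e2, e3, Finset.sum_range_succ]
    simp only [upd_add_ee_same]
    rw [upd_self γ l hn]
    ring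
  · unfold Ssum
    have e2 : ((γ + ee l) m₀).toNat = n := by
      rw [Pi.add_apply, ee_ne (Ne.symm hl), hn]; omega
    have e3 : (γ m₀).toNat = n := by rw [hn]; omega
    rw [e2, e3, ← Finset.sum_sub_distrib]
    have hterm : ∀ s ∈ Finset.range n,
        ext1 Λ α Φ (Function.update (γ + ee l) m₀ (s : ℤ), m₀)
          - ext1 Λ α Φ (Function.update γ m₀ (s : ℤ), m₀) =
        ext1 Λ α Φ (Function.update γ m₀ ((s + 1 : ℕ) : ℤ), l)
          - ext1 Λ α Φ (Function.update γ m₀ (s : ℤ), l) := by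
      intro s hs
      have hs' := Finset.mem_range.1 hs
      rw [upd_add_ee_ne γ m₀ hl]
      have hbel : Below Λ (Function.update γ m₀ (s : ℤ) + (α + (ee l + ee m₀))) :=
        below_of_le h (fun i => by
          simp only [Pi.add_apply, Function.update_apply]
          by_cases him : i = m₀
          · subst him
            rw [if_pos rfl, ee_same, ee_ne (Ne.symm hl)]
            omega
          · rw [if_neg him, ee_ne him]
            omega)
      have := ec' hS Φ hker (Function.update γ m₀ (s : ℤ)) l m₀ hl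
        (upd_nonneg γ m₀ (Int.natCast_nonneg s) h0) hbel
      rw [upd_succ] at this
      push_cast
      linear_combination (-1 : k) * this
    rw [Finset.sum_congr rfl hterm,
      Finset.sum_range_sub (fun s => ext1 Λ α Φ (Function.update γ m₀ ((s : ℕ) : ℤ), l)) n]
    rw [upd_self γ m₀ hn]
    have hz : ext1 Λ α Φ (Function.update γ m₀ ((0 : ℕ) : ℤ), l) = 0 := by
      apply ext1_not_mem
      intro hq
      have h2 := hS.nonneg _ (mem_P1.1 hq).2 m₀
      simp only [Pi.add_apply, Function.update_self] at h2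
      rw [ee_ne (Ne.symm hl)] at h2
      push_cast at h2
      omega
    rw [hz, sub_zero]

include hS hker in
lemma theta_surj (m₀ : Fin 3) (hm : α m₀ < 0) : ∃ x, Theta (k := k) Λ α x = Φ := by
  classical
  set G := Gint Λ α (ext1 Λ α Φ) m₀ with hG
  have hGsupp : ∀ β, ¬ ((∀ i, 0 ≤ β i) ∧ β + α ∈ Λ) → G β = 0 := by
    intro β h
    rw [hG]; unfold Gint; rw [if_neg h]
  let ψ : X → k := fun β => if β ∈ Λ then 0 else G β
  let F : X → k := fun β => if β ∈ Λ then G β else 0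
  have hψ : ψ ∈ TF (k := k) Λ α := by
    refine ⟨fun β hβ => ?_, fun β l h0 hn h => ?_⟩
    · show (if β ∈ Λ then 0 else G β) = 0
      split_ifs with h1
      · rfl
      · exact hGsupp β (fun hh => hβ (mem_U0.2 ⟨hh.1, h1, hh.2⟩))
    · have hn' : β + ee l ∉ Λ := fun hh => hn (mem_of_add_ee hS h0 hh)
      show (if β + ee l ∈ Λ then 0 else G (β + ee l)) = if β ∈ Λ then 0 else G β
      rw [if_neg hn', if_neg hn]
      have := Gint_step hS Φ hker m₀ hm β l h0 h
      rw [ext1_not_mem Λ α Φ (fun hq => hn (mem_P1.1 hq).1)] at this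
      exact sub_eq_zero.1 this
  have hF : F ∈ SuppIn (k := k) (P0 Λ α) := by
    intro β hβ
    show (if β ∈ Λ then G β else 0) = 0
    split_ifs with h1
    · exact hGsupp β (fun hh => hβ (mem_P0.2 ⟨h1, hh.2⟩))
    · rfl
  refine ⟨(⟨ψ, hψ⟩, ⟨F, hF⟩), ?_⟩
  funext q
  have hsum : ∀ β, ψ β + F β = G β := by
    intro β
    show (if β ∈ Λ then 0 else G β) + (if β ∈ Λ then G β else 0) = G β
    split_ifs <;> simp
  show (ψ (q.1.1 + ee q.1.2) + F (q.1.1 + ee q.1.2)) - (ψ q.1.1 + F q.1.1) = Φ q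
  rw [hsum, hsum]
  have hq := mem_P1.1 q.2
  rw [Gint_step hS Φ hker m₀ hm q.1.1 q.1.2 (hS.nonneg _ hq.1) hq.2, ext1_mem Λ α Φ q.2]

end Integrate

/-- the dimension formula for the function model of `T_α` -/
theorem finrank_TF (hS : IsStair Λ) (α : X) (m₀ : Fin 3) (hm : α m₀ < 0) :
    Module.finrank k ↥(TF (k := k) Λ α) + (P0 Λ α).card + (M Λ α : Matrix _ _ k).rank =
      (P1 Λ α).card := by
  have hmem : ∀ x, Theta (k := k) Λ α x ∈ LinearMap.ker (M Λ α : Matrix _ _ k).mulVecLin :=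
    fun x => LinearMap.mem_ker.2 (theta_mem_ker hS x)
  let T' := (Theta (k := k) Λ α).codRestrict _ hmem
  have hinj : Function.Injective T' := by
    intro x y hxy
    apply theta_inj (k := k) hS m₀ hm
    exact congrArg Subtype.val hxy
  have hsurj : Function.Surjective T' := by
    intro Φ
    obtain ⟨x, hx⟩ := theta_surj hS Φ.1 (LinearMap.mem_ker.1 Φ.2) m₀ hm
    exact ⟨x, Subtype.ext hx⟩
  have e := (LinearEquiv.ofBijective T' ⟨hinj, hsurj⟩).finrank_eq
  rw [Module.finrank_prod, finrank_suppIn] at e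
  have h2 := finrank_ker_M (k := k) Λ α
  omega

end Groth.Agent.H4.HdInt
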