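import Mathlib
import Groth.Prelude.Def_W4c1hilbpnTgt

set_option autoImplicit false
universe u
open W4c1hilbpn MvPolynomial

noncomputable section
namespace Groth.Agent.H4.TgtDec

variable {k : Type u} [Field k] {n : ℕ}

section Basic
variable (I : Ideal (MvPolynomial (Fin n) k))

lemma mk_smul' (c : k) (p : MvPolynomial (Fin n) k) :
    c • Ideal.Quotient.mk I p = Ideal.Quotient.mk I (c • p) := rfl

lemma smul_eq_mk_mul (q : MvPolynomial (Fin n) k) (y : MvPolynomial (Fin n) k ⧸ I) :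
    q • y = Ideal.Quotient.mk I q * y := by
  obtain ⟨p, rfl⟩ := Ideal.Quotient.mk_surjective y
  rfl

variable {I}

lemma smul_mono_mem {c : k} (hc : c ≠ 0) {β : Fin n →₀ ℕ} (h : monomial β c ∈ I) :
    monomial β (1 : k) ∈ I := by
  have := I.mul_mem_left (C c⁻¹) h
  rwa [C_mul_monomial, inv_mul_cancel₀ hc] at this

lemma mono_add_mem {β : Fin n →₀ ℕ} (μ : Fin n →₀ ℕ) (h : monomial β (1 : k) ∈ I) :
    monomial (μ + β) (1 : k) ∈ I := by
  have := I.mul_mem_left (monomial μ 1) h
  rwa [monomial_mul, one_mul] at this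

lemma mono_of_le {β γ : Fin n →₀ ℕ} (hle : β ≤ γ) (h : monomial β (1 : k) ∈ I) :
    monomial γ (1 : k) ∈ I := by
  have := mono_add_mem (γ - β) h
  rwa [tsub_add_cancel_of_le hle] at this

lemma coeff_eq_zero_of_mem (hI : IsMonomial I) {p : MvPolynomial (Fin n) k} (hp : p ∈ I)
    {δ : Fin n →₀ ℕ} (hδ : monomial δ (1 : k) ∉ I) : coeff δ p = 0 := by
  by_contra h
  exact hδ (hI p hp δ (mem_support_iff.2 h))

lemma coeff_congr (hI : IsMonomial I) {p q : MvPolynomial (Fin n) k}
    (h : Ideal.Quotient.mk I p = Ideal.Quotient.mk I q)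
    {δ : Fin n →₀ ℕ} (hδ : monomial δ (1 : k) ∉ I) : coeff δ p = coeff δ q := by
  have h1 : p - q ∈ I := Ideal.Quotient.eq.1 h
  have h2 := coeff_eq_zero_of_mem hI h1 hδ
  rw [coeff_sub] at h2
  exact sub_eq_zero.1 h2

lemma mk_eq_of_coeff {p q : MvPolynomial (Fin n) k}
    (h : ∀ δ, monomial δ (1 : k) ∉ I → coeff δ p = coeff δ q) :
    Ideal.Quotient.mk I p = Ideal.Quotient.mk I q := by
  rw [Ideal.Quotient.eq, ← support_sum_monomial_coeff (p - q)]
  refine Ideal.sum_mem _ (fun δ hδ => ?_)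
  by_cases hm : monomial δ (1 : k) ∈ I
  · have := I.mul_mem_left (C (coeff δ (p - q))) hm
    rwa [C_mul_monomial, mul_one] at this
  · have := h δ hm
    rw [mem_support_iff, coeff_sub, this, sub_self] at hδ
    exact absurd rfl hδ

/-- chosen representative -/
def rep (y : MvPolynomial (Fin n) k ⧸ I) : MvPolynomial (Fin n) k :=
  Classical.choose (Ideal.Quotient.mk_surjective y)

lemma mk_rep (y : MvPolynomial (Fin n) k ⧸ I) : Ideal.Quotient.mk I (rep y) = y :=
  Classical.choose_spec (Ideal.Quotient.mk_surjective y)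

lemma ext_mono (hI : IsMonomial I) (φ ψ : Tgt I)
    (h : ∀ β (hβ : monomial β (1 : k) ∈ I), φ ⟨monomial β 1, hβ⟩ = ψ ⟨monomial β 1, hβ⟩) :
    φ = ψ := by
  refine LinearMap.ext (fun x => ?_)
  obtain ⟨p, hp⟩ := x
  have key : (⟨p, hp⟩ : ↥I) = ∑ β ∈ p.support.attach,
      (C (coeff β.1 p) : MvPolynomial (Fin n) k) • (⟨monomial β.1 1, hI p hp β.1 β.2⟩ : ↥I) := by
    apply Subtype.ext
    rw [Submodule.coe_sum]
    simp only [Submodule.coe_smul, smul_eq_mul, C_mul_monomial, mul_one]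
    rw [Finset.sum_attach p.support (fun β => monomial β (coeff β p))]
    exact (support_sum_monomial_coeff p).symm
  rw [key, map_sum, map_sum]
  refine Finset.sum_congr rfl (fun β _ => ?_)
  rw [map_smul, map_smul, h]

lemma lin_ext (hI : IsMonomial I) (L1 L2 : MvPolynomial (Fin n) k →ₗ[k] (MvPolynomial (Fin n) k ⧸ I))
    (h : ∀ β, monomial β (1 : k) ∈ I → L1 (monomial β 1) = L2 (monomial β 1)) :
    ∀ p ∈ I, L1 p = L2 p := by
  intro p hp
  rw [← support_sum_monomial_coeff p, map_sum, map_sum]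
  refine Finset.sum_congr rfl (fun β hβ => ?_)
  have hm := hI p hp β hβ
  rw [show monomial β (coeff β p) = coeff β p • monomial β (1 : k) by
    rw [smul_monomial, smul_eq_mul, mul_one], map_smul, map_smul, h β hm]

lemma exists_pow_mem (hI : IsMonomial I) [Module.Finite k (MvPolynomial (Fin n) k ⧸ I)]
    (i : Fin n) : ∃ N, monomial (Finsupp.single i N) (1 : k) ∈ I := by
  by_contra hcon
  push Not at hcon
  have hli : LinearIndependent k
      (fun N : ℕ => Ideal.Quotient.mk I (monomial (Finsupp.single i N) (1 : k))) := by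
    rw [linearIndependent_iff']
    intro s g hsum N0 hN0
    by_contra hg
    have h1 : (∑ N ∈ s, monomial (Finsupp.single i N) (g N) : MvPolynomial (Fin n) k) ∈ I := by
      rw [← Ideal.Quotient.eq_zero_iff_mem, map_sum, ← hsum]
      refine Finset.sum_congr rfl (fun N _ => ?_)
      rw [mk_smul', smul_monomial, smul_eq_mul, mul_one]
    have h2 : coeff (Finsupp.single i N0) (∑ N ∈ s, monomial (Finsupp.single i N) (g N) :
        MvPolynomial (Fin n) k) = g N0 := by
      classical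
      rw [coeff_sum, Finset.sum_eq_single N0]
      · rw [coeff_monomial, if_pos rfl]
      · intro N _ hne
        rw [coeff_monomial, if_neg]
        intro e
        exact hne (Finsupp.single_injective i e)
      · intro h; exact absurd hN0 h
    exact hcon N0 (hI _ h1 _ (mem_support_iff.2 (by rw [h2]; exact hg)))
  haveI : Finite ℕ := hli.finite_of_isNoetherian
  exact not_finite ℕ

end Basic


section Vanish
variable {I : Ideal (MvPolynomial (Fin n) k)}

lemma shift_apply (β : Fin n →₀ ℕ) (α : Fin n → ℤ) (i : Fin n) :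
    shift β α i = ((β i : ℤ) + α i).toNat := rfl

lemma tPiece_nonneg (hI : IsMonomial I) (α : Fin n → ℤ) (hα : ∀ i, 0 ≤ α i) :
    tPiece I α = ⊥ := by
  rw [Submodule.eq_bot_iff]
  intro φ hφ
  refine ext_mono hI φ 0 (fun β hβ => ?_)
  have h1 := (hφ β hβ).1 (fun i => by have := hα i; omega)
  have hle : β ≤ shift β α := by
    refine Finsupp.le_def.2 (fun i => ?_)
    rw [shift_apply]
    have := hα i
    omega
  have hmem : monomial (shift β α) (1 : k) ∈ I := mono_of_le hle hβ
  rw [Ideal.Quotient.eq_zero_iff_mem.2 hmem] at h1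
  simpa using h1

lemma tPiece_neg (hI : IsMonomial I) [Module.Finite k (MvPolynomial (Fin n) k ⧸ I)] (hn : 2 ≤ n)
    (α : Fin n → ℤ) (hα : ∀ i, α i < 0) : tPiece I α = ⊥ := by
  classical
  rw [Submodule.eq_bot_iff]
  intro φ hφ
  let i1 : Fin n := ⟨0, by omega⟩
  let i2 : Fin n := ⟨1, by omega⟩
  have h12 : i1 ≠ i2 := by
    intro e
    have := congrArg Fin.val e
    simp [i1, i2] at this
  obtain ⟨N, hN⟩ := exists_pow_mem hI i2
  have key : ∀ b : ℕ, ∀ β : Fin n →₀ ℕ, β i1 = b → ∀ hβ : monomial β (1 : k) ∈ I,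
      φ ⟨monomial β 1, hβ⟩ = 0 := by
    intro b
    induction b using Nat.strong_induction_on with
    | _ b ih =>
    intro β hb hβ
    by_cases hneg : ∃ i, (β i : ℤ) + α i < 0
    · exact (hφ β hβ).2 hneg
    push Not at hneg
    obtain ⟨c, hc⟩ := Submodule.mem_span_singleton.1 ((hφ β hβ).1 hneg)
    have hγ : ∀ i, ((shift β α i : ℕ) : ℤ) = (β i : ℤ) + α i := fun i => by
      rw [shift_apply]; exact Int.toNat_of_nonneg (hneg i)
    have hb1 : 1 ≤ β i1 := by
      have := hneg i1
      have := hα i1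
      omega
    obtain ⟨β', hββ'⟩ : ∃ β' : Fin n →₀ ℕ, β = Finsupp.single i1 1 + β' :=
      ⟨β - Finsupp.single i1 1, by
        rw [add_tsub_cancel_of_le]
        exact Finsupp.single_le_iff.2 hb1⟩
    have hβ'1 : β' i1 + 1 = β i1 := by
      rw [hββ', Finsupp.add_apply, Finsupp.single_eq_same]; omega
    have hβ'o : ∀ i, i1 ≠ i → β' i = β i := by
      intro i hi
      rw [hββ', Finsupp.add_apply, Finsupp.single_apply, if_neg hi, zero_add]
    have hex : ∃ t, monomial (β' + Finsupp.single i2 t) (1 : k) ∈ I :=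
      ⟨N, mono_of_le le_add_self hN⟩
    obtain ⟨t, ht, hmin⟩ : ∃ t, monomial (β' + Finsupp.single i2 t) (1 : k) ∈ I ∧
        ∀ s < t, monomial (β' + Finsupp.single i2 s) (1 : k) ∉ I :=
      ⟨Nat.find hex, Nat.find_spec hex, fun s hs => Nat.find_min hex hs⟩
    cases t with
    | zero =>
      rw [Finsupp.single_zero, add_zero] at ht
      have IH := ih (β' i1) (by omega) β' rfl ht
      have e : (⟨monomial β 1, hβ⟩ : ↥I) =
          (monomial (Finsupp.single i1 1) (1 : k) : MvPolynomial (Fin n) k) •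
            (⟨monomial β' 1, ht⟩ : ↥I) := by
        apply Subtype.ext
        rw [Submodule.coe_smul, smul_eq_mul, monomial_mul, one_mul, ← hββ']
      rw [e, map_smul, IH, smul_zero]
    | succ t' =>
      have hν1 : (β' + Finsupp.single i2 (t' + 1)) i1 = β' i1 := by
        rw [Finsupp.add_apply, Finsupp.single_apply, if_neg (Ne.symm h12), add_zero]
      have IH := ih ((β' + Finsupp.single i2 (t' + 1)) i1) (by omega) _ rfl ht
      have hrel : (monomial (Finsupp.single i1 1) (1 : k) : MvPolynomial (Fin n) k) •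
            (⟨monomial (β' + Finsupp.single i2 (t' + 1)) 1, ht⟩ : ↥I) =
          (monomial (Finsupp.single i2 (t' + 1)) (1 : k) : MvPolynomial (Fin n) k) •
            (⟨monomial β 1, hβ⟩ : ↥I) := by
        apply Subtype.ext
        rw [Submodule.coe_smul, Submodule.coe_smul, smul_eq_mul, smul_eq_mul, monomial_mul,
          monomial_mul, one_mul]
        congr 1
        rw [hββ']
        abel
      have h3 := congrArg φ hrel
      rw [map_smul, map_smul, IH, smul_zero, ← hc, mk_smul', smul_monomial, smul_eq_mul, mul_one,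
        smul_eq_mk_mul, ← map_mul, monomial_mul, one_mul] at h3
      have hmem : monomial (Finsupp.single i2 (t' + 1) + shift β α) c ∈ I :=
        Ideal.Quotient.eq_zero_iff_mem.1 h3.symm
      by_cases hc0 : c = 0
      · rw [← hc, hc0, zero_smul]
      · exfalso
        have hle : Finsupp.single i2 (t' + 1) + shift β α ≤ β' + Finsupp.single i2 t' := by
          refine Finsupp.le_def.2 (fun i => ?_)
          have h1 := hγ i
          have h2 := hα i
          simp only [Finsupp.add_apply, Finsupp.single_apply]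
          by_cases hi2 : i2 = i
          · have hi1 : i1 ≠ i := fun e => h12 (e.trans hi2.symm)
            have := hβ'o i hi1
            simp only [if_pos hi2]
            omega
          · simp only [if_neg hi2]
            by_cases hi1 : i1 = i
            · subst hi1
              omega
            · have := hβ'o i hi1
              omega
        exact hmin t' (Nat.lt_succ_self t') (mono_of_le hle (smul_mono_mem hc0 hmem))
  refine ext_mono hI φ 0 (fun β hβ => ?_)
  rw [key (β i1) β rfl hβ]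
  rfl

end Vanish


section Decomp
variable {I : Ideal (MvPolynomial (Fin n) k)}

lemma mono_smul_mem {γ : Fin n →₀ ℕ} (h : monomial γ (1 : k) ∈ I) (c : k) :
    monomial γ c ∈ I := by
  have := I.mul_mem_left (C c) h
  rwa [C_mul_monomial, mul_one] at this

open Classical in
/-- polynomial-level `α`-component of the value of `φ` on `x^β` -/
def g (φ : Tgt I) (α : Fin n → ℤ) (β : Fin n →₀ ℕ) : MvPolynomial (Fin n) k :=
  if h : monomial β (1 : k) ∈ I then
    (if ∀ i, 0 ≤ (β i : ℤ) + α i then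
      monomial (shift β α) (coeff (shift β α) (rep (φ ⟨monomial β 1, h⟩)))
    else 0)
  else 0

def G (φ : Tgt I) (α : Fin n → ℤ) (β : Fin n →₀ ℕ) : MvPolynomial (Fin n) k ⧸ I :=
  Ideal.Quotient.mk I (g φ α β)

def Phi (φ : Tgt I) (α : Fin n → ℤ) :
    MvPolynomial (Fin n) k →ₗ[k] (MvPolynomial (Fin n) k ⧸ I) :=
  (basisMonomials (Fin n) k).constr ℕ (G φ α)

lemma Phi_monomial (φ : Tgt I) (α : Fin n → ℤ) (β : Fin n →₀ ℕ) :
    Phi φ α (monomial β 1) = G φ α β := by
  have := (basisMonomials (Fin n) k).constr_basis ℕ (G φ α) β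
  simpa [Phi, coe_basisMonomials] using this

lemma G_add (hI : IsMonomial I) (φ : Tgt I) (α : Fin n → ℤ) (μ β : Fin n →₀ ℕ)
    (hβ : monomial β (1 : k) ∈ I) :
    G φ α (μ + β) = Ideal.Quotient.mk I (monomial μ 1) * G φ α β := by
  have hμβ : monomial (μ + β) (1 : k) ∈ I := mono_add_mem μ hβ
  have hφ : φ ⟨monomial (μ + β) 1, hμβ⟩ =
      Ideal.Quotient.mk I (monomial μ 1) * φ ⟨monomial β 1, hβ⟩ := by
    have e : (⟨monomial (μ + β) 1, hμβ⟩ : ↥I) =
        (monomial μ (1 : k) : MvPolynomial (Fin n) k) • (⟨monomial β 1, hβ⟩ : ↥I) := by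
      apply Subtype.ext
      rw [Submodule.coe_smul, smul_eq_mul, monomial_mul, one_mul]
    rw [e, map_smul, smul_eq_mk_mul]
  have hrep : Ideal.Quotient.mk I (rep (φ ⟨monomial (μ + β) 1, hμβ⟩)) =
      Ideal.Quotient.mk I (monomial μ 1 * rep (φ ⟨monomial β 1, hβ⟩)) := by
    rw [mk_rep, map_mul, mk_rep, hφ]
  unfold G g
  rw [dif_pos hμβ, dif_pos hβ]
  by_cases h0 : ∀ i, 0 ≤ (β i : ℤ) + α i
  · have h0' : ∀ i, 0 ≤ ((μ + β) i : ℤ) + α i := fun i => by
      have := h0 i
      rw [Finsupp.add_apply]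
      push_cast
      omega
    rw [if_pos h0, if_pos h0', ← map_mul, monomial_mul, one_mul]
    have hsh : shift (μ + β) α = μ + shift β α := by
      ext i
      simp only [shift_apply, Finsupp.add_apply]
      have := h0 i
      push_cast
      omega
    rw [hsh]
    by_cases hm : monomial (μ + shift β α) (1 : k) ∈ I
    · rw [Ideal.Quotient.eq_zero_iff_mem.2 (mono_smul_mem hm _),
        Ideal.Quotient.eq_zero_iff_mem.2 (mono_smul_mem hm _)]
    · have hc := coeff_congr hI hrep hm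
      rw [coeff_monomial_mul, one_mul] at hc
      rw [hc]
  · rw [if_neg h0, map_zero, mul_zero]
    by_cases h0' : ∀ i, 0 ≤ ((μ + β) i : ℤ) + α i
    · rw [if_pos h0']
      by_cases hm : monomial (shift (μ + β) α) (1 : k) ∈ I
      · exact Ideal.Quotient.eq_zero_iff_mem.2 (mono_smul_mem hm _)
      · have hc := coeff_congr hI hrep hm
        rw [coeff_monomial_mul', if_neg] at hc
        · rw [hc, monomial_zero, map_zero]
        · intro hle
          apply h0
          intro i
          have h1 := Finsupp.le_def.1 hle i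
          rw [shift_apply, Finsupp.add_apply] at h1
          have h2 := h0' i
          rw [Finsupp.add_apply] at h2
          have h3 := Int.toNat_of_nonneg h2
          push_cast at h2 h3
          omega
    · rw [if_neg h0', map_zero]

lemma Phi_mono_mul (hI : IsMonomial I) (φ : Tgt I) (α : Fin n → ℤ) (μ : Fin n →₀ ℕ) :
    ∀ p ∈ I, Phi φ α (monomial μ 1 * p) = Ideal.Quotient.mk I (monomial μ 1) * Phi φ α p := by
  have := lin_ext hI ((Phi φ α).comp (LinearMap.mulLeft k (monomial μ (1 : k))))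
    ((LinearMap.mulLeft k (Ideal.Quotient.mk I (monomial μ (1 : k)))).comp (Phi φ α)) ?_
  · exact this
  · intro β hβ
    simp only [LinearMap.comp_apply, LinearMap.mulLeft_apply, monomial_mul, one_mul, Phi_monomial]
    exact G_add hI φ α μ β hβ

lemma Phi_mul (hI : IsMonomial I) (φ : Tgt I) (α : Fin n → ℤ) (q : MvPolynomial (Fin n) k) :
    ∀ p ∈ I, Phi φ α (q * p) = Ideal.Quotient.mk I q * Phi φ α p := by
  intro p hp
  induction q using MvPolynomial.induction_on' with
  | monomial μ a =>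
    rw [show monomial μ a = a • monomial μ (1 : k) by rw [smul_monomial, smul_eq_mul, mul_one],
      smul_mul_assoc, map_smul, Phi_mono_mul hI φ α μ p hp, ← mk_smul', smul_mul_assoc]
  | add q1 q2 h1 h2 => rw [add_mul, map_add, h1, h2, map_add, add_mul]

/-- the `α`-component of `φ` -/
def comp (hI : IsMonomial I) (φ : Tgt I) (α : Fin n → ℤ) : Tgt I where
  toFun p := Phi φ α p.1
  map_add' p q := by rw [Submodule.coe_add, map_add]
  map_smul' q p := by
    rw [Submodule.coe_smul, smul_eq_mul, Phi_mul hI φ α q p.1 p.2, RingHom.id_apply,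
      smul_eq_mk_mul]

lemma comp_monomial (hI : IsMonomial I) (φ : Tgt I) (α : Fin n → ℤ) (β : Fin n →₀ ℕ)
    (hβ : monomial β (1 : k) ∈ I) : comp hI φ α ⟨monomial β 1, hβ⟩ = G φ α β :=
  Phi_monomial φ α β

lemma comp_mem (hI : IsMonomial I) (φ : Tgt I) (α : Fin n → ℤ) : comp hI φ α ∈ tPiece I α := by
  intro β hβ
  rw [comp_monomial]
  unfold G g
  rw [dif_pos hβ]
  refine ⟨fun h => ?_, fun h => ?_⟩
  · rw [if_pos h]
    exact Submodule.mem_span_singleton.2 ⟨_, by rw [mk_smul', smul_monomial, smul_eq_mul, mul_one]⟩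
  · rw [if_neg, map_zero]
    intro hall
    obtain ⟨i, hi⟩ := h
    exact absurd (hall i) (not_le.2 hi)

end Decomp


section Final
variable {I : Ideal (MvPolynomial (Fin n) k)}

lemma exists_bound (hI : IsMonomial I) [Module.Finite k (MvPolynomial (Fin n) k ⧸ I)] :
    ∃ N, ∀ i : Fin n, monomial (Finsupp.single i N) (1 : k) ∈ I := by
  choose f hf using exists_pow_mem hI (I := I)
  refine ⟨Finset.univ.sup f, fun i => mono_of_le (Finsupp.single_le_iff.2 ?_) (hf i)⟩
  rw [Finsupp.single_eq_same]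
  exact Finset.le_sup (Finset.mem_univ i)

/-- the constant vector `N` -/
def bN (n N : ℕ) : Fin n →₀ ℕ := Finsupp.equivFunOnFinite.symm (fun _ => N)

lemma bN_apply (N : ℕ) (i : Fin n) : bN n N i = N := rfl

lemma std_in_box {N : ℕ} (hN : ∀ i : Fin n, monomial (Finsupp.single i N) (1 : k) ∈ I)
    (δ : Fin n →₀ ℕ) (hδ : monomial δ (1 : k) ∉ I) : δ ≤ bN n N := by
  refine Finsupp.le_def.2 (fun i => ?_)
  rw [bN_apply]
  by_contra hlt
  push Not at hlt
  exact hδ (mono_of_le (Finsupp.single_le_iff.2 hlt.le) (hN i))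

lemma gen_in_box {N : ℕ} (hN : ∀ i : Fin n, monomial (Finsupp.single i N) (1 : k) ∈ I)
    (γ : Fin n →₀ ℕ) (hγ : monomial γ (1 : k) ∈ I) :
    ∃ β : Fin n →₀ ℕ, β ≤ γ ∧ β ≤ bN n N ∧ monomial β (1 : k) ∈ I := by
  refine ⟨Finsupp.equivFunOnFinite.symm (fun i => min (γ i) N),
    Finsupp.le_def.2 (fun i => min_le_left _ _), Finsupp.le_def.2 (fun i => min_le_right _ _), ?_⟩
  by_cases h : ∃ i, N ≤ γ i
  · obtain ⟨i, hi⟩ := h
    refine mono_of_le (Finsupp.single_le_iff.2 ?_) (hN i)
    show N ≤ min (γ i) N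
    exact le_min hi le_rfl
  · push Not at h
    have : (Finsupp.equivFunOnFinite.symm (fun i => min (γ i) N) : Fin n →₀ ℕ) = γ := by
      ext i
      show min (γ i) N = γ i
      exact min_eq_left (h i).le
    rw [this]
    exact hγ

lemma ext_gen (hI : IsMonomial I) {N : ℕ}
    (hN : ∀ i : Fin n, monomial (Finsupp.single i N) (1 : k) ∈ I) (φ ψ : Tgt I)
    (h : ∀ β, β ≤ bN n N → ∀ hβ : monomial β (1 : k) ∈ I,
      φ ⟨monomial β 1, hβ⟩ = ψ ⟨monomial β 1, hβ⟩) : φ = ψ := by
  refine ext_mono hI φ ψ (fun γ hγ => ?_)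
  obtain ⟨β, hβγ, hβbox, hβ⟩ := gen_in_box hN γ hγ
  have e : (⟨monomial γ 1, hγ⟩ : ↥I) =
      (monomial (γ - β) (1 : k) : MvPolynomial (Fin n) k) • (⟨monomial β 1, hβ⟩ : ↥I) := by
    apply Subtype.ext
    rw [Submodule.coe_smul, smul_eq_mul, monomial_mul, one_mul, tsub_add_cancel_of_le hβγ]
  rw [e, map_smul, map_smul, h β hβbox hβ]

/-- the finite set of multidegrees -/
def AA (n N : ℕ) : Finset (Fin n → ℤ) :=
  ((Finset.Iic (bN n N)) ×ˢ (Finset.Iic (bN n N))).image
    (fun q => fun i => ((q.1 i : ℕ) : ℤ) - ((q.2 i : ℕ) : ℤ))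

lemma sum_comp (hI : IsMonomial I) (φ : Tgt I) {N : ℕ}
    (hN : ∀ i : Fin n, monomial (Finsupp.single i N) (1 : k) ∈ I) :
    φ = ∑ α ∈ AA n N, comp hI φ α := by
  classical
  refine ext_gen hI hN φ _ (fun β hβbox hβ => ?_)
  rw [LinearMap.sum_apply]
  simp only [comp_monomial]
  unfold G
  rw [← map_sum, ← mk_rep (φ ⟨monomial β 1, hβ⟩)]
  apply mk_eq_of_coeff
  intro δ hδ
  rw [coeff_sum]
  have hδbox := std_in_box hN δ hδ
  have hmem : (fun i => ((δ i : ℕ) : ℤ) - ((β i : ℕ) : ℤ)) ∈ AA n N :=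
    Finset.mem_image.2 ⟨(δ, β), Finset.mem_product.2
      ⟨Finset.mem_Iic.2 hδbox, Finset.mem_Iic.2 hβbox⟩, rfl⟩
  rw [Finset.sum_eq_single (fun i => ((δ i : ℕ) : ℤ) - ((β i : ℕ) : ℤ))]
  · have h0 : ∀ i, 0 ≤ ((β i : ℕ) : ℤ) + (((δ i : ℕ) : ℤ) - ((β i : ℕ) : ℤ)) := fun i => by omega
    have hsh : shift β (fun i => ((δ i : ℕ) : ℤ) - ((β i : ℕ) : ℤ)) = δ := by
      ext i
      rw [shift_apply]
      omega
    unfold g
    rw [dif_pos hβ, if_pos h0, hsh, coeff_monomial, if_pos rfl]
  · intro α _ hne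
    unfold g
    rw [dif_pos hβ]
    by_cases h0 : ∀ i, 0 ≤ ((β i : ℕ) : ℤ) + α i
    · rw [if_pos h0, coeff_monomial, if_neg]
      intro hsh
      apply hne
      funext i
      have h1 := h0 i
      have h2 : shift β α i = δ i := by rw [hsh]
      rw [shift_apply] at h2
      omega
    · rw [if_neg h0, coeff_zero]
  · intro h
    exact absurd hmem h

theorem main (k : Type u) [Field k] [Infinite k]
    (n : ℕ) (hn : 2 ≤ n) (I : Ideal (MvPolynomial (Fin n) k)) (hI : IsMonomial I)
    [Module.Finite k (MvPolynomial (Fin n) k ⧸ I)] :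
    (∀ α : Fin n → ℤ, ((∀ i, 0 ≤ α i) ∨ (∀ i, α i < 0)) → tPiece I α = ⊥) ∧
      (⨆ N : {N : Set (Fin n) // N.Nonempty ∧ N ≠ Set.univ}, sigPiece I N.1) = ⊤ := by
  have h1 : ∀ α : Fin n → ℤ, ((∀ i, 0 ≤ α i) ∨ (∀ i, α i < 0)) → tPiece I α = ⊥ := by
    rintro α (h | h)
    · exact tPiece_nonneg hI α h
    · exact tPiece_neg hI hn α h
  refine ⟨h1, eq_top_iff.2 (fun φ _ => ?_)⟩
  obtain ⟨N, hN⟩ := exists_bound hI
  rw [sum_comp hI φ hN]
  refine Submodule.sum_mem _ (fun α _ => ?_)
  have hmem := comp_mem hI φ α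
  by_cases hs : (∀ i, 0 ≤ α i) ∨ (∀ i, α i < 0)
  · rw [h1 α hs, Submodule.mem_bot] at hmem
    rw [hmem]
    exact Submodule.zero_mem _
  · push Not at hs
    obtain ⟨⟨i, hi⟩, ⟨j, hj⟩⟩ := hs
    have hNe : ({i | α i < 0} : Set (Fin n)).Nonempty ∧ {i | α i < 0} ≠ Set.univ :=
      ⟨⟨i, hi⟩, fun e => by
        have : j ∈ {i | α i < 0} := e ▸ Set.mem_univ j
        exact absurd this (not_lt.2 hj)⟩
    refine Submodule.mem_iSup_of_mem ⟨_, hNe⟩ ?_
    show comp hI φ α ∈ sigPiece I {i | α i < 0}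
    unfold sigPiece
    exact Submodule.mem_iSup_of_mem ⟨α, fun i => Iff.rfl⟩ hmem

end Final

end Groth.Agent.H4.TgtDec
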