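import Mathlib
import Groth.Prelude.Def_W4c1hilbpnTgt
import Groth.Agent.H4.TgtDec

set_option autoImplicit false
universe u
open W4c1hilbpn MvPolynomial
open Groth.Agent.H4.TgtDec

noncomputable section
namespace Groth.Agent.H4.TgtSS

variable {k : Type u} [Field k] {n : ℕ} {I : Ideal (MvPolynomial (Fin n) k)}

/-- build an element of `T(I)` from its values on the monomials of `I` -/
theorem exists_tgt (hI : IsMonomial I) (G : (Fin n →₀ ℕ) → MvPolynomial (Fin n) k ⧸ I)
    (hG : ∀ μ β, monomial β (1 : k) ∈ I →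
      G (μ + β) = Ideal.Quotient.mk I (monomial μ 1) * G β) :
    ∃ φ : Tgt I, ∀ β (hβ : monomial β (1 : k) ∈ I), φ ⟨monomial β 1, hβ⟩ = G β := by
  set Ψ : MvPolynomial (Fin n) k →ₗ[k] (MvPolynomial (Fin n) k ⧸ I) :=
    (basisMonomials (Fin n) k).constr ℕ G with hΨ
  have Ψmono : ∀ β, Ψ (monomial β 1) = G β := by
    intro β
    have := (basisMonomials (Fin n) k).constr_basis ℕ G β
    simpa [hΨ, coe_basisMonomials] using this
  have Ψmm : ∀ μ, ∀ p ∈ I, Ψ (monomial μ 1 * p) = Ideal.Quotient.mk I (monomial μ 1) * Ψ p := by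
    intro μ
    have := lin_ext hI (Ψ.comp (LinearMap.mulLeft k (monomial μ (1 : k))))
      ((LinearMap.mulLeft k (Ideal.Quotient.mk I (monomial μ (1 : k)))).comp Ψ) ?_
    · exact this
    · intro β hβ
      simp only [LinearMap.comp_apply, LinearMap.mulLeft_apply, monomial_mul, one_mul, Ψmono]
      exact hG μ β hβ
  have Ψmul : ∀ q : MvPolynomial (Fin n) k, ∀ p ∈ I, Ψ (q * p) = Ideal.Quotient.mk I q * Ψ p := by
    intro q p hp
    induction q using MvPolynomial.induction_on' with
    | monomial μ a =>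
      rw [show monomial μ a = a • monomial μ (1 : k) by rw [smul_monomial, smul_eq_mul, mul_one],
        smul_mul_assoc, map_smul, Ψmm μ p hp, ← mk_smul', smul_mul_assoc]
    | add q1 q2 h1 h2 => rw [add_mul, map_add, h1, h2, map_add, add_mul]
  refine ⟨{ toFun := fun p => Ψ p.1
            map_add' := fun p q => by rw [Submodule.coe_add, map_add]
            map_smul' := fun q p => by
              rw [Submodule.coe_smul, smul_eq_mul, Ψmul q p.1 p.2, RingHom.id_apply,
                smul_eq_mk_mul] }, fun β hβ => Ψmono β⟩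

lemma tPiece_two_neg (hI : IsMonomial I) [Module.Finite k (MvPolynomial (Fin n) k ⧸ I)]
    (α : Fin n → ℤ) (i1 i2 : Fin n) (h12 : i1 ≠ i2) (hα1 : α i1 < 0) (hα2 : α i2 < 0)
    (hαle : ∀ i, α i ≤ 0) : tPiece I α = ⊥ := by
  classical
  rw [Submodule.eq_bot_iff]
  intro φ hφ
  obtain ⟨N, hN⟩ := exists_pow_mem hI i2
  have key : ∀ b : ℕ, ∀ β : Fin n →₀ ℕ, β i1 = b → ∀ hβ : monomial β (1 : k) ∈ I,
      φ ⟨monomial β 1, hβ⟩ = 0 := by
    intro b
    induction b using Nat.strong_induction_on with
    | _ b ih =>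
    intro β hb hβ
    by_cases hneg : ∃ i, (β i : ℤ) + α i < 0
    · exact (hφ β hβ).2 hneg
    push Not at hneg
    obtain ⟨c, hc⟩ := Submodule.mem_span_singleton.1 ((hφ β hβ).1 hneg)
    have hγ : ∀ i, ((shift β α i : ℕ) : ℤ) = (β i : ℤ) + α i := fun i => by
      rw [shift_apply]; exact Int.toNat_of_nonneg (hneg i)
    have hb1 : 1 ≤ β i1 := by
      have := hneg i1
      omega
    obtain ⟨β', hββ'⟩ : ∃ β' : Fin n →₀ ℕ, β = Finsupp.single i1 1 + β' :=
      ⟨β - Finsupp.single i1 1, by
        rw [add_tsub_cancel_of_le]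
        exact Finsupp.single_le_iff.2 hb1⟩
    have hβ'1 : β' i1 + 1 = β i1 := by
      rw [hββ', Finsupp.add_apply, Finsupp.single_eq_same]; omega
    have hβ'o : ∀ i, i1 ≠ i → β' i = β i := by
      intro i hi
      rw [hββ', Finsupp.add_apply, Finsupp.single_apply, if_neg hi, zero_add]
    have hex : ∃ t, monomial (β' + Finsupp.single i2 t) (1 : k) ∈ I :=
      ⟨N, mono_of_le le_add_self hN⟩
    obtain ⟨t, ht, hmin⟩ : ∃ t, monomial (β' + Finsupp.single i2 t) (1 : k) ∈ I ∧
        ∀ s < t, monomial (β' + Finsupp.single i2 s) (1 : k) ∉ I :=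
      ⟨Nat.find hex, Nat.find_spec hex, fun s hs => Nat.find_min hex hs⟩
    cases t with
    | zero =>
      rw [Finsupp.single_zero, add_zero] at ht
      have IH := ih (β' i1) (by omega) β' rfl ht
      have e : (⟨monomial β 1, hβ⟩ : ↥I) =
          (monomial (Finsupp.single i1 1) (1 : k) : MvPolynomial (Fin n) k) •
            (⟨monomial β' 1, ht⟩ : ↥I) := by
        apply Subtype.ext
        rw [Submodule.coe_smul, smul_eq_mul, monomial_mul, one_mul, ← hββ']
      rw [e, map_smul, IH, smul_zero]
    | succ t' =>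
      have hν1 : (β' + Finsupp.single i2 (t' + 1)) i1 = β' i1 := by
        rw [Finsupp.add_apply, Finsupp.single_apply, if_neg (Ne.symm h12), add_zero]
      have IH := ih ((β' + Finsupp.single i2 (t' + 1)) i1) (by omega) _ rfl ht
      have hrel : (monomial (Finsupp.single i1 1) (1 : k) : MvPolynomial (Fin n) k) •
            (⟨monomial (β' + Finsupp.single i2 (t' + 1)) 1, ht⟩ : ↥I) =
          (monomial (Finsupp.single i2 (t' + 1)) (1 : k) : MvPolynomial (Fin n) k) •
            (⟨monomial β 1, hβ⟩ : ↥I) := by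
        apply Subtype.ext
        rw [Submodule.coe_smul, Submodule.coe_smul, smul_eq_mul, smul_eq_mul, monomial_mul,
          monomial_mul, one_mul]
        congr 1
        rw [hββ']
        abel
      have h3 := congrArg φ hrel
      rw [map_smul, map_smul, IH, smul_zero, ← hc, mk_smul', smul_monomial, smul_eq_mul, mul_one,
        smul_eq_mk_mul, ← map_mul, monomial_mul, one_mul] at h3
      have hmem : monomial (Finsupp.single i2 (t' + 1) + shift β α) c ∈ I :=
        Ideal.Quotient.eq_zero_iff_mem.1 h3.symm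
      by_cases hc0 : c = 0
      · rw [← hc, hc0, zero_smul]
      · exfalso
        have hle : Finsupp.single i2 (t' + 1) + shift β α ≤ β' + Finsupp.single i2 t' := by
          refine Finsupp.le_def.2 (fun i => ?_)
          have h1 := hγ i
          have h2 := hαle i
          simp only [Finsupp.add_apply, Finsupp.single_apply]
          by_cases hi2 : i2 = i
          · have hi1 : i1 ≠ i := fun e => h12 (e.trans hi2.symm)
            have := hβ'o i hi1
            simp only [if_pos hi2]
            subst hi2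
            omega
          · simp only [if_neg hi2]
            by_cases hi1 : i1 = i
            · subst hi1
              omega
            · have := hβ'o i hi1
              omega
        exact hmin t' (Nat.lt_succ_self t') (mono_of_le hle (smul_mono_mem hc0 hmem))
  refine ext_mono hI φ 0 (fun β hβ => ?_)
  rw [key (β i1) β rfl hβ]
  rfl

lemma tPiece_pos_var (hI : IsMonomial I) (α : Fin n → ℤ) (i0 : Fin n)
    (hx : monomial (Finsupp.single i0 1) (1 : k) ∈ I) (hpos : 0 < α i0) : tPiece I α = ⊥ := by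
  rw [Submodule.eq_bot_iff]
  intro φ hφ
  refine ext_mono hI φ 0 (fun β hβ => ?_)
  by_cases hneg : ∃ i, (β i : ℤ) + α i < 0
  · exact (hφ β hβ).2 hneg
  push Not at hneg
  have h1 := (hφ β hβ).1 hneg
  have hle : Finsupp.single i0 1 ≤ shift β α := by
    refine Finsupp.single_le_iff.2 ?_
    rw [shift_apply]
    omega
  rw [Ideal.Quotient.eq_zero_iff_mem.2 (mono_of_le hle hx)] at h1
  simpa using h1

lemma tPiece_neg_var (hI : IsMonomial I) (α : Fin n → ℤ) (i0 j : Fin n) (hj : i0 ≠ j)
    (hx : monomial (Finsupp.single i0 1) (1 : k) ∈ I) (h0 : α i0 < 0) (hjn : α j < 0) :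
    tPiece I α = ⊥ := by
  rw [Submodule.eq_bot_iff]
  intro φ hφ
  refine ext_mono hI φ 0 (fun β hβ => ?_)
  by_cases hneg : ∃ i, (β i : ℤ) + α i < 0
  · exact (hφ β hβ).2 hneg
  push Not at hneg
  have hγ : ((shift β α j : ℕ) : ℤ) = (β j : ℤ) + α j := by
    rw [shift_apply]; exact Int.toNat_of_nonneg (hneg j)
  set s : ℕ := shift β α j + 1 with hs
  have hsle : s ≤ β j := by omega
  obtain ⟨β', hββ'⟩ : ∃ β' : Fin n →₀ ℕ, β = Finsupp.single j s + β' :=
    ⟨β - Finsupp.single j s, by
      rw [add_tsub_cancel_of_le]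
      exact Finsupp.single_le_iff.2 hsle⟩
  have hβ'j : β' j + s = β j := by
    rw [hββ', Finsupp.add_apply, Finsupp.single_eq_same]; omega
  have hβ'0 : β' i0 = β i0 := by
    rw [hββ', Finsupp.add_apply, Finsupp.single_apply, if_neg (Ne.symm hj), zero_add]
  have hβ' : monomial β' (1 : k) ∈ I := by
    refine mono_of_le (Finsupp.single_le_iff.2 ?_) hx
    have := hneg i0
    omega
  have hz : φ ⟨monomial β' 1, hβ'⟩ = 0 := (hφ β' hβ').2 ⟨j, by omega⟩
  have e : (⟨monomial β 1, hβ⟩ : ↥I) =
      (monomial (Finsupp.single j s) (1 : k) : MvPolynomial (Fin n) k) •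
        (⟨monomial β' 1, hβ'⟩ : ↥I) := by
    apply Subtype.ext
    rw [Submodule.coe_smul, smul_eq_mul, monomial_mul, one_mul, ← hββ']
  rw [e, map_smul, hz, smul_zero]
  rfl


section Three

lemma fin3_cases (i : Fin 3) : i = 0 ∨ i = 1 ∨ i = 2 := by
  revert i; decide

theorem main_ss (k : Type u) [Field k]
    (I : Ideal (MvPolynomial (Fin 3) k)) (hI : IsStronglyStable I)
    [Module.Finite k (MvPolynomial (Fin 3) k ⧸ I)] :
    (MvPolynomial.X 0 : MvPolynomial (Fin 3) k) ∈ I ↔
      (sigPiece I ({1, 2} : Set (Fin 3)) = ⊥ ∧ sigPiece I ({0, 2} : Set (Fin 3)) = ⊥ ∧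
        sigPiece I ({0, 1} : Set (Fin 3)) = ⊥) := by
  classical
  obtain ⟨hm, hst⟩ := hI
  have hX : (X 0 : MvPolynomial (Fin 3) k) = monomial (Finsupp.single 0 1) 1 := rfl
  rw [hX]
  constructor
  · intro hx
    refine ⟨?_, ?_, ?_⟩
    · unfold sigPiece
      rw [iSup_eq_bot]
      rintro ⟨α, hα⟩
      have a1 : α 1 < 0 := (hα 1).2 (by simp)
      have a2 : α 2 < 0 := (hα 2).2 (by simp)
      have a0 : ¬ α 0 < 0 := fun h => by
        have := (hα 0).1 h
        simp at this
      rcases (not_lt.1 a0).eq_or_lt with h | h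
      · refine tPiece_two_neg hm α 1 2 (by decide) a1 a2 (fun i => ?_)
        rcases fin3_cases i with rfl | rfl | rfl
        · exact h.ge
        · exact a1.le
        · exact a2.le
      · exact tPiece_pos_var hm α 0 hx h
    · unfold sigPiece
      rw [iSup_eq_bot]
      rintro ⟨α, hα⟩
      have a0 : α 0 < 0 := (hα 0).2 (by simp)
      have a2 : α 2 < 0 := (hα 2).2 (by simp)
      exact tPiece_neg_var hm α 0 2 (by decide) hx a0 a2
    · unfold sigPiece
      rw [iSup_eq_bot]
      rintro ⟨α, hα⟩
      have a0 : α 0 < 0 := (hα 0).2 (by simp)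
      have a1 : α 1 < 0 := (hα 1).2 (by simp)
      exact tPiece_neg_var hm α 0 1 (by decide) hx a0 a1
  · rintro ⟨-, -, h01⟩
    by_contra hx
    -- y, z, 1 not in I
    have hy : monomial (Finsupp.single (1 : Fin 3) 1) (1 : k) ∉ I := fun h => hx (by
      have := hst (Finsupp.single 1 1) h 0 1 (by decide) (by simp)
      simp only [tsub_self, zero_add] at this
      exact this)
    have hz : monomial (Finsupp.single (2 : Fin 3) 1) (1 : k) ∉ I := fun h => hx (by
      have := hst (Finsupp.single 2 1) h 0 2 (by decide) (by simp)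
      simp only [tsub_self, zero_add] at this
      exact this)
    have h1 : monomial (0 : Fin 3 →₀ ℕ) (1 : k) ∉ I := fun h => hx (mono_of_le (Finsupp.le_def.2 (fun i => Nat.zero_le _)) h)
    -- minimal z-power
    have hexz := exists_pow_mem hm (I := I) (2 : Fin 3)
    obtain ⟨c, hc, hcmin⟩ : ∃ c, monomial (Finsupp.single (2 : Fin 3) c) (1 : k) ∈ I ∧
        ∀ s < c, monomial (Finsupp.single (2 : Fin 3) s) (1 : k) ∉ I :=
      ⟨Nat.find hexz, Nat.find_spec hexz, fun s hs => Nat.find_min hexz hs⟩
    have hc2 : 2 ≤ c := by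
      rcases c with _ | _ | c
      · rw [Finsupp.single_zero] at hc; exact absurd hc h1
      · exact absurd hc hz
      · omega
    obtain ⟨c', rfl⟩ : ∃ c', c = c' + 1 := ⟨c - 1, by omega⟩
    set δ : Fin 3 →₀ ℕ := Finsupp.single 2 c' with hδdef
    have hδ : monomial δ (1 : k) ∉ I := hcmin c' (Nat.lt_succ_self c')
    have hsoc : ∀ i : Fin 3, monomial (Finsupp.single i 1 + δ) (1 : k) ∈ I := by
      intro i
      rcases fin3_cases i with rfl | rfl | rfl
      · have := hst (Finsupp.single 2 (c' + 1)) hc 0 2 (by decide) (by simp)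
        rw [← Finsupp.single_tsub, Nat.add_sub_cancel, add_comm] at this
        exact this
      · have := hst (Finsupp.single 2 (c' + 1)) hc 1 2 (by decide) (by simp)
        rw [← Finsupp.single_tsub, Nat.add_sub_cancel, add_comm] at this
        exact this
      · rw [hδdef, ← Finsupp.single_add, add_comm]
        exact hc
    have hsoc' : ∀ μ : Fin 3 →₀ ℕ, μ ≠ 0 → monomial (μ + δ) (1 : k) ∈ I := by
      intro μ hμ
      obtain ⟨i, hi⟩ : ∃ i, μ i ≠ 0 := by
        by_contra hcon
        push Not at hcon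
        exact hμ (Finsupp.ext hcon)
      refine mono_of_le ?_ (hsoc i)
      exact add_le_add_left (Finsupp.single_le_iff.2 (Nat.one_le_iff_ne_zero.2 hi)) δ
    -- minimal y-power
    have hexy := exists_pow_mem hm (I := I) (1 : Fin 3)
    obtain ⟨b, hb, hbmin⟩ : ∃ b, monomial (Finsupp.single (1 : Fin 3) b) (1 : k) ∈ I ∧
        ∀ s < b, monomial (Finsupp.single (1 : Fin 3) s) (1 : k) ∉ I :=
      ⟨Nat.find hexy, Nat.find_spec hexy, fun s hs => Nat.find_min hexy hs⟩
    have hb2 : 2 ≤ b := by
      rcases b with _ | _ | b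
      · rw [Finsupp.single_zero] at hb; exact absurd hb h1
      · exact absurd hb hy
      · omega
    obtain ⟨b', rfl⟩ : ∃ b', b = b' + 1 := ⟨b - 1, by omega⟩
    have hxy : monomial (Finsupp.single (0 : Fin 3) 1 + Finsupp.single 1 b') (1 : k) ∈ I := by
      have := hst (Finsupp.single 1 (b' + 1)) hb 0 1 (by decide) (by simp)
      rw [← Finsupp.single_tsub, Nat.add_sub_cancel, add_comm] at this
      exact this
    have hexj : ∃ j, monomial (Finsupp.single (0 : Fin 3) 1 + Finsupp.single 1 j) (1 : k) ∈ I :=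
      ⟨b', hxy⟩
    obtain ⟨j, hj, hjmin, hjb⟩ : ∃ j,
        monomial (Finsupp.single (0 : Fin 3) 1 + Finsupp.single 1 j) (1 : k) ∈ I ∧
        (∀ s, monomial (Finsupp.single (0 : Fin 3) 1 + Finsupp.single 1 s) (1 : k) ∈ I → j ≤ s) ∧
        j ≤ b' :=
      ⟨Nat.find hexj, Nat.find_spec hexj, fun s hs => Nat.find_min' hexj hs,
        Nat.find_min' hexj hxy⟩
    have hj1 : 1 ≤ j := by
      rcases j with _ | j
      · rw [Finsupp.single_zero, add_zero] at hj; exact absurd hj hx
      · omega
    set β : Fin 3 →₀ ℕ := Finsupp.single 0 1 + Finsupp.single 1 j with hβdef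
    have e0 : β 0 = 1 := by simp [hβdef]
    have e1 : β 1 = j := by simp [hβdef]
    have e2 : β 2 = 0 := by simp [hβdef]
    have d0 : δ 0 = 0 := by simp [hδdef]
    have d1 : δ 1 = 0 := by simp [hδdef]
    have d2 : δ 2 = c' := by simp [hδdef]
    -- minimality of the generator β
    have hminβ : ∀ μ γ : Fin 3 →₀ ℕ, monomial γ (1 : k) ∈ I → μ + γ = β → μ = 0 := by
      intro μ γ hγ hsum
      have s0 : μ 0 + γ 0 = 1 := by rw [← Finsupp.add_apply, hsum, e0]
      have s1 : μ 1 + γ 1 = j := by rw [← Finsupp.add_apply, hsum, e1]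
      have s2 : μ 2 + γ 2 = 0 := by rw [← Finsupp.add_apply, hsum, e2]
      by_cases hγ0 : γ 0 = 0
      · exfalso
        have hγeq : γ = Finsupp.single 1 (γ 1) := by
          ext i
          rcases fin3_cases i with rfl | rfl | rfl
          · simp [hγ0]
          · simp
          · simp; omega
        rw [hγeq] at hγ
        exact hbmin (γ 1) (by omega) hγ
      · have hγ0' : γ 0 = 1 := by omega
        have hγeq : γ = Finsupp.single 0 1 + Finsupp.single 1 (γ 1) := by
          ext i
          rcases fin3_cases i with rfl | rfl | rfl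
          · simp [hγ0']
          · simp
          · simp; omega
        rw [hγeq] at hγ
        have := hjmin (γ 1) hγ
        ext i
        rcases fin3_cases i with rfl | rfl | rfl
        · simp; omega
        · simp; omega
        · simp; omega
    -- the tangent vector
    let G : (Fin 3 →₀ ℕ) → MvPolynomial (Fin 3) k ⧸ I :=
      fun γ => if γ = β then Ideal.Quotient.mk I (monomial δ 1) else 0
    have hG : ∀ μ γ, monomial γ (1 : k) ∈ I →
        G (μ + γ) = Ideal.Quotient.mk I (monomial μ 1) * G γ := by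
      intro μ γ hγ
      by_cases hμ : μ = 0
      · subst hμ
        rw [zero_add, show monomial (0 : Fin 3 →₀ ℕ) (1 : k) = 1 from C_1, map_one, one_mul]
      · have hne : μ + γ ≠ β := fun e => hμ (hminβ μ γ hγ e)
        show (if μ + γ = β then _ else _) = _ * (if γ = β then _ else _)
        rw [if_neg hne]
        split_ifs with hγβ
        · rw [← map_mul, monomial_mul, one_mul]
          exact (Ideal.Quotient.eq_zero_iff_mem.2 (hsoc' μ hμ)).symm
        · rw [mul_zero]
    obtain ⟨φ, hφ⟩ := exists_tgt hm G hG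
    have hβI : monomial β (1 : k) ∈ I := hj
    set α : Fin 3 → ℤ := fun i => ((δ i : ℕ) : ℤ) - ((β i : ℕ) : ℤ) with hαdef
    have hshift : shift β α = δ := by
      ext i
      rw [shift_apply]
      simp only [hαdef]
      omega
    have hmemφ : φ ∈ tPiece I α := by
      intro γ hγ
      rw [hφ γ hγ]
      refine ⟨fun h => ?_, fun h => ?_⟩
      · show (if γ = β then _ else _) ∈ _
        split_ifs with hγβ
        · rw [hγβ, hshift]
          exact Submodule.mem_span_singleton_self _
        · exact Submodule.zero_mem _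
      · show (if γ = β then _ else _) = _
        rw [if_neg]
        rintro rfl
        obtain ⟨i, hi⟩ := h
        simp only [hαdef] at hi
        omega
    have hφne : φ ≠ 0 := by
      intro h0
      have := hφ β hβI
      rw [h0] at this
      have h2 : G β = Ideal.Quotient.mk I (monomial δ 1) := if_pos rfl
      rw [h2] at this
      exact hδ (Ideal.Quotient.eq_zero_iff_mem.1 this.symm)
    have hsign : ∀ i, α i < 0 ↔ i ∈ ({0, 1} : Set (Fin 3)) := by
      intro i
      rcases fin3_cases i with rfl | rfl | rfl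
      · simp only [hαdef, e0, d0]; simp
      · simp only [hαdef, e1, d1]; simp; omega
      · simp only [hαdef, e2, d2]; simp
    have hle : tPiece I α ≤ sigPiece I ({0, 1} : Set (Fin 3)) := by
      unfold sigPiece
      exact le_iSup (fun α : {α : Fin 3 → ℤ // ∀ i, α i < 0 ↔ i ∈ ({0, 1} : Set (Fin 3))} =>
        tPiece I α.1) ⟨α, hsign⟩
    have := hle hmemφ
    rw [h01, Submodule.mem_bot] at this
    exact hφne this

end Three

end Groth.Agent.H4.TgtSS
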