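import Mathlib
import Groth.Prelude.Def_W4c1hilbpnTgt
import Groth.Agent.H4.TgtDec
import Groth.Agent.H4.TgtSS

set_option autoImplicit false
universe u
open W4c1hilbpn MvPolynomial
open Groth.Agent.H4.TgtDec Groth.Agent.H4.TgtSS

noncomputable section
namespace Groth.Agent.H4.TgtPow

variable {k : Type u} [Field k] {n : ℕ}

section Lam
variable {I : Ideal (MvPolynomial (Fin n) k)}

/-- coefficient functional on the quotient at a standard exponent -/
def lam (hI : IsMonomial I) (δ : Fin n →₀ ℕ) (hδ : monomial δ (1 : k) ∉ I) :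
    (MvPolynomial (Fin n) k ⧸ I) →ₗ[k] k where
  toFun y := coeff δ (rep y)
  map_add' y z := by
    rw [← coeff_add]
    exact coeff_congr hI (by rw [mk_rep, map_add, mk_rep, mk_rep]) hδ
  map_smul' c y := by
    rw [RingHom.id_apply, ← coeff_smul]
    exact coeff_congr hI (by rw [mk_rep, ← mk_smul', mk_rep]) hδ

lemma lam_mk (hI : IsMonomial I) (δ : Fin n →₀ ℕ) (hδ : monomial δ (1 : k) ∉ I)
    (p : MvPolynomial (Fin n) k) : lam hI δ hδ (Ideal.Quotient.mk I p) = coeff δ p :=
  coeff_congr hI (mk_rep _) hδ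

end Lam

lemma degree_shift (β : Fin n →₀ ℕ) (α : Fin n → ℤ) (h : ∀ i, 0 ≤ (β i : ℤ) + α i) :
    ((shift β α).degree : ℤ) = (β.degree : ℤ) + ∑ i, α i := by
  rw [Finsupp.degree_eq_sum, Finsupp.degree_eq_sum]
  push_cast
  rw [← Finset.sum_add_distrib]
  refine Finset.sum_congr rfl (fun i _ => ?_)
  rw [shift_apply]
  exact Int.toNat_of_nonneg (h i)

section Pow
variable {M : Ideal (MvPolynomial (Fin n) k)} (hmono : IsMonomial M) (r : ℕ)
  (hmem : ∀ β : Fin n →₀ ℕ, monomial β (1 : k) ∈ M ↔ r ≤ β.degree)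

include hmono hmem

lemma pow_zero_of_deg (α : Fin n → ℤ) (φ : Tgt M) (hφ : φ ∈ tPiece M α) (β : Fin n →₀ ℕ)
    (hβ : monomial β (1 : k) ∈ M) (hd : (r : ℤ) ≤ (β.degree : ℤ) + ∑ i, α i) :
    φ ⟨monomial β 1, hβ⟩ = 0 := by
  by_cases hneg : ∃ i, (β i : ℤ) + α i < 0
  · exact (hφ β hβ).2 hneg
  push Not at hneg
  have h1 := (hφ β hβ).1 hneg
  have hds := degree_shift β α hneg
  have hm : monomial (shift β α) (1 : k) ∈ M := (hmem _).2 (by omega)
  rw [Ideal.Quotient.eq_zero_iff_mem.2 hm] at h1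
  simpa using h1

lemma pow_piece_nonneg_sum (α : Fin n → ℤ) (hs : 0 ≤ ∑ i, α i) : tPiece M α = ⊥ := by
  rw [Submodule.eq_bot_iff]
  intro φ hφ
  refine ext_mono hmono φ 0 (fun β hβ => ?_)
  have := (hmem β).1 hβ
  exact pow_zero_of_deg hmono r hmem α φ hφ β hβ (by omega)

lemma pow_piece_big_w (α : Fin n → ℤ) (hs : ∑ i, α i = -1) (hw : r < ∑ i, (-α i).toNat) :
    tPiece M α = ⊥ := by
  rw [Submodule.eq_bot_iff]
  intro φ hφ
  refine ext_mono hmono φ 0 (fun β hβ => ?_)
  by_cases hneg : ∃ i, (β i : ℤ) + α i < 0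
  · exact (hφ β hβ).2 hneg
  push Not at hneg
  have hdeg : ∑ i, (-α i).toNat ≤ β.degree := by
    rw [Finsupp.degree_eq_sum]
    refine Finset.sum_le_sum (fun i _ => ?_)
    have := hneg i
    omega
  exact pow_zero_of_deg hmono r hmem α φ hφ β hβ (by omega)

lemma pow_piece_le_neg_two (hn : 2 ≤ n) (α : Fin n → ℤ) (hs : ∑ i, α i ≤ -2) :
    tPiece M α = ⊥ := by
  obtain ⟨j, hj⟩ : ∃ j, α j < 0 := by
    by_contra hcon
    push Not at hcon
    have := Finset.sum_nonneg (fun i (_ : i ∈ Finset.univ) => hcon i)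
    omega
  haveI : Nontrivial (Fin n) := Fin.nontrivial_iff_two_le.2 hn
  obtain ⟨i0, hi0⟩ := exists_ne j
  rw [Submodule.eq_bot_iff]
  intro φ hφ
  -- the common step
  have common : ∀ β : Fin n →₀ ℕ, ∀ hβ : monomial β (1 : k) ∈ M,
      (β.degree : ℤ) + ∑ i, α i + 1 < r → (∀ i, 0 ≤ (β i : ℤ) + α i) →
      ∀ β0 : Fin n →₀ ℕ, β = Finsupp.single j 1 + β0 →
      (∀ hβ' : monomial (Finsupp.single i0 1 + β0) (1 : k) ∈ M,
        φ ⟨monomial (Finsupp.single i0 1 + β0) 1, hβ'⟩ = 0) →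
      φ ⟨monomial β 1, hβ⟩ = 0 := by
    intro β hβ hdeg hnn β0 hβ0 hz
    have hdβ : β.degree = 1 + β0.degree := by rw [hβ0, map_add, Finsupp.degree_single]
    have hβ' : monomial (Finsupp.single i0 1 + β0) (1 : k) ∈ M := by
      rw [hmem, map_add, Finsupp.degree_single]
      have := (hmem β).1 hβ
      omega
    obtain ⟨c, hc⟩ := Submodule.mem_span_singleton.1 ((hφ β hβ).1 hnn)
    have hrel : (monomial (Finsupp.single i0 1) (1 : k) : MvPolynomial (Fin n) k) •
          (⟨monomial β 1, hβ⟩ : ↥M) =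
        (monomial (Finsupp.single j 1) (1 : k) : MvPolynomial (Fin n) k) •
          (⟨monomial (Finsupp.single i0 1 + β0) 1, hβ'⟩ : ↥M) := by
      apply Subtype.ext
      rw [Submodule.coe_smul, Submodule.coe_smul, smul_eq_mul, smul_eq_mul, monomial_mul,
        monomial_mul, one_mul]
      congr 1
      rw [hβ0]
      abel
    have h3 := congrArg φ hrel
    rw [map_smul, map_smul, hz hβ', smul_zero, ← hc, mk_smul', smul_monomial, smul_eq_mul, mul_one,
      smul_eq_mk_mul, ← map_mul, monomial_mul, one_mul] at h3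
    have hm : monomial (Finsupp.single i0 1 + shift β α) c ∈ M :=
      Ideal.Quotient.eq_zero_iff_mem.1 h3
    by_cases hc0 : c = 0
    · rw [← hc, hc0, zero_smul]
    · exfalso
      have h4 := (hmem _).1 (smul_mono_mem hc0 hm)
      rw [map_add, Finsupp.degree_single] at h4
      have := degree_shift β α hnn
      omega
  have step1 : ∀ m : ℕ, ∀ β : Fin n →₀ ℕ, (β j : ℤ) + α j = m →
      (β.degree : ℤ) + ∑ i, α i + 1 < r → ∀ hβ : monomial β (1 : k) ∈ M,
      φ ⟨monomial β 1, hβ⟩ = 0 := by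
    intro m
    induction m with
    | zero =>
      intro β hm hdeg hβ
      by_cases hneg : ∃ i, (β i : ℤ) + α i < 0
      · exact (hφ β hβ).2 hneg
      push Not at hneg
      have hb1 : 1 ≤ β j := by omega
      obtain ⟨β0, hβ0⟩ : ∃ β0 : Fin n →₀ ℕ, β = Finsupp.single j 1 + β0 :=
        ⟨β - Finsupp.single j 1, by
          rw [add_tsub_cancel_of_le]
          exact Finsupp.single_le_iff.2 hb1⟩
      refine common β hβ hdeg hneg β0 hβ0 (fun hβ' => (hφ _ hβ').2 ⟨j, ?_⟩)
      have : β j = 1 + β0 j := by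
        rw [hβ0, Finsupp.add_apply, Finsupp.single_eq_same]
      rw [Finsupp.add_apply, Finsupp.single_apply, if_neg hi0, zero_add]
      omega
    | succ m ih =>
      intro β hm hdeg hβ
      by_cases hneg : ∃ i, (β i : ℤ) + α i < 0
      · exact (hφ β hβ).2 hneg
      push Not at hneg
      have hb1 : 1 ≤ β j := by omega
      obtain ⟨β0, hβ0⟩ : ∃ β0 : Fin n →₀ ℕ, β = Finsupp.single j 1 + β0 :=
        ⟨β - Finsupp.single j 1, by
          rw [add_tsub_cancel_of_le]
          exact Finsupp.single_le_iff.2 hb1⟩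
      have hbj : β j = 1 + β0 j := by
        rw [hβ0, Finsupp.add_apply, Finsupp.single_eq_same]
      have hdβ : β.degree = 1 + β0.degree := by rw [hβ0, map_add, Finsupp.degree_single]
      refine common β hβ hdeg hneg β0 hβ0 (fun hβ' => ih _ ?_ ?_ hβ')
      · rw [Finsupp.add_apply, Finsupp.single_apply, if_neg hi0, zero_add]
        push_cast at hm
        omega
      · rw [map_add, Finsupp.degree_single]
        push_cast
        omega
  have step1' : ∀ β : Fin n →₀ ℕ, (β.degree : ℤ) + ∑ i, α i + 1 < r →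
      ∀ hβ : monomial β (1 : k) ∈ M, φ ⟨monomial β 1, hβ⟩ = 0 := by
    intro β hdeg hβ
    by_cases hneg : ∃ i, (β i : ℤ) + α i < 0
    · exact (hφ β hβ).2 hneg
    push Not at hneg
    exact step1 ((β j : ℤ) + α j).toNat β (Int.toNat_of_nonneg (hneg j)).symm hdeg hβ
  refine ext_mono hmono φ 0 (fun β hβ => ?_)
  show φ ⟨monomial β 1, hβ⟩ = 0
  by_cases h1 : (r : ℤ) ≤ (β.degree : ℤ) + ∑ i, α i
  · exact pow_zero_of_deg hmono r hmem α φ hφ β hβ h1
  by_cases h2 : (β.degree : ℤ) + ∑ i, α i + 1 < r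
  · exact step1' β h2 hβ
  -- boundary case: degree β + s = r - 1, so degree β ≥ r + 1
  have hdr := (hmem β).1 hβ
  have hβne : β ≠ 0 := by
    rintro rfl
    rw [map_zero] at h1 h2
    omega
  obtain ⟨l, hl⟩ : ∃ l, β l ≠ 0 := by
    by_contra hcon
    push Not at hcon
    exact hβne (Finsupp.ext hcon)
  obtain ⟨β2, hβ2⟩ : ∃ β2 : Fin n →₀ ℕ, β = Finsupp.single l 1 + β2 :=
    ⟨β - Finsupp.single l 1, by
      rw [add_tsub_cancel_of_le]
      exact Finsupp.single_le_iff.2 (Nat.one_le_iff_ne_zero.2 hl)⟩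
  have hdβ : β.degree = 1 + β2.degree := by rw [hβ2, map_add, Finsupp.degree_single]
  have hβ2M : monomial β2 (1 : k) ∈ M := by
    rw [hmem]
    omega
  have e : (⟨monomial β 1, hβ⟩ : ↥M) =
      (monomial (Finsupp.single l 1) (1 : k) : MvPolynomial (Fin n) k) •
        (⟨monomial β2 1, hβ2M⟩ : ↥M) := by
    apply Subtype.ext
    rw [Submodule.coe_smul, smul_eq_mul, monomial_mul, one_mul, ← hβ2]
  rw [e, map_smul, step1' β2 (by omega) hβ2M, smul_zero]

end Pow


section Dim

/-- the negative part of `α` -/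
def negPart (α : Fin n → ℤ) : Fin n →₀ ℕ :=
  Finsupp.equivFunOnFinite.symm (fun i => (-α i).toNat)

lemma negPart_apply (α : Fin n → ℤ) (i : Fin n) : negPart α i = (-α i).toNat := rfl

lemma degree_negPart (α : Fin n → ℤ) : (negPart α).degree = ∑ i, (-α i).toNat := by
  rw [Finsupp.degree_eq_sum]
  rfl

/-- evaluation at a point, as a `k`-linear map -/
def evalL {M : Ideal (MvPolynomial (Fin n) k)} (x : ↥M) :
    Tgt M →ₗ[k] (MvPolynomial (Fin n) k ⧸ M) where
  toFun φ := φ x
  map_add' _ _ := rfl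
  map_smul' _ _ := rfl

variable {M : Ideal (MvPolynomial (Fin n) k)} (hmono : IsMonomial M) (r : ℕ)
  (hmem : ∀ β : Fin n →₀ ℕ, monomial β (1 : k) ∈ M ↔ r ≤ β.degree)

include hmono hmem

theorem exists_equiv (α : Fin n → ℤ) (hs : ∑ i, α i = -1) (hw : ∑ i, (-α i).toNat ≤ r) :
    Nonempty (↥(tPiece M α) ≃ₗ[k]
      (↥((Finset.univ : Finset (Fin n)).finsuppAntidiag (r - ∑ i, (-α i).toNat)) → k)) := by
  classical
  set w := ∑ i, (-α i).toNat with hwdef
  set a := negPart α with hadef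
  set A := (Finset.univ : Finset (Fin n)).finsuppAntidiag (r - w) with hAdef
  have hdegA : ∀ γ' : Fin n →₀ ℕ, γ' ∈ A ↔ γ'.degree = r - w := by
    intro γ'
    rw [hAdef, Finset.mem_finsuppAntidiag, Finsupp.degree_eq_sum]
    exact ⟨fun h => h.1, fun h => ⟨h, Finset.subset_univ _⟩⟩
  have hda : a.degree = w := degree_negPart α
  have hnn : ∀ β : Fin n →₀ ℕ, a ≤ β → ∀ i, 0 ≤ (β i : ℤ) + α i := by
    intro β hle i
    have := Finsupp.le_def.1 hle i
    rw [hadef, negPart_apply] at this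
    omega
  have hnn' : ∀ β : Fin n →₀ ℕ, (∀ i, 0 ≤ (β i : ℤ) + α i) → a ≤ β := by
    intro β h
    refine Finsupp.le_def.2 (fun i => ?_)
    rw [hadef, negPart_apply]
    have := h i
    omega
  have hin : ∀ γ' : ↥A, monomial (a + γ'.1) (1 : k) ∈ M := by
    intro γ'
    rw [hmem, map_add, hda, (hdegA _).1 γ'.2]
    omega
  have hstd : ∀ β : Fin n →₀ ℕ, a ≤ β → β.degree = r → monomial (shift β α) (1 : k) ∉ M := by
    intro β hle hd
    rw [hmem]
    have := degree_shift β α (hnn β hle)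
    omega
  have hstdA : ∀ γ' : ↥A, monomial (shift (a + γ'.1) α) (1 : k) ∉ M := by
    intro γ'
    refine hstd _ le_self_add ?_
    rw [map_add, hda, (hdegA _).1 γ'.2]
    omega
  let f : ↥(tPiece M α) →ₗ[k] (↥A → k) :=
    LinearMap.pi (fun γ' : ↥A => (lam hmono _ (hstdA γ')).comp
      ((evalL ⟨monomial (a + γ'.1) 1, hin γ'⟩).comp (tPiece M α).subtype))
  have hf : ∀ (φ : ↥(tPiece M α)) (γ' : ↥A), f φ γ' =
      lam hmono _ (hstdA γ') (φ.1 ⟨monomial (a + γ'.1) 1, hin γ'⟩) := fun _ _ => rfl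
  let cfun : (↥A → k) → (Fin n →₀ ℕ) → k := fun c γ' => if h : γ' ∈ A then c ⟨γ', h⟩ else 0
  let G : (↥A → k) → (Fin n →₀ ℕ) → MvPolynomial (Fin n) k ⧸ M := fun c β =>
    if a ≤ β ∧ β.degree = r then
      Ideal.Quotient.mk M (monomial (shift β α) (cfun c (β - a))) else 0
  have hdet : ∀ (φ : ↥(tPiece M α)) (β : Fin n →₀ ℕ) (hβ : monomial β (1 : k) ∈ M),
      φ.1 ⟨monomial β 1, hβ⟩ = G (f φ) β := by
    rintro ⟨φ, hφ⟩ β hβ
    show φ ⟨monomial β 1, hβ⟩ = if a ≤ β ∧ β.degree = r then _ else 0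
    split_ifs with hc
    · obtain ⟨hle, hd⟩ := hc
      obtain ⟨γ', rfl⟩ : ∃ γ' : Fin n →₀ ℕ, β = a + γ' :=
        ⟨β - a, (add_tsub_cancel_of_le hle).symm⟩
      have hγ' : γ' ∈ A := by
        rw [hdegA]
        rw [map_add, hda] at hd
        omega
      obtain ⟨c, hc⟩ := Submodule.mem_span_singleton.1 ((hφ _ hβ).1 (hnn _ hle))
      have hfc : f ⟨φ, hφ⟩ ⟨γ', hγ'⟩ = c := by
        rw [hf]
        show lam hmono _ _ (φ ⟨monomial (a + γ') 1, _⟩) = c
        rw [← hc, mk_smul', smul_monomial, smul_eq_mul, mul_one, lam_mk, coeff_monomial,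
          if_pos rfl]
      rw [add_tsub_cancel_left]
      show φ ⟨monomial (a + γ') 1, hβ⟩ = Ideal.Quotient.mk M (monomial (shift (a + γ') α)
        (if h : γ' ∈ A then f ⟨φ, hφ⟩ ⟨γ', h⟩ else 0))
      rw [dif_pos hγ', hfc, ← hc, mk_smul', smul_monomial, smul_eq_mul, mul_one]
    · by_cases hle : a ≤ β
      · have hd : β.degree ≠ r := fun h => hc ⟨hle, h⟩
        have hdr := (hmem β).1 hβ
        exact pow_zero_of_deg hmono r hmem α φ hφ β hβ (by omega)
      · have : ∃ i, (β i : ℤ) + α i < 0 := by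
          by_contra hcon
          push Not at hcon
          exact hle (hnn' β hcon)
        exact (hφ β hβ).2 this
  refine ⟨LinearEquiv.ofBijective f ⟨?_, ?_⟩⟩
  · -- injective
    intro x y hxy
    apply Subtype.ext
    refine ext_mono hmono x.1 y.1 (fun β hβ => ?_)
    rw [hdet x β hβ, hdet y β hβ, hxy]
  · -- surjective
    intro c
    have hG : ∀ μ β, monomial β (1 : k) ∈ M →
        G c (μ + β) = Ideal.Quotient.mk M (monomial μ 1) * G c β := by
      intro μ β hβ
      by_cases hμ : μ = 0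
      · subst hμ
        rw [zero_add, show monomial (0 : Fin n →₀ ℕ) (1 : k) = 1 from C_1, map_one, one_mul]
      · have hdμ : 1 ≤ μ.degree := by
          rw [Nat.one_le_iff_ne_zero, Ne, Finsupp.degree_eq_zero_iff]
          exact hμ
        have hdr := (hmem β).1 hβ
        have hne : ¬ (a ≤ μ + β ∧ (μ + β).degree = r) := by
          rintro ⟨-, h⟩
          rw [map_add] at h
          omega
        show (if a ≤ μ + β ∧ (μ + β).degree = r then _ else _) =
          _ * (if a ≤ β ∧ β.degree = r then _ else _)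
        rw [if_neg hne]
        split_ifs with hc
        · rw [← map_mul, monomial_mul, one_mul]
          refine (Ideal.Quotient.eq_zero_iff_mem.2 (mono_smul_mem ?_ _)).symm
          rw [hmem, map_add]
          have := degree_shift β α (hnn β hc.1)
          omega
        · rw [mul_zero]
    obtain ⟨φ, hφ⟩ := exists_tgt hmono (G c) hG
    have hφmem : φ ∈ tPiece M α := by
      intro β hβ
      rw [hφ β hβ]
      refine ⟨fun h => ?_, fun h => ?_⟩
      · show (if a ≤ β ∧ β.degree = r then _ else _) ∈ _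
        split_ifs with hc
        · exact Submodule.mem_span_singleton.2
            ⟨_, by rw [mk_smul', smul_monomial, smul_eq_mul, mul_one]⟩
        · exact Submodule.zero_mem _
      · show (if a ≤ β ∧ β.degree = r then _ else _) = _
        rw [if_neg]
        rintro ⟨hle, -⟩
        obtain ⟨i, hi⟩ := h
        have := hnn β hle i
        omega
    refine ⟨⟨φ, hφmem⟩, ?_⟩
    funext γ'
    rw [hf]
    show lam hmono _ (hstdA γ') (φ ⟨monomial (a + γ'.1) 1, hin γ'⟩) = c γ'
    rw [hφ _ (hin γ')]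
    have hcond : a ≤ a + γ'.1 ∧ (a + γ'.1).degree = r := by
      refine ⟨le_self_add, ?_⟩
      rw [map_add, hda, (hdegA _).1 γ'.2]
      omega
    show lam hmono _ (hstdA γ') (if a ≤ a + γ'.1 ∧ (a + γ'.1).degree = r then _ else _) = c γ'
    rw [if_pos hcond, lam_mk, coeff_monomial, if_pos rfl, add_tsub_cancel_left]
    show (if h : γ'.1 ∈ A then c ⟨γ'.1, h⟩ else 0) = c γ'
    rw [dif_pos γ'.2]

end Dim

theorem main35 (k : Type u) [Field k]
    (n : ℕ) (hn : 2 ≤ n) (r : ℕ) (α : Fin n → ℤ) :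
    Module.finrank k ↥(tPiece ((Ideal.span (Set.range
        (MvPolynomial.X : Fin n → MvPolynomial (Fin n) k))) ^ r) α) =
      if (∑ i, α i = -1 ∧ ∑ i, (-α i).toNat ≤ r)
        then Nat.choose (n + r - (∑ i, (-α i).toNat) - 1) (n - 1) else 0 := by
  have hmem : ∀ β : Fin n →₀ ℕ, monomial β (1 : k) ∈
      (Ideal.span (Set.range (MvPolynomial.X : Fin n → MvPolynomial (Fin n) k))) ^ r ↔
      r ≤ β.degree := fun β => monomial_mem_pow_idealOfVars_iff r β one_ne_zero
  have hmono : IsMonomial ((Ideal.span (Set.range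
      (MvPolynomial.X : Fin n → MvPolynomial (Fin n) k))) ^ r) :=
    fun p hp β hβ => (hmem β).2 ((mem_pow_idealOfVars_iff r p).1 hp β hβ)
  split_ifs with h
  · obtain ⟨hs, hw⟩ := h
    obtain ⟨e⟩ := exists_equiv hmono r hmem α hs hw
    rw [e.finrank_eq, Module.finrank_fintype_fun_eq_card, Fintype.card_coe,
      Finset.card_finsuppAntidiag_nat_eq_choose, Finset.card_univ, Fintype.card_fin]
    have h1 : n + r - ∑ i, (-α i).toNat - 1 = n + (r - ∑ i, (-α i).toNat) - 1 := by omega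
    rw [h1]
    exact Nat.choose_symm_of_eq_add (by omega)
  · have hbot : tPiece ((Ideal.span (Set.range
        (MvPolynomial.X : Fin n → MvPolynomial (Fin n) k))) ^ r) α = ⊥ := by
      by_cases hs : ∑ i, α i = -1
      · have hw : r < ∑ i, (-α i).toNat := by
          by_contra hcon
          exact h ⟨hs, not_lt.1 hcon⟩
        exact pow_piece_big_w hmono r hmem α hs hw
      · rcases lt_or_gt_of_ne hs with h1 | h1
        · exact pow_piece_le_neg_two hmono r hmem hn α (by omega)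
        · exact pow_piece_nonneg_sum hmono r hmem α (by omega)
    rw [hbot, finrank_bot]

end Groth.Agent.H4.TgtPow
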