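import Mathlib
import Groth.Prelude.Def_W4c1hilbpnTgt
import Groth.Agent.H4.TgtDec
import Groth.Agent.H4.TgtSS
import Groth.Agent.H4.TgtPow

set_option autoImplicit false
universe u
open W4c1hilbpn MvPolynomial
open Groth.Agent.H4.TgtDec Groth.Agent.H4.TgtSS Groth.Agent.H4.TgtPow

noncomputable section
namespace Groth.Agent.H4.TgtCC

variable {k : Type u} [Field k] {n : ℕ}

/-- the integer point `β + α` -/
def pt (β : Fin n →₀ ℕ) (α : Fin n → ℤ) : Fin n → ℤ := fun i => (β i : ℤ) + α i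

lemma pt_apply (β : Fin n →₀ ℕ) (α : Fin n → ℤ) (i : Fin n) : pt β α i = (β i : ℤ) + α i := rfl

/-- truncation to a natural exponent vector -/
def tn (v : Fin n → ℤ) : Fin n →₀ ℕ := Finsupp.equivFunOnFinite.symm fun i => (v i).toNat

lemma tn_apply (v : Fin n → ℤ) (i : Fin n) : tn v i = (v i).toNat := rfl

lemma tn_pt (β : Fin n →₀ ℕ) (α : Fin n → ℤ) : tn (pt β α) = shift β α := rfl

/-- recover `β` from `β + α` -/
def bof (v : Fin n → ℤ) (α : Fin n → ℤ) : Fin n →₀ ℕ := tn (fun i => v i - α i)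

lemma bof_pt (β : Fin n →₀ ℕ) (α : Fin n → ℤ) : bof (pt β α) α = β := by
  ext i
  show ((β i : ℤ) + α i - α i).toNat = β i
  omega

lemma shift_add (α : Fin n → ℤ) (μ β : Fin n →₀ ℕ) (h0 : ∀ i, 0 ≤ pt β α i) :
    shift (μ + β) α = μ + shift β α := by
  ext i
  simp only [shift_apply, Finsupp.add_apply]
  have := h0 i
  rw [pt_apply] at this
  push_cast
  omega

lemma sum_one_cases (f : Fin n → ℤ) (hnn : ∀ i, 0 ≤ f i) (h : ∑ i, f i = 1) :
    ∃ l, f l = 1 ∧ ∀ j, j ≠ l → f j = 0 := by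
  classical
  obtain ⟨l, hl⟩ : ∃ l, f l ≠ 0 := by
    by_contra hcon
    push Not at hcon
    have : ∑ i, f i = 0 := Finset.sum_eq_zero (fun i _ => hcon i)
    rw [this] at h
    exact zero_ne_one h
  have hsplit := Finset.add_sum_erase Finset.univ f (Finset.mem_univ l)
  have hrest : 0 ≤ ∑ j ∈ Finset.univ.erase l, f j := Finset.sum_nonneg (fun j _ => hnn j)
  have hl0 := hnn l
  have hl1 : f l = 1 := by omega
  have hr0 : ∑ j ∈ Finset.univ.erase l, f j = 0 := by omega
  refine ⟨l, hl1, fun j hj => ?_⟩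
  exact (Finset.sum_eq_zero_iff_of_nonneg (fun j _ => hnn j)).1 hr0 j
    (Finset.mem_erase.2 ⟨hj, Finset.mem_univ j⟩)

lemma step_cases (α : Fin n → ℤ) (β β' : Fin n →₀ ℕ)
    (h : ∑ i, |pt β α i - pt β' α i| = 1) :
    ∃ l, β' = Finsupp.single l 1 + β ∨ β = Finsupp.single l 1 + β' := by
  obtain ⟨l, hl1, hoth⟩ := sum_one_cases (fun i => |pt β α i - pt β' α i|)
    (fun i => abs_nonneg _) h
  have hoth' : ∀ j, j ≠ l → β j = β' j := by
    intro j hj
    have h1 : |pt β α j - pt β' α j| = 0 := hoth j hj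
    have := abs_eq_zero.1 h1
    rw [pt_apply, pt_apply] at this
    omega
  have hl2 : |pt β α l - pt β' α l| = 1 := hl1
  rw [pt_apply, pt_apply] at hl2
  rcases (abs_eq (zero_le_one (α := ℤ))).1 hl2 with h1 | h1
  · refine ⟨l, Or.inr (Finsupp.ext (fun j => ?_))⟩
    rw [Finsupp.add_apply, Finsupp.single_apply]
    by_cases hj : l = j
    · subst hj
      rw [if_pos rfl]
      omega
    · rw [if_neg hj, zero_add]
      exact hoth' j (Ne.symm hj)
  · refine ⟨l, Or.inl (Finsupp.ext (fun j => ?_))⟩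
    rw [Finsupp.add_apply, Finsupp.single_apply]
    by_cases hj : l = j
    · subst hj
      rw [if_pos rfl]
      omega
    · rw [if_neg hj, zero_add]
      exact (hoth' j (Ne.symm hj)).symm

lemma adj_pt (α : Fin n → ℤ) (γ : Fin n →₀ ℕ) (l : Fin n) :
    (stepGraph (Fin n)).Adj (pt γ α) (pt (Finsupp.single l 1 + γ) α) := by
  have hl : pt γ α l - pt (Finsupp.single l 1 + γ) α l = -1 := by
    rw [pt_apply, pt_apply, Finsupp.add_apply, Finsupp.single_eq_same]
    push_cast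
    ring
  have hsum : ∑ i, |pt γ α i - pt (Finsupp.single l 1 + γ) α i| = 1 := by
    rw [Finset.sum_eq_single l]
    · rw [hl, abs_neg, abs_one]
    · intro i _ hne
      rw [pt_apply, pt_apply, Finsupp.add_apply, Finsupp.single_apply, if_neg (Ne.symm hne)]
      simp
    · intro h
      exact absurd (Finset.mem_univ l) h
  unfold stepGraph
  rw [SimpleGraph.fromRel_adj]
  refine ⟨fun e => ?_, Or.inl hsum⟩
  rw [e, sub_self] at hl
  omega

section Region
variable {I : Ideal (MvPolynomial (Fin n) k)}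

lemma mem_region_iff (α : Fin n → ℤ) (v : Fin n → ℤ) :
    v ∈ region I α ↔ (∃ β, monomial β (1 : k) ∈ I ∧ v = pt β α) ∧
      ¬ ((∀ i, 0 ≤ v i) ∧ monomial (tn v) (1 : k) ∈ I) := Iff.rfl

lemma pt_mem_region {α : Fin n → ℤ} {β : Fin n →₀ ℕ} (hβ : monomial β (1 : k) ∈ I)
    (h : ¬ ((∀ i, 0 ≤ pt β α i) ∧ monomial (shift β α) (1 : k) ∈ I)) : pt β α ∈ region I α :=
  (mem_region_iff α _).2 ⟨⟨β, hβ, rfl⟩, h⟩

lemma region_bof {α : Fin n → ℤ} {v : Fin n → ℤ} (hv : v ∈ region I α) :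
    monomial (bof v α) (1 : k) ∈ I ∧ pt (bof v α) α = v := by
  obtain ⟨⟨β, hβ, rfl⟩, -⟩ := (mem_region_iff α v).1 hv
  rw [bof_pt]
  exact ⟨hβ, rfl⟩

lemma region_down {α : Fin n → ℤ} {β γ : Fin n →₀ ℕ} (hβ : monomial β (1 : k) ∈ I)
    (hle : β ≤ γ) (hγ : pt γ α ∈ region I α) : pt β α ∈ region I α := by
  refine pt_mem_region hβ (fun h => ((mem_region_iff α _).1 hγ).2 ⟨fun i => ?_, ?_⟩)
  · have h1 := h.1 i
    have h2 := Finsupp.le_def.1 hle i
    rw [pt_apply] at h1 ⊢
    omega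
  · refine mono_of_le (Finsupp.le_def.2 (fun i => ?_)) h.2
    have h2 := Finsupp.le_def.1 hle i
    show ((β i : ℤ) + α i).toNat ≤ ((γ i : ℤ) + α i).toNat
    omega

/-- the induced step graph on the region -/
abbrev Gr (I : Ideal (MvPolynomial (Fin n) k)) (α : Fin n → ℤ) :
    SimpleGraph ↥(region I α) := (stepGraph (Fin n)).induce (region I α)

/-- bounded components -/
abbrev BC (I : Ideal (MvPolynomial (Fin n) k)) (α : Fin n → ℤ) : Type :=
  {c : (Gr I α).ConnectedComponent // c.supp.Finite}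

lemma reach (α : Fin n → ℤ) {β : Fin n →₀ ℕ} (hβ : monomial β (1 : k) ∈ I) :
    ∀ (d : ℕ) (μ : Fin n →₀ ℕ), μ.degree = d → ∀ (hv : pt (μ + β) α ∈ region I α)
      (hu : pt β α ∈ region I α), (Gr I α).Reachable ⟨pt β α, hu⟩ ⟨pt (μ + β) α, hv⟩ := by
  intro d
  induction d with
  | zero =>
    intro μ hμ hv hu
    have hμ0 : μ = 0 := (Finsupp.degree_eq_zero_iff μ).1 hμ
    subst hμ0
    have e : (⟨pt (0 + β) α, hv⟩ : ↥(region I α)) = ⟨pt β α, hu⟩ :=
      Subtype.ext (by show pt (0 + β) α = pt β α; rw [zero_add])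
    exact (congrArg (fun w => (Gr I α).Reachable ⟨pt β α, hu⟩ w) e).mpr
      (SimpleGraph.Reachable.refl _)
  | succ d ih =>
    intro μ hμ hv hu
    have hne : μ ≠ 0 := by
      intro h0
      rw [h0, map_zero] at hμ
      omega
    obtain ⟨l, hl⟩ : ∃ l, μ l ≠ 0 := by
      by_contra hcon
      push Not at hcon
      exact hne (Finsupp.ext hcon)
    have hle1 : Finsupp.single l 1 ≤ μ :=
      Finsupp.single_le_iff.2 (Nat.one_le_iff_ne_zero.2 hl)
    obtain ⟨μ₂, rfl⟩ : ∃ μ₂ : Fin n →₀ ℕ, μ = Finsupp.single l 1 + μ₂ :=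
      ⟨μ - Finsupp.single l 1, (add_tsub_cancel_of_le hle1).symm⟩
    have hd2 : μ₂.degree = d := by
      rw [map_add, Finsupp.degree_single] at hμ
      omega
    have hmem2 : monomial (μ₂ + β) (1 : k) ∈ I := mono_add_mem _ hβ
    have hle2 : μ₂ + β ≤ Finsupp.single l 1 + μ₂ + β := by
      rw [add_assoc]
      exact le_add_self
    have hw : pt (μ₂ + β) α ∈ region I α := region_down hmem2 hle2 hv
    have h1 := ih μ₂ hd2 hw hu
    refine h1.trans (SimpleGraph.Adj.reachable ?_)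
    show (stepGraph (Fin n)).Adj (pt (μ₂ + β) α) (pt (Finsupp.single l 1 + μ₂ + β) α)
    rw [add_assoc]
    exact adj_pt α _ l

lemma inf_of_neg (α : Fin n → ℤ) (hn : 2 ≤ n) (v : ↥(region I α)) (j : Fin n) (hj : v.1 j < 0) :
    ¬ ((Gr I α).connectedComponentMk v).supp.Finite := by
  obtain ⟨v, hv⟩ := v
  obtain ⟨⟨β, hβ, rfl⟩, -⟩ := (mem_region_iff α v).1 hv
  obtain ⟨i, hij⟩ : ∃ i : Fin n, i ≠ j := by
    by_cases h0 : j.val = 0
    · refine ⟨⟨1, by omega⟩, fun e => ?_⟩
      have : (1 : ℕ) = j.val := congrArg Fin.val e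
      omega
    · refine ⟨⟨0, by omega⟩, fun e => ?_⟩
      have : (0 : ℕ) = j.val := congrArg Fin.val e
      omega
  have hjval : pt β α j < 0 := hj
  have hmem : ∀ t : ℕ, pt (Finsupp.single i t + β) α ∈ region I α := by
    intro t
    refine pt_mem_region (mono_add_mem _ hβ) (fun h => ?_)
    have h1 := h.1 j
    rw [pt_apply, Finsupp.add_apply, Finsupp.single_apply, if_neg hij] at h1
    rw [pt_apply] at hjval
    push_cast at h1
    omega
  have hinj : Function.Injective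
      (fun t : ℕ => (⟨pt (Finsupp.single i t + β) α, hmem t⟩ : ↥(region I α))) := by
    intro t t' e
    have e1 := congrFun (congrArg Subtype.val e) i
    simp only [pt_apply, Finsupp.add_apply, Finsupp.single_eq_same] at e1
    push_cast at e1
    omega
  refine Set.infinite_of_injective_forall_mem hinj (fun t => ?_)
  rw [SimpleGraph.ConnectedComponent.mem_supp_iff, SimpleGraph.ConnectedComponent.eq]
  exact (reach α hβ _ (Finsupp.single i t) rfl (hmem t) hv).symm

end Region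

section Val
variable {I : Ideal (MvPolynomial (Fin n) k)} (α : Fin n → ℤ)

open Classical in
/-- coefficient of `φ (x^β)` at `x^(β+α)` -/
def cf (φ : Tgt I) (β : Fin n →₀ ℕ) : k :=
  if h : monomial β (1 : k) ∈ I then coeff (shift β α) (rep (φ ⟨monomial β 1, h⟩)) else 0

open Classical in
/-- the value function on lattice points -/
def V (φ : Tgt I) (v : Fin n → ℤ) : k :=
  if ∀ i, 0 ≤ v i then cf α φ (bof v α) else 0

lemma V_nonneg (φ : Tgt I) (β : Fin n →₀ ℕ) (h : ∀ i, 0 ≤ pt β α i) :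
    V α φ (pt β α) = cf α φ β := by
  unfold V
  rw [if_pos h, bof_pt]

lemma V_neg (φ : Tgt I) (v : Fin n → ℤ) (h : ¬ ∀ i, 0 ≤ v i) : V α φ v = 0 := by
  unfold V
  rw [if_neg h]

lemma cf_of_span (hI : IsMonomial I) (φ : Tgt I) (β : Fin n →₀ ℕ) (hβ : monomial β (1 : k) ∈ I)
    (hstd : monomial (shift β α) (1 : k) ∉ I) (c : k)
    (hc : c • Ideal.Quotient.mk I (monomial (shift β α) (1 : k)) = φ ⟨monomial β 1, hβ⟩) :
    cf α φ β = c := by
  unfold cf
  rw [dif_pos hβ]
  show lam hI _ hstd (φ ⟨monomial β 1, hβ⟩) = c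
  rw [← hc, mk_smul', smul_monomial, smul_eq_mul, mul_one, lam_mk, coeff_monomial, if_pos rfl]

lemma cf_of_zero (hI : IsMonomial I) (φ : Tgt I) (β : Fin n →₀ ℕ) (hβ : monomial β (1 : k) ∈ I)
    (hstd : monomial (shift β α) (1 : k) ∉ I) (h0 : φ ⟨monomial β 1, hβ⟩ = 0) :
    cf α φ β = 0 := by
  unfold cf
  rw [dif_pos hβ]
  show lam hI _ hstd (φ ⟨monomial β 1, hβ⟩) = 0
  rw [h0, map_zero]

lemma V_step (hI : IsMonomial I) (φ : Tgt I) (hφ : φ ∈ tPiece I α) (β : Fin n →₀ ℕ)
    (hβ : monomial β (1 : k) ∈ I) (l : Fin n) (hu : pt β α ∈ region I α)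
    (hv : pt (Finsupp.single l 1 + β) α ∈ region I α) :
    V α φ (pt β α) = V α φ (pt (Finsupp.single l 1 + β) α) := by
  have hβ1 : monomial (Finsupp.single l 1 + β) (1 : k) ∈ I := mono_add_mem _ hβ
  have hle : ∀ i, pt β α i ≤ pt (Finsupp.single l 1 + β) α i := by
    intro i
    rw [pt_apply, pt_apply, Finsupp.add_apply]
    push_cast
    have : (0 : ℤ) ≤ ((Finsupp.single l 1 : Fin n →₀ ℕ) i : ℤ) := Int.natCast_nonneg _
    omega
  have e : (⟨monomial (Finsupp.single l 1 + β) 1, hβ1⟩ : ↥I) =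
      (monomial (Finsupp.single l 1) (1 : k) : MvPolynomial (Fin n) k) •
        (⟨monomial β 1, hβ⟩ : ↥I) := by
    apply Subtype.ext
    rw [Submodule.coe_smul, smul_eq_mul, monomial_mul, one_mul]
  by_cases h1 : ∀ i, 0 ≤ pt (Finsupp.single l 1 + β) α i
  · have hstd1 : monomial (shift (Finsupp.single l 1 + β) α) (1 : k) ∉ I :=
      fun hm => ((mem_region_iff α _).1 hv).2 ⟨h1, hm⟩
    rw [V_nonneg α φ _ h1]
    by_cases h0 : ∀ i, 0 ≤ pt β α i
    · have hstd0 : monomial (shift β α) (1 : k) ∉ I :=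
        fun hm => ((mem_region_iff α _).1 hu).2 ⟨h0, hm⟩
      obtain ⟨c, hc⟩ := Submodule.mem_span_singleton.1 ((hφ β hβ).1 h0)
      rw [V_nonneg α φ _ h0, cf_of_span α hI φ β hβ hstd0 c hc]
      symm
      apply cf_of_span α hI φ _ hβ1 hstd1 c
      rw [e, map_smul, ← hc, shift_add α _ β h0, smul_eq_mk_mul, mk_smul', mk_smul', ← map_mul,
        smul_monomial, smul_monomial, monomial_mul, smul_eq_mul, mul_one, one_mul]
    · rw [V_neg α φ _ h0]
      symm
      apply cf_of_zero α hI φ _ hβ1 hstd1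
      have hz : φ ⟨monomial β 1, hβ⟩ = 0 := (hφ β hβ).2 (by push Not at h0; exact h0)
      rw [e, map_smul, hz, smul_zero]
  · have h0 : ¬ ∀ i, 0 ≤ pt β α i := fun h => h1 (fun i => le_trans (h i) (hle i))
    rw [V_neg α φ _ h0, V_neg α φ _ h1]

lemma V_adj (hI : IsMonomial I) (φ : Tgt I) (hφ : φ ∈ tPiece I α) (u v : ↥(region I α))
    (hadj : (Gr I α).Adj u v) : V α φ u.1 = V α φ v.1 := by
  obtain ⟨u, hu⟩ := u
  obtain ⟨v, hv⟩ := v
  have hadj' : (stepGraph (Fin n)).Adj u v := hadj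
  unfold stepGraph at hadj'
  rw [SimpleGraph.fromRel_adj] at hadj'
  obtain ⟨⟨β, hβ, rfl⟩, -⟩ := (mem_region_iff α u).1 hu
  obtain ⟨⟨β', hβ', rfl⟩, -⟩ := (mem_region_iff α v).1 hv
  have hsum : ∑ i, |pt β α i - pt β' α i| = 1 := by
    rcases hadj'.2 with h | h
    · exact h
    · rw [← h]
      exact Finset.sum_congr rfl (fun i _ => abs_sub_comm _ _)
  obtain ⟨l, rfl | rfl⟩ := step_cases α β β' hsum
  · exact V_step α hI φ hφ β hβ l hu hv
  · exact (V_step α hI φ hφ β' hβ' l hv hu).symm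

lemma V_reach (hI : IsMonomial I) (φ : Tgt I) (hφ : φ ∈ tPiece I α) {u v : ↥(region I α)}
    (h : (Gr I α).Reachable u v) : V α φ u.1 = V α φ v.1 := by
  obtain ⟨p⟩ := h
  induction p with
  | nil => rfl
  | cons hadj _ ih => exact (V_adj α hI φ hφ _ _ hadj).trans ih

open Classical in
/-- extension of a function on bounded components to all lattice points -/
def chat (c : BC I α → k) (v : Fin n → ℤ) : k :=
  if h : v ∈ region I α then
    (if h2 : ((Gr I α).connectedComponentMk ⟨v, h⟩).supp.Finite then c ⟨_, h2⟩ else 0)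
  else 0

lemma chat_of_mk (c : BC I α → k) (v : ↥(region I α)) (C : BC I α)
    (e : (Gr I α).connectedComponentMk v = C.1) : chat α c v.1 = c C := by
  obtain ⟨v, hv⟩ := v
  have h2 : ((Gr I α).connectedComponentMk ⟨v, hv⟩).supp.Finite := by
    rw [e]
    exact C.2
  unfold chat
  rw [dif_pos hv, dif_pos h2]
  congr 1
  exact Subtype.ext e

lemma chat_of_inf (c : BC I α → k) (v : ↥(region I α))
    (h : ¬ ((Gr I α).connectedComponentMk v).supp.Finite) : chat α c v.1 = 0 := by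
  obtain ⟨v, hv⟩ := v
  unfold chat
  rw [dif_pos hv, dif_neg h]

lemma chat_reach (c : BC I α → k) {u v : ↥(region I α)} (h : (Gr I α).Reachable u v) :
    chat α c u.1 = chat α c v.1 := by
  have e : (Gr I α).connectedComponentMk u = (Gr I α).connectedComponentMk v :=
    SimpleGraph.ConnectedComponent.eq.2 h
  by_cases h2 : ((Gr I α).connectedComponentMk u).supp.Finite
  · rw [chat_of_mk α c u ⟨_, h2⟩ rfl, chat_of_mk α c v ⟨_, h2⟩ e.symm]
  · rw [chat_of_inf α c u h2, chat_of_inf α c v (e ▸ h2)]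

open Classical in
/-- the values of the homomorphism attached to `c` -/
def GG (c : BC I α → k) (β : Fin n →₀ ℕ) : MvPolynomial (Fin n) k ⧸ I :=
  if pt β α ∈ region I α ∧ ∀ i, 0 ≤ pt β α i then
    Ideal.Quotient.mk I (monomial (shift β α) (chat α c (pt β α))) else 0

lemma GG_add (hn : 2 ≤ n) (c : BC I α → k) (μ β : Fin n →₀ ℕ)
    (hβ : monomial β (1 : k) ∈ I) :
    GG α c (μ + β) = Ideal.Quotient.mk I (monomial μ 1) * GG α c β := by
  have hμβ : monomial (μ + β) (1 : k) ∈ I := mono_add_mem μ hβ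
  unfold GG
  by_cases h1 : pt (μ + β) α ∈ region I α ∧ ∀ i, 0 ≤ pt (μ + β) α i
  · rw [if_pos h1]
    have hu : pt β α ∈ region I α := region_down hβ le_add_self h1.1
    have hre := reach α hβ _ μ rfl h1.1 hu
    have hch : chat α c (pt β α) = chat α c (pt (μ + β) α) := chat_reach α c hre
    by_cases h0 : ∀ i, 0 ≤ pt β α i
    · rw [if_pos ⟨hu, h0⟩, ← map_mul, monomial_mul, one_mul, shift_add α μ β h0, hch]
    · rw [if_neg (fun h => h0 h.2), mul_zero]
      obtain ⟨j, hj⟩ : ∃ j, pt β α j < 0 := by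
        push Not at h0
        exact h0
      have hz : chat α c (pt β α) = 0 :=
        chat_of_inf α c ⟨pt β α, hu⟩ (inf_of_neg α hn ⟨pt β α, hu⟩ j hj)
      rw [← hch, hz, monomial_zero, map_zero]
  · rw [if_neg h1]
    by_cases h2 : pt β α ∈ region I α ∧ ∀ i, 0 ≤ pt β α i
    · rw [if_pos h2, ← map_mul, monomial_mul, one_mul]
      symm
      refine Ideal.Quotient.eq_zero_iff_mem.2 (mono_smul_mem ?_ _)
      have hnn : ∀ i, 0 ≤ pt (μ + β) α i := by
        intro i
        have := h2.2 i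
        rw [pt_apply] at this ⊢
        rw [Finsupp.add_apply]
        push_cast
        omega
      rw [← shift_add α μ β h2.2]
      by_contra hm
      exact h1 ⟨pt_mem_region hμβ (fun h => hm h.2), hnn⟩
    · rw [if_neg h2, mul_zero]

lemma det (hI : IsMonomial I) (φ : Tgt I) (hφ : φ ∈ tPiece I α) (c : BC I α → k)
    (hK : ∀ v : ↥(region I α), chat α c v.1 = V α φ v.1) (β : Fin n →₀ ℕ)
    (hβ : monomial β (1 : k) ∈ I) :
    φ ⟨monomial β 1, hβ⟩ = GG α c β := by
  unfold GG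
  by_cases h : pt β α ∈ region I α ∧ ∀ i, 0 ≤ pt β α i
  · rw [if_pos h]
    obtain ⟨c', hc'⟩ := Submodule.mem_span_singleton.1 ((hφ β hβ).1 h.2)
    have hstd : monomial (shift β α) (1 : k) ∉ I :=
      fun hm => ((mem_region_iff α _).1 h.1).2 ⟨h.2, hm⟩
    have h1 : chat α c (pt β α) = c' := by
      rw [show chat α c (pt β α) = V α φ (pt β α) from hK ⟨pt β α, h.1⟩, V_nonneg α φ β h.2]
      exact cf_of_span α hI φ β hβ hstd c' hc'
    rw [h1, ← hc', mk_smul', smul_monomial, smul_eq_mul, mul_one]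
  · rw [if_neg h]
    by_cases h0 : ∀ i, 0 ≤ pt β α i
    · obtain ⟨c', hc'⟩ := Submodule.mem_span_singleton.1 ((hφ β hβ).1 h0)
      have hm : monomial (shift β α) (1 : k) ∈ I := by
        by_contra hm
        exact h ⟨pt_mem_region hβ (fun hh => hm hh.2), h0⟩
      rw [← hc', Ideal.Quotient.eq_zero_iff_mem.2 hm, smul_zero]
    · exact (hφ β hβ).2 (by push Not at h0; exact h0)

end Val

theorem main (k : Type u) [Field k] (n : ℕ) (hn : 2 ≤ n)
    (I : Ideal (MvPolynomial (Fin n) k)) (hI : IsMonomial I)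
    [Module.Finite k (MvPolynomial (Fin n) k ⧸ I)] (α : Fin n → ℤ) :
    Module.finrank k ↥(tPiece I α) = nBddComp I α := by
  classical
  obtain ⟨N, hN⟩ := exists_bound hI
  have hstdP : ∀ v : ↥(region I α), (∀ i, 0 ≤ v.1 i) → monomial (tn v.1) (1 : k) ∉ I :=
    fun v hv hm => ((mem_region_iff α v.1).1 v.2).2 ⟨hv, hm⟩
  have hPfin : ({v | ∀ i, 0 ≤ v.1 i} : Set ↥(region I α)).Finite := by
    refine Set.Finite.of_finite_image (f := fun v : ↥(region I α) => tn v.1)
      ((Set.finite_Iic (bN n N)).subset ?_) ?_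
    · rintro _ ⟨v, hv, rfl⟩
      exact std_in_box hN _ (hstdP v hv)
    · intro v hv w hw e
      apply Subtype.ext
      funext i
      have h3 : tn v.1 i = tn w.1 i := congrArg (fun f : Fin n →₀ ℕ => f i) e
      rw [tn_apply, tn_apply] at h3
      have h1 : 0 ≤ v.1 i := hv i
      have h2 : 0 ≤ w.1 i := hw i
      omega
  have hnnBC : ∀ (C : BC I α) (v : ↥(region I α)),
      (Gr I α).connectedComponentMk v = C.1 → ∀ i, 0 ≤ v.1 i := by
    intro C v e i
    by_contra hneg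
    push Not at hneg
    have := inf_of_neg α hn v i hneg
    rw [e] at this
    exact this C.2
  have hrep : ∀ C : BC I α, ∃ v : ↥(region I α), (Gr I α).connectedComponentMk v = C.1 := by
    intro C
    obtain ⟨v, hv⟩ := C.1.nonempty_supp
    exact ⟨v, hv⟩
  choose r hr using hrep
  have hrnn : ∀ C : BC I α, ∀ i, 0 ≤ (r C).1 i := fun C => hnnBC C (r C) (hr C)
  haveI : Finite ↥({v | ∀ i, 0 ≤ v.1 i} : Set ↥(region I α)) := hPfin.to_subtype
  haveI : Finite (BC I α) :=
    Finite.of_injective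
      (fun C : BC I α => (⟨r C, hrnn C⟩ : ↥({v | ∀ i, 0 ≤ v.1 i} : Set ↥(region I α)))) (by
        intro C C' e
        have e1 : r C = r C' := congrArg Subtype.val e
        apply Subtype.ext
        rw [← hr C, ← hr C', e1])
  haveI : Fintype (BC I α) := Fintype.ofFinite (BC I α)
  have hnegC : ∀ v : ↥(region I α), ¬ ((Gr I α).connectedComponentMk v).supp.Finite →
      ∃ w : ↥(region I α), (Gr I α).Reachable v w ∧ ¬ ∀ i, 0 ≤ w.1 i := by
    intro v hinf
    by_contra hcon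
    push Not at hcon
    refine hinf (hPfin.subset (fun w hw => ?_))
    exact hcon w ((SimpleGraph.ConnectedComponent.eq.1 hw).symm)
  have hin : ∀ C : BC I α, monomial (bof (r C).1 α) (1 : k) ∈ I :=
    fun C => (region_bof (r C).2).1
  have hpt : ∀ C : BC I α, pt (bof (r C).1 α) α = (r C).1 := fun C => (region_bof (r C).2).2
  have hstd : ∀ C : BC I α, monomial (shift (bof (r C).1 α) α) (1 : k) ∉ I := by
    intro C hm
    have : tn (r C).1 = shift (bof (r C).1 α) α := by rw [← tn_pt, hpt C]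
    exact hstdP (r C) (hrnn C) (this ▸ hm)
  let f : ↥(tPiece I α) →ₗ[k] (BC I α → k) :=
    LinearMap.pi (fun C : BC I α => (lam hI _ (hstd C)).comp
      ((evalL ⟨monomial (bof (r C).1 α) 1, hin C⟩).comp (tPiece I α).subtype))
  have hf : ∀ (φ : ↥(tPiece I α)) (C : BC I α), f φ C = V α φ.1 (r C).1 := by
    intro φ C
    unfold V cf
    rw [if_pos (hrnn C), dif_pos (hin C)]
    rfl
  have hK : ∀ (φ : ↥(tPiece I α)) (v : ↥(region I α)), chat α (f φ) v.1 = V α φ.1 v.1 := by
    intro φ v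
    by_cases h2 : ((Gr I α).connectedComponentMk v).supp.Finite
    · rw [chat_of_mk α (f φ) v ⟨_, h2⟩ rfl, hf]
      exact V_reach α hI φ.1 φ.2 (SimpleGraph.ConnectedComponent.eq.1 (hr ⟨_, h2⟩))
    · rw [chat_of_inf α (f φ) v h2]
      obtain ⟨w, hw, hwneg⟩ := hnegC v h2
      rw [V_reach α hI φ.1 φ.2 hw, V_neg α φ.1 _ hwneg]
  have hbij : Function.Bijective f := by
    refine ⟨?_, ?_⟩
    · intro x y hxy
      apply Subtype.ext
      refine ext_mono hI x.1 y.1 (fun β hβ => ?_)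
      rw [det α hI x.1 x.2 (f x) (hK x) β hβ, det α hI y.1 y.2 (f y) (hK y) β hβ, hxy]
    · intro c
      obtain ⟨φ, hφ⟩ := exists_tgt hI (GG α c) (fun μ β hβ => GG_add α hn c μ β hβ)
      have hφmem : φ ∈ tPiece I α := by
        intro β hβ
        rw [hφ β hβ]
        unfold GG
        refine ⟨fun h => ?_, fun h => ?_⟩
        · split_ifs with hc
          · exact Submodule.mem_span_singleton.2
              ⟨_, by rw [mk_smul', smul_monomial, smul_eq_mul, mul_one]⟩
          · exact Submodule.zero_mem _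
        · rw [if_neg]
          rintro ⟨-, hnn⟩
          obtain ⟨i, hi⟩ := h
          exact absurd (hnn i) (not_le.2 hi)
      refine ⟨⟨φ, hφmem⟩, ?_⟩
      funext C
      show lam hI _ (hstd C) (φ ⟨monomial (bof (r C).1 α) 1, hin C⟩) = c C
      rw [hφ _ (hin C)]
      unfold GG
      rw [if_pos ⟨by rw [hpt C]; exact (r C).2, by rw [hpt C]; exact hrnn C⟩, lam_mk,
        coeff_monomial, if_pos rfl, hpt C]
      exact chat_of_mk α c (r C) C (hr C)
  have e := LinearEquiv.ofBijective f hbij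
  rw [e.finrank_eq, Module.finrank_fintype_fun_eq_card]
  unfold nBddComp
  exact (Nat.card_eq_fintype_card (α := BC I α)).symm

end Groth.Agent.H4.TgtCC
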