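import Mathlib
import Groth.Prelude.Def_W4c1hilbpnTgt
import Groth.Agent.H4.TgtDec
import Groth.Agent.H4.TgtSS
import Groth.Agent.H4.TgtPow
import Groth.Agent.H4.TgtCC
import Groth.Agent.H4.HdInt

set_option autoImplicit false
universe u
open W4c1hilbpn MvPolynomial
open Groth.Agent.H4.TgtDec Groth.Agent.H4.TgtSS Groth.Agent.H4.TgtPow Groth.Agent.H4.TgtCC
open Groth.Agent.H4.HdCore Groth.Agent.H4.HdInt

noncomputable section
namespace Groth.Agent.H4.HdBridge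

variable {k : Type u} [Field k] {I : Ideal (MvPolynomial (Fin 3) k)}

/-- exponent vector as an integer vector -/
def toZ (β : Fin 3 →₀ ℕ) : X := fun i => (β i : ℤ)

lemma toZ_apply (β : Fin 3 →₀ ℕ) (i : Fin 3) : toZ β i = (β i : ℤ) := rfl

lemma tn_toZ (β : Fin 3 →₀ ℕ) : tn (toZ β) = β := by
  ext i
  rw [tn_apply, toZ_apply]
  exact Int.toNat_natCast _

lemma toZ_tn {v : X} (h : ∀ i, 0 ≤ v i) : toZ (tn v) = v := by
  funext i
  rw [toZ_apply, tn_apply]
  exact Int.toNat_of_nonneg (h i)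

lemma toZ_nonneg (β : Fin 3 →₀ ℕ) (i : Fin 3) : 0 ≤ toZ β i := Int.natCast_nonneg _

lemma toZ_add (μ β : Fin 3 →₀ ℕ) : toZ (μ + β) = toZ μ + toZ β := by
  funext i
  simp only [toZ_apply, Pi.add_apply, Finsupp.add_apply]
  push_cast
  rfl

lemma tn_add {v w : X} (hv : ∀ i, 0 ≤ v i) (hw : ∀ i, 0 ≤ w i) : tn (v + w) = tn v + tn w := by
  ext i
  simp only [tn_apply, Pi.add_apply, Finsupp.add_apply]
  have := hv i
  have := hw i
  omega

lemma tn_ee (l : Fin 3) : tn (ee l) = Finsupp.single l 1 := by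
  ext i
  rw [tn_apply, Finsupp.single_apply]
  by_cases h : i = l
  · subst h
    rw [ee_same, if_pos rfl]
    rfl
  · rw [ee_ne h, if_neg (Ne.symm h)]
    rfl

lemma shift_tn {v : X} (h : ∀ i, 0 ≤ v i) (α : X) : shift (tn v) α = tn (v + α) := by
  ext i
  rw [shift_apply, tn_apply, tn_apply, Pi.add_apply, Int.toNat_of_nonneg (h i)]

/-- `Λ` is the set of standard exponents of `I` -/
def Spec (I : Ideal (MvPolynomial (Fin 3) k)) (Λ : Finset X) : Prop :=
  ∀ v : X, v ∈ Λ ↔ (∀ i, 0 ≤ v i) ∧ monomial (tn v) (1 : k) ∉ I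

variable {Λ : Finset X}

lemma isStair (hΛ : Spec I Λ) : IsStair Λ :=
  ⟨fun γ h => ((hΛ γ).1 h).1, fun γ h γ' h0 hle => (hΛ γ').2 ⟨h0, fun hm =>
    ((hΛ γ).1 h).2 (mono_of_le (Finsupp.le_def.2 (fun i => by
      rw [tn_apply, tn_apply]
      exact Int.toNat_le_toNat (hle i))) hm)⟩⟩

lemma mem_I_of (hΛ : Spec I Λ) {v : X} (h0 : ∀ i, 0 ≤ v i) (hn : v ∉ Λ) :
    monomial (tn v) (1 : k) ∈ I := by
  by_contra h
  exact hn ((hΛ v).2 ⟨h0, h⟩)

lemma not_mem_I_of (hΛ : Spec I Λ) {v : X} (h : v ∈ Λ) : monomial (tn v) (1 : k) ∉ I :=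
  ((hΛ v).1 h).2

lemma u0_mem_I (hΛ : Spec I Λ) {α v : X} (h : v ∈ U0 Λ α) : monomial (tn v) (1 : k) ∈ I :=
  mem_I_of hΛ (mem_U0.1 h).1 (mem_U0.1 h).2.1

lemma u0_std (hΛ : Spec I Λ) {α v : X} (h : v ∈ U0 Λ α) : monomial (tn (v + α)) (1 : k) ∉ I :=
  not_mem_I_of hΛ (mem_U0.1 h).2.2

/-- the coefficient function of a homomorphism -/
def xiFun (hI : IsMonomial I) (hΛ : Spec I Λ) (α : X) (φ : Tgt I) (v : X) : k :=
  if h : v ∈ U0 Λ α then
    lam hI (tn (v + α)) (u0_std hΛ h) (φ ⟨monomial (tn v) 1, u0_mem_I hΛ h⟩) else 0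

lemma xiFun_pos (hI : IsMonomial I) (hΛ : Spec I Λ) (α : X) (φ : Tgt I) {v : X}
    (h : v ∈ U0 Λ α) : xiFun hI hΛ α φ v =
      lam hI (tn (v + α)) (u0_std hΛ h) (φ ⟨monomial (tn v) 1, u0_mem_I hΛ h⟩) := dif_pos h

lemma xiFun_neg (hI : IsMonomial I) (hΛ : Spec I Λ) (α : X) (φ : Tgt I) {v : X}
    (h : v ∉ U0 Λ α) : xiFun hI hΛ α φ v = 0 := dif_neg h

/-- the coefficient map -/
def xiLin (hI : IsMonomial I) (hΛ : Spec I Λ) (α : X) : Tgt I →ₗ[k] (X → k) where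
  toFun φ := xiFun hI hΛ α φ
  map_add' φ ψ := by
    funext v
    by_cases h : v ∈ U0 Λ α
    · rw [Pi.add_apply, xiFun_pos hI hΛ α _ h, xiFun_pos hI hΛ α _ h, xiFun_pos hI hΛ α _ h,
        LinearMap.add_apply, map_add]
    · rw [Pi.add_apply, xiFun_neg hI hΛ α _ h, xiFun_neg hI hΛ α _ h, xiFun_neg hI hΛ α _ h,
        add_zero]
  map_smul' c φ := by
    funext v
    by_cases h : v ∈ U0 Λ α
    · rw [Pi.smul_apply, xiFun_pos hI hΛ α _ h, xiFun_pos hI hΛ α _ h, LinearMap.smul_apply,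
        map_smul, RingHom.id_apply]
    · rw [Pi.smul_apply, xiFun_neg hI hΛ α _ h, xiFun_neg hI hΛ α _ h, smul_zero]

section Piece
variable (hI : IsMonomial I) (hΛ : Spec I Λ) {α : X} {φ : Tgt I} (hφ : φ ∈ tPiece I α)

include hφ in
lemma phi_eq {v : X} (h : v ∈ U0 Λ α) :
    φ ⟨monomial (tn v) 1, u0_mem_I hΛ h⟩ =
      xiFun hI hΛ α φ v • Ideal.Quotient.mk I (monomial (tn (v + α)) (1 : k)) := by
  have h0 := (mem_U0.1 h).1
  have hnn : ∀ i, 0 ≤ ((tn v i : ℕ) : ℤ) + α i := fun i => by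
    have := (isStair hΛ).nonneg _ (mem_U0.1 h).2.2 i
    rw [Pi.add_apply] at this
    rw [tn_apply, Int.toNat_of_nonneg (h0 i)]
    exact this
  obtain ⟨c, hc⟩ := Submodule.mem_span_singleton.1 ((hφ (tn v) (u0_mem_I hΛ h)).1 hnn)
  rw [shift_tn h0] at hc
  have hx : xiFun hI hΛ α φ v = c := by
    rw [xiFun_pos hI hΛ α φ h, ← hc, map_smul, lam_mk, coeff_monomial, if_pos rfl, smul_eq_mul,
      mul_one]
  rw [hx, hc]

include hφ in
lemma phi_zero {v : X} (h0 : ∀ i, 0 ≤ v i) (hn : v ∉ Λ) (hU : v ∉ U0 Λ α) :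
    φ ⟨monomial (tn v) 1, mem_I_of hΛ h0 hn⟩ = 0 := by
  by_cases hnn : ∀ i, 0 ≤ (v + α) i
  · have hI' : monomial (tn (v + α)) (1 : k) ∈ I :=
      mem_I_of hΛ hnn (fun hm => hU (mem_U0.2 ⟨h0, hn, hm⟩))
    have hnn' : ∀ i, 0 ≤ ((tn v i : ℕ) : ℤ) + α i := fun i => by
      have := hnn i
      rw [Pi.add_apply] at this
      rw [tn_apply, Int.toNat_of_nonneg (h0 i)]
      exact this
    have h1 := (hφ (tn v) (mem_I_of hΛ h0 hn)).1 hnn'
    rw [shift_tn h0, Ideal.Quotient.eq_zero_iff_mem.2 hI'] at h1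
    simpa using h1
  · push Not at hnn
    obtain ⟨i, hi⟩ := hnn
    refine (hφ (tn v) (mem_I_of hΛ h0 hn)).2 ⟨i, ?_⟩
    rw [tn_apply, Int.toNat_of_nonneg (h0 i)]
    rw [Pi.add_apply] at hi
    exact hi

include hφ in
lemma xi_step (v : X) (l : Fin 3) (h0 : ∀ i, 0 ≤ v i) (hn : v ∉ Λ) (h : v + (α + ee l) ∈ Λ) :
    xiFun hI hΛ α φ (v + ee l) = xiFun hI hΛ α φ v := by
  have hS := isStair hΛ
  have hn' : v + ee l ∉ Λ := fun hh => hn (mem_of_add_ee hS h0 hh)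
  have h0' := add_ee_nonneg l h0
  have e1 : v + ee l + α = v + (α + ee l) := by abel
  have hU' : v + ee l ∈ U0 Λ α := mem_U0.2 ⟨h0', hn', by rw [e1]; exact h⟩
  have hx : (⟨monomial (tn (v + ee l)) 1, u0_mem_I hΛ hU'⟩ : ↥I) =
      (monomial (Finsupp.single l 1) (1 : k) : MvPolynomial (Fin 3) k) •
        (⟨monomial (tn v) 1, mem_I_of hΛ h0 hn⟩ : ↥I) := by
    apply Subtype.ext
    show monomial (tn (v + ee l)) (1 : k) = monomial (Finsupp.single l 1) 1 * monomial (tn v) 1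
    rw [monomial_mul, one_mul, tn_add h0 (ee_nonneg l), tn_ee, add_comm]
  by_cases hU : v ∈ U0 Λ α
  · have hA := phi_eq hI hΛ hφ hU
    have hvα : ∀ i, 0 ≤ (v + α) i := hS.nonneg _ (mem_U0.1 hU).2.2
    have e2 : tn (v + ee l + α) = Finsupp.single l 1 + tn (v + α) := by
      rw [show v + ee l + α = v + α + ee l by abel, tn_add hvα (ee_nonneg l), tn_ee, add_comm]
    rw [xiFun_pos hI hΛ α φ hU', hx, map_smul, hA, smul_eq_mk_mul, mk_smul', smul_monomial,
      ← map_mul, monomial_mul, lam_mk, coeff_monomial, if_pos e2.symm, smul_eq_mul, mul_one,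
      one_mul]
  · rw [xiFun_neg hI hΛ α φ hU, xiFun_pos hI hΛ α φ hU', hx, map_smul,
      phi_zero hΛ hφ h0 hn hU, smul_zero, map_zero]

include hφ in
lemma xi_mem_TF : xiFun hI hΛ α φ ∈ TF (k := k) Λ α :=
  ⟨fun β hβ => xiFun_neg hI hΛ α φ hβ, fun β l h0 hn h => xi_step hI hΛ hφ β l h0 hn h⟩

include hφ in
lemma eq_zero_of_xi (h : xiFun hI hΛ α φ = 0) : φ = 0 := by
  refine ext_mono hI φ 0 (fun β hβ => ?_)
  rw [LinearMap.zero_apply]
  have h0 : ∀ i, 0 ≤ toZ β i := toZ_nonneg β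
  have hn : toZ β ∉ Λ := fun hm => by
    have := not_mem_I_of hΛ hm
    rw [tn_toZ] at this
    exact this hβ
  have hx : (⟨monomial β 1, hβ⟩ : ↥I) = ⟨monomial (tn (toZ β)) 1, mem_I_of hΛ h0 hn⟩ := by
    apply Subtype.ext
    show monomial β (1 : k) = monomial (tn (toZ β)) 1
    rw [tn_toZ]
  rw [hx]
  by_cases hU : toZ β ∈ U0 Λ α
  · rw [phi_eq hI hΛ hφ hU, h, Pi.zero_apply, zero_smul]
  · exact phi_zero hΛ hφ h0 hn hU

end Piece


section Surj
variable (hI : IsMonomial I) (hΛ : Spec I Λ) {α : X} {ψ : X → k} (hψ : ψ ∈ TF (k := k) Λ α)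

include hΛ hψ in
lemma psi_add : ∀ (N : ℕ) (μ β : X), (∀ i, 0 ≤ μ i) → ∑ i, μ i = (N : ℤ) → (∀ i, 0 ≤ β i) →
    β ∉ Λ → μ + β + α ∈ Λ → ψ (μ + β) = ψ β := by
  have hS := isStair hΛ
  intro N
  induction N with
  | zero =>
    intro μ β hμ hsum h0 hn h
    have hμ0 : μ = 0 := by
      funext i
      push_cast at hsum
      exact (Finset.sum_eq_zero_iff_of_nonneg (fun i _ => hμ i)).1 hsum i (Finset.mem_univ i)
    rw [hμ0, zero_add]
  | succ N ih =>
    intro μ β hμ hsum h0 hn h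
    obtain ⟨l, hl⟩ : ∃ l, 0 < μ l := by
      by_contra hc
      push Not at hc
      have := Finset.sum_nonpos (s := Finset.univ) (fun i _ => hc i)
      rw [hsum] at this
      push_cast at this
      omega
    have hμ' : ∀ i, 0 ≤ (μ - ee l) i := by
      intro i
      rw [Pi.sub_apply]
      by_cases hi : i = l
      · subst hi
        rw [ee_same]
        omega
      · rw [ee_ne hi]
        have := hμ i
        omega
    have hsum' : ∑ i, (μ - ee l) i = (N : ℤ) := by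
      simp only [Pi.sub_apply, Finset.sum_sub_distrib]
      have : ∑ j, ee l j = 1 := by
        unfold ee
        rw [Finset.sum_pi_single', if_pos (Finset.mem_univ l)]
      rw [this, hsum]
      push_cast
      ring
    have e1 : μ + β = ((μ - ee l) + β) + ee l := by abel
    have h0' : ∀ i, 0 ≤ ((μ - ee l) + β) i := fun i => by
      rw [Pi.add_apply]
      exact add_nonneg (hμ' i) (h0 i)
    have hn' : (μ - ee l) + β ∉ Λ := fun hm => hn (hS.down _ hm β h0 (fun i => by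
      rw [Pi.add_apply]
      have := hμ' i
      omega))
    have hstep : ((μ - ee l) + β) + (α + ee l) ∈ Λ := by
      have e : (μ - ee l) + β + (α + ee l) = μ + β + α := by abel
      rw [e]
      exact h
    have s1 : ψ (μ + β) = ψ ((μ - ee l) + β) := by
      rw [e1]
      exact hψ.2 _ l h0' hn' hstep
    rw [s1]
    by_cases hm : (μ - ee l) + β + α ∈ Λ
    · exact ih (μ - ee l) β hμ' hsum' h0 hn hm
    · have z1 : ψ ((μ - ee l) + β) = 0 := hψ.1 _ (fun hU => hm (mem_U0.1 hU).2.2)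
      have z2 : ψ β = 0 := by
        refine hψ.1 _ (fun hU => hm ?_)
        have hba := (mem_U0.1 hU).2.2
        refine hS.down _ h _ (fun i => ?_) (fun i => ?_)
        · have a1 := hS.nonneg _ hba i
          have a2 := hμ' i
          rw [Pi.add_apply] at a1
          rw [Pi.add_apply, Pi.add_apply]
          omega
        · simp only [Pi.add_apply, Pi.sub_apply]
          have := ee_nonneg l i
          omega
      rw [z1, z2]

include hΛ hψ in
lemma psi_add' (μ β : X) (hμ : ∀ i, 0 ≤ μ i) (h0 : ∀ i, 0 ≤ β i) (hn : β ∉ Λ)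
    (h : μ + β + α ∈ Λ) : ψ (μ + β) = ψ β :=
  psi_add hΛ hψ (∑ i, μ i).toNat μ β hμ
    (Int.toNat_of_nonneg (Finset.sum_nonneg (fun i _ => hμ i))).symm h0 hn h

/-- the values of the homomorphism attached to `ψ` -/
def Gq (I : Ideal (MvPolynomial (Fin 3) k)) (α : X) (ψ : X → k) (β : Fin 3 →₀ ℕ) :
    MvPolynomial (Fin 3) k ⧸ I :=
  ψ (toZ β) • Ideal.Quotient.mk I (monomial (shift β α) (1 : k))

lemma mk_mono_mul_smul (c : k) (μ s : Fin 3 →₀ ℕ) :
    Ideal.Quotient.mk I (monomial μ (1 : k)) * (c • Ideal.Quotient.mk I (monomial s (1 : k))) =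
      c • Ideal.Quotient.mk I (monomial (μ + s) (1 : k)) := by
  rw [mk_smul', mk_smul', ← map_mul, mul_smul_comm, monomial_mul, one_mul]

include hΛ hψ in
lemma Gq_add (μ β : Fin 3 →₀ ℕ) (hβ : monomial β (1 : k) ∈ I) :
    Gq I α ψ (μ + β) = Ideal.Quotient.mk I (monomial μ 1) * Gq I α ψ β := by
  have hS := isStair hΛ
  have hnβ : toZ β ∉ Λ := fun hm => by
    have := not_mem_I_of hΛ hm
    rw [tn_toZ] at this
    exact this hβ
  have key : toZ (μ + β) + α ∈ Λ → ψ (toZ (μ + β)) = ψ (toZ β) := by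
    intro h
    rw [toZ_add] at h ⊢
    exact psi_add' hΛ hψ (toZ μ) (toZ β) (toZ_nonneg μ) (toZ_nonneg β) hnβ h
  unfold Gq
  by_cases hU : toZ β ∈ U0 Λ α
  · have hba := (mem_U0.1 hU).2.2
    have h0 : ∀ i, 0 ≤ pt β α i := fun i => by
      have := hS.nonneg _ hba i
      rw [Pi.add_apply, toZ_apply] at this
      rw [pt_apply]
      exact this
    rw [mk_mono_mul_smul, ← shift_add α μ β h0]
    by_cases hm : toZ (μ + β) + α ∈ Λ
    · rw [key hm]
    · have hI' : monomial (shift (μ + β) α) (1 : k) ∈ I := by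
        have hnn : ∀ i, 0 ≤ (toZ (μ + β) + α) i := fun i => by
          have := h0 i
          rw [pt_apply] at this
          rw [Pi.add_apply, toZ_apply, Finsupp.add_apply]
          push_cast
          omega
        have := mem_I_of hΛ hnn hm
        rw [← shift_tn (toZ_nonneg _), tn_toZ] at this
        exact this
      rw [Ideal.Quotient.eq_zero_iff_mem.2 hI', smul_zero, smul_zero]
  · have z : ψ (toZ β) = 0 := hψ.1 _ hU
    rw [z, zero_smul, mul_zero]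
    by_cases hm : toZ (μ + β) + α ∈ Λ
    · rw [key hm, z, zero_smul]
    · rw [hψ.1 _ (fun hU2 => hm (mem_U0.1 hU2).2.2), zero_smul]

include hI hΛ hψ in
lemma exists_phi : ∃ φ : Tgt I, φ ∈ tPiece I α ∧ xiFun hI hΛ α φ = ψ := by
  have hS := isStair hΛ
  obtain ⟨φ, hφ⟩ := exists_tgt hI (Gq I α ψ) (fun μ β hβ => Gq_add hΛ hψ μ β hβ)
  have hmem : φ ∈ tPiece I α := by
    intro β hβ
    rw [hφ β hβ]
    refine ⟨fun _ => Submodule.smul_mem _ _ (Submodule.mem_span_singleton_self _), fun hneg => ?_⟩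
    obtain ⟨i, hi⟩ := hneg
    have hnU : toZ β ∉ U0 Λ α := fun hU => by
      have := hS.nonneg _ (mem_U0.1 hU).2.2 i
      rw [Pi.add_apply, toZ_apply] at this
      omega
    unfold Gq
    rw [hψ.1 _ hnU, zero_smul]
  refine ⟨φ, hmem, ?_⟩
  funext v
  by_cases h : v ∈ U0 Λ α
  · have h0 := (mem_U0.1 h).1
    rw [xiFun_pos hI hΛ α φ h, hφ (tn v) (u0_mem_I hΛ h)]
    unfold Gq
    rw [map_smul, shift_tn h0, lam_mk, coeff_monomial, if_pos rfl, smul_eq_mul, mul_one, toZ_tn h0]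
  · rw [xiFun_neg hI hΛ α φ h, hψ.1 _ h]

end Surj

theorem finrank_tPiece (hI : IsMonomial I) (hΛ : Spec I Λ) (α : X) :
    Module.finrank k ↥(tPiece I α) = Module.finrank k ↥(TF (k := k) Λ α) := by
  let f : ↥(tPiece I α) →ₗ[k] ↥(TF (k := k) Λ α) :=
    ((xiLin hI hΛ α).comp (tPiece I α).subtype).codRestrict (TF Λ α)
      (fun φ => xi_mem_TF hI hΛ φ.2)
  have hinj : Function.Injective f := by
    intro φ₁ φ₂ h
    have h1 : xiFun hI hΛ α φ₁.1 = xiFun hI hΛ α φ₂.1 := congrArg Subtype.val h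
    have h2 : xiFun hI hΛ α (φ₁.1 - φ₂.1) = 0 := by
      have e := (xiLin hI hΛ α).map_sub φ₁.1 φ₂.1
      show xiLin hI hΛ α (φ₁.1 - φ₂.1) = 0
      rw [e]
      exact sub_eq_zero.2 h1
    have h3 := eq_zero_of_xi hI hΛ ((tPiece I α).sub_mem φ₁.2 φ₂.2) h2
    exact Subtype.ext (sub_eq_zero.1 h3)
  have hsurj : Function.Surjective f := by
    intro ψ
    obtain ⟨φ, hφ, hx⟩ := exists_phi hI hΛ ψ.2
    exact ⟨⟨φ, hφ⟩, Subtype.ext hx⟩
  exact (LinearEquiv.ofBijective f ⟨hinj, hsurj⟩).finrank_eq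

lemma exists_spec (hI : IsMonomial I) [Module.Finite k (MvPolynomial (Fin 3) k ⧸ I)] :
    ∃ Λ : Finset X, Spec I Λ := by
  classical
  obtain ⟨N, hN⟩ := exists_bound hI
  refine ⟨((Finset.Iic (bN 3 N)).filter (fun δ => monomial δ (1 : k) ∉ I)).image toZ, fun v => ?_⟩
  rw [Finset.mem_image]
  constructor
  · rintro ⟨δ, hδ, rfl⟩
    rw [Finset.mem_filter] at hδ
    refine ⟨toZ_nonneg δ, ?_⟩
    rw [tn_toZ]
    exact hδ.2
  · rintro ⟨h0, hn⟩
    exact ⟨tn v, Finset.mem_filter.2 ⟨Finset.mem_Iic.2 (std_in_box hN _ hn), hn⟩, toZ_tn h0⟩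

/-- dimension formula for the graded pieces with a negative coordinate -/
theorem finrank_formula (hI : IsMonomial I) (hΛ : Spec I Λ) (α : X) (m₀ : Fin 3)
    (hm : α m₀ < 0) :
    Module.finrank k ↥(tPiece I α) + (P0 Λ α).card + (M Λ α : Matrix _ _ k).rank =
      (P1 Λ α).card := by
  rw [finrank_tPiece hI hΛ α]
  exact finrank_TF (isStair hΛ) α m₀ hm

lemma Nn_neg (Λ : Finset X) (δ : X) : Nn Λ (-δ) = Nn Λ δ := by
  unfold Nn
  refine Finset.card_nbij' (fun γ => γ + -δ) (fun γ => γ + δ) ?_ ?_ ?_ ?_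
  · intro γ hγ
    rw [Finset.mem_coe, Finset.mem_filter] at hγ ⊢
    refine ⟨hγ.2, ?_⟩
    rw [neg_add_cancel_right]
    exact hγ.1
  · intro γ hγ
    rw [Finset.mem_coe, Finset.mem_filter] at hγ ⊢
    refine ⟨hγ.2, ?_⟩
    rw [add_neg_cancel_right]
    exact hγ.1
  · intro γ _
    exact neg_add_cancel_right γ δ
  · intro γ _
    exact add_neg_cancel_right γ δ

/-- the duality identity for graded pieces of mixed sign -/
theorem GI (hI : IsMonomial I) (hΛ : Spec I Λ) (α : X) (m₀ m₁ : Fin 3) (hm₀ : α m₀ < 0)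
    (hm₁ : 0 ≤ α m₁) :
    (Module.finrank k ↥(tPiece I α) : ℤ) - Module.finrank k ↥(tPiece I (aDual α)) =
      (∑ l : Fin 3, (Nn Λ (α + ee l) : ℤ)) - Nn Λ α -
        (∑ m : Fin 3, (Nn Λ (α + one3 - ee m) : ℤ)) + Nn Λ (α + one3) := by
  have hd : aDual α m₁ < 0 := by
    have e : aDual α m₁ = -α m₁ - 1 := rfl
    rw [e]
    omega
  have h1 := finrank_formula hI hΛ α m₀ hm₀
  have h2 := finrank_formula hI hΛ (aDual α) m₁ hd
  rw [← rank_dual (k := k) Λ α] at h2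
  have c1 : (P1 Λ (aDual α)).card = (P2 Λ α).card := (Finset.card_eq_of_equiv (sig2 Λ α)).symm
  have c2 : (P0 Λ (aDual α)).card = Nn Λ (α + one3) := by
    rw [card_P0, show aDual α = -(α + one3) by unfold aDual; abel, Nn_neg]
  rw [c1, c2, card_P2] at h2
  rw [card_P0, card_P1] at h1
  have h1' : (Module.finrank k ↥(tPiece I α) : ℤ) + Nn Λ α + (M Λ α : Matrix _ _ k).rank =
      ∑ l : Fin 3, (Nn Λ (α + ee l) : ℤ) := by exact_mod_cast h1
  have h2' : (Module.finrank k ↥(tPiece I (aDual α)) : ℤ) + Nn Λ (α + one3) +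
      (M Λ α : Matrix _ _ k).rank = ∑ m : Fin 3, (Nn Λ (α + one3 - ee m) : ℤ) := by
    exact_mod_cast h2
  linarith

end Groth.Agent.H4.HdBridge
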