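import Mathlib
import Groth.Prelude.Def_W4c1hilbpnTgt
import Groth.Agent.H4.TgtDec
import Groth.Agent.H4.TgtSS

set_option autoImplicit false
universe u
open W4c1hilbpn MvPolynomial
open Groth.Agent.H4.TgtDec Groth.Agent.H4.TgtSS

noncomputable section
namespace Groth.Agent.H4.TgtGen

variable {k : Type u} [Field k] {n : ℕ} {I : Ideal (MvPolynomial (Fin n) k)}

/-- a minimal generator `β` and a socle monomial `δ` give a nonzero tangent vector of
degree `δ - β` -/
theorem socle_tgt (hI : IsMonomial I) (β δ : Fin n →₀ ℕ)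
    (hβ : monomial β (1 : k) ∈ I)
    (hmin : ∀ μ γ : Fin n →₀ ℕ, monomial γ (1 : k) ∈ I → μ + γ = β → μ = 0)
    (hδ : monomial δ (1 : k) ∉ I)
    (hsoc : ∀ i, monomial (Finsupp.single i 1 + δ) (1 : k) ∈ I) :
    tPiece I (fun i => ((δ i : ℕ) : ℤ) - ((β i : ℕ) : ℤ)) ≠ ⊥ := by
  classical
  have hsoc' : ∀ μ : Fin n →₀ ℕ, μ ≠ 0 → monomial (μ + δ) (1 : k) ∈ I := by
    intro μ hμ
    obtain ⟨i, hi⟩ : ∃ i, μ i ≠ 0 := by
      by_contra hcon
      push Not at hcon
      exact hμ (Finsupp.ext hcon)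
    refine mono_of_le ?_ (hsoc i)
    exact add_le_add_left (Finsupp.single_le_iff.2 (Nat.one_le_iff_ne_zero.2 hi)) δ
  let G : (Fin n →₀ ℕ) → MvPolynomial (Fin n) k ⧸ I :=
    fun γ => if γ = β then Ideal.Quotient.mk I (monomial δ 1) else 0
  have hG : ∀ μ γ, monomial γ (1 : k) ∈ I →
      G (μ + γ) = Ideal.Quotient.mk I (monomial μ 1) * G γ := by
    intro μ γ hγ
    by_cases hμ : μ = 0
    · subst hμ
      rw [zero_add, show monomial (0 : Fin n →₀ ℕ) (1 : k) = 1 from C_1, map_one, one_mul]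
    · have hne : μ + γ ≠ β := fun e => hμ (hmin μ γ hγ e)
      show (if μ + γ = β then _ else _) = _ * (if γ = β then _ else _)
      rw [if_neg hne]
      split_ifs with hγβ
      · rw [← map_mul, monomial_mul, one_mul]
        exact (Ideal.Quotient.eq_zero_iff_mem.2 (hsoc' μ hμ)).symm
      · rw [mul_zero]
  obtain ⟨φ, hφ⟩ := exists_tgt hI G hG
  set α : Fin n → ℤ := fun i => ((δ i : ℕ) : ℤ) - ((β i : ℕ) : ℤ) with hαdef
  have hshift : shift β α = δ := by
    ext i
    rw [shift_apply]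
    simp only [hαdef]
    omega
  have hmemφ : φ ∈ tPiece I α := by
    intro γ hγ
    rw [hφ γ hγ]
    refine ⟨fun h => ?_, fun h => ?_⟩
    · show (if γ = β then _ else _) ∈ _
      split_ifs with hγβ
      · rw [hγβ, hshift]
        exact Submodule.mem_span_singleton_self _
      · exact Submodule.zero_mem _
    · show (if γ = β then _ else _) = _
      rw [if_neg]
      rintro rfl
      obtain ⟨i, hi⟩ := h
      simp only [hαdef] at hi
      omega
  have hφne : φ ≠ 0 := by
    intro h0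
    have := hφ β hβ
    rw [h0] at this
    have h2 : G β = Ideal.Quotient.mk I (monomial δ 1) := if_pos rfl
    rw [h2] at this
    exact hδ (Ideal.Quotient.eq_zero_iff_mem.1 this.symm)
  intro hbot
  rw [hbot, Submodule.mem_bot] at hmemφ
  exact hφne hmemφ

theorem exists_corner (hI : IsMonomial I) [Module.Finite k (MvPolynomial (Fin n) k ⧸ I)]
    (r : Fin n) (h1 : monomial (0 : Fin n →₀ ℕ) (1 : k) ∉ I) :
    ∃ (v : ℕ) (δ : Fin n →₀ ℕ), monomial (Finsupp.single r (v + 1)) (1 : k) ∈ I ∧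
      monomial (Finsupp.single r v) (1 : k) ∉ I ∧ δ r = v ∧ monomial δ (1 : k) ∉ I ∧
      ∀ i, monomial (Finsupp.single i 1 + δ) (1 : k) ∈ I := by
  classical
  obtain ⟨N, hN⟩ := exists_bound hI
  have hex := exists_pow_mem hI (I := I) r
  obtain ⟨c, hc, hcmin⟩ : ∃ c, monomial (Finsupp.single r c) (1 : k) ∈ I ∧
      ∀ s < c, monomial (Finsupp.single r s) (1 : k) ∉ I :=
    ⟨Nat.find hex, Nat.find_spec hex, fun s hs => Nat.find_min hex hs⟩
  have hc0 : c ≠ 0 := by
    rintro rfl
    rw [Finsupp.single_zero] at hc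
    exact h1 hc
  obtain ⟨v, rfl⟩ : ∃ v, c = v + 1 := ⟨c - 1, by omega⟩
  have hv : monomial (Finsupp.single r v) (1 : k) ∉ I := hcmin v (Nat.lt_succ_self v)
  set s : Finset (Fin n →₀ ℕ) :=
    (Finset.Iic (bN n N)).filter (fun δ => δ r = v ∧ monomial δ (1 : k) ∉ I) with hs
  have hne : s.Nonempty := ⟨Finsupp.single r v, by
    rw [hs, Finset.mem_filter, Finset.mem_Iic]
    exact ⟨std_in_box hN _ hv, Finsupp.single_eq_same, hv⟩⟩
  obtain ⟨δ, hδs, hmax⟩ := Finset.exists_max_image s (fun δ => ∑ i, δ i) hne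
  rw [hs, Finset.mem_filter, Finset.mem_Iic] at hδs
  obtain ⟨-, hδr, hδ⟩ := hδs
  refine ⟨v, δ, hc, hv, hδr, hδ, fun i => ?_⟩
  by_cases hir : i = r
  · subst hir
    refine mono_of_le (Finsupp.single_le_iff.2 ?_) hc
    rw [Finsupp.add_apply, Finsupp.single_eq_same, hδr]
    omega
  · by_contra hnot
    have hmem : Finsupp.single i 1 + δ ∈ s := by
      rw [hs, Finset.mem_filter, Finset.mem_Iic]
      refine ⟨std_in_box hN _ hnot, ?_, hnot⟩
      rw [Finsupp.add_apply, Finsupp.single_apply, if_neg hir, zero_add, hδr]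
    have := hmax _ hmem
    have hsum : ∑ j, (Finsupp.single i 1 + δ : Fin n →₀ ℕ) j = 1 + ∑ j, δ j := by
      simp only [Finsupp.add_apply, Finset.sum_add_distrib]
      congr 1
      rw [Finset.sum_eq_single i]
      · exact Finsupp.single_eq_same
      · intro j _ hj
        rw [Finsupp.single_apply, if_neg (Ne.symm hj)]
      · intro h; exact absurd (Finset.mem_univ i) h
    simp only [hsum] at this
    omega

theorem two_neg_piece (hI : IsMonomial I) [Module.Finite k (MvPolynomial (Fin n) k ⧸ I)]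
    (r : Fin n) (h1 : monomial (0 : Fin n →₀ ℕ) (1 : k) ∉ I) (β : Fin n →₀ ℕ)
    (hβ : monomial β (1 : k) ∈ I)
    (hmin : ∀ μ γ : Fin n →₀ ℕ, monomial γ (1 : k) ∈ I → μ + γ = β → μ = 0)
    (hβr : β r = 0)
    (hg : ∀ p, p ≠ r → ∃ g : Fin n →₀ ℕ, monomial g (1 : k) ∈ I ∧ g p ≤ β p ∧
      (∀ i, i ≠ p → i ≠ r → g i = 0) ∧ monomial (Finsupp.single r (g r)) (1 : k) ∉ I) :
    ∃ α : Fin n → ℤ, (∀ i, α i < 0 ↔ i ≠ r) ∧ tPiece I α ≠ ⊥ := by
  obtain ⟨v, δ, hv1, hv, hδr, hδ, hsoc⟩ := exists_corner hI r h1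
  have hlt : ∀ p, p ≠ r → δ p < β p := by
    intro p hp
    obtain ⟨g, hgI, hgp, hg0, hgr⟩ := hg p hp
    by_contra hge
    push Not at hge
    apply hδ
    refine mono_of_le (Finsupp.le_def.2 (fun i => ?_)) hgI
    by_cases hip : i = p
    · subst hip; omega
    · by_cases hir : i = r
      · subst hir
        rw [hδr]
        by_contra hcon
        push Not at hcon
        exact hgr (mono_of_le (Finsupp.single_le_iff.2 (by
          rw [Finsupp.single_eq_same]; omega)) hv1)
      · rw [hg0 i hip hir]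
        exact Nat.zero_le _
  refine ⟨fun i => ((δ i : ℕ) : ℤ) - ((β i : ℕ) : ℤ), fun i => ?_,
    socle_tgt hI β δ hβ hmin hδ hsoc⟩
  by_cases hir : i = r
  · subst hir
    simp only [hβr, ne_eq, not_true_eq_false, iff_false, not_lt]
    omega
  · have := hlt i hir
    simp only [ne_eq, hir, not_false_eq_true, iff_true]
    omega


section Three

lemma e3_0 (a b c : ℕ) : e3 a b c 0 = a := rfl
lemma e3_1 (a b c : ℕ) : e3 a b c 1 = b := rfl
lemma e3_2 (a b c : ℕ) : e3 a b c 2 = c := rfl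

/-- a monomial in the three variables is a minimal generator if lowering either of two
exponents leaves the ideal and the third exponent is zero (general form) -/
lemma min_gen_of {I : Ideal (MvPolynomial (Fin 3) k)} (β : Fin 3 →₀ ℕ) (p q r : Fin 3)
    (hpqr : ∀ i : Fin 3, i = p ∨ i = q ∨ i = r) (hr : β r = 0)
    (hp : ∀ γ : Fin 3 →₀ ℕ, γ ≤ β → γ p < β p → monomial γ (1 : k) ∉ I)
    (hq : ∀ γ : Fin 3 →₀ ℕ, γ ≤ β → γ q < β q → monomial γ (1 : k) ∉ I) :
    ∀ μ γ : Fin 3 →₀ ℕ, monomial γ (1 : k) ∈ I → μ + γ = β → μ = 0 := by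
  intro μ γ hγ hsum
  have hle : γ ≤ β := by rw [← hsum]; exact le_add_self
  have hs : ∀ i, μ i + γ i = β i := fun i => by rw [← Finsupp.add_apply, hsum]
  ext i
  by_contra hμi
  have hμi' : μ i ≠ 0 := hμi
  rcases hpqr i with rfl | rfl | rfl
  · exact hp γ hle (by have := hs i; omega) hγ
  · exact hq γ hle (by have := hs i; omega) hγ
  · have := hs i; omega

lemma not_mem_of_le_of_lt {I : Ideal (MvPolynomial (Fin 3) k)} {β' : Fin 3 →₀ ℕ}
    (h : monomial β' (1 : k) ∉ I) {γ : Fin 3 →₀ ℕ} (hle : γ ≤ β') : monomial γ (1 : k) ∉ I :=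
  fun hγ => h (mono_of_le hle hγ)

theorem main38 (k : Type u) [Field k]
    (I : Ideal (MvPolynomial (Fin 3) k)) (hI : IsMonomial I)
    [Module.Finite k (MvPolynomial (Fin 3) k ⧸ I)]
    (a1 a2 b1 b3 c2 c3 : ℕ) (ha1 : 0 < a1) (ha2 : 0 < a2) (hb1 : 0 < b1) (hb3 : 0 < b3)
    (hc2 : 0 < c2) (hc3 : 0 < c3)
    (hA : e3 a1 a2 0 ∈ exps I ∧ e3 (a1 - 1) a2 0 ∉ exps I ∧ e3 a1 (a2 - 1) 0 ∉ exps I)
    (hB : e3 b1 0 b3 ∈ exps I ∧ e3 (b1 - 1) 0 b3 ∉ exps I ∧ e3 b1 0 (b3 - 1) ∉ exps I)
    (hC : e3 0 c2 c3 ∈ exps I ∧ e3 0 (c2 - 1) c3 ∉ exps I ∧ e3 0 c2 (c3 - 1) ∉ exps I)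
    (hcase : (b1 ≤ a1 ∧ c2 ≤ a2) ∨ (a1 ≤ b1 ∧ c3 ≤ b3) ∨ (a2 ≤ c2 ∧ b3 ≤ c3)) :
    sigPiece I ({0, 1} : Set (Fin 3)) ≠ ⊥ ∨ sigPiece I ({0, 2} : Set (Fin 3)) ≠ ⊥ ∨
      sigPiece I ({1, 2} : Set (Fin 3)) ≠ ⊥ := by
  obtain ⟨hA1, hA2, hA3⟩ := hA
  obtain ⟨hB1, hB2, hB3⟩ := hB
  obtain ⟨hC1, hC2, hC3⟩ := hC
  change monomial (e3 a1 a2 0) (1 : k) ∈ I at hA1
  change monomial (e3 (a1 - 1) a2 0) (1 : k) ∉ I at hA2
  change monomial (e3 a1 (a2 - 1) 0) (1 : k) ∉ I at hA3
  change monomial (e3 b1 0 b3) (1 : k) ∈ I at hB1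
  change monomial (e3 (b1 - 1) 0 b3) (1 : k) ∉ I at hB2
  change monomial (e3 b1 0 (b3 - 1)) (1 : k) ∉ I at hB3
  change monomial (e3 0 c2 c3) (1 : k) ∈ I at hC1
  change monomial (e3 0 (c2 - 1) c3) (1 : k) ∉ I at hC2
  change monomial (e3 0 c2 (c3 - 1)) (1 : k) ∉ I at hC3
  have h1 : monomial (0 : Fin 3 →₀ ℕ) (1 : k) ∉ I :=
    not_mem_of_le_of_lt hA2 (Finsupp.le_def.2 (fun i => Nat.zero_le _))
  -- comparison helper: γ ≤ β and one coordinate strictly smaller gives γ ≤ lowered β
  have lower : ∀ (β β' γ : Fin 3 →₀ ℕ) (p : Fin 3), γ ≤ β → γ p < β p →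
      (∀ i, i ≠ p → β' i = β i) → β' p + 1 = β p → γ ≤ β' := by
    intro β β' γ p hle hlt ho hp
    refine Finsupp.le_def.2 (fun i => ?_)
    by_cases hip : i = p
    · subst hip; omega
    · rw [ho i hip]; exact Finsupp.le_def.1 hle i
  have fin3_ne : ∀ i : Fin 3, i = 0 ∨ i = 1 ∨ i = 2 := fin3_cases
  rcases hcase with ⟨h1a, h1b⟩ | ⟨h2a, h2b⟩ | ⟨h3a, h3b⟩
  · -- vertical direction z, generator A
    left
    obtain ⟨α, hsign, hne⟩ := two_neg_piece hI (2 : Fin 3) h1 (e3 a1 a2 0) hA1
      (min_gen_of (e3 a1 a2 0) 0 1 2 fin3_ne (e3_2 _ _ _)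
        (fun γ hle hlt => not_mem_of_le_of_lt hA2 (lower _ _ γ 0 hle hlt
          (fun i hi => by rcases fin3_ne i with rfl | rfl | rfl
                          · exact absurd rfl hi
                          · rfl
                          · rfl) (by rw [e3_0, e3_0]; omega)))
        (fun γ hle hlt => not_mem_of_le_of_lt hA3 (lower _ _ γ 1 hle hlt
          (fun i hi => by rcases fin3_ne i with rfl | rfl | rfl
                          · rfl
                          · exact absurd rfl hi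
                          · rfl) (by rw [e3_1, e3_1]; omega))))
      (e3_2 _ _ _)
      (fun p hp => by
        rcases fin3_ne p with rfl | rfl | rfl
        · refine ⟨e3 b1 0 b3, hB1, by rw [e3_0, e3_0]; exact h1a, fun i hi0 hi2 => ?_, ?_⟩
          · rcases fin3_ne i with rfl | rfl | rfl
            · exact absurd rfl hi0
            · rfl
            · exact absurd rfl hi2
          · rw [e3_2]
            exact not_mem_of_le_of_lt hB2 (Finsupp.single_le_iff.2 (by rw [e3_2]))
        · refine ⟨e3 0 c2 c3, hC1, by rw [e3_1, e3_1]; exact h1b, fun i hi1 hi2 => ?_, ?_⟩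
          · rcases fin3_ne i with rfl | rfl | rfl
            · rfl
            · exact absurd rfl hi1
            · exact absurd rfl hi2
          · rw [e3_2]
            exact not_mem_of_le_of_lt hC2 (Finsupp.single_le_iff.2 (by rw [e3_2]))
        · exact absurd rfl hp)
    intro hs
    apply hne
    rw [eq_bot_iff, ← hs]
    unfold sigPiece
    refine le_iSup (fun α : {α : Fin 3 → ℤ // ∀ i, α i < 0 ↔ i ∈ ({0, 1} : Set (Fin 3))} =>
      tPiece I α.1) ⟨α, fun i => ?_⟩
    rw [hsign i]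
    rcases fin3_ne i with rfl | rfl | rfl <;> simp
  · -- vertical direction y, generator B
    right; left
    obtain ⟨α, hsign, hne⟩ := two_neg_piece hI (1 : Fin 3) h1 (e3 b1 0 b3) hB1
      (min_gen_of (e3 b1 0 b3) 0 2 1 (fun i => by rcases fin3_ne i with h | h | h <;> simp [h])
        (e3_1 _ _ _)
        (fun γ hle hlt => not_mem_of_le_of_lt hB2 (lower _ _ γ 0 hle hlt
          (fun i hi => by rcases fin3_ne i with rfl | rfl | rfl
                          · exact absurd rfl hi
                          · rfl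
                          · rfl) (by rw [e3_0, e3_0]; omega)))
        (fun γ hle hlt => not_mem_of_le_of_lt hB3 (lower _ _ γ 2 hle hlt
          (fun i hi => by rcases fin3_ne i with rfl | rfl | rfl
                          · rfl
                          · rfl
                          · exact absurd rfl hi) (by rw [e3_2, e3_2]; omega))))
      (e3_1 _ _ _)
      (fun p hp => by
        rcases fin3_ne p with rfl | rfl | rfl
        · refine ⟨e3 a1 a2 0, hA1, by rw [e3_0, e3_0]; exact h2a, fun i hi0 hi1 => ?_, ?_⟩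
          · rcases fin3_ne i with rfl | rfl | rfl
            · exact absurd rfl hi0
            · exact absurd rfl hi1
            · rfl
          · rw [e3_1]
            exact not_mem_of_le_of_lt hA2 (Finsupp.single_le_iff.2 (by rw [e3_1]))
        · exact absurd rfl hp
        · refine ⟨e3 0 c2 c3, hC1, by rw [e3_2, e3_2]; exact h2b, fun i hi2 hi1 => ?_, ?_⟩
          · rcases fin3_ne i with rfl | rfl | rfl
            · rfl
            · exact absurd rfl hi1
            · exact absurd rfl hi2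
          · rw [e3_1]
            exact not_mem_of_le_of_lt hC3 (Finsupp.single_le_iff.2 (by rw [e3_1])))
    intro hs
    apply hne
    rw [eq_bot_iff, ← hs]
    unfold sigPiece
    refine le_iSup (fun α : {α : Fin 3 → ℤ // ∀ i, α i < 0 ↔ i ∈ ({0, 2} : Set (Fin 3))} =>
      tPiece I α.1) ⟨α, fun i => ?_⟩
    rw [hsign i]
    rcases fin3_ne i with rfl | rfl | rfl <;> simp
  · -- vertical direction x, generator C
    right; right
    obtain ⟨α, hsign, hne⟩ := two_neg_piece hI (0 : Fin 3) h1 (e3 0 c2 c3) hC1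
      (min_gen_of (e3 0 c2 c3) 1 2 0 (fun i => by rcases fin3_ne i with h | h | h <;> simp [h])
        (e3_0 _ _ _)
        (fun γ hle hlt => not_mem_of_le_of_lt hC2 (lower _ _ γ 1 hle hlt
          (fun i hi => by rcases fin3_ne i with rfl | rfl | rfl
                          · rfl
                          · exact absurd rfl hi
                          · rfl) (by rw [e3_1, e3_1]; omega)))
        (fun γ hle hlt => not_mem_of_le_of_lt hC3 (lower _ _ γ 2 hle hlt
          (fun i hi => by rcases fin3_ne i with rfl | rfl | rfl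
                          · rfl
                          · rfl
                          · exact absurd rfl hi) (by rw [e3_2, e3_2]; omega))))
      (e3_0 _ _ _)
      (fun p hp => by
        rcases fin3_ne p with rfl | rfl | rfl
        · exact absurd rfl hp
        · refine ⟨e3 a1 a2 0, hA1, by rw [e3_1, e3_1]; exact h3a, fun i hi1 hi0 => ?_, ?_⟩
          · rcases fin3_ne i with rfl | rfl | rfl
            · exact absurd rfl hi0
            · exact absurd rfl hi1
            · rfl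
          · rw [e3_0]
            exact not_mem_of_le_of_lt hA3 (Finsupp.single_le_iff.2 (by rw [e3_0]))
        · refine ⟨e3 b1 0 b3, hB1, by rw [e3_2, e3_2]; exact h3b, fun i hi2 hi0 => ?_, ?_⟩
          · rcases fin3_ne i with rfl | rfl | rfl
            · exact absurd rfl hi0
            · rfl
            · exact absurd rfl hi2
          · rw [e3_0]
            exact not_mem_of_le_of_lt hB3 (Finsupp.single_le_iff.2 (by rw [e3_0])))
    intro hs
    apply hne
    rw [eq_bot_iff, ← hs]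
    unfold sigPiece
    refine le_iSup (fun α : {α : Fin 3 → ℤ // ∀ i, α i < 0 ↔ i ∈ ({1, 2} : Set (Fin 3))} =>
      tPiece I α.1) ⟨α, fun i => ?_⟩
    rw [hsign i]
    rcases fin3_ne i with rfl | rfl | rfl <;> simp

end Three

end Groth.Agent.H4.TgtGen
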