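import Mathlib
import Groth.Prelude.Def_W4c1hilbpnTgt
import Groth.Agent.H4.TgtDec
import Groth.Agent.H4.TgtSS
import Groth.Agent.H4.TgtPow

set_option autoImplicit false
universe u
open W4c1hilbpn MvPolynomial
open Groth.Agent.H4.TgtDec Groth.Agent.H4.TgtSS Groth.Agent.H4.TgtPow

noncomputable section
namespace Groth.Agent.H4.TgtSum

variable {k : Type u} [Field k] {n : ℕ}

section Indep
variable {I : Ideal (MvPolynomial (Fin n) k)}

lemma lam_other (hI : IsMonomial I) {α α' : Fin n → ℤ} (hne : α' ≠ α) (φ : Tgt I)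
    (hφ : φ ∈ tPiece I α') (β : Fin n →₀ ℕ) (hβ : monomial β (1 : k) ∈ I)
    (hnn : ∀ i, 0 ≤ (β i : ℤ) + α i) (hstd : monomial (shift β α) (1 : k) ∉ I) :
    lam hI (shift β α) hstd (φ ⟨monomial β 1, hβ⟩) = 0 := by
  by_cases hneg : ∃ i, (β i : ℤ) + α' i < 0
  · rw [(hφ β hβ).2 hneg, map_zero]
  · push Not at hneg
    obtain ⟨c, hc⟩ := Submodule.mem_span_singleton.1 ((hφ β hβ).1 hneg)
    rw [← hc, mk_smul', smul_monomial, smul_eq_mul, mul_one, lam_mk, coeff_monomial, if_neg]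
    intro e
    apply hne
    funext i
    have h1 : shift β α' i = shift β α i := by rw [e]
    rw [shift_apply, shift_apply] at h1
    have h2 := hnn i
    have h3 := hneg i
    omega

lemma zero_of_lam (hI : IsMonomial I) {α : Fin n → ℤ} (φ : Tgt I) (hφ : φ ∈ tPiece I α)
    (h : ∀ (β : Fin n →₀ ℕ) (hβ : monomial β (1 : k) ∈ I) (_ : ∀ i, 0 ≤ (β i : ℤ) + α i)
      (hstd : monomial (shift β α) (1 : k) ∉ I),
      lam hI (shift β α) hstd (φ ⟨monomial β 1, hβ⟩) = 0) : φ = 0 := by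
  refine ext_mono hI φ 0 (fun β hβ => ?_)
  show φ ⟨monomial β 1, hβ⟩ = 0
  by_cases hneg : ∃ i, (β i : ℤ) + α i < 0
  · exact (hφ β hβ).2 hneg
  · push Not at hneg
    obtain ⟨c, hc⟩ := Submodule.mem_span_singleton.1 ((hφ β hβ).1 hneg)
    by_cases hm : monomial (shift β α) (1 : k) ∈ I
    · rw [← hc, Ideal.Quotient.eq_zero_iff_mem.2 hm, smul_zero]
    · have h0 := h β hβ hneg hm
      rw [← hc, mk_smul', smul_monomial, smul_eq_mul, mul_one, lam_mk, coeff_monomial,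
        if_pos rfl] at h0
      rw [← hc, h0, zero_smul]

lemma disjoint_sup (hI : IsMonomial I) (s : Finset (Fin n → ℤ)) (a : Fin n → ℤ) (ha : a ∉ s) :
    Disjoint (tPiece I a) (s.sup (tPiece I)) := by
  rw [Submodule.disjoint_def]
  intro φ h1 h2
  refine zero_of_lam hI φ h1 (fun β hβ hnn hstd => ?_)
  have hle : s.sup (tPiece I) ≤
      LinearMap.ker ((lam hI (shift β a) hstd).comp (evalL ⟨monomial β 1, hβ⟩)) := by
    refine Finset.sup_le (fun α' hα' ψ hψ => ?_)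
    rw [LinearMap.mem_ker]
    exact lam_other hI (fun e : α' = a => ha (e ▸ hα')) ψ hψ β hβ hnn hstd
  exact LinearMap.mem_ker.1 (hle h2)

lemma finrank_sup (hI : IsMonomial I) (hfd : ∀ α, Module.Finite k ↥(tPiece I α))
    (s : Finset (Fin n → ℤ)) :
    Module.finrank k ↥(s.sup (tPiece I)) = ∑ α ∈ s, Module.finrank k ↥(tPiece I α) := by
  classical
  induction s using Finset.induction_on with
  | empty => rw [Finset.sup_empty, finrank_bot, Finset.sum_empty]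
  | insert a s ha ih =>
    rw [Finset.sup_insert, Finset.sum_insert ha, ← ih]
    have h := Submodule.finrank_sup_add_finrank_inf_eq (tPiece I a) (s.sup (tPiece I))
    rw [(disjoint_sup hI s a ha).eq_bot, finrank_bot, add_zero] at h
    exact h

end Indep

section Fin3

lemma fin3_cases' (i : Fin 3) : i = 0 ∨ i = 1 ∨ i = 2 := by
  fin_cases i <;> simp

lemma cases3 (i j : Fin 3) : j = i ∨ j = i + 1 ∨ j = i + 2 := by
  revert i j; decide

lemma ne1 (i : Fin 3) : i + 1 ≠ i := by revert i; decide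
lemma ne2 (i : Fin 3) : i + 2 ≠ i := by revert i; decide
lemma ne12 (i : Fin 3) : i + 2 ≠ i + 1 := by revert i; decide

lemma sum3 {β : Type*} [AddCommMonoid β] (i : Fin 3) (f : Fin 3 → β) :
    ∑ j, f j = f i + f (i + 1) + f (i + 2) := by
  rcases fin3_cases' i with rfl | rfl | rfl
  · rw [Fin.sum_univ_three]; rfl
  · rw [Fin.sum_univ_three]
    show f 0 + f 1 + f 2 = f 1 + f 2 + f 0
    abel
  · rw [Fin.sum_univ_three]
    show f 0 + f 1 + f 2 = f 2 + f 0 + f 1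
    abel

/-- vector with prescribed entries at `i`, `i+1`, `i+2` -/
def vec3 (i : Fin 3) (x y z : ℤ) : Fin 3 → ℤ :=
  fun j => if j = i then x else if j = i + 1 then y else z

lemma vec3_0 (i : Fin 3) (x y z : ℤ) : vec3 i x y z i = x := by
  unfold vec3; rw [if_pos rfl]

lemma vec3_1 (i : Fin 3) (x y z : ℤ) : vec3 i x y z (i + 1) = y := by
  unfold vec3; rw [if_neg (ne1 i), if_pos rfl]

lemma vec3_2 (i : Fin 3) (x y z : ℤ) : vec3 i x y z (i + 2) = z := by
  unfold vec3; rw [if_neg (ne2 i), if_neg (ne12 i)]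

lemma eq_vec3 (i : Fin 3) (α : Fin 3 → ℤ) : α = vec3 i (α i) (α (i + 1)) (α (i + 2)) := by
  funext j
  rcases cases3 i j with e | e | e
  · rw [e, vec3_0]
  · rw [e, vec3_1]
  · rw [e, vec3_2]

lemma vec3_congr (i : Fin 3) {x y z x' y' z' : ℤ} (hx : x = x') (hy : y = y') (hz : z = z') :
    vec3 i x y z = vec3 i x' y' z' := by
  rw [hx, hy, hz]

lemma pat1_iff (i : Fin 3) (α : Fin 3 → ℤ) :
    (∀ j, α j < 0 ↔ j ∈ ({i} : Set (Fin 3))) ↔
      (α i < 0 ∧ ¬ α (i + 1) < 0 ∧ ¬ α (i + 2) < 0) := by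
  constructor
  · intro h
    exact ⟨(h i).2 (Set.mem_singleton i), fun h1 => ne1 i ((h _).1 h1),
      fun h2 => ne2 i ((h _).1 h2)⟩
  · rintro ⟨h0, h1, h2⟩ j
    rcases cases3 i j with e | e | e
    · rw [e]
      exact ⟨fun _ => Set.mem_singleton i, fun _ => h0⟩
    · rw [e]
      exact ⟨fun h => absurd h h1, fun h => absurd h (ne1 i)⟩
    · rw [e]
      exact ⟨fun h => absurd h h2, fun h => absurd h (ne2 i)⟩

lemma pat2_iff (i : Fin 3) (α : Fin 3 → ℤ) :
    (∀ j, α j < 0 ↔ j ∈ ({i}ᶜ : Set (Fin 3))) ↔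
      (¬ α i < 0 ∧ α (i + 1) < 0 ∧ α (i + 2) < 0) := by
  constructor
  · intro h
    exact ⟨fun h0 => (h i).1 h0 (Set.mem_singleton i), (h _).2 (ne1 i), (h _).2 (ne2 i)⟩
  · rintro ⟨h0, h1, h2⟩ j
    rcases cases3 i j with e | e | e
    · rw [e]
      exact ⟨fun h => absurd h h0, fun h => absurd (Set.mem_singleton i) h⟩
    · rw [e]
      exact ⟨fun _ => ne1 i, fun _ => h1⟩
    · rw [e]
      exact ⟨fun _ => ne2 i, fun _ => h2⟩

lemma hs1 (t : ℕ) : ∑ s ∈ Finset.range (t + 1), (s + 2).choose 2 = (t + 3).choose 3 := by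
  induction t with
  | zero => simp
  | succ t ih =>
    rw [Finset.sum_range_succ, ih, Nat.choose_succ_succ' (t + 3) 2]
    ring

lemma hs2 (r : ℕ) : ∑ t ∈ Finset.range r, (t + 3).choose 3 = (r + 3).choose 4 := by
  induction r with
  | zero => simp
  | succ r ih =>
    rw [Finset.sum_range_succ, ih, Nat.choose_succ_succ' (r + 3) 3]
    ring

lemma I3 (r : ℕ) :
    3 * ((r + 3).choose 4 + (r + 2).choose 4) = (r + 2).choose 2 * (r + 1).choose 2 := by
  cases r with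
  | zero => decide
  | succ s =>
    have h1 := Nat.descFactorial_eq_factorial_mul_choose (s + 3) 2
    have h2 := Nat.descFactorial_eq_factorial_mul_choose (s + 2) 2
    have h3 := Nat.descFactorial_eq_factorial_mul_choose (s + 4) 4
    have h4 := Nat.descFactorial_eq_factorial_mul_choose (s + 3) 4
    simp [Nat.descFactorial_succ, Nat.factorial] at h1 h2 h3 h4
    show 3 * ((s + 4).choose 4 + (s + 3).choose 4) = (s + 3).choose 2 * (s + 2).choose 2
    have h1q : ((s : ℚ) + 2) * (s + 3) = 2 * ((s + 3).choose 2 : ℚ) := by exact_mod_cast h1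
    have h2q : ((s : ℚ) + 1) * (s + 2) = 2 * ((s + 2).choose 2 : ℚ) := by exact_mod_cast h2
    have h3q : ((s : ℚ) + 1) * ((s + 2) * ((s + 3) * (s + 4))) = 24 * ((s + 4).choose 4 : ℚ) := by
      exact_mod_cast h3
    have h4q : (s : ℚ) * ((s + 1) * ((s + 2) * (s + 3))) = 24 * ((s + 3).choose 4 : ℚ) := by
      exact_mod_cast h4
    have e : (3 * (((s + 4).choose 4 : ℚ) + ((s + 3).choose 4 : ℚ))) =
        ((s + 3).choose 2 : ℚ) * ((s + 2).choose 2 : ℚ) := by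
      linear_combination (-1 / 8 : ℚ) * h3q + (-1 / 8 : ℚ) * h4q +
        (((s + 2).choose 2 : ℚ) / 2) * h1q + ((((s : ℚ) + 2) * (s + 3)) / 4) * h2q
    exact_mod_cast e

/-- the multidegrees negative exactly at `i` -/
def a1 (i : Fin 3) (r : ℕ) (x : (_ : ℕ) × ℕ) : Fin 3 → ℤ :=
  vec3 i (-((r : ℤ) - x.2)) ((x.1 : ℤ) - x.2) ((r : ℤ) - 1 - x.1)

/-- the multidegrees negative exactly at `i+1`, `i+2` -/
def a2 (i : Fin 3) (r : ℕ) (x : (_ : ℕ) × ℕ) : Fin 3 → ℤ :=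
  vec3 i ((r : ℤ) - x.2 - 1) (-((x.1 : ℤ) - x.2 + 1)) (-((r : ℤ) - 1 - x.1))

/-- index set -/
def JJ (m : ℕ) : Finset ((_ : ℕ) × ℕ) := (Finset.range m).sigma (fun t => Finset.range (t + 1))

lemma mem_JJ (m : ℕ) (x : (_ : ℕ) × ℕ) : x ∈ JJ m ↔ x.1 < m ∧ x.2 < x.1 + 1 := by
  unfold JJ
  rw [Finset.mem_sigma, Finset.mem_range, Finset.mem_range]

lemma sum_JJ (m : ℕ) : ∑ x ∈ JJ m, (x.2 + 2).choose 2 = (m + 3).choose 4 := by
  unfold JJ
  rw [Finset.sum_sigma]
  rw [← hs2 m]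
  exact Finset.sum_congr rfl (fun t _ => hs1 t)

lemma a1_sum (i : Fin 3) (r : ℕ) (x : (_ : ℕ) × ℕ) : ∑ j, a1 i r x j = -1 := by
  rw [sum3 i]
  unfold a1
  rw [vec3_0, vec3_1, vec3_2]
  ring

lemma a1_w (i : Fin 3) (r : ℕ) (x : (_ : ℕ) × ℕ) (hx : x ∈ JJ r) :
    ∑ j, (-a1 i r x j).toNat = r - x.2 := by
  rw [mem_JJ] at hx
  rw [sum3 i (fun j => (-a1 i r x j).toNat)]
  unfold a1
  simp only [vec3_0, vec3_1, vec3_2]
  omega

lemma a1_pat (i : Fin 3) (r : ℕ) (x : (_ : ℕ) × ℕ) (hx : x ∈ JJ r) :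
    ∀ j, a1 i r x j < 0 ↔ j ∈ ({i} : Set (Fin 3)) := by
  rw [mem_JJ] at hx
  rw [pat1_iff]
  unfold a1
  rw [vec3_0, vec3_1, vec3_2]
  omega

lemma a1_inj (i : Fin 3) (r : ℕ) (x x' : (_ : ℕ) × ℕ) (h : a1 i r x = a1 i r x') : x = x' := by
  obtain ⟨t, s⟩ := x
  obtain ⟨t', s'⟩ := x'
  have h0 := congrFun h i
  have h1 := congrFun h (i + 1)
  unfold a1 at h0 h1
  rw [vec3_0, vec3_0] at h0
  rw [vec3_1, vec3_1] at h1
  try dsimp only at h0 h1
  have es : s = s' := by omega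
  have et : t = t' := by omega
  subst es et
  rfl

lemma a1_surj (i : Fin 3) (r : ℕ) (α : Fin 3 → ℤ)
    (hpat : ∀ j, α j < 0 ↔ j ∈ ({i} : Set (Fin 3))) (hs : ∑ j, α j = -1)
    (hw : ∑ j, (-α j).toNat ≤ r) : ∃ x ∈ JJ r, a1 i r x = α := by
  rw [pat1_iff] at hpat
  rw [sum3 i] at hs
  rw [sum3 i (fun j => (-α j).toNat)] at hw
  obtain ⟨h0, h1, h2⟩ := hpat
  refine ⟨⟨(r - (-α i).toNat) + (α (i + 1)).toNat, r - (-α i).toNat⟩, ?_, ?_⟩
  · rw [mem_JJ]
    try dsimp only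
    omega
  · refine Eq.trans ?_ (eq_vec3 i α).symm
    unfold a1
    apply vec3_congr
    · try dsimp only
      omega
    · try dsimp only
      omega
    · try dsimp only
      omega

lemma a2_sum (i : Fin 3) (r : ℕ) (x : (_ : ℕ) × ℕ) : ∑ j, a2 i r x j = -1 := by
  rw [sum3 i]
  unfold a2
  rw [vec3_0, vec3_1, vec3_2]
  ring

lemma a2_w (i : Fin 3) (r : ℕ) (x : (_ : ℕ) × ℕ) (hx : x ∈ JJ (r - 1)) :
    ∑ j, (-a2 i r x j).toNat = r - x.2 := by
  rw [mem_JJ] at hx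
  rw [sum3 i (fun j => (-a2 i r x j).toNat)]
  unfold a2
  simp only [vec3_0, vec3_1, vec3_2]
  omega

lemma a2_pat (i : Fin 3) (r : ℕ) (x : (_ : ℕ) × ℕ) (hx : x ∈ JJ (r - 1)) :
    ∀ j, a2 i r x j < 0 ↔ j ∈ ({i}ᶜ : Set (Fin 3)) := by
  rw [mem_JJ] at hx
  rw [pat2_iff]
  unfold a2
  rw [vec3_0, vec3_1, vec3_2]
  omega

lemma a2_inj (i : Fin 3) (r : ℕ) (x x' : (_ : ℕ) × ℕ) (h : a2 i r x = a2 i r x') : x = x' := by
  obtain ⟨t, s⟩ := x
  obtain ⟨t', s'⟩ := x'
  have h0 := congrFun h i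
  have h1 := congrFun h (i + 1)
  unfold a2 at h0 h1
  rw [vec3_0, vec3_0] at h0
  rw [vec3_1, vec3_1] at h1
  try dsimp only at h0 h1
  have es : s = s' := by omega
  have et : t = t' := by omega
  subst es et
  rfl

lemma a2_surj (i : Fin 3) (r : ℕ) (α : Fin 3 → ℤ)
    (hpat : ∀ j, α j < 0 ↔ j ∈ ({i}ᶜ : Set (Fin 3))) (hs : ∑ j, α j = -1)
    (hw : ∑ j, (-α j).toNat ≤ r) : ∃ x ∈ JJ (r - 1), a2 i r x = α := by
  rw [pat2_iff] at hpat
  rw [sum3 i] at hs
  rw [sum3 i (fun j => (-α j).toNat)] at hw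
  obtain ⟨h0, h1, h2⟩ := hpat
  refine ⟨⟨(r - ((-α (i + 1)).toNat + (-α (i + 2)).toNat)) + (-α (i + 1)).toNat - 1,
    r - ((-α (i + 1)).toNat + (-α (i + 2)).toNat)⟩, ?_, ?_⟩
  · rw [mem_JJ]
    try dsimp only
    omega
  · refine Eq.trans ?_ (eq_vec3 i α).symm
    unfold a2
    apply vec3_congr
    · try dsimp only
      omega
    · try dsimp only
      omega
    · try dsimp only
      omega

/-- the box of multidegrees -/
def box (r : ℕ) : Finset (Fin 3 → ℤ) :=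
  Fintype.piFinset (fun _ : Fin 3 => Finset.Icc (-(r : ℤ)) r)

lemma box_mem (r : ℕ) (α : Fin 3 → ℤ) (hs : ∑ j, α j = -1) (hw : ∑ j, (-α j).toNat ≤ r) :
    α ∈ box r := by
  unfold box
  rw [Fintype.mem_piFinset]
  intro j
  rw [Finset.mem_Icc]
  rw [sum3 j] at hs
  rw [sum3 j (fun j => (-α j).toNat)] at hw
  omega

end Fin3

section Pow3
variable {M : Ideal (MvPolynomial (Fin 3) k)} (hmono : IsMonomial M) (r : ℕ)
  (hmem : ∀ β : Fin 3 →₀ ℕ, monomial β (1 : k) ∈ M ↔ r ≤ β.degree)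

include hmono hmem

lemma piece_bot (α : Fin 3 → ℤ) (h : ¬ (∑ j, α j = -1 ∧ ∑ j, (-α j).toNat ≤ r)) :
    tPiece M α = ⊥ := by
  by_cases hs : ∑ i, α i = -1
  · have hw : r < ∑ i, (-α i).toNat := by
      by_contra hcon
      exact h ⟨hs, not_lt.1 hcon⟩
    exact pow_piece_big_w hmono r hmem α hs hw
  · rcases lt_or_gt_of_ne hs with h1 | h1
    · exact pow_piece_le_neg_two hmono r hmem (by norm_num) α (by omega)
    · exact pow_piece_nonneg_sum hmono r hmem α (by omega)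

lemma piece_fd (α : Fin 3 → ℤ) : Module.Finite k ↥(tPiece M α) := by
  by_cases h : (∑ j, α j = -1 ∧ ∑ j, (-α j).toNat ≤ r)
  · obtain ⟨e⟩ := exists_equiv hmono r hmem α h.1 h.2
    exact Module.Finite.equiv e.symm
  · rw [piece_bot hmono r hmem α h]
    infer_instance

lemma sig_eq (N : Set (Fin 3)) [DecidablePred fun α : Fin 3 → ℤ => ∀ j, α j < 0 ↔ j ∈ N] :
    sigPiece M N = ((box r).filter (fun α => ∀ j, α j < 0 ↔ j ∈ N)).sup (tPiece M) := by
  unfold sigPiece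
  apply le_antisymm
  · refine iSup_le (fun α => ?_)
    by_cases hc : (∑ j, α.1 j = -1 ∧ ∑ j, (-α.1 j).toNat ≤ r)
    · exact Finset.le_sup (f := tPiece M)
        (Finset.mem_filter.2 ⟨box_mem r α.1 hc.1 hc.2, α.2⟩)
    · rw [piece_bot hmono r hmem α.1 hc]
      exact bot_le
  · refine Finset.sup_le (fun α hα => ?_)
    exact le_iSup (fun α : {α : Fin 3 → ℤ // ∀ j, α j < 0 ↔ j ∈ N} => tPiece M α.1)
      ⟨α, (Finset.mem_filter.1 hα).2⟩

lemma top_eq : (⊤ : Submodule k (Tgt M)) = (box r).sup (tPiece M) := by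
  refine le_antisymm (fun φ _ => ?_) le_top
  have hN : ∀ i : Fin 3, monomial (Finsupp.single i r) (1 : k) ∈ M :=
    fun i => (hmem _).2 (by rw [Finsupp.degree_single])
  rw [sum_comp hmono φ hN]
  refine Submodule.sum_mem _ (fun α _ => ?_)
  have hm := comp_mem hmono φ α
  by_cases hc : (∑ j, α j = -1 ∧ ∑ j, (-α j).toNat ≤ r)
  · exact (Finset.le_sup (f := tPiece M) (box_mem r α hc.1 hc.2)) hm
  · rw [piece_bot hmono r hmem α hc, Submodule.mem_bot] at hm
    rw [hm]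
    exact Submodule.zero_mem _

variable (hf : ∀ α : Fin 3 → ℤ, ∑ j, α j = -1 → ∑ j, (-α j).toNat ≤ r →
  Module.finrank k ↥(tPiece M α) = Nat.choose (3 + r - (∑ j, (-α j).toNat) - 1) (3 - 1))

include hf

lemma f_eq (α : Fin 3 → ℤ) (hs : ∑ j, α j = -1) (s : ℕ) (hsr : s ≤ r)
    (hw : ∑ j, (-α j).toNat = r - s) :
    Module.finrank k ↥(tPiece M α) = (s + 2).choose 2 := by
  rw [hf α hs (by omega), hw]
  have : 3 + r - (r - s) - 1 = s + 2 := by omega
  rw [this]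

omit hf in
lemma f_zero (α : Fin 3 → ℤ) (h : ¬ (∑ j, α j = -1 ∧ ∑ j, (-α j).toNat ≤ r)) :
    Module.finrank k ↥(tPiece M α) = 0 := by
  rw [piece_bot hmono r hmem α h, finrank_bot]

lemma sig1 (i : Fin 3) : Module.finrank k ↥(sigPiece M {i}) = (r + 3).choose 4 := by
  classical
  rw [sig_eq hmono r hmem {i}, finrank_sup hmono (piece_fd hmono r hmem)]
  have hsub : (JJ r).image (a1 i r) ⊆
      (box r).filter (fun α => ∀ j, α j < 0 ↔ j ∈ ({i} : Set (Fin 3))) := by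
    intro α hα
    obtain ⟨x, hx, rfl⟩ := Finset.mem_image.1 hα
    refine Finset.mem_filter.2 ⟨box_mem r _ (a1_sum i r x) ?_, a1_pat i r x hx⟩
    rw [a1_w i r x hx]
    omega
  rw [← Finset.sum_subset hsub]
  · rw [Finset.sum_image (fun x _ x' _ h => a1_inj i r x x' h), ← sum_JJ r]
    refine Finset.sum_congr rfl (fun x hx => ?_)
    have hx' := (mem_JJ r x).1 hx
    exact f_eq hmono r hmem hf _ (a1_sum i r x) x.2 (by omega) (a1_w i r x hx)
  · intro α hα hnot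
    apply f_zero hmono r hmem
    rintro ⟨hs, hw⟩
    obtain ⟨x, hx, rfl⟩ := a1_surj i r α (Finset.mem_filter.1 hα).2 hs hw
    exact hnot (Finset.mem_image_of_mem _ hx)

lemma sig2 (i : Fin 3) : Module.finrank k ↥(sigPiece M ({i}ᶜ : Set (Fin 3))) = (r + 2).choose 4 := by
  classical
  rw [sig_eq hmono r hmem ({i}ᶜ : Set (Fin 3)), finrank_sup hmono (piece_fd hmono r hmem)]
  have hsub : (JJ (r - 1)).image (a2 i r) ⊆
      (box r).filter (fun α => ∀ j, α j < 0 ↔ j ∈ ({i}ᶜ : Set (Fin 3))) := by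
    intro α hα
    obtain ⟨x, hx, rfl⟩ := Finset.mem_image.1 hα
    refine Finset.mem_filter.2 ⟨box_mem r _ (a2_sum i r x) ?_, a2_pat i r x hx⟩
    rw [a2_w i r x hx]
    omega
  rw [← Finset.sum_subset hsub]
  · rw [Finset.sum_image (fun x _ x' _ h => a2_inj i r x x' h)]
    have hval : (r + 2).choose 4 = (r - 1 + 3).choose 4 := by
      cases r with
      | zero => decide
      | succ s => rfl
    rw [hval, ← sum_JJ (r - 1)]
    refine Finset.sum_congr rfl (fun x hx => ?_)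
    have hx' := (mem_JJ (r - 1) x).1 hx
    exact f_eq hmono r hmem hf _ (a2_sum i r x) x.2 (by omega) (a2_w i r x hx)
  · intro α hα hnot
    apply f_zero hmono r hmem
    rintro ⟨hs, hw⟩
    obtain ⟨x, hx, rfl⟩ := a2_surj i r α (Finset.mem_filter.1 hα).2 hs hw
    exact hnot (Finset.mem_image_of_mem _ hx)

lemma total : Module.finrank k (Tgt M) = (r + 2).choose 2 * (r + 1).choose 2 := by
  classical
  have e11 : (1 : Fin 3) + 1 = 2 := rfl
  have e12 : (1 : Fin 3) + 2 = 0 := rfl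
  have e21 : (2 : Fin 3) + 1 = 0 := rfl
  have e22 : (2 : Fin 3) + 2 = 1 := rfl
  have hpt : ∀ α : Fin 3 → ℤ, Module.finrank k ↥(tPiece M α) =
      ∑ i : Fin 3, ((if (∀ j, α j < 0 ↔ j ∈ ({i} : Set (Fin 3))) then
          Module.finrank k ↥(tPiece M α) else 0) +
        (if (∀ j, α j < 0 ↔ j ∈ ({i}ᶜ : Set (Fin 3))) then
          Module.finrank k ↥(tPiece M α) else 0)) := by
    intro α
    by_cases hc : (∑ j, α j = -1 ∧ ∑ j, (-α j).toNat ≤ r)
    · have hs := hc.1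
      rw [sum3 0] at hs
      rw [zero_add, zero_add] at hs
      rw [Fin.sum_univ_three]
      simp only [pat1_iff, pat2_iff, zero_add, e11, e12, e21, e22]
      by_cases h0 : α 0 < 0 <;> by_cases h1 : α 1 < 0 <;> by_cases h2 : α 2 < 0
      · exfalso; omega
      · simp [h0, h1, h2]
      · simp [h0, h1, h2]
      · simp [h0, h1, h2]
      · simp [h0, h1, h2]
      · simp [h0, h1, h2]
      · simp [h0, h1, h2]
      · exfalso; omega
    · rw [f_zero hmono r hmem α hc]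
      simp
  rw [← finrank_top k (Tgt M), top_eq hmono r hmem, finrank_sup hmono (piece_fd hmono r hmem)]
  rw [Finset.sum_congr rfl (fun α _ => hpt α), Finset.sum_comm]
  have hi : ∀ i : Fin 3, ∑ α ∈ box r,
      ((if (∀ j, α j < 0 ↔ j ∈ ({i} : Set (Fin 3))) then
          Module.finrank k ↥(tPiece M α) else 0) +
        (if (∀ j, α j < 0 ↔ j ∈ ({i}ᶜ : Set (Fin 3))) then
          Module.finrank k ↥(tPiece M α) else 0)) = (r + 3).choose 4 + (r + 2).choose 4 := by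
    intro i
    rw [Finset.sum_add_distrib, ← Finset.sum_filter, ← Finset.sum_filter,
      ← sig1 hmono r hmem hf i, ← sig2 hmono r hmem hf i,
      sig_eq hmono r hmem {i}, sig_eq hmono r hmem ({i}ᶜ : Set (Fin 3)),
      finrank_sup hmono (piece_fd hmono r hmem), finrank_sup hmono (piece_fd hmono r hmem)]
  rw [Finset.sum_congr rfl (fun i _ => hi i), Finset.sum_const, Finset.card_univ,
    Fintype.card_fin, smul_eq_mul, I3]

end Pow3

theorem main42 (k : Type u) [Field k] (r : ℕ) (i : Fin 3) :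
    Module.finrank k ↥(sigPiece ((Ideal.span (Set.range
        (MvPolynomial.X : Fin 3 → MvPolynomial (Fin 3) k))) ^ r) {i}) = Nat.choose (r + 3) 4 ∧
      Module.finrank k ↥(sigPiece ((Ideal.span (Set.range
        (MvPolynomial.X : Fin 3 → MvPolynomial (Fin 3) k))) ^ r) ({i}ᶜ : Set (Fin 3))) =
          Nat.choose (r + 2) 4 ∧
      Module.finrank k (Tgt ((Ideal.span (Set.range
        (MvPolynomial.X : Fin 3 → MvPolynomial (Fin 3) k))) ^ r)) =
          Nat.choose (r + 2) 2 * Nat.choose (r + 1) 2 := by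
  have hmem : ∀ β : Fin 3 →₀ ℕ, monomial β (1 : k) ∈
      (Ideal.span (Set.range (MvPolynomial.X : Fin 3 → MvPolynomial (Fin 3) k))) ^ r ↔
      r ≤ β.degree := fun β => monomial_mem_pow_idealOfVars_iff r β one_ne_zero
  have hmono : IsMonomial ((Ideal.span (Set.range
      (MvPolynomial.X : Fin 3 → MvPolynomial (Fin 3) k))) ^ r) :=
    fun p hp β hβ => (hmem β).2 ((mem_pow_idealOfVars_iff r p).1 hp β hβ)
  have hf : ∀ α : Fin 3 → ℤ, ∑ j, α j = -1 → ∑ j, (-α j).toNat ≤ r →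
      Module.finrank k ↥(tPiece ((Ideal.span (Set.range
        (MvPolynomial.X : Fin 3 → MvPolynomial (Fin 3) k))) ^ r) α) =
        Nat.choose (3 + r - (∑ j, (-α j).toNat) - 1) (3 - 1) := by
    intro α hs hw
    rw [main35 k 3 (by norm_num) r α]
    exact if_pos ⟨hs, hw⟩
  exact ⟨sig1 hmono r hmem hf i, sig2 hmono r hmem hf i, total hmono r hmem hf⟩

end Groth.Agent.H4.TgtSum
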