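import Mathlib
import Groth.Prelude.Def_W4c1hilbpnTgt
import Groth.Agent.H4.TgtDec
import Groth.Agent.H4.TgtSS
import Groth.Agent.H4.TgtPow
import Groth.Agent.H4.TgtGen
import Groth.Agent.H4.TgtCC
import Groth.Agent.H4.TgtSum

set_option autoImplicit false
universe u
open W4c1hilbpn MvPolynomial
open Groth.Agent.H4.TgtDec Groth.Agent.H4.TgtSS Groth.Agent.H4.TgtPow Groth.Agent.H4.TgtGen
open Groth.Agent.H4.TgtCC Groth.Agent.H4.TgtSum

noncomputable section
namespace Groth.Agent.H4.TgtCorner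

variable {k : Type u} [Field k]

section Fin
variable {n : ℕ} {I : Ideal (MvPolynomial (Fin n) k)}

lemma tgt_finite (hI : IsMonomial I) [Module.Finite k (MvPolynomial (Fin n) k ⧸ I)] :
    Module.Finite k (Tgt I) := by
  classical
  obtain ⟨N, hN⟩ := exists_bound hI
  let T : Set (Fin n →₀ ℕ) := {β | β ≤ bN n N ∧ monomial β (1 : k) ∈ I}
  have hT : T.Finite := (Set.finite_Iic (bN n N)).subset (fun β h => h.1)
  haveI : Finite ↥T := hT.to_subtype
  let ev : Tgt I →ₗ[k] (↥T → MvPolynomial (Fin n) k ⧸ I) :=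
    LinearMap.pi (fun β => evalL ⟨monomial β.1 1, β.2.2⟩)
  have hinj : Function.Injective ev := by
    intro φ ψ h
    refine ext_gen hI hN φ ψ (fun β hβb hβ => ?_)
    exact congrFun h ⟨β, hβb, hβ⟩
  exact Module.Finite.of_injective ev hinj

lemma pt_succ_same (α : Fin n → ℤ) (β : Fin n →₀ ℕ) (l : Fin n) :
    pt (Finsupp.single l 1 + β) α l = pt β α l + 1 := by
  rw [pt_apply, pt_apply, Finsupp.add_apply, Finsupp.single_eq_same]
  push_cast
  ring

lemma pt_succ_ne (α : Fin n → ℤ) (β : Fin n →₀ ℕ) {l j : Fin n} (h : j ≠ l) :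
    pt (Finsupp.single l 1 + β) α j = pt β α j := by
  rw [pt_apply, pt_apply, Finsupp.add_apply, Finsupp.single_apply, if_neg (Ne.symm h)]
  simp

end Fin

section Three
variable {I : Ideal (MvPolynomial (Fin 3) k)}

lemma eq_e3 (δ : Fin 3 →₀ ℕ) : δ = e3 (δ 0) (δ 1) (δ 2) := by
  ext i
  rcases fin3_cases i with h | h | h <;> subst h <;> rfl

lemma tn_eq (w : Fin 3 → ℤ) : tn w = e3 (w 0).toNat (w 1).toNat (w 2).toNat := eq_e3 (tn w)

lemma e3_le {a b c a' b' c' : ℕ} (ha : a ≤ a') (hb : b ≤ b') (hc : c ≤ c') :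
    e3 a b c ≤ e3 a' b' c' := by
  refine Finsupp.le_def.2 (fun i => ?_)
  rcases fin3_cases i with h | h | h <;> subst h
  · show a ≤ a'; exact ha
  · show b ≤ b'; exact hb
  · show c ≤ c'; exact hc

lemma stair_spec {N : ℕ} (hN2 : monomial (Finsupp.single (2 : Fin 3) N) (1 : k) ∈ I)
    (p q c : ℕ) : e3 p q c ∉ exps I ↔ c < stairZ I p q := by
  classical
  have hex : ∃ c, e3 p q c ∈ exps I :=
    ⟨N, mono_of_le (Finsupp.single_le_iff.2 (by rw [e3_2])) hN2⟩
  have hiff : ∀ c, e3 p q c ∉ exps I ↔ c < Nat.find hex := by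
    intro c
    constructor
    · intro h
      by_contra hle
      push Not at hle
      exact h (mono_of_le (e3_le le_rfl le_rfl hle) (Nat.find_spec hex))
    · intro h
      exact Nat.find_min hex h
  have hcard : stairZ I p q = Nat.find hex := by
    unfold stairZ
    rw [Nat.card_congr (Equiv.subtypeEquivRight hiff),
      Nat.card_congr (Fin.equivSubtype (n := Nat.find hex)).symm, Nat.card_fin]
  rw [hcard]
  exact hiff c

lemma stair_zero {N : ℕ} (hN : ∀ i : Fin 3, monomial (Finsupp.single i N) (1 : k) ∈ I)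
    (p q : ℕ) (h : ¬ (p < N ∧ q < N)) : stairZ I p q = 0 := by
  by_contra hne
  have hpos : 0 < stairZ I p q := Nat.pos_of_ne_zero hne
  have h1 := (stair_spec (hN 2) p q 0).2 hpos
  apply h1
  by_cases hp : p < N
  · have hq : N ≤ q := by
      by_contra hq
      exact h ⟨hp, by omega⟩
    exact mono_of_le (Finsupp.single_le_iff.2 (by rw [e3_1]; exact hq)) (hN 1)
  · exact mono_of_le (Finsupp.single_le_iff.2 (by rw [e3_0]; omega)) (hN 0)

lemma piece_bot_of_lt (hI : IsMonomial I) {N : ℕ}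
    (hN2 : monomial (Finsupp.single (2 : Fin 3) N) (1 : k) ∈ I)
    (α : Fin 3 → ℤ) (hα : α 2 < -(N : ℤ)) : tPiece I α = ⊥ := by
  rw [eq_bot_iff]
  intro φ hφ
  rw [Submodule.mem_bot]
  refine ext_mono hI φ 0 (fun β hβ => ?_)
  rw [LinearMap.zero_apply]
  by_cases hneg : ∃ i, (β i : ℤ) + α i < 0
  · exact (hφ β hβ).2 hneg
  · push Not at hneg
    have h2 := hneg 2
    have hle : Finsupp.single (2 : Fin 3) (β 2 - N) ≤ β :=
      Finsupp.single_le_iff.2 (Nat.sub_le _ _)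
    have hβ'2 : (β - Finsupp.single (2 : Fin 3) (β 2 - N)) 2 = N := by
      rw [Finsupp.tsub_apply, Finsupp.single_eq_same]
      omega
    have hβ' : monomial (β - Finsupp.single (2 : Fin 3) (β 2 - N)) (1 : k) ∈ I :=
      mono_of_le (Finsupp.single_le_iff.2 (by rw [hβ'2])) hN2
    have e : (⟨monomial β 1, hβ⟩ : ↥I) =
        (monomial (Finsupp.single (2 : Fin 3) (β 2 - N)) (1 : k) : MvPolynomial (Fin 3) k) •
          (⟨monomial (β - Finsupp.single (2 : Fin 3) (β 2 - N)) 1, hβ'⟩ : ↥I) := by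
      apply Subtype.ext
      rw [Submodule.coe_smul, smul_eq_mul, monomial_mul, one_mul, add_tsub_cancel_of_le hle]
    rw [e, map_smul, (hφ _ hβ').2 ⟨2, by rw [hβ'2]; omega⟩, smul_zero]

/-- the multidegree `(a1, a2, -e)` -/
def αe (a1 a2 e : ℕ) : Fin 3 → ℤ := ![(a1 : ℤ), (a2 : ℤ), -(e : ℤ)]

lemma αe_0 (a1 a2 e : ℕ) : αe a1 a2 e 0 = a1 := rfl
lemma αe_1 (a1 a2 e : ℕ) : αe a1 a2 e 1 = a2 := rfl
lemma αe_2 (a1 a2 e : ℕ) : αe a1 a2 e 2 = -(e : ℤ) := rfl

lemma αe_inj (a1 a2 : ℕ) {e e' : ℕ} (h : αe a1 a2 e = αe a1 a2 e') : e = e' := by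
  have := congrFun h 2
  rw [αe_2, αe_2] at this
  omega

/-- the set of `xy`-corner points above `(a1, a2)` -/
def KK (I : Ideal (MvPolynomial (Fin 3) k)) (a1 a2 N : ℕ) : Finset ((_ : ℕ × ℕ) × ℕ) :=
  (Finset.range N ×ˢ Finset.range N).sigma (fun pq =>
    if a1 ≤ pq.1 ∧ a2 ≤ pq.2 then
      Finset.Ico (max (stairZ I (pq.1 + 1) pq.2) (stairZ I pq.1 (pq.2 + 1))) (stairZ I pq.1 pq.2)
    else ∅)

lemma card_KK (a1 a2 N : ℕ) : (KK I a1 a2 N).card =
    ∑ pq ∈ Finset.range N ×ˢ Finset.range N, (if a1 ≤ pq.1 ∧ a2 ≤ pq.2 then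
      stairZ I pq.1 pq.2 - max (stairZ I (pq.1 + 1) pq.2) (stairZ I pq.1 (pq.2 + 1)) else 0) := by
  unfold KK
  rw [Finset.card_sigma]
  refine Finset.sum_congr rfl (fun pq _ => ?_)
  split_ifs
  · rw [Nat.card_Ico]
  · rw [Finset.card_empty]

lemma mem_KK (a1 a2 N : ℕ) (p q t : ℕ) (hp : p < N) (hq : q < N) (h1 : a1 ≤ p) (h2 : a2 ≤ q)
    (hx : stairZ I (p + 1) q ≤ t) (hy : stairZ I p (q + 1) ≤ t) (ht : t < stairZ I p q) :
    (⟨(p, q), t⟩ : (_ : ℕ × ℕ) × ℕ) ∈ KK I a1 a2 N := by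
  unfold KK
  rw [Finset.mem_sigma]
  refine ⟨Finset.mem_product.2 ⟨Finset.mem_range.2 hp, Finset.mem_range.2 hq⟩, ?_⟩
  show t ∈ (if a1 ≤ p ∧ a2 ≤ q then
      Finset.Ico (max (stairZ I (p + 1) q) (stairZ I p (q + 1))) (stairZ I p q) else ∅)
  rw [if_pos ⟨h1, h2⟩, Finset.mem_Ico]
  exact ⟨max_le hx hy, ht⟩

lemma exists_corner (hI : IsMonomial I) [Module.Finite k (MvPolynomial (Fin 3) k ⧸ I)] {N : ℕ}
    (hN : ∀ i : Fin 3, monomial (Finsupp.single i N) (1 : k) ∈ I) (a1 a2 e : ℕ) (he : 1 ≤ e)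
    (C : BC I (αe a1 a2 e)) :
    ∃ v : ↥(region I (αe a1 a2 e)), (Gr I (αe a1 a2 e)).connectedComponentMk v = C.1 ∧
      (∀ i, 0 ≤ v.1 i) ∧
      (⟨((v.1 0).toNat, (v.1 1).toNat), (v.1 2).toNat⟩ : (_ : ℕ × ℕ) × ℕ) ∈ KK I a1 a2 N ∧
      stairZ I ((v.1 0).toNat - a1) ((v.1 1).toNat - a2) = (v.1 2).toNat + e := by
  classical
  have hFne : (C.2.toFinset).Nonempty := by
    obtain ⟨v, hv⟩ := C.1.nonempty_supp
    exact ⟨v, C.2.mem_toFinset.2 hv⟩
  obtain ⟨v0, hv0F, hv0min⟩ := Finset.exists_min_image C.2.toFinset (fun v => v.1 2) hFne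
  have hF'ne : (C.2.toFinset.filter (fun v => v.1 2 = v0.1 2)).Nonempty :=
    ⟨v0, Finset.mem_filter.2 ⟨hv0F, rfl⟩⟩
  obtain ⟨v, hvF', hvmax⟩ := Finset.exists_max_image
    (C.2.toFinset.filter (fun v => v.1 2 = v0.1 2)) (fun v => v.1 0 + v.1 1) hF'ne
  have hvF : v ∈ C.2.toFinset := (Finset.mem_filter.1 hvF').1
  have hv2 : v.1 2 = v0.1 2 := (Finset.mem_filter.1 hvF').2
  have hvC : (Gr I (αe a1 a2 e)).connectedComponentMk v = C.1 := C.2.mem_toFinset.1 hvF
  have P1 : ∀ w : ↥(region I (αe a1 a2 e)),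
      (Gr I (αe a1 a2 e)).connectedComponentMk w = C.1 → v.1 2 ≤ w.1 2 := by
    intro w hw
    rw [hv2]
    exact hv0min w (C.2.mem_toFinset.2 hw)
  have P2 : ∀ w : ↥(region I (αe a1 a2 e)),
      (Gr I (αe a1 a2 e)).connectedComponentMk w = C.1 → w.1 2 = v.1 2 →
        w.1 0 + w.1 1 ≤ v.1 0 + v.1 1 := by
    intro w hw h2
    exact hvmax w (Finset.mem_filter.2 ⟨C.2.mem_toFinset.2 hw, h2.trans hv2⟩)
  have P3 : ∀ i, 0 ≤ v.1 i := by
    intro i
    by_contra hneg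
    push Not at hneg
    have := inf_of_neg (αe a1 a2 e) (by norm_num) v i hneg
    rw [hvC] at this
    exact this C.2
  obtain ⟨hβ, hpt⟩ := region_bof v.2
  have hc0 : v.1 0 = ((bof v.1 (αe a1 a2 e)) 0 : ℤ) + a1 := by
    have := congrFun hpt 0
    rw [pt_apply, αe_0] at this
    exact this.symm
  have hc1 : v.1 1 = ((bof v.1 (αe a1 a2 e)) 1 : ℤ) + a2 := by
    have := congrFun hpt 1
    rw [pt_apply, αe_1] at this
    exact this.symm
  have hc2 : v.1 2 = ((bof v.1 (αe a1 a2 e)) 2 : ℤ) + -(e : ℤ) := by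
    have := congrFun hpt 2
    rw [pt_apply, αe_2] at this
    exact this.symm
  have hstd : monomial (tn v.1) (1 : k) ∉ I :=
    fun hm => ((mem_region_iff (αe a1 a2 e) v.1).1 v.2).2 ⟨P3, hm⟩
  have hadj : ∀ w : ↥(region I (αe a1 a2 e)), (stepGraph (Fin 3)).Adj v.1 w.1 →
      (Gr I (αe a1 a2 e)).connectedComponentMk w = C.1 := by
    intro w hw
    rw [← hvC]
    exact SimpleGraph.ConnectedComponent.eq.2
      (SimpleGraph.Adj.reachable (show (Gr I (αe a1 a2 e)).Adj v w from hw)).symm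
  -- general successor step
  have hsucc : ∀ l : Fin 3, l ≠ 2 →
      monomial (tn (pt (Finsupp.single l 1 + bof v.1 (αe a1 a2 e)) (αe a1 a2 e))) (1 : k) ∈ I := by
    intro l hl
    by_contra hnot
    have hβ1 : monomial (Finsupp.single l 1 + bof v.1 (αe a1 a2 e)) (1 : k) ∈ I :=
      mono_add_mem _ hβ
    have hmem : pt (Finsupp.single l 1 + bof v.1 (αe a1 a2 e)) (αe a1 a2 e) ∈
        region I (αe a1 a2 e) :=
      (mem_region_iff _ _).2 ⟨⟨_, hβ1, rfl⟩, fun h => hnot h.2⟩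
    have hadj' := adj_pt (αe a1 a2 e) (bof v.1 (αe a1 a2 e)) l
    rw [hpt] at hadj'
    have hC' := hadj ⟨_, hmem⟩ hadj'
    have h2' : pt (Finsupp.single l 1 + bof v.1 (αe a1 a2 e)) (αe a1 a2 e) 2 = v.1 2 := by
      rw [pt_succ_ne _ _ (Ne.symm hl), hpt]
    have hP := P2 ⟨_, hmem⟩ hC' h2'
    have hsame := pt_succ_same (αe a1 a2 e) (bof v.1 (αe a1 a2 e)) l
    rw [hpt] at hsame
    rcases fin3_cases l with h | h | h
    · subst h
      have hne1 := pt_succ_ne (αe a1 a2 e) (bof v.1 (αe a1 a2 e)) (l := 0) (j := 1) (by decide)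
      rw [hpt] at hne1
      have hP' : pt (Finsupp.single 0 1 + bof v.1 (αe a1 a2 e)) (αe a1 a2 e) 0 +
          pt (Finsupp.single 0 1 + bof v.1 (αe a1 a2 e)) (αe a1 a2 e) 1 ≤ v.1 0 + v.1 1 := hP
      rw [hsame, hne1] at hP'
      omega
    · subst h
      have hne0 := pt_succ_ne (αe a1 a2 e) (bof v.1 (αe a1 a2 e)) (l := 1) (j := 0) (by decide)
      rw [hpt] at hne0
      have hP' : pt (Finsupp.single 1 1 + bof v.1 (αe a1 a2 e)) (αe a1 a2 e) 0 +
          pt (Finsupp.single 1 1 + bof v.1 (αe a1 a2 e)) (αe a1 a2 e) 1 ≤ v.1 0 + v.1 1 := hP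
      rw [hsame, hne0] at hP'
      omega
    · exact hl h
  -- x-direction
  have hx : e3 ((v.1 0).toNat + 1) (v.1 1).toNat (v.1 2).toNat ∈ exps I := by
    have h := hsucc 0 (by decide)
    rw [tn_eq] at h
    have e0 := pt_succ_same (αe a1 a2 e) (bof v.1 (αe a1 a2 e)) 0
    have e1 := pt_succ_ne (αe a1 a2 e) (bof v.1 (αe a1 a2 e)) (l := 0) (j := 1) (by decide)
    have e2 := pt_succ_ne (αe a1 a2 e) (bof v.1 (αe a1 a2 e)) (l := 0) (j := 2) (by decide)
    rw [hpt] at e0 e1 e2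
    rw [e0, e1, e2] at h
    have : (v.1 0 + 1).toNat = (v.1 0).toNat + 1 := by have := P3 0; omega
    rw [this] at h
    exact h
  have hy : e3 (v.1 0).toNat ((v.1 1).toNat + 1) (v.1 2).toNat ∈ exps I := by
    have h := hsucc 1 (by decide)
    rw [tn_eq] at h
    have e0 := pt_succ_ne (αe a1 a2 e) (bof v.1 (αe a1 a2 e)) (l := 1) (j := 0) (by decide)
    have e1 := pt_succ_same (αe a1 a2 e) (bof v.1 (αe a1 a2 e)) 1
    have e2 := pt_succ_ne (αe a1 a2 e) (bof v.1 (αe a1 a2 e)) (l := 1) (j := 2) (by decide)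
    rw [hpt] at e0 e1 e2
    rw [e0, e1, e2] at h
    have : (v.1 1 + 1).toNat = (v.1 1).toNat + 1 := by have := P3 1; omega
    rw [this] at h
    exact h
  have hz : e3 (v.1 0).toNat (v.1 1).toNat (v.1 2).toNat ∉ exps I := by
    intro h
    apply hstd
    rw [tn_eq]
    exact h
  -- predecessor in the z-direction
  have hβ2 : 1 ≤ (bof v.1 (αe a1 a2 e)) 2 := by
    have := P3 2
    omega
  have hsum : Finsupp.single (2 : Fin 3) 1 + (bof v.1 (αe a1 a2 e) - Finsupp.single (2 : Fin 3) 1) =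
      bof v.1 (αe a1 a2 e) :=
    add_tsub_cancel_of_le (Finsupp.single_le_iff.2 hβ2)
  have hpred : monomial (bof v.1 (αe a1 a2 e) - Finsupp.single (2 : Fin 3) 1) (1 : k) ∉ I := by
    intro hin
    have e0 := pt_succ_ne (αe a1 a2 e) (bof v.1 (αe a1 a2 e) - Finsupp.single (2 : Fin 3) 1)
      (l := 2) (j := 0) (by decide)
    have e1 := pt_succ_ne (αe a1 a2 e) (bof v.1 (αe a1 a2 e) - Finsupp.single (2 : Fin 3) 1)
      (l := 2) (j := 1) (by decide)
    have e2 := pt_succ_same (αe a1 a2 e) (bof v.1 (αe a1 a2 e) - Finsupp.single (2 : Fin 3) 1) 2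
    rw [hsum, hpt] at e0 e1 e2
    have hmem : pt (bof v.1 (αe a1 a2 e) - Finsupp.single (2 : Fin 3) 1) (αe a1 a2 e) ∈
        region I (αe a1 a2 e) := by
      refine (mem_region_iff _ _).2 ⟨⟨_, hin, rfl⟩, fun h => hstd (mono_of_le ?_ h.2)⟩
      refine Finsupp.le_def.2 (fun i => ?_)
      rw [tn_apply, tn_apply]
      rcases fin3_cases i with h' | h' | h' <;> subst h'
      · rw [← e0]
      · rw [← e1]
      · rw [e2]; omega
    have hadj' := adj_pt (αe a1 a2 e) (bof v.1 (αe a1 a2 e) - Finsupp.single (2 : Fin 3) 1) 2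
    rw [hsum, hpt] at hadj'
    have hC' := hadj ⟨_, hmem⟩ hadj'.symm
    have hP := P1 ⟨_, hmem⟩ hC'
    have hP' : v.1 2 ≤
        pt (bof v.1 (αe a1 a2 e) - Finsupp.single (2 : Fin 3) 1) (αe a1 a2 e) 2 := hP
    omega
  have hpred' : e3 ((bof v.1 (αe a1 a2 e)) 0) ((bof v.1 (αe a1 a2 e)) 1)
      ((bof v.1 (αe a1 a2 e)) 2 - 1) ∉ exps I := by
    intro h
    apply hpred
    have : bof v.1 (αe a1 a2 e) - Finsupp.single (2 : Fin 3) 1 =
        e3 ((bof v.1 (αe a1 a2 e)) 0) ((bof v.1 (αe a1 a2 e)) 1)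
          ((bof v.1 (αe a1 a2 e)) 2 - 1) := by
      ext i
      rcases fin3_cases i with h' | h' | h' <;> subst h'
      · rw [Finsupp.tsub_apply, Finsupp.single_apply, if_neg (by decide), e3_0]; rfl
      · rw [Finsupp.tsub_apply, Finsupp.single_apply, if_neg (by decide), e3_1]; rfl
      · rw [Finsupp.tsub_apply, Finsupp.single_eq_same, e3_2]
    rw [this]
    exact h
  have hβ' : e3 ((bof v.1 (αe a1 a2 e)) 0) ((bof v.1 (αe a1 a2 e)) 1)
      ((bof v.1 (αe a1 a2 e)) 2) ∈ exps I := by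
    show monomial _ (1 : k) ∈ I
    rw [← eq_e3]
    exact hβ
  have hstair : stairZ I ((bof v.1 (αe a1 a2 e)) 0) ((bof v.1 (αe a1 a2 e)) 1) =
      (bof v.1 (αe a1 a2 e)) 2 := by
    have h1 := (stair_spec (hN 2) _ _ _).1 hpred'
    have h2 : ¬ ((bof v.1 (αe a1 a2 e)) 2 <
        stairZ I ((bof v.1 (αe a1 a2 e)) 0) ((bof v.1 (αe a1 a2 e)) 1)) :=
      fun h => (stair_spec (hN 2) _ _ _).2 h hβ'
    omega
  have hp : (v.1 0).toNat < N := by
    by_contra hge
    push Not at hge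
    exact hz (mono_of_le (Finsupp.single_le_iff.2 (by rw [e3_0]; exact hge)) (hN 0))
  have hq : (v.1 1).toNat < N := by
    by_contra hge
    push Not at hge
    exact hz (mono_of_le (Finsupp.single_le_iff.2 (by rw [e3_1]; exact hge)) (hN 1))
  refine ⟨v, hvC, P3, mem_KK a1 a2 N _ _ _ hp hq (by omega) (by omega) ?_ ?_ ?_, ?_⟩
  · by_contra hlt
    push Not at hlt
    exact (stair_spec (hN 2) _ _ _).2 hlt hx
  · by_contra hlt
    push Not at hlt
    exact (stair_spec (hN 2) _ _ _).2 hlt hy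
  · exact (stair_spec (hN 2) _ _ _).1 hz
  · have e0 : (v.1 0).toNat - a1 = (bof v.1 (αe a1 a2 e)) 0 := by omega
    have e1 : (v.1 1).toNat - a2 = (bof v.1 (αe a1 a2 e)) 1 := by omega
    rw [e0, e1, hstair]
    have := P3 2
    omega

theorem main40 (hI : IsMonomial I) [Module.Finite k (MvPolynomial (Fin 3) k ⧸ I)] (a1 a2 : ℕ) :
    Module.finrank k ↥(⨆ α : {α : Fin 3 → ℤ // α 0 = (a1 : ℤ) ∧ α 1 = (a2 : ℤ) ∧ α 2 < 0},
      tPiece I α.1) ≤
      ∑ᶠ p : ℕ × ℕ, (if a1 ≤ p.1 ∧ a2 ≤ p.2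
        then stairZ I p.1 p.2 - max (stairZ I (p.1 + 1) p.2) (stairZ I p.1 (p.2 + 1)) else 0) := by
  classical
  obtain ⟨N, hN⟩ := exists_bound hI
  haveI := tgt_finite hI
  have hfd : ∀ α, Module.Finite k ↥(tPiece I α) := fun α => inferInstance
  have hsup : (⨆ α : {α : Fin 3 → ℤ // α 0 = (a1 : ℤ) ∧ α 1 = (a2 : ℤ) ∧ α 2 < 0},
      tPiece I α.1) = ((Finset.Icc 1 N).image (αe a1 a2)).sup (tPiece I) := by
    apply le_antisymm
    · refine iSup_le (fun α => ?_)
      by_cases hbig : α.1 2 < -(N : ℤ)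
      · rw [piece_bot_of_lt hI (hN 2) α.1 hbig]
        exact bot_le
      · push Not at hbig
        have hα : α.1 = αe a1 a2 (-(α.1 2)).toNat := by
          funext i
          rcases fin3_cases i with h | h | h <;> subst h
          · exact α.2.1
          · exact α.2.2.1
          · show α.1 2 = -(((-(α.1 2)).toNat : ℕ) : ℤ)
            have := α.2.2.2
            omega
        rw [hα]
        refine Finset.le_sup (f := tPiece I) (Finset.mem_image.2 ⟨_, Finset.mem_Icc.2 ⟨?_, ?_⟩, rfl⟩)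
        · have := α.2.2.2
          omega
        · omega
    · refine Finset.sup_le (fun α hα => ?_)
      obtain ⟨e, he, rfl⟩ := Finset.mem_image.1 hα
      refine le_iSup (fun α : {α : Fin 3 → ℤ // α 0 = (a1 : ℤ) ∧ α 1 = (a2 : ℤ) ∧ α 2 < 0} =>
        tPiece I α.1) ⟨αe a1 a2 e, rfl, rfl, ?_⟩
      show -(e : ℤ) < 0
      have := (Finset.mem_Icc.1 he).1
      omega
  rw [hsup, finrank_sup hI hfd, Finset.sum_image (fun e _ e' _ h => αe_inj a1 a2 h)]
  have hterm : ∀ e ∈ Finset.Icc 1 N, Module.finrank k ↥(tPiece I (αe a1 a2 e)) ≤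
      ((KK I a1 a2 N).filter
        (fun x => stairZ I (x.1.1 - a1) (x.1.2 - a2) - x.2 = e)).card := by
    intro e he
    rw [Groth.Agent.H4.TgtCC.main k 3 (by norm_num) I hI (αe a1 a2 e)]
    show Nat.card (BC I (αe a1 a2 e)) ≤ _
    choose f hf using exists_corner hI hN a1 a2 e (Finset.mem_Icc.1 he).1
    have hmemK : ∀ C : BC I (αe a1 a2 e),
        (⟨(((f C).1 0).toNat, ((f C).1 1).toNat), ((f C).1 2).toNat⟩ : (_ : ℕ × ℕ) × ℕ) ∈
          (KK I a1 a2 N).filter (fun x => stairZ I (x.1.1 - a1) (x.1.2 - a2) - x.2 = e) := by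
      intro C
      refine Finset.mem_filter.2 ⟨(hf C).2.2.1, ?_⟩
      have := (hf C).2.2.2
      show stairZ I (((f C).1 0).toNat - a1) (((f C).1 1).toNat - a2) - ((f C).1 2).toNat = e
      omega
    have hinj : Function.Injective (fun C : BC I (αe a1 a2 e) =>
        (⟨_, hmemK C⟩ : ↥((KK I a1 a2 N).filter
          (fun x => stairZ I (x.1.1 - a1) (x.1.2 - a2) - x.2 = e)))) := by
      intro C C' h
      have h' := congrArg Subtype.val h
      have h0 : ((f C).1 0).toNat = ((f C').1 0).toNat := congrArg (fun x => x.1.1) h'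
      have h1 : ((f C).1 1).toNat = ((f C').1 1).toNat := congrArg (fun x => x.1.2) h'
      have h2 : ((f C).1 2).toNat = ((f C').1 2).toNat := by
        have := (Sigma.mk.inj_iff.1 h').2
        exact eq_of_heq this
      have hv : f C = f C' := by
        apply Subtype.ext
        funext i
        have n1 := (hf C).2.1 i
        have n2 := (hf C').2.1 i
        rcases fin3_cases i with hh | hh | hh <;> subst hh <;> omega
      apply Subtype.ext
      rw [← (hf C).1, ← (hf C').1, hv]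
    have := Nat.card_le_card_of_injective _ hinj
    rwa [Nat.card_eq_finsetCard] at this
  calc ∑ e ∈ Finset.Icc 1 N, Module.finrank k ↥(tPiece I (αe a1 a2 e))
      ≤ ∑ e ∈ Finset.Icc 1 N, ((KK I a1 a2 N).filter
        (fun x => stairZ I (x.1.1 - a1) (x.1.2 - a2) - x.2 = e)).card := Finset.sum_le_sum hterm
    _ = ((KK I a1 a2 N).filter
        (fun x => stairZ I (x.1.1 - a1) (x.1.2 - a2) - x.2 ∈ Finset.Icc 1 N)).card :=
          Finset.sum_card_fiberwise_eq_card_filter _ _ _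
    _ ≤ (KK I a1 a2 N).card := Finset.card_filter_le _ _
    _ = _ := card_KK a1 a2 N
    _ = _ := by
      refine (finsum_eq_sum_of_support_subset _ ?_).symm
      intro pq hpq
      rw [Function.mem_support] at hpq
      rw [Finset.coe_product, Set.mem_prod, Finset.mem_coe, Finset.mem_coe, Finset.mem_range,
        Finset.mem_range]
      by_contra hcon
      apply hpq
      rw [stair_zero hN pq.1 pq.2 hcon]
      split_ifs <;> simp

end Three

end Groth.Agent.H4.TgtCorner
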