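import Mathlib
import Groth.Prelude.Def_W4c1hilbpnTgt
import Groth.Agent.H4.TgtDec
import Groth.Agent.H4.TgtSS
import Groth.Agent.H4.TgtPow
import Groth.Agent.H4.TgtGen
import Groth.Agent.H4.TgtCorner

set_option autoImplicit false
universe u
open W4c1hilbpn MvPolynomial
open Groth.Agent.H4.TgtDec Groth.Agent.H4.TgtSS Groth.Agent.H4.TgtPow Groth.Agent.H4.TgtGen
open Groth.Agent.H4.TgtCorner

noncomputable section
namespace Groth.Agent.H4.TgtSlice

variable {k : Type u} [Field k]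

section Std
variable {n : ℕ} {I : Ideal (MvPolynomial (Fin n) k)}

/-- the colength of a monomial ideal is the number of standard monomials -/
lemma std_card (hI : IsMonomial I)
    (hfin : {δ : Fin n →₀ ℕ | monomial δ (1 : k) ∉ I}.Finite) :
    Module.finrank k (MvPolynomial (Fin n) k ⧸ I) =
      ({δ : Fin n →₀ ℕ | monomial δ (1 : k) ∉ I}).ncard := by
  classical
  haveI : Finite ↥{δ : Fin n →₀ ℕ | monomial δ (1 : k) ∉ I} := hfin.to_subtype
  haveI : Fintype ↥{δ : Fin n →₀ ℕ | monomial δ (1 : k) ∉ I} := Fintype.ofFinite _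
  let L : (MvPolynomial (Fin n) k ⧸ I) →ₗ[k]
      (↥{δ : Fin n →₀ ℕ | monomial δ (1 : k) ∉ I} → k) :=
    LinearMap.pi (fun δ => lam hI δ.1 δ.2)
  have hL : ∀ (p : MvPolynomial (Fin n) k) (δ : ↥{δ : Fin n →₀ ℕ | monomial δ (1 : k) ∉ I}),
      L (Ideal.Quotient.mk I p) δ = coeff δ.1 p := fun p δ => lam_mk hI δ.1 δ.2 p
  have hbij : Function.Bijective L := by
    refine ⟨?_, ?_⟩
    · rw [← LinearMap.ker_eq_bot, LinearMap.ker_eq_bot']
      intro y hy
      obtain ⟨p, rfl⟩ := Ideal.Quotient.mk_surjective y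
      have h0 : ∀ δ, monomial δ (1 : k) ∉ I → coeff δ p = 0 := by
        intro δ hδ
        have := congrFun hy ⟨δ, hδ⟩
        rw [hL] at this
        exact this
      rw [← map_zero (Ideal.Quotient.mk I)]
      exact mk_eq_of_coeff (fun δ hδ => by rw [h0 δ hδ, coeff_zero])
    · intro c
      refine ⟨Ideal.Quotient.mk I
        (∑ δ : ↥{δ : Fin n →₀ ℕ | monomial δ (1 : k) ∉ I}, monomial δ.1 (c δ)), ?_⟩
      funext δ'
      rw [hL, coeff_sum, Finset.sum_eq_single δ']
      · rw [coeff_monomial, if_pos rfl]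
      · intro b _ hb
        rw [coeff_monomial, if_neg (fun h => hb (Subtype.ext h))]
      · intro h
        exact absurd (Finset.mem_univ _) h
  rw [(LinearEquiv.ofBijective L hbij).finrank_eq, Module.finrank_fintype_fun_eq_card,
    ← Nat.card_eq_fintype_card, Nat.card_coe_set_eq]

lemma eq_of_exps {J : Ideal (MvPolynomial (Fin n) k)} (hI : IsMonomial I) (hJ : IsMonomial J)
    (h : ∀ β : Fin n →₀ ℕ, monomial β (1 : k) ∈ I ↔ monomial β (1 : k) ∈ J) : I = J := by
  have key : ∀ {A B : Ideal (MvPolynomial (Fin n) k)}, IsMonomial A →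
      (∀ β : Fin n →₀ ℕ, monomial β (1 : k) ∈ A → monomial β (1 : k) ∈ B) → A ≤ B := by
    intro A B hA hAB p hp
    rw [← support_sum_monomial_coeff p]
    refine Ideal.sum_mem _ (fun δ hδ => ?_)
    have := B.mul_mem_left (C (coeff δ p)) (hAB δ (hA p hp δ hδ))
    rwa [C_mul_monomial, mul_one] at this
  exact le_antisymm (key hI (fun β => (h β).1)) (key hJ (fun β => (h β).2))

end Std

section Slice
variable {I : Ideal (MvPolynomial (Fin 3) k)}

/-- lift an exponent of `k[y,z]` to `x^i y^b z^c` -/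
def up (i : ℕ) (δ : Fin 2 →₀ ℕ) : Fin 3 →₀ ℕ := e3 i (δ 0) (δ 1)

lemma up_eq (i : ℕ) (δ : Fin 2 →₀ ℕ) :
    δ.mapDomain Fin.succ + Finsupp.single (0 : Fin 3) i = up i δ := by
  ext j
  rcases fin3_cases j with h | h | h <;> subst h
  · rw [Finsupp.add_apply, Finsupp.single_eq_same,
      Finsupp.mapDomain_of_notMem_range _ _ (by rintro ⟨a, ha⟩; exact Fin.succ_ne_zero a ha)]
    show 0 + i = i
    omega
  · have : (1 : Fin 3) = Fin.succ (0 : Fin 2) := rfl
    rw [Finsupp.add_apply, Finsupp.single_apply, if_neg (by decide), this,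
      Finsupp.mapDomain_apply (Fin.succ_injective 2)]
    rfl
  · have : (2 : Fin 3) = Fin.succ (1 : Fin 2) := rfl
    rw [Finsupp.add_apply, Finsupp.single_apply, if_neg (by decide), this,
      Finsupp.mapDomain_apply (Fin.succ_injective 2)]
    rfl

lemma mem_sliceX (i : ℕ) (f : MvPolynomial (Fin 2) k) :
    f ∈ sliceX I i ↔ rename Fin.succ f * X 0 ^ i ∈ I := by
  unfold sliceX
  rw [Ideal.mem_comap, Submodule.mem_colon_singleton, smul_eq_mul]
  rfl

lemma coeff_up (i : ℕ) (f : MvPolynomial (Fin 2) k) (δ : Fin 2 →₀ ℕ) :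
    coeff (up i δ) (rename Fin.succ f * X 0 ^ i) = coeff δ f := by
  rw [← up_eq i δ, X_pow_eq_monomial, coeff_mul_monomial, mul_one,
    coeff_rename_mapDomain _ (Fin.succ_injective 2)]

lemma mono_mem_slice (i : ℕ) (δ : Fin 2 →₀ ℕ) :
    monomial δ (1 : k) ∈ sliceX I i ↔ up i δ ∈ exps I := by
  rw [mem_sliceX, rename_monomial, X_pow_eq_monomial, monomial_mul, mul_one, up_eq]
  rfl

lemma slice_monomial (hI : IsMonomial I) (i : ℕ) : IsMonomial (sliceX I i) := by
  intro f hf δ hδ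
  rw [mono_mem_slice]
  rw [mem_sliceX] at hf
  apply hI _ hf
  rw [mem_support_iff, coeff_up]
  exact mem_support_iff.1 hδ

/-- the standard monomials in the slice `x = i`, as pairs -/
def SS (I : Ideal (MvPolynomial (Fin 3) k)) (i : ℕ) : Set (ℕ × ℕ) :=
  {bc | e3 i bc.1 bc.2 ∉ exps I}

lemma mem_SS (i b c : ℕ) : (b, c) ∈ SS I i ↔ e3 i b c ∉ exps I := Iff.rfl

lemma SS_sub {N : ℕ} (hN : ∀ i : Fin 3, monomial (Finsupp.single i N) (1 : k) ∈ I) (i : ℕ) :
    SS I i ⊆ ↑(Finset.range N ×ˢ Finset.range N) := by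
  intro bc hbc
  rw [Finset.coe_product, Set.mem_prod, Finset.mem_coe, Finset.mem_coe, Finset.mem_range,
    Finset.mem_range]
  constructor
  · by_contra hge
    push Not at hge
    exact hbc (mono_of_le (Finsupp.single_le_iff.2 (by rw [e3_1]; exact hge)) (hN 1))
  · by_contra hge
    push Not at hge
    exact hbc (mono_of_le (Finsupp.single_le_iff.2 (by rw [e3_2]; exact hge)) (hN 2))

lemma SS_finite {N : ℕ} (hN : ∀ i : Fin 3, monomial (Finsupp.single i N) (1 : k) ∈ I) (i : ℕ) :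
    (SS I i).Finite := (Finset.finite_toSet _).subset (SS_sub hN i)

/-- pairs versus exponent vectors in two variables -/
def e₂ : (Fin 2 →₀ ℕ) ≃ ℕ × ℕ where
  toFun δ := (δ 0, δ 1)
  invFun bc := Finsupp.equivFunOnFinite.symm ![bc.1, bc.2]
  left_inv δ := by
    ext j
    fin_cases j <;> rfl
  right_inv bc := rfl

lemma finrank_slice (hI : IsMonomial I) {N : ℕ}
    (hN : ∀ i : Fin 3, monomial (Finsupp.single i N) (1 : k) ∈ I) (i : ℕ) :
    Module.finrank k (MvPolynomial (Fin 2) k ⧸ sliceX I i) = (SS I i).ncard := by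
  have himg : {δ : Fin 2 →₀ ℕ | monomial δ (1 : k) ∉ sliceX I i} = e₂.symm '' (SS I i) := by
    ext δ
    constructor
    · intro hδ
      refine ⟨e₂ δ, ?_, e₂.symm_apply_apply δ⟩
      intro h
      exact hδ ((mono_mem_slice i δ).2 h)
    · rintro ⟨bc, hbc, rfl⟩ h
      exact hbc ((mono_mem_slice i (e₂.symm bc)).1 h)
  have hfin : {δ : Fin 2 →₀ ℕ | monomial δ (1 : k) ∉ sliceX I i}.Finite := by
    rw [himg]
    exact (SS_finite hN i).image _
  rw [std_card (slice_monomial hI i) hfin, himg, Set.ncard_image_of_injective _ e₂.symm.injective]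

end Slice

section Comb
variable {I : Ideal (MvPolynomial (Fin 3) k)}

lemma move_yx (hI : IsStronglyStable I) {a b c : ℕ} (h : e3 a (b + 1) c ∈ exps I) :
    e3 (a + 1) b c ∈ exps I := by
  have h1 := hI.2 _ h 0 1 (by decide) (by rw [e3_1]; omega)
  have e : e3 a (b + 1) c - Finsupp.single (1 : Fin 3) 1 + Finsupp.single (0 : Fin 3) 1 =
      e3 (a + 1) b c := by
    ext j
    rcases fin3_cases j with h' | h' | h' <;> subst h'
    · rw [Finsupp.add_apply, Finsupp.tsub_apply, Finsupp.single_apply, if_neg (by decide),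
        Finsupp.single_apply, if_pos rfl, e3_0, e3_0]
      omega
    · rw [Finsupp.add_apply, Finsupp.tsub_apply, Finsupp.single_apply, if_pos rfl,
        Finsupp.single_apply, if_neg (by decide), e3_1, e3_1]
      omega
    · rw [Finsupp.add_apply, Finsupp.tsub_apply, Finsupp.single_apply, if_neg (by decide),
        Finsupp.single_apply, if_neg (by decide), e3_2, e3_2]
      omega
  rwa [e] at h1

lemma move_zx (hI : IsStronglyStable I) {a b c : ℕ} (h : e3 a b (c + 1) ∈ exps I) :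
    e3 (a + 1) b c ∈ exps I := by
  have h1 := hI.2 _ h 0 2 (by decide) (by rw [e3_2]; omega)
  have e : e3 a b (c + 1) - Finsupp.single (2 : Fin 3) 1 + Finsupp.single (0 : Fin 3) 1 =
      e3 (a + 1) b c := by
    ext j
    rcases fin3_cases j with h' | h' | h' <;> subst h'
    · rw [Finsupp.add_apply, Finsupp.tsub_apply, Finsupp.single_apply, if_neg (by decide),
        Finsupp.single_apply, if_pos rfl, e3_0, e3_0]
      omega
    · rw [Finsupp.add_apply, Finsupp.tsub_apply, Finsupp.single_apply, if_neg (by decide),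
        Finsupp.single_apply, if_neg (by decide), e3_1, e3_1]
      omega
    · rw [Finsupp.add_apply, Finsupp.tsub_apply, Finsupp.single_apply, if_pos rfl,
        Finsupp.single_apply, if_neg (by decide), e3_2, e3_2]
      omega
  rwa [e] at h1

lemma move_zy (hI : IsStronglyStable I) {a b c : ℕ} (h : e3 a b (c + 1) ∈ exps I) :
    e3 a (b + 1) c ∈ exps I := by
  have h1 := hI.2 _ h 1 2 (by decide) (by rw [e3_2]; omega)
  have e : e3 a b (c + 1) - Finsupp.single (2 : Fin 3) 1 + Finsupp.single (1 : Fin 3) 1 =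
      e3 a (b + 1) c := by
    ext j
    rcases fin3_cases j with h' | h' | h' <;> subst h'
    · rw [Finsupp.add_apply, Finsupp.tsub_apply, Finsupp.single_apply, if_neg (by decide),
        Finsupp.single_apply, if_neg (by decide), e3_0, e3_0]
      omega
    · rw [Finsupp.add_apply, Finsupp.tsub_apply, Finsupp.single_apply, if_neg (by decide),
        Finsupp.single_apply, if_pos rfl, e3_1, e3_1]
      omega
    · rw [Finsupp.add_apply, Finsupp.tsub_apply, Finsupp.single_apply, if_pos rfl,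
        Finsupp.single_apply, if_neg (by decide), e3_2, e3_2]
      omega
  rwa [e] at h1

lemma SS_yx (hI : IsStronglyStable I) {a b c : ℕ} (h : (b, c) ∈ SS I (a + 1)) :
    (b + 1, c) ∈ SS I a := fun h' => h (move_yx hI h')

lemma SS_zx (hI : IsStronglyStable I) {a b c : ℕ} (h : (b, c) ∈ SS I (a + 1)) :
    (b, c + 1) ∈ SS I a := fun h' => h (move_zx hI h')

lemma SS_zy (hI : IsStronglyStable I) {a b c : ℕ} (h : (b + 1, c) ∈ SS I a) :
    (b, c + 1) ∈ SS I a := fun h' => h (move_zy hI h')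

lemma SS_zero_iff {N : ℕ} (hN2 : monomial (Finsupp.single (2 : Fin 3) N) (1 : k) ∈ I)
    (a c : ℕ) : (0, c) ∈ SS I a ↔ c < stairZ I a 0 := stair_spec hN2 a 0 c

lemma SS_deg (hI : IsStronglyStable I) {N : ℕ}
    (hN2 : monomial (Finsupp.single (2 : Fin 3) N) (1 : k) ∈ I) (a : ℕ) :
    ∀ b c, (b, c) ∈ SS I a → b + c < stairZ I a 0 := by
  intro b
  induction b with
  | zero =>
    intro c h
    rw [zero_add]
    exact (SS_zero_iff hN2 a c).1 h
  | succ b ih =>
    intro c h
    have := ih (c + 1) (SS_zy hI h)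
    omega

/-- the triangle `b + c < m` -/
def tri (m : ℕ) : Finset (ℕ × ℕ) :=
  (Finset.range m).biUnion (fun b => (Finset.range (m - b)).image (fun c => (b, c)))

lemma mem_tri (m : ℕ) (bc : ℕ × ℕ) : bc ∈ tri m ↔ bc.1 + bc.2 < m := by
  unfold tri
  rw [Finset.mem_biUnion]
  constructor
  · rintro ⟨b, hb, h⟩
    rw [Finset.mem_image] at h
    obtain ⟨c, hc, rfl⟩ := h
    rw [Finset.mem_range] at hb hc
    show b + c < m
    omega
  · intro h
    refine ⟨bc.1, Finset.mem_range.2 (by omega), Finset.mem_image.2 ⟨bc.2, Finset.mem_range.2 (by omega), rfl⟩⟩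

lemma sum_tri (m : ℕ) : ∑ b ∈ Finset.range m, (m - b) = (m + 1).choose 2 := by
  induction m with
  | zero => simp
  | succ m ih =>
    rw [Finset.sum_range_succ']
    have : ∀ b ∈ Finset.range m, m + 1 - (b + 1) = m - b := by
      intro b _
      rw [Nat.add_sub_add_right]
    rw [Finset.sum_congr rfl this, ih, Nat.sub_zero]
    have h2 : (m + 1 + 1).choose 2 = (m + 1).choose 1 + (m + 1).choose 2 :=
      Nat.choose_succ_succ (m + 1) 1
    rw [Nat.choose_one_right] at h2
    omega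

lemma card_tri (m : ℕ) : (tri m).card = (m + 1).choose 2 := by
  unfold tri
  rw [Finset.card_biUnion]
  · rw [← sum_tri m]
    refine Finset.sum_congr rfl (fun b _ => ?_)
    rw [Finset.card_image_of_injective _ (fun x y h => (Prod.mk.inj h).2), Finset.card_range]
  · intro x _ y _ hxy
    show Disjoint ((Finset.range (m - x)).image (fun c => (x, c)))
      ((Finset.range (m - y)).image (fun c => (y, c)))
    rw [Finset.disjoint_left]
    intro a ha hb
    rw [Finset.mem_image] at ha hb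
    obtain ⟨c, _, rfl⟩ := ha
    obtain ⟨c', _, h⟩ := hb
    exact hxy (Prod.mk.inj h).1.symm

lemma SS_card_le (hI : IsStronglyStable I) {N : ℕ}
    (hN : ∀ i : Fin 3, monomial (Finsupp.single i N) (1 : k) ∈ I) (a m : ℕ)
    (h : stairZ I a 0 ≤ m) : (SS I a).ncard ≤ (m + 1).choose 2 := by
  rw [← card_tri m, ← Set.ncard_coe_finset (tri m)]
  refine Set.ncard_le_ncard (fun bc hbc => ?_) (Finset.finite_toSet _)
  rw [Finset.mem_coe, mem_tri]
  have := SS_deg hI (hN 2) a bc.1 bc.2 hbc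
  omega

lemma SS_step (hI : IsStronglyStable I) {N : ℕ}
    (hN : ∀ i : Fin 3, monomial (Finsupp.single i N) (1 : k) ∈ I) (a : ℕ) :
    (SS I (a + 1)).ncard + stairZ I a 0 ≤ (SS I a).ncard := by
  classical
  have hA : ((fun bc : ℕ × ℕ => (bc.1 + 1, bc.2)) '' SS I (a + 1)).ncard =
      (SS I (a + 1)).ncard :=
    Set.ncard_image_of_injective _ (fun x y h => by
      have h1 := (Prod.mk.inj h).1
      have h2 := (Prod.mk.inj h).2
      exact Prod.ext (by omega) h2)
  have hB : ((fun c : ℕ => ((0 : ℕ), c)) '' (↑(Finset.range (stairZ I a 0)) : Set ℕ)).ncard =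
      stairZ I a 0 := by
    rw [Set.ncard_image_of_injective _ (fun x y h => (Prod.mk.inj h).2), Set.ncard_coe_finset,
      Finset.card_range]
  have hdisj : Disjoint ((fun bc : ℕ × ℕ => (bc.1 + 1, bc.2)) '' SS I (a + 1))
      ((fun c : ℕ => ((0 : ℕ), c)) '' (↑(Finset.range (stairZ I a 0)) : Set ℕ)) := by
    rw [Set.disjoint_left]
    rintro _ ⟨bc, _, rfl⟩ ⟨c, _, h⟩
    have := (Prod.mk.inj h).1
    omega
  have hsub : ((fun bc : ℕ × ℕ => (bc.1 + 1, bc.2)) '' SS I (a + 1)) ∪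
      ((fun c : ℕ => ((0 : ℕ), c)) '' (↑(Finset.range (stairZ I a 0)) : Set ℕ)) ⊆ SS I a := by
    rintro _ (⟨bc, hbc, rfl⟩ | ⟨c, hc, rfl⟩)
    · exact SS_yx hI hbc
    · exact (SS_zero_iff (hN 2) a c).2 (Finset.mem_range.1 (Finset.mem_coe.1 hc))
  have hAfin : ((fun bc : ℕ × ℕ => (bc.1 + 1, bc.2)) '' SS I (a + 1)).Finite :=
    (SS_finite hN (a + 1)).image _
  have hBfin : ((fun c : ℕ => ((0 : ℕ), c)) ''
      (↑(Finset.range (stairZ I a 0)) : Set ℕ)).Finite := (Finset.finite_toSet _).image _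
  have h1 := Set.ncard_union_eq hdisj hAfin hBfin
  have h2 := Set.ncard_le_ncard hsub (SS_finite hN a)
  omega

lemma D_step (hI : IsStronglyStable I) {N : ℕ}
    (hN2 : monomial (Finsupp.single (2 : Fin 3) N) (1 : k) ∈ I) (a : ℕ)
    (h : 1 ≤ stairZ I (a + 1) 0) : stairZ I (a + 1) 0 + 1 ≤ stairZ I a 0 := by
  have h1 : (0, stairZ I (a + 1) 0 - 1) ∈ SS I (a + 1) :=
    (SS_zero_iff hN2 (a + 1) _).2 (by omega)
  have h2 := SS_zx hI h1
  have h3 := (SS_zero_iff hN2 a _).1 h2
  omega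

lemma std3_finite {N : ℕ} (hN : ∀ i : Fin 3, monomial (Finsupp.single i N) (1 : k) ∈ I) :
    {δ : Fin 3 →₀ ℕ | monomial δ (1 : k) ∉ I}.Finite :=
  (Set.finite_Iic (bN 3 N)).subset (fun δ hδ => std_in_box hN δ hδ)

lemma sum_SS {N : ℕ} (hN : ∀ i : Fin 3, monomial (Finsupp.single i N) (1 : k) ∈ I) (R : ℕ) :
    ∑ i ∈ Finset.range R, (SS I i).ncard =
      ({δ : Fin 3 →₀ ℕ | monomial δ (1 : k) ∉ I ∧ δ 0 < R}).ncard := by
  induction R with
  | zero =>
    have : {δ : Fin 3 →₀ ℕ | monomial δ (1 : k) ∉ I ∧ δ 0 < 0} = ∅ := by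
      ext δ
      simp
    rw [this, Set.ncard_empty, Finset.range_zero, Finset.sum_empty]
  | succ R ih =>
    rw [Finset.sum_range_succ, ih]
    have hinj : Function.Injective (fun bc : ℕ × ℕ => e3 R bc.1 bc.2) := by
      intro x y h
      have h1 : (e3 R x.1 x.2) 1 = (e3 R y.1 y.2) 1 := congrArg (fun f : Fin 3 →₀ ℕ => f 1) h
      have h2 : (e3 R x.1 x.2) 2 = (e3 R y.1 y.2) 2 := congrArg (fun f : Fin 3 →₀ ℕ => f 2) h
      rw [e3_1, e3_1] at h1
      rw [e3_2, e3_2] at h2
      exact Prod.ext h1 h2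
    have hE : (SS I R).ncard = ((fun bc : ℕ × ℕ => e3 R bc.1 bc.2) '' SS I R).ncard :=
      (Set.ncard_image_of_injective _ hinj).symm
    have hU : {δ : Fin 3 →₀ ℕ | monomial δ (1 : k) ∉ I ∧ δ 0 < R + 1} =
        {δ : Fin 3 →₀ ℕ | monomial δ (1 : k) ∉ I ∧ δ 0 < R} ∪
          (fun bc : ℕ × ℕ => e3 R bc.1 bc.2) '' SS I R := by
      ext δ
      constructor
      · rintro ⟨h1, h2⟩
        by_cases h : δ 0 < R
        · exact Or.inl ⟨h1, h⟩
        · have h0 : δ 0 = R := by omega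
          refine Or.inr ⟨(δ 1, δ 2), ?_, ?_⟩
          · show e3 R (δ 1) (δ 2) ∉ exps I
            rw [← h0, ← eq_e3]
            exact h1
          · show e3 R (δ 1) (δ 2) = δ
            rw [← h0]
            exact (eq_e3 δ).symm
      · rintro (⟨h1, h2⟩ | ⟨bc, hbc, rfl⟩)
        · exact ⟨h1, by omega⟩
        · exact ⟨hbc, by show (e3 R bc.1 bc.2) 0 < R + 1; rw [e3_0]; omega⟩
    have hdisj : Disjoint {δ : Fin 3 →₀ ℕ | monomial δ (1 : k) ∉ I ∧ δ 0 < R}
        ((fun bc : ℕ × ℕ => e3 R bc.1 bc.2) '' SS I R) := by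
      rw [Set.disjoint_left]
      rintro _ ⟨_, h2⟩ ⟨bc, _, rfl⟩
      rw [e3_0] at h2
      omega
    have hf1 : {δ : Fin 3 →₀ ℕ | monomial δ (1 : k) ∉ I ∧ δ 0 < R}.Finite :=
      (std3_finite hN).subset (fun δ hδ => hδ.1)
    have hf2 : ((fun bc : ℕ × ℕ => e3 R bc.1 bc.2) '' SS I R).Finite :=
      (SS_finite hN R).image _
    rw [hU, Set.ncard_union_eq hdisj hf1 hf2, hE]

lemma sum_SS_le (hI : IsMonomial I) {N : ℕ}
    (hN : ∀ i : Fin 3, monomial (Finsupp.single i N) (1 : k) ∈ I) (R : ℕ) :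
    ∑ i ∈ Finset.range R, (SS I i).ncard ≤ Module.finrank k (MvPolynomial (Fin 3) k ⧸ I) := by
  rw [sum_SS hN R, std_card hI (std3_finite hN)]
  exact Set.ncard_le_ncard (fun δ hδ => hδ.1) (std3_finite hN)

end Comb

section Num
variable (n D : ℕ → ℕ) (r : ℕ)

lemma hockey (r : ℕ) : ∑ i ∈ Finset.range r, (r - i + 1).choose 2 = (r + 2).choose 3 := by
  induction r with
  | zero => simp
  | succ r ih =>
    rw [Finset.sum_range_succ']
    have : ∀ i ∈ Finset.range r, (r + 1 - (i + 1) + 1).choose 2 = (r - i + 1).choose 2 := by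
      intro i _
      rw [Nat.add_sub_add_right]
    rw [Finset.sum_congr rfl this, ih, Nat.sub_zero]
    have h : (r + 2 + 1).choose 3 = (r + 2).choose 2 + (r + 2).choose 3 :=
      Nat.choose_succ_succ (r + 2) 2
    show (r + 2).choose 3 + (r + 1 + 1).choose 2 = (r + 1 + 2).choose 3
    have e1 : r + 1 + 1 = r + 2 := by omega
    have e2 : r + 1 + 2 = r + 2 + 1 := by omega
    rw [e1, e2, h]
    omega

variable (hA : ∀ i, n (i + 1) + D i ≤ n i)
  (hB : ∀ i, 1 ≤ D (i + 1) → D (i + 1) + 1 ≤ D i)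
  (hC : ∀ i m, D i ≤ m → n i ≤ (m + 1).choose 2)

include hA hB in
lemma one_step (i : ℕ) (hir : i + 1 < r) (h1 : r - (i + 1) + 1 ≤ D (i + 1))
    (h2 : (r - (i + 1) + 1).choose 2 < n (i + 1)) :
    r - i + 1 ≤ D i ∧ (r - i + 1).choose 2 < n i := by
  obtain ⟨m, rfl⟩ : ∃ m, r = i + 1 + 1 + m := ⟨r - (i + 2), by omega⟩
  have e1 : i + 1 + 1 + m - (i + 1) + 1 = m + 1 + 1 := by omega
  have e2 : i + 1 + 1 + m - i + 1 = m + 1 + 1 + 1 := by omega
  rw [e1] at h1 h2
  rw [e2]
  have hB' := hB i (by omega)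
  have hA' := hA i
  have hch : (m + 1 + 1 + 1).choose 2 = (m + 1 + 1).choose 1 + (m + 1 + 1).choose 2 :=
    Nat.choose_succ_succ (m + 1 + 1) 1
  rw [Nat.choose_one_right] at hch
  constructor <;> omega

include hA hB in
lemma down_ind (i₀ : ℕ) (hi₀ : i₀ < r) (hD0 : r - i₀ + 1 ≤ D i₀)
    (hbig : (r - i₀ + 1).choose 2 < n i₀) :
    ∀ d, d ≤ i₀ → r - (i₀ - d) + 1 ≤ D (i₀ - d) ∧ (r - (i₀ - d) + 1).choose 2 < n (i₀ - d) := by
  intro d
  induction d with
  | zero =>
    intro _
    exact ⟨hD0, hbig⟩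
  | succ d ih =>
    intro hd
    obtain ⟨h1, h2⟩ := ih (by omega)
    have e : i₀ - d = (i₀ - (d + 1)) + 1 := by omega
    rw [e] at h1 h2
    exact one_step n D r hA hB (i₀ - (d + 1)) (by omega) h1 h2

include hA hB hC in
lemma tail_bound (hT : ∑ i ∈ Finset.range r, n i ≤ (r + 2).choose 3) :
    ∀ j, j ≤ r → ∑ i ∈ Finset.Ico j r, n i ≤ ∑ i ∈ Finset.Ico j r, (r - i + 1).choose 2 := by
  intro j hj
  by_contra hlt
  push Not at hlt
  obtain ⟨i₀, hi₀, hbig⟩ : ∃ i₀ ∈ Finset.Ico j r, (r - i₀ + 1).choose 2 < n i₀ := by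
    by_contra h
    push Not at h
    exact absurd (Finset.sum_le_sum h) (not_le.2 hlt)
  rw [Finset.mem_Ico] at hi₀
  have hD0 : r - i₀ + 1 ≤ D i₀ := by
    by_contra h
    push Not at h
    have := hC i₀ (r - i₀) (by omega)
    omega
  have hall : ∀ i, i ≤ i₀ → (r - i + 1).choose 2 < n i := by
    intro i hi
    have := (down_ind n D r hA hB i₀ hi₀.2 hD0 hbig (i₀ - i) (by omega)).2
    rwa [show i₀ - (i₀ - i) = i by omega] at this
  have h1 : ∑ i ∈ Finset.range j, (r - i + 1).choose 2 ≤ ∑ i ∈ Finset.range j, n i :=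
    Finset.sum_le_sum (fun i hi => (hall i (by have := Finset.mem_range.1 hi; omega)).le)
  have h2 := Finset.sum_range_add_sum_Ico n hj
  have h3 := Finset.sum_range_add_sum_Ico (fun i => (r - i + 1).choose 2) hj
  have h4 := hockey r
  omega

omit hA hB hC in
lemma eq_of_tail_eq
    (heq : ∀ j, j < r → ∑ i ∈ Finset.Ico j r, n i = ∑ i ∈ Finset.Ico j r, (r - i + 1).choose 2) :
    ∀ i, i < r → n i = (r - i + 1).choose 2 := by
  intro i hi
  have h1 := heq i hi
  rw [Finset.sum_eq_sum_Ico_succ_bot hi, Finset.sum_eq_sum_Ico_succ_bot hi] at h1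
  by_cases h : i + 1 < r
  · have h2 := heq (i + 1) h
    omega
  · have e : i + 1 = r := by omega
    rw [e, Finset.Ico_self, Finset.sum_empty, Finset.sum_empty] at h1
    omega

end Num

section Main
variable {I : Ideal (MvPolynomial (Fin 3) k)}

lemma degree_e3 (a b c : ℕ) : (e3 a b c).degree = a + b + c := by
  rw [Finsupp.degree_eq_sum, Fin.sum_univ_three]
  rfl

theorem main54 (r : ℕ) (hI : IsStronglyStable I) [Module.Finite k (MvPolynomial (Fin 3) k ⧸ I)]
    (hd : Module.finrank k (MvPolynomial (Fin 3) k ⧸ I) ≤ Nat.choose (r + 2) 3) :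
    (∀ j, j ≤ r → ∑ i ∈ Finset.Ico j r, Module.finrank k (MvPolynomial (Fin 2) k ⧸ sliceX I i) ≤
        ∑ i ∈ Finset.Ico j r, Nat.choose (r - i + 1) 2) ∧
    ((∀ j, j < r → ∑ i ∈ Finset.Ico j r, Module.finrank k (MvPolynomial (Fin 2) k ⧸ sliceX I i) =
        ∑ i ∈ Finset.Ico j r, Nat.choose (r - i + 1) 2) →
      I = (Ideal.span (Set.range (MvPolynomial.X : Fin 3 → MvPolynomial (Fin 3) k))) ^ r) := by
  obtain ⟨N, hN⟩ := exists_bound hI.1
  simp_rw [finrank_slice hI.1 hN]
  have hA : ∀ i, (SS I (i + 1)).ncard + stairZ I i 0 ≤ (SS I i).ncard :=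
    fun i => SS_step hI hN i
  have hB : ∀ i, 1 ≤ stairZ I (i + 1) 0 → stairZ I (i + 1) 0 + 1 ≤ stairZ I i 0 :=
    fun i => D_step hI (hN 2) i
  have hC : ∀ i m, stairZ I i 0 ≤ m → (SS I i).ncard ≤ (m + 1).choose 2 :=
    fun i m => SS_card_le hI hN i m
  have hT : ∀ R, ∑ i ∈ Finset.range R, (SS I i).ncard ≤ (r + 2).choose 3 :=
    fun R => (sum_SS_le hI.1 hN R).trans hd
  refine ⟨tail_bound (fun i => (SS I i).ncard) (fun i => stairZ I i 0) r hA hB hC (hT r),
    fun heq => ?_⟩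
  have hn := eq_of_tail_eq (fun i => (SS I i).ncard) r heq
  have hr0 : (SS I r).ncard = 0 := by
    have h1 := hT (r + 1)
    rw [Finset.sum_range_succ] at h1
    have h2 : ∑ i ∈ Finset.range r, (SS I i).ncard = (r + 2).choose 3 := by
      rw [← hockey r]
      exact Finset.sum_congr rfl (fun i hi => hn i (Finset.mem_range.1 hi))
    omega
  have hn' : ∀ i, i ≤ r → (SS I i).ncard = (r - i + 1).choose 2 := by
    intro i hi
    rcases Nat.lt_or_ge i r with h | h
    · exact hn i h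
    · have : i = r := by omega
      subst this
      rw [hr0, Nat.sub_self]
      rfl
  have hD : ∀ i, i ≤ r → stairZ I i 0 ≤ r - i := by
    intro i hi
    rcases Nat.lt_or_ge i r with h | h
    · have h1 := hA i
      rw [hn' i hi, hn' (i + 1) (by omega)] at h1
      obtain ⟨m, rfl⟩ : ∃ m, r = i + 1 + m := ⟨r - (i + 1), by omega⟩
      have e1 : i + 1 + m - (i + 1) + 1 = m + 1 := by omega
      have e2 : i + 1 + m - i + 1 = m + 1 + 1 := by omega
      rw [e1, e2] at h1
      have hch : (m + 1 + 1).choose 2 = (m + 1).choose 1 + (m + 1).choose 2 :=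
        Nat.choose_succ_succ (m + 1) 1
      rw [Nat.choose_one_right] at hch
      omega
    · have : i = r := by omega
      subst this
      have h1 := hA i
      rw [hr0] at h1
      omega
  have hS : ∀ i, i ≤ r → SS I i = ↑(tri (r - i)) := by
    intro i hi
    refine Set.eq_of_subset_of_ncard_le (fun bc hbc => ?_) ?_ (Finset.finite_toSet _)
    · rw [Finset.mem_coe, mem_tri]
      have h1 := SS_deg hI (hN 2) i bc.1 bc.2 hbc
      have h2 := hD i hi
      omega
    · rw [Set.ncard_coe_finset, card_tri, hn' i hi]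
  have hfinal : ∀ δ : Fin 3 →₀ ℕ, monomial δ (1 : k) ∈ I ↔ r ≤ δ.degree := by
    intro δ
    rw [eq_e3 δ, degree_e3]
    rcases Nat.lt_or_ge r (δ 0) with h | h
    · constructor
      · intro _
        omega
      · intro _
        have h0 : e3 r 0 0 ∈ exps I := by
          by_contra hcon
          have : ((0 : ℕ), (0 : ℕ)) ∈ SS I r := hcon
          rw [hS r le_rfl, Finset.mem_coe, mem_tri] at this
          simp at this
        exact mono_of_le (e3_le h.le (Nat.zero_le _) (Nat.zero_le _)) h0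
    · have hmem : (δ 1, δ 2) ∈ SS I (δ 0) ↔ δ 1 + δ 2 < r - δ 0 := by
        rw [hS (δ 0) h, Finset.mem_coe, mem_tri]
      constructor
      · intro hin
        by_contra hlt
        push Not at hlt
        exact (hmem.2 (by omega)) hin
      · intro hle
        by_contra hnot
        have := hmem.1 hnot
        omega
  have hmem : ∀ β : Fin 3 →₀ ℕ, monomial β (1 : k) ∈
      (Ideal.span (Set.range (MvPolynomial.X : Fin 3 → MvPolynomial (Fin 3) k))) ^ r ↔
      r ≤ β.degree := fun β => monomial_mem_pow_idealOfVars_iff r β one_ne_zero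
  have hmono : IsMonomial ((Ideal.span (Set.range
      (MvPolynomial.X : Fin 3 → MvPolynomial (Fin 3) k))) ^ r) :=
    fun p hp β hβ => (hmem β).2 ((mem_pow_idealOfVars_iff r p).1 hp β hβ)
  exact eq_of_exps hI.1 hmono (fun β => (hfinal β).trans (hmem β).symm)

end Main

end Groth.Agent.H4.TgtSlice
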