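import Mathlib
import Groth.Prelude.Def_W4c1hilbpnTgt
import Groth.Agent.H4.TgtDec
import Groth.Agent.H4.TgtSS
import Groth.Agent.H4.TgtSum
import Groth.Agent.H4.TgtCorner
import Groth.Agent.H4.TgtSlice
import Groth.Agent.H4.HdBridge

set_option autoImplicit false
universe u
open W4c1hilbpn MvPolynomial
open Groth.Agent.H4
open Groth.Agent.H4.TgtCC (tn tn_apply)
open Groth.Agent.H4.HdCore Groth.Agent.H4.HdInt Groth.Agent.H4.HdBridge

noncomputable section
namespace Groth.Agent.H4.HdSum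

variable {k : Type u} [Field k] {I : Ideal (MvPolynomial (Fin 3) k)} {Λ : Finset X}

/-- the symmetric box -/
def Bx (B : ℤ) : Finset X := Fintype.piFinset (fun _ : Fin 3 => Finset.Ico (-B) B)

lemma mem_Bx {B : ℤ} {α : X} : α ∈ Bx B ↔ ∀ i, -B ≤ α i ∧ α i < B := by
  unfold Bx
  rw [Fintype.mem_piFinset]
  exact forall_congr' (fun i => Finset.mem_Ico)

lemma aDual_apply (α : X) (i : Fin 3) : aDual α i = -α i - 1 := rfl

lemma one3_apply (i : Fin 3) : one3 i = 1 := rfl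

lemma aDual_mem_Bx {B : ℤ} {α : X} (h : α ∈ Bx B) : aDual α ∈ Bx B := by
  rw [mem_Bx] at h ⊢
  intro i
  rw [aDual_apply]
  have := h i
  omega

lemma exists_B (hS : IsStair Λ) : ∃ B : ℤ, ∀ γ ∈ Λ, ∀ i, γ i < B := by
  refine ⟨∑ γ ∈ Λ, ∑ i, γ i + 1, ?_⟩
  intro γ hγ i
  have h1 : γ i ≤ ∑ i, γ i :=
    Finset.single_le_sum (f := fun j => γ j) (fun j _ => hS.nonneg γ hγ j) (Finset.mem_univ i)
  have h2 : ∑ i, γ i ≤ ∑ γ ∈ Λ, ∑ i, γ i :=
    Finset.single_le_sum (f := fun γ : X => ∑ i, γ i)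
      (fun γ' hγ' => Finset.sum_nonneg (fun j _ => hS.nonneg γ' hγ' j)) hγ
  omega

section Box
variable (hI : IsMonomial I) [Module.Finite k (MvPolynomial (Fin 3) k ⧸ I)] (hΛ : Spec I Λ)
  {B : ℤ} (hB : ∀ γ ∈ Λ, ∀ i, γ i < B)

include hI hΛ hB in
lemma piece_bot_out (α : X) (hα : α ∉ Bx B) : tPiece I α = ⊥ := by
  have hS := isStair hΛ
  by_cases hnn : ∀ i, 0 ≤ α i
  · exact TgtDec.tPiece_nonneg hI α hnn
  · push Not at hnn
    obtain ⟨m₀, hm₀⟩ := hnn
    have hf := finrank_formula hI hΛ α m₀ hm₀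
    have hP1 : P1 Λ α = ∅ := by
      refine Finset.eq_empty_of_forall_notMem (fun q hq => ?_)
      rw [mem_P1] at hq
      rw [mem_Bx] at hα
      push Not at hα
      obtain ⟨j, hj⟩ := hα
      have a1 := hS.nonneg _ hq.1 j
      have a2 := hB _ hq.1 j
      have a3 := hS.nonneg _ hq.2 j
      have a4 := hB _ hq.2 j
      have a5 := ee_nonneg q.2 j
      have a6 := ee_le_one q.2 j
      simp only [Pi.add_apply] at a3 a4
      by_cases hc : -B ≤ α j
      · have := hj hc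
        omega
      · omega
    have hc1 : (P1 Λ α).card = 0 := by
      rw [hP1]
      exact Finset.card_empty
    haveI := TgtCorner.tgt_finite hI
    have h0 : Module.finrank k ↥(tPiece I α) = 0 := by omega
    exact Submodule.finrank_eq_zero.1 h0

include hI hΛ hB in
lemma iSup_eq (P : X → Prop) [DecidablePred P] :
    (⨆ α : {α : X // P α}, tPiece I α.1) = ((Bx B).filter P).sup (tPiece I) := by
  apply le_antisymm
  · refine iSup_le (fun α => ?_)
    by_cases hc : α.1 ∈ Bx B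
    · exact Finset.le_sup (f := tPiece I) (Finset.mem_filter.2 ⟨hc, α.2⟩)
    · rw [piece_bot_out hI hΛ hB α.1 hc]
      exact bot_le
  · refine Finset.sup_le (fun α hα => ?_)
    exact le_iSup (fun α : {α : X // P α} => tPiece I α.1) ⟨α, (Finset.mem_filter.1 hα).2⟩

include hI hΛ hB in
lemma finrank_iSup (P : X → Prop) [DecidablePred P] :
    Module.finrank k ↥(⨆ α : {α : X // P α}, tPiece I α.1) =
      ∑ α ∈ (Bx B).filter P, Module.finrank k ↥(tPiece I α) := by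
  haveI := TgtCorner.tgt_finite hI
  rw [iSup_eq hI hΛ hB P]
  exact TgtSum.finrank_sup hI (fun α => inferInstance) _

end Box

section Count
variable (hS : IsStair Λ) {B : ℤ} (hB : ∀ γ ∈ Λ, ∀ i, γ i < B)

include hS hB in
lemma sum_Nn (P : X → Prop) [DecidablePred P] (v : X) (hv : ∀ i, 0 ≤ v i ∧ v i ≤ 1) :
    ∑ α ∈ (Bx B).filter P, (Nn Λ (α + v) : ℤ) =
      ∑ γ ∈ Λ, ∑ γ' ∈ Λ, (if P (γ' - γ - v) then (1 : ℤ) else 0) := by
  have h1 : ∀ α : X, (Nn Λ (α + v) : ℤ) =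
      ∑ γ ∈ Λ, (if γ + (α + v) ∈ Λ then (1 : ℤ) else 0) := by
    intro α
    unfold Nn
    rw [Finset.sum_boole]
  simp only [h1]
  refine Finset.sum_comm.trans (Finset.sum_congr rfl (fun γ hγ => ?_))
  rw [Finset.sum_boole, Finset.sum_boole, Nat.cast_inj]
  refine Finset.card_nbij' (fun α => γ + (α + v)) (fun γ' => γ' - γ - v) ?_ ?_ ?_ ?_
  · intro α hα
    simp only [Finset.mem_coe, Finset.mem_filter] at hα ⊢
    refine ⟨hα.2, ?_⟩
    have e : γ + (α + v) - γ - v = α := by abel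
    rw [e]
    exact hα.1.2
  · intro γ' hγ'
    simp only [Finset.mem_coe, Finset.mem_filter] at hγ' ⊢
    have e : γ + (γ' - γ - v + v) = γ' := by abel
    refine ⟨⟨mem_Bx.2 (fun i => ?_), hγ'.2⟩, by rw [e]; exact hγ'.1⟩
    have a1 := hS.nonneg _ hγ i
    have a2 := hB _ hγ i
    have a3 := hS.nonneg _ hγ'.1 i
    have a4 := hB _ hγ'.1 i
    have a5 := hv i
    simp only [Pi.sub_apply]
    omega
  · intro α _
    show γ + (α + v) - γ - v = α
    abel
  · intro γ' _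
    show γ + (γ' - γ - v + v) = γ'
    abel

/-- the Euler-characteristic-like combination of the counting function -/
def chi (Λ : Finset X) (α : X) : ℤ :=
  (∑ l : Fin 3, (Nn Λ (α + ee l) : ℤ)) - Nn Λ α -
    (∑ m : Fin 3, (Nn Λ (α + one3 - ee m) : ℤ)) + Nn Λ (α + one3)

/-- the corresponding combination of indicator functions -/
def brk (P : X → Prop) [DecidablePred P] (δ : X) : ℤ :=
  (∑ l : Fin 3, (if P (δ - ee l) then (1 : ℤ) else 0)) - (if P δ then (1 : ℤ) else 0) -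
    (∑ m : Fin 3, (if P (δ - (one3 - ee m)) then (1 : ℤ) else 0)) +
      (if P (δ - one3) then (1 : ℤ) else 0)

include hS hB in
lemma sum_chi (P : X → Prop) [DecidablePred P] :
    ∑ α ∈ (Bx B).filter P, chi Λ α = ∑ γ ∈ Λ, ∑ γ' ∈ Λ, brk P (γ' - γ) := by
  have hee : ∀ (l i : Fin 3), 0 ≤ ee l i ∧ ee l i ≤ 1 := fun l i => ⟨ee_nonneg l i, ee_le_one l i⟩
  have h1e : ∀ (m i : Fin 3), 0 ≤ (one3 - ee m) i ∧ (one3 - ee m) i ≤ 1 := fun m i => by
    have a1 := ee_nonneg m i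
    have a2 := ee_le_one m i
    show 0 ≤ 1 - ee m i ∧ 1 - ee m i ≤ 1
    omega
  have e0 := sum_Nn hS hB P (ee 0) (hee 0)
  have e1 := sum_Nn hS hB P (ee 1) (hee 1)
  have e2 := sum_Nn hS hB P (ee 2) (hee 2)
  have z := sum_Nn hS hB P 0 (fun i => ⟨le_refl _, zero_le_one⟩)
  have f0 := sum_Nn hS hB P (one3 - ee 0) (h1e 0)
  have f1 := sum_Nn hS hB P (one3 - ee 1) (h1e 1)
  have f2 := sum_Nn hS hB P (one3 - ee 2) (h1e 2)
  have w := sum_Nn hS hB P one3 (fun i => ⟨zero_le_one, le_refl _⟩)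
  simp only [add_zero, sub_zero] at z
  simp only [← add_sub_assoc] at f0 f1 f2
  unfold chi brk
  simp only [Fin.sum_univ_three, Finset.sum_add_distrib, Finset.sum_sub_distrib]
  rw [e0, e1, e2, z, f0, f1, f2, w]

end Count

section Diff
variable (hI : IsMonomial I) [Module.Finite k (MvPolynomial (Fin 3) k ⧸ I)] (hΛ : Spec I Λ)
  {B : ℤ} (hB : ∀ γ ∈ Λ, ∀ i, γ i < B)

include hI hΛ hB in
lemma diff_eq (P : X → Prop) [DecidablePred P]
    (hP : ∀ α, P α → (∃ m₀, α m₀ < 0) ∧ (∃ m₁, 0 ≤ α m₁)) :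
    (∑ α ∈ (Bx B).filter P, (Module.finrank k ↥(tPiece I α) : ℤ)) -
      ∑ α ∈ (Bx B).filter (fun α => P (aDual α)), (Module.finrank k ↥(tPiece I α) : ℤ) =
        ∑ γ ∈ Λ, ∑ γ' ∈ Λ, brk P (γ' - γ) := by
  have hS := isStair hΛ
  have hre : ∑ α ∈ (Bx B).filter (fun α => P (aDual α)),
      (Module.finrank k ↥(tPiece I α) : ℤ) =
      ∑ α ∈ (Bx B).filter P, (Module.finrank k ↥(tPiece I (aDual α)) : ℤ) := by
    refine Finset.sum_nbij' aDual aDual ?_ ?_ ?_ ?_ ?_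
    · intro α hα
      simp only [Finset.mem_filter] at hα ⊢
      exact ⟨aDual_mem_Bx hα.1, hα.2⟩
    · intro α hα
      simp only [Finset.mem_filter] at hα ⊢
      refine ⟨aDual_mem_Bx hα.1, ?_⟩
      rw [aDual_aDual]
      exact hα.2
    · intro α _
      exact aDual_aDual α
    · intro α _
      exact aDual_aDual α
    · intro α _
      rw [aDual_aDual]
  rw [hre, ← Finset.sum_sub_distrib, ← sum_chi hS hB P]
  refine Finset.sum_congr rfl (fun α hα => ?_)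
  obtain ⟨⟨m₀, h0⟩, ⟨m₁, h1⟩⟩ := hP α (Finset.mem_filter.1 hα).2
  exact GI hI hΛ α m₀ m₁ h0 h1

end Diff


section Brk

/-- the bracket in coordinates -/
def brk3 (p3 : ℤ → ℤ → ℤ → Prop) [∀ a b c, Decidable (p3 a b c)] (a b c : ℤ) : ℤ :=
  ((if p3 (a - 1) b c then (1 : ℤ) else 0) + (if p3 a (b - 1) c then (1 : ℤ) else 0) +
      (if p3 a b (c - 1) then (1 : ℤ) else 0)) - (if p3 a b c then (1 : ℤ) else 0) -
    ((if p3 a (b - 1) (c - 1) then (1 : ℤ) else 0) + (if p3 (a - 1) b (c - 1) then (1 : ℤ) else 0) +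
      (if p3 (a - 1) (b - 1) c then (1 : ℤ) else 0)) +
      (if p3 (a - 1) (b - 1) (c - 1) then (1 : ℤ) else 0)

lemma brk_eq (t : Fin 3) (p3 : ℤ → ℤ → ℤ → Prop) [∀ a b c, Decidable (p3 a b c)] (δ : X) :
    brk (fun α : X => p3 (α t) (α (t + 1)) (α (t + 2))) δ =
      brk3 p3 (δ t) (δ (t + 1)) (δ (t + 2)) := by
  unfold brk brk3
  rw [TgtSum.sum3 t, TgtSum.sum3 t]
  simp only [Pi.sub_apply, ee_same, ee_ne (f3_ne1 t), ee_ne (f3_ne2 t), ee_ne (f3_ne1 t).symm,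
    ee_ne (f3_ne2 t).symm, ee_ne (f3_ne12 t), ee_ne (f3_ne12 t).symm, one3_apply, sub_self,
    sub_zero]
  congr

lemma brk3_factor (p3 : ℤ → ℤ → ℤ → Prop) [∀ a b c, Decidable (p3 a b c)] (A Bf C : ℤ → ℤ)
    (h : ∀ a b c, (if p3 a b c then (1 : ℤ) else 0) = A a * Bf b * C c) (a b c : ℤ) :
    brk3 p3 a b c = -((A a - A (a - 1)) * (Bf b - Bf (b - 1)) * (C c - C (c - 1))) := by
  unfold brk3
  simp only [h]
  ring

def iNeg (x : ℤ) : ℤ := if x < 0 then 1 else 0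
def iNonneg (x : ℤ) : ℤ := if 0 ≤ x then 1 else 0
def iEq (i x : ℤ) : ℤ := if x = i then 1 else 0

lemma iNeg_diff (a : ℤ) : iNeg a - iNeg (a - 1) = -(if a = 0 then (1 : ℤ) else 0) := by
  unfold iNeg
  split_ifs <;> omega

lemma iNonneg_diff (b : ℤ) : iNonneg b - iNonneg (b - 1) = if b = 0 then (1 : ℤ) else 0 := by
  unfold iNonneg
  split_ifs <;> omega

lemma iEq_pred (i a : ℤ) : iEq i (a - 1) = iEq (i + 1) a := by
  unfold iEq
  split_ifs <;> omega

/-- sign pattern: negative exactly in the first slot -/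
def pS (a b c : ℤ) : Prop := a < 0 ∧ 0 ≤ b ∧ 0 ≤ c

instance (a b c : ℤ) : Decidable (pS a b c) := by
  show Decidable (a < 0 ∧ 0 ≤ b ∧ 0 ≤ c)
  infer_instance

lemma pS_factor (a b c : ℤ) :
    (if pS a b c then (1 : ℤ) else 0) = iNeg a * iNonneg b * iNonneg c := by
  unfold pS iNeg iNonneg
  split_ifs <;> omega

lemma brk3_S (a b c : ℤ) :
    brk3 pS a b c = if (a = 0 ∧ b = 0 ∧ c = 0) then (1 : ℤ) else 0 := by
  rw [brk3_factor pS iNeg iNonneg iNonneg pS_factor, iNeg_diff, iNonneg_diff, iNonneg_diff]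
  split_ifs <;> omega

lemma total_S (t : Fin 3) (Λ : Finset X) :
    ∑ γ ∈ Λ, ∑ γ' ∈ Λ, brk (fun α : X => pS (α t) (α (t + 1)) (α (t + 2))) (γ' - γ) =
      (Λ.card : ℤ) := by
  have hin : ∀ γ ∈ Λ,
      ∑ γ' ∈ Λ, brk (fun α : X => pS (α t) (α (t + 1)) (α (t + 2))) (γ' - γ) = 1 := by
    intro γ hγ
    rw [Finset.sum_eq_single γ]
    · rw [brk_eq t pS, brk3_S, if_pos]
      simp only [Pi.sub_apply, sub_self]
      exact ⟨trivial, trivial, trivial⟩
    · intro γ' _ hne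
      rw [brk_eq t pS, brk3_S, if_neg]
      rintro ⟨h0, h1, h2⟩
      apply hne
      funext m
      simp only [Pi.sub_apply] at h0 h1 h2
      rcases TgtSum.cases3 t m with e | e | e <;> rw [e] <;> omega
    · intro h
      exact absurd hγ h
  rw [Finset.sum_congr rfl hin, Finset.sum_const, nsmul_eq_mul, mul_one]

end Brk

section Card

lemma card_Λ (hI : IsMonomial I) (hΛ : Spec I Λ) :
    Module.finrank k (MvPolynomial (Fin 3) k ⧸ I) = Λ.card := by
  classical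
  have hset : {δ : Fin 3 →₀ ℕ | monomial δ (1 : k) ∉ I} = ↑(Λ.image tn) := by
    ext δ
    rw [Set.mem_setOf_eq, Finset.mem_coe, Finset.mem_image]
    constructor
    · intro h
      exact ⟨toZ δ, (hΛ _).2 ⟨toZ_nonneg δ, by rw [tn_toZ]; exact h⟩, tn_toZ δ⟩
    · rintro ⟨v, hv, rfl⟩
      exact not_mem_I_of hΛ hv
  have hfin : {δ : Fin 3 →₀ ℕ | monomial δ (1 : k) ∉ I}.Finite := by
    rw [hset]
    exact Finset.finite_toSet _
  rw [TgtSlice.std_card hI hfin, hset, Set.ncard_coe_finset, Finset.card_image_of_injOn]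
  intro v hv w hw h
  have hv0 := (isStair hΛ).nonneg v (Finset.mem_coe.1 hv)
  have hw0 := (isStair hΛ).nonneg w (Finset.mem_coe.1 hw)
  calc v = toZ (tn v) := (toZ_tn hv0).symm
    _ = toZ (tn w) := by rw [h]
    _ = w := toZ_tn hw0

end Card

theorem main33 (hI : IsMonomial I) [Module.Finite k (MvPolynomial (Fin 3) k ⧸ I)] (t : Fin 3) :
    Module.finrank k ↥(sigPiece I {t}) =
      Module.finrank k ↥(sigPiece I ({t}ᶜ : Set (Fin 3))) +
        Module.finrank k (MvPolynomial (Fin 3) k ⧸ I) := by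
  obtain ⟨Λ, hΛ⟩ := exists_spec hI
  have hS := isStair hΛ
  obtain ⟨B, hB⟩ := exists_B hS
  haveI d1 : DecidablePred (fun α : X => ∀ j, α j < 0 ↔ j ∈ ({t} : Set (Fin 3))) :=
    fun _ => Classical.propDecidable _
  haveI d2 : DecidablePred (fun α : X => ∀ j, α j < 0 ↔ j ∈ ({t}ᶜ : Set (Fin 3))) :=
    fun _ => Classical.propDecidable _
  have h1 : Module.finrank k ↥(sigPiece I {t}) =
      ∑ α ∈ (Bx B).filter (fun α : X => pS (α t) (α (t + 1)) (α (t + 2))),
        Module.finrank k ↥(tPiece I α) := by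
    unfold sigPiece
    rw [finrank_iSup hI hΛ hB (fun α : X => ∀ j, α j < 0 ↔ j ∈ ({t} : Set (Fin 3)))]
    refine Finset.sum_congr (Finset.filter_congr (fun α _ => ?_)) (fun _ _ => rfl)
    rw [TgtSum.pat1_iff]
    unfold pS
    omega
  have h2 : Module.finrank k ↥(sigPiece I ({t}ᶜ : Set (Fin 3))) =
      ∑ α ∈ (Bx B).filter (fun α : X => pS (aDual α t) (aDual α (t + 1)) (aDual α (t + 2))),
        Module.finrank k ↥(tPiece I α) := by
    unfold sigPiece
    rw [finrank_iSup hI hΛ hB (fun α : X => ∀ j, α j < 0 ↔ j ∈ ({t}ᶜ : Set (Fin 3)))]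
    refine Finset.sum_congr (Finset.filter_congr (fun α _ => ?_)) (fun _ _ => rfl)
    rw [TgtSum.pat2_iff]
    unfold pS
    rw [aDual_apply, aDual_apply, aDual_apply]
    omega
  have h3 := diff_eq hI hΛ hB (fun α : X => pS (α t) (α (t + 1)) (α (t + 2)))
    (fun α h => ⟨⟨t, h.1⟩, ⟨t + 1, h.2.1⟩⟩)
  rw [total_S t Λ] at h3
  have h5 := card_Λ hI hΛ
  have h6 : (Module.finrank k ↥(sigPiece I {t}) : ℤ) =
      Module.finrank k ↥(sigPiece I ({t}ᶜ : Set (Fin 3))) +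
        Module.finrank k (MvPolynomial (Fin 3) k ⧸ I) := by
    rw [h1, h2, h5]
    push_cast
    linarith
  exact_mod_cast h6

end Groth.Agent.H4.HdSum
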