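import Mathlib
import Groth.Prelude.Def_W4c1hilbpnTgt
import Groth.Agent.H4.TgtDec
import Groth.Agent.H4.TgtSS
import Groth.Agent.H4.TgtSum
import Groth.Agent.H4.TgtCorner
import Groth.Agent.H4.TgtSlice
import Groth.Agent.H4.HdBridge
import Groth.Agent.H4.HdSum

set_option autoImplicit false
universe u
open W4c1hilbpn MvPolynomial
open Groth.Agent.H4
open Groth.Agent.H4.TgtCC (tn tn_apply)
open Groth.Agent.H4.HdCore Groth.Agent.H4.HdInt Groth.Agent.H4.HdBridge Groth.Agent.H4.HdSum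

noncomputable section
namespace Groth.Agent.H4.HdSum2

variable {k : Type u} [Field k] {I : Ideal (MvPolynomial (Fin 3) k)} {Λ : Finset X}

theorem main37 (hI : IsMonomial I) [Module.Finite k (MvPolynomial (Fin 3) k ⧸ I)] :
    Module.finrank k (Tgt I) % 2 = Module.finrank k (MvPolynomial (Fin 3) k ⧸ I) % 2 := by
  classical
  obtain ⟨Λ, hΛ⟩ := exists_spec hI
  have hS := isStair hΛ
  obtain ⟨B, hB⟩ := exists_B hS
  haveI := TgtCorner.tgt_finite hI
  have e11 : (1 : Fin 3) + 1 = 2 := rfl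
  have e12 : (1 : Fin 3) + 2 = 0 := rfl
  have e21 : (2 : Fin 3) + 1 = 0 := rfl
  have e22 : (2 : Fin 3) + 2 = 1 := rfl
  have htop : (⊤ : Submodule k (Tgt I)) = (Bx B).sup (tPiece I) := by
    refine le_antisymm (fun φ _ => ?_) le_top
    obtain ⟨N, hN⟩ := TgtDec.exists_bound hI
    rw [TgtDec.sum_comp hI φ hN]
    refine Submodule.sum_mem _ (fun α _ => ?_)
    have hm := TgtDec.comp_mem hI φ α
    by_cases hc : α ∈ Bx B
    · exact (Finset.le_sup (f := tPiece I) hc) hm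
    · rw [piece_bot_out hI hΛ hB α hc] at hm
      rw [(Submodule.mem_bot k).1 hm]
      exact Submodule.zero_mem _
  have hpt : ∀ α : Fin 3 → ℤ, Module.finrank k ↥(tPiece I α) =
      ∑ i : Fin 3, ((if (∀ j, α j < 0 ↔ j ∈ ({i} : Set (Fin 3))) then
          Module.finrank k ↥(tPiece I α) else 0) +
        (if (∀ j, α j < 0 ↔ j ∈ ({i}ᶜ : Set (Fin 3))) then
          Module.finrank k ↥(tPiece I α) else 0)) := by
    intro α
    rw [Fin.sum_univ_three]
    simp only [TgtSum.pat1_iff, TgtSum.pat2_iff, zero_add, e11, e12, e21, e22]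
    by_cases h0 : α 0 < 0 <;> by_cases h1 : α 1 < 0 <;> by_cases h2 : α 2 < 0
    · have hb : tPiece I α = ⊥ := TgtDec.tPiece_neg hI (by norm_num) α (fun i => by
        rcases TgtSS.fin3_cases i with rfl | rfl | rfl <;> assumption)
      have hz : Module.finrank k ↥(tPiece I α) = 0 := by
        rw [hb]
        exact finrank_bot k (Tgt I)
      rw [hz]
      simp
    · simp [h0, h1, h2]
    · simp [h0, h1, h2]
    · simp [h0, h1, h2]
    · simp [h0, h1, h2]
    · simp [h0, h1, h2]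
    · simp [h0, h1, h2]
    · have hb : tPiece I α = ⊥ := TgtDec.tPiece_nonneg hI α (fun i => by
        rcases TgtSS.fin3_cases i with rfl | rfl | rfl <;> omega)
      have hz : Module.finrank k ↥(tPiece I α) = 0 := by
        rw [hb]
        exact finrank_bot k (Tgt I)
      rw [hz]
      simp
  have hi : ∀ t : Fin 3, ∑ α ∈ Bx B,
      ((if (∀ j, α j < 0 ↔ j ∈ ({t} : Set (Fin 3))) then
          Module.finrank k ↥(tPiece I α) else 0) +
        (if (∀ j, α j < 0 ↔ j ∈ ({t}ᶜ : Set (Fin 3))) then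
          Module.finrank k ↥(tPiece I α) else 0)) =
      Module.finrank k ↥(sigPiece I {t}) + Module.finrank k ↥(sigPiece I ({t}ᶜ : Set (Fin 3))) := by
    intro t
    rw [Finset.sum_add_distrib, ← Finset.sum_filter, ← Finset.sum_filter]
    unfold sigPiece
    rw [finrank_iSup hI hΛ hB, finrank_iSup hI hΛ hB]
  rw [← finrank_top k (Tgt I), htop, TgtSum.finrank_sup hI (fun α => inferInstance)]
  rw [Finset.sum_congr rfl (fun α _ => hpt α), Finset.sum_comm]
  rw [Finset.sum_congr rfl (fun t _ => hi t), Fin.sum_univ_three]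
  have m0 := main33 hI (0 : Fin 3)
  have m1 := main33 hI (1 : Fin 3)
  have m2 := main33 hI (2 : Fin 3)
  omega


section Corner

/-- pattern for the corner sums -/
def pC (i j a b c : ℤ) : Prop := a = i ∧ b = j ∧ c < 0

instance (i j a b c : ℤ) : Decidable (pC i j a b c) := by
  show Decidable (a = i ∧ b = j ∧ c < 0)
  infer_instance

lemma pC_factor (i j a b c : ℤ) :
    (if pC i j a b c then (1 : ℤ) else 0) = iEq i a * iEq j b * iNeg c := by
  unfold pC iEq iNeg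
  split_ifs <;> omega

lemma brk3_C (i j a b c : ℤ) :
    brk3 (pC i j) a b c = iEq i a * iEq j b * iEq 0 c - iEq (i + 1) a * iEq j b * iEq 0 c -
      iEq i a * iEq (j + 1) b * iEq 0 c + iEq (i + 1) a * iEq (j + 1) b * iEq 0 c := by
  rw [brk3_factor (pC i j) (iEq i) (iEq j) iNeg (pC_factor i j), iNeg_diff, iEq_pred, iEq_pred]
  have e : (if c = 0 then (1 : ℤ) else 0) = iEq 0 c := rfl
  rw [e]
  ring

lemma prod3 (x y p q r : ℤ) :
    iEq x p * iEq y q * iEq 0 r = if (p = x ∧ q = y ∧ r = 0) then (1 : ℤ) else 0 := by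
  unfold iEq
  split_ifs <;> omega

lemma pair_count (hS : IsStair Λ) (x y : ℤ) (hx : 0 ≤ x) (hy : 0 ≤ y) :
    ∑ γ ∈ Λ, ∑ γ' ∈ Λ, iEq x ((γ' - γ) 0) * iEq y ((γ' - γ) 1) * iEq 0 ((γ' - γ) 2) =
      ∑ γ' ∈ Λ, (if x ≤ γ' 0 ∧ y ≤ γ' 1 then (1 : ℤ) else 0) := by
  rw [Finset.sum_comm]
  refine Finset.sum_congr rfl (fun γ' hγ' => ?_)
  simp only [prod3, Pi.sub_apply]
  by_cases h : x ≤ γ' 0 ∧ y ≤ γ' 1
  · rw [if_pos h]
    have hw : (![γ' 0 - x, γ' 1 - y, γ' 2] : X) ∈ Λ := by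
      refine hS.down _ hγ' _ (fun m => ?_) (fun m => ?_)
      · rcases TgtSS.fin3_cases m with rfl | rfl | rfl
        · show 0 ≤ γ' 0 - x
          omega
        · show 0 ≤ γ' 1 - y
          omega
        · show 0 ≤ γ' 2
          exact hS.nonneg _ hγ' 2
      · rcases TgtSS.fin3_cases m with rfl | rfl | rfl
        · show γ' 0 - x ≤ γ' 0
          omega
        · show γ' 1 - y ≤ γ' 1
          omega
        · show γ' 2 ≤ γ' 2
          exact le_refl _
    rw [Finset.sum_eq_single (![γ' 0 - x, γ' 1 - y, γ' 2] : X)]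
    · rw [if_pos]
      refine ⟨?_, ?_, ?_⟩
      · show γ' 0 - (γ' 0 - x) = x
        ring
      · show γ' 1 - (γ' 1 - y) = y
        ring
      · show γ' 2 - γ' 2 = 0
        ring
    · intro γ _ hne
      rw [if_neg]
      rintro ⟨h0, h1, h2⟩
      apply hne
      funext m
      rcases TgtSS.fin3_cases m with rfl | rfl | rfl
      · show γ 0 = γ' 0 - x
        omega
      · show γ 1 = γ' 1 - y
        omega
      · show γ 2 = γ' 2
        omega
    · intro hn
      exact absurd hw hn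
  · rw [if_neg h]
    refine Finset.sum_eq_zero (fun γ hγ => ?_)
    rw [if_neg]
    rintro ⟨h0, h1, h2⟩
    apply h
    have a0 := hS.nonneg _ hγ 0
    have a1 := hS.nonneg _ hγ 1
    constructor <;> omega

lemma incl_excl (Λ : Finset X) (i j : ℤ) :
    (∑ γ' ∈ Λ, (if i ≤ γ' 0 ∧ j ≤ γ' 1 then (1 : ℤ) else 0)) -
      (∑ γ' ∈ Λ, (if i + 1 ≤ γ' 0 ∧ j ≤ γ' 1 then (1 : ℤ) else 0)) -
      (∑ γ' ∈ Λ, (if i ≤ γ' 0 ∧ j + 1 ≤ γ' 1 then (1 : ℤ) else 0)) +
      (∑ γ' ∈ Λ, (if i + 1 ≤ γ' 0 ∧ j + 1 ≤ γ' 1 then (1 : ℤ) else 0)) =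
      ∑ γ' ∈ Λ, (if γ' 0 = i ∧ γ' 1 = j then (1 : ℤ) else 0) := by
  rw [← Finset.sum_sub_distrib, ← Finset.sum_sub_distrib, ← Finset.sum_add_distrib]
  refine Finset.sum_congr rfl (fun γ' _ => ?_)
  split_ifs <;> omega

lemma total_C (hS : IsStair Λ) (i j : ℤ) (hi : 0 ≤ i) (hj : 0 ≤ j) :
    ∑ γ ∈ Λ, ∑ γ' ∈ Λ, brk (fun α : X => pC i j (α 0) (α 1) (α 2)) (γ' - γ) =
      ∑ γ' ∈ Λ, (if γ' 0 = i ∧ γ' 1 = j then (1 : ℤ) else 0) := by
  have hb : ∀ δ : X, brk (fun α : X => pC i j (α 0) (α 1) (α 2)) δ =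
      brk3 (pC i j) (δ 0) (δ 1) (δ 2) := fun δ => brk_eq 0 (pC i j) δ
  simp only [hb, brk3_C, Finset.sum_add_distrib, Finset.sum_sub_distrib]
  rw [pair_count hS i j hi hj, pair_count hS (i + 1) j (by omega) hj,
    pair_count hS i (j + 1) hi (by omega), pair_count hS (i + 1) (j + 1) (by omega) (by omega)]
  exact incl_excl Λ i j

lemma stair_count (hI : IsMonomial I) [Module.Finite k (MvPolynomial (Fin 3) k ⧸ I)]
    (hΛ : Spec I Λ) (i j : ℕ) :
    ∑ γ' ∈ Λ, (if γ' 0 = (i : ℤ) ∧ γ' 1 = (j : ℤ) then (1 : ℤ) else 0) = (stairZ I i j : ℤ) := by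
  obtain ⟨N, hN⟩ := TgtDec.exists_bound hI
  rw [Finset.sum_boole, Nat.cast_inj, ← Finset.card_range (stairZ I i j)]
  refine Finset.card_nbij' (fun γ => (γ 2).toNat) (fun c => toZ (e3 i j c)) ?_ ?_ ?_ ?_
  · intro γ hγ
    simp only [Finset.mem_coe, Finset.mem_filter, Finset.mem_range] at hγ ⊢
    rw [← TgtCorner.stair_spec (hN 2)]
    have h1 := not_mem_I_of hΛ hγ.1
    rw [TgtCorner.tn_eq, hγ.2.1, hγ.2.2, Int.toNat_natCast, Int.toNat_natCast] at h1
    exact h1
  · intro c hc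
    simp only [Finset.mem_coe, Finset.mem_filter, Finset.mem_range] at hc ⊢
    have h1 := (TgtCorner.stair_spec (hN 2) i j c).2 hc
    refine ⟨(hΛ _).2 ⟨toZ_nonneg _, ?_⟩, rfl, rfl⟩
    rw [tn_toZ]
    exact h1
  · intro γ hγ
    simp only [Finset.mem_coe, Finset.mem_filter] at hγ
    have h0 := (isStair hΛ).nonneg _ hγ.1
    funext m
    rcases TgtSS.fin3_cases m with rfl | rfl | rfl
    · show ((i : ℕ) : ℤ) = γ 0
      exact hγ.2.1.symm
    · show ((j : ℕ) : ℤ) = γ 1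
      exact hγ.2.2.symm
    · show (((γ 2).toNat : ℕ) : ℤ) = γ 2
      exact Int.toNat_of_nonneg (h0 2)
  · intro c _
    show ((toZ (e3 i j c)) 2).toNat = c
    exact Int.toNat_natCast c

end Corner

theorem main36 (hI : IsMonomial I) [Module.Finite k (MvPolynomial (Fin 3) k ⧸ I)] (i j : ℕ) :
    Module.finrank k ↥(⨆ α : {α : Fin 3 → ℤ // α 0 = (i : ℤ) ∧ α 1 = (j : ℤ)}, tPiece I α.1) =
      stairZ I i j + Module.finrank k
        ↥(⨆ α : {α : Fin 3 → ℤ // α 0 = -(i : ℤ) - 1 ∧ α 1 = -(j : ℤ) - 1}, tPiece I α.1) := by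
  obtain ⟨Λ, hΛ⟩ := exists_spec hI
  have hS := isStair hΛ
  obtain ⟨B, hB⟩ := exists_B hS
  haveI := TgtCorner.tgt_finite hI
  have h1 : Module.finrank k
      ↥(⨆ α : {α : Fin 3 → ℤ // α 0 = (i : ℤ) ∧ α 1 = (j : ℤ)}, tPiece I α.1) =
      ∑ α ∈ (Bx B).filter (fun α : X => pC i j (α 0) (α 1) (α 2)),
        Module.finrank k ↥(tPiece I α) := by
    rw [finrank_iSup hI hΛ hB (fun α : X => α 0 = (i : ℤ) ∧ α 1 = (j : ℤ))]
    symm
    refine Finset.sum_subset ?_ ?_
    · intro α hα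
      rw [Finset.mem_filter] at hα ⊢
      exact ⟨hα.1, hα.2.1, hα.2.2.1⟩
    · intro α hα hn
      rw [Finset.mem_filter] at hα hn
      have h2 : ¬ α 2 < 0 := fun h => hn ⟨hα.1, hα.2.1, hα.2.2, h⟩
      have hnn : ∀ m, 0 ≤ α m := by
        intro m
        rcases TgtSS.fin3_cases m with rfl | rfl | rfl
        · rw [hα.2.1]
          exact Int.natCast_nonneg i
        · rw [hα.2.2]
          exact Int.natCast_nonneg j
        · omega
      rw [TgtDec.tPiece_nonneg hI α hnn]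
      exact finrank_bot k (Tgt I)
  have h2 : Module.finrank k
      ↥(⨆ α : {α : Fin 3 → ℤ // α 0 = -(i : ℤ) - 1 ∧ α 1 = -(j : ℤ) - 1}, tPiece I α.1) =
      ∑ α ∈ (Bx B).filter (fun α : X => pC i j (aDual α 0) (aDual α 1) (aDual α 2)),
        Module.finrank k ↥(tPiece I α) := by
    rw [finrank_iSup hI hΛ hB (fun α : X => α 0 = -(i : ℤ) - 1 ∧ α 1 = -(j : ℤ) - 1)]
    symm
    refine Finset.sum_subset ?_ ?_
    · intro α hα
      rw [Finset.mem_filter] at hα ⊢
      obtain ⟨hb, h0, h1, _⟩ := hα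
      rw [aDual_apply] at h0 h1
      exact ⟨hb, by omega, by omega⟩
    · intro α hα hn
      rw [Finset.mem_filter] at hα hn
      have h2 : α 2 < 0 := by
        by_contra h
        apply hn
        refine ⟨hα.1, ?_, ?_, ?_⟩
        · rw [aDual_apply]
          omega
        · rw [aDual_apply]
          omega
        · rw [aDual_apply]
          omega
      have hneg : ∀ m, α m < 0 := by
        intro m
        rcases TgtSS.fin3_cases m with rfl | rfl | rfl
        · rw [hα.2.1]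
          omega
        · rw [hα.2.2]
          omega
        · exact h2
      rw [TgtDec.tPiece_neg hI (by norm_num) α hneg]
      exact finrank_bot k (Tgt I)
  have h3 := diff_eq hI hΛ hB (fun α : X => pC i j (α 0) (α 1) (α 2))
    (fun α h => ⟨⟨2, h.2.2⟩, ⟨0, by rw [h.1]; exact Int.natCast_nonneg i⟩⟩)
  rw [total_C hS (i : ℤ) (j : ℤ) (Int.natCast_nonneg i) (Int.natCast_nonneg j),
    stair_count hI hΛ i j] at h3
  have h6 : (Module.finrank k
      ↥(⨆ α : {α : Fin 3 → ℤ // α 0 = (i : ℤ) ∧ α 1 = (j : ℤ)}, tPiece I α.1) : ℤ) =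
      stairZ I i j + Module.finrank k
        ↥(⨆ α : {α : Fin 3 → ℤ // α 0 = -(i : ℤ) - 1 ∧ α 1 = -(j : ℤ) - 1}, tPiece I α.1) := by
    rw [h1, h2]
    push_cast
    linarith
  exact_mod_cast h6

end Groth.Agent.H4.HdSum2
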