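import Mathlib
import Groth.Prelude.Def_W4c1hilbpnTgt
import Groth.Agent.H4.TgtDec
import Groth.Agent.H4.TgtSS
import Groth.Agent.H4.TgtSum
import Groth.Agent.H4.TgtCorner
import Groth.Agent.H4.HdBridge
import Groth.Agent.H4.HdSum

set_option autoImplicit false
universe u
open W4c1hilbpn MvPolynomial
open Groth.Agent.H4
open Groth.Agent.H4.TgtCC (tn tn_apply)
open Groth.Agent.H4.HdCore Groth.Agent.H4.HdInt Groth.Agent.H4.HdBridge Groth.Agent.H4.HdSum

noncomputable section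
namespace Groth.Agent.H4.HdSym

variable {k : Type u} [Field k] {I : Ideal (MvPolynomial (Fin 3) k)} {Λ : Finset X}

/-- the transposition of the last two variables -/
def sw : Equiv.Perm (Fin 3) := Equiv.swap 1 2

lemma sw_sw (i : Fin 3) : sw (sw i) = i := Equiv.swap_apply_self 1 2 i
lemma sw_symm : sw.symm = sw := Equiv.symm_swap 1 2
lemma sw_0 : sw 0 = 0 := Equiv.swap_apply_of_ne_of_ne (by decide) (by decide)
lemma sw_1 : sw 1 = 2 := Equiv.swap_apply_left 1 2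
lemma sw_2 : sw 2 = 1 := Equiv.swap_apply_right 1 2

/-- permuted integer vector -/
def pw (v : X) : X := fun i => v (sw i)

lemma pw_apply (v : X) (i : Fin 3) : pw v i = v (sw i) := rfl

lemma pw_pw (v : X) : pw (pw v) = v := by
  funext i
  rw [pw_apply, pw_apply, sw_sw]

lemma pw_add (v w : X) : pw (v + w) = pw v + pw w := rfl

lemma pw_ee (l : Fin 3) : pw (ee l) = ee (sw l) := by
  funext i
  rw [pw_apply, ee_apply, ee_apply]
  by_cases h : i = sw l
  · rw [if_pos h, if_pos (by rw [h, sw_sw])]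
  · rw [if_neg h, if_neg (fun h' => h (by rw [← h', sw_sw]))]

lemma pw_nonneg {v : X} : (∀ i, 0 ≤ pw v i) ↔ ∀ i, 0 ≤ v i :=
  ⟨fun h i => by
    have := h (sw i)
    rwa [pw_apply, sw_sw] at this, fun h i => h (sw i)⟩

lemma mem_pwΛ {v : X} : v ∈ Λ.image pw ↔ pw v ∈ Λ := by
  rw [Finset.mem_image]
  constructor
  · rintro ⟨a, ha, rfl⟩
    rwa [pw_pw]
  · intro h
    exact ⟨pw v, h, pw_pw v⟩

lemma image_image_pw : (Λ.image pw).image pw = Λ := by
  ext v
  rw [mem_pwΛ, mem_pwΛ, pw_pw]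

lemma mem_U0_pw {α β : X} : β ∈ U0 (Λ.image pw) (pw α) ↔ pw β ∈ U0 Λ α := by
  rw [mem_U0, mem_U0, mem_pwΛ, mem_pwΛ, pw_add, pw_pw, pw_nonneg]

lemma comp_mem_TF {α : X} {ψ : X → k} (hψ : ψ ∈ TF (k := k) Λ α) :
    (fun β => ψ (pw β)) ∈ TF (k := k) (Λ.image pw) (pw α) := by
  refine ⟨fun β hβ => hψ.1 _ (fun h => hβ (mem_U0_pw.2 h)), fun β l h0 hn h => ?_⟩
  show ψ (pw (β + ee l)) = ψ (pw β)
  rw [pw_add, pw_ee]
  refine hψ.2 (pw β) (sw l) (pw_nonneg.2 h0) (fun hm => hn (mem_pwΛ.2 hm)) ?_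
  have h1 := mem_pwΛ.1 h
  rwa [pw_add, pw_add, pw_pw, pw_ee] at h1

lemma finrank_TF_le (Λ : Finset X) (α : X) :
    Module.finrank k ↥(TF (k := k) Λ α) ≤
      Module.finrank k ↥(TF (k := k) (Λ.image pw) (pw α)) := by
  let f : ↥(TF (k := k) Λ α) →ₗ[k] ↥(TF (k := k) (Λ.image pw) (pw α)) :=
    { toFun := fun ψ => ⟨fun β => ψ.1 (pw β), comp_mem_TF ψ.2⟩
      map_add' := fun ψ φ => rfl
      map_smul' := fun c ψ => rfl }
  refine LinearMap.finrank_le_finrank_of_injective (f := f) (fun ψ φ h => ?_)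
  apply Subtype.ext
  funext v
  have h1 : ψ.1 (pw (pw v)) = φ.1 (pw (pw v)) := congrFun (congrArg Subtype.val h) (pw v)
  rwa [pw_pw] at h1

lemma finrank_TF_pw (Λ : Finset X) (α : X) :
    Module.finrank k ↥(TF (k := k) (Λ.image pw) (pw α)) = Module.finrank k ↥(TF (k := k) Λ α) := by
  apply le_antisymm
  · have h := finrank_TF_le (k := k) (Λ.image pw) (pw α)
    rwa [image_image_pw, pw_pw] at h
  · exact finrank_TF_le Λ α

/-- the ideal with the last two variables exchanged -/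
def swI (I : Ideal (MvPolynomial (Fin 3) k)) : Ideal (MvPolynomial (Fin 3) k) :=
  I.comap (rename (R := k) sw)

lemma mem_swI {p : MvPolynomial (Fin 3) k} : p ∈ swI I ↔ rename sw p ∈ I := Iff.rfl

lemma mono_mem_swI (β : Fin 3 →₀ ℕ) :
    monomial β (1 : k) ∈ swI I ↔ monomial (β.mapDomain sw) (1 : k) ∈ I := by
  rw [mem_swI, rename_monomial]

lemma mapDomain_sw_apply (β : Fin 3 →₀ ℕ) (i : Fin 3) : β.mapDomain sw i = β (sw i) := by
  rw [Finsupp.mapDomain_equiv_apply, sw_symm]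

lemma tn_pw (v : X) : tn (pw v) = (tn v).mapDomain sw := by
  ext i
  rw [mapDomain_sw_apply, tn_apply, tn_apply, pw_apply]

lemma swI_monomial (hI : IsMonomial I) : IsMonomial (swI I) := by
  intro p hp β hβ
  rw [mono_mem_swI]
  refine hI _ hp _ ?_
  rw [mem_support_iff, coeff_rename_mapDomain _ sw.injective]
  exact mem_support_iff.1 hβ

lemma swI_finite [Module.Finite k (MvPolynomial (Fin 3) k ⧸ I)] :
    Module.Finite k (MvPolynomial (Fin 3) k ⧸ swI I) := by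
  let g : (MvPolynomial (Fin 3) k ⧸ swI I) →ₐ[k] (MvPolynomial (Fin 3) k ⧸ I) :=
    Ideal.quotientMapₐ I (rename (R := k) sw) le_rfl
  have hg : Function.Injective g := Ideal.quotientMap_injective' (H := le_rfl) (le_refl _)
  exact Module.Finite.of_injective g.toLinearMap hg

lemma swI_spec (hΛ : Spec I Λ) : Spec (swI I) (Λ.image pw) := by
  intro v
  rw [mem_pwΛ, hΛ (pw v), pw_nonneg, mono_mem_swI, tn_pw]

lemma finrank_tPiece_sw (hI : IsMonomial I) (hΛ : Spec I Λ) (α : X) :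
    Module.finrank k ↥(tPiece (swI I) (pw α)) = Module.finrank k ↥(tPiece I α) := by
  rw [finrank_tPiece (swI_monomial hI) (swI_spec hΛ) (pw α), finrank_tPiece hI hΛ α,
    finrank_TF_pw]

lemma pw_mem_Bx {B : ℤ} {α : X} (h : α ∈ Bx B) : pw α ∈ Bx B := by
  rw [mem_Bx] at h ⊢
  exact fun i => h (sw i)

lemma sw_mem12 (j : Fin 3) : sw j ∈ ({1} : Set (Fin 3)) ↔ j ∈ ({2} : Set (Fin 3)) := by
  rw [Set.mem_singleton_iff, Set.mem_singleton_iff]
  constructor
  · intro h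
    rw [← sw_sw j, h, sw_1]
  · intro h
    rw [h, sw_2]

lemma sw_mem21 (j : Fin 3) : sw j ∈ ({2} : Set (Fin 3)) ↔ j ∈ ({1} : Set (Fin 3)) := by
  rw [Set.mem_singleton_iff, Set.mem_singleton_iff]
  constructor
  · intro h
    rw [← sw_sw j, h, sw_2]
  · intro h
    rw [h, sw_1]

theorem sig_sw (hI : IsMonomial I) [Module.Finite k (MvPolynomial (Fin 3) k ⧸ I)] :
    Module.finrank k ↥(sigPiece I ({1} : Set (Fin 3))) =
      Module.finrank k ↥(sigPiece (swI I) ({2} : Set (Fin 3))) := by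
  obtain ⟨Λ, hΛ⟩ := exists_spec hI
  have hS := isStair hΛ
  obtain ⟨B, hB⟩ := exists_B hS
  haveI := swI_finite (I := I)
  have hB' : ∀ γ ∈ Λ.image pw, ∀ i, γ i < B := by
    intro γ hγ i
    have h := hB _ (mem_pwΛ.1 hγ) (sw i)
    rwa [pw_apply, sw_sw] at h
  haveI d1 : DecidablePred (fun α : X => ∀ j, α j < 0 ↔ j ∈ ({1} : Set (Fin 3))) :=
    fun _ => Classical.propDecidable _
  haveI d2 : DecidablePred (fun α : X => ∀ j, α j < 0 ↔ j ∈ ({2} : Set (Fin 3))) :=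
    fun _ => Classical.propDecidable _
  unfold sigPiece
  rw [finrank_iSup hI hΛ hB (fun α : X => ∀ j, α j < 0 ↔ j ∈ ({1} : Set (Fin 3))),
    finrank_iSup (swI_monomial hI) (swI_spec hΛ) hB'
      (fun α : X => ∀ j, α j < 0 ↔ j ∈ ({2} : Set (Fin 3)))]
  refine Finset.sum_nbij' pw pw ?_ ?_ ?_ ?_ ?_
  · intro α hα
    simp only [Finset.mem_filter] at hα ⊢
    refine ⟨pw_mem_Bx hα.1, fun j => ?_⟩
    rw [pw_apply, hα.2 (sw j)]
    exact sw_mem12 j
  · intro α hα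
    simp only [Finset.mem_filter] at hα ⊢
    refine ⟨pw_mem_Bx hα.1, fun j => ?_⟩
    rw [pw_apply, hα.2 (sw j)]
    exact sw_mem21 j
  · intro α _
    exact pw_pw α
  · intro α _
    exact pw_pw α
  · intro α _
    exact (finrank_tPiece_sw hI hΛ α).symm

end Groth.Agent.H4.HdSym
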