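import Mathlib
import Groth.Prelude.Def_W4c1hilbpnTgt
import Groth.Agent.H4.TgtDec
import Groth.Agent.H4.TgtSS
import Groth.Agent.H4.TgtSum
import Groth.Agent.H4.TgtCorner
import Groth.Agent.H4.TgtSlice
import Groth.Agent.H4.HdBridge
import Groth.Agent.H4.HdSum
import Groth.Agent.H4.HdSum2
import Groth.Agent.H4.HdSym
import Groth.Agent.Lib.Helper5.SStab.A

set_option autoImplicit false
universe u
open W4c1hilbpn MvPolynomial
open Groth.Agent.H4
open Groth.Agent.H4.TgtCC (tn tn_apply)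
open Groth.Agent.H4.HdCore Groth.Agent.H4.HdInt Groth.Agent.H4.HdBridge Groth.Agent.H4.HdSum
open Groth.Agent.H4.HdSym

noncomputable section
namespace Groth.Agent.H4.HdBound

variable {k : Type u} [Field k] {Λ : Finset X}

section Num

lemma tele (b : ℕ → ℕ) (hb : ∀ j, b (j + 1) ≤ b j) (R : ℕ) :
    ∑ j ∈ Finset.range R, (j + 1) * (b j - b (j + 1)) + R * b R = ∑ j ∈ Finset.range R, b j := by
  induction R with
  | zero => simp
  | succ R ih =>
    rw [Finset.sum_range_succ, Finset.sum_range_succ, ← ih]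
    have h := hb R
    obtain ⟨d, hd⟩ : ∃ d, b R = b (R + 1) + d := ⟨b R - b (R + 1), by omega⟩
    rw [hd, Nat.add_sub_cancel_left]
    ring

lemma dbl (f : ℕ → ℕ) (r : ℕ) :
    ∑ j ∈ Finset.range r, ∑ i ∈ Finset.Ico j r, f i = ∑ i ∈ Finset.range r, (i + 1) * f i := by
  refine (Finset.sum_comm' (s' := fun i => Finset.range (i + 1)) (t' := Finset.range r) ?_).trans ?_
  · intro j i
    simp only [Finset.mem_range, Finset.mem_Ico]
    omega
  · refine Finset.sum_congr rfl (fun i _ => ?_)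
    rw [Finset.sum_const, Finset.card_range, smul_eq_mul]

lemma hockey4 (r : ℕ) : ∑ j ∈ Finset.range r, (r - j + 2).choose 3 = (r + 3).choose 4 := by
  induction r with
  | zero => simp
  | succ r ih =>
    rw [Finset.sum_range_succ']
    have : ∀ j ∈ Finset.range r, (r + 1 - (j + 1) + 2).choose 3 = (r - j + 2).choose 3 := by
      intro j _
      rw [Nat.add_sub_add_right]
    rw [Finset.sum_congr rfl this, ih, Nat.sub_zero]
    have h : (r + 3 + 1).choose 4 = (r + 3).choose 3 + (r + 3).choose 4 :=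
      Nat.choose_succ_succ (r + 3) 3
    show (r + 3).choose 4 + (r + 1 + 2).choose 3 = (r + 1 + 3).choose 4
    have e1 : r + 1 + 2 = r + 3 := by omega
    have e2 : r + 1 + 3 = r + 3 + 1 := by omega
    rw [e1, e2, h]
    omega

lemma inner_hockey (r j : ℕ) :
    ∑ i ∈ Finset.Ico j r, (r - i + 1).choose 2 = (r - j + 2).choose 3 := by
  rw [Finset.sum_Ico_eq_sum_range, ← TgtSlice.hockey (r - j)]
  refine Finset.sum_congr rfl (fun i _ => ?_)
  rw [Nat.sub_add_eq]

lemma num_bound (n : ℕ → ℕ) (r R : ℕ) (hR : r ≤ R) (hz : ∀ i, r ≤ i → n i = 0)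
    (ht : ∀ j, j ≤ r →
      ∑ i ∈ Finset.Ico j r, n i ≤ ∑ i ∈ Finset.Ico j r, (r - i + 1).choose 2) :
    ∑ i ∈ Finset.range R, (i + 1) * n i ≤ (r + 3).choose 4 ∧
      (∑ i ∈ Finset.range R, (i + 1) * n i = (r + 3).choose 4 →
        ∀ j, j < r →
          ∑ i ∈ Finset.Ico j r, n i = ∑ i ∈ Finset.Ico j r, (r - i + 1).choose 2) := by
  have h1 : ∑ i ∈ Finset.range R, (i + 1) * n i = ∑ i ∈ Finset.range r, (i + 1) * n i := by
    rw [← Finset.sum_range_add_sum_Ico (fun i => (i + 1) * n i) hR]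
    have h0 : ∑ i ∈ Finset.Ico r R, (i + 1) * n i = 0 :=
      Finset.sum_eq_zero (fun i hi => by rw [hz i (Finset.mem_Ico.1 hi).1, mul_zero])
    rw [h0, add_zero]
  have h2 : ∑ j ∈ Finset.range r, ∑ i ∈ Finset.Ico j r, (r - i + 1).choose 2 =
      (r + 3).choose 4 := by
    rw [← hockey4 r]
    exact Finset.sum_congr rfl (fun j _ => inner_hockey r j)
  have hle : ∀ j ∈ Finset.range r,
      ∑ i ∈ Finset.Ico j r, n i ≤ ∑ i ∈ Finset.Ico j r, (r - i + 1).choose 2 :=
    fun j hj => ht j (Finset.mem_range.1 hj).le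
  rw [h1, ← dbl n r, ← h2]
  refine ⟨Finset.sum_le_sum hle, fun heq j hj => ?_⟩
  exact (Finset.sum_eq_sum_iff_of_le hle).1 heq j (Finset.mem_range.2 hj)

end Num

section Stair
variable {J : Ideal (MvPolynomial (Fin 3) k)}

lemma stair_mono {N : ℕ} (hN2 : monomial (Finsupp.single (2 : Fin 3) N) (1 : k) ∈ J) (i j : ℕ) :
    stairZ J i (j + 1) ≤ stairZ J i j := by
  by_contra h
  push Not at h
  have h1 := (TgtCorner.stair_spec hN2 i (j + 1) (stairZ J i j)).2 h
  have h2 : e3 i j (stairZ J i j) ∈ exps J := by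
    by_contra hc
    have := (TgtCorner.stair_spec hN2 i j (stairZ J i j)).1 hc
    omega
  exact h1 (TgtDec.mono_of_le (TgtCorner.e3_le le_rfl (Nat.le_succ j) le_rfl) h2)

lemma stair_card (hJ : IsMonomial J) [Module.Finite k (MvPolynomial (Fin 3) k ⧸ J)]
    (hΛ : Spec J Λ) (i j : ℕ) :
    stairZ J i j = (Λ.filter (fun γ => γ 0 = (i : ℤ) ∧ γ 1 = (j : ℤ))).card := by
  have h := HdSum2.stair_count hJ hΛ i j
  rw [Finset.sum_boole] at h
  exact_mod_cast h.symm

lemma sum_stair (hJ : IsMonomial J) [Module.Finite k (MvPolynomial (Fin 3) k ⧸ J)]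
    (hΛ : Spec J Λ) (i R : ℕ) (hR : ∀ γ ∈ Λ, γ 1 < (R : ℤ)) :
    ∑ j ∈ Finset.range R, stairZ J i j = (Λ.filter (fun γ => γ 0 = (i : ℤ))).card := by
  have hS := isStair hΛ
  rw [Finset.card_eq_sum_card_fiberwise (f := fun γ : X => (γ 1).toNat) (t := Finset.range R)]
  · refine Finset.sum_congr rfl (fun j _ => ?_)
    rw [stair_card hJ hΛ i j, Finset.filter_filter]
    refine congrArg Finset.card (Finset.filter_congr (fun γ hγ => ?_))
    have h1 := hS.nonneg γ hγ 1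
    constructor
    · rintro ⟨h0, h⟩
      exact ⟨h0, by omega⟩
    · rintro ⟨h0, h⟩
      exact ⟨h0, by omega⟩
  · intro γ hγ
    rw [Finset.mem_coe, Finset.mem_filter] at hγ
    have h2 := hR γ hγ.1
    have h1 := hS.nonneg γ hγ.1 1
    show (γ 1).toNat ∈ Finset.range R
    rw [Finset.mem_range]
    omega

end Stair

section Regroup
variable {J : Ideal (MvPolynomial (Fin 3) k)}

/-- the span of the pieces of multidegree `(a1, a2, c)`, `c < 0` -/
abbrev Wc (J : Ideal (MvPolynomial (Fin 3) k)) (a1 a2 : ℕ) : Submodule k (Tgt J) :=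
  ⨆ α : {α : Fin 3 → ℤ // α 0 = (a1 : ℤ) ∧ α 1 = (a2 : ℤ) ∧ α 2 < 0}, tPiece J α.1

lemma regroup (hJ : IsMonomial J) [Module.Finite k (MvPolynomial (Fin 3) k ⧸ J)]
    (hΛ : Spec J Λ) {B : ℤ} (hB : ∀ γ ∈ Λ, ∀ i, γ i < B) (R : ℕ) (hR : B ≤ (R : ℤ)) :
    Module.finrank k ↥(sigPiece J ({2} : Set (Fin 3))) =
      ∑ y ∈ Finset.range R ×ˢ Finset.range R, Module.finrank k ↥(Wc J y.1 y.2) := by
  haveI d2 : DecidablePred (fun α : X => ∀ j, α j < 0 ↔ j ∈ ({2} : Set (Fin 3))) :=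
    fun _ => Classical.propDecidable _
  have e21 : (2 : Fin 3) + 1 = 0 := rfl
  have e22 : (2 : Fin 3) + 2 = 1 := rfl
  have hW : ∀ y : ℕ × ℕ, Module.finrank k ↥(Wc J y.1 y.2) =
      ∑ α ∈ (Bx B).filter (fun α : X => α 0 = (y.1 : ℤ) ∧ α 1 = (y.2 : ℤ) ∧ α 2 < 0),
        Module.finrank k ↥(tPiece J α) := fun y => finrank_iSup hJ hΛ hB _
  have hmaps : ∀ α ∈ (Bx B).filter (fun α : X => ∀ j, α j < 0 ↔ j ∈ ({2} : Set (Fin 3))),
      ((α 0).toNat, (α 1).toNat) ∈ Finset.range R ×ˢ Finset.range R := by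
    intro α hα
    rw [Finset.mem_filter, mem_Bx, TgtSum.pat1_iff, e21, e22] at hα
    have h0 := hα.1 0
    have h1 := hα.1 1
    rw [Finset.mem_product, Finset.mem_range, Finset.mem_range]
    constructor <;> omega
  have key : ∀ y ∈ Finset.range R ×ˢ Finset.range R,
      ((Bx B).filter (fun α : X => ∀ j, α j < 0 ↔ j ∈ ({2} : Set (Fin 3)))).filter
        (fun α => ((α 0).toNat, (α 1).toNat) = y) =
      (Bx B).filter (fun α : X => α 0 = (y.1 : ℤ) ∧ α 1 = (y.2 : ℤ) ∧ α 2 < 0) := by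
    intro y _
    ext α
    simp only [Finset.mem_filter]
    rw [TgtSum.pat1_iff, e21, e22]
    constructor
    · rintro ⟨⟨hb, h2, h0, h1⟩, hg⟩
      have g1 : (α 0).toNat = y.1 := congrArg Prod.fst hg
      have g2 : (α 1).toNat = y.2 := congrArg Prod.snd hg
      exact ⟨hb, by omega, by omega, h2⟩
    · rintro ⟨hb, h0, h1, h2⟩
      refine ⟨⟨hb, h2, by omega, by omega⟩, Prod.ext ?_ ?_⟩
      · show (α 0).toNat = y.1
        omega
      · show (α 1).toNat = y.2
        omega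
  unfold sigPiece
  rw [finrank_iSup hJ hΛ hB (fun α : X => ∀ j, α j < 0 ↔ j ∈ ({2} : Set (Fin 3)))]
  calc ∑ α ∈ (Bx B).filter (fun α : X => ∀ j, α j < 0 ↔ j ∈ ({2} : Set (Fin 3))),
        Module.finrank k ↥(tPiece J α)
      = ∑ y ∈ Finset.range R ×ˢ Finset.range R,
          ∑ α ∈ ((Bx B).filter (fun α : X => ∀ j, α j < 0 ↔ j ∈ ({2} : Set (Fin 3)))).filter
            (fun α => ((α 0).toNat, (α 1).toNat) = y), Module.finrank k ↥(tPiece J α) :=
        (Finset.sum_fiberwise_of_maps_to hmaps _).symm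
    _ = ∑ y ∈ Finset.range R ×ˢ Finset.range R,
          ∑ α ∈ (Bx B).filter (fun α : X => α 0 = (y.1 : ℤ) ∧ α 1 = (y.2 : ℤ) ∧ α 2 < 0),
            Module.finrank k ↥(tPiece J α) :=
        Finset.sum_congr rfl (fun y hy => by rw [key y hy])
    _ = ∑ y ∈ Finset.range R ×ˢ Finset.range R, Module.finrank k ↥(Wc J y.1 y.2) :=
        Finset.sum_congr rfl (fun y _ => (hW y).symm)

lemma total_bound (hJ : IsMonomial J) [Module.Finite k (MvPolynomial (Fin 3) k ⧸ J)] {N : ℕ}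
    (hN : ∀ i : Fin 3, monomial (Finsupp.single i N) (1 : k) ∈ J)
    (h1 : ∀ i j, stairZ J (i + 1) j ≤ stairZ J i (j + 1)) (R : ℕ) (hNR : N ≤ R) :
    ∑ y ∈ Finset.range R ×ˢ Finset.range R, Module.finrank k ↥(Wc J y.1 y.2) ≤
      ∑ i ∈ Finset.range R, (i + 1) * ∑ j ∈ Finset.range R, stairZ J i j := by
  classical
  have hfin : ∀ y : ℕ × ℕ, Module.finrank k ↥(Wc J y.1 y.2) ≤
      ∑ p ∈ Finset.range R ×ˢ Finset.range R, (if y.1 ≤ p.1 ∧ y.2 ≤ p.2 then
        stairZ J p.1 p.2 - stairZ J p.1 (p.2 + 1) else 0) := by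
    intro y
    refine (TgtCorner.main40 hJ y.1 y.2).trans (le_of_eq ?_)
    rw [finsum_eq_sum_of_support_subset (s := Finset.range R ×ˢ Finset.range R)]
    · refine Finset.sum_congr rfl (fun p _ => ?_)
      rw [max_eq_right (h1 p.1 p.2)]
    · intro p hp
      rw [Function.mem_support] at hp
      by_contra hnot
      apply hp
      have hz : stairZ J p.1 p.2 = 0 := TgtCorner.stair_zero hN p.1 p.2 (fun h => hnot
        (Finset.mem_coe.2 (Finset.mem_product.2
          ⟨Finset.mem_range.2 (by omega), Finset.mem_range.2 (by omega)⟩)))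
      simp only [hz, Nat.zero_sub, ite_self]
  refine (Finset.sum_le_sum (fun y _ => hfin y)).trans (le_of_eq ?_)
  rw [Finset.sum_comm]
  have hin : ∀ p ∈ Finset.range R ×ˢ Finset.range R,
      ∑ y ∈ Finset.range R ×ˢ Finset.range R, (if y.1 ≤ p.1 ∧ y.2 ≤ p.2 then
        stairZ J p.1 p.2 - stairZ J p.1 (p.2 + 1) else 0) =
      (p.1 + 1) * ((p.2 + 1) * (stairZ J p.1 p.2 - stairZ J p.1 (p.2 + 1))) := by
    intro p hp
    rw [Finset.mem_product, Finset.mem_range, Finset.mem_range] at hp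
    rw [← Finset.sum_filter, Finset.sum_const, smul_eq_mul]
    have hc : ((Finset.range R ×ˢ Finset.range R).filter
        (fun y : ℕ × ℕ => y.1 ≤ p.1 ∧ y.2 ≤ p.2)) =
        Finset.range (p.1 + 1) ×ˢ Finset.range (p.2 + 1) := by
      ext y
      simp only [Finset.mem_filter, Finset.mem_product, Finset.mem_range]
      omega
    rw [hc, Finset.card_product, Finset.card_range, Finset.card_range, mul_assoc]
  rw [Finset.sum_congr rfl hin, Finset.sum_product]
  refine Finset.sum_congr rfl (fun i _ => ?_)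
  dsimp only
  rw [← Finset.mul_sum]
  congr 1
  have ht := tele (fun j => stairZ J i j) (fun j => stair_mono (hN 2) i j) R
  have hzR : stairZ J i R = 0 := TgtCorner.stair_zero hN i R (fun h => by omega)
  rw [hzR, mul_zero, add_zero] at ht
  exact ht

end Regroup


section Slices
variable {I : Ideal (MvPolynomial (Fin 3) k)}

lemma card_slice (hΛ : Spec I Λ) (i : ℕ) :
    (Λ.filter (fun γ => γ 0 = (i : ℤ))).card = (TgtSlice.SS I i).ncard := by
  have hS := isStair hΛ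
  have himg : TgtSlice.SS I i = (fun γ : X => ((γ 1).toNat, (γ 2).toNat)) ''
      ↑(Λ.filter (fun γ => γ 0 = (i : ℤ))) := by
    ext bc
    constructor
    · intro h
      refine ⟨toZ (e3 i bc.1 bc.2), ?_, ?_⟩
      · rw [Finset.mem_coe, Finset.mem_filter]
        refine ⟨(hΛ _).2 ⟨toZ_nonneg _, ?_⟩, rfl⟩
        rw [tn_toZ]
        exact h
      · exact Prod.ext (Int.toNat_natCast _) (Int.toNat_natCast _)
    · rintro ⟨γ, hγ, rfl⟩
      rw [Finset.mem_coe, Finset.mem_filter] at hγ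
      have h1 := not_mem_I_of hΛ hγ.1
      rw [TgtCorner.tn_eq, hγ.2, Int.toNat_natCast] at h1
      exact h1
  rw [himg, Set.InjOn.ncard_image, Set.ncard_coe_finset]
  intro γ hγ γ' hγ' h
  rw [Finset.mem_coe, Finset.mem_filter] at hγ hγ'
  have e1 : (γ 1).toNat = (γ' 1).toNat := congrArg Prod.fst h
  have e2 : (γ 2).toNat = (γ' 2).toNat := congrArg Prod.snd h
  have a1 := hS.nonneg γ hγ.1
  have a2 := hS.nonneg γ' hγ'.1
  funext m
  rcases TgtSS.fin3_cases m with rfl | rfl | rfl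
  · rw [hγ.2, hγ'.2]
  · have := a1 1
    have := a2 1
    omega
  · have := a1 2
    have := a2 2
    omega

lemma card_slice_sw (Λ : Finset X) (i : ℕ) :
    ((Λ.image pw).filter (fun γ => γ 0 = (i : ℤ))).card =
      (Λ.filter (fun γ => γ 0 = (i : ℤ))).card := by
  refine Finset.card_nbij' pw pw ?_ ?_ ?_ ?_
  · intro γ hγ
    simp only [Finset.mem_coe, Finset.mem_filter] at hγ ⊢
    refine ⟨mem_pwΛ.1 hγ.1, ?_⟩
    rw [pw_apply, sw_0]
    exact hγ.2
  · intro γ hγ
    simp only [Finset.mem_coe, Finset.mem_filter] at hγ ⊢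
    refine ⟨mem_pwΛ.2 (by rw [pw_pw]; exact hγ.1), ?_⟩
    rw [pw_apply, sw_0]
    exact hγ.2
  · intro γ _
    exact pw_pw γ
  · intro γ _
    exact pw_pw γ

lemma mapDomain_e3 (a b c : ℕ) : (e3 a b c).mapDomain sw = e3 a c b := by
  ext m
  rw [mapDomain_sw_apply]
  rcases TgtSS.fin3_cases m with rfl | rfl | rfl
  · rw [sw_0]
    rfl
  · rw [sw_1]
    rfl
  · rw [sw_2]
    rfl

lemma stairZ_swI (I : Ideal (MvPolynomial (Fin 3) k)) (i j : ℕ) :
    stairZ (swI I) i j = stairY I i j := by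
  unfold stairZ stairY
  refine Nat.card_congr (Equiv.subtypeEquivRight (fun c => not_congr ?_))
  show monomial (e3 i j c) (1 : k) ∈ swI I ↔ monomial (e3 i c j) (1 : k) ∈ I
  rw [mono_mem_swI, mapDomain_e3]

lemma slice_vanish (r : ℕ) (hI : IsStronglyStable I)
    [Module.Finite k (MvPolynomial (Fin 3) k ⧸ I)]
    (hd : Module.finrank k (MvPolynomial (Fin 3) k ⧸ I) ≤ Nat.choose (r + 2) 3) {N : ℕ}
    (hN : ∀ i : Fin 3, monomial (Finsupp.single i N) (1 : k) ∈ I) :
    ∀ i, r ≤ i → (TgtSlice.SS I i).ncard = 0 := by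
  have hA : ∀ i, (TgtSlice.SS I (i + 1)).ncard + stairZ I i 0 ≤ (TgtSlice.SS I i).ncard :=
    fun i => TgtSlice.SS_step hI hN i
  have hB : ∀ i, 1 ≤ stairZ I (i + 1) 0 → stairZ I (i + 1) 0 + 1 ≤ stairZ I i 0 :=
    fun i => TgtSlice.D_step hI (hN 2) i
  have hC : ∀ i m, stairZ I i 0 ≤ m → (TgtSlice.SS I i).ncard ≤ (m + 1).choose 2 :=
    fun i m => TgtSlice.SS_card_le hI hN i m
  have hT : ∀ R, ∑ i ∈ Finset.range R, (TgtSlice.SS I i).ncard ≤ (r + 2).choose 3 :=
    fun R => (TgtSlice.sum_SS_le hI.1 hN R).trans hd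
  have hD : stairZ I r 0 = 0 := by
    by_contra hD
    have hD1 : 1 ≤ stairZ I r 0 := Nat.one_le_iff_ne_zero.2 hD
    rcases Nat.eq_zero_or_pos r with h0 | hpos
    · subst h0
      have h1 := hT 1
      rw [Finset.sum_range_one] at h1
      have h2 := hA 0
      have h3 : (0 + 2).choose 3 = 0 := by decide
      omega
    · obtain ⟨r', rfl⟩ : ∃ r', r = r' + 1 := ⟨r - 1, by omega⟩
      have b1 := hB r' hD1
      have a1 := hA r'
      have hD0 : r' + 1 - r' + 1 ≤ stairZ I r' 0 := by omega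
      have hbig : (r' + 1 - r' + 1).choose 2 < (TgtSlice.SS I r').ncard := by
        have e : r' + 1 - r' + 1 = 2 := by omega
        rw [e, Nat.choose_self]
        omega
      have hall := TgtSlice.down_ind (fun i => (TgtSlice.SS I i).ncard) (fun i => stairZ I i 0)
        (r' + 1) hA hB r' (by omega) hD0 hbig
      have hlt : ∑ i ∈ Finset.range (r' + 1), (r' + 1 - i + 1).choose 2 <
          ∑ i ∈ Finset.range (r' + 1), (TgtSlice.SS I i).ncard := by
        refine Finset.sum_lt_sum_of_nonempty ⟨0, Finset.mem_range.2 (by omega)⟩ (fun i hi => ?_)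
        have hi' := Finset.mem_range.1 hi
        have := (hall (r' - i) (by omega)).2
        rwa [show r' - (r' - i) = i by omega] at this
      rw [TgtSlice.hockey (r' + 1)] at hlt
      have := hT (r' + 1)
      omega
  have hr0 : (TgtSlice.SS I r).ncard = 0 := by
    have h1 := hC r 0 (by omega)
    have h2 : (0 + 1).choose 2 = 0 := by decide
    omega
  intro i hi
  induction i, hi using Nat.le_induction with
  | base => exact hr0
  | succ i _ ih =>
    have := hA i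
    omega

end Slices

section Main
variable {J : Ideal (MvPolynomial (Fin 3) k)}

theorem sig2_bound (hJ : IsMonomial J) [Module.Finite k (MvPolynomial (Fin 3) k ⧸ J)]
    (hΛ : Spec J Λ) (h1 : ∀ i j, stairZ J (i + 1) j ≤ stairZ J i (j + 1))
    (n : ℕ → ℕ) (r : ℕ) (hn : ∀ i : ℕ, (Λ.filter (fun γ => γ 0 = (i : ℤ))).card = n i)
    (hz : ∀ i, r ≤ i → n i = 0)
    (ht : ∀ j, j ≤ r →
      ∑ i ∈ Finset.Ico j r, n i ≤ ∑ i ∈ Finset.Ico j r, (r - i + 1).choose 2) :
    Module.finrank k ↥(sigPiece J ({2} : Set (Fin 3))) ≤ (r + 3).choose 4 ∧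
      (Module.finrank k ↥(sigPiece J ({2} : Set (Fin 3))) = (r + 3).choose 4 →
        ∀ j, j < r →
          ∑ i ∈ Finset.Ico j r, n i = ∑ i ∈ Finset.Ico j r, (r - i + 1).choose 2) := by
  have hS := isStair hΛ
  obtain ⟨B, hB⟩ := exists_B hS
  obtain ⟨N, hN⟩ := TgtDec.exists_bound hJ
  have hBR : B ≤ ((N + B.toNat + r : ℕ) : ℤ) := by
    have := Int.self_le_toNat B
    push_cast
    omega
  have hR1 : ∀ γ ∈ Λ, γ 1 < ((N + B.toNat + r : ℕ) : ℤ) := fun γ hγ =>
    lt_of_lt_of_le (hB γ hγ 1) hBR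
  have e1 := regroup hJ hΛ hB (N + B.toNat + r) hBR
  have e2 := total_bound hJ hN h1 (N + B.toNat + r) (by omega)
  have e4 : ∑ i ∈ Finset.range (N + B.toNat + r),
      (i + 1) * ∑ j ∈ Finset.range (N + B.toNat + r), stairZ J i j =
      ∑ i ∈ Finset.range (N + B.toNat + r), (i + 1) * n i :=
    Finset.sum_congr rfl (fun i _ => by
      rw [sum_stair hJ hΛ i (N + B.toNat + r) hR1, hn i])
  rw [e4] at e2
  obtain ⟨b1, b2⟩ := num_bound n r (N + B.toNat + r) (by omega) hz ht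
  constructor
  · rw [e1]
    exact e2.trans b1
  · intro heq j hj
    refine b2 ?_ j hj
    rw [e1] at heq
    omega

theorem main43 (r : ℕ) {I : Ideal (MvPolynomial (Fin 3) k)} (hI : IsStronglyStable I)
    [Module.Finite k (MvPolynomial (Fin 3) k ⧸ I)]
    (hd : Module.finrank k (MvPolynomial (Fin 3) k ⧸ I) = Nat.choose (r + 2) 3) :
    (Module.finrank k ↥(sigPiece I ({2} : Set (Fin 3))) ≤ Nat.choose (r + 3) 4 ∧
      (Module.finrank k ↥(sigPiece I ({2} : Set (Fin 3))) = Nat.choose (r + 3) 4 ↔ I = (Ideal.span (Set.range (MvPolynomial.X : Fin 3 → MvPolynomial (Fin 3) k))) ^ r)) ∧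
    (Module.finrank k ↥(sigPiece I ({1} : Set (Fin 3))) ≤ Nat.choose (r + 3) 4 ∧
      (Module.finrank k ↥(sigPiece I ({1} : Set (Fin 3))) = Nat.choose (r + 3) 4 ↔ I = (Ideal.span (Set.range (MvPolynomial.X : Fin 3 → MvPolynomial (Fin 3) k))) ^ r)) ∧
    (Module.finrank k ↥(sigPiece I ({0, 1} : Set (Fin 3))) ≤ Nat.choose (r + 2) 4 ∧
      (Module.finrank k ↥(sigPiece I ({0, 1} : Set (Fin 3))) = Nat.choose (r + 2) 4 ↔ I = (Ideal.span (Set.range (MvPolynomial.X : Fin 3 → MvPolynomial (Fin 3) k))) ^ r)) ∧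
    (Module.finrank k ↥(sigPiece I ({0, 2} : Set (Fin 3))) ≤ Nat.choose (r + 2) 4 ∧
      (Module.finrank k ↥(sigPiece I ({0, 2} : Set (Fin 3))) = Nat.choose (r + 2) 4 ↔ I = (Ideal.span (Set.range (MvPolynomial.X : Fin 3 → MvPolynomial (Fin 3) k))) ^ r)) := by
  obtain ⟨N, hN⟩ := TgtDec.exists_bound hI.1
  obtain ⟨Λ, hΛ⟩ := exists_spec hI.1
  have hA : ∀ i, (TgtSlice.SS I (i + 1)).ncard + stairZ I i 0 ≤ (TgtSlice.SS I i).ncard :=
    fun i => TgtSlice.SS_step hI hN i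
  have hB : ∀ i, 1 ≤ stairZ I (i + 1) 0 → stairZ I (i + 1) 0 + 1 ≤ stairZ I i 0 :=
    fun i => TgtSlice.D_step hI (hN 2) i
  have hC : ∀ i m, stairZ I i 0 ≤ m → (TgtSlice.SS I i).ncard ≤ (m + 1).choose 2 :=
    fun i m => TgtSlice.SS_card_le hI hN i m
  have hT : ∑ i ∈ Finset.range r, (TgtSlice.SS I i).ncard ≤ (r + 2).choose 3 :=
    (TgtSlice.sum_SS_le hI.1 hN r).trans hd.le
  have htail := TgtSlice.tail_bound (fun i => (TgtSlice.SS I i).ncard) (fun i => stairZ I i 0) r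
    hA hB hC hT
  have hvan := slice_vanish r hI hd.le hN
  have hfinal : (∀ j, j < r → ∑ i ∈ Finset.Ico j r, (TgtSlice.SS I i).ncard =
      ∑ i ∈ Finset.Ico j r, (r - i + 1).choose 2) →
      I = (Ideal.span (Set.range (MvPolynomial.X : Fin 3 → MvPolynomial (Fin 3) k))) ^ r := by
    intro heq
    refine (TgtSlice.main54 r hI hd.le).2 (fun j hj => ?_)
    rw [Finset.sum_congr rfl (fun i _ => TgtSlice.finrank_slice hI.1 hN i)]
    exact heq j hj
  have G1 := sig2_bound hI.1 hΛ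
    (fun i j => Groth.Agent.Lib.Helper5.SStab.stairZ_le I hI i j)
    (fun i => (TgtSlice.SS I i).ncard) r (fun i => card_slice hΛ i) hvan htail
  haveI := swI_finite (I := I)
  have G2 := sig2_bound (swI_monomial hI.1) (swI_spec hΛ)
    (fun i j => by
      rw [stairZ_swI, stairZ_swI]
      exact Groth.Agent.Lib.Helper5.SStab.stairY_le I hI i j)
    (fun i => (TgtSlice.SS I i).ncard) r
    (fun i => (card_slice_sw Λ i).trans (card_slice hΛ i)) hvan htail
  have e := sig_sw hI.1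
  rw [← e] at G2
  have hP2 : I = (Ideal.span (Set.range (MvPolynomial.X : Fin 3 → MvPolynomial (Fin 3) k))) ^ r →
      Module.finrank k ↥(sigPiece I ({2} : Set (Fin 3))) = (r + 3).choose 4 := by
    intro h
    rw [h]
    exact (TgtSum.main42 k r 2).1
  have hP1 : I = (Ideal.span (Set.range (MvPolynomial.X : Fin 3 → MvPolynomial (Fin 3) k))) ^ r →
      Module.finrank k ↥(sigPiece I ({1} : Set (Fin 3))) = (r + 3).choose 4 := by
    intro h
    rw [h]
    exact (TgtSum.main42 k r 1).1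
  have c2 : ({2}ᶜ : Set (Fin 3)) = {0, 1} := by
    ext j
    fin_cases j <;> simp
  have c1 : ({1}ᶜ : Set (Fin 3)) = {0, 2} := by
    ext j
    fin_cases j <;> simp
  have m2 := main33 hI.1 (2 : Fin 3)
  have m1 := main33 hI.1 (1 : Fin 3)
  rw [c2, hd] at m2
  rw [c1, hd] at m1
  have pascal : (r + 3).choose 4 = (r + 2).choose 3 + (r + 2).choose 4 :=
    Nat.choose_succ_succ (r + 2) 3
  refine ⟨⟨G1.1, ⟨fun h => hfinal (G1.2 h), hP2⟩⟩, ⟨G2.1, ⟨fun h => hfinal (G2.2 h), hP1⟩⟩,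
    ⟨?_, ⟨fun h => hfinal (G1.2 ?_), fun h => ?_⟩⟩, ⟨?_, ⟨fun h => hfinal (G2.2 ?_), fun h => ?_⟩⟩⟩
  · have := G1.1
    omega
  · omega
  · have := hP2 h
    omega
  · have := G2.1
    omega
  · omega
  · have := hP1 h
    omega

end Main

end Groth.Agent.H4.HdBound
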