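import Mathlib

/-! A morphism which is, Zariski-locally on the source, a base change of sections is étale; if it is
moreover affine and locally of finite type, it is finite (helper4). -/

set_option autoImplicit false

universe u

open CategoryTheory Limits AlgebraicGeometry

namespace Groth.Agent.H4.HfA

theorem etale_of_sections {X T : Scheme.{u}} (q : X ⟶ T)
    (hK : ∀ x : X, ∃ W : X.Opens, x ∈ W ∧ ∃ σ : T ⟶ X, σ ≫ q = 𝟙 T ∧ W.ι ≫ q ≫ σ = W.ι) :
    Etale q := by
  choose W hxW σ hσ hW using hK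
  have hcov : TopologicalSpace.IsOpenCover W := by
    apply TopologicalSpace.IsOpenCover.mk
    rw [eq_top_iff]
    intro x _
    exact TopologicalSpace.Opens.mem_iSup.2 ⟨x, hxW x⟩
  rw [IsZariskiLocalAtSource.iff_of_openCover (P := @Etale) (X.openCoverOfIsOpenCover W hcov)]
  intro x
  change Etale ((W x).ι ≫ q)
  have h1 : LocallyOfFiniteType (σ x) := by
    have : LocallyOfFiniteType (σ x ≫ q) := by rw [hσ]; infer_instance
    exact locallyOfFiniteType_of_comp (σ x) q
  have h2 : FormallyUnramified (σ x) := by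
    have : FormallyUnramified (σ x ≫ q) := by rw [hσ]; infer_instance
    exact FormallyUnramified.of_comp (σ x) q
  have h3 : Etale (((W x).ι ≫ q) ≫ σ x) := by
    rw [Category.assoc, hW]; infer_instance
  exact Etale.of_comp ((W x).ι ≫ q) (σ x)

theorem universallyClosed_of_sections {X T : Scheme.{u}} (q : X ⟶ T) [QuasiCompact q]
    (hK : ∀ x : X, ∃ W : X.Opens, x ∈ W ∧ ∃ σ : T ⟶ X, σ ≫ q = 𝟙 T ∧ W.ι ≫ q ≫ σ = W.ι) :
    UniversallyClosed q := by
  apply UniversallyClosed.of_valuativeCriterion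
  intro Sq
  let x : X := Sq.i₁ (default : PrimeSpectrum Sq.K)
  obtain ⟨W, hxW, σ, hσ, hW⟩ := hK x
  have hrange : Set.range Sq.i₁.base ⊆ Set.range W.ι.base := by
    rw [Scheme.Opens.range_ι]
    rintro _ ⟨y, rfl⟩
    have : y = (default : PrimeSpectrum Sq.K) := Subsingleton.elim _ _
    rw [this]
    exact hxW
  let i₁' : Spec (.of Sq.K) ⟶ W.toScheme := IsOpenImmersion.lift W.ι Sq.i₁ hrange
  have hi₁' : i₁' ≫ W.ι = Sq.i₁ := IsOpenImmersion.lift_fac _ _ _
  refine CommSq.HasLift.mk' ⟨Sq.i₂ ≫ σ, ?_, ?_⟩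
  · rw [← Category.assoc, ← Sq.commSq.w, Category.assoc, ← hi₁', Category.assoc, hW]
  · rw [Category.assoc, hσ, Category.comp_id]

theorem isFinite_of_sections {X T : Scheme.{u}} (q : X ⟶ T) [IsAffineHom q] [LocallyOfFiniteType q]
    (hK : ∀ x : X, ∃ W : X.Opens, x ∈ W ∧ ∃ σ : T ⟶ X, σ ≫ q = 𝟙 T ∧ W.ι ≫ q ≫ σ = W.ι) :
    IsFinite q := by
  have := universallyClosed_of_sections q hK
  rw [IsFinite.iff_isIntegralHom_and_locallyOfFiniteType,
    IsIntegralHom.iff_universallyClosed_and_isAffineHom]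
  exact ⟨⟨inferInstance, inferInstance⟩, inferInstance⟩

end Groth.Agent.H4.HfA
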