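import Mathlib
import Groth.Prelude.Def_Red2
import Groth.Prelude.Def_AutFam
import Groth.Agent.Lib.Helper3.HomDiag.Rigid4
import Groth.Agent.Lib.Helper3.HomDiag.Main

set_option autoImplicit false

universe u

open CategoryTheory MonoidalCategory CartesianMonoidalCategory MonObj GrpObj AlgebraicGeometry Limits
open Groth.Agent.H4.GaGm Groth.Agent.H3.DSKit Groth.Agent.H3.HomDiag

namespace Groth.Agent.H4.HfB

section TR2

variable {S T X : Scheme.{u}}

theorem tr_eq_counit {S' Z' : Scheme.{u}} (f : S' ⟶ Z') (H : Over Z') {X' : Over S'}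
    (x : X' ⟶ Red.bc f H) :
    tr f H x = (Over.map f).map x ≫ (Over.mapPullbackAdj f).counit.app H := by
  unfold tr
  rw [Adjunction.homEquiv_counit]

theorem tr_comp2 (q : X ⟶ T) (t : T ⟶ S) (G : Over S) {Y : Over X}
    (ζ : Y ⟶ Red.bc (q ≫ t) G) :
    tr (q ≫ t) G ζ = (Over.mapComp q t).hom.app Y ≫
      tr t G (tr q (Red.bc t G) (ζ ≫ (Over.pullbackComp q t).hom.app G)) := by
  have hc := conjugateEquiv_counit (Over.mapPullbackAdj (q ≫ t))
    ((Over.mapPullbackAdj q).comp (Over.mapPullbackAdj t)) (Over.mapComp q t).symm.hom G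
  rw [Adjunction.comp_counit_app] at hc
  have hpc : (Over.pullbackComp q t).hom.app G = (conjugateEquiv (Over.mapPullbackAdj (q ≫ t))
    ((Over.mapPullbackAdj q).comp (Over.mapPullbackAdj t)) (Over.mapComp q t).symm.hom).app G := rfl
  have hnat := (Over.mapComp q t).inv.naturality ζ
  rw [tr_eq_counit, tr_eq_counit, tr_eq_counit, hpc]
  simp only [Functor.map_comp, Category.assoc]
  simp only [Functor.comp_map, Iso.symm_hom] at hc hnat ⊢
  rw [hc, reassoc_of% hnat, Iso.hom_inv_id_app_assoc]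

end TR2

section Fam

variable {S T : Scheme.{u}} (t : T ⟶ S) {G H : Over S} [GrpObj G] [GrpObj H]

/-- `G ×_S T` as the base change `G_T` viewed over `S`. -/
noncomputable def tensIso (G : Over S) : G ⊗ Over.mk t ≅ (Over.map t).obj (Red.bc t G) :=
  Over.isoMk (Iso.refl _) (by
    simp
    exact pullback.condition.symm)

/-- the family over `T` (as an `S`-scheme) attached to a morphism over `T`. -/
noncomputable def fam (w : Red.bc t G ⟶ Red.bc t H) : G ⊗ Over.mk t ⟶ H :=
  (tensIso t G).hom ≫ tr t H w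

omit [GrpObj G] in
theorem lift_tensIso {Y' : Over T} (ε : Y' ⟶ Red.bc t G) :
    lift (tr t G ε) (tautPt (Over.mk t) Y') ≫ (tensIso t G).hom = (Over.map t).map ε := by
  apply Over.OverMorphism.ext
  simp [tensIso, tr_left, tautPt]
  apply pullback.hom_ext
  · rw [pullback.lift_fst]
  · rw [pullback.lift_snd]
    exact (Over.w ε).symm

omit [GrpObj G] in
theorem lift_fam {Y' : Over T} (ε : Y' ⟶ Red.bc t G) (w : Red.bc t G ⟶ Red.bc t H) :
    lift (tr t G ε) (tautPt (Over.mk t) Y') ≫ fam t w = tr t H (ε ≫ w) := by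
  unfold fam
  rw [← Category.assoc, lift_tensIso, tr_precomp]

omit [GrpObj G] in
/-- every point of `G ⊗ T` comes from a `T`-point of `G_T`. -/
theorem lift_fam_eq {Yo : Over S} (y : Yo ⟶ Over.mk t) :
    ∃ (Y' : Over T) (κ : Yo ≅ (Over.map t).obj Y'), ∀ (g : Yo ⟶ G) (w : Red.bc t G ⟶ Red.bc t H),
      lift g y ≫ fam t w =
        κ.hom ≫ tr t H ((Over.mapPullbackAdj t).homEquiv Y' G (κ.inv ≫ g) ≫ w) := by
  let Y' : Over T := Over.mk y.left
  let κ : Yo ≅ (Over.map t).obj Y' := Over.isoMk (Iso.refl _) (by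
    simp [Y']
    exact Over.w y)
  refine ⟨Y', κ, fun g w => ?_⟩
  have h1 : tr t G ((Over.mapPullbackAdj t).homEquiv Y' G (κ.inv ≫ g)) = κ.inv ≫ g := by
    unfold tr
    simp
  have h2 : tautPt (Over.mk t) Y' = κ.inv ≫ y := by
    apply Over.OverMorphism.ext
    simp [tautPt, κ, Y']
  rw [← lift_fam, h1, h2, ← comp_lift, Category.assoc, Iso.hom_inv_id_assoc]

theorem isHomFamily_fam (w : Red.bc t G ⟶ Red.bc t H) [IsMonHom w] :
    AutFam.IsHomFamily G H (fam t w) := by
  intro Yo g₁ g₂ y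
  obtain ⟨Y', κ, h⟩ := lift_fam_eq t (G := G) (H := H) y
  rw [h, h, h, MonObj.comp_mul, homEquiv_mul, MonObj.mul_comp, tr_mul, MonObj.comp_mul]

end Fam

section UHom

variable {S X : Scheme.{u}} {G H : Over S} [GrpObj G] [GrpObj H]

/-- the universal homomorphism over the parameter scheme attached to a family. -/
noncomputable def uHom (x : X ⟶ S) (φ : G ⊗ Over.mk x ⟶ H) : Red.bc x G ⟶ Red.bc x H :=
  Rigid4.univHom (G := Over.mk x) ((β_ (Over.mk x) G).hom ≫ φ)

theorem tr_comp_uHom (x : X ⟶ S) (φ : G ⊗ Over.mk x ⟶ H) {Y : Over X} (ε : Y ⟶ Red.bc x G) :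
    tr x H (ε ≫ uHom x φ) = lift (tr x G ε) (tautPt (Over.mk x) Y) ≫ φ := by
  unfold uHom
  refine (Rigid4.tr_comp_univHom (G := Over.mk x) ((β_ (Over.mk x) G).hom ≫ φ) ε).trans ?_
  rw [lift_braiding_hom_assoc]
  rfl

theorem isMonHom_uHom (x : X ⟶ S) (φ : G ⊗ Over.mk x ⟶ H) (hφ : AutFam.IsHomFamily G H φ) :
    IsMonHom (uHom x φ) := by
  unfold uHom
  apply Rigid4.isMonHom_univHom
  intro T g h h'
  rw [lift_braiding_hom_assoc, lift_braiding_hom_assoc, lift_braiding_hom_assoc]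
  exact hφ T h h' g

end UHom

end Groth.Agent.H4.HfB
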