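import Mathlib
import Groth.Prelude.Def_Red2
import Groth.Prelude.Def_AutFam
import Groth.Prelude.Def_SGA3x
import Groth.Agent.H4.HfA
import Groth.Agent.H4.HfB
import Groth.Agent.Lib.Helper3.HomDiag.Rows

set_option autoImplicit false

universe u

open CategoryTheory MonoidalCategory CartesianMonoidalCategory MonObj GrpObj AlgebraicGeometry Limits
open Groth.Agent.H4.GaGm Groth.Agent.H3.DSKit Groth.Agent.H3.HomDiag Groth.Agent.H3.RigidAct
open Groth.Agent.H4.HfB

namespace Groth.Agent.H4.HfC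

section Local

variable {S T X : Scheme.{u}} {G H : Over S} [GrpObj G] [GrpObj H] (t : T ⟶ S)
  {M N : Type} [AddCommGroup M] [AddCommGroup N]
  (a : Grp.mk (Red.bc t G) ≅ Grp.mk (Red.DS T M)) (b : Grp.mk (Red.bc t H) ≅ Grp.mk (Red.DS T N))

/-- the homomorphism `G_T → H_T` attached to `ψ : N → M` via the trivialisations. -/
noncomputable def wOf (ψ : N →+ M) : Red.bc t G ⟶ Red.bc t H :=
  a.hom.hom.hom ≫ Red.DSmap T ψ ≫ b.inv.hom.hom

instance isMonHom_wOf (ψ : N →+ M) : IsMonHom (wOf t a b ψ) := by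
  unfold wOf
  have h1 : IsMonHom a.hom.hom.hom := inferInstanceAs (IsMonHom a.hom.hom.hom)
  have h2 : IsMonHom b.inv.hom.hom := inferInstanceAs (IsMonHom b.inv.hom.hom)
  infer_instance

/-- `j` as a morphism of `S`-schemes -/
noncomputable def jo {U : Scheme.{u}} (j : U ⟶ X) (x : X ⟶ S) : Over.mk (j ≫ x) ⟶ Over.mk x :=
  Over.homMk j rfl

/-- `q` as a morphism of `S`-schemes -/
noncomputable def qo (q : X ⟶ T) : Over.mk (q ≫ t) ⟶ Over.mk t := Over.homMk q rfl

include a b in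
theorem key_eq (q : X ⟶ T) (u : Red.bc (q ≫ t) G ⟶ Red.bc (q ≫ t) H) (ψ : N →+ M)
    {Y : Over X} (ε : Y ⟶ Red.bc (q ≫ t) G)
    (key : ε ≫ u ≫ eh (trivBC q t b) = ε ≫ eh (trivBC q t a) ≫ Red.DSmap X ψ) :
    ε ≫ u ≫ (Over.pullbackComp q t).hom.app H =
      ε ≫ (Over.pullbackComp q t).hom.app G ≫ (Over.pullback q).map (wOf t a b ψ) := by
  have k1 : (ε ≫ u ≫ (Over.pullbackComp q t).hom.app H) ≫
      ((Over.pullback q).map b.hom.hom.hom ≫ (dsBC q N).hom.hom.hom) =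
      (ε ≫ (Over.pullbackComp q t).hom.app G ≫
        (Over.pullback q).map (a.hom.hom.hom ≫ Red.DSmap T ψ)) ≫ (dsBC q N).hom.hom.hom := by
    have e1 : eh (trivBC q t b) = (Over.pullbackComp q t).hom.app H ≫
        (Over.pullback q).map b.hom.hom.hom ≫ (dsBC q N).hom.hom.hom := by
      change (trivBC q t b).hom.hom.hom = _
      rw [trivBC_hom, bcComp_hom]
    have e2 : eh (trivBC q t a) = (Over.pullbackComp q t).hom.app G ≫
        (Over.pullback q).map a.hom.hom.hom ≫ (dsBC q M).hom.hom.hom := by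
      change (trivBC q t a).hom.hom.hom = _
      rw [trivBC_hom, bcComp_hom]
    rw [e1, e2] at key
    simp only [Category.assoc, Functor.map_comp]
    rw [dsBC_natural]
    simpa only [Category.assoc] using key
  have iB : IsIso b.hom.hom.hom := ⟨b.inv.hom.hom, grp_hom_inv b, grp_inv_hom b⟩
  have iD : IsIso (dsBC q N).hom.hom.hom :=
    ⟨(dsBC q N).inv.hom.hom, grp_hom_inv (dsBC q N), grp_inv_hom (dsBC q N)⟩
  rw [← cancel_mono ((Over.pullback q).map b.hom.hom.hom ≫ (dsBC q N).hom.hom.hom), k1]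
  have hb : (Over.pullback q).map b.inv.hom.hom ≫ (Over.pullback q).map b.hom.hom.hom = 𝟙 _ := by
    rw [← Functor.map_comp, grp_inv_hom, CategoryTheory.Functor.map_id]
  unfold wOf
  rw [Functor.map_comp, Functor.map_comp, Functor.map_comp]
  simp only [Category.assoc]
  rw [reassoc_of% hb]

include a b in
theorem local_form (hN : AddGroup.FG N) (q : X ⟶ T) (φ : G ⊗ Over.mk (q ≫ t) ⟶ H)
    (hφ : AutFam.IsHomFamily G H φ) (x : X) :
    ∃ (U : Scheme.{u}) (j : U ⟶ X), IsOpenImmersion j ∧ x ∈ Set.range j.base ∧ ∃ ψ : N →+ M,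
      (G ◁ jo j (q ≫ t)) ≫ φ = (G ◁ (jo j (q ≫ t) ≫ qo t q)) ≫ fam t (wOf t a b ψ) := by
  obtain ⟨_, ⟨V, hV, rfl⟩, hxV, -⟩ := X.isBasis_affineOpens.exists_subset_of_mem_open
    (Set.mem_univ x) isOpen_univ
  let R : CommRingCat.{u} := Γ(X, V)
  let s₀ : Spec R ⟶ X := hV.fromSpec
  obtain ⟨p, hp⟩ : ∃ p : PrimeSpectrum R, s₀ p = x := by
    have : x ∈ Set.range s₀.base := by
      rw [hV.range_fromSpec]
      exact hxV
    exact this
  have hmon : IsMonHom (uHom (q ≫ t) φ) := isMonHom_uHom (q ≫ t) φ hφ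
  obtain ⟨e, ψ, hep, hid, hcore⟩ :=
    core (trivBC q t a) (trivBC q t b) (uHom (q ≫ t) φ) hN s₀ p
  let j : Spec (CommRingCat.of (Localization.Away e)) ⟶ X :=
    Spec.map (CommRingCat.ofHom (algebraMap R (Localization.Away e))) ≫ s₀
  refine ⟨_, j, inferInstance, ?_, ψ, ?_⟩
  · have hpe : p ∈ Set.range (Spec.map (CommRingCat.ofHom
        (algebraMap R (Localization.Away e)))).base := by
      have h1 := PrimeSpectrum.localization_away_comap_range (Localization.Away e) e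
      have h2 : p ∈ (PrimeSpectrum.basicOpen e : Set (PrimeSpectrum R)) := hep
      rw [← h1] at h2
      exact h2
    obtain ⟨q', hq'⟩ := hpe
    exact ⟨q', by rw [Scheme.Hom.comp_apply, hq', hp]⟩
  · let Uo : Over S := Over.mk (j ≫ q ≫ t)
    let Y : Over X := Over.mk ((snd G Uo).left ≫ j)
    let κ : (Over.map (q ≫ t)).obj Y ≅ G ⊗ Uo := Over.isoMk (Iso.refl _) (by
      simp [Y, Uo]
      exact pullback.condition)
    let ε : Y ⟶ Red.bc (q ≫ t) G :=
      (Over.mapPullbackAdj (q ≫ t)).homEquiv Y G (κ.hom ≫ fst G Uo)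
    have hε : tr (q ≫ t) G ε = κ.hom ≫ fst G Uo := by
      unfold tr
      simp [ε]
    have htaut : tautPt (Over.mk (q ≫ t)) Y = κ.hom ≫ snd G Uo ≫ jo j (q ≫ t) := by
      apply Over.OverMorphism.ext
      simp [tautPt, κ, Y, jo]
    have hI : tr (q ≫ t) H (ε ≫ uHom (q ≫ t) φ) = κ.hom ≫ (G ◁ jo j (q ≫ t)) ≫ φ := by
      have hw0 : lift (fst G Uo) (snd G Uo ≫ jo j (q ≫ t)) = G ◁ jo j (q ≫ t) := by
        rw [← lift_whiskerLeft, lift_fst_snd, Category.id_comp]
      rw [tr_comp_uHom, hε, htaut, ← comp_lift, Category.assoc, hw0]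
    have key := eq_of_factor (trivBC q t a) (trivBC q t b) (uHom (q ≫ t) φ) s₀ e ψ hid hcore
      (Y := Y) (snd G Uo).left rfl ε
    have hstar := key_eq t a b q (uHom (q ≫ t) φ) ψ ε key
    have hII : tr (q ≫ t) H (ε ≫ uHom (q ≫ t) φ) = (Over.mapComp q t).hom.app Y ≫
        tr t H (tr q (Red.bc t G) (ε ≫ (Over.pullbackComp q t).hom.app G) ≫ wOf t a b ψ) := by
      rw [tr_comp2, Category.assoc, hstar, ← Category.assoc ε, tr_comp_map]
    have hG2 := tr_comp2 q t G ε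
    rw [hε] at hG2
    have h3 := lift_fam t (tr q (Red.bc t G) (ε ≫ (Over.pullbackComp q t).hom.app G))
      (wOf t a b ψ)
    have hG3 : tr t G (tr q (Red.bc t G) (ε ≫ (Over.pullbackComp q t).hom.app G)) =
        (Over.mapComp q t).inv.app Y ≫ κ.hom ≫ fst G Uo := by
      rw [hG2, Iso.inv_hom_id_app_assoc]
    have htaut' : tautPt (Over.mk t) ((Over.map q).obj Y) =
        (Over.mapComp q t).inv.app Y ≫ κ.hom ≫ snd G Uo ≫ jo j (q ≫ t) ≫ qo t q := by
      apply Over.OverMorphism.ext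
      simp [tautPt, κ, Y, jo, qo]
    rw [hG3, htaut', ← comp_lift, ← comp_lift] at h3
    have hw : lift (fst G Uo) (snd G Uo ≫ jo j (q ≫ t) ≫ qo t q) =
        G ◁ (jo j (q ≫ t) ≫ qo t q) := by
      rw [← lift_whiskerLeft, lift_fst_snd, Category.id_comp]
    rw [hw] at h3
    rw [← cancel_epi κ.hom, ← hI, hII, ← h3]
    simp only [Category.assoc, Iso.hom_inv_id_app_assoc]

end Local

section Main

variable {S T : Scheme.{u}} {G H : Over S} [GrpObj G] [GrpObj H] (t : T ⟶ S)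
  {M N : Type} [AddCommGroup M] [AddCommGroup N]
  (a : Grp.mk (Red.bc t G) ≅ Grp.mk (Red.DS T M)) (b : Grp.mk (Red.bc t H) ≅ Grp.mk (Red.DS T N))

theorem isHomFamily_whisker {T₁ T₂ : Over S} (c : T₁ ⟶ T₂) (φ : G ⊗ T₂ ⟶ H)
    (hφ : AutFam.IsHomFamily G H φ) : AutFam.IsHomFamily G H ((G ◁ c) ≫ φ) := by
  intro Y g₁ g₂ y
  rw [lift_whiskerLeft_assoc, lift_whiskerLeft_assoc, lift_whiskerLeft_assoc]
  exact hφ Y g₁ g₂ (y ≫ c)

include a b in
theorem sections_of_rep (hN : AddGroup.FG N) (A : Over S) (υ : G ⊗ A ⟶ H)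
    (hrep : AutFam.RepresentsHom G H A υ) (x : (pullback A.hom t : Scheme.{u})) :
    ∃ W : (pullback A.hom t).Opens, x ∈ W ∧ ∃ σ : T ⟶ pullback A.hom t,
      σ ≫ pullback.snd A.hom t = 𝟙 T ∧ W.ι ≫ pullback.snd A.hom t ≫ σ = W.ι := by
  let q : pullback A.hom t ⟶ T := pullback.snd A.hom t
  let pA : pullback A.hom t ⟶ A.left := pullback.fst A.hom t
  have hcond : pA ≫ A.hom = q ≫ t := pullback.condition
  let pA' : Over.mk (q ≫ t) ⟶ A := Over.homMk pA hcond
  let φX : G ⊗ Over.mk (q ≫ t) ⟶ H := (G ◁ pA') ≫ υ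
  have hφX : AutFam.IsHomFamily G H φX := isHomFamily_whisker pA' υ hrep.1
  obtain ⟨U, j, hj, hxj, ψ, hψ⟩ := local_form t a b hN q φX hφX x
  obtain ⟨s, hs, -⟩ := hrep.2 (Over.mk t) (fam t (wOf t a b ψ)) (isHomFamily_fam t _)
  have hsw : s.left ≫ A.hom = 𝟙 T ≫ t := by
    rw [Category.id_comp]
    exact Over.w s
  let σ : T ⟶ pullback A.hom t := pullback.lift s.left (𝟙 T) hsw
  have hσq : σ ≫ q = 𝟙 T := pullback.lift_snd _ _ _
  have hσA : σ ≫ pA = s.left := pullback.lift_fst _ _ _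
  have huniq : jo j (q ≫ t) ≫ pA' = jo j (q ≫ t) ≫ qo t q ≫ s := by
    refine (hrep.2 (Over.mk (j ≫ q ≫ t)) ((G ◁ jo j (q ≫ t)) ≫ φX)
      (isHomFamily_whisker _ _ hφX)).unique ?_ ?_
    · rw [MonoidalCategory.whiskerLeft_comp, Category.assoc]
    · rw [hψ, ← Category.assoc (jo j (q ≫ t)), MonoidalCategory.whiskerLeft_comp, Category.assoc, hs]
  have hleft : j ≫ pA = j ≫ q ≫ s.left := congrArg (fun f => f.left) huniq
  refine ⟨j.opensRange, hxj, σ, hσq, ?_⟩
  rw [← Scheme.Hom.isoOpensRange_inv_comp j]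
  simp only [Category.assoc]
  congr 1
  apply pullback.hom_ext
  · simp only [Category.assoc]
    change j ≫ q ≫ σ ≫ pA = j ≫ pA
    rw [hσA]
    exact hleft.symm
  · simp only [Category.assoc]
    change j ≫ q ≫ σ ≫ q = j ≫ q
    rw [hσq, Category.comp_id]

theorem finite_etale_of_rep {S : Scheme.{u}} (G H : Over S) [GrpObj G] [GrpObj H]
    (hG : SGA3x.IsMultTypeFT G) (hH : SGA3x.IsMultTypeFT H)
    (A : Over S) (υ : G ⊗ A ⟶ H) (hrep : AutFam.RepresentsHom G H A υ)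
    [IsAffineHom A.hom] [LocallyOfFiniteType A.hom] : IsFinite A.hom ∧ Etale A.hom := by
  have h𝒯 : (trivSieve (fun _ _ => True) G ⊓ trivSieve (fun M _ => AddGroup.FG M) H) ∈
      Scheme.fpqcTopology S :=
    GrothendieckTopology.intersection_covering _ (trivSieve_of_isMultTypeFT hG)
      (trivSieve_fg_of_isMultTypeFT hH)
  let v : A ⟶ Over.mk (𝟙 S) := Over.homMk A.hom
  have key : ∀ (P : MorphismProperty Scheme.{u}) [P.RespectsIso] {T : Scheme.{u}} (t : T ⟶ S),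
      P (pullback.snd A.hom t) → P ((Over.pullback t).map v).left := by
    intro P _ T t h
    have htop : ((Over.pullback t).map v).left ≫ pullback.snd (𝟙 S) t = pullback.snd A.hom t :=
      pullback.lift_snd _ _ _
    rw [← P.cancel_right_of_respectsIso _ (pullback.snd (𝟙 S) t), htop]
    exact h
  have hloc : ∀ {T : Scheme.{u}} (t : T ⟶ S),
      (trivSieve (fun _ _ => True) G ⊓ trivSieve (fun M _ => AddGroup.FG M) H) t →
      ∀ x : (pullback A.hom t : Scheme.{u}), ∃ W : (pullback A.hom t).Opens, x ∈ W ∧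
        ∃ σ : T ⟶ pullback A.hom t,
          σ ≫ pullback.snd A.hom t = 𝟙 T ∧ W.ι ≫ pullback.snd A.hom t ≫ σ = W.ι := by
    rintro T t ⟨⟨M, _, -, ⟨a⟩⟩, ⟨N, _, hN, ⟨b⟩⟩⟩ x
    exact sections_of_rep t a b hN A υ hrep x
  constructor
  · refine Groth.Agent.H3.HomDiag.prop_of_sieve @IsFinite h𝒯 v (fun t ht => ?_)
    have h1 : IsAffineHom (pullback.snd A.hom t) :=
      MorphismProperty.pullback_snd (P := @IsAffineHom) _ _ inferInstance
    have h2 : LocallyOfFiniteType (pullback.snd A.hom t) :=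
      MorphismProperty.pullback_snd (P := @LocallyOfFiniteType) _ _ inferInstance
    exact key @IsFinite t (Groth.Agent.H4.HfA.isFinite_of_sections _ (hloc t ht))
  · exact Groth.Agent.H3.HomDiag.prop_of_sieve @Etale h𝒯 v (fun t ht =>
      key @Etale t (Groth.Agent.H4.HfA.etale_of_sections _ (hloc t ht)))

end Main

end Groth.Agent.H4.HfC
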