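import Mathlib
import Groth.Agent.H4.HomA2

/-! helper4: finite type version of the universal algebra representing
`C ↦ Hom_A(B, C ⊗[A] E)` for `E` finite projective. -/

set_option autoImplicit false

universe u

open TensorProduct MvPolynomial

noncomputable section

namespace Groth.Agent.H4.HgA

open Groth.Agent.H4.HomA2

section Dual

variable {A : Type u} [CommRing A] {E : Type u} [CommRing E] [Algebra A E]
  {ι : Type} [Fintype ι] [DecidableEq ι] (e : ι → E) (lam : ι → (E →ₗ[A] A))
  {B : Type u} [CommRing B] [Algebra A B] (hel : ∀ x : E, ∑ j, lam j x • e j = x)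

include hel in
/-- finite type of the representing algebra -/
theorem exists_univ_ft_dual [Algebra.FiniteType A B] :
    ∃ (U : Type u) (_ : CommRing U) (_ : Algebra A U) (Φ : B →ₐ[A] U ⊗[A] E),
      Algebra.FiniteType A U ∧
      ∀ (C : Type u) [CommRing C] [Algebra A C] (β : B →ₐ[A] C ⊗[A] E),
        ∃! ψ : U →ₐ[A] C, (Algebra.TensorProduct.map ψ (AlgHom.id A E)).comp Φ = β := by
  obtain ⟨I, _, π, hπ⟩ := Algebra.FiniteType.iff_quotient_mvPolynomial'.mp
    (inferInstance : Algebra.FiniteType A B)
  obtain ⟨Φ, hΦ⟩ := univ_of_presentation e lam hel π hπ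
    (RingHom.ker π.toRingHom : Set (MvPolynomial I A)) (Ideal.span_eq _).symm
  refine ⟨_, _, _, Φ, ?_, hΦ⟩
  exact Algebra.FiniteType.of_surjective (Ideal.Quotient.mkₐ A _)
    (Ideal.Quotient.mkₐ_surjective A _)

end Dual

section Final

variable {A : Type u} [CommRing A] {E : Type u} [CommRing E] [Algebra A E]
  [Module.Projective A E] [Module.Finite A E] {B : Type u} [CommRing B] [Algebra A B]

theorem exists_univ_ft [Algebra.FiniteType A B] :
    ∃ (U : Type u) (_ : CommRing U) (_ : Algebra A U) (Φ : B →ₐ[A] U ⊗[A] E),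
      Algebra.FiniteType A U ∧
      ∀ (C : Type u) [CommRing C] [Algebra A C] (β : B →ₐ[A] C ⊗[A] E),
        ∃! ψ : U →ₐ[A] C, (Algebra.TensorProduct.map ψ (AlgHom.id A E)).comp Φ = β := by
  obtain ⟨n, e, lam, hel⟩ := exists_dual (A := A) (E := E)
  exact exists_univ_ft_dual e lam hel

end Final

end Groth.Agent.H4.HgA
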