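import Mathlib
import Groth.Prelude.Def_Flatn
import Groth.Prelude.Def_Mor2
import Groth.Agent.H4.HomF
import Groth.Agent.H4.HgA

/-! helper4: the scheme of morphisms `Mor_S(Z, X)` for `Z → S` finite locally free and `X → S`
affine, with transfer of finite type and finite presentation; `⊗`-form. -/

set_option autoImplicit false

universe u

open CategoryTheory CategoryTheory.Limits AlgebraicGeometry Opposite TensorProduct
open MonoidalCategory CartesianMonoidalCategory

namespace Groth.Agent.H4.HgB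

open Groth.Agent.H4.HomB Groth.Agent.H4.HomC Groth.Agent.H4.HomD Groth.Agent.H4.HomE
open Groth.Agent.H4.HomF

theorem main_affine_proj' {Z X S : Scheme.{u}} [IsAffine Z] [IsAffine X] [IsAffine S] (g : Z ⟶ S)
    (f : X ⟶ S)
    (hproj : letI := (g.appTop).hom.toAlgebra
      Module.Finite Γ(S, ⊤) Γ(Z, ⊤) ∧ Module.Projective Γ(S, ⊤) Γ(Z, ⊤)) :
    ∃ W : Over S, IsAffine W.left ∧
      (LocallyOfFiniteType f → LocallyOfFiniteType W.hom) ∧
      (LocallyOfFinitePresentation f → LocallyOfFinitePresentation W.hom) ∧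
      Nonempty ((Flatn.morS g f).RepresentableBy W) := by
  letI := (g.appTop).hom.toAlgebra
  letI := (f.appTop).hom.toAlgebra
  obtain ⟨hfin, hfr⟩ := hproj
  by_cases hfp : LocallyOfFinitePresentation f
  · have hfpB : Algebra.FinitePresentation Γ(S, ⊤) Γ(X, ⊤) := by
      have h1 : f.appTop.hom.FinitePresentation :=
        (HasRingHomProperty.iff_of_isAffine (P := @LocallyOfFinitePresentation)).1 hfp
      exact h1
    obtain ⟨U, _, _, Φ, hfpU, hΦ⟩ := Groth.Agent.H4.HomA2.exists_univ_fp (A := Γ(S, ⊤))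
      (E := Γ(Z, ⊤)) (B := Γ(X, ⊤))
    have key : LocallyOfFinitePresentation (WW (S := S) U).hom := by
      change LocallyOfFinitePresentation (Spec.map (uS (S := S) U) ≫ S.isoSpec.inv)
      have h2 : LocallyOfFinitePresentation (Spec.map (uS (S := S) U)) := by
        rw [HasRingHomProperty.Spec_iff (P := @LocallyOfFinitePresentation)]
        exact (RingHom.finitePresentation_algebraMap).2 hfpU
      infer_instance
    refine ⟨WW (S := S) U, inferInstanceAs (IsAffine (Spec _)), fun _ => ?_, fun _ => key,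
      rep_of_univ g f rfl rfl Φ hΦ⟩
    infer_instance
  · by_cases hft : LocallyOfFiniteType f
    · have hftB : Algebra.FiniteType Γ(S, ⊤) Γ(X, ⊤) := by
        have h1 : f.appTop.hom.FiniteType :=
          (HasRingHomProperty.iff_of_isAffine (P := @LocallyOfFiniteType)).1 hft
        exact h1
      obtain ⟨U, _, _, Φ, hftU, hΦ⟩ := Groth.Agent.H4.HgA.exists_univ_ft (A := Γ(S, ⊤))
        (E := Γ(Z, ⊤)) (B := Γ(X, ⊤))
      refine ⟨WW (S := S) U, inferInstanceAs (IsAffine (Spec _)), fun _ => ?_,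
        fun h => absurd h hfp, rep_of_univ g f rfl rfl Φ hΦ⟩
      change LocallyOfFiniteType (Spec.map (uS (S := S) U) ≫ S.isoSpec.inv)
      have h2 : LocallyOfFiniteType (Spec.map (uS (S := S) U)) := by
        rw [HasRingHomProperty.Spec_iff (P := @LocallyOfFiniteType)]
        exact (RingHom.finiteType_algebraMap).2 hftU
      infer_instance
    · obtain ⟨U, _, _, Φ, hΦ⟩ := Groth.Agent.H4.HomA2.exists_univ (A := Γ(S, ⊤))
        (E := Γ(Z, ⊤)) (B := Γ(X, ⊤))
      exact ⟨WW (S := S) U, inferInstanceAs (IsAffine (Spec _)), fun h => absurd h hft,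
        fun h => absurd h hfp, rep_of_univ g f rfl rfl Φ hΦ⟩

theorem main_global' {Z X S : Scheme.{u}} (g : Z ⟶ S) (f : X ⟶ S) (hg : Mor2.IsFinLocFree g)
    [IsAffineHom f] :
    ∃ W : Over S, IsAffineHom W.hom ∧
      (LocallyOfFiniteType f → LocallyOfFiniteType W.hom) ∧
      (LocallyOfFinitePresentation f → LocallyOfFinitePresentation W.hom) ∧
      Nonempty ((Flatn.morS g f).RepresentableBy W) := by
  obtain ⟨hfin, hflat, hlfp⟩ := hg
  let 𝒰 := S.affineCover
  have hf : Presieve.ofArrows 𝒰.X 𝒰.f ∈ Scheme.fpqcPrecoverage S :=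
    Scheme.zariskiPrecoverage_le_fpqcPrecoverage _ 𝒰.mem₀
  -- the local representing objects
  have hloc : ∀ i, ∃ W : Over (𝒰.X i), IsAffine W.left ∧
      (LocallyOfFiniteType f → LocallyOfFiniteType W.hom) ∧
      (LocallyOfFinitePresentation f → LocallyOfFinitePresentation W.hom) ∧
      Nonempty ((Flatn.morS (pullback.snd g (𝒰.f i)) (pullback.snd f (𝒰.f i))).RepresentableBy W) := by
    intro i
    obtain ⟨W, h1, h2, h2', h3⟩ := main_affine_proj' (pullback.snd g (𝒰.f i))
      (pullback.snd f (𝒰.f i)) (finproj_of_finLocFree (pullback.snd g (𝒰.f i)))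
    exact ⟨W, h1, fun h => h2 inferInstance, fun h => h2' inferInstance, h3⟩
  choose W hWaff hWft hWfp hWrep using hloc
  have R : ∀ i, ((Over.map (𝒰.f i)).op ⋙ Flatn.morS g f).RepresentableBy (W i) := fun i =>
    repBC g f (𝒰.f i) (pullback.snd g (𝒰.f i)) (pullback.fst g (𝒰.f i))
      (IsPullback.of_hasPullback g (𝒰.f i)) (pullback.snd f (𝒰.f i)) (pullback.fst f (𝒰.f i))
      (IsPullback.of_hasPullback f (𝒰.f i)) (W i) (hWrep i).some
  have hW : ∀ i, IsAffineHom (W i).hom := fun i => by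
    haveI := hWaff i
    infer_instance
  obtain ⟨W₀, hiso, hrep⟩ := exists_rep_of_local (Flatn.morS g f) 𝒰.f W R hf hW
    (morS_sep g f (good 𝒰.f) (good_cov 𝒰.f hf))
    (morS_glue g f (good 𝒰.f) (good_down 𝒰.f) (good_cov 𝒰.f hf))
  have key : ∀ (P : MorphismProperty Scheme.{u}) [IsZariskiLocalAtTarget P],
      (∀ i, P (W i).hom) → P W₀.hom := by
    intro P _ hP
    apply IsZariskiLocalAtTarget.of_openCover (P := P) 𝒰
    intro i
    obtain ⟨e, he⟩ := hiso i
    change P (pullback.snd W₀.hom (𝒰.f i))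
    rw [← pullbackSymmetry_hom_comp_fst, ← he, P.cancel_left_of_respectsIso,
      P.cancel_left_of_respectsIso]
    exact hP i
  exact ⟨W₀, key @IsAffineHom hW, fun h => key @LocallyOfFiniteType (fun i => hWft i h),
    fun h => key @LocallyOfFinitePresentation (fun i => hWfp i h), hrep⟩

/-- `Mor_S(X, Y)` in `⊗`-form. -/
theorem mor_rep {S : Scheme.{u}} (X Y : Over S) (hX : Mor2.IsFinLocFree X.hom)
    [IsAffineHom Y.hom] :
    ∃ (M : Over S) (ev : X ⊗ M ⟶ Y), IsAffineHom M.hom ∧
      (LocallyOfFiniteType Y.hom → LocallyOfFiniteType M.hom) ∧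
      (LocallyOfFinitePresentation Y.hom → LocallyOfFinitePresentation M.hom) ∧
      ∀ (T : Over S) (φ : X ⊗ T ⟶ Y), ∃! v : T ⟶ M, (X ◁ v) ≫ ev = φ := by
  classical
  obtain ⟨M, hMa, hMft, hMfp, ⟨R⟩⟩ := main_global' X.hom Y.hom hX
  let τ : ∀ T : Over S, X ⊗ T ≅ (Over.map X.hom).obj ((Over.pullback X.hom).obj T) := fun T =>
    Over.isoMk (Limits.pullbackSymmetry X.hom T.hom) (by simp)
  have hτ : ∀ {T T' : Over S} (v : T ⟶ T'), (X ◁ v) ≫ (τ T').hom =
      (τ T).hom ≫ (Over.map X.hom).map ((Over.pullback X.hom).map v) := by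
    intro T T' v
    ext
    apply Limits.pullback.hom_ext
    · simp [τ]
      erw [Limits.pullback.lift_fst]
      simp
    · simp [τ]
      erw [Limits.pullback.lift_snd]
      simp
  let u : (Over.map X.hom).obj ((Over.pullback X.hom).obj M) ⟶ Y := R.homEquiv (𝟙 M)
  have hu : ∀ {T : Over S} (v : T ⟶ M), (R.homEquiv v : (Over.map X.hom).obj ((Over.pullback X.hom).obj T) ⟶ Y) =
      (Over.map X.hom).map ((Over.pullback X.hom).map v) ≫ u := by
    intro T v
    have := R.homEquiv_comp v (𝟙 M)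
    rw [Category.comp_id] at this
    exact this
  refine ⟨M, (τ M).hom ≫ u, hMa, hMft, hMfp, fun T φ => ?_⟩
  refine ⟨R.homEquiv.symm ((τ T).inv ≫ φ), ?_, ?_⟩
  · show (X ◁ _) ≫ (τ M).hom ≫ u = φ
    rw [← Category.assoc, hτ, Category.assoc, ← hu, Equiv.apply_symm_apply, Iso.hom_inv_id_assoc]
  · intro v' hv'
    apply R.homEquiv.injective
    rw [Equiv.apply_symm_apply]
    refine (hu v').trans ?_
    rw [← hv', ← Category.assoc (X ◁ v'), hτ, Category.assoc, Iso.inv_hom_id_assoc]

end Groth.Agent.H4.HgB
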