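import Mathlib
import Groth.Prelude.Def_AutFam
import Groth.Agent.Lib.Helper9.Misc.LFP1

/-! helper4: `Hom_gr(H, G)` as the equalizer of two morphisms between `Mor`-schemes. -/

set_option autoImplicit false

universe u

open CategoryTheory CategoryTheory.Limits AlgebraicGeometry
open MonoidalCategory CartesianMonoidalCategory MonObj GrpObj

namespace Groth.Agent.H4.HgC

variable {S : Scheme.{u}} (H G : Over S) [GrpObj H] [GrpObj G]

/-- `(h₁, h₂, m) ↦ φ(h₁ h₂, m)` -/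
noncomputable def f1 {M : Over S} (φ : H ⊗ M ⟶ G) : (H ⊗ H) ⊗ M ⟶ G := (μ[H] ▷ M) ≫ φ

/-- `(h₁, h₂, m) ↦ φ(h₁, m) φ(h₂, m)` -/
noncomputable def f2 {M : Over S} (φ : H ⊗ M ⟶ G) : (H ⊗ H) ⊗ M ⟶ G :=
  (lift (fst (H ⊗ H) M ≫ fst H H) (snd (H ⊗ H) M) ≫ φ) *
    (lift (fst (H ⊗ H) M ≫ snd H H) (snd (H ⊗ H) M) ≫ φ)

lemma pt_f1 {M X : Over S} (φ : H ⊗ M ⟶ G) (g₁ g₂ : X ⟶ H) (m : X ⟶ M) :
    lift (lift g₁ g₂) m ≫ f1 H G φ = lift (g₁ * g₂) m ≫ φ := by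
  unfold f1
  rw [← Category.assoc, lift_whiskerRight, Hom.mul_def]

lemma pt_f2 {M X : Over S} (φ : H ⊗ M ⟶ G) (g₁ g₂ : X ⟶ H) (m : X ⟶ M) :
    lift (lift g₁ g₂) m ≫ f2 H G φ = (lift g₁ m ≫ φ) * (lift g₂ m ≫ φ) := by
  unfold f2
  simp only [MonObj.comp_mul, comp_lift_assoc, lift_fst_assoc, lift_snd, lift_fst]

lemma lift_univ (M : Over S) :
    lift (lift (fst (H ⊗ H) M ≫ fst H H) (fst (H ⊗ H) M ≫ snd H H)) (snd (H ⊗ H) M) =
      𝟙 ((H ⊗ H) ⊗ M) := by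
  rw [← comp_lift, lift_fst_snd, Category.comp_id, lift_fst_snd]

theorem isHomFamily_iff {M : Over S} (φ : H ⊗ M ⟶ G) :
    AutFam.IsHomFamily H G φ ↔ f1 H G φ = f2 H G φ := by
  constructor
  · intro h
    have h1 := h ((H ⊗ H) ⊗ M) (fst (H ⊗ H) M ≫ fst H H) (fst (H ⊗ H) M ≫ snd H H)
      (snd (H ⊗ H) M)
    rw [← pt_f1, ← pt_f2, lift_univ, Category.id_comp, Category.id_comp] at h1
    exact h1
  · intro h X g₁ g₂ t
    rw [← pt_f1, ← pt_f2, h]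

lemma f1_natural {T M : Over S} (v : T ⟶ M) (φ : H ⊗ M ⟶ G) :
    ((H ⊗ H) ◁ v) ≫ f1 H G φ = f1 H G ((H ◁ v) ≫ φ) := by
  unfold f1
  rw [← Category.assoc, whisker_exchange, Category.assoc]

lemma f2_natural {T M : Over S} (v : T ⟶ M) (φ : H ⊗ M ⟶ G) :
    ((H ⊗ H) ◁ v) ≫ f2 H G φ = f2 H G ((H ◁ v) ≫ φ) := by
  unfold f2
  simp only [MonObj.comp_mul, comp_lift_assoc, whiskerLeft_fst_assoc, whiskerLeft_snd,
    lift_whiskerLeft_assoc]

theorem homGr_rep {M N : Over S} (ev : H ⊗ M ⟶ G)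
    (hM : ∀ (T : Over S) (φ : H ⊗ T ⟶ G), ∃! v : T ⟶ M, (H ◁ v) ≫ ev = φ)
    (ev₂ : (H ⊗ H) ⊗ N ⟶ G)
    (hN : ∀ (T : Over S) (φ : (H ⊗ H) ⊗ T ⟶ G), ∃! v : T ⟶ N, ((H ⊗ H) ◁ v) ≫ ev₂ = φ) :
    ∃ (a b : M ⟶ N),
      AutFam.RepresentsHom H G (equalizer a b) ((H ◁ equalizer.ι a b) ≫ ev) := by
  obtain ⟨a, ha, -⟩ := hN M (f1 H G ev)
  obtain ⟨b, hb, -⟩ := hN M (f2 H G ev)
  refine ⟨a, b, ?_, ?_⟩
  · rw [isHomFamily_iff, ← f1_natural, ← f2_natural, ← ha, ← hb,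
      ← MonoidalCategory.whiskerLeft_comp_assoc, ← MonoidalCategory.whiskerLeft_comp_assoc,
      equalizer.condition]
  · intro T φ hφ
    obtain ⟨v, hv, hv'⟩ := hM T φ
    have hvab : v ≫ a = v ≫ b := by
      apply (hN T (f1 H G φ)).unique
      · rw [MonoidalCategory.whiskerLeft_comp_assoc, ha, f1_natural, hv]
      · rw [MonoidalCategory.whiskerLeft_comp_assoc, hb, f2_natural, hv]
        exact ((isHomFamily_iff H G φ).1 hφ).symm
    refine ⟨equalizer.lift v hvab, ?_, ?_⟩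
    · show (H ◁ _) ≫ (H ◁ _) ≫ ev = φ
      rw [← MonoidalCategory.whiskerLeft_comp_assoc, equalizer.lift_ι, hv]
    · intro t ht
      apply equalizer.hom_ext
      rw [equalizer.lift_ι]
      apply hv'
      rw [MonoidalCategory.whiskerLeft_comp_assoc]
      exact ht

theorem eq_props {M N : Over S} (a b : M ⟶ N) [IsAffineHom M.hom] [IsAffineHom N.hom] :
    IsAffineHom (equalizer a b).hom ∧
      (LocallyOfFiniteType M.hom → LocallyOfFiniteType (equalizer a b).hom) ∧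
      (LocallyOfFinitePresentation M.hom → LocallyOfFiniteType N.hom →
        LocallyOfFinitePresentation (equalizer a b).hom) := by
  have hw : (equalizer.ι a b).left ≫ M.hom = (equalizer a b).hom := Over.w (equalizer.ι a b)
  haveI : IsClosedImmersion (equalizer.ι a b).left := inferInstance
  refine ⟨?_, ?_, ?_⟩
  · rw [← hw]
    infer_instance
  · intro h
    rw [← hw]
    infer_instance
  · intro h h'
    rw [← hw]
    haveI := Groth.Agent.H9.LFP.lfp_equalizer_ι_left a b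
    infer_instance

end Groth.Agent.H4.HgC
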