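import Mathlib
import Groth.Prelude.Def_ActBC
import Groth.Prelude.Def_SGA3x
import Groth.Prelude.Def_Mor2
import Groth.Agent.Lib.Helper3.FpqcCov.Basic
import Groth.Agent.Lib.Helper3.FpqcLocal2
import Groth.Agent.Lib.Helper3.HomDiag.BC
import Groth.Agent.H4.CentC

/-! helper4: groups of multiplicative type and of finite type are flat and of finite presentation;
tensor products of finite locally free objects. -/

set_option autoImplicit false

universe u

open CategoryTheory CategoryTheory.Limits MonoidalCategory CartesianMonoidalCategory MonObj GrpObj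
  AlgebraicGeometry

namespace Groth.Agent.H4.HgD

open Groth.Agent.H3.FpqcCov Groth.Agent.H3.HomDiag

variable {S : Scheme.{u}}

theorem prop_of_isMultTypeFT (P : MorphismProperty Scheme.{u}) [P.IsStableUnderBaseChange]
    [IsZariskiLocalAtTarget P] [MorphismProperty.IsLocalAtTarget P Scheme.fpqcPrecoverage]
    (hP : ∀ (M : Type) [AddCommGroup M], AddGroup.FG M → P (Red.diag (ULift.{u} ℤ) M).hom)
    (H : Over S) [GrpObj H] (h : SGA3x.IsMultTypeFT H) : P H.hom := by
  obtain ⟨S', c, hflat, hsurj, hqc, hloc⟩ := h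
  have hc : Cov c := cov_of_cond c hsurj hflat hqc
  refine Groth.Agent.H3.FpqcCov.of_isPullback (P := P)
    (IsPullback.of_hasPullback H.hom c).flip hc ?_
  choose U hU M hM hfg e using hloc
  have hsup : ⨆ s', U s' = ⊤ :=
    eq_top_iff.mpr fun x _ => TopologicalSpace.Opens.mem_iSup.mpr ⟨x, hU x⟩
  refine IsZariskiLocalAtTarget.of_iSup_eq_top (P := P) U hsup (fun s' => ?_)
  obtain ⟨e'⟩ := e s'
  have h1 : P (pullback.snd (pullback.snd H.hom c) (U s').ι) := by
    let j : Red.bc (U s').ι (Red.bc c H) ⟶ Red.DS (U s') (M s') :=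
      (ActBC.bcCompIso (U s').ι c H rfl).hom ≫ e'.hom.hom.hom
    have ie : IsIso e'.hom.hom.hom := ⟨e'.inv.hom.hom, grp_hom_inv e', grp_inv_hom e'⟩
    have ij : IsIso j := by
      change IsIso ((ActBC.bcCompIso (U s').ι c H rfl).hom ≫ e'.hom.hom.hom)
      infer_instance
    have ijl : IsIso j.left := (Over.forget _).map_isIso j
    have hw : j.left ≫ (Red.DS (U s') (M s')).hom =
        pullback.snd (pullback.snd H.hom c) (U s').ι := Over.w j
    rw [← hw, P.cancel_left_of_respectsIso]
    exact MorphismProperty.pullback_snd (P := P) _ _ (hP (M s') (hfg s'))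
  change P ((pullbackRestrictIsoRestrict _ _).inv ≫ pullback.snd _ _)
  rw [P.cancel_left_of_respectsIso]
  exact h1

lemma diag_hom (M : Type) [AddCommGroup M] :
    (Red.diag (ULift.{u} ℤ) M).hom = Spec.map (CommRingCat.ofHom
      (algebraMap (ULift.{u} ℤ) (MonoidAlgebra (ULift.{u} ℤ) (Multiplicative M)))) := rfl

theorem flat_of_isMultTypeFT (H : Over S) [GrpObj H] (h : SGA3x.IsMultTypeFT H) :
    Flat H.hom := by
  refine prop_of_isMultTypeFT @Flat (fun M _ _ => ?_) H h
  change Flat (Spec.map (CommRingCat.ofHom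
    (algebraMap (ULift.{u} ℤ) (MonoidAlgebra (ULift.{u} ℤ) (Multiplicative M)))))
  rw [HasRingHomProperty.Spec_iff (P := @Flat)]
  exact (RingHom.flat_algebraMap_iff).2 inferInstance

theorem lfp_of_isMultTypeFT (H : Over S) [GrpObj H] (h : SGA3x.IsMultTypeFT H) :
    LocallyOfFinitePresentation H.hom := by
  refine prop_of_isMultTypeFT @LocallyOfFinitePresentation (fun M _ hM => ?_) H h
  change LocallyOfFinitePresentation (Spec.map (CommRingCat.ofHom
    (algebraMap (ULift.{u} ℤ) (MonoidAlgebra (ULift.{u} ℤ) (Multiplicative M)))))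
  rw [HasRingHomProperty.Spec_iff (P := @LocallyOfFinitePresentation)]
  have hfgM : Monoid.FG (Multiplicative M) :=
    AddMonoid.fg_iff_mul_fg.1 (AddGroup.fg_iff_addMonoid_fg.1 hM)
  have hnoe : IsNoetherianRing (ULift.{u} ℤ) :=
    isNoetherianRing_of_ringEquiv ℤ ULift.ringEquiv.symm
  have hftM : Algebra.FiniteType (ULift.{u} ℤ) (MonoidAlgebra (ULift.{u} ℤ) (Multiplicative M)) :=
    inferInstance
  exact (RingHom.finitePresentation_algebraMap).2
    ((Algebra.FinitePresentation.of_finiteType).1 hftM)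

theorem finLocFree_of_isMultTypeFT (H : Over S) [GrpObj H] (h : SGA3x.IsMultTypeFT H)
    [IsFinite H.hom] : Mor2.IsFinLocFree H.hom :=
  ⟨inferInstance, flat_of_isMultTypeFT H h, lfp_of_isMultTypeFT H h⟩

theorem finLocFree_tensor (X Y : Over S) (hX : Mor2.IsFinLocFree X.hom)
    (hY : Mor2.IsFinLocFree Y.hom) : Mor2.IsFinLocFree (X ⊗ Y).hom := by
  obtain ⟨h1, h2, h3⟩ := hX
  obtain ⟨h1', h2', h3'⟩ := hY
  have e : (X ⊗ Y).hom = pullback.fst X.hom Y.hom ≫ X.hom := Over.tensorObj_hom X Y
  rw [e]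
  exact ⟨inferInstance, inferInstance, inferInstance⟩

end Groth.Agent.H4.HgD
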