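import Mathlib
import Groth.Prelude.Def_FGA
import Groth.Agent.Lib.Helper1.HilbImm

set_option autoImplicit false
universe u
open CategoryTheory CategoryTheory.Limits AlgebraicGeometry
open Groth.Agent.H1

namespace Groth.Agent.H4.HlA

section IdealLemmas

theorem range_fst_of_isPullback {P A B D : Scheme.{u}} {fst : P ⟶ A} {snd : P ⟶ B} {g₁ : A ⟶ D}
    {g₂ : B ⟶ D} (h : IsPullback fst snd g₁ g₂) : Set.range fst = g₁ ⁻¹' Set.range g₂ := by
  apply Set.Subset.antisymm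
  · rintro _ ⟨p, rfl⟩
    exact ⟨snd p, (congrArg (fun k : P ⟶ D => k p) h.w).symm⟩
  · rintro x ⟨y, hy⟩
    obtain ⟨z, hz1, hz2⟩ := Scheme.Pullback.exists_preimage_pullback (f := g₁) (g := g₂) x y hy.symm
    refine ⟨h.isoPullback.inv z, ?_⟩
    rw [← Scheme.Hom.comp_apply, IsPullback.isoPullback_inv_fst, hz1]

theorem hilbPull_eq_comap {X S : Scheme.{u}} (f : X ⟶ S) {T T' : Over S} (g : T' ⟶ T)
    (I : (PicF.XT f T).IdealSheafData) :
    FGA.hilbPull f g I = I.comap (PicF.XTmap f g) := by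
  unfold FGA.hilbPull Scheme.IdealSheafData.comap
  rw [← pullbackSymmetry_hom_comp_fst, Scheme.Hom.ker_comp_of_isIso]

theorem ker_comp_comap_of_mono {A V W : Scheme.{u}} (i : A ⟶ V) (m : V ⟶ W) [Mono m]
    [IsClosedImmersion (i ≫ m)] : (i ≫ m).ker.comap m = i.ker := by
  have hpb : IsPullback i (𝟙 A) m (i ≫ m) := by
    have h := (IsPullback.of_id_snd (f := i)).paste_horiz (IsKernelPair.id_of_mono m)
    rwa [Category.comp_id] at h
  rw [← Scheme.IdealSheafData.ker_fst_of_isClosedImmersion]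
  calc (pullback.fst m (i ≫ m)).ker
      = (hpb.isoPullback.hom ≫ pullback.fst m (i ≫ m)).ker :=
        (Scheme.Hom.ker_comp_of_isIso _ _).symm
    _ = i.ker := by rw [hpb.isoPullback_hom_fst]

theorem comap_map_of_support_subset {V W : Scheme.{u}} (m : V ⟶ W) [IsOpenImmersion m]
    (J : W.IdealSheafData) (hJ : (J.support : Set W) ⊆ Set.range m) :
    ((J.comap m).subschemeι ≫ m).ker = J := by
  haveI : IsIso (pullback.snd m J.subschemeι) := by
    rw [isIso_iff_isOpenImmersion_and_surjective]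
    refine ⟨inferInstance, ⟨fun z => ?_⟩⟩
    have : z ∈ Set.range (pullback.snd m J.subschemeι) := by
      rw [Scheme.Pullback.range_snd]
      exact hJ (by rw [← J.range_subschemeι]; exact ⟨z, rfl⟩)
    exact this
  have h1 : (J.comap m).subschemeι ≫ m =
      ((J.comapIso m).hom ≫ pullback.snd m J.subschemeι) ≫ J.subschemeι := by
    rw [Category.assoc, ← pullback.condition, ← Category.assoc,
      Scheme.IdealSheafData.comapIso_hom_fst]
  rw [h1, Scheme.Hom.ker_comp_of_isIso, J.ker_subschemeι]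

end IdealLemmas

section Pullbacks

variable {X S : Scheme.{u}} (f : X ⟶ S)

theorem XTmap_snd {T T' : Over S} (g : T' ⟶ T) :
    PicF.XTmap f g ≫ pullback.snd f T.hom = pullback.snd f T'.hom ≫ g.left := by
  simp only [PicF.XTmap, pullback.map, pullback.lift_snd]

theorem isPullback_XTmap {T T' : Over S} (g : T' ⟶ T) :
    IsPullback (PicF.XTmap f g) (pullback.snd f T'.hom) (pullback.snd f T.hom) g.left := by
  have t : IsPullback (pullback.fst f T.hom) (pullback.snd f T.hom) f T.hom :=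
    IsPullback.of_hasPullback _ _
  have s : IsPullback (PicF.XTmap f g ≫ pullback.fst f T.hom) (pullback.snd f T'.hom) f
      (g.left ≫ T.hom) := by
    rw [FGA.XTmap_fst, Over.w g]
    exact IsPullback.of_hasPullback _ _
  exact IsPullback.of_right s (XTmap_snd f g) t

theorem pt_XTmap_fst {T T' : Over S} (g : T' ⟶ T) (x : ↥(pullback f T'.hom)) :
    pullback.fst f T.hom (PicF.XTmap f g x) = pullback.fst f T'.hom x := by
  rw [← Scheme.Hom.comp_apply, FGA.XTmap_fst]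

theorem pt_XTmap_snd {T T' : Over S} (g : T' ⟶ T) (x : ↥(pullback f T'.hom)) :
    pullback.snd f T.hom (PicF.XTmap f g x) = g.left (pullback.snd f T'.hom x) := by
  rw [← Scheme.Hom.comp_apply, ← Scheme.Hom.comp_apply, XTmap_snd]

variable {U : Scheme.{u}} (j : U ⟶ X)

theorem mm_fst (T : Over S) :
    HilbImm.mm f j T ≫ pullback.fst f T.hom = pullback.fst (j ≫ f) T.hom ≫ j :=
  pullback.lift_fst _ _ _

theorem mm_snd (T : Over S) :
    HilbImm.mm f j T ≫ pullback.snd f T.hom = pullback.snd (j ≫ f) T.hom :=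
  (pullback.lift_snd _ _ _).trans (Category.comp_id _)

theorem pt_mm_fst (T : Over S) (w : ↥(pullback (j ≫ f) T.hom)) :
    pullback.fst f T.hom (HilbImm.mm f j T w) = j (pullback.fst (j ≫ f) T.hom w) := by
  rw [← Scheme.Hom.comp_apply, ← Scheme.Hom.comp_apply, mm_fst]

theorem range_mm (T : Over S) :
    Set.range (HilbImm.mm f j T) = (pullback.fst f T.hom) ⁻¹' Set.range j := by
  have h1 : Set.range (𝟙 T.left : T.left ⟶ T.left) = Set.univ :=
    Set.range_eq_univ.2 (fun x => ⟨x, rfl⟩)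
  rw [Scheme.Pullback.range_map, h1, Set.preimage_univ, Set.inter_univ]

variable {H H₀ : Over S} (ι₀ : H₀ ⟶ H)

/-- the map `U ×_S H₀ ⟶ X ×_S H` -/
noncomputable abbrev m0 : pullback (j ≫ f) H₀.hom ⟶ pullback f H.hom :=
  pullback.map (j ≫ f) H₀.hom f H.hom j ι₀.left (𝟙 S) (Category.comp_id _)
    ((Category.comp_id _).trans (Over.w ι₀).symm)

theorem m0_fst : m0 f j ι₀ ≫ pullback.fst f H.hom = pullback.fst (j ≫ f) H₀.hom ≫ j :=
  pullback.lift_fst _ _ _

theorem m0_snd : m0 f j ι₀ ≫ pullback.snd f H.hom = pullback.snd (j ≫ f) H₀.hom ≫ ι₀.left :=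
  pullback.lift_snd _ _ _

theorem XTmap_m0 {T : Over S} (g₀ : T ⟶ H₀) :
    PicF.XTmap (j ≫ f) g₀ ≫ m0 f j ι₀ = HilbImm.mm f j T ≫ PicF.XTmap f (g₀ ≫ ι₀) := by
  apply pullback.hom_ext
  · calc (PicF.XTmap (j ≫ f) g₀ ≫ m0 f j ι₀) ≫ pullback.fst f H.hom
        = PicF.XTmap (j ≫ f) g₀ ≫ (m0 f j ι₀ ≫ pullback.fst f H.hom) := Category.assoc _ _ _
      _ = PicF.XTmap (j ≫ f) g₀ ≫ (pullback.fst (j ≫ f) H₀.hom ≫ j) := by rw [m0_fst]
      _ = (PicF.XTmap (j ≫ f) g₀ ≫ pullback.fst (j ≫ f) H₀.hom) ≫ j :=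
        (Category.assoc _ _ _).symm
      _ = pullback.fst (j ≫ f) T.hom ≫ j := by rw [FGA.XTmap_fst]
      _ = HilbImm.mm f j T ≫ pullback.fst f T.hom := (mm_fst f j T).symm
      _ = HilbImm.mm f j T ≫ (PicF.XTmap f (g₀ ≫ ι₀) ≫ pullback.fst f H.hom) := by
        rw [FGA.XTmap_fst]
      _ = (HilbImm.mm f j T ≫ PicF.XTmap f (g₀ ≫ ι₀)) ≫ pullback.fst f H.hom :=
        (Category.assoc _ _ _).symm
  · calc (PicF.XTmap (j ≫ f) g₀ ≫ m0 f j ι₀) ≫ pullback.snd f H.hom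
        = PicF.XTmap (j ≫ f) g₀ ≫ (m0 f j ι₀ ≫ pullback.snd f H.hom) := Category.assoc _ _ _
      _ = PicF.XTmap (j ≫ f) g₀ ≫ (pullback.snd (j ≫ f) H₀.hom ≫ ι₀.left) := by rw [m0_snd]
      _ = (PicF.XTmap (j ≫ f) g₀ ≫ pullback.snd (j ≫ f) H₀.hom) ≫ ι₀.left :=
        (Category.assoc _ _ _).symm
      _ = (pullback.snd (j ≫ f) T.hom ≫ g₀.left) ≫ ι₀.left := by rw [XTmap_snd]
      _ = pullback.snd (j ≫ f) T.hom ≫ (g₀ ≫ ι₀).left := Category.assoc _ _ _
      _ = (HilbImm.mm f j T ≫ pullback.snd f T.hom) ≫ (g₀ ≫ ι₀).left := by rw [mm_snd]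
      _ = HilbImm.mm f j T ≫ (pullback.snd f T.hom ≫ (g₀ ≫ ι₀).left) := Category.assoc _ _ _
      _ = HilbImm.mm f j T ≫ (PicF.XTmap f (g₀ ≫ ι₀) ≫ pullback.snd f H.hom) := by
        rw [XTmap_snd]
      _ = (HilbImm.mm f j T ≫ PicF.XTmap f (g₀ ≫ ι₀)) ≫ pullback.snd f H.hom :=
        (Category.assoc _ _ _).symm

end Pullbacks

section Main

variable {X U S : Scheme.{u}} (f : X ⟶ S) (j : U ⟶ X)
  {H H₀ : Over S} (ι₀ : H₀ ⟶ H) (Z : FGA.HilbSet f H)

/-- the universal family over `H` -/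
noncomputable abbrev piZ : Z.1.subscheme ⟶ H.left := Z.1.subschemeι ≫ pullback.snd f H.hom

/-- the universal family mapping to `X` -/
noncomputable abbrev qZ : Z.1.subscheme ⟶ X := Z.1.subschemeι ≫ pullback.fst f H.hom

theorem step2 [IsOpenImmersion j] [IsOpenImmersion ι₀.left]
    (hP1 : ∀ z : ↥Z.1.subscheme, piZ f Z z ∈ Set.range ι₀.left → qZ f Z z ∈ Set.range j) :
    IsProper ((Z.1.comap (m0 f j ι₀)).subschemeι ≫ pullback.snd (j ≫ f) H₀.hom) ∧
    Flat ((Z.1.comap (m0 f j ι₀)).subschemeι ≫ pullback.snd (j ≫ f) H₀.hom) := by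
  haveI : IsProper (piZ f Z) := Z.2.1
  haveI : Flat (piZ f Z) := Z.2.2
  have hrange : Set.range (pullback.snd (m0 f j ι₀) Z.1.subschemeι) =
      Set.range (pullback.fst (piZ f Z) ι₀.left) := by
    rw [Scheme.Pullback.range_snd, Scheme.Pullback.range_fst, Scheme.Pullback.range_map]
    ext z
    constructor
    · rintro ⟨_, h2⟩
      exact h2
    · intro h
      exact ⟨hP1 z h, h⟩
  have hθ := IsOpenImmersion.isoOfRangeEq_hom_fac (pullback.snd (m0 f j ι₀) Z.1.subschemeι)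
    (pullback.fst (piZ f Z) ι₀.left) hrange
  have e1 : pullback.fst (m0 f j ι₀) Z.1.subschemeι ≫ m0 f j ι₀ ≫ pullback.snd f H.hom =
      pullback.snd (m0 f j ι₀) Z.1.subschemeι ≫ piZ f Z := by
    rw [← Category.assoc, pullback.condition, Category.assoc]
  have e2 : pullback.fst (piZ f Z) ι₀.left ≫ piZ f Z =
      pullback.snd (piZ f Z) ι₀.left ≫ ι₀.left := pullback.condition
  have hfact : (Z.1.comap (m0 f j ι₀)).subschemeι ≫ pullback.snd (j ≫ f) H₀.hom =
      ((Z.1.comapIso (m0 f j ι₀)).hom ≫ (IsOpenImmersion.isoOfRangeEq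
        (pullback.snd (m0 f j ι₀) Z.1.subschemeι)
        (pullback.fst (piZ f Z) ι₀.left) hrange).hom) ≫ pullback.snd (piZ f Z) ι₀.left := by
    haveI : Mono ι₀.left := inferInstance
    rw [← cancel_mono ι₀.left]
    calc ((Z.1.comap (m0 f j ι₀)).subschemeι ≫ pullback.snd (j ≫ f) H₀.hom) ≫ ι₀.left
        = (Z.1.comap (m0 f j ι₀)).subschemeι ≫ (pullback.snd (j ≫ f) H₀.hom ≫ ι₀.left) :=
          Category.assoc _ _ _
      _ = (Z.1.comap (m0 f j ι₀)).subschemeι ≫ (m0 f j ι₀ ≫ pullback.snd f H.hom) := by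
          rw [m0_snd]
      _ = ((Z.1.comapIso (m0 f j ι₀)).hom ≫ pullback.fst (m0 f j ι₀) Z.1.subschemeι) ≫
            (m0 f j ι₀ ≫ pullback.snd f H.hom) := by
          rw [Scheme.IdealSheafData.comapIso_hom_fst]
      _ = (Z.1.comapIso (m0 f j ι₀)).hom ≫ (pullback.fst (m0 f j ι₀) Z.1.subschemeι ≫
            m0 f j ι₀ ≫ pullback.snd f H.hom) := Category.assoc _ _ _
      _ = (Z.1.comapIso (m0 f j ι₀)).hom ≫
            (pullback.snd (m0 f j ι₀) Z.1.subschemeι ≫ piZ f Z) := by rw [e1]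
      _ = (Z.1.comapIso (m0 f j ι₀)).hom ≫
            (((IsOpenImmersion.isoOfRangeEq (pullback.snd (m0 f j ι₀) Z.1.subschemeι)
              (pullback.fst (piZ f Z) ι₀.left) hrange).hom ≫
                pullback.fst (piZ f Z) ι₀.left) ≫ piZ f Z) := by rw [hθ]
      _ = (Z.1.comapIso (m0 f j ι₀)).hom ≫
            ((IsOpenImmersion.isoOfRangeEq (pullback.snd (m0 f j ι₀) Z.1.subschemeι)
              (pullback.fst (piZ f Z) ι₀.left) hrange).hom ≫
                (pullback.fst (piZ f Z) ι₀.left ≫ piZ f Z)) := by rw [Category.assoc]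
      _ = (Z.1.comapIso (m0 f j ι₀)).hom ≫
            ((IsOpenImmersion.isoOfRangeEq (pullback.snd (m0 f j ι₀) Z.1.subschemeι)
              (pullback.fst (piZ f Z) ι₀.left) hrange).hom ≫
                (pullback.snd (piZ f Z) ι₀.left ≫ ι₀.left)) := by rw [e2]
      _ = (((Z.1.comapIso (m0 f j ι₀)).hom ≫ (IsOpenImmersion.isoOfRangeEq
            (pullback.snd (m0 f j ι₀) Z.1.subschemeι)
            (pullback.fst (piZ f Z) ι₀.left) hrange).hom) ≫
              pullback.snd (piZ f Z) ι₀.left) ≫ ι₀.left := by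
          simp only [Category.assoc]
  rw [hfact]
  exact ⟨inferInstance, inferInstance⟩

theorem image_proper_flat [IsSeparated f] [IsOpenImmersion j] {T : Over S}
    (Y : FGA.HilbSet (j ≫ f) T) :
    IsProper ((Y.1.subschemeι ≫ HilbImm.mm f j T).ker.subschemeι ≫ PicF.XTproj f T) ∧
    Flat ((Y.1.subschemeι ≫ HilbImm.mm f j T).ker.subschemeι ≫ PicF.XTproj f T) := by
  haveI : IsClosedImmersion (Y.1.subschemeι ≫ HilbImm.mm f j T) :=
    HilbImm.isClosedImmersion_comp f j T Y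
  have e : (Y.1.subschemeι ≫ HilbImm.mm f j T).ker.subschemeι ≫ PicF.XTproj f T =
      inv (Y.1.subschemeι ≫ HilbImm.mm f j T).toImage ≫
        (Y.1.subschemeι ≫ PicF.XTproj (j ≫ f) T) := by
    rw [IsIso.eq_inv_comp, ← Category.assoc, Scheme.Hom.toImage_imageι, Category.assoc, mm_snd]
  haveI := Y.2.1
  haveI := Y.2.2
  rw [e]
  exact ⟨inferInstance, inferInstance⟩

theorem repr [IsSeparated f] [IsOpenImmersion j] [IsOpenImmersion ι₀.left]
    (hH : FGA.HilbRepresentedBy f H Z)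
    (hP1 : ∀ z : ↥Z.1.subscheme, piZ f Z z ∈ Set.range ι₀.left → qZ f Z z ∈ Set.range j)
    (hP2 : ∀ h : ↥H.left, h ∉ Set.range ι₀.left →
      ∃ z : ↥Z.1.subscheme, piZ f Z z = h ∧ qZ f Z z ∉ Set.range j)
    (Z₀ : FGA.HilbSet (j ≫ f) H₀) (hZ₀ : Z₀.1 = Z.1.comap (m0 f j ι₀)) :
    FGA.HilbRepresentedBy (j ≫ f) H₀ Z₀ := by
  obtain ⟨hLN, huniv⟩ := hH
  haveI : IsLocallyNoetherian H.left := hLN
  refine And.intro (isLocallyNoetherian_of_isOpenImmersion ι₀.left) ?_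
  intro T _ Y
  haveI : Mono ι₀ := (Over.forget S).mono_of_mono_map (show Mono ι₀.left from inferInstance)
  haveI hc : IsClosedImmersion (Y.1.subschemeι ≫ HilbImm.mm f j T) :=
    HilbImm.isClosedImmersion_comp f j T Y
  obtain ⟨g, hg, hguniq⟩ := huniv T (Subtype.mk _ (image_proper_flat f j Y))
  have hg' : Z.1.comap (PicF.XTmap f g) = (Y.1.subschemeι ≫ HilbImm.mm f j T).ker := by
    rw [← hilbPull_eq_comap]; exact hg
  -- the classifying map lands in `H₀`
  have hrange : Set.range g.left ⊆ Set.range ι₀.left := by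
    rintro _ ⟨t, rfl⟩
    by_contra hnot
    obtain ⟨z, hz1, hz2⟩ := hP2 _ hnot
    have hx : Z.1.subschemeι z ∈ Set.range (PicF.XTmap f g) := by
      rw [range_fst_of_isPullback (isPullback_XTmap f g)]
      exact ⟨t, hz1.symm.trans (Scheme.Hom.comp_apply _ _ _)⟩
    obtain ⟨x, hx⟩ := hx
    have hxs : x ∈ ((Z.1.comap (PicF.XTmap f g)).support : Set _) := by
      rw [Scheme.IdealSheafData.support_comap]
      show PicF.XTmap f g x ∈ (Z.1.support : Set _)
      rw [hx, ← Z.1.range_subschemeι]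
      exact ⟨z, rfl⟩
    rw [hg', Scheme.Hom.support_ker,
      (Y.1.subschemeι ≫ HilbImm.mm f j T).isClosedEmbedding.isClosed_range.closure_eq] at hxs
    obtain ⟨y, hy⟩ := hxs
    apply hz2
    refine ⟨pullback.fst (j ≫ f) T.hom (Y.1.subschemeι y), ?_⟩
    calc j (pullback.fst (j ≫ f) T.hom (Y.1.subschemeι y))
        = pullback.fst f T.hom (HilbImm.mm f j T (Y.1.subschemeι y)) :=
          (pt_mm_fst f j T _).symm
      _ = pullback.fst f T.hom x := by
          rw [← hy, Scheme.Hom.comp_apply]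
      _ = pullback.fst f H.hom (PicF.XTmap f g x) := (pt_XTmap_fst f g x).symm
      _ = pullback.fst f H.hom (Z.1.subschemeι z) := by rw [hx]
      _ = qZ f Z z := (Scheme.Hom.comp_apply _ _ _).symm
  obtain ⟨g₀, hg₀⟩ : ∃ g₀ : T ⟶ H₀, g₀ ≫ ι₀ = g := by
    refine ⟨Over.homMk (IsOpenImmersion.lift ι₀.left g.left hrange) ?_, ?_⟩
    · rw [← Over.w ι₀, ← Category.assoc, IsOpenImmersion.lift_fac, Over.w g]
    · exact Over.OverMorphism.ext (IsOpenImmersion.lift_fac _ _ _)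
  have key : ∀ g₀' : T ⟶ H₀, FGA.hilbPull (j ≫ f) g₀' Z₀.1 =
      (Z.1.comap (PicF.XTmap f (g₀' ≫ ι₀))).comap (HilbImm.mm f j T) := by
    intro g₀'
    rw [hilbPull_eq_comap, hZ₀, ← Scheme.IdealSheafData.comap_comp, XTmap_m0,
      Scheme.IdealSheafData.comap_comp]
  refine ⟨g₀, ?_, ?_⟩
  · show FGA.hilbPull (j ≫ f) g₀ Z₀.1 = Y.1
    rw [key, hg₀, hg', ker_comp_comap_of_mono, Y.1.ker_subschemeι]
  · intro g₀' hg₀'
    have h1 : (Z.1.comap (PicF.XTmap f (g₀' ≫ ι₀))).comap (HilbImm.mm f j T) = Y.1 := by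
      rw [← key]; exact hg₀'
    have hsupp : ((Z.1.comap (PicF.XTmap f (g₀' ≫ ι₀))).support : Set _) ⊆
        Set.range (HilbImm.mm f j T) := by
      intro x hx
      rw [Scheme.IdealSheafData.support_comap] at hx
      have hx' : PicF.XTmap f (g₀' ≫ ι₀) x ∈ (Z.1.support : Set _) := hx
      rw [← Z.1.range_subschemeι] at hx'
      obtain ⟨z, hz⟩ := hx'
      rw [range_mm]
      show pullback.fst f T.hom x ∈ Set.range j
      have hz1 : piZ f Z z ∈ Set.range ι₀.left := by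
        refine ⟨g₀'.left (pullback.snd f T.hom x), ?_⟩
        calc ι₀.left (g₀'.left (pullback.snd f T.hom x))
            = (g₀' ≫ ι₀).left (pullback.snd f T.hom x) :=
              (Scheme.Hom.comp_apply g₀'.left ι₀.left _).symm
          _ = pullback.snd f H.hom (PicF.XTmap f (g₀' ≫ ι₀) x) :=
              (pt_XTmap_snd f (g₀' ≫ ι₀) x).symm
          _ = pullback.snd f H.hom (Z.1.subschemeι z) := by rw [hz]
          _ = piZ f Z z := (Scheme.Hom.comp_apply _ _ _).symm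
      have h3 := hP1 z hz1
      have e : qZ f Z z = pullback.fst f T.hom x := by
        calc qZ f Z z = pullback.fst f H.hom (Z.1.subschemeι z) := Scheme.Hom.comp_apply _ _ _
          _ = pullback.fst f H.hom (PicF.XTmap f (g₀' ≫ ι₀) x) := by rw [hz]
          _ = pullback.fst f T.hom x := pt_XTmap_fst f (g₀' ≫ ι₀) x
      rwa [e] at h3
    have h2 := comap_map_of_support_subset (HilbImm.mm f j T) _ hsupp
    rw [h1] at h2
    have h3 : g₀' ≫ ι₀ = g := hguniq _ ((hilbPull_eq_comap f (g₀' ≫ ι₀) Z.1).trans h2.symm)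
    rw [← cancel_mono ι₀, h3, hg₀]

theorem main [IsSeparated f] [IsOpenImmersion j] (H : Over S) (Z : FGA.HilbSet f H)
    (hH : FGA.HilbRepresentedBy f H Z) :
    ∃ (H₀ : H.left.Opens) (Z₀ : FGA.HilbSet (j ≫ f) (Over.mk (H₀.ι ≫ H.hom))),
      Z₀.1 = Z.1.comap (pullback.map (j ≫ f) (H₀.ι ≫ H.hom) f H.hom j H₀.ι (𝟙 S)
        (Category.comp_id _) (Category.comp_id _)) ∧
      FGA.HilbRepresentedBy (j ≫ f) (Over.mk (H₀.ι ≫ H.hom)) Z₀ := by
  haveI : IsProper (piZ f Z) := Z.2.1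
  have hclosed : IsClosed ((piZ f Z) '' ((qZ f Z) ⁻¹' (Set.range j)ᶜ)) :=
    (piZ f Z).isClosedMap _
      ((j.isOpenEmbedding.isOpen_range.isClosed_compl).preimage (qZ f Z).continuous)
  obtain ⟨H₀, hH₀⟩ : ∃ H₀ : H.left.Opens,
      (H₀ : Set H.left) = ((piZ f Z) '' ((qZ f Z) ⁻¹' (Set.range j)ᶜ))ᶜ :=
    ⟨⟨_, hclosed.isOpen_compl⟩, rfl⟩
  let H₀' : Over S := Over.mk (H₀.ι ≫ H.hom)
  let ι₀ : H₀' ⟶ H := Over.homMk H₀.ι rfl
  haveI : IsOpenImmersion ι₀.left := by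
    show IsOpenImmersion H₀.ι
    infer_instance
  have hr : Set.range ι₀.left = (H₀ : Set H.left) := Scheme.Opens.range_ι H₀
  have hP1 : ∀ z : ↥Z.1.subscheme, piZ f Z z ∈ Set.range ι₀.left → qZ f Z z ∈ Set.range j := by
    intro z hz
    rw [hr, hH₀] at hz
    by_contra hq
    exact hz ⟨z, hq, rfl⟩
  have hP2 : ∀ h : ↥H.left, h ∉ Set.range ι₀.left →
      ∃ z : ↥Z.1.subscheme, piZ f Z z = h ∧ qZ f Z z ∉ Set.range j := by
    intro h hh
    rw [hr, hH₀] at hh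
    have hh' : h ∈ (piZ f Z) '' ((qZ f Z) ⁻¹' (Set.range j)ᶜ) := by
      by_contra hcon
      exact hh hcon
    obtain ⟨z, hz, rfl⟩ := hh'
    exact ⟨z, rfl, hz⟩
  obtain ⟨hp, hf⟩ := step2 f j ι₀ Z hP1
  refine ⟨H₀, (show FGA.HilbSet (j ≫ f) H₀' from Subtype.mk (Z.1.comap (m0 f j ι₀)) ⟨hp, hf⟩),
    rfl, ?_⟩
  exact repr f j ι₀ Z hH hP1 hP2 _ rfl

end Main

end Groth.Agent.H4.HlA
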