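import Mathlib
import Groth.Prelude.Def_FGA
import Groth.Agent.H4.HlA

set_option autoImplicit false
universe u
open CategoryTheory CategoryTheory.Limits AlgebraicGeometry
open Groth.Agent.H4.HlA

namespace Groth.Agent.H4.HlB

section IsoTransport

theorem comap_hom_inv {A B : Scheme.{u}} (φ : A ≅ B) (J : B.IdealSheafData) :
    (J.comap φ.hom).comap φ.inv = J := by
  rw [← Scheme.IdealSheafData.comap_comp, φ.inv_hom_id, Scheme.IdealSheafData.comap_id]

theorem comap_inv_hom {A B : Scheme.{u}} (φ : A ≅ B) (I : A.IdealSheafData) :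
    (I.comap φ.inv).comap φ.hom = I := by
  rw [← Scheme.IdealSheafData.comap_comp, φ.hom_inv_id, Scheme.IdealSheafData.comap_id]

theorem comap_inv_subschemeι {A B : Scheme.{u}} (φ : A ≅ B) (I : A.IdealSheafData) :
    (I.comap φ.inv).subschemeι =
      ((I.comapIso φ.inv).hom ≫ pullback.snd φ.inv I.subschemeι) ≫ I.subschemeι ≫ φ.hom := by
  have h1 : pullback.fst φ.inv I.subschemeι =
      pullback.snd φ.inv I.subschemeι ≫ I.subschemeι ≫ φ.hom := by
    rw [← Category.assoc, ← pullback.condition, Category.assoc, φ.inv_hom_id, Category.comp_id]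
  rw [Category.assoc, ← h1, Scheme.IdealSheafData.comapIso_hom_fst]

end IsoTransport

section BC

variable {X S S' : Scheme.{u}} (f : X ⟶ S) (h : S' ⟶ S)

/-- `T` viewed over `S` -/
noncomputable abbrev Tb (T : Over S') : Over S := Over.mk (T.hom ≫ h)

/-- `X' ×_{S'} T ≅ X ×_S T` -/
noncomputable def alphaT (T : Over S') :
    pullback (pullback.snd f h) T.hom ≅ PicF.XT f (Tb h T) :=
  pullbackLeftPullbackSndIso f h T.hom

theorem alphaT_hom_fst (T : Over S') :
    (alphaT f h T).hom ≫ pullback.fst f (Tb h T).hom =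
      pullback.fst (pullback.snd f h) T.hom ≫ pullback.fst f h :=
  pullbackLeftPullbackSndIso_hom_fst f h T.hom

theorem alphaT_hom_snd (T : Over S') :
    (alphaT f h T).hom ≫ pullback.snd f (Tb h T).hom = pullback.snd (pullback.snd f h) T.hom :=
  pullbackLeftPullbackSndIso_hom_snd f h T.hom

variable {H : Over S} {H' : Over S'} (p : H'.left ⟶ H.left) (hPB : IsPullback p H'.hom H.hom h)

/-- the map `X' ×_{S'} H' ⟶ X ×_S H` -/
noncomputable abbrev mu : pullback (pullback.snd f h) H'.hom ⟶ pullback f H.hom :=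
  pullback.map (pullback.snd f h) H'.hom f H.hom (pullback.fst f h) p h
    pullback.condition.symm hPB.w.symm

theorem mu_fst : mu f h p hPB ≫ pullback.fst f H.hom =
    pullback.fst (pullback.snd f h) H'.hom ≫ pullback.fst f h := pullback.lift_fst _ _ _

theorem mu_snd : mu f h p hPB ≫ pullback.snd f H.hom =
    pullback.snd (pullback.snd f h) H'.hom ≫ p := pullback.lift_snd _ _ _

/-- an `S'`-morphism to `H'` viewed as an `S`-morphism to `H` -/
noncomputable def flatMap {T : Over S'} (g : T ⟶ H') : Tb h T ⟶ H :=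
  Over.homMk (g.left ≫ p) (by
    show (g.left ≫ p) ≫ H.hom = T.hom ≫ h
    rw [Category.assoc, hPB.w, ← Category.assoc, Over.w g])

theorem flatMap_left {T : Over S'} (g : T ⟶ H') : (flatMap h p hPB g).left = g.left ≫ p := rfl

theorem XTmap_mu {T : Over S'} (g : T ⟶ H') :
    PicF.XTmap (pullback.snd f h) g ≫ mu f h p hPB =
      (alphaT f h T).hom ≫ PicF.XTmap f (flatMap h p hPB g) := by
  apply pullback.hom_ext
  · calc (PicF.XTmap (pullback.snd f h) g ≫ mu f h p hPB) ≫ pullback.fst f H.hom
        = PicF.XTmap (pullback.snd f h) g ≫ (mu f h p hPB ≫ pullback.fst f H.hom) :=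
          Category.assoc _ _ _
      _ = PicF.XTmap (pullback.snd f h) g ≫
            (pullback.fst (pullback.snd f h) H'.hom ≫ pullback.fst f h) := by rw [mu_fst]
      _ = (PicF.XTmap (pullback.snd f h) g ≫ pullback.fst (pullback.snd f h) H'.hom) ≫
            pullback.fst f h := (Category.assoc _ _ _).symm
      _ = pullback.fst (pullback.snd f h) T.hom ≫ pullback.fst f h := by rw [FGA.XTmap_fst]
      _ = (alphaT f h T).hom ≫ pullback.fst f (Tb h T).hom := (alphaT_hom_fst f h T).symm
      _ = (alphaT f h T).hom ≫ (PicF.XTmap f (flatMap h p hPB g) ≫ pullback.fst f H.hom) := by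
          rw [FGA.XTmap_fst]
      _ = ((alphaT f h T).hom ≫ PicF.XTmap f (flatMap h p hPB g)) ≫ pullback.fst f H.hom :=
          (Category.assoc _ _ _).symm
  · calc (PicF.XTmap (pullback.snd f h) g ≫ mu f h p hPB) ≫ pullback.snd f H.hom
        = PicF.XTmap (pullback.snd f h) g ≫ (mu f h p hPB ≫ pullback.snd f H.hom) :=
          Category.assoc _ _ _
      _ = PicF.XTmap (pullback.snd f h) g ≫
            (pullback.snd (pullback.snd f h) H'.hom ≫ p) := by rw [mu_snd]
      _ = (PicF.XTmap (pullback.snd f h) g ≫ pullback.snd (pullback.snd f h) H'.hom) ≫ p :=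
          (Category.assoc _ _ _).symm
      _ = (pullback.snd (pullback.snd f h) T.hom ≫ g.left) ≫ p := by rw [XTmap_snd]
      _ = pullback.snd (pullback.snd f h) T.hom ≫ (flatMap h p hPB g).left :=
          Category.assoc _ _ _
      _ = ((alphaT f h T).hom ≫ pullback.snd f (Tb h T).hom) ≫ (flatMap h p hPB g).left := by
          rw [alphaT_hom_snd]
      _ = (alphaT f h T).hom ≫ (pullback.snd f (Tb h T).hom ≫ (flatMap h p hPB g).left) :=
          Category.assoc _ _ _
      _ = (alphaT f h T).hom ≫ (PicF.XTmap f (flatMap h p hPB g) ≫ pullback.snd f H.hom) := by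
          rw [XTmap_snd]
      _ = ((alphaT f h T).hom ≫ PicF.XTmap f (flatMap h p hPB g)) ≫ pullback.snd f H.hom :=
          (Category.assoc _ _ _).symm

theorem bc_repr [IsNoetherian S'] (Z : FGA.HilbSet f H) (hH : FGA.HilbRepresentedBy f H Z)
    [LocallyOfFiniteType H.hom]
    (Z' : FGA.HilbSet (pullback.snd f h) H') (hZ' : Z'.1 = Z.1.comap (mu f h p hPB)) :
    FGA.HilbRepresentedBy (pullback.snd f h) H' Z' := by
  obtain ⟨hLN, huniv⟩ := hH
  haveI : LocallyOfFiniteType H'.hom :=
    MorphismProperty.of_isPullback (P := @LocallyOfFiniteType) hPB inferInstance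
  refine And.intro (LocallyOfFiniteType.isLocallyNoetherian H'.hom) ?_
  intro T _ Y
  haveI : IsLocallyNoetherian (Tb h T).left := (inferInstance : IsLocallyNoetherian T.left)
  have hYb : IsProper ((Y.1.comap (alphaT f h T).inv).subschemeι ≫ PicF.XTproj f (Tb h T)) ∧
      Flat ((Y.1.comap (alphaT f h T).inv).subschemeι ≫ PicF.XTproj f (Tb h T)) := by
    haveI := Y.2.1
    haveI := Y.2.2
    have e : (Y.1.comap (alphaT f h T).inv).subschemeι ≫ PicF.XTproj f (Tb h T) =
        ((Y.1.comapIso (alphaT f h T).inv).hom ≫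
          pullback.snd (alphaT f h T).inv Y.1.subschemeι) ≫
          (Y.1.subschemeι ≫ PicF.XTproj (pullback.snd f h) T) := by
      rw [comap_inv_subschemeι]
      simp only [Category.assoc]
      rw [alphaT_hom_snd]
    rw [e]
    exact ⟨inferInstance, inferInstance⟩
  obtain ⟨g, hg, hguniq⟩ := huniv (Tb h T) (Subtype.mk _ hYb)
  have hg' : Z.1.comap (PicF.XTmap f g) = Y.1.comap (alphaT f h T).inv :=
    (hilbPull_eq_comap f g Z.1).symm.trans hg
  have key : ∀ g'' : T ⟶ H', FGA.hilbPull (pullback.snd f h) g'' Z'.1 =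
      (Z.1.comap (PicF.XTmap f (flatMap h p hPB g''))).comap (alphaT f h T).hom := by
    intro g''
    rw [hilbPull_eq_comap, hZ', ← Scheme.IdealSheafData.comap_comp, XTmap_mu,
      Scheme.IdealSheafData.comap_comp]
  have hw : g.left ≫ H.hom = T.hom ≫ h := Over.w g
  obtain ⟨g', hg'l⟩ : ∃ g' : T ⟶ H', g'.left = hPB.lift g.left T.hom hw :=
    ⟨Over.homMk (hPB.lift g.left T.hom hw) (hPB.lift_snd _ _ _), rfl⟩
  have hg'p : g'.left ≫ p = g.left := by rw [hg'l, hPB.lift_fst]
  have hflat : flatMap h p hPB g' = g := Over.OverMorphism.ext hg'p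
  refine ⟨g', ?_, ?_⟩
  · show FGA.hilbPull (pullback.snd f h) g' Z'.1 = Y.1
    rw [key, hflat, hg', comap_inv_hom]
  · intro g'' hg''
    have h1 : (Z.1.comap (PicF.XTmap f (flatMap h p hPB g''))).comap (alphaT f h T).hom =
        Y.1 := by
      rw [← key]; exact hg''
    have h2 : Z.1.comap (PicF.XTmap f (flatMap h p hPB g'')) =
        Y.1.comap (alphaT f h T).inv := by
      rw [← h1, comap_hom_inv]
    have h3 : flatMap h p hPB g'' = g := hguniq _ ((hilbPull_eq_comap f _ Z.1).trans h2)
    apply Over.OverMorphism.ext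
    apply hPB.hom_ext
    · calc g''.left ≫ p = (flatMap h p hPB g'').left := rfl
        _ = g.left := congrArg (fun k => k.left) h3
        _ = g'.left ≫ p := hg'p.symm
    · calc g''.left ≫ H'.hom = T.hom := Over.w g''
        _ = g'.left ≫ H'.hom := (Over.w g').symm

end BC

theorem main {X S S' : Scheme.{u}} [IsNoetherian S] [IsNoetherian S'] (f : X ⟶ S) (h : S' ⟶ S)
    (H : Over S) (Z : FGA.HilbSet f H) (hH : FGA.HilbRepresentedBy f H Z)
    [LocallyOfFiniteType H.hom]
    (Z' : FGA.HilbSet (pullback.snd f h) (Over.mk (pullback.snd H.hom h)))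
    (hZ' : Z'.1 = Z.1.comap (pullback.map (pullback.snd f h) (pullback.snd H.hom h) f H.hom
      (pullback.fst f h) (pullback.fst H.hom h) h pullback.condition.symm pullback.condition.symm)) :
    FGA.HilbRepresentedBy (pullback.snd f h) (Over.mk (pullback.snd H.hom h)) Z' :=
  bc_repr f h (H' := Over.mk (pullback.snd H.hom h)) (pullback.fst H.hom h)
    (IsPullback.of_hasPullback H.hom h) Z hH Z' hZ'

end Groth.Agent.H4.HlB
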