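import Mathlib.RingTheory.MvPowerSeries.Basic
import Mathlib.Data.Nat.Choose.Basic
import Mathlib.Algebra.BigOperators.Group.Finset.Basic
import Mathlib.Data.Finset.Powerset
import Mathlib.Data.Finset.Lattice.Fold
import Mathlib.Tactic

set_option autoImplicit false
set_option linter.unusedSectionVars false
set_option linter.unusedVariables false

namespace Groth.Agent.H4.HodgeSer
open MvPowerSeries

abbrev R := MvPowerSeries (Fin 2) ℤ
abbrev Idx := Fin 2 →₀ ℕ

/-- the exponent `(s, t)`. -/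
noncomputable def e (s t : ℕ) : Idx := Finsupp.single 0 s + Finsupp.single 1 t

lemma e_zero (s t : ℕ) : e s t 0 = s := by simp [e, Finsupp.single_apply]
lemma e_one (s t : ℕ) : e s t 1 = t := by simp [e, Finsupp.single_apply]

lemma idx_ext {n m : Idx} (h0 : n 0 = m 0) (h1 : n 1 = m 1) : n = m :=
  Finsupp.ext (Fin.forall_fin_two.mpr ⟨h0, h1⟩)

lemma eq_e (n : Idx) : n = e (n 0) (n 1) :=
  idx_ext (e_zero _ _).symm (e_one _ _).symm

lemma e_add (s t s' t' : ℕ) : e s t + e s' t' = e (s + s') (t + t') :=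
  idx_ext (by simp [e_zero]) (by simp [e_one])

lemma e_inj {s t s' t' : ℕ} (h : e s t = e s' t') : s = s' ∧ t = t' := by
  constructor
  · have := DFunLike.congr_fun h 0; rwa [e_zero, e_zero] at this
  · have := DFunLike.congr_fun h 1; rwa [e_one, e_one] at this

/-- nonnegative coefficients -/
def NN (f : R) : Prop := ∀ n : Idx, 0 ≤ coeff n f

section NNlemmas
variable {f g : R}

lemma NN.add (hf : NN f) (hg : NN g) : NN (f + g) := fun n => by
  rw [map_add]; exact add_nonneg (hf n) (hg n)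

lemma NN.mul (hf : NN f) (hg : NN g) : NN (f * g) := fun n => by
  classical
  rw [coeff_mul]; exact Finset.sum_nonneg fun x _ => mul_nonneg (hf _) (hg _)

lemma NN.one : NN 1 := fun n => by
  classical
  rw [coeff_one]; split_ifs <;> norm_num

lemma NN.zero : NN 0 := fun n => by rw [map_zero]

lemma NN.sum {ι : Type*} (s : Finset ι) (F : ι → R) (h : ∀ i ∈ s, NN (F i)) :
    NN (∑ i ∈ s, F i) := fun n => by
  rw [map_sum]; exact Finset.sum_nonneg fun i hi => h i hi n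

lemma NN.prod {ι : Type*} (s : Finset ι) (F : ι → R) (h : ∀ i ∈ s, NN (F i)) :
    NN (∏ i ∈ s, F i) := by
  classical
  induction s using Finset.induction_on with
  | empty => simpa using NN.one
  | insert i s hi ih =>
    rw [Finset.prod_insert hi]
    exact NN.mul (h i (Finset.mem_insert_self i s))
      (ih fun j hj => h j (Finset.mem_insert_of_mem hj))

lemma NN.pow (hf : NN f) (k : ℕ) : NN (f ^ k) := by
  induction k with
  | zero => simpa using NN.one
  | succ k ih => rw [pow_succ]; exact ih.mul hf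

lemma coeff_mul_ne_zero_iff (hf : NN f) (hg : NN g) (n : Idx) :
    coeff n (f * g) ≠ 0 ↔ ∃ i j : Idx, i + j = n ∧ coeff i f ≠ 0 ∧ coeff j g ≠ 0 := by
  classical
  rw [coeff_mul, Ne, Finset.sum_eq_zero_iff_of_nonneg (fun x _ => mul_nonneg (hf _) (hg _))]
  constructor
  · intro h
    by_contra hc
    apply h
    intro x hx
    by_contra hne
    exact hc ⟨x.1, x.2, Finset.mem_antidiagonal.mp hx, left_ne_zero_of_mul hne,
      right_ne_zero_of_mul hne⟩
  · rintro ⟨i, j, hij, hi, hj⟩ h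
    exact mul_ne_zero hi hj (h (i, j) (Finset.mem_antidiagonal.mpr hij))

lemma coeff_add_ne_zero_iff (hf : NN f) (hg : NN g) (n : Idx) :
    coeff n (f + g) ≠ 0 ↔ coeff n f ≠ 0 ∨ coeff n g ≠ 0 := by
  rw [map_add]
  have h1 := hf n
  have h2 := hg n
  constructor
  · intro h; by_contra hc; push Not at hc; rw [hc.1, hc.2, add_zero] at h; exact h rfl
  · rintro (h | h) <;> omega

lemma coeff_sum_ne_zero_iff {ι : Type*} (s : Finset ι) (F : ι → R) (h : ∀ i ∈ s, NN (F i))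
    (n : Idx) : coeff n (∑ i ∈ s, F i) ≠ 0 ↔ ∃ i ∈ s, coeff n (F i) ≠ 0 := by
  rw [map_sum, Ne, Finset.sum_eq_zero_iff_of_nonneg (fun i hi => h i hi n)]
  push Not
  rfl

lemma coeff_prod_ne_zero_iff {ι : Type*} [DecidableEq ι] (s : Finset ι) (F : ι → R)
    (h : ∀ i ∈ s, NN (F i)) : ∀ n : Idx,
    coeff n (∏ i ∈ s, F i) ≠ 0 ↔
      ∃ G : ι → Idx, (∀ i ∈ s, coeff (G i) (F i) ≠ 0) ∧ ∑ i ∈ s, G i = n := by
  induction s using Finset.induction_on with
  | empty =>
    intro n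
    rw [Finset.prod_empty, coeff_one]
    constructor
    · intro h0
      refine ⟨fun _ => 0, by simp, ?_⟩
      by_contra hne
      rw [Finset.sum_empty] at hne
      rw [if_neg (fun hh => hne hh.symm)] at h0
      exact h0 rfl
    · rintro ⟨G, -, hG⟩
      rw [Finset.sum_empty] at hG
      rw [if_pos hG.symm]; norm_num
  | insert i s hi ih =>
    intro n
    have hs : ∀ j ∈ s, NN (F j) := fun j hj => h j (Finset.mem_insert_of_mem hj)
    rw [Finset.prod_insert hi,
      coeff_mul_ne_zero_iff (h i (Finset.mem_insert_self i s)) (NN.prod s F hs)]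
    constructor
    · rintro ⟨a, b, hab, ha, hb⟩
      obtain ⟨G, hG, hGb⟩ := (ih hs b).mp hb
      refine ⟨Function.update G i a, ?_, ?_⟩
      · intro j hj
        rcases Finset.mem_insert.mp hj with rfl | hj
        · rw [Function.update_self]; exact ha
        · have : j ≠ i := fun hh => hi (hh ▸ hj)
          rw [Function.update_of_ne this]; exact hG j hj
      · rw [Finset.sum_insert hi, Function.update_self, ← hab, ← hGb]
        congr 1
        apply Finset.sum_congr rfl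
        intro j hj
        have : j ≠ i := fun hh => hi (hh ▸ hj)
        rw [Function.update_of_ne this]
    · rintro ⟨G, hG, hGn⟩
      rw [Finset.sum_insert hi] at hGn
      exact ⟨G i, ∑ j ∈ s, G j, hGn, hG i (Finset.mem_insert_self i s),
        (ih hs _).mpr ⟨G, fun j hj => hG j (Finset.mem_insert_of_mem hj), rfl⟩⟩

end NNlemmas

noncomputable def yy : R := MvPowerSeries.X 0
noncomputable def zz : R := MvPowerSeries.X 1

lemma mon_eq (c u v : ℕ) : (c : R) * yy ^ u * zz ^ v = monomial (e u v) (c : ℤ) := by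
  have hc : (c : R) = monomial (0 : Idx) (c : ℤ) := by
    rw [monomial_zero_eq_C_apply, map_natCast]
  rw [hc, yy, zz, X_pow_eq, X_pow_eq, monomial_mul_monomial, monomial_mul_monomial]
  simp [e]

lemma coeff_mon (n : Idx) (c u v : ℕ) :
    coeff n ((c : R) * yy ^ u * zz ^ v) = if n = e u v then (c : ℤ) else 0 := by
  classical
  rw [mon_eq, coeff_monomial]

lemma NN_mon (c u v : ℕ) : NN ((c : R) * yy ^ u * zz ^ v) := fun n => by
  rw [coeff_mon]; split_ifs
  · exact Int.natCast_nonneg c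
  · exact le_refl _

noncomputable def Pser (b : ℕ) : R :=
  ∑ u ∈ Finset.range (b + 1), ∑ v ∈ Finset.range (b + 1),
    if 1 ≤ u ∧ 1 ≤ v ∧ u + v ≤ b then (b.choose (u + v) : R) * yy ^ u * zz ^ v else 0

noncomputable def Nser (b : ℕ) : R :=
  ∑ u ∈ Finset.range b, ∑ v ∈ Finset.range b,
    if u + v + 1 ≤ b - 1 then ((b - 1).choose (u + v + 1) : R) * yy ^ u * zz ^ v else 0

lemma NN_Pser (b : ℕ) : NN (Pser b) := by
  unfold Pser
  refine NN.sum _ _ fun u _ => NN.sum _ _ fun v _ => ?_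
  split_ifs
  · exact NN_mon _ _ _
  · exact NN.zero

lemma NN_Nser (b : ℕ) : NN (Nser b) := by
  unfold Nser
  refine NN.sum _ _ fun u _ => NN.sum _ _ fun v _ => ?_
  split_ifs
  · exact NN_mon _ _ _
  · exact NN.zero

lemma NN_ite_mon (P : Prop) [Decidable P] (c u v : ℕ) :
    NN (if P then (c : R) * yy ^ u * zz ^ v else 0) := by
  split_ifs
  · exact NN_mon _ _ _
  · exact NN.zero

lemma coeff_Pser_ne_zero_iff (b : ℕ) (n : Idx) :
    coeff n (Pser b) ≠ 0 ↔ 1 ≤ n 0 ∧ 1 ≤ n 1 ∧ n 0 + n 1 ≤ b := by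
  unfold Pser
  rw [coeff_sum_ne_zero_iff _ _ (fun u _ => NN.sum _ _ fun v _ => NN_ite_mon _ _ _ _)]
  constructor
  · rintro ⟨u, hu, h⟩
    rw [coeff_sum_ne_zero_iff _ _ (fun v _ => NN_ite_mon _ _ _ _)] at h
    obtain ⟨v, hv, h⟩ := h
    split_ifs at h with hc
    · rw [coeff_mon] at h
      split_ifs at h with hn
      · rw [hn, e_zero, e_one]; exact hc
      · exact absurd rfl h
    · rw [map_zero] at h; exact absurd rfl h
  · rintro ⟨h0, h1, h2⟩
    refine ⟨n 0, Finset.mem_range.mpr (by omega), ?_⟩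
    rw [coeff_sum_ne_zero_iff _ _ (fun v _ => NN_ite_mon _ _ _ _)]
    refine ⟨n 1, Finset.mem_range.mpr (by omega), ?_⟩
    rw [if_pos ⟨h0, h1, h2⟩, coeff_mon, if_pos (eq_e n)]
    have : 0 < b.choose (n 0 + n 1) := Nat.choose_pos h2
    exact_mod_cast this.ne'

lemma coeff_Nser_ne_zero_iff (b : ℕ) (hb : 1 ≤ b) (n : Idx) :
    coeff n (Nser b) ≠ 0 ↔ n 0 + n 1 + 2 ≤ b := by
  unfold Nser
  rw [coeff_sum_ne_zero_iff _ _ (fun u _ => NN.sum _ _ fun v _ => NN_ite_mon _ _ _ _)]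
  constructor
  · rintro ⟨u, hu, h⟩
    rw [coeff_sum_ne_zero_iff _ _ (fun v _ => NN_ite_mon _ _ _ _)] at h
    obtain ⟨v, hv, h⟩ := h
    split_ifs at h with hc
    · rw [coeff_mon] at h
      split_ifs at h with hn
      · rw [hn, e_zero, e_one]; omega
      · exact absurd rfl h
    · rw [map_zero] at h; exact absurd rfl h
  · intro h2
    refine ⟨n 0, Finset.mem_range.mpr (by omega), ?_⟩
    rw [coeff_sum_ne_zero_iff _ _ (fun v _ => NN_ite_mon _ _ _ _)]
    refine ⟨n 1, Finset.mem_range.mpr (by omega), ?_⟩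
    rw [if_pos (by omega), coeff_mon, if_pos (eq_e n)]
    have : 0 < (b - 1).choose (n 0 + n 1 + 1) := Nat.choose_pos (by omega)
    exact_mod_cast this.ne'


/-- the support of the hypersurface series of degree `a`. -/
def SH (a : ℕ) (n : Idx) : Prop := ∃ k, k ≤ n 0 ∧ k ≤ n 1 ∧ n 0 + n 1 + 2 ≤ (k + 1) * a

lemma SH_iff (a : ℕ) (n : Idx) :
    SH a n ↔ (n 0 + n 1 + 2 ≤ a) ∨
      ∃ i j : Idx, i + j = n ∧ (1 ≤ i 0 ∧ 1 ≤ i 1 ∧ i 0 + i 1 ≤ a) ∧ SH a j := by
  constructor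
  · rintro ⟨k, hk0, hk1, hk⟩
    rcases Nat.eq_zero_or_pos k with rfl | hkpos
    · left; simpa using hk
    · right
      obtain ⟨k', rfl⟩ : ∃ k', k = k' + 1 := ⟨k - 1, by omega⟩
      have ha2 : 2 ≤ a := by
        by_contra hlt
        have h1 : a ≤ 1 := by omega
        have h2 : (k' + 1 + 1) * a ≤ (k' + 1 + 1) * 1 := Nat.mul_le_mul_left _ h1
        omega
      have h1 : (k' + 1 + 1) * a = (k' + 1) * a + a := Nat.succ_mul _ _
      have h2 : (k' + 1) * 2 ≤ (k' + 1) * a := Nat.mul_le_mul_left _ ha2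
      rw [h1] at hk
      clear h1
      generalize hka : (k' + 1) * a = ka at *
      have key : ∃ u v, 1 ≤ u ∧ 1 ≤ v ∧ u + v ≤ a ∧ u ≤ n 0 ∧ v ≤ n 1 ∧ k' ≤ n 0 - u ∧
          k' ≤ n 1 - v ∧ (n 0 - u) + (n 1 - v) + 2 ≤ ka := by
        by_cases hA : n 0 + n 1 ≤ ka
        · exact ⟨1, 1, by omega, by omega, by omega, by omega, by omega, by omega, by omega,
            by omega⟩
        · by_cases hB : n 0 + n 1 + 2 - ka - 1 ≤ n 0 - (k' + 1) + 1
          · exact ⟨n 0 + n 1 + 2 - ka - 1, 1, by omega, by omega, by omega, by omega, by omega,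
              by omega, by omega, by omega⟩
          · exact ⟨n 0 - (k' + 1) + 1, n 0 + n 1 + 2 - ka - (n 0 - (k' + 1) + 1), by omega,
              by omega, by omega, by omega, by omega, by omega, by omega, by omega⟩
      obtain ⟨u, v, hu, hv, huv, hu0, hv1, hk0', hk1', hsum⟩ := key
      refine ⟨e u v, e (n 0 - u) (n 1 - v), ?_,
        ⟨by rw [e_zero]; exact hu, by rw [e_one]; exact hv, by rw [e_zero, e_one]; exact huv⟩,
        ⟨k', by rw [e_zero]; exact hk0', by rw [e_one]; exact hk1',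
          by rw [e_zero, e_one, hka]; exact hsum⟩⟩
      apply idx_ext
      · rw [Finsupp.add_apply, e_zero, e_zero]; omega
      · rw [Finsupp.add_apply, e_one, e_one]; omega
  · rintro (h | ⟨i, j, hij, ⟨hi0, hi1, hi⟩, ⟨k, hk0, hk1, hk⟩⟩)
    · exact ⟨0, Nat.zero_le _, Nat.zero_le _, by simpa using h⟩
    · subst hij
      refine ⟨k + 1, ?_, ?_, ?_⟩
      · rw [Finsupp.add_apply]; omega
      · rw [Finsupp.add_apply]; omega
      · rw [Finsupp.add_apply, Finsupp.add_apply, Nat.succ_mul]; omega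

lemma H_char (a : ℕ) (ha : 1 ≤ a) (Hh : R) (hH : (1 - Pser a) * Hh = Nser a) :
    ∀ m : ℕ, ∀ n : Idx, n 0 + n 1 = m → (0 ≤ coeff n Hh ∧ (coeff n Hh ≠ 0 ↔ SH a n)) := by
  classical
  have hrec : Hh = Nser a + Pser a * Hh := by rw [← hH]; ring
  intro m
  induction m using Nat.strong_induction_on with
  | _ m ih =>
    intro n hn
    have hterm : ∀ x ∈ Finset.antidiagonal n,
        0 ≤ coeff x.1 (Pser a) * coeff x.2 Hh ∧
        (coeff x.1 (Pser a) * coeff x.2 Hh ≠ 0 ↔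
          ((1 ≤ x.1 0 ∧ 1 ≤ x.1 1 ∧ x.1 0 + x.1 1 ≤ a) ∧ SH a x.2)) := by
      intro x hx
      rw [Finset.mem_antidiagonal] at hx
      by_cases hP : coeff x.1 (Pser a) = 0
      · rw [hP, zero_mul]
        refine ⟨le_refl _, ?_⟩
        constructor
        · intro h; exact absurd rfl h
        · rintro ⟨h1, -⟩
          exact absurd hP ((coeff_Pser_ne_zero_iff a x.1).mpr h1)
      · have hP' := (coeff_Pser_ne_zero_iff a x.1).mp hP
        have hdeg : x.2 0 + x.2 1 < m := by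
          have h0 := DFunLike.congr_fun hx 0
          have h1 := DFunLike.congr_fun hx 1
          rw [Finsupp.add_apply] at h0 h1
          omega
        obtain ⟨hnn, hiff⟩ := ih _ hdeg x.2 rfl
        refine ⟨mul_nonneg (NN_Pser a _) hnn, ?_⟩
        rw [mul_ne_zero_iff, hiff]
        constructor
        · rintro ⟨_, h2⟩; exact ⟨hP', h2⟩
        · rintro ⟨_, h2⟩; exact ⟨hP, h2⟩
    have hcoeff : coeff n Hh = coeff n (Nser a) +
        ∑ x ∈ Finset.antidiagonal n, coeff x.1 (Pser a) * coeff x.2 Hh := by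
      conv_lhs => rw [hrec]
      rw [map_add, coeff_mul]
    have hN := NN_Nser a n
    have hS : 0 ≤ ∑ x ∈ Finset.antidiagonal n, coeff x.1 (Pser a) * coeff x.2 Hh :=
      Finset.sum_nonneg fun x hx => (hterm x hx).1
    refine ⟨by rw [hcoeff]; exact add_nonneg hN hS, ?_⟩
    rw [hcoeff, SH_iff]
    have hsum : (∑ x ∈ Finset.antidiagonal n, coeff x.1 (Pser a) * coeff x.2 Hh) ≠ 0 ↔
        ∃ i j : Idx, i + j = n ∧ (1 ≤ i 0 ∧ 1 ≤ i 1 ∧ i 0 + i 1 ≤ a) ∧ SH a j := by
      rw [Ne, Finset.sum_eq_zero_iff_of_nonneg (fun x hx => (hterm x hx).1)]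
      constructor
      · intro h
        by_contra hc
        apply h
        intro x hx
        by_contra hne
        exact hc ⟨x.1, x.2, Finset.mem_antidiagonal.mp hx, ((hterm x hx).2.mp hne)⟩
      · rintro ⟨i, j, hij, h⟩ hall
        have hx : (i, j) ∈ Finset.antidiagonal n := Finset.mem_antidiagonal.mpr hij
        exact ((hterm (i, j) hx).2.mpr h) (hall (i, j) hx)
    rw [← hsum, ← coeff_Nser_ne_zero_iff a ha n]
    constructor
    · intro h
      by_contra hc
      push Not at hc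
      rw [hc.1, hc.2, add_zero] at h
      exact h rfl
    · rintro (h | h) <;> omega

lemma NN_H (a : ℕ) (ha : 1 ≤ a) (Hh : R) (hH : (1 - Pser a) * Hh = Nser a) : NN Hh :=
  fun n => (H_char a ha Hh hH _ n rfl).1

lemma coeff_H_ne_zero_iff (a : ℕ) (ha : 1 ≤ a) (Hh : R) (hH : (1 - Pser a) * Hh = Nser a)
    (n : Idx) : coeff n Hh ≠ 0 ↔ SH a n :=
  (H_char a ha Hh hH _ n rfl).2

/-- `(1+y)(1+z)` -/
noncomputable def BB : R := (1 + yy) * (1 + zz)

lemma one_eq_mon : (1 : R) = ((1 : ℕ) : R) * yy ^ 0 * zz ^ 0 := by simp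
lemma yy_eq_mon : yy = ((1 : ℕ) : R) * yy ^ 1 * zz ^ 0 := by simp
lemma zz_eq_mon : zz = ((1 : ℕ) : R) * yy ^ 0 * zz ^ 1 := by simp

lemma NN_yy : NN yy := by rw [yy_eq_mon]; exact NN_mon _ _ _
lemma NN_zz : NN zz := by rw [zz_eq_mon]; exact NN_mon _ _ _

lemma coeff_one_ne_zero_iff (n : Idx) : coeff n (1 : R) ≠ 0 ↔ n 0 = 0 ∧ n 1 = 0 := by
  rw [one_eq_mon, coeff_mon]
  constructor
  · intro h
    split_ifs at h with hn
    · rw [hn, e_zero, e_one]; exact ⟨rfl, rfl⟩
    · exact absurd rfl h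
  · rintro ⟨h0, h1⟩
    rw [if_pos (idx_ext (by rw [e_zero]; exact h0) (by rw [e_one]; exact h1))]
    norm_num

lemma coeff_yy_ne_zero_iff (n : Idx) : coeff n yy ≠ 0 ↔ n 0 = 1 ∧ n 1 = 0 := by
  rw [yy_eq_mon, coeff_mon]
  constructor
  · intro h
    split_ifs at h with hn
    · rw [hn, e_zero, e_one]; exact ⟨rfl, rfl⟩
    · exact absurd rfl h
  · rintro ⟨h0, h1⟩
    rw [if_pos (idx_ext (by rw [e_zero]; exact h0) (by rw [e_one]; exact h1))]
    norm_num

lemma coeff_zz_ne_zero_iff (n : Idx) : coeff n zz ≠ 0 ↔ n 0 = 0 ∧ n 1 = 1 := by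
  rw [zz_eq_mon, coeff_mon]
  constructor
  · intro h
    split_ifs at h with hn
    · rw [hn, e_zero, e_one]; exact ⟨rfl, rfl⟩
    · exact absurd rfl h
  · rintro ⟨h0, h1⟩
    rw [if_pos (idx_ext (by rw [e_zero]; exact h0) (by rw [e_one]; exact h1))]
    norm_num

lemma NN_BB : NN BB := (NN.one.add NN_yy).mul (NN.one.add NN_zz)

lemma coeff_BB_ne_zero_iff (n : Idx) : coeff n BB ≠ 0 ↔ n 0 ≤ 1 ∧ n 1 ≤ 1 := by
  unfold BB
  rw [coeff_mul_ne_zero_iff (NN.one.add NN_yy) (NN.one.add NN_zz)]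
  constructor
  · rintro ⟨i, j, hij, hi, hj⟩
    rw [coeff_add_ne_zero_iff NN.one NN_yy, coeff_one_ne_zero_iff, coeff_yy_ne_zero_iff] at hi
    rw [coeff_add_ne_zero_iff NN.one NN_zz, coeff_one_ne_zero_iff, coeff_zz_ne_zero_iff] at hj
    subst hij
    rw [Finsupp.add_apply, Finsupp.add_apply]
    omega
  · rintro ⟨h0, h1⟩
    refine ⟨e (n 0) 0, e 0 (n 1), ?_, ?_, ?_⟩
    · rw [e_add]; conv_rhs => rw [eq_e n]
      simp
    · rw [coeff_add_ne_zero_iff NN.one NN_yy, coeff_one_ne_zero_iff, coeff_yy_ne_zero_iff,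
        e_zero, e_one]
      omega
    · rw [coeff_add_ne_zero_iff NN.one NN_zz, coeff_one_ne_zero_iff, coeff_zz_ne_zero_iff,
        e_zero, e_one]
      omega

lemma coeff_BB_pow_ne_zero_iff (m : ℕ) : ∀ n : Idx,
    coeff n (BB ^ m) ≠ 0 ↔ n 0 ≤ m ∧ n 1 ≤ m := by
  induction m with
  | zero =>
    intro n
    rw [pow_zero, coeff_one_ne_zero_iff]; omega
  | succ m ih =>
    intro n
    rw [pow_succ, coeff_mul_ne_zero_iff (NN_BB.pow m) NN_BB]
    constructor
    · rintro ⟨i, j, hij, hi, hj⟩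
      rw [ih] at hi
      rw [coeff_BB_ne_zero_iff] at hj
      subst hij
      rw [Finsupp.add_apply, Finsupp.add_apply]
      omega
    · rintro ⟨h0, h1⟩
      refine ⟨e (n 0 - (n 0 - m)) (n 1 - (n 1 - m)), e (n 0 - m) (n 1 - m), ?_, ?_, ?_⟩
      · apply idx_ext
        · rw [Finsupp.add_apply, e_zero, e_zero]; omega
        · rw [Finsupp.add_apply, e_one, e_one]; omega
      · rw [ih, e_zero, e_one]; omega
      · rw [coeff_BB_ne_zero_iff, e_zero, e_one]; omega


/-- the total series `H`. -/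
noncomputable def Htot (d : ℕ) (Hs : Fin d → R) : R :=
  ∑ P ∈ (Finset.univ : Finset (Fin d)).powerset with P.Nonempty,
    BB ^ (P.card - 1) * ∏ i ∈ P, Hs i

lemma coeff_Htot_ne_zero_iff (d : ℕ) (a : Fin d → ℕ) (ha : ∀ i, 1 ≤ a i) (Hs : Fin d → R)
    (hHs : ∀ i, (1 - Pser (a i)) * Hs i = Nser (a i)) (n : Idx) :
    coeff n (Htot d Hs) ≠ 0 ↔ ∃ P : Finset (Fin d), P.Nonempty ∧ ∃ mm jj : Idx, mm + jj = n ∧
      (mm 0 ≤ P.card - 1 ∧ mm 1 ≤ P.card - 1) ∧
      ∃ G : Fin d → Idx, (∀ i ∈ P, SH (a i) (G i)) ∧ ∑ i ∈ P, G i = jj := by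
  classical
  have hNN : ∀ i, NN (Hs i) := fun i => NN_H (a i) (ha i) (Hs i) (hHs i)
  unfold Htot
  rw [coeff_sum_ne_zero_iff _ _ (fun P _ => (NN_BB.pow _).mul (NN.prod _ _ fun i _ => hNN i))]
  constructor
  · rintro ⟨P, hP, h⟩
    rw [Finset.mem_filter] at hP
    rw [coeff_mul_ne_zero_iff (NN_BB.pow _) (NN.prod _ _ fun i _ => hNN i)] at h
    obtain ⟨mm, jj, hsum, hmm, hjj⟩ := h
    rw [coeff_BB_pow_ne_zero_iff] at hmm
    rw [coeff_prod_ne_zero_iff _ _ (fun i _ => hNN i)] at hjj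
    obtain ⟨G, hG, hGs⟩ := hjj
    exact ⟨P, hP.2, mm, jj, hsum, hmm, G,
      fun i hi => (coeff_H_ne_zero_iff _ (ha i) _ (hHs i) _).mp (hG i hi), hGs⟩
  · rintro ⟨P, hP, mm, jj, hsum, hmm, G, hG, hGs⟩
    refine ⟨P, Finset.mem_filter.mpr ⟨Finset.mem_powerset.mpr (Finset.subset_univ _), hP⟩, ?_⟩
    rw [coeff_mul_ne_zero_iff (NN_BB.pow _) (NN.prod _ _ fun i _ => hNN i)]
    refine ⟨mm, jj, hsum, (coeff_BB_pow_ne_zero_iff _ _).mpr hmm, ?_⟩
    rw [coeff_prod_ne_zero_iff _ _ (fun i _ => hNN i)]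
    exact ⟨G, fun i hi => (coeff_H_ne_zero_iff _ (ha i) _ (hHs i) _).mpr (hG i hi), hGs⟩

lemma distribute {ι : Type*} [DecidableEq ι] (P : Finset ι) (cp : ι → ℕ) :
    ∀ Q, Q ≤ ∑ i ∈ P, cp i → ∃ x : ι → ℕ, (∀ i ∈ P, x i ≤ cp i) ∧ ∑ i ∈ P, x i = Q := by
  induction P using Finset.induction_on with
  | empty =>
    intro Q hQ
    rw [Finset.sum_empty] at hQ
    exact ⟨fun _ => 0, by simp, by rw [Finset.sum_empty]; omega⟩
  | insert i s hi ih =>
    intro Q hQ
    rw [Finset.sum_insert hi] at hQ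
    obtain ⟨x, hx, hxs⟩ := ih (Q - cp i) (by omega)
    refine ⟨Function.update x i (Q - (Q - cp i)), ?_, ?_⟩
    · intro j hj
      rcases Finset.mem_insert.mp hj with rfl | hj
      · rw [Function.update_self]; omega
      · have : j ≠ i := fun hh => hi (hh ▸ hj)
        rw [Function.update_of_ne this]; exact hx j hj
    · rw [Finset.sum_insert hi, Function.update_self]
      have : ∑ j ∈ s, Function.update x i (Q - (Q - cp i)) j = ∑ j ∈ s, x j := by
        apply Finset.sum_congr rfl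
        intro j hj
        have : j ≠ i := fun hh => hi (hh ▸ hj)
        rw [Function.update_of_ne this]
      rw [this, hxs]; omega

lemma final_mp (d : ℕ) (a : Fin d → ℕ) (ha : ∀ i, 1 ≤ a i) (p q : ℕ)
    (P : Finset (Fin d)) (hP : P.Nonempty) (mm jj : Idx) (hsum : mm + jj = e p q)
    (hm0 : mm 0 ≤ P.card - 1) (hm1 : mm 1 ≤ P.card - 1) (G : Fin d → Idx)
    (hG : ∀ i ∈ P, SH (a i) (G i)) (hGs : ∑ i ∈ P, G i = jj) :
    p + q + d < p * Finset.univ.sup a + ∑ i, a i := by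
  classical
  set A := Finset.univ.sup a with hA
  have haA : ∀ i, a i ≤ A := fun i => Finset.le_sup (Finset.mem_univ i)
  obtain ⟨i1, hi1⟩ := hP
  have hA1 : 1 ≤ A := le_trans (ha i1) (haA i1)
  have hterm : ∀ i ∈ P, G i 0 + G i 1 + 2 ≤ a i + A * G i 0 := by
    intro i hi
    obtain ⟨k, hk0, hk1, hk⟩ := hG i hi
    have h1 : (k + 1) * a i = k * a i + a i := Nat.succ_mul _ _
    have h2 : k * a i ≤ G i 0 * A := Nat.mul_le_mul hk0 (haA i)
    rw [mul_comm (G i 0) A] at h2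
    omega
  have hsumP := Finset.sum_le_sum hterm
  simp only [Finset.sum_add_distrib, ← Finset.mul_sum, Finset.sum_const, smul_eq_mul] at hsumP
  have hj0 : jj 0 = ∑ i ∈ P, G i 0 := by rw [← hGs, Finsupp.finset_sum_apply]
  have hj1 : jj 1 = ∑ i ∈ P, G i 1 := by rw [← hGs, Finsupp.finset_sum_apply]
  have hp : mm 0 + jj 0 = p := by
    have := DFunLike.congr_fun hsum 0; rwa [Finsupp.add_apply, e_zero] at this
  have hq : mm 1 + jj 1 = q := by
    have := DFunLike.congr_fun hsum 1; rwa [Finsupp.add_apply, e_one] at this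
  have hcompl : ∑ i, a i = ∑ i ∈ P, a i + ∑ i ∈ Pᶜ, a i := (Finset.sum_add_sum_compl P a).symm
  have hc1 : Pᶜ.card ≤ ∑ i ∈ Pᶜ, a i := by
    calc Pᶜ.card = ∑ i ∈ Pᶜ, 1 := by simp
      _ ≤ ∑ i ∈ Pᶜ, a i := Finset.sum_le_sum fun i _ => ha i
  have hc2 : Pᶜ.card = d - P.card := by rw [Finset.card_compl, Fintype.card_fin]
  have hcd : P.card ≤ d := by
    have := Finset.card_le_univ P; rwa [Fintype.card_fin] at this
  have hcpos : 1 ≤ P.card := Finset.card_pos.mpr ⟨i1, hi1⟩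
  have hpA : p * A = A * mm 0 + A * jj 0 := by rw [← hp]; ring
  have hsA : mm 0 ≤ A * mm 0 := Nat.le_mul_of_pos_left _ hA1
  rw [← hj0, ← hj1] at hsumP
  omega

lemma final_mpr (d : ℕ) (a : Fin d → ℕ) (ha : ∀ i, 1 ≤ a i) (p q : ℕ) (hpq : p ≤ q)
    (h : p + q + d < p * Finset.univ.sup a + ∑ i, a i) :
    ∃ P : Finset (Fin d), P.Nonempty ∧ ∃ mm jj : Idx, mm + jj = e p q ∧
      (mm 0 ≤ P.card - 1 ∧ mm 1 ≤ P.card - 1) ∧
      ∃ G : Fin d → Idx, (∀ i ∈ P, SH (a i) (G i)) ∧ ∑ i ∈ P, G i = jj := by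
  classical
  set A := Finset.univ.sup a with hA
  have haA : ∀ i, a i ≤ A := fun i => Finset.le_sup (Finset.mem_univ i)
  set P : Finset (Fin d) := Finset.univ.filter (fun i => 2 ≤ a i) with hPdef
  have hmemP : ∀ i, i ∈ P ↔ 2 ≤ a i := fun i => by simp [hPdef]
  have hcompl : ∑ i, a i = ∑ i ∈ P, a i + ∑ i ∈ Pᶜ, a i := (Finset.sum_add_sum_compl P a).symm
  have hc1 : ∑ i ∈ Pᶜ, a i = Pᶜ.card := by
    rw [Finset.card_eq_sum_ones]
    apply Finset.sum_congr rfl
    intro i hi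
    rw [Finset.mem_compl, hmemP] at hi
    have := ha i; omega
  have hc2 : Pᶜ.card = d - P.card := by rw [Finset.card_compl, Fintype.card_fin]
  have hcd : P.card ≤ d := by
    have := Finset.card_le_univ P; rwa [Fintype.card_fin] at this
  have hstar : p + q + P.card < p * A + ∑ i ∈ P, a i := by omega
  have hPne : P.Nonempty := by
    by_contra hne
    rw [Finset.not_nonempty_iff_eq_empty] at hne
    have hA1 : A ≤ 1 := by
      apply Finset.sup_le
      intro i _
      have : i ∉ P := by rw [hne]; exact Finset.notMem_empty i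
      rw [hmemP] at this; omega
    have : p * A ≤ p * 1 := Nat.mul_le_mul_left _ hA1
    rw [hne] at hstar
    simp at hstar
    omega
  obtain ⟨j0, hj0⟩ := hPne
  haveI : Nonempty (Fin d) := ⟨j0⟩
  obtain ⟨i₀, -, hi₀⟩ := Finset.exists_mem_eq_sup Finset.univ Finset.univ_nonempty a
  have hi₀' : a i₀ = A := hi₀.symm
  have hA2 : 2 ≤ A := le_trans ((hmemP j0).mp hj0) (haA j0)
  have hi₀P : i₀ ∈ P := (hmemP i₀).mpr (by omega)
  have hpA2 : p * 2 ≤ p * A := Nat.mul_le_mul_left _ hA2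
  have hp1A : (p + 1) * A = p * A + A := Nat.succ_mul _ _
  set cp : Fin d → ℕ := fun i => if i = i₀ then (p + 1) * A - 2 - 2 * p else a i - 2 with hcp
  have hcap : ∑ i ∈ P, cp i + 2 * P.card + 2 * p = ∑ i ∈ P, a i + p * A := by
    have h1 : ∀ i ∈ P, cp i + 2 = a i + (if i = i₀ then p * A - 2 * p else 0) := by
      intro i hi
      have h2a := (hmemP i).mp hi
      simp only [hcp]
      split_ifs with hii
      · have hai : a i = A := by rw [hii]; exact hi₀'
        omega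
      · omega
    have h2 := Finset.sum_congr rfl h1
    simp only [Finset.sum_add_distrib, Finset.sum_ite_eq', hi₀P, if_true, Finset.sum_const,
      smul_eq_mul] at h2
    omega
  obtain ⟨t, Q', ht, hQ', htQ⟩ : ∃ t Q', t ≤ P.card - 1 ∧ Q' ≤ ∑ i ∈ P, cp i ∧
      t + Q' = q - p := by
    by_cases hq : q - p ≤ P.card - 1
    · exact ⟨q - p, 0, hq, Nat.zero_le _, by omega⟩
    · exact ⟨P.card - 1, q - p - (P.card - 1), le_refl _, by omega, by omega⟩
  obtain ⟨x, hx, hxs⟩ := distribute P cp Q' hQ'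
  set G : Fin d → Idx := fun i => if i = i₀ then e p (p + x i) else e 0 (x i) with hGdef
  have hG0 : ∀ i, G i 0 = if i = i₀ then p else 0 := by
    intro i; simp only [hGdef]; split_ifs <;> rw [e_zero]
  have hG1 : ∀ i, G i 1 = (if i = i₀ then p else 0) + x i := by
    intro i; simp only [hGdef]; split_ifs
    · rw [e_one]
    · rw [e_one, zero_add]
  refine ⟨P, ⟨j0, hj0⟩, e 0 t, ∑ i ∈ P, G i, ?_,
    ⟨by rw [e_zero]; exact Nat.zero_le _, by rw [e_one]; exact ht⟩, G, ?_, rfl⟩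
  · apply idx_ext
    · rw [Finsupp.add_apply, e_zero, e_zero, Finsupp.finset_sum_apply]
      simp only [hG0, Finset.sum_ite_eq', hi₀P, if_true]
      omega
    · rw [Finsupp.add_apply, e_one, e_one, Finsupp.finset_sum_apply]
      simp only [hG1, Finset.sum_add_distrib, Finset.sum_ite_eq', hi₀P, if_true, hxs]
      omega
  · intro i hi
    have h0 := hG0 i
    have h1 := hG1 i
    have hxi := hx i hi
    by_cases hii : i = i₀
    · have hai : a i = A := by rw [hii]; exact hi₀'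
      rw [if_pos hii] at h0 h1
      simp only [hcp, if_pos hii] at hxi
      exact ⟨p, by omega, by omega, by rw [hai]; omega⟩
    · rw [if_neg hii] at h0 h1
      simp only [hcp, if_neg hii] at hxi
      have hai := (hmemP i).mp hi
      exact ⟨0, Nat.zero_le _, Nat.zero_le _, by omega⟩

theorem main (d : ℕ) (a : Fin d → ℕ) (ha : ∀ i, 1 ≤ a i) (Hs : Fin d → R) (p q : ℕ)
    (hpq : p ≤ q) (hHs : ∀ i, (1 - Pser (a i)) * Hs i = Nser (a i)) :
    coeff (Finsupp.single 0 p + Finsupp.single 1 q) (Htot d Hs) ≠ 0 ↔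
      p + q + d < p * Finset.univ.sup a + ∑ i, a i := by
  show coeff (e p q) (Htot d Hs) ≠ 0 ↔ _
  rw [coeff_Htot_ne_zero_iff d a ha Hs hHs]
  constructor
  · rintro ⟨P, hP, mm, jj, hsum, ⟨hm0, hm1⟩, G, hG, hGs⟩
    exact final_mp d a ha p q P hP mm jj hsum hm0 hm1 G hG hGs
  · exact final_mpr d a ha p q hpq

end Groth.Agent.H4.HodgeSer
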