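import Mathlib
import Groth.Prelude.Def_Flatn
import Groth.Agent.H4.HomJ

/-! helper4: separated locally quasi-finite morphisms locally of finite type have the property
that finitely many points of a fibre lie in an affine open (via Zariski's main theorem). -/

set_option autoImplicit false

universe u

open CategoryTheory CategoryTheory.Limits AlgebraicGeometry Opposite

noncomputable section

namespace Groth.Agent.H4.HomK

open Groth.Agent.H4.HomJ

lemma af_of_sep_lqf {X S : Scheme.{u}} (f : X ⟶ S) [IsSeparated f] [LocallyQuasiFinite f]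
    [LocallyOfFiniteType f] (s : S) (d : ℕ) (x : Fin d → ↥X) (hx : ∀ k, f (x k) = s) :
    ∃ U : X.Opens, IsAffineOpen U ∧ ∀ k, x k ∈ U := by
  obtain ⟨V₀, hV₀, hsV₀, -⟩ := exists_isAffineOpen_mem_and_subset (x := s)
    (U := (⊤ : S.Opens)) trivial
  have hxV : ∀ k, x k ∈ f ⁻¹ᵁ V₀ := fun k => by
    show f (x k) ∈ V₀
    rw [hx k]
    exact hsV₀
  choose Uk hUk hxUk hUkle using fun k => exists_isAffineOpen_mem_and_subset (hxV k)
  obtain ⟨Q, hQ⟩ : ∃ Q : X.Opens, Q = ⨆ k, Uk k := ⟨_, rfl⟩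
  have hQle : Q ≤ f ⁻¹ᵁ V₀ := by
    rw [hQ]
    exact iSup_le (fun k => hUkle k)
  have hQc : IsCompact (Q : Set X) := by
    rw [hQ, TopologicalSpace.Opens.coe_iSup]
    exact isCompact_iUnion (fun k => (hUk k).isCompact)
  haveI : CompactSpace ↥(Q : Scheme.{u}) := isCompact_iff_compactSpace.mp hQc
  haveI : IsAffine (V₀ : Scheme.{u}) := hV₀
  have hfQ : f.resLE V₀ Q hQle ≫ V₀.ι = Q.ι ≫ f := f.resLE_comp_ι hQle
  haveI : IsSeparated (f.resLE V₀ Q hQle) := by
    haveI : IsSeparated (f.resLE V₀ Q hQle ≫ V₀.ι) := by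
      rw [hfQ]
      infer_instance
    exact IsSeparated.of_comp (f.resLE V₀ Q hQle) V₀.ι
  haveI : LocallyOfFiniteType (f.resLE V₀ Q hQle) := by
    haveI : LocallyOfFiniteType (f.resLE V₀ Q hQle ≫ V₀.ι) := by
      rw [hfQ]
      infer_instance
    exact locallyOfFiniteType_of_comp (f.resLE V₀ Q hQle) V₀.ι
  haveI : IsAffine (f.resLE V₀ Q hQle).normalization :=
    isAffine_of_isAffineHom (f.resLE V₀ Q hQle).fromNormalization
  have hq : ∀ k, x k ∈ Q := fun k => by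
    rw [hQ]
    exact TopologicalSpace.Opens.mem_iSup.mpr ⟨k, hxUk k⟩
  obtain ⟨U₀, hU₀, -, hU₀le, hqU₀⟩ := exists_affine_le_of_finite
    (⊤ : (f.resLE V₀ Q hQle).normalization.Opens) (isAffineOpen_top _)
    (f.resLE V₀ Q hQle).toNormalization.opensRange
    (fun k => (f.resLE V₀ Q hQle).toNormalization ⟨x k, hq k⟩) (fun _ => trivial)
    (fun k => ⟨⟨x k, hq k⟩, rfl⟩)
  refine ⟨Q.ι ''ᵁ ((f.resLE V₀ Q hQle).toNormalization ⁻¹ᵁ U₀),
    (hU₀.preimage_of_isOpenImmersion _ hU₀le).image_of_isOpenImmersion _, fun k => ?_⟩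
  exact ⟨⟨x k, hq k⟩, hqU₀ k, rfl⟩

theorem main_sep_lqf {Z X S : Scheme.{u}} (g : Z ⟶ S) (f : X ⟶ S) (hg : Mor2.IsFinLocFree g)
    [IsSeparated f] [LocallyQuasiFinite f] [LocallyOfFiniteType f] :
    (Flatn.morS g f).IsRepresentable :=
  main g f hg (af_of_sep_lqf f)

end Groth.Agent.H4.HomK
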