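import Mathlib
import Groth.Agent.Lib.Helper9.FF.Apps
import Groth.Agent.Lib.Helper9.FF.FGSub

/-!
# k-points of affine group schemes over an algebraically closed field (algebra side)

For a commutative Hopf algebra `A` over an algebraically closed field `k` (not necessarily finitely
generated): every `k`-point of a sub-Hopf-algebra extends to a `k`-point of `A` (`exists_extend`),
`k`-points separate non-nilpotent elements (`exists_point_ne_zero`), and `k`-points lift along
bialgebra maps which are surjective on spectra (`exists_lift`).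
-/

set_option autoImplicit false
set_option linter.style.haveILetI false

namespace Groth.Agent.H4.HpA

open TensorProduct Groth.Agent.H9.FF

universe u v w

section Alg

variable {k : Type u} [Field k] {A : Type v} [CommRing A] [HopfAlgebra k A]

lemma range_map_le_of_le {C E : Subalgebra k A} (h : C ≤ E) :
    LinearMap.range (TensorProduct.map C.val.toLinearMap C.val.toLinearMap) ≤
      LinearMap.range (TensorProduct.map E.val.toLinearMap E.val.toLinearMap) := by
  have hj : C.val.toLinearMap = E.val.toLinearMap ∘ₗ (Subalgebra.inclusion h).toLinearMap := by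
    ext d; rfl
  rw [hj, TensorProduct.map_comp]
  exact LinearMap.range_comp_le_range _ _

lemma isHopfSub_sup {C D : Subalgebra k A} (hC : IsHopfSub k A C) (hD : IsHopfSub k A D) :
    IsHopfSub k A (C ⊔ D) := by
  constructor
  · let Rng : Subalgebra k (A ⊗[k] A) :=
      (Algebra.TensorProduct.map (C ⊔ D).val (C ⊔ D).val).range
    have hRng : ∀ z, z ∈ Rng ↔ z ∈ LinearMap.range
        (TensorProduct.map (C ⊔ D).val.toLinearMap (C ⊔ D).val.toLinearMap) := by
      intro z
      rfl
    have hle : C ⊔ D ≤ Rng.comap (Bialgebra.comulAlgHom k A) := by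
      apply sup_le
      · intro c hc
        rw [Subalgebra.mem_comap, hRng]
        exact range_map_le_of_le le_sup_left (hC.comul_mem c hc)
      · intro d hd
        rw [Subalgebra.mem_comap, hRng]
        exact range_map_le_of_le le_sup_right (hD.comul_mem d hd)
    intro b hb
    exact (hRng _).mp (hle hb)
  · have hle : C ⊔ D ≤ (C ⊔ D).comap (HopfAlgebra.antipodeAlgHom k A) := by
      apply sup_le
      · intro c hc
        rw [Subalgebra.mem_comap]
        exact (le_sup_left : C ≤ C ⊔ D) (hC.antipode_mem c hc)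
      · intro d hd
        rw [Subalgebra.mem_comap]
        exact (le_sup_right : D ≤ C ⊔ D) (hD.antipode_mem d hd)
    intro b hb
    exact hle hb

lemma isHopfSub_iSup {ι : Type*} [Nonempty ι] (K : ι → Subalgebra k A)
    (dir : Directed (· ≤ ·) K) (hK : ∀ i, IsHopfSub k A (K i)) : IsHopfSub k A (iSup K) := by
  have hmem : ∀ b, b ∈ iSup K → ∃ i, b ∈ K i := by
    intro b hb
    have hb' : b ∈ ((iSup K : Subalgebra k A) : Set A) := hb
    rw [Subalgebra.coe_iSup_of_directed dir, Set.mem_iUnion] at hb'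
    exact hb'
  constructor
  · intro b hb
    obtain ⟨i, hi⟩ := hmem b hb
    exact range_map_le_of_le (le_iSup K i) ((hK i).comul_mem b hi)
  · intro b hb
    obtain ⟨i, hi⟩ := hmem b hb
    exact (le_iSup K i) ((hK i).antipode_mem b hi)

end Alg

section Pt

lemma exists_algHom_of_maximal {k : Type u} [Field k] [IsAlgClosed k] {R : Type v} [CommRing R]
    [Algebra k R] (m : Ideal R) [hm : m.IsMaximal] (hft : Algebra.FiniteType k (R ⧸ m)) :
    ∃ x : R →ₐ[k] k, ∀ r, x r = 0 ↔ r ∈ m := by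
  letI : Field (R ⧸ m) := Ideal.Quotient.field m
  haveI := hft
  haveI : Module.Finite k (R ⧸ m) := finite_of_finite_type_of_isJacobsonRing _ _
  have hbij : Function.Bijective (algebraMap k (R ⧸ m)) :=
    IsAlgClosed.algebraMap_bijective_of_isIntegral
  let e : k ≃ₐ[k] (R ⧸ m) := AlgEquiv.ofBijective (Algebra.ofId _ _) hbij
  refine ⟨(e.symm : (R ⧸ m) →ₐ[k] k).comp (Ideal.Quotient.mkₐ k m), fun r => ?_⟩
  constructor
  · intro h
    have h1 : e.symm (Ideal.Quotient.mk m r) = 0 := h
    have h2 : Ideal.Quotient.mk m r = 0 := by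
      have := congrArg e h1
      rwa [AlgEquiv.apply_symm_apply, map_zero] at this
    exact Ideal.Quotient.eq_zero_iff_mem.mp h2
  · intro h
    have h2 : Ideal.Quotient.mk m r = 0 := Ideal.Quotient.eq_zero_iff_mem.mpr h
    show e.symm (Ideal.Quotient.mk m r) = 0
    rw [h2, map_zero]

theorem exists_extend_step {k : Type u} [Field k] [IsAlgClosed k] {B : Type*} {C : Type*}
    {D : Type*} [CommRing B] [CommRing C] [CommRing D] [Algebra k B] [Algebra k C] [Algebra k D]
    [Algebra.FiniteType k D] (ι : B →ₐ[k] C) (δ : D →ₐ[k] C) (hsup : ι.range ⊔ δ.range = ⊤)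
    (x : B →ₐ[k] k) (hne : Ideal.map ι (RingHom.ker x) ≠ ⊤) :
    ∃ y : C →ₐ[k] k, ∀ b, y (ι b) = x b := by
  obtain ⟨M, hM, hIM⟩ := Ideal.exists_le_maximal _ hne
  have hmem : ∀ b : B, ι b - algebraMap k C (x b) ∈ M := by
    intro b
    have h1 : b - algebraMap k B (x b) ∈ RingHom.ker x := by
      rw [RingHom.mem_ker, map_sub, AlgHom.commutes]
      simp
    have h2 := hIM (Ideal.mem_map_of_mem ι h1)
    rwa [map_sub, AlgHom.commutes] at h2
  let π : C →ₐ[k] C ⧸ M := Ideal.Quotient.mkₐ k M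
  have hB : ∀ b, π (ι b) = algebraMap k (C ⧸ M) (x b) := by
    intro b
    have h3 : π (ι b - algebraMap k C (x b)) = 0 := Ideal.Quotient.eq_zero_iff_mem.mpr (hmem b)
    rw [map_sub, AlgHom.commutes, sub_eq_zero] at h3
    exact h3
  have hsurj : Function.Surjective (π.comp δ) := by
    have h1 : ι.range ⊔ δ.range ≤ (π.comp δ).range.comap π := by
      apply sup_le
      · rintro _ ⟨b, rfl⟩
        rw [Subalgebra.mem_comap]
        have hb : π (ι.toRingHom b) = algebraMap k (C ⧸ M) (x b) := hB b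
        rw [hb]
        exact Subalgebra.algebraMap_mem _ _
      · rintro _ ⟨d, rfl⟩
        rw [Subalgebra.mem_comap]
        exact AlgHom.mem_range_self (π.comp δ) d
    rw [hsup] at h1
    intro z
    obtain ⟨c, rfl⟩ := Ideal.Quotient.mk_surjective z
    have h2 := h1 (Algebra.mem_top : c ∈ (⊤ : Subalgebra k C))
    rw [Subalgebra.mem_comap] at h2
    obtain ⟨d, hd⟩ := (AlgHom.mem_range _).mp h2
    exact ⟨d, hd⟩
  have hft : Algebra.FiniteType k (C ⧸ M) := Algebra.FiniteType.of_surjective (π.comp δ) hsurj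
  obtain ⟨y, hy⟩ := exists_algHom_of_maximal M hft
  refine ⟨y, fun b => ?_⟩
  have h4 := (hy _).mpr (hmem b)
  rw [map_sub, AlgHom.commutes, sub_eq_zero] at h4
  rw [h4]
  simp

end Pt

section Zorn

variable {k : Type u} [Field k] {A : Type v} [CommRing A] [HopfAlgebra k A]

theorem step [IsAlgClosed k] {C D : Subalgebra k A} (hC : IsHopfSub k A C) (hDfg : D.FG)
    (x : C →ₐ[k] k) :
    ∃ y : ↥(C ⊔ D) →ₐ[k] k, ∀ c : C, y (Subalgebra.inclusion le_sup_left c) = x c := by
  haveI : Algebra.FiniteType k D := (Subalgebra.fg_iff_finiteType D).mp hDfg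
  let ι : C →ₐ[k] ↥(C ⊔ D) := Subalgebra.inclusion le_sup_left
  let δ : D →ₐ[k] ↥(C ⊔ D) := Subalgebra.inclusion le_sup_right
  have hsup : ι.range ⊔ δ.range = ⊤ := by
    apply Subalgebra.map_injective (f := (C ⊔ D).val) Subtype.val_injective
    rw [Algebra.map_sup, Algebra.map_top, Subalgebra.range_val, ← AlgHom.range_comp,
      ← AlgHom.range_comp]
    have h1 : (C ⊔ D).val.comp ι = C.val := AlgHom.ext fun _ => rfl
    have h2 : (C ⊔ D).val.comp δ = D.val := AlgHom.ext fun _ => rfl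
    rw [h1, h2, Subalgebra.range_val, Subalgebra.range_val]
  have hne : Ideal.map ι (RingHom.ker x) ≠ ⊤ := by
    intro htop
    have hxs : Function.Surjective x := fun r => ⟨algebraMap k C r, by simp⟩
    have hmax : (RingHom.ker x).IsMaximal := RingHom.ker_isMaximal_of_surjective x hxs
    haveI hff : Module.FaithfullyFlat C A := faithfullyFlat_of_isHopfSub C hC
    have hle : Ideal.map ι (RingHom.ker x) ≤
        Ideal.comap (C ⊔ D).val (Ideal.map (algebraMap C A) (RingHom.ker x)) := by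
      rw [Ideal.map_le_iff_le_comap]
      intro c hc
      exact Ideal.mem_map_of_mem (algebraMap C A) hc
    have h1 : (1 : A) ∈ Ideal.map (algebraMap C A) (RingHom.ker x) := by
      have h0 : (1 : ↥(C ⊔ D)) ∈ Ideal.map ι (RingHom.ker x) := htop ▸ Submodule.mem_top
      have h2 := hle h0
      rw [Ideal.mem_comap, map_one] at h2
      exact h2
    have h3 : Ideal.map (algebraMap C A) (RingHom.ker x) = ⊤ := (Ideal.eq_top_iff_one _).mpr h1
    refine Module.FaithfullyFlat.submodule_ne_top (R := ↥C) (M := A) hmax ?_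
    rw [Ideal.smul_top_eq_map, h3]
    rfl
  exact exists_extend_step ι δ hsup x hne

variable (k A) in
/-- a sub-Hopf-algebra together with a `k`-point -/
structure PPt where
  C : Subalgebra k A
  hC : IsHopfSub k A C
  x : C →ₐ[k] k

namespace PPt

instance : Preorder (PPt k A) where
  le P Q := ∃ h : P.C ≤ Q.C, ∀ c : P.C, Q.x (Subalgebra.inclusion h c) = P.x c
  le_refl P := ⟨le_rfl, fun c => congrArg P.x (Subtype.ext rfl)⟩
  le_trans P Q R := fun ⟨h1, h1'⟩ ⟨h2, h2'⟩ =>
    ⟨h1.trans h2, fun c => (h2' (Subalgebra.inclusion h1 c)).trans (h1' c)⟩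

lemma le_C {P Q : PPt k A} (h : P ≤ Q) : P.C ≤ Q.C := by
  obtain ⟨h1, _⟩ := h
  exact h1

lemma le_x {P Q : PPt k A} (h : P ≤ Q) (c : P.C) :
    Q.x (Subalgebra.inclusion (le_C h) c) = P.x c := by
  obtain ⟨h1, h2⟩ := h
  exact h2 c

end PPt

open PPt

theorem exists_extend [IsAlgClosed k] {C : Subalgebra k A} (hC : IsHopfSub k A C)
    (x : C →ₐ[k] k) : ∃ y : A →ₐ[k] k, ∀ c : C, y c = x c := by
  classical
  let P0 : PPt k A := ⟨C, hC, x⟩
  have hchain : ∀ c ⊆ Set.Ici P0, IsChain (· ≤ ·) c → ∀ y ∈ c, ∃ ub, ∀ z ∈ c, z ≤ ub := by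
    intro c _ hc y hy
    haveI : Nonempty c := ⟨⟨y, hy⟩⟩
    let K : c → Subalgebra k A := fun i => i.1.C
    have hcomp : ∀ i j : c, i.1 ≤ j.1 ∨ j.1 ≤ i.1 := fun i j => hc.total i.2 j.2
    have dir : Directed (· ≤ ·) K := by
      intro i j
      rcases hcomp i j with h | h
      · exact ⟨j, le_C h, le_rfl⟩
      · exact ⟨i, le_rfl, le_C h⟩
    have hf : ∀ (i j : c) (h : K i ≤ K j),
        i.1.x = (j.1.x).comp (Subalgebra.inclusion h) := by
      intro i j h
      refine AlgHom.ext fun a => ?_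
      rcases hcomp i j with hij | hji
      · exact (le_x hij a).symm
      · have h1 := le_x hji (Subalgebra.inclusion h a)
        exact (congrArg i.1.x (Subtype.ext rfl)).trans h1
    let Cs : Subalgebra k A := iSup K
    let xs : Cs →ₐ[k] k := Subalgebra.iSupLift K dir (fun i => i.1.x) hf Cs le_rfl
    refine ⟨⟨Cs, isHopfSub_iSup K dir (fun i => i.1.hC), xs⟩, fun z hz => ?_⟩
    refine ⟨le_iSup K ⟨z, hz⟩, fun a => ?_⟩
    exact Subalgebra.iSupLift_inclusion (K := K) (dir := dir) (f := fun i => i.1.x) (hf := hf)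
      (T := Cs) (hT := le_rfl) (i := ⟨z, hz⟩) a (le_iSup K ⟨z, hz⟩)
  obtain ⟨m, hP0m, hmax⟩ := zorn_le_nonempty_Ici₀ P0 hchain P0 le_rfl
  have htop : m.C = ⊤ := by
    by_contra hne
    obtain ⟨a, ha⟩ : ∃ a : A, a ∉ m.C := by
      by_contra hall
      push Not at hall
      exact hne (eq_top_iff.mpr (fun a _ => hall a))
    obtain ⟨D, hD, hDfg, haD⟩ := exists_fg_isHopfSub (k := k) ({a} : Finset A)
    have haD' : a ∈ D := haD (by simp)
    obtain ⟨y, hy⟩ := step m.hC hDfg m.x
    let Q : PPt k A := ⟨m.C ⊔ D, isHopfSub_sup m.hC hD, y⟩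
    have hmQ : m ≤ Q := ⟨le_sup_left, hy⟩
    have hQm : Q ≤ m := hmax hmQ
    exact ha (le_C hQm ((le_sup_right : D ≤ m.C ⊔ D) haD'))
  have hle0 : C ≤ m.C := le_C hP0m
  have hx0 : ∀ c : C, m.x (Subalgebra.inclusion hle0 c) = x c := le_x hP0m
  let y : A →ₐ[k] k := (m.x.comp (Subalgebra.inclusion htop.ge)).comp
    (Subalgebra.topEquiv (R := k) (A := A)).symm.toAlgHom
  refine ⟨y, fun c => ?_⟩
  have h1 : y c = m.x (Subalgebra.inclusion hle0 c) := congrArg m.x (Subtype.ext rfl)
  rw [h1, hx0]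

theorem exists_point_ne_zero [IsAlgClosed k] (f : A) (hf : ¬ IsNilpotent f) :
    ∃ y : A →ₐ[k] k, y f ≠ 0 := by
  classical
  obtain ⟨D, hD, hDfg, hfD⟩ := exists_fg_isHopfSub (k := k) ({f} : Finset A)
  have hfD' : f ∈ D := hfD (by simp)
  haveI : Algebra.FiniteType k D := (Subalgebra.fg_iff_finiteType D).mp hDfg
  let f' : D := ⟨f, hfD'⟩
  have hf' : ¬ IsNilpotent f' := fun h => hf (h.map D.val)
  haveI : IsJacobsonRing D := isJacobsonRing_of_finiteType (A := k) (B := D)
  have h1 : f' ∉ (⊥ : Ideal D).jacobson := by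
    rw [← Ideal.radical_eq_jacobson]
    intro h
    apply hf'
    obtain ⟨n, hn⟩ := Ideal.mem_radical_iff.mp h
    exact ⟨n, by simpa using hn⟩
  obtain ⟨J, hJmax, hfJ⟩ : ∃ J : Ideal D, J.IsMaximal ∧ f' ∉ J := by
    by_contra hcon
    apply h1
    rw [Ideal.jacobson, Ideal.mem_sInf]
    rintro J ⟨-, hJmax⟩
    by_contra hfJ
    exact hcon ⟨J, hJmax, hfJ⟩
  haveI := hJmax
  have hft : Algebra.FiniteType k (D ⧸ J) :=
    Algebra.FiniteType.of_surjective (Ideal.Quotient.mkₐ k J) Ideal.Quotient.mk_surjective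
  obtain ⟨x, hx⟩ := exists_algHom_of_maximal J hft
  obtain ⟨y, hy⟩ := exists_extend hD x
  refine ⟨y, ?_⟩
  have h2 : y f = x f' := hy f'
  rw [h2]
  intro h3
  exact hfJ ((hx f').mp h3)

theorem exists_lift [IsAlgClosed k] {A' : Type w} [CommRing A'] [HopfAlgebra k A']
    (φ : A' →ₐc[k] A)
    (hφ : Function.Surjective (PrimeSpectrum.comap ((φ : A' →ₐ[k] A) : A' →+* A)))
    (x' : A' →ₐ[k] k) : ∃ y : A →ₐ[k] k, ∀ a, y (φ a) = x' a := by
  classical
  let φ₀ : A' →ₐ[k] A := (φ : A' →ₐ[k] A)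
  have hB : IsHopfSub k A φ₀.range := isHopfSub_range φ
  have hker : ∀ a : A', φ a = 0 → x' a = 0 := by
    intro a ha
    have hxs : Function.Surjective x' := fun r => ⟨algebraMap k A' r, by simp⟩
    have hmax : (RingHom.ker x').IsMaximal := RingHom.ker_isMaximal_of_surjective x' hxs
    obtain ⟨P, hP⟩ := hφ ⟨RingHom.ker x', hmax.isPrime⟩
    have h1 : a ∈ (PrimeSpectrum.comap (φ₀ : A' →+* A) P).asIdeal := by
      rw [PrimeSpectrum.comap_asIdeal, Ideal.mem_comap]
      have h0 : (φ₀ : A' →+* A) a = 0 := ha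
      rw [h0]
      exact zero_mem _
    rw [hP] at h1
    exact (RingHom.mem_ker).mp h1
  let ρ : A' →ₐ[k] φ₀.range := φ₀.rangeRestrict
  have hρ : Function.Surjective ρ := φ₀.rangeRestrict_surjective
  have H : RingHom.ker ρ.toRingHom ≤ RingHom.ker x'.toRingHom := by
    intro a ha
    rw [RingHom.mem_ker] at ha ⊢
    exact hker a (congrArg Subtype.val ha)
  let x'' : φ₀.range →ₐ[k] k := AlgHom.liftOfSurjective ρ hρ x' H
  obtain ⟨y, hy⟩ := exists_extend hB x''
  refine ⟨y, fun a => ?_⟩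
  have h1 : y (φ a) = x'' (ρ a) := hy (ρ a)
  rw [h1]
  exact AlgHom.liftOfSurjective_apply ρ hρ x' H a

end Zorn

end Groth.Agent.H4.HpA
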