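import Mathlib
import Groth.Agent.H4.HpA
import Groth.Agent.Lib.Helper3.HopfBridge
import Groth.Agent.Lib.Helper9.Misc.NormQuo

/-!
# k-points of affine group schemes over an algebraically closed field (scheme side)
-/

set_option autoImplicit false
set_option linter.style.haveILetI false

universe u

open CategoryTheory MonoidalCategory CartesianMonoidalCategory MonObj GrpObj AlgebraicGeometry

namespace Groth.Agent.H4.HpB

section

variable (k : Type u) [Field k] (A : Type u) [CommRing A] [Algebra k A]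

/-- the `k`-point of `Spec A` attached to a `k`-algebra map `A → k` -/
noncomputable def pt (y : A →ₐ[k] k) :
    𝟙_ (Over (Spec (CommRingCat.of k))) ⟶ (Spec (.of A)).asOver (Spec (CommRingCat.of k)) :=
  Over.homMk (Spec.map (CommRingCat.ofHom (y : A →+* k))) (by
    show Spec.map (CommRingCat.ofHom (y : A →+* k)) ≫
      Spec.map (CommRingCat.ofHom (algebraMap k A)) = 𝟙 _
    rw [← Spec.map_comp, ← CommRingCat.ofHom_comp]
    have h1 : (y : A →+* k).comp (algebraMap k A) = RingHom.id k := by
      ext r; simp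
    rw [h1]
    exact Spec.map_id _)

lemma pt_left (y : A →ₐ[k] k) :
    (pt k A y).left = Spec.map (CommRingCat.ofHom (y : A →+* k)) := rfl

end

theorem dense_points (k : Type u) [Field k] [IsAlgClosed k]
    (G : Over (Spec (CommRingCat.of k))) [GrpObj G] [IsAffine G.left] :
    Dense {x : ↥G.left | ∃ g : 𝟙_ (Over (Spec (CommRingCat.of k))) ⟶ G,
      g.left.base (IsLocalRing.closedPoint k) = x} := by
  obtain ⟨A, _, _, e, he⟩ := Groth.Agent.H3.HopfBridge.exists_hopf (CommRingCat.of k) G
  rw [dense_iff_inter_open]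
  intro U hU hUne
  obtain ⟨q, hq⟩ := hUne
  let φ : Spec (.of A) ⟶ G.left := e.inv.left
  let ψ : G.left ⟶ Spec (.of A) := e.hom.left
  have hφψ : ∀ z, φ.base (ψ.base z) = z := by
    intro z
    have h0 := congrArg (fun t : G ⟶ G => t.left.base z) e.hom_inv_id
    exact h0
  let V : Set (PrimeSpectrum A) := φ.base ⁻¹' U
  have hV : IsOpen V := hU.preimage φ.continuous
  have hqV : ψ.base q ∈ V := by
    show φ.base (ψ.base q) ∈ U
    rw [hφψ]
    exact hq
  obtain ⟨_, ⟨_, ⟨f, rfl⟩, rfl⟩, hqf, hfsub⟩ :=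
    PrimeSpectrum.isBasis_basic_opens.exists_subset_of_mem_open hqV hV
  have hnil : ¬ IsNilpotent f := by
    rintro ⟨n, hn⟩
    have hq' : f ∉ (ψ.base q : PrimeSpectrum A).asIdeal := hqf
    apply hq'
    apply (ψ.base q : PrimeSpectrum A).isPrime.mem_of_pow_mem n
    rw [hn]
    exact zero_mem _
  obtain ⟨y, hy⟩ := Groth.Agent.H4.HpA.exists_point_ne_zero (k := k) f hnil
  let P : PrimeSpectrum A :=
    (Spec.map (CommRingCat.ofHom (y : A →+* k))).base (IsLocalRing.closedPoint k)
  have hP : P ∈ (PrimeSpectrum.basicOpen f : Set (PrimeSpectrum A)) := by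
    rw [SetLike.mem_coe, PrimeSpectrum.mem_basicOpen]
    intro hmem
    have h1 : (y : A →+* k) f ∈ IsLocalRing.maximalIdeal k := hmem
    rw [IsLocalRing.mem_maximalIdeal, mem_nonunits_iff] at h1
    exact h1 (isUnit_iff_ne_zero.mpr hy)
  exact ⟨φ.base P, hfsub hP, pt k A y ≫ e.inv, rfl⟩

theorem lift_points (k : Type u) [Field k] [IsAlgClosed k]
    (G G' : Over (Spec (CommRingCat.of k))) [GrpObj G] [GrpObj G'] [IsAffine G.left]
    [IsAffine G'.left] (h : G ⟶ G') [IsMonHom h] (hs : Surjective h.left)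
    (x : 𝟙_ (Over (Spec (CommRingCat.of k))) ⟶ G') :
    ∃ g : 𝟙_ (Over (Spec (CommRingCat.of k))) ⟶ G, g ≫ h = x := by
  obtain ⟨A, _, _, e, he⟩ := Groth.Agent.H3.HopfBridge.exists_hopf (CommRingCat.of k) G
  obtain ⟨A', _, _, e', he'⟩ := Groth.Agent.H3.HopfBridge.exists_hopf (CommRingCat.of k) G'
  haveI := he
  haveI := he'
  let j : (Spec (.of A)).asOver (Spec (CommRingCat.of k)) ⟶
      (Spec (.of A')).asOver (Spec (CommRingCat.of k)) := e.inv ≫ h ≫ e'.hom
  haveI : IsMonHom j := inferInstance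
  obtain ⟨π, hπ⟩ := Groth.Agent.H9.NormQuo.exists_bialgHom k A' A j
  have hjl : j.left = Spec.map (CommRingCat.ofHom ((π : A' →ₐ[k] A) : A' →+* A)) := by
    rw [← hπ, Groth.Agent.H9.CentGmSch.specHom_eq]
    rfl
  have hsurj : Function.Surjective (PrimeSpectrum.comap ((π : A' →ₐ[k] A) : A' →+* A)) := by
    intro q'
    obtain ⟨q2, hq2⟩ := hs.surj (e'.inv.left.base q')
    have hq2' : h.left.base q2 = e'.inv.left.base q' := hq2
    refine ⟨e.hom.left.base q2, ?_⟩
    have h1 : j.left.base (e.hom.left.base q2) = q' := by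
      have h2 : e.inv.left.base (e.hom.left.base q2) = q2 := by
        have h0 := congrArg (fun t : G ⟶ G => t.left.base q2) e.hom_inv_id
        exact h0
      have h3 : e'.hom.left.base (e'.inv.left.base q') = q' := by
        have h0 := congrArg (fun t : (Spec (.of A')).asOver (Spec (CommRingCat.of k)) ⟶
          (Spec (.of A')).asOver (Spec (CommRingCat.of k)) => t.left.base q') e'.inv_hom_id
        exact h0
      show e'.hom.left.base (h.left.base (e.inv.left.base (e.hom.left.base q2))) = q'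
      rw [h2, hq2', h3]
    rw [hjl] at h1
    exact h1
  let x' : 𝟙_ (Over (Spec (CommRingCat.of k))) ⟶
      (Spec (.of A')).asOver (Spec (CommRingCat.of k)) := x ≫ e'.hom
  let ρ : A' →+* k := (Spec.preimage x'.left).hom
  have hρ : Spec.map (CommRingCat.ofHom ρ) = x'.left := by
    show Spec.map (CommRingCat.ofHom (Spec.preimage x'.left).hom) = x'.left
    rw [CommRingCat.ofHom_hom, Spec.map_preimage]
  have hρalg : ∀ r : k, ρ (algebraMap k A' r) = algebraMap k k r := by
    have hw : Spec.map (CommRingCat.ofHom ρ) ≫ Spec.map (CommRingCat.ofHom (algebraMap k A')) =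
        𝟙 (Spec (CommRingCat.of k)) := by
      rw [hρ]
      exact Over.w x'
    rw [← Spec.map_comp, ← CommRingCat.ofHom_comp] at hw
    have h1 : CommRingCat.ofHom (ρ.comp (algebraMap k A')) = 𝟙 (CommRingCat.of k) := by
      apply Spec.map_injective
      rw [hw, Spec.map_id]
    intro r
    have h2 := congrArg (fun t : CommRingCat.of k ⟶ CommRingCat.of k => t.hom r) h1
    exact h2
  let xa : A' →ₐ[k] k := { ρ with commutes' := hρalg }
  obtain ⟨y, hy⟩ := Groth.Agent.H4.HpA.exists_lift π hsurj xa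
  refine ⟨pt k A y ≫ e.inv, ?_⟩
  have h1 : pt k A y ≫ j = x' := by
    apply Over.OverMorphism.ext
    show Spec.map (CommRingCat.ofHom (y : A →+* k)) ≫ j.left = x'.left
    have hc : (y : A →+* k).comp ((π : A' →ₐ[k] A) : A' →+* A) = ρ := by
      ext a
      exact hy a
    have hcomp : Spec.map (CommRingCat.ofHom (y : A →+* k)) ≫
        Spec.map (CommRingCat.ofHom ((π : A' →ₐ[k] A) : A' →+* A)) =
        Spec.map (CommRingCat.ofHom ρ) := by
      rw [← Spec.map_comp, ← CommRingCat.ofHom_comp, hc]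
    rw [hjl]
    exact hcomp.trans hρ
  have h2 : (pt k A y ≫ e.inv) ≫ h = (pt k A y ≫ j) ≫ e'.inv := by
    simp only [j, Category.assoc, Iso.hom_inv_id, Category.comp_id]
  rw [h2, h1]
  simp only [x', Category.assoc, Iso.hom_inv_id, Category.comp_id]

end Groth.Agent.H4.HpB
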