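import Mathlib

set_option autoImplicit false

namespace Groth.Agent.H4.HsA

variable {X Y : Type*} [TopologicalSpace X] [TopologicalSpace Y]

/-- any two generizations of `x` have a common generization. -/
def UG (x : X) : Prop := ∀ y₁ y₂ : X, y₁ ⤳ x → y₂ ⤳ x → ∃ z : X, z ⤳ y₁ ∧ z ⤳ y₂

lemma UG.of_generalizingMap {f : X → Y} (hf : Continuous f) (hg : GeneralizingMap f) {x : X}
    (h : UG x) : UG (f x) := by
  intro y₁ y₂ h₁ h₂
  obtain ⟨x₁, hx₁, rfl⟩ := hg h₁
  obtain ⟨x₂, hx₂, rfl⟩ := hg h₂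
  obtain ⟨z, hz₁, hz₂⟩ := h x₁ x₂ hx₁ hx₂
  exact ⟨f z, hz₁.map hf, hz₂.map hf⟩

/-- a point specializing to the generic point of an irreducible component equals it. -/
lemma eq_of_specializes_genericPoint [T0Space X] {C : Set X} (hC : C ∈ irreducibleComponents X)
    {ξ y : X} (hξ : IsGenericPoint ξ C) (hy : y ⤳ ξ) : y = ξ := by
  have h1 : C ⊆ closure {y} := by
    rw [← hξ.def]
    exact closure_minimal (Set.singleton_subset_iff.mpr (specializes_iff_mem_closure.mp hy))
      isClosed_closure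
  have h2 : closure {y} ⊆ C := hC.2 isIrreducible_singleton.closure h1
  have h3 : IsGenericPoint y C := (subset_antisymm h2 h1 : closure {y} = C)
  exact h3.eq hξ

/-- every point has a maximal generization. -/
lemma exists_maximal_generization [QuasiSober X] [T0Space X] (x : X) :
    ∃ ξ : X, ξ ⤳ x ∧ (∀ y, y ⤳ ξ → y = ξ) ∧ closure {ξ} ∈ irreducibleComponents X := by
  have hC := irreducibleComponent_mem_irreducibleComponents x
  obtain ⟨ξ, hξ⟩ := QuasiSober.sober hC.1 (isClosed_of_mem_irreducibleComponents _ hC)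
  refine ⟨ξ, hξ.specializes mem_irreducibleComponent, fun y hy =>
    eq_of_specializes_genericPoint hC hξ hy, ?_⟩
  rw [hξ.def]
  exact hC

/-- under `UG`, two irreducible components through `x` coincide. -/
lemma UG.eq_of_mem [QuasiSober X] {x : X} (h : UG x) {C₁ C₂ : Set X}
    (h₁ : C₁ ∈ irreducibleComponents X) (h₂ : C₂ ∈ irreducibleComponents X)
    (hx₁ : x ∈ C₁) (hx₂ : x ∈ C₂) : C₁ = C₂ := by
  obtain ⟨ξ₁, hξ₁⟩ := QuasiSober.sober h₁.1 (isClosed_of_mem_irreducibleComponents _ h₁)
  obtain ⟨ξ₂, hξ₂⟩ := QuasiSober.sober h₂.1 (isClosed_of_mem_irreducibleComponents _ h₂)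
  obtain ⟨z, hz₁, hz₂⟩ := h ξ₁ ξ₂ (hξ₁.specializes hx₁) (hξ₂.specializes hx₂)
  have a₁ : C₁ ⊆ closure {z} := by
    rw [← hξ₁.def]
    exact closure_minimal (Set.singleton_subset_iff.mpr (specializes_iff_mem_closure.mp hz₁))
      isClosed_closure
  have a₂ : C₂ ⊆ closure {z} := by
    rw [← hξ₂.def]
    exact closure_minimal (Set.singleton_subset_iff.mpr (specializes_iff_mem_closure.mp hz₂))
      isClosed_closure
  have b₁ : closure {z} ⊆ C₁ := h₁.2 isIrreducible_singleton.closure a₁
  have b₂ : closure {z} ⊆ C₂ := h₂.2 isIrreducible_singleton.closure a₂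
  exact (subset_antisymm a₁ b₁).trans (subset_antisymm b₂ a₂)

lemma UG.existsUnique [QuasiSober X] {x : X} (h : UG x) :
    ∃! C, C ∈ irreducibleComponents X ∧ x ∈ C := by
  refine ⟨irreducibleComponent x, ⟨irreducibleComponent_mem_irreducibleComponents x,
    mem_irreducibleComponent⟩, ?_⟩
  rintro C ⟨hC, hxC⟩
  exact h.eq_of_mem hC (irreducibleComponent_mem_irreducibleComponents x) hxC
    mem_irreducibleComponent

/-- under `UG`, an irreducible set through `x` lies in the irreducible component of `x`. -/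
lemma UG.subset_of_isIrreducible [QuasiSober X] {x : X} (h : UG x) {s C : Set X}
    (hs : IsIrreducible s) (hxs : x ∈ s) (hC : C ∈ irreducibleComponents X) (hxC : x ∈ C) :
    s ⊆ C := by
  obtain ⟨t, ht, hst, hmax⟩ := exists_preirreducible s hs.isPreirreducible
  have htC : t ∈ irreducibleComponents X := by
    refine ⟨⟨hs.nonempty.mono hst, ht⟩, fun u hu htu => ?_⟩
    exact (hmax u hu.isPreirreducible htu).le
  rw [h.eq_of_mem hC htC hxC (hst hxs)]
  exact hst

end Groth.Agent.H4.HsA
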