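import Mathlib
import Groth.Prelude.Def_Red
import Groth.Agent.H4.HsA
import Groth.Agent.Lib.Helper1.GalActSch2
import Groth.Agent.Lib.Helper9.Misc.FLH5

set_option autoImplicit false
universe u
open CategoryTheory CategoryTheory.Limits MonoidalCategory CartesianMonoidalCategory MonObj GrpObj
  AlgebraicGeometry

namespace Groth.Agent.H4.HsB

open Groth.Agent.H4

/-- generization lifting along the second projection. -/
lemma half_right {S : Scheme.{u}} (A₁ A₂ H : Over S) [GrpObj H] (i₁ : A₁ ⟶ H) (i₂ : A₂ ⟶ H)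
    [Flat A₁.hom] (p₁ : ↥A₁.left) (t₀ : ↥(A₁ ⊗ A₂).left)
    (ht₀ : ∀ t : ↥(A₁ ⊗ A₂).left, t₀ ⤳ t)
    (y₂ : ↥H.left) (hy₂ : y₂ ∈ Set.range i₂.left)
    (hspec : y₂ ⤳ η[H].left (A₁.hom p₁)) :
    ((fst A₁ A₂ ≫ i₁) * (snd A₁ A₂ ≫ i₂)).left t₀ ⤳ i₁.left p₁ := by
  let n : A₁ ⊗ H ⟶ H := (fst A₁ H ≫ i₁) * (snd A₁ H)
  let b : A₁ ⊗ A₂ ⟶ A₁ ⊗ H := A₁ ◁ i₂
  let d : A₁ ⟶ A₁ ⊗ H := lift (𝟙 A₁) (toUnit A₁ ≫ η[H])
  have hb : b ≫ n = (fst A₁ A₂ ≫ i₁) * (snd A₁ A₂ ≫ i₂) := by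
    simp only [b, n, MonObj.comp_mul, whiskerLeft_fst_assoc, whiskerLeft_snd]
  have hd : d ≫ n = i₁ := by
    simp only [d, n, MonObj.comp_mul, lift_fst_assoc, lift_snd, Category.id_comp]
    rw [← Hom.one_def, _root_.mul_one]
  haveI hflat : Flat (snd A₁ H).left := by
    show Flat (pullback.snd A₁.hom H.hom)
    infer_instance
  have hgen : GeneralizingMap (snd A₁ H).left := Flat.generalizingMap _
  let q₀ : ↥(A₁ ⊗ H).left := d.left p₁
  have hq₀ : (snd A₁ H).left q₀ = η[H].left (A₁.hom p₁) := by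
    have e : d.left ≫ (snd A₁ H).left = A₁.hom ≫ η[H].left := by
      rw [← Over.comp_left]
      simp only [d, lift_snd]
      rfl
    show (d.left ≫ (snd A₁ H).left) p₁ = (A₁.hom ≫ η[H].left) p₁
    rw [e]
  obtain ⟨q₁, hq₁, hq₁y⟩ := hgen (show y₂ ⤳ (snd A₁ H).left q₀ by rw [hq₀]; exact hspec)
  have hrange : q₁ ∈ Set.range b.left := by
    rw [show b.left = _ from Over.whiskerLeft_left i₂, Scheme.Pullback.range_map]
    refine ⟨⟨_, rfl⟩, ?_⟩
    show (snd A₁ H).left q₁ ∈ Set.range i₂.left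
    rw [hq₁y]
    exact hy₂
  obtain ⟨t₁, ht₁⟩ := hrange
  have h1 : b.left t₀ ⤳ q₀ := by
    have := (ht₀ t₁).map b.left.continuous
    rw [ht₁] at this
    exact this.trans hq₁
  have h2 := h1.map n.left.continuous
  have e1 : n.left (b.left t₀) = ((fst A₁ A₂ ≫ i₁) * (snd A₁ A₂ ≫ i₂)).left t₀ := by
    rw [← hb]; rfl
  have e2 : n.left q₀ = i₁.left p₁ := by
    show n.left (d.left p₁) = i₁.left p₁
    rw [← hd]; rfl
  rw [e1, e2] at h2
  exact h2

/-- generization lifting along the first projection. -/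
lemma half_left {S : Scheme.{u}} (A₁ A₂ H : Over S) [GrpObj H] (i₁ : A₁ ⟶ H) (i₂ : A₂ ⟶ H)
    [Flat A₂.hom] (p₂ : ↥A₂.left) (t₀ : ↥(A₁ ⊗ A₂).left)
    (ht₀ : ∀ t : ↥(A₁ ⊗ A₂).left, t₀ ⤳ t)
    (y₁ : ↥H.left) (hy₁ : y₁ ∈ Set.range i₁.left)
    (hspec : y₁ ⤳ η[H].left (A₂.hom p₂)) :
    ((fst A₁ A₂ ≫ i₁) * (snd A₁ A₂ ≫ i₂)).left t₀ ⤳ i₂.left p₂ := by
  let n : H ⊗ A₂ ⟶ H := (fst H A₂) * (snd H A₂ ≫ i₂)
  let b : A₁ ⊗ A₂ ⟶ H ⊗ A₂ := i₁ ▷ A₂
  let d : A₂ ⟶ H ⊗ A₂ := lift (toUnit A₂ ≫ η[H]) (𝟙 A₂)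
  have hb : b ≫ n = (fst A₁ A₂ ≫ i₁) * (snd A₁ A₂ ≫ i₂) := by
    simp only [b, n, MonObj.comp_mul, whiskerRight_fst, whiskerRight_snd_assoc]
  have hd : d ≫ n = i₂ := by
    simp only [d, n, MonObj.comp_mul, lift_fst, lift_snd_assoc, Category.id_comp]
    rw [← Hom.one_def, _root_.one_mul]
  haveI hflat : Flat (fst H A₂).left := by
    show Flat (pullback.fst H.hom A₂.hom)
    infer_instance
  have hgen : GeneralizingMap (fst H A₂).left := Flat.generalizingMap _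
  let q₀ : ↥(H ⊗ A₂).left := d.left p₂
  have hq₀ : (fst H A₂).left q₀ = η[H].left (A₂.hom p₂) := by
    have e : d.left ≫ (fst H A₂).left = A₂.hom ≫ η[H].left := by
      rw [← Over.comp_left]
      simp only [d, lift_fst]
      rfl
    show (d.left ≫ (fst H A₂).left) p₂ = (A₂.hom ≫ η[H].left) p₂
    rw [e]
  obtain ⟨q₁, hq₁, hq₁y⟩ := hgen (show y₁ ⤳ (fst H A₂).left q₀ by rw [hq₀]; exact hspec)
  have hrange : q₁ ∈ Set.range b.left := by
    rw [show b.left = _ from Over.whiskerRight_left i₁, Scheme.Pullback.range_map]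
    refine ⟨?_, ⟨_, rfl⟩⟩
    show (fst H A₂).left q₁ ∈ Set.range i₁.left
    rw [hq₁y]
    exact hy₁
  obtain ⟨t₁, ht₁⟩ := hrange
  have h1 : b.left t₀ ⤳ q₀ := by
    have := (ht₀ t₁).map b.left.continuous
    rw [ht₁] at this
    exact this.trans hq₁
  have h2 := h1.map n.left.continuous
  have e1 : n.left (b.left t₀) = ((fst A₁ A₂ ≫ i₁) * (snd A₁ A₂ ≫ i₂)).left t₀ := by
    rw [← hb]; rfl
  have e2 : n.left q₀ = i₂.left p₂ := by
    show n.left (d.left p₂) = i₂.left p₂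
    rw [← hd]; rfl
  rw [e1, e2] at h2
  exact h2

variable (F : Type u) [Field F]

lemma geomIrr_of_field [IsSepClosed F] (L : Type u) [Field L]
    (s : Spec (CommRingCat.of L) ⟶ Spec (CommRingCat.of F)) : GeometricallyIrreducible s := by
  let φ : CommRingCat.of F ⟶ CommRingCat.of L := Spec.preimage s
  have hφ : Spec.map φ = s := Spec.map_preimage s
  letI : Algebra F L := φ.hom.toAlgebra
  have e : CommRingCat.ofHom (algebraMap F L) = φ := rfl
  rw [← hφ, ← e]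
  exact Groth.Agent.H1.GalActSch.geometricallyIrreducible_specMap F L

/-- the unit point of a group scheme over a separably closed field satisfies `UG`. -/
theorem ug_unit [IsSepClosed F] (H : Over (Spec (CommRingCat.of F))) [GrpObj H]
    (pt : ↥(𝟙_ (Over (Spec (CommRingCat.of F)))).left) : HsA.UG (η[H].left pt) := by
  intro y₁ y₂ h₁ h₂
  haveI : Subsingleton ↥(Spec (CommRingCat.of F)) := Groth.Agent.H9.FLH.subsingleton_spec_field F
  let κ₁ := H.left.residueField y₁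
  let κ₂ := H.left.residueField y₂
  let ι₁ : Spec (CommRingCat.of κ₁) ⟶ H.left := H.left.fromSpecResidueField y₁
  let ι₂ : Spec (CommRingCat.of κ₂) ⟶ H.left := H.left.fromSpecResidueField y₂
  let A₁ : Over (Spec (CommRingCat.of F)) := Over.mk (ι₁ ≫ H.hom)
  let A₂ : Over (Spec (CommRingCat.of F)) := Over.mk (ι₂ ≫ H.hom)
  let i₁ : A₁ ⟶ H := Over.homMk ι₁ rfl
  let i₂ : A₂ ⟶ H := Over.homMk ι₂ rfl
  haveI : Flat A₁.hom := by show Flat (ι₁ ≫ H.hom); infer_instance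
  haveI : Flat A₂.hom := by show Flat (ι₂ ≫ H.hom); infer_instance
  haveI : GeometricallyIrreducible A₁.hom := geomIrr_of_field F κ₁ (ι₁ ≫ H.hom)
  haveI : UniversallyOpen A₁.hom := by show UniversallyOpen (ι₁ ≫ H.hom); infer_instance
  haveI : IrreducibleSpace ↥A₂.left := by
    show IrreducibleSpace ↥(Spec (CommRingCat.of κ₂)); infer_instance
  haveI : IrreducibleSpace ↥(A₁ ⊗ A₂).left := by
    show IrreducibleSpace ↥(pullback A₁.hom A₂.hom); infer_instance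
  let t₀ : ↥(A₁ ⊗ A₂).left := genericPoint _
  have ht₀ : ∀ t : ↥(A₁ ⊗ A₂).left, t₀ ⤳ t := fun t => genericPoint_specializes t
  let p₁ : ↥A₁.left := (IsLocalRing.closedPoint κ₁ : PrimeSpectrum κ₁)
  let p₂ : ↥A₂.left := (IsLocalRing.closedPoint κ₂ : PrimeSpectrum κ₂)
  have hp₁ : i₁.left p₁ = y₁ := H.left.fromSpecResidueField_apply y₁ p₁
  have hp₂ : i₂.left p₂ = y₂ := H.left.fromSpecResidueField_apply y₂ p₂
  refine ⟨((fst A₁ A₂ ≫ i₁) * (snd A₁ A₂ ≫ i₂)).left t₀, ?_, ?_⟩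
  · rw [← hp₁]
    refine half_right A₁ A₂ H i₁ i₂ p₁ t₀ ht₀ y₂ ⟨p₂, hp₂⟩ ?_
    rw [show A₁.hom p₁ = pt from Subsingleton.elim _ _]
    exact h₂
  · rw [← hp₂]
    refine half_left A₁ A₂ H i₁ i₂ p₂ t₀ ht₀ y₁ ⟨p₁, hp₁⟩ ?_
    rw [show A₂.hom p₂ = pt from Subsingleton.elim _ _]
    exact h₁

/-- every rational point of a group scheme over a separably closed field satisfies `UG`. -/
theorem ug_rational [IsSepClosed F] (H : Over (Spec (CommRingCat.of F))) [GrpObj H]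
    (h : 𝟙_ (Over (Spec (CommRingCat.of F))) ⟶ H)
    (pt : ↥(𝟙_ (Over (Spec (CommRingCat.of F)))).left) : HsA.UG (h.left pt) := by
  let c : H ⟶ H := toUnit H ≫ h
  let t : H ⟶ H := c * 𝟙 H
  let t' : H ⟶ H := c⁻¹ * 𝟙 H
  have hc : ∀ f : H ⟶ H, f ≫ c = c := fun f => by
    simp only [c, comp_toUnit_assoc]
  have htt' : t ≫ t' = 𝟙 H := by
    simp only [t', MonObj.comp_mul, GrpObj.comp_inv, hc, Category.comp_id]
    simp only [t, inv_mul_cancel_left]
  have ht't : t' ≫ t = 𝟙 H := by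
    simp only [t, MonObj.comp_mul, hc, Category.comp_id]
    simp only [t', mul_inv_cancel_left]
  have hη : η[H] ≫ t = h := by
    have e2 : (η[H] : 𝟙_ (Over (Spec (CommRingCat.of F))) ⟶ H) = 1 := by
      rw [Hom.one_def, toUnit_unit, Category.id_comp]
    simp only [t, c, MonObj.comp_mul, Category.comp_id, comp_toUnit_assoc, toUnit_unit,
      Category.id_comp]
    rw [e2, _root_.mul_one]
  haveI : IsIso t := ⟨t', htt', ht't⟩
  haveI : IsIso t.left := (inferInstance : IsIso ((Over.forget _).map t))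
  have h0 := (ug_unit F H pt).of_generalizingMap t.left.continuous (Flat.generalizingMap t.left)
  have e : t.left (η[H].left pt) = h.left pt := by
    show (η[H] ≫ t).left pt = h.left pt
    rw [hη]
  rw [e] at h0
  exact h0

end Groth.Agent.H4.HsB
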