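import Mathlib
import Groth.Prelude.Def_Red
import Groth.Prelude.Def_AlgGrp
import Groth.Prelude.Def_ActBC
import Groth.Agent.H4.HsA
import Groth.Agent.H4.HsB
import Groth.Agent.Lib.Helper9.Misc.FLH2
import Groth.Agent.Lib.Helper9.Misc.FLH5

set_option autoImplicit false
universe u
open CategoryTheory CategoryTheory.Limits MonoidalCategory CartesianMonoidalCategory MonObj GrpObj
  AlgebraicGeometry

namespace Groth.Agent.H4.HsC

open Groth.Agent.H4

section
variable (k : Type u) [Field k]

/-- every point of a group scheme over a field satisfies `UG`. -/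
theorem ug_group (G : Over (Spec (CommRingCat.of k))) [GrpObj G] (w : ↥G.left) : HsA.UG w := by
  let κ := G.left.residueField w
  let F := AlgebraicClosure κ
  let jF : Spec (CommRingCat.of F) ⟶ G.left :=
    Spec.map (CommRingCat.ofHom (algebraMap κ F)) ≫ G.left.fromSpecResidueField w
  let τ : Spec (CommRingCat.of F) ⟶ Spec (CommRingCat.of k) := jF ≫ G.hom
  let GF : Over (Spec (CommRingCat.of F)) := Red.bc τ G
  let q : GF.left ⟶ G.left := pullback.fst G.hom τ
  let wF : 𝟙_ (Over (Spec (CommRingCat.of F))) ⟶ GF :=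
    Over.homMk (pullback.lift jF (𝟙 _) (by simp [τ])) (pullback.lift_snd _ _ _)
  let pt : ↥(𝟙_ (Over (Spec (CommRingCat.of F)))).left :=
    (IsLocalRing.closedPoint F : PrimeSpectrum F)
  have h0 := HsB.ug_rational F GF wF pt
  haveI : Subsingleton ↥(Spec (CommRingCat.of k)) := Groth.Agent.H9.FLH.subsingleton_spec_field k
  haveI : Flat τ := inferInstance
  haveI : Flat q := by show Flat (pullback.fst G.hom τ); infer_instance
  have h1 := h0.of_generalizingMap q.continuous (Flat.generalizingMap q)
  have e : q (wF.left pt) = w := by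
    show (wF.left ≫ q) pt = w
    have e' : wF.left ≫ q = jF := pullback.lift_fst _ _ _
    rw [e']
    exact G.left.fromSpecResidueField_apply w _
  rw [e] at h1
  exact h1

variable (G X : Over (Spec (CommRingCat.of k))) [GrpObj G] (a : AlgGrp.Action G X)

theorem exists_point (hΦ : Surjective (lift a.act (snd G X)).left) (z ξ : ↥X.left) :
    ∃ w : ↥(G ⊗ X).left, a.act.left w = z ∧ (snd G X).left w = ξ := by
  haveI : Subsingleton ↥(Spec (CommRingCat.of k)) := Groth.Agent.H9.FLH.subsingleton_spec_field k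
  obtain ⟨t, ht1, ht2⟩ := Scheme.Pullback.exists_preimage_pullback (f := X.hom) (g := X.hom) z ξ
    (Subsingleton.elim _ _)
  haveI := hΦ
  obtain ⟨w, hw⟩ := (lift a.act (snd G X)).left.surjective t
  refine ⟨w, ?_, ?_⟩
  · have e : (lift a.act (snd G X)).left ≫ (fst X X).left = a.act.left := by
      rw [← Over.comp_left, lift_fst]
    rw [← e]
    show (fst X X).left ((lift a.act (snd G X)).left w) = z
    rw [hw]
    exact ht1
  · have e : (lift a.act (snd G X)).left ≫ (snd X X).left = (snd G X).left := by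
      rw [← Over.comp_left, lift_snd]
    rw [← e]
    show (snd X X).left ((lift a.act (snd G X)).left w) = ξ
    rw [hw]
    exact ht2

/-- every point of a homogeneous space under a group scheme over a field satisfies `UG`. -/
theorem ug_homog (hΦ : Surjective (lift a.act (snd G X)).left) (z : ↥X.left) : HsA.UG z := by
  intro y₁ y₂ h₁ h₂
  haveI : Subsingleton ↥(Spec (CommRingCat.of k)) := Groth.Agent.H9.FLH.subsingleton_spec_field k
  obtain ⟨ξ, -, hξmax, -⟩ := HsA.exists_maximal_generization z
  obtain ⟨w, hw1, hw2⟩ := exists_point k G X a hΦ z ξ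
  haveI : Flat G.hom := inferInstance
  haveI : Flat a.act.left := Groth.Agent.H9.FLH.flat_act a
  have hgen : GeneralizingMap a.act.left := Flat.generalizingMap _
  obtain ⟨v₁, hv₁, hv₁y⟩ := hgen (show y₁ ⤳ a.act.left w by rw [hw1]; exact h₁)
  obtain ⟨v₂, hv₂, hv₂y⟩ := hgen (show y₂ ⤳ a.act.left w by rw [hw1]; exact h₂)
  have hs₁ : (snd G X).left v₁ = ξ :=
    hξmax _ (by rw [← hw2]; exact hv₁.map (snd G X).left.continuous)
  have hs₂ : (snd G X).left v₂ = ξ :=
    hξmax _ (by rw [← hw2]; exact hv₂.map (snd G X).left.continuous)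
  let κ := X.left.residueField ξ
  let ιξ : Spec (CommRingCat.of κ) ⟶ X.left := X.left.fromSpecResidueField ξ
  let j : pullback (pullback.snd G.hom X.hom) ιξ ⟶ (G ⊗ X).left := pullback.fst _ _
  haveI : IsPreimmersion j :=
    MorphismProperty.pullback_fst (P := @IsPreimmersion) _ _ inferInstance
  have hrange : Set.range j = (snd G X).left ⁻¹' {ξ} := by
    show Set.range (pullback.fst (pullback.snd G.hom X.hom) ιξ) = _
    rw [Scheme.Pullback.range_fst]
    congr 1
    ext y
    constructor
    · rintro ⟨s, rfl⟩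
      exact X.left.fromSpecResidueField_apply ξ s
    · rintro rfl
      exact ⟨(IsLocalRing.closedPoint κ : PrimeSpectrum κ),
        X.left.fromSpecResidueField_apply y _⟩
  obtain ⟨w', rfl⟩ : w ∈ Set.range j := by rw [hrange]; exact hw2
  obtain ⟨v₁', rfl⟩ : v₁ ∈ Set.range j := by rw [hrange]; exact hs₁
  obtain ⟨v₂', rfl⟩ : v₂ ∈ Set.range j := by rw [hrange]; exact hs₂
  have hv₁' : v₁' ⤳ w' := (j.isEmbedding.isInducing.specializes_iff).mp hv₁
  have hv₂' : v₂' ⤳ w' := (j.isEmbedding.isInducing.specializes_iff).mp hv₂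
  have hUG : HsA.UG w' := by
    let e := pullbackLeftPullbackSndIso G.hom X.hom ιξ
    let σ : Spec (CommRingCat.of κ) ⟶ Spec (CommRingCat.of k) := ιξ ≫ X.hom
    have h3 : HsA.UG (e.hom w') := ug_group κ (Red.bc σ G) (e.hom w')
    have h4 := h3.of_generalizingMap e.inv.continuous (Flat.generalizingMap e.inv)
    have e' : e.inv (e.hom w') = w' := by
      rw [← Scheme.Hom.comp_apply, e.hom_inv_id]
      rfl
    rw [e'] at h4
    exact h4
  obtain ⟨u', hu₁, hu₂⟩ := hUG v₁' v₂' hv₁' hv₂'
  refine ⟨a.act.left (j u'), ?_, ?_⟩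
  · rw [← hv₁y]
    exact (hu₁.map j.continuous).map a.act.left.continuous
  · rw [← hv₂y]
    exact (hu₂.map j.continuous).map a.act.left.continuous

end

/-- the homogeneity hypothesis is stable under base change. -/
theorem surj_bc {S S' : Scheme.{u}} (σ : S' ⟶ S) (G X : Over S) [GrpObj G]
    (a : AlgGrp.Action G X) (hΦ : Surjective (lift a.act (snd G X)).left) :
    Surjective (lift (a.bc σ).act (snd (Red.bc σ G) (Red.bc σ X))).left := by
  let F := Over.pullback σ
  let Φ := lift a.act (snd G X)
  have e1 : lift (a.bc σ).act (snd (Red.bc σ G) (Red.bc σ X)) =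
      Functor.LaxMonoidal.μ F G X ≫ lift (F.map a.act) (F.map (snd G X)) := by
    rw [comp_lift, Functor.Monoidal.μ_snd]
    rfl
  have key : lift (a.bc σ).act (snd (Red.bc σ G) (Red.bc σ X)) ≫ Functor.LaxMonoidal.μ F X X =
      Functor.LaxMonoidal.μ F G X ≫ F.map Φ := by
    rw [e1, Category.assoc, Functor.Monoidal.lift_μ]
  have hsq : IsPullback (F.map Φ).left (pullback.fst (G ⊗ X).hom σ)
      (pullback.fst (X ⊗ X).hom σ) Φ.left := by
    refine IsPullback.of_right ?_ ?_ (IsPullback.of_hasPullback (X ⊗ X).hom σ).flip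
    · have h1 : (F.map Φ).left ≫ pullback.snd (X ⊗ X).hom σ = pullback.snd (G ⊗ X).hom σ :=
        Over.w (F.map Φ)
      have h2 : Φ.left ≫ (X ⊗ X).hom = (G ⊗ X).hom := Over.w Φ
      rw [h1, h2]
      exact (IsPullback.of_hasPullback (G ⊗ X).hom σ).flip
    · exact pullback.lift_fst _ _ _
  haveI := hΦ
  haveI : Surjective (F.map Φ).left :=
    MorphismProperty.of_isPullback (P := @Surjective) hsq.flip inferInstance
  haveI : IsIso (Functor.LaxMonoidal.μ F X X).left :=
    (inferInstance : IsIso ((Over.forget _).map (Functor.LaxMonoidal.μ F X X)))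
  haveI : IsIso (Functor.LaxMonoidal.μ F G X).left :=
    (inferInstance : IsIso ((Over.forget _).map (Functor.LaxMonoidal.μ F G X)))
  have key' : (lift (a.bc σ).act (snd (Red.bc σ G) (Red.bc σ X))).left =
      ((Functor.LaxMonoidal.μ F G X).left ≫ (F.map Φ).left) ≫
        inv (Functor.LaxMonoidal.μ F X X).left := by
    rw [← Over.comp_left, ← key, Over.comp_left, Category.assoc, IsIso.hom_inv_id,
      Category.comp_id]
  rw [key']
  infer_instance

end Groth.Agent.H4.HsC
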