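import Mathlib
import Groth.Prelude.Def_Red
import Groth.Prelude.Def_AlgGrp
import Groth.Prelude.Def_ActBC
import Groth.Agent.H4.HsA
import Groth.Agent.H4.HsC
import Groth.Agent.Lib.Helper1.GalActSch2
import Groth.Agent.Lib.Helper9.Misc.FLH5

set_option autoImplicit false
universe u
open CategoryTheory CategoryTheory.Limits MonoidalCategory CartesianMonoidalCategory MonObj GrpObj
  AlgebraicGeometry

namespace Groth.Agent.H4.HsD

open Groth.Agent.H4

variable (k : Type u) [Field k] (G X : Over (Spec (CommRingCat.of k))) [GrpObj G]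
  (a : AlgGrp.Action G X)

/-- `UG` on every base change of a homogeneous space. -/
theorem ug_bc (hΦ : Surjective (lift a.act (snd G X)).left) (K : Type u) [Field K]
    (σ : Spec (CommRingCat.of K) ⟶ Spec (CommRingCat.of k)) (z : ↥(pullback X.hom σ)) :
    HsA.UG z :=
  HsC.ug_homog K (Red.bc σ G) (Red.bc σ X) (a.bc σ) (HsC.surj_bc σ G X a hΦ) z

/-- image of an irreducible component under a homeomorphism. -/
lemma image_mem_irreducibleComponents {Y Z : Type*} [TopologicalSpace Y] [TopologicalSpace Z]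
    (g : Y ≃ₜ Z) {D : Set Y} (hD : D ∈ irreducibleComponents Y) :
    g '' D ∈ irreducibleComponents Z := by
  refine ⟨hD.1.image _ g.continuous.continuousOn, fun s hs hle => ?_⟩
  have h1 : D ⊆ g.symm '' s := by
    intro y hy
    exact ⟨g y, hle ⟨y, hy, rfl⟩, g.symm_apply_apply y⟩
  have h2 : g.symm '' s ⊆ D := hD.2 (hs.image _ g.symm.continuous.continuousOn) h1
  intro z hz
  exact ⟨g.symm z, h2 ⟨z, hz, rfl⟩, g.apply_symm_apply z⟩

/-- the irreducible component through a rational point of a homogeneous space is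
geometrically irreducible. -/
theorem geom_irr (hΦ : Surjective (lift a.act (snd G X)).left)
    (x : 𝟙_ (Over (Spec (CommRingCat.of k))) ⟶ X)
    (pt : ↥(𝟙_ (Over (Spec (CommRingCat.of k)))).left) (C : Set X.left)
    (hC : C ∈ irreducibleComponents ↥X.left) (hx : x.left pt ∈ C)
    (K : Type u) [Field K] [Algebra k K] :
    IsIrreducible ((pullback.fst X.hom
      (Spec.map (CommRingCat.ofHom (algebraMap k K)))) ⁻¹' C) := by
  letI : X.left.Over (Spec (CommRingCat.of k)) := ⟨X.hom⟩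
  haveI : Subsingleton ↥(Spec (CommRingCat.of k)) := Groth.Agent.H9.FLH.subsingleton_spec_field k
  let Ω := SeparableClosure k
  haveI : Subsingleton ↥(Spec (CommRingCat.of Ω)) := Groth.Agent.H9.FLH.subsingleton_spec_field Ω
  let σΩ : Spec (CommRingCat.of Ω) ⟶ Spec (CommRingCat.of k) :=
    Spec.map (CommRingCat.ofHom (algebraMap k Ω))
  have hxw : x.left ≫ X.hom = 𝟙 (Spec (CommRingCat.of k)) := Over.w x
  let sΩ : Spec (CommRingCat.of Ω) ⟶ Curv2.bc k X.left Ω :=
    pullback.lift (σΩ ≫ x.left) (𝟙 _) (by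
      show (σΩ ≫ x.left) ≫ X.hom = 𝟙 _ ≫ σΩ
      rw [Category.assoc, hxw, Category.comp_id, Category.id_comp])
  let ptΩ : ↥(Spec (CommRingCat.of Ω)) := (IsLocalRing.closedPoint Ω : PrimeSpectrum Ω)
  let xΩ : ↥(Curv2.bc k X.left Ω) := sΩ ptΩ
  let D₀ : Set ↥(Curv2.bc k X.left Ω) := irreducibleComponent xΩ
  have hD₀ : D₀ ∈ irreducibleComponents ↥(Curv2.bc k X.left Ω) :=
    irreducibleComponent_mem_irreducibleComponents xΩ
  have hUGΩ : HsA.UG xΩ := ug_bc k G X a hΦ Ω σΩ xΩ
  have hinv : ∀ σ : Ω ≃ₐ[k] Ω, (Curv2.galAct k X.left Ω σ).base '' D₀ = D₀ := by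
    intro σ
    let g := Curv2.galAct k X.left Ω σ
    have hg : g.base '' D₀ ∈ irreducibleComponents ↥(Curv2.bc k X.left Ω) :=
      image_mem_irreducibleComponents g.homeomorph hD₀
    have hσ : Spec.map (CommRingCat.ofHom (σ : Ω →ₐ[k] Ω).toRingHom) ≫ σΩ = σΩ := by
      show Spec.map _ ≫ Spec.map _ = Spec.map _
      rw [← Spec.map_comp]
      congr 1
      refine CommRingCat.hom_ext (RingHom.ext fun z => ?_)
      show σ (algebraMap k Ω z) = algebraMap k Ω z
      exact σ.commutes z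
    have e1 : sΩ ≫ Curv2.bcFst k X.left Ω = σΩ ≫ x.left := pullback.lift_fst _ _ _
    have e2 : sΩ ≫ Curv2.bcSnd k X.left Ω = 𝟙 _ := pullback.lift_snd _ _ _
    have hcomm : sΩ ≫ Curv2.galAct k X.left Ω σ =
        Spec.map (CommRingCat.ofHom (σ : Ω →ₐ[k] Ω).toRingHom) ≫ sΩ := by
      apply pullback.hom_ext
      · show (sΩ ≫ Curv2.galAct k X.left Ω σ) ≫ Curv2.bcFst k X.left Ω =
          (Spec.map _ ≫ sΩ) ≫ Curv2.bcFst k X.left Ω
        rw [Category.assoc, Category.assoc, Groth.Agent.H1.GalActSch.galAct_fst, e1,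
          ← Category.assoc, hσ]
      · show (sΩ ≫ Curv2.galAct k X.left Ω σ) ≫ Curv2.bcSnd k X.left Ω =
          (Spec.map _ ≫ sΩ) ≫ Curv2.bcSnd k X.left Ω
        rw [Category.assoc, Category.assoc, Groth.Agent.H1.GalActSch.galAct_snd,
          ← Category.assoc, e2, Category.id_comp, Category.comp_id]
    have hfix : g.base xΩ = xΩ := by
      show (sΩ ≫ Curv2.galAct k X.left Ω σ) ptΩ = sΩ ptΩ
      rw [hcomm, Scheme.Hom.comp_apply]
      congr 1
      exact Subsingleton.elim _ _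
    exact hUGΩ.eq_of_mem hg hD₀ ⟨xΩ, mem_irreducibleComponent, hfix⟩ mem_irreducibleComponent
  obtain ⟨T, hT, hTD, hTK⟩ := (Groth.Agent.H1.GalActSch.s7597 k X.left D₀ hD₀).mp hinv
  have hxT : x.left pt ∈ T := by
    have h1 : xΩ ∈ (Curv2.bcFst k X.left Ω).base ⁻¹' T := by
      rw [hTD]; exact mem_irreducibleComponent
    have h2 : (Curv2.bcFst k X.left Ω) xΩ = x.left pt := by
      show (sΩ ≫ pullback.fst _ _) ptΩ = x.left pt
      rw [pullback.lift_fst, Scheme.Hom.comp_apply]
      congr 1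
      exact Subsingleton.elim _ _
    rw [← h2]
    exact h1
  have hUG : HsA.UG (x.left pt) := HsC.ug_homog k G X a hΦ _
  have hTC : T = C := hUG.eq_of_mem hT hC hxT hx
  rw [← hTC]
  exact hTK K

end Groth.Agent.H4.HsD
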