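import Mathlib
import Groth.Prelude.Def_Red
import Groth.Prelude.Def_AlgGrp
import Groth.Prelude.Def_ActBC
import Groth.Agent.H4.HsA
import Groth.Agent.H4.HsB
import Groth.Agent.H4.HsC
import Groth.Agent.H4.HsD
import Groth.Agent.Lib.Helper9.Misc.FLH3

set_option autoImplicit false
universe u
open CategoryTheory CategoryTheory.Limits MonoidalCategory CartesianMonoidalCategory MonObj GrpObj
  AlgebraicGeometry

namespace Groth.Agent.H4.HsE

open Groth.Agent.H4 Groth.Agent.H9.FLH

/-- the source of an inducing map with irreducible range is irreducible. -/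
lemma irreducibleSpace_of_isInducing {A B : Type*} [TopologicalSpace A] [TopologicalSpace B]
    {f : A → B} (hf : Topology.IsInducing f) (h : IsIrreducible (Set.range f)) :
    IrreducibleSpace A := by
  obtain ⟨⟨b, a0, rfl⟩, hpre⟩ := h
  have hp : IsPreirreducible (Set.univ : Set A) := by
    rintro u v hu hv ⟨x, -, hx⟩ ⟨y, -, hy⟩
    obtain ⟨u', hu', rfl⟩ := hf.isOpen_iff.mp hu
    obtain ⟨v', hv', rfl⟩ := hf.isOpen_iff.mp hv
    obtain ⟨_, ⟨c, rfl⟩, hc⟩ := hpre u' v' hu' hv' ⟨f x, ⟨x, rfl⟩, hx⟩ ⟨f y, ⟨y, rfl⟩, hy⟩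
    exact ⟨c, Set.mem_univ _, hc⟩
  exact { isPreirreducible_univ := hp, toNonempty := ⟨a0⟩ }

/-- a closed subset of a scheme is the range of a preimmersion. -/
lemma exists_subscheme {Y : Scheme.{u}} (D : Set Y) (hD : IsClosed D) :
    ∃ (D' : Scheme.{u}) (j : D' ⟶ Y), IsPreimmersion j ∧ Set.range j = D := by
  let I := Scheme.IdealSheafData.vanishingIdeal (X := Y) ⟨D, hD⟩
  refine ⟨I.subscheme, I.subschemeι, inferInstance, ?_⟩
  rw [Scheme.IdealSheafData.range_subschemeι]
  exact Scheme.IdealSheafData.coe_support_vanishingIdeal _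

/-- the regular action is homogeneous. -/
theorem surj_reg {S : Scheme.{u}} (G : Over S) [GrpObj G] :
    Surjective (lift (regAction G).act (snd G G)).left := by
  let θ : G ⊗ G ⟶ G ⊗ G := lift (fst G G * (snd G G)⁻¹) (snd G G)
  have hθ : θ ≫ lift (regAction G).act (snd G G) = 𝟙 _ := by
    have h1 : θ ≫ μ[G] = fst G G := by
      show lift _ _ ≫ μ[G] = _
      rw [← Hom.mul_def, inv_mul_cancel_right]
    have h2 : θ ≫ snd G G = snd G G := lift_snd _ _
    show θ ≫ lift μ[G] (snd G G) = 𝟙 _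
    rw [comp_lift, h1, h2, lift_fst_snd]
  exact ⟨fun w => ⟨θ.left.base w, congrArg (fun φ : G ⊗ G ⟶ G ⊗ G => φ.left.base w) hθ⟩⟩

section
variable (k : Type u) [Field k] (G : Over (Spec (CommRingCat.of k))) [GrpObj G]

/-- the neutral irreducible component (with any subscheme structure) is geometrically
irreducible. -/
theorem geomIrr_comp (pt : ↥(𝟙_ (Over (Spec (CommRingCat.of k)))).left) (C0 : Set G.left)
    (hC0 : C0 ∈ irreducibleComponents ↥G.left) (he : η[G].left pt ∈ C0)
    {C' : Scheme.{u}} (ιC : C' ⟶ G.left) [IsPreimmersion ιC] (hr : Set.range ιC = C0) :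
    GeometricallyIrreducible (ιC ≫ G.hom) := by
  refine ⟨geometrically_iff_of_commRing_of_isClosedUnderIsomorphisms.mpr fun K _ _ => ?_⟩
  refine (pullbackRightPullbackFstIso G.hom
    (Spec.map (CommRingCat.ofHom (algebraMap k K))) ιC).hom.homeomorph.irreducibleSpace_iff.mp ?_
  haveI : IsPreimmersion (pullback.snd ιC (pullback.fst G.hom
      (Spec.map (CommRingCat.ofHom (algebraMap k K))))) :=
    MorphismProperty.pullback_snd (P := @IsPreimmersion) _ _ inferInstance
  have hrange : Set.range (pullback.snd ιC (pullback.fst G.hom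
      (Spec.map (CommRingCat.ofHom (algebraMap k K))))) =
      (pullback.fst G.hom (Spec.map (CommRingCat.ofHom (algebraMap k K)))) ⁻¹' C0 := by
    rw [Scheme.Pullback.range_snd, hr]
  refine irreducibleSpace_of_isInducing (pullback.snd ιC (pullback.fst G.hom
      (Spec.map (CommRingCat.ofHom (algebraMap k K))))).isEmbedding.isInducing ?_
  rw [hrange]
  exact HsD.geom_irr k G G (regAction G) (surj_reg G) η[G] pt C0 hC0 he K

/-- the product of the neutral component with an irreducible set is irreducible. -/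
theorem isIrreducible_prod (pt : ↥(𝟙_ (Over (Spec (CommRingCat.of k)))).left) (C0 : Set G.left)
    (hC0 : C0 ∈ irreducibleComponents ↥G.left) (he : η[G].left pt ∈ C0)
    (Y : Over (Spec (CommRingCat.of k))) (Z : Set Y.left) (hZ : IsIrreducible Z) :
    IsIrreducible ((fst G Y).left ⁻¹' C0 ∩ (snd G Y).left ⁻¹' Z) := by
  haveI : Subsingleton ↥(Spec (CommRingCat.of k)) := subsingleton_spec_field k
  obtain ⟨C', ιC, hpre, hr⟩ := exists_subscheme C0 (isClosed_of_mem_irreducibleComponents _ hC0)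
  haveI := hpre
  haveI : GeometricallyIrreducible (ιC ≫ G.hom) := geomIrr_comp k G pt C0 hC0 he ιC hr
  haveI : UniversallyOpen (ιC ≫ G.hom) := inferInstance
  have h1 : IsIrreducible ((pullback.snd (ιC ≫ G.hom) Y.hom) ⁻¹' Z) :=
    Scheme.Hom.isIrreducible_preimage (pullback.snd (ιC ≫ G.hom) Y.hom)
      (pullback.snd (ιC ≫ G.hom) Y.hom).isOpenMap hZ
  obtain ⟨m, hm⟩ : ∃ m : pullback (ιC ≫ G.hom) Y.hom ⟶ (G ⊗ Y).left,
      m = pullback.map (ιC ≫ G.hom) Y.hom G.hom Y.hom ιC (𝟙 _) (𝟙 _) (by simp) (by simp) :=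
    ⟨_, rfl⟩
  have hm1 : m ≫ (fst G Y).left = pullback.fst _ _ ≫ ιC := by
    rw [hm]
    exact pullback.lift_fst _ _ _
  have hm2 : m ≫ (snd G Y).left = pullback.snd (ιC ≫ G.hom) Y.hom := by
    rw [hm]
    exact (pullback.lift_snd _ _ _).trans (Category.comp_id _)
  have hrm : Set.range m =
      (fst G Y).left ⁻¹' Set.range ιC ∩ (snd G Y).left ⁻¹' Set.range (𝟙 Y.left : Y.left ⟶ Y.left) := by
    rw [hm]
    exact Scheme.Pullback.range_map (ιC ≫ G.hom) Y.hom G.hom Y.hom ιC (𝟙 _) (𝟙 _) (by simp) (by simp)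
  have himg : (fst G Y).left ⁻¹' C0 ∩ (snd G Y).left ⁻¹' Z =
      m '' ((pullback.snd (ιC ≫ G.hom) Y.hom) ⁻¹' Z) := by
    ext t
    constructor
    · rintro ⟨ht1, ht2⟩
      have htm : t ∈ Set.range m := by
        rw [hrm]
        refine ⟨?_, ?_⟩
        · show (fst G Y).left t ∈ Set.range ιC
          rw [hr]
          exact ht1
        · exact ⟨(snd G Y).left t, rfl⟩
      obtain ⟨s, rfl⟩ := htm
      refine ⟨s, ?_, rfl⟩
      show (pullback.snd (ιC ≫ G.hom) Y.hom) s ∈ Z
      rw [← hm2]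
      exact ht2
    · rintro ⟨s, hs, rfl⟩
      refine ⟨?_, ?_⟩
      · show (m ≫ (fst G Y).left) s ∈ C0
        rw [hm1, ← hr]
        exact ⟨_, rfl⟩
      · show (m ≫ (snd G Y).left) s ∈ Z
        rw [hm2]
        exact hs
  rw [himg]
  exact h1.image _ m.continuous.continuousOn

variable (X : Over (Spec (CommRingCat.of k))) (a : AlgGrp.Action G X)

/-- the point `(e, y)`. -/
theorem unit_point (pt : ↥(𝟙_ (Over (Spec (CommRingCat.of k)))).left) (y : ↥X.left) :
    ∃ t : ↥(G ⊗ X).left, (fst G X).left t = η[G].left pt ∧ (snd G X).left t = y ∧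
      a.act.left t = y := by
  haveI hss : Subsingleton ↥(𝟙_ (Over (Spec (CommRingCat.of k)))).left :=
    (subsingleton_spec_field k : Subsingleton ↥(Spec (CommRingCat.of k)))
  have e0 : lift (toUnit X ≫ η[G]) (𝟙 X) ≫ a.act = 𝟙 X := by
    have h := one_smul a (𝟙 X)
    rw [Hom.one_def] at h
    exact h
  have e1 : lift (toUnit X ≫ η[G]) (𝟙 X) ≫ fst G X = toUnit X ≫ η[G] := lift_fst _ _
  have e2 : lift (toUnit X ≫ η[G]) (𝟙 X) ≫ snd G X = 𝟙 X := lift_snd _ _
  refine ⟨(lift (toUnit X ≫ η[G]) (𝟙 X)).left y, ?_, ?_, ?_⟩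
  · have h := congrArg (fun φ : X ⟶ G => φ.left y) e1
    refine h.trans ?_
    show η[G].left ((toUnit X).left y) = η[G].left pt
    rw [Subsingleton.elim ((toUnit X).left y) pt]
  · exact congrArg (fun φ : X ⟶ X => φ.left y) e2
  · exact congrArg (fun φ : X ⟶ X => φ.left y) e0

/-- `g h⁻¹` lies in the neutral component if `g` and `h` do. -/
theorem div_mem (pt : ↥(𝟙_ (Over (Spec (CommRingCat.of k)))).left) (C0 : Set G.left)
    (hC0 : C0 ∈ irreducibleComponents ↥G.left) (he : η[G].left pt ∈ C0)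
    (r : ↥(G ⊗ G).left) (h1 : (fst G G).left r ∈ C0) (h2 : (snd G G).left r ∈ C0) :
    ((fst G G) * (snd G G)⁻¹ : G ⊗ G ⟶ G).left r ∈ C0 := by
  haveI hss : Subsingleton ↥(𝟙_ (Over (Spec (CommRingCat.of k)))).left :=
    (subsingleton_spec_field k : Subsingleton ↥(Spec (CommRingCat.of k)))
  have hR := isIrreducible_prod k G pt C0 hC0 he G C0 hC0.1
  have hirr := hR.image ((fst G G) * (snd G G)⁻¹ : G ⊗ G ⟶ G).left
    ((fst G G) * (snd G G)⁻¹ : G ⊗ G ⟶ G).left.continuous.continuousOn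
  have e0 : lift η[G] η[G] ≫ ((fst G G) * (snd G G)⁻¹ : G ⊗ G ⟶ G) = η[G] := by
    rw [MonObj.comp_mul, GrpObj.comp_inv, lift_fst, lift_snd, _root_.mul_inv_cancel, Hom.one_def,
      toUnit_unit, Category.id_comp]
  have e1 : lift η[G] η[G] ≫ fst G G = η[G] := lift_fst _ _
  have e2 : lift η[G] η[G] ≫ snd G G = η[G] := lift_snd _ _
  have hmem : η[G].left pt ∈ ((fst G G) * (snd G G)⁻¹ : G ⊗ G ⟶ G).left ''
      ((fst G G).left ⁻¹' C0 ∩ (snd G G).left ⁻¹' C0) := by
    refine ⟨(lift η[G] η[G]).left pt, ⟨?_, ?_⟩, ?_⟩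
    · show (fst G G).left ((lift η[G] η[G]).left pt) ∈ C0
      rw [show (fst G G).left ((lift η[G] η[G]).left pt) = η[G].left pt from
        congrArg (fun φ : 𝟙_ (Over (Spec (CommRingCat.of k))) ⟶ G => φ.left pt) e1]
      exact he
    · show (snd G G).left ((lift η[G] η[G]).left pt) ∈ C0
      rw [show (snd G G).left ((lift η[G] η[G]).left pt) = η[G].left pt from
        congrArg (fun φ : 𝟙_ (Over (Spec (CommRingCat.of k))) ⟶ G => φ.left pt) e2]
      exact he
    · exact congrArg (fun φ : 𝟙_ (Over (Spec (CommRingCat.of k))) ⟶ G => φ.left pt) e0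
  exact HsA.UG.subset_of_isIrreducible (HsC.ug_group k G (η[G].left pt)) hirr hmem hC0 he
    ⟨r, ⟨h1, h2⟩, rfl⟩

/-- the orbit map of a rational point, evaluated through `G × X`. -/
theorem orbit_of_snd (x : 𝟙_ (Over (Spec (CommRingCat.of k))) ⟶ X)
    (pt : ↥(𝟙_ (Over (Spec (CommRingCat.of k)))).left) (t : ↥(G ⊗ X).left)
    (ht : (snd G X).left t = x.left pt) :
    (a.orbitMap x).left ((fst G X).left t) = a.act.left t := by
  obtain ⟨q, hq1, -⟩ := Scheme.Pullback.exists_preimage_pullback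
    (f := pullback.snd G.hom X.hom) (g := x.left) t pt ht
  have hxw : x.left ≫ X.hom = 𝟙 (Spec (CommRingCat.of k)) := Over.w x
  have hJ1 : lift (𝟙 G) (toUnit G ≫ x) ≫ fst G X = 𝟙 G := lift_fst _ _
  have hJ2 : lift (𝟙 G) (toUnit G ≫ x) ≫ snd G X = toUnit G ≫ x := lift_snd _ _
  have hJ1' : (lift (𝟙 G) (toUnit G ≫ x)).left ≫ pullback.fst G.hom X.hom = 𝟙 G.left :=
    congrArg (fun φ : G ⟶ G => φ.left) hJ1
  have hJ2' : (lift (𝟙 G) (toUnit G ≫ x)).left ≫ pullback.snd G.hom X.hom = G.hom ≫ x.left :=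
    congrArg (fun φ : G ⟶ X => φ.left) hJ2
  have hcond : pullback.fst (pullback.snd G.hom X.hom) x.left ≫ pullback.snd G.hom X.hom =
      pullback.snd (pullback.snd G.hom X.hom) x.left ≫ x.left := pullback.condition
  have hk : (pullback.fst (pullback.snd G.hom X.hom) x.left ≫ pullback.fst G.hom X.hom) ≫ G.hom =
      pullback.snd (pullback.snd G.hom X.hom) x.left := by
    have h3 : pullback.snd (pullback.snd G.hom X.hom) x.left =
        (pullback.snd (pullback.snd G.hom X.hom) x.left ≫ x.left) ≫ X.hom := by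
      rw [Category.assoc, hxw]
      exact (Category.comp_id _).symm
    rw [h3, ← hcond, Category.assoc, Category.assoc, pullback.condition]
  have key : (pullback.fst (pullback.snd G.hom X.hom) x.left ≫ pullback.fst G.hom X.hom) ≫
      (lift (𝟙 G) (toUnit G ≫ x)).left = pullback.fst (pullback.snd G.hom X.hom) x.left := by
    apply pullback.hom_ext
    · rw [Category.assoc, hJ1', Category.comp_id]
    · rw [Category.assoc, hJ2', ← Category.assoc, hk, hcond]
  have h4 : (lift (𝟙 G) (toUnit G ≫ x)).left ((fst G X).left t) = t := by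
    rw [← hq1]
    exact congrArg (fun φ : pullback (pullback.snd G.hom X.hom) x.left ⟶ pullback G.hom X.hom =>
      φ q) key
  show a.act.left ((lift (𝟙 G) (toUnit G ≫ x)).left ((fst G X).left t)) = a.act.left t
  rw [h4]

end

end Groth.Agent.H4.HsE
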