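import Mathlib
import Groth.Agent.H4.HsE

set_option autoImplicit false
universe u
open CategoryTheory CategoryTheory.Limits MonoidalCategory CartesianMonoidalCategory MonObj GrpObj
  AlgebraicGeometry

namespace Groth.Agent.H4.HsF

open Groth.Agent.H4 Groth.Agent.H9.FLH

section
variable (k : Type u) [Field k] (G X : Over (Spec (CommRingCat.of k))) [GrpObj G]
  (a : AlgGrp.Action G X)

/-- from two `T`-points `A = (g_A, x)`, `B = (g_B, x)` of `G × X` with the same `X`-component,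
build the `T`-point `(g_A g_B⁻¹, g_B x)`. -/
theorem tpoint {T : Scheme.{u}} (A B : T ⟶ (G ⊗ X).left)
    (hAB : A ≫ (snd G X).left = B ≫ (snd G X).left) :
    ∃ (tT : T ⟶ (G ⊗ X).left) (r : T ⟶ (G ⊗ G).left),
      tT ≫ a.act.left = A ≫ a.act.left ∧
      tT ≫ (snd G X).left = B ≫ a.act.left ∧
      tT ≫ (fst G X).left = r ≫ ((fst G G) * (snd G G)⁻¹ : G ⊗ G ⟶ G).left ∧
      r ≫ (fst G G).left = A ≫ (fst G X).left ∧
      r ≫ (snd G G).left = B ≫ (fst G X).left ∧
      ∀ {T₀ : Scheme.{u}} (Δ : T₀ ⟶ T), Δ ≫ A = Δ ≫ B →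
        ∀ (q₀ : ↥T₀) (pt : ↥(𝟙_ (Over (Spec (CommRingCat.of k)))).left),
        (fst G X).left (tT (Δ q₀)) = η[G].left pt := by
  haveI hss : Subsingleton ↥(𝟙_ (Over (Spec (CommRingCat.of k)))).left :=
    (subsingleton_spec_field k : Subsingleton ↥(Spec (CommRingCat.of k)))
  have hw : (snd G X).left ≫ X.hom = (G ⊗ X).hom := Over.w (snd G X)
  have hB : B ≫ (G ⊗ X).hom = A ≫ (G ⊗ X).hom := by
    rw [← hw, ← Category.assoc, ← Category.assoc, hAB]
  let Tk : Over (Spec (CommRingCat.of k)) := Over.mk (A ≫ (G ⊗ X).hom)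
  let AT : Tk ⟶ G ⊗ X := Over.homMk A rfl
  let BT : Tk ⟶ G ⊗ X := Over.homMk B hB
  let aT : Tk ⟶ G := AT ≫ fst G X
  let bT : Tk ⟶ G := BT ≫ fst G X
  let xT : Tk ⟶ X := AT ≫ snd G X
  have hx : BT ≫ snd G X = xT := by
    apply Over.OverMorphism.ext
    exact hAB.symm
  have hA : lift aT xT = AT := by
    apply CartesianMonoidalCategory.hom_ext
    · rw [lift_fst]
    · rw [lift_snd]
  have hB' : lift bT xT = BT := by
    apply CartesianMonoidalCategory.hom_ext
    · rw [lift_fst]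
    · rw [lift_snd, hx]
  have hy : smul a bT xT = BT ≫ a.act := by
    unfold Groth.Agent.H9.FLH.smul
    rw [hB']
  have hz : smul a (aT * bT⁻¹) (smul a bT xT) = AT ≫ a.act := by
    rw [← Groth.Agent.H9.FLH.mul_smul, inv_mul_cancel_right]
    unfold Groth.Agent.H9.FLH.smul
    rw [hA]
  let tT : Tk ⟶ G ⊗ X := lift (aT * bT⁻¹) (smul a bT xT)
  let rT : Tk ⟶ G ⊗ G := lift aT bT
  have hr : rT ≫ ((fst G G) * (snd G G)⁻¹ : G ⊗ G ⟶ G) = aT * bT⁻¹ := by
    rw [MonObj.comp_mul, GrpObj.comp_inv, lift_fst, lift_snd]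
  have ht1 : tT ≫ a.act = AT ≫ a.act := hz
  have ht2 : tT ≫ snd G X = BT ≫ a.act := by rw [lift_snd, hy]
  have ht3 : tT ≫ fst G X = rT ≫ ((fst G G) * (snd G G)⁻¹ : G ⊗ G ⟶ G) := by
    rw [lift_fst, hr]
  have hr1 : rT ≫ fst G G = AT ≫ fst G X := lift_fst _ _
  have hr2 : rT ≫ snd G G = BT ≫ fst G X := lift_snd _ _
  refine ⟨tT.left, rT.left, ?_, ?_, ?_, ?_, ?_, ?_⟩
  · exact congrArg (fun φ : Tk ⟶ X => φ.left) ht1
  · exact congrArg (fun φ : Tk ⟶ X => φ.left) ht2
  · exact congrArg (fun φ : Tk ⟶ G => φ.left) ht3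
  · exact congrArg (fun φ : Tk ⟶ G => φ.left) hr1
  · exact congrArg (fun φ : Tk ⟶ G => φ.left) hr2
  · intro T₀ Δ hΔ q₀ pt
    let T₀k : Over (Spec (CommRingCat.of k)) := Over.mk (Δ ≫ Tk.hom)
    let Δk : T₀k ⟶ Tk := Over.homMk Δ rfl
    have h1 : Δk ≫ AT = Δk ≫ BT := by
      apply Over.OverMorphism.ext
      exact hΔ
    have h2 : Δk ≫ aT = Δk ≫ bT := by
      show Δk ≫ AT ≫ fst G X = Δk ≫ BT ≫ fst G X
      rw [← Category.assoc, h1, Category.assoc]
    have h3 : Δk ≫ (aT * bT⁻¹) = toUnit T₀k ≫ η[G] := by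
      rw [MonObj.comp_mul, GrpObj.comp_inv, h2, _root_.mul_inv_cancel, Hom.one_def]
    have h4 : Δk ≫ tT ≫ fst G X = toUnit T₀k ≫ η[G] := by
      rw [lift_fst, h3]
    have h5 := congrArg (fun φ : T₀k ⟶ G => φ.left q₀) h4
    refine h5.trans ?_
    show η[G].left ((toUnit T₀k).left q₀) = η[G].left pt
    rw [Subsingleton.elim ((toUnit T₀k).left q₀) pt]

/-- the geometric fibre of `G × X → X` over a maximal point `ξ`, with its map to `X`. -/
theorem fibreP (hΦ : Surjective (lift a.act (snd G X)).left) (ξ : ↥X.left)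
    (hmax : ∀ y : ↥X.left, y ⤳ ξ → y = ξ) :
    ∃ (P : Scheme.{u}) (J : P ⟶ (G ⊗ X).left)
      (s : P ⟶ Spec (CommRingCat.of (AlgebraicClosure (X.left.residueField ξ))))
      (xK : Spec (CommRingCat.of (AlgebraicClosure (X.left.residueField ξ))) ⟶ X.left),
      J ≫ (snd G X).left = s ≫ xK ∧ (∀ q, xK q = ξ) ∧
      (∀ z : ↥X.left, ∃ w : ↥P, a.act.left (J w) = z) ∧
      (∀ (w : ↥P) (v : ↥(G ⊗ X).left), v ⤳ J w → ∃ w₁ : ↥P, w₁ ⤳ w ∧ J w₁ = v) := by
  haveI : Subsingleton ↥(Spec (CommRingCat.of k)) := subsingleton_spec_field k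
  let κ := X.left.residueField ξ
  let K := AlgebraicClosure κ
  haveI : Subsingleton ↥(Spec (CommRingCat.of κ)) := subsingleton_spec_field κ
  let ιξ : Spec (CommRingCat.of κ) ⟶ X.left := X.left.fromSpecResidueField ξ
  let e₁ : Spec (CommRingCat.of K) ⟶ Spec (CommRingCat.of κ) :=
    Spec.map (CommRingCat.ofHom (algebraMap κ K))
  let j₂ : pullback (pullback.snd G.hom X.hom) ιξ ⟶ (G ⊗ X).left := pullback.fst _ _
  let s₂ : pullback (pullback.snd G.hom X.hom) ιξ ⟶ Spec (CommRingCat.of κ) := pullback.snd _ _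
  let j₁ : pullback s₂ e₁ ⟶ pullback (pullback.snd G.hom X.hom) ιξ := pullback.fst _ _
  let s₁ : pullback s₂ e₁ ⟶ Spec (CommRingCat.of K) := pullback.snd _ _
  haveI : IsPreimmersion j₂ :=
    MorphismProperty.pullback_fst (P := @IsPreimmersion) _ _ inferInstance
  have hιξ : ∀ q, ιξ q = ξ := fun q => X.left.fromSpecResidueField_apply ξ q
  have hrange : Set.range j₂ = (snd G X).left ⁻¹' {ξ} := by
    show Set.range (pullback.fst (pullback.snd G.hom X.hom) ιξ) = _
    rw [Scheme.Pullback.range_fst]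
    congr 1
    ext y
    constructor
    · rintro ⟨s, rfl⟩
      exact hιξ s
    · rintro rfl
      exact ⟨(IsLocalRing.closedPoint κ : PrimeSpectrum κ), hιξ _⟩
  haveI : Flat e₁ := inferInstance
  haveI : Flat j₁ := by show Flat (pullback.fst s₂ e₁); infer_instance
  have hc2 : j₂ ≫ (snd G X).left = s₂ ≫ ιξ := pullback.condition
  have hc1 : j₁ ≫ s₂ = s₁ ≫ e₁ := pullback.condition
  refine ⟨pullback s₂ e₁, j₁ ≫ j₂, s₁, e₁ ≫ ιξ, ?_, ?_, ?_, ?_⟩
  · rw [Category.assoc, hc2, ← Category.assoc, hc1, Category.assoc]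
  · intro q
    exact hιξ _
  · intro z
    obtain ⟨w₀, hw1, hw2⟩ := HsC.exists_point k G X a hΦ z ξ
    obtain ⟨p₂, rfl⟩ : w₀ ∈ Set.range j₂ := by rw [hrange]; exact hw2
    obtain ⟨p₁, hp₁, -⟩ := Scheme.Pullback.exists_preimage_pullback (f := s₂) (g := e₁) p₂
      (IsLocalRing.closedPoint K : PrimeSpectrum K) (Subsingleton.elim _ _)
    refine ⟨p₁, ?_⟩
    show a.act.left (j₂ (j₁ p₁)) = z
    rw [show j₁ p₁ = p₂ from hp₁]
    exact hw1
  · intro w v hv
    have hJw : (snd G X).left (j₂ (j₁ w)) = ξ := by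
      have : j₂ (j₁ w) ∈ Set.range j₂ := ⟨_, rfl⟩
      rw [hrange] at this
      exact this
    have hv' : v ⤳ j₂ (j₁ w) := hv
    have hsv : (snd G X).left v = ξ := by
      apply hmax
      have h := hv'.map (snd G X).left.continuous
      rw [hJw] at h
      exact h
    obtain ⟨v₂, rfl⟩ : v ∈ Set.range j₂ := by rw [hrange]; exact hsv
    have hv₂ : v₂ ⤳ j₁ w := (j₂.isEmbedding.isInducing.specializes_iff).mp hv'
    obtain ⟨w₁, hw₁, hw₁v⟩ := (Flat.generalizingMap j₁) hv₂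
    refine ⟨w₁, hw₁, ?_⟩
    show j₂ (j₁ w₁) = j₂ v₂
    rw [hw₁v]

/-- the key transitivity statement: every specialization `z` of a maximal point `ξ` is of the
form `g · ξ` with `g` in the neutral component and in any given neighbourhood of `e`. -/
theorem mpp (hΦ : Surjective (lift a.act (snd G X)).left) (z ξ : ↥X.left) (hξz : ξ ⤳ z)
    (hmax : ∀ y : ↥X.left, y ⤳ ξ → y = ξ)
    (pt : ↥(𝟙_ (Over (Spec (CommRingCat.of k)))).left) (C0 : Set G.left)
    (hC0 : C0 ∈ irreducibleComponents ↥G.left) (he : η[G].left pt ∈ C0)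
    (N : Set G.left) (hN : IsOpen N) (heN : η[G].left pt ∈ N) :
    ∃ t : ↥(G ⊗ X).left, a.act.left t = z ∧ (fst G X).left t ∈ C0 ∧ (fst G X).left t ∈ N ∧
      (snd G X).left t = ξ := by
  haveI : Subsingleton ↥(Spec (CommRingCat.of k)) := subsingleton_spec_field k
  obtain ⟨P, J, s, xK, hJs, hxK, hsurj, hgen⟩ := fibreP k G X a hΦ ξ hmax
  haveI : Subsingleton ↥(Spec (CommRingCat.of (AlgebraicClosure (X.left.residueField ξ)))) :=
    subsingleton_spec_field _
  obtain ⟨w, hw⟩ := hsurj z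
  haveI : Flat G.hom := inferInstance
  haveI : Flat a.act.left := flat_act a
  obtain ⟨v, hv, hvξ⟩ := (Flat.generalizingMap a.act.left)
    (show ξ ⤳ a.act.left (J w) by rw [hw]; exact hξz)
  obtain ⟨w₁, hw₁, rfl⟩ := hgen w v hv
  obtain ⟨D', ιD, hpre, hrD⟩ := HsE.exists_subscheme (closure {w₁}) isClosed_closure
  haveI := hpre
  haveI : IrreducibleSpace ↥D' := HsE.irreducibleSpace_of_isInducing ιD.isEmbedding.isInducing
    (by rw [hrD]; exact isIrreducible_singleton.closure)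
  obtain ⟨w', hw'⟩ : w ∈ Set.range ιD := by
    rw [hrD]; exact specializes_iff_mem_closure.mp hw₁
  obtain ⟨w₁', hw₁'⟩ : w₁ ∈ Set.range ιD := by
    rw [hrD]; exact subset_closure rfl
  let κw := D'.residueField w'
  let ρ : Spec (CommRingCat.of κw) ⟶ D' := D'.fromSpecResidueField w'
  let f : Spec (CommRingCat.of κw) ⟶
      Spec (CommRingCat.of (AlgebraicClosure (X.left.residueField ξ))) := ρ ≫ ιD ≫ s
  let g : D' ⟶ Spec (CommRingCat.of (AlgebraicClosure (X.left.residueField ξ))) := ιD ≫ s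
  haveI : GeometricallyIrreducible f := HsB.geomIrr_of_field _ κw f
  haveI : UniversallyOpen f := inferInstance
  haveI : IrreducibleSpace ↥(pullback f g) := inferInstance
  let A : pullback f g ⟶ (G ⊗ X).left := pullback.fst f g ≫ ρ ≫ ιD ≫ J
  let B : pullback f g ⟶ (G ⊗ X).left := pullback.snd f g ≫ ιD ≫ J
  have hAB : A ≫ (snd G X).left = B ≫ (snd G X).left := by
    have h1 : A ≫ (snd G X).left = (pullback.fst f g ≫ f) ≫ xK := by
      simp only [A, f, Category.assoc, hJs]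
    have h2 : B ≫ (snd G X).left = (pullback.snd f g ≫ g) ≫ xK := by
      simp only [B, g, Category.assoc, hJs]
    rw [h1, h2, pullback.condition]
  let Δ : Spec (CommRingCat.of κw) ⟶ pullback f g :=
    pullback.lift (𝟙 _) ρ (by simp only [f, g, Category.id_comp])
  have hΔ : Δ ≫ A = Δ ≫ B := by
    simp only [A, B, Δ, pullback.lift_fst_assoc, pullback.lift_snd_assoc, Category.id_comp]
  let q₀ : ↥(Spec (CommRingCat.of κw)) := (IsLocalRing.closedPoint κw : PrimeSpectrum κw)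
  obtain ⟨tT, r, ht1, ht2, ht3, -, -, ht6⟩ := tpoint k G X a A B hAB
  have hρ : ∀ q, ρ q = w' := fun q => D'.fromSpecResidueField_apply w' q
  have hAp : ∀ p, A p = J w := fun p => by
    show J (ιD (ρ (pullback.fst f g p))) = J w
    rw [hρ, hw']
  have hirr : IsIrreducible (Set.range (tT ≫ (fst G X).left)) := by
    rw [← Set.image_univ]
    exact (IrreducibleSpace.isIrreducible_univ _).image _
      (tT ≫ (fst G X).left).continuous.continuousOn
  have hemem : η[G].left pt ∈ Set.range (tT ≫ (fst G X).left) := ⟨Δ q₀, ht6 Δ hΔ q₀ pt⟩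
  have hsub := HsA.UG.subset_of_isIrreducible (HsC.ug_group k G (η[G].left pt)) hirr hemem hC0 he
  let p : ↥(pullback f g) := genericPoint _
  refine ⟨tT p, ?_, ?_, ?_, ?_⟩
  · have h := congrArg (fun φ : pullback f g ⟶ X.left => φ p) ht1
    refine h.trans ?_
    show a.act.left (A p) = z
    rw [hAp, hw]
  · exact hsub ⟨p, rfl⟩
  · have hsp : p ⤳ Δ q₀ := genericPoint_specializes _
    have h := hsp.map (tT ≫ (fst G X).left).continuous
    have h' : (tT ≫ (fst G X).left) (Δ q₀) = η[G].left pt := ht6 Δ hΔ q₀ pt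
    rw [h'] at h
    exact h.mem_open hN heN
  · obtain ⟨q₁, -, hq₁⟩ := Scheme.Pullback.exists_preimage_pullback (f := f) (g := g) q₀ w₁'
      (Subsingleton.elim _ _)
    have hsp : p ⤳ q₁ := genericPoint_specializes _
    have h := hsp.map (B ≫ a.act.left).continuous
    have hB1 : (B ≫ a.act.left) q₁ = ξ := by
      show a.act.left (J (ιD (pullback.snd f g q₁))) = ξ
      rw [hq₁, hw₁']
      exact hvξ
    rw [hB1] at h
    have h2 := congrArg (fun φ : pullback f g ⟶ X.left => φ p) ht2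
    refine h2.trans ?_
    exact hmax _ h

end

end Groth.Agent.H4.HsF
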