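import Mathlib
import Groth.Agent.H4.HsF
import Groth.Agent.Lib.Helper7.SPB

set_option autoImplicit false
universe u
open CategoryTheory CategoryTheory.Limits MonoidalCategory CartesianMonoidalCategory MonObj GrpObj
  AlgebraicGeometry

namespace Groth.Agent.H4.HsG

open Groth.Agent.H4 Groth.Agent.H9.FLH

section Tr
variable {S : Scheme.{u}} {G X T : Over S} [GrpObj G] (a : AlgGrp.Action G X)

/-- translation by a `T`-point of `G` on `X ×_S T`. -/
noncomputable def trn (c : T ⟶ G) : X ⊗ T ⟶ X ⊗ T :=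
  lift (smul a (snd X T ≫ c) (fst X T)) (snd X T)

theorem trn_fst (c : T ⟶ G) : trn a c ≫ fst X T = smul a (snd X T ≫ c) (fst X T) := lift_fst _ _

theorem trn_snd (c : T ⟶ G) : trn a c ≫ snd X T = snd X T := lift_snd _ _

theorem trn_trn (c d : T ⟶ G) : trn a c ≫ trn a d = trn a (d * c) := by
  apply CartesianMonoidalCategory.hom_ext
  · have h1 : (trn a c ≫ trn a d) ≫ fst X T =
        smul a (snd X T ≫ d) (smul a (snd X T ≫ c) (fst X T)) := by
      rw [Category.assoc, trn_fst a d, comp_smul, ← Category.assoc, trn_snd, trn_fst]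
    rw [h1, trn_fst, ← Groth.Agent.H9.FLH.mul_smul, MonObj.comp_mul]
  · rw [Category.assoc, trn_snd, trn_snd, trn_snd]

theorem trn_one : trn a (1 : T ⟶ G) = 𝟙 _ := by
  apply CartesianMonoidalCategory.hom_ext
  · rw [trn_fst, MonObj.comp_one, Groth.Agent.H9.FLH.one_smul, Category.id_comp]
  · rw [trn_snd, Category.id_comp]

instance isIso_trn_left (c : T ⟶ G) : IsIso (trn a c).left := by
  haveI : IsIso (trn a c) := ⟨trn a c⁻¹, by rw [trn_trn, _root_.inv_mul_cancel, trn_one],
    by rw [trn_trn, _root_.mul_inv_cancel, trn_one]⟩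
  exact inferInstanceAs (IsIso ((Over.forget _).map (trn a c)))

end Tr

/-- in a scheme, a point in the closure of a retrocompact open is a specialization of one of
its points. -/
theorem exists_specializes_of_retrocompact {Y : Scheme.{u}} (U : Y.Opens)
    (hU : IsRetrocompact (U : Set Y)) (x : ↥Y) (hx : x ∈ closure (U : Set Y)) :
    ∃ u ∈ U, u ⤳ x := by
  obtain ⟨_, ⟨W, hW, rfl⟩, hxW, -⟩ :=
    Y.isBasis_affineOpens.exists_subset_of_mem_open (Set.mem_univ x) isOpen_univ
  have hWa : IsAffineOpen W := hW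
  have hc : IsCompact ((U : Set Y) ∩ W) := hU hWa.isCompact W.isOpen
  have hx' : x ∈ closure ((U : Set Y) ∩ W) := by
    rw [Set.inter_comm]
    exact W.isOpen.inter_closure ⟨hxW, hx⟩
  obtain ⟨x', rfl⟩ : x ∈ Set.range hWa.fromSpec := by rw [hWa.range_fromSpec]; exact hxW
  have hpre : x' ∈ closure (hWa.fromSpec ⁻¹' ((U : Set Y) ∩ W)) := by
    rw [← hWa.fromSpec.isOpenEmbedding.isOpenMap.preimage_closure_eq_closure_preimage
      hWa.fromSpec.continuous]
    exact hx'
  have hcpre : IsCompact (hWa.fromSpec ⁻¹' ((U : Set Y) ∩ W)) :=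
    (hWa.fromSpec.isOpenEmbedding.isInducing.isCompact_preimage_iff
      (by rw [hWa.range_fromSpec]; exact Set.inter_subset_right)).mpr hc
  have hopre : IsOpen (hWa.fromSpec ⁻¹' ((U : Set Y) ∩ W)) :=
    (U.isOpen.inter W.isOpen).preimage hWa.fromSpec.continuous
  haveI : SpectralSpace ↥(Spec Γ(Y, W)) := inferInstanceAs (SpectralSpace (PrimeSpectrum Γ(Y, W)))
  obtain ⟨u', hu', hspec⟩ := Groth.Agent.H7.SP.exists_specializes_of_mem_closure
    (Groth.Agent.H7.SP.isClosed_cons_of_isCompact_isOpen hcpre hopre) hpre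
  exact ⟨hWa.fromSpec u', hu'.1, hspec.map hWa.fromSpec.continuous⟩

section
variable (k : Type u) [Field k] (G X : Over (Spec (CommRingCat.of k))) [GrpObj G]
  (a : AlgGrp.Action G X)

/-- the translate `g · U` of an open set by a point `g` of `G` is open. -/
theorem isOpen_act_fibre (g : ↥G.left) (U : X.left.Opens) :
    IsOpen (a.act.left ''
      {z : ↥(G ⊗ X).left | (fst G X).left z = g ∧ (snd G X).left z ∈ U}) := by
  haveI : Subsingleton ↥(Spec (CommRingCat.of k)) := subsingleton_spec_field k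
  let κ := G.left.residueField g
  let ιg : Spec (CommRingCat.of κ) ⟶ G.left := G.left.fromSpecResidueField g
  let Tg : Over (Spec (CommRingCat.of k)) := Over.mk (ιg ≫ G.hom)
  let gT : Tg ⟶ G := Over.homMk ιg rfl
  let τ : X ⊗ Tg ⟶ X := smul a (snd X Tg ≫ gT) (fst X Tg)
  have hτ : τ = trn a gT ≫ fst X Tg := (trn_fst a gT).symm
  haveI : UniversallyOpen Tg.hom := by show UniversallyOpen (ιg ≫ G.hom); infer_instance
  haveI : UniversallyOpen (fst X Tg).left := by
    show UniversallyOpen (pullback.fst X.hom Tg.hom); infer_instance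
  have hopen : IsOpenMap τ.left := by
    rw [hτ]
    exact ((trn a gT).left ≫ (fst X Tg).left).isOpenMap
  let m : X ⊗ Tg ⟶ G ⊗ X := lift (snd X Tg ≫ gT) (fst X Tg)
  have hm1 : m.left ≫ (fst G X).left = (snd X Tg).left ≫ ιg :=
    congrArg (fun φ : X ⊗ Tg ⟶ G => φ.left) (lift_fst (snd X Tg ≫ gT) (fst X Tg))
  have hm2 : m.left ≫ (snd G X).left = (fst X Tg).left :=
    congrArg (fun φ : X ⊗ Tg ⟶ X => φ.left) (lift_snd (snd X Tg ≫ gT) (fst X Tg))
  have hιg : ∀ q, ιg q = g := fun q => G.left.fromSpecResidueField_apply g q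
  have himg : a.act.left ''
      {z : ↥(G ⊗ X).left | (fst G X).left z = g ∧ (snd G X).left z ∈ U} =
      τ.left '' ((fst X Tg).left ⁻¹' (U : Set X.left)) := by
    ext y
    constructor
    · rintro ⟨z₀, ⟨hz1, hz2⟩, rfl⟩
      obtain ⟨q, hq1, -⟩ := Scheme.Pullback.exists_preimage_pullback
        (f := pullback.fst G.hom X.hom) (g := ιg) z₀
        (IsLocalRing.closedPoint κ : PrimeSpectrum κ) (by rw [hιg]; exact hz1)
      have hc : (pullback.fst (pullback.fst G.hom X.hom) ιg ≫ pullback.snd G.hom X.hom) ≫ X.hom =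
          pullback.snd (pullback.fst G.hom X.hom) ιg ≫ Tg.hom := by
        have e1 : pullback.fst (pullback.fst G.hom X.hom) ιg ≫ pullback.fst G.hom X.hom =
            pullback.snd (pullback.fst G.hom X.hom) ιg ≫ ιg := pullback.condition
        have e2 : pullback.fst G.hom X.hom ≫ G.hom = pullback.snd G.hom X.hom ≫ X.hom :=
          pullback.condition
        show _ = pullback.snd (pullback.fst G.hom X.hom) ιg ≫ ιg ≫ G.hom
        rw [Category.assoc, ← e2, reassoc_of% e1]
      obtain ⟨n, hn1, hn2⟩ : ∃ n : pullback (pullback.fst G.hom X.hom) ιg ⟶ (X ⊗ Tg).left,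
          n ≫ (fst X Tg).left =
            pullback.fst (pullback.fst G.hom X.hom) ιg ≫ pullback.snd G.hom X.hom ∧
          n ≫ (snd X Tg).left = pullback.snd (pullback.fst G.hom X.hom) ιg :=
        ⟨pullback.lift _ _ hc, pullback.lift_fst _ _ _, pullback.lift_snd _ _ _⟩
      have key : (n ≫ m.left : pullback (pullback.fst G.hom X.hom) ιg ⟶ pullback G.hom X.hom) =
          pullback.fst (pullback.fst G.hom X.hom) ιg := by
        apply pullback.hom_ext
        · show (n ≫ m.left) ≫ (fst G X).left = _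
          rw [Category.assoc, hm1, ← Category.assoc, hn2]
          exact pullback.condition.symm
        · show (n ≫ m.left) ≫ (snd G X).left = _
          rw [Category.assoc, hm2, hn1]
      have hz₀ : m.left (n q) = z₀ := by
        rw [← hq1]
        exact congrArg (fun φ : pullback (pullback.fst G.hom X.hom) ιg ⟶ pullback G.hom X.hom =>
          φ q) key
      refine ⟨n q, ?_, ?_⟩
      · show (fst X Tg).left (n q) ∈ U
        have h3 : (fst X Tg).left (n q) = (snd G X).left z₀ := by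
          rw [← hq1]
          exact congrArg (fun φ : pullback (pullback.fst G.hom X.hom) ιg ⟶ X.left => φ q) hn1
        rw [h3]
        exact hz2
      · show a.act.left (m.left (n q)) = a.act.left z₀
        rw [hz₀]
    · rintro ⟨p, hp, rfl⟩
      refine ⟨m.left p, ⟨?_, ?_⟩, rfl⟩
      · show (m.left ≫ (fst G X).left) p = g
        rw [hm1]
        exact hιg _
      · show (m.left ≫ (snd G X).left) p ∈ U
        rw [hm2]
        exact hp
  rw [himg]
  exact hopen _ (U.isOpen.preimage (fst X Tg).left.continuous)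

/-- SGA3 VI_A 2.6.5 (ii): `G⁰ · U`. -/
theorem s5350 (hΦ : Surjective (lift a.act (snd G X)).left)
    (pt : ↥(𝟙_ (Over (Spec (CommRingCat.of k)))).left) (C0 : Set G.left)
    (hC0 : C0 ∈ irreducibleComponents ↥G.left)
    (he : η[G].left.base pt ∈ C0) (U : X.left.Opens) :
    letI V : Set X.left := a.act.left.base '' {z : ↥(G ⊗ X).left | (fst G X).left.base z ∈ C0 ∧ (snd G X).left.base z ∈ U}
    IsOpen V ∧ V = ⋃₀ {Z : Set X.left | Z ∈ irreducibleComponents ↥X.left ∧ ∃ ξ ∈ U, closure {ξ} = Z} ∧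
    (IsRetrocompact (U : Set X.left) → V = closure (U : Set X.left)) := by
  have hVS : a.act.left.base '' {z : ↥(G ⊗ X).left | (fst G X).left.base z ∈ C0 ∧
      (snd G X).left.base z ∈ U} =
      ⋃₀ {Z : Set X.left | Z ∈ irreducibleComponents ↥X.left ∧ ∃ ξ ∈ U, closure {ξ} = Z} := by
    apply Set.Subset.antisymm
    · rintro _ ⟨t, ⟨ht1, ht2⟩, rfl⟩
      obtain ⟨ξ, hξy, hξmax, hξc⟩ := HsA.exists_maximal_generization ((snd G X).left t)
      have hξU : ξ ∈ U := hξy.mem_open U.isOpen ht2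
      refine ⟨closure {ξ}, ⟨hξc, ξ, hξU, rfl⟩, ?_⟩
      have hyZ : (snd G X).left t ∈ closure {ξ} := specializes_iff_mem_closure.mp hξy
      have hR := HsE.isIrreducible_prod k G pt C0 hC0 he X (closure {ξ})
        isIrreducible_singleton.closure
      have hirr := hR.image a.act.left a.act.left.continuous.continuousOn
      obtain ⟨t₀, ht₀1, ht₀2, ht₀3⟩ := HsE.unit_point k G X a pt ((snd G X).left t)
      have hmem : (snd G X).left t ∈ a.act.left ''
          ((fst G X).left ⁻¹' C0 ∩ (snd G X).left ⁻¹' closure {ξ}) := by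
        refine ⟨t₀, ⟨?_, ?_⟩, ht₀3⟩
        · show (fst G X).left t₀ ∈ C0
          rw [ht₀1]
          exact he
        · show (snd G X).left t₀ ∈ closure {ξ}
          rw [ht₀2]
          exact hyZ
      exact HsA.UG.subset_of_isIrreducible (HsC.ug_homog k G X a hΦ _) hirr hmem hξc hyZ
        ⟨t, ⟨ht1, hyZ⟩, rfl⟩
    · rintro x ⟨Z, ⟨hZ, ξ, hξU, rfl⟩, hxZ⟩
      have hξx : ξ ⤳ x := specializes_iff_mem_closure.mpr hxZ
      have hmax : ∀ y : ↥X.left, y ⤳ ξ → y = ξ := fun y hy =>
        HsA.eq_of_specializes_genericPoint hZ isGenericPoint_closure hy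
      obtain ⟨t, ht1, ht2, -, ht4⟩ := HsF.mpp k G X a hΦ x ξ hξx hmax pt C0 hC0 he Set.univ
        isOpen_univ (Set.mem_univ _)
      refine ⟨t, ⟨ht2, ?_⟩, ht1⟩
      show (snd G X).left t ∈ U
      rw [ht4]
      exact hξU
  refine ⟨?_, hVS, ?_⟩
  · rw [isOpen_iff_forall_mem_open]
    rintro _ ⟨t, ⟨ht1, ht2⟩, rfl⟩
    refine ⟨a.act.left '' {z : ↥(G ⊗ X).left | (fst G X).left z = (fst G X).left t ∧
      (snd G X).left z ∈ U}, ?_, isOpen_act_fibre k G X a _ U, ⟨t, ⟨rfl, ht2⟩, rfl⟩⟩
    rintro _ ⟨z, ⟨hz1, hz2⟩, rfl⟩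
    refine ⟨z, ⟨?_, hz2⟩, rfl⟩
    show (fst G X).left z ∈ C0
    rw [hz1]
    exact ht1
  · intro hU
    apply Set.Subset.antisymm
    · rw [hVS]
      rintro x ⟨Z, ⟨-, ξ, hξU, rfl⟩, hxZ⟩
      exact closure_mono (Set.singleton_subset_iff.mpr hξU) hxZ
    · intro x hx
      obtain ⟨u, huU, hux⟩ := exists_specializes_of_retrocompact U hU x hx
      obtain ⟨ξ, hξu, -, hξc⟩ := HsA.exists_maximal_generization u
      rw [hVS]
      refine ⟨closure {ξ}, ⟨hξc, ξ, hξu.mem_open U.isOpen huU, rfl⟩, ?_⟩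
      exact specializes_iff_mem_closure.mp (hξu.trans hux)

end

end Groth.Agent.H4.HsG
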