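import Mathlib
import Groth.Agent.H4.HsG

set_option autoImplicit false
universe u
open CategoryTheory CategoryTheory.Limits MonoidalCategory CartesianMonoidalCategory MonObj GrpObj
  AlgebraicGeometry

namespace Groth.Agent.H4.HsH

open Groth.Agent.H4 Groth.Agent.H9.FLH

section
variable (k : Type u) [Field k] (G X : Over (Spec (CommRingCat.of k))) [GrpObj G]
  (a : AlgGrp.Action G X)

/-- SGA3 VI_A 2.6.5 (i): an irreducible homogeneous space is quasi-compact. -/
theorem s5349 (hΦ : Surjective (lift a.act (snd G X)).left) [IrreducibleSpace X.left] :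
    CompactSpace X.left := by
  haveI : Subsingleton ↥(Spec (CommRingCat.of k)) := subsingleton_spec_field k
  let pt : ↥(𝟙_ (Over (Spec (CommRingCat.of k)))).left :=
    (IsLocalRing.closedPoint k : PrimeSpectrum k)
  have hexN : ∃ N : G.left.Opens, IsAffineOpen N ∧ η[G].left pt ∈ (N : Set G.left) := by
    obtain ⟨_, ⟨N, hN, rfl⟩, heN, -⟩ :=
      G.left.isBasis_affineOpens.exists_subset_of_mem_open (Set.mem_univ (η[G].left pt))
        isOpen_univ
    exact ⟨N, hN, heN⟩
  have hexU : ∃ U : X.left.Opens, IsAffineOpen U ∧ genericPoint ↥X.left ∈ (U : Set X.left) := by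
    obtain ⟨_, ⟨U, hU, rfl⟩, hξU, -⟩ :=
      X.left.isBasis_affineOpens.exists_subset_of_mem_open (Set.mem_univ (genericPoint ↥X.left))
        isOpen_univ
    exact ⟨U, hU, hξU⟩
  obtain ⟨N, hNa, heN⟩ := hexN
  obtain ⟨U, hUa, hξU⟩ := hexU
  haveI : IsAffine N.toScheme := hNa
  haveI : IsAffine U.toScheme := hUa
  obtain ⟨m, hm⟩ : ∃ m : pullback (N.ι ≫ G.hom) (U.ι ≫ X.hom) ⟶ (G ⊗ X).left,
      m = pullback.map (N.ι ≫ G.hom) (U.ι ≫ X.hom) G.hom X.hom N.ι U.ι (𝟙 _)
        (by simp) (by simp) := ⟨_, rfl⟩
  have hrm : Set.range m =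
      (fst G X).left ⁻¹' Set.range N.ι ∩ (snd G X).left ⁻¹' Set.range U.ι := by
    rw [hm]
    exact Scheme.Pullback.range_map (N.ι ≫ G.hom) (U.ι ≫ X.hom) G.hom X.hom N.ι U.ι (𝟙 _)
      (by simp) (by simp)
  have hmax : ∀ y : ↥X.left, y ⤳ genericPoint ↥X.left → y = genericPoint ↥X.left := fun y hy =>
    ((genericPoint_specializes y).antisymm hy).eq.symm
  have hcov : (Set.univ : Set X.left) = Set.range (m ≫ a.act.left) := by
    apply Set.Subset.antisymm
    · intro z _
      obtain ⟨t, ht1, -, ht3, ht4⟩ := HsF.mpp k G X a hΦ z (genericPoint ↥X.left)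
        (genericPoint_specializes z) hmax pt
        (irreducibleComponent (η[G].left pt))
        (irreducibleComponent_mem_irreducibleComponents (η[G].left pt)) mem_irreducibleComponent
        (N : Set G.left) N.isOpen heN
      have htm : t ∈ Set.range m := by
        rw [hrm]
        refine ⟨?_, ?_⟩
        · show (fst G X).left t ∈ Set.range N.ι
          rw [Scheme.Opens.range_ι]
          exact ht3
        · show (snd G X).left t ∈ Set.range U.ι
          rw [Scheme.Opens.range_ι, ht4]
          exact hξU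
      obtain ⟨s, rfl⟩ := htm
      exact ⟨s, ht1⟩
    · exact Set.subset_univ _
  rw [← isCompact_univ_iff, hcov]
  exact isCompact_range (m ≫ a.act.left).continuous

/-- SGA3 VI_A 2.6.6. -/
theorem s5403 [QuasiSeparatedSpace X.left] (hΦ : Surjective (lift a.act (snd G X)).left)
    (x : 𝟙_ (Over (Spec (CommRingCat.of k))) ⟶ X) (pt : ↥(𝟙_ (Over (Spec (CommRingCat.of k)))).left)
    (C0 : Set G.left) (hC0 : C0 ∈ irreducibleComponents ↥G.left) (he : η[G].left.base pt ∈ C0) :
    (a.orbitMap x).left.base '' C0 = connectedComponent (x.left.base pt) ∧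
    ∀ (K : Type u) [Field K] [Algebra k K],
      IsIrreducible ((pullback.fst X.hom (Spec.map (CommRingCat.ofHom (algebraMap k K)))).base ⁻¹' connectedComponent (x.left.base pt)) := by
  obtain ⟨x₀, hx₀⟩ : ∃ x₀ : ↥X.left, x.left.base pt = x₀ := ⟨_, rfl⟩
  rw [hx₀]
  have hUG := HsC.ug_homog k G X a hΦ
  obtain ⟨ξ, hξx, hξmax, hξc⟩ := HsA.exists_maximal_generization x₀
  have hx₀Z : x₀ ∈ closure {ξ} := specializes_iff_mem_closure.mp hξx
  have hcc : connectedComponent x₀ = closure {ξ} := by
    apply Set.Subset.antisymm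
    · intro y hy
      by_contra hyZ
      obtain ⟨ξy, hξyy, -, hξyc⟩ := HsA.exists_maximal_generization y
      have hyZy : y ∈ closure {ξy} := specializes_iff_mem_closure.mp hξyy
      have hξnot : ξ ∈ (closure {ξy})ᶜ := by
        intro h
        have hsub : closure {ξ} ⊆ closure {ξy} :=
          closure_minimal (Set.singleton_subset_iff.mpr h) isClosed_closure
        exact hyZ (hξc.2 hξyc.1 hsub hyZy)
      obtain ⟨_, ⟨W, hW, rfl⟩, hξW, hWsub⟩ :=
        X.left.isBasis_affineOpens.exists_subset_of_mem_open hξnot isClosed_closure.isOpen_compl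
      have hWa : IsAffineOpen W := hW
      have hretro : IsRetrocompact (W : Set X.left) := fun K hK hKo =>
        QuasiSeparatedSpace.inter_isCompact (W : Set X.left) K W.isOpen hWa.isCompact hKo hK
      obtain ⟨hopen, hVS, hcl⟩ := HsG.s5350 k G X a hΦ pt C0 hC0 he W
      have hVcl := hcl hretro
      have hclopen : IsClopen (closure (W : Set X.left)) :=
        ⟨isClosed_closure, by rw [← hVcl]; exact hopen⟩
      have hx₀cl : x₀ ∈ closure (W : Set X.left) :=
        closure_mono (Set.singleton_subset_iff.mpr hξW) hx₀Z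
      have hycl : y ∈ closure (W : Set X.left) := hclopen.connectedComponent_subset hx₀cl hy
      rw [← hVcl, hVS] at hycl
      obtain ⟨Z', ⟨hZ', ξ', hξ'W, rfl⟩, hyZ'⟩ := hycl
      have heq : closure {ξ'} = closure {ξy} := (hUG y).eq_of_mem hZ' hξyc hyZ' hyZy
      have h1 : ξ' ∈ closure {ξ'} := subset_closure rfl
      rw [heq] at h1
      exact hWsub hξ'W h1
    · exact (isIrreducible_singleton.closure).isConnected.isPreconnected.subset_connectedComponent
        hx₀Z
  rw [hcc]
  refine ⟨?_, ?_⟩
  · apply Set.Subset.antisymm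
    · have hirr : IsIrreducible ((a.orbitMap x).left.base '' C0) :=
        hC0.1.image _ (a.orbitMap x).left.continuous.continuousOn
      obtain ⟨t₀, ht₀1, ht₀2, ht₀3⟩ := HsE.unit_point k G X a pt x₀
      have horb : (a.orbitMap x).left ((fst G X).left t₀) = a.act.left t₀ :=
        HsE.orbit_of_snd k G X a x pt t₀ (by rw [ht₀2]; exact hx₀.symm)
      have hmem : x₀ ∈ (a.orbitMap x).left.base '' C0 := by
        refine ⟨η[G].left pt, he, ?_⟩
        rw [← ht₀1]
        exact horb.trans ht₀3
      exact HsA.UG.subset_of_isIrreducible (hUG x₀) hirr hmem hξc hx₀Z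
    · intro z hz
      have hξz : ξ ⤳ z := specializes_iff_mem_closure.mpr hz
      obtain ⟨tz, htz1, htz2, -, htz4⟩ := HsF.mpp k G X a hΦ z ξ hξz hξmax pt C0 hC0 he Set.univ
        isOpen_univ (Set.mem_univ _)
      obtain ⟨tx, htx1, htx2, -, htx4⟩ := HsF.mpp k G X a hΦ x₀ ξ hξx hξmax pt C0 hC0 he Set.univ
        isOpen_univ (Set.mem_univ _)
      let κz := (G ⊗ X).left.residueField tz
      let κx := (G ⊗ X).left.residueField tx
      let ιz : Spec (CommRingCat.of κz) ⟶ (G ⊗ X).left := (G ⊗ X).left.fromSpecResidueField tz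
      let ιx : Spec (CommRingCat.of κx) ⟶ (G ⊗ X).left := (G ⊗ X).left.fromSpecResidueField tx
      have hιz : ∀ q, ιz q = tz := fun q => (G ⊗ X).left.fromSpecResidueField_apply tz q
      have hιx : ∀ q, ιx q = tx := fun q => (G ⊗ X).left.fromSpecResidueField_apply tx q
      obtain ⟨s, -, -⟩ := Scheme.Pullback.exists_preimage_pullback
        (f := ιz ≫ (snd G X).left) (g := ιx ≫ (snd G X).left)
        (IsLocalRing.closedPoint κz : PrimeSpectrum κz)
        (IsLocalRing.closedPoint κx : PrimeSpectrum κx) (by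
          show (snd G X).left (ιz _) = (snd G X).left (ιx _)
          rw [hιz, hιx, htz4, htx4])
      let A : pullback (ιz ≫ (snd G X).left) (ιx ≫ (snd G X).left) ⟶ (G ⊗ X).left :=
        pullback.fst _ _ ≫ ιz
      let B : pullback (ιz ≫ (snd G X).left) (ιx ≫ (snd G X).left) ⟶ (G ⊗ X).left :=
        pullback.snd _ _ ≫ ιx
      have hAB : A ≫ (snd G X).left = B ≫ (snd G X).left := by
        simp only [A, B, Category.assoc]
        exact pullback.condition
      obtain ⟨tT, r, ht1, ht2, ht3, ht4, ht5, -⟩ := HsF.tpoint k G X a A B hAB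
      have hAs : A s = tz := hιz _
      have hBs : B s = tx := hιx _
      have hact : a.act.left (tT s) = z := by
        have h := congrArg (fun φ : pullback (ιz ≫ (snd G X).left) (ιx ≫ (snd G X).left) ⟶
          X.left => φ s) ht1
        refine h.trans ?_
        show a.act.left (A s) = z
        rw [hAs]
        exact htz1
      have hsnd : (snd G X).left (tT s) = x₀ := by
        have h := congrArg (fun φ : pullback (ιz ≫ (snd G X).left) (ιx ≫ (snd G X).left) ⟶
          X.left => φ s) ht2
        refine h.trans ?_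
        show a.act.left (B s) = x₀
        rw [hBs]
        exact htx1
      have hfst : (fst G X).left (tT s) ∈ C0 := by
        have h3 := congrArg (fun φ : pullback (ιz ≫ (snd G X).left) (ιx ≫ (snd G X).left) ⟶
          G.left => φ s) ht3
        have h3' : (fst G X).left (tT s) =
            ((fst G G) * (snd G G)⁻¹ : G ⊗ G ⟶ G).left (r s) := h3
        rw [h3']
        apply HsE.div_mem k G pt C0 hC0 he (r s)
        · have h4 := congrArg (fun φ : pullback (ιz ≫ (snd G X).left) (ιx ≫ (snd G X).left) ⟶
            G.left => φ s) ht4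
          have h4' : (fst G G).left (r s) = (fst G X).left (A s) := h4
          rw [h4', hAs]
          exact htz2
        · have h5 := congrArg (fun φ : pullback (ιz ≫ (snd G X).left) (ιx ≫ (snd G X).left) ⟶
            G.left => φ s) ht5
          have h5' : (snd G G).left (r s) = (fst G X).left (B s) := h5
          rw [h5', hBs]
          exact htx2
      refine ⟨(fst G X).left (tT s), hfst, ?_⟩
      have horb := HsE.orbit_of_snd k G X a x pt (tT s) (hsnd.trans hx₀.symm)
      exact horb.trans hact
  · intro K _ _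
    exact HsD.geom_irr k G X a hΦ x pt (closure {ξ}) hξc (by rw [hx₀]; exact hx₀Z) K

end

end Groth.Agent.H4.HsH
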