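import Mathlib
import Groth.Agent.H4.HsH

set_option autoImplicit false
universe u
open CategoryTheory CategoryTheory.Limits MonoidalCategory CartesianMonoidalCategory MonObj GrpObj
  AlgebraicGeometry

namespace Groth.Agent.H4.HsI

open Groth.Agent.H4 Groth.Agent.H9.FLH

section
variable (k : Type u) [Field k] (G X : Over (Spec (CommRingCat.of k))) [GrpObj G]
  (a : AlgGrp.Action G X)

/-- in a quasi-separated homogeneous space the connected component of a point is its (unique)
irreducible component. -/
theorem connectedComponent_eq [QuasiSeparatedSpace X.left]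
    (hΦ : Surjective (lift a.act (snd G X)).left) (x₀ ξ : ↥X.left) (hξx : ξ ⤳ x₀)
    (hξc : closure {ξ} ∈ irreducibleComponents ↥X.left) :
    connectedComponent x₀ = closure {ξ} := by
  let pt : ↥(𝟙_ (Over (Spec (CommRingCat.of k)))).left :=
    (IsLocalRing.closedPoint k : PrimeSpectrum k)
  have hUG := HsC.ug_homog k G X a hΦ
  have hx₀Z : x₀ ∈ closure {ξ} := specializes_iff_mem_closure.mp hξx
  apply Set.Subset.antisymm
  · intro y hy
    by_contra hyZ
    obtain ⟨ξy, hξyy, -, hξyc⟩ := HsA.exists_maximal_generization y
    have hyZy : y ∈ closure {ξy} := specializes_iff_mem_closure.mp hξyy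
    have hξnot : ξ ∈ (closure {ξy})ᶜ := by
      intro h
      have hsub : closure {ξ} ⊆ closure {ξy} :=
        closure_minimal (Set.singleton_subset_iff.mpr h) isClosed_closure
      exact hyZ (hξc.2 hξyc.1 hsub hyZy)
    obtain ⟨_, ⟨W, hW, rfl⟩, hξW, hWsub⟩ :=
      X.left.isBasis_affineOpens.exists_subset_of_mem_open hξnot isClosed_closure.isOpen_compl
    have hWa : IsAffineOpen W := hW
    have hretro : IsRetrocompact (W : Set X.left) := fun K hK hKo =>
      QuasiSeparatedSpace.inter_isCompact (W : Set X.left) K W.isOpen hWa.isCompact hKo hK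
    obtain ⟨hopen, hVS, hcl⟩ := HsG.s5350 k G X a hΦ pt (irreducibleComponent (η[G].left pt))
      (irreducibleComponent_mem_irreducibleComponents (η[G].left pt)) mem_irreducibleComponent W
    have hVcl := hcl hretro
    have hclopen : IsClopen (closure (W : Set X.left)) :=
      ⟨isClosed_closure, by rw [← hVcl]; exact hopen⟩
    have hx₀cl : x₀ ∈ closure (W : Set X.left) :=
      closure_mono (Set.singleton_subset_iff.mpr hξW) hx₀Z
    have hycl : y ∈ closure (W : Set X.left) := hclopen.connectedComponent_subset hx₀cl hy
    rw [← hVcl, hVS] at hycl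
    obtain ⟨Z', ⟨hZ', ξ', hξ'W, rfl⟩, hyZ'⟩ := hycl
    have heq : closure {ξ'} = closure {ξy} := (hUG y).eq_of_mem hZ' hξyc hyZ' hyZy
    have h1 : ξ' ∈ closure {ξ'} := subset_closure rfl
    rw [heq] at h1
    exact hWsub hξ'W h1
  · exact (isIrreducible_singleton.closure).isConnected.isPreconnected.subset_connectedComponent
      hx₀Z

/-- SGA3 VI_A 2.6.6 (topological part): connected components are irreducible. -/
theorem s3039 [QuasiSeparatedSpace X.left]
    (hΦ : Surjective (lift a.act (snd G X)).left) (x : ↥X.left) :
    IsPreirreducible (connectedComponent x) := by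
  obtain ⟨ξ, hξx, -, hξc⟩ := HsA.exists_maximal_generization x
  rw [connectedComponent_eq k G X a hΦ x ξ hξx hξc]
  exact isIrreducible_singleton.closure.isPreirreducible

end

end Groth.Agent.H4.HsI
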