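import Mathlib
import Groth.Prelude.Def_SGA3x
import Groth.Agent.H4.HsI

set_option autoImplicit false
universe u
open CategoryTheory CategoryTheory.Limits MonoidalCategory CartesianMonoidalCategory MonObj GrpObj
  AlgebraicGeometry

namespace Groth.Agent.H4.HsJ

open Groth.Agent.H4 Groth.Agent.H9.FLH

/-- fibrewise transitivity: if the fibre `X_s` of a homogeneous space is quasi-separated and
connected then every point of `X_s` is of the form `g · u` with `g` in the neutral component of
`G_s` (and in a given neighbourhood `N` of the unit) and `u` in a given open `U` meeting `X_s`. -/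
theorem fibre_trans {S : Scheme.{u}} (G X : Over S) [GrpObj G] (a : AlgGrp.Action G X)
    (hΦ : Surjective (lift a.act (snd G X)).left) (s : S)
    (hqs : QuasiSeparatedSpace ↥(X.hom.base ⁻¹' {s}))
    (hconn : _root_.IsPreconnected (X.hom.base ⁻¹' {s}))
    (U : X.left.Opens) (hU : ((U : Set X.left) ∩ X.hom.base ⁻¹' {s}).Nonempty)
    (N : Set G.left) (hN : IsOpen N)
    (hNe : ∀ p : ↥(𝟙_ (Over S)).left, (𝟙_ (Over S)).hom.base p = s → η[G].left.base p ∈ N)
    (x : X.left) (hx : X.hom.base x = s) :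
    ∃ t : ↥(G ⊗ X).left, a.act.left.base t = x ∧ (fst G X).left.base t ∈ SGA3x.neutralSet G ∧
      (fst G X).left.base t ∈ N ∧ (snd G X).left.base t ∈ U := by
  let κ := S.residueField s
  let σ : Spec (CommRingCat.of κ) ⟶ S := S.fromSpecResidueField s
  have hσ : ∀ q, σ q = s := fun q => S.fromSpecResidueField_apply s q
  let Gs : Over (Spec (CommRingCat.of κ)) := Red.bc σ G
  let Xs : Over (Spec (CommRingCat.of κ)) := Red.bc σ X
  have hΦs := HsC.surj_bc σ G X a hΦ
  let e : ↥Xs.left ≃ₜ ↥(X.hom.base ⁻¹' {s}) := X.hom.fiberHomeo s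
  haveI : QuasiSeparatedSpace ↥Xs.left := (quasiSeparatedSpace_congr e).mpr hqs
  haveI : PreconnectedSpace ↥Xs.left := by
    haveI : PreconnectedSpace ↥(X.hom.base ⁻¹' {s}) := Subtype.preconnectedSpace hconn
    refine ⟨?_⟩
    have := (e.isPreconnected_preimage (s := Set.univ)).mpr isPreconnected_univ
    simpa using this
  obtain ⟨u, huU, hus⟩ := hU
  have hrange : Set.range (X.hom.fiberι s) = X.hom ⁻¹' {s} := X.hom.range_fiberι s
  let pX : Xs.left ⟶ X.left := pullback.fst X.hom σ
  let pG : Gs.left ⟶ G.left := pullback.fst G.hom σ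
  obtain ⟨xs, hxs⟩ : x ∈ Set.range pX := by
    show x ∈ Set.range (X.hom.fiberι s)
    rw [hrange]
    exact hx
  obtain ⟨us, hus'⟩ : u ∈ Set.range pX := by
    show u ∈ Set.range (X.hom.fiberι s)
    rw [hrange]
    exact hus
  haveI : IrreducibleSpace ↥Xs.left := by
    have h1 := HsI.s3039 κ Gs Xs (a.bc σ) hΦs xs
    rw [PreconnectedSpace.connectedComponent_eq_univ xs] at h1
    exact { isPreirreducible_univ := h1, toNonempty := ⟨xs⟩ }
  let ξ : ↥Xs.left := genericPoint ↥Xs.left
  have hξU : pX ξ ∈ U := by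
    have h1 : ξ ⤳ us := genericPoint_specializes us
    have h2 := h1.map pX.continuous
    rw [hus'] at h2
    exact h2.mem_open U.isOpen huU
  have hmax : ∀ y : ↥Xs.left, y ⤳ ξ → y = ξ := fun y hy =>
    ((genericPoint_specializes y).antisymm hy).eq.symm
  let pts : ↥(𝟙_ (Over (Spec (CommRingCat.of κ)))).left :=
    (IsLocalRing.closedPoint κ : PrimeSpectrum κ)
  let F := Over.pullback σ
  let p' : ↥(𝟙_ (Over S)).left :=
    pullback.fst (𝟙_ (Over S)).hom σ ((Functor.LaxMonoidal.ε F).left pts)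
  have hp' : (𝟙_ (Over S)).hom.base p' = s := by
    have hc : pullback.fst (𝟙_ (Over S)).hom σ ≫ (𝟙_ (Over S)).hom =
        pullback.snd (𝟙_ (Over S)).hom σ ≫ σ := pullback.condition
    have h := congrArg (fun φ : pullback (𝟙_ (Over S)).hom σ ⟶ S =>
      φ.base ((Functor.LaxMonoidal.ε F).left pts)) hc
    exact h.trans (hσ _)
  have hes : pG (η[Gs].left pts) = η[G].left p' := by
    have h1 : η[Gs] = Functor.LaxMonoidal.ε F ≫ F.map η[G] := Functor.obj.η_def G
    have h2 : (F.map η[G]).left ≫ pullback.fst G.hom σ =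
        pullback.fst (𝟙_ (Over S)).hom σ ≫ η[G].left := ActBC.pullback_map_left_fst σ η[G]
    have h3 : η[Gs].left ≫ pG =
        (Functor.LaxMonoidal.ε F).left ≫ pullback.fst (𝟙_ (Over S)).hom σ ≫ η[G].left := by
      rw [h1, Over.comp_left, Category.assoc]
      show _ ≫ (F.map η[G]).left ≫ pullback.fst G.hom σ = _
      rw [h2]
    exact congrArg (fun φ : (𝟙_ (Over (Spec (CommRingCat.of κ)))).left ⟶ G.left => φ.base pts) h3
  let es : ↥Gs.left := η[Gs].left pts
  have hC0s := irreducibleComponent_mem_irreducibleComponents es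
  have hCsub : ∀ g ∈ irreducibleComponent es, pG g ∈ SGA3x.neutralSet G := by
    intro g hg
    refine Set.mem_iUnion.mpr ⟨p', ?_⟩
    have hpre : _root_.IsPreconnected (pG '' irreducibleComponent es) :=
      (hC0s.1.isConnected.isPreconnected).image _ pG.continuous.continuousOn
    have hsub : pG '' irreducibleComponent es ⊆
        G.hom.base ⁻¹' {(𝟙_ (Over S)).hom.base p'} := by
      rintro _ ⟨g', -, rfl⟩
      show G.hom.base (pG g') = _
      rw [hp']
      have hc : pullback.fst G.hom σ ≫ G.hom = pullback.snd G.hom σ ≫ σ := pullback.condition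
      exact (congrArg (fun φ : pullback G.hom σ ⟶ S => φ.base g') hc).trans (hσ _)
    exact hpre.subset_connectedComponentIn ⟨es, mem_irreducibleComponent, hes⟩ hsub ⟨g, hg, rfl⟩
  obtain ⟨ts, hts1, hts2, hts3, hts4⟩ := HsF.mpp κ Gs Xs (a.bc σ) hΦs xs ξ
    (genericPoint_specializes xs) hmax pts (irreducibleComponent es) hC0s mem_irreducibleComponent
    (pG ⁻¹' N) (hN.preimage pG.continuous) (by
      show pG (η[Gs].left pts) ∈ N
      rw [hes]
      exact hNe p' hp')
  have e_act : ((a.bc σ).act).left ≫ pX =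
      (Functor.LaxMonoidal.μ F G X).left ≫ pullback.fst (G ⊗ X).hom σ ≫ a.act.left := by
    show ((Functor.LaxMonoidal.μ F G X) ≫ F.map a.act).left ≫ pullback.fst X.hom σ = _
    rw [Over.comp_left, Category.assoc, ActBC.pullback_map_left_fst σ a.act]
  have e_fst : (Functor.LaxMonoidal.μ F G X).left ≫ pullback.fst (G ⊗ X).hom σ ≫ (fst G X).left =
      (fst Gs Xs).left ≫ pG := ActBC.μ_left_fst_fst σ G X
  have e_snd : (Functor.LaxMonoidal.μ F G X).left ≫ pullback.fst (G ⊗ X).hom σ ≫ (snd G X).left =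
      (snd Gs Xs).left ≫ pX := ActBC.μ_left_fst_snd σ G X
  refine ⟨pullback.fst (G ⊗ X).hom σ ((Functor.LaxMonoidal.μ F G X).left ts), ?_, ?_, ?_, ?_⟩
  · have h := congrArg (fun φ : (Gs ⊗ Xs).left ⟶ X.left => φ.base ts) e_act
    refine h.symm.trans ?_
    show pX ((a.bc σ).act.left ts) = x
    rw [hts1]
    exact hxs
  · have h := congrArg (fun φ : (Gs ⊗ Xs).left ⟶ G.left => φ.base ts) e_fst
    refine (congrArg (· ∈ SGA3x.neutralSet G) h).mpr ?_
    exact hCsub _ hts2
  · have h := congrArg (fun φ : (Gs ⊗ Xs).left ⟶ G.left => φ.base ts) e_fst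
    refine (congrArg (· ∈ N) h).mpr ?_
    exact hts3
  · have h := congrArg (fun φ : (Gs ⊗ Xs).left ⟶ X.left => φ.base ts) e_snd
    refine (congrArg (· ∈ (U : Set X.left)) h).mpr ?_
    show pX ((snd Gs Xs).left ts) ∈ U
    rw [hts4]
    exact hξU

end Groth.Agent.H4.HsJ
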