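import Mathlib
import Groth.Agent.H4.HsJ
import Groth.Agent.Lib.Helper1.GrpSepB

set_option autoImplicit false
universe u
open CategoryTheory CategoryTheory.Limits MonoidalCategory CartesianMonoidalCategory MonObj GrpObj
  AlgebraicGeometry

namespace Groth.Agent.H4.HsK

open Groth.Agent.H4 Groth.Agent.H9.FLH Groth.Agent.H1

/-- SGA3 VI_B 5.x: homogeneous spaces with quasi-separated connected fibres are separated, and
quasi-compact as soon as a quasi-compact open meets every fibre. -/
theorem s5397 (S : Scheme.{u}) (G X : Over S) [GrpObj G]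
    [LocallyOfFinitePresentation G.hom]
    (hGo : ∃ W : G.left.Opens, (∀ p : ↥(𝟙_ (Over S)).left, η[G].left.base p ∈ W) ∧ UniversallyOpen (W.ι ≫ G.hom))
    (a : AlgGrp.Action G X) (hΦ : Surjective (lift a.act (snd G X)).left)
    (hqs : ∀ s : S, QuasiSeparatedSpace ↥(X.hom.base ⁻¹' {s}))
    (hconn : ∀ s : S, _root_.IsPreconnected (X.hom.base ⁻¹' {s})) :
    IsSeparated X.hom ∧
    ((∃ V : X.left.Opens, QuasiCompact (V.ι ≫ X.hom) ∧
        ∀ s : S, (X.hom.base ⁻¹' {s}).Nonempty → ((V : Set X.left) ∩ X.hom.base ⁻¹' {s}).Nonempty) →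
      QuasiCompact X.hom) := by
  refine ⟨?_, ?_⟩
  · have hUO := GrpSepB.isUnivOpenAt_of_open hGo
    refine ⟨IsClosedImmersion.of_isPreimmersion _ ?_⟩
    show IsClosed (Set.range (pullback.diagonal X.hom).base)
    rw [← isOpen_compl_iff, isOpen_iff_forall_mem_open]
    intro z hz
    have hexU : ∃ U : X.left.Opens, IsAffineOpen U ∧
        (snd X X).left.base z ∈ (U : Set X.left) := by
      obtain ⟨_, ⟨U, hU, rfl⟩, hzU, -⟩ :=
        X.left.isBasis_affineOpens.exists_subset_of_mem_open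
          (Set.mem_univ ((snd X X).left.base z)) isOpen_univ
      exact ⟨U, hU, hzU⟩
    obtain ⟨U, hUa, hzU⟩ := hexU
    haveI : IsAffine U.toScheme := hUa
    have hUsep : IsSeparated (U.ι ≫ X.hom) := inferInstance
    have hfib : X.hom.base ⁻¹' {X.hom.base ((snd X X).left.base z)} ⊆ GrpSep.orbitSet a U := by
      intro x hx
      obtain ⟨t, ht1, ht2, -, ht4⟩ := HsJ.fibre_trans G X a hΦ _ (hqs _) (hconn _) U
        ⟨(snd X X).left.base z, hzU, rfl⟩ Set.univ isOpen_univ (fun _ _ => Set.mem_univ _) x hx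
      exact ⟨t, ⟨ht2, ht4⟩, ht1⟩
    have h2 : (snd X X).left.base z ∈ GrpSep.orbitSet a U := hfib rfl
    have h1 : (fst X X).left.base z ∈ GrpSep.orbitSet a U := by
      apply hfib
      have e1 : (fst X X).left ≫ X.hom = (snd X X).left ≫ X.hom := by rw [Over.w, Over.w]
      exact congrArg (fun φ : (X ⊗ X).left ⟶ S => φ.base z) e1
    obtain ⟨C, hC, hCU, hCU'⟩ := GrpSep.exists_closed_of_isSeparated X.hom U hUsep
    rw [← GrpSep.diag_left_eq] at hz hCU hCU' ⊢
    obtain ⟨O, hO, hzO, hdisj⟩ :=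
      GrpSep.exists_open_nhd_disjoint_diag a hUO U C hC hCU hCU' z h1 h2 hz
    exact ⟨O, fun w hw hwΔ => Set.disjoint_left.mp hdisj hw hwΔ, hO, hzO⟩
  · rintro ⟨V, hVqc, hVmeet⟩
    rw [quasiCompact_iff_forall_isAffineOpen]
    intro S' hS'
    haveI : QuasiCompact (𝟙_ (Over S)).hom := by
      show QuasiCompact (𝟙 S)
      infer_instance
    have hE : IsCompact ((𝟙_ (Over S)).hom.base ⁻¹' (S' : Set S)) :=
      QuasiCompact.isCompact_preimage (S' : Set S) S'.isOpen hS'.isCompact
    have hK : IsCompact (η[G].left.base '' ((𝟙_ (Over S)).hom.base ⁻¹' (S' : Set S))) :=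
      hE.image η[G].left.continuous
    have hnb : ∀ g ∈ η[G].left.base '' ((𝟙_ (Over S)).hom.base ⁻¹' (S' : Set S)),
        ∃ Ng : G.left.Opens, IsAffineOpen Ng ∧ g ∈ (Ng : Set G.left) ∧
          (Ng : Set G.left) ⊆ G.hom.base ⁻¹' (S' : Set S) := by
      rintro _ ⟨p, hp, rfl⟩
      have hmem : η[G].left.base p ∈ G.hom.base ⁻¹' (S' : Set S) := by
        have e1 : η[G].left ≫ G.hom = (𝟙_ (Over S)).hom := Over.w η[G]
        have h3 : G.hom.base (η[G].left.base p) = (𝟙_ (Over S)).hom.base p :=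
          congrArg (fun φ : (𝟙_ (Over S)).left ⟶ S => φ.base p) e1
        show G.hom.base (η[G].left.base p) ∈ (S' : Set S)
        rw [h3]
        exact hp
      obtain ⟨_, ⟨Ng, hNg, rfl⟩, hgN, hsub⟩ :=
        G.left.isBasis_affineOpens.exists_subset_of_mem_open hmem
          (S'.isOpen.preimage G.hom.continuous)
      exact ⟨Ng, hNg, hgN, hsub⟩
    choose! Nf hNfa hNfm hNfs using hnb
    obtain ⟨T, hTK, hTcov⟩ := hK.elim_nhds_subcover (fun g => (Nf g : Set G.left))
      (fun g hg => (Nf g).isOpen.mem_nhds (hNfm g hg))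
    obtain ⟨N, hNdef⟩ : ∃ N : G.left.Opens, (N : Set G.left) = ⋃ g ∈ T, (Nf g : Set G.left) :=
      ⟨⟨⋃ g ∈ T, (Nf g : Set G.left), isOpen_biUnion (fun g _ => (Nf g).isOpen)⟩, rfl⟩
    have hNc : IsCompact (N : Set G.left) := by
      rw [hNdef]
      exact T.isCompact_biUnion (fun g hg => (hNfa g (hTK g hg)).isCompact)
    have hNsub : (N : Set G.left) ⊆ G.hom.base ⁻¹' (S' : Set S) := by
      rw [hNdef]
      exact Set.iUnion₂_subset (fun g hg => hNfs g (hTK g hg))
    have hKN : η[G].left.base '' ((𝟙_ (Over S)).hom.base ⁻¹' (S' : Set S)) ⊆ (N : Set G.left) := by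
      rw [hNdef]
      exact hTcov
    haveI : CompactSpace ↥N.toScheme := isCompact_iff_compactSpace.mp hNc
    haveI := hVqc
    haveI : QuasiCompact (pullback.fst (N.ι ≫ G.hom) (V.ι ≫ X.hom)) := inferInstance
    haveI : CompactSpace ↥(pullback (N.ι ≫ G.hom) (V.ι ≫ X.hom)) :=
      QuasiCompact.compactSpace_of_compactSpace (pullback.fst (N.ι ≫ G.hom) (V.ι ≫ X.hom))
    obtain ⟨m, hm⟩ : ∃ m : pullback (N.ι ≫ G.hom) (V.ι ≫ X.hom) ⟶ (G ⊗ X).left,
        m = pullback.map (N.ι ≫ G.hom) (V.ι ≫ X.hom) G.hom X.hom N.ι V.ι (𝟙 _)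
          (by simp) (by simp) := ⟨_, rfl⟩
    have hrm : Set.range m =
        (fst G X).left ⁻¹' Set.range N.ι ∩ (snd G X).left ⁻¹' Set.range V.ι := by
      rw [hm]
      exact Scheme.Pullback.range_map (N.ι ≫ G.hom) (V.ι ≫ X.hom) G.hom X.hom N.ι V.ι (𝟙 _)
        (by simp) (by simp)
    have hcov : ((X.hom ⁻¹ᵁ S' : X.left.Opens) : Set X.left) = Set.range (m ≫ a.act.left) := by
      apply Set.Subset.antisymm
      · intro x hx
        have hx' : X.hom.base x ∈ (S' : Set S) := hx
        have hne : (X.hom.base ⁻¹' {X.hom.base x}).Nonempty := ⟨x, rfl⟩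
        obtain ⟨t, ht1, -, ht3, ht4⟩ := HsJ.fibre_trans G X a hΦ (X.hom.base x) (hqs _) (hconn _) V
          (hVmeet _ hne) (N : Set G.left) N.isOpen (fun p hp => hKN ⟨p, by
            show (𝟙_ (Over S)).hom.base p ∈ (S' : Set S)
            rw [hp]
            exact hx', rfl⟩) x rfl
        have htm : t ∈ Set.range m := by
          rw [hrm]
          refine ⟨?_, ?_⟩
          · show (fst G X).left t ∈ Set.range N.ι
            rw [Scheme.Opens.range_ι]
            exact ht3
          · show (snd G X).left t ∈ Set.range V.ι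
            rw [Scheme.Opens.range_ι]
            exact ht4
        obtain ⟨w, rfl⟩ := htm
        exact ⟨w, ht1⟩
      · rintro _ ⟨w, rfl⟩
        show X.hom.base ((m ≫ a.act.left).base w) ∈ (S' : Set S)
        have e1 : a.act.left ≫ X.hom = (fst G X).left ≫ G.hom :=
          (Over.w a.act).trans (Over.w (fst G X)).symm
        have h1 : X.hom.base ((m ≫ a.act.left).base w) =
            G.hom.base ((fst G X).left.base (m.base w)) :=
          congrArg (fun φ : (G ⊗ X).left ⟶ S => φ.base (m.base w)) e1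
        rw [h1]
        apply hNsub
        have h2 : m.base w ∈ Set.range m := ⟨w, rfl⟩
        rw [hrm] at h2
        have h3 := h2.1
        rw [Set.mem_preimage, Scheme.Opens.range_ι] at h3
        exact h3
    rw [hcov]
    exact isCompact_range (m ≫ a.act.left).continuous

end Groth.Agent.H4.HsK
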