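import Mathlib
import Groth.Prelude.Def_CohB1
import Groth.Agent.Lib.Helper1.ProjIdeal
import Groth.Agent.Lib.Lead.PN.Main

/-! # A hyperplane in projective space: the graded surjection `k[x₀..x_{n+1}] → k[y₀..y_n]` with kernel `(ℓ)`,
and the kernel of the induced maps of homogeneous localizations. -/

set_option autoImplicit false
universe u
open CategoryTheory AlgebraicGeometry HomogeneousLocalization
open scoped HomogeneousIdeal

namespace Groth.Agent.H4.HypPlaneAlg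

section general
variable {R A B : Type u} [CommRing R] [CommRing A] [Algebra R A] [CommRing B] [Algebra R B]
  (𝒜 : ℕ → Submodule R A) [GradedAlgebra 𝒜] (ℬ : ℕ → Submodule R B) [GradedAlgebra ℬ]
  (ψ : 𝒜 →+*ᵍ ℬ)

open Groth.Agent.H1.ProjIdeal in
/-- if `ker ψ = (ℓ)` with `ℓ` of degree one, the kernel of `A_(f) → B_(ψ f)` is generated by `ℓ / f`. -/
theorem ker_awayMap_eq_span {ℓ : A} (hℓ : ℓ ∈ 𝒜 1)
    (hker : ∀ a : A, ψ a = 0 ↔ a ∈ Ideal.span ({ℓ} : Set A))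
    {f : A} (hf : f ∈ 𝒜 1) (hℓ' : ℓ ∈ 𝒜 (1 • 1)) :
    RingHom.ker (Away.map ψ f) = Ideal.span {Away.mk 𝒜 hf 1 ℓ hℓ'} := by
  apply le_antisymm
  · intro x hx
    rw [RingHom.mem_ker] at hx
    obtain ⟨n, a, ha, rfl⟩ := Away.mk_surjective 𝒜 hf x
    rw [Away.map_mk] at hx
    have hv := congrArg HomogeneousLocalization.val hx
    rw [Away.val_mk, HomogeneousLocalization.val_zero, Localization.mk_eq_mk',
      IsLocalization.mk'_eq_zero_iff] at hv
    obtain ⟨⟨_, N, rfl⟩, hN⟩ := hv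
    have hN' : (ψ f) ^ N * ψ a = 0 := hN
    have h1 : ψ (f ^ (N + 1) * a) = 0 := by
      rw [map_mul, map_pow, pow_succ', mul_assoc, hN', mul_zero]
    rw [hker] at h1
    obtain ⟨b, hb⟩ := Ideal.mem_span_singleton'.mp h1
    have hx' : f ^ (N + 1) * a ∈ 𝒜 ((N + 1 + n) • 1) := by
      rw [add_smul]
      exact SetLike.mul_mem_graded (SetLike.pow_mem_graded (N + 1) hf) ha
    have e0 : (N + 1 + n) • 1 = 1 + (N + n) := by
      rw [smul_eq_mul, mul_one]; omega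
    have hmem : f ^ (N + 1) * a ∈ 𝒜 (1 + (N + n)) := by rw [← e0]; exact hx'
    have h2 := DirectSum.coe_decompose_mul_add_of_left_mem 𝒜 (i := 1) (j := N + n) (b := b) hℓ
    rw [mul_comm ℓ b, hb, DirectSum.decompose_of_mem_same 𝒜 hmem] at h2
    have hb'mem : ((DirectSum.decompose 𝒜 b (N + n) : 𝒜 (N + n)) : A) ∈ 𝒜 ((N + n) • 1) := by
      rw [smul_eq_mul, mul_one]; exact SetLike.coe_mem _
    have hy' : ℓ * ((DirectSum.decompose 𝒜 b (N + n) : 𝒜 (N + n)) : A) ∈ 𝒜 ((1 + (N + n)) • 1) := by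
      rw [add_smul]; exact SetLike.mul_mem_graded hℓ' hb'mem
    have e1 : Away.mk 𝒜 hf n a ha = Away.mk 𝒜 hf (N + 1 + n) (f ^ (N + 1) * a) hx' :=
      (mk_pow_mul hf (N + 1) n ha hx').symm
    have e2 : Away.mk 𝒜 hf (N + 1 + n) (f ^ (N + 1) * a) hx' =
        Away.mk 𝒜 hf (1 + (N + n)) (ℓ * ((DirectSum.decompose 𝒜 b (N + n) : 𝒜 (N + n)) : A)) hy' :=
      mk_congr hf (by omega) h2 hx' hy'
    have e3 := mk_mul hf 1 (N + n) hℓ' hb'mem
    rw [e1, e2, ← e3]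
    exact Ideal.mul_mem_right _ _ (Ideal.subset_span rfl)
  · rw [Ideal.span_le, Set.singleton_subset_iff, SetLike.mem_coe, RingHom.mem_ker, Away.map_mk]
    exact (mk_congr _ rfl ((hker ℓ).mpr (Ideal.subset_span rfl)) _ (zero_mem _)).trans
      (mk_zero _ 1)

end general

section poly
open MvPolynomial
variable (k : Type u) [Field k] (n : ℕ) (i₀ : Fin (n + 1 + 1))

/-- the assignment of variables: `x_{i₀} ↦ v`, `x_{i₀.succAbove j} ↦ y_j`. -/
noncomputable def ins (v : MvPolynomial (Fin (n + 1)) k) :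
    Fin (n + 1 + 1) → MvPolynomial (Fin (n + 1)) k :=
  Fin.insertNth (α := fun _ => MvPolynomial (Fin (n + 1)) k) i₀ v (fun j => X j)

lemma ins_same (v : MvPolynomial (Fin (n + 1)) k) : ins k n i₀ v i₀ = v :=
  Fin.insertNth_apply_same _ _ _

lemma ins_succAbove (v : MvPolynomial (Fin (n + 1)) k) (j : Fin (n + 1)) :
    ins k n i₀ v (i₀.succAbove j) = X j :=
  Fin.insertNth_apply_succAbove _ _ _ _

lemma ins_homog (v : MvPolynomial (Fin (n + 1)) k) (hv : v.IsHomogeneous 1) (i : Fin (n + 1 + 1)) :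
    (ins k n i₀ v i).IsHomogeneous 1 := by
  rcases Fin.eq_self_or_eq_succAbove i₀ i with rfl | ⟨j, rfl⟩
  · rw [ins_same]; exact hv
  · rw [ins_succAbove]; exact isHomogeneous_X _ _

/-- kill `x_{i₀}` and rename the other variables. -/
noncomputable def κ : MvPolynomial (Fin (n + 1 + 1)) k →ₐ[k] MvPolynomial (Fin (n + 1)) k :=
  aeval (ins k n i₀ 0)

lemma κ_C (r : k) : κ k n i₀ (C r) = C r := (κ k n i₀).commutes r

lemma κ_X_self : κ k n i₀ (X i₀) = 0 := by rw [κ, aeval_X, ins_same]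

lemma κ_X_succAbove (j : Fin (n + 1)) : κ k n i₀ (X (i₀.succAbove j)) = X j := by
  rw [κ, aeval_X, ins_succAbove]

lemma κ_homog {p : MvPolynomial (Fin (n + 1 + 1)) k} {m : ℕ} (hp : p.IsHomogeneous m) :
    (κ k n i₀ p).IsHomogeneous m := by
  have := hp.aeval (ins k n i₀ 0) (ins_homog k n i₀ 0 (isHomogeneous_zero _ _ _))
  rwa [one_mul] at this

lemma linear_form_induction (P : MvPolynomial (Fin (n + 1 + 1)) k → Prop) (h0 : P 0)
    (hadd : ∀ x y, P x → P y → P (x + y)) (hsmul : ∀ (r : k) x, P x → P (C r * x))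
    (hi₀ : P (X i₀)) (hj : ∀ j, P (X (i₀.succAbove j))) :
    ∀ p ∈ homogeneousSubmodule (Fin (n + 1 + 1)) k 1, P p := by
  intro p hp
  rw [homogeneousSubmodule_one_eq_span_X] at hp
  induction hp using Submodule.span_induction with
  | mem x hx =>
    obtain ⟨i, rfl⟩ := hx
    rcases Fin.eq_self_or_eq_succAbove i₀ i with rfl | ⟨j, rfl⟩
    · exact hi₀
    · exact hj j
  | zero => exact h0
  | add x y _ _ hx hy => exact hadd x y hx hy
  | smul r x _ hx => rw [smul_eq_C_mul]; exact hsmul r x hx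

lemma coeff_X_succAbove (j : Fin (n + 1)) :
    coeff (Finsupp.single i₀ 1) (X (i₀.succAbove j) : MvPolynomial (Fin (n + 1 + 1)) k) = 0 := by
  rw [coeff_X', if_neg]
  rw [Finsupp.single_left_inj one_ne_zero]
  exact Fin.succAbove_ne i₀ j

/-- a linear form is its `x_{i₀}`-free part plus its `x_{i₀}`-term. -/
lemma theta_kappa (p : MvPolynomial (Fin (n + 1 + 1)) k)
    (hp : p ∈ homogeneousSubmodule (Fin (n + 1 + 1)) k 1) :
    rename i₀.succAbove (κ k n i₀ p) + C (coeff (Finsupp.single i₀ 1) p) * X i₀ = p := by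
  refine linear_form_induction k n i₀
    (fun p => rename i₀.succAbove (κ k n i₀ p) + C (coeff (Finsupp.single i₀ 1) p) * X i₀ = p)
    ?_ ?_ ?_ ?_ ?_ p hp
  · simp
  · intro x y hx hy
    simp only [map_add, coeff_add, C_add, add_mul]
    linear_combination hx + hy
  · intro r x hx
    simp only [map_mul, κ_C, rename_C, coeff_C_mul, C_mul]
    linear_combination (C r) * hx
  · simp [κ_X_self]
  · intro j
    rw [κ_X_succAbove, rename_X, coeff_X_succAbove, C_0, zero_mul, add_zero]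

variable (ℓ : MvPolynomial (Fin (n + 1 + 1)) k)

/-- the surjection: `x_{i₀} ↦ -c⁻¹ · (ℓ with x_{i₀} killed)`, other variables renamed. -/
noncomputable def ψ₀ : MvPolynomial (Fin (n + 1 + 1)) k →ₐ[k] MvPolynomial (Fin (n + 1)) k :=
  aeval (ins k n i₀ (C (-(coeff (Finsupp.single i₀ 1) ℓ)⁻¹) * κ k n i₀ ℓ))

lemma ψ₀_C (r : k) : ψ₀ k n i₀ ℓ (C r) = C r := (ψ₀ k n i₀ ℓ).commutes r

lemma ψ₀_X_self :
    ψ₀ k n i₀ ℓ (X i₀) = C (-(coeff (Finsupp.single i₀ 1) ℓ)⁻¹) * κ k n i₀ ℓ := by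
  rw [ψ₀, aeval_X, ins_same]

lemma ψ₀_X_succAbove (j : Fin (n + 1)) : ψ₀ k n i₀ ℓ (X (i₀.succAbove j)) = X j := by
  rw [ψ₀, aeval_X, ins_succAbove]

lemma ψ₀_homog (hℓ : ℓ.IsHomogeneous 1) {p : MvPolynomial (Fin (n + 1 + 1)) k} {m : ℕ}
    (hp : p.IsHomogeneous m) : (ψ₀ k n i₀ ℓ p).IsHomogeneous m := by
  have := hp.aeval (ins k n i₀ (C (-(coeff (Finsupp.single i₀ 1) ℓ)⁻¹) * κ k n i₀ ℓ))
    (ins_homog k n i₀ _ ((κ_homog k n i₀ hℓ).C_mul _))
  rwa [one_mul] at this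

lemma psi_linear (p : MvPolynomial (Fin (n + 1 + 1)) k)
    (hp : p ∈ homogeneousSubmodule (Fin (n + 1 + 1)) k 1) :
    ψ₀ k n i₀ ℓ p = κ k n i₀ p + C (coeff (Finsupp.single i₀ 1) p) * ψ₀ k n i₀ ℓ (X i₀) := by
  refine linear_form_induction k n i₀
    (fun p => ψ₀ k n i₀ ℓ p = κ k n i₀ p + C (coeff (Finsupp.single i₀ 1) p) * ψ₀ k n i₀ ℓ (X i₀))
    ?_ ?_ ?_ ?_ ?_ p hp
  · simp
  · intro x y hx hy
    simp only [map_add, coeff_add, C_add, add_mul]
    linear_combination hx + hy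
  · intro r x hx
    simp only [map_mul, ψ₀_C, κ_C, coeff_C_mul, C_mul]
    linear_combination (C r) * hx
  · simp [κ_X_self]
  · intro j
    rw [ψ₀_X_succAbove, κ_X_succAbove, coeff_X_succAbove, C_0, zero_mul, add_zero]

variable (hℓ : ℓ ∈ homogeneousSubmodule (Fin (n + 1 + 1)) k 1)
  (hc : coeff (Finsupp.single i₀ 1) ℓ ≠ 0)

include hc in
lemma C_mul_C_inv : (C (coeff (Finsupp.single i₀ 1) ℓ) : MvPolynomial (Fin (n + 1)) k) *
    C (-(coeff (Finsupp.single i₀ 1) ℓ)⁻¹) = -1 := by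
  rw [← C_mul, mul_neg, mul_inv_cancel₀ hc, C_neg, C_1]

include hc in
lemma C_mul_C_inv' : (C (coeff (Finsupp.single i₀ 1) ℓ) : MvPolynomial (Fin (n + 1 + 1)) k) *
    C (-(coeff (Finsupp.single i₀ 1) ℓ)⁻¹) = -1 := by
  rw [← C_mul, mul_neg, mul_inv_cancel₀ hc, C_neg, C_1]

include hℓ hc in
lemma psi_ell : ψ₀ k n i₀ ℓ ℓ = 0 := by
  rw [psi_linear k n i₀ ℓ ℓ hℓ, ψ₀_X_self]
  linear_combination (κ k n i₀ ℓ) * C_mul_C_inv k n i₀ ℓ hc

lemma psi_theta (q : MvPolynomial (Fin (n + 1)) k) :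
    ψ₀ k n i₀ ℓ (rename i₀.succAbove q) = q := by
  have h : (ψ₀ k n i₀ ℓ).comp (rename i₀.succAbove) = AlgHom.id k _ := by
    apply MvPolynomial.algHom_ext
    intro j
    rw [AlgHom.comp_apply, rename_X, ψ₀_X_succAbove, AlgHom.id_apply]
  exact AlgHom.congr_fun h q

include hℓ hc in
lemma sub_theta_psi_mem (f : MvPolynomial (Fin (n + 1 + 1)) k) :
    rename i₀.succAbove (ψ₀ k n i₀ ℓ f) - f ∈ Ideal.span ({ℓ} : Set (MvPolynomial (Fin (n + 1 + 1)) k)) := by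
  have h : (Ideal.Quotient.mkₐ k (Ideal.span ({ℓ} : Set (MvPolynomial (Fin (n + 1 + 1)) k)))).comp
      ((rename i₀.succAbove).comp (ψ₀ k n i₀ ℓ)) =
      Ideal.Quotient.mkₐ k (Ideal.span ({ℓ} : Set (MvPolynomial (Fin (n + 1 + 1)) k))) := by
    apply MvPolynomial.algHom_ext
    intro i
    rw [AlgHom.comp_apply, AlgHom.comp_apply, Ideal.Quotient.mkₐ_eq_mk, Ideal.Quotient.eq]
    rcases Fin.eq_self_or_eq_succAbove i₀ i with rfl | ⟨j, rfl⟩
    · rw [ψ₀_X_self, map_mul, rename_C]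
      have h1 := theta_kappa k n i ℓ hℓ
      have hcc := C_mul_C_inv' k n i ℓ hc
      have h3 : C (-(coeff (Finsupp.single i 1) ℓ)⁻¹) * rename i.succAbove (κ k n i ℓ) - X i =
          C (-(coeff (Finsupp.single i 1) ℓ)⁻¹) * ℓ := by
        linear_combination (C (-(coeff (Finsupp.single i 1) ℓ)⁻¹)) * h1 - (X i) * hcc
      rw [h3]
      exact Ideal.mul_mem_left _ _ (Ideal.subset_span rfl)
    · rw [ψ₀_X_succAbove, rename_X, sub_self]
      exact zero_mem _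
  have h2 := AlgHom.congr_fun h f
  rw [AlgHom.comp_apply, AlgHom.comp_apply, Ideal.Quotient.mkₐ_eq_mk, Ideal.Quotient.eq] at h2
  exact h2

include hℓ hc in
theorem psi_eq_zero_iff (a : MvPolynomial (Fin (n + 1 + 1)) k) :
    ψ₀ k n i₀ ℓ a = 0 ↔ a ∈ Ideal.span ({ℓ} : Set (MvPolynomial (Fin (n + 1 + 1)) k)) := by
  constructor
  · intro h
    have h1 := sub_theta_psi_mem k n i₀ ℓ hℓ hc a
    rw [h, map_zero, zero_sub] at h1
    exact (neg_mem_iff).mp h1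
  · intro h
    obtain ⟨b, rfl⟩ := Ideal.mem_span_singleton'.mp h
    rw [map_mul, psi_ell k n i₀ ℓ hℓ hc, mul_zero]

/-- the graded ring homomorphism. -/
noncomputable def ψg (hℓ : ℓ ∈ homogeneousSubmodule (Fin (n + 1 + 1)) k 1) :
    CohB1.polyGrading (n + 1) k →+*ᵍ CohB1.polyGrading n k where
  toRingHom := (ψ₀ k n i₀ ℓ).toRingHom
  map_mem {i x} hx := by
    change ψ₀ k n i₀ ℓ x ∈ homogeneousSubmodule (Fin (n + 1)) k i
    exact (mem_homogeneousSubmodule i _).mpr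
      (ψ₀_homog k n i₀ ℓ ((mem_homogeneousSubmodule 1 ℓ).mp hℓ) ((mem_homogeneousSubmodule i x).mp hx))

lemma ψg_apply (a : MvPolynomial (Fin (n + 1 + 1)) k) : ψg k n i₀ ℓ hℓ a = ψ₀ k n i₀ ℓ a := rfl

lemma ψg_surjective : Function.Surjective (ψg k n i₀ ℓ hℓ) := fun q =>
  ⟨rename i₀.succAbove q, psi_theta k n i₀ ℓ q⟩

lemma irrelevant_le_map :
    HomogeneousIdeal.irrelevant (CohB1.polyGrading n k) ≤
      (HomogeneousIdeal.irrelevant (CohB1.polyGrading (n + 1) k)).map (ψg k n i₀ ℓ hℓ) := by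
  rw [← _root_.toIdeal_le_toIdeal_iff, HomogeneousIdeal.toIdeal_map,
    Groth.Agent.LD.PN.irrelevant_eq_span, Ideal.span_le]
  rintro _ ⟨j, rfl⟩
  have h1 : (X (i₀.succAbove j) : MvPolynomial (Fin (n + 1 + 1)) k) ∈
      (HomogeneousIdeal.irrelevant (CohB1.polyGrading (n + 1) k)).toIdeal := by
    rw [Groth.Agent.LD.PN.irrelevant_eq_span]
    exact Ideal.subset_span ⟨_, rfl⟩
  have h2 : (X j : MvPolynomial (Fin (n + 1)) k) = ψg k n i₀ ℓ hℓ (X (i₀.succAbove j)) :=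
    (ψ₀_X_succAbove k n i₀ ℓ j).symm
  rw [h2]
  exact Ideal.mem_map_of_mem _ h1

omit i₀ hc in
include hℓ in
lemma exists_coeff_ne_zero (hne : ℓ ≠ 0) : ∃ i, coeff (Finsupp.single i 1) ℓ ≠ 0 := by
  by_contra h
  push_neg at h
  apply hne
  rw [homogeneousSubmodule_one_eq_span_X] at hℓ
  obtain ⟨a, rfl⟩ := (Submodule.mem_span_range_iff_exists_fun k).mp hℓ
  have ha : ∀ j, a j = 0 := by
    intro j
    have := h j
    simpa only [coeff_sum, coeff_smul, coeff_X', smul_eq_mul, mul_ite, mul_one, mul_zero,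
      Finsupp.single_left_inj (one_ne_zero : (1 : ℕ) ≠ 0), Finset.sum_ite_eq', Finset.sum_ite_eq,
      Finset.mem_univ, if_true] using this
  exact Finset.sum_eq_zero (fun i _ => by rw [ha i, zero_smul])

omit i₀ hc in
include hℓ in
/-- **a nonzero linear form `ℓ` is the kernel of a graded surjection onto the polynomial ring in one variable
less.** -/
theorem exists_psi (hne : ℓ ≠ 0) :
    ∃ (ψ : CohB1.polyGrading (n + 1) k →+*ᵍ CohB1.polyGrading n k)
      (_ : HomogeneousIdeal.irrelevant (CohB1.polyGrading n k) ≤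
        (HomogeneousIdeal.irrelevant (CohB1.polyGrading (n + 1) k)).map ψ),
      Function.Surjective ψ ∧
        ∀ a, ψ a = 0 ↔ a ∈ Ideal.span ({ℓ} : Set (MvPolynomial (Fin (n + 1 + 1)) k)) := by
  obtain ⟨i₀, hc⟩ := exists_coeff_ne_zero k n ℓ hℓ hne
  exact ⟨ψg k n i₀ ℓ hℓ, irrelevant_le_map k n i₀ ℓ hℓ, ψg_surjective k n i₀ ℓ hℓ,
    fun a => psi_eq_zero_iff k n i₀ ℓ hℓ hc a⟩

end poly

end Groth.Agent.H4.HypPlaneAlg
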