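import Mathlib
import Groth.Agent.Lib.Helper2.HypIdC
import Groth.Agent.Lib.Helper1.ProjIdeal
import Groth.Agent.Lib.Lead.PN.H0Lin
import Groth.Agent.H4.HypPlaneAlg
import Groth.Agent.H4.HypPlaneTw
import Groth.Statements.S7676

/-! # A hyperplane in `P^{n+1}_k` is `P^n_k`, compatibly with `O(1)`. -/

set_option autoImplicit false
universe u
open CategoryTheory CategoryTheory.Limits AlgebraicGeometry TopologicalSpace Opposite

namespace Groth.Agent.H4.HypPlane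
open Groth.Agent.LD Twist TW Groth.Agent.H2.HypId

lemma aux_ring {R : Type*} [CommRing R] (g t m : R) : g * t * m = m * t * g := by ring

lemma aux2 {R : Type*} [CommRing R] {a b e i g : R} (h1 : a * e = b * g) (h2 : e * i = 1) :
    g * (b * i) = a := by
  calc g * (b * i) = (b * g) * i := by ring
    _ = (a * e) * i := by rw [h1]
    _ = a * (e * i) := by ring
    _ = a := by rw [h2, mul_one]

section gen
variable {R A : Type u} [CommRing R] [CommRing A] [Algebra R A] {𝒜 : ℕ → Submodule R A}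
  [GradedAlgebra 𝒜]

lemma sec_eq_zero_of_val (m : ℤ) (U : (Proj 𝒜).Opens) (t : Γ(twist 𝒜 m, U))
    (h : ∀ y : U, secVal t y = 0) : t = 0 := by
  show (show sectN (𝒜 := 𝒜) m (op U) from t) = (show sectN (𝒜 := 𝒜) m (op U) from 0)
  apply sectN_ext
  intro y
  exact (h y).trans rfl

lemma hom_eq_zero_of_secVal (m : ℤ) (s : QC.unitMod (Proj 𝒜) ⟶ twist 𝒜 m)
    (h : ∀ (U : (Proj 𝒜).Opens) (y : U), secVal (s.app U (1 : Γ(Proj 𝒜, U))) y = 0) : s = 0 := by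
  apply Scheme.Modules.hom_ext
  intro U
  apply ConcreteCategory.hom_ext
  intro c
  have h1 := QC.unitHom_app (twist 𝒜 m) s U c
  have h2 : s.app U (1 : Γ(Proj 𝒜, U)) = 0 := sec_eq_zero_of_val m U _ (h U)
  rw [h1, h2, smul_zero]
  rfl

lemma globalOf_val_of_eq_zero {i : ℕ} (a : 𝒜 i) (ha : a.1 = 0)
    (x : (⊤ : Opens (ProjectiveSpectrum.top 𝒜))) :
    (((globalOf 𝒜 a).1 x : twistAt 𝒜 i x.1) : Loc 𝒜 x.1) = 0 :=
  (globalOf_val a x).trans ((congrArg (fun t => (Localization.mk t _ : Loc 𝒜 x.1)) ha).trans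
    (Localization.mk_zero _))

end gen

variable (k : Type u) [Field k] (n : ℕ)

/-- a section of `O(1)` on `P^{n+1}` is a linear form. -/
theorem exists_form
    (s : QC.unitMod (Proj (CohB1.polyGrading (n + 1) k)) ⟶ twist (CohB1.polyGrading (n + 1) k) ((1 : ℕ) : ℤ)) :
    ∃ ℓ : LefPen.Form (n + 1) k 1, ∀ (U : (Proj (CohB1.polyGrading (n + 1) k)).Opens) (y : U),
      secVal (s.app U (1 : Γ(Proj (CohB1.polyGrading (n + 1) k), U))) y =
        ((globalOf (CohB1.polyGrading (n + 1) k) ℓ).1 ⟨y.1, trivial⟩).1 := by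
  obtain ⟨ℓ, hℓ⟩ := PN.globalOf_surjective (n := n + 1) (R := k) 1
    (show sectN (𝒜 := CohB1.polyGrading (n + 1) k) ((1 : ℕ) : ℤ) (op ⊤) from
      s.app ⊤ (1 : Γ(Proj (CohB1.polyGrading (n + 1) k), ⊤)))
  refine ⟨ℓ, fun U y => ?_⟩
  have h1 := QC.unitHom_app_one_res (twist (CohB1.polyGrading (n + 1) k) ((1 : ℕ) : ℤ)) s
    (le_top : U ≤ ⊤)
  rw [← h1]
  refine (res_sec_val (le_top : U ≤ ⊤) _ y).trans ?_
  exact congrArg (fun t : sectN (𝒜 := CohB1.polyGrading (n + 1) k) ((1 : ℕ) : ℤ) (op ⊤) =>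
    (t.1 ⟨y.1, trivial⟩).1) hℓ.symm

/-- the ideal sheaf of the hyperplane `V_+(ℓ)`, as the image of `ℓ : O(-1) ⟶ O`. -/
noncomputable abbrev K2 (ℓ : LefPen.Form (n + 1) k 1) :
    (Proj (CohB1.polyGrading (n + 1) k)).IdealSheafData :=
  QC.idealOfHom (twist (CohB1.polyGrading (n + 1) k) (-((1 : ℕ) : ℤ))) (psi (n + 1) k ℓ)

theorem K2_le_zeroScheme
    (s : QC.unitMod (Proj (CohB1.polyGrading (n + 1) k)) ⟶ twist (CohB1.polyGrading (n + 1) k) ((1 : ℕ) : ℤ))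
    (ℓ : LefPen.Form (n + 1) k 1)
    (hs : ∀ (U : (Proj (CohB1.polyGrading (n + 1) k)).Opens) (y : U),
      secVal (s.app U (1 : Γ(Proj (CohB1.polyGrading (n + 1) k), U))) y =
        ((globalOf (CohB1.polyGrading (n + 1) k) ℓ).1 ⟨y.1, trivial⟩).1) :
    K2 k n ℓ ≤ PicF2.zeroScheme (twist (CohB1.polyGrading (n + 1) k) ((1 : ℕ) : ℤ)) s := by
  unfold PicF2.zeroScheme
  rw [Scheme.IdealSheafData.le_ofIdeals_iff]
  intro U a ha
  obtain ⟨t, rfl⟩ := (QC.mem_idealOfHom_iff _ (psi (n + 1) k ℓ) U a).mp ha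
  change ∀ m : (twist (CohB1.polyGrading (n + 1) k) ((1 : ℕ) : ℤ)).val.obj (op U.1),
    ∃ b : (Proj (CohB1.polyGrading (n + 1) k)).ringCatSheaf.obj.obj (op U.1),
      ((psi (n + 1) k ℓ).app U.1 t) • m =
        b • PicF2.secVal (twist (CohB1.polyGrading (n + 1) k) ((1 : ℕ) : ℤ)) s U.1
  intro m
  let m' : sectN (𝒜 := CohB1.polyGrading (n + 1) k) ((1 : ℕ) : ℤ) (op U.1) := m
  let t' : sectN (𝒜 := CohB1.polyGrading (n + 1) k) (-((1 : ℕ) : ℤ)) (op U.1) := t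
  obtain ⟨b, hb⟩ := ofO_surjective (op U.1)
    (castSec (add_neg_cancel ((1 : ℕ) : ℤ)) (mulSec (le_refl U.1) m' t'))
  refine ⟨b, ?_⟩
  show (show sectN (𝒜 := CohB1.polyGrading (n + 1) k) ((1 : ℕ) : ℤ) (op U.1) from _) =
    (show sectN (𝒜 := CohB1.polyGrading (n + 1) k) ((1 : ℕ) : ℤ) (op U.1) from _)
  apply sectN_ext
  intro y
  have hL := smul_sec_val (𝒜 := CohB1.polyGrading (n + 1) k) (k := ((1 : ℕ) : ℤ)) (W := U.1)
    ((psi (n + 1) k ℓ).app U.1 t) m y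
  have hR := smul_sec_val (𝒜 := CohB1.polyGrading (n + 1) k) (k := ((1 : ℕ) : ℤ)) (W := U.1)
    b (PicF2.secVal (twist (CohB1.polyGrading (n + 1) k) ((1 : ℕ) : ℤ)) s U.1) y
  have hA := psi_val (n + 1) k ℓ U.1 t y
  have hB : ((show O (𝒜 := CohB1.polyGrading (n + 1) k) (op U.1) from b).1 y).val =
      (m'.1 y).1 * (t'.1 y).1 := by
    have h3 := congrArg (fun q : sectN (𝒜 := CohB1.polyGrading (n + 1) k) 0 (op U.1) => (q.1 y).1) hb
    exact (ofO_val (op U.1) b y).symm.trans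
      (h3.trans ((castSec_val _ _ y).trans (mulSec_apply _ m' t' y)))
  have hS := hs U.1 y
  exact hL.trans ((congrArg₂ (· * ·) hA rfl).trans ((aux_ring _ _ _).trans
    ((congrArg₂ (· * ·) hB hS).symm.trans hR.symm)))

theorem zeroScheme_le_K2
    (s : QC.unitMod (Proj (CohB1.polyGrading (n + 1) k)) ⟶ twist (CohB1.polyGrading (n + 1) k) ((1 : ℕ) : ℤ))
    (ℓ : LefPen.Form (n + 1) k 1)
    (hs : ∀ (U : (Proj (CohB1.polyGrading (n + 1) k)).Opens) (y : U),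
      secVal (s.app U (1 : Γ(Proj (CohB1.polyGrading (n + 1) k), U))) y =
        ((globalOf (CohB1.polyGrading (n + 1) k) ℓ).1 ⟨y.1, trivial⟩).1) :
    PicF2.zeroScheme (twist (CohB1.polyGrading (n + 1) k) ((1 : ℕ) : ℤ)) s ≤ K2 k n ℓ := by
  refine Scheme.IdealSheafData.le_of_iSup_eq_top
    (fun i : Fin (n + 1 + 1) => (⟨LefPen.chart (n + 1) k i, isAffineOpen_chart (n + 1) k i⟩ :
      (Proj (CohB1.polyGrading (n + 1) k)).affineOpens)) (iSup_chart (n + 1) k) ?_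
  intro i a ha
  have ha' : a ∈ PicF2.zeroIdealOn (twist (CohB1.polyGrading (n + 1) k) ((1 : ℕ) : ℤ)) s
      (LefPen.chart (n + 1) k i) := Scheme.IdealSheafData.ideal_ofIdeals_le _ _ ha
  let e : sectN (𝒜 := CohB1.polyGrading (n + 1) k) ((1 : ℕ) : ℤ) (op (LefPen.chart (n + 1) k i)) :=
    resSec (le_top : (LefPen.chart (n + 1) k i : Opens (ProjectiveSpectrum.top (CohB1.polyGrading (n + 1) k))) ≤ ⊤)
      (globalOf (CohB1.polyGrading (n + 1) k) (Xpow (n + 1) k i 1))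
  have hex : ∃ b : (Proj (CohB1.polyGrading (n + 1) k)).ringCatSheaf.obj.obj (op (LefPen.chart (n + 1) k i)),
      a • (show (twist (CohB1.polyGrading (n + 1) k) ((1 : ℕ) : ℤ)).val.obj (op (LefPen.chart (n + 1) k i)) from e) =
        b • PicF2.secVal (twist (CohB1.polyGrading (n + 1) k) ((1 : ℕ) : ℤ)) s (LefPen.chart (n + 1) k i) :=
    ha' _
  obtain ⟨b, hb⟩ := hex
  let eS : Γ(twist (CohB1.polyGrading (n + 1) k) (-((1 : ℕ) : ℤ)), LefPen.chart (n + 1) k i) :=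
    eSec (n + 1) k i 1
  let b' : Γ(Proj (CohB1.polyGrading (n + 1) k), LefPen.chart (n + 1) k i) := b
  refine (QC.mem_idealOfHom_iff _ (psi (n + 1) k ℓ)
    ⟨LefPen.chart (n + 1) k i, isAffineOpen_chart (n + 1) k i⟩ a).mpr ⟨b' • eS, ?_⟩
  apply O_ext
  intro y
  have hA := psi_val (n + 1) k ℓ (LefPen.chart (n + 1) k i) (b' • eS) y
  have hsm := smul_sec_val (𝒜 := CohB1.polyGrading (n + 1) k) (k := -((1 : ℕ) : ℤ))
    (W := LefPen.chart (n + 1) k i) b' eS y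
  have hb' := congrArg (fun q : Γ(twist (CohB1.polyGrading (n + 1) k) ((1 : ℕ) : ℤ), LefPen.chart (n + 1) k i) =>
    ((show sectN (𝒜 := CohB1.polyGrading (n + 1) k) ((1 : ℕ) : ℤ) (op (LefPen.chart (n + 1) k i)) from q).1 y).1) hb
  have hL := smul_sec_val (𝒜 := CohB1.polyGrading (n + 1) k) (k := ((1 : ℕ) : ℤ))
    (W := LefPen.chart (n + 1) k i) a
    (show Γ(twist (CohB1.polyGrading (n + 1) k) ((1 : ℕ) : ℤ), LefPen.chart (n + 1) k i) from e) y
  have hR := smul_sec_val (𝒜 := CohB1.polyGrading (n + 1) k) (k := ((1 : ℕ) : ℤ))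
    (W := LefPen.chart (n + 1) k i) b'
    (PicF2.secVal (twist (CohB1.polyGrading (n + 1) k) ((1 : ℕ) : ℤ)) s (LefPen.chart (n + 1) k i)) y
  have h1 := hL.symm.trans (hb'.trans (hR.trans (congrArg₂ (· * ·) rfl (hs _ y))))
  have h2 : (e.1 y).1 * ((eSec (n + 1) k i 1).1 y).1 = 1 :=
    mk_mul_mk_inv (x := y.1) (Xpow (n + 1) k i 1).1 (chart_le (n + 1) k i 1 y.2)
      (fun h => y.1.isPrime.ne_top ((Ideal.eq_top_iff_one _).mpr h))
  exact hA.trans ((congrArg (fun z => _ * z) hsm).trans (aux2 h1 h2))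

theorem ideal_eq_span_of_basis (ℓ : LefPen.Form (n + 1) k 1)
    (U : (Proj (CohB1.polyGrading (n + 1) k)).affineOpens)
    (e : Γ(twist (CohB1.polyGrading (n + 1) k) (-((1 : ℕ) : ℤ)), U.1))
    (he : QC.IsBasisOver (twist (CohB1.polyGrading (n + 1) k) (-((1 : ℕ) : ℤ))) U.1 e) :
    (K2 k n ℓ).ideal U =
      Ideal.span {(show Γ(Proj (CohB1.polyGrading (n + 1) k), U.1) from
        (psi (n + 1) k ℓ).app U.1 e)} := by
  apply le_antisymm
  · intro a ha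
    obtain ⟨t, rfl⟩ := (QC.mem_idealOfHom_iff _ (psi (n + 1) k ℓ) U a).mp ha
    obtain ⟨c, hc⟩ := (he U.1 le_rfl).2 t
    have h3 : c • (twist (CohB1.polyGrading (n + 1) k) (-((1 : ℕ) : ℤ))).presheaf.map
        (homOfLE (le_refl U.1)).op e = t := hc
    rw [QC.res_self] at h3
    refine Ideal.mem_span_singleton'.mpr ⟨c, ?_⟩
    rw [← h3, Scheme.Modules.Hom.app_smul]
    rfl
  · refine Ideal.span_le.mpr (Set.singleton_subset_iff.mpr ?_)
    exact (QC.mem_idealOfHom_iff _ (psi (n + 1) k ℓ) U _).mpr ⟨e, rfl⟩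

theorem comap_ideal_eq_span (ℓ : LefPen.Form (n + 1) k 1)
    (U : (Proj (CohB1.polyGrading (n + 1) k)).affineOpens)
    (e : Γ(twist (CohB1.polyGrading (n + 1) k) (-((1 : ℕ) : ℤ)), U.1))
    (he : QC.IsBasisOver (twist (CohB1.polyGrading (n + 1) k) (-((1 : ℕ) : ℤ))) U.1 e)
    {B : Type u} [CommRing B] (θ : B →+* Γ(Proj (CohB1.polyGrading (n + 1) k), U.1))
    (hθ : Function.Bijective θ) (z : B)
    (hz : (psi (n + 1) k ℓ).app U.1 e = θ z) :
    Ideal.comap θ ((K2 k n ℓ).ideal U) = Ideal.span {z} := by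
  rw [ideal_eq_span_of_basis k n ℓ U e he]
  have h3 : Ideal.span {(show Γ(Proj (CohB1.polyGrading (n + 1) k), U.1) from
        (psi (n + 1) k ℓ).app U.1 e)} = (Ideal.span {z}).map θ := by
    rw [Ideal.map_span, Set.image_singleton]
    exact congrArg (fun w => Ideal.span {w}) hz
  rw [h3]
  exact Ideal.comap_map_of_bijective _ hθ

open Groth.Agent.H1.ProjIdeal in
theorem Jf_K2 (ℓ : LefPen.Form (n + 1) k 1) (i : Fin (n + 1 + 1))
    (h1 : ℓ.1 ∈ CohB1.polyGrading (n + 1) k (1 • 1)) :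
    Jf (CohB1.polyGrading (n + 1) k) (K2 k n ℓ) (LefPen.X_mem (n + 1) k i) one_pos =
      Ideal.span {HomogeneousLocalization.Away.mk (CohB1.polyGrading (n + 1) k)
        (LefPen.X_mem (n + 1) k i) 1 ℓ.1 h1} :=
  comap_ideal_eq_span k n ℓ
    (affD (CohB1.polyGrading (n + 1) k) (LefPen.X_mem (n + 1) k i) one_pos)
    (eSec (n + 1) k i 1) (isBasisOver_eSec (n + 1) k i 1)
    (Proj.awayToSection (CohB1.polyGrading (n + 1) k) (MvPolynomial.X i)).hom
    (awayToSection_bijective (CohB1.polyGrading (n + 1) k) (LefPen.X_mem (n + 1) k i) one_pos)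
    _ (psi_eSec (n + 1) k ℓ i)

theorem main_S7676 (k : Type u) [Field k] (n : ℕ)
    (s : Coh.structureModule (CohB1.ProjSpace (n + 1) k) ⟶ Twist.twistProjSpace (n + 1) k 1) (hs : s ≠ 0) :
    ∃ φ : CohB1.ProjSpace n k ≅ (PicF2.zeroScheme _ s).subscheme,
      Nonempty ((Scheme.Modules.pullback (φ.hom ≫ (PicF2.zeroScheme _ s).subschemeι)).obj
          (Twist.twistProjSpace (n + 1) k 1) ≅ Twist.twistProjSpace n k 1) := by
  classical
  let s' : QC.unitMod (Proj (CohB1.polyGrading (n + 1) k)) ⟶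
      twist (CohB1.polyGrading (n + 1) k) ((1 : ℕ) : ℤ) := s
  obtain ⟨ℓ, hℓ⟩ := exists_form k n s'
  have hne : ℓ.1 ≠ 0 := fun h0 => hs (hom_eq_zero_of_secVal ((1 : ℕ) : ℤ) s'
    (fun U y => (hℓ U y).trans (globalOf_val_of_eq_zero ℓ h0 ⟨y.1, trivial⟩)))
  have hℓ1 : ℓ.1 ∈ CohB1.polyGrading (n + 1) k (1 • 1) := by
    rw [smul_eq_mul, mul_one]; exact ℓ.2
  obtain ⟨ψ, hψ, hsurj, hker⟩ := Groth.Agent.H4.HypPlaneAlg.exists_psi k n ℓ.1 ℓ.2 hne
  haveI hci : IsClosedImmersion (Proj.map ψ hψ) :=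
    Groth.Agent.H1.PM.isClosedImmersion_map_of_surjective _ _ ψ hψ hsurj
  have hK1 : (Proj.map ψ hψ).ker = K2 k n ℓ := by
    refine Groth.Agent.H1.ProjIdeal.ext_of_Jf_eq (CohB1.polyGrading (n + 1) k) _ _
      (Finset.univ.image (fun i : Fin (n + 1 + 1) =>
        (MvPolynomial.X i : MvPolynomial (Fin (n + 1 + 1)) k))) ?hs1 ?hs ?h
    case hs1 =>
      intro f hf
      obtain ⟨i, -, rfl⟩ := Finset.mem_image.mp hf
      exact LefPen.X_mem (n + 1) k i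
    case hs =>
      rw [PN.irrelevant_eq_span]
      apply Ideal.span_mono
      rintro _ ⟨i, rfl⟩
      exact Finset.mem_coe.mpr (Finset.mem_image.mpr ⟨i, Finset.mem_univ _, rfl⟩)
    case h =>
      intro f hf
      obtain ⟨i, -, rfl⟩ := Finset.mem_image.mp hf
      rw [Groth.Agent.H1.ProjIdeal.Jf_ker_map,
        Groth.Agent.H4.HypPlaneAlg.ker_awayMap_eq_span (CohB1.polyGrading (n + 1) k)
          (CohB1.polyGrading n k) ψ ℓ.2 hker _ hℓ1]
      exact (Jf_K2 k n ℓ i hℓ1).symm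
  have hK3 : PicF2.zeroScheme (twist (CohB1.polyGrading (n + 1) k) ((1 : ℕ) : ℤ)) s' = K2 k n ℓ :=
    le_antisymm (zeroScheme_le_K2 k n s' ℓ hℓ) (K2_le_zeroScheme k n s' ℓ hℓ)
  have hker' : ((PicF2.zeroScheme _ s).subschemeι).ker = (Proj.map ψ hψ).ker := by
    rw [Scheme.IdealSheafData.ker_subschemeι]
    exact hK3.trans hK1.symm
  have hci2 : IsClosedImmersion ((PicF2.zeroScheme _ s).subschemeι) := inferInstance
  haveI hiso := @IsClosedImmersion.isIso_lift _ _ _ ((PicF2.zeroScheme _ s).subschemeι)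
    (Proj.map ψ hψ) hci2 hci hker'
  refine ⟨@asIso _ _ _ _ (IsClosedImmersion.lift ((PicF2.zeroScheme _ s).subschemeι) (Proj.map ψ hψ)
    hker'.le) hiso, ?_⟩
  have hfac : (@asIso _ _ _ _ (IsClosedImmersion.lift ((PicF2.zeroScheme _ s).subschemeι)
      (Proj.map ψ hψ) hker'.le) hiso).hom ≫ (PicF2.zeroScheme _ s).subschemeι = Proj.map ψ hψ :=
    IsClosedImmersion.lift_fac _ _ _
  obtain ⟨e⟩ := Groth.Agent.H4.HypPlaneTw.nonempty_pullback_twist_iso ψ hψ (PN.X_range_mem (n + 1) k)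
    (PN.irrelevant_eq_span (n + 1) k) 1
  exact ⟨eqToIso (congrArg (fun f : CohB1.ProjSpace n k ⟶ CohB1.ProjSpace (n + 1) k =>
    (Scheme.Modules.pullback f).obj (Twist.twistProjSpace (n + 1) k 1)) hfac) ≪≫ e⟩

end Groth.Agent.H4.HypPlane
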