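import Groth.Agent.H4.Constr2
import Mathlib.Topology.JacobsonSpace

/-!
# Helper library: Jacobson spaces and constructible sets (helper4)
-/

namespace Groth.Agent.H4.Spec

open Topology TopologicalSpace Set

variable {X : Type*} [tX : TopologicalSpace X] [JacobsonSpace X]

theorem eq_empty_of_isLocallyClosed_of_inter_closedPoints {Z : Set X} (hZ : IsLocallyClosed Z)
    (h : Z ∩ closedPoints X = ∅) : Z = ∅ := by
  by_contra hne
  have := nonempty_inter_closedPoints (Set.nonempty_iff_ne_empty.2 hne) hZ
  rw [h] at this
  exact Set.not_nonempty_empty this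

theorem eq_empty_of_isConstructible_of_inter_closedPoints {E : Set X} (hE : IsConstructible E) :
    E ∩ closedPoints X = ∅ → E = ∅ := by
  refine isConstructible_sdiff_union_induction
    (p := fun E => E ∩ closedPoints X = ∅ → E = ∅) ?_ ?_ hE
  · intro U V hUo _ hVo _ h
    exact eq_empty_of_isLocallyClosed_of_inter_closedPoints
      (hUo.isLocallyClosed.inter hVo.isClosed_compl.isLocallyClosed) h
  · intro s t _ _ hs ht h
    rw [Set.union_inter_distrib_right, Set.union_empty_iff] at h
    rw [hs h.1, ht h.2, Set.union_empty]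

theorem subset_of_preimage_closedPoints_subset_of_isOpen {U U' : Set X} (hU : IsOpen U)
    (hU' : IsOpen U')
    (h : (Subtype.val : closedPoints X → X) ⁻¹' U ⊆ (Subtype.val : closedPoints X → X) ⁻¹' U') :
    U ⊆ U' := by
  have h1 : (U \ U') ∩ closedPoints X = ∅ := by
    ext x
    simp only [mem_inter_iff, mem_sdiff, mem_empty_iff_false, iff_false, not_and]
    rintro ⟨hx, hx'⟩ hxc
    exact hx' (h (a := ⟨x, hxc⟩) hx)
  have h2 := eq_empty_of_isLocallyClosed_of_inter_closedPoints
    (hU.isLocallyClosed.inter hU'.isClosed_compl.isLocallyClosed) h1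
  exact Set.sdiff_eq_empty.1 h2

theorem subset_of_preimage_closedPoints_subset_of_isConstructible {E E' : Set X}
    (hE : IsConstructible E) (hE' : IsConstructible E')
    (h : (Subtype.val : closedPoints X → X) ⁻¹' E ⊆ (Subtype.val : closedPoints X → X) ⁻¹' E') :
    E ⊆ E' := by
  have h1 : (E \ E') ∩ closedPoints X = ∅ := by
    ext x
    simp only [mem_inter_iff, mem_sdiff, mem_empty_iff_false, iff_false, not_and]
    rintro ⟨hx, hx'⟩ hxc
    exact hx' (h (a := ⟨x, hxc⟩) hx)
  have h2 := eq_empty_of_isConstructible_of_inter_closedPoints (hE.sdiff hE') h1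
  exact Set.sdiff_eq_empty.1 h2

theorem isCompact_preimage_closedPoints_iff {U : Set X} (hU : IsOpen U) :
    IsCompact U ↔ IsCompact ((Subtype.val : closedPoints X → X) ⁻¹' U) := by
  constructor
  · intro hUc
    rw [isCompact_iff_finite_subcover]
    intro ι' V hV hcov
    choose W hWo hW using fun a => isOpen_induced_iff.1 (hV a)
    have h1 : U ⊆ ⋃ a, W a := by
      apply subset_of_preimage_closedPoints_subset_of_isOpen hU (isOpen_iUnion hWo)
      rw [Set.preimage_iUnion]
      simpa only [hW] using hcov
    obtain ⟨t, ht⟩ := hUc.elim_finite_subcover W hWo h1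
    refine ⟨t, ?_⟩
    have h2 := Set.preimage_mono (f := (Subtype.val : closedPoints X → X)) ht
    simp only [Set.preimage_iUnion, hW] at h2
    exact h2
  · intro hUc
    rw [isCompact_iff_finite_subcover]
    intro ι' W hWo hcov
    have h1 : (Subtype.val : closedPoints X → X) ⁻¹' U ⊆
        ⋃ a, (Subtype.val : closedPoints X → X) ⁻¹' W a := by
      rw [← Set.preimage_iUnion]
      exact Set.preimage_mono hcov
    obtain ⟨t, ht⟩ := hUc.elim_finite_subcover _
      (fun a => (hWo a).preimage continuous_subtype_val) h1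
    refine ⟨t, ?_⟩
    apply subset_of_preimage_closedPoints_subset_of_isOpen hU
      (isOpen_biUnion fun a _ => hWo a)
    simp only [Set.preimage_iUnion]
    exact ht

theorem isRetrocompact_preimage_closedPoints_iff {U : Set X} (hU : IsOpen U) :
    IsRetrocompact U ↔ IsRetrocompact ((Subtype.val : closedPoints X → X) ⁻¹' U) := by
  constructor
  · intro hUr V hVc hVo
    obtain ⟨W, hWo, rfl⟩ := isOpen_induced_iff.1 hVo
    have hWc : IsCompact W := (isCompact_preimage_closedPoints_iff hWo).2 hVc
    rw [← Set.preimage_inter]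
    exact (isCompact_preimage_closedPoints_iff (hU.inter hWo)).1 (hUr hWc hWo)
  · intro hUr W hWc hWo
    have h1 := hUr ((isCompact_preimage_closedPoints_iff hWo).1 hWc)
      (hWo.preimage continuous_subtype_val)
    rw [← Set.preimage_inter] at h1
    exact (isCompact_preimage_closedPoints_iff (hU.inter hWo)).2 h1

theorem isConstructible_preimage_closedPoints {E : Set X} (hE : IsConstructible E) :
    IsConstructible ((Subtype.val : closedPoints X → X) ⁻¹' E) :=
  hE.preimage continuous_subtype_val fun _ hso hs =>
    (isRetrocompact_preimage_closedPoints_iff hso).1 hs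

theorem exists_isConstructible_preimage_closedPoints_eq {F : Set (closedPoints X)}
    (hF : IsConstructible F) :
    ∃ E : Set X, IsConstructible E ∧ (Subtype.val : closedPoints X → X) ⁻¹' E = F := by
  induction hF using IsConstructible.empty_union_induction with
  | open_retrocompact V hVo hVr =>
    obtain ⟨W, hWo, rfl⟩ := isOpen_induced_iff.1 hVo
    exact ⟨W, ((isRetrocompact_preimage_closedPoints_iff hWo).2 hVr).isConstructible hWo, rfl⟩
  | union s hs t ht ihs iht =>
    obtain ⟨E1, h1, rfl⟩ := ihs
    obtain ⟨E2, h2, rfl⟩ := iht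
    exact ⟨E1 ∪ E2, h1.union h2, rfl⟩
  | compl s hs ih =>
    obtain ⟨E1, h1, rfl⟩ := ih
    exact ⟨E1ᶜ, h1.compl, rfl⟩

end Groth.Agent.H4.Spec
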