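import Mathlib
import Groth.Prelude.Def_ProCons
import Groth.Agent.H4.Jacobson

set_option autoImplicit false
universe u

namespace Groth.Agent.H4.IcA

open Topology TopologicalSpace Set

/-- in a noetherian space every subset is constructible-friendly: preimages of constructible sets
under continuous maps from a noetherian space are constructible. -/
theorem isConstructible_preimage_of_noetherian {P G : Type*} [TopologicalSpace P]
    [TopologicalSpace G] [NoetherianSpace P] {f : P → G} (hf : Continuous f) {s : Set G}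
    (hs : IsConstructible s) : IsConstructible (f ⁻¹' s) :=
  hs.preimage hf fun _ _ _ _ _ _ => NoetherianSpace.isCompact _

theorem isConstructible_of_isClosed_of_noetherian {P : Type*} [TopologicalSpace P]
    [NoetherianSpace P] {F : Set P} (hF : IsClosed F) : IsConstructible F := by
  rw [← isConstructible_compl]
  exact IsRetrocompact.isConstructible hF.isOpen_compl
    (fun _ _ _ => NoetherianSpace.isCompact _)

/-- the key topological lemma. -/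
theorem exists_closed_point {P G : Type*} [TopologicalSpace P] [TopologicalSpace G]
    [JacobsonSpace P]
    (hP : ∀ w : P, ∀ O : Set P, IsOpen O → w ∈ O →
      ∃ O' : Set P, IsOpen O' ∧ w ∈ O' ∧ O' ⊆ O ∧ NoetherianSpace ↥O')
    (f₁ f₂ : P → G) (hf₁ : Continuous f₁) (hf₂ : Continuous f₂) (A B : Set G)
    (hA : ProCons.IsIndConstructible A) (hB : ProCons.IsIndConstructible B)
    (F : Set P) (hF : IsClosed F) (w₀ : P) (h1 : f₁ w₀ ∈ A) (h2 : f₂ w₀ ∈ B) (h3 : w₀ ∈ F) :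
    ∃ w : P, IsClosed ({w} : Set P) ∧ f₁ w ∈ A ∧ f₂ w ∈ B ∧ w ∈ F := by
  obtain ⟨UA, hUAo, hxA, SA, hSA, hEqA⟩ := hA (f₁ w₀)
  obtain ⟨UB, hUBo, hxB, SB, hSB, hEqB⟩ := hB (f₂ w₀)
  have hmA : (⟨f₁ w₀, hxA⟩ : ↥UA) ∈ ⋃₀ SA := by rw [← hEqA]; exact h1
  have hmB : (⟨f₂ w₀, hxB⟩ : ↥UB) ∈ ⋃₀ SB := by rw [← hEqB]; exact h2
  obtain ⟨TA, hTA, hTAx⟩ := hmA
  obtain ⟨TB, hTB, hTBx⟩ := hmB
  obtain ⟨VA, hVAn, hVAo, hVAc⟩ := hSA TA hTA ⟨f₁ w₀, hxA⟩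
  obtain ⟨VB, hVBn, hVBo, hVBc⟩ := hSB TB hTB ⟨f₂ w₀, hxB⟩
  have hVAx : (⟨f₁ w₀, hxA⟩ : ↥UA) ∈ VA := mem_of_mem_nhds hVAn
  have hVBx : (⟨f₂ w₀, hxB⟩ : ↥UB) ∈ VB := mem_of_mem_nhds hVBn
  let OA : Set G := Subtype.val '' VA
  let OB : Set G := Subtype.val '' VB
  have hOA : IsOpen OA := hUAo.isOpenMap_subtype_val _ hVAo
  have hOB : IsOpen OB := hUBo.isOpenMap_subtype_val _ hVBo
  let O : Set P := f₁ ⁻¹' OA ∩ f₂ ⁻¹' OB
  have hO : IsOpen O := (hOA.preimage hf₁).inter (hOB.preimage hf₂)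
  have hw₀O : w₀ ∈ O := ⟨⟨_, hVAx, rfl⟩, ⟨_, hVBx, rfl⟩⟩
  obtain ⟨O', hO'o, hw₀O', hO'O, hO'n⟩ := hP w₀ O hO hw₀O
  -- maps to the nested subtypes
  have hUA' : ∀ w : ↥O', f₁ w.1 ∈ UA := fun w => by
    obtain ⟨v, _, hv⟩ := (hO'O w.2).1
    rw [← hv]; exact v.2
  have hVA' : ∀ w : ↥O', (⟨f₁ w.1, hUA' w⟩ : ↥UA) ∈ VA := fun w => by
    obtain ⟨v, hv1, hv⟩ := (hO'O w.2).1
    have : (⟨f₁ w.1, hUA' w⟩ : ↥UA) = v := Subtype.ext hv.symm
    rw [this]; exact hv1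
  have hUB' : ∀ w : ↥O', f₂ w.1 ∈ UB := fun w => by
    obtain ⟨v, _, hv⟩ := (hO'O w.2).2
    rw [← hv]; exact v.2
  have hVB' : ∀ w : ↥O', (⟨f₂ w.1, hUB' w⟩ : ↥UB) ∈ VB := fun w => by
    obtain ⟨v, hv1, hv⟩ := (hO'O w.2).2
    have : (⟨f₂ w.1, hUB' w⟩ : ↥UB) = v := Subtype.ext hv.symm
    rw [this]; exact hv1
  let gA : ↥O' → ↥VA := fun w => ⟨⟨f₁ w.1, hUA' w⟩, hVA' w⟩
  let gB : ↥O' → ↥VB := fun w => ⟨⟨f₂ w.1, hUB' w⟩, hVB' w⟩
  have hgA : Continuous gA :=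
    Continuous.subtype_mk (Continuous.subtype_mk (hf₁.comp continuous_subtype_val) _) _
  have hgB : Continuous gB :=
    Continuous.subtype_mk (Continuous.subtype_mk (hf₂.comp continuous_subtype_val) _) _
  let E' : Set ↥O' := (gA ⁻¹' (Subtype.val ⁻¹' TA : Set ↥VA) ∩ gB ⁻¹' (Subtype.val ⁻¹' TB : Set ↥VB)) ∩
    (Subtype.val ⁻¹' F : Set ↥O')
  have hE'c : IsConstructible E' :=
    ((isConstructible_preimage_of_noetherian hgA hVAc).inter
      (isConstructible_preimage_of_noetherian hgB hVBc)).inter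
      (isConstructible_of_isClosed_of_noetherian (hF.preimage continuous_subtype_val))
  have hE'ne : (⟨w₀, hw₀O'⟩ : ↥O') ∈ E' := ⟨⟨hTAx, hTBx⟩, h3⟩
  haveI : JacobsonSpace ↥O' := JacobsonSpace.of_isOpenEmbedding hO'o.isOpenEmbedding_subtypeVal
  have hne : E' ∩ closedPoints ↥O' ≠ ∅ := fun h =>
    (Set.eq_empty_iff_forall_notMem.1
      (Groth.Agent.H4.Spec.eq_empty_of_isConstructible_of_inter_closedPoints hE'c h)) _ hE'ne
  obtain ⟨w', ⟨⟨hw'A, hw'B⟩, hw'F⟩, hw'c⟩ := Set.nonempty_iff_ne_empty.2 hne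
  have hcl : w'.1 ∈ closedPoints P := by
    have := hO'o.isOpenEmbedding_subtypeVal.preimage_closedPoints (Y := P)
    have h' : w' ∈ Subtype.val ⁻¹' closedPoints P := by rw [this]; exact hw'c
    exact h'
  refine ⟨w'.1, hcl, ?_, ?_, hw'F⟩
  · have : (⟨f₁ w'.1, hUA' w'⟩ : ↥UA) ∈ Subtype.val ⁻¹' A := by
      rw [hEqA]; exact ⟨TA, hTA, hw'A⟩
    exact this
  · have : (⟨f₂ w'.1, hUB' w'⟩ : ↥UB) ∈ Subtype.val ⁻¹' B := by
      rw [hEqB]; exact ⟨TB, hTB, hw'B⟩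
    exact this

end Groth.Agent.H4.IcA
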