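import Mathlib
import Groth.Prelude.Def_ProCons
import Groth.Agent.H4.IcA

set_option autoImplicit false
universe u

namespace Groth.Agent.H4.IcB

open CategoryTheory CategoryTheory.Limits MonoidalCategory CartesianMonoidalCategory MonObj GrpObj
  AlgebraicGeometry TopologicalSpace

/-- a locally noetherian scheme has a basis of noetherian opens. -/
theorem exists_noetherian_nhd (P : Scheme.{u}) [IsLocallyNoetherian P] (w : P) (O : Set P)
    (hO : IsOpen O) (hw : w ∈ O) :
    ∃ O' : Set P, IsOpen O' ∧ w ∈ O' ∧ O' ⊆ O ∧ NoetherianSpace ↥O' := by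
  obtain ⟨_, ⟨V, hV, rfl⟩, hxV, hVU⟩ :=
    P.isBasis_affineOpens.exists_subset_of_mem_open hw hO
  haveI : IsNoetherianRing Γ(P, V) := IsLocallyNoetherian.component_noetherian ⟨V, hV⟩
  exact ⟨V, V.2, hxV, hVU, noetherianSpace_of_isAffineOpen V hV⟩

theorem s5395 (k : Type u) [Field k] [IsAlgClosed k] (G : Over (Spec (CommRingCat.of k))) [GrpObj G]
    [LocallyOfFiniteType G.hom] (A B : Set G.left) (hA : ProCons.IsIndConstructible A) (hB : ProCons.IsIndConstructible B)
    (z : G.left) (hz : IsClosed ({z} : Set G.left))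
    (hzAB : z ∈ μ[G].left.base '' {w : ↥(G ⊗ G).left | (fst G G).left.base w ∈ A ∧ (snd G G).left.base w ∈ B}) :
    ∃ w : ↥(G ⊗ G).left, IsClosed ({w} : Set ↥(G ⊗ G).left) ∧ (fst G G).left.base w ∈ A ∧ (snd G G).left.base w ∈ B ∧
      μ[G].left.base w = z := by
  obtain ⟨w₀, ⟨h1, h2⟩, h3⟩ := hzAB
  haveI : LocallyOfFiniteType (G ⊗ G).hom := by
    show LocallyOfFiniteType (pullback.fst G.hom G.hom ≫ G.hom)
    infer_instance
  haveI : JacobsonSpace ↥(G ⊗ G).left := LocallyOfFiniteType.jacobsonSpace (G ⊗ G).hom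
  haveI : IsLocallyNoetherian (G ⊗ G).left := LocallyOfFiniteType.isLocallyNoetherian (G ⊗ G).hom
  obtain ⟨w, hw1, hw2, hw3, hw4⟩ := Groth.Agent.H4.IcA.exists_closed_point
    (exists_noetherian_nhd (G ⊗ G).left)
    (fun w => (fst G G).left.base w) (fun w => (snd G G).left.base w)
    (fst G G).left.continuous (snd G G).left.continuous A B hA hB
    (μ[G].left.base ⁻¹' {z}) (hz.preimage μ[G].left.continuous) w₀ h1 h2 h3
  exact ⟨w, hw1, hw2, hw3, hw4⟩

end Groth.Agent.H4.IcB
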