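import Mathlib
import Groth.Prelude.Def_PBC
import Groth.Prelude.Def_ProEtW
import Groth.Agent.H4.IndEtCrit
import Groth.Agent.H4.IndEtDescent

set_option autoImplicit false
set_option linter.unusedSectionVars false
set_option linter.unusedVariables false
set_option linter.style.haveILetI false
universe u
open CategoryTheory CategoryTheory.Limits TensorProduct

namespace Groth.Agent.H4.IndEtHull
open Groth.Agent.H4.IndEtCrit Groth.Agent.H4.IndEtElems Groth.Agent.H4.IndEtDescent

/-- The ind-étale hull of an `A`-algebra `B`: the colimit `T` of all étale `A`-algebras mapping to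
`B`, with its extension property. -/
theorem exists_hull (A B : Type u) [CommRing A] [CommRing B] [Algebra A B] :
    ∃ (T : Type u) (_ : CommRing T) (_ : Algebra A T), EtPBC.IsIndEtale A T ∧ ∃ ψ : T →ₐ[A] B,
      ∀ (E : Type u) [CommRing E] [Algebra A E] [Algebra.Etale A E] (k : E →ₐ[A] T)
        (E' : Type u) [CommRing E'] [Algebra A E'] [Algebra.Etale A E'] (h : E →ₐ[A] E')
        (g' : E' →ₐ[A] B), g'.comp h = ψ.comp k →
        ∃ k' : E' →ₐ[A] T, k'.comp h = k ∧ ψ.comp k' = g' := by
  classical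
  let Cc : Under (CommRingCat.of A) := colimit (Dfun A B)
  let cc : Cocone (Dfun A B) := colimit.cocone (Dfun A B)
  have hcc : IsColimit cc := colimit.isColimit _
  letI algC : Algebra A Cc.right := Cc.hom.hom.toAlgebra
  let e₀ : cc.pt ≅ Under.mk (CommRingCat.ofHom (algebraMap A Cc.right)) := Iso.refl _
  have hind : EtPBC.IsIndEtale A Cc.right := by
    refine ⟨EtObj A B, inferInstance, inferInstance, Dfun A B, cc, hcc, ?_, ⟨e₀⟩⟩
    intro X
    have halg : ((Dfun A B).obj X).hom.hom.toAlgebra = (inferInstance : Algebra A X.R) :=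
      Algebra.algebra_ext _ _ (fun r => rfl)
    show @Algebra.Etale A X.R _ _ ((Dfun A B).obj X).hom.hom.toAlgebra
    rw [halg]
    exact X.het
  let Ψ : Cc ⟶ (cocone A B).pt := colimit.desc (Dfun A B) (cocone A B)
  have hΨ : ∀ (X : EtObj A B) (y : X.R), Ψ.right.hom ((cc.ι.app X).right.hom y) = X.g y := by
    intro X y
    have h1 : cc.ι.app X ≫ Ψ = (cocone A B).ι.app X := colimit.ι_desc (cocone A B) X
    have h2 : (cc.ι.app X).right ≫ Ψ.right = ((cocone A B).ι.app X).right := by
      rw [← Under.comp_right, h1]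
    exact congrArg (fun φ => φ.hom y) h2
  let ψ : Cc.right →ₐ[A] B :=
    { Ψ.right.hom with
      commutes' := fun a => by
        have h1 : Cc.hom ≫ Ψ.right = (cocone A B).pt.hom := Under.w Ψ
        exact congrArg (fun φ => φ.hom a) h1 }
  let ιₐ : ∀ X : EtObj A B, X.R →ₐ[A] Cc.right := fun X =>
    { (cc.ι.app X).right.hom with
      commutes' := fun a => by
        have h1 : ((Dfun A B).obj X).hom ≫ (cc.ι.app X).right = cc.pt.hom := Under.w (cc.ι.app X)
        exact congrArg (fun φ => φ.hom a) h1 }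
  have hψι : ∀ (X : EtObj A B), ψ.comp (ιₐ X) = X.g := fun X => AlgHom.ext (hΨ X)
  have hιmap : ∀ {X Z : EtObj A B} (m : X ⟶ Z), (ιₐ Z).comp m.1 = ιₐ X := by
    intro X Z m
    ext y
    have h1 : (Dfun A B).map m ≫ cc.ι.app Z = cc.ι.app X := cc.w m
    have h2 : ((Dfun A B).map m).right ≫ (cc.ι.app Z).right = (cc.ι.app X).right := by
      rw [← Under.comp_right, h1]
    exact congrArg (fun φ => φ.hom y) h2
  refine ⟨Cc.right, inferInstance, algC, hind, ψ, ?_⟩
  intro E _ _ _ k E' _ _ _ h g' hg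
  -- factor `k` through a stage
  obtain ⟨X, gj, hgj⟩ := factor_fp (Dfun A B) cc hcc e₀ E k
  let k₀ : E →ₐ[A] X.R :=
    letI := stageAlg (Dfun A B) X
    { toRingHom := gj.toRingHom, commutes' := fun a => gj.commutes a }
  have hk₀ : (ιₐ X).comp k₀ = k := by
    ext x
    have := congrArg (fun φ => φ x) hgj
    exact this
  obtain ⟨Y, e, he⟩ := exists_obj E (ψ.comp k)
  obtain ⟨Y', e', he'⟩ := exists_obj E' g'
  let m₁ : Y ⟶ X := ⟨k₀.comp e.toAlgHom, by
    rw [← he, ← hk₀, ← AlgHom.comp_assoc, ← AlgHom.comp_assoc, hψι]⟩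
  let m₂ : Y ⟶ Y' := ⟨e'.symm.toAlgHom.comp (h.comp e.toAlgHom), by
    rw [← he, ← he', ← hg]
    ext x
    simp⟩
  obtain ⟨Z, a, b, hab⟩ := IsFiltered.span m₁ m₂
  have hab' : a.1.comp m₁.1 = b.1.comp m₂.1 := congrArg Subtype.val hab
  refine ⟨(ιₐ Z).comp (b.1.comp e'.symm.toAlgHom), ?_, ?_⟩
  · have h1 : (b.1.comp e'.symm.toAlgHom).comp h = (a.1.comp k₀) := by
      ext x
      have := congrArg (fun φ => φ (e.symm x)) hab'
      simp only [AlgHom.comp_apply, m₁, m₂] at this
      simp only [AlgHom.comp_apply]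
      simpa using this.symm
    rw [AlgHom.comp_assoc, h1, ← AlgHom.comp_assoc, hιmap, hk₀]
  · rw [← AlgHom.comp_assoc, hψι, ← AlgHom.comp_assoc, b.2, ← he']
    ext x
    simp


theorem exists_algHom_sepClosed (R Ω E : Type u) [CommRing R] [Field Ω] [IsSepClosed Ω]
    [Algebra R Ω] [CommRing E] [Algebra R E] [Algebra.Etale R E] [Nontrivial (Ω ⊗[R] E)] :
    Nonempty (E →ₐ[R] Ω) := by
  obtain ⟨p⟩ := (inferInstance : Nonempty (PrimeSpectrum (Ω ⊗[R] E)))
  let χ : Ω ⊗[R] E →ₐ[Ω] Ω :=
    (Pi.evalAlgHom Ω (fun _ : PrimeSpectrum (Ω ⊗[R] E) => Ω) p).comp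
      (Algebra.FormallyEtale.equivPiOfIsSepClosed Ω (Ω ⊗[R] E)).toAlgHom
  exact ⟨(χ.restrictScalars R).comp Algebra.TensorProduct.includeRight⟩

section Big
variable (A : Type u) [CommRing A]

/-- separable closure of the residue field at a prime -/
def Om (p : PrimeSpectrum A) : Type u := SeparableClosure p.asIdeal.ResidueField

noncomputable instance (p : PrimeSpectrum A) : Field (Om A p) :=
  inferInstanceAs (Field (SeparableClosure p.asIdeal.ResidueField))

instance (p : PrimeSpectrum A) : IsSepClosed (Om A p) :=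
  inferInstanceAs (IsSepClosed (SeparableClosure p.asIdeal.ResidueField))

/-- the map `A → κ(p)^sep` -/
noncomputable def toOm (p : PrimeSpectrum A) : A →+* Om A p :=
  (algebraMap p.asIdeal.ResidueField (SeparableClosure p.asIdeal.ResidueField)).comp
    (algebraMap A p.asIdeal.ResidueField)

lemma toOm_eq_zero (p : PrimeSpectrum A) (a : A) : toOm A p a = 0 ↔ a ∈ p.asIdeal := by
  show (algebraMap p.asIdeal.ResidueField (SeparableClosure p.asIdeal.ResidueField))
    (algebraMap A p.asIdeal.ResidueField a) = 0 ↔ _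
  rw [map_eq_zero_iff _ (algebraMap p.asIdeal.ResidueField
    (SeparableClosure p.asIdeal.ResidueField)).injective, Ideal.algebraMap_residueField_eq_zero]

/-- the product of the separable closures of all residue fields -/
def BigB : Type u := ∀ p : PrimeSpectrum A, Om A p

noncomputable instance : CommRing (BigB A) := inferInstanceAs (CommRing (∀ p : PrimeSpectrum A, Om A p))

noncomputable def toBigB : A →+* BigB A := RingHom.pi (fun p => toOm A p)

noncomputable instance : Algebra A (BigB A) := (toBigB A).toAlgebra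

noncomputable def evB (p : PrimeSpectrum A) : BigB A →+* Om A p :=
  Pi.evalRingHom (fun p : PrimeSpectrum A => Om A p) p

lemma evB_algebraMap (p : PrimeSpectrum A) (a : A) : evB A p (algebraMap A (BigB A) a) = toOm A p a :=
  rfl

theorem main :
    ∃ (C : Type u) (_ : CommRing C) (_ : Algebra A C),
      Module.FaithfullyFlat A C ∧ EtPBC.IsIndEtale A C ∧ ProEtW.HasEtaleRetractions C := by
  classical
  obtain ⟨T, _, _, hind, ψ, hP⟩ := exists_hull A (BigB A)
  refine ⟨T, inferInstance, inferInstance, ?_, hind, ?_⟩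
  · haveI : Module.Flat A T := (weaklyEtale_of_isIndEtale A T hind).flat
    apply Module.FaithfullyFlat.of_comap_surjective
    intro p
    let ω : T →+* Om A p := (evB A p).comp ψ.toRingHom
    refine ⟨⟨RingHom.ker ω, RingHom.ker_isPrime ω⟩, ?_⟩
    ext a
    show ω (algebraMap A T a) = 0 ↔ a ∈ p.asIdeal
    have h1 : ω (algebraMap A T a) = toOm A p a := by
      show evB A p (ψ (algebraMap A T a)) = _
      rw [ψ.commutes, evB_algebraMap]
    rw [h1, toOm_eq_zero]
  · intro E _ _ hff het
    have hcrit : Crit A T := crit_of_isIndEtale hind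
    obtain ⟨C₀, _, _, hC₀, gC, E₀, _, _, hE₀, ⟨φ⟩⟩ := Crit.descent hcrit E
    letI algC₀T : Algebra C₀ T := gC.toRingHom.toAlgebra
    have hχ : ∀ p : PrimeSpectrum A, ∃ χp : E →+* Om A p,
        ∀ t : T, χp (algebraMap T E t) = evB A p (ψ t) := by
      intro p
      letI : Algebra T (Om A p) := ((evB A p).comp ψ.toRingHom).toAlgebra
      haveI : Nontrivial (Om A p ⊗[T] E) := inferInstance
      obtain ⟨χp⟩ := exists_algHom_sepClosed T (Om A p) E
      exact ⟨χp.toRingHom, fun t => χp.commutes t⟩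
    choose χp hχp using hχ
    let χ : E →+* BigB A := RingHom.pi χp
    have hχψ : ∀ t, χ (algebraMap T E t) = ψ t := fun t => funext (fun p => hχp p t)
    letI : Algebra A E₀ := Algebra.compHom E₀ (algebraMap A C₀)
    haveI : IsScalarTower A C₀ E₀ := IsScalarTower.of_algebraMap_eq (fun _ => rfl)
    haveI : Algebra.Etale A E₀ := Algebra.Etale.comp A C₀ E₀
    let e₀ : E₀ →+* E := φ.symm.toAlgHom.toRingHom.comp
      (Algebra.TensorProduct.includeRight : E₀ →ₐ[C₀] T ⊗[C₀] E₀).toRingHom
    have he₀ : ∀ c : C₀, e₀ (algebraMap C₀ E₀ c) = algebraMap T E (gC c) := by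
      intro c
      show φ.symm ((1 : T) ⊗ₜ[C₀] (algebraMap C₀ E₀ c)) = _
      have h1 : (1 : T) ⊗ₜ[C₀] (algebraMap C₀ E₀ c) = algebraMap T (T ⊗[C₀] E₀) (gC c) := by
        rw [Algebra.algebraMap_eq_smul_one c, ← TensorProduct.smul_tmul,
          Algebra.TensorProduct.algebraMap_apply]
        congr 1
        rw [Algebra.smul_def, mul_one]
        rfl
      rw [h1, AlgEquiv.commutes]
    let g' : E₀ →ₐ[A] BigB A :=
      { χ.comp e₀ with
        commutes' := fun a => by
          show χ (e₀ (algebraMap C₀ E₀ (algebraMap A C₀ a))) = _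
          rw [he₀, hχψ, gC.commutes, ψ.commutes] }
    let h : C₀ →ₐ[A] E₀ := IsScalarTower.toAlgHom A C₀ E₀
    have hg : g'.comp h = ψ.comp gC := by
      ext c
      show χ (e₀ (algebraMap C₀ E₀ c)) = ψ (gC c)
      rw [he₀, hχψ]
    obtain ⟨k', hk'1, hk'2⟩ := hP C₀ gC E₀ h g' hg
    let k'C : E₀ →ₐ[C₀] T :=
      { k'.toRingHom with commutes' := fun c => congrArg (fun φ => φ c) hk'1 }
    let ρ : T ⊗[C₀] E₀ →ₐ[T] T :=
      Algebra.TensorProduct.lift (AlgHom.id T T) k'C (fun _ _ => Commute.all _ _)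
    exact ⟨ρ.comp φ.toAlgHom⟩

end Big
end Groth.Agent.H4.IndEtHull
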