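import Mathlib
import Groth.Prelude.Def_PBC
import Groth.Agent.H4.IndEtCrit
import Groth.Agent.Lib.Helper5.CA.EtaleLiftQuot

set_option autoImplicit false
set_option linter.unusedSectionVars false
set_option linter.unusedVariables false
set_option linter.style.haveILetI false
universe u
open CategoryTheory CategoryTheory.Limits TensorProduct

namespace Groth.Agent.H4.IndEtLift
open Groth.Agent.H4.IndEtCrit Groth.Agent.H4.IndEtElems Groth.Agent.H5.CA

/-- Second lift: étale algebra over `R ⧸ J` lifts to `R` with control of the kernel. -/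
theorem lift2 (R : Type u) [CommRing R] (J : Ideal R) (E : Type u) [CommRing E]
    [Algebra (R ⧸ J) E] [Algebra.Etale (R ⧸ J) E] :
    ∃ (D : Type u) (_ : CommRing D) (_ : Algebra R D) (_ : Algebra.Etale R D) (G : D →+* E),
      (∀ c : R, G (algebraMap R D c) = algebraMap (R ⧸ J) E (Ideal.Quotient.mk J c)) ∧
      (∀ e : E, ∃ d : D, G d = e) ∧
      (∀ d : D, G d = 0 → d ∈ J.map (algebraMap R D)) := by
  obtain ⟨D, _, _, hD, ⟨ε⟩⟩ := exists_etale_lift_quotient R J E
  let inc : D →ₐ[R] (R ⧸ J) ⊗[R] D := Algebra.TensorProduct.includeRight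
  refine ⟨D, inferInstance, inferInstance, hD, ε.toAlgHom.toRingHom.comp inc.toRingHom, ?_, ?_, ?_⟩
  · intro c
    show ε (inc (algebraMap R D c)) = _
    rw [inc.commutes, IsScalarTower.algebraMap_apply R (R ⧸ J) ((R ⧸ J) ⊗[R] D), ε.commutes]
    rfl
  · intro e
    obtain ⟨d, hd⟩ := Algebra.TensorProduct.includeRight_surjective (R := R) (S := R ⧸ J) D
      Ideal.Quotient.mk_surjective (ε.symm e)
    exact ⟨d, by show ε (inc d) = e; rw [show inc d = ε.symm e from hd]; simp⟩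
  · intro d hd
    have h1 : (1 : R ⧸ J) ⊗ₜ[R] d = 0 := by
      apply ε.injective
      rw [map_zero]
      exact hd
    have h2 := congrArg (TensorProduct.quotTensorEquivQuotSMul D J) h1
    rw [TensorProduct.quotTensorEquivQuotSMul_mk_one_tmul, map_zero,
      Submodule.Quotient.mk_eq_zero, Ideal.smul_top_eq_map] at h2
    exact h2

section Setup
variable {A : Type u} [CommRing A] (I : Ideal A) (Cb : Type u) [CommRing Cb] [Algebra A Cb]
  [Algebra (A ⧸ I) Cb] [IsScalarTower A (A ⧸ I) Cb]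

theorem lift_elt (h : Crit (A ⧸ I) Cb) (b : Cb) :
    ∃ (C : Type u) (_ : CommRing C) (_ : Algebra A C) (_ : Algebra.Etale A C)
      (g : C →ₐ[A] Cb) (c : C), g c = b := by
  obtain ⟨E', _, _, _, g', c', hc'⟩ := h.lift b
  obtain ⟨D, _, _, hD, G, hG1, hG2, -⟩ := lift2 A I E'
  obtain ⟨d, hd⟩ := hG2 c'
  refine ⟨D, inferInstance, inferInstance, hD,
    { g'.toRingHom.comp G with commutes' := ?_ }, d, ?_⟩
  · intro a
    show g' (G (algebraMap A D a)) = _
    rw [hG1, g'.commutes, IsScalarTower.algebraMap_apply A (A ⧸ I) Cb]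
    rfl
  · show g' (G d) = b
    rw [hd, hc']

theorem kill_elt (h : Crit (A ⧸ I) Cb)
    (C₀ : Type u) [CommRing C₀] [Algebra A C₀] [Algebra.Etale A C₀] (g : C₀ →ₐ[A] Cb) (z : C₀)
    (hz : g z = 0) :
    ∃ (D : Type u) (_ : CommRing D) (_ : Algebra A D) (_ : Algebra.Etale A D)
      (f : C₀ →ₐ[A] D) (G : D →ₐ[A] Cb), G.comp f = g ∧ f z ∈ I.map (algebraMap A D) := by
  classical
  haveI : Algebra.Etale (A ⧸ I) (C₀ ⧸ I.map (algebraMap A C₀)) :=
    Algebra.Etale.of_equiv (Algebra.TensorProduct.quotIdealMapEquivQuotTensor C₀ I).symm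
  have hker : ∀ x ∈ I.map (algebraMap A C₀), g x = 0 := by
    intro x hx
    have : I.map (algebraMap A C₀) ≤ RingHom.ker g.toRingHom := by
      rw [Ideal.map_le_iff_le_comap]
      intro a ha
      rw [Ideal.mem_comap, RingHom.mem_ker]
      show g (algebraMap A C₀ a) = 0
      rw [g.commutes, IsScalarTower.algebraMap_apply A (A ⧸ I) Cb, Ideal.Quotient.algebraMap_eq,
        Ideal.Quotient.eq_zero_iff_mem.mpr ha, map_zero]
    exact this hx
  let gA : (C₀ ⧸ I.map (algebraMap A C₀)) →ₐ[A] Cb := Ideal.Quotient.liftₐ _ g hker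
  let gb : (C₀ ⧸ I.map (algebraMap A C₀)) →ₐ[A ⧸ I] Cb :=
    AlgHom.extendScalarsOfSurjective Ideal.Quotient.mk_surjective gA
  obtain ⟨E', _, _, _, hh, g', hcomp, h0⟩ := h.kill (C₀ ⧸ I.map (algebraMap A C₀)) gb
    (Ideal.Quotient.mk _ z) (by show g z = 0; exact hz)
  letI : Algebra (C₀ ⧸ I.map (algebraMap A C₀)) E' := hh.toRingHom.toAlgebra
  haveI : IsScalarTower (A ⧸ I) (C₀ ⧸ I.map (algebraMap A C₀)) E' :=
    IsScalarTower.of_algebraMap_eq (fun r => (hh.commutes r).symm)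
  haveI : Algebra.Etale (C₀ ⧸ I.map (algebraMap A C₀)) E' :=
    Algebra.Etale.of_restrictScalars (A ⧸ I) _ _
  obtain ⟨D, _, _, hD, G, hG1, -, hG3⟩ := lift2 C₀ (I.map (algebraMap A C₀)) E'
  letI : Algebra A D := ((algebraMap C₀ D).comp (algebraMap A C₀)).toAlgebra
  haveI : IsScalarTower A C₀ D := IsScalarTower.of_algebraMap_eq (fun _ => rfl)
  haveI : Algebra.Etale A D := Algebra.Etale.comp A C₀ D
  have hGf : ∀ c : C₀, g' (G (algebraMap C₀ D c)) = g c := by
    intro c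
    rw [hG1]
    show g' (hh (Ideal.Quotient.mk _ c)) = g c
    have := congrArg (fun φ => φ (Ideal.Quotient.mk _ c)) hcomp
    exact this
  refine ⟨D, inferInstance, inferInstance, inferInstance, IsScalarTower.toAlgHom A C₀ D,
    { g'.toRingHom.comp G with commutes' := ?_ }, ?_, ?_⟩
  · intro a
    show g' (G (algebraMap C₀ D (algebraMap A C₀ a))) = _
    rw [hGf, g.commutes]
  · ext c
    exact hGf c
  · show algebraMap C₀ D z ∈ _
    have h3 := hG3 (algebraMap C₀ D z) (by rw [hG1]; exact h0)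
    rw [Ideal.map_map] at h3
    exact h3

end Setup
lemma mem_map_algHom {A D D' : Type*} [CommRing A] [CommRing D] [CommRing D'] [Algebra A D]
    [Algebra A D'] (I : Ideal A) (φ : D →ₐ[A] D') {d : D} (hd : d ∈ I.map (algebraMap A D)) :
    φ d ∈ I.map (algebraMap A D') := by
  have h1 : φ d ∈ (I.map (algebraMap A D)).map φ.toRingHom := Ideal.mem_map_of_mem _ hd
  rw [Ideal.map_map] at h1
  have h2 : φ.toRingHom.comp (algebraMap A D) = algebraMap A D' := φ.comp_algebraMap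
  rw [h2] at h1
  exact h1

section Colim
variable {A : Type u} [CommRing A] (I : Ideal A) (Cb : Type u) [CommRing Cb] [Algebra A Cb]

theorem exists_indEtale
    (hI : ∀ a ∈ I, algebraMap A Cb a = 0)
    (hL : ∀ b : Cb, ∃ (C : Type u) (_ : CommRing C) (_ : Algebra A C) (_ : Algebra.Etale A C)
      (g : C →ₐ[A] Cb) (c : C), g c = b)
    (hK : ∀ (C₀ : Type u) [CommRing C₀] [Algebra A C₀] [Algebra.Etale A C₀] (g : C₀ →ₐ[A] Cb)
      (z : C₀), g z = 0 →
      ∃ (D : Type u) (_ : CommRing D) (_ : Algebra A D) (_ : Algebra.Etale A D)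
        (f : C₀ →ₐ[A] D) (G : D →ₐ[A] Cb), G.comp f = g ∧ f z ∈ I.map (algebraMap A D)) :
    ∃ (C : Type u) (_ : CommRing C) (_ : Algebra A C), EtPBC.IsIndEtale A C ∧
      ∃ ψ : C →ₐ[A] Cb, Function.Surjective ψ ∧
        RingHom.ker ψ.toRingHom = I.map (algebraMap A C) := by
  classical
  let Cc : Under (CommRingCat.of A) := colimit (Dfun A Cb)
  let cc : Cocone (Dfun A Cb) := colimit.cocone (Dfun A Cb)
  have hcc : IsColimit cc := colimit.isColimit _
  letI algC : Algebra A Cc.right := Cc.hom.hom.toAlgebra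
  have hind : EtPBC.IsIndEtale A Cc.right := by
    refine ⟨EtObj A Cb, inferInstance, inferInstance, Dfun A Cb, cc, hcc, ?_, ⟨Iso.refl _⟩⟩
    intro X
    have halg : ((Dfun A Cb).obj X).hom.hom.toAlgebra = (inferInstance : Algebra A X.R) :=
      Algebra.algebra_ext _ _ (fun r => rfl)
    show @Algebra.Etale A X.R _ _ ((Dfun A Cb).obj X).hom.hom.toAlgebra
    rw [halg]
    exact X.het
  let Ψ : Cc ⟶ (cocone A Cb).pt := colimit.desc (Dfun A Cb) (cocone A Cb)
  have hΨ : ∀ (X : EtObj A Cb) (y : X.R), Ψ.right.hom ((cc.ι.app X).right.hom y) = X.g y := by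
    intro X y
    have h1 : cc.ι.app X ≫ Ψ = (cocone A Cb).ι.app X := colimit.ι_desc (cocone A Cb) X
    have h2 : (cc.ι.app X).right ≫ Ψ.right = ((cocone A Cb).ι.app X).right := by
      rw [← Under.comp_right, h1]
    exact congrArg (fun φ => φ.hom y) h2
  let ψ : Cc.right →ₐ[A] Cb :=
    { Ψ.right.hom with
      commutes' := fun a => by
        have h1 : Cc.hom ≫ Ψ.right = (cocone A Cb).pt.hom := Under.w Ψ
        exact congrArg (fun φ => φ.hom a) h1 }
  let ιₐ : ∀ X : EtObj A Cb, X.R →ₐ[A] Cc.right := fun X =>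
    { (cc.ι.app X).right.hom with
      commutes' := fun a => by
        have h1 : ((Dfun A Cb).obj X).hom ≫ (cc.ι.app X).right = cc.pt.hom := Under.w (cc.ι.app X)
        exact congrArg (fun φ => φ.hom a) h1 }
  have hψι : ∀ (X : EtObj A Cb) (y : X.R), ψ (ιₐ X y) = X.g y := hΨ
  have hιmap : ∀ {X Z : EtObj A Cb} (m : X ⟶ Z) (y : X.R), ιₐ Z (m.1 y) = ιₐ X y := by
    intro X Z m y
    have h1 : (Dfun A Cb).map m ≫ cc.ι.app Z = cc.ι.app X := cc.w m
    have h2 : ((Dfun A Cb).map m).right ≫ (cc.ι.app Z).right = (cc.ι.app X).right := by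
      rw [← Under.comp_right, h1]
    exact congrArg (fun φ => φ.hom y) h2
  refine ⟨Cc.right, inferInstance, algC, hind, ψ, ?_, ?_⟩
  · intro b
    obtain ⟨C, _, _, _, g, c, hc⟩ := hL b
    obtain ⟨X, e, he⟩ := exists_obj C g
    refine ⟨ιₐ X (e.symm c), ?_⟩
    rw [hψι, ← he]
    simp [hc]
  · apply le_antisymm
    · intro x hx
      have hx0 : ψ x = 0 := hx
      obtain ⟨X, (y : X.R), hy⟩ := exists_rep (Dfun A Cb) cc hcc x
      have hy' : ιₐ X y = x := hy
      have hg0 : X.g y = 0 := by rw [← hψι, hy', hx0]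
      obtain ⟨D, _, _, _, f, G, hGf, hfz⟩ := hK X.R X.g y hg0
      obtain ⟨Z, e, he⟩ := exists_obj D G
      let m : X ⟶ Z := ⟨e.symm.toAlgHom.comp f, by
        rw [← he, ← hGf]; ext t; simp⟩
      have h3 : ιₐ Z (m.1 y) = x := by rw [hιmap, hy']
      rw [← h3]
      apply mem_map_algHom
      show e.symm (f y) ∈ _
      exact mem_map_algHom I e.symm.toAlgHom hfz
    · rw [Ideal.map_le_iff_le_comap]
      intro a ha
      rw [Ideal.mem_comap, RingHom.mem_ker]
      show ψ (algebraMap A Cc.right a) = 0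
      rw [ψ.commutes, hI a ha]

end Colim

theorem main (A : Type u) [CommRing A] (I : Ideal A) (Cb : Type u)
    [CommRing Cb] [Algebra (A ⧸ I) Cb] (h : EtPBC.IsIndEtale (A ⧸ I) Cb) :
    ∃ (C : Type u) (_ : CommRing C) (_ : Algebra A C),
      EtPBC.IsIndEtale A C ∧ Nonempty ((C ⧸ I.map (algebraMap A C)) ≃ₐ[A ⧸ I] Cb) := by
  letI : Algebra A Cb := ((algebraMap (A ⧸ I) Cb).comp (Ideal.Quotient.mk I)).toAlgebra
  haveI : IsScalarTower A (A ⧸ I) Cb := IsScalarTower.of_algebraMap_eq (fun _ => rfl)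
  have hcrit := crit_of_isIndEtale h
  have hI : ∀ a ∈ I, algebraMap A Cb a = 0 := by
    intro a ha
    show algebraMap (A ⧸ I) Cb (Ideal.Quotient.mk I a) = 0
    rw [Ideal.Quotient.eq_zero_iff_mem.mpr ha, map_zero]
  obtain ⟨C, _, _, hind, ψ, hsurj, hker⟩ := exists_indEtale I Cb hI (lift_elt I Cb hcrit)
    (fun C₀ _ _ _ g z hz => kill_elt I Cb hcrit C₀ g z hz)
  refine ⟨C, inferInstance, inferInstance, hind, ⟨?_⟩⟩
  let ψA : (C ⧸ I.map (algebraMap A C)) →ₐ[A] Cb :=
    Ideal.Quotient.liftₐ _ ψ (fun x hx => by rw [← hker] at hx; exact hx)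
  let ψb : (C ⧸ I.map (algebraMap A C)) →ₐ[A ⧸ I] Cb :=
    AlgHom.extendScalarsOfSurjective Ideal.Quotient.mk_surjective ψA
  refine AlgEquiv.ofBijective ψb ⟨?_, ?_⟩
  · rw [injective_iff_map_eq_zero]
    intro x hx
    obtain ⟨c, rfl⟩ := Ideal.Quotient.mk_surjective x
    have hc : ψ c = 0 := hx
    rw [Ideal.Quotient.eq_zero_iff_mem, ← hker]
    exact hc
  · intro b
    obtain ⟨c, hc⟩ := hsurj b
    exact ⟨Ideal.Quotient.mk _ c, hc⟩

end Groth.Agent.H4.IndEtLift
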