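import Mathlib
import Groth.Prelude.Def_ProEtW
import Groth.Agent.H4.IndEtCrit
import Groth.Agent.Lib.Helper1.Spectral2

set_option linter.unusedSectionVars false
set_option linter.unusedVariables false
set_option linter.style.haveILetI false
set_option autoImplicit false

namespace Groth.Agent.H4.IndZarQuot
universe u

section Top
variable {A : Type u} [CommRing A]

instance : TotallySeparatedSpace (ConnectedComponents (PrimeSpectrum A)) := by
  rw [totallySeparatedSpace_iff_exists_isClopen]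
  intro c c' hne
  obtain ⟨x, rfl⟩ := ConnectedComponents.surjective_coe c
  obtain ⟨y, rfl⟩ := ConnectedComponents.surjective_coe c'
  have hy : y ∉ connectedComponent x := fun h => hne (ConnectedComponents.coe_eq_coe'.2 h).symm
  obtain ⟨W, hW, hxW, hyW⟩ :=
    Groth.Agent.H1.Spec2.exists_isClopen_of_notMem_connectedComponent hy
  obtain ⟨h1, h2⟩ := Groth.Agent.H1.Spec2.isClopen_image_mk hW
  refine ⟨ConnectedComponents.mk '' W, h1, ⟨x, hxW, rfl⟩, ?_⟩
  intro hmem
  have : y ∈ ConnectedComponents.mk ⁻¹' (ConnectedComponents.mk '' W) := hmem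
  rw [h2] at this
  exact hyW this

end Top

open CategoryTheory CategoryTheory.Limits

section Constr
variable {A : Type u} [CommRing A] (Z : Set (PrimeSpectrum A))

/-- idempotents vanishing on `Z` -/
def Lam : Type u := {e : A // IsIdempotentElem e ∧ Z ⊆ PrimeSpectrum.zeroLocus {e}}

instance : Preorder (Lam Z) where
  le e e' := e.1 * e'.1 = e.1
  le_refl e := e.2.1
  le_trans e e' e'' h h' := by
    show e.1 * e''.1 = e.1
    calc e.1 * e''.1 = (e.1 * e'.1) * e''.1 := by rw [h]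
      _ = e.1 * (e'.1 * e''.1) := by ring
      _ = e.1 * e'.1 := by rw [h']
      _ = e.1 := h

lemma Lam.le_def (e e' : Lam Z) : e ≤ e' ↔ e.1 * e'.1 = e.1 := Iff.rfl

def Lam.sup (e e' : Lam Z) : Lam Z :=
  ⟨1 - (1 - e.1) * (1 - e'.1), (e.2.1.one_sub.mul e'.2.1.one_sub).one_sub, by
    intro p hp
    have h1 : e.1 ∈ p.asIdeal := e.2.2 hp (Set.mem_singleton _)
    have h2 : e'.1 ∈ p.asIdeal := e'.2.2 hp (Set.mem_singleton _)
    intro x hx
    rw [Set.mem_singleton_iff] at hx
    subst hx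
    have : 1 - (1 - e.1) * (1 - e'.1) = e.1 + e'.1 * (1 - e.1) := by ring
    show 1 - (1 - e.1) * (1 - e'.1) ∈ p.asIdeal
    rw [this]
    exact Ideal.add_mem _ h1 (Ideal.mul_mem_right _ _ h2)⟩

lemma Lam.le_sup_left (e e' : Lam Z) : e ≤ Lam.sup Z e e' := by
  show e.1 * (1 - (1 - e.1) * (1 - e'.1)) = e.1
  have he : e.1 * e.1 = e.1 := e.2.1
  linear_combination (1 - e'.1) * he

lemma Lam.le_sup_right (e e' : Lam Z) : e' ≤ Lam.sup Z e e' := by
  show e'.1 * (1 - (1 - e.1) * (1 - e'.1)) = e'.1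
  have he : e'.1 * e'.1 = e'.1 := e'.2.1
  linear_combination (1 - e.1) * he

instance : IsDirected (Lam Z) (· ≤ ·) :=
  ⟨fun a b => ⟨Lam.sup Z a b, Lam.le_sup_left Z a b, Lam.le_sup_right Z a b⟩⟩

def Lam.zero : Lam Z := ⟨0, IsIdempotentElem.zero, fun p _ x hx => by
  rw [Set.mem_singleton_iff] at hx; subst hx; exact Ideal.zero_mem _⟩

instance : Nonempty (Lam Z) := ⟨Lam.zero Z⟩

lemma span_le_of_le {e e' : Lam Z} (h : e ≤ e') : Ideal.span {e.1} ≤ Ideal.span {e'.1} := by
  rw [Ideal.span_singleton_le_span_singleton]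
  exact Dvd.intro_left _ h

/-- the ideal generated by all these idempotents -/
def IZ : Ideal A := Ideal.span (Set.range (fun e : Lam Z => e.1))

lemma span_le_IZ (e : Lam Z) : Ideal.span {e.1} ≤ IZ Z := by
  rw [Ideal.span_singleton_le_iff_mem]
  exact Ideal.subset_span ⟨e, rfl⟩

lemma mem_IZ {a : A} (ha : a ∈ IZ Z) : ∃ e : Lam Z, a ∈ Ideal.span {e.1} := by
  unfold IZ at ha
  induction ha using Submodule.span_induction with
  | mem x h =>
    obtain ⟨e, rfl⟩ := h
    exact ⟨e, Ideal.mem_span_singleton_self _⟩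
  | zero => exact ⟨Lam.zero Z, Ideal.zero_mem _⟩
  | add x y _ _ hx hy =>
    obtain ⟨e, he⟩ := hx
    obtain ⟨e', he'⟩ := hy
    exact ⟨Lam.sup Z e e', Ideal.add_mem _ (span_le_of_le Z (Lam.le_sup_left Z e e') he)
      (span_le_of_le Z (Lam.le_sup_right Z e e') he')⟩
  | smul c x _ hx =>
    obtain ⟨e, he⟩ := hx
    exact ⟨e, Ideal.mul_mem_left _ c he⟩

noncomputable def Dz : Lam Z ⥤ Under (CommRingCat.of A) where
  obj e := Under.mk (CommRingCat.ofHom (algebraMap A (A ⧸ Ideal.span {e.1})))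
  map {e e'} h := Under.homMk
    (CommRingCat.ofHom (Ideal.Quotient.factor (span_le_of_le Z (leOfHom h)))) (by
      ext a; rfl)
  map_id e := by
    ext x
    obtain ⟨a, rfl⟩ := Ideal.Quotient.mk_surjective x
    rfl
  map_comp f g := by
    ext x
    obtain ⟨a, rfl⟩ := Ideal.Quotient.mk_surjective x
    rfl

noncomputable def coconeZ : Cocone (Dz Z) where
  pt := Under.mk (CommRingCat.ofHom (algebraMap A (A ⧸ IZ Z)))
  ι :=
    { app := fun e => Under.homMk
        (CommRingCat.ofHom (Ideal.Quotient.factor (span_le_IZ Z e))) (by ext a; rfl)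
      naturality := fun e e' h => by
        ext x
        obtain ⟨a, rfl⟩ := Ideal.Quotient.mk_surjective x
        rfl }

noncomputable def isColZ : IsColimit (coconeZ Z) := by
  refine Groth.Agent.H4.IndEtCrit.isColimit_of_elementwise (Dz Z) (coconeZ Z) ?_ ?_
  · intro (x : A ⧸ IZ Z)
    obtain ⟨a, rfl⟩ := Ideal.Quotient.mk_surjective x
    exact ⟨Lam.zero Z, (Ideal.Quotient.mk _ a : A ⧸ Ideal.span {(Lam.zero Z).1}), rfl⟩
  · intro j (y : A ⧸ Ideal.span {j.1}) (y' : A ⧸ Ideal.span {j.1}) hy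
    obtain ⟨a, rfl⟩ := Ideal.Quotient.mk_surjective y
    obtain ⟨a', rfl⟩ := Ideal.Quotient.mk_surjective y'
    have h1 : (Ideal.Quotient.mk (IZ Z) a) = Ideal.Quotient.mk (IZ Z) a' := hy
    rw [Ideal.Quotient.eq] at h1
    obtain ⟨e', he'⟩ := mem_IZ Z h1
    refine ⟨Lam.sup Z j e', homOfLE (Lam.le_sup_left Z j e'), ?_⟩
    show (Ideal.Quotient.mk (Ideal.span {(Lam.sup Z j e').1}) a) =
      Ideal.Quotient.mk (Ideal.span {(Lam.sup Z j e').1}) a'
    rw [Ideal.Quotient.eq]
    exact span_le_of_le Z (Lam.le_sup_right Z j e') he'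

theorem isIndZariski_quot : EtPBC.IsIndZariski A (A ⧸ IZ Z) := by
  refine ⟨Lam Z, inferInstance, inferInstance, Dz Z, coconeZ Z, isColZ Z, ?_, ⟨Iso.refl _⟩⟩
  intro e
  have halg : ((Dz Z).obj e).hom.hom.toAlgebra =
      (inferInstance : Algebra A (A ⧸ Ideal.span {e.1})) :=
    Algebra.algebra_ext _ _ (fun r => rfl)
  show @Algebra.IsLocalIso A (A ⧸ Ideal.span {e.1}) _ _ ((Dz Z).obj e).hom.hom.toAlgebra
  rw [halg]
  haveI : IsLocalization.Away (1 - e.1) (A ⧸ Ideal.span {e.1}) := by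
    apply IsLocalization.away_of_isIdempotentElem e.2.1.one_sub
    · rw [sub_sub_cancel, Ideal.Quotient.algebraMap_eq, Ideal.mk_ker]
    · exact Ideal.Quotient.mk_surjective
  haveI : Algebra.IsStandardOpenImmersion A (A ⧸ Ideal.span {e.1}) := ⟨⟨1 - e.1, inferInstance⟩⟩
  infer_instance

end Constr

section Main

theorem main (A : Type u) [CommRing A]
    (T : Set (_root_.ConnectedComponents (PrimeSpectrum A))) (hT : IsClosed T) :
    ∃ (B : Type u) (_ : CommRing B) (_ : Algebra A B),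
      EtPBC.IsIndZariski A B ∧ Function.Surjective (algebraMap A B) ∧
      Topology.IsEmbedding (PrimeSpectrum.comap (algebraMap A B)) ∧
      Set.range (PrimeSpectrum.comap (algebraMap A B)) = _root_.ConnectedComponents.mk ⁻¹' T := by
  set Z : Set (PrimeSpectrum A) := _root_.ConnectedComponents.mk ⁻¹' T with hZ
  have hsurj : Function.Surjective (algebraMap A (A ⧸ IZ Z)) := Ideal.Quotient.mk_surjective
  refine ⟨A ⧸ IZ Z, inferInstance, inferInstance, isIndZariski_quot Z, hsurj,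
    (PrimeSpectrum.isClosedEmbedding_comap_of_surjective _ _ hsurj).isEmbedding, ?_⟩
  rw [range_comap_of_surjective _ _ hsurj, Ideal.Quotient.algebraMap_eq,
    Ideal.mk_ker, IZ, PrimeSpectrum.zeroLocus_span]
  apply Set.Subset.antisymm
  · intro p hp
    by_contra hpZ
    have hc : _root_.ConnectedComponents.mk p ∈ Tᶜ := hpZ
    obtain ⟨V, hV, hcV, hVT⟩ := compact_exists_isClopen_in_isOpen hT.isOpen_compl hc
    have hU : IsClopen (_root_.ConnectedComponents.mk ⁻¹' Vᶜ : Set (PrimeSpectrum A)) :=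
      hV.compl.preimage ConnectedComponents.continuous_coe
    obtain ⟨e, he, hUe⟩ := PrimeSpectrum.isClopen_iff_zeroLocus.1 hU
    have hZU : Z ⊆ PrimeSpectrum.zeroLocus {e} := by
      rw [← hUe]
      intro q hq hqV
      exact hVT hqV hq
    have : e ∈ p.asIdeal := hp ⟨(⟨e, he, hZU⟩ : Lam Z), rfl⟩
    have hpU : p ∈ (_root_.ConnectedComponents.mk ⁻¹' Vᶜ : Set (PrimeSpectrum A)) := by
      rw [hUe]
      intro x hx
      rw [Set.mem_singleton_iff] at hx
      subst hx
      exact this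
    exact hpU hcV
  · intro p hp x hx
    obtain ⟨e, rfl⟩ := hx
    exact e.2.2 hp (Set.mem_singleton _)

end Main

end Groth.Agent.H4.IndZarQuot
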