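import Mathlib
import Groth.Prelude
import Groth.Agent.H4.CondLoc
import Groth.Agent.Lib.Helper5.FunFld.Plane8

set_option autoImplicit false

namespace Groth.Agent.H4.IntMultA

open FunFld WithZero Groth.Agent.H4.CondLoc

variable {k K : Type*} [Field k] [Field K] [Algebra k K]

section cond

variable [IsAlgClosed k] (hK : IsFunctionField k K)

include hK in
/-- conductor statement with weaker hypotheses than `CondLoc.main` -/
theorem cond_main {n : ℕ} (φ : Fin (n + 1) → K) (hφ0 : ∀ i, φ i ≠ 0)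
    (hnc : ∀ j, ∃ i, φ i / φ j ∉ Set.range (algebraMap k K))
    (hbir : IntermediateField.adjoin k (Set.range fun i => φ i / φ 0) = ⊤) (P : Place k K) :
    ∃ N : ℕ, ∀ z : K,
      (∀ Q : Place k K, SameImage φ P Q → Q.1 z ≤ exp (-(N : ℤ))) → InLocRing φ P z := by
  classical
  obtain ⟨j, hj⟩ := exists_isLeast φ hφ0 P
  set ψ : Fin (n + 1) → K := fun i => φ i / φ j with hψ
  have hψj : ψ j = 1 := div_self hj.1
  obtain ⟨m0, hm0⟩ := exists_fg_bound hK ψ hψj (hnc j)
  have hfinG : (L (m0 • mapDiv k ψ) : Submodule k K).FG := by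
    haveI : FiniteDimensional k (L (m0 • mapDiv k ψ)) := finiteDimensional_L hK _
    exact (Submodule.fg_iff_finiteDimensional _).2 inferInstance
  obtain ⟨c, hcA, hc0, hc⟩ := exists_common_denom (affRing k φ j)
    (exists_frac_of_bir j hj.1 0 (hφ0 0) hbir) _ hfinG
  have hfib := finite_fibre hK φ hnc P
  set F := hfib.toFinset with hF
  refine ⟨F.sup (fun Q => (Q.ord c).toNat), fun z hz => ?_⟩
  set N := F.sup (fun Q => (Q.ord c).toNat) with hN
  have hyint : ∀ Q : Place k K, SameImage φ P Q → Q.1 (z / c) ≤ 1 := by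
    intro Q hQ
    have hQF : Q ∈ F := hfib.mem_toFinset.2 hQ
    have h1 : (Q.ord c).toNat ≤ N := Finset.le_sup (f := fun Q => (Q.ord c).toNat) hQF
    have h2 := hz Q hQ
    rw [map_div₀, div_le_one₀ (pos_iff_ne_zero.2 (Q.v_ne_zero hc0))]
    refine h2.trans ?_
    rw [Q.v_eq_exp_neg_ord hc0, exp_le_exp]
    have h3 : Q.ord c ≤ (Q.ord c).toNat := Int.self_le_toNat _
    omega
  obtain ⟨w, hwA, hw1, hw⟩ := exists_mul_mem_regular' hK hφ0 hj hyint
  have h1 := hm0 (z / c * w) hw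
  have h2 := hc _ h1
  have h3 : c * (z / c * w) = z * w := by field_simp
  rw [h3] at h2
  exact (inLocRing_iff φ P z).2 ⟨j, hj, z * w, h2, w, hwA, hw1, rfl⟩

end cond

section ker

variable [IsAlgClosed k] (hK : IsFunctionField k K)

include hK in
theorem ker_aeval_eq_span (x y : K)
    (hxy : IntermediateField.adjoin k ({x, y} : Set K) = ⊤) (f : MvPolynomial (Fin 2) k)
    (hf : Irreducible f) (hfxy : MvPolynomial.aeval ![x, y] f = 0) :
    RingHom.ker (MvPolynomial.aeval ![x, y] : MvPolynomial (Fin 2) k →ₐ[k] K) =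
      Ideal.span {f} := by
  classical
  set 𝔭 := RingHom.ker (MvPolynomial.aeval ![x, y] : MvPolynomial (Fin 2) k →ₐ[k] K) with h𝔭
  haveI h𝔭p : 𝔭.IsPrime := RingHom.ker_isPrime _
  have hle : Ideal.span {f} ≤ 𝔭 := by
    rw [Ideal.span_singleton_le_iff_mem]
    exact hfxy
  haveI hfp : (Ideal.span {f}).IsPrime := (Ideal.span_singleton_prime hf.ne_zero).2 hf.prime
  by_contra hne
  have hlt : Ideal.span {f} < 𝔭 := lt_of_le_of_ne hle (fun h => hne h.symm)
  have h0 : (⊥ : Ideal (MvPolynomial (Fin 2) k)) < Ideal.span {f} := by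
    rw [bot_lt_iff_ne_bot]
    intro h
    rw [Ideal.span_singleton_eq_bot] at h
    exact hf.ne_zero h
  have hdim : ringKrullDim (MvPolynomial (Fin 2) k) = 2 := by
    rw [MvPolynomial.ringKrullDim_of_isNoetherianRing, ringKrullDim_eq_zero_of_field]
    simp
  have hmax : 𝔭.IsMaximal := by
    by_contra hnm
    obtain ⟨𝔪, h𝔪, h𝔭𝔪⟩ := Ideal.exists_le_maximal 𝔭 h𝔭p.ne_top
    have hlt2 : 𝔭 < 𝔪 := lt_of_le_of_ne h𝔭𝔪 (fun h => hnm (h ▸ h𝔪))
    haveI := h𝔪.isPrime
    have e1 := Ideal.height_strict_mono_of_isPrime h0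
    have e2 := Ideal.height_strict_mono_of_isPrime hlt
    have e3 := Ideal.height_strict_mono_of_isPrime hlt2
    have e4 := Ideal.height_le_ringKrullDim_of_ne_top h𝔪.ne_top
    rw [hdim] at e4
    have e5' : ((𝔪.height : ℕ∞) : WithBot ℕ∞) ≤ ((2 : ℕ∞) : WithBot ℕ∞) := e4
    have e5 : 𝔪.height ≤ 2 := WithBot.coe_le_coe.1 e5'
    have f1 : (1 : ℕ∞) ≤ (Ideal.span {f}).height := Order.one_le_iff_pos.2 (pos_of_gt e1)
    have f2 : (2 : ℕ∞) ≤ 𝔭.height := by
      have := Order.add_one_le_of_lt (lt_of_le_of_lt f1 e2)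
      simpa [one_add_one_eq_two] using this
    have f3 : (3 : ℕ∞) ≤ 𝔪.height := by
      have := Order.add_one_le_of_lt (lt_of_le_of_lt f2 e3)
      have h23 : (2 : ℕ∞) + 1 = 3 := by norm_num
      rwa [h23] at this
    have : (3 : ℕ∞) ≤ 2 := f3.trans e5
    exact absurd this (by norm_num)
  obtain ⟨a, ha⟩ := MvPolynomial.isMaximal_iff_eq_vanishingIdeal_singleton.1 hmax
  have hX : ∀ i : Fin 2, ![x, y] i = algebraMap k K (a i) := by
    intro i
    have hmem : (MvPolynomial.X i - MvPolynomial.C (a i) : MvPolynomial (Fin 2) k) ∈ 𝔭 := by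
      rw [ha, MvPolynomial.mem_vanishingIdeal_singleton_iff]
      simp
    have := (RingHom.mem_ker).1 hmem
    simp only [map_sub, MvPolynomial.aeval_X, MvPolynomial.aeval_C] at this
    exact sub_eq_zero.1 this
  exact not_both_const hK hxy ⟨⟨a 0, (hX 0).symm⟩, ⟨a 1, (hX 1).symm⟩⟩

end ker

end Groth.Agent.H4.IntMultA
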