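import Mathlib
import Groth.Prelude
import Groth.Agent.Lib.Helper5.FunFld.RelQuot
import Groth.Agent.Lib.Helper5.FunFld.Approx
import Groth.Agent.Lib.Helper5.FunFld.Genus0
import Groth.Agent.Lib.Helper5.FunFld.AffFinite

set_option autoImplicit false

namespace Groth.Agent.H4.IntMultB

open FunFld WithZero

variable {k K : Type*} [Field k] [Field K] [Algebra k K]

/-- functions with prescribed vanishing orders along a finite set of places -/
def Isub (S : Finset (Place k K)) (D : Place k K → ℕ) : Submodule k K where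
  carrier := {z | ∀ Q ∈ S, Q.1 z ≤ exp (-(D Q : ℤ))}
  add_mem' {a b} ha hb Q hQ := (Q.1.map_add a b).trans (max_le (ha Q hQ) (hb Q hQ))
  zero_mem' Q _ := by simp
  smul_mem' c z hz Q hQ := (Q.v_smul_le c z).trans (hz Q hQ)

theorem mem_Isub {S : Finset (Place k K)} {D : Place k K → ℕ} {z : K} :
    z ∈ Isub S D ↔ ∀ Q ∈ S, Q.1 z ≤ exp (-(D Q : ℤ)) := Iff.rfl

theorem Isub_mono {S : Finset (Place k K)} {D D' : Place k K → ℕ} (h : ∀ Q ∈ S, D Q ≤ D' Q) :
    Isub S D' ≤ Isub S D := by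
  intro z hz Q hQ
  refine (hz Q hQ).trans ?_
  rw [exp_le_exp]
  have := h Q hQ
  omega

theorem Isub_congr {S : Finset (Place k K)} {D D' : Place k K → ℕ} (h : ∀ Q ∈ S, D Q = D' Q) :
    Isub S D = Isub S D' :=
  le_antisymm (Isub_mono (fun Q hQ => (h Q hQ).symm.le)) (Isub_mono (fun Q hQ => (h Q hQ).le))

/-- the one-step quotient is one-dimensional -/
theorem finrank_step [DecidableEq (Place k K)] (S : Finset (Place k K)) (D : Place k K → ℕ)
    (Q₀ : Place k K) (hQ₀ : Q₀ ∈ S) (hdeg : Q₀.deg = 1) :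
    Module.finrank k (RelQ (Isub S (Function.update D Q₀ (D Q₀ + 1))) (Isub S D)) = 1 := by
  set D' := Function.update D Q₀ (D Q₀ + 1) with hD'
  obtain ⟨u, hu⟩ := Place.exists_approx_eq S (fun _ => (0 : K)) (fun Q => -(D Q : ℤ))
  simp only [sub_zero] at hu
  have hu0 : u ≠ 0 := by
    rintro rfl
    have := hu Q₀ hQ₀
    rw [map_zero] at this
    exact exp_ne_zero this.symm
  have huD : u ∈ Isub S D := fun Q hQ => (hu Q hQ).le
  set v : RelQ (Isub S D') (Isub S D) := Submodule.Quotient.mk ⟨u, huD⟩ with hv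
  have hv0 : v ≠ 0 := by
    intro h
    rw [hv, Submodule.Quotient.mk_eq_zero] at h
    have h1 : u ∈ Isub S D' := h
    have h2 := h1 Q₀ hQ₀
    rw [hu Q₀ hQ₀, exp_le_exp, hD', Function.update_self] at h2
    push_cast at h2
    omega
  refine finrank_eq_one v hv0 ?_
  intro w
  induction w using Submodule.Quotient.induction_on with
  | H z =>
    obtain ⟨z, hz⟩ := z
    have hzu : Q₀.1 (z / u) ≤ 1 := by
      rw [map_div₀, div_le_one₀ (pos_iff_ne_zero.2 (Q₀.v_ne_zero hu0)), hu Q₀ hQ₀]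
      exact hz Q₀ hQ₀
    obtain ⟨c, hc⟩ := Q₀.exists_const_sub_lt hdeg hzu
    refine ⟨c, ?_⟩
    rw [hv, ← Submodule.Quotient.mk_smul, Submodule.Quotient.eq]
    show ((c • (⟨u, huD⟩ : Isub S D) - ⟨z, hz⟩ : Isub S D) : K) ∈ Isub S D'
    have e1 : ((c • (⟨u, huD⟩ : Isub S D) - ⟨z, hz⟩ : Isub S D) : K) = c • u - z := rfl
    rw [e1]
    intro Q hQ
    by_cases hQQ : Q = Q₀
    · subst hQQ
      rw [hD', Function.update_self]
      have e2 : c • u - z = -(u * (z / u - algebraMap k K c)) := by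
        rw [Algebra.smul_def]; field_simp; ring
      rw [e2, Valuation.map_neg, map_mul, hu Q hQ]
      have h3 : exp (-(D Q : ℤ)) * Q.1 (z / u - algebraMap k K c) < exp (-(D Q : ℤ)) := by
        calc exp (-(D Q : ℤ)) * Q.1 (z / u - algebraMap k K c)
            < exp (-(D Q : ℤ)) * 1 := by
              exact mul_lt_mul_of_pos_left hc (pos_iff_ne_zero.2 exp_ne_zero)
          _ = exp (-(D Q : ℤ)) := mul_one _
      have h4 : Q.1 (u * (z / u - algebraMap k K c)) < exp (-(D Q : ℤ)) := by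
        rw [map_mul, hu Q hQ]; exact h3
      have h5 := Q.v_le_exp_pred_of_lt h4
      rw [map_mul, hu Q hQ] at h5
      refine h5.trans ?_
      rw [exp_le_exp]
      push_cast
      omega
    · rw [hD', Function.update_of_ne hQQ]
      refine (Q.1.map_sub _ _).trans (max_le ?_ (hz Q hQ))
      exact (Q.v_smul_le c u).trans (hu Q hQ).le

/-- `dim I(0)/I(D) = ∑ D` -/
theorem finrank_Isub (S : Finset (Place k K)) (hdeg : ∀ Q ∈ S, Q.deg = 1) :
    ∀ (n : ℕ) (D : Place k K → ℕ), ∑ Q ∈ S, D Q = n →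
      FiniteDimensional k (RelQ (Isub S D) (Isub S (fun _ => 0))) ∧
        Module.finrank k (RelQ (Isub S D) (Isub S (fun _ => 0))) = n := by
  classical
  intro n
  induction n with
  | zero =>
    intro D hD
    have hD0 : ∀ Q ∈ S, D Q = 0 := fun Q hQ => (Finset.sum_eq_zero_iff.1 hD) Q hQ
    have hle : Isub S (fun _ => 0) ≤ Isub S D := Isub_mono (fun Q hQ => (hD0 Q hQ).le)
    haveI := relQ_self_subsingleton hle
    exact ⟨inferInstance, Module.finrank_zero_of_subsingleton⟩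
  | succ n ih =>
    intro D hD
    obtain ⟨Q₀, hQ₀, hpos⟩ : ∃ Q₀ ∈ S, 0 < D Q₀ := by
      by_contra hcon
      push Not at hcon
      have : ∑ Q ∈ S, D Q = 0 := Finset.sum_eq_zero (fun Q hQ => Nat.le_zero.1 (hcon Q hQ))
      omega
    set D₁ := Function.update D Q₀ (D Q₀ - 1) with hD₁
    have hsum : ∑ Q ∈ S, D₁ Q = n := by
      have e1 := Finset.add_sum_erase S D hQ₀
      have e2 := Finset.add_sum_erase S D₁ hQ₀
      have e3 : ∑ Q ∈ S.erase Q₀, D₁ Q = ∑ Q ∈ S.erase Q₀, D Q :=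
        Finset.sum_congr rfl (fun Q hQ => by
          rw [hD₁, Function.update_of_ne (Finset.ne_of_mem_erase hQ)])
      have e4 : D₁ Q₀ = D Q₀ - 1 := by rw [hD₁, Function.update_self]
      omega
    obtain ⟨hfd, hfr⟩ := ih D₁ hsum
    have hDD : D = Function.update D₁ Q₀ (D₁ Q₀ + 1) := by
      funext Q
      by_cases hQQ : Q = Q₀
      · subst hQQ
        rw [Function.update_self, hD₁, Function.update_self]; omega
      · rw [Function.update_of_ne hQQ, hD₁, Function.update_of_ne hQQ]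
    have hstep := finrank_step S D₁ Q₀ hQ₀ (hdeg Q₀ hQ₀)
    rw [← hDD] at hstep
    have hUV : Isub S D ≤ Isub S D₁ := Isub_mono (fun Q hQ => by
      by_cases hQQ : Q = Q₀
      · subst hQQ; rw [hD₁, Function.update_self]; omega
      · rw [hD₁, Function.update_of_ne hQQ])
    have hVW : Isub S D₁ ≤ Isub S (fun _ => 0) := Isub_mono (fun Q _ => Nat.zero_le _)
    haveI : FiniteDimensional k (RelQ (Isub S D) (Isub S D₁)) :=
      Module.finite_of_finrank_pos (by rw [hstep]; exact Nat.one_pos)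
    haveI := hfd
    obtain ⟨h1, h2⟩ := relQ_chain hUV hVW
    exact ⟨h1, by rw [h2, hstep, hfr]; omega⟩

/-- `dim R/gR = ∑ ord_Q g` for a submodule `R` between a conductor `I(N)` and `I(0)` -/
theorem finrank_relQ_mul (S : Finset (Place k K)) (hdeg : ∀ Q ∈ S, Q.deg = 1)
    (R : Submodule k K) (N : ℕ) (hNR : Isub S (fun _ => N) ≤ R)
    (hRle : R ≤ Isub S (fun _ => 0))
    (g : K) (hg0 : g ≠ 0) (hgS : ∀ Q ∈ S, Q.1 g ≤ 1) (hgR : ∀ z ∈ R, g * z ∈ R) :
    FiniteDimensional k (RelQ (R.map (LinearMap.mulLeft k g)) R) ∧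
    (Module.finrank k (RelQ (R.map (LinearMap.mulLeft k g)) R) : ℤ) = ∑ Q ∈ S, Q.ord g := by
  classical
  set d : Place k K → ℕ := fun Q => (Q.ord g).toNat with hd
  have hdord : ∀ Q ∈ S, (d Q : ℤ) = Q.ord g := by
    intro Q hQ
    have h0 : 0 ≤ Q.ord g := (Q.v_le_one_iff hg0).1 (hgS Q hQ)
    exact Int.toNat_of_nonneg h0
  have hdQ : ∀ Q ∈ S, Q.1 g = exp (-(d Q : ℤ)) := by
    intro Q hQ
    rw [Q.v_eq_exp_neg_ord hg0, hdord Q hQ]
  set I0 := Isub S (fun _ => 0) with hI0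
  set IN := Isub S (fun _ => N) with hIN
  set W := Isub S (fun Q => N + d Q) with hW
  set gR := R.map (LinearMap.mulLeft k g) with hgRdef
  have hexp : ∀ Q : Place k K, exp (-((N + d Q : ℕ) : ℤ)) = exp (-(d Q : ℤ)) * exp (-(N : ℤ)) := by
    intro Q
    rw [← exp_add]; congr 1; push_cast; ring
  have hkey : ∀ z : K, g * z ∈ W ↔ z ∈ IN := by
    intro z
    constructor
    · intro h Q hQ
      have h1 := h Q hQ
      rw [map_mul, hdQ Q hQ, hexp, mul_le_mul_iff_right₀ (pos_iff_ne_zero.2 exp_ne_zero)] at h1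
      exact h1
    · intro h Q hQ
      have h1 := h Q hQ
      rw [map_mul, hdQ Q hQ, hexp]
      exact mul_le_mul' le_rfl h1
  have hWgR : W ≤ gR := by
    intro w hw
    have h1 : g * (w / g) = w := by field_simp
    have h2 : w / g ∈ IN := (hkey _).1 (by rw [h1]; exact hw)
    exact Submodule.mem_map.2 ⟨w / g, hNR h2, h1⟩
  have hgRR : gR ≤ R := by
    rintro _ ⟨z, hz, rfl⟩
    exact hgR z hz
  have hWIN : W ≤ IN := Isub_mono (fun Q _ => Nat.le_add_right _ _)
  have hINI0 : IN ≤ I0 := Isub_mono (fun Q _ => Nat.zero_le _)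
  obtain ⟨fdW, frW⟩ : FiniteDimensional k (RelQ W I0) ∧
      Module.finrank k (RelQ W I0) = ∑ Q ∈ S, (N + d Q) :=
    finrank_Isub S hdeg _ (fun Q => N + d Q) rfl
  obtain ⟨fdN, frN⟩ : FiniteDimensional k (RelQ IN I0) ∧
      Module.finrank k (RelQ IN I0) = ∑ Q ∈ S, N :=
    finrank_Isub S hdeg _ (fun _ => N) rfl
  haveI : FiniteDimensional k (RelQ W I0) := fdW
  haveI : FiniteDimensional k (RelQ IN I0) := fdN
  haveI fd1 : FiniteDimensional k (RelQ W IN) :=
    Module.Finite.of_injective (relQIncl (U := W) hINI0) (relQIncl_injective hINI0)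
  obtain ⟨-, c1⟩ := relQ_chain hWIN hINI0
  haveI fd2 : FiniteDimensional k (RelQ IN R) :=
    Module.Finite.of_injective (relQIncl (U := IN) hRle) (relQIncl_injective hRle)
  obtain ⟨fd3, c2⟩ := relQ_chain hWIN hNR
  let μ : ↥R →ₗ[k] ↥gR := (LinearMap.mulLeft k g).submoduleMap R
  let φ : ↥R →ₗ[k] RelQ W gR := (Submodule.mkQ _).comp μ
  have hφs : Function.Surjective φ :=
    (Submodule.mkQ_surjective _).comp ((LinearMap.mulLeft k g).submoduleMap_surjective R)
  have hφk : ∀ z : R, φ z = 0 ↔ (z : K) ∈ IN := by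
    intro z
    show Submodule.Quotient.mk (μ z) = 0 ↔ _
    rw [Submodule.Quotient.mk_eq_zero]
    show ((μ z : gR) : K) ∈ W ↔ _
    exact hkey z
  let e := relQEquivOfSurjective (U := IN) (W := R) φ hφs hφk
  haveI fd4 : FiniteDimensional k (RelQ W gR) := Module.Finite.equiv e
  have c3 : Module.finrank k (RelQ IN R) = Module.finrank k (RelQ W gR) := e.finrank_eq
  haveI := fd3
  haveI fd5 : FiniteDimensional k (RelQ gR R) :=
    Module.Finite.of_surjective (relQProj (U := W) (W := R) hWgR) (relQProj_surjective hWgR)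
  obtain ⟨-, c4⟩ := relQ_chain hWgR hgRR
  refine ⟨fd5, ?_⟩
  have hsum : ∑ Q ∈ S, (N + d Q) = ∑ Q ∈ S, N + ∑ Q ∈ S, d Q := Finset.sum_add_distrib
  have hfin : Module.finrank k (RelQ gR R) = ∑ Q ∈ S, d Q := by omega
  rw [hfin]; push_cast
  exact Finset.sum_congr rfl (fun Q hQ => hdord Q hQ)

end Groth.Agent.H4.IntMultB
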