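import Mathlib
import Groth.Prelude
import Groth.Agent.H4.IntMultA
import Groth.Agent.H4.IntMultB
import Groth.Agent.Lib.Helper5.FunFld.LinSeries

set_option autoImplicit false

namespace Groth.Agent.H4.IntMultC

open FunFld WithZero MvPolynomial Groth.Agent.H4.IntMultA Groth.Agent.H4.IntMultB

variable {k K : Type*} [Field k] [Field K] [Algebra k K]

section ev

variable (x y : K) (c : Fin 2 → k) (Q : Place k K)
  (hQ : ∀ i, Q.1 (![x, y] i - algebraMap k K (c i)) < 1)

include hQ in
theorem v_coord_le_one (i : Fin 2) : Q.1 (![x, y] i) ≤ 1 := by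
  have e : ![x, y] i = (![x, y] i - algebraMap k K (c i)) + algebraMap k K (c i) := by ring
  rw [e]
  exact (Q.1.map_add _ _).trans (max_le (hQ i).le (Q.v_algebraMap_le _))

include hQ in
theorem v_ev_sub_lt (p : MvPolynomial (Fin 2) k) :
    Q.1 (aeval ![x, y] p - algebraMap k K (aeval c p)) < 1 := by
  induction p using MvPolynomial.induction_on with
  | C a => simp
  | add p q hp hq =>
    have e : aeval ![x, y] (p + q) - algebraMap k K (aeval c (p + q)) =
        (aeval ![x, y] p - algebraMap k K (aeval c p)) +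
          (aeval ![x, y] q - algebraMap k K (aeval c q)) := by
      simp only [map_add]; ring
    rw [e]
    exact lt_of_le_of_lt (Q.1.map_add _ _) (max_lt hp hq)
  | mul_X p i hp =>
    have e : aeval ![x, y] (p * X i) - algebraMap k K (aeval c (p * X i)) =
        (aeval ![x, y] p - algebraMap k K (aeval c p)) * ![x, y] i +
          algebraMap k K (aeval c p) * (![x, y] i - algebraMap k K (c i)) := by
      simp only [map_mul, aeval_X]
      ring
    rw [e]
    refine lt_of_le_of_lt (Q.1.map_add _ _) (max_lt ?_ ?_)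
    · rw [map_mul]
      calc Q.1 (aeval ![x, y] p - algebraMap k K (aeval c p)) * Q.1 (![x, y] i)
          ≤ Q.1 (aeval ![x, y] p - algebraMap k K (aeval c p)) * 1 :=
            mul_le_mul' le_rfl (v_coord_le_one x y c Q hQ i)
        _ < 1 := by rw [mul_one]; exact hp
    · rw [map_mul]
      calc Q.1 (algebraMap k K (aeval c p)) * Q.1 (![x, y] i - algebraMap k K (c i))
          ≤ 1 * Q.1 (![x, y] i - algebraMap k K (c i)) :=
            mul_le_mul' (Q.v_algebraMap_le _) le_rfl
        _ < 1 := by rw [one_mul]; exact hQ i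

include hQ in
theorem v_ev_le_one (p : MvPolynomial (Fin 2) k) : Q.1 (aeval ![x, y] p) ≤ 1 := by
  have e : aeval ![x, y] p = (aeval ![x, y] p - algebraMap k K (aeval c p)) +
      algebraMap k K (aeval c p) := by ring
  rw [e]
  exact (Q.1.map_add _ _).trans (max_le (v_ev_sub_lt x y c Q hQ p).le (Q.v_algebraMap_le _))

include hQ in
theorem v_ev_lt_one_iff (p : MvPolynomial (Fin 2) k) :
    Q.1 (aeval ![x, y] p) < 1 ↔ aeval c p = 0 := by
  constructor
  · intro h
    by_contra hne
    have e : aeval ![x, y] p = algebraMap k K (aeval c p) +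
        (aeval ![x, y] p - algebraMap k K (aeval c p)) := by ring
    have h1 : Q.1 (algebraMap k K (aeval c p)) = 1 := Q.v_algebraMap hne
    have h2 := Q.1.map_add_eq_of_lt_left (x := algebraMap k K (aeval c p))
      (y := aeval ![x, y] p - algebraMap k K (aeval c p))
      (by rw [h1]; exact v_ev_sub_lt x y c Q hQ p)
    rw [← e, h1] at h2
    rw [h2] at h
    exact lt_irrefl _ h
  · intro h
    have := v_ev_sub_lt x y c Q hQ p
    rwa [h, map_zero, sub_zero] at this

end ev

theorem mem_M_iff (c : Fin 2 → k) (M : Ideal (MvPolynomial (Fin 2) k)) [hMm : M.IsMaximal]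
    (hM : M = Ideal.span {X 0 - C (c 0), X 1 - C (c 1)}) (p : MvPolynomial (Fin 2) k) :
    p ∈ M ↔ aeval c p = 0 := by
  have hle : M ≤ RingHom.ker (aeval c : MvPolynomial (Fin 2) k →ₐ[k] k) := by
    rw [hM, Ideal.span_le]
    rintro _ (rfl | rfl)
    · simp [RingHom.mem_ker]
    · simp [RingHom.mem_ker]
  have hne : RingHom.ker (aeval c : MvPolynomial (Fin 2) k →ₐ[k] k) ≠ ⊤ :=
    RingHom.ker_ne_top _
  have heq := hMm.eq_of_le hne hle
  rw [heq]
  exact RingHom.mem_ker

section same

theorem aux_res (v : Place k K) {a b : K} {c' ci : k} (hb : v.1 b = 1) (hc' : c' ≠ 0)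
    (h1 : v.1 (1 / b - algebraMap k K c') < 1) (h2 : v.1 (a / b - algebraMap k K ci) < 1) :
    v.1 (a - algebraMap k K (ci / c')) < 1 := by
  have hb0 : b ≠ 0 := by
    rintro rfl
    rw [map_zero] at hb
    exact zero_ne_one hb
  have hc'K : algebraMap k K c' ≠ 0 := (map_ne_zero _).2 hc'
  have e : a - algebraMap k K (ci / c') = (a / b - algebraMap k K ci) * b +
      algebraMap k K ci * (-(1 / b - algebraMap k K c') * b / algebraMap k K c') := by
    rw [map_div₀]; field_simp; ring
  rw [e]
  refine lt_of_le_of_lt (v.1.map_add _ _) (max_lt ?_ ?_)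
  · rw [map_mul, hb, mul_one]; exact h2
  · rw [map_mul, map_div₀, map_mul, Valuation.map_neg, hb, mul_one, v.v_algebraMap hc', _root_.div_one]
    calc v.1 (algebraMap k K ci) * v.1 (1 / b - algebraMap k K c')
        ≤ 1 * v.1 (1 / b - algebraMap k K c') := mul_le_mul' (v.v_algebraMap_le _) le_rfl
      _ < 1 := by rw [one_mul]; exact h1

theorem sameImage_iff_coords (x y : K) (c : Fin 2 → k) (P Q : Place k K)
    (hP : ∀ i, P.1 (![x, y] i - algebraMap k K (c i)) < 1) :
    SameImage ![(1 : K), x, y] P Q ↔ ∀ i, Q.1 (![x, y] i - algebraMap k K (c i)) < 1 := by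
  have hle : ∀ (v : Place k K), (∀ i, v.1 (![x, y] i - algebraMap k K (c i)) < 1) →
      ∀ i : Fin 3, v.1 (![(1 : K), x, y] i) ≤ 1 := by
    intro v hv i
    fin_cases i
    · simp
    · exact v_coord_le_one x y c v hv 0
    · exact v_coord_le_one x y c v hv 1
  constructor
  · rintro ⟨j, hj0, hjP, hjQ, hres⟩
    have hPj : P.1 (![(1 : K), x, y] j) = 1 := by
      refine le_antisymm (hle P hP j) ?_
      have := hjP 0
      simpa using this
    obtain ⟨c', hc'P, hc'Q⟩ := hres 0
    have e0 : ![(1 : K), x, y] 0 = 1 := rfl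
    rw [e0] at hc'P hc'Q
    have hc'0 : c' ≠ 0 := by
      rintro rfl
      rw [map_zero, sub_zero, map_div₀, map_one, hPj, _root_.div_one] at hc'P
      exact lt_irrefl _ hc'P
    have hQj : Q.1 (![(1 : K), x, y] j) = 1 := by
      have e : 1 / ![(1 : K), x, y] j = algebraMap k K c' +
          (1 / ![(1 : K), x, y] j - algebraMap k K c') := by ring
      have h1 : Q.1 (algebraMap k K c') = 1 := Q.v_algebraMap hc'0
      have h2 := Q.1.map_add_eq_of_lt_left (x := algebraMap k K c')
        (y := 1 / ![(1 : K), x, y] j - algebraMap k K c') (by rw [h1]; exact hc'Q)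
      rw [← e, h1, map_div₀, map_one] at h2
      have h3 : Q.1 (![(1 : K), x, y] j) ≠ 0 := Q.v_ne_zero hj0
      field_simp at h2
      exact h2.symm
    intro i
    obtain ⟨ci, hciP, hciQ⟩ := hres i.succ
    have ei : ![(1 : K), x, y] i.succ = ![x, y] i := rfl
    rw [ei] at hciP hciQ
    have hP' := aux_res P hPj hc'0 hc'P hciP
    have hQ' := aux_res Q hQj hc'0 hc'Q hciQ
    have hceq : c i = ci / c' := by
      by_contra hne
      have hne' : c i - ci / c' ≠ 0 := sub_ne_zero.2 hne
      have e : algebraMap k K (c i - ci / c') =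
          (![x, y] i - algebraMap k K (ci / c')) - (![x, y] i - algebraMap k K (c i)) := by
        rw [map_sub]; ring
      have h1 : P.1 (algebraMap k K (c i - ci / c')) < 1 := by
        rw [e]
        exact lt_of_le_of_lt (P.1.map_sub _ _) (max_lt hP' (hP i))
      rw [P.v_algebraMap hne'] at h1
      exact lt_irrefl _ h1
    rw [hceq]; exact hQ'
  · intro hQ
    refine ⟨0, by simp, fun i => ?_, fun i => ?_, fun i => ?_⟩
    · have := hle P hP i
      simpa using this
    · have := hle Q hQ i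
      simpa using this
    · fin_cases i
      · exact ⟨1, by simp, by simp⟩
      · refine ⟨c 0, ?_, ?_⟩
        · have := hP 0
          simpa using this
        · have := hQ 0
          simpa using this
      · refine ⟨c 1, ?_, ?_⟩
        · have := hP 1
          simpa using this
        · have := hQ 1
          simpa using this

end same

section main

variable [IsAlgClosed k] (hK : IsFunctionField k K)

omit [IsAlgClosed k] in
theorem inv_notMem_range' {z : K} (hz : z ∉ Set.range (algebraMap k K)) :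
    1 / z ∉ Set.range (algebraMap k K) := by
  rintro ⟨d, hd⟩
  apply hz
  refine ⟨d⁻¹, ?_⟩
  rw [map_inv₀, hd]; simp

omit [IsAlgClosed k] in
theorem div_notMem_range' {z w : K} (hz : z ∉ Set.range (algebraMap k K))
    (hw : w ∈ Set.range (algebraMap k K)) (hw0 : w ≠ 0) :
    z / w ∉ Set.range (algebraMap k K) := by
  rintro ⟨d, hd⟩
  obtain ⟨e, rfl⟩ := hw
  apply hz
  refine ⟨d * e, ?_⟩
  rw [map_mul, hd, div_mul_cancel₀ _ hw0]

include hK in
theorem main (x y : K)
    (hxy : IntermediateField.adjoin k ({x, y} : Set K) = ⊤) (f g : MvPolynomial (Fin 2) k)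
    (hf : Irreducible f) (hfxy : aeval ![x, y] f = 0)
    (hgxy : aeval ![x, y] g ≠ 0) (P : Place k K) (c : Fin 2 → k)
    (hc : ∀ i, P.1 (![x, y] i - algebraMap k K (c i)) < 1)
    (M : Ideal (MvPolynomial (Fin 2) k)) [hMm : M.IsMaximal]
    (hM : M = Ideal.span {X 0 - C (c 0), X 1 - C (c 1)}) :
    ∑ᶠ Q ∈ {Q : Place k K | SameImage ![(1 : K), x, y] P Q}, Q.ord (aeval ![x, y] g) =
      (Module.finrank k (Localization.AtPrime M ⧸
        Ideal.map (algebraMap (MvPolynomial (Fin 2) k) (Localization.AtPrime M))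
          (Ideal.span {f, g})) : ℤ) := by
  classical
  set T : Set (Place k K) := {Q | ∀ i, Q.1 (![x, y] i - algebraMap k K (c i)) < 1} with hT
  have hTeq : {Q : Place k K | SameImage ![(1 : K), x, y] P Q} = T := by
    ext Q; exact sameImage_iff_coords x y c P Q hc
  have hnb := not_both_const hK hxy
  have hTfin : T.Finite := by
    by_cases hx : x - algebraMap k K (c 0) = 0
    · have hy : y - algebraMap k K (c 1) ≠ 0 := by
        intro hy
        exact hnb ⟨⟨c 0, (sub_eq_zero.1 hx).symm⟩, ⟨c 1, (sub_eq_zero.1 hy).symm⟩⟩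
      exact (finite_zeros' hK hy).subset (fun Q hQ => hQ 1)
    · exact (finite_zeros' hK hx).subset (fun Q hQ => hQ 0)
  rw [hTeq, finsum_mem_eq_finite_toFinset_sum _ hTfin]
  set S := hTfin.toFinset with hS
  have hSmem : ∀ Q, Q ∈ S ↔ ∀ i, Q.1 (![x, y] i - algebraMap k K (c i)) < 1 :=
    fun Q => hTfin.mem_toFinset
  have hdeg : ∀ Q ∈ S, Q.deg = 1 := fun Q _ => Place.deg_eq_one_of_isAlgClosed hK Q
  -- the map ψ
  have hunit : ∀ s : M.primeCompl,
      IsUnit ((aeval ![x, y] : MvPolynomial (Fin 2) k →ₐ[k] K) (s : MvPolynomial (Fin 2) k)) := by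
    intro s
    rw [isUnit_iff_ne_zero]
    intro h0
    have hs : (s : MvPolynomial (Fin 2) k) ∉ M := s.2
    apply hs
    rw [mem_M_iff c M hM, ← v_ev_lt_one_iff x y c P hc, h0, map_zero]
    exact zero_lt_one
  let ψ : Localization.AtPrime M →ₐ[k] K := IsLocalization.liftAlgHom hunit
  have hψmk : ∀ (a : MvPolynomial (Fin 2) k) (s : M.primeCompl) (v : K),
      ψ (IsLocalization.mk' (Localization.AtPrime M) a s) = v ↔
        aeval ![x, y] a = aeval ![x, y] (s : MvPolynomial (Fin 2) k) * v := by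
    intro a s v
    exact IsLocalization.lift_mk'_spec hunit a v s
  have hψalg : ∀ a : MvPolynomial (Fin 2) k,
      ψ (algebraMap (MvPolynomial (Fin 2) k) (Localization.AtPrime M) a) = aeval ![x, y] a := by
    intro a
    exact IsLocalization.lift_eq hunit a
  set R : Submodule k K := LinearMap.range ψ.toLinearMap with hR
  have hRmem : ∀ (p s : MvPolynomial (Fin 2) k), s ∉ M → ∀ z : K,
      z * aeval ![x, y] s = aeval ![x, y] p → z ∈ R := by
    intro p s hs z hz
    refine ⟨IsLocalization.mk' (Localization.AtPrime M) p (⟨s, hs⟩ : M.primeCompl), ?_⟩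
    show ψ _ = z
    rw [hψmk]
    rw [← hz]; exact mul_comm _ _
  have hunitQ : ∀ Q ∈ S, ∀ s : M.primeCompl,
      Q.1 (aeval ![x, y] (s : MvPolynomial (Fin 2) k)) = 1 := by
    intro Q hQ s
    have hQ' := (hSmem Q).1 hQ
    refine le_antisymm (v_ev_le_one x y c Q hQ' _) ?_
    by_contra hlt
    rw [not_le, v_ev_lt_one_iff x y c Q hQ', ← mem_M_iff c M hM] at hlt
    exact s.2 hlt
  have hRle : R ≤ Isub S (fun _ => 0) := by
    rintro _ ⟨w, rfl⟩ Q hQ
    obtain ⟨a, s, rfl⟩ := IsLocalization.exists_mk'_eq M.primeCompl w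
    have h1 := (hψmk a s _).1 rfl
    have h2 : Q.1 (aeval ![x, y] a) ≤ 1 := v_ev_le_one x y c Q ((hSmem Q).1 hQ) a
    rw [h1, map_mul, hunitQ Q hQ s, one_mul] at h2
    show Q.1 (ψ _) ≤ exp (-((0 : ℕ) : ℤ))
    rw [Nat.cast_zero, neg_zero, exp_zero]
    exact h2
  have hgR : ∀ z ∈ R, aeval ![x, y] g * z ∈ R := by
    rintro _ ⟨w, rfl⟩
    refine ⟨algebraMap (MvPolynomial (Fin 2) k) (Localization.AtPrime M) g * w, ?_⟩
    show ψ _ = aeval ![x, y] g * ψ w
    rw [map_mul, hψalg]
  have hgS : ∀ Q ∈ S, Q.1 (aeval ![x, y] g) ≤ 1 :=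
    fun Q hQ => v_ev_le_one x y c Q ((hSmem Q).1 hQ) g
  -- conductor
  obtain ⟨a0, ha0⟩ : ∃ a : k, x - algebraMap k K a ≠ 0 := by
    by_cases hx : x = 0
    · exact ⟨1, by rw [hx, zero_sub, map_one]; exact neg_ne_zero.2 one_ne_zero⟩
    · exact ⟨0, by rwa [map_zero, sub_zero]⟩
  obtain ⟨a1, ha1⟩ : ∃ a : k, y - algebraMap k K a ≠ 0 := by
    by_cases hy : y = 0
    · exact ⟨1, by rw [hy, zero_sub, map_one]; exact neg_ne_zero.2 one_ne_zero⟩
    · exact ⟨0, by rwa [map_zero, sub_zero]⟩
  set x' := x - algebraMap k K a0 with hx'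
  set y' := y - algebraMap k K a1 with hy'
  set φ' : Fin 3 → K := ![1, x', y'] with hφ'
  have e0 : φ' 0 = 1 := rfl
  have e1 : φ' 1 = x' := rfl
  have e2 : φ' 2 = y' := rfl
  have hφ'0 : ∀ i, φ' i ≠ 0 := by
    intro i
    fin_cases i
    · exact one_ne_zero
    · exact ha0
    · exact ha1
  have hnb' : ¬ (x' ∈ Set.range (algebraMap k K) ∧ y' ∈ Set.range (algebraMap k K)) := by
    rintro ⟨⟨d0, hd0⟩, ⟨d1, hd1⟩⟩
    refine hnb ⟨⟨d0 + a0, ?_⟩, ⟨d1 + a1, ?_⟩⟩
    · rw [map_add, hd0, hx']; ring
    · rw [map_add, hd1, hy']; ring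
  have hnc : ∀ j, ∃ i, φ' i / φ' j ∉ Set.range (algebraMap k K) := by
    intro j
    by_cases hxr : x' ∈ Set.range (algebraMap k K)
    · have hyr : y' ∉ Set.range (algebraMap k K) := fun h => hnb' ⟨hxr, h⟩
      fin_cases j
      · exact ⟨2, show y' / 1 ∉ _ by rw [_root_.div_one]; exact hyr⟩
      · exact ⟨2, show y' / x' ∉ _ from div_notMem_range' hyr hxr ha0⟩
      · exact ⟨0, show 1 / y' ∉ _ from inv_notMem_range' hyr⟩
    · fin_cases j
      · exact ⟨1, show x' / 1 ∉ _ by rw [_root_.div_one]; exact hxr⟩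
      · exact ⟨0, show 1 / x' ∉ _ from inv_notMem_range' hxr⟩
      · by_cases hyr : y' ∈ Set.range (algebraMap k K)
        · exact ⟨1, show x' / y' ∉ _ from div_notMem_range' hxr hyr ha1⟩
        · exact ⟨0, show 1 / y' ∉ _ from inv_notMem_range' hyr⟩
  have hbir : IntermediateField.adjoin k (Set.range fun i => φ' i / φ' 0) = ⊤ := by
    rw [eq_top_iff, ← hxy, IntermediateField.adjoin_le_iff]
    rintro z (rfl | rfl)
    · have h1 : φ' 1 / φ' 0 ∈ IntermediateField.adjoin k (Set.range fun i => φ' i / φ' 0) :=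
        IntermediateField.subset_adjoin k _ ⟨1, rfl⟩
      have e : z = φ' 1 / φ' 0 + algebraMap k K a0 := by
        rw [e0, e1, _root_.div_one, hx']; ring
      rw [e]
      exact add_mem h1 (IntermediateField.algebraMap_mem _ _)
    · have h1 : φ' 2 / φ' 0 ∈ IntermediateField.adjoin k (Set.range fun i => φ' i / φ' 0) :=
        IntermediateField.subset_adjoin k _ ⟨2, rfl⟩
      have e : z = φ' 2 / φ' 0 + algebraMap k K a1 := by
        rw [e0, e2, _root_.div_one, hy']; ring
      rw [e]
      exact add_mem h1 (IntermediateField.algebraMap_mem _ _)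
  have hPx : P.1 x ≤ 1 := v_coord_le_one x y c P hc 0
  have hPy : P.1 y ≤ 1 := v_coord_le_one x y c P hc 1
  have hleast : IsLeast φ' P 0 := by
    refine ⟨hφ'0 0, fun i => ?_⟩
    rw [e0, map_one]
    fin_cases i
    · show P.1 (1 : K) ≤ 1
      rw [map_one]
    · show P.1 (x - algebraMap k K a0) ≤ 1
      exact (P.1.map_sub _ _).trans (max_le hPx (P.v_algebraMap_le _))
    · show P.1 (y - algebraMap k K a1) ≤ 1
      exact (P.1.map_sub _ _).trans (max_le hPy (P.v_algebraMap_le _))
  have haff : affRing k φ' 0 ≤ (aeval ![x, y] : MvPolynomial (Fin 2) k →ₐ[k] K).range := by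
    show Algebra.adjoin k _ ≤ _
    refine Algebra.adjoin_le ?_
    rintro _ ⟨i, rfl⟩
    fin_cases i
    · exact ⟨1, by simp [e0]⟩
    · refine ⟨X 0 - C a0, ?_⟩
      show _ = φ' 1 / φ' 0
      rw [e0, e1, _root_.div_one, hx']
      simp
    · refine ⟨X 1 - C a1, ?_⟩
      show _ = φ' 2 / φ' 0
      rw [e0, e2, _root_.div_one, hy']
      simp
  obtain ⟨N, hN⟩ := Groth.Agent.H4.IntMultA.cond_main hK φ' hφ'0 hnc hbir P
  have hNR : Isub S (fun _ => N) ≤ R := by
    intro z hz
    have h1 : ∀ Q : Place k K, SameImage φ' P Q → Q.1 z ≤ exp (-(N : ℤ)) := by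
      intro Q hQ
      refine hz Q ((hSmem Q).2 ?_)
      have hsi := (sameImage_iff hK φ' hφ'0 P Q).1 hQ
      intro i
      have hmem : ![x, y] i - algebraMap k K (c i) ∈ affRing k φ' 0 := by
        fin_cases i
        · have e : ![x, y] 0 - algebraMap k K (c 0) =
              φ' 1 / φ' 0 + algebraMap k K (a0 - c 0) := by
            rw [e0, e1, _root_.div_one, hx', map_sub]
            show x - _ = _
            ring
          show ![x, y] 0 - algebraMap k K (c 0) ∈ affRing k φ' 0
          rw [e]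
          exact add_mem (ratio_mem_affRing φ' 0 1) (Subalgebra.algebraMap_mem _ _)
        · have e : ![x, y] 1 - algebraMap k K (c 1) =
              φ' 2 / φ' 0 + algebraMap k K (a1 - c 1) := by
            rw [e0, e2, _root_.div_one, hy', map_sub]
            show y - _ = _
            ring
          show ![x, y] 1 - algebraMap k K (c 1) ∈ affRing k φ' 0
          rw [e]
          exact add_mem (ratio_mem_affRing φ' 0 2) (Subalgebra.algebraMap_mem _ _)
      have hin := inLocRing_of_mem_affRing hleast hmem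
      exact ((hsi _ hin).2).2 (hc i)
    have h2 := hN z h1
    obtain ⟨u, hu, w, hw, hw1, hzw⟩ := h2.exists_of_isLeast hleast
    obtain ⟨p, rfl⟩ := haff hu
    obtain ⟨s, rfl⟩ := haff hw
    have hs : s ∉ M := by
      rw [mem_M_iff c M hM, ← v_ev_lt_one_iff x y c P hc]
      intro hlt
      change P.1 (aeval ![x, y] s) = 1 at hw1
      rw [hw1] at hlt
      exact lt_irrefl _ hlt
    exact hRmem p s hs z hzw
  obtain ⟨fd, hfr⟩ := Groth.Agent.H4.IntMultB.finrank_relQ_mul S hdeg R N hNR hRle
    (aeval ![x, y] g) hgxy hgS hgR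
  rw [← hfr]
  congr 1
  symm
  -- the linear equivalence
  set gR := R.map (LinearMap.mulLeft k (aeval ![x, y] g)) with hgRdef
  set I := Ideal.map (algebraMap (MvPolynomial (Fin 2) k) (Localization.AtPrime M))
    (Ideal.span {f, g}) with hIdef
  let ψR : Localization.AtPrime M →ₗ[k] ↥R := ψ.toLinearMap.rangeRestrict
  let Ψ : Localization.AtPrime M →ₗ[k] RelQ gR R := (Submodule.mkQ _).comp ψR
  have hΨs : Function.Surjective Ψ :=
    (Submodule.mkQ_surjective _).comp (LinearMap.surjective_rangeRestrict _)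
  have hI : I = Ideal.span {algebraMap (MvPolynomial (Fin 2) k) (Localization.AtPrime M) f,
      algebraMap (MvPolynomial (Fin 2) k) (Localization.AtPrime M) g} := by
    rw [hIdef, Ideal.map_span, Set.image_pair]
  have hker : I.restrictScalars k = LinearMap.ker Ψ := by
    ext z
    rw [Submodule.restrictScalars_mem, LinearMap.mem_ker]
    show z ∈ I ↔ Submodule.Quotient.mk (ψR z) = 0
    rw [Submodule.Quotient.mk_eq_zero]
    show z ∈ I ↔ ψ z ∈ gR
    constructor
    · intro hz
      rw [hI, Ideal.mem_span_pair] at hz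
      obtain ⟨a, b, rfl⟩ := hz
      refine Submodule.mem_map.2 ⟨ψ b, ⟨b, rfl⟩, ?_⟩
      show aeval ![x, y] g * ψ b = ψ _
      rw [map_add, map_mul, map_mul, hψalg, hψalg, hfxy, mul_zero, zero_add, mul_comm]
    · rintro ⟨r, ⟨z', rfl⟩, hr⟩
      have hr' : aeval ![x, y] g * ψ z' = ψ z := hr
      have h0 : ψ (z - algebraMap (MvPolynomial (Fin 2) k) (Localization.AtPrime M) g * z') = 0 := by
        rw [map_sub, map_mul, hψalg, hr', sub_self]
      obtain ⟨a, s, has⟩ := IsLocalization.exists_mk'_eq M.primeCompl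
        (z - algebraMap (MvPolynomial (Fin 2) k) (Localization.AtPrime M) g * z')
      rw [← has] at h0
      have h1 := (hψmk a s 0).1 h0
      rw [mul_zero] at h1
      have h2 : a ∈ Ideal.span {f} := by
        rw [← Groth.Agent.H4.IntMultA.ker_aeval_eq_span hK x y hxy f hf hfxy]
        exact h1
      obtain ⟨h, hh⟩ := Ideal.mem_span_singleton'.1 h2
      rw [← hh] at has
      have h3 : IsLocalization.mk' (Localization.AtPrime M) (h * f) s =
          algebraMap (MvPolynomial (Fin 2) k) (Localization.AtPrime M) f *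
            IsLocalization.mk' (Localization.AtPrime M) h s := by
        rw [mul_comm h f, IsLocalization.mul_mk'_eq_mk'_of_mul]
      rw [hI, Ideal.mem_span_pair]
      refine ⟨IsLocalization.mk' (Localization.AtPrime M) h s, z', ?_⟩
      rw [h3] at has
      linear_combination has
  let E1 := Ψ.quotKerEquivOfSurjective hΨs
  let E2 := Submodule.quotEquivOfEq _ _ hker
  let E3 := Submodule.Quotient.restrictScalarsEquiv k I
  exact (E3.symm.trans (E2.trans E1)).finrank_eq

end main

end Groth.Agent.H4.IntMultC
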