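import Mathlib

set_option autoImplicit false

namespace Groth.Agent.H4.SubFG

open IntermediateField

section
variable {F L : Type*} [Field F] [Field L] [Algebra F L]

/-- An `F`-linearly independent family in an algebraic extension `E/F` inside `L` stays linearly
independent over `F[t]` for `t` algebraically independent over `F`. -/
theorem linearIndependent_adjoin_of_algebraic
    {E : Type*} [Field E] [Algebra F E] [Algebra E L] [IsScalarTower F E L] [Algebra.IsAlgebraic F E]
    {ι : Type*} (e : ι → E) (he : LinearIndependent F e)
    {κ : Type*} (t : κ → L) (ht : AlgebraicIndependent F t) :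
    LinearIndependent (Algebra.adjoin F (Set.range t)) (fun i => algebraMap E L (e i)) := by
  have htE : AlgebraicIndependent E t := ht.extendScalars E
  rw [linearIndependent_iff']
  intro s g hg i hi
  have hrange0 : ∀ y ∈ Algebra.adjoin F (Set.range t),
      ∃ p : MvPolynomial κ F, MvPolynomial.aeval t p = y := by
    intro y hy
    rw [Algebra.adjoin_range_eq_range_aeval] at hy
    exact hy
  have hrange : ∀ j, ∃ p : MvPolynomial κ F, MvPolynomial.aeval t p = (g j : L) :=
    fun j => hrange0 _ (g j).2
  choose p hp using hrange
  set P : MvPolynomial κ E :=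
    ∑ j ∈ s, MvPolynomial.C (e j) * MvPolynomial.map (algebraMap F E) (p j) with hP
  have hPeval : MvPolynomial.aeval t P = 0 := by
    rw [hP, map_sum, ← hg]
    refine Finset.sum_congr rfl fun j _ => ?_
    rw [map_mul, MvPolynomial.aeval_C, MvPolynomial.aeval_map_algebraMap, hp j,
      Subalgebra.smul_def, smul_eq_mul, mul_comm]
  have hP0 : P = 0 :=
    (algebraicIndependent_iff_injective_aeval.1 htE) (by rw [hPeval, map_zero])
  have hcoef : ∀ m, ∑ j ∈ s, (MvPolynomial.coeff m (p j)) • e j = 0 := by
    intro m
    have h1 := congrArg (MvPolynomial.coeff m) hP0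
    rw [hP, MvPolynomial.coeff_sum, MvPolynomial.coeff_zero] at h1
    rw [← h1]
    refine Finset.sum_congr rfl fun j _ => ?_
    rw [MvPolynomial.coeff_C_mul, MvPolynomial.coeff_map, Algebra.smul_def, mul_comm]
  have hpi : p i = 0 := by
    ext m
    rw [MvPolynomial.coeff_zero]
    exact linearIndependent_iff'.1 he s (fun j => MvPolynomial.coeff m (p j)) (hcoef m) i hi
  apply Subtype.ext
  rw [← hp i, hpi, map_zero]
  rfl

open scoped IntermediateField.algebraAdjoinAdjoin in
/-- An algebraic subextension of an essentially finite type field extension is finite. -/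
theorem finite_of_isAlgebraic_of_essFiniteType
    (E : Type*) [Field E] [Algebra F E] [Algebra E L] [IsScalarTower F E L]
    [Algebra.IsAlgebraic F E] [Algebra.EssFiniteType F L] : Module.Finite F E := by
  obtain ⟨t, ht⟩ := exists_finset_isTranscendenceBasis F L
  haveI halg : Algebra.IsAlgebraic (adjoin F (Set.range ((↑) : t → L))) L := ht.isAlgebraic_field
  haveI : Algebra.EssFiniteType (adjoin F (Set.range ((↑) : t → L))) L := .of_comp F _ _
  haveI : Module.Finite (adjoin F (Set.range ((↑) : t → L))) L :=
    Algebra.finite_of_essFiniteType_of_isAlgebraic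
  let b := Module.Free.chooseBasis F E
  have h1 := linearIndependent_adjoin_of_algebraic (L := L) b b.linearIndependent
    ((↑) : t → L) ht.1
  rw [LinearIndependent.iff_fractionRing (Algebra.adjoin F (Set.range ((↑) : t → L)))
    (adjoin F (Set.range ((↑) : t → L)))] at h1
  haveI : Finite (Module.Free.ChooseBasisIndex F E) := h1.finite
  exact Module.Finite.of_basis b

end

/-- A subextension of a finitely generated field extension is finitely generated. -/
theorem fg_of_essFiniteType {F L : Type*} [Field F] [Field L] [Algebra F L]
    [Algebra.EssFiniteType F L] (E : IntermediateField F L) : E.FG := by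
  rw [← essFiniteType_iff]
  haveI : FinTrdeg F E := FinTrdeg.of_trdeg
    ((trdeg_le_of_injective E.val E.val.injective).trans_lt (trdeg_lt_aleph0 F L))
  obtain ⟨s, hs⟩ := exists_finset_isTranscendenceBasis F E
  haveI h1 : Algebra.EssFiniteType F (adjoin F (Set.range ((↑) : s → E))) := by
    rw [essFiniteType_iff]
    exact ⟨s, by rw [Subtype.range_coe]⟩
  haveI halg : Algebra.IsAlgebraic (adjoin F (Set.range ((↑) : s → E))) E := hs.isAlgebraic_field
  haveI : Algebra.EssFiniteType (adjoin F (Set.range ((↑) : s → E))) L := .of_comp F _ _
  haveI : Module.Finite (adjoin F (Set.range ((↑) : s → E))) E :=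
    finite_of_isAlgebraic_of_essFiniteType (F := adjoin F (Set.range ((↑) : s → E))) (L := L) E
  exact .comp F (adjoin F (Set.range ((↑) : s → E))) E

end Groth.Agent.H4.SubFG
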