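import Mathlib
import Groth.Prelude
import Groth.Agent.Lib.Helper9.CocommDiag.Semisimple
import Groth.Agent.H4.SubFG

set_option autoImplicit false
universe u
open TensorProduct WithConv

namespace Groth.Agent.H4.InvFrac

section act
variable {k : Type u} [Field k] {A : Type u} [CommRing A] [HopfAlgebra k A]
  {B : Type u} [CommRing B] [Algebra k B] [HopfRep.Comod k A B] [GLin.IsCoactAlg k A B]

/-- evaluation `B ⊗ A → B` at a point -/
noncomputable def evalPt (φ : A →ₐ[k] k) : B ⊗[k] A →ₐ[k] B :=
  Algebra.TensorProduct.lift (AlgHom.id k B) ((Algebra.ofId k B).comp φ) (fun _ _ => Commute.all _ _)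

/-- the action of a point as an algebra endomorphism -/
noncomputable def actAlg (φ : A →ₐ[k] k) : B →ₐ[k] B :=
  (evalPt φ).comp (GLin.coactAlgHom k A B)

lemma actAlg_apply (φ : A →ₐ[k] k) (x : B) : actAlg φ x = HopfRep.Comod.act k A B φ x := by
  show evalPt φ (HopfRep.Comod.coact (k := k) (A := A) x) =
    (TensorProduct.rid k B) (LinearMap.lTensor B φ.toLinearMap
      (HopfRep.Comod.coact (k := k) (A := A) x))
  generalize HopfRep.Comod.coact (k := k) (A := A) x = t
  induction t using TensorProduct.induction_on with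
  | zero => simp
  | tmul b a =>
    rw [evalPt, Algebra.TensorProduct.lift_tmul, LinearMap.lTensor_tmul, TensorProduct.rid_tmul]
    simp [Algebra.smul_def, mul_comm]
  | add t1 t2 h1 h2 => rw [map_add, map_add, map_add, h1, h2]

/-- the points act multiplicatively. -/
noncomputable def PhiB : WithConv (A →ₐ[k] k) →* Module.End k B where
  toFun g := Groth.Agent.H9.CocommDiag.Tact k A B (toConv g.ofConv.toLinearMap)
  map_one' := by
    rw [AlgHom.toLinearMap_convOne, map_one]
  map_mul' g h := by
    rw [AlgHom.toLinearMap_convMul, map_mul]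

lemma PhiB_apply (g : WithConv (A →ₐ[k] k)) :
    PhiB (B := B) g = HopfRep.Comod.act k A B g.ofConv := rfl

lemma exists_inv (φ : A →ₐ[k] k) : ∃ φ' : A →ₐ[k] k,
    (∀ x : B, actAlg φ' (actAlg φ x) = x) ∧ (∀ x : B, actAlg φ (actAlg φ' x) = x) := by
  refine ⟨((toConv φ)⁻¹).ofConv, fun x => ?_, fun x => ?_⟩
  · have h : PhiB (B := B) ((toConv φ)⁻¹ * toConv φ) = PhiB ((toConv φ)⁻¹) * PhiB (toConv φ) :=
      map_mul _ _ _
    rw [inv_mul_cancel, map_one] at h
    have h2 := congrArg (fun f : Module.End k B => f x) h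
    simp only [Module.End.one_apply, Module.End.mul_apply, PhiB_apply, ofConv_toConv] at h2
    rw [actAlg_apply, actAlg_apply]
    exact h2.symm
  · have h : PhiB (B := B) (toConv φ * (toConv φ)⁻¹) = PhiB (toConv φ) * PhiB ((toConv φ)⁻¹) :=
      map_mul _ _ _
    rw [mul_inv_cancel, map_one] at h
    have h2 := congrArg (fun f : Module.End k B => f x) h
    simp only [Module.End.one_apply, Module.End.mul_apply, PhiB_apply, ofConv_toConv] at h2
    rw [actAlg_apply, actAlg_apply]
    exact h2.symm

lemma actAlg_injective (φ : A →ₐ[k] k) : Function.Injective (actAlg (B := B) φ) := by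
  obtain ⟨φ', h1, _⟩ := exists_inv (B := B) φ
  intro x y hxy
  rw [← h1 x, ← h1 y, hxy]

variable (k A) in
/-- semi-invariant elements -/
def SemiInv (x : B) : Prop :=
  ∀ φ : A →ₐ[k] k, ∃ c : k, c ≠ 0 ∧ actAlg φ x = algebraMap k B c * x

lemma semiInv_one : SemiInv k A (1 : B) := fun φ => ⟨1, one_ne_zero, by simp⟩

lemma SemiInv.mul {x y : B} (hx : SemiInv k A x) (hy : SemiInv k A y) : SemiInv k A (x * y) := by
  intro φ
  obtain ⟨c, hc, h1⟩ := hx φ
  obtain ⟨d, hd, h2⟩ := hy φ
  refine ⟨c * d, mul_ne_zero hc hd, ?_⟩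
  rw [map_mul, h1, h2, map_mul]
  ring

lemma semiInv_prod {ι : Type*} (S : Finset ι) (f : ι → B) (hf : ∀ i ∈ S, SemiInv k A (f i)) :
    SemiInv k A (∏ i ∈ S, f i) := by
  classical
  induction S using Finset.induction_on with
  | empty => simpa using semiInv_one (k := k) (A := A) (B := B)
  | insert i S hi ih =>
    rw [Finset.prod_insert hi]
    exact (hf i (Finset.mem_insert_self i S)).mul
      (ih fun j hj => hf j (Finset.mem_insert_of_mem hj))

variable [IsDomain B] [UniqueFactorizationMonoid B]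

lemma semiInv_of_isRelPrime (hunits : ∀ u : Bˣ, ∃ c : k, algebraMap k B c = u)
    {a b : B} (hb : b ≠ 0) (hab : IsRelPrime a b)
    (hinv : ∀ φ : A →ₐ[k] k, actAlg φ a * b = a * actAlg φ b) :
    ∀ φ : A →ₐ[k] k, ∃ c : k, c ≠ 0 ∧ actAlg φ b = algebraMap k B c * b ∧
      actAlg φ a = algebraMap k B c * a := by
  have hdvd : ∀ φ : A →ₐ[k] k, b ∣ actAlg φ b := by
    intro φ
    have h1 : b ∣ a * actAlg φ b := ⟨actAlg φ a, by rw [← hinv φ]; ring⟩
    exact hab.symm.dvd_of_dvd_mul_left h1
  intro φ
  obtain ⟨φ', h1, h2⟩ := exists_inv (B := B) φ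
  have hd1 := hdvd φ
  have hd2 : actAlg φ b ∣ b := by
    have h3 := map_dvd (actAlg φ) (hdvd φ')
    rwa [h2] at h3
  obtain ⟨u, hu⟩ := associated_of_dvd_dvd hd1 hd2
  obtain ⟨c, hc⟩ := hunits u
  have hc0 : c ≠ 0 := by
    rintro rfl
    rw [map_zero] at hc
    exact u.ne_zero hc.symm
  have hb' : actAlg φ b = algebraMap k B c * b := by
    rw [← hu, hc]
    ring
  refine ⟨c, hc0, hb', ?_⟩
  have h4 := hinv φ
  rw [hb'] at h4
  apply mul_right_cancel₀ hb
  rw [h4]
  ring

end act

section field
variable (k : Type u) [Field k] (A : Type u) [CommRing A] [HopfAlgebra k A]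
  (B : Type u) [CommRing B] [Algebra k B] [HopfRep.Comod k A B] [GLin.IsCoactAlg k A B]
  [IsDomain B]

/-- extension of the action to the fraction field -/
noncomputable def tau (φ : A →ₐ[k] k) : FractionRing B →ₐ[k] FractionRing B :=
  IsFractionRing.liftAlgHom
    (g := (IsScalarTower.toAlgHom k B (FractionRing B)).comp (actAlg φ))
    (by
      intro x y hxy
      have h3 : algebraMap B (FractionRing B) (actAlg φ x) =
          algebraMap B (FractionRing B) (actAlg φ y) := hxy
      exact actAlg_injective φ (IsFractionRing.injective B (FractionRing B) h3))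

lemma tau_algebraMap (φ : A →ₐ[k] k) (x : B) :
    tau k A B φ (algebraMap B (FractionRing B) x) = algebraMap B (FractionRing B) (actAlg φ x) := by
  unfold tau
  rw [IsFractionRing.liftAlgHom_apply, IsFractionRing.lift_algebraMap]
  rfl

/-- the field of invariant rational functions -/
noncomputable def invField : IntermediateField k (FractionRing B) where
  carrier := {x | ∀ φ : A →ₐ[k] k, tau k A B φ x = x}
  mul_mem' := fun {x y} hx hy φ => by rw [map_mul, hx φ, hy φ]
  one_mem' := fun φ => map_one _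
  add_mem' := fun {x y} hx hy φ => by rw [map_add, hx φ, hy φ]
  zero_mem' := fun φ => map_zero _
  algebraMap_mem' := fun c φ => (tau k A B φ).commutes c
  inv_mem' := fun x hx φ => by rw [map_inv₀, hx φ]

lemma algebraMap_ne_zero' {b : B} (hb : b ≠ 0) : algebraMap B (FractionRing B) b ≠ 0 :=
  (map_ne_zero_iff _ (IsFractionRing.injective B (FractionRing B))).2 hb

lemma mem_invField_div {a b : B} (hb : b ≠ 0) :
    algebraMap B (FractionRing B) a / algebraMap B (FractionRing B) b ∈ invField k A B ↔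
      ∀ φ : A →ₐ[k] k, actAlg φ a * b = a * actAlg φ b := by
  have hb' := algebraMap_ne_zero' B hb
  have hσb : ∀ φ : A →ₐ[k] k, algebraMap B (FractionRing B) (actAlg φ b) ≠ 0 := fun φ =>
    algebraMap_ne_zero' B ((map_ne_zero_iff _ (actAlg_injective φ)).2 hb)
  constructor
  · intro h φ
    have h1 : tau k A B φ _ = _ := h φ
    rw [map_div₀, tau_algebraMap, tau_algebraMap, div_eq_div_iff (hσb φ) hb'] at h1
    apply IsFractionRing.injective B (FractionRing B)
    rw [map_mul, map_mul]
    exact h1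
  · intro h φ
    show tau k A B φ _ = _
    rw [map_div₀, tau_algebraMap, tau_algebraMap, div_eq_div_iff (hσb φ) hb', ← map_mul,
      ← map_mul, h φ]

variable [UniqueFactorizationMonoid B]

lemma exists_coprime_repr (x : FractionRing B) : ∃ a b : B, b ≠ 0 ∧ IsRelPrime a b ∧
    x = algebraMap B (FractionRing B) a / algebraMap B (FractionRing B) b := by
  obtain ⟨a, b, hb, rfl⟩ := IsFractionRing.div_surjective (A := B) x
  have hb0 : b ≠ 0 := nonZeroDivisors.ne_zero hb
  obtain ⟨a', b', c', hrel, ha, hb'⟩ := UniqueFactorizationMonoid.exists_reduced_factors' a b hb0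
  have hc0 : c' ≠ 0 := by
    rintro rfl
    rw [zero_mul] at hb'
    exact hb0 hb'.symm
  have hb'0 : b' ≠ 0 := by
    rintro rfl
    rw [mul_zero] at hb'
    exact hb0 hb'.symm
  refine ⟨a', b', hb'0, hrel, ?_⟩
  rw [← ha, ← hb', map_mul, map_mul, mul_div_mul_left _ _ (algebraMap_ne_zero' B hc0)]

end field

section main
variable {k : Type u} [Field k] {A : Type u} [CommRing A] [HopfAlgebra k A]
  {B : Type u} [CommRing B] [Algebra k B] [HopfRep.Comod k A B] [GLin.IsCoactAlg k A B]
  [IsDomain B] [UniqueFactorizationMonoid B] [Algebra.FiniteType k B]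

theorem main (hunits : ∀ u : Bˣ, ∃ c : k, algebraMap k B c = u) :
    ∃ h : B, h ≠ 0 ∧ SemiInv k A h ∧
      ∀ a b : B, b ≠ 0 → (∀ φ : A →ₐ[k] k, actAlg φ a * b = a * actAlg φ b) →
        ∃ (c d : B) (r t : ℕ), d ≠ 0 ∧
          (∀ φ : A →ₐ[k] k, actAlg φ c * h ^ r = c * (actAlg φ h) ^ r) ∧
          (∀ φ : A →ₐ[k] k, actAlg φ d * h ^ t = d * (actAlg φ h) ^ t) ∧
          a * d * h ^ r = b * c * h ^ t := by
  classical
  haveI : Algebra.EssFiniteType B (FractionRing B) := .of_isLocalization _ (nonZeroDivisors B)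
  haveI : Algebra.EssFiniteType k (FractionRing B) := .comp k B _
  obtain ⟨S, hS⟩ := Groth.Agent.H4.SubFG.fg_of_essFiniteType (invField k A B)
  choose num den hden hrel hrepr using exists_coprime_repr B
  have hrepr' : ∀ x : FractionRing B,
      x * algebraMap B (FractionRing B) (den x) = algebraMap B (FractionRing B) (num x) := by
    intro x
    have h1 := hrepr x
    rw [eq_div_iff (algebraMap_ne_zero' B (hden x))] at h1
    exact h1
  have hSinv : ∀ s ∈ S, ∀ φ : A →ₐ[k] k,
      actAlg φ (num s) * den s = num s * actAlg φ (den s) := by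
    intro s hs
    rw [← mem_invField_div k A B (hden s), ← hrepr s, ← hS]
    exact IntermediateField.subset_adjoin _ _ hs
  have hsemi : ∀ s ∈ S, ∀ φ : A →ₐ[k] k, ∃ c : k, c ≠ 0 ∧
      actAlg φ (den s) = algebraMap k B c * den s ∧ actAlg φ (num s) = algebraMap k B c * num s :=
    fun s hs => semiInv_of_isRelPrime hunits (hden s) (hrel s) (hSinv s hs)
  set h : B := ∏ s ∈ S, den s with hh
  have hh0 : h ≠ 0 := Finset.prod_ne_zero_iff.2 fun s _ => hden s
  have hhsemi : SemiInv k A h := semiInv_prod S den fun s hs φ => by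
    obtain ⟨c, hc, h1, _⟩ := hsemi s hs φ
    exact ⟨c, hc, h1⟩
  refine ⟨h, hh0, hhsemi, ?_⟩
  have hQ : ∀ x ∈ Algebra.adjoin k (S : Set (FractionRing B)), ∃ (c : B) (r : ℕ),
      x * (algebraMap B (FractionRing B) h) ^ r = algebraMap B (FractionRing B) c ∧
      ∀ φ : A →ₐ[k] k, actAlg φ c * h ^ r = c * (actAlg φ h) ^ r := by
    intro x hx
    induction hx using Algebra.adjoin_induction with
    | mem x hx =>
      have hxS : x ∈ S := hx
      have hE : h = den x * ∏ s ∈ S.erase x, den s := by
        rw [hh]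
        exact (Finset.mul_prod_erase S den hxS).symm
      refine ⟨num x * ∏ s ∈ S.erase x, den s, 1, ?_, ?_⟩
      · rw [pow_one, hE, map_mul, ← mul_assoc, hrepr' x, ← map_mul]
      · intro φ
        obtain ⟨c0, _, h1, h2⟩ := hsemi x hxS φ
        have h3 : actAlg φ h = actAlg φ (den x) * actAlg φ (∏ s ∈ S.erase x, den s) := by
          rw [hE, map_mul]
        rw [pow_one, pow_one, map_mul, h2, h3, h1, hE]
        ring
    | algebraMap c0 =>
      refine ⟨algebraMap k B c0, 0, ?_, ?_⟩
      · rw [pow_zero, mul_one, ← IsScalarTower.algebraMap_apply]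
      · intro φ
        rw [pow_zero, pow_zero, mul_one, mul_one, AlgHom.commutes]
    | add x y _ _ hx hy =>
      obtain ⟨c1, r1, e1, i1⟩ := hx
      obtain ⟨c2, r2, e2, i2⟩ := hy
      refine ⟨c1 * h ^ r2 + c2 * h ^ r1, r1 + r2, ?_, ?_⟩
      · rw [map_add, map_mul, map_mul, map_pow, map_pow, ← e1, ← e2]
        ring
      · intro φ
        have j1 := i1 φ
        have j2 := i2 φ
        rw [map_add, map_mul, map_mul, map_pow, map_pow]
        linear_combination (actAlg φ h ^ r2 * h ^ r2) * j1 + (actAlg φ h ^ r1 * h ^ r1) * j2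
    | mul x y _ _ hx hy =>
      obtain ⟨c1, r1, e1, i1⟩ := hx
      obtain ⟨c2, r2, e2, i2⟩ := hy
      refine ⟨c1 * c2, r1 + r2, ?_, ?_⟩
      · rw [map_mul, ← e1, ← e2]
        ring
      · intro φ
        have j1 := i1 φ
        have j2 := i2 φ
        rw [map_mul]
        linear_combination (actAlg φ c2 * h ^ r2) * j1 + (c1 * actAlg φ h ^ r1) * j2
  intro a b hb hinv
  have hb' := algebraMap_ne_zero' B hb
  have hH := algebraMap_ne_zero' B hh0
  have hmem : algebraMap B (FractionRing B) a / algebraMap B (FractionRing B) b ∈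
      IntermediateField.adjoin k (S : Set (FractionRing B)) := by
    rw [hS]
    exact (mem_invField_div k A B hb).2 hinv
  obtain ⟨r, hr, s, hs, hx⟩ := IntermediateField.mem_adjoin_iff_div.1 hmem
  obtain ⟨c, r0, hc1, hc2⟩ := hQ r hr
  obtain ⟨d, t, hd1, hd2⟩ := hQ s hs
  by_cases hs0 : s = 0
  · have ha0 : a = 0 := by
      rw [hs0, div_zero, div_eq_zero_iff] at hx
      rcases hx with hx | hx
      · exact (map_eq_zero_iff _ (IsFractionRing.injective B (FractionRing B))).1 hx
      · exact absurd hx hb'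
    refine ⟨0, 1, 0, 0, one_ne_zero, fun φ => by simp, fun φ => by simp, ?_⟩
    rw [ha0]
    ring
  · have hd0 : d ≠ 0 := by
      rintro rfl
      rw [map_zero] at hd1
      rcases mul_eq_zero.1 hd1 with h1 | h1
      · exact hs0 h1
      · exact pow_ne_zero t hH h1
    refine ⟨c, d, r0, t, hd0, hc2, hd2, ?_⟩
    apply IsFractionRing.injective B (FractionRing B)
    rw [div_eq_div_iff hb' hs0] at hx
    rw [map_mul, map_mul, map_mul, map_mul, map_pow, map_pow, ← hc1, ← hd1]
    linear_combination ((algebraMap B (FractionRing B) h) ^ t *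
      (algebraMap B (FractionRing B) h) ^ r0) * hx

end main

end Groth.Agent.H4.InvFrac
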