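import Groth.Prelude.Def_ModSite
import Groth.Agent.Lib.Lead.MS.Assoc
import Groth.Agent.Lib.Lead.EZ.ProjStmts

set_option autoImplicit false
universe u
open CategoryTheory CategoryTheory.Limits TopologicalSpace
open ModSite

namespace Groth.Agent.H4.InvTensor

variable {C : Type u} [SmallCategory C] {J : GrothendieckTopology C} {O : Sheaf J CommRingCat.{u}}

open Groth.Agent.LD.MS

theorem isEquiv_flip_of_obj (L : ModSite.Mod O) (hL : ((ModSite.tensorBi O).obj L).IsEquivalence) :
    ((ModSite.tensorBi O).flip.obj L).IsEquivalence :=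
  Functor.isEquivalence_of_iso (braidIso L)

theorem isEquiv_obj_of_flip (L : ModSite.Mod O) (hL : ((ModSite.tensorBi O).flip.obj L).IsEquivalence) :
    ((ModSite.tensorBi O).obj L).IsEquivalence :=
  Functor.isEquivalence_of_iso (braidIso L).symm

theorem isEquiv_tensor (L N : ModSite.Mod O) (hL : ((ModSite.tensorBi O).obj L).IsEquivalence)
    (hN : ((ModSite.tensorBi O).obj N).IsEquivalence) :
    ((ModSite.tensorBi O).obj (((ModSite.tensorBi O).obj L).obj N)).IsEquivalence := by
  apply isEquiv_obj_of_flip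
  have := isEquiv_flip_of_obj L hL
  have := isEquiv_flip_of_obj N hN
  exact Functor.isEquivalence_of_iso (flipTensorIso L N).symm

theorem dual_main (L : ModSite.Mod O) (hL : ((ModSite.tensorBi O).obj L).IsEquivalence)
    [ModSite.HasSheafHom L] :
    ((ModSite.tensorBi O).obj ((ModSite.sheafHom L).obj (ModSite.unit O))).IsEquivalence ∧
      IsIso ((ModSite.sheafHomAdj L).counit.app (ModSite.unit O)) := by
  have := isEquiv_flip_of_obj L hL
  have hc : IsIso ((ModSite.sheafHomAdj L).counit.app (ModSite.unit O)) := inferInstance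
  refine ⟨?_, hc⟩
  apply isEquiv_obj_of_flip
  let D := (ModSite.sheafHom L).obj (ModSite.unit O)
  have e : (ModSite.tensorBi O).flip.obj D ⋙ (ModSite.tensorBi O).flip.obj L ≅ 𝟭 (ModSite.Mod O) :=
    (flipTensorIso D L).symm ≪≫
      (ModSite.tensorBi O).flip.mapIso (@asIso _ _ _ _ _ hc) ≪≫ Groth.Agent.LD.EZ.flipUnitIso O
  have : ((ModSite.tensorBi O).flip.obj D ⋙ (ModSite.tensorBi O).flip.obj L).IsEquivalence :=
    Functor.isEquivalence_of_iso e.symm
  exact Functor.isEquivalence_of_comp_right ((ModSite.tensorBi O).flip.obj D)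
    ((ModSite.tensorBi O).flip.obj L)

end Groth.Agent.H4.InvTensor
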