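import Mathlib
import Groth.Prelude.Def_W4c2isonaturalstkIso
import Groth.Prelude.Def_AlgSt4

set_option autoImplicit false
universe u
open CategoryTheory AlgebraicGeometry IsoNat

namespace Groth.Agent.H4.IsoA

variable {S : Scheme.{u}}

/-- The field-valued point attached to an object of the fibre over `Spec K`. -/
def ofFib {𝒴 : AlgSt.Cat S} (K : Type u) [Field K] (str : Spec (CommRingCat.of K) ⟶ S)
    (y : 𝒴.p.Fiber (Over.mk str)) : AlgSt.FPt 𝒴 :=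
  { K := K, str := str, obj := y.1, lies := y.2 }

lemma iso_of_cls_eq {𝒴 : AlgSt.Cat S} {T : Over S} {y₁ y₂ : 𝒴.p.Fiber T}
    (h : cls y₁ = cls y₂) : Nonempty (y₁ ≅ y₂) :=
  Quotient.exact (s := isIsomorphicSetoid (𝒴.p.Fiber T)) h

lemma rel_of_cls_eq {𝒴 : AlgSt.Cat S} (K : Type u) [Field K] (str : Spec (CommRingCat.of K) ⟶ S)
    (y₁ y₂ : 𝒴.p.Fiber (Over.mk str)) (h : cls y₁ = cls y₂) :
    AlgSt.FPt.Rel (ofFib K str y₁) (ofFib K str y₂) := by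
  obtain ⟨e⟩ := iso_of_cls_eq h
  exact ⟨ofFib K str y₁, 𝟙 _, e.hom.1, trivial⟩

lemma rel_step {𝒴 𝒴' : AlgSt.Cat S} (φ : FIso 𝒴 𝒴') (p q : AlgSt.FPt 𝒴)
    (yp' : 𝒴'.p.Fiber (Over.mk p.str)) (yq' : 𝒴'.p.Fiber (Over.mk q.str))
    (hp : φ.toEquiv _ (cls (⟨p.obj, p.lies⟩ : 𝒴.p.Fiber (Over.mk p.str))) = cls yp')
    (hq : φ.toEquiv _ (cls (⟨q.obj, q.lies⟩ : 𝒴.p.Fiber (Over.mk q.str))) = cls yq')
    (h : AlgSt.FPt.Rel p q) :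
    AlgSt.FPt.Rel (ofFib p.K p.str yp') (ofFib q.K q.str yq') := by
  obtain ⟨r, a, b, -⟩ := h
  have ha : 𝒴.p.IsHomLift (eqToHom r.lies.symm ≫ 𝒴.p.map a ≫ eqToHom p.lies) a :=
    IsHomLift.of_fac _ _ _ r.lies p.lies rfl
  have hb : 𝒴.p.IsHomLift (eqToHom r.lies.symm ≫ 𝒴.p.map b ≫ eqToHom q.lies) b :=
    IsHomLift.of_fac _ _ _ r.lies q.lies rfl
  obtain ⟨yr₁, yp₁, a', -, h1, h2⟩ := φ.natural _ (⟨r.obj, r.lies⟩ : 𝒴.p.Fiber (Over.mk r.str))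
    (⟨p.obj, p.lies⟩ : 𝒴.p.Fiber (Over.mk p.str)) a ha
  obtain ⟨yr₂, yq₂, b', -, h3, h4⟩ := φ.natural _ (⟨r.obj, r.lies⟩ : 𝒴.p.Fiber (Over.mk r.str))
    (⟨q.obj, q.lies⟩ : 𝒴.p.Fiber (Over.mk q.str)) b hb
  obtain ⟨e⟩ := iso_of_cls_eq (h1.symm.trans h3)
  obtain ⟨ep⟩ := iso_of_cls_eq (h2.symm.trans hp)
  obtain ⟨eq⟩ := iso_of_cls_eq (h4.symm.trans hq)
  exact ⟨ofFib r.K r.str yr₁, a' ≫ ep.hom.1, e.hom.1 ≫ b' ≫ eq.hom.1, trivial⟩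

/-- A representative of an isomorphism class. -/
noncomputable def rep {𝒴 : AlgSt.Cat S} {T : Over S} (c : IsoCl 𝒴 T) : 𝒴.p.Fiber T :=
  Quotient.out (s := isIsomorphicSetoid (𝒴.p.Fiber T)) c

lemma cls_rep {𝒴 : AlgSt.Cat S} {T : Over S} (c : IsoCl 𝒴 T) : cls (rep c) = c :=
  Quotient.out_eq (s := isIsomorphicSetoid (𝒴.p.Fiber T)) c

/-- the fibre object of a field valued point. -/
def fo {𝒴 : AlgSt.Cat S} (p : AlgSt.FPt 𝒴) : 𝒴.p.Fiber (Over.mk p.str) := ⟨p.obj, p.lies⟩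

/-- Transport of field-valued points along an isomorphism of presheaves of isomorphism classes. -/
noncomputable def tau {𝒴 𝒴' : AlgSt.Cat S} (φ : FIso 𝒴 𝒴') (p : AlgSt.FPt 𝒴) : AlgSt.FPt 𝒴' :=
  ofFib p.K p.str (rep (φ.toEquiv _ (cls (fo p))))

lemma tau_rel {𝒴 𝒴' : AlgSt.Cat S} (φ : FIso 𝒴 𝒴') {p q : AlgSt.FPt 𝒴} (h : AlgSt.FPt.Rel p q) :
    AlgSt.FPt.Rel (tau φ p) (tau φ q) :=
  rel_step φ p q _ _ (cls_rep _).symm (cls_rep _).symm h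

/-- The induced map on points. -/
noncomputable def tauPts {𝒴 𝒴' : AlgSt.Cat S} (φ : FIso 𝒴 𝒴') : AlgSt.Points 𝒴 → AlgSt.Points 𝒴' :=
  Quot.map (tau φ) (fun _ _ h => tau_rel φ h)

lemma tauPts_mk {𝒴 𝒴' : AlgSt.Cat S} (φ : FIso 𝒴 𝒴') (p : AlgSt.FPt 𝒴) :
    tauPts φ (AlgSt.Points.mk p) = AlgSt.Points.mk (tau φ p) := rfl

lemma tauPts_surjective {𝒴 𝒴' : AlgSt.Cat S} (φ : FIso 𝒴 𝒴') : Function.Surjective (tauPts φ) := by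
  intro q'
  obtain ⟨p', rfl⟩ := AlgSt.Points.mk_surjective q'
  let p : AlgSt.FPt 𝒴 := ofFib p'.K p'.str (rep ((φ.toEquiv _).symm (cls (fo p'))))
  refine ⟨AlgSt.Points.mk p, ?_⟩
  rw [tauPts_mk]
  refine AlgSt.Points.sound ?_
  have h1 : cls (fo p) = (φ.toEquiv _).symm (cls (fo p')) := cls_rep _
  have h2 : cls (rep (φ.toEquiv (Over.mk p'.str) (cls (fo p)))) = cls (fo p') :=
    (cls_rep _).trans ((congrArg (φ.toEquiv (Over.mk p'.str)) h1).trans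
      (Equiv.apply_symm_apply _ _))
  exact rel_of_cls_eq p'.K p'.str (rep (φ.toEquiv (Over.mk p'.str) (cls (fo p)))) (fo p') h2

lemma mapCls_cls {𝒳 𝒴 : AlgSt.Cat S} (f : 𝒳 ⥤ᵇ 𝒴) (T : Over S) (x : 𝒳.p.Fiber T) :
    mapCls f T (cls x) = cls ((fibFun f T).obj x) := rfl

lemma tauPts_map {𝒳 𝒴 𝒳' 𝒴' : AlgSt.Cat S} (f : 𝒳 ⥤ᵇ 𝒴) (f' : 𝒳' ⥤ᵇ 𝒴') (φ : FIsoSq f f')
    (x : AlgSt.Points 𝒳) :
    AlgSt.Points.map f' (tauPts φ.src x) = tauPts φ.tgt (AlgSt.Points.map f x) := by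
  obtain ⟨p, rfl⟩ := AlgSt.Points.mk_surjective x
  rw [tauPts_mk, AlgSt.Points.map_mk, AlgSt.Points.map_mk, tauPts_mk]
  refine AlgSt.Points.sound ?_
  let x' : 𝒳'.p.Fiber (Over.mk p.str) := rep (φ.src.toEquiv _ (cls (fo p)))
  let y : 𝒴.p.Fiber (Over.mk p.str) := (fibFun f _).obj (fo p)
  have h3 : cls ((fibFun f' (Over.mk p.str)).obj x') =
      cls (rep (φ.tgt.toEquiv (Over.mk p.str) (cls y))) := by
    rw [cls_rep, ← mapCls_cls, ← mapCls_cls, cls_rep]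
    exact (φ.comm _ _).symm
  exact rel_of_cls_eq p.K p.str ((fibFun f' (Over.mk p.str)).obj x')
    (rep (φ.tgt.toEquiv (Over.mk p.str) (cls y))) h3

end Groth.Agent.H4.IsoA
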