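import Mathlib
import Groth.Prelude.Def_W4c2isonaturalstkIso
import Groth.Prelude.Def_AlgSt3
import Groth.Agent.Lib.Helper3.MonoFull
import Groth.Agent.Lib.Helper5.AlgSp.Mono

set_option autoImplicit false
universe u
open CategoryTheory AlgebraicGeometry IsoNat

namespace Groth.Agent.H4.IsoB

variable {S : Scheme.{u}}

lemma isOpenImmersion_le_mono : @IsOpenImmersion ≤ MorphismProperty.monomorphisms Scheme.{u} := by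
  intro X Y f hf
  have : IsOpenImmersion f := hf
  exact MorphismProperty.monomorphisms.infer_property f

lemma isMono_of_isOpenImm {𝒳 𝒴 : AlgSt.Cat S} (i : 𝒳 ⥤ᵇ 𝒴) (hi : AlgSt.IsOpenImm i) :
    AlgSt.IsMono i := by
  intro U y
  obtain ⟨F, e, he, hp⟩ := hi U y
  exact ⟨F, e, he, Groth.Agent.H5.AlgSp.mono_of_repWith isOpenImmersion_le_mono hp⟩

lemma repByAlgSp1_of_with {P : MorphismProperty (AlgSp.Sp S)} {𝒳 𝒴 : AlgSt.Cat S} {f : 𝒳 ⥤ᵇ 𝒴}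
    (hf : AlgSt.RepByAlgSpWith P f) : AlgSt.RepByAlgSp1 f := by
  intro U y
  obtain ⟨F, e, he, -⟩ := hf U y
  exact ⟨F, e, he⟩

lemma iso_of_cls_eq {𝒴 : AlgSt.Cat S} {T : Over S} {y₁ y₂ : 𝒴.p.Fiber T}
    (h : cls y₁ = cls y₂) : Nonempty (y₁ ≅ y₂) :=
  Quotient.exact (s := isIsomorphicSetoid (𝒴.p.Fiber T)) h

open Groth.Agent.H3.FibCatAux in
theorem main {𝒳 𝒴 𝒴' : AlgSt.Cat S} (g𝒳 : FibCat.IsFibGrpd 𝒳.p) (g𝒴 : FibCat.IsFibGrpd 𝒴.p)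
    (g𝒴' : FibCat.IsFibGrpd 𝒴'.p)
    (f : 𝒳 ⥤ᵇ 𝒴) (i : 𝒴' ⥤ᵇ 𝒴) (hi : AlgSt.IsMono i)
    (T : Over S) (z₁ z₂ : (FibCat.fp f i).p.Fiber T)
    (h₁ : IsoNat.mapCls (FibCat.fpFst f i) T (IsoNat.cls z₁) =
      IsoNat.mapCls (FibCat.fpFst f i) T (IsoNat.cls z₂)) :
    IsoNat.cls z₁ = IsoNat.cls z₂ := by
  have hfull : i.toFunctor.Full := Groth.Agent.H3.MonoFull.full_of_isMono g𝒴' g𝒴 i hi
  have hfaith : i.toFunctor.Faithful :=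
    Groth.Agent.H3.RepFaithful.faithful_of_repByAlgSp1 g𝒴' g𝒴 i (repByAlgSp1_of_with hi)
  have hfp : FibCat.IsFibGrpd (FibCat.fp f i).p := X6401 f i g𝒳 g𝒴' g𝒴
  have hgrp : IsGroupoid ((FibCat.fp f i).p.Fiber T) := isGroupoid_fiber_of_isFibGrpd _ hfp T
  obtain ⟨a⟩ := iso_of_cls_eq (y₁ := (fibFun (FibCat.fpFst f i) T).obj z₁)
    (y₂ := (fibFun (FibCat.fpFst f i) T).obj z₂) h₁
  obtain ⟨a₀, ha₀⟩ : ∃ a₀ : z₁.1.obj.fst ⟶ z₂.1.obj.fst, a₀ = a.hom.1 := ⟨a.hom.1, rfl⟩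
  have hlift : 𝒳.p.IsHomLift (𝟙 T) a₀ := ha₀ ▸ a.hom.2
  let β : i.obj z₁.1.obj.snd ⟶ i.obj z₂.1.obj.snd :=
    z₁.1.obj.iso.inv ≫ f.map a₀ ≫ z₂.1.obj.iso.hom
  let b₀ : z₁.1.obj.snd ⟶ z₂.1.obj.snd := i.toFunctor.preimage β
  have hb₀ : i.map b₀ = β := i.toFunctor.map_preimage β
  let φ : z₁.1 ⟶ z₂.1 := fpHomMk a₀ b₀ (by rw [hb₀]; simp [β])
  have hφ : (FibCat.fp f i).p.IsHomLift (𝟙 T) φ := (fp_isHomLift_iff f i (𝟙 T) φ).2 hlift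
  let ψ : z₁ ⟶ z₂ := ⟨φ, hφ⟩
  have : IsIso ψ := IsGroupoid.all_isIso ψ
  exact Quotient.sound (s := isIsomorphicSetoid ((FibCat.fp f i).p.Fiber T)) ⟨asIso ψ⟩

end Groth.Agent.H4.IsoB
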