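import Mathlib
import Groth.Prelude.Def_W4c2isonaturalstkIso
import Groth.Prelude.Def_AlgSt3
import Groth.Agent.Lib.Helper3.AlgSt.OpenSub

set_option autoImplicit false
universe u
open CategoryTheory AlgebraicGeometry IsoNat

namespace Groth.Agent.H4.IsoC

open Groth.Agent.H3.OpenSub Groth.Agent.H3.FibCatYoneda

variable {S : Scheme.{u}}

/-- the object property attached to a subfunctor of the presheaf of isomorphism classes -/
def QW {𝒴 : AlgSt.Cat S} (W : ∀ T : Over S, Set (IsoNat.IsoCl 𝒴 T)) : 𝒴.obj → Prop :=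
  fun η => IsoNat.cls (⟨η, rfl⟩ : 𝒴.p.Fiber (𝒴.p.obj η)) ∈ W (𝒴.p.obj η)

lemma mem_iff {𝒴 : AlgSt.Cat S} (W : ∀ T : Over S, Set (IsoNat.IsoCl 𝒴 T)) (η : 𝒴.obj) {T : Over S}
    (h : 𝒴.p.obj η = T) :
    QW W η ↔ IsoNat.cls (⟨η, h⟩ : 𝒴.p.Fiber T) ∈ W T := by
  subst h; rfl

theorem main {𝒴 : AlgSt.Cat S} (h𝒴 : AlgSt.IsAlgStack Scheme.fppfPrecoverage 𝒴)
    (W : ∀ T : Over S, Set (IsoNat.IsoCl 𝒴 T))
    (hWpull : ∀ (T' T : Over S) (g : T' ⟶ T) (x' : 𝒴.p.Fiber T') (x : 𝒴.p.Fiber T) (a : x'.1 ⟶ x.1),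
      𝒴.p.IsHomLift g a → IsoNat.cls x ∈ W T → IsoNat.cls x' ∈ W T')
    (hWopen : ∀ (T : Over S) (x : 𝒴.p.Fiber T), ∃ V : T.left.Opens,
      ∀ (T' : Over S) (g : T' ⟶ T) (x' : 𝒴.p.Fiber T') (a : x'.1 ⟶ x.1), 𝒴.p.IsHomLift g a →
        (IsoNat.cls x' ∈ W T' ↔ ∃ g' : T'.left ⟶ ↑V, g' ≫ V.ι = g.left)) :
    AlgSt.IsOpenSubstack 𝒴 (QW W) Scheme.fppfPrecoverage := by
  have hQhom : ∀ ⦃x y : 𝒴.obj⦄ (_ : x ⟶ y), QW W y → QW W x := fun x y m hy =>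
    hWpull _ _ (𝒴.p.map m) ⟨x, rfl⟩ ⟨y, rfl⟩ m (IsHomLift.map _ m) hy
  have hQi : ObjectProperty.IsClosedUnderIsomorphisms (QW W) := ⟨fun e h => hQhom e.inv h⟩
  have hrep : AlgSt.IsOpenImm (AlgSt.subIncl 𝒴 (QW W)) := by
    apply rep_subIncl_of_charts @IsOpenImmersion _ hQi
    intro U y
    obtain ⟨V, hV⟩ := hWopen U ⟨y.obj (Over.mk (𝟙 U)), y.w_obj _⟩
    let ι : Over.mk (V.ι ≫ U.hom) ⟶ U := Over.homMk V.ι rfl
    have hmono : Mono ι := by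
      have : Mono ι.left := inferInstanceAs (Mono V.ι)
      exact (Over.forget S).mono_of_mono_map this
    refine ⟨Over.mk (V.ι ≫ U.hom), ι, hmono, inferInstanceAs (IsOpenImmersion V.ι), ?_, ?_⟩
    · intro c
      let A : Over U := (AlgSt.overMap ι).obj c
      show QW W (y.obj A)
      rw [mem_iff W (y.obj A) (y.w_obj A)]
      exact (hV A.left A.hom ⟨y.obj A, y.w_obj A⟩ (y.map (toId A)) (map_toId_isHomLift y A)).2
        ⟨c.hom.left, rfl⟩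
    · intro x hx
      rw [mem_iff W (y.obj x) (y.w_obj x)] at hx
      obtain ⟨g', hg'⟩ := (hV x.left x.hom ⟨y.obj x, y.w_obj x⟩ (y.map (toId x))
        (map_toId_isHomLift y x)).1 hx
      refine ⟨Over.homMk g' ?_, ?_⟩
      · show g' ≫ V.ι ≫ U.hom = x.left.hom
        rw [← Category.assoc, hg']
        exact Over.w x.hom
      · apply Over.OverMorphism.ext
        exact hg'
  exact ⟨hQi, isAlgStack_fullSub h𝒴 _ hQhom hrep, hrep⟩

end Groth.Agent.H4.IsoC
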