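import Mathlib
import Groth.Statements.S15472
import Groth.Agent.H4.IsoA
import Groth.Agent.Lib.Helper3.AlgSt.Points.QuasiCompact
import Groth.Agent.Lib.Helper3.FibCatYoneda

set_option autoImplicit false
universe u
open CategoryTheory CategoryTheory.Functor AlgebraicGeometry IsoNat

noncomputable section

namespace Groth.Agent.H4.IsoD

open Groth.Agent.H4.IsoA Groth.Agent.H3.FibCatAux Groth.Agent.H3.AlgStPoints
  Groth.Agent.H3.FibCatYoneda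

variable {S : Scheme.{u}} {𝒳 𝒴 : AlgSt.Cat S}

/-- transport of a scheme chart along an isomorphism of presheaves of isomorphism classes: on
points it is compatible with `tauPts` -/
theorem exists_chart_tauPts (h𝒴 : FibCat.IsFibGrpd 𝒴.p) (φ : FIso 𝒳 𝒴)
    {U : Over S} (x : FibCat.overCat U ⥤ᵇ 𝒳) :
    ∃ y : FibCat.overCat U ⥤ᵇ 𝒴, ∀ t : ↥U.left,
      tauPts φ (AlgSt.Points.ofChart x t) = AlgSt.Points.ofChart y t := by
  haveI hfib : 𝒴.p.IsFibered := isFibered_of_isFibGrpd 𝒴.p h𝒴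
  obtain ⟨y₀, hy₀⟩ : ∃ y₀ : 𝒴.p.Fiber U, cls y₀ = φ.toEquiv U (objCls x) := ⟨rep _, cls_rep _⟩
  refine ⟨pbBased y₀.1 y₀.2, fun t => ?_⟩
  obtain ⟨A, hA⟩ : ∃ A : Over U, A = Over.mk (Over.homMk (U.left.fromSpecResidueField t) rfl :
      Over.mk (U.left.fromSpecResidueField t ≫ U.hom) ⟶ U) := ⟨_, rfl⟩
  obtain ⟨y', yy, b, hb, h1, h2⟩ := φ.natural A.hom
    (⟨x.obj A, x.w_obj A⟩ : 𝒳.p.Fiber A.left)
    (⟨x.obj (Over.mk (𝟙 U)), x.w_obj _⟩ : 𝒳.p.Fiber U) (x.map (toId A))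
    (map_toId_isHomLift x A)
  obtain ⟨e⟩ := iso_of_cls_eq (h2.symm.trans hy₀.symm)
  have he : 𝒴.p.IsHomLift (𝟙 U) e.hom.1 := e.hom.2
  have hbe0 : 𝒴.p.IsHomLift A.hom (b ≫ e.hom.1) :=
    @IsHomLift.comp_lift_id_right _ _ _ _ 𝒴.p _ _ _ _ _ A.hom b hb e.hom.1 he
  have hbe : 𝒴.p.IsHomLift (𝟙 A.left ≫ A.hom) (b ≫ e.hom.1) := by
    rw [Category.id_comp]
    exact hbe0
  let χ : y'.1 ⟶ (pbBased y₀.1 y₀.2).obj A :=
    IsStronglyCartesian.map 𝒴.p A.hom (pbMap y₀.1 y₀.2 A) (f' := 𝟙 _ ≫ A.hom) rfl (b ≫ e.hom.1)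
  have hχ : 𝒴.p.IsHomLift (𝟙 A.left) χ :=
    IsStronglyCartesian.map_isHomLift 𝒴.p A.hom (pbMap y₀.1 y₀.2 A) rfl (b ≫ e.hom.1)
  let z : 𝒴.p.Fiber A.left := ⟨(pbBased y₀.1 y₀.2).obj A, (pbBased y₀.1 y₀.2).w_obj A⟩
  let ψ : y' ⟶ z := ⟨χ, hχ⟩
  have hgrp : IsGroupoid (𝒴.p.Fiber A.left) := isGroupoid_fiber_of_isFibGrpd _ h𝒴 _
  have : IsIso ψ := IsGroupoid.all_isIso ψ
  have h3 : cls y' = cls z :=
    Quotient.sound (s := isIsomorphicSetoid (𝒴.p.Fiber A.left)) ⟨asIso ψ⟩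
  subst hA
  exact AlgSt.Points.sound (rel_of_cls_eq (U.left.residueField t)
    (U.left.fromSpecResidueField t ≫ U.hom) _ z ((cls_rep _).trans (h1.trans h3)))

/-- the map on points induced by an isomorphism of presheaves of isomorphism classes is
continuous -/
theorem continuous_tauPts (h𝒴 : AlgSt.IsAlgStack Scheme.fppfPrecoverage 𝒴) (φ : FIso 𝒳 𝒴) :
    Continuous (tauPts φ) := by
  refine ⟨fun W hW => ?_⟩
  rw [AlgSt.Points.isOpen_iff]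
  intro U x _
  obtain ⟨y, hy⟩ := exists_chart_tauPts h𝒴.isStack.1 φ x
  have h1 : AlgSt.Points.ofChart x ⁻¹' (tauPts φ ⁻¹' W) = AlgSt.Points.ofChart y ⁻¹' W := by
    ext t
    simp only [Set.mem_preimage, hy t]
  rw [h1]
  exact (continuous_ofChart h𝒴 U y).isOpen_preimage W hW

theorem main (h𝒳 : AlgSt.IsAlgStack Scheme.fppfPrecoverage 𝒳)
    (h𝒴 : AlgSt.IsAlgStack Scheme.fppfPrecoverage 𝒴) (φ : FIso 𝒳 𝒴)
    (hqc : AlgSt.IsQuasiCompact 𝒳) : AlgSt.IsQuasiCompact 𝒴 := by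
  have hc : CompactSpace (AlgSt.Points 𝒳) := (isQuasiCompact_iff_compactSpace h𝒳).1 hqc
  have hcont := continuous_tauPts h𝒴 φ
  have : CompactSpace (AlgSt.Points 𝒴) := by
    refine ⟨?_⟩
    rw [← (tauPts_surjective φ).range_eq]
    exact isCompact_range hcont
  exact (isQuasiCompact_iff_compactSpace h𝒴).2 this

end Groth.Agent.H4.IsoD
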