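import Mathlib
import Groth.Statements.S15482
import Groth.Agent.Lib.Helper3.AlgSt.QCBase
import Groth.Agent.Lib.Helper3.AlgSt.OpenSub6
import Groth.Agent.Lib.Helper3.AlgSt.NoethImm

set_option autoImplicit false
universe w u
open CategoryTheory CategoryTheory.Functor CategoryTheory.Limits Opposite AlgebraicGeometry

noncomputable section

namespace Groth.Agent.H4.QcoA

open Groth.Agent.H3 Groth.Agent.H3.FibCatAux Groth.Agent.H3.GerbAux Groth.Agent.H3.FpCalc Groth.Agent.H3.TwoCart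
  Groth.Agent.H3.StackPsh Groth.Agent.H3.PshBridge Groth.Agent.H3.AlgStAux Groth.Agent.H3.RepBridge
  Groth.Agent.H3.SetoidPsh Groth.Agent.H3.BaseChangeSp Groth.Agent.H3.AlgStComp
  Groth.Agent.H3.AlgStProps Groth.Agent.H3.AlgStBridge2 Groth.Agent.H3.AlgStCharts
  Groth.Agent.H3.AlgStDescent Groth.Agent.H3.Whisker Groth.Agent.H3.AlgStLES
  Groth.Agent.H3.FPtRel Groth.Agent.H3.AlgStStackRep Groth.Agent.H3.TwoYoneda
  Groth.Agent.H3.AlgStPoints Groth.Agent.H3.AlgStAlgebraic Groth.Agent.H3.AlgStQCMor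
  Groth.Agent.H3.AlgStSmoothLoc Groth.Agent.H3.SmSrc Groth.Agent.H3.AlgStLocQ
  Groth.Agent.H3.AlgStAffine Groth.Agent.H3.OpenSub Groth.Agent.H3.AlgStNoeth

variable {S : Scheme.{u}} {𝒳 𝒴 𝒵 : AlgSt.Cat S}

/-- a quasi-compact open substack containing the image of a 1-morphism from a quasi-compact
algebraic stack -/
theorem exists_qc_open (h𝒴 : AlgSt.IsAlgStack Scheme.fppfPrecoverage 𝒴)
    (h𝒵 : AlgSt.IsAlgStack Scheme.fppfPrecoverage 𝒵) (hqc : AlgSt.IsQuasiCompact 𝒵)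
    (g : 𝒵 ⥤ᵇ 𝒴) :
    ∃ Q : 𝒴.obj → Prop, AlgSt.IsOpenSubstack 𝒴 Q Scheme.fppfPrecoverage ∧
      AlgSt.IsQuasiCompact (AlgSt.fullSub 𝒴 Q) ∧ ∀ z, Q (g.obj z) := by
  classical
  obtain ⟨V, y, hy₁, hy₂⟩ := h𝒴.atlas
  have hY := h𝒴.isStack.1
  have hflat : AlgSt.RepByAlgSpWith (AlgSp.LocP @Flat) y :=
    AlgStDiagLft.repByAlgSpWith_mono (AlgStDiagLft.locP_mono AlgStDiagLft.smooth_le_flat) hy₁
  have hlfp : AlgSt.RepByAlgSpWith (AlgSp.LocP @LocallyOfFinitePresentation) y :=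
    AlgStDiagLft.repByAlgSpWith_mono (AlgStDiagLft.locP_mono AlgStDiagLft.smooth_le_lfp) hy₁
  have hopen := isOpenMap_ofChart hY V y hflat hlfp
  have hsurj := ofChart_surjective hY y hy₂
  have hc : CompactSpace (AlgSt.Points 𝒵) := (isQuasiCompact_iff_compactSpace h𝒵).1 hqc
  have hK : IsCompact (Set.range (AlgSt.Points.map g)) :=
    isCompact_range (continuous_points_map h𝒴 g)
  let B : Set V.left.Opens := {W | IsAffineOpen W}
  have hcov : Set.range (AlgSt.Points.map g) ⊆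
      ⋃ W : B, AlgSt.Points.ofChart y '' (W.1 : Set V.left) := by
    intro p _
    obtain ⟨v, rfl⟩ := hsurj p
    obtain ⟨_, ⟨W, hW, rfl⟩, hv, -⟩ := V.left.isBasis_affineOpens.exists_subset_of_mem_open
      (Set.mem_univ v) isOpen_univ
    exact Set.mem_iUnion.2 ⟨⟨W, hW⟩, v, hv, rfl⟩
  obtain ⟨t, ht⟩ := hK.elim_finite_subcover _ (fun W : B => hopen _ W.1.2) hcov
  obtain ⟨U, j, hUa, hjs, hjr⟩ := exists_affine_chart_of_finite (t.image Subtype.val) (by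
    intro W hW
    obtain ⟨W', -, rfl⟩ := Finset.mem_image.1 hW
    exact W'.2)
  obtain ⟨x, hx⟩ : ∃ x : FibCat.overCat U ⥤ᵇ 𝒴, x = BasedFunctor.comp (AlgSt.overMap j) y :=
    ⟨_, rfl⟩
  have hsm : AlgSt.RepByAlgSpWith (AlgSp.LocP @Smooth) x := by
    rw [hx]
    exact good_smooth.toC.repComp (isFibGrpd_overCat U) (isFibGrpd_overCat V) _ _
      (rep_overMap Groth.Agent.H3.AlgSpCov.etale_le_smooth good_smooth j hjs) hy₁
  have hxflat : AlgSt.RepByAlgSpWith (AlgSp.LocP @Flat) x :=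
    AlgStDiagLft.repByAlgSpWith_mono (AlgStDiagLft.locP_mono AlgStDiagLft.smooth_le_flat) hsm
  have hxlfp : AlgSt.RepByAlgSpWith (AlgSp.LocP @LocallyOfFinitePresentation) x :=
    AlgStDiagLft.repByAlgSpWith_mono (AlgStDiagLft.locP_mono AlgStDiagLft.smooth_le_lfp) hsm
  obtain ⟨T, hT⟩ : ∃ T : Set (AlgSt.Points 𝒴), T = Set.range (AlgSt.Points.ofChart x) := ⟨_, rfl⟩
  have hTo : IsOpen T := by
    rw [hT]
    exact (isOpenMap_ofChart hY U x hxflat hxlfp).isOpen_range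
  have hsub : Set.range (AlgSt.Points.map g) ⊆ T := by
    intro p hp
    obtain ⟨i, hi⟩ := Set.mem_iUnion.1 (ht hp)
    obtain ⟨hi', v, hv, rfl⟩ : ∃ _ : i ∈ t, p ∈ AlgSt.Points.ofChart y '' (i.1 : Set V.left) := by
      simpa using hi
    have hvr : v ∈ Set.range j.left := by
      rw [hjr]
      simp only [Set.mem_iUnion]
      exact ⟨i.1, Finset.mem_image.2 ⟨i, hi', rfl⟩, hv⟩
    obtain ⟨τ, rfl⟩ := hvr
    rw [hT, hx]
    exact ⟨τ, ofChart_overMap j y τ⟩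
  have hQ := isOpenSubstack_subOf h𝒴 T hTo
  have hval : ∀ u, subOf T (x.obj u) := by
    intro u
    rw [subOf_chart_iff hY T x u]
    intro v
    rw [hT]
    exact ⟨_, rfl⟩
  have hsurj' : AlgSt.IsSurjective (liftSub (subOf T) x hval) := by
    apply isSurjective_liftSub hY (subOf T) (fun _ _ m h => subOf_of_hom m h) x hval
    rw [range_subIncl_subOf, hT]
    rintro _ ⟨τ, rfl⟩
    exact ⟨chartPt U τ, (ofChart_eq_map x τ).symm⟩
  refine ⟨subOf T, hQ, ?_, ?_⟩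
  · exact isQuasiCompact_of_isSurjective (isAlgStack_overCat U) hQ.2.1 _ hsurj'
      (isQuasiCompact_overCat U)
  · intro z
    exact subOf_mono hsub _ (subOf_range_obj h𝒵.isStack.1 hY g z)

theorem main [QuasiSeparatedSpace ↥S] (h𝒳 : AlgSt.IsAlgStack Scheme.fppfPrecoverage 𝒳)
    (h𝒴 : AlgSt.IsAlgStack Scheme.fppfPrecoverage 𝒴)
    (h𝒴d : AlgSt.RepByAlgSpWith (AlgSp.IsSeparatedMor ⊓ AlgSp.IsQuasiCompactMor)
      (FibCat.diag (FibCat.toSelf 𝒴)))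
    (f : 𝒳 ⥤ᵇ 𝒴)
    (H : ∀ (𝒴' : AlgSt.Cat S), AlgSt.IsAlgStack Scheme.fppfPrecoverage 𝒴' →
      AlgSt.IsQuasiCompact 𝒴' →
        ∀ (j : 𝒴' ⥤ᵇ 𝒴), AlgSt.IsOpenImm j → AlgSt.IsQuasiCompact (FibCat.fp j f)) :
    AlgSt.IsQuasiCompactMor Scheme.fppfPrecoverage f := by
  intro 𝒵 h𝒵 hqc g
  obtain ⟨Q, hQ, hQqc, hval⟩ := exists_qc_open h𝒴 h𝒵 hqc g
  have hQs := hQ.2.1
  obtain ⟨j, hj⟩ : ∃ j : AlgSt.fullSub 𝒴 Q ⥤ᵇ 𝒴, j = AlgSt.subIncl 𝒴 Q := ⟨_, rfl⟩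
  have hjo : AlgSt.IsOpenImm j := by rw [hj]; exact hQ.2.2
  have h1 : AlgSt.IsQuasiCompact (FibCat.fp j f) := H _ hQs hQqc j hjo
  have hW : AlgSt.IsAlgStack Scheme.fppfPrecoverage (FibCat.fp j f) :=
    isAlgStack_fp h𝒴.isStack h𝒴.diag hQs h𝒳 j f
  have hYqs : AlgSt.IsQuasiSeparatedOver 𝒴 := by
    refine AlgStDiagLft.repByAlgSpWith_mono (fun X Y a ha => ?_) h𝒴d
    refine ⟨ha.2, ?_⟩
    have hle : (@IsClosedImmersion : MorphismProperty Scheme.{u}) ≤ @QuasiCompact :=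
      fun _ _ g hg => by have : IsClosedImmersion g := hg; infer_instance
    exact Groth.Agent.H5.AlgSp.repWith_mono hle ha.1
  have hjimm : AlgSt.IsImm j := by
    refine AlgStDiagLft.repByAlgSpWith_mono (fun X Y a ha => ?_) hjo
    have hle : (@IsOpenImmersion : MorphismProperty Scheme.{u}) ≤ @IsImmersion :=
      fun _ _ g hg => by have : IsOpenImmersion g := hg; infer_instance
    exact Groth.Agent.H5.AlgSp.repWith_mono hle ha
  have hQqs : AlgSt.IsQuasiSeparatedOver (AlgSt.fullSub 𝒴 Q) := by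
    have h3 := Groth.Agent.H3.AlgStDiagRep.repByAlgSpWith_diag_comp j (FibCat.toSelf 𝒴) _
      good_qcqs hQs.isStack.1 h𝒴.isStack.1 (isQuasiSeparatedMor_of_isImm hQs h𝒴 j hjimm) hYqs
    have e : BasedFunctor.comp j (FibCat.toSelf 𝒴) = FibCat.toSelf (AlgSt.fullSub 𝒴 Q) := by
      apply basedFunctor_ext
      exact j.w
    unfold AlgSt.IsQuasiSeparatedOver AlgSt.IsQuasiSeparatedMor
    rw [← e]
    exact h3
  have h3 : AlgSt.IsQuasiCompactMor Scheme.fppfPrecoverage (FibCat.fpFst j f) :=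
    isQuasiCompactMor_of_isQuasiCompact hW hQs (FibCat.fpFst j f) h1 hQqs
  have h4 := h3 𝒵 h𝒵 hqc (liftSub Q g hval)
  have h5 := isQuasiCompact_of_isEquivOver
    (isAlgStack_fp hQs.isStack hQs.diag h𝒵 hW (liftSub Q g hval) (FibCat.fpFst j f))
    (isAlgStack_fp h𝒴.isStack h𝒴.diag h𝒵 h𝒳 (BasedFunctor.comp (liftSub Q g hval) j) f)
    (pasteL (liftSub Q g hval) j f) (isEquivOver_pasteL (liftSub Q g hval) j f) h4
  have h6 : BasedFunctor.comp (liftSub Q g hval) j = g := by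
    rw [hj]
    exact liftSub_comp Q g hval
  rw [h6] at h5
  exact h5

end Groth.Agent.H4.QcoA
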