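import Mathlib
import Groth.Statements.S15480
import Groth.Agent.H4.IsoA
import Groth.Agent.H4.IsoB
import Groth.Agent.H4.IsoD
import Groth.Agent.H4.QcoA

set_option autoImplicit false
universe w u
open CategoryTheory CategoryTheory.Functor CategoryTheory.Limits Opposite AlgebraicGeometry IsoNat

noncomputable section

namespace Groth.Agent.H4.IsoE

open Groth.Agent.H3 Groth.Agent.H3.FibCatAux Groth.Agent.H3.GerbAux Groth.Agent.H3.FpCalc Groth.Agent.H3.TwoCart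
  Groth.Agent.H3.StackPsh Groth.Agent.H3.PshBridge Groth.Agent.H3.AlgStAux Groth.Agent.H3.RepBridge
  Groth.Agent.H3.SetoidPsh Groth.Agent.H3.BaseChangeSp Groth.Agent.H3.AlgStComp
  Groth.Agent.H3.AlgStProps Groth.Agent.H3.AlgStBridge2 Groth.Agent.H3.AlgStCharts
  Groth.Agent.H3.AlgStDescent Groth.Agent.H3.Whisker Groth.Agent.H3.AlgStLES
  Groth.Agent.H3.FPtRel Groth.Agent.H3.AlgStStackRep Groth.Agent.H3.TwoYoneda
  Groth.Agent.H3.AlgStPoints Groth.Agent.H3.AlgStAlgebraic Groth.Agent.H3.AlgStQCMor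
  Groth.Agent.H3.AlgStSmoothLoc Groth.Agent.H3.SmSrc Groth.Agent.H3.AlgStLocQ
  Groth.Agent.H3.AlgStAffine Groth.Agent.H3.OpenSub Groth.Agent.H4.IsoA

variable {S : Scheme.{u}} {𝒳 𝒴 𝒳' 𝒴' 𝒜 ℬ : AlgSt.Cat S}

/-- the inverse of an isomorphism of presheaves of isomorphism classes -/
def symmFIso (h𝒳 : FibCat.IsFibGrpd 𝒳.p) (h𝒴 : FibCat.IsFibGrpd 𝒴.p) (φ : FIso 𝒳 𝒴) :
    FIso 𝒴 𝒳 where
  toEquiv T := (φ.toEquiv T).symm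
  natural := by
    intro T' T g y' y b hb
    obtain ⟨x, hx⟩ : ∃ x : 𝒳.p.Fiber T, φ.toEquiv T (cls x) = cls y :=
      ⟨rep ((φ.toEquiv T).symm (cls y)), by rw [cls_rep, Equiv.apply_symm_apply]⟩
    obtain ⟨x₁, hx₁⟩ := x
    subst hx₁
    obtain ⟨x'₀, a, ha⟩ := h𝒳.exists_lift (x := x₁) g
    have hx'₀ : 𝒳.p.obj x'₀ = T' := IsHomLift.domain_eq 𝒳.p g a
    obtain ⟨y₁', y₁, b₁, hb₁, h1, h2⟩ := φ.natural g (⟨x'₀, hx'₀⟩ : 𝒳.p.Fiber T')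
      (⟨x₁, rfl⟩ : 𝒳.p.Fiber (𝒳.p.obj x₁)) a ha
    obtain ⟨e⟩ := iso_of_cls_eq (h2.symm.trans hx)
    have he : 𝒴.p.IsHomLift (𝟙 _) e.hom.1 := e.hom.2
    have hbe0 : 𝒴.p.IsHomLift g (b₁ ≫ e.hom.1) :=
      @IsHomLift.comp_lift_id_right _ _ _ _ 𝒴.p _ _ _ _ _ g b₁ hb₁ e.hom.1 he
    have hbe : 𝒴.p.IsHomLift (𝟙 T' ≫ g) (b₁ ≫ e.hom.1) := by
      rw [Category.id_comp]
      exact hbe0
    haveI := hb
    have hcart : 𝒴.p.IsStronglyCartesian g b := isStronglyCartesian_of_isHomLift 𝒴.p h𝒴 g b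
    let χ : y₁'.1 ⟶ y'.1 :=
      IsStronglyCartesian.map 𝒴.p g b (f' := 𝟙 _ ≫ g) rfl (b₁ ≫ e.hom.1)
    have hχ : 𝒴.p.IsHomLift (𝟙 T') χ :=
      IsStronglyCartesian.map_isHomLift 𝒴.p g b rfl (b₁ ≫ e.hom.1)
    let ψ : y₁' ⟶ y' := ⟨χ, hχ⟩
    have hgrp : IsGroupoid (𝒴.p.Fiber T') := isGroupoid_fiber_of_isFibGrpd _ h𝒴 _
    have : IsIso ψ := IsGroupoid.all_isIso ψ
    have h3 : cls y₁' = cls y' :=
      Quotient.sound (s := isIsomorphicSetoid (𝒴.p.Fiber T')) ⟨asIso ψ⟩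
    refine ⟨⟨x'₀, hx'₀⟩, ⟨x₁, rfl⟩, a, ha, ?_, ?_⟩
    · rw [Equiv.symm_apply_eq]
      exact (h1.trans h3).symm
    · rw [Equiv.symm_apply_eq]
      exact hx.symm

lemma tauPts_symm_tauPts (h𝒳 : FibCat.IsFibGrpd 𝒳.p) (h𝒴 : FibCat.IsFibGrpd 𝒴.p) (φ : FIso 𝒳 𝒴)
    (q : AlgSt.Points 𝒳) : tauPts (symmFIso h𝒳 h𝒴 φ) (tauPts φ q) = q := by
  obtain ⟨p, rfl⟩ := AlgSt.Points.mk_surjective q
  rw [tauPts_mk, tauPts_mk]
  refine AlgSt.Points.sound ?_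
  have h2 : cls (rep ((symmFIso h𝒳 h𝒴 φ).toEquiv (Over.mk p.str) (cls (fo (tau φ p))))) =
      cls (fo p) := by
    rw [cls_rep]
    show (φ.toEquiv _).symm (cls (fo (tau φ p))) = cls (fo p)
    rw [Equiv.symm_apply_eq]
    exact cls_rep _
  exact rel_of_cls_eq p.K p.str _ (fo p) h2

lemma tauPts_tauPts_symm (h𝒳 : FibCat.IsFibGrpd 𝒳.p) (h𝒴 : FibCat.IsFibGrpd 𝒴.p) (φ : FIso 𝒳 𝒴)
    (q : AlgSt.Points 𝒴) : tauPts φ (tauPts (symmFIso h𝒳 h𝒴 φ) q) = q := by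
  obtain ⟨p, rfl⟩ := AlgSt.Points.mk_surjective q
  rw [tauPts_mk, tauPts_mk]
  refine AlgSt.Points.sound ?_
  have h2 : cls (rep (φ.toEquiv (Over.mk p.str) (cls (fo (tau (symmFIso h𝒳 h𝒴 φ) p))))) =
      cls (fo p) := by
    exact (cls_rep _).trans ((congrArg (φ.toEquiv (Over.mk p.str))
      (cls_rep _ : cls (fo (tau (symmFIso h𝒳 h𝒴 φ) p)) = (φ.toEquiv _).symm (cls (fo p)))).trans
      (Equiv.apply_symm_apply _ _))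
  exact rel_of_cls_eq p.K p.str _ (fo p) h2

lemma isCompact_preimage_tauPts (h𝒳 : AlgSt.IsAlgStack Scheme.fppfPrecoverage 𝒳)
    (h𝒴 : AlgSt.IsAlgStack Scheme.fppfPrecoverage 𝒴) (φ : FIso 𝒳 𝒴)
    {T' : Set (AlgSt.Points 𝒴)} (hT' : IsCompact T') : IsCompact (tauPts φ ⁻¹' T') := by
  have h1 : tauPts φ ⁻¹' T' = tauPts (symmFIso h𝒳.isStack.1 h𝒴.isStack.1 φ) '' T' := by
    ext q
    constructor
    · intro hq
      exact ⟨tauPts φ q, hq, tauPts_symm_tauPts _ _ φ q⟩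
    · rintro ⟨q', hq', rfl⟩
      show tauPts φ (tauPts (symmFIso h𝒳.isStack.1 h𝒴.isStack.1 φ) q') ∈ T'
      rw [tauPts_tauPts_symm]
      exact hq'
  rw [h1]
  exact hT'.image (Groth.Agent.H4.IsoD.continuous_tauPts h𝒳 _)

/-- an open immersion of algebraic stacks is an open embedding on points -/
theorem isOpenEmbedding_points_map (h𝒜 : AlgSt.IsAlgStack Scheme.fppfPrecoverage 𝒜)
    (hℬ : AlgSt.IsAlgStack Scheme.fppfPrecoverage ℬ) (i : 𝒜 ⥤ᵇ ℬ) (hi : AlgSt.IsOpenImm i) :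
    Topology.IsOpenEmbedding (AlgSt.Points.map i) := by
  have : i.toFunctor.Full := Groth.Agent.H3.MonoFull.full_of_isMono h𝒜.isStack.1 hℬ.isStack.1 i
    (Groth.Agent.H4.IsoB.isMono_of_isOpenImm i hi)
  exact .of_continuous_injective_isOpenMap (continuous_points_map hℬ i)
    (points_map_injective_of_full h𝒜.isStack.1 hℬ.isStack.1 i)
    (isOpenMor_of_isOpenImm h𝒜 hℬ i hi)

theorem isQuasiCompact_iff_isCompact_range (h𝒜 : AlgSt.IsAlgStack Scheme.fppfPrecoverage 𝒜)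
    (hℬ : AlgSt.IsAlgStack Scheme.fppfPrecoverage ℬ) (i : 𝒜 ⥤ᵇ ℬ) (hi : AlgSt.IsOpenImm i) :
    AlgSt.IsQuasiCompact 𝒜 ↔ IsCompact (Set.range (AlgSt.Points.map i)) := by
  rw [isQuasiCompact_iff_compactSpace h𝒜, ← isCompact_univ_iff,
    (isOpenEmbedding_points_map h𝒜 hℬ i hi).isInducing.isCompact_iff, Set.image_univ]

theorem range_fpSnd (h𝒳 : FibCat.IsFibGrpd 𝒳.p) (h𝒴 : FibCat.IsFibGrpd 𝒴.p)
    (h𝒜 : FibCat.IsFibGrpd 𝒜.p) (j : 𝒜 ⥤ᵇ 𝒴) (f : 𝒳 ⥤ᵇ 𝒴) :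
    Set.range (AlgSt.Points.map (FibCat.fpSnd j f)) =
      AlgSt.Points.map f ⁻¹' Set.range (AlgSt.Points.map j) := by
  ext x
  constructor
  · rintro ⟨w, rfl⟩
    refine ⟨AlgSt.Points.map (FibCat.fpFst j f) w, ?_⟩
    rw [← points_map_comp, ← points_map_comp]
    exact points_map_congr (FibCat.fpIso j f) w
  · rintro ⟨b, hb⟩
    obtain ⟨w, -, hw⟩ := exists_point_fp h𝒳 h𝒴 h𝒜 f j b x hb
    exact ⟨w, hw⟩

/-- the topological form of quasi-compactness of a 1-morphism -/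
def TQC (f : 𝒳 ⥤ᵇ 𝒴) : Prop :=
  ∀ T : Set (AlgSt.Points 𝒴), IsOpen T → IsCompact T → IsCompact (AlgSt.Points.map f ⁻¹' T)

theorem tqc_of_isQuasiCompactMor (h𝒳 : AlgSt.IsAlgStack Scheme.fppfPrecoverage 𝒳)
    (h𝒴 : AlgSt.IsAlgStack Scheme.fppfPrecoverage 𝒴) (f : 𝒳 ⥤ᵇ 𝒴)
    (hf : AlgSt.IsQuasiCompactMor Scheme.fppfPrecoverage f) : TQC f := by
  intro T hTo hTc
  have hQ := isOpenSubstack_subOf h𝒴 T hTo
  have hr : Set.range (AlgSt.Points.map (AlgSt.subIncl 𝒴 (subOf T))) = T := range_subIncl_subOf T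
  have hqc : AlgSt.IsQuasiCompact (AlgSt.fullSub 𝒴 (subOf T)) := by
    rw [isQuasiCompact_iff_isCompact_range hQ.2.1 h𝒴 _ hQ.2.2, hr]
    exact hTc
  have h1 := hf _ hQ.2.1 hqc (AlgSt.subIncl 𝒴 (subOf T))
  have hP : AlgSt.IsAlgStack Scheme.fppfPrecoverage (FibCat.fp (AlgSt.subIncl 𝒴 (subOf T)) f) :=
    isAlgStack_fp h𝒴.isStack h𝒴.diag hQ.2.1 h𝒳 _ f
  have hc : CompactSpace (AlgSt.Points (FibCat.fp (AlgSt.subIncl 𝒴 (subOf T)) f)) :=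
    (isQuasiCompact_iff_compactSpace hP).1 h1
  have h2 : IsCompact (Set.range (AlgSt.Points.map
      (FibCat.fpSnd (AlgSt.subIncl 𝒴 (subOf T)) f))) :=
    isCompact_range (continuous_points_map h𝒳 _)
  rw [range_fpSnd h𝒳.isStack.1 h𝒴.isStack.1 hQ.2.1.isStack.1, hr] at h2
  exact h2

theorem isQuasiCompactMor_of_tqc [QuasiSeparatedSpace ↥S]
    (h𝒳 : AlgSt.IsAlgStack Scheme.fppfPrecoverage 𝒳)
    (h𝒴 : AlgSt.IsAlgStack Scheme.fppfPrecoverage 𝒴)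
    (h𝒴d : AlgSt.RepByAlgSpWith (AlgSp.IsSeparatedMor ⊓ AlgSp.IsQuasiCompactMor)
      (FibCat.diag (FibCat.toSelf 𝒴)))
    (f : 𝒳 ⥤ᵇ 𝒴) (h : TQC f) : AlgSt.IsQuasiCompactMor Scheme.fppfPrecoverage f := by
  apply Groth.Agent.H4.QcoA.main h𝒳 h𝒴 h𝒴d f
  intro 𝒴'' h𝒴'' hqc j hj
  have hT : IsCompact (Set.range (AlgSt.Points.map j)) :=
    (isQuasiCompact_iff_isCompact_range h𝒴'' h𝒴 j hj).1 hqc
  have hTo : IsOpen (Set.range (AlgSt.Points.map j)) :=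
    (isOpenEmbedding_points_map h𝒴'' h𝒴 j hj).isOpen_range
  have h1 := h _ hTo hT
  have hP : AlgSt.IsAlgStack Scheme.fppfPrecoverage (FibCat.fp j f) :=
    isAlgStack_fp h𝒴.isStack h𝒴.diag h𝒴'' h𝒳 j f
  have hsnd : AlgSt.IsOpenImm (FibCat.fpSnd j f) := repByAlgSpWith_fpSnd _ j f hj
  rw [isQuasiCompact_iff_isCompact_range hP h𝒳 _ hsnd,
    range_fpSnd h𝒳.isStack.1 h𝒴.isStack.1 h𝒴''.isStack.1]
  exact h1

theorem tqc_of_fIsoSq (h𝒳 : AlgSt.IsAlgStack Scheme.fppfPrecoverage 𝒳)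
    (h𝒴 : AlgSt.IsAlgStack Scheme.fppfPrecoverage 𝒴)
    (h𝒳' : AlgSt.IsAlgStack Scheme.fppfPrecoverage 𝒳')
    (h𝒴' : AlgSt.IsAlgStack Scheme.fppfPrecoverage 𝒴')
    (f : 𝒳 ⥤ᵇ 𝒴) (f' : 𝒳' ⥤ᵇ 𝒴') (φ : FIsoSq f f') (h : TQC f) : TQC f' := by
  intro T' hTo hTc
  have hT1 : IsOpen (tauPts φ.tgt ⁻¹' T') :=
    (Groth.Agent.H4.IsoD.continuous_tauPts h𝒴' φ.tgt).isOpen_preimage T' hTo
  have hT2 : IsCompact (tauPts φ.tgt ⁻¹' T') := isCompact_preimage_tauPts h𝒴 h𝒴' φ.tgt hTc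
  have h1 := h _ hT1 hT2
  have h2 : AlgSt.Points.map f' ⁻¹' T' =
      tauPts φ.src '' (AlgSt.Points.map f ⁻¹' (tauPts φ.tgt ⁻¹' T')) := by
    ext x'
    constructor
    · intro hx'
      obtain ⟨x, rfl⟩ := tauPts_surjective φ.src x'
      refine ⟨x, ?_, rfl⟩
      show tauPts φ.tgt (AlgSt.Points.map f x) ∈ T'
      rw [← tauPts_map f f' φ x]
      exact hx'
    · rintro ⟨x, hx, rfl⟩
      show AlgSt.Points.map f' (tauPts φ.src x) ∈ T'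
      rw [tauPts_map f f' φ x]
      exact hx
  rw [h2]
  exact h1.image (Groth.Agent.H4.IsoD.continuous_tauPts h𝒳' φ.src)

theorem main [QuasiSeparatedSpace ↥S]
    (h𝒳 : AlgSt.IsAlgStack Scheme.fppfPrecoverage 𝒳)
    (h𝒴 : AlgSt.IsAlgStack Scheme.fppfPrecoverage 𝒴)
    (h𝒳' : AlgSt.IsAlgStack Scheme.fppfPrecoverage 𝒳')
    (h𝒴' : AlgSt.IsAlgStack Scheme.fppfPrecoverage 𝒴')
    (h𝒴'd : AlgSt.RepByAlgSpWith (AlgSp.IsSeparatedMor ⊓ AlgSp.IsQuasiCompactMor)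
      (FibCat.diag (FibCat.toSelf 𝒴')))
    (f : 𝒳 ⥤ᵇ 𝒴) (f' : 𝒳' ⥤ᵇ 𝒴') (φ : FIsoSq f f')
    (hf : AlgSt.IsQuasiCompactMor Scheme.fppfPrecoverage f) :
    AlgSt.IsQuasiCompactMor Scheme.fppfPrecoverage f' :=
  isQuasiCompactMor_of_tqc h𝒳' h𝒴' h𝒴'd f'
    (tqc_of_fIsoSq h𝒳 h𝒴 h𝒳' h𝒴' f f' φ (tqc_of_isQuasiCompactMor h𝒳 h𝒴 f hf))

end Groth.Agent.H4.IsoE
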