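import Mathlib
import Groth.Prelude.Def_K0Var

set_option autoImplicit false
universe u
open CategoryTheory CategoryTheory.Limits AlgebraicGeometry

namespace Groth.Agent.H4.K0Fib

variable {k : Type u} [Field k] {F : Scheme.{u}} (pF : F ⟶ Spec (CommRingCat.of k))

/-- `f : X ⟶ Y` is a trivial fibration with fibre `F` (over `Spec k`). -/
def Triv {X Y : Scheme.{u}} (f : X ⟶ Y) (pY : Y ⟶ Spec (CommRingCat.of k)) : Prop :=
  ∃ g : X ⟶ F, IsPullback f g pY pF

lemma cl_eq_of_eq {S X : Scheme.{u}} {f g : X ⟶ S} [LocallyOfFiniteType f] [QuasiCompact f]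
    [LocallyOfFiniteType g] [QuasiCompact g] (h : f = g) : K0Var.cl f = K0Var.cl g := by
  subst h; rfl

lemma range_fst_of_isPullback {P X Y S : Scheme.{u}} {fst : P ⟶ X} {snd : P ⟶ Y} {f : X ⟶ S}
    {g : Y ⟶ S} (h : IsPullback fst snd f g) : Set.range fst = f ⁻¹' Set.range g := by
  rw [← Scheme.Pullback.range_fst, ← h.isoPullback_hom_fst, Scheme.Hom.comp_base, TopCat.coe_comp,
    Set.range_comp, Set.range_eq_univ.mpr, Set.image_univ]
  intro x
  exact ⟨h.isoPullback.inv x, by rw [← Scheme.Hom.comp_apply, Iso.inv_hom_id]; simp⟩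

variable [LocallyOfFiniteType pF] [QuasiCompact pF]

lemma triv_cl {X Y : Scheme.{u}} (f : X ⟶ Y) (pY : Y ⟶ Spec (CommRingCat.of k))
    [LocallyOfFiniteType pY] [QuasiCompact pY] [LocallyOfFiniteType f] [QuasiCompact f]
    (h : Triv pF f pY) : K0Var.cl (f ≫ pY) = K0Var.cl pY * K0Var.cl pF := by
  obtain ⟨g, hg⟩ := h
  rw [← K0Var.cl_mul pY pF]
  exact K0Var.cl_congr _ _ hg.isoPullback (by rw [← Category.assoc, hg.isoPullback_hom_fst])

omit [LocallyOfFiniteType pF] [QuasiCompact pF] in
lemma triv_bc {X Y W XW : Scheme.{u}} {f : X ⟶ Y} {pY : Y ⟶ Spec (CommRingCat.of k)}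
    (h : Triv pF f pY) (a : W ⟶ Y) (p : XW ⟶ X) (q : XW ⟶ W) (hpb : IsPullback p q f a) :
    Triv pF q (a ≫ pY) := by
  obtain ⟨g, hg⟩ := h
  exact ⟨p ≫ g, (hpb.paste_horiz hg.flip).flip⟩

theorem main (n : ℕ) : ∀ {X Y : Scheme.{u}} (pY : Y ⟶ Spec (CommRingCat.of k))
    [LocallyOfFiniteType pY] [QuasiCompact pY]
    (f : X ⟶ Y) [LocallyOfFiniteType f] [QuasiCompact f]
    (V : Fin n → Scheme.{u}) (j : ∀ i, V i ⟶ Y) (_ : ∀ i, IsOpenImmersion (j i))
    (_ : ∀ y : Y, ∃ i, y ∈ Set.range (j i))
    (XV : Fin n → Scheme.{u}) (a : ∀ i, XV i ⟶ X) (b : ∀ i, XV i ⟶ V i)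
    (_ : ∀ i, IsPullback (a i) (b i) f (j i)) (_ : ∀ i, Triv pF (b i) (j i ≫ pY)),
    K0Var.cl (f ≫ pY) = K0Var.cl pY * K0Var.cl pF := by
  induction n with
  | zero =>
    intro X Y pY _ _ f _ _ V j hj hcov XV a b hpb ht
    have hY : IsEmpty Y := ⟨fun y => (hcov y).elim fun i _ => i.elim0⟩
    have hX : IsEmpty X := ⟨fun x => hY.false (f x)⟩
    have h1 : K0Var.cl (f ≫ pY) = 0 :=
      @K0Var.Gen.cl_eq_zero_of_isEmpty _ (K0Var.Gen.mk X (f ≫ pY)) hX
    have h2 : K0Var.cl pY = 0 :=
      @K0Var.Gen.cl_eq_zero_of_isEmpty _ (K0Var.Gen.mk Y pY) hY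
    rw [h1, h2, zero_mul]
  | succ n ih =>
    intro X Y pY _ _ f _ _ V j hj hcov XV a b hpb ht
    haveI : IsLocallyNoetherian Y := LocallyOfFiniteType.isLocallyNoetherian pY
    haveI : IsLocallyNoetherian X := LocallyOfFiniteType.isLocallyNoetherian f
    haveI := hj 0
    haveI : IsOpenImmersion (a 0) :=
      MorphismProperty.of_isPullback (P := @IsOpenImmersion) (hpb 0).flip inferInstance
    haveI : LocallyOfFiniteType (b 0) :=
      MorphismProperty.of_isPullback (P := @LocallyOfFiniteType) (hpb 0) inferInstance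
    haveI : QuasiCompact (b 0) :=
      MorphismProperty.of_isPullback (P := @QuasiCompact) (hpb 0) inferInstance
    -- the closed complement with reduced structure
    let Zc : TopologicalSpace.Closeds Y :=
      ⟨(Set.range (j 0))ᶜ, (j 0).isOpenEmbedding.isOpen_range.isClosed_compl⟩
    let I := Scheme.IdealSheafData.vanishingIdeal Zc
    let i : I.subscheme ⟶ Y := I.subschemeι
    have hri : Set.range i = (Set.range (j 0))ᶜ := by
      rw [Scheme.IdealSheafData.range_subschemeι, Scheme.IdealSheafData.coe_support_vanishingIdeal]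
      rfl
    have hYc : K0Var.cl pY = K0Var.cl (i ≫ pY) + K0Var.cl (j 0 ≫ pY) :=
      K0Var.cl_scissor pY i (j 0) hri
    let p : pullback f i ⟶ X := pullback.fst f i
    let q : pullback f i ⟶ I.subscheme := pullback.snd f i
    have hrp : Set.range p = (Set.range (a 0))ᶜ := by
      rw [Scheme.Pullback.range_fst, hri, range_fst_of_isPullback (hpb 0)]
      rfl
    have hXc : K0Var.cl (f ≫ pY) = K0Var.cl (p ≫ f ≫ pY) + K0Var.cl (a 0 ≫ f ≫ pY) :=
      K0Var.cl_scissor (f ≫ pY) p (a 0) hrp
    -- the open piece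
    have hopen : K0Var.cl (a 0 ≫ f ≫ pY) = K0Var.cl (j 0 ≫ pY) * K0Var.cl pF := by
      rw [← triv_cl pF (b 0) (j 0 ≫ pY) (ht 0)]
      exact cl_eq_of_eq (by rw [← Category.assoc, (hpb 0).w, Category.assoc])
    -- the closed piece, by induction
    have hclosed : K0Var.cl (p ≫ f ≫ pY) = K0Var.cl (i ≫ pY) * K0Var.cl pF := by
      have hIH := ih (i ≫ pY) q (fun m => pullback (j m.succ) i)
        (fun m => pullback.snd (j m.succ) i) (fun m => by haveI := hj m.succ; infer_instance)
        (by
          intro z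
          obtain ⟨m0, hm0⟩ := hcov (i z)
          have hne : m0 ≠ 0 := by
            rintro rfl
            have : i z ∈ (Set.range (j 0))ᶜ := hri ▸ Set.mem_range_self z
            exact this hm0
          obtain ⟨m, rfl⟩ := Fin.exists_succ_eq.mpr hne
          refine ⟨m, ?_⟩
          rw [Scheme.Pullback.range_snd]
          exact hm0)
        (fun m => pullback (b m.succ) (pullback.fst (j m.succ) i))
        (fun m => (IsPullback.of_hasPullback f i).lift
          (pullback.fst (b m.succ) (pullback.fst (j m.succ) i) ≫ a m.succ)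
          (pullback.snd (b m.succ) (pullback.fst (j m.succ) i) ≫ pullback.snd (j m.succ) i)
          (by
            rw [Category.assoc, (hpb m.succ).w, ← Category.assoc, pullback.condition,
              Category.assoc, pullback.condition, Category.assoc]))
        (fun m => pullback.snd (b m.succ) (pullback.fst (j m.succ) i))
        (fun m => by
          have s := (IsPullback.of_hasPullback (b m.succ) (pullback.fst (j m.succ) i)).paste_horiz
            (hpb m.succ)
          rw [pullback.condition] at s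
          exact IsPullback.of_right' s (IsPullback.of_hasPullback f i))
        (fun m => by
          have h := triv_bc pF (ht m.succ) (pullback.fst (j m.succ) i)
            (pullback.fst (b m.succ) (pullback.fst (j m.succ) i))
            (pullback.snd (b m.succ) (pullback.fst (j m.succ) i)) (IsPullback.of_hasPullback _ _)
          rw [pullback.condition_assoc] at h
          exact h)
      rw [← hIH]
      exact cl_eq_of_eq (by rw [pullback.condition_assoc])
    rw [hXc, hclosed, hopen, hYc]
    ring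

end Groth.Agent.H4.K0Fib
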