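import Mathlib
import Groth.Agent.Lib.Helper2.KThick3
import Groth.Agent.H4.KosPerf
import Groth.Agent.H4.DRing2
import Groth.Agent.H4.PC2
import Groth.Agent.Lib.Helper2.Kos4
import Groth.Agent.Lib.Helper1.TorKos2
import Groth.Agent.Lib.Helper1.HerbSmul

set_option autoImplicit false
universe u
attribute [local instance] HasDerivedCategory.standard
open CategoryTheory CategoryTheory.Limits DerivedCategory DRing Pretriangulated
open Groth.Agent.H4.DRing1 Groth.Agent.H4.PC Groth.Agent.H2.KThick

namespace Groth.Agent.H4.K0Kos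

variable (R : Type u) [CommRing R]

/-- finite length modules -/
def PFL : ObjectProperty (ModuleCat.{u} R) := fun M => IsFiniteLength R M

instance : (PFL R).IsClosedUnderIsomorphisms :=
  ⟨fun e h => e.toLinearEquiv.isFiniteLength h⟩

instance : (PFL R).ContainsZero :=
  ⟨⟨ModuleCat.of R PUnit, ModuleCat.isZero_of_subsingleton _, IsFiniteLength.of_subsingleton⟩⟩

instance : (PFL R).IsClosedUnderSubobjects :=
  ⟨fun f _ h => IsFiniteLength.of_injective (f := f.hom) h
    ((ModuleCat.mono_iff_injective f).1 inferInstance)⟩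

variable [IsLocalRing R]

/-- dévissage for finite length modules over a local ring -/
theorem fl_induction (motive : ModuleCat.{u} R → Prop)
    (h0 : ∀ M : ModuleCat.{u} R, IsZero M → motive M)
    (hses : ∀ S : ShortComplex (ModuleCat.{u} R), S.ShortExact → motive S.X₁ →
      Nonempty (S.X₃ ≅ ModuleCat.of R (R ⧸ IsLocalRing.maximalIdeal R)) →
      IsFiniteLength R S.X₁ → IsFiniteLength R S.X₂ → motive S.X₂)
    (M : Type u) [AddCommGroup M] [Module R M] (h : IsFiniteLength R M) :
    motive (ModuleCat.of R M) := by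
  induction h with
  | of_subsingleton => exact h0 _ (ModuleCat.isZero_of_subsingleton _)
  | @of_simple_quotient M _ _ N hs hN ih =>
    obtain ⟨I, hI, ⟨e⟩⟩ := isSimpleModule_iff_quot_maximal.mp hs
    obtain rfl := IsLocalRing.eq_maximalIdeal hI
    let S : ShortComplex (ModuleCat.{u} R) :=
      ShortComplex.mk (ModuleCat.ofHom N.subtype) (ModuleCat.ofHom N.mkQ) (by
        ext x
        simp)
    have hS : S.ShortExact := by
      refine ShortComplex.ShortExact.mk' ?_ ?_ ?_
      · rw [ShortComplex.ShortExact.moduleCat_exact_iff_function_exact]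
        intro y
        change N.mkQ y = 0 ↔ y ∈ Set.range N.subtype
        rw [Submodule.mkQ_apply, Submodule.Quotient.mk_eq_zero]
        simp
      · rw [ModuleCat.mono_iff_injective]
        exact N.injective_subtype
      · rw [ModuleCat.epi_iff_surjective]
        exact N.mkQ_surjective
    have hM : IsFiniteLength R M := IsFiniteLength.of_simple_quotient hN
    exact hses S hS ih ⟨e.toModuleIso⟩ hN hM

/-! ### finite length and support -/

omit [IsLocalRing R] in
lemma isFiniteLength_of_support [IsNoetherianRing R] [IsLocalRing R]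
    (M : Type u) [AddCommGroup M] [Module R M] [Module.Finite R M]
    (h : Module.support R M ⊆ {IsLocalRing.closedPoint R}) : IsFiniteLength R M := by
  rw [Groth.Agent.H1.HerbSmul.isFiniteLength_iff_supportDim_le_zero]
  unfold Module.supportDim
  haveI : Subsingleton (Module.support R M) :=
    ⟨fun a b => Subtype.ext ((h a.2).trans (h b.2).symm)⟩
  exact Order.krullDim_nonpos_of_subsingleton

lemma support_quot_maximal :
    Module.support R (R ⧸ IsLocalRing.maximalIdeal R) ⊆ {IsLocalRing.closedPoint R} := by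
  intro p hp
  have h1 := Module.annihilator_le_of_mem_support hp
  rw [Ideal.annihilator_quotient] at h1
  have h2 : IsLocalRing.maximalIdeal R = p.asIdeal :=
    (IsLocalRing.maximalIdeal.isMaximal R).eq_of_le p.2.ne_top h1
  rw [Set.mem_singleton_iff]
  exact PrimeSpectrum.ext h2.symm

lemma support_subset_of_isFiniteLength (M : Type u) [AddCommGroup M] [Module R M]
    (h : IsFiniteLength R M) : Module.support R M ⊆ {IsLocalRing.closedPoint R} := by
  refine fl_induction R (fun M => Module.support R M ⊆ {IsLocalRing.closedPoint R}) ?_ ?_ M h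
  · intro M hM
    haveI := ModuleCat.subsingleton_of_isZero hM
    rw [Module.support_eq_empty]
    exact Set.empty_subset _
  · intro S hS h1 ⟨e⟩ _ _
    have hex := (ShortComplex.ShortExact.moduleCat_exact_iff_function_exact S).1 hS.exact
    have hinj : Function.Injective S.f.hom := (ModuleCat.mono_iff_injective _).1 hS.mono_f
    have hsurj : Function.Surjective S.g.hom := (ModuleCat.epi_iff_surjective _).1 hS.epi_g
    rw [Module.support_of_exact hex hinj hsurj]
    refine Set.union_subset h1 ?_
    rw [e.toLinearEquiv.support_eq]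
    exact support_quot_maximal R

/-! ### perfect with punctual support = bounded with finite length cohomology -/

lemma isZero_homology_of_isZero_X (E : Cx R) (i : ℤ) (h : IsZero (E.X i)) :
    IsZero (E.homology i) := by
  apply HomologicalComplex.ExactAt.isZero_homology
  exact HomologicalComplex.ExactAt.of_isZero h

omit [IsLocalRing R] in
lemma finite_homology' [IsNoetherianRing R] (E : Cx R) (j : ℤ) [Module.Finite R (E.X j)] :
    Module.Finite R (E.homology j) := by
  have : Module.Finite R (E.sc j).X₂ := inferInstanceAs (Module.Finite R (E.X j))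
  have : IsNoetherian R (E.sc j).X₂ := isNoetherian_of_isNoetherianRing_of_finite R _
  have : Module.Finite R (E.sc j).moduleCatLeftHomologyData.H :=
    inferInstanceAs (Module.Finite R (LinearMap.ker (E.sc j).g.hom ⧸
      LinearMap.range (E.sc j).moduleCatToCycles))
  exact Module.Finite.equiv (E.sc j).moduleCatHomologyIso.toLinearEquiv.symm

omit [IsLocalRing R] in
theorem Q_of_P [IsNoetherianRing R] [IsLocalRing R] (K : Dual.D R) (hK : IsPerfect R K)
    (hs : ∀ i : ℤ, Module.support R (Dual.HD R K i) ⊆ {IsLocalRing.closedPoint R}) :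
    Q (PFL R) K := by
  obtain ⟨E, a, b, hE, hfp, ⟨e⟩⟩ := hK
  have hiso : ∀ i : ℤ, (homologyFunctor (ModuleCat.{u} R) i).obj K ≅ E.homology i := fun i =>
    (homologyFunctor (ModuleCat.{u} R) i).mapIso e.symm ≪≫ homologyToDIso E i
  have hfin : ∀ i : ℤ, Module.Finite R ((homologyFunctor (ModuleCat.{u} R) i).obj K) := by
    intro i
    haveI := (hfp i).1
    have h1 : Module.Finite R (E.homology i) :=
      finite_homology' R E i
    exact Module.Finite.equiv (hiso i).toLinearEquiv.symm
  refine ⟨fun i => ?_, a, b, ?_, ?_⟩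
  · haveI := hfin i
    exact isFiniteLength_of_support R _ (hs i)
  · change K.IsGE a
    rw [DerivedCategory.isGE_iff]
    intro i hi
    exact (isZero_homology_of_isZero_X R E i (hE i (Or.inl hi))).of_iso (hiso i)
  · change K.IsLE b
    rw [DerivedCategory.isLE_iff]
    intro i hi
    exact (isZero_homology_of_isZero_X R E i (hE i (Or.inr hi))).of_iso (hiso i)

/-- finite length modules are perfect once the residue field is -/
theorem isPerfectModule_of_isFiniteLength
    (hk : IsPerfectModule R (R ⧸ IsLocalRing.maximalIdeal R))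
    (M : Type u) [AddCommGroup M] [Module R M] (h : IsFiniteLength R M) :
    IsPerfectModule R M := by
  refine fl_induction R (fun M => IsPerfect R
    ((DerivedCategory.singleFunctor (ModuleCat.{u} R) 0).obj M)) ?_ ?_ M h
  · intro M hM
    exact Groth.Agent.H4.DRing1.isPerfect_of_isZero _
      ((DerivedCategory.singleFunctor (ModuleCat.{u} R) 0).map_isZero hM)
  · intro S hS h1 ⟨e⟩ _ _
    have h3 : IsPerfect R ((DerivedCategory.singleFunctor (ModuleCat.{u} R) 0).obj S.X₃) :=
      isPerfect_of_iso ((DerivedCategory.singleFunctor (ModuleCat.{u} R) 0).mapIso e.symm) hk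
    exact (isPerfect_two_out_of_three _ hS.singleTriangle_distinguished).2.1 h1 h3

open Groth.Agent.H2.DTrunc in
theorem isPerfect_of_Q_aux (hk : IsPerfectModule R (R ⧸ IsLocalRing.maximalIdeal R)) (n : ℕ) :
    ∀ (K : Dual.D R) (a b : ℤ) (_ : tt.IsGE K a) (_ : tt.IsLE K b) (_ : b < a + n)
      (_ : Q (PFL R) K), IsPerfect R K := by
  induction n with
  | zero =>
    intro K a b _ _ hab hK
    have hz : IsZero K := tt.isZero K b a (by simpa using hab)
    exact Groth.Agent.H4.DRing1.isPerfect_of_isZero _ hz
  | succ n ih =>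
    intro K a b _ _ hab hK
    have hT := tt.triangleLTGE_distinguished b K
    have h₁ : Q (PFL R) ((tt.truncLT b).obj K) := Q_truncLT (PFL R) hK b
    have h₃ : Q (PFL R) ((tt.truncGE b).obj K) := Q_truncGE (PFL R) hK b
    have e₁ := ih ((tt.truncLT b).obj K) a (b - 1) inferInstance inferInstance
      (by push_cast at hab; omega) h₁
    obtain ⟨Y, ⟨e⟩⟩ := exists_iso_singleFunctor_obj_of_isGE_of_isLE ((tt.truncGE b).obj K) b
    have hY : PFL R Y := by
      have h3 := (Q_of_iso (PFL R) e h₃).1 b
      exact (PFL R).prop_of_iso (homologySingleIso Y b) h3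
    have hY0 : IsPerfect R ((DerivedCategory.singleFunctor (ModuleCat.{u} R) 0).obj Y) :=
      isPerfectModule_of_isFiniteLength R hk Y hY
    have eY : ((DerivedCategory.singleFunctor (ModuleCat.{u} R) 0).obj Y)⟦-b⟧ ≅
        (DerivedCategory.singleFunctor (ModuleCat.{u} R) b).obj Y :=
      ((DerivedCategory.singleFunctors (ModuleCat.{u} R)).shiftIso (-b) b 0 (by omega)).app Y
    have e₃ : IsPerfect R ((tt.truncGE b).obj K) :=
      isPerfect_of_iso (eY ≪≫ e.symm) (isPerfect_shift _ (-b) hY0)
    exact (isPerfect_two_out_of_three _ hT).2.1 e₁ e₃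

theorem P_of_Q (hk : IsPerfectModule R (R ⧸ IsLocalRing.maximalIdeal R)) (K : Dual.D R)
    (hK : Q (PFL R) K) :
    IsPerfect R K ∧
      ∀ i : ℤ, Module.support R (Dual.HD R K i) ⊆ {IsLocalRing.closedPoint R} := by
  refine ⟨?_, fun i => support_subset_of_isFiniteLength R _ (hK.1 i)⟩
  obtain ⟨h, a, b, ha, hb⟩ := hK
  exact isPerfect_of_Q_aux R hk (b - a + 1).toNat K a b ha hb (by omega) ⟨h, a, b, ha, hb⟩

/-! ### generation of `K₀` of finite length modules by the residue field -/

theorem clSub_mem_closure (M : Type u) [AddCommGroup M] [Module R M] (h : IsFiniteLength R M) :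
    KZero.clSub (PFL R) (ModuleCat.of R M) ∈ AddSubgroup.closure
      {KZero.clSub (PFL R) (ModuleCat.of R (R ⧸ IsLocalRing.maximalIdeal R))} := by
  refine fl_induction R (fun M => KZero.clSub (PFL R) M ∈ AddSubgroup.closure
      {KZero.clSub (PFL R) (ModuleCat.of R (R ⧸ IsLocalRing.maximalIdeal R))}) ?_ ?_ M h
  · intro M hM
    rw [cl_zero (PFL R) hM]
    exact AddSubgroup.zero_mem _
  · intro S hS h1 ⟨e⟩ hX1 hX2
    have hsurj : Function.Surjective S.g.hom := (ModuleCat.epi_iff_surjective _).1 hS.epi_g
    have hX3 : PFL R S.X₃ := IsFiniteLength.of_surjective (f := S.g.hom) hX2 hsurj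
    rw [cl_ses (PFL R) S hS hX1 hX2 hX3, cl_iso (PFL R) e hX3]
    exact AddSubgroup.add_mem _ h1 (AddSubgroup.subset_closure rfl)

theorem closure_clSub_eq_top :
    AddSubgroup.closure
      {KZero.clSub (PFL R) (ModuleCat.of R (R ⧸ IsLocalRing.maximalIdeal R))} = ⊤ := by
  rw [eq_top_iff]
  intro x _
  clear ‹x ∈ (⊤ : AddSubgroup _)›
  induction x using QuotientAddGroup.induction_on with
  | H x =>
    induction x using FreeAbelianGroup.induction_on with
    | zero => exact AddSubgroup.zero_mem _
    | of X =>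
      have h1 : (QuotientAddGroup.mk (FreeAbelianGroup.of X) : KZero.K0sub (PFL R)) =
        KZero.clSub (PFL R) X.1 := (clSub_eq (PFL R) X.2).symm
      rw [h1]
      exact clSub_mem_closure R X.1 X.2
    | neg X hX =>
      rw [QuotientAddGroup.mk_neg]
      exact AddSubgroup.neg_mem _ hX
    | add x y hx hy =>
      rw [QuotientAddGroup.mk_add]
      exact AddSubgroup.add_mem _ hx hy

/-! ### the Koszul complex -/

omit [IsLocalRing R] in
theorem isKoszulRegularSeq_of_isWeaklyRegular (fs : List R)
    (hreg : RingTheory.Sequence.IsWeaklyRegular R fs) : LCI.IsKoszulRegularSeq R fs := by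
  intro i hi
  have key : ∀ K K' : CochainComplex (ModuleCat.{u} R) ℤ, K = K' →
      IsZero (K'.homology i) → IsZero (K.homology i) := by
    rintro K K' rfl h
    exact h
  exact key _ _ (Groth.Agent.Lib.Helper1.TorKos.koszul_eq fs)
    (Groth.Agent.H2.Kos.isZero_koszulH_of_isWeaklyRegular fs R hreg i hi)

theorem nonempty_koszul_iso_residue (fs : List R) (hreg : RingTheory.Sequence.IsRegular R fs)
    (hgen : Ideal.ofList fs = IsLocalRing.maximalIdeal R) :
    Nonempty (toD (Koszul.koszul R fs) ≅ Dual.inD R (R ⧸ IsLocalRing.maximalIdeal R)) := by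
  have h := Groth.Agent.H4.KosPerf.nonempty_koszul_iso fs
    (isKoszulRegularSeq_of_isWeaklyRegular R fs hreg.toIsWeaklyRegular)
  have h2 : Ideal.span {x | x ∈ fs} = IsLocalRing.maximalIdeal R := hgen
  rw [h2] at h
  exact h

/-! ### the main theorem -/

omit [IsLocalRing R] in
theorem S14001 [IsNoetherianRing R] [IsLocalRing R] (fs : List R)
    (hreg : RingTheory.Sequence.IsRegular R fs)
    (hgen : Ideal.ofList fs = IsLocalRing.maximalIdeal R) :
    AddSubgroup.closure
        {KZero.clTr (fun K : Dual.D R => DRing.IsPerfect R K ∧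
            ∀ i : ℤ, Module.support R (Dual.HD R K i) ⊆ {IsLocalRing.closedPoint R})
          (DRing.toD (Koszul.koszul R fs))} = ⊤ := by
  obtain ⟨eK⟩ := nonempty_koszul_iso_residue R fs hreg hgen
  have hk : IsPerfectModule R (R ⧸ IsLocalRing.maximalIdeal R) :=
    isPerfect_of_iso eK (Groth.Agent.H4.KosPerf.isPerfect_koszul fs)
  have hP : (fun K : Dual.D R => DRing.IsPerfect R K ∧
      ∀ i : ℤ, Module.support R (Dual.HD R K i) ⊆ {IsLocalRing.closedPoint R}) = Q (PFL R) :=
    funext fun K => propext ⟨fun h => Q_of_P R K h.1 h.2, P_of_Q R hk K⟩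
  rw [hP]
  obtain ⟨φ, hφ⟩ := Groth.Agent.H2.KThick.main (PFL R)
  have hkFL : PFL R (ModuleCat.of R (R ⧸ IsLocalRing.maximalIdeal R)) :=
    isFiniteLength_of_support R _ (support_quot_maximal R)
  have h1 : KZero.clTr (Q (PFL R)) (toD (Koszul.koszul R fs)) =
      φ (KZero.clSub (PFL R) (ModuleCat.of R (R ⧸ IsLocalRing.maximalIdeal R))) := by
    rw [hφ _ hkFL]
    exact Groth.Agent.H2.KTr.cl_iso (Q (PFL R)) eK
      (Q_of_iso (PFL R) eK.symm (Q_single (PFL R) hkFL 0)) (Q_single (PFL R) hkFL 0)
      (Q_zero (PFL R))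
  rw [h1]
  have h2 := closure_clSub_eq_top R
  have h3 := AddMonoidHom.map_closure φ.toAddMonoidHom
    {KZero.clSub (PFL R) (ModuleCat.of R (R ⧸ IsLocalRing.maximalIdeal R))}
  rw [Set.image_singleton, h2] at h3
  rw [← AddSubgroup.map_top_of_surjective φ.toAddMonoidHom φ.surjective, h3]
  rfl

end Groth.Agent.H4.K0Kos
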