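import Mathlib
import Groth.Prelude.Def_KZero
import Groth.Prelude.Def_DRing2
import Groth.Agent.Lib.Helper2.KThick1
import Groth.Agent.Lib.Helper2.KThick2
import Groth.Agent.H4.DThick
import Groth.Agent.H4.DetQis

set_option autoImplicit false
universe u
open CategoryTheory CategoryTheory.Limits CategoryTheory.Pretriangulated

namespace Groth.Agent.H4.K0Perf

attribute [local instance] HasDerivedCategory.standard

variable {R : Type u} [CommRing R]

open DRing DerivedCategory ZeroObject
open CochainComplex (mappingCone)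
open Groth.Agent.H2 Groth.Agent.H4

variable (R) in
/-- finite projective modules -/
abbrev Pm : ObjectProperty (ModuleCat.{u} R) := fun M => Module.Finite R M ∧ Module.Projective R M

variable (R) in
/-- perfect objects -/
abbrev Pt : ObjectProperty (Dual.D R) := fun K => DRing.IsPerfect R K

instance : (Pm R).IsClosedUnderIsomorphisms where
  of_iso e h := by
    obtain ⟨h1, h2⟩ := h
    exact ⟨Module.Finite.equiv e.toLinearEquiv, Module.Projective.of_equiv e.toLinearEquiv⟩

lemma Pm_of_isZero (X : ModuleCat.{u} R) (hX : IsZero X) : Pm R X := by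
  haveI := ModuleCat.subsingleton_of_isZero hX
  exact ⟨inferInstance, inferInstance⟩

instance : (Pm R).ContainsZero where
  exists_zero := ⟨0, isZero_zero _, Pm_of_isZero _ (isZero_zero _)⟩

section Eul

/-- the `i`-th term of the Euler characteristic -/
noncomputable def eulF (E : Cx R) (i : ℤ) : KZero.K0sub (Pm R) :=
  (i.negOnePow : ℤ) • KZero.clSub (Pm R) (E.X i)

/-- the Euler characteristic of a complex -/
noncomputable def eul (E : Cx R) : KZero.K0sub (Pm R) := ∑ᶠ i : ℤ, eulF E i

lemma eulF_of_isZero (E : Cx R) (i : ℤ) (h : IsZero (E.X i)) : eulF E i = 0 := by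
  unfold eulF
  rw [KThick.cl_zero (Pm R) h, smul_zero]

lemma support_subset_Icc {G : Type*} [AddCommGroup G] (g : ℤ → G) (a b : ℤ)
    (hg : ∀ i, i < a ∨ b < i → g i = 0) : Function.support g ⊆ Set.Icc a b := by
  intro i hi
  by_contra hcon
  apply hi
  apply hg
  simp only [Set.mem_Icc, not_and_or, not_le] at hcon
  exact hcon

lemma finite_support_of_bounds {G : Type*} [AddCommGroup G] (g : ℤ → G) (a b : ℤ)
    (hg : ∀ i, i < a ∨ b < i → g i = 0) : (Function.support g).Finite :=
  (Set.finite_Icc a b).subset (support_subset_Icc g a b hg)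

lemma finite_support_shift {G : Type*} [AddCommGroup G] (g : ℤ → G)
    (hg : (Function.support g).Finite) : (Function.support (fun i : ℤ => g (i + 1))).Finite := by
  refine Set.Finite.subset (hg.preimage ((add_left_injective (1 : ℤ)).injOn)) ?_
  intro x hx
  exact hx

lemma finsum_shift {G : Type*} [AddCommGroup G] (g : ℤ → G) :
    ∑ᶠ i : ℤ, g (i + 1) = ∑ᶠ i : ℤ, g i :=
  finsum_comp_equiv (Equiv.addRight (1 : ℤ)) (f := g)

lemma eulF_finite (E : Cx R) (a b : ℤ) (h : VanishesOutside E a b) :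
    (Function.support (eulF E)).Finite :=
  finite_support_of_bounds _ a b (fun i hi => eulF_of_isZero E i (h i hi))

lemma eul_eq_sum (E : Cx R) (a b : ℤ) (h : VanishesOutside E a b) :
    eul E = ∑ i ∈ Finset.Icc a b, eulF E i := by
  unfold eul
  apply finsum_eq_sum_of_support_subset
  intro i hi
  have := support_subset_Icc (eulF E) a b (fun i hi => eulF_of_isZero E i (h i hi)) hi
  simpa using this

lemma Pm_biprod (X Y : ModuleCat.{u} R) (hX : Pm R X) (hY : Pm R Y) : Pm R (X ⊞ Y) := by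
  haveI := hX.1
  haveI := hX.2
  haveI := hY.1
  haveI := hY.2
  let e : (X × Y) ≃ₗ[R] (X ⊞ Y : ModuleCat.{u} R) := (ModuleCat.biprodIsoProd X Y).toLinearEquiv.symm
  exact ⟨Module.Finite.equiv e, Module.Projective.of_equiv e⟩

lemma clSub_biprod (X Y : ModuleCat.{u} R) (hX : Pm R X) (hY : Pm R Y) :
    KZero.clSub (Pm R) (X ⊞ Y) = KZero.clSub (Pm R) X + KZero.clSub (Pm R) Y := by
  have hS := (ShortComplex.Splitting.ofHasBinaryBiproduct X Y).shortExact
  exact KThick.cl_ses (Pm R) _ hS hX (Pm_biprod X Y hX hY) hY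

lemma cone_tfp {E E' : Cx R} (f : E ⟶ E') (hE : TermwiseFiniteProjective E)
    (hE' : TermwiseFiniteProjective E') : TermwiseFiniteProjective (mappingCone f) := by
  intro i
  have e : (mappingCone f).X i ≅ E.X (i + 1) ⊞ E'.X i :=
    HomologicalComplex.homotopyCofiber.XIsoBiprod f i (i + 1) rfl
  exact (Pm R).prop_of_iso e.symm (Pm_biprod _ _ (hE (i + 1)) (hE' i))

lemma clSub_cone {E E' : Cx R} (f : E ⟶ E') (hE : TermwiseFiniteProjective E)
    (hE' : TermwiseFiniteProjective E') (i : ℤ) :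
    KZero.clSub (Pm R) ((mappingCone f).X i) =
      KZero.clSub (Pm R) (E.X (i + 1)) + KZero.clSub (Pm R) (E'.X i) := by
  have e : (mappingCone f).X i ≅ E.X (i + 1) ⊞ E'.X i :=
    HomologicalComplex.homotopyCofiber.XIsoBiprod f i (i + 1) rfl
  rw [← clSub_biprod _ _ (hE (i + 1)) (hE' i)]
  exact KThick.cl_iso (Pm R) e (cone_tfp f hE hE' i)

lemma eul_cone {E E' : Cx R} (f : E ⟶ E') (hE : TermwiseFiniteProjective E)
    (hE' : TermwiseFiniteProjective E') (hfin : (Function.support (eulF E)).Finite)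
    (hfin' : (Function.support (eulF E')).Finite) :
    eul (mappingCone f) = eul E' - eul E := by
  have h1 : ∀ i, eulF (mappingCone f) i = eulF E' i - eulF E (i + 1) := by
    intro i
    unfold eulF
    rw [clSub_cone f hE hE' i, smul_add, Int.negOnePow_succ, Units.val_neg, neg_smul]
    abel
  unfold eul
  rw [finsum_congr h1, finsum_sub_distrib hfin' (finite_support_shift _ hfin),
    finsum_shift (eulF E)]

end Eul

section Contr

variable (C : Cx R) (h : Homotopy (𝟙 C) 0)

lemma d_d_apply (C : Cx R) (i j k : ℤ) (x : C.X i) : (C.d j k).hom ((C.d i j).hom x) = 0 := by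
  have h2 := congrArg (fun φ => φ.hom x) (C.d_comp_d i j k)
  exact h2

/-- cycles -/
noncomputable abbrev Zc (i : ℤ) : Submodule R (C.X i) := LinearMap.ker (C.d i (i + 1)).hom

include h in
lemma p_apply_of_mem (i : ℤ) (x : C.X i) (hx : x ∈ Zc C i) : (prevD i h.hom).hom x = x := by
  have hcomm := h.comm i
  rw [HomologicalComplex.id_f, HomologicalComplex.zero_f, add_zero,
    dNext_eq h.hom (show (ComplexShape.up ℤ).Rel i (i + 1) from rfl)] at hcomm
  have h2 := congrArg (fun φ => φ.hom x) hcomm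
  simp only [ModuleCat.hom_id, LinearMap.id_apply, ModuleCat.hom_add, LinearMap.add_apply,
    ModuleCat.hom_comp, LinearMap.comp_apply] at h2
  rw [LinearMap.mem_ker.1 hx, map_zero, zero_add] at h2
  exact h2.symm

lemma p_mem (i : ℤ) (x : C.X i) : (prevD i h.hom).hom x ∈ Zc C i := by
  rw [prevD_eq h.hom (show (ComplexShape.up ℤ).Rel (i - 1) i from by simp), LinearMap.mem_ker,
    ModuleCat.hom_comp, LinearMap.comp_apply]
  exact d_d_apply C (i - 1) i (i + 1) _

variable (hC : TermwiseFiniteProjective C)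

include h hC in
lemma Z_finproj (i : ℤ) : Pm R (ModuleCat.of R (Zc C i)) := by
  haveI := (hC i).1
  haveI := (hC i).2
  let r : C.X i →ₗ[R] Zc C i := (prevD i h.hom).hom.codRestrict (Zc C i) (p_mem C h i)
  have hr : r ∘ₗ (Zc C i).subtype = LinearMap.id := by
    ext x
    exact p_apply_of_mem C h i x.1 x.2
  have hsurj : Function.Surjective r := fun z => ⟨z.1, by
    have h2 := congrArg (fun φ => φ z) hr
    simpa using h2⟩
  exact ⟨Module.Finite.of_surjective r hsurj, Module.Projective.of_split (Zc C i).subtype r hr⟩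

include h hC in
lemma clSub_contr (i : ℤ) : KZero.clSub (Pm R) (C.X i) =
    KZero.clSub (Pm R) (ModuleCat.of R (Zc C i)) +
      KZero.clSub (Pm R) (ModuleCat.of R (Zc C (i + 1))) := by
  let f : ModuleCat.of R (Zc C i) ⟶ C.X i := ModuleCat.ofHom (Zc C i).subtype
  let g : C.X i ⟶ ModuleCat.of R (Zc C (i + 1)) :=
    ModuleCat.ofHom ((C.d i (i + 1)).hom.codRestrict (Zc C (i + 1)) (fun x => by
      rw [LinearMap.mem_ker]
      exact d_d_apply C i (i + 1) (i + 1 + 1) x))
  have w : f ≫ g = 0 := by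
    ext x
    exact LinearMap.mem_ker.1 x.2
  have hS : (ShortComplex.mk f g w).ShortExact := by
    refine ShortComplex.ShortExact.mk' ?_ ?_ ?_
    · rw [ShortComplex.moduleCat_exact_iff]
      intro x hx
      refine ⟨⟨x, ?_⟩, rfl⟩
      exact congrArg Subtype.val hx
    · rw [ModuleCat.mono_iff_injective]
      exact Subtype.val_injective
    · rw [ModuleCat.epi_iff_surjective]
      intro z
      refine ⟨(h.hom (i + 1) i).hom z.1, Subtype.ext ?_⟩
      have h2 := p_apply_of_mem C h (i + 1) z.1 z.2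
      rw [prevD_eq h.hom (show (ComplexShape.up ℤ).Rel i (i + 1) from rfl)] at h2
      exact h2
  exact KThick.cl_ses (Pm R) _ hS (Z_finproj C h hC i) (hC i) (Z_finproj C h hC (i + 1))

include h hC in
theorem eul_contractible (a b : ℤ) (hz : VanishesOutside C a b) : eul C = 0 := by
  let ζ : ℤ → KZero.K0sub (Pm R) := fun i =>
    (i.negOnePow : ℤ) • KZero.clSub (Pm R) (ModuleCat.of R (Zc C i))
  have hζ0 : ∀ i, i < a ∨ b < i → ζ i = 0 := by
    intro i hi
    haveI := ModuleCat.subsingleton_of_isZero (hz i hi)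
    have : IsZero (ModuleCat.of R (Zc C i)) := ModuleCat.isZero_of_subsingleton _
    show (i.negOnePow : ℤ) • KZero.clSub (Pm R) (ModuleCat.of R (Zc C i)) = 0
    rw [KThick.cl_zero (Pm R) this, smul_zero]
  have hζfin : (Function.support ζ).Finite := finite_support_of_bounds ζ a b hζ0
  have h1 : ∀ i, eulF C i = ζ i - ζ (i + 1) := by
    intro i
    show (i.negOnePow : ℤ) • KZero.clSub (Pm R) (C.X i) =
      (i.negOnePow : ℤ) • KZero.clSub (Pm R) (ModuleCat.of R (Zc C i)) -
        ((i + 1).negOnePow : ℤ) • KZero.clSub (Pm R) (ModuleCat.of R (Zc C (i + 1)))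
    rw [clSub_contr C h hC i, smul_add, Int.negOnePow_succ, Units.val_neg, neg_smul]
    abel
  unfold eul
  rw [finsum_congr h1, finsum_sub_distrib hζfin (finite_support_shift _ hζfin), finsum_shift ζ,
    sub_self]

end Contr

section Qis

theorem eul_eq_of_iso (E E' : Cx R) (a b a' b' : ℤ) (hz : VanishesOutside E a b)
    (hz' : VanishesOutside E' a' b') (hE : TermwiseFiniteProjective E)
    (hE' : TermwiseFiniteProjective E') (e : toD E ≅ toD E') : eul E = eul E' := by
  haveI : E.IsKProjective := DRing1.isKProjective_of_vanishesAbove_projective E b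
    (fun i hi => hz i (Or.inr hi)) (fun i => (hE i).2)
  obtain ⟨f, hf⟩ := Groth.Agent.H3.PerfAux.exists_map_of_isKProjective E E' e.hom
  haveI : IsIso (Q.map f) := by
    rw [hf]
    infer_instance
  have hCzero : IsZero (Q.obj (mappingCone f)) := by
    have hT := DerivedCategory.mappingCone_triangle_distinguished f
    exact (Triangle.isZero₃_iff_isIso₁ _ hT).2 ‹_›
  have hzc : VanishesOutside (mappingCone f) (min a a' - 1) (max b b') := by
    intro i hi
    refine Groth.Agent.H3.PerfAux.mappingCone_X_isZero f i (hz _ ?_) (hz' _ ?_)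
    · rcases hi with hi | hi
      · left; have := min_le_left a a'; omega
      · right; have := le_max_left b b'; omega
    · rcases hi with hi | hi
      · left; have := min_le_right a a'; omega
      · right; have := le_max_right b b'; omega
  have hPc := cone_tfp f hE hE'
  haveI : (mappingCone f).IsKProjective :=
    DRing1.isKProjective_of_vanishesAbove_projective _ (max b b')
      (fun i hi => hzc i (Or.inr hi)) (fun i => (hPc i).2)
  obtain ⟨hc⟩ := DetQis.homotopy_of_Q_map_eq_zero (mappingCone f) (mappingCone f) (𝟙 _)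
    (hCzero.eq_of_src _ _)
  have h0 := eul_contractible (mappingCone f) hc hPc _ _ hzc
  rw [eul_cone f hE hE' (eulF_finite E a b hz) (eulF_finite E' a' b' hz'), sub_eq_zero] at h0
  exact h0.symm

end Qis

section Chi

/-- a chosen strictly perfect representative -/
noncomputable def rep (K : Dual.D R) (hK : IsPerfect R K) : Cx R := hK.choose

lemma rep_spec (K : Dual.D R) (hK : IsPerfect R K) :
    ∃ a b : ℤ, VanishesOutside (rep K hK) a b ∧ TermwiseFiniteProjective (rep K hK) ∧
      Nonempty (toD (rep K hK) ≅ K) := hK.choose_spec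

lemma eul_rep (K : Dual.D R) (hK : IsPerfect R K) (E : Cx R) (a b : ℤ)
    (hz : VanishesOutside E a b) (hP : TermwiseFiniteProjective E) (e : toD E ≅ K) :
    eul (rep K hK) = eul E := by
  obtain ⟨a', b', hz', hP', ⟨e'⟩⟩ := rep_spec K hK
  exact eul_eq_of_iso _ _ a' b' a b hz' hz hP' hP (e' ≪≫ e.symm)

/-- Euler characteristic on generators -/
noncomputable def chi₀ : FreeAbelianGroup (Subtype (Pt R)) →+ KZero.K0sub (Pm R) :=
  FreeAbelianGroup.lift (fun K => eul (rep K.1 K.2))

lemma relTr_le_ker : KZero.relTr (Pt R) ≤ (chi₀ (R := R)).ker := by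
  unfold KZero.relTr
  rw [AddSubgroup.closure_le]
  rintro x ⟨T, h₁, h₂, h₃, hT, rfl⟩
  rw [SetLike.mem_coe, AddMonoidHom.mem_ker, map_sub, map_sub]
  simp only [chi₀, FreeAbelianGroup.lift_apply_of]
  obtain ⟨a₁, b₁, hz₁, hP₁, ⟨e₁⟩⟩ := rep_spec T.obj₁ h₁
  obtain ⟨a₂, b₂, hz₂, hP₂, ⟨e₂⟩⟩ := rep_spec T.obj₂ h₂
  obtain ⟨a₃, b₃, hz₃, hP₃, ⟨e₃⟩⟩ := rep_spec T.obj₃ h₃
  haveI : (rep T.obj₁ h₁).IsKProjective :=
    DRing1.isKProjective_of_vanishesAbove_projective _ b₁
      (fun i hi => hz₁ i (Or.inr hi)) (fun i => (hP₁ i).2)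
  obtain ⟨f, ⟨e₃'⟩⟩ := DRing1.exists_cone_iso T hT (rep T.obj₁ h₁) (rep T.obj₂ h₂) e₁ e₂
  have hzc : VanishesOutside (mappingCone f) (min a₁ a₂ - 1) (max b₁ b₂) := by
    intro i hi
    refine Groth.Agent.H3.PerfAux.mappingCone_X_isZero f i (hz₁ _ ?_) (hz₂ _ ?_)
    · rcases hi with hi | hi
      · left; have := min_le_left a₁ a₂; omega
      · right; have := le_max_left b₁ b₂; omega
    · rcases hi with hi | hi
      · left; have := min_le_right a₁ a₂; omega
      · right; have := le_max_right b₁ b₂; omega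
  have h4 := eul_eq_of_iso (mappingCone f) (rep T.obj₃ h₃) _ _ a₃ b₃ hzc hz₃
    (cone_tfp f hP₁ hP₂) hP₃ (e₃' ≪≫ e₃.symm)
  rw [eul_cone f hP₁ hP₂ (eulF_finite _ a₁ b₁ hz₁) (eulF_finite _ a₂ b₂ hz₂)] at h4
  rw [← h4]
  abel

/-- the Euler characteristic map -/
noncomputable def chi : KZero.K0tr (Pt R) →+ KZero.K0sub (Pm R) :=
  QuotientAddGroup.lift _ chi₀ relTr_le_ker

lemma chi_cl (K : Dual.D R) (hK : IsPerfect R K) :
    chi (KZero.clTr (Pt R) K) = eul (rep K hK) := by
  rw [KTr.clTr_eq (Pt R) hK]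
  change chi₀ _ = _
  simp only [chi₀, FreeAbelianGroup.lift_apply_of]

end Chi

section Psi

lemma single_tfp (X : ModuleCat.{u} R) (hX : Pm R X) :
    TermwiseFiniteProjective ((HomologicalComplex.single (ModuleCat.{u} R) (ComplexShape.up ℤ) 0).obj X) := by
  intro i
  by_cases hi : i = 0
  · subst hi
    exact (Pm R).prop_of_iso (HomologicalComplex.singleObjXSelf (ComplexShape.up ℤ) 0 X).symm hX
  · exact Pm_of_isZero _ (HomologicalComplex.isZero_single_obj_X (ComplexShape.up ℤ) 0 X i hi)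

lemma single_vanishes (X : ModuleCat.{u} R) :
    VanishesOutside ((HomologicalComplex.single (ModuleCat.{u} R) (ComplexShape.up ℤ) 0).obj X) 0 0 := by
  intro i hi
  exact HomologicalComplex.isZero_single_obj_X (ComplexShape.up ℤ) 0 X i (by omega)

/-- `toD` of the single complex is the single object -/
noncomputable def singleIso (X : ModuleCat.{u} R) :
    toD ((HomologicalComplex.single (ModuleCat.{u} R) (ComplexShape.up ℤ) 0).obj X) ≅
      (singleFunctor (ModuleCat.{u} R) 0).obj X :=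
  ((singleFunctorIsoCompQ (ModuleCat.{u} R) 0).app X).symm

lemma isPerfect_single (X : ModuleCat.{u} R) (hX : Pm R X) :
    IsPerfect R ((singleFunctor (ModuleCat.{u} R) 0).obj X) :=
  ⟨_, 0, 0, single_vanishes X, single_tfp X hX, ⟨singleIso X⟩⟩

lemma eul_single (X : ModuleCat.{u} R) (hX : Pm R X) :
    eul ((HomologicalComplex.single (ModuleCat.{u} R) (ComplexShape.up ℤ) 0).obj X) =
      KZero.clSub (Pm R) X := by
  unfold eul
  rw [finsum_eq_single _ 0 (fun i hi => eulF_of_isZero _ i
    (HomologicalComplex.isZero_single_obj_X (ComplexShape.up ℤ) 0 X i hi))]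
  unfold eulF
  rw [Int.negOnePow_zero, Units.val_one, one_smul]
  exact KThick.cl_iso (Pm R) (HomologicalComplex.singleObjXSelf (ComplexShape.up ℤ) 0 X)
    (single_tfp X hX 0)

/-- the map on generators -/
noncomputable def psi₀ : FreeAbelianGroup (Subtype (Pm R)) →+ KZero.K0tr (Pt R) :=
  FreeAbelianGroup.lift (fun X => KZero.clTr (Pt R) ((singleFunctor (ModuleCat.{u} R) 0).obj X.1))

lemma relSub_le_ker : KZero.relSub (Pm R) ≤ (psi₀ (R := R)).ker := by
  unfold KZero.relSub
  rw [AddSubgroup.closure_le]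
  rintro x ⟨S, h₁, h₂, h₃, hS, rfl⟩
  rw [SetLike.mem_coe, AddMonoidHom.mem_ker, map_sub, map_sub]
  simp only [psi₀, FreeAbelianGroup.lift_apply_of]
  have h := KTr.cl_tri (Pt R) _ hS.singleTriangle_distinguished
    (isPerfect_single _ h₁) (isPerfect_single _ h₂) (isPerfect_single _ h₃)
  change KZero.clTr (Pt R) ((singleFunctor (ModuleCat.{u} R) 0).obj S.X₂) =
    KZero.clTr (Pt R) ((singleFunctor (ModuleCat.{u} R) 0).obj S.X₁) +
      KZero.clTr (Pt R) ((singleFunctor (ModuleCat.{u} R) 0).obj S.X₃) at h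
  rw [h]
  abel

/-- the comparison map -/
noncomputable def psi : KZero.K0sub (Pm R) →+ KZero.K0tr (Pt R) :=
  QuotientAddGroup.lift _ psi₀ relSub_le_ker

lemma psi_cl (X : ModuleCat.{u} R) (hX : Pm R X) :
    psi (KZero.clSub (Pm R) X) = KZero.clTr (Pt R) ((singleFunctor (ModuleCat.{u} R) 0).obj X) := by
  rw [KThick.clSub_eq (Pm R) hX]
  change psi₀ _ = _
  simp only [psi₀, FreeAbelianGroup.lift_apply_of]

lemma chi_psi (x : KZero.K0sub (Pm R)) : chi (psi x) = x := by
  induction x using QuotientAddGroup.induction_on with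
  | H x =>
    induction x using FreeAbelianGroup.induction_on with
    | zero => simp
    | of X =>
      have h1 : ((FreeAbelianGroup.of X : FreeAbelianGroup (Subtype (Pm R))) :
          KZero.K0sub (Pm R)) = KZero.clSub (Pm R) X.1 := (KThick.clSub_eq (Pm R) X.2).symm
      rw [h1, psi_cl X.1 X.2, chi_cl _ (isPerfect_single X.1 X.2),
        eul_rep _ _ _ 0 0 (single_vanishes X.1) (single_tfp X.1 X.2) (singleIso X.1),
        eul_single X.1 X.2]
    | neg X ih =>
      rw [QuotientAddGroup.mk_neg, map_neg, map_neg, ih]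
    | add x y hx hy =>
      rw [QuotientAddGroup.mk_add, map_add, map_add, hx, hy]

lemma Pt_zero : Pt R (0 : Dual.D R) := DRing1.isPerfect_of_isZero _ (isZero_zero _)

lemma clTr_shift_mem (S : AddSubgroup (KZero.K0tr (Pt R))) (K : Dual.D R) (hK : IsPerfect R K)
    (hmem : KZero.clTr (Pt R) K ∈ S) (n : ℤ) : KZero.clTr (Pt R) (K⟦n⟧) ∈ S := by
  induction n using Int.induction_on with
  | zero =>
    rw [KTr.cl_iso (Pt R) ((shiftFunctorZero (Dual.D R) ℤ).app K)
      (DRing1.isPerfect_shift K 0 hK) hK Pt_zero]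
    exact hmem
  | succ n ih =>
    have e : K⟦((n : ℤ) + 1)⟧ ≅ (K⟦(n : ℤ)⟧)⟦(1 : ℤ)⟧ :=
      (shiftFunctorAdd' (Dual.D R) (n : ℤ) 1 ((n : ℤ) + 1) rfl).app K
    rw [KTr.cl_iso (Pt R) e (DRing1.isPerfect_shift K _ hK)
      (DRing1.isPerfect_shift _ 1 (DRing1.isPerfect_shift K _ hK)) Pt_zero,
      KTr.cl_shift (Pt R) (DRing1.isPerfect_shift K _ hK)
        (DRing1.isPerfect_shift _ 1 (DRing1.isPerfect_shift K _ hK)) Pt_zero]
    exact S.neg_mem ih
  | pred n ih =>
    have e : K⟦(-(n : ℤ))⟧ ≅ (K⟦(-(n : ℤ) - 1)⟧)⟦(1 : ℤ)⟧ :=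
      (shiftFunctorAdd' (Dual.D R) (-(n : ℤ) - 1) 1 (-(n : ℤ)) (by omega)).app K
    have h1 := KTr.cl_iso (Pt R) e (DRing1.isPerfect_shift K _ hK)
      (DRing1.isPerfect_shift _ 1 (DRing1.isPerfect_shift K _ hK)) Pt_zero
    rw [KTr.cl_shift (Pt R) (DRing1.isPerfect_shift K _ hK)
        (DRing1.isPerfect_shift _ 1 (DRing1.isPerfect_shift K _ hK)) Pt_zero] at h1
    have h2 : KZero.clTr (Pt R) (K⟦(-(n : ℤ) - 1)⟧) = - KZero.clTr (Pt R) (K⟦(-(n : ℤ))⟧) := by
      rw [h1, neg_neg]
    rw [h2]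
    exact S.neg_mem ih

/-- the class of objects whose class lies in the range of `psi` -/
def PrR (K : Dual.D R) : Prop := IsPerfect R K ∧ KZero.clTr (Pt R) K ∈ (psi (R := R)).range

lemma isTriSub_PrR : DThick.IsTriSub (PrR (R := R)) where
  iso := by
    intro K K' e ⟨hK, hm⟩
    have hK' := DRing1.isPerfect_of_iso e hK
    refine ⟨hK', ?_⟩
    rw [← KTr.cl_iso (Pt R) e hK hK' Pt_zero]
    exact hm
  zero := by
    intro K hK
    have hP := DRing1.isPerfect_of_isZero K hK
    refine ⟨hP, ?_⟩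
    rw [KTr.cl_zero (Pt R) hK hP]
    exact (psi (R := R)).range.zero_mem
  shift := by
    intro K n ⟨hK, hm⟩
    exact ⟨DRing1.isPerfect_shift K n hK, clTr_shift_mem _ K hK hm n⟩
  ext₂ := by
    intro T hT ⟨h1, hm1⟩ ⟨h3, hm3⟩
    have h2 := (DRing1.isPerfect_two_out_of_three T hT).2.1 h1 h3
    refine ⟨h2, ?_⟩
    rw [KTr.cl_tri (Pt R) T hT h1 h2 h3]
    exact (psi (R := R)).range.add_mem hm1 hm3

lemma psi_surjective : Function.Surjective (psi (R := R)) := by
  intro y
  rw [← AddMonoidHom.mem_range]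
  induction y using QuotientAddGroup.induction_on with
  | H y =>
    induction y using FreeAbelianGroup.induction_on with
    | zero => exact (psi (R := R)).range.zero_mem
    | of K =>
      have h1 : ((FreeAbelianGroup.of K : FreeAbelianGroup (Subtype (Pt R))) :
          KZero.K0tr (Pt R)) = KZero.clTr (Pt R) K.1 := (KTr.clTr_eq (Pt R) K.2).symm
      rw [h1]
      obtain ⟨E, a, b, hz, hP, ⟨e⟩⟩ := K.2
      have h2 : PrR (toD E) := isTriSub_PrR.of_bounded_termwise E a b hz (fun i =>
        ⟨isPerfect_single (E.X i) (hP i), ⟨KZero.clSub (Pm R) (E.X i), psi_cl (E.X i) (hP i)⟩⟩)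
      exact (isTriSub_PrR.iso e h2).2
    | neg K ih =>
      rw [QuotientAddGroup.mk_neg]
      exact (psi (R := R)).range.neg_mem ih
    | add x y hx hy =>
      rw [QuotientAddGroup.mk_add]
      exact (psi (R := R)).range.add_mem hx hy

lemma psi_chi (y : KZero.K0tr (Pt R)) : psi (chi y) = y := by
  obtain ⟨x, rfl⟩ := psi_surjective y
  rw [chi_psi]

end Psi

theorem main : ∃ φ : KZero.K0sub (fun M : ModuleCat.{u} R => Module.Finite R M ∧ Module.Projective R M) ≃+
        KZero.K0tr (fun K : Dual.D R => DRing.IsPerfect R K),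
      (∀ (M : Type u) [AddCommGroup M] [Module R M], Module.Finite R M → Module.Projective R M →
        φ (KZero.clSub (fun M : ModuleCat.{u} R => Module.Finite R M ∧ Module.Projective R M) (ModuleCat.of R M)) =
          KZero.clTr (fun K : Dual.D R => DRing.IsPerfect R K) (Dual.inD R M)) ∧
      ∀ (E : DRing.Cx R) (a b : ℤ), DRing.VanishesOutside E a b → DRing.TermwiseFiniteProjective E →
        φ.symm (KZero.clTr (fun K : Dual.D R => DRing.IsPerfect R K) (DRing.toD E)) =
          (Finset.Icc a b).sum (fun i => (i.negOnePow : ℤ) •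
            KZero.clSub (fun M : ModuleCat.{u} R => Module.Finite R M ∧ Module.Projective R M) (E.X i)) := by
  refine ⟨{ toFun := psi (R := R), invFun := chi (R := R), left_inv := chi_psi, right_inv := psi_chi,
            map_add' := map_add _ }, ?_, ?_⟩
  · intro M _ _ h1 h2
    exact psi_cl (ModuleCat.of R M) ⟨h1, h2⟩
  · intro E a b hz hP
    have hK : IsPerfect R (toD E) := ⟨E, a, b, hz, hP, ⟨Iso.refl _⟩⟩
    show chi (KZero.clTr (Pt R) (toD E)) = _
    rw [chi_cl _ hK, eul_rep _ hK E a b hz hP (Iso.refl _), eul_eq_sum E a b hz]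
    rfl

end Groth.Agent.H4.K0Perf
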