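import Mathlib
import Groth.Agent.H4.KE9

set_option autoImplicit false
universe u
open CategoryTheory CategoryTheory.Limits CochainComplex

namespace Groth.Agent.H4.KE10

open DRing CohIII Groth.Agent.H4.KE1 Groth.Agent.H4.KE5a Groth.Agent.H4.KE5b

variable {A : Type u} [CommRing A]

section
variable (S : ShortComplex (Cx A)) (hS : S.ShortExact)

/-- length of the image of `H^n(X₁) → H^n(X₂)`. -/
noncomputable def r₁ (n : ℤ) : ℕ∞ :=
  Module.length A (LinearMap.range (HomologicalComplex.homologyMap S.f n).hom)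

/-- length of the image of `H^n(X₂) → H^n(X₃)`. -/
noncomputable def r₂ (n : ℤ) : ℕ∞ :=
  Module.length A (LinearMap.range (HomologicalComplex.homologyMap S.g n).hom)

/-- length of the image of the connecting map `H^i(X₃) → H^j(X₁)`. -/
noncomputable def r₃ (i j : ℤ) (hij : i + 1 = j) : ℕ∞ :=
  Module.length A (LinearMap.range (hS.δ i j hij).hom)

lemma r₃_congr (i i' j : ℤ) (hij : i + 1 = j) (hi'j : i' + 1 = j) :
    r₃ S hS i j hij = r₃ S hS i' j hi'j := by
  obtain rfl : i = i' := by omega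
  rfl

include hS in
lemma L₂_eq (n : ℤ) : Module.length A (S.X₂.homology n) = r₁ S n + r₂ S n := by
  have e := hS.homology_exact₂ n
  rw [ShortComplex.ShortExact.moduleCat_exact_iff_function_exact] at e
  exact length_eq_range_add_range _ _ e

lemma L₃_eq (i j : ℤ) (hij : i + 1 = j) :
    Module.length A (S.X₃.homology i) = r₂ S i + r₃ S hS i j hij := by
  have e := hS.homology_exact₃ i j hij
  rw [ShortComplex.ShortExact.moduleCat_exact_iff_function_exact] at e
  exact length_eq_range_add_range _ _ e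

lemma L₁_eq (i j : ℤ) (hij : i + 1 = j) :
    Module.length A (S.X₁.homology j) = r₃ S hS i j hij + r₁ S j := by
  have e := hS.homology_exact₁ i j hij
  rw [ShortComplex.ShortExact.moduleCat_exact_iff_function_exact] at e
  exact length_eq_range_add_range _ _ e

lemma r₁_le (n : ℤ) : r₁ S n ≤ Module.length A (S.X₁.homology n) :=
  Module.length_le_of_surjective _ (LinearMap.surjective_rangeRestrict _)

lemma r₂_le (n : ℤ) : r₂ S n ≤ Module.length A (S.X₃.homology n) :=
  Module.length_le_of_injective (LinearMap.range _).subtype (Submodule.subtype_injective _)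

lemma r₃_le (i j : ℤ) (hij : i + 1 = j) : r₃ S hS i j hij ≤ Module.length A (S.X₁.homology j) :=
  Module.length_le_of_injective (LinearMap.range _).subtype (Submodule.subtype_injective _)

lemma toNat_add_cast (a b c : ℕ∞) (hb : b ≠ ⊤) (hc : c ≠ ⊤) (h : a = b + c) :
    (a.toNat : ℤ) = b.toNat + c.toNat := by
  subst h
  rw [ENat.toNat_add hb hc]
  push_cast
  rfl

include hS in
/-- additivity of the Euler characteristic in a short exact sequence of complexes. -/
theorem chi_additive (a b : ℤ)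
    (hb₁ : ∀ n, n < a ∨ b < n → Subsingleton (S.X₁.homology n))
    (hb₃ : ∀ n, n < a ∨ b < n → Subsingleton (S.X₃.homology n))
    (hfin₁ : ∀ n, IsFiniteLength A (S.X₁.homology n))
    (hfin₃ : ∀ n, IsFiniteLength A (S.X₃.homology n)) :
    chi S.X₂ = chi S.X₁ + chi S.X₃ := by
  have f1 : ∀ n, Module.length A (S.X₁.homology n) ≠ ⊤ := fun n =>
    Module.length_ne_top_iff.2 (hfin₁ n)
  have f3 : ∀ n, Module.length A (S.X₃.homology n) ≠ ⊤ := fun n =>
    Module.length_ne_top_iff.2 (hfin₃ n)
  have z1 : ∀ n, n < a ∨ b < n → Module.length A (S.X₁.homology n) = 0 := fun n hn =>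
    Module.length_eq_zero_iff.2 (hb₁ n hn)
  have z3 : ∀ n, n < a ∨ b < n → Module.length A (S.X₃.homology n) = 0 := fun n hn =>
    Module.length_eq_zero_iff.2 (hb₃ n hn)
  -- the three integer-valued rank functions
  let R₁ : ℤ → ℤ := fun n => ((r₁ S n).toNat : ℤ)
  let R₂ : ℤ → ℤ := fun n => ((r₂ S n).toNat : ℤ)
  let R₃ : ℤ → ℤ := fun n => ((r₃ S hS (n - 1) n (sub_add_cancel n 1)).toNat : ℤ)
  have fr₁ : ∀ n, r₁ S n ≠ ⊤ := fun n => ne_top_of_le_ne_top (f1 n) (r₁_le S n)
  have fr₂ : ∀ n, r₂ S n ≠ ⊤ := fun n => ne_top_of_le_ne_top (f3 n) (r₂_le S n)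
  have fr₃ : ∀ i j hij, r₃ S hS i j hij ≠ ⊤ := fun i j hij =>
    ne_top_of_le_ne_top (f1 j) (r₃_le S hS i j hij)
  have s1 : (Function.support R₁).Finite := finite_support_of_bdd R₁ a b (fun n hn => by
    have : r₁ S n = 0 := le_antisymm ((r₁_le S n).trans (z1 n hn).le) zero_le
    simp only [R₁, this]
    rfl)
  have s2 : (Function.support R₂).Finite := finite_support_of_bdd R₂ a b (fun n hn => by
    have : r₂ S n = 0 := le_antisymm ((r₂_le S n).trans (z3 n hn).le) zero_le
    simp only [R₂, this]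
    rfl)
  have s3 : (Function.support R₃).Finite := finite_support_of_bdd R₃ a b (fun n hn => by
    have : r₃ S hS (n - 1) n (sub_add_cancel n 1) = 0 :=
      le_antisymm ((r₃_le S hS _ n _).trans (z1 n hn).le) zero_le
    simp only [R₃, this]
    rfl)
  have e2 : ∀ n, lenZ S.X₂ n = R₁ n + R₂ n := fun n =>
    toNat_add_cast _ _ _ (fr₁ n) (fr₂ n) (L₂_eq S hS n)
  have e1 : ∀ n, lenZ S.X₁ n = R₃ n + R₁ n := fun n =>
    toNat_add_cast _ _ _ (fr₃ _ _ _) (fr₁ n) (L₁_eq S hS (n - 1) n (sub_add_cancel n 1))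
  have e3 : ∀ n, lenZ S.X₃ n = R₂ n + R₃ (n + 1) := fun n => by
    have h := toNat_add_cast _ _ _ (fr₂ n) (fr₃ _ _ _) (L₃_eq S hS n (n + 1) rfl)
    rw [r₃_congr S hS n (n + 1 - 1) (n + 1) rfl (sub_add_cancel (n + 1) 1)] at h
    exact h
  unfold chi
  rw [finsum_congr (fun n => by rw [e2 n])]
  have h1 : (∑ᶠ n : ℤ, sgn n * lenZ S.X₁ n) = ∑ᶠ n : ℤ, (sgn n * R₃ n + sgn n * R₁ n) :=
    finsum_congr (fun n => by rw [e1 n, mul_add])
  have h3 : (∑ᶠ n : ℤ, sgn n * lenZ S.X₃ n) = ∑ᶠ n : ℤ, sgn n * (R₂ n + R₃ (n + 1)) :=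
    finsum_congr (fun n => by rw [e3 n])
  rw [h1, h3, chi_shift R₂ R₃ s2 s3,
    finsum_add_distrib (finite_support_sgn_mul _ s3) (finite_support_sgn_mul _ s1)]
  have h2 : (∑ᶠ n : ℤ, sgn n * (R₁ n + R₂ n)) = ∑ᶠ n : ℤ, (sgn n * R₁ n + sgn n * R₂ n) :=
    finsum_congr (fun n => by rw [mul_add])
  rw [h2, finsum_add_distrib (finite_support_sgn_mul _ s1) (finite_support_sgn_mul _ s2)]
  ring

include hS in
lemma isFiniteLength_X₂ (hfin₁ : ∀ n, IsFiniteLength A (S.X₁.homology n))
    (hfin₃ : ∀ n, IsFiniteLength A (S.X₃.homology n)) (n : ℤ) :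
    IsFiniteLength A (S.X₂.homology n) := by
  rw [← Module.length_ne_top_iff, L₂_eq S hS n]
  exact WithTop.add_ne_top.2
    ⟨ne_top_of_le_ne_top (Module.length_ne_top_iff.2 (hfin₁ n)) (r₁_le S n),
      ne_top_of_le_ne_top (Module.length_ne_top_iff.2 (hfin₃ n)) (r₂_le S n)⟩

end

open Groth.Agent.H4.KE4 Groth.Agent.H4.KE6 Groth.Agent.H4.KE9 Groth.Agent.H2.Kos

/-- finite length of Koszul cohomology of `N`, given finite length of `M / I M` for a module `M`
whose support contains that of `N`. -/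
theorem isFiniteLength_homology_koszulCx_of_support [IsNoetherianRing A] (N M : Type u)
    [AddCommGroup N] [Module A N] [Module.Finite A N] [AddCommGroup M] [Module A M]
    [Module.Finite A M] (l : List A) (I : Ideal A) (hI : I ≤ (Ideal.span {a | a ∈ l}).radical)
    (hfl : IsFiniteLength A (M ⧸ (I • ⊤ : Submodule A M)))
    (hsupp : Module.support A N ⊆ Module.support A M) (n : ℤ) :
    IsFiniteLength A ((koszulCx (ModuleCat.of A N) l).homology n) := by
  refine isFiniteLength_homology_koszulCx_radical N l I hI ?_ n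
  refine isFiniteLength_of_support_subset ?_ hfl
  rw [Module.support_quotient, Module.support_quotient]
  exact Set.inter_subset_inter_left _ hsupp

/-- additivity of the Koszul Euler characteristic in short exact sequences of modules. -/
theorem chi_koszulCx_additive [IsNoetherianRing A] (S : ShortComplex (ModuleCat.{u} A))
    (hS : S.ShortExact) [Module.Finite A S.X₂] (l : List A) (I : Ideal A)
    (hI : I ≤ (Ideal.span {a | a ∈ l}).radical)
    (hfl : IsFiniteLength A (S.X₂ ⧸ (I • ⊤ : Submodule A S.X₂))) :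
    chi (koszulCx S.X₂ l) = chi (koszulCx S.X₁ l) + chi (koszulCx S.X₃ l) := by
  have hinj : Function.Injective S.f.hom := hS.moduleCat_injective_f
  have hsurj : Function.Surjective S.g.hom := hS.moduleCat_surjective_g
  haveI : IsNoetherian A S.X₂ := isNoetherian_of_isNoetherianRing_of_finite A _
  haveI : Module.Finite A S.X₁ := Module.Finite.of_injective S.f.hom hinj
  haveI : Module.Finite A S.X₃ := Module.Finite.of_surjective S.g.hom hsurj
  have h1 : ∀ n, IsFiniteLength A ((koszulCx S.X₁ l).homology n) := fun n =>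
    isFiniteLength_homology_koszulCx_of_support S.X₁ S.X₂ l I hI hfl
      (Module.support_subset_of_injective S.f.hom hinj) n
  have h3 : ∀ n, IsFiniteLength A ((koszulCx S.X₃ l).homology n) := fun n =>
    isFiniteLength_homology_koszulCx_of_support S.X₃ S.X₂ l I hI hfl
      (Module.support_subset_of_surjective S.g.hom hsurj) n
  exact chi_additive (kSC S l) (kSC_shortExact S hS l) (-(l.length : ℤ)) 0
    (fun n hn => subsingleton_homology_koszulCx _ l n hn)
    (fun n hn => subsingleton_homology_koszulCx _ l n hn) h1 h3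

end Groth.Agent.H4.KE10
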