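import Mathlib
import Groth.Agent.H4.KE10

set_option autoImplicit false
universe u
open CategoryTheory CategoryTheory.Limits CochainComplex

namespace Groth.Agent.H4.KE11

attribute [local instance] HasDerivedCategory.standard
open DRing CohIII Groth.Agent.H4.DNak2 Groth.Agent.H4.KE1 Groth.Agent.H4.KE2 Groth.Agent.H4.KE5a
  Groth.Agent.H4.KE5b Groth.Agent.H4.KE10

section mod
variable {A : Type u} [Ring A] {N : Type*} [AddCommGroup N] [Module A N]

theorem cL_comp_le (φ ψ : N →ₗ[A] N) : cL (φ ∘ₗ ψ) ≤ cL φ + cL ψ := by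
  have hc : LinearMap.range ψ ≤ (LinearMap.range (φ ∘ₗ ψ)).comap φ := by
    rintro _ ⟨z, rfl⟩
    exact ⟨z, rfl⟩
  let c : (N ⧸ LinearMap.range ψ) →ₗ[A] N ⧸ LinearMap.range (φ ∘ₗ ψ) :=
    Submodule.mapQ _ _ φ hc
  have hd : LinearMap.range (φ ∘ₗ ψ) ≤ LinearMap.range φ := by
    rintro _ ⟨z, rfl⟩
    exact ⟨ψ z, rfl⟩
  let d : (N ⧸ LinearMap.range (φ ∘ₗ ψ)) →ₗ[A] N ⧸ LinearMap.range φ := Submodule.factor hd
  have hd_surj : Function.Surjective d := Submodule.factor_surjective hd
  have ex4 : Function.Exact c d := by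
    intro q
    obtain ⟨n, rfl⟩ := Submodule.mkQ_surjective _ q
    constructor
    · intro hq
      have hq' : n ∈ LinearMap.range φ := (Submodule.Quotient.mk_eq_zero _).1 hq
      obtain ⟨z, rfl⟩ := hq'
      exact ⟨(LinearMap.range ψ).mkQ z, rfl⟩
    · rintro ⟨q', hq'⟩
      obtain ⟨z, rfl⟩ := Submodule.mkQ_surjective _ q'
      rw [← hq']
      exact (Submodule.Quotient.mk_eq_zero _).2 ⟨z, rfl⟩
  have E4 : cL (φ ∘ₗ ψ) = Module.length A (LinearMap.range c) + cL φ := by
    unfold cL
    rw [length_eq_range_add_range c d ex4, length_range_of_surjective d hd_surj]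
  rw [E4, add_comm]
  exact add_le_add le_rfl (Module.length_le_of_surjective c.rangeRestrict
    (LinearMap.surjective_rangeRestrict c))

lemma cL_le (φ : N →ₗ[A] N) : cL φ ≤ Module.length A N :=
  Module.length_le_of_surjective (LinearMap.range φ).mkQ (Submodule.mkQ_surjective _)

lemma kL_le (φ : N →ₗ[A] N) : kL φ ≤ Module.length A N :=
  Module.length_le_of_injective (LinearMap.ker φ).subtype (Submodule.subtype_injective _)

end mod

variable {A : Type u} [CommRing A]

section
variable {N : Type*} [AddCommGroup N] [Module A N]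

lemma cL_one : cL ((1 : A) • LinearMap.id : N →ₗ[A] N) = 0 := by
  rw [one_smul]
  unfold cL
  rw [LinearMap.range_id]
  exact Module.length_eq_zero_iff.2 inferInstance

lemma kL_one : kL ((1 : A) • LinearMap.id : N →ₗ[A] N) = 0 := by
  rw [one_smul]
  unfold kL
  rw [LinearMap.ker_id]
  exact Module.length_eq_zero_iff.2 inferInstance

lemma cL_pow_le (f : A) (n : ℕ) :
    cL ((f ^ n) • LinearMap.id : N →ₗ[A] N) ≤ (n : ℕ∞) * cL (f • LinearMap.id : N →ₗ[A] N) := by
  induction n with
  | zero => rw [pow_zero, cL_one]; exact zero_le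
  | succ n ih =>
    rw [pow_succ, mul_smul_id]
    refine (cL_comp_le _ _).trans ?_
    push_cast
    rw [add_mul, one_mul]
    exact add_le_add ih le_rfl

lemma kL_pow_le (f : A) (n : ℕ) :
    kL ((f ^ n) • LinearMap.id : N →ₗ[A] N) ≤ (n : ℕ∞) * kL (f • LinearMap.id : N →ₗ[A] N) := by
  induction n with
  | zero => rw [pow_zero, kL_one]; exact zero_le
  | succ n ih =>
    rw [pow_succ, mul_smul_id]
    refine (kL_comp_le _ _).trans ?_
    push_cast
    rw [add_mul, one_mul, add_comm]
    exact add_le_add ih le_rfl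

end

/-- `ℓ(Hᵐ(cone fⁿ)) ≤ n ℓ(Hᵐ(cone f))`. -/
theorem length_homology_Kf_pow_le (E : Cx A) (f : A) (n : ℕ) (m : ℤ) :
    Module.length A ((Kf (f ^ n) E).homology m) ≤ (n : ℕ∞) * Module.length A ((Kf f E).homology m) := by
  rw [length_homology_Kf, length_homology_Kf, mul_add]
  exact add_le_add (cL_pow_le f n) (kL_pow_le f n)

/-- `ℓ(Hᵐ(cone g)) ≤ ℓ(Hᵐ) + ℓ(Hᵐ⁺¹)`. -/
theorem length_homology_Kf_le (E : Cx A) (g : A) (m : ℤ) :
    Module.length A ((Kf g E).homology m) ≤
      Module.length A (E.homology m) + Module.length A (E.homology (m + 1)) := by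
  rw [length_homology_Kf]
  exact add_le_add (cL_le _) (kL_le _)

/-- subadditivity of the length of cohomology in short exact sequences of complexes. -/
theorem length_homology_X₂_le (S : ShortComplex (Cx A)) (hS : S.ShortExact) (m : ℤ) :
    Module.length A (S.X₂.homology m) ≤
      Module.length A (S.X₁.homology m) + Module.length A (S.X₃.homology m) := by
  rw [L₂_eq S hS m]
  exact add_le_add (r₁_le S m) (r₂_le S m)

end Groth.Agent.H4.KE11
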