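import Mathlib
import Groth.Agent.H4.KE11
import Groth.Agent.Lib.Helper2.Kos4

set_option autoImplicit false
universe u
open CategoryTheory CategoryTheory.Limits CochainComplex

namespace Groth.Agent.H4.KE12

open DRing CohIII Groth.Agent.H4.DNak2 Groth.Agent.H4.KE1 Groth.Agent.H4.KE2 Groth.Agent.H4.KE5a
  Groth.Agent.H4.KE5b Groth.Agent.H4.KE10 Groth.Agent.H2.Kos

variable {A : Type u} [CommRing A]

/-- if `f` is `M`-regular, `K(f :: fs; M)` and `K(fs; M/fM)` have the same cohomology lengths. -/
theorem length_homology_koszulCx_cons_of_regular (M : ModuleCat.{u} A) (f : A)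
    (hf : IsSMulRegular M f) (fs : List A) (n : ℤ) :
    Module.length A ((koszulCx M (f :: fs)).homology n) =
      Module.length A ((koszulCx (ModuleCat.of A (QuotSMulTop f M)) fs).homology n) := by
  have hS := kSC_shortExact _ hf.smulShortComplex_shortExact fs
  have key : ∀ φ : koszulCx M fs ⟶ koszulCx M fs, φ = (kSC (M.smulShortComplex f) fs).f →
      Module.length A ((mappingCone φ).homology n) =
        Module.length A ((koszulCx (ModuleCat.of A (QuotSMulTop f M)) fs).homology n) := by
    intro φ hφ
    subst hφ
    have hq : QuasiIso (mappingCone.descShortComplex (kSC (M.smulShortComplex f) fs)) :=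
      mappingCone.quasiIso_descShortComplex hS
    have hq' : QuasiIsoAt (mappingCone.descShortComplex (kSC (M.smulShortComplex f) fs)) n :=
      hq.quasiIsoAt n
    have e : (mappingCone (kSC (M.smulShortComplex f) fs).f).homology n ≅
        (kSC (M.smulShortComplex f) fs).X₃.homology n :=
      isoOfQuasiIsoAt (mappingCone.descShortComplex _) n
    exact e.toLinearEquiv.length_eq
  exact key (f • 𝟙 _) (kmap_smul_id M f fs).symm

end Groth.Agent.H4.KE12
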