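import Mathlib
import Groth.Agent.H4.KE12

set_option autoImplicit false
universe u
open CategoryTheory CategoryTheory.Limits CochainComplex

namespace Groth.Agent.H4.KE13

open DRing CohIII Groth.Agent.H4.DNak2 Groth.Agent.H4.KE1 Groth.Agent.H4.KE2 Groth.Agent.H4.KE4
  Groth.Agent.H4.KE5a Groth.Agent.H4.KE5b Groth.Agent.H4.KE6 Groth.Agent.H4.KE10
  Groth.Agent.H4.KE11 Groth.Agent.H4.KE12 Groth.Agent.H2.Kos

variable {A : Type u} [CommRing A]

/-- the stable `f`-power torsion submodule and its regular quotient. -/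
lemma exists_torsion_split [IsNoetherianRing A] (M : Type u) [AddCommGroup M] [Module A M]
    [Module.Finite A M] (f : A) :
    ∃ (T : Submodule A M) (t : ℕ), (∀ x ∈ T, f ^ t • x = 0) ∧ IsSMulRegular (M ⧸ T) f := by
  haveI : IsNoetherian A M := isNoetherian_of_isNoetherianRing_of_finite A M
  let c : ℕ →o Submodule A M :=
    ⟨fun k => Submodule.torsionBy A M (f ^ k), by
      intro k k' hkk' x hx
      rw [Submodule.mem_torsionBy_iff] at hx ⊢
      obtain ⟨e, rfl⟩ := Nat.exists_eq_add_of_le hkk'
      rw [pow_add, mul_comm, mul_smul, hx, smul_zero]⟩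
  obtain ⟨t, ht⟩ := monotone_stabilizes_iff_noetherian.2 ‹IsNoetherian A M› c
  refine ⟨c t, t, fun x hx => (Submodule.mem_torsionBy_iff _ _).1 hx, ?_⟩
  rw [isSMulRegular_iff_right_eq_zero_of_smul]
  intro q hq
  obtain ⟨x, rfl⟩ := Submodule.mkQ_surjective _ q
  have h1 : f • x ∈ c t := by
    have : (c t).mkQ (f • x) = 0 := by rw [_root_.map_smul]; exact hq
    exact (Submodule.Quotient.mk_eq_zero _).1 this
  have h2 : x ∈ c (t + 1) := by
    change x ∈ Submodule.torsionBy A M (f ^ (t + 1))
    rw [Submodule.mem_torsionBy_iff, pow_succ, mul_smul]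
    exact (Submodule.mem_torsionBy_iff _ _).1 h1
  rw [← ht (t + 1) (Nat.le_succ t)] at h2
  exact (Submodule.Quotient.mk_eq_zero _).2 h2

lemma span_cons_le_iff (f : A) (r : List A) (p : Ideal A) :
    Ideal.span {a | a ∈ f :: r} ≤ p ↔ f ∈ p ∧ Ideal.span {a | a ∈ r} ≤ p := by
  rw [Ideal.span_le, Ideal.span_le]
  constructor
  · intro h
    exact ⟨h List.mem_cons_self, fun a ha => h (List.mem_cons_of_mem _ ha)⟩
  · rintro ⟨h1, h2⟩ a ha
    rcases List.mem_cons.1 ha with rfl | ha
    · exact h1
    · exact h2 ha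

/-- the key step for bounding Koszul cohomology of powers: split off the `f`-power torsion. -/
theorem key_step [IsNoetherianRing A] (M : Type u) [AddCommGroup M] [Module A M]
    [Module.Finite A M] (f : A) (r : List A)
    (hfl : IsFiniteLength A (M ⧸ (Ideal.span {a | a ∈ f :: r} • ⊤ : Submodule A M))) :
    ∃ T : Submodule A M,
      IsFiniteLength A (T ⧸ (Ideal.span {a | a ∈ r} • ⊤ : Submodule A T)) ∧
      IsFiniteLength A (QuotSMulTop f (M ⧸ T) ⧸
        (Ideal.span {a | a ∈ r} • ⊤ : Submodule A (QuotSMulTop f (M ⧸ T)))) ∧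
      IsSMulRegular (M ⧸ T) f ∧
      ∀ (rn : List A) (m : ℤ) (n : ℕ),
        Module.length A ((koszulCx (ModuleCat.of A M) (f ^ n :: rn)).homology m) ≤
          Module.length A ((koszulCx (ModuleCat.of A T) rn).homology m) +
          Module.length A ((koszulCx (ModuleCat.of A T) rn).homology (m + 1)) +
          (n : ℕ∞) *
            Module.length A ((koszulCx (ModuleCat.of A (QuotSMulTop f (M ⧸ T))) rn).homology m) := by
  haveI : IsNoetherian A M := isNoetherian_of_isNoetherianRing_of_finite A M
  obtain ⟨T, t, hT, hreg⟩ := exists_torsion_split M f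
  refine ⟨T, ?_, ?_, hreg, ?_⟩
  · refine isFiniteLength_of_support_subset ?_ hfl
    rw [Module.support_quotient, Module.support_quotient]
    rintro p ⟨hp1, hp2⟩
    refine ⟨Module.support_subset_of_injective T.subtype (Submodule.subtype_injective _) hp1, ?_⟩
    rw [PrimeSpectrum.mem_zeroLocus, SetLike.coe_subset_coe] at hp2 ⊢
    rw [span_cons_le_iff]
    refine ⟨?_, hp2⟩
    have hle := Module.annihilator_le_of_mem_support hp1
    have : f ^ t ∈ Module.annihilator A T := by
      rw [Module.mem_annihilator]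
      intro x
      apply Subtype.ext
      exact hT x.1 x.2
    exact p.2.mem_of_pow_mem t (hle this)
  · refine isFiniteLength_of_support_subset ?_ hfl
    rw [Module.support_quotient, Module.support_quotient, Module.support_quotSMulTop]
    rintro p ⟨⟨hp1, hp2⟩, hp3⟩
    refine ⟨Module.support_subset_of_surjective T.mkQ (Submodule.mkQ_surjective _) hp1, ?_⟩
    rw [PrimeSpectrum.mem_zeroLocus, SetLike.coe_subset_coe] at hp3 ⊢
    rw [span_cons_le_iff]
    refine ⟨?_, hp3⟩
    rw [PrimeSpectrum.mem_zeroLocus] at hp2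
    exact hp2 (Set.mem_singleton f)
  · intro rn m n
    let S : ShortComplex (ModuleCat.{u} A) :=
      ShortComplex.mk (ModuleCat.ofHom T.subtype) (ModuleCat.ofHom T.mkQ) (by
        ext x
        exact (Submodule.Quotient.mk_eq_zero _).2 x.2)
    have hS : S.ShortExact := by
      refine ModuleCat.shortComplex_shortExact S ?_ (Submodule.subtype_injective _)
        (Submodule.mkQ_surjective _)
      intro y
      constructor
      · intro hy
        exact ⟨⟨y, (Submodule.Quotient.mk_eq_zero _).1 hy⟩, rfl⟩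
      · rintro ⟨x, rfl⟩
        exact (Submodule.Quotient.mk_eq_zero _).2 x.2
    have step1 := length_homology_X₂_le (kSC S (f ^ n :: rn)) (kSC_shortExact S hS (f ^ n :: rn)) m
    have step2 := length_homology_Kf_le (koszulCx (ModuleCat.of A T) rn) (f ^ n) m
    have step3 := length_homology_Kf_pow_le (koszulCx (ModuleCat.of A (M ⧸ T)) rn) f n m
    have step4 := length_homology_koszulCx_cons_of_regular (ModuleCat.of A (M ⧸ T)) f hreg rn m
    refine step1.trans (add_le_add step2 (step3.trans ?_))
    exact le_of_eq (congrArg (fun z => (n : ℕ∞) * z) step4)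

end Groth.Agent.H4.KE13
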