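import Mathlib
import Groth.Agent.H4.KE13

set_option autoImplicit false
universe u
open CategoryTheory CategoryTheory.Limits CochainComplex

namespace Groth.Agent.H4.KE14

open DRing CohIII Groth.Agent.H4.DNak2 Groth.Agent.H4.KE1 Groth.Agent.H4.KE2 Groth.Agent.H4.KE3
  Groth.Agent.H4.KE4
  Groth.Agent.H4.KE5a Groth.Agent.H4.KE5b Groth.Agent.H4.KE6 Groth.Agent.H4.KE10
  Groth.Agent.H4.KE11 Groth.Agent.H4.KE12 Groth.Agent.H4.KE13 Groth.Agent.H2.Kos

variable {A : Type u} [CommRing A]

lemma length_bridge (M : ModuleCat.{u} A) (s : List A) (i : ℤ) :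
    Module.length A ((tensorCx (Koszul.koszul A s) M).homology i) =
      Module.length A ((koszulCx M s).homology i) := by
  have e : (tensorCx (Koszul.koszul A s) M).homology i ≅ (koszulCx M s).homology i :=
    (HomologicalComplex.homologyFunctor _ _ i).mapIso (bridge M s)
  exact e.toLinearEquiv.length_eq

/-- base case: the Koszul complex of the empty sequence. -/
lemma length_homology_koszulCx_nil (M : Type u) [AddCommGroup M] [Module A M] (m : ℤ) :
    Module.length A ((koszulCx (ModuleCat.of A M) []).homology m) ≤ Module.length A M := by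
  by_cases hm : m = 0
  · subst hm
    exact le_of_eq ((HomologicalComplex.singleObjHomologySelfIso (ComplexShape.up ℤ) 0
          (ModuleCat.of A M)).toLinearEquiv).length_eq
  · haveI : Subsingleton ((koszulCx (ModuleCat.of A M) []).homology m) := by
      apply ModuleCat.subsingleton_of_isZero
      apply HomologicalComplex.ExactAt.isZero_homology
      apply HomologicalComplex.ExactAt.of_isZero
      exact HomologicalComplex.isZero_single_obj_X (ComplexShape.up ℤ) 0 _ m hm
    rw [Module.length_eq_zero_iff.2 inferInstance]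
    exact zero_le

lemma isFiniteLength_of_quotient_span_nil (M : Type u) [AddCommGroup M] [Module A M]
    (hfl : IsFiniteLength A (M ⧸ (Ideal.span {a | a ∈ ([] : List A)} • ⊤ : Submodule A M))) :
    IsFiniteLength A M := by
  have h0 : (Ideal.span {a | a ∈ ([] : List A)} • ⊤ : Submodule A M) = ⊥ := by
    have : {a : A | a ∈ ([] : List A)} = ∅ := by
      ext a
      simp
    rw [this, Ideal.span_empty, Submodule.bot_smul]
  exact (Submodule.quotEquivOfEqBot _ h0).isFiniteLength hfl

/-- `ℓ(H_i(x₁ⁿ,…,x_kⁿ; M)) ≤ c n^{k-i}`. -/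
theorem bound156 [IsNoetherianRing A] : ∀ (l : List A) (M : Type u) [AddCommGroup M] [Module A M]
    [Module.Finite A M]
    (_ : IsFiniteLength A (M ⧸ (Ideal.span {a | a ∈ l} • ⊤ : Submodule A M))) (m : ℤ),
    ∃ c : ℕ, ∀ n : ℕ, 0 < n →
      Module.length A ((koszulCx (ModuleCat.of A M) (l.map (· ^ n))).homology m) ≤
        ((c * n ^ (((l.length : ℤ) + m).toNat) : ℕ) : ℕ∞) := by
  intro l
  induction l with
  | nil =>
    intro M _ _ _ hfl m
    have hM := isFiniteLength_of_quotient_span_nil M hfl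
    refine ⟨(Module.length A M).toNat, fun n hn => ?_⟩
    refine (length_homology_koszulCx_nil M m).trans ?_
    rw [← ENat.natCast_toNat (Module.length_ne_top_iff.2 hM)]
    refine Nat.cast_le.2 ?_
    rw [ENat.toNat_natCast]
    exact Nat.le_mul_of_pos_right _ (pow_pos hn _)
  | cons f r ih =>
    intro M _ _ _ hfl m
    obtain ⟨T, hT, hQ, hreg, hineq⟩ := key_step M f r hfl
    haveI : IsNoetherian A M := isNoetherian_of_isNoetherianRing_of_finite A M
    obtain ⟨c₁, h₁⟩ := ih T hT m
    obtain ⟨c₂, h₂⟩ := ih T hT (m + 1)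
    obtain ⟨c₃, h₃⟩ := ih (QuotSMulTop f (M ⧸ T)) hQ m
    refine ⟨c₁ + c₂ + c₃, fun n hn => ?_⟩
    have hmap : (f :: r).map (· ^ n) = f ^ n :: r.map (· ^ n) := rfl
    rw [hmap]
    refine (hineq (r.map (· ^ n)) m n).trans ?_
    have hlen : (((f :: r).length : ℤ) + m).toNat = ((r.length : ℤ) + (m + 1)).toNat := by
      simp only [List.length_cons, Nat.cast_add, Nat.cast_one]
      congr 1
      ring
    rw [hlen]
    set e₁ := ((r.length : ℤ) + m).toNat with he₁
    set e := ((r.length : ℤ) + (m + 1)).toNat with he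
    have hle : e₁ ≤ e := by omega
    have hp : n ^ e₁ ≤ n ^ e := Nat.pow_le_pow_right hn hle
    by_cases hneg : (r.length : ℤ) + m < 0
    · -- the third term vanishes
      have hz : Module.length A ((koszulCx (ModuleCat.of A (QuotSMulTop f (M ⧸ T)))
          (r.map (· ^ n))).homology m) = 0 :=
        Module.length_eq_zero_iff.2 (subsingleton_homology_koszulCx _ _ m (Or.inl (by
          rw [List.length_map]
          omega)))
      rw [hz, mul_zero, add_zero]
      refine (add_le_add (h₁ n hn) (h₂ n hn)).trans ?_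
      rw [← Nat.cast_add]
      refine Nat.cast_le.2 ?_
      calc c₁ * n ^ e₁ + c₂ * n ^ e ≤ c₁ * n ^ e + c₂ * n ^ e :=
            Nat.add_le_add_right (Nat.mul_le_mul_left _ hp) _
        _ ≤ (c₁ + c₂ + c₃) * n ^ e := by
            rw [← add_mul]
            exact Nat.mul_le_mul_right _ (Nat.le_add_right _ _)
    · have he' : e = e₁ + 1 := by omega
      refine (add_le_add (add_le_add (h₁ n hn) (h₂ n hn))
        (mul_le_mul_right (h₃ n hn) (n : ℕ∞))).trans ?_
      rw [← Nat.cast_add, ← Nat.cast_mul, ← Nat.cast_add]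
      refine Nat.cast_le.2 ?_
      calc c₁ * n ^ e₁ + c₂ * n ^ e + n * (c₃ * n ^ e₁)
          = c₁ * n ^ e₁ + c₂ * n ^ e + c₃ * n ^ e := by rw [he', pow_succ]; ring
        _ ≤ c₁ * n ^ e + c₂ * n ^ e + c₃ * n ^ e :=
            Nat.add_le_add_right (Nat.add_le_add_right (Nat.mul_le_mul_left _ hp) _) _
        _ = (c₁ + c₂ + c₃) * n ^ e := by ring

lemma span_range_eq_span_ofFn {k : ℕ} (x : Fin k → A) :
    Ideal.span (Set.range x) = Ideal.span {a | a ∈ List.ofFn x} := by
  congr 1
  ext a
  simp [List.mem_ofFn]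

theorem S8156 (A : Type u) [CommRing A] [IsNoetherianRing A] [IsLocalRing A]
    (k : ℕ) (x : Fin k → A) (M : Type u) [AddCommGroup M] [Module A M] [Module.Finite A M]
    (hfl : IsFiniteLength A (M ⧸ (Ideal.span (Set.range x) • (⊤ : Submodule A M))))
    (i : ℕ) (hi : i ≤ k) :
    ∃ c : ℕ, ∀ n : ℕ, 0 < n →
      Module.length A ((DRing.tensorCx (Koszul.koszul A (List.ofFn fun j => x j ^ n)) (ModuleCat.of A M)).homology (-(i : ℤ))) ≤
        ((c * n ^ (k - i) : ℕ) : ℕ∞) := by
  rw [span_range_eq_span_ofFn] at hfl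
  obtain ⟨c, hc⟩ := bound156 (List.ofFn x) M hfl (-(i : ℤ))
  refine ⟨c, fun n hn => ?_⟩
  have h := hc n hn
  rw [length_bridge]
  have e1 : (List.ofFn x).map (· ^ n) = List.ofFn fun j => x j ^ n := by
    rw [List.map_ofFn]
    rfl
  have e2 : (((List.ofFn x).length : ℤ) + -(i : ℤ)).toNat = k - i := by
    rw [List.length_ofFn]
    omega
  rw [e1, e2] at h
  exact h

end Groth.Agent.H4.KE14
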