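import Mathlib
import Groth.Agent.H4.KE14

set_option autoImplicit false
universe u
open CategoryTheory CategoryTheory.Limits CochainComplex

namespace Groth.Agent.H4.KE15

open DRing CohIII Groth.Agent.H4.DNak2 Groth.Agent.H4.KE1 Groth.Agent.H4.KE2 Groth.Agent.H4.KE3
  Groth.Agent.H4.KE4
  Groth.Agent.H4.KE5a Groth.Agent.H4.KE5b Groth.Agent.H4.KE6 Groth.Agent.H4.KE10
  Groth.Agent.H4.KE11 Groth.Agent.H4.KE12 Groth.Agent.H4.KE13 Groth.Agent.H4.KE14
  Groth.Agent.H2.Kos

variable {A : Type u} [CommRing A]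

lemma withBot_le_of_succ_le (x : WithBot ℕ∞) (d' : ℕ)
    (h : x + 1 ≤ ((d' + 1 : ℕ) : WithBot ℕ∞)) : x ≤ (d' : WithBot ℕ∞) := by
  induction x using WithBot.recBotCoe with
  | bot => exact bot_le
  | coe a =>
    have h' : ((a + 1 : ℕ∞) : WithBot ℕ∞) ≤ (((d' + 1 : ℕ) : ℕ∞) : WithBot ℕ∞) := by
      simpa using h
    have h'' := WithBot.coe_le_coe.1 h'
    push_cast at h''
    have := (ENat.add_le_add_iff_right (by simp : (1 : ℕ∞) ≠ ⊤)).1 h''
    exact_mod_cast this

lemma withBot_eq_bot_of_succ_le_zero (x : WithBot ℕ∞)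
    (h : x + 1 ≤ ((0 : ℕ) : WithBot ℕ∞)) : x = ⊥ := by
  induction x using WithBot.recBotCoe with
  | bot => rfl
  | coe a =>
    exfalso
    have h' : ((a + 1 : ℕ∞) : WithBot ℕ∞) ≤ ((0 : ℕ∞) : WithBot ℕ∞) := by
      simpa using h
    have h'' := WithBot.coe_le_coe.1 h'
    simp at h''

/-- the Koszul complex of a zero module is acyclic. -/
lemma subsingleton_homology_koszulCx_of_subsingleton (Q : Type u) [AddCommGroup Q] [Module A Q]
    [Subsingleton Q] (l : List A) (m : ℤ) :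
    Subsingleton ((koszulCx (ModuleCat.of A Q) l).homology m) := by
  refine ⟨fun y z => ?_⟩
  have h1 : (1 : A) • 𝟙 (ModuleCat.of A Q) = 0 := by
    ext q
    exact Subsingleton.elim _ _
  have hy := smul_homology_eq_zero_of_eq_zero _ (1 : A)
    (smul_id_koszulCx_eq_zero (ModuleCat.of A Q) l 1 h1) m y
  have hz := smul_homology_eq_zero_of_eq_zero _ (1 : A)
    (smul_id_koszulCx_eq_zero (ModuleCat.of A Q) l 1 h1) m z
  rw [one_smul] at hy hz
  rw [hy, hz]

/-- `ℓ(H_i(x₁ⁿ,…,x_kⁿ; M)) ≤ c n^{dim M}`. -/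
theorem bound157 [IsNoetherianRing A] [IsLocalRing A] :
    ∀ (l : List A) (_ : ∀ a ∈ l, a ∈ IsLocalRing.maximalIdeal A)
    (M : Type u) [AddCommGroup M] [Module A M] [Module.Finite A M]
    (_ : IsFiniteLength A (M ⧸ (Ideal.span {a | a ∈ l} • ⊤ : Submodule A M)))
    (d : ℕ) (_ : Module.supportDim A M ≤ (d : WithBot ℕ∞)) (m : ℤ),
    ∃ c : ℕ, ∀ n : ℕ, 0 < n →
      Module.length A ((koszulCx (ModuleCat.of A M) (l.map (· ^ n))).homology m) ≤
        ((c * n ^ d : ℕ) : ℕ∞) := by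
  intro l
  induction l with
  | nil =>
    intro _ M _ _ _ hfl d _ m
    have hM := isFiniteLength_of_quotient_span_nil M hfl
    refine ⟨(Module.length A M).toNat, fun n hn => ?_⟩
    refine (length_homology_koszulCx_nil M m).trans ?_
    rw [← ENat.natCast_toNat (Module.length_ne_top_iff.2 hM)]
    refine Nat.cast_le.2 ?_
    rw [ENat.toNat_natCast]
    exact Nat.le_mul_of_pos_right _ (pow_pos hn _)
  | cons f r ih =>
    intro hl M _ _ _ hfl d hd m
    have hf : f ∈ IsLocalRing.maximalIdeal A := hl f List.mem_cons_self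
    have hr : ∀ a ∈ r, a ∈ IsLocalRing.maximalIdeal A := fun a ha => hl a (List.mem_cons_of_mem _ ha)
    obtain ⟨T, hT, hQ, hreg, hineq⟩ := key_step M f r hfl
    haveI : IsNoetherian A M := isNoetherian_of_isNoetherianRing_of_finite A M
    have hdT : Module.supportDim A T ≤ (d : WithBot ℕ∞) :=
      (Module.supportDim_le_of_injective T.subtype (Submodule.subtype_injective _)).trans hd
    have hdQ : Module.supportDim A (QuotSMulTop f (M ⧸ T)) + 1 ≤ (d : WithBot ℕ∞) := by
      rw [Module.supportDim_quotSMulTop_succ_eq_supportDim hreg hf]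
      exact (Module.supportDim_le_of_surjective T.mkQ (Submodule.mkQ_surjective _)).trans hd
    obtain ⟨c₁, h₁⟩ := ih hr T hT d hdT m
    obtain ⟨c₂, h₂⟩ := ih hr T hT d hdT (m + 1)
    -- the third term
    have h3 : ∃ c₃ : ℕ, ∀ n : ℕ, 0 < n →
        (n : ℕ∞) * Module.length A ((koszulCx (ModuleCat.of A (QuotSMulTop f (M ⧸ T)))
          (r.map (· ^ n))).homology m) ≤ ((c₃ * n ^ d : ℕ) : ℕ∞) := by
      cases d with
      | zero =>
        have hbot := withBot_eq_bot_of_succ_le_zero _ hdQ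
        haveI : Subsingleton (QuotSMulTop f (M ⧸ T)) :=
          (Module.supportDim_eq_bot_iff_subsingleton A _).1 hbot
        refine ⟨0, fun n _ => ?_⟩
        rw [Module.length_eq_zero_iff.2
          (subsingleton_homology_koszulCx_of_subsingleton _ _ m), mul_zero]
        exact zero_le
      | succ d' =>
        have hle := withBot_le_of_succ_le _ d' hdQ
        obtain ⟨c₃, h₃⟩ := ih hr (QuotSMulTop f (M ⧸ T)) hQ d' hle m
        refine ⟨c₃, fun n hn => ?_⟩
        refine (mul_le_mul_right (h₃ n hn) (n : ℕ∞)).trans ?_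
        rw [← Nat.cast_mul]
        refine Nat.cast_le.2 (le_of_eq ?_)
        rw [pow_succ]
        ring
    obtain ⟨c₃, h₃⟩ := h3
    refine ⟨c₁ + c₂ + c₃, fun n hn => ?_⟩
    have hmap : (f :: r).map (· ^ n) = f ^ n :: r.map (· ^ n) := rfl
    rw [hmap]
    refine (hineq (r.map (· ^ n)) m n).trans ?_
    refine (add_le_add (add_le_add (h₁ n hn) (h₂ n hn)) (h₃ n hn)).trans ?_
    rw [← Nat.cast_add, ← Nat.cast_add]
    refine Nat.cast_le.2 (le_of_eq ?_)
    ring

theorem S8157 (A : Type u) [CommRing A] [IsNoetherianRing A] [IsLocalRing A]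
    (k : ℕ) (x : Fin k → A) (hx : ∀ j, x j ∈ IsLocalRing.maximalIdeal A) (M : Type u) [AddCommGroup M] [Module A M] [Module.Finite A M]
    (d : ℕ) (hdim : Module.supportDim A M = (d : WithBot ℕ∞))
    (hfl : IsFiniteLength A (M ⧸ (Ideal.span (Set.range x) • (⊤ : Submodule A M)))) (i : ℤ) :
    ∃ c : ℕ, ∀ n : ℕ, 0 < n →
      Module.length A ((DRing.tensorCx (Koszul.koszul A (List.ofFn fun j => x j ^ n)) (ModuleCat.of A M)).homology i) ≤
        ((c * n ^ d : ℕ) : ℕ∞) := by
  rw [span_range_eq_span_ofFn] at hfl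
  have hl : ∀ a ∈ List.ofFn x, a ∈ IsLocalRing.maximalIdeal A := by
    intro a ha
    obtain ⟨j, rfl⟩ := (List.mem_ofFn).1 ha
    exact hx j
  obtain ⟨c, hc⟩ := bound157 (List.ofFn x) hl M hfl d hdim.le i
  refine ⟨c, fun n hn => ?_⟩
  have h := hc n hn
  rw [length_bridge]
  have e1 : (List.ofFn x).map (· ^ n) = List.ofFn fun j => x j ^ n := by
    rw [List.map_ofFn]
    rfl
  rw [e1] at h
  exact h

end Groth.Agent.H4.KE15
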