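import Mathlib
import Groth.Agent.H4.KosBC
import Groth.Agent.H4.RB3
import Groth.Agent.H4.RB5
import Groth.Agent.H4.SG2
import Groth.Agent.H4.KosPerf
import Groth.Agent.H4.KI8

set_option autoImplicit false
universe u
open CategoryTheory Category Limits Pretriangulated

namespace Groth.Agent.H4.KF1

attribute [local instance] HasDerivedCategory.standard
attribute [local instance] Groth.Agent.H4.LK4.hasLTen Groth.Agent.H4.LK5.hasLTen₃
  Groth.Agent.H4.KI7.isSymMonoidal Groth.Agent.H4.KI6.hasRHom

open DRing DTen DerivedCategory Groth.Agent.H4.FB2 Groth.Agent.H4.KS1 Groth.Agent.H4.KosBC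

set_option quotPrecheck false in
/-- notation for the object part of `⊗^L` -/
local notation:max "tO(" a ", " b ")" => (LTen₂ _).obj (a, b)

section LB

variable {T T' : Type u} [CommRing T] [CommRing T'] [Algebra T T']
  [HasLBase (algebraMap T T')]

/-- `LBase` is semilinear -/
lemma LBase_map_smul_id (a : T) (K : Dual.D T) :
    (LBase (algebraMap T T')).map (a • 𝟙 K) =
      algebraMap T T' a • 𝟙 ((LBase (algebraMap T T')).obj K) := by
  apply ((baseAdj (algebraMap T T')).homEquiv _ _).injective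
  rw [Adjunction.homEquiv_unit, Adjunction.homEquiv_unit]
  have h1 := Res_map_smul_id (A := T) (B := T') a ((LBase (algebraMap T T')).obj K)
  have h := (baseAdj (algebraMap T T')).unit.naturality (a • 𝟙 K)
  dsimp only [Functor.id_obj, Functor.id_map, Functor.comp_obj, Functor.comp_map] at h
  rw [← h]
  erw [h1]
  rw [Linear.smul_comp, Linear.comp_smul, id_comp]
  erw [comp_id]

/-- **base change of the Koszul complex along an arbitrary ring map** -/
theorem nonempty_LBase_kos_iso : ∀ l : List T,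
    Nonempty ((LBase (algebraMap T T')).obj (kos l) ≅ kos (l.map (algebraMap T T')))
  | [] => ⟨(LBase (algebraMap T T')).mapIso (kosNilIso ≪≫ Groth.Agent.H4.KI8.inDUnitIso) ≪≫
      Groth.Agent.H4.RB3.LBaseUnitIso (algebraMap T T') ≪≫
      Groth.Agent.H4.KI8.inDUnitIso.symm ≪≫ kosNilIso.symm⟩
  | f :: l => by
    letI := (baseAdj (algebraMap T T')).leftAdjointCommShift ℤ
    haveI := (baseAdj (algebraMap T T')).commShift_of_rightAdjoint ℤ
    haveI := (baseAdj (algebraMap T T')).isTriangulated_leftAdjoint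
    obtain ⟨e⟩ := nonempty_LBase_kos_iso l
    obtain ⟨v, w, hT⟩ := kos_triangle f l
    obtain ⟨v', w', hT'⟩ := kos_triangle (algebraMap T T' f) (l.map (algebraMap T T'))
    have hE := (LBase (algebraMap T T')).map_distinguished _ hT
    refine ⟨Triangle.π₃.mapIso (isoTriangleOfIso₁₂ _ _ hE hT' e e ?_)⟩
    change (LBase (algebraMap T T')).map (f • 𝟙 (kos l)) ≫ e.hom =
      e.hom ≫ (algebraMap T T' f • 𝟙 _)
    rw [LBase_map_smul_id, Linear.smul_comp, Linear.comp_smul, id_comp, comp_id]

end LB

section Main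

variable {A T C k T' : Type u} [CommRing A] [CommRing T] [CommRing C] [CommRing k] [CommRing T']
  [Algebra A T] [Algebra T C] [Algebra A C] [IsScalarTower A T C]
  [Algebra A k] [Algebra T T'] [Algebra k T'] [Algebra A T'] [IsScalarTower A T T']
  [IsScalarTower A k T'] [Algebra.IsPushout A T k T'] [Module.Flat A T] [Module.Flat A C]

variable (A T k T') in
/-- `T'` as an object of `D(T)` is the base change of `k` -/
noncomputable def resUnitLBaseIso [HasLBase (algebraMap A T)] :
    (restrictD (algebraMap T T')).obj (unit T') ≅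
      (LBase (algebraMap A T)).obj (Dual.inD A k) :=
  Groth.Agent.H4.RB5.resUnitIso T T' ≪≫
    (singleFunctor (ModuleCat.{u} T) 0).mapIso
      ((Groth.Agent.H8.ExtBridge.extEquiv (A := A) (B := T) (ModuleCat.of A k)).trans
        (Algebra.IsPushout.out (R := A) (S := T) (R' := k) (S' := T')).equiv).toModuleIso.symm ≪≫
    (ESingleIso (A := A) (B := T) (ModuleCat.of A k) 0).symm ≪≫
    ((adjE A T).leftAdjointUniq (baseAdj (algebraMap A T))).app _

/-- `C` restricted to `A` -/
noncomputable def resCEquiv :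
    ((ModuleCat.restrictScalars.{u} (algebraMap A T)).obj (ModuleCat.of T C)) ≃ₗ[A] C where
  toFun := fun x => x
  invFun := fun x => x
  map_add' := fun _ _ => rfl
  map_smul' := fun r x => algebraMap_smul T r (show C from x)
  left_inv := fun _ => rfl
  right_inv := fun _ => rfl

include A k in
/-- **Koszul-regularity is preserved by arbitrary base change when the quotient is flat** -/
theorem isKoszulRegularSeq_map_of_flat (hs : Function.Surjective (algebraMap T C)) (l : List T)
    (hl : LCI.IsKoszulRegularSeq T l)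
    (hker : RingHom.ker (algebraMap T C) = Ideal.span {x | x ∈ l}) :
    LCI.IsKoszulRegularSeq T' (l.map (algebraMap T T')) := by
  haveI : DRing.HasLBaseChange (algebraMap T T') := Groth.Agent.H4.KProj.hasLBaseChange _
  haveI : DTen.HasLBase (algebraMap T T') :=
    ⟨(Groth.Agent.H4.KProj.adjLBaseChange (algebraMap T T')).isRightAdjoint⟩
  haveI : DTen.HasResTen (algebraMap T T') := Groth.Agent.H4.RB2.hasResTen _
  haveI : DTen.ResLegIso (algebraMap T T') := Groth.Agent.H4.RB2.resLegIso _
  haveI : DRing.HasLBaseChange (algebraMap A T) := Groth.Agent.H4.KProj.hasLBaseChange _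
  haveI : DTen.HasLBase (algebraMap A T) :=
    ⟨(Groth.Agent.H4.KProj.adjLBaseChange (algebraMap A T)).isRightAdjoint⟩
  haveI : DTen.HasResTen (algebraMap A T) := Groth.Agent.H4.RB2.hasResTen _
  haveI : DTen.ResLegIso (algebraMap A T) := Groth.Agent.H4.RB2.resLegIso _
  -- `kos l ≅ C[0]`
  set I : Ideal T := Ideal.span {x | x ∈ l} with hI
  have hle : I ≤ LinearMap.ker (Algebra.linearMap T C) := by
    intro x hx
    rw [← hker] at hx
    exact hx
  let q : (T ⧸ I) →ₗ[T] C := Submodule.liftQ I (Algebra.linearMap T C) hle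
  have hq : Function.Bijective q := by
    constructor
    · rw [← LinearMap.ker_eq_bot]
      refine Submodule.ker_liftQ_eq_bot _ _ _ ?_
      intro x hx
      rw [← hker]
      exact hx
    · intro b
      obtain ⟨t, rfl⟩ := hs b
      exact ⟨Submodule.Quotient.mk t, rfl⟩
  let eq : (T ⧸ I) ≃ₗ[T] C := LinearEquiv.ofBijective q hq
  obtain ⟨e0⟩ := Groth.Agent.H4.KosPerf.nonempty_koszul_iso l hl
  let X : Dual.D T := Dual.inD T C
  let eX : kos l ≅ X := e0 ≪≫ (singleFunctor (ModuleCat.{u} T) 0).mapIso eq.toModuleIso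
  obtain ⟨e1⟩ := nonempty_LBase_kos_iso (T' := T') l
  let Y : Dual.D T' := (LBase (algebraMap T T')).obj X
  let eY : kos (l.map (algebraMap T T')) ≅ Y :=
    e1.symm ≪≫ (LBase (algebraMap T T')).mapIso eX
  -- the computation of `res res Y`
  let W : Dual.D T := (LBase (algebraMap A T)).obj (Dual.inD A k)
  let i1 : (restrictD (algebraMap T T')).obj Y ≅ tO((restrictD (algebraMap T T')).obj (unit T'), X) :=
    (Groth.Agent.H4.RB5.resLBaseIso (algebraMap T T') X).symm
  let i2 : tO((restrictD (algebraMap T T')).obj (unit T'), X) ≅ tO(W, X) :=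
    (LTen₂ T).mapIso (Iso.prod (resUnitLBaseIso A T k T') (Iso.refl X))
  haveI := Groth.Agent.H4.LK4.isIso_symm_app W X
  let i3 : tO(X, W) ≅ tO(W, X) := asIso ((DTen.symm T).app (W, X))
  haveI := Groth.Agent.H4.RB2.isIso_projPF (algebraMap A T) X (Dual.inD A k)
  let i4 : tO((restrictD (algebraMap A T)).obj X, Dual.inD A k) ≅
      (restrictD (algebraMap A T)).obj tO(X, W) :=
    asIso (projPF (algebraMap A T) X (Dual.inD A k))
  let M' : ModuleCat.{u} A :=
    (ModuleCat.restrictScalars.{u} (algebraMap A T)).obj (ModuleCat.of T C)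
  haveI : Module.Flat A M' := Module.Flat.of_linearEquiv (resCEquiv (A := A) (T := T) (C := C))
  let i5 : (restrictD (algebraMap A T)).obj X ≅ Q.obj (Groth.Agent.H4.SG1.sg0 M') :=
    Groth.Agent.H4.US1.resSingleIso (A := A) (B := T) (ModuleCat.of T C) 0 ≪≫
      (singleFunctorIsoCompQ (ModuleCat.{u} A) 0).app M'
  let i6 : Dual.inD A k ≅ Q.obj (Groth.Agent.H4.SG1.sg0 (ModuleCat.of A k)) :=
    (singleFunctorIsoCompQ (ModuleCat.{u} A) 0).app (ModuleCat.of A k)
  obtain ⟨i7⟩ := Groth.Agent.H4.SG2.nonempty_tO_sg0_iso M' (ModuleCat.of A k)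
  let Z : ModuleCat.{u} A := MonoidalCategory.tensorObj M' (ModuleCat.of A k)
  let i8 : Q.obj (Groth.Agent.H4.SG1.sg0 Z) ≅ (singleFunctor (ModuleCat.{u} A) 0).obj Z :=
    ((singleFunctorIsoCompQ (ModuleCat.{u} A) 0).app Z).symm
  let j : (restrictD (algebraMap A T)).obj ((restrictD (algebraMap T T')).obj Y) ≅
      (singleFunctor (ModuleCat.{u} A) 0).obj Z :=
    (restrictD (algebraMap A T)).mapIso (i1 ≪≫ i2 ≪≫ i3.symm) ≪≫ i4.symm ≪≫
      (LTen₂ A).mapIso (Iso.prod i5 i6) ≪≫ i7 ≪≫ i8
  haveI : Y.IsGE 0 := by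
    rw [← Groth.Agent.H4.RB5.isGE_restrictD_iff (algebraMap T T'),
      ← Groth.Agent.H4.RB5.isGE_restrictD_iff (algebraMap A T)]
    exact TStructure.t.isGE_of_iso j.symm 0
  haveI : Y.IsLE 0 := by
    rw [← Groth.Agent.H4.RestrPC.isLE_restrictD_iff (algebraMap T T'),
      ← Groth.Agent.H4.RestrPC.isLE_restrictD_iff (algebraMap A T)]
    exact TStructure.t.isLE_of_iso j.symm 0
  intro i hi
  have hz : IsZero ((homologyFunctor (ModuleCat.{u} T') i).obj Y) := by
    rcases lt_or_gt_of_ne hi with h | h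
    · exact Y.isZero_of_isGE 0 i h
    · exact Y.isZero_of_isLE 0 i h
  have hz' := hz.of_iso ((homologyFunctor (ModuleCat.{u} T') i).mapIso eY)
  exact hz'.of_iso ((homologyFunctorFactors (ModuleCat.{u} T') i).app
    (Koszul.koszul T' (l.map (algebraMap T T')))).symm

end Main

end Groth.Agent.H4.KF1
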