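import Mathlib
import Groth.Agent.H4.KF1
import Groth.Agent.H4.GL2

set_option autoImplicit false
universe u
open CategoryTheory

namespace Groth.Agent.H4.KF2

open MvPolynomial TensorProduct

attribute [local instance] MvPolynomial.algebraMvPolynomial Algebra.TensorProduct.rightAlgebra

section BC

variable {A B k : Type u} [CommRing A] [CommRing B] [CommRing k] [Algebra A B] [Algebra A k]
  {n : ℕ} (f : MvPolynomial (Fin n) A →ₐ[A] B)

/-- the base-changed presentation -/
noncomputable def fk : MvPolynomial (Fin n) k →ₐ[k] (B ⊗[A] k) :=
  MvPolynomial.aeval (fun i => f (X i) ⊗ₜ[A] (1 : k))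

lemma fk_X (i : Fin n) : fk (k := k) f (X i) = f (X i) ⊗ₜ[A] (1 : k) := by
  simp [fk]

lemma fk_C (c : k) : fk (k := k) f (C c) = (1 : B) ⊗ₜ[A] c := by
  simp [fk, Algebra.TensorProduct.right_algebraMap_apply]

lemma fk_map (p : MvPolynomial (Fin n) A) :
    fk (k := k) f (MvPolynomial.map (algebraMap A k) p) = f p ⊗ₜ[A] (1 : k) := by
  have h : ((fk (k := k) f).toRingHom.comp (MvPolynomial.map (algebraMap A k))) =
      (Algebra.TensorProduct.includeLeft (R := A) (S := A) (A := B) (B := k)).toRingHom.comp
        f.toRingHom := by
    apply MvPolynomial.ringHom_ext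
    · intro a
      change fk (k := k) f (MvPolynomial.map (algebraMap A k) (C a)) = f (C a) ⊗ₜ[A] (1 : k)
      rw [MvPolynomial.map_C, fk_C, ← MvPolynomial.algebraMap_eq, f.commutes,
        Algebra.algebraMap_eq_smul_one, Algebra.algebraMap_eq_smul_one, TensorProduct.smul_tmul]
    · intro i
      change fk (k := k) f (MvPolynomial.map (algebraMap A k) (X i)) = f (X i) ⊗ₜ[A] (1 : k)
      rw [MvPolynomial.map_X, fk_X]
  exact RingHom.congr_fun h p

lemma fk_equiv (z : MvPolynomial (Fin n) A ⊗[A] k) :
    fk (k := k) f (Algebra.IsPushout.equiv A (MvPolynomial (Fin n) A) k (MvPolynomial (Fin n) k) z) =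
      Algebra.TensorProduct.map f (AlgHom.id A k) z := by
  induction z using TensorProduct.induction_on with
  | zero => simp
  | tmul p c =>
    rw [Algebra.IsPushout.equiv_tmul, map_mul, MvPolynomial.algebraMap_def, fk_map,
      MvPolynomial.algebraMap_eq, fk_C, Algebra.TensorProduct.map_tmul,
      Algebra.TensorProduct.tmul_mul_tmul, mul_one, one_mul]
    rfl
  | add x y hx hy => rw [map_add, map_add, map_add, hx, hy]

include f in
lemma fk_surjective (hf : Function.Surjective f) : Function.Surjective (fk (k := k) f) := by
  intro z
  obtain ⟨w, rfl⟩ := Algebra.TensorProduct.map_surjective f (AlgHom.id A k) hf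
    Function.surjective_id z
  exact ⟨_, fk_equiv f w⟩

lemma ker_fk (hf : Function.Surjective f) :
    RingHom.ker (fk (k := k) f).toRingHom =
      (RingHom.ker f.toRingHom).map
        (algebraMap (MvPolynomial (Fin n) A) (MvPolynomial (Fin n) k)) := by
  set e := Algebra.IsPushout.equiv A (MvPolynomial (Fin n) A) k (MvPolynomial (Fin n) k) with he
  have h1 := Algebra.TensorProduct.rTensor_ker (R := A) (S := A) (C := k) f hf
  apply le_antisymm
  · intro x hx
    have hx' : Algebra.TensorProduct.map f (AlgHom.id A k) (e.symm x) = 0 := by
      rw [← fk_equiv, AlgEquiv.apply_symm_apply]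
      exact hx
    have h2 : e.symm x ∈ (RingHom.ker f).map
        (Algebra.TensorProduct.includeLeft : MvPolynomial (Fin n) A →ₐ[A] _) := by
      rw [← h1]
      exact hx'
    have h3 : (RingHom.ker f).map
        (Algebra.TensorProduct.includeLeft : MvPolynomial (Fin n) A →ₐ[A]
          (MvPolynomial (Fin n) A ⊗[A] k)) ≤
        ((RingHom.ker f.toRingHom).map
          (algebraMap (MvPolynomial (Fin n) A) (MvPolynomial (Fin n) k))).comap
            (e : _ →+* _) := by
      rw [Ideal.map_le_iff_le_comap]
      intro p hp
      change e (p ⊗ₜ 1) ∈ (RingHom.ker f.toRingHom).map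
          (algebraMap (MvPolynomial (Fin n) A) (MvPolynomial (Fin n) k))
      rw [Algebra.IsPushout.equiv_tmul, map_one, mul_one]
      exact Ideal.mem_map_of_mem _ hp
    have h4 : e (e.symm x) ∈ (RingHom.ker f.toRingHom).map
          (algebraMap (MvPolynomial (Fin n) A) (MvPolynomial (Fin n) k)) := h3 h2
    rwa [AlgEquiv.apply_symm_apply] at h4
  · rw [Ideal.map_le_iff_le_comap]
    intro p hp
    change fk (k := k) f (MvPolynomial.map (algebraMap A k) p) = 0
    rw [fk_map]
    have : f p = 0 := hp
    rw [this, TensorProduct.zero_tmul]

end BC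

section Field

/-- a field is a Gorenstein ring -/
theorem isGorensteinRing_of_field (K : Type u) [Field K] : LocCoh.IsGorensteinRing K := by
  refine { toIsNoetherian := inferInstance, isGorensteinLocalRing_localization := fun q _ => ?_ }
  haveI : Module.Injective K K := Module.injective_of_isSemisimpleRing K K
  haveI : Injective (ModuleCat.of K K) := Module.injective_object_of_injective_module K K
  have h : LocCoh.IsGorensteinLocalRing K :=
    { exists_hasInjectiveDimensionLT := ⟨1, inferInstance⟩ }
  refine Groth.Agent.H4.GL2.isGorensteinLocalRing_of_ringEquiv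
    (IsLocalization.atUnits K q.primeCompl ?_).toRingEquiv h
  intro x hx
  have hx0 : x ≠ 0 := by
    rintro rfl
    exact hx (zero_mem q)
  exact (isUnit_iff_ne_zero.2 hx0)

end Field

section Main

variable {A B k : Type u} [CommRing A] [CommRing B] [CommRing k] [Algebra A B] [Algebra A k]
  [Module.Flat A B]

variable {n : ℕ}

local notation "PA" => MvPolynomial (Fin n) A
local notation "PK" => MvPolynomial (Fin n) k

/-- the local step -/
theorem local_step (f : PA →ₐ[A] B) (hf : Function.Surjective f)
    (g : PA) (l : List (Localization.Away g))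
    (hl : LCI.IsKoszulRegularSeq (Localization.Away g) l)
    (hspan : (RingHom.ker f.toRingHom).map
      (algebraMap PA (Localization.Away g)) = Ideal.span {x | x ∈ l}) :
    ∃ l' : List (Localization.Away (algebraMap PA PK g)),
      LCI.IsKoszulRegularSeq _ l' ∧
      (RingHom.ker (fk (k := k) f).toRingHom).map
        (algebraMap PK (Localization.Away (algebraMap PA PK g))) =
        Ideal.span {x | x ∈ l'} := by
  letI : Algebra (Localization.Away g) (Localization.Away (algebraMap PA PK g)) :=
    (Localization.awayMap (algebraMap PA PK) g).toAlgebra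
  letI : Algebra (Localization.Away g) (Localization.Away (f.toRingHom g)) :=
    (Localization.awayMap f.toRingHom g).toAlgebra
  haveI I1 : IsScalarTower A (Localization.Away g) (Localization.Away (f.toRingHom g)) :=
    IsScalarTower.of_algebraMap_eq (fun a => by
      rw [IsScalarTower.algebraMap_apply A B (Localization.Away (f.toRingHom g)),
        IsScalarTower.algebraMap_apply A PA (Localization.Away g)]
      change algebraMap B _ (algebraMap A B a) =
        Localization.awayMap f.toRingHom g (algebraMap PA (Localization.Away g) (algebraMap A PA a))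
      rw [← f.commutes a]
      exact (IsLocalization.map_eq _ _).symm)
  haveI I2 : IsScalarTower PA (Localization.Away g) (Localization.Away (algebraMap PA PK g)) :=
    IsScalarTower.of_algebraMap_eq (fun p => by
      rw [IsScalarTower.algebraMap_apply PA PK (Localization.Away (algebraMap PA PK g))]
      change _ = Localization.awayMap (algebraMap PA PK) g (algebraMap PA (Localization.Away g) p)
      exact (IsLocalization.map_eq _ _).symm)
  haveI I3 : IsScalarTower A (Localization.Away g) (Localization.Away (algebraMap PA PK g)) :=
    IsScalarTower.of_algebraMap_eq (fun a => by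
      rw [IsScalarTower.algebraMap_apply A PA (Localization.Away g),
        ← IsScalarTower.algebraMap_apply PA (Localization.Away g)
          (Localization.Away (algebraMap PA PK g)),
        IsScalarTower.algebraMap_apply PA PK (Localization.Away (algebraMap PA PK g)),
        ← IsScalarTower.algebraMap_apply A PA PK,
        ← IsScalarTower.algebraMap_apply A PK (Localization.Away (algebraMap PA PK g))])
  haveI I4 : IsScalarTower A k (Localization.Away (algebraMap PA PK g)) :=
    IsScalarTower.of_algebraMap_eq (fun a => by
      rw [IsScalarTower.algebraMap_apply A PK (Localization.Away (algebraMap PA PK g)),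
        IsScalarTower.algebraMap_apply k PK (Localization.Away (algebraMap PA PK g)),
        ← IsScalarTower.algebraMap_apply A k PK])
  haveI : IsLocalization (Algebra.algebraMapSubmonoid PK (Submonoid.powers g))
      (Localization.Away (algebraMap PA PK g)) := by
    have : Algebra.algebraMapSubmonoid PK (Submonoid.powers g) =
        Submonoid.powers (algebraMap PA PK g) := Submonoid.map_powers _ g
    rw [this]
    infer_instance
  haveI : Algebra.IsPushout PA (Localization.Away g) PK (Localization.Away (algebraMap PA PK g)) :=
    (Algebra.isPushout_of_isLocalization (Submonoid.powers g) (A := Localization.Away g) PK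
      (Localization.Away (algebraMap PA PK g))).symm
  haveI : Algebra.IsPushout A (Localization.Away g) k (Localization.Away (algebraMap PA PK g)) :=
    (Algebra.IsPushout.comp_iff A PA k PK).2 inferInstance
  haveI : Module.Flat PA (Localization.Away g) := IsLocalization.flat _ (Submonoid.powers g)
  haveI : Module.Flat A (Localization.Away g) := Module.Flat.trans A PA (Localization.Away g)
  haveI : Module.Flat B (Localization.Away (f.toRingHom g)) :=
    IsLocalization.flat _ (Submonoid.powers (f.toRingHom g))
  haveI : Module.Flat A (Localization.Away (f.toRingHom g)) :=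
    Module.Flat.trans A B (Localization.Away (f.toRingHom g))
  have hs : Function.Surjective
      (algebraMap (Localization.Away g) (Localization.Away (f.toRingHom g))) := by
    change Function.Surjective (Localization.awayMap f.toRingHom g)
    rw [Localization.awayMap_surjective_iff]
    intro a
    obtain ⟨b, rfl⟩ := hf a
    exact ⟨b, 0, by simp⟩
  have hk : RingHom.ker (algebraMap (Localization.Away g) (Localization.Away (f.toRingHom g))) =
      Ideal.span {x | x ∈ l} := by
    rw [← hspan]
    exact IsLocalization.ker_map (Localization.Away (f.toRingHom g)) f.toRingHom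
      (Submonoid.map_powers f.toRingHom g)
  refine ⟨l.map (algebraMap (Localization.Away g) (Localization.Away (algebraMap PA PK g))),
    Groth.Agent.H4.KF1.isKoszulRegularSeq_map_of_flat (A := A) (T := Localization.Away g)
      (C := Localization.Away (f.toRingHom g)) (k := k)
      (T' := Localization.Away (algebraMap PA PK g)) hs l hl hk, ?_⟩
  rw [ker_fk f hf, Ideal.map_map]
  have hc : (algebraMap PK (Localization.Away (algebraMap PA PK g))).comp (algebraMap PA PK) =
      (algebraMap (Localization.Away g) (Localization.Away (algebraMap PA PK g))).comp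
        (algebraMap PA (Localization.Away g)) := by
    ext p
    · simp only [RingHom.comp_apply]
      rw [← IsScalarTower.algebraMap_apply PA PK (Localization.Away (algebraMap PA PK g)),
        ← IsScalarTower.algebraMap_apply PA (Localization.Away g)
          (Localization.Away (algebraMap PA PK g))]
    · simp only [RingHom.comp_apply]
      rw [← IsScalarTower.algebraMap_apply PA PK (Localization.Away (algebraMap PA PK g)),
        ← IsScalarTower.algebraMap_apply PA (Localization.Away g)
          (Localization.Away (algebraMap PA PK g))]
  rw [hc, ← Ideal.map_map, hspan, Ideal.map_span]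
  congr 1
  ext y
  simp only [Set.mem_image, Set.mem_setOf_eq, List.mem_map]

/-- **base change of a flat lci map is lci** -/
theorem isLCI_baseChange (hl : LCI.IsLCI A B) : LCI.IsLCI k (B ⊗[A] k) := by
  obtain ⟨hft, n, f, hf, hreg⟩ := hl
  have hfs := fk_surjective (k := k) f hf
  refine ⟨Algebra.FiniteType.of_surjective (fk (k := k) f) hfs, n, fk f, hfs, ?_⟩
  intro 𝔭' h𝔭'
  let 𝔭 : PrimeSpectrum (MvPolynomial (Fin n) A) :=
    ⟨𝔭'.asIdeal.comap (algebraMap (MvPolynomial (Fin n) A) (MvPolynomial (Fin n) k)),
      inferInstance⟩
  have hle : RingHom.ker f.toRingHom ≤ 𝔭.asIdeal := by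
    intro x hx
    change algebraMap (MvPolynomial (Fin n) A) (MvPolynomial (Fin n) k) x ∈ 𝔭'.asIdeal
    apply h𝔭'
    rw [ker_fk f hf]
    exact Ideal.mem_map_of_mem _ hx
  obtain ⟨g, hg, l, hl, hspan⟩ := hreg 𝔭 hle
  obtain ⟨l', hl', hspan'⟩ := local_step (k := k) f hf g l hl hspan
  exact ⟨algebraMap (MvPolynomial (Fin n) A) (MvPolynomial (Fin n) k) g, hg, l', hl', hspan'⟩

/-- **S1830**: the fibres of a flat lci map are Gorenstein -/
theorem isGorensteinRing_fibre (hl : LCI.IsLCI A B) (p : PrimeSpectrum A) :
    LocCoh.IsGorensteinRing (B ⊗[A] p.asIdeal.ResidueField) :=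
  Groth.Agent.H4.GL2.isGorensteinRing_of_isLCI p.asIdeal.ResidueField
    (B ⊗[A] p.asIdeal.ResidueField) (isGorensteinRing_of_field _) (isLCI_baseChange hl)

end Main

end Groth.Agent.H4.KF2
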