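import Mathlib.Topology.Inseparable
import Mathlib.Topology.Sober
import Mathlib.Topology.Separation.Basic
import Mathlib.Order.Preorder.Finite

/-!
# Helper library: quotients by étale-like equivalence relations are Kolmogorov (helper4)
-/

namespace Groth.Agent.H4.Spec

open Topology TopologicalSpace Set

/-- A finite nonempty set in a T0 space has a "most generic" point. -/
theorem exists_most_generic {U : Type*} [TopologicalSpace U] [T0Space U] (A : Set U)
    (hA : A.Finite) (hne : A.Nonempty) : ∃ a ∈ A, ∀ b ∈ A, b ⤳ a → b = a := by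
  letI := specializationPreorder U
  obtain ⟨a, ha⟩ := hA.exists_maximal hne
  refine ⟨a, ha.1, fun b hb hba => ?_⟩
  have h1 : a ≤ b := hba
  have h2 : b ≤ a := ha.2 hb h1
  have h3 : a ⤳ b := h2
  exact (hba.antisymm h3).eq

/-- Stacks 0APA? : the quotient of a T0 space by an equivalence relation with finite classes along
which generalizations lift, with open quotient map, is Kolmogorov. -/
theorem t0Space_of_open_quotient {R U X : Type*}
    [TopologicalSpace R] [TopologicalSpace U] [TopologicalSpace X] [T0Space U]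
    (s t : R → U) (π : U → X) (ht : Continuous t)
    (hπo : IsOpenMap π) (hsf : ∀ u, (s ⁻¹' {u}).Finite)
    (hsg : GeneralizingMap s)
    (hE : Equivalence fun u u' : U => ∃ r, t r = u ∧ s r = u')
    (hπs : Function.Surjective π) (hπq : ∀ u u' : U, π u = π u' ↔ ∃ r, t r = u ∧ s r = u') :
    T0Space X := by
  -- step 1: finiteness of classes
  have hfin : ∀ u : U, {v | ∃ r, t r = v ∧ s r = u}.Finite := by
    intro u
    have : {v | ∃ r, t r = v ∧ s r = u} = t '' (s ⁻¹' {u}) := by
      ext v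
      simp only [mem_ofPred_eq, mem_image, mem_preimage, mem_singleton_iff]
      constructor
      · rintro ⟨r, h1, h2⟩
        exact ⟨r, h2, h1⟩
      · rintro ⟨r, h2, h1⟩
        exact ⟨r, h1, h2⟩
    rw [this]
    exact (hsf u).image t
  -- step 2
  have step2 : ∀ u u' v' : U, u ⤳ u' → (∃ r, t r = v' ∧ s r = u') →
      ∃ v, (∃ r, t r = v ∧ s r = u) ∧ v ⤳ v' := by
    rintro u u' v' h ⟨r', hr't, hr's⟩
    have h1 : u ⤳ s r' := by rw [hr's]; exact h
    obtain ⟨r, hrr', hrs⟩ := hsg h1
    refine ⟨t r, ⟨r, rfl, hrs⟩, ?_⟩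
    rw [← hr't]
    exact hrr'.map ht
  -- step 3
  have step3 : ∀ x x' : X, x ⤳ x' → ∀ u', π u' = x' → ∃ v, π v = x ∧ v ⤳ u' := by
    intro x x' hxx' u' hu'
    obtain ⟨u, rfl⟩ := hπs x
    let C : Set U := ⋃ v ∈ {v | ∃ r, t r = v ∧ s r = u}, closure {v}
    have hCcl : IsClosed C := (hfin u).isClosed_biUnion fun v _ => isClosed_closure
    have hCsat : ∀ w w', w ∈ C → (∃ r, t r = w' ∧ s r = w) → w' ∈ C := by
      intro w w' hw hrel
      simp only [C, mem_iUnion, mem_ofPred_eq] at hw ⊢
      obtain ⟨v, hvu, hvw⟩ := hw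
      have hvw' : v ⤳ w := specializes_iff_mem_closure.2 hvw
      obtain ⟨v', hv'v, hv'w'⟩ := step2 v w w' hvw' hrel
      exact ⟨v', hE.trans hv'v hvu, specializes_iff_mem_closure.1 hv'w'⟩
    have himg : IsClosed (π '' C) := by
      have : (π '' C)ᶜ = π '' Cᶜ := by
        ext y
        simp only [mem_compl_iff, mem_image, not_exists, not_and]
        constructor
        · intro h
          obtain ⟨w, rfl⟩ := hπs y
          exact ⟨w, fun hw => h w hw rfl, rfl⟩
        · rintro ⟨w, hw, rfl⟩ w' hw' heq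
          exact hw (hCsat w' w hw' ((hπq w w').1 heq.symm))
      rw [← isOpen_compl_iff, this]
      exact hπo _ hCcl.isOpen_compl
    have huC : u ∈ C := by
      simp only [C, mem_iUnion, mem_ofPred_eq]
      exact ⟨u, hE.refl u, subset_closure rfl⟩
    have hx'mem : x' ∈ π '' C := by
      have h1 : closure {π u} ⊆ π '' C :=
        closure_minimal (singleton_subset_iff.2 ⟨u, huC, rfl⟩) himg
      exact h1 (specializes_iff_mem_closure.1 hxx')
    obtain ⟨w, hwC, hwx'⟩ := hx'mem
    simp only [C, mem_iUnion, mem_ofPred_eq] at hwC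
    obtain ⟨v, hvu, hvw⟩ := hwC
    have hrel : ∃ r, t r = u' ∧ s r = w := (hπq u' w).1 (by rw [hu', hwx'])
    obtain ⟨v', hv'v, hv'u'⟩ := step2 v w u' (specializes_iff_mem_closure.2 hvw) hrel
    refine ⟨v', ?_, hv'u'⟩
    rw [(hπq v' v).2 hv'v, (hπq v u).2 hvu]
  -- conclusion
  rw [t0Space_iff_inseparable]
  intro x x' hxx'
  have hfib : ∀ y : X, (π ⁻¹' {y}).Finite := by
    intro y
    obtain ⟨u, rfl⟩ := hπs y
    have : π ⁻¹' {π u} = {v | ∃ r, t r = v ∧ s r = u} := by
      ext v
      simp only [mem_preimage, mem_singleton_iff, mem_ofPred_eq]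
      exact hπq v u
    rw [this]
    exact hfin u
  obtain ⟨u0, hu0⟩ := hπs x
  obtain ⟨a, haA, hamax⟩ := exists_most_generic (π ⁻¹' {x} ∪ π ⁻¹' {x'})
    ((hfib x).union (hfib x')) ⟨u0, Or.inl hu0⟩
  rcases haA with ha | ha
  · obtain ⟨v, hv, hva⟩ := step3 x' x hxx'.specializes' a ha
    have := hamax v (Or.inr hv) hva
    rw [← hv, this]
    exact ha.symm
  · obtain ⟨v, hv, hva⟩ := step3 x x' hxx'.specializes a ha
    have := hamax v (Or.inl hv) hva
    rw [← hv, this]
    exact ha

end Groth.Agent.H4.Spec
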