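import Mathlib
import Groth.Prelude
import Groth.Agent.Lib.Helper2.Kos7
import Groth.Agent.Lib.Helper8.CK.KLim
import Groth.Agent.Lib.Helper8.CK.CxElt

set_option autoImplicit false
universe u
open CategoryTheory CategoryTheory.Limits CochainComplex HomologicalComplex

namespace Groth.Agent.H4.KosLimPoly

open CohIII Groth.Agent.H2.Kos Groth.Agent.H8.CK Pointwise

/-! ### The top Koszul cohomology, naturally in the transition maps -/

section General

variable {R : Type u} [CommRing R] (M : ModuleCat.{u} R)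

/-- the inclusion of `M` into the degree-0 term of the Koszul complex -/
noncomputable def iota : ∀ l : List R, M ⟶ (koszulCx M l).X 0
  | [] => (HomologicalComplex.singleObjXSelf (ComplexShape.up ℤ) 0 M).inv
  | f :: l => iota l ≫ (mappingCone.inr (f • 𝟙 (koszulCx M l))).f 0

lemma iota_cons (f : R) (l : List R) :
    iota M (f :: l) = iota M l ≫ (mappingCone.inr (f • 𝟙 (koszulCx M l))).f 0 := rfl

lemma iota_nil_injective : Function.Injective (iota M []).hom := by
  intro a b hab
  have h1 := congrArg (fun f => f.hom a)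
    (HomologicalComplex.singleObjXSelf (ComplexShape.up ℤ) 0 M).inv_hom_id
  have h2 := congrArg (fun f => f.hom b)
    (HomologicalComplex.singleObjXSelf (ComplexShape.up ℤ) 0 M).inv_hom_id
  exact h1.symm.trans ((congrArg
    (HomologicalComplex.singleObjXSelf (ComplexShape.up ℤ) 0 M).hom.hom hab).trans h2)

lemma iota_nil_surjective : Function.Surjective (iota M []).hom := by
  intro y
  refine ⟨(HomologicalComplex.singleObjXSelf (ComplexShape.up ℤ) 0 M).hom.hom y, ?_⟩
  exact congrArg (fun f => f.hom y)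
    (HomologicalComplex.singleObjXSelf (ComplexShape.up ℤ) 0 M).hom_inv_id

lemma cone_X0_eq (f : R) (l : List R) (y : (mappingCone (f • 𝟙 (koszulCx M l))).X 0) :
    y = ((mappingCone.inr (f • 𝟙 (koszulCx M l))).f 0).hom
      (((mappingCone.snd (f • 𝟙 (koszulCx M l))).v 0 0 (add_zero 0)).hom y) := by
  have hz1 : ∀ t : (koszulCx M l).X 1, t = 0 := fun t =>
    isZero_elim (isZero_X_of_pos M l 1 (by norm_num)) t
  conv_lhs => rw [decomp' (f • 𝟙 (koszulCx M l)) 0 1 (by norm_num) y]
  rw [hz1 (((mappingCone.fst (f • 𝟙 (koszulCx M l))).1.v 0 1 (by norm_num)).hom y), map_zero,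
    zero_add]

lemma iota_surjective : ∀ l : List R, Function.Surjective (iota M l).hom
  | [] => iota_nil_surjective M
  | f :: l => by
    intro (y : (mappingCone (f • 𝟙 (koszulCx M l))).X 0)
    obtain ⟨x, hx⟩ := iota_surjective l
      (((mappingCone.snd (f • 𝟙 (koszulCx M l))).v 0 0 (add_zero 0)).hom y)
    refine ⟨x, ?_⟩
    rw [cone_X0_eq M f l y, ← hx]
    rfl

lemma cone_step (K' : CochainComplex (ModuleCat.{u} R) ℤ) (h1 : IsZero (K'.X 1)) (f : R)
    (ι : M ⟶ K'.X 0) (hι : Function.Surjective ι.hom) (N : Submodule R M)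
    (hN : ∀ x, ι.hom x ∈ LinearMap.range (K'.d (-1) 0).hom ↔ x ∈ N) (x : M) :
    ((mappingCone.inr (f • 𝟙 K')).f 0).hom (ι.hom x) ∈
        LinearMap.range ((mappingCone (f • 𝟙 K')).d (-1) 0).hom ↔
      x ∈ f • (⊤ : Submodule R M) ⊔ N := by
  obtain ⟨φ, hφdef⟩ : ∃ φ : K' ⟶ K', φ = f • 𝟙 K' := ⟨_, rfl⟩
  rw [← hφdef]
  have hz1 : ∀ t : K'.X 1, t = 0 := fun t => isZero_elim h1 t
  have hφ : ∀ y : K'.X 0, (φ.f 0).hom y = f • y := fun y => by rw [hφdef]; simp
  have hd : ∀ w : (mappingCone φ).X (-1),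
      ((mappingCone φ).d (-1) 0).hom w =
        ((mappingCone.inr φ).f 0).hom
          (f • ((mappingCone.fst φ).1.v (-1) 0 (by norm_num)).hom w +
            (K'.d (-1) 0).hom (((mappingCone.snd φ).v (-1) (-1) (add_zero _)).hom w)) := by
    intro w
    conv_lhs => rw [decomp' φ (-1) 0 (by norm_num) w]
    rw [_root_.map_add, d_inl_apply φ 0 (-1) 1 (by norm_num) (by norm_num), d_inr_apply,
      hz1 ((K'.d 0 1).hom _), map_zero, sub_zero, hφ, _root_.map_add]
  have hinr : ∀ a b : K'.X 0, ((mappingCone.inr φ).f 0).hom a = ((mappingCone.inr φ).f 0).hom b →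
      a = b := by
    intro a b hab
    have := congrArg ((mappingCone.snd φ).v 0 0 (add_zero 0)).hom hab
    rwa [snd_inr_apply, snd_inr_apply] at this
  rw [Submodule.mem_sup]
  constructor
  · rintro ⟨w, hw⟩
    rw [hd w] at hw
    have hw' := hinr _ _ hw
    obtain ⟨y, hy⟩ := hι (((mappingCone.fst φ).1.v (-1) 0 (by norm_num)).hom w)
    have h2 : ι.hom (x - f • y) ∈ LinearMap.range (K'.d (-1) 0).hom := by
      refine ⟨((mappingCone.snd φ).v (-1) (-1) (add_zero _)).hom w, ?_⟩
      rw [map_sub, _root_.map_smul, hy, ← hw']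
      abel
    refine ⟨f • y, Submodule.smul_mem_pointwise_smul _ _ _ Submodule.mem_top, x - f • y,
      (hN _).1 h2, by abel⟩
  · rintro ⟨a, ha, z, hz, rfl⟩
    rw [Submodule.mem_smul_pointwise_iff_exists] at ha
    obtain ⟨y, -, rfl⟩ := ha
    obtain ⟨c, hc⟩ := (hN z).2 hz
    refine ⟨((mappingCone.inl φ).v 0 (-1) (by norm_num)).hom (ι.hom y) +
      ((mappingCone.inr φ).f (-1)).hom c, ?_⟩
    rw [_root_.map_add, d_inl_apply φ 0 (-1) 1 (by norm_num) (by norm_num), d_inr_apply,
      hz1 ((K'.d 0 1).hom _), map_zero, sub_zero, hφ, hc, _root_.map_add ι.hom,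
      _root_.map_smul ι.hom, _root_.map_add]

lemma iota_mem_range_iff : ∀ (l : List R) (x : M),
    (iota M l).hom x ∈ LinearMap.range ((koszulCx M l).d (-1) 0).hom ↔
      x ∈ (Ideal.ofList l • ⊤ : Submodule R M)
  | [], x => by
    have hd0 : (koszulCx M []).d (-1) 0 = 0 :=
      (HomologicalComplex.isZero_single_obj_X (ComplexShape.up ℤ) 0 M (-1) (by norm_num)).eq_of_src
        _ _
    rw [hd0, Ideal.ofList_nil, Submodule.bot_smul, Submodule.mem_bot]
    constructor
    · intro h
      have h0 : (iota M []).hom x = 0 := by simpa using h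
      exact iota_nil_injective M (h0.trans (map_zero _).symm)
    · rintro rfl
      rw [map_zero]
      exact Submodule.zero_mem _
  | f :: l, x => by
    rw [Ideal.ofList_cons_smul]
    exact cone_step M (koszulCx M l) (isZero_X_of_pos M l 1 (by norm_num)) f (iota M l)
      (iota_surjective M l) _ (iota_mem_range_iff l) x

lemma iota_comp_d (l : List R) : iota M l ≫ (koszulCx M l).d 0 1 = 0 :=
  (isZero_X_of_pos M l 1 (by norm_num)).eq_of_tgt _ _

/-- the inclusion of `M` into the degree-0 cycles -/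
noncomputable def zeta (l : List R) : M ⟶ (koszulCx M l).cycles 0 :=
  (koszulCx M l).liftCycles (iota M l) 1 (by simp) (iota_comp_d M l)

lemma zeta_i (l : List R) : zeta M l ≫ (koszulCx M l).iCycles 0 = iota M l :=
  (koszulCx M l).liftCycles_i _ _ _ _

lemma zeta_i_apply (l : List R) (x : M) :
    ((koszulCx M l).iCycles 0).hom ((zeta M l).hom x) = (iota M l).hom x :=
  congrArg (fun f => f.hom x) (zeta_i M l)

/-- the projection of `M` onto the top Koszul cohomology -/
noncomputable def piH (l : List R) : M ⟶ (koszulCx M l).homology 0 :=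
  zeta M l ≫ (koszulCx M l).homologyπ 0

lemma piH_apply (l : List R) (x : M) :
    (piH M l).hom x = ((koszulCx M l).homologyπ 0).hom ((zeta M l).hom x) := rfl

lemma piH_surjective (l : List R) : Function.Surjective (piH M l).hom := by
  intro y
  obtain ⟨z, rfl⟩ := homologyπ_surjective (koszulCx M l) 0 y
  obtain ⟨x, hx⟩ := iota_surjective M l (((koszulCx M l).iCycles 0).hom z)
  refine ⟨x, ?_⟩
  have hz : (zeta M l).hom x = z := by
    apply iCycles_injective (koszulCx M l) 0
    rw [zeta_i_apply, hx]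
  rw [piH_apply, hz]

lemma homologyπ_eq_zero_iff (K : CochainComplex (ModuleCat.{u} R) ℤ) (z : K.cycles 0) :
    (K.homologyπ 0).hom z = 0 ↔ ∃ w : K.X (-1), (K.d (-1) 0).hom w = (K.iCycles 0).hom z := by
  have hS : (ShortComplex.mk (K.toCycles (-1) 0) (K.homologyπ 0)
      (K.toCycles_comp_homologyπ (-1) 0)).Exact :=
    ShortComplex.exact_of_g_is_cokernel _ (K.homologyIsCokernel (-1) 0 (by simp))
  rw [ShortComplex.ShortExact.moduleCat_exact_iff_function_exact] at hS
  refine (hS z).trans ⟨?_, ?_⟩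
  · rintro ⟨w, hw⟩
    refine ⟨w, ?_⟩
    rw [← hw]
    exact (congrArg (fun f => f.hom w) (K.toCycles_i (-1) 0)).symm
  · rintro ⟨w, hw⟩
    refine ⟨w, ?_⟩
    apply iCycles_injective K 0
    rw [← hw]
    exact congrArg (fun f => f.hom w) (K.toCycles_i (-1) 0)

lemma piH_eq_zero_iff (l : List R) (x : M) :
    (piH M l).hom x = 0 ↔ x ∈ (Ideal.ofList l • ⊤ : Submodule R M) := by
  rw [← iota_mem_range_iff M l x, piH_apply, homologyπ_eq_zero_iff, zeta_i_apply]
  rfl

lemma inr_map_f {K₁ L₁ K₂ L₂ : CochainComplex (ModuleCat.{u} R) ℤ} (φ₁ : K₁ ⟶ L₁) (φ₂ : K₂ ⟶ L₂)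
    (a : K₁ ⟶ K₂) (b : L₁ ⟶ L₂) (comm : φ₁ ≫ b = a ≫ φ₂) (p : ℤ) :
    (mappingCone.inr φ₁).f p ≫ (mappingCone.map φ₁ φ₂ a b comm).f p =
      b.f p ≫ (mappingCone.inr φ₂).f p := by
  rw [← HomologicalComplex.comp_f, ← HomologicalComplex.comp_f]
  congr 1
  simp [mappingCone.map]

lemma iota_trans (n m : ℕ) (h : n ≤ m) : ∀ l : List R,
    iota M (l.map (· ^ n)) ≫ (koszulTrans M n m h l).f 0 =
      (l.prod ^ (m - n)) • iota M (l.map (· ^ m))
  | [] => by
    rw [koszulTrans_nil]
    simp only [List.prod_nil, one_pow, one_smul, HomologicalComplex.id_f, Category.comp_id]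
    rfl
  | f :: l => by
    have ih := iota_trans n m h l
    have key : (iota M (l.map (· ^ n)) ≫
          (mappingCone.inr (f ^ n • 𝟙 (koszulCx M (l.map (· ^ n))))).f 0) ≫
        (mappingCone.map (f ^ n • 𝟙 (koszulCx M (l.map (· ^ n))))
          (f ^ m • 𝟙 (koszulCx M (l.map (· ^ m)))) (koszulTrans M n m h l)
          (f ^ (m - n) • koszulTrans M n m h l) (by
            simp only [Linear.smul_comp, Linear.comp_smul, Category.id_comp, Category.comp_id,
              smul_smul, ← pow_add, Nat.sub_add_cancel h])).f 0 =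
      ((f * l.prod) ^ (m - n)) • (iota M (l.map (· ^ m)) ≫
        (mappingCone.inr (f ^ m • 𝟙 (koszulCx M (l.map (· ^ m))))).f 0) := by
      rw [Category.assoc, inr_map_f, HomologicalComplex.smul_f_apply,
        Linear.smul_comp, Linear.comp_smul, ← Category.assoc, ih, Linear.smul_comp, smul_smul,
        mul_pow]
    rw [List.prod_cons]
    exact key

lemma piH_trans (n m : ℕ) (h : n ≤ m) (l : List R) (x : M) :
    (HomologicalComplex.homologyMap (koszulTrans M n m h l) 0).hom
        ((piH M (l.map (· ^ n))).hom x) =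
      (piH M (l.map (· ^ m))).hom ((l.prod ^ (m - n)) • x) := by
  rw [piH_apply, piH_apply, homologyMap_π_apply]
  refine congrArg _ ?_
  apply iCycles_injective _ 0
  rw [iCycles_cyclesMap_apply, zeta_i_apply, zeta_i_apply, _root_.map_smul]
  exact congrArg (fun f => f.hom x) (iota_trans M n m h l)

end General

/-! ### Monomial ideals in the polynomial ring -/

section Poly

open MvPolynomial

variable (A : Type u) [CommRing A] (r : ℕ)

lemma span_pow_eq (T : Set (Fin (r + 1))) (n : ℕ) :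
    Ideal.span {x : MvPolynomial (Fin (r + 1)) A | ∃ k ∈ T, x = X k ^ n} =
      Ideal.span ((fun s => monomial s (1 : A)) '' {s | ∃ k ∈ T, s = Finsupp.single k n}) := by
  congr 1
  ext x
  constructor
  · rintro ⟨k, hk, rfl⟩
    exact ⟨Finsupp.single k n, ⟨k, hk, rfl⟩, (X_pow_eq_monomial).symm⟩
  · rintro ⟨s, ⟨k, hk, rfl⟩, rfl⟩
    exact ⟨k, hk, (X_pow_eq_monomial).symm⟩

lemma mem_span_pow_iff (T : Set (Fin (r + 1))) (n : ℕ) (p : MvPolynomial (Fin (r + 1)) A) :
    p ∈ Ideal.span {x : MvPolynomial (Fin (r + 1)) A | ∃ k ∈ T, x = X k ^ n} ↔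
      ∀ d ∈ p.support, ∃ k ∈ T, n ≤ d k := by
  rw [span_pow_eq, mem_ideal_span_monomial_image]
  refine forall₂_congr fun d _ => ?_
  constructor
  · rintro ⟨s, ⟨k, hk, rfl⟩, hs⟩
    refine ⟨k, hk, ?_⟩
    have := Finsupp.le_def.1 hs k
    simpa using this
  · rintro ⟨k, hk, hkd⟩
    refine ⟨Finsupp.single k n, ⟨k, hk, rfl⟩, ?_⟩
    rw [Finsupp.le_def]
    intro i
    by_cases hi : i = k
    · subst hi
      simpa using hkd
    · rw [Finsupp.single_apply, if_neg (Ne.symm hi)]
      exact Nat.zero_le _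

lemma mem_of_X_pow_mul_mem (T : Set (Fin (r + 1))) (k₀ : Fin (r + 1)) (hk₀ : k₀ ∉ T) (n : ℕ)
    (p : MvPolynomial (Fin (r + 1)) A)
    (h : X k₀ ^ n * p ∈ Ideal.span {x : MvPolynomial (Fin (r + 1)) A | ∃ k ∈ T, x = X k ^ n}) :
    p ∈ Ideal.span {x : MvPolynomial (Fin (r + 1)) A | ∃ k ∈ T, x = X k ^ n} := by
  rw [mem_span_pow_iff] at h ⊢
  intro d hd
  have hd' : Finsupp.single k₀ n + d ∈ (X k₀ ^ n * p).support := by
    rw [mem_support_iff, X_pow_eq_monomial, coeff_monomial_mul, one_mul]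
    exact mem_support_iff.1 hd
  obtain ⟨k, hk, hkd⟩ := h _ hd'
  refine ⟨k, hk, ?_⟩
  have hne : k₀ ≠ k := fun e => hk₀ (e ▸ hk)
  rw [Finsupp.add_apply, Finsupp.single_apply, if_neg hne, zero_add] at hkd
  exact hkd

/-- the list of variables -/
noncomputable abbrev ll : List (MvPolynomial (Fin (r + 1)) A) :=
  List.ofFn (fun j : Fin (r + 1) => (X j : MvPolynomial (Fin (r + 1)) A))

lemma ofList_smul_top_eq (L : List (MvPolynomial (Fin (r + 1)) A)) (T : Set (Fin (r + 1))) (n : ℕ)
    (h : ∀ x, x ∈ L ↔ ∃ k ∈ T, x = X k ^ n) :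
    (Ideal.ofList L • ⊤ : Submodule (MvPolynomial (Fin (r + 1)) A) (MvPolynomial (Fin (r + 1)) A)) =
      Ideal.span {x : MvPolynomial (Fin (r + 1)) A | ∃ k ∈ T, x = X k ^ n} := by
  rw [smul_eq_mul, Ideal.mul_top]
  exact congrArg Ideal.span (Set.ext h)

lemma mem_pw_iff (n : ℕ) (x : MvPolynomial (Fin (r + 1)) A) :
    x ∈ (ll A r).map (· ^ n) ↔ ∃ k ∈ (Set.univ : Set (Fin (r + 1))), x = X k ^ n := by
  rw [List.mem_map]
  constructor
  · rintro ⟨a, ha, rfl⟩
    rw [List.mem_ofFn] at ha
    obtain ⟨k, rfl⟩ := ha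
    exact ⟨k, trivial, rfl⟩
  · rintro ⟨k, -, rfl⟩
    exact ⟨X k, List.mem_ofFn.2 ⟨k, rfl⟩, rfl⟩

lemma mem_pw_smul_top_iff (n : ℕ) (p : MvPolynomial (Fin (r + 1)) A) :
    p ∈ (Ideal.ofList ((ll A r).map (· ^ n)) • ⊤ :
      Submodule (MvPolynomial (Fin (r + 1)) A) (MvPolynomial (Fin (r + 1)) A)) ↔
      ∀ d ∈ p.support, ∃ k, n ≤ d k := by
  rw [ofList_smul_top_eq A r _ Set.univ n (mem_pw_iff A r n), mem_span_pow_iff]
  simp

lemma isWeaklyRegular_pw (n : ℕ) :
    RingTheory.Sequence.IsWeaklyRegular (MvPolynomial (Fin (r + 1)) A) ((ll A r).map (· ^ n)) := by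
  refine ⟨fun i hi => ?_⟩
  rw [isSMulRegular_quotient_iff_mem_of_smul_mem]
  have hlen : ((ll A r).map (· ^ n)).length = r + 1 := by simp [ll]
  have hi' : i < r + 1 := hlen ▸ hi
  have hI := ofList_smul_top_eq A r (((ll A r).map (· ^ n)).take i) {k : Fin (r + 1) | k.val < i} n
    (by
      intro x
      rw [List.mem_take_iff_getElem]
      constructor
      · rintro ⟨j, hj, rfl⟩
        have hj1 : j < i := lt_of_lt_of_le hj (min_le_left _ _)
        have hj2 : j < r + 1 := lt_trans hj1 hi'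
        exact ⟨⟨j, hj2⟩, hj1, by simp only [ll, List.getElem_map, List.getElem_ofFn]⟩
      · rintro ⟨k, hk, rfl⟩
        refine ⟨k.val, ?_, by simp only [ll, List.getElem_map, List.getElem_ofFn]⟩
        rw [hlen]
        exact lt_min hk k.isLt)
  have hx : ((ll A r).map (· ^ n))[i] = X (⟨i, hi'⟩ : Fin (r + 1)) ^ n := by
    simp only [ll, List.getElem_map, List.getElem_ofFn]
  rw [hI, hx]
  intro p hp
  exact mem_of_X_pow_mul_mem A r _ ⟨i, hi'⟩ (by simp) n p hp

theorem subsingleton_of_ne (i : ℕ) (hi : i ≠ r + 1) :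
    Subsingleton (koszulHLim (ll A r)
      (ModuleCat.of (MvPolynomial (Fin (r + 1)) A) (MvPolynomial (Fin (r + 1)) A)) i) := by
  rw [koszulHLim_eq]
  apply dlim_subsingleton_of_forall
  intro n
  have hj : ((i : ℤ) - ((ll A r).length : ℤ)) ≠ 0 := by
    simp only [ll, List.length_ofFn]
    omega
  exact ModuleCat.subsingleton_of_isZero
    (isZero_koszulH_of_isWeaklyRegular ((ll A r).map (· ^ n)) (MvPolynomial (Fin (r + 1)) A)
      (isWeaklyRegular_pw A r n) _ hj)

/-! ### Freeness -/

lemma free_restrictScalars {S : Type u} [CommRing S] [Algebra A S] {Y : Type u} [AddCommGroup Y]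
    [Module S Y] {B : Type} (e : B → Y)
    (hli : ∀ (s : Finset B) (g : B → A), ∑ b ∈ s, algebraMap A S (g b) • e b = 0 →
      ∀ b ∈ s, g b = 0)
    (hspan : ∀ x : Y, x ∈ AddSubmonoid.closure {y : Y | ∃ (a : A) (b : B), y = algebraMap A S a • e b}) :
    Module.Free A (RestrictScalars A S Y) := by
  show @Module.Free A Y _ _ (Module.compHom Y (algebraMap A S))
  letI : Module A Y := Module.compHom Y (algebraMap A S)
  have hsm : ∀ (a : A) (x : Y), a • x = algebraMap A S a • x := fun a x => rfl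
  have h1 : LinearIndependent A e := by
    refine linearIndependent_iff'.2 fun s g hs b hb => ?_
    exact hli s g hs b hb
  have h2 : ⊤ ≤ Submodule.span A (Set.range e) := by
    intro x _
    have hx := hspan x
    induction hx using AddSubmonoid.closure_induction with
    | mem y hy =>
      obtain ⟨a, b, rfl⟩ := hy
      rw [← hsm]
      exact Submodule.smul_mem _ _ (Submodule.subset_span ⟨b, rfl⟩)
    | zero => exact Submodule.zero_mem _
    | add y z _ _ hy hz => exact Submodule.add_mem _ (hy trivial) (hz trivial)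
  exact Module.Free.of_basis (Module.Basis.mk h1 h2)

variable {A r}

/-- the monomial `∏ X_i ^ (n - 1 - b_i)` -/
noncomputable def mono (n : ℕ) (b : Fin (r + 1) → ℕ) : MvPolynomial (Fin (r + 1)) A :=
  ∏ i, (MvPolynomial.X i : MvPolynomial (Fin (r + 1)) A) ^ (n - 1 - b i)

lemma prod_X_pow (a : Fin (r + 1) → ℕ) :
    ∏ i, (X i : MvPolynomial (Fin (r + 1)) A) ^ a i =
      monomial (Finsupp.equivFunOnFinite.symm a) 1 := by
  rw [monomial_eq, C_1, one_mul, Finsupp.prod_fintype]
  · simp
  · intro i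
    exact pow_zero _

lemma mono_mul (n m : ℕ) (b : Fin (r + 1) → ℕ) (hb : ∀ i, b i < n) (h : n ≤ m) :
    (∏ i, (X i : MvPolynomial (Fin (r + 1)) A)) ^ (m - n) * mono n b = mono m b := by
  rw [mono, mono, ← Finset.prod_pow, ← Finset.prod_mul_distrib]
  refine Finset.prod_congr rfl fun i _ => ?_
  rw [← pow_add]
  congr 1
  have := hb i
  omega

end Poly

section Main

open MvPolynomial

variable (A : Type u) [CommRing A] (r : ℕ)

theorem free_HL (j : ℤ) (hj : j = 0) :
    Module.Free A (RestrictScalars A (MvPolynomial (Fin (r + 1)) A)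
      (HL (ll A r) (ModuleCat.of (MvPolynomial (Fin (r + 1)) A) (MvPolynomial (Fin (r + 1)) A)) j)) := by
  subst hj
  classical
  let S := MvPolynomial (Fin (r + 1)) A
  let l : List S := ll A r
  let M : ModuleCat.{u} S := ModuleCat.of S S
  let π : ∀ n, S →ₗ[S] HP l M 0 n := fun n => (piH M (l.map (· ^ n))).hom
  let ofn : ∀ n, HP l M 0 n →ₗ[S] HL l M 0 := fun n =>
    Module.DirectLimit.of S ℕ (fun n => (HP l M 0 n : Type u)) (tr l M 0) n
  let P : S := ∏ i, X i
  have hP : l.prod = P := List.prod_ofFn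
  have hπker : ∀ n (p : S), π n p = 0 ↔ ∀ d ∈ p.support, ∃ k, n ≤ d k := fun n p =>
    (piH_eq_zero_iff M (l.map (· ^ n)) p).trans (mem_pw_smul_top_iff A r n p)
  have hπsurj : ∀ n, Function.Surjective (π n) := fun n => piH_surjective M (l.map (· ^ n))
  have htr : ∀ n m (h : n ≤ m) (p : S), tr l M 0 n m h (π n p) = π m (P ^ (m - n) * p) := by
    intro n m h p
    have := piH_trans M n m h l p
    rw [hP] at this
    exact this
  let E : ℕ → (Fin (r + 1) → ℕ) → HL l M 0 := fun n b => ofn n (π n (mono n b))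
  have hE : ∀ n m (b : Fin (r + 1) → ℕ), (∀ i, b i < n) → n ≤ m → E m b = E n b := by
    intro n m b hb h
    show ofn m (π m (mono m b)) = ofn n (π n (mono n b))
    rw [← mono_mul n m b hb h, ← htr n m h]
    exact Module.DirectLimit.of_f
  let nb : (Fin (r + 1) → ℕ) → ℕ := fun b => 1 + ∑ i, b i
  have hnb : ∀ b i, b i < nb b := by
    intro b i
    have : b i ≤ ∑ i, b i := Finset.single_le_sum (fun _ _ => Nat.zero_le _) (Finset.mem_univ i)
    show b i < 1 + ∑ i, b i
    omega
  let e : (Fin (r + 1) → ℕ) → HL l M 0 := fun b => E (nb b) b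
  have hEe : ∀ n (b : Fin (r + 1) → ℕ), (∀ i, b i < n) → E n b = e b := by
    intro n b hb
    rcases le_total n (nb b) with h | h
    · exact (hE n (nb b) b hb h).symm
    · exact hE (nb b) n b (hnb b) h
  -- coefficients of sums of level-`m` monomials
  have hcoeff : ∀ (m : ℕ) (s : Finset (Fin (r + 1) → ℕ)) (g : (Fin (r + 1) → ℕ) → A),
      (∀ b ∈ s, ∀ i, b i < m) → ∀ b₀ ∈ s,
      coeff (Finsupp.equivFunOnFinite.symm fun i => m - 1 - b₀ i)
        (∑ b ∈ s, algebraMap A S (g b) * mono m b) = g b₀ := by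
    intro m s g hs b₀ hb₀
    rw [coeff_sum, Finset.sum_eq_single b₀]
    · rw [mono, prod_X_pow, MvPolynomial.algebraMap_eq, coeff_C_mul, coeff_monomial, if_pos rfl,
        mul_one]
    · intro b hb hne
      rw [mono, prod_X_pow, MvPolynomial.algebraMap_eq, coeff_C_mul, coeff_monomial, if_neg,
        mul_zero]
      intro heq
      apply hne
      funext i
      have h1 := congrArg (fun (t : Fin (r + 1) →₀ ℕ) => t i) heq
      simp only [Finsupp.coe_equivFunOnFinite_symm] at h1
      have h2 := hs b hb i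
      have h3 := hs b₀ hb₀ i
      omega
    · intro h
      exact absurd hb₀ h
  refine free_restrictScalars A e ?_ ?_
  · -- linear independence
    intro s g hsum b₀ hb₀
    let n := s.sup nb
    have hn : ∀ b ∈ s, ∀ i, b i < n := fun b hb i =>
      lt_of_lt_of_le (hnb b i) (Finset.le_sup (f := nb) hb)
    have h1 : ∑ b ∈ s, algebraMap A S (g b) • e b =
        ofn n (π n (∑ b ∈ s, algebraMap A S (g b) * mono n b)) := by
      rw [map_sum, map_sum]
      refine Finset.sum_congr rfl fun b hb => ?_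
      rw [← hEe n b (hn b hb), ← smul_eq_mul, _root_.map_smul, _root_.map_smul]
    rw [h1] at hsum
    obtain ⟨m, hnm, hz⟩ := Module.DirectLimit.of.zero_exact hsum
    have hz' : π m (P ^ (m - n) * ∑ b ∈ s, algebraMap A S (g b) * mono n b) = 0 := by
      rw [← htr n m hnm]
      exact hz
    have h2 : P ^ (m - n) * ∑ b ∈ s, algebraMap A S (g b) * mono n b =
        ∑ b ∈ s, algebraMap A S (g b) * mono m b := by
      rw [Finset.mul_sum]
      refine Finset.sum_congr rfl fun b hb => ?_
      rw [mul_left_comm, mono_mul n m b (hn b hb) hnm]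
    rw [h2, hπker] at hz'
    have hm : ∀ b ∈ s, ∀ i, b i < m := fun b hb i => lt_of_lt_of_le (hn b hb i) hnm
    by_contra hne
    have hsupp : (Finsupp.equivFunOnFinite.symm fun i => m - 1 - b₀ i) ∈
        MvPolynomial.support (∑ b ∈ s, algebraMap A S (g b) * mono m b) := by
      rw [mem_support_iff, hcoeff m s g hm b₀ hb₀]
      exact hne
    obtain ⟨k, hk⟩ := hz' _ hsupp
    simp only [Finsupp.coe_equivFunOnFinite_symm] at hk
    have := hm b₀ hb₀ k
    omega
  · -- generation
    intro y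
    obtain ⟨n, x, rfl⟩ := Module.DirectLimit.exists_of y
    obtain ⟨p, rfl⟩ := hπsurj n x
    rw [← support_sum_monomial_coeff p]
    change ofn n (π n (∑ v ∈ p.support, monomial v (coeff v p))) ∈ _
    rw [map_sum, map_sum]
    refine AddSubmonoid.sum_mem _ fun d _ => ?_
    by_cases hd : ∃ k, n ≤ d k
    · have h0 : π n (monomial d (coeff d p)) = 0 := by
        rw [hπker]
        intro d' hd'
        have := support_monomial_subset hd'
        rw [Finset.mem_singleton] at this
        rw [this]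
        exact hd
      rw [h0, map_zero]
      exact AddSubmonoid.zero_mem _
    · push Not at hd
      let b : Fin (r + 1) → ℕ := fun i => n - 1 - d i
      have hb : ∀ i, b i < n := by
        intro i
        have := hd i
        show n - 1 - d i < n
        omega
      have hmono : monomial d (coeff d p) = algebraMap A S (coeff d p) * mono n b := by
        have hdeq : d = Finsupp.equivFunOnFinite.symm (fun i => n - 1 - b i) :=
          Finsupp.ext fun i => by
            have := hd i
            show d i = n - 1 - (n - 1 - d i)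
            omega
        rw [mono, prod_X_pow, MvPolynomial.algebraMap_eq, C_mul_monomial, mul_one, ← hdeq]
      rw [hmono, ← smul_eq_mul, _root_.map_smul, _root_.map_smul]
      apply AddSubmonoid.subset_closure
      exact ⟨coeff d p, b, by rw [← hEe n b hb]⟩

theorem main :
    (∀ i : ℕ, i ≠ r + 1 →
      Subsingleton (CohIII.koszulHLim (List.ofFn (fun j : Fin (r + 1) => (MvPolynomial.X j : MvPolynomial (Fin (r + 1)) A)))
        (ModuleCat.of (MvPolynomial (Fin (r + 1)) A) (MvPolynomial (Fin (r + 1)) A)) i)) ∧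
    Module.Free A (RestrictScalars A (MvPolynomial (Fin (r + 1)) A)
      (CohIII.koszulHLim (List.ofFn (fun j : Fin (r + 1) => (MvPolynomial.X j : MvPolynomial (Fin (r + 1)) A)))
        (ModuleCat.of (MvPolynomial (Fin (r + 1)) A) (MvPolynomial (Fin (r + 1)) A)) (r + 1))) := by
  refine ⟨fun i hi => subsingleton_of_ne A r i hi, ?_⟩
  exact free_HL A r _ (by simp)

end Main

end Groth.Agent.H4.KosLimPoly
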