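import Mathlib
import Groth.Agent.H4.KosPerf
import Groth.Agent.S6960
import Groth.Agent.Lib.Helper8.ExtScalarsBridge

set_option autoImplicit false
universe u
attribute [local instance] HasDerivedCategory.standard
open CategoryTheory CategoryTheory.Limits DerivedCategory DRing Groth.Agent.H4.DRing1 Groth.Agent.H4.PC Groth.Agent.H4.KosPerf

namespace Groth.Agent.H4.KosPerf2

variable {P : Type u} [CommRing P]

/-- the localisation of `(P ⧸ I)[0]` at `g`. -/
lemma nonempty_ext_single_quotient_iso (I : Ideal P) (g : P) :
    Nonempty (toD (((ModuleCat.extendScalars.{u, u, u}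
        (algebraMap P (Localization.Away g))).mapHomologicalComplex (ComplexShape.up ℤ)).obj
          ((CochainComplex.singleFunctor (ModuleCat.{u} P) 0).obj (ModuleCat.of P (P ⧸ I)))) ≅
      Dual.inD (Localization.Away g)
        (Localization.Away g ⧸ I.map (algebraMap P (Localization.Away g)))) := by
  set G := ModuleCat.extendScalars.{u, u, u} (algebraMap P (Localization.Away g)) with hG
  let M := ModuleCat.of P (P ⧸ I)
  let j : G.obj M ≅ ModuleCat.of (Localization.Away g)
      (Localization.Away g ⧸ I.map (algebraMap P (Localization.Away g))) :=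
    ((Groth.Agent.H8.ExtBridge.extEquiv (A := P) (B := Localization.Away g) M).trans
      (Algebra.TensorProduct.quotIdealMapEquivTensorQuot (Localization.Away g)
        I).symm.toLinearEquiv).toModuleIso
  exact ⟨Q.mapIso ((HomologicalComplex.singleMapHomologicalComplex G (ComplexShape.up ℤ) 0).app M) ≪≫
    ((singleFunctorIsoCompQ (ModuleCat.{u} (Localization.Away g)) 0).app _).symm ≪≫
    (DerivedCategory.singleFunctor (ModuleCat.{u} (Localization.Away g)) 0).mapIso j⟩

theorem isPerfectModule_quotient_of_isKoszulRegularIdeal (I : Ideal P)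
    (hI : LCI.IsKoszulRegularIdeal I) : DRing.IsPerfectModule P (P ⧸ I) := by
  classical
  let K : Cx P := (CochainComplex.singleFunctor (ModuleCat.{u} P) 0).obj (ModuleCat.of P (P ⧸ I))
  let Good : P → Prop := fun g => DRing.IsPerfect (Localization.Away g)
    (toD (((ModuleCat.extendScalars.{u, u, u}
      (algebraMap P (Localization.Away g))).mapHomologicalComplex (ComplexShape.up ℤ)).obj K))
  have hloc : ∀ 𝔭 : PrimeSpectrum P, ∃ g : P, g ∉ 𝔭.asIdeal ∧ Good g := by
    intro 𝔭
    by_cases h𝔭 : I ≤ 𝔭.asIdeal
    · obtain ⟨g, hg, l, hl, hspan⟩ := hI 𝔭 h𝔭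
      refine ⟨g, hg, ?_⟩
      obtain ⟨e⟩ := nonempty_ext_single_quotient_iso I g
      refine isPerfect_of_iso e.symm ?_
      rw [hspan]
      exact isPerfectModule_quotient_of_isKoszulRegularSeq l hl
    · obtain ⟨g, hgI, hg⟩ := SetLike.not_le_iff_exists.1 h𝔭
      refine ⟨g, hg, ?_⟩
      obtain ⟨e⟩ := nonempty_ext_single_quotient_iso I g
      refine isPerfect_of_iso e.symm ?_
      have htop : I.map (algebraMap P (Localization.Away g)) = ⊤ := by
        rw [Ideal.eq_top_iff_one]
        have hu : IsUnit (algebraMap P (Localization.Away g) g) :=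
          IsLocalization.Away.algebraMap_isUnit g
        obtain ⟨u, hu⟩ := hu
        have : (algebraMap P (Localization.Away g) g) ∈ I.map (algebraMap P (Localization.Away g)) :=
          Ideal.mem_map_of_mem _ hgI
        have h2 := Ideal.mul_mem_left _ (↑u⁻¹ : Localization.Away g) this
        rwa [← hu, Units.inv_mul] at h2
      haveI : Subsingleton (Localization.Away g ⧸ I.map (algebraMap P (Localization.Away g))) := by
        rw [htop]; exact Ideal.Quotient.subsingleton_iff.2 rfl
      exact Groth.Agent.H4.DRing1.isPerfect_of_isZero _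
        ((DerivedCategory.singleFunctor _ 0).map_isZero (ModuleCat.isZero_of_subsingleton _))
  choose g hg hgood using hloc
  have htop : Ideal.span (Set.range g) = ⊤ := by
    by_contra hne
    obtain ⟨m, hm, hle⟩ := Ideal.exists_le_maximal _ hne
    exact hg ⟨m, hm.isPrime⟩ (hle (Ideal.subset_span ⟨⟨m, hm.isPrime⟩, rfl⟩))
  obtain ⟨s, hs, hs'⟩ := (Ideal.span_eq_top_iff_finite _).1 htop
  let f : Fin s.card → P := fun i => (s.equivFin.symm i : P)
  have hf : Ideal.span (Set.range f) = ⊤ := by
    have : Set.range f = (s : Set P) := by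
      ext x
      constructor
      · rintro ⟨i, rfl⟩; exact (s.equivFin.symm i).2
      · intro hx; exact ⟨s.equivFin ⟨x, hx⟩, by simp [f]⟩
    rw [this, hs']
  have hK : ∀ i, Good (f i) := by
    intro i
    obtain ⟨𝔭, h𝔭⟩ := hs (s.equivFin.symm i).2
    change Good (s.equivFin.symm i : P)
    rw [← h𝔭]
    exact hgood 𝔭
  have := Groth.Agent.S6960.result f hf K hK
  exact isPerfect_of_iso ((singleFunctorIsoCompQ (ModuleCat.{u} P) 0).app _).symm this


end Groth.Agent.H4.KosPerf2
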