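import Mathlib
import Groth.Prelude
import Groth.Agent.Lib.Helper1.TorKos2
import Groth.Agent.Lib.Helper2.TorBalLES
import Groth.Agent.Lib.Helper2.TorBalLin
import Groth.Agent.Lib.Helper5.QRBC.A
import Groth.Agent.H4.KE3
import Groth.Agent.H4.KosLow
import Groth.Agent.S2103

set_option autoImplicit false
universe u
open CategoryTheory CategoryTheory.Limits CochainComplex MonoidalCategory

namespace Groth.Agent.H4.KosTorPow

open CohIII Groth.Agent.H2.Kos Groth.Agent.H2.TorBal Groth.Agent.Lib.Helper1.TorKos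

variable {A : Type u} [CommRing A]

/-! ### A. the Koszul complex of a Koszul-regular sequence is a projective resolution -/

theorem exists_projRes' (l : List A)
    (hex : ∀ n : ℕ, (toChain (koszulCx (ModuleCat.of A A) l)).ExactAt (n + 1)) :
    ∃ P : ProjectiveResolution (ModuleCat.of A (A ⧸ (Ideal.ofList l • (⊤ : Submodule A A)))),
      P.complex = toChain (koszulCx (ModuleCat.of A A) l) := by
  obtain ⟨ε, hεs, hεk⟩ := exists_aug A l
  let augHom : (toChain (KA l)).X 0 ⟶ ModuleCat.of A (A ⧸ (Ideal.ofList l • (⊤ : Submodule A A))) :=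
    ModuleCat.ofHom ε
  have hd0 : (toChain (KA l)).d 1 0 = (KA l).d (-1) 0 := toChain_d (KA l) 0
  have hcomp : (toChain (KA l)).d 1 0 ≫ augHom = 0 := by
    apply ModuleCat.hom_ext
    apply LinearMap.ext
    intro x
    have : ((KA l).d (-1) 0).hom x ∈ LinearMap.ker ε := by
      rw [hεk]; exact ⟨x, rfl⟩
    have h2 : ((toChain (KA l)).d 1 0).hom x = ((KA l).d (-1) 0).hom x := by rw [hd0]; rfl
    show ε (((toChain (KA l)).d 1 0).hom x) = 0
    rw [h2]
    exact this
  let π : toChain (KA l) ⟶ (ChainComplex.single₀ (ModuleCat.{u} A)).obj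
      (ModuleCat.of A (A ⧸ (Ideal.ofList l • (⊤ : Submodule A A)))) :=
    (ChainComplex.toSingle₀Equiv _ _).symm ⟨augHom, hcomp⟩
  have hπ0 : π.f 0 = augHom := by simp [π]
  have hex' : (ShortComplex.mk ((toChain (KA l)).d 1 0) augHom hcomp).Exact := by
    rw [ShortComplex.ShortExact.moduleCat_exact_iff_function_exact]
    intro v
    show ε v = 0 ↔ v ∈ Set.range ((toChain (KA l)).d 1 0).hom
    have h2 : Set.range ((toChain (KA l)).d 1 0).hom = Set.range ((KA l).d (-1) 0).hom := by rw [hd0]; rfl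
    rw [h2, ← LinearMap.mem_ker, hεk]
    rfl
  haveI : Epi augHom := (ModuleCat.epi_iff_surjective _).2 hεs
  refine ⟨{
    complex := toChain (KA l)
    projective := fun n => projective_koszulCx_X l _
    π := π
    quasiIso := ⟨fun n => by
      cases n with
      | zero =>
        rw [ChainComplex.quasiIsoAt₀_iff, ShortComplex.quasiIso_iff_of_zeros']
        · refine (ShortComplex.exact_and_epi_g_iff_of_iso ?_).2
            ⟨hex', inferInstanceAs (Epi augHom)⟩
          exact ShortComplex.isoMk (Iso.refl _) (Iso.refl _) (Iso.refl _)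
            ((Category.id_comp _).trans (Category.comp_id _).symm)
            (by
              have h : ((HomologicalComplex.shortComplexFunctor' (ModuleCat.{u} A)
                  (ComplexShape.down ℕ) 1 0 0).map π).τ₂ = augHom := hπ0
              dsimp only [Iso.refl_hom]
              erw [Category.id_comp])
        · exact (toChain (KA l)).shape _ _ (by simp)
        · rfl
        · rfl
      | succ n =>
        rw [quasiIsoAt_iff_exactAt']
        · exact hex n
        · apply ChainComplex.exactAt_succ_single_obj⟩ }, rfl⟩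

lemma toChain_exactAt_succ' (l : List A) (hl : LCI.IsKoszulRegularSeq A l) (n : ℕ) :
    (toChain (koszulCx (ModuleCat.of A A) l)).ExactAt (n + 1) := by
  rw [HomologicalComplex.exactAt_iff_isZero_homology]
  refine IsZero.of_iso ?_ (toChainHomologyIso _ n)
  rw [← koszul_eq]
  exact hl _ (by omega)

/-! ### B. restriction of scalars of the Koszul complex -/

section Res
variable (A) (A' : Type u) [CommRing A'] [Algebra A A']

/-- restriction of scalars -/
noncomputable abbrev RS : ModuleCat.{u} A' ⥤ ModuleCat.{u} A :=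
  ModuleCat.restrictScalars.{u} (algebraMap A A')

/-- restriction of scalars on complexes -/
noncomputable abbrev RSC :
    CochainComplex (ModuleCat.{u} A') ℤ ⥤ CochainComplex (ModuleCat.{u} A) ℤ :=
  (RS A A').mapHomologicalComplex (ComplexShape.up ℤ)

lemma RS_map_smul_id (a : A) (M : ModuleCat.{u} A') :
    (RS A A').map (algebraMap A A' a • 𝟙 M) = a • 𝟙 ((RS A A').obj M) := by
  refine ModuleCat.hom_ext (LinearMap.ext fun t => ?_)
  rfl

lemma RSC_map_smul_id (a : A) (K : CochainComplex (ModuleCat.{u} A') ℤ) :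
    (RSC A A').map (algebraMap A A' a • 𝟙 K) = a • 𝟙 ((RSC A A').obj K) := by
  ext n : 1
  exact RS_map_smul_id A A' a (K.X n)

/-- `A'` restricted to `A` -/
noncomputable def rsUnitEquiv : ((RS A A').obj (ModuleCat.of A' A')) ≃ₗ[A] A' where
  toFun := fun x => x
  invFun := fun x => x
  map_add' := fun _ _ => rfl
  map_smul' := fun r x => (Algebra.smul_def r (show A' from x)).symm
  left_inv := fun _ => rfl
  right_inv := fun _ => rfl

/-- `A'` restricted to `A` -/
noncomputable def rsUnitIso : (RS A A').obj (ModuleCat.of A' A') ≅ ModuleCat.of A A' :=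
  (rsUnitEquiv A A').toModuleIso

/-- the restriction of scalars of the Koszul complex of the images is the Koszul complex of the
module `A'`. -/
noncomputable def resIso : ∀ l : List A,
    (RSC A A').obj (Koszul.koszul A' (l.map (algebraMap A A'))) ≅ koszulCx (ModuleCat.of A A') l
  | [] =>
    (HomologicalComplex.singleMapHomologicalComplex (RS A A') (ComplexShape.up ℤ) 0).app
        (ModuleCat.of A' A') ≪≫
      (HomologicalComplex.single (ModuleCat.{u} A) (ComplexShape.up ℤ) 0).mapIso (rsUnitIso A A')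
  | f :: l =>
    mappingCone.mapHomologicalComplexIso
        (algebraMap A A' f • 𝟙 (Koszul.koszul A' (l.map (algebraMap A A')))) (RS A A') ≪≫
      Groth.Agent.H4.KE3.coneIso _ (f • 𝟙 (koszulCx (ModuleCat.of A A') l))
        (resIso l) (resIso l) (by
          rw [RSC_map_smul_id, Linear.smul_comp, Linear.comp_smul, Category.id_comp,
            Category.comp_id])

lemma isZero_homology_RSC (K : CochainComplex (ModuleCat.{u} A') ℤ) (j : ℤ)
    (h : IsZero (K.homology j)) : IsZero (((RSC A A').obj K).homology j) := by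
  rw [← HomologicalComplex.exactAt_iff_isZero_homology] at h ⊢
  have h' : (K.sc j).Exact := h
  exact h'.map (RS A A')

/-! ### C. `Tor_i(A/J, A') = 0` -/

theorem isZero_tor_quot (l : List A) (hl : LCI.IsKoszulRegularSeq A l)
    (hl' : LCI.IsKoszulRegularSeq A' (l.map (algebraMap A A'))) (m : ℕ) :
    IsZero (torObj (m + 1) (ModuleCat.of A (A ⧸ Ideal.span {x | x ∈ l})) (ModuleCat.of A A')) := by
  obtain ⟨P, hP⟩ := exists_projRes' l (toChain_exactAt_succ' l hl)
  have hI2 : (Ideal.ofList l • (⊤ : Submodule A A)) = Ideal.span {x | x ∈ l} := by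
    rw [smul_eq_mul, Ideal.mul_top]
  let e0 : ModuleCat.of A (A ⧸ Ideal.span {x | x ∈ l}) ≅
      ModuleCat.of A (A ⧸ (Ideal.ofList l • (⊤ : Submodule A A))) :=
    (Submodule.quotEquivOfEq _ _ hI2.symm).toModuleIso
  let e1 := ((Tor (ModuleCat.{u} A) (m + 1)).mapIso e0).app (ModuleCat.of A A')
  obtain ⟨e2⟩ := nonempty_tor_iso _ (ModuleCat.of A A') P (m + 1)
  rw [hP] at e2
  let e3 := (HomologicalComplex.homologyFunctor _ _ (m + 1)).mapIso
    (toChainMapIso (tensorRight (ModuleCat.of A A')) (koszulCx (ModuleCat.of A A) l))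
  let e4 := toChainHomologyIso (((tensorRight (ModuleCat.of A A')).mapHomologicalComplex
    (ComplexShape.up ℤ)).obj (koszulCx (ModuleCat.of A A) l)) m
  have hz : IsZero ((((tensorRight (ModuleCat.of A A')).mapHomologicalComplex
      (ComplexShape.up ℤ)).obj (koszulCx (ModuleCat.of A A) l)).homology
        (-((m + 1 : ℕ) : ℤ))) := by
    rw [← koszul_eq]
    have e5 := (HomologicalComplex.homologyFunctor (ModuleCat.{u} A) (ComplexShape.up ℤ)
      (-((m + 1 : ℕ) : ℤ))).mapIso
      (Groth.Agent.H4.KE3.bridge (ModuleCat.of A A') l ≪≫ (resIso A A' l).symm)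
    refine IsZero.of_iso ?_ e5
    exact isZero_homology_RSC A A' _ _ (hl' _ (by omega))
  exact hz.of_iso (e1 ≪≫ e2 ≪≫ e3 ≪≫ e4)

end Res

/-! ### D. finite powers -/

theorem isZero_tor_pi (B : Type u) [AddCommGroup B] [Module A B] (N : ModuleCat.{u} A)
    (hB : ∀ i : ℕ, IsZero (torObj (i + 1) (ModuleCat.of A B) N)) :
    ∀ (k : ℕ) (i : ℕ), IsZero (torObj (i + 1) (ModuleCat.of A (Fin k → B)) N) := by
  intro k
  induction k with
  | zero =>
    intro i
    haveI : Module.Flat A (ModuleCat.of A (Fin 0 → B)) :=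
      inferInstanceAs (Module.Flat A (Fin 0 → B))
    exact isZero_tor_succ_of_flat_left _ N i
  | succ k ih =>
    intro i
    let f : B →ₗ[A] (Fin (k + 1) → B) := LinearMap.single A (fun _ : Fin (k + 1) => B) 0
    let g : (Fin (k + 1) → B) →ₗ[A] (Fin k → B) := LinearMap.funLeft A B Fin.succ
    have hf0 : ∀ b : B, f b 0 = b := fun b => by simp [f]
    have hfs : ∀ (b : B) (j : Fin k), f b j.succ = 0 := fun b j => by
      simp [f, Fin.succ_ne_zero]
    have hg : ∀ (v : Fin (k + 1) → B) (j : Fin k), g v j = v j.succ := fun v j => rfl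
    have hfg : Function.Exact f g := by
      intro v
      constructor
      · intro hv
        refine ⟨v 0, funext fun j => ?_⟩
        refine Fin.cases ?_ (fun j' => ?_) j
        · exact hf0 _
        · rw [hfs]
          have := congrFun hv j'
          rw [hg] at this
          exact this.symm
      · rintro ⟨b, rfl⟩
        funext j
        rw [hg, hfs]
        rfl
    have hinj : Function.Injective f := fun b b' h => by
      have := congrFun h 0
      rwa [hf0, hf0] at this
    have hsurj : Function.Surjective g := fun w =>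
      ⟨(Fin.cons (0 : B) w : Fin (k + 1) → B), funext fun j => by rw [hg, Fin.cons_succ]⟩
    have hS := scOfLinearMaps_shortExact f g hinj hfg hsurj
    exact isZero_tor_X₂_left (scOfLinearMaps f g hfg) hS N (i + 1) (hB i) (ih i)

open MvPolynomial in
theorem exists_equiv_pi (c m : ℕ) (J : Ideal A) :
    ∃ k : ℕ, Nonempty ((↥(homogeneousSubmodule (Fin c) A m) ⧸
      (J • ⊤ : Submodule A ↥(homogeneousSubmodule (Fin c) A m))) ≃ₗ[A] (Fin k → A ⧸ J)) := by
  classical
  let s : Set (Fin c →₀ ℕ) := {d | Finsupp.degree d = m}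
  haveI : Finite s := by
    have hs : s ⊆ {d | Finsupp.degree d ≤ m} := fun d hd => le_of_eq hd
    exact ((Finsupp.finite_of_degree_le m).subset hs).to_subtype
  haveI : Fintype s := Fintype.ofFinite s
  let e1 : ↥(homogeneousSubmodule (Fin c) A m) ≃ₗ[A] (s →₀ A) :=
    LinearEquiv.ofEq _ _ (homogeneousSubmodule_eq_finsupp_supported (Fin c) A m) ≪≫ₗ
      AddMonoidAlgebra.supportedEquivFinsupp s
  let e2 : (s →₀ A) ≃ₗ[A] (s → A) := Finsupp.linearEquivFunOnFinite A A s
  let e3 : (s → A) ≃ₗ[A] (Fin (Fintype.card s) → A) :=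
    LinearEquiv.funCongrLeft A A (Fintype.equivFin s).symm
  let e : ↥(homogeneousSubmodule (Fin c) A m) ≃ₗ[A] (Fin (Fintype.card s) → A) :=
    e1 ≪≫ₗ e2 ≪≫ₗ e3
  refine ⟨Fintype.card s, ⟨?_⟩⟩
  exact (TensorProduct.quotTensorEquivQuotSMul _ J).symm ≪≫ₗ
    TensorProduct.congr (LinearEquiv.refl A (A ⧸ J)) e ≪≫ₗ
    TensorProduct.piScalarRight A A (A ⧸ J) (Fin (Fintype.card s))

/-! ### E. the quotients by powers -/

open MvPolynomial Groth.Agent.Lib.Helper5.QRBC in
theorem isZero_tor_quot_pow {c : ℕ} (f : Fin c → A) (hq : CAlgX.IsQuasiRegular f)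
    (J : Ideal A) (hJ : J = Ideal.span (Set.range f)) (N : ModuleCat.{u} A)
    (h0 : ∀ i : ℕ, IsZero (torObj (i + 1) (ModuleCat.of A (A ⧸ J)) N)) :
    ∀ (m i : ℕ), IsZero (torObj (i + 1) (ModuleCat.of A (A ⧸ J ^ m)) N) := by
  subst hJ
  intro m
  induction m with
  | zero =>
    intro i
    have htop : (Ideal.span (Set.range f) ^ 0) = ⊤ := by rw [pow_zero, Ideal.one_eq_top]
    haveI : Subsingleton (A ⧸ Ideal.span (Set.range f) ^ 0) :=
      Ideal.Quotient.subsingleton_iff.2 htop
    haveI : Module.Flat A (ModuleCat.of A (A ⧸ Ideal.span (Set.range f) ^ 0)) :=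
      inferInstanceAs (Module.Flat A (A ⧸ Ideal.span (Set.range f) ^ 0))
    exact isZero_tor_succ_of_flat_left _ N i
  | succ m ih =>
    intro i
    obtain ⟨k, ⟨e⟩⟩ := exists_equiv_pi c m (Ideal.span (Set.range f))
    have hG : IsZero (torObj (i + 1) (ModuleCat.of A (↥(homogeneousSubmodule (Fin c) A m) ⧸
        (Ideal.span (Set.range f) • ⊤ : Submodule A ↥(homogeneousSubmodule (Fin c) A m)))) N) :=
      (isZero_tor_pi (A ⧸ Ideal.span (Set.range f)) N h0 k i).of_iso
        (((Tor (ModuleCat.{u} A) (i + 1)).mapIso e.toModuleIso).app N)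
    have hsurj : Function.Surjective
        (Submodule.mapQ (Ideal.span (Set.range f) ^ (m + 1)) (Ideal.span (Set.range f) ^ m)
          LinearMap.id (Ideal.pow_le_pow_right (Nat.le_succ m))) := by
      intro y
      obtain ⟨b, rfl⟩ := Submodule.mkQ_surjective _ y
      exact ⟨(Ideal.span (Set.range f) ^ (m + 1)).mkQ b, rfl⟩
    have hS := scOfLinearMaps_shortExact (ψ f m) _ (ψ_injective f hq m) (ψ_exact f m) hsurj
    exact isZero_tor_X₂_left _ hS N (i + 1) hG (ih i)

theorem isZero_tor_pow (J : Ideal A) (N : ModuleCat.{u} A)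
    (h : ∀ m i : ℕ, IsZero (torObj (i + 1) (ModuleCat.of A (A ⧸ J ^ m)) N)) (n i : ℕ) :
    IsZero (torObj (i + 1) (ModuleCat.of A ↥(J ^ n)) N) := by
  have hfg : Function.Exact (J ^ n).subtype (J ^ n).mkQ := LinearMap.exact_subtype_mkQ _
  have hS := scOfLinearMaps_shortExact _ _ (Submodule.injective_subtype _) hfg
    (Submodule.mkQ_surjective _)
  haveI : Module.Flat A (ModuleCat.of A A) := inferInstanceAs (Module.Flat A A)
  exact isZero_tor_X₁_left _ hS N (i + 1) (h n (i + 1))
    (isZero_tor_succ_of_flat_left (ModuleCat.of A A) N i)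

theorem isZero_tor_gr (J : Ideal A) (N : ModuleCat.{u} A)
    (h : ∀ m i : ℕ, IsZero (torObj (i + 1) (ModuleCat.of A (A ⧸ J ^ m)) N)) (n i : ℕ) :
    IsZero (torObj (i + 1) (ModuleCat.of A
      (↥(J ^ n) ⧸ Submodule.comap (J ^ n).subtype (J ^ (n + 1)))) N) := by
  let f : (↥(J ^ n) ⧸ Submodule.comap (J ^ n).subtype (J ^ (n + 1))) →ₗ[A] (A ⧸ J ^ (n + 1)) :=
    Submodule.mapQ _ _ (J ^ n).subtype le_rfl
  let g : (A ⧸ J ^ (n + 1)) →ₗ[A] (A ⧸ J ^ n) :=
    Submodule.mapQ (J ^ (n + 1)) (J ^ n) LinearMap.id (Ideal.pow_le_pow_right (Nat.le_succ n))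
  have hinj : Function.Injective f := by
    rw [injective_iff_map_eq_zero]
    intro y hy
    obtain ⟨x, rfl⟩ := Submodule.Quotient.mk_surjective _ y
    have hy' : Submodule.Quotient.mk ((J ^ n).subtype x) = (0 : A ⧸ J ^ (n + 1)) := hy
    rw [Submodule.Quotient.mk_eq_zero] at hy' ⊢
    exact hy'
  have hfg : Function.Exact f g := by
    intro y
    constructor
    · intro hy
      obtain ⟨b, rfl⟩ := Submodule.Quotient.mk_surjective _ y
      have hy' : Submodule.Quotient.mk b = (0 : A ⧸ J ^ n) := hy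
      rw [Submodule.Quotient.mk_eq_zero] at hy'
      exact ⟨Submodule.Quotient.mk ⟨b, hy'⟩, rfl⟩
    · rintro ⟨z, rfl⟩
      obtain ⟨x, rfl⟩ := Submodule.Quotient.mk_surjective _ z
      show Submodule.Quotient.mk (x : A) = (0 : A ⧸ J ^ n)
      rw [Submodule.Quotient.mk_eq_zero]
      exact x.2
  have hsurj : Function.Surjective g := by
    intro y
    obtain ⟨b, rfl⟩ := Submodule.Quotient.mk_surjective _ y
    exact ⟨Submodule.Quotient.mk b, rfl⟩
  have hS := scOfLinearMaps_shortExact f g hinj hfg hsurj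
  exact isZero_tor_X₁_left (scOfLinearMaps f g hfg) hS N (i + 1) (h n (i + 1)) (h (n + 1) i)

/-- **Tor vanishing for the powers of a Koszul-regular ideal.** -/
theorem main (A : Type u) [CommRing A] (A' : Type u) [CommRing A'] [Algebra A A']
    (fs : List A) (hfs : LCI.IsKoszulRegularSeq A fs)
    (hfs' : LCI.IsKoszulRegularSeq A' (fs.map (algebraMap A A')))
    (n : ℕ) (i : ℕ) (hi : 1 ≤ i) :
    IsZero (((Tor (ModuleCat.{u} A) i).obj (ModuleCat.of A ↥(Ideal.span {x | x ∈ fs} ^ n))).obj (ModuleCat.of A A')) ∧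
    IsZero (((Tor (ModuleCat.{u} A) i).obj (ModuleCat.of A
      (↥(Ideal.span {x | x ∈ fs} ^ n) ⧸ Submodule.comap (Ideal.span {x | x ∈ fs} ^ n).subtype (Ideal.span {x | x ∈ fs} ^ (n + 1))))).obj (ModuleCat.of A A')) := by
  obtain ⟨i, rfl⟩ : ∃ j, i = j + 1 := ⟨i - 1, by omega⟩
  have hqr : CAlgX.IsQuasiRegular fs.get :=
    Groth.Agent.S2103.result fs.get (Groth.Agent.H4.KosLow.isH1Regular_of_isKoszulRegularSeq fs hfs)
  have hJ : Ideal.span {x | x ∈ fs} = Ideal.span (Set.range fs.get) := by
    rw [Set.range_list_get]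
  have h0 := fun j => isZero_tor_quot A A' fs hfs hfs' j
  have h := isZero_tor_quot_pow fs.get hqr _ hJ (ModuleCat.of A A') h0
  exact ⟨isZero_tor_pow _ _ h n i, isZero_tor_gr _ _ h n i⟩

end Groth.Agent.H4.KosTorPow
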