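import Mathlib
import Groth.Prelude.Def_HTor
import Groth.Agent.H4.DualCx

open CategoryTheory Category Limits MonoidalCategory HomologicalComplex

universe u

set_option backward.isDefEq.respectTransparency false

namespace Groth.Agent.H4.Kun1

open Groth.Agent.H4.TB11 Groth.Agent.H4.DualCx

variable {A : Type u} [CommRing A]

/-! ### elementwise basics -/

lemma iCycles_injective (K : DRing.Cx A) (i : ℤ) : Function.Injective (K.iCycles i) :=
  (ModuleCat.mono_iff_injective _).1 inferInstance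

lemma homologyπ_surjective (K : DRing.Cx A) (i : ℤ) : Function.Surjective (K.homologyπ i) :=
  (ModuleCat.epi_iff_surjective _).1 inferInstance

lemma d_iCycles_apply (K : DRing.Cx A) (i j : ℤ) (z : K.cycles i) :
    K.d i j (K.iCycles i z) = 0 := by
  have := congrArg (fun φ => φ.hom z) (K.iCycles_d i j)
  exact this

lemma toCycles_i_apply (K : DRing.Cx A) (i j : ℤ) (x : K.X i) :
    K.iCycles j (K.toCycles i j x) = K.d i j x := by
  have := congrArg (fun φ => φ.hom x) (K.toCycles_i i j)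
  exact this

lemma homologyπ_toCycles_apply (K : DRing.Cx A) (i j : ℤ) (x : K.X i) :
    K.homologyπ j (K.toCycles i j x) = 0 := by
  have := congrArg (fun φ => φ.hom x) (K.toCycles_comp_homologyπ i j)
  exact this

lemma exists_cycle (K : DRing.Cx A) (i : ℤ) (x : K.X i) (hx : K.d i (i + 1) x = 0) :
    ∃ z : K.cycles i, K.iCycles i z = x := by
  have hk : ModuleCat.ofHom (LinearMap.toSpanSingleton A (K.X i) x) ≫ K.d i (i + 1) = 0 := by
    ext
    simp [hx]
  refine ⟨K.liftCycles _ (i + 1) (by simp) hk (1 : A), ?_⟩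
  have := congrArg (fun φ => φ.hom (1 : A)) (K.liftCycles_i _ (i + 1) (by simp) hk)
  refine this.trans ?_
  simp

lemma exists_toCycles (K : DRing.Cx A) (i j : ℤ) (hi : i + 1 = j) (z : K.cycles j)
    (hz : K.homologyπ j z = 0) : ∃ x : K.X i, K.toCycles i j x = z := by
  have h : (ShortComplex.mk (K.toCycles i j) (K.homologyπ j)
      (K.toCycles_comp_homologyπ i j)).Exact :=
    ShortComplex.exact_of_g_is_cokernel _ (K.homologyIsCokernel i j (by subst hi; simp))
  rw [ShortComplex.moduleCat_exact_iff] at h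
  exact h z hz

/-- class vanishes if a unit multiple of the cycle is a boundary -/
lemma homologyπ_eq_zero_of (T : DRing.Cx A) (m n : ℤ) (w : T.cycles n)
    (u : T.X m) (ε : ℤˣ) (h : ε • T.iCycles n w = T.d m n u) : T.homologyπ n w = 0 := by
  rcases Int.units_eq_one_or ε with rfl | rfl
  · rw [one_smul] at h
    have : w = T.toCycles m n u := by
      apply iCycles_injective
      rw [h, toCycles_i_apply]
    rw [this, homologyπ_toCycles_apply]
  · have h' : T.iCycles n w = T.d m n (-u) := by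
      rw [map_neg, ← h]
      simp
    have : w = T.toCycles m n (-u) := by
      apply iCycles_injective
      rw [h', toCycles_i_apply]
    rw [this, homologyπ_toCycles_apply]

/-! ### the differential on summands -/

lemma ι_d (K L : DRing.Cx A) (p q n : ℤ) (h : p + q = n) (p' q' n' : ℤ) (hp : p + 1 = p')
    (hq : q + 1 = q') (hn : n + 1 = n') :
    ιTensorObj K L p q n h ≫ (K ⊗ L).d n n' =
      (K.d p p' ▷ L.X q) ≫ ιTensorObj K L p' q n' (by omega) +
      (ComplexShape.ε₂ (ComplexShape.up ℤ) (ComplexShape.up ℤ) (ComplexShape.up ℤ) (p, q)) •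
        ((K.X p ◁ L.d q q') ≫ ιTensorObj K L p q' n' (by omega)) := by
  subst hp hq hn
  change ιMapBifunctor K L (curriedTensor (ModuleCat.{u} A)) (ComplexShape.up ℤ) p q n h ≫
    (mapBifunctor K L (curriedTensor (ModuleCat.{u} A)) (ComplexShape.up ℤ)).d n (n + 1) = _
  rw [mapBifunctor.d_eq, Preadditive.comp_add, mapBifunctor.ι_D₁, mapBifunctor.ι_D₂]
  rw [mapBifunctor.d₁_eq K L _ (.up ℤ) (show (ComplexShape.up ℤ).Rel p (p + 1) by simp) q
      (n + 1) (by simp; omega),
    mapBifunctor.d₂_eq K L _ (.up ℤ) p (show (ComplexShape.up ℤ).Rel q (q + 1) by simp)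
      (n + 1) (by simp; omega)]
  simp

/-! ### projections -/

/-- projection onto the `(p, q)` summand -/
noncomputable def pr (K L : DRing.Cx A) (p q n : ℤ) (h : p + q = n) :
    (K ⊗ L).X n ⟶ (K.X p ⊗ L.X q : ModuleCat.{u} A) :=
  mapBifunctorDesc (K₁ := K) (K₂ := L) (F := curriedTensor (ModuleCat.{u} A))
    (c := ComplexShape.up ℤ) (fun p' q' h' => if hp : p' = p then
    eqToHom (by
      subst hp
      obtain rfl : q' = q := by
        change p' + q' = n at h'
        omega
      rfl) else 0)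

@[reassoc]
lemma ι_pr_self (K L : DRing.Cx A) (p q n : ℤ) (h : p + q = n) :
    ιTensorObj K L p q n h ≫ pr K L p q n h = 𝟙 _ := by
  dsimp only [pr]
  rw [ι_mapBifunctorDesc]
  simp

@[reassoc]
lemma ι_pr_ne (K L : DRing.Cx A) (p q n : ℤ) (h : p + q = n) (p' q' : ℤ) (h' : p' + q' = n)
    (hne : p' ≠ p) : ιTensorObj K L p' q' n h' ≫ pr K L p q n h = 0 := by
  dsimp only [pr]
  rw [ι_mapBifunctorDesc, dif_neg hne]

lemma pr_ι_self_apply (K L : DRing.Cx A) (p q n : ℤ) (h : p + q = n)
    (t : (K.X p ⊗ L.X q : ModuleCat.{u} A)) :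
    pr K L p q n h (ιTensorObj K L p q n h t) = t := by
  have := congrArg (fun φ => φ.hom t) (ι_pr_self K L p q n h)
  exact this

lemma pr_ι_ne_apply (K L : DRing.Cx A) (p q n : ℤ) (h : p + q = n) (p' q' : ℤ)
    (h' : p' + q' = n) (hne : p' ≠ p) (t : (K.X p' ⊗ L.X q' : ModuleCat.{u} A)) :
    pr K L p q n h (ιTensorObj K L p' q' n h' t) = 0 := by
  have := congrArg (fun φ => φ.hom t) (ι_pr_ne K L p q n h p' q' h' hne)
  exact this

/-- every element is the finite sum of its components -/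
lemma decomp (K L : DRing.Cx A) (n : ℤ) (z : (K ⊗ L).X n) :
    ∃ S : Finset ℤ, ∀ S' : Finset ℤ, S ⊆ S' →
      z = ∑ p ∈ S', ιTensorObj K L p (n - p) n (by omega) (pr K L p (n - p) n (by omega) z) := by
  induction z using tensor_induction K L n with
  | h0 => exact ⟨∅, fun S' _ => by simp⟩
  | hadd x y hx hy =>
    obtain ⟨S1, h1⟩ := hx
    obtain ⟨S2, h2⟩ := hy
    refine ⟨S1 ∪ S2, fun S' hS' => ?_⟩
    have e1 := h1 S' (Finset.union_subset_left hS')
    have e2 := h2 S' (Finset.union_subset_right hS')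
    conv_lhs => rw [e1, e2]
    rw [← Finset.sum_add_distrib]
    refine Finset.sum_congr rfl (fun p _ => ?_)
    rw [map_add, map_add]
  | hsmul a x hx =>
    obtain ⟨S1, h1⟩ := hx
    refine ⟨S1, fun S' hS' => ?_⟩
    have e1 := h1 S' hS'
    conv_lhs => rw [e1]
    rw [Finset.smul_sum]
    refine Finset.sum_congr rfl (fun p _ => ?_)
    rw [map_smul, map_smul]
  | hι p0 q0 h0 t =>
    obtain rfl : q0 = n - p0 := by omega
    refine ⟨{p0}, fun S' hS' => ?_⟩
    rw [Finset.sum_eq_single p0]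
    · rw [pr_ι_self_apply]
    · intro p _ hp
      rw [pr_ι_ne_apply K L p (n - p) n (by omega) p0 (n - p0) h0 (Ne.symm hp), map_zero]
    · intro hp
      exact absurd (hS' (Finset.mem_singleton_self p0)) hp

lemma eq_zero_of_pr (K L : DRing.Cx A) (n : ℤ) (z : (K ⊗ L).X n)
    (hz : ∀ p : ℤ, pr K L p (n - p) n (by omega) z = 0) : z = 0 := by
  obtain ⟨S, hS⟩ := decomp K L n z
  rw [hS S (Finset.Subset.refl S)]
  refine Finset.sum_eq_zero (fun p _ => ?_)
  rw [hz p, map_zero]

/-- naturality of the projections in the second variable -/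
lemma whiskerLeft_pr (L : DRing.Cx A) {M M' : DRing.Cx A} (g : M ⟶ M') (p q n : ℤ)
    (h : p + q = n) :
    (L ◁ g).f n ≫ pr L M' p q n h = pr L M p q n h ≫ (L.X p ◁ g.f q) := by
  refine mapBifunctor.hom_ext (fun p' q' h' => ?_)
  have h'' : p' + q' = n := h'
  change ιTensorObj L M p' q' n h'' ≫ _ = ιTensorObj L M p' q' n h'' ≫ _
  rw [ι_whiskerLeft_f_assoc]
  by_cases hp : p' = p
  · subst hp
    obtain rfl : q' = q := by omega
    rw [ι_pr_self, ι_pr_self_assoc, comp_id]
  · rw [ι_pr_ne L M' p q n h p' q' h'' hp, ι_pr_ne_assoc L M p q n h p' q' h'' hp, comp_zero,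
      zero_comp]

lemma whiskerLeft_pr_apply (L : DRing.Cx A) {M M' : DRing.Cx A} (g : M ⟶ M') (p q n : ℤ)
    (h : p + q = n) (z : (L ⊗ M).X n) :
    pr L M' p q n h ((L ◁ g).f n z) = (L.X p ◁ g.f q) (pr L M p q n h z) := by
  have := congrArg (fun φ => φ.hom z) (whiskerLeft_pr L g p q n h)
  exact this

/-- the differential and the projections, when the second factor has zero differential -/
lemma d_pr_of_d_zero (L N : DRing.Cx A) (hN : ∀ i j, N.d i j = 0) (p q n : ℤ) (h : p + q = n)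
    (p' n' : ℤ) (hp : p + 1 = p') (hn : n + 1 = n') :
    (L ⊗ N).d n n' ≫ pr L N p' q n' (by omega) = pr L N p q n h ≫ (L.d p p' ▷ N.X q) := by
  subst hp hn
  refine mapBifunctor.hom_ext (fun p₁ q₁ h₁ => ?_)
  have h₁' : p₁ + q₁ = n := h₁
  change ιTensorObj L N p₁ q₁ n h₁' ≫ _ = ιTensorObj L N p₁ q₁ n h₁' ≫ _
  rw [← assoc, ι_d L N p₁ q₁ n h₁' (p₁ + 1) (q₁ + 1) (n + 1) rfl rfl rfl, hN,
    MonoidalPreadditive.whiskerLeft_zero, zero_comp, smul_zero, add_zero, assoc]
  by_cases hp : p₁ = p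
  · subst hp
    obtain rfl : q₁ = q := by omega
    rw [ι_pr_self, ι_pr_self_assoc, comp_id]
  · rw [ι_pr_ne L N (p + 1) q (n + 1) (by omega) (p₁ + 1) q₁ (by omega) (by omega),
      ι_pr_ne_assoc L N p q n h p₁ q₁ h₁' hp, comp_zero, zero_comp]

lemma d_pr_of_d_zero_apply (L N : DRing.Cx A) (hN : ∀ i j, N.d i j = 0) (p q n : ℤ)
    (h : p + q = n) (p' n' : ℤ) (hp : p + 1 = p') (hn : n + 1 = n') (z : (L ⊗ N).X n) :
    pr L N p' q n' (by omega) ((L ⊗ N).d n n' z) = (L.d p p' ▷ N.X q) (pr L N p q n h z) := by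
  have := congrArg (fun φ => φ.hom z) (d_pr_of_d_zero L N hN p q n h p' n' hp hn)
  exact this

end Groth.Agent.H4.Kun1
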