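import Mathlib
import Groth.Prelude.Def_HTor
import Groth.Agent.H4.Kun1

open CategoryTheory Category Limits MonoidalCategory HomologicalComplex

universe u

set_option backward.isDefEq.respectTransparency false

namespace Groth.Agent.H4.Kun2

open Groth.Agent.H4.TB11 Groth.Agent.H4.DualCx Groth.Agent.H4.Kun1

variable {A : Type u} [CommRing A]

lemma units_smul_apply {M N : ModuleCat.{u} A} (ε : ℤˣ) (g : M ⟶ N) (t : M) :
    (ε • g) t = ε • g t := by
  rcases Int.units_eq_one_or ε with rfl | rfl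
  · simp
  · simp

lemma ι_d_tmul (K L : DRing.Cx A) (p q n : ℤ) (h : p + q = n) (p' q' n' : ℤ) (hp : p + 1 = p')
    (hq : q + 1 = q') (hn : n + 1 = n') (x : K.X p) (y : L.X q) :
    (K ⊗ L).d n n' (ιTensorObj K L p q n h (x ⊗ₜ[A] y)) =
      ιTensorObj K L p' q n' (by omega) (K.d p p' x ⊗ₜ[A] y) +
      (ComplexShape.ε₂ (ComplexShape.up ℤ) (ComplexShape.up ℤ) (ComplexShape.up ℤ) (p, q)) •
        ιTensorObj K L p q' n' (by omega) (x ⊗ₜ[A] L.d q q' y) := by
  have e := congrArg (fun φ => φ.hom (x ⊗ₜ[A] y)) (ι_d K L p q n h p' q' n' hp hq hn)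
  refine e.trans ?_
  rw [ModuleCat.hom_add, LinearMap.add_apply]
  congr 1

section

variable (K L : DRing.Cx A)

@[reassoc]
lemma tensor_iCycles_d₁ (i j i' : ℤ) :
    (K.iCycles i ⊗ₘ L.iCycles j) ≫ (K.d i i' ▷ L.X j) = 0 := by
  apply ModuleCat.MonoidalCategory.tensor_ext
  intro z z'
  change (K.d i i' (K.iCycles i z)) ⊗ₜ[A] (L.iCycles j z') = 0
  rw [d_iCycles_apply, TensorProduct.zero_tmul]

@[reassoc]
lemma tensor_iCycles_d₂ (i j j' : ℤ) :
    (K.iCycles i ⊗ₘ L.iCycles j) ≫ (K.X i ◁ L.d j j') = 0 := by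
  apply ModuleCat.MonoidalCategory.tensor_ext
  intro z z'
  change (K.iCycles i z) ⊗ₜ[A] (L.d j j' (L.iCycles j z')) = 0
  rw [d_iCycles_apply, TensorProduct.tmul_zero]

/-- the Künneth multiplication on cycles -/
noncomputable def mcyc (i j n : ℤ) (h : i + j = n) :
    (K.cycles i ⊗ L.cycles j : ModuleCat.{u} A) ⟶ (K ⊗ L).cycles n :=
  (K ⊗ L).liftCycles ((K.iCycles i ⊗ₘ L.iCycles j) ≫ ιTensorObj K L i j n h) (n + 1) (by simp) (by
    rw [assoc, ι_d K L i j n h (i + 1) (j + 1) (n + 1) rfl rfl rfl, Preadditive.comp_add,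
      Linear.comp_units_smul, tensor_iCycles_d₁_assoc, tensor_iCycles_d₂_assoc, zero_comp,
      zero_comp, smul_zero, add_zero])

lemma mcyc_i (i j n : ℤ) (h : i + j = n) :
    mcyc K L i j n h ≫ (K ⊗ L).iCycles n =
      (K.iCycles i ⊗ₘ L.iCycles j) ≫ ιTensorObj K L i j n h :=
  liftCycles_i _ _ _ _ _

lemma mcyc_i_apply (i j n : ℤ) (h : i + j = n) (z : K.cycles i) (z' : L.cycles j) :
    (K ⊗ L).iCycles n (mcyc K L i j n h (z ⊗ₜ[A] z')) =
      ιTensorObj K L i j n h (K.iCycles i z ⊗ₜ[A] L.iCycles j z') := by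
  have := congrArg (fun φ => φ.hom (z ⊗ₜ[A] z')) (mcyc_i K L i j n h)
  exact this

lemma mcyc_i_apply' (i j n : ℤ) (h : i + j = n) (w : (K.cycles i ⊗ L.cycles j : ModuleCat.{u} A)) :
    (K ⊗ L).iCycles n (mcyc K L i j n h w) =
      ιTensorObj K L i j n h ((K.iCycles i ⊗ₘ L.iCycles j) w) := by
  have := congrArg (fun φ => φ.hom w) (mcyc_i K L i j n h)
  exact this

lemma homologyπ_mcyc_right (i j n : ℤ) (h : i + j = n) (z : K.cycles i) (j' : ℤ)
    (hj : j' + 1 = j) (y : L.X j') :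
    (K ⊗ L).homologyπ n (mcyc K L i j n h (z ⊗ₜ[A] L.toCycles j' j y)) = 0 := by
  refine homologyπ_eq_zero_of (K ⊗ L) (n - 1) n _
    (ιTensorObj K L i j' (n - 1) (by omega) (K.iCycles i z ⊗ₜ[A] y))
    (ComplexShape.ε₂ (ComplexShape.up ℤ) (ComplexShape.up ℤ) (ComplexShape.up ℤ) (i, j')) ?_
  rw [mcyc_i_apply, toCycles_i_apply,
    ι_d_tmul K L i j' (n - 1) (by omega) (i + 1) j n rfl hj (by omega), d_iCycles_apply,
    TensorProduct.zero_tmul, map_zero, zero_add]

lemma homologyπ_mcyc_left (i j n : ℤ) (h : i + j = n) (z' : L.cycles j) (i' : ℤ)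
    (hi : i' + 1 = i) (x : K.X i') :
    (K ⊗ L).homologyπ n (mcyc K L i j n h (K.toCycles i' i x ⊗ₜ[A] z')) = 0 := by
  refine homologyπ_eq_zero_of (K ⊗ L) (n - 1) n _
    (ιTensorObj K L i' j (n - 1) (by omega) (x ⊗ₜ[A] L.iCycles j z')) 1 ?_
  rw [mcyc_i_apply, toCycles_i_apply,
    ι_d_tmul K L i' j (n - 1) (by omega) i (j + 1) n hi rfl (by omega), d_iCycles_apply,
    TensorProduct.tmul_zero, map_zero, smul_zero, add_zero, one_smul]

/-- `Z^i ⊗ Z^j → H^n` -/
noncomputable def fcyc (i j n : ℤ) (h : i + j = n) :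
    TensorProduct A (K.cycles i) (L.cycles j) →ₗ[A] (K ⊗ L).homology n :=
  (mcyc K L i j n h ≫ (K ⊗ L).homologyπ n).hom

/-- `Z^i ⊗ Z^j → H^i ⊗ H^j` -/
noncomputable def πcyc (i j : ℤ) :
    TensorProduct A (K.cycles i) (L.cycles j) →ₗ[A]
      TensorProduct A (K.homology i) (L.homology j) :=
  TensorProduct.map (K.homologyπ i).hom (L.homologyπ j).hom

lemma πcyc_surjective (i j : ℤ) : Function.Surjective (πcyc K L i j) :=
  TensorProduct.map_surjective (homologyπ_surjective K i) (homologyπ_surjective L j)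

lemma exact_toCycles_homologyπ (i' i : ℤ) (hi : i' + 1 = i) :
    Function.Exact (K.toCycles i' i).hom (K.homologyπ i).hom := by
  intro z
  constructor
  · intro hz
    obtain ⟨x, hx⟩ := exists_toCycles K i' i hi z hz
    exact ⟨x, hx⟩
  · rintro ⟨x, rfl⟩
    exact homologyπ_toCycles_apply K i' i x

lemma ker_πcyc_le (i j n : ℤ) (h : i + j = n) :
    LinearMap.ker (πcyc K L i j) ≤ LinearMap.ker (fcyc K L i j n h) := by
  rw [πcyc, TensorProduct.map_ker (exact_toCycles_homologyπ K (i - 1) i (by omega))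
    (homologyπ_surjective K i) (exact_toCycles_homologyπ L (j - 1) j (by omega))
    (homologyπ_surjective L j)]
  refine sup_le ?_ ?_
  · rintro _ ⟨t, rfl⟩
    rw [LinearMap.mem_ker]
    induction t using TensorProduct.induction_on with
    | zero => simp
    | tmul z y =>
      rw [LinearMap.lTensor_tmul]
      exact homologyπ_mcyc_right K L i j n h z (j - 1) (by omega) y
    | add a b ha hb => rw [map_add, map_add, ha, hb, add_zero]
  · rintro _ ⟨t, rfl⟩
    rw [LinearMap.mem_ker]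
    induction t using TensorProduct.induction_on with
    | zero => simp
    | tmul x z' =>
      rw [LinearMap.rTensor_tmul]
      exact homologyπ_mcyc_left K L i j n h z' (i - 1) (by omega) x
    | add a b ha hb => rw [map_add, map_add, ha, hb, add_zero]

/-- the Künneth map on a single summand -/
noncomputable def Φc (i j n : ℤ) (h : i + j = n) :
    TensorProduct A (K.homology i) (L.homology j) →ₗ[A] (K ⊗ L).homology n :=
  ((LinearMap.ker (πcyc K L i j)).liftQ (fcyc K L i j n h) (ker_πcyc_le K L i j n h)) ∘ₗ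
    ((πcyc K L i j).quotKerEquivOfSurjective (πcyc_surjective K L i j)).symm.toLinearMap

lemma Φc_πcyc (i j n : ℤ) (h : i + j = n) (w : TensorProduct A (K.cycles i) (L.cycles j)) :
    Φc K L i j n h (πcyc K L i j w) = fcyc K L i j n h w := by
  have : ((πcyc K L i j).quotKerEquivOfSurjective (πcyc_surjective K L i j)).symm
      (πcyc K L i j w) = Submodule.Quotient.mk w := by
    rw [LinearEquiv.symm_apply_eq, LinearMap.quotKerEquivOfSurjective_apply_mk]
  simp only [Φc, LinearMap.comp_apply, LinearEquiv.coe_coe, this, Submodule.liftQ_apply]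

/-- the Künneth map -/
noncomputable def kmap (n : ℤ) :
    HTor.KunnethSum K L n →ₗ[A] (HTor.tensorCx K L).homology n :=
  DirectSum.toModule A (HTor.Antidiag n) _ (fun ij => Φc K L ij.1.1 ij.1.2 n ij.2)

lemma kmap_lof (n : ℤ) (ij : HTor.Antidiag n)
    (t : TensorProduct A (K.homology ij.1.1) (L.homology ij.1.2)) :
    kmap K L n (DirectSum.lof A (HTor.Antidiag n) _ ij t) = Φc K L ij.1.1 ij.1.2 n ij.2 t :=
  DirectSum.toModule_lof _ _ _

theorem isKunnethMap_kmap (n : ℤ) : HTor.IsKunnethMap K L n (kmap K L n) := by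
  intro ij z z' w hw
  rw [kmap_lof]
  have e : (K.homologyπ ij.1.1 z ⊗ₜ[A] L.homologyπ ij.1.2 z') =
      πcyc K L ij.1.1 ij.1.2 (z ⊗ₜ[A] z') := rfl
  rw [e, Φc_πcyc]
  change (K ⊗ L).homologyπ n (mcyc K L _ _ n ij.2 (z ⊗ₜ[A] z')) = (K ⊗ L).homologyπ n w
  refine congrArg _ ?_
  apply iCycles_injective
  rw [mcyc_i_apply]
  exact hw.symm

variable {K L}

lemma IsKunnethMap.apply_πcyc {n : ℤ}
    {Φ : HTor.KunnethSum K L n →ₗ[A] (HTor.tensorCx K L).homology n}
    (hΦ : HTor.IsKunnethMap K L n Φ) (ij : HTor.Antidiag n)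
    (w : TensorProduct A (K.cycles ij.1.1) (L.cycles ij.1.2)) :
    Φ (DirectSum.lof A (HTor.Antidiag n) _ ij (πcyc K L ij.1.1 ij.1.2 w)) =
      fcyc K L ij.1.1 ij.1.2 n ij.2 w := by
  induction w using TensorProduct.induction_on with
  | zero => simp
  | tmul z z' =>
    exact hΦ ij z z' (mcyc K L _ _ n ij.2 (z ⊗ₜ[A] z')) (mcyc_i_apply K L _ _ n ij.2 z z')
  | add a b ha hb => simp only [map_add, ha, hb]

variable (K L)

lemma kunneth_ext {X : Type*} [AddCommGroup X] [Module A X] {n : ℤ}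
    (f g : HTor.KunnethSum K L n →ₗ[A] X)
    (h : ∀ (ij : HTor.Antidiag n) (z : K.cycles ij.1.1) (z' : L.cycles ij.1.2),
      f (DirectSum.lof A (HTor.Antidiag n) _ ij (K.homologyπ _ z ⊗ₜ[A] L.homologyπ _ z')) =
      g (DirectSum.lof A (HTor.Antidiag n) _ ij (K.homologyπ _ z ⊗ₜ[A] L.homologyπ _ z'))) :
    f = g := by
  refine DirectSum.linearMap_ext A (fun ij => ?_)
  refine TensorProduct.ext' (fun a b => ?_)
  obtain ⟨z, rfl⟩ := homologyπ_surjective K _ a
  obtain ⟨z', rfl⟩ := homologyπ_surjective L _ b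
  exact h ij z z'

lemma isKunnethMap_unique {n : ℤ}
    {Φ Φ' : HTor.KunnethSum K L n →ₗ[A] (HTor.tensorCx K L).homology n}
    (h : HTor.IsKunnethMap K L n Φ) (h' : HTor.IsKunnethMap K L n Φ') : Φ = Φ' := by
  refine kunneth_ext K L _ _ (fun ij z z' => ?_)
  have hw := mcyc_i_apply K L _ _ n ij.2 z z'
  exact (h ij z z' _ hw).trans (h' ij z z' _ hw).symm

end

/-! ### functoriality in the second variable -/

/-- the map induced on Künneth sums by a morphism in the second variable -/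
noncomputable def Kfun (L : DRing.Cx A) {M M' : DRing.Cx A} (g : M ⟶ M') (n : ℤ) :
    HTor.KunnethSum L M n →ₗ[A] HTor.KunnethSum L M' n :=
  DirectSum.lmap (fun ij : HTor.Antidiag n =>
    LinearMap.lTensor (L.homology ij.1.1) (homologyMap g ij.1.2).hom)

lemma Kfun_lof_tmul (L : DRing.Cx A) {M M' : DRing.Cx A} (g : M ⟶ M') (n : ℤ)
    (ij : HTor.Antidiag n) (a : L.homology ij.1.1) (b : M.homology ij.1.2) :
    Kfun L g n (DirectSum.lof A (HTor.Antidiag n) _ ij (a ⊗ₜ[A] b)) =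
      DirectSum.lof A (HTor.Antidiag n) _ ij (a ⊗ₜ[A] homologyMap g ij.1.2 b) := by
  unfold Kfun
  rw [DirectSum.lmap_lof, LinearMap.lTensor_tmul]

lemma homologyMap_homologyπ_apply {M M' : DRing.Cx A} (g : M ⟶ M') (j : ℤ) (z : M.cycles j) :
    homologyMap g j (M.homologyπ j z) = M'.homologyπ j (cyclesMap g j z) := by
  have := congrArg (fun φ => φ.hom z) (homologyπ_naturality g j)
  exact this

lemma iCycles_cyclesMap_apply {M M' : DRing.Cx A} (g : M ⟶ M') (j : ℤ) (z : M.cycles j) :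
    M'.iCycles j (cyclesMap g j z) = g.f j (M.iCycles j z) := by
  have := congrArg (fun φ => φ.hom z) (cyclesMap_i g j)
  exact this

theorem kunneth_natural (L : DRing.Cx A) {M M' : DRing.Cx A} (g : M ⟶ M') (n : ℤ)
    (Φ : HTor.KunnethSum L M n →ₗ[A] (HTor.tensorCx L M).homology n)
    (Φ' : HTor.KunnethSum L M' n →ₗ[A] (HTor.tensorCx L M').homology n)
    (hΦ : HTor.IsKunnethMap L M n Φ) (hΦ' : HTor.IsKunnethMap L M' n Φ')
    (x : HTor.KunnethSum L M n) :
    homologyMap (L ◁ g) n (Φ x) = Φ' (Kfun L g n x) := by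
  have key : (homologyMap (L ◁ g) n).hom ∘ₗ Φ = Φ' ∘ₗ Kfun L g n := by
    refine kunneth_ext L M _ _ (fun ij z z' => ?_)
    change (homologyMap (L ◁ g) n) (Φ _) = Φ' (Kfun L g n _)
    rw [Kfun_lof_tmul]
    have hw1 := mcyc_i_apply L M _ _ n ij.2 z z'
    have e1 := homologyMap_homologyπ_apply (L ◁ g) n (mcyc L M _ _ n ij.2 (z ⊗ₜ[A] z'))
    have e2 := homologyMap_homologyπ_apply g ij.1.2 z'
    have hw' : (HTor.tensorCx L M').iCycles n
        (cyclesMap (L ◁ g) n (mcyc L M _ _ n ij.2 (z ⊗ₜ[A] z'))) =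
        ιTensorObj L M' ij.1.1 ij.1.2 n ij.2
          (L.iCycles ij.1.1 z ⊗ₜ[A] M'.iCycles ij.1.2 (cyclesMap g ij.1.2 z')) := by
      refine (iCycles_cyclesMap_apply (L ◁ g) n _).trans ?_
      rw [hw1, iCycles_cyclesMap_apply]
      have := congrArg (fun φ => φ.hom (L.iCycles ij.1.1 z ⊗ₜ[A] M.iCycles ij.1.2 z'))
        (ι_whiskerLeft_f L g ij.1.1 ij.1.2 n ij.2)
      exact this
    refine (congrArg _ (hΦ ij z z' _ hw1)).trans (e1.trans ((hΦ' ij z _ _ hw').symm.trans ?_))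
    rw [e2]
  exact LinearMap.congr_fun key x

lemma Kfun_comp_of_zero (L : DRing.Cx A) {M₁ M₂ M₃ : DRing.Cx A} (f : M₁ ⟶ M₂) (g : M₂ ⟶ M₃)
    (w : f ≫ g = 0) (n : ℤ) (x : HTor.KunnethSum L M₁ n) :
    Kfun L g n (Kfun L f n x) = 0 := by
  have key : Kfun L g n ∘ₗ Kfun L f n = 0 := by
    refine DirectSum.linearMap_ext A (fun ij => ?_)
    refine TensorProduct.ext' (fun a b => ?_)
    change Kfun L g n (Kfun L f n _) = 0
    rw [Kfun_lof_tmul, Kfun_lof_tmul]
    have : homologyMap g ij.1.2 (homologyMap f ij.1.2 b) = 0 := by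
      have := congrArg (fun φ => φ.hom b) (homologyMap_comp f g ij.1.2)
      rw [w, homologyMap_zero] at this
      exact this.symm
    rw [this, TensorProduct.tmul_zero, map_zero]
  exact LinearMap.congr_fun key x

lemma Kfun_surjective (L : DRing.Cx A) {M M' : DRing.Cx A} (g : M ⟶ M') (n : ℤ)
    (hg : ∀ j, Function.Surjective (homologyMap g j)) : Function.Surjective (Kfun L g n) :=
  (DirectSum.lmap_surjective _).2 (fun ij => LinearMap.lTensor_surjective _ (hg ij.1.2))

lemma Kfun_injective (L : DRing.Cx A) {M M' : DRing.Cx A} (g : M ⟶ M') (n : ℤ)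
    (hfl : ∀ i, Module.Flat A (L.homology i))
    (hg : ∀ j, Function.Injective (homologyMap g j)) : Function.Injective (Kfun L g n) :=
  (DirectSum.lmap_injective _).2 (fun ij => by
    haveI := hfl ij.1.1
    exact Module.Flat.lTensor_preserves_injective_linearMap _ (hg ij.1.2))

lemma Kfun_bijective (L : DRing.Cx A) {M M' : DRing.Cx A} (g : M ⟶ M') (n : ℤ)
    (hg : ∀ j, Function.Bijective (homologyMap g j)) : Function.Bijective (Kfun L g n) := by
  have h : ∀ ij : HTor.Antidiag n, Function.Bijective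
      (LinearMap.lTensor (L.homology ij.1.1) (homologyMap g ij.1.2).hom) := fun ij => by
    let e := LinearEquiv.ofBijective (homologyMap g ij.1.2).hom (hg ij.1.2)
    exact (LinearEquiv.lTensor (L.homology ij.1.1) e).bijective
  exact ⟨(DirectSum.lmap_injective _).2 (fun ij => (h ij).1),
    (DirectSum.lmap_surjective _).2 (fun ij => (h ij).2)⟩

end Groth.Agent.H4.Kun2
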