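import Mathlib
import Groth.Prelude.Def_HTor
import Groth.Agent.H4.Kun2

open CategoryTheory Category Limits MonoidalCategory HomologicalComplex

universe u

set_option backward.isDefEq.respectTransparency false

namespace Groth.Agent.H4.Kun3

open Groth.Agent.H4.TB11 Groth.Agent.H4.DualCx Groth.Agent.H4.Kun1 Groth.Agent.H4.Kun2

variable {A : Type u} [CommRing A]

/-! ### flatness facts -/

lemma exists_of_rTensor_d_eq_zero (L : DRing.Cx A) (Y : ModuleCat.{u} A) [Module.Flat A Y] (i : ℤ)
    (w : (L.X i ⊗ Y : ModuleCat.{u} A)) (hw : (L.d i (i + 1) ▷ Y) w = 0) :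
    ∃ v : (L.cycles i ⊗ Y : ModuleCat.{u} A), (L.iCycles i ▷ Y) v = w := by
  have hex : Function.Exact (L.iCycles i).hom (L.d i (i + 1)).hom := by
    intro x
    constructor
    · intro hx
      obtain ⟨z, hz⟩ := exists_cycle L i x hx
      exact ⟨z, hz⟩
    · rintro ⟨z, rfl⟩
      exact d_iCycles_apply L i (i + 1) z
  have := Module.Flat.rTensor_exact Y hex
  exact (this w).1 hw

lemma rTensor_homologyπ_eq_zero (L : DRing.Cx A) (Y : ModuleCat.{u} A) [Module.Flat A Y]
    (i' i : ℤ) (v : (L.cycles i ⊗ Y : ModuleCat.{u} A)) (u : (L.X i' ⊗ Y : ModuleCat.{u} A))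
    (h : (L.iCycles i ▷ Y) v = (L.d i' i ▷ Y) u) : (L.homologyπ i ▷ Y) v = 0 := by
  have hinj : Function.Injective (LinearMap.rTensor Y (L.iCycles i).hom) :=
    Module.Flat.rTensor_preserves_injective_linearMap _ (iCycles_injective L i)
  have hv : v = (L.toCycles i' i ▷ Y) u := by
    apply hinj
    refine h.trans ?_
    have := congrArg (fun φ => φ.hom u) (comp_whiskerRight (L.toCycles i' i) (L.iCycles i) Y)
    rw [L.toCycles_i] at this
    exact this
  rw [hv]
  have := congrArg (fun φ => φ.hom u) (comp_whiskerRight (L.toCycles i' i) (L.homologyπ i) Y)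
  rw [L.toCycles_comp_homologyπ, MonoidalPreadditive.zero_whiskerRight] at this
  exact this.symm

/-! ### the cycle-level Künneth sum -/

section general

variable (K L : DRing.Cx A) (n : ℤ)

/-- cycle-level Künneth sum -/
abbrev KZ : Type u :=
  DirectSum (HTor.Antidiag n) fun ij => TensorProduct A (K.cycles ij.1.1) (L.cycles ij.1.2)

/-- the projection to the Künneth sum -/
noncomputable def Qmap : KZ K L n →ₗ[A] HTor.KunnethSum K L n :=
  DirectSum.lmap (fun ij : HTor.Antidiag n => πcyc K L ij.1.1 ij.1.2)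

lemma Qmap_surjective : Function.Surjective (Qmap K L n) :=
  (DirectSum.lmap_surjective _).2 (fun ij => πcyc_surjective K L _ _)

/-- the total multiplication on cycles -/
noncomputable def mtot : KZ K L n →ₗ[A] (K ⊗ L).cycles n :=
  DirectSum.toModule A (HTor.Antidiag n) _ (fun ij => (mcyc K L ij.1.1 ij.1.2 n ij.2).hom)

lemma mtot_lof (ij : HTor.Antidiag n) (t : TensorProduct A (K.cycles ij.1.1) (L.cycles ij.1.2)) :
    mtot K L n (DirectSum.lof A (HTor.Antidiag n) _ ij t) = mcyc K L ij.1.1 ij.1.2 n ij.2 t :=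
  DirectSum.toModule_lof _ _ _

variable {K L n}

lemma Φ_Qmap {Φ : HTor.KunnethSum K L n →ₗ[A] (HTor.tensorCx K L).homology n}
    (hΦ : HTor.IsKunnethMap K L n Φ) (w : KZ K L n) :
    Φ (Qmap K L n w) = (K ⊗ L).homologyπ n (mtot K L n w) := by
  have key : Φ ∘ₗ Qmap K L n = ((K ⊗ L).homologyπ n).hom ∘ₗ mtot K L n := by
    refine DirectSum.linearMap_ext A (fun ij => ?_)
    refine LinearMap.ext (fun t => ?_)
    change Φ (Qmap K L n (DirectSum.lof A (HTor.Antidiag n) _ ij t)) =
      (K ⊗ L).homologyπ n (mtot K L n (DirectSum.lof A (HTor.Antidiag n) _ ij t))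
    rw [mtot_lof]
    unfold Qmap
    rw [DirectSum.lmap_lof, IsKunnethMap.apply_πcyc hΦ]
    rfl
  exact LinearMap.congr_fun key w

variable (K L n)

lemma pr_iCycles_mtot (ij : HTor.Antidiag n) (w : KZ K L n) :
    pr K L ij.1.1 ij.1.2 n ij.2 ((K ⊗ L).iCycles n (mtot K L n w)) =
      (K.iCycles ij.1.1 ⊗ₘ L.iCycles ij.1.2) (w ij) := by
  have key : (pr K L ij.1.1 ij.1.2 n ij.2).hom ∘ₗ ((K ⊗ L).iCycles n).hom ∘ₗ mtot K L n =
      (K.iCycles ij.1.1 ⊗ₘ L.iCycles ij.1.2).hom ∘ₗ
        DirectSum.component A (HTor.Antidiag n) _ ij := by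
    refine DirectSum.linearMap_ext A (fun ij' => ?_)
    refine LinearMap.ext (fun t => ?_)
    change pr K L _ _ n ij.2 ((K ⊗ L).iCycles n
        (mtot K L n (DirectSum.lof A (HTor.Antidiag n) _ ij' t))) =
      (K.iCycles ij.1.1 ⊗ₘ L.iCycles ij.1.2)
        (DirectSum.component A (HTor.Antidiag n)
          (fun ij => TensorProduct A (K.cycles ij.1.1) (L.cycles ij.1.2)) ij
          (DirectSum.lof A (HTor.Antidiag n)
            (fun ij => TensorProduct A (K.cycles ij.1.1) (L.cycles ij.1.2)) ij' t))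
    rw [mtot_lof, mcyc_i_apply']
    by_cases h : ij' = ij
    · subst h
      rw [pr_ι_self_apply, DirectSum.component.lof_self]
    · have hne : ij'.1.1 ≠ ij.1.1 := by
        intro h1
        apply h
        have h2 : ij'.1.2 = ij.1.2 := by
          have := ij.2
          have := ij'.2
          omega
        exact Subtype.ext (Prod.ext h1 h2)
      rw [pr_ι_ne_apply K L _ _ n ij.2 _ _ ij'.2 hne, DirectSum.component.of, dif_neg h, map_zero]
  exact LinearMap.congr_fun key w

end general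

/-! ### zero differential, flat terms -/

section zero

variable (L N : DRing.Cx A) (hN : ∀ i j, N.d i j = 0)

include hN

lemma bijective_iCycles_of_d_zero (j : ℤ) : Function.Bijective (N.iCycles j) := by
  haveI := N.isIso_iCycles j (j + 1) (by simp) (hN _ _)
  exact (ConcreteCategory.isIso_iff_bijective (N.iCycles j)).1 inferInstance

lemma bijective_homologyπ_of_d_zero (j : ℤ) : Function.Bijective (N.homologyπ j) := by
  haveI := N.isIso_homologyπ (j - 1) j (by simp) (hN _ _)
  exact (ConcreteCategory.isIso_iff_bijective (N.homologyπ j)).1 inferInstance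

lemma bijective_whiskerLeft_iCycles (X : ModuleCat.{u} A) (j : ℤ) :
    Function.Bijective (X ◁ N.iCycles j) := by
  haveI := N.isIso_iCycles j (j + 1) (by simp) (hN _ _)
  exact (ConcreteCategory.isIso_iff_bijective (X ◁ N.iCycles j)).1 inferInstance

theorem kunneth_bijective_of_d_zero (hfl : ∀ j, Module.Flat A (N.X j)) (n : ℤ)
    (Φ : HTor.KunnethSum L N n →ₗ[A] (HTor.tensorCx L N).homology n)
    (hΦ : HTor.IsKunnethMap L N n Φ) : Function.Bijective Φ := by
  constructor
  · rw [injective_iff_map_eq_zero]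
    intro x hx
    obtain ⟨w, rfl⟩ := Qmap_surjective L N n x
    rw [Φ_Qmap hΦ] at hx
    obtain ⟨u, hu⟩ := exists_toCycles (L ⊗ N) (n - 1) n (by omega) _ hx
    have hu' : (L ⊗ N).iCycles n (mtot L N n w) = (L ⊗ N).d (n - 1) n u := by
      rw [← hu, toCycles_i_apply]
    refine DFinsupp.ext (fun ij => ?_)
    change πcyc L N ij.1.1 ij.1.2 (w ij) = 0
    have h1 := pr_iCycles_mtot L N n ij w
    rw [hu', d_pr_of_d_zero_apply L N hN (ij.1.1 - 1) ij.1.2 (n - 1)
      (by have := ij.2; omega) ij.1.1 n (by omega) (by omega)] at h1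
    haveI := hfl ij.1.2
    have h2 : (L.iCycles ij.1.1 ▷ N.X ij.1.2) ((L.cycles ij.1.1 ◁ N.iCycles ij.1.2) (w ij)) =
        (L.iCycles ij.1.1 ⊗ₘ N.iCycles ij.1.2) (w ij) := by
      have := congrArg (fun φ => φ.hom (w ij))
        (tensorHom_def' (L.iCycles ij.1.1) (N.iCycles ij.1.2))
      exact this.symm
    have h3 := rTensor_homologyπ_eq_zero L (N.X ij.1.2) (ij.1.1 - 1) ij.1.1 _ _ (h2.trans h1.symm)
    have h4 : (L.homology ij.1.1 ◁ N.iCycles ij.1.2)
        ((L.homologyπ ij.1.1 ▷ N.cycles ij.1.2) (w ij)) = 0 := by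
      have := congrArg (fun φ => φ.hom (w ij))
        (whisker_exchange (L.homologyπ ij.1.1) (N.iCycles ij.1.2))
      exact this.symm.trans h3
    have h5 : (L.homologyπ ij.1.1 ▷ N.cycles ij.1.2) (w ij) = 0 :=
      (bijective_whiskerLeft_iCycles N hN (L.homology ij.1.1) ij.1.2).1
        (h4.trans (map_zero _).symm)
    have h6 : πcyc L N ij.1.1 ij.1.2 (w ij) = (L.homology ij.1.1 ◁ N.homologyπ ij.1.2)
        ((L.homologyπ ij.1.1 ▷ N.cycles ij.1.2) (w ij)) := by
      have := congrArg (fun φ => φ.hom (w ij))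
        (tensorHom_def (L.homologyπ ij.1.1) (N.homologyπ ij.1.2))
      exact this
    rw [h6, h5, map_zero]
  · intro y
    obtain ⟨c, rfl⟩ := homologyπ_surjective (L ⊗ N) n y
    have hcomp : ∀ p : ℤ, ∃ wp : TensorProduct A (L.cycles p) (N.cycles (n - p)),
        (L.iCycles p ⊗ₘ N.iCycles (n - p)) wp =
          pr L N p (n - p) n (by omega) ((L ⊗ N).iCycles n c) := by
      intro p
      haveI := hfl (n - p)
      have hd : (L.d p (p + 1) ▷ N.X (n - p))
          (pr L N p (n - p) n (by omega) ((L ⊗ N).iCycles n c)) = 0 := by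
        rw [← d_pr_of_d_zero_apply L N hN p (n - p) n (by omega) (p + 1) (n + 1) rfl rfl,
          d_iCycles_apply, map_zero]
      obtain ⟨v, hv⟩ := exists_of_rTensor_d_eq_zero L (N.X (n - p)) p _ hd
      obtain ⟨wp, hwp⟩ := (bijective_whiskerLeft_iCycles N hN (L.cycles p) (n - p)).2 v
      refine ⟨wp, ?_⟩
      rw [← hv, ← hwp]
      have := congrArg (fun φ => φ.hom wp) (tensorHom_def' (L.iCycles p) (N.iCycles (n - p)))
      exact this
    choose wp hwp using hcomp
    obtain ⟨S, hS⟩ := decomp L N n ((L ⊗ N).iCycles n c)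
    refine ⟨Qmap L N n (∑ p ∈ S, DirectSum.lof A (HTor.Antidiag n)
      (fun ij => TensorProduct A (L.cycles ij.1.1) (N.cycles ij.1.2))
      ⟨(p, n - p), by dsimp only; omega⟩ (wp p)), ?_⟩
    rw [Φ_Qmap hΦ]
    refine congrArg _ ?_
    apply iCycles_injective
    rw [hS S (Finset.Subset.refl S), map_sum, map_sum]
    refine Finset.sum_congr rfl (fun p _ => ?_)
    rw [mtot_lof, mcyc_i_apply', hwp]

end zero

end Groth.Agent.H4.Kun3
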