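import Mathlib
import Groth.Prelude.Def_HTor
import Groth.Agent.H4.Kun3
import Groth.Agent.H4.TC8
import Groth.Agent.H4.SubCx

open CategoryTheory Category Limits HomologicalComplex CochainComplex.HomComplex CochainComplex
  MonoidalCategory

universe u

set_option backward.isDefEq.respectTransparency false

namespace Groth.Agent.H4.Kun4

open Groth.Agent.H4.TB11 Groth.Agent.H4.DualCx Groth.Agent.H4.Kun1 Groth.Agent.H4.Kun2
  Groth.Agent.H4.Kun3 Groth.Agent.H4.TC4 Groth.Agent.H4.TC8 Groth.Agent.H4.SubCx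

variable {A : Type u} [CommRing A]

/-! ### homotopy invariance -/

theorem kunneth_bijective_of_homotopyEquiv (L : DRing.Cx A) {M M' : DRing.Cx A}
    (e : HomotopyEquiv M M') (n : ℤ)
    (Φ : HTor.KunnethSum L M n →ₗ[A] (HTor.tensorCx L M).homology n)
    (Φ' : HTor.KunnethSum L M' n →ₗ[A] (HTor.tensorCx L M').homology n)
    (hΦ : HTor.IsKunnethMap L M n Φ) (hΦ' : HTor.IsKunnethMap L M' n Φ')
    (hb : Function.Bijective Φ) : Function.Bijective Φ' := by
  have h1 : Function.Bijective (Kfun L e.hom n) := Kfun_bijective L e.hom n (fun j => by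
    have : IsIso (homologyMap e.hom j) := (e.toHomologyIso j).isIso_hom
    exact (ConcreteCategory.isIso_iff_bijective _).1 this)
  have h2 : Function.Bijective (homologyMap (L ◁ e.hom) n) := by
    have : IsIso (homologyMap (L ◁ e.hom) n) :=
      ((whiskerLeftHomotopyEquiv L e).toHomologyIso n).isIso_hom
    exact (ConcreteCategory.isIso_iff_bijective _).1 this
  have hnat : ∀ x, homologyMap (L ◁ e.hom) n (Φ x) = Φ' (Kfun L e.hom n x) :=
    kunneth_natural L e.hom n Φ Φ' hΦ hΦ'
  have h3 : Function.Bijective (Φ' ∘ Kfun L e.hom n) := by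
    have : (Φ' ∘ Kfun L e.hom n) = (homologyMap (L ◁ e.hom) n) ∘ Φ :=
      funext (fun x => (hnat x).symm)
    rw [this]
    exact h2.comp hb
  exact (Function.Bijective.of_comp_iff Φ' h1).1 h3

/-! ### kernels of termwise surjective maps -/

section kernel

variable {F M : DRing.Cx A} (φ : F ⟶ M)

lemma ker_stable (i j : ℤ) (x : F.X i) (hx : x ∈ LinearMap.ker (φ.f i).hom) :
    (F.d i j).hom x ∈ LinearMap.ker (φ.f j).hom := by
  rw [LinearMap.mem_ker] at hx ⊢
  have := congrArg (fun ψ => ψ.hom x) (φ.comm i j)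
  refine this.symm.trans ?_
  change (M.d i j) ((φ.f i).hom x) = 0
  rw [hx, map_zero]

/-- the kernel complex -/
noncomputable def kerCx : DRing.Cx A :=
  Groth.Agent.H4.SubCx.sub F (fun i => LinearMap.ker (φ.f i).hom) (ker_stable φ)

/-- the inclusion of the kernel complex -/
noncomputable def kerι : kerCx φ ⟶ F := Groth.Agent.H4.SubCx.ι F _ (ker_stable φ)

lemma kerι_φ : kerι φ ≫ φ = 0 := by
  ext i x
  change (φ.f i).hom x.1 = 0
  exact LinearMap.mem_ker.1 x.2

theorem ker_shortExact (hφ : ∀ i, Function.Surjective (φ.f i)) :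
    (ShortComplex.mk (kerι φ) φ (kerι_φ φ)).ShortExact := by
  apply HomologicalComplex.shortExact_of_degreewise_shortExact
  intro i
  refine ShortComplex.ShortExact.mk' ?_ ?_ ?_
  · rw [ShortComplex.moduleCat_exact_iff]
    intro x hx
    refine ⟨(⟨x, hx⟩ : LinearMap.ker (φ.f i).hom), ?_⟩
    rfl
  · rw [ModuleCat.mono_iff_injective]
    intro a c hac
    exact Subtype.ext hac
  · rw [ModuleCat.epi_iff_surjective]
    exact hφ i

lemma kerCx_isZero (n : ℤ) (h : IsZero (F.X n)) : IsZero ((kerCx φ).X n) := by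
  haveI : Subsingleton (F.X n) := ModuleCat.subsingleton_of_isZero h
  change IsZero (ModuleCat.of A (LinearMap.ker (φ.f n).hom))
  exact ModuleCat.isZero_of_subsingleton _

end kernel

/-! ### the cover -/

section cover

variable (M : DRing.Cx A)

/-- free zero-differential complex on the nonzero cycles -/
noncomputable def covN : DRing.Cx A where
  X j := ModuleCat.of A ({z : M.cycles j // z ≠ 0} →₀ A)
  d _ _ := 0
  shape _ _ _ := rfl
  d_comp_d' _ _ _ _ _ := by simp

lemma covN_d (i j : ℤ) : (covN M).d i j = 0 := rfl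

/-- the map to `M` -/
noncomputable def covNφ : covN M ⟶ M where
  f j := ModuleCat.ofHom (Finsupp.linearCombination A
    (fun z : {z : M.cycles j // z ≠ 0} => M.iCycles j z.1))
  comm' i j _ := by
    rw [covN_d, zero_comp]
    refine ModuleCat.hom_ext (Finsupp.lhom_ext (fun z a => ?_))
    change (M.d i j) (Finsupp.linearCombination A
      (fun z : {z : M.cycles i // z ≠ 0} => M.iCycles i z.1) (Finsupp.single z a)) = 0
    rw [Finsupp.linearCombination_single, map_smul, d_iCycles_apply, smul_zero]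

lemma covNφ_single (j : ℤ) (z : M.cycles j) (hz : z ≠ 0) :
    (covNφ M).f j (Finsupp.single ⟨z, hz⟩ 1 : {z : M.cycles j // z ≠ 0} →₀ A) =
      M.iCycles j z := by
  change Finsupp.linearCombination A _ (Finsupp.single _ 1) = _
  rw [Finsupp.linearCombination_single, one_smul]

lemma covN_flat (j : ℤ) : Module.Flat A ((covN M).X j) := by
  change Module.Flat A ({z : M.cycles j // z ≠ 0} →₀ A)
  infer_instance

lemma covN_isZero (j : ℤ) (h : IsZero (M.X j)) : IsZero ((covN M).X j) := by
  haveI : Subsingleton (M.X j) := ModuleCat.subsingleton_of_isZero h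
  haveI : Subsingleton (M.cycles j) := (iCycles_injective M j).subsingleton
  haveI : IsEmpty {z : M.cycles j // z ≠ 0} := ⟨fun z => z.2 (Subsingleton.elim _ _)⟩
  change IsZero (ModuleCat.of A ({z : M.cycles j // z ≠ 0} →₀ A))
  exact ModuleCat.isZero_of_subsingleton _

lemma covNφ_homology_surjective (j : ℤ) : Function.Surjective (homologyMap (covNφ M) j) := by
  intro y
  obtain ⟨z, rfl⟩ := homologyπ_surjective M j y
  by_cases hz : z = 0
  · exact ⟨0, by rw [map_zero, hz, map_zero]⟩
  · obtain ⟨c, hc⟩ := exists_cycle (covN M) j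
      (Finsupp.single ⟨z, hz⟩ 1 : {z : M.cycles j // z ≠ 0} →₀ A) rfl
    refine ⟨(covN M).homologyπ j c, ?_⟩
    rw [homologyMap_homologyπ_apply]
    refine congrArg _ ?_
    apply iCycles_injective
    rw [iCycles_cyclesMap_apply, hc, covNφ_single]

variable (b : ℤ)

/-- truncation submodule -/
def truncS (p : ℤ) : Submodule A (M.X (p + (-1))) where
  carrier := {x | b ≤ p + (-1) → x = 0}
  zero_mem' := fun _ => rfl
  add_mem' := fun {x y} hx hy h => by
    change x + y = 0
    rw [hx h, hy h, add_zero]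
  smul_mem' := fun a x hx h => by
    change a • x = 0
    rw [hx h, smul_zero]

/-- the truncated shifted terms with zero differential -/
noncomputable def covG : DRing.Cx A where
  X p := ModuleCat.of A (truncS M b p)
  d _ _ := 0
  shape _ _ _ := rfl
  d_comp_d' _ _ _ _ _ := by simp

noncomputable def covαv (p q : ℤ) (hpq : p + (-1) = q) : (covG M b).X p ⟶ M.X q :=
  ModuleCat.ofHom (((M.XIsoOfEq hpq).hom.hom).comp (truncS M b p).subtype)

lemma covαv_surjective (p q : ℤ) (hpq : p + (-1) = q) (hq : q < b) :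
    Function.Surjective (covαv M b p q hpq) := by
  subst hpq
  intro x
  refine ⟨⟨x, fun h => absurd h (not_le.mpr hq)⟩, ?_⟩
  change (M.XIsoOfEq rfl).hom.hom x = x
  simp

noncomputable def covα : Cochain (covG M b) M (-1) :=
  Cochain.mk (fun p q hpq => covαv M b p q hpq)

noncomputable def covβ : covG M b ⟶ M :=
  Cocycle.homOf (Cocycle.mk (δ (-1) 0 (covα M b)) 1 (zero_add 1) (δ_δ _ _ _ _))

/-- the contractible part -/
noncomputable def covD : DRing.Cx A := mappingCone (𝟙 (covG M b))

noncomputable def covDπ : covD M b ⟶ M :=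
  mappingCone.desc (𝟙 (covG M b)) (covα M b) (covβ M b) (by simp [covβ])

lemma covDπ_surjective (n : ℤ) (hn : n < b) : Function.Surjective ((covDπ M b).f n) := by
  have h := mappingCone.inl_v_desc_f (𝟙 (covG M b)) (covα M b) (covβ M b)
    (by simp [covβ]) (n + 1) n (by omega)
  intro x
  obtain ⟨y, hy⟩ := covαv_surjective M b (n + 1) n (by omega) hn x
  refine ⟨(mappingCone.inl (𝟙 (covG M b))).v (n + 1) n (by omega) y, ?_⟩
  rw [← hy]
  have h' : (covα M b).v (n + 1) n (by omega) = covαv M b (n + 1) n (by omega) := by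
    rw [covα, Cochain.mk_v]
  rw [← h', ← h]
  rfl

lemma covG_isZero (p : ℤ) (hp : b ≤ p + (-1)) : IsZero ((covG M b).X p) := by
  haveI : Subsingleton (truncS M b p) :=
    ⟨fun x y => Subtype.ext ((x.2 hp).trans (y.2 hp).symm)⟩
  change IsZero (ModuleCat.of A (truncS M b p))
  exact ModuleCat.isZero_of_subsingleton _

lemma covD_isZero (n : ℤ) (hn : b < n) : IsZero ((covD M b).X n) := by
  have e : (covD M b).X n ≅ (covG M b).X (n + 1) ⊞ (covG M b).X n :=
    HomologicalComplex.homotopyCofiber.XIsoBiprod (𝟙 (covG M b)) n (n + 1) rfl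
  refine IsZero.of_iso ?_ e
  have h1 := covG_isZero M b (n + 1) (by omega)
  have h2 := covG_isZero M b n (by omega)
  rw [IsZero.iff_id_eq_zero]
  apply biprod.hom_ext
  · exact h1.eq_of_tgt _ _
  · exact h2.eq_of_tgt _ _

/-- the cover -/
noncomputable def covF : DRing.Cx A := covN M ⊞ covD M b

noncomputable def covφ : covF M b ⟶ M := biprod.desc (covNφ M) (covDπ M b)

lemma covF_isZero (hb : DRing.VanishesAbove M b) (n : ℤ) (hn : b < n) :
    IsZero ((covF M b).X n) := by
  have e := HomologicalComplex.biprodXIso (covN M) (covD M b) n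
  refine IsZero.of_iso ?_ e
  rw [IsZero.iff_id_eq_zero]
  apply biprod.hom_ext
  · exact (covN_isZero M n (hb n hn)).eq_of_tgt _ _
  · exact (covD_isZero M b n hn).eq_of_tgt _ _

lemma covφ_surjective (hb : DRing.VanishesAbove M b) (n : ℤ) :
    Function.Surjective ((covφ M b).f n) := by
  intro x
  by_cases hn : n < b
  · obtain ⟨y, hy⟩ := covDπ_surjective M b n hn x
    refine ⟨(biprod.inr : covD M b ⟶ covF M b).f n y, ?_⟩
    have := congrArg (fun ψ => (ψ.f n).hom y) (biprod.inr_desc (covNφ M) (covDπ M b))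
    exact this.trans hy
  · have hx : M.d n (n + 1) x = 0 := by
      haveI : Subsingleton (M.X (n + 1)) :=
        ModuleCat.subsingleton_of_isZero (hb (n + 1) (by omega))
      exact Subsingleton.elim _ _
    obtain ⟨z, hz⟩ := exists_cycle M n x hx
    by_cases hz0 : z = 0
    · refine ⟨0, ?_⟩
      rw [map_zero, ← hz, hz0, map_zero]
    · refine ⟨(biprod.inl : covN M ⟶ covF M b).f n
        (Finsupp.single ⟨z, hz0⟩ 1 : {z : M.cycles n // z ≠ 0} →₀ A), ?_⟩
      have := congrArg (fun ψ => (ψ.f n).hom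
        (Finsupp.single ⟨z, hz0⟩ 1 : {z : M.cycles n // z ≠ 0} →₀ A))
        (biprod.inl_desc (covNφ M) (covDπ M b))
      refine this.trans ?_
      rw [← hz]
      exact covNφ_single M n z hz0

lemma covφ_homology_surjective (j : ℤ) : Function.Surjective (homologyMap (covφ M b) j) := by
  have h : homologyMap (covNφ M) j =
      homologyMap (biprod.inl : covN M ⟶ covF M b) j ≫ homologyMap (covφ M b) j := by
    rw [← homologyMap_comp]
    congr 1
    exact (biprod.inl_desc _ _).symm
  intro y
  obtain ⟨x, hx⟩ := covNφ_homology_surjective M j y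
  refine ⟨homologyMap (biprod.inl : covN M ⟶ covF M b) j x, ?_⟩
  rw [← hx, h]
  rfl

theorem kunneth_bijective_covF (L : DRing.Cx A) (n : ℤ)
    (Φ : HTor.KunnethSum L (covF M b) n →ₗ[A] (HTor.tensorCx L (covF M b)).homology n)
    (hΦ : HTor.IsKunnethMap L (covF M b) n Φ) : Function.Bijective Φ := by
  have hD : Homotopy (𝟙 (covD M b)) 0 := mappingCone.homotopyToZeroOfId _
  exact kunneth_bijective_of_homotopyEquiv L (homotopyEquivBiprod (covN M) (covD M b) hD) n
    (kmap L (covN M) n) Φ (isKunnethMap_kmap _ _ _) hΦ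
    (kunneth_bijective_of_d_zero L (covN M) (covN_d M) (covN_flat M) n _
      (isKunnethMap_kmap _ _ _))

lemma covF_homology_flat (j : ℤ) : Module.Flat A ((covF M b).homology j) := by
  have hD : Homotopy (𝟙 (covD M b)) 0 := mappingCone.homotopyToZeroOfId _
  let e := homotopyEquivBiprod (covN M) (covD M b) hD
  haveI := covN_flat M j
  haveI i1 := (covN M).isIso_iCycles j (j + 1) (by simp) (covN_d M _ _)
  haveI i2 := (covN M).isIso_homologyπ (j - 1) j (by simp) (covN_d M _ _)
  let e' : (covF M b).homology j ≅ (covN M).X j :=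
    (e.toHomologyIso j).symm ≪≫ (asIso ((covN M).homologyπ j)).symm ≪≫
      asIso ((covN M).iCycles j)
  exact Module.Flat.of_linearEquiv e'.toLinearEquiv

end cover

theorem exists_cover (M : DRing.Cx A) (b : ℤ) (hb : DRing.VanishesAbove M b) :
    ∃ (F M' : DRing.Cx A) (ι : M' ⟶ F) (φ : F ⟶ M) (w : ι ≫ φ = 0),
      (ShortComplex.mk ι φ w).ShortExact ∧ DRing.VanishesAbove F b ∧
      DRing.VanishesAbove M' b ∧
      (∀ j, Function.Surjective (homologyMap φ j)) ∧ (∀ j, Module.Flat A (F.homology j)) ∧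
      (∀ (L : DRing.Cx A) (n : ℤ)
        (Φ : HTor.KunnethSum L F n →ₗ[A] (HTor.tensorCx L F).homology n),
        HTor.IsKunnethMap L F n Φ → Function.Bijective Φ) :=
  ⟨covF M b, kerCx (covφ M b), kerι _, covφ M b, kerι_φ _,
    ker_shortExact _ (covφ_surjective M b hb), covF_isZero M b hb,
    fun n hn => kerCx_isZero _ n (covF_isZero M b hb n hn), covφ_homology_surjective M b,
    covF_homology_flat M b, fun L n Φ hΦ => kunneth_bijective_covF M b L n Φ hΦ⟩

end Groth.Agent.H4.Kun4
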