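import Mathlib
import Groth.Prelude.Def_HTor
import Groth.Agent.H4.Kun4

open CategoryTheory Category Limits HomologicalComplex MonoidalCategory

universe u

set_option backward.isDefEq.respectTransparency false

namespace Groth.Agent.H4.Kun5

open Groth.Agent.H4.TB11 Groth.Agent.H4.DualCx Groth.Agent.H4.Kun1 Groth.Agent.H4.Kun2
  Groth.Agent.H4.Kun3 Groth.Agent.H4.Kun4

variable {A : Type u} [CommRing A]

/-! ### the long exact sequence, elementwise -/

section les

variable {S : ShortComplex (DRing.Cx A)} (hS : S.ShortExact) (i j : ℤ) (hij : i + 1 = j)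

lemma les_exact₁ (y : S.X₁.homology j) (hy : homologyMap S.f j y = 0) :
    ∃ x, hS.δ i j hij x = y := by
  have := hS.homology_exact₁ i j hij
  rw [ShortComplex.moduleCat_exact_iff] at this
  exact this y hy

include hS in
lemma les_exact₂ (y : S.X₂.homology i) (hy : homologyMap S.g i y = 0) :
    ∃ x, homologyMap S.f i x = y := by
  have := hS.homology_exact₂ i
  rw [ShortComplex.moduleCat_exact_iff] at this
  exact this y hy

lemma les_exact₃ (y : S.X₃.homology i) (hy : hS.δ i j hij y = 0) :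
    ∃ x, homologyMap S.g i x = y := by
  have := hS.homology_exact₃ i j hij
  rw [ShortComplex.moduleCat_exact_iff] at this
  exact this y hy

lemma les_δ_comp (x : S.X₃.homology i) : homologyMap S.f j (hS.δ i j hij x) = 0 := by
  have := congrArg (fun ψ => ψ.hom x) (hS.δ_comp i j hij)
  exact this

lemma les_comp_δ (x : S.X₂.homology i) : hS.δ i j hij (homologyMap S.g i x) = 0 := by
  have := congrArg (fun ψ => ψ.hom x) (hS.comp_δ i j hij)
  exact this

include hS in
lemma homologyMap_f_injective (hg : ∀ j, Function.Surjective (homologyMap S.g j)) (j : ℤ) :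
    Function.Injective (homologyMap S.f j) := by
  rw [injective_iff_map_eq_zero]
  intro y hy
  obtain ⟨x, rfl⟩ := les_exact₁ hS (j - 1) j (by omega) y hy
  obtain ⟨x', rfl⟩ := hg (j - 1) x
  exact les_comp_δ hS (j - 1) j (by omega) x'

end les

/-! ### tensoring short exact sequences with termwise flat complexes -/

lemma whiskerLeft_zero_cx (L M M' : DRing.Cx A) : L ◁ (0 : M ⟶ M') = 0 := by
  ext n : 1
  refine mapBifunctor.hom_ext (fun p q h => ?_)
  have h' : p + q = n := h
  change ιTensorObj L M p q n h' ≫ (L ◁ (0 : M ⟶ M')).f n =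
    ιTensorObj L M p q n h' ≫ (0 : L ⊗ M ⟶ L ⊗ M').f n
  rw [ι_whiskerLeft_f, zero_f, zero_f, MonoidalPreadditive.whiskerLeft_zero, zero_comp, comp_zero]

section tensorExact

variable (L : DRing.Cx A) {M₁ M₂ M₃ : DRing.Cx A} (f : M₁ ⟶ M₂) (g : M₂ ⟶ M₃) (w : f ≫ g = 0)

include w in
lemma whiskerLeft_comp_zero : L ◁ f ≫ L ◁ g = 0 := by
  rw [← MonoidalCategory.whiskerLeft_comp, w, whiskerLeft_zero_cx]

theorem tensor_shortExact (hL : DRing.TermwiseFlat L) (hS : (ShortComplex.mk f g w).ShortExact) :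
    (ShortComplex.mk (L ◁ f) (L ◁ g) (whiskerLeft_comp_zero L f g w)).ShortExact := by
  have hdeg : ∀ q, ((ShortComplex.mk f g w).map
      (HomologicalComplex.eval (ModuleCat.{u} A) (ComplexShape.up ℤ) q)).ShortExact :=
    fun q => hS.map_of_exact _
  have hinj : ∀ q, Function.Injective (f.f q) := fun q =>
    (ModuleCat.mono_iff_injective (f.f q)).1 (hdeg q).mono_f
  have hsurj : ∀ q, Function.Surjective (g.f q) := fun q =>
    (ModuleCat.epi_iff_surjective (g.f q)).1 (hdeg q).epi_g
  have hex : ∀ q (x : M₂.X q), g.f q x = 0 → ∃ y, f.f q y = x := fun q => by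
    have := (hdeg q).exact
    rw [ShortComplex.moduleCat_exact_iff] at this
    exact this
  have hfg : ∀ q (y : M₁.X q), g.f q (f.f q y) = 0 := fun q y => by
    have := congrArg (fun ψ => (ψ.f q).hom y) w
    exact this
  apply HomologicalComplex.shortExact_of_degreewise_shortExact
  intro n
  refine ShortComplex.ShortExact.mk' ?_ ?_ ?_
  · rw [ShortComplex.moduleCat_exact_iff]
    intro z hz
    change (L ◁ g).f n z = 0 at hz
    have hcomp : ∀ p : ℤ, ∃ wp : (L.X p ⊗ M₁.X (n - p) : ModuleCat.{u} A),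
        (L.X p ◁ f.f (n - p)) wp = pr L M₂ p (n - p) n (by omega) z := by
      intro p
      have h0 : (L.X p ◁ g.f (n - p)) (pr L M₂ p (n - p) n (by omega) z) = 0 := by
        rw [← whiskerLeft_pr_apply, hz, map_zero]
      have hexact : Function.Exact (LinearMap.lTensor (L.X p) (f.f (n - p)).hom)
          (LinearMap.lTensor (L.X p) (g.f (n - p)).hom) :=
        lTensor_exact (L.X p) (fun x => ⟨fun hx => hex _ x hx, fun ⟨y, hy⟩ => by
          rw [← hy]
          exact hfg _ y⟩) (hsurj _)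
      exact (hexact _).1 h0
    choose wp hwp using hcomp
    obtain ⟨S, hS'⟩ := decomp L M₂ n z
    refine ⟨∑ p ∈ S, ιTensorObj L M₁ p (n - p) n (by omega) (wp p), ?_⟩
    change (L ◁ f).f n _ = z
    rw [map_sum, hS' S (Finset.Subset.refl S)]
    refine Finset.sum_congr rfl (fun p _ => ?_)
    rw [← hwp]
    have := congrArg (fun ψ => ψ.hom (wp p)) (ι_whiskerLeft_f L f p (n - p) n (by omega))
    exact this
  · rw [ModuleCat.mono_iff_injective, injective_iff_map_eq_zero]
    intro z hz
    change (L ◁ f).f n z = 0 at hz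
    refine eq_zero_of_pr L M₁ n z (fun p => ?_)
    haveI := hL p
    have h0 : (L.X p ◁ f.f (n - p)) (pr L M₁ p (n - p) n (by omega) z) = 0 := by
      rw [← whiskerLeft_pr_apply, hz, map_zero]
    have hi : Function.Injective (LinearMap.lTensor (L.X p) (f.f (n - p)).hom) :=
      Module.Flat.lTensor_preserves_injective_linearMap _ (hinj _)
    exact hi (h0.trans (map_zero _).symm)
  · rw [ModuleCat.epi_iff_surjective]
    intro z
    change ∃ a, (L ◁ g).f n a = z
    induction z using tensor_induction L M₃ n with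
    | h0 => exact ⟨0, map_zero _⟩
    | hadd x y hx hy =>
      obtain ⟨a, ha⟩ := hx
      obtain ⟨c, hc⟩ := hy
      exact ⟨a + c, by rw [map_add, ha, hc]⟩
    | hsmul r x hx =>
      obtain ⟨a, ha⟩ := hx
      exact ⟨r • a, by rw [map_smul, ha]⟩
    | hι p q h t =>
      obtain ⟨t', ht'⟩ := LinearMap.lTensor_surjective (L.X p) (hsurj q) t
      refine ⟨ιTensorObj L M₂ p q n h t', ?_⟩
      have := congrArg (fun ψ => ψ.hom t') (ι_whiskerLeft_f L g p q n h)
      exact this.trans (congrArg _ ht')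

end tensorExact

/-! ### vanishing in large degrees -/

lemma isZero_tensor_X (L M : DRing.Cx A) (bL bM : ℤ) (hL : DRing.VanishesAbove L bL)
    (hM : DRing.VanishesAbove M bM) (n : ℤ) (hn : bL + bM < n) : IsZero ((L ⊗ M).X n) := by
  rw [IsZero.iff_id_eq_zero]
  refine mapBifunctor.hom_ext (fun p q hpq => ?_)
  have h : p + q = n := hpq
  have hz : IsZero (L.X p ⊗ M.X q : ModuleCat.{u} A) := by
    by_cases hp : bL < p
    · rw [IsZero.iff_id_eq_zero, ← id_whiskerRight, (hL p hp).eq_of_src (𝟙 (L.X p)) 0,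
        MonoidalPreadditive.zero_whiskerRight]
    · rw [IsZero.iff_id_eq_zero, ← MonoidalCategory.whiskerLeft_id,
        (hM q (by omega)).eq_of_src (𝟙 (M.X q)) 0, MonoidalPreadditive.whiskerLeft_zero]
  exact hz.eq_of_src _ _

lemma subsingleton_homology_of_large (L M : DRing.Cx A) (bL bM : ℤ)
    (hL : DRing.VanishesAbove L bL) (hM : DRing.VanishesAbove M bM) (n : ℤ) (hn : bL + bM < n) :
    Subsingleton ((HTor.tensorCx L M).homology n) :=
  ModuleCat.subsingleton_of_isZero
    (ShortComplex.isZero_homology_of_isZero_X₂ _ (isZero_tensor_X L M bL bM hL hM n hn))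

/-! ### the Künneth formula for flat cohomology -/

theorem kunneth_surjective_aux (L : DRing.Cx A) (hL : DRing.TermwiseFlat L) (bL bM : ℤ)
    (hbL : DRing.VanishesAbove L bL) (hH : ∀ i, Module.Flat A (L.homology i)) (k : ℕ) :
    ∀ (n : ℤ), bL + bM < n + k → ∀ (M : DRing.Cx A), DRing.VanishesAbove M bM →
      ∀ (Φ : HTor.KunnethSum L M n →ₗ[A] (HTor.tensorCx L M).homology n),
        HTor.IsKunnethMap L M n Φ → Function.Surjective Φ := by
  induction k with
  | zero =>
    intro n hn M hM Φ _ y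
    haveI := subsingleton_homology_of_large L M bL bM hbL hM n (by simpa using hn)
    exact ⟨0, Subsingleton.elim _ _⟩
  | succ k ih =>
    intro n hn M hM Φ hΦ y
    obtain ⟨F, M', ι, φ, w, hS, hF, hM', hφ, -, hKF⟩ := exists_cover M bM hM
    have hT := tensor_shortExact L ι φ w hL hS
    have hδ : hT.δ n (n + 1) rfl y = 0 := by
      obtain ⟨v, hv⟩ := ih (n + 1) (by push_cast at hn ⊢; omega) M' hM' (kmap L M' (n + 1))
        (isKunnethMap_kmap _ _ _) (hT.δ n (n + 1) rfl y)
      have h1 : homologyMap (L ◁ ι) (n + 1) (hT.δ n (n + 1) rfl y) = 0 :=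
        les_δ_comp hT n (n + 1) rfl y
      rw [← hv, kunneth_natural L ι (n + 1) _ (kmap L F (n + 1)) (isKunnethMap_kmap _ _ _)
        (isKunnethMap_kmap _ _ _)] at h1
      have h2 : Kfun L ι (n + 1) v = 0 :=
        (hKF L (n + 1) _ (isKunnethMap_kmap _ _ _)).1 (h1.trans (map_zero _).symm)
      have h3 : v = 0 := (Kfun_injective L ι (n + 1) hH (homologyMap_f_injective hS hφ))
        (h2.trans (map_zero _).symm)
      rw [← hv, h3, map_zero]
    obtain ⟨y', hy'⟩ := les_exact₃ hT n (n + 1) rfl y hδ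
    obtain ⟨x', hx'⟩ := (hKF L n (kmap L F n) (isKunnethMap_kmap _ _ _)).2 y'
    refine ⟨Kfun L φ n x', ?_⟩
    rw [← kunneth_natural L φ n (kmap L F n) Φ (isKunnethMap_kmap _ _ _) hΦ, hx']
    exact hy'

theorem kunneth_bijective (L : DRing.Cx A) (hL : DRing.TermwiseFlat L) (bL bM : ℤ)
    (hbL : DRing.VanishesAbove L bL) (hH : ∀ i, Module.Flat A (L.homology i)) (n : ℤ)
    (M : DRing.Cx A) (hM : DRing.VanishesAbove M bM)
    (Φ : HTor.KunnethSum L M n →ₗ[A] (HTor.tensorCx L M).homology n)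
    (hΦ : HTor.IsKunnethMap L M n Φ) : Function.Bijective Φ := by
  have hsurj : ∀ (n : ℤ) (M : DRing.Cx A), DRing.VanishesAbove M bM →
      ∀ (Φ : HTor.KunnethSum L M n →ₗ[A] (HTor.tensorCx L M).homology n),
        HTor.IsKunnethMap L M n Φ → Function.Surjective Φ := fun n M hM Φ hΦ =>
    kunneth_surjective_aux L hL bL bM hbL hH (Int.toNat (bL + bM - n) + 1) n (by
      have := Int.self_le_toNat (bL + bM - n)
      push_cast
      omega) M hM Φ hΦ
  refine ⟨?_, hsurj n M hM Φ hΦ⟩
  rw [injective_iff_map_eq_zero]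
  intro x hx
  obtain ⟨F, M', ι, φ, w, hS, hF, hM', hφ, -, hKF⟩ := exists_cover M bM hM
  have hT := tensor_shortExact L ι φ w hL hS
  obtain ⟨y, rfl⟩ := Kfun_surjective L φ n hφ x
  have h1 : homologyMap (L ◁ φ) n (kmap L F n y) = 0 := by
    rw [kunneth_natural L φ n (kmap L F n) Φ (isKunnethMap_kmap _ _ _) hΦ, hx]
  obtain ⟨wv, hwv⟩ := les_exact₂ hT n _ h1
  obtain ⟨v, hv⟩ := hsurj n M' hM' (kmap L M' n) (isKunnethMap_kmap _ _ _) wv
  have h2 : kmap L F n y = kmap L F n (Kfun L ι n v) := by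
    rw [← kunneth_natural L ι n (kmap L M' n) (kmap L F n) (isKunnethMap_kmap _ _ _)
      (isKunnethMap_kmap _ _ _), hv]
    exact hwv.symm
  have h3 : y = Kfun L ι n v := (hKF L n _ (isKunnethMap_kmap _ _ _)).1 h2
  rw [h3, Kfun_comp_of_zero L ι φ w]

end Groth.Agent.H4.Kun5
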