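import Mathlib
import Groth.Prelude.Def_HTor
import Groth.Agent.H4.Kun5
import Groth.Agent.Lib.Helper2.TorBalLES
import Groth.Agent.Lib.Helper2.TorBalOne

open CategoryTheory Category Limits HomologicalComplex MonoidalCategory

universe u

set_option backward.isDefEq.respectTransparency false

namespace Groth.Agent.H4.Kun6

open Groth.Agent.H4.TB11 Groth.Agent.H4.DualCx Groth.Agent.H4.Kun1 Groth.Agent.H4.Kun2
  Groth.Agent.H4.Kun3 Groth.Agent.H4.Kun4 Groth.Agent.H4.Kun5 Groth.Agent.H2.TorBal

variable {A : Type u} [CommRing A]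

/-! ### subquotients -/

section subq

variable {N N₁ N₂ T T' : Type u} [AddCommGroup N] [Module A N] [AddCommGroup N₁] [Module A N₁]
  [AddCommGroup N₂] [Module A N₂] [AddCommGroup T] [Module A T] [AddCommGroup T'] [Module A T']

lemma isSubquotient_of_surjective_from_sub (S' : Submodule A T) (f : S' →ₗ[A] N)
    (hf : Function.Surjective f) : HTor.IsSubquotient A N T := by
  refine ⟨Submodule.map S'.subtype (LinearMap.ker f), S', ?_, ?_⟩
  · rintro _ ⟨x, -, rfl⟩
    exact x.2
  · have h : Submodule.comap S'.subtype (Submodule.map S'.subtype (LinearMap.ker f)) =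
        LinearMap.ker f := Submodule.comap_map_eq_of_injective S'.injective_subtype _
    rw [h]
    exact ⟨(f.quotKerEquivOfSurjective hf).symm⟩

lemma exists_surjective_of_isSubquotient (h : HTor.IsSubquotient A N T) :
    ∃ (S' : Submodule A T) (f : S' →ₗ[A] N), Function.Surjective f := by
  obtain ⟨S, S', -, ⟨e⟩⟩ := h
  exact ⟨S', e.symm.toLinearMap ∘ₗ (Submodule.comap S'.subtype S).mkQ,
    e.symm.surjective.comp (Submodule.mkQ_surjective _)⟩

lemma isSubquotient_of_injective (i : N₁ →ₗ[A] N₂) (hi : Function.Injective i)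
    (h : HTor.IsSubquotient A N₂ T) : HTor.IsSubquotient A N₁ T := by
  obtain ⟨S', f, hf⟩ := exists_surjective_of_isSubquotient h
  let V : Submodule A S' := Submodule.comap f (LinearMap.range i)
  let e1 : V ≃ₗ[A] Submodule.map S'.subtype V :=
    Submodule.equivMapOfInjective S'.subtype S'.injective_subtype V
  let e2 : N₁ ≃ₗ[A] LinearMap.range i := LinearEquiv.ofInjective i hi
  let g : V →ₗ[A] LinearMap.range i :=
    f.restrict (p := V) (q := LinearMap.range i) (fun x hx => hx)
  refine isSubquotient_of_surjective_from_sub (Submodule.map S'.subtype V)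
    (e2.symm.toLinearMap ∘ₗ g ∘ₗ e1.symm.toLinearMap) ?_
  intro y
  obtain ⟨s, hs⟩ := hf (i y)
  have hsV : s ∈ V := by
    change f s ∈ LinearMap.range i
    rw [hs]
    exact ⟨y, rfl⟩
  refine ⟨e1 ⟨s, hsV⟩, ?_⟩
  change e2.symm (g (e1.symm (e1 ⟨s, hsV⟩))) = y
  rw [LinearEquiv.symm_apply_apply, LinearEquiv.symm_apply_eq]
  exact Subtype.ext hs

lemma isSubquotient_of_surjective (θ : T →ₗ[A] N) (hθ : Function.Surjective θ) :
    HTor.IsSubquotient A N T :=
  isSubquotient_of_surjective_from_sub ⊤ (θ ∘ₗ (⊤ : Submodule A T).subtype) (fun y => by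
    obtain ⟨t, rfl⟩ := hθ y
    exact ⟨⟨t, trivial⟩, rfl⟩)

lemma isSubquotient_congr (e : T ≃ₗ[A] T') (h : HTor.IsSubquotient A N T) :
    HTor.IsSubquotient A N T' := by
  obtain ⟨S', f, hf⟩ := exists_surjective_of_isSubquotient h
  refine isSubquotient_of_surjective_from_sub (Submodule.map e.toLinearMap S')
    (f ∘ₗ (e.submoduleMap S').symm.toLinearMap) ?_
  exact hf.comp (e.submoduleMap S').symm.surjective

lemma liftQ_injective {M₁ M₂ : Type u} [AddCommGroup M₁] [Module A M₁] [AddCommGroup M₂]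
    [Module A M₂] (p : Submodule A M₁) (f : M₁ →ₗ[A] M₂) (h : p = LinearMap.ker f) :
    Function.Injective (p.liftQ f (le_of_eq h)) := by
  rw [← LinearMap.ker_eq_bot]
  exact Submodule.ker_liftQ_eq_bot' p f h

end subq

/-! ### direct sums over equivalent index predicates -/

lemma nonempty_dsum_equiv {P₁ P₂ : ℤ × ℤ → Prop} (h : ∀ x, P₁ x ↔ P₂ x) (X Y : ℤ × ℤ → Type u)
    [∀ x, AddCommGroup (X x)] [∀ x, Module A (X x)] [∀ x, AddCommGroup (Y x)]
    [∀ x, Module A (Y x)] (e : ∀ x, P₁ x → Nonempty (X x ≃ₗ[A] Y x)) :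
    Nonempty ((DirectSum {x // P₁ x} fun ij => X ij.1) ≃ₗ[A]
      (DirectSum {x // P₂ x} fun ij => Y ij.1)) := by
  obtain rfl : P₁ = P₂ := funext (fun x => propext (h x))
  exact ⟨DirectSum.congrLinearEquiv (fun ij => (e ij.1 ij.2).some)⟩

/-! ### Tor facts -/

lemma nonempty_tor_one_equiv_ker_lTensor (T : ShortComplex (ModuleCat.{u} A)) (hT : T.ShortExact)
    (S : ModuleCat.{u} A) [Module.Flat A T.X₂] :
    Nonempty (torObj 1 S T.X₃ ≃ₗ[A] LinearMap.ker (LinearMap.lTensor S T.f.hom)) := by
  obtain ⟨e1⟩ := nonempty_tor_symm S T.X₃ 1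
  obtain ⟨e2⟩ := nonempty_tor_one_linearEquiv_ker T hT S (isZero_tor_succ_of_flat_left T.X₂ S 0)
  have hcomm : ∀ x : TensorProduct A T.X₁ S,
      (LinearMap.lTensor S T.f.hom) ((TensorProduct.comm A T.X₁ S) x) =
        (TensorProduct.comm A T.X₂ S) ((LinearMap.rTensor S T.f.hom) x) := by
    intro x
    induction x using TensorProduct.induction_on with
    | zero => simp
    | tmul a s => simp
    | add a b ha hb => simp only [map_add, ha, hb]
  have hk : LinearMap.ker (LinearMap.rTensor S T.f.hom) =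
      Submodule.comap (TensorProduct.comm A T.X₁ S).toLinearMap
        (LinearMap.ker (LinearMap.lTensor S T.f.hom)) := by
    ext x
    rw [LinearMap.mem_ker, Submodule.mem_comap, LinearMap.mem_ker]
    change _ ↔ (LinearMap.lTensor S T.f.hom) ((TensorProduct.comm A T.X₁ S) x) = 0
    rw [hcomm, LinearEquiv.map_eq_zero_iff]
  let e3 : LinearMap.ker (LinearMap.rTensor S T.f.hom) ≃ₗ[A]
      LinearMap.ker (LinearMap.lTensor S T.f.hom) :=
    (LinearEquiv.ofEq _ _ hk).trans (LinearEquiv.ofSubmodule' (TensorProduct.comm A T.X₁ S) _)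
  exact ⟨e1.toLinearEquiv.trans (e2.trans e3)⟩

section ses

variable {S : ShortComplex (DRing.Cx A)} (hS : S.ShortExact)

include hS in
lemma homology_shortExact (hg : ∀ j, Function.Surjective (homologyMap S.g j)) (j : ℤ) :
    (ShortComplex.mk (homologyMap S.f j) (homologyMap S.g j)
      (by rw [← homologyMap_comp, S.zero, homologyMap_zero])).ShortExact :=
  ShortComplex.ShortExact.mk' (hS.homology_exact₂ j)
    ((ModuleCat.mono_iff_injective _).2 (homologyMap_f_injective hS hg j))
    ((ModuleCat.epi_iff_surjective _).2 (hg j))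

end ses

section step

variable (L : DRing.Cx A) {M' F M : DRing.Cx A} (ι : M' ⟶ F) (φ : F ⟶ M) (w : ι ≫ φ = 0)
  (hS : (ShortComplex.mk ι φ w).ShortExact) (hφ : ∀ j, Function.Surjective (homologyMap φ j))
  (hflat : ∀ j, Module.Flat A (F.homology j))

include hS hφ hflat

lemma torSum_shift (n : ℤ) (p : ℕ) :
    Nonempty (HTor.TorSum L M' (n + 1) (p + 1) ≃ₗ[A] HTor.TorSum L M n (p + 1 + 1)) := by
  refine nonempty_dsum_equiv (P₁ := fun x => x.1 + x.2 - ((p + 1 : ℕ) : ℤ) = n + 1)
    (P₂ := fun x => x.1 + x.2 - ((p + 1 + 1 : ℕ) : ℤ) = n)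
    (fun x => by omega)
    (fun x => DRing.Tor A (p + 1) (L.homology x.1) (M'.homology x.2))
    (fun x => DRing.Tor A (p + 1 + 1) (L.homology x.1) (M.homology x.2)) (fun x _ => ?_)
  have hz : ∀ j, homologyMap ι j ≫ homologyMap φ j = 0 := fun j => by
    rw [← homologyMap_comp, w, homologyMap_zero]
  haveI : Module.Flat A ((ShortComplex.mk (homologyMap ι x.2) (homologyMap φ x.2)
      (hz x.2)).X₂) := hflat x.2
  obtain ⟨e⟩ := nonempty_tor_shift_right
    (ShortComplex.mk (homologyMap ι x.2) (homologyMap φ x.2) (hz x.2))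
    (homology_shortExact hS hφ x.2) (L.homology x.1) (p + 1)
    (isZero_tor_succ_of_flat_right _ _ (p + 1)) (isZero_tor_succ_of_flat_right _ _ p)
  exact ⟨e.toLinearEquiv.symm⟩

lemma exists_theta (n : ℤ) :
    ∃ θ₀ : HTor.TorSum L M n (0 + 1) →ₗ[A] HTor.KunnethSum L M' (n + 1),
      ∀ v, Kfun L ι (n + 1) v = 0 → v ∈ LinearMap.range θ₀ := by
  have hz : ∀ j, homologyMap ι j ≫ homologyMap φ j = 0 := fun j => by
    rw [← homologyMap_comp, w, homologyMap_zero]
  have hτ : ∀ x : ℤ × ℤ, Nonempty (DRing.Tor A (0 + 1) (L.homology x.1) (M.homology x.2) ≃ₗ[A]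
      LinearMap.ker (LinearMap.lTensor (L.homology x.1) (homologyMap ι x.2).hom)) := fun x => by
    haveI : Module.Flat A ((ShortComplex.mk (homologyMap ι x.2) (homologyMap φ x.2)
      (hz x.2)).X₂) := hflat x.2
    exact nonempty_tor_one_equiv_ker_lTensor
      (ShortComplex.mk (homologyMap ι x.2) (homologyMap φ x.2) (hz x.2))
      (homology_shortExact hS hφ x.2) (L.homology x.1)
  obtain ⟨e⟩ := nonempty_dsum_equiv (A := A) (P₁ := fun x => x.1 + x.2 - ((0 + 1 : ℕ) : ℤ) = n)
    (P₂ := fun x => x.1 + x.2 = n + 1) (fun x => by omega)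
    (fun x => DRing.Tor A (0 + 1) (L.homology x.1) (M.homology x.2))
    (fun x => LinearMap.ker (LinearMap.lTensor (L.homology x.1) (homologyMap ι x.2).hom))
    (fun x _ => hτ x)
  refine ⟨(DirectSum.lmap (fun ij : HTor.Antidiag (n + 1) =>
    (LinearMap.ker (LinearMap.lTensor (L.homology ij.1.1)
      (homologyMap ι ij.1.2).hom)).subtype)) ∘ₗ e.toLinearMap, ?_⟩
  intro v hv
  rw [LinearMap.range_comp_of_range_eq_top _ (LinearEquiv.range e), DirectSum.range_lmap,
    Submodule.mem_comap, Submodule.mem_pi]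
  intro ij _
  change v ij ∈ LinearMap.range (Submodule.subtype _)
  rw [Submodule.range_subtype, LinearMap.mem_ker]
  have := DFunLike.congr_fun hv ij
  exact this

end step

/-! ### the filtration -/

theorem kunneth_filtration_aux (L : DRing.Cx A) (hL : DRing.TermwiseFlat L) (bL bM : ℤ)
    (hbL : DRing.VanishesAbove L bL) (k : ℕ) :
    ∀ (n : ℤ), bL + bM < n + k → ∀ (M : DRing.Cx A), DRing.VanishesAbove M bM →
      ∃ (N : ℕ) (Fil : ℕ → Submodule A ((HTor.tensorCx L M).homology n)),
        Fil 0 = LinearMap.range (kmap L M n) ∧ Monotone Fil ∧ Fil N = ⊤ ∧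
        ∀ p : ℕ, HTor.IsSubquotient A (HTor.grSucc Fil p) (HTor.TorSum L M n (p + 1)) := by
  induction k with
  | zero =>
    intro n hn M hM
    haveI := subsingleton_homology_of_large L M bL bM hbL hM n (by simpa using hn)
    refine ⟨0, fun _ => ⊤, Subsingleton.elim _ _, fun _ _ _ => le_rfl, rfl, fun p => ?_⟩
    refine ⟨⊥, ⊥, le_rfl, ⟨?_⟩⟩
    exact LinearEquiv.ofSubsingleton _ _
  | succ k ih =>
    intro n hn M hM
    obtain ⟨F, M', ι, φ, w, hS, hF, hM', hφ, hflat, hKF⟩ := exists_cover M bM hM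
    have hT := tensor_shortExact L ι φ w hL hS
    obtain ⟨N', Fil', h0', hmono', htop', hgr'⟩ :=
      ih (n + 1) (by push_cast at hn ⊢; omega) M' hM'
    let δ : (HTor.tensorCx L M).homology n →ₗ[A] (HTor.tensorCx L M').homology (n + 1) :=
      (hT.δ n (n + 1) rfl).hom
    have hKn := hKF L n (kmap L F n) (isKunnethMap_kmap _ _ _)
    have hKn1 := hKF L (n + 1) (kmap L F (n + 1)) (isKunnethMap_kmap _ _ _)
    have hker : LinearMap.range (kmap L M n) = LinearMap.ker δ := by
      apply le_antisymm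
      · rintro _ ⟨x, rfl⟩
        obtain ⟨x', rfl⟩ := Kfun_surjective L φ n hφ x
        rw [LinearMap.mem_ker, ← kunneth_natural L φ n (kmap L F n) (kmap L M n)
          (isKunnethMap_kmap _ _ _) (isKunnethMap_kmap _ _ _)]
        exact les_comp_δ hT n (n + 1) rfl _
      · intro y hy
        obtain ⟨y', hy'⟩ := les_exact₃ hT n (n + 1) rfl y hy
        obtain ⟨x', hx'⟩ := hKn.2 y'
        refine ⟨Kfun L φ n x', ?_⟩
        rw [← kunneth_natural L φ n (kmap L F n) (kmap L M n)
          (isKunnethMap_kmap _ _ _) (isKunnethMap_kmap _ _ _), hx']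
        exact hy'
    let Fil : ℕ → Submodule A ((HTor.tensorCx L M).homology n) := fun k =>
      Nat.rec (LinearMap.range (kmap L M n)) (fun p _ => Submodule.comap δ (Fil' p)) k
    have hFil0 : Fil 0 = LinearMap.range (kmap L M n) := rfl
    have hFilS : ∀ p, Fil (p + 1) = Submodule.comap δ (Fil' p) := fun p => rfl
    refine ⟨N' + 1, Fil, rfl, ?_, ?_, ?_⟩
    · refine monotone_nat_of_le_succ (fun p => ?_)
      cases p with
      | zero =>
        rw [hFil0, hFilS, hker]
        intro x hx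
        rw [Submodule.mem_comap, LinearMap.mem_ker.1 hx]
        exact Submodule.zero_mem _
      | succ p =>
        rw [hFilS, hFilS]
        exact Submodule.comap_mono (hmono' (Nat.le_succ p))
    · rw [hFilS, htop', Submodule.comap_top]
    · intro p
      cases p with
      | zero =>
        obtain ⟨θ₀, hθ₀⟩ := exists_theta L ι φ w hS hφ hflat n
        let W : Submodule A ((HTor.tensorCx L M').homology (n + 1)) :=
          LinearMap.range (kmap L M' (n + 1) ∘ₗ θ₀)
        let g : ↥(Fil (0 + 1)) →ₗ[A] (HTor.tensorCx L M').homology (n + 1) :=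
          δ ∘ₗ (Fil (0 + 1)).subtype
        have hgW : ∀ x, g x ∈ W := by
          intro x
          have hx : δ x.1 ∈ Fil' 0 := x.2
          rw [h0'] at hx
          obtain ⟨v, hv⟩ := hx
          have h1 : homologyMap (L ◁ ι) (n + 1) (δ x.1) = 0 := les_δ_comp hT n (n + 1) rfl x.1
          rw [← hv, kunneth_natural L ι (n + 1) _ (kmap L F (n + 1)) (isKunnethMap_kmap _ _ _)
            (isKunnethMap_kmap _ _ _)] at h1
          have h2 : Kfun L ι (n + 1) v = 0 := hKn1.1 (h1.trans (map_zero _).symm)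
          obtain ⟨t, ht⟩ := hθ₀ v h2
          refine ⟨t, ?_⟩
          change kmap L M' (n + 1) (θ₀ t) = δ x.1
          rw [ht]
          exact hv
        let g' : ↥(Fil (0 + 1)) →ₗ[A] W := LinearMap.codRestrict W g hgW
        have hg' : Submodule.comap (Fil (0 + 1)).subtype (Fil 0) = LinearMap.ker g' := by
          rw [LinearMap.ker_codRestrict]
          ext x
          rw [LinearMap.mem_ker, Submodule.mem_comap, hFil0, hker, LinearMap.mem_ker]
          rfl
        have hW : HTor.IsSubquotient A W (HTor.TorSum L M n (0 + 1)) :=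
          isSubquotient_of_surjective (LinearMap.rangeRestrict (kmap L M' (n + 1) ∘ₗ θ₀))
            (LinearMap.surjective_rangeRestrict _)
        exact isSubquotient_of_injective (Submodule.liftQ _ g' (le_of_eq hg'))
          (liftQ_injective _ g' hg') hW
      | succ p =>
        let g : ↥(Fil (p + 1 + 1)) →ₗ[A] HTor.grSucc Fil' p :=
          (Submodule.comap (Fil' (p + 1)).subtype (Fil' p)).mkQ ∘ₗ
            (δ.restrict (p := Fil (p + 1 + 1)) (q := Fil' (p + 1)) (fun x hx => hx))
        have hg : Submodule.comap (Fil (p + 1 + 1)).subtype (Fil (p + 1)) = LinearMap.ker g := by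
          ext x
          rw [LinearMap.mem_ker, Submodule.mem_comap]
          change _ ↔ (Submodule.Quotient.mk _ : _ ⧸ _) = 0
          rw [Submodule.Quotient.mk_eq_zero, Submodule.mem_comap]
          rfl
        obtain ⟨e⟩ := torSum_shift L ι φ w hS hφ hflat n p
        exact isSubquotient_of_injective (Submodule.liftQ _ g (le_of_eq hg))
          (liftQ_injective _ g hg) (isSubquotient_congr e (hgr' p))

theorem kunneth_filtration (L M : DRing.Cx A) (hL : DRing.TermwiseFlat L) (bL bM : ℤ)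
    (hbL : DRing.VanishesAbove L bL) (hbM : DRing.VanishesAbove M bM) (n : ℤ) :
    ∃ (N : ℕ) (Fil : ℕ → Submodule A ((HTor.tensorCx L M).homology n)),
      Fil 0 = LinearMap.range (kmap L M n) ∧ Monotone Fil ∧ Fil N = ⊤ ∧
      ∀ p : ℕ, HTor.IsSubquotient A (HTor.grSucc Fil p) (HTor.TorSum L M n (p + 1)) :=
  kunneth_filtration_aux L hL bL bM hbL (Int.toNat (bL + bM - n) + 1) n (by
    have := Int.self_le_toNat (bL + bM - n)
    push_cast
    omega) M hbM

end Groth.Agent.H4.Kun6
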