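import Mathlib
import Groth.Agent.H4.LC2
import Groth.Agent.H4.FB4

set_option autoImplicit false
universe u
open CategoryTheory Category Limits Pretriangulated

namespace Groth.Agent.H4.LC3

attribute [local instance] HasDerivedCategory.standard

open DRing DerivedCategory Groth.Agent.H4.FB2 Groth.Agent.H4.FB3 Groth.Agent.H4.FB6
  Groth.Agent.H4.RD Groth.Agent.H4.LC1 Groth.Agent.H4.LC2

variable (A B : Type u) [CommRing A] [CommRing B] [Algebra A B] [IsNoetherianRing A]
  [IsNoetherianRing B]

/-- base change along an lci map preserves dualizing complexes -/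
theorem isDualizing_LBaseChange_of_isLCI (hl : LCI.IsLCI A B)
    [DRing.HasLBaseChange (algebraMap A B)] (K : Dual.D A) (hK : Dual.IsDualizing A K) :
    Dual.IsDualizing B ((DRing.LBaseChange (algebraMap A B)).obj K) := by
  obtain ⟨-, n, f, hf, hreg⟩ := hl
  have hP : Dual.IsDualizing (MvPolynomial (Fin n) A) ((E A (MvPolynomial (Fin n) A)).obj K) :=
    Groth.Agent.H4.US21.isDualizing_E_mvPolynomial A n K hK
  haveI : DRing.HasLBaseChange f.toRingHom := Groth.Agent.H4.KProj.hasLBaseChange _
  have hcomp : algebraMap A B = f.toRingHom.comp (algebraMap A (MvPolynomial (Fin n) A)) := by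
    ext a
    exact (f.commutes a).symm
  let e : E A (MvPolynomial (Fin n) A) ⋙ DRing.LBaseChange f.toRingHom ≅
      DRing.LBaseChange (algebraMap A B) :=
    (((adjE A (MvPolynomial (Fin n) A)).comp
      (Groth.Agent.H4.KProj.adjLBaseChange f.toRingHom)).ofNatIsoRight
        (restrictDCompIso (algebraMap A (MvPolynomial (Fin n) A)) f.toRingHom
          (algebraMap A B) hcomp).symm).leftAdjointUniq
      (Groth.Agent.H4.KProj.adjLBaseChange (algebraMap A B))
  refine isDualizing_of_local _ (fun q => ?_)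
  let 𝔭 : PrimeSpectrum (MvPolynomial (Fin n) A) :=
    ⟨q.asIdeal.comap f.toRingHom, Ideal.comap_isPrime _ _⟩
  have hle : RingHom.ker f.toRingHom ≤ 𝔭.asIdeal := by
    intro x hx
    change f.toRingHom x ∈ q.asIdeal
    rw [RingHom.mem_ker.1 hx]
    exact zero_mem _
  obtain ⟨g, hg, l, hl', hspan⟩ := hreg 𝔭 hle
  refine ⟨f.toRingHom g, hg, ?_⟩
  have h1 := isDualizing_local (MvPolynomial (Fin n) A) B f.toRingHom hf
    (Groth.Agent.H4.KProj.adjLBaseChange f.toRingHom) g l hl' hspan _ hP
  exact isDualizing_of_iso ((E B (Localization.Away (f.toRingHom g))).mapIso (e.app K)) h1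

end Groth.Agent.H4.LC3
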