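import Mathlib
import Groth.Agent.H4.LCT3
set_option autoImplicit false
universe u
open CategoryTheory CategoryTheory.Limits MonoidalCategory CategoryTheory.Pretriangulated
open scoped TensorProduct

namespace Groth.Agent.H4.LCT4

attribute [local instance] HasDerivedCategory.standard

open DerivedCategory DRing Groth.Agent.H4.LDer Groth.Agent.H4.PC Groth.Agent.H4.BC Groth.Agent.H4.TV
  Groth.Agent.H4.DNak1 Groth.Agent.H4.DNak2 Groth.Agent.H4.DNak3 Groth.Agent.H4.LCT1
  Groth.Agent.H4.LCT2 Groth.Agent.H4.LCT3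

theorem main (A B : Type u) [CommRing A] [CommRing B] [Algebra A B] [Module.Flat A B] (I : Ideal A)
    (hI : I.FG)
    (hs : Function.Surjective ((Ideal.Quotient.mk (I.map (algebraMap A B))).comp (algebraMap A B)))
    (hk : RingHom.ker ((Ideal.Quotient.mk (I.map (algebraMap A B))).comp (algebraMap A B)) = I)
    (M N : Type u) [AddCommGroup M] [Module A M] [AddCommGroup N] [Module A N]
    (hM : LocCoh.IsPowerTorsion I M) (i : ℤ) :
    Nonempty ((Dual.inD A M ⟶ (Dual.inD A N)⟦i⟧) ≃+
      (Dual.inD B (B ⊗[A] M) ⟶ (Dual.inD B (B ⊗[A] N))⟦i⟧)) := by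
  classical
  obtain ⟨s, hs'⟩ := hI
  let fs := s.toList
  have hspan : Ideal.span {x | x ∈ fs} = I := (span_toList s).trans hs'
  let N' : ModuleCat.{u} A := ModuleCat.of A N
  let H := tensorRight N'
  let sg := HomologicalComplex.single (ModuleCat.{u} A) (ComplexShape.up ℤ) 0
  let ιm : ModuleCat.of A A ⟶ ModuleCat.of A B := ModuleCat.ofHom (Algebra.linearMap A B)
  let D : Cx A := CochainComplex.mappingCone (sg.map ιm)
  have hflD : ∀ j, Module.Flat A (D.X j) := fun j =>
    Groth.Agent.H4.TC9.flat_mappingCone_X (sg.map ιm)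
      (fun j => flat_single_X (ModuleCat.of A A) j) (fun j => flat_single_X (ModuleCat.of A B) j) j
  have hZ : Z (fun K => IsZero K) D (Ideal.span {x | x ∈ fs}) := by
    intro T hT
    rw [hspan] at hT
    have hbij : Function.Bijective ((Algebra.linearMap A B).rTensor T) :=
      bijective_rTensor I hs hk T hT
    haveI h1 : IsIso (ιm ▷ T) := (ConcreteCategory.isIso_iff_bijective _).2 hbij
    haveI h2 : IsIso ((tensorRight T ⋙ sg).map ιm) := by
      rw [Functor.comp_map]
      haveI : IsIso ((tensorRight T).map ιm) := h1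
      infer_instance
    haveI h3 : IsIso ((GC (tensorRight T)).map (sg.map ιm)) :=
      (NatIso.isIso_map_iff (HomologicalComplex.singleMapHomologicalComplex (tensorRight T)
        (ComplexShape.up ℤ) 0) ιm).2 h2
    have e := CochainComplex.mappingCone.mapHomologicalComplexIso (sg.map ιm) (tensorRight T)
    refine IsZero.of_iso ?_ (Q.mapIso e)
    refine (Triangle.isZero₃_iff_isIso₁ _
      (DerivedCategory.mappingCone_triangle_distinguished _)).2 ?_
    exact (Q.mapIso (asIso ((GC (tensorRight T)).map (sg.map ιm)))).isIso_hom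
  have hKz := Kz_XN fs D hflD hZ N'
  have hO : Orth (Dual.inD A M) (XN D N') := by
    apply orth_inD_of_powerTorsion I M hM
    intro n
    apply orth_of_Kz _ fs _ _ hKz
    intro f hf
    exact ⟨n, nil_inD I M n f (by rw [← hspan]; exact Ideal.subset_span hf)⟩
  let u := (GC H).map (sg.map ιm)
  have hT := DerivedCategory.mappingCone_triangle_distinguished u
  have e3 : XN D N' ≅ Q.obj (CochainComplex.mappingCone u) :=
    Q.mapIso (CochainComplex.mappingCone.mapHomologicalComplexIso (sg.map ιm) H)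
  have hO' : Orth (Dual.inD A M)
      (Q.mapTriangle.obj (CochainComplex.mappingCone.triangle u)).obj₃ := hO.of_iso e3
  have hbij := bijective_of_orth _ hT hO' i
  let X₁ := Q.obj ((GC H).obj (sg.obj (ModuleCat.of A A)))
  let X₂ := Q.obj ((GC H).obj (sg.obj (ModuleCat.of A B)))
  let Eq12 : (Dual.inD A M ⟶ X₁⟦i⟧) ≃+ (Dual.inD A M ⟶ X₂⟦i⟧) :=
    AddEquiv.ofBijective (AddMonoidHom.mk' (fun ψ => ψ ≫ (Q.map u)⟦i⟧')
      (fun a b => Preadditive.add_comp _ _ _ _ _ _)) hbij
  let σ := HomologicalComplex.singleMapHomologicalComplex H (ComplexShape.up ℤ) 0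
  let e₁ : X₁ ≅ Dual.inD A N :=
    Q.mapIso (σ.app (ModuleCat.of A A)) ≪≫
      ((singleFunctorIsoCompQ (ModuleCat.{u} A) 0).app _).symm ≪≫
      (DerivedCategory.singleFunctor (ModuleCat.{u} A) 0).mapIso (λ_ N')
  let e₂ : X₂ ≅ (DRing.restrictD (algebraMap A B)).obj (Dual.inD B (B ⊗[A] N)) :=
    Q.mapIso (σ.app (ModuleCat.of A B)) ≪≫
      ((singleFunctorIsoCompQ (ModuleCat.{u} A) 0).app _).symm ≪≫
      (DerivedCategory.singleFunctor (ModuleCat.{u} A) 0).mapIso (resIso (A := A) (B := B) N).symm ≪≫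
      (Groth.Agent.H4.PCHom.restrictDSingle (algebraMap A B) (ModuleCat.of B (B ⊗[A] N))).symm
  haveI := Groth.Agent.H4.KProj.hasLBaseChange (algebraMap A B)
  obtain ⟨ebc⟩ := nonempty_iso_inD (A := A) (B := B) M
  let adj := Groth.Agent.H4.KProj.adjLBaseChange (algebraMap A B)
  haveI : (DRing.LBaseChange (algebraMap A B)).Additive := adj.left_adjoint_additive
  let Y := Dual.inD B (B ⊗[A] N)
  exact ⟨(postAdd ((shiftFunctor _ i).mapIso e₁.symm)).trans <| Eq12.trans <|
    (postAdd ((shiftFunctor _ i).mapIso e₂)).trans <|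
    (postAdd (((DRing.restrictD (algebraMap A B)).commShiftIso i).app Y).symm).trans <|
    (adj.homAddEquiv (Dual.inD A M) (Y⟦i⟧)).symm.trans <| preAdd ebc⟩

end Groth.Agent.H4.LCT4
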