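import Mathlib
import Groth.Prelude.Def_DualLC
import Groth.Agent.Lib.Helper6.MatlisComplete

set_option autoImplicit false
universe u v
open InjHull

namespace Groth.Agent.H4.LD13

variable {A : Type u} [CommRing A] [IsLocalRing A] [IsNoetherianRing A]
  {E : Type u} [AddCommGroup E] [Module A E]
  {f : (A ⧸ IsLocalRing.maximalIdeal A) →ₗ[A] E}

local notation "𝔪" => IsLocalRing.maximalIdeal A

variable (N : Type u) [AddCommGroup N] [Module A N]

/-- the quotient `N / 𝔪^k N` -/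
abbrev Qk (k : ℕ) : Type u := N ⧸ ((𝔪 ^ k : Ideal A) • (⊤ : Submodule A N))

/-- bidual of a linear map -/
def bidualMap {P P' : Type*} [AddCommGroup P] [Module A P] [AddCommGroup P'] [Module A P']
    (E : Type*) [AddCommGroup E] [Module A E] (g : P →ₗ[A] P') :
    ((P →ₗ[A] E) →ₗ[A] E) →ₗ[A] ((P' →ₗ[A] E) →ₗ[A] E) :=
  LinearMap.lcomp A E (LinearMap.lcomp A E g)

lemma bidualMap_apply {P P' : Type*} [AddCommGroup P] [Module A P] [AddCommGroup P'] [Module A P']
    (E : Type*) [AddCommGroup E] [Module A E] (g : P →ₗ[A] P')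
    (ξ : (P →ₗ[A] E) →ₗ[A] E) (χ : P' →ₗ[A] E) : bidualMap E g ξ χ = ξ (χ ∘ₗ g) := rfl

variable [Module.Finite A N]

lemma isFiniteLength_Qk (k : ℕ) : IsFiniteLength A (Qk (A := A) N k) := by
  obtain ⟨n, π, hπ⟩ := Module.Finite.exists_fin' A N
  -- `(A/𝔪^k)^n → N/𝔪^k N`
  have h1 : IsFiniteLength A (Fin n → A ⧸ (𝔪 ^ k : Ideal A)) := by
    have := Groth.Agent.H6.IH.isFiniteLength_quot_pow (R := A) k
    rw [isFiniteLength_iff_isNoetherian_isArtinian] at this ⊢
    obtain ⟨h1, h2⟩ := this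
    exact ⟨inferInstance, inferInstance⟩
  let q : (Fin n → A) →ₗ[A] (Fin n → A ⧸ (𝔪 ^ k : Ideal A)) :=
    LinearMap.pi (fun i => (Submodule.mkQ (𝔪 ^ k : Ideal A)) ∘ₗ LinearMap.proj i)
  have hq : Function.Surjective q := by
    intro y
    choose z hz using fun i => Submodule.Quotient.mk_surjective _ (y i)
    exact ⟨z, funext hz⟩
  let g : (Fin n → A) →ₗ[A] Qk (A := A) N k := (Submodule.mkQ _) ∘ₗ π
  have hg : Function.Surjective g := (Submodule.mkQ_surjective _).comp hπ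
  have hker : LinearMap.ker q ≤ LinearMap.ker g := by
    intro z hz
    rw [LinearMap.mem_ker] at hz ⊢
    have hz' : ∀ i, z i ∈ (𝔪 ^ k : Ideal A) := by
      intro i
      have := congrFun hz i
      exact (Submodule.Quotient.mk_eq_zero _).1 this
    change Submodule.Quotient.mk (π z) = 0
    rw [Submodule.Quotient.mk_eq_zero]
    have hzsum : z = ∑ i, z i • (Pi.single i (1 : A) : Fin n → A) := by
      ext j
      simp [Finset.sum_apply, Pi.single_apply]
    rw [hzsum, map_sum]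
    refine Submodule.sum_mem _ (fun i _ => ?_)
    rw [map_smul]
    exact Submodule.smul_mem_smul (hz' i) Submodule.mem_top
  let g' : (Fin n → A ⧸ (𝔪 ^ k : Ideal A)) →ₗ[A] Qk (A := A) N k :=
    ((LinearMap.ker q).liftQ g hker) ∘ₗ (q.quotKerEquivOfSurjective hq).symm.toLinearMap
  have hg' : Function.Surjective g' := by
    intro y
    obtain ⟨z, rfl⟩ := hg y
    refine ⟨q z, ?_⟩
    change ((LinearMap.ker q).liftQ g hker) ((q.quotKerEquivOfSurjective hq).symm (q z)) = g z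
    have : (q.quotKerEquivOfSurjective hq).symm (q z) = Submodule.Quotient.mk z := by
      apply (q.quotKerEquivOfSurjective hq).injective
      rw [LinearEquiv.apply_symm_apply]
      rfl
    rw [this]
    rfl
  exact IsFiniteLength.of_surjective (f := g') h1 hg'

variable (hf : IsInjectiveHull f)

/-- evaluation iso for `N/𝔪^k N` -/
noncomputable def evk (k : ℕ) : Qk (A := A) N k ≃ₗ[A] ((Qk (A := A) N k →ₗ[A] E) →ₗ[A] E) :=
  LinearEquiv.ofBijective _
    (Groth.Agent.H6.IH.eval_bijective_of_finiteLength hf (Qk (A := A) N k) (isFiniteLength_Qk N k))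

lemma evk_apply (k : ℕ) (x : Qk (A := A) N k) (χ : Qk (A := A) N k →ₗ[A] E) :
    evk N hf k x χ = χ x := rfl

/-- the components of the comparison map -/
noncomputable def phik (k : ℕ) : ((N →ₗ[A] E) →ₗ[A] E) →ₗ[A] Qk (A := A) N k :=
  (evk N hf k).symm.toLinearMap ∘ₗ
    bidualMap E (Submodule.mkQ ((𝔪 ^ k : Ideal A) • (⊤ : Submodule A N)))

lemma phik_spec (k : ℕ) (ξ : (N →ₗ[A] E) →ₗ[A] E) (χ : Qk (A := A) N k →ₗ[A] E) :
    χ (phik N hf k ξ) = ξ (χ ∘ₗ Submodule.mkQ _) := by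
  have h : evk N hf k (phik N hf k ξ) = bidualMap E (Submodule.mkQ _) ξ :=
    (evk N hf k).apply_symm_apply _
  have := LinearMap.congr_fun h χ
  rw [evk_apply, bidualMap_apply] at this
  exact this

include hf in
lemma eq_of_forall_apply_eq (k : ℕ) (x y : Qk (A := A) N k)
    (h : ∀ χ : Qk (A := A) N k →ₗ[A] E, χ x = χ y) : x = y := by
  apply (evk N hf k).injective
  apply LinearMap.ext
  intro χ
  exact h χ

/-- the comparison map `N^∨∨ → N^` -/
noncomputable def Phi : ((N →ₗ[A] E) →ₗ[A] E) →ₗ[A] AdicCompletion 𝔪 N :=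
  AdicCompletion.lift 𝔪 (phik N hf) (by
    intro m n hmn
    apply LinearMap.ext
    intro ξ
    apply eq_of_forall_apply_eq N hf
    intro χ
    rw [LinearMap.comp_apply, phik_spec]
    have := phik_spec N hf n ξ (χ ∘ₗ AdicCompletion.transitionMap 𝔪 N hmn)
    rw [LinearMap.comp_apply] at this
    rw [this]
    congr 1)

lemma Phi_val (ξ : (N →ₗ[A] E) →ₗ[A] E) (k : ℕ) : (Phi N hf ξ).val k = phik N hf k ξ := rfl

include hf in
lemma exists_pow_le_ker (ψ : N →ₗ[A] E) :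
    ∃ k : ℕ, ((𝔪 ^ k : Ideal A) • (⊤ : Submodule A N)) ≤ LinearMap.ker ψ := by
  obtain ⟨S, hS⟩ := (Module.Finite.fg_top : (⊤ : Submodule A N).FG)
  have hpt := Groth.Agent.H6.IH.powerTorsion_of_hull (IsLocalRing.maximalIdeal A) hf
  choose ks hks using fun s : N => hpt (ψ s)
  refine ⟨S.sup ks, ?_⟩
  let K : Submodule A N :=
    (Submodule.torsionBySet A E ((𝔪 ^ (S.sup ks) : Ideal A) : Set A)).comap ψ
  have hSK : (S : Set N) ⊆ K := by
    intro s hs
    change ψ s ∈ Submodule.torsionBySet A E _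
    rw [Submodule.mem_torsionBySet_iff]
    rintro ⟨a, ha⟩
    exact hks s a (Ideal.pow_le_pow_right (Finset.le_sup hs) ha)
  have hK : (⊤ : Submodule A N) ≤ K := by
    rw [← hS]
    exact Submodule.span_le.2 hSK
  rw [Submodule.smul_le]
  intro a ha n _
  rw [LinearMap.mem_ker, map_smul]
  have hn : ψ n ∈ Submodule.torsionBySet A E ((𝔪 ^ (S.sup ks) : Ideal A) : Set A) := hK trivial
  exact (Submodule.mem_torsionBySet_iff _ _).1 hn ⟨a, ha⟩

include hf in
lemma Phi_injective : Function.Injective (Phi N hf) := by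
  rw [← LinearMap.ker_eq_bot, LinearMap.ker_eq_bot']
  intro ξ hξ
  apply LinearMap.ext
  intro ψ
  obtain ⟨k, hk⟩ := exists_pow_le_ker N hf ψ
  have h1 : phik N hf k ξ = 0 := by
    rw [← Phi_val, hξ]
    rfl
  have h2 := phik_spec N hf k ξ (Submodule.liftQ _ ψ hk)
  rw [h1, map_zero] at h2
  rw [LinearMap.zero_apply, h2]
  congr 1

section Pairing

variable (ν : AdicCompletion (IsLocalRing.maximalIdeal A) N)

lemma liftQ_val_eq (ψ : N →ₗ[A] E) {k k' : ℕ} (hkk' : k ≤ k')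
    (h : ((𝔪 ^ k : Ideal A) • (⊤ : Submodule A N)) ≤ LinearMap.ker ψ)
    (h' : ((𝔪 ^ k' : Ideal A) • (⊤ : Submodule A N)) ≤ LinearMap.ker ψ) :
    (Submodule.liftQ _ ψ h') (ν.val k') = (Submodule.liftQ _ ψ h) (ν.val k) := by
  rw [← ν.property hkk']
  obtain ⟨n, hn⟩ := Submodule.Quotient.mk_surjective _ (ν.val k')
  rw [← hn]
  rfl

lemma liftQ_val_eq' (ψ : N →ₗ[A] E) {k k' : ℕ}
    (h : ((𝔪 ^ k : Ideal A) • (⊤ : Submodule A N)) ≤ LinearMap.ker ψ)
    (h' : ((𝔪 ^ k' : Ideal A) • (⊤ : Submodule A N)) ≤ LinearMap.ker ψ) :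
    (Submodule.liftQ _ ψ h') (ν.val k') = (Submodule.liftQ _ ψ h) (ν.val k) := by
  have hm : ((𝔪 ^ (max k k') : Ideal A) • (⊤ : Submodule A N)) ≤ LinearMap.ker ψ :=
    le_trans (Submodule.smul_mono_left (Ideal.pow_le_pow_right (le_max_left _ _))) h
  rw [← liftQ_val_eq N ν ψ (le_max_left k k') h hm, ← liftQ_val_eq N ν ψ (le_max_right k k') h' hm]

/-- the pairing of `ν ∈ N^` with `ψ ∈ N^∨` -/
noncomputable def pairing (ψ : N →ₗ[A] E) : E :=
  (Submodule.liftQ _ ψ (exists_pow_le_ker N hf ψ).choose_spec)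
    (ν.val (exists_pow_le_ker N hf ψ).choose)

lemma pairing_eq (ψ : N →ₗ[A] E) (k : ℕ)
    (h : ((𝔪 ^ k : Ideal A) • (⊤ : Submodule A N)) ≤ LinearMap.ker ψ) :
    pairing N hf ν ψ = (Submodule.liftQ _ ψ h) (ν.val k) :=
  liftQ_val_eq' N ν ψ h _

/-- the functional on `N^∨` defined by `ν ∈ N^` -/
noncomputable def pairingLin : (N →ₗ[A] E) →ₗ[A] E where
  toFun := pairing N hf ν
  map_add' ψ ψ' := by
    obtain ⟨k₁, h₁⟩ := exists_pow_le_ker N hf ψ
    obtain ⟨k₂, h₂⟩ := exists_pow_le_ker N hf ψ'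
    obtain ⟨k, hk1, hk2⟩ : ∃ k, k₁ ≤ k ∧ k₂ ≤ k := ⟨max k₁ k₂, le_max_left _ _, le_max_right _ _⟩
    have g₁ : ((𝔪 ^ k : Ideal A) • (⊤ : Submodule A N)) ≤ LinearMap.ker ψ :=
      le_trans (Submodule.smul_mono_left (Ideal.pow_le_pow_right hk1)) h₁
    have g₂ : ((𝔪 ^ k : Ideal A) • (⊤ : Submodule A N)) ≤ LinearMap.ker ψ' :=
      le_trans (Submodule.smul_mono_left (Ideal.pow_le_pow_right hk2)) h₂
    have g₃ : ((𝔪 ^ k : Ideal A) • (⊤ : Submodule A N)) ≤ LinearMap.ker (ψ + ψ') := by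
      intro n hn
      rw [LinearMap.mem_ker, LinearMap.add_apply, LinearMap.mem_ker.1 (g₁ hn),
        LinearMap.mem_ker.1 (g₂ hn), add_zero]
    rw [pairing_eq N hf ν ψ k g₁, pairing_eq N hf ν ψ' k g₂, pairing_eq N hf ν (ψ + ψ') k g₃]
    obtain ⟨n, hn⟩ := Submodule.Quotient.mk_surjective _ (ν.val k)
    rw [← hn]
    rfl
  map_smul' a ψ := by
    obtain ⟨k, g₁⟩ := exists_pow_le_ker N hf ψ
    have g₃ : ((𝔪 ^ k : Ideal A) • (⊤ : Submodule A N)) ≤ LinearMap.ker (a • ψ) := by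
      intro n hn
      rw [LinearMap.mem_ker, LinearMap.smul_apply, LinearMap.mem_ker.1 (g₁ hn), smul_zero]
    rw [pairing_eq N hf ν ψ k g₁, pairing_eq N hf ν (a • ψ) k g₃]
    obtain ⟨n, hn⟩ := Submodule.Quotient.mk_surjective _ (ν.val k)
    rw [← hn]
    rfl

lemma Phi_pairingLin : Phi N hf (pairingLin N hf ν) = ν := by
  apply AdicCompletion.ext
  intro k
  rw [Phi_val]
  apply eq_of_forall_apply_eq N hf
  intro χ
  rw [phik_spec]
  change pairing N hf ν (χ ∘ₗ Submodule.mkQ _) = χ (ν.val k)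
  have h : ((𝔪 ^ k : Ideal A) • (⊤ : Submodule A N)) ≤
      LinearMap.ker (χ ∘ₗ Submodule.mkQ ((𝔪 ^ k : Ideal A) • (⊤ : Submodule A N))) := by
    intro n hn
    rw [LinearMap.mem_ker, LinearMap.comp_apply, Submodule.mkQ_apply,
      (Submodule.Quotient.mk_eq_zero _).2 hn, map_zero]
  rw [pairing_eq N hf ν _ k h]
  obtain ⟨n, hn⟩ := Submodule.Quotient.mk_surjective _ (ν.val k)
  rw [← hn]
  rfl

end Pairing

include hf in
/-- **Matlis duality**: the bidual of a finite module over a Noetherian local ring is its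
completion. -/
theorem nonempty_bidual_equiv_completion :
    Nonempty (((N →ₗ[A] E) →ₗ[A] E) ≃ₗ[A] AdicCompletion 𝔪 N) :=
  ⟨LinearEquiv.ofBijective (Phi N hf)
    ⟨Phi_injective N hf, fun ν => ⟨pairingLin N hf ν, Phi_pairingLin N hf ν⟩⟩⟩

end Groth.Agent.H4.LD13
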