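import Mathlib
import Groth.Prelude.Def_DualLC
import Groth.Agent.H4.LD12
import Groth.Agent.H4.LD13

set_option autoImplicit false
universe u v
open CategoryTheory Category Limits Pretriangulated Opposite ZeroObject

namespace Groth.Agent.H4.LD14

attribute [local instance] HasDerivedCategory.standard

open DerivedCategory

variable {A : Type u} [CommRing A] [IsLocalRing A] [IsNoetherianRing A]

/-- Matlis bidual = completion, any universe -/
theorem nonempty_completion_equiv_bidual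
    (E : Type u) [AddCommGroup E] [Module A E]
    (f : IsLocalRing.ResidueField A →ₗ[A] E) (hf : InjHull.IsInjectiveHull f)
    (N : Type v) [AddCommGroup N] [Module A N] [Module.Finite A N] :
    Nonempty (AdicCompletion (IsLocalRing.maximalIdeal A) N ≃ₗ[A] ((N →ₗ[A] E) →ₗ[A] E)) := by
  obtain ⟨N', _, _, _, ⟨e0⟩⟩ := Groth.Agent.H4.LD12.exists_small_model (A := A) N
  obtain ⟨e1⟩ := Groth.Agent.H4.LD13.nonempty_bidual_equiv_completion N' hf
  let e2 : AdicCompletion (IsLocalRing.maximalIdeal A) N ≃ₗ[A]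
      AdicCompletion (IsLocalRing.maximalIdeal A) N' :=
    (AdicCompletion.congr (IsLocalRing.maximalIdeal A) e0.symm).restrictScalars A
  exact ⟨e2 ≪≫ₗ e1.symm ≪≫ₗ
    LinearEquiv.arrowCongr (LinearEquiv.arrowCongr e0 (LinearEquiv.refl A E)) (LinearEquiv.refl A E)⟩

variable {ω : Dual.D A} (hn : Dual.IsNormalized A ω) (hω : Dual.IsDualizing A ω)

include hn hω in
theorem S11176 (E : Type u) [AddCommGroup E] [Module A E]
    (f : IsLocalRing.ResidueField A →ₗ[A] E) (hf : InjHull.IsInjectiveHull f)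
    (M : Type u) [AddCommGroup M] [Module A M] [Module.Finite A M] (i : ℕ) :
    Nonempty (AdicCompletion (IsLocalRing.maximalIdeal A) (Dual.inD A M ⟶ ω⟦(-(i : ℤ))⟧) ≃ₗ[A]
      (LocCoh.H (IsLocalRing.maximalIdeal A) i M →ₗ[A] E)) := by
  obtain ⟨e⟩ := Groth.Agent.H4.LD10.S11172 hn hω E f hf M i
  haveI := Groth.Agent.H4.LD12.finite_hom_shift hω (Dual.inD A M)
    (Groth.Agent.H4.LD1.finite_HD_inD M) (-(i : ℤ))
  obtain ⟨e1⟩ := nonempty_completion_equiv_bidual E f hf (Dual.inD A M ⟶ ω⟦(-(i : ℤ))⟧)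
  exact ⟨e1 ≪≫ₗ (LinearEquiv.arrowCongr e (LinearEquiv.refl A E)).symm⟩

end Groth.Agent.H4.LD14
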