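import Mathlib
import Groth.Prelude.Def_DualLC
import Groth.Prelude.Def_DTen3
import Groth.Agent.H4.GM6
import Groth.Agent.H4.HC6
import Groth.Agent.H4.US6
import Groth.Agent.H4.DZ4

set_option autoImplicit false
universe u
open CategoryTheory Category Limits Pretriangulated Opposite ZeroObject

namespace Groth.Agent.H4.LDD1

attribute [local instance] HasDerivedCategory.standard
attribute [local instance] Groth.Agent.H4.LK4.hasLTen Groth.Agent.H4.LK5.hasLTen₃
  Groth.Agent.H4.KI7.isSymMonoidal Groth.Agent.H4.KI6.hasRHom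

open DRing DTen DerivedCategory Groth.Agent.H4.DComp Groth.Agent.H4.DCompl1 Groth.Agent.H4.DCompl2
  Groth.Agent.H4.DThick Groth.Agent.H4.ProjAmp Groth.Agent.H4.DCompl3 Groth.Agent.H4.DCompl4
  Groth.Agent.H4.GM3 Groth.Agent.H4.GM4 Groth.Agent.H4.GM1 Groth.Agent.H4.GM5 Groth.Agent.H4.GM6
  Groth.Agent.H4.HC6 Groth.Agent.H4.US6 Groth.Agent.H4.CF1 Groth.Agent.H4.EV5
  Groth.Agent.H4.DZ2

variable {A : Type u} [CommRing A]

attribute [local instance] hasRgammaI

/-- `RHom(-, L)` preserves `f`-invertibility. -/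
lemma FInv_RHom (f : A) (X L : Dual.D A) (hX : FInv f X) : FInv f ((RHomR A X).obj L) := by
  unfold FInv
  rw [← RHomMap_smul_id]
  haveI : IsIso (f • 𝟙 X) := hX
  exact (RHomIso (asIso (f • 𝟙 X)) L).isIso_hom

lemma isZero_RHom_of_isZero (Z L : Dual.D A) (hZ : IsZero Z) : IsZero ((RHomR A Z).obj L) := by
  rw [IsZero.iff_id_eq_zero, ← RHomMap_id]
  have h0 : 𝟙 Z = (0 : A) • 𝟙 Z := by
    rw [zero_smul]
    exact hZ.eq_of_src _ _
  rw [h0, RHomMap_smul_id, zero_smul]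

/-- `RΓ_I C = 0 ⇒ RΓ_I RHom(C, L) = 0`. -/
theorem isZero_rgamma_RHom [IsNoetherianRing A] (I : Ideal A) (L C : Dual.D A)
    (h : IsZero ((DRing.RgammaI I).obj C)) :
    IsZero ((DRing.RgammaI I).obj ((RHomR A C).obj L)) := by
  obtain ⟨s, hs⟩ := (IsNoetherian.noetherian I : I.FG)
  subst hs
  refine tors_induction
    (fun C => IsZero ((DRing.RgammaI (Ideal.span (s : Set A))).obj ((RHomR A C).obj L)))
    ?_ ?_ s ?_ C h
  · intro Z hZ
    exact isZero_rgamma_of_isZero _ (isZero_RHom_of_isZero Z L hZ)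
  · intro T hT h1 h3
    obtain ⟨w, hw⟩ := cpl_RHomMap T hT L
    exact isZero_rgamma_obj₂ _ _ hw h3 h1
  · intro f hf X hX
    exact isZero_rgamma_of_FInv _ f (Ideal.subset_span hf) _ (FInv_RHom f X L hX)

/-- `RHom(T, L)` is derived complete when `T` is torsion. -/
theorem isDerivedComplete_RHom_of_torsion [IsNoetherianRing A] (I : Ideal A) (T L : Dual.D A)
    (hT : IsIso ((DRing.RgammaIε I).app T)) : IsDerivedComplete I ((RHomR A T).obj L) := by
  rw [isDerivedComplete_iff_LO]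
  intro f hf n
  set X : Dual.D A := (Fo f)⟦n⟧ with hX
  have hXinv : FInv f X := (FInv_Fo f).shift n
  have hZ : IsZero ((DRing.RgammaI I).obj ((RHomR A X).obj L)) :=
    isZero_rgamma_of_FInv I f hf _ (FInv_RHom f X L hXinv)
  haveI : Subsingleton (T ⟶ (RHomR A X).obj L) :=
    ⟨fun a b => (hom_eq_zero_of_torsion I T _ hT hZ a).trans
      (hom_eq_zero_of_torsion I T _ hT hZ b).symm⟩
  haveI := Groth.Agent.H4.LK4.isIso_symm_app T X
  let e1 : (X ⟶ (RHomR A T).obj L) ≃ ((tensorRightD A T).obj X ⟶ L) :=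
    ((rhomAdj A T).homEquiv X L).symm
  let e2 : ((tensorRightD A T).obj X ⟶ L) ≃ ((tensorRightD A X).obj T ⟶ L) :=
    (asIso ((DTen.symm A).app (T, X))).homCongr (Iso.refl L)
  let e3 : ((tensorRightD A X).obj T ⟶ L) ≃ (T ⟶ (RHomR A X).obj L) :=
    (rhomAdj A X).homEquiv T L
  exact ((e1.trans e2).trans e3).subsingleton


lemma isIso_eps_rgamma [IsNoetherianRing A] (I : Ideal A) (K : Dual.D A) :
    IsIso ((DRing.RgammaIε I).app ((DRing.RgammaI I).obj K)) :=
  Groth.Agent.H4.RG10.S1813 I _ (fun i => Groth.Agent.H4.RG11.isPowerTorsion_HD_Rgamma I K i)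

/-- `RHom(T, RΓ_I Y) ≅ RHom(T, Y)` for torsion `T`. -/
theorem isIso_RHom_map_eps [IsNoetherianRing A] (I : Ideal A) (T Y : Dual.D A)
    (hT : IsIso ((DRing.RgammaIε I).app T)) :
    IsIso ((RHomR A T).map ((DRing.RgammaIε I).app Y)) := by
  obtain ⟨C, b, c, hC⟩ := distinguished_cocone_triangle ((DRing.RgammaIε I).app Y)
  have hCz : IsZero ((DRing.RgammaI I).obj C) :=
    (isIso_map_mor₁_iff I _ hC).1 (Groth.Agent.H4.RG11.isIso_map_eps I Y)
  obtain ⟨w, hw⟩ := (good_RHomR T).cpl _ hC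
  have hz : IsZero ((RHomR A T).obj C) := by
    apply Groth.Agent.H4.DZ4.isZero_of_forall_subsingleton_HD
    intro i
    obtain ⟨e⟩ := nonempty_extLinEquiv T C i
    have hCi := isZero_rgamma_shift I C i hCz
    haveI : Subsingleton (T ⟶ C⟦i⟧) :=
      ⟨fun a b => (hom_eq_zero_of_torsion I T _ hT hCi a).trans
        (hom_eq_zero_of_torsion I T _ hT hCi b).symm⟩
    exact e.toEquiv.subsingleton
  exact (Triangle.isZero₃_iff_isIso₁ _ hw).1 hz

/-- **`RHom(K, L)^∧ ≅ RHom(RΓ_I K, L)`.** -/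
theorem nonempty_completion_RHom_iso [IsNoetherianRing A] (I : Ideal A)
    [DRing.HasDerivedCompletion I] (K L : Dual.D A) :
    Nonempty (((derivedCompletion I).obj ((RHomR A K).obj L)).obj ≅
      (RHomR A ((DRing.RgammaI I).obj K)).obj L) := by
  have hT := isIso_eps_rgamma I K
  obtain ⟨C, b, c, hC⟩ := distinguished_cocone_triangle ((DRing.RgammaIε I).app K)
  have hCz : IsZero ((DRing.RgammaI I).obj C) :=
    (isIso_map_mor₁_iff I _ hC).1 (Groth.Agent.H4.RG11.isIso_map_eps I K)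
  obtain ⟨w, hw⟩ := cpl_RHomMap _ hC L
  have hW : IsZero ((DRing.RgammaI I).obj ((RHomR A C).obj L)) := isZero_rgamma_RHom I L C hCz
  obtain ⟨s, hs⟩ := (IsNoetherian.noetherian I : I.FG)
  subst hs
  have hWl : LOrth (Ideal.span (s : Set A)) ((RHomR A C).obj L) :=
    (isZero_rgamma_iff_lorth s _).1 hW
  have hWl1 : LOrth (Ideal.span (s : Set A)) (((RHomR A C).obj L)⟦(1 : ℤ)⟧) := LOrth.shift hWl 1
  refine Groth.Agent.H4.DCompl6.nonempty_iso_of_universal _ _ _
    (RHomMap ((DRing.RgammaIε (Ideal.span (s : Set A))).app K) L)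
    (isDerivedComplete_RHom_of_torsion _ _ L hT) ?_
  intro C' hC'
  constructor
  · intro ψ ψ' hψ
    have h1 : RHomMap ((DRing.RgammaIε (Ideal.span (s : Set A))).app K) L ≫ (ψ - ψ') = 0 := by
      rw [Preadditive.comp_sub]
      exact sub_eq_zero.2 hψ
    obtain ⟨ψ'', hψ''⟩ := Triangle.yoneda_exact₃ _ hw (ψ - ψ') h1
    have h2 : ψ'' = 0 := hWl1 C' hC' ψ''
    rw [h2] at hψ''
    exact sub_eq_zero.1 (hψ''.trans comp_zero)
  · intro χ
    have h1 : RHomMap b L ≫ χ = 0 := hWl C' hC' _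
    obtain ⟨ψ, hψ⟩ := Triangle.yoneda_exact₂ _ hw χ h1
    exact ⟨ψ, hψ.symm⟩

end Groth.Agent.H4.LDD1
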