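import Mathlib
import Groth.Prelude.Def_DualLC
import Groth.Prelude.Def_DTen3
import Groth.Agent.H4.LDD1
import Groth.Agent.H4.LD4
import Groth.Agent.H4.KI6
import Groth.Agent.H4.US25

set_option autoImplicit false
universe u
open CategoryTheory Category Limits Pretriangulated Opposite ZeroObject

namespace Groth.Agent.H4.LDD2

attribute [local instance] HasDerivedCategory.standard
attribute [local instance] Groth.Agent.H4.LK4.hasLTen Groth.Agent.H4.LK5.hasLTen₃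
  Groth.Agent.H4.KI7.isSymMonoidal Groth.Agent.H4.KI6.hasRHom

open DRing DTen DerivedCategory Groth.Agent.H4.LDD1 Groth.Agent.H4.HC6

variable {A : Type u} [CommRing A] [IsLocalRing A] [IsNoetherianRing A]
  {ω : Dual.D A} (hn : Dual.IsNormalized A ω) (hω : Dual.IsDualizing A ω)
  (E : Type u) [AddCommGroup E] [Module A E]
  (f : IsLocalRing.ResidueField A →ₗ[A] E) (hf : InjHull.IsInjectiveHull f)

local notation "𝔪" => IsLocalRing.maximalIdeal A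

include hn hω hf

/-- `RΓ_𝔪 ω ≅ E[0]`. -/
theorem nonempty_rgamma_omega_iso [DRing.HasRgammaI 𝔪] :
    Nonempty ((DRing.RgammaI 𝔪).obj ω ≅ Dual.inD A E) := by
  obtain ⟨⟨e0⟩, h⟩ := Groth.Agent.H4.LD4.S1718 hn hω E f hf
  obtain ⟨e1⟩ := Groth.Agent.H4.RG3.S1812 𝔪 ω 0
  refine Groth.Agent.H4.US25.nonempty_iso_inD_of_HD _ E (fun j hj => ?_) (e1 ≪≫ₗ e0)
  obtain ⟨e2⟩ := Groth.Agent.H4.RG3.S1812 𝔪 ω j
  haveI := h j hj
  exact e2.toEquiv.subsingleton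

/-- **S1818** -/
theorem S1818 [DRing.HasRgammaI 𝔪] [DRing.HasDerivedCompletion 𝔪]
    (K : DRing.Cx A) [DRing.HasRHomCx K] (G : DRing.Cx A) [DRing.HasRHomCx G]
    (hG : Nonempty (DRing.toD G ≅ (DRing.RgammaI 𝔪).obj (DRing.toD K))) :
    Nonempty (((DRing.derivedCompletion 𝔪).obj ((DRing.RHomCx K).obj ω)).obj ≅
      (DRing.RHomCx G).obj (Dual.inD A E)) := by
  obtain ⟨eG⟩ := hG
  obtain ⟨eω⟩ := nonempty_rgamma_omega_iso hn hω E f hf
  obtain ⟨e1⟩ := nonempty_completion_RHom_iso 𝔪 (DRing.toD K) ω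
  have hT := isIso_eps_rgamma 𝔪 (DRing.toD K)
  haveI := isIso_RHom_map_eps 𝔪 ((DRing.RgammaI 𝔪).obj (DRing.toD K)) ω hT
  let T := (DRing.RgammaI 𝔪).obj (DRing.toD K)
  let e0 : ((DRing.derivedCompletion 𝔪).obj ((DRing.RHomCx K).obj ω)).obj ≅
      ((DRing.derivedCompletion 𝔪).obj ((RHomR A (DRing.toD K)).obj ω)).obj :=
    (ObjectProperty.ι (IsDerivedComplete 𝔪)).mapIso ((DRing.derivedCompletion 𝔪).mapIso
      ((Groth.Agent.H4.KI6.rhomCxIsoRHomR K).app ω))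
  let e2 : (RHomR A T).obj ω ≅ (RHomR A T).obj ((DRing.RgammaI 𝔪).obj ω) :=
    (asIso ((RHomR A T).map ((DRing.RgammaIε 𝔪).app ω))).symm
  let e3 : (RHomR A T).obj ((DRing.RgammaI 𝔪).obj ω) ≅ (RHomR A T).obj (Dual.inD A E) :=
    (RHomR A T).mapIso eω
  let e4 : (RHomR A T).obj (Dual.inD A E) ≅ (RHomR A (DRing.toD G)).obj (Dual.inD A E) :=
    RHomIso eG (Dual.inD A E)
  let e5 : (RHomR A (DRing.toD G)).obj (Dual.inD A E) ≅ (DRing.RHomCx G).obj (Dual.inD A E) :=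
    ((Groth.Agent.H4.KI6.rhomCxIsoRHomR G).app (Dual.inD A E)).symm
  exact ⟨e0 ≪≫ e1 ≪≫ e2 ≪≫ e3 ≪≫ e4 ≪≫ e5⟩

end Groth.Agent.H4.LDD2
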