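import Mathlib
import Groth.Prelude.Def_DTor2
import Groth.Agent.H4.LDS9
import Groth.Agent.H4.LDS11
set_option autoImplicit false

/-!
# `- ⊗^L G` on schemes and distinguished triangles
-/

namespace Groth.Agent.H4.LDS12

open CategoryTheory Limits Category Pretriangulated HomologicalComplex AlgebraicGeometry
open Groth.Agent.H4.GK1

universe u

attribute [local instance] HasDerivedCategory.standard

variable {X : Scheme.{u}}

theorem exists_distTriang_LTensorMod (G : X.Modules) [DCoh.HasLTensorMod G]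
    (T : Triangle (DCoh.D X)) (hT : T ∈ distTriang _) :
    ∃ (T' : Triangle (DCoh.D X)) (_ : T' ∈ distTriang _)
      (e₁ : T'.obj₁ ≅ (DCoh.LTensorMod G).obj T.obj₁) (e₂ : T'.obj₂ ≅ (DCoh.LTensorMod G).obj T.obj₂)
      (e₃ : T'.obj₃ ≅ (DCoh.LTensorMod G).obj T.obj₃),
      T'.mor₁ ≫ e₂.hom = e₁.hom ≫ (DCoh.LTensorMod G).map T.mor₁ ∧
      T'.mor₂ ≫ e₃.hom = e₂.hom ≫ (DCoh.LTensorMod G).map T.mor₂ :=
  Groth.Agent.H4.LDS11.exists_distTriang_LG (DCoh.tensorRightMod G)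
    (Groth.Agent.H4.LDS4.adm_kflat (DCoh.tensorBi (X := X))) Groth.Agent.H4.LDS6.hresX
    (fun E hE hac => Groth.Agent.H4.LDS6.acyclic_tensorRightMod G E hE hac) T hT

/-- vanishing of `H^i(K ⊗^L G)` -/
def HV (G : X.Modules) [DCoh.HasLTensorMod G] (K : DCoh.D X) (i : ℤ) : Prop :=
  IsZero (DCoh.HD ((DCoh.LTensorMod G).obj K) i)

theorem HV_obj₃ (G : X.Modules) [DCoh.HasLTensorMod G] (T : Triangle (DCoh.D X))
    (hT : T ∈ distTriang _) (i : ℤ) (h₂ : HV G T.obj₂ i) (h₁ : HV G T.obj₁ (i + 1)) :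
    HV G T.obj₃ i :=
  Groth.Agent.H4.LDS11.HV_obj₃ (DCoh.tensorRightMod G)
    (Groth.Agent.H4.LDS4.adm_kflat (DCoh.tensorBi (X := X))) Groth.Agent.H4.LDS6.hresX
    (fun E hE hac => Groth.Agent.H4.LDS6.acyclic_tensorRightMod G E hE hac) T hT i h₂ h₁

theorem HV_obj₂ (G : X.Modules) [DCoh.HasLTensorMod G] (T : Triangle (DCoh.D X))
    (hT : T ∈ distTriang _) (i : ℤ) (h₁ : HV G T.obj₁ i) (h₃ : HV G T.obj₃ i) :
    HV G T.obj₂ i :=
  Groth.Agent.H4.LDS11.HV_obj₂ (DCoh.tensorRightMod G)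
    (Groth.Agent.H4.LDS4.adm_kflat (DCoh.tensorBi (X := X))) Groth.Agent.H4.LDS6.hresX
    (fun E hE hac => Groth.Agent.H4.LDS6.acyclic_tensorRightMod G E hE hac) T hT i h₁ h₃

theorem HV_obj₁ (G : X.Modules) [DCoh.HasLTensorMod G] (T : Triangle (DCoh.D X))
    (hT : T ∈ distTriang _) (i : ℤ) (h₃ : HV G T.obj₃ (i - 1)) (h₂ : HV G T.obj₂ i) :
    HV G T.obj₁ i :=
  Groth.Agent.H4.LDS11.HV_obj₁ (DCoh.tensorRightMod G)
    (Groth.Agent.H4.LDS4.adm_kflat (DCoh.tensorBi (X := X))) Groth.Agent.H4.LDS6.hresX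
    (fun E hE hac => Groth.Agent.H4.LDS6.acyclic_tensorRightMod G E hE hac) T hT i h₃ h₂

/-- **S0963** -/
theorem torAmplitude_triangle (T : Triangle (DCoh.D X)) (hT : T ∈ distTriang _) (a b : ℤ) :
    (DCoh.HasFlatAmplitudeIn (a + 1) (b + 1) T.obj₁ → DCoh.HasFlatAmplitudeIn a b T.obj₂ →
      DCoh.HasTorAmplitudeIn a b T.obj₃) ∧
    (DCoh.HasFlatAmplitudeIn a b T.obj₁ → DCoh.HasFlatAmplitudeIn a b T.obj₃ →
      DCoh.HasTorAmplitudeIn a b T.obj₂) ∧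
    (DCoh.HasFlatAmplitudeIn (a + 1) (b + 1) T.obj₂ → DCoh.HasFlatAmplitudeIn a b T.obj₃ →
      DCoh.HasTorAmplitudeIn (a + 1) (b + 1) T.obj₁) := by
  refine ⟨fun h1 h2 => ?_, fun h1 h3 => ?_, fun h2 h3 => ?_⟩
  · have h1' := Groth.Agent.H4.LDS7.hasTorAmplitudeIn_of_hasFlatAmplitudeIn _ _ _ h1
    have h2' := Groth.Agent.H4.LDS7.hasTorAmplitudeIn_of_hasFlatAmplitudeIn _ _ _ h2
    intro G _ i hi
    exact HV_obj₃ G T hT i (h2' G i hi) (h1' G (i + 1) (by omega))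
  · have h1' := Groth.Agent.H4.LDS7.hasTorAmplitudeIn_of_hasFlatAmplitudeIn _ _ _ h1
    have h3' := Groth.Agent.H4.LDS7.hasTorAmplitudeIn_of_hasFlatAmplitudeIn _ _ _ h3
    intro G _ i hi
    exact HV_obj₂ G T hT i (h1' G i hi) (h3' G i hi)
  · have h2' := Groth.Agent.H4.LDS7.hasTorAmplitudeIn_of_hasFlatAmplitudeIn _ _ _ h2
    have h3' := Groth.Agent.H4.LDS7.hasTorAmplitudeIn_of_hasFlatAmplitudeIn _ _ _ h3
    intro G _ i hi
    exact HV_obj₁ G T hT i (h3' G (i - 1) (by omega)) (h2' G i hi)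

end Groth.Agent.H4.LDS12
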