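import Mathlib
set_option autoImplicit false

/-!
# Derived functors along a composite of localization functors
-/

namespace Groth.Agent.H4.LDS13

open CategoryTheory Limits Category Functor

variable {C₀ C D H : Type*} [Category C₀] [Category C] [Category D] [Category H]
  (q : C₀ ⥤ C) (W₀ : MorphismProperty C₀) [q.IsLocalization W₀]
  (L : C ⥤ D) (F : C ⥤ H) (F' : D ⥤ H) (α : L ⋙ F' ⟶ F)

/-- the extension of `q ⋙ F` along `q ⋙ L` induced by an extension of `F` along `L` -/
abbrev precompα : (q ⋙ L) ⋙ F' ⟶ q ⋙ F := (Functor.associator q L F').hom ≫ whiskerLeft q α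

include W₀ in
theorem existsUnique_lift [F'.IsRightKanExtension α] (G' : D ⥤ H)
    (β₀ : (q ⋙ L) ⋙ G' ⟶ q ⋙ F) :
    ∃! γ : G' ⟶ F', ∀ X : C₀, γ.app (L.obj (q.obj X)) ≫ α.app (q.obj X) = β₀.app X := by
  let τ : q ⋙ (L ⋙ G') ⟶ q ⋙ F := (Functor.associator q L G').inv ≫ β₀
  let β : L ⋙ G' ⟶ F := Localization.liftNatTrans q W₀ _ _ _ _ τ
  have h2 : ∀ X, β.app (q.obj X) = β₀.app X := by
    intro X
    simp [β, τ, Localization.liftNatTrans_app]
  refine ⟨F'.liftOfIsRightKanExtension α G' β, fun X => ?_, fun γ hγ => ?_⟩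
  · exact (F'.liftOfIsRightKanExtension_fac_app α G' β (q.obj X)).trans (h2 X)
  · apply F'.hom_ext_of_isRightKanExtension α
    apply Localization.natTrans_ext q W₀
    intro X
    have h1 := F'.liftOfIsRightKanExtension_fac_app α G' β (q.obj X)
    simp only [NatTrans.comp_app, whiskerLeft_app, comp_obj]
    exact (hγ X).trans ((h1.trans (h2 X)).symm)

include W₀ in
theorem isRightKanExtension_precomp [F'.IsRightKanExtension α] :
    F'.IsRightKanExtension (precompα q L F F' α) := by
  have key : ∀ (E : RightExtension (q ⋙ L) (q ⋙ F)) (γ : E.left ⟶ F'),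
      (((whiskeringLeft C₀ D H).obj (q ⋙ L)).map γ ≫ precompα q L F F' α = E.hom) ↔
        ∀ X : C₀, γ.app (L.obj (q.obj X)) ≫ α.app (q.obj X) = E.hom.app X := by
    intro E γ
    constructor
    · intro h X
      have := congr_app h X
      simpa using this
    · intro h
      ext X
      simpa using h X
  refine ⟨⟨IsTerminal.ofUniqueHom (fun E => ?_) (fun E m => ?_)⟩⟩
  · obtain ⟨hγ, -⟩ := (existsUnique_lift q W₀ L F F' α E.left E.hom).choose_spec
    exact CostructuredArrow.homMk (existsUnique_lift q W₀ L F F' α E.left E.hom).choose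
      ((key E _).2 hγ)
  · apply CostructuredArrow.hom_ext
    obtain ⟨-, huniq⟩ := (existsUnique_lift q W₀ L F F' α E.left E.hom).choose_spec
    exact huniq m.left ((key E m.left).1 (CostructuredArrow.w m))

include W₀ in
theorem isLeftDerivedFunctor_precomp (W : MorphismProperty C) (W' : MorphismProperty C₀)
    [L.IsLocalization W] [(q ⋙ L).IsLocalization W'] [F'.IsLeftDerivedFunctor α W] :
    F'.IsLeftDerivedFunctor (precompα q L F F' α) W' := by
  haveI := Functor.IsLeftDerivedFunctor.isRightKanExtension F' α W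
  exact ⟨isRightKanExtension_precomp q W₀ L F F' α⟩

include W₀ in
theorem hasLeftDerivedFunctor_precomp (W : MorphismProperty C) (W' : MorphismProperty C₀)
    [L.IsLocalization W] [(q ⋙ L).IsLocalization W'] [F.HasLeftDerivedFunctor W] :
    (q ⋙ F).HasLeftDerivedFunctor W' := by
  haveI := isLeftDerivedFunctor_precomp q W₀ L F (F.totalLeftDerived L W)
    (F.totalLeftDerivedCounit L W) W W'
  exact Functor.HasLeftDerivedFunctor.mk' (F.totalLeftDerived L W)
    (precompα q L F (F.totalLeftDerived L W) (F.totalLeftDerivedCounit L W))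

end Groth.Agent.H4.LDS13
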