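import Mathlib
import Groth.Agent.H4.FAmp8
import Groth.Prelude.Def_DerSch

set_option autoImplicit false
universe u
attribute [local instance] HasDerivedCategory.standard
open CategoryTheory CategoryTheory.Limits AlgebraicGeometry Groth.Agent.LD.QC DerivedCategory
open Groth.Agent.H1.CohLen Groth.Agent.H1.SchFlat
open Groth.Agent.H4.PSch1 Groth.Agent.H4.PSch2 Groth.Agent.H4.PSch3 Groth.Agent.H4.PSch4
open Groth.Agent.H4.PSch5 Groth.Agent.H4.PCS6 Groth.Agent.H4.FAmp2 Groth.Agent.H4.FAmp3
open Groth.Agent.H4.FAmp7 Groth.Agent.H4.FAmp8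

namespace Groth.Agent.H4.LFP1

variable {X : Scheme.{u}}

/-- the stalk of the free module of rank `n` has rank `n` -/
theorem finrank_stalk_freeMod (n : ℕ) (x : X) :
    Module.finrank (X.presheaf.stalk x) ((FlatMod.freeMod X n).presheaf.stalk x) = n := by
  obtain ⟨U, hU, hxU, -⟩ := exists_isAffineOpen_mem_and_subset (x := x) (U := ⊤) trivial
  obtain ⟨ℓ⟩ := freeMod_sections_equiv (X := X) hU n
  let F := FlatMod.freeMod X n
  haveI : F.IsQuasicoherent := qc_of_isFinLocFree F (isFinLocFree_freeMod X n)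
  letI := stalkΓModule F x U hxU
  haveI := isLocalizedModule_germ F hU x hxU
  letI : Algebra Γ(X, U) (X.presheaf.stalk x) :=
    TopCat.Presheaf.algebra_section_stalk X.presheaf ⟨x, hxU⟩
  haveI := hU.isLocalization_stalk ⟨x, hxU⟩
  haveI : IsScalarTower Γ(X, U) (X.presheaf.stalk x) (F.presheaf.stalk x) :=
    IsScalarTower.of_algebraMap_smul fun r m => rfl
  haveI : Module.Free Γ(X, U) Γ(F, U) := Module.Free.of_equiv ℓ.symm
  have h1 := Module.finrank_of_isLocalizedModule_of_free (X.presheaf.stalk x)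
    (hU.primeIdealOf ⟨x, hxU⟩).asIdeal.primeCompl (germLinear F x U hxU)
  rw [h1, ℓ.finrank_eq]
  haveI : Nontrivial Γ(X, U) := (algebraMap Γ(X, U) (X.presheaf.stalk x)).domain_nontrivial
  exact Module.finrank_fin_fun _

/-- a module which is free of rank `n` near `x` has a stalk of rank `n` at `x` -/
theorem finrank_stalk_of_restrict_iso_freeMod (F : X.Modules) (V : X.Opens) (n : ℕ)
    (e : F.restrict V.ι ≅ FlatMod.freeMod (↑V) n) (x : X) (hx : x ∈ V) :
    Module.finrank (X.presheaf.stalk x) (F.presheaf.stalk x) = n := by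
  let y : (V : Scheme.{u}) := ⟨x, hx⟩
  have h1 : Module.finrank ((V : Scheme.{u}).presheaf.stalk y)
      ((F.restrict V.ι).presheaf.stalk y) = n := by
    rw [← finrank_stalk_freeMod (X := (V : Scheme.{u})) n y]
    exact (((DerSch.stalkFunctor (V : Scheme.{u}) y).mapIso e).toLinearEquiv).finrank_eq
  have h2 := rank_eq_of_equiv_equiv (stalkRingEquiv V.ι y) (stalkRestrictAddEquiv V.ι F y)
    (stalkRingEquiv V.ι y).bijective (stalkRestrictAddEquiv_smul V.ι F y)
  have h3 : Module.finrank (X.presheaf.stalk x) (F.presheaf.stalk x) =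
      Module.finrank ((V : Scheme.{u}).presheaf.stalk y) ((F.restrict V.ι).presheaf.stalk y) := by
    unfold Module.finrank
    exact congrArg Cardinal.toNat h2.symm
  rw [h3, h1]

/-- stalks of a finite locally free module of rank `r` -/
theorem stalk_of_isFinLocFreeOfRank (r : ℕ) (F : X.Modules) (hF : FlatMod.IsFinLocFreeOfRank r F)
    (x : X) :
    Module.Free (X.presheaf.stalk x) (F.presheaf.stalk x) ∧
      Module.Finite (X.presheaf.stalk x) (F.presheaf.stalk x) ∧
      Module.finrank (X.presheaf.stalk x) (F.presheaf.stalk x) = r := by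
  obtain ⟨V, hxV, ⟨e⟩⟩ := hF x
  obtain ⟨h1, h2⟩ := free_finite_stalk_of_lfAt F x ⟨V, r, hxV, ⟨e⟩⟩
  exact ⟨h1, h2, finrank_stalk_of_restrict_iso_freeMod F V r e x hxV⟩

end Groth.Agent.H4.LFP1
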