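import Mathlib

set_option autoImplicit false
universe u
open TensorProduct IsLocalRing

namespace Groth.Agent.H4.MinCx

variable {R : Type u} [CommRing R] [IsLocalRing R]

section one

variable {M N : Type u} [AddCommGroup M] [Module R M] [AddCommGroup N] [Module R N]

lemma surjective_of_lTensor_surjective [Module.Finite R N] (f : M →ₗ[R] N)
    (h : Function.Surjective (f.lTensor (ResidueField R))) : Function.Surjective f := by
  rw [← LinearMap.range_eq_top, ← IsLocalRing.map_tensorProduct_mk_eq_top (R := R), eq_top_iff]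
  rintro y -
  obtain ⟨z, rfl⟩ := h y
  obtain ⟨x, rfl⟩ := TensorProduct.mk_surjective R M (ResidueField R) Ideal.Quotient.mk_surjective z
  exact ⟨f x, ⟨x, rfl⟩, by simp⟩

lemma injective_of_lTensor_injective [Module.Finite R M] [Module.Finite R N] [Module.Free R N]
    (f : M →ₗ[R] N) (h : Function.Injective (f.lTensor (ResidueField R))) :
    Function.Injective f := by
  obtain ⟨l, hl⟩ := (IsLocalRing.split_injective_iff_lTensor_residueField_injective f).2 h
  exact Function.HasLeftInverse.injective ⟨l, LinearMap.congr_fun hl⟩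

lemma bijective_of_lTensor_bijective [Module.Finite R M] [Module.Finite R N] [Module.Free R N]
    (f : M →ₗ[R] N) (h : Function.Bijective (f.lTensor (ResidueField R))) :
    Function.Bijective f :=
  ⟨injective_of_lTensor_injective f h.1, surjective_of_lTensor_surjective f h.2⟩

/-- lifting a basis of the image of `f ⊗ κ`. -/
lemma exists_lift_range [Module.Finite R N] (f : M →ₗ[R] N) :
    ∃ (r : ℕ) (γ : (Fin r → R) →ₗ[R] M),
      Function.Injective ((f ∘ₗ γ).lTensor (ResidueField R)) ∧
      ∀ y, ∃ z, (f.lTensor (ResidueField R)) y = ((f ∘ₗ γ).lTensor (ResidueField R)) z := by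
  classical
  let V : Submodule (ResidueField R) (ResidueField R ⊗[R] N) :=
    LinearMap.range (f.baseChange (ResidueField R))
  haveI : Module.Free (ResidueField R) V := Module.Free.of_divisionRing (ResidueField R) V
  let r := Module.finrank (ResidueField R) V
  let b : Module.Basis (Fin r) (ResidueField R) V := Module.finBasis (ResidueField R) V
  have hv : ∀ j, ∃ v, f.baseChange (ResidueField R) v = (b j : ResidueField R ⊗[R] N) :=
    fun j => (b j).2
  choose v hv using hv
  have hx : ∀ j, ∃ x : M, TensorProduct.mk R (ResidueField R) M 1 x = v j := fun j =>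
    TensorProduct.mk_surjective R M (ResidueField R) Ideal.Quotient.mk_surjective (v j)
  choose x hx using hx
  let γ : (Fin r → R) →ₗ[R] M := (Pi.basisFun R (Fin r)).constr R x
  have hγ : ∀ j, γ (Pi.single j 1) = x j := by
    intro j
    have := (Pi.basisFun R (Fin r)).constr_basis R x j
    rwa [Pi.basisFun_apply] at this
  let B' : Module.Basis (Fin r) (ResidueField R) (ResidueField R ⊗[R] (Fin r → R)) :=
    (Pi.basisFun R (Fin r)).baseChange (ResidueField R)
  let g := (f ∘ₗ γ).baseChange (ResidueField R)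
  have hg : g = V.subtype ∘ₗ (B'.equiv b (Equiv.refl _)).toLinearMap := by
    refine B'.ext (fun j => ?_)
    rw [LinearMap.comp_apply, LinearEquiv.coe_coe, Module.Basis.equiv_apply, Equiv.refl_apply,
      Submodule.subtype_apply, ← hv j, ← hx j]
    change g ((Pi.basisFun R (Fin r)).baseChange (ResidueField R) j) = _
    rw [Module.Basis.baseChange_apply, Pi.basisFun_apply]
    change (1 : ResidueField R) ⊗ₜ[R] (f (γ (Pi.single j 1))) = _
    rw [hγ]
    rfl
  have hgl : ∀ z, g z = ((f ∘ₗ γ).lTensor (ResidueField R)) z := fun z => rfl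
  refine ⟨r, γ, ?_, ?_⟩
  · intro z z' hzz
    rw [← hgl, ← hgl, hg] at hzz
    exact (B'.equiv b (Equiv.refl _)).injective (Subtype.val_injective hzz)
  · intro y
    have hy : (f.lTensor (ResidueField R)) y ∈ V := ⟨y, rfl⟩
    obtain ⟨z, hz⟩ := (B'.equiv b (Equiv.refl _)).surjective ⟨_, hy⟩
    refine ⟨z, ?_⟩
    rw [← hgl, hg, LinearMap.comp_apply, LinearEquiv.coe_coe, hz]
    rfl

end one


section family

variable (X : ℤ → Type u) [∀ i, AddCommGroup (X i)] [∀ i, Module R (X i)]
  [∀ i, Module.Finite R (X i)] [∀ i, Module.Free R (X i)]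
  (d : ∀ i j, X i →ₗ[R] X j) (hshape : ∀ i j, i + 1 ≠ j → d i j = 0)
  (hd : ∀ i j k, d j k ∘ₗ d i j = 0)

include hshape hd in
/-- the trivial (contractible) part of a complex of finite free modules over a local ring. -/
theorem exists_trivial_subcomplex :
    ∃ T : ∀ i, Submodule R (X i),
      (∀ i j, ∀ x ∈ T i, d i j x ∈ T j) ∧
      (∀ i j k, i + 1 = j → j + 1 = k → ∀ x ∈ T j, d j k x = 0 → ∃ y ∈ T i, d i j y = x) ∧
      (∀ j, Module.Free R (X j ⧸ T j)) ∧
      (∀ i j, ((T j).mkQ ∘ₗ d i j).lTensor (ResidueField R) = 0) := by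
  choose r γ hinj hrange using fun i => exists_lift_range (d i (i + 1))
  have hinj' : ∀ i j, i + 1 = j →
      Function.Injective ((d i j ∘ₗ γ i).lTensor (ResidueField R)) := by
    intro i j hij; subst hij; exact hinj i
  have hrange' : ∀ i j, i + 1 = j → ∀ y, ∃ z, ((d i j).lTensor (ResidueField R)) y =
      ((d i j ∘ₗ γ i).lTensor (ResidueField R)) z := by
    intro i j hij; subst hij; exact hrange i
  have hinj0 : ∀ i j, i + 1 = j → Function.Injective (d i j ∘ₗ γ i) := fun i j hij =>
    injective_of_lTensor_injective _ (hinj' i j hij)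
  let τ : ∀ j, ((Fin (r (j - 1)) → R) × (Fin (r j) → R)) →ₗ[R] X j := fun j =>
    (d (j - 1) j ∘ₗ γ (j - 1)).coprod (γ j)
  have hdd : ∀ i j k (x : X i), d j k (d i j x) = 0 := fun i j k x =>
    LinearMap.congr_fun (hd i j k) x
  refine ⟨fun j => LinearMap.range (τ j), ?_, ?_, ?_, ?_⟩
  · intro i j x hx
    by_cases hij : i + 1 = j
    · obtain rfl : i = j - 1 := by omega
      obtain ⟨⟨w, z⟩, rfl⟩ := hx
      refine ⟨(z, 0), ?_⟩
      simp only [τ, LinearMap.coprod_apply, LinearMap.comp_apply, map_zero, add_zero, map_add, hdd,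
        zero_add]
    · rw [hshape i j hij]; exact Submodule.zero_mem _
  · intro i j k hij hjk x hx hdx
    obtain rfl : i = j - 1 := by omega
    obtain ⟨⟨w, z⟩, rfl⟩ := hx
    simp only [τ, LinearMap.coprod_apply, LinearMap.comp_apply, map_add, hdd, zero_add] at hdx
    have hz : z = 0 := hinj0 j k hjk (by rw [LinearMap.comp_apply, hdx, map_zero])
    subst hz
    refine ⟨γ (j - 1) w, ⟨(0, w), ?_⟩, ?_⟩
    · simp only [τ, LinearMap.coprod_apply, LinearMap.comp_apply, map_zero, zero_add]
    · simp only [τ, LinearMap.coprod_apply, LinearMap.comp_apply, map_zero, add_zero]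
  · intro j
    refine Module.free_of_lTensor_residueField_injective (τ j) (LinearMap.range (τ j)).mkQ
      (Submodule.mkQ_surjective _) (LinearMap.exact_map_mkQ_range (τ j)) ?_
    rw [injective_iff_map_eq_zero]
    intro y hy
    obtain ⟨a, ha⟩ : ∃ a, a = ((LinearMap.fst R (Fin (r (j - 1)) → R)
      (Fin (r j) → R)).lTensor (ResidueField R)) y := ⟨_, rfl⟩
    obtain ⟨b, hb⟩ : ∃ b, b = ((LinearMap.snd R (Fin (r (j - 1)) → R)
      (Fin (r j) → R)).lTensor (ResidueField R)) y := ⟨_, rfl⟩
    have hy' : y = ((LinearMap.inl R (Fin (r (j - 1)) → R) (Fin (r j) → R)).lTensor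
        (ResidueField R)) a + ((LinearMap.inr R (Fin (r (j - 1)) → R) (Fin (r j) → R)).lTensor
        (ResidueField R)) b := by
      rw [ha, hb, ← LinearMap.comp_apply, ← LinearMap.comp_apply, ← LinearMap.lTensor_comp,
        ← LinearMap.lTensor_comp, ← LinearMap.add_apply, ← LinearMap.lTensor_add]
      have : LinearMap.inl R (Fin (r (j - 1)) → R) (Fin (r j) → R) ∘ₗ LinearMap.fst R _ _ +
          LinearMap.inr R (Fin (r (j - 1)) → R) (Fin (r j) → R) ∘ₗ LinearMap.snd R _ _ =
          LinearMap.id := by
        ext <;> simp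
      rw [this, LinearMap.lTensor_id, LinearMap.id_apply]
    have h1 : ((d (j - 1) j ∘ₗ γ (j - 1)).lTensor (ResidueField R)) a +
        ((γ j).lTensor (ResidueField R)) b = 0 := by
      have e1 : τ j ∘ₗ LinearMap.inl R (Fin (r (j - 1)) → R) (Fin (r j) → R) =
          d (j - 1) j ∘ₗ γ (j - 1) := LinearMap.coprod_inl _ _
      have e2 : τ j ∘ₗ LinearMap.inr R (Fin (r (j - 1)) → R) (Fin (r j) → R) = γ j :=
        LinearMap.coprod_inr _ _
      rw [← e1, ← e2, LinearMap.lTensor_comp, LinearMap.lTensor_comp, LinearMap.comp_apply,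
        LinearMap.comp_apply, ← map_add, ← hy', hy]
    have h2 : ((d j (j + 1) ∘ₗ γ j).lTensor (ResidueField R)) b = 0 := by
      have h3 := congrArg ((d j (j + 1)).lTensor (ResidueField R)) h1
      rw [map_add, map_zero, ← LinearMap.comp_apply, ← LinearMap.comp_apply,
        ← LinearMap.lTensor_comp, ← LinearMap.lTensor_comp, ← LinearMap.comp_assoc, hd,
        LinearMap.zero_comp, LinearMap.lTensor_zero, LinearMap.zero_apply, zero_add] at h3
      exact h3
    have hb0 : b = 0 := hinj' j (j + 1) rfl (by rw [h2, map_zero])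
    rw [hb0, map_zero, add_zero] at h1
    have ha0 : a = 0 := hinj' (j - 1) j (by omega) (by rw [h1, map_zero])
    rw [hy', ha0, hb0, map_zero, map_zero, add_zero]
  · intro i j
    by_cases hij : i + 1 = j
    · refine LinearMap.ext (fun y => ?_)
      obtain ⟨z, hz⟩ := hrange' i j hij y
      rw [LinearMap.lTensor_comp, LinearMap.comp_apply, hz, ← LinearMap.comp_apply,
        ← LinearMap.lTensor_comp]
      have h0 : (LinearMap.range (τ j)).mkQ ∘ₗ (d i j ∘ₗ γ i) = 0 := by
        obtain rfl : i = j - 1 := by omega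
        refine LinearMap.ext (fun w => ?_)
        rw [LinearMap.comp_apply, LinearMap.zero_apply, Submodule.mkQ_apply,
          Submodule.Quotient.mk_eq_zero]
        refine ⟨(w, 0), ?_⟩
        simp only [τ, LinearMap.coprod_apply, LinearMap.comp_apply, map_zero, add_zero]
      rw [h0, LinearMap.lTensor_zero, LinearMap.zero_apply, LinearMap.zero_apply]
    · rw [hshape i j hij, LinearMap.comp_zero, LinearMap.lTensor_zero]

end family

end Groth.Agent.H4.MinCx
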