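import Mathlib
import Groth.Agent.H4.MinCx1
import Groth.Agent.H4.DNak3
import Groth.Agent.H4.FibPerf

set_option autoImplicit false
universe u
open CategoryTheory CategoryTheory.Limits TensorProduct IsLocalRing

namespace Groth.Agent.H4.MinCx2

attribute [local instance] HasDerivedCategory.standard
open DerivedCategory DRing Groth.Agent.H4.LDer Groth.Agent.H4.PC Groth.Agent.H4.MinCx

variable {R : Type u} [CommRing R]

section SubQuot

variable (E : Cx R) (T : ∀ i, Submodule R (E.X i))
  (hT : ∀ i j, ∀ x ∈ T i, (E.d i j).hom x ∈ T j)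

lemma d_hom_d_hom (i j k : ℤ) (x : E.X i) : (E.d j k).hom ((E.d i j).hom x) = 0 := by
  rw [← LinearMap.comp_apply, ← ModuleCat.hom_comp, E.d_comp_d]; rfl

/-- the subcomplex given by a family of submodules stable under the differential. -/
noncomputable def subCx : Cx R where
  X i := ModuleCat.of R (T i)
  d i j := ModuleCat.ofHom ((E.d i j).hom.restrict (hT i j))
  shape i j h := by
    ext x
    change (E.d i j).hom x.1 = 0
    rw [E.shape i j h]; rfl
  d_comp_d' i j k _ _ := by
    ext x
    change (E.d j k).hom ((E.d i j).hom x.1) = 0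
    exact d_hom_d_hom E i j k x.1

/-- the quotient complex. -/
noncomputable def quotCx : Cx R where
  X i := ModuleCat.of R (E.X i ⧸ T i)
  d i j := ModuleCat.ofHom ((T i).mapQ (T j) (E.d i j).hom (fun x hx => hT i j x hx))
  shape i j h := by
    ext x
    change Submodule.Quotient.mk ((E.d i j).hom x) = 0
    rw [E.shape i j h]; rfl
  d_comp_d' i j k _ _ := by
    ext x
    change Submodule.Quotient.mk ((E.d j k).hom ((E.d i j).hom x)) = 0
    rw [d_hom_d_hom E i j k x]; rfl

/-- the inclusion of the subcomplex. -/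
noncomputable def subι : subCx E T hT ⟶ E where
  f i := ModuleCat.ofHom (T i).subtype
  comm' i j _ := by ext x; rfl

/-- the projection to the quotient complex. -/
noncomputable def quotπ : E ⟶ quotCx E T hT where
  f i := ModuleCat.ofHom (T i).mkQ
  comm' i j _ := by ext x; rfl

/-- the short exact sequence `0 → T → E → E/T → 0`. -/
noncomputable def subQuotSC : ShortComplex (Cx R) :=
  ShortComplex.mk (subι E T hT) (quotπ E T hT) (by
    ext i x
    exact (Submodule.Quotient.mk_eq_zero _).2 x.2)

lemma subQuotSC_shortExact : (subQuotSC E T hT).ShortExact := by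
  apply HomologicalComplex.shortExact_of_degreewise_shortExact
  intro i
  exact ModuleCat.shortComplex_shortExact _ (LinearMap.exact_subtype_mkQ (T i))
    (T i).injective_subtype (T i).mkQ_surjective

/-- if the subcomplex is acyclic, the projection to the quotient is a quasi-isomorphism. -/
lemma isIso_Q_quotπ
    (hacyc : ∀ i j k, i + 1 = j → j + 1 = k → ∀ x ∈ T j, (E.d j k).hom x = 0 →
      ∃ y ∈ T i, (E.d i j).hom y = x) :
    IsIso (Q.map (quotπ E T hT)) := by
  have hS := subQuotSC_shortExact E T hT
  have hdist := DerivedCategory.triangleOfSES_distinguished hS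
  have hz : IsZero (Q.obj (subCx E T hT)) := by
    apply Groth.Agent.H4.DNak3.isZero_Q_of_exactAt
    intro j
    refine Groth.Agent.H4.FlatAcyc.exactAt_of_exact_d _ (j - 1) j (j + 1) (by omega) rfl ?_
    intro x
    constructor
    · intro hx
      obtain ⟨y, hy, hyx⟩ := hacyc (j - 1) j (j + 1) (by omega) rfl x.1 x.2
        (congrArg Subtype.val hx)
      exact ⟨⟨y, hy⟩, Subtype.ext hyx⟩
    · rintro ⟨y, rfl⟩
      apply Subtype.ext
      exact d_hom_d_hom E _ _ _ y.1
  exact (Pretriangulated.Triangle.isZero₁_iff_isIso₂ _ hdist).1 hz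

end SubQuot


section ZeroDiff

variable {C : Type*} [Category C] [Abelian C]

/-- for complexes with zero differentials, quasi-isomorphisms are termwise isomorphisms. -/
lemma isIso_f_of_quasiIsoAt {K L : CochainComplex C ℤ} (φ : K ⟶ L) (i : ℤ)
    (hK : ∀ a b, K.d a b = 0) (hL : ∀ a b, L.d a b = 0) (h : QuasiIsoAt φ i) : IsIso (φ.f i) := by
  rw [quasiIsoAt_iff] at h
  exact ((ShortComplex.LeftHomologyMapData.ofZeros
    ((HomologicalComplex.shortComplexFunctor C (ComplexShape.up ℤ) i).map φ)
    (hK _ _) (hK _ _) (hL _ _) (hL _ _)).quasiIso_iff).1 h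

/-- for a complex with zero differentials, the homology is the term. -/
noncomputable def homologyIsoOfZeros (K : CochainComplex C ℤ) (hK : ∀ a b, K.d a b = 0) (i : ℤ) :
    K.homology i ≅ K.X i :=
  (ShortComplex.LeftHomologyData.ofZeros (K.sc i) (hK _ _) (hK _ _)).homologyIso

end ZeroDiff

section Bridge

variable [IsLocalRing R]

/-- extension of scalars to the residue field. -/
noncomputable abbrev Gκ (R : Type u) [CommRing R] [IsLocalRing R] :
    ModuleCat.{u} R ⥤ ModuleCat.{u} (ResidueField R) :=
  ModuleCat.extendScalars.{u, u, u} (IsLocalRing.residue R)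

/-- bridge to the tensor product. -/
noncomputable def brEquiv (M : ModuleCat.{u} R) :
    ((Gκ R).obj M) ≃ₗ[ResidueField R] (ResidueField R ⊗[R] M) :=
  Groth.Agent.H8.ExtBridge.extEquiv (A := R) (B := ResidueField R) M

lemma brEquiv_map {M N : ModuleCat.{u} R} (φ : M ⟶ N) (z : (Gκ R).obj M) :
    brEquiv N ((Gκ R).map φ z) = φ.hom.lTensor (ResidueField R) (brEquiv M z) :=
  Groth.Agent.H8.ExtBridge.extEquiv_map (A := R) (B := ResidueField R) φ z

lemma Gκ_map_eq_zero {M N : ModuleCat.{u} R} (φ : M ⟶ N)
    (h : φ.hom.lTensor (ResidueField R) = 0) : (Gκ R).map φ = 0 := by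
  refine ModuleCat.hom_ext (LinearMap.ext fun z => ?_)
  apply (brEquiv N).injective
  have := brEquiv_map φ z
  rw [h, LinearMap.zero_apply] at this
  rw [ModuleCat.hom_zero, LinearMap.zero_apply, map_zero]
  exact this

lemma lTensor_eq_zero_of_Gκ_map {M N : ModuleCat.{u} R} (φ : M ⟶ N)
    (h : (Gκ R).map φ = 0) : φ.hom.lTensor (ResidueField R) = 0 := by
  refine LinearMap.ext fun z => ?_
  obtain ⟨z, rfl⟩ := (brEquiv M).surjective z
  rw [← brEquiv_map, h, LinearMap.zero_apply]
  exact map_zero _

lemma lTensor_bijective_of_isIso {M N : ModuleCat.{u} R} (φ : M ⟶ N)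
    [IsIso ((Gκ R).map φ)] : Function.Bijective (φ.hom.lTensor (ResidueField R)) := by
  have hb : Function.Bijective ((Gκ R).map φ) :=
    (ConcreteCategory.isIso_iff_bijective _).1 inferInstance
  have : (φ.hom.lTensor (ResidueField R) : _ → _) =
      (brEquiv N) ∘ ((Gκ R).map φ) ∘ (brEquiv M).symm := by
    funext z
    simp only [Function.comp_apply]
    rw [brEquiv_map, LinearEquiv.apply_symm_apply]
  rw [this]
  exact (brEquiv N).bijective.comp (hb.comp (brEquiv M).symm.bijective)

lemma finrank_Gκ_obj (M : ModuleCat.{u} R) [Module.Free R M] [Module.Finite R M] :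
    Module.finrank (ResidueField R) ((Gκ R).obj M) = Module.finrank R M := by
  rw [(brEquiv M).finrank_eq]
  exact Module.finrank_baseChange

end Bridge


section FieldCx

variable {k : Type u} [Field k] (W : CochainComplex (ModuleCat.{u} k) ℤ)

lemma finite_homology_of_finite (i : ℤ) [Module.Finite k (W.X i)] :
    Module.Finite k (W.homology i) := by
  have h1 : Function.Injective (W.iCycles i) :=
    (ModuleCat.mono_iff_injective _).1 inferInstance
  have h2 : Function.Surjective (W.homologyπ i) :=
    (ModuleCat.epi_iff_surjective _).1 inferInstance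
  haveI : Module.Finite k (W.cycles i) := Module.Finite.of_injective (W.iCycles i).hom h1
  exact Module.Finite.of_surjective (W.homologyπ i).hom h2

lemma d_eq_zero_of_finrank_homology (i : ℤ) [Module.Finite k (W.X i)]
    (h : Module.finrank k (W.homology i) = Module.finrank k (W.X i)) (j : ℤ) : W.d i j = 0 := by
  have h1 : Function.Injective (W.iCycles i) :=
    (ModuleCat.mono_iff_injective _).1 inferInstance
  have h2 : Function.Surjective (W.homologyπ i) :=
    (ModuleCat.epi_iff_surjective _).1 inferInstance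
  haveI : Module.Finite k (W.cycles i) := Module.Finite.of_injective (W.iCycles i).hom h1
  have e1 : Module.finrank k (W.cycles i) ≤ Module.finrank k (W.X i) :=
    LinearMap.finrank_le_finrank_of_injective (f := (W.iCycles i).hom) h1
  have e2 : Module.finrank k (W.homology i) ≤ Module.finrank k (W.cycles i) :=
    LinearMap.finrank_le_finrank_of_surjective (f := (W.homologyπ i).hom) h2
  have e3 : Module.finrank k (W.cycles i) = Module.finrank k (W.X i) := by omega
  have h3 : Function.Surjective (W.iCycles i) :=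
    (LinearMap.injective_iff_surjective_of_finrank_eq_finrank (f := (W.iCycles i).hom) e3).1 h1
  haveI : IsIso (W.iCycles i) := (ConcreteCategory.isIso_iff_bijective _).2 ⟨h1, h3⟩
  exact (cancel_epi (W.iCycles i)).1 (by rw [W.iCycles_d, comp_zero])

end FieldCx


section Main

variable [IsLocalRing R]

lemma finite_Gκ_obj (M : ModuleCat.{u} R) [Module.Finite R M] :
    Module.Finite (ResidueField R) ((Gκ R).obj M) :=
  Module.Finite.equiv (brEquiv M).symm

/-- the cohomology of the derived fibre, computed on a K-projective representative. -/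
noncomputable def fibreHomologyIso [DRing.HasLBaseChange (IsLocalRing.residue R)] (P : Cx R)
    [P.IsKProjective] {K : Dual.D R} (e : toD P ≅ K) (i : ℤ) :
    (homologyFunctor (ModuleCat.{u} (ResidueField R)) i).obj
      ((DRing.LBaseChange (IsLocalRing.residue R)).obj K) ≅ ((GC (Gκ R)).obj P).homology i :=
  (homologyFunctor _ i).mapIso (isoOfIso (Gκ R) P e) ≪≫ homologyToDIso _ i

/-- a complex of finite free modules is minimal iff its differentials vanish modulo the maximal
ideal: the rank formula. -/
lemma finrank_homology_of_zero (P : Cx R) (hP : ∀ i, Module.Free R (P.X i) ∧ Module.Finite R (P.X i))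
    (hz : ∀ i j, (Gκ R).map (P.d i j) = 0) (i : ℤ) :
    Module.finrank (ResidueField R) (((GC (Gκ R)).obj P).homology i) =
      Module.finrank R (P.X i) := by
  haveI := (hP i).1
  haveI := (hP i).2
  have e := homologyIsoOfZeros ((GC (Gκ R)).obj P) (fun a b => hz a b) i
  rw [e.toLinearEquiv.finrank_eq]
  exact finrank_Gκ_obj (P.X i)

lemma zero_of_finrank_homology (P : Cx R) (hP : ∀ i, Module.Free R (P.X i) ∧ Module.Finite R (P.X i))
    (h : ∀ i, Module.finrank (ResidueField R) (((GC (Gκ R)).obj P).homology i) =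
      Module.finrank R (P.X i)) (i j : ℤ) : (Gκ R).map (P.d i j) = 0 := by
  haveI := (hP i).1
  haveI := (hP i).2
  haveI : Module.Finite (ResidueField R) (((GC (Gκ R)).obj P).X i) := finite_Gκ_obj (P.X i)
  refine d_eq_zero_of_finrank_homology ((GC (Gκ R)).obj P) i ?_ j
  rw [h i]
  exact (finrank_Gκ_obj (P.X i)).symm


/-- a quasi-isomorphism between bounded above complexes of finite free modules with differentials
vanishing modulo the maximal ideal is an isomorphism. -/
theorem isIso_of_minimal [DRing.HasLBaseChange (IsLocalRing.residue R)] (P P' : Cx R) (b b' : ℤ)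
    (hb : VanishesAbove P b) (hb' : VanishesAbove P' b')
    (hP : ∀ i, Module.Free R (P.X i) ∧ Module.Finite R (P.X i))
    (hP' : ∀ i, Module.Free R (P'.X i) ∧ Module.Finite R (P'.X i))
    (hz : ∀ i j, (Gκ R).map (P.d i j) = 0) (hz' : ∀ i j, (Gκ R).map (P'.d i j) = 0)
    (f : P ⟶ P') (hf : IsIso (Q.map f)) : IsIso f := by
  haveI : P.IsKProjective := Groth.Agent.H4.DRing1.isKProjective_of_vanishesAbove_projective P b hb
    (fun i => by haveI := (hP i).1; infer_instance)
  haveI : P'.IsKProjective :=
    Groth.Agent.H4.DRing1.isKProjective_of_vanishesAbove_projective P' b' hb'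
    (fun i => by haveI := (hP' i).1; infer_instance)
  have hnat := gam_naturality (Gκ R) f
  haveI : IsIso (Q.map ((GC (Gκ R)).map f)) := by
    have : Q.map ((GC (Gκ R)).map f) =
        inv ((gam (Gκ R)).app P) ≫ (LG (Gκ R)).map (Q.map f) ≫ (gam (Gκ R)).app P' := by
      rw [hnat, IsIso.inv_hom_id_assoc]
    rw [this]
    infer_instance
  have hq : QuasiIso ((GC (Gκ R)).map f) := (DerivedCategory.isIso_Q_map_iff_quasiIso _ _).1 inferInstance
  haveI : ∀ i, IsIso (f.f i) := by
    intro i
    haveI : IsIso ((Gκ R).map (f.f i)) :=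
      isIso_f_of_quasiIsoAt ((GC (Gκ R)).map f) i (fun a b => hz a b) (fun a b => hz' a b)
        inferInstance
    haveI := (hP i).2
    haveI := (hP' i).1
    haveI := (hP' i).2
    exact (ConcreteCategory.isIso_iff_bijective _).2
      (bijective_of_lTensor_bijective (f.f i).hom (lTensor_bijective_of_isIso (f.f i)))
  exact HomologicalComplex.Hom.isIso_of_components f


/-- every bounded above complex of finite free modules over a local ring is quasi-isomorphic to
a quotient complex of finite free modules whose differentials vanish modulo the maximal ideal. -/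
theorem exists_minimal_quotient (E : Cx R) (b : ℤ) (hb : VanishesAbove E b)
    (hE : TermwiseFiniteFree E) :
    ∃ (P : Cx R) (π : E ⟶ P), IsIso (Q.map π) ∧ VanishesAbove P b ∧
      (∀ i, Module.Free R (P.X i) ∧ Module.Finite R (P.X i)) ∧
      ∀ i j, (Gκ R).map (P.d i j) = 0 := by
  haveI : ∀ i, Module.Finite R (E.X i) := fun i => (hE i).1
  haveI : ∀ i, Module.Free R (E.X i) := fun i => (hE i).2
  obtain ⟨T, hT, hacyc, hfree, hzero⟩ := exists_trivial_subcomplex (fun i => E.X i)
    (fun i j => (E.d i j).hom)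
    (fun i j hij => by
      change (E.d i j).hom = 0
      rw [E.shape i j (by simpa using hij)]; rfl)
    (fun i j k => by
      change (E.d j k).hom ∘ₗ (E.d i j).hom = 0
      rw [← ModuleCat.hom_comp, E.d_comp_d]; rfl)
  refine ⟨quotCx E T hT, quotπ E T hT, isIso_Q_quotπ E T hT hacyc, ?_, ?_, ?_⟩
  · intro i hi
    haveI : Subsingleton (E.X i) := ModuleCat.subsingleton_of_isZero (hb i hi)
    haveI : Subsingleton ((quotCx E T hT).X i) :=
      inferInstanceAs (Subsingleton (E.X i ⧸ T i))
    exact ModuleCat.isZero_of_subsingleton _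
  · intro i
    exact ⟨hfree i, inferInstanceAs (Module.Finite R (E.X i ⧸ T i))⟩
  · intro i j
    apply Gκ_map_eq_zero
    change ((T i).mapQ (T j) (E.d i j).hom (fun x hx => hT i j x hx)).lTensor (ResidueField R) = 0
    have hs : Function.Surjective ((T i).mkQ.lTensor (ResidueField R)) :=
      LinearMap.lTensor_surjective _ (T i).mkQ_surjective
    refine LinearMap.ext (fun y => ?_)
    obtain ⟨y, rfl⟩ := hs y
    rw [← LinearMap.comp_apply, ← LinearMap.lTensor_comp]
    have : (T i).mapQ (T j) (E.d i j).hom (fun x hx => hT i j x hx) ∘ₗ (T i).mkQ =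
        (T j).mkQ ∘ₗ (E.d i j).hom := by
      ext x; rfl
    rw [this, hzero i j]
    rfl


omit [IsLocalRing R] in
lemma kproj_of_minimal (P : Cx R) (b : ℤ) (hb : VanishesAbove P b)
    (hP : ∀ i, Module.Free R (P.X i) ∧ Module.Finite R (P.X i)) : P.IsKProjective :=
  Groth.Agent.H4.DRing1.isKProjective_of_vanishesAbove_projective P b hb
    (fun i => by haveI := (hP i).1; infer_instance)

theorem S6972 (R : Type u) [CommRing R] [IsLocalRing R]
    [DRing.HasLBaseChange (IsLocalRing.residue R)] (K : Dual.D R) (hK : DRing.IsPseudoCoherent' R K) :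
    let κ := IsLocalRing.ResidueField R
    let Kκ := (DRing.LBaseChange (IsLocalRing.residue R)).obj K
    let Minimal := fun P : DRing.Cx R => (∃ b : ℤ, DRing.VanishesAbove P b) ∧
      (∀ i : ℤ, Module.Free R (P.X i) ∧ Module.Finite R (P.X i) ∧
        Module.finrank R (P.X i) = Module.finrank κ (Dual.HD κ Kκ i)) ∧ Nonempty (DRing.toD P ≅ K)
    (∀ i : ℤ, Module.Finite κ (Dual.HD κ Kκ i)) ∧ (∃ b : ℤ, ∀ i : ℤ, b < i → Subsingleton (Dual.HD κ Kκ i)) ∧
      (∃ P : DRing.Cx R, Minimal P) ∧ ∀ P Q : DRing.Cx R, Minimal P → Minimal Q → Nonempty (P ≅ Q) := by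
  intro κ Kκ Minimal
  obtain ⟨E, b, hb, hE, ⟨e⟩⟩ := hK
  have hE' : ∀ i, Module.Free R (E.X i) ∧ Module.Finite R (E.X i) := fun i => ⟨(hE i).2, (hE i).1⟩
  haveI : E.IsKProjective := kproj_of_minimal E b hb hE'
  refine ⟨?_, ?_, ?_, ?_⟩
  · intro i
    have e1 := (fibreHomologyIso E e i).toLinearEquiv
    haveI := (hE i).1
    haveI : Module.Finite (ResidueField R) (((GC (Gκ R)).obj E).X i) := finite_Gκ_obj (E.X i)
    haveI := finite_homology_of_finite ((GC (Gκ R)).obj E) i
    exact Module.Finite.equiv e1.symm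
  · refine ⟨b, fun i hi => ?_⟩
    have hz : IsZero (((GC (Gκ R)).obj E).X i) := (Gκ R).map_isZero (hb i hi)
    have h2 : IsZero (((GC (Gκ R)).obj E).homology i) :=
      (HomologicalComplex.exactAt_iff_isZero_homology _ _).1 (HomologicalComplex.ExactAt.of_isZero hz)
    exact ModuleCat.subsingleton_of_isZero (h2.of_iso (fibreHomologyIso E e i))
  · obtain ⟨P, π, hπ, hPb, hP, hz⟩ := exists_minimal_quotient E b hb hE
    haveI := hπ
    have eP : toD P ≅ K := (asIso (Q.map π)).symm ≪≫ e
    haveI : P.IsKProjective := kproj_of_minimal P b hPb hP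
    refine ⟨P, ⟨b, hPb⟩, fun i => ⟨(hP i).1, (hP i).2, ?_⟩, ⟨eP⟩⟩
    rw [← finrank_homology_of_zero P hP hz i]
    exact ((fibreHomologyIso P eP i).toLinearEquiv.finrank_eq).symm
  · rintro P P' ⟨⟨c, hc⟩, h1, ⟨e1⟩⟩ ⟨⟨c', hc'⟩, h1', ⟨e1'⟩⟩
    have hP : ∀ i, Module.Free R (P.X i) ∧ Module.Finite R (P.X i) :=
      fun i => ⟨(h1 i).1, (h1 i).2.1⟩
    have hP' : ∀ i, Module.Free R (P'.X i) ∧ Module.Finite R (P'.X i) :=
      fun i => ⟨(h1' i).1, (h1' i).2.1⟩
    haveI : P.IsKProjective := kproj_of_minimal P c hc hP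
    haveI : P'.IsKProjective := kproj_of_minimal P' c' hc' hP'
    have hz : ∀ i j, (Gκ R).map (P.d i j) = 0 := by
      refine zero_of_finrank_homology P hP (fun i => ?_)
      rw [(h1 i).2.2]
      exact ((fibreHomologyIso P e1 i).toLinearEquiv.finrank_eq).symm
    have hz' : ∀ i j, (Gκ R).map (P'.d i j) = 0 := by
      refine zero_of_finrank_homology P' hP' (fun i => ?_)
      rw [(h1' i).2.2]
      exact ((fibreHomologyIso P' e1' i).toLinearEquiv.finrank_eq).symm
    obtain ⟨f, hf⟩ := Groth.Agent.H3.PerfAux.exists_map_of_isKProjective P P' (e1.hom ≫ e1'.inv)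
    have hfi : IsIso (Q.map f) := by rw [hf]; infer_instance
    haveI := isIso_of_minimal P P' c c' hc hc' hP hP' hz hz' f hfi
    exact ⟨asIso f⟩

end Main

end Groth.Agent.H4.MinCx2
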