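import Mathlib
import Groth.Agent.H4.MinCx2
import Groth.Agent.H4.Betti1
import Groth.Agent.H4.TA3

set_option autoImplicit false
universe u
open CategoryTheory CategoryTheory.Limits TensorProduct IsLocalRing

namespace Groth.Agent.H4.LFP2

attribute [local instance] HasDerivedCategory.standard
open DerivedCategory DRing Groth.Agent.H4.LDer Groth.Agent.H4.PC Groth.Agent.H4.MinCx
  Groth.Agent.H4.MinCx2

variable {R R' : Type u} [CommRing R] [CommRing R']

/-- termwise extension of scalars -/
noncomputable abbrev ext (φ : R →+* R') : Cx R ⥤ Cx R' :=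
  GC (ModuleCat.extendScalars.{u, u, u} φ)

/-- extension of scalars of K-projective complexes respects isomorphisms in the derived category -/
lemma nonempty_ext_iso (φ : R →+* R') (E E' : Cx R) [E.IsKProjective] [E'.IsKProjective]
    (e : toD E ≅ toD E') : Nonempty (toD ((ext φ).obj E) ≅ toD ((ext φ).obj E')) := by
  haveI : (Gh (ModuleCat.extendScalars.{u, u, u} φ)).HasLeftDerivedFunctor (WA R) :=
    Groth.Agent.H4.KProj.hasLeftDerivedFunctor _
  exact ⟨(isoOfKProj _ E).symm ≪≫ (LG _).mapIso e ≪≫ isoOfKProj _ E'⟩

lemma kproj_ext (φ : R →+* R') (P : Cx R) (b : ℤ) (hb : VanishesAbove P b)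
    (hP : ∀ i, Module.Projective R (P.X i)) : ((ext φ).obj P).IsKProjective := by
  haveI : ((ext φ).obj P).IsStrictlyLE b := by
    rw [CochainComplex.isStrictlyLE_iff]
    intro i hi
    exact (ModuleCat.extendScalars.{u, u, u} φ).map_isZero (hb i hi)
  haveI : ∀ n, Projective (((ext φ).obj P).X n) := fun n => by
    haveI := hP n
    haveI : Projective (P.X n) := ModuleCat.projective_of_categoryTheory_projective (P.X n)
    exact (ModuleCat.extendRestrictScalarsAdj.{u, u, u} φ).map_projective _ inferInstance
  exact CochainComplex.isKProjective_of_projective _ b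

/-- homology dimension of an extension of a single complex -/
lemma finrank_homology_ext_single [IsLocalRing R'] (H : ModuleCat.{u} R') [Module.Free R' H]
    [Module.Finite R' H] (i j : ℤ) :
    Module.finrank (ResidueField R') (((ext (residue R')).obj
      ((HomologicalComplex.single (ModuleCat.{u} R') (ComplexShape.up ℤ) i).obj H)).homology j) =
      if j = i then Module.finrank R' H else 0 := by
  let e : (ext (residue R')).obj
      ((HomologicalComplex.single (ModuleCat.{u} R') (ComplexShape.up ℤ) i).obj H) ≅
      (HomologicalComplex.single _ (ComplexShape.up ℤ) i).obj ((Gκ R').obj H) :=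
    (HomologicalComplex.singleMapHomologicalComplex (Gκ R') (ComplexShape.up ℤ) i).app H
  have e' : ((ext (residue R')).obj
      ((HomologicalComplex.single (ModuleCat.{u} R') (ComplexShape.up ℤ) i).obj H)).homology j ≅
      ((HomologicalComplex.single _ (ComplexShape.up ℤ) i).obj ((Gκ R').obj H)).homology j :=
    (HomologicalComplex.homologyFunctor _ _ j).mapIso e
  rw [e'.toLinearEquiv.finrank_eq]
  split_ifs with hj
  · subst hj
    have e2 := HomologicalComplex.singleObjHomologySelfIso (ComplexShape.up ℤ) j ((Gκ R').obj H)
    rw [e2.toLinearEquiv.finrank_eq]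
    exact finrank_Gκ_obj H
  · have hz := HomologicalComplex.isZero_single_obj_homology (ComplexShape.up ℤ) i
      ((Gκ R').obj H) j hj
    haveI := ModuleCat.subsingleton_of_isZero hz
    exact Module.finrank_zero_of_subsingleton

open Groth.Agent.H4.FibPerf Groth.Agent.H4.TA3 Groth.Agent.H4.Betti1 in
/-- **local structure**: a bounded above complex of finite free modules over a local ring whose
base change along a local homomorphism has cohomology only in degree `i`, free of rank `r` there,
is isomorphic in the derived category to a free module of rank `r` placed in degree `i`. -/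
theorem exists_minimal_single [IsLocalRing R] [IsLocalRing R'] (σ : R →+* R') [IsLocalHom σ]
    (P : Cx R) (b : ℤ) (hb : VanishesAbove P b) (hP : TermwiseFiniteFree P) (i : ℤ) (r : ℕ)
    (h0 : ∀ j, j ≠ i → IsZero (((ext σ).obj P).homology j))
    (hfree : Module.Free R' (((ext σ).obj P).homology i))
    (hfin : Module.Finite R' (((ext σ).obj P).homology i))
    (hr : Module.finrank R' (((ext σ).obj P).homology i) = r) :
    ∃ M : Cx R, Nonempty (toD P ≅ toD M) ∧ (∀ j, j ≠ i → IsZero (M.X j)) ∧
      Module.Free R (M.X i) ∧ Module.Finite R (M.X i) ∧ Module.finrank R (M.X i) = r := by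
  set Pσ := (ext σ).obj P with hPσ
  set H := Pσ.homology i with hH
  have hz : ∀ j, j ≠ i → IsZero ((homologyFunctor (ModuleCat.{u} R') j).obj (toD Pσ)) :=
    fun j hj => (h0 j hj).of_iso ((homologyFunctorFactors _ j).app Pσ)
  haveI : (toD Pσ).IsGE i := by rw [isGE_iff]; exact fun j hj => hz j (by omega)
  haveI : (toD Pσ).IsLE i := by rw [isLE_iff]; exact fun j hj => hz j (by omega)
  obtain ⟨e1⟩ := exists_iso_single (toD Pσ) i
  let S : Cx R' := (HomologicalComplex.single (ModuleCat.{u} R') (ComplexShape.up ℤ) i).obj H
  have e2 : toD Pσ ≅ toD S :=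
    e1 ≪≫ (singleFunctor _ i).mapIso ((homologyFunctorFactors _ i).app Pσ) ≪≫
      (singleFunctorIsoCompQ _ i).app H
  haveI : P.IsKProjective := kproj_of_minimal P b hb (fun j => ⟨(hP j).2, (hP j).1⟩)
  haveI : Pσ.IsKProjective :=
    kproj_ext σ P b hb (fun j => by haveI := (hP j).2; infer_instance)
  haveI : S.IsKProjective := by
    haveI : S.IsStrictlyLE i := by
      rw [CochainComplex.isStrictlyLE_iff]
      intro j hj
      exact HomologicalComplex.isZero_single_obj_X (ComplexShape.up ℤ) i H j (by omega)
    haveI : ∀ n, Projective (S.X n) := fun n => by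
      by_cases hn : n = i
      · subst hn
        haveI : Projective H := ModuleCat.projective_of_categoryTheory_projective H
        exact Projective.of_iso (HomologicalComplex.singleObjXSelf (ComplexShape.up ℤ) n H).symm
          inferInstance
      · exact (HomologicalComplex.isZero_single_obj_X (ComplexShape.up ℤ) i H n hn).projective
    exact CochainComplex.isKProjective_of_projective _ i
  obtain ⟨e3⟩ := nonempty_ext_iso (residue R') Pσ S e2
  -- the fibre dimensions of `P`
  have key : ∀ j, Module.finrank (ResidueField R) (((ext (residue R)).obj P).homology j) =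
      if j = i then r else 0 := by
    intro j
    rw [← finrank_homology_ext_field (ResidueField.map σ) ((ext (residue R)).obj P) j]
    let c1 : (ext (ResidueField.map σ)).obj ((ext (residue R)).obj P) ≅
        (ext (residue R')).obj Pσ :=
      (extCompCx (residue R) (ResidueField.map σ) P).symm ≪≫
        extCxEqIso (ResidueField.map_comp_residue σ) P ≪≫ extCompCx σ (residue R') P
    have c2 : ((ext (ResidueField.map σ)).obj ((ext (residue R)).obj P)).homology j ≅
        ((ext (residue R')).obj S).homology j :=
      (HomologicalComplex.homologyFunctor _ _ j).mapIso c1 ≪≫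
        ((homologyFunctorFactors _ j).app _).symm ≪≫ (homologyFunctor _ j).mapIso e3 ≪≫
        (homologyFunctorFactors _ j).app _
    rw [c2.toLinearEquiv.finrank_eq, finrank_homology_ext_single H i j, hr]
  obtain ⟨M, π, hπ, hMb, hM, hzM⟩ := exists_minimal_quotient P b hb hP
  haveI := hπ
  haveI : M.IsKProjective := kproj_of_minimal M b hMb hM
  obtain ⟨e4⟩ := nonempty_ext_iso (residue R) P M (asIso (Q.map π))
  have hrank : ∀ j, Module.finrank R (M.X j) = if j = i then r else 0 := by
    intro j
    rw [← finrank_homology_of_zero M hM hzM j, ← key j]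
    have c3 : ((ext (residue R)).obj M).homology j ≅ ((ext (residue R)).obj P).homology j :=
      ((homologyFunctorFactors _ j).app _).symm ≪≫ (homologyFunctor _ j).mapIso e4.symm ≪≫
        (homologyFunctorFactors _ j).app _
    exact c3.toLinearEquiv.finrank_eq
  refine ⟨M, ⟨asIso (Q.map π)⟩, fun j hj => ?_, (hM i).1, (hM i).2, ?_⟩
  · haveI := (hM j).1
    haveI := (hM j).2
    have h1 := hrank j
    rw [if_neg hj] at h1
    haveI : Subsingleton (M.X j) := (Module.finrank_eq_zero_iff_of_free R (M.X j)).1 h1
    exact ModuleCat.isZero_of_subsingleton _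
  · have h1 := hrank i
    rwa [if_pos rfl] at h1

end Groth.Agent.H4.LFP2
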