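import Mathlib
import Groth.Prelude.Def_DerSch
import Groth.Agent.H4.LFP1
import Groth.Agent.H4.LFP2
import Groth.Agent.H4.Betti3

set_option autoImplicit false
universe u
attribute [local instance] HasDerivedCategory.standard
open CategoryTheory CategoryTheory.Limits AlgebraicGeometry Groth.Agent.LD.QC DerivedCategory
open Groth.Agent.H4.PSch1 Groth.Agent.H4.PSch2 Groth.Agent.H4.PSch3 Groth.Agent.H4.PSch4
open Groth.Agent.H4.FAmp7 Groth.Agent.H4.FAmp8 Groth.Agent.H4.LFP1 Groth.Agent.H4.SPt6

namespace Groth.Agent.H4.LFP3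

variable {X : Scheme.{u}}

/-- `E` is, near `x`, a free module of rank `r` placed in degree `i` -/
def LocFreeAt (E : DCoh.D X) (i : ℤ) (r : ℕ) (x : X) : Prop :=
  ∃ (W : Scheme.{u}) (k : W ⟶ X) (_ : IsOpenImmersion k), x ∈ Set.range k ∧
    Nonempty ((RD k).obj E ≅ (singleFunctor W.Modules i).obj (FlatMod.freeMod W r))

/-- homology of a complex of modules concentrated in one degree -/
lemma homology_of_concentrated {R : Type u} [CommRing R] (M : DRing.Cx R) (i : ℤ)
    (hM0 : ∀ j, j ≠ i → IsZero (M.X j)) :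
    (∀ j, j ≠ i → IsZero (M.homology j)) ∧ Nonempty (M.homology i ≅ M.X i) := by
  constructor
  · intro j hj
    exact ShortComplex.isZero_homology_of_isZero_X₂ _ (hM0 j hj)
  · have hd : ∀ a b, M.d a b = 0 := by
      intro a b
      by_cases ha : a = i
      · by_cases hb : b = i
        · subst ha hb
          exact M.shape _ _ (by simp)
        · exact (hM0 b hb).eq_of_tgt _ _
      · exact (hM0 a ha).eq_of_src _ _
    exact ⟨Groth.Agent.H4.MinCx2.homologyIsoOfZeros M hd i⟩

open Groth.Agent.H4.PSch5 in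
/-- from the structure of the stalk complex to the structure on a neighbourhood -/
theorem locFreeAt_of_stalk (E : DCoh.D X) {W : Scheme.{u}} (k : W ⟶ X) [IsOpenImmersion k]
    (P : CochainComplex W.Modules ℤ) (hP : DCoh.IsStrictlyPerfect P)
    (e : (RD k).obj E ≅ Q.obj P) (w : W) (i : ℤ) (r : ℕ)
    (M : DRing.Cx (W.presheaf.stalk w)) (eM : DRing.toD ((stalkCx w).obj P) ≅ DRing.toD M)
    (hM0 : ∀ j, j ≠ i → IsZero (M.X j)) (hMfree : Module.Free (W.presheaf.stalk w) (M.X i))
    (hMr : Module.finrank (W.presheaf.stalk w) (M.X i) = r) :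
    LocFreeAt E i r (k w) := by
  obtain ⟨⟨a, b, hab⟩, hPf⟩ := hP
  obtain ⟨hMz, ⟨eMi⟩⟩ := homology_of_concentrated M i hM0
  -- stalks of the cohomology sheaves
  have est : ∀ j, (DerSch.stalkFunctor W w).obj (P.homology j) ≅ M.homology j := fun j =>
    ((P.sc j).mapHomologyIso (DerSch.stalkFunctor W w)).symm ≪≫
      ((homologyFunctorFactors _ j).app ((stalkCx w).obj P)).symm ≪≫
      (homologyFunctor _ j).mapIso eM ≪≫ (homologyFunctorFactors _ j).app M
  have hflat : ∀ j, FlatMod.IsFlatAt (P.homology j) w := by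
    intro j
    by_cases hj : j = i
    · subst hj
      haveI : Module.Flat (W.presheaf.stalk w) (M.X j) := inferInstance
      exact Module.Flat.of_linearEquiv ((est j ≪≫ eMi).toLinearEquiv)
    · haveI : Subsingleton ((DerSch.stalkFunctor W w).obj (P.homology j)) :=
        ModuleCat.subsingleton_of_isZero ((hMz j hj).of_iso (est j))
      change Module.Flat (W.presheaf.stalk w) ((DerSch.stalkFunctor W w).obj (P.homology j))
      infer_instance
  have hlf := lfAt_homology P w b (fun j => hPf j w) (fun j hj => hab j (Or.inr hj)) hflat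
  choose V n hwV eV using hlf
  have hn : ∀ j, n j = if j = i then r else 0 := by
    intro j
    obtain ⟨eVj⟩ := eV j
    have h1 := finrank_stalk_of_restrict_iso_freeMod (P.homology j) (V j) (n j) eVj w (hwV j)
    rw [← h1]
    change Module.finrank (W.presheaf.stalk w) ((DerSch.stalkFunctor W w).obj (P.homology j)) = _
    split_ifs with hj
    · subst hj
      rw [((est j ≪≫ eMi).toLinearEquiv).finrank_eq, hMr]
    · haveI : Subsingleton ((DerSch.stalkFunctor W w).obj (P.homology j)) :=
        ModuleCat.subsingleton_of_isZero ((hMz j hj).of_iso (est j))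
      exact Module.finrank_zero_of_subsingleton
  -- the neighbourhood
  let W' : W.Opens := ⟨(⋂ j ∈ Finset.Icc a b, (V j : Set W)) ∩ (V i : Set W),
    IsOpen.inter (isOpen_biInter_finset (fun j _ => (V j).isOpen)) (V i).isOpen⟩
  have hwW' : w ∈ W' := by
    refine ⟨?_, hwV i⟩
    simp only [Set.mem_iInter]
    exact fun j _ => hwV j
  have hle : ∀ j, (j ∈ Finset.Icc a b ∨ j = i) → W' ≤ V j := by
    rintro j (hj | rfl)
    · intro z hz
      have := hz.1
      simp only [Set.mem_iInter] at this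
      exact this j hj
    · exact fun z hz => hz.2
  have hres : ∀ j, (j ∈ Finset.Icc a b ∨ j = i) →
      Nonempty ((P.homology j).restrict W'.ι ≅ FlatMod.freeMod (↑W') (n j)) := by
    intro j hj
    obtain ⟨eVj⟩ := eV j
    refine freeMod_of_range_subset (P.homology j) (V j).ι W'.ι ?_ (n j) eVj
    rw [Scheme.Opens.range_ι, Scheme.Opens.range_ι]
    exact hle j hj
  let P' := (resCx W'.ι).obj P
  have eH : ∀ j, P'.homology j ≅ (P.homology j).restrict W'.ι := fun j =>
    (P.sc j).mapHomologyIso (Scheme.Modules.restrictFunctor W'.ι)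
  have hz' : ∀ j, j ≠ i → IsZero (P'.homology j) := by
    intro j hj
    by_cases hjab : j ∈ Finset.Icc a b
    · obtain ⟨e1⟩ := hres j (Or.inl hjab)
      have h0 : n j = 0 := by rw [hn j, if_neg hj]
      rw [h0] at e1
      exact (isZero_freeMod_zero _).of_iso (eH j ≪≫ e1)
    · apply ShortComplex.isZero_homology_of_isZero_X₂
      exact (Scheme.Modules.restrictFunctor W'.ι).map_isZero
        (hab j (by rw [Finset.mem_Icc] at hjab; omega))
  have hzD : ∀ j, j ≠ i → IsZero ((homologyFunctor (↑W' : Scheme.{u}).Modules j).obj (Q.obj P')) :=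
    fun j hj => (hz' j hj).of_iso ((homologyFunctorFactors _ j).app P')
  haveI : (Q.obj P').IsGE i := by rw [isGE_iff]; exact fun j hj => hzD j (by omega)
  haveI : (Q.obj P').IsLE i := by rw [isLE_iff]; exact fun j hj => hzD j (by omega)
  obtain ⟨Y, ⟨eY⟩⟩ := exists_iso_singleFunctor_obj_of_isGE_of_isLE (Q.obj P') i
  obtain ⟨e1⟩ := hres i (Or.inr rfl)
  have hni : n i = r := by rw [hn i, if_pos rfl]
  rw [hni] at e1
  have eY' : Y ≅ FlatMod.freeMod (↑W') r :=
    ((singleFunctorCompHomologyFunctorIso _ i).app Y).symm ≪≫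
      (homologyFunctor _ i).mapIso eY.symm ≪≫ (homologyFunctorFactors _ i).app P' ≪≫ eH i ≪≫ e1
  obtain ⟨e2⟩ := nonempty_RD_iso_shrink W'.ι k (W'.ι ≫ k) rfl E P e
  exact ⟨W', W'.ι ≫ k, inferInstance, ⟨⟨w, hwW'⟩, rfl⟩,
    ⟨e2 ≪≫ eY ≪≫ (singleFunctor _ i).mapIso eY'⟩⟩

end Groth.Agent.H4.LFP3
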