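import Mathlib
import Groth.Prelude.Def_DerSch
import Groth.Agent.H4.LFP3
import Groth.Agent.H4.LDS17

set_option autoImplicit false
universe u
attribute [local instance] HasDerivedCategory.standard
open CategoryTheory CategoryTheory.Limits AlgebraicGeometry Groth.Agent.LD.QC DerivedCategory
open Groth.Agent.H4.PSch1 Groth.Agent.H4.PSch2 Groth.Agent.H4.PSch3 Groth.Agent.H4.PSch4
open Groth.Agent.H4.FAmp7 Groth.Agent.H4.FAmp8 Groth.Agent.H4.LFP1 Groth.Agent.H4.SPt6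
open Groth.Agent.H4.LFP2 Groth.Agent.H4.LFP3 Groth.Agent.H4.LDS14 Groth.Agent.H4.LDS15
open Groth.Agent.H4.LDS16 Groth.Agent.H4.LDS17 Groth.Agent.H4.TilD9

namespace Groth.Agent.H4.LFP4

variable {X Y : Scheme.{u}}

lemma isFinLocFreeOfRank_restrict (r : ℕ) (j : Y ⟶ X) [IsOpenImmersion j] (M : X.Modules)
    (h : FlatMod.IsFinLocFreeOfRank r M) : FlatMod.IsFinLocFreeOfRank r (M.restrict j) := by
  intro y
  obtain ⟨V, hyV, ⟨e⟩⟩ := h (j y)
  refine ⟨j ⁻¹ᵁ V, hyV, ?_⟩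
  have hr : Set.range ((j ⁻¹ᵁ V).ι ≫ j) ⊆ Set.range V.ι := by
    rw [Scheme.Opens.range_ι]
    rintro _ ⟨w, rfl⟩
    exact w.2
  obtain ⟨e2⟩ := freeMod_of_range_subset M V.ι ((j ⁻¹ᵁ V).ι ≫ j) hr r e
  exact ⟨((Scheme.Modules.restrictFunctorComp (j ⁻¹ᵁ V).ι j).app M).symm ≪≫ e2⟩

lemma isFinLocFreeOfRank_pullback (r : ℕ) (f : Y ⟶ X) (M : X.Modules)
    (h : FlatMod.IsFinLocFreeOfRank r M) :
    FlatMod.IsFinLocFreeOfRank r ((Scheme.Modules.pullback f).obj M) := by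
  intro x'
  obtain ⟨U, hx, ⟨e⟩⟩ := h (f x')
  refine ⟨f ⁻¹ᵁ U, hx, ⟨?_⟩⟩
  exact (pullbackRestrictIso f (f ⁻¹ᵁ U).ι U.ι (f ∣_ U) (morphismRestrict_ι f U).symm).app M ≪≫
    (Scheme.Modules.pullback (f ∣_ U)).mapIso e ≪≫ pullbackFreeModIso (f ∣_ U) r

/-- cohomology sheaves of a module placed in degree `i` -/
lemma homology_single_shift (V : Y.Modules) (i : ℤ) :
    (∀ j, j ≠ i → IsZero (DCoh.HD ((DCoh.inD Y V)⟦-i⟧) j)) ∧
      Nonempty (DCoh.HD ((DCoh.inD Y V)⟦-i⟧) i ≅ V) := by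
  have e0 : (DCoh.inD Y V)⟦-i⟧ ≅ (DerivedCategory.singleFunctor Y.Modules i).obj V :=
    ((DerivedCategory.singleFunctors Y.Modules).shiftIso (-i) i 0 (by omega)).app V
  constructor
  · intro j hj
    refine IsZero.of_iso ?_ ((homologyFunctor _ j).mapIso e0)
    rcases lt_or_gt_of_ne hj with h | h
    · exact isZero_of_isGE _ i j h
    · exact isZero_of_isLE _ i j h
  · exact ⟨(homologyFunctor _ i).mapIso e0 ≪≫ (singleFunctorCompHomologyFunctorIso _ i).app V⟩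

/-- **local structure from a pullback**: if `Lf^* E` is a finite locally free module of rank `r`
placed in degree `i`, then `E` is free of rank `r` in degree `i` near every point of the image. -/
theorem locFreeAt_of_lpull_iso (E : DCoh.D X) (hE : DCoh.IsPerfect E) (i : ℤ) (r : ℕ)
    (f : Y ⟶ X) [DCoh.HasLpull f] (V : Y.Modules) (hV : FlatMod.IsFinLocFreeOfRank r V)
    (ε : (DCoh.Lpull f).obj E ≅ (DCoh.inD Y V)⟦-i⟧) (y : Y) : LocFreeAt E i r (f y) := by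
  obtain ⟨W, k, hk, P, hx, hP, ⟨e⟩⟩ := (isPerfect_iff_perfAt E).1 hE (f y)
  let N : Y.Opens := f ⁻¹ᵁ k.opensRange
  have hyN : y ∈ N := hx
  have hr : Set.range (N.ι ≫ f) ⊆ Set.range k := by
    rintro _ ⟨z, rfl⟩
    exact z.2
  let f' : (N : Scheme.{u}) ⟶ W := IsOpenImmersion.lift k (N.ι ≫ f) hr
  have hf' : f' ≫ k = N.ι ≫ f := IsOpenImmersion.lift_fac k (N.ι ≫ f) hr
  let y' : (N : Scheme.{u}) := ⟨y, hyN⟩
  let w : W := f' y'
  have hkw : k w = f y := congrArg (fun g : (N : Scheme.{u}) ⟶ X => g.base y') hf'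
  haveI := hasLpull f'
  have hSKF : SKF P := skf_of_isStrictlyPerfect P hP
  let κ : Q.obj ((pullCx f').obj P) ≅ (RD N.ι).obj ((DCoh.inD Y V)⟦-i⟧) :=
    (lpullObjIso f' P hSKF).symm ≪≫ (DCoh.Lpull f').mapIso e.symm ≪≫
      ((lpullRestrictIso f N.ι k f' hf'.symm).app E).symm ≪≫ (RD N.ι).mapIso ε
  obtain ⟨hz, ⟨eV⟩⟩ := homology_single_shift V i
  have eH : ∀ j, ((pullCx f').obj P).homology j ≅
      (DCoh.HD ((DCoh.inD Y V)⟦-i⟧) j).restrict N.ι := fun j =>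
    ((homologyFunctorFactors _ j).app _).symm ≪≫ (homologyFunctor _ j).mapIso κ ≪≫
      (mapDerivedCategoryHomologyIso (Scheme.Modules.restrictFunctor N.ι) j).app _
  let σ := (f'.stalkMap y').hom
  let Pw := (stalkCx w).obj P
  have est : ∀ j, ((ext σ).obj Pw).homology j ≅
      (DerSch.stalkFunctor (↑N) y').obj (((pullCx f').obj P).homology j) := fun j =>
    (HomologicalComplex.homologyFunctor _ _ j).mapIso (stalkPullCxIso f' y' P).symm ≪≫
      (((pullCx f').obj P).sc j).mapHomologyIso (DerSch.stalkFunctor (↑N) y')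
  obtain ⟨⟨a, b, hab⟩, hPf⟩ := id hP
  have hb : DRing.VanishesAbove Pw b := fun j hj =>
    (DerSch.stalkFunctor W w).map_isZero (hab j (Or.inr hj))
  have hff : DRing.TermwiseFiniteFree Pw := fun j =>
    ⟨(free_finite_stalk_of_lfAt (P.X j) w (hPf j w)).2,
      (free_finite_stalk_of_lfAt (P.X j) w (hPf j w)).1⟩
  have h0 : ∀ j, j ≠ i → IsZero (((ext σ).obj Pw).homology j) := fun j hj =>
    IsZero.of_iso ((DerSch.stalkFunctor (↑N) y').map_isZero
      (((Scheme.Modules.restrictFunctor N.ι).map_isZero (hz j hj)).of_iso (eH j))) (est j)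
  obtain ⟨h1, h2, h3⟩ := stalk_of_isFinLocFreeOfRank r (V.restrict N.ι)
    (isFinLocFreeOfRank_restrict r N.ι V hV) y'
  let eLin : ((ext σ).obj Pw).homology i ≅ (DerSch.stalkFunctor (↑N) y').obj (V.restrict N.ι) :=
    est i ≪≫ (DerSch.stalkFunctor (↑N) y').mapIso (eH i ≪≫
      (Scheme.Modules.restrictFunctor N.ι).mapIso eV)
  haveI : IsLocalHom σ := inferInstance
  haveI : Module.Free ((↑N : Scheme.{u}).presheaf.stalk y')
      ((DerSch.stalkFunctor (↑N) y').obj (V.restrict N.ι)) := h1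
  haveI : Module.Finite ((↑N : Scheme.{u}).presheaf.stalk y')
      ((DerSch.stalkFunctor (↑N) y').obj (V.restrict N.ι)) := h2
  obtain ⟨M, ⟨eM⟩, hM0, hMfree, hMfin, hMr⟩ := exists_minimal_single σ Pw b hb hff i r h0
    (Module.Free.of_equiv eLin.toLinearEquiv.symm) (Module.Finite.equiv eLin.toLinearEquiv.symm)
    (by rw [eLin.toLinearEquiv.finrank_eq]; exact h3)
  have := locFreeAt_of_stalk E k P hP e w i r M eM hM0 hMfree hMr
  rwa [hkw] at this

end Groth.Agent.H4.LFP4
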