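import Mathlib
import Groth.Prelude.Def_DerSch
import Groth.Agent.H4.LFP4
import Groth.Agent.H4.Betti1

set_option autoImplicit false
universe u
attribute [local instance] HasDerivedCategory.standard
open CategoryTheory CategoryTheory.Limits AlgebraicGeometry Groth.Agent.LD.QC DerivedCategory
open Groth.Agent.H4.PSch1 Groth.Agent.H4.PSch2 Groth.Agent.H4.PSch3 Groth.Agent.H4.PSch4
open Groth.Agent.H4.FAmp7 Groth.Agent.H4.FAmp8 Groth.Agent.H4.LFP1 Groth.Agent.H4.SPt6
open Groth.Agent.H4.LFP2 Groth.Agent.H4.LFP3 Groth.Agent.H4.LFP4 Groth.Agent.H4.LDS14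
open Groth.Agent.H4.LDS15 Groth.Agent.H4.LDS16 Groth.Agent.H4.LDS17 Groth.Agent.H4.TilD9

namespace Groth.Agent.H4.LFP5

variable {X Y : Scheme.{u}}

lemma isOpen_locFreeAt (E : DCoh.D X) (i : ℤ) (r : ℕ) : IsOpen {x : X | LocFreeAt E i r x} := by
  rw [isOpen_iff_forall_mem_open]
  rintro x ⟨W, k, hk, hx, he⟩
  refine ⟨Set.range k, ?_, k.isOpenEmbedding.isOpen_range, hx⟩
  rintro _ ⟨w, rfl⟩
  exact ⟨W, k, hk, ⟨w, rfl⟩, he⟩

/-- an object concentrated in one degree -/
lemma nonempty_iso_single (K : DCoh.D X) (n : ℤ) [K.IsGE n] [K.IsLE n] :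
    Nonempty (K ≅ (singleFunctor X.Modules n).obj (DCoh.HD K n)) := by
  obtain ⟨Y', ⟨e⟩⟩ := exists_iso_singleFunctor_obj_of_isGE_of_isLE K n
  have e' : (homologyFunctor X.Modules n).obj K ≅ Y' :=
    (homologyFunctor X.Modules n).mapIso e ≪≫
      (singleFunctorCompHomologyFunctorIso X.Modules n).app Y'
  exact ⟨e ≪≫ (singleFunctor X.Modules n).mapIso e'.symm⟩


/-- the open locus where `E` is locally free of rank `r` in degree `i` -/
def locus (E : DCoh.D X) (i : ℤ) (r : ℕ) : X.Opens :=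
  ⟨{x : X | LocFreeAt E i r x}, isOpen_locFreeAt E i r⟩

lemma hd_single_restrict_iso {W : Scheme.{u}} (M : W.Modules) (i j : ℤ) (hj : j ≠ i) :
    IsZero (DCoh.HD ((singleFunctor W.Modules i).obj M) j) := by
  rcases lt_or_gt_of_ne hj with h | h
  · exact isZero_of_isGE _ i j h
  · exact isZero_of_isLE _ i j h

/-- the structure of `E` over the locus where it is locally free of rank `r` in degree `i` -/
theorem structure_on_locus (E : DCoh.D X) (i : ℤ) (r : ℕ) :
    ∃ H : ((locus E i r : X.Opens) : Scheme.{u}).Modules, FlatMod.IsFinLocFreeOfRank r H ∧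
      Nonempty ((RD (locus E i r).ι).obj E ≅ (singleFunctor _ i).obj H) := by
  set U : X.Opens := locus E i r with hUdef
  set EU : DCoh.D (U : Scheme.{u}) := (RD U.ι).obj E with hEU
  -- local data
  have hloc : ∀ u : (U : Scheme.{u}), ∃ (W : Scheme.{u}) (l : W ⟶ (U : Scheme.{u}))
      (_ : IsOpenImmersion l), u ∈ Set.range l ∧
      Nonempty ((RD l).obj EU ≅ (singleFunctor W.Modules i).obj (FlatMod.freeMod W r)) := by
    intro u
    obtain ⟨W, k, hk, ⟨w, hw⟩, ⟨e⟩⟩ : LocFreeAt E i r u.1 := u.2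
    have hr : Set.range k ⊆ Set.range U.ι := by
      rw [Scheme.Opens.range_ι]
      rintro _ ⟨w', rfl⟩
      exact ⟨W, k, hk, ⟨w', rfl⟩, ⟨e⟩⟩
    obtain ⟨l, hl⟩ : ∃ l : W ⟶ (U : Scheme.{u}), l ≫ U.ι = k :=
      ⟨IsOpenImmersion.lift U.ι k hr, IsOpenImmersion.lift_fac U.ι k hr⟩
    subst hl
    haveI : IsOpenImmersion l := IsOpenImmersion.of_comp l U.ι
    obtain ⟨e1⟩ := nonempty_RD_comp_obj l U.ι E
    refine ⟨W, l, inferInstance, ⟨w, ?_⟩, ⟨e1.symm ≪≫ e⟩⟩
    apply Subtype.ext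
    exact hw
  -- vanishing of the other cohomology sheaves
  have hz : ∀ j, j ≠ i → IsZero (DCoh.HD EU j) := by
    intro j hj
    apply isZero_of_local
    intro u
    obtain ⟨W, l, hl, hu, ⟨e⟩⟩ := hloc u
    refine ⟨W, l, hl, hu, ?_⟩
    refine IsZero.of_iso (hd_single_restrict_iso (FlatMod.freeMod W r) i j hj)
      (((mapDerivedCategoryHomologyIso (Scheme.Modules.restrictFunctor l) j).app EU).symm ≪≫
        (homologyFunctor _ j).mapIso e)
  haveI : EU.IsGE i := by
    rw [DerivedCategory.isGE_iff]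
    intro j hj
    exact hz j (by omega)
  haveI : EU.IsLE i := by
    rw [DerivedCategory.isLE_iff]
    intro j hj
    exact hz j (by omega)
  obtain ⟨eS⟩ := nonempty_iso_single EU i
  refine ⟨DCoh.HD EU i, ?_, ⟨eS⟩⟩
  intro u
  obtain ⟨W, l, hl, hu, ⟨e⟩⟩ := hloc u
  have eH : (DCoh.HD EU i).restrict l ≅ FlatMod.freeMod W r :=
    ((mapDerivedCategoryHomologyIso (Scheme.Modules.restrictFunctor l) i).app EU).symm ≪≫
      (homologyFunctor _ i).mapIso e ≪≫
      (singleFunctorCompHomologyFunctorIso W.Modules i).app (FlatMod.freeMod W r)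
  refine ⟨l.opensRange, hu, ?_⟩
  exact freeMod_of_range_subset (DCoh.HD EU i) l (l.opensRange).ι
    (by rw [Scheme.Opens.range_ι]; exact subset_rfl) r eH

theorem S1064 (X : Scheme.{u}) (E : DCoh.D X) (hE : DCoh.IsPerfect E) (i : ℤ) (r : ℕ) :
    ∃ U : X.Opens, ∀ (Y : Scheme.{u}) (f : Y ⟶ X) [DCoh.HasLpull f],
      Set.range f.base ⊆ (U : Set X) ↔
        ∃ V : Y.Modules, FlatMod.IsFinLocFreeOfRank r V ∧
          Nonempty ((DCoh.Lpull f).obj E ≅ (DCoh.inD Y V)⟦-i⟧) := by
  refine ⟨locus E i r, ?_⟩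
  intro Y f _
  constructor
  · intro hrange
    obtain ⟨H, hH, ⟨eS⟩⟩ := structure_on_locus E i r
    have hr : Set.range f ⊆ Set.range (locus E i r).ι := by
      rw [Scheme.Opens.range_ι]; exact hrange
    let f' : Y ⟶ ((locus E i r : X.Opens) : Scheme.{u}) := IsOpenImmersion.lift (locus E i r).ι f hr
    have hf' : f' ≫ (locus E i r).ι = f := IsOpenImmersion.lift_fac _ f hr
    haveI := hasLpull f'
    refine ⟨(Scheme.Modules.pullback f').obj H, isFinLocFreeOfRank_pullback r f' H hH, ⟨?_⟩⟩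
    have hflat : FlatMod.IsFlat H :=
      Groth.Agent.H4.FAmp2.isFlat_of_isFinLocFree H (fun x => by
        obtain ⟨U', hx, he⟩ := hH x
        exact ⟨U', r, hx, he⟩)
    let S : CochainComplex ((locus E i r : X.Opens) : Scheme.{u}).Modules ℤ :=
      (HomologicalComplex.single _ (ComplexShape.up ℤ) i).obj H
    have hS : SKF S := by
      refine skf_of_boundedAbove_flat S i (fun j hj => ?_) (fun j => ?_)
      · exact HomologicalComplex.isZero_single_obj_X _ _ _ _ (by omega)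
      · by_cases hj : j = i
        · subst hj
          exact Groth.Agent.H4.FAmp2.isFlat_of_iso
            (HomologicalComplex.singleObjXSelf (ComplexShape.up ℤ) j H).symm hflat
        · exact Groth.Agent.H4.FAmp2.isFlat_of_isZero _
            (HomologicalComplex.isZero_single_obj_X _ _ _ _ hj)
    have e1 := Groth.Agent.H4.Betti1.lpullFacIso f f' (locus E i r).ι hf'.symm E
    have e2 := (DCoh.Lpull f').mapIso eS
    have e3 := (DCoh.Lpull f').mapIso ((singleFunctorIsoCompQ _ i).app H)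
    have e4 := lpullObjIso f' S hS
    have e5 := Q.mapIso ((HomologicalComplex.singleMapHomologicalComplex
      (Scheme.Modules.pullback f') (ComplexShape.up ℤ) i).app H)
    have e6 := ((singleFunctorIsoCompQ Y.Modules i).app ((Scheme.Modules.pullback f').obj H)).symm
    have e7 := (((singleFunctors Y.Modules).shiftIso (-i) i 0 (by omega)).app
      ((Scheme.Modules.pullback f').obj H)).symm
    exact e1 ≪≫ e2 ≪≫ e3 ≪≫ e4 ≪≫ e5 ≪≫ e6 ≪≫ e7
  · rintro ⟨V, hV, ⟨ε⟩⟩
    rintro _ ⟨y, rfl⟩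
    exact locFreeAt_of_lpull_iso E hE i r f V hV ε y

end Groth.Agent.H4.LFP5
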