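import Groth.Prelude.Def_LambdaSp
import Mathlib

/-! Newton identities relating the λ-operations and the Adams operations `adamsOp` of a pre-λ-ring. -/

universe u
open Finset

namespace Groth.Agent.H4.LambdaAdams
open LambdaRing

variable {K : Type u} [CommRing K] [LambdaOps K]

theorem constantCoeff_lamSeries (x : K) : PowerSeries.constantCoeff (lamSeries x) = 1 := by
  rw [← PowerSeries.coeff_zero_eq_constantCoeff_apply, lamSeries, PowerSeries.coeff_mk, LambdaOps.lam_zero]

theorem lamSeries_mul_inv (x : K) : lamSeries x * (lamSeries x).invOfUnit 1 = 1 :=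
  PowerSeries.mul_invOfUnit _ 1 (by rw [constantCoeff_lamSeries]; rfl)

theorem deriv_lamSeries (x : K) :
    PowerSeries.derivative K (lamSeries x) = logDerivSeries x * lamSeries x := by
  rw [logDerivSeries, mul_assoc, mul_comm ((lamSeries x).invOfUnit 1), lamSeries_mul_inv, mul_one]

theorem coeff_logDeriv (x : K) (k : ℕ) :
    PowerSeries.coeff k (logDerivSeries x) = (-1) ^ k * adamsOp (k + 1) x := by
  show _ = (-1) ^ k * ((-1) ^ k * _)
  rw [← mul_assoc, ← mul_pow]
  simp

theorem newton (x : K) (n : ℕ) :
    LambdaOps.lam (n + 1) x * ((n : K) + 1) =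
      ∑ p ∈ antidiagonal n, ((-1) ^ p.1 * adamsOp (p.1 + 1) x) * LambdaOps.lam p.2 x := by
  have := congrArg (PowerSeries.coeff n) (deriv_lamSeries x)
  rw [PowerSeries.coeff_derivative, PowerSeries.coeff_mul] at this
  simp only [coeff_logDeriv, lamSeries, PowerSeries.coeff_mk] at this
  exact this

end Groth.Agent.H4.LambdaAdams
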