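import Mathlib
import Groth.Prelude
import Groth.Agent.Lib.Helper8.AlgLCI.LCIFpqc
import Groth.Agent.Lib.Helper8.AlgLCI.Basic
import Groth.Agent.Lib.Helper3.SmSrc.Smooth
import Groth.Agent.Lib.Helper3.SmSrc.LocP
import Groth.Agent.Lib.Helper3.AlgSt.LocQ5
import Groth.Agent.Lib.Helper3.AlgSt.LocQ2

set_option autoImplicit false
set_option linter.overlappingInstances false
universe u
open CategoryTheory CategoryTheory.Limits AlgebraicGeometry MorphismProperty

namespace Groth.Agent.H4.LciA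

section Sp

open Groth.Agent.H8.LCIHom Groth.Agent.H8.KosQuot Groth.Agent.H8.SyntSrc Groth.Agent.H8.SyntLocal
  Groth.Agent.H8.AlgLCI
open Groth.Agent.H5.EtSrc Groth.Agent.H5.AlgSp Groth.Agent.H3.AlgSpCov Groth.Agent.H3.SmSrc _root_.AlgSp

variable {S : Scheme.{u}}

instance isSmoothLocalSource_lcip : IsSmoothLocalSource LCIP.{u} where
  of_comp g f hg hs h := by
    have : Smooth g := hg
    have : Surjective g := hs
    exact lcip_of_comp_syntomic g ((syntomicP_iff g).mpr ⟨inferInstance, lcip_of_smooth g⟩) f h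

/-- composition for `LocP P` without base change stability -/
theorem locP_comp' {P : MorphismProperty Scheme.{u}} (hP : EtGood P) {F G H : Sp S} {f : F ⟶ G}
    {g : G ⟶ H} (hF : IsAlgSpace F) (hG : IsAlgSpace G) (hH : IsAlgSpace H) (hf : LocP P f)
    (hg : LocP P g) : LocP P (f ≫ g) := by
  have := hP.comp
  obtain ⟨W, c, hce, hcs⟩ := hH.atlas
  obtain ⟨V, b, k, hbe, hbs, comm₁⟩ := exists_chart_diagram_surj hG g hce hcs
  obtain ⟨U, a, h, hae, has, comm₂⟩ := exists_chart_diagram_surj hF f hbe hbs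
  refine locP_of_one_chart' hP a c (h ≫ k) hae has hce ?_ ?_
  · rw [← Category.assoc, comm₂, Category.assoc, comm₁, Functor.map_comp, Category.assoc]
  · rw [Over.comp_left]
    exact P.comp_mem _ _ (hf a b h hae hbe comm₂) (hg b c k hbe hce comm₁)

theorem isLocalOnSource_sm_locP_lcip :
    IsLocalOnSource (IsSmCover (S := S)) (LocP LCIP.{u}) := by
  intro ι X Xi g hX hXi hcov Y f hY
  constructor
  · intro hf i
    refine locP_comp' etGood_lcip (hXi i) hX hY ?_ hf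
    intro U V a b h ha hb comm
    exact smooth_le_lcip _ _ _ (hcov.1 i a b h ha hb comm)
  · intro hf
    exact locP_of_source_family (P := LCIP) (𝒟 := @Smooth) etale_le_smooth
      (fun h K Uk d hd hs hc => prop_of_smooth_family h K Uk d hd hs hc) hX Xi hXi g hcov.1
      hcov.2 f hf

theorem isSmoothLocalST_locP_lcip : IsSmoothLocalST (LocP (S := S) LCIP.{u}) :=
  isSmoothLocalST_of_local _ isLocalOnSource_sm_locP_lcip
    (isLocalOnBase_sm_of_fpqc
      (Groth.Agent.H8.AlgLCI.isLocalOnBase_fpqc_locP etGood_lcip flatBC_lcip))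
    (fun X Y Z hX hY hZ f g hf hg => by
      refine locP_comp' etGood_lcip hX hY hZ hf ?_
      intro U V a b h ha hb comm
      exact smooth_le_lcip _ _ _ (hg a b h ha hb comm))

/-- local complete intersection morphisms of algebraic spaces are smooth local on the
source-and-target -/
theorem isSmoothLocalST_isLCIMor : IsSmoothLocalST (AlgSp.IsLCIMor (S := S)) := by
  rw [isLCIMor_eq]
  exact isSmoothLocalST_locP_lcip

end Sp

section St

open Groth.Agent.H3 Groth.Agent.H3.SmSrc Groth.Agent.H3.AlgStLocQ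

variable {S : Scheme.{u}} {𝒳 𝒴 𝒵 : AlgSt.Cat S}

theorem main
    (h𝒳 : AlgSt.IsAlgStack Scheme.fppfPrecoverage 𝒳)
    (h𝒴 : AlgSt.IsAlgStack Scheme.fppfPrecoverage 𝒴)
    (h𝒵 : AlgSt.IsAlgStack Scheme.fppfPrecoverage 𝒵)
    (f : 𝒳 ⥤ᵇ 𝒴) (q : 𝒴 ⥤ᵇ 𝒵) (p : 𝒳 ⥤ᵇ 𝒵) (e : BasedFunctor.comp f q ≅ p)
    (hq : AlgSt.LocQ (AlgSp.LocP @Smooth) q) (hp : AlgSt.LocQ AlgSp.IsLCIMor p) :
    AlgSt.LocQ AlgSp.IsLCIMor f := by
  have hp' : AlgSt.LocQ AlgSp.IsLCIMor (BasedFunctor.comp f q) := locQ_of_iso e.symm hp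
  obtain ⟨U, V, W, x, y, z, h, k, α, β, δ, hx1, hx2, hy1, hy2, hz1, hz2, Hf, Hg, Hfg, -, -⟩ :=
    exists_comp_square h𝒳 h𝒴 h𝒵 f q
  have h1 : AlgSp.IsLCIMor ((AlgSp.yon S).map (h ≫ k)) := Hfg _ isSmoothLocalST_isLCIMor hp'
  have h2 : AlgSp.LocP @Smooth ((AlgSp.yon S).map k) := Hg _ isSmoothLocalST_smooth hq
  refine ⟨U, V, x, y, h, α, hx1, hx2, hy1, ?_⟩
  rw [Functor.map_comp] at h1
  exact Groth.Agent.H5.AlgSp.locP_of_comp (P := AlgSp.lci) (Pc := @Smooth)
    Groth.Agent.H8.AlgLCI.etale_le_lci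
    (fun u v h hv => Groth.Agent.H8.AlgLCI.lci_of_comp_smooth u v h hv)
    (AlgSp.IsAlgSpace.yon_obj W) h1 h2

end St

end Groth.Agent.H4.LciA
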