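import Mathlib

set_option autoImplicit false
universe u

namespace Groth.Agent.H4.LdA

open TensorProduct

variable {k : Type u} [Field k] {B C : Type u} [CommRing B] [CommRing C] [Algebra k B]
  [Algebra k C]

/-- the map `B ⊗ C' → B ⊗ C`. -/
noncomputable abbrev jj (C' : Subalgebra k C) : B ⊗[k] C' →ₐ[B] B ⊗[k] C :=
  Algebra.TensorProduct.map (AlgHom.id B B) C'.val

theorem mem_mono {C₁ C₂ : Subalgebra k C} (h : C₁ ≤ C₂) {x : B ⊗[k] C}
    (hx : x ∈ C₁.baseChange B) : x ∈ C₂.baseChange B := by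
  obtain ⟨y, rfl⟩ := (AlgHom.mem_range _).1 hx
  clear hx
  induction y using TensorProduct.induction_on with
  | zero => rw [map_zero]; exact zero_mem _
  | tmul b a =>
    rw [Algebra.TensorProduct.map_tmul]
    exact Subalgebra.tmul_mem_baseChange (h a.2) b
  | add y z hy hz => rw [map_add]; exact add_mem hy hz

theorem exists_fg (F : Finset (B ⊗[k] C)) :
    ∃ C' : Subalgebra k C, C'.FG ∧ ∀ x ∈ F, x ∈ C'.baseChange B := by
  classical
  induction F using Finset.induction_on with
  | empty => exact ⟨⊥, Subalgebra.fg_bot, by simp⟩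
  | insert x F hx ih =>
    obtain ⟨C₁, h1, h2⟩ := ih
    obtain ⟨C₂, h3, h4⟩ := exists_fg_and_mem_baseChange (R := k) (A := B) (B := C) x
    refine ⟨C₁ ⊔ C₂, h1.sup h3, ?_⟩
    intro y hy
    rcases Finset.mem_insert.1 hy with rfl | hy
    · exact mem_mono le_sup_right h4
    · exact mem_mono le_sup_left (h2 y hy)

section Fix

variable (C' : Subalgebra k C) (g' : B ⊗[k] C')

/-- the subalgebra of elements of the localization whose numerators come from `B ⊗ C'`. -/
noncomputable def Zsub : Subalgebra B (Localization.Away (jj C' g')) where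
  carrier := {z | ∃ (n : ℕ) (x' : B ⊗[k] C'),
    z * (algebraMap (B ⊗[k] C) (Localization.Away (jj C' g')) (jj C' g')) ^ n =
      algebraMap (B ⊗[k] C) (Localization.Away (jj C' g')) (jj C' x')}
  mul_mem' := by
    rintro z₁ z₂ ⟨n₁, x₁, h₁⟩ ⟨n₂, x₂, h₂⟩
    refine ⟨n₁ + n₂, x₁ * x₂, ?_⟩
    rw [map_mul, map_mul, ← h₁, ← h₂, pow_add]
    ring
  add_mem' := by
    rintro z₁ z₂ ⟨n₁, x₁, h₁⟩ ⟨n₂, x₂, h₂⟩
    refine ⟨n₁ + n₂, x₁ * g' ^ n₂ + x₂ * g' ^ n₁, ?_⟩
    rw [map_add, map_add, map_mul, map_mul, map_mul, map_mul, map_pow, map_pow, map_pow,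
      map_pow, ← h₁, ← h₂, pow_add]
    ring
  algebraMap_mem' := by
    intro b
    refine ⟨0, algebraMap B (B ⊗[k] C') b, ?_⟩
    rw [pow_zero, mul_one, AlgHom.commutes, ← IsScalarTower.algebraMap_apply]

theorem key5 (hZ : Zsub C' g' = ⊤) (c : C) :
    ∃ (N : ℕ) (x'' : B ⊗[k] C'), (jj C' g') ^ N * ((1 : B) ⊗ₜ[k] c) = jj C' x'' := by
  have hmem : algebraMap (B ⊗[k] C) (Localization.Away (jj C' g')) ((1 : B) ⊗ₜ[k] c) ∈
      Zsub C' g' := by
    rw [hZ]; exact Algebra.mem_top
  obtain ⟨n, x', h⟩ := hmem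
  rw [← map_pow, ← map_mul, IsLocalization.eq_iff_exists (Submonoid.powers (jj C' g'))] at h
  obtain ⟨c₀, h⟩ := h
  obtain ⟨m, hm⟩ := (Submonoid.mem_powers_iff _ _).1 c₀.2
  rw [← hm] at h
  refine ⟨m + n, g' ^ m * x', ?_⟩
  rw [map_mul, map_pow, pow_add]
  linear_combination h

/-- multiplication by `c` from `C'` to `C`. -/
noncomputable def mc (c : C) : C' →ₗ[k] C := (LinearMap.mulRight k c).comp C'.val.toLinearMap

noncomputable def muc (c : C) : C' →ₗ[k] C ⧸ (Subalgebra.toSubmodule C') :=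
  (Subalgebra.toSubmodule C').mkQ.comp (mc C' c)

theorem mem_ker_muc (c : C) (a : C') : a ∈ LinearMap.ker (muc C' c) ↔ (a : C) * c ∈ C' := by
  simp only [muc, mc, LinearMap.mem_ker, LinearMap.comp_apply, LinearMap.mulRight_apply,
    AlgHom.toLinearMap_apply, Subalgebra.coe_val, Submodule.mkQ_apply,
    Submodule.Quotient.mk_eq_zero, Subalgebra.mem_toSubmodule]

theorem key1 (c : C) (x' : B ⊗[k] C') :
    (muc C' c).lTensor B x' =
      (Subalgebra.toSubmodule C').mkQ.lTensor B (jj C' x' * ((1 : B) ⊗ₜ[k] c)) := by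
  induction x' using TensorProduct.induction_on with
  | zero => simp
  | tmul b a =>
    rw [LinearMap.lTensor_tmul, Algebra.TensorProduct.map_tmul,
      Algebra.TensorProduct.tmul_mul_tmul, LinearMap.lTensor_tmul, mul_one]
    rfl
  | add y z hy hz => rw [map_add, map_add, add_mul, map_add, hy, hz]

theorem key2 (x'' : B ⊗[k] C') :
    (Subalgebra.toSubmodule C').mkQ.lTensor B (jj C' x'') = 0 := by
  induction x'' using TensorProduct.induction_on with
  | zero => simp
  | tmul b a =>
    rw [Algebra.TensorProduct.map_tmul, LinearMap.lTensor_tmul]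
    have : (Subalgebra.toSubmodule C').mkQ (C'.val a) = 0 := by
      rw [Submodule.mkQ_apply, Submodule.Quotient.mk_eq_zero]; exact a.2
    rw [this, TensorProduct.tmul_zero]
  | add y z hy hz => rw [map_add, map_add, hy, hz, add_zero]

theorem key3 (c : C) (P' : Ideal (B ⊗[k] C'))
    (h : ∀ a : C', (a : C) * c ∈ C' → (1 : B) ⊗ₜ[k] a ∈ P')
    (ξ : B ⊗[k] (LinearMap.ker (muc C' c))) :
    (LinearMap.ker (muc C' c)).subtype.lTensor B ξ ∈ P' := by
  induction ξ using TensorProduct.induction_on with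
  | zero => rw [map_zero]; exact zero_mem _
  | tmul b a =>
    rw [LinearMap.lTensor_tmul]
    have e : b ⊗ₜ[k] ((LinearMap.ker (muc C' c)).subtype a) =
        (b ⊗ₜ[k] (1 : C')) * ((1 : B) ⊗ₜ[k] (a : C')) := by
      rw [Algebra.TensorProduct.tmul_mul_tmul, mul_one, one_mul]; rfl
    rw [e]
    exact Ideal.mul_mem_left _ _ (h a.1 ((mem_ker_muc C' c a.1).1 a.2))
  | add y z hy hz => rw [map_add]; exact add_mem hy hz

theorem key4 (c : C) (N : ℕ) (x'' : B ⊗[k] C')
    (hN : (jj C' g') ^ N * ((1 : B) ⊗ₜ[k] c) = jj C' x'')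
    (P' : Ideal (B ⊗[k] C')) [P'.IsPrime] (hg : g' ∉ P') :
    ∃ a : C', (a : C) * c ∈ C' ∧ (1 : B) ⊗ₜ[k] a ∉ P' := by
  by_contra hcon
  push Not at hcon
  have h0 : (muc C' c).lTensor B (g' ^ N) = 0 := by
    rw [key1, map_pow, hN, key2]
  have hex := Module.Flat.lTensor_exact B (LinearMap.exact_subtype_ker_map (muc C' c))
  obtain ⟨ξ, hξ⟩ := (hex (g' ^ N)).1 h0
  have := key3 C' c P' hcon ξ
  rw [hξ] at this
  exact hg (Ideal.IsPrime.mem_of_pow_mem inferInstance N this)

end Fix

theorem isOpenMap_includeRight (C₀ : Type u) [CommRing C₀] [Algebra k C₀] :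
    IsOpenMap (PrimeSpectrum.comap
      (Algebra.TensorProduct.includeRight : C₀ →ₐ[k] B ⊗[k] C₀).toRingHom) := by
  have e : (Algebra.TensorProduct.includeRight : C₀ →ₐ[k] B ⊗[k] C₀).toRingHom =
      ((Algebra.TensorProduct.comm k C₀ B).toAlgHom.toRingHom).comp
        (algebraMap C₀ (C₀ ⊗[k] B)) := by
    ext a
    simp [Algebra.TensorProduct.algebraMap_apply]
  rw [e, PrimeSpectrum.comap_comp]
  exact (PrimeSpectrum.isOpenMap_comap_algebraMap_tensorProduct_of_field).comp
    (PrimeSpectrum.isHomeomorph_comap_of_bijective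
      (Algebra.TensorProduct.comm k C₀ B).bijective).isOpenMap

theorem ld_alg (g : B ⊗[k] C) (hft : Algebra.FiniteType B (Localization.Away g))
    (Q : Ideal (B ⊗[k] C)) [Q.IsPrime] (hg : g ∉ Q) :
    ∃ c : C, (1 : B) ⊗ₜ[k] c ∉ Q ∧ Algebra.FiniteType k (Localization.Away c) := by
  classical
  obtain ⟨s, hs⟩ := hft.out
  have hnum : ∀ y : Localization.Away g, ∃ (n : ℕ) (x : B ⊗[k] C),
      y * (algebraMap (B ⊗[k] C) (Localization.Away g) g) ^ n = algebraMap _ _ x :=
    fun y => IsLocalization.Away.surj g y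
  choose nn xx hxx using hnum
  obtain ⟨C', hfg, hC'⟩ := exists_fg (insert g (s.image xx))
  obtain ⟨g', rfl⟩ := (AlgHom.mem_range _).1 (hC' g (Finset.mem_insert_self _ _))
  have hZ : Zsub C' g' = ⊤ := by
    rw [eq_top_iff, ← hs]
    refine Algebra.adjoin_le ?_
    intro y hy
    obtain ⟨x', hx'⟩ := (AlgHom.mem_range _).1
      (hC' (xx y) (Finset.mem_insert_of_mem (Finset.mem_image_of_mem _ hy)))
    exact ⟨nn y, x', by rw [hx']; exact hxx y⟩
  let Q' : Ideal (B ⊗[k] C') := Q.comap (jj C')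
  have hQ' : g' ∉ Q' := hg
  let incl : C' →+* B ⊗[k] C' :=
    (Algebra.TensorProduct.includeRight : C' →ₐ[k] B ⊗[k] C').toRingHom
  have hopen : IsOpen (PrimeSpectrum.comap incl '' (PrimeSpectrum.basicOpen g' : Set _)) :=
    isOpenMap_includeRight C' _ (PrimeSpectrum.basicOpen g').isOpen
  let q' : PrimeSpectrum C' := PrimeSpectrum.comap incl ⟨Q', inferInstance⟩
  have hq' : q' ∈ PrimeSpectrum.comap incl '' (PrimeSpectrum.basicOpen g' : Set _) :=
    ⟨⟨Q', inferInstance⟩, hQ', rfl⟩
  obtain ⟨_, ⟨c', rfl⟩, hc'1, hc'2⟩ :=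
    PrimeSpectrum.isTopologicalBasis_basic_opens.exists_subset_of_mem_open hq' hopen
  have hrad : ∀ c : C, ∃ n : ℕ, ((c' : C)) ^ n * c ∈ C' := by
    intro c
    obtain ⟨N, x'', hN⟩ := key5 C' g' hZ c
    let Ic : Ideal C' :=
      { carrier := {a | (a : C) * c ∈ C'}
        add_mem' := fun {a b} ha hb => by
          show ((a + b : C') : C) * c ∈ C'
          rw [Subalgebra.coe_add, add_mul]; exact add_mem ha hb
        zero_mem' := by
          show ((0 : C') : C) * c ∈ C'
          rw [Subalgebra.coe_zero, zero_mul]; exact zero_mem _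
        smul_mem' := fun r a ha => by
          show ((r • a : C') : C) * c ∈ C'
          rw [smul_eq_mul, Subalgebra.coe_mul, mul_assoc]; exact mul_mem r.2 ha }
    have hmem : c' ∈ Ic.radical := by
      rw [Ideal.radical_eq_sInf, Ideal.mem_sInf]
      rintro p' ⟨hle, hp'⟩
      by_contra hcp
      have h1 : (⟨p', hp'⟩ : PrimeSpectrum C') ∈
          PrimeSpectrum.comap incl '' (PrimeSpectrum.basicOpen g' : Set _) := hc'2 hcp
      obtain ⟨P', hP'g, hP'⟩ := h1
      haveI := P'.2
      obtain ⟨a, ha1, ha2⟩ := key4 C' g' c N x'' hN P'.asIdeal hP'g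
      apply ha2
      have h2 : a ∈ (PrimeSpectrum.comap incl P').asIdeal := by
        rw [hP']; exact hle ha1
      exact h2
    obtain ⟨n, hn⟩ := hmem
    have hn' : ((c' ^ n : C') : C) * c ∈ C' := hn
    rw [Subalgebra.coe_pow] at hn'
    exact ⟨n, hn'⟩
  refine ⟨C'.val.toRingHom c', ?_, ?_⟩
  · intro h
    apply hc'1
    show jj C' ((1 : B) ⊗ₜ[k] c') ∈ Q
    rw [Algebra.TensorProduct.map_tmul]
    simpa using h
  · have hsurj : Function.Surjective (Localization.awayMap C'.val.toRingHom c') := by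
      rw [Localization.awayMap_surjective_iff]
      intro c
      obtain ⟨n, hn⟩ := hrad c
      exact ⟨⟨_, hn⟩, n, rfl⟩
    have h1 : (algebraMap k C').FiniteType := by
      haveI : Algebra.FiniteType k C' := (Subalgebra.fg_iff_finiteType C').1 hfg
      exact RingHom.finiteType_algebraMap.2 this
    have h2 : (algebraMap C' (Localization.Away c')).FiniteType := by
      haveI : Algebra.FinitePresentation C' (Localization.Away c') :=
        IsLocalization.Away.finitePresentation c'
      exact RingHom.finiteType_algebraMap.2 inferInstance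
    have h3 : (Localization.awayMap C'.val.toRingHom c').FiniteType :=
      RingHom.FiniteType.of_surjective _ hsurj
    have h4 := (h3.comp h2).comp h1
    have e : ((Localization.awayMap C'.val.toRingHom c').comp
        (algebraMap C' (Localization.Away c'))).comp (algebraMap k C') =
        algebraMap k (Localization.Away (C'.val.toRingHom c')) := by
      ext r
      simp only [RingHom.comp_apply, Localization.awayMap, IsLocalization.Away.map,
        IsLocalization.map_eq]
      rw [AlgHom.toRingHom_eq_coe, RingHom.coe_coe, AlgHom.commutes,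
        ← IsScalarTower.algebraMap_apply]
    rw [e] at h4
    exact RingHom.finiteType_algebraMap.1 h4

end Groth.Agent.H4.LdA
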