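import Mathlib
import Groth.Agent.H4.LdA

set_option autoImplicit false
universe u

namespace Groth.Agent.H4.LdB

open AlgebraicGeometry CategoryTheory CategoryTheory.Limits TensorProduct

variable {k : Type u} [Field k]

/-- affine version of local descent of "locally of finite type" along a projection over a field. -/
theorem ld_affine (B C : Type u) [CommRing B] [CommRing C] [Algebra k B] [Algebra k C]
    (N' : (pullback (Spec.map (CommRingCat.ofHom (algebraMap k B)))
      (Spec.map (CommRingCat.ofHom (algebraMap k C)))).Opens)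
    (w : ↥(pullback (Spec.map (CommRingCat.ofHom (algebraMap k B)))
      (Spec.map (CommRingCat.ofHom (algebraMap k C))))) (hw : w ∈ N')
    (h : LocallyOfFiniteType (N'.ι ≫ pullback.fst _ _)) :
    ∃ N : (Spec (CommRingCat.of C)).Opens,
      (pullback.snd (Spec.map (CommRingCat.ofHom (algebraMap k B)))
        (Spec.map (CommRingCat.ofHom (algebraMap k C)))) w ∈ N ∧
      LocallyOfFiniteType (N.ι ≫ Spec.map (CommRingCat.ofHom (algebraMap k C))) := by
  set w'' : ↥(Spec (CommRingCat.of (B ⊗[k] C))) := (pullbackSpecIso k B C).hom w with hw''def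
  let N'' : (Spec (CommRingCat.of (B ⊗[k] C))).Opens := (pullbackSpecIso k B C).inv ⁻¹ᵁ N'
  have hw'' : w'' ∈ N'' := by
    show (pullbackSpecIso k B C).inv ((pullbackSpecIso k B C).hom w) ∈ N'
    rw [← Scheme.Hom.comp_apply, Iso.hom_inv_id]
    exact hw
  have hw''' : w'' ∈ (N'' : Set ↥(Spec (CommRingCat.of (B ⊗[k] C)))) := hw''
  obtain ⟨_, ⟨g, rfl⟩, hg1, hg2⟩ :=
    (PrimeSpectrum.isTopologicalBasis_basic_opens (R := B ⊗[k] C)).exists_subset_of_mem_open
      hw''' N''.2
  let ιg : Spec (CommRingCat.of (Localization.Away g)) ⟶ Spec (CommRingCat.of (B ⊗[k] C)) :=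
    Spec.map (CommRingCat.ofHom (algebraMap (B ⊗[k] C) (Localization.Away g)))
  have hιg : ιg.opensRange = PrimeSpectrum.basicOpen g :=
    Scheme.Hom.opensRange_localizationAway (R := CommRingCat.of (B ⊗[k] C)) g
  have hrange : Set.range (ιg ≫ (pullbackSpecIso k B C).inv).base ⊆ Set.range N'.ι.base := by
    rintro _ ⟨z, rfl⟩
    rw [Scheme.Opens.range_ι]
    have hz : ιg z ∈ ιg.opensRange := ⟨z, rfl⟩
    rw [hιg] at hz
    exact hg2 hz
  let lam : Spec (CommRingCat.of (Localization.Away g)) ⟶ (N' : Scheme) :=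
    IsOpenImmersion.lift N'.ι (ιg ≫ (pullbackSpecIso k B C).inv) hrange
  have hlam : lam ≫ N'.ι = ιg ≫ (pullbackSpecIso k B C).inv := IsOpenImmersion.lift_fac _ _ _
  haveI : LocallyOfFiniteType lam := by
    haveI : LocallyOfFiniteType (lam ≫ N'.ι) := by rw [hlam]; infer_instance
    exact locallyOfFiniteType_of_comp lam N'.ι
  have h1 : LocallyOfFiniteType (lam ≫ N'.ι ≫ pullback.fst _ _) := by
    haveI := h; infer_instance
  have h2 : lam ≫ N'.ι ≫ pullback.fst _ _ =
      Spec.map (CommRingCat.ofHom (algebraMap B (Localization.Away g))) := by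
    rw [← Category.assoc, hlam, Category.assoc, pullbackSpecIso_inv_fst', ← Spec.map_comp,
      ← CommRingCat.ofHom_comp, ← IsScalarTower.algebraMap_eq]
  rw [h2, HasRingHomProperty.Spec_iff (P := @LocallyOfFiniteType)] at h1
  have hft : Algebra.FiniteType B (Localization.Away g) := RingHom.finiteType_algebraMap.1 h1
  haveI : (w'' : PrimeSpectrum (B ⊗[k] C)).asIdeal.IsPrime := (w'' : PrimeSpectrum _).2
  obtain ⟨c, hc1, hc2⟩ :=
    Groth.Agent.H4.LdA.ld_alg g hft (w'' : PrimeSpectrum (B ⊗[k] C)).asIdeal hg1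
  let ιc : Spec (CommRingCat.of (Localization.Away c)) ⟶ Spec (CommRingCat.of C) :=
    Spec.map (CommRingCat.ofHom (algebraMap C (Localization.Away c)))
  have hιc : ιc.opensRange = PrimeSpectrum.basicOpen c :=
    Scheme.Hom.opensRange_localizationAway (R := CommRingCat.of C) c
  refine ⟨ιc.opensRange, ?_, ?_⟩
  · rw [hιc, ← pullbackSpecIso_hom_snd, Scheme.Hom.comp_apply, Spec.map_apply]
    exact hc1
  · refine (MorphismProperty.cancel_left_of_respectsIso @LocallyOfFiniteType
      ιc.isoOpensRange.hom _).1 ?_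
    rw [← Category.assoc, Scheme.Hom.isoOpensRange_hom_ι, ← Spec.map_comp,
      ← CommRingCat.ofHom_comp, ← IsScalarTower.algebraMap_eq,
      HasRingHomProperty.Spec_iff (P := @LocallyOfFiniteType)]
    exact RingHom.finiteType_algebraMap.2 hc2

/-- local descent of "locally of finite type" along a projection over a field. -/
theorem ld_sch {X Y : Scheme.{u}} (a : X ⟶ Spec (CommRingCat.of k))
    (b : Y ⟶ Spec (CommRingCat.of k))
    (N' : (pullback a b).Opens) (w : ↥(pullback a b)) (hw : w ∈ N')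
    (h : LocallyOfFiniteType (N'.ι ≫ pullback.fst a b)) :
    ∃ N : Y.Opens, pullback.snd a b w ∈ N ∧ LocallyOfFiniteType (N.ι ≫ b) := by
  obtain ⟨U, hU, hxU⟩ : ∃ U : X.Opens, IsAffineOpen U ∧ pullback.fst a b w ∈ U :=
    ⟨_, isAffineOpen_opensRange (X.affineCover.f _), X.affineCover.covers _⟩
  obtain ⟨V, hV, hyV⟩ : ∃ V : Y.Opens, IsAffineOpen V ∧ pullback.snd a b w ∈ V :=
    ⟨_, isAffineOpen_opensRange (Y.affineCover.f _), Y.affineCover.covers _⟩
  let φB : CommRingCat.of k ⟶ Γ(X, U) := Spec.preimage (hU.fromSpec ≫ a)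
  let φC : CommRingCat.of k ⟶ Γ(Y, V) := Spec.preimage (hV.fromSpec ≫ b)
  have hφB : Spec.map φB = hU.fromSpec ≫ a := Spec.map_preimage _
  have hφC : Spec.map φC = hV.fromSpec ≫ b := Spec.map_preimage _
  letI : Algebra k Γ(X, U) := φB.hom.toAlgebra
  letI : Algebra k Γ(Y, V) := φC.hom.toAlgebra
  have eB : CommRingCat.ofHom (algebraMap k Γ(X, U)) = φB := rfl
  have eC : CommRingCat.ofHom (algebraMap k Γ(Y, V)) = φC := rfl
  let θ : pullback (Spec.map (CommRingCat.ofHom (algebraMap k Γ(X, U))))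
      (Spec.map (CommRingCat.ofHom (algebraMap k Γ(Y, V)))) ⟶ pullback a b :=
    pullback.map _ _ a b hU.fromSpec hV.fromSpec (𝟙 _)
      (by rw [Category.comp_id, eB, hφB]) (by rw [Category.comp_id, eC, hφC])
  have hθ1 : θ ≫ pullback.fst a b = pullback.fst _ _ ≫ hU.fromSpec := pullback.lift_fst _ _ _
  have hθ2 : θ ≫ pullback.snd a b = pullback.snd _ _ ≫ hV.fromSpec := pullback.lift_snd _ _ _
  obtain ⟨w₀, hw₀⟩ : ∃ w₀, θ w₀ = w := by
    have : w ∈ Set.range θ := by
      rw [Scheme.Pullback.range_map]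
      refine ⟨?_, ?_⟩
      · show pullback.fst a b w ∈ Set.range hU.fromSpec
        rw [hU.range_fromSpec]; exact hxU
      · show pullback.snd a b w ∈ Set.range hV.fromSpec
        rw [hV.range_fromSpec]; exact hyV
    exact this
  have hlft : LocallyOfFiniteType ((θ ⁻¹ᵁ N').ι ≫ pullback.fst _ _) := by
    have e : ((θ ⁻¹ᵁ N').ι ≫ pullback.fst _ _) ≫ hU.fromSpec =
        (θ ∣_ N') ≫ N'.ι ≫ pullback.fst a b := by
      rw [← Category.assoc (θ ∣_ N'), morphismRestrict_ι, Category.assoc, Category.assoc, hθ1]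
    haveI : LocallyOfFiniteType (θ ∣_ N') :=
      IsZariskiLocalAtTarget.restrict (P := @LocallyOfFiniteType) inferInstance N'
    haveI := h
    haveI : LocallyOfFiniteType (((θ ⁻¹ᵁ N').ι ≫ pullback.fst _ _) ≫ hU.fromSpec) := by
      rw [e]; infer_instance
    exact locallyOfFiniteType_of_comp _ hU.fromSpec
  obtain ⟨N₀, hN₀1, hN₀2⟩ := ld_affine Γ(X, U) Γ(Y, V) (θ ⁻¹ᵁ N') w₀
    (by show θ w₀ ∈ N'; rw [hw₀]; exact hw) hlft
  refine ⟨hV.fromSpec ''ᵁ N₀, ?_, ?_⟩
  · have e : pullback.snd a b w = hV.fromSpec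
        ((pullback.snd (Spec.map (CommRingCat.ofHom (algebraMap k Γ(X, U))))
          (Spec.map (CommRingCat.ofHom (algebraMap k Γ(Y, V))))) w₀) := by
      rw [← hw₀, ← Scheme.Hom.comp_apply, hθ2, Scheme.Hom.comp_apply]
    rw [e]
    exact ⟨_, hN₀1, rfl⟩
  · refine (MorphismProperty.cancel_left_of_respectsIso @LocallyOfFiniteType
      (hV.fromSpec.isoImage N₀).hom _).1 ?_
    rw [← Category.assoc, Scheme.Hom.isoImage_hom_ι, Category.assoc, ← hφC, ← eC]
    exact hN₀2

end Groth.Agent.H4.LdB
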