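import Mathlib
import Groth.Agent.H4.LdB
import Groth.Agent.Lib.Helper1.GrpArt
import Groth.Agent.S5338

set_option autoImplicit false
universe u

namespace Groth.Agent.H4.LdC

open CategoryTheory CategoryTheory.Limits MonoidalCategory CartesianMonoidalCategory MonObj GrpObj
  AlgebraicGeometry TensorProduct
open Groth.Agent.H1.CritFib Groth.Agent.H9.FLH Groth.Agent.H1.GrpFibHom Groth.Agent.H1.GrpLoci
  Groth.Agent.H1.GrpArt

/-- nilpotent Nakayama for finite type, through the residue field of an artinian local ring. -/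
theorem nak_ft (A C : Type u) [CommRing A] [IsLocalRing A] [IsArtinianRing A] [CommRing C]
    [Algebra A C]
    (h : Algebra.FiniteType (IsLocalRing.ResidueField A) (IsLocalRing.ResidueField A ⊗[A] C)) :
    Algebra.FiniteType A C := by
  have hn : IsNilpotent (IsLocalRing.maximalIdeal A) := by
    rw [← IsLocalRing.jacobson_eq_maximalIdeal (⊥ : Ideal A) bot_ne_top]
    exact IsArtinianRing.isNilpotent_jacobson_bot
  refine (Groth.Agent.S5338.result A A C (IsLocalRing.maximalIdeal A) hn).1 ?_
  have h1 : Algebra.FiniteType A (IsLocalRing.ResidueField A) :=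
    Algebra.FiniteType.of_surjective (Algebra.ofId A (IsLocalRing.ResidueField A))
      IsLocalRing.residue_surjective
  have h2 : Algebra.FiniteType A (IsLocalRing.ResidueField A ⊗[A] C) :=
    Algebra.FiniteType.trans h1 h
  set mC := ((IsLocalRing.maximalIdeal A).map (algebraMap A A)).map (algebraMap A C) with hmC
  have hg : ∀ a ∈ IsLocalRing.maximalIdeal A, (Algebra.ofId A (C ⧸ mC)) a = 0 := by
    intro a ha
    show algebraMap A (C ⧸ mC) a = 0
    rw [← Ideal.Quotient.mk_algebraMap, Ideal.Quotient.eq_zero_iff_mem]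
    exact Ideal.mem_map_of_mem _ (Ideal.mem_map_of_mem (algebraMap A A) ha)
  let g : IsLocalRing.ResidueField A →ₐ[A] C ⧸ mC :=
    Ideal.Quotient.liftₐ (IsLocalRing.maximalIdeal A) (Algebra.ofId A (C ⧸ mC)) hg
  let σ : IsLocalRing.ResidueField A ⊗[A] C →ₐ[A] C ⧸ mC :=
    Algebra.TensorProduct.lift g (Ideal.Quotient.mkₐ A mC) (fun _ _ => Commute.all _ _)
  have hσ : Function.Surjective σ := by
    intro y
    obtain ⟨c, rfl⟩ := Ideal.Quotient.mk_surjective y
    exact ⟨1 ⊗ₜ c, by simp [σ]⟩
  haveI : Algebra.FiniteType A (C ⧸ mC) := by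
    haveI := h2
    exact Algebra.FiniteType.of_surjective σ hσ
  exact Algebra.FiniteType.of_restrictScalars_finiteType A _ _

/-- a morphism to the spectrum of an artinian local ring is locally of finite type if its
base change to the residue field is. -/
theorem lft_of_residue {A : Type u} [CommRing A] [IsLocalRing A] [IsArtinianRing A]
    {X : Scheme.{u}} (f : X ⟶ Spec (CommRingCat.of A))
    (h : LocallyOfFiniteType
      (pullback.snd f (Spec.map (CommRingCat.ofHom (IsLocalRing.residue A))))) :
    LocallyOfFiniteType f := by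
  rw [IsZariskiLocalAtSource.iff_of_iSup_eq_top (P := @LocallyOfFiniteType) _
    (iSup_affineOpens_eq_top X)]
  intro U
  have hU := U.2
  refine (MorphismProperty.cancel_left_of_respectsIso @LocallyOfFiniteType
    hU.isoSpec.inv _).1 ?_
  rw [← Category.assoc, hU.isoSpec_inv_ι]
  let φ : CommRingCat.of A ⟶ Γ(X, U.1) := Spec.preimage (hU.fromSpec ≫ f)
  have hφ : Spec.map φ = hU.fromSpec ≫ f := Spec.map_preimage _
  rw [← hφ]
  letI : Algebra A Γ(X, U.1) := φ.hom.toAlgebra
  have eφ : CommRingCat.ofHom (algebraMap A Γ(X, U.1)) = φ := rfl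
  set j := Spec.map (CommRingCat.ofHom (IsLocalRing.residue A)) with hj
  let θ : pullback (Spec.map φ) j ⟶ pullback f j :=
    pullback.map _ _ f j hU.fromSpec (𝟙 _) (𝟙 _) (by rw [Category.comp_id, hφ]) (by simp)
  have hθ : θ ≫ pullback.snd f j = pullback.snd (Spec.map φ) j := by
    rw [show θ ≫ pullback.snd f j = pullback.snd _ _ ≫ 𝟙 _ from pullback.lift_snd _ _ _,
      Category.comp_id]
  have h1 : LocallyOfFiniteType (pullback.snd (Spec.map φ) j) := by
    rw [← hθ]; haveI := h; infer_instance
  have h2 : LocallyOfFiniteType (pullback.fst j (Spec.map φ)) := by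
    rw [← pullbackSymmetry_hom_comp_snd]; infer_instance
  have h3 : LocallyOfFiniteType (Spec.map (CommRingCat.ofHom
      (algebraMap (IsLocalRing.ResidueField A) (IsLocalRing.ResidueField A ⊗[A] Γ(X, U.1))))) := by
    rw [← pullbackSpecIso_inv_fst']
    haveI : LocallyOfFiniteType
        (pullback.fst (Spec.map (CommRingCat.ofHom (algebraMap A (IsLocalRing.ResidueField A))))
          (Spec.map (CommRingCat.ofHom (algebraMap A Γ(X, U.1))))) := h2
    infer_instance
  rw [HasRingHomProperty.Spec_iff (P := @LocallyOfFiniteType)] at h3 ⊢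
  have h4 := nak_ft A Γ(X, U.1) (RingHom.finiteType_algebraMap.1 h3)
  exact RingHom.finiteType_algebraMap.2 h4

/-- field case: a group scheme over a field with a nonempty open locally of finite type is
locally of finite type. -/
theorem lft_field {k : Type u} [Field k] (G : Over (Spec (CommRingCat.of k))) [GrpObj G]
    (W : G.left.Opens) (hW : (W : Set G.left).Nonempty)
    (h : LocallyOfFiniteType (W.ι ≫ G.hom)) : LocallyOfFiniteType G.hom := by
  obtain ⟨x₀, hx₀⟩ := hW
  haveI : Subsingleton ↥(Spec (CommRingCat.of k)) :=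
    inferInstanceAs (Subsingleton (PrimeSpectrum k))
  have key : ∀ x : G.left, ∃ N : G.left.Opens, x ∈ N ∧
      LocallyOfFiniteType (N.ι ≫ G.hom) := by
    intro x
    refine transfer (G := G)
      (fun x => ∃ N : G.left.Opens, x ∈ N ∧ LocallyOfFiniteType (N.ι ≫ G.hom))
      (fun w => ∃ N' : (G ⊗ G).left.Opens, w ∈ N' ∧
        LocallyOfFiniteType (N'.ι ≫ (fst G G).left)) ?_ ?_ x₀ x ⟨W, hx₀, h⟩
    · intro w
      constructor
      · rintro ⟨N', hw, hN'⟩
        exact Groth.Agent.H4.LdB.ld_sch G.hom G.hom N' w hw hN'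
      · rintro ⟨N, hw, hN⟩
        exact ⟨(snd G G).left ⁻¹ᵁ N, hw,
          H5.DF.nhd_baseChange @LocallyOfFiniteType
            (IsPullback.of_hasPullback G.hom G.hom).flip N hN⟩
    · rintro w ⟨N', hw, hN'⟩
      refine ⟨(shear (regAction G)).left ⁻¹ᵁ N', hw, ?_⟩
      have hsq : IsPullback (shear (regAction G)).left (fst G G).left (fst G G).left
          (𝟙 G.left) := by
        refine IsPullback.of_horiz_isIso ⟨?_⟩
        rw [Category.comp_id, ← Over.comp_left]
        congr 1
        exact lift_fst _ _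
      exact H5.DF.nhd_baseChange @LocallyOfFiniteType hsq N' hN'
  choose N hN1 hN2 using key
  have hcov : ⨆ x, N x = ⊤ := by
    rw [eq_top_iff]
    intro x _
    exact TopologicalSpace.Opens.mem_iSup.2 ⟨x, hN1 x⟩
  rw [IsZariskiLocalAtSource.iff_of_iSup_eq_top (P := @LocallyOfFiniteType) _ hcov]
  exact hN2

theorem s5340 (A : Type u) [CommRing A] [IsArtinianRing A] [IsLocalRing A]
    (G : Over (Spec (CommRingCat.of A))) [GrpObj G]
    (W : G.left.Opens) (hW : (W : Set G.left).Nonempty)
    (h : LocallyOfFiniteType (W.ι ≫ G.hom)) : LocallyOfFiniteType G.hom := by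
  apply lft_of_residue G.hom
  set j := Spec.map (CommRingCat.ofHom (IsLocalRing.residue A)) with hj
  let G₀ : Over (Spec (CommRingCat.of (IsLocalRing.ResidueField A))) := (Over.pullback j).obj G
  haveI : GrpObj G₀ := Functor.grpObjObj
  show LocallyOfFiniteType G₀.hom
  let W₀ : G₀.left.Opens := (pullback.fst G.hom j) ⁻¹ᵁ W
  refine lft_field G₀ W₀ ?_ ?_
  · obtain ⟨x, hx⟩ := hW
    haveI : Surjective j :=
      ⟨fun x => ⟨(⟨⊥, Ideal.isPrime_bot⟩ : PrimeSpectrum (IsLocalRing.ResidueField A)),
        Subsingleton.elim _ _⟩⟩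
    haveI : Surjective (pullback.fst G.hom j) :=
      MorphismProperty.pullback_fst (P := @Surjective) G.hom j inferInstance
    obtain ⟨x₀, hx₀⟩ := (pullback.fst G.hom j).surjective x
    exact ⟨x₀, by show pullback.fst G.hom j x₀ ∈ W; rw [hx₀]; exact hx⟩
  · exact H5.DF.nhd_baseChange @LocallyOfFiniteType (IsPullback.of_hasPullback G.hom j) W h

end Groth.Agent.H4.LdC
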