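import Mathlib
import Groth.Agent.H4.LdC
import Groth.Agent.Lib.Helper1.UnrFib

set_option autoImplicit false
universe u

namespace Groth.Agent.H4.LdD

open CategoryTheory CategoryTheory.Limits MonoidalCategory CartesianMonoidalCategory MonObj GrpObj
  AlgebraicGeometry
open Groth.Agent.H1

/-- a section of a formally unramified morphism locally of finite type is an open immersion. -/
theorem isOpenImmersion_of_section {X S : Scheme.{u}} (q : X ⟶ S) [FormallyUnramified q]
    [LocallyOfFiniteType q] (s : S ⟶ X) (hs : s ≫ q = 𝟙 S) : IsOpenImmersion s := by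
  have hle : (@FormallyUnramified ⊓ @LocallyOfFiniteType : MorphismProperty Scheme.{u}) ≤
      (@IsOpenImmersion : MorphismProperty Scheme.{u}).diagonal := by
    intro X Y f hf
    haveI : FormallyUnramified f := hf.1
    haveI : LocallyOfFiniteType f := hf.2
    exact (inferInstance : IsOpenImmersion (pullback.diagonal f))
  haveI := (MorphismProperty.hasOfPostcompProperty_iff_le_diagonal
    (P := @IsOpenImmersion)).2 hle
  exact MorphismProperty.of_postcomp (W := @IsOpenImmersion)
    (W' := @FormallyUnramified ⊓ @LocallyOfFiniteType) s q ⟨inferInstance, inferInstance⟩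
    (by rw [hs]; infer_instance)

variable {S : Scheme.{u}} (G : Over S) [GrpObj G]

/-- the fibres of a group scheme whose unit section is an open immersion are unramified. -/
theorem fib_unram (hε : IsOpenImmersion (GrpFib.unitSec G)) (s : S) :
    FormallyUnramified (G.hom.fiberToSpecResidueField s) ∧
      LocallyOfFinitePresentation (G.hom.fiberToSpecResidueField s) := by
  haveI := hε
  let W : G.left.Opens := (GrpFib.unitSec G).opensRange
  have e : (GrpFib.unitSec G).isoOpensRange.hom ≫ (W.ι ≫ G.hom) = 𝟙 S := by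
    rw [← Category.assoc, Scheme.Hom.isoOpensRange_hom_ι, GrpFib.unitSec_comp]
  have hOI : IsOpenImmersion (W.ι ≫ G.hom) := by
    have h : W.ι ≫ G.hom = (GrpFib.unitSec G).isoOpensRange.inv := by
      rw [← cancel_epi (GrpFib.unitSec G).isoOpensRange.hom, e, Iso.hom_inv_id]
    rw [h]; infer_instance
  let F := GrpFib.fib G s
  let W₀ : F.left.Opens := (pullback.fst G.hom (S.fromSpecResidueField s)) ⁻¹ᵁ W
  have hOI₀ : IsOpenImmersion (W₀.ι ≫ F.hom) :=
    H5.DF.nhd_baseChange @IsOpenImmersion
      (IsPullback.of_hasPullback G.hom (S.fromSpecResidueField s)) W hOI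
  have hne : (W₀ : Set F.left).Nonempty := by
    obtain ⟨x', hx'1, -⟩ := Scheme.Pullback.exists_preimage_pullback (f := G.hom)
      (g := S.fromSpecResidueField s) (GrpFib.unitSec G s)
      (⟨⊥, Ideal.isPrime_bot⟩ : PrimeSpectrum (S.residueField s))
      (by rw [GrpFib.hom_unitSec]; exact (Scheme.fromSpecResidueField_apply s _).symm)
    exact ⟨x', by show pullback.fst G.hom (S.fromSpecResidueField s) x' ∈ W; rw [hx'1]; exact ⟨s, rfl⟩⟩
  haveI : Subsingleton ↥(Spec (CommRingCat.of (S.residueField s))) :=
    inferInstanceAs (Subsingleton (PrimeSpectrum (S.residueField s)))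
  haveI hlft : LocallyOfFiniteType F.hom :=
    Groth.Agent.H4.LdC.lft_field F W₀ hne inferInstance
  haveI : LocallyOfFiniteType (toUnit F).left := hlft
  have hFU : FormallyUnramified (toUnit F).left :=
    GrpArt.unram_of_open (toUnit F) W₀ hne (inferInstanceAs (FormallyUnramified (W₀.ι ≫ F.hom)))
  exact ⟨hFU, EtNhd.lfp_of_lft_of_noetherian F.hom⟩

theorem s5318 (S : Scheme.{u}) (G : Over S) [GrpObj G] :
    (IsOpenImmersion η[G].left ↔
      ((∃ W : G.left.Opens, (∀ p : ↥(𝟙_ (Over S)).left, η[G].left.base p ∈ W) ∧ LocallyOfFinitePresentation (W.ι ≫ G.hom)) ∧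
        ∀ s : S, FormallyUnramified (G.hom.fiberToSpecResidueField s) ∧ LocallyOfFinitePresentation (G.hom.fiberToSpecResidueField s))) ∧
    (LocallyOfFinitePresentation G.hom → (IsOpenImmersion η[G].left ↔ FormallyUnramified G.hom)) := by
  refine ⟨⟨fun hε => ⟨?_, fun s => fib_unram G hε s⟩, ?_⟩, fun hlfp => ⟨fun hε => ?_, fun hFU => ?_⟩⟩
  · haveI : IsOpenImmersion (GrpFib.unitSec G) := hε
    refine ⟨(GrpFib.unitSec G).opensRange, fun p => ⟨p, rfl⟩, ?_⟩
    have e : (GrpFib.unitSec G).isoOpensRange.hom ≫
        ((GrpFib.unitSec G).opensRange.ι ≫ G.hom) = 𝟙 S := by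
      rw [← Category.assoc, Scheme.Hom.isoOpensRange_hom_ι, GrpFib.unitSec_comp]
    have h : (GrpFib.unitSec G).opensRange.ι ≫ G.hom = (GrpFib.unitSec G).isoOpensRange.inv := by
      rw [← cancel_epi (GrpFib.unitSec G).isoOpensRange.hom, e, Iso.hom_inv_id]
    rw [h]; infer_instance
  · rintro ⟨⟨W, hW1, hW2⟩, hfib⟩
    haveI := hW2
    have hFU : FormallyUnramified (W.ι ≫ G.hom) := by
      refine UnrFib.formallyUnramified_of_fiberToSpecResidueField _ fun y => ?_
      let θ : pullback (W.ι ≫ G.hom) (S.fromSpecResidueField y) ⟶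
          pullback G.hom (S.fromSpecResidueField y) :=
        pullback.map _ _ _ _ W.ι (𝟙 _) (𝟙 _) (by simp) (by simp)
      have hθ : θ ≫ pullback.snd G.hom (S.fromSpecResidueField y) =
          pullback.snd (W.ι ≫ G.hom) (S.fromSpecResidueField y) := by
        rw [show θ ≫ pullback.snd G.hom (S.fromSpecResidueField y) = pullback.snd _ _ ≫ 𝟙 _ from
          pullback.lift_snd _ _ _, Category.comp_id]
      show FormallyUnramified (pullback.snd (W.ι ≫ G.hom) (S.fromSpecResidueField y))
      rw [← hθ]
      haveI : FormallyUnramified (pullback.snd G.hom (S.fromSpecResidueField y)) := (hfib y).1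
      haveI : IsOpenImmersion θ := inferInstance
      haveI : Etale θ := inferInstance
      haveI : FormallyUnramified θ := inferInstance
      exact MorphismProperty.comp_mem (W := @FormallyUnramified) θ _ inferInstance inferInstance
    have hr : Set.range (GrpFib.unitSec G).base ⊆ Set.range W.ι.base := by
      rintro _ ⟨p, rfl⟩
      rw [Scheme.Opens.range_ι]
      exact hW1 p
    let ε' : S ⟶ (W : Scheme) := IsOpenImmersion.lift W.ι (GrpFib.unitSec G) hr
    have hε' : ε' ≫ W.ι = GrpFib.unitSec G := IsOpenImmersion.lift_fac _ _ _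
    haveI : IsOpenImmersion ε' := isOpenImmersion_of_section (W.ι ≫ G.hom) ε'
      (by rw [← Category.assoc, hε', GrpFib.unitSec_comp])
    show IsOpenImmersion (GrpFib.unitSec G)
    rw [← hε']; infer_instance
  · haveI := hlfp
    exact UnrFib.formallyUnramified_of_fiberToSpecResidueField _ fun y => (fib_unram G hε y).1
  · haveI := hlfp
    haveI := hFU
    exact isOpenImmersion_of_section G.hom (GrpFib.unitSec G) (GrpFib.unitSec_comp G)

end Groth.Agent.H4.LdD
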