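import Mathlib

/-!
# Locally (fpqc) trivial bundles are principal: scheme-level lemmas

* `bc_squares`: the shear map `Ψ = (act, pr) : HP ⟶ P ×_X P` is compatible with base change
  `c : X₁ ⟶ X`.
* `isIso_of_locally`: if Zariski-locally on `X` the shear map becomes an isomorphism after an fpqc
  base change, it is an isomorphism.
* `isPullback_act1`: in a cartesian monoidal category, `G ⊗ (T ⊗ G) ⟶ (T ⊗ G) ×_T (T ⊗ G)` is an iso.
-/

set_option autoImplicit false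

universe u

open CategoryTheory CategoryTheory.Limits AlgebraicGeometry MorphismProperty

namespace Groth.Agent.H4.LiA

section Cat

variable {C : Type*} [Category C]

lemma isIso_lift_of_isPullback {A X Y Z : C} {f : X ⟶ Z} {g : Y ⟶ Z} [HasPullback f g]
    {a : A ⟶ X} {b : A ⟶ Y} (h : IsPullback a b f g) : IsIso (pullback.lift a b h.w) := by
  have e : pullback.lift a b h.w = h.isoPullback.hom := by
    apply pullback.hom_ext
    · rw [pullback.lift_fst, IsPullback.isoPullback_hom_fst]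
    · rw [pullback.lift_snd, IsPullback.isoPullback_hom_snd]
  rw [e]
  infer_instance

variable [HasPullbacks C]
variable {P X HP P₁ X₁ HP₁ : C} {p : P ⟶ X} {act pr : HP ⟶ P} (hinv : act ≫ p = pr ≫ p)
  {p₁ : P₁ ⟶ X₁} {act₁ pr₁ : HP₁ ⟶ P₁} (hinv₁ : act₁ ≫ p₁ = pr₁ ≫ p₁)
  {c : X₁ ⟶ X} {Φ : P₁ ⟶ P} {HΦ : HP₁ ⟶ HP}

include hinv hinv₁ in
theorem bc_squares (sqP : IsPullback Φ p₁ p c) (sqH : IsPullback HΦ pr₁ pr Φ)
    (hact : HΦ ≫ act = act₁ ≫ Φ) :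
    ∃ κ : pullback p₁ p₁ ⟶ pullback p p,
      IsPullback κ (pullback.snd p₁ p₁ ≫ p₁) (pullback.snd p p ≫ p) c ∧
      IsPullback (pullback.lift act₁ pr₁ hinv₁) HΦ κ (pullback.lift act pr hinv) := by
  obtain ⟨κ, hκ1, hκ2⟩ : ∃ κ : pullback p₁ p₁ ⟶ pullback p p,
      κ ≫ pullback.fst p p = pullback.fst p₁ p₁ ≫ Φ ∧
      κ ≫ pullback.snd p p = pullback.snd p₁ p₁ ≫ Φ :=
    ⟨pullback.lift (pullback.fst p₁ p₁ ≫ Φ) (pullback.snd p₁ p₁ ≫ Φ)
      (by rw [Category.assoc, Category.assoc, sqP.w, pullback.condition_assoc]),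
      pullback.lift_fst _ _ _, pullback.lift_snd _ _ _⟩
  have s0 : IsPullback (pullback.fst p₁ p₁ ≫ Φ) (pullback.snd p₁ p₁) p (p₁ ≫ c) :=
    (IsPullback.of_hasPullback p₁ p₁).paste_horiz sqP
  have D1 : IsPullback κ (pullback.snd p₁ p₁) (pullback.snd p p) Φ := by
    refine IsPullback.of_right ?_ hκ2 (IsPullback.of_hasPullback p p)
    rw [hκ1, sqP.w]
    exact s0
  refine ⟨κ, D1.paste_vert sqP, ?_⟩
  have hcomm : pullback.lift act₁ pr₁ hinv₁ ≫ κ = HΦ ≫ pullback.lift act pr hinv := by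
    apply pullback.hom_ext
    · simp only [Category.assoc, hκ1, pullback.lift_fst_assoc, pullback.lift_fst, hact]
    · simp only [Category.assoc, hκ2, pullback.lift_snd_assoc, pullback.lift_snd, sqH.w]
  refine IsPullback.of_right ?_ hcomm D1.flip
  rw [pullback.lift_snd, pullback.lift_snd]
  exact sqH.flip

end Cat

section Sch

theorem isIso_of_locally {P X HP : Scheme.{u}} (p : P ⟶ X) (act pr : HP ⟶ P)
    (hinv : act ≫ p = pr ≫ p)
    (H : ∀ x : X, ∃ (U : X.Opens) (_ : x ∈ U) (X₁ : Scheme.{u}) (φ : X₁ ⟶ ↑U)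
      (_ : Flat φ) (_ : Surjective φ) (_ : QuasiCompact φ)
      (P₁ HP₁ : Scheme.{u}) (p₁ : P₁ ⟶ X₁) (act₁ pr₁ : HP₁ ⟶ P₁)
      (hinv₁ : act₁ ≫ p₁ = pr₁ ≫ p₁) (Φ : P₁ ⟶ P) (HΦ : HP₁ ⟶ HP),
      IsPullback Φ p₁ p (φ ≫ U.ι) ∧ IsPullback HΦ pr₁ pr Φ ∧ HΦ ≫ act = act₁ ≫ Φ ∧
        IsIso (pullback.lift act₁ pr₁ hinv₁)) :
    IsIso (pullback.lift act pr hinv) := by
  show isomorphisms Scheme.{u} (pullback.lift act pr hinv)
  apply IsZariskiLocalAtTarget.of_forall_exists_morphismRestrict (P := isomorphisms Scheme.{u})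
  intro w
  obtain ⟨U, hxU, X₁, φ, hfl, hsurj, hqc, P₁, HP₁, p₁, act₁, pr₁, hinv₁, Φ, HΦ, sqP, sqH, hact,
    hΨ₁⟩ := H ((pullback.snd p p ≫ p).base w)
  refine ⟨(pullback.snd p p ≫ p) ⁻¹ᵁ U, hxU, ?_⟩
  obtain ⟨κ, sq3, sq2⟩ := bc_squares hinv hinv₁ sqP sqH hact
  have t1 := (isPullback_morphismRestrict (pullback.snd p p ≫ p) U).flip
  obtain ⟨κ', hκ'1, hκ'2⟩ : ∃ κ' : pullback p₁ p₁ ⟶ ↑((pullback.snd p p ≫ p) ⁻¹ᵁ U),
      κ' ≫ ((pullback.snd p p ≫ p) ⁻¹ᵁ U).ι = κ ∧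
      κ' ≫ ((pullback.snd p p ≫ p) ∣_ U) = (pullback.snd p₁ p₁ ≫ p₁) ≫ φ :=
    ⟨t1.lift κ ((pullback.snd p₁ p₁ ≫ p₁) ≫ φ) (by rw [sq3.w]; simp only [Category.assoc]),
      t1.lift_fst _ _ _, t1.lift_snd _ _ _⟩
  have sq3' : IsPullback κ' (pullback.snd p₁ p₁ ≫ p₁) ((pullback.snd p p ≫ p) ∣_ U) φ := by
    refine IsPullback.of_right ?_ hκ'2 t1
    rw [hκ'1]
    exact sq3
  have hκ'cov : (@Surjective ⊓ @Flat ⊓ @QuasiCompact : MorphismProperty Scheme.{u}) κ' :=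
    ⟨⟨MorphismProperty.of_isPullback (P := @Surjective) sq3'.flip hsurj,
      MorphismProperty.of_isPullback (P := @Flat) sq3'.flip hfl⟩,
      MorphismProperty.of_isPullback (P := @QuasiCompact) sq3'.flip hqc⟩
  have t2 := (isPullback_morphismRestrict (pullback.lift act pr hinv)
    ((pullback.snd p p ≫ p) ⁻¹ᵁ U)).flip
  obtain ⟨θ, hθ1, hθ2⟩ : ∃ θ : HP₁ ⟶
        ↑((pullback.lift act pr hinv) ⁻¹ᵁ ((pullback.snd p p ≫ p) ⁻¹ᵁ U)),
      θ ≫ ((pullback.lift act pr hinv) ⁻¹ᵁ ((pullback.snd p p ≫ p) ⁻¹ᵁ U)).ι = HΦ ∧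
      θ ≫ ((pullback.lift act pr hinv) ∣_ ((pullback.snd p p ≫ p) ⁻¹ᵁ U)) =
        pullback.lift act₁ pr₁ hinv₁ ≫ κ' :=
    ⟨t2.lift HΦ (pullback.lift act₁ pr₁ hinv₁ ≫ κ') (by rw [Category.assoc, hκ'1, sq2.w]),
      t2.lift_fst _ _ _, t2.lift_snd _ _ _⟩
  have sq2' : IsPullback θ (pullback.lift act₁ pr₁ hinv₁)
      ((pullback.lift act pr hinv) ∣_ ((pullback.snd p p ≫ p) ⁻¹ᵁ U)) κ' := by
    refine IsPullback.of_right ?_ hθ2 t2
    rw [hθ1, hκ'1]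
    exact sq2.flip
  exact of_isPullback_of_descendsAlong (P := isomorphisms Scheme.{u})
    (Q := @Surjective ⊓ @Flat ⊓ @QuasiCompact) sq2'.flip hκ'cov hΨ₁

theorem prop_of_locally (Q : MorphismProperty Scheme.{u}) [IsZariskiLocalAtTarget Q]
    [Q.DescendsAlong (@Surjective ⊓ @Flat ⊓ @QuasiCompact : MorphismProperty Scheme.{u})]
    {P X : Scheme.{u}} (p : P ⟶ X)
    (H : ∀ x : X, ∃ (U : X.Opens) (_ : x ∈ U) (X₁ : Scheme.{u}) (φ : X₁ ⟶ ↑U)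
      (_ : Flat φ) (_ : Surjective φ) (_ : QuasiCompact φ)
      (P₁ : Scheme.{u}) (p₁ : P₁ ⟶ X₁) (Φ : P₁ ⟶ P),
      IsPullback Φ p₁ p (φ ≫ U.ι) ∧ Q p₁) : Q p := by
  apply IsZariskiLocalAtTarget.of_forall_exists_morphismRestrict (P := Q)
  intro x
  obtain ⟨U, hxU, X₁, φ, hfl, hsurj, hqc, P₁, p₁, Φ, sqP, hp₁⟩ := H x
  refine ⟨U, hxU, ?_⟩
  have t1 := (isPullback_morphismRestrict p U).flip
  obtain ⟨θ, hθ1, hθ2⟩ : ∃ θ : P₁ ⟶ ↑(p ⁻¹ᵁ U),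
      θ ≫ (p ⁻¹ᵁ U).ι = Φ ∧ θ ≫ (p ∣_ U) = p₁ ≫ φ :=
    ⟨t1.lift Φ (p₁ ≫ φ) (by rw [Category.assoc, sqP.w]), t1.lift_fst _ _ _, t1.lift_snd _ _ _⟩
  have sq : IsPullback θ p₁ (p ∣_ U) φ := by
    refine IsPullback.of_right ?_ hθ2 t1
    rw [hθ1]
    exact sqP
  exact of_isPullback_of_descendsAlong (P := Q)
    (Q := @Surjective ⊓ @Flat ⊓ @QuasiCompact) sq.flip ⟨⟨hsurj, hfl⟩, hqc⟩ hp₁

end Sch

section Cart

variable {C : Type*} [Category C] [CartesianMonoidalCategory C]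

open CartesianMonoidalCategory MonoidalCategory MonObj GrpObj

/-- `(g, (u, g')) ↦ (u, g * g')`. -/
noncomputable def act1 (T G : C) [GrpObj G] : G ⊗ (T ⊗ G) ⟶ T ⊗ G :=
  lift (snd G (T ⊗ G) ≫ fst T G) (fst G (T ⊗ G) * (snd G (T ⊗ G) ≫ snd T G))

@[reassoc]
lemma lift_act1 {T G : C} [GrpObj G] {T' : C} (g : T' ⟶ G) (u : T' ⟶ T) (g' : T' ⟶ G) :
    lift g (lift u g') ≫ act1 T G = lift u (g * g') := by
  unfold act1
  simp only [comp_lift, MonObj.comp_mul, lift_fst, lift_snd, lift_snd_assoc, lift_fst_assoc]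

theorem isPullback_act1 (T G : C) [GrpObj G] :
    IsPullback (act1 T G) (snd G (T ⊗ G)) (fst T G) (fst T G) := by
  have hw : act1 T G ≫ fst T G = snd G (T ⊗ G) ≫ fst T G := by
    unfold act1
    rw [lift_fst]
  refine ⟨⟨hw⟩, ⟨PullbackCone.IsLimit.mk _
    (fun s => lift ((s.fst ≫ snd T G) * (s.snd ≫ snd T G)⁻¹) s.snd) ?_ ?_ ?_⟩⟩
  · intro s
    have e := lift_act1 ((s.fst ≫ snd T G) * (s.snd ≫ snd T G)⁻¹) (s.snd ≫ fst T G)
      (s.snd ≫ snd T G)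
    have e2 : lift (s.snd ≫ fst T G) (s.snd ≫ snd T G) = s.snd := by
      apply CartesianMonoidalCategory.hom_ext
      · rw [lift_fst]
      · rw [lift_snd]
    rw [e2] at e
    rw [e, _root_.inv_mul_cancel_right]
    apply CartesianMonoidalCategory.hom_ext
    · rw [lift_fst, s.condition]
    · rw [lift_snd]
  · intro s
    rw [lift_snd]
  · intro s m h1 h2
    apply CartesianMonoidalCategory.hom_ext
    · rw [lift_fst]
      have e2 : lift (m ≫ fst G (T ⊗ G))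
          (lift (m ≫ snd G (T ⊗ G) ≫ fst T G) (m ≫ snd G (T ⊗ G) ≫ snd T G)) = m := by
        apply CartesianMonoidalCategory.hom_ext
        · rw [lift_fst]
        · rw [lift_snd]
          apply CartesianMonoidalCategory.hom_ext
          · rw [lift_fst, Category.assoc]
          · rw [lift_snd, Category.assoc]
      have e := lift_act1 (m ≫ fst G (T ⊗ G)) (m ≫ snd G (T ⊗ G) ≫ fst T G)
        (m ≫ snd G (T ⊗ G) ≫ snd T G)
      rw [e2, h1] at e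
      have e3 : s.fst ≫ snd T G = (m ≫ fst G (T ⊗ G)) * (m ≫ snd G (T ⊗ G) ≫ snd T G) := by
        rw [e, lift_snd]
      rw [e3, ← h2, Category.assoc, _root_.mul_inv_cancel_right]
    · rw [lift_snd, h2]

end Cart

end Groth.Agent.H4.LiA
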