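import Mathlib
import Groth.Prelude.Def_AlgGrp
import Groth.Prelude.Def_ChGrp
import Groth.Prelude.Def_W4bk4git07Quot
import Groth.Agent.H4.TbA
import Groth.Agent.H4.TbB
import Groth.Agent.H4.LiA
import Groth.Agent.Lib.Helper3.FlatDesc

/-!
# Locally (fpqc-)isotrivial bundles are principal
-/

set_option autoImplicit false

universe u

open CategoryTheory CategoryTheory.Limits MonoidalCategory CartesianMonoidalCategory MonObj GrpObj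
  AlgebraicGeometry MorphismProperty

namespace Groth.Agent.H4.LiB

open Groth.Agent.H4.LiA

variable {S : Scheme.{u}}

lemma eqv_sigma {G P T : Over S} [GrpObj G] (a : AlgGrp.Action G P) (s : T ⟶ P) :
    (G ◁ (lift (snd T G) (fst T G ≫ s) ≫ a.act)) ≫ a.act =
      act1 T G ≫ (lift (snd T G) (fst T G ≫ s) ≫ a.act) := by
  apply Groth.Agent.H4.TbB.ext3
  intro T' g v g'
  have e1 : ∀ (w : T' ⟶ T) (h : T' ⟶ G),
      lift w h ≫ lift (snd T G) (fst T G ≫ s) ≫ a.act = lift h (w ≫ s) ≫ a.act := by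
    intro w h
    rw [← Category.assoc, comp_lift, lift_snd, lift_fst_assoc]
  have hL : lift g (lift v g') ≫ (G ◁ (lift (snd T G) (fst T G ≫ s) ≫ a.act)) ≫ a.act =
      lift g (lift g' (v ≫ s) ≫ a.act) ≫ a.act := by
    rw [lift_whiskerLeft_assoc, e1]
  have hR : lift g (lift v g') ≫ act1 T G ≫ (lift (snd T G) (fst T G ≫ s) ≫ a.act) =
      lift (g * g') (v ≫ s) ≫ a.act := by
    rw [lift_act1_assoc, e1]
  rw [hL, hR, AlgGrp.Action.lift_mul_act]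

theorem isIso_psiY {G P X : Over S} [GrpObj G] (a : AlgGrp.Action G P) (π : P ⟶ X)
    (hinv : GIT.IsInvariant a π)
    (hli : ∀ x : ↥X.left, ∃ (U : X.left.Opens) (_ : x ∈ U) (U' : Scheme.{u}) (φ : U' ⟶ ↑U)
      (_ : Flat φ) (_ : Surjective φ) (_ : QuasiCompact φ)
      (s : Over.mk (φ ≫ U.ι ≫ X.hom) ⟶ P),
      IsPullback (fst (Over.mk (φ ≫ U.ι ≫ X.hom)) G).left
        (lift (snd (Over.mk (φ ≫ U.ι ≫ X.hom)) G)
          (fst (Over.mk (φ ≫ U.ι ≫ X.hom)) G ≫ s) ≫ a.act).left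
        (φ ≫ U.ι) π.left) :
    IsIso (GIT.PsiY a π hinv) := by
  show IsIso (pullback.lift a.act.left (snd G P).left hinv.left)
  apply isIso_of_locally
  intro x
  obtain ⟨U, hxU, U', φ, hfl, hsurj, hqc, s, hpb⟩ := hli x
  have hw1 : act1 (Over.mk (φ ≫ U.ι ≫ X.hom)) G ≫ fst (Over.mk (φ ≫ U.ι ≫ X.hom)) G =
      snd G ((Over.mk (φ ≫ U.ι ≫ X.hom)) ⊗ G) ≫ fst (Over.mk (φ ≫ U.ι ≫ X.hom)) G :=
    (isPullback_act1 (Over.mk (φ ≫ U.ι ≫ X.hom)) G).w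
  have hinv₁ : (act1 (Over.mk (φ ≫ U.ι ≫ X.hom)) G).left ≫
      (fst (Over.mk (φ ≫ U.ι ≫ X.hom)) G).left =
      (snd G ((Over.mk (φ ≫ U.ι ≫ X.hom)) ⊗ G)).left ≫
        (fst (Over.mk (φ ≫ U.ι ≫ X.hom)) G).left :=
    congrArg (fun t => t.left) hw1
  have hpbL : IsPullback (act1 (Over.mk (φ ≫ U.ι ≫ X.hom)) G).left
      (snd G ((Over.mk (φ ≫ U.ι ≫ X.hom)) ⊗ G)).left
      (fst (Over.mk (φ ≫ U.ι ≫ X.hom)) G).left (fst (Over.mk (φ ≫ U.ι ≫ X.hom)) G).left :=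
    (isPullback_act1 (Over.mk (φ ≫ U.ι ≫ X.hom)) G).map (Over.forget S)
  refine ⟨U, hxU, U', φ, hfl, hsurj, hqc, ((Over.mk (φ ≫ U.ι ≫ X.hom)) ⊗ G).left,
    (G ⊗ ((Over.mk (φ ≫ U.ι ≫ X.hom)) ⊗ G)).left, (fst (Over.mk (φ ≫ U.ι ≫ X.hom)) G).left,
    (act1 (Over.mk (φ ≫ U.ι ≫ X.hom)) G).left,
    (snd G ((Over.mk (φ ≫ U.ι ≫ X.hom)) ⊗ G)).left, hinv₁,
    (lift (snd (Over.mk (φ ≫ U.ι ≫ X.hom)) G)
      (fst (Over.mk (φ ≫ U.ι ≫ X.hom)) G ≫ s) ≫ a.act).left,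
    (G ◁ (lift (snd (Over.mk (φ ≫ U.ι ≫ X.hom)) G)
      (fst (Over.mk (φ ≫ U.ι ≫ X.hom)) G ≫ s) ≫ a.act)).left, hpb.flip, ?_, ?_, ?_⟩
  · exact (Groth.Agent.H4.TbA.isPullback_whiskerLeft_snd G
      (lift (snd (Over.mk (φ ≫ U.ι ≫ X.hom)) G)
        (fst (Over.mk (φ ≫ U.ι ≫ X.hom)) G ≫ s) ≫ a.act)).map (Over.forget S)
  · exact congrArg (fun t => t.left) (eqv_sigma a s)
  · exact isIso_lift_of_isPullback hpbL

theorem flat_of_locallyIsotrivial {G P X : Over S} [GrpObj G] [Flat G.hom]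
    (a : AlgGrp.Action G P) (π : P ⟶ X)
    (hli : ∀ x : ↥X.left, ∃ (U : X.left.Opens) (_ : x ∈ U) (U' : Scheme.{u}) (φ : U' ⟶ ↑U)
      (_ : Flat φ) (_ : Surjective φ) (_ : QuasiCompact φ)
      (s : Over.mk (φ ≫ U.ι ≫ X.hom) ⟶ P),
      IsPullback (fst (Over.mk (φ ≫ U.ι ≫ X.hom)) G).left
        (lift (snd (Over.mk (φ ≫ U.ι ≫ X.hom)) G)
          (fst (Over.mk (φ ≫ U.ι ≫ X.hom)) G ≫ s) ≫ a.act).left
        (φ ≫ U.ι) π.left) :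
    Flat π.left := by
  haveI := Groth.Agent.H3.FlatDesc.flat_descendsAlong_fpqc.{u}
  apply prop_of_locally @Flat
  intro x
  obtain ⟨U, hxU, U', φ, hfl, hsurj, hqc, s, hpb⟩ := hli x
  refine ⟨U, hxU, U', φ, hfl, hsurj, hqc, _, (fst (Over.mk (φ ≫ U.ι ≫ X.hom)) G).left, _,
    hpb.flip, ?_⟩
  show Flat (pullback.fst (φ ≫ U.ι ≫ X.hom) G.hom)
  infer_instance

end Groth.Agent.H4.LiB
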