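import Mathlib

set_option autoImplicit false
universe u
open scoped TensorProduct
open Module LieSubalgebra LieAlgebra

namespace Groth.Agent.H4.LieEngelNil

attribute [local instance 100] LieRing.ofAssociativeRing

section General

variable {R : Type*} [CommRing R] {L : Type*} [LieRing L] [LieAlgebra R L]

lemma lie_mem_engel {a z : L} (h : ⁅a, z⁆ ∈ engel R a) : z ∈ engel R a := by
  rw [mem_engel_iff] at h ⊢
  obtain ⟨n, hn⟩ := h
  exact ⟨n + 1, by rw [pow_succ, Module.End.mul_apply, ad_apply]; exact hn⟩

variable (B : Type*) [CommRing B] [Algebra R B]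

lemma ad_tmul (a : L) :
    ad B (B ⊗[R] L) ((1 : B) ⊗ₜ[R] a) = (ad R L a).baseChange B :=
  LieModule.toEnd_baseChange R B L L a

lemma tmul_mem_engel {a x : L} (hx : x ∈ engel R a) :
    (1 : B) ⊗ₜ[R] x ∈ engel B ((1 : B) ⊗ₜ[R] a) := by
  rw [mem_engel_iff] at hx ⊢
  obtain ⟨n, hn⟩ := hx
  refine ⟨n, ?_⟩
  rw [ad_tmul, ← LinearMap.baseChange_pow, LinearMap.baseChange_tmul, hn, TensorProduct.tmul_zero]

end General

lemma natTrailingDegree_map_of_injective {R S : Type*} [Semiring R] [Semiring S] {f : R →+* S}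
    (hf : Function.Injective f) (p : Polynomial R) :
    (p.map f).natTrailingDegree = p.natTrailingDegree := by
  simp only [Polynomial.natTrailingDegree, Polynomial.trailingDegree,
    Polynomial.support_map_of_injective p hf]

section Field

variable {K L : Type*} [Field K] [LieRing L] [LieAlgebra K L] [Module.Finite K L]

lemma engel_isNilpotent_of_min (h : finrank K L ≤ Cardinal.mk K) (x : L)
    (hx : ∀ y : L, finrank K (engel K x) ≤ finrank K (engel K y)) :
    LieRing.IsNilpotent (engel K x) := by
  apply isNilpotent_of_forall_le_engel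
  intro y hy
  set Ex : {engel K z | z ∈ engel K x} := ⟨engel K x, x, self_mem_engel _ _, rfl⟩
  suffices IsBot Ex from @this ⟨engel K y, y, hy, rfl⟩
  apply engel_isBot_of_isMin h (engel K x) Ex le_rfl
  rintro ⟨_, y, hy, rfl⟩ hyx
  suffices finrank K (engel K x) ≤ finrank K (engel K y) by
    suffices engel K y = engel K x from this.ge
    apply LieSubalgebra.toSubmodule_injective
    exact Submodule.eq_of_le_of_finrank_le hyx this
  exact hx y

variable (K' : Type*) [Field K'] [Algebra K K']

lemma toEnd_eq_tensorProduct :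
    (LieModule.toEnd K' (K' ⊗[K] L) (K' ⊗[K] L)).toLinearMap =
      LinearMap.tensorProduct K K' L L ∘ₗ
        ((LieModule.toEnd K L L).toLinearMap).baseChange K' := by
  apply TensorProduct.AlgebraTensorModule.ext
  intro t x
  apply TensorProduct.AlgebraTensorModule.ext
  intro s y
  simp [LinearMap.tensorProduct, TensorProduct.smul_tmul']

lemma rank_le_natTrailingDegree_baseChange (y' : K' ⊗[K] L) :
    LieAlgebra.rank K L ≤ (ad K' (K' ⊗[K] L) y').charpoly.natTrailingDegree := by
  classical
  let b := Module.Free.chooseBasis K L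
  let b' := Algebra.TensorProduct.basis K' b
  set c : Module.Free.ChooseBasisIndex K L → K' := fun i => b'.repr y' i with hc
  have hy : y' = b'.repr.symm (Finsupp.equivFunOnFinite.symm c) := by
    rw [LinearEquiv.eq_symm_apply]
    ext i
    simp [hc]
  have h1 := LinearMap.polyCharpolyAux_map_aeval (LieModule.toEnd K L L).toLinearMap b
    (Module.Free.chooseBasis K L) K' c
  rw [← hy, ← toEnd_eq_tensorProduct] at h1
  apply Polynomial.le_natTrailingDegree (LinearMap.charpoly_monic _).ne_zero
  intro m hm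
  have h2 : (LinearMap.polyCharpoly (LieModule.toEnd K L L).toLinearMap b).coeff m = 0 := by
    apply Polynomial.coeff_eq_zero_of_lt_natTrailingDegree
    exact lt_of_lt_of_eq hm (LieAlgebra.rank_eq_natTrailingDegree K L b)
  have h3 : ad K' (K' ⊗[K] L) y' =
      (LieModule.toEnd K' (K' ⊗[K] L) (K' ⊗[K] L)).toLinearMap y' := rfl
  rw [h3, ← h1, Polynomial.coeff_map]
  rw [LinearMap.polyCharpoly] at h2
  rw [h2, map_zero]

theorem engel_isNilpotent_of_isRegular (x : L) (hx : LieAlgebra.IsRegular K x) :
    LieRing.IsNilpotent (engel K x) := by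
  let K' := AlgebraicClosure K
  have hinj : Function.Injective (algebraMap K K') := (algebraMap K K').injective
  have hA : ∀ y' : K' ⊗[K] L,
      finrank K' (engel K' ((1 : K') ⊗ₜ[K] x)) ≤ finrank K' (engel K' y') := by
    intro y'
    rw [LieAlgebra.finrank_engel, LieAlgebra.finrank_engel]
    have h1 : (ad K' (K' ⊗[K] L) ((1 : K') ⊗ₜ[K] x)).charpoly.natTrailingDegree =
        LieAlgebra.rank K L := by
      rw [ad_tmul, LinearMap.charpoly_baseChange, natTrailingDegree_map_of_injective hinj,
        (LieAlgebra.isRegular_iff_natTrailingDegree_charpoly_eq_rank K x).mp hx]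
    rw [h1]
    exact rank_le_natTrailingDegree_baseChange K' y'
  have hcard : finrank K' (K' ⊗[K] L) ≤ Cardinal.mk K' :=
    Cardinal.natCast_le_aleph0.trans (Cardinal.infinite_iff.mp inferInstance)
  have hB : LieRing.IsNilpotent (engel K' ((1 : K') ⊗ₜ[K] x)) :=
    engel_isNilpotent_of_min hcard _ hA
  rw [LieAlgebra.isNilpotent_iff_forall (R := K)]
  intro y
  obtain ⟨k, hk⟩ := LieAlgebra.nilpotent_ad_of_nilpotent_algebra (R := K')
    (L := engel K' ((1 : K') ⊗ₜ[K] x))
  refine ⟨k, ?_⟩
  ext z
  rw [LieSubalgebra.coe_ad_pow]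
  have hy' := tmul_mem_engel K' y.2
  have hz' := tmul_mem_engel K' z.2
  have h2 := congrArg Subtype.val (LinearMap.congr_fun (hk ⟨_, hy'⟩) ⟨_, hz'⟩)
  rw [LieSubalgebra.coe_ad_pow] at h2
  simp only [LinearMap.zero_apply, ZeroMemClass.coe_zero] at h2 ⊢
  rw [ad_tmul, ← LinearMap.baseChange_pow, LinearMap.baseChange_tmul] at h2
  apply Module.FaithfullyFlat.tensorProduct_mk_injective (A := K) (B := K') L
  rw [map_zero]
  exact h2

end Field

end Groth.Agent.H4.LieEngelNil
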