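import Mathlib

set_option autoImplicit false
universe u
open scoped TensorProduct

namespace Groth.Agent.H4.LieFib

section Conj

variable {R M F : Type*} [CommRing R] [AddCommGroup M] [Module R M] [AddCommGroup F] [Module R F]

lemma conj_pow_succ (f : F →ₗ[R] M) (g : M →ₗ[R] F) (hfg : f ∘ₗ g = LinearMap.id)
    (φ : Module.End R M) (k : ℕ) :
    (g ∘ₗ φ ∘ₗ f) ^ (k + 1) = g ∘ₗ (φ ^ (k + 1)) ∘ₗ f := by
  have hfg' : ∀ m, f (g m) = m := fun m => LinearMap.congr_fun hfg m
  induction k with
  | zero => simp
  | succ k ih =>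
    rw [pow_succ, ih, pow_succ φ (k + 1)]
    ext x
    simp [Module.End.mul_apply, hfg']

lemma pow_eq_conj (f : F →ₗ[R] M) (g : M →ₗ[R] F) (hfg : f ∘ₗ g = LinearMap.id)
    (φ : Module.End R M) (k : ℕ) :
    φ ^ k = f ∘ₗ ((g ∘ₗ φ ∘ₗ f) ^ k) ∘ₗ g := by
  have hfg' : ∀ m, f (g m) = m := fun m => LinearMap.congr_fun hfg m
  induction k with
  | zero => ext x; simp [hfg']
  | succ k ih =>
    rw [conj_pow_succ f g hfg]
    ext x
    simp [hfg']

end Conj

section Fibre

variable {A : Type*} [CommRing A]

lemma isNilpotent_of_fibrewise_free {n : ℕ} (Φ : Module.End A (Fin n → A))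
    (h : ∀ p : PrimeSpectrum A, IsNilpotent (Φ.baseChange p.asIdeal.ResidueField)) :
    IsNilpotent Φ := by
  rcases subsingleton_or_nontrivial A with hA | hA
  · exact ⟨1, Subsingleton.elim _ _⟩
  have hmonic : Φ.charpoly.Monic := Φ.charpoly_monic
  have hdeg : Φ.charpoly.natDegree = n := by
    rw [LinearMap.charpoly_natDegree, Module.finrank_fin_fun]
  have hcoef : ∀ i, i < n → IsNilpotent (Φ.charpoly.coeff i) := by
    intro i hi
    rw [nilpotent_iff_mem_prime]
    intro J hJ
    let p : PrimeSpectrum A := ⟨J, hJ⟩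
    have h1 := (LinearMap.isNilpotent_iff_charpoly
      (Φ.baseChange p.asIdeal.ResidueField)).mp (h p)
    rw [LinearMap.charpoly_baseChange] at h1
    have h2 := congrArg (fun q => q.coeff i) h1
    simp only [Polynomial.coeff_map, Polynomial.coeff_X_pow] at h2
    have h3 : Module.finrank p.asIdeal.ResidueField
        (p.asIdeal.ResidueField ⊗[A] (Fin n → A)) = n := by
      rw [Module.finrank_baseChange, Module.finrank_fin_fun]
    rw [h3, if_neg hi.ne] at h2
    exact Ideal.algebraMap_residueField_eq_zero.mp h2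
  have hnil : IsNilpotent (Φ.charpoly - Polynomial.X ^ n) := by
    rw [Polynomial.isNilpotent_iff]
    intro i
    rcases lt_trichotomy i n with hi | hi | hi
    · simpa [Polynomial.coeff_X_pow, hi.ne] using hcoef i hi
    · subst hi
      have : Φ.charpoly.coeff i = 1 := by
        have := hmonic.coeff_natDegree
        rwa [hdeg] at this
      simp [this]
    · have : Φ.charpoly.coeff i = 0 :=
        Polynomial.coeff_eq_zero_of_natDegree_lt (by rw [hdeg]; exact hi)
      simp [this, Polynomial.coeff_X_pow, hi.ne']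
  have h4 := hnil.map (Polynomial.aeval Φ)
  rw [map_sub, LinearMap.aeval_self_charpoly, zero_sub, map_pow, Polynomial.aeval_X,
    isNilpotent_neg_iff] at h4
  obtain ⟨k, hk⟩ := h4
  exact ⟨n * k, by rw [pow_mul, hk]⟩

variable {M : Type*} [AddCommGroup M] [Module A M]

lemma isNilpotent_of_fibrewise [Module.Finite A M] [Module.Projective A M] (φ : Module.End A M)
    (h : ∀ p : PrimeSpectrum A, IsNilpotent (φ.baseChange p.asIdeal.ResidueField)) :
    IsNilpotent φ := by
  obtain ⟨n, f, g, -, -, hfg⟩ := Module.Finite.exists_comp_eq_id_of_projective A M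
  have hΦ : IsNilpotent (g ∘ₗ φ ∘ₗ f) := by
    apply isNilpotent_of_fibrewise_free
    intro p
    obtain ⟨k, hk⟩ := h p
    refine ⟨k + 1, ?_⟩
    have hfgp : f.baseChange p.asIdeal.ResidueField ∘ₗ g.baseChange p.asIdeal.ResidueField
        = LinearMap.id := by
      rw [← LinearMap.baseChange_comp, hfg, LinearMap.baseChange_id]
    rw [LinearMap.baseChange_comp, LinearMap.baseChange_comp, conj_pow_succ _ _ hfgp, pow_succ, hk]
    ext x
    simp
  obtain ⟨k, hk⟩ := hΦ
  refine ⟨k, ?_⟩
  rw [pow_eq_conj f g hfg, hk]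
  ext x
  simp

lemma surjective_of_fibrewise {N : Type*} [AddCommGroup N] [Module A N] [Module.Finite A M]
    (ψ : N →ₗ[A] M)
    (h : ∀ p : PrimeSpectrum A, Function.Surjective (ψ.baseChange p.asIdeal.ResidueField)) :
    Function.Surjective ψ := by
  rw [← LinearMap.range_eq_top]
  have hsub : Subsingleton (M ⧸ LinearMap.range ψ) := by
    rw [← Module.support_eq_empty_iff (R := A)]
    rw [Set.eq_empty_iff_forall_notMem]
    intro p hp
    rw [Module.mem_support_iff_nontrivial_residueField_tensorProduct] at hp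
    rw [← not_subsingleton_iff_nontrivial] at hp
    apply hp
    refine ⟨fun z w => ?_⟩
    have hz : ∀ z : p.asIdeal.ResidueField ⊗[A] (M ⧸ LinearMap.range ψ), z = 0 := by
      intro z
      have hsurj : Function.Surjective
          ((LinearMap.range ψ).mkQ.baseChange p.asIdeal.ResidueField) := by
        rw [LinearMap.baseChange_eq_ltensor]
        exact LinearMap.lTensor_surjective _ (Submodule.mkQ_surjective _)
      obtain ⟨m', rfl⟩ := hsurj z
      obtain ⟨n', rfl⟩ := h p m'
      rw [← LinearMap.comp_apply, ← LinearMap.baseChange_comp, LinearMap.range_mkQ_comp,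
        LinearMap.baseChange_zero, LinearMap.zero_apply]
    rw [hz z, hz w]
  exact Submodule.Quotient.subsingleton_iff.mp hsub

lemma bijective_of_fibrewise_injective [Module.Finite A M] (ψ : Module.End A M)
    (h : ∀ p : PrimeSpectrum A, Function.Injective (ψ.baseChange p.asIdeal.ResidueField)) :
    Function.Bijective ψ := by
  have hs : Function.Surjective ψ := by
    apply surjective_of_fibrewise
    intro p
    exact LinearMap.surjective_of_injective (h p)
  exact ⟨OrzechProperty.injective_of_surjective_endomorphism ψ hs, hs⟩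

end Fibre

end Groth.Agent.H4.LieFib
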