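import Mathlib
import Groth.Prelude.Def_W4sga3xiixivxvCartan
import Groth.Agent.H4.LieFib
import Groth.Agent.H4.LieEngelNil

set_option autoImplicit false
universe u
open scoped TensorProduct
open Module LieSubalgebra LieAlgebra
open Groth.Agent.H4.LieFib Groth.Agent.H4.LieEngelNil

namespace Groth.Agent.H4.LieCartanRel

attribute [local instance 100] LieRing.ofAssociativeRing

section Quot

variable {A : Type*} [CommRing A] {L : Type*} [LieRing L] [LieAlgebra A L]
variable (a : L) (N : Submodule A L) (hN : ∀ x ∈ N, ⁅a, x⁆ ∈ N)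

/-- endomorphism induced by `ad a` on `L ⧸ N`. -/
def adQ : Module.End A (L ⧸ N) :=
  N.mapQ N (ad A L a) (fun x hx => by
    rw [Submodule.mem_comap, ad_apply]; exact hN x hx)

lemma adQ_mk (x : L) : adQ a N hN (N.mkQ x) = N.mkQ ⁅a, x⁆ := rfl

lemma adQ_pow_mk (n : ℕ) (x : L) :
    ((adQ a N hN) ^ n) (N.mkQ x) = N.mkQ ((ad A L a ^ n) x) := by
  induction n generalizing x with
  | zero => simp
  | succ n ih =>
    rw [pow_succ, Module.End.mul_apply, adQ_mk, ih, pow_succ, Module.End.mul_apply, ad_apply]

lemma engel_le_of_injective (hinj : Function.Injective (adQ a N hN)) {x : L}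
    (hx : x ∈ engel A a) : x ∈ N := by
  rw [mem_engel_iff] at hx
  obtain ⟨n, hn⟩ := hx
  have h1 : ((adQ a N hN) ^ n) (N.mkQ x) = 0 := by rw [adQ_pow_mk, hn, map_zero]
  have h2 : Function.Injective ((adQ a N hN) ^ n) := by
    rw [Module.End.coe_pow]; exact hinj.iterate n
  have h3 : N.mkQ x = 0 := h2 (by rw [h1, map_zero])
  simpa using h3

variable (B : Type*) [CommRing B] [Algebra A B]

lemma mkQ_baseChange_eq_zero_iff (y : B ⊗[A] L) :
    N.mkQ.baseChange B y = 0 ↔ y ∈ N.baseChange B := by
  have h := lTensor_exact B (LinearMap.exact_subtype_mkQ N) N.mkQ_surjective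
  exact h y

lemma adQ_comp_mkQ : adQ a N hN ∘ₗ N.mkQ = N.mkQ ∘ₗ (ad A L a) := by
  ext x; rfl

lemma adQ_baseChange_mkQ (y : B ⊗[A] L) :
    (adQ a N hN).baseChange B (N.mkQ.baseChange B y) =
      N.mkQ.baseChange B ((ad A L a).baseChange B y) := by
  rw [← LinearMap.comp_apply, ← LinearMap.baseChange_comp, adQ_comp_mkQ,
    LinearMap.baseChange_comp, LinearMap.comp_apply]

lemma adQ_baseChange_pow_mkQ (n : ℕ) (y : B ⊗[A] L) :
    (((adQ a N hN).baseChange B) ^ n) (N.mkQ.baseChange B y) =
      N.mkQ.baseChange B ((((ad A L a).baseChange B) ^ n) y) := by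
  induction n generalizing y with
  | zero => simp
  | succ n ih =>
    rw [pow_succ, Module.End.mul_apply, adQ_baseChange_mkQ, ih, pow_succ, Module.End.mul_apply]

lemma mkQ_baseChange_surjective : Function.Surjective (N.mkQ.baseChange B) := by
  rw [LinearMap.baseChange_eq_ltensor]
  exact LinearMap.lTensor_surjective _ N.mkQ_surjective

lemma engel_baseChange_le (hinj : Function.Injective ((adQ a N hN).baseChange B))
    {y : B ⊗[A] L} (hy : y ∈ engel B ((1 : B) ⊗ₜ[A] a)) : y ∈ N.baseChange B := by
  rw [mem_engel_iff] at hy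
  obtain ⟨n, hn⟩ := hy
  rw [ad_tmul] at hn
  rw [← mkQ_baseChange_eq_zero_iff]
  have h1 := adQ_baseChange_pow_mkQ a N hN B n y
  rw [hn, map_zero] at h1
  have h2 : Function.Injective (((adQ a N hN).baseChange B) ^ n) := by
    rw [Module.End.coe_pow]; exact hinj.iterate n
  exact h2 (by rw [h1, map_zero])

lemma injective_adQ_baseChange
    (h : N.baseChange B = (engel B ((1 : B) ⊗ₜ[A] a)).toSubmodule) :
    Function.Injective ((adQ a N hN).baseChange B) := by
  rw [injective_iff_map_eq_zero]
  intro z hz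
  obtain ⟨y, rfl⟩ := mkQ_baseChange_surjective N B z
  rw [adQ_baseChange_mkQ, mkQ_baseChange_eq_zero_iff, h, ← ad_tmul, ad_apply] at hz
  have hy : y ∈ engel B ((1 : B) ⊗ₜ[A] a) := lie_mem_engel hz
  rw [mkQ_baseChange_eq_zero_iff, h]
  exact hy

lemma baseChange_le_engel (h : ∀ x ∈ N, x ∈ engel A a) :
    N.baseChange B ≤ (engel B ((1 : B) ⊗ₜ[A] a)).toSubmodule := by
  rw [Submodule.baseChange_eq_span, Submodule.span_le]
  rintro _ ⟨x, hx, rfl⟩
  exact tmul_mem_engel B (h x hx)

end Quot

section Retract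

variable {A : Type*} [CommRing A] {L : Type*} [AddCommGroup L] [Module A L]

lemma exists_retraction (N : Submodule A L) [Module.Projective A (L ⧸ N)] :
    ∃ r : L →ₗ[A] N, r ∘ₗ N.subtype = LinearMap.id := by
  obtain ⟨s, hs⟩ := Module.projective_lifting_property N.mkQ LinearMap.id N.mkQ_surjective
  have hs' : ∀ q, N.mkQ (s q) = q := fun q => LinearMap.congr_fun hs q
  have hmem : ∀ x : L, ((LinearMap.id : L →ₗ[A] L) - s ∘ₗ N.mkQ) x ∈ N := by
    intro x
    rw [← Submodule.Quotient.mk_eq_zero]
    simp only [LinearMap.sub_apply, LinearMap.id_apply, LinearMap.comp_apply,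
      Submodule.Quotient.mk_sub]
    have := hs' (N.mkQ x)
    simp only [Submodule.mkQ_apply] at this ⊢
    rw [this, sub_self]
  refine ⟨LinearMap.codRestrict N ((LinearMap.id : L →ₗ[A] L) - s ∘ₗ N.mkQ) hmem, ?_⟩
  ext x
  have hx : N.mkQ (x : L) = 0 := by simp
  simp [hx]

lemma finite_of_projective_quotient [Module.Finite A L] (N : Submodule A L)
    [Module.Projective A (L ⧸ N)] : Module.Finite A N := by
  obtain ⟨r, hr⟩ := exists_retraction N
  exact Module.Finite.of_surjective r (fun x => ⟨x, LinearMap.congr_fun hr x⟩)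

lemma projective_of_projective_quotient [Module.Projective A L] (N : Submodule A L)
    [Module.Projective A (L ⧸ N)] : Module.Projective A N := by
  obtain ⟨r, hr⟩ := exists_retraction N
  exact Module.Projective.of_split N.subtype r hr

end Retract

section Main

variable {A : Type u} [CommRing A] {L : Type u} [LieRing L] [LieAlgebra A L]
  [Module.Finite A L] [Module.Projective A L]

lemma le_engel_of_isCartanRel (H : LieSubalgebra A L) (hH : SGA3t2b.IsCartanRel H) {a : L}
    (ha : a ∈ H) : ∀ x ∈ H, x ∈ engel A a := by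
  haveI : Module.Projective A (L ⧸ H.toSubmodule) := hH.1
  haveI : Module.Finite A H := finite_of_projective_quotient H.toSubmodule
  haveI : Module.Projective A H := projective_of_projective_quotient H.toSubmodule
  have hnil : IsNilpotent (ad A H ⟨a, ha⟩) := by
    apply isNilpotent_of_fibrewise
    intro p
    haveI hp : LieRing.IsNilpotent (p.asIdeal.ResidueField ⊗[A] H) := (hH.2 p).1
    obtain ⟨k, hk⟩ := LieAlgebra.nilpotent_ad_of_nilpotent_algebra
      (R := p.asIdeal.ResidueField) (L := p.asIdeal.ResidueField ⊗[A] H)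
    refine ⟨k, ?_⟩
    rw [← ad_tmul]
    exact hk _
  obtain ⟨k, hk⟩ := hnil
  intro x hx
  rw [mem_engel_iff]
  refine ⟨k, ?_⟩
  have := congrArg Subtype.val (LinearMap.congr_fun hk ⟨x, hx⟩)
  rw [LieSubalgebra.coe_ad_pow] at this
  simpa using this

lemma bijective_adQ_of_isCartanRel (H : LieSubalgebra A L) (hH : SGA3t2b.IsCartanRel H) {a : L}
    (ha : a ∈ H) (hreg : SGA3t2b.IsQuasiRegular A L a) :
    Function.Bijective (adQ a H.toSubmodule (fun x hx => H.lie_mem ha hx)) := by
  haveI : Module.Projective A (L ⧸ H.toSubmodule) := hH.1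
  apply bijective_of_fibrewise_injective
  intro p
  apply injective_adQ_baseChange
  have hle := baseChange_le_engel a H.toSubmodule p.asIdeal.ResidueField
    (le_engel_of_isCartanRel H hH ha)
  apply Submodule.eq_of_le_of_finrank_eq hle
  have h1 := (hH.2 p).2.2
  have h2 := (LieAlgebra.isRegular_iff_finrank_engel_eq_rank p.asIdeal.ResidueField _).mp (hreg p)
  exact h1.trans h2.symm

theorem eq_engel_of_isCartanRel (H : LieSubalgebra A L) (hH : SGA3t2b.IsCartanRel H) {a : L}
    (ha : a ∈ H) (hreg : SGA3t2b.IsQuasiRegular A L a) : H = engel A a := by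
  apply le_antisymm
  · intro x hx
    exact le_engel_of_isCartanRel H hH ha x hx
  · intro x hx
    exact engel_le_of_injective a H.toSubmodule _
      (bijective_adQ_of_isCartanRel H hH ha hreg).1 hx

theorem forward (a : L) (hreg : SGA3t2b.IsQuasiRegular A L a) (H : LieSubalgebra A L)
    (hH : SGA3t2b.IsCartanRel H) (ha : a ∈ H) :
    Module.Projective A (L ⧸ (engel A a).toSubmodule) ∧
      (∀ z : L, ⁅a, z⁆ ∈ engel A a → z ∈ engel A a) ∧
      (∀ y : L, ∃ z : L, ⁅a, z⁆ - y ∈ engel A a) := by
  have hE := eq_engel_of_isCartanRel H hH ha hreg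
  subst hE
  refine ⟨hH.1, fun z hz => lie_mem_engel hz, fun y => ?_⟩
  obtain ⟨q, hq⟩ := (bijective_adQ_of_isCartanRel _ hH ha hreg).2
    ((engel A a).toSubmodule.mkQ y)
  obtain ⟨z, rfl⟩ := (engel A a).toSubmodule.mkQ_surjective q
  refine ⟨z, ?_⟩
  rw [adQ_mk] at hq
  exact (Submodule.Quotient.eq _).mp hq

theorem backward (a : L) (hreg : SGA3t2b.IsQuasiRegular A L a)
    (hproj : Module.Projective A (L ⧸ (engel A a).toSubmodule))
    (hinj : ∀ z : L, ⁅a, z⁆ ∈ engel A a → z ∈ engel A a)
    (hsurj : ∀ y : L, ∃ z : L, ⁅a, z⁆ - y ∈ engel A a) :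
    SGA3t2b.IsCartanRel (engel A a) := by
  have hN : ∀ x ∈ (engel A a).toSubmodule, ⁅a, x⁆ ∈ (engel A a).toSubmodule :=
    fun x hx => (engel A a).lie_mem (self_mem_engel A a) hx
  have hbij : Function.Bijective (adQ a (engel A a).toSubmodule hN) := by
    constructor
    · rw [injective_iff_map_eq_zero]
      intro q hq
      obtain ⟨z, rfl⟩ := (engel A a).toSubmodule.mkQ_surjective q
      rw [adQ_mk] at hq
      have h1 : ⁅a, z⁆ ∈ engel A a := by simpa using hq
      have h2 := hinj z h1
      simpa using h2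
    · intro q
      obtain ⟨y, rfl⟩ := (engel A a).toSubmodule.mkQ_surjective q
      obtain ⟨z, hz⟩ := hsurj y
      refine ⟨(engel A a).toSubmodule.mkQ z, ?_⟩
      rw [adQ_mk]
      exact (Submodule.Quotient.eq _).mpr hz
  have hinjp : ∀ p : PrimeSpectrum A, Function.Injective
      ((adQ a (engel A a).toSubmodule hN).baseChange p.asIdeal.ResidueField) := by
    intro p
    let e := LinearEquiv.ofBijective (adQ a (engel A a).toSubmodule hN) hbij
    have h1 : (e.symm.toLinearMap).baseChange p.asIdeal.ResidueField ∘ₗ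
        (adQ a (engel A a).toSubmodule hN).baseChange p.asIdeal.ResidueField = LinearMap.id := by
      rw [← LinearMap.baseChange_comp, ← LinearMap.baseChange_id]
      congr 1
      ext x
      simp [e]
    exact Function.LeftInverse.injective (fun x => LinearMap.congr_fun h1 x)
  have hfib : ∀ p : PrimeSpectrum A,
      (engel A a).toSubmodule.baseChange p.asIdeal.ResidueField =
        (engel p.asIdeal.ResidueField ((1 : p.asIdeal.ResidueField) ⊗ₜ[A] a)).toSubmodule := by
    intro p
    apply le_antisymm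
    · exact baseChange_le_engel a _ _ (fun x hx => hx)
    · intro y hy
      exact engel_baseChange_le a _ hN _ (hinjp p) hy
  refine ⟨hproj, fun p => ⟨?_, ?_, ?_⟩⟩
  · -- nilpotency of the fibre
    haveI : Module.Finite A (engel A a) := finite_of_projective_quotient (engel A a).toSubmodule
    obtain ⟨r, hr⟩ := exists_retraction (engel A a).toSubmodule
    let ι : p.asIdeal.ResidueField ⊗[A] (engel A a) →ₗ[p.asIdeal.ResidueField]
        p.asIdeal.ResidueField ⊗[A] L :=
      ((engel A a).toSubmodule.subtype).baseChange p.asIdeal.ResidueField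
    have hιinj : Function.Injective ι := by
      have h1 : (r.baseChange p.asIdeal.ResidueField) ∘ₗ ι = LinearMap.id := by
        rw [← LinearMap.baseChange_comp, hr, LinearMap.baseChange_id]
      exact Function.LeftInverse.injective (fun x => LinearMap.congr_fun h1 x)
    have hιlie : ∀ u v : p.asIdeal.ResidueField ⊗[A] (engel A a),
        ι ((ad p.asIdeal.ResidueField (p.asIdeal.ResidueField ⊗[A] (engel A a)) u) v) =
          (ad p.asIdeal.ResidueField (p.asIdeal.ResidueField ⊗[A] L) (ι u)) (ι v) := by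
      intro u v
      induction u using TensorProduct.induction_on with
      | zero => simp
      | tmul s x =>
        induction v using TensorProduct.induction_on with
        | zero => simp
        | tmul t y => simp [ι]
        | add v w hv hw => simp only [map_add, hv, hw]
      | add u w hu hw => simp only [map_add, LinearMap.add_apply, hu, hw]
    have hιmem : ∀ u, ι u ∈
        engel p.asIdeal.ResidueField ((1 : p.asIdeal.ResidueField) ⊗ₜ[A] a) := by
      intro u
      have h1 : ι u ∈ (engel A a).toSubmodule.baseChange p.asIdeal.ResidueField := ⟨u, rfl⟩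
      rw [hfib p] at h1
      exact h1
    haveI hnil : LieRing.IsNilpotent
        (engel p.asIdeal.ResidueField ((1 : p.asIdeal.ResidueField) ⊗ₜ[A] a)) :=
      engel_isNilpotent_of_isRegular _ (hreg p)
    obtain ⟨k, hk⟩ := LieAlgebra.nilpotent_ad_of_nilpotent_algebra
      (R := p.asIdeal.ResidueField)
      (L := engel p.asIdeal.ResidueField ((1 : p.asIdeal.ResidueField) ⊗ₜ[A] a))
    rw [LieAlgebra.isNilpotent_iff_forall (R := p.asIdeal.ResidueField)]
    intro u
    refine ⟨k, ?_⟩
    refine LinearMap.ext fun v => ?_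
    apply hιinj
    have hpow : ∀ (n : ℕ) (v : p.asIdeal.ResidueField ⊗[A] (engel A a)),
        ι ((ad p.asIdeal.ResidueField (p.asIdeal.ResidueField ⊗[A] (engel A a)) u ^ n) v) =
          (ad p.asIdeal.ResidueField (p.asIdeal.ResidueField ⊗[A] L) (ι u) ^ n) (ι v) := by
      intro n
      induction n with
      | zero => intro v; simp
      | succ n ih =>
        intro v
        rw [pow_succ', Module.End.mul_apply, hιlie, ih, pow_succ', Module.End.mul_apply]
    rw [hpow, LinearMap.zero_apply, map_zero]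
    have h2 := congrArg Subtype.val (LinearMap.congr_fun (hk ⟨ι u, hιmem u⟩) ⟨ι v, hιmem v⟩)
    rw [LieSubalgebra.coe_ad_pow] at h2
    simpa using h2
  · -- self-normalizing
    intro x hx
    show x ∈ (engel A a).toSubmodule.baseChange p.asIdeal.ResidueField
    rw [hfib p]
    have h1 : x ∈ (engel p.asIdeal.ResidueField
        ((1 : p.asIdeal.ResidueField) ⊗ₜ[A] a)).normalizer := by
      rw [LieSubalgebra.mem_normalizer_iff]
      intro y hy
      have h2 := hx y (by
        show y ∈ (engel A a).toSubmodule.baseChange p.asIdeal.ResidueField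
        rw [hfib p]; exact hy)
      change ⁅x, y⁆ ∈ (engel A a).toSubmodule.baseChange p.asIdeal.ResidueField at h2
      rw [hfib p] at h2
      exact h2
    rw [LieSubalgebra.normalizer_engel] at h1
    exact h1
  · -- rank
    show finrank p.asIdeal.ResidueField
      ((engel A a).toSubmodule.baseChange p.asIdeal.ResidueField) = _
    rw [hfib p]
    exact (LieAlgebra.isRegular_iff_finrank_engel_eq_rank p.asIdeal.ResidueField _).mp (hreg p)

theorem main (a : L) (ha : SGA3t2b.IsQuasiRegular A L a) :
    (∀ H : LieSubalgebra A L, SGA3t2b.IsCartanRel H → a ∈ H → H = LieSubalgebra.engel A a) ∧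
    ((∃ H : LieSubalgebra A L, SGA3t2b.IsCartanRel H ∧ a ∈ H) ↔
      (Module.Projective A (L ⧸ (LieSubalgebra.engel A a).toSubmodule) ∧
        (∀ z : L, ⁅a, z⁆ ∈ LieSubalgebra.engel A a → z ∈ LieSubalgebra.engel A a) ∧
        (∀ y : L, ∃ z : L, ⁅a, z⁆ - y ∈ LieSubalgebra.engel A a))) := by
  refine ⟨fun H hH haH => eq_engel_of_isCartanRel H hH haH ha, ⟨?_, ?_⟩⟩
  · rintro ⟨H, hH, haH⟩
    exact forward a ha H hH haH
  · rintro ⟨h1, h2, h3⟩
    exact ⟨engel A a, backward a ha h1 h2 h3, self_mem_engel A a⟩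

end Main

end Groth.Agent.H4.LieCartanRel
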