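import Mathlib
import Groth.Prelude.Def_W4sga3xiixivxvCartan
import Groth.Agent.H4.LieCartanRel

set_option autoImplicit false
universe u
open scoped TensorProduct
open Module LieSubalgebra LieAlgebra
open Groth.Agent.H4.LieFib Groth.Agent.H4.LieEngelNil Groth.Agent.H4.LieCartanRel

namespace Groth.Agent.H4.LieCartanAut

attribute [local instance 100] LieRing.ofAssociativeRing

variable {A : Type u} [CommRing A] {L : Type u} [LieRing L] [LieAlgebra A L]

lemma map_ad_pow (u : L ≃ₗ⁅A⁆ L) (a : L) (n : ℕ) (y : L) :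
    (ad A L (u a) ^ n) (u y) = u ((ad A L a ^ n) y) := by
  induction n generalizing y with
  | zero => simp
  | succ n ih =>
    rw [pow_succ, Module.End.mul_apply, ad_apply, ← LieEquiv.map_lie, ih, pow_succ,
      Module.End.mul_apply, ad_apply]

lemma map_mem_engel (u : L ≃ₗ⁅A⁆ L) {a y : L} (hy : y ∈ engel A a) : u y ∈ engel A (u a) := by
  rw [mem_engel_iff] at hy ⊢
  obtain ⟨n, hn⟩ := hy
  exact ⟨n, by rw [map_ad_pow, hn, map_zero]⟩

lemma map_engel (u : L ≃ₗ⁅A⁆ L) (a : L) : (engel A a).map u.toLieHom = engel A (u a) := by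
  ext x
  rw [LieSubalgebra.mem_map]
  constructor
  · rintro ⟨y, hy, rfl⟩
    exact map_mem_engel u hy
  · intro hx
    refine ⟨u.symm x, ?_, by simp⟩
    have := map_mem_engel u.symm hx
    simpa using this

variable [Module.Finite A L] [Module.Projective A L]

lemma isQuasiRegular_map (a : L) (ha : SGA3t2b.IsQuasiRegular A L a) (u : L ≃ₗ⁅A⁆ L) :
    SGA3t2b.IsQuasiRegular A L (u a) := by
  intro p
  have h0 := ha p
  rw [LieAlgebra.isRegular_iff_natTrailingDegree_charpoly_eq_rank] at h0 ⊢
  rw [← h0]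
  congr 1
  have hcomm : (ad A L (u a)) ∘ₗ u.toLinearEquiv.toLinearMap =
      u.toLinearEquiv.toLinearMap ∘ₗ (ad A L a) := by
    ext x
    simp only [LinearMap.comp_apply, LinearEquiv.coe_coe, LieEquiv.coe_toLinearEquiv, ad_apply]
    exact (LieEquiv.map_lie u a x).symm
  have hconj : ad p.asIdeal.ResidueField (p.asIdeal.ResidueField ⊗[A] L)
      ((1 : p.asIdeal.ResidueField) ⊗ₜ[A] u a) =
      (u.toLinearEquiv.baseChange A p.asIdeal.ResidueField L L).conj
        (ad p.asIdeal.ResidueField (p.asIdeal.ResidueField ⊗[A] L)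
          ((1 : p.asIdeal.ResidueField) ⊗ₜ[A] a)) := by
    rw [ad_tmul, ad_tmul]
    apply LinearMap.ext
    intro y
    obtain ⟨z, rfl⟩ := (u.toLinearEquiv.baseChange A p.asIdeal.ResidueField L L).surjective y
    rw [LinearEquiv.conj_apply_apply, LinearEquiv.symm_apply_apply]
    have := LinearMap.congr_fun (congrArg (LinearMap.baseChange p.asIdeal.ResidueField) hcomm) z
    rw [LinearMap.baseChange_comp, LinearMap.baseChange_comp] at this
    exact this
  rw [hconj, LinearEquiv.charpoly_conj]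

theorem main (H : LieSubalgebra A L) (hH : SGA3t2b.IsCartanRel H) (a : L) (haH : a ∈ H)
    (ha : SGA3t2b.IsQuasiRegular A L a) (u : L ≃ₗ⁅A⁆ L) :
    H.map u.toLieHom = H ↔ u a ∈ H := by
  constructor
  · intro h
    rw [← h]
    exact (LieSubalgebra.mem_map _ _ _).mpr ⟨a, haH, rfl⟩
  · intro hua
    have h1 := eq_engel_of_isCartanRel H hH haH ha
    have h2 := eq_engel_of_isCartanRel H hH hua (isQuasiRegular_map a ha u)
    calc H.map u.toLieHom = (engel A a).map u.toLieHom := by rw [← h1]
      _ = engel A (u a) := map_engel u a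
      _ = H := h2.symm

end Groth.Agent.H4.LieCartanAut
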