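import Mathlib
import Groth.Agent.H4.LieFib
import Groth.Agent.H4.LieEngelNil

set_option autoImplicit false
universe u
open scoped TensorProduct
open Module LieSubalgebra LieAlgebra
open Groth.Agent.H4.LieFib Groth.Agent.H4.LieEngelNil

namespace Groth.Agent.H4.LieRegOpen

attribute [local instance 100] LieRing.ofAssociativeRing

section LinAlg

variable {K V W : Type*} [Field K] [AddCommGroup V] [Module K V] [AddCommGroup W] [Module K W]
  [FiniteDimensional K V] [FiniteDimensional K W]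

lemma charpoly_section (f : V →ₗ[K] W) (g : W →ₗ[K] V) (hfg : f ∘ₗ g = LinearMap.id)
    (φ : Module.End K W) :
    (g ∘ₗ φ ∘ₗ f).charpoly = φ.charpoly * Polynomial.X ^ (finrank K V - finrank K W) := by
  have hfg' : ∀ w, f (g w) = w := fun w => LinearMap.congr_fun hfg w
  have hmem : ∀ v : V, ((LinearMap.id : V →ₗ[K] V) - g ∘ₗ f) v ∈ LinearMap.ker f := by
    intro v
    simp [hfg']
  let toL : V →ₗ[K] W × LinearMap.ker f :=
    f.prod (LinearMap.codRestrict (LinearMap.ker f) ((LinearMap.id : V →ₗ[K] V) - g ∘ₗ f) hmem)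
  let invL : W × LinearMap.ker f →ₗ[K] V := g.coprod (LinearMap.ker f).subtype
  let e : V ≃ₗ[K] W × LinearMap.ker f := LinearEquiv.ofLinear toL invL
    (by
      apply LinearMap.ext
      rintro ⟨w, p⟩
      have hp : f (p : V) = 0 := p.2
      ext <;> simp [toL, invL, hfg', hp])
    (by
      apply LinearMap.ext
      intro v
      simp [toL, invL])
  have hconj : e.conj (g ∘ₗ φ ∘ₗ f) = φ.prodMap (0 : Module.End K (LinearMap.ker f)) := by
    apply LinearMap.ext
    rintro ⟨w, p⟩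
    have hp : f (p : V) = 0 := p.2
    rw [LinearEquiv.conj_apply_apply]
    ext <;> simp [e, toL, invL, hfg', hp]
  have hsurj : Function.Surjective f := fun w => ⟨g w, hfg' w⟩
  have hker : finrank K (LinearMap.ker f) = finrank K V - finrank K W := by
    have := LinearMap.finrank_range_add_finrank_ker f
    rw [LinearMap.range_eq_top.mpr hsurj, finrank_top] at this
    omega
  rw [← e.charpoly_conj, hconj, LinearMap.charpoly_prodMap, LinearMap.charpoly_zero, hker]

end LinAlg

section Reg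

variable {A : Type u} [CommRing A] {L : Type u} [LieRing L] [LieAlgebra A L]
  [Module.Finite A L] [Module.Projective A L]

lemma isRegular_iff_coeff_notMem {n : ℕ} (f : (Fin n → A) →ₗ[A] L) (g : L →ₗ[A] (Fin n → A))
    (hfg : f ∘ₗ g = LinearMap.id) (a : L) (q : PrimeSpectrum A) :
    LieAlgebra.IsRegular q.asIdeal.ResidueField ((1 : q.asIdeal.ResidueField) ⊗ₜ[A] a) ↔
      (g ∘ₗ (ad A L a) ∘ₗ f).charpoly.coeff
        (LieAlgebra.rank q.asIdeal.ResidueField (q.asIdeal.ResidueField ⊗[A] L) +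
          (n - finrank q.asIdeal.ResidueField (q.asIdeal.ResidueField ⊗[A] L))) ∉ q.asIdeal := by
  haveI : Nontrivial A :=
    ⟨⟨0, 1, fun h => q.2.ne_top ((Ideal.eq_top_iff_one _).mpr (h ▸ q.asIdeal.zero_mem))⟩⟩
  have hfgq : f.baseChange q.asIdeal.ResidueField ∘ₗ g.baseChange q.asIdeal.ResidueField =
      LinearMap.id := by
    rw [← LinearMap.baseChange_comp, hfg, LinearMap.baseChange_id]
  have h1 : ((g ∘ₗ (ad A L a) ∘ₗ f).baseChange q.asIdeal.ResidueField).charpoly =
      (ad q.asIdeal.ResidueField (q.asIdeal.ResidueField ⊗[A] L)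
        ((1 : q.asIdeal.ResidueField) ⊗ₜ[A] a)).charpoly *
        Polynomial.X ^ (n - finrank q.asIdeal.ResidueField (q.asIdeal.ResidueField ⊗[A] L)) := by
    have h0 : (g ∘ₗ (ad A L a) ∘ₗ f).baseChange q.asIdeal.ResidueField =
        g.baseChange q.asIdeal.ResidueField ∘ₗ
          (ad q.asIdeal.ResidueField (q.asIdeal.ResidueField ⊗[A] L)
            ((1 : q.asIdeal.ResidueField) ⊗ₜ[A] a)) ∘ₗ f.baseChange q.asIdeal.ResidueField := by
      rw [ad_tmul, LinearMap.baseChange_comp, LinearMap.baseChange_comp]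
    rw [h0, charpoly_section _ _ hfgq, Module.finrank_baseChange, Module.finrank_fin_fun]
  have h2 : ((g ∘ₗ (ad A L a) ∘ₗ f).baseChange q.asIdeal.ResidueField).charpoly =
      (g ∘ₗ (ad A L a) ∘ₗ f).charpoly.map (algebraMap A q.asIdeal.ResidueField) :=
    LinearMap.charpoly_baseChange _ _
  rw [← Ideal.algebraMap_residueField_eq_zero (I := q.asIdeal), ← Polynomial.coeff_map, ← h2, h1,
    Polynomial.coeff_mul_X_pow, LieAlgebra.isRegular_iff_natTrailingDegree_charpoly_eq_rank]
  have hP : (ad q.asIdeal.ResidueField (q.asIdeal.ResidueField ⊗[A] L)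
      ((1 : q.asIdeal.ResidueField) ⊗ₜ[A] a)).charpoly ≠ 0 := (LinearMap.charpoly_monic _).ne_zero
  have hle := LieAlgebra.rank_le_natTrailingDegree_charpoly_ad q.asIdeal.ResidueField
    ((1 : q.asIdeal.ResidueField) ⊗ₜ[A] a)
  constructor
  · intro h
    rw [← h]
    exact Polynomial.coeff_natTrailingDegree_ne_zero.mpr hP
  · intro h
    exact le_antisymm (Polynomial.natTrailingDegree_le_of_ne_zero h) hle

lemma finrank_fibre_eq (q : PrimeSpectrum A) :
    finrank q.asIdeal.ResidueField (q.asIdeal.ResidueField ⊗[A] L) = Module.rankAtStalk L q :=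
  (Module.rankAtStalk_eq q).symm

/-- Local openness of the regular locus: if the nilpotent rank is constant on `D(f₀) ∋ p₀`
and `a` is regular at `p₀` then `a` is regular on a basic open neighbourhood of `p₀`. -/
theorem exists_basicOpen_regular (a : L) (p₀ : PrimeSpectrum A) (f₀ : A) (hf₀ : f₀ ∉ p₀.asIdeal)
    (hrank : ∀ q : PrimeSpectrum A, f₀ ∉ q.asIdeal →
        LieAlgebra.rank q.asIdeal.ResidueField (q.asIdeal.ResidueField ⊗[A] L) =
          LieAlgebra.rank p₀.asIdeal.ResidueField (p₀.asIdeal.ResidueField ⊗[A] L))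
    (hp₀ : LieAlgebra.IsRegular p₀.asIdeal.ResidueField
      ((1 : p₀.asIdeal.ResidueField) ⊗ₜ[A] a)) :
    ∃ h : A, h ∉ p₀.asIdeal ∧ ∀ q : PrimeSpectrum A, h ∉ q.asIdeal →
      f₀ ∉ q.asIdeal ∧
      LieAlgebra.IsRegular q.asIdeal.ResidueField ((1 : q.asIdeal.ResidueField) ⊗ₜ[A] a) := by
  obtain ⟨n, f, g, -, -, hfg⟩ := Module.Finite.exists_comp_eq_id_of_projective A L
  haveI : Module.FinitePresentation A L := Module.finitePresentation_of_projective A L
  have hlc : IsLocallyConstant (Module.rankAtStalk (R := A) L) :=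
    Module.isLocallyConstant_rankAtStalk
  have hopen : IsOpen {q : PrimeSpectrum A | Module.rankAtStalk L q = Module.rankAtStalk L p₀} :=
    hlc.isOpen_fiber _
  obtain ⟨_, ⟨f₁, rfl⟩, hp₁, hsub⟩ :=
    PrimeSpectrum.isTopologicalBasis_basic_opens.exists_subset_of_mem_open
      (show p₀ ∈ {q : PrimeSpectrum A | Module.rankAtStalk L q = Module.rankAtStalk L p₀} from rfl)
      hopen
  have hc := (isRegular_iff_coeff_notMem f g hfg a p₀).mp hp₀
  obtain ⟨c, hcdef⟩ : ∃ c : A, c = (g ∘ₗ (ad A L a) ∘ₗ f).charpoly.coeff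
      (LieAlgebra.rank p₀.asIdeal.ResidueField (p₀.asIdeal.ResidueField ⊗[A] L) +
        (n - finrank p₀.asIdeal.ResidueField (p₀.asIdeal.ResidueField ⊗[A] L))) := ⟨_, rfl⟩
  rw [← hcdef] at hc
  refine ⟨f₀ * f₁ * c, ?_, ?_⟩
  · exact p₀.2.mul_notMem (p₀.2.mul_notMem hf₀ hp₁) hc
  · intro q hq
    have hq1 : f₀ ∉ q.asIdeal := fun h => hq (Ideal.mul_mem_right _ _ (Ideal.mul_mem_right _ _ h))
    have hq2 : f₁ ∉ q.asIdeal := fun h => hq (Ideal.mul_mem_right _ _ (Ideal.mul_mem_left _ _ h))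
    refine ⟨hq1, ?_⟩
    rw [isRegular_iff_coeff_notMem f g hfg a q, hrank q hq1, finrank_fibre_eq,
      show Module.rankAtStalk L q = Module.rankAtStalk L p₀ from hsub hq2, ← finrank_fibre_eq,
      ← hcdef]
    exact fun h => hq (Ideal.mul_mem_left _ _ h)

theorem isOpen_regular
    (hC0 : ∀ p : PrimeSpectrum A, ∃ f : A, f ∉ p.asIdeal ∧ ∀ q : PrimeSpectrum A, f ∉ q.asIdeal →
        LieAlgebra.rank q.asIdeal.ResidueField (q.asIdeal.ResidueField ⊗[A] L) =
          LieAlgebra.rank p.asIdeal.ResidueField (p.asIdeal.ResidueField ⊗[A] L)) (a : L) :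
    IsOpen {p : PrimeSpectrum A |
      LieAlgebra.IsRegular p.asIdeal.ResidueField ((1 : p.asIdeal.ResidueField) ⊗ₜ[A] a)} := by
  rw [isOpen_iff_forall_mem_open]
  intro p₀ hp₀
  obtain ⟨f₀, hf₀, hrank⟩ := hC0 p₀
  obtain ⟨h, hh, hreg⟩ := exists_basicOpen_regular a p₀ f₀ hf₀ hrank hp₀
  refine ⟨(PrimeSpectrum.basicOpen h : Set (PrimeSpectrum A)), ?_, (PrimeSpectrum.basicOpen h).isOpen,
    hh⟩
  intro q hq
  exact (hreg q hq).2

end Reg

end Groth.Agent.H4.LieRegOpen
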