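import Mathlib
import Groth.Prelude.Def_W4sga3xiixivxvCartan
import Groth.Agent.H4.LieCartanRel
import Groth.Agent.H4.LieRegOpen

set_option autoImplicit false
universe u
open scoped TensorProduct
open Module LieSubalgebra LieAlgebra
open Groth.Agent.H4.LieFib Groth.Agent.H4.LieEngelNil Groth.Agent.H4.LieCartanRel
  Groth.Agent.H4.LieRegOpen

namespace Groth.Agent.H4.LieCartanAux

attribute [local instance 100] LieRing.ofAssociativeRing

section ModuleLemma

variable {A : Type*} [CommRing A] {Q : Type*} [AddCommGroup Q] [Module A Q]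
  [Module.Finite A Q] [Module.Projective A Q]

lemma exists_pow_smul_eq_zero (ψ : Module.End A Q) (h : A)
    (hinj : ∀ q : PrimeSpectrum A, h ∉ q.asIdeal →
      Function.Injective (ψ.baseChange q.asIdeal.ResidueField))
    {x : Q} {k : ℕ} (hx : (ψ ^ k) x = 0) : ∃ n : ℕ, h ^ n • x = 0 := by
  obtain ⟨m, f, g, -, -, hfg⟩ := Module.Finite.exists_comp_eq_id_of_projective A Q
  have hfg' : ∀ z, f (g z) = z := fun z => LinearMap.congr_fun hfg z
  obtain ⟨Ψ, hΨdef⟩ : ∃ Ψ : Module.End A (Fin m → A),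
      Ψ = g ∘ₗ ψ ∘ₗ f + ((LinearMap.id : (Fin m → A) →ₗ[A] (Fin m → A)) - g ∘ₗ f) := ⟨_, rfl⟩
  have hΨg : ∀ z, Ψ (g z) = g (ψ z) := by
    intro z
    simp [hΨdef, hfg']
  have hΨpow : ∀ (k : ℕ) (z : Q), (Ψ ^ k) (g z) = g ((ψ ^ k) z) := by
    intro k
    induction k with
    | zero => intro z; simp
    | succ k ih =>
      intro z
      rw [pow_succ, Module.End.mul_apply, hΨg, ih, pow_succ, Module.End.mul_apply]
  have hδ : ∀ q : PrimeSpectrum A, h ∉ q.asIdeal → LinearMap.det Ψ ∉ q.asIdeal := by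
    intro q hq hδq
    have h1 : LinearMap.det (Ψ.baseChange q.asIdeal.ResidueField) = 0 := by
      rw [LinearMap.det_baseChange]
      exact Ideal.algebraMap_residueField_eq_zero.mpr hδq
    have h2 := LinearMap.bot_lt_ker_of_det_eq_zero h1
    have h3 : Function.Injective (Ψ.baseChange q.asIdeal.ResidueField) := by
      have hfgq : f.baseChange q.asIdeal.ResidueField ∘ₗ g.baseChange q.asIdeal.ResidueField =
          LinearMap.id := by
        rw [← LinearMap.baseChange_comp, hfg, LinearMap.baseChange_id]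
      have hfgq' : ∀ z, f.baseChange q.asIdeal.ResidueField
          (g.baseChange q.asIdeal.ResidueField z) = z := fun z => LinearMap.congr_fun hfgq z
      have hΨq : Ψ.baseChange q.asIdeal.ResidueField =
          g.baseChange q.asIdeal.ResidueField ∘ₗ ψ.baseChange q.asIdeal.ResidueField ∘ₗ
            f.baseChange q.asIdeal.ResidueField +
          (LinearMap.id - g.baseChange q.asIdeal.ResidueField ∘ₗ
            f.baseChange q.asIdeal.ResidueField) := by
        rw [hΨdef, LinearMap.baseChange_add, LinearMap.baseChange_sub, LinearMap.baseChange_comp,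
          LinearMap.baseChange_comp, LinearMap.baseChange_comp, LinearMap.baseChange_id]
      rw [injective_iff_map_eq_zero]
      intro v hv
      rw [hΨq] at hv
      have h4 : ψ.baseChange q.asIdeal.ResidueField
          (f.baseChange q.asIdeal.ResidueField v) = 0 := by
        have := congrArg (f.baseChange q.asIdeal.ResidueField) hv
        simpa [hfgq'] using this
      have h5 : f.baseChange q.asIdeal.ResidueField v = 0 :=
        (injective_iff_map_eq_zero _).mp (hinj q hq) _ h4
      simpa [h5] using hv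
    rw [LinearMap.ker_eq_bot.mpr h3] at h2
    exact lt_irrefl _ h2
  have hrad : h ∈ (Ideal.span {LinearMap.det Ψ}).radical := by
    rw [Ideal.radical_eq_sInf, Ideal.mem_sInf]
    rintro J ⟨hJ1, hJ2⟩
    by_contra hh
    exact hδ ⟨J, hJ2⟩ hh (hJ1 (Ideal.subset_span rfl))
  obtain ⟨N, hN⟩ := hrad
  obtain ⟨c, hc⟩ := Ideal.mem_span_singleton'.mp hN
  have hadj : ∀ v, (Matrix.toLin' (LinearMap.toMatrix' Ψ).adjugate) (Ψ v) =
      LinearMap.det Ψ • v := by
    intro v
    have h1 : Matrix.toLin' ((LinearMap.toMatrix' Ψ).adjugate * LinearMap.toMatrix' Ψ) =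
        LinearMap.det Ψ • LinearMap.id := by
      rw [Matrix.adjugate_mul, map_smul, Matrix.toLin'_one, LinearMap.det_toMatrix']
    rw [Matrix.toLin'_mul, Matrix.toLin'_toMatrix'] at h1
    exact LinearMap.congr_fun h1 v
  have hδk : ∀ (k : ℕ) (v : Fin m → A), (Ψ ^ k) v = 0 → LinearMap.det Ψ ^ k • v = 0 := by
    intro k
    induction k with
    | zero => intro v hv; simpa using hv
    | succ k ih =>
      intro v hv
      rw [pow_succ, Module.End.mul_apply] at hv
      have h1 := ih (Ψ v) hv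
      have h2 := congrArg (Matrix.toLin' (LinearMap.toMatrix' Ψ).adjugate) h1
      rw [map_smul, hadj, map_zero] at h2
      rw [pow_succ, mul_smul]
      exact h2
  have h6 : LinearMap.det Ψ ^ k • g x = 0 := hδk k (g x) (by rw [hΨpow, hx, map_zero])
  have h7 : LinearMap.det Ψ ^ k • x = 0 := by
    have := congrArg f h6
    rwa [map_smul, hfg', map_zero] at this
  refine ⟨N * k, ?_⟩
  rw [pow_mul, ← hc, mul_pow, mul_smul, h7, smul_zero]

end ModuleLemma

section Denominators

variable {A : Type*} [CommRing A] (p : PrimeSpectrum A)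

lemma exists_mul_eq_algebraMap (c : p.asIdeal.ResidueField) :
    ∃ s : A, s ∉ p.asIdeal ∧ ∃ a : A, algebraMap A p.asIdeal.ResidueField s * c =
      algebraMap A p.asIdeal.ResidueField a := by
  obtain ⟨y, rfl⟩ := IsLocalRing.residue_surjective c
  obtain ⟨a, s, rfl⟩ := IsLocalization.exists_mk'_eq p.asIdeal.primeCompl y
  refine ⟨s, s.2, a, ?_⟩
  have h1 : algebraMap A (Localization.AtPrime p.asIdeal) s *
      IsLocalization.mk' (Localization.AtPrime p.asIdeal) a s =
      algebraMap A (Localization.AtPrime p.asIdeal) a := IsLocalization.mk'_spec' _ _ _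
  have h2 := congrArg (IsLocalRing.residue (Localization.AtPrime p.asIdeal)) h1
  rw [map_mul] at h2
  exact h2

variable {M : Type*} [AddCommGroup M] [Module A M]

lemma exists_smul_eq_tmul (u : p.asIdeal.ResidueField ⊗[A] M) :
    ∃ s : A, s ∉ p.asIdeal ∧ ∃ m : M,
      algebraMap A p.asIdeal.ResidueField s • u = (1 : p.asIdeal.ResidueField) ⊗ₜ[A] m := by
  induction u using TensorProduct.induction_on with
  | zero => exact ⟨1, p.2.one_notMem, 0, by simp⟩
  | tmul c m =>
    obtain ⟨s, hs, a, ha⟩ := exists_mul_eq_algebraMap p c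
    refine ⟨s, hs, a • m, ?_⟩
    rw [TensorProduct.smul_tmul', smul_eq_mul, ha, Algebra.algebraMap_eq_smul_one,
      TensorProduct.smul_tmul]
  | add u v hu hv =>
    obtain ⟨s₁, hs₁, m₁, h₁⟩ := hu
    obtain ⟨s₂, hs₂, m₂, h₂⟩ := hv
    refine ⟨s₁ * s₂, p.2.mul_notMem hs₁ hs₂, s₂ • m₁ + s₁ • m₂, ?_⟩
    have e1 : algebraMap A p.asIdeal.ResidueField (s₁ * s₂) • u =
        algebraMap A p.asIdeal.ResidueField s₂ • (1 : p.asIdeal.ResidueField) ⊗ₜ[A] m₁ := by
      rw [← h₁, smul_smul, map_mul, mul_comm]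
    have e2 : algebraMap A p.asIdeal.ResidueField (s₁ * s₂) • v =
        algebraMap A p.asIdeal.ResidueField s₁ • (1 : p.asIdeal.ResidueField) ⊗ₜ[A] m₂ := by
      rw [← h₂, smul_smul, map_mul]
    have e3 : ∀ (s : A) (m : M), algebraMap A p.asIdeal.ResidueField s •
        (1 : p.asIdeal.ResidueField) ⊗ₜ[A] m = (1 : p.asIdeal.ResidueField) ⊗ₜ[A] (s • m) := by
      intro s m
      rw [TensorProduct.smul_tmul', smul_eq_mul, mul_one, Algebra.algebraMap_eq_smul_one,
        TensorProduct.smul_tmul]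
    rw [smul_add, e1, e2, e3, e3, TensorProduct.tmul_add]

end Denominators

section Field

variable {K L : Type*} [Field K] [LieRing L] [LieAlgebra K L] [Module.Finite K L]

lemma engel_smul (c : K) (hc : c ≠ 0) (x : L) : engel K (c • x) = engel K x := by
  ext y
  rw [mem_engel_iff, mem_engel_iff]
  have h : ∀ n : ℕ, ((ad K L (c • x)) ^ n) y = c ^ n • ((ad K L x) ^ n) y := by
    intro n
    rw [map_smul, smul_pow, LinearMap.smul_apply]
  constructor
  · rintro ⟨n, hn⟩
    rw [h] at hn
    exact ⟨n, (smul_eq_zero.mp hn).resolve_left (pow_ne_zero n hc)⟩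
  · rintro ⟨n, hn⟩
    exact ⟨n, by rw [h, hn, smul_zero]⟩

lemma isRegular_smul (c : K) (hc : c ≠ 0) {x : L} (hx : LieAlgebra.IsRegular K x) :
    LieAlgebra.IsRegular K (c • x) := by
  rw [LieAlgebra.isRegular_iff_finrank_engel_eq_rank] at hx ⊢
  rw [engel_smul c hc]
  exact hx

theorem exists_isRegular_mem_of_cartan [Infinite K] (U : LieSubalgebra K L)
    (hN : ∀ y ∈ U, U ≤ engel K y)
    (hSN : ∀ x : L, (∀ y ∈ U, ⁅x, y⁆ ∈ U) → x ∈ U)
    (hD : finrank K U = LieAlgebra.rank K L) :
    ∃ x ∈ U, LieAlgebra.IsRegular K x := by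
  haveI : LieRing.IsNilpotent U := isNilpotent_of_forall_le_engel U hN
  haveI : U.IsCartanSubalgebra :=
    ⟨inferInstance, by
      ext x
      rw [LieSubalgebra.mem_normalizer_iff]
      exact ⟨hSN x, fun hx y hy => U.lie_mem hx hy⟩⟩
  obtain ⟨x, hxU, hmin⟩ : ∃ x ∈ U, ∀ y ∈ U,
      finrank K (engel K x) ≤ finrank K (engel K y) := by
    classical
    let S : Set ℕ := {m | ∃ y ∈ U, finrank K (engel K y) = m}
    have hS : S.Nonempty := ⟨_, 0, U.zero_mem, rfl⟩
    obtain ⟨x, hxU, hx⟩ := Nat.sInf_mem hS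
    exact ⟨x, hxU, fun y hy => hx ▸ Nat.sInf_le ⟨y, hy, rfl⟩⟩
  have hcard : finrank K L ≤ Cardinal.mk K :=
    Cardinal.natCast_le_aleph0.trans (Cardinal.infinite_iff.mp inferInstance)
  have hbot : IsBot (⟨engel K x, x, hxU, rfl⟩ : {engel K z | z ∈ U}) := by
    apply engel_isBot_of_isMin hcard U _ (hN x hxU)
    rintro ⟨_, y, hy, rfl⟩ hyx
    have : engel K y = engel K x := by
      apply LieSubalgebra.toSubmodule_injective
      exact Submodule.eq_of_le_of_finrank_le hyx (hmin y hy)
    exact this.ge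
  have hEU : engel K x ≤ U := by
    intro z hz
    have hz0 : z ∈ zeroRootSubalgebra K L U := by
      rw [mem_zeroRootSubalgebra]
      intro y
      have h1 : engel K x ≤ engel K (y : L) := @hbot ⟨engel K (y : L), y, y.2, rfl⟩
      have hz' : z ∈ engel K (y : L) := h1 hz
      rw [mem_engel_iff] at hz'
      exact hz'
    rwa [zeroRootSubalgebra_eq_of_is_cartan] at hz0
  have hE : engel K x = U := le_antisymm hEU (hN x hxU)
  refine ⟨x, hxU, ?_⟩
  rw [LieAlgebra.isRegular_iff_finrank_engel_eq_rank, hE]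
  exact hD

end Field

end Groth.Agent.H4.LieCartanAux
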