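import Mathlib
import Groth.Prelude.Def_W4sga3xiixivxvCartan
import Groth.Agent.H4.LieCartanAux

set_option autoImplicit false
universe u
open scoped TensorProduct
open Module LieSubalgebra LieAlgebra
open Groth.Agent.H4.LieFib Groth.Agent.H4.LieEngelNil Groth.Agent.H4.LieCartanRel
  Groth.Agent.H4.LieRegOpen Groth.Agent.H4.LieCartanAux

namespace Groth.Agent.H4.LieCartanLocal

attribute [local instance 100] LieRing.ofAssociativeRing

section Incl

variable {A : Type*} [CommRing A] {L : Type*} [LieRing L] [LieAlgebra A L]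
  (H : LieSubalgebra A L) (B : Type*) [CommRing B] [Algebra A B]

/-- the base change of the inclusion `H → L`. -/
def inclB : B ⊗[A] H →ₗ[B] B ⊗[A] L := (H.toSubmodule.subtype).baseChange B

lemma inclB_tmul (b : B) (h : H) : inclB H B (b ⊗ₜ h) = b ⊗ₜ (h : L) := rfl

lemma inclB_ad (u v : B ⊗[A] H) :
    inclB H B ((ad B (B ⊗[A] H) u) v) = (ad B (B ⊗[A] L) (inclB H B u)) (inclB H B v) := by
  induction u using TensorProduct.induction_on with
  | zero => simp
  | tmul s x =>
    induction v using TensorProduct.induction_on with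
    | zero => simp
    | tmul t y => simp [inclB_tmul]
    | add v w hv hw => simp only [map_add, hv, hw]
  | add u w hu hw => simp only [map_add, LinearMap.add_apply, hu, hw]

lemma inclB_ad_pow (u v : B ⊗[A] H) (n : ℕ) :
    inclB H B (((ad B (B ⊗[A] H) u) ^ n) v) =
      ((ad B (B ⊗[A] L) (inclB H B u)) ^ n) (inclB H B v) := by
  induction n generalizing v with
  | zero => simp
  | succ n ih => rw [pow_succ, Module.End.mul_apply, ih, inclB_ad, pow_succ, Module.End.mul_apply]

lemma mem_baseChange_iff (x : B ⊗[A] L) :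
    x ∈ H.toSubmodule.baseChange B ↔ ∃ u, inclB H B u = x := Iff.rfl

/-- The fibre of a Lie subalgebra as a Lie subalgebra of the base change. -/
def fibreSubalgebra : LieSubalgebra B (B ⊗[A] L) :=
  { H.toSubmodule.baseChange B with
    lie_mem' := by
      intro x y hx hy
      obtain ⟨u, rfl⟩ := (mem_baseChange_iff H B x).mp hx
      obtain ⟨v, rfl⟩ := (mem_baseChange_iff H B y).mp hy
      exact (mem_baseChange_iff H B _).mpr ⟨(ad B (B ⊗[A] H) u) v, inclB_ad H B u v⟩ }

lemma mem_fibreSubalgebra_iff (x : B ⊗[A] L) :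
    x ∈ fibreSubalgebra H B ↔ ∃ u, inclB H B u = x := Iff.rfl

end Incl

section Main

variable {A : Type u} [CommRing A] {L : Type u} [LieRing L] [LieAlgebra A L]
  [Module.Finite A L] [Module.Projective A L]

lemma inclB_injective (H : LieSubalgebra A L) (hproj : Module.Projective A (L ⧸ H.toSubmodule))
    (B : Type*) [CommRing B] [Algebra A B] : Function.Injective (inclB H B) := by
  obtain ⟨r, hr⟩ := exists_retraction H.toSubmodule
  have h1 : (r.baseChange B) ∘ₗ inclB H B = LinearMap.id := by
    unfold inclB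
    rw [← LinearMap.baseChange_comp, hr, LinearMap.baseChange_id]
  exact Function.LeftInverse.injective (fun x => LinearMap.congr_fun h1 x)

lemma rank_eq_rankAtStalk (H : LieSubalgebra A L) (hH : SGA3t2b.IsCartanRel H)
    (q : PrimeSpectrum A) :
    LieAlgebra.rank q.asIdeal.ResidueField (q.asIdeal.ResidueField ⊗[A] L) =
      Module.rankAtStalk H q := by
  haveI : Module.Projective A (L ⧸ H.toSubmodule) := hH.1
  haveI : Module.Finite A H := finite_of_projective_quotient H.toSubmodule
  haveI : Module.Projective A H := projective_of_projective_quotient H.toSubmodule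
  rw [← (hH.2 q).2.2, Module.rankAtStalk_eq]
  have hinj := inclB_injective H hH.1 q.asIdeal.ResidueField
  exact (LinearEquiv.ofInjective (inclB H q.asIdeal.ResidueField) hinj).finrank_eq.symm

lemma isCartanRel_C0 (H : LieSubalgebra A L) (hH : SGA3t2b.IsCartanRel H) (p : PrimeSpectrum A) :
    ∃ f : A, f ∉ p.asIdeal ∧ ∀ q : PrimeSpectrum A, f ∉ q.asIdeal →
      LieAlgebra.rank q.asIdeal.ResidueField (q.asIdeal.ResidueField ⊗[A] L) =
        LieAlgebra.rank p.asIdeal.ResidueField (p.asIdeal.ResidueField ⊗[A] L) := by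
  haveI : Module.Projective A (L ⧸ H.toSubmodule) := hH.1
  haveI : Module.Finite A H := finite_of_projective_quotient H.toSubmodule
  haveI : Module.Projective A H := projective_of_projective_quotient H.toSubmodule
  haveI : Module.FinitePresentation A H := Module.finitePresentation_of_projective A H
  have hlc : IsLocallyConstant (Module.rankAtStalk (R := A) H) :=
    Module.isLocallyConstant_rankAtStalk
  have hopen := hlc.isOpen_fiber (Module.rankAtStalk H p)
  obtain ⟨_, ⟨f, rfl⟩, hp, hsub⟩ :=
    PrimeSpectrum.isTopologicalBasis_basic_opens.exists_subset_of_mem_open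
      (show p ∈ {q : PrimeSpectrum A | Module.rankAtStalk H q = Module.rankAtStalk H p} from rfl)
      hopen
  refine ⟨f, hp, fun q hq => ?_⟩
  rw [rank_eq_rankAtStalk H hH q, rank_eq_rankAtStalk H hH p]
  exact hsub hq

theorem main (H : LieSubalgebra A L) (hH : SGA3t2b.IsCartanRel H) (p : PrimeSpectrum A)
    (hp : Infinite p.asIdeal.ResidueField) :
    ∃ f : A, f ∉ p.asIdeal ∧ ∃ a : L, a ∈ H ∧
      (∀ q : PrimeSpectrum A, f ∉ q.asIdeal →
        LieAlgebra.IsRegular q.asIdeal.ResidueField ((1 : q.asIdeal.ResidueField) ⊗ₜ[A] a)) ∧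
      H ≤ LieSubalgebra.engel A a ∧
      ∀ y : L, y ∈ LieSubalgebra.engel A a → ∃ n : ℕ, f ^ n • y ∈ H := by
  haveI := hp
  haveI : Module.Projective A (L ⧸ H.toSubmodule) := hH.1
  haveI : Module.Finite A H := finite_of_projective_quotient H.toSubmodule
  haveI hnilp : LieRing.IsNilpotent (p.asIdeal.ResidueField ⊗[A] H) := (hH.2 p).1
  obtain ⟨k, hk⟩ := LieAlgebra.nilpotent_ad_of_nilpotent_algebra
    (R := p.asIdeal.ResidueField) (L := p.asIdeal.ResidueField ⊗[A] H)
  obtain ⟨x, hxU, hxreg⟩ := exists_isRegular_mem_of_cartan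
    (fibreSubalgebra H p.asIdeal.ResidueField)
    (by
      intro y hy z hz
      obtain ⟨u, rfl⟩ := (mem_fibreSubalgebra_iff H _ y).mp hy
      obtain ⟨v, rfl⟩ := (mem_fibreSubalgebra_iff H _ z).mp hz
      rw [mem_engel_iff]
      exact ⟨k, by rw [← inclB_ad_pow, hk, LinearMap.zero_apply, map_zero]⟩)
    (hH.2 p).2.1
    (hH.2 p).2.2
  obtain ⟨u, rfl⟩ := (mem_fibreSubalgebra_iff H _ x).mp hxU
  obtain ⟨s, hs, h, hsu⟩ := exists_smul_eq_tmul p u
  have hsK : algebraMap A p.asIdeal.ResidueField s ≠ 0 :=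
    fun h0 => hs (Ideal.algebraMap_residueField_eq_zero.mp h0)
  have hareg : LieAlgebra.IsRegular p.asIdeal.ResidueField
      ((1 : p.asIdeal.ResidueField) ⊗ₜ[A] (h : L)) := by
    have h1 := isRegular_smul _ hsK hxreg
    rwa [← map_smul, hsu, inclB_tmul] at h1
  obtain ⟨f₀, hf₀, hrank⟩ := isCartanRel_C0 H hH p
  obtain ⟨f, hf, hreg⟩ := exists_basicOpen_regular (h : L) p f₀ hf₀ hrank hareg
  refine ⟨f, hf, h, h.2, fun q hq => (hreg q hq).2, ?_, ?_⟩
  · intro x hx
    exact le_engel_of_isCartanRel H hH h.2 x hx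
  · intro y hy
    rw [mem_engel_iff] at hy
    obtain ⟨n, hn⟩ := hy
    have hN : ∀ x ∈ H.toSubmodule, ⁅(h : L), x⁆ ∈ H.toSubmodule :=
      fun x hx => H.lie_mem h.2 hx
    have hinj : ∀ q : PrimeSpectrum A, f ∉ q.asIdeal → Function.Injective
        ((adQ (h : L) H.toSubmodule hN).baseChange q.asIdeal.ResidueField) := by
      intro q hq
      apply injective_adQ_baseChange
      have hle := baseChange_le_engel (h : L) H.toSubmodule q.asIdeal.ResidueField
        (le_engel_of_isCartanRel H hH h.2)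
      apply Submodule.eq_of_le_of_finrank_eq hle
      have h1 := (hH.2 q).2.2
      have h2 := (LieAlgebra.isRegular_iff_finrank_engel_eq_rank q.asIdeal.ResidueField _).mp
        (hreg q hq).2
      exact h1.trans h2.symm
    have hzero : ((adQ (h : L) H.toSubmodule hN) ^ n) (H.toSubmodule.mkQ y) = 0 := by
      rw [adQ_pow_mk, hn, map_zero]
    obtain ⟨m, hm⟩ := exists_pow_smul_eq_zero _ f hinj hzero
    refine ⟨m, ?_⟩
    have hm' : H.toSubmodule.mkQ (f ^ m • y) = 0 := by
      rw [map_smul]; exact hm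
    exact (Submodule.Quotient.mk_eq_zero _).mp hm'

end Main

end Groth.Agent.H4.LieCartanLocal
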