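import Mathlib
import Groth.Agent.H4.LieEngelNil

set_option autoImplicit false
universe u
open scoped TensorProduct
open Module LieAlgebra

namespace Groth.Agent.H4.LieRankBC

attribute [local instance 100] LieRing.ofAssociativeRing

open Groth.Agent.H4.LieEngelNil

section FieldExt

variable {K L : Type*} [Field K] [LieRing L] [LieAlgebra K L] [Module.Finite K L]
variable (K' : Type*) [Field K'] [Algebra K K']

theorem rank_baseChange : LieAlgebra.rank K' (K' ⊗[K] L) = LieAlgebra.rank K L := by
  classical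
  let b := Module.Free.chooseBasis K L
  have h1 : LieAlgebra.rank K' (K' ⊗[K] L) =
      (LinearMap.polyCharpoly (LieModule.toEnd K' (K' ⊗[K] L) (K' ⊗[K] L)).toLinearMap
        (Algebra.TensorProduct.basis K' b)).natTrailingDegree :=
    LieAlgebra.rank_eq_natTrailingDegree K' (K' ⊗[K] L) _
  have h2 : LieAlgebra.rank K L =
      (LinearMap.polyCharpoly (LieModule.toEnd K L L).toLinearMap b).natTrailingDegree :=
    LieAlgebra.rank_eq_natTrailingDegree K L b
  rw [h1, h2, toEnd_eq_tensorProduct, LinearMap.polyCharpoly_baseChange]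
  exact natTrailingDegree_map_of_injective
    (MvPolynomial.map_injective _ (algebraMap K K').injective) _

theorem isRegular_tmul_iff (x : L) :
    LieAlgebra.IsRegular K' ((1 : K') ⊗ₜ[K] x) ↔ LieAlgebra.IsRegular K x := by
  rw [LieAlgebra.isRegular_iff_natTrailingDegree_charpoly_eq_rank,
    LieAlgebra.isRegular_iff_natTrailingDegree_charpoly_eq_rank, rank_baseChange,
    ad_tmul, LinearMap.charpoly_baseChange,
    natTrailingDegree_map_of_injective (algebraMap K K').injective]

end FieldExt

section Iso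

variable {K : Type*} [Field K] {L L' : Type*} [LieRing L] [LieAlgebra K L] [Module.Finite K L]
  [LieRing L'] [LieAlgebra K L'] [Module.Finite K L']
  (e : L ≃ₗ[K] L') (he : ∀ x y, e ⁅x, y⁆ = ⁅e x, e y⁆)

include he

lemma ad_map (x : L) : ad K L' (e x) = e.conj (ad K L x) := by
  apply LinearMap.ext
  intro y'
  rw [LinearEquiv.conj_apply_apply, ad_apply, ad_apply, he, LinearEquiv.apply_symm_apply]

lemma polyCharpoly_map {ι : Type*} [Fintype ι] [DecidableEq ι] (b : Basis ι K L) :
    LinearMap.polyCharpoly (LieModule.toEnd K L' L').toLinearMap (b.map e) =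
      LinearMap.polyCharpoly (LieModule.toEnd K L L).toLinearMap b := by
  classical
  let bₘ := Module.Free.chooseBasis K L
  rw [LinearMap.polyCharpoly_eq_of_basis _ (b.map e) (bₘ.map e),
    LinearMap.polyCharpoly_eq_of_basis _ b bₘ]
  have hend : (bₘ.map e).end = bₘ.end.map e.conj := by
    apply Basis.eq_of_apply_eq
    intro ij
    apply (bₘ.map e).ext
    intro k
    rw [Basis.end_apply_apply, Basis.map_apply, Basis.map_apply, LinearEquiv.conj_apply_apply,
      Basis.map_apply, LinearEquiv.symm_apply_apply, Basis.end_apply_apply]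
    split_ifs <;> simp
  have hmat : LinearMap.toMatrix (b.map e) (bₘ.map e).end (LieModule.toEnd K L' L').toLinearMap =
      LinearMap.toMatrix b bₘ.end (LieModule.toEnd K L L).toLinearMap := by
    rw [hend]
    ext ij k
    rw [LinearMap.toMatrix_apply, LinearMap.toMatrix_apply, Basis.map_apply, Basis.map_repr,
      LinearEquiv.trans_apply]
    congr 2
    rw [LinearEquiv.symm_apply_eq]
    exact ad_map e he (b k)
  unfold LinearMap.toMvPolynomial
  rw [hmat]

theorem rank_eq_of_equiv : LieAlgebra.rank K L' = LieAlgebra.rank K L := by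
  classical
  let b := Module.Free.chooseBasis K L
  have h1 : LieAlgebra.rank K L' =
      (LinearMap.polyCharpoly (LieModule.toEnd K L' L').toLinearMap (b.map e)).natTrailingDegree :=
    LieAlgebra.rank_eq_natTrailingDegree K L' (b.map e)
  have h2 : LieAlgebra.rank K L =
      (LinearMap.polyCharpoly (LieModule.toEnd K L L).toLinearMap b).natTrailingDegree :=
    LieAlgebra.rank_eq_natTrailingDegree K L b
  rw [h1, h2, polyCharpoly_map e he b]

theorem isRegular_map_iff (x : L) :
    LieAlgebra.IsRegular K (e x) ↔ LieAlgebra.IsRegular K x := by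
  rw [LieAlgebra.isRegular_iff_natTrailingDegree_charpoly_eq_rank,
    LieAlgebra.isRegular_iff_natTrailingDegree_charpoly_eq_rank, rank_eq_of_equiv e he,
    ad_map e he, LinearEquiv.charpoly_conj]

end Iso

section Compat

variable {B P Q : Type*} [CommRing B] [LieRing P] [LieAlgebra B P] [LieRing Q] [LieAlgebra B Q]

theorem lie_compat_of_span (e : P →ₗ[B] Q) (S : Set P) (hS : Submodule.span B S = ⊤)
    (h : ∀ s ∈ S, ∀ t ∈ S, e ⁅s, t⁆ = ⁅e s, e t⁆) : ∀ x y, e ⁅x, y⁆ = ⁅e x, e y⁆ := by
  intro x
  have hx : x ∈ Submodule.span B S := by rw [hS]; trivial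
  induction hx using Submodule.span_induction with
  | mem s hs =>
    intro y
    have hy : y ∈ Submodule.span B S := by rw [hS]; trivial
    induction hy using Submodule.span_induction with
    | mem t ht => exact h s hs t ht
    | zero => rw [lie_zero, map_zero, lie_zero]
    | add u v _ _ hu hv => rw [lie_add, map_add, map_add, lie_add, hu, hv]
    | smul c u _ hu => rw [lie_smul, map_smul, map_smul, lie_smul, hu]
  | zero => intro y; rw [zero_lie, map_zero, zero_lie]
  | add u v _ _ hu hv => intro y; rw [add_lie, map_add, map_add, add_lie, hu, hv]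
  | smul c u _ hu => intro y; rw [smul_lie, map_smul, map_smul, smul_lie, hu]

end Compat

section Cancel

variable {A : Type*} [CommRing A] {L : Type*} [LieRing L] [LieAlgebra A L]
  (T : Type*) [CommRing T] [Algebra A T] (K' : Type*) [CommRing K'] [Algebra T K'] [Algebra A K']
  [IsScalarTower A T K']

/-- The cancellation isomorphism `K' ⊗[T] (T ⊗[A] L) ≃ K' ⊗[A] L`. -/
noncomputable def cancelEquiv : K' ⊗[T] (T ⊗[A] L) ≃ₗ[K'] K' ⊗[A] L :=
  TensorProduct.AlgebraTensorModule.cancelBaseChange A T K' K' L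

lemma cancelEquiv_tmul (k : K') (t : T) (l : L) :
    cancelEquiv T K' (k ⊗ₜ[T] (t ⊗ₜ[A] l)) = (t • k) ⊗ₜ[A] l :=
  TensorProduct.AlgebraTensorModule.cancelBaseChange_tmul A T K' k l t

lemma span_one_tmul :
    Submodule.span K' (Set.range fun l : L => (1 : K') ⊗ₜ[T] ((1 : T) ⊗ₜ[A] l)) = ⊤ := by
  rw [eq_top_iff]
  intro x hx
  clear hx
  induction x using TensorProduct.induction_on with
  | zero => exact zero_mem _
  | add u v hu hv => exact add_mem hu hv
  | tmul k w =>
    induction w using TensorProduct.induction_on with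
    | zero => rw [TensorProduct.tmul_zero]; exact zero_mem _
    | add u v hu hv => rw [TensorProduct.tmul_add]; exact add_mem hu hv
    | tmul t l =>
      have h : k ⊗ₜ[T] (t ⊗ₜ[A] l) = (t • k) • ((1 : K') ⊗ₜ[T] ((1 : T) ⊗ₜ[A] l)) := by
        rw [TensorProduct.smul_tmul', smul_eq_mul, mul_one, TensorProduct.smul_tmul,
          TensorProduct.smul_tmul', smul_eq_mul, mul_one]
      rw [h]
      exact Submodule.smul_mem _ _ (Submodule.subset_span ⟨l, rfl⟩)

lemma cancelEquiv_lie (x y : K' ⊗[T] (T ⊗[A] L)) :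
    cancelEquiv T K' ⁅x, y⁆ = ⁅cancelEquiv T K' x, cancelEquiv T K' y⁆ := by
  have h := lie_compat_of_span (B := K') (cancelEquiv (A := A) (L := L) T K').toLinearMap _
    (span_one_tmul T K') (by
      rintro _ ⟨l, rfl⟩ _ ⟨l', rfl⟩
      change cancelEquiv T K' (ad K' (K' ⊗[T] (T ⊗[A] L)) ((1 : K') ⊗ₜ[T] ((1 : T) ⊗ₜ[A] l))
          ((1 : K') ⊗ₜ[T] ((1 : T) ⊗ₜ[A] l'))) =
        ad K' (K' ⊗[A] L) (cancelEquiv T K' ((1 : K') ⊗ₜ[T] ((1 : T) ⊗ₜ[A] l)))
          (cancelEquiv T K' ((1 : K') ⊗ₜ[T] ((1 : T) ⊗ₜ[A] l')))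
      rw [ad_tmul, LinearMap.baseChange_tmul, ad_tmul, LinearMap.baseChange_tmul,
        cancelEquiv_tmul, cancelEquiv_tmul, cancelEquiv_tmul, one_smul, ad_tmul,
        LinearMap.baseChange_tmul])
  exact h x y

variable [Module.Finite A L]

theorem rank_cancel (F : Type*) [Field F] [Algebra T F] [Algebra A F] [IsScalarTower A T F] :
    LieAlgebra.rank F (F ⊗[T] (T ⊗[A] L)) = LieAlgebra.rank F (F ⊗[A] L) :=
  (rank_eq_of_equiv (cancelEquiv (A := A) (L := L) T F) (cancelEquiv_lie T F)).symm

theorem isRegular_cancel_iff (F : Type*) [Field F] [Algebra T F] [Algebra A F]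
    [IsScalarTower A T F] (a : L) :
    LieAlgebra.IsRegular F ((1 : F) ⊗ₜ[T] ((1 : T) ⊗ₜ[A] a)) ↔
      LieAlgebra.IsRegular F ((1 : F) ⊗ₜ[A] a) := by
  rw [← isRegular_map_iff (cancelEquiv (A := A) (L := L) T F) (cancelEquiv_lie T F),
    cancelEquiv_tmul, one_smul]

end Cancel

section Fibre

variable {A : Type*} [CommRing A] {L : Type*} [LieRing L] [LieAlgebra A L] [Module.Finite A L]
  (A' : Type*) [CommRing A'] [Algebra A A']

theorem rank_fibre_comap (q' : PrimeSpectrum A') (q : PrimeSpectrum A)
    (hq : q = PrimeSpectrum.comap (algebraMap A A') q') :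
    LieAlgebra.rank q'.asIdeal.ResidueField (q'.asIdeal.ResidueField ⊗[A'] (A' ⊗[A] L)) =
      LieAlgebra.rank q.asIdeal.ResidueField (q.asIdeal.ResidueField ⊗[A] L) := by
  subst hq
  letI alg : Algebra (PrimeSpectrum.comap (algebraMap A A') q').asIdeal.ResidueField
      q'.asIdeal.ResidueField :=
    (Ideal.ResidueField.map (PrimeSpectrum.comap (algebraMap A A') q').asIdeal q'.asIdeal
      (algebraMap A A') rfl).toAlgebra
  haveI : IsScalarTower A (PrimeSpectrum.comap (algebraMap A A') q').asIdeal.ResidueField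
      q'.asIdeal.ResidueField := IsScalarTower.of_algebraMap_eq (fun r => by
    rw [RingHom.algebraMap_toAlgebra, Ideal.ResidueField.map_algebraMap]
    exact IsScalarTower.algebraMap_apply A A' _ r)
  rw [rank_cancel A' q'.asIdeal.ResidueField,
    ← rank_cancel (A := A) (L := L) (PrimeSpectrum.comap (algebraMap A A') q').asIdeal.ResidueField
      q'.asIdeal.ResidueField,
    rank_baseChange q'.asIdeal.ResidueField]

theorem isRegular_fibre_comap (q' : PrimeSpectrum A') (q : PrimeSpectrum A)
    (hq : q = PrimeSpectrum.comap (algebraMap A A') q') (a : L) :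
    LieAlgebra.IsRegular q'.asIdeal.ResidueField
        ((1 : q'.asIdeal.ResidueField) ⊗ₜ[A'] ((1 : A') ⊗ₜ[A] a)) ↔
      LieAlgebra.IsRegular q.asIdeal.ResidueField ((1 : q.asIdeal.ResidueField) ⊗ₜ[A] a) := by
  subst hq
  letI alg : Algebra (PrimeSpectrum.comap (algebraMap A A') q').asIdeal.ResidueField
      q'.asIdeal.ResidueField :=
    (Ideal.ResidueField.map (PrimeSpectrum.comap (algebraMap A A') q').asIdeal q'.asIdeal
      (algebraMap A A') rfl).toAlgebra
  haveI : IsScalarTower A (PrimeSpectrum.comap (algebraMap A A') q').asIdeal.ResidueField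
      q'.asIdeal.ResidueField := IsScalarTower.of_algebraMap_eq (fun r => by
    rw [RingHom.algebraMap_toAlgebra, Ideal.ResidueField.map_algebraMap]
    exact IsScalarTower.algebraMap_apply A A' _ r)
  rw [isRegular_cancel_iff A' q'.asIdeal.ResidueField,
    ← isRegular_cancel_iff (A := A) (L := L)
      (PrimeSpectrum.comap (algebraMap A A') q').asIdeal.ResidueField q'.asIdeal.ResidueField,
    isRegular_tmul_iff q'.asIdeal.ResidueField]

end Fibre

end Groth.Agent.H4.LieRankBC
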