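import Mathlib
import Groth.Prelude.Def_W4sga3xiixivxvCartan
import Groth.Agent.H4.LieRankBC
import Groth.Agent.H4.LieCartanLocal

set_option autoImplicit false
universe u
open scoped TensorProduct
open Module LieSubalgebra LieAlgebra
open Groth.Agent.H4.LieFib Groth.Agent.H4.LieEngelNil Groth.Agent.H4.LieCartanRel
  Groth.Agent.H4.LieRegOpen Groth.Agent.H4.LieCartanAux Groth.Agent.H4.LieCartanLocal
  Groth.Agent.H4.LieRankBC

namespace Groth.Agent.H4.LieCartanC

attribute [local instance 100] LieRing.ofAssociativeRing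

section Main

variable {A : Type u} [CommRing A] {L : Type u} [LieRing L] [LieAlgebra A L]
  [Module.Finite A L] [Module.Projective A L]

lemma notMem_comap_away (g : A) (qi : PrimeSpectrum (Localization.Away g)) (q : PrimeSpectrum A)
    (hq : q = PrimeSpectrum.comap (algebraMap A (Localization.Away g)) qi) :
    g ∉ q.asIdeal := by
  subst hq
  intro hmem
  have hu : IsUnit (algebraMap A (Localization.Away g) g) :=
    IsLocalization.Away.algebraMap_isUnit g
  have hmem' : algebraMap A (Localization.Away g) g ∈ qi.asIdeal := hmem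
  exact qi.2.ne_top (Ideal.eq_top_of_isUnit_mem _ hmem' hu)

theorem exists_regular_section
    (hC0 : ∀ p : PrimeSpectrum A, ∃ f : A, f ∉ p.asIdeal ∧ ∀ q : PrimeSpectrum A, f ∉ q.asIdeal →
        LieAlgebra.rank q.asIdeal.ResidueField (q.asIdeal.ResidueField ⊗[A] L) =
          LieAlgebra.rank p.asIdeal.ResidueField (p.asIdeal.ResidueField ⊗[A] L))
    (p : PrimeSpectrum A)
    (hp : ∃ x : p.asIdeal.ResidueField ⊗[A] L, LieAlgebra.IsRegular p.asIdeal.ResidueField x) :
    ∃ f : A, f ∉ p.asIdeal ∧ ∃ a : L, ∀ q : PrimeSpectrum A, f ∉ q.asIdeal →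
      LieAlgebra.IsRegular q.asIdeal.ResidueField ((1 : q.asIdeal.ResidueField) ⊗ₜ[A] a) := by
  obtain ⟨x, hx⟩ := hp
  obtain ⟨s, hs, a, hsa⟩ := exists_smul_eq_tmul p x
  have hne : algebraMap A p.asIdeal.ResidueField s ≠ 0 := by
    rwa [Ne, Ideal.algebraMap_residueField_eq_zero]
  have hreg : LieAlgebra.IsRegular p.asIdeal.ResidueField
      ((1 : p.asIdeal.ResidueField) ⊗ₜ[A] a) := by
    rw [← hsa]
    exact isRegular_smul _ hne hx
  obtain ⟨f₀, hf₀, hrank⟩ := hC0 p
  obtain ⟨h, hh, hq⟩ := exists_basicOpen_regular a p f₀ hf₀ hrank hreg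
  exact ⟨h, hh, a, fun q hq' => (hq q hq').2⟩

/-- S8376. -/
theorem C2_local
    (hC2 : ((∀ p : PrimeSpectrum A, ∃ f : A, f ∉ p.asIdeal ∧ ∀ q : PrimeSpectrum A, f ∉ q.asIdeal →
        LieAlgebra.rank q.asIdeal.ResidueField (q.asIdeal.ResidueField ⊗[A] L) =
          LieAlgebra.rank p.asIdeal.ResidueField (p.asIdeal.ResidueField ⊗[A] L)) ∧
      ∀ (A' : Type u) [CommRing A'] [Algebra A A'] (a' : A' ⊗[A] L),
        SGA3t2b.IsQuasiRegular A' (A' ⊗[A] L) a' → SGA3t2b.IsRegularRel A' (A' ⊗[A] L) a'))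
    (p : PrimeSpectrum A)
    (hp : ∃ x : p.asIdeal.ResidueField ⊗[A] L, LieAlgebra.IsRegular p.asIdeal.ResidueField x) :
    ∃ f : A, f ∉ p.asIdeal ∧
      ∃ H : LieSubalgebra (Localization.Away f) (Localization.Away f ⊗[A] L),
        SGA3t2b.IsCartanRel H := by
  obtain ⟨f, hf, a, ha⟩ := exists_regular_section hC2.1 p hp
  refine ⟨f, hf, ?_⟩
  have hq : SGA3t2b.IsQuasiRegular (Localization.Away f) (Localization.Away f ⊗[A] L)
      ((1 : Localization.Away f) ⊗ₜ[A] a) := by
    intro q'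
    rw [isRegular_fibre_comap (Localization.Away f) q' _ rfl a]
    exact ha _ (notMem_comap_away f q' _ rfl)
  obtain ⟨-, H, hH, -⟩ := hC2.2 (Localization.Away f) _ hq
  exact ⟨H, hH⟩

/-- S8378. -/
theorem C1_imp_C0 (A' : Type u) [CommRing A'] [Algebra A A'] [Module.FaithfullyFlat A A']
    (H : LieSubalgebra A' (A' ⊗[A] L)) (hH : SGA3t2b.IsCartanRel H) (p : PrimeSpectrum A) :
    ∃ f : A, f ∉ p.asIdeal ∧ ∀ q : PrimeSpectrum A, f ∉ q.asIdeal →
        LieAlgebra.rank q.asIdeal.ResidueField (q.asIdeal.ResidueField ⊗[A] L) =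
          LieAlgebra.rank p.asIdeal.ResidueField (p.asIdeal.ResidueField ⊗[A] L) := by
  obtain ⟨ρ, hρ⟩ : ∃ ρ : PrimeSpectrum A → ℕ, ρ = fun q =>
      LieAlgebra.rank q.asIdeal.ResidueField (q.asIdeal.ResidueField ⊗[A] L) := ⟨_, rfl⟩
  haveI : Module.Projective A' ((A' ⊗[A] L) ⧸ H.toSubmodule) := hH.1
  haveI : Module.Finite A' H := finite_of_projective_quotient H.toSubmodule
  haveI : Module.Projective A' H := projective_of_projective_quotient H.toSubmodule
  haveI : Module.FinitePresentation A' H := Module.finitePresentation_of_projective A' H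
  have hcomp : ρ ∘ PrimeSpectrum.comap (algebraMap A A') = Module.rankAtStalk (R := A') H := by
    funext q'
    rw [Function.comp_apply, hρ]
    show LieAlgebra.rank _ _ = _
    rw [← rank_fibre_comap A' q' _ rfl, rank_eq_rankAtStalk H hH q']
  have hquot : Topology.IsQuotientMap (PrimeSpectrum.comap (algebraMap A A')) :=
    PrimeSpectrum.isQuotientMap_of_generalizingMap
      PrimeSpectrum.comap_surjective_of_faithfullyFlat
      (RingHom.Flat.generalizingMap_comap (RingHom.flat_algebraMap_iff.mpr inferInstance))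
  have hcont : Continuous ρ := by
    rw [hquot.continuous_iff, hcomp]
    exact (Module.isLocallyConstant_rankAtStalk).continuous
  have hopen : IsOpen (ρ ⁻¹' {ρ p}) := (isOpen_discrete _).preimage hcont
  obtain ⟨_, ⟨f, rfl⟩, hpf, hsub⟩ :=
    PrimeSpectrum.isTopologicalBasis_basic_opens.exists_subset_of_mem_open
      (show p ∈ ρ ⁻¹' {ρ p} from rfl) hopen
  refine ⟨f, hpf, fun q hq => ?_⟩
  have := hsub hq
  rw [Set.mem_preimage, Set.mem_singleton_iff, hρ] at this
  exact this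

end Main

section Pi

variable {A : Type u} [CommRing A] {L : Type u} [LieRing L] [LieAlgebra A L]
  [Module.Finite A L]
  {ι : Type u} [Fintype ι] [DecidableEq ι] (R : ι → Type u) [∀ i, CommRing (R i)]
  [∀ i, Algebra A (R i)]

theorem isQuasiRegular_pi (a : ι → L)
    (h : ∀ (i : ι) (qi : PrimeSpectrum (R i)) (q : PrimeSpectrum A),
      q = PrimeSpectrum.comap (algebraMap A (R i)) qi →
      LieAlgebra.IsRegular q.asIdeal.ResidueField ((1 : q.asIdeal.ResidueField) ⊗ₜ[A] a i)) :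
    SGA3t2b.IsQuasiRegular (Π i, R i) ((Π i, R i) ⊗[A] L)
      (∑ i, (Pi.single i 1 : Π i, R i) ⊗ₜ[A] a i) := by
  intro q'
  obtain ⟨⟨i, qi⟩, rfl⟩ := (PrimeSpectrum.sigmaToPi_bijective R).surjective q'
  obtain ⟨q', hq'⟩ : ∃ q' : PrimeSpectrum (Π i, R i), q' = PrimeSpectrum.sigmaToPi R ⟨i, qi⟩ :=
    ⟨_, rfl⟩
  rw [← hq']
  have hmem : ∀ x : Π i, R i, x ∈ q'.asIdeal ↔ x i ∈ qi.asIdeal := by
    intro x
    rw [hq']
    exact Iff.rfl
  have h0 : ∀ j, j ≠ i →
      algebraMap (Π i, R i) q'.asIdeal.ResidueField (Pi.single j 1) = 0 := by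
    intro j hj
    rw [Ideal.algebraMap_residueField_eq_zero, hmem, Pi.single_eq_of_ne hj.symm]
    exact zero_mem _
  have h1 : algebraMap (Π i, R i) q'.asIdeal.ResidueField (Pi.single i 1) = 1 := by
    have h2 : algebraMap (Π i, R i) q'.asIdeal.ResidueField (1 - Pi.single i 1) = 0 := by
      rw [Ideal.algebraMap_residueField_eq_zero, hmem]
      simp
    rw [map_sub, map_one, sub_eq_zero] at h2
    exact h2.symm
  have hsm : ∀ j, (Pi.single j 1 : Π i, R i) ⊗ₜ[A] a j =
      (Pi.single j 1 : Π i, R i) • ((1 : Π i, R i) ⊗ₜ[A] a j) := by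
    intro j
    rw [TensorProduct.smul_tmul', smul_eq_mul, mul_one]
  have key : (1 : q'.asIdeal.ResidueField) ⊗ₜ[Π i, R i]
        (∑ j, (Pi.single j 1 : Π i, R i) ⊗ₜ[A] a j) =
      (1 : q'.asIdeal.ResidueField) ⊗ₜ[Π i, R i] ((1 : Π i, R i) ⊗ₜ[A] a i) := by
    rw [TensorProduct.tmul_sum, Finset.sum_eq_single i]
    · rw [hsm i, ← TensorProduct.smul_tmul, Algebra.smul_def, mul_one, h1]
    · intro j _ hj
      rw [hsm j, ← TensorProduct.smul_tmul, Algebra.smul_def, mul_one, h0 j hj,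
        TensorProduct.zero_tmul]
    · intro hi
      exact absurd (Finset.mem_univ i) hi
  rw [key, isRegular_fibre_comap (Π i, R i) q' _ rfl (a i)]
  apply h i qi
  rw [hq']
  rfl

theorem etale_pi [∀ i, Algebra.Etale A (R i)] : Algebra.Etale A (Π i, R i) :=
  { formallyEtale := (Algebra.FormallyEtale.pi_iff R).mpr (fun _ => inferInstance)
    finitePresentation := Algebra.FinitePresentation.pi R }

theorem faithfullyFlat_pi [∀ i, Algebra.Etale A (R i)]
    (hsurj : ∀ q : PrimeSpectrum A, ∃ (i : ι) (qi : PrimeSpectrum (R i)),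
      PrimeSpectrum.comap (algebraMap A (R i)) qi = q) :
    Module.FaithfullyFlat A (Π i, R i) := by
  haveI : Algebra.Etale A (Π i, R i) := etale_pi R
  haveI : Module.Flat A (Π i, R i) := inferInstance
  apply Module.FaithfullyFlat.of_comap_surjective
  intro q
  obtain ⟨i, qi, hqi⟩ := hsurj q
  refine ⟨PrimeSpectrum.sigmaToPi R ⟨i, qi⟩, ?_⟩
  rw [← hqi]
  rfl

end Pi

section Etale

variable {A : Type u} [CommRing A] {L : Type u} [LieRing L] [LieAlgebra A L]
  [Module.Finite A L] [Module.Projective A L]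

/-- S8377. -/
theorem C2_etale
    (hC2 : ((∀ p : PrimeSpectrum A, ∃ f : A, f ∉ p.asIdeal ∧ ∀ q : PrimeSpectrum A, f ∉ q.asIdeal →
        LieAlgebra.rank q.asIdeal.ResidueField (q.asIdeal.ResidueField ⊗[A] L) =
          LieAlgebra.rank p.asIdeal.ResidueField (p.asIdeal.ResidueField ⊗[A] L)) ∧
      ∀ (A' : Type u) [CommRing A'] [Algebra A A'] (a' : A' ⊗[A] L),
        SGA3t2b.IsQuasiRegular A' (A' ⊗[A] L) a' → SGA3t2b.IsRegularRel A' (A' ⊗[A] L) a'))
    (hreg : ∀ p : PrimeSpectrum A, ∃ x : p.asIdeal.ResidueField ⊗[A] L,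
      LieAlgebra.IsRegular p.asIdeal.ResidueField x) :
    ∃ (A' : Type u) (_ : CommRing A') (_ : Algebra A A'), Algebra.Etale A A' ∧
      Module.FaithfullyFlat A A' ∧
        ∃ H : LieSubalgebra A' (A' ⊗[A] L), SGA3t2b.IsCartanRel H := by
  classical
  have hloc : ∀ p : PrimeSpectrum A, ∃ f : A, f ∉ p.asIdeal ∧ ∃ a : L,
      ∀ q : PrimeSpectrum A, f ∉ q.asIdeal →
      LieAlgebra.IsRegular q.asIdeal.ResidueField ((1 : q.asIdeal.ResidueField) ⊗ₜ[A] a) :=
    fun p => exists_regular_section hC2.1 p (hreg p)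
  choose f hf a ha using hloc
  have htop : Ideal.span (Set.range f) = ⊤ := by
    by_contra hne
    obtain ⟨m, hm, hle⟩ := Ideal.exists_le_maximal _ hne
    exact hf ⟨m, hm.isPrime⟩ (hle (Ideal.subset_span ⟨⟨m, hm.isPrime⟩, rfl⟩))
  obtain ⟨s, hs, hs1⟩ := (Ideal.span_eq_top_iff_finite _).mp htop
  have hP : ∀ g : {x // x ∈ s}, ∃ p : PrimeSpectrum A, f p = g.1 := fun g => hs g.2
  choose P hP using hP
  obtain ⟨R, hR⟩ : ∃ R : {x // x ∈ s} → Type u, R = fun g => Localization.Away (g.1 : A) :=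
    ⟨_, rfl⟩
  subst hR
  have hsurj : ∀ q : PrimeSpectrum A, ∃ (i : {x // x ∈ s})
      (qi : PrimeSpectrum (Localization.Away (i.1 : A))),
      PrimeSpectrum.comap (algebraMap A (Localization.Away (i.1 : A))) qi = q := by
    intro q
    have hex : ∃ g ∈ s, g ∉ q.asIdeal := by
      by_contra hcon
      push_neg at hcon
      have hle : Ideal.span (s : Set A) ≤ q.asIdeal := Ideal.span_le.mpr hcon
      rw [hs1] at hle
      exact q.2.ne_top (top_le_iff.mp hle)
    obtain ⟨g, hg, hgq⟩ := hex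
    have hmem : q ∈ Set.range
        (PrimeSpectrum.comap (algebraMap A (Localization.Away g))) := by
      rw [PrimeSpectrum.localization_away_comap_range (Localization.Away g) g]
      exact hgq
    obtain ⟨qi, hqi⟩ := hmem
    exact ⟨⟨g, hg⟩, qi, hqi⟩
  have hEt : Algebra.Etale A (Π i : {x // x ∈ s}, Localization.Away (i.1 : A)) :=
    etale_pi (fun i : {x // x ∈ s} => Localization.Away (i.1 : A))
  have hFF : Module.FaithfullyFlat A (Π i : {x // x ∈ s}, Localization.Away (i.1 : A)) :=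
    faithfullyFlat_pi (fun i : {x // x ∈ s} => Localization.Away (i.1 : A)) hsurj
  have hQ := isQuasiRegular_pi (L := L) (fun i : {x // x ∈ s} => Localization.Away (i.1 : A))
    (fun i => a (P i)) (by
      intro i qi q hq
      apply ha (P i) q
      rw [hP i]
      exact notMem_comap_away (i.1 : A) qi q hq)
  obtain ⟨-, H, hH, -⟩ := hC2.2 (Π i : {x // x ∈ s}, Localization.Away (i.1 : A)) _ hQ
  exact ⟨_, _, _, hEt, hFF, H, hH⟩

end Etale

end Groth.Agent.H4.LieCartanC
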