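import Mathlib
import Groth.Prelude.Def_W4sga3xiixivxvCartan
import Groth.Agent.H4.LieRankBC
import Groth.Agent.H4.LieCartanRel

set_option autoImplicit false
universe u
open scoped TensorProduct
open Module LieSubalgebra LieAlgebra Polynomial
open Groth.Agent.H4.LieEngelNil Groth.Agent.H4.LieCartanRel Groth.Agent.H4.LieRankBC

namespace Groth.Agent.H4.LieCartanC0

attribute [local instance 100] LieRing.ofAssociativeRing

section Poly

variable {B : Type*} [CommRing B]

lemma exists_split (r : ℕ) : ∀ P : B[X], (∀ j < r, IsNilpotent (P.coeff j)) →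
    ∃ Q ν : B[X], P = ν + X ^ r * Q ∧ Q.coeff 0 = P.coeff r ∧ IsNilpotent ν := by
  induction r with
  | zero =>
    intro P _
    exact ⟨P, 0, by simp, rfl, IsNilpotent.zero⟩
  | succ r ih =>
    intro P hP
    obtain ⟨Q, ν, hQ, hQ0, hν⟩ := ih (divX P) (fun j hj => by
      rw [coeff_divX]; exact hP (j + 1) (by omega))
    refine ⟨Q, ν * X + C (P.coeff 0), ?_, ?_, ?_⟩
    · calc P = divX P * X + C (P.coeff 0) := (divX_mul_X_add P).symm
        _ = (ν + X ^ r * Q) * X + C (P.coeff 0) := by rw [← hQ]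
        _ = ν * X + C (P.coeff 0) + X ^ (r + 1) * Q := by ring
    · rw [hQ0, coeff_divX]
    · have h1 : IsNilpotent (ν * X) := by
        obtain ⟨k, hk⟩ := hν
        exact ⟨k, by rw [mul_pow, hk, zero_mul]⟩
      exact (Commute.all _ _).isNilpotent_add h1 ((hP 0 (by omega)).map C)

theorem exists_dvd_pow_sub (P : B[X]) (r : ℕ) (hnil : ∀ j < r, IsNilpotent (P.coeff j))
    (hunit : IsUnit (P.coeff r)) : ∃ (N : ℕ) (g : B[X]), P ∣ X ^ N - X ^ (N + 1) * g := by
  obtain ⟨Q, ν, hP, hQ0, ⟨k, hk⟩⟩ := exists_split r P hnil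
  have h1 : P ∣ (X ^ r * Q) ^ k := by
    have h2 : (P - ν) - (-ν) ∣ (P - ν) ^ k - (-ν) ^ k := sub_dvd_pow_sub_pow _ _ k
    have h3 : (P - ν) - (-ν) = P := by ring
    have h4 : X ^ r * Q = P - ν := by rw [hP]; ring
    rw [h3, neg_pow, hk, mul_zero, sub_zero] at h2
    rw [h4]
    exact h2
  obtain ⟨u, hu⟩ := hunit
  have h5 : X ∣ Q - C (Q.coeff 0) := ⟨divX Q, by
    have := divX_mul_X_add Q
    linear_combination (-1 : B[X]) * this⟩
  obtain ⟨G, hG⟩ := h5.trans (sub_dvd_pow_sub_pow Q (C (Q.coeff 0)) k)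
  have hc : C ((↑(u⁻¹) : B) ^ k) * (C (Q.coeff 0)) ^ k = 1 := by
    rw [hQ0, ← hu, ← C_pow, ← C_mul, ← mul_pow, Units.inv_mul, one_pow, C_1]
  refine ⟨r * k, -(C ((↑(u⁻¹) : B) ^ k)) * G, ?_⟩
  have heq : X ^ (r * k) - X ^ (r * k + 1) * (-(C ((↑(u⁻¹) : B) ^ k)) * G) =
      C ((↑(u⁻¹) : B) ^ k) * (X ^ r * Q) ^ k := by
    have hQk : Q ^ k = (C (Q.coeff 0)) ^ k + X * G := by rw [← hG]; ring
    rw [mul_pow, ← pow_mul, hQk]
    linear_combination (-(X ^ (r * k))) * hc
  rw [heq]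
  exact Dvd.dvd.mul_left h1 _

end Poly

section Fitting

variable {R : Type*} [CommRing R] {M : Type*} [AddCommGroup M] [Module R M]
  (φ ψ : Module.End R M) (N : ℕ) (h0 : φ ^ N = φ ^ (N + 1) * ψ) (hcomm : Commute φ ψ)

include h0

lemma fitting_pow (k : ℕ) : φ ^ N = φ ^ (N + k) * ψ ^ k := by
  induction k with
  | zero => simp
  | succ k ih =>
    calc φ ^ N = φ ^ (N + 1) * ψ := h0
      _ = φ * φ ^ N * ψ := by rw [pow_succ']
      _ = φ * (φ ^ (N + k) * ψ ^ k) * ψ := by rw [← ih]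
      _ = φ ^ (N + (k + 1)) * ψ ^ (k + 1) := by
        rw [← mul_assoc, ← pow_succ', mul_assoc, ← pow_succ]
        rfl

lemma fitting_surj (y : M) : (φ ^ N) (φ (ψ y) - y) = 0 := by
  rw [map_sub, sub_eq_zero]
  calc (φ ^ N) (φ (ψ y)) = (φ ^ N * φ * ψ) y := rfl
    _ = (φ ^ (N + 1) * ψ) y := by rw [pow_succ]
    _ = (φ ^ N) y := by rw [← h0]

include hcomm

lemma fitting_ker (x : M) (n : ℕ) (hn : (φ ^ n) x = 0) : (φ ^ N) x = 0 := by
  rw [fitting_pow φ ψ N h0 n, (hcomm.pow_pow (N + n) n).eq, Module.End.mul_apply, pow_add,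
    Module.End.mul_apply, hn, map_zero, map_zero]

lemma fitting_projective [Module.Projective R M] :
    Module.Projective R (M ⧸ LinearMap.ker (φ ^ N)) := by
  obtain ⟨e, he⟩ : ∃ e : Module.End R M, e = φ ^ N * ψ ^ N := ⟨_, rfl⟩
  have hle : LinearMap.ker (φ ^ N) ≤ LinearMap.ker e := by
    intro x hx
    rw [LinearMap.mem_ker] at hx ⊢
    rw [he, (hcomm.pow_pow N N).eq, Module.End.mul_apply, hx, map_zero]
  apply Module.Projective.of_split ((LinearMap.ker (φ ^ N)).liftQ e hle) (LinearMap.ker (φ ^ N)).mkQ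
  apply LinearMap.ext
  intro z
  obtain ⟨x, rfl⟩ := Submodule.Quotient.mk_surjective _ z
  rw [LinearMap.comp_apply, LinearMap.id_apply]
  change Submodule.Quotient.mk (e x) = Submodule.Quotient.mk x
  rw [Submodule.Quotient.eq, LinearMap.mem_ker, map_sub, sub_eq_zero, he]
  calc (φ ^ N) ((φ ^ N * ψ ^ N) x) = (φ ^ N * φ ^ N * ψ ^ N) x := rfl
    _ = (φ ^ (N + N) * ψ ^ N) x := by rw [← pow_add]
    _ = (φ ^ N) x := by rw [← fitting_pow φ ψ N h0 N]

end Fitting

section LocalCoeff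

variable {A : Type*} [CommRing A] {L : Type*} [LieRing L] [LieAlgebra A L] [Module.Finite A L]
  (B : Type*) [CommRing B] [Algebra A B] [Module.Free B (B ⊗[A] L)] (a : L)

lemma algebraMap_coeff_charpoly (p' : PrimeSpectrum B) (j : ℕ) :
    algebraMap B p'.asIdeal.ResidueField (((ad A L a).baseChange B).charpoly.coeff j) =
      (ad p'.asIdeal.ResidueField (p'.asIdeal.ResidueField ⊗[B] (B ⊗[A] L))
        ((1 : p'.asIdeal.ResidueField) ⊗ₜ[B] ((1 : B) ⊗ₜ[A] a))).charpoly.coeff j := by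
  rw [ad_tmul, ad_tmul,
    LinearMap.charpoly_baseChange ((ad A L a).baseChange B) p'.asIdeal.ResidueField,
    Polynomial.coeff_map]

lemma coeff_charpoly_mem (p' : PrimeSpectrum B) (p₀ : PrimeSpectrum A)
    (hp : p₀ = PrimeSpectrum.comap (algebraMap A B) p') (j : ℕ)
    (hj : j < LieAlgebra.rank p₀.asIdeal.ResidueField (p₀.asIdeal.ResidueField ⊗[A] L)) :
    ((ad A L a).baseChange B).charpoly.coeff j ∈ p'.asIdeal := by
  rw [← Ideal.algebraMap_residueField_eq_zero, algebraMap_coeff_charpoly]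
  apply Polynomial.coeff_eq_zero_of_lt_natTrailingDegree
  rw [← rank_fibre_comap B p' p₀ hp] at hj
  exact lt_of_lt_of_le hj (LieAlgebra.rank_le_natTrailingDegree_charpoly_ad _ _)

lemma coeff_charpoly_notMem (p' : PrimeSpectrum B) (p₀ : PrimeSpectrum A)
    (hp : p₀ = PrimeSpectrum.comap (algebraMap A B) p')
    (hreg : LieAlgebra.IsRegular p₀.asIdeal.ResidueField
      ((1 : p₀.asIdeal.ResidueField) ⊗ₜ[A] a)) :
    ((ad A L a).baseChange B).charpoly.coeff
      (LieAlgebra.rank p₀.asIdeal.ResidueField (p₀.asIdeal.ResidueField ⊗[A] L)) ∉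
        p'.asIdeal := by
  rw [← Ideal.algebraMap_residueField_eq_zero, algebraMap_coeff_charpoly,
    ← rank_fibre_comap B p' p₀ hp]
  exact (isRegular_fibre_comap B p' p₀ hp a).mpr hreg

end LocalCoeff

section Main

variable {A : Type u} [CommRing A] {L : Type u} [LieRing L] [LieAlgebra A L]
  [Module.Finite A L] [Module.Projective A L]

lemma exists_local_identity
    (hC0 : ∀ p : PrimeSpectrum A, ∃ f : A, f ∉ p.asIdeal ∧ ∀ q : PrimeSpectrum A, f ∉ q.asIdeal →
        LieAlgebra.rank q.asIdeal.ResidueField (q.asIdeal.ResidueField ⊗[A] L) =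
          LieAlgebra.rank p.asIdeal.ResidueField (p.asIdeal.ResidueField ⊗[A] L))
    (a : L) (ha : SGA3t2b.IsQuasiRegular A L a) (q : PrimeSpectrum A) :
    ∃ (N : ℕ) (g : (Localization.AtPrime q.asIdeal)[X]),
      aeval ((ad A L a).baseChange (Localization.AtPrime q.asIdeal))
        (X ^ N - X ^ (N + 1) * g) = 0 := by
  haveI : Module.FinitePresentation (Localization.AtPrime q.asIdeal)
      (Localization.AtPrime q.asIdeal ⊗[A] L) := Module.finitePresentation_of_projective _ _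
  haveI : Module.Free (Localization.AtPrime q.asIdeal)
      (Localization.AtPrime q.asIdeal ⊗[A] L) := Module.free_of_flat_of_isLocalRing
  obtain ⟨f, hf, hrank⟩ := hC0 q
  have hnil : ∀ j < LieAlgebra.rank q.asIdeal.ResidueField (q.asIdeal.ResidueField ⊗[A] L),
      IsNilpotent (((ad A L a).baseChange (Localization.AtPrime q.asIdeal)).charpoly.coeff j) := by
    intro j hj
    rw [nilpotent_iff_mem_prime]
    intro J hJ
    have hfJ : f ∉ (PrimeSpectrum.comap (algebraMap A (Localization.AtPrime q.asIdeal))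
        ⟨J, hJ⟩).asIdeal := by
      intro hmem
      have hmem' : algebraMap A (Localization.AtPrime q.asIdeal) f ∈ J := hmem
      have hu : IsUnit (algebraMap A (Localization.AtPrime q.asIdeal) f) :=
        IsLocalization.map_units (Localization.AtPrime q.asIdeal)
          (⟨f, hf⟩ : q.asIdeal.primeCompl)
      exact hJ.ne_top (Ideal.eq_top_of_isUnit_mem _ hmem' hu)
    exact coeff_charpoly_mem (Localization.AtPrime q.asIdeal) a ⟨J, hJ⟩ _ rfl j
      (by rw [hrank _ hfJ]; exact hj)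
  have hunit : IsUnit (((ad A L a).baseChange (Localization.AtPrime q.asIdeal)).charpoly.coeff
      (LieAlgebra.rank q.asIdeal.ResidueField (q.asIdeal.ResidueField ⊗[A] L))) := by
    have hq : q = PrimeSpectrum.comap (algebraMap A (Localization.AtPrime q.asIdeal))
        (IsLocalRing.closedPoint (Localization.AtPrime q.asIdeal)) := by
      apply PrimeSpectrum.ext
      exact (IsLocalization.AtPrime.comap_maximalIdeal (Localization.AtPrime q.asIdeal)
        q.asIdeal).symm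
    have h1 := coeff_charpoly_notMem (Localization.AtPrime q.asIdeal) a
      (IsLocalRing.closedPoint (Localization.AtPrime q.asIdeal)) q hq (ha q)
    exact IsLocalRing.notMem_maximalIdeal.mp h1
  obtain ⟨N, g, h, hh⟩ := exists_dvd_pow_sub _ _ hnil hunit
  refine ⟨N, g, ?_⟩
  rw [hh, map_mul, LinearMap.aeval_self_charpoly, zero_mul]

lemma aeval_baseChange (B : Type*) [CommRing B] [Algebra A B] (φ : Module.End A L) (p : A[X]) :
    aeval (φ.baseChange B) (p.map (algebraMap A B)) = (aeval φ p).baseChange B := by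
  rw [Polynomial.aeval_map_algebraMap]
  exact Polynomial.aeval_algHom_apply (Module.End.baseChangeHom A B L) φ p

lemma exists_smul_eq_zero (q : PrimeSpectrum A) (E : Module.End A L)
    (h : E.baseChange (Localization.AtPrime q.asIdeal) = 0) :
    ∃ s : A, s ∉ q.asIdeal ∧ s • E = 0 := by
  classical
  obtain ⟨S, hS⟩ := (Module.Finite.fg_top : (⊤ : Submodule A L).FG)
  have h1 : ∀ l : L, ∃ c : q.asIdeal.primeCompl, c • E l = 0 := by
    intro l
    have h2 : TensorProduct.mk A (Localization.AtPrime q.asIdeal) L 1 (E l) = 0 := by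
      have h3 := LinearMap.congr_fun h ((1 : Localization.AtPrime q.asIdeal) ⊗ₜ[A] l)
      rw [LinearMap.baseChange_tmul, LinearMap.zero_apply] at h3
      exact h3
    exact (IsLocalizedModule.eq_zero_iff q.asIdeal.primeCompl
      (TensorProduct.mk A (Localization.AtPrime q.asIdeal) L 1)).mp h2
  choose c hc using h1
  refine ⟨∏ l ∈ S, (c l : A), ?_, ?_⟩
  · exact (Submonoid.prod_mem _ (fun l _ => (c l).2) :
      ∏ l ∈ S, (c l : A) ∈ q.asIdeal.primeCompl)
  · apply LinearMap.ext_on hS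
    intro l hl
    rw [LinearMap.smul_apply, LinearMap.zero_apply, ← Finset.mul_prod_erase S _ hl, mul_comm,
      mul_smul]
    have h4 : (c l : A) • E l = 0 := hc l
    rw [h4, smul_zero]

lemma descend (q : PrimeSpectrum A) (φ : Module.End A L) (N : ℕ)
    (gB : (Localization.AtPrime q.asIdeal)[X])
    (h : aeval (φ.baseChange (Localization.AtPrime q.asIdeal)) (X ^ N - X ^ (N + 1) * gB) = 0) :
    ∃ s : A, s ∉ q.asIdeal ∧ ∃ g : A[X], aeval φ (C s * X ^ N - X ^ (N + 1) * g) = 0 := by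
  obtain ⟨b, hbM, hb⟩ := IsLocalization.integerNormalization_spec q.asIdeal.primeCompl gB
  obtain ⟨g₁, hg₁⟩ : ∃ g₁ : A[X], g₁ = IsLocalization.integerNormalization q.asIdeal.primeCompl gB :=
    ⟨_, rfl⟩
  rw [← hg₁] at hb
  obtain ⟨G, hGdef⟩ : ∃ G : A[X], G = C b * X ^ N - X ^ (N + 1) * g₁ := ⟨_, rfl⟩
  have e2 : (b • gB : (Localization.AtPrime q.asIdeal)[X]) =
      C (algebraMap A (Localization.AtPrime q.asIdeal) b) * gB := by
    rw [← algebraMap_smul (Localization.AtPrime q.asIdeal) b gB, Polynomial.smul_eq_C_mul]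
  have hG : G.map (algebraMap A (Localization.AtPrime q.asIdeal)) =
      C (algebraMap A (Localization.AtPrime q.asIdeal) b) * (X ^ N - X ^ (N + 1) * gB) := by
    rw [hGdef]
    simp only [Polynomial.map_sub, Polynomial.map_mul, Polynomial.map_pow, Polynomial.map_X,
      Polynomial.map_C]
    rw [hb, e2]
    ring
  have hE : (aeval φ G).baseChange (Localization.AtPrime q.asIdeal) = 0 := by
    rw [← aeval_baseChange, hG, map_mul, h, mul_zero]
  obtain ⟨s₂, hs₂, hs₂E⟩ := exists_smul_eq_zero q (aeval φ G) hE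
  refine ⟨s₂ * b, fun hmem => (q.2.mem_or_mem hmem).elim hs₂ hbM, C s₂ * g₁, ?_⟩
  have h5 : C (s₂ * b) * X ^ N - X ^ (N + 1) * (C s₂ * g₁) = C s₂ * G := by
    rw [hGdef, C_mul]; ring
  rw [h5, map_mul, aeval_C, Algebra.algebraMap_eq_smul_one, smul_mul_assoc, one_mul]
  exact hs₂E

lemma exists_global (φ : Module.End A L)
    (h : ∀ q : PrimeSpectrum A, ∃ s : A, s ∉ q.asIdeal ∧ ∃ (N : ℕ) (g : A[X]),
      aeval φ (C s * X ^ N - X ^ (N + 1) * g) = 0) :
    ∃ (N : ℕ) (g : A[X]), aeval φ (X ^ N - X ^ (N + 1) * g) = 0 := by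
  obtain ⟨J, hJ⟩ : ∃ J : Ideal A, ∀ s, s ∈ J ↔ ∃ (N : ℕ) (g : A[X]),
      aeval φ (C s * X ^ N - X ^ (N + 1) * g) = 0 := by
    refine ⟨{ carrier := {s | ∃ (N : ℕ) (g : A[X]),
                aeval φ (C s * X ^ N - X ^ (N + 1) * g) = 0}
              zero_mem' := ⟨0, 0, by simp⟩
              add_mem' := ?_
              smul_mem' := ?_ }, fun s => Iff.rfl⟩
    · rintro s₁ s₂ ⟨N₁, g₁, h₁⟩ ⟨N₂, g₂, h₂⟩
      refine ⟨N₁ + N₂, g₁ + g₂, ?_⟩
      have h3 : C (s₁ + s₂) * X ^ (N₁ + N₂) - X ^ (N₁ + N₂ + 1) * (g₁ + g₂) =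
          X ^ N₂ * (C s₁ * X ^ N₁ - X ^ (N₁ + 1) * g₁) +
            X ^ N₁ * (C s₂ * X ^ N₂ - X ^ (N₂ + 1) * g₂) := by
        rw [C_add]; ring
      rw [h3, map_add, map_mul, map_mul, h₁, h₂, mul_zero, mul_zero, add_zero]
    · rintro c s ⟨N, g, h₁⟩
      refine ⟨N, C c * g, ?_⟩
      have h3 : C (c • s) * X ^ N - X ^ (N + 1) * (C c * g) =
          C c * (C s * X ^ N - X ^ (N + 1) * g) := by
        rw [smul_eq_mul, C_mul]; ring
      rw [h3, map_mul, h₁, mul_zero]
  have htop : J = ⊤ := by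
    by_contra hne
    obtain ⟨m, hm, hle⟩ := Ideal.exists_le_maximal J hne
    obtain ⟨s, hs, N, g, hsg⟩ := h ⟨m, hm.isPrime⟩
    exact hs (hle ((hJ s).mpr ⟨N, g, hsg⟩))
  have h1 : (1 : A) ∈ J := by rw [htop]; trivial
  obtain ⟨N, g, hg⟩ := (hJ 1).mp h1
  refine ⟨N, g, ?_⟩
  rw [C_1, one_mul] at hg
  exact hg

theorem isCartanRel_engel
    (hC0 : ∀ p : PrimeSpectrum A, ∃ f : A, f ∉ p.asIdeal ∧ ∀ q : PrimeSpectrum A, f ∉ q.asIdeal →
        LieAlgebra.rank q.asIdeal.ResidueField (q.asIdeal.ResidueField ⊗[A] L) =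
          LieAlgebra.rank p.asIdeal.ResidueField (p.asIdeal.ResidueField ⊗[A] L))
    (a : L) (ha : SGA3t2b.IsQuasiRegular A L a) : SGA3t2b.IsCartanRel (engel A a) := by
  obtain ⟨N, g, hNg⟩ := exists_global (ad A L a) (fun q => by
    obtain ⟨N, gB, h⟩ := exists_local_identity hC0 a ha q
    obtain ⟨s, hs, g, hg⟩ := descend q (ad A L a) N gB h
    exact ⟨s, hs, N, g, hg⟩)
  obtain ⟨ψ, hψ⟩ : ∃ ψ : Module.End A L, ψ = aeval (ad A L a) g := ⟨_, rfl⟩
  have h0 : (ad A L a) ^ N = (ad A L a) ^ (N + 1) * ψ := by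
    rw [map_sub, map_mul, map_pow, map_pow, aeval_X, sub_eq_zero] at hNg
    rw [hψ]
    exact hNg
  have hcomm : Commute (ad A L a) ψ := by
    have h1 := (Commute.all (X : A[X]) g).map (aeval (ad A L a))
    rw [aeval_X] at h1
    rw [hψ]
    exact h1
  have hmem : ∀ x : L, x ∈ engel A a ↔ ((ad A L a) ^ N) x = 0 := by
    intro x
    rw [mem_engel_iff]
    constructor
    · rintro ⟨n, hn⟩
      exact fitting_ker (ad A L a) ψ N h0 hcomm x n hn
    · intro h
      exact ⟨N, h⟩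
  have hEq : (engel A a).toSubmodule = LinearMap.ker ((ad A L a) ^ N) := by
    ext x
    rw [LinearMap.mem_ker]
    exact hmem x
  have hproj : Module.Projective A (L ⧸ (engel A a).toSubmodule) := by
    rw [hEq]
    exact fitting_projective (ad A L a) ψ N h0 hcomm
  have hsurj : ∀ y : L, ∃ z : L, ⁅a, z⁆ - y ∈ engel A a := by
    intro y
    refine ⟨ψ y, ?_⟩
    rw [hmem]
    exact fitting_surj (ad A L a) ψ N h0 y
  exact backward a ha hproj (fun z hz => lie_mem_engel hz) hsurj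

/-- S8379 (the reducedness hypothesis is not needed). -/
theorem C0_imp_C2
    (hC0 : ∀ p : PrimeSpectrum A, ∃ f : A, f ∉ p.asIdeal ∧ ∀ q : PrimeSpectrum A, f ∉ q.asIdeal →
        LieAlgebra.rank q.asIdeal.ResidueField (q.asIdeal.ResidueField ⊗[A] L) =
          LieAlgebra.rank p.asIdeal.ResidueField (p.asIdeal.ResidueField ⊗[A] L))
    (A' : Type u) [CommRing A'] [Algebra A A'] (a' : A' ⊗[A] L)
    (ha' : SGA3t2b.IsQuasiRegular A' (A' ⊗[A] L) a') :
    SGA3t2b.IsRegularRel A' (A' ⊗[A] L) a' := by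
  have hC0' : ∀ p' : PrimeSpectrum A', ∃ f' : A', f' ∉ p'.asIdeal ∧
      ∀ q' : PrimeSpectrum A', f' ∉ q'.asIdeal →
        LieAlgebra.rank q'.asIdeal.ResidueField (q'.asIdeal.ResidueField ⊗[A'] (A' ⊗[A] L)) =
          LieAlgebra.rank p'.asIdeal.ResidueField
            (p'.asIdeal.ResidueField ⊗[A'] (A' ⊗[A] L)) := by
    intro p'
    obtain ⟨f, hf, hrank⟩ := hC0 (PrimeSpectrum.comap (algebraMap A A') p')
    refine ⟨algebraMap A A' f, hf, fun q' hq' => ?_⟩
    rw [rank_fibre_comap A' q' _ rfl, rank_fibre_comap A' p' _ rfl]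
    exact hrank _ hq'
  exact ⟨ha', engel A' a', isCartanRel_engel hC0' a' ha', self_mem_engel A' a'⟩

end Main

end Groth.Agent.H4.LieCartanC0
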