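import Mathlib

set_option autoImplicit false
universe u
open scoped TensorProduct

namespace Groth.Agent.H4.LieNilFib

section Key

variable {A : Type*} [CommRing A]

/-- If `1 ⊗ x` vanishes in the fibre `κ(p) ⊗ M`, then `s • x ∈ p M` for some `s ∉ p`. -/
lemma key (p : Ideal A) [p.IsPrime] {M : Type*} [AddCommGroup M] [Module A M] (x : M)
    (hx : (1 : p.ResidueField) ⊗ₜ[A] x = 0) :
    ∃ s : A, s ∉ p ∧ s • x ∈ p • (⊤ : Submodule A M) := by
  have h1 : (1 : p.ResidueField) ⊗ₜ[A ⧸ p] ((1 : A ⧸ p) ⊗ₜ[A] x) = 0 := by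
    have := congrArg (TensorProduct.AlgebraTensorModule.cancelBaseChange A (A ⧸ p)
      p.ResidueField p.ResidueField M).symm hx
    simpa using this
  have hloc : IsLocalizedModule (nonZeroDivisors (A ⧸ p))
      (TensorProduct.mk (A ⧸ p) p.ResidueField ((A ⧸ p) ⊗[A] M) 1) :=
    (isLocalizedModule_iff_isBaseChange (nonZeroDivisors (A ⧸ p)) p.ResidueField _).2
      (TensorProduct.isBaseChange (A ⧸ p) ((A ⧸ p) ⊗[A] M) p.ResidueField)
  obtain ⟨c, hc⟩ := (IsLocalizedModule.eq_zero_iff (nonZeroDivisors (A ⧸ p))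
    (TensorProduct.mk (A ⧸ p) p.ResidueField ((A ⧸ p) ⊗[A] M) 1)).1 h1
  obtain ⟨s, hs⟩ := Ideal.Quotient.mk_surjective (c : A ⧸ p)
  refine ⟨s, ?_, ?_⟩
  · intro hsp
    have : (c : A ⧸ p) = 0 := by rw [← hs]; exact Ideal.Quotient.eq_zero_iff_mem.2 hsp
    exact nonZeroDivisors.coe_ne_zero c this
  · have h2 : (Ideal.Quotient.mk p s) ⊗ₜ[A] x = (0 : (A ⧸ p) ⊗[A] M) := by
      rw [hs]
      have : (c : A ⧸ p) • ((1 : A ⧸ p) ⊗ₜ[A] x) = (c : A ⧸ p) ⊗ₜ[A] x := by
        rw [TensorProduct.smul_tmul', smul_eq_mul, mul_one]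
      rw [← this]; exact hc
    have h3 := congrArg (TensorProduct.quotTensorEquivQuotSMul M p) h2
    rw [TensorProduct.quotTensorEquivQuotSMul_mk_tmul, map_zero] at h3
    exact (Submodule.Quotient.mk_eq_zero _).1 h3

end Key

section Abstract

variable {A : Type*} [CommRing A] {L : Type*} [AddCommGroup L] [Module A L]
  (β : L →ₗ[A] L →ₗ[A] L)

/-- The abstract lower central series of a bilinear map. -/
def D : ℕ → Submodule A L
  | 0 => ⊤
  | (k + 1) => Submodule.map₂ β ⊤ (D k)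

lemma D_zero : D β 0 = ⊤ := rfl
lemma D_succ (k : ℕ) : D β (k + 1) = Submodule.map₂ β ⊤ (D β k) := rfl

lemma D_fg [Module.Finite A L] (k : ℕ) : (D β k).FG := by
  induction k with
  | zero => exact Module.Finite.fg_top
  | succ k ih => exact Submodule.FG.map₂ β Module.Finite.fg_top ih

lemma D_add_le (I : Ideal A) {k : ℕ} (h : D β k ≤ I • (⊤ : Submodule A L)) (l : ℕ) :
    D β (k + l) ≤ I • D β l := by
  induction l with
  | zero => simpa [D_zero] using h
  | succ l ih =>
    show Submodule.map₂ β ⊤ (D β (k + l)) ≤ I • Submodule.map₂ β ⊤ (D β l)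
    rw [Submodule.map₂_le]
    intro m _ n hn
    have hn' := ih hn
    refine Submodule.smul_induction_on hn' ?_ ?_
    · intro r hr n' hn'
      rw [map_smul]
      exact Submodule.smul_mem_smul hr (Submodule.apply_mem_map₂ _ Submodule.mem_top hn')
    · intro x y hx hy
      rw [map_add]; exact add_mem hx hy

theorem main [Module.Finite A L]
    (hfib : ∀ p : PrimeSpectrum A, ∃ m, ∀ x ∈ D β m,
      (1 : p.asIdeal.ResidueField) ⊗ₜ[A] x = 0) :
    ∃ k, D β k = ⊥ := by
  classical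
  by_contra hcon
  let S : Set (Ideal A) := {I | ¬ ∃ k, D β k ≤ I • (⊤ : Submodule A L)}
  have hbot : (⊥ : Ideal A) ∈ S := by
    rintro ⟨k, hk⟩
    apply hcon
    refine ⟨k, ?_⟩
    rw [Submodule.bot_smul] at hk
    exact le_bot_iff.1 hk
  have hchain : ∀ c ⊆ S, IsChain (· ≤ ·) c → ∀ y ∈ c, ∃ ub ∈ S, ∀ z ∈ c, z ≤ ub := by
    intro c hcS hc y hy
    refine ⟨sSup c, ?_, fun z hz => le_sSup hz⟩
    rintro ⟨k, hk⟩
    have hne : c.Nonempty := ⟨y, hy⟩
    have hdir : DirectedOn (· ≤ ·) c := hc.directedOn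
    -- every element of `(sSup c) • ⊤` lies in some `J • ⊤`
    have h1 : ∀ x ∈ (sSup c) • (⊤ : Submodule A L), ∃ J ∈ c, x ∈ J • (⊤ : Submodule A L) := by
      intro x hx
      refine Submodule.smul_induction_on hx ?_ ?_
      · intro r hr n _
        obtain ⟨J, hJ, hrJ⟩ := (Submodule.mem_sSup_of_directed hne hdir).1 hr
        exact ⟨J, hJ, Submodule.smul_mem_smul hrJ Submodule.mem_top⟩
      · rintro x y ⟨J, hJ, hxJ⟩ ⟨J', hJ', hyJ'⟩
        rcases hc.total hJ hJ' with h | h
        · exact ⟨J', hJ', add_mem (Submodule.smul_mono_left h hxJ) hyJ'⟩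
        · exact ⟨J, hJ, add_mem hxJ (Submodule.smul_mono_left h hyJ')⟩
    obtain ⟨T, hT⟩ := D_fg β k
    have h2 : ∀ T' : Finset L, (∀ x ∈ T', x ∈ D β k) →
        ∃ J ∈ c, ∀ x ∈ T', x ∈ J • (⊤ : Submodule A L) := by
      intro T'
      induction T' using Finset.induction_on with
      | empty => intro _; exact ⟨y, hy, by simp⟩
      | insert a s ha ih =>
        intro hT'
        obtain ⟨J, hJ, hJs⟩ := ih (fun x hx => hT' x (Finset.mem_insert_of_mem hx))
        obtain ⟨J', hJ', haJ'⟩ := h1 a (hk (hT' a (Finset.mem_insert_self a s)))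
        rcases hc.total hJ hJ' with h | h
        · refine ⟨J', hJ', fun x hx => ?_⟩
          rcases Finset.mem_insert.1 hx with rfl | hx
          · exact haJ'
          · exact Submodule.smul_mono_left h (hJs x hx)
        · refine ⟨J, hJ, fun x hx => ?_⟩
          rcases Finset.mem_insert.1 hx with rfl | hx
          · exact Submodule.smul_mono_left h haJ'
          · exact hJs x hx
    obtain ⟨J, hJ, hJT⟩ := h2 T (fun x hx => hT ▸ Submodule.subset_span hx)
    apply hcS hJ
    refine ⟨k, ?_⟩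
    rw [← hT, Submodule.span_le]
    exact fun x hx => hJT x hx
  obtain ⟨I₀, -, hmax⟩ := zorn_le_nonempty₀ S hchain ⊥ hbot
  have hP : ∀ J : Ideal A, I₀ ≤ J → ¬ J ≤ I₀ → ∃ k, D β k ≤ J • (⊤ : Submodule A L) := by
    intro J h1 h2
    by_contra h
    exact h2 (hmax.2 h h1)
  have hprime : I₀.IsPrime := by
    rw [Ideal.isPrime_iff]
    refine ⟨?_, ?_⟩
    · rintro rfl
      exact hmax.1 ⟨0, by rw [D_zero, Submodule.top_smul]⟩
    · intro a b hab
      by_contra hcon2
      push Not at hcon2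
      obtain ⟨ha, hb⟩ := hcon2
      obtain ⟨k, hk⟩ := hP (I₀ ⊔ Ideal.span {a}) le_sup_left
        (fun h => ha (h (Ideal.mem_sup_right (Ideal.mem_span_singleton_self a))))
      obtain ⟨l, hl⟩ := hP (I₀ ⊔ Ideal.span {b}) le_sup_left
        (fun h => hb (h (Ideal.mem_sup_right (Ideal.mem_span_singleton_self b))))
      apply hmax.1
      refine ⟨k + l, ?_⟩
      have hmul : (I₀ ⊔ Ideal.span {a}) * (I₀ ⊔ Ideal.span {b}) ≤ I₀ := by
        rw [Ideal.mul_le]
        intro r hr s hs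
        obtain ⟨r1, hr1, r2, hr2, rfl⟩ := Submodule.mem_sup.1 hr
        obtain ⟨s1, hs1, s2, hs2, rfl⟩ := Submodule.mem_sup.1 hs
        obtain ⟨u, rfl⟩ := Ideal.mem_span_singleton'.1 hr2
        obtain ⟨v, rfl⟩ := Ideal.mem_span_singleton'.1 hs2
        have : (r1 + u * a) * (s1 + v * b) =
            r1 * (s1 + v * b) + (u * a) * s1 + (u * v) * (a * b) := by ring
        rw [this]
        exact add_mem (add_mem (I₀.mul_mem_right _ hr1) (I₀.mul_mem_left _ hs1))
          (I₀.mul_mem_left _ hab)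
      calc D β (k + l) ≤ (I₀ ⊔ Ideal.span {a}) • D β l := D_add_le β _ hk l
        _ ≤ (I₀ ⊔ Ideal.span {a}) • ((I₀ ⊔ Ideal.span {b}) • (⊤ : Submodule A L)) :=
            Submodule.smul_mono le_rfl hl
        _ = ((I₀ ⊔ Ideal.span {a}) * (I₀ ⊔ Ideal.span {b})) • (⊤ : Submodule A L) :=
            (Submodule.mul_smul _ _ _).symm
        _ ≤ I₀ • (⊤ : Submodule A L) := Submodule.smul_mono_left hmul
  haveI := hprime
  obtain ⟨m, hm⟩ := hfib ⟨I₀, hprime⟩
  obtain ⟨T, hT⟩ := D_fg β m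
  have h3 : ∀ T' : Finset L, (∀ x ∈ T', x ∈ D β m) →
      ∃ s : A, s ∉ I₀ ∧ ∀ x ∈ T', s • x ∈ I₀ • (⊤ : Submodule A L) := by
    intro T'
    induction T' using Finset.induction_on with
    | empty =>
      intro _
      exact ⟨1, (Ideal.ne_top_iff_one I₀).1 hprime.ne_top, by simp⟩
    | insert a s ha ih =>
      intro hT'
      obtain ⟨t, ht, hts⟩ := ih (fun x hx => hT' x (Finset.mem_insert_of_mem hx))
      obtain ⟨t', ht', hta⟩ := key I₀ a (hm a (hT' a (Finset.mem_insert_self a s)))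
      refine ⟨t' * t, fun h => (hprime.mem_or_mem h).elim ht' ht, fun x hx => ?_⟩
      rcases Finset.mem_insert.1 hx with rfl | hx
      · rw [mul_comm, mul_smul]
        exact Submodule.smul_mem _ _ hta
      · rw [mul_smul]
        exact Submodule.smul_mem _ _ (hts x hx)
  obtain ⟨s, hs, hsT⟩ := h3 T (fun x hx => hT ▸ Submodule.subset_span hx)
  have h4 : ∀ y ∈ D β m, s • y ∈ I₀ • (⊤ : Submodule A L) := by
    intro y hy
    rw [← hT] at hy
    refine Submodule.span_induction ?_ ?_ ?_ ?_ hy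
    · intro x hx; exact hsT x hx
    · rw [smul_zero]; exact zero_mem _
    · intro x y _ _ hx hy; rw [smul_add]; exact add_mem hx hy
    · intro a x _ hx; rw [smul_comm]; exact Submodule.smul_mem _ _ hx
  obtain ⟨k, hk⟩ := hP (I₀ ⊔ Ideal.span {s}) le_sup_left
    (fun h => hs (h (Ideal.mem_sup_right (Ideal.mem_span_singleton_self s))))
  apply hmax.1
  refine ⟨k + m, (D_add_le β _ hk m).trans ?_⟩
  rw [Submodule.smul_le]
  intro r hr n hn
  obtain ⟨r1, hr1, r2, hr2, rfl⟩ := Submodule.mem_sup.1 hr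
  obtain ⟨u, rfl⟩ := Ideal.mem_span_singleton'.1 hr2
  rw [add_smul, mul_smul]
  exact add_mem (Submodule.smul_mem_smul hr1 Submodule.mem_top)
    (Submodule.smul_mem _ _ (h4 n hn))

end Abstract

section Lie

variable {A : Type*} [CommRing A] {L : Type*} [LieRing L] [LieAlgebra A L]

variable (A L) in
/-- The bracket as a bilinear map. -/
def brk : L →ₗ[A] L →ₗ[A] L :=
  LinearMap.mk₂ A (fun x y => ⁅x, y⁆) add_lie smul_lie lie_add lie_smul

lemma brk_apply (x y : L) : brk A L x y = ⁅x, y⁆ := rfl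

lemma lcs_eq (k : ℕ) :
    (LieModule.lowerCentralSeries A L L k).toSubmodule = D (brk A L) k := by
  induction k with
  | zero => simp [D_zero]
  | succ k ih =>
    rw [LieModule.lowerCentralSeries_succ, LieSubmodule.lieIdeal_oper_eq_linear_span', D_succ]
    apply le_antisymm
    · rw [Submodule.span_le]
      rintro m ⟨x, -, n, hn, rfl⟩
      have hn' : n ∈ D (brk A L) k := by rw [← ih]; exact hn
      exact Submodule.apply_mem_map₂ (brk A L) (Submodule.mem_top (x := x)) hn'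
    · rw [Submodule.map₂_le]
      intro x _ n hn
      have hn' : n ∈ LieModule.lowerCentralSeries A L L k := by
        rw [← LieSubmodule.mem_toSubmodule, ih]; exact hn
      exact Submodule.subset_span ⟨x, LieSubmodule.mem_top x, n, hn', rfl⟩

theorem partA [Module.Finite A L]
    (h : ∀ p : PrimeSpectrum A, LieRing.IsNilpotent (p.asIdeal.ResidueField ⊗[A] L)) :
    LieRing.IsNilpotent L := by
  have hfib : ∀ p : PrimeSpectrum A, ∃ m, ∀ x ∈ D (brk A L) m,
      (1 : p.asIdeal.ResidueField) ⊗ₜ[A] x = 0 := by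
    intro p
    obtain ⟨m, hm⟩ := (LieModule.isNilpotent_iff p.asIdeal.ResidueField
      (p.asIdeal.ResidueField ⊗[A] L) (p.asIdeal.ResidueField ⊗[A] L)).1 (h p)
    rw [LieSubmodule.lowerCentralSeries_tensor_eq_baseChange] at hm
    refine ⟨m, fun x hx => ?_⟩
    have hx' : x ∈ LieModule.lowerCentralSeries A L L m := by
      rw [← LieSubmodule.mem_toSubmodule, lcs_eq]; exact hx
    have := LieSubmodule.tmul_mem_baseChange_of_mem (A := p.asIdeal.ResidueField) 1 hx'
    rw [hm] at this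
    exact (LieSubmodule.mem_bot _).1 this
  obtain ⟨k, hk⟩ := main _ hfib
  rw [LieRing.IsNilpotent, LieModule.isNilpotent_iff A]
  refine ⟨k, ?_⟩
  rw [← LieSubmodule.toSubmodule_inj, lcs_eq, hk]
  rfl

lemma algebraMap_smul_one_tmul (p : Ideal A) [p.IsPrime] (t : A) (y : L) :
    (algebraMap A p.ResidueField t) • ((1 : p.ResidueField) ⊗ₜ[A] y) =
      (1 : p.ResidueField) ⊗ₜ[A] (t • y) := by
  rw [TensorProduct.smul_tmul', smul_eq_mul, mul_one, Algebra.algebraMap_eq_smul_one,
    TensorProduct.smul_tmul]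

lemma exists_repr (p : Ideal A) [hp : p.IsPrime] (z : p.ResidueField ⊗[A] L) :
    ∃ s : A, s ∉ p ∧ ∃ y : L,
      (algebraMap A p.ResidueField s) • z = (1 : p.ResidueField) ⊗ₜ[A] y := by
  induction z using TensorProduct.induction_on with
  | zero => exact ⟨1, (Ideal.ne_top_iff_one p).1 hp.ne_top, 0, by simp⟩
  | tmul c x =>
    obtain ⟨⟨a', s'⟩, hc⟩ := IsLocalization.surj (nonZeroDivisors (A ⧸ p)) c
    obtain ⟨a, rfl⟩ := Ideal.Quotient.mk_surjective a'
    obtain ⟨s, hs⟩ := Ideal.Quotient.mk_surjective (s' : A ⧸ p)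
    refine ⟨s, ?_, a • x, ?_⟩
    · intro hsp
      have : (s' : A ⧸ p) = 0 := by rw [← hs]; exact Ideal.Quotient.eq_zero_iff_mem.2 hsp
      exact nonZeroDivisors.coe_ne_zero s' this
    · have h1 : algebraMap A p.ResidueField s * c = algebraMap A p.ResidueField a := by
        rw [IsScalarTower.algebraMap_apply A (A ⧸ p) p.ResidueField,
          IsScalarTower.algebraMap_apply A (A ⧸ p) p.ResidueField a,
          Ideal.Quotient.algebraMap_eq, hs, mul_comm]
        exact hc
      rw [TensorProduct.smul_tmul', smul_eq_mul, h1, Algebra.algebraMap_eq_smul_one,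
        TensorProduct.smul_tmul]
  | add z z' ih ih' =>
    obtain ⟨s, hs, y, hy⟩ := ih
    obtain ⟨s', hs', y', hy'⟩ := ih'
    refine ⟨s * s', fun h => (hp.mem_or_mem h).elim hs hs', s' • y + s • y', ?_⟩
    rw [smul_add, TensorProduct.tmul_add, ← algebraMap_smul_one_tmul, ← algebraMap_smul_one_tmul,
      ← hy, ← hy', smul_smul, smul_smul, map_mul, mul_comm]

theorem partB [Module.Finite A L] (h : ∀ x : L, IsNilpotent (LieAlgebra.ad A L x)) :
    LieRing.IsNilpotent L := by
  apply partA (A := A)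
  intro p
  rw [LieAlgebra.isNilpotent_iff_forall (R := p.asIdeal.ResidueField)]
  intro z
  obtain ⟨s, hs, y, hy⟩ := exists_repr p.asIdeal z
  have hs0 : algebraMap A p.asIdeal.ResidueField s ≠ 0 := by
    rw [Ne, Ideal.algebraMap_residueField_eq_zero]; exact hs
  have hz : z = (algebraMap A p.asIdeal.ResidueField s)⁻¹ •
      ((1 : p.asIdeal.ResidueField) ⊗ₜ[A] y) := by
    rw [← hy, smul_smul, inv_mul_cancel₀ hs0, one_smul]
  rw [hz, map_smul]
  have h1 : LieAlgebra.ad p.asIdeal.ResidueField (p.asIdeal.ResidueField ⊗[A] L)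
      ((1 : p.asIdeal.ResidueField) ⊗ₜ[A] y) =
      (LieAlgebra.ad A L y).baseChange p.asIdeal.ResidueField :=
    LieModule.toEnd_baseChange _ _ _ _ _
  rw [h1]
  obtain ⟨n, hn⟩ := h y
  refine IsNilpotent.smul ⟨n, ?_⟩ _
  rw [← LinearMap.baseChange_pow, hn, LinearMap.baseChange_zero]

end Lie

end Groth.Agent.H4.LieNilFib
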