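import Mathlib

set_option autoImplicit false
universe u
open CategoryTheory

namespace Groth.Agent.H4.LiftCx

variable {R : Type u} [CommRing R] (I : Ideal R) (Pc : ObjectProperty (ModuleCat.{u} R))

/-- the hypotheses on the class `Pc` of modules (Stacks 0BCC). -/
structure ClassHyp : Prop where
  iso : ∀ X Y : ModuleCat.{u} R, (X ≅ Y) → Pc X → Pc Y
  h1 : ∀ X : ModuleCat.{u} R, Pc X → Module.Projective R X
  h2 : ∀ X Y : ModuleCat.{u} R, Pc X → Pc (ModuleCat.of R (X × Y)) → Pc Y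
  h3 : ∀ (X Y : ModuleCat.{u} R) (f : X ⟶ Y), Pc X → Pc Y →
      LinearMap.range f.hom ⊔ I • (⊤ : Submodule R Y) = ⊤ → Function.Surjective f.hom

variable {I Pc}

section step

variable {Y A B EY E' : Type u} [AddCommGroup Y] [Module R Y] [AddCommGroup A] [Module R A]
  [AddCommGroup B] [Module R B] [AddCommGroup EY] [Module R EY] [AddCommGroup E'] [Module R E']

/-- elements of a direct summand lying in `I • ⊤` of the ambient module lie in `I • ⊤` of the
summand. -/
lemma mem_smul_top_of_retraction (Z : Submodule R Y) (r : Y →ₗ[R] Z) (hr : ∀ z : Z, r z = z)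
    (z : Z) (hz : (z : Y) ∈ I • (⊤ : Submodule R Y)) : z ∈ I • (⊤ : Submodule R Z) := by
  have h1 : r (z : Y) ∈ (I • (⊤ : Submodule R Y)).map r := ⟨_, hz, rfl⟩
  rw [Submodule.map_smul''] at h1
  rw [hr] at h1
  exact Submodule.smul_mono le_rfl le_top h1

theorem step (hP : ClassHyp I Pc) (hA : Pc (ModuleCat.of R A)) (hAB : Pc (ModuleCat.of R (A × B)))
    (ρY : Y →ₗ[R] EY) (hρYk : LinearMap.ker ρY = I • ⊤)
    (ρ' : (A × B) →ₗ[R] E') (hρ's : Function.Surjective ρ') (hρ'k : LinearMap.ker ρ' = I • ⊤)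
    (δ : E' →ₗ[R] EY)
    (Z : Submodule R Y) (hZ : Pc (ModuleCat.of R Z)) (r : Y →ₗ[R] Z) (hr : ∀ z : Z, r z = z)
    (hZδ : Z.map ρY = LinearMap.range δ)
    (β : B →ₗ[R] Y) (hβZ : ∀ x, β x ∈ Z) (hβ : ρY ∘ₗ β = δ ∘ₗ ρ' ∘ₗ LinearMap.inr R A B) :
    ∃ φ : A →ₗ[R] Y, ρY ∘ₗ φ = δ ∘ₗ ρ' ∘ₗ LinearMap.inl R A B ∧
      LinearMap.range (φ.coprod β) = Z ∧
      Pc (ModuleCat.of R (LinearMap.ker (φ.coprod β))) ∧
      (∃ r' : (A × B) →ₗ[R] LinearMap.ker (φ.coprod β), ∀ z : LinearMap.ker (φ.coprod β), r' z = z) ∧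
      (LinearMap.ker (φ.coprod β)).map ρ' = LinearMap.ker δ := by
  haveI : Module.Projective R A := hP.h1 _ hA
  haveI : Module.Projective R Z := hP.h1 _ hZ
  -- the surjection `Z → Z̄`
  let q : Z →ₗ[R] LinearMap.range (ρY ∘ₗ Z.subtype) := (ρY ∘ₗ Z.subtype).rangeRestrict
  have hq : Function.Surjective q := LinearMap.surjective_rangeRestrict _
  have hrange : LinearMap.range (ρY ∘ₗ Z.subtype) = LinearMap.range δ := by
    rw [LinearMap.range_comp, Submodule.range_subtype, hZδ]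
  let g₁bar : A →ₗ[R] LinearMap.range (ρY ∘ₗ Z.subtype) :=
    (δ ∘ₗ ρ' ∘ₗ LinearMap.inl R A B).codRestrict _ (fun a => by
      rw [hrange]; exact ⟨_, rfl⟩)
  obtain ⟨g₁, hg₁⟩ := Module.projective_lifting_property q g₁bar hq
  have hg₁' : ∀ a, ρY (g₁ a : Y) = δ (ρ' (a, 0)) := by
    intro a
    have := congrArg (fun f => (f a : EY)) hg₁
    exact this
  let g₂ : B →ₗ[R] Z := β.codRestrict Z hβZ
  let g : (A × B) →ₗ[R] Z := g₁.coprod g₂
  let φ : A →ₗ[R] Y := Z.subtype ∘ₗ g₁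
  have hd : φ.coprod β = Z.subtype ∘ₗ g := by
    ext x <;> simp [φ, g, g₂]
  have hcompat : ρY ∘ₗ (φ.coprod β) = δ ∘ₗ ρ' := by
    ext x
    · simpa [φ] using hg₁' x
    · have := LinearMap.congr_fun hβ x
      simpa using this
  -- surjectivity of `g`
  have hgs : Function.Surjective g := by
    refine hP.h3 (ModuleCat.of R (A × B)) (ModuleCat.of R Z) (ModuleCat.ofHom g) hAB hZ ?_
    rw [eq_top_iff]
    rintro z -
    have h1 : ρY (z : Y) ∈ LinearMap.range δ := by
      rw [← hZδ]; exact ⟨z, z.2, rfl⟩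
    obtain ⟨e', he'⟩ := h1
    obtain ⟨x, rfl⟩ := hρ's e'
    have h2 : ρY ((z : Y) - (g x : Y)) = 0 := by
      rw [map_sub, ← he']
      have := LinearMap.congr_fun hcompat x
      rw [hd] at this
      simp only [LinearMap.comp_apply, Submodule.subtype_apply] at this
      rw [this, sub_self]
    have h3 : ((z - g x : Z) : Y) ∈ I • (⊤ : Submodule R Y) := by
      rw [← hρYk]; exact h2
    have h4 := mem_smul_top_of_retraction Z r hr (z - g x) h3
    have : z = g x + (z - g x) := by abel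
    rw [this]
    exact Submodule.add_mem_sup ⟨x, rfl⟩ h4
  -- a section of `g`
  obtain ⟨s, hs⟩ := Module.projective_lifting_property g LinearMap.id hgs
  have hs' : ∀ z, g (s z) = z := fun z => LinearMap.congr_fun hs z
  have hker : LinearMap.ker (φ.coprod β) = LinearMap.ker g := by
    rw [hd, LinearMap.ker_comp, Submodule.ker_subtype, Submodule.comap_bot]
  -- the retraction onto `ker g`
  let r' : (A × B) →ₗ[R] LinearMap.ker g :=
    (LinearMap.id - s ∘ₗ g).codRestrict _ (fun x => by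
      rw [LinearMap.mem_ker, LinearMap.sub_apply, map_sub, LinearMap.id_apply,
        LinearMap.comp_apply, hs', sub_self])
  have hr' : ∀ z : LinearMap.ker g, r' z = z := by
    intro z
    apply Subtype.ext
    have h0 : g (z : A × B) = 0 := z.2
    change (z : A × B) - s (g z) = z
    rw [h0, map_zero, sub_zero]
  have hr'' : ∀ x, ((r' x : LinearMap.ker g) : A × B) = x - s (g x) := fun x => rfl
  refine ⟨φ, ?_, ?_, ?_, ?_, ?_⟩
  · ext a
    simpa [φ] using hg₁' a
  · rw [hd, LinearMap.range_comp, LinearMap.range_eq_top.2 hgs, Submodule.map_top,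
      Submodule.range_subtype]
  · rw [hker]
    -- `A × B ≃ Z × ker g`
    let e : (A × B) ≃ₗ[R] (Z × LinearMap.ker g) :=
      LinearEquiv.ofLinearMap (g.prod r') (s.coprod (LinearMap.ker g).subtype)
        (by
          refine LinearMap.ext (fun p => ?_)
          obtain ⟨z, k⟩ := p
          have h0 : g (k : A × B) = 0 := k.2
          change (g (s z + (k : A × B)), r' (s z + (k : A × B))) = (z, k)
          refine Prod.ext ?_ (Subtype.ext ?_)
          · change g (s z + (k : A × B)) = z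
            rw [map_add, hs', h0, add_zero]
          · change ((r' (s z + (k : A × B)) : LinearMap.ker g) : A × B) = k
            rw [hr'', map_add, hs', h0, add_zero, add_sub_cancel_left])
        (by
          refine LinearMap.ext (fun x => ?_)
          change s (g x) + ((r' x : LinearMap.ker g) : A × B) = x
          rw [hr'']
          abel)
    have h5 : Pc (ModuleCat.of R (Z × LinearMap.ker g)) :=
      hP.iso _ _ e.toModuleIso hAB
    exact hP.h2 (ModuleCat.of R Z) (ModuleCat.of R (LinearMap.ker g)) hZ h5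
  · rw [hker]
    exact ⟨r', hr'⟩
  · rw [hker]
    apply le_antisymm
    · rintro _ ⟨x, hx, rfl⟩
      rw [LinearMap.mem_ker]
      have := LinearMap.congr_fun hcompat x
      rw [hd] at this
      simp only [LinearMap.comp_apply, Submodule.subtype_apply] at this
      rw [← this, (LinearMap.mem_ker.1 hx), Submodule.coe_zero, map_zero]
    · intro e' he'
      obtain ⟨x, rfl⟩ := hρ's e'
      have h1 : ρY (g x : Y) = 0 := by
        have := LinearMap.congr_fun hcompat x
        rw [hd] at this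
        simp only [LinearMap.comp_apply, Submodule.subtype_apply] at this
        rw [this]; exact he'
      have h2 : ((g x : Z) : Y) ∈ I • (⊤ : Submodule R Y) := by rw [← hρYk]; exact h1
      have h3 := mem_smul_top_of_retraction Z r hr (g x) h2
      have h4 : (I • (⊤ : Submodule R Z)) = (I • (⊤ : Submodule R (A × B))).map g := by
        rw [Submodule.map_smul'', Submodule.map_top, LinearMap.range_eq_top.2 hgs]
      rw [h4] at h3
      obtain ⟨y, hy, hyx⟩ := h3
      refine ⟨x - y, ?_, ?_⟩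
      · change x - y ∈ LinearMap.ker g
        rw [LinearMap.mem_ker, map_sub, hyx, sub_self]
      · rw [map_sub]
        have : ρ' y = 0 := by
          have : y ∈ LinearMap.ker ρ' := by rw [hρ'k]; exact hy
          exact this
        rw [this, sub_zero]

end step


section system

variable (hP : ClassHyp I Pc)
variable (A B Eb : ℤ → ModuleCat.{u} R)
  (hAB : ∀ i, Pc (ModuleCat.of R (A i × B i)))
  (ρ : ∀ i, (A i × B i) →ₗ[R] Eb i)
  (δ : ∀ i, Eb i →ₗ[R] Eb (i + 1))
  (β : ∀ i, B i →ₗ[R] (A (i + 1) × B (i + 1)))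

variable (Pc) in
/-- the invariant of the downward recursion. -/
def Inv (i : ℤ) (φ : A i →ₗ[R] (A (i + 1) × B (i + 1))) : Prop :=
  ρ (i + 1) ∘ₗ φ = δ i ∘ₗ ρ i ∘ₗ LinearMap.inl R (A i) (B i) ∧
  Pc (ModuleCat.of R (LinearMap.ker (φ.coprod (β i)))) ∧
  (∃ r' : (A i × B i) →ₗ[R] LinearMap.ker (φ.coprod (β i)),
    ∀ z : LinearMap.ker (φ.coprod (β i)), r' z = z) ∧
  (LinearMap.ker (φ.coprod (β i))).map (ρ i) = LinearMap.ker (δ i)

variable (hA : ∀ i, Pc (A i))
  (hρs : ∀ i, Function.Surjective (ρ i)) (hρk : ∀ i, LinearMap.ker (ρ i) = I • ⊤)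
  (hex : ∀ i, LinearMap.ker (δ (i + 1)) = LinearMap.range (δ i))
  (hβρ : ∀ i, ρ (i + 1) ∘ₗ β i = δ i ∘ₗ ρ i ∘ₗ LinearMap.inr R (A i) (B i))
  (hβ1 : ∀ i, LinearMap.fst R (A (i + 1)) (B (i + 1)) ∘ₗ β i = 0)
  (hβ2 : ∀ i, β (i + 1) ∘ₗ LinearMap.snd R (A (i + 1)) (B (i + 1)) ∘ₗ β i = 0)
  (b : ℤ) (hb : ∀ i, b < i → Subsingleton (A i × B i)) (hbE : ∀ i, b < i → Subsingleton (Eb i))

include hP hAB hA hρs hρk hex hβρ hβ1 hβ2 in
lemma sys_step (i : ℤ) (φ' : A (i + 1) →ₗ[R] (A (i + 1 + 1) × B (i + 1 + 1)))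
    (hφ' : Inv Pc A B Eb ρ δ β (i + 1) φ') :
    ∃ φ : A i →ₗ[R] (A (i + 1) × B (i + 1)), Inv Pc A B Eb ρ δ β i φ ∧
      LinearMap.range (φ.coprod (β i)) = LinearMap.ker (φ'.coprod (β (i + 1))) := by
  obtain ⟨-, hZ, ⟨r, hr⟩, hmap⟩ := hφ'
  have hβZ : ∀ x, β i x ∈ LinearMap.ker (φ'.coprod (β (i + 1))) := by
    intro x
    rw [LinearMap.mem_ker, LinearMap.coprod_apply]
    have e1 : (β i x).1 = 0 := LinearMap.congr_fun (hβ1 i) x
    have e2 : β (i + 1) (β i x).2 = 0 := LinearMap.congr_fun (hβ2 i) x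
    rw [e1, e2, map_zero, add_zero]
  obtain ⟨φ, h1, h2, h3, h4, h5⟩ := step hP (hA i) (hAB i) (ρ (i + 1)) (hρk (i + 1)) (ρ i) (hρs i)
    (hρk i) (δ i) (LinearMap.ker (φ'.coprod (β (i + 1)))) hZ r hr (by rw [hmap, hex i]) (β i) hβZ
    (hβρ i)
  exact ⟨φ, ⟨h1, h3, h4, h5⟩, h2⟩

include hP hAB hb hbE in
lemma sys_base (i : ℤ) (hi : b < i) : Inv Pc A B Eb ρ δ β i 0 := by
  haveI := hb i hi
  haveI := hbE i hi
  haveI := hbE (i + 1) (by omega)
  refine ⟨LinearMap.ext (fun x => Subsingleton.elim _ _), ?_, ⟨0, fun z => Subsingleton.elim _ _⟩,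
    Subsingleton.elim _ _⟩
  exact hP.iso _ _ (LinearEquiv.ofSubsingleton (A i × B i)
    (LinearMap.ker ((0 : A i →ₗ[R] (A (i + 1) × B (i + 1))).coprod (β i)))).toModuleIso (hAB i)


include hP hAB hA hρs hρk hex hβρ hβ1 hβ2 hb hbE in
/-- **the lifting theorem for systems**: the unknown parts `φ i` of the differentials can be chosen
so that the total differentials `φ i ⊕ β i` form an exact complex lifting `δ`. -/
theorem sys_exists :
    ∃ φ : ∀ i, A i →ₗ[R] (A (i + 1) × B (i + 1)),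
      (∀ i, ρ (i + 1) ∘ₗ φ i = δ i ∘ₗ ρ i ∘ₗ LinearMap.inl R (A i) (B i)) ∧
      (∀ i, LinearMap.range ((φ i).coprod (β i)) =
        LinearMap.ker ((φ (i + 1)).coprod (β (i + 1)))) := by
  classical
  -- the recursion
  let D : ∀ n : ℕ, ∀ i : ℤ, i + n = b + 1 →
      {φ : A i →ₗ[R] (A (i + 1) × B (i + 1)) // Inv Pc A B Eb ρ δ β i φ} := fun n =>
    Nat.rec (motive := fun n => ∀ i : ℤ, i + n = b + 1 →
        {φ : A i →ₗ[R] (A (i + 1) × B (i + 1)) // Inv Pc A B Eb ρ δ β i φ})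
      (fun i h => ⟨0, sys_base hP A B Eb hAB ρ δ β b hb hbE i
        (by rw [show ((Nat.zero : ℕ) : ℤ) = 0 from rfl] at h; omega)⟩)
      (fun n ih i h =>
        ⟨Classical.choose (sys_step hP A B Eb hAB ρ δ β hA hρs hρk hex hβρ hβ1 hβ2 i
          (ih (i + 1) (by push_cast at h; omega)).1 (ih (i + 1) (by push_cast at h; omega)).2),
         (Classical.choose_spec (sys_step hP A B Eb hAB ρ δ β hA hρs hρk hex hβρ hβ1 hβ2 i
          (ih (i + 1) (by push_cast at h; omega)).1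
          (ih (i + 1) (by push_cast at h; omega)).2)).1⟩) n
  have hD : ∀ (n : ℕ) (i : ℤ) (h : i + (n + 1 : ℕ) = b + 1) (h' : i + 1 + n = b + 1),
      LinearMap.range (((D (n + 1) i h).1).coprod (β i)) =
        LinearMap.ker (((D n (i + 1) h').1).coprod (β (i + 1))) := by
    intro n i h h'
    exact (Classical.choose_spec (sys_step hP A B Eb hAB ρ δ β hA hρs hρk hex hβρ hβ1 hβ2 i
      (D n (i + 1) h').1 (D n (i + 1) h').2)).2
  let φ : ∀ i, A i →ₗ[R] (A (i + 1) × B (i + 1)) := fun i =>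
    if h : i ≤ b + 1 then (D (b + 1 - i).toNat i (by omega)).1 else 0
  have hφ : ∀ (n : ℕ) (i : ℤ) (h : i + n = b + 1), φ i = (D n i h).1 := by
    intro n i h
    have hi : i ≤ b + 1 := by omega
    have hn : (b + 1 - i).toNat = n := by omega
    simp only [φ, dif_pos hi]
    subst hn
    rfl
  have hφ0 : ∀ i, b + 1 < i → φ i = 0 := by
    intro i hi
    simp only [φ, dif_neg (not_le.2 hi)]
  have hInv : ∀ i, Inv Pc A B Eb ρ δ β i (φ i) := by
    intro i
    by_cases hi : i ≤ b + 1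
    · rw [hφ (b + 1 - i).toNat i (by omega)]
      exact (D _ i _).2
    · rw [hφ0 i (by omega)]
      exact sys_base hP A B Eb hAB ρ δ β b hb hbE i (by omega)
  refine ⟨φ, fun i => (hInv i).1, fun i => ?_⟩
  by_cases hi : i ≤ b
  · obtain ⟨n, hn⟩ : ∃ n : ℕ, i + 1 + n = b + 1 := ⟨(b - i).toNat, by omega⟩
    have hn' : i + ((n + 1 : ℕ) : ℤ) = b + 1 := by push_cast; omega
    rw [hφ (n + 1) i hn', hφ n (i + 1) hn]
    exact hD n i hn' hn
  · haveI := hb (i + 1) (by omega)
    exact Subsingleton.elim _ _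

end system

end Groth.Agent.H4.LiftCx
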