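import Mathlib
import Groth.Agent.H4.LiftCx1
import Groth.Agent.H4.PCDesc2
import Groth.Agent.Lib.Helper8.ExtScalarsBridge

set_option autoImplicit false
universe u
open CategoryTheory TensorProduct

namespace Groth.Agent.H4.LiftCx

open Groth.Agent.H4.ProjF Groth.Agent.H4.PCDesc

variable {R : Type u} [CommRing R] (I : Ideal R)

/-- the quotient map. -/
abbrev qm : R →+* R ⧸ I := Ideal.Quotient.mk I

/-- extension of scalars to `R/I`. -/
noncomputable abbrev ExtI : ModuleCat.{u} R ⥤ ModuleCat.{u} (R ⧸ I) :=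
  ModuleCat.extendScalars.{u, u, u} (qm I)

/-- restriction of scalars from `R/I`. -/
noncomputable abbrev ResI : ModuleCat.{u} (R ⧸ I) ⥤ ModuleCat.{u} R :=
  ModuleCat.restrictScalars.{u} (qm I)

variable {I}

lemma exists_et_one (M : ModuleCat.{u} R) (z : (ExtI I).obj M) : ∃ m : M, z = et (qm I) M 1 m := by
  induction z using ext_induction (qm I) with
  | zero => exact ⟨0, (et_zero (qm I) M 1).symm⟩
  | tmul s m =>
    obtain ⟨r, rfl⟩ := Ideal.Quotient.mk_surjective s
    refine ⟨r • m, ?_⟩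
    rw [et_smul, mul_one]
  | add x y hx hy =>
    obtain ⟨m, rfl⟩ := hx
    obtain ⟨m', rfl⟩ := hy
    exact ⟨m + m', (et_add _ _ _ _ _).symm⟩

lemma et_one_eq_zero_iff (M : ModuleCat.{u} R) (m : M) :
    et (qm I) M 1 m = 0 ↔ m ∈ I • (⊤ : Submodule R M) := by
  constructor
  · intro h
    have h1 := congrArg (Groth.Agent.H8.ExtBridge.extEquiv (A := R) (B := R ⧸ I) M) h
    rw [map_zero] at h1
    have h2 : (1 : R ⧸ I) ⊗ₜ[R] m = 0 := h1
    have h3 := congrArg (TensorProduct.quotTensorEquivQuotSMul M I) h2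
    rw [map_zero, ← map_one (Ideal.Quotient.mk I),
      TensorProduct.quotTensorEquivQuotSMul_mk_tmul, one_smul] at h3
    exact (Submodule.Quotient.mk_eq_zero _).1 h3
  · intro h
    refine Submodule.smul_induction_on h (fun a ha m' _ => ?_) (fun x y hx hy => ?_)
    · rw [et_smul, mul_one]
      have : qm I a = 0 := Ideal.Quotient.eq_zero_iff_mem.2 ha
      rw [this]
      exact TensorProduct.zero_tmul _ _
    · rw [et_add, hx, hy, add_zero]

section theta

variable {M M' : ModuleCat.{u} R} {N N' : ModuleCat.{u} (R ⧸ I)}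

/-- the map `M/IM → N` induced by a reduction map `M → N`. -/
noncomputable def thetaHom (ρ : M →ₗ[R] (ResI I).obj N) : (ExtI I).obj M ⟶ N :=
  ((ModuleCat.extendRestrictScalarsAdj (qm I)).homEquiv M N).symm
    (ModuleCat.ofHom (X := M) (Y := (ResI I).obj N) ρ)

lemma thetaHom_et (ρ : M →ₗ[R] (ResI I).obj N) (s : R ⧸ I) (m : M) :
    thetaHom ρ (et (qm I) M s m) = s • (show (N : Type u) from ρ m) := rfl

lemma isIso_thetaHom (ρ : M →ₗ[R] (ResI I).obj N) (hs : Function.Surjective ρ)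
    (hk : LinearMap.ker ρ = I • ⊤) : IsIso (thetaHom ρ) := by
  rw [ConcreteCategory.isIso_iff_bijective]
  constructor
  · rw [injective_iff_map_eq_zero]
    intro z hz
    obtain ⟨m, rfl⟩ := exists_et_one M z
    rw [thetaHom_et, one_smul] at hz
    have : m ∈ LinearMap.ker ρ := hz
    rw [hk] at this
    exact (et_one_eq_zero_iff M m).2 this
  · intro n
    obtain ⟨m, hm⟩ := hs n
    refine ⟨et (qm I) M 1 m, ?_⟩
    rw [thetaHom_et, one_smul]
    exact hm

lemma thetaHom_naturality (ρ : M →ₗ[R] (ResI I).obj N) (ρ' : M' →ₗ[R] (ResI I).obj N')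
    (f : M ⟶ M') (g : N ⟶ N') (h : ∀ m, ρ' (f m) = g (show (N : Type u) from ρ m)) :
    (ExtI I).map f ≫ thetaHom ρ' = thetaHom ρ ≫ g := by
  refine ModuleCat.hom_ext (LinearMap.ext fun z => ?_)
  obtain ⟨m, rfl⟩ := exists_et_one M z
  change thetaHom ρ' ((ExtI I).map f (et (qm I) M 1 m)) = g (thetaHom ρ (et (qm I) M 1 m))
  rw [map_et, thetaHom_et, thetaHom_et, one_smul, one_smul]
  exact h m

end theta

/-- the reduction map `M → M/IM`. -/
noncomputable def etaRed (M : ModuleCat.{u} R) : M →ₗ[R] (ResI I).obj ((ExtI I).obj M) where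
  toFun m := et (qm I) M 1 m
  map_add' m m' := et_add _ _ _ _ _
  map_smul' r m := by
    change et (qm I) M 1 (r • m) = (qm I r) • et (qm I) M 1 m
    rw [et_smul, smul_et]

lemma etaRed_surjective (M : ModuleCat.{u} R) : Function.Surjective (etaRed (I := I) M) := by
  intro z
  obtain ⟨m, rfl⟩ := exists_et_one M z
  exact ⟨m, rfl⟩

lemma ker_etaRed (M : ModuleCat.{u} R) : LinearMap.ker (etaRed (I := I) M) = I • ⊤ := by
  ext m
  rw [LinearMap.mem_ker]
  exact et_one_eq_zero_iff M m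

/-- the reduction map attached to an identification `R/I ⊗ X ≃ N`. -/
noncomputable def redOfEquiv (X : ModuleCat.{u} R) (N : ModuleCat.{u} (R ⧸ I))
    (e : TensorProduct R (R ⧸ I) X ≃ₗ[R ⧸ I] N) : X →ₗ[R] (ResI I).obj N where
  toFun x := e ((1 : R ⧸ I) ⊗ₜ[R] x)
  map_add' x y := by rw [TensorProduct.tmul_add, map_add]; rfl
  map_smul' r x := by
    change e ((1 : R ⧸ I) ⊗ₜ[R] (r • x)) = (qm I r) • e ((1 : R ⧸ I) ⊗ₜ[R] x)
    rw [← map_smul, TensorProduct.smul_tmul', ← TensorProduct.smul_tmul]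
    congr 2

lemma redOfEquiv_surjective (X : ModuleCat.{u} R) (N : ModuleCat.{u} (R ⧸ I))
    (e : TensorProduct R (R ⧸ I) X ≃ₗ[R ⧸ I] N) : Function.Surjective (redOfEquiv X N e) := by
  intro n
  obtain ⟨z, rfl⟩ := e.surjective n
  obtain ⟨x, rfl⟩ := TensorProduct.mk_surjective R X (R ⧸ I) Ideal.Quotient.mk_surjective z
  exact ⟨x, rfl⟩

lemma ker_redOfEquiv (X : ModuleCat.{u} R) (N : ModuleCat.{u} (R ⧸ I))
    (e : TensorProduct R (R ⧸ I) X ≃ₗ[R ⧸ I] N) : LinearMap.ker (redOfEquiv X N e) = I • ⊤ := by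
  ext x
  rw [LinearMap.mem_ker]
  change e ((1 : R ⧸ I) ⊗ₜ[R] x) = 0 ↔ _
  rw [e.map_eq_zero_iff]
  constructor
  · intro h2
    have h3 := congrArg (TensorProduct.quotTensorEquivQuotSMul X I) h2
    rw [map_zero, ← map_one (Ideal.Quotient.mk I),
      TensorProduct.quotTensorEquivQuotSMul_mk_tmul, one_smul] at h3
    exact (Submodule.Quotient.mk_eq_zero _).1 h3
  · intro h
    apply (TensorProduct.quotTensorEquivQuotSMul X I).injective
    rw [map_zero, ← map_one (Ideal.Quotient.mk I),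
      TensorProduct.quotTensorEquivQuotSMul_mk_tmul, one_smul]
    exact (Submodule.Quotient.mk_eq_zero _).2 h

end Groth.Agent.H4.LiftCx
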