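import Mathlib
import Groth.Agent.H4.LiftCx2
import Groth.Agent.H4.FlatAcyc2
import Groth.Prelude.Def_DRing2
import Groth.Prelude.Def_DDual2

set_option autoImplicit false
universe u
open CategoryTheory TensorProduct

namespace Groth.Agent.H4.LiftCx3

open Groth.Agent.H4.ProjF Groth.Agent.H4.PCDesc Groth.Agent.H4.LiftCx DRing

variable {R : Type u} [CommRing R] {I : Ideal R} {Pc : ObjectProperty (ModuleCat.{u} R)}

/-- a module of `Pc` whose reduction vanishes is zero. -/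
lemma subsingleton_of_red (hP : ClassHyp I Pc) (X : ModuleCat.{u} R) (hX : Pc X)
    (N : ModuleCat.{u} (R ⧸ I)) [Subsingleton N] (ρ : X →ₗ[R] (ResI I).obj N)
    (hk : LinearMap.ker ρ = I • ⊤) : Subsingleton X := by
  have h0 : (I • ⊤ : Submodule R X) = ⊤ := by
    rw [← hk, eq_top_iff]
    intro x _
    exact Subsingleton.elim (α := N) _ _
  have hs := hP.h3 X X 0 hX hX (by
    rw [h0]; exact sup_top_eq _)
  refine ⟨fun x y => ?_⟩
  obtain ⟨x', hx'⟩ := hs x
  obtain ⟨y', hy'⟩ := hs y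
  rw [← hx', ← hy']
  rfl

lemma comap_smul_top_equiv {M N : Type u} [AddCommGroup M] [Module R M] [AddCommGroup N]
    [Module R N] (e : M ≃ₗ[R] N) :
    (I • (⊤ : Submodule R N)).comap e.toLinearMap = I • (⊤ : Submodule R M) := by
  rw [Submodule.comap_equiv_eq_map_symm, Submodule.map_smul'', Submodule.map_top,
    LinearMap.range_eq_top.2 e.symm.surjective]


section S7012

variable (hP : ClassHyp I Pc) (E : Cx (R ⧸ I)) (b : ℤ) (hEb : VanishesAbove E b) (hEa : E.Acyclic)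
  (X : ℤ → ModuleCat.{u} R) (hX : ∀ i, Pc (X i))
  (ρ₀ : ∀ i, X i →ₗ[R] (ResI I).obj (E.X i)) (hρ₀s : ∀ i, Function.Surjective (ρ₀ i))
  (hρ₀k : ∀ i, LinearMap.ker (ρ₀ i) = I • ⊤)

include hP hEb hEa hX hρ₀s hρ₀k in
theorem exists_acyclic_lift :
    ∃ (P : Cx R), VanishesAbove P b ∧ P.Acyclic ∧ (∀ i : ℤ, Pc (P.X i)) ∧
      Nonempty ((((ModuleCat.extendScalars (Ideal.Quotient.mk I)).mapHomologicalComplex
        (ComplexShape.up ℤ)).obj P) ≅ E) := by
  classical
  -- the system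
  let A : ℤ → ModuleCat.{u} R := X
  let B : ℤ → ModuleCat.{u} R := fun _ => ModuleCat.of R PUnit.{u + 1}
  let Eb : ℤ → ModuleCat.{u} R := fun i => (ResI I).obj (E.X i)
  let eq : ∀ i, (A i × B i) ≃ₗ[R] X i := fun i => LinearEquiv.prodUnique
  let ρ : ∀ i, (A i × B i) →ₗ[R] Eb i := fun i => ρ₀ i ∘ₗ (eq i).toLinearMap
  let δ : ∀ i, Eb i →ₗ[R] Eb (i + 1) := fun i => ((ResI I).map (E.d i (i + 1))).hom
  let β : ∀ i, B i →ₗ[R] (A (i + 1) × B (i + 1)) := fun _ => 0
  have hAB : ∀ i, Pc (ModuleCat.of R (A i × B i)) := fun i =>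
    hP.iso _ _ (eq i).symm.toModuleIso (hX i)
  have hρs : ∀ i, Function.Surjective (ρ i) := fun i =>
    (hρ₀s i).comp (eq i).surjective
  have hρk : ∀ i, LinearMap.ker (ρ i) = I • ⊤ := by
    intro i
    rw [LinearMap.ker_comp, hρ₀k i]
    exact comap_smul_top_equiv (eq i)
  have hex : ∀ i, LinearMap.ker (δ (i + 1)) = LinearMap.range (δ i) := by
    intro i
    have h := Groth.Agent.H4.FlatAcyc.exact_d_of_exactAt E i (i + 1) (i + 1 + 1) rfl rfl
      (hEa (i + 1))
    ext x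
    rw [LinearMap.mem_ker, LinearMap.mem_range]
    exact h x
  have hb : ∀ i, b < i → Subsingleton (A i × B i) := by
    intro i hi
    haveI : Subsingleton (E.X i) := ModuleCat.subsingleton_of_isZero (hEb i hi)
    haveI : Subsingleton (X i) := subsingleton_of_red hP (X i) (hX i) (E.X i) (ρ₀ i) (hρ₀k i)
    exact (eq i).toEquiv.subsingleton
  have hbE : ∀ i, b < i → Subsingleton (Eb i) := fun i hi =>
    ModuleCat.subsingleton_of_isZero (M := E.X i) (hEb i hi)
  obtain ⟨φ, hφ, hexact⟩ := sys_exists hP A B Eb hAB ρ δ β hX hρs hρk hex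
    (fun i => by
      refine LinearMap.ext (fun u => ?_)
      simp only [β, LinearMap.comp_apply, LinearMap.zero_apply, map_zero]
      have : (eq i) (LinearMap.inr R (A i) (B i) u) = 0 := rfl
      change 0 = δ i (ρ₀ i ((eq i) (LinearMap.inr R (A i) (B i) u)))
      rw [this, map_zero, map_zero])
    (fun i => by simp [β]) (fun i => by simp [β]) b hb hbE
  let d : ∀ i, (A i × B i) →ₗ[R] (A (i + 1) × B (i + 1)) := fun i => (φ i).coprod (β i)
  have hdd : ∀ i, d (i + 1) ∘ₗ d i = 0 := by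
    intro i
    refine LinearMap.ext (fun x => ?_)
    have : d i x ∈ LinearMap.ker (d (i + 1)) := by
      rw [← hexact i]; exact ⟨x, rfl⟩
    exact this
  let P : Cx R := CochainComplex.of (fun i => ModuleCat.of R (A i × B i))
    (fun i => ModuleCat.ofHom (d i)) (fun i => by
      rw [← ModuleCat.ofHom_comp, hdd i]; rfl)
  have hPd : ∀ i, P.d i (i + 1) = ModuleCat.ofHom (d i) := fun i =>
    CochainComplex.of_d (fun i => ModuleCat.of R (A i × B i)) (fun i => ModuleCat.ofHom (d i)) i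
  refine ⟨P, ?_, ?_, fun i => hAB i, ?_⟩
  · intro i hi
    haveI := hb i hi
    exact ModuleCat.isZero_of_subsingleton _
  · intro j
    have key : ∀ i : ℤ, P.ExactAt (i + 1) := by
      intro i
      refine Groth.Agent.H4.FlatAcyc.exactAt_of_exact_d P i (i + 1) (i + 1 + 1) rfl rfl ?_
      rw [hPd, hPd, LinearMap.exact_iff]
      exact (hexact i).symm
    have := key (j - 1)
    rwa [show j - 1 + 1 = j by omega] at this
  · have hiso : ∀ i, IsIso (thetaHom (I := I) (M := P.X i) (N := E.X i) (ρ i)) := fun i =>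
      isIso_thetaHom (I := I) (M := P.X i) (N := E.X i) (ρ i) (hρs i) (hρk i)
    refine ⟨HomologicalComplex.Hom.isoOfComponents (fun i =>
      @asIso _ _ _ _ (thetaHom (I := I) (M := P.X i) (N := E.X i) (ρ i)) (hiso i)) ?_⟩
    intro i j hij
    obtain rfl : i + 1 = j := hij
    change thetaHom (ρ i) ≫ E.d i (i + 1) = (ExtI I).map (P.d i (i + 1)) ≫ thetaHom (ρ (i + 1))
    rw [hPd]
    symm
    refine thetaHom_naturality (ρ i) (ρ (i + 1)) (ModuleCat.ofHom (d i)) (E.d i (i + 1)) ?_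
    intro m
    obtain ⟨a, u⟩ := m
    have h1 := LinearMap.congr_fun (hφ i) a
    change ρ (i + 1) ((φ i) a + 0) = (E.d i (i + 1)) (ρ₀ i a)
    rw [add_zero]
    exact h1

end S7012


theorem S7012 (R : Type u) [CommRing R] (I : Ideal R)
    (Pc : ObjectProperty (ModuleCat.{u} R)) [Pc.IsClosedUnderIsomorphisms]
    (h1 : ∀ X : ModuleCat.{u} R, Pc X → Module.Projective R X)
    (h2 : ∀ X Y : ModuleCat.{u} R, Pc X → Pc (ModuleCat.of R (X × Y)) → Pc Y)
    (h3 : ∀ (X Y : ModuleCat.{u} R) (f : X ⟶ Y), Pc X → Pc Y →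
      LinearMap.range f.hom ⊔ I • (⊤ : Submodule R Y) = ⊤ → Function.Surjective f.hom)
    (E : DRing.Cx (R ⧸ I)) (b : ℤ) (hEb : DRing.VanishesAbove E b) (hEa : E.Acyclic)
    (hEt : ∀ i : ℤ, ∃ X : ModuleCat.{u} R, Pc X ∧ Nonempty (TensorProduct R (R ⧸ I) X ≃ₗ[R ⧸ I] E.X i)) :
    ∃ (P : DRing.Cx R) (b' : ℤ), DRing.VanishesAbove P b' ∧ P.Acyclic ∧ (∀ i : ℤ, Pc (P.X i)) ∧
      Nonempty ((((ModuleCat.extendScalars (Ideal.Quotient.mk I)).mapHomologicalComplex (ComplexShape.up ℤ)).obj P) ≅ E) := by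
  have hP : ClassHyp I Pc := ⟨fun X Y e h => Pc.prop_of_iso e h, h1, h2, h3⟩
  choose X hX e using hEt
  obtain ⟨P, h⟩ := exists_acyclic_lift hP E b hEb hEa X hX
    (fun i => redOfEquiv (X i) (E.X i) (e i).some)
    (fun i => redOfEquiv_surjective _ _ _) (fun i => ker_redOfEquiv _ _ _)
  exact ⟨P, b, h⟩

end Groth.Agent.H4.LiftCx3
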