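import Mathlib
import Groth.Agent.H4.FlatAcyc2
import Groth.Agent.Lib.Helper2.RDer3

set_option autoImplicit false
universe u
open CategoryTheory CochainComplex HomComplex

namespace Groth.Agent.H4.LiftCx4

variable {S : Type u} [CommRing S] {F G : CochainComplex (ModuleCat.{u} S) ℤ} (α : F ⟶ G)

/-- the differential of the mapping cone in concrete terms. -/
def coneD (i : ℤ) : (F.X (i + 1) × G.X i) →ₗ[S] (F.X (i + 1 + 1) × G.X (i + 1)) :=
  (-((F.d (i + 1) (i + 1 + 1)).hom ∘ₗ LinearMap.fst S _ _)).prod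
    ((α.f (i + 1)).hom ∘ₗ LinearMap.fst S _ _ + (G.d i (i + 1)).hom ∘ₗ LinearMap.snd S _ _)

lemma coneD_apply (i : ℤ) (e : F.X (i + 1)) (q : G.X i) :
    coneD α i (e, q) = (-(F.d (i + 1) (i + 1 + 1)) e, α.f (i + 1) e + G.d i (i + 1) q) := rfl

/-- components of an element of the mapping cone. -/
noncomputable def coneΦ (i : ℤ) : (mappingCone α).X i →ₗ[S] (F.X (i + 1) × G.X i) :=
  (((mappingCone.fst α).1.v i (i + 1) rfl).hom).prod
    (((mappingCone.snd α).v i i (add_zero i)).hom)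

lemma coneΦ_bijective (i : ℤ) : Function.Bijective (coneΦ α i) := by
  constructor
  · rw [injective_iff_map_eq_zero]
    intro x hx
    have h1 : ((mappingCone.fst α).1.v i (i + 1) rfl) x = 0 := congrArg Prod.fst hx
    have h2 : ((mappingCone.snd α).v i i (add_zero i)) x = 0 := congrArg Prod.snd hx
    have h3 := congrArg (fun f => f.hom x) (mappingCone.id_X α i (i + 1) rfl)
    simp only [ModuleCat.hom_add, ModuleCat.hom_comp, LinearMap.add_apply, LinearMap.comp_apply,
      ModuleCat.hom_id, LinearMap.id_apply] at h3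
    rw [← h3]
    erw [h1, h2]
    simp
  · rintro ⟨e, q⟩
    refine ⟨((mappingCone.inl α).v (i + 1) i (by omega)) e + ((mappingCone.inr α).f i) q, ?_⟩
    have e1 := congrArg (fun f => f.hom e) (mappingCone.inl_v_fst_v α (i + 1) i rfl)
    have e2 := congrArg (fun f => f.hom e) (mappingCone.inl_v_snd_v α (i + 1) i (by omega))
    have e3 := congrArg (fun f => f.hom q) (mappingCone.inr_f_fst_v α i (i + 1) rfl)
    have e4 := congrArg (fun f => f.hom q) (mappingCone.inr_f_snd_v α i)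
    simp only [ModuleCat.hom_comp, LinearMap.comp_apply, ModuleCat.hom_id, LinearMap.id_apply,
      ModuleCat.hom_zero, LinearMap.zero_apply] at e1 e2 e3 e4
    refine Prod.ext ?_ ?_
    · change ((mappingCone.fst α).1.v i (i + 1) rfl).hom _ = e
      rw [map_add]
      erw [e1, e3]
      simp
    · change ((mappingCone.snd α).v i i (add_zero i)).hom _ = q
      rw [map_add]
      erw [e2, e4]
      simp

lemma coneΦ_fst (i : ℤ) (x : (mappingCone α).X i) :
    (coneΦ α i x).1 = ((mappingCone.fst α).1.v i (i + 1) rfl) x := rfl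

lemma coneΦ_snd (i : ℤ) (x : (mappingCone α).X i) :
    (coneΦ α i x).2 = ((mappingCone.snd α).v i i (add_zero i)) x := rfl

lemma coneΦ_d (i : ℤ) (x : (mappingCone α).X i) :
    coneΦ α (i + 1) (((mappingCone α).d i (i + 1)) x) = coneD α i (coneΦ α i x) := by
  have e1 := congrArg (fun f => f.hom x) (mappingCone.d_fst_v α i (i + 1) (i + 1 + 1) rfl rfl)
  have e2 := congrArg (fun f => f.hom x) (mappingCone.d_snd_v α i (i + 1) rfl)
  simp only [ModuleCat.hom_comp, LinearMap.comp_apply, ModuleCat.hom_neg, LinearMap.neg_apply,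
    ModuleCat.hom_add, LinearMap.add_apply] at e1 e2
  obtain ⟨y, hy⟩ : ∃ y, y = coneΦ α i x := ⟨_, rfl⟩
  have hy1 : y.1 = ((mappingCone.fst α).1.v i (i + 1) rfl) x := by rw [hy]; rfl
  have hy2 : y.2 = ((mappingCone.snd α).v i i (add_zero i)) x := by rw [hy]; rfl
  rw [← hy]
  obtain ⟨e, q⟩ := y
  rw [coneD_apply]
  refine Prod.ext ?_ ?_
  · rw [coneΦ_fst]
    refine e1.trans ?_
    change -(F.d (i + 1) (i + 1 + 1)) _ = -(F.d (i + 1) (i + 1 + 1)) e
    rw [← hy1]
  · rw [coneΦ_snd]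
    refine e2.trans ?_
    change (α.f (i + 1)) _ + (G.d i (i + 1)) _ = (α.f (i + 1)) e + (G.d i (i + 1)) q
    rw [← hy1, ← hy2]

/-- the concrete mapping cone of a quasi-isomorphism is exact. -/
theorem ker_coneD_eq_range (hα : QuasiIso α) (i : ℤ) :
    LinearMap.ker (coneD α (i + 1)) = LinearMap.range (coneD α i) := by
  have hex := (Groth.Agent.H2.RDer.quasiIso_iff_mappingCone_exactAt α).1 hα (i + 1)
  have h := Groth.Agent.H4.FlatAcyc.exact_d_of_exactAt (mappingCone α) i (i + 1) (i + 1 + 1)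
    rfl rfl hex
  ext y
  obtain ⟨x, rfl⟩ := (coneΦ_bijective α (i + 1)).2 y
  have hd1 := coneΦ_d α (i + 1) x
  constructor
  · intro hx
    have hx0 : coneD α (i + 1) (coneΦ α (i + 1) x) = 0 := hx
    rw [← hd1] at hx0
    have hx' : ((mappingCone α).d (i + 1) (i + 1 + 1)) x = 0 :=
      (coneΦ_bijective α (i + 1 + 1)).1 (hx0.trans (map_zero _).symm)
    obtain ⟨w, hw⟩ := (h x).1 hx'
    refine ⟨coneΦ α i w, ?_⟩
    rw [← coneΦ_d α i w]
    exact congrArg _ hw
  · rintro ⟨z, hz⟩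
    obtain ⟨w, rfl⟩ := (coneΦ_bijective α i).2 z
    rw [← coneΦ_d α i w] at hz
    have hw := (coneΦ_bijective α (i + 1)).1 hz
    have h0 : ((mappingCone α).d (i + 1) (i + 1 + 1)) x = 0 := (h x).2 ⟨w, hw⟩
    change coneD α (i + 1) (coneΦ α (i + 1) x) = 0
    rw [← hd1, h0, map_zero]

end Groth.Agent.H4.LiftCx4
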