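import Mathlib
import Groth.Agent.H4.LiftCx3
import Groth.Agent.H4.LiftCx4
import Groth.Agent.H4.FibPerf
import Groth.Agent.H4.DNak3

set_option autoImplicit false
universe u
open CategoryTheory TensorProduct

namespace Groth.Agent.H4.LiftCx5

attribute [local instance] HasDerivedCategory.standard

open Groth.Agent.H4.ProjF Groth.Agent.H4.PCDesc Groth.Agent.H4.LiftCx Groth.Agent.H4.LiftCx3
  Groth.Agent.H4.LiftCx4 DRing DerivedCategory Groth.Agent.H4.LDer

variable {R : Type u} [CommRing R] {I : Ideal R} {Pc : ObjectProperty (ModuleCat.{u} R)}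

lemma smul_top_prod {M N : Type u} [AddCommGroup M] [Module R M] [AddCommGroup N] [Module R N] :
    (I • (⊤ : Submodule R (M × N))) = (I • (⊤ : Submodule R M)).prod (I • (⊤ : Submodule R N)) := by
  apply le_antisymm
  · rw [Submodule.smul_le]
    rintro a ha ⟨m, n⟩ -
    exact ⟨Submodule.smul_mem_smul ha trivial, Submodule.smul_mem_smul ha trivial⟩
  · rintro ⟨m, n⟩ ⟨hm, hn⟩
    have h1 : (m, (0 : N)) ∈ I • (⊤ : Submodule R (M × N)) := by
      have : (m, (0 : N)) ∈ (I • (⊤ : Submodule R M)).map (LinearMap.inl R M N) := ⟨m, hm, rfl⟩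
      rw [Submodule.map_smul''] at this
      exact Submodule.smul_mono le_rfl le_top this
    have h2 : ((0 : M), n) ∈ I • (⊤ : Submodule R (M × N)) := by
      have : ((0 : M), n) ∈ (I • (⊤ : Submodule R N)).map (LinearMap.inr R M N) := ⟨n, hn, rfl⟩
      rw [Submodule.map_smul''] at this
      exact Submodule.smul_mono le_rfl le_top this
    have := Submodule.add_mem _ h1 h2
    simpa using this

lemma ker_prodMap_smul_top {M N M' N' : Type u} [AddCommGroup M] [Module R M] [AddCommGroup N]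
    [Module R N] [AddCommGroup M'] [Module R M'] [AddCommGroup N'] [Module R N']
    (f : M →ₗ[R] M') (g : N →ₗ[R] N') (hf : LinearMap.ker f = I • ⊤) (hg : LinearMap.ker g = I • ⊤) :
    LinearMap.ker (f.prodMap g) = I • ⊤ := by
  rw [LinearMap.ker_prodMap, hf, hg, smul_top_prod]


section Cone

variable (hP : ClassHyp I Pc) (h2' : ∀ X Y : ModuleCat.{u} R, Pc X → Pc Y → Pc (ModuleCat.of R (X × Y)))
  (Qc : Cx R) (c : ℤ) (hQc : VanishesAbove Qc c) (hQ : ∀ i, Pc (Qc.X i))
  (E : Cx (R ⧸ I)) (b : ℤ) (hEb : VanishesAbove E b)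
  (X : ℤ → ModuleCat.{u} R) (hX : ∀ i, Pc (X i))
  (ρ₀ : ∀ i, X i →ₗ[R] (ResI I).obj (E.X i)) (hρ₀s : ∀ i, Function.Surjective (ρ₀ i))
  (hρ₀k : ∀ i, LinearMap.ker (ρ₀ i) = I • ⊤)
  (α : E ⟶ (GC (ExtI I)).obj Qc) (hα : QuasiIso α)

/-- the `R`-linear version of the cone differential. -/
noncomputable def coneDR (i : ℤ) :
    (((ResI I).obj (E.X (i + 1))) × ((ResI I).obj (((GC (ExtI I)).obj Qc).X i))) →ₗ[R]
      (((ResI I).obj (E.X (i + 1 + 1))) × ((ResI I).obj (((GC (ExtI I)).obj Qc).X (i + 1)))) where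
  toFun := coneD α i
  map_add' := map_add _
  map_smul' r x := (coneD α i).map_smul (qm I r) x


lemma coneDR_apply (i : ℤ) (x : ((ResI I).obj (E.X (i + 1))) ×
    ((ResI I).obj (((GC (ExtI I)).obj Qc).X i))) : coneDR Qc E α i x = coneD α i x := rfl

include hP h2' hQc hQ hEb hX hρ₀s hρ₀k hα in
theorem exists_cone_lift :
    ∃ (P'' : Cx R), (∀ i, P''.X i = X (i + 1)) ∧ VanishesAbove P'' (max b c) ∧
      Nonempty (toD P'' ≅ (toD Qc)⟦(1 : ℤ)⟧) ∧
      Nonempty ((GC (ExtI I)).obj P'' ≅ E⟦(1 : ℤ)⟧) := by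
  classical
  let Qb := (GC (ExtI I)).obj Qc
  -- the system
  let A : ℤ → ModuleCat.{u} R := fun i => X (i + 1)
  let B : ℤ → ModuleCat.{u} R := fun i => Qc.X i
  let Eb : ℤ → ModuleCat.{u} R := fun i =>
    ModuleCat.of R (((ResI I).obj (E.X (i + 1))) × ((ResI I).obj (Qb.X i)))
  let ρ : ∀ i, (A i × B i) →ₗ[R] Eb i := fun i =>
    (ρ₀ (i + 1)).prodMap (etaRed (I := I) (Qc.X i))
  let δ : ∀ i, Eb i →ₗ[R] Eb (i + 1) := fun i => coneDR Qc E α i
  let β : ∀ i, B i →ₗ[R] (A (i + 1) × B (i + 1)) := fun i =>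
    LinearMap.inr R (A (i + 1)) (B (i + 1)) ∘ₗ (Qc.d i (i + 1)).hom
  have hA : ∀ i, Pc (A i) := fun i => hX (i + 1)
  have hAB : ∀ i, Pc (ModuleCat.of R (A i × B i)) := fun i => h2' _ _ (hX (i + 1)) (hQ i)
  have hρs : ∀ i, Function.Surjective (ρ i) := fun i =>
    Function.Surjective.prodMap (hρ₀s (i + 1)) (etaRed_surjective (Qc.X i))
  have hρk : ∀ i, LinearMap.ker (ρ i) = I • ⊤ := fun i =>
    ker_prodMap_smul_top _ _ (hρ₀k (i + 1)) (ker_etaRed (Qc.X i))
  have hex : ∀ i, LinearMap.ker (δ (i + 1)) = LinearMap.range (δ i) := by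
    intro i
    have h := ker_coneD_eq_range α hα i
    ext y
    have h' := SetLike.ext_iff.1 h y
    exact ⟨fun hy => h'.1 hy, fun hy => h'.2 hy⟩
  have hbA : ∀ i, b < i → Subsingleton (X i) := by
    intro i hi
    haveI : Subsingleton (E.X i) := ModuleCat.subsingleton_of_isZero (hEb i hi)
    exact subsingleton_of_red hP (X i) (hX i) (E.X i) (ρ₀ i) (hρ₀k i)
  have hb : ∀ i, max b c < i → Subsingleton (A i × B i) := by
    intro i hi
    haveI : Subsingleton (X (i + 1)) := hbA (i + 1) (by omega)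
    haveI : Subsingleton (Qc.X i) := ModuleCat.subsingleton_of_isZero (hQc i (by omega))
    infer_instance
  have hbE : ∀ i, max b c < i → Subsingleton (Eb i) := by
    intro i hi
    haveI : Subsingleton (E.X (i + 1)) := ModuleCat.subsingleton_of_isZero (hEb (i + 1) (by omega))
    haveI : Subsingleton (Qb.X i) := ModuleCat.subsingleton_of_isZero
      ((ExtI I).map_isZero (hQc i (by omega)))
    exact inferInstanceAs (Subsingleton ((E.X (i + 1)) × (Qb.X i)))
  have hβρ : ∀ i, ρ (i + 1) ∘ₗ β i = δ i ∘ₗ ρ i ∘ₗ LinearMap.inr R (A i) (B i) := by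
    intro i
    refine LinearMap.ext (fun q => ?_)
    have key : coneD α i ((0 : E.X (i + 1)), (etaRed (I := I) (Qc.X i) q : Qb.X i)) =
        ((0 : E.X (i + 1 + 1)), (etaRed (I := I) (Qc.X (i + 1)) ((Qc.d i (i + 1)) q) :
          Qb.X (i + 1))) := by
      refine (coneD_apply α i _ _).trans (Prod.ext ?_ ?_)
      · change -((E.d (i + 1) (i + 1 + 1)) 0) = 0
        rw [map_zero, neg_zero]
      · change (α.f (i + 1)) 0 + _ = _
        rw [map_zero, zero_add]
        rfl
    have e1 : (ρ₀ (i + 1)) 0 = 0 := map_zero _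
    have e2 : (ρ₀ (i + 1 + 1)) 0 = 0 := map_zero _
    change ((ρ₀ (i + 1 + 1)) 0, etaRed (I := I) (Qc.X (i + 1)) ((Qc.d i (i + 1)) q)) =
      coneD α i ((ρ₀ (i + 1)) 0, etaRed (I := I) (Qc.X i) q)
    rw [e1, e2]
    exact key.symm
  have hβ1 : ∀ i, LinearMap.fst R (A (i + 1)) (B (i + 1)) ∘ₗ β i = 0 := by
    intro i
    refine LinearMap.ext (fun q => ?_)
    rfl
  have hβ2 : ∀ i, β (i + 1) ∘ₗ LinearMap.snd R (A (i + 1)) (B (i + 1)) ∘ₗ β i = 0 := by
    intro i
    refine LinearMap.ext (fun q => ?_)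
    change ((0 : A (i + 1 + 1)), (Qc.d (i + 1) (i + 1 + 1)) ((Qc.d i (i + 1)) q)) = 0
    have : (Qc.d (i + 1) (i + 1 + 1)) ((Qc.d i (i + 1)) q) = 0 := by
      change (Qc.d (i + 1) (i + 1 + 1)).hom ((Qc.d i (i + 1)).hom q) = 0
      rw [← LinearMap.comp_apply, ← ModuleCat.hom_comp, Qc.d_comp_d]; rfl
    rw [this]
    rfl
  obtain ⟨φ, hφ, hexact⟩ := sys_exists hP A B Eb hAB ρ δ β hA hρs hρk hex hβρ hβ1 hβ2
    (max b c) hb hbE
  let d : ∀ i, (A i × B i) →ₗ[R] (A (i + 1) × B (i + 1)) := fun i => (φ i).coprod (β i)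
  have hdd : ∀ i, d (i + 1) ∘ₗ d i = 0 := by
    intro i
    refine LinearMap.ext (fun x => ?_)
    have : d i x ∈ LinearMap.ker (d (i + 1)) := by
      rw [← hexact i]; exact ⟨x, rfl⟩
    exact this
  -- the acyclic complex `C`
  let C : Cx R := CochainComplex.of (fun i => ModuleCat.of R (A i × B i))
    (fun i => ModuleCat.ofHom (d i)) (fun i => by
      rw [← ModuleCat.ofHom_comp, hdd i]; rfl)
  have hCd : ∀ i, C.d i (i + 1) = ModuleCat.ofHom (d i) := fun i =>
    CochainComplex.of_d (fun i => ModuleCat.of R (A i × B i)) (fun i => ModuleCat.ofHom (d i)) i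
  have hCacyc : ∀ j, C.ExactAt j := by
    intro j
    have key : ∀ i : ℤ, C.ExactAt (i + 1) := by
      intro i
      refine Groth.Agent.H4.FlatAcyc.exactAt_of_exact_d C i (i + 1) (i + 1 + 1) rfl rfl ?_
      rw [hCd, hCd, LinearMap.exact_iff]
      exact (hexact i).symm
    have := key (j - 1)
    rwa [show j - 1 + 1 = j by omega] at this
  -- the quotient complex `P''`
  let dP : ∀ i, A i →ₗ[R] A (i + 1) := fun i => LinearMap.fst R _ _ ∘ₗ φ i
  have hdP : ∀ i, dP (i + 1) ∘ₗ dP i = 0 := by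
    intro i
    refine LinearMap.ext (fun x => ?_)
    have h1 := LinearMap.congr_fun (hdd i) (x, 0)
    have h2 : d i (x, 0) = φ i x := by
      change φ i x + β i 0 = φ i x
      rw [map_zero, add_zero]
    rw [LinearMap.comp_apply, h2] at h1
    have h3 : d (i + 1) (φ i x) = φ (i + 1) (φ i x).1 + β (i + 1) (φ i x).2 := rfl
    rw [h3] at h1
    have h4 := congrArg Prod.fst h1
    change (φ (i + 1) (φ i x).1).1 + (β (i + 1) (φ i x).2).1 = 0 at h4
    have h5 : (β (i + 1) (φ i x).2).1 = 0 := rfl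
    rw [h5, add_zero] at h4
    exact h4
  let P'' : Cx R := CochainComplex.of A (fun i => ModuleCat.ofHom (dP i)) (fun i => by
      rw [← ModuleCat.ofHom_comp, hdP i]; rfl)
  have hPd : ∀ i, P''.d i (i + 1) = ModuleCat.ofHom (dP i) := fun i =>
    CochainComplex.of_d A (fun i => ModuleCat.ofHom (dP i)) i
  -- the maps `Qc → C → P''`
  let ι : Qc ⟶ C :=
    { f := fun i => ModuleCat.ofHom (LinearMap.inr R (A i) (B i))
      comm' := fun i j hij => by
        obtain rfl : i + 1 = j := hij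
        rw [hCd]
        refine ModuleCat.hom_ext (LinearMap.ext fun q => ?_)
        change d i (0, q) = (0, (Qc.d i (i + 1)) q)
        change φ i 0 + β i q = _
        rw [map_zero, zero_add]
        rfl }
  let π : C ⟶ P'' :=
    { f := fun i => ModuleCat.ofHom (LinearMap.fst R (A i) (B i))
      comm' := fun i j hij => by
        obtain rfl : i + 1 = j := hij
        rw [hCd, hPd]
        refine ModuleCat.hom_ext (LinearMap.ext fun x => ?_)
        obtain ⟨a, q⟩ := x
        change (φ i a).1 = (φ i a + β i q).1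
        change _ = (φ i a).1 + (β i q).1
        have : (β i q).1 = 0 := rfl
        rw [this, add_zero] }
  let SC : ShortComplex (Cx R) := ShortComplex.mk ι π (by
    ext i x
    rfl)
  have hSC : SC.ShortExact := by
    apply HomologicalComplex.shortExact_of_degreewise_shortExact
    intro i
    refine ModuleCat.shortComplex_shortExact _ ?_ ?_ ?_
    · intro x
      constructor
      · intro hx
        exact ⟨x.2, Prod.ext hx.symm rfl⟩
      · rintro ⟨q, rfl⟩
        rfl
    · intro q q' h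
      exact congrArg Prod.snd h
    · intro a
      exact ⟨(a, 0), rfl⟩
  have hdist := DerivedCategory.triangleOfSES_distinguished hSC
  have hz : Limits.IsZero (DerivedCategory.Q.obj C) := Groth.Agent.H4.DNak3.isZero_Q_of_exactAt C hCacyc
  have hiso3 : IsIso (DerivedCategory.triangleOfSES hSC).mor₃ :=
    (Pretriangulated.Triangle.isZero₂_iff_isIso₃ _ hdist).1 hz
  have e1 : toD P'' ≅ (toD Qc)⟦(1 : ℤ)⟧ :=
    @asIso _ _ _ _ (DerivedCategory.triangleOfSES hSC).mor₃ hiso3
  refine ⟨P'', fun i => rfl, ?_, ⟨e1⟩, ?_⟩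
  · intro i hi
    haveI := hb i hi
    haveI : Subsingleton (P''.X i) := by
      refine ⟨fun x y => ?_⟩
      have := Subsingleton.elim (α := A i × B i) (x, 0) (y, 0)
      exact congrArg Prod.fst this
    exact ModuleCat.isZero_of_subsingleton _
  · have hiso : ∀ i, IsIso (thetaHom (I := I) (M := P''.X i) (N := E.X (i + 1)) (ρ₀ (i + 1))) :=
      fun i => isIso_thetaHom (I := I) (M := P''.X i) (N := E.X (i + 1)) (ρ₀ (i + 1))
        (hρ₀s (i + 1)) (hρ₀k (i + 1))
    refine ⟨HomologicalComplex.Hom.isoOfComponents (fun i =>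
      @asIso _ _ _ _ (thetaHom (I := I) (M := P''.X i) (N := E.X (i + 1)) (ρ₀ (i + 1)))
        (hiso i)) ?_⟩
    intro i j hij
    obtain rfl : i + 1 = j := hij
    change thetaHom (ρ₀ (i + 1)) ≫ (E⟦(1 : ℤ)⟧).d i (i + 1) =
      (ExtI I).map (P''.d i (i + 1)) ≫ thetaHom (ρ₀ (i + 1 + 1))
    rw [hPd]
    symm
    refine thetaHom_naturality (ρ₀ (i + 1)) (ρ₀ (i + 1 + 1)) (ModuleCat.ofHom (dP i))
      ((E⟦(1 : ℤ)⟧).d i (i + 1)) ?_
    intro m
    have h1 := congrArg Prod.fst (LinearMap.congr_fun (hφ i) m)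
    have h2 : ((E⟦(1 : ℤ)⟧).d i (i + 1)) = -(E.d (i + 1) (i + 1 + 1)) := by
      rw [CochainComplex.shiftFunctor_obj_d', Int.negOnePow_one, Units.neg_smul, one_smul]
    rw [h2]
    exact h1

end Cone

end Groth.Agent.H4.LiftCx5
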