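import Mathlib
import Groth.Agent.H4.LiftCx5
import Groth.Agent.H4.ExtS
import Groth.Agent.H4.DRing1

set_option autoImplicit false
universe u
open CategoryTheory TensorProduct

namespace Groth.Agent.H4.LiftCx6

attribute [local instance] HasDerivedCategory.standard

open Groth.Agent.H4.ProjF Groth.Agent.H4.PCDesc Groth.Agent.H4.LiftCx Groth.Agent.H4.LiftCx3
  Groth.Agent.H4.LiftCx4 Groth.Agent.H4.LiftCx5 DRing DerivedCategory Groth.Agent.H4.LDer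

variable {R : Type u} [CommRing R] {I : Ideal R} {Pc : ObjectProperty (ModuleCat.{u} R)}

theorem lift_general (hP : ClassHyp I Pc)
    (h2' : ∀ X Y : ModuleCat.{u} R, Pc X → Pc Y → Pc (ModuleCat.of R (X × Y)))
    [DRing.HasLBaseChange (Ideal.Quotient.mk I)]
    (K : Dual.D R) (Qc : Cx R) (c : ℤ) (hQc : VanishesAbove Qc c) (hQ : ∀ i, Pc (Qc.X i))
    (eQ : toD Qc ≅ K)
    (E : Cx (R ⧸ I)) (b : ℤ) (hEb : VanishesAbove E b)
    (X : ℤ → ModuleCat.{u} R) (hX : ∀ i, Pc (X i))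
    (ρ₀ : ∀ i, X i →ₗ[R] (ResI I).obj (E.X i)) (hρ₀s : ∀ i, Function.Surjective (ρ₀ i))
    (hρ₀k : ∀ i, LinearMap.ker (ρ₀ i) = I • ⊤)
    (hE : Nonempty (DRing.toD E ≅ (DRing.LBaseChange (Ideal.Quotient.mk I)).obj K)) :
    ∃ (P : Cx R) (b' : ℤ), VanishesAbove P b' ∧ (∀ i, Nonempty (P.X i ≅ X i)) ∧
      Nonempty (toD P ≅ K) ∧ Nonempty ((GC (ExtI I)).obj P ≅ E) := by
  haveI : Qc.IsKProjective :=
    Groth.Agent.H4.DRing1.isKProjective_of_vanishesAbove_projective Qc c hQc (fun i => hP.h1 _ (hQ i))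
  haveI : E.IsKProjective := by
    refine Groth.Agent.H4.DRing1.isKProjective_of_vanishesAbove_projective E b hEb (fun i => ?_)
    haveI : Module.Projective R (X i) := hP.h1 _ (hX i)
    haveI := Groth.Agent.H4.ExtS.projective_obj (qm I) (X i)
    haveI := isIso_thetaHom (I := I) (M := X i) (N := E.X i) (ρ₀ i) (hρ₀s i) (hρ₀k i)
    exact Module.Projective.of_equiv (asIso (thetaHom (I := I) (M := X i) (N := E.X i) (ρ₀ i))).toLinearEquiv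
  let ψ : toD E ≅ toD ((GC (ExtI I)).obj Qc) := hE.some ≪≫ isoOfIso (ExtI I) Qc eQ
  obtain ⟨α, hα⟩ := Groth.Agent.H3.PerfAux.exists_map_of_isKProjective E _ ψ.hom
  have hαq : QuasiIso α := by
    rw [← DerivedCategory.isIso_Q_map_iff_quasiIso, hα]
    infer_instance
  obtain ⟨P'', hP''c, hP''v, ⟨e1⟩, ⟨e2⟩⟩ := exists_cone_lift hP h2' Qc c hQc hQ E b hEb X hX ρ₀ hρ₀s hρ₀k α hαq
  refine ⟨(shiftFunctor (Cx R) (-1 : ℤ)).obj P'', max b c + 1, ?_, ?_, ⟨?_⟩, ⟨?_⟩⟩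
  · intro i hi
    exact hP''v (i + -1) (by omega)
  · intro i
    have h : ((shiftFunctor (Cx R) (-1 : ℤ)).obj P'').X i = X i := by
      change P''.X (i + -1) = X i
      rw [hP''c]
      congr 1
      omega
    exact ⟨eqToIso h⟩
  · exact (DerivedCategory.Q.commShiftIso (-1 : ℤ)).app P'' ≪≫
      (shiftFunctor _ (-1 : ℤ)).mapIso e1 ≪≫ shiftShiftNeg (toD Qc) (1 : ℤ) ≪≫ eQ
  · exact ((ExtI I).mapCochainComplexShiftIso (-1 : ℤ)).app P'' ≪≫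
      (shiftFunctor _ (-1 : ℤ)).mapIso e2 ≪≫ shiftShiftNeg E (1 : ℤ)

theorem S7013 (R : Type u) [CommRing R] (I : Ideal R)
    [DRing.HasLBaseChange (Ideal.Quotient.mk I)]
    (Pc : ObjectProperty (ModuleCat.{u} R)) [Pc.IsClosedUnderIsomorphisms]
    (h1 : ∀ X : ModuleCat.{u} R, Pc X → Module.Projective R X)
    (h2 : ∀ X Y : ModuleCat.{u} R, Pc X → (Pc (ModuleCat.of R (X × Y)) ↔ Pc Y))
    (h3 : ∀ (X Y : ModuleCat.{u} R) (f : X ⟶ Y), Pc X → Pc Y →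
      LinearMap.range f.hom ⊔ I • (⊤ : Submodule R Y) = ⊤ → Function.Surjective f.hom)
    (K : Dual.D R) (hK : ∃ (Q : DRing.Cx R) (c : ℤ), DRing.VanishesAbove Q c ∧ (∀ i : ℤ, Pc (Q.X i)) ∧
      Nonempty (DRing.toD Q ≅ K))
    (E : DRing.Cx (R ⧸ I)) (b : ℤ) (hEb : DRing.VanishesAbove E b)
    (hEt : ∀ i : ℤ, ∃ X : ModuleCat.{u} R, Pc X ∧ Nonempty (TensorProduct R (R ⧸ I) X ≃ₗ[R ⧸ I] E.X i))
    (hE : Nonempty (DRing.toD E ≅ (DRing.LBaseChange (Ideal.Quotient.mk I)).obj K)) :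
    ∃ (P : DRing.Cx R) (b' : ℤ), DRing.VanishesAbove P b' ∧ (∀ i : ℤ, Pc (P.X i)) ∧
      Nonempty (DRing.toD P ≅ K) ∧ Nonempty ((((ModuleCat.extendScalars (Ideal.Quotient.mk I)).mapHomologicalComplex (ComplexShape.up ℤ)).obj P) ≅ E) := by
  have hP : ClassHyp I Pc := ⟨fun X Y e h => Pc.prop_of_iso e h, h1, fun X Y hX => (h2 X Y hX).1, h3⟩
  obtain ⟨Qc, c, hQc, hQ, ⟨eQ⟩⟩ := hK
  choose X hX e using hEt
  obtain ⟨P, b', hPv, hPX, hPK, hPE⟩ := lift_general hP (fun X Y hX hY => (h2 X Y hX).2 hY) K Qc c hQc hQ eQ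
    E b hEb X hX
    (fun i => redOfEquiv (X i) (E.X i) (e i).some)
    (fun i => redOfEquiv_surjective _ _ _) (fun i => ker_redOfEquiv _ _ _) hE
  exact ⟨P, b', hPv, fun i => Pc.prop_of_iso (hPX i).some.symm (hX i), hPK, hPE⟩

end Groth.Agent.H4.LiftCx6
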