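import Mathlib

set_option autoImplicit false
universe u v
open TensorProduct

namespace Groth.Agent.H4.LiftMod

variable {R : Type u} [CommRing R] {I : Ideal R}

section Free

variable (I) (S : Type v)

/-- reduction of finitely supported functions modulo `I`. -/
noncomputable def finsuppRed : (S →₀ R) →ₗ[R] (S →₀ (R ⧸ I)) :=
  Finsupp.mapRange.linearMap (Algebra.linearMap R (R ⧸ I))

lemma finsuppRed_apply (x : S →₀ R) (s : S) : finsuppRed I S x s = Ideal.Quotient.mk I (x s) := rfl

lemma finsuppRed_surjective : Function.Surjective (finsuppRed I S) := by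
  refine Finsupp.mapRange_surjective _ (map_zero _) ?_
  exact Ideal.Quotient.mk_surjective (I := I)

lemma ker_finsuppRed : LinearMap.ker (finsuppRed I S) = I • ⊤ := by
  classical
  apply le_antisymm
  · intro x hx
    have hx' : ∀ s, x s ∈ I := by
      intro s
      have := DFunLike.congr_fun (LinearMap.mem_ker.1 hx) s
      rw [finsuppRed_apply] at this
      exact Ideal.Quotient.eq_zero_iff_mem.1 this
    rw [← Finsupp.sum_single x]
    refine Submodule.sum_mem _ (fun s _ => ?_)
    have : Finsupp.single s (x s) = (x s) • Finsupp.single s (1 : R) := by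
      rw [Finsupp.smul_single, smul_eq_mul, mul_one]
    rw [this]
    exact Submodule.smul_mem_smul (hx' s) trivial
  · rw [Submodule.smul_le]
    rintro a ha x -
    rw [LinearMap.mem_ker]
    ext s
    rw [finsuppRed_apply]
    change Ideal.Quotient.mk I (a * x s) = 0
    exact Ideal.Quotient.eq_zero_iff_mem.2 (I.mul_mem_right _ ha)

end Free

section Idem

variable {F : Type v} {Fb : Type v} [AddCommGroup F] [Module R F] [AddCommGroup Fb] [Module R Fb]
  (red : F →ₗ[R] Fb)

/-- the subring of compatible pairs of endomorphisms. -/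
def compatSubring : Subring (Module.End R F × Module.End R Fb) where
  carrier := {p | red ∘ₗ p.1 = p.2 ∘ₗ red}
  mul_mem' := by
    rintro ⟨a, a'⟩ ⟨b, b'⟩ ha hb
    change red ∘ₗ a = a' ∘ₗ red at ha
    change red ∘ₗ b = b' ∘ₗ red at hb
    change red ∘ₗ (a ∘ₗ b) = (a' ∘ₗ b') ∘ₗ red
    rw [← LinearMap.comp_assoc, ha, LinearMap.comp_assoc, hb, LinearMap.comp_assoc]
  one_mem' := by
    change red ∘ₗ LinearMap.id = LinearMap.id ∘ₗ red
    rw [LinearMap.comp_id, LinearMap.id_comp]
  add_mem' := by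
    rintro ⟨a, a'⟩ ⟨b, b'⟩ ha hb
    change red ∘ₗ a = a' ∘ₗ red at ha
    change red ∘ₗ b = b' ∘ₗ red at hb
    change red ∘ₗ (a + b) = (a' + b') ∘ₗ red
    rw [LinearMap.comp_add, LinearMap.add_comp, ha, hb]
  zero_mem' := by
    change red ∘ₗ 0 = 0 ∘ₗ red
    rw [LinearMap.comp_zero, LinearMap.zero_comp]
  neg_mem' := by
    rintro ⟨a, a'⟩ ha
    change red ∘ₗ a = a' ∘ₗ red at ha
    change red ∘ₗ (-a) = (-a') ∘ₗ red
    rw [LinearMap.comp_neg, LinearMap.neg_comp, ha]

lemma pow_apply_mem (hk : LinearMap.ker red = I • ⊤) (u : Module.End R F) (hu : red ∘ₗ u = 0)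
    (k : ℕ) (y : F) : (u ^ k) y ∈ I ^ k • (⊤ : Submodule R F) := by
  induction k generalizing y with
  | zero =>
    rw [pow_zero, Ideal.one_eq_top, Submodule.top_smul]
    trivial
  | succ k ih =>
    have h0 : (u ^ (k + 1)) y = u ((u ^ k) y) := by rw [pow_succ' u k]; rfl
    rw [h0]
    have h1 : u ((u ^ k) y) ∈ (I ^ k • (⊤ : Submodule R F)).map u := ⟨_, ih y, rfl⟩
    rw [Submodule.map_smul''] at h1
    have h2 : (⊤ : Submodule R F).map u ≤ I • ⊤ := by
      rw [← hk]
      rintro _ ⟨z, -, rfl⟩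
      exact LinearMap.congr_fun hu z
    have h3 := Submodule.smul_mono (le_refl (I ^ k)) h2 h1
    rwa [← Submodule.mul_smul, ← pow_succ I k] at h3

theorem exists_idem_lift [Module.Projective R F] (hs : Function.Surjective red)
    (hk : LinearMap.ker red = I • ⊤) (hI : IsNilpotent I) (eb : Module.End R Fb)
    (he : IsIdempotentElem eb) :
    ∃ e : Module.End R F, IsIdempotentElem e ∧ red ∘ₗ e = eb ∘ₗ red := by
  let T := compatSubring red
  let f : T →+* Module.End R Fb := (RingHom.snd _ _).comp T.subtype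
  obtain ⟨n, hn⟩ := hI
  have hker : ∀ x ∈ RingHom.ker f, IsNilpotent x := by
    rintro ⟨⟨u, v⟩, hx⟩ hx0
    have hv : v = 0 := hx0
    subst hv
    have hu : red ∘ₗ u = 0 := by
      have : red ∘ₗ u = 0 ∘ₗ red := hx
      rwa [LinearMap.zero_comp] at this
    refine ⟨n + 1, ?_⟩
    apply Subtype.ext
    change ((u, (0 : Module.End R Fb)) ^ (n + 1)) = 0
    rw [Prod.pow_mk]
    refine Prod.ext ?_ ?_
    · change u ^ (n + 1) = 0
      refine LinearMap.ext (fun y => ?_)
      have := pow_apply_mem red hk u hu (n + 1) y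
      rw [pow_succ, hn] at this
      simpa using this
    · change (0 : Module.End R Fb) ^ (n + 1) = 0
      rw [pow_succ, mul_zero]
  have hrange : eb ∈ f.range := by
    obtain ⟨u, hu⟩ := Module.projective_lifting_property red (eb ∘ₗ red) hs
    exact ⟨⟨(u, eb), hu⟩, rfl⟩
  obtain ⟨e', he', hfe⟩ := exists_isIdempotentElem_eq_of_ker_isNilpotent f hker eb hrange he
  refine ⟨e'.1.1, ?_, ?_⟩
  · have := congrArg (fun t : T => t.1.1) he'.eq
    exact this
  · have h1 : red ∘ₗ e'.1.1 = e'.1.2 ∘ₗ red := e'.2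
    have h2 : e'.1.2 = eb := hfe
    rw [h1, h2]

/-- the reduction map between the images of compatible idempotents. -/
def rangeRed (e : Module.End R F) (eb : Module.End R Fb) (hc : red ∘ₗ e = eb ∘ₗ red) :
    LinearMap.range e →ₗ[R] LinearMap.range eb :=
  (red.domRestrict (LinearMap.range e)).codRestrict (LinearMap.range eb) (by
    rintro ⟨_, ⟨y, rfl⟩⟩
    exact ⟨red y, (LinearMap.congr_fun hc y).symm⟩)

lemma rangeRed_apply (e : Module.End R F) (eb : Module.End R Fb) (hc : red ∘ₗ e = eb ∘ₗ red)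
    (x : LinearMap.range e) : (rangeRed red e eb hc x : Fb) = red x := rfl

lemma rangeRed_surjective (hs : Function.Surjective red) (e : Module.End R F) (eb : Module.End R Fb)
    (hc : red ∘ₗ e = eb ∘ₗ red) : Function.Surjective (rangeRed red e eb hc) := by
  rintro ⟨_, ⟨w, rfl⟩⟩
  obtain ⟨y, rfl⟩ := hs w
  refine ⟨⟨e y, ⟨y, rfl⟩⟩, Subtype.ext ?_⟩
  exact LinearMap.congr_fun hc y

lemma ker_rangeRed (hk : LinearMap.ker red = I • ⊤) (e : Module.End R F)
    (he : IsIdempotentElem e) (eb : Module.End R Fb)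
    (hc : red ∘ₗ e = eb ∘ₗ red) : LinearMap.ker (rangeRed red e eb hc) = I • ⊤ := by
  apply le_antisymm
  · rintro ⟨x, hx⟩ hx0
    have h0 : red x = 0 := congrArg Subtype.val (LinearMap.mem_ker.1 hx0)
    have h1 : x ∈ I • (⊤ : Submodule R F) := by rw [← hk]; exact h0
    have h2 : e.rangeRestrict x ∈ (I • (⊤ : Submodule R F)).map e.rangeRestrict := ⟨x, h1, rfl⟩
    rw [Submodule.map_smul''] at h2
    have h3 := Submodule.smul_mono (le_refl I) (le_top : (⊤ : Submodule R F).map e.rangeRestrict ≤ ⊤) h2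
    have h4 : e.rangeRestrict x = ⟨x, hx⟩ := by
      apply Subtype.ext
      obtain ⟨y, rfl⟩ := hx
      change e (e y) = e y
      exact LinearMap.congr_fun he.eq y
    rwa [h4] at h3
  · rw [Submodule.smul_le]
    rintro a ha x -
    rw [LinearMap.mem_ker, map_smul]
    apply Subtype.ext
    change a • red x = 0
    rw [← map_smul]
    have : a • (x : F) ∈ LinearMap.ker red := by
      rw [hk]; exact Submodule.smul_mem_smul ha trivial
    exact this

end Idem


section Proj

variable (I)

theorem exists_projective_lift_aux (hI : IsNilpotent I) (N : Type u) [AddCommGroup N] [Module R N]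
    [Module (R ⧸ I) N] [IsScalarTower R (R ⧸ I) N] [Module.Projective (R ⧸ I) N] :
    ∃ (X : Type u) (_ : AddCommGroup X) (_ : Module R X) (ρ : X →ₗ[R] N),
      Module.Projective R X ∧ Function.Surjective ρ ∧ LinearMap.ker ρ = I • ⊤ := by
  obtain ⟨s, hs⟩ := Module.Projective.out (R := R ⧸ I) (P := N)
  let π : (N →₀ (R ⧸ I)) →ₗ[R ⧸ I] N := Finsupp.linearCombination (R ⧸ I) id
  have hπs : ∀ n, π (s n) = n := hs
  let eb : Module.End R (N →₀ (R ⧸ I)) := (s ∘ₗ π).restrictScalars R
  have heb : IsIdempotentElem eb := by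
    refine LinearMap.ext (fun x => ?_)
    change s (π (s (π x))) = s (π x)
    rw [hπs]
  obtain ⟨e, he, hc⟩ := exists_idem_lift (I := I) (finsuppRed I N) (finsuppRed_surjective I N)
    (ker_finsuppRed I N) hI eb heb
  let ρ' := rangeRed (finsuppRed I N) e eb hc
  let ρ : LinearMap.range e →ₗ[R] N :=
    (π.restrictScalars R) ∘ₗ (LinearMap.range eb).subtype ∘ₗ ρ'
  have hproj : Module.Projective R (LinearMap.range e) := by
    refine Module.Projective.of_split (LinearMap.range e).subtype e.rangeRestrict ?_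
    refine LinearMap.ext (fun x => ?_)
    obtain ⟨_, ⟨y, rfl⟩⟩ := x
    apply Subtype.ext
    change e (e y) = e y
    exact LinearMap.congr_fun he.eq y
  have hinj : ∀ z : LinearMap.range eb, π (z : N →₀ (R ⧸ I)) = 0 → z = 0 := by
    rintro ⟨_, ⟨w, rfl⟩⟩ hz
    apply Subtype.ext
    change s (π w) = 0
    have : π (s (π w)) = 0 := hz
    rw [hπs] at this
    rw [this, map_zero]
  refine ⟨LinearMap.range e, inferInstance, inferInstance, ρ, hproj, ?_, ?_⟩
  · intro n
    obtain ⟨x, hx⟩ := rangeRed_surjective (finsuppRed I N) (finsuppRed_surjective I N) e eb hc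
      ⟨s n, ⟨s n, by change s (π (s n)) = s n; rw [hπs]⟩⟩
    refine ⟨x, ?_⟩
    change π ((ρ' x : N →₀ (R ⧸ I))) = n
    rw [hx]
    exact hπs n
  · rw [← ker_rangeRed (finsuppRed I N) (ker_finsuppRed I N) e he eb hc]
    ext x
    rw [LinearMap.mem_ker, LinearMap.mem_ker]
    constructor
    · intro h
      exact hinj _ h
    · intro h
      change π ((ρ' x : N →₀ (R ⧸ I))) = 0
      have h' : ρ' x = 0 := h
      rw [h']
      exact map_zero _

end Proj
end Groth.Agent.H4.LiftMod
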