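import Mathlib
import Groth.Agent.H4.Nilp1
import Groth.Agent.H4.PCDesc2
import Groth.Agent.H4.KProj5

set_option autoImplicit false
universe u
open CategoryTheory CategoryTheory.Limits MonoidalCategory

namespace Groth.Agent.H4.Nilp

attribute [local instance] HasDerivedCategory.standard

open DerivedCategory DRing Groth.Agent.H4.LDer Groth.Agent.H4.PC Groth.Agent.H4.BC Groth.Agent.H4.TV
  Groth.Agent.H4.PCDesc

variable {R' R : Type u} [CommRing R'] [CommRing R] (φ : R' →+* R)

/-- derived base change along a surjection with nilpotent kernel detects boundedness above. -/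
theorem isLE_of_isLE_LBaseChange (hφ : Function.Surjective φ) (hnil : IsNilpotent (RingHom.ker φ))
    [DRing.HasLBaseChange φ] (K' : Dual.D R') (b : ℤ)
    (h : ((DRing.LBaseChange φ).obj K').IsLE b) : K'.IsLE b := by
  haveI : ∀ M : ModuleCat.{u} R', (Gh (tensorRight M)).HasLeftDerivedFunctor (WA R') :=
    fun M => Groth.Agent.H4.KProj.hasLeftDerivedFunctor _
  haveI : ∀ M : ModuleCat.{u} R, (Gh (tensorRight M)).HasLeftDerivedFunctor (WA R) :=
    fun M => Groth.Agent.H4.KProj.hasLeftDerivedFunctor _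
  refine isLE_of_forall_isZero K' b (fun i hi => ?_)
  have h1 : ∀ N : ModuleCat.{u} R, HV (tensorRight N) ((DRing.LBaseChange φ).obj K') i := by
    intro N
    haveI := isLE_LG (tensorRight N) ((DRing.LBaseChange φ).obj K') b
    exact isZero_of_isLE _ b i hi
  have h2 := Groth.Agent.H4.Nilp.HV_of_HV_LBaseChange φ hφ hnil K' i h1 (𝟙_ (ModuleCat.{u} R'))
  exact h2.of_iso ((homologyFunctor (ModuleCat.{u} R') i).mapIso (LGUnitIso R' K').symm)

/-- Nakayama for a surjection with nilpotent kernel. -/
theorem isZero_of_isZero_extendScalars (hφ : Function.Surjective φ)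
    (hnil : IsNilpotent (RingHom.ker φ)) (M : ModuleCat.{u} R')
    (h : IsZero ((ModuleCat.extendScalars.{u, u, u} φ).obj M)) : IsZero M := by
  obtain ⟨n, hn⟩ := hnil
  set G := ModuleCat.extendScalars.{u, u, u} φ with hG
  refine Groth.Agent.H4.NilInd.induction_of_pow_smul_eq_bot (RingHom.ker φ)
    (fun M => IsZero (G.obj M) → IsZero M) ?_ ?_ n M (by rw [hn]; exact Submodule.bot_smul _) h
  · intro M hM hz
    obtain ⟨N, ⟨eN⟩⟩ := Groth.Agent.H4.NilInd.exists_iso_restrictScalars_of_killed φ hφ M hM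
    have h0 : eN.inv = 0 := by
      apply ((ModuleCat.extendRestrictScalarsAdj.{u} φ).homEquiv M N).symm.injective
      exact hz.eq_of_src _ _
    rw [IsZero.iff_id_eq_zero, ← eN.inv_hom_id, h0, zero_comp]
  · intro S hS h₁ h₃ hz
    haveI := hS.epi_g
    haveI := hS.mono_f
    haveI : Epi (G.map S.g) := epi_extendScalars_map φ S.g
    have hz3 : IsZero S.X₃ := h₃ (IsZero.of_epi (G.map S.g) hz)
    haveI : IsIso S.f := hS.isIso_f_iff.2 hz3
    have hz1 : IsZero S.X₁ := h₁ (hz.of_iso (asIso (G.map S.f)))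
    exact hz1.of_iso (asIso S.f).symm

/-- **Pseudo-coherence descends along a surjection with nilpotent kernel.** -/
theorem isPC_of_isPC_LBaseChange (hφ : Function.Surjective φ) (hnil : IsNilpotent (RingHom.ker φ))
    [DRing.HasLBaseChange φ] (m : ℤ) (K' : Dual.D R')
    (h : IsPseudoCoherent R m ((DRing.LBaseChange φ).obj K')) : IsPseudoCoherent R' m K' :=
  Groth.Agent.H4.PCDesc.isPC_of_isPC_LBaseChange φ
    (fun K b hb => isLE_of_isLE_LBaseChange φ hφ hnil K b hb)
    (fun M hM => finite_of_finite_extendScalars φ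
      (fun Q hQ => isZero_of_isZero_extendScalars φ hφ hnil Q hQ) M hM) m K' h

end Groth.Agent.H4.Nilp
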