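import Mathlib
import Groth.Agent.H4.LiftCx6
import Groth.Agent.H4.LiftMod1
import Groth.Agent.H4.Nilp2
import Groth.Agent.H4.ResP2

set_option autoImplicit false
universe u
open CategoryTheory TensorProduct

namespace Groth.Agent.H4.LiftCx7

attribute [local instance] HasDerivedCategory.standard

open Groth.Agent.H4.ProjF Groth.Agent.H4.PCDesc Groth.Agent.H4.LiftCx Groth.Agent.H4.LiftCx3
  Groth.Agent.H4.LiftCx4 Groth.Agent.H4.LiftCx5 Groth.Agent.H4.LiftCx6 DRing DerivedCategory
  Groth.Agent.H4.LDer Groth.Agent.H4.LiftMod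

variable {R : Type u} [CommRing R] {I : Ideal R}

lemma surjective_of_nilpotent (hI : IsNilpotent I) {X Y : Type*} [AddCommGroup X] [Module R X]
    [AddCommGroup Y] [Module R Y] (f : X →ₗ[R] Y)
    (h : LinearMap.range f ⊔ I • (⊤ : Submodule R Y) = ⊤) : Function.Surjective f := by
  obtain ⟨n, hn⟩ := hI
  have key : ∀ k : ℕ, LinearMap.range f ⊔ I ^ k • (⊤ : Submodule R Y) = ⊤ := by
    intro k
    induction k with
    | zero => rw [pow_zero, Ideal.one_eq_top, Submodule.top_smul, sup_top_eq]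
    | succ k ih =>
      have h2 : I • (LinearMap.range f ⊔ I ^ k • (⊤ : Submodule R Y)) ≤
          LinearMap.range f ⊔ I ^ (k + 1) • (⊤ : Submodule R Y) := by
        rw [Submodule.smul_sup, ← Submodule.mul_smul, ← pow_succ' I k]
        exact sup_le_sup_right Submodule.smul_le_right _
      rw [ih] at h2
      exact eq_top_iff.2 (h.symm.le.trans (sup_le le_sup_left h2))
  have := key n
  rw [hn] at this
  rw [← LinearMap.range_eq_top]
  simpa using this

theorem exists_projective_lift (hI : IsNilpotent I) (N : ModuleCat.{u} (R ⧸ I))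
    [Module.Projective (R ⧸ I) N] :
    ∃ (X : ModuleCat.{u} R) (ρ : X →ₗ[R] (ResI I).obj N),
      Module.Projective R X ∧ Function.Surjective ρ ∧ LinearMap.ker ρ = I • ⊤ := by
  letI : Module (R ⧸ I) ((ResI I).obj N) := inferInstanceAs (Module (R ⧸ I) N)
  haveI : IsScalarTower R (R ⧸ I) ((ResI I).obj N) := ⟨fun r s n => by
    change (Ideal.Quotient.mk I r * s) • (n : N) = (Ideal.Quotient.mk I r) • (s • (n : N))
    rw [mul_smul]⟩
  haveI : Module.Projective (R ⧸ I) ((ResI I).obj N) := inferInstanceAs (Module.Projective (R ⧸ I) N)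
  obtain ⟨X, _, _, ρ, h1, h2, h3⟩ := exists_projective_lift_aux I hI ((ResI I).obj N)
  exact ⟨ModuleCat.of R X, ρ, h1, h2, h3⟩


lemma isLE_toD_of_vanishesAbove {A : Type u} [CommRing A] (E : Cx A) (b : ℤ) (hEb : VanishesAbove E b) :
    (toD E).IsLE b := by
  refine isLE_of_exactAt E b (fun i hi => ?_)
  rw [HomologicalComplex.exactAt_iff]
  exact ShortComplex.exact_of_isZero_X₂ _ (hEb i hi)

theorem S6970 (R : Type u) [CommRing R] (I : Ideal R)
    (hI : IsNilpotent I) [DRing.HasLBaseChange (Ideal.Quotient.mk I)] (K : Dual.D R)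
    (E : DRing.Cx (R ⧸ I)) (b : ℤ) (hEb : DRing.VanishesAbove E b)
    (hEp : ∀ i : ℤ, Module.Projective (R ⧸ I) (E.X i))
    (hE : Nonempty (DRing.toD E ≅ (DRing.LBaseChange (Ideal.Quotient.mk I)).obj K)) :
    ∃ (P : DRing.Cx R) (b' : ℤ), DRing.VanishesAbove P b' ∧ (∀ i : ℤ, Module.Projective R (P.X i)) ∧
      Nonempty (DRing.toD P ≅ K) ∧ Nonempty ((((ModuleCat.extendScalars (Ideal.Quotient.mk I)).mapHomologicalComplex (ComplexShape.up ℤ)).obj P) ≅ E) := by
  let Pc : ObjectProperty (ModuleCat.{u} R) := fun X => Module.Projective R X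
  have hP : ClassHyp I Pc := by
    refine ⟨fun X Y e h => ?_, fun X h => h, fun X Y hX hXY => ?_, fun X Y f _ _ h => ?_⟩
    · haveI : Module.Projective R X := h
      exact Module.Projective.of_equiv e.toLinearEquiv
    · haveI : Module.Projective R (X × Y) := hXY
      exact Module.Projective.of_split (LinearMap.inr R X Y) (LinearMap.snd R X Y)
        (LinearMap.ext fun _ => rfl)
    · exact surjective_of_nilpotent hI f.hom h
  have h2' : ∀ X Y : ModuleCat.{u} R, Pc X → Pc Y → Pc (ModuleCat.of R (X × Y)) := by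
    intro X Y hX hY
    haveI : Module.Projective R X := hX
    haveI : Module.Projective R Y := hY
    exact inferInstanceAs (Module.Projective R (X × Y))
  haveI : (toD E).IsLE b := isLE_toD_of_vanishesAbove E b hEb
  haveI : ((DRing.LBaseChange (Ideal.Quotient.mk I)).obj K).IsLE b :=
    TStructure.t.isLE_of_iso hE.some b
  haveI : K.IsLE b := Groth.Agent.H4.Nilp.isLE_of_isLE_LBaseChange (Ideal.Quotient.mk I)
    Ideal.Quotient.mk_surjective (by rwa [Ideal.mk_ker]) K b inferInstance
  obtain ⟨Qc, hQ, ⟨eQ⟩⟩ := Groth.Agent.H4.ResP.exists_iso_of_isLE K b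
  have hl : ∀ i, ∃ (X : ModuleCat.{u} R) (ρ : X →ₗ[R] (ResI I).obj (E.X i)),
      Module.Projective R X ∧ Function.Surjective ρ ∧ LinearMap.ker ρ = I • ⊤ := fun i => by
    haveI := hEp i
    exact exists_projective_lift hI (E.X i)
  choose X ρ hXp hρs hρk using hl
  obtain ⟨P, b', hPv, hPX, hPK, hPE⟩ := lift_general hP h2' K Qc b hQ.1
    (fun i => by haveI := hQ.2 i; exact inferInstanceAs (Module.Projective R (Qc.X i))) eQ E b hEb X hXp ρ hρs hρk hE
  refine ⟨P, b', hPv, fun i => ?_, hPK, hPE⟩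
  haveI : Module.Projective R (X i) := hXp i
  exact Module.Projective.of_equiv (hPX i).some.symm.toLinearEquiv

end Groth.Agent.H4.LiftCx7
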