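import Mathlib
import Groth.Agent.H4.LiftMod1

set_option autoImplicit false
universe u v
open TensorProduct

namespace Groth.Agent.H4.LiftMod2

open Groth.Agent.H4.LiftMod

variable {R : Type u} [CommRing R] (I : Ideal R)

theorem exists_free_lift_aux (N : Type u) [AddCommGroup N] [Module R N]
    [Module (R ⧸ I) N] [IsScalarTower R (R ⧸ I) N] [Module.Finite (R ⧸ I) N]
    [Module.Free (R ⧸ I) N] :
    ∃ (X : Type u) (_ : AddCommGroup X) (_ : Module R X) (ρ : X →ₗ[R] N),
      Module.Finite R X ∧ Module.Free R X ∧ Function.Surjective ρ ∧ LinearMap.ker ρ = I • ⊤ := by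
  let ι := Module.Free.ChooseBasisIndex (R ⧸ I) N
  let bs : Module.Basis ι (R ⧸ I) N := Module.Free.chooseBasis (R ⧸ I) N
  let ρ : (ι →₀ R) →ₗ[R] N := (bs.repr.symm.toLinearMap.restrictScalars R) ∘ₗ finsuppRed I ι
  refine ⟨ι →₀ R, inferInstance, inferInstance, ρ, inferInstance, inferInstance, ?_, ?_⟩
  · exact bs.repr.symm.surjective.comp (finsuppRed_surjective I ι)
  · rw [← ker_finsuppRed I ι]
    ext x
    rw [LinearMap.mem_ker, LinearMap.mem_ker]
    change bs.repr.symm (finsuppRed I ι x) = 0 ↔ _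
    exact bs.repr.symm.map_eq_zero_iff

section SplitKer

variable {I}
variable {G F Gb Fb : Type*} [AddCommGroup G] [Module R G] [AddCommGroup F] [Module R F]
  [AddCommGroup Gb] [Module R Gb] [AddCommGroup Fb] [Module R Fb]
  (p : G →ₗ[R] F) (s : F →ₗ[R] G) (hps : p ∘ₗ s = LinearMap.id)
  (redG : G →ₗ[R] Gb) (redF : F →ₗ[R] Fb) (hG : Function.Surjective redG)
  (hkG : LinearMap.ker redG = I • ⊤) (hkF : LinearMap.ker redF = I • ⊤)
  (pb : Gb →ₗ[R] Fb) (hc : redF ∘ₗ p = pb ∘ₗ redG)

/-- the reduction map between kernels. -/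
def kerRed : LinearMap.ker p →ₗ[R] LinearMap.ker pb :=
  (redG.domRestrict (LinearMap.ker p)).codRestrict (LinearMap.ker pb) (by
    rintro ⟨x, hx⟩
    change pb (redG x) = 0
    have := LinearMap.congr_fun hc x
    change redF (p x) = pb (redG x) at this
    rw [← this, LinearMap.mem_ker.1 hx, map_zero])

/-- the projection onto the kernel of a split surjection. -/
def kerProj : G →ₗ[R] LinearMap.ker p :=
  (LinearMap.id - s ∘ₗ p).codRestrict (LinearMap.ker p) (by
    intro x
    change p (x - s (p x)) = 0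
    have := LinearMap.congr_fun hps (p x)
    change p (s (p x)) = p x at this
    rw [map_sub, this, sub_self])

lemma kerProj_apply_ker (x : LinearMap.ker p) : kerProj p s hps (x : G) = x := by
  apply Subtype.ext
  change (x : G) - s (p x) = x
  rw [LinearMap.mem_ker.1 x.2, map_zero, sub_zero]

lemma smul_top_map_le {M M' : Type*} [AddCommGroup M] [Module R M] [AddCommGroup M'] [Module R M']
    (f : M →ₗ[R] M') {x : M} (hx : x ∈ I • (⊤ : Submodule R M)) : f x ∈ I • (⊤ : Submodule R M') := by
  have h2 : f x ∈ (I • (⊤ : Submodule R M)).map f := ⟨x, hx, rfl⟩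
  rw [Submodule.map_smul''] at h2
  exact Submodule.smul_mono (le_refl I) le_top h2

include hG hkG hkF s hps in
lemma kerRed_surjective : Function.Surjective (kerRed p redG redF pb hc) := by
  rintro ⟨w, hw⟩
  obtain ⟨y, rfl⟩ := hG w
  have h1 : redF (p y) = 0 := by
    have := LinearMap.congr_fun hc y
    change redF (p y) = pb (redG y) at this
    rw [this]; exact hw
  have h2 : p y ∈ I • (⊤ : Submodule R F) := by rw [← hkF]; exact h1
  have h3 : s (p y) ∈ LinearMap.ker redG := by rw [hkG]; exact smul_top_map_le s h2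
  refine ⟨kerProj p s hps y, Subtype.ext ?_⟩
  change redG (y - s (p y)) = redG y
  rw [map_sub, LinearMap.mem_ker.1 h3, sub_zero]

include hkG s hps in
lemma ker_kerRed : LinearMap.ker (kerRed p redG redF pb hc) = I • ⊤ := by
  apply le_antisymm
  · intro x hx0
    have h0 : redG x = 0 := congrArg Subtype.val (LinearMap.mem_ker.1 hx0)
    have h1 : (x : G) ∈ I • (⊤ : Submodule R G) := by rw [← hkG]; exact h0
    have h2 := smul_top_map_le (kerProj p s hps) h1
    rwa [kerProj_apply_ker] at h2
  · rw [Submodule.smul_le]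
    rintro a ha x -
    rw [LinearMap.mem_ker, map_smul]
    apply Subtype.ext
    change a • redG x = 0
    rw [← map_smul]
    have : a • (x : G) ∈ LinearMap.ker redG := by
      rw [hkG]; exact Submodule.smul_mem_smul ha trivial
    exact this

end SplitKer


lemma surjective_of_le_jacobson {I : Ideal R} (hI : I ≤ Ideal.jacobson ⊥) {X Y : Type*} [AddCommGroup X] [Module R X]
    [AddCommGroup Y] [Module R Y] [Module.Finite R Y] (f : X →ₗ[R] Y)
    (h : LinearMap.range f ⊔ I • (⊤ : Submodule R Y) = ⊤) : Function.Surjective f := by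
  rw [← LinearMap.range_eq_top, eq_top_iff]
  exact Submodule.le_of_le_smul_of_le_jacobson_bot Module.Finite.fg_top hI h.symm.le

theorem exists_stablyFree_lift_aux (hI : I ≤ Ideal.jacobson ⊥) (N : Type u) [AddCommGroup N]
    [Module R N] [Module (R ⧸ I) N] [IsScalarTower R (R ⧸ I) N] [Module.Finite (R ⧸ I) N]
    [Module.IsStablyFree (R ⧸ I) N] :
    ∃ (X : Type u) (_ : AddCommGroup X) (_ : Module R X) (ρ : X →ₗ[R] N),
      Module.Finite R X ∧ Module.IsStablyFree R X ∧ Function.Surjective ρ ∧
        LinearMap.ker ρ = I • ⊤ := by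
  obtain ⟨Fb, _, _, hFfin, hFfree, hNF⟩ := Module.IsStablyFree.exist_free_prod (R ⧸ I) N
  letI : Module R Fb := Module.compHom Fb (Ideal.Quotient.mk I)
  haveI : IsScalarTower R (R ⧸ I) Fb := ⟨fun r s n => by
    change (Ideal.Quotient.mk I r * s) • n = Ideal.Quotient.mk I r • (s • n)
    rw [mul_smul]⟩
  obtain ⟨F, _, _, redF, hFf, hFfr, hFs, hFk⟩ := exists_free_lift_aux I Fb
  obtain ⟨G, _, _, redG, hGf, hGfr, hGs, hGk⟩ := exists_free_lift_aux I (N × Fb)
  let pb : (N × Fb) →ₗ[R] Fb := LinearMap.snd R N Fb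
  obtain ⟨p, hp⟩ := Module.projective_lifting_property redF (pb ∘ₗ redG) hFs
  have hps : Function.Surjective p := by
    refine surjective_of_le_jacobson hI p (eq_top_iff.2 (fun f _ => ?_))
    obtain ⟨g, hg⟩ := hGs ((0 : N), redF f)
    have h1 : redF (p g) = redF f := by
      have := LinearMap.congr_fun hp g
      change redF (p g) = (redG g).2 at this
      rw [this, hg]
    have h2 : f - p g ∈ I • (⊤ : Submodule R F) := by
      rw [← hFk, LinearMap.mem_ker, map_sub, h1, sub_self]
    have : f = p g + (f - p g) := by abel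
    rw [this]
    exact Submodule.add_mem_sup ⟨g, rfl⟩ h2
  obtain ⟨s, hs⟩ := Module.projective_lifting_property p LinearMap.id hps
  let ρ' := kerRed p redG redF pb hp
  have hkerpb : ∀ z : LinearMap.ker pb, (z : N × Fb).1 = 0 → z = 0 := by
    rintro ⟨⟨n, f⟩, hz⟩ h
    have hf : f = 0 := hz
    have hn : n = 0 := h
    subst hf hn
    rfl
  let ρ : LinearMap.ker p →ₗ[R] N := LinearMap.fst R N Fb ∘ₗ (LinearMap.ker pb).subtype ∘ₗ ρ'
  let e : (LinearMap.ker p × F) ≃ₗ[R] G :=
    LinearEquiv.ofLinearMap ((LinearMap.ker p).subtype.coprod s) ((kerProj p s hs).prod p)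
      (by
        refine LinearMap.ext (fun g => ?_)
        change (g - s (p g)) + s (p g) = g
        abel)
      (by
        refine LinearMap.ext (fun x => ?_)
        obtain ⟨⟨x, hx⟩, f⟩ := x
        have h1 : p x = 0 := hx
        have h2 : p (s f) = f := LinearMap.congr_fun hs f
        refine Prod.ext (Subtype.ext ?_) ?_
        · change (x + s f) - s (p (x + s f)) = x
          rw [map_add, h1, h2, zero_add]
          abel
        · change p (x + s f) = f
          rw [map_add, h1, h2, zero_add])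
  haveI : Module.Free R (LinearMap.ker p × F) := Module.Free.of_equiv e.symm
  refine ⟨LinearMap.ker p, inferInstance, inferInstance, ρ, ?_, ?_, ?_, ?_⟩
  · refine Module.Finite.of_surjective (kerProj p s hs) (fun x => ⟨x, kerProj_apply_ker p s hs x⟩)
  · exact Module.IsStablyFree.of_free_prod R (LinearMap.ker p) F
  · intro n
    obtain ⟨x, hx⟩ := kerRed_surjective p s hs redG redF hGs hGk hFk pb hp ⟨(n, 0), rfl⟩
    refine ⟨x, ?_⟩
    change ((ρ' x : N × Fb)).1 = n
    rw [hx]
  · rw [← ker_kerRed p s hs redG redF hGk pb hp]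
    ext x
    rw [LinearMap.mem_ker, LinearMap.mem_ker]
    constructor
    · intro h
      exact hkerpb _ h
    · intro h
      change ((ρ' x : N × Fb)).1 = 0
      have h' : ρ' x = 0 := h
      rw [h']
      rfl

end Groth.Agent.H4.LiftMod2
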