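import Mathlib
import Groth.Agent.H4.LiftCx6
import Groth.Agent.H4.LiftMod2

set_option autoImplicit false
universe u
open CategoryTheory TensorProduct

namespace Groth.Agent.H4.LiftCx8

attribute [local instance] HasDerivedCategory.standard

open Groth.Agent.H4.ProjF Groth.Agent.H4.PCDesc Groth.Agent.H4.LiftCx Groth.Agent.H4.LiftCx3
  Groth.Agent.H4.LiftCx4 Groth.Agent.H4.LiftCx5 Groth.Agent.H4.LiftCx6 DRing DerivedCategory
  Groth.Agent.H4.LDer Groth.Agent.H4.LiftMod Groth.Agent.H4.LiftMod2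

variable {R : Type u} [CommRing R] {I : Ideal R}

theorem exists_lift7011 (hI : I ≤ Ideal.jacobson ⊥) (N : ModuleCat.{u} (R ⧸ I))
    (hf : Module.Finite (R ⧸ I) N) (hs : Module.IsStablyFree (R ⧸ I) N) :
    ∃ (X : ModuleCat.{u} R) (ρ : X →ₗ[R] (ResI I).obj N),
      Module.Finite R X ∧ Module.IsStablyFree R X ∧ Function.Surjective ρ ∧
        LinearMap.ker ρ = I • ⊤ ∧ (Module.Free (R ⧸ I) N → Module.Free R X) := by
  letI : Module (R ⧸ I) ((ResI I).obj N) := inferInstanceAs (Module (R ⧸ I) N)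
  haveI : IsScalarTower R (R ⧸ I) ((ResI I).obj N) := ⟨fun r s n => by
    change (Ideal.Quotient.mk I r * s) • (n : N) = (Ideal.Quotient.mk I r) • (s • (n : N))
    rw [mul_smul]⟩
  haveI : Module.Finite (R ⧸ I) ((ResI I).obj N) := inferInstanceAs (Module.Finite (R ⧸ I) N)
  haveI : Module.IsStablyFree (R ⧸ I) ((ResI I).obj N) :=
    inferInstanceAs (Module.IsStablyFree (R ⧸ I) N)
  by_cases hfree : Module.Free (R ⧸ I) N
  · haveI : Module.Free (R ⧸ I) ((ResI I).obj N) := inferInstanceAs (Module.Free (R ⧸ I) N)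
    obtain ⟨X, _, _, ρ, h1, h2, h3, h4⟩ := exists_free_lift_aux I ((ResI I).obj N)
    exact ⟨ModuleCat.of R X, ρ, h1, inferInstanceAs (Module.IsStablyFree R X), h3, h4, fun _ => h2⟩
  · obtain ⟨X, _, _, ρ, h1, h2, h3, h4⟩ := exists_stablyFree_lift_aux I hI ((ResI I).obj N)
    exact ⟨ModuleCat.of R X, ρ, h1, h2, h3, h4, fun h => absurd h hfree⟩

/-- the class of finite stably free modules -/
def PcSF (R : Type u) [CommRing R] : ObjectProperty (ModuleCat.{u} R) :=
  fun X => Module.Finite R X ∧ Module.IsStablyFree R X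

lemma pcSF_prod (X Y : ModuleCat.{u} R) (hX : PcSF R X) (hY : PcSF R Y) :
    PcSF R (ModuleCat.of R (X × Y)) := by
  obtain ⟨hXf, hXs⟩ := hX
  obtain ⟨hYf, hYs⟩ := hY
  refine ⟨inferInstanceAs (Module.Finite R (X × Y)), ?_⟩
  obtain ⟨F1, _, _, _, _, _⟩ := Module.IsStablyFree.exist_free_prod R X
  obtain ⟨F2, _, _, _, _, _⟩ := Module.IsStablyFree.exist_free_prod R Y
  let e : ((X × Y) × (F1 × F2)) ≃ₗ[R] ((X × F1) × (Y × F2)) :=
    { toFun := fun p => ((p.1.1, p.2.1), (p.1.2, p.2.2))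
      map_add' := fun _ _ => rfl
      map_smul' := fun _ _ => rfl
      invFun := fun q => ((q.1.1, q.2.1), (q.1.2, q.2.2))
      left_inv := fun _ => rfl
      right_inv := fun _ => rfl }
  haveI : Module.Free R ((X × Y) × (F1 × F2)) := Module.Free.of_equiv e.symm
  exact Module.IsStablyFree.of_free_prod R (X × Y) (F1 × F2)

lemma pcSF_cancel (X Y : ModuleCat.{u} R) (hX : PcSF R X) (hXY : PcSF R (ModuleCat.of R (X × Y))) :
    PcSF R Y := by
  obtain ⟨hXf, hXs⟩ := hX
  obtain ⟨hXYf, hXYs⟩ := hXY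
  haveI : Module.Finite R (X × Y) := hXYf
  haveI : Module.IsStablyFree R (X × Y) := hXYs
  refine ⟨Module.Finite.of_surjective (LinearMap.snd R X Y) LinearMap.snd_surjective, ?_⟩
  obtain ⟨F1, _, _, _, _, _⟩ := Module.IsStablyFree.exist_free_prod R X
  obtain ⟨F2, _, _, _, _, _⟩ := Module.IsStablyFree.exist_free_prod R (X × Y)
  let e : (Y × ((X × F1) × F2)) ≃ₗ[R] (((X × Y) × F2) × F1) :=
    { toFun := fun p => (((p.2.1.1, p.1), p.2.2), p.2.1.2)
      map_add' := fun _ _ => rfl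
      map_smul' := fun _ _ => rfl
      invFun := fun q => (q.1.1.2, ((q.1.1.1, q.2), q.1.2))
      left_inv := fun _ => rfl
      right_inv := fun _ => rfl }
  haveI : Module.Free R (Y × ((X × F1) × F2)) := Module.Free.of_equiv e.symm
  exact Module.IsStablyFree.of_free_prod R Y ((X × F1) × F2)

theorem S7011 (R : Type u) [CommRing R] (I : Ideal R)
    (hI : I ≤ Ideal.jacobson (⊥ : Ideal R)) [DRing.HasLBaseChange (Ideal.Quotient.mk I)] (K : Dual.D R)
    (hK : DRing.IsPseudoCoherent' R K) (E : DRing.Cx (R ⧸ I)) (b : ℤ) (hEb : DRing.VanishesAbove E b)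
    (hEs : ∀ i : ℤ, Module.Finite (R ⧸ I) (E.X i) ∧ Module.IsStablyFree (R ⧸ I) (E.X i))
    (hE : Nonempty (DRing.toD E ≅ (DRing.LBaseChange (Ideal.Quotient.mk I)).obj K)) :
    ∃ (P : DRing.Cx R) (b' : ℤ), DRing.VanishesAbove P b' ∧
      (∀ i : ℤ, Module.Finite R (P.X i) ∧ Module.IsStablyFree R (P.X i)) ∧
      Nonempty (DRing.toD P ≅ K) ∧ Nonempty ((((ModuleCat.extendScalars (Ideal.Quotient.mk I)).mapHomologicalComplex (ComplexShape.up ℤ)).obj P) ≅ E) ∧
      ∀ i : ℤ, Module.Free (R ⧸ I) (E.X i) → Module.Free R (P.X i) := by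
  have hP : ClassHyp I (PcSF R) := by
    refine ⟨fun X Y e h => ?_, fun X h => ?_, fun X Y hX hXY => pcSF_cancel X Y hX hXY,
      fun X Y f _ hY h => ?_⟩
    · haveI := h.1
      haveI := h.2
      exact ⟨Module.Finite.equiv e.toLinearEquiv, Module.IsStablyFree.equiv e.toLinearEquiv⟩
    · haveI := h.2
      infer_instance
    · haveI := hY.1
      exact surjective_of_le_jacobson hI f.hom h
  obtain ⟨Qc, c, hQc, hQ, ⟨eQ⟩⟩ := hK
  have hl := fun i => exists_lift7011 hI (E.X i) (hEs i).1 (hEs i).2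
  choose X ρ hXf hXs hρs hρk hXfree using hl
  obtain ⟨P, b', hPv, hPX, hPK, hPE⟩ := lift_general hP pcSF_prod K Qc c hQc
    (fun i => by
      haveI := (hQ i).1
      haveI := (hQ i).2
      exact ⟨inferInstance, inferInstance⟩) eQ E b hEb X (fun i => ⟨hXf i, hXs i⟩) ρ hρs hρk hE
  refine ⟨P, b', hPv, fun i => ?_, hPK, hPE, fun i hfr => ?_⟩
  · haveI := hXf i
    haveI := hXs i
    exact ⟨Module.Finite.equiv (hPX i).some.symm.toLinearEquiv,
      Module.IsStablyFree.equiv (hPX i).some.symm.toLinearEquiv⟩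
  · haveI := hXfree i hfr
    exact Module.Free.of_equiv (hPX i).some.symm.toLinearEquiv

end Groth.Agent.H4.LiftCx8
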