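import Mathlib
import Groth.Agent.H4.LiftMod2
import Groth.Agent.Lib.Helper8.HensPair.EndLift
import Groth.Agent.Lib.Helper8.HensPair.Proj

set_option autoImplicit false
universe u v
open TensorProduct

namespace Groth.Agent.H4.LiftMod3

open Groth.Agent.H4.LiftMod Groth.Agent.H4.LiftMod2

variable {R : Type u} [CommRing R] {I : Ideal R}

section General

variable {F Fb N : Type*} [AddCommGroup F] [Module R F] [AddCommGroup Fb] [Module R Fb]
  [AddCommGroup N] [Module R N]
  (red : F →ₗ[R] Fb) (hs : Function.Surjective red) (hk : LinearMap.ker red = I • ⊤)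
  (π : Fb →ₗ[R] N) (s : N →ₗ[R] Fb) (hπs : ∀ n, π (s n) = n)
  (e : Module.End R F) (he : IsIdempotentElem e) (hc : red ∘ₗ e = (s ∘ₗ π) ∘ₗ red)

/-- the reduction map from the image of an idempotent lift. -/
def idemRed : LinearMap.range e →ₗ[R] N := π ∘ₗ red ∘ₗ (LinearMap.range e).subtype

include hs hπs hc in
lemma idemRed_surjective : Function.Surjective (idemRed red π e) := by
  intro n
  obtain ⟨y, hy⟩ := hs (s n)
  refine ⟨⟨e y, ⟨y, rfl⟩⟩, ?_⟩
  change π (red (e y)) = n
  have h1 : red (e y) = s (π (red y)) := LinearMap.congr_fun hc y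
  rw [h1, hy, hπs, hπs]

include hk he hc in
lemma ker_idemRed : LinearMap.ker (idemRed red π e) = I • ⊤ := by
  apply le_antisymm
  · rintro ⟨x, hx⟩ hx0
    have h0 : π (red x) = 0 := hx0
    have hex : e x = x := by
      obtain ⟨y, rfl⟩ := hx
      exact LinearMap.congr_fun he.eq y
    have h1 : red x = 0 := by
      have h2 : red (e x) = s (π (red x)) := LinearMap.congr_fun hc x
      rw [hex, h0, map_zero] at h2
      exact h2
    have h3 : x ∈ I • (⊤ : Submodule R F) := by rw [← hk]; exact h1
    have h4 := smul_top_map_le (I := I) e.rangeRestrict h3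
    have h5 : e.rangeRestrict x = ⟨x, hx⟩ := Subtype.ext hex
    rwa [h5] at h4
  · rw [Submodule.smul_le]
    rintro a ha x -
    rw [LinearMap.mem_ker, map_smul]
    change a • π (red x) = 0
    rw [← map_smul, ← map_smul]
    have : a • (x : F) ∈ LinearMap.ker red := by
      rw [hk]; exact Submodule.smul_mem_smul ha trivial
    rw [LinearMap.mem_ker.1 this, map_zero]

include he in
lemma projective_range [Module.Projective R F] : Module.Projective R (LinearMap.range e) := by
  refine Module.Projective.of_split (LinearMap.range e).subtype e.rangeRestrict ?_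
  refine LinearMap.ext (fun x => ?_)
  obtain ⟨_, ⟨y, rfl⟩⟩ := x
  apply Subtype.ext
  change e (e y) = e y
  exact LinearMap.congr_fun he.eq y

lemma finite_range [Module.Finite R F] : Module.Finite R (LinearMap.range e) :=
  Module.Finite.of_surjective e.rangeRestrict (LinearMap.surjective_rangeRestrict e)

end General

variable (I)

theorem exists_finiteProjective_lift_aux [HenselianRing R I] (N : Type u) [AddCommGroup N]
    [Module R N] [Module (R ⧸ I) N] [IsScalarTower R (R ⧸ I) N] [Module.Finite (R ⧸ I) N]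
    [Module.Projective (R ⧸ I) N] :
    ∃ (X : Type u) (_ : AddCommGroup X) (_ : Module R X) (ρ : X →ₗ[R] N),
      Module.Finite R X ∧ Module.Projective R X ∧ Function.Surjective ρ ∧
        LinearMap.ker ρ = I • ⊤ := by
  obtain ⟨n, f, g, hf, hg, hfg⟩ := Module.Finite.exists_comp_eq_id_of_projective (R ⧸ I) N
  let F := Fin n → R
  let φ : ((R ⧸ I) ⊗[R] F) ≃ₗ[R ⧸ I] (Fin n → (R ⧸ I)) :=
    TensorProduct.piScalarRight R (R ⧸ I) (R ⧸ I) (Fin n)
  let π' : ((R ⧸ I) ⊗[R] F) →ₗ[R ⧸ I] N := f ∘ₗ φ.toLinearMap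
  let s' : N →ₗ[R ⧸ I] ((R ⧸ I) ⊗[R] F) := φ.symm.toLinearMap ∘ₗ g
  have hπs : ∀ n, π' (s' n) = n := by
    intro n
    change f (φ (φ.symm (g n))) = n
    rw [LinearEquiv.apply_symm_apply]
    exact LinearMap.congr_fun hfg n
  let eb : Module.End (R ⧸ I) ((R ⧸ I) ⊗[R] F) := s' ∘ₗ π'
  have heb : IsIdempotentElem eb := by
    refine LinearMap.ext (fun x => ?_)
    change s' (π' (s' (π' x))) = s' (π' x)
    rw [hπs]
  obtain ⟨e, he, hbc⟩ := Groth.Agent.H8.HensPair.exists_idempotent_end I F eb heb
  let red : F →ₗ[R] ((R ⧸ I) ⊗[R] F) := TensorProduct.mk R (R ⧸ I) F 1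
  have hreds : Function.Surjective red := Groth.Agent.H8.HensPair.mk_one_surjective I F
  have hredk : LinearMap.ker red = I • ⊤ := Groth.Agent.H8.HensPair.ker_mk_one I F
  have hc : red ∘ₗ e = ((s'.restrictScalars R) ∘ₗ (π'.restrictScalars R)) ∘ₗ red := by
    refine LinearMap.ext (fun x => ?_)
    change (1 : R ⧸ I) ⊗ₜ[R] (e x) = eb ((1 : R ⧸ I) ⊗ₜ[R] x)
    rw [← hbc, LinearMap.baseChange_tmul]
  refine ⟨LinearMap.range e, inferInstance, inferInstance,
    idemRed red (π'.restrictScalars R) e, finite_range e, projective_range e he,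
    idemRed_surjective red hreds (π'.restrictScalars R) (s'.restrictScalars R) hπs e hc,
    ker_idemRed red hredk (π'.restrictScalars R) (s'.restrictScalars R) e he hc⟩

end Groth.Agent.H4.LiftMod3
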