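import Mathlib
import Groth.Agent.H4.LiftCx6
import Groth.Agent.H4.LiftMod3

set_option autoImplicit false
universe u
open CategoryTheory TensorProduct

namespace Groth.Agent.H4.LiftCx9

attribute [local instance] HasDerivedCategory.standard

open Groth.Agent.H4.ProjF Groth.Agent.H4.PCDesc Groth.Agent.H4.LiftCx Groth.Agent.H4.LiftCx3
  Groth.Agent.H4.LiftCx4 Groth.Agent.H4.LiftCx5 Groth.Agent.H4.LiftCx6 DRing DerivedCategory
  Groth.Agent.H4.LDer Groth.Agent.H4.LiftMod Groth.Agent.H4.LiftMod2 Groth.Agent.H4.LiftMod3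

variable {R : Type u} [CommRing R] {I : Ideal R}

theorem exists_lift6973 [HenselianRing R I] (N : ModuleCat.{u} (R ⧸ I))
    (hf : Module.Finite (R ⧸ I) N) (hs : Module.Projective (R ⧸ I) N) :
    ∃ (X : ModuleCat.{u} R) (ρ : X →ₗ[R] (ResI I).obj N),
      Module.Finite R X ∧ Module.Projective R X ∧ Function.Surjective ρ ∧
        LinearMap.ker ρ = I • ⊤ ∧ (Module.Free (R ⧸ I) N → Module.Free R X) := by
  letI : Module (R ⧸ I) ((ResI I).obj N) := inferInstanceAs (Module (R ⧸ I) N)
  haveI : IsScalarTower R (R ⧸ I) ((ResI I).obj N) := ⟨fun r s n => by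
    change (Ideal.Quotient.mk I r * s) • (n : N) = (Ideal.Quotient.mk I r) • (s • (n : N))
    rw [mul_smul]⟩
  haveI : Module.Finite (R ⧸ I) ((ResI I).obj N) := inferInstanceAs (Module.Finite (R ⧸ I) N)
  haveI : Module.Projective (R ⧸ I) ((ResI I).obj N) :=
    inferInstanceAs (Module.Projective (R ⧸ I) N)
  by_cases hfree : Module.Free (R ⧸ I) N
  · haveI : Module.Free (R ⧸ I) ((ResI I).obj N) := inferInstanceAs (Module.Free (R ⧸ I) N)
    obtain ⟨X, _, _, ρ, h1, h2, h3, h4⟩ := exists_free_lift_aux I ((ResI I).obj N)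
    exact ⟨ModuleCat.of R X, ρ, h1, inferInstanceAs (Module.Projective R X), h3, h4, fun _ => h2⟩
  · obtain ⟨X, _, _, ρ, h1, h2, h3, h4⟩ := exists_finiteProjective_lift_aux I ((ResI I).obj N)
    exact ⟨ModuleCat.of R X, ρ, h1, h2, h3, h4, fun h => absurd h hfree⟩

/-- the class of finite projective modules -/
def PcFP (R : Type u) [CommRing R] : ObjectProperty (ModuleCat.{u} R) :=
  fun X => Module.Finite R X ∧ Module.Projective R X

theorem S6973 (R : Type u) [CommRing R]
    (I : Ideal R) [HenselianRing R I] [DRing.HasLBaseChange (Ideal.Quotient.mk I)] (K : Dual.D R)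
    (hK : DRing.IsPseudoCoherent' R K) (E : DRing.Cx (R ⧸ I)) (b : ℤ) (hEb : DRing.VanishesAbove E b)
    (hEp : DRing.TermwiseFiniteProjective E)
    (hE : Nonempty (DRing.toD E ≅ (DRing.LBaseChange (Ideal.Quotient.mk I)).obj K)) :
    ∃ (P : DRing.Cx R) (b' : ℤ), DRing.VanishesAbove P b' ∧ DRing.TermwiseFiniteProjective P ∧
      Nonempty (DRing.toD P ≅ K) ∧ Nonempty ((((ModuleCat.extendScalars (Ideal.Quotient.mk I)).mapHomologicalComplex (ComplexShape.up ℤ)).obj P) ≅ E) ∧
      ∀ i : ℤ, Module.Free (R ⧸ I) (E.X i) → Module.Free R (P.X i) := by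
  have hI : I ≤ Ideal.jacobson ⊥ := HenselianRing.jac
  have hP : ClassHyp I (PcFP R) := by
    refine ⟨fun X Y e h => ?_, fun X h => h.2, fun X Y hX hXY => ?_,
      fun X Y f _ hY h => ?_⟩
    · haveI := h.1
      haveI := h.2
      exact ⟨Module.Finite.equiv e.toLinearEquiv, Module.Projective.of_equiv e.toLinearEquiv⟩
    · haveI : Module.Finite R (X × Y) := hXY.1
      haveI : Module.Projective R (X × Y) := hXY.2
      exact ⟨Module.Finite.of_surjective (LinearMap.snd R X Y) LinearMap.snd_surjective,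
        Module.Projective.of_split (LinearMap.inr R X Y) (LinearMap.snd R X Y)
          (LinearMap.ext fun _ => rfl)⟩
    · haveI := hY.1
      exact surjective_of_le_jacobson hI f.hom h
  have h2' : ∀ X Y : ModuleCat.{u} R, PcFP R X → PcFP R Y → PcFP R (ModuleCat.of R (X × Y)) := by
    intro X Y hX hY
    haveI := hX.1
    haveI := hX.2
    haveI := hY.1
    haveI := hY.2
    exact ⟨inferInstanceAs (Module.Finite R (X × Y)), inferInstanceAs (Module.Projective R (X × Y))⟩
  obtain ⟨Qc, c, hQc, hQ, ⟨eQ⟩⟩ := hK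
  have hl := fun i => exists_lift6973 (I := I) (E.X i) (hEp i).1 (hEp i).2
  choose X ρ hXf hXs hρs hρk hXfree using hl
  obtain ⟨P, b', hPv, hPX, hPK, hPE⟩ := lift_general hP h2' K Qc c hQc
    (fun i => by
      haveI := (hQ i).1
      haveI := (hQ i).2
      exact ⟨inferInstance, inferInstance⟩) eQ E b hEb X (fun i => ⟨hXf i, hXs i⟩) ρ hρs hρk hE
  refine ⟨P, b', hPv, fun i => ?_, hPK, hPE, fun i hfr => ?_⟩
  · haveI := hXf i
    haveI := hXs i
    exact ⟨Module.Finite.equiv (hPX i).some.symm.toLinearEquiv,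
      Module.Projective.of_equiv (hPX i).some.symm.toLinearEquiv⟩
  · haveI := hXfree i hfr
    exact Module.Free.of_equiv (hPX i).some.symm.toLinearEquiv

end Groth.Agent.H4.LiftCx9
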