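import Mathlib
import Groth.Prelude.Def_FlatCA

open Matrix Polynomial

universe u

namespace Groth.Agent.H4.LimProj

theorem exists_seq {X : ℕ → Type*} (R : ∀ n, X n → X (n + 1) → Prop) (x0 : X 0)
    (h : ∀ n x, ∃ y, R n x y) : ∃ s : ∀ n, X n, s 0 = x0 ∧ ∀ n, R n (s n) (s (n + 1)) := by
  classical
  choose f hf using h
  exact ⟨fun n => Nat.rec x0 (fun k x => f k x) n, rfl, fun n => hf n _⟩

theorem end_nilpotent {R : Type*} [CommRing R] {N : Type*} [AddCommGroup N] [Module R N]
    [Module.Finite R N] (I : Ideal R) (hI : ∀ x ∈ I, IsNilpotent x) (θ : Module.End R N)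
    (hθ : ∀ x, θ x ∈ I • (⊤ : Submodule R N)) : IsNilpotent θ := by
  obtain ⟨p, hmonic, -, hcoeff, hp⟩ :=
    LinearMap.exists_monic_and_natDegree_eq_and_coeff_mem_pow_and_aeval_eq_zero R θ I
      (by rintro _ ⟨x, rfl⟩; exact hθ x)
  have hq : IsNilpotent (p - X ^ p.natDegree) := by
    rw [Polynomial.isNilpotent_iff]
    intro k
    rcases lt_trichotomy k p.natDegree with hk | hk | hk
    · have : (p - X ^ p.natDegree).coeff k = p.coeff k := by
        rw [coeff_sub, coeff_X_pow, if_neg hk.ne, sub_zero]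
      rw [this]
      exact hI _ (Ideal.pow_le_self (by omega) (hcoeff k))
    · have : (p - X ^ p.natDegree).coeff k = 0 := by
        rw [coeff_sub, coeff_X_pow, if_pos hk, hk, hmonic.coeff_natDegree, sub_self]
      rw [this]; exact IsNilpotent.zero
    · have : (p - X ^ p.natDegree).coeff k = 0 := by
        rw [coeff_sub, coeff_X_pow, if_neg hk.ne', coeff_eq_zero_of_natDegree_lt hk, sub_zero]
      rw [this]; exact IsNilpotent.zero
  have h2 : IsNilpotent (aeval θ (p - X ^ p.natDegree)) := hq.map (aeval θ)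
  rw [map_sub, hp, zero_sub, map_pow, aeval_X] at h2
  have h3 : IsNilpotent (θ ^ p.natDegree) := by simpa using h2.neg
  obtain ⟨m, hm⟩ := h3
  exact ⟨p.natDegree * m, by rw [pow_mul, hm]⟩

theorem mem_smul_top_pi {R : Type*} [CommRing R] (I : Ideal R) {r : ℕ} (v : Fin r → R) :
    v ∈ I • (⊤ : Submodule R (Fin r → R)) ↔ ∀ i, v i ∈ I := by
  constructor
  · intro h
    refine Submodule.smul_induction_on h (fun a ha n _ i => ?_) (fun x y hx hy i => ?_)
    · simpa using I.mul_mem_right _ ha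
    · exact I.add_mem (hx i) (hy i)
  · intro h
    rw [pi_eq_sum_univ v]
    exact Submodule.sum_mem _ fun i _ => Submodule.smul_mem_smul (h i) Submodule.mem_top

theorem matrix_nilpotent {R : Type*} [CommRing R] (I : Ideal R) (hI : ∀ x ∈ I, IsNilpotent x)
    {r : ℕ} (Y : Matrix (Fin r) (Fin r) R) (hY : ∀ i j, Y i j ∈ I) : IsNilpotent Y := by
  have h := end_nilpotent I hI (Matrix.toLinAlgEquiv' Y) (fun v => by
    rw [mem_smul_top_pi]; intro i
    rw [Matrix.toLinAlgEquiv'_apply]
    simp only [Matrix.mulVec, dotProduct]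
    exact Ideal.sum_mem _ fun j _ => I.mul_mem_right _ (hY i j))
  obtain ⟨m, hm⟩ := h
  refine ⟨m, ?_⟩
  apply (Matrix.toLinAlgEquiv' (R := R) (n := Fin r)).injective
  rw [map_pow, hm, map_zero]

theorem core {R : Type u} [CommRing R] (I : Ideal R) (hI : ∀ x ∈ I, IsNilpotent x)
    {N M : Type u} [AddCommGroup N] [Module R N] [Module.Free R N] [Module.Finite R N]
    [AddCommGroup M] [Module R M] [Module.Flat R M]
    (g : N →ₗ[R] M) (hg : Function.Surjective g) (e : N →ₗ[R] N) (hee : ∀ x, e (e x) = e x)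
    (hge : ∀ x, g (e x) = g x)
    (hK : ∀ x, g x = 0 → e x = x → x ∈ I • (⊤ : Submodule R N)) :
    ∀ x, g x = 0 → e x = 0 := by
  intro x hx
  have hx' : g (e x) = 0 := by rw [hge, hx]
  obtain ⟨k, a, y, hya, hax⟩ := Module.Flat.exists_factorization_of_apply_eq_zero_of_free hx'
  obtain ⟨y', hy'⟩ := Module.projective_lifting_property g y hg
  have hy'' : ∀ w, g (y' w) = y w := fun w => LinearMap.congr_fun hy' w
  have hya' : ∀ v, g v = y (a v) := fun v => LinearMap.congr_fun hya v
  let θ : Module.End R N := e ∘ₗ (LinearMap.id - y' ∘ₗ a)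
  have hθv : ∀ v, θ v = e (v - y' (a v)) := fun v => rfl
  have hθK : ∀ v, θ v ∈ I • (⊤ : Submodule R N) := by
    intro v
    apply hK
    · rw [hθv, hge, map_sub, hy'', hya' v, sub_self]
    · rw [hθv]; exact hee _
  have hθx : θ (e x) = e x := by
    rw [hθv, hax, map_zero, sub_zero, hee]
  obtain ⟨m, hm⟩ := end_nilpotent I hI θ hθK
  have hall : ∀ j : ℕ, (θ ^ j) (e x) = e x := by
    intro j
    induction j with
    | zero => simp
    | succ j ih => rw [pow_succ, Module.End.mul_apply, hθx, ih]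
  rw [← hall m, hm]; simp

theorem tower_surj (n : ℕ) : ∀ {L : Type u} (X : ℕ → Type u) (t : ∀ n, X (n + 1) → X n)
    (π : ∀ n, L → X n) (_ : ∀ n, Function.Surjective (t n))
    (_ : ∀ n a, t n (π (n + 1) a) = π n a)
    (_ : ∀ x : ∀ n, X n, (∀ n, t n (x (n + 1)) = x n) → ∃ a : L, ∀ n, π n a = x n),
    Function.Surjective (π n) := by
  induction n with
  | zero =>
    intro L X t π ht hc hex y
    obtain ⟨s, hs0, hs⟩ := exists_seq (X := X) (fun n a b => t n b = a) y (fun n x => ht n x)
    obtain ⟨a, ha⟩ := hex s hs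
    exact ⟨a, by rw [ha 0, hs0]⟩
  | succ n ih =>
    intro L X t π ht hc hex
    refine ih (fun k => X (k + 1)) (fun k => t (k + 1)) (fun k => π (k + 1))
      (fun k => ht (k + 1)) (fun k a => hc (k + 1) a) ?_
    intro x hx
    obtain ⟨a, ha⟩ := hex (fun k => Nat.casesOn k (t 0 (x 0)) (fun j => x j)) (by
      intro k
      cases k with
      | zero => rfl
      | succ j => exact hx j)
    exact ⟨a, fun k => ha (k + 1)⟩

theorem step {R' R : Type u} [CommRing R'] [CommRing R] (t : R' →+* R)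
    (ht : Function.Surjective t) (hnil : ∀ x, t x = 0 → IsNilpotent x)
    {M' M : Type u} [AddCommGroup M'] [Module R' M'] [AddCommGroup M] [Module R M]
    [Module.Finite R' M'] [Module.Flat R' M']
    (u : M' →ₛₗ[t] M) (hu : Function.Surjective u)
    (hker : LinearMap.ker u = RingHom.ker t • (⊤ : Submodule R' M'))
    {r : ℕ} (E : Matrix (Fin r) (Fin r) R) (g : (Fin r → R) →ₗ[R] M)
    (hE : IsIdempotentElem E) (hgE : ∀ v, g (E *ᵥ v) = g v) (hg : Function.Surjective g)
    (hinj : ∀ v, g v = 0 → E *ᵥ v = 0) :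
    ∃ (E' : Matrix (Fin r) (Fin r) R') (g' : (Fin r → R') →ₗ[R'] M'),
      IsIdempotentElem E' ∧ (∀ v, g' (E' *ᵥ v) = g' v) ∧ Function.Surjective g' ∧
      (∀ v, g' v = 0 → E' *ᵥ v = 0) ∧ t.mapMatrix E' = E ∧
      ∀ v, u (g' v) = g (fun i => t (v i)) := by
  classical
  have hI : ∀ x ∈ RingHom.ker t, IsNilpotent x := fun x hx => hnil x hx
  -- lift the idempotent
  have hkerM : ∀ Y ∈ RingHom.ker (t.mapMatrix (m := Fin r)), IsNilpotent Y := by
    intro Y hY
    apply matrix_nilpotent (RingHom.ker t) hI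
    intro i j
    have := congrFun (congrFun hY i) j
    simpa using this
  have hErange : E ∈ (t.mapMatrix (m := Fin r)).range := by
    refine ⟨Matrix.of fun i j => (ht (E i j)).choose, ?_⟩
    ext i j
    simp [(ht (E i j)).choose_spec]
  obtain ⟨E', hE', hE'E⟩ := exists_isIdempotentElem_eq_of_ker_isNilpotent _ hkerM E hErange hE
  have hmv : ∀ v : Fin r → R', (fun i => t ((E' *ᵥ v) i)) = E *ᵥ (fun i => t (v i)) := by
    intro v
    ext i
    rw [RingHom.map_mulVec, ← hE'E]
    rfl
  -- lift images of the basis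
  choose m hm using fun j : Fin r => hu (g (fun k => if j = k then 1 else 0))
  let ψ : (Fin r → R') →ₗ[R'] M' := Fintype.linearCombination R' m
  have hψ : ∀ v, u (ψ v) = g (fun i => t (v i)) := by
    intro v
    rw [LinearMap.pi_apply_eq_sum_univ g]
    show u (Fintype.linearCombination R' m v) = _
    rw [Fintype.linearCombination_apply, map_sum]
    refine Finset.sum_congr rfl fun i _ => ?_
    rw [map_smulₛₗ, hm]
  let g' : (Fin r → R') →ₗ[R'] M' := ψ ∘ₗ (Matrix.toLin' E')
  have hg'v : ∀ v, g' v = ψ (E' *ᵥ v) := fun v => by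
    show ψ (Matrix.toLin' E' v) = _
    rw [Matrix.toLin'_apply]
  have hcompat : ∀ v, u (g' v) = g (fun i => t (v i)) := by
    intro v
    rw [hg'v, hψ, hmv, hgE]
  have hg'E : ∀ v, g' (E' *ᵥ v) = g' v := by
    intro v
    rw [hg'v, hg'v, Matrix.mulVec_mulVec, hE'.eq]
  have hjac : RingHom.ker t ≤ Ideal.jacobson ⊥ := by
    intro x hx
    have h1 : x ∈ nilradical R' := mem_nilradical.mpr (hI x hx)
    exact Ideal.radical_le_jacobson h1
  have hsurj : Function.Surjective g' := by
    have hle : (⊤ : Submodule R' M') ≤ LinearMap.range g' := by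
      apply Submodule.le_of_le_smul_of_le_jacobson_bot Module.Finite.fg_top hjac
      intro m' _
      obtain ⟨y, hy⟩ := hg (u m')
      choose v hv using fun i => ht (y i)
      have h1 : u (m' - g' v) = 0 := by
        rw [map_sub, hcompat]
        have : (fun i => t (v i)) = y := funext hv
        rw [this, hy, sub_self]
      have h2 : m' - g' v ∈ RingHom.ker t • (⊤ : Submodule R' M') := by
        rw [← hker]; exact h1
      rw [Submodule.mem_sup]
      exact ⟨g' v, ⟨v, rfl⟩, m' - g' v, h2, by abel⟩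
    intro m'
    exact hle (Submodule.mem_top (x := m'))
  have hinj' : ∀ v, g' v = 0 → E' *ᵥ v = 0 := by
    have := core (RingHom.ker t) hI g' hsurj (Matrix.toLin' E')
      (fun x => by rw [Matrix.toLin'_apply, Matrix.toLin'_apply, Matrix.mulVec_mulVec, hE'.eq])
      (fun x => by rw [Matrix.toLin'_apply]; exact hg'E x)
      (fun x hx hex => by
        rw [Matrix.toLin'_apply] at hex
        rw [mem_smul_top_pi]
        intro i
        have h1 : g (fun i => t (x i)) = 0 := by rw [← hcompat, hx, map_zero]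
        have h2 := hinj _ h1
        rw [← hmv, hex] at h2
        exact congrFun h2 i)
    intro v hv
    have := this v hv
    rwa [Matrix.toLin'_apply] at this
  exact ⟨E', g', hE', hg'E, hsurj, hinj', hE'E, hcompat⟩

theorem main (A : Type u) [CommRing A] (An : ℕ → Type u)
    [∀ n, CommRing (An n)] (t : ∀ n, An (n + 1) →+* An n) (π : ∀ n, A →+* An n)
    (ht : ∀ n, Function.Surjective (t n)) (hnil : ∀ n (x : An (n + 1)), t n x = 0 → IsNilpotent x)
    (hA : FlatCA.IsRingLimit A An t π)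
    (M : ℕ → Type u) [∀ n, AddCommGroup (M n)] [∀ n, Module (An n) (M n)] (u : ∀ n, M (n + 1) →ₛₗ[t n] M n)
    [Module.Projective (An 0) (M 0)] (hfin : ∀ n, Module.Finite (An n) (M n)) (hflat : ∀ n, Module.Flat (An n) (M n))
    (hu : ∀ n, Function.Surjective (u n) ∧ LinearMap.ker (u n) = RingHom.ker (t n) • (⊤ : Submodule (An (n + 1)) (M (n + 1)))) :
    ∃ (P : Type u) (_ : AddCommGroup P) (_ : Module A P) (p : ∀ n, P →ₛₗ[π n] M n),
      Module.Finite A P ∧ Module.Projective A P ∧ (∀ n (x : P), u n (p (n + 1) x) = p n x) ∧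
      (∀ n, Function.Surjective (p n) ∧ LinearMap.ker (p n) = RingHom.ker (π n) • (⊤ : Submodule A P)) ∧
      (∀ x : (∀ n, M n), (∀ n, u n (x (n + 1)) = x n) → ∃! q : P, ∀ n, p n q = x n) := by
  classical
  obtain ⟨hcomp, hinjA, hexA⟩ := hA
  have hcomp' : ∀ n a, t n (π (n + 1) a) = π n a := fun n a => RingHom.congr_fun (hcomp n) a
  haveI := hfin 0
  obtain ⟨r, f0, hf0⟩ := Module.Finite.exists_fin' (An 0) (M 0)
  obtain ⟨s0, hs0⟩ := Module.projective_lifting_property f0 LinearMap.id hf0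
  have hs0' : ∀ m, f0 (s0 m) = m := fun m => LinearMap.congr_fun hs0 m
  have key : ∃ (E : ∀ n, Matrix (Fin r) (Fin r) (An n)) (g : ∀ n, (Fin r → An n) →ₗ[An n] M n),
      (∀ n, IsIdempotentElem (E n)) ∧ (∀ n v, g n (E n *ᵥ v) = g n v) ∧
      (∀ n, Function.Surjective (g n)) ∧ (∀ n v, g n v = 0 → E n *ᵥ v = 0) ∧
      (∀ n, (t n).mapMatrix (E (n + 1)) = E n) ∧
      (∀ n v, u n (g (n + 1) v) = g n (fun i => t n (v i))) := by
    let X : ℕ → Type u := fun n =>
      {p : Matrix (Fin r) (Fin r) (An n) × ((Fin r → An n) →ₗ[An n] M n) //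
        IsIdempotentElem p.1 ∧ (∀ v, p.2 (p.1 *ᵥ v) = p.2 v) ∧ Function.Surjective p.2 ∧
          (∀ v, p.2 v = 0 → p.1 *ᵥ v = 0)}
    let Rel : ∀ n, X n → X (n + 1) → Prop := fun n p q =>
      (t n).mapMatrix q.1.1 = p.1.1 ∧ ∀ v, u n (q.1.2 v) = p.1.2 (fun i => t n (v i))
    have x0 : X 0 := ⟨(LinearMap.toMatrix' (s0 ∘ₗ f0), f0), by
        show LinearMap.toMatrix' (s0 ∘ₗ f0) * LinearMap.toMatrix' (s0 ∘ₗ f0) = _
        rw [← LinearMap.toMatrix'_comp]
        refine congrArg _ (LinearMap.ext fun v => ?_)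
        show s0 (f0 (s0 (f0 v))) = s0 (f0 v)
        rw [hs0'], by
        intro v
        show f0 (LinearMap.toMatrix' (s0 ∘ₗ f0) *ᵥ v) = f0 v
        rw [LinearMap.toMatrix'_mulVec]
        show f0 (s0 (f0 v)) = f0 v
        rw [hs0'], hf0, by
        intro v hv
        show LinearMap.toMatrix' (s0 ∘ₗ f0) *ᵥ v = 0
        rw [LinearMap.toMatrix'_mulVec]
        show s0 (f0 v) = 0
        rw [hv, map_zero]⟩
    have hstep : ∀ n (p : X n), ∃ q : X (n + 1), Rel n p q := by
      intro n p
      haveI := hfin (n + 1)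
      haveI := hflat (n + 1)
      obtain ⟨E', g', h1, h2, h3, h4, h5, h6⟩ := step (t n) (ht n) (hnil n) (u n) (hu n).1 (hu n).2
        p.1.1 p.1.2 p.2.1 p.2.2.1 p.2.2.2.1 p.2.2.2.2
      exact ⟨⟨(E', g'), h1, h2, h3, h4⟩, h5, h6⟩
    obtain ⟨s, -, hs⟩ := exists_seq Rel x0 hstep
    exact ⟨fun n => (s n).1.1, fun n => (s n).1.2, fun n => (s n).2.1, fun n => (s n).2.2.1,
      fun n => (s n).2.2.2.1, fun n => (s n).2.2.2.2, fun n => (hs n).1, fun n => (hs n).2⟩
  obtain ⟨E, g, hEid, hgE, hgsurj, hginj, hEt, hgu⟩ := key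
  have hEcompat : ∀ i j n, t n (E (n + 1) i j) = E n i j := by
    intro i j n
    have := congrFun (congrFun (hEt n) i) j
    simpa using this
  choose a ha using fun i j => hexA (fun n => E n i j) (hEcompat i j)
  let Ê : Matrix (Fin r) (Fin r) A := Matrix.of a
  have hÊ : ∀ n, (π n).mapMatrix Ê = E n := by
    intro n; ext i j; simp [Ê, ha]
  have hÊid : IsIdempotentElem Ê := by
    show Ê * Ê = Ê
    ext i j
    apply hinjA
    intro n
    have h1 : π n ((Ê * Ê) i j) = ((π n).mapMatrix (Ê * Ê)) i j := by simp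
    have h2 : π n (Ê i j) = ((π n).mapMatrix Ê) i j := by simp
    rw [h1, h2, map_mul, hÊ, (hEid n).eq]
  have hπmv : ∀ n (v : Fin r → A),
      (fun i => π n ((Ê *ᵥ v) i)) = E n *ᵥ (fun i => π n (v i)) := by
    intro n v
    ext i
    rw [RingHom.map_mulVec, ← hÊ]
    rfl
  have htmv : ∀ n (v : Fin r → An (n + 1)),
      (fun i => t n ((E (n + 1) *ᵥ v) i)) = E n *ᵥ (fun i => t n (v i)) := by
    intro n v
    ext i
    rw [RingHom.map_mulVec, ← hEt n]
    rfl
  let e : (Fin r → A) →ₗ[A] (Fin r → A) := Matrix.toLin' Ê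
  have he : ∀ v, e v = Ê *ᵥ v := fun v => Matrix.toLin'_apply _ _
  have hee : ∀ v, Ê *ᵥ (Ê *ᵥ v) = Ê *ᵥ v := fun v => by rw [Matrix.mulVec_mulVec, hÊid.eq]
  let P : Submodule A (Fin r → A) := LinearMap.range e
  have hPmem : ∀ x : P, Ê *ᵥ (x : Fin r → A) = x := by
    rintro ⟨_, ⟨v, rfl⟩⟩
    show Ê *ᵥ (e v) = e v
    rw [he, hee]
  let p : ∀ n, P →ₛₗ[π n] M n := fun n =>
    { toFun := fun x => g n (fun i => π n ((x : Fin r → A) i))
      map_add' := fun x y => by
        rw [← (g n).map_add]; congr 1; ext i; simp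
      map_smul' := fun c x => by
        rw [← (g n).map_smul]; congr 1; ext i; simp }
  have hp : ∀ n (x : P), p n x = g n (fun i => π n ((x : Fin r → A) i)) := fun n x => rfl
  have hπsurj : ∀ n, Function.Surjective (π n) := fun n =>
    tower_surj n An (fun k => t k) (fun k => π k) ht hcomp' hexA
  refine ⟨P, inferInstance, inferInstance, p, ?_, ?_, ?_, ?_, ?_⟩
  · exact Module.Finite.range e
  · refine Module.Projective.of_split P.subtype (e.rangeRestrict) ?_
    refine LinearMap.ext fun x => Subtype.ext ?_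
    show e (x : Fin r → A) = x
    rw [he, hPmem]
  · intro n x
    rw [hp, hp, hgu]
    congr 1
    ext i
    exact hcomp' n _
  · intro n
    refine ⟨?_, ?_⟩
    · intro y
      obtain ⟨w, hw⟩ := hgsurj n y
      choose v hv using fun i => hπsurj n (w i)
      refine ⟨⟨e v, ⟨v, rfl⟩⟩, ?_⟩
      rw [hp]
      show g n (fun i => π n ((e v) i)) = y
      rw [he, hπmv, hgE]
      have : (fun i => π n (v i)) = w := funext hv
      rw [this, hw]
    · apply le_antisymm
      · intro x hx
        rw [LinearMap.mem_ker, hp] at hx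
        have h1 := hginj n _ hx
        rw [← hπmv n (x : Fin r → A), hPmem] at h1
        have hxi : ∀ i, (x : Fin r → A) i ∈ RingHom.ker (π n) := fun i => congrFun h1 i
        have hx2 : x = ∑ i, ((x : Fin r → A) i) •
            (⟨e (fun j => if i = j then 1 else 0), ⟨_, rfl⟩⟩ : P) := by
          apply Subtype.ext
          simp only [Submodule.coe_sum, Submodule.coe_smul]
          rw [← LinearMap.pi_apply_eq_sum_univ e, he, hPmem]
        rw [hx2]
        exact Submodule.sum_mem _ fun i _ => Submodule.smul_mem_smul (hxi i) Submodule.mem_top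
      · rw [Submodule.smul_le]
        intro c hc q _
        rw [LinearMap.mem_ker, map_smulₛₗ, (RingHom.mem_ker).mp hc, zero_smul]
  · intro x hx
    choose w' hw' using fun n => hgsurj n (x n)
    let w : ∀ n, Fin r → An n := fun n => E n *ᵥ w' n
    have hw : ∀ n, g n (w n) = x n := fun n => by
      show g n (E n *ᵥ w' n) = x n
      rw [hgE, hw']
    have hEw : ∀ n, E n *ᵥ w n = w n := fun n => by
      show E n *ᵥ (E n *ᵥ w' n) = E n *ᵥ w' n
      rw [Matrix.mulVec_mulVec, (hEid n).eq]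
    have hwc : ∀ n, (fun i => t n (w (n + 1) i)) = w n := by
      intro n
      have h1 : g n ((fun i => t n (w (n + 1) i)) - w n) = 0 := by
        rw [map_sub, ← hgu, hw, hx, hw, sub_self]
      have h2 := hginj n _ h1
      rw [Matrix.mulVec_sub, hEw n, ← htmv n (w (n + 1)), hEw (n + 1)] at h2
      exact sub_eq_zero.mp h2
    choose q hq using fun i => hexA (fun n => w n i) (fun n => congrFun (hwc n) i)
    have hqw : ∀ n, (fun i => π n (q i)) = w n := fun n => funext fun i => hq i n
    have hqP : Ê *ᵥ q = q := by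
      ext i
      apply hinjA
      intro n
      have h3 : π n ((Ê *ᵥ q) i) = (E n *ᵥ fun i => π n (q i)) i := congrFun (hπmv n q) i
      rw [h3, hqw, hEw, hq]
    refine ⟨⟨q, ⟨q, by rw [he, hqP]⟩⟩, ?_, ?_⟩
    · intro n
      rw [hp]
      show g n (fun i => π n (q i)) = x n
      rw [hqw, hw]
    · intro q' hq'
      apply Subtype.ext
      ext i
      apply hinjA
      intro n
      have h1 : g n ((fun i => π n ((q' : Fin r → A) i)) - (fun i => π n (q i))) = 0 := by
        rw [map_sub]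
        have h4 := hq' n
        rw [hp] at h4
        rw [h4, hqw, hw, sub_self]
      have h2 := hginj n _ h1
      rw [Matrix.mulVec_sub, ← hπmv n (q' : Fin r → A), ← hπmv n q, hPmem q', hqP] at h2
      exact congrFun (sub_eq_zero.mp h2) i

end Groth.Agent.H4.LimProj
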