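import Mathlib
import Groth.Agent.H4.PCHom3
import Groth.Agent.H4.FibPerf

set_option autoImplicit false
universe u
open CategoryTheory CategoryTheory.Limits
attribute [local instance] HasDerivedCategory.standard
open DRing

namespace Groth.Agent.H4.LocRelPC
open Groth.Agent.H4.PCHom Groth.Agent.H4.PC Groth.Agent.H4.RelPC DerivedCategory
  Groth.Agent.H4.RestrPC Groth.Agent.H4.PCHom3 Polynomial

variable {P : Type u} [CommRing P]

lemma isSMulRegular_C_mul_X_sub_one (p : P) : IsSMulRegular P[X] (C p * X - 1) := by
  intro q q' h
  rw [← sub_eq_zero]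
  have h0 : (C p * X - 1) * (q - q') = 0 := by
    have : (C p * X - 1) * q = (C p * X - 1) * q' := h
    rw [mul_sub, this, sub_self]
  set d := q - q' with hd
  ext k
  rw [Polynomial.coeff_zero]
  induction k with
  | zero =>
    have := congrArg (fun r => Polynomial.coeff r 0) h0
    simp only [sub_mul, one_mul, mul_assoc, Polynomial.coeff_sub, Polynomial.coeff_C_mul,
      Polynomial.coeff_zero] at this
    rw [Polynomial.coeff_X_mul_zero, mul_zero, zero_sub, neg_eq_zero] at this
    exact this
  | succ k ih =>
    have := congrArg (fun r => Polynomial.coeff r (k + 1)) h0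
    simp only [sub_mul, one_mul, mul_assoc, Polynomial.coeff_sub, Polynomial.coeff_C_mul,
      Polynomial.coeff_zero, Polynomial.coeff_X_mul] at this
    rw [ih, mul_zero, zero_sub, neg_eq_zero] at this
    exact this

/-- `P[X] → P_p`, `X ↦ 1/p`. -/
noncomputable def rho (p : P) : P[X] →+* Localization.Away p :=
  (Localization.awayEquivAdjoin p).symm.toRingEquiv.toRingHom.comp (AdjoinRoot.mk (C p * X - 1))

lemma isPCHom_rho (p : P) : IsPCHom (rho p) :=
  (isPCHom_quotient_of_regular _ _ (isSMulRegular_C_mul_X_sub_one p)).comp
    (isPCHom_of_ringEquiv (Localization.awayEquivAdjoin p).symm.toRingEquiv)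

lemma rho_surjective (p : P) : Function.Surjective (rho p) :=
  (Localization.awayEquivAdjoin p).symm.surjective.comp AdjoinRoot.mk_surjective

lemma rho_C (p c : P) : rho p (C c) = algebraMap P (Localization.Away p) c := by
  change (Localization.awayEquivAdjoin p).symm (AdjoinRoot.mk _ (C c)) = _
  rw [AdjoinRoot.mk_C, ← AdjoinRoot.algebraMap_eq, AlgEquiv.commutes]

lemma rho_comp_C (p : P) : (rho p).comp (C : P →+* P[X]) = algebraMap P (Localization.Away p) :=
  RingHom.ext (rho_C p)

section BC
open Groth.Agent.H4.BCSq Groth.Agent.H4.LDer Groth.Agent.H4.BC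
variable (R S A B : Type u) [CommRing R] [CommRing S] [CommRing A] [CommRing B]
  [Algebra R S] [Algebra R A] [Algebra R B] [Algebra S B] [Algebra A B]
  [IsScalarTower R S B] [IsScalarTower R A B] [Algebra.IsPushout R S A B]

/-- flat base change for a pushout square, on complexes (termwise extension of scalars). -/
noncomputable def bcIsoCx [Module.Flat R S] [DRing.HasLBaseChange (algebraMap R S)] (X : Cx A) :
    (restrictD (algebraMap S B)).obj
        (toD ((GC (ModuleCat.extendScalars.{u, u, u} (algebraMap A B))).obj X)) ≅
      (DRing.LBaseChange (algebraMap R S)).obj ((restrictD (algebraMap R A)).obj (toD X)) :=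
  (ModuleCat.restrictScalars.{u} (algebraMap S B)).mapDerivedCategoryFactors.app _ ≪≫
    Q.mapIso (tauCx R S A B X).symm ≪≫
    (isoOfFlatMap (algebraMap R S) ((RingHom.flat_algebraMap_iff).2 inferInstance) _).symm ≪≫
    (DRing.LBaseChange (algebraMap R S)).mapIso
      ((ModuleCat.restrictScalars.{u} (algebraMap R A)).mapDerivedCategoryFactors.app X).symm

end BC

section Loc
open Groth.Agent.H4.BCSq Groth.Agent.H4.LDer Groth.Agent.H4.BC Groth.Agent.H4.PCDesc
variable {P A : Type u} [CommRing P] [CommRing A] [Algebra P A] (p : P) (a : A)
  (ha : algebraMap P A p = a)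

include ha in
lemma isUnit_aux : IsUnit (algebraMap P (Localization.Away a) p) := by
  rw [IsScalarTower.algebraMap_apply P A (Localization.Away a), ha]
  exact IsLocalization.Away.algebraMap_isUnit a

/-- the induced map of localizations `P_p → A_a`. -/
noncomputable def locMap : Localization.Away p →+* Localization.Away a :=
  IsLocalization.Away.lift p (isUnit_aux p a ha)

lemma locMap_comp : (locMap p a ha).comp (algebraMap P (Localization.Away p)) =
    algebraMap P (Localization.Away a) :=
  IsLocalization.Away.lift_comp p (isUnit_aux p a ha)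

lemma isPushout_loc :
    letI := (locMap p a ha).toAlgebra
    haveI : IsScalarTower P (Localization.Away p) (Localization.Away a) :=
      IsScalarTower.of_algebraMap_eq' (locMap_comp p a ha).symm
    Algebra.IsPushout P (Localization.Away p) A (Localization.Away a) := by
  letI := (locMap p a ha).toAlgebra
  haveI : IsScalarTower P (Localization.Away p) (Localization.Away a) :=
    IsScalarTower.of_algebraMap_eq' (locMap_comp p a ha).symm
  haveI : IsLocalization.Away (algebraMap P A p) (Localization.Away a) := by
    rw [ha]; infer_instance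
  exact (Algebra.isPushout_of_isLocalization (Submonoid.powers p) (Localization.Away p) A
    (Localization.Away a)).symm

lemma locMap_surjective (hs : Function.Surjective (algebraMap P A)) :
    Function.Surjective (locMap p a ha) := by
  intro z
  obtain ⟨⟨x, ⟨_, k, rfl⟩⟩, hz⟩ := IsLocalization.surj (Submonoid.powers a) z
  obtain ⟨q, rfl⟩ := hs x
  have h1 : locMap p a ha (algebraMap P (Localization.Away p) q) =
      algebraMap A (Localization.Away a) (algebraMap P A q) := by
    have := congrArg (fun f => f q) (locMap_comp p a ha)
    simpa [← IsScalarTower.algebraMap_apply] using this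
  have h2 : locMap p a ha (IsLocalization.Away.invSelf p) * algebraMap A (Localization.Away a) a
      = 1 := by
    have h3 : locMap p a ha (algebraMap P (Localization.Away p) p) =
        algebraMap A (Localization.Away a) a := by
      have := congrArg (fun f => f p) (locMap_comp p a ha)
      simpa [← IsScalarTower.algebraMap_apply, ← ha] using this
    rw [← h3, ← map_mul, mul_comm, IsLocalization.Away.mul_invSelf, map_one]
  refine ⟨algebraMap P (Localization.Away p) q * IsLocalization.Away.invSelf p ^ k, ?_⟩
  have hu : IsUnit (algebraMap A (Localization.Away a) a ^ k) :=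
    (IsLocalization.Away.algebraMap_isUnit a).pow k
  refine hu.mul_left_injective ?_
  dsimp only
  simp only [map_pow] at hz
  rw [hz, map_mul, map_pow, h1, mul_assoc, ← mul_pow, h2, one_pow, mul_one]

attribute [local instance] Groth.Agent.H4.FibPerf.instHasLBC

theorem isPC_loc_iff (X : Cx A) (m : ℤ) :
    IsPseudoCoherent (Localization.Away p) m ((restrictD (locMap p a ha)).obj
      (toD ((GC (ModuleCat.extendScalars.{u, u, u} (algebraMap A (Localization.Away a)))).obj X))) ↔
    IsPseudoCoherent (Localization.Away p) m
      ((DRing.LBaseChange (algebraMap P (Localization.Away p))).obj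
        ((restrictD (algebraMap P A)).obj (toD X))) := by
  letI := (locMap p a ha).toAlgebra
  haveI : IsScalarTower P (Localization.Away p) (Localization.Away a) :=
    IsScalarTower.of_algebraMap_eq' (locMap_comp p a ha).symm
  haveI := isPushout_loc p a ha
  have i := bcIsoCx P (Localization.Away p) A (Localization.Away a) X
  exact ⟨isPC_of_iso i, isPC_of_iso i.symm⟩

end Loc

section Rel
open Groth.Agent.H4.BCSq Groth.Agent.H4.LDer Groth.Agent.H4.BC Groth.Agent.H4.PCDesc
variable {R A : Type u} [CommRing R] [CommRing A] [Algebra R A] {n : ℕ}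
  (α : MvPolynomial (Fin n) R →ₐ[R] A) (hα : Function.Surjective α)
  (p : MvPolynomial (Fin n) R) (a : A) (ha : α p = a)

attribute [local instance] Groth.Agent.H4.FibPerf.instHasLBC

include hα ha in
theorem relPC_away_iff (X : Cx A) (m : ℤ) :
    DerCA.IsRelPseudoCoherent R (Localization.Away a) m
      (toD ((GC (ModuleCat.extendScalars.{u, u, u} (algebraMap A (Localization.Away a)))).obj X)) ↔
    IsPseudoCoherent (Localization.Away p) m
      ((DRing.LBaseChange (algebraMap (MvPolynomial (Fin n) R) (Localization.Away p))).obj
        ((restrictD (α : MvPolynomial (Fin n) R →+* A)).obj (toD X))) := by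
  letI : Algebra (MvPolynomial (Fin n) R) A := (α : MvPolynomial (Fin n) R →+* A).toAlgebra
  have ha' : algebraMap (MvPolynomial (Fin n) R) A p = a := ha
  have hs : Function.Surjective (algebraMap (MvPolynomial (Fin n) R) A) := hα
  let ψ : (MvPolynomial (Fin n) R)[X] →ₐ[R] Localization.Away a :=
    { (locMap p a ha').comp (rho p) with
      commutes' := fun r => by
        change locMap p a ha' (rho p (C (algebraMap R (MvPolynomial (Fin n) R) r))) = _
        rw [rho_C]
        have := congrArg (fun f => f (algebraMap R (MvPolynomial (Fin n) R) r)) (locMap_comp p a ha')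
        refine this.trans ?_
        rw [IsScalarTower.algebraMap_apply (MvPolynomial (Fin n) R) A (Localization.Away a)]
        change algebraMap A (Localization.Away a) (α (algebraMap R _ r)) = _
        rw [α.commutes, ← IsScalarTower.algebraMap_apply] }
  have hψ : Function.Surjective ψ := (locMap_surjective p a ha' hs).comp (rho_surjective p)
  rw [relPC_iff_of_equiv (MvPolynomial.finSuccEquiv R n) ψ hψ _ m]
  refine Iff.trans ?_ (isPC_loc_iff p a ha' X m)
  rw [← (isPCHom_rho p).isPC_iff m]
  have i := restrictDComp (rho p) (locMap p a ha')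
    (toD ((GC (ModuleCat.extendScalars.{u, u, u} (algebraMap A (Localization.Away a)))).obj X))
  exact ⟨isPC_of_iso i, isPC_of_iso i.symm⟩

end Rel

end Groth.Agent.H4.LocRelPC
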