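import Mathlib
import Groth.Prelude.Def_Conn
import Groth.Prelude.Def_LogDiff
import Groth.Prelude.Def_W4swconnpcurvhiggsLogLam
import Groth.Agent.Lib.Helper9.Misc.LogConnPiece

set_option autoImplicit false
set_option linter.unusedSectionVars false
set_option linter.unusedVariables false
set_option linter.style.haveILetI false

universe v u
open TensorProduct Set.powersetCard

namespace Groth.Agent.H4.LogLayer

open Groth.Agent.H9.LogConnPiece

section Expansion
variable {B N E : Type u} [CommRing B] [AddCommGroup N] [Module B N] [AddCommGroup E]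
  [Module B E]

/-- coordinate of `E ⊗ N` along a basis vector of `N`. -/
noncomputable def tcoord {κ : Type*} (b : Module.Basis κ B N) (k : κ) : E ⊗[B] N →ₗ[B] E :=
  (TensorProduct.rid B E).toLinearMap ∘ₗ TensorProduct.map LinearMap.id (b.coord k)

theorem tcoord_tmul {κ : Type*} (b : Module.Basis κ B N) (k : κ) (e : E) (x : N) :
    tcoord b k (e ⊗ₜ[B] x) = b.coord k x • e := by
  simp [tcoord]

theorem expand {κ : Type*} [Fintype κ] (b : Module.Basis κ B N) (y : E ⊗[B] N) :
    y = ∑ k, tcoord b k y ⊗ₜ[B] b k := by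
  induction y using TensorProduct.induction_on with
  | zero => simp
  | tmul e x =>
    conv_lhs => rw [← b.sum_repr x]
    rw [TensorProduct.tmul_sum]
    refine Finset.sum_congr rfl (fun k _ => ?_)
    rw [tcoord_tmul, TensorProduct.tmul_smul, TensorProduct.smul_tmul']
    rfl
  | add y₁ y₂ h₁ h₂ =>
    conv_lhs => rw [h₁, h₂]
    rw [← Finset.sum_add_distrib]
    refine Finset.sum_congr rfl (fun k _ => ?_)
    rw [map_add, TensorProduct.add_tmul]

end Expansion

section Main
variable {A : Type v} {B L E : Type u} [CommRing A] [CommRing B]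
    [Algebra A B] [AddCommGroup L] [Module B L] [Module A L] [IsScalarTower A B L]
    [AddCommGroup E] [Module B E] [Module A E] [IsScalarTower A B E]
variable (lam : B) {n : ℕ} (t : Fin n → B)
    (bΩ : Module.Basis (Fin n) B (KaehlerDifferential A B))
    (hbΩ : ∀ i, bΩ i = KaehlerDifferential.D A B (t i))
    (ω : Module.Basis (Fin n) B L) (ι : KaehlerDifferential A B →ₗ[B] L)
    (hι : ∀ i, ι (KaehlerDifferential.D A B (t i)) = t i • ω i)
    (nabla : E →ₗ[A] E ⊗[B] L)
    (hc : Conn.IsLamConn (ι.compDer (KaehlerDifferential.D A B)) lam nabla)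
    (d : ∀ p : ℕ, ↥(⋀[B]^p L) →ₗ[A] ↥(⋀[B]^(p + 1) L))
    (hd : LogDiff.IsLogRule (KaehlerDifferential.D A B) ι (⇑ω) d)
    (nablas : ∀ p : ℕ, E ⊗[B] ↥(⋀[B]^p L) →ₗ[A] E ⊗[B] ↥(⋀[B]^(p + 1) L))
    (hint : Conn.IsIntegrable nabla (fun p => lam • d p) nablas)

theorem comp_eq (i : Fin n) (e : E) : LogConn.comp nabla ω i e = tcoord ω i (nabla e) := rfl

theorem nabla_expand (e : E) : nabla e = ∑ i, LogConn.comp nabla ω i e ⊗ₜ[B] ω i :=
  expand ω (nabla e)

include hd in
theorem d_basis (p : ℕ) (f : Fin p → Fin n) :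
    d p (exteriorPower.ιMulti B p (ω ∘ f)) = 0 := by
  have h := hd p 1 (ω ∘ f) (fun k => Or.inr ⟨f k, rfl⟩)
  rw [one_smul] at h
  rw [h]
  have h1 : (KaehlerDifferential.D A B) (1 : B) = 0 := Derivation.map_one_eq_zero _
  rw [h1, map_zero]
  exact (exteriorPower.ιMulti B (p + 1)).map_coord_zero 0 (by simp)

theorem wedge_basis (p : ℕ) (a : L) (v : Fin p → L) :
    Conn.wedge p ((exteriorPower.oneEquiv B L).symm a) (exteriorPower.ιMulti B p v) =
      exteriorPower.ιMulti B (p + 1) (Fin.cons a v) := by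
  apply Subtype.ext
  rw [Conn.wedge_apply_coe, exteriorPower.oneEquiv_symm_apply]
  simp only [exteriorPower.ιMulti_apply_coe]
  rw [ExteriorAlgebra.ιMulti_succ_apply (R := B) (Fin.cons a v),
    ExteriorAlgebra.ιMulti_succ_apply (R := B) (fun _ : Fin 1 => a),
    ExteriorAlgebra.ιMulti_zero_apply, mul_one]
  congr 1

include hd hint in
theorem nablas_basis (p : ℕ) (m : E) (f : Fin p → Fin n) :
    nablas p (m ⊗ₜ[B] exteriorPower.ιMulti B p (ω ∘ f)) =
      ∑ i, LogConn.comp nabla ω i m ⊗ₜ[B]
        exteriorPower.ιMulti B (p + 1) (ω ∘ (Fin.cons i f : Fin (p + 1) → Fin n)) := by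
  rw [hint.1 p m _]
  have h0 : (lam • d p) (exteriorPower.ιMulti B p (ω ∘ f)) = 0 := by
    rw [LinearMap.smul_apply, d_basis ω ι d hd p f, smul_zero]
  rw [h0, tmul_zero, add_zero, nabla_expand ω nabla m, map_sum, map_sum, LinearMap.sum_apply]
  refine Finset.sum_congr rfl (fun i _ => ?_)
  rw [Conn.toOne_tmul, Conn.twedge_tmul, wedge_basis, Fin.comp_cons]

theorem coord_basis (q : ℕ) (K' : Set.powersetCard (Fin n) q) (g : Fin q → Fin n) :
    (ω.exteriorPower q).coord K' (exteriorPower.ιMulti B q (ω ∘ g)) =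
      (Matrix.of fun a j => if g a = ofFinEmbEquiv.symm K' j then (1 : B) else 0).det := by
  rw [exteriorPower.basis_coord B q ω K', exteriorPower.ιMultiDual_apply_ιMulti]
  congr 1
  ext a j
  simp only [Matrix.of_apply, Function.comp_apply, Module.Basis.coord_apply,
    Module.Basis.repr_self, Finsupp.single_apply]

theorem coord_basis_int (q : ℕ) (K' : Set.powersetCard (Fin n) q) (g : Fin q → Fin n) :
    ∃ z : ℤ, (ω.exteriorPower q).coord K' (exteriorPower.ιMulti B q (ω ∘ g)) = (z : B) := by
  refine ⟨(Matrix.of fun a j => if g a = ofFinEmbEquiv.symm K' j then (1 : ℤ) else 0).det, ?_⟩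
  rw [coord_basis]
  have h := RingHom.map_det (Int.castRingHom B)
    (Matrix.of fun a j => if g a = ofFinEmbEquiv.symm K' j then (1 : ℤ) else 0)
  rw [eq_intCast] at h
  rw [h]
  congr 1
  ext a j
  simp [RingHom.mapMatrix_apply]

theorem coord_basis_zero (q : ℕ) (K' : Set.powersetCard (Fin n) q) (g : Fin q → Fin n)
    (j : Fin q) (h : ∀ a, g a ≠ ofFinEmbEquiv.symm K' j) :
    (ω.exteriorPower q).coord K' (exteriorPower.ιMulti B q (ω ∘ g)) = 0 := by
  rw [coord_basis]
  apply Matrix.det_eq_zero_of_column_eq_zero j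
  intro a
  simp [h a]

theorem coord_smul_mem (p : ℕ) (S : Submodule A E) (m : E) (i : Fin n)
    (K : Set.powersetCard (Fin n) p) (K' : Set.powersetCard (Fin n) (p + 1))
    (h : i ∉ K.val → K'.val = insert i K.val → m ∈ S) :
    ((ω.exteriorPower (p + 1)).coord K' (exteriorPower.ιMulti B (p + 1)
      (ω ∘ (Fin.cons i (ofFinEmbEquiv.symm K) : Fin (p + 1) → Fin n)))) • m ∈ S := by
  by_cases hcase : i ∉ K.val ∧ K'.val = insert i K.val
  · obtain ⟨z, hz⟩ := coord_basis_int ω (p + 1) K'
      (Fin.cons i (ofFinEmbEquiv.symm K) : Fin (p + 1) → Fin n)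
    rw [hz, Int.cast_smul_eq_zsmul]
    exact zsmul_mem (h hcase.1 hcase.2) z
  · have hex : ∃ k ∈ K'.val, k ∉ insert i K.val := by
      by_contra hcon
      push Not at hcon
      have hsub : K'.val ⊆ insert i K.val := hcon
      have hcard : (insert i K.val).card ≤ K'.val.card := by
        have h1 : K'.val.card = p + 1 := Set.powersetCard.card_eq K'
        have h2 : K.val.card = p := Set.powersetCard.card_eq K
        rw [h1]
        exact (Finset.card_insert_le _ _).trans (by rw [h2])
      have heq := Finset.eq_of_subset_of_card_le hsub hcard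
      refine hcase ⟨?_, heq⟩
      intro hiK
      rw [Finset.insert_eq_of_mem hiK] at heq
      have h3 := congrArg Finset.card heq
      have h1 : K'.val.card = p + 1 := Set.powersetCard.card_eq K'
      have h2 : K.val.card = p := Set.powersetCard.card_eq K
      omega
    obtain ⟨k, hkK', hk⟩ := hex
    obtain ⟨j, hj⟩ := (mem_range_ofFinEmbEquiv_symm_iff_mem K' k).2 hkK'
    rw [coord_basis_zero ω (p + 1) K' _ j ?_, zero_smul]
    · exact S.zero_mem
    · intro a
      rw [hj]
      refine Fin.cases ?_ (fun a' => ?_) a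
      · rw [Fin.cons_zero]; rintro rfl; exact hk (Finset.mem_insert_self _ _)
      · rw [Fin.cons_succ]; intro h'
        apply hk; rw [← h']
        exact Finset.mem_insert_of_mem
          ((mem_range_ofFinEmbEquiv_symm_iff_mem K _).1 ⟨a', rfl⟩)

include hd hint in
theorem comm_aux (m : E) (K' : Set.powersetCard (Fin n) 2) :
    LogConn.comp nabla ω (ofFinEmbEquiv.symm K' 0)
        (LogConn.comp nabla ω (ofFinEmbEquiv.symm K' 1) m) =
      LogConn.comp nabla ω (ofFinEmbEquiv.symm K' 1)
        (LogConn.comp nabla ω (ofFinEmbEquiv.symm K' 0) m) := by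
  have h0 := hint.2 m
  rw [nabla_expand ω nabla m, map_sum] at h0
  have e1 : ∀ j, Conn.toOne (LogConn.comp nabla ω j m ⊗ₜ[B] ω j) =
      LogConn.comp nabla ω j m ⊗ₜ[B]
        exteriorPower.ιMulti B 1 (ω ∘ (fun _ : Fin 1 => j)) := by
    intro j
    rw [Conn.toOne_tmul, exteriorPower.oneEquiv_symm_apply]
    rfl
  simp only [e1] at h0
  rw [map_sum] at h0
  simp only [nablas_basis lam ω ι nabla d hd nablas hint] at h0
  have h1 := congrArg (tcoord (ω.exteriorPower 2) K') h0
  rw [map_zero, map_sum] at h1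
  simp only [map_sum, tcoord_tmul, coord_basis, Matrix.det_fin_two, Matrix.of_apply,
    Fin.cons_zero, Fin.cons_one] at h1
  simp only [sub_smul, Finset.sum_sub_distrib, ite_mul, one_mul, zero_mul, ite_smul, one_smul,
    zero_smul, Finset.sum_ite_eq', Finset.mem_univ, if_true] at h1
  exact sub_eq_zero.1 h1

include hd hint in
theorem comp_comm (a b : Fin n) (m : E) :
    LogConn.comp nabla ω a (LogConn.comp nabla ω b m) =
      LogConn.comp nabla ω b (LogConn.comp nabla ω a m) := by
  by_cases hab : a = b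
  · subst hab; rfl
  · obtain ⟨K', hK'⟩ : ∃ K' : Set.powersetCard (Fin n) 2, K'.val = {a, b} :=
      ⟨Set.powersetCard.ofCard (Finset.card_pair hab), rfl⟩
    have h := comm_aux lam ω ι nabla d hd nablas hint m K'
    have ha' : ofFinEmbEquiv.symm K' 0 ∈ K'.val :=
      (mem_range_ofFinEmbEquiv_symm_iff_mem K' _).1 ⟨0, rfl⟩
    have hb' : ofFinEmbEquiv.symm K' 1 ∈ K'.val :=
      (mem_range_ofFinEmbEquiv_symm_iff_mem K' _).1 ⟨1, rfl⟩
    have hne : ofFinEmbEquiv.symm K' 0 ≠ ofFinEmbEquiv.symm K' 1 := by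
      intro h'
      have := (ofFinEmbEquiv.symm K').injective h'
      simp at this
    rw [hK', Finset.mem_insert, Finset.mem_singleton] at ha' hb'
    rcases ha' with h1 | h1 <;> rcases hb' with h2 | h2
    · exact absurd (h1.trans h2.symm) hne
    · rw [h1, h2] at h; exact h
    · rw [h1, h2] at h; exact h.symm
    · exact absurd (h1.trans h2.symm) hne

theorem compProd_insert'
    (hcomm : ∀ (a b : Fin n) (m : E), LogConn.comp nabla ω a (LogConn.comp nabla ω b m) =
      LogConn.comp nabla ω b (LogConn.comp nabla ω a m))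
    (i : Fin n) (J : Finset (Fin n)) (hi : i ∉ J) :
    LogConn.compProd nabla ω (insert i J) =
      LogConn.comp nabla ω i ∘ₗ LogConn.compProd nabla ω J := by
  unfold LogConn.compProd
  have hperm : ((insert i J).sort (· ≤ ·)).Perm (i :: J.sort (· ≤ ·)) := by
    apply List.perm_of_nodup_nodup_toFinset_eq (Finset.sort_nodup _ _) ?_ ?_
    · rw [List.nodup_cons]
      exact ⟨by rw [Finset.mem_sort]; exact hi, Finset.sort_nodup _ _⟩
    · rw [Finset.sort_toFinset, List.toFinset_cons, Finset.sort_toFinset]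
  rw [List.Perm.foldr_eq' hperm ?_ LinearMap.id]
  · rfl
  · intro x _ y _ z
    ext e
    exact hcomm y x (z e)

include hbΩ hι hc in
theorem comp_piece_mem'
    (hcomm : ∀ (a b : Fin n) (m : E), LogConn.comp nabla ω a (LogConn.comp nabla ω b m) =
      LogConn.comp nabla ω b (LogConn.comp nabla ω a m))
    (j : Fin n) (J : Finset (Fin n)) (hjJ : j ∉ J) (y : E)
    (hy : y ∈ LogConn.piece nabla ω t J) :
    LogConn.comp nabla ω j y ∈ LogConn.piece nabla ω t (insert j J) := by
  have h : LogConn.piece nabla ω t J ≤ (LogConn.piece nabla ω t (insert j J)).comap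
      (LogConn.comp nabla ω j) := by
    apply piece_le
    intro K hK e
    rw [Submodule.mem_comap]
    have hjK : j ∉ J \ K := fun h => hjJ (Finset.mem_sdiff.mp h).1
    rw [comp_prod_smul lam t bΩ hbΩ ω ι hι nabla hc j (J \ K) hjK]
    have e1 : J \ K = insert j J \ insert j K := by
      rw [Finset.insert_sdiff_insert, Finset.sdiff_insert_of_notMem hjJ]
    have e2 : LogConn.comp nabla ω j (LogConn.compProd nabla ω K e) =
        LogConn.compProd nabla ω (insert j K) e := by
      rw [compProd_insert' ω nabla hcomm j K (fun hx => hjJ (hK hx))]; rfl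
    rw [e1, e2]
    exact gen_mem t ω nabla (insert j J) (insert j K) (Finset.insert_subset_insert j hK) e
  exact h hy

include hbΩ hι hc hd hint in
theorem main (p : ℕ) (x : E ⊗[B] ↥(⋀[B]^p L)) (hx : x ∈ LogConn.layer nabla ω t p) :
    nablas p x ∈ LogConn.layer nabla ω t (p + 1) := by
  have hcomm := comp_comm lam ω ι nabla d hd nablas hint
  unfold LogConn.layer at hx ⊢
  rw [Submodule.mem_iInf] at hx ⊢
  intro K'
  rw [Submodule.mem_comap]
  have hxe : nablas p x = ∑ K, nablas p (tcoord (ω.exteriorPower p) K x ⊗ₜ[B]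
      exteriorPower.ιMulti B p (ω ∘ (ofFinEmbEquiv.symm K))) := by
    conv_lhs => rw [expand (ω.exteriorPower p) x]
    rw [map_sum]
    refine Finset.sum_congr rfl (fun K _ => ?_)
    rw [exteriorPower.basis_apply]
    rfl
  rw [hxe, map_sum]
  refine Submodule.sum_mem _ (fun K _ => ?_)
  have hxK : tcoord (ω.exteriorPower p) K x ∈ LogConn.piece nabla ω t K.val := hx K
  rw [nablas_basis lam ω ι nabla d hd nablas hint, map_sum]
  refine Submodule.sum_mem _ (fun i _ => ?_)
  show tcoord (ω.exteriorPower (p + 1)) K' (_ ⊗ₜ[B] _) ∈ _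
  rw [tcoord_tmul]
  apply coord_smul_mem
  intro hiK hK'
  rw [hK']
  exact comp_piece_mem' lam t bΩ hbΩ ω ι hι nabla hc hcomm i K.val hiK _ hxK

end Main
end Groth.Agent.H4.LogLayer
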