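import Mathlib
import Groth.Prelude.Def_Conn
import Groth.Prelude.Def_LogDiff
import Groth.Prelude.Def_W4swconnpcurvhiggsLogLam
import Groth.Agent.Lib.Helper9.Misc.LogConnPiece
import Groth.Agent.H4.LogLayer

set_option autoImplicit false
set_option linter.unusedSectionVars false
set_option linter.unusedVariables false
set_option linter.style.haveILetI false

universe v u
open TensorProduct Set.powersetCard

namespace Groth.Agent.H4.LogLayerB

open Groth.Agent.H9.LogConnPiece Groth.Agent.H4.LogLayer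

section Generic
variable {A : Type v} {B L E : Type u} [CommRing A] [CommRing B]
    [Algebra A B] [AddCommGroup L] [Module B L] [Module A L] [IsScalarTower A B L]
    [AddCommGroup E] [Module B E] [Module A E] [IsScalarTower A B E]
variable (lam : B) {n : ℕ} (t : Fin n → B)
    (bΩ : Module.Basis (Fin n) B (KaehlerDifferential A B))
    (hbΩ : ∀ i, bΩ i = KaehlerDifferential.D A B (t i))
    (ω : Module.Basis (Fin n) B L) (ι : KaehlerDifferential A B →ₗ[B] L)
    (hι : ∀ i, ι (KaehlerDifferential.D A B (t i)) = t i • ω i)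
    (nabla : E →ₗ[A] E ⊗[B] L)
    (hc : Conn.IsLamConn (ι.compDer (KaehlerDifferential.D A B)) lam nabla)

include hbΩ in
theorem coord_D_prod_mul (i : Fin n) (S : Finset (Fin n)) :
    bΩ.coord i (KaehlerDifferential.D A B (∏ k ∈ S, t k)) * t i =
      (if i ∈ S then 1 else 0) * ∏ k ∈ S, t k := by
  induction S using Finset.induction_on with
  | empty => simp
  | insert a s ha ih =>
    rw [Finset.prod_insert ha, Derivation.leibniz, map_add, map_smul, map_smul, smul_eq_mul,
      smul_eq_mul, add_mul, mul_assoc, ih, ← hbΩ a, Module.Basis.coord_apply,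
      Module.Basis.repr_self, Finsupp.single_apply]
    by_cases hia : a = i
    · subst hia
      simp [ha]
      ring
    · have hia' : i ≠ a := fun h => hia h.symm
      simp [hia, hia', Finset.mem_insert]

theorem comp_compProd_comm
    (hcomm : ∀ (a b : Fin n) (m : E), LogConn.comp nabla ω a (LogConn.comp nabla ω b m) =
      LogConn.comp nabla ω b (LogConn.comp nabla ω a m))
    (i : Fin n) (J : Finset (Fin n)) (e : E) :
    LogConn.comp nabla ω i (LogConn.compProd nabla ω J e) =
      LogConn.compProd nabla ω J (LogConn.comp nabla ω i e) := by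
  unfold LogConn.compProd
  induction (J.sort (· ≤ ·)) with
  | nil => rfl
  | cons a l ih =>
    simp only [List.foldr_cons, LinearMap.comp_apply]
    rw [hcomm i a, ih]

include hbΩ hι hc in
theorem comp_mem_piece
    (hcomm : ∀ (a b : Fin n) (m : E), LogConn.comp nabla ω a (LogConn.comp nabla ω b m) =
      LogConn.comp nabla ω b (LogConn.comp nabla ω a m))
    (i : Fin n) (K : Finset (Fin n)) (y : E) (hy : y ∈ LogConn.piece nabla ω t K) :
    LogConn.comp nabla ω i y ∈ LogConn.piece nabla ω t K := by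
  have h : LogConn.piece nabla ω t K ≤ (LogConn.piece nabla ω t K).comap
      (LogConn.comp nabla ω i) := by
    apply piece_le
    intro J hJ e
    rw [Submodule.mem_comap, comp_smul lam t bΩ hbΩ ω ι hι nabla hc,
      comp_compProd_comm ω nabla hcomm]
    refine Submodule.add_mem _ (gen_mem t ω nabla K J hJ _) ?_
    rw [coord_D_prod_mul t bΩ hbΩ i (K \ J), ← mul_assoc, mul_smul]
    exact piece_smul_mem lam t bΩ hbΩ ω ι hι nabla hc K _ _ (gen_mem t ω nabla K J hJ e)
  exact h hy

theorem exists_insert_of_mem (k : Fin n) (K J : Finset (Fin n)) (hJ : J ⊆ insert k K)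
    (hkJ : k ∈ J) : ∃ J₀, J = insert k J₀ ∧ k ∉ J₀ ∧ J₀ ⊆ K := by
  refine ⟨J.erase k, (Finset.insert_erase hkJ).symm, Finset.notMem_erase k J, ?_⟩
  intro x hx
  rcases Finset.mem_insert.1 (hJ (Finset.mem_of_mem_erase hx)) with h | h
  · exact absurd h (Finset.ne_of_mem_erase hx)
  · exact h

include hbΩ hι hc in
theorem piece_insert_le (k : Fin n) (K : Finset (Fin n)) (hk : ∀ x ∈ K, k < x)
    (T : Submodule A E)
    (h1 : ∀ y ∈ LogConn.piece nabla ω t K, t k • y ∈ T)
    (h2 : ∀ y ∈ LogConn.piece nabla ω t K, LogConn.comp nabla ω k y ∈ T) :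
    LogConn.piece nabla ω t (insert k K) ≤ T := by
  have hkK : k ∉ K := fun h => lt_irrefl _ (hk k h)
  apply piece_le
  intro J hJ e
  by_cases hkJ : k ∈ J
  · obtain ⟨J₀, rfl, hkJ₀, hJ₀⟩ := exists_insert_of_mem k K J hJ hkJ
    have e1 : insert k K \ insert k J₀ = K \ J₀ := by
      rw [Finset.insert_sdiff_insert, Finset.sdiff_insert_of_notMem hkK]
    have hk' : k ∉ K \ J₀ := fun h => hkK (Finset.mem_sdiff.mp h).1
    rw [e1, compProd_insert ω nabla k J₀ (fun x hx => hk x (hJ₀ hx)), LinearMap.comp_apply,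
      ← comp_prod_smul lam t bΩ hbΩ ω ι hι nabla hc k (K \ J₀) hk']
    exact h2 _ (gen_mem t ω nabla K J₀ hJ₀ e)
  · have hJK : J ⊆ K := by
      intro x hx
      rcases Finset.mem_insert.1 (hJ hx) with h | h
      · exact absurd (h ▸ hx) hkJ
      · exact h
    have hk' : k ∉ K \ J := fun h => hkK (Finset.mem_sdiff.mp h).1
    rw [Finset.insert_sdiff_of_notMem _ hkJ, Finset.prod_insert hk', mul_smul]
    exact h1 _ (gen_mem t ω nabla K J hJK e)

theorem smul_t_mem (k : Fin n) (K : Finset (Fin n)) (hkK : k ∉ K) (y : E)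
    (hy : y ∈ LogConn.piece nabla ω t K) : t k • y ∈ LogConn.piece nabla ω t (insert k K) := by
  have h := smul_piece_mem t ω nabla (insert k K) K (Finset.subset_insert k K) y hy
  rwa [insert_sdiff_self' k K hkK, Finset.prod_singleton] at h

include hbΩ hι hc in
theorem piece_insert_le_self
    (hcomm : ∀ (a b : Fin n) (m : E), LogConn.comp nabla ω a (LogConn.comp nabla ω b m) =
      LogConn.comp nabla ω b (LogConn.comp nabla ω a m))
    (k : Fin n) (K : Finset (Fin n)) (hkK : k ∉ K) :
    LogConn.piece nabla ω t (insert k K) ≤ LogConn.piece nabla ω t K := by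
  apply piece_le
  intro J hJ e
  by_cases hkJ : k ∈ J
  · obtain ⟨J₀, rfl, hkJ₀, hJ₀⟩ := exists_insert_of_mem k K J hJ hkJ
    have e1 : insert k K \ insert k J₀ = K \ J₀ := by
      rw [Finset.insert_sdiff_insert, Finset.sdiff_insert_of_notMem hkK]
    have hk' : k ∉ K \ J₀ := fun h => hkK (Finset.mem_sdiff.mp h).1
    rw [e1, compProd_insert' ω nabla hcomm k J₀ hkJ₀, LinearMap.comp_apply,
      ← comp_prod_smul lam t bΩ hbΩ ω ι hι nabla hc k (K \ J₀) hk']
    exact comp_mem_piece lam t bΩ hbΩ ω ι hι nabla hc hcomm k K _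
      (gen_mem t ω nabla K J₀ hJ₀ e)
  · have hJK : J ⊆ K := by
      intro x hx
      rcases Finset.mem_insert.1 (hJ hx) with h | h
      · exact absurd (h ▸ hx) hkJ
      · exact h
    have hk' : k ∉ K \ J := fun h => hkK (Finset.mem_sdiff.mp h).1
    rw [Finset.insert_sdiff_of_notMem _ hkJ, Finset.prod_insert hk', mul_smul]
    exact piece_smul_mem lam t bΩ hbΩ ω ι hι nabla hc K (t k) _ (gen_mem t ω nabla K J hJK e)

include hbΩ hι hc in
theorem piece_union_le
    (hcomm : ∀ (a b : Fin n) (m : E), LogConn.comp nabla ω a (LogConn.comp nabla ω b m) =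
      LogConn.comp nabla ω b (LogConn.comp nabla ω a m))
    (K S : Finset (Fin n)) :
    LogConn.piece nabla ω t (K ∪ S) ≤ LogConn.piece nabla ω t K := by
  induction S using Finset.induction_on with
  | empty => rw [Finset.union_empty]
  | insert a s ha ih =>
    rw [Finset.union_insert]
    by_cases h : a ∈ K ∪ s
    · rw [Finset.insert_eq_of_mem h]; exact ih
    · exact (piece_insert_le_self lam t bΩ hbΩ ω ι hι nabla hc hcomm a (K ∪ s) h).trans ih

include hbΩ hι hc in
theorem prod_smul_mem
    (hcomm : ∀ (a b : Fin n) (m : E), LogConn.comp nabla ω a (LogConn.comp nabla ω b m) =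
      LogConn.comp nabla ω b (LogConn.comp nabla ω a m))
    (K K' : Finset (Fin n)) (y : E) (hy : y ∈ LogConn.piece nabla ω t K') :
    (∏ k ∈ K \ K', t k) • y ∈ LogConn.piece nabla ω t K := by
  have h := smul_piece_mem t ω nabla (K' ∪ K \ K') K' Finset.subset_union_left y hy
  have e1 : (K' ∪ K \ K') \ K' = K \ K' := by
    ext x; simp only [Finset.mem_sdiff, Finset.mem_union]; tauto
  have e2 : K' ∪ K \ K' = K ∪ K' := by
    rw [Finset.union_sdiff_self_eq_union, Finset.union_comm]
  rw [e1, e2] at h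
  exact piece_union_le lam t bΩ hbΩ ω ι hι nabla hc hcomm K K' h

/-- components in another basis. -/
theorem comp'_eq (ω' : Module.Basis (Fin n) B L) (i : Fin n) (y : E) :
    LogConn.comp nabla ω' i y = ∑ j, (ω'.coord i (ω j)) • LogConn.comp nabla ω j y := by
  rw [comp_eq ω' nabla, nabla_expand ω nabla y, map_sum]
  refine Finset.sum_congr rfl (fun j _ => ?_)
  rw [tcoord_tmul]

end Generic

section Minors
variable {A : Type v} {B L E : Type u} [CommRing A] [CommRing B]
    [Algebra A B] [AddCommGroup L] [Module B L]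
    [AddCommGroup E] [Module B E] [Module A E] [IsScalarTower A B E] {n : ℕ}

theorem prod_emb (p : ℕ) (K : Set.powersetCard (Fin n) p) (K' : Finset (Fin n)) (s : Fin n → B) :
    (∏ j : Fin p, if (ofFinEmbEquiv.symm K j) ∈ K' then (1 : B) else s (ofFinEmbEquiv.symm K j)) =
      ∏ k ∈ K.val \ K', s k := by
  rw [Finset.sdiff_eq_filter, Finset.prod_filter]
  conv_rhs => rw [← Finset.map_orderEmbOfFin_univ K.val K.prop, Finset.prod_map]
  refine Finset.prod_congr rfl (fun j _ => ?_)
  rw [ite_not]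
  rfl

theorem det_div (ω ω' : Module.Basis (Fin n) B L) (s : Fin n → B)
    (hdiv : ∀ i j, i ≠ j → ∃ c, ω.coord j (ω' i) = c * s j) (p : ℕ)
    (K K' : Set.powersetCard (Fin n) p) :
    ∃ c, (ω.exteriorPower p).coord K (ω'.exteriorPower p K') =
      (∏ k ∈ K.val \ K'.val, s k) * c := by
  rw [exteriorPower.basis_coord B p ω K, exteriorPower.basis_apply, exteriorPower.ιMulti_family,
    exteriorPower.ιMultiDual_apply_ιMulti]
  choose! cf hcf using hdiv
  have hM : (Matrix.of fun a j => ω.coord (ofFinEmbEquiv.symm K j)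
      ((ω' ∘ (ofFinEmbEquiv.symm K')) a)) =
      Matrix.of (fun a j =>
        (if (ofFinEmbEquiv.symm K j) ∈ K'.val then (1 : B) else s (ofFinEmbEquiv.symm K j)) *
        (Matrix.of fun a j => if (ofFinEmbEquiv.symm K j) ∈ K'.val then
          ω.coord (ofFinEmbEquiv.symm K j) (ω' (ofFinEmbEquiv.symm K' a))
          else cf (ofFinEmbEquiv.symm K' a) (ofFinEmbEquiv.symm K j)) a j) := by
    ext a j
    simp only [Matrix.of_apply, Function.comp_apply]
    split_ifs with h
    · rw [one_mul]
    · rw [hcf (ofFinEmbEquiv.symm K' a) (ofFinEmbEquiv.symm K j) ?_, mul_comm]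
      intro h'
      apply h
      rw [← h']
      exact (mem_range_ofFinEmbEquiv_symm_iff_mem K' _).1 ⟨a, rfl⟩
  rw [hM, Matrix.det_mul_row, prod_emb]
  exact ⟨_, rfl⟩

theorem layer_half (p : ℕ) (ω ω' : Module.Basis (Fin n) B L) (s : Fin n → B)
    (F : Finset (Fin n) → Submodule A E)
    (hF1 : ∀ K (b : B) (y : E), y ∈ F K → b • y ∈ F K)
    (hF2 : ∀ K K' (y : E), y ∈ F K' → (∏ k ∈ K \ K', s k) • y ∈ F K)
    (hdiv : ∀ i j, i ≠ j → ∃ c, ω.coord j (ω' i) = c * s j)
    (x : E ⊗[B] ↥(⋀[B]^p L))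
    (hx : ∀ K' : Set.powersetCard (Fin n) p, LogConn.coordE ω' p K' x ∈ F K'.val)
    (K : Set.powersetCard (Fin n) p) : LogConn.coordE ω p K x ∈ F K.val := by
  have hxe : LogConn.coordE ω p K x = ∑ K', tcoord (ω.exteriorPower p) K
      (tcoord (ω'.exteriorPower p) K' x ⊗ₜ[B] (ω'.exteriorPower p) K') := by
    conv_lhs => rw [expand (ω'.exteriorPower p) x]
    rw [map_sum]
    rfl
  rw [hxe]
  refine Submodule.sum_mem _ (fun K' _ => ?_)
  rw [tcoord_tmul]
  obtain ⟨c, hc⟩ := det_div ω ω' s hdiv p K K'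
  rw [hc, mul_comm, mul_smul]
  exact hF1 _ c _ (hF2 K.val K'.val _ (hx K'))

end Minors

section Change
variable {A : Type v} {B L E : Type u} [CommRing A] [CommRing B]
    [Algebra A B] [AddCommGroup L] [Module B L] [Module A L] [IsScalarTower A B L]
    [AddCommGroup E] [Module B E] [Module A E] [IsScalarTower A B E]
variable (lam : B) {n : ℕ} (t : Fin n → B)
    (bΩ : Module.Basis (Fin n) B (KaehlerDifferential A B))
    (hbΩ : ∀ i, bΩ i = KaehlerDifferential.D A B (t i))
    (ω : Module.Basis (Fin n) B L) (ι : KaehlerDifferential A B →ₗ[B] L)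
    (hι : ∀ i, ι (KaehlerDifferential.D A B (t i)) = t i • ω i)
    (nabla : E →ₗ[A] E ⊗[B] L)
    (hc : Conn.IsLamConn (ι.compDer (KaehlerDifferential.D A B)) lam nabla)
    (u : Fin n → Bˣ) (bΩ' : Module.Basis (Fin n) B (KaehlerDifferential A B))
    (hbΩ' : ∀ i, bΩ' i = KaehlerDifferential.D A B ((u i : B) * t i))
    (ω' : Module.Basis (Fin n) B L)
    (hω' : ∀ i, ω' i = ω i + ((u i)⁻¹ : Bˣ).val • ι (KaehlerDifferential.D A B (u i : B)))

include hι hω' in
theorem hι' (i : Fin n) : ι (KaehlerDifferential.D A B ((u i : B) * t i)) =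
    ((u i : B) * t i) • ω' i := by
  rw [Derivation.leibniz, map_add, map_smul, map_smul, hι i, hω' i, smul_add, smul_smul,
    smul_smul]
  congr 2
  rw [mul_comm (u i : B) (t i), mul_assoc, Units.mul_inv, mul_one]

include hbΩ hι hω' in
theorem coord_ω' (k i : Fin n) : ω.coord k (ω' i) =
    (if i = k then 1 else 0) +
      (((u i)⁻¹ : Bˣ).val * bΩ.coord k (KaehlerDifferential.D A B (u i : B))) * t k := by
  rw [hω' i, map_add, map_smul, coord_iota t bΩ hbΩ ω ι hι, Module.Basis.coord_apply,
    Module.Basis.repr_self, Finsupp.single_apply, smul_eq_mul, mul_assoc]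

include hbΩ' hι hω' in
theorem coord_ω (k i : Fin n) : ω'.coord k (ω i) =
    (if i = k then 1 else 0) +
      (-(((u i)⁻¹ : Bˣ).val * bΩ'.coord k (KaehlerDifferential.D A B (u i : B)))) *
        ((u k : B) * t k) := by
  have h1 : ω i = ω' i - ((u i)⁻¹ : Bˣ).val • ι (KaehlerDifferential.D A B (u i : B)) := by
    rw [hω' i]; abel
  rw [h1, map_sub, map_smul,
    coord_iota (fun i => (u i : B) * t i) bΩ' hbΩ' ω' ι (hι' t ω ι hι u ω' hω'),
    Module.Basis.coord_apply, Module.Basis.repr_self, Finsupp.single_apply, smul_eq_mul]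
  ring

include hbΩ hι hω' in
theorem comp_eq_comp' (k : Fin n) (y : E) :
    LogConn.comp nabla ω k y = LogConn.comp nabla ω' k y +
      t k • ∑ i, (((u i)⁻¹ : Bˣ).val * bΩ.coord k (KaehlerDifferential.D A B (u i : B))) •
        LogConn.comp nabla ω' i y := by
  rw [comp'_eq ω' nabla ω k y]
  simp only [coord_ω' t bΩ hbΩ ω ι hι u ω' hω', add_smul, Finset.sum_add_distrib, ite_smul,
    one_smul, zero_smul, Finset.sum_ite_eq', Finset.mem_univ, if_true]
  congr 1
  rw [Finset.smul_sum]
  refine Finset.sum_congr rfl (fun i _ => ?_)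
  rw [smul_smul, mul_comm]

include hbΩ hι hc hbΩ' hω' in
theorem piece_eq
    (hcomm : ∀ (a b : Fin n) (m : E), LogConn.comp nabla ω a (LogConn.comp nabla ω b m) =
      LogConn.comp nabla ω b (LogConn.comp nabla ω a m))
    (K : Finset (Fin n)) :
    LogConn.piece nabla ω' (fun i => (u i : B) * t i) K = LogConn.piece nabla ω t K := by
  have hι'' := hι' t ω ι hι u ω' hω'
  induction K using Finset.induction_on_min with
  | empty =>
    have h1 : LogConn.piece nabla ω t ∅ = ⊤ := by
      rw [eq_top_iff]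
      intro e _
      have h := gen_mem t ω nabla ∅ ∅ (Finset.Subset.refl _) e
      rw [compProd_empty] at h
      simpa using h
    have h2 : LogConn.piece nabla ω' (fun i => (u i : B) * t i) ∅ = ⊤ := by
      rw [eq_top_iff]
      intro e _
      have h := gen_mem (fun i => (u i : B) * t i) ω' nabla ∅ ∅ (Finset.Subset.refl _) e
      rw [compProd_empty] at h
      simpa using h
    rw [h1, h2]
  | insert k K hk ih =>
    have hkK : k ∉ K := fun h => lt_irrefl _ (hk k h)
    -- the correction term lies in the piece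
    have hΘ : ∀ y ∈ LogConn.piece nabla ω t K,
        (∑ i, (((u i)⁻¹ : Bˣ).val * bΩ.coord k (KaehlerDifferential.D A B (u i : B))) •
          LogConn.comp nabla ω' i y) ∈ LogConn.piece nabla ω t K := by
      intro y hy
      refine Submodule.sum_mem _ (fun i _ => ?_)
      refine piece_smul_mem lam t bΩ hbΩ ω ι hι nabla hc K _ _ ?_
      rw [comp'_eq ω nabla ω' i y]
      refine Submodule.sum_mem _ (fun j _ => ?_)
      exact piece_smul_mem lam t bΩ hbΩ ω ι hι nabla hc K _ _
        (comp_mem_piece lam t bΩ hbΩ ω ι hι nabla hc hcomm j K y hy)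
    apply le_antisymm
    · apply piece_insert_le lam (fun i => (u i : B) * t i) bΩ' hbΩ' ω' ι hι'' nabla hc k K hk
      · intro y hy
        rw [ih] at hy
        show ((u k : B) * t k) • y ∈ _
        rw [mul_smul]
        exact piece_smul_mem lam t bΩ hbΩ ω ι hι nabla hc _ _ _ (smul_t_mem t ω nabla k K hkK y hy)
      · intro y hy
        rw [ih] at hy
        have h := comp_eq_comp' t bΩ hbΩ ω ι hι nabla u ω' hω' k y
        have e : LogConn.comp nabla ω' k y = LogConn.comp nabla ω k y -
            t k • ∑ i, (((u i)⁻¹ : Bˣ).val * bΩ.coord k (KaehlerDifferential.D A B (u i : B))) •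
              LogConn.comp nabla ω' i y := by
          rw [h]; abel
        rw [e]
        refine Submodule.sub_mem _
          (comp_piece_mem lam t bΩ hbΩ ω ι hι nabla hc k K hk y hy)
          (smul_t_mem t ω nabla k K hkK _ (hΘ y hy))
    · apply piece_insert_le lam t bΩ hbΩ ω ι hι nabla hc k K hk
      · intro y hy
        rw [← ih] at hy
        have e : t k • y = ((u k)⁻¹ : Bˣ).val • (((u k : B) * t k) • y) := by
          rw [smul_smul, ← mul_assoc, Units.inv_mul, one_mul]
        rw [e]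
        exact piece_smul_mem lam (fun i => (u i : B) * t i) bΩ' hbΩ' ω' ι hι'' nabla hc _ _ _
          (smul_t_mem (fun i => (u i : B) * t i) ω' nabla k K hkK y hy)
      · intro y hy
        rw [comp_eq_comp' t bΩ hbΩ ω ι hι nabla u ω' hω' k y]
        have hy' : y ∈ LogConn.piece nabla ω' (fun i => (u i : B) * t i) K := by rw [ih]; exact hy
        refine Submodule.add_mem _
          (comp_piece_mem lam (fun i => (u i : B) * t i) bΩ' hbΩ' ω' ι hι'' nabla hc k K hk y hy')
          ?_
        have hΘ' := hΘ y hy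
        rw [← ih] at hΘ'
        have e : ∀ z : E, t k • z = ((u k)⁻¹ : Bˣ).val • (((u k : B) * t k) • z) := by
          intro z
          rw [smul_smul, ← mul_assoc, Units.inv_mul, one_mul]
        rw [e]
        exact piece_smul_mem lam (fun i => (u i : B) * t i) bΩ' hbΩ' ω' ι hι'' nabla hc _ _ _
          (smul_t_mem (fun i => (u i : B) * t i) ω' nabla k K hkK _ hΘ')

variable (d : ∀ p : ℕ, ↥(⋀[B]^p L) →ₗ[A] ↥(⋀[B]^(p + 1) L))
    (hd : LogDiff.IsLogRule (KaehlerDifferential.D A B) ι (⇑ω) d)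
    (nablas : ∀ p : ℕ, E ⊗[B] ↥(⋀[B]^p L) →ₗ[A] E ⊗[B] ↥(⋀[B]^(p + 1) L))
    (hint : Conn.IsIntegrable nabla (fun p => lam • d p) nablas)

include hbΩ hι hc hbΩ' hω' hd hint in
theorem main2 (p : ℕ) :
    LogConn.layer nabla ω t p = LogConn.layer nabla ω' (fun i => (u i : B) * t i) p := by
  have hcomm := comp_comm lam ω ι nabla d hd nablas hint
  have hpe := piece_eq lam t bΩ hbΩ ω ι hι nabla hc u bΩ' hbΩ' ω' hω' hcomm
  have hF1 : ∀ (K : Finset (Fin n)) (b : B) (y : E), y ∈ LogConn.piece nabla ω t K →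
      b • y ∈ LogConn.piece nabla ω t K :=
    fun K b y hy => piece_smul_mem lam t bΩ hbΩ ω ι hι nabla hc K b y hy
  have hF2 : ∀ (K K' : Finset (Fin n)) (y : E), y ∈ LogConn.piece nabla ω t K' →
      (∏ k ∈ K \ K', t k) • y ∈ LogConn.piece nabla ω t K :=
    fun K K' y hy => prod_smul_mem lam t bΩ hbΩ ω ι hι nabla hc hcomm K K' y hy
  have hF2' : ∀ (K K' : Finset (Fin n)) (y : E), y ∈ LogConn.piece nabla ω t K' →
      (∏ k ∈ K \ K', (fun i => (u i : B) * t i) k) • y ∈ LogConn.piece nabla ω t K := by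
    intro K K' y hy
    show (∏ k ∈ K \ K', ((u k : B) * t k)) • y ∈ _
    rw [Finset.prod_mul_distrib, mul_smul]
    exact hF1 _ _ _ (hF2 K K' y hy)
  apply le_antisymm
  · intro x hx
    unfold LogConn.layer at hx ⊢
    rw [Submodule.mem_iInf] at hx ⊢
    intro K'
    rw [Submodule.mem_comap, hpe]
    refine layer_half p ω' ω (fun i => (u i : B) * t i) (fun K => LogConn.piece nabla ω t K)
      hF1 hF2' ?_ x (fun K => hx K) K'
    intro i j hij
    refine ⟨-(((u i)⁻¹ : Bˣ).val * bΩ'.coord j (KaehlerDifferential.D A B (u i : B))), ?_⟩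
    rw [coord_ω t ω ι hι u bΩ' hbΩ' ω' hω' j i, if_neg hij, zero_add]
  · intro x hx
    unfold LogConn.layer at hx ⊢
    rw [Submodule.mem_iInf] at hx ⊢
    intro K
    rw [Submodule.mem_comap]
    refine layer_half p ω ω' t (fun K => LogConn.piece nabla ω t K)
      hF1 hF2 ?_ x (fun K' => ?_) K
    · intro i j hij
      refine ⟨((u i)⁻¹ : Bˣ).val * bΩ.coord j (KaehlerDifferential.D A B (u i : B)), ?_⟩
      rw [coord_ω' t bΩ hbΩ ω ι hι u ω' hω' j i, if_neg hij, zero_add]
    · have := hx K'
      rw [Submodule.mem_comap, hpe] at this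
      exact this

end Change
end Groth.Agent.H4.LogLayerB
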