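import Mathlib
import Groth.Prelude.Def_Conn
import Groth.Prelude.Def_LogDiff
import Groth.Prelude.Def_W4swconnpcurvhiggsLogLam
import Groth.Agent.Lib.Helper9.Misc.LogConnPiece
import Groth.Agent.H4.LogLayer
import Groth.Agent.H4.LogLayerB

set_option autoImplicit false
set_option linter.unusedSectionVars false
set_option linter.unusedVariables false
set_option linter.style.haveILetI false

universe v u
open TensorProduct Set.powersetCard

namespace Groth.Agent.H4.LogLayerC

open Groth.Agent.H9.LogConnPiece Groth.Agent.H4.LogLayer Groth.Agent.H4.LogLayerB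

section Main
variable {A : Type v} {B L E : Type u} [CommRing A] [CommRing B]
    [Algebra A B] [AddCommGroup L] [Module B L] [Module A L] [IsScalarTower A B L]
    [AddCommGroup E] [Module B E] [Module A E] [IsScalarTower A B E]
variable (lam : B) {n : ℕ} (t : Fin n → B)
    (bΩ : Module.Basis (Fin n) B (KaehlerDifferential A B))
    (hbΩ : ∀ i, bΩ i = KaehlerDifferential.D A B (t i))
    (ω : Module.Basis (Fin n) B L) (ι : KaehlerDifferential A B →ₗ[B] L)
    (hι : ∀ i, ι (KaehlerDifferential.D A B (t i)) = t i • ω i)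
    (nabla : E →ₗ[A] E ⊗[B] L)
    (hc : Conn.IsLamConn (ι.compDer (KaehlerDifferential.D A B)) lam nabla)

/-! ### generators lie in the layer -/

include hbΩ hι in
theorem gen_coord (p : ℕ) (I : Finset (Fin n)) (hI : I.card ≤ p) (v : Fin p → L)
    (hv1 : ∀ (k : Fin p) (hk : k.val < I.card), v k = ω (I.orderEmbOfFin rfl ⟨k.val, hk⟩))
    (hv2 : ∀ k : Fin p, I.card ≤ k.val → v k ∈ LinearMap.range ι)
    (K : Set.powersetCard (Fin n) p) :
    (I ⊆ K.val ∧ ∃ c, (ω.exteriorPower p).coord K (exteriorPower.ιMulti B p v) =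
      (∏ k ∈ K.val \ I, t k) * c) ∨
    (ω.exteriorPower p).coord K (exteriorPower.ιMulti B p v) = 0 := by
  rw [exteriorPower.basis_coord B p ω K, exteriorPower.ιMultiDual_apply_ιMulti]
  by_cases hIK : I ⊆ K.val
  · left
    refine ⟨hIK, ?_⟩
    have hdiv : ∀ (a j : Fin p), ofFinEmbEquiv.symm K j ∉ I →
        ∃ c, ω.coord (ofFinEmbEquiv.symm K j) (v a) = c * t (ofFinEmbEquiv.symm K j) := by
      intro a j hj
      by_cases ha : a.val < I.card
      · refine ⟨0, ?_⟩
        rw [hv1 a ha, Module.Basis.coord_apply, Module.Basis.repr_self, Finsupp.single_apply,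
          zero_mul, if_neg]
        intro h'
        exact hj (h' ▸ Finset.orderEmbOfFin_mem I rfl _)
      · obtain ⟨η, hη⟩ := hv2 a (not_lt.1 ha)
        exact ⟨_, by rw [← hη, coord_iota t bΩ hbΩ ω ι hι]⟩
    choose! cf hcf using hdiv
    have hM : (Matrix.of fun a j => ω.coord (ofFinEmbEquiv.symm K j) (v a)) =
        Matrix.of (fun a j =>
          (if (ofFinEmbEquiv.symm K j) ∈ I then (1 : B) else t (ofFinEmbEquiv.symm K j)) *
          (Matrix.of fun a j => if (ofFinEmbEquiv.symm K j) ∈ I then
            ω.coord (ofFinEmbEquiv.symm K j) (v a) else cf a j) a j) := by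
      ext a j
      simp only [Matrix.of_apply]
      split_ifs with h
      · rw [one_mul]
      · rw [hcf a j h, mul_comm]
    rw [hM, Matrix.det_mul_row, prod_emb]
    exact ⟨_, rfl⟩
  · right
    obtain ⟨i, hiI, hiK⟩ := Finset.not_subset.1 hIK
    have hr : i ∈ Set.range (I.orderEmbOfFin rfl) := by
      rw [Finset.range_orderEmbOfFin]; exact hiI
    obtain ⟨a', ha'⟩ := hr
    apply Matrix.det_eq_zero_of_row_eq_zero (⟨a'.val, lt_of_lt_of_le a'.isLt hI⟩ : Fin p)
    intro j
    rw [Matrix.of_apply, hv1 _ a'.isLt, Module.Basis.coord_apply, Module.Basis.repr_self,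
      Finsupp.single_apply, if_neg]
    intro h'
    apply hiK
    have h2 : I.orderEmbOfFin rfl ⟨a'.val, a'.isLt⟩ = i := ha'
    rw [← h2, h']
    exact (mem_range_ofFinEmbEquiv_symm_iff_mem K _).1 ⟨j, rfl⟩

include hbΩ hι hc in
theorem gens_le_layer (p : ℕ) (x : E ⊗[B] ↥(⋀[B]^p L)) (hx : x ∈ LogConn.gens nabla ω ι p) :
    x ∈ LogConn.layer nabla ω t p := by
  obtain ⟨I, hI, e, v, hv1, hv2, rfl⟩ := hx
  unfold LogConn.layer
  rw [Submodule.mem_iInf]
  intro K
  rw [Submodule.mem_comap]
  show tcoord (ω.exteriorPower p) K (_ ⊗ₜ[B] _) ∈ _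
  rw [tcoord_tmul]
  rcases gen_coord t bΩ hbΩ ω ι hι p I hI v hv1 hv2 K with ⟨hIK, c, hc'⟩ | h0
  · rw [hc', mul_comm, mul_smul]
    exact piece_smul_mem lam t bΩ hbΩ ω ι hι nabla hc _ c _ (gen_mem t ω nabla K.val I hIK e)
  · rw [h0, zero_smul]; exact Submodule.zero_mem _

include hbΩ hι hc in
theorem span_le_layer (p : ℕ) :
    (Submodule.span B (LogConn.gens nabla ω ι p)).restrictScalars A ≤
      LogConn.layer nabla ω t p := by
  intro x hx
  rw [Submodule.restrictScalars_mem] at hx
  induction hx using Submodule.span_induction with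
  | mem x hx => exact gens_le_layer lam t bΩ hbΩ ω ι hι nabla hc p x hx
  | zero => exact Submodule.zero_mem _
  | add x y _ _ hx hy => exact Submodule.add_mem _ hx hy
  | smul b x _ hx =>
    unfold LogConn.layer at hx ⊢
    rw [Submodule.mem_iInf] at hx ⊢
    intro K
    have := hx K
    rw [Submodule.mem_comap] at this ⊢
    show (LogConn.coordE ω p K) (b • x) ∈ _
    rw [map_smul]
    exact piece_smul_mem lam t bΩ hbΩ ω ι hι nabla hc _ b _ this

/-! ### the layer is spanned by the generators -/

theorem append_family (J : Finset (Fin n)) (m : ℕ) (K : Set.powersetCard (Fin n) (J.card + m))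
    (hJK : J ⊆ K.val) :
    ∃ z : B, z * z = 1 ∧ ∃ hcard : (K.val \ J).card = m,
      exteriorPower.ιMulti B (J.card + m)
        (ω ∘ (Fin.append (J.orderEmbOfFin rfl) ((K.val \ J).orderEmbOfFin hcard))) =
      z • (ω.exteriorPower (J.card + m) K) := by
  have hcard : (K.val \ J).card = m := by
    rw [Finset.card_sdiff_of_subset hJK, Set.powersetCard.card_eq K]; omega
  have hdisj : Disjoint J (K.val \ J) := Finset.disjoint_sdiff
  let Js : Set.powersetCard (Fin n) J.card := Set.powersetCard.ofCard (s := J) rfl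
  let KJs : Set.powersetCard (Fin n) m := Set.powersetCard.ofCard (s := K.val \ J) hcard
  have hd' : Disjoint Js.val KJs.val := hdisj
  have hK : Set.powersetCard.disjUnion hd' = K := by
    apply Subtype.ext
    show Finset.disjUnion J (K.val \ J) hdisj = K.val
    rw [Finset.disjUnion_eq_union, Finset.union_sdiff_of_subset hJK]
  refine ⟨((((permOfDisjoint hd').sign : ℤˣ) : ℤ) : B), by
    rw [← Int.cast_mul, ← Units.val_mul, Int.units_mul_self, Units.val_one, Int.cast_one],
    hcard, ?_⟩
  apply Subtype.ext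
  have h1 := ExteriorAlgebra.ιMulti_family_mul_of_disjoint (R := B) (⇑ω) Js KJs hd'
  rw [hK] at h1
  rw [exteriorPower.ιMulti_apply_coe]
  have h2 : (ω ∘ (Fin.append (J.orderEmbOfFin rfl) ((K.val \ J).orderEmbOfFin hcard)) :
      Fin (J.card + m) → L) =
      Fin.append (ω ∘ (J.orderEmbOfFin rfl)) (ω ∘ ((K.val \ J).orderEmbOfFin hcard)) := by
    funext a
    refine Fin.addCases (fun i => ?_) (fun j => ?_) a
    · simp only [Function.comp_apply, Fin.append_left]
    · simp only [Function.comp_apply, Fin.append_right]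
  rw [h2, ← ExteriorAlgebra.ιMulti_mul_ιMulti]
  have h4 : ((((((permOfDisjoint hd').sign : ℤˣ) : ℤ) : B) • (ω.exteriorPower (J.card + m) K) :
      ↥(⋀[B]^(J.card + m) L)) : ExteriorAlgebra B L) =
      ((((permOfDisjoint hd').sign : ℤˣ) : ℤ) : B) •
        (((ω.exteriorPower (J.card + m) K) : ↥(⋀[B]^(J.card + m) L)) : ExteriorAlgebra B L) :=
    rfl
  rw [h4, Int.cast_smul_eq_zsmul B, exteriorPower.basis_apply,
    exteriorPower.ιMulti_family_apply_coe, ← Units.smul_def]
  exact h1

include hι in
theorem gen_tensor_mem (J : Finset (Fin n)) (m : ℕ) (p : ℕ) (hp : J.card + m = p)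
    (K : Set.powersetCard (Fin n) p) (hJK : J ⊆ K.val) (e : E) :
    ((∏ k ∈ K.val \ J, t k) • LogConn.compProd nabla ω J e) ⊗ₜ[B] (ω.exteriorPower p K) ∈
      Submodule.span B (LogConn.gens nabla ω ι p) := by
  subst hp
  obtain ⟨z, hz, hcard, hfam⟩ := append_family ω J m K hJK
  have hG : LogConn.compProd nabla ω J e ⊗ₜ[B] exteriorPower.ιMulti B (J.card + m)
      (fun a => (Fin.append (fun _ : Fin J.card => (1 : B))
        (fun b => t ((K.val \ J).orderEmbOfFin hcard b)) a) •
        ω (Fin.append (J.orderEmbOfFin rfl) ((K.val \ J).orderEmbOfFin hcard) a)) ∈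
      LogConn.gens nabla ω ι (J.card + m) := by
    refine ⟨J, Nat.le_add_right _ _, e, _, ?_, ?_, rfl⟩
    · intro k hk
      obtain ⟨k', rfl⟩ : ∃ k' : Fin J.card, k = Fin.castAdd m k' :=
        ⟨⟨k.val, hk⟩, Fin.ext rfl⟩
      simp only [Fin.append_left, one_smul]
      rfl
    · intro k hk
      have hkl := k.isLt
      obtain ⟨k', rfl⟩ : ∃ k' : Fin m, k = Fin.natAdd J.card k' :=
        ⟨⟨k.val - J.card, by omega⟩, Fin.ext (by simp; omega)⟩
      simp only [Fin.append_right]
      exact ⟨KaehlerDifferential.D A B (t ((K.val \ J).orderEmbOfFin hcard k')), hι _⟩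
  have hsm := (exteriorPower.ιMulti B (J.card + m)).toMultilinearMap.map_smul_univ
    (Fin.append (fun _ : Fin J.card => (1 : B)) (fun b => t ((K.val \ J).orderEmbOfFin hcard b)))
    (ω ∘ (Fin.append (J.orderEmbOfFin rfl) ((K.val \ J).orderEmbOfFin hcard)))
  have hprod : (∏ a, Fin.append (fun _ : Fin J.card => (1 : B))
      (fun b => t ((K.val \ J).orderEmbOfFin hcard b)) a) = ∏ k ∈ K.val \ J, t k := by
    rw [Fin.prod_univ_add]
    simp only [Fin.append_left, Fin.append_right, Finset.prod_const_one, one_mul]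
    conv_rhs => rw [← Finset.map_orderEmbOfFin_univ (K.val \ J) hcard, Finset.prod_map]
    rfl
  have hv : exteriorPower.ιMulti B (J.card + m)
      (fun a => (Fin.append (fun _ : Fin J.card => (1 : B))
        (fun b => t ((K.val \ J).orderEmbOfFin hcard b)) a) •
        ω (Fin.append (J.orderEmbOfFin rfl) ((K.val \ J).orderEmbOfFin hcard) a)) =
      (∏ k ∈ K.val \ J, t k) • ((z : B) • (ω.exteriorPower (J.card + m) K)) := by
    rw [← hprod, ← hfam]
    exact hsm
  have hzB : (z : B) * (z : B) = 1 := hz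
  have key : ((∏ k ∈ K.val \ J, t k) • LogConn.compProd nabla ω J e) ⊗ₜ[B]
      (ω.exteriorPower (J.card + m) K) = (z : B) •
      (LogConn.compProd nabla ω J e ⊗ₜ[B] exteriorPower.ιMulti B (J.card + m)
      (fun a => (Fin.append (fun _ : Fin J.card => (1 : B))
        (fun b => t ((K.val \ J).orderEmbOfFin hcard b)) a) •
        ω (Fin.append (J.orderEmbOfFin rfl) ((K.val \ J).orderEmbOfFin hcard) a))) := by
    rw [hv, TensorProduct.tmul_smul, TensorProduct.tmul_smul, smul_smul, smul_smul,
      ← TensorProduct.smul_tmul']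
    congr 1
    rw [mul_comm (z : B), mul_assoc, hzB, mul_one]
  rw [key]
  exact Submodule.smul_mem _ _ (Submodule.subset_span hG)

include hι in
theorem layer_le_span (p : ℕ) :
    LogConn.layer nabla ω t p ≤
      (Submodule.span B (LogConn.gens nabla ω ι p)).restrictScalars A := by
  intro x hx
  unfold LogConn.layer at hx
  rw [Submodule.mem_iInf] at hx
  rw [Submodule.restrictScalars_mem, expand (ω.exteriorPower p) x]
  refine Submodule.sum_mem _ (fun K _ => ?_)
  have hxK : tcoord (ω.exteriorPower p) K x ∈ LogConn.piece nabla ω t K.val := hx K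
  have hle : LogConn.piece nabla ω t K.val ≤
      ((Submodule.span B (LogConn.gens nabla ω ι p)).restrictScalars A).comap
        (((TensorProduct.mk B E _).flip (ω.exteriorPower p K)).restrictScalars A) := by
    apply piece_le
    intro J hJ e
    rw [Submodule.mem_comap, Submodule.restrictScalars_mem]
    have hJc : J.card ≤ p := by
      rw [← Set.powersetCard.card_eq K]; exact Finset.card_le_card hJ
    exact gen_tensor_mem t ω ι hι nabla J (p - J.card) p (by omega) K hJ e
  exact hle hxK

include hbΩ hι hc in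
theorem main3 (p : ℕ) :
    (Submodule.span B (LogConn.gens nabla ω ι p)).restrictScalars A =
      LogConn.layer nabla ω t p :=
  le_antisymm (span_le_layer lam t bΩ hbΩ ω ι hι nabla hc p) (layer_le_span t ω ι hι nabla p)

end Main
end Groth.Agent.H4.LogLayerC
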