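import Mathlib
import Groth.Statements.S19903
import Groth.Agent.Lib.Helper3.AlgSt.DiagProp
import Groth.Agent.Lib.Helper3.AlgSt.Inertia

set_option autoImplicit false
universe v₂ u₂ v₃ u₃ w v u
open CategoryTheory CategoryTheory.Functor CategoryTheory.Limits Opposite AlgebraicGeometry

noncomputable section

namespace Groth.Agent.H4.LsiA

open Groth.Agent.H3 Groth.Agent.H3.FibCatAux Groth.Agent.H3.GerbAux Groth.Agent.H3.FpCalc Groth.Agent.H3.TwoCart
  Groth.Agent.H3.StackPsh Groth.Agent.H3.PshBridge Groth.Agent.H3.AlgStAux Groth.Agent.H3.RepBridge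
  Groth.Agent.H3.SetoidPsh Groth.Agent.H3.BaseChangeSp Groth.Agent.H3.AlgStComp
  Groth.Agent.H3.AlgStProps Groth.Agent.H3.AlgStBridge2 Groth.Agent.H3.AlgStCharts
  Groth.Agent.H3.AlgStDescent Groth.Agent.H3.Whisker Groth.Agent.H3.AlgStLES
  Groth.Agent.H3.AlgStStackRep Groth.Agent.H3.DiagSquare Groth.Agent.H3.AlgStDiagRep
  Groth.Agent.H3.AlgStDiagProp Groth.Agent.H3.AlgStInertia
open AlgSp

variable {S : Scheme.{u}} {𝒳 𝒴 : AlgSt.Cat S}

/-- a 1-morphism representable by locally separated morphisms of algebraic spaces has a diagonal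
representable by immersions -/
theorem diag_isImm_of_locSep (h𝒳 : FibCat.IsFibGrpd 𝒳.p) (h𝒴 : FibCat.IsFibGrpd 𝒴.p) (f : 𝒳 ⥤ᵇ 𝒴)
    (h : AlgSt.RepByAlgSpWith AlgSp.IsLocallySeparatedMor f) :
    AlgSt.RepByAlgSpWith (AlgSp.RepWith @IsImmersion) (FibCat.diag f) := by
  have hci : GoodC (RepWith (S := S) @IsImmersion) := goodC_repWith _
  have hf : AlgSt.RepByAlgSp1 f := repByAlgSp1_of_repByAlgSpWith h
  apply repByAlgSpWith_of_forall_fpFst _ hci.bc hci.charts (FibCat.diag f)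
    (repByAlgSp1_diag h𝒳 h𝒴 f hf)
  intro U y
  obtain ⟨G, e, he, hp⟩ := h U (cg f y)
  have hπ : AlgSt.RepByAlgSpWith (RepWith (S := S) @IsImmersion)
      (FibCat.diag (FibCat.fpFst (cg f y) f)) :=
    (repByAlgSpWith_diag_iff_of_space _ hci.bc hci.charts _ G e he).2 hp
  have h1 : AlgSt.RepByAlgSpWith (RepWith (S := S) @IsImmersion)
      (FibCat.fpFst (dbcM f (cg f y)) (FibCat.diag f)) := by
    let ε : BasedFunctor.comp (FibCat.diag (FibCat.fpFst (cg f y) f)) (BasedFunctor.id _) ≅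
        BasedFunctor.comp
          (FibCat.fpLift (FibCat.diag (FibCat.fpFst (cg f y) f)) (FibCat.fpSnd (cg f y) f)
            (dbcE f (cg f y)))
          (FibCat.fpFst (dbcM f (cg f y)) (FibCat.diag f)) := Iso.refl _
    exact repByAlgSpWith_of_square' _ _ _ _ (BasedFunctor.id _) (dbc_isTwoCartOver f (cg f y))
      isEquivOver_id ε hπ
  exact repByAlgSpWith_fpFst_of_factor _ (FibCat.diag f) (dbcM f (cg f y)) y (secPair f y)
    (Groth.Agent.H3.AlgStDiagRep.chartIso f y).symm h1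

theorem main (h𝒳 : AlgSt.IsAlgStack Scheme.fppfPrecoverage 𝒳)
    (h𝒴 : AlgSt.IsAlgStack Scheme.fppfPrecoverage 𝒴) (f : 𝒳 ⥤ᵇ 𝒴) :
    (AlgSt.RepByAlgSpWith AlgSp.IsLocallySeparatedMor (FibCat.inertiaToBase f) →
        AlgSt.IsImm (FibCat.inertiaNeutral f)) ∧
      (AlgSt.RepByAlgSpWith AlgSp.IsLocallySeparatedMor (FibCat.diag f) →
        AlgSt.IsImm (FibCat.inertiaNeutral f)) := by
  have h𝒳g := h𝒳.isStack.1
  have h𝒴g := h𝒴.isStack.1
  have hI := isFibGrpd_inertia f h𝒳g h𝒴g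
  have key : AlgSt.RepByAlgSpWith AlgSp.IsLocallySeparatedMor (FibCat.inertiaToBase f) →
      AlgSt.IsImm (FibCat.inertiaNeutral f) := fun h =>
    repByAlgSpWith_inertiaNeutral_of_diag f _
      (diag_isImm_of_locSep hI h𝒳g (FibCat.inertiaToBase f) h)
  exact ⟨key, fun h => key (repByAlgSpWith_inertiaToBase_of_diag f _ h)⟩

end Groth.Agent.H4.LsiA
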