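import Mathlib

set_option autoImplicit false
universe u
open TensorProduct

namespace Groth.Agent.H4.MaxEtSub

variable {k : Type u} [Field k] {B : Type u} [CommRing B] [Algebra k B]

/-- finite formally unramified subalgebras -/
def IsFU (E : Subalgebra k B) : Prop := Module.Finite k E ∧ Algebra.FormallyUnramified k E

theorem isFU_range {R : Type u} [CommRing R] [Algebra k R] [Module.Finite k R]
    [Algebra.FormallyUnramified k R] (f : R →ₐ[k] B) : IsFU f.range := by
  refine ⟨?_, ?_⟩
  · exact Module.Finite.of_surjective f.rangeRestrict.toLinearMap f.rangeRestrict_surjective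
  · exact Algebra.FormallyUnramified.of_surjective f.rangeRestrict f.rangeRestrict_surjective

theorem isFU_bot : IsFU (⊥ : Subalgebra k B) := by
  rw [← Algebra.range_ofId]
  exact isFU_range (Algebra.ofId k B)

theorem isFU_sup {E E' : Subalgebra k B} (h : IsFU E) (h' : IsFU E') : IsFU (E ⊔ E') := by
  obtain ⟨h1, h2⟩ := h
  obtain ⟨h1', h2'⟩ := h'
  have : Algebra.FormallyUnramified k (E ⊗[k] E') := Algebra.FormallyUnramified.comp k E (E ⊗[k] E')
  have key := isFU_range (Algebra.TensorProduct.productMap E.val E'.val)
  rwa [Algebra.TensorProduct.productMap_range, Subalgebra.range_val, Subalgebra.range_val] at key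

theorem isFU_idem (e : B) (he : IsIdempotentElem e) :
    ∃ E : Subalgebra k B, IsFU E ∧ e ∈ E ∧ ∀ A : Subalgebra k B, e ∈ A → E ≤ A := by
  let φl : (Fin 2 → k) →ₗ[k] B :=
    (LinearMap.proj 0 : (Fin 2 → k) →ₗ[k] k).smulRight e +
      (LinearMap.proj 1 : (Fin 2 → k) →ₗ[k] k).smulRight (1 - e)
  have hφl : ∀ f, φl f = f 0 • e + f 1 • (1 - e) := fun f => rfl
  let φ : (Fin 2 → k) →ₐ[k] B := AlgHom.ofLinearMap φl
    (by rw [hφl]; simp)
    (by
      intro f g
      rw [hφl, hφl, hφl]
      simp only [Pi.mul_apply, Algebra.smul_def, map_mul]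
      have he' : e * e = e := he
      linear_combination (-(algebraMap k B (f 0) * algebraMap k B (g 0)
        - algebraMap k B (f 0) * algebraMap k B (g 1)
        - algebraMap k B (f 1) * algebraMap k B (g 0)
        + algebraMap k B (f 1) * algebraMap k B (g 1))) * he')
  refine ⟨φ.range, isFU_range φ, ⟨Pi.single 0 1, ?_⟩, ?_⟩
  · change φl _ = e
    rw [hφl]
    simp
  · rintro A hA _ ⟨f, rfl⟩
    change φl f ∈ A
    rw [hφl]
    exact A.add_mem (A.smul_mem hA _) (A.smul_mem (A.sub_mem A.one_mem hA) _)

theorem exists_vn {E : Type u} [CommRing E] [IsArtinianRing E] [IsReduced E] (x : E) :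
    ∃ y : E, x = x * x * y := by
  obtain ⟨n, y, hy⟩ := IsArtinian.exists_pow_succ_smul_dvd x (1 : E)
  refine ⟨y, ?_⟩
  have h1 : x ^ n * (1 - x * y) = 0 := by
    simp only [smul_eq_mul, mul_one, Nat.succ_eq_add_one, pow_succ] at hy
    linear_combination -hy
  have hz : (x - x * x * y) ^ (n + 1) = 0 := by
    have e1 : x - x * x * y = x * (1 - x * y) := by ring
    rw [e1, mul_pow, pow_succ x n, pow_succ (1 - x * y) n]
    calc x ^ n * x * ((1 - x * y) ^ n * (1 - x * y))
        = x * (1 - x * y) ^ n * (x ^ n * (1 - x * y)) := by ring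
      _ = 0 := by rw [h1, mul_zero]
  have := IsReduced.eq_zero _ ⟨n + 1, hz⟩
  linear_combination this

theorem exists_bound [Algebra.FiniteType k B] :
    ∃ N : ℕ, ∀ E : Subalgebra k B, IsFU E → Module.finrank k E ≤ N := by
  classical
  have : IsNoetherianRing B := Algebra.FiniteType.isNoetherianRing k B
  have hfin : (minimalPrimes B).Finite := minimalPrimes.finite_of_isNoetherianRing B
  have : Finite (minimalPrimes B) := hfin.to_subtype
  have hmax : ∀ P : minimalPrimes B, ∃ m : Ideal B, m.IsMaximal ∧ P.1 ≤ m := fun P =>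
    Ideal.exists_le_maximal P.1 P.2.1.1.ne_top
  choose m hm hPm using hmax
  have : ∀ P, (m P).IsMaximal := hm
  letI : ∀ P, Field (B ⧸ m P) := fun P => Ideal.Quotient.field (m P)
  have : ∀ P, Algebra.FiniteType k (B ⧸ m P) := fun P =>
    Algebra.FiniteType.of_surjective (Ideal.Quotient.mkₐ k (m P))
      (Ideal.Quotient.mkₐ_surjective k _)
  have : ∀ P, Module.Finite k (B ⧸ m P) := fun P =>
    finite_of_finite_type_of_isJacobsonRing k (B ⧸ m P)
  let ψ : B →ₐ[k] (∀ P : minimalPrimes B, B ⧸ m P) :=
    Pi.algHom k _ (fun P => Ideal.Quotient.mkₐ k (m P))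
  refine ⟨Module.finrank k (∀ P : minimalPrimes B, B ⧸ m P), fun E hE => ?_⟩
  obtain ⟨hE1, hE2⟩ := hE
  apply LinearMap.finrank_le_finrank_of_injective (f := (ψ.comp E.val).toLinearMap)
  rw [← LinearMap.ker_eq_bot, LinearMap.ker_eq_bot']
  intro x hx
  have hxm : ∀ P, (x : B) ∈ m P := fun P =>
    Ideal.Quotient.eq_zero_iff_mem.1 (congrFun hx P)
  have : IsArtinianRing E := IsArtinianRing.of_finite k E
  have : IsReduced E := Algebra.FormallyUnramified.isReduced_of_field k E
  obtain ⟨y, hy⟩ := exists_vn x
  have hyB : (x : B) = x * x * y := by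
    have := congrArg (Subtype.val) hy
    simpa using this
  set e : B := (x : B) * (y : B) with he_def
  have he : IsIdempotentElem e := by
    change e * e = e
    rw [he_def]
    linear_combination (-(y : B)) * hyB
  have hem : ∀ P, e ∈ m P := fun P => (m P).mul_mem_right _ (hxm P)
  have heP : ∀ P : minimalPrimes B, e ∈ P.1 := by
    intro P
    have : P.1.IsPrime := P.2.1.1
    have h0 : e * (1 - e) ∈ P.1 := by
      have : e * (1 - e) = 0 := by
        have he' : e * e = e := he
        linear_combination -he'
      rw [this]; exact P.1.zero_mem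
    rcases Ideal.IsPrime.mem_or_mem inferInstance h0 with h | h
    · exact h
    · exfalso
      have h1 : (1 : B) ∈ m P := by
        have := (m P).add_mem (hPm P h) (hem P)
        simpa using this
      exact (hm P).ne_top ((Ideal.eq_top_iff_one _).2 h1)
  have henil : e ∈ (⊥ : Ideal B).radical := by
    rw [← Ideal.sInf_minimalPrimes]
    exact Ideal.mem_sInf.2 (fun {P} hP => heP ⟨P, hP⟩)
  obtain ⟨n, hn⟩ := henil
  have hn0 : e ^ n = 0 := by simpa using hn
  have he0 : e = 0 := by
    rw [← he.pow_succ_eq n, pow_succ, hn0, zero_mul]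
  have hx0 : (x : B) = 0 := by
    rw [hyB, mul_assoc, ← he_def, he0, mul_zero]
  exact Subtype.ext hx0

theorem exists_max [Algebra.FiniteType k B] (A : Subalgebra k B) :
    ∃ E : Subalgebra k B, E ≤ A ∧ IsFU E ∧ ∀ E' : Subalgebra k B, E' ≤ A → IsFU E' → E' ≤ E := by
  classical
  obtain ⟨N, hN⟩ := exists_bound (k := k) (B := B)
  let P : ℕ → Prop := fun n => ∃ E : Subalgebra k B, E ≤ A ∧ IsFU E ∧ Module.finrank k E = n
  have h0 : P (Module.finrank k (⊥ : Subalgebra k B)) := ⟨⊥, bot_le, isFU_bot, rfl⟩
  have hle0 : Module.finrank k (⊥ : Subalgebra k B) ≤ N := hN _ isFU_bot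
  obtain ⟨E, hEA, hE, hEn⟩ := Nat.findGreatest_spec (P := P) hle0 h0
  refine ⟨E, hEA, hE, fun E' hE'A hE' => ?_⟩
  have hsup : IsFU (E ⊔ E') := isFU_sup hE hE'
  have h1 : Module.finrank k ↥(E ⊔ E') ≤ Nat.findGreatest P N :=
    Nat.le_findGreatest (hN _ hsup) ⟨E ⊔ E', sup_le hEA hE'A, hsup, rfl⟩
  rw [← hEn] at h1
  have := hsup.1
  have h2 : Subalgebra.toSubmodule E = Subalgebra.toSubmodule (E ⊔ E') :=
    Submodule.eq_of_le_of_finrank_le (Subalgebra.toSubmodule.le_iff_le.2 le_sup_left) h1
  have hEq : E = E ⊔ E' := Subalgebra.toSubmodule.injective h2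
  calc E' ≤ E ⊔ E' := le_sup_right
    _ = E := hEq.symm

theorem main (k : Type u) [Field k] (B : Type u) [CommRing B] [Algebra k B] [Algebra.FiniteType k B]
    (A : Subalgebra k B) :
    ∃ (E : Subalgebra k B) (hE : E ≤ A), Module.Finite k E ∧ Algebra.Etale k E ∧
      (∀ E' : Subalgebra k B, E' ≤ A → Module.Finite k E' → Algebra.Etale k E' → E' ≤ E) ∧
      Function.Surjective (PrimeSpectrum.comap (Subalgebra.inclusion hE).toRingHom) ∧
      ∀ p q : PrimeSpectrum A, PrimeSpectrum.comap (Subalgebra.inclusion hE).toRingHom p =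
          PrimeSpectrum.comap (Subalgebra.inclusion hE).toRingHom q ↔
        connectedComponent p = connectedComponent q := by
  classical
  obtain ⟨E, hEA, ⟨hE1, hE2⟩, hEmax⟩ := exists_max A
  have := hE1
  have := hE2
  have : Algebra.FormallyEtale k E := Algebra.FormallyEtale.of_formallyUnramified_of_field k E
  have : Algebra.FinitePresentation k E := Algebra.FinitePresentation.of_finiteType.1 inferInstance
  have hEt : Algebra.Etale k E := ⟨inferInstance, inferInstance⟩
  have : IsArtinianRing E := IsArtinianRing.of_finite k E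
  refine ⟨E, hEA, hE1, hEt, ?_, ?_, ?_⟩
  · intro E' hE'A hf het
    have := het.formallyEtale
    exact hEmax E' hE'A ⟨hf, inferInstance⟩
  · intro 𝔮
    have hinj : Function.Injective (Subalgebra.inclusion hEA).toRingHom :=
      Subalgebra.inclusion_injective hEA
    have hmin : 𝔮.asIdeal ∈ minimalPrimes E := by
      rw [Ring.KrullDimLE.minimalPrimes_eq_setOfPred_isPrime]
      exact 𝔮.isPrime
    obtain ⟨p', hp', hpe⟩ := Ideal.exists_comap_eq_of_mem_minimalPrimes_of_injective hinj _ hmin
    exact ⟨⟨p', hp'⟩, PrimeSpectrum.ext hpe⟩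
  · set f := PrimeSpectrum.comap (Subalgebra.inclusion hEA).toRingHom with hf
    have hfc : Continuous f := PrimeSpectrum.continuous_comap _
    intro p q
    constructor
    · intro hpq
      set Z : Set (PrimeSpectrum A) := f ⁻¹' {f p} with hZ
      have hZc : IsClopen Z := (isClopen_discrete {f p}).preimage hfc
      have hclopen : ∀ U : Set (PrimeSpectrum A), IsClopen U → U ⊆ Z → U = ∅ ∨ U = Z := by
        intro U hU hUZ
        obtain ⟨e, he, rfl⟩ := PrimeSpectrum.exists_idempotent_basicOpen_eq_of_isClopen hU
        have heB : IsIdempotentElem (e : B) := by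
          change (e : B) * (e : B) = (e : B)
          have := congrArg Subtype.val he.eq
          simpa using this
        obtain ⟨E'', hE'', heE'', hE''min⟩ := isFU_idem (k := k) (e : B) heB
        have hle : E'' ≤ E := hEmax E'' (hE''min A e.2) hE''
        let ε : E := ⟨(e : B), hle heE''⟩
        have hε : (Subalgebra.inclusion hEA) ε = e := Subtype.ext rfl
        have hU' : ∀ P : PrimeSpectrum A, P ∈ (PrimeSpectrum.basicOpen e : Set _) ↔
            f P ∈ (PrimeSpectrum.basicOpen ε : Set _) := by
          intro P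
          simp only [SetLike.mem_coe, PrimeSpectrum.mem_basicOpen]
          change e ∉ P.asIdeal ↔ (Subalgebra.inclusion hEA) ε ∉ P.asIdeal
          rw [hε]
        by_cases hq : f p ∈ (PrimeSpectrum.basicOpen ε : Set _)
        · right
          ext P
          rw [hU' P]
          constructor
          · intro hP
            exact hUZ ((hU' P).2 hP)
          · intro hP
            have : f P = f p := hP
            rw [this]
            exact hq
        · left
          ext P
          simp only [Set.mem_empty_iff_false, iff_false]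
          intro hP
          have h1 : f P = f p := hUZ hP
          exact hq (h1 ▸ (hU' P).1 hP)
      have hZpre : IsPreconnected Z := by
        intro u v hu hv hZuv hZu hZv
        by_contra hne
        rw [Set.not_nonempty_iff_eq_empty] at hne
        have hU : IsClopen (Z ∩ u) := by
          refine ⟨?_, hZc.isOpen.inter hu⟩
          have : Z ∩ u = Z ∩ vᶜ := by
            ext P
            constructor
            · rintro ⟨hPZ, hPu⟩
              refine ⟨hPZ, fun hPv => ?_⟩
              have : P ∈ Z ∩ (u ∩ v) := ⟨hPZ, hPu, hPv⟩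
              rw [hne] at this
              exact this
            · rintro ⟨hPZ, hPv⟩
              rcases hZuv hPZ with h | h
              · exact ⟨hPZ, h⟩
              · exact absurd h hPv
          rw [this]
          exact hZc.isClosed.inter hv.isClosed_compl
        rcases hclopen _ hU Set.inter_subset_left with h | h
        · rw [h] at hZu
          exact Set.not_nonempty_empty hZu
        · obtain ⟨P, hPZ, hPv⟩ := hZv
          have h3 : P ∈ Z ∩ u := by rw [h]; exact hPZ
          have : P ∈ Z ∩ (u ∩ v) := ⟨hPZ, h3.2, hPv⟩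
          rw [hne] at this
          exact this
      have hpZ : p ∈ Z := rfl
      have hqZ : q ∈ Z := show f q = f p from hpq.symm
      have : q ∈ connectedComponent p := hZpre.subset_connectedComponent hpZ hqZ
      exact connectedComponent_eq this
    · intro hcc
      have hq : q ∈ connectedComponent p := by
        rw [hcc]
        exact mem_connectedComponent
      have hpre : IsPreconnected (f '' connectedComponent p) :=
        isPreconnected_connectedComponent.image f hfc.continuousOn
      exact hpre.subsingleton (Set.mem_image_of_mem f mem_connectedComponent)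
        (Set.mem_image_of_mem f hq)

end Groth.Agent.H4.MaxEtSub
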