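import Mathlib
import Groth.Prelude.Def_MeroSh
import Groth.Agent.Lib.Lead.QC.LocFree
set_option autoImplicit false
universe u
open CategoryTheory AlgebraicGeometry TopologicalSpace Opposite

namespace Groth.Agent.H4.MeroK
open Mero Groth.Agent.LD.QC

variable {X : Scheme.{u}}

lemma mk_one_eq_algebraMap (x : X) (r : X.presheaf.stalk x) :
    (LocalizedModule.mk r 1 : KStalk X x) = algebraMap (X.presheaf.stalk x) (KStalk X x) r := by
  rfl

lemma algebraMap_mul_mk (x : X) (r a : X.presheaf.stalk x) (s : regStalk X x) :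
    algebraMap (X.presheaf.stalk x) (KStalk X x) r * (LocalizedModule.mk a s : KStalk X x) =
      (LocalizedModule.mk (r * a) s : KStalk X x) := by
  rw [← Algebra.smul_def, LocalizedModule.smul'_mk, smul_eq_mul]

lemma mk_eq_zero_iff (x : X) (a : X.presheaf.stalk x) (s : regStalk X x) :
    (LocalizedModule.mk a s : KStalk X x) = 0 ↔ a = 0 := by
  constructor
  · intro h
    rw [← LocalizedModule.zero_mk s, LocalizedModule.mk_eq] at h
    obtain ⟨c, hc⟩ := h
    simp only [smul_zero, Submonoid.smul_def, smul_eq_mul] at hc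
    have h1 := regStalk_le_nonZeroDivisors x (Submonoid.mul_mem _ c.2 s.2)
    exact (mem_nonZeroDivisors_iff.mp h1).1 _ (by simpa [mul_assoc] using hc)
  · rintro rfl
    exact LocalizedModule.zero_mk s

/-- a section of `K_X` which vanishes on `X_h` is locally killed by a power of `h`. -/
lemma exists_local_pow_kill (h : Γ(X, ⊤)) (f : Γ(kmod X, ⊤))
    (hf : ∀ (x : X), x ∈ X.basicOpen h → f.1 ⟨x, trivial⟩ = 0) (x : X) :
    ∃ (W : X.Opens) (n : ℕ), x ∈ W ∧ ∀ y ∈ W, ∀ m, n ≤ m →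
      algebraMap (X.presheaf.stalk y) (KStalk X y) (X.presheaf.germ ⊤ y trivial h) ^ m *
        f.1 ⟨y, trivial⟩ = 0 := by
  obtain ⟨V, hxV, i, a, b, hab⟩ := f.2 ⟨x, trivial⟩
  obtain ⟨W, hW, hxW, hWV0⟩ := exists_isAffineOpen_mem_and_subset (x := x) (U := V) hxV
  have hWV : W ≤ V := hWV0
  clear hWV0
  let a' : Γ(X, W) := X.presheaf.map (homOfLE hWV).op a
  let h' : Γ(X, W) := X.presheaf.map (homOfLE (le_top : W ≤ ⊤)).op h
  have hDle : X.basicOpen h' ≤ X.basicOpen h := by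
    rw [Scheme.basicOpen_res]; exact inf_le_right
  -- `a'` vanishes on `D(h')`
  have h0 : X.presheaf.map (homOfLE (X.basicOpen_le h')).op a' = 0 := by
    apply TopCat.Presheaf.section_ext X.sheaf
    intro y hy
    have hyV : y ∈ V := hWV (X.basicOpen_le h' hy)
    have h1 := hab ⟨y, hyV⟩
    have h2 : f.1 ⟨y, trivial⟩ = 0 := hf y (hDle hy)
    have h3 : (LocalizedModule.mk (X.presheaf.germ V y hyV a) (regGerm ⟨y, hyV⟩ b) : KStalk X y) = 0 :=
      h1.symm.trans h2
    rw [mk_eq_zero_iff] at h3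
    change X.presheaf.germ _ y hy (X.presheaf.map _ (X.presheaf.map _ a)) =
      X.presheaf.germ _ y hy 0
    rw [TopCat.Presheaf.germ_res_apply, TopCat.Presheaf.germ_res_apply, map_zero]
    exact h3
  haveI : IsLocalization.Away h' Γ(X, X.basicOpen h') := hW.isLocalization_basicOpen h'
  obtain ⟨⟨_, n, rfl⟩, hn⟩ := (IsLocalization.map_eq_zero_iff (Submonoid.powers h')
    Γ(X, X.basicOpen h') a').mp h0
  refine ⟨W, n, hxW, ?_⟩
  intro y hyW m hm
  have hyV : y ∈ V := hWV hyW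
  have h1 : f.1 ⟨y, trivial⟩ =
      LocalizedModule.mk (X.presheaf.germ V y hyV a) (regGerm ⟨y, hyV⟩ b) := hab ⟨y, hyV⟩
  rw [h1, ← map_pow, algebraMap_mul_mk, mk_eq_zero_iff]
  have h2 : X.presheaf.germ ⊤ y trivial h = X.presheaf.germ W y hyW h' :=
    (TopCat.Presheaf.germ_res_apply _ _ _ _ _).symm
  have h3 : X.presheaf.germ V y hyV a = X.presheaf.germ W y hyW a' :=
    (TopCat.Presheaf.germ_res_apply _ _ _ _ _).symm
  rw [h2, h3, ← map_pow, ← map_mul]
  have h4 : h' ^ m * a' = 0 := by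
    have : h' ^ m = h' ^ (m - n) * h' ^ n := by rw [← pow_add]; congr 1; omega
    rw [this, mul_assoc]
    change _ * (h' ^ n * a') = 0
    rw [hn, mul_zero]
  rw [h4, map_zero]

theorem exists_pow_mul_eq_zero [CompactSpace X] (h : Γ(X, ⊤)) (f : Γ(kmod X, ⊤))
    (hf : (kmod X).presheaf.map (homOfLE (le_top : X.basicOpen h ≤ ⊤)).op f = 0) :
    ∃ n : ℕ, toK X ⊤ h ^ n * f = 0 := by
  have hf' : ∀ (x : X), x ∈ X.basicOpen h → f.1 ⟨x, trivial⟩ = 0 := by
    intro x hx
    have := congrArg (fun g => g.1 ⟨x, hx⟩) hf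
    exact this
  choose W n hxW hW using exists_local_pow_kill h f hf'
  obtain ⟨t, ht⟩ := isCompact_univ.elim_nhds_subcover (fun x => (W x : Set X))
    (fun x _ => (W x).2.mem_nhds (hxW x))
  refine ⟨t.sup n, ?_⟩
  apply Subtype.ext
  funext y
  obtain ⟨x, hxt, hyx⟩ : ∃ x ∈ t, y.1 ∈ W x := by
    have := ht.2 (Set.mem_univ y.1)
    simpa using this
  have key := hW x y.1 hyx (t.sup n) (Finset.le_sup hxt)
  change (evalK X ⊤ y) (toK X ⊤ h ^ t.sup n * f) = 0
  rw [map_mul, map_pow]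
  exact key

end Groth.Agent.H4.MeroK
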