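import Mathlib
import Groth.Agent.H4.MeroK
import Groth.Agent.Lib.Lead.QC.Flat
set_option autoImplicit false
universe u
open CategoryTheory AlgebraicGeometry TopologicalSpace Opposite

namespace Groth.Agent.H4.MeroK
open Mero Groth.Agent.LD.QC

variable {X : Scheme.{u}}

/-- a section of `K_X` over `U` which vanishes on `U ∩ X_h` is locally killed by a power of `h`. -/
lemma exists_local_pow_kill' {U : X.Opens} (h : Γ(X, U)) (f : Γ(kmod X, U))
    (hf : ∀ (x : X) (hx : x ∈ U), x ∈ X.basicOpen h → f.1 ⟨x, hx⟩ = 0) (x : X) (hxU : x ∈ U) :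
    ∃ (W : X.Opens) (n : ℕ), x ∈ W ∧ ∀ y (hy : y ∈ U), y ∈ W → ∀ m, n ≤ m →
      algebraMap (X.presheaf.stalk y) (KStalk X y) (X.presheaf.germ U y hy h) ^ m *
        f.1 ⟨y, hy⟩ = 0 := by
  obtain ⟨V, hxV, i, a, b, hab⟩ := f.2 ⟨x, hxU⟩
  have hVU : V ≤ U := i.le
  obtain ⟨W, hW, hxW, hWV0⟩ := exists_isAffineOpen_mem_and_subset (x := x) (U := V) hxV
  have hWV : W ≤ V := hWV0
  clear hWV0
  let a' : Γ(X, W) := X.presheaf.map (homOfLE hWV).op a
  let h' : Γ(X, W) := X.presheaf.map (homOfLE (hWV.trans hVU)).op h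
  have hDle : X.basicOpen h' ≤ X.basicOpen h := by
    rw [Scheme.basicOpen_res]; exact inf_le_right
  -- `a'` vanishes on `D(h')`
  have h0 : X.presheaf.map (homOfLE (X.basicOpen_le h')).op a' = 0 := by
    apply TopCat.Presheaf.section_ext X.sheaf
    intro y hy
    have hyV : y ∈ V := hWV (X.basicOpen_le h' hy)
    have h1 := hab ⟨y, hyV⟩
    have h2 : f.1 ⟨y, hVU hyV⟩ = 0 := hf y (hVU hyV) (hDle hy)
    have h3 : (LocalizedModule.mk (X.presheaf.germ V y hyV a) (regGerm ⟨y, hyV⟩ b) : KStalk X y) = 0 :=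
      h1.symm.trans h2
    rw [mk_eq_zero_iff] at h3
    change X.presheaf.germ _ y hy (X.presheaf.map _ (X.presheaf.map _ a)) =
      X.presheaf.germ _ y hy 0
    rw [TopCat.Presheaf.germ_res_apply, TopCat.Presheaf.germ_res_apply, map_zero]
    exact h3
  haveI : IsLocalization.Away h' Γ(X, X.basicOpen h') := hW.isLocalization_basicOpen h'
  obtain ⟨⟨_, n, rfl⟩, hn⟩ := (IsLocalization.map_eq_zero_iff (Submonoid.powers h')
    Γ(X, X.basicOpen h') a').mp h0
  refine ⟨W, n, hxW, ?_⟩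
  intro y hyU hyW m hm
  have hyV : y ∈ V := hWV hyW
  have h1 : f.1 ⟨y, hyU⟩ =
      LocalizedModule.mk (X.presheaf.germ V y hyV a) (regGerm ⟨y, hyV⟩ b) := hab ⟨y, hyV⟩
  rw [h1, ← map_pow, algebraMap_mul_mk, mk_eq_zero_iff]
  have h2 : X.presheaf.germ U y hyU h = X.presheaf.germ W y hyW h' :=
    (TopCat.Presheaf.germ_res_apply _ _ _ _ _).symm
  have h3 : X.presheaf.germ V y hyV a = X.presheaf.germ W y hyW a' :=
    (TopCat.Presheaf.germ_res_apply _ _ _ _ _).symm
  rw [h2, h3, ← map_pow, ← map_mul]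
  have h4 : h' ^ m * a' = 0 := by
    have : h' ^ m = h' ^ (m - n) * h' ^ n := by rw [← pow_add]; congr 1; omega
    rw [this, mul_assoc]
    change _ * (h' ^ n * a') = 0
    rw [hn, mul_zero]
  rw [h4, map_zero]

theorem exists_pow_mul_eq_zero' {U : X.Opens} (hUc : IsCompact (U : Set X)) (h : Γ(X, U))
    (f : Γ(kmod X, U))
    (hf : ∀ (x : X) (hx : x ∈ U), x ∈ X.basicOpen h → f.1 ⟨x, hx⟩ = 0) :
    ∃ n : ℕ, toK X U h ^ n * f = 0 := by
  have key := fun (x : U) => exists_local_pow_kill' h f hf x.1 x.2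
  choose W n hxW hW using key
  obtain ⟨t, ht⟩ := hUc.elim_nhds_subcover' (fun x hx => (W ⟨x, hx⟩ : Set X))
    (fun x hx => (W ⟨x, hx⟩).2.mem_nhds (hxW ⟨x, hx⟩))
  refine ⟨t.sup (fun x => n ⟨x.1, x.2⟩), ?_⟩
  apply Subtype.ext
  funext y
  obtain ⟨x, hxt, hyx⟩ : ∃ x ∈ t, y.1 ∈ W ⟨x.1, x.2⟩ := by
    have := ht y.2
    simpa using this
  have key := hW ⟨x.1, x.2⟩ y.1 y.2 hyx (t.sup (fun x => n ⟨x.1, x.2⟩))
    (Finset.le_sup (f := fun x => n ⟨x.1, x.2⟩) hxt)
  change (evalK X U y) (toK X U h ^ t.sup (fun x => n ⟨x.1, x.2⟩) * f) = 0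
  rw [map_mul, map_pow]
  exact key

/-- in a Noetherian ring, an ideal which at every prime contains an element that is a
"nonzerodivisor at that prime" contains a nonzerodivisor. -/
theorem exists_mem_nonZeroDivisors_of_local {A : Type*} [CommRing A] [IsNoetherianRing A]
    (I : Ideal A)
    (h : ∀ (q : Ideal A) [q.IsPrime], ∃ c ∈ I, ∀ t : A, t * c = 0 → ∃ s, s ∉ q ∧ s * t = 0) :
    ∃ c ∈ I, c ∈ nonZeroDivisors A := by
  by_contra hcon
  push Not at hcon
  have hdis : Disjoint (I : Set A) (nonZeroDivisors A) := by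
    rw [Set.disjoint_left]
    exact fun c hc => hcon c hc
  obtain ⟨t, ht, ht0⟩ := Submodule.exists_mem_ne_zero_of_ne_bot
    (Ideal.bot_lt_annihilator_of_disjoint_nonZeroDivisors hdis).ne'
  have hann : (Ideal.span {t}).annihilator ≠ ⊤ := by
    intro h1
    have : (1 : A) ∈ (Ideal.span {t}).annihilator := h1 ▸ Submodule.mem_top
    rw [Submodule.mem_annihilator_span_singleton] at this
    exact ht0 (by simpa using this)
  obtain ⟨q, hq, hle⟩ := Ideal.exists_le_maximal _ hann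
  haveI := hq.isPrime
  obtain ⟨c, hcI, hc⟩ := h q
  have htc : t * c = 0 := by
    have := (Module.mem_annihilator.mp ht) ⟨c, hcI⟩
    have h2 := congrArg Subtype.val this
    simpa [smul_eq_mul] using h2
  obtain ⟨s, hsq, hst⟩ := hc t htc
  apply hsq
  apply hle
  rw [Submodule.mem_annihilator_span_singleton]
  exact hst

/-- the ideal of denominators of a meromorphic function over `U`. -/
def denK (U : X.Opens) (z : Γ(kmod X, U)) : Ideal Γ(X, U) where
  carrier := {c | ∃ a, toK X U c * z = toK X U a}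
  zero_mem' := ⟨0, by simp⟩
  add_mem' := by
    rintro c d ⟨a, ha⟩ ⟨b, hb⟩
    exact ⟨a + b, by rw [map_add, add_mul, ha, hb, map_add]⟩
  smul_mem' := by
    rintro r c ⟨a, ha⟩
    exact ⟨r * a, by rw [smul_eq_mul, map_mul, mul_assoc, ha, map_mul]⟩

lemma mem_denK {U : X.Opens} (z : Γ(kmod X, U)) (c : Γ(X, U)) :
    c ∈ denK U z ↔ ∃ a, toK X U c * z = toK X U a := Iff.rfl

lemma toK_injective (U : X.Opens) : Function.Injective (toK X U) := by
  intro a b hab
  apply TopCat.Presheaf.section_ext X.sheaf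
  intro y hy
  have h1 := congrArg (fun g => g.1 ⟨y, hy⟩) hab
  exact algebraMap_KStalk_injective y h1

lemma evalK_toK (U : X.Opens) (y : U) (r : Γ(X, U)) :
    evalK X U y (toK X U r) =
      algebraMap (X.presheaf.stalk y.1) (KStalk X y.1) (X.presheaf.germ U y.1 y.2 r) := rfl

set_option maxHeartbeats 800000 in
/-- around every point of an affine open, some denominator of `z` has a nonzerodivisor germ. -/
theorem exists_mem_denK_germ_mem_nonZeroDivisors {U : X.Opens} (hU : IsAffineOpen U)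
    (z : Γ(kmod X, U)) (x : X) (hxU : x ∈ U) :
    ∃ c ∈ denK U z, X.presheaf.germ U x hxU c ∈ nonZeroDivisors (X.presheaf.stalk x) := by
  obtain ⟨V, hxV, i, a, b, hab⟩ := z.2 ⟨x, hxU⟩
  have hVU : V ≤ U := i.le
  obtain ⟨e, heV, hxe⟩ := hU.exists_basicOpen_le (V := V) ⟨x, hxV⟩ hxU
  have hDU : X.basicOpen e ≤ U := X.basicOpen_le e
  haveI : IsLocalization.Away e Γ(X, X.basicOpen e) := hU.isLocalization_basicOpen e
  obtain ⟨⟨a₀, ⟨_, k, rfl⟩⟩, hk⟩ := IsLocalization.surj (Submonoid.powers e)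
    (X.presheaf.map (homOfLE heV).op a)
  obtain ⟨⟨b₀, ⟨_, l, rfl⟩⟩, hl⟩ := IsLocalization.surj (Submonoid.powers e)
    (X.presheaf.map (homOfLE heV).op b.1)
  have hk' : X.presheaf.map (homOfLE heV).op a * (X.presheaf.map (homOfLE hDU).op e) ^ k =
      X.presheaf.map (homOfLE hDU).op a₀ := by
    rw [← map_pow]; exact hk
  have hl' : X.presheaf.map (homOfLE heV).op b.1 * (X.presheaf.map (homOfLE hDU).op e) ^ l =
      X.presheaf.map (homOfLE hDU).op b₀ := by
    rw [← map_pow]; exact hl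
  -- germ versions
  have gk : ∀ y (hy : y ∈ X.basicOpen e), X.presheaf.germ V y (heV hy) a *
      X.presheaf.germ U y (hDU hy) e ^ k = X.presheaf.germ U y (hDU hy) a₀ := by
    intro y hy
    have := congrArg (X.presheaf.germ (X.basicOpen e) y hy) hk'
    rw [map_mul, map_pow, TopCat.Presheaf.germ_res_apply, TopCat.Presheaf.germ_res_apply,
      TopCat.Presheaf.germ_res_apply] at this
    exact this
  have gl : ∀ y (hy : y ∈ X.basicOpen e), X.presheaf.germ V y (heV hy) b.1 *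
      X.presheaf.germ U y (hDU hy) e ^ l = X.presheaf.germ U y (hDU hy) b₀ := by
    intro y hy
    have := congrArg (X.presheaf.germ (X.basicOpen e) y hy) hl'
    rw [map_mul, map_pow, TopCat.Presheaf.germ_res_apply, TopCat.Presheaf.germ_res_apply,
      TopCat.Presheaf.germ_res_apply] at this
    exact this
  let w : Γ(kmod X, U) := toK X U (e ^ k * b₀) * z - toK X U (e ^ l * a₀)
  have hw : ∀ (y : X) (hy : y ∈ U), y ∈ X.basicOpen e → w.1 ⟨y, hy⟩ = 0 := by
    intro y hy hye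
    have hyV : y ∈ V := heV hye
    have h1 : z.1 ⟨y, hy⟩ =
        LocalizedModule.mk (X.presheaf.germ V y hyV a) (regGerm ⟨y, hyV⟩ b) := hab ⟨y, hyV⟩
    change evalK X U ⟨y, hy⟩ (toK X U (e ^ k * b₀) * z - toK X U (e ^ l * a₀)) = 0
    rw [map_sub, map_mul, evalK_toK, evalK_toK]
    change algebraMap _ _ _ * z.1 ⟨y, hy⟩ - _ = 0
    rw [h1, algebraMap_mul_mk, sub_eq_zero, ← mk_one_eq_algebraMap, LocalizedModule.mk_eq]
    refine ⟨1, ?_⟩
    simp only [one_smul, Submonoid.smul_def, smul_eq_mul]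
    change _ = X.presheaf.germ V y hyV b.1 * _
    rw [map_mul, map_mul, map_pow, map_pow, ← gk y hye, ← gl y hye]
    ring
  obtain ⟨n, hn⟩ := exists_pow_mul_eq_zero' hU.isCompact e w hw
  refine ⟨e ^ n * (e ^ k * b₀), ⟨e ^ n * (e ^ l * a₀), ?_⟩, ?_⟩
  · have h2 : toK X U e ^ n * (toK X U (e ^ k * b₀) * z - toK X U (e ^ l * a₀)) = 0 := hn
    rw [map_mul (toK X U) (e ^ n), map_mul (toK X U) (e ^ n), map_pow]
    rw [mul_sub, sub_eq_zero] at h2
    rw [mul_assoc]
    exact h2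
  · have hu : IsUnit (X.presheaf.germ U x hxU e) := (X.mem_basicOpen e x hxU).mp hxe
    rw [map_mul, map_mul, map_pow, map_pow, ← gl x hxe]
    refine Submonoid.mul_mem _ (Submonoid.pow_mem _ hu.mem_nonZeroDivisors _)
      (Submonoid.mul_mem _ (Submonoid.pow_mem _ hu.mem_nonZeroDivisors _)
        (Submonoid.mul_mem _ (b.2 ⟨x, hxV⟩) (Submonoid.pow_mem _ hu.mem_nonZeroDivisors _)))

/-- a nonzerodivisor of the ring of an affine open is a regular section. -/
lemma mem_regSub_of_mem_nonZeroDivisors {U : X.Opens} (hU : IsAffineOpen U) (a : Γ(X, U))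
    (ha : a ∈ nonZeroDivisors Γ(X, U)) : a ∈ regSub X U := by
  intro y
  letI : Algebra Γ(X, U) (X.presheaf.stalk y.1) :=
    TopCat.Presheaf.algebra_section_stalk X.presheaf y
  haveI := hU.isLocalization_stalk y
  exact IsLocalization.map_nonZeroDivisors_le (hU.primeIdealOf y).asIdeal.primeCompl
    (X.presheaf.stalk y.1) ⟨a, ha, rfl⟩

/-- the inverse of a regular section in `K_X`. -/
noncomputable def invK (U : X.Opens) (b : regSub X U) : Γ(kmod X, U) :=
  ⟨fun y => LocalizedModule.mk 1 (regGerm y b), fun y => ⟨U, y.2, 𝟙 _, 1, b, fun w =>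
    mk_congr (by
      change (1 : X.presheaf.stalk w.1) = X.presheaf.germ U w.1 w.2 (1 : Γ(X, U))
      rw [map_one]) rfl⟩⟩

lemma toK_mul_invK (U : X.Opens) (b : regSub X U) : toK X U b.1 * invK U b = 1 := by
  apply Subtype.ext
  funext y
  change (LocalizedModule.mk (X.presheaf.germ U y.1 y.2 b.1) 1 : KStalk X y.1) *
    LocalizedModule.mk 1 (regGerm y b) = 1
  refine LocalizedModule.mk_mul_mk.trans ?_
  rw [mul_one, one_mul]
  exact mk_self_eq_one (regGerm y b)

/-- **`K_X(U)` is the total ring of fractions of `O_X(U)`** for `U` affine, `X` locally Noetherian. -/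
theorem isLocalization_kmod [IsLocallyNoetherian X] (U : X.affineOpens) :
    @IsLocalization Γ(X, U.1) _ (nonZeroDivisors Γ(X, U.1)) Γ(kmod X, U.1) _
      (toK X U.1).toAlgebra := by
  letI := (toK X U.1).toAlgebra
  haveI : IsNoetherianRing Γ(X, U.1) := IsLocallyNoetherian.component_noetherian U
  refine (isLocalization_iff _ _).mpr ⟨?_, ?_, ?_⟩
  · rintro ⟨a, ha⟩
    have hb := mem_regSub_of_mem_nonZeroDivisors U.2 a ha
    exact IsUnit.of_mul_eq_one _ (toK_mul_invK U.1 ⟨a, hb⟩)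
  · intro z
    obtain ⟨c, hcI, hc⟩ := exists_mem_nonZeroDivisors_of_local (denK U.1 z) (by
      intro q _
      let x : X := U.2.fromSpec ⟨q, inferInstance⟩
      have hxU : x ∈ U.1 := fromSpec_mem U.2 _
      obtain ⟨c, hcI, hc⟩ := exists_mem_denK_germ_mem_nonZeroDivisors U.2 z x hxU
      refine ⟨c, hcI, ?_⟩
      intro t htc
      letI : Algebra Γ(X, U.1) (X.presheaf.stalk x) :=
        TopCat.Presheaf.algebra_section_stalk X.presheaf ⟨x, hxU⟩
      haveI := U.2.isLocalization_stalk ⟨x, hxU⟩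
      have h1 : X.presheaf.germ U.1 x hxU t * X.presheaf.germ U.1 x hxU c = 0 := by
        rw [← map_mul, htc, map_zero]
      have h2 : X.presheaf.germ U.1 x hxU t = 0 := (mem_nonZeroDivisors_iff_right.mp hc) _ h1
      obtain ⟨⟨s, hs'⟩, hs⟩ := (IsLocalization.map_eq_zero_iff
        (U.2.primeIdealOf ⟨x, hxU⟩).asIdeal.primeCompl (X.presheaf.stalk x) t).mp h2
      refine ⟨s, ?_, hs⟩
      have h3 : U.2.primeIdealOf ⟨x, hxU⟩ = ⟨q, inferInstance⟩ :=
        primeIdealOf_fromSpec U.2 ⟨q, inferInstance⟩ hxU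
      have h4 : s ∉ (U.2.primeIdealOf ⟨x, hxU⟩).asIdeal := hs'
      rw [h3] at h4
      exact h4)
    obtain ⟨a, ha⟩ := hcI
    exact ⟨⟨a, ⟨c, hc⟩⟩, by rw [mul_comm]; exact ha⟩
  · intro a b hab
    exact ⟨1, by rw [toK_injective U.1 hab]⟩

end Groth.Agent.H4.MeroK
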