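import Mathlib
import Groth.Agent.H4.MeroK2
import Groth.Agent.Lib.Lead.QC.WeakAssReduced
import Groth.Agent.Lib.Helper8.FlatUnram
set_option autoImplicit false
universe u
open CategoryTheory AlgebraicGeometry TopologicalSpace Opposite

namespace Groth.Agent.H4.MeroK
open Mero Groth.Agent.LD.QC

/-- an element of a minimal prime `q ≤ p` becomes a zero divisor in the localization at `p`. -/
theorem algebraMap_notMem_nonZeroDivisors_of_mem_minimalPrimes {A : Type*} [CommRing A]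
    (p q : Ideal A) [p.IsPrime] (hq : q ∈ minimalPrimes A) (hqp : q ≤ p) (a : A) (ha : a ∈ q)
    (Ap : Type*) [CommRing Ap] [Algebra A Ap] [IsLocalization.AtPrime Ap p] :
    algebraMap A Ap a ∉ nonZeroDivisors Ap := by
  haveI := hq.1.1
  have hIq : RingHom.ker (algebraMap A Ap) ≤ q := by
    intro r hr
    rw [RingHom.mem_ker, IsLocalization.map_eq_zero_iff p.primeCompl] at hr
    obtain ⟨s, hs⟩ := hr
    have hsq : s.1 ∉ q := fun h => s.2 (hqp h)
    have : s.1 * r ∈ q := by rw [hs]; exact q.zero_mem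
    exact (Ideal.IsPrime.mem_or_mem inferInstance this).resolve_left hsq
  have hmin : q ∈ (RingHom.ker (algebraMap A Ap)).minimalPrimes := by
    refine ⟨⟨inferInstance, hIq⟩, ?_⟩
    rintro q' ⟨hq', -⟩ hle
    exact hq.2 ⟨hq', bot_le⟩ hle
  obtain ⟨y, hy, hay⟩ := Ideal.exists_mul_mem_of_mem_minimalPrimes hmin ha
  intro hnzd
  apply hy
  rw [RingHom.mem_ker] at hay ⊢
  rw [map_mul] at hay
  exact (mem_nonZeroDivisors_iff.mp hnzd).1 _ hay

variable {X : Scheme.{u}}

lemma primeIdealOf_mem_iff {U : X.Opens} (hU : IsAffineOpen U) (x : X) (hx : x ∈ U) (a : Γ(X, U)) :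
    a ∈ (hU.primeIdealOf ⟨x, hx⟩).asIdeal ↔ x ∉ X.basicOpen a := by
  constructor
  · intro h hxa
    exact mem_primeCompl_of_mem_basicOpen hU x hx a hxa h
  · intro h
    by_contra hc
    exact h (mem_basicOpen_of_mem_primeCompl hU x hx a hc)

/-- under hypothesis (a), a zero divisor of the ring of an affine open lies in the prime of a
maximal point. -/
theorem exists_minimal_of_mul_eq_zero
    (ha : ∀ x : X, Curv2.IsWeakAssPoint (Coh.structureModule X) x → ∀ y : X, y ⤳ x → y = x)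
    {U : X.Opens} (hU : IsAffineOpen U) (c n : Γ(X, U)) (hn : n ≠ 0) (hcn : c * n = 0) :
    ∃ (w : X) (hw : w ∈ U), (∀ y : X, y ⤳ w → y = w) ∧ c ∈ (hU.primeIdealOf ⟨w, hw⟩).asIdeal := by
  obtain ⟨w, hw, hwa, hann⟩ := exists_isWeakAssPoint_of_ne_zero' (Coh.structureModule X) hU
    (show Γ(Coh.structureModule X, U) from n) hn
  exact ⟨w, hw, ha w hwa, hann c hcn⟩

/-- an element outside `p` lying in all primes of a finite set not contained in `p`. -/
lemma exists_notMem_forall_mem {A : Type*} [CommRing A] (p : Ideal A) [p.IsPrime]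
    (S : Set (Ideal A)) (hS : S.Finite) :
    ∃ e : A, e ∉ p ∧ ∀ q ∈ S, ¬ q ≤ p → e ∈ q := by
  classical
  have hch : ∀ q : Ideal A, ∃ r : A, r ∉ p ∧ (¬ q ≤ p → r ∈ q) := by
    intro q
    by_cases h : q ≤ p
    · exact ⟨1, (Ideal.ne_top_iff_one p).mp (Ideal.IsPrime.ne_top inferInstance), fun h' => absurd h h'⟩
    · obtain ⟨r, hrq, hrp⟩ := SetLike.not_le_iff_exists.mp h
      exact ⟨r, hrp, fun _ => hrq⟩
  choose f hf1 hf2 using hch
  refine ⟨∏ q ∈ hS.toFinset, f q, ?_, ?_⟩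
  · intro h
    obtain ⟨q, -, hq⟩ := Ideal.IsPrime.prod_mem_iff.mp h
    exact hf1 q hq
  · intro q hqS hqp
    exact Ideal.mem_of_dvd _ (Finset.dvd_prod_of_mem f (hS.mem_toFinset.mpr hqS)) (hf2 q hqp)

set_option maxHeartbeats 800000 in
theorem regStalk_eq_of_weakAss
    (ha : ∀ x : X, Curv2.IsWeakAssPoint (Coh.structureModule X) x → ∀ y : X, y ⤳ x → y = x)
    (hb : ∀ U : X.Opens, IsCompact (U : Set X) →
      (irreducibleComponents ↥(U : Scheme.{u})).Finite) (x : X) :
    regStalk X x = nonZeroDivisors (X.presheaf.stalk x) := by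
  apply le_antisymm (regStalk_le_nonZeroDivisors x)
  intro g hg
  obtain ⟨V, hxV, f, rfl⟩ := X.presheaf.exists_germ_eq g
  obtain ⟨U, hU, hxU, hUV0⟩ := exists_isAffineOpen_mem_and_subset (x := x) (U := V) hxV
  have hUV : U ≤ V := hUV0
  clear hUV0
  let a : Γ(X, U) := X.presheaf.map (homOfLE hUV).op f
  have hga : X.presheaf.germ U x hxU a = X.presheaf.germ V x hxV f :=
    TopCat.Presheaf.germ_res_apply _ _ _ _ _
  have hfin : (minimalPrimes Γ(X, U)).Finite :=
    Groth.Agent.H8.FlatUnram.finite_minimalPrimes_of_isAffineOpen hU le_rfl (hb U hU.isCompact)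
  obtain ⟨e, hep, heq⟩ := exists_notMem_forall_mem (hU.primeIdealOf ⟨x, hxU⟩).asIdeal _ hfin
  have hxe : x ∈ X.basicOpen e := mem_basicOpen_of_mem_primeCompl hU x hxU e hep
  have hDU : X.basicOpen e ≤ U := X.basicOpen_le e
  let a' : Γ(X, X.basicOpen e) := X.presheaf.map (homOfLE hDU).op a
  have hnzd : a' ∈ nonZeroDivisors Γ(X, X.basicOpen e) := by
    rw [mem_nonZeroDivisors_iff_right]
    intro n hn
    by_contra hn0
    obtain ⟨w, hw, hmax, hmem⟩ := exists_minimal_of_mul_eq_zero ha (hU.basicOpen e) a' n hn0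
      (by rw [mul_comm]; exact hn)
    have hwU : w ∈ U := hDU hw
    have hmin := primeIdealOf_mem_minimalPrimes_of_maximal hU w hwU hmax
    have haw : a ∈ (hU.primeIdealOf ⟨w, hwU⟩).asIdeal := by
      rw [primeIdealOf_mem_iff] at hmem ⊢
      intro h
      apply hmem
      rw [Scheme.basicOpen_res]
      exact ⟨hw, h⟩
    have hew : e ∉ (hU.primeIdealOf ⟨w, hwU⟩).asIdeal := by
      rw [primeIdealOf_mem_iff]
      exact fun h => h hw
    have hle : (hU.primeIdealOf ⟨w, hwU⟩).asIdeal ≤ (hU.primeIdealOf ⟨x, hxU⟩).asIdeal := by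
      by_contra hc
      exact hew (heq _ hmin hc)
    letI : Algebra Γ(X, U) (X.presheaf.stalk x) :=
      TopCat.Presheaf.algebra_section_stalk X.presheaf ⟨x, hxU⟩
    haveI := hU.isLocalization_stalk ⟨x, hxU⟩
    refine algebraMap_notMem_nonZeroDivisors_of_mem_minimalPrimes
      (hU.primeIdealOf ⟨x, hxU⟩).asIdeal _ hmin hle a haw (X.presheaf.stalk x) ?_
    change X.presheaf.germ U x hxU a ∈ _
    rw [hga]
    exact hg
  refine ⟨X.basicOpen e, hxe, a', mem_regSub_of_mem_nonZeroDivisors (hU.basicOpen e) a' hnzd, ?_⟩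
  rw [TopCat.Presheaf.germ_res_apply]
  exact hga

set_option maxHeartbeats 800000 in
theorem isLocalization_kmod_of_weakAss
    (ha : ∀ x : X, Curv2.IsWeakAssPoint (Coh.structureModule X) x → ∀ y : X, y ⤳ x → y = x)
    (hb : ∀ U : X.Opens, IsCompact (U : Set X) →
      (irreducibleComponents ↥(U : Scheme.{u})).Finite) (U : X.affineOpens) :
    @IsLocalization Γ(X, U.1) _ (nonZeroDivisors Γ(X, U.1)) Γ(kmod X, U.1) _
      (toK X U.1).toAlgebra := by
  letI := (toK X U.1).toAlgebra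
  refine (isLocalization_iff _ _).mpr ⟨?_, ?_, ?_⟩
  · rintro ⟨a, ha'⟩
    have hb' := mem_regSub_of_mem_nonZeroDivisors U.2 a ha'
    exact IsUnit.of_mul_eq_one _ (toK_mul_invK U.1 ⟨a, hb'⟩)
  · intro z
    have hfin : (minimalPrimes Γ(X, U.1)).Finite :=
      Groth.Agent.H8.FlatUnram.finite_minimalPrimes_of_isAffineOpen U.2 le_rfl
        (hb U.1 U.2.isCompact)
    have hnot : ∀ q ∈ minimalPrimes Γ(X, U.1), ¬ denK U.1 z ≤ q := by
      intro q hq hle
      haveI := hq.1.1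
      let x : X := U.2.fromSpec ⟨q, inferInstance⟩
      have hxU : x ∈ U.1 := fromSpec_mem U.2 _
      obtain ⟨c, hcI, hc⟩ := exists_mem_denK_germ_mem_nonZeroDivisors U.2 z x hxU
      have h3 : U.2.primeIdealOf ⟨x, hxU⟩ = ⟨q, inferInstance⟩ :=
        primeIdealOf_fromSpec U.2 ⟨q, inferInstance⟩ hxU
      have h4 : (U.2.primeIdealOf ⟨x, hxU⟩).asIdeal = q := by rw [h3]
      letI : Algebra Γ(X, U.1) (X.presheaf.stalk x) :=
        TopCat.Presheaf.algebra_section_stalk X.presheaf ⟨x, hxU⟩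
      haveI := U.2.isLocalization_stalk ⟨x, hxU⟩
      refine algebraMap_notMem_nonZeroDivisors_of_mem_minimalPrimes
        (U.2.primeIdealOf ⟨x, hxU⟩).asIdeal q hq h4.ge c (hle hcI) (X.presheaf.stalk x) ?_
      exact hc
    have havoid : ¬ ((denK U.1 z : Set Γ(X, U.1)) ⊆ ⋃ q ∈ minimalPrimes Γ(X, U.1), (q : Set Γ(X, U.1))) := by
      intro hsub
      obtain ⟨q, hq, hle⟩ := (Ideal.subset_union_prime_finite hfin (f := id) ⊥ ⊥
        (fun q hq _ _ => hq.1.1)).mp hsub
      exact hnot q hq hle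
    obtain ⟨c, hcI, hc⟩ := Set.not_subset.mp havoid
    have hcnzd : c ∈ nonZeroDivisors Γ(X, U.1) := by
      rw [mem_nonZeroDivisors_iff_right]
      intro n hn
      by_contra hn0
      obtain ⟨w, hw, hmax, hmem⟩ := exists_minimal_of_mul_eq_zero ha U.2 c n hn0
        (by rw [mul_comm]; exact hn)
      have hmin := primeIdealOf_mem_minimalPrimes_of_maximal U.2 w hw hmax
      exact hc (Set.mem_biUnion hmin hmem)
    obtain ⟨a, ha'⟩ := hcI
    exact ⟨⟨a, ⟨c, hcnzd⟩⟩, by rw [mul_comm]; exact ha'⟩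
  · intro a b hab
    exact ⟨1, by rw [toK_injective U.1 hab]⟩

end Groth.Agent.H4.MeroK
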