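import Mathlib
import Groth.Agent.H4.MeroK2
import Groth.Prelude.Def_MeroDiv
import Groth.Agent.Lib.Lead.QC.FiniteFree
set_option autoImplicit false
universe u
open CategoryTheory AlgebraicGeometry TopologicalSpace Opposite

namespace Groth.Agent.H4.MeroL
open Mero Groth.Agent.LD.QC Groth.Agent.H4.MeroK

variable {X : Scheme.{u}}

attribute [-instance] Groth.Agent.LD.QC.stalkModule

/-- germs of regular sections act injectively on the stalks of `L`. -/
def StalkTorsionFree (L : X.Modules) : Prop :=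
  ∀ (y : X) (c : X.presheaf.stalk y), c ∈ nonZeroDivisors (X.presheaf.stalk y) →
    ∀ m : L.presheaf.stalk y, c • m = 0 → m = 0

lemma stalkTorsionFree_of_isInvertible (L : X.Modules) (hL : PicF.IsInvertible L) :
    StalkTorsionFree L := by
  intro y c hc m hm
  haveI : Module.Free (X.presheaf.stalk y) (L.presheaf.stalk y) :=
    free_stalk_of_isFinLocFree L (isFinLocFree_of_isInvertible L hL) y
  have := Module.Flat.isSMulRegular_of_nonZeroDivisors (M := L.presheaf.stalk y) hc
  apply this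
  change c • m = c • 0
  rw [hm, smul_zero]

lemma mkM_eq_zero_iff {L : X.Modules} (hL : StalkTorsionFree L) (y : X)
    (m : L.presheaf.stalk y) (s : regStalk X y) :
    (LocalizedModule.mk m s : MStalk L y) = 0 ↔ m = 0 := by
  constructor
  · intro h
    rw [← LocalizedModule.zero_mk s, LocalizedModule.mk_eq] at h
    obtain ⟨c, hc⟩ := h
    simp only [Submonoid.smul_def] at hc
    have hc' : (c.1 * s.1) • m = 0 := by
      rw [mul_smul]; exact hc.trans (by simp)
    exact hL y _ (regStalk_le_nonZeroDivisors y (Submonoid.mul_mem _ c.2 s.2)) m hc'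
  · rintro rfl
    exact LocalizedModule.zero_mk s

/-- a section of `K_X(L)` over `U` which vanishes on `U ∩ X_h` is locally killed by a power of `h`. -/
lemma exists_local_pow_kill (L : X.Modules) [L.IsQuasicoherent] (hL : StalkTorsionFree L)
    {U : X.Opens} (h : Γ(X, U)) (t : Γ(merMod L, U))
    (ht : ∀ (x : X) (hx : x ∈ U), x ∈ X.basicOpen h → t.1 ⟨x, hx⟩ = 0) (x : X) (hxU : x ∈ U) :
    ∃ (W : X.Opens) (n : ℕ), x ∈ W ∧ ∀ y (hy : y ∈ U), y ∈ W → ∀ m, n ≤ m →
      (X.presheaf.germ U y hy h) ^ m • evalM L U ⟨y, hy⟩ t = 0 := by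
  obtain ⟨V, hxV, i, a, b, hab⟩ := t.2 ⟨x, hxU⟩
  have hVU : V ≤ U := i.le
  obtain ⟨W, hW, hxW, hWV0⟩ := exists_isAffineOpen_mem_and_subset (x := x) (U := V) hxV
  have hWV : W ≤ V := hWV0
  clear hWV0
  let a' : Γ(L, W) := L.presheaf.map (homOfLE hWV).op a
  let h' : Γ(X, W) := X.presheaf.map (homOfLE (hWV.trans hVU)).op h
  have hDle : X.basicOpen h' ≤ X.basicOpen h := by
    rw [Scheme.basicOpen_res]; exact inf_le_right
  -- `a'` vanishes on `D(h')`
  have h0 : L.presheaf.map (homOfLE (X.basicOpen_le h')).op a' = 0 := by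
    apply TopCat.Presheaf.section_ext (⟨L.presheaf, L.isSheaf⟩ : TopCat.Sheaf Ab X.carrier)
    intro y hy
    have hyV : y ∈ V := hWV (X.basicOpen_le h' hy)
    have h1 := hab ⟨y, hyV⟩
    have h2 : t.1 ⟨y, hVU hyV⟩ = 0 := ht y (hVU hyV) (hDle hy)
    have h3 : (LocalizedModule.mk (L.presheaf.germ V y hyV a) (regGerm ⟨y, hyV⟩ b) : MStalk L y) = 0 :=
      h1.symm.trans h2
    rw [mkM_eq_zero_iff hL] at h3
    change L.presheaf.germ _ y hy (L.presheaf.map _ (L.presheaf.map _ a)) =
      L.presheaf.germ _ y hy 0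
    rw [TopCat.Presheaf.germ_res_apply, TopCat.Presheaf.germ_res_apply, map_zero]
    exact h3
  letI : Module Γ(X, W) Γ(L, X.basicOpen h') := resModule L (X.basicOpen_le h')
  haveI : IsLocalizedModule.Away h' (resLinear L (X.basicOpen_le h')) :=
    isLocalizedModule_basicOpen L hW h'
  obtain ⟨⟨_, n, rfl⟩, hn⟩ := (IsLocalizedModule.eq_zero_iff (Submonoid.powers h')
    (resLinear L (X.basicOpen_le h'))).mp h0
  refine ⟨W, n, hxW, ?_⟩
  intro y hyU hyW m hm
  have hyV : y ∈ V := hWV hyW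
  have h1 : evalM L U ⟨y, hyU⟩ t =
      LocalizedModule.mk (L.presheaf.germ V y hyV a) (regGerm ⟨y, hyV⟩ b) := hab ⟨y, hyV⟩
  rw [h1, LocalizedModule.smul'_mk, mkM_eq_zero_iff hL]
  have h2 : X.presheaf.germ U y hyU h = X.presheaf.germ W y hyW h' :=
    (TopCat.Presheaf.germ_res_apply _ _ _ _ _).symm
  have h3 : L.presheaf.germ V y hyV a = L.presheaf.germ W y hyW a' :=
    (TopCat.Presheaf.germ_res_apply _ _ _ _ _).symm
  rw [h2, h3, ← map_pow, ← Mero.germ_smul]
  have h4 : h' ^ m • a' = 0 := by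
    have : h' ^ m = h' ^ (m - n) * h' ^ n := by rw [← pow_add]; congr 1; omega
    rw [this, mul_smul]
    have hn' : h' ^ n • a' = 0 := hn
    rw [hn', smul_zero]
  rw [h4, map_zero]

theorem exists_pow_smul_eq_zero (L : X.Modules) [L.IsQuasicoherent] (hL : StalkTorsionFree L)
    {U : X.Opens} (hUc : IsCompact (U : Set X)) (h : Γ(X, U))
    (t : Γ(merMod L, U))
    (ht : ∀ (x : X) (hx : x ∈ U), x ∈ X.basicOpen h → t.1 ⟨x, hx⟩ = 0) :
    ∃ n : ℕ, h ^ n • t = 0 := by
  have key := fun (x : U) => exists_local_pow_kill L hL h t ht x.1 x.2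
  choose W n hxW hW using key
  obtain ⟨T, hT⟩ := hUc.elim_nhds_subcover' (fun x hx => (W ⟨x, hx⟩ : Set X))
    (fun x hx => (W ⟨x, hx⟩).2.mem_nhds (hxW ⟨x, hx⟩))
  refine ⟨T.sup (fun x => n ⟨x.1, x.2⟩), ?_⟩
  apply Subtype.ext
  funext y
  obtain ⟨x, hxt, hyx⟩ : ∃ x ∈ T, y.1 ∈ W ⟨x.1, x.2⟩ := by
    have := hT y.2
    simpa using this
  have key := hW ⟨x.1, x.2⟩ y.1 y.2 hyx (T.sup (fun x => n ⟨x.1, x.2⟩))
    (Finset.le_sup (f := fun x => n ⟨x.1, x.2⟩) hxt)
  change X.presheaf.germ U y.1 y.2 (h ^ T.sup (fun x => n ⟨x.1, x.2⟩)) • evalM L U y t = 0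
  rw [map_pow]
  exact key

/-- restriction of a meromorphic section. -/
noncomputable def resM (L : X.Modules) (s : Γ(merMod L, ⊤)) (U : X.Opens) : Γ(merMod L, U) :=
  (merMod L).presheaf.map (homOfLE (le_top : U ≤ ⊤)).op s

lemma evalM_resM (L : X.Modules) (s : Γ(merMod L, ⊤)) (U : X.Opens) (y : U) :
    evalM L U y (resM L s U) = evalM L ⊤ ⟨y.1, Opens.mem_top y.1⟩ s := rfl

lemma evalM_smul (L : X.Modules) {U : X.Opens} (r : Γ(X, U)) (t : Γ(merMod L, U)) (y : U) :
    evalM L U y (r • t) = X.presheaf.germ U y.1 y.2 r • evalM L U y t := rfl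

lemma evalM_toMerFun (L : X.Modules) {U : X.Opens} (m : Γ(L, U)) (y : U) :
    evalM L U y (toMerFun L U m) = LocalizedModule.mk (L.presheaf.germ U y.1 y.2 m) 1 := rfl

lemma mem_denomIdeal_iff (L : X.Modules) (s : Γ(merMod L, ⊤)) (U : X.Opens) (f : Γ(X, U)) :
    f ∈ denomIdeal L s U ↔ ∃ m : Γ(L, U), f • resM L s U = toMerFun L U m := by
  constructor
  · rintro ⟨m, hm⟩
    refine ⟨m, Subtype.ext (funext fun y => ?_)⟩
    exact hm y
  · rintro ⟨m, hm⟩
    refine ⟨m, fun y => ?_⟩
    have := congrArg (evalM L U y) hm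
    exact this

set_option maxHeartbeats 800000 in
/-- compatibility of the ideals of denominators with basic opens. -/
theorem map_denomIdeal_basicOpen (L : X.Modules) [L.IsQuasicoherent] (hL : StalkTorsionFree L)
    (s : Γ(merMod L, ⊤)) {U : X.Opens} (hU : IsAffineOpen U) (f : Γ(X, U)) :
    (denomIdeal L s U).map (X.presheaf.map (homOfLE <| X.basicOpen_le f).op).hom =
      denomIdeal L s (X.basicOpen f) := by
  have hDU : X.basicOpen f ≤ U := X.basicOpen_le f
  apply le_antisymm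
  · rw [Ideal.map_le_iff_le_comap]
    intro g hg
    rw [mem_denomIdeal_iff] at hg
    obtain ⟨m, hm⟩ := hg
    rw [Ideal.mem_comap, mem_denomIdeal_iff]
    refine ⟨L.presheaf.map (homOfLE hDU).op m, Subtype.ext (funext fun y => ?_)⟩
    have h1 := congrArg (evalM L U ⟨y.1, hDU y.2⟩) hm
    rw [evalM_smul, evalM_toMerFun, evalM_resM] at h1
    change X.presheaf.germ _ y.1 y.2 (X.presheaf.map _ g) • evalM L ⊤ ⟨y.1, Opens.mem_top y.1⟩ s =
      LocalizedModule.mk (L.presheaf.germ _ y.1 y.2 (L.presheaf.map _ m)) 1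
    rw [TopCat.Presheaf.germ_res_apply, TopCat.Presheaf.germ_res_apply]
    exact h1
  · intro g' hg'
    rw [mem_denomIdeal_iff] at hg'
    obtain ⟨m', hm'⟩ := hg'
    haveI : IsLocalization.Away f Γ(X, X.basicOpen f) := hU.isLocalization_basicOpen f
    letI : Module Γ(X, U) Γ(L, X.basicOpen f) := resModule L hDU
    haveI : IsLocalizedModule.Away f (resLinear L hDU) := isLocalizedModule_basicOpen L hU f
    obtain ⟨⟨g₀, ⟨_, k, rfl⟩⟩, hk⟩ := IsLocalization.surj (Submonoid.powers f) g'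
    obtain ⟨⟨m₀, ⟨_, l, rfl⟩⟩, hl⟩ := IsLocalizedModule.surj (Submonoid.powers f)
      (resLinear L hDU) m'
    have hk' : g' * (X.presheaf.map (homOfLE hDU).op f) ^ k =
        X.presheaf.map (homOfLE hDU).op g₀ := by
      rw [← map_pow]; exact hk
    have hl' : (X.presheaf.map (homOfLE hDU).op f) ^ l • m' = L.presheaf.map (homOfLE hDU).op m₀ := by
      rw [← map_pow]; exact hl
    -- germ versions
    have gk : ∀ y (hy : y ∈ X.basicOpen f), X.presheaf.germ _ y hy g' *
        X.presheaf.germ U y (hDU hy) f ^ k = X.presheaf.germ U y (hDU hy) g₀ := by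
      intro y hy
      have := congrArg (X.presheaf.germ (X.basicOpen f) y hy) hk'
      rw [map_mul, map_pow, TopCat.Presheaf.germ_res_apply, TopCat.Presheaf.germ_res_apply] at this
      exact this
    have gl : ∀ y (hy : y ∈ X.basicOpen f), X.presheaf.germ U y (hDU hy) f ^ l •
        L.presheaf.germ _ y hy m' = L.presheaf.germ U y (hDU hy) m₀ := by
      intro y hy
      have := congrArg (L.presheaf.germ (X.basicOpen f) y hy) hl'
      rw [Mero.germ_smul, map_pow, TopCat.Presheaf.germ_res_apply,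
        TopCat.Presheaf.germ_res_apply] at this
      exact this
    let t : Γ(merMod L, U) := (f ^ l * g₀) • resM L s U - toMerFun L U (f ^ k • m₀)
    have ht : ∀ (y : X) (hy : y ∈ U), y ∈ X.basicOpen f → t.1 ⟨y, hy⟩ = 0 := by
      intro y hy hyf
      have h1 := congrArg (evalM L (X.basicOpen f) ⟨y, hyf⟩) hm'
      rw [evalM_smul, evalM_toMerFun, evalM_resM] at h1
      change evalM L U ⟨y, hy⟩ ((f ^ l * g₀) • resM L s U - toMerFun L U (f ^ k • m₀)) = 0
      rw [map_sub, evalM_smul, evalM_toMerFun, evalM_resM, sub_eq_zero]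
      change X.presheaf.germ U y hy (f ^ l * g₀) • evalM L ⊤ ⟨y, Opens.mem_top y⟩ s = _
      rw [map_mul, map_pow, ← gk y hyf, Mero.germ_smul, map_pow, ← gl y hyf]
      rw [mul_comm (X.presheaf.germ _ y hyf g'), ← mul_assoc, mul_smul, h1,
        LocalizedModule.smul'_mk, smul_smul, ← pow_add, ← pow_add, add_comm k l]
    obtain ⟨n, hn⟩ := exists_pow_smul_eq_zero L hL hU.isCompact f t ht
    have hmem : f ^ n * (f ^ l * g₀) ∈ denomIdeal L s U := by
      rw [mem_denomIdeal_iff]
      refine ⟨f ^ n • (f ^ k • m₀), ?_⟩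
      have h2 : f ^ n • ((f ^ l * g₀) • resM L s U - toMerFun L U (f ^ k • m₀)) = 0 := hn
      rw [smul_sub, sub_eq_zero, smul_smul] at h2
      rw [h2]
      apply Subtype.ext
      funext y
      change X.presheaf.germ U y.1 y.2 (f ^ n) • evalM L U y (toMerFun L U (f ^ k • m₀)) =
        evalM L U y (toMerFun L U (f ^ n • (f ^ k • m₀)))
      rw [evalM_toMerFun, evalM_toMerFun, LocalizedModule.smul'_mk]
      congr 1
      rw [Mero.germ_smul, Mero.germ_smul, Mero.germ_smul]
    -- `g'` is a unit multiple of the image of this element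
    have hu : IsUnit (X.presheaf.map (homOfLE hDU).op f) :=
      IsLocalization.Away.algebraMap_isUnit (S := Γ(X, X.basicOpen f)) f
    have himg : (X.presheaf.map (homOfLE hDU).op).hom (f ^ n * (f ^ l * g₀)) =
        (X.presheaf.map (homOfLE hDU).op f) ^ (n + l + k) * g' := by
      rw [map_mul, map_mul, map_pow, map_pow]
      change _ * (_ * X.presheaf.map (homOfLE hDU).op g₀) = _
      rw [← hk']
      ring
    have hmem' := Ideal.mem_map_of_mem (X.presheaf.map (homOfLE hDU).op).hom hmem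
    rw [himg] at hmem'
    have hu' : IsUnit ((X.presheaf.map (homOfLE hDU).op f) ^ (n + l + k)) := hu.pow _
    obtain ⟨v, hv⟩ := hu'
    have := Ideal.mul_mem_left _ (↑v⁻¹ : Γ(X, X.basicOpen f)) hmem'
    rwa [← hv, ← mul_assoc, Units.inv_mul, one_mul] at this

/-- the support of any ideal sheaf whose affine components are the ideals of denominators of
a meromorphic section is nowhere dense. -/
theorem interior_support_eq_empty (L : X.Modules) (s : Γ(merMod L, ⊤)) (I : X.IdealSheafData)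
    (hI : ∀ U : X.affineOpens, I.ideal U = denomIdeal L s U.1) :
    interior (I.support : Set X) = ∅ := by
  rw [Set.eq_empty_iff_forall_notMem]
  intro x hx
  rw [mem_interior] at hx
  obtain ⟨W, hWS, hWo, hxW⟩ := hx
  obtain ⟨V, hxV, i, m, b, hmb⟩ := s.2 ⟨x, Opens.mem_top x⟩
  obtain ⟨U, hU, hxU, hUVW0⟩ := exists_isAffineOpen_mem_and_subset (x := x)
    (U := V ⊓ ⟨W, hWo⟩) ⟨hxV, hxW⟩
  have hUVW : U ≤ V ⊓ ⟨W, hWo⟩ := hUVW0
  have hUV : U ≤ V := hUVW.trans inf_le_left
  have hUW : ∀ y, y ∈ U → y ∈ W := fun y hy => (hUVW hy).2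
  let b' : Γ(X, U) := X.presheaf.map (homOfLE hUV).op b.1
  have hb' : b' ∈ denomIdeal L s U := by
    refine ⟨L.presheaf.map (homOfLE hUV).op m, fun y => ?_⟩
    have h1 := hmb ⟨y.1, hUV y.2⟩
    have h2 : s.1 ⟨y.1, Opens.mem_top y.1⟩ =
        LocalizedModule.mk (L.presheaf.germ V y.1 (hUV y.2) m) (regGerm ⟨y.1, hUV y.2⟩ b) := h1
    rw [h2, TopCat.Presheaf.germ_res_apply, TopCat.Presheaf.germ_res_apply,
      LocalizedModule.smul'_mk, LocalizedModule.mkLinearMap_apply, LocalizedModule.mk_eq]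
    refine ⟨1, ?_⟩
    simp only [one_smul, Submonoid.smul_def]
  have hne : X.basicOpen b' ≠ ⊥ := by
    intro h
    rw [← Scheme.isNilpotent_iff_basicOpen_eq_bot_of_isCompact hU.isCompact] at h
    obtain ⟨n, hn⟩ := h
    have h1 : X.presheaf.germ U x hxU b' ∈ nonZeroDivisors (X.presheaf.stalk x) := by
      have := b.2 ⟨x, hxV⟩
      change X.presheaf.germ U x hxU (X.presheaf.map _ b.1) ∈ _
      rw [TopCat.Presheaf.germ_res_apply]
      exact this
    have h2 : (X.presheaf.germ U x hxU b') ^ n ∈ nonZeroDivisors (X.presheaf.stalk x) :=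
      pow_mem h1 n
    rw [← map_pow, hn, map_zero] at h2
    exact zero_notMem_nonZeroDivisors h2
  obtain ⟨y, hy⟩ : ∃ y, y ∈ X.basicOpen b' := by
    by_contra hcon
    push Not at hcon
    apply hne
    ext y
    simp [hcon y]
  have hyU : y ∈ U := X.basicOpen_le _ hy
  have hyS : y ∈ I.support := hWS (hUW y hyU)
  rw [Scheme.IdealSheafData.mem_support_iff_of_mem (U := ⟨U, hU⟩) hyU,
    Scheme.mem_zeroLocus_iff] at hyS
  exact hyS b' (by rw [hI ⟨U, hU⟩]; exact hb') hy

/-- the ideal sheaf of denominators of a meromorphic section of an invertible module. -/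
noncomputable def denomIdealSheaf (L : X.Modules) [L.IsQuasicoherent] (hL : StalkTorsionFree L)
    (s : Γ(merMod L, ⊤)) : X.IdealSheafData where
  ideal U := denomIdeal L s U.1
  map_ideal_basicOpen U f := map_denomIdeal_basicOpen L hL s U.2 f

theorem denomIdeal_exists (L : X.Modules) (hL : PicF.IsInvertible L) (s : Γ(merMod L, ⊤)) :
    ∃ I : X.IdealSheafData, (∀ U : X.affineOpens, I.ideal U = Mero.denomIdeal L s U.1) ∧
      interior (I.support : Set ↥X) = ∅ := by
  haveI : L.IsQuasicoherent := qc_of_isFinLocFree L (isFinLocFree_of_isInvertible L hL)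
  refine ⟨denomIdealSheaf L (stalkTorsionFree_of_isInvertible L hL) s, fun U => rfl, ?_⟩
  exact interior_support_eq_empty L s _ (fun U => rfl)

end Groth.Agent.H4.MeroL
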