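import Mathlib
import Groth.Agent.H4.MeroL
import Groth.Agent.H4.MeroK3
import Groth.Agent.Lib.Lead.QC.InvBasis
set_option autoImplicit false
universe u
open CategoryTheory AlgebraicGeometry TopologicalSpace Opposite

namespace Groth.Agent.H4.MeroReg

section Alg
variable {A : Type*} [CommRing A]

/-- an element of a minimal prime is killed, up to a power, by an element outside the prime. -/
lemma exists_notMem_mul_pow_eq_zero (q : Ideal A) (hq : q ∈ minimalPrimes A) (x : A) (hx : x ∈ q) :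
    ∃ t : A, t ∉ q ∧ ∃ N : ℕ, t * x ^ N = 0 := by
  haveI : q.IsPrime := hq.1.1
  have h1 := IsLocalization.AtPrime.radical_map_of_mem_minimalPrimes
    (A := Localization.AtPrime q) q ⊥ hq
  have h2 : algebraMap A (Localization.AtPrime q) x ∈
      ((⊥ : Ideal A).map (algebraMap A (Localization.AtPrime q))).radical := by
    rw [h1]; exact Ideal.mem_map_of_mem _ hx
  rw [Ideal.map_bot] at h2
  obtain ⟨N, hN⟩ := h2
  rw [Ideal.mem_bot, ← map_pow, IsLocalization.map_eq_zero_iff q.primeCompl] at hN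
  obtain ⟨t, ht⟩ := hN
  exact ⟨t.1, t.2, N, ht⟩

/-- for finitely many minimal primes, an element outside `p` which vanishes in the localization
at every other one. -/
lemma exists_bump (S : Finset (Ideal A)) (hS : ∀ p ∈ S, p ∈ minimalPrimes A) (p : Ideal A)
    (hp : p ∈ S) :
    ∃ h : A, h ∉ p ∧ ∀ q ∈ S, q ≠ p → ∃ t : A, t ∉ q ∧ t * h = 0 := by
  classical
  haveI : p.IsPrime := (hS p hp).1.1
  -- an element of every other prime, outside `p`
  have hch : ∀ q : Ideal A, ∃ r : A, r ∉ p ∧ (q ∈ S → q ≠ p → r ∈ q) := by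
    intro q
    by_cases hq : q ∈ S ∧ q ≠ p
    · have hnle : ¬ q ≤ p := by
        intro hle
        apply hq.2
        have := (hS p hp).2 (hS q hq.1).1 hle
        exact le_antisymm hle this
      obtain ⟨r, hrq, hrp⟩ := Set.not_subset.mp hnle
      exact ⟨r, hrp, fun _ _ => hrq⟩
    · exact ⟨1, fun h1 => (Ideal.IsPrime.ne_top ‹_›) ((Ideal.eq_top_iff_one _).mpr h1),
        fun h1 h2 => absurd ⟨h1, h2⟩ hq⟩
  choose r hr1 hr2 using hch
  let g : A := ∏ q ∈ S, r q
  have hg : g ∉ p := by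
    intro hgp
    obtain ⟨q, _, hq⟩ := Ideal.IsPrime.prod_mem_iff.mp hgp
    exact hr1 q hq
  have hgq : ∀ q ∈ S, q ≠ p → g ∈ q := by
    intro q hq hne
    exact Ideal.prod_mem q hq (hr2 q hq hne)
  have hkill : ∀ q : Ideal A, ∃ (t : A) (N : ℕ), q ∈ S → q ≠ p → t ∉ q ∧ t * g ^ N = 0 := by
    intro q
    by_cases hq : q ∈ S ∧ q ≠ p
    · obtain ⟨t, ht, N, hN⟩ := exists_notMem_mul_pow_eq_zero q (hS q hq.1) g (hgq q hq.1 hq.2)
      exact ⟨t, N, fun _ _ => ⟨ht, hN⟩⟩
    · exact ⟨0, 0, fun h1 h2 => absurd ⟨h1, h2⟩ hq⟩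
  choose t N htN using hkill
  refine ⟨g ^ (S.sup N), fun h => hg (Ideal.IsPrime.mem_of_pow_mem ‹_› _ h), ?_⟩
  intro q hq hne
  obtain ⟨h1, h2⟩ := htN q hq hne
  refine ⟨t q, h1, ?_⟩
  have hle : N q ≤ S.sup N := Finset.le_sup hq
  have : g ^ (S.sup N) = g ^ (N q) * g ^ (S.sup N - N q) := by
    rw [← pow_add]; congr 1; omega
  rw [this, ← mul_assoc, h2, zero_mul]

/-- simultaneous approximation of units of the localizations at finitely many minimal primes by
a single fraction. -/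
theorem exists_sum_data (S : Finset (Ideal A)) (hS : ∀ p ∈ S, p ∈ minimalPrimes A)
    (c d : Ideal A → A) (hc : ∀ p ∈ S, c p ∉ p) (hd : ∀ p ∈ S, d p ∉ p) :
    ∃ a b : A, (∀ p ∈ S, a ∉ p) ∧ (∀ p ∈ S, b ∉ p) ∧
      ∀ p ∈ S, ∃ t : A, t ∉ p ∧ t * (a * d p - b * c p) = 0 := by
  classical
  have hb : ∀ p : Ideal A, ∃ h : A, p ∈ S →
      (h ∉ p ∧ ∀ q ∈ S, q ≠ p → ∃ t : A, t ∉ q ∧ t * h = 0) := by
    intro p
    by_cases hp : p ∈ S
    · obtain ⟨h, h1, h2⟩ := exists_bump S hS p hp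
      exact ⟨h, fun _ => ⟨h1, h2⟩⟩
    · exact ⟨0, fun h => absurd h hp⟩
  choose h hh using hb
  -- `h p ∈ q` for `q ≠ p`
  have hmem : ∀ p ∈ S, ∀ q ∈ S, q ≠ p → h p ∈ q := by
    intro p hp q hq hne
    obtain ⟨t, ht, hth⟩ := (hh p hp).2 q hq hne
    haveI : q.IsPrime := (hS q hq).1.1
    have : t * h p ∈ q := by rw [hth]; exact q.zero_mem
    exact (Ideal.IsPrime.mem_or_mem ‹_› this).resolve_left ht
  have key : ∀ (e : Ideal A → A), (∀ p ∈ S, e p ∉ p) → ∀ q ∈ S, (∑ p ∈ S, h p * e p) ∉ q := by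
    intro e he q hq hsum
    haveI : q.IsPrime := (hS q hq).1.1
    rw [← Finset.add_sum_erase S _ hq] at hsum
    have h2 : ∑ p ∈ S.erase q, h p * e p ∈ q := by
      apply Ideal.sum_mem
      intro p hp
      rw [Finset.mem_erase] at hp
      exact Ideal.mul_mem_right _ _ (hmem p hp.2 q hq (Ne.symm hp.1))
    have h3 : h q * e q ∈ q := by
      have := q.sub_mem hsum h2
      rwa [add_sub_cancel_right] at this
    rcases Ideal.IsPrime.mem_or_mem ‹_› h3 with h4 | h4
    · exact (hh q hq).1 h4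
    · exact he q hq h4
  refine ⟨∑ p ∈ S, h p * c p, ∑ p ∈ S, h p * d p, key c hc, key d hd, ?_⟩
  intro q hq
  haveI : q.IsPrime := (hS q hq).1.1
  have ht : ∀ p : Ideal A, ∃ t : A, p ∈ S → p ≠ q → (t ∉ q ∧ t * h p = 0) := by
    intro p
    by_cases hp : p ∈ S ∧ p ≠ q
    · obtain ⟨t, h1, h2⟩ := (hh p hp.1).2 q hq (Ne.symm hp.2)
      exact ⟨t, fun _ _ => ⟨h1, h2⟩⟩
    · exact ⟨0, fun h1 h2 => absurd ⟨h1, h2⟩ hp⟩
  choose t htt using ht
  refine ⟨∏ p ∈ S.erase q, t p, ?_, ?_⟩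
  · intro hprod
    obtain ⟨p, hp, hpq⟩ := Ideal.IsPrime.prod_mem_iff.mp hprod
    rw [Finset.mem_erase] at hp
    exact (htt p hp.2 hp.1).1 hpq
  · have e1 : (∑ p ∈ S, h p * c p) * d q - (∑ p ∈ S, h p * d p) * c q =
        ∑ p ∈ S, h p * (c p * d q - d p * c q) := by
      rw [Finset.sum_mul, Finset.sum_mul, ← Finset.sum_sub_distrib]
      apply Finset.sum_congr rfl
      intro p _
      ring
    rw [e1, ← Finset.add_sum_erase S _ hq]
    have e2 : c q * d q - d q * c q = 0 := by ring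
    rw [e2, mul_zero, zero_add, Finset.mul_sum]
    apply Finset.sum_eq_zero
    intro p hp
    have hp' := Finset.mem_erase.mp hp
    rw [← Finset.mul_prod_erase _ _ hp]
    have := (htt p hp'.2 hp'.1).2
    calc (t p * ∏ x ∈ (S.erase q).erase p, t x) * (h p * (c p * d q - d p * c q))
        = (t p * h p) * ((∏ x ∈ (S.erase q).erase p, t x) * (c p * d q - d p * c q)) := by ring
      _ = 0 := by rw [this, zero_mul]

end Alg

section Sch
open Mero Groth.Agent.LD.QC Groth.Agent.H4.MeroK Groth.Agent.H4.MeroL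

variable {X : Scheme.{u}}

attribute [-instance] Groth.Agent.LD.QC.stalkModule

/-- maximal points (generic points of irreducible components). -/
def IsGen (η : X) : Prop := ∀ y : X, y ⤳ η → y = η

lemma germ_basis_surj (L : X.Modules) {U : X.Opens} {e : Γ(L, U)} (he : IsBasisOver L U e)
    (z : X) (hz : z ∈ U) (m : L.presheaf.stalk z) :
    ∃ c : X.presheaf.stalk z, m = c • L.presheaf.germ U z hz e := by
  obtain ⟨V, hzV, n, rfl⟩ := L.presheaf.exists_germ_eq m
  obtain ⟨a, ha⟩ := (he (U ⊓ V) inf_le_left).2 (L.presheaf.map (homOfLE inf_le_right).op n)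
  refine ⟨X.presheaf.germ (U ⊓ V) z ⟨hz, hzV⟩ a, ?_⟩
  have h1 := congrArg (L.presheaf.germ (U ⊓ V) z ⟨hz, hzV⟩) ha
  rw [Mero.germ_smul, TopCat.Presheaf.germ_res_apply, TopCat.Presheaf.germ_res_apply] at h1
  exact h1.symm

lemma germ_basis_inj (L : X.Modules) {U : X.Opens} {e : Γ(L, U)} (he : IsBasisOver L U e)
    (z : X) (hz : z ∈ U) (c : X.presheaf.stalk z) (h : c • L.presheaf.germ U z hz e = 0) :
    c = 0 := by
  obtain ⟨V, hzV, a, rfl⟩ := X.presheaf.exists_germ_eq c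
  have h1 : L.presheaf.germ (U ⊓ V) z ⟨hz, hzV⟩
      (X.presheaf.map (homOfLE (inf_le_right : U ⊓ V ≤ V)).op a •
        L.presheaf.map (homOfLE (inf_le_left : U ⊓ V ≤ U)).op e) =
      L.presheaf.germ (U ⊓ V) z ⟨hz, hzV⟩ 0 := by
    rw [Mero.germ_smul, TopCat.Presheaf.germ_res_apply, TopCat.Presheaf.germ_res_apply, map_zero]
    exact h
  obtain ⟨W, hzW, i1, i2, h2⟩ := TopCat.Presheaf.germ_eq L.presheaf z
    (show z ∈ U ⊓ V from ⟨hz, hzV⟩) (show z ∈ U ⊓ V from ⟨hz, hzV⟩) _ _ h1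
  have hWU : W ≤ U := i1.le.trans inf_le_left
  have hWV : W ≤ V := i1.le.trans inf_le_right
  have h3 : X.presheaf.map (homOfLE hWV).op a • L.presheaf.map (homOfLE hWU).op e = 0 := by
    have h4 : L.presheaf.map i1.op
        (X.presheaf.map (homOfLE (inf_le_right : U ⊓ V ≤ V)).op a •
          L.presheaf.map (homOfLE (inf_le_left : U ⊓ V ≤ U)).op e) = 0 := by
      rw [h2, map_zero]
    rw [Scheme.Modules.map_smul] at h4
    have e1 : L.presheaf.map i1.op (L.presheaf.map (homOfLE (inf_le_left : U ⊓ V ≤ U)).op e) =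
        L.presheaf.map (homOfLE hWU).op e := by
      rw [← ConcreteCategory.comp_apply, ← Functor.map_comp]; rfl
    have e2 : X.presheaf.map i1.op (X.presheaf.map (homOfLE (inf_le_right : U ⊓ V ≤ V)).op a) =
        X.presheaf.map (homOfLE hWV).op a := by
      rw [← CommRingCat.comp_apply, ← Functor.map_comp]; rfl
    rw [e1, e2] at h4
    exact h4
  have h6 := (he W hWU).1 (a₁ := X.presheaf.map (homOfLE hWV).op a) (a₂ := 0)
    (by simp only [zero_smul]; exact h3)
  rw [← TopCat.Presheaf.germ_res_apply X.presheaf (homOfLE hWV) z hzW a]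
  have : (X.presheaf.map (homOfLE hWV).op) a = 0 := h6
  rw [this, map_zero]

/-- a function on an affine open whose germs at all maximal generizations of `y` vanish has
zero germ at `y`. -/
lemma germ_eq_zero_of_generic_O
    (ha : ∀ x : X, Curv2.IsWeakAssPoint (Coh.structureModule X) x → ∀ y : X, y ⤳ x → y = x)
    {U : X.Opens} (hU : IsAffineOpen U) (a : Γ(X, U)) (y : X) (hy : y ∈ U)
    (h : ∀ (η : X) (hη : η ∈ U), IsGen η → η ⤳ y → X.presheaf.germ U η hη a = 0) :
    X.presheaf.germ U y hy a = 0 := by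
  by_contra hne
  let I : Ideal Γ(X, U) :=
    LinearMap.ker (LinearMap.toSpanSingleton Γ(X, U) Γ(Coh.structureModule X, U) a)
  have hI : I ≤ (hU.primeIdealOf ⟨y, hy⟩).asIdeal := by
    intro r hr
    by_contra hry
    apply hne
    letI := TopCat.Presheaf.algebra_section_stalk X.presheaf ⟨y, hy⟩
    haveI := hU.isLocalization_stalk ⟨y, hy⟩
    change algebraMap Γ(X, U) (X.presheaf.stalk y) a = 0
    rw [IsLocalization.map_eq_zero_iff (hU.primeIdealOf ⟨y, hy⟩).asIdeal.primeCompl]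
    exact ⟨⟨r, hry⟩, hr⟩
  obtain ⟨q, hq, hqy⟩ := Ideal.exists_minimalPrimes_le hI
  let q' : PrimeSpectrum Γ(X, U) := ⟨q, hq.1.1⟩
  have hw : hU.fromSpec q' ∈ U := fromSpec_mem hU q'
  have hwa : Curv2.IsWeakAssPoint (Coh.structureModule X) (hU.fromSpec q') := by
    rw [isWeakAssPoint_iff_mem_weakAss _ hU _ hw, primeIdealOf_fromSpec hU q' hw, mem_weakAss_iff]
    exact ⟨a, hq⟩
  have hgen := ha _ hwa
  have hspec : hU.fromSpec q' ⤳ y := by
    have h1 : q' ⤳ hU.primeIdealOf ⟨y, hy⟩ := (PrimeSpectrum.le_iff_specializes _ _).mp hqy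
    have h2 := h1.map hU.fromSpec.continuous
    rwa [hU.fromSpec_primeIdealOf ⟨y, hy⟩] at h2
  have h0 := h _ hw hgen hspec
  letI := TopCat.Presheaf.algebra_section_stalk X.presheaf ⟨_, hw⟩
  haveI := hU.isLocalization_stalk ⟨_, hw⟩
  have h0' : algebraMap Γ(X, U) (X.presheaf.stalk (hU.fromSpec q')) a = 0 := h0
  rw [IsLocalization.map_eq_zero_iff (hU.primeIdealOf ⟨_, hw⟩).asIdeal.primeCompl] at h0'
  obtain ⟨⟨r, hr2⟩, hr⟩ := h0'
  have hrq : r ∈ q := hq.1.2 (show r ∈ I from hr)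
  apply hr2
  have hE : (hU.primeIdealOf ⟨hU.fromSpec q', hw⟩).asIdeal = q :=
    congrArg PrimeSpectrum.asIdeal (primeIdealOf_fromSpec hU q' hw)
  change r ∈ (hU.primeIdealOf ⟨hU.fromSpec q', hw⟩).asIdeal
  rw [hE]
  exact hrq

/-- a section of an invertible module whose germs at all maximal generizations of `y` vanish
has zero germ at `y`. -/
lemma germ_eq_zero_of_generic
    (ha : ∀ x : X, Curv2.IsWeakAssPoint (Coh.structureModule X) x → ∀ y : X, y ⤳ x → y = x)
    (L : X.Modules) (hL : PicF.IsInvertible L) {W : X.Opens} (n : Γ(L, W)) (y : X) (hy : y ∈ W)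
    (h : ∀ (η : X) (hη : η ∈ W), IsGen η → η ⤳ y → L.presheaf.germ W η hη n = 0) :
    L.presheaf.germ W y hy n = 0 := by
  obtain ⟨U₀, e₀, hyU₀, he₀⟩ := (isInvertible_iff_exists_isBasisOver L).mp hL y
  obtain ⟨U, hU, hyU, hUs⟩ := exists_isAffineOpen_mem_and_subset (x := y) (U := U₀ ⊓ W)
    ⟨hyU₀, hy⟩
  have hUU₀ : U ≤ U₀ := fun z hz => (hUs hz).1
  have hUW : U ≤ W := fun z hz => (hUs hz).2
  have he := he₀.mono hUU₀
  obtain ⟨a, haa⟩ := (he U le_rfl).2 (L.presheaf.map (homOfLE hUW).op n)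
  simp only [res_self] at haa
  have hgerm : ∀ (z : X) (hz : z ∈ U), L.presheaf.germ W z (hUW hz) n =
      X.presheaf.germ U z hz a • L.presheaf.germ U z hz (L.presheaf.map (homOfLE hUU₀).op e₀) := by
    intro z hz
    rw [← Mero.germ_smul, haa, TopCat.Presheaf.germ_res_apply]
  rw [hgerm y hyU]
  have ha0 : X.presheaf.germ U y hyU a = 0 := by
    apply germ_eq_zero_of_generic_O ha hU a y hyU
    intro η hη hgen hspec
    have h1 := h η (hUW hη) hgen hspec
    rw [hgerm η hη] at h1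
    exact germ_basis_inj L he η hη _ h1
  rw [ha0, zero_smul]

lemma isUnit_germ_iff {U : X.Opens} (hU : IsAffineOpen U) (x : X) (hx : x ∈ U) (a : Γ(X, U)) :
    IsUnit (X.presheaf.germ U x hx a) ↔ a ∉ (hU.primeIdealOf ⟨x, hx⟩).asIdeal := by
  rw [primeIdealOf_mem_iff hU x hx a, not_not]
  exact (X.mem_basicOpen a x hx).symm

/-- under hypothesis (a), an element outside all minimal primes is a nonzerodivisor. -/
lemma nzd_of_forall_notMem_minimal
    (ha : ∀ x : X, Curv2.IsWeakAssPoint (Coh.structureModule X) x → ∀ y : X, y ⤳ x → y = x)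
    {U : X.Opens} (hU : IsAffineOpen U) (b : Γ(X, U))
    (hb : ∀ p ∈ minimalPrimes Γ(X, U), b ∉ p) : b ∈ nonZeroDivisors Γ(X, U) := by
  rw [mem_nonZeroDivisors_iff_right]
  intro n hn
  by_contra hn0
  obtain ⟨w, hw, hmax, hmem⟩ := exists_minimal_of_mul_eq_zero ha hU b n hn0
    (by rw [mul_comm]; exact hn)
  exact hb _ (primeIdealOf_mem_minimalPrimes_of_maximal hU w hw hmax) hmem

/-- a generator of the stalk of `L` at a point. -/
def IsStalkGen (L : X.Modules) (η : X) (ε : L.presheaf.stalk η) : Prop :=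
  ∀ m : L.presheaf.stalk η, ∃ c : X.presheaf.stalk η, m = c • ε

lemma exists_frac_data (L : X.Modules) {U : X.Opens} (hU : IsAffineOpen U) {e : Γ(L, U)}
    (he : IsBasisOver L U e) (ε : ∀ η : X, L.presheaf.stalk η)
    (hε : ∀ η, IsGen η → IsStalkGen L η (ε η)) (p : Ideal Γ(X, U))
    (hp : p ∈ minimalPrimes Γ(X, U)) :
    ∃ c d : Γ(X, U), c ∉ p ∧ d ∉ p ∧ ∀ (η : X) (hη : η ∈ U),
      (hU.primeIdealOf ⟨η, hη⟩).asIdeal = p →
      X.presheaf.germ U η hη d • ε η = X.presheaf.germ U η hη c • L.presheaf.germ U η hη e := by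
  let p' : PrimeSpectrum Γ(X, U) := ⟨p, hp.1.1⟩
  have hη₀ : hU.fromSpec p' ∈ U := fromSpec_mem hU p'
  have hgen : IsGen (hU.fromSpec p') := maximal_fromSpec_of_minimalPrimes hU p' hp
  have hE : (hU.primeIdealOf ⟨hU.fromSpec p', hη₀⟩).asIdeal = p :=
    congrArg PrimeSpectrum.asIdeal (primeIdealOf_fromSpec hU p' hη₀)
  obtain ⟨u, hu⟩ := germ_basis_surj L he _ hη₀ (ε (hU.fromSpec p'))
  obtain ⟨v, hv⟩ := hε _ hgen (L.presheaf.germ U _ hη₀ e)
  have hvu : v * u = 1 := by
    have h1 : (1 - v * u) • L.presheaf.germ U _ hη₀ e = 0 := by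
      rw [sub_smul, one_smul, mul_smul, ← hu, ← hv, sub_self]
    have := germ_basis_inj L he _ hη₀ _ h1
    rw [sub_eq_zero] at this
    exact this.symm
  have huu : IsUnit u := IsUnit.of_mul_eq_one v (by rw [mul_comm]; exact hvu)
  letI := TopCat.Presheaf.algebra_section_stalk X.presheaf ⟨_, hη₀⟩
  haveI := hU.isLocalization_stalk ⟨_, hη₀⟩
  obtain ⟨⟨c, ⟨d, hd⟩⟩, hcd⟩ := IsLocalization.surj
    (hU.primeIdealOf ⟨hU.fromSpec p', hη₀⟩).asIdeal.primeCompl u
  have hcd' : u * X.presheaf.germ U _ hη₀ d = X.presheaf.germ U _ hη₀ c := hcd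
  have hdu : IsUnit (X.presheaf.germ U _ hη₀ d) := (isUnit_germ_iff hU _ hη₀ d).mpr hd
  have hcu : IsUnit (X.presheaf.germ U _ hη₀ c) := by
    rw [← hcd']; exact huu.mul hdu
  have hc : c ∉ (hU.primeIdealOf ⟨hU.fromSpec p', hη₀⟩).asIdeal :=
    (isUnit_germ_iff hU _ hη₀ c).mp hcu
  have hd' : d ∉ (hU.primeIdealOf ⟨hU.fromSpec p', hη₀⟩).asIdeal := hd
  refine ⟨c, d, by rwa [hE] at hc, by rwa [hE] at hd', ?_⟩
  intro η hη hηp
  have hηeq : hU.fromSpec p' = η := by
    have h1 : hU.primeIdealOf ⟨η, hη⟩ = p' := PrimeSpectrum.ext hηp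
    rw [← h1]
    exact hU.fromSpec_primeIdealOf ⟨η, hη⟩
  subst hηeq
  rw [hu, ← mul_smul, mul_comm, hcd']

set_option maxHeartbeats 800000 in
/-- local charts: near every point there are a section `m` of `L` and a regular function `b`
such that `m / b` induces the chosen generators at all maximal points. -/
theorem exists_chart
    (ha : ∀ x : X, Curv2.IsWeakAssPoint (Coh.structureModule X) x → ∀ y : X, y ⤳ x → y = x)
    (hb : ∀ U : X.Opens, IsCompact (U : Set X) →
      (irreducibleComponents ↥(U : Scheme.{u})).Finite)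
    (L : X.Modules) (hL : PicF.IsInvertible L) (ε : ∀ η : X, L.presheaf.stalk η)
    (hε : ∀ η, IsGen η → IsStalkGen L η (ε η)) (y : X) :
    ∃ (U : X.Opens) (_ : y ∈ U) (m : Γ(L, U)) (b : regSub X U),
      (∀ (η : X) (hη : η ∈ U), IsGen η →
        L.presheaf.germ U η hη m = X.presheaf.germ U η hη b.1 • ε η) ∧
      (∀ (z : X) (hz : z ∈ U) (r : X.presheaf.stalk z),
        r • L.presheaf.germ U z hz m = 0 → r = 0) := by
  classical
  obtain ⟨U₀, e₀, hyU₀, he₀⟩ := (isInvertible_iff_exists_isBasisOver L).mp hL y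
  obtain ⟨U, hU, hyU, hUs⟩ := exists_isAffineOpen_mem_and_subset (x := y) (U := U₀) hyU₀
  have hUU₀ : U ≤ U₀ := hUs
  have he := he₀.mono hUU₀
  set e : Γ(L, U) := L.presheaf.map (homOfLE hUU₀).op e₀ with he_def
  have hfin : (minimalPrimes Γ(X, U)).Finite :=
    Groth.Agent.H8.FlatUnram.finite_minimalPrimes_of_isAffineOpen hU le_rfl (hb U hU.isCompact)
  have hS : ∀ p ∈ hfin.toFinset, p ∈ minimalPrimes Γ(X, U) := fun p hp =>
    hfin.mem_toFinset.mp hp
  have hdata : ∀ p : Ideal Γ(X, U), ∃ c d : Γ(X, U), p ∈ minimalPrimes Γ(X, U) →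
      (c ∉ p ∧ d ∉ p ∧ ∀ (η : X) (hη : η ∈ U), (hU.primeIdealOf ⟨η, hη⟩).asIdeal = p →
      X.presheaf.germ U η hη d • ε η =
        X.presheaf.germ U η hη c • L.presheaf.germ U η hη e) := by
    intro p
    by_cases hp : p ∈ minimalPrimes Γ(X, U)
    · obtain ⟨c, d, h1, h2, h3⟩ := exists_frac_data L hU he ε hε p hp
      exact ⟨c, d, fun _ => ⟨h1, h2, h3⟩⟩
    · exact ⟨0, 0, fun h => absurd h hp⟩
  choose c d hcd using hdata
  obtain ⟨a, b, hap, hbp, hab⟩ := exists_sum_data hfin.toFinset hS c d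
    (fun p hp => (hcd p (hS p hp)).1) (fun p hp => (hcd p (hS p hp)).2.1)
  have hanz : a ∈ nonZeroDivisors Γ(X, U) :=
    nzd_of_forall_notMem_minimal ha hU a (fun p hp => hap p (hfin.mem_toFinset.mpr hp))
  have hbnz : b ∈ nonZeroDivisors Γ(X, U) :=
    nzd_of_forall_notMem_minimal ha hU b (fun p hp => hbp p (hfin.mem_toFinset.mpr hp))
  have har : a ∈ regSub X U := mem_regSub_of_mem_nonZeroDivisors hU a hanz
  have hbr : b ∈ regSub X U := mem_regSub_of_mem_nonZeroDivisors hU b hbnz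
  refine ⟨U, hyU, a • e, ⟨b, hbr⟩, ?_, ?_⟩
  · intro η hη hgen
    have hpmin := primeIdealOf_mem_minimalPrimes_of_maximal hU η hη hgen
    set p := (hU.primeIdealOf ⟨η, hη⟩).asIdeal with hp_def
    have hpS : p ∈ hfin.toFinset := hfin.mem_toFinset.mpr hpmin
    obtain ⟨hc1, hd1, hcd1⟩ := hcd p hpmin
    have hcd2 := hcd1 η hη rfl
    obtain ⟨t, htp, ht⟩ := hab p hpS
    have htu : IsUnit (X.presheaf.germ U η hη t) := (isUnit_germ_iff hU η hη t).mpr htp
    have hdu : IsUnit (X.presheaf.germ U η hη (d p)) := (isUnit_germ_iff hU η hη (d p)).mpr hd1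
    have h1 : X.presheaf.germ U η hη a * X.presheaf.germ U η hη (d p) =
        X.presheaf.germ U η hη b * X.presheaf.germ U η hη (c p) := by
      have h2 := congrArg (X.presheaf.germ U η hη) ht
      rw [map_mul, map_sub, map_mul, map_mul, map_zero] at h2
      have h3 := (htu.mul_right_eq_zero).mp h2
      exact sub_eq_zero.mp h3
    rw [Mero.germ_smul]
    change X.presheaf.germ U η hη a • L.presheaf.germ U η hη e = X.presheaf.germ U η hη b • ε η
    have h4 : X.presheaf.germ U η hη (d p) • (X.presheaf.germ U η hη a • L.presheaf.germ U η hη e) =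
        X.presheaf.germ U η hη (d p) • (X.presheaf.germ U η hη b • ε η) := by
      rw [smul_comm _ (X.presheaf.germ U η hη b) (ε η), hcd2, ← mul_smul, ← mul_smul,
        mul_comm, h1]
    obtain ⟨w, hw⟩ := hdu
    have h5 := congrArg (fun x => (↑w⁻¹ : X.presheaf.stalk η) • x) h4
    simp only [← hw, ← mul_smul, ← mul_assoc, Units.inv_mul, one_mul] at h5
    exact h5
  · intro z hz r hr
    rw [Mero.germ_smul, ← mul_smul] at hr
    have h1 := germ_basis_inj L he z hz _ hr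
    have h2 : X.presheaf.germ U z hz a ∈ nonZeroDivisors (X.presheaf.stalk z) := har ⟨z, hz⟩
    exact (mem_nonZeroDivisors_iff_right.mp h2) r h1

set_option maxHeartbeats 800000 in
/-- under hypotheses (a) and (b), every invertible module has a regular meromorphic section. -/
theorem hasRegularMero_of_weakAss
    (ha : ∀ x : X, Curv2.IsWeakAssPoint (Coh.structureModule X) x → ∀ y : X, y ⤳ x → y = x)
    (hb : ∀ U : X.Opens, IsCompact (U : Set X) →
      (irreducibleComponents ↥(U : Scheme.{u})).Finite)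
    (L : X.Modules) (hL : PicF.IsInvertible L) : Mero.HasRegularMero L := by
  classical
  have hTF := stalkTorsionFree_of_isInvertible L hL
  have hgenex : ∀ η : X, ∃ ε : L.presheaf.stalk η, IsStalkGen L η ε := by
    intro η
    obtain ⟨U, e, hηU, he⟩ := (isInvertible_iff_exists_isBasisOver L).mp hL η
    exact ⟨L.presheaf.germ U η hηU e, fun m => germ_basis_surj L he η hηU m⟩
  choose ε hε using hgenex
  have hchart := exists_chart ha hb L hL ε (fun η _ => hε η)
  choose U hyU m b h1 h2 using hchart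
  let t : ∀ x : (⊤ : X.Opens), MStalk L x.1 := fun x =>
    LocalizedModule.mk (L.presheaf.germ (U x.1) x.1 (hyU x.1) (m x.1))
      (regGerm ⟨x.1, hyU x.1⟩ (b x.1))
  have ht : (mLoc L).pred t := by
    intro x
    refine ⟨U x.1, hyU x.1, homOfLE le_top, m x.1, b x.1, fun y => ?_⟩
    change LocalizedModule.mk (L.presheaf.germ (U y.1) y.1 (hyU y.1) (m y.1))
      (regGerm ⟨y.1, hyU y.1⟩ (b y.1)) =
      LocalizedModule.mk (L.presheaf.germ (U x.1) y.1 y.2 (m x.1)) (regGerm y (b x.1))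
    rw [LocalizedModule.mk_eq]
    refine ⟨1, ?_⟩
    simp only [one_smul, Submonoid.smul_def]
    -- pass to the intersection
    let W : X.Opens := U x.1 ⊓ U y.1
    have hyW : y.1 ∈ W := ⟨y.2, hyU y.1⟩
    let n : Γ(L, W) :=
      X.presheaf.map (homOfLE (inf_le_left : W ≤ U x.1)).op (b x.1).1 •
        L.presheaf.map (homOfLE (inf_le_right : W ≤ U y.1)).op (m y.1) -
      X.presheaf.map (homOfLE (inf_le_right : W ≤ U y.1)).op (b y.1).1 •
        L.presheaf.map (homOfLE (inf_le_left : W ≤ U x.1)).op (m x.1)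
    have hn : L.presheaf.germ W y.1 hyW n = 0 := by
      apply germ_eq_zero_of_generic ha L hL n y.1 hyW
      intro η hη hgen _
      have e1 := h1 x.1 η hη.1 hgen
      have e2 := h1 y.1 η hη.2 hgen
      change L.presheaf.germ W η hη (_ - _) = 0
      rw [map_sub, Mero.germ_smul, Mero.germ_smul, TopCat.Presheaf.germ_res_apply,
        TopCat.Presheaf.germ_res_apply, TopCat.Presheaf.germ_res_apply,
        TopCat.Presheaf.germ_res_apply, e1, e2, smul_comm, sub_self]
    change L.presheaf.germ W y.1 hyW (_ - _) = 0 at hn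
    rw [map_sub, Mero.germ_smul, Mero.germ_smul, TopCat.Presheaf.germ_res_apply,
      TopCat.Presheaf.germ_res_apply, TopCat.Presheaf.germ_res_apply,
      TopCat.Presheaf.germ_res_apply, sub_eq_zero] at hn
    exact hn
  refine ⟨⟨t, ht⟩, ?_⟩
  intro x q hq
  change q • (LocalizedModule.mk (L.presheaf.germ (U x) x (hyU x) (m x))
    (regGerm ⟨x, hyU x⟩ (b x)) : MStalk L x) = 0 at hq
  induction q using Localization.induction_on with
  | H rs =>
    obtain ⟨r, s⟩ := rs
    rw [LocalizedModule.mk_smul_mk, mkM_eq_zero_iff hTF] at hq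
    have := h2 x x (hyU x) r hq
    rw [this]
    exact Localization.mk_zero s

end Sch

end Groth.Agent.H4.MeroReg
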