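import Mathlib
import Groth.Agent.Lib.Helper1.GrpFibHom
import Groth.Agent.Lib.Helper5.DF.DF9
import Groth.Agent.Lib.Helper3.EtFib

set_option autoImplicit false
universe u

namespace Groth.Agent.H4.MfA

open CategoryTheory CategoryTheory.Limits AlgebraicGeometry

theorem stalk_iff {X Y : Scheme.{u}} (f : X ⟶ Y)
    (P : ∀ {R S : Type u} [CommRing R] [CommRing S], (R →+* S) → Prop) {x x' : X} (h : x = x') :
    P (f.stalkMap x).hom ↔ P (f.stalkMap x').hom := by
  subst h; exact Iff.rfl

theorem inj_aux {X Y Xs Ys T T' A : Scheme.{u}} (f : X ⟶ Y) (fs : Xs ⟶ Ys) [Mono fs]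
    (iX : Xs ⟶ X) (pX : Xs ⟶ T') (iY : Ys ⟶ Y) (pY : Ys ⟶ T') (h : X ⟶ T) (g : Y ⟶ T)
    (j : T' ⟶ T) (hX : IsPullback iX pX h j) (hY : IsPullback iY pY g j)
    (e1 : fs ≫ iY = iX ≫ f) (e2 : fs ≫ pY = pX) (hfg : f ≫ g = h)
    (a b : A ⟶ X) (c : A ⟶ T') (hc : c ≫ j = a ≫ h) (hab : a ≫ f = b ≫ f) : a = b := by
  have hcb : c ≫ j = b ≫ h := by
    rw [hc, ← hfg, ← Category.assoc, hab, Category.assoc]
  have key : hX.lift a c hc.symm ≫ fs = hX.lift b c hcb.symm ≫ fs := by
    apply hY.hom_ext
    · rw [Category.assoc, Category.assoc, e1, hX.lift_fst_assoc, hX.lift_fst_assoc, hab]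
    · rw [Category.assoc, Category.assoc, e2, hX.lift_snd, hX.lift_snd]
  have h2 : hX.lift a c hc.symm = hX.lift b c hcb.symm := (cancel_mono fs).1 key
  calc a = hX.lift a c hc.symm ≫ iX := (hX.lift_fst _ _ _).symm
    _ = hX.lift b c hcb.symm ≫ iX := by rw [h2]
    _ = b := hX.lift_fst _ _ _

/-- Fibre criterion for monomorphisms (EGA IV 17.2.6 over a base): an `S`-morphism `u : H ⟶ G`
with `H` locally of finite type over `S` is a monomorphism as soon as all the maps induced on
the fibres over the points of `S` are monomorphisms. -/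
theorem mono_of_fib {S : Scheme.{u}} {H G : Over S} (u : H ⟶ G) [LocallyOfFiniteType H.hom]
    (hfib : ∀ s : S, Mono ((Over.pullback (S.fromSpecResidueField s)).map u).left) :
    Mono u.left := by
  haveI : LocallyOfFiniteType (u.left ≫ G.hom) := by rw [Over.w u]; infer_instance
  haveI : LocallyOfFiniteType u.left := locallyOfFiniteType_of_comp u.left G.hom
  have hfu : FormallyUnramified u.left := by
    rw [Groth.Agent.H3.EtFib.formallyUnramified_iff_stalks]
    intro x
    obtain ⟨x', hx'⟩ := Groth.Agent.H1.GrpFibHom.exists_fiberι_eq H.hom x (H.hom x) rfl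
    have hP := Groth.Agent.H1.GrpFibHom.isPullback_fibHom u (H.hom x)
    haveI hm : Mono (Groth.Agent.H1.GrpFibHom.fibHom u (H.hom x)).left := hfib (H.hom x)
    haveI : IsIso (pullback.diagonal (Groth.Agent.H1.GrpFibHom.fibHom u (H.hom x)).left) :=
      (pullback.isIso_diagonal_iff _).2 hm
    haveI : FormallyUnramified (Groth.Agent.H1.GrpFibHom.fibHom u (H.hom x)).left := inferInstance
    have h0 := FormallyUnramified.stalkMap (Groth.Agent.H1.GrpFibHom.fibHom u (H.hom x)).left x'
    have h1 := (H5.DF.formallyUnramified_stalkMap_iff_of_isPullback hP x').1 h0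
    exact (stalk_iff u.left (fun φ => φ.FormallyUnramified) hx').1 h1
  have hui : UniversallyInjective u.left := by
    have h01 := (tfae_universallyInjective u.left).out 0 1
    rw [h01]
    intro K _ a b hab
    have hab' : a ≫ u.left = b ≫ u.left := hab
    have hH : a ≫ H.hom = b ≫ H.hom := by
      rw [← Over.w u, ← Category.assoc, hab', Category.assoc]
    set t : Spec (.of K) ⟶ S := a ≫ H.hom with ht
    set s : S := t (IsLocalRing.closedPoint K) with hs
    let c : Spec (.of K) ⟶ Spec (S.residueField s) :=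
      Spec.map (Scheme.descResidueField (Scheme.stalkClosedPointTo t))
    have hc : c ≫ S.fromSpecResidueField s = t :=
      Scheme.descResidueField_stalkClosedPointTo_fromSpecResidueField K S t
    haveI hm : Mono (Groth.Agent.H1.GrpFibHom.fibHom u s).left := hfib s
    exact inj_aux u.left (Groth.Agent.H1.GrpFibHom.fibHom u s).left
      (H.hom.fiberι s) (H.hom.fiberToSpecResidueField s)
      (G.hom.fiberι s) (G.hom.fiberToSpecResidueField s) H.hom G.hom (S.fromSpecResidueField s)
      (IsPullback.of_hasPullback _ _) (IsPullback.of_hasPullback _ _)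
      (Groth.Agent.H1.GrpFibHom.fibHom_fiberι u s) (Groth.Agent.H1.GrpFibHom.fibHom_fiberToSpec u s)
      (Over.w u) a b c hc hab'
  haveI : IsOpenImmersion (pullback.diagonal u.left) := inferInstance
  haveI : Surjective (pullback.diagonal u.left) := (UniversallyInjective.iff_diagonal u.left).1 hui
  haveI : IsIso (pullback.diagonal u.left) :=
    (isIso_iff_isOpenImmersion_and_surjective _).2 ⟨inferInstance, inferInstance⟩
  exact (pullback.isIso_diagonal_iff u.left).1 inferInstance

end Groth.Agent.H4.MfA
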