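import Mathlib
import Groth.Prelude.Def_W4c1hilbpnTgt
import Groth.Agent.H4.TgtDec
import Groth.Agent.H4.TgtSS
import Groth.Agent.H4.TgtPow
import Groth.Agent.H4.TgtCC
import Groth.Agent.H4.TgtSum

set_option autoImplicit false
universe u
open W4c1hilbpn MvPolynomial
open Groth.Agent.H4.TgtDec Groth.Agent.H4.TgtSS Groth.Agent.H4.TgtPow Groth.Agent.H4.TgtCC
  Groth.Agent.H4.TgtSum

noncomputable section
namespace Groth.Agent.H4.MgSol

variable {k : Type u} [Field k] {n : ℕ} {ι : Type}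

section Defs
variable (g : ι → (Fin n →₀ ℕ))

/-- an integer vector is standard: nonnegative and not above any generator -/
def StdZ (v : Fin n → ℤ) : Prop := (∀ t, 0 ≤ v t) ∧ ∀ l, ¬ ∀ t, (g l t : ℤ) ≤ v t

/-- the point `g i + α` -/
def uu (α : Fin n → ℤ) (i : ι) : Fin n → ℤ := fun t => (g i t : ℤ) + α t

def Act (α : Fin n → ℤ) (i : ι) : Prop := StdZ g (uu g α i)

def Edge (α : Fin n → ℤ) (i j : ι) : Prop :=
  StdZ g (fun t => max (max (uu g α i t) (uu g α j t)) 0)

variable {g}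

lemma stdZ_mono {v w : Fin n → ℤ} (hw : StdZ g w) (hv : ∀ t, 0 ≤ v t) (hvw : ∀ t, v t ≤ w t) :
    StdZ g v :=
  ⟨hv, fun l hl => hw.2 l (fun t => le_trans (hl t) (hvw t))⟩

lemma edge_symm {α : Fin n → ℤ} {i j : ι} (h : Edge g α i j) : Edge g α j i := by
  unfold Edge at h ⊢
  have e : (fun t => max (max (uu g α j t) (uu g α i t)) 0) =
      (fun t => max (max (uu g α i t) (uu g α j t)) 0) := by
    funext t
    rw [max_comm (uu g α j t) (uu g α i t)]
  rw [e]
  exact h

lemma act_of_edge {α : Fin n → ℤ} {i j : ι} (h : Edge g α i j) (hj : ∀ t, 0 ≤ uu g α j t) :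
    Act g α j :=
  stdZ_mono h hj (fun t => le_trans (le_max_right _ _) (le_max_left _ _))

variable (k g)

/-- the solution space attached to the generator graph -/
def Sol (α : Fin n → ℤ) : Submodule k (ι → k) where
  carrier := {c | (∀ i, ¬ Act g α i → c i = 0) ∧ ∀ i j, Edge g α i j → c i = c j}
  zero_mem' := ⟨fun _ _ => rfl, fun _ _ _ => rfl⟩
  add_mem' := by
    rintro c d ⟨hc1, hc2⟩ ⟨hd1, hd2⟩
    exact ⟨fun i hi => by rw [Pi.add_apply, hc1 i hi, hd1 i hi, add_zero],
      fun i j h => by rw [Pi.add_apply, Pi.add_apply, hc2 i j h, hd2 i j h]⟩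
  smul_mem' := by
    rintro a c ⟨hc1, hc2⟩
    exact ⟨fun i hi => by rw [Pi.smul_apply, hc1 i hi, smul_zero],
      fun i j h => by rw [Pi.smul_apply, Pi.smul_apply, hc2 i j h]⟩

variable {k g}

lemma mem_sol {α : Fin n → ℤ} {c : ι → k} :
    c ∈ Sol k g α ↔ (∀ i, ¬ Act g α i → c i = 0) ∧ ∀ i j, Edge g α i j → c i = c j := Iff.rfl

lemma sol_eq_bot (α : Fin n → ℤ)
    (h : ∀ i, Act g α i → ∃ j, Edge g α i j ∧ ¬ Act g α j) : Sol k g α = ⊥ := by
  rw [Submodule.eq_bot_iff]
  intro c hc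
  funext i
  show c i = 0
  by_cases hA : Act g α i
  · obtain ⟨j, hE, hj⟩ := h i hA
    rw [hc.2 i j hE, hc.1 j hj]
  · exact hc.1 i hA

/-- dimension count through a classification of the vertices -/
theorem finrank_sol [Finite ι] (α : Fin n → ℤ) {κ : Type} [Fintype κ] (en : κ → Prop)
    [DecidablePred en] (cls : ι → Option κ) (r : κ → ι)
    (hr : ∀ t, en t → cls (r t) = some t)
    (hen : ∀ i t, cls i = some t → en t)
    (h1 : ∀ i, cls i = none → ∀ c ∈ Sol k g α, c i = 0)
    (h2 : ∀ i t, cls i = some t → ∀ c ∈ Sol k g α, c i = c (r t))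
    (h3a : ∀ i t, cls i = some t → Act g α i)
    (h3b : ∀ i j t, Edge g α i j → cls i = some t → cls j = some t) :
    Module.finrank k ↥(Sol k g α) = ∑ t : κ, if en t then 1 else 0 := by
  classical
  let E : ↥(Sol k g α) →ₗ[k] ({t : κ // en t} → k) :=
    { toFun := fun c t => c.1 (r t.1)
      map_add' := fun c d => rfl
      map_smul' := fun a c => rfl }
  have hinj : Function.Injective E := by
    rw [← LinearMap.ker_eq_bot, LinearMap.ker_eq_bot']
    intro c hc
    apply Subtype.ext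
    funext i
    show c.1 i = 0
    rcases hci : cls i with _ | t
    · exact h1 i hci c.1 c.2
    · rw [h2 i t hci c.1 c.2]
      exact congrFun hc ⟨t, hen i t hci⟩
  have hsurj : Function.Surjective E := by
    intro a
    let c : ι → k := fun i => match cls i with
      | some t => if h : en t then a ⟨t, h⟩ else 0
      | none => 0
    have hcs : ∀ i t, cls i = some t → ∀ h : en t, c i = a ⟨t, h⟩ := by
      intro i t hi h
      show (match cls i with
        | some t => if h : en t then a ⟨t, h⟩ else 0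
        | none => 0) = a ⟨t, h⟩
      rw [hi]
      exact dif_pos h
    have hcn : ∀ i, cls i = none → c i = 0 := by
      intro i hi
      show (match cls i with
        | some t => if h : en t then a ⟨t, h⟩ else 0
        | none => 0) = 0
      rw [hi]
    have hmem : c ∈ Sol k g α := by
      refine ⟨fun i hi => ?_, fun i j hE => ?_⟩
      · rcases hci : cls i with _ | t
        · exact hcn i hci
        · exact absurd (h3a i t hci) hi
      · rcases hci : cls i with _ | t
        · rcases hcj : cls j with _ | t'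
          · rw [hcn i hci, hcn j hcj]
          · have := h3b j i t' (edge_symm hE) hcj
            rw [hci] at this
            exact absurd this (by simp)
        · have hcj := h3b i j t hE hci
          have ht := hen i t hci
          rw [hcs i t hci ht, hcs j t hcj ht]
    refine ⟨⟨c, hmem⟩, ?_⟩
    funext t
    show c (r t.1) = a t
    rw [hcs (r t.1) t.1 (hr t.1 t.2) t.2]
  have e := LinearEquiv.ofBijective E ⟨hinj, hsurj⟩
  rw [e.finrank_eq, Module.finrank_fintype_fun_eq_card, Fintype.card_subtype,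
    Finset.card_filter]

end Defs

section Main
variable [Finite ι] {g : ι → (Fin n →₀ ℕ)} {I : Ideal (MvPolynomial (Fin n) k)}

lemma mem_gen (hgen : ∀ β : Fin n →₀ ℕ, monomial β (1 : k) ∈ I ↔ ∃ i, g i ≤ β) (i : ι) :
    monomial (g i) (1 : k) ∈ I := (hgen _).2 ⟨i, le_rfl⟩

lemma stdZ_iff (hgen : ∀ β : Fin n →₀ ℕ, monomial β (1 : k) ∈ I ↔ ∃ i, g i ≤ β)
    (v : Fin n → ℤ) (hv : ∀ t, 0 ≤ v t) : StdZ g v ↔ monomial (tn v) (1 : k) ∉ I := by
  rw [hgen]
  constructor
  · rintro ⟨_, h⟩ ⟨l, hl⟩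
    refine h l (fun t => ?_)
    have h1 := Finsupp.le_def.1 hl t
    rw [tn_apply] at h1
    have h2 := hv t
    omega
  · intro h
    refine ⟨hv, fun l hl => h ⟨l, Finsupp.le_def.2 (fun t => ?_)⟩⟩
    rw [tn_apply]
    have h1 := hl t
    have h2 := hv t
    omega

lemma act_iff (hgen : ∀ β : Fin n →₀ ℕ, monomial β (1 : k) ∈ I ↔ ∃ i, g i ≤ β)
    (α : Fin n → ℤ) (i : ι) :
    Act g α i ↔ (∀ t, 0 ≤ pt (g i) α t) ∧ monomial (shift (g i) α) (1 : k) ∉ I := by
  constructor
  · intro h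
    exact ⟨h.1, (stdZ_iff hgen _ h.1).1 h⟩
  · rintro ⟨h1, h2⟩
    exact (stdZ_iff hgen (pt (g i) α) h1).2 h2

lemma mk_mul_smul (μ δ : Fin n →₀ ℕ) (c : k) :
    Ideal.Quotient.mk I (monomial μ 1) * (c • Ideal.Quotient.mk I (monomial δ (1 : k))) =
      c • Ideal.Quotient.mk I (monomial (μ + δ) 1) := by
  rw [mul_smul_comm, ← map_mul, monomial_mul, one_mul]

variable (hgen : ∀ β : Fin n →₀ ℕ, monomial β (1 : k) ∈ I ↔ ∃ i, g i ≤ β) (hI : IsMonomial I)

open Classical in
/-- coefficient of `φ (x^(g i))` -/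
def psi (α : Fin n → ℤ) (φ : Tgt I) (i : ι) : k :=
  if h : Act g α i then
    lam hI (shift (g i) α) ((act_iff hgen α i).1 h).2 (φ ⟨monomial (g i) 1, mem_gen hgen i⟩)
  else 0

lemma psi_act {α : Fin n → ℤ} (φ : Tgt I) {i : ι} (h : Act g α i) :
    psi hgen hI α φ i =
      lam hI (shift (g i) α) ((act_iff hgen α i).1 h).2
        (φ ⟨monomial (g i) 1, mem_gen hgen i⟩) := dif_pos h

lemma psi_nact {α : Fin n → ℤ} (φ : Tgt I) {i : ι} (h : ¬ Act g α i) :
    psi hgen hI α φ i = 0 := dif_neg h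

lemma gen_val {α : Fin n → ℤ} (φ : Tgt I) (hφ : φ ∈ tPiece I α) (i : ι)
    (hnn : ∀ t, 0 ≤ pt (g i) α t) :
    φ ⟨monomial (g i) 1, mem_gen hgen i⟩ =
      psi hgen hI α φ i • Ideal.Quotient.mk I (monomial (shift (g i) α) (1 : k)) := by
  obtain ⟨c, hc⟩ := Submodule.mem_span_singleton.1 ((hφ (g i) (mem_gen hgen i)).1 hnn)
  by_cases hA : Act g α i
  · have h1 : psi hgen hI α φ i = c := by
      rw [psi_act hgen hI φ hA, ← hc, mk_smul', smul_monomial, smul_eq_mul, mul_one, lam_mk,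
        coeff_monomial, if_pos rfl]
    rw [h1, hc]
  · have hm : monomial (shift (g i) α) (1 : k) ∈ I := by
      by_contra hm
      exact hA ((act_iff hgen α i).2 ⟨hnn, hm⟩)
    rw [psi_nact hgen hI φ hA, zero_smul, ← hc, Ideal.Quotient.eq_zero_iff_mem.2 hm, smul_zero]

lemma phi_eq {α : Fin n → ℤ} (φ : Tgt I) (hφ : φ ∈ tPiece I α) (i : ι) (β : Fin n →₀ ℕ)
    (hβ : monomial β (1 : k) ∈ I) (hle : g i ≤ β) (hnn : ∀ t, 0 ≤ pt β α t) :
    φ ⟨monomial β 1, hβ⟩ =
      psi hgen hI α φ i • Ideal.Quotient.mk I (monomial (shift β α) (1 : k)) := by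
  have hμ : β - g i + g i = β := tsub_add_cancel_of_le hle
  have e : (⟨monomial β 1, hβ⟩ : ↥I) =
      (monomial (β - g i) (1 : k) : MvPolynomial (Fin n) k) •
        (⟨monomial (g i) 1, mem_gen hgen i⟩ : ↥I) := by
    apply Subtype.ext
    rw [Submodule.coe_smul, smul_eq_mul, monomial_mul, one_mul, hμ]
  by_cases h0 : ∀ t, 0 ≤ pt (g i) α t
  · have hs : shift β α = (β - g i) + shift (g i) α := by
      rw [← shift_add α _ (g i) h0, hμ]
    rw [e, map_smul, gen_val hgen hI φ hφ i h0, smul_eq_mk_mul, mk_mul_smul, ← hs]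
  · have hz : φ ⟨monomial (g i) 1, mem_gen hgen i⟩ = 0 :=
      (hφ (g i) (mem_gen hgen i)).2 (by push Not at h0; exact h0)
    have hA : ¬ Act g α i := fun hA => h0 hA.1
    rw [e, map_smul, hz, smul_zero, psi_nact hgen hI φ hA, zero_smul]

lemma psi_mem_sol {α : Fin n → ℤ} (φ : Tgt I) (hφ : φ ∈ tPiece I α) :
    psi hgen hI α φ ∈ Sol k g α := by
  refine ⟨fun i hi => psi_nact hgen hI φ hi, fun i j hE => ?_⟩
  set v : Fin n → ℤ := fun t => max (max (uu g α i t) (uu g α j t)) 0 with hv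
  have hv0 : ∀ t, 0 ≤ v t := fun t => le_max_right _ _
  have hvi : ∀ t, uu g α i t ≤ v t := fun t => le_trans (le_max_left _ _) (le_max_left _ _)
  have hvj : ∀ t, uu g α j t ≤ v t := fun t => le_trans (le_max_right _ _) (le_max_left _ _)
  have hLi : g i ≤ bof v α := by
    refine Finsupp.le_def.2 (fun t => ?_)
    show g i t ≤ (v t - α t).toNat
    have := hvi t
    unfold uu at this
    omega
  have hLj : g j ≤ bof v α := by
    refine Finsupp.le_def.2 (fun t => ?_)
    show g j t ≤ (v t - α t).toNat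
    have := hvj t
    unfold uu at this
    omega
  have hpt : pt (bof v α) α = v := by
    funext t
    show (((v t - α t).toNat : ℕ) : ℤ) + α t = v t
    have := hvi t
    unfold uu at this
    omega
  have hnn : ∀ t, 0 ≤ pt (bof v α) α t := by
    rw [hpt]
    exact hv0
  have hstd : monomial (shift (bof v α) α) (1 : k) ∉ I := by
    rw [← tn_pt, hpt]
    exact (stdZ_iff hgen v hv0).1 hE
  have hβ : monomial (bof v α) (1 : k) ∈ I := (hgen _).2 ⟨i, hLi⟩
  have e1 := phi_eq hgen hI φ hφ i (bof v α) hβ hLi hnn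
  have e2 := phi_eq hgen hI φ hφ j (bof v α) hβ hLj hnn
  have e3 := congrArg (lam hI (shift (bof v α) α) hstd) (e1.symm.trans e2)
  rw [map_smul, map_smul, lam_mk, coeff_monomial, if_pos rfl, smul_eq_mul, mul_one, smul_eq_mul,
    mul_one] at e3
  exact e3

/-- the linear map extracting coefficients -/
def PsiL (α : Fin n → ℤ) : ↥(tPiece I α) →ₗ[k] ↥(Sol k g α) where
  toFun φ := ⟨psi hgen hI α φ.1, psi_mem_sol hgen hI φ.1 φ.2⟩
  map_add' φ ψ := by
    apply Subtype.ext
    funext i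
    show psi hgen hI α (φ.1 + ψ.1) i = psi hgen hI α φ.1 i + psi hgen hI α ψ.1 i
    by_cases h : Act g α i
    · rw [psi_act hgen hI _ h, psi_act hgen hI _ h, psi_act hgen hI _ h, LinearMap.add_apply,
        map_add]
    · rw [psi_nact hgen hI _ h, psi_nact hgen hI _ h, psi_nact hgen hI _ h, add_zero]
  map_smul' a φ := by
    apply Subtype.ext
    funext i
    show psi hgen hI α (a • φ.1) i = a • psi hgen hI α φ.1 i
    by_cases h : Act g α i
    · rw [psi_act hgen hI _ h, psi_act hgen hI _ h, LinearMap.smul_apply, map_smul]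
    · rw [psi_nact hgen hI _ h, psi_nact hgen hI _ h, smul_zero]

lemma PsiL_inj (α : Fin n → ℤ) : Function.Injective (PsiL hgen hI α) := by
  intro φ ψ h
  have h0 : ∀ i, psi hgen hI α φ.1 i = psi hgen hI α ψ.1 i :=
    fun i => congrFun (congrArg Subtype.val h) i
  apply Subtype.ext
  refine ext_mono hI φ.1 ψ.1 (fun β hβ => ?_)
  obtain ⟨i, hle⟩ := (hgen β).1 hβ
  by_cases hnn : ∀ t, 0 ≤ pt β α t
  · rw [phi_eq hgen hI φ.1 φ.2 i β hβ hle hnn, phi_eq hgen hI ψ.1 ψ.2 i β hβ hle hnn, h0 i]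
  · have hneg : ∃ i, (β i : ℤ) + α i < 0 := by push Not at hnn; exact hnn
    rw [(φ.2 β hβ).2 hneg, (ψ.2 β hβ).2 hneg]

lemma PsiL_surj (α : Fin n → ℤ) : Function.Surjective (PsiL hgen hI α) := by
  classical
  rintro ⟨c, hc⟩
  let ch : ∀ β : Fin n →₀ ℕ, monomial β (1 : k) ∈ I → ι :=
    fun β h => Classical.choose ((hgen β).1 h)
  have ch_le : ∀ β (h : monomial β (1 : k) ∈ I), g (ch β h) ≤ β :=
    fun β h => Classical.choose_spec ((hgen β).1 h)
  let G : (Fin n →₀ ℕ) → MvPolynomial (Fin n) k ⧸ I := fun β =>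
    if h : monomial β (1 : k) ∈ I ∧ ∀ t, 0 ≤ pt β α t then
      c (ch β h.1) • Ideal.Quotient.mk I (monomial (shift β α) (1 : k)) else 0
  have hGpos : ∀ β (hβ : monomial β (1 : k) ∈ I) (_ : ∀ t, 0 ≤ pt β α t),
      G β = c (ch β hβ) • Ideal.Quotient.mk I (monomial (shift β α) (1 : k)) :=
    fun β hβ hnn => dif_pos ⟨hβ, hnn⟩
  have hGneg : ∀ β, ¬ (∀ t, 0 ≤ pt β α t) → G β = 0 := fun β h => dif_neg (fun h' => h h'.2)
  have key : ∀ β (hβ : monomial β (1 : k) ∈ I), (∀ t, 0 ≤ pt β α t) →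
      monomial (shift β α) (1 : k) ∉ I → ∀ i, g i ≤ β → c i = c (ch β hβ) := by
    intro β hβ hnn hstd i hle
    refine hc.2 i (ch β hβ) ?_
    have hS : StdZ g (pt β α) := (stdZ_iff hgen (pt β α) hnn).2 hstd
    refine stdZ_mono hS (fun t => le_max_right _ _) (fun t => ?_)
    have h1 := Finsupp.le_def.1 hle t
    have h2 := Finsupp.le_def.1 (ch_le β hβ) t
    have h3 := hnn t
    rw [pt_apply] at h3 ⊢
    unfold uu
    omega
  have hG : ∀ μ β, monomial β (1 : k) ∈ I →
      G (μ + β) = Ideal.Quotient.mk I (monomial μ 1) * G β := by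
    intro μ β hβ
    have hμβ : monomial (μ + β) (1 : k) ∈ I := mono_add_mem μ hβ
    have hle' : g (ch β hβ) ≤ μ + β := le_trans (ch_le β hβ) le_add_self
    by_cases h1 : ∀ t, 0 ≤ pt (μ + β) α t
    · rw [hGpos (μ + β) hμβ h1]
      by_cases hstd : monomial (shift (μ + β) α) (1 : k) ∈ I
      · rw [Ideal.Quotient.eq_zero_iff_mem.2 hstd, smul_zero]
        by_cases h0 : ∀ t, 0 ≤ pt β α t
        · rw [hGpos β hβ h0, mk_mul_smul, ← shift_add α μ β h0,
            Ideal.Quotient.eq_zero_iff_mem.2 hstd, smul_zero]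
        · rw [hGneg β h0, mul_zero]
      · have e1 : c (ch β hβ) = c (ch (μ + β) hμβ) :=
          key (μ + β) hμβ h1 hstd (ch β hβ) hle'
        by_cases h0 : ∀ t, 0 ≤ pt β α t
        · rw [hGpos β hβ h0, mk_mul_smul, ← shift_add α μ β h0, e1]
        · have e2 : c (ch β hβ) = 0 := by
            refine hc.1 _ (fun hA => h0 (fun t => ?_))
            have h3 := hA.1 t
            have h4 := Finsupp.le_def.1 (ch_le β hβ) t
            unfold uu at h3
            rw [pt_apply]
            omega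
          rw [hGneg β h0, mul_zero, ← e1, e2, zero_smul]
    · have h0 : ¬ ∀ t, 0 ≤ pt β α t := by
        intro h
        apply h1
        intro t
        have := h t
        rw [pt_apply] at this ⊢
        rw [Finsupp.add_apply]
        push_cast
        omega
      rw [hGneg _ h1, hGneg _ h0, mul_zero]
  obtain ⟨φ, hφ⟩ := exists_tgt hI G hG
  have hmem : φ ∈ tPiece I α := by
    intro β hβ
    refine ⟨fun h => ?_, fun h => ?_⟩
    · rw [hφ β hβ, hGpos β hβ h]
      exact Submodule.smul_mem _ _ (Submodule.mem_span_singleton_self _)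
    · rw [hφ β hβ, hGneg β (by push Not; exact h)]
  refine ⟨⟨φ, hmem⟩, ?_⟩
  apply Subtype.ext
  funext i
  show psi hgen hI α φ i = c i
  by_cases hA : Act g α i
  · have h2 := (act_iff hgen α i).1 hA
    rw [psi_act hgen hI φ hA, hφ _ (mem_gen hgen i), hGpos _ (mem_gen hgen i) h2.1, map_smul,
      lam_mk, coeff_monomial, if_pos rfl, smul_eq_mul, mul_one]
    exact (key (g i) (mem_gen hgen i) h2.1 h2.2 i le_rfl).symm
  · rw [psi_nact hgen hI φ hA, hc.1 i hA]

/-- the graded piece is the solution space of the generator graph -/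
def pieceEquiv (α : Fin n → ℤ) : ↥(tPiece I α) ≃ₗ[k] ↥(Sol k g α) :=
  LinearEquiv.ofBijective (PsiL hgen hI α) ⟨PsiL_inj hgen hI α, PsiL_surj hgen hI α⟩

include hgen hI in
lemma piece_finite (α : Fin n → ℤ) : Module.Finite k ↥(tPiece I α) :=
  Module.Finite.equiv (pieceEquiv hgen hI α).symm

include hgen hI in
lemma finrank_piece (α : Fin n → ℤ) :
    Module.finrank k ↥(tPiece I α) = Module.finrank k ↥(Sol k g α) :=
  (pieceEquiv hgen hI α).finrank_eq

include hgen hI in
/-- assembly: the degree-zero part as a sum over a finite set of multidegrees -/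
theorem finrank_deg0 (T : Finset (Fin n → ℤ)) (hT : ∀ α ∈ T, ∑ i, α i = 0)
    (hvan : ∀ α : Fin n → ℤ, ∑ i, α i = 0 → α ∉ T → Sol k g α = ⊥) :
    Module.finrank k ↥(⨆ α : {α : Fin n → ℤ // ∑ i, α i = 0}, tPiece I α.1) =
      ∑ α ∈ T, Module.finrank k ↥(Sol k g α) := by
  classical
  have hfd : ∀ α, Module.Finite k ↥(tPiece I α) := fun α => piece_finite hgen hI α
  have hsup : (⨆ α : {α : Fin n → ℤ // ∑ i, α i = 0}, tPiece I α.1) = T.sup (tPiece I) := by
    apply le_antisymm
    · refine iSup_le (fun α => ?_)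
      by_cases hα : α.1 ∈ T
      · exact Finset.le_sup hα
      · have hb : tPiece I α.1 = ⊥ := by
          rw [Submodule.eq_bot_iff]
          intro φ hφ
          have h1 : pieceEquiv hgen hI α.1 ⟨φ, hφ⟩ = 0 := by
            apply Subtype.ext
            have h2 := (pieceEquiv hgen hI α.1 ⟨φ, hφ⟩).2
            have h3 : Sol k g α.1 ≤ ⊥ := le_of_eq (hvan α.1 α.2 hα)
            exact (Submodule.mem_bot k).1 (h3 h2)
          have h3 := (pieceEquiv hgen hI α.1).injective (h1.trans (map_zero _).symm)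
          exact congrArg Subtype.val h3
        rw [hb]
        exact bot_le
    · exact Finset.sup_le (fun α hα =>
        le_iSup (fun α : {α : Fin n → ℤ // ∑ i, α i = 0} => tPiece I α.1) ⟨α, hT α hα⟩)
  rw [hsup, finrank_sup hI hfd T]
  exact Finset.sum_congr rfl (fun α _ => finrank_piece hgen hI α)

end Main

end Groth.Agent.H4.MgSol
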