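import Mathlib
import Groth.Prelude.Def_W4c1hilbpnTgt
import Groth.Agent.H4.MgSol

set_option autoImplicit false
universe u
open W4c1hilbpn MvPolynomial
open Groth.Agent.H4.MgSol

noncomputable section
namespace Groth.Agent.H4.MgTB

variable {k : Type u} [Field k]

/-- unit vector at position `s` (zero if out of range) -/
def eN (n : ℕ) (s : ℕ) : Fin (n + 1) →₀ ℕ :=
  if h : s < n + 1 then Finsupp.single ⟨s, h⟩ 1 else 0

lemma eN_apply (n s : ℕ) (t : Fin (n + 1)) : eN n s t = if t.val = s then 1 else 0 := by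
  unfold eN
  by_cases h : s < n + 1
  · rw [dif_pos h, Finsupp.single_apply]
    by_cases e : t.val = s
    · rw [if_pos e, if_pos (Fin.ext e.symm)]
    · rw [if_neg e, if_neg (fun e' => e (by rw [← e']))]
  · rw [dif_neg h, if_neg (by have := t.isLt; omega)]
    rfl

/-- vertices: `inl i` is `x_0 x_i`, `inr j` is `x_1^q x_(j+1)` -/
abbrev Vx (n m : ℕ) : Type := Fin n ⊕ Fin m

/-- exponent vectors of the generators -/
def gg (n q m : ℕ) : Vx n m → (Fin (n + 1) →₀ ℕ)
  | Sum.inl i => eN n 0 + eN n i.val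
  | Sum.inr j => q • eN n 1 + eN n (j.val + 1)

def gA (i t : ℕ) : ℤ := (if t = 0 then 1 else 0) + (if t = i then 1 else 0)

def gB (q j t : ℕ) : ℤ := (if t = 1 then (q : ℤ) else 0) + (if t = j then 1 else 0)

def gV (q : ℕ) {n m : ℕ} : Vx n m → ℕ → ℤ
  | Sum.inl i => gA i.val
  | Sum.inr j => gB q (j.val + 1)

lemma gg_apply (n q m : ℕ) (x : Vx n m) (t : Fin (n + 1)) :
    ((gg n q m x t : ℕ) : ℤ) = gV q x t.val := by
  rcases x with i | j
  · show ((((eN n 0 + eN n i.val : Fin (n + 1) →₀ ℕ) t : ℕ)) : ℤ) = gA i.val t.val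
    rw [Finsupp.add_apply, eN_apply, eN_apply]
    unfold gA
    push_cast
    rfl
  · show ((((q • eN n 1 + eN n (j.val + 1) : Fin (n + 1) →₀ ℕ) t : ℕ)) : ℤ) =
      gB q (j.val + 1) t.val
    rw [Finsupp.add_apply, Finsupp.smul_apply, eN_apply, eN_apply]
    unfold gB
    by_cases e : t.val = 1
    · rw [if_pos e, if_pos e]
      push_cast
      simp
    · rw [if_neg e, if_neg e]
      push_cast
      simp

/-- standardness of a vector indexed by naturals -/
def stdN (n q m : ℕ) (w : ℕ → ℤ) : Prop :=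
  (∀ t, t ≤ n → 0 ≤ w t) ∧
  (w 0 ≤ 0 ∨ (w 0 ≤ 1 ∧ ∀ t, 1 ≤ t → t + 1 ≤ n → w t ≤ 0)) ∧
  (w 1 ≤ (q : ℤ) - 1 ∨ (w 1 ≤ q ∧ ∀ t, 2 ≤ t → t ≤ m → w t ≤ 0))

lemma std_iff (n q m : ℕ) (hn : 2 ≤ n) (hm1 : 1 ≤ m) (hm : m + 1 ≤ n) (w : ℕ → ℤ) :
    StdZ (gg n q m) (fun t : Fin (n + 1) => w t.val) ↔ stdN n q m w := by
  constructor
  · rintro ⟨h0, hg⟩
    have h0' : ∀ t, t ≤ n → 0 ≤ w t := fun t ht => h0 ⟨t, by omega⟩
    refine ⟨h0', ?_, ?_⟩
    · by_contra hcon
      push Not at hcon
      by_cases h2 : w 0 ≤ 1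
      · obtain ⟨t, ht1, ht2, ht3⟩ := hcon.2 h2
        apply hg (Sum.inl ⟨t, by omega⟩)
        intro s
        rw [gg_apply]
        show gA t s.val ≤ w s.val
        unfold gA
        have hs := h0 s
        have hc1 := hcon.1
        by_cases e1 : s.val = 0
        · rw [if_pos e1, if_neg (by omega), e1]
          omega
        · by_cases e2 : s.val = t
          · rw [if_neg e1, if_pos e2, e2]
            omega
          · rw [if_neg e1, if_neg e2]
            exact hs
      · apply hg (Sum.inl ⟨0, by omega⟩)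
        intro s
        rw [gg_apply]
        show gA 0 s.val ≤ w s.val
        unfold gA
        have hs := h0 s
        by_cases e1 : s.val = 0
        · rw [if_pos e1, e1]
          omega
        · rw [if_neg e1]
          exact hs
    · by_contra hcon
      push Not at hcon
      by_cases h2 : w 1 ≤ q
      · obtain ⟨t, ht1, ht2, ht3⟩ := hcon.2 h2
        apply hg (Sum.inr ⟨t - 1, by omega⟩)
        intro s
        rw [gg_apply]
        show gB q (t - 1 + 1) s.val ≤ w s.val
        unfold gB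
        have hs := h0 s
        have hc1 := hcon.1
        by_cases e1 : s.val = 1
        · rw [if_pos e1, if_neg (by omega), e1]
          omega
        · by_cases e2 : s.val = t - 1 + 1
          · rw [if_neg e1, if_pos e2, e2, show t - 1 + 1 = t by omega]
            omega
          · rw [if_neg e1, if_neg e2]
            exact hs
      · apply hg (Sum.inr ⟨0, by omega⟩)
        intro s
        rw [gg_apply]
        show gB q (0 + 1) s.val ≤ w s.val
        unfold gB
        have hs := h0 s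
        by_cases e1 : s.val = 1
        · rw [if_pos e1, if_pos (by omega), e1]
          omega
        · rw [if_neg e1, if_neg (by omega)]
          exact hs
  · rintro ⟨h0, hA, hB⟩
    refine ⟨fun t => h0 t.val (by have := t.isLt; omega), ?_⟩
    rintro (i | j) hl
    · have e0 : gA i.val 0 ≤ w 0 := by
        have := hl ⟨0, by omega⟩
        rw [gg_apply] at this
        exact this
      have ei : gA i.val i.val ≤ w i.val := by
        have := hl ⟨i.val, by have := i.isLt; omega⟩
        rw [gg_apply] at this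
        exact this
      unfold gA at e0 ei
      have hi := i.isLt
      rcases hA with hA | ⟨hA1, hA2⟩
      · omega
      · by_cases hi0 : i.val = 0
        · rw [hi0] at e0
          omega
        · have := hA2 i.val (by omega) (by omega)
          omega
    · have e1 : gB q (j.val + 1) 1 ≤ w 1 := by
        have := hl ⟨1, by omega⟩
        rw [gg_apply] at this
        exact this
      have ej : gB q (j.val + 1) (j.val + 1) ≤ w (j.val + 1) := by
        have := hl ⟨j.val + 1, by have := j.isLt; omega⟩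
        rw [gg_apply] at this
        exact this
      unfold gB at e1 ej
      have hj := j.isLt
      rcases hB with hB | ⟨hB1, hB2⟩
      · omega
      · by_cases hj0 : j.val = 0
        · rw [hj0] at e1
          omega
        · have := hB2 (j.val + 1) (by omega) (by omega)
          omega

def uN (q : ℕ) {n m : ℕ} (a : ℕ → ℤ) (x : Vx n m) (t : ℕ) : ℤ := gV q x t + a t

def ActN (n q m : ℕ) (a : ℕ → ℤ) (x : Vx n m) : Prop := stdN n q m (uN q a x)

def EdgeN (n q m : ℕ) (a : ℕ → ℤ) (x y : Vx n m) : Prop :=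
  stdN n q m (fun t => max (max (uN q a x t) (uN q a y t)) 0)

/-- the multidegree attached to a function on naturals -/
def toA (n : ℕ) (a : ℕ → ℤ) : Fin (n + 1) → ℤ := fun t => a t.val

lemma act_iffN (n q m : ℕ) (hn : 2 ≤ n) (hm1 : 1 ≤ m) (hm : m + 1 ≤ n) (a : ℕ → ℤ)
    (x : Vx n m) : Act (gg n q m) (toA n a) x ↔ ActN n q m a x := by
  unfold Act ActN
  have e : uu (gg n q m) (toA n a) x = fun t : Fin (n + 1) => uN q a x t.val := by
    funext t
    unfold uu uN toA
    rw [gg_apply]
  rw [e]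
  exact std_iff n q m hn hm1 hm _

lemma edge_iffN (n q m : ℕ) (hn : 2 ≤ n) (hm1 : 1 ≤ m) (hm : m + 1 ≤ n) (a : ℕ → ℤ)
    (x y : Vx n m) : Edge (gg n q m) (toA n a) x y ↔ EdgeN n q m a x y := by
  unfold Edge EdgeN
  have e : (fun t => max (max (uu (gg n q m) (toA n a) x t) (uu (gg n q m) (toA n a) y t)) 0) =
      fun t : Fin (n + 1) => (fun s : ℕ => max (max (uN q a x s) (uN q a y s)) 0) t.val := by
    funext t
    unfold uu uN toA
    rw [gg_apply, gg_apply]
  rw [e]
  exact std_iff n q m hn hm1 hm (fun s : ℕ => max (max (uN q a x s) (uN q a y s)) 0)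

section SolN
variable {n q m : ℕ} (hn : 2 ≤ n) (hm1 : 1 ≤ m) (hm : m + 1 ≤ n)

include hn hm1 hm in
lemma sol_zero {a : ℕ → ℤ} {c : Vx n m → k} (hc : c ∈ Sol k (gg n q m) (toA n a)) {x : Vx n m}
    (hx : ¬ ActN n q m a x) : c x = 0 :=
  hc.1 x (fun h => hx ((act_iffN n q m hn hm1 hm a x).1 h))

include hn hm1 hm in
lemma sol_edge {a : ℕ → ℤ} {c : Vx n m → k} (hc : c ∈ Sol k (gg n q m) (toA n a)) {x y : Vx n m}
    (hE : EdgeN n q m a x y) : c x = c y :=
  hc.2 x y ((edge_iffN n q m hn hm1 hm a x y).2 hE)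

include hn hm1 hm in
theorem finrank_solN (a : ℕ → ℤ) {κ : Type} [Fintype κ] (en : κ → Prop)
    [DecidablePred en] (cls : Vx n m → Option κ) (r : κ → Vx n m)
    (hr : ∀ t, en t → cls (r t) = some t)
    (hen : ∀ x t, cls x = some t → en t)
    (h1 : ∀ x, cls x = none → ∀ c ∈ Sol k (gg n q m) (toA n a), c x = 0)
    (h2 : ∀ x t, cls x = some t → ∀ c ∈ Sol k (gg n q m) (toA n a), c x = c (r t))
    (h3a : ∀ x t, cls x = some t → ActN n q m a x)
    (h3b : ∀ x y t, EdgeN n q m a x y → cls x = some t → cls y = some t) :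
    Module.finrank k ↥(Sol k (gg n q m) (toA n a)) = ∑ t : κ, if en t then 1 else 0 :=
  finrank_sol (toA n a) en cls r hr hen h1 h2
    (fun x t h => (act_iffN n q m hn hm1 hm a x).2 (h3a x t h))
    (fun x y t hE h => h3b x y t ((edge_iffN n q m hn hm1 hm a x y).1 hE) h)

include hn hm1 hm in
lemma sol_eq_botN (a : ℕ → ℤ)
    (h : ∀ x, ActN n q m a x → ∃ y, EdgeN n q m a x y ∧ ¬ ActN n q m a y) :
    Sol k (gg n q m) (toA n a) = ⊥ := by
  refine sol_eq_bot (toA n a) (fun x hx => ?_)
  obtain ⟨y, hE, hy⟩ := h x ((act_iffN n q m hn hm1 hm a x).1 hx)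
  exact ⟨y, (edge_iffN n q m hn hm1 hm a x y).2 hE,
    fun h' => hy ((act_iffN n q m hn hm1 hm a y).1 h')⟩

end SolN

/-- the ideal generated by the monomials `x^(gg x)` -/
lemma hgen_of_span (n q m : ℕ) (S : Set (MvPolynomial (Fin (n + 1)) k))
    (hS : S = (fun s => monomial s (1 : k)) '' Set.range (gg n q m)) :
    (∀ β : Fin (n + 1) →₀ ℕ, monomial β (1 : k) ∈ Ideal.span S ↔ ∃ x, gg n q m x ≤ β) ∧
      IsMonomial (Ideal.span S) := by
  subst hS
  have hsupp : ∀ β : Fin (n + 1) →₀ ℕ, (monomial β (1 : k)).support = {β} := by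
    intro β
    classical
    rw [support_monomial, if_neg one_ne_zero]
  refine ⟨fun β => ?_, fun p hp β hβ => ?_⟩
  · rw [mem_ideal_span_monomial_image]
    constructor
    · intro h
      obtain ⟨s, ⟨x, rfl⟩, hle⟩ := h β (by rw [hsupp]; exact Finset.mem_singleton_self β)
      exact ⟨x, hle⟩
    · rintro ⟨x, hx⟩ xi hxi
      rw [hsupp, Finset.mem_singleton] at hxi
      subst hxi
      exact ⟨_, ⟨x, rfl⟩, hx⟩
  · rw [mem_ideal_span_monomial_image] at hp ⊢
    intro xi hxi
    rw [hsupp, Finset.mem_singleton] at hxi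
    subst hxi
    exact hp xi hβ

end Groth.Agent.H4.MgTB
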