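import Mathlib
import Groth.Prelude.Def_W4c1hilbpnTgt
import Groth.Agent.H4.MgSol
import Groth.Agent.H4.MgTB

set_option autoImplicit false
universe u
open W4c1hilbpn MvPolynomial
open Groth.Agent.H4.MgSol Groth.Agent.H4.MgTB

noncomputable section
namespace Groth.Agent.H4.MgTC

variable {k : Type u} [Field k] {n q m : ℕ}

@[simp] lemma uN_inl (a : ℕ → ℤ) (i : Fin n) (t : ℕ) :
    uN q a (Sum.inl i : Vx n m) t = gA i.val t + a t := rfl

@[simp] lemma uN_inr (a : ℕ → ℤ) (j : Fin m) (t : ℕ) :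
    uN q a (Sum.inr j : Vx n m) t = gB q (j.val + 1) t + a t := rfl

/-- `e_l - e_i` -/
def vE (l i : ℕ) (t : ℕ) : ℤ := (if t = l then 1 else 0) - (if t = i then 1 else 0)

/-- `e_0 + q e_n - q e_1 - e_j` -/
def vOm (n q j : ℕ) (t : ℕ) : ℤ :=
  (if t = 0 then 1 else 0) + (if t = n then (q : ℤ) else 0) - (if t = 1 then (q : ℤ) else 0) -
    (if t = j then 1 else 0)

macro "ev" : tactic =>
  `(tactic| ((try simp only [uN_inl, uN_inr, gA, gB, vE, vOm, Fin.val_mk, ↓reduceIte] at *); omega))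

lemma stdN_mono {w v : ℕ → ℤ} (hn : 1 ≤ n) (hm : m ≤ n) (hw : stdN n q m w)
    (hv0 : ∀ t, t ≤ n → 0 ≤ v t) (hvw : ∀ t, t ≤ n → v t ≤ w t) : stdN n q m v := by
  obtain ⟨_, hA, hB⟩ := hw
  refine ⟨hv0, ?_, ?_⟩
  · rcases hA with hA | ⟨hA1, hA2⟩
    · exact Or.inl (le_trans (hvw 0 (by omega)) hA)
    · exact Or.inr ⟨le_trans (hvw 0 (by omega)) hA1,
        fun t h1 h2 => le_trans (hvw t (by omega)) (hA2 t h1 h2)⟩
  · rcases hB with hB | ⟨hB1, hB2⟩
    · exact Or.inl (le_trans (hvw 1 (by omega)) hB)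
    · exact Or.inr ⟨le_trans (hvw 1 (by omega)) hB1,
        fun t h1 h2 => le_trans (hvw t (by omega)) (hB2 t h1 h2)⟩

lemma actN_of_edge {a : ℕ → ℤ} {x y : Vx n m} (hn : 1 ≤ n) (hm : m ≤ n)
    (hE : EdgeN n q m a x y) (hy : ∀ t, t ≤ n → 0 ≤ uN q a y t) : ActN n q m a y :=
  stdN_mono hn hm hE hy (fun t _ => le_trans (le_max_right _ _) (le_max_left _ _))

lemma edgeN_symm {a : ℕ → ℤ} {x y : Vx n m} (h : EdgeN n q m a x y) : EdgeN n q m a y x := by
  unfold EdgeN at h ⊢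
  have e : (fun t => max (max (uN q a y t) (uN q a x t)) 0) =
      (fun t => max (max (uN q a x t) (uN q a y t)) 0) := by
    funext t
    rw [max_comm (uN q a y t) (uN q a x t)]
  rw [e]
  exact h

lemma not_std_neg {w : ℕ → ℤ} (t : ℕ) (ht : t ≤ n) (h : w t < 0) : ¬ stdN n q m w := by
  intro hs
  have := hs.1 t ht
  omega

lemma not_std_A {w : ℕ → ℤ} (t : ℕ) (h0 : 1 ≤ w 0) (ht1 : 1 ≤ t) (ht2 : t + 1 ≤ n)
    (hwt : 1 ≤ w t) : ¬ stdN n q m w := by
  rintro ⟨_, hA, _⟩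
  rcases hA with hA | ⟨_, hA2⟩
  · omega
  · have := hA2 t ht1 ht2
    omega

lemma not_std_A0 {w : ℕ → ℤ} (h0 : 2 ≤ w 0) : ¬ stdN n q m w := by
  rintro ⟨_, hA, _⟩
  rcases hA with hA | ⟨hA1, _⟩
  · omega
  · omega

lemma not_std_B1 {w : ℕ → ℤ} (h : (q : ℤ) + 1 ≤ w 1) : ¬ stdN n q m w := by
  rintro ⟨_, _, hB⟩
  rcases hB with hB | ⟨hB1, _⟩
  · omega
  · omega

lemma not_std_B {w : ℕ → ℤ} (t : ℕ) (h1 : (q : ℤ) ≤ w 1) (ht1 : 2 ≤ t) (ht2 : t ≤ m)
    (hwt : 1 ≤ w t) : ¬ stdN n q m w := by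
  rintro ⟨_, _, hB⟩
  rcases hB with hB | ⟨_, hB2⟩
  · omega
  · have := hB2 t ht1 ht2
    omega

/-- dimension count with up to three classes given by predicates -/
theorem finrank_sol3 (hn : 2 ≤ n) (hm1 : 1 ≤ m) (hm : m + 1 ≤ n) (a : ℕ → ℤ)
    (e0 e1 e2 : Prop) [Decidable e0] [Decidable e1] [Decidable e2]
    (P0 P1 P2 : Vx n m → Prop) (r0 r1 r2 : Vx n m)
    (hr0 : e0 → P0 r0) (hr1 : e1 → P1 r1) (hr2 : e2 → P2 r2)
    (he0 : ∀ x, P0 x → e0) (he1 : ∀ x, P1 x → e1) (he2 : ∀ x, P2 x → e2)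
    (x01 : ∀ x, P0 x → P1 x → False) (x02 : ∀ x, P0 x → P2 x → False)
    (x12 : ∀ x, P1 x → P2 x → False)
    (h1 : ∀ x, ¬ P0 x → ¬ P1 x → ¬ P2 x → ∀ c ∈ Sol k (gg n q m) (toA n a), c x = 0)
    (h20 : ∀ x, P0 x → ∀ c ∈ Sol k (gg n q m) (toA n a), c x = c r0)
    (h21 : ∀ x, P1 x → ∀ c ∈ Sol k (gg n q m) (toA n a), c x = c r1)
    (h22 : ∀ x, P2 x → ∀ c ∈ Sol k (gg n q m) (toA n a), c x = c r2)
    (ha0 : ∀ x, P0 x → ActN n q m a x) (ha1 : ∀ x, P1 x → ActN n q m a x)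
    (ha2 : ∀ x, P2 x → ActN n q m a x)
    (hb0 : ∀ x y, EdgeN n q m a x y → P0 x → P0 y)
    (hb1 : ∀ x y, EdgeN n q m a x y → P1 x → P1 y)
    (hb2 : ∀ x y, EdgeN n q m a x y → P2 x → P2 y) :
    Module.finrank k ↥(Sol k (gg n q m) (toA n a)) =
      (if e0 then 1 else 0) + (if e1 then 1 else 0) + (if e2 then 1 else 0) := by
  classical
  let cls : Vx n m → Option (Fin 3) := fun x =>
    if P0 x then some 0 else if P1 x then some 1 else if P2 x then some 2 else none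
  have hc0 : ∀ x, P0 x → cls x = some 0 := fun x h => if_pos h
  have hc1 : ∀ x, P1 x → cls x = some 1 := fun x h => by
    show (if P0 x then some 0 else if P1 x then some 1 else if P2 x then some 2 else none) = _
    rw [if_neg (fun h0 => x01 x h0 h), if_pos h]
  have hc2 : ∀ x, P2 x → cls x = some 2 := fun x h => by
    show (if P0 x then some 0 else if P1 x then some 1 else if P2 x then some 2 else none) = _
    rw [if_neg (fun h0 => x02 x h0 h), if_neg (fun h0 => x12 x h0 h), if_pos h]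
  have hcn : ∀ x, ¬ P0 x → ¬ P1 x → ¬ P2 x → cls x = none := fun x h0 h1 h2 => by
    show (if P0 x then some 0 else if P1 x then some 1 else if P2 x then some 2 else none) = _
    rw [if_neg h0, if_neg h1, if_neg h2]
  have hinv : ∀ x t, cls x = some t → (t = 0 ∧ P0 x) ∨ (t = 1 ∧ P1 x) ∨ (t = 2 ∧ P2 x) := by
    intro x t h
    by_cases h0 : P0 x
    · rw [hc0 x h0] at h
      exact Or.inl ⟨(Option.some.inj h).symm, h0⟩
    · by_cases h1' : P1 x
      · rw [hc1 x h1'] at h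
        exact Or.inr (Or.inl ⟨(Option.some.inj h).symm, h1'⟩)
      · by_cases h2' : P2 x
        · rw [hc2 x h2'] at h
          exact Or.inr (Or.inr ⟨(Option.some.inj h).symm, h2'⟩)
        · rw [hcn x h0 h1' h2'] at h
          exact absurd h (by simp)
  have hnone : ∀ x, cls x = none → ¬ P0 x ∧ ¬ P1 x ∧ ¬ P2 x := by
    intro x h
    refine ⟨fun h0 => ?_, fun h0 => ?_, fun h0 => ?_⟩
    · rw [hc0 x h0] at h; exact absurd h (by simp)
    · rw [hc1 x h0] at h; exact absurd h (by simp)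
    · rw [hc2 x h0] at h; exact absurd h (by simp)
  let en : Fin 3 → Prop := fun t => (t = 0 ∧ e0) ∨ (t = 1 ∧ e1) ∨ (t = 2 ∧ e2)
  let r : Fin 3 → Vx n m := fun t => if t = 0 then r0 else if t = 1 then r1 else r2
  have h01 : (0 : Fin 3) ≠ 1 := by decide
  have h02 : (0 : Fin 3) ≠ 2 := by decide
  have h12 : (1 : Fin 3) ≠ 2 := by decide
  have key := finrank_solN (k := k) (q := q) hn hm1 hm a en cls r ?_ ?_ ?_ ?_ ?_ ?_
  · rw [key, Fin.sum_univ_three]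
    have i0 : en 0 ↔ e0 := by
      constructor
      · rintro (⟨_, h⟩ | ⟨h, _⟩ | ⟨h, _⟩)
        · exact h
        · exact absurd h h01
        · exact absurd h h02
      · exact fun h => Or.inl ⟨rfl, h⟩
    have i1 : en 1 ↔ e1 := by
      constructor
      · rintro (⟨h, _⟩ | ⟨_, h⟩ | ⟨h, _⟩)
        · exact absurd h.symm h01
        · exact h
        · exact absurd h h12
      · exact fun h => Or.inr (Or.inl ⟨rfl, h⟩)
    have i2 : en 2 ↔ e2 := by
      constructor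
      · rintro (⟨h, _⟩ | ⟨h, _⟩ | ⟨_, h⟩)
        · exact absurd h.symm h02
        · exact absurd h.symm h12
        · exact h
      · exact fun h => Or.inr (Or.inr ⟨rfl, h⟩)
    rw [if_congr i0 rfl rfl, if_congr i1 rfl rfl, if_congr i2 rfl rfl]
  · rintro t (⟨rfl, h⟩ | ⟨rfl, h⟩ | ⟨rfl, h⟩)
    · show cls (if (0 : Fin 3) = 0 then r0 else if (0 : Fin 3) = 1 then r1 else r2) = _
      rw [if_pos rfl]
      exact hc0 _ (hr0 h)
    · show cls (if (1 : Fin 3) = 0 then r0 else if (1 : Fin 3) = 1 then r1 else r2) = _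
      rw [if_neg h01.symm, if_pos rfl]
      exact hc1 _ (hr1 h)
    · show cls (if (2 : Fin 3) = 0 then r0 else if (2 : Fin 3) = 1 then r1 else r2) = _
      rw [if_neg h02.symm, if_neg h12.symm]
      exact hc2 _ (hr2 h)
  · intro x t h
    rcases hinv x t h with ⟨rfl, hP⟩ | ⟨rfl, hP⟩ | ⟨rfl, hP⟩
    · exact Or.inl ⟨rfl, he0 x hP⟩
    · exact Or.inr (Or.inl ⟨rfl, he1 x hP⟩)
    · exact Or.inr (Or.inr ⟨rfl, he2 x hP⟩)
  · intro x h c hc
    obtain ⟨n0, n1, n2⟩ := hnone x h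
    exact h1 x n0 n1 n2 c hc
  · intro x t h c hc
    rcases hinv x t h with ⟨rfl, hP⟩ | ⟨rfl, hP⟩ | ⟨rfl, hP⟩
    · show c x = c (if (0 : Fin 3) = 0 then r0 else if (0 : Fin 3) = 1 then r1 else r2)
      rw [if_pos rfl]
      exact h20 x hP c hc
    · show c x = c (if (1 : Fin 3) = 0 then r0 else if (1 : Fin 3) = 1 then r1 else r2)
      rw [if_neg h01.symm, if_pos rfl]
      exact h21 x hP c hc
    · show c x = c (if (2 : Fin 3) = 0 then r0 else if (2 : Fin 3) = 1 then r1 else r2)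
      rw [if_neg h02.symm, if_neg h12.symm]
      exact h22 x hP c hc
  · intro x t h
    rcases hinv x t h with ⟨rfl, hP⟩ | ⟨rfl, hP⟩ | ⟨rfl, hP⟩
    · exact ha0 x hP
    · exact ha1 x hP
    · exact ha2 x hP
  · intro x y t hE h
    rcases hinv x t h with ⟨rfl, hP⟩ | ⟨rfl, hP⟩ | ⟨rfl, hP⟩
    · exact hc0 y (hb0 x y hE hP)
    · exact hc1 y (hb1 x y hE hP)
    · exact hc2 y (hb2 x y hE hP)

/-- multidegree `e_l - e_0` -/
theorem val_c (hn : 3 ≤ n) (hq : 1 ≤ q) (hm1 : 1 ≤ m) (hm : m + 2 ≤ n) (l : ℕ) (hl1 : 1 ≤ l)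
    (hl2 : l ≤ n) :
    Module.finrank k ↥(Sol k (gg n q m) (toA n (vE l 0))) = 1 + if l = n then 1 else 0 := by
  classical
  have hn1 : n - 1 < n := by omega
  have hn0 : 0 < n := by omega
  have hB : ∀ (x : Vx n m) (j : Fin m), ¬ EdgeN n q m (vE l 0) x (Sum.inr j) := by
    intro x j
    have hj := j.isLt
    by_cases hj0 : j.val = 0
    · exact not_std_B1 (by ev)
    · exact not_std_B (j.val + 1) (by ev) (by omega) (by omega) (by ev)
  have hA0 : ∀ (i0 i : Fin n), i0.val = 0 → i.val ≠ 0 →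
      ¬ EdgeN n q m (vE l 0) (Sum.inl i0) (Sum.inl i) := by
    intro i0 i h0 hi
    have := i.isLt
    exact not_std_A i.val (by ev) (by omega) (by omega) (by ev)
  have hlast : ActN n q m (vE l 0) (Sum.inl ⟨n - 1, hn1⟩) := by
    refine ⟨fun t ht => by ev, Or.inl (by ev), ?_⟩
    rcases (show (l ≠ 1 ∨ 2 ≤ q) ∨ (l = 1 ∧ q = 1) by omega) with h | h
    · exact Or.inl (by ev)
    · exact Or.inr ⟨by ev, fun t h1 h2 => by ev⟩
  have hstar : ∀ i : Fin n, i.val ≠ 0 → ActN n q m (vE l 0) (Sum.inl i) →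
      EdgeN n q m (vE l 0) (Sum.inl i) (Sum.inl ⟨n - 1, hn1⟩) := by
    intro i hi hA
    obtain ⟨h0, hA1, hB1⟩ := hA
    refine ⟨fun t ht => by ev, Or.inl (by ev), ?_⟩
    rcases hB1 with hB1 | ⟨hB1, hB2⟩
    · exact Or.inl (by ev)
    · refine Or.inr ⟨by ev, fun t h1 h2 => ?_⟩
      have := hB2 t h1 h2
      ev
  have hact0 : ∀ i0 : Fin n, i0.val = 0 → l = n → ActN n q m (vE l 0) (Sum.inl i0) := by
    intro i0 h0 hln
    exact ⟨fun t ht => by ev, Or.inr ⟨by ev, fun t h1 h2 => by ev⟩, Or.inl (by ev)⟩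
  have hnact0 : ∀ i0 : Fin n, i0.val = 0 → l ≠ n → ¬ ActN n q m (vE l 0) (Sum.inl i0) := by
    intro i0 h0 hln
    exact not_std_A l (by ev) (by omega) (by omega) (by ev)
  have hnactB : ∀ j : Fin m, ¬ ActN n q m (vE l 0) (Sum.inr j) := by
    intro j
    exact not_std_neg 0 (by omega) (by ev)
  have hnn : ∀ i : Fin n, ∀ t, t ≤ n → 0 ≤ uN q (vE l 0) (Sum.inl i : Vx n m) t := by
    intro i t ht
    ev
  have key := finrank_sol3 (k := k) (q := q) (by omega : 2 ≤ n) hm1 (by omega : m + 1 ≤ n)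
    (vE l 0) True (l = n) False
    (fun x => ∃ i : Fin n, x = Sum.inl i ∧ i.val ≠ 0 ∧ ActN n q m (vE l 0) x)
    (fun x => ∃ i : Fin n, x = Sum.inl i ∧ i.val = 0 ∧ l = n)
    (fun _ => False)
    (Sum.inl ⟨n - 1, hn1⟩) (Sum.inl ⟨0, hn0⟩) (Sum.inl ⟨0, hn0⟩)
    ?_ ?_ ?_ ?_ ?_ ?_ ?_ ?_ ?_ ?_ ?_ ?_ ?_ ?_ ?_ ?_ ?_ ?_ ?_
  · rw [key]
    simp
  · exact fun _ => ⟨⟨n - 1, hn1⟩, rfl, by simp only [Fin.val_mk]; omega, hlast⟩
  · exact fun h => ⟨⟨0, hn0⟩, rfl, rfl, h⟩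
  · exact fun h => h.elim
  · exact fun _ _ => trivial
  · rintro x ⟨i, rfl, h0, h⟩
    exact h
  · exact fun _ h => h
  · rintro x ⟨i, hx, h0, _⟩ ⟨i', hx', h0', _⟩
    rw [hx] at hx'
    have := Sum.inl.inj hx'
    rw [this] at h0
    exact h0 h0'
  · exact fun _ _ h => h
  · exact fun _ _ h => h
  · intro x h0 h1 _ c hc
    rcases x with i | j
    · by_cases hi : i.val = 0
      · have hln : l ≠ n := fun e => h1 ⟨i, rfl, hi, e⟩
        exact sol_zero (by omega) hm1 (by omega) hc (hnact0 i hi hln)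
      · have hA : ¬ ActN n q m (vE l 0) (Sum.inl i) := fun hA => h0 ⟨i, rfl, hi, hA⟩
        exact sol_zero (by omega) hm1 (by omega) hc hA
    · exact sol_zero (by omega) hm1 (by omega) hc (hnactB j)
  · rintro x ⟨i, rfl, hi, hA⟩ c hc
    by_cases hi' : i.val = n - 1
    · have : i = ⟨n - 1, hn1⟩ := Fin.ext hi'
      rw [this]
    · exact sol_edge (by omega) hm1 (by omega) hc (hstar i hi hA)
  · rintro x ⟨i, rfl, hi, _⟩ c hc
    have : i = ⟨0, hn0⟩ := Fin.ext hi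
    rw [this]
  · exact fun _ h => h.elim
  · rintro x ⟨i, rfl, _, hA⟩
    exact hA
  · rintro x ⟨i, rfl, hi, hln⟩
    exact hact0 i hi hln
  · exact fun _ h => h.elim
  · rintro x y hE ⟨i, rfl, hi, hA⟩
    rcases y with i' | j
    · by_cases hi' : i'.val = 0
      · exact absurd (edgeN_symm hE) (hA0 i' i hi' hi)
      · exact ⟨i', rfl, hi', actN_of_edge (by omega) (by omega) hE (hnn i')⟩
    · exact absurd hE (hB _ j)
  · rintro x y hE ⟨i, rfl, hi, hln⟩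
    rcases y with i' | j
    · by_cases hi' : i'.val = 0
      · exact ⟨i', rfl, hi', hln⟩
      · exact absurd hE (hA0 i i' hi hi')
    · exact absurd hE (hB _ j)
  · exact fun _ _ _ h => h

end Groth.Agent.H4.MgTC
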