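import Mathlib
import Groth.Prelude.Def_W4c1hilbpnTgt
import Groth.Agent.H4.MgSol
import Groth.Agent.H4.MgTB
import Groth.Agent.H4.MgTC

set_option autoImplicit false
universe u
open W4c1hilbpn MvPolynomial
open Groth.Agent.H4.MgSol Groth.Agent.H4.MgTB Groth.Agent.H4.MgTC

noncomputable section
namespace Groth.Agent.H4.MgTD

variable {k : Type u} [Field k] {n q m : ℕ}

macro "ev" : tactic =>
  `(tactic| ((try simp only [uN_inl, uN_inr, gA, gB, vE, vOm, Fin.val_mk, ↓reduceIte] at *); omega))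

/-- one class -/
theorem finrank_sol1 (hn : 2 ≤ n) (hm1 : 1 ≤ m) (hm : m + 1 ≤ n) (a : ℕ → ℤ)
    (P0 : Vx n m → Prop) (r0 : Vx n m) (hr0 : P0 r0)
    (h1 : ∀ x, ¬ P0 x → ¬ ActN n q m a x)
    (h20 : ∀ x, P0 x → x = r0 ∨ EdgeN n q m a x r0)
    (ha0 : ∀ x, P0 x → ActN n q m a x)
    (hb0 : ∀ x y, EdgeN n q m a x y → P0 x → P0 y) :
    Module.finrank k ↥(Sol k (gg n q m) (toA n a)) = 1 := by
  have key := finrank_sol3 (k := k) (q := q) hn hm1 hm a True False False P0 (fun _ => False)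
    (fun _ => False) r0 r0 r0 (fun _ => hr0) (fun h => h.elim) (fun h => h.elim)
    (fun _ _ => trivial) (fun _ h => h) (fun _ h => h) (fun _ _ h => h) (fun _ _ h => h)
    (fun _ h _ => h)
    (fun x h0 _ _ c hc => sol_zero hn hm1 hm hc (h1 x h0))
    (fun x h c hc => by
      rcases h20 x h with e | e
      · rw [e]
      · exact sol_edge hn hm1 hm hc e)
    (fun _ h => h.elim) (fun _ h => h.elim) ha0 (fun _ h => h.elim) (fun _ h => h.elim)
    hb0 (fun _ _ _ h => h) (fun _ _ _ h => h)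
  rw [key]
  simp

/-- multidegree `e_n - e_i`, `i > m` -/
theorem val_bA (hn : 3 ≤ n) (hq : 1 ≤ q) (hm1 : 1 ≤ m) (hm : m + 1 ≤ n) (i0 : ℕ)
    (h1 : m + 1 ≤ i0) (h2 : i0 + 1 ≤ n) :
    Module.finrank k ↥(Sol k (gg n q m) (toA n (vE n i0))) = 1 := by
  have hi0 : i0 < n := by omega
  refine finrank_sol1 (k := k) (q := q) (by omega) hm1 hm (vE n i0)
    (fun x => x = Sum.inl ⟨i0, hi0⟩) (Sum.inl ⟨i0, hi0⟩) rfl ?_ (fun x h => Or.inl h) ?_ ?_
  · intro x hx
    rcases x with i | j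
    · have hi : i.val ≠ i0 := fun e => hx (congrArg Sum.inl (Fin.ext e))
      exact not_std_neg i0 (by omega) (by ev)
    · have hj := j.isLt
      exact not_std_neg i0 (by omega) (by ev)
  · rintro x rfl
    exact ⟨fun t ht => by ev, Or.inr ⟨by ev, fun t h1 h2 => by ev⟩, Or.inl (by ev)⟩
  · rintro x y hE rfl
    rcases y with i | j
    · by_cases hi : i.val = i0
      · have : i = ⟨i0, hi0⟩ := Fin.ext hi
        rw [this]
      · exfalso
        have := i.isLt
        by_cases hi' : i.val = 0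
        · exact not_std_A0 (by ev) hE
        · exact not_std_A i.val (by ev) (by omega) (by omega) (by ev) hE
    · exfalso
      exact not_std_A 1 (by ev) (by omega) (by omega) (by ev) hE

/-- multidegree `e_0 + q e_n - q e_1 - e_j` -/
theorem val_om (hn : 3 ≤ n) (hq : 1 ≤ q) (hm1 : 1 ≤ m) (hm : m + 1 ≤ n) (j0 : ℕ)
    (h1 : 1 ≤ j0) (h2 : j0 ≤ m) :
    Module.finrank k ↥(Sol k (gg n q m) (toA n (vOm n q j0))) = 1 := by
  have hj0 : j0 - 1 < m := by omega
  refine finrank_sol1 (k := k) (q := q) (by omega) hm1 hm (vOm n q j0)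
    (fun x => x = Sum.inr ⟨j0 - 1, hj0⟩) (Sum.inr ⟨j0 - 1, hj0⟩) rfl ?_ (fun x h => Or.inl h) ?_ ?_
  · intro x hx
    rcases x with i | j
    · exact not_std_A0 (by ev)
    · have hj := j.isLt
      have hj' : j.val ≠ j0 - 1 := fun e => hx (congrArg Sum.inr (Fin.ext e))
      exact not_std_neg j0 (by omega) (by ev)
  · rintro x rfl
    exact ⟨fun t ht => by ev, Or.inr ⟨by ev, fun t h1 h2 => by ev⟩, Or.inl (by ev)⟩
  · rintro x y hE rfl
    rcases y with i | j
    · exfalso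
      exact not_std_A0 (by ev) hE
    · by_cases hj : j.val = j0 - 1
      · have : j = ⟨j0 - 1, hj0⟩ := Fin.ext hj
        rw [this]
      · exfalso
        have := j.isLt
        exact not_std_A (j.val + 1) (by ev) (by omega) (by omega) (by ev) hE

/-- multidegree `e_l - e_i` with `2 ≤ i ≤ m < l` -/
theorem val_CA (hn : 3 ≤ n) (hq : 1 ≤ q) (hm1 : 1 ≤ m) (hm : m + 1 ≤ n) (i0 l : ℕ)
    (hi1 : 2 ≤ i0) (hi2 : i0 ≤ m) (hl1 : m + 1 ≤ l) (hl2 : l ≤ n) :
    Module.finrank k ↥(Sol k (gg n q m) (toA n (vE l i0))) = 1 + if l = n then 1 else 0 := by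
  classical
  have hj0 : i0 - 1 < m := by omega
  have hi0 : i0 < n := by omega
  have key := finrank_sol3 (k := k) (q := q) (by omega : 2 ≤ n) hm1 hm
    (vE l i0) True (l = n) False
    (fun x => x = Sum.inr ⟨i0 - 1, hj0⟩)
    (fun x => x = Sum.inl ⟨i0, hi0⟩ ∧ l = n)
    (fun _ => False)
    (Sum.inr ⟨i0 - 1, hj0⟩) (Sum.inl ⟨i0, hi0⟩) (Sum.inl ⟨i0, hi0⟩)
    ?_ ?_ ?_ ?_ ?_ ?_ ?_ ?_ ?_ ?_ ?_ ?_ ?_ ?_ ?_ ?_ ?_ ?_ ?_
  · rw [key]
    simp
  · exact fun _ => rfl
  · exact fun h => ⟨rfl, h⟩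
  · exact fun h => h.elim
  · exact fun _ _ => trivial
  · exact fun _ h => h.2
  · exact fun _ h => h
  · rintro x rfl ⟨h, _⟩
    exact absurd h (by simp)
  · exact fun _ _ h => h
  · exact fun _ _ h => h
  · intro x h0 h1 _ c hc
    refine sol_zero (by omega) hm1 hm hc ?_
    rcases x with i | j
    · by_cases hi : i.val = i0
      · have hx : i = ⟨i0, hi0⟩ := Fin.ext hi
        have hln : l ≠ n := fun e => h1 ⟨by rw [hx], e⟩
        exact not_std_A l (by ev) (by omega) (by omega) (by ev)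
      · exact not_std_neg i0 (by omega) (by ev)
    · have hj := j.isLt
      have hj' : j.val ≠ i0 - 1 := fun e => h0 (congrArg Sum.inr (Fin.ext e))
      exact not_std_neg i0 (by omega) (by ev)
  · rintro x rfl c hc
    rfl
  · rintro x ⟨rfl, _⟩ c hc
    rfl
  · exact fun _ h => h.elim
  · rintro x rfl
    exact ⟨fun t ht => by ev, Or.inl (by ev), Or.inr ⟨by ev, fun t h1 h2 => by ev⟩⟩
  · rintro x ⟨rfl, hln⟩
    exact ⟨fun t ht => by ev, Or.inr ⟨by ev, fun t h1 h2 => by ev⟩, Or.inl (by ev)⟩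
  · exact fun _ h => h.elim
  · rintro x y hE rfl
    rcases y with i | j
    · exfalso
      exact not_std_A 1 (by ev) (by omega) (by omega) (by ev) hE
    · by_cases hj : j.val = i0 - 1
      · have : j = ⟨i0 - 1, hj0⟩ := Fin.ext hj
        rw [this]
      · exfalso
        have := j.isLt
        by_cases hj0' : j.val = 0
        · exact not_std_B1 (by ev) hE
        · exact not_std_B (j.val + 1) (by ev) (by omega) (by omega) (by ev) hE
  · rintro x y hE ⟨rfl, hln⟩
    rcases y with i | j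
    · by_cases hi : i.val = i0
      · have : i = ⟨i0, hi0⟩ := Fin.ext hi
        rw [this]
        exact ⟨rfl, hln⟩
      · exfalso
        have := i.isLt
        by_cases hi' : i.val = 0
        · exact not_std_A0 (by ev) hE
        · exact not_std_A i.val (by ev) (by omega) (by omega) (by ev) hE
    · exfalso
      exact not_std_A 1 (by ev) (by omega) (by omega) (by ev) hE
  · exact fun _ _ _ h => h

/-- multidegrees with `α_0 = 0`, `-q ≤ α_1 ≤ -2`, other entries nonnegative -/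
theorem val_CB2 (hn : 3 ≤ n) (hq : 1 ≤ q) (hm1 : 1 ≤ m) (hm : m + 1 ≤ n) (a : ℕ → ℤ)
    (h0 : a 0 = 0) (h1l : -(q : ℤ) ≤ a 1) (h1u : a 1 ≤ -2)
    (hnn : ∀ t, 2 ≤ t → t ≤ n → 0 ≤ a t) :
    Module.finrank k ↥(Sol k (gg n q m) (toA n a)) = 1 := by
  refine finrank_sol1 (k := k) (q := q) (by omega) hm1 hm a
    (fun x => ∃ j : Fin m, x = Sum.inr j) (Sum.inr ⟨0, hm1⟩) ⟨_, rfl⟩ ?_ ?_ ?_ ?_
  · intro x hx
    rcases x with i | j
    · exact not_std_neg 1 (by omega) (by ev)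
    · exact absurd ⟨j, rfl⟩ hx
  · rintro x ⟨j, rfl⟩
    right
    refine ⟨fun t ht => le_max_right _ _, Or.inl (by ev), Or.inl (by ev)⟩
  · rintro x ⟨j, rfl⟩
    refine ⟨fun t ht => ?_, Or.inl (by ev), Or.inl (by ev)⟩
    by_cases ht1 : t ≤ 1
    · rcases (show t = 0 ∨ t = 1 by omega) with rfl | rfl
      · ev
      · ev
    · have := hnn t (by omega) ht
      ev
  · rintro x y hE ⟨j, rfl⟩
    rcases y with i | j'
    · exfalso
      have hj := j.isLt
      by_cases hj0 : j.val = 0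
      · exact not_std_A 1 (by ev) (by omega) (by omega) (by ev) hE
      · have := hnn (j.val + 1) (by omega) (by omega)
        exact not_std_A (j.val + 1) (by ev) (by omega) (by omega) (by ev) hE
    · exact ⟨j', rfl⟩

/-- multidegree `e_l - e_1` -/
theorem val_CB1 (hn : 3 ≤ n) (hq : 1 ≤ q) (hm1 : 1 ≤ m) (hm : m + 1 ≤ n) (l : ℕ)
    (hl1 : 2 ≤ l) (hl2 : l ≤ n) :
    Module.finrank k ↥(Sol k (gg n q m) (toA n (vE l 1))) =
      (if 2 ≤ m then 1 else 0) + (if m < l then 1 else 0) + (if l = n then 1 else 0) := by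
  classical
  have hr : min 1 (m - 1) < m := by omega
  have h1n : 1 < n := by omega
  refine finrank_sol3 (k := k) (q := q) (by omega : 2 ≤ n) hm1 hm
    (vE l 1) (2 ≤ m) (m < l) (l = n)
    (fun x => ∃ j : Fin m, x = Sum.inr j ∧ j.val ≠ 0)
    (fun x => x = Sum.inr ⟨0, hm1⟩ ∧ m < l)
    (fun x => x = Sum.inl ⟨1, h1n⟩ ∧ l = n)
    (Sum.inr ⟨min 1 (m - 1), hr⟩) (Sum.inr ⟨0, hm1⟩) (Sum.inl ⟨1, h1n⟩)
    ?_ ?_ ?_ ?_ ?_ ?_ ?_ ?_ ?_ ?_ ?_ ?_ ?_ ?_ ?_ ?_ ?_ ?_ ?_
  · exact fun h => ⟨_, rfl, by simp only [Fin.val_mk]; omega⟩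
  · exact fun h => ⟨rfl, h⟩
  · exact fun h => ⟨rfl, h⟩
  · rintro x ⟨j, rfl, hj⟩
    have := j.isLt
    omega
  · exact fun _ h => h.2
  · exact fun _ h => h.2
  · rintro x ⟨j, rfl, hj⟩ ⟨h, _⟩
    have := Sum.inr.inj h
    rw [this] at hj
    exact hj rfl
  · rintro x ⟨j, rfl, hj⟩ ⟨h, _⟩
    exact absurd h (by simp)
  · rintro x ⟨rfl, _⟩ ⟨h, _⟩
    exact absurd h (by simp)
  · intro x h0 h1 h2 c hc
    refine sol_zero (by omega) hm1 hm hc ?_
    rcases x with i | j
    · by_cases hi : i.val = 1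
      · have hx : i = ⟨1, h1n⟩ := Fin.ext hi
        have hln : l ≠ n := fun e => h2 ⟨by rw [hx], e⟩
        exact not_std_A l (by ev) (by omega) (by omega) (by ev)
      · exact not_std_neg 1 (by omega) (by ev)
    · by_cases hj : j.val = 0
      · have hx : j = ⟨0, hm1⟩ := Fin.ext hj
        have hml : ¬ m < l := fun e => h1 ⟨by rw [hx], e⟩
        exact not_std_B l (by ev) (by omega) (by omega) (by ev)
      · exact absurd ⟨j, rfl, hj⟩ h0
  · rintro x ⟨j, rfl, hj⟩ c hc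
    refine sol_edge (by omega) hm1 hm hc ?_
    have := j.isLt
    exact ⟨fun t ht => le_max_right _ _, Or.inl (by ev), Or.inl (by ev)⟩
  · rintro x ⟨rfl, _⟩ c hc
    rfl
  · rintro x ⟨rfl, _⟩ c hc
    rfl
  · rintro x ⟨j, rfl, hj⟩
    exact ⟨fun t ht => by ev, Or.inl (by ev), Or.inl (by ev)⟩
  · rintro x ⟨rfl, hml⟩
    exact ⟨fun t ht => by ev, Or.inl (by ev), Or.inr ⟨by ev, fun t h1 h2 => by ev⟩⟩
  · rintro x ⟨rfl, hln⟩
    exact ⟨fun t ht => by ev, Or.inr ⟨by ev, fun t h1 h2 => by ev⟩, Or.inl (by ev)⟩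
  · rintro x y hE ⟨j, rfl, hj⟩
    have hjlt := j.isLt
    rcases y with i | j'
    · exfalso
      exact not_std_A (j.val + 1) (by ev) (by omega) (by omega) (by ev) hE
    · by_cases hj' : j'.val = 0
      · exfalso
        exact not_std_B (j.val + 1) (by ev) (by omega) (by omega) (by ev) hE
      · exact ⟨j', rfl, hj'⟩
  · rintro x y hE ⟨rfl, hml⟩
    rcases y with i | j'
    · exfalso
      exact not_std_A 1 (by ev) (by omega) (by omega) (by ev) hE
    · by_cases hj' : j'.val = 0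
      · have : j' = ⟨0, hm1⟩ := Fin.ext hj'
        rw [this]
        exact ⟨rfl, hml⟩
      · exfalso
        have := j'.isLt
        exact not_std_B (j'.val + 1) (by ev) (by omega) (by omega) (by ev) hE
  · rintro x y hE ⟨rfl, hln⟩
    rcases y with i | j'
    · by_cases hi : i.val = 1
      · have : i = ⟨1, h1n⟩ := Fin.ext hi
        rw [this]
        exact ⟨rfl, hln⟩
      · exfalso
        have := i.isLt
        by_cases hi' : i.val = 0
        · exact not_std_A0 (by ev) hE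
        · exact not_std_A i.val (by ev) (by omega) (by omega) (by ev) hE
    · exfalso
      have := j'.isLt
      exact not_std_A (j'.val + 1) (by ev) (by omega) (by omega) (by ev) hE

end Groth.Agent.H4.MgTD
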