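import Mathlib
import Groth.Prelude.Def_W4c1hilbpnTgt
import Groth.Agent.H4.MgSol
import Groth.Agent.H4.MgTB
import Groth.Agent.H4.MgTC
import Groth.Agent.H4.MgTD

set_option autoImplicit false
universe u
open W4c1hilbpn MvPolynomial
open Groth.Agent.H4.MgSol Groth.Agent.H4.MgTB Groth.Agent.H4.MgTC

noncomputable section
namespace Groth.Agent.H4.MgTE

variable {k : Type u} [Field k] {n q m : ℕ}

macro "ev" : tactic =>
  `(tactic| ((try simp only [uN_inl, uN_inr, gA, gB, vE, vOm, Fin.val_mk, ↓reduceIte] at *); omega))

lemma eq_of_agree (a b : ℕ → ℤ) (N t₀ : ℕ) (ht₀ : t₀ < N)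
    (hs : ∑ t ∈ Finset.range N, a t = ∑ t ∈ Finset.range N, b t)
    (h : ∀ t, t < N → t ≠ t₀ → a t = b t) : ∀ t, t < N → a t = b t := by
  have hmem : t₀ ∈ Finset.range N := Finset.mem_range.2 ht₀
  have e1 := Finset.add_sum_erase (Finset.range N) a hmem
  have e2 := Finset.add_sum_erase (Finset.range N) b hmem
  have e3 : ∑ t ∈ (Finset.range N).erase t₀, a t = ∑ t ∈ (Finset.range N).erase t₀, b t :=
    Finset.sum_congr rfl (fun t ht =>
      h t (Finset.mem_range.1 (Finset.mem_of_mem_erase ht)) (Finset.ne_of_mem_erase ht))
  have e4 : a t₀ = b t₀ := by omega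
  intro t ht
  by_cases e : t = t₀
  · rw [e]
    exact e4
  · exact h t ht e

lemma sum_ind (N l : ℕ) (c : ℤ) :
    ∑ t ∈ Finset.range N, (if t = l then c else 0) = if l < N then c else 0 := by
  rw [Finset.sum_ite_eq' (Finset.range N) l (fun _ => c)]
  simp only [Finset.mem_range]

lemma sum_vE (N l i : ℕ) (hl : l < N) (hi : i < N) : ∑ t ∈ Finset.range N, vE l i t = 0 := by
  unfold vE
  rw [Finset.sum_sub_distrib, sum_ind, sum_ind, if_pos hl, if_pos hi, sub_self]

lemma sum_vOm (n q j : ℕ) (hn : 1 ≤ n) (hj : j ≤ n) :
    ∑ t ∈ Finset.range (n + 1), vOm n q j t = 0 := by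
  unfold vOm
  rw [Finset.sum_sub_distrib, Finset.sum_sub_distrib, Finset.sum_add_distrib, sum_ind, sum_ind,
    sum_ind, sum_ind, if_pos (by omega), if_pos (by omega), if_pos (by omega), if_pos (by omega)]
  omega

lemma single_of_sum_one (b : ℕ → ℤ) : ∀ N : ℕ, (∀ t, t < N → 0 ≤ b t) →
    ∑ t ∈ Finset.range N, b t = 1 → ∃ l, l < N ∧ ∀ t, t < N → b t = if t = l then 1 else 0 := by
  intro N
  induction N with
  | zero =>
    intro _ hs
    rw [Finset.range_zero, Finset.sum_empty] at hs
    omega
  | succ N ih =>
    intro hnn hs
    rw [Finset.sum_range_succ] at hs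
    have h1 : 0 ≤ ∑ t ∈ Finset.range N, b t :=
      Finset.sum_nonneg (fun t ht => hnn t (by have := Finset.mem_range.1 ht; omega))
    have h2 := hnn N (by omega)
    by_cases hN : b N = 0
    · obtain ⟨l, hl, hb⟩ := ih (fun t ht => hnn t (by omega)) (by omega)
      refine ⟨l, by omega, fun t ht => ?_⟩
      by_cases htN : t = N
      · rw [htN, hN, if_neg (by omega)]
      · exact hb t (by omega)
    · have hz : ∑ t ∈ Finset.range N, b t = 0 := by omega
      have hz' := (Finset.sum_eq_zero_iff_of_nonneg
        (fun t ht => hnn t (by have := Finset.mem_range.1 ht; omega))).1 hz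
      refine ⟨N, by omega, fun t ht => ?_⟩
      by_cases htN : t = N
      · rw [htN, if_pos rfl]
        omega
      · rw [if_neg htN]
        exact hz' t (Finset.mem_range.2 (by omega))

/-- index pairs `(l, i)` of the multidegrees `e_l - e_i` with `i ≠ 1` -/
def PE (n m l i : ℕ) : Prop :=
  (i = 0 ∧ 1 ≤ l ∧ l ≤ n) ∨ (l = n ∧ m + 1 ≤ i ∧ i + 1 ≤ n) ∨
    (2 ≤ i ∧ i ≤ m ∧ m + 1 ≤ l ∧ l ≤ n)

def InT (n q m : ℕ) (a : ℕ → ℤ) : Prop :=
  (∃ j, 1 ≤ j ∧ j ≤ m ∧ ∀ t, t ≤ n → a t = vOm n q j t) ∨
  (∃ l i, PE n m l i ∧ ∀ t, t ≤ n → a t = vE l i t) ∨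
  (a 0 = 0 ∧ -(q : ℤ) ≤ a 1 ∧ a 1 ≤ 0 ∧ ∀ t, 2 ≤ t → t ≤ n → 0 ≤ a t)

theorem classifyA (hn : 4 ≤ n) (hq : 1 ≤ q) (hm2 : 2 ≤ m) (hm : m + 2 ≤ n)
    (hreg : m + 3 ≤ n ∨ 3 ≤ q)
    (a : ℕ → ℤ) (hsum : ∑ t ∈ Finset.range (n + 1), a t = 0) (i : Fin n)
    (hA : ActN n q m a (Sum.inl i))
    (hLG : ∀ y, EdgeN n q m a (Sum.inl i) y → ActN n q m a y) : InT n q m a := by
  have hi := i.isLt
  obtain ⟨h0, hA1, hB1⟩ := hA
  have h00 := h0 0 (by omega)
  by_cases hi0 : i.val = 0
  · by_cases ha0 : a 0 = -1
    · have hA2 : ∀ t, 1 ≤ t → t + 1 ≤ n → uN q a (Sum.inl i : Vx n m) t ≤ 0 := by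
        rcases hA1 with h | ⟨_, h⟩
        · exfalso
          ev
        · exact h
      right; left
      refine ⟨n, 0, Or.inl ⟨rfl, by omega, le_rfl⟩, ?_⟩
      have hag : ∀ t, t < n + 1 → t ≠ n → a t = vE n 0 t := by
        intro t ht hne
        by_cases ht0 : t = 0
        · subst ht0
          ev
        · have h1 := hA2 t (by omega) (by omega)
          have h2 := h0 t (by omega)
          ev
      intro t ht
      exact eq_of_agree a (vE n 0) (n + 1) n (by omega)
        (by rw [hsum, sum_vE (n + 1) n 0 (by omega) (by omega)]) hag t (by omega)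
    · exfalso
      have ha0' : a 0 = -2 := by
        rcases hA1 with h | ⟨h, _⟩
        · ev
        · ev
      have hn1 : n - 1 < n := by omega
      have hE : EdgeN n q m a (Sum.inl i) (Sum.inl ⟨n - 1, hn1⟩) := by
        refine ⟨fun t ht => le_max_right _ _, Or.inl (by ev), ?_⟩
        rcases hB1 with h | ⟨h, h'⟩
        · exact Or.inl (by ev)
        · refine Or.inr ⟨by ev, fun t h1 h2 => ?_⟩
          have := h' t h1 h2
          ev
      exact not_std_neg 0 (by omega) (by ev) (hLG _ hE)
  · by_cases ha0 : a 0 = 0
    · have hA2 : ∀ t, 1 ≤ t → t + 1 ≤ n → uN q a (Sum.inl i : Vx n m) t ≤ 0 := by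
        rcases hA1 with h | ⟨_, h⟩
        · exfalso
          ev
        · exact h
      have hval : ∀ t, 1 ≤ t → t + 1 ≤ n → a t = -(if t = i.val then 1 else 0) := by
        intro t h1 h2
        have e1 := hA2 t h1 h2
        have e2 := h0 t (by omega)
        ev
      have han : 0 ≤ a n := by
        have := h0 n le_rfl
        ev
      by_cases hi1 : i.val = 1
      · right; right
        have e1 := hval 1 le_rfl (by omega)
        refine ⟨ha0, by ev, by ev, ?_⟩
        intro t h1 h2
        by_cases htn : t = n
        · subst htn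
          exact han
        · have := hval t (by omega) (by omega)
          ev
      · right; left
        refine ⟨n, i.val, ?_, ?_⟩
        · by_cases him : i.val ≤ m
          · exact Or.inr (Or.inr ⟨by omega, him, by omega, le_rfl⟩)
          · exact Or.inr (Or.inl ⟨rfl, by omega, by omega⟩)
        · have hag : ∀ t, t < n + 1 → t ≠ n → a t = vE n i.val t := by
            intro t ht hne
            by_cases ht0 : t = 0
            · subst ht0
              ev
            · have := hval t (by omega) (by omega)
              ev
          intro t ht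
          exact eq_of_agree a (vE n i.val) (n + 1) n (by omega)
            (by rw [hsum, sum_vE (n + 1) n i.val (by omega) (by omega)]) hag t (by omega)
    · have ha0' : a 0 = -1 := by
        rcases hA1 with h | ⟨h, _⟩
        · ev
        · ev
      have hnn : ∀ t, 1 ≤ t → t ≤ n → t ≠ i.val → 0 ≤ a t := by
        intro t h1 h2 hne
        have := h0 t h2
        ev
      have hai : -1 ≤ a i.val := by
        have := h0 i.val (by omega)
        ev
      by_cases hai0 : 0 ≤ a i.val
      · right; left
        have hb0 : ∀ t, t < n + 1 → 0 ≤ (fun t => a t + if t = 0 then 1 else 0) t := by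
          intro t ht
          by_cases ht0 : t = 0
          · subst ht0
            ev
          · by_cases hti : t = i.val
            · rw [hti]
              ev
            · have := hnn t (by omega) (by omega) hti
              ev
        have hbs : ∑ t ∈ Finset.range (n + 1), (fun t => a t + if t = 0 then 1 else 0) t = 1 := by
          simp only []
          rw [Finset.sum_add_distrib, hsum, sum_ind, if_pos (by omega)]
          rfl
        obtain ⟨l, hl, hb⟩ := single_of_sum_one _ (n + 1) hb0 hbs
        have hl0 : l ≠ 0 := by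
          intro e
          have := hb 0 (by omega)
          ev
        refine ⟨l, 0, Or.inl ⟨rfl, by omega, by omega⟩, fun t ht => ?_⟩
        have := hb t (by omega)
        ev
      · exfalso
        have hai' : a i.val = -1 := by omega
        by_cases hcase : i.val = n - 1 ∧ ¬ (m + 3 ≤ n)
        · -- neighbour index 2
          have hq3 : 3 ≤ q := by
            rcases hreg with h | h
            · exact absurd h hcase.2
            · exact h
          have hf0 : ∀ t ∈ Finset.range (n + 1),
              0 ≤ (fun t => a t + (if t = 0 then 1 else 0) + (if t = i.val then 1 else 0)) t := by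
            intro t ht
            have htn := Finset.mem_range.1 ht
            by_cases ht0 : t = 0
            · subst ht0
              ev
            · by_cases hti : t = i.val
              · rw [hti]
                ev
              · have := hnn t (by omega) (by omega) hti
                ev
          have hfs : ∑ t ∈ Finset.range (n + 1),
              (fun t => a t + (if t = 0 then 1 else 0) + (if t = i.val then 1 else 0)) t = 2 := by
            simp only []
            rw [Finset.sum_add_distrib, Finset.sum_add_distrib, hsum, sum_ind, sum_ind,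
              if_pos (by omega), if_pos (by omega)]
            rfl
          have ha1 : a 1 ≤ 2 := by
            have := Finset.single_le_sum hf0 (Finset.mem_range.2 (by omega : 1 < n + 1))
            rw [hfs] at this
            ev
          have h2n : 2 < n := by omega
          have hE : EdgeN n q m a (Sum.inl i) (Sum.inl ⟨2, h2n⟩) :=
            ⟨fun t ht => le_max_right _ _, Or.inl (by ev), Or.inl (by ev)⟩
          exact not_std_neg i.val (by omega) (by ev) (hLG _ hE)
        · -- neighbour index above m
          obtain ⟨jj, hj1, hj2, hj3⟩ : ∃ jj, m < jj ∧ jj < n ∧ jj ≠ i.val := by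
            by_cases h1 : i.val = n - 1
            · exact ⟨n - 2, by omega, by omega, by omega⟩
            · exact ⟨n - 1, by omega, by omega, by omega⟩
          have hE : EdgeN n q m a (Sum.inl i) (Sum.inl ⟨jj, hj2⟩) := by
            refine ⟨fun t ht => le_max_right _ _, Or.inl (by ev), ?_⟩
            rcases hB1 with h | ⟨h, h'⟩
            · exact Or.inl (by ev)
            · refine Or.inr ⟨by ev, fun t h1 h2 => ?_⟩
              have := h' t h1 h2
              ev
          exact not_std_neg i.val (by omega) (by ev) (hLG _ hE)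

theorem classifyB (hn : 4 ≤ n) (hq : 1 ≤ q) (hm2 : 2 ≤ m) (hm : m + 2 ≤ n)
    (a : ℕ → ℤ) (hsum : ∑ t ∈ Finset.range (n + 1), a t = 0) (j : Fin m)
    (hA : ActN n q m a (Sum.inr j))
    (hLG : ∀ y, EdgeN n q m a (Sum.inr j) y → ActN n q m a y) : InT n q m a := by
  have hj := j.isLt
  obtain ⟨h0, hA1, hB1⟩ := hA
  have h00 := h0 0 (by omega)
  by_cases ha0 : a 0 = 0
  · have hnn : ∀ t, 2 ≤ t → t ≤ n → t ≠ j.val + 1 → 0 ≤ a t := by
      intro t h1 h2 hne
      have := h0 t h2
      ev
    have h01 := h0 1 (by omega)
    by_cases hj0 : j.val = 0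
    · have hnn' : ∀ t, 2 ≤ t → t ≤ n → 0 ≤ a t := fun t h1 h2 => hnn t h1 h2 (by omega)
      by_cases ha1 : -(q : ℤ) ≤ a 1
      · right; right
        refine ⟨ha0, ha1, ?_, hnn'⟩
        rcases hB1 with h | ⟨h, _⟩
        · ev
        · ev
      · exfalso
        have h1m : 1 < m := by omega
        have hE : EdgeN n q m a (Sum.inr j) (Sum.inr ⟨1, h1m⟩) :=
          ⟨fun t ht => le_max_right _ _, Or.inl (by ev), Or.inl (by ev)⟩
        exact not_std_neg 1 (by omega) (by ev) (hLG _ hE)
    · have haJ : -1 ≤ a (j.val + 1) := by
        have := h0 (j.val + 1) (by omega)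
        ev
      have ha1l : -(q : ℤ) ≤ a 1 := by ev
      have ha1u : a 1 ≤ 0 := by
        rcases hB1 with h | ⟨h, _⟩
        · ev
        · ev
      by_cases haJ0 : 0 ≤ a (j.val + 1)
      · right; right
        refine ⟨ha0, ha1l, ha1u, fun t h1 h2 => ?_⟩
        by_cases htJ : t = j.val + 1
        · rw [htJ]
          exact haJ0
        · exact hnn t h1 h2 htJ
      · have haJ' : a (j.val + 1) = -1 := by omega
        by_cases ha10 : a 1 = 0
        · have hB2 : ∀ t, 2 ≤ t → t ≤ m → uN q a (Sum.inr j : Vx n m) t ≤ 0 := by
            rcases hB1 with h | ⟨_, h⟩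
            · exfalso
              ev
            · exact h
          right; left
          have hb0 : ∀ t, t < n + 1 →
              0 ≤ (fun t => a t + if t = j.val + 1 then 1 else 0) t := by
            intro t ht
            by_cases ht0 : t = 0
            · subst ht0
              ev
            · by_cases ht1 : t = 1
              · subst ht1
                ev
              · by_cases htJ : t = j.val + 1
                · rw [htJ]
                  ev
                · have := hnn t (by omega) (by omega) htJ
                  ev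
          have hbs : ∑ t ∈ Finset.range (n + 1),
              (fun t => a t + if t = j.val + 1 then 1 else 0) t = 1 := by
            simp only []
            rw [Finset.sum_add_distrib, hsum, sum_ind, if_pos (by omega)]
            rfl
          obtain ⟨l, hl, hb⟩ := single_of_sum_one _ (n + 1) hb0 hbs
          have hlm : m < l := by
            by_contra hcon
            have e := hb l hl
            by_cases hl0 : l = 0
            · subst hl0
              ev
            · by_cases hl1 : l = 1
              · subst hl1
                ev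
              · by_cases hlJ : l = j.val + 1
                · subst hlJ
                  ev
                · have e1 := hB2 l (by omega) (by omega)
                  have e2 := h0 l (by omega)
                  ev
          refine ⟨l, j.val + 1, Or.inr (Or.inr ⟨by omega, by omega, by omega, by omega⟩),
            fun t ht => ?_⟩
          have := hb t (by omega)
          ev
        · exfalso
          have ha1n : a 1 ≤ -1 := by omega
          have h0m : 0 < m := by omega
          by_cases ha12 : a 1 ≤ -2
          · have hE : EdgeN n q m a (Sum.inr j) (Sum.inr ⟨0, h0m⟩) :=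
              ⟨fun t ht => le_max_right _ _, Or.inl (by ev), Or.inl (by ev)⟩
            exact not_std_neg (j.val + 1) (by omega) (by ev) (hLG _ hE)
          · have ha11 : a 1 = -1 := by omega
            by_cases hm3 : 3 ≤ m
            · obtain ⟨jj, hjj1, hjj2, hjj3⟩ : ∃ jj, 1 ≤ jj ∧ jj < m ∧ jj ≠ j.val := by
                by_cases h : j.val = 1
                · exact ⟨2, by omega, by omega, by omega⟩
                · exact ⟨1, by omega, by omega, by omega⟩
              have hE : EdgeN n q m a (Sum.inr j) (Sum.inr ⟨jj, hjj2⟩) :=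
                ⟨fun t ht => le_max_right _ _, Or.inl (by ev), Or.inl (by ev)⟩
              exact not_std_neg (j.val + 1) (by omega) (by ev) (hLG _ hE)
            · have hE : EdgeN n q m a (Sum.inr j) (Sum.inr ⟨0, h0m⟩) := by
                refine ⟨fun t ht => le_max_right _ _, Or.inl (by ev),
                  Or.inr ⟨by ev, fun t h1 h2 => ?_⟩⟩
                have ht : t = j.val + 1 := by omega
                subst ht
                ev
              exact not_std_neg (j.val + 1) (by omega) (by ev) (hLG _ hE)
  · have ha0' : a 0 = 1 := by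
      rcases hA1 with h | ⟨h, _⟩
      · ev
      · ev
    have hA2 : ∀ t, 1 ≤ t → t + 1 ≤ n → uN q a (Sum.inr j : Vx n m) t ≤ 0 := by
      rcases hA1 with h | ⟨_, h⟩
      · exfalso
        ev
      · exact h
    left
    refine ⟨j.val + 1, by omega, by omega, ?_⟩
    have hag : ∀ t, t < n + 1 → t ≠ n → a t = vOm n q (j.val + 1) t := by
      intro t ht hne
      by_cases ht0 : t = 0
      · subst ht0
        ev
      · have h1 := hA2 t (by omega) (by omega)
        have h2 := h0 t (by omega)
        ev
    intro t ht
    exact eq_of_agree a (vOm n q (j.val + 1)) (n + 1) n (by omega)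
      (by rw [hsum, sum_vOm n q (j.val + 1) (by omega) (by omega)]) hag t (by omega)

theorem classify47 (hn : 4 ≤ n) (hq : 1 ≤ q) (hm2 : 2 ≤ m) (hm : m + 2 ≤ n)
    (hreg : m + 3 ≤ n ∨ 3 ≤ q)
    (a : ℕ → ℤ) (hsum : ∑ t ∈ Finset.range (n + 1), a t = 0) (x : Vx n m)
    (hA : ActN n q m a x)
    (hLG : ∀ y, EdgeN n q m a x y → ActN n q m a y) : InT n q m a := by
  rcases x with i | j
  · exact classifyA hn hq hm2 hm hreg a hsum i hA hLG
  · exact classifyB hn hq hm2 hm a hsum j hA hLG

end Groth.Agent.H4.MgTE
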