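import Mathlib
import Groth.Prelude.Def_W4c1hilbpnTgt
import Groth.Agent.H4.MgSol
import Groth.Agent.H4.MgTB
import Groth.Agent.H4.MgTC
import Groth.Agent.H4.MgTD
import Groth.Agent.H4.MgTE

set_option autoImplicit false
universe u
open W4c1hilbpn MvPolynomial
open Groth.Agent.H4.TgtCC
open Groth.Agent.H4.MgSol Groth.Agent.H4.MgTB Groth.Agent.H4.MgTC Groth.Agent.H4.MgTD
  Groth.Agent.H4.MgTE

noncomputable section
namespace Groth.Agent.H4.MgTF

variable {k : Type u} [Field k] {n q m : ℕ}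

macro "ev" : tactic =>
  `(tactic| ((try simp only [uN_inl, uN_inr, gA, gB, vE, vOm, Fin.val_mk, ↓reduceIte] at *); omega))

/-- extension of a multidegree to a function on naturals -/
def aExt (n : ℕ) (α : Fin (n + 1) → ℤ) (t : ℕ) : ℤ := if h : t < n + 1 then α ⟨t, h⟩ else 0

lemma toA_aExt (α : Fin (n + 1) → ℤ) : toA n (aExt n α) = α := by
  funext t
  unfold toA aExt
  rw [dif_pos t.isLt]

lemma aExt_apply (α : Fin (n + 1) → ℤ) (t : Fin (n + 1)) : aExt n α t.val = α t := by
  unfold aExt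
  rw [dif_pos t.isLt]

lemma toA_congr (a b : ℕ → ℤ) (h : ∀ t, t ≤ n → a t = b t) : toA n a = toA n b :=
  funext fun t => h t.val (by have := t.isLt; omega)

lemma sum_toA (a : ℕ → ℤ) : ∑ t : Fin (n + 1), toA n a t = ∑ t ∈ Finset.range (n + 1), a t :=
  Fin.sum_univ_eq_sum_range a (n + 1)

lemma sum_aExt (α : Fin (n + 1) → ℤ) :
    ∑ t ∈ Finset.range (n + 1), aExt n α t = ∑ t, α t := by
  rw [← sum_toA, toA_aExt]

/-- counting lemma: a function equal to one off a subset -/
lemma sum_count {β : Type*} [DecidableEq β] (A B : Finset β) (f : β → ℕ) (hB : B ⊆ A)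
    (h1 : ∀ x ∈ A, x ∉ B → f x = 1) : ∑ x ∈ A, f x + B.card = A.card + ∑ x ∈ B, f x := by
  have e1 := Finset.sum_sdiff (f := f) hB
  have e2 : ∑ x ∈ A \ B, f x = (A \ B).card := by
    rw [Finset.card_eq_sum_ones]
    exact Finset.sum_congr rfl (fun x hx => by
      rw [Finset.mem_sdiff] at hx
      exact h1 x hx.1 hx.2)
  have e3 := Finset.card_sdiff_add_card_eq_card hB
  omega

section CB

/-- variables other than `x_0` -/
def SS (n : ℕ) : Finset (Fin (n + 1)) := Finset.univ.erase 0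

/-- the multidegree `ν - q e_1` -/
def alphaOf (n q : ℕ) (ν : Fin (n + 1) →₀ ℕ) : Fin (n + 1) → ℤ :=
  fun t => (ν t : ℤ) - if t.val = 1 then (q : ℤ) else 0

def nuOf (n q : ℕ) (α : Fin (n + 1) → ℤ) : Fin (n + 1) →₀ ℕ :=
  tn (fun t => α t + if t.val = 1 then (q : ℤ) else 0)

/-- membership condition of the family -/
def CBc (n q : ℕ) (α : Fin (n + 1) → ℤ) : Prop :=
  α 0 = 0 ∧ (∀ t, 0 ≤ α t + if t.val = 1 then (q : ℤ) else 0) ∧ ∑ t, α t = 0

lemma sum_q (hn : 1 ≤ n) : ∑ t : Fin (n + 1), (if t.val = 1 then (q : ℤ) else 0) = q := by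
  rw [Fin.sum_univ_eq_sum_range (fun s : ℕ => if s = 1 then (q : ℤ) else 0) (n + 1), sum_ind,
    if_pos (by omega)]

lemma alphaOf_nuOf {α : Fin (n + 1) → ℤ} (hα : CBc n q α) : alphaOf n q (nuOf n q α) = α := by
  funext t
  unfold alphaOf nuOf
  rw [tn_apply]
  have := hα.2.1 t
  omega

lemma alphaOf_inj : Function.Injective (alphaOf n q) := by
  intro ν ν' h
  ext t
  have := congrFun h t
  unfold alphaOf at this
  omega

lemma nuOf_mem (hn : 1 ≤ n) {α : Fin (n + 1) → ℤ} (hα : CBc n q α) :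
    nuOf n q α ∈ (SS n).finsuppAntidiag q := by
  rw [Finset.mem_finsuppAntidiag]
  have h0 : nuOf n q α 0 = 0 := by
    unfold nuOf
    rw [tn_apply, hα.1]
    simp
  constructor
  · have e1 : ∑ t ∈ SS n, nuOf n q α t = ∑ t, nuOf n q α t := by
      unfold SS
      rw [← Finset.add_sum_erase Finset.univ (fun t => nuOf n q α t) (Finset.mem_univ 0), h0,
        zero_add]
    rw [e1]
    have e2 : ((∑ t, nuOf n q α t : ℕ) : ℤ) = q := by
      push_cast
      have e3 : ∀ t : Fin (n + 1), ((nuOf n q α t : ℕ) : ℤ) =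
          α t + if t.val = 1 then (q : ℤ) else 0 := by
        intro t
        unfold nuOf
        rw [tn_apply]
        have := hα.2.1 t
        omega
      rw [Finset.sum_congr rfl (fun t _ => e3 t), Finset.sum_add_distrib, hα.2.2, sum_q hn,
        zero_add]
    exact_mod_cast e2
  · intro t ht
    unfold SS
    rw [Finset.mem_erase]
    refine ⟨fun e => ?_, Finset.mem_univ t⟩
    rw [Finsupp.mem_support_iff, e] at ht
    exact ht h0

lemma alphaOf_CBc (hn : 1 ≤ n) {ν : Fin (n + 1) →₀ ℕ} (hν : ν ∈ (SS n).finsuppAntidiag q) :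
    CBc n q (alphaOf n q ν) := by
  rw [Finset.mem_finsuppAntidiag] at hν
  have h0 : ν 0 = 0 := by
    by_contra h
    have := hν.2 (Finsupp.mem_support_iff.2 h)
    unfold SS at this
    rw [Finset.mem_erase] at this
    exact this.1 rfl
  refine ⟨?_, fun t => ?_, ?_⟩
  · unfold alphaOf
    rw [h0]
    simp
  · unfold alphaOf
    omega
  · unfold alphaOf
    rw [Finset.sum_sub_distrib, sum_q hn]
    have e1 : ∑ t ∈ SS n, ν t = ∑ t, ν t := by
      unfold SS
      rw [← Finset.add_sum_erase Finset.univ (fun t => ν t) (Finset.mem_univ 0), h0, zero_add]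
    have e2 : ((∑ t, ν t : ℕ) : ℤ) = q := by
      rw [← e1, hν.1]
    push_cast at e2
    rw [e2, sub_self]

/-- the family of multidegrees `ν - q e_1` -/
def FCB (n q : ℕ) : Finset (Fin (n + 1) → ℤ) := ((SS n).finsuppAntidiag q).image (alphaOf n q)

lemma mem_FCB (hn : 1 ≤ n) (α : Fin (n + 1) → ℤ) : α ∈ FCB n q ↔ CBc n q α := by
  unfold FCB
  rw [Finset.mem_image]
  constructor
  · rintro ⟨ν, hν, rfl⟩
    exact alphaOf_CBc hn hν
  · intro h
    exact ⟨nuOf n q α, nuOf_mem hn h, alphaOf_nuOf h⟩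

lemma card_FCB (hn : 1 ≤ n) : (FCB n q).card = Nat.choose (n + q - 1) (n - 1) := by
  unfold FCB
  rw [Finset.card_image_of_injective _ alphaOf_inj, Finset.card_finsuppAntidiag_nat_eq_choose]
  have hc : (SS n).card = n := by
    unfold SS
    rw [Finset.card_erase_of_mem (Finset.mem_univ 0), Finset.card_univ, Fintype.card_fin]
    omega
  rw [hc]
  have e : n + q - 1 = q + (n - 1) := by omega
  rw [e, Nat.choose_symm_add]

end CB

end Groth.Agent.H4.MgTF
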