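import Mathlib
import Groth.Prelude.Def_W4c1hilbpnTgt
import Groth.Agent.H4.MgSol
import Groth.Agent.H4.MgTB
import Groth.Agent.H4.MgTC
import Groth.Agent.H4.MgTD
import Groth.Agent.H4.MgTE
import Groth.Agent.H4.MgTF

set_option autoImplicit false
universe u
open W4c1hilbpn MvPolynomial
open Groth.Agent.H4.TgtCC
open Groth.Agent.H4.MgSol Groth.Agent.H4.MgTB Groth.Agent.H4.MgTC Groth.Agent.H4.MgTD
  Groth.Agent.H4.MgTE Groth.Agent.H4.MgTF

noncomputable section
namespace Groth.Agent.H4.MgTG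

variable {k : Type u} [Field k] {n q m : ℕ}

macro "ev" : tactic =>
  `(tactic| ((try simp only [uN_inl, uN_inr, gA, gB, vE, vOm, Fin.val_mk, ↓reduceIte] at *); omega))

/-! ### the monomial generators -/

lemma mono_A (i : Fin n) (hi : i.val < n + 1) :
    monomial (gg n q m (Sum.inl i)) (1 : k) = X 0 * X ⟨i.val, hi⟩ := by
  show monomial (eN n 0 + eN n i.val) (1 : k) = _
  have e0 : eN n 0 = Finsupp.single (0 : Fin (n + 1)) 1 := by
    unfold eN
    rw [dif_pos (by omega)]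
    rfl
  have ei : eN n i.val = Finsupp.single (⟨i.val, hi⟩ : Fin (n + 1)) 1 := by
    unfold eN
    rw [dif_pos hi]
  rw [e0, ei]
  show _ = monomial (Finsupp.single 0 1) (1 : k) * monomial (Finsupp.single _ 1) 1
  rw [monomial_mul, one_mul]

lemma mono_B (hn : 1 ≤ n) (j : Fin m) (hj : j.val + 1 < n + 1) :
    monomial (gg n q m (Sum.inr j)) (1 : k) = X 1 ^ q * X ⟨j.val + 1, hj⟩ := by
  show monomial (q • eN n 1 + eN n (j.val + 1)) (1 : k) = _
  have h1 : (⟨1, by omega⟩ : Fin (n + 1)) = 1 :=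
    Fin.ext (by rw [Fin.val_one', Nat.mod_eq_of_lt (by omega)])
  have e1 : eN n 1 = Finsupp.single (1 : Fin (n + 1)) 1 := by
    unfold eN
    rw [dif_pos (by omega), h1]
  have ej : eN n (j.val + 1) = Finsupp.single (⟨j.val + 1, hj⟩ : Fin (n + 1)) 1 := by
    unfold eN
    rw [dif_pos hj]
  rw [e1, ej, Finsupp.smul_single, smul_eq_mul, mul_one, X_pow_eq_monomial]
  show _ = monomial (Finsupp.single 1 q) (1 : k) * monomial (Finsupp.single _ 1) 1
  rw [monomial_mul, one_mul]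

lemma span_set (hn : 1 ≤ n) (hm : m + 1 ≤ n) :
    ({f : MvPolynomial (Fin (n + 1)) k | ∃ i : Fin (n + 1), i.val + 1 ≤ n ∧
        f = MvPolynomial.X 0 * MvPolynomial.X i} ∪
      {f : MvPolynomial (Fin (n + 1)) k | ∃ i : Fin (n + 1), 1 ≤ i.val ∧ i.val ≤ m ∧
        f = MvPolynomial.X 1 ^ q * MvPolynomial.X i}) =
      (fun s => monomial s (1 : k)) '' Set.range (gg n q m) := by
  ext f
  constructor
  · rintro (⟨i, hi, rfl⟩ | ⟨i, hi1, hi2, rfl⟩)
    · refine ⟨_, ⟨Sum.inl ⟨i.val, by omega⟩, rfl⟩, ?_⟩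
      show monomial (gg n q m (Sum.inl ⟨i.val, by omega⟩)) (1 : k) = _
      rw [mono_A _ (by simp only [Fin.val_mk]; omega)]
    · refine ⟨_, ⟨Sum.inr ⟨i.val - 1, by omega⟩, rfl⟩, ?_⟩
      show monomial (gg n q m (Sum.inr ⟨i.val - 1, by omega⟩)) (1 : k) = _
      rw [mono_B hn _ (by simp only [Fin.val_mk]; omega)]
      congr 2
      apply Fin.ext
      simp only [Fin.val_mk]
      omega
  · rintro ⟨s, ⟨x, rfl⟩, rfl⟩
    rcases x with i | j
    · left
      have hi := i.isLt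
      exact ⟨⟨i.val, by omega⟩, by simp only [Fin.val_mk]; omega, mono_A i (by omega)⟩
    · right
      have hj := j.isLt
      exact ⟨⟨j.val + 1, by omega⟩, by simp only [Fin.val_mk]; omega,
        by simp only [Fin.val_mk]; omega, mono_B hn j (by omega)⟩

/-! ### values on the family `FCB` -/

lemma sol_a0 (hn : 3 ≤ n) (hm1 : 1 ≤ m) (hm : m + 1 ≤ n) (a : ℕ → ℤ)
    (ha : ∀ t, t ≤ n → a t = 0) : Sol k (gg n q m) (toA n a) = ⊥ := by
  refine sol_eq_botN (by omega) hm1 hm a (fun x hx => ?_)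
  exfalso
  have a0 := ha 0 (by omega)
  have a1 := ha 1 (by omega)
  rcases x with i | j
  · have hi := i.isLt
    have ai := ha i.val (by omega)
    by_cases hi0 : i.val = 0
    · exact not_std_A0 (by ev) hx
    · exact not_std_A i.val (by ev) (by omega) (by omega) (by ev) hx
  · have hj := j.isLt
    have aj := ha (j.val + 1) (by omega)
    by_cases hj0 : j.val = 0
    · exact not_std_B1 (by ev) hx
    · exact not_std_B (j.val + 1) (by ev) (by omega) (by omega) (by ev) hx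

lemma cbc_facts (hn : 3 ≤ n) {α : Fin (n + 1) → ℤ} (hα : CBc n q α) :
    aExt n α 0 = 0 ∧ -(q : ℤ) ≤ aExt n α 1 ∧ (∀ t, 2 ≤ t → t ≤ n → 0 ≤ aExt n α t) ∧
      ∑ t ∈ Finset.range (n + 1), aExt n α t = 0 := by
  refine ⟨?_, ?_, ?_, ?_⟩
  · have := aExt_apply α (0 : Fin (n + 1))
    rw [Fin.val_zero] at this
    rw [this, hα.1]
  · have h1 := aExt_apply α (⟨1, by omega⟩ : Fin (n + 1))
    have h2 := hα.2.1 ⟨1, by omega⟩
    simp only [Fin.val_mk, ↓reduceIte] at h1 h2
    omega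
  · intro t h1 h2
    have h3 := aExt_apply α (⟨t, by omega⟩ : Fin (n + 1))
    have h4 := hα.2.1 ⟨t, by omega⟩
    simp only [Fin.val_mk] at h3 h4
    rw [if_neg (by omega)] at h4
    omega
  · rw [sum_aExt, hα.2.2]

lemma cbc_toA_vE (hn : 3 ≤ n) (hq : 1 ≤ q) (l : ℕ) (hl1 : 2 ≤ l) (hl2 : l ≤ n) :
    CBc n q (toA n (vE l 1)) := by
  refine ⟨?_, fun t => ?_, ?_⟩
  · show vE l 1 (0 : Fin (n + 1)).val = 0
    rw [Fin.val_zero]
    ev
  · show 0 ≤ vE l 1 t.val + _
    unfold vE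
    split_ifs <;> omega
  · rw [sum_toA, sum_vE (n + 1) l 1 (by omega) (by omega)]

lemma cbc_zero (hn : 1 ≤ n) : CBc n q (0 : Fin (n + 1) → ℤ) := by
  refine ⟨rfl, fun t => ?_, ?_⟩
  · show 0 ≤ (0 : ℤ) + _
    split_ifs <;> omega
  · simp

/-- a member of `FCB` other than `0` and the `e_l - e_1` has a one-dimensional piece -/
lemma fin_CB_generic (hn : 3 ≤ n) (hq : 1 ≤ q) (hm1 : 1 ≤ m) (hm : m + 1 ≤ n)
    {α : Fin (n + 1) → ℤ} (hα : CBc n q α) (h0 : α ≠ 0)
    (hl : ∀ l, 2 ≤ l → l ≤ n → α ≠ toA n (vE l 1)) :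
    Module.finrank k ↥(Sol k (gg n q m) α) = 1 := by
  obtain ⟨a0, a1, ann, asum⟩ := cbc_facts hn hα
  have hnn : ∀ t ∈ Finset.range (n + 1),
      0 ≤ (if t = 1 then 0 else aExt n α t) := by
    intro t ht
    have := Finset.mem_range.1 ht
    by_cases ht1 : t = 1
    · rw [if_pos ht1]
    · rw [if_neg ht1]
      by_cases ht0 : t = 0
      · rw [ht0, a0]
      · exact ann t (by omega) (by omega)
  have hsplit : ∑ t ∈ Finset.range (n + 1), (if t = 1 then 0 else aExt n α t) +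
      aExt n α 1 = 0 := by
    have e : ∀ t ∈ Finset.range (n + 1), aExt n α t =
        (if t = 1 then 0 else aExt n α t) + (if t = 1 then aExt n α 1 else 0) := by
      intro t _
      by_cases ht1 : t = 1
      · rw [if_pos ht1, if_pos ht1, ht1, zero_add]
      · rw [if_neg ht1, if_neg ht1, add_zero]
    rw [Finset.sum_congr rfl e, Finset.sum_add_distrib, sum_ind, if_pos (by omega)] at asum
    exact asum
  have hsn := Finset.sum_nonneg hnn
  have a1u : aExt n α 1 ≤ 0 := by omega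
  by_cases h2 : aExt n α 1 ≤ -2
  · have := val_CB2 (k := k) (m := m) hn hq hm1 hm (aExt n α) a0 a1 h2 ann
    rw [toA_aExt] at this
    exact this
  · exfalso
    by_cases h1 : aExt n α 1 = -1
    · have hb0 : ∀ t, t < n + 1 → 0 ≤ (fun t => aExt n α t + if t = 1 then 1 else 0) t := by
        intro t ht
        simp only []
        by_cases ht1 : t = 1
        · rw [ht1, h1]
          simp
        · rw [if_neg ht1, add_zero]
          by_cases ht0 : t = 0
          · rw [ht0, a0]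
          · exact ann t (by omega) (by omega)
      have hbs : ∑ t ∈ Finset.range (n + 1),
          (fun t => aExt n α t + if t = 1 then 1 else 0) t = 1 := by
        simp only []
        rw [Finset.sum_add_distrib, asum, sum_ind, if_pos (by omega)]
        rfl
      obtain ⟨l, hl', hb⟩ := single_of_sum_one _ (n + 1) hb0 hbs
      have hl0 : l ≠ 0 := by
        intro e
        have := hb 0 (by omega)
        omega
      have hl1 : l ≠ 1 := by
        intro e
        have := hb 1 (by omega)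
        omega
      apply hl l (by omega) (by omega)
      rw [← toA_aExt α]
      apply toA_congr
      intro t ht
      have := hb t (by omega)
      unfold vE
      omega
    · have h10 : aExt n α 1 = 0 := by omega
      have hz : ∑ t ∈ Finset.range (n + 1),
          (if t = 1 then 0 else aExt n α t) = 0 := by omega
      have hz' := (Finset.sum_eq_zero_iff_of_nonneg hnn).1 hz
      apply h0
      rw [← toA_aExt α]
      funext t
      show aExt n α t.val = 0
      by_cases ht1 : t.val = 1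
      · rw [ht1, h10]
      · have := hz' t.val (Finset.mem_range.2 t.isLt)
        rw [if_neg ht1] at this
        exact this

/-! ### sums over the families -/

lemma vE_inj (l i l' i' : ℕ) (hl : l ≤ n) (hi : i ≤ n) (hli : l ≠ i) (hli' : l' ≠ i')
    (h : toA n (vE l i) = toA n (vE l' i')) : l = l' ∧ i = i' := by
  have h1 := congrFun h ⟨l, by omega⟩
  have h2 := congrFun h ⟨i, by omega⟩
  simp only [toA, vE, Fin.val_mk, ↓reduceIte] at h1 h2
  omega

lemma sum_FCB (hn : 3 ≤ n) (hq : 1 ≤ q) (hm1 : 1 ≤ m) (hm : m + 1 ≤ n) :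
    ∑ α ∈ FCB n q, Module.finrank k ↥(Sol k (gg n q m) α) + n =
      Nat.choose (n + q - 1) (n - 1) + ∑ l ∈ Finset.Icc 2 n,
        ((if 2 ≤ m then 1 else 0) + (if m < l then 1 else 0) + (if l = n then 1 else 0)) := by
  classical
  have hinj : Set.InjOn (fun l => toA n (vE l 1)) (Finset.Icc 2 n : Set ℕ) := by
    intro l hl l' hl' h
    rw [Finset.coe_Icc, Set.mem_Icc] at hl hl'
    exact (vE_inj l 1 l' 1 hl.2 (by omega) (by omega) (by omega) h).1
  have h0img : (0 : Fin (n + 1) → ℤ) ∉ (Finset.Icc 2 n).image (fun l => toA n (vE l 1)) := by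
    intro h
    obtain ⟨l, hl, e⟩ := Finset.mem_image.1 h
    rw [Finset.mem_Icc] at hl
    have := congrFun e ⟨l, by omega⟩
    simp only [toA, vE, Fin.val_mk, Pi.zero_apply, ↓reduceIte] at this
    omega
  have hBsub : insert (0 : Fin (n + 1) → ℤ) ((Finset.Icc 2 n).image (fun l => toA n (vE l 1))) ⊆
      FCB n q := by
    intro α hα
    rw [Finset.mem_insert] at hα
    rw [mem_FCB (by omega)]
    rcases hα with rfl | hα
    · exact cbc_zero (by omega)
    · obtain ⟨l, hl, rfl⟩ := Finset.mem_image.1 hα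
      rw [Finset.mem_Icc] at hl
      exact cbc_toA_vE hn hq l hl.1 hl.2
  have hone : ∀ α ∈ FCB n q,
      α ∉ insert (0 : Fin (n + 1) → ℤ) ((Finset.Icc 2 n).image (fun l => toA n (vE l 1))) →
      Module.finrank k ↥(Sol k (gg n q m) α) = 1 := by
    intro α hα hαB
    rw [mem_FCB (by omega)] at hα
    refine fin_CB_generic hn hq hm1 hm hα (fun e => hαB ?_) (fun l h1 h2 e => hαB ?_)
    · rw [e]
      exact Finset.mem_insert_self _ _
    · rw [e]
      exact Finset.mem_insert_of_mem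
        (Finset.mem_image.2 ⟨l, Finset.mem_Icc.2 ⟨h1, h2⟩, rfl⟩)
  have hcount := sum_count (FCB n q) _
    (fun α => Module.finrank k ↥(Sol k (gg n q m) α)) hBsub hone
  have hBcard : (insert (0 : Fin (n + 1) → ℤ)
      ((Finset.Icc 2 n).image (fun l => toA n (vE l 1)))).card = n := by
    rw [Finset.card_insert_of_notMem h0img, Finset.card_image_of_injOn hinj, Nat.card_Icc]
    omega
  have hz : Module.finrank k ↥(Sol k (gg n q m) (0 : Fin (n + 1) → ℤ)) = 0 := by
    have e : (0 : Fin (n + 1) → ℤ) = toA n (fun _ => 0) := rfl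
    rw [e, sol_a0 hn hm1 hm (fun _ => 0) (fun _ _ => rfl), finrank_bot]
  have hBsum : ∑ α ∈ insert (0 : Fin (n + 1) → ℤ)
      ((Finset.Icc 2 n).image (fun l => toA n (vE l 1))),
      Module.finrank k ↥(Sol k (gg n q m) α) = ∑ l ∈ Finset.Icc 2 n,
        ((if 2 ≤ m then 1 else 0) + (if m < l then 1 else 0) + (if l = n then 1 else 0)) := by
    rw [Finset.sum_insert h0img, Finset.sum_image hinj, hz, zero_add]
    exact Finset.sum_congr rfl (fun l hl => by
      rw [Finset.mem_Icc] at hl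
      exact val_CB1 hn hq hm1 hm l hl.1 hl.2)
  rw [hBcard, card_FCB (by omega), hBsum] at hcount
  exact hcount

lemma sum_one_ind (a b : ℕ) (hab : a ≤ b) :
    ∑ l ∈ Finset.Icc a b, (1 + if l = b then 1 else 0) = (b + 1 - a) + 1 := by
  rw [Finset.sum_add_distrib, Finset.sum_const, smul_eq_mul, mul_one, Nat.card_Icc,
    Finset.sum_ite_eq' (Finset.Icc a b) b (fun _ => 1),
    if_pos (Finset.mem_Icc.2 ⟨hab, le_rfl⟩)]

lemma sum_dl (hm2 : 2 ≤ m) (hm : m + 1 ≤ n) :
    ∑ l ∈ Finset.Icc 2 n,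
      ((if 2 ≤ m then 1 else 0) + (if m < l then 1 else 0) + (if l = n then 1 else 0)) =
      (n - 1) + (n - m) + 1 := by
  rw [Finset.sum_add_distrib, Finset.sum_add_distrib, if_pos hm2, Finset.sum_const, smul_eq_mul,
    mul_one, Nat.card_Icc, Finset.sum_ite_eq' (Finset.Icc 2 n) n (fun _ => 1),
    if_pos (Finset.mem_Icc.2 ⟨by omega, le_rfl⟩), ← Finset.card_filter]
  have e : (Finset.Icc 2 n).filter (fun l => m < l) = Finset.Icc (m + 1) n := by
    ext l
    simp only [Finset.mem_filter, Finset.mem_Icc]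
    omega
  rw [e, Nat.card_Icc]
  omega

/-- the family `e_0 + q e_n - q e_1 - e_j` -/
def Fom (n q m : ℕ) : Finset (Fin (n + 1) → ℤ) :=
  (Finset.Icc 1 m).image (fun j => toA n (vOm n q j))

lemma vOm_injOn (hm : m + 1 ≤ n) :
    Set.InjOn (fun j => toA n (vOm n q j)) (Finset.Icc 1 m : Set ℕ) := by
  intro j hj j' hj' h
  rw [Finset.coe_Icc, Set.mem_Icc] at hj hj'
  have := congrFun h ⟨j, by omega⟩
  simp only [toA, vOm, Fin.val_mk, ↓reduceIte] at this
  omega

lemma sum_Fom (hn : 3 ≤ n) (hq : 1 ≤ q) (hm1 : 1 ≤ m) (hm : m + 1 ≤ n) :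
    ∑ α ∈ Fom n q m, Module.finrank k ↥(Sol k (gg n q m) α) = m := by
  unfold Fom
  rw [Finset.sum_image (vOm_injOn hm),
    Finset.sum_congr rfl (fun j hj => val_om (k := k) hn hq hm1 hm j (Finset.mem_Icc.1 hj).1
      (Finset.mem_Icc.1 hj).2),
    Finset.sum_const, smul_eq_mul, mul_one, Nat.card_Icc]
  omega

def P1 (n : ℕ) : Finset (ℕ × ℕ) := Finset.Icc 1 n ×ˢ {0}
def P2 (n m : ℕ) : Finset (ℕ × ℕ) := {n} ×ˢ Finset.Icc (m + 1) (n - 1)
def P3 (n m : ℕ) : Finset (ℕ × ℕ) := Finset.Icc (m + 1) n ×ˢ Finset.Icc 2 m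
def PEs (n m : ℕ) : Finset (ℕ × ℕ) := P1 n ∪ P2 n m ∪ P3 n m

/-- the family `e_l - e_i` -/
def FE (n m : ℕ) : Finset (Fin (n + 1) → ℤ) :=
  (PEs n m).image (fun p => toA n (vE p.1 p.2))

lemma mem_PEs (hn : 1 ≤ n) (p : ℕ × ℕ) : p ∈ PEs n m ↔ PE n m p.1 p.2 := by
  unfold PEs P1 P2 P3 PE
  simp only [Finset.mem_union, Finset.mem_product, Finset.mem_Icc, Finset.mem_singleton]
  omega

lemma PE_facts (hn : 1 ≤ n) {l i : ℕ} (h : PE n m l i) : 1 ≤ l ∧ l ≤ n ∧ i ≤ n ∧ l ≠ i := by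
  unfold PE at h
  omega

lemma FE_injOn (hn : 1 ≤ n) :
    Set.InjOn (fun p : ℕ × ℕ => toA n (vE p.1 p.2)) (PEs n m : Set (ℕ × ℕ)) := by
  intro p hp p' hp' h
  have h1 := PE_facts hn ((mem_PEs hn p).1 hp)
  have h2 := PE_facts hn ((mem_PEs hn p').1 hp')
  have := vE_inj p.1 p.2 p'.1 p'.2 h1.2.1 h1.2.2.1 h1.2.2.2 h2.2.2.2 h
  exact Prod.ext this.1 this.2

lemma sum_FE (hn : 4 ≤ n) (hq : 1 ≤ q) (hm2 : 2 ≤ m) (hm : m + 2 ≤ n) :
    ∑ α ∈ FE n m, Module.finrank k ↥(Sol k (gg n q m) α) =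
      (n + 1) + (n - 1 - m) + (m - 1) * ((n - m) + 1) := by
  classical
  unfold FE
  rw [Finset.sum_image (FE_injOn (by omega))]
  have d1 : Disjoint (P1 n) (P2 n m) := by
    rw [Finset.disjoint_left]
    intro p h1 h2
    unfold P1 at h1
    unfold P2 at h2
    simp only [Finset.mem_product, Finset.mem_Icc, Finset.mem_singleton] at h1 h2
    omega
  have d2 : Disjoint (P1 n ∪ P2 n m) (P3 n m) := by
    rw [Finset.disjoint_left]
    intro p h1 h2
    unfold P1 P2 at h1
    unfold P3 at h2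
    simp only [Finset.mem_union, Finset.mem_product, Finset.mem_Icc, Finset.mem_singleton] at h1 h2
    omega
  have e1 : ∑ p ∈ P1 n, Module.finrank k ↥(Sol k (gg n q m) (toA n (vE p.1 p.2))) = n + 1 := by
    unfold P1
    rw [Finset.sum_product]
    simp only [Finset.sum_singleton]
    rw [Finset.sum_congr rfl (fun l hl => val_c (k := k) (by omega) hq (by omega) hm l
      (Finset.mem_Icc.1 hl).1 (Finset.mem_Icc.1 hl).2), sum_one_ind 1 n (by omega)]
    omega
  have e2 : ∑ p ∈ P2 n m, Module.finrank k ↥(Sol k (gg n q m) (toA n (vE p.1 p.2))) =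
      n - 1 - m := by
    unfold P2
    rw [Finset.sum_product]
    simp only [Finset.sum_singleton]
    rw [Finset.sum_congr rfl (fun i hi => val_bA (k := k) (by omega) hq (by omega) (by omega) i
      (Finset.mem_Icc.1 hi).1 (by have := (Finset.mem_Icc.1 hi).2; omega)),
      Finset.sum_const, smul_eq_mul, mul_one, Nat.card_Icc]
    omega
  have e3 : ∑ p ∈ P3 n m, Module.finrank k ↥(Sol k (gg n q m) (toA n (vE p.1 p.2))) =
      (m - 1) * ((n - m) + 1) := by
    unfold P3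
    rw [Finset.sum_product]
    have c1 : (Finset.Icc 2 m).card = m - 1 := by
      rw [Nat.card_Icc]
      omega
    have inner : ∀ l ∈ Finset.Icc (m + 1) n,
        ∑ i ∈ Finset.Icc 2 m, Module.finrank k ↥(Sol k (gg n q m) (toA n (vE l i))) =
          (m - 1) * (1 + if l = n then 1 else 0) := by
      intro l hl
      rw [Finset.sum_congr rfl (fun i hi => val_CA (k := k) (by omega) hq (by omega) (by omega)
        i l (Finset.mem_Icc.1 hi).1 (Finset.mem_Icc.1 hi).2 (Finset.mem_Icc.1 hl).1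
        (Finset.mem_Icc.1 hl).2), Finset.sum_const, smul_eq_mul, c1]
    rw [Finset.sum_congr rfl inner, ← Finset.mul_sum, sum_one_ind (m + 1) n (by omega)]
    congr 1
    omega
  unfold PEs
  rw [Finset.sum_union d2, Finset.sum_union d1, e1, e2, e3]

/-- the set of multidegrees carrying the degree-zero homomorphisms -/
def T47 (n q m : ℕ) : Finset (Fin (n + 1) → ℤ) := Fom n q m ∪ FE n m ∪ FCB n q

lemma disj_om_E (hn : 1 ≤ n) : Disjoint (Fom n q m) (FE n m) := by
  rw [Finset.disjoint_left]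
  intro α h1 h2
  unfold Fom at h1
  unfold FE at h2
  obtain ⟨j, hj, rfl⟩ := Finset.mem_image.1 h1
  obtain ⟨p, hp, e⟩ := Finset.mem_image.1 h2
  rw [Finset.mem_Icc] at hj
  have hp' := PE_facts hn ((mem_PEs hn p).1 hp)
  have := congrFun e ⟨0, by omega⟩
  simp only [toA, vE, vOm, Fin.val_mk, ↓reduceIte] at this
  omega

lemma disj_omE_CB (hn : 3 ≤ n) (hm1 : 1 ≤ m) (hm : m + 1 ≤ n) :
    Disjoint (Fom n q m ∪ FE n m) (FCB n q) := by
  rw [Finset.disjoint_left]
  intro α h1 h2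
  rw [mem_FCB (by omega)] at h2
  rw [Finset.mem_union] at h1
  rcases h1 with h1 | h1
  · unfold Fom at h1
    obtain ⟨j, hj, rfl⟩ := Finset.mem_image.1 h1
    rw [Finset.mem_Icc] at hj
    have := h2.1
    simp only [toA, vOm, Fin.val_zero, ↓reduceIte] at this
    omega
  · unfold FE at h1
    obtain ⟨p, hp, rfl⟩ := Finset.mem_image.1 h1
    have hp' := (mem_PEs (by omega) p).1 hp
    have hp'' := PE_facts (by omega) hp'
    have h20 := h2.1
    have h2i := h2.2.1 ⟨p.2, by omega⟩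
    simp only [toA, vE, Fin.val_zero, Fin.val_mk, ↓reduceIte] at h20 h2i
    unfold PE at hp'
    omega

lemma hT47 (hn : 3 ≤ n) (hm : m + 1 ≤ n) (α : Fin (n + 1) → ℤ) (hα : α ∈ T47 n q m) :
    ∑ t, α t = 0 := by
  unfold T47 at hα
  rw [Finset.mem_union, Finset.mem_union] at hα
  rcases hα with (h | h) | h
  · unfold Fom at h
    obtain ⟨j, hj, rfl⟩ := Finset.mem_image.1 h
    rw [Finset.mem_Icc] at hj
    rw [sum_toA, sum_vOm n q j (by omega) (by omega)]
  · unfold FE at h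
    obtain ⟨p, hp, rfl⟩ := Finset.mem_image.1 h
    have hp' := PE_facts (by omega) ((mem_PEs (by omega) p).1 hp)
    rw [sum_toA, sum_vE (n + 1) p.1 p.2 (by omega) (by omega)]
  · exact ((mem_FCB (by omega) α).1 h).2.2

lemma mem_T47_of_InT (hn : 3 ≤ n) (hm : m + 1 ≤ n) (α : Fin (n + 1) → ℤ) (hs : ∑ t, α t = 0)
    (h : InT n q m (aExt n α)) : α ∈ T47 n q m := by
  unfold T47
  rw [Finset.mem_union, Finset.mem_union]
  rcases h with ⟨j, hj1, hj2, hj⟩ | ⟨l, i, hP, hli⟩ | ⟨h0, h1l, h1u, hnn⟩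
  · left; left
    unfold Fom
    refine Finset.mem_image.2 ⟨j, Finset.mem_Icc.2 ⟨hj1, hj2⟩, ?_⟩
    rw [← toA_aExt α]
    exact (toA_congr _ _ hj).symm
  · left; right
    unfold FE
    refine Finset.mem_image.2 ⟨(l, i), (mem_PEs (by omega) (l, i)).2 hP, ?_⟩
    rw [← toA_aExt α]
    exact (toA_congr _ _ hli).symm
  · right
    rw [mem_FCB (by omega)]
    refine ⟨?_, fun t => ?_, hs⟩
    · have := aExt_apply α (0 : Fin (n + 1))
      rw [Fin.val_zero] at this
      rw [← this, h0]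
    · have ht := aExt_apply α t
      have htl := t.isLt
      by_cases ht1 : t.val = 1
      · rw [if_pos ht1, ← ht, ht1]
        omega
      · rw [if_neg ht1, ← ht, add_zero]
        by_cases ht0 : t.val = 0
        · rw [ht0, h0]
        · exact hnn t.val (by omega) (by omega)

lemma hvan47 (hn : 4 ≤ n) (hq : 1 ≤ q) (hm2 : 2 ≤ m) (hm : m + 2 ≤ n)
    (hreg : m + 3 ≤ n ∨ 3 ≤ q) (α : Fin (n + 1) → ℤ) (hs : ∑ t, α t = 0)
    (hα : α ∉ T47 n q m) : Sol k (gg n q m) α = ⊥ := by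
  rw [← toA_aExt α]
  refine sol_eq_botN (by omega) (by omega) (by omega) (aExt n α) (fun x hx => ?_)
  by_contra hcon
  push Not at hcon
  have hin := classify47 hn hq hm2 hm hreg (aExt n α) (by rw [sum_aExt, hs]) x hx hcon
  exact hα (mem_T47_of_InT (by omega) (by omega) α hs hin)

theorem main47 (k : Type u) [Field k] (n q r : ℕ) (hn : 4 ≤ n)
    (hq : 1 ≤ q) (hr : r + 3 ≤ n) (hcase : 2 ≤ r ∨ (r = 1 ∧ 3 ≤ q)) :
    Module.finrank k ↥(⨆ α : {α : Fin (n + 1) → ℤ // ∑ i, α i = 0}, tPiece (Ideal.span ({f : MvPolynomial (Fin (n + 1)) k | ∃ i : Fin (n + 1), i.val + 1 ≤ n ∧ f = MvPolynomial.X 0 * MvPolynomial.X i} ∪ {f : MvPolynomial (Fin (n + 1)) k | ∃ i : Fin (n + 1), 1 ≤ i.val ∧ i.val ≤ n - r - 1 ∧ f = MvPolynomial.X 1 ^ q * MvPolynomial.X i})) α.1) =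
      3 * n - 1 + (n - r - 2) * (r + 1) + Nat.choose (n + q - 1) (n - 1) := by
  classical
  have e1 : n - r - 2 = (n - r - 1) - 1 := by omega
  have e2 : r + 1 = n - (n - r - 1) := by omega
  rw [e1, e2]
  have hm2 : 2 ≤ n - r - 1 := by omega
  have hm : (n - r - 1) + 2 ≤ n := by omega
  have hreg : (n - r - 1) + 3 ≤ n ∨ 3 ≤ q := by omega
  generalize n - r - 1 = m at *
  obtain ⟨hgen, hmono⟩ := hgen_of_span (k := k) n q m _ (span_set (by omega) (by omega))
  rw [finrank_deg0 hgen hmono (T47 n q m) (hT47 (by omega) (by omega))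
    (hvan47 hn hq hm2 hm hreg)]
  unfold T47
  rw [Finset.sum_union (disj_omE_CB (by omega) (by omega) (by omega)),
    Finset.sum_union (disj_om_E (by omega)), sum_Fom (by omega) hq (by omega) (by omega),
    sum_FE hn hq hm2 hm]
  have h3 := sum_FCB (k := k) (q := q) (m := m) (by omega : 3 ≤ n) hq (by omega) (by omega)
  rw [sum_dl hm2 (by omega)] at h3
  have h4 : (m - 1) * ((n - m) + 1) = (m - 1) * (n - m) + (m - 1) := by
    rw [Nat.mul_add, mul_one]
  rw [h4]
  generalize (m - 1) * (n - m) = X at *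
  omega

end Groth.Agent.H4.MgTG
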