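import Mathlib
import Groth.Prelude.Def_W4c1hilbpnTgt
import Groth.Agent.H4.MgSol
import Groth.Agent.H4.MgTB
import Groth.Agent.H4.MgTC
import Groth.Agent.H4.MgTE
import Groth.Agent.H4.MgTF
import Groth.Agent.H4.MgTG

set_option autoImplicit false
universe u
open W4c1hilbpn MvPolynomial
open Groth.Agent.H4.TgtCC
open Groth.Agent.H4.MgSol Groth.Agent.H4.MgTB Groth.Agent.H4.MgTC
  Groth.Agent.H4.MgTE Groth.Agent.H4.MgTF Groth.Agent.H4.MgTG

noncomputable section
namespace Groth.Agent.H4.MgPA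

variable {k : Type u} [Field k] {n c d b0 : ℕ}

/-- the ideal generated by the monomials `x^(g x)`, for a general generator family -/
lemma hgen_of_spanG {N : ℕ} {ι : Type} (g : ι → (Fin N →₀ ℕ)) (S : Set (MvPolynomial (Fin N) k))
    (hS : S = (fun s => monomial s (1 : k)) '' Set.range g) :
    (∀ β : Fin N →₀ ℕ, monomial β (1 : k) ∈ Ideal.span S ↔ ∃ x, g x ≤ β) ∧
      IsMonomial (Ideal.span S) := by
  subst hS
  have hsupp : ∀ β : Fin N →₀ ℕ, (monomial β (1 : k)).support = {β} := by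
    intro β
    classical
    rw [support_monomial, if_neg one_ne_zero]
  refine ⟨fun β => ?_, fun p hp β hβ => ?_⟩
  · rw [mem_ideal_span_monomial_image]
    constructor
    · intro h
      obtain ⟨s, ⟨x, rfl⟩, hle⟩ := h β (by rw [hsupp]; exact Finset.mem_singleton_self β)
      exact ⟨x, hle⟩
    · rintro ⟨x, hx⟩ xi hxi
      rw [hsupp, Finset.mem_singleton] at hxi
      subst hxi
      exact ⟨_, ⟨x, rfl⟩, hx⟩
  · rw [mem_ideal_span_monomial_image] at hp ⊢
    intro xi hxi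
    rw [hsupp, Finset.mem_singleton] at hxi
    subst hxi
    exact hp xi hβ

/-- vertices: pairs `(i, j)` standing for `x_i x_(b0 + j)` -/
abbrev Vp (c d : ℕ) : Type := Fin c × Fin d

/-- exponent vectors of the generators -/
def gP (n b0 : ℕ) {c d : ℕ} (x : Vp c d) : Fin (n + 1) →₀ ℕ :=
  eN n x.1.val + eN n (b0 + x.2.val)

def gPv (b0 i j t : ℕ) : ℤ := (if t = i then 1 else 0) + (if t = b0 + j then 1 else 0)

lemma gP_apply (n b0 : ℕ) (x : Vp c d) (t : Fin (n + 1)) :
    ((gP n b0 x t : ℕ) : ℤ) = gPv b0 x.1.val x.2.val t.val := by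
  show ((((eN n x.1.val + eN n (b0 + x.2.val) : Fin (n + 1) →₀ ℕ) t : ℕ)) : ℤ) = _
  rw [Finsupp.add_apply, eN_apply, eN_apply]
  unfold gPv
  push_cast
  rfl

/-- standardness of a vector indexed by naturals -/
def stdP (n c b0 : ℕ) (w : ℕ → ℤ) : Prop :=
  (∀ t, t ≤ n → 0 ≤ w t) ∧ ((∀ t, t < c → w t ≤ 0) ∨ (∀ t, b0 ≤ t → t ≤ n → w t ≤ 0))

lemma stdP_iff (hc : c ≤ b0) (hb : b0 + d = n + 1) (w : ℕ → ℤ) :
    StdZ (gP n b0 (c := c) (d := d)) (fun t : Fin (n + 1) => w t.val) ↔ stdP n c b0 w := by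
  constructor
  · rintro ⟨h0, hg⟩
    have h0' : ∀ t, t ≤ n → 0 ≤ w t := fun t ht => h0 ⟨t, by omega⟩
    refine ⟨h0', ?_⟩
    by_contra hcon
    push Not at hcon
    obtain ⟨⟨i, hi1, hi2⟩, ⟨j, hj1, hj2, hj3⟩⟩ := hcon
    have hjd : j - b0 < d := by omega
    apply hg ((⟨i, hi1⟩, ⟨j - b0, hjd⟩) : Vp c d)
    intro s
    rw [gP_apply]
    show gPv b0 i (j - b0) s.val ≤ w s.val
    unfold gPv
    have hs := h0 s
    by_cases e1 : s.val = i
    · rw [if_pos e1, if_neg (by omega), e1]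
      omega
    · by_cases e2 : s.val = b0 + (j - b0)
      · rw [if_neg e1, if_pos e2, e2, show b0 + (j - b0) = j by omega]
        omega
      · rw [if_neg e1, if_neg e2]
        exact hs
  · rintro ⟨h0, hAB⟩
    refine ⟨fun t => h0 t.val (by have := t.isLt; omega), ?_⟩
    rintro ⟨i, j⟩ hl
    have hi := i.isLt
    have hj := j.isLt
    have ei : gPv b0 i.val j.val i.val ≤ w i.val := by
      have := hl ⟨i.val, by omega⟩
      rw [gP_apply] at this
      exact this
    have ej : gPv b0 i.val j.val (b0 + j.val) ≤ w (b0 + j.val) := by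
      have := hl ⟨b0 + j.val, by omega⟩
      rw [gP_apply] at this
      exact this
    unfold gPv at ei ej
    rcases hAB with h | h
    · have := h i.val hi
      omega
    · have := h (b0 + j.val) (by omega) (by omega)
      omega

def uP (b0 : ℕ) {c d : ℕ} (a : ℕ → ℤ) (x : Vp c d) (t : ℕ) : ℤ :=
  gPv b0 x.1.val x.2.val t + a t

lemma uP_mk (a : ℕ → ℤ) (i : Fin c) (j : Fin d) (t : ℕ) :
    uP b0 a ((i, j) : Vp c d) t = gPv b0 i.val j.val t + a t := rfl

def ActP (n c b0 : ℕ) {d : ℕ} (a : ℕ → ℤ) (x : Vp c d) : Prop := stdP n c b0 (uP b0 a x)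

def EdgeP (n c b0 : ℕ) {d : ℕ} (a : ℕ → ℤ) (x y : Vp c d) : Prop :=
  stdP n c b0 (fun t => max (max (uP b0 a x t) (uP b0 a y t)) 0)

lemma act_iffP (hc : c ≤ b0) (hb : b0 + d = n + 1) (a : ℕ → ℤ) (x : Vp c d) :
    Act (gP n b0) (toA n a) x ↔ ActP n c b0 a x := by
  unfold Act ActP
  have e : uu (gP n b0) (toA n a) x = fun t : Fin (n + 1) => uP b0 a x t.val := by
    funext t
    unfold uu uP toA
    rw [gP_apply]
  rw [e]
  exact stdP_iff hc hb _

lemma edge_iffP (hc : c ≤ b0) (hb : b0 + d = n + 1) (a : ℕ → ℤ) (x y : Vp c d) :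
    Edge (gP n b0) (toA n a) x y ↔ EdgeP n c b0 a x y := by
  unfold Edge EdgeP
  have e : (fun t => max (max (uu (gP n b0) (toA n a) x t) (uu (gP n b0) (toA n a) y t)) 0) =
      fun t : Fin (n + 1) => (fun s : ℕ => max (max (uP b0 a x s) (uP b0 a y s)) 0) t.val := by
    funext t
    unfold uu uP toA
    rw [gP_apply, gP_apply]
  rw [e]
  exact stdP_iff hc hb (fun s : ℕ => max (max (uP b0 a x s) (uP b0 a y s)) 0)

section SolP
variable (hc : c ≤ b0) (hb : b0 + d = n + 1)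

include hc hb in
lemma sol_zeroP {a : ℕ → ℤ} {f : Vp c d → k} (hf : f ∈ Sol k (gP n b0) (toA n a)) {x : Vp c d}
    (hx : ¬ ActP n c b0 a x) : f x = 0 :=
  hf.1 x (fun h => hx ((act_iffP hc hb a x).1 h))

include hc hb in
lemma sol_edgeP {a : ℕ → ℤ} {f : Vp c d → k} (hf : f ∈ Sol k (gP n b0) (toA n a))
    {x y : Vp c d} (hE : EdgeP n c b0 a x y) : f x = f y :=
  hf.2 x y ((edge_iffP hc hb a x y).2 hE)

include hc hb in
lemma sol_eq_botP (a : ℕ → ℤ)
    (h : ∀ x : Vp c d, ActP n c b0 a x → ∃ y, EdgeP n c b0 a x y ∧ ¬ ActP n c b0 a y) :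
    Sol k (gP n b0 (c := c) (d := d)) (toA n a) = ⊥ := by
  refine sol_eq_bot (toA n a) (fun x hx => ?_)
  obtain ⟨y, hE, hy⟩ := h x ((act_iffP hc hb a x).1 hx)
  exact ⟨y, (edge_iffP hc hb a x y).2 hE, fun h' => hy ((act_iffP hc hb a y).1 h')⟩

include hc hb in
/-- one class -/
theorem finrank_oneP (a : ℕ → ℤ) (P0 : Vp c d → Prop) (r0 : Vp c d) (hr0 : P0 r0)
    (h1 : ∀ x, ¬ P0 x → ¬ ActP n c b0 a x)
    (h20 : ∀ x, P0 x → x = r0 ∨ EdgeP n c b0 a x r0)
    (ha0 : ∀ x, P0 x → ActP n c b0 a x)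
    (hb0 : ∀ x y, EdgeP n c b0 a x y → P0 x → P0 y) :
    Module.finrank k ↥(Sol k (gP n b0 (c := c) (d := d)) (toA n a)) = 1 := by
  classical
  have hsome : ∀ x, P0 x → (if P0 x then some () else none : Option Unit) = some () :=
    fun x h => if_pos h
  have hnone : ∀ x, ¬ P0 x → (if P0 x then some () else none : Option Unit) = none :=
    fun x h => if_neg h
  have hinv : ∀ x (t : Unit), (if P0 x then some () else none : Option Unit) = some t → P0 x := by
    intro x t hx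
    by_contra h
    rw [hnone x h] at hx
    exact absurd hx (by simp)
  have hinv' : ∀ x, (if P0 x then some () else none : Option Unit) = none → ¬ P0 x := by
    intro x hx h
    rw [hsome x h] at hx
    exact absurd hx (by simp)
  have key := finrank_sol (k := k) (g := gP n b0 (c := c) (d := d)) (toA n a) (κ := Unit)
    (fun _ => True) (fun x => if P0 x then some () else none) (fun _ => r0) ?_ ?_ ?_ ?_ ?_ ?_
  · rw [key]
    simp
  · intro t _
    exact hsome r0 hr0
  · intro _ _ _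
    trivial
  · intro x hx f hf
    exact sol_zeroP hc hb hf (h1 x (hinv' x hx))
  · intro x t hx f hf
    rcases h20 x (hinv x t hx) with e | e
    · rw [e]
    · exact sol_edgeP hc hb hf e
  · intro x t hx
    exact (act_iffP hc hb a x).2 (ha0 x (hinv x t hx))
  · intro x y t hE hx
    exact hsome y (hb0 x y ((edge_iffP hc hb a x y).1 hE) (hinv x t hx))

end SolP

macro "ev" : tactic =>
  `(tactic| ((try simp only [uP_mk, gPv, vE, Fin.val_mk, ↓reduceIte] at *); omega))

lemma not_stdP_neg {w : ℕ → ℤ} (t : ℕ) (ht : t ≤ n) (h : w t < 0) : ¬ stdP n c b0 w := by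
  intro hs
  have := hs.1 t ht
  omega

lemma not_stdP_AB {w : ℕ → ℤ} (i j : ℕ) (hi : i < c) (hj1 : b0 ≤ j) (hj2 : j ≤ n)
    (hwi : 1 ≤ w i) (hwj : 1 ≤ w j) : ¬ stdP n c b0 w := by
  rintro ⟨_, h | h⟩
  · have := h i hi
    omega
  · have := h j hj1 hj2
    omega

/-- classification of the multidegrees at a locally good vertex -/
theorem classifyP (hc2 : 2 ≤ c) (hd2 : 2 ≤ d) (hc : c ≤ b0) (hb : b0 + d = n + 1)
    (a : ℕ → ℤ) (hsum : ∑ t ∈ Finset.range (n + 1), a t = 0) (i : Fin c) (j : Fin d)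
    (hA : ActP n c b0 a ((i, j) : Vp c d))
    (hLG : ∀ y, EdgeP n c b0 a ((i, j) : Vp c d) y → ActP n c b0 a y) :
    (∃ l i0, i0 < c ∧ c ≤ l ∧ l ≤ n ∧ ∀ t, t ≤ n → a t = vE l i0 t) ∨
    (∃ l j0, b0 ≤ j0 ∧ j0 ≤ n ∧ l < b0 ∧ ∀ t, t ≤ n → a t = vE l j0 t) := by
  have hi := i.isLt
  have hj := j.isLt
  obtain ⟨h0, hAB⟩ := hA
  have hnn : ∀ t, t ≤ n → t ≠ i.val → t ≠ b0 + j.val → 0 ≤ a t := by
    intro t ht h1 h2
    have := h0 t ht
    ev
  have hai : -1 ≤ a i.val := by
    have := h0 i.val (by omega)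
    ev
  have haj : -1 ≤ a (b0 + j.val) := by
    have := h0 (b0 + j.val) (by omega)
    ev
  by_cases hboth : a i.val = -1 ∧ a (b0 + j.val) = -1
  · exfalso
    rcases hAB with h | h
    · obtain ⟨jj, hjj1, hjj2⟩ : ∃ jj, jj < d ∧ jj ≠ j.val := by
        by_cases h0' : j.val = 0
        · exact ⟨1, by omega, by omega⟩
        · exact ⟨0, by omega, by omega⟩
      have hE : EdgeP n c b0 a ((i, j) : Vp c d) (i, ⟨jj, hjj1⟩) := by
        refine ⟨fun t ht => le_max_right _ _, Or.inl (fun t ht => ?_)⟩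
        have e1 := h t ht
        have e2 : uP b0 a ((i, ⟨jj, hjj1⟩) : Vp c d) t ≤ 0 := by ev
        exact max_le (max_le e1 e2) le_rfl
      exact not_stdP_neg (b0 + j.val) (by omega) (by ev) (hLG _ hE)
    · obtain ⟨ii, hii1, hii2⟩ : ∃ ii, ii < c ∧ ii ≠ i.val := by
        by_cases h0' : i.val = 0
        · exact ⟨1, by omega, by omega⟩
        · exact ⟨0, by omega, by omega⟩
      have hE : EdgeP n c b0 a ((i, j) : Vp c d) (⟨ii, hii1⟩, j) := by
        refine ⟨fun t ht => le_max_right _ _, Or.inr (fun t ht1 ht2 => ?_)⟩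
        have e1 := h t ht1 ht2
        have e2 : uP b0 a ((⟨ii, hii1⟩, j) : Vp c d) t ≤ 0 := by ev
        exact max_le (max_le e1 e2) le_rfl
      exact not_stdP_neg i.val (by omega) (by ev) (hLG _ hE)
  · rcases hAB with h | h
    · left
      have hai' : a i.val = -1 := by
        have := h i.val hi
        ev
      have haj' : 0 ≤ a (b0 + j.val) := by omega
      have hb0 : ∀ t, t < n + 1 → 0 ≤ (fun t => a t + if t = i.val then 1 else 0) t := by
        intro t ht
        by_cases hti : t = i.val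
        · rw [hti]
          ev
        · by_cases htj : t = b0 + j.val
          · rw [htj]
            ev
          · have := hnn t (by omega) hti htj
            ev
      have hbs : ∑ t ∈ Finset.range (n + 1), (fun t => a t + if t = i.val then 1 else 0) t = 1 := by
        simp only []
        rw [Finset.sum_add_distrib, hsum, sum_ind, if_pos (by omega)]
        rfl
      obtain ⟨l, hl, hbl⟩ := single_of_sum_one _ (n + 1) hb0 hbs
      have hlc : c ≤ l := by
        by_contra hcon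
        have e := hbl l hl
        have e1 := h l (by omega)
        ev
      refine ⟨l, i.val, hi, hlc, by omega, fun t ht => ?_⟩
      have := hbl t (by omega)
      ev
    · right
      have haj' : a (b0 + j.val) = -1 := by
        have := h (b0 + j.val) (by omega) (by omega)
        ev
      have hai' : 0 ≤ a i.val := by omega
      have hb0 : ∀ t, t < n + 1 → 0 ≤ (fun t => a t + if t = b0 + j.val then 1 else 0) t := by
        intro t ht
        by_cases htj : t = b0 + j.val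
        · rw [htj]
          ev
        · by_cases hti : t = i.val
          · rw [hti]
            ev
          · have := hnn t (by omega) hti htj
            ev
      have hbs : ∑ t ∈ Finset.range (n + 1),
          (fun t => a t + if t = b0 + j.val then 1 else 0) t = 1 := by
        simp only []
        rw [Finset.sum_add_distrib, hsum, sum_ind, if_pos (by omega)]
        rfl
      obtain ⟨l, hl, hbl⟩ := single_of_sum_one _ (n + 1) hb0 hbs
      have hlb : l < b0 := by
        by_contra hcon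
        have e := hbl l hl
        have e1 := h l (by omega) (by omega)
        ev
      refine ⟨l, b0 + j.val, by omega, by omega, hlb, fun t ht => ?_⟩
      have := hbl t (by omega)
      ev

/-- multidegree `e_l - e_i`, `i` in the first block, `l` outside it -/
theorem val_PA (hd2 : 2 ≤ d) (hc : c ≤ b0) (hb : b0 + d = n + 1) (i0 l : ℕ) (hi0 : i0 < c)
    (hl1 : c ≤ l) (hl2 : l ≤ n) :
    Module.finrank k ↥(Sol k (gP n b0 (c := c) (d := d)) (toA n (vE l i0))) = 1 := by
  have hd0 : 0 < d := by omega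
  refine finrank_oneP (k := k) hc hb (vE l i0) (fun x => x.1.val = i0)
    ((⟨i0, hi0⟩, ⟨0, hd0⟩) : Vp c d) rfl ?_ ?_ ?_ ?_
  · rintro ⟨i, j⟩ hx
    have hx' : i.val ≠ i0 := hx
    have hi := i.isLt
    have hj := j.isLt
    exact not_stdP_neg i0 (by omega) (by ev)
  · rintro ⟨i, j⟩ hx
    have hx' : i.val = i0 := hx
    right
    have hj := j.isLt
    refine ⟨fun t ht => le_max_right _ _, Or.inl (fun t ht => ?_)⟩
    have e1 : uP b0 (vE l i0) ((i, j) : Vp c d) t ≤ 0 := by ev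
    have e2 : uP b0 (vE l i0) ((⟨i0, hi0⟩, ⟨0, hd0⟩) : Vp c d) t ≤ 0 := by ev
    exact max_le (max_le e1 e2) le_rfl
  · rintro ⟨i, j⟩ hx
    have hx' : i.val = i0 := hx
    have hj := j.isLt
    exact ⟨fun t ht => by ev, Or.inl (fun t ht => by ev)⟩
  · rintro ⟨i, j⟩ ⟨i', j'⟩ hE hx
    have hx' : i.val = i0 := hx
    by_contra hne
    have hne' : i'.val ≠ i0 := hne
    have hi' := i'.isLt
    have hj := j.isLt
    exact not_stdP_AB i'.val (b0 + j.val) hi' (by omega) (by omega) (by ev) (by ev) hE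

/-- multidegree `e_l - e_j`, `j` in the second block, `l` outside it -/
theorem val_PB (hc2 : 2 ≤ c) (hc : c ≤ b0) (hb : b0 + d = n + 1) (j0 l : ℕ) (hj1 : b0 ≤ j0)
    (hj2 : j0 ≤ n) (hl : l < b0) :
    Module.finrank k ↥(Sol k (gP n b0 (c := c) (d := d)) (toA n (vE l j0))) = 1 := by
  have hc0 : 0 < c := by omega
  have hj0 : j0 - b0 < d := by omega
  refine finrank_oneP (k := k) hc hb (vE l j0) (fun x => b0 + x.2.val = j0)
    ((⟨0, hc0⟩, ⟨j0 - b0, hj0⟩) : Vp c d) (by simp only [Fin.val_mk]; omega) ?_ ?_ ?_ ?_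
  · rintro ⟨i, j⟩ hx
    have hx' : b0 + j.val ≠ j0 := hx
    have hi := i.isLt
    have hj := j.isLt
    exact not_stdP_neg j0 (by omega) (by ev)
  · rintro ⟨i, j⟩ hx
    have hx' : b0 + j.val = j0 := hx
    right
    have hi := i.isLt
    refine ⟨fun t ht => le_max_right _ _, Or.inr (fun t ht1 ht2 => ?_)⟩
    have e1 : uP b0 (vE l j0) ((i, j) : Vp c d) t ≤ 0 := by ev
    have e2 : uP b0 (vE l j0) ((⟨0, hc0⟩, ⟨j0 - b0, hj0⟩) : Vp c d) t ≤ 0 := by ev
    exact max_le (max_le e1 e2) le_rfl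
  · rintro ⟨i, j⟩ hx
    have hx' : b0 + j.val = j0 := hx
    have hi := i.isLt
    exact ⟨fun t ht => by ev, Or.inr (fun t ht1 ht2 => by ev)⟩
  · rintro ⟨i, j⟩ ⟨i', j'⟩ hE hx
    have hx' : b0 + j.val = j0 := hx
    by_contra hne
    have hne' : b0 + j'.val ≠ j0 := hne
    have hi := i.isLt
    have hj' := j'.isLt
    exact not_stdP_AB i.val (b0 + j'.val) hi (by omega) (by omega) (by ev) (by ev) hE

/-! ### the monomial generators -/

lemma mono_P (x : Vp c d) (hi : x.1.val < n + 1) (hj : b0 + x.2.val < n + 1) :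
    monomial (gP n b0 x) (1 : k) = X ⟨x.1.val, hi⟩ * X ⟨b0 + x.2.val, hj⟩ := by
  show monomial (eN n x.1.val + eN n (b0 + x.2.val)) (1 : k) = _
  have ei : eN n x.1.val = Finsupp.single (⟨x.1.val, hi⟩ : Fin (n + 1)) 1 := by
    unfold eN
    rw [dif_pos hi]
  have ej : eN n (b0 + x.2.val) = Finsupp.single (⟨b0 + x.2.val, hj⟩ : Fin (n + 1)) 1 := by
    unfold eN
    rw [dif_pos hj]
  rw [ei, ej]
  show _ = monomial (Finsupp.single _ 1) (1 : k) * monomial (Finsupp.single _ 1) 1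
  rw [monomial_mul, one_mul]

lemma span_setP (hc : c ≤ b0) (hb : b0 + d = n + 1) :
    {f : MvPolynomial (Fin (n + 1)) k | ∃ i j : Fin (n + 1), i.val + 1 ≤ c ∧ n + 1 ≤ j.val + d ∧
        f = MvPolynomial.X i * MvPolynomial.X j} =
      (fun s => monomial s (1 : k)) '' Set.range (gP n b0 (c := c) (d := d)) := by
  ext f
  constructor
  · rintro ⟨i, j, hi, hj, rfl⟩
    have hjl := j.isLt
    have hic : i.val < c := by omega
    have hjd : j.val - b0 < d := by omega
    refine ⟨_, ⟨((⟨i.val, hic⟩, ⟨j.val - b0, hjd⟩) : Vp c d), rfl⟩, ?_⟩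
    show monomial (gP n b0 ((⟨i.val, hic⟩, ⟨j.val - b0, hjd⟩) : Vp c d)) (1 : k) = _
    rw [mono_P _ (by simp only [Fin.val_mk]; omega) (by simp only [Fin.val_mk]; omega)]
    have hj' : b0 + (j.val - b0) = j.val := by omega
    simp only [Fin.val_mk, hj', Fin.eta]
  · rintro ⟨s, ⟨⟨i, j⟩, rfl⟩, rfl⟩
    have hi := i.isLt
    have hj := j.isLt
    exact ⟨⟨i.val, by omega⟩, ⟨b0 + j.val, by omega⟩, by simp only [Fin.val_mk]; omega,
      by simp only [Fin.val_mk]; omega, mono_P ((i, j) : Vp c d) (by omega) (by omega)⟩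

/-! ### the families of multidegrees -/

def TA (n c : ℕ) : Finset (Fin (n + 1) → ℤ) :=
  (Finset.Icc c n ×ˢ Finset.range c).image (fun p => toA n (vE p.1 p.2))

def TB (n b0 : ℕ) : Finset (Fin (n + 1) → ℤ) :=
  (Finset.range b0 ×ˢ Finset.Icc b0 n).image (fun p => toA n (vE p.1 p.2))

def TP (n c b0 : ℕ) : Finset (Fin (n + 1) → ℤ) := TA n c ∪ TB n b0

lemma TA_injOn (hcn : c ≤ n) :
    Set.InjOn (fun p : ℕ × ℕ => toA n (vE p.1 p.2))
      ((Finset.Icc c n ×ˢ Finset.range c : Finset (ℕ × ℕ)) : Set (ℕ × ℕ)) := by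
  intro p hp p' hp' h
  rw [Finset.mem_coe, Finset.mem_product, Finset.mem_Icc, Finset.mem_range] at hp hp'
  have := vE_inj p.1 p.2 p'.1 p'.2 (by omega) (by omega) (by omega) (by omega) h
  exact Prod.ext this.1 this.2

lemma TB_injOn (hbn : b0 ≤ n + 1) :
    Set.InjOn (fun p : ℕ × ℕ => toA n (vE p.1 p.2))
      ((Finset.range b0 ×ˢ Finset.Icc b0 n : Finset (ℕ × ℕ)) : Set (ℕ × ℕ)) := by
  intro p hp p' hp' h
  rw [Finset.mem_coe, Finset.mem_product, Finset.mem_Icc, Finset.mem_range] at hp hp'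
  have := vE_inj p.1 p.2 p'.1 p'.2 (by omega) (by omega) (by omega) (by omega) h
  exact Prod.ext this.1 this.2

lemma disj_TA_TB (hc : c ≤ b0) (hbn : b0 ≤ n + 1) : Disjoint (TA n c) (TB n b0) := by
  rw [Finset.disjoint_left]
  intro α h1 h2
  unfold TA at h1
  unfold TB at h2
  obtain ⟨p, hp, rfl⟩ := Finset.mem_image.1 h1
  obtain ⟨p', hp', e⟩ := Finset.mem_image.1 h2
  rw [Finset.mem_product, Finset.mem_Icc, Finset.mem_range] at hp hp'
  have := vE_inj p'.1 p'.2 p.1 p.2 (by omega) (by omega) (by omega) (by omega) e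
  omega

lemma hTP (hc : c ≤ b0) (hb : b0 + d = n + 1) (α : Fin (n + 1) → ℤ) (hα : α ∈ TP n c b0) :
    ∑ t, α t = 0 := by
  unfold TP at hα
  rw [Finset.mem_union] at hα
  rcases hα with h | h
  · unfold TA at h
    obtain ⟨p, hp, rfl⟩ := Finset.mem_image.1 h
    rw [Finset.mem_product, Finset.mem_Icc, Finset.mem_range] at hp
    rw [sum_toA, sum_vE (n + 1) p.1 p.2 (by omega) (by omega)]
  · unfold TB at h
    obtain ⟨p, hp, rfl⟩ := Finset.mem_image.1 h
    rw [Finset.mem_product, Finset.mem_Icc, Finset.mem_range] at hp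
    rw [sum_toA, sum_vE (n + 1) p.1 p.2 (by omega) (by omega)]

lemma hvanP (hc2 : 2 ≤ c) (hd2 : 2 ≤ d) (hc : c ≤ b0) (hb : b0 + d = n + 1)
    (α : Fin (n + 1) → ℤ) (hs : ∑ t, α t = 0) (hα : α ∉ TP n c b0) :
    Sol k (gP n b0 (c := c) (d := d)) α = ⊥ := by
  rw [← toA_aExt α]
  refine sol_eq_botP hc hb (aExt n α) (fun x hx => ?_)
  by_contra hcon
  push Not at hcon
  have hsum : ∑ t ∈ Finset.range (n + 1), aExt n α t = 0 := by rw [sum_aExt, hs]
  apply hα
  obtain ⟨i, j⟩ := x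
  unfold TP
  rcases classifyP hc2 hd2 hc hb (aExt n α) hsum i j hx hcon with
    ⟨l, i0, h1, h2, h3, h⟩ | ⟨l, j0, h1, h2, h3, h⟩
  · have : α = toA n (vE l i0) := (toA_aExt α).symm.trans (toA_congr _ _ h)
    rw [this]
    refine Finset.mem_union_left _ ?_
    unfold TA
    exact Finset.mem_image.2 ⟨(l, i0), Finset.mem_product.2
      ⟨Finset.mem_Icc.2 ⟨h2, h3⟩, Finset.mem_range.2 h1⟩, rfl⟩
  · have : α = toA n (vE l j0) := (toA_aExt α).symm.trans (toA_congr _ _ h)
    rw [this]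
    refine Finset.mem_union_right _ ?_
    unfold TB
    exact Finset.mem_image.2 ⟨(l, j0), Finset.mem_product.2
      ⟨Finset.mem_range.2 h3, Finset.mem_Icc.2 ⟨h1, h2⟩⟩, rfl⟩

lemma sum_TA (hd2 : 2 ≤ d) (hc : c ≤ b0) (hb : b0 + d = n + 1) :
    ∑ α ∈ TA n c, Module.finrank k ↥(Sol k (gP n b0 (c := c) (d := d)) α) = (n + 1 - c) * c := by
  unfold TA
  rw [Finset.sum_image (TA_injOn (by omega)),
    Finset.sum_congr rfl (fun p hp => val_PA (k := k) (d := d) hd2 hc hb p.2 p.1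
      (Finset.mem_range.1 (Finset.mem_product.1 hp).2)
      (Finset.mem_Icc.1 (Finset.mem_product.1 hp).1).1
      (Finset.mem_Icc.1 (Finset.mem_product.1 hp).1).2),
    Finset.sum_const, smul_eq_mul, mul_one, Finset.card_product, Nat.card_Icc, Finset.card_range]

lemma sum_TB (hc2 : 2 ≤ c) (hc : c ≤ b0) (hb : b0 + d = n + 1) :
    ∑ α ∈ TB n b0, Module.finrank k ↥(Sol k (gP n b0 (c := c) (d := d)) α) =
      b0 * (n + 1 - b0) := by
  unfold TB
  rw [Finset.sum_image (TB_injOn (by omega)),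
    Finset.sum_congr rfl (fun p hp => val_PB (k := k) (d := d) hc2 hc hb p.2 p.1
      (Finset.mem_Icc.1 (Finset.mem_product.1 hp).2).1
      (Finset.mem_Icc.1 (Finset.mem_product.1 hp).2).2
      (Finset.mem_range.1 (Finset.mem_product.1 hp).1)),
    Finset.sum_const, smul_eq_mul, mul_one, Finset.card_product, Nat.card_Icc, Finset.card_range]

theorem main51 (k : Type u) [Field k] (n c d : ℕ) (hc : 2 ≤ c) (hcd : c ≤ d) (hn : c + d ≤ n) :
    Module.finrank k ↥(⨆ α : {α : Fin (n + 1) → ℤ // ∑ i, α i = 0},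
      tPiece (Ideal.span {f : MvPolynomial (Fin (n + 1)) k | ∃ i j : Fin (n + 1), i.val + 1 ≤ c ∧ n + 1 ≤ j.val + d ∧
        f = MvPolynomial.X i * MvPolynomial.X j}) α.1) = c * (n - c + 1) + d * (n - d + 1) := by
  classical
  obtain ⟨b0, hb⟩ : ∃ b0, b0 + d = n + 1 := ⟨n + 1 - d, by omega⟩
  have hcb : c ≤ b0 := by omega
  have hd2 : 2 ≤ d := by omega
  obtain ⟨hgen, hmono⟩ := hgen_of_spanG (k := k) (gP n b0 (c := c) (d := d)) _ (span_setP hcb hb)
  rw [finrank_deg0 hgen hmono (TP n c b0) (hTP hcb hb) (hvanP hc hd2 hcb hb)]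
  unfold TP
  rw [Finset.sum_union (disj_TA_TB hcb (by omega)), sum_TA hd2 hcb hb, sum_TB hc hcb hb]
  have e1 : n + 1 - c = n - c + 1 := by omega
  have e2 : n + 1 - b0 = d := by omega
  have e3 : b0 = n - d + 1 := by omega
  rw [e1, e2, e3]
  ring

end Groth.Agent.H4.MgPA
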