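import Mathlib
import Groth.Prelude.Def_W4c1hilbpnTgt
import Groth.Agent.H4.MgSol
import Groth.Agent.H4.MgTB
import Groth.Agent.H4.MgTC
import Groth.Agent.H4.MgTD
import Groth.Agent.H4.MgTE
import Groth.Agent.H4.MgTF
import Groth.Agent.H4.MgTG

set_option autoImplicit false
universe u
open W4c1hilbpn MvPolynomial
open Groth.Agent.H4.TgtCC
open Groth.Agent.H4.MgSol Groth.Agent.H4.MgTB Groth.Agent.H4.MgTC Groth.Agent.H4.MgTD
  Groth.Agent.H4.MgTE Groth.Agent.H4.MgTF Groth.Agent.H4.MgTG

noncomputable section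
namespace Groth.Agent.H4.MgTH

variable {k : Type u} [Field k] {n q : ℕ}

macro "ev" : tactic =>
  `(tactic| ((try simp only [uN_inl, uN_inr, gA, gB, vE, vOm, Fin.val_mk, ↓reduceIte] at *); omega))

macro "evq" : tactic =>
  `(tactic| ((try simp only [uN_inl, uN_inr, gA, gB, vE, vOm, Fin.val_mk, ↓reduceIte] at *); omega))

/-- `(q+1)(e_n - e_1)` -/
def vQ (n q : ℕ) (t : ℕ) : ℤ :=
  (if t = n then (q : ℤ) + 1 else 0) - (if t = 1 then (q : ℤ) + 1 else 0)

lemma sum_vQ (hn : 2 ≤ n) : ∑ t ∈ Finset.range (n + 1), vQ n q t = 0 := by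
  unfold vQ
  rw [Finset.sum_sub_distrib, sum_ind, sum_ind, if_pos (by omega), if_pos (by omega), sub_self]

/-- one block: multidegrees with `α_0 = 0`, `-(q+1) ≤ α_1 ≤ -2`, other entries nonnegative,
different from `(q+1)(e_n - e_1)` -/
theorem val_CB2' (hn : 3 ≤ n) (hq : 1 ≤ q) (a : ℕ → ℤ)
    (h0 : a 0 = 0) (h1l : -((q : ℤ) + 1) ≤ a 1) (h1u : a 1 ≤ -2)
    (hnn : ∀ t, 2 ≤ t → t ≤ n → 0 ≤ a t)
    (hex : ¬ (a 1 = -((q : ℤ) + 1) ∧ ∀ t, 2 ≤ t → t + 1 ≤ n → a t = 0)) :
    Module.finrank k ↥(Sol k (gg n q 1) (toA n a)) = 1 := by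
  have h01 : 0 < 1 := by omega
  refine finrank_sol1 (k := k) (q := q) (m := 1) (by omega) le_rfl (by omega) a
    (fun x => x = Sum.inr ⟨0, h01⟩) (Sum.inr ⟨0, h01⟩) rfl ?_ (fun x h => Or.inl h) ?_ ?_
  · intro x hx
    rcases x with i | j
    · exact not_std_neg 1 (by omega) (by ev)
    · exfalso
      apply hx
      have := j.isLt
      exact congrArg Sum.inr (Fin.ext (by simp only [Fin.val_mk]; omega))
  · rintro x rfl
    refine ⟨fun t ht => ?_, Or.inl (by ev), Or.inl (by ev)⟩
    by_cases ht1 : t ≤ 1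
    · rcases (show t = 0 ∨ t = 1 by omega) with rfl | rfl
      · ev
      · ev
    · have := hnn t (by omega) ht
      ev
  · rintro x y hE rfl
    rcases y with i | j
    · exfalso
      have hi := i.isLt
      by_cases hi0 : i.val = 0
      · exact not_std_A0 (by ev) hE
      · by_cases hi1 : i.val = 1
        · by_cases ha1 : a 1 = -((q : ℤ) + 1)
          · have : ¬ ∀ t, 2 ≤ t → t + 1 ≤ n → a t = 0 := fun h => hex ⟨ha1, h⟩
            push Not at this
            obtain ⟨t, ht1, ht2, ht3⟩ := this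
            have := hnn t ht1 (by omega)
            exact not_std_A t (by ev) (by omega) (by omega) (by ev) hE
          · exact not_std_A 1 (by ev) (by omega) (by omega) (by ev) hE
        · have := hnn i.val (by omega) (by omega)
          exact not_std_A i.val (by ev) (by omega) (by omega) (by ev) hE
    · have := j.isLt
      exact congrArg Sum.inr (Fin.ext (by simp only [Fin.val_mk]; omega))

/-- one block: the multidegree `(q+1)(e_n - e_1)` carries nothing -/
theorem sol_excl (hn : 3 ≤ n) (hq : 1 ≤ q) :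
    Sol k (gg n q 1) (toA n (vQ n q)) = ⊥ := by
  have h1n : 1 < n := by omega
  refine sol_eq_botN (by omega) le_rfl (by omega) (vQ n q) (fun x hx => ?_)
  rcases x with i | j
  · exfalso
    exact not_std_neg 1 (by omega)
      (by simp only [uN_inl, gA, vQ, Fin.val_mk, ↓reduceIte]; omega) hx
  · refine ⟨Sum.inl ⟨1, h1n⟩, ?_, ?_⟩
    · have hj := j.isLt
      refine ⟨fun t ht => le_max_right _ _, Or.inr ⟨?_, fun t h1 h2 => ?_⟩, Or.inl ?_⟩
      · simp only [uN_inl, uN_inr, gA, gB, vQ, Fin.val_mk, ↓reduceIte]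
        omega
      · simp only [uN_inl, uN_inr, gA, gB, vQ, Fin.val_mk, ↓reduceIte]
        omega
      · simp only [uN_inl, uN_inr, gA, gB, vQ, Fin.val_mk, ↓reduceIte]
        omega
    · exact not_std_neg 1 (by omega)
        (by simp only [uN_inl, gA, vQ, Fin.val_mk, ↓reduceIte]; omega)

def InT50 (n q : ℕ) (a : ℕ → ℤ) : Prop :=
  (∀ t, t ≤ n → a t = vOm n q 1 t) ∨
  (∃ l i, PE n 1 l i ∧ ∀ t, t ≤ n → a t = vE l i t) ∨
  (a 0 = 0 ∧ -((q : ℤ) + 1) ≤ a 1 ∧ a 1 ≤ 0 ∧ ∀ t, 2 ≤ t → t ≤ n → 0 ≤ a t)

theorem classifyA1 (hn : 3 ≤ n) (hq : 1 ≤ q) (hreg : 4 ≤ n ∨ 3 ≤ q)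
    (a : ℕ → ℤ) (hsum : ∑ t ∈ Finset.range (n + 1), a t = 0) (i : Fin n)
    (hA : ActN n q 1 a (Sum.inl i))
    (hLG : ∀ y, EdgeN n q 1 a (Sum.inl i) y → ActN n q 1 a y) : InT50 n q a := by
  have hi := i.isLt
  obtain ⟨h0, hA1, hB1⟩ := hA
  have h00 := h0 0 (by omega)
  by_cases hi0 : i.val = 0
  · by_cases ha0 : a 0 = -1
    · have hA2 : ∀ t, 1 ≤ t → t + 1 ≤ n → uN q a (Sum.inl i : Vx n 1) t ≤ 0 := by
        rcases hA1 with h | ⟨_, h⟩
        · exfalso
          ev
        · exact h
      right; left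
      refine ⟨n, 0, Or.inl ⟨rfl, by omega, le_rfl⟩, ?_⟩
      have hag : ∀ t, t < n + 1 → t ≠ n → a t = vE n 0 t := by
        intro t ht hne
        by_cases ht0 : t = 0
        · subst ht0
          ev
        · have h1 := hA2 t (by omega) (by omega)
          have h2 := h0 t (by omega)
          ev
      intro t ht
      exact eq_of_agree a (vE n 0) (n + 1) n (by omega)
        (by rw [hsum, sum_vE (n + 1) n 0 (by omega) (by omega)]) hag t (by omega)
    · exfalso
      have ha0' : a 0 = -2 := by
        rcases hA1 with h | ⟨h, _⟩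
        · ev
        · ev
      have hn1 : n - 1 < n := by omega
      have hE : EdgeN n q 1 a (Sum.inl i) (Sum.inl ⟨n - 1, hn1⟩) := by
        refine ⟨fun t ht => le_max_right _ _, Or.inl (by ev), ?_⟩
        rcases hB1 with h | ⟨h, h'⟩
        · exact Or.inl (by ev)
        · refine Or.inr ⟨by ev, fun t h1 h2 => ?_⟩
          omega
      exact not_std_neg 0 (by omega) (by ev) (hLG _ hE)
  · by_cases ha0 : a 0 = 0
    · have hA2 : ∀ t, 1 ≤ t → t + 1 ≤ n → uN q a (Sum.inl i : Vx n 1) t ≤ 0 := by
        rcases hA1 with h | ⟨_, h⟩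
        · exfalso
          ev
        · exact h
      have hval : ∀ t, 1 ≤ t → t + 1 ≤ n → a t = -(if t = i.val then 1 else 0) := by
        intro t h1 h2
        have e1 := hA2 t h1 h2
        have e2 := h0 t (by omega)
        ev
      have han : 0 ≤ a n := by
        have := h0 n le_rfl
        ev
      by_cases hi1 : i.val = 1
      · right; right
        have e1 := hval 1 le_rfl (by omega)
        refine ⟨ha0, by ev, by ev, ?_⟩
        intro t h1 h2
        by_cases htn : t = n
        · subst htn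
          exact han
        · have := hval t (by omega) (by omega)
          ev
      · right; left
        refine ⟨n, i.val, Or.inr (Or.inl ⟨rfl, by omega, by omega⟩), ?_⟩
        have hag : ∀ t, t < n + 1 → t ≠ n → a t = vE n i.val t := by
          intro t ht hne
          by_cases ht0 : t = 0
          · subst ht0
            ev
          · have := hval t (by omega) (by omega)
            ev
        intro t ht
        exact eq_of_agree a (vE n i.val) (n + 1) n (by omega)
          (by rw [hsum, sum_vE (n + 1) n i.val (by omega) (by omega)]) hag t (by omega)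
    · have ha0' : a 0 = -1 := by
        rcases hA1 with h | ⟨h, _⟩
        · ev
        · ev
      have hnn : ∀ t, 1 ≤ t → t ≤ n → t ≠ i.val → 0 ≤ a t := by
        intro t h1 h2 hne
        have := h0 t h2
        ev
      have hai : -1 ≤ a i.val := by
        have := h0 i.val (by omega)
        ev
      by_cases hai0 : 0 ≤ a i.val
      · right; left
        have hb0 : ∀ t, t < n + 1 → 0 ≤ (fun t => a t + if t = 0 then 1 else 0) t := by
          intro t ht
          by_cases ht0 : t = 0
          · subst ht0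
            ev
          · by_cases hti : t = i.val
            · rw [hti]
              ev
            · have := hnn t (by omega) (by omega) hti
              ev
        have hbs : ∑ t ∈ Finset.range (n + 1), (fun t => a t + if t = 0 then 1 else 0) t = 1 := by
          simp only []
          rw [Finset.sum_add_distrib, hsum, sum_ind, if_pos (by omega)]
          rfl
        obtain ⟨l, hl, hb⟩ := single_of_sum_one _ (n + 1) hb0 hbs
        have hl0 : l ≠ 0 := by
          intro e
          have := hb 0 (by omega)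
          ev
        refine ⟨l, 0, Or.inl ⟨rfl, by omega, by omega⟩, fun t ht => ?_⟩
        have := hb t (by omega)
        ev
      · exfalso
        have hai' : a i.val = -1 := by omega
        by_cases hex : ∃ jj, 2 ≤ jj ∧ jj < n ∧ jj ≠ i.val
        · obtain ⟨jj, hj1, hj2, hj3⟩ := hex
          have hE : EdgeN n q 1 a (Sum.inl i) (Sum.inl ⟨jj, hj2⟩) := by
            refine ⟨fun t ht => le_max_right _ _, Or.inl (by ev), ?_⟩
            rcases hB1 with h | ⟨h, h'⟩
            · exact Or.inl (by ev)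
            · refine Or.inr ⟨by ev, fun t h1 h2 => ?_⟩
              omega
          exact not_std_neg i.val (by omega) (by ev) (hLG _ hE)
        · push Not at hex
          have hi2 : i.val = 2 := (hex 2 le_rfl (by omega)).symm
          have hn3 : n = 3 := by
            by_contra hne
            have := hex 3 (by omega) (by omega)
            omega
          have hq3 : 3 ≤ q := by omega
          have hf0 : ∀ t ∈ Finset.range (n + 1),
              0 ≤ (fun t => a t + (if t = 0 then 1 else 0) + (if t = i.val then 1 else 0)) t := by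
            intro t ht
            have htn := Finset.mem_range.1 ht
            by_cases ht0 : t = 0
            · subst ht0
              ev
            · by_cases hti : t = i.val
              · rw [hti]
                ev
              · have := hnn t (by omega) (by omega) hti
                ev
          have hfs : ∑ t ∈ Finset.range (n + 1),
              (fun t => a t + (if t = 0 then 1 else 0) + (if t = i.val then 1 else 0)) t = 2 := by
            simp only []
            rw [Finset.sum_add_distrib, Finset.sum_add_distrib, hsum, sum_ind, sum_ind,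
              if_pos (by omega), if_pos (by omega)]
            rfl
          have ha1 : a 1 ≤ 2 := by
            have := Finset.single_le_sum hf0 (Finset.mem_range.2 (by omega : 1 < n + 1))
            rw [hfs] at this
            ev
          have h1n : 1 < n := by omega
          have hE : EdgeN n q 1 a (Sum.inl i) (Sum.inl ⟨1, h1n⟩) :=
            ⟨fun t ht => le_max_right _ _, Or.inl (by ev),
              Or.inr ⟨by ev, fun t h1 h2 => by omega⟩⟩
          exact not_std_neg i.val (by omega) (by ev) (hLG _ hE)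

theorem classifyB1 (hn : 3 ≤ n) (hq : 1 ≤ q)
    (a : ℕ → ℤ) (hsum : ∑ t ∈ Finset.range (n + 1), a t = 0) (j : Fin 1)
    (hA : ActN n q 1 a (Sum.inr j)) : InT50 n q a := by
  have hj := j.isLt
  obtain ⟨h0, hA1, hB1⟩ := hA
  have h00 := h0 0 (by omega)
  have h01 := h0 1 (by omega)
  by_cases ha0 : a 0 = 0
  · right; right
    refine ⟨ha0, by ev, ?_, fun t h1 h2 => ?_⟩
    · rcases hB1 with h | ⟨h, _⟩
      · ev
      · ev
    · have := h0 t h2
      ev
  · have ha0' : a 0 = 1 := by
      rcases hA1 with h | ⟨h, _⟩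
      · ev
      · ev
    have hA2 : ∀ t, 1 ≤ t → t + 1 ≤ n → uN q a (Sum.inr j : Vx n 1) t ≤ 0 := by
      rcases hA1 with h | ⟨_, h⟩
      · exfalso
        ev
      · exact h
    left
    have hag : ∀ t, t < n + 1 → t ≠ n → a t = vOm n q 1 t := by
      intro t ht hne
      by_cases ht0 : t = 0
      · subst ht0
        ev
      · have h1 := hA2 t (by omega) (by omega)
        have h2 := h0 t (by omega)
        ev
    intro t ht
    exact eq_of_agree a (vOm n q 1) (n + 1) n (by omega)
      (by rw [hsum, sum_vOm n q 1 (by omega) (by omega)]) hag t (by omega)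

/-! ### the assembly for the one-block ideal -/

lemma cb_tri (hn : 3 ≤ n) (Q : ℕ) {α : Fin (n + 1) → ℤ} (hα : CBc n Q α) :
    α = 0 ∨ (∃ l, 2 ≤ l ∧ l ≤ n ∧ α = toA n (vE l 1)) ∨ aExt n α 1 ≤ -2 := by
  obtain ⟨a0, a1, ann, asum⟩ := cbc_facts hn hα
  have hnn : ∀ t ∈ Finset.range (n + 1),
      0 ≤ (if t = 1 then 0 else aExt n α t) := by
    intro t ht
    have := Finset.mem_range.1 ht
    by_cases ht1 : t = 1
    · rw [if_pos ht1]
    · rw [if_neg ht1]
      by_cases ht0 : t = 0
      · rw [ht0, a0]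
      · exact ann t (by omega) (by omega)
  have hsplit : ∑ t ∈ Finset.range (n + 1), (if t = 1 then 0 else aExt n α t) +
      aExt n α 1 = 0 := by
    have e : ∀ t ∈ Finset.range (n + 1), aExt n α t =
        (if t = 1 then 0 else aExt n α t) + (if t = 1 then aExt n α 1 else 0) := by
      intro t _
      by_cases ht1 : t = 1
      · rw [if_pos ht1, if_pos ht1, ht1, zero_add]
      · rw [if_neg ht1, if_neg ht1, add_zero]
    rw [Finset.sum_congr rfl e, Finset.sum_add_distrib, sum_ind, if_pos (by omega)] at asum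
    exact asum
  have hsn := Finset.sum_nonneg hnn
  have a1u : aExt n α 1 ≤ 0 := by omega
  by_cases h2 : aExt n α 1 ≤ -2
  · exact Or.inr (Or.inr h2)
  · by_cases h1 : aExt n α 1 = -1
    · right; left
      have hb0 : ∀ t, t < n + 1 → 0 ≤ (fun t => aExt n α t + if t = 1 then 1 else 0) t := by
        intro t ht
        simp only []
        by_cases ht1 : t = 1
        · rw [ht1, h1]
          simp
        · rw [if_neg ht1, add_zero]
          by_cases ht0 : t = 0
          · rw [ht0, a0]
          · exact ann t (by omega) (by omega)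
      have hbs : ∑ t ∈ Finset.range (n + 1),
          (fun t => aExt n α t + if t = 1 then 1 else 0) t = 1 := by
        simp only []
        rw [Finset.sum_add_distrib, asum, sum_ind, if_pos (by omega)]
        rfl
      obtain ⟨l, hl', hb⟩ := single_of_sum_one _ (n + 1) hb0 hbs
      have hl0 : l ≠ 0 := by
        intro e
        have := hb 0 (by omega)
        omega
      have hl1 : l ≠ 1 := by
        intro e
        have := hb 1 (by omega)
        omega
      refine ⟨l, by omega, by omega, ?_⟩
      rw [← toA_aExt α]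
      apply toA_congr
      intro t ht
      have := hb t (by omega)
      unfold vE
      omega
    · left
      have h10 : aExt n α 1 = 0 := by omega
      have hz : ∑ t ∈ Finset.range (n + 1),
          (if t = 1 then 0 else aExt n α t) = 0 := by omega
      have hz' := (Finset.sum_eq_zero_iff_of_nonneg hnn).1 hz
      rw [← toA_aExt α]
      funext t
      show aExt n α t.val = 0
      by_cases ht1 : t.val = 1
      · rw [ht1, h10]
      · have := hz' t.val (Finset.mem_range.2 t.isLt)
        rw [if_neg ht1] at this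
        exact this

lemma fin_CB50 (hn : 3 ≤ n) (hq : 1 ≤ q) {α : Fin (n + 1) → ℤ} (hα : CBc n (q + 1) α)
    (h0 : α ≠ 0) (hl : ∀ l, 2 ≤ l → l ≤ n → α ≠ toA n (vE l 1)) (hQ : α ≠ toA n (vQ n q)) :
    Module.finrank k ↥(Sol k (gg n q 1) α) = 1 := by
  obtain ⟨a0, a1, ann, asum⟩ := cbc_facts hn hα
  push_cast at a1
  rcases cb_tri hn (q + 1) hα with h | ⟨l, h1, h2, h⟩ | h
  · exact absurd h h0
  · exact absurd h (hl l h1 h2)
  · have := val_CB2' (k := k) hn hq (aExt n α) a0 (by omega) h ann ?_
    · rw [toA_aExt] at this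
      exact this
    · rintro ⟨e1, e2⟩
      apply hQ
      rw [← toA_aExt α]
      apply toA_congr
      intro t ht
      refine eq_of_agree (aExt n α) (vQ n q) (n + 1) n (by omega)
        (by rw [asum, sum_vQ (by omega)]) (fun t ht hne => ?_) t (by omega)
      by_cases ht0 : t = 0
      · rw [ht0, a0]
        unfold vQ
        rw [if_neg (by omega), if_neg (by omega), sub_self]
      · by_cases ht1 : t = 1
        · rw [ht1, e1]
          unfold vQ
          rw [if_neg (by omega), if_pos rfl]
          omega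
        · rw [e2 t (by omega) (by omega)]
          unfold vQ
          rw [if_neg hne, if_neg ht1, sub_self]

lemma cbc_vQ (hn : 3 ≤ n) : CBc n (q + 1) (toA n (vQ n q)) := by
  refine ⟨?_, fun t => ?_, ?_⟩
  · show vQ n q (0 : Fin (n + 1)).val = 0
    rw [Fin.val_zero]
    unfold vQ
    rw [if_neg (by omega), if_neg (by omega), sub_self]
  · show 0 ≤ vQ n q t.val + _
    unfold vQ
    push_cast
    split_ifs <;> omega
  · rw [sum_toA, sum_vQ (by omega)]

lemma sum_FCB50 (hn : 3 ≤ n) (hq : 1 ≤ q) :
    ∑ α ∈ FCB n (q + 1), Module.finrank k ↥(Sol k (gg n q 1) α) + (n + 1) =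
      Nat.choose (n + (q + 1) - 1) (n - 1) + n := by
  classical
  have hinj : Set.InjOn (fun l => toA n (vE l 1)) (Finset.Icc 2 n : Set ℕ) := by
    intro l hl l' hl' h
    rw [Finset.coe_Icc, Set.mem_Icc] at hl hl'
    exact (vE_inj l 1 l' 1 hl.2 (by omega) (by omega) (by omega) h).1
  have h0img : (0 : Fin (n + 1) → ℤ) ∉ (Finset.Icc 2 n).image (fun l => toA n (vE l 1)) := by
    intro h
    obtain ⟨l, hl, e⟩ := Finset.mem_image.1 h
    rw [Finset.mem_Icc] at hl
    have := congrFun e ⟨l, by omega⟩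
    simp only [toA, vE, Fin.val_mk, Pi.zero_apply, ↓reduceIte] at this
    omega
  have hQimg : toA n (vQ n q) ∉ (Finset.Icc 2 n).image (fun l => toA n (vE l 1)) := by
    intro h
    obtain ⟨l, hl, e⟩ := Finset.mem_image.1 h
    rw [Finset.mem_Icc] at hl
    have := congrFun e ⟨1, by omega⟩
    simp only [toA, vE, vQ, Fin.val_mk, ↓reduceIte] at this
    omega
  have h0Q : (0 : Fin (n + 1) → ℤ) ∉
      insert (toA n (vQ n q)) ((Finset.Icc 2 n).image (fun l => toA n (vE l 1))) := by
    rw [Finset.mem_insert]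
    rintro (h | h)
    · have := congrFun h ⟨1, by omega⟩
      simp only [toA, vQ, Fin.val_mk, Pi.zero_apply, ↓reduceIte] at this
      omega
    · exact h0img h
  have hBsub : insert (0 : Fin (n + 1) → ℤ) (insert (toA n (vQ n q))
      ((Finset.Icc 2 n).image (fun l => toA n (vE l 1)))) ⊆ FCB n (q + 1) := by
    intro α hα
    rw [Finset.mem_insert, Finset.mem_insert] at hα
    rw [mem_FCB (by omega)]
    rcases hα with rfl | rfl | hα
    · exact cbc_zero (by omega)
    · exact cbc_vQ hn
    · obtain ⟨l, hl, rfl⟩ := Finset.mem_image.1 hα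
      rw [Finset.mem_Icc] at hl
      exact cbc_toA_vE hn (by omega) l hl.1 hl.2
  have hone : ∀ α ∈ FCB n (q + 1),
      α ∉ insert (0 : Fin (n + 1) → ℤ) (insert (toA n (vQ n q))
        ((Finset.Icc 2 n).image (fun l => toA n (vE l 1)))) →
      Module.finrank k ↥(Sol k (gg n q 1) α) = 1 := by
    intro α hα hαB
    rw [mem_FCB (by omega)] at hα
    refine fin_CB50 hn hq hα (fun e => hαB ?_) (fun l h1 h2 e => hαB ?_) (fun e => hαB ?_)
    · rw [e]
      exact Finset.mem_insert_self _ _
    · rw [e]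
      exact Finset.mem_insert_of_mem (Finset.mem_insert_of_mem
        (Finset.mem_image.2 ⟨l, Finset.mem_Icc.2 ⟨h1, h2⟩, rfl⟩))
    · rw [e]
      exact Finset.mem_insert_of_mem (Finset.mem_insert_self _ _)
  have hcount := sum_count (FCB n (q + 1)) _
    (fun α => Module.finrank k ↥(Sol k (gg n q 1) α)) hBsub hone
  have hBcard : (insert (0 : Fin (n + 1) → ℤ) (insert (toA n (vQ n q))
      ((Finset.Icc 2 n).image (fun l => toA n (vE l 1))))).card = n + 1 := by
    rw [Finset.card_insert_of_notMem h0Q, Finset.card_insert_of_notMem hQimg,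
      Finset.card_image_of_injOn hinj, Nat.card_Icc]
    omega
  have hz : Module.finrank k ↥(Sol k (gg n q 1) (0 : Fin (n + 1) → ℤ)) = 0 := by
    have e : (0 : Fin (n + 1) → ℤ) = toA n (fun _ => 0) := rfl
    rw [e, sol_a0 hn le_rfl (by omega) (fun _ => 0) (fun _ _ => rfl), finrank_bot]
  have hzQ : Module.finrank k ↥(Sol k (gg n q 1) (toA n (vQ n q))) = 0 := by
    rw [sol_excl hn hq, finrank_bot]
  have hBsum : ∑ α ∈ insert (0 : Fin (n + 1) → ℤ) (insert (toA n (vQ n q))
      ((Finset.Icc 2 n).image (fun l => toA n (vE l 1)))),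
      Module.finrank k ↥(Sol k (gg n q 1) α) = n := by
    rw [Finset.sum_insert h0Q, Finset.sum_insert hQimg, Finset.sum_image hinj, hz, hzQ, zero_add,
      zero_add,
      Finset.sum_congr rfl (fun l hl => val_CB1 (k := k) (q := q) (m := 1) hn hq le_rfl (by omega) l
        (Finset.mem_Icc.1 hl).1 (Finset.mem_Icc.1 hl).2)]
    have e : ∀ l ∈ Finset.Icc 2 n, ((if 2 ≤ 1 then 1 else 0) + (if 1 < l then 1 else 0) +
        (if l = n then 1 else 0)) = 1 + if l = n then 1 else 0 := by
      intro l hl
      rw [Finset.mem_Icc] at hl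
      rw [if_neg (by omega), if_pos (by omega)]
    rw [Finset.sum_congr rfl e, sum_one_ind 2 n (by omega)]
    omega
  rw [hBcard, card_FCB (by omega), hBsum] at hcount
  exact hcount

lemma sum_FE1 (hn : 3 ≤ n) (hq : 1 ≤ q) :
    ∑ α ∈ FE n 1, Module.finrank k ↥(Sol k (gg n q 1) α) = (n + 1) + (n - 2) := by
  classical
  unfold FE
  rw [Finset.sum_image (FE_injOn (by omega))]
  have d1 : Disjoint (P1 n) (P2 n 1) := by
    rw [Finset.disjoint_left]
    intro p h1 h2
    unfold P1 at h1
    unfold P2 at h2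
    simp only [Finset.mem_product, Finset.mem_Icc, Finset.mem_singleton] at h1 h2
    omega
  have e1 : ∑ p ∈ P1 n, Module.finrank k ↥(Sol k (gg n q 1) (toA n (vE p.1 p.2))) = n + 1 := by
    unfold P1
    rw [Finset.sum_product]
    simp only [Finset.sum_singleton]
    rw [Finset.sum_congr rfl (fun l hl => val_c (k := k) (m := 1) (by omega) hq le_rfl (by omega) l
      (Finset.mem_Icc.1 hl).1 (Finset.mem_Icc.1 hl).2), sum_one_ind 1 n (by omega)]
    omega
  have e2 : ∑ p ∈ P2 n 1, Module.finrank k ↥(Sol k (gg n q 1) (toA n (vE p.1 p.2))) =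
      n - 2 := by
    unfold P2
    rw [Finset.sum_product]
    simp only [Finset.sum_singleton]
    rw [Finset.sum_congr rfl (fun i hi => val_bA (k := k) (m := 1) (by omega) hq le_rfl (by omega) i
      (Finset.mem_Icc.1 hi).1 (by have := (Finset.mem_Icc.1 hi).2; omega)),
      Finset.sum_const, smul_eq_mul, mul_one, Nat.card_Icc]
    omega
  have e3 : P3 n 1 = ∅ := by
    unfold P3
    rw [Finset.Icc_eq_empty (by omega : ¬ 2 ≤ 1), Finset.product_empty]
  unfold PEs
  rw [e3, Finset.union_empty, Finset.sum_union d1, e1, e2]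

/-- multidegrees for the one-block ideal -/
def T50 (n q : ℕ) : Finset (Fin (n + 1) → ℤ) := Fom n q 1 ∪ FE n 1 ∪ FCB n (q + 1)

lemma disj_omE_CB50 (hn : 3 ≤ n) : Disjoint (Fom n q 1 ∪ FE n 1) (FCB n (q + 1)) := by
  rw [Finset.disjoint_left]
  intro α h1 h2
  rw [mem_FCB (by omega)] at h2
  rw [Finset.mem_union] at h1
  rcases h1 with h1 | h1
  · unfold Fom at h1
    obtain ⟨j, hj, rfl⟩ := Finset.mem_image.1 h1
    rw [Finset.mem_Icc] at hj
    have := h2.1
    simp only [toA, vOm, Fin.val_zero, ↓reduceIte] at this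
    omega
  · unfold FE at h1
    obtain ⟨p, hp, rfl⟩ := Finset.mem_image.1 h1
    have hp' := (mem_PEs (by omega) p).1 hp
    have hp'' := PE_facts (by omega) hp'
    have h20 := h2.1
    have h2i := h2.2.1 ⟨p.2, by omega⟩
    simp only [toA, vE, Fin.val_zero, Fin.val_mk, ↓reduceIte] at h20 h2i
    unfold PE at hp'
    omega

lemma hT50 (hn : 3 ≤ n) (α : Fin (n + 1) → ℤ) (hα : α ∈ T50 n q) : ∑ t, α t = 0 := by
  unfold T50 at hα
  rw [Finset.mem_union, Finset.mem_union] at hα
  rcases hα with (h | h) | h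
  · unfold Fom at h
    obtain ⟨j, hj, rfl⟩ := Finset.mem_image.1 h
    rw [Finset.mem_Icc] at hj
    rw [sum_toA, sum_vOm n q j (by omega) (by omega)]
  · unfold FE at h
    obtain ⟨p, hp, rfl⟩ := Finset.mem_image.1 h
    have hp' := PE_facts (by omega) ((mem_PEs (by omega) p).1 hp)
    rw [sum_toA, sum_vE (n + 1) p.1 p.2 (by omega) (by omega)]
  · exact ((mem_FCB (by omega) α).1 h).2.2

lemma mem_T50_of_InT50 (hn : 3 ≤ n) (α : Fin (n + 1) → ℤ) (hs : ∑ t, α t = 0)
    (h : InT50 n q (aExt n α)) : α ∈ T50 n q := by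
  unfold T50
  rw [Finset.mem_union, Finset.mem_union]
  rcases h with hj | ⟨l, i, hP, hli⟩ | ⟨h0, h1l, h1u, hnn⟩
  · left; left
    unfold Fom
    refine Finset.mem_image.2 ⟨1, Finset.mem_Icc.2 ⟨le_rfl, le_rfl⟩, ?_⟩
    rw [← toA_aExt α]
    exact (toA_congr _ _ hj).symm
  · left; right
    unfold FE
    refine Finset.mem_image.2 ⟨(l, i), (mem_PEs (by omega) (l, i)).2 hP, ?_⟩
    rw [← toA_aExt α]
    exact (toA_congr _ _ hli).symm
  · right
    rw [mem_FCB (by omega)]
    refine ⟨?_, fun t => ?_, hs⟩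
    · have := aExt_apply α (0 : Fin (n + 1))
      rw [Fin.val_zero] at this
      rw [← this, h0]
    · have ht := aExt_apply α t
      have htl := t.isLt
      by_cases ht1 : t.val = 1
      · rw [if_pos ht1, ← ht, ht1]
        push_cast
        omega
      · rw [if_neg ht1, ← ht, add_zero]
        by_cases ht0 : t.val = 0
        · rw [ht0, h0]
        · exact hnn t.val (by omega) (by omega)

lemma hvan50 (hn : 3 ≤ n) (hq : 1 ≤ q) (hreg : 4 ≤ n ∨ 3 ≤ q) (α : Fin (n + 1) → ℤ)
    (hs : ∑ t, α t = 0) (hα : α ∉ T50 n q) : Sol k (gg n q 1) α = ⊥ := by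
  rw [← toA_aExt α]
  refine sol_eq_botN (by omega) le_rfl (by omega) (aExt n α) (fun x hx => ?_)
  by_contra hcon
  push Not at hcon
  have hin : InT50 n q (aExt n α) := by
    rcases x with i | j
    · exact classifyA1 hn hq hreg (aExt n α) (by rw [sum_aExt, hs]) i hx hcon
    · exact classifyB1 hn hq (aExt n α) (by rw [sum_aExt, hs]) j hx
  exact hα (mem_T50_of_InT50 hn α hs hin)

lemma span_set50 (hn : 1 ≤ n) :
    ({f : MvPolynomial (Fin (n + 1)) k | ∃ i : Fin (n + 1), i.val + 1 ≤ n ∧
        f = MvPolynomial.X 0 * MvPolynomial.X i} ∪ {MvPolynomial.X 1 ^ (q + 1)}) =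
      (fun s => monomial s (1 : k)) '' Set.range (gg n q 1) := by
  have h1 : (⟨0 + 1, by omega⟩ : Fin (n + 1)) = 1 :=
    Fin.ext (by rw [Fin.val_one', Nat.mod_eq_of_lt (by omega)])
  have hB : ∀ j : Fin 1, monomial (gg n q 1 (Sum.inr j)) (1 : k) = X 1 ^ (q + 1) := by
    intro j
    have hj : j.val = 0 := by have := j.isLt; omega
    rw [mono_B hn j (by omega), pow_succ]
    congr 2
    apply Fin.ext
    rw [← h1]
    simp only [Fin.val_mk]
    omega
  ext f
  constructor
  · rintro (⟨i, hi, rfl⟩ | hf)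
    · refine ⟨_, ⟨Sum.inl ⟨i.val, by omega⟩, rfl⟩, ?_⟩
      show monomial (gg n q 1 (Sum.inl ⟨i.val, by omega⟩)) (1 : k) = _
      rw [mono_A _ (by simp only [Fin.val_mk]; omega)]
    · rw [Set.mem_singleton_iff] at hf
      rw [hf]
      exact ⟨_, ⟨Sum.inr ⟨0, by omega⟩, rfl⟩, hB _⟩
  · rintro ⟨s, ⟨x, rfl⟩, rfl⟩
    rcases x with i | j
    · left
      have hi := i.isLt
      exact ⟨⟨i.val, by omega⟩, by simp only [Fin.val_mk]; omega, mono_A i (by omega)⟩
    · right
      rw [Set.mem_singleton_iff]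
      exact hB j

theorem main50 (k : Type u) [Field k] (n q : ℕ)
    (hcase : (n = 3 ∧ 4 ≤ q) ∨ (4 ≤ n ∧ 2 ≤ q)) :
    Module.finrank k ↥(⨆ α : {α : Fin (n + 1) → ℤ // ∑ i, α i = 0},
      tPiece (Ideal.span ({f : MvPolynomial (Fin (n + 1)) k | ∃ i : Fin (n + 1), i.val + 1 ≤ n ∧ f = MvPolynomial.X 0 * MvPolynomial.X i} ∪ {MvPolynomial.X 1 ^ q})) α.1) =
      2 * n - 1 + Nat.choose (n + q - 1) (n - 1) := by
  classical
  obtain ⟨q', rfl⟩ : ∃ q', q = q' + 1 := ⟨q - 1, by omega⟩
  have hn : 3 ≤ n := by omega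
  have hq : 1 ≤ q' := by omega
  have hreg : 4 ≤ n ∨ 3 ≤ q' := by omega
  obtain ⟨hgen, hmono⟩ := hgen_of_span (k := k) n q' 1 _ (span_set50 (by omega))
  rw [finrank_deg0 hgen hmono (T50 n q') (hT50 hn) (hvan50 hn hq hreg)]
  unfold T50
  rw [Finset.sum_union (disj_omE_CB50 hn), Finset.sum_union (disj_om_E (by omega)),
    sum_Fom hn hq le_rfl (by omega), sum_FE1 hn hq]
  have h3 := sum_FCB50 (k := k) (q := q') hn hq
  omega

end Groth.Agent.H4.MgTH
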