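import Mathlib
import Groth.Prelude.Def_W4c1hilbpnTgt
import Groth.Agent.H4.MgSol
import Groth.Agent.H4.MgTB
import Groth.Agent.H4.MgTC
import Groth.Agent.H4.MgTD
import Groth.Agent.H4.MgTE
import Groth.Agent.H4.MgTF
import Groth.Agent.H4.MgTG

set_option autoImplicit false
universe u
open W4c1hilbpn MvPolynomial
open Groth.Agent.H4.TgtCC
open Groth.Agent.H4.MgSol Groth.Agent.H4.MgTB Groth.Agent.H4.MgTC Groth.Agent.H4.MgTD
  Groth.Agent.H4.MgTE Groth.Agent.H4.MgTF Groth.Agent.H4.MgTG

noncomputable section
namespace Groth.Agent.H4.MgTI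

variable {k : Type u} [Field k] {n q m : ℕ}

/-- `e_1 + e_n - e_0 - e_i` -/
def vX (n i : ℕ) (t : ℕ) : ℤ :=
  (if t = 1 then 1 else 0) + (if t = n then 1 else 0) - (if t = 0 then 1 else 0) -
    (if t = i then 1 else 0)

macro "ev" : tactic =>
  `(tactic| ((try simp only [uN_inl, uN_inr, gA, gB, vE, vOm, vX, Fin.val_mk, ↓reduceIte] at *); omega))

lemma sum_vX (hn : 2 ≤ n) (i : ℕ) (hi : i ≤ n) :
    ∑ t ∈ Finset.range (n + 1), vX n i t = 0 := by
  unfold vX
  rw [Finset.sum_sub_distrib, Finset.sum_sub_distrib, Finset.sum_add_distrib, sum_ind, sum_ind,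
    sum_ind, sum_ind, if_pos (by omega), if_pos (by omega), if_pos (by omega), if_pos (by omega)]
  omega

/-- the part of the classification at a vertex `x_0 x_i` that produces explicit multidegrees -/
theorem classifyA_core (hn : 3 ≤ n) (hq : 1 ≤ q) (hm1 : 1 ≤ m) (hm : m + 1 ≤ n)
    (a : ℕ → ℤ) (hsum : ∑ t ∈ Finset.range (n + 1), a t = 0) (i : Fin n)
    (hA : ActN n q m a (Sum.inl i)) :
    InT n q m a ∨ (i.val = 0 ∧ a 0 = -2) ∨ (i.val ≠ 0 ∧ a 0 = -1 ∧ a i.val = -1) := by
  have hi := i.isLt
  obtain ⟨h0, hA1, hB1⟩ := hA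
  have h00 := h0 0 (by omega)
  by_cases hi0 : i.val = 0
  · by_cases ha0 : a 0 = -1
    · have hA2 : ∀ t, 1 ≤ t → t + 1 ≤ n → uN q a (Sum.inl i : Vx n m) t ≤ 0 := by
        rcases hA1 with h | ⟨_, h⟩
        · exfalso
          ev
        · exact h
      left; right; left
      refine ⟨n, 0, Or.inl ⟨rfl, by omega, le_rfl⟩, ?_⟩
      have hag : ∀ t, t < n + 1 → t ≠ n → a t = vE n 0 t := by
        intro t ht hne
        by_cases ht0 : t = 0
        · subst ht0
          ev
        · have h1 := hA2 t (by omega) (by omega)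
          have h2 := h0 t (by omega)
          ev
      intro t ht
      exact eq_of_agree a (vE n 0) (n + 1) n (by omega)
        (by rw [hsum, sum_vE (n + 1) n 0 (by omega) (by omega)]) hag t (by omega)
    · right; left
      refine ⟨hi0, ?_⟩
      rcases hA1 with h | ⟨h, _⟩
      · ev
      · ev
  · by_cases ha0 : a 0 = 0
    · have hA2 : ∀ t, 1 ≤ t → t + 1 ≤ n → uN q a (Sum.inl i : Vx n m) t ≤ 0 := by
        rcases hA1 with h | ⟨_, h⟩
        · exfalso
          ev
        · exact h
      have hval : ∀ t, 1 ≤ t → t + 1 ≤ n → a t = -(if t = i.val then 1 else 0) := by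
        intro t h1 h2
        have e1 := hA2 t h1 h2
        have e2 := h0 t (by omega)
        ev
      have han : 0 ≤ a n := by
        have := h0 n le_rfl
        ev
      by_cases hi1 : i.val = 1
      · left; right; right
        have e1 := hval 1 le_rfl (by omega)
        refine ⟨ha0, by ev, by ev, ?_⟩
        intro t h1 h2
        by_cases htn : t = n
        · subst htn
          exact han
        · have := hval t (by omega) (by omega)
          ev
      · left; right; left
        refine ⟨n, i.val, ?_, ?_⟩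
        · by_cases him : i.val ≤ m
          · exact Or.inr (Or.inr ⟨by omega, him, by omega, le_rfl⟩)
          · exact Or.inr (Or.inl ⟨rfl, by omega, by omega⟩)
        · have hag : ∀ t, t < n + 1 → t ≠ n → a t = vE n i.val t := by
            intro t ht hne
            by_cases ht0 : t = 0
            · subst ht0
              ev
            · have := hval t (by omega) (by omega)
              ev
          intro t ht
          exact eq_of_agree a (vE n i.val) (n + 1) n (by omega)
            (by rw [hsum, sum_vE (n + 1) n i.val (by omega) (by omega)]) hag t (by omega)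
    · have ha0' : a 0 = -1 := by
        rcases hA1 with h | ⟨h, _⟩
        · ev
        · ev
      have hnn : ∀ t, 1 ≤ t → t ≤ n → t ≠ i.val → 0 ≤ a t := by
        intro t h1 h2 hne
        have := h0 t h2
        ev
      have hai : -1 ≤ a i.val := by
        have := h0 i.val (by omega)
        ev
      by_cases hai0 : 0 ≤ a i.val
      · left; right; left
        have hb0 : ∀ t, t < n + 1 → 0 ≤ (fun t => a t + if t = 0 then 1 else 0) t := by
          intro t ht
          by_cases ht0 : t = 0
          · subst ht0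
            ev
          · by_cases hti : t = i.val
            · rw [hti]
              ev
            · have := hnn t (by omega) (by omega) hti
              ev
        have hbs : ∑ t ∈ Finset.range (n + 1), (fun t => a t + if t = 0 then 1 else 0) t = 1 := by
          simp only []
          rw [Finset.sum_add_distrib, hsum, sum_ind, if_pos (by omega)]
          rfl
        obtain ⟨l, hl, hb⟩ := single_of_sum_one _ (n + 1) hb0 hbs
        have hl0 : l ≠ 0 := by
          intro e
          have := hb 0 (by omega)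
          ev
        refine ⟨l, 0, Or.inl ⟨rfl, by omega, by omega⟩, fun t ht => ?_⟩
        have := hb t (by omega)
        ev
      · right; right
        exact ⟨hi0, ha0', by omega⟩

/-- with `q = 1`: a locally good vertex `x_0 x_i` with `α_0 = α_i = -1` forces
`α = e_1 + e_n - e_0 - e_i`, when all other indices below `n` are at most `m` -/
theorem derive_X (hn : 3 ≤ n) (hm2 : 2 ≤ m) (hm : m + 1 ≤ n)
    (a : ℕ → ℤ) (hsum : ∑ t ∈ Finset.range (n + 1), a t = 0) (i : Fin n)
    (hcov : ∀ t, 1 ≤ t → t + 1 ≤ n → t ≠ i.val → t ≤ m)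
    (hA : ActN n 1 m a (Sum.inl i))
    (hLG : ∀ y, EdgeN n 1 m a (Sum.inl i) y → ActN n 1 m a y)
    (hi0 : i.val ≠ 0) (ha0 : a 0 = -1) (hai : a i.val = -1) :
    2 ≤ i.val ∧ ∀ t, t ≤ n → a t = vX n i.val t := by
  have hi := i.isLt
  obtain ⟨h0, hA1, hB1⟩ := hA
  have hnn : ∀ t, 1 ≤ t → t ≤ n → t ≠ i.val → 0 ≤ a t := by
    intro t h1 h2 hne
    have := h0 t h2
    ev
  -- step 1
  have ha1 : 1 ≤ a 1 := by
    by_contra hcon
    by_cases hcase : i.val = 2 ∧ n = 3
    · have h1n : 1 < n := by omega
      have ha10 : a 1 = 0 := by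
        have := hnn 1 le_rfl (by omega) (by omega)
        omega
      have hE : EdgeN n 1 m a (Sum.inl i) (Sum.inl ⟨1, h1n⟩) := by
        refine ⟨fun t ht => le_max_right _ _, Or.inl (by ev), Or.inr ⟨by ev, fun t h1 h2 => ?_⟩⟩
        have ht : t = i.val := by omega
        subst ht
        ev
      exact not_std_neg i.val (by omega) (by ev) (hLG _ hE)
    · obtain ⟨jj, hj1, hj2, hj3⟩ : ∃ jj, 2 ≤ jj ∧ jj < n ∧ jj ≠ i.val := by
        by_cases h2 : i.val = 2
        · exact ⟨3, by omega, by omega, by omega⟩
        · exact ⟨2, by omega, by omega, by omega⟩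
      have hE : EdgeN n 1 m a (Sum.inl i) (Sum.inl ⟨jj, hj2⟩) := by
        have hai' := hai
        have e1 : uN 1 a (Sum.inl i : Vx n m) 1 ≤ 0 := by
          by_cases hi1 : i.val = 1
          · rw [hi1] at hai'
            ev
          · ev
        have e2 : uN 1 a (Sum.inl (⟨jj, hj2⟩ : Fin n) : Vx n m) 1 ≤ 0 := by ev
        refine ⟨fun t ht => le_max_right _ _, Or.inl (by ev), Or.inl ?_⟩
        exact le_trans (max_le (max_le e1 e2) le_rfl) (by norm_num)
      exact not_std_neg i.val (by omega) (by ev) (hLG _ hE)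
  have hi1 : i.val ≠ 1 := by
    intro e
    rw [e] at hai
    omega
  -- step 2
  have hB2 : ∀ t, 2 ≤ t → t ≤ m → uN 1 a (Sum.inl i : Vx n m) t ≤ 0 := by
    rcases hB1 with h | ⟨_, h⟩
    · exfalso
      ev
    · exact h
  have ha11 : a 1 = 1 := by
    rcases hB1 with h | ⟨h, _⟩
    · ev
    · ev
  refine ⟨by omega, ?_⟩
  have hag : ∀ t, t < n + 1 → t ≠ n → a t = vX n i.val t := by
    intro t ht hne
    by_cases ht0 : t = 0
    · subst ht0
      ev
    · by_cases ht1 : t = 1
      · subst ht1
        ev
      · by_cases hti : t = i.val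
        · rw [hti]
          ev
        · have h1 := hB2 t (by omega) (hcov t (by omega) (by omega) hti)
          have h2 := hnn t (by omega) (by omega) hti
          ev
  intro t ht
  exact eq_of_agree a (vX n i.val) (n + 1) n (by omega)
    (by rw [hsum, sum_vX (by omega) i.val (by omega)]) hag t (by omega)

/-- with `q = 1`: the multidegree `e_1 + e_n - e_0 - e_i` -/
theorem val_X (hn : 3 ≤ n) (hm2 : 2 ≤ m) (hm : m + 1 ≤ n) (i0 : ℕ) (hi1 : 2 ≤ i0)
    (hi2 : i0 + 1 ≤ n) (hcov : ∀ t, 1 ≤ t → t + 1 ≤ n → t ≠ i0 → t ≤ m) :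
    Module.finrank k ↥(Sol k (gg n 1 m) (toA n (vX n i0))) = 1 := by
  have hi0 : i0 < n := by omega
  refine finrank_sol1 (k := k) (q := 1) (by omega) (by omega) hm (vX n i0)
    (fun x => x = Sum.inl ⟨i0, hi0⟩) (Sum.inl ⟨i0, hi0⟩) rfl ?_ (fun x h => Or.inl h) ?_ ?_
  · intro x hx
    rcases x with i | j
    · have hi : i.val ≠ i0 := fun e => hx (congrArg Sum.inl (Fin.ext e))
      exact not_std_neg i0 (by omega) (by ev)
    · exact not_std_neg 0 (by omega) (by ev)
  · rintro x rfl
    exact ⟨fun t ht => by ev, Or.inl (by ev), Or.inr ⟨by ev, fun t h1 h2 => by ev⟩⟩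
  · rintro x y hE rfl
    rcases y with i | j
    · by_cases hi : i.val = i0
      · have : i = ⟨i0, hi0⟩ := Fin.ext hi
        rw [this]
      · exfalso
        have hil := i.isLt
        by_cases hi' : i.val = 0
        · exact not_std_A 1 (by ev) (by omega) (by omega) (by ev) hE
        · by_cases hi1' : i.val = 1
          · exact not_std_B1 (by ev) hE
          · have := hcov i.val (by omega) (by omega) hi
            exact not_std_B i.val (by ev) (by omega) (by omega) (by ev) hE
    · exfalso
      exact not_std_B1 (by ev) hE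

end Groth.Agent.H4.MgTI
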