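import Mathlib
import Groth.Prelude.Def_W4c1hilbpnTgt
import Groth.Agent.H4.MgSol
import Groth.Agent.H4.MgTB
import Groth.Agent.H4.MgTC
import Groth.Agent.H4.MgTD
import Groth.Agent.H4.MgTE
import Groth.Agent.H4.MgTF
import Groth.Agent.H4.MgTG
import Groth.Agent.H4.MgTI

set_option autoImplicit false
universe u
open W4c1hilbpn MvPolynomial
open Groth.Agent.H4.TgtCC
open Groth.Agent.H4.MgSol Groth.Agent.H4.MgTB Groth.Agent.H4.MgTC Groth.Agent.H4.MgTD
  Groth.Agent.H4.MgTE Groth.Agent.H4.MgTF Groth.Agent.H4.MgTG Groth.Agent.H4.MgTI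

noncomputable section
namespace Groth.Agent.H4.MgTJ

variable {k : Type u} [Field k] {n q m : ℕ}

macro "ev" : tactic =>
  `(tactic| ((try simp only [uN_inl, uN_inr, gA, gB, vE, vOm, vX, Fin.val_mk, ↓reduceIte] at *); omega))

/-- classification at a vertex `x_0 x_i` for `q = 1`, `m = n - 2` -/
theorem classifyA48 (hn : 4 ≤ n) (hm2 : 2 ≤ m) (hm : m + 2 = n)
    (a : ℕ → ℤ) (hsum : ∑ t ∈ Finset.range (n + 1), a t = 0) (i : Fin n)
    (hA : ActN n 1 m a (Sum.inl i))
    (hLG : ∀ y, EdgeN n 1 m a (Sum.inl i) y → ActN n 1 m a y) :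
    InT n 1 m a ∨ ∀ t, t ≤ n → a t = vX n (n - 1) t := by
  have hi := i.isLt
  have hn1 : n - 1 < n := by omega
  rcases classifyA_core (by omega) le_rfl (by omega) (by omega) a hsum i hA with
    h | ⟨hi0, ha0⟩ | ⟨hi0, ha0, hai⟩
  · exact Or.inl h
  · exfalso
    obtain ⟨h0, hA1, hB1⟩ := hA
    have hE : EdgeN n 1 m a (Sum.inl i) (Sum.inl ⟨n - 1, hn1⟩) := by
      refine ⟨fun t ht => le_max_right _ _, Or.inl (by ev), ?_⟩
      rcases hB1 with h | ⟨h, h'⟩
      · exact Or.inl (by ev)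
      · refine Or.inr ⟨by ev, fun t h1 h2 => ?_⟩
        have := h' t h1 h2
        ev
    exact not_std_neg 0 (by omega) (by ev) (hLG _ hE)
  · by_cases hin : i.val = n - 1
    · right
      have := derive_X (by omega) hm2 (by omega) a hsum i (fun t h1 h2 hne => by omega) hA hLG
        hi0 ha0 hai
      rw [hin] at this
      exact this.2
    · exfalso
      obtain ⟨h0, hA1, hB1⟩ := hA
      have hE : EdgeN n 1 m a (Sum.inl i) (Sum.inl ⟨n - 1, hn1⟩) := by
        refine ⟨fun t ht => le_max_right _ _, Or.inl (by ev), ?_⟩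
        rcases hB1 with h | ⟨h, h'⟩
        · exact Or.inl (by ev)
        · refine Or.inr ⟨by ev, fun t h1 h2 => ?_⟩
          have := h' t h1 h2
          ev
      exact not_std_neg i.val (by omega) (by ev) (hLG _ hE)

lemma vX_notMem (hn : 3 ≤ n) (hm : m + 1 ≤ n) (i0 : ℕ) (hi1 : 2 ≤ i0) (hi2 : i0 + 1 ≤ n) :
    toA n (vX n i0) ∉ T47 n 1 m := by
  intro h
  unfold T47 at h
  rw [Finset.mem_union, Finset.mem_union] at h
  rcases h with (h | h) | h
  · unfold Fom at h
    obtain ⟨j, hj, e⟩ := Finset.mem_image.1 h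
    rw [Finset.mem_Icc] at hj
    have := congrFun e ⟨0, by omega⟩
    simp only [toA, vOm, vX, Fin.val_mk, ↓reduceIte] at this
    omega
  · unfold FE at h
    obtain ⟨p, hp, e⟩ := Finset.mem_image.1 h
    have hp' := PE_facts (by omega) ((mem_PEs (by omega) p).1 hp)
    have e1 := congrFun e ⟨1, by omega⟩
    have e2 := congrFun e ⟨n, by omega⟩
    simp only [toA, vE, vX, Fin.val_mk, ↓reduceIte] at e1 e2
    omega
  · rw [mem_FCB (by omega)] at h
    have := h.1
    simp only [toA, vX, Fin.val_zero, ↓reduceIte] at this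
    omega

/-- the multidegrees for `q = 1`, `m = n - 2` -/
def T48 (n m : ℕ) : Finset (Fin (n + 1) → ℤ) := insert (toA n (vX n (n - 1))) (T47 n 1 m)

lemma hT48 (hn : 4 ≤ n) (hm : m + 2 = n) (α : Fin (n + 1) → ℤ) (hα : α ∈ T48 n m) :
    ∑ t, α t = 0 := by
  unfold T48 at hα
  rw [Finset.mem_insert] at hα
  rcases hα with rfl | h
  · rw [sum_toA, sum_vX (by omega) (n - 1) (by omega)]
  · exact hT47 (by omega) (by omega) α h

lemma hvan48 (hn : 4 ≤ n) (hm2 : 2 ≤ m) (hm : m + 2 = n) (α : Fin (n + 1) → ℤ)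
    (hs : ∑ t, α t = 0) (hα : α ∉ T48 n m) : Sol k (gg n 1 m) α = ⊥ := by
  rw [← toA_aExt α]
  refine sol_eq_botN (by omega) (by omega) (by omega) (aExt n α) (fun x hx => ?_)
  by_contra hcon
  push Not at hcon
  have hsum : ∑ t ∈ Finset.range (n + 1), aExt n α t = 0 := by rw [sum_aExt, hs]
  apply hα
  unfold T48
  rcases x with i | j
  · rcases classifyA48 hn hm2 hm (aExt n α) hsum i hx hcon with h | h
    · exact Finset.mem_insert_of_mem (mem_T47_of_InT (by omega) (by omega) α hs h)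
    · have : α = toA n (vX n (n - 1)) := (toA_aExt α).symm.trans (toA_congr _ _ h)
      rw [this]
      exact Finset.mem_insert_self _ _
  · exact Finset.mem_insert_of_mem (mem_T47_of_InT (by omega) (by omega) α hs
      (classifyB hn le_rfl hm2 (by omega) (aExt n α) hsum j hx hcon))

theorem main48 (k : Type u) [Field k] (n : ℕ) (hn : 4 ≤ n) :
    Module.finrank k ↥(⨆ α : {α : Fin (n + 1) → ℤ // ∑ i, α i = 0}, tPiece (Ideal.span ({f : MvPolynomial (Fin (n + 1)) k | ∃ i : Fin (n + 1), i.val + 1 ≤ n ∧ f = MvPolynomial.X 0 * MvPolynomial.X i} ∪ {f : MvPolynomial (Fin (n + 1)) k | ∃ i : Fin (n + 1), 1 ≤ i.val ∧ i.val ≤ n - 2 ∧ f = MvPolynomial.X 1 * MvPolynomial.X i})) α.1) = 6 * n - 6 := by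
  classical
  have hm2 : 2 ≤ n - 2 := by omega
  have hm : (n - 2) + 2 = n := by omega
  generalize n - 2 = m at *
  have hS := span_set (k := k) (n := n) (q := 1) (m := m) (by omega) (by omega)
  simp only [pow_one] at hS
  obtain ⟨hgen, hmono⟩ := hgen_of_span (k := k) n 1 m _ hS
  rw [finrank_deg0 hgen hmono (T48 n m) (hT48 hn hm) (hvan48 hn hm2 hm)]
  unfold T48
  rw [Finset.sum_insert (vX_notMem (by omega) (by omega) (n - 1) (by omega) (by omega)),
    val_X (k := k) (by omega) hm2 (by omega) (n - 1) (by omega) (by omega)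
      (fun t h1 h2 hne => by omega)]
  unfold T47
  rw [Finset.sum_union (disj_omE_CB (by omega) (by omega) (by omega)),
    Finset.sum_union (disj_om_E (by omega)), sum_Fom (by omega) le_rfl (by omega) (by omega),
    sum_FE hn le_rfl hm2 (by omega)]
  have h3 := sum_FCB (k := k) (q := 1) (m := m) (by omega : 3 ≤ n) le_rfl (by omega) (by omega)
  rw [sum_dl hm2 (by omega)] at h3
  have hch : Nat.choose (n + 1 - 1) (n - 1) = n := by
    have : n + 1 - 1 = (n - 1) + 1 := by omega
    rw [this, Nat.choose_succ_self_right]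
    omega
  rw [hch] at h3
  have e : n - m = 2 := by omega
  rw [e] at h3 ⊢
  omega

end Groth.Agent.H4.MgTJ
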