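import Mathlib
import Groth.Prelude.Def_W4c1hilbpnTgt
import Groth.Agent.H4.MgSol
import Groth.Agent.H4.MgTB
import Groth.Agent.H4.MgTC
import Groth.Agent.H4.MgTD
import Groth.Agent.H4.MgTE
import Groth.Agent.H4.MgTF
import Groth.Agent.H4.MgTG
import Groth.Agent.H4.MgTI
import Groth.Agent.H4.MgTJ

set_option autoImplicit false
universe u
open W4c1hilbpn MvPolynomial
open Groth.Agent.H4.TgtCC
open Groth.Agent.H4.MgSol Groth.Agent.H4.MgTB Groth.Agent.H4.MgTC Groth.Agent.H4.MgTD
  Groth.Agent.H4.MgTE Groth.Agent.H4.MgTF Groth.Agent.H4.MgTG Groth.Agent.H4.MgTI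
  Groth.Agent.H4.MgTJ

noncomputable section
namespace Groth.Agent.H4.MgTK

variable {k : Type u} [Field k] {n q m : ℕ}

/-- `e_1 + e_n - 2 e_0` -/
def vY (n : ℕ) (t : ℕ) : ℤ :=
  (if t = 1 then 1 else 0) + (if t = n then 1 else 0) - (if t = 0 then 2 else 0)

macro "ev" : tactic =>
  `(tactic| ((try simp only [uN_inl, uN_inr, gA, gB, vE, vOm, vX, vY, Fin.val_mk, ↓reduceIte] at *); omega))

lemma sum_vY (hn : 2 ≤ n) : ∑ t ∈ Finset.range (n + 1), vY n t = 0 := by
  unfold vY
  rw [Finset.sum_sub_distrib, Finset.sum_add_distrib, sum_ind, sum_ind, sum_ind,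
    if_pos (by omega), if_pos (by omega), if_pos (by omega)]
  omega

theorem classifyB9 (hn : 3 ≤ n) (hq : 1 ≤ q) (hm2 : 2 ≤ m) (hm : m + 1 ≤ n)
    (a : ℕ → ℤ) (hsum : ∑ t ∈ Finset.range (n + 1), a t = 0) (j : Fin m)
    (hA : ActN n q m a (Sum.inr j))
    (hLG : ∀ y, EdgeN n q m a (Sum.inr j) y → ActN n q m a y) : InT n q m a := by
  have hj := j.isLt
  obtain ⟨h0, hA1, hB1⟩ := hA
  have h00 := h0 0 (by omega)
  by_cases ha0 : a 0 = 0
  · have hnn : ∀ t, 2 ≤ t → t ≤ n → t ≠ j.val + 1 → 0 ≤ a t := by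
      intro t h1 h2 hne
      have := h0 t h2
      ev
    have h01 := h0 1 (by omega)
    by_cases hj0 : j.val = 0
    · have hnn' : ∀ t, 2 ≤ t → t ≤ n → 0 ≤ a t := fun t h1 h2 => hnn t h1 h2 (by omega)
      by_cases ha1 : -(q : ℤ) ≤ a 1
      · right; right
        refine ⟨ha0, ha1, ?_, hnn'⟩
        rcases hB1 with h | ⟨h, _⟩
        · ev
        · ev
      · exfalso
        have h1m : 1 < m := by omega
        have hE : EdgeN n q m a (Sum.inr j) (Sum.inr ⟨1, h1m⟩) :=
          ⟨fun t ht => le_max_right _ _, Or.inl (by ev), Or.inl (by ev)⟩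
        exact not_std_neg 1 (by omega) (by ev) (hLG _ hE)
    · have haJ : -1 ≤ a (j.val + 1) := by
        have := h0 (j.val + 1) (by omega)
        ev
      have ha1l : -(q : ℤ) ≤ a 1 := by ev
      have ha1u : a 1 ≤ 0 := by
        rcases hB1 with h | ⟨h, _⟩
        · ev
        · ev
      by_cases haJ0 : 0 ≤ a (j.val + 1)
      · right; right
        refine ⟨ha0, ha1l, ha1u, fun t h1 h2 => ?_⟩
        by_cases htJ : t = j.val + 1
        · rw [htJ]
          exact haJ0
        · exact hnn t h1 h2 htJ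
      · have haJ' : a (j.val + 1) = -1 := by omega
        by_cases ha10 : a 1 = 0
        · have hB2 : ∀ t, 2 ≤ t → t ≤ m → uN q a (Sum.inr j : Vx n m) t ≤ 0 := by
            rcases hB1 with h | ⟨_, h⟩
            · exfalso
              ev
            · exact h
          right; left
          have hb0 : ∀ t, t < n + 1 →
              0 ≤ (fun t => a t + if t = j.val + 1 then 1 else 0) t := by
            intro t ht
            by_cases ht0 : t = 0
            · subst ht0
              ev
            · by_cases ht1 : t = 1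
              · subst ht1
                ev
              · by_cases htJ : t = j.val + 1
                · rw [htJ]
                  ev
                · have := hnn t (by omega) (by omega) htJ
                  ev
          have hbs : ∑ t ∈ Finset.range (n + 1),
              (fun t => a t + if t = j.val + 1 then 1 else 0) t = 1 := by
            simp only []
            rw [Finset.sum_add_distrib, hsum, sum_ind, if_pos (by omega)]
            rfl
          obtain ⟨l, hl, hb⟩ := single_of_sum_one _ (n + 1) hb0 hbs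
          have hlm : m < l := by
            by_contra hcon
            have e := hb l hl
            by_cases hl0 : l = 0
            · subst hl0
              ev
            · by_cases hl1 : l = 1
              · subst hl1
                ev
              · by_cases hlJ : l = j.val + 1
                · subst hlJ
                  ev
                · have e1 := hB2 l (by omega) (by omega)
                  have e2 := h0 l (by omega)
                  ev
          refine ⟨l, j.val + 1, Or.inr (Or.inr ⟨by omega, by omega, by omega, by omega⟩),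
            fun t ht => ?_⟩
          have := hb t (by omega)
          ev
        · exfalso
          have ha1n : a 1 ≤ -1 := by omega
          have h0m : 0 < m := by omega
          by_cases ha12 : a 1 ≤ -2
          · have hE : EdgeN n q m a (Sum.inr j) (Sum.inr ⟨0, h0m⟩) :=
              ⟨fun t ht => le_max_right _ _, Or.inl (by ev), Or.inl (by ev)⟩
            exact not_std_neg (j.val + 1) (by omega) (by ev) (hLG _ hE)
          · have ha11 : a 1 = -1 := by omega
            by_cases hm3 : 3 ≤ m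
            · obtain ⟨jj, hjj1, hjj2, hjj3⟩ : ∃ jj, 1 ≤ jj ∧ jj < m ∧ jj ≠ j.val := by
                by_cases h : j.val = 1
                · exact ⟨2, by omega, by omega, by omega⟩
                · exact ⟨1, by omega, by omega, by omega⟩
              have hE : EdgeN n q m a (Sum.inr j) (Sum.inr ⟨jj, hjj2⟩) :=
                ⟨fun t ht => le_max_right _ _, Or.inl (by ev), Or.inl (by ev)⟩
              exact not_std_neg (j.val + 1) (by omega) (by ev) (hLG _ hE)
            · have hE : EdgeN n q m a (Sum.inr j) (Sum.inr ⟨0, h0m⟩) := by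
                refine ⟨fun t ht => le_max_right _ _, Or.inl (by ev),
                  Or.inr ⟨by ev, fun t h1 h2 => ?_⟩⟩
                have ht : t = j.val + 1 := by omega
                subst ht
                ev
              exact not_std_neg (j.val + 1) (by omega) (by ev) (hLG _ hE)
  · have ha0' : a 0 = 1 := by
      rcases hA1 with h | ⟨h, _⟩
      · ev
      · ev
    have hA2 : ∀ t, 1 ≤ t → t + 1 ≤ n → uN q a (Sum.inr j : Vx n m) t ≤ 0 := by
      rcases hA1 with h | ⟨_, h⟩
      · exfalso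
        ev
      · exact h
    left
    refine ⟨j.val + 1, by omega, by omega, ?_⟩
    have hag : ∀ t, t < n + 1 → t ≠ n → a t = vOm n q (j.val + 1) t := by
      intro t ht hne
      by_cases ht0 : t = 0
      · subst ht0
        ev
      · have h1 := hA2 t (by omega) (by omega)
        have h2 := h0 t (by omega)
        ev
    intro t ht
    exact eq_of_agree a (vOm n q (j.val + 1)) (n + 1) n (by omega)
      (by rw [hsum, sum_vOm n q (j.val + 1) (by omega) (by omega)]) hag t (by omega)


/-- multidegree `e_l - e_0` for `q = 1`, `m = n - 1` -/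
theorem val_c9 (hn : 3 ≤ n) (hm : m + 1 = n) (l : ℕ) (hl1 : 1 ≤ l) (hl2 : l ≤ n) :
    Module.finrank k ↥(Sol k (gg n 1 m) (toA n (vE l 0))) =
      (if 2 ≤ l then 1 else 0) + (if l = n then 1 else 0) + (if l = n then 1 else 0) := by
  classical
  have hn1 : n - 1 < n := by omega
  have hn0 : 0 < n := by omega
  have h1n : 1 < n := by omega
  refine finrank_sol3 (k := k) (q := 1) (by omega : 2 ≤ n) (by omega) (by omega)
    (vE l 0) (2 ≤ l) (l = n) (l = n)
    (fun x => ∃ i : Fin n, x = Sum.inl i ∧ 2 ≤ i.val ∧ 2 ≤ l)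
    (fun x => x = Sum.inl ⟨0, hn0⟩ ∧ l = n)
    (fun x => x = Sum.inl ⟨1, h1n⟩ ∧ l = n)
    (Sum.inl ⟨n - 1, hn1⟩) (Sum.inl ⟨0, hn0⟩) (Sum.inl ⟨1, h1n⟩)
    ?_ ?_ ?_ ?_ ?_ ?_ ?_ ?_ ?_ ?_ ?_ ?_ ?_ ?_ ?_ ?_ ?_ ?_ ?_
  · exact fun h => ⟨⟨n - 1, hn1⟩, rfl, by simp only [Fin.val_mk]; omega, h⟩
  · exact fun h => ⟨rfl, h⟩
  · exact fun h => ⟨rfl, h⟩
  · rintro x ⟨i, _, _, h⟩
    exact h
  · exact fun _ h => h.2
  · exact fun _ h => h.2
  · rintro x ⟨i, rfl, hi, _⟩ ⟨h, _⟩
    have := congrArg Fin.val (Sum.inl.inj h)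
    simp only [Fin.val_mk] at this
    omega
  · rintro x ⟨i, rfl, hi, _⟩ ⟨h, _⟩
    have := congrArg Fin.val (Sum.inl.inj h)
    simp only [Fin.val_mk] at this
    omega
  · rintro x ⟨rfl, _⟩ ⟨h, _⟩
    have := congrArg Fin.val (Sum.inl.inj h)
    simp only [Fin.val_mk] at this
    omega
  · intro x h0 h1 h2 c hc
    refine sol_zero (by omega) (by omega) (by omega) hc ?_
    rcases x with i | j
    · have hil := i.isLt
      by_cases hi0 : i.val = 0
      · have hx : i = ⟨0, hn0⟩ := Fin.ext hi0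
        have hln : l ≠ n := fun e => h1 ⟨by rw [hx], e⟩
        exact not_std_A l (by ev) (by omega) (by omega) (by ev)
      · by_cases hi1 : i.val = 1
        · have hx : i = ⟨1, h1n⟩ := Fin.ext hi1
          have hln : l ≠ n := fun e => h2 ⟨by rw [hx], e⟩
          by_cases hl : l = 1
          · exact not_std_B1 (by ev)
          · exact not_std_B l (by ev) (by omega) (by omega) (by ev)
        · have hl : ¬ 2 ≤ l := fun e => h0 ⟨i, rfl, by omega, e⟩
          exact not_std_B i.val (by ev) (by omega) (by omega) (by ev)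
    · exact not_std_neg 0 (by omega) (by ev)
  · rintro x ⟨i, rfl, hi, hl⟩ c hc
    by_cases hi' : i.val = n - 1
    · have : i = ⟨n - 1, hn1⟩ := Fin.ext hi'
      rw [this]
    · refine sol_edge (by omega) (by omega) (by omega) hc ?_
      have hil := i.isLt
      exact ⟨fun t ht => le_max_right _ _, Or.inl (by ev), Or.inl (by ev)⟩
  · rintro x ⟨rfl, _⟩ c hc
    rfl
  · rintro x ⟨rfl, _⟩ c hc
    rfl
  · rintro x ⟨i, rfl, hi, hl⟩
    have hil := i.isLt
    exact ⟨fun t ht => by ev, Or.inl (by ev), Or.inl (by ev)⟩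
  · rintro x ⟨rfl, hln⟩
    exact ⟨fun t ht => by ev, Or.inr ⟨by ev, fun t h1 h2 => by ev⟩, Or.inl (by ev)⟩
  · rintro x ⟨rfl, hln⟩
    exact ⟨fun t ht => by ev, Or.inl (by ev), Or.inr ⟨by ev, fun t h1 h2 => by ev⟩⟩
  · rintro x y hE ⟨i, rfl, hi, hl⟩
    have hil := i.isLt
    rcases y with i' | j
    · by_cases hi0 : i'.val = 0
      · exfalso
        exact not_std_A i.val (by ev) (by omega) (by omega) (by ev) hE
      · by_cases hi1 : i'.val = 1
        · exfalso
          exact not_std_B i.val (by ev) (by omega) (by omega) (by ev) hE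
        · exact ⟨i', rfl, by omega, hl⟩
    · exfalso
      exact not_std_B i.val (by ev) (by omega) (by omega) (by ev) hE
  · rintro x y hE ⟨rfl, hln⟩
    rcases y with i' | j
    · by_cases hi0 : i'.val = 0
      · have : i' = ⟨0, hn0⟩ := Fin.ext hi0
        rw [this]
        exact ⟨rfl, hln⟩
      · exfalso
        have := i'.isLt
        exact not_std_A i'.val (by ev) (by omega) (by omega) (by ev) hE
    · exfalso
      exact not_std_A 1 (by ev) (by omega) (by omega) (by ev) hE
  · rintro x y hE ⟨rfl, hln⟩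
    rcases y with i' | j
    · by_cases hi1 : i'.val = 1
      · have : i' = ⟨1, h1n⟩ := Fin.ext hi1
        rw [this]
        exact ⟨rfl, hln⟩
      · exfalso
        have := i'.isLt
        by_cases hi0 : i'.val = 0
        · exact not_std_A 1 (by ev) (by omega) (by omega) (by ev) hE
        · exact not_std_B i'.val (by ev) (by omega) (by omega) (by ev) hE
    · exfalso
      have := j.isLt
      by_cases hj0 : j.val = 0
      · exact not_std_B1 (by ev) hE
      · exact not_std_B (j.val + 1) (by ev) (by omega) (by omega) (by ev) hE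

/-- multidegree `e_1 + e_n - 2 e_0` for `q = 1`, `m = n - 1` -/
theorem val_Y (hn : 3 ≤ n) (hm2 : 2 ≤ m) (hm : m + 1 = n) :
    Module.finrank k ↥(Sol k (gg n 1 m) (toA n (vY n))) = 1 := by
  have hn0 : 0 < n := by omega
  refine finrank_sol1 (k := k) (q := 1) (by omega) (by omega) (by omega) (vY n)
    (fun x => x = Sum.inl ⟨0, hn0⟩) (Sum.inl ⟨0, hn0⟩) rfl ?_ (fun x h => Or.inl h) ?_ ?_
  · intro x hx
    rcases x with i | j
    · have hi : i.val ≠ 0 := fun e => hx (congrArg Sum.inl (Fin.ext e))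
      exact not_std_neg 0 (by omega) (by ev)
    · exact not_std_neg 0 (by omega) (by ev)
  · rintro x rfl
    exact ⟨fun t ht => by ev, Or.inl (by ev), Or.inr ⟨by ev, fun t h1 h2 => by ev⟩⟩
  · rintro x y hE rfl
    rcases y with i | j
    · by_cases hi : i.val = 0
      · have : i = ⟨0, hn0⟩ := Fin.ext hi
        rw [this]
      · exfalso
        have hil := i.isLt
        by_cases hi1 : i.val = 1
        · exact not_std_B1 (by ev) hE
        · exact not_std_B i.val (by ev) (by omega) (by omega) (by ev) hE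
    · exfalso
      exact not_std_B1 (by ev) hE

/-- with `q = 1`, `m = n - 1`: a locally good vertex `x_0^2` with `α_0 = -2` forces
`α = e_1 + e_n - 2 e_0` -/
theorem derive_Y (hn : 3 ≤ n) (hm2 : 2 ≤ m) (hm : m + 1 = n)
    (a : ℕ → ℤ) (hsum : ∑ t ∈ Finset.range (n + 1), a t = 0) (i : Fin n)
    (hA : ActN n 1 m a (Sum.inl i))
    (hLG : ∀ y, EdgeN n 1 m a (Sum.inl i) y → ActN n 1 m a y)
    (hi0 : i.val = 0) (ha0 : a 0 = -2) : ∀ t, t ≤ n → a t = vY n t := by
  have hi := i.isLt
  obtain ⟨h0, hA1, hB1⟩ := hA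
  have hnn : ∀ t, 1 ≤ t → t ≤ n → 0 ≤ a t := by
    intro t h1 h2
    have := h0 t h2
    ev
  have ha1 : 1 ≤ a 1 := by
    by_contra hcon
    have h2n : 2 < n := by omega
    have ha10 : a 1 = 0 := by
      have := hnn 1 le_rfl (by omega)
      omega
    have e1 : uN 1 a (Sum.inl i : Vx n m) 1 ≤ 0 := by ev
    have e2 : uN 1 a (Sum.inl (⟨2, h2n⟩ : Fin n) : Vx n m) 1 ≤ 0 := by ev
    have hE : EdgeN n 1 m a (Sum.inl i) (Sum.inl ⟨2, h2n⟩) := by
      refine ⟨fun t ht => le_max_right _ _, Or.inl (by ev), Or.inl ?_⟩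
      exact le_trans (max_le (max_le e1 e2) le_rfl) (by norm_num)
    exact not_std_neg 0 (by omega) (by ev) (hLG _ hE)
  have hB2 : ∀ t, 2 ≤ t → t ≤ m → uN 1 a (Sum.inl i : Vx n m) t ≤ 0 := by
    rcases hB1 with h | ⟨_, h⟩
    · exfalso
      ev
    · exact h
  have ha11 : a 1 = 1 := by
    rcases hB1 with h | ⟨h, _⟩
    · ev
    · ev
  have hag : ∀ t, t < n + 1 → t ≠ n → a t = vY n t := by
    intro t ht hne
    by_cases ht0 : t = 0
    · subst ht0
      ev
    · by_cases ht1 : t = 1
      · subst ht1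
        ev
      · have h1 := hB2 t (by omega) (by omega)
        have h2 := hnn t (by omega) (by omega)
        ev
  intro t ht
  exact eq_of_agree a (vY n) (n + 1) n (by omega)
    (by rw [hsum, sum_vY (by omega)]) hag t (by omega)

/-- classification at a vertex `x_0 x_i` for `q = 1`, `m = n - 1` -/
theorem classifyA49 (hn : 3 ≤ n) (hm2 : 2 ≤ m) (hm : m + 1 = n)
    (a : ℕ → ℤ) (hsum : ∑ t ∈ Finset.range (n + 1), a t = 0) (i : Fin n)
    (hA : ActN n 1 m a (Sum.inl i))
    (hLG : ∀ y, EdgeN n 1 m a (Sum.inl i) y → ActN n 1 m a y) :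
    InT n 1 m a ∨ (∀ t, t ≤ n → a t = vY n t) ∨
      ∃ i0, 2 ≤ i0 ∧ i0 ≤ m ∧ ∀ t, t ≤ n → a t = vX n i0 t := by
  have hi := i.isLt
  rcases classifyA_core (by omega) le_rfl (by omega) (by omega) a hsum i hA with
    h | ⟨hi0, ha0⟩ | ⟨hi0, ha0, hai⟩
  · exact Or.inl h
  · exact Or.inr (Or.inl (derive_Y hn hm2 hm a hsum i hA hLG hi0 ha0))
  · have := derive_X hn hm2 (by omega) a hsum i (fun t h1 h2 hne => by omega) hA hLG hi0 ha0 hai
    exact Or.inr (Or.inr ⟨i.val, this.1, by omega, this.2⟩)

/-- the family `e_1 + e_n - e_0 - e_i` -/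
def FX (n m : ℕ) : Finset (Fin (n + 1) → ℤ) := (Finset.Icc 2 m).image (fun i => toA n (vX n i))

lemma vX_injOn (hm : m + 1 ≤ n) :
    Set.InjOn (fun i => toA n (vX n i)) (Finset.Icc 2 m : Set ℕ) := by
  intro i hi i' hi' h
  rw [Finset.coe_Icc, Set.mem_Icc] at hi hi'
  have := congrFun h ⟨i, by omega⟩
  simp only [toA, vX, Fin.val_mk, ↓reduceIte] at this
  omega

lemma sum_FX (hn : 3 ≤ n) (hm2 : 2 ≤ m) (hm : m + 1 = n) :
    ∑ α ∈ FX n m, Module.finrank k ↥(Sol k (gg n 1 m) α) = m - 1 := by
  unfold FX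
  rw [Finset.sum_image (vX_injOn (by omega)),
    Finset.sum_congr rfl (fun i hi => val_X (k := k) hn hm2 (by omega) i (Finset.mem_Icc.1 hi).1
      (by have := (Finset.mem_Icc.1 hi).2; omega) (fun t h1 h2 hne => by omega)),
    Finset.sum_const, smul_eq_mul, mul_one, Nat.card_Icc]
  omega

/-- the multidegrees for `q = 1`, `m = n - 1` -/
def T49 (n m : ℕ) : Finset (Fin (n + 1) → ℤ) := insert (toA n (vY n)) (FX n m ∪ T47 n 1 m)

lemma disj_FX_T47 (hn : 3 ≤ n) (hm : m + 1 ≤ n) : Disjoint (FX n m) (T47 n 1 m) := by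
  rw [Finset.disjoint_left]
  intro α h1 h2
  unfold FX at h1
  obtain ⟨i, hi, rfl⟩ := Finset.mem_image.1 h1
  rw [Finset.mem_Icc] at hi
  exact vX_notMem hn hm i hi.1 (by omega) h2

lemma vY_notMem (hn : 3 ≤ n) (hm : m + 1 ≤ n) : toA n (vY n) ∉ FX n m ∪ T47 n 1 m := by
  intro h
  rw [Finset.mem_union] at h
  rcases h with h | h
  · unfold FX at h
    obtain ⟨i, hi, e⟩ := Finset.mem_image.1 h
    rw [Finset.mem_Icc] at hi
    have := congrFun e ⟨0, by omega⟩
    simp only [toA, vX, vY, Fin.val_mk, ↓reduceIte] at this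
    omega
  · unfold T47 at h
    rw [Finset.mem_union, Finset.mem_union] at h
    rcases h with (h | h) | h
    · unfold Fom at h
      obtain ⟨j, hj, e⟩ := Finset.mem_image.1 h
      rw [Finset.mem_Icc] at hj
      have := congrFun e ⟨0, by omega⟩
      simp only [toA, vOm, vY, Fin.val_mk, ↓reduceIte] at this
      omega
    · unfold FE at h
      obtain ⟨p, hp, e⟩ := Finset.mem_image.1 h
      have e1 := congrFun e ⟨0, by omega⟩
      simp only [toA, vE, vY, Fin.val_mk, ↓reduceIte] at e1
      omega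
    · rw [mem_FCB (by omega)] at h
      have := h.1
      simp only [toA, vY, Fin.val_zero, ↓reduceIte] at this
      omega

lemma hT49 (hn : 3 ≤ n) (hm : m + 1 = n) (α : Fin (n + 1) → ℤ) (hα : α ∈ T49 n m) :
    ∑ t, α t = 0 := by
  unfold T49 at hα
  rw [Finset.mem_insert, Finset.mem_union] at hα
  rcases hα with rfl | h | h
  · rw [sum_toA, sum_vY (by omega)]
  · unfold FX at h
    obtain ⟨i, hi, rfl⟩ := Finset.mem_image.1 h
    rw [Finset.mem_Icc] at hi
    rw [sum_toA, sum_vX (by omega) i (by omega)]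
  · exact hT47 (by omega) (by omega) α h

lemma hvan49 (hn : 3 ≤ n) (hm2 : 2 ≤ m) (hm : m + 1 = n) (α : Fin (n + 1) → ℤ)
    (hs : ∑ t, α t = 0) (hα : α ∉ T49 n m) : Sol k (gg n 1 m) α = ⊥ := by
  rw [← toA_aExt α]
  refine sol_eq_botN (by omega) (by omega) (by omega) (aExt n α) (fun x hx => ?_)
  by_contra hcon
  push Not at hcon
  have hsum : ∑ t ∈ Finset.range (n + 1), aExt n α t = 0 := by rw [sum_aExt, hs]
  apply hα
  unfold T49
  have hin : InT n 1 m (aExt n α) → α ∈ insert (toA n (vY n)) (FX n m ∪ T47 n 1 m) := fun h =>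
    Finset.mem_insert_of_mem
      (Finset.mem_union_right _ (mem_T47_of_InT (by omega) (by omega) α hs h))
  rcases x with i | j
  · rcases classifyA49 hn hm2 hm (aExt n α) hsum i hx hcon with h | h | ⟨i0, h1, h2, h⟩
    · exact hin h
    · have : α = toA n (vY n) := (toA_aExt α).symm.trans (toA_congr _ _ h)
      rw [this]
      exact Finset.mem_insert_self _ _
    · have : α = toA n (vX n i0) := (toA_aExt α).symm.trans (toA_congr _ _ h)
      rw [this]
      refine Finset.mem_insert_of_mem (Finset.mem_union_left _ ?_)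
      unfold FX
      exact Finset.mem_image.2 ⟨i0, Finset.mem_Icc.2 ⟨h1, h2⟩, rfl⟩
  · exact hin (classifyB9 hn le_rfl hm2 (by omega) (aExt n α) hsum j hx hcon)

lemma sum_FE9 (hn : 3 ≤ n) (hm2 : 2 ≤ m) (hm : m + 1 = n) :
    ∑ α ∈ FE n m, Module.finrank k ↥(Sol k (gg n 1 m) α) = (n + 1) + (m - 1) * 2 := by
  classical
  unfold FE
  rw [Finset.sum_image (FE_injOn (by omega))]
  have d1 : Disjoint (P1 n) (P2 n m) := by
    rw [Finset.disjoint_left]
    intro p h1 h2
    unfold P1 at h1
    unfold P2 at h2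
    simp only [Finset.mem_product, Finset.mem_Icc, Finset.mem_singleton] at h1 h2
    omega
  have d2 : Disjoint (P1 n ∪ P2 n m) (P3 n m) := by
    rw [Finset.disjoint_left]
    intro p h1 h2
    unfold P1 P2 at h1
    unfold P3 at h2
    simp only [Finset.mem_union, Finset.mem_product, Finset.mem_Icc, Finset.mem_singleton] at h1 h2
    omega
  have e1 : ∑ p ∈ P1 n, Module.finrank k ↥(Sol k (gg n 1 m) (toA n (vE p.1 p.2))) = n + 1 := by
    unfold P1
    rw [Finset.sum_product]
    simp only [Finset.sum_singleton]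
    rw [Finset.sum_congr rfl (fun l hl => val_c9 (k := k) hn hm l
      (Finset.mem_Icc.1 hl).1 (Finset.mem_Icc.1 hl).2)]
    rw [Finset.sum_add_distrib, Finset.sum_add_distrib,
      Finset.sum_ite_eq' (Finset.Icc 1 n) n (fun _ => 1),
      if_pos (Finset.mem_Icc.2 ⟨by omega, le_rfl⟩), ← Finset.card_filter]
    have e : (Finset.Icc 1 n).filter (fun l => 2 ≤ l) = Finset.Icc 2 n := by
      ext l
      simp only [Finset.mem_filter, Finset.mem_Icc]
      omega
    rw [e, Nat.card_Icc]
    omega
  have e2 : ∑ p ∈ P2 n m, Module.finrank k ↥(Sol k (gg n 1 m) (toA n (vE p.1 p.2))) = 0 := by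
    have : P2 n m = ∅ := by
      unfold P2
      rw [Finset.Icc_eq_empty (by omega), Finset.product_empty]
    rw [this, Finset.sum_empty]
  have e3 : ∑ p ∈ P3 n m, Module.finrank k ↥(Sol k (gg n 1 m) (toA n (vE p.1 p.2))) =
      (m - 1) * 2 := by
    unfold P3
    rw [Finset.sum_product]
    have c1 : (Finset.Icc 2 m).card = m - 1 := by
      rw [Nat.card_Icc]
      omega
    have inner : ∀ l ∈ Finset.Icc (m + 1) n,
        ∑ i ∈ Finset.Icc 2 m, Module.finrank k ↥(Sol k (gg n 1 m) (toA n (vE l i))) =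
          (m - 1) * (1 + if l = n then 1 else 0) := by
      intro l hl
      rw [Finset.sum_congr rfl (fun i hi => val_CA (k := k) (by omega) le_rfl (by omega) (by omega)
        i l (Finset.mem_Icc.1 hi).1 (Finset.mem_Icc.1 hi).2 (Finset.mem_Icc.1 hl).1
        (Finset.mem_Icc.1 hl).2), Finset.sum_const, smul_eq_mul, c1]
    rw [Finset.sum_congr rfl inner, ← Finset.mul_sum, sum_one_ind (m + 1) n (by omega)]
    congr 1
    omega
  unfold PEs
  rw [Finset.sum_union d2, Finset.sum_union d1]
  omega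

theorem main49 (k : Type u) [Field k] (n : ℕ) (hn : 3 ≤ n) :
    Module.finrank k ↥(⨆ α : {α : Fin (n + 1) → ℤ // ∑ i, α i = 0}, tPiece (Ideal.span ({f : MvPolynomial (Fin (n + 1)) k | ∃ i : Fin (n + 1), i.val + 1 ≤ n ∧ f = MvPolynomial.X 0 * MvPolynomial.X i} ∪ {f : MvPolynomial (Fin (n + 1)) k | ∃ i : Fin (n + 1), 1 ≤ i.val ∧ i.val ≤ n - 1 ∧ f = MvPolynomial.X 1 * MvPolynomial.X i})) α.1) = 6 * n - 4 := by
  classical
  have hm2 : 2 ≤ n - 1 := by omega
  have hm : (n - 1) + 1 = n := by omega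
  generalize n - 1 = m at *
  have hS := span_set (k := k) (n := n) (q := 1) (m := m) (by omega) (by omega)
  simp only [pow_one] at hS
  obtain ⟨hgen, hmono⟩ := hgen_of_span (k := k) n 1 m _ hS
  rw [finrank_deg0 hgen hmono (T49 n m) (hT49 hn hm) (hvan49 hn hm2 hm)]
  unfold T49
  rw [Finset.sum_insert (vY_notMem hn (by omega)), val_Y (k := k) hn hm2 hm,
    Finset.sum_union (disj_FX_T47 hn (by omega)), sum_FX hn hm2 hm]
  unfold T47
  rw [Finset.sum_union (disj_omE_CB (by omega) (by omega) (by omega)),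
    Finset.sum_union (disj_om_E (by omega)), sum_Fom (by omega) le_rfl (by omega) (by omega),
    sum_FE9 hn hm2 hm]
  have h3 := sum_FCB (k := k) (q := 1) (m := m) (by omega : 3 ≤ n) le_rfl (by omega) (by omega)
  rw [sum_dl hm2 (by omega)] at h3
  have hch : Nat.choose (n + 1 - 1) (n - 1) = n := by
    have : n + 1 - 1 = (n - 1) + 1 := by omega
    rw [this, Nat.choose_succ_self_right]
    omega
  rw [hch] at h3
  omega

end Groth.Agent.H4.MgTK
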