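import Mathlib
import Groth.Prelude.Def_EtMil
import Groth.Agent.S2019
import Groth.Agent.S14949
import Groth.Agent.S14952

open TensorProduct

universe u

namespace Groth.Agent.H4.MilnorAlg1

section abs

variable {B' B A' A : Type u} [CommRing B'] [CommRing B] [CommRing A'] [CommRing A]
  [Algebra B' B] [Algebra B' A'] [Algebra B A] [Algebra A' A] [Algebra B' A]
  [IsScalarTower B' B A] [IsScalarTower B' A' A]

theorem surj_left (hsq : EtMil.IsFibreSquare B' B A' A) :
    Function.Surjective (algebraMap B' B) := by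
  intro b
  obtain ⟨a', ha'⟩ := hsq.1 (algebraMap B A b)
  obtain ⟨b', ⟨hb', -⟩, -⟩ := hsq.2 b a' ha'.symm
  exact ⟨b', hb'⟩

theorem eq_top_of_lTensor_surjective (hsq : EtMil.IsFibreSquare B' B A' A)
    {L : Type u} [AddCommGroup L] [Module B' L] (E : Submodule B' L)
    (h1 : Function.Surjective (LinearMap.lTensor B E.subtype))
    (h2 : Function.Surjective (LinearMap.lTensor A' E.subtype)) : E = ⊤ := by
  have key : ∀ (S : Type u) [CommRing S] [Algebra B' S],
      Function.Surjective (LinearMap.lTensor S E.subtype) → Subsingleton (S ⊗[B'] (L ⧸ E)) := by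
    intro S _ _ hS
    have hz : ∀ z : S ⊗[B'] (L ⧸ E), z = 0 := by
      intro z
      obtain ⟨w, rfl⟩ := LinearMap.lTensor_surjective S (Submodule.mkQ_surjective E) z
      obtain ⟨v, rfl⟩ := hS w
      rw [← LinearMap.comp_apply, ← LinearMap.lTensor_comp]
      have : E.mkQ ∘ₗ E.subtype = 0 := by
        ext x; simp
      rw [this, LinearMap.lTensor_zero, LinearMap.zero_apply]
    exact ⟨fun z w => by rw [hz z, hz w]⟩
  haveI := key B h1
  haveI := key A' h2
  haveI : Subsingleton (L ⧸ E) := Groth.Agent.S14949.result B' B A' A hsq (L ⧸ E)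
  exact Submodule.Quotient.subsingleton_iff.mp inferInstance

end abs

section gen

/-- span of the image of a subalgebra -/
theorem span_image_eq_top {R S D' DS : Type u} [CommRing R] [CommRing S] [CommRing D'] [CommRing DS]
    [Algebra R S] [Algebra R D'] [Algebra S DS] [Algebra R DS] [IsScalarTower R S DS]
    (f : D' →ₐ[R] DS) (E : Subalgebra R D') (s : Set DS) (hs : Algebra.adjoin S s = ⊤)
    (hsE : s ⊆ Algebra.adjoin S (f '' (E : Set D'))) :
    Submodule.span S (f '' (E : Set D')) = ⊤ := by
  have hU : Algebra.adjoin S (f '' (E : Set D')) = ⊤ := by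
    rw [eq_top_iff, ← hs]
    exact Algebra.adjoin_le hsE
  have h1 : Subalgebra.toSubmodule (Algebra.adjoin S (f '' (E : Set D'))) =
      Submodule.span S (Submonoid.closure (f '' (E : Set D')) : Set DS) := Algebra.adjoin_eq_span S _
  have h2 : (Submonoid.closure (f '' (E : Set D')) : Set DS) = f '' (E : Set D') := by
    apply le_antisymm
    · have : Submonoid.closure (f '' (E : Set D')) ≤ (E.map f).toSubsemiring.toSubmonoid := by
        rw [Submonoid.closure_le]
        rintro _ ⟨e, he, rfl⟩
        exact ⟨e, he, rfl⟩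
      intro x hx
      obtain ⟨e, he, rfl⟩ := this hx
      exact ⟨e, he, rfl⟩
    · exact Submonoid.subset_closure
  rw [← h2, ← h1, hU, Algebra.top_toSubmodule]

theorem lTensor_surjective_of_span {R S D' DS : Type u} [CommRing R] [CommRing S] [CommRing D']
    [CommRing DS] [Algebra R S] [Algebra R D'] [Algebra S DS] [Algebra R DS] [IsScalarTower R S DS]
    [Algebra D' DS] [IsScalarTower R D' DS] [Algebra.IsPushout R S D' DS]
    (E : Subalgebra R D')
    (h : Submodule.span S ((IsScalarTower.toAlgHom R D' DS) '' (E : Set D')) = ⊤) :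
    Function.Surjective (LinearMap.lTensor S (Subalgebra.toSubmodule E).subtype) := by
  let eq : S ⊗[R] D' ≃ₗ[S] DS := (Algebra.IsPushout.out (R := R) (S := S) (R' := D') (S' := DS)).equiv
  have heq : ∀ (s : S) (d : D'), eq (s ⊗ₜ d) = s • algebraMap D' DS d := fun s d =>
    IsBaseChange.equiv_tmul _ s d
  let Θ : S ⊗[R] (Subalgebra.toSubmodule E) →ₗ[S] DS :=
    eq.toLinearMap ∘ₗ (LinearMap.baseChange S (Subalgebra.toSubmodule E).subtype)
  have hΘ : LinearMap.range Θ = ⊤ := by
    rw [eq_top_iff, ← h, Submodule.span_le]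
    rintro _ ⟨e, he, rfl⟩
    refine ⟨(1 : S) ⊗ₜ[R] (⟨e, he⟩ : Subalgebra.toSubmodule E), ?_⟩
    show eq ((LinearMap.baseChange S (Subalgebra.toSubmodule E).subtype) ((1 : S) ⊗ₜ[R] ⟨e, he⟩)) = _
    rw [LinearMap.baseChange_tmul, heq, one_smul]
    rfl
  intro w
  have : eq w ∈ LinearMap.range Θ := by rw [hΘ]; trivial
  obtain ⟨v, hv⟩ := this
  refine ⟨v, ?_⟩
  apply eq.injective
  rw [← hv]
  rfl

end gen

section rel

variable {B' B A' A : Type u} [CommRing B'] [CommRing B] [CommRing A'] [CommRing A]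
  [Algebra B' B] [Algebra B' A'] [Algebra B A] [Algebra A' A] [Algebra B' A]
  [IsScalarTower B' B A] [IsScalarTower B' A' A]
  {D' D C' C : Type u} [CommRing D'] [CommRing D] [CommRing C'] [CommRing C]
  [Algebra D' D] [Algebra D' C'] [Algebra D C] [Algebra C' C] [Algebra D' C]
  [IsScalarTower D' D C] [IsScalarTower D' C' C]
  [Algebra B' D'] [Algebra B D] [Algebra A' C'] [Algebra A C]
  [Algebra B' D] [IsScalarTower B' B D] [IsScalarTower B' D' D]
  [Algebra B' C'] [IsScalarTower B' A' C'] [IsScalarTower B' D' C']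
  [Algebra B C] [IsScalarTower B A C] [IsScalarTower B D C]
  [Algebra A' C] [IsScalarTower A' A C] [IsScalarTower A' C' C]
  [Algebra.IsPushout B D A C] [Algebra.IsPushout A' C' A C]

variable (B A' A D C' C) in
noncomputable def phi : A ⊗[B] D ≃ₗ[A] A ⊗[A'] C' :=
  haveI h1 : Algebra.IsPushout B A D C := Algebra.IsPushout.symm inferInstance
  haveI h2 : Algebra.IsPushout A' A C' C := Algebra.IsPushout.symm inferInstance
  (Algebra.IsPushout.equiv B A D C).toLinearEquiv ≪≫ₗ
    (Algebra.IsPushout.equiv A' A C' C).toLinearEquiv.symm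

variable (B') in
theorem mem_glue_iff' (d : D) (c' : C') :
    ((d, c') : D × C') ∈ EtMil.glue B' (phi B A' A D C' C) ↔
      algebraMap D C d = algebraMap C' C c' := by
  haveI h1 : Algebra.IsPushout B A D C := Algebra.IsPushout.symm inferInstance
  haveI h2 : Algebra.IsPushout A' A C' C := Algebra.IsPushout.symm inferInstance
  show (phi B A' A D C' C) ((1 : A) ⊗ₜ[B] d) = (1 : A) ⊗ₜ[A'] c' ↔ _
  unfold phi
  rw [LinearEquiv.trans_apply, LinearEquiv.symm_apply_eq]
  simp only [AlgEquiv.toLinearEquiv_apply, Algebra.IsPushout.equiv_tmul, map_one, one_mul]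

variable (B' B A' A D' D C' C) in
noncomputable def psiLin : D' →ₗ[B'] EtMil.glue B' (phi B A' A D C' C) :=
  LinearMap.codRestrict _
    ((IsScalarTower.toAlgHom B' D' D).toLinearMap.prod (IsScalarTower.toAlgHom B' D' C').toLinearMap)
    (fun d' => by
      show ((algebraMap D' D d', algebraMap D' C' d') : D × C') ∈ _
      rw [mem_glue_iff', ← IsScalarTower.algebraMap_apply D' D C,
        ← IsScalarTower.algebraMap_apply D' C' C])

theorem psiLin_bijective (hsq' : EtMil.IsFibreSquare D' D C' C) :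
    Function.Bijective (psiLin B' B A' A D' D C' C) := by
  constructor
  · intro x y hxy
    have h : ((psiLin B' B A' A D' D C' C x : EtMil.glue B' (phi B A' A D C' C)) : D × C') = (psiLin B' B A' A D' D C' C y : EtMil.glue B' (phi B A' A D C' C)) := congrArg Subtype.val hxy
    have h1 : algebraMap D' D x = algebraMap D' D y := congrArg Prod.fst h
    have h2 : algebraMap D' C' x = algebraMap D' C' y := congrArg Prod.snd h
    have hc : algebraMap D C (algebraMap D' D y) = algebraMap C' C (algebraMap D' C' y) := by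
      rw [← IsScalarTower.algebraMap_apply D' D C, ← IsScalarTower.algebraMap_apply D' C' C]
    exact (hsq'.2 _ _ hc).unique ⟨h1, h2⟩ ⟨rfl, rfl⟩
  · rintro ⟨⟨d, c'⟩, hmem⟩
    have hmem' := (mem_glue_iff' B' d c').mp hmem
    obtain ⟨d', ⟨hd1, hd2⟩, -⟩ := hsq'.2 d c' hmem'
    refine ⟨d', Subtype.ext ?_⟩
    show (algebraMap D' D d', algebraMap D' C' d') = (d, c')
    rw [hd1, hd2]

theorem pushout1 (hsq : EtMil.IsFibreSquare B' B A' A) (hsq' : EtMil.IsFibreSquare D' D C' C) :
    Algebra.IsPushout B' B D' D := by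
  constructor
  let φ := phi B A' A D C' C
  let ψe : D' ≃ₗ[B'] EtMil.glue B' φ := LinearEquiv.ofBijective _ (psiLin_bijective hsq')
  obtain ⟨h1, -⟩ := Groth.Agent.S2019.result B' B A' A hsq D C' φ
  let e : B ⊗[B'] D' ≃ₗ[B] D :=
    (TensorProduct.AlgebraTensorModule.congr (LinearEquiv.refl B B) ψe) ≪≫ₗ
      (LinearEquiv.ofBijective _ h1)
  refine IsBaseChange.of_equiv e (fun x => ?_)
  show (LinearMap.liftBaseChange B (EtMil.glueFst B' φ)) ((1 : B) ⊗ₜ[B'] (ψe x)) = _
  rw [LinearMap.liftBaseChange_tmul, one_smul]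
  rfl

theorem pushout2 (hsq : EtMil.IsFibreSquare B' B A' A) (hsq' : EtMil.IsFibreSquare D' D C' C) :
    Algebra.IsPushout B' A' D' C' := by
  constructor
  let φ := phi B A' A D C' C
  let ψe : D' ≃ₗ[B'] EtMil.glue B' φ := LinearEquiv.ofBijective _ (psiLin_bijective hsq')
  obtain ⟨-, h2⟩ := Groth.Agent.S2019.result B' B A' A hsq D C' φ
  let e : A' ⊗[B'] D' ≃ₗ[A'] C' :=
    (TensorProduct.AlgebraTensorModule.congr (LinearEquiv.refl A' A') ψe) ≪≫ₗ
      (LinearEquiv.ofBijective _ h2)
  refine IsBaseChange.of_equiv e (fun x => ?_)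
  show (LinearMap.liftBaseChange A' (EtMil.glueSnd B' φ)) ((1 : A') ⊗ₜ[B'] (ψe x)) = _
  rw [LinearMap.liftBaseChange_tmul, one_smul]
  rfl

theorem flat_iff (hsq : EtMil.IsFibreSquare B' B A' A) (hsq' : EtMil.IsFibreSquare D' D C' C) :
    Module.Flat B' D' ↔ Module.Flat B D ∧ Module.Flat A' C' := by
  have P1 : Algebra.IsPushout B' B D' D := pushout1 hsq hsq'
  have P2 : Algebra.IsPushout B' A' D' C' := pushout2 hsq hsq'
  constructor
  · intro h
    exact ⟨Module.Flat.isBaseChange B' B D' D P1.out, Module.Flat.isBaseChange B' A' D' C' P2.out⟩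
  · rintro ⟨h1, h2⟩
    haveI : Module.Flat B (B ⊗[B'] D') := Module.Flat.of_linearEquiv P1.out.equiv
    haveI : Module.Flat A' (A' ⊗[B'] D') := Module.Flat.of_linearEquiv P2.out.equiv
    exact Groth.Agent.S14952.result B' B A' A hsq D'

theorem finiteType_iff (hsq : EtMil.IsFibreSquare B' B A' A)
    (hsq' : EtMil.IsFibreSquare D' D C' C) :
    Algebra.FiniteType B' D' ↔ Algebra.FiniteType B D ∧ Algebra.FiniteType A' C' := by
  haveI P1 : Algebra.IsPushout B' B D' D := pushout1 hsq hsq'
  haveI P2 : Algebra.IsPushout B' A' D' C' := pushout2 hsq hsq'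
  constructor
  · intro h
    exact ⟨Algebra.FiniteType.equiv inferInstance (Algebra.IsPushout.equiv B' B D' D),
      Algebra.FiniteType.equiv inferInstance (Algebra.IsPushout.equiv B' A' D' C')⟩
  · rintro ⟨hD, hC⟩
    classical
    obtain ⟨sD, hsD⟩ := hD.out
    obtain ⟨sC, hsC⟩ := hC.out
    have hD'surj : Function.Surjective (algebraMap D' D) := surj_left hsq'
    choose liftD hliftD using hD'surj
    have hC'rep : ∀ c : C', ∃ t : Finset (A' × D'),
        c = ∑ i ∈ t, i.1 • algebraMap D' C' i.2 := by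
      intro c
      obtain ⟨x, rfl⟩ := (Algebra.IsPushout.equiv B' A' D' C').surjective c
      obtain ⟨t, rfl⟩ := TensorProduct.exists_finset x
      refine ⟨t, ?_⟩
      rw [map_sum]
      refine Finset.sum_congr rfl fun i _ => ?_
      rw [Algebra.IsPushout.equiv_tmul, Algebra.smul_def]
    choose tC htC using hC'rep
    let Tset : Finset D' := sD.image liftD ∪ sC.biUnion (fun c => (tC c).image Prod.snd)
    let E : Subalgebra B' D' := Algebra.adjoin B' (Tset : Set D')
    have hTE : ∀ x ∈ Tset, x ∈ E := fun x hx => Algebra.subset_adjoin hx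
    have hEtop : Subalgebra.toSubmodule E = ⊤ := by
      apply eq_top_of_lTensor_surjective hsq
      · apply lTensor_surjective_of_span (DS := D)
        apply span_image_eq_top (IsScalarTower.toAlgHom B' D' D) E (sD : Set D) hsD
        intro d hd
        apply Algebra.subset_adjoin
        refine ⟨liftD d, hTE _ ?_, hliftD d⟩
        exact Finset.mem_union_left _ (Finset.mem_image_of_mem _ hd)
      · apply lTensor_surjective_of_span (DS := C')
        apply span_image_eq_top (IsScalarTower.toAlgHom B' D' C') E (sC : Set C') hsC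
        intro c hc
        rw [htC c]
        refine Subalgebra.sum_mem _ fun i hi => ?_
        refine Subalgebra.smul_mem _ (Algebra.subset_adjoin ?_) _
        refine ⟨i.2, hTE _ ?_, rfl⟩
        refine Finset.mem_union_right _ ?_
        rw [Finset.mem_biUnion]
        exact ⟨c, hc, Finset.mem_image_of_mem _ hi⟩
    refine ⟨⟨Tset, ?_⟩⟩
    apply Subalgebra.toSubmodule_injective
    rw [hEtop, Algebra.top_toSubmodule]

end rel

end Groth.Agent.H4.MilnorAlg1
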