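import Mathlib
import Groth.Prelude.Def_EtMil
import Groth.Agent.S14949
import Groth.Agent.H4.MilnorAlg1

open TensorProduct

universe u

namespace Groth.Agent.H4.MilnorAlg2

open Groth.Agent.H4.MilnorAlg1

section gen

variable {R S P' D' : Type u} [CommRing R] [CommRing S] [Algebra R S]
    [CommRing P'] [CommRing D'] [Algebra R P'] [Algebra R D']

theorem exists_finset_ker [Algebra.FinitePresentation R P']
    [Algebra.FinitePresentation S (S ⊗[R] D')]
    (π' : P' →ₐ[R] D') (hπ' : Function.Surjective π') :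
    ∃ F : Finset P', (∀ f ∈ F, π' f = 0) ∧
      ∀ (s : S) (k : P'), π' k = 0 →
        (s ⊗ₜ[R] k : S ⊗[R] P') ∈ Ideal.span
          ((Algebra.TensorProduct.includeRight : P' →ₐ[R] S ⊗[R] P') '' (F : Set P')) := by
  classical
  let gS : S ⊗[R] P' →ₐ[S] S ⊗[R] D' := Algebra.TensorProduct.map (AlgHom.id S S) π'
  let gR : S ⊗[R] P' →ₐ[R] S ⊗[R] D' := Algebra.TensorProduct.map (AlgHom.id R S) π'
  have hgg : ∀ x, gS x = gR x := by
    intro x
    induction x using TensorProduct.induction_on with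
    | zero => rw [map_zero, map_zero]
    | tmul s p => rfl
    | add a b ha hb => rw [map_add, map_add, ha, hb]
  have hsurj : Function.Surjective gS :=
    Algebra.TensorProduct.map_surjective _ _ (fun x => ⟨x, rfl⟩) hπ'
  have hFG : (RingHom.ker gS.toRingHom).FG :=
    Algebra.FinitePresentation.ker_fG_of_surjective gS hsurj
  have hker : RingHom.ker gS.toRingHom =
      Ideal.map (Algebra.TensorProduct.includeRight : P' →ₐ[R] S ⊗[R] P') (RingHom.ker π') := by
    rw [← Algebra.TensorProduct.lTensor_ker (A := S) π' hπ']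
    ext x
    rw [RingHom.mem_ker, RingHom.mem_ker]
    show gS x = 0 ↔ gR x = 0
    rw [hgg]
  rw [hker] at hFG
  have hFG' : (Submodule.span (S ⊗[R] P')
      ((Algebra.TensorProduct.includeRight : P' →ₐ[R] S ⊗[R] P') ''
        (RingHom.ker π' : Set P'))).FG := hFG
  obtain ⟨T, hT1, hT2⟩ := (Submodule.fg_span_iff_fg_span_finset_subset _).mp hFG'
  obtain ⟨F, hF1, hF2⟩ := Finset.subset_set_image_iff.mp hT1
  refine ⟨F, fun f hf => ?_, fun s k hk => ?_⟩
  · exact hF1 hf
  · have h1 : (s ⊗ₜ[R] k : S ⊗[R] P') ∈ Submodule.span (S ⊗[R] P')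
        ((Algebra.TensorProduct.includeRight : P' →ₐ[R] S ⊗[R] P') ''
          (RingHom.ker π' : Set P')) := by
      have h2 : (s ⊗ₜ[R] k : S ⊗[R] P') = (s ⊗ₜ[R] (1 : P')) * ((1 : S) ⊗ₜ[R] k) := by
        rw [Algebra.TensorProduct.tmul_mul_tmul, mul_one, one_mul]
      rw [h2]
      exact Ideal.mul_mem_left _ _ (Ideal.subset_span ⟨k, hk, rfl⟩)
    rw [hT2, ← hF2, Finset.coe_image] at h1
    exact h1

theorem tensor_ker_subsingleton [Module.Flat R D']
    (π' : P' →ₐ[R] D') (hπ' : Function.Surjective π') (K0 : Ideal P')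
    (hK0 : ∀ k ∈ K0, π' k = 0)
    (hS : ∀ (s : S) (k : P'), π' k = 0 →
        (s ⊗ₜ[R] k : S ⊗[R] P') ∈
          Ideal.map (Algebra.TensorProduct.includeRight : P' →ₐ[R] S ⊗[R] P') K0) :
    Subsingleton (S ⊗[R] LinearMap.ker (Ideal.Quotient.liftₐ K0 π' hK0).toLinearMap) := by
  have hfmk : ∀ p, (Ideal.Quotient.liftₐ K0 π' hK0) (Ideal.Quotient.mk K0 p) = π' p :=
    fun p => rfl
  have hfsurj : Function.Surjective (Ideal.Quotient.liftₐ K0 π' hK0).toLinearMap := fun d => by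
    obtain ⟨p, rfl⟩ := hπ' d
    exact ⟨Ideal.Quotient.mk K0 p, hfmk p⟩
  have hinj : Function.Injective
      ((LinearMap.ker (Ideal.Quotient.liftₐ K0 π' hK0).toLinearMap).subtype.lTensor S) :=
    LinearMap.lTensor_injective_of_exact_of_flat (Ideal.Quotient.liftₐ K0 π' hK0).toLinearMap
      hfsurj _ (Submodule.injective_subtype _) (LinearMap.exact_subtype_ker_map _) S
  let q : S ⊗[R] P' →ₐ[R] S ⊗[R] (P' ⧸ K0) :=
    Algebra.TensorProduct.map (AlgHom.id R S) (Ideal.Quotient.mkₐ R K0)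
  have hq : Ideal.map (Algebra.TensorProduct.includeRight : P' →ₐ[R] S ⊗[R] P') K0 ≤
      RingHom.ker q := by
    rw [Ideal.map_le_iff_le_comap]
    intro k hk
    rw [Ideal.mem_comap, RingHom.mem_ker]
    show q ((1 : S) ⊗ₜ[R] k) = 0
    have : q ((1 : S) ⊗ₜ[R] k) = (1 : S) ⊗ₜ[R] (Ideal.Quotient.mk K0 k) := rfl
    rw [this, Ideal.Quotient.eq_zero_iff_mem.mpr hk, TensorProduct.tmul_zero]
  have hz : ∀ z : S ⊗[R] LinearMap.ker (Ideal.Quotient.liftₐ K0 π' hK0).toLinearMap, z = 0 := by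
    intro z
    apply hinj
    rw [map_zero]
    induction z using TensorProduct.induction_on with
    | zero => exact map_zero _
    | tmul s e =>
      obtain ⟨e, he⟩ := e
      obtain ⟨p, rfl⟩ := Ideal.Quotient.mk_surjective e
      have hp : π' p = 0 := by
        have := LinearMap.mem_ker.mp he
        rwa [show (Ideal.Quotient.liftₐ K0 π' hK0).toLinearMap (Ideal.Quotient.mk K0 p) = π' p
          from hfmk p] at this
      have h1 : q (s ⊗ₜ[R] p) = 0 := hq (hS s p hp)
      have h2 : ((LinearMap.ker (Ideal.Quotient.liftₐ K0 π' hK0).toLinearMap).subtype.lTensor S)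
          (s ⊗ₜ[R] ⟨Ideal.Quotient.mk K0 p, he⟩) = q (s ⊗ₜ[R] p) := rfl
      rw [h2, h1]
    | add a b ha hb => rw [map_add, ha, hb, add_zero]
  exact ⟨fun a b => by rw [hz a, hz b]⟩

theorem smooth_fiber_of_ext {R S D' DS k k₂ : Type u} [CommRing R] [CommRing S] [CommRing D']
    [CommRing DS] [Field k] [Field k₂]
    [Algebra R S] [Algebra R D'] [Algebra S DS] [Algebra R DS] [Algebra D' DS]
    [IsScalarTower R S DS] [IsScalarTower R D' DS] [Algebra.IsPushout R S D' DS]
    [Algebra.Smooth S DS]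
    [Algebra R k] [Algebra k k₂] [Algebra S k₂] [Algebra R k₂]
    [IsScalarTower R k k₂] [IsScalarTower R S k₂] :
    Algebra.Smooth k (k ⊗[R] D') := by
  let e1 : k₂ ⊗[k] (k ⊗[R] D') ≃ₐ[k₂] k₂ ⊗[R] D' :=
    Algebra.TensorProduct.cancelBaseChange R k k₂ k₂ D'
  let e2 : k₂ ⊗[S] (S ⊗[R] D') ≃ₐ[k₂] k₂ ⊗[R] D' :=
    Algebra.TensorProduct.cancelBaseChange R S k₂ k₂ D'
  let e3 : k₂ ⊗[S] (S ⊗[R] D') ≃ₐ[k₂] k₂ ⊗[S] DS :=
    Algebra.TensorProduct.congr AlgEquiv.refl (Algebra.IsPushout.equiv R S D' DS)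
  haveI : Algebra.Smooth k₂ (k₂ ⊗[k] (k ⊗[R] D')) :=
    Algebra.Smooth.of_equiv ((e3.symm.trans e2).trans e1.symm)
  exact Algebra.Smooth.of_smooth_tensorProduct_of_faithfullyFlat k₂

theorem smooth_fiber_of_nontrivial {R S D' DS k : Type u} [CommRing R] [CommRing S] [CommRing D']
    [CommRing DS] [Field k] [Algebra R S] [Algebra R D'] [Algebra S DS] [Algebra R DS]
    [Algebra D' DS] [IsScalarTower R S DS] [IsScalarTower R D' DS] [Algebra.IsPushout R S D' DS]
    [Algebra.Smooth S DS] [Algebra R k] [Nontrivial (S ⊗[R] k)] :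
    Algebra.Smooth k (k ⊗[R] D') := by
  obtain ⟨𝔪, h𝔪⟩ := Ideal.exists_maximal (S ⊗[R] k)
  haveI := h𝔪
  letI : Field ((S ⊗[R] k) ⧸ 𝔪) := Ideal.Quotient.field 𝔪
  letI : Algebra k ((S ⊗[R] k) ⧸ 𝔪) :=
    ((Ideal.Quotient.mk 𝔪).comp
      (Algebra.TensorProduct.includeRight : k →ₐ[R] S ⊗[R] k).toRingHom).toAlgebra
  haveI : IsScalarTower R k ((S ⊗[R] k) ⧸ 𝔪) := IsScalarTower.of_algebraMap_eq (fun r => by
    show Ideal.Quotient.mk 𝔪 (algebraMap R (S ⊗[R] k) r) =
      Ideal.Quotient.mk 𝔪 ((1 : S) ⊗ₜ[R] (algebraMap R k r))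
    congr 1
    exact ((Algebra.TensorProduct.includeRight : k →ₐ[R] S ⊗[R] k).commutes r).symm)
  exact smooth_fiber_of_ext (R := R) (S := S) (D' := D') (DS := DS) (k := k)
    (k₂ := (S ⊗[R] k) ⧸ 𝔪)

end gen

section rel

variable {B' B A' A : Type u} [CommRing B'] [CommRing B] [CommRing A'] [CommRing A]
  [Algebra B' B] [Algebra B' A'] [Algebra B A] [Algebra A' A] [Algebra B' A]
  [IsScalarTower B' B A] [IsScalarTower B' A' A]
  {D' D C' C : Type u} [CommRing D'] [CommRing D] [CommRing C'] [CommRing C]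
  [Algebra D' D] [Algebra D' C'] [Algebra D C] [Algebra C' C] [Algebra D' C]
  [IsScalarTower D' D C] [IsScalarTower D' C' C]
  [Algebra B' D'] [Algebra B D] [Algebra A' C'] [Algebra A C]
  [Algebra B' D] [IsScalarTower B' B D] [IsScalarTower B' D' D]
  [Algebra B' C'] [IsScalarTower B' A' C'] [IsScalarTower B' D' C']
  [Algebra B C] [IsScalarTower B A C] [IsScalarTower B D C]
  [Algebra A' C] [IsScalarTower A' A C] [IsScalarTower A' C' C]
  [Algebra.IsPushout B D A C] [Algebra.IsPushout A' C' A C]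

theorem flat_fp_of (hsq : EtMil.IsFibreSquare B' B A' A) (hsq' : EtMil.IsFibreSquare D' D C' C)
    (hBD : Module.Flat B D) (hBD' : Algebra.FinitePresentation B D)
    (hAC : Module.Flat A' C') (hAC' : Algebra.FinitePresentation A' C') :
    Module.Flat B' D' ∧ Algebra.FinitePresentation B' D' := by
  haveI P1 : Algebra.IsPushout B' B D' D := pushout1 hsq hsq'
  haveI P2 : Algebra.IsPushout B' A' D' C' := pushout2 hsq hsq'
  have hflat : Module.Flat B' D' := (flat_iff hsq hsq').mpr ⟨hBD, hAC⟩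
  have hFT : Algebra.FiniteType B' D' :=
    (finiteType_iff hsq hsq').mpr ⟨inferInstance, inferInstance⟩
  refine ⟨hflat, ?_⟩
  obtain ⟨n, π', hπ'⟩ := Algebra.FiniteType.iff_quotient_mvPolynomial''.mp hFT
  haveI : Algebra.FinitePresentation B (B ⊗[B'] D') :=
    Algebra.FinitePresentation.equiv (Algebra.IsPushout.equiv B' B D' D).symm
  haveI : Algebra.FinitePresentation A' (A' ⊗[B'] D') :=
    Algebra.FinitePresentation.equiv (Algebra.IsPushout.equiv B' A' D' C').symm
  obtain ⟨F1, hF1, hF1'⟩ := exists_finset_ker (S := B) π' hπ'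
  obtain ⟨F2, hF2, hF2'⟩ := exists_finset_ker (S := A') π' hπ'
  classical
  let K0 : Ideal (MvPolynomial (Fin n) B') := Ideal.span ((F1 ∪ F2 : Finset _) : Set _)
  have hK0le : K0 ≤ RingHom.ker π' := by
    rw [Ideal.span_le]
    intro f hf
    rcases Finset.mem_union.mp (Finset.mem_coe.mp hf) with h | h
    · exact hF1 f h
    · exact hF2 f h
  have hK0 : ∀ k ∈ K0, π' k = 0 := fun k hk => hK0le hk
  haveI s1 : Subsingleton
      (B ⊗[B'] LinearMap.ker (Ideal.Quotient.liftₐ K0 π' hK0).toLinearMap) :=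
    tensor_ker_subsingleton π' hπ' K0 hK0 (fun s k hk =>
      Ideal.span_mono (Set.image_mono (fun f hf =>
        Ideal.subset_span (Finset.mem_coe.mpr (Finset.mem_union_left _ (Finset.mem_coe.mp hf)))))
        (hF1' s k hk))
  haveI s2 : Subsingleton
      (A' ⊗[B'] LinearMap.ker (Ideal.Quotient.liftₐ K0 π' hK0).toLinearMap) :=
    tensor_ker_subsingleton π' hπ' K0 hK0 (fun s k hk =>
      Ideal.span_mono (Set.image_mono (fun f hf =>
        Ideal.subset_span (Finset.mem_coe.mpr (Finset.mem_union_right _ (Finset.mem_coe.mp hf)))))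
        (hF2' s k hk))
  haveI hsub : Subsingleton (LinearMap.ker (Ideal.Quotient.liftₐ K0 π' hK0).toLinearMap) :=
    Groth.Agent.S14949.result B' B A' A hsq _
  have hker : RingHom.ker π'.toRingHom = K0 := by
    apply le_antisymm
    · intro k hk
      have hk' : π' k = 0 := hk
      have hmem : Ideal.Quotient.mk K0 k ∈
          LinearMap.ker (Ideal.Quotient.liftₐ K0 π' hK0).toLinearMap := by
        rw [LinearMap.mem_ker]
        exact hk'
      have h0 : (⟨Ideal.Quotient.mk K0 k, hmem⟩ :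
          LinearMap.ker (Ideal.Quotient.liftₐ K0 π' hK0).toLinearMap) = 0 :=
        Subsingleton.elim _ _
      exact Ideal.Quotient.eq_zero_iff_mem.mp (congrArg Subtype.val h0)
    · exact hK0le
  exact Algebra.FinitePresentation.of_surjective hπ' (hker ▸ ⟨F1 ∪ F2, rfl⟩)

theorem etale_of (hsq : EtMil.IsFibreSquare B' B A' A) (hsq' : EtMil.IsFibreSquare D' D C' C)
    (h1 : Algebra.Etale B D) (h2 : Algebra.Etale A' C') : Algebra.Etale B' D' := by
  haveI P1 : Algebra.IsPushout B' B D' D := pushout1 hsq hsq'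
  haveI P2 : Algebra.IsPushout B' A' D' C' := pushout2 hsq hsq'
  obtain ⟨hflat, hFP⟩ :=
    flat_fp_of hsq hsq' inferInstance inferInstance inferInstance inferInstance
  haveI : Subsingleton (D ⊗[D'] Ω[D'⁄B']) :=
    (KaehlerDifferential.tensorKaehlerEquiv B' B D' D).toEquiv.subsingleton
  haveI : Subsingleton (C' ⊗[D'] Ω[D'⁄B']) :=
    (KaehlerDifferential.tensorKaehlerEquiv B' A' D' C').toEquiv.subsingleton
  haveI : Subsingleton Ω[D'⁄B'] := Groth.Agent.S14949.result D' D C' C hsq' _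
  haveI : Algebra.FormallyUnramified B' D' := ⟨inferInstance⟩
  exact Algebra.Etale.of_formallyUnramified_of_flat

theorem smooth_of (hsq : EtMil.IsFibreSquare B' B A' A) (hsq' : EtMil.IsFibreSquare D' D C' C)
    (h1 : Algebra.Smooth B D) (h2 : Algebra.Smooth A' C') : Algebra.Smooth B' D' := by
  haveI P1 : Algebra.IsPushout B' B D' D := pushout1 hsq hsq'
  haveI P2 : Algebra.IsPushout B' A' D' C' := pushout2 hsq hsq'
  obtain ⟨hflat, hFP⟩ :=
    flat_fp_of hsq hsq' inferInstance inferInstance inferInstance inferInstance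
  apply Algebra.Smooth.of_formallySmooth_fiber
  intro p' _
  have hne : ¬ (Subsingleton (B ⊗[B'] p'.ResidueField) ∧
      Subsingleton (A' ⊗[B'] p'.ResidueField)) := by
    rintro ⟨h1, h2⟩
    have : Subsingleton p'.ResidueField := Groth.Agent.S14949.result B' B A' A hsq _
    exact not_subsingleton _ this
  have hsm : Algebra.Smooth p'.ResidueField (p'.Fiber D') := by
    by_cases hB : Subsingleton (B ⊗[B'] p'.ResidueField)
    · have hA : ¬ Subsingleton (A' ⊗[B'] p'.ResidueField) := fun h => hne ⟨hB, h⟩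
      haveI : Nontrivial (A' ⊗[B'] p'.ResidueField) := not_subsingleton_iff_nontrivial.mp hA
      exact smooth_fiber_of_nontrivial (S := A') (DS := C')
    · haveI : Nontrivial (B ⊗[B'] p'.ResidueField) := not_subsingleton_iff_nontrivial.mp hB
      exact smooth_fiber_of_nontrivial (S := B) (DS := D)
  exact hsm.formallySmooth

theorem main (hsq : EtMil.IsFibreSquare B' B A' A) (hsq' : EtMil.IsFibreSquare D' D C' C) :
    (Algebra.FiniteType B' D' ↔ Algebra.FiniteType B D ∧ Algebra.FiniteType A' C') ∧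
    (Module.Flat B' D' ↔ Module.Flat B D ∧ Module.Flat A' C') ∧
    (Module.Flat B' D' ∧ Algebra.FinitePresentation B' D' ↔
      (Module.Flat B D ∧ Algebra.FinitePresentation B D) ∧
        (Module.Flat A' C' ∧ Algebra.FinitePresentation A' C')) ∧
    (Algebra.Smooth B' D' ↔ Algebra.Smooth B D ∧ Algebra.Smooth A' C') ∧
    (Algebra.Etale B' D' ↔ Algebra.Etale B D ∧ Algebra.Etale A' C') := by
  haveI P1 : Algebra.IsPushout B' B D' D := pushout1 hsq hsq'
  haveI P2 : Algebra.IsPushout B' A' D' C' := pushout2 hsq hsq'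
  refine ⟨finiteType_iff hsq hsq', flat_iff hsq hsq', ⟨?_, ?_⟩, ⟨?_, ?_⟩, ⟨?_, ?_⟩⟩
  · rintro ⟨hf, hp⟩
    obtain ⟨f1, f2⟩ := (flat_iff hsq hsq').mp hf
    exact ⟨⟨f1, Algebra.FinitePresentation.equiv (Algebra.IsPushout.equiv B' B D' D)⟩,
      ⟨f2, Algebra.FinitePresentation.equiv (Algebra.IsPushout.equiv B' A' D' C')⟩⟩
  · rintro ⟨⟨a, b⟩, ⟨c, d⟩⟩
    exact flat_fp_of hsq hsq' a b c d
  · intro h
    exact ⟨Algebra.Smooth.of_equiv (Algebra.IsPushout.equiv B' B D' D),
      Algebra.Smooth.of_equiv (Algebra.IsPushout.equiv B' A' D' C')⟩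
  · rintro ⟨a, b⟩
    exact smooth_of hsq hsq' a b
  · intro h
    exact ⟨Algebra.Etale.of_equiv (Algebra.IsPushout.equiv B' B D' D),
      Algebra.Etale.of_equiv (Algebra.IsPushout.equiv B' A' D' C')⟩
  · rintro ⟨a, b⟩
    exact etale_of hsq hsq' a b

end rel

end Groth.Agent.H4.MilnorAlg2
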