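import Mathlib
import Groth.Prelude.Def_Formal2

universe u

open CategoryTheory CategoryTheory.Limits Opposite

namespace Groth.Agent.H4.MilnorLimOne

/-! ### elementwise helpers in `Ab` -/

lemma comp_hom_apply {X Y Z : AddCommGrpCat.{u}} (f : X ⟶ Y) (g : Y ⟶ Z) (x : X) :
    (f ≫ g).hom x = g.hom (f.hom x) := rfl

lemma eq_hom_apply {X Y : AddCommGrpCat.{u}} {f g : X ⟶ Y} (h : f = g) (x : X) :
    f.hom x = g.hom x := by rw [h]

lemma iso_hom_inv_apply {X Y : AddCommGrpCat.{u}} (e : X ≅ Y) (y : Y) :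
    e.hom.hom (e.inv.hom y) = y := by
  rw [← comp_hom_apply, e.inv_hom_id]; rfl

lemma iso_inv_hom_apply {X Y : AddCommGrpCat.{u}} (e : X ≅ Y) (x : X) :
    e.inv.hom (e.hom.hom x) = x := by
  rw [← comp_hom_apply, e.hom_inv_id]; rfl

section SC

variable (S : ShortComplex AddCommGrpCat.{u})

/-- class of a cycle -/
noncomputable def scls : S.g.hom.ker →+ S.homology :=
  S.homologyπ.hom.comp S.abCyclesIso.inv.hom

lemma scls_surj : Function.Surjective (scls S) := by
  intro h
  have h1 : Function.Surjective S.homologyπ.hom :=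
    (AddCommGrpCat.epi_iff_surjective _).1 inferInstance
  obtain ⟨c, rfl⟩ := h1 h
  refine ⟨S.abCyclesIso.hom.hom c, ?_⟩
  show S.homologyπ.hom (S.abCyclesIso.inv.hom (S.abCyclesIso.hom.hom c)) = _
  rw [iso_inv_hom_apply]

lemma scls_zero (z : S.g.hom.ker) : scls S z = 0 ↔ ∃ x : S.X₁, S.f.hom x = z.1 := by
  have h1 : S.abHomologyIso.hom.hom (scls S z) =
      QuotientAddGroup.mk' (AddMonoidHom.range S.abToCycles) z := by
    have := eq_hom_apply (S.abLeftHomologyData.homologyπ_comp_homologyIso_hom)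
      (S.abCyclesIso.inv.hom z)
    rw [comp_hom_apply, comp_hom_apply] at this
    show S.abLeftHomologyData.homologyIso.hom.hom (S.homologyπ.hom (S.abCyclesIso.inv.hom z)) = _
    rw [this]
    show S.abLeftHomologyData.π.hom
      (S.abCyclesIso.hom.hom (S.abCyclesIso.inv.hom z)) = _
    rw [iso_hom_inv_apply]
    rfl
  have h2 : scls S z = 0 ↔ S.abHomologyIso.hom.hom (scls S z) = 0 := by
    constructor
    · intro h; rw [h, map_zero]
    · intro h
      have := congrArg S.abHomologyIso.inv.hom h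
      rwa [iso_inv_hom_apply, map_zero] at this
  rw [h2, h1]
  show ((z : S.g.hom.ker) : S.g.hom.ker ⧸ AddMonoidHom.range S.abToCycles) = 0 ↔ _
  rw [QuotientAddGroup.eq_zero_iff, AddMonoidHom.mem_range]
  constructor
  · rintro ⟨x, hx⟩
    exact ⟨x, congrArg Subtype.val hx⟩
  · rintro ⟨x, hx⟩
    exact ⟨x, Subtype.ext hx⟩

lemma iCycles_inj : Function.Injective S.iCycles.hom :=
  (AddCommGrpCat.mono_iff_injective _).1 inferInstance

lemma scls_nat {S S' : ShortComplex AddCommGrpCat.{u}} (φ : S ⟶ S') (z : S.g.hom.ker)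
    (w : S'.g.hom.ker) (h : w.1 = φ.τ₂.hom z.1) :
    (ShortComplex.homologyMap φ).hom (scls S z) = scls S' w := by
  show (ShortComplex.homologyMap φ).hom (S.homologyπ.hom (S.abCyclesIso.inv.hom z)) =
    S'.homologyπ.hom (S'.abCyclesIso.inv.hom w)
  have h1 := eq_hom_apply (ShortComplex.homologyπ_naturality φ) (S.abCyclesIso.inv.hom z)
  rw [comp_hom_apply, comp_hom_apply] at h1
  rw [h1]
  congr 1
  apply iCycles_inj S'
  have h2 := eq_hom_apply (ShortComplex.cyclesMap_i φ) (S.abCyclesIso.inv.hom z)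
  rw [comp_hom_apply, comp_hom_apply] at h2
  rw [h2]
  have h3 : S.iCycles.hom (S.abCyclesIso.inv.hom z) = z.1 := S.abCyclesIso_inv_apply_iCycles z
  have h4 : S'.iCycles.hom (S'.abCyclesIso.inv.hom w) = w.1 := S'.abCyclesIso_inv_apply_iCycles w
  rw [h3, h4, h]

end SC

section HC

variable {ι : Type*} {c : ComplexShape ι}
  (C : HomologicalComplex AddCommGrpCat.{u} c) (i j k : ι) (hi : c.prev j = i) (hk : c.next j = k)

/-- class of a cycle in a complex -/
noncomputable def hcls : (C.d j k).hom.ker →+ C.homology j :=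
  ((HomologicalComplex.homologyFunctorIso' AddCommGrpCat.{u} c i j k hi hk).inv.app C).hom.comp
    (scls (C.sc' i j k))

lemma hcls_surj : Function.Surjective (hcls C i j k hi hk) := by
  intro h
  obtain ⟨z, hz⟩ := scls_surj (C.sc' i j k)
    (((HomologicalComplex.homologyFunctorIso' AddCommGrpCat.{u} c i j k hi hk).hom.app C).hom h)
  refine ⟨z, ?_⟩
  show ((HomologicalComplex.homologyFunctorIso' AddCommGrpCat.{u} c i j k hi hk).inv.app C).hom
    (scls (C.sc' i j k) z) = h
  rw [hz]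
  exact iso_inv_hom_apply
    ((HomologicalComplex.homologyFunctorIso' AddCommGrpCat.{u} c i j k hi hk).app C) h

lemma hcls_zero (z : (C.d j k).hom.ker) :
    hcls C i j k hi hk z = 0 ↔ ∃ x : C.X i, (C.d i j).hom x = z.1 := by
  have key := scls_zero (C.sc' i j k) z
  refine Iff.trans ?_ key
  let e : C.homology j ≅ (C.sc' i j k).homology :=
    (HomologicalComplex.homologyFunctorIso' AddCommGrpCat.{u} c i j k hi hk).app C
  have hh : hcls C i j k hi hk z = e.inv.hom (scls (C.sc' i j k) z) := rfl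
  constructor
  · intro h
    calc scls (C.sc' i j k) z = e.hom.hom (e.inv.hom (scls (C.sc' i j k) z)) :=
          (iso_hom_inv_apply e _).symm
      _ = e.hom.hom 0 := congrArg e.hom.hom (hh.symm.trans h)
      _ = 0 := map_zero _
  · intro h
    calc hcls C i j k hi hk z = e.inv.hom (scls (C.sc' i j k) z) := hh
      _ = e.inv.hom 0 := congrArg e.inv.hom h
      _ = 0 := map_zero _

lemma hcls_nat {C C' : HomologicalComplex AddCommGrpCat.{u} c} (φ : C ⟶ C')
    (z : (C.d j k).hom.ker) (w : (C'.d j k).hom.ker) (h : w.1 = (φ.f j).hom z.1) :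
    (HomologicalComplex.homologyMap φ j).hom (hcls C i j k hi hk z) = hcls C' i j k hi hk w := by
  have hn := (HomologicalComplex.homologyFunctorIso' AddCommGrpCat.{u} c i j k hi hk).inv.naturality φ
  have h1 := eq_hom_apply hn (scls (C.sc' i j k) z)
  rw [comp_hom_apply, comp_hom_apply] at h1
  show (HomologicalComplex.homologyMap φ j).hom
    (((HomologicalComplex.homologyFunctorIso' AddCommGrpCat.{u} c i j k hi hk).inv.app C).hom
      (scls (C.sc' i j k) z)) = _
  refine h1.symm.trans ?_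
  show ((HomologicalComplex.homologyFunctorIso' AddCommGrpCat.{u} c i j k hi hk).inv.app C').hom _ =
    ((HomologicalComplex.homologyFunctorIso' AddCommGrpCat.{u} c i j k hi hk).inv.app C').hom _
  congr 1
  exact scls_nat ((HomologicalComplex.shortComplexFunctor' AddCommGrpCat.{u} c i j k).map φ) z w h

end HC

section Lim

lemma tower_compat {F : ℕᵒᵖ ⥤ AddCommGrpCat.{u}} (a : ∀ n : ℕ, F.obj (op n))
    (ha : ∀ n, (F.map (homOfLE (Nat.le_succ n)).op).hom (a (n+1)) = a n) :
    ∀ (m n : ℕ) (h : m ≤ n), (F.map (homOfLE h).op).hom (a n) = a m := by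
  intro m n h
  induction n, h using Nat.le_induction with
  | base =>
    have : (homOfLE (le_refl m)).op = 𝟙 (op m) := rfl
    rw [this, F.map_id]; rfl
  | succ n h ih =>
    have : (homOfLE (Nat.le_succ_of_le h)).op =
        (homOfLE (Nat.le_succ n)).op ≫ (homOfLE h).op := rfl
    rw [this, F.map_comp, comp_hom_apply, ha, ih]

lemma lim_inj {F : ℕᵒᵖ ⥤ AddCommGrpCat.{u}} {c : Cone F} (hc : IsLimit c) (x y : c.pt)
    (h : ∀ n : ℕ, (c.π.app (op n)).hom x = (c.π.app (op n)).hom y) : x = y := by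
  apply Concrete.isLimit_ext F hc
  intro j
  obtain ⟨n⟩ := j
  exact h n

lemma lim_ex {F : ℕᵒᵖ ⥤ AddCommGrpCat.{u}} {c : Cone F} (hc : IsLimit c)
    (a : ∀ n : ℕ, F.obj (op n))
    (ha : ∀ n, (F.map (homOfLE (Nat.le_succ n)).op).hom (a (n+1)) = a n) :
    ∃ x : c.pt, ∀ n, (c.π.app (op n)).hom x = a n := by
  have hc' := isLimitOfPreserves (forget AddCommGrpCat.{u}) hc
  let s : (F ⋙ forget AddCommGrpCat.{u}).sections := ⟨fun j => a j.unop, by
    intro j j' f
    obtain ⟨n⟩ := j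
    obtain ⟨m⟩ := j'
    have hmn : m ≤ n := leOfHom f.unop
    have hf : f = (homOfLE hmn).op :=
      (Quiver.Hom.op_unop f).symm.trans (congrArg Quiver.Hom.op (Subsingleton.elim _ _))
    subst hf
    exact tower_compat a ha m n hmn⟩
  refine ⟨(Types.isLimitEquivSections hc').symm s, fun n => ?_⟩
  exact Types.isLimitEquivSections_symm_apply hc' s (op n)

end Lim

lemma L1 {G : ℕ → Type*} [∀ n, AddCommGroup (G n)] (t : ∀ n, G (n+1) →+ G n)
    (ht : ∀ n, Function.Surjective (t n)) (r : ∀ n, G n) :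
    ∃ s : ∀ n, G n, ∀ n, s n - t n (s (n+1)) = r n := by
  let s : ∀ n, G n := fun n =>
    Nat.rec (motive := fun n => G n) (0 : G 0) (fun n sn => Classical.choose (ht n (sn - r n))) n
  refine ⟨s, fun n => ?_⟩
  have : t n (s (n+1)) = s n - r n := Classical.choose_spec (ht n (s n - r n))
  rw [this]; abel


section ALG
variable {E B C D : ℕ → Type u} [∀ n, AddCommGroup (E n)] [∀ n, AddCommGroup (B n)]
  [∀ n, AddCommGroup (C n)] [∀ n, AddCommGroup (D n)]
  (dE : ∀ n, E n →+ B n) (dB : ∀ n, B n →+ C n) (dC : ∀ n, C n →+ D n)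
  (tE : ∀ n, E (n+1) →+ E n) (tB : ∀ n, B (n+1) →+ B n) (tC : ∀ n, C (n+1) →+ C n)
  (tD : ∀ n, D (n+1) →+ D n)
  (hdd1 : ∀ n x, dB n (dE n x) = 0) (hdd2 : ∀ n x, dC n (dB n x) = 0)
  (hcE : ∀ n x, tB n (dE (n+1) x) = dE n (tE n x))
  (hcB : ∀ n x, tC n (dB (n+1) x) = dB n (tB n x))
  (hcC : ∀ n x, tD n (dC (n+1) x) = dC n (tC n x))
  (surjE : ∀ n, Function.Surjective (tE n)) (surjB : ∀ n, Function.Surjective (tB n))
  {TB TC TD : Type u} [AddCommGroup TB] [AddCommGroup TC] [AddCommGroup TD]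
  (dTB : TB →+ TC) (dTC : TC →+ TD) (πB : ∀ n, TB →+ B n) (πC : ∀ n, TC →+ C n)
  (πD : ∀ n, TD →+ D n)
  (hπB : ∀ n x, πC n (dTB x) = dB n (πB n x)) (hπC : ∀ n x, πD n (dTC x) = dC n (πC n x))
  (wB : ∀ n x, tB n (πB (n+1) x) = πB n x) (wC : ∀ n x, tC n (πC (n+1) x) = πC n x)
  (injC : ∀ x y : TC, (∀ n, πC n x = πC n y) → x = y)
  (injD : ∀ x y : TD, (∀ n, πD n x = πD n y) → x = y)
  (exB : ∀ a : ∀ n, B n, (∀ n, tB n (a (n+1)) = a n) → ∃ x : TB, ∀ n, πB n x = a n)
  (exC : ∀ a : ∀ n, C n, (∀ n, tC n (a (n+1)) = a n) → ∃ x : TC, ∀ n, πC n x = a n)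
  {HT : Type u} [AddCommGroup HT] (clsT : dTC.ker →+ HT)
  (clsT_surj : Function.Surjective clsT)
  (clsT_zero : ∀ z : dTC.ker, clsT z = 0 ↔ ∃ x, dTB x = z.1)
  {Hp : ℕ → Type u} [∀ n, AddCommGroup (Hp n)] (clsp : ∀ n, (dC n).ker →+ Hp n)
  (clsp_surj : ∀ n, Function.Surjective (clsp n))
  (clsp_zero : ∀ n (z : (dC n).ker), clsp n z = 0 ↔ ∃ x, dB n x = z.1)
  {Hq : ℕ → Type u} [∀ n, AddCommGroup (Hq n)] (clsq : ∀ n, (dB n).ker →+ Hq n)
  (clsq_surj : ∀ n, Function.Surjective (clsq n))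
  (clsq_zero : ∀ n (z : (dB n).ker), clsq n z = 0 ↔ ∃ x, dE n x = z.1)
  (up : ∀ n, Hp (n+1) →+ Hp n)
  (up_nat : ∀ n (w : (dC (n+1)).ker) (w' : (dC n).ker), w'.1 = tC n w.1 →
    up n (clsp (n+1) w) = clsp n w')
  (uq : ∀ n, Hq (n+1) →+ Hq n)
  (uq_nat : ∀ n (w : (dB (n+1)).ker) (w' : (dB n).ker), w'.1 = tB n w.1 →
    uq n (clsq (n+1) w) = clsq n w')
  {L' : Type u} [AddCommGroup L'] (ρ : ∀ n, L' →+ Hp n)
  (injL : ∀ y y' : L', (∀ n, ρ n y = ρ n y') → y = y')
  (compatL : ∀ n y, up n (ρ (n+1) y) = ρ n y)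
  (θ : HT →+ L')
  (hθ : ∀ n (z : dTC.ker) (w : (dC n).ker), w.1 = πC n z.1 → ρ n (θ (clsT z)) = clsp n w)

include hdd2 hcB hcC surjB hπC wC injD exC clsp_surj clsp_zero up_nat injL compatL hθ in
theorem alg_surj : Function.Surjective θ := by
  intro y
  choose z hz using fun n => clsp_surj n (ρ n y)
  have hb : ∀ n, ∃ b : B n, dB n b = tC n (z (n+1)).1 - (z n).1 := by
    intro n
    have hmem : tC n (z (n+1)).1 ∈ (dC n).ker := by
      rw [AddMonoidHom.mem_ker, ← hcC, AddMonoidHom.mem_ker.1 (z (n+1)).2, map_zero]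
    have h1 : up n (clsp (n+1) (z (n+1))) = clsp n ⟨_, hmem⟩ := up_nat n _ _ rfl
    have h2 : clsp n (⟨_, hmem⟩ - z n) = 0 := by
      rw [map_sub, ← h1, hz, hz, compatL, sub_self]
    obtain ⟨b, hb⟩ := (clsp_zero n _).1 h2
    exact ⟨b, hb⟩
  choose b hb using hb
  obtain ⟨s, hs⟩ := L1 tB surjB b
  let z' : ∀ n, C n := fun n => (z n).1 + dB n (s n)
  have hz'c : ∀ n, tC n (z' (n+1)) = z' n := by
    intro n
    show tC n ((z (n+1)).1 + dB (n+1) (s (n+1))) = (z n).1 + dB n (s n)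
    have e1 : tC n (z (n+1)).1 = (z n).1 + dB n (b n) := by rw [hb n]; abel
    have e2 : dB n (s n) = dB n (b n) + dB n (tB n (s (n+1))) := by
      rw [← map_add, ← hs n]; congr 1; abel
    rw [map_add, hcB, e1, e2]; abel
  obtain ⟨zT, hzT⟩ := exC z' hz'c
  have hz'k : ∀ n, dC n (z' n) = 0 := by
    intro n
    show dC n ((z n).1 + dB n (s n)) = 0
    rw [map_add, hdd2, AddMonoidHom.mem_ker.1 (z n).2, add_zero]
  have hzTk : zT ∈ dTC.ker := by
    rw [AddMonoidHom.mem_ker]
    apply injD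
    intro n
    rw [hπC, hzT, hz'k, map_zero]
  refine ⟨clsT ⟨zT, hzTk⟩, ?_⟩
  apply injL
  intro n
  have hw : z' n ∈ (dC n).ker := AddMonoidHom.mem_ker.2 (hz'k n)
  rw [hθ n ⟨zT, hzTk⟩ ⟨z' n, hw⟩ (hzT n).symm, ← hz n, ← sub_eq_zero, ← map_sub, clsp_zero]
  refine ⟨s n, ?_⟩
  show dB n (s n) = (z n).1 + dB n (s n) - (z n).1
  abel

include hdd1 hdd2 hcE hcB surjE surjB hπB hπC wB wC injC injD exB exC clsT_surj clsT_zero
  clsp_zero clsq_surj clsq_zero uq_nat injL hθ in
theorem alg_ker : Nonempty (θ.ker ≃+ Formal2.limOne Hq uq) := by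
  -- the auxiliary group
  let X' : AddSubgroup ((∀ n, B n) × TC) :=
    { carrier := {v | ∀ n, πC n v.2 = dB n (v.1 n)}
      zero_mem' := by intro n; simp
      add_mem' := by
        intro a b ha hb n
        show πC n (a.2 + b.2) = dB n (a.1 n + b.1 n)
        rw [map_add, map_add, ha n, hb n]
      neg_mem' := by
        intro a ha n
        show πC n (-a.2) = dB n (-(a.1 n))
        rw [map_neg, map_neg, ha n] }
  have hX' : ∀ v : X', ∀ n, πC n v.1.2 = dB n (v.1.1 n) := fun v => v.2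
  -- Y0
  obtain ⟨Y0, hY0⟩ : ∃ Y0 : X' →+ dTC.ker, ∀ v, (Y0 v).1 = v.1.2 := by
    refine ⟨AddMonoidHom.codRestrict ((AddMonoidHom.snd _ _).comp X'.subtype) dTC.ker ?_,
      fun v => rfl⟩
    intro v
    rw [AddMonoidHom.mem_ker]
    apply injD
    intro n
    rw [hπC]
    show dC n (πC n v.1.2) = πD n 0
    rw [hX' v n, hdd2, map_zero]
  -- kappa
  have hκmem : ∀ (v : X') n, v.1.1 n - tB n (v.1.1 (n+1)) ∈ (dB n).ker := by
    intro v n
    rw [AddMonoidHom.mem_ker, map_sub, ← hcB, ← hX' v n, ← hX' v (n+1), wC, sub_self]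
  obtain ⟨W0, hW0⟩ : ∃ W0 : X' →+ (∀ n, Hq n), ∀ v n, W0 v n = clsq n ⟨_, hκmem v n⟩ := by
    refine ⟨AddMonoidHom.mk' (fun v n => clsq n ⟨_, hκmem v n⟩) ?_, fun v n => rfl⟩
    intro a b
    funext n
    show clsq n ⟨_, hκmem (a + b) n⟩ = clsq n ⟨_, hκmem a n⟩ + clsq n ⟨_, hκmem b n⟩
    rw [← map_add]
    congr 1
    apply Subtype.ext
    show (a.1.1 n + b.1.1 n) - tB n (a.1.1 (n+1) + b.1.1 (n+1)) =
      (a.1.1 n - tB n (a.1.1 (n+1))) + (b.1.1 n - tB n (b.1.1 (n+1)))
    rw [map_add]; abel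
  -- Y : X' → ker θ
  have hYmem : ∀ v : X', clsT (Y0 v) ∈ θ.ker := by
    intro v
    rw [AddMonoidHom.mem_ker]
    apply injL
    intro n
    have hw : πC n (Y0 v).1 ∈ (dC n).ker := by
      rw [AddMonoidHom.mem_ker, ← hπC, AddMonoidHom.mem_ker.1 (Y0 v).2, map_zero]
    rw [hθ n (Y0 v) ⟨_, hw⟩ rfl, map_zero, clsp_zero]
    refine ⟨v.1.1 n, ?_⟩
    show dB n (v.1.1 n) = πC n (Y0 v).1
    rw [hY0, hX' v n]
  let Y : X' →+ θ.ker := AddMonoidHom.codRestrict (clsT.comp Y0) θ.ker hYmem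
  have hY : ∀ v, (Y v).1 = clsT (Y0 v) := fun v => rfl
  let W : X' →+ Formal2.limOne Hq uq :=
    (QuotientAddGroup.mk' (Formal2.towerDiff Hq uq).range).comp W0
  have hW : ∀ v, W v = QuotientAddGroup.mk' (Formal2.towerDiff Hq uq).range (W0 v) :=
    fun v => rfl
  have hYsurj : Function.Surjective Y := by
    intro h
    obtain ⟨z, hz⟩ := clsT_surj h.1
    have hx : ∀ n, ∃ x : B n, dB n x = πC n z.1 := by
      intro n
      have hw : πC n z.1 ∈ (dC n).ker := by
        rw [AddMonoidHom.mem_ker, ← hπC, AddMonoidHom.mem_ker.1 z.2, map_zero]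
      have h1 := hθ n z ⟨_, hw⟩ rfl
      rw [hz, AddMonoidHom.mem_ker.1 h.2, map_zero] at h1
      exact (clsp_zero n _).1 h1.symm
    choose x hx using hx
    let v : X' := ⟨(x, z.1), fun n => (hx n).symm⟩
    refine ⟨v, Subtype.ext ?_⟩
    rw [hY, ← hz]
    congr 1
    exact Subtype.ext (hY0 v)
  have hWsurj : Function.Surjective W := by
    intro w
    obtain ⟨c, rfl⟩ := QuotientAddGroup.mk_surjective w
    choose wn hwn using fun n => clsq_surj n (c n)
    obtain ⟨x, hx⟩ := L1 tB surjB (fun n => (wn n).1)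
    have hcomp : ∀ n, tC n (dB (n+1) (x (n+1))) = dB n (x n) := by
      intro n
      have e1 : tB n (x (n+1)) = x n - (wn n).1 := by rw [← hx n]; abel
      rw [hcB, e1, map_sub, AddMonoidHom.mem_ker.1 (wn n).2, sub_zero]
    obtain ⟨y, hy⟩ := exC (fun n => dB n (x n)) hcomp
    let v : X' := ⟨(x, y), fun n => hy n⟩
    refine ⟨v, ?_⟩
    rw [hW]
    show ((W0 v : ∀ n, Hq n) : Formal2.limOne Hq uq) = (c : Formal2.limOne Hq uq)
    congr 1
    funext n
    rw [hW0, ← hwn n]
    congr 1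
    exact Subtype.ext (hx n)
  have hker : Y.ker = W.ker := by
    ext v
    rw [AddMonoidHom.mem_ker, AddMonoidHom.mem_ker]
    constructor
    · intro h
      have h1 : clsT (Y0 v) = 0 := by rw [← hY, h]; rfl
      obtain ⟨a, ha⟩ := (clsT_zero _).1 h1
      rw [hY0] at ha
      have hv'mem : ∀ n, v.1.1 n - πB n a ∈ (dB n).ker := by
        intro n
        rw [AddMonoidHom.mem_ker, map_sub, ← hπB, ha, hX' v n, sub_self]
      rw [hW]
      show ((W0 v : ∀ n, Hq n) : Formal2.limOne Hq uq) = 0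
      rw [QuotientAddGroup.eq_zero_iff]
      refine ⟨fun n => clsq n ⟨_, hv'mem n⟩, ?_⟩
      funext n
      show clsq n ⟨_, hv'mem n⟩ - uq n (clsq (n+1) ⟨_, hv'mem (n+1)⟩) = W0 v n
      have hm : tB n (v.1.1 (n+1) - πB (n+1) a) ∈ (dB n).ker := by
        rw [AddMonoidHom.mem_ker, ← hcB, AddMonoidHom.mem_ker.1 (hv'mem (n+1)), map_zero]
      rw [uq_nat n ⟨_, hv'mem (n+1)⟩ ⟨_, hm⟩ rfl, hW0, ← map_sub]
      congr 1
      apply Subtype.ext
      show (v.1.1 n - πB n a) - tB n (v.1.1 (n+1) - πB (n+1) a) =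
        v.1.1 n - tB n (v.1.1 (n+1))
      rw [map_sub, wB]; abel
    · intro h
      rw [hW] at h
      have h1 : W0 v ∈ (Formal2.towerDiff Hq uq).range :=
        (QuotientAddGroup.eq_zero_iff _).1 h
      obtain ⟨c, hc⟩ := h1
      have hc' : ∀ n, c n - uq n (c (n+1)) = W0 v n := fun n => congrFun hc n
      choose v' hv' using fun n => clsq_surj n (c n)
      have hm : ∀ n, tB n (v' (n+1)).1 ∈ (dB n).ker := by
        intro n
        rw [AddMonoidHom.mem_ker, ← hcB, AddMonoidHom.mem_ker.1 (v' (n+1)).2, map_zero]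
      have hb : ∀ n, ∃ b : E n, dE n b =
          (v.1.1 n - tB n (v.1.1 (n+1))) - (v' n).1 + tB n (v' (n+1)).1 := by
        intro n
        have h2 : clsq n ((⟨_, hκmem v n⟩ : (dB n).ker) - v' n + ⟨_, hm n⟩) = 0 := by
          rw [map_add, map_sub, ← hW0, ← hc' n, hv', ← uq_nat n (v' (n+1)) ⟨_, hm n⟩ rfl,
            hv']
          abel
        exact (clsq_zero n _).1 h2
      choose b hb using hb
      obtain ⟨e, he⟩ := L1 tE surjE (fun n => - b n)
      let a : ∀ n, B n := fun n => v.1.1 n - (v' n).1 + dE n (e n)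
      have hacomp : ∀ n, tB n (a (n+1)) = a n := by
        intro n
        show tB n (v.1.1 (n+1) - (v' (n+1)).1 + dE (n+1) (e (n+1))) =
          v.1.1 n - (v' n).1 + dE n (e n)
        have key := hb n
        have he' : dE n (e n) - dE n (tE n (e (n+1))) = - dE n (b n) := by
          rw [← map_sub, he n, map_neg]
        rw [map_add, map_sub, hcE]
        linear_combination (norm := module) key - he'
      obtain ⟨aT, haT⟩ := exB a hacomp
      have h3 : dTB aT = (Y0 v).1 := by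
        apply injC
        intro n
        rw [hπB, haT, hY0, hX' v n]
        show dB n (v.1.1 n - (v' n).1 + dE n (e n)) = dB n (v.1.1 n)
        rw [map_add, map_sub, hdd1, AddMonoidHom.mem_ker.1 (v' n).2, sub_zero, add_zero]
      apply Subtype.ext
      rw [hY]
      exact (clsT_zero _).2 ⟨aT, h3⟩
  exact ⟨(QuotientAddGroup.quotientKerEquivOfSurjective Y hYsurj).symm.trans
    ((QuotientAddGroup.quotientAddEquivOfEq hker).trans
      (QuotientAddGroup.quotientKerEquivOfSurjective W hWsurj))⟩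

end ALG

section Final

lemma dd_apply {ι : Type*} {c : ComplexShape ι} (C : HomologicalComplex AddCommGrpCat.{u} c)
    (i j k : ι) (x : C.X i) : (C.d j k).hom ((C.d i j).hom x) = 0 := by
  have := eq_hom_apply (C.d_comp_d i j k) x
  rw [comp_hom_apply] at this
  rw [this]; rfl

lemma comm_apply {ι : Type*} {c : ComplexShape ι} {C C' : HomologicalComplex AddCommGrpCat.{u} c}
    (φ : C ⟶ C') (i j : ι) (x : C.X i) :
    (φ.f j).hom ((C.d i j).hom x) = (C'.d i j).hom ((φ.f i).hom x) := by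
  have := eq_hom_apply (φ.comm i j) x
  rw [comp_hom_apply, comp_hom_apply] at this
  exact this.symm

theorem main (K : ℕᵒᵖ ⥤ HomologicalComplex AddCommGrpCat.{u} (ComplexShape.up ℤ))
    (hK : ∀ (n : ℕ) (q : ℤ), Function.Surjective ((K.map (homOfLE (Nat.le_succ n)).op).f q).hom)
    (p q : ℤ) (hqp : q + 1 = p) :
    Function.Surjective (limit.post K (HomologicalComplex.homologyFunctor _ _ p)).hom ∧
      Nonempty ((limit.post K (HomologicalComplex.homologyFunctor _ _ p)).hom.ker ≃+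
        Formal2.limOne (fun n => (K.obj (op n)).homology q)
          (fun n => (HomologicalComplex.homologyMap (K.map (homOfLE (Nat.le_succ n)).op) q).hom)) := by
  have hq0 : (ComplexShape.up ℤ).prev q = q - 1 := CochainComplex.prev ℤ q
  have hnq : (ComplexShape.up ℤ).next q = p := by rw [CochainComplex.next ℤ q]; exact hqp
  have hpp : (ComplexShape.up ℤ).prev p = q := by rw [CochainComplex.prev ℤ p]; omega
  have hnp : (ComplexShape.up ℤ).next p = p + 1 := CochainComplex.next ℤ p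
  have hlim : ∀ i : ℤ, IsLimit ((HomologicalComplex.eval AddCommGrpCat.{u}
      (ComplexShape.up ℤ) i).mapCone (limit.cone K)) :=
    fun i => isLimitOfPreserves _ (limit.isLimit K)
  have hw : ∀ (n : ℕ) (i : ℤ) (x : (limit K).X i),
      ((K.map (homOfLE (Nat.le_succ n)).op).f i).hom (((limit.π K (op (n+1))).f i).hom x) =
        ((limit.π K (op n)).f i).hom x := by
    intro n i x
    exact congrArg (fun φ : limit K ⟶ K.obj (op n) => (φ.f i).hom x)
      (limit.w K (homOfLE (Nat.le_succ n)).op)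
  have hinj : ∀ (i : ℤ) (x y : (limit K).X i),
      (∀ n : ℕ, ((limit.π K (op n)).f i).hom x = ((limit.π K (op n)).f i).hom y) → x = y :=
    fun i x y h => lim_inj (hlim i) x y h
  have hex : ∀ (i : ℤ) (a : ∀ n : ℕ, (K.obj (op n)).X i),
      (∀ n, ((K.map (homOfLE (Nat.le_succ n)).op).f i).hom (a (n+1)) = a n) →
      ∃ x : (limit K).X i, ∀ n, ((limit.π K (op n)).f i).hom x = a n :=
    fun i a ha => lim_ex (hlim i) a ha
  have hθ : ∀ (n : ℕ) (z : ((limit K).d p (p+1)).hom.ker)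
      (w : ((K.obj (op n)).d p (p+1)).hom.ker), w.1 = ((limit.π K (op n)).f p).hom z.1 →
      (limit.π (K ⋙ HomologicalComplex.homologyFunctor _ _ p) (op n)).hom
        ((limit.post K (HomologicalComplex.homologyFunctor _ _ p)).hom
          (hcls (limit K) q p (p+1) hpp hnp z)) = hcls (K.obj (op n)) q p (p+1) hpp hnp w := by
    intro n z w h
    have h1 := eq_hom_apply (limit.post_π K (HomologicalComplex.homologyFunctor _ _ p) (op n))
      (hcls (limit K) q p (p+1) hpp hnp z)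
    rw [comp_hom_apply] at h1
    rw [h1]
    exact hcls_nat q p (p+1) hpp hnp (limit.π K (op n)) z w h
  have hinjL : ∀ y y' : (limit (K ⋙ HomologicalComplex.homologyFunctor _ _ p) : AddCommGrpCat.{u}),
      (∀ n : ℕ, (limit.π (K ⋙ HomologicalComplex.homologyFunctor _ _ p) (op n)).hom y =
        (limit.π (K ⋙ HomologicalComplex.homologyFunctor _ _ p) (op n)).hom y') → y = y' :=
    fun y y' h => lim_inj (limit.isLimit _) y y' h
  have hcompatL : ∀ (n : ℕ)
      (y : (limit (K ⋙ HomologicalComplex.homologyFunctor _ _ p) : AddCommGrpCat.{u})),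
      (HomologicalComplex.homologyMap (K.map (homOfLE (Nat.le_succ n)).op) p).hom
        ((limit.π (K ⋙ HomologicalComplex.homologyFunctor _ _ p) (op (n+1))).hom y) =
      (limit.π (K ⋙ HomologicalComplex.homologyFunctor _ _ p) (op n)).hom y := by
    intro n y
    have := eq_hom_apply (limit.w (K ⋙ HomologicalComplex.homologyFunctor _ _ p)
      (homOfLE (Nat.le_succ n)).op) y
    rw [comp_hom_apply] at this
    exact this
  refine ⟨?_, ?_⟩
  · exact alg_surj
      (dB := fun n => ((K.obj (op n)).d q p).hom)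
      (dC := fun n => ((K.obj (op n)).d p (p+1)).hom)
      (tB := fun n => ((K.map (homOfLE (Nat.le_succ n)).op).f q).hom)
      (tC := fun n => ((K.map (homOfLE (Nat.le_succ n)).op).f p).hom)
      (tD := fun n => ((K.map (homOfLE (Nat.le_succ n)).op).f (p+1)).hom)
      (hdd2 := fun n x => dd_apply _ _ _ _ x)
      (hcB := fun n x => comm_apply _ _ _ x)
      (hcC := fun n x => comm_apply _ _ _ x)
      (surjB := fun n => hK n q)
      (dTC := ((limit K).d p (p+1)).hom)
      (πC := fun n => ((limit.π K (op n)).f p).hom)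
      (πD := fun n => ((limit.π K (op n)).f (p+1)).hom)
      (hπC := fun n x => comm_apply _ _ _ x)
      (wC := fun n x => hw n p x)
      (injD := hinj (p+1))
      (exC := hex p)
      (clsT := hcls (limit K) q p (p+1) hpp hnp)
      (clsp := fun n => hcls (K.obj (op n)) q p (p+1) hpp hnp)
      (clsp_surj := fun n => hcls_surj _ _ _ _ _ _)
      (clsp_zero := fun n z => hcls_zero _ _ _ _ _ _ z)
      (up := fun n => (HomologicalComplex.homologyMap (K.map (homOfLE (Nat.le_succ n)).op) p).hom)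
      (up_nat := fun n w w' h => hcls_nat q p (p+1) hpp hnp _ w w' h)
      (ρ := fun n => (limit.π (K ⋙ HomologicalComplex.homologyFunctor _ _ p) (op n)).hom)
      (injL := hinjL)
      (compatL := hcompatL)
      (θ := (limit.post K (HomologicalComplex.homologyFunctor _ _ p)).hom)
      (hθ := hθ)
  · exact alg_ker
      (dE := fun n => ((K.obj (op n)).d (q-1) q).hom)
      (dB := fun n => ((K.obj (op n)).d q p).hom)
      (dC := fun n => ((K.obj (op n)).d p (p+1)).hom)
      (tE := fun n => ((K.map (homOfLE (Nat.le_succ n)).op).f (q-1)).hom)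
      (tB := fun n => ((K.map (homOfLE (Nat.le_succ n)).op).f q).hom)
      (tC := fun n => ((K.map (homOfLE (Nat.le_succ n)).op).f p).hom)
      (hdd1 := fun n x => dd_apply _ _ _ _ x)
      (hdd2 := fun n x => dd_apply _ _ _ _ x)
      (hcE := fun n x => comm_apply _ _ _ x)
      (hcB := fun n x => comm_apply _ _ _ x)
      (surjE := fun n => hK n (q-1))
      (surjB := fun n => hK n q)
      (dTB := ((limit K).d q p).hom)
      (dTC := ((limit K).d p (p+1)).hom)
      (πB := fun n => ((limit.π K (op n)).f q).hom)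
      (πC := fun n => ((limit.π K (op n)).f p).hom)
      (πD := fun n => ((limit.π K (op n)).f (p+1)).hom)
      (hπB := fun n x => comm_apply _ _ _ x)
      (hπC := fun n x => comm_apply _ _ _ x)
      (wB := fun n x => hw n q x)
      (wC := fun n x => hw n p x)
      (injC := hinj p)
      (injD := hinj (p+1))
      (exB := hex q)
      (exC := hex p)
      (clsT := hcls (limit K) q p (p+1) hpp hnp)
      (clsT_surj := hcls_surj _ _ _ _ _ _)
      (clsT_zero := fun z => hcls_zero _ _ _ _ _ _ z)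
      (clsp := fun n => hcls (K.obj (op n)) q p (p+1) hpp hnp)
      (clsp_zero := fun n z => hcls_zero _ _ _ _ _ _ z)
      (clsq := fun n => hcls (K.obj (op n)) (q-1) q p hq0 hnq)
      (clsq_surj := fun n => hcls_surj _ _ _ _ _ _)
      (clsq_zero := fun n z => hcls_zero _ _ _ _ _ _ z)
      (uq := fun n => (HomologicalComplex.homologyMap (K.map (homOfLE (Nat.le_succ n)).op) q).hom)
      (uq_nat := fun n w w' h => hcls_nat (q-1) q p hq0 hnq _ w w' h)
      (ρ := fun n => (limit.π (K ⋙ HomologicalComplex.homologyFunctor _ _ p) (op n)).hom)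
      (injL := hinjL)
      (θ := (limit.post K (HomologicalComplex.homologyFunctor _ _ p)).hom)
      (hθ := hθ)

end Final

end Groth.Agent.H4.MilnorLimOne
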