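import Mathlib
import Groth.Prelude.Def_EtMil
import Groth.Agent.S2019
import Groth.Agent.S14949
import Groth.Agent.S14952
import Groth.Agent.S6921
import Groth.Agent.H4.MilnorAlg1

open TensorProduct

universe u

namespace Groth.Agent.H4.MilnorRelFP

open Groth.Agent.H4.MilnorAlg1

section gen

variable {R S D' DS : Type u} [CommRing R] [CommRing S] [CommRing D'] [CommRing DS]
  [Algebra R S] [Algebra R D'] [Algebra S DS] [Algebra R DS] [Algebra D' DS]
  [IsScalarTower R S DS] [IsScalarTower R D' DS] [Algebra.IsPushout R S D' DS]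

section A

variable {X Y : Type u} [AddCommGroup X] [Module D' X] [Module R X] [IsScalarTower R D' X]
  [AddCommGroup Y] [Module DS Y] [Module D' Y] [IsScalarTower D' DS Y]
  [Module S Y] [IsScalarTower S DS Y] [Module R Y] [IsScalarTower R S Y] [IsScalarTower R D' Y]

include R in
theorem smul_mem_span_image (p : X →ₗ[D'] Y) (X₀ : Submodule D' X) (d : DS) (z : Y)
    (hz : z ∈ Submodule.span S (p '' (X₀ : Set X))) :
    d • z ∈ Submodule.span S (p '' (X₀ : Set X)) := by
  have h1 : ∀ (d' : D') (z : Y), z ∈ Submodule.span S (p '' (X₀ : Set X)) →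
      (algebraMap D' DS d') • z ∈ Submodule.span S (p '' (X₀ : Set X)) := by
    intro d' z hz
    induction hz using Submodule.span_induction with
    | mem y hy =>
      obtain ⟨x, hx, rfl⟩ := hy
      apply Submodule.subset_span
      refine ⟨d' • x, X₀.smul_mem d' hx, ?_⟩
      rw [map_smul, algebraMap_smul]
    | zero => rw [smul_zero]; exact Submodule.zero_mem _
    | add a b _ _ ha hb => rw [smul_add]; exact Submodule.add_mem _ ha hb
    | smul s a _ ha =>
      rw [smul_algebra_smul_comm]
      exact Submodule.smul_mem _ s ha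
  obtain ⟨t, rfl⟩ := (Algebra.IsPushout.equiv R S D' DS).surjective d
  induction t using TensorProduct.induction_on with
  | zero => rw [map_zero, zero_smul]; exact Submodule.zero_mem _
  | tmul s d' =>
    rw [Algebra.IsPushout.equiv_tmul, mul_smul, algebraMap_smul DS s]
    exact Submodule.smul_mem _ s (h1 d' z hz)
  | add a b ha hb => rw [map_add, add_smul]; exact Submodule.add_mem _ ha hb

include R in
theorem span_DS_le (p : X →ₗ[D'] Y) (X₀ : Submodule D' X) (y : Y)
    (hy : y ∈ Submodule.span DS (p '' (X₀ : Set X))) :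
    y ∈ Submodule.span S (p '' (X₀ : Set X)) := by
  induction hy using Submodule.span_induction with
  | mem y hy => exact Submodule.subset_span hy
  | zero => exact Submodule.zero_mem _
  | add a b _ _ ha hb => exact Submodule.add_mem _ ha hb
  | smul d a _ ha => exact smul_mem_span_image (R := R) p X₀ d a ha

theorem exists_of_mem_span (p : X →ₗ[D'] Y) (X₀ : Submodule D' X) (y : Y)
    (hy : y ∈ Submodule.span S (p '' (X₀ : Set X))) :
    ∃ w : S ⊗[R] (X₀.restrictScalars R),
      LinearMap.liftBaseChange S (p.restrictScalars R)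
        (LinearMap.baseChange S (X₀.restrictScalars R).subtype w) = y := by
  induction hy using Submodule.span_induction with
  | mem y hy =>
    obtain ⟨x, hx, rfl⟩ := hy
    refine ⟨(1 : S) ⊗ₜ[R] (⟨x, hx⟩ : X₀.restrictScalars R), ?_⟩
    rw [LinearMap.baseChange_tmul, LinearMap.liftBaseChange_tmul, one_smul]
    rfl
  | zero => exact ⟨0, by rw [map_zero, map_zero]⟩
  | add a b _ _ ha hb =>
    obtain ⟨wa, rfl⟩ := ha
    obtain ⟨wb, rfl⟩ := hb
    exact ⟨wa + wb, by rw [map_add, map_add]⟩
  | smul s a _ ha =>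
    obtain ⟨wa, rfl⟩ := ha
    exact ⟨s • wa, by rw [map_smul, map_smul]⟩

theorem liftBaseChange_mem_span (p : X →ₗ[D'] Y) (z : S ⊗[R] X) :
    LinearMap.liftBaseChange S (p.restrictScalars R) z ∈ Submodule.span DS (Set.range p) := by
  induction z using TensorProduct.induction_on with
  | zero => rw [map_zero]; exact Submodule.zero_mem _
  | tmul s x =>
    rw [LinearMap.liftBaseChange_tmul, ← algebraMap_smul DS s]
    exact Submodule.smul_mem _ _ (Submodule.subset_span ⟨x, rfl⟩)
  | add a b ha hb => rw [map_add]; exact Submodule.add_mem _ ha hb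

theorem exists_finset_surj (p : X →ₗ[D'] Y)
    (hc : Function.Injective (LinearMap.liftBaseChange S (p.restrictScalars R)))
    (hfg : (Submodule.span DS (Set.range p)).FG) :
    ∃ G : Finset X, ∀ X₀ : Submodule D' X, (∀ g ∈ G, g ∈ X₀) →
      Function.Surjective (LinearMap.lTensor S (X₀.restrictScalars R).subtype) := by
  classical
  obtain ⟨T, hT1, hT2⟩ := (Submodule.fg_span_iff_fg_span_finset_subset _).mp hfg
  rw [← Set.image_univ] at hT1
  obtain ⟨G, -, hG⟩ := Finset.subset_set_image_iff.mp hT1
  refine ⟨G, fun X₀ hG0 z => ?_⟩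
  have h1 : LinearMap.liftBaseChange S (p.restrictScalars R) z ∈
      Submodule.span DS (Set.range p) := liftBaseChange_mem_span p z
  rw [hT2, ← hG, Finset.coe_image] at h1
  have h2 : LinearMap.liftBaseChange S (p.restrictScalars R) z ∈
      Submodule.span DS (p '' (X₀ : Set X)) :=
    Submodule.span_mono (Set.image_mono (fun g hg => hG0 g (Finset.mem_coe.mp hg))) h1
  obtain ⟨w, hw⟩ := exists_of_mem_span (R := R) (S := S) p X₀ _
    (span_DS_le (R := R) (S := S) p X₀ _ h2)
  refine ⟨w, hc ?_⟩
  have e : LinearMap.lTensor S (X₀.restrictScalars R).subtype w =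
      LinearMap.baseChange S (X₀.restrictScalars R).subtype w := rfl
  rw [e, hw]

end A

theorem ker_surj
    {L' N F' : Type u} [AddCommGroup L'] [Module D' L'] [Module R L'] [IsScalarTower R D' L']
    [Module.Flat R L']
    [AddCommGroup N] [Module DS N] [Module D' N] [IsScalarTower D' DS N]
    [Module S N] [IsScalarTower S DS N] [Module R N] [IsScalarTower R S N] [IsScalarTower R D' N]
    [Module.FinitePresentation DS N]
    [AddCommGroup F'] [Module D' F'] [Module R F'] [IsScalarTower R D' F'] [Module.Finite D' F']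
    (p₁ : L' →ₗ[D'] N)
    (hcL : Function.Bijective (LinearMap.liftBaseChange S (p₁.restrictScalars R)))
    (π : F' →ₗ[D'] L') (hπ : Function.Surjective π) :
    ∃ G : Finset (LinearMap.ker π), ∀ X₀ : Submodule D' (LinearMap.ker π), (∀ g ∈ G, g ∈ X₀) →
      Function.Surjective (LinearMap.lTensor S (X₀.restrictScalars R).subtype) := by
  let f : F' →ₗ[D'] DS ⊗[D'] F' := TensorProduct.mk D' DS F' 1
  let p : LinearMap.ker π →ₗ[D'] DS ⊗[D'] F' := f ∘ₗ (LinearMap.ker π).subtype
  let cF : S ⊗[R] F' →ₗ[S] DS ⊗[D'] F' := LinearMap.liftBaseChange S (f.restrictScalars R)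
  have cF_tmul : ∀ (s : S) (x : F'), cF (s ⊗ₜ[R] x) = s • ((1 : DS) ⊗ₜ[D'] x) :=
    fun s x => LinearMap.liftBaseChange_tmul _ _ _ _
  have hcF : ∀ w, cF w = (Algebra.IsPushout.cancelBaseChange R S D' DS F').symm w := by
    intro w
    induction w using TensorProduct.induction_on with
    | zero => rw [map_zero, map_zero]
    | tmul s x =>
      rw [Algebra.IsPushout.cancelBaseChange_symm_tmul, cF_tmul, TensorProduct.smul_tmul',
        Algebra.smul_def, mul_one]
    | add a b ha hb => rw [map_add, map_add, ha, hb]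
  have hcFbij : Function.Bijective cF := by
    have : (cF : S ⊗[R] F' → DS ⊗[D'] F') =
        (Algebra.IsPushout.cancelBaseChange R S D' DS F').symm := funext hcF
    rw [this]
    exact (Algebra.IsPushout.cancelBaseChange R S D' DS F').symm.bijective
  let πS : DS ⊗[D'] F' →ₗ[DS] N := LinearMap.liftBaseChange DS (p₁ ∘ₗ π)
  have πS_tmul : ∀ (d : DS) (x : F'), πS (d ⊗ₜ[D'] x) = d • p₁ (π x) :=
    fun d x => LinearMap.liftBaseChange_tmul _ _ _ _
  let cL : S ⊗[R] L' →ₗ[S] N := LinearMap.liftBaseChange S (p₁.restrictScalars R)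
  have cL_tmul : ∀ (s : S) (x : L'), cL (s ⊗ₜ[R] x) = s • p₁ x :=
    fun s x => LinearMap.liftBaseChange_tmul _ _ _ _
  have hcomm : ∀ w : S ⊗[R] F', πS (cF w) = cL (LinearMap.lTensor S (π.restrictScalars R) w) := by
    intro w
    induction w using TensorProduct.induction_on with
    | zero => simp only [map_zero]
    | tmul s x =>
      rw [cF_tmul, TensorProduct.smul_tmul', πS_tmul, LinearMap.lTensor_tmul, cL_tmul,
        smul_assoc, one_smul]
      rfl
    | add a b ha hb => simp only [map_add, ha, hb]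
  have hπS_surj : Function.Surjective πS := by
    intro n
    obtain ⟨v, rfl⟩ := hcL.2 n
    obtain ⟨w, rfl⟩ := LinearMap.lTensor_surjective S (g := π.restrictScalars R) hπ v
    exact ⟨cF w, hcomm w⟩
  have hkerfg : (LinearMap.ker πS).FG := Module.FinitePresentation.fg_ker πS hπS_surj
  -- the R-linear inclusion of the kernel
  let ι : LinearMap.ker π →ₗ[R] F' := (LinearMap.ker π).subtype.restrictScalars R
  have hι : Function.Injective ι := Subtype.val_injective
  have hex : Function.Exact ι (π.restrictScalars R) := fun y =>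
    ⟨fun h => ⟨⟨y, h⟩, rfl⟩, fun ⟨k, hk⟩ => hk ▸ k.2⟩
  have hinj : Function.Injective (LinearMap.lTensor S ι) :=
    LinearMap.lTensor_injective_of_exact_of_flat (π.restrictScalars R) hπ ι hι hex S
  have hex' : Function.Exact (LinearMap.lTensor S ι) (LinearMap.lTensor S (π.restrictScalars R)) :=
    lTensor_exact S hex hπ
  let cK : S ⊗[R] LinearMap.ker π →ₗ[S] DS ⊗[D'] F' :=
    LinearMap.liftBaseChange S (p.restrictScalars R)
  have cK_tmul : ∀ (s : S) (k : LinearMap.ker π), cK (s ⊗ₜ[R] k) = s • ((1 : DS) ⊗ₜ[D'] (k : F')) :=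
    fun s k => LinearMap.liftBaseChange_tmul _ _ _ _
  have hcK : ∀ v, cK v = cF (LinearMap.lTensor S ι v) := by
    intro v
    induction v using TensorProduct.induction_on with
    | zero => simp only [map_zero]
    | tmul s k => rw [cK_tmul, LinearMap.lTensor_tmul, cF_tmul]; rfl
    | add a b ha hb => simp only [map_add, ha, hb]
  have hcKinj : Function.Injective cK := by
    intro a b hab
    rw [hcK, hcK] at hab
    exact hinj (hcFbij.1 hab)
  have hspan : Submodule.span DS (Set.range p) = LinearMap.ker πS := by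
    apply le_antisymm
    · rw [Submodule.span_le]
      rintro _ ⟨k, rfl⟩
      show πS ((1 : DS) ⊗ₜ[D'] (k : F')) = 0
      rw [πS_tmul, one_smul, LinearMap.mem_ker.mp k.2, map_zero]
    · intro y hy
      obtain ⟨w, rfl⟩ := hcFbij.2 y
      have h0 : cL (LinearMap.lTensor S (π.restrictScalars R) w) = 0 := by
        rw [← hcomm]; exact hy
      have h1 : LinearMap.lTensor S (π.restrictScalars R) w = 0 :=
        hcL.1 (by rw [h0, map_zero])
      obtain ⟨v, rfl⟩ := (hex' w).mp h1
      rw [← hcK]
      exact liftBaseChange_mem_span p v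
  exact exists_finset_surj p hcKinj (hspan ▸ hkerfg)

end gen

section rel

variable {B' B A' A : Type u} [CommRing B'] [CommRing B] [CommRing A'] [CommRing A]
    [Algebra B' B] [Algebra B' A'] [Algebra B A] [Algebra A' A] [Algebra B' A]
    [IsScalarTower B' B A] [IsScalarTower B' A' A]
    {D' D C' C : Type u} [CommRing D'] [CommRing D] [CommRing C'] [CommRing C]
    [Algebra B' D'] [Algebra B D] [Algebra A' C'] [Algebra A C]
    [Algebra D' D] [Algebra B' D] [IsScalarTower B' B D] [IsScalarTower B' D' D]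
    [Algebra.IsPushout B' B D' D]
    [Algebra D' C'] [Algebra B' C'] [IsScalarTower B' A' C'] [IsScalarTower B' D' C']
    [Algebra.IsPushout B' A' D' C']
    [Algebra D' C] [Algebra B' C] [IsScalarTower B' A C] [IsScalarTower B' D' C]
    [Algebra.IsPushout B' A D' C]
    [Algebra D C] [IsScalarTower D' D C] [Algebra B C] [IsScalarTower B A C] [IsScalarTower B D C]
    [Algebra C' C] [IsScalarTower D' C' C] [Algebra A' C] [IsScalarTower A' A C]
    [IsScalarTower A' C' C]
    {N M' : Type u} [AddCommGroup N] [Module D N] [Module D' N] [IsScalarTower D' D N]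
    [AddCommGroup M'] [Module C' M'] [Module D' M'] [IsScalarTower D' C' M']
    [Module B N] [IsScalarTower B D N] [Module A' M'] [IsScalarTower A' C' M']
    [Module.FinitePresentation D N] [Module.Flat B N] [Module.FinitePresentation C' M']
    [Module.Flat A' M']

theorem main (hsq : EtMil.IsFibreSquare B' B A' A) (φ : C ⊗[D] N ≃ₗ[C] C ⊗[C'] M') :
    Module.FinitePresentation D' ↥(EtMil.glue D' φ) := by
  classical
  letI mN : Module B' N := Module.compHom N (algebraMap B' B)
  letI mM : Module B' M' := Module.compHom M' (algebraMap B' A')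
  have smulN : ∀ (b' : B') (n : N), b' • n = algebraMap B' B b' • n := fun _ _ => rfl
  have smulM : ∀ (b' : B') (m : M'), b' • m = algebraMap B' A' b' • m := fun _ _ => rfl
  have keyN : ∀ (b' : B') (n : N), algebraMap B' D' b' • n = b' • n := by
    intro b' n
    rw [smulN, ← algebraMap_smul D (algebraMap B' D' b') n, ← IsScalarTower.algebraMap_apply B' D' D,
      IsScalarTower.algebraMap_apply B' B D, algebraMap_smul]
  have keyM : ∀ (b' : B') (m : M'), algebraMap B' D' b' • m = b' • m := by
    intro b' m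
    rw [smulM, ← algebraMap_smul C' (algebraMap B' D' b') m,
      ← IsScalarTower.algebraMap_apply B' D' C', IsScalarTower.algebraMap_apply B' A' C',
      algebraMap_smul]
  haveI tN1 : IsScalarTower B' B N := ⟨fun b' b n => by
    rw [Algebra.smul_def, mul_smul]; rfl⟩
  haveI tN2 : IsScalarTower B' D' N := ⟨fun b' d' n => by
    rw [Algebra.smul_def, mul_smul, keyN]⟩
  haveI tM1 : IsScalarTower B' A' M' := ⟨fun b' a m => by
    rw [Algebra.smul_def, mul_smul]; rfl⟩
  haveI tM2 : IsScalarTower B' D' M' := ⟨fun b' d' m => by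
    rw [Algebra.smul_def, mul_smul, keyM]⟩
  haveI tC1 : IsScalarTower B' D C := IsScalarTower.of_algebraMap_eq (fun x => by
    rw [IsScalarTower.algebraMap_apply B' D' C, IsScalarTower.algebraMap_apply D' D C,
      ← IsScalarTower.algebraMap_apply B' D' D])
  haveI tC2 : IsScalarTower B' C' C := IsScalarTower.of_algebraMap_eq (fun x => by
    rw [IsScalarTower.algebraMap_apply B' D' C, IsScalarTower.algebraMap_apply D' C' C,
      ← IsScalarTower.algebraMap_apply B' D' C'])
  haveI hP1 : Algebra.IsPushout B A D C :=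
    (Algebra.IsPushout.comp_iff B' B D' (S' := D) (T := A) (T' := C)).mp inferInstance
  haveI hP2 : Algebra.IsPushout A' A C' C :=
    (Algebra.IsPushout.comp_iff B' A' D' (S' := C') (T := A) (T' := C)).mp inferInstance
  let e1 : C ⊗[D] N ≃ₗ[A] A ⊗[B] N := Algebra.IsPushout.cancelBaseChange B A D C N
  let e2 : C ⊗[C'] M' ≃ₗ[A] A ⊗[A'] M' := Algebra.IsPushout.cancelBaseChange A' A C' C M'
  let φ₀ : A ⊗[B] N ≃ₗ[A] A ⊗[A'] M' := e1.symm ≪≫ₗ (φ.restrictScalars A) ≪≫ₗ e2
  have mem_iff : ∀ x : N × M', x ∈ EtMil.glue B' φ₀ ↔ x ∈ EtMil.glue D' φ := by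
    intro x
    show φ₀ ((1 : A) ⊗ₜ[B] x.1) = (1 : A) ⊗ₜ[A'] x.2 ↔
      φ ((1 : C) ⊗ₜ[D] x.1) = (1 : C) ⊗ₜ[C'] x.2
    have h1 : e1.symm ((1 : A) ⊗ₜ[B] x.1) = (1 : C) ⊗ₜ[D] x.1 := by
      show (Algebra.IsPushout.cancelBaseChange B A D C N).symm ((1 : A) ⊗ₜ[B] x.1) = _
      rw [Algebra.IsPushout.cancelBaseChange_symm_tmul, map_one]
    have h2 : e2 ((1 : C) ⊗ₜ[C'] x.2) = (1 : A) ⊗ₜ[A'] x.2 :=
      Algebra.IsPushout.cancelBaseChange_tmul A' A C' C M' x.2
    show e2 (φ (e1.symm ((1 : A) ⊗ₜ[B] x.1))) = _ ↔ _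
    rw [h1, ← h2, e2.injective.eq_iff]
  let e : ↥(EtMil.glue D' φ) ≃ₗ[B'] ↥(EtMil.glue B' φ₀) :=
    { toFun := fun x => ⟨x.1, (mem_iff x.1).mpr x.2⟩
      invFun := fun x => ⟨x.1, (mem_iff x.1).mp x.2⟩
      map_add' := fun _ _ => rfl
      map_smul' := fun _ _ => rfl
      left_inv := fun _ => rfl
      right_inv := fun _ => rfl }
  obtain ⟨hb1, hb2⟩ := Groth.Agent.S2019.result B' B A' A hsq N M' φ₀
  let p₁ : ↥(EtMil.glue D' φ) →ₗ[D'] N := EtMil.glueFst D' φ
  let p₂ : ↥(EtMil.glue D' φ) →ₗ[D'] M' := EtMil.glueSnd D' φ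
  have hc1 : Function.Bijective (LinearMap.liftBaseChange B (p₁.restrictScalars B')) := by
    have h : ∀ z, LinearMap.liftBaseChange B (p₁.restrictScalars B') z =
        LinearMap.liftBaseChange B (EtMil.glueFst B' φ₀) (LinearEquiv.lTensor B e z) := by
      intro z
      induction z using TensorProduct.induction_on with
      | zero => simp only [map_zero]
      | tmul b x => rfl
      | add a b ha hb => simp only [map_add, ha, hb]
    have hfun : (LinearMap.liftBaseChange B (p₁.restrictScalars B') :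
        B ⊗[B'] ↥(EtMil.glue D' φ) → N) =
        (LinearMap.liftBaseChange B (EtMil.glueFst B' φ₀)) ∘ (LinearEquiv.lTensor B e) :=
      funext h
    rw [hfun]
    exact hb1.comp (LinearEquiv.lTensor B e).bijective
  have hc2 : Function.Bijective (LinearMap.liftBaseChange A' (p₂.restrictScalars B')) := by
    have h : ∀ z, LinearMap.liftBaseChange A' (p₂.restrictScalars B') z =
        LinearMap.liftBaseChange A' (EtMil.glueSnd B' φ₀) (LinearEquiv.lTensor A' e z) := by
      intro z
      induction z using TensorProduct.induction_on with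
      | zero => simp only [map_zero]
      | tmul b x => rfl
      | add a b ha hb => simp only [map_add, ha, hb]
    have hfun : (LinearMap.liftBaseChange A' (p₂.restrictScalars B') :
        A' ⊗[B'] ↥(EtMil.glue D' φ) → M') =
        (LinearMap.liftBaseChange A' (EtMil.glueSnd B' φ₀)) ∘ (LinearEquiv.lTensor A' e) :=
      funext h
    rw [hfun]
    exact hb2.comp (LinearEquiv.lTensor A' e).bijective
  haveI : Module.Flat B (B ⊗[B'] ↥(EtMil.glue D' φ)) :=
    Module.Flat.of_linearEquiv (LinearEquiv.ofBijective _ hc1)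
  haveI : Module.Flat A' (A' ⊗[B'] ↥(EtMil.glue D' φ)) :=
    Module.Flat.of_linearEquiv (LinearEquiv.ofBijective _ hc2)
  haveI : Module.Flat B' ↥(EtMil.glue D' φ) :=
    Groth.Agent.S14952.result B' B A' A hsq ↥(EtMil.glue D' φ)
  haveI : Module.Finite D' ↥(EtMil.glue D' φ) :=
    Groth.Agent.S6921.result B' B A' A hsq D' D C' C φ
  obtain ⟨n, π, hπ⟩ := Module.Finite.exists_fin' D' ↥(EtMil.glue D' φ)
  obtain ⟨G1, hG1⟩ := ker_surj (R := B') (S := B) (DS := D) p₁ hc1 π hπ
  obtain ⟨G2, hG2⟩ := ker_surj (R := B') (S := A') (DS := C') p₂ hc2 π hπ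
  let X₀ : Submodule D' (LinearMap.ker π) := Submodule.span D' ((G1 ∪ G2 : Finset _) : Set _)
  have h1 := hG1 X₀ (fun g hg =>
    Submodule.subset_span (Finset.mem_coe.mpr (Finset.mem_union_left _ hg)))
  have h2 := hG2 X₀ (fun g hg =>
    Submodule.subset_span (Finset.mem_coe.mpr (Finset.mem_union_right _ hg)))
  have htop : X₀.restrictScalars B' = ⊤ := eq_top_of_lTensor_surjective hsq _ h1 h2
  have hX₀ : X₀ = ⊤ := (Submodule.restrictScalars_eq_top_iff B' D' _).mp htop
  have hfg : (LinearMap.ker π).FG := by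
    rw [← Submodule.fg_top, ← hX₀]
    exact Submodule.fg_span (Finset.finite_toSet _)
  exact Module.finitePresentation_of_surjective π hπ hfg

end rel

end Groth.Agent.H4.MilnorRelFP
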