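import Mathlib

set_option autoImplicit false
universe u

namespace Groth.Agent.H4.MonicFree

section basics

/-- over a trivial ring, every module has a basis indexed by anything -/
noncomputable def basisOfSubsingleton (ι : Type*) (S : Type*) [CommRing S] [Subsingleton S]
    (M : Type*) [AddCommGroup M] [Module S M] : Module.Basis ι S M :=
  haveI : Subsingleton M := Module.subsingleton S M
  Module.Basis.ofRepr (LinearEquiv.ofSubsingleton M (ι →₀ S))

/-- the ideal generated by the `f i (X i)` -/
noncomputable def relIdeal {n : ℕ} {S : Type u} [CommRing S] (f : Fin n → Polynomial S) :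
    Ideal (MvPolynomial (Fin n) S) :=
  Ideal.span (Set.range fun i =>
    Polynomial.aeval (MvPolynomial.X i : MvPolynomial (Fin n) S) (f i))

lemma aeval_mem_relIdeal {n : ℕ} {S : Type u} [CommRing S] (f : Fin n → Polynomial S) (i : Fin n) :
    Polynomial.aeval (MvPolynomial.X i : MvPolynomial (Fin n) S) (f i) ∈ relIdeal f :=
  Ideal.subset_span ⟨i, rfl⟩

/-- the quotient `S[X_1..X_n]/(f_i(X_i))` -/
abbrev QQ {n : ℕ} {S : Type u} [CommRing S] (f : Fin n → Polynomial S) : Type u :=
  MvPolynomial (Fin n) S ⧸ relIdeal f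

lemma aeval_mk_X_eq_zero {n : ℕ} {S : Type u} [CommRing S] (f : Fin n → Polynomial S) (i : Fin n) :
    Polynomial.aeval (Ideal.Quotient.mk (relIdeal f) (MvPolynomial.X i) : QQ f) (f i) = 0 := by
  have h := Polynomial.aeval_algHom_apply (Ideal.Quotient.mkₐ S (relIdeal f))
    (MvPolynomial.X i) (f i)
  have h2 : Ideal.Quotient.mkₐ S (relIdeal f)
      (Polynomial.aeval (MvPolynomial.X i : MvPolynomial (Fin n) S) (f i)) = 0 :=
    Ideal.Quotient.eq_zero_iff_mem.2 (aeval_mem_relIdeal f i)
  exact h.trans h2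

end basics

section step
variable {n : ℕ} {S : Type u} [CommRing S] (f : Fin (n + 1) → Polynomial S)

/-- the polynomials over `AdjoinRoot (f 0)` -/
noncomputable def f' (i : Fin n) : Polynomial (AdjoinRoot (f 0)) :=
  (f i.succ).map (algebraMap S (AdjoinRoot (f 0)))

theorem exists_linearEquiv :
    Nonempty (QQ (f' f) ≃ₗ[S] QQ f) := by
  classical
  let root' : QQ (f' f) := algebraMap (AdjoinRoot (f 0)) (QQ (f' f)) (AdjoinRoot.root (f 0))
  let vals : Fin (n + 1) → QQ (f' f) :=
    Fin.cases root' (fun i => Ideal.Quotient.mk (relIdeal (f' f)) (MvPolynomial.X i))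
  let Φ₀ : MvPolynomial (Fin (n + 1)) S →ₐ[S] QQ (f' f) := MvPolynomial.aeval vals
  have hvals0 : vals 0 = root' := rfl
  have hvalsS : ∀ j : Fin n,
      vals j.succ = Ideal.Quotient.mk (relIdeal (f' f)) (MvPolynomial.X j) := fun j => rfl
  have hΦ₀ : ∀ x ∈ relIdeal f, Φ₀ x = 0 := by
    intro x hx
    have hle : relIdeal f ≤ RingHom.ker (Φ₀ : MvPolynomial (Fin (n + 1)) S →+* QQ (f' f)) := by
      refine Ideal.span_le.2 ?_
      rintro _ ⟨i, rfl⟩
      show Φ₀ (Polynomial.aeval (MvPolynomial.X i) (f i)) = 0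
      rw [← Polynomial.aeval_algHom_apply, MvPolynomial.aeval_X]
      induction i using Fin.cases with
      | zero =>
        rw [hvals0]
        show Polynomial.aeval (algebraMap (AdjoinRoot (f 0)) (QQ (f' f))
          (AdjoinRoot.root (f 0))) (f 0) = 0
        rw [Polynomial.aeval_algebraMap_apply, AdjoinRoot.aeval_eq, AdjoinRoot.mk_self, map_zero]
      | succ j =>
        rw [hvalsS]
        have h2 := aeval_mk_X_eq_zero (f' f) j
        have h3 : Polynomial.aeval (Ideal.Quotient.mk (relIdeal (f' f)) (MvPolynomial.X j) :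
            QQ (f' f)) (f' f j) = Polynomial.aeval (Ideal.Quotient.mk (relIdeal (f' f))
              (MvPolynomial.X j) : QQ (f' f)) (f j.succ) := by
          unfold f'
          exact Polynomial.aeval_map_algebraMap (AdjoinRoot (f 0)) _ _
        rw [← h3]
        exact h2
    exact hle hx
  let Φ : QQ f →ₐ[S] QQ (f' f) := Ideal.Quotient.liftₐ (relIdeal f) Φ₀ hΦ₀
  let Ψ₀' : AdjoinRoot (f 0) →ₐ[S] QQ f :=
    AdjoinRoot.liftAlgHom (f 0) (Algebra.ofId S (QQ f))
      (Ideal.Quotient.mk (relIdeal f) (MvPolynomial.X 0)) (by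
        show Polynomial.eval₂ (algebraMap S (QQ f))
          (Ideal.Quotient.mk (relIdeal f) (MvPolynomial.X 0)) (f 0) = 0
        rw [← Polynomial.aeval_def]
        exact aeval_mk_X_eq_zero f 0)
  let Ψ₀ : MvPolynomial (Fin n) (AdjoinRoot (f 0)) →+* QQ f :=
    MvPolynomial.eval₂Hom (Ψ₀' : AdjoinRoot (f 0) →+* QQ f)
      (fun i => Ideal.Quotient.mk (relIdeal f) (MvPolynomial.X i.succ))
  have hΨ₀ : ∀ x ∈ relIdeal (f' f), Ψ₀ x = 0 := by
    intro x hx
    have hle : relIdeal (f' f) ≤ RingHom.ker Ψ₀ := by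
      refine Ideal.span_le.2 ?_
      rintro _ ⟨j, rfl⟩
      show Ψ₀ (Polynomial.aeval (MvPolynomial.X j) (f' f j)) = 0
      rw [Polynomial.aeval_def, Polynomial.hom_eval₂]
      have hc : Ψ₀.comp (algebraMap (AdjoinRoot (f 0)) (MvPolynomial (Fin n) (AdjoinRoot (f 0)))) =
          (Ψ₀' : AdjoinRoot (f 0) →+* QQ f) :=
        RingHom.ext fun s => MvPolynomial.eval₂Hom_C _ _ s
      rw [hc, show Ψ₀ (MvPolynomial.X j) =
        Ideal.Quotient.mk (relIdeal f) (MvPolynomial.X j.succ) from
          MvPolynomial.eval₂Hom_X' _ _ j]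
      unfold f'
      rw [Polynomial.eval₂_map]
      have hc2 : (Ψ₀' : AdjoinRoot (f 0) →+* QQ f).comp (algebraMap S (AdjoinRoot (f 0))) =
          algebraMap S (QQ f) := Ψ₀'.comp_algebraMap
      rw [hc2, ← Polynomial.aeval_def]
      exact aeval_mk_X_eq_zero f j.succ
    exact hle hx
  let Ψ : QQ (f' f) →+* QQ f := Ideal.Quotient.lift (relIdeal (f' f)) Ψ₀ hΨ₀
  have h1 : ∀ y : QQ f, Ψ (Φ y) = y := by
    suffices h : Ψ.comp (Φ : QQ f →+* QQ (f' f)) = RingHom.id _ from
      fun y => RingHom.congr_fun h y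
    apply Ideal.Quotient.ringHom_ext
    apply MvPolynomial.ringHom_ext
    · intro s
      show Ψ (Φ₀ (MvPolynomial.C s)) = Ideal.Quotient.mk _ (MvPolynomial.C s)
      rw [show Φ₀ (MvPolynomial.C s) = algebraMap S (QQ (f' f)) s from
        MvPolynomial.aeval_C _ s]
      show Ψ₀ (MvPolynomial.C (algebraMap S (AdjoinRoot (f 0)) s)) = _
      rw [MvPolynomial.eval₂Hom_C]
      exact Ψ₀'.commutes s
    · intro i
      show Ψ (Φ₀ (MvPolynomial.X i)) = Ideal.Quotient.mk _ (MvPolynomial.X i)
      rw [show Φ₀ (MvPolynomial.X i) = vals i from MvPolynomial.aeval_X _ i]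
      induction i using Fin.cases with
      | zero =>
        show Ψ₀ (MvPolynomial.C (AdjoinRoot.root (f 0))) = _
        rw [MvPolynomial.eval₂Hom_C]
        show Ψ₀' (AdjoinRoot.root (f 0)) = _
        rw [AdjoinRoot.liftAlgHom_root]
      | succ j =>
        show Ψ₀ (MvPolynomial.X j) = _
        exact MvPolynomial.eval₂Hom_X' _ _ j
  have h2 : ∀ y : QQ (f' f), Φ (Ψ y) = y := by
    suffices h : (Φ : QQ f →+* QQ (f' f)).comp Ψ = RingHom.id _ from
      fun y => RingHom.congr_fun h y
    apply Ideal.Quotient.ringHom_ext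
    apply MvPolynomial.ringHom_ext
    · intro s'
      show Φ (Ψ₀ (MvPolynomial.C s')) = Ideal.Quotient.mk _ (MvPolynomial.C s')
      rw [MvPolynomial.eval₂Hom_C]
      have hA : Φ.comp Ψ₀' = IsScalarTower.toAlgHom S (AdjoinRoot (f 0)) (QQ (f' f)) := by
        apply AdjoinRoot.algHom_ext
        show Φ (Ψ₀' (AdjoinRoot.root (f 0))) = root'
        rw [AdjoinRoot.liftAlgHom_root]
        show Φ₀ (MvPolynomial.X 0) = root'
        rw [MvPolynomial.aeval_X]
        exact hvals0
      exact AlgHom.congr_fun hA s'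
    · intro j
      show Φ (Ψ₀ (MvPolynomial.X j)) = Ideal.Quotient.mk _ (MvPolynomial.X j)
      rw [show Ψ₀ (MvPolynomial.X j) =
        Ideal.Quotient.mk (relIdeal f) (MvPolynomial.X j.succ) from
          MvPolynomial.eval₂Hom_X' _ _ j]
      show Φ₀ (MvPolynomial.X j.succ) = _
      rw [MvPolynomial.aeval_X]
      exact hvalsS j
  have hinj : Function.Injective Φ.toLinearMap := Function.LeftInverse.injective (g := Ψ) h1
  have hsurj : Function.Surjective Φ.toLinearMap := Function.RightInverse.surjective (g := Ψ) h2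
  exact ⟨(LinearEquiv.ofBijective Φ.toLinearMap ⟨hinj, hsurj⟩).symm⟩

end step

theorem exists_basis : ∀ (n : ℕ) (S : Type u) [CommRing S] (f : Fin n → Polynomial S)
    (_ : ∀ i, (f i).Monic) (d : Fin n → ℕ) (_ : ∀ i, (f i).natDegree = d i),
    Nonempty (Module.Basis (Fin (∏ i, d i)) S (QQ f)) := by
  intro n
  induction n with
  | zero =>
    intro S _ f hf d hd
    have hI : relIdeal f = ⊥ := by
      unfold relIdeal
      rw [Set.range_eq_empty, Ideal.span_empty]
    let ℓ : S →ₗ[S] QQ f := Algebra.linearMap S (QQ f)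
    have hinj : Function.Injective ℓ := by
      rw [injective_iff_map_eq_zero]
      intro s hs
      have h1 : Ideal.Quotient.mk (relIdeal f) (MvPolynomial.C s) = 0 := hs
      rw [Ideal.Quotient.eq_zero_iff_mem, hI, Ideal.mem_bot] at h1
      exact (MvPolynomial.C_injective (Fin 0) S) (h1.trans (map_zero _).symm)
    have hsurj : Function.Surjective ℓ := by
      intro y
      obtain ⟨q, rfl⟩ := Ideal.Quotient.mk_surjective y
      obtain ⟨s, rfl⟩ := MvPolynomial.C_surjective (Fin 0) q
      exact ⟨s, rfl⟩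
    let e : S ≃ₗ[S] QQ f := LinearEquiv.ofBijective ℓ ⟨hinj, hsurj⟩
    have hprod : 1 = ∏ i, d i := by simp
    exact ⟨((Module.Basis.singleton (Fin 1) S).map e).reindex (finCongr hprod)⟩
  | succ n IH =>
    intro S _ f hf d hd
    have hb' : Nonempty (Module.Basis (Fin (∏ i : Fin n, d i.succ)) (AdjoinRoot (f 0))
        (QQ (f' f))) := by
      rcases subsingleton_or_nontrivial (AdjoinRoot (f 0)) with h | h
      · exact ⟨basisOfSubsingleton _ _ _⟩
      · exact IH (AdjoinRoot (f 0)) (f' f) (fun i => (hf i.succ).map _) (fun i => d i.succ)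
          (fun i => by unfold f'; rw [(hf i.succ).natDegree_map]; exact hd i.succ)
    obtain ⟨b'⟩ := hb'
    obtain ⟨e⟩ := exists_linearEquiv f
    have hdim : (AdjoinRoot.powerBasis' (hf 0)).dim = d 0 := by
      rw [AdjoinRoot.powerBasis'_dim]; exact hd 0
    let b0 : Module.Basis (Fin (d 0)) S (AdjoinRoot (f 0)) :=
      (AdjoinRoot.powerBasis' (hf 0)).basis.reindex (finCongr hdim)
    have hprod : d 0 * ∏ i : Fin n, d i.succ = ∏ i, d i := (Fin.prod_univ_succ d).symm
    exact ⟨((b0.smulTower b').map e).reindex (finProdFinEquiv.trans (finCongr hprod))⟩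

section powerseries
variable {k : Type u} [Field k] {n : ℕ} [NeZero n]

lemma mem_span_X (g : MvPowerSeries (Fin n) k) (hg : MvPowerSeries.constantCoeff g = 0) :
    g ∈ Ideal.span (Set.range (MvPowerSeries.X : Fin n → MvPowerSeries (Fin n) k)) := by
  classical
  let idx : (Fin n →₀ ℕ) → Fin n := fun m => if h : ∃ i, m i ≠ 0 then Classical.choose h else 0
  have hidx : ∀ m : Fin n →₀ ℕ, m ≠ 0 → m (idx m) ≠ 0 := by
    intro m hm
    have h : ∃ i, m i ≠ 0 := by
      by_contra hcon
      push Not at hcon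
      exact hm (Finsupp.ext hcon)
    simp only [idx, dif_pos h]
    exact Classical.choose_spec h
  let G : Fin n → MvPowerSeries (Fin n) k := fun i m' =>
    if idx (m' + Finsupp.single i 1) = i then
      MvPowerSeries.coeff (m' + Finsupp.single i 1) g else 0
  have hsum : g = ∑ i, MvPowerSeries.X i * G i := by
    ext m
    rw [map_sum]
    have hterm : ∀ i, MvPowerSeries.coeff m (MvPowerSeries.X i * G i) =
        if idx m = i ∧ m ≠ 0 then MvPowerSeries.coeff m g else 0 := by
      intro i
      rw [MvPowerSeries.X, MvPowerSeries.coeff_monomial_mul, one_mul]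
      by_cases hle : Finsupp.single i 1 ≤ m
      · rw [if_pos hle]
        have hm' : m - Finsupp.single i 1 + Finsupp.single i 1 = m := tsub_add_cancel_of_le hle
        show (if idx (m - Finsupp.single i 1 + Finsupp.single i 1) = i then
          MvPowerSeries.coeff (m - Finsupp.single i 1 + Finsupp.single i 1) g else 0) = _
        rw [hm']
        have hm0 : m ≠ 0 := by
          intro h0
          rw [h0] at hle
          have := Finsupp.single_le_iff.1 hle
          simp at this
        simp [hm0]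
      · rw [if_neg hle, if_neg]
        rintro ⟨h1, h2⟩
        apply hle
        have h3 := hidx m h2
        rw [h1] at h3
        exact Finsupp.single_le_iff.2 (Nat.one_le_iff_ne_zero.2 h3)
    simp_rw [hterm]
    by_cases hm : m = 0
    · subst hm
      simp only [ne_eq, not_true_eq_false, and_false, if_false, Finset.sum_const_zero]
      exact hg
    · rw [Finset.sum_eq_single (idx m)]
      · simp [hm]
      · intro j _ hj
        rw [if_neg]
        rintro ⟨h, _⟩
        exact hj h.symm
      · intro h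
        exact absurd (Finset.mem_univ _) h
  rw [hsum]
  refine Ideal.sum_mem _ (fun i _ => ?_)
  exact Ideal.mul_mem_right _ _ (Ideal.subset_span ⟨i, rfl⟩)

end powerseries

section length
variable {R : Type*} {A : Type*} [CommRing R] [CommRing A] [Algebra R A]

lemma isSimpleModule_restrict
    (hsurj : ∀ 𝔪 : Ideal A, 𝔪.IsMaximal → Function.Surjective (algebraMap R (A ⧸ 𝔪)))
    (N : Type*) [AddCommGroup N] [Module A N] [Module R N] [IsScalarTower R A N]
    (h : IsSimpleModule A N) : IsSimpleModule R N := by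
  obtain ⟨𝔪, h𝔪, ⟨e⟩⟩ := isSimpleModule_iff_quot_maximal.1 h
  rw [← Module.length_eq_one_iff]
  rw [(e.restrictScalars R).length_eq]
  rw [Module.length_eq_of_surjective (S := R) (R := A ⧸ 𝔪) (M := A ⧸ 𝔪) (hsurj 𝔪 h𝔪)]
  rw [← Module.length_eq_of_surjective (S := A) (R := A ⧸ 𝔪) (M := A ⧸ 𝔪)
    Ideal.Quotient.mk_surjective]
  rw [← e.length_eq]
  exact Module.length_eq_one_iff.2 h

theorem length_eq_restrict_of_finite
    (hsurj : ∀ 𝔪 : Ideal A, 𝔪.IsMaximal → Function.Surjective (algebraMap R (A ⧸ 𝔪))) :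
    ∀ (M : Type*) [AddCommGroup M] [Module A M], IsFiniteLength A M →
      ∀ [Module R M] [IsScalarTower R A M], Module.length A M = Module.length R M := by
  intro M _ _ h
  induction h with
  | of_subsingleton =>
    intro _ _
    rw [Module.length_eq_zero, Module.length_eq_zero]
  | @of_simple_quotient M _ _ N hs hN ih =>
    intro _ _
    have hsR : IsSimpleModule R (M ⧸ N) := isSimpleModule_restrict hsurj (M ⧸ N) hs
    have e1 := Module.length_eq_add_of_exact N.subtype N.mkQ N.injective_subtype
      N.mkQ_surjective (LinearMap.exact_subtype_mkQ N)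
    have e2 := Module.length_eq_add_of_exact (N.subtype.restrictScalars R)
      (N.mkQ.restrictScalars R) N.injective_subtype N.mkQ_surjective
      (LinearMap.exact_subtype_mkQ N)
    rw [e1, e2, ih, Module.length_eq_one_iff.2 hs, Module.length_eq_one_iff.2 hsR]

theorem length_eq_restrict
    (hsurj : ∀ 𝔪 : Ideal A, 𝔪.IsMaximal → Function.Surjective (algebraMap R (A ⧸ 𝔪)))
    (M : Type*) [AddCommGroup M] [Module A M] [Module R M] [IsScalarTower R A M] :
    Module.length A M = Module.length R M := by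
  by_cases h : IsFiniteLength A M
  · exact length_eq_restrict_of_finite hsurj M h
  · have h1 : Module.length A M = ⊤ := by
      by_contra hne
      exact h (Module.length_ne_top_iff.1 hne)
    rw [h1]
    symm
    rw [eq_top_iff, ← h1]
    have h2 := Submodule.length_le_length_restrictScalars R (⊤ : Submodule A M)
    rw [Submodule.restrictScalars_top, Module.length_top, Module.length_top] at h2
    exact h2

end length

end Groth.Agent.H4.MonicFree
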