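import Mathlib
import Groth.Prelude.Def_Flatn
import Groth.Agent.H4.GqA

set_option autoImplicit false
universe u v₁ u₁
open CategoryTheory CategoryTheory.Limits AlgebraicGeometry Opposite

namespace Groth.Agent.H4.MsA

section General

variable {C : Type u₁} [Category.{v₁} C]

theorem representableBy_of_sub {F F' : Cᵒᵖ ⥤ Type v₁} (η : F' ⟶ F)
    (hη : ∀ (T : C) (x y : F'.obj (op T)), η.app (op T) x = η.app (op T) y → x = y)
    {M M₀ : C} (e : F.RepresentableBy M)
    (ι₀ : M₀ ⟶ M) [Mono ι₀]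
    (h : ∀ (T : C) (t : T ⟶ M), (∃ φ : T ⟶ M₀, φ ≫ ι₀ = t) ↔
      ∃ x : F'.obj (op T), η.app (op T) x = e.homEquiv t) :
    ∃ e₀ : F'.RepresentableBy M₀, ∀ (T : C) (φ : T ⟶ M₀),
      η.app (op T) (e₀.homEquiv φ) = e.homEquiv (φ ≫ ι₀) := by
  have h1 : ∀ (T : C) (φ : T ⟶ M₀), ∃ x : F'.obj (op T),
      η.app (op T) x = e.homEquiv (φ ≫ ι₀) :=
    fun T φ => (h T (φ ≫ ι₀)).1 ⟨φ, rfl⟩
  have h2 : ∀ (T : C) (x : F'.obj (op T)), ∃ φ : T ⟶ M₀,
      φ ≫ ι₀ = e.homEquiv.symm (η.app (op T) x) :=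
    fun T x => (h T _).2 ⟨x, (e.homEquiv.apply_symm_apply _).symm⟩
  choose fw hfw using h1
  choose bw hbw using h2
  refine ⟨{ homEquiv := fun {T} => ⟨fw T, bw T, ?_, ?_⟩, homEquiv_comp := ?_ },
    fun T φ => hfw T φ⟩
  · intro φ
    rw [← cancel_mono ι₀, hbw, hfw, Equiv.symm_apply_apply]
  · intro x
    apply hη
    rw [hfw, hbw, Equiv.apply_symm_apply]
  · intro T T' f g
    apply hη
    change η.app (op T) (fw T (f ≫ g)) = η.app (op T) (F'.map f.op (fw T' g))
    rw [hfw, NatTrans.naturality_apply, hfw, Category.assoc, e.homEquiv_comp]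

end General

section Sch

variable {X Y S : Scheme.{u}} (gX : X ⟶ S) (gY : Y ⟶ S)

/-- base change map on fibre products -/
noncomputable def bc {T M : Over S} (t : T ⟶ M) : pullback T.hom gX ⟶ pullback M.hom gX :=
  ((Over.pullback gX).map t).left

theorem bc_fst {T M : Over S} (t : T ⟶ M) :
    bc gX t ≫ pullback.fst M.hom gX = pullback.fst T.hom gX ≫ t.left := by
  change pullback.lift _ _ _ ≫ _ = _
  exact pullback.lift_fst _ _ _

theorem bc_snd {T M : Over S} (t : T ⟶ M) :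
    bc gX t ≫ pullback.snd M.hom gX = pullback.snd T.hom gX := by
  change pullback.lift _ _ _ ≫ _ = _
  exact pullback.lift_snd _ _ _

theorem isPullback_bc {T M : Over S} (t : T ⟶ M) :
    IsPullback (bc gX t) (pullback.fst T.hom gX) (pullback.fst M.hom gX) t.left := by
  have hB : IsPullback (pullback.fst M.hom gX) (pullback.snd M.hom gX) M.hom gX :=
    IsPullback.of_hasPullback _ _
  have hA : IsPullback (pullback.fst T.hom gX) (pullback.snd T.hom gX) (t.left ≫ M.hom) gX := by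
    rw [Over.w t]
    exact IsPullback.of_hasPullback _ _
  have hA' : IsPullback (pullback.snd T.hom gX) (pullback.fst T.hom gX) gX (t.left ≫ M.hom) :=
    hA.flip
  exact IsPullback.of_right (by rw [bc_snd]; exact hA') (bc_fst gX t) hB.flip

/-- underlying scheme morphism of a section of `morS` -/
noncomputable def cl {T : Over S} (b : (Flatn.morS gX gY).obj (op T)) : pullback T.hom gX ⟶ Y :=
  CommaMorphism.left (show (Over.map gX).obj ((Over.pullback gX).obj T) ⟶ Over.mk gY from b)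

theorem cl_w {T : Over S} (b : (Flatn.morS gX gY).obj (op T)) :
    cl gX gY b ≫ gY = pullback.snd T.hom gX ≫ gX :=
  Over.w (show (Over.map gX).obj ((Over.pullback gX).obj T) ⟶ Over.mk gY from b)

/-- constructor of sections of `morS` -/
noncomputable def mk' {T : Over S} (b : pullback T.hom gX ⟶ Y)
    (w : b ≫ gY = pullback.snd T.hom gX ≫ gX) : (Flatn.morS gX gY).obj (op T) :=
  (show (Over.map gX).obj ((Over.pullback gX).obj T) ⟶ Over.mk gY from Over.homMk b w)

theorem cl_mk' {T : Over S} (b : pullback T.hom gX ⟶ Y)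
    (w : b ≫ gY = pullback.snd T.hom gX ≫ gX) : cl gX gY (mk' gX gY b w) = b := rfl

theorem cl_injective {T : Over S} (b b' : (Flatn.morS gX gY).obj (op T))
    (h : cl gX gY b = cl gX gY b') : b = b' :=
  Over.OverMorphism.ext h

theorem cl_map {T M : Over S} (t : T ⟶ M) (b : (Flatn.morS gX gY).obj (op M)) :
    cl gX gY ((Flatn.morS gX gY).map t.op b) = bc gX t ≫ cl gX gY b := rfl

theorem hnat {T M : Over S} (e : (Flatn.morS gX gY).RepresentableBy M) (t : T ⟶ M) :
    cl gX gY (e.homEquiv t) = bc gX t ≫ cl gX gY (e.homEquiv (𝟙 M)) :=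
  calc cl gX gY (e.homEquiv t)
      = cl gX gY ((Flatn.morS gX gY).map t.op (e.homEquiv (𝟙 M))) := by
        rw [← e.homEquiv_comp, Category.comp_id]
    _ = _ := cl_map gX gY t _

theorem star {U : Scheme.{u}} (j : U ⟶ Y) {T M : Over S} (t : T ⟶ M)
    (ev : pullback M.hom gX ⟶ Y) :
    Set.range t.left ⊆ ((pullback.fst M.hom gX) '' (ev ⁻¹' (Set.range j)ᶜ))ᶜ ↔
      Set.range (bc gX t ≫ ev) ⊆ Set.range j := by
  constructor
  · rintro h _ ⟨z, rfl⟩
    by_contra hz
    have hz' : bc gX t z ∈ ev ⁻¹' (Set.range j)ᶜ := by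
      intro hmem
      apply hz
      rw [Scheme.Hom.comp_apply]
      exact hmem
    have h2 : (pullback.fst M.hom gX) (bc gX t z) = t.left (pullback.fst T.hom gX z) := by
      rw [← Scheme.Hom.comp_apply, ← Scheme.Hom.comp_apply, bc_fst]
    have h1 : t.left (pullback.fst T.hom gX z) ∈
        (pullback.fst M.hom gX) '' (ev ⁻¹' (Set.range j)ᶜ) :=
      ⟨bc gX t z, hz', h2⟩
    exact h ⟨_, rfl⟩ h1
  · rintro h _ ⟨s, rfl⟩
    show t.left s ∉ (pullback.fst M.hom gX) '' (ev ⁻¹' (Set.range j)ᶜ)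
    rintro ⟨w, hw, hpw⟩
    have hw' : w ∈ Set.range (bc gX t) := by
      rw [Groth.Agent.H4.GqA.range_fst_of_isPullback (isPullback_bc gX t)]
      exact ⟨s, hpw.symm⟩
    obtain ⟨z, rfl⟩ := hw'
    apply hw
    have := h ⟨z, rfl⟩
    rwa [Scheme.Hom.comp_apply] at this

theorem main {U : Scheme.{u}} [IsProper gX] (j : U ⟶ Y) [IsOpenImmersion j] (M : Over S)
    (e : (Flatn.morS gX gY).RepresentableBy M) :
    ∃ (M₀ : M.left.Opens)
      (e₀ : (Flatn.morS gX (j ≫ gY)).RepresentableBy (Over.mk (M₀.ι ≫ M.hom))),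
      ∀ (T : Over S) (φ : T ⟶ Over.mk (M₀.ι ≫ M.hom)),
        (e.homEquiv (φ ≫ Over.homMk M₀.ι rfl) :
            (Over.map gX).obj ((Over.pullback gX).obj T) ⟶ Over.mk gY) =
          (e₀.homEquiv φ : (Over.map gX).obj ((Over.pullback gX).obj T) ⟶ Over.mk (j ≫ gY)) ≫
            (Over.homMk j rfl : Over.mk (j ≫ gY) ⟶ Over.mk gY) := by
  have hclosed : IsClosed ((pullback.fst M.hom gX) ''
      (cl gX gY (e.homEquiv (𝟙 M)) ⁻¹' (Set.range j)ᶜ)) :=
    (pullback.fst M.hom gX).isClosedMap _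
      ((j.isOpenEmbedding.isOpen_range.isClosed_compl).preimage
        (cl gX gY (e.homEquiv (𝟙 M))).continuous)
  obtain ⟨M₀, hM₀⟩ : ∃ M₀ : M.left.Opens, (M₀ : Set M.left) =
      ((pullback.fst M.hom gX) '' (cl gX gY (e.homEquiv (𝟙 M)) ⁻¹' (Set.range j)ᶜ))ᶜ :=
    ⟨⟨_, hclosed.isOpen_compl⟩, rfl⟩
  have hstar : ∀ (T : Over S) (t : T ⟶ M), Set.range t.left ⊆ (M₀ : Set M.left) ↔
      Set.range (cl gX gY (e.homEquiv t)) ⊆ Set.range j := by
    intro T t
    rw [hM₀, hnat gX gY e t]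
    exact star gX j t _
  let jj : Over.mk (j ≫ gY) ⟶ Over.mk gY := Over.homMk j rfl
  let ι₀ : Over.mk (M₀.ι ≫ M.hom) ⟶ M := Over.homMk M₀.ι rfl
  haveI : Mono ι₀ := Over.mono_homMk _
  let η : Flatn.morS gX (j ≫ gY) ⟶ Flatn.morS gX gY :=
    Functor.whiskerLeft (Over.pullback gX ⋙ Over.map gX).op (yoneda.map jj)
  have hηcl : ∀ (T : Over S) (x : (Flatn.morS gX (j ≫ gY)).obj (op T)),
      cl gX gY (η.app (op T) x) = cl gX (j ≫ gY) x ≫ j := fun _ _ => rfl
  have hηinj : ∀ (T : Over S) (x y : (Flatn.morS gX (j ≫ gY)).obj (op T)),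
      η.app (op T) x = η.app (op T) y → x = y := by
    intro T x y hxy
    apply cl_injective
    have := congrArg (cl gX gY) hxy
    rw [hηcl, hηcl] at this
    exact (cancel_mono j).1 this
  have hmain : ∀ (T : Over S) (t : T ⟶ M),
      (∃ φ : T ⟶ Over.mk (M₀.ι ≫ M.hom), φ ≫ ι₀ = t) ↔
      ∃ x : (Flatn.morS gX (j ≫ gY)).obj (op T), η.app (op T) x = e.homEquiv t := by
    intro T t
    have hA : (∃ φ : T ⟶ Over.mk (M₀.ι ≫ M.hom), φ ≫ ι₀ = t) ↔
        Set.range t.left ⊆ (M₀ : Set M.left) := by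
      constructor
      · rintro ⟨φ, rfl⟩
        have h0 : Set.range (φ ≫ ι₀).left ⊆ Set.range M₀.ι := by
          rintro _ ⟨s, rfl⟩
          exact ⟨φ.left s, (Scheme.Hom.comp_apply φ.left M₀.ι s).symm⟩
        rwa [Scheme.Opens.range_ι] at h0
      · intro h
        have h' : Set.range t.left ⊆ Set.range M₀.ι := by rwa [Scheme.Opens.range_ι]
        refine ⟨Over.homMk (IsOpenImmersion.lift M₀.ι t.left h') ?_, ?_⟩
        · change IsOpenImmersion.lift M₀.ι t.left h' ≫ (M₀.ι ≫ M.hom) = T.hom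
          rw [← Category.assoc, IsOpenImmersion.lift_fac, Over.w t]
        · exact Over.OverMorphism.ext (IsOpenImmersion.lift_fac _ _ _)
    have hB : (∃ x : (Flatn.morS gX (j ≫ gY)).obj (op T), η.app (op T) x = e.homEquiv t) ↔
        Set.range (cl gX gY (e.homEquiv t)) ⊆ Set.range j := by
      constructor
      · rintro ⟨x, hx⟩
        rw [← hx, hηcl]
        rintro _ ⟨z, rfl⟩
        exact ⟨cl gX (j ≫ gY) x z, (Scheme.Hom.comp_apply (cl gX (j ≫ gY) x) j z).symm⟩
      · intro h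
        refine ⟨mk' gX (j ≫ gY) (IsOpenImmersion.lift j (cl gX gY (e.homEquiv t)) h) ?_, ?_⟩
        · rw [← Category.assoc, IsOpenImmersion.lift_fac, cl_w]
        · apply cl_injective
          rw [hηcl, cl_mk', IsOpenImmersion.lift_fac]
    rw [hA, hB]
    exact hstar T t
  obtain ⟨e₀, he₀⟩ := representableBy_of_sub η hηinj e ι₀ hmain
  exact ⟨M₀, e₀, fun T φ => (he₀ T φ).symm⟩

end Sch

end Groth.Agent.H4.MsA
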