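import Mathlib
import Groth.Prelude.Def_ChGrp
import Groth.Prelude.Def_GLinSh
import Groth.Prelude.Def_W4bk4git07Quot
import Groth.Agent.H4.AbA
import Groth.Agent.H4.AbB
import Groth.Agent.H4.TbD
import Groth.Agent.H4.FtA
import Groth.Agent.H4.HlA

/-!
# Orbits and stabilisers under an `N`-torsor quotient `X ⟶ Y = X/N` (helper4)

`G ⟶ H` surjective with kernel `N`, `G` acting on `X`, `φ : X ⟶ Y` an `N`-torsor, `H` acting on `Y`
compatibly.  For a geometric point `x` of `X` with image `y`: the `G`-orbit of `x` is the preimage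
of the `H`-orbit of `y`, and the stabiliser of `x` maps bijectively (on points) onto that of `y`.
-/

set_option autoImplicit false
universe u
open CategoryTheory MonoidalCategory CartesianMonoidalCategory MonObj GrpObj AlgebraicGeometry
  CategoryTheory.Limits

namespace Groth.Agent.H4.OsA

open Groth.Agent.H4

section Fin

theorem isFinite_of_lqf {Ω : Type u} [Field Ω] {Z T : Scheme.{u}} (f : Z ⟶ T)
    (e : T ≅ Spec (CommRingCat.of Ω)) [LocallyQuasiFinite f] [QuasiCompact f] : IsFinite f := by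
  haveI : IsLocallyArtinian (Spec (CommRingCat.of Ω)) :=
    Scheme.isLocallyArtinianScheme_Spec.mpr (inferInstanceAs (IsArtinianRing Ω))
  haveI : IsLocallyArtinian T := IsLocallyArtinian.of_isImmersion e.hom
  exact IsFinite.of_locallyQuasiFinite f

theorem subsingleton_of_iso {Ω : Type u} [Field Ω] {T : Scheme.{u}}
    (e : T ≅ Spec (CommRingCat.of Ω)) : Subsingleton ↥T := by
  haveI : Subsingleton ↥(Spec (CommRingCat.of Ω)) :=
    inferInstanceAs (Subsingleton (PrimeSpectrum Ω))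
  exact e.hom.homeomorph.injective.subsingleton

theorem finite_of_isFinite {Z T : Scheme.{u}} (f : Z ⟶ T) [Subsingleton ↥T] [IsFinite f] :
    Finite ↥Z := by
  rcases isEmpty_or_nonempty ↥Z with h | ⟨⟨z⟩⟩
  · infer_instance
  · have h1 : (f ⁻¹' {f z}).Finite := Scheme.Hom.finite_preimage_singleton f (f z)
    have h2 : (f ⁻¹' {f z}) = Set.univ := by
      ext w
      simp only [Set.mem_preimage, Set.mem_singleton_iff, Set.mem_univ, iff_true]
      exact Subsingleton.elim _ _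
    rw [h2] at h1
    exact Set.finite_univ_iff.mp h1

theorem isFinite_of_finite {Ω : Type u} [Field Ω] {Z T : Scheme.{u}} (f : Z ⟶ T)
    (e : T ≅ Spec (CommRingCat.of Ω)) [LocallyOfFiniteType f] [Finite ↥Z] : IsFinite f := by
  haveI : IsAffine T := IsAffine.of_isIso e.hom
  haveI : QuasiCompact f :=
    (HasAffineProperty.iff_of_isAffine (P := @QuasiCompact) (f := f)).mpr
      (inferInstance : CompactSpace ↥Z)
  haveI : LocallyQuasiFinite f :=
    LocallyQuasiFinite.of_finite_preimage_singleton f (fun _ => Set.toFinite _)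
  exact isFinite_of_lqf f e

end Fin

section Stab

variable {S : Scheme.{u}} {G X P : Over S} [GrpObj G] (a : AlgGrp.Action G X) (x : P ⟶ X)

theorem psi_snd : GIT.psi a x ≫ snd X P = snd G P := by
  unfold GIT.psi
  exact lift_snd _ _

theorem lift_psi {T : Over S} (g : T ⟶ G) (p : T ⟶ P) :
    lift g p ≫ GIT.psi a x = lift (lift g (p ≫ x) ≫ a.act) p := by
  unfold GIT.psi
  rw [comp_lift, lift_snd, lift_whiskerLeft_assoc]

/-- the first projection of the stabiliser, with clean source -/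
noncomputable def stabFst : GLinSh.stab a x ⟶ (G ⊗ P).left :=
  pullback.fst (GIT.psi a x).left (lift x (𝟙 P)).left

theorem stab_cond :
    stabFst a x ≫ (GIT.psi a x).left = GLinSh.stabTo a x ≫ (lift x (𝟙 P)).left :=
  pullback.condition

theorem stab_w : stabFst a x ≫ (G ⊗ P).hom = GLinSh.stabTo a x ≫ P.hom := by
  calc stabFst a x ≫ (G ⊗ P).hom
      = stabFst a x ≫ (GIT.psi a x).left ≫ (X ⊗ P).hom := by rw [Over.w (GIT.psi a x)]
    _ = (stabFst a x ≫ (GIT.psi a x).left) ≫ (X ⊗ P).hom := (Category.assoc _ _ _).symm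
    _ = (GLinSh.stabTo a x ≫ (lift x (𝟙 P)).left) ≫ (X ⊗ P).hom := by rw [stab_cond]
    _ = GLinSh.stabTo a x ≫ (lift x (𝟙 P)).left ≫ (X ⊗ P).hom := Category.assoc _ _ _
    _ = GLinSh.stabTo a x ≫ P.hom := by rw [Over.w (lift x (𝟙 P))]

/-- the stabiliser as an object over `S` -/
noncomputable def stabO : Over S := Over.mk (GLinSh.stabTo a x ≫ P.hom)

noncomputable def stabI : stabO a x ⟶ G ⊗ P := Over.homMk (stabFst a x) (stab_w a x)

noncomputable def stabP : stabO a x ⟶ P := Over.homMk (GLinSh.stabTo a x) rfl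

theorem stabI_psi : stabI a x ≫ GIT.psi a x = stabP a x ≫ lift x (𝟙 P) := by
  apply Over.OverMorphism.ext
  exact stab_cond a x

theorem stabI_snd : stabI a x ≫ snd G P = stabP a x := by
  calc stabI a x ≫ snd G P = stabI a x ≫ GIT.psi a x ≫ snd X P := by rw [psi_snd]
    _ = (stabI a x ≫ GIT.psi a x) ≫ snd X P := (Category.assoc _ _ _).symm
    _ = (stabP a x ≫ lift x (𝟙 P)) ≫ snd X P := by rw [stabI_psi]
    _ = stabP a x ≫ lift x (𝟙 P) ≫ snd X P := Category.assoc _ _ _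
    _ = stabP a x := by rw [lift_snd, Category.comp_id]

theorem comp_stabI {T : Over S} (s : T ⟶ stabO a x) :
    s ≫ stabI a x = lift (s ≫ stabI a x ≫ fst G P) (s ≫ stabP a x) := by
  apply CartesianMonoidalCategory.hom_ext
  · rw [lift_fst, Category.assoc]
  · rw [lift_snd, Category.assoc, stabI_snd]

theorem isPullback_stab :
    IsPullback (stabI a x) (stabP a x) (GIT.psi a x) (lift x (𝟙 P)) := by
  have hsch : IsPullback (stabFst a x) (GLinSh.stabTo a x) (GIT.psi a x).left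
      (lift x (𝟙 P)).left := IsPullback.of_hasPullback _ _
  exact IsPullback.of_map (Over.forget S) (stabI_psi a x) hsch

theorem stab_fixed {T : Over S} (s : T ⟶ stabO a x) (g : T ⟶ G) (p : T ⟶ P)
    (hs : s ≫ stabI a x = lift g p) : lift g (p ≫ x) ≫ a.act = p ≫ x := by
  have hp : s ≫ stabP a x = p := by
    calc s ≫ stabP a x = s ≫ stabI a x ≫ snd G P := by rw [stabI_snd]
      _ = (s ≫ stabI a x) ≫ snd G P := (Category.assoc _ _ _).symm
      _ = p := by rw [hs, lift_snd]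
  have h1 : lift g p ≫ GIT.psi a x = p ≫ lift x (𝟙 P) := by
    calc lift g p ≫ GIT.psi a x = (s ≫ stabI a x) ≫ GIT.psi a x := by rw [hs]
      _ = s ≫ stabI a x ≫ GIT.psi a x := Category.assoc _ _ _
      _ = s ≫ stabP a x ≫ lift x (𝟙 P) := by rw [stabI_psi]
      _ = (s ≫ stabP a x) ≫ lift x (𝟙 P) := (Category.assoc _ _ _).symm
      _ = p ≫ lift x (𝟙 P) := by rw [hp]
  have h3 : (lift g p ≫ GIT.psi a x) ≫ fst X P = (p ≫ lift x (𝟙 P)) ≫ fst X P := by rw [h1]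
  rw [lift_psi, lift_fst, Category.assoc, lift_fst] at h3
  exact h3

noncomputable def mkStab {T : Over S} (g : T ⟶ G) (p : T ⟶ P)
    (h : lift g (p ≫ x) ≫ a.act = p ≫ x) : T ⟶ stabO a x :=
  (isPullback_stab a x).lift (lift g p) p (by
    rw [lift_psi, h, comp_lift, Category.comp_id])

theorem mkStab_I {T : Over S} (g : T ⟶ G) (p : T ⟶ P)
    (h : lift g (p ≫ x) ≫ a.act = p ≫ x) : mkStab a x g p h ≫ stabI a x = lift g p :=
  (isPullback_stab a x).lift_fst _ _ _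

theorem mkStab_P {T : Over S} (g : T ⟶ G) (p : T ⟶ P)
    (h : lift g (p ≫ x) ≫ a.act = p ≫ x) : mkStab a x g p h ≫ stabP a x = p :=
  (isPullback_stab a x).lift_snd _ _ _

theorem stab_hom_ext {T : Over S} (s₁ s₂ : T ⟶ stabO a x)
    (h : s₁ ≫ stabI a x = s₂ ≫ stabI a x) : s₁ = s₂ := by
  refine (isPullback_stab a x).hom_ext h ?_
  calc s₁ ≫ stabP a x = (s₁ ≫ stabI a x) ≫ snd G P := by rw [Category.assoc, stabI_snd]
    _ = (s₂ ≫ stabI a x) ≫ snd G P := by rw [h]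
    _ = s₂ ≫ stabP a x := by rw [Category.assoc, stabI_snd]

theorem inv_fix {T : Over S} (g : T ⟶ G) (z : T ⟶ X) (h : lift g z ≫ a.act = z) :
    lift g⁻¹ z ≫ a.act = z := by
  calc lift g⁻¹ z ≫ a.act = lift g⁻¹ (lift g z ≫ a.act) ≫ a.act := by rw [h]
    _ = lift (g⁻¹ * g) z ≫ a.act := (AlgGrp.Action.lift_mul_act a g⁻¹ g z).symm
    _ = lift 1 z ≫ a.act := by rw [_root_.inv_mul_cancel]
    _ = z := AlgGrp.Action.lift_one_act a z

theorem lft_stabTo [LocallyOfFiniteType G.hom] : LocallyOfFiniteType (GLinSh.stabTo a x) := by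
  haveI h1 : LocallyOfFiniteType (snd G P).left :=
    show LocallyOfFiniteType (pullback.snd G.hom P.hom) from inferInstance
  have h2 : (GIT.psi a x).left ≫ (snd X P).left = (snd G P).left := by
    rw [← Over.comp_left, psi_snd]
  haveI h3 : LocallyOfFiniteType ((GIT.psi a x).left ≫ (snd X P).left) := by rw [h2]; exact h1
  haveI h4 : LocallyOfFiniteType (GIT.psi a x).left :=
    locallyOfFiniteType_of_comp _ (snd X P).left
  show LocallyOfFiniteType (pullback.snd (GIT.psi a x).left (lift x (𝟙 P)).left)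
  infer_instance

theorem prop_whiskerRight {A B : Over S} (f : A ⟶ B) (U : Over S)
    (Q : MorphismProperty Scheme.{u}) [Q.IsStableUnderBaseChange] (h : Q f.left) :
    Q (f ▷ U).left := by
  have sqf : IsPullback (f ▷ U).left (fst A U).left (fst B U).left f.left :=
    (TbD.isPullback_whiskerRight_fst f U).map (Over.forget S)
  exact MorphismProperty.of_isPullback (P := Q) sqf.flip h

end Stab

section Main

variable {S : Scheme.{u}} {G N H X Y P : Over S} [GrpObj G] [GrpObj N] [GrpObj H]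
  (iN : N ⟶ G) [IsMonHom iN] (q : G ⟶ H) [IsMonHom q] (hker : AlgGrp.IsKernel iN q)
  (a : AlgGrp.Action G X) (φ : X ⟶ Y)
  (hcart : IsPullback (a.restrict iN).act (snd N X) φ φ)
  (aY : AlgGrp.Action H Y) (hequiv : (q ⊗ₘ φ) ≫ aY.act = a.act ≫ φ)
  (x : P ⟶ X)

include hequiv in
theorem eqv {T : Over S} (g : T ⟶ G) (z : T ⟶ X) :
    lift (g ≫ q) (z ≫ φ) ≫ aY.act = (lift g z ≫ a.act) ≫ φ := by
  calc lift (g ≫ q) (z ≫ φ) ≫ aY.act = (lift g z ≫ (q ⊗ₘ φ)) ≫ aY.act := by rw [lift_map]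
    _ = lift g z ≫ (q ⊗ₘ φ) ≫ aY.act := Category.assoc _ _ _
    _ = lift g z ≫ a.act ≫ φ := by rw [hequiv]
    _ = (lift g z ≫ a.act) ≫ φ := (Category.assoc _ _ _).symm

include hequiv in
theorem theta_fix :
    lift ((stabI a x ≫ fst G P) ≫ q) (stabP a x ≫ x ≫ φ) ≫ aY.act = stabP a x ≫ x ≫ φ := by
  have h0 : lift (stabI a x ≫ fst G P) (stabP a x ≫ x) ≫ a.act = stabP a x ≫ x :=
    stab_fixed a x (𝟙 _) (stabI a x ≫ fst G P) (stabP a x) (by
      rw [Category.id_comp]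
      apply CartesianMonoidalCategory.hom_ext
      · rw [lift_fst]
      · rw [lift_snd, stabI_snd])
  calc lift ((stabI a x ≫ fst G P) ≫ q) (stabP a x ≫ x ≫ φ) ≫ aY.act
      = lift ((stabI a x ≫ fst G P) ≫ q) ((stabP a x ≫ x) ≫ φ) ≫ aY.act := by
        rw [Category.assoc (stabP a x) x φ]
    _ = (lift (stabI a x ≫ fst G P) (stabP a x ≫ x) ≫ a.act) ≫ φ := eqv q a φ aY hequiv _ _
    _ = (stabP a x ≫ x) ≫ φ := by rw [h0]
    _ = stabP a x ≫ x ≫ φ := Category.assoc _ _ _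

/-- the map from the stabiliser of `x` to the stabiliser of its image -/
noncomputable def theta : stabO a x ⟶ stabO aY (x ≫ φ) :=
  mkStab aY (x ≫ φ) ((stabI a x ≫ fst G P) ≫ q) (stabP a x) (theta_fix q a φ aY hequiv x)

theorem theta_I : theta q a φ aY hequiv x ≫ stabI aY (x ≫ φ) =
    lift ((stabI a x ≫ fst G P) ≫ q) (stabP a x) := by
  unfold theta
  exact mkStab_I aY (x ≫ φ) _ _ _

theorem theta_P : theta q a φ aY hequiv x ≫ stabP aY (x ≫ φ) = stabP a x := by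
  unfold theta
  exact mkStab_P aY (x ≫ φ) _ _ _

include hker hcart in
theorem ker_fix {T : Over S} (d : T ⟶ G) (z : T ⟶ X) (hd : d ≫ q = 1)
    (hz : lift d z ≫ a.act = z) : d = 1 := by
  have hk : IsPullback iN (toUnit N) q η[H] := hker
  have hd' : d ≫ q = toUnit T ≫ η[H] := by rw [hd, Hom.one_def]
  obtain ⟨n, hn⟩ : ∃ n : T ⟶ N, n ≫ iN = d := ⟨hk.lift d (toUnit T) hd', hk.lift_fst _ _ _⟩
  have h1 : lift n z ≫ (a.restrict iN).act = z := by
    rw [AlgGrp.Action.lift_restrict_act, hn, hz]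
  have h2 : n = 1 :=
    (AbA.dv_unique (a.restrict iN) φ hcart z z rfl n h1).trans
      (AbA.dv_self (a.restrict iN) φ hcart z)
  rw [← hn, h2, MonObj.one_comp]

include hker hcart in
theorem two_fix {T : Over S} (g₁ g₂ : T ⟶ G) (z : T ⟶ X) (h₁ : lift g₁ z ≫ a.act = z)
    (h₂ : lift g₂ z ≫ a.act = z) (hq : g₁ ≫ q = g₂ ≫ q) : g₁ = g₂ := by
  have hd : (g₁⁻¹ * g₂) ≫ q = 1 := by
    rw [MonObj.mul_comp, GrpObj.inv_comp, hq, _root_.inv_mul_cancel]
  have hz : lift (g₁⁻¹ * g₂) z ≫ a.act = z := by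
    rw [AlgGrp.Action.lift_mul_act, h₂, inv_fix a g₁ z h₁]
  have h3 := ker_fix iN q hker a φ hcart (g₁⁻¹ * g₂) z hd hz
  exact _root_.inv_mul_eq_one.mp h3

include hker hcart in
theorem mono_theta {T : Over S} (s₁ s₂ : T ⟶ stabO a x)
    (h : s₁ ≫ theta q a φ aY hequiv x = s₂ ≫ theta q a φ aY hequiv x) : s₁ = s₂ := by
  have hP : s₁ ≫ stabP a x = s₂ ≫ stabP a x := by
    calc s₁ ≫ stabP a x = s₁ ≫ theta q a φ aY hequiv x ≫ stabP aY (x ≫ φ) := by rw [theta_P]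
      _ = (s₁ ≫ theta q a φ aY hequiv x) ≫ stabP aY (x ≫ φ) := (Category.assoc _ _ _).symm
      _ = (s₂ ≫ theta q a φ aY hequiv x) ≫ stabP aY (x ≫ φ) := by rw [h]
      _ = s₂ ≫ theta q a φ aY hequiv x ≫ stabP aY (x ≫ φ) := Category.assoc _ _ _
      _ = s₂ ≫ stabP a x := by rw [theta_P]
  have t : ∀ s : T ⟶ stabO a x, (s ≫ stabI a x ≫ fst G P) ≫ q =
      (s ≫ theta q a φ aY hequiv x) ≫ stabI aY (x ≫ φ) ≫ fst H P := by
    intro s
    calc (s ≫ stabI a x ≫ fst G P) ≫ q = s ≫ (stabI a x ≫ fst G P) ≫ q := Category.assoc _ _ _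
      _ = s ≫ lift ((stabI a x ≫ fst G P) ≫ q) (stabP a x) ≫ fst H P := by rw [lift_fst]
      _ = s ≫ (theta q a φ aY hequiv x ≫ stabI aY (x ≫ φ)) ≫ fst H P := by rw [theta_I]
      _ = s ≫ theta q a φ aY hequiv x ≫ stabI aY (x ≫ φ) ≫ fst H P := by
          rw [Category.assoc (theta q a φ aY hequiv x)]
      _ = (s ≫ theta q a φ aY hequiv x) ≫ stabI aY (x ≫ φ) ≫ fst H P :=
          (Category.assoc _ _ _).symm
  have hq : (s₁ ≫ stabI a x ≫ fst G P) ≫ q = (s₂ ≫ stabI a x ≫ fst G P) ≫ q := by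
    rw [t s₁, t s₂, h]
  have hz₁ : lift (s₁ ≫ stabI a x ≫ fst G P) ((s₁ ≫ stabP a x) ≫ x) ≫ a.act =
      (s₁ ≫ stabP a x) ≫ x := stab_fixed a x s₁ _ _ (comp_stabI a x s₁)
  have hz₂ : lift (s₂ ≫ stabI a x ≫ fst G P) ((s₂ ≫ stabP a x) ≫ x) ≫ a.act =
      (s₂ ≫ stabP a x) ≫ x := stab_fixed a x s₂ _ _ (comp_stabI a x s₂)
  rw [← hP] at hz₂
  have hg : s₁ ≫ stabI a x ≫ fst G P = s₂ ≫ stabI a x ≫ fst G P :=
    two_fix iN q hker a φ hcart _ _ ((s₁ ≫ stabP a x) ≫ x) hz₁ hz₂ hq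
  apply stab_hom_ext a x
  calc s₁ ≫ stabI a x = lift (s₁ ≫ stabI a x ≫ fst G P) (s₁ ≫ stabP a x) := comp_stabI a x s₁
    _ = lift (s₂ ≫ stabI a x ≫ fst G P) (s₂ ≫ stabP a x) := by rw [hg, hP]
    _ = s₂ ≫ stabI a x := (comp_stabI a x s₂).symm

include hker hcart in
theorem lift_section {T : Over S} (t : T ⟶ stabO aY (x ≫ φ)) (g' : T ⟶ G) (p : T ⟶ P)
    (ht : t ≫ stabI aY (x ≫ φ) = lift (g' ≫ q) p) :
    ∃ r : T ⟶ stabO a x, r ≫ theta q a φ aY hequiv x = t := by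
  have hk : IsPullback iN (toUnit N) q η[H] := hker
  have hfix : lift (g' ≫ q) (p ≫ x ≫ φ) ≫ aY.act = p ≫ x ≫ φ :=
    stab_fixed aY (x ≫ φ) t (g' ≫ q) p ht
  obtain ⟨w, hw⟩ : ∃ w, w = lift g' (p ≫ x) ≫ a.act := ⟨_, rfl⟩
  have hzw : (p ≫ x) ≫ φ = w ≫ φ := by
    calc (p ≫ x) ≫ φ = p ≫ x ≫ φ := Category.assoc _ _ _
      _ = lift (g' ≫ q) (p ≫ x ≫ φ) ≫ aY.act := hfix.symm
      _ = lift (g' ≫ q) ((p ≫ x) ≫ φ) ≫ aY.act := by rw [Category.assoc p x φ]
      _ = (lift g' (p ≫ x) ≫ a.act) ≫ φ := eqv q a φ aY hequiv g' (p ≫ x)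
      _ = w ≫ φ := by rw [hw]
  obtain ⟨n, hn⟩ : ∃ n : T ⟶ N, lift (n ≫ iN) w ≫ a.act = p ≫ x := by
    refine ⟨AbA.dv (a.restrict iN) φ hcart (p ≫ x) w hzw, ?_⟩
    have h0 := AbA.dv_act (a.restrict iN) φ hcart (p ≫ x) w hzw
    rw [AlgGrp.Action.lift_restrict_act] at h0
    exact h0
  have hg'' : lift ((n ≫ iN) * g') (p ≫ x) ≫ a.act = p ≫ x := by
    rw [AlgGrp.Action.lift_mul_act, ← hw, hn]
  have hnq : (n ≫ iN) ≫ q = 1 := by
    calc (n ≫ iN) ≫ q = n ≫ iN ≫ q := Category.assoc _ _ _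
      _ = n ≫ toUnit N ≫ η[H] := by rw [hk.w]
      _ = n ≫ (1 : N ⟶ H) := by rw [Hom.one_def]
      _ = 1 := MonObj.comp_one n
  obtain ⟨r, hr, hrP⟩ : ∃ r : T ⟶ stabO a x, r ≫ stabI a x = lift ((n ≫ iN) * g') p ∧
      r ≫ stabP a x = p :=
    ⟨mkStab a x ((n ≫ iN) * g') p hg'', mkStab_I a x _ _ _, mkStab_P a x _ _ _⟩
  refine ⟨r, ?_⟩
  apply stab_hom_ext aY (x ≫ φ)
  calc (r ≫ theta q a φ aY hequiv x) ≫ stabI aY (x ≫ φ)
      = r ≫ theta q a φ aY hequiv x ≫ stabI aY (x ≫ φ) := Category.assoc _ _ _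
    _ = r ≫ lift ((stabI a x ≫ fst G P) ≫ q) (stabP a x) := by rw [theta_I]
    _ = lift (r ≫ (stabI a x ≫ fst G P) ≫ q) (r ≫ stabP a x) := comp_lift _ _ _
    _ = lift (((r ≫ stabI a x) ≫ fst G P) ≫ q) (r ≫ stabP a x) := by
        rw [Category.assoc r (stabI a x) (fst G P), Category.assoc r (stabI a x ≫ fst G P) q]
    _ = lift (((n ≫ iN) * g') ≫ q) p := by rw [hr, hrP, lift_fst]
    _ = lift (g' ≫ q) p := by rw [MonObj.mul_comp, hnq, _root_.one_mul]
    _ = t ≫ stabI aY (x ≫ φ) := ht.symm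

include hker hcart in
theorem surjective_theta [Surjective q.left] :
    Surjective (theta q a φ aY hequiv x).left := by
  obtain ⟨G', π₁, π₂, sq⟩ : ∃ (G' : Over S) (π₁ : G' ⟶ stabO aY (x ≫ φ)) (π₂ : G' ⟶ G ⊗ P),
      IsPullback π₁ π₂ (stabI aY (x ≫ φ)) (q ▷ P) :=
    ⟨_, _, _, IsPullback.of_hasPullback _ _⟩
  have ht : π₁ ≫ stabI aY (x ≫ φ) = lift ((π₂ ≫ fst G P) ≫ q) (π₂ ≫ snd G P) := by
    apply CartesianMonoidalCategory.hom_ext
    · rw [lift_fst, sq.w, Category.assoc, whiskerRight_fst, Category.assoc]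
    · rw [lift_snd, sq.w, Category.assoc, whiskerRight_snd]
  obtain ⟨r, hr⟩ := lift_section iN q hker a φ hcart aY hequiv x π₁ _ _ ht
  have hs1 : Surjective π₁.left := by
    have sq' : IsPullback π₂.left π₁.left (q ▷ P).left (stabI aY (x ≫ φ)).left :=
      (sq.flip).map (Over.forget S)
    exact MorphismProperty.of_isPullback (P := @Surjective) sq'
      (prop_whiskerRight q P @Surjective (show Surjective q.left from inferInstance))
  have e : r.left ≫ (theta q a φ aY hequiv x).left = π₁.left := by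
    rw [← Over.comp_left, hr]
  haveI : Surjective (r.left ≫ (theta q a φ aY hequiv x).left) := by rw [e]; exact hs1
  exact Surjective.of_comp r.left _

include hker hcart hequiv in
theorem finite_iff {Ω : Type u} [Field Ω] (e : P.left ≅ Spec (CommRingCat.of Ω))
    [LocallyOfFiniteType G.hom] [LocallyOfFiniteType H.hom] [Surjective q.left] :
    IsFinite (GLinSh.stabTo a x) ↔ IsFinite (GLinSh.stabTo aY (x ≫ φ)) := by
  haveI := subsingleton_of_iso e
  haveI := lft_stabTo a x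
  haveI := lft_stabTo aY (x ≫ φ)
  constructor
  · intro h
    haveI := h
    have h1' : Finite ↥(GLinSh.stab a x) := finite_of_isFinite (GLinSh.stabTo a x)
    haveI h1 : Finite ↥(stabO a x).left := h1'
    haveI : Surjective (theta q a φ aY hequiv x).left :=
      surjective_theta iN q hker a φ hcart aY hequiv x
    haveI h2 : Finite ↥(GLinSh.stab aY (x ≫ φ)) :=
      Finite.of_surjective _ (theta q a φ aY hequiv x).left.surjective
    exact isFinite_of_finite (GLinSh.stabTo aY (x ≫ φ)) e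
  · intro h
    haveI := h
    have h1' : Finite ↥(GLinSh.stab aY (x ≫ φ)) :=
      finite_of_isFinite (GLinSh.stabTo aY (x ≫ φ))
    haveI h1 : Finite ↥(stabO aY (x ≫ φ)).left := h1'
    haveI : Mono (theta q a φ aY hequiv x) :=
      ⟨fun s₁ s₂ h => mono_theta iN q hker a φ hcart aY hequiv x s₁ s₂ h⟩
    haveI : Mono (theta q a φ aY hequiv x).left := Over.mono_left_of_mono _
    haveI h2 : Finite ↥(GLinSh.stab a x) :=
      Finite.of_injective _ (theta q a φ aY hequiv x).left.injective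
    exact isFinite_of_finite (GLinSh.stabTo a x) e

include hequiv in
theorem psi_equivariant : GIT.psi a x ≫ (φ ▷ P) = (q ▷ P) ≫ GIT.psi aY (x ≫ φ) := by
  apply AlgGrp.Action.hom_ext_lift₂
  intro T g p
  calc lift g p ≫ GIT.psi a x ≫ (φ ▷ P)
      = (lift g p ≫ GIT.psi a x) ≫ (φ ▷ P) := (Category.assoc _ _ _).symm
    _ = lift (lift g (p ≫ x) ≫ a.act) p ≫ (φ ▷ P) := by rw [lift_psi]
    _ = lift ((lift g (p ≫ x) ≫ a.act) ≫ φ) p := by rw [lift_whiskerRight]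
    _ = lift (lift (g ≫ q) ((p ≫ x) ≫ φ) ≫ aY.act) p := by rw [eqv q a φ aY hequiv]
    _ = lift (lift (g ≫ q) (p ≫ x ≫ φ) ≫ aY.act) p := by rw [Category.assoc p x φ]
    _ = lift (g ≫ q) p ≫ GIT.psi aY (x ≫ φ) := (lift_psi aY (x ≫ φ) (g ≫ q) p).symm
    _ = (lift g p ≫ (q ▷ P)) ≫ GIT.psi aY (x ≫ φ) := by rw [lift_whiskerRight]
    _ = lift g p ≫ (q ▷ P) ≫ GIT.psi aY (x ≫ φ) := Category.assoc _ _ _

include hcart hequiv in
theorem orbit_lift {T : Over S} (u : T ⟶ X ⊗ P) (hh : T ⟶ H ⊗ P) (g : T ⟶ G)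
    (hu : u ≫ (φ ▷ P) = hh ≫ GIT.psi aY (x ≫ φ)) (hg : hh ≫ fst H P = g ≫ q) :
    ∃ ρ : T ⟶ G ⊗ P, ρ ≫ GIT.psi a x = u := by
  obtain ⟨p, hp⟩ : ∃ p, p = u ≫ snd X P := ⟨_, rfl⟩
  obtain ⟨uX, huX⟩ : ∃ uX, uX = u ≫ fst X P := ⟨_, rfl⟩
  have hs : hh ≫ snd H P = p := by
    calc hh ≫ snd H P = hh ≫ GIT.psi aY (x ≫ φ) ≫ snd Y P := by rw [psi_snd]
      _ = (hh ≫ GIT.psi aY (x ≫ φ)) ≫ snd Y P := (Category.assoc _ _ _).symm
      _ = (u ≫ (φ ▷ P)) ≫ snd Y P := by rw [hu]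
      _ = u ≫ (φ ▷ P) ≫ snd Y P := Category.assoc _ _ _
      _ = u ≫ snd X P := by rw [whiskerRight_snd]
      _ = p := hp.symm
  have hh' : hh = lift (g ≫ q) p := by
    apply CartesianMonoidalCategory.hom_ext
    · rw [lift_fst, hg]
    · rw [lift_snd, hs]
  have h1 : uX ≫ φ = lift (g ≫ q) (p ≫ x ≫ φ) ≫ aY.act := by
    calc uX ≫ φ = (u ≫ fst X P) ≫ φ := by rw [huX]
      _ = u ≫ fst X P ≫ φ := Category.assoc _ _ _
      _ = u ≫ (φ ▷ P) ≫ fst Y P := by rw [whiskerRight_fst]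
      _ = (u ≫ (φ ▷ P)) ≫ fst Y P := (Category.assoc _ _ _).symm
      _ = (lift (g ≫ q) p ≫ GIT.psi aY (x ≫ φ)) ≫ fst Y P := by rw [hu, hh']
      _ = lift (lift (g ≫ q) (p ≫ x ≫ φ) ≫ aY.act) p ≫ fst Y P := by rw [lift_psi]
      _ = lift (g ≫ q) (p ≫ x ≫ φ) ≫ aY.act := lift_fst _ _
  obtain ⟨zX, hzX⟩ : ∃ zX, zX = lift g (p ≫ x) ≫ a.act := ⟨_, rfl⟩
  have h2 : uX ≫ φ = zX ≫ φ := by
    calc uX ≫ φ = lift (g ≫ q) (p ≫ x ≫ φ) ≫ aY.act := h1
      _ = lift (g ≫ q) ((p ≫ x) ≫ φ) ≫ aY.act := by rw [Category.assoc p x φ]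
      _ = (lift g (p ≫ x) ≫ a.act) ≫ φ := eqv q a φ aY hequiv g (p ≫ x)
      _ = zX ≫ φ := by rw [hzX]
  obtain ⟨n, hn⟩ : ∃ n : T ⟶ N, lift (n ≫ iN) zX ≫ a.act = uX := by
    refine ⟨AbA.dv (a.restrict iN) φ hcart uX zX h2, ?_⟩
    have h0 := AbA.dv_act (a.restrict iN) φ hcart uX zX h2
    rw [AlgGrp.Action.lift_restrict_act] at h0
    exact h0
  refine ⟨lift ((n ≫ iN) * g) p, ?_⟩
  rw [lift_psi, AlgGrp.Action.lift_mul_act, ← hzX, hn]
  apply CartesianMonoidalCategory.hom_ext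
  · rw [lift_fst, huX]
  · rw [lift_snd, hp]

include hcart hequiv in
theorem range_psi [Surjective q.left] :
    Set.range (GIT.psi a x).left =
      (φ ▷ P).left ⁻¹' Set.range (GIT.psi aY (x ≫ φ)).left := by
  have hE : (GIT.psi a x).left ≫ (φ ▷ P).left =
      (q ▷ P).left ≫ (GIT.psi aY (x ≫ φ)).left := by
    rw [← Over.comp_left, ← Over.comp_left, psi_equivariant q a φ aY hequiv x]
  apply Set.Subset.antisymm
  · rintro _ ⟨v, rfl⟩
    refine ⟨(q ▷ P).left v, ?_⟩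
    calc (GIT.psi aY (x ≫ φ)).left ((q ▷ P).left v)
        = ((q ▷ P).left ≫ (GIT.psi aY (x ≫ φ)).left) v := (Scheme.Hom.comp_apply _ _ _).symm
      _ = ((GIT.psi a x).left ≫ (φ ▷ P).left) v := by rw [hE]
      _ = (φ ▷ P).left ((GIT.psi a x).left v) := Scheme.Hom.comp_apply _ _ _
  · rintro u ⟨h, hh⟩
    obtain ⟨W, w₁, w₂, sqW⟩ : ∃ (W : Over S) (w₁ : W ⟶ X ⊗ P) (w₂ : W ⟶ H ⊗ P),
        IsPullback w₁ w₂ (φ ▷ P) (GIT.psi aY (x ≫ φ)) :=
      ⟨_, _, _, IsPullback.of_hasPullback _ _⟩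
    obtain ⟨W', v₁, v₂, sqW'⟩ : ∃ (W' : Over S) (v₁ : W' ⟶ W) (v₂ : W' ⟶ G ⊗ P),
        IsPullback v₁ v₂ w₂ (q ▷ P) := ⟨_, _, _, IsPullback.of_hasPullback _ _⟩
    have sqWL : IsPullback w₁.left w₂.left (φ ▷ P).left (GIT.psi aY (x ≫ φ)).left :=
      sqW.map (Over.forget S)
    have sqW'L : IsPullback v₂.left v₁.left (q ▷ P).left w₂.left :=
      sqW'.flip.map (Over.forget S)
    haveI : Surjective v₁.left := MorphismProperty.of_isPullback (P := @Surjective) sqW'L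
      (prop_whiskerRight q P @Surjective (show Surjective q.left from inferInstance))
    have hu : u ∈ Set.range w₁.left := by
      rw [HlA.range_fst_of_isPullback sqWL]
      exact ⟨h, hh⟩
    obtain ⟨z', hz'⟩ := hu
    obtain ⟨z'', hz''⟩ := v₁.left.surjective z'
    have hu' : (v₁ ≫ w₁) ≫ (φ ▷ P) = (v₁ ≫ w₂) ≫ GIT.psi aY (x ≫ φ) := by
      calc (v₁ ≫ w₁) ≫ (φ ▷ P) = v₁ ≫ w₁ ≫ (φ ▷ P) := Category.assoc _ _ _
        _ = v₁ ≫ w₂ ≫ GIT.psi aY (x ≫ φ) := by rw [sqW.w]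
        _ = (v₁ ≫ w₂) ≫ GIT.psi aY (x ≫ φ) := (Category.assoc _ _ _).symm
    have hg' : (v₁ ≫ w₂) ≫ fst H P = (v₂ ≫ fst G P) ≫ q := by
      calc (v₁ ≫ w₂) ≫ fst H P = (v₂ ≫ (q ▷ P)) ≫ fst H P := by rw [sqW'.w]
        _ = v₂ ≫ (q ▷ P) ≫ fst H P := Category.assoc _ _ _
        _ = v₂ ≫ fst G P ≫ q := by rw [whiskerRight_fst]
        _ = (v₂ ≫ fst G P) ≫ q := (Category.assoc _ _ _).symm
    obtain ⟨ρ, hρ⟩ := orbit_lift iN q a φ hcart aY hequiv x (v₁ ≫ w₁) (v₁ ≫ w₂)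
      (v₂ ≫ fst G P) hu' hg'
    have e1 : ρ.left ≫ (GIT.psi a x).left = v₁.left ≫ w₁.left := by
      rw [← Over.comp_left, hρ, Over.comp_left]
    refine ⟨ρ.left z'', ?_⟩
    calc (GIT.psi a x).left (ρ.left z'')
        = (ρ.left ≫ (GIT.psi a x).left) z'' := (Scheme.Hom.comp_apply _ _ _).symm
      _ = (v₁.left ≫ w₁.left) z'' := by rw [e1]
      _ = w₁.left (v₁.left z'') := Scheme.Hom.comp_apply _ _ _
      _ = u := by rw [hz'', hz']

include hcart hequiv in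
theorem closed_iff [Surjective q.left] [Flat (φ ▷ P).left] [Surjective (φ ▷ P).left]
    [QuasiCompact (φ ▷ P).left] :
    IsClosed (Set.range (GIT.psi a x).left.base) ↔
      IsClosed (Set.range (GIT.psi aY (x ≫ φ)).left.base) := by
  have hq : Topology.IsQuotientMap (φ ▷ P).left :=
    Flat.isQuotientMap_of_surjective (φ ▷ P).left
  have hr := range_psi iN q a φ hcart aY hequiv x
  change IsClosed (Set.range (GIT.psi a x).left) ↔
    IsClosed (Set.range (GIT.psi aY (x ≫ φ)).left)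
  rw [hr]
  exact hq.isClosed_preimage

end Main

theorem main (k : Type u) [Field k]
    (G N H X Y : Over (Spec (CommRingCat.of k))) [GrpObj G] [GrpObj N] [GrpObj H]
    [IsAffine G.left] [LocallyOfFiniteType G.hom]
    (iN : N ⟶ G) [IsMonHom iN] [IsClosedImmersion iN.left]
    (q : G ⟶ H) [IsMonHom q] [Surjective q.left] [LocallyOfFiniteType H.hom]
    (hker : AlgGrp.IsKernel iN q)
    (a : AlgGrp.Action G X) (φ : X ⟶ Y)
    (hcart : IsPullback (a.restrict iN).act (snd N X) φ φ)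
    (hloc : NonAbH1.IsLocallyTrivialFor Scheme.fpqcPrecoverage (Over.mk φ.left : Over Y.left))
    (aY : AlgGrp.Action H Y) (hequiv : (q ⊗ₘ φ) ≫ aY.act = a.act ≫ φ)
    (Ω : Type u) [Field Ω] (P : Over (Spec (CommRingCat.of k)))
    (e : P.left ≅ Spec (CommRingCat.of Ω)) (x : P ⟶ X) :
    (IsClosed (Set.range (GIT.psi a x).left.base) ∧ IsFinite (GLinSh.stabTo a x)) ↔
      (IsClosed (Set.range (GIT.psi aY (x ≫ φ)).left.base) ∧
        IsFinite (GLinSh.stabTo aY (x ≫ φ))) := by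
  haveI : Flat N.hom := AbB.flat_over_field k N.hom
  haveI : Surjective N.hom := FtA.surjective_grp N
  haveI : IsAffine N.left := isAffine_of_isAffineHom iN.left
  haveI : IsAffineHom N.hom := AbB.isAffineHom_over_affine (CommRingCat.of k) N.hom
  haveI : Flat φ.left := AbB.flat_of_torsor (a.restrict iN) φ hcart hloc
  haveI : Surjective φ.left := AbB.surj_of_torsor (a.restrict iN) φ hcart hloc
  haveI : QuasiCompact φ.left := AbB.qc_of_torsor (a.restrict iN) φ hcart hloc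
  haveI : Flat (φ ▷ P).left :=
    prop_whiskerRight φ P @Flat (show Flat φ.left from inferInstance)
  haveI : Surjective (φ ▷ P).left :=
    prop_whiskerRight φ P @Surjective (show Surjective φ.left from inferInstance)
  haveI : QuasiCompact (φ ▷ P).left :=
    prop_whiskerRight φ P @QuasiCompact (show QuasiCompact φ.left from inferInstance)
  exact and_congr (closed_iff iN q a φ hcart aY hequiv x)
    (finite_iff iN q hker a φ hcart aY hequiv x e)

end Groth.Agent.H4.OsA
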